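import Cfsg.Agent.Lib.Helper28.S1692.Seeds36

set_option autoImplicit false
set_option maxRecDepth 100000
set_option linter.all false

namespace Cfsg.Agent.Helper28.S1692

open Cfsg.Agent.Helper28
open Cfsg.Spor.ON (Gen)

noncomputable section

namespace K37
abbrev LD1_c0 := D1.c0
abbrev LD1_c1 := D1.c1
abbrev LD1_c2 := D1.c2
abbrev LD1_c3 := D1.c3
abbrev LD1_c4 := D1.c4
abbrev LD1_c5 := D1.c5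
abbrev LD1_c6 := D1.c6
abbrev LD1_c7 := D1.c7
abbrev LD1_c8 := D1.c8
abbrev LD1_c9 := D1.c9
abbrev LD1_c10 := D1.c10
abbrev LD1_c11 := D1.c11
abbrev LD1_c12 := D1.c12
abbrev LD1_c13 := D1.c13
abbrev LD1_c14 := D1.c14
abbrev LD1_c15 := D1.c15
abbrev LD1_c16 := D1.c16
abbrev LD1_c17 := D1.c17
abbrev LD1_c18 := D1.c18
abbrev LD1_c19 := D1.c19
abbrev LD1_c20 := D1.c20
abbrev LD1_c21 := D1.c21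
abbrev LD1_c22 := D1.c22
abbrev LD1_c23 := D1.c23
abbrev LD1_c24 := D1.c24
abbrev LD1_c25 := D1.c25
abbrev LD1_c26 := D1.c26
abbrev LD1_c27 := D1.c27
abbrev LD1_c28 := D1.c28
abbrev LD1_c29 := D1.c29
abbrev LD1_c30 := D1.c30
abbrev LD1_c31 := D1.c31
abbrev LD1_c32 := D1.c32
abbrev LD2_c0 := D2.c0
abbrev LD2_c1 := D2.c1
abbrev LD2_c2 := D2.c2
abbrev LD2_c3 := D2.c3
abbrev LD2_c4 := D2.c4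
abbrev LD2_c5 := D2.c5
abbrev LD2_c6 := D2.c6
abbrev LD2_c7 := D2.c7
abbrev LD2_c8 := D2.c8
abbrev LD2_c9 := D2.c9
abbrev LD2_c10 := D2.c10
abbrev LD2_c11 := D2.c11
abbrev LD2_c12 := D2.c12
abbrev LD2_c13 := D2.c13
abbrev LD2_c14 := D2.c14
abbrev LD2_c15 := D2.c15
abbrev LD2_c16 := D2.c16
abbrev LD2_c17 := D2.c17
abbrev LD2_c18 := D2.c18
abbrev LD2_c19 := D2.c19
abbrev LD2_c20 := D2.c20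
abbrev LD2_c21 := D2.c21
abbrev LD2_c22 := D2.c22
abbrev LD2_c23 := D2.c23
abbrev LD2_c24 := D2.c24
abbrev LD2_c25 := D2.c25
abbrev LD2_c26 := D2.c26
abbrev LD2_c27 := D2.c27
abbrev LD2_c28 := D2.c28
abbrev LD2_c29 := D2.c29
abbrev LD2_c30 := D2.c30
abbrev LD2_c31 := D2.c31
abbrev LD2_c32 := D2.c32
abbrev LD2_c33 := D2.c33
abbrev LD2_c34 := D2.c34
abbrev LD2_c35 := D2.c35
abbrev LD2_c36 := D2.c36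
abbrev LD2_c37 := D2.c37
abbrev LD2_c38 := D2.c38
abbrev LD2_c39 := D2.c39
abbrev LD2_c40 := D2.c40
abbrev LD2_c41 := D2.c41
abbrev LD2_c42 := D2.c42
abbrev LD2_c43 := D2.c43
abbrev LD2_c44 := D2.c44
abbrev LD2_c45 := D2.c45
abbrev LD2_c46 := D2.c46
abbrev LD2_c47 := D2.c47
abbrev LD2_c48 := D2.c48
abbrev LD2_c49 := D2.c49
abbrev LD2_c50 := D2.c50
abbrev LD2_c51 := D2.c51
abbrev LD2_c52 := D2.c52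
abbrev LD2_c53 := D2.c53
abbrev LD2_c54 := D2.c54
abbrev LD2_c55 := D2.c55
abbrev LD2_c56 := D2.c56
abbrev LD2_c57 := D2.c57
abbrev LD2_c58 := D2.c58
abbrev LD2_c59 := D2.c59
abbrev LD3_c0 := D3.c0
abbrev LD3_c1 := D3.c1
abbrev LD3_c2 := D3.c2
abbrev LD3_c3 := D3.c3
abbrev LD3_c4 := D3.c4
abbrev LD3_c5 := D3.c5
abbrev LD3_c6 := D3.c6
abbrev LD3_c7 := D3.c7
abbrev LD3_c8 := D3.c8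
abbrev LD3_c9 := D3.c9
abbrev LD3_c10 := D3.c10
abbrev LD3_c11 := D3.c11
abbrev LD3_c12 := D3.c12
abbrev LD3_c13 := D3.c13
abbrev LD3_c14 := D3.c14
abbrev LD3_c15 := D3.c15
abbrev LD3_c16 := D3.c16
abbrev LD3_c17 := D3.c17
abbrev LD3_c18 := D3.c18
abbrev LD3_c19 := D3.c19
abbrev LD3_c20 := D3.c20
abbrev LD3_c21 := D3.c21
abbrev LD3_c22 := D3.c22
abbrev LD3_c23 := D3.c23
abbrev LD3_c24 := D3.c24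
abbrev LD3_c25 := D3.c25
abbrev LD3_c26 := D3.c26
abbrev LD3_c27 := D3.c27
abbrev LD3_c28 := D3.c28
abbrev LD3_c29 := D3.c29
abbrev LD3_c30 := D3.c30
abbrev LD3_c31 := D3.c31
abbrev LD3_c32 := D3.c32
abbrev LD3_c33 := D3.c33
abbrev LD3_c34 := D3.c34
abbrev LD3_c35 := D3.c35
abbrev LD3_c36 := D3.c36
abbrev LD3_c37 := D3.c37
abbrev LD3_c38 := D3.c38
abbrev LD3_c39 := D3.c39
abbrev LD3_c40 := D3.c40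
abbrev LD3_c41 := D3.c41
abbrev LD3_c42 := D3.c42
abbrev LD3_c43 := D3.c43
abbrev LD3_c44 := D3.c44
abbrev LD3_c45 := D3.c45
abbrev LD3_c46 := D3.c46
abbrev LD3_c47 := D3.c47
abbrev LD3_c48 := D3.c48
abbrev LD3_c49 := D3.c49
abbrev LD3_c50 := D3.c50
abbrev LD3_c51 := D3.c51
abbrev LD3_c52 := D3.c52
abbrev LD3_c53 := D3.c53
abbrev LD3_c54 := D3.c54
abbrev LD3_c55 := D3.c55
abbrev LD3_c56 := D3.c56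
abbrev LD3_c57 := D3.c57
abbrev LD3_c58 := D3.c58
abbrev LD3_c59 := D3.c59
abbrev LD3_c60 := D3.c60
abbrev LD3_c61 := D3.c61
abbrev LG_g := Gen.g
abbrev Lsl_gt : Gen × Bool := sl_gt
alias Lfl_gt := fl_gt
alias Lpr_gt := pr_gt
abbrev Lsl_gf : Gen × Bool := sl_gf
alias Lfl_gf := fl_gf
alias Lpr_gf := pr_gf
alias Lre_g := re_g
alias Leoe_g := eoe_g
abbrev LG_a := Gen.a
abbrev Lsl_at : Gen × Bool := sl_at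
alias Lfl_at := fl_at
alias Lpr_at := pr_at
abbrev Lsl_af : Gen × Bool := sl_af
alias Lfl_af := fl_af
alias Lpr_af := pr_af
alias Lre_a := re_a
alias Leoe_a := eoe_a
abbrev LG_b := Gen.b
abbrev Lsl_bt : Gen × Bool := sl_bt
alias Lfl_bt := fl_bt
alias Lpr_bt := pr_bt
abbrev Lsl_bf : Gen × Bool := sl_bf
alias Lfl_bf := fl_bf
alias Lpr_bf := pr_bf
alias Lre_b := re_b
alias Leoe_b := eoe_b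
abbrev LG_c := Gen.c
abbrev Lsl_ct : Gen × Bool := sl_ct
alias Lfl_ct := fl_ct
alias Lpr_ct := pr_ct
abbrev Lsl_cf : Gen × Bool := sl_cf
alias Lfl_cf := fl_cf
alias Lpr_cf := pr_cf
alias Lre_c := re_c
alias Leoe_c := eoe_c
abbrev LG_d := Gen.d
abbrev Lsl_dt : Gen × Bool := sl_dt
alias Lfl_dt := fl_dt
alias Lpr_dt := pr_dt
abbrev Lsl_df : Gen × Bool := sl_df
alias Lfl_df := fl_df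
alias Lpr_df := pr_df
alias Lre_d := re_d
alias Leoe_d := eoe_d
abbrev LG_e := Gen.e
abbrev Lsl_et : Gen × Bool := sl_et
alias Lfl_et := fl_et
alias Lpr_et := pr_et
abbrev Lsl_ef : Gen × Bool := sl_ef
alias Lfl_ef := fl_ef
alias Lpr_ef := pr_ef
alias Lre_e := re_e
alias Leoe_e := eoe_e
abbrev LG_f := Gen.f
abbrev Lsl_ft : Gen × Bool := sl_ft
alias Lfl_ft := fl_ft
alias Lpr_ft := pr_ft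
abbrev Lsl_ff : Gen × Bool := sl_ff
alias Lfl_ff := fl_ff
alias Lpr_ff := pr_ff
alias Lre_f := re_f
alias Leoe_f := eoe_f
abbrev LK := Pt.mk
abbrev LQ : Type := Qt rels S
abbrev LP (p : Pt) : LQ := P p
abbrev Led (l : Gen × Bool) (c : LQ) : LQ := ed l c
abbrev LEOK (x : Gen) (p : Pt) : Prop := EntryOK rels S fwd inv o plet idx x p
alias Lpe := pe
alias Lpn := pn
alias Lgr := gr
alias Lpq := pq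
alias Lpqs := pqs
alias Llr := lr
alias Leop := eop
alias Lefun := efun
alias Lecon := econ
theorem Lrfl {α : Sort _} {a : α} : a = a := rfl
alias Lrot0 := rot0
alias Lrot1 := rot1
alias Lrot2 := rot2
alias Lrot3 := rot3
alias Lrot4 := rot4
alias Lrot5 := rot5
alias Lrot6 := rot6
alias Lrot7 := rot7
alias Lrot8 := rot8
alias Lrot9 := rot9
alias Lrot11 := rot11
alias Lrot12 := rot12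
alias Lrot14 := rot14
alias Lrot15 := rot15
alias Lrot17 := rot17
alias Lrot18 := rot18
alias Lrot19 := rot19
alias Lrot20 := rot20
alias Lrot21 := rot21
alias Lrot22 := rot22
alias Lrot23 := rot23
alias Lrot24 := rot24
alias Lrot25 := rot25
alias Lrot26 := rot26
alias Lrot27 := rot27
alias Lrot28 := rot28
alias Lrot29 := rot29
alias Lrot30 := rot30
alias Lrot31 := rot31
alias Lrot32 := rot32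
alias Lrot33 := rot33
alias Lrot34 := rot34
alias Lrot35 := rot35
alias Lrot36 := rot36
alias Lrot37 := rot37
alias Lrot38 := rot38
alias Lrot39 := rot39
alias Lrot40 := rot40
alias Lrot41 := rot41
alias Lrot42 := rot42
alias Lrot43 := rot43
alias Lrot44 := rot44
alias Lrot45 := rot45
alias Lrot46 := rot46
alias Lrot47 := rot47
alias Lrot48 := rot48
alias Lrot49 := rot49
alias Lrot50 := rot50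
alias Lrot51 := rot51
alias Lrot52 := rot52
alias Lrot53 := rot53
alias Lrot54 := rot54
alias Lrot55 := rot55
alias Lrot56 := rot56
alias Lrot57 := rot57
alias Lrot58 := rot58
alias Lrot59 := rot59
alias Lrot60 := rot60
alias Lrot61 := rot61
alias Lrot62 := rot62
alias Lrot63 := rot63
alias Lrot64 := rot64
alias Lrot65 := rot65
alias Lrot66 := rot66
alias Lrot67 := rot67
alias Lrot68 := rot68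
alias Lrot69 := rot69
alias Lrot70 := rot70
alias Lrot71 := rot71
alias Lrot72 := rot72
alias Lrot73 := rot73
alias Lrot74 := rot74
alias Lrot75 := rot75
alias Lrot76 := rot76
alias Lrot77 := rot77
alias Lrot78 := rot78
alias Lrot79 := rot79
alias Lrot80 := rot80
alias Lrot81 := rot81
alias Lrot82 := rot82
alias Lrot83 := rot83
alias Lrot84 := rot84
alias Lrot85 := rot85
alias Lrot86 := rot86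
alias Lrot87 := rot87
alias Lrot88 := rot88
alias Lrot90 := rot90
alias Lrot91 := rot91
alias Lrot92 := rot92
alias Lrot93 := rot93
alias Lrot94 := rot94
alias Lrot95 := rot95
alias Lrot96 := rot96
alias Lrot97 := rot97
alias Lrot98 := rot98
alias Lrot99 := rot99
alias Lrot100 := rot100
alias Lrot101 := rot101
alias Lrot104 := rot104
alias Lrot105 := rot105
alias Lrot107 := rot107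
alias Lrot108 := rot108
alias Lrot109 := rot109
alias Lrot110 := rot110
alias Lrot111 := rot111
alias Lrot112 := rot112
alias Lrot113 := rot113
alias Lrot116 := rot116
alias Lrot117 := rot117
alias Lrot118 := rot118
alias Lrot119 := rot119
alias Lrot121 := rot121
alias Lrot122 := rot122
alias Lrot123 := rot123
alias Lrot124 := rot124
alias Lrot125 := rot125
alias Lrot126 := rot126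
alias Lrot127 := rot127
alias Lrot128 := rot128
alias Lrot129 := rot129
alias Lrot130 := rot130
alias Lrot131 := rot131
alias Lrot132 := rot132
alias Lrot134 := rot134
alias Lrot135 := rot135
alias Lrot136 := rot136
alias Lrot137 := rot137
alias Lrot138 := rot138
alias Lrot139 := rot139
alias Lrot140 := rot140
alias Lrot141 := rot141
alias Lrot142 := rot142
alias Lrot143 := rot143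
alias Lrot144 := rot144
alias Lrot145 := rot145
alias Lrot147 := rot147
alias Lrot148 := rot148
alias Lrot149 := rot149
alias Lrot150 := rot150
alias Lrot151 := rot151
alias Lrot152 := rot152
alias Lrot153 := rot153
alias Lrot154 := rot154
alias Lrot155 := rot155
alias Lrot156 := rot156
alias Lrot157 := rot157
alias Lrot158 := rot158
alias Lrot159 := rot159
alias Lrot160 := rot160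
alias Lrot162 := rot162
alias Lrot163 := rot163
alias Lrot164 := rot164
alias Lrot165 := rot165
alias Lrot166 := rot166
alias Lrot167 := rot167
alias Lrot168 := rot168
alias Lrot169 := rot169
alias Lrot170 := rot170
alias Lrot171 := rot171
alias Lrot173 := rot173
alias Lrot177 := rot177
alias Lrot178 := rot178
alias Lrot180 := rot180
alias Lrot181 := rot181
alias Lrot182 := rot182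
alias Lrot183 := rot183
alias Lrot184 := rot184
alias Lrot185 := rot185
alias Lrot186 := rot186
alias Lrot187 := rot187
alias Lrot188 := rot188
alias Lrot189 := rot189
alias Lrot190 := rot190
alias Lrot191 := rot191

section
variable (IH : IHT)
include IH

theorem f539857 : Led Lsl_af (LP (LK LD1_c9 LD2_c48 LD3_c40)) = (LP (LK LD1_c5 LD2_c53 LD3_c2)) :=
  Lgr Lrot109 (Lpe (K36.f539841 IH) (Lpe (K36.f539832 IH) (Lpq (K36.f539836 IH) (Lpe (K36.f500755 IH) (Lpe (K36.f500697 IH) (Lpe (K36.f500695 IH) (Lpe (K36.f500694 IH) (Lpr_cf (K36.f539844 IH) (Lpe (K36.f211075 IH) (Lpe (K36.f449352 IH) (Lpn (LP (LK LD1_c5 LD2_c53 LD3_c2)))))))))))))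
theorem f539861 : Led Lsl_ct (LP (LK LD1_c9 LD2_c48 LD3_c40)) = (LP (LK LD1_c4 LD2_c59 LD3_c6)) :=
  Lre_c IH (LK LD1_c9 LD2_c48 LD3_c40) (LK LD1_c4 LD2_c59 LD3_c6) Lrfl Lrfl
theorem f539862 : Led Lsl_at (LP (LK LD1_c4 LD2_c59 LD3_c6)) = (LP (LK LD1_c2 LD2_c52 LD3_c48)) :=
  Lgr Lrot107 (Lpe (f539861 IH) (Lpr_af (f539857 IH) (Lpe (K36.f380378 IH) (Lpn (LP (LK LD1_c2 LD2_c52 LD3_c48))))))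
theorem f211093 : Led Lsl_dt (LP (LK LD1_c4 LD2_c35 LD3_c5)) = (LP (LK LD1_c9 LD2_c6 LD3_c55)) :=
  Lre_d IH (LK LD1_c4 LD2_c35 LD3_c5) (LK LD1_c9 LD2_c6 LD3_c55) Lrfl Lrfl
theorem f539833 : Led Lsl_dt (LP (LK LD1_c4 LD2_c59 LD3_c6)) = (LP (LK LD1_c2 LD2_c27 LD3_c26)) :=
  Lre_d IH (LK LD1_c4 LD2_c59 LD3_c6) (LK LD1_c2 LD2_c27 LD3_c26) Lrfl Lrfl
theorem f539839 : Led Lsl_ft (LP (LK LD1_c9 LD2_c6 LD3_c55)) = (LP (LK LD1_c4 LD2_c59 LD3_c6)) :=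
  Lgr Lrot54 (Lpe (f211093 IH) (Lpr_ff (K36.f500367 IH) (Lpqs (K36.f539826 IH) (Lpe (f539833 IH) (Lpn (LP (LK LD1_c4 LD2_c59 LD3_c6)))))))
theorem f211803 : Led Lsl_gt (LP (LK LD1_c5 LD2_c53 LD3_c1)) = (LP (LK LD1_c2 LD2_c52 LD3_c48)) :=
  Lre_g IH (LK LD1_c5 LD2_c53 LD3_c1) (LK LD1_c2 LD2_c52 LD3_c48) Lrfl Lrfl
theorem f539895 : Led Lsl_gt (LP (LK LD1_c9 LD2_c6 LD3_c55)) = (LP (LK LD1_c5 LD2_c53 LD3_c1)) :=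
  Lgr Lrot5 (Lpr_ft (f539839 IH) (Lpr_at (f539862 IH) (Lpe (f211803 IH) (Lpn (LP (LK LD1_c5 LD2_c53 LD3_c1))))))
theorem f449388 : Led Lsl_at (LP (LK LD1_c1 LD2_c22 LD3_c26)) = (LP (LK LD1_c2 LD2_c14 LD3_c40)) :=
  Lgr Lrot66 (Lpr_ff (K36.f449386 IH) (Lpe (K36.f449365 IH) (Lpr_ff (K36.f449350 IH) (Lpn (LP (LK LD1_c2 LD2_c14 LD3_c40))))))
theorem f380363 : Led Lsl_bt (LP (LK LD1_c2 LD2_c52 LD3_c47)) = (LP (LK LD1_c1 LD2_c22 LD3_c26)) :=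
  Lre_b IH (LK LD1_c2 LD2_c52 LD3_c47) (LK LD1_c1 LD2_c22 LD3_c26) Lrfl Lrfl
theorem f449393 : Led Lsl_at (LP (LK LD1_c5 LD2_c52 LD3_c57)) = (LP (LK LD1_c2 LD2_c52 LD3_c47)) :=
  Lre_a IH (LK LD1_c5 LD2_c52 LD3_c57) (LK LD1_c2 LD2_c52 LD3_c47) Lrfl Lrfl
theorem f449340 : Led Lsl_bt (LP (LK LD1_c2 LD2_c14 LD3_c40)) = (LP (LK LD1_c4 LD2_c35 LD3_c6)) :=
  Lre_b IH (LK LD1_c2 LD2_c14 LD3_c40) (LK LD1_c4 LD2_c35 LD3_c6) Lrfl Lrfl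
theorem f449348 : Led Lsl_at (LP (LK LD1_c4 LD2_c35 LD3_c6)) = (LP (LK LD1_c9 LD2_c6 LD3_c55)) :=
  Lre_a IH (LK LD1_c4 LD2_c35 LD3_c6) (LK LD1_c9 LD2_c6 LD3_c55) Lrfl Lrfl
theorem f450545 : Led Lsl_bf (LP (LK LD1_c5 LD2_c52 LD3_c57)) = (LP (LK LD1_c9 LD2_c6 LD3_c55)) :=
  Lgr Lrot81 (Lpr_at (f449393 IH) (Lpr_bt (f380363 IH) (Lpr_at (f449388 IH) (Lpr_bt (f449340 IH) (Lpr_at (f449348 IH) (Lpn (LP (LK LD1_c9 LD2_c6 LD3_c55))))))))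
theorem f450547 : Led Lsl_bt (LP (LK LD1_c5 LD2_c52 LD3_c57)) = (LP (LK LD1_c9 LD2_c6 LD3_c55)) :=
  Lgr Lrot127 (Lpr_bf (f450545 IH) (Lpn (LP (LK LD1_c9 LD2_c6 LD3_c55))))
theorem f450541 : Led Lsl_ct (LP (LK LD1_c5 LD2_c52 LD3_c57)) = (LP (LK LD1_c11 LD2_c32 LD3_c4)) :=
  Lre_c IH (LK LD1_c5 LD2_c52 LD3_c57) (LK LD1_c11 LD2_c32 LD3_c4) Lrfl Lrfl
theorem f386653 : Led Lsl_dt (LP (LK LD1_c2 LD2_c48 LD3_c20)) = (LP (LK LD1_c1 LD2_c20 LD3_c22)) :=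
  Lre_d IH (LK LD1_c2 LD2_c48 LD3_c20) (LK LD1_c1 LD2_c20 LD3_c22) Lrfl Lrfl
theorem f176455 : Led Lsl_gt (LP (LK LD1_c2 LD2_c48 LD3_c20)) = (LP (LK LD1_c5 LD2_c45 LD3_c4)) :=
  Lre_g IH (LK LD1_c2 LD2_c48 LD3_c20) (LK LD1_c5 LD2_c45 LD3_c4) Lrfl Lrfl
theorem f176456 : Led Lsl_ct (LP (LK LD1_c5 LD2_c45 LD3_c4)) = (LP (LK LD1_c11 LD2_c20 LD3_c34)) :=
  Lre_c IH (LK LD1_c5 LD2_c45 LD3_c4) (LK LD1_c11 LD2_c20 LD3_c34) Lrfl Lrfl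
theorem f26640 : Led Lsl_ct (LP (LK LD1_c9 LD2_c6 LD3_c58)) = (LP (LK LD1_c4 LD2_c35 LD3_c6)) :=
  Lre_c IH (LK LD1_c9 LD2_c6 LD3_c58) (LK LD1_c4 LD2_c35 LD3_c6) Lrfl Lrfl
theorem f539271 : Led Lsl_gt (LP (LK LD1_c11 LD2_c20 LD3_c34)) = (LP (LK LD1_c9 LD2_c6 LD3_c58)) :=
  Lgr Lrot187 (Lpe (f176456 IH) (Lpe (f176455 IH) (Lpr_dt (f386653 IH) (Lpr_gt (K31.f495908 IH) (Lpqs (K36.f539257 IH) (Lpr_ct (K36.f383268 IH) (Lpr_gt (K36.f452858 IH) (Lpqs (K36.f539219 IH) (Lpe (K36.f211068 IH) (Lpr_dt (K36.f211074 IH) (Lpe (f26640 IH) (Lpn (LP (LK LD1_c9 LD2_c6 LD3_c58))))))))))))))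
theorem f176454 : Led Lsl_bt (LP (LK LD1_c1 LD2_c20 LD3_c33)) = (LP (LK LD1_c2 LD2_c48 LD3_c20)) :=
  Lre_b IH (LK LD1_c1 LD2_c20 LD3_c33) (LK LD1_c2 LD2_c48 LD3_c20) Lrfl Lrfl
theorem f539276 : Led Lsl_bt (LP (LK LD1_c2 LD2_c27 LD3_c56)) = (LP (LK LD1_c2 LD2_c59 LD3_c56)) :=
  Lgr Lrot92 (Lpe (K10.f176529 IH) (Lpr_gt (K10.f176450 IH) (Lpe (K10.f9402 IH) (Lpr_bt (f176454 IH) (Lpr_gt (f176455 IH) (Lpr_ct (f176456 IH) (Lpr_gt (f539271 IH) (Lpe (K36.f26642 IH) (Lpr_bt (K36.f26639 IH) (Lpe (K12.f26635 IH) (Lpn (LP (LK LD1_c2 LD2_c59 LD3_c56)))))))))))))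
theorem f23998 : Led Lsl_bt (LP (LK LD1_c4 LD2_c39 LD3_c23)) = (LP (LK LD1_c2 LD2_c16 LD3_c40)) :=
  Lre_b IH (LK LD1_c4 LD2_c39 LD3_c23) (LK LD1_c2 LD2_c16 LD3_c40) Lrfl Lrfl
theorem f24007 : Led Lsl_ct (LP (LK LD1_c4 LD2_c39 LD3_c23)) = (LP (LK LD1_c9 LD2_c14 LD3_c26)) :=
  Lre_c IH (LK LD1_c4 LD2_c39 LD3_c23) (LK LD1_c9 LD2_c14 LD3_c26) Lrfl Lrfl
theorem f165055 : Led Lsl_ct (LP (LK LD1_c4 LD2_c35 LD3_c7)) = (LP (LK LD1_c9 LD2_c6 LD3_c60)) :=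
  Lre_c IH (LK LD1_c4 LD2_c35 LD3_c7) (LK LD1_c9 LD2_c6 LD3_c60) Lrfl Lrfl
theorem f539281 : Led Lsl_gf (LP (LK LD1_c9 LD2_c14 LD3_c26)) = (LP (LK LD1_c9 LD2_c6 LD3_c60)) :=
  Lgr Lrot126 (Lpe (f24007 IH) (Lpr_bt (f23998 IH) (Lpr_gt (K9.f23929 IH) (Lpr_ct (K10.f9412 IH) (Lpr_gt (K10.f23951 IH) (Lpr_cf (K10.f176529 IH) (Lpr_bt (f539276 IH) (Lpe (K36.f227461 IH) (Lpe (K36.f165053 IH) (Lpr_ct (f165055 IH) (Lpn (LP (LK LD1_c9 LD2_c6 LD3_c60)))))))))))))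
theorem f380364 : Led Lsl_ct (LP (LK LD1_c5 LD2_c52 LD3_c61)) = (LP (LK LD1_c2 LD2_c52 LD3_c47)) :=
  Lre_c IH (LK LD1_c5 LD2_c52 LD3_c61) (LK LD1_c2 LD2_c52 LD3_c47) Lrfl Lrfl
theorem f449394 : Led Lsl_ff (LP (LK LD1_c5 LD2_c52 LD3_c61)) = (LP (LK LD1_c9 LD2_c6 LD3_c60)) :=
  Lgr Lrot23 (Lpr_ct (f380364 IH) (Lpr_ft (K36.f449391 IH) (Lpr_ct (f165055 IH) (Lpn (LP (LK LD1_c9 LD2_c6 LD3_c60))))))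
theorem f450537 : Led Lsl_at (LP (LK LD1_c5 LD2_c52 LD3_c61)) = (LP (LK LD1_c11 LD2_c32 LD3_c4)) :=
  Lre_a IH (LK LD1_c5 LD2_c52 LD3_c61) (LK LD1_c11 LD2_c32 LD3_c4) Lrfl Lrfl
theorem f539283 : Led Lsl_gt (LP (LK LD1_c9 LD2_c14 LD3_c26)) = (LP (LK LD1_c11 LD2_c32 LD3_c4)) :=
  Lgr Lrot46 (Lpr_gf (f539281 IH) (Lpe (f449394 IH) (Lpr_at (f450537 IH) (Lpn (LP (LK LD1_c11 LD2_c32 LD3_c4))))))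
theorem f24004 : Led Lsl_bt (LP (LK LD1_c2 LD2_c48 LD3_c20)) = (LP (LK LD1_c1 LD2_c20 LD3_c33)) :=
  Lre_b IH (LK LD1_c2 LD2_c48 LD3_c20) (LK LD1_c1 LD2_c20 LD3_c33) Lrfl Lrfl
theorem f386657 : Led Lsl_ct (LP (LK LD1_c2 LD2_c48 LD3_c20)) = (LP (LK LD1_c5 LD2_c45 LD3_c6)) :=
  Lre_c IH (LK LD1_c2 LD2_c48 LD3_c20) (LK LD1_c5 LD2_c45 LD3_c6) Lrfl Lrfl
theorem f422787 : Led Lsl_gt (LP (LK LD1_c11 LD2_c20 LD3_c39)) = (LP (LK LD1_c5 LD2_c45 LD3_c6)) :=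
  Lre_g IH (LK LD1_c11 LD2_c20 LD3_c39) (LK LD1_c5 LD2_c45 LD3_c6) Lrfl Lrfl
theorem f539897 : Led Lsl_cf (LP (LK LD1_c11 LD2_c20 LD3_c39)) = (LP (LK LD1_c5 LD2_c53 LD3_c1)) :=
  Lgr Lrot125 (Lpr_gt (f422787 IH) (Lpe (f386657 IH) (Lpr_bt (f24004 IH) (Lpr_gt (K9.f23956 IH) (Lpe (f23998 IH) (Lpr_ct (f24007 IH) (Lpr_gt (f539283 IH) (Lpe (f450541 IH) (Lpr_bt (f450547 IH) (Lpr_gt (f539895 IH) (Lpn (LP (LK LD1_c5 LD2_c53 LD3_c1)))))))))))))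
theorem f24005 : Led Lsl_ct (LP (LK LD1_c5 LD2_c45 LD3_c6)) = (LP (LK LD1_c2 LD2_c48 LD3_c20)) :=
  Lre_c IH (LK LD1_c5 LD2_c45 LD3_c6) (LK LD1_c2 LD2_c48 LD3_c20) Lrfl Lrfl
theorem f72508 : Led Lsl_gt (LP (LK LD1_c4 LD2_c57 LD3_c44)) = (LP (LK LD1_c2 LD2_c26 LD3_c43)) :=
  Lre_g IH (LK LD1_c4 LD2_c57 LD3_c44) (LK LD1_c2 LD2_c26 LD3_c43) Lrfl Lrfl
theorem f500366 : Led Lsl_af (LP (LK LD1_c1 LD2_c22 LD3_c27)) = K36.v1613 :=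
  Lgr Lrot0 (Lpr_at (K36.f500365 IH) (Lpn K36.v1613))
def v1612 : LQ := Led Lsl_gf (LP (LK LD1_c1 LD2_c22 LD3_c27))
theorem f500362 : Led Lsl_gf (LP (LK LD1_c1 LD2_c22 LD3_c27)) = v1612 :=
  Lrfl
theorem f500372 : Led Lsl_gt (LP (LK LD1_c4 LD2_c35 LD3_c5)) = v1612 :=
  Lgr Lrot5 (Lpr_ft (K36.f500371 IH) (Lpe (f500366 IH) (Lpr_gf (f500362 IH) (Lpn v1612))))
theorem f539903 : Led Lsl_cf (LP (LK LD1_c4 LD2_c57 LD3_c44)) = v1612 :=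
  Lgr Lrot169 (Lpr_gt (f72508 IH) (Lpr_ct (K36.f172134 IH) (Lpe (f386653 IH) (Lpe (f24005 IH) (Lpe (f422787 IH) (Lpr_cf (f539897 IH) (Lpe (f539895 IH) (Lpe (f211093 IH) (Lpr_gt (f500372 IH) (Lpn v1612))))))))))
theorem f176813 : Led Lsl_ct (LP (LK LD1_c1 LD2_c20 LD3_c22)) = (LP (LK LD1_c2 LD2_c26 LD3_c43)) :=
  Lre_c IH (LK LD1_c1 LD2_c20 LD3_c22) (LK LD1_c2 LD2_c26 LD3_c43) Lrfl Lrfl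
theorem f176812 : Led Lsl_bt (LP (LK LD1_c1 LD2_c20 LD3_c22)) = (LP (LK LD1_c0 LD2_c37 LD3_c13)) :=
  Lre_b IH (LK LD1_c1 LD2_c20 LD3_c22) (LK LD1_c0 LD2_c37 LD3_c13) Lrfl Lrfl
theorem f101512 : Led Lsl_bt (LP (LK LD1_c0 LD2_c40 LD3_c33)) = (LP (LK LD1_c1 LD2_c27 LD3_c39)) :=
  Lre_b IH (LK LD1_c0 LD2_c40 LD3_c33) (LK LD1_c1 LD2_c27 LD3_c39) Lrfl Lrfl
theorem f99564 : Led Lsl_gt (LP (LK LD1_c1 LD2_c27 LD3_c39)) = (LP (LK LD1_c3 LD2_c3 LD3_c28)) :=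
  Lre_g IH (LK LD1_c1 LD2_c27 LD3_c39) (LK LD1_c3 LD2_c3 LD3_c28) Lrfl Lrfl
theorem f539925 : Led Lsl_bf (LP (LK LD1_c3 LD2_c3 LD3_c28)) = v1612 :=
  Lgr Lrot34 (Lpe (f99564 IH) (Lpe (f101512 IH) (Lpr_ct (K9.f100644 IH) (Lpe (K9.f101509 IH) (Lpe (K9.f176801 IH) (Lpe (K9.f26663 IH) (Lpe (f176812 IH) (Lpr_ct (f176813 IH) (Lpe (f72508 IH) (Lpr_cf (f539903 IH) (Lpn v1612)))))))))))
theorem f539926 : Led Lsl_bt (LP (LK LD1_c3 LD2_c3 LD3_c28)) = v1612 :=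
  Lgr Lrot127 (Lpr_bf (f539925 IH) (Lpn v1612))
theorem f176814 : Led Lsl_ct (LP (LK LD1_c3 LD2_c3 LD3_c28)) = (LP (LK LD1_c6 LD2_c13 LD3_c20)) :=
  Lre_c IH (LK LD1_c3 LD2_c3 LD3_c28) (LK LD1_c6 LD2_c13 LD3_c20) Lrfl Lrfl
theorem f211753 : Led Lsl_ct (LP (LK LD1_c0 LD2_c38 LD3_c12)) = (LP (LK LD1_c0 LD2_c39 LD3_c56)) :=
  Lgr Lrot8 (Lpr_gt (K12.f24430 IH) (Lpr_dt (K12.f24421 IH) (Lpr_gt (K12.f26579 IH) (Lpr_dt (K12.f211739 IH) (Lpe (K12.f211711 IH) (Lpe (K10.f27199 IH) (Lpe (K10.f27196 IH) (Lpr_df (K1.f27205 IH) (Lpe (K10.f27236 IH) (Lpn (LP (LK LD1_c0 LD2_c39 LD3_c56))))))))))))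
theorem f71461 : Led Lsl_bt (LP (LK LD1_c0 LD2_c29 LD3_c38)) = (LP (LK LD1_c1 LD2_c4 LD3_c45)) :=
  Lre_b IH (LK LD1_c0 LD2_c29 LD3_c38) (LK LD1_c1 LD2_c4 LD3_c45) Lrfl Lrfl
theorem f202304 : Led Lsl_ct (LP (LK LD1_c2 LD2_c15 LD3_c20)) = (LP (LK LD1_c4 LD2_c36 LD3_c21)) :=
  Lre_c IH (LK LD1_c2 LD2_c15 LD3_c20) (LK LD1_c4 LD2_c36 LD3_c21) Lrfl Lrfl
theorem f539929 : Led Lsl_gf (LP (LK LD1_c6 LD2_c13 LD3_c20)) = (LP (LK LD1_c4 LD2_c36 LD3_c21)) :=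
  Lgr Lrot129 (Lpe (f176814 IH) (Lpr_bt (f539926 IH) (Lpe (f500362 IH) (Lpe (K36.f211760 IH) (Lpr_ct (f211753 IH) (Lpr_gt (K10.f27236 IH) (Lpe (K11.f34728 IH) (Lpr_bt (f71461 IH) (Lpr_gt (K35.f71468 IH) (Lpr_ct (f202304 IH) (Lpn (LP (LK LD1_c4 LD2_c36 LD3_c21)))))))))))))
theorem f208577 : Led Lsl_et (LP (LK LD1_c2 LD2_c51 LD3_c44)) = (LP (LK LD1_c1 LD2_c21 LD3_c54)) :=
  Lre_e IH (LK LD1_c2 LD2_c51 LD3_c44) (LK LD1_c1 LD2_c21 LD3_c54) Lrfl Lrfl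
theorem f538426 : Led Lsl_bf (LP (LK LD1_c2 LD2_c51 LD3_c44)) = (LP (LK LD1_c2 LD2_c15 LD3_c20)) :=
  Lgr Lrot96 (Lpr_et (f208577 IH) (Lpr_bt (K7.f8372 IH) (Lpr_et (K35.f538422 IH) (Lpn (LP (LK LD1_c2 LD2_c15 LD3_c20))))))
def v1674 : LQ := Led Lsl_gf (LP (LK LD1_c1 LD2_c23 LD3_c47))
theorem f500709 : Led Lsl_gf (LP (LK LD1_c1 LD2_c23 LD3_c47)) = v1674 :=
  Lrfl
theorem f428346 : Led Lsl_at (LP (LK LD1_c0 LD2_c38 LD3_c46)) = (LP (LK LD1_c1 LD2_c23 LD3_c47)) :=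
  Lre_a IH (LK LD1_c0 LD2_c38 LD3_c46) (LK LD1_c1 LD2_c23 LD3_c47) Lrfl Lrfl
theorem f500710 : Led Lsl_gt (LP (LK LD1_c1 LD2_c23 LD3_c58)) = v1674 :=
  Lgr Lrot5 (Lpr_ft (K36.f386746 IH) (Lpr_at (f428346 IH) (Lpr_gf (f500709 IH) (Lpn v1674))))
theorem f539242 : (LP (LK LD1_c2 LD2_c14 LD3_c47)) = v1674 :=
  Lefun (Lecon (K36.f539077 IH) (K36.f539233 IH).symm) (f500710 IH)
theorem f539931 : Led Lsl_gf (LP (LK LD1_c2 LD2_c51 LD3_c44)) = K36.v1700 :=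
  Lgr Lrot124 (Lpr_bf (f538426 IH) (Lpr_ct (f202304 IH) (Lpe (f539929 IH) (Lpe (f176814 IH) (Lpr_bt (f539926 IH) (Lpe (f500362 IH) (Lpr_ct (K36.f211761 IH) (Lpqs (f539242 IH) (Lpe (f500709 IH) (Lpr_cf (K36.f500659 IH) (Lpq (K36.f539245 IH) (Lpr_bt (K36.f500907 IH) (Lpn K36.v1700)))))))))))))
theorem f208541 : Led Lsl_ct (LP (LK LD1_c2 LD2_c51 LD3_c44)) = (LP (LK LD1_c1 LD2_c21 LD3_c55)) :=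
  Lre_c IH (LK LD1_c2 LD2_c51 LD3_c44) (LK LD1_c1 LD2_c21 LD3_c55) Lrfl Lrfl
theorem f539936 : K36.v1579 = (LP (LK LD1_c2 LD2_c14 LD3_c36)) :=
  (Llr Lrot149 (Lpe (K36.f500182 IH) (Lpe (f208541 IH) (Lpr_gf (f539931 IH) (Lpq (K36.f539248 IH) (Lpr_bf (K36.f500658 IH) (Lpq (K36.f539245 IH) (Lpr_ct (K31.f500913 IH) (Lpq (K36.f539251 IH) (Lpr_gf (f500709 IH) (Lpq (f539242 IH) (Lpe (K36.f211761 IH) (Lpr_bt (K36.f211769 IH) (Lpr_gf (K12.f211765 IH) (Lpe (K7.f20329 IH) (Lpr_ct (K7.f20330 IH) (Lpn (LP (LK LD1_c2 LD2_c14 LD3_c36))))))))))))))))))).symm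
theorem f208575 : Led Lsl_bt (LP (LK LD1_c2 LD2_c51 LD3_c41)) = (LP (LK LD1_c1 LD2_c21 LD3_c55)) :=
  Lre_b IH (LK LD1_c2 LD2_c51 LD3_c41) (LK LD1_c1 LD2_c21 LD3_c55) Lrfl Lrfl
theorem f112854 : Led Lsl_ct (LP (LK LD1_c2 LD2_c51 LD3_c41)) = (LP (LK LD1_c2 LD2_c54 LD3_c25)) :=
  Lre_c IH (LK LD1_c2 LD2_c51 LD3_c41) (LK LD1_c2 LD2_c54 LD3_c25) Lrfl Lrfl
theorem f181486 : Led Lsl_et (LP (LK LD1_c5 LD2_c41 LD3_c19)) = (LP (LK LD1_c2 LD2_c46 LD3_c42)) :=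
  Lre_e IH (LK LD1_c5 LD2_c41 LD3_c19) (LK LD1_c2 LD2_c46 LD3_c42) Lrfl Lrfl
theorem f181536 : Led Lsl_cf (LP (LK LD1_c5 LD2_c41 LD3_c19)) = (LP (LK LD1_c4 LD2_c31 LD3_c58)) :=
  Lgr Lrot39 (Lpr_et (f181486 IH) (Lpr_ct (K10.f181469 IH) (Lpr_et (K36.f174829 IH) (Lpn (LP (LK LD1_c4 LD2_c31 LD3_c58))))))
theorem f181541 : Led Lsl_ct (LP (LK LD1_c5 LD2_c41 LD3_c19)) = (LP (LK LD1_c4 LD2_c31 LD3_c58)) :=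
  Lgr Lrot59 (Lpr_cf (f181536 IH) (Lpn (LP (LK LD1_c4 LD2_c31 LD3_c58))))
theorem f181539 : Led Lsl_bt (LP (LK LD1_c5 LD2_c41 LD3_c19)) = (LP (LK LD1_c2 LD2_c46 LD3_c45)) :=
  Lre_b IH (LK LD1_c5 LD2_c41 LD3_c19) (LK LD1_c2 LD2_c46 LD3_c45) Lrfl Lrfl
theorem f538221 : Led Lsl_bt (LP (LK LD1_c2 LD2_c15 LD3_c52)) = (LP (LK LD1_c4 LD2_c35 LD3_c58)) :=
  Lgr Lrot119 (Lpe (K35.f157174 IH) (Lpe (K7.f148965 IH) (Lpr_ef (K35.f538219 IH) (Lpn (LP (LK LD1_c4 LD2_c35 LD3_c58))))))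
theorem f537985 : Led Lsl_ct (LP (LK LD1_c2 LD2_c15 LD3_c52)) = (LP (LK LD1_c4 LD2_c37 LD3_c5)) :=
  Lre_c IH (LK LD1_c2 LD2_c15 LD3_c52) (LK LD1_c4 LD2_c37 LD3_c5) Lrfl Lrfl
theorem f541431 : Led Lsl_gf (LP (LK LD1_c2 LD2_c54 LD3_c25)) = (LP (LK LD1_c4 LD2_c37 LD3_c5)) :=
  Lgr Lrot126 (Lpe (f112854 IH) (Lpr_bt (f208575 IH) (Lpr_gt (K36.f500182 IH) (Lpqs (f539936 IH) (Lpr_ct (K7.f20330 IH) (Lpq (f539936 IH) (Lpr_gt (K36.f541427 IH) (Lpe (f181541 IH) (Lpr_bt (f181539 IH) (Lpqs (K36.f541365 IH) (Lpe (K36.f500417 IH) (Lpe (f538221 IH) (Lpr_ct (f537985 IH) (Lpn (LP (LK LD1_c4 LD2_c37 LD3_c5))))))))))))))))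
theorem f149596 : Led Lsl_gt (LP (LK LD1_c5 LD2_c56 LD3_c6)) = (LP (LK LD1_c11 LD2_c37 LD3_c26)) :=
  Lre_g IH (LK LD1_c5 LD2_c56 LD3_c6) (LK LD1_c11 LD2_c37 LD3_c26) Lrfl Lrfl
theorem f542687 : Led Lsl_df (LP (LK LD1_c8 LD2_c51 LD3_c56)) = (LP (LK LD1_c11 LD2_c37 LD3_c26)) :=
  Lgr Lrot84 (Lpr_cf (K36.f542678 IH) (Lpe (K36.f542672 IH) (Lpr_gf (K36.f542685 IH) (Lpe (K36.f71962 IH) (Lpr_gf (K36.f500517 IH) (Lpq (K36.f541553 IH) (Lpq (K35.f541554 IH) (Lpe (K36.f537986 IH) (Lpe (f541431 IH) (Lpr_dt (K6.f112840 IH) (Lpr_gt (f149596 IH) (Lpn (LP (LK LD1_c11 LD2_c37 LD3_c26))))))))))))))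
theorem f175822 : Led Lsl_bt (LP (LK LD1_c5 LD2_c0 LD3_c33)) = (LP (LK LD1_c9 LD2_c51 LD3_c26)) :=
  Lre_b IH (LK LD1_c5 LD2_c0 LD3_c33) (LK LD1_c9 LD2_c51 LD3_c26) Lrfl Lrfl
theorem f29343 : Led Lsl_bt (LP (LK LD1_c15 LD2_c8 LD3_c51)) = (LP (LK LD1_c8 LD2_c2 LD3_c41)) :=
  Lre_b IH (LK LD1_c15 LD2_c8 LD3_c51) (LK LD1_c8 LD2_c2 LD3_c41) Lrfl Lrfl
theorem f227875 : Led Lsl_dt (LP (LK LD1_c9 LD2_c51 LD3_c26)) = (LP (LK LD1_c15 LD2_c8 LD3_c51)) :=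
  Lgr Lrot79 (Lpe (f175822 IH) (Lpr_df (K12.f227856 IH) (Lpe (f29343 IH) (Lpn (LP (LK LD1_c15 LD2_c8 LD3_c51))))))
theorem f542695 : Led Lsl_ft (LP (LK LD1_c15 LD2_c8 LD3_c51)) = (LP (LK LD1_c11 LD2_c37 LD3_c26)) :=
  Lgr Lrot54 (Lpe (f227875 IH) (Lpr_ff (K36.f273157 IH) (Lpr_df (f542687 IH) (Lpn (LP (LK LD1_c11 LD2_c37 LD3_c26))))))
theorem f241182 : Led Lsl_bt (LP (LK LD1_c8 LD2_c2 LD3_c41)) = (LP (LK LD1_c15 LD2_c8 LD3_c51)) :=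
  Lre_b IH (LK LD1_c8 LD2_c2 LD3_c41) (LK LD1_c15 LD2_c8 LD3_c51) Lrfl Lrfl
theorem f272299 : Led Lsl_ff (LP (LK LD1_c8 LD2_c2 LD3_c41)) = (LP (LK LD1_c6 LD2_c13 LD3_c38)) :=
  Lgr Lrot23 (Lpe (K13.f196252 IH) (Lpr_ft (K16.f272295 IH) (Lpe (K13.f241511 IH) (Lpn (LP (LK LD1_c6 LD2_c13 LD3_c38))))))
theorem f542699 : Led Lsl_bf (LP (LK LD1_c6 LD2_c13 LD3_c38)) = (LP (LK LD1_c11 LD2_c37 LD3_c26)) :=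
  Lgr Lrot61 (Lpe (f272299 IH) (Lpr_bt (f241182 IH) (Lpr_ft (f542695 IH) (Lpn (LP (LK LD1_c11 LD2_c37 LD3_c26))))))
theorem f542694 : Led Lsl_et (LP (LK LD1_c20 LD2_c35 LD3_c58)) = (LP (LK LD1_c11 LD2_c37 LD3_c26)) :=
  Lre_e IH (LK LD1_c20 LD2_c35 LD3_c58) (LK LD1_c11 LD2_c37 LD3_c26) Lrfl Lrfl
theorem f542703 : Led Lsl_bt (LP (LK LD1_c12 LD2_c6 LD3_c2)) = (LP (LK LD1_c20 LD2_c35 LD3_c58)) :=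
  Lgr Lrot119 (Lpe (K36.f198467 IH) (Lpr_bf (f542699 IH) (Lpe (f542694 IH) (Lpn (LP (LK LD1_c20 LD2_c35 LD3_c58))))))
theorem f542705 : Led Lsl_bf (LP (LK LD1_c12 LD2_c6 LD3_c2)) = (LP (LK LD1_c20 LD2_c35 LD3_c58)) :=
  Lgr Lrot24 (Lpr_bt (f542703 IH) (Lpn (LP (LK LD1_c20 LD2_c35 LD3_c58))))
theorem f542876 : Led Lsl_df (LP (LK LD1_c20 LD2_c35 LD3_c58)) = (LP (LK LD1_c17 LD2_c9 LD3_c30)) :=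
  Lgr Lrot12 (Lpe (f542705 IH) (Lpe (K36.f205072 IH) (Lpr_bt (K36.f542871 IH) (Lpn (LP (LK LD1_c17 LD2_c9 LD3_c30))))))
theorem f542831 : Led Lsl_et (LP (LK LD1_c9 LD2_c15 LD3_c3)) = (LP (LK LD1_c17 LD2_c9 LD3_c30)) :=
  Lre_e IH (LK LD1_c9 LD2_c15 LD3_c3) (LK LD1_c17 LD2_c9 LD3_c30) Lrfl Lrfl
theorem f542881 : Led Lsl_et (LP (LK LD1_c8 LD2_c51 LD3_c56)) = (LP (LK LD1_c4 LD2_c39 LD3_c46)) :=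
  Lgr Lrot71 (Lpr_df (f542687 IH) (Lpe (f542694 IH) (Lpr_df (f542876 IH) (Lpe (f542831 IH) (Lpe (K36.f56249 IH) (Lpn (LP (LK LD1_c4 LD2_c39 LD3_c46))))))))
theorem f542692 : Led Lsl_dt (LP (LK LD1_c8 LD2_c51 LD3_c56)) = (LP (LK LD1_c11 LD2_c37 LD3_c26)) :=
  Lgr Lrot42 (Lpr_df (f542687 IH) (Lpn (LP (LK LD1_c11 LD2_c37 LD3_c26))))
theorem f112839 : Led Lsl_et (LP (LK LD1_c2 LD2_c54 LD3_c25)) = (LP (LK LD1_c1 LD2_c23 LD3_c11)) :=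
  Lre_e IH (LK LD1_c2 LD2_c54 LD3_c25) (LK LD1_c1 LD2_c23 LD3_c11) Lrfl Lrfl
theorem f34987 : Led Lsl_et (LP (LK LD1_c1 LD2_c4 LD3_c34)) = (LP (LK LD1_c2 LD2_c14 LD3_c54)) :=
  Lre_e IH (LK LD1_c1 LD2_c4 LD3_c34) (LK LD1_c2 LD2_c14 LD3_c54) Lrfl Lrfl
theorem f34928 : Led Lsl_at (LP (LK LD1_c4 LD2_c35 LD3_c25)) = (LP (LK LD1_c2 LD2_c14 LD3_c60)) :=
  Lre_a IH (LK LD1_c4 LD2_c35 LD3_c25) (LK LD1_c2 LD2_c14 LD3_c60) Lrfl Lrfl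
theorem f34941 : Led Lsl_at (LP (LK LD1_c4 LD2_c20 LD3_c14)) = (LP (LK LD1_c8 LD2_c38 LD3_c13)) :=
  Lre_a IH (LK LD1_c4 LD2_c20 LD3_c14) (LK LD1_c8 LD2_c38 LD3_c13) Lrfl Lrfl
theorem f34942 : Led Lsl_cf (LP (LK LD1_c4 LD2_c35 LD3_c25)) = (LP (LK LD1_c8 LD2_c38 LD3_c13)) :=
  Lgr Lrot1 (Lpr_at (f34928 IH) (Lpr_ct (K20.f34922 IH) (Lpr_at (f34941 IH) (Lpn (LP (LK LD1_c8 LD2_c38 LD3_c13))))))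
theorem f34961 : Led Lsl_ft (LP (LK LD1_c4 LD2_c35 LD3_c25)) = (LP (LK LD1_c2 LD2_c14 LD3_c54)) :=
  Lre_f IH (LK LD1_c4 LD2_c35 LD3_c25) (LK LD1_c2 LD2_c14 LD3_c54) Lrfl Lrfl
theorem f34948 : Led Lsl_ft (LP (LK LD1_c4 LD2_c20 LD3_c12)) = (LP (LK LD1_c8 LD2_c38 LD3_c13)) :=
  Lre_f IH (LK LD1_c4 LD2_c20 LD3_c12) (LK LD1_c8 LD2_c38 LD3_c13) Lrfl Lrfl
theorem f34962 : Led Lsl_ct (LP (LK LD1_c2 LD2_c14 LD3_c54)) = (LP (LK LD1_c4 LD2_c20 LD3_c12)) :=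
  Lgr Lrot40 (Lpe (f34961 IH) (Lpr_cf (f34942 IH) (Lpe (f34948 IH) (Lpn (LP (LK LD1_c4 LD2_c20 LD3_c12))))))
theorem f35250 : Led Lsl_et (LP (LK LD1_c4 LD2_c20 LD3_c12)) = (LP (LK LD1_c2 LD2_c9 LD3_c46)) :=
  Lgr Lrot158 (Lpe (f34962 IH) (Lpe (f34987 IH) (Lpr_cf (K2.f35220 IH) (Lpn (LP (LK LD1_c2 LD2_c9 LD3_c46))))))
theorem f34949 : Led Lsl_dt (LP (LK LD1_c4 LD2_c20 LD3_c12)) = (LP (LK LD1_c8 LD2_c38 LD3_c17)) :=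
  Lre_d IH (LK LD1_c4 LD2_c20 LD3_c12) (LK LD1_c8 LD2_c38 LD3_c17) Lrfl Lrfl
theorem f68662 : Led Lsl_gt (LP (LK LD1_c1 LD2_c31 LD3_c8)) = (LP (LK LD1_c3 LD2_c9 LD3_c60)) :=
  Lre_g IH (LK LD1_c1 LD2_c31 LD3_c8) (LK LD1_c3 LD2_c9 LD3_c60) Lrfl Lrfl
theorem f149592 : Led Lsl_et (LP (LK LD1_c6 LD2_c24 LD3_c46)) = (LP (LK LD1_c3 LD2_c9 LD3_c60)) :=
  Lre_e IH (LK LD1_c6 LD2_c24 LD3_c46) (LK LD1_c3 LD2_c9 LD3_c60) Lrfl Lrfl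
theorem f149593 : Led Lsl_dt (LP (LK LD1_c6 LD2_c24 LD3_c46)) = (LP (LK LD1_c12 LD2_c22 LD3_c26)) :=
  Lre_d IH (LK LD1_c6 LD2_c24 LD3_c46) (LK LD1_c12 LD2_c22 LD3_c26) Lrfl Lrfl
theorem f149594 : Led Lsl_gf (LP (LK LD1_c8 LD2_c38 LD3_c17)) = (LP (LK LD1_c12 LD2_c22 LD3_c26)) :=
  Lgr Lrot145 (Lpe (f34949 IH) (Lpr_et (f35250 IH) (Lpr_gt (K7.f149582 IH) (Lpr_dt (K7.f149581 IH) (Lpe (K8.f149588 IH) (Lpe (K8.f69196 IH) (Lpr_et (K35.f149591 IH) (Lpr_gt (f68662 IH) (Lpe (f149592 IH) (Lpr_dt (f149593 IH) (Lpn (LP (LK LD1_c12 LD2_c22 LD3_c26)))))))))))))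
theorem f542885 : Led Lsl_gf (LP (LK LD1_c6 LD2_c24 LD3_c46)) = (LP (LK LD1_c4 LD2_c39 LD3_c46)) :=
  Lgr Lrot138 (Lpr_dt (f149593 IH) (Lpe (f149594 IH) (Lpe (f34949 IH) (Lpr_et (f35250 IH) (Lpr_gt (K7.f149582 IH) (Lpe (f112839 IH) (Lpr_dt (K6.f112840 IH) (Lpr_gt (f149596 IH) (Lpe (f542692 IH) (Lpr_et (f542881 IH) (Lpn (LP (LK LD1_c4 LD2_c39 LD3_c46)))))))))))))
theorem f542890 : Led Lsl_et (LP (LK LD1_c3 LD2_c9 LD3_c60)) = (LP (LK LD1_c6 LD2_c24 LD3_c46)) :=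
  Lre_e IH (LK LD1_c3 LD2_c9 LD3_c60) (LK LD1_c6 LD2_c24 LD3_c46) Lrfl Lrfl
theorem f149622 : Led Lsl_dt (LP (LK LD1_c3 LD2_c9 LD3_c60)) = (LP (LK LD1_c6 LD2_c24 LD3_c45)) :=
  Lre_d IH (LK LD1_c3 LD2_c9 LD3_c60) (LK LD1_c6 LD2_c24 LD3_c45) Lrfl Lrfl
theorem f542891 : Led Lsl_gt (LP (LK LD1_c6 LD2_c24 LD3_c45)) = (LP (LK LD1_c4 LD2_c37 LD3_c0)) :=
  Lgr Lrot112 (Lpe (f149622 IH) (Lpr_et (f542890 IH) (Lpr_gf (f542885 IH) (Lpe (f542881 IH) (Lpr_dt (f542692 IH) (Lpe (f149596 IH) (Lpe (K6.f112840 IH) (Lpr_gf (f541431 IH) (Lpe (K35.f157224 IH) (Lpr_dt (K6.f141246 IH) (Lpn (LP (LK LD1_c4 LD2_c37 LD3_c0)))))))))))))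
theorem f60357 : Led Lsl_ct (LP (LK LD1_c5 LD2_c46 LD3_c24)) = (LP (LK LD1_c11 LD2_c23 LD3_c2)) :=
  Lre_c IH (LK LD1_c5 LD2_c46 LD3_c24) (LK LD1_c11 LD2_c23 LD3_c2) Lrfl Lrfl
theorem f60665 : Led Lsl_bf (LP (LK LD1_c6 LD2_c14 LD3_c15)) = (LP (LK LD1_c5 LD2_c46 LD3_c24)) :=
  Lgr Lrot93 (Lpr_dt (K2.f60664 IH) (Lpr_bt (K4.f60658 IH) (Lpr_dt (K8.f60358 IH) (Lpn (LP (LK LD1_c5 LD2_c46 LD3_c24))))))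
theorem f73310 : Led Lsl_at (LP (LK LD1_c5 LD2_c47 LD3_c19)) = (LP (LK LD1_c2 LD2_c49 LD3_c41)) :=
  Lre_a IH (LK LD1_c5 LD2_c47 LD3_c19) (LK LD1_c2 LD2_c49 LD3_c41) Lrfl Lrfl
theorem f73311 : Led Lsl_ft (LP (LK LD1_c6 LD2_c14 LD3_c15)) = (LP (LK LD1_c5 LD2_c47 LD3_c19)) :=
  Lgr Lrot101 (Lpe (K2.f60399 IH) (Lpr_ff (K2.f73308 IH) (Lpe (f73310 IH) (Lpn (LP (LK LD1_c5 LD2_c47 LD3_c19))))))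
theorem f137961 : Led Lsl_gf (LP (LK LD1_c4 LD2_c36 LD3_c44)) = (LP (LK LD1_c6 LD2_c14 LD3_c15)) :=
  Lgr Lrot47 (Lpr_gt (K6.f137959 IH) (Lpe (f73310 IH) (Lpe (f73311 IH) (Lpn (LP (LK LD1_c6 LD2_c14 LD3_c15))))))
theorem f542902 : Led Lsl_bf (LP (LK LD1_c6 LD2_c24 LD3_c45)) = (LP (LK LD1_c4 LD2_c24 LD3_c47)) :=
  Lgr Lrot165 (Lpr_gt (f542891 IH) (Lpr_ct (K6.f141245 IH) (Lpr_gt (K8.f158694 IH) (Lpe (f60357 IH) (Lpe (f60665 IH) (Lpe (f137961 IH) (Lpe (K6.f137953 IH) (Lpr_ct (K6.f137954 IH) (Lpe (K36.f138646 IH) (Lpe (K36.f36031 IH) (Lpn (LP (LK LD1_c4 LD2_c24 LD3_c47)))))))))))))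
theorem f542893 : Led Lsl_gf (LP (LK LD1_c6 LD2_c24 LD3_c45)) = (LP (LK LD1_c4 LD2_c36 LD3_c38)) :=
  Lgr Lrot47 (Lpr_gt (f542891 IH) (Lpe (K28.f141321 IH) (Lpe (K6.f141287 IH) (Lpn (LP (LK LD1_c4 LD2_c36 LD3_c38))))))
theorem f541076 : Led Lsl_cf (LP (LK LD1_c9 LD2_c25 LD3_c36)) = (LP (LK LD1_c11 LD2_c29 LD3_c13)) :=
  Lgr Lrot11 (Lpr_ct (K36.f541068 IH) (Lpn (LP (LK LD1_c11 LD2_c29 LD3_c13))))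
theorem f177127 : Led Lsl_ct (LP (LK LD1_c2 LD2_c51 LD3_c37)) = (LP (LK LD1_c5 LD2_c50 LD3_c51)) :=
  Lre_c IH (LK LD1_c2 LD2_c51 LD3_c37) (LK LD1_c5 LD2_c50 LD3_c51) Lrfl Lrfl
theorem f542915 : Led Lsl_gf (LP (LK LD1_c3 LD2_c44 LD3_c8)) = (LP (LK LD1_c5 LD2_c50 LD3_c51)) :=
  Lgr Lrot129 (Lpe (K6.f37085 IH) (Lpe (K8.f142152 IH) (Lpe (f542893 IH) (Lpr_bf (f542902 IH) (Lpr_ct (K36.f36031 IH) (Lpr_gt (K36.f138654 IH) (Lpr_cf (f541076 IH) (Lpr_bt (K36.f239013 IH) (Lpr_gt (K36.f177131 IH) (Lpr_ct (f177127 IH) (Lpn (LP (LK LD1_c5 LD2_c50 LD3_c51)))))))))))))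
theorem f159776 : Led Lsl_cf (LP (LK LD1_c4 LD2_c0 LD3_c6)) = (LP (LK LD1_c3 LD2_c44 LD3_c8)) :=
  Lgr Lrot108 (Lpe (K6.f142241 IH) (Lpe (K8.f159589 IH) (Lpr_ft (K8.f159771 IH) (Lpn (LP (LK LD1_c3 LD2_c44 LD3_c8))))))
theorem f241319 : Led Lsl_dt (LP (LK LD1_c11 LD2_c23 LD3_c41)) = (LP (LK LD1_c11 LD2_c23 LD3_c36)) :=
  Lgr Lrot42 (Lpr_df (K13.f241312 IH) (Lpn (LP (LK LD1_c11 LD2_c23 LD3_c36))))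
theorem f212023 : Led Lsl_gt (LP (LK LD1_c1 LD2_c55 LD3_c28)) = (LP (LK LD1_c1 LD2_c19 LD3_c37)) :=
  Lgr Lrot137 (Lpe (K13.f175008 IH) (Lpr_dt (K12.f211470 IH) (Lpe (K12.f179857 IH) (Lpe (K11.f180115 IH) (Lpr_et (K11.f180123 IH) (Lpe (K12.f212021 IH) (Lpr_ef (K12.f212015 IH) (Lpe (K10.f80962 IH) (Lpe (K10.f80922 IH) (Lpr_df (K12.f198246 IH) (Lpn (LP (LK LD1_c1 LD2_c19 LD3_c37)))))))))))))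
theorem f80973 : Led Lsl_dt (LP (LK LD1_c8 LD2_c43 LD3_c52)) = (LP (LK LD1_c4 LD2_c23 LD3_c1)) :=
  Lre_d IH (LK LD1_c8 LD2_c43 LD3_c52) (LK LD1_c4 LD2_c23 LD3_c1) Lrfl Lrfl
theorem f212025 : Led Lsl_gt (LP (LK LD1_c5 LD2_c46 LD3_c39)) = (LP (LK LD1_c8 LD2_c43 LD3_c52)) :=
  Lgr Lrot49 (Lpe (K13.f60755 IH) (Lpe (K13.f60753 IH) (Lpr_cf (K1.f60429 IH) (Lpr_gt (K13.f60635 IH) (Lpe (K13.f175006 IH) (Lpr_gt (f212023 IH) (Lpe (K12.f198246 IH) (Lpe (K36.f80970 IH) (Lpe (f80973 IH) (Lpn (LP (LK LD1_c8 LD2_c43 LD3_c52))))))))))))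
theorem f212027 : Led Lsl_ct (LP (LK LD1_c11 LD2_c23 LD3_c41)) = (LP (LK LD1_c5 LD2_c46 LD3_c44)) :=
  Lre_c IH (LK LD1_c11 LD2_c23 LD3_c41) (LK LD1_c5 LD2_c46 LD3_c44) Lrfl Lrfl
theorem f212028 : Led Lsl_ct (LP (LK LD1_c8 LD2_c43 LD3_c52)) = (LP (LK LD1_c16 LD2_c21 LD3_c0)) :=
  Lre_c IH (LK LD1_c8 LD2_c43 LD3_c52) (LK LD1_c16 LD2_c21 LD3_c0) Lrfl Lrfl
theorem f212029 : Led Lsl_gf (LP (LK LD1_c11 LD2_c23 LD3_c41)) = (LP (LK LD1_c16 LD2_c21 LD3_c0)) :=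
  Lgr Lrot104 (Lpr_ct (f212027 IH) (Lpe (K13.f175845 IH) (Lpe (K10.f175831 IH) (Lpe (K10.f68603 IH) (Lpe (K1.f59282 IH) (Lpe (K13.f60606 IH) (Lpe (K13.f60607 IH) (Lpr_gt (f212025 IH) (Lpr_ct (f212028 IH) (Lpn (LP (LK LD1_c16 LD2_c21 LD3_c0))))))))))))
theorem f197846 : Led Lsl_ct (LP (LK LD1_c16 LD2_c21 LD3_c0)) = (LP (LK LD1_c8 LD2_c43 LD3_c52)) :=
  Lre_c IH (LK LD1_c16 LD2_c21 LD3_c0) (LK LD1_c8 LD2_c43 LD3_c52) Lrfl Lrfl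
theorem f241332 : Led Lsl_gt (LP (LK LD1_c8 LD2_c43 LD3_c52)) = (LP (LK LD1_c5 LD2_c46 LD3_c36)) :=
  Lgr Lrot94 (Lpe (f197846 IH) (Lpe (f212029 IH) (Lpr_dt (f241319 IH) (Lpr_gt (K13.f60629 IH) (Lpr_dt (K1.f60486 IH) (Lpe (K1.f60622 IH) (Lpe (K1.f56457 IH) (Lpr_gf (K10.f60772 IH) (Lpe (K13.f59294 IH) (Lpn (LP (LK LD1_c5 LD2_c46 LD3_c36))))))))))))
theorem f80974 : Led Lsl_dt (LP (LK LD1_c4 LD2_c23 LD3_c1)) = (LP (LK LD1_c8 LD2_c43 LD3_c52)) :=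
  Lre_d IH (LK LD1_c4 LD2_c23 LD3_c1) (LK LD1_c8 LD2_c43 LD3_c52) Lrfl Lrfl
theorem f198250 : Led Lsl_ct (LP (LK LD1_c2 LD2_c50 LD3_c58)) = (LP (LK LD1_c1 LD2_c21 LD3_c28)) :=
  Lre_c IH (LK LD1_c2 LD2_c50 LD3_c58) (LK LD1_c1 LD2_c21 LD3_c28) Lrfl Lrfl
theorem f198251 : Led Lsl_et (LP (LK LD1_c4 LD2_c23 LD3_c1)) = (LP (LK LD1_c2 LD2_c50 LD3_c58)) :=
  Lgr Lrot158 (Lpe (K10.f80967 IH) (Lpr_ef (K10.f198248 IH) (Lpe (f198250 IH) (Lpn (LP (LK LD1_c2 LD2_c50 LD3_c58))))))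
theorem f241480 : Led Lsl_gf (LP (LK LD1_c2 LD2_c50 LD3_c58)) = (LP (LK LD1_c4 LD2_c26 LD3_c58)) :=
  Lgr Lrot141 (Lpe (f198251 IH) (Lpr_dt (f80974 IH) (Lpr_gt (f241332 IH) (Lpe (K13.f60774 IH) (Lpr_et (K13.f69372 IH) (Lpr_gt (K13.f241474 IH) (Lpe (K13.f198054 IH) (Lpe (K13.f241478 IH) (Lpe (K12.f101314 IH) (Lpr_et (K36.f198005 IH) (Lpn (LP (LK LD1_c4 LD2_c26 LD3_c58)))))))))))))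
theorem f36303 : Led Lsl_et (LP (LK LD1_c0 LD2_c10 LD3_c59)) = (LP (LK LD1_c0 LD2_c24 LD3_c35)) :=
  Lre_e IH (LK LD1_c0 LD2_c10 LD3_c59) (LK LD1_c0 LD2_c24 LD3_c35) Lrfl Lrfl
theorem f24569 : Led Lsl_dt (LP (LK LD1_c0 LD2_c37 LD3_c35)) = (LP (LK LD1_c1 LD2_c21 LD3_c28)) :=
  Lre_d IH (LK LD1_c0 LD2_c37 LD3_c35) (LK LD1_c1 LD2_c21 LD3_c28) Lrfl Lrfl
theorem f198258 : Led Lsl_gf (LP (LK LD1_c2 LD2_c0 LD3_c2)) = (LP (LK LD1_c1 LD2_c21 LD3_c28)) :=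
  Lgr Lrot134 (Lpr_df (K13.f196377 IH) (Lpr_et (K13.f174951 IH) (Lpr_gt (K9.f174944 IH) (Lpe (f36303 IH) (Lpr_dt (K1.f36297 IH) (Lpr_gt (K1.f28467 IH) (Lpe (K9.f37915 IH) (Lpr_et (K10.f37916 IH) (Lpr_gt (K10.f198253 IH) (Lpr_dt (f24569 IH) (Lpn (LP (LK LD1_c1 LD2_c21 LD3_c28)))))))))))))
theorem f542919 : Led Lsl_cf (LP (LK LD1_c1 LD2_c56 LD3_c49)) = (LP (LK LD1_c2 LD2_c0 LD3_c2)) :=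
  Lgr Lrot99 (Lpe (K8.f80877 IH) (Lpr_cf (f159776 IH) (Lpr_gf (f542915 IH) (Lpe (f177127 IH) (Lpe (K36.f177131 IH) (Lpr_df (K36.f239003 IH) (Lpe (f241480 IH) (Lpr_ct (f198250 IH) (Lpe (f198258 IH) (Lpn (LP (LK LD1_c2 LD2_c0 LD3_c2))))))))))))
theorem f11831 : Led Lsl_dt (LP (LK LD1_c1 LD2_c43 LD3_c17)) = (LP (LK LD1_c3 LD2_c33 LD3_c5)) :=
  Lre_d IH (LK LD1_c1 LD2_c43 LD3_c17) (LK LD1_c3 LD2_c33 LD3_c5) Lrfl Lrfl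
theorem f542925 : Led Lsl_ct (LP (LK LD1_c3 LD2_c33 LD3_c5)) = (LP (LK LD1_c2 LD2_c9 LD3_c0)) :=
  Lgr Lrot98 (Lpe (f11831 IH) (Lpe (K8.f11646 IH) (Lpr_df (K8.f142277 IH) (Lpe (K6.f37085 IH) (Lpe (K6.f3032 IH) (Lpr_cf (f542919 IH) (Lpr_df (K13.f196377 IH) (Lpr_ft (K13.f196380 IH) (Lpe (K13.f239364 IH) (Lpn (LP (LK LD1_c2 LD2_c9 LD3_c0))))))))))))
def v2354 : LQ := Led Lsl_gf (LP (LK LD1_c1 LD2_c43 LD3_c17))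
theorem f514930 : Led Lsl_gf (LP (LK LD1_c1 LD2_c43 LD3_c17)) = v2354 :=
  Lrfl
theorem f241387 : Led Lsl_df (LP (LK LD1_c2 LD2_c28 LD3_c1)) = (LP (LK LD1_c2 LD2_c26 LD3_c26)) :=
  Lgr Lrot38 (Lpr_dt (K13.f241383 IH) (Lpn (LP (LK LD1_c2 LD2_c26 LD3_c26))))
theorem f239366 : Led Lsl_at (LP (LK LD1_c2 LD2_c9 LD3_c0)) = (LP (LK LD1_c2 LD2_c26 LD3_c26)) :=
  Lgr Lrot100 (Lpr_af (K13.f239364 IH) (Lpn (LP (LK LD1_c2 LD2_c26 LD3_c26))))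
theorem f241403 : Led Lsl_df (LP (LK LD1_c2 LD2_c9 LD3_c0)) = (LP (LK LD1_c2 LD2_c10 LD3_c43)) :=
  Lgr Lrot18 (Lpr_at (f239366 IH) (Lpe (f241387 IH) (Lpr_at (K13.f241399 IH) (Lpn (LP (LK LD1_c2 LD2_c10 LD3_c43))))))
theorem f239190 : Led Lsl_gf (LP (LK LD1_c1 LD2_c28 LD3_c18)) = (LP (LK LD1_c2 LD2_c9 LD3_c31)) :=
  Lgr Lrot47 (Lpr_gt (K13.f239180 IH) (Lpe (K31.f205431 IH) (Lpe (K14.f205435 IH) (Lpn (LP (LK LD1_c2 LD2_c9 LD3_c31))))))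
theorem f227864 : Led Lsl_dt (LP (LK LD1_c1 LD2_c28 LD3_c18)) = (LP (LK LD1_c3 LD2_c4 LD3_c36)) :=
  Lre_d IH (LK LD1_c1 LD2_c28 LD3_c18) (LK LD1_c3 LD2_c4 LD3_c36) Lrfl Lrfl
theorem f542946 : v2354 = (LP (LK LD1_c3 LD2_c4 LD3_c36)) :=
  (Llr Lrot154 (Lpe (f514930 IH) (Lpr_dt (f11831 IH) (Lpr_ct (f542925 IH) (Lpr_df (f241403 IH) (Lpr_gf (K13.f227556 IH) (Lpe (K10.f185998 IH) (Lpe (K11.f210575 IH) (Lpr_ct (K11.f36477 IH) (Lpe (f239190 IH) (Lpr_dt (f227864 IH) (Lpn (LP (LK LD1_c3 LD2_c4 LD3_c36)))))))))))))).symm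
theorem f80346 : Led Lsl_ct (LP (LK LD1_c6 LD2_c13 LD3_c55)) = (LP (LK LD1_c3 LD2_c3 LD3_c49)) :=
  Lre_c IH (LK LD1_c6 LD2_c13 LD3_c55) (LK LD1_c3 LD2_c3 LD3_c49) Lrfl Lrfl
theorem f160618 : Led Lsl_gf (LP (LK LD1_c4 LD2_c0 LD3_c6)) = (LP (LK LD1_c3 LD2_c3 LD3_c49)) :=
  Lgr Lrot129 (Lpr_cf (f159776 IH) (Lpr_bt (K6.f11303 IH) (Lpr_gt (K6.f11302 IH) (Lpr_bf (K5.f12896 IH) (Lpr_ct (K5.f12927 IH) (Lpr_gt (K8.f159525 IH) (Lpe (K7.f146836 IH) (Lpr_bt (K28.f146821 IH) (Lpe (K36.f159753 IH) (Lpr_ct (f80346 IH) (Lpn (LP (LK LD1_c3 LD2_c3 LD3_c49)))))))))))))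
theorem f36503 : Led Lsl_dt (LP (LK LD1_c3 LD2_c40 LD3_c8)) = (LP (LK LD1_c1 LD2_c47 LD3_c1)) :=
  Lre_d IH (LK LD1_c3 LD2_c40 LD3_c8) (LK LD1_c1 LD2_c47 LD3_c1) Lrfl Lrfl
theorem f514933 : Led Lsl_ct (LP (LK LD1_c3 LD2_c40 LD3_c5)) = v2354 :=
  Lgr Lrot152 (Lpe (K8.f36494 IH) (Lpe (f36503 IH) (Lpe (K36.f159753 IH) (Lpr_ct (f80346 IH) (Lpe (f160618 IH) (Lpr_ct (K6.f37085 IH) (Lpe (K8.f159816 IH) (Lpr_cf (K8.f11741 IH) (Lpr_gf (f514930 IH) (Lpn v2354))))))))))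
theorem f514936 : Led Lsl_cf (LP (LK LD1_c3 LD2_c40 LD3_c5)) = v2354 :=
  Lgr Lrot11 (Lpr_ct (f514933 IH) (Lpn v2354))
theorem f36682 : Led Lsl_bt (LP (LK LD1_c12 LD2_c5 LD3_c54)) = (LP (LK LD1_c6 LD2_c13 LD3_c37)) :=
  Lre_b IH (LK LD1_c12 LD2_c5 LD3_c54) (LK LD1_c6 LD2_c13 LD3_c37) Lrfl Lrfl
theorem f30625 : Led Lsl_bt (LP (LK LD1_c4 LD2_c0 LD3_c13)) = (LP (LK LD1_c8 LD2_c1 LD3_c20)) :=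
  Lre_b IH (LK LD1_c4 LD2_c0 LD3_c13) (LK LD1_c8 LD2_c1 LD3_c20) Lrfl Lrfl
theorem f36683 : Led Lsl_ef (LP (LK LD1_c12 LD2_c5 LD3_c54)) = (LP (LK LD1_c8 LD2_c1 LD3_c20)) :=
  Lgr Lrot29 (Lpr_bt (f36682 IH) (Lpr_et (K1.f36663 IH) (Lpr_bt (f30625 IH) (Lpn (LP (LK LD1_c8 LD2_c1 LD3_c20))))))
theorem f445761 : Led Lsl_et (LP (LK LD1_c12 LD2_c5 LD3_c54)) = (LP (LK LD1_c8 LD2_c1 LD3_c20)) :=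
  Lgr Lrot87 (Lpr_ef (f36683 IH) (Lpn (LP (LK LD1_c8 LD2_c1 LD3_c20))))
theorem f101850 : Led Lsl_ct (LP (LK LD1_c21 LD2_c11 LD3_c39)) = (LP (LK LD1_c12 LD2_c5 LD3_c54)) :=
  Lre_c IH (LK LD1_c21 LD2_c11 LD3_c39) (LK LD1_c12 LD2_c5 LD3_c54) Lrfl Lrfl
theorem f30083 : Led Lsl_ct (LP (LK LD1_c8 LD2_c1 LD3_c20)) = (LP (LK LD1_c15 LD2_c6 LD3_c15)) :=
  Lre_c IH (LK LD1_c8 LD2_c1 LD3_c20) (LK LD1_c15 LD2_c6 LD3_c15) Lrfl Lrfl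
theorem f445768 : Led Lsl_ef (LP (LK LD1_c21 LD2_c11 LD3_c39)) = (LP (LK LD1_c15 LD2_c6 LD3_c15)) :=
  Lgr Lrot28 (Lpr_ct (f101850 IH) (Lpr_et (f445761 IH) (Lpr_ct (f30083 IH) (Lpn (LP (LK LD1_c15 LD2_c6 LD3_c15))))))
theorem f443871 : Led Lsl_ft (LP (LK LD1_c21 LD2_c11 LD3_c39)) = (LP (LK LD1_c12 LD2_c5 LD3_c51)) :=
  Lre_f IH (LK LD1_c21 LD2_c11 LD3_c39) (LK LD1_c12 LD2_c5 LD3_c51) Lrfl Lrfl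
theorem f443877 : Led Lsl_et (LP (LK LD1_c12 LD2_c5 LD3_c51)) = (LP (LK LD1_c6 LD2_c13 LD3_c32)) :=
  Lre_e IH (LK LD1_c12 LD2_c5 LD3_c51) (LK LD1_c6 LD2_c13 LD3_c32) Lrfl Lrfl
theorem f443870 : Led Lsl_ft (LP (LK LD1_c8 LD2_c1 LD3_c17)) = (LP (LK LD1_c15 LD2_c6 LD3_c15)) :=
  Lre_f IH (LK LD1_c8 LD2_c1 LD3_c17) (LK LD1_c15 LD2_c6 LD3_c15) Lrfl Lrfl
theorem f36501 : Led Lsl_et (LP (LK LD1_c4 LD2_c0 LD3_c9)) = (LP (LK LD1_c8 LD2_c1 LD3_c17)) :=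
  Lre_e IH (LK LD1_c4 LD2_c0 LD3_c9) (LK LD1_c8 LD2_c1 LD3_c17) Lrfl Lrfl
theorem f445774 : Led Lsl_ft (LP (LK LD1_c6 LD2_c13 LD3_c32)) = (LP (LK LD1_c4 LD2_c0 LD3_c9)) :=
  Lgr Lrot86 (Lpe (f443877 IH) (Lpe (f443871 IH) (Lpr_ef (f445768 IH) (Lpe (f443870 IH) (Lpe (f36501 IH) (Lpn (LP (LK LD1_c4 LD2_c0 LD3_c9))))))))
theorem f30091 : Led Lsl_bt (LP (LK LD1_c0 LD2_c55 LD3_c13)) = (LP (LK LD1_c1 LD2_c56 LD3_c52)) :=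
  Lre_b IH (LK LD1_c0 LD2_c55 LD3_c13) (LK LD1_c1 LD2_c56 LD3_c52) Lrfl Lrfl
theorem f3029 : Led Lsl_ct (LP (LK LD1_c1 LD2_c56 LD3_c52)) = (LP (LK LD1_c4 LD2_c0 LD3_c9)) :=
  Lre_c IH (LK LD1_c1 LD2_c56 LD3_c52) (LK LD1_c4 LD2_c0 LD3_c9) Lrfl Lrfl
theorem f36642 : Led Lsl_bt (LP (LK LD1_c3 LD2_c3 LD3_c37)) = (LP (LK LD1_c1 LD2_c27 LD3_c47)) :=
  Lre_b IH (LK LD1_c3 LD2_c3 LD3_c37) (LK LD1_c1 LD2_c27 LD3_c47) Lrfl Lrfl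
theorem f80886 : Led Lsl_ct (LP (LK LD1_c6 LD2_c13 LD3_c32)) = (LP (LK LD1_c3 LD2_c3 LD3_c37)) :=
  Lre_c IH (LK LD1_c6 LD2_c13 LD3_c32) (LK LD1_c3 LD2_c3 LD3_c37) Lrfl Lrfl
theorem f443859 : Led Lsl_bt (LP (LK LD1_c4 LD2_c0 LD3_c9)) = (LP (LK LD1_c6 LD2_c13 LD3_c32)) :=
  Lgr Lrot128 (Lpe (f3029 IH) (Lpe (f30091 IH) (Lpr_cf (K4.f59707 IH) (Lpe (f36642 IH) (Lpe (f80886 IH) (Lpn (LP (LK LD1_c6 LD2_c13 LD3_c32))))))))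
theorem f3036 : Led Lsl_ct (LP (LK LD1_c4 LD2_c0 LD3_c9)) = (LP (LK LD1_c1 LD2_c56 LD3_c52)) :=
  Lre_c IH (LK LD1_c4 LD2_c0 LD3_c9) (LK LD1_c1 LD2_c56 LD3_c52) Lrfl Lrfl
theorem f36495 : Led Lsl_dt (LP (LK LD1_c3 LD2_c40 LD3_c5)) = (LP (LK LD1_c4 LD2_c0 LD3_c9)) :=
  Lgr Lrot182 (Lpe (K8.f36494 IH) (Lpe (K8.f12404 IH) (Lpe (K4.f12369 IH) (Lpe (K4.f4899 IH) (Lpe (K1.f4898 IH) (Lpe (K0.f4477 IH) (Lpr_cf (K0.f12335 IH) (Lpe (K0.f3815 IH) (Lpe (K0.f11013 IH) (Lpe (K0.f162 IH) (Lpe (K0.f26730 IH) (Lpr_df (K1.f36284 IH) (Lpe (K1.f25958 IH) (Lpr_bf (K1.f36487 IH) (Lpe (K1.f35822 IH) (Lpe (K1.f35823 IH) (Lpe (K1.f35824 IH) (Lpe (K35.f30704 IH) (Lpe (f3036 IH) (Lpn (LP (LK LD1_c4 LD2_c0 LD3_c9))))))))))))))))))))))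
theorem f443863 : Led Lsl_df (LP (LK LD1_c3 LD2_c42 LD3_c13)) = (LP (LK LD1_c6 LD2_c13 LD3_c32)) :=
  Lgr Lrot12 (Lpr_bt (K8.f160592 IH) (Lpr_dt (f36495 IH) (Lpr_bt (f443859 IH) (Lpn (LP (LK LD1_c6 LD2_c13 LD3_c32))))))
theorem f443875 : Led Lsl_dt (LP (LK LD1_c3 LD2_c42 LD3_c13)) = (LP (LK LD1_c6 LD2_c13 LD3_c32)) :=
  Lgr Lrot42 (Lpr_df (f443863 IH) (Lpn (LP (LK LD1_c6 LD2_c13 LD3_c32))))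
theorem f36498 : Led Lsl_df (LP (LK LD1_c3 LD2_c40 LD3_c5)) = (LP (LK LD1_c4 LD2_c0 LD3_c9)) :=
  Lgr Lrot38 (Lpr_dt (f36495 IH) (Lpn (LP (LK LD1_c4 LD2_c0 LD3_c9))))
theorem f445776 : Led Lsl_ff (LP (LK LD1_c3 LD2_c42 LD3_c13)) = (LP (LK LD1_c3 LD2_c40 LD3_c5)) :=
  Lgr Lrot19 (Lpr_dt (f443875 IH) (Lpr_ft (f445774 IH) (Lpe (f36498 IH) (Lpn (LP (LK LD1_c3 LD2_c40 LD3_c5))))))
theorem f514938 : Led Lsl_ft (LP (LK LD1_c3 LD2_c36 LD3_c36)) = v2354 :=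
  Lgr Lrot4 (Lpe (K8.f159807 IH) (Lpr_ff (f445776 IH) (Lpr_cf (f514936 IH) (Lpn v2354))))
theorem f182403 : Led Lsl_dt (LP (LK LD1_c3 LD2_c4 LD3_c36)) = (LP (LK LD1_c1 LD2_c28 LD3_c18)) :=
  Lre_d IH (LK LD1_c3 LD2_c4 LD3_c36) (LK LD1_c1 LD2_c28 LD3_c18) Lrfl Lrfl
theorem f542960 : Led Lsl_df (LP (LK LD1_c3 LD2_c36 LD3_c36)) = (LP (LK LD1_c2 LD2_c9 LD3_c28)) :=
  Lgr Lrot78 (Lpr_ft (f514938 IH) (Lpqs (f542946 IH) (Lpr_dt (f182403 IH) (Lpr_ft (K31.f453058 IH) (Lpn (LP (LK LD1_c2 LD2_c9 LD3_c28)))))))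
theorem f227756 : Led Lsl_dt (LP (LK LD1_c3 LD2_c4 LD3_c27)) = (LP (LK LD1_c1 LD2_c28 LD3_c13)) :=
  Lre_d IH (LK LD1_c3 LD2_c4 LD3_c27) (LK LD1_c1 LD2_c28 LD3_c13) Lrfl Lrfl
theorem f542992 : K36.v2431 = (LP (LK LD1_c3 LD2_c4 LD3_c27)) :=
  (Llr Lrot110 (Lpe (K36.f519701 IH) (Lpe (K8.f142718 IH) (Lpr_cf (K8.f159796 IH) (Lpe (K8.f10239 IH) (Lpr_df (f542960 IH) (Lpe (K31.f272460 IH) (Lpr_ct (K35.f210467 IH) (Lpr_gt (K12.f227730 IH) (Lpe (K12.f227743 IH) (Lpe (f227756 IH) (Lpn (LP (LK LD1_c3 LD2_c4 LD3_c27)))))))))))))).symm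
theorem f542999 : K36.v2357 = (LP (LK LD1_c2 LD2_c50 LD3_c57)) :=
  Lefun (Lecon (Lfl_ff (K36.f519703 IH)) (f542992 IH)) (K36.f449960 IH)
theorem f543004 : K36.v2432 = (LP (LK LD1_c3 LD2_c4 LD3_c24)) :=
  Lefun (Lecon (K36.f519713 IH) (f542999 IH)) (Lfl_af (K36.f449927 IH))
theorem f519714 : Led Lsl_ft (LP (LK LD1_c3 LD2_c33 LD3_c35)) = K36.v2432 :=
  Lgr Lrot4 (Lpe (K8.f155664 IH) (Lpr_ff (K8.f162034 IH) (Lpr_cf (K36.f519712 IH) (Lpn K36.v2432))))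
theorem f155685 : Led Lsl_et (LP (LK LD1_c7 LD2_c8 LD3_c2)) = (LP (LK LD1_c3 LD2_c33 LD3_c35)) :=
  Lre_e IH (LK LD1_c7 LD2_c8 LD3_c2) (LK LD1_c3 LD2_c33 LD3_c35) Lrfl Lrfl
theorem f160615 : Led Lsl_et (LP (LK LD1_c7 LD2_c49 LD3_c53)) = (LP (LK LD1_c3 LD2_c54 LD3_c9)) :=
  Lre_e IH (LK LD1_c7 LD2_c49 LD3_c53) (LK LD1_c3 LD2_c54 LD3_c9) Lrfl Lrfl
theorem f489339 : Led Lsl_ef (LP (LK LD1_c7 LD2_c52 LD3_c18)) = (LP (LK LD1_c7 LD2_c50 LD3_c21)) :=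
  Lgr Lrot21 (Lpr_ft (K33.f485450 IH) (Lpr_et (f160615 IH) (Lpe (K8.f162034 IH) (Lpr_et (K8.f155652 IH) (Lpr_ft (K34.f489323 IH) (Lpn (LP (LK LD1_c7 LD2_c50 LD3_c21))))))))
theorem f515982 : Led Lsl_ef (LP (LK LD1_c7 LD2_c14 LD3_c46)) = (LP (LK LD1_c7 LD2_c8 LD3_c44)) :=
  Lgr Lrot28 (Lpr_ct (K33.f489307 IH) (Lpe (f489339 IH) (Lpr_ct (K33.f515975 IH) (Lpn (LP (LK LD1_c7 LD2_c8 LD3_c44))))))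
theorem f38068 : Led Lsl_et (LP (LK LD1_c3 LD2_c4 LD3_c24)) = (LP (LK LD1_c6 LD2_c14 LD3_c59)) :=
  Lre_e IH (LK LD1_c3 LD2_c4 LD3_c24) (LK LD1_c6 LD2_c14 LD3_c59) Lrfl Lrfl
theorem f543015 : Led Lsl_ff (LP (LK LD1_c7 LD2_c8 LD3_c44)) = (LP (LK LD1_c6 LD2_c14 LD3_c59)) :=
  Lgr Lrot72 (Lpe (f515982 IH) (Lpr_ft (K34.f489261 IH) (Lpr_et (f155685 IH) (Lpr_ft (f519714 IH) (Lpqs (f543004 IH) (Lpr_et (f38068 IH) (Lpn (LP (LK LD1_c6 LD2_c14 LD3_c59)))))))))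
theorem f543025 : Led Lsl_ft (LP (LK LD1_c7 LD2_c8 LD3_c44)) = (LP (LK LD1_c6 LD2_c14 LD3_c59)) :=
  Lgr Lrot48 (Lpr_ff (f543015 IH) (Lpn (LP (LK LD1_c6 LD2_c14 LD3_c59))))
theorem f449920 : Led Lsl_at (LP (LK LD1_c6 LD2_c14 LD3_c59)) = (LP (LK LD1_c5 LD2_c49 LD3_c40)) :=
  Lgr Lrot100 (Lpr_af (K36.f449918 IH) (Lpn (LP (LK LD1_c5 LD2_c49 LD3_c40))))
theorem f543035 : Led Lsl_gt (LP (LK LD1_c3 LD2_c33 LD3_c53)) = (LP (LK LD1_c5 LD2_c49 LD3_c40)) :=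
  Lgr Lrot46 (Lpe (K33.f456599 IH) (Lpr_ft (f543025 IH) (Lpr_at (f449920 IH) (Lpn (LP (LK LD1_c5 LD2_c49 LD3_c40))))))
theorem f524055 : Led Lsl_et (LP (LK LD1_c7 LD2_c8 LD3_c47)) = (LP (LK LD1_c13 LD2_c32 LD3_c6)) :=
  Lre_e IH (LK LD1_c7 LD2_c8 LD3_c47) (LK LD1_c13 LD2_c32 LD3_c6) Lrfl Lrfl
theorem f543049 : Led Lsl_gf (LP (LK LD1_c13 LD2_c32 LD3_c6)) = (LP (LK LD1_c9 LD2_c47 LD3_c17)) :=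
  Lgr Lrot141 (Lpe (f524055 IH) (Lpr_dt (K34.f456597 IH) (Lpr_gt (f543035 IH) (Lpe (K36.f210722 IH) (Lpr_et (K36.f210721 IH) (Lpr_gt (K12.f210715 IH) (Lpr_dt (K12.f27259 IH) (Lpe (K10.f198296 IH) (Lpe (K12.f198075 IH) (Lpr_et (K36.f198299 IH) (Lpn (LP (LK LD1_c9 LD2_c47 LD3_c17)))))))))))))
theorem f543051 : Led Lsl_gt (LP (LK LD1_c13 LD2_c32 LD3_c6)) = (LP (LK LD1_c16 LD2_c27 LD3_c40)) :=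
  Lgr Lrot46 (Lpr_gf (f543049 IH) (Lpr_ft (K36.f210707 IH) (Lpe (K36.f449773 IH) (Lpn (LP (LK LD1_c16 LD2_c27 LD3_c40))))))
theorem f515986 : Led Lsl_dt (LP (LK LD1_c13 LD2_c31 LD3_c60)) = (LP (LK LD1_c7 LD2_c8 LD3_c44)) :=
  Lre_d IH (LK LD1_c13 LD2_c31 LD3_c60) (LK LD1_c7 LD2_c8 LD3_c44) Lrfl Lrfl
theorem f449783 : Led Lsl_ef (LP (LK LD1_c16 LD2_c27 LD3_c40)) = (LP (LK LD1_c11 LD2_c32 LD3_c43)) :=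
  Lgr Lrot88 (Lpr_et (K36.f449779 IH) (Lpn (LP (LK LD1_c11 LD2_c32 LD3_c43))))
theorem f418522 : Led Lsl_gt (LP (LK LD1_c26 LD2_c19 LD3_c0)) = (LP (LK LD1_c16 LD2_c20 LD3_c61)) :=
  Lre_g IH (LK LD1_c26 LD2_c19 LD3_c0) (LK LD1_c16 LD2_c20 LD3_c61) Lrfl Lrfl
theorem f449473 : Led Lsl_gt (LP (LK LD1_c20 LD2_c7 LD3_c9)) = (LP (LK LD1_c26 LD2_c19 LD3_c0)) :=
  Lgr Lrot5 (Lpr_ft (K36.f177060 IH) (Lpr_at (K36.f449469 IH) (Lpe (f418522 IH) (Lpn (LP (LK LD1_c26 LD2_c19 LD3_c0))))))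
theorem f418515 : Led Lsl_df (LP (LK LD1_c16 LD2_c20 LD3_c61)) = (LP (LK LD1_c8 LD2_c47 LD3_c49)) :=
  Lgr Lrot38 (Lpr_dt (K36.f418511 IH) (Lpn (LP (LK LD1_c8 LD2_c47 LD3_c49))))
theorem f210754 : Led Lsl_gt (LP (LK LD1_c11 LD2_c8 LD3_c25)) = (LP (LK LD1_c20 LD2_c1 LD3_c60)) :=
  Lre_g IH (LK LD1_c11 LD2_c8 LD3_c25) (LK LD1_c20 LD2_c1 LD3_c60) Lrfl Lrfl
theorem f210778 : Led Lsl_et (LP (LK LD1_c29 LD2_c15 LD3_c27)) = (LP (LK LD1_c20 LD2_c1 LD3_c60)) :=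
  Lre_e IH (LK LD1_c29 LD2_c15 LD3_c27) (LK LD1_c20 LD2_c1 LD3_c60) Lrfl Lrfl
theorem f418544 : Led Lsl_df (LP (LK LD1_c26 LD2_c19 LD3_c0)) = (LP (LK LD1_c29 LD2_c15 LD3_c27)) :=
  Lgr Lrot170 (Lpr_gt (f418522 IH) (Lpr_df (f418515 IH) (Lpr_et (K36.f236569 IH) (Lpe (K13.f236512 IH) (Lpr_dt (K18.f210745 IH) (Lpe (K12.f210729 IH) (Lpe (K12.f24558 IH) (Lpr_et (K36.f210728 IH) (Lpr_gt (f210754 IH) (Lpe (f210778 IH) (Lpn (LP (LK LD1_c29 LD2_c15 LD3_c27)))))))))))))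
theorem f543054 : Led Lsl_gf (LP (LK LD1_c13 LD2_c31 LD3_c60)) = (LP (LK LD1_c20 LD2_c1 LD3_c60)) :=
  Lgr Lrot138 (Lpr_dt (f515986 IH) (Lpr_gt (K33.f456599 IH) (Lpe (K34.f456597 IH) (Lpr_et (f524055 IH) (Lpr_gt (f543051 IH) (Lpr_ef (f449783 IH) (Lpe (K36.f177058 IH) (Lpr_gt (f449473 IH) (Lpr_df (f418544 IH) (Lpr_et (f210778 IH) (Lpn (LP (LK LD1_c20 LD2_c1 LD3_c60)))))))))))))
theorem f543056 : Led Lsl_af (LP (LK LD1_c13 LD2_c31 LD3_c60)) = (LP (LK LD1_c20 LD2_c1 LD3_c61)) :=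
  Lgr Lrot31 (Lpr_gf (f543054 IH) (Lpe (f210754 IH) (Lpr_ft (K36.f449725 IH) (Lpn (LP (LK LD1_c20 LD2_c1 LD3_c61))))))
theorem f227612 : Led Lsl_et (LP (LK LD1_c4 LD2_c25 LD3_c34)) = (LP (LK LD1_c8 LD2_c48 LD3_c41)) :=
  Lre_e IH (LK LD1_c4 LD2_c25 LD3_c34) (LK LD1_c8 LD2_c48 LD3_c41) Lrfl Lrfl
theorem f272712 : Led Lsl_ft (LP (LK LD1_c8 LD2_c48 LD3_c41)) = (LP (LK LD1_c16 LD2_c29 LD3_c3)) :=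
  Lre_f IH (LK LD1_c8 LD2_c48 LD3_c41) (LK LD1_c16 LD2_c29 LD3_c3) Lrfl Lrfl
theorem f449716 : Led Lsl_ft (LP (LK LD1_c20 LD2_c1 LD3_c61)) = (LP (LK LD1_c11 LD2_c8 LD3_c25)) :=
  Lre_f IH (LK LD1_c20 LD2_c1 LD3_c61) (LK LD1_c11 LD2_c8 LD3_c25) Lrfl Lrfl
theorem f449717 : Led Lsl_et (LP (LK LD1_c16 LD2_c29 LD3_c3)) = (LP (LK LD1_c20 LD2_c1 LD3_c61)) :=
  Lgr Lrot69 (Lpe (f272712 IH) (Lpe (f227612 IH) (Lpr_ff (K36.f449710 IH) (Lpe (K36.f210721 IH) (Lpe (f449716 IH) (Lpn (LP (LK LD1_c20 LD2_c1 LD3_c61))))))))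
theorem f272797 : Led Lsl_ft (LP (LK LD1_c21 LD2_c4 LD3_c23)) = (LP (LK LD1_c11 LD2_c59 LD3_c38)) :=
  Lre_f IH (LK LD1_c21 LD2_c4 LD3_c23) (LK LD1_c11 LD2_c59 LD3_c38) Lrfl Lrfl
theorem f449692 : Led Lsl_at (LP (LK LD1_c16 LD2_c29 LD3_c3)) = (LP (LK LD1_c21 LD2_c4 LD3_c23)) :=
  Lgr Lrot66 (Lpe (f272712 IH) (Lpr_af (K36.f449682 IH) (Lpe (f272797 IH) (Lpn (LP (LK LD1_c21 LD2_c4 LD3_c23))))))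
theorem f449696 : Led Lsl_af (LP (LK LD1_c16 LD2_c29 LD3_c3)) = (LP (LK LD1_c21 LD2_c4 LD3_c23)) :=
  Lgr Lrot0 (Lpr_at (f449692 IH) (Lpn (LP (LK LD1_c21 LD2_c4 LD3_c23))))
theorem f543062 : Led Lsl_et (LP (LK LD1_c13 LD2_c31 LD3_c60)) = (LP (LK LD1_c21 LD2_c4 LD3_c23)) :=
  Lgr Lrot123 (Lpr_af (f543056 IH) (Lpe (f449717 IH) (Lpr_af (f449696 IH) (Lpn (LP (LK LD1_c21 LD2_c4 LD3_c23))))))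
theorem f543068 : Led Lsl_ef (LP (LK LD1_c13 LD2_c31 LD3_c60)) = (LP (LK LD1_c21 LD2_c4 LD3_c23)) :=
  Lgr Lrot88 (Lpr_et (f543062 IH) (Lpn (LP (LK LD1_c21 LD2_c4 LD3_c23))))
theorem f418523 : Led Lsl_gt (LP (LK LD1_c8 LD2_c47 LD3_c49)) = (LP (LK LD1_c16 LD2_c27 LD3_c43)) :=
  Lre_g IH (LK LD1_c8 LD2_c47 LD3_c49) (LK LD1_c16 LD2_c27 LD3_c43) Lrfl Lrfl
theorem f449461 : Led Lsl_gf (LP (LK LD1_c11 LD2_c32 LD3_c43)) = (LP (LK LD1_c16 LD2_c27 LD3_c43)) :=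
  Lgr Lrot76 (Lpr_af (K36.f449453 IH) (Lpe (K36.f418518 IH) (Lpr_gt (f418523 IH) (Lpn (LP (LK LD1_c16 LD2_c27 LD3_c43))))))
theorem f418557 : Led Lsl_et (LP (LK LD1_c26 LD2_c24 LD3_c56)) = (LP (LK LD1_c16 LD2_c27 LD3_c43)) :=
  Lre_e IH (LK LD1_c26 LD2_c24 LD3_c56) (LK LD1_c16 LD2_c27 LD3_c43) Lrfl Lrfl
theorem f38360 : Led Lsl_gt (LP (LK LD1_c26 LD2_c26 LD3_c7)) = (LP (LK LD1_c16 LD2_c29 LD3_c2)) :=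
  Lre_g IH (LK LD1_c26 LD2_c26 LD3_c7) (LK LD1_c16 LD2_c29 LD3_c2) Lrfl Lrfl
theorem f227666 : Led Lsl_et (LP (LK LD1_c4 LD2_c25 LD3_c6)) = (LP (LK LD1_c8 LD2_c47 LD3_c49)) :=
  Lre_e IH (LK LD1_c4 LD2_c25 LD3_c6) (LK LD1_c8 LD2_c47 LD3_c49) Lrfl Lrfl
theorem f418558 : Led Lsl_df (LP (LK LD1_c26 LD2_c26 LD3_c7)) = (LP (LK LD1_c26 LD2_c24 LD3_c56)) :=
  Lgr Lrot170 (Lpr_gt (f38360 IH) (Lpe (K36.f38359 IH) (Lpr_et (K36.f38358 IH) (Lpr_gt (K12.f38355 IH) (Lpr_dt (K1.f27254 IH) (Lpr_gt (K13.f227655 IH) (Lpe (K18.f227657 IH) (Lpr_et (f227666 IH) (Lpr_gt (f418523 IH) (Lpe (f418557 IH) (Lpn (LP (LK LD1_c26 LD2_c24 LD3_c56)))))))))))))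
theorem f515981 : Led Lsl_dt (LP (LK LD1_c7 LD2_c8 LD3_c44)) = (LP (LK LD1_c13 LD2_c31 LD3_c60)) :=
  Lre_d IH (LK LD1_c7 LD2_c8 LD3_c44) (LK LD1_c13 LD2_c31 LD3_c60) Lrfl Lrfl
theorem f515989 : Led Lsl_et (LP (LK LD1_c7 LD2_c14 LD3_c46)) = (LP (LK LD1_c7 LD2_c8 LD3_c44)) :=
  Lgr Lrot87 (Lpr_ef (f515982 IH) (Lpn (LP (LK LD1_c7 LD2_c8 LD3_c44))))
theorem f489264 : Led Lsl_dt (LP (LK LD1_c13 LD2_c42 LD3_c35)) = (LP (LK LD1_c7 LD2_c14 LD3_c46)) :=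
  Lre_d IH (LK LD1_c13 LD2_c42 LD3_c35) (LK LD1_c7 LD2_c14 LD3_c46) Lrfl Lrfl
theorem f489278 : Led Lsl_et (LP (LK LD1_c23 LD2_c8 LD3_c32)) = (LP (LK LD1_c13 LD2_c42 LD3_c35)) :=
  Lre_e IH (LK LD1_c23 LD2_c8 LD3_c32) (LK LD1_c13 LD2_c42 LD3_c35) Lrfl Lrfl
theorem f543066 : Led Lsl_df (LP (LK LD1_c23 LD2_c8 LD3_c32)) = (LP (LK LD1_c21 LD2_c4 LD3_c23)) :=
  Lgr Lrot70 (Lpr_et (f489278 IH) (Lpr_dt (f489264 IH) (Lpr_et (f515989 IH) (Lpr_dt (f515981 IH) (Lpr_et (f543062 IH) (Lpn (LP (LK LD1_c21 LD2_c4 LD3_c23))))))))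
theorem f543074 : Led Lsl_gf (LP (LK LD1_c26 LD2_c26 LD3_c7)) = (LP (LK LD1_c23 LD2_c8 LD3_c32)) :=
  Lgr Lrot145 (Lpr_df (f418558 IH) (Lpr_et (f418557 IH) (Lpe (f449461 IH) (Lpe (K36.f177058 IH) (Lpr_gt (f449473 IH) (Lpr_df (f418544 IH) (Lpr_et (f210778 IH) (Lpe (f543054 IH) (Lpr_ef (f543068 IH) (Lpe (f543066 IH) (Lpn (LP (LK LD1_c23 LD2_c8 LD3_c32)))))))))))))
theorem f241110 : Led Lsl_ef (LP (LK LD1_c8 LD2_c51 LD3_c37)) = (LP (LK LD1_c16 LD2_c29 LD3_c2)) :=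
  Lgr Lrot88 (Lpr_et (K36.f241085 IH) (Lpn (LP (LK LD1_c16 LD2_c29 LD3_c2))))
theorem f449652 : Led Lsl_af (LP (LK LD1_c16 LD2_c29 LD3_c2)) = (LP (LK LD1_c21 LD2_c4 LD3_c22)) :=
  Lgr Lrot50 (Lpe (f241110 IH) (Lpr_at (K36.f449648 IH) (Lpe (K36.f229375 IH) (Lpn (LP (LK LD1_c21 LD2_c4 LD3_c22))))))
theorem f543076 : Led Lsl_ff (LP (LK LD1_c21 LD2_c4 LD3_c22)) = (LP (LK LD1_c23 LD2_c8 LD3_c32)) :=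
  Lgr Lrot52 (Lpe (f449652 IH) (Lpe (f38360 IH) (Lpr_gf (f543074 IH) (Lpn (LP (LK LD1_c23 LD2_c8 LD3_c32))))))
theorem f543084 : Led Lsl_ft (LP (LK LD1_c21 LD2_c4 LD3_c22)) = (LP (LK LD1_c23 LD2_c8 LD3_c32)) :=
  Lgr Lrot48 (Lpr_ff (f543076 IH) (Lpn (LP (LK LD1_c23 LD2_c8 LD3_c32))))
theorem f449616 : Led Lsl_ft (LP (LK LD1_c8 LD2_c51 LD3_c36)) = (LP (LK LD1_c12 LD2_c5 LD3_c6)) :=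
  Lgr Lrot54 (Lpr_df (K13.f198054 IH) (Lpr_ff (K36.f449614 IH) (Lpr_df (K12.f229373 IH) (Lpn (LP (LK LD1_c12 LD2_c5 LD3_c6))))))
theorem f489258 : Led Lsl_dt (LP (LK LD1_c7 LD2_c14 LD3_c46)) = (LP (LK LD1_c13 LD2_c42 LD3_c35)) :=
  Lre_d IH (LK LD1_c7 LD2_c14 LD3_c46) (LK LD1_c13 LD2_c42 LD3_c35) Lrfl Lrfl
theorem f155677 : Led Lsl_dt (LP (LK LD1_c13 LD2_c30 LD3_c49)) = (LP (LK LD1_c7 LD2_c8 LD3_c2)) :=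
  Lre_d IH (LK LD1_c13 LD2_c30 LD3_c49) (LK LD1_c7 LD2_c8 LD3_c2) Lrfl Lrfl
theorem f489271 : Led Lsl_ft (LP (LK LD1_c13 LD2_c42 LD3_c35)) = (LP (LK LD1_c13 LD2_c30 LD3_c49)) :=
  Lgr Lrot54 (Lpe (f489258 IH) (Lpr_ff (K34.f489267 IH) (Lpe (f155677 IH) (Lpn (LP (LK LD1_c13 LD2_c30 LD3_c49))))))
theorem f543090 : Led Lsl_ef (LP (LK LD1_c8 LD2_c51 LD3_c36)) = (LP (LK LD1_c13 LD2_c30 LD3_c49)) :=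
  Lgr Lrot21 (Lpr_ft (f449616 IH) (Lpe (K36.f229375 IH) (Lpr_ft (f543084 IH) (Lpr_et (f489278 IH) (Lpr_ft (f489271 IH) (Lpn (LP (LK LD1_c13 LD2_c30 LD3_c49))))))))
theorem f16537 : Led Lsl_gt (LP (LK LD1_c4 LD2_c26 LD3_c54)) = (LP (LK LD1_c8 LD2_c51 LD3_c33)) :=
  Lre_g IH (LK LD1_c4 LD2_c26 LD3_c54) (LK LD1_c8 LD2_c51 LD3_c33) Lrfl Lrfl
theorem f528979 : Led Lsl_ff (LP (LK LD1_c6 LD2_c55 LD3_c35)) = (LP (LK LD1_c7 LD2_c53 LD3_c11)) :=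
  Lgr Lrot25 (Lpr_bt (K29.f455111 IH) (Lpr_ft (K35.f528973 IH) (Lpr_bt (K33.f485354 IH) (Lpn (LP (LK LD1_c7 LD2_c53 LD3_c11))))))
theorem f477126 : Led Lsl_at (LP (LK LD1_c6 LD2_c55 LD3_c35)) = (LP (LK LD1_c13 LD2_c9 LD3_c17)) :=
  Lre_a IH (LK LD1_c6 LD2_c55 LD3_c35) (LK LD1_c13 LD2_c9 LD3_c17) Lrfl Lrfl
theorem f528987 : Led Lsl_gf (LP (LK LD1_c13 LD2_c9 LD3_c17)) = (LP (LK LD1_c14 LD2_c52 LD3_c37)) :=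
  Lgr Lrot76 (Lpe (f477126 IH) (Lpr_ff (f528979 IH) (Lpr_gt (K33.f485358 IH) (Lpn (LP (LK LD1_c14 LD2_c52 LD3_c37))))))
theorem f459791 : Led Lsl_bt (LP (LK LD1_c3 LD2_c48 LD3_c56)) = (LP (LK LD1_c1 LD2_c51 LD3_c27)) :=
  Lre_b IH (LK LD1_c3 LD2_c48 LD3_c56) (LK LD1_c1 LD2_c51 LD3_c27) Lrfl Lrfl
theorem f63886 : Led Lsl_et (LP (LK LD1_c1 LD2_c41 LD3_c42)) = (LP (LK LD1_c0 LD2_c47 LD3_c23)) :=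
  Lre_e IH (LK LD1_c1 LD2_c41 LD3_c42) (LK LD1_c0 LD2_c47 LD3_c23) Lrfl Lrfl
theorem f63628 : Led Lsl_et (LP (LK LD1_c0 LD2_c23 LD3_c49)) = (LP (LK LD1_c0 LD2_c52 LD3_c48)) :=
  Lre_e IH (LK LD1_c0 LD2_c23 LD3_c49) (LK LD1_c0 LD2_c52 LD3_c48) Lrfl Lrfl
def v861 : LQ := Led Lsl_gt (LP (LK LD1_c0 LD2_c52 LD3_c48))
theorem f459819 : Led Lsl_gt (LP (LK LD1_c0 LD2_c52 LD3_c48)) = v861 :=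
  Lrfl
theorem f481982 : Led Lsl_et (LP (LK LD1_c3 LD2_c48 LD3_c58)) = (LP (LK LD1_c1 LD2_c51 LD3_c27)) :=
  Lre_e IH (LK LD1_c3 LD2_c48 LD3_c58) (LK LD1_c1 LD2_c51 LD3_c27) Lrfl Lrfl
theorem f481983 : v861 = (LP (LK LD1_c1 LD2_c51 LD3_c27)) :=
  (Llr Lrot131 (Lpe (f459819 IH) (Lpe (f63628 IH) (Lpr_dt (K1.f17293 IH) (Lpe (K1.f64255 IH) (Lpe (K1.f63494 IH) (Lpe (K3.f11312 IH) (Lpe (f63886 IH) (Lpr_dt (K4.f63887 IH) (Lpe (K32.f64269 IH) (Lpr_df (K32.f481965 IH) (Lpr_et (f481982 IH) (Lpn (LP (LK LD1_c1 LD2_c51 LD3_c27))))))))))))))).symm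
theorem f84957 : Led Lsl_bt (LP (LK LD1_c1 LD2_c52 LD3_c0)) = (LP (LK LD1_c0 LD2_c52 LD3_c48)) :=
  Lre_b IH (LK LD1_c1 LD2_c52 LD3_c0) (LK LD1_c0 LD2_c52 LD3_c48) Lrfl Lrfl
theorem f96384 : Led Lsl_gt (LP (LK LD1_c7 LD2_c41 LD3_c5)) = (LP (LK LD1_c3 LD2_c50 LD3_c3)) :=
  Lre_g IH (LK LD1_c7 LD2_c41 LD3_c5) (LK LD1_c3 LD2_c50 LD3_c3) Lrfl Lrfl
theorem f528991 : Led Lsl_ct (LP (LK LD1_c13 LD2_c9 LD3_c17)) = (LP (LK LD1_c7 LD2_c41 LD3_c5)) :=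
  Lgr Lrot91 (Lpr_gf (f528987 IH) (Lpr_bf (K33.f485421 IH) (Lpr_ct (K33.f162144 IH) (Lpe (K33.f485040 IH) (Lpr_cf (K33.f482177 IH) (Lpr_bt (f459791 IH) (Lpq (f481983 IH) (Lpe (f459819 IH) (Lpe (f84957 IH) (Lpr_ct (K8.f84939 IH) (Lpe (f96384 IH) (Lpn (LP (LK LD1_c7 LD2_c41 LD3_c5))))))))))))))
theorem f142580 : Led Lsl_at (LP (LK LD1_c14 LD2_c2 LD3_c55)) = (LP (LK LD1_c7 LD2_c41 LD3_c7)) :=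
  Lgr Lrot107 (Lpr_cf (K8.f142570 IH) (Lpe (K33.f117316 IH) (Lpe (K29.f84949 IH) (Lpn (LP (LK LD1_c7 LD2_c41 LD3_c7))))))
theorem f142563 : Led Lsl_gt (LP (LK LD1_c7 LD2_c25 LD3_c49)) = (LP (LK LD1_c14 LD2_c2 LD3_c53)) :=
  Lre_g IH (LK LD1_c7 LD2_c25 LD3_c49) (LK LD1_c14 LD2_c2 LD3_c53) Lrfl Lrfl
theorem f142614 : Led Lsl_gt (LP (LK LD1_c14 LD2_c2 LD3_c53)) = (LP (LK LD1_c7 LD2_c41 LD3_c7)) :=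
  Lgr Lrot46 (Lpe (f142563 IH) (Lpr_ft (K33.f142562 IH) (Lpr_at (f142580 IH) (Lpn (LP (LK LD1_c7 LD2_c41 LD3_c7))))))
theorem f88546 : Led Lsl_gt (LP (LK LD1_c3 LD2_c47 LD3_c2)) = (LP (LK LD1_c7 LD2_c34 LD3_c54)) :=
  Lre_g IH (LK LD1_c3 LD2_c47 LD3_c2) (LK LD1_c7 LD2_c34 LD3_c54) Lrfl Lrfl
theorem f487369 : Led Lsl_bt (LP (LK LD1_c14 LD2_c17 LD3_c48)) = (LP (LK LD1_c7 LD2_c34 LD3_c54)) :=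
  Lre_b IH (LK LD1_c14 LD2_c17 LD3_c48) (LK LD1_c7 LD2_c34 LD3_c54) Lrfl Lrfl
theorem f487370 : Led Lsl_cf (LP (LK LD1_c14 LD2_c2 LD3_c53)) = (LP (LK LD1_c14 LD2_c17 LD3_c48)) :=
  Lgr Lrot160 (Lpr_gt (f142614 IH) (Lpe (K7.f84953 IH) (Lpr_bt (K4.f84948 IH) (Lpr_gt (K29.f481705 IH) (Lpr_ct (K29.f442359 IH) (Lpr_gt (K29.f88618 IH) (Lpe (K2.f87679 IH) (Lpr_bt (K29.f87686 IH) (Lpr_gt (f88546 IH) (Lpe (f487369 IH) (Lpn (LP (LK LD1_c14 LD2_c17 LD3_c48)))))))))))))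
theorem f487372 : Led Lsl_gf (LP (LK LD1_c14 LD2_c17 LD3_c48)) = (LP (LK LD1_c13 LD2_c7 LD3_c52)) :=
  Lgr Lrot181 (Lpe (f487370 IH) (Lpr_gt (f142614 IH) (Lpe (K7.f84953 IH) (Lpr_bt (K4.f84948 IH) (Lpr_gt (K29.f481705 IH) (Lpe (K33.f466738 IH) (Lpr_ct (K33.f466739 IH) (Lpr_gt (K33.f486772 IH) (Lpe (K33.f144979 IH) (Lpe (K8.f144967 IH) (Lpn (LP (LK LD1_c13 LD2_c7 LD3_c52)))))))))))))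
theorem f485425 : Led Lsl_ff (LP (LK LD1_c14 LD2_c52 LD3_c37)) = (LP (LK LD1_c13 LD2_c7 LD3_c52)) :=
  Lgr Lrot3 (Lpr_ft (K33.f485416 IH) (Lpn (LP (LK LD1_c13 LD2_c7 LD3_c52))))
theorem f485102 : Led Lsl_ff (LP (LK LD1_c14 LD2_c29 LD3_c27)) = (LP (LK LD1_c14 LD2_c49 LD3_c43)) :=
  Lgr Lrot3 (Lpr_ft (K33.f485092 IH) (Lpn (LP (LK LD1_c14 LD2_c49 LD3_c43))))
theorem f485104 : Led Lsl_at (LP (LK LD1_c14 LD2_c29 LD3_c27)) = (LP (LK LD1_c24 LD2_c3 LD3_c45)) :=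
  Lgr Lrot66 (Lpr_ff (f485102 IH) (Lpr_af (K33.f162068 IH) (Lpe (K33.f485032 IH) (Lpn (LP (LK LD1_c24 LD2_c3 LD3_c45))))))
theorem f485410 : Led Lsl_at (LP (LK LD1_c14 LD2_c52 LD3_c37)) = (LP (LK LD1_c13 LD2_c9 LD3_c16)) :=
  Lgr Lrot107 (Lpr_cf (K33.f485408 IH) (Lpe (f485104 IH) (Lpr_cf (K33.f485088 IH) (Lpn (LP (LK LD1_c13 LD2_c9 LD3_c16))))))
theorem f487376 : Led Lsl_gt (LP (LK LD1_c14 LD2_c17 LD3_c48)) = (LP (LK LD1_c13 LD2_c9 LD3_c16)) :=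
  Lgr Lrot46 (Lpr_gf (f487372 IH) (Lpe (f485425 IH) (Lpr_at (f485410 IH) (Lpn (LP (LK LD1_c13 LD2_c9 LD3_c16))))))
theorem f477134 : Led Lsl_at (LP (LK LD1_c13 LD2_c9 LD3_c17)) = (LP (LK LD1_c6 LD2_c55 LD3_c35)) :=
  Lre_a IH (LK LD1_c13 LD2_c9 LD3_c17) (LK LD1_c6 LD2_c55 LD3_c35) Lrfl Lrfl
theorem f487379 : Led Lsl_ft (LP (LK LD1_c14 LD2_c17 LD3_c48)) = (LP (LK LD1_c13 LD2_c9 LD3_c17)) :=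
  Lgr Lrot2 (Lpr_gt (f487376 IH) (Lpr_gt (K33.f477125 IH) (Lpe (f477134 IH) (Lpn (LP (LK LD1_c13 LD2_c9 LD3_c17))))))
theorem f487385 : Led Lsl_ct (LP (LK LD1_c14 LD2_c2 LD3_c53)) = (LP (LK LD1_c14 LD2_c17 LD3_c48)) :=
  Lgr Lrot59 (Lpr_cf (f487370 IH) (Lpn (LP (LK LD1_c14 LD2_c17 LD3_c48))))
theorem f529000 : Led Lsl_ff (LP (LK LD1_c14 LD2_c2 LD3_c53)) = (LP (LK LD1_c7 LD2_c41 LD3_c5)) :=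
  Lgr Lrot23 (Lpr_ct (f487385 IH) (Lpr_ft (f487379 IH) (Lpr_ct (f528991 IH) (Lpn (LP (LK LD1_c7 LD2_c41 LD3_c5))))))
theorem f529004 : Led Lsl_at (LP (LK LD1_c14 LD2_c2 LD3_c53)) = (LP (LK LD1_c7 LD2_c41 LD3_c4)) :=
  Lgr Lrot26 (Lpr_ff (f529000 IH) (Lpr_gt (f96384 IH) (Lpr_gt (K33.f96382 IH) (Lpn (LP (LK LD1_c7 LD2_c41 LD3_c4))))))
theorem f528742 : Led Lsl_ff (LP (LK LD1_c3 LD2_c55 LD3_c25)) = (LP (LK LD1_c7 LD2_c41 LD3_c4)) :=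
  Lgr Lrot25 (Lpr_bt (K29.f463683 IH) (Lpr_ft (K35.f528738 IH) (Lpr_bt (K33.f485130 IH) (Lpn (LP (LK LD1_c7 LD2_c41 LD3_c4))))))
theorem f529010 : Led Lsl_af (LP (LK LD1_c7 LD2_c41 LD3_c5)) = (LP (LK LD1_c3 LD2_c55 LD3_c25)) :=
  Lgr Lrot45 (Lpe (f529000 IH) (Lpr_at (f529004 IH) (Lpe (f528742 IH) (Lpn (LP (LK LD1_c3 LD2_c55 LD3_c25))))))
theorem f528997 : Led Lsl_et (LP (LK LD1_c7 LD2_c41 LD3_c5)) = (LP (LK LD1_c14 LD2_c29 LD3_c14)) :=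
  Lre_e IH (LK LD1_c7 LD2_c41 LD3_c5) (LK LD1_c14 LD2_c29 LD3_c14) Lrfl Lrfl
theorem f529016 : Led Lsl_at (LP (LK LD1_c14 LD2_c29 LD3_c14)) = (LP (LK LD1_c7 LD2_c52 LD3_c44)) :=
  Lgr Lrot80 (Lpe (f528997 IH) (Lpr_af (f529010 IH) (Lpe (K32.f477131 IH) (Lpn (LP (LK LD1_c7 LD2_c52 LD3_c44))))))
theorem f527992 : Led Lsl_af (LP (LK LD1_c3 LD2_c56 LD3_c28)) = (LP (LK LD1_c3 LD2_c56 LD3_c24)) :=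
  Lgr Lrot68 (Lpr_ct (K34.f11345 IH) (Lpr_at (K34.f527988 IH) (Lpr_ct (K24.f451326 IH) (Lpn (LP (LK LD1_c3 LD2_c56 LD3_c24))))))
theorem f527984 : Led Lsl_ft (LP (LK LD1_c3 LD2_c56 LD3_c28)) = (LP (LK LD1_c3 LD2_c55 LD3_c27)) :=
  Lgr Lrot4 (Lpe (K33.f11347 IH) (Lpr_ff (K34.f527982 IH) (Lpe (K32.f463657 IH) (Lpn (LP (LK LD1_c3 LD2_c55 LD3_c27))))))
theorem f528175 : Led Lsl_af (LP (LK LD1_c3 LD2_c56 LD3_c27)) = (LP (LK LD1_c3 LD2_c55 LD3_c27)) :=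
  Lgr Lrot45 (Lpr_ft (K35.f528173 IH) (Lpe (f527992 IH) (Lpr_ft (f527984 IH) (Lpn (LP (LK LD1_c3 LD2_c55 LD3_c27))))))
theorem f487869 : Led Lsl_at (LP (LK LD1_c7 LD2_c54 LD3_c37)) = (LP (LK LD1_c14 LD2_c55 LD3_c16)) :=
  Lre_a IH (LK LD1_c7 LD2_c54 LD3_c37) (LK LD1_c14 LD2_c55 LD3_c16) Lrfl Lrfl
theorem f529020 : Led Lsl_bf (LP (LK LD1_c14 LD2_c29 LD3_c14)) = (LP (LK LD1_c14 LD2_c55 LD3_c16)) :=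
  Lgr Lrot81 (Lpr_at (f529016 IH) (Lpr_bt (K32.f477140 IH) (Lpe (f528175 IH) (Lpr_bt (K33.f451975 IH) (Lpr_at (f487869 IH) (Lpn (LP (LK LD1_c14 LD2_c55 LD3_c16))))))))
theorem f529032 : Led Lsl_bt (LP (LK LD1_c14 LD2_c29 LD3_c14)) = (LP (LK LD1_c14 LD2_c55 LD3_c16)) :=
  Lgr Lrot127 (Lpr_bf (f529020 IH) (Lpn (LP (LK LD1_c14 LD2_c55 LD3_c16))))
theorem f487886 : Led Lsl_ef (LP (LK LD1_c7 LD2_c54 LD3_c37)) = (LP (LK LD1_c7 LD2_c14 LD3_c48)) :=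
  Lgr Lrot88 (Lpr_et (K33.f487874 IH) (Lpn (LP (LK LD1_c7 LD2_c14 LD3_c48))))
theorem f6032 : Led Lsl_at (LP (LK LD1_c13 LD2_c42 LD3_c36)) = (LP (LK LD1_c7 LD2_c14 LD3_c48)) :=
  Lre_a IH (LK LD1_c13 LD2_c42 LD3_c36) (LK LD1_c7 LD2_c14 LD3_c48) Lrfl Lrfl
theorem f487888 : Led Lsl_et (LP (LK LD1_c14 LD2_c55 LD3_c16)) = (LP (LK LD1_c13 LD2_c42 LD3_c36)) :=
  Lgr Lrot123 (Lpe (f487869 IH) (Lpr_ef (f487886 IH) (Lpe (f6032 IH) (Lpn (LP (LK LD1_c13 LD2_c42 LD3_c36))))))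
theorem f529034 : Led Lsl_bf (LP (LK LD1_c7 LD2_c41 LD3_c5)) = (LP (LK LD1_c13 LD2_c42 LD3_c36)) :=
  Lgr Lrot96 (Lpr_et (f528997 IH) (Lpr_bt (f529032 IH) (Lpr_et (f487888 IH) (Lpn (LP (LK LD1_c13 LD2_c42 LD3_c36))))))
theorem f123522 : Led Lsl_at (LP (LK LD1_c7 LD2_c25 LD3_c2)) = (LP (LK LD1_c14 LD2_c1 LD3_c45)) :=
  Lre_a IH (LK LD1_c7 LD2_c25 LD3_c2) (LK LD1_c14 LD2_c1 LD3_c45) Lrfl Lrfl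
theorem f142555 : Led Lsl_at (LP (LK LD1_c7 LD2_c25 LD3_c49)) = (LP (LK LD1_c3 LD2_c50 LD3_c3)) :=
  Lgr Lrot67 (Lpr_bf (K8.f142541 IH) (Lpe (f123522 IH) (Lpe (K29.f123507 IH) (Lpe (K7.f132060 IH) (Lpr_bf (K33.f96345 IH) (Lpn (LP (LK LD1_c3 LD2_c50 LD3_c3))))))))
theorem f142669 : Led Lsl_gt (LP (LK LD1_c14 LD2_c2 LD3_c55)) = (LP (LK LD1_c7 LD2_c41 LD3_c5)) :=
  Lgr Lrot5 (Lpr_ft (K8.f142569 IH) (Lpr_at (f142555 IH) (Lpe (f96384 IH) (Lpn (LP (LK LD1_c7 LD2_c41 LD3_c5))))))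
theorem f485201 : Led Lsl_at (LP (LK LD1_c7 LD2_c50 LD3_c40)) = (LP (LK LD1_c14 LD2_c48 LD3_c0)) :=
  Lre_a IH (LK LD1_c7 LD2_c50 LD3_c40) (LK LD1_c14 LD2_c48 LD3_c0) Lrfl Lrfl
theorem f485202 : Led Lsl_bt (LP (LK LD1_c14 LD2_c48 LD3_c0)) = (LP (LK LD1_c14 LD2_c2 LD3_c55)) :=
  Lgr Lrot62 (Lpe (f485201 IH) (Lpe (K33.f485200 IH) (Lpr_af (K33.f485152 IH) (Lpr_bf (K7.f96360 IH) (Lpe (f142580 IH) (Lpn (LP (LK LD1_c14 LD2_c2 LD3_c55))))))))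
theorem f484869 : Led Lsl_et (LP (LK LD1_c13 LD2_c36 LD3_c39)) = (LP (LK LD1_c7 LD2_c38 LD3_c45)) :=
  Lgr Lrot87 (Lpr_ef (K33.f484863 IH) (Lpn (LP (LK LD1_c7 LD2_c38 LD3_c45))))
theorem f485299 : Led Lsl_ct (LP (LK LD1_c14 LD2_c48 LD3_c0)) = (LP (LK LD1_c13 LD2_c36 LD3_c39)) :=
  Lgr Lrot15 (Lpr_ef (K33.f485297 IH) (Lpe (K33.f484821 IH) (Lpe (f484869 IH) (Lpn (LP (LK LD1_c13 LD2_c36 LD3_c39))))))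
theorem f519797 : Led Lsl_ft (LP (LK LD1_c7 LD2_c51 LD3_c24)) = (LP (LK LD1_c3 LD2_c55 LD3_c13)) :=
  Lgr Lrot75 (Lpe (K33.f480177 IH) (Lpr_ff (K33.f519795 IH) (Lpe (K33.f123421 IH) (Lpn (LP (LK LD1_c3 LD2_c55 LD3_c13))))))
theorem f522327 : Led Lsl_gt (LP (LK LD1_c7 LD2_c49 LD3_c42)) = (LP (LK LD1_c7 LD2_c52 LD3_c14)) :=
  Lgr Lrot46 (Lpr_gf (K33.f488784 IH) (Lpr_ft (f519797 IH) (Lpr_at (K33.f488131 IH) (Lpn (LP (LK LD1_c7 LD2_c52 LD3_c14))))))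
theorem f487908 : Led Lsl_ct (LP (LK LD1_c13 LD2_c42 LD3_c36)) = (LP (LK LD1_c7 LD2_c14 LD3_c47)) :=
  Lre_c IH (LK LD1_c13 LD2_c42 LD3_c36) (LK LD1_c7 LD2_c14 LD3_c47) Lrfl Lrfl
theorem f529040 : Led Lsl_gf (LP (LK LD1_c7 LD2_c8 LD3_c2)) = (LP (LK LD1_c7 LD2_c14 LD3_c47)) :=
  Lgr Lrot126 (Lpe (K8.f155675 IH) (Lpr_bt (K8.f155653 IH) (Lpr_gt (f522327 IH) (Lpr_ct (K33.f488132 IH) (Lpr_gt (K33.f520062 IH) (Lpe (f485299 IH) (Lpr_bt (f485202 IH) (Lpr_gt (f142669 IH) (Lpr_bf (f529034 IH) (Lpr_ct (f487908 IH) (Lpn (LP (LK LD1_c7 LD2_c14 LD3_c47)))))))))))))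
theorem f528258 : Led Lsl_dt (LP (LK LD1_c13 LD2_c42 LD3_c37)) = (LP (LK LD1_c7 LD2_c14 LD3_c47)) :=
  Lre_d IH (LK LD1_c13 LD2_c42 LD3_c37) (LK LD1_c7 LD2_c14 LD3_c47) Lrfl Lrfl
theorem f543096 : Led Lsl_ef (LP (LK LD1_c8 LD2_c51 LD3_c33)) = (LP (LK LD1_c13 LD2_c42 LD3_c37)) :=
  Lgr Lrot17 (Lpe (f16537 IH) (Lpe (K12.f16576 IH) (Lpr_dt (K9.f101019 IH) (Lpe (K10.f43027 IH) (Lpe (K12.f43028 IH) (Lpr_gf (K13.f241478 IH) (Lpr_ef (f543090 IH) (Lpr_dt (f155677 IH) (Lpr_gf (f529040 IH) (Lpe (f528258 IH) (Lpn (LP (LK LD1_c13 LD2_c42 LD3_c37)))))))))))))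
theorem f16219 : Led Lsl_ft (LP (LK LD1_c4 LD2_c26 LD3_c54)) = (LP (LK LD1_c8 LD2_c51 LD3_c26)) :=
  Lre_f IH (LK LD1_c4 LD2_c26 LD3_c54) (LK LD1_c8 LD2_c51 LD3_c26) Lrfl Lrfl
theorem f16221 : Led Lsl_at (LP (LK LD1_c8 LD2_c51 LD3_c26)) = (LP (LK LD1_c8 LD2_c50 LD3_c60)) :=
  Lgr Lrot66 (Lpe (f16219 IH) (Lpr_af (K1.f16200 IH) (Lpe (K1.f16220 IH) (Lpn (LP (LK LD1_c8 LD2_c50 LD3_c60))))))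
theorem f16538 : Led Lsl_gt (LP (LK LD1_c8 LD2_c51 LD3_c33)) = (LP (LK LD1_c8 LD2_c50 LD3_c60)) :=
  Lgr Lrot46 (Lpe (f16537 IH) (Lpr_ft (f16219 IH) (Lpr_at (f16221 IH) (Lpn (LP (LK LD1_c8 LD2_c50 LD3_c60))))))
theorem f16161 : Led Lsl_at (LP (LK LD1_c4 LD2_c26 LD3_c25)) = (LP (LK LD1_c8 LD2_c48 LD3_c51)) :=
  Lre_a IH (LK LD1_c4 LD2_c26 LD3_c25) (LK LD1_c8 LD2_c48 LD3_c51) Lrfl Lrfl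
theorem f16162 : Led Lsl_bt (LP (LK LD1_c2 LD2_c10 LD3_c35)) = (LP (LK LD1_c4 LD2_c26 LD3_c25)) :=
  Lre_b IH (LK LD1_c2 LD2_c10 LD3_c35) (LK LD1_c4 LD2_c26 LD3_c25) Lrfl Lrfl
theorem f16163 : Led Lsl_at (LP (LK LD1_c8 LD2_c50 LD3_c46)) = (LP (LK LD1_c4 LD2_c26 LD3_c38)) :=
  Lre_a IH (LK LD1_c8 LD2_c50 LD3_c46) (LK LD1_c4 LD2_c26 LD3_c38) Lrfl Lrfl
theorem f16164 : Led Lsl_bt (LP (LK LD1_c4 LD2_c26 LD3_c38)) = (LP (LK LD1_c2 LD2_c10 LD3_c31)) :=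
  Lre_b IH (LK LD1_c4 LD2_c26 LD3_c38) (LK LD1_c2 LD2_c10 LD3_c31) Lrfl Lrfl
theorem f16165 : Led Lsl_af (LP (LK LD1_c2 LD2_c10 LD3_c35)) = (LP (LK LD1_c2 LD2_c10 LD3_c31)) :=
  Lgr Lrot36 (Lpr_bt (f16162 IH) (Lpr_at (f16161 IH) (Lpr_bt (K1.f16151 IH) (Lpr_at (f16163 IH) (Lpr_bt (f16164 IH) (Lpn (LP (LK LD1_c2 LD2_c10 LD3_c31))))))))
theorem f16598 : Led Lsl_gt (LP (LK LD1_c4 LD2_c26 LD3_c53)) = (LP (LK LD1_c2 LD2_c10 LD3_c35)) :=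
  Lre_g IH (LK LD1_c4 LD2_c26 LD3_c53) (LK LD1_c2 LD2_c10 LD3_c35) Lrfl Lrfl
theorem f16599 : Led Lsl_gf (LP (LK LD1_c4 LD2_c26 LD3_c53)) = (LP (LK LD1_c4 LD2_c26 LD3_c42)) :=
  Lgr Lrot47 (Lpr_gt (f16598 IH) (Lpr_af (f16165 IH) (Lpe (K1.f16421 IH) (Lpn (LP (LK LD1_c4 LD2_c26 LD3_c42))))))
theorem f16608 : Led Lsl_dt (LP (LK LD1_c8 LD2_c51 LD3_c31)) = (LP (LK LD1_c4 LD2_c26 LD3_c53)) :=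
  Lre_d IH (LK LD1_c8 LD2_c51 LD3_c31) (LK LD1_c4 LD2_c26 LD3_c53) Lrfl Lrfl
theorem f16609 : Led Lsl_et (LP (LK LD1_c8 LD2_c51 LD3_c31)) = (LP (LK LD1_c16 LD2_c33 LD3_c43)) :=
  Lre_e IH (LK LD1_c8 LD2_c51 LD3_c31) (LK LD1_c16 LD2_c33 LD3_c43) Lrfl Lrfl
theorem f449685 : Led Lsl_at (LP (LK LD1_c8 LD2_c48 LD3_c41)) = (LP (LK LD1_c11 LD2_c59 LD3_c38)) :=
  Lgr Lrot100 (Lpr_af (K36.f449682 IH) (Lpn (LP (LK LD1_c11 LD2_c59 LD3_c38))))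
theorem f198089 : Led Lsl_gt (LP (LK LD1_c21 LD2_c4 LD3_c21)) = (LP (LK LD1_c11 LD2_c59 LD3_c38)) :=
  Lre_g IH (LK LD1_c21 LD2_c4 LD3_c21) (LK LD1_c11 LD2_c59 LD3_c38) Lrfl Lrfl
theorem f450523 : Led Lsl_gt (LP (LK LD1_c16 LD2_c29 LD3_c3)) = (LP (LK LD1_c21 LD2_c4 LD3_c21)) :=
  Lgr Lrot5 (Lpr_ft (K36.f272715 IH) (Lpr_at (f449685 IH) (Lpe (f198089 IH) (Lpn (LP (LK LD1_c21 LD2_c4 LD3_c21))))))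
theorem f449684 : Led Lsl_dt (LP (LK LD1_c26 LD2_c26 LD3_c9)) = (LP (LK LD1_c16 LD2_c29 LD3_c3)) :=
  Lre_d IH (LK LD1_c26 LD2_c26 LD3_c9) (LK LD1_c16 LD2_c29 LD3_c3) Lrfl Lrfl
theorem f229385 : Led Lsl_et (LP (LK LD1_c21 LD2_c4 LD3_c22)) = (LP (LK LD1_c12 LD2_c5 LD3_c6)) :=
  Lgr Lrot87 (Lpr_ef (K36.f229375 IH) (Lpn (LP (LK LD1_c12 LD2_c5 LD3_c6))))
theorem f43000 : Led Lsl_dt (LP (LK LD1_c4 LD2_c23 LD3_c44)) = (LP (LK LD1_c2 LD2_c9 LD3_c16)) :=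
  Lre_d IH (LK LD1_c4 LD2_c23 LD3_c44) (LK LD1_c2 LD2_c9 LD3_c16) Lrfl Lrfl
theorem f101293 : Led Lsl_et (LP (LK LD1_c4 LD2_c23 LD3_c44)) = (LP (LK LD1_c8 LD2_c45 LD3_c22)) :=
  Lre_e IH (LK LD1_c4 LD2_c23 LD3_c44) (LK LD1_c8 LD2_c45 LD3_c22) Lrfl Lrfl
theorem f16376 : Led Lsl_gt (LP (LK LD1_c8 LD2_c45 LD3_c22)) = (LP (LK LD1_c16 LD2_c23 LD3_c28)) :=
  Lre_g IH (LK LD1_c8 LD2_c45 LD3_c22) (LK LD1_c16 LD2_c23 LD3_c28) Lrfl Lrfl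
theorem f16386 : Led Lsl_et (LP (LK LD1_c26 LD2_c21 LD3_c25)) = (LP (LK LD1_c16 LD2_c23 LD3_c28)) :=
  Lre_e IH (LK LD1_c26 LD2_c21 LD3_c25) (LK LD1_c16 LD2_c23 LD3_c28) Lrfl Lrfl
theorem f229394 : Led Lsl_df (LP (LK LD1_c21 LD2_c4 LD3_c21)) = (LP (LK LD1_c26 LD2_c21 LD3_c25)) :=
  Lgr Lrot170 (Lpr_gt (f198089 IH) (Lpe (K36.f198086 IH) (Lpr_et (f229385 IH) (Lpr_gt (K12.f101353 IH) (Lpr_dt (K16.f69405 IH) (Lpr_gt (K12.f101351 IH) (Lpe (f43000 IH) (Lpr_et (f101293 IH) (Lpr_gt (f16376 IH) (Lpe (f16386 IH) (Lpn (LP (LK LD1_c26 LD2_c21 LD3_c25)))))))))))))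
theorem f16375 : Led Lsl_ft (LP (LK LD1_c8 LD2_c45 LD3_c22)) = (LP (LK LD1_c16 LD2_c23 LD3_c23)) :=
  Lre_f IH (LK LD1_c8 LD2_c45 LD3_c22) (LK LD1_c16 LD2_c23 LD3_c23) Lrfl Lrfl
theorem f16377 : Led Lsl_gt (LP (LK LD1_c16 LD2_c23 LD3_c28)) = (LP (LK LD1_c16 LD2_c32 LD3_c36)) :=
  Lgr Lrot46 (Lpe (f16376 IH) (Lpr_ft (f16375 IH) (Lpr_at (K9.f16350 IH) (Lpn (LP (LK LD1_c16 LD2_c32 LD3_c36))))))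
theorem f16387 : Led Lsl_et (LP (LK LD1_c8 LD2_c50 LD3_c60)) = (LP (LK LD1_c16 LD2_c32 LD3_c36)) :=
  Lre_e IH (LK LD1_c8 LD2_c50 LD3_c60) (LK LD1_c16 LD2_c32 LD3_c36) Lrfl Lrfl
theorem f450525 : Led Lsl_gf (LP (LK LD1_c26 LD2_c26 LD3_c9)) = (LP (LK LD1_c16 LD2_c33 LD3_c43)) :=
  Lgr Lrot138 (Lpr_dt (f449684 IH) (Lpr_gt (f450523 IH) (Lpr_df (f229394 IH) (Lpr_et (f16386 IH) (Lpr_gt (f16377 IH) (Lpe (f16387 IH) (Lpr_dt (K1.f16228 IH) (Lpe (f16599 IH) (Lpe (f16608 IH) (Lpr_et (f16609 IH) (Lpn (LP (LK LD1_c16 LD2_c33 LD3_c43)))))))))))))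
theorem f241127 : Led Lsl_ft (LP (LK LD1_c26 LD2_c26 LD3_c9)) = (LP (LK LD1_c16 LD2_c29 LD3_c2)) :=
  Lre_f IH (LK LD1_c26 LD2_c26 LD3_c9) (LK LD1_c16 LD2_c29 LD3_c2) Lrfl Lrfl
theorem f410890 : Led Lsl_et (LP (LK LD1_c6 LD2_c15 LD3_c2)) = (LP (LK LD1_c12 LD2_c8 LD3_c24)) :=
  Lre_e IH (LK LD1_c6 LD2_c15 LD3_c2) (LK LD1_c12 LD2_c8 LD3_c24) Lrfl Lrfl
theorem f449638 : Led Lsl_ft (LP (LK LD1_c12 LD2_c8 LD3_c24)) = (LP (LK LD1_c21 LD2_c14 LD3_c43)) :=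
  Lre_f IH (LK LD1_c12 LD2_c8 LD3_c24) (LK LD1_c21 LD2_c14 LD3_c43) Lrfl Lrfl
theorem f449639 : Led Lsl_ef (LP (LK LD1_c26 LD2_c26 LD3_c9)) = (LP (LK LD1_c21 LD2_c14 LD3_c43)) :=
  Lgr Lrot21 (Lpr_ft (f241127 IH) (Lpe (f241110 IH) (Lpr_ft (K36.f449630 IH) (Lpr_et (f410890 IH) (Lpr_ft (f449638 IH) (Lpn (LP (LK LD1_c21 LD2_c14 LD3_c43))))))))
theorem f543104 : Led Lsl_gt (LP (LK LD1_c12 LD2_c8 LD3_c25)) = (LP (LK LD1_c7 LD2_c14 LD3_c47)) :=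
  Lgr Lrot112 (Lpe (K36.f449944 IH) (Lpe (f449639 IH) (Lpr_gf (f450525 IH) (Lpe (f16609 IH) (Lpr_dt (f16608 IH) (Lpr_gf (f16599 IH) (Lpe (K1.f16228 IH) (Lpe (f16538 IH) (Lpr_ef (f543096 IH) (Lpr_dt (f528258 IH) (Lpn (LP (LK LD1_c7 LD2_c14 LD3_c47)))))))))))))
theorem f543110 : Led Lsl_cf (LP (LK LD1_c12 LD2_c8 LD3_c25)) = (LP (LK LD1_c13 LD2_c32 LD3_c53)) :=
  Lgr Lrot125 (Lpr_gt (f543104 IH) (Lpe (f487908 IH) (Lpe (f529034 IH) (Lpr_gt (f96384 IH) (Lpe (K7.f96368 IH) (Lpr_ct (K5.f96342 IH) (Lpr_gt (K33.f482594 IH) (Lpe (K33.f455995 IH) (Lpr_bt (K34.f482471 IH) (Lpr_gt (K34.f482414 IH) (Lpn (LP (LK LD1_c13 LD2_c32 LD3_c53)))))))))))))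
theorem f449966 : Led Lsl_ft (LP (LK LD1_c12 LD2_c8 LD3_c25)) = (LP (LK LD1_c6 LD2_c15 LD3_c1)) :=
  Lre_f IH (LK LD1_c12 LD2_c8 LD3_c25) (LK LD1_c6 LD2_c15 LD3_c1) Lrfl Lrfl
theorem f515816 : Led Lsl_ff (LP (LK LD1_c13 LD2_c32 LD3_c53)) = (LP (LK LD1_c7 LD2_c49 LD3_c52)) :=
  Lgr Lrot3 (Lpr_ft (K34.f515811 IH) (Lpn (LP (LK LD1_c7 LD2_c49 LD3_c52))))
theorem f543118 : Led Lsl_ct (LP (LK LD1_c6 LD2_c15 LD3_c1)) = (LP (LK LD1_c7 LD2_c49 LD3_c52)) :=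
  Lgr Lrot40 (Lpe (f449966 IH) (Lpr_cf (f543110 IH) (Lpr_ff (f515816 IH) (Lpn (LP (LK LD1_c7 LD2_c49 LD3_c52))))))
theorem f543131 : Led Lsl_bt (LP (LK LD1_c6 LD2_c15 LD3_c1)) = (LP (LK LD1_c12 LD2_c8 LD3_c20)) :=
  Lre_b IH (LK LD1_c6 LD2_c15 LD3_c1) (LK LD1_c12 LD2_c8 LD3_c20) Lrfl Lrfl
theorem f489325 : Led Lsl_gf (LP (LK LD1_c7 LD2_c49 LD3_c52)) = (LP (LK LD1_c3 LD2_c54 LD3_c22)) :=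
  Lgr Lrot76 (Lpe (K33.f162045 IH) (Lpr_ff (K34.f489313 IH) (Lpr_gt (K33.f456088 IH) (Lpn (LP (LK LD1_c3 LD2_c54 LD3_c22))))))
theorem f90049 : Led Lsl_bt (LP (LK LD1_c3 LD2_c27 LD3_c8)) = (LP (LK LD1_c6 LD2_c56 LD3_c4)) :=
  Lre_b IH (LK LD1_c3 LD2_c27 LD3_c8) (LK LD1_c6 LD2_c56 LD3_c4) Lrfl Lrfl
theorem f467934 : Led Lsl_ct (LP (LK LD1_c7 LD2_c6 LD3_c43)) = (LP (LK LD1_c7 LD2_c8 LD3_c36)) :=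
  Lgr Lrot59 (Lpr_cf (K28.f467932 IH) (Lpn (LP (LK LD1_c7 LD2_c8 LD3_c36))))
theorem f480743 : Led Lsl_bf (LP (LK LD1_c7 LD2_c6 LD3_c43)) = (LP (LK LD1_c7 LD2_c15 LD3_c18)) :=
  Lgr Lrot90 (Lpr_ct (f467934 IH) (Lpr_bt (K28.f467428 IH) (Lpe (K29.f90043 IH) (Lpr_bt (f90049 IH) (Lpr_ct (K33.f480741 IH) (Lpn (LP (LK LD1_c7 LD2_c15 LD3_c18))))))))
theorem f480745 : Led Lsl_cf (LP (LK LD1_c6 LD2_c56 LD3_c4)) = (LP (LK LD1_c7 LD2_c15 LD3_c18)) :=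
  Lgr Lrot11 (Lpr_ct (K33.f480741 IH) (Lpn (LP (LK LD1_c7 LD2_c15 LD3_c18))))
theorem f90051 : Led Lsl_gt (LP (LK LD1_c13 LD2_c9 LD3_c52)) = (LP (LK LD1_c6 LD2_c56 LD3_c4)) :=
  Lre_g IH (LK LD1_c13 LD2_c9 LD3_c52) (LK LD1_c6 LD2_c56 LD3_c4) Lrfl Lrfl
theorem f543132 : Led Lsl_gt (LP (LK LD1_c12 LD2_c8 LD3_c20)) = (LP (LK LD1_c13 LD2_c27 LD3_c61)) :=
  Lgr Lrot82 (Lpe (f543131 IH) (Lpr_ct (f543118 IH) (Lpr_gf (f489325 IH) (Lpe (K33.f456084 IH) (Lpr_bt (K33.f456075 IH) (Lpe (K29.f467953 IH) (Lpr_bf (f480743 IH) (Lpe (f480745 IH) (Lpe (f90051 IH) (Lpr_cf (K33.f480762 IH) (Lpn (LP (LK LD1_c13 LD2_c27 LD3_c61)))))))))))))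
theorem f456749 : Led Lsl_ct (LP (LK LD1_c3 LD2_c34 LD3_c59)) = (LP (LK LD1_c1 LD2_c44 LD3_c15)) :=
  Lre_c IH (LK LD1_c3 LD2_c34 LD3_c59) (LK LD1_c1 LD2_c44 LD3_c15) Lrfl Lrfl
theorem f456129 : Led Lsl_bt (LP (LK LD1_c3 LD2_c34 LD3_c59)) = (LP (LK LD1_c7 LD2_c11 LD3_c4)) :=
  Lre_b IH (LK LD1_c3 LD2_c34 LD3_c59) (LK LD1_c7 LD2_c11 LD3_c4) Lrfl Lrfl
theorem f488945 : Led Lsl_gf (LP (LK LD1_c3 LD2_c47 LD3_c36)) = (LP (LK LD1_c7 LD2_c11 LD3_c4)) :=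
  Lgr Lrot124 (Lpe (K8.f95172 IH) (Lpe (K28.f96793 IH) (Lpr_gt (K33.f488934 IH) (Lpe (K29.f466682 IH) (Lpr_bt (K33.f482330 IH) (Lpr_gt (K33.f484328 IH) (Lpr_ct (K29.f15118 IH) (Lpqs (K29.f481858 IH) (Lpe (K29.f479127 IH) (Lpe (f456749 IH) (Lpr_bt (f456129 IH) (Lpn (LP (LK LD1_c7 LD2_c11 LD3_c4))))))))))))))
theorem f95157 : Led Lsl_gt (LP (LK LD1_c7 LD2_c36 LD3_c0)) = (LP (LK LD1_c14 LD2_c19 LD3_c41)) :=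
  Lre_g IH (LK LD1_c7 LD2_c36 LD3_c0) (LK LD1_c14 LD2_c19 LD3_c41) Lrfl Lrfl
theorem f15153 : Led Lsl_gt (LP (LK LD1_c13 LD2_c8 LD3_c1)) = (LP (LK LD1_c6 LD2_c54 LD3_c52)) :=
  Lre_g IH (LK LD1_c13 LD2_c8 LD3_c1) (LK LD1_c6 LD2_c54 LD3_c52) Lrfl Lrfl
theorem f15156 : Led Lsl_bt (LP (LK LD1_c22 LD2_c19 LD3_c59)) = (LP (LK LD1_c13 LD2_c8 LD3_c1)) :=
  Lre_b IH (LK LD1_c22 LD2_c19 LD3_c59) (LK LD1_c13 LD2_c8 LD3_c1) Lrfl Lrfl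
theorem f488949 : Led Lsl_cf (LP (LK LD1_c14 LD2_c19 LD3_c41)) = (LP (LK LD1_c22 LD2_c19 LD3_c59)) :=
  Lgr Lrot163 (Lpe (f95157 IH) (Lpe (K8.f95171 IH) (Lpr_gf (f488945 IH) (Lpe (f456129 IH) (Lpr_ct (f456749 IH) (Lpr_gf (K29.f479127 IH) (Lpq (K29.f481858 IH) (Lpe (K29.f15118 IH) (Lpr_bt (K4.f15128 IH) (Lpe (f15153 IH) (Lpe (f15156 IH) (Lpn (LP (LK LD1_c22 LD2_c19 LD3_c59))))))))))))))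
theorem f488969 : Led Lsl_ct (LP (LK LD1_c14 LD2_c19 LD3_c41)) = (LP (LK LD1_c22 LD2_c19 LD3_c59)) :=
  Lgr Lrot59 (Lpr_cf (f488949 IH) (Lpn (LP (LK LD1_c22 LD2_c19 LD3_c59))))
theorem f487012 : Led Lsl_bt (LP (LK LD1_c13 LD2_c8 LD3_c1)) = (LP (LK LD1_c22 LD2_c19 LD3_c59)) :=
  Lre_b IH (LK LD1_c13 LD2_c8 LD3_c1) (LK LD1_c22 LD2_c19 LD3_c59) Lrfl Lrfl
theorem f451093 : Led Lsl_ct (LP (LK LD1_c1 LD2_c51 LD3_c30)) = (LP (LK LD1_c0 LD2_c52 LD3_c34)) :=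
  Lre_c IH (LK LD1_c1 LD2_c51 LD3_c30) (LK LD1_c0 LD2_c52 LD3_c34) Lrfl Lrfl
theorem f89789 : Led Lsl_bt (LP (LK LD1_c0 LD2_c52 LD3_c32)) = (LP (LK LD1_c1 LD2_c51 LD3_c19)) :=
  Lre_b IH (LK LD1_c0 LD2_c52 LD3_c32) (LK LD1_c1 LD2_c51 LD3_c19) Lrfl Lrfl
theorem f429003 : Led Lsl_gt (LP (LK LD1_c1 LD2_c51 LD3_c19)) = (LP (LK LD1_c3 LD2_c48 LD3_c34)) :=
  Lre_g IH (LK LD1_c1 LD2_c51 LD3_c19) (LK LD1_c3 LD2_c48 LD3_c34) Lrfl Lrfl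
theorem f487008 : Led Lsl_bt (LP (LK LD1_c7 LD2_c38 LD3_c7)) = (LP (LK LD1_c3 LD2_c48 LD3_c34)) :=
  Lre_b IH (LK LD1_c7 LD2_c38 LD3_c7) (LK LD1_c3 LD2_c48 LD3_c34) Lrfl Lrfl
theorem f456651 : Led Lsl_at (LP (LK LD1_c3 LD2_c37 LD3_c59)) = (LP (LK LD1_c1 LD2_c45 LD3_c52)) :=
  Lre_a IH (LK LD1_c3 LD2_c37 LD3_c59) (LK LD1_c1 LD2_c45 LD3_c52) Lrfl Lrfl
theorem f482296 : Led Lsl_at (LP (LK LD1_c1 LD2_c53 LD3_c58)) = (LP (LK LD1_c1 LD2_c51 LD3_c27)) :=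
  Lgr Lrot67 (Lpr_bf (K29.f456649 IH) (Lpe (f456651 IH) (Lpe (K33.f456652 IH) (Lpr_af (K33.f482175 IH) (Lpe (K33.f459694 IH) (Lpn (LP (LK LD1_c1 LD2_c51 LD3_c27))))))))
def v862 : LQ := Led Lsl_gf (LP (LK LD1_c0 LD2_c52 LD3_c48))
theorem f459821 : Led Lsl_gf (LP (LK LD1_c0 LD2_c52 LD3_c48)) = v862 :=
  Lrfl
theorem f482298 : (LP (LK LD1_c1 LD2_c51 LD3_c30)) = v862 :=
  (Llr Lrot52 (Lpe (K29.f467728 IH) (Lpr_at (f482296 IH) (Lpq (f481983 IH) (Lpe (f459819 IH) (Lpr_gf (f459821 IH) (Lpn v862))))))).symm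
theorem f459822 : Led Lsl_gt (LP (LK LD1_c3 LD2_c47 LD3_c21)) = v862 :=
  Lgr Lrot5 (Lpr_ft (K4.f15102 IH) (Lpe (K4.f117339 IH) (Lpr_gf (f459821 IH) (Lpn v862))))
theorem f487009 : Led Lsl_ct (LP (LK LD1_c7 LD2_c38 LD3_c7)) = (LP (LK LD1_c13 LD2_c8 LD3_c1)) :=
  Lgr Lrot64 (Lpr_bt (f487008 IH) (Lpe (f429003 IH) (Lpe (f89789 IH) (Lpr_ct (K5.f62704 IH) (Lpe (K28.f62688 IH) (Lpe (f451093 IH) (Lpqs (f482298 IH) (Lpe (f459822 IH) (Lpe (K4.f15129 IH) (Lpe (K29.f15121 IH) (Lpe (f15153 IH) (Lpn (LP (LK LD1_c13 LD2_c8 LD3_c1))))))))))))))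
theorem f487011 : Led Lsl_bt (LP (LK LD1_c3 LD2_c48 LD3_c34)) = (LP (LK LD1_c7 LD2_c38 LD3_c7)) :=
  Lre_b IH (LK LD1_c3 LD2_c48 LD3_c34) (LK LD1_c7 LD2_c38 LD3_c7) Lrfl Lrfl
theorem f478838 : Led Lsl_ct (LP (LK LD1_c7 LD2_c38 LD3_c8)) = (LP (LK LD1_c3 LD2_c48 LD3_c34)) :=
  Lre_c IH (LK LD1_c7 LD2_c38 LD3_c8) (LK LD1_c3 LD2_c48 LD3_c34) Lrfl Lrfl
theorem f488967 : Led Lsl_bt (LP (LK LD1_c14 LD2_c19 LD3_c41)) = (LP (LK LD1_c7 LD2_c38 LD3_c8)) :=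
  Lgr Lrot128 (Lpr_cf (f488949 IH) (Lpe (f487012 IH) (Lpe (f487009 IH) (Lpe (f487011 IH) (Lpe (f478838 IH) (Lpn (LP (LK LD1_c7 LD2_c38 LD3_c8))))))))
theorem f467718 : Led Lsl_bt (LP (LK LD1_c1 LD2_c45 LD3_c53)) = (LP (LK LD1_c1 LD2_c51 LD3_c30)) :=
  Lgr Lrot127 (Lpr_bf (K29.f467716 IH) (Lpn (LP (LK LD1_c1 LD2_c51 LD3_c30))))
theorem f12226 : Led Lsl_bf (LP (LK LD1_c3 LD2_c50 LD3_c31)) = (LP (LK LD1_c1 LD2_c54 LD3_c28)) :=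
  Lgr Lrot24 (Lpr_bt (K5.f12218 IH) (Lpn (LP (LK LD1_c1 LD2_c54 LD3_c28))))
theorem f487018 : Led Lsl_gf (LP (LK LD1_c7 LD2_c38 LD3_c7)) = (LP (LK LD1_c3 LD2_c50 LD3_c31)) :=
  Lgr Lrot181 (Lpr_ct (f487009 IH) (Lpr_gt (f15153 IH) (Lpr_cf (K29.f15121 IH) (Lpr_bt (K4.f15129 IH) (Lpr_gt (f459822 IH) (Lpq (f482298 IH) (Lpe (f467718 IH) (Lpr_ct (K29.f450910 IH) (Lpr_gt (K33.f456901 IH) (Lpq (K33.f480732 IH) (Lpe (K5.f12217 IH) (Lpe (f12226 IH) (Lpn (LP (LK LD1_c3 LD2_c50 LD3_c31)))))))))))))))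
theorem f476840 : Led Lsl_ft (LP (LK LD1_c3 LD2_c50 LD3_c31)) = (LP (LK LD1_c7 LD2_c16 LD3_c19)) :=
  Lgr Lrot48 (Lpr_ff (K29.f476829 IH) (Lpn (LP (LK LD1_c7 LD2_c16 LD3_c19))))
theorem f476823 : Led Lsl_at (LP (LK LD1_c7 LD2_c16 LD3_c19)) = (LP (LK LD1_c13 LD2_c45 LD3_c39)) :=
  Lre_a IH (LK LD1_c7 LD2_c16 LD3_c19) (LK LD1_c13 LD2_c45 LD3_c39) Lrfl Lrfl
theorem f487020 : Led Lsl_gt (LP (LK LD1_c7 LD2_c38 LD3_c7)) = (LP (LK LD1_c13 LD2_c45 LD3_c39)) :=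
  Lgr Lrot46 (Lpr_gf (f487018 IH) (Lpr_ft (f476840 IH) (Lpr_at (f476823 IH) (Lpn (LP (LK LD1_c13 LD2_c45 LD3_c39))))))
theorem f467724 : Led Lsl_ct (LP (LK LD1_c3 LD2_c48 LD3_c34)) = (LP (LK LD1_c7 LD2_c38 LD3_c8)) :=
  Lre_c IH (LK LD1_c3 LD2_c48 LD3_c34) (LK LD1_c7 LD2_c38 LD3_c8) Lrfl Lrfl
theorem f476972 : Led Lsl_ff (LP (LK LD1_c7 LD2_c41 LD3_c60)) = (LP (LK LD1_c13 LD2_c45 LD3_c39)) :=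
  Lgr Lrot30 (Lpr_at (K29.f12225 IH) (Lpr_ft (f476840 IH) (Lpr_at (f476823 IH) (Lpn (LP (LK LD1_c13 LD2_c45 LD3_c39))))))
theorem f484859 : Led Lsl_bf (LP (LK LD1_c13 LD2_c45 LD3_c39)) = (LP (LK LD1_c7 LD2_c38 LD3_c45)) :=
  Lgr Lrot61 (Lpe (f476972 IH) (Lpr_bt (K33.f136546 IH) (Lpr_ft (K33.f484833 IH) (Lpn (LP (LK LD1_c7 LD2_c38 LD3_c45))))))
theorem f484839 : Led Lsl_gf (LP (LK LD1_c13 LD2_c8 LD3_c54)) = (LP (LK LD1_c14 LD2_c24 LD3_c37)) :=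
  Lgr Lrot47 (Lpr_gt (K33.f476956 IH) (Lpe (K33.f132226 IH) (Lpr_ff (K33.f484829 IH) (Lpn (LP (LK LD1_c14 LD2_c24 LD3_c37))))))
theorem f486429 : Led Lsl_bt (LP (LK LD1_c12 LD2_c33 LD3_c61)) = (LP (LK LD1_c21 LD2_c40 LD3_c12)) :=
  Lre_b IH (LK LD1_c12 LD2_c33 LD3_c61) (LK LD1_c21 LD2_c40 LD3_c12) Lrfl Lrfl
theorem f486763 : Led Lsl_bt (LP (LK LD1_c14 LD2_c19 LD3_c24)) = (LP (LK LD1_c13 LD2_c10 LD3_c31)) :=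
  Lgr Lrot128 (Lpe (K33.f486412 IH) (Lpr_bf (K33.f486422 IH) (Lpe (K33.f482334 IH) (Lpe (f486429 IH) (Lpr_cf (K33.f486761 IH) (Lpn (LP (LK LD1_c13 LD2_c10 LD3_c31))))))))
theorem f89809 : Led Lsl_cf (LP (LK LD1_c6 LD2_c43 LD3_c24)) = (LP (LK LD1_c6 LD2_c56 LD3_c16)) :=
  Lgr Lrot11 (Lpr_ct (K3.f89807 IH) (Lpn (LP (LK LD1_c6 LD2_c56 LD3_c16))))
theorem f487032 : Led Lsl_gf (LP (LK LD1_c7 LD2_c38 LD3_c8)) = (LP (LK LD1_c6 LD2_c43 LD3_c24)) :=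
  Lgr Lrot129 (Lpe (f467724 IH) (Lpr_bt (f487011 IH) (Lpr_gt (f487020 IH) (Lpr_bf (f484859 IH) (Lpr_ct (K33.f484821 IH) (Lpe (f484839 IH) (Lpr_cf (K33.f486410 IH) (Lpr_bt (f486763 IH) (Lpr_gt (K33.f89817 IH) (Lpe (f89809 IH) (Lpn (LP (LK LD1_c6 LD2_c43 LD3_c24)))))))))))))
theorem f89798 : Led Lsl_ct (LP (LK LD1_c3 LD2_c49 LD3_c21)) = (LP (LK LD1_c7 LD2_c39 LD3_c13)) :=
  Lre_c IH (LK LD1_c3 LD2_c49 LD3_c21) (LK LD1_c7 LD2_c39 LD3_c13) Lrfl Lrfl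
theorem f136374 : Led Lsl_bt (LP (LK LD1_c14 LD2_c46 LD3_c5)) = (LP (LK LD1_c13 LD2_c41 LD3_c24)) :=
  Lgr Lrot127 (Lpr_bf (K8.f136372 IH) (Lpn (LP (LK LD1_c13 LD2_c41 LD3_c24))))
theorem f155673 : Led Lsl_bt (LP (LK LD1_c7 LD2_c14 LD3_c1)) = (LP (LK LD1_c7 LD2_c8 LD3_c2)) :=
  Lgr Lrot128 (Lpe (K8.f136382 IH) (Lpe (f136374 IH) (Lpe (K33.f136385 IH) (Lpe (K8.f155653 IH) (Lpr_cf (K8.f155671 IH) (Lpn (LP (LK LD1_c7 LD2_c8 LD3_c2))))))))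
theorem f488809 : Led Lsl_gf (LP (LK LD1_c13 LD2_c41 LD3_c24)) = (LP (LK LD1_c13 LD2_c10 LD3_c6)) :=
  Lgr Lrot129 (Lpe (K8.f136377 IH) (Lpr_bt (f155673 IH) (Lpr_gt (K34.f488806 IH) (Lpe (K35.f456619 IH) (Lpe (K29.f456622 IH) (Lpe (K29.f480912 IH) (Lpe (K29.f477956 IH) (Lpr_bt (K29.f477953 IH) (Lpr_gt (K29.f477964 IH) (Lpe (K29.f482343 IH) (Lpn (LP (LK LD1_c13 LD2_c10 LD3_c6)))))))))))))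
theorem f96804 : Led Lsl_ft (LP (LK LD1_c14 LD2_c19 LD3_c40)) = (LP (LK LD1_c7 LD2_c35 LD3_c61)) :=
  Lre_f IH (LK LD1_c14 LD2_c19 LD3_c40) (LK LD1_c7 LD2_c35 LD3_c61) Lrfl Lrfl
theorem f488812 : Led Lsl_gt (LP (LK LD1_c14 LD2_c19 LD3_c40)) = (LP (LK LD1_c13 LD2_c10 LD3_c6)) :=
  Lgr Lrot5 (Lpr_ft (f96804 IH) (Lpe (K8.f162210 IH) (Lpr_gf (f488809 IH) (Lpn (LP (LK LD1_c13 LD2_c10 LD3_c6))))))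
theorem f486788 : Led Lsl_bt (LP (LK LD1_c7 LD2_c36 LD3_c3)) = (LP (LK LD1_c14 LD2_c19 LD3_c40)) :=
  Lre_b IH (LK LD1_c7 LD2_c36 LD3_c3) (LK LD1_c14 LD2_c19 LD3_c40) Lrfl Lrfl
theorem f488975 : Led Lsl_gf (LP (LK LD1_c14 LD2_c19 LD3_c43)) = (LP (LK LD1_c22 LD2_c19 LD3_c59)) :=
  Lgr Lrot126 (Lpe (K33.f162303 IH) (Lpr_bt (f486788 IH) (Lpr_gt (f488812 IH) (Lpr_ct (K29.f482338 IH) (Lpr_gt (K29.f481019 IH) (Lpe (f89798 IH) (Lpe (K28.f89796 IH) (Lpe (f487032 IH) (Lpe (f488967 IH) (Lpr_ct (f488969 IH) (Lpn (LP (LK LD1_c22 LD2_c19 LD3_c59)))))))))))))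
theorem f487013 : Led Lsl_cf (LP (LK LD1_c7 LD2_c38 LD3_c7)) = (LP (LK LD1_c13 LD2_c8 LD3_c1)) :=
  Lgr Lrot11 (Lpr_ct (f487009 IH) (Lpn (LP (LK LD1_c13 LD2_c8 LD3_c1))))
theorem f12241 : Led Lsl_gt (LP (LK LD1_c3 LD2_c50 LD3_c36)) = (LP (LK LD1_c1 LD2_c52 LD3_c11)) :=
  Lre_g IH (LK LD1_c3 LD2_c50 LD3_c36) (LK LD1_c1 LD2_c52 LD3_c11) Lrfl Lrfl
theorem f485374 : Led Lsl_bt (LP (LK LD1_c7 LD2_c42 LD3_c16)) = (LP (LK LD1_c3 LD2_c50 LD3_c36)) :=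
  Lre_b IH (LK LD1_c7 LD2_c42 LD3_c16) (LK LD1_c3 LD2_c50 LD3_c36) Lrfl Lrfl
theorem f485363 : Led Lsl_ct (LP (LK LD1_c7 LD2_c42 LD3_c16)) = (LP (LK LD1_c14 LD2_c31 LD3_c12)) :=
  Lre_c IH (LK LD1_c7 LD2_c42 LD3_c16) (LK LD1_c14 LD2_c31 LD3_c12) Lrfl Lrfl
theorem f489221 : Led Lsl_gf (LP (LK LD1_c14 LD2_c31 LD3_c12)) = (LP (LK LD1_c22 LD2_c47 LD3_c25)) :=
  Lgr Lrot126 (Lpe (f485363 IH) (Lpr_bt (f485374 IH) (Lpr_gt (f12241 IH) (Lpr_ct (K5.f12216 IH) (Lpe (f487018 IH) (Lpr_cf (f487013 IH) (Lpr_bt (f487012 IH) (Lpe (f488975 IH) (Lpr_bf (K33.f489190 IH) (Lpe (K33.f489219 IH) (Lpn (LP (LK LD1_c22 LD2_c47 LD3_c25)))))))))))))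
theorem f485375 : Led Lsl_ct (LP (LK LD1_c14 LD2_c31 LD3_c12)) = (LP (LK LD1_c7 LD2_c42 LD3_c16)) :=
  Lre_c IH (LK LD1_c14 LD2_c31 LD3_c12) (LK LD1_c7 LD2_c42 LD3_c16) Lrfl Lrfl
theorem f15241 : Led Lsl_gt (LP (LK LD1_c14 LD2_c18 LD3_c37)) = (LP (LK LD1_c7 LD2_c35 LD3_c26)) :=
  Lre_g IH (LK LD1_c14 LD2_c18 LD3_c37) (LK LD1_c7 LD2_c35 LD3_c26) Lrfl Lrfl
theorem f485360 : Led Lsl_cf (LP (LK LD1_c3 LD2_c50 LD3_c36)) = (LP (LK LD1_c7 LD2_c35 LD3_c26)) :=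
  Lgr Lrot125 (Lpr_gt (f12241 IH) (Lpe (K33.f12239 IH) (Lpr_bt (K5.f12218 IH) (Lpr_gt (K33.f12224 IH) (Lpe (K33.f12242 IH) (Lpr_ct (K33.f485352 IH) (Lpe (K33.f142602 IH) (Lpr_cf (K8.f142570 IH) (Lpr_bt (K4.f117311 IH) (Lpr_gt (f15241 IH) (Lpn (LP (LK LD1_c7 LD2_c35 LD3_c26)))))))))))))
theorem f485364 : Led Lsl_ct (LP (LK LD1_c3 LD2_c50 LD3_c36)) = (LP (LK LD1_c7 LD2_c35 LD3_c26)) :=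
  Lgr Lrot59 (Lpr_cf (f485360 IH) (Lpn (LP (LK LD1_c7 LD2_c35 LD3_c26))))
theorem f485362 : Led Lsl_bt (LP (LK LD1_c3 LD2_c50 LD3_c36)) = (LP (LK LD1_c7 LD2_c42 LD3_c16)) :=
  Lre_b IH (LK LD1_c3 LD2_c50 LD3_c36) (LK LD1_c7 LD2_c42 LD3_c16) Lrfl Lrfl
theorem f15113 : Led Lsl_gt (LP (LK LD1_c7 LD2_c35 LD3_c26)) = (LP (LK LD1_c3 LD2_c47 LD3_c18)) :=
  Lre_g IH (LK LD1_c7 LD2_c35 LD3_c26) (LK LD1_c3 LD2_c47 LD3_c18) Lrfl Lrfl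
theorem f15095 : Led Lsl_ct (LP (LK LD1_c3 LD2_c26 LD3_c30)) = (LP (LK LD1_c3 LD2_c47 LD3_c18)) :=
  Lgr Lrot83 (Lpe (K33.f15093 IH) (Lpe (K5.f15092 IH) (Lpe (K33.f15091 IH) (Lpr_cf (K4.f15086 IH) (Lpe (K33.f15094 IH) (Lpn (LP (LK LD1_c3 LD2_c47 LD3_c18))))))))
theorem f15161 : Led Lsl_bt (LP (LK LD1_c3 LD2_c26 LD3_c30)) = (LP (LK LD1_c1 LD2_c39 LD3_c58)) :=
  Lre_b IH (LK LD1_c3 LD2_c26 LD3_c30) (LK LD1_c1 LD2_c39 LD3_c58) Lrfl Lrfl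
theorem f485381 : Led Lsl_gf (LP (LK LD1_c7 LD2_c42 LD3_c16)) = (LP (LK LD1_c6 LD2_c56 LD3_c4)) :=
  Lgr Lrot124 (Lpe (f485362 IH) (Lpr_ct (f485364 IH) (Lpr_gt (f15113 IH) (Lpe (f15095 IH) (Lpr_bt (f15161 IH) (Lpr_gt (K29.f15189 IH) (Lpr_ct (K34.f484135 IH) (Lpr_gt (K29.f90050 IH) (Lpe (K29.f90036 IH) (Lpr_bt (f90049 IH) (Lpn (LP (LK LD1_c6 LD2_c56 LD3_c4)))))))))))))
theorem f97891 : Led Lsl_ft (LP (LK LD1_c6 LD2_c56 LD3_c4)) = (LP (LK LD1_c3 LD2_c27 LD3_c4)) :=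
  Lre_f IH (LK LD1_c6 LD2_c56 LD3_c4) (LK LD1_c3 LD2_c27 LD3_c4) Lrfl Lrfl
theorem f485383 : Led Lsl_gt (LP (LK LD1_c7 LD2_c42 LD3_c16)) = (LP (LK LD1_c6 LD2_c55 LD3_c57)) :=
  Lgr Lrot46 (Lpr_gf (f485381 IH) (Lpr_ft (f97891 IH) (Lpr_at (K3.f97890 IH) (Lpn (LP (LK LD1_c6 LD2_c55 LD3_c57))))))
theorem f486600 : Led Lsl_bt (LP (LK LD1_c3 LD2_c34 LD3_c4)) = (LP (LK LD1_c7 LD2_c9 LD3_c14)) :=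
  Lre_b IH (LK LD1_c3 LD2_c34 LD3_c4) (LK LD1_c7 LD2_c9 LD3_c14) Lrfl Lrfl
theorem f486629 : Led Lsl_ff (LP (LK LD1_c7 LD2_c13 LD3_c25)) = (LP (LK LD1_c7 LD2_c9 LD3_c14)) :=
  Lgr Lrot25 (Lpr_bt (K29.f88538 IH) (Lpr_ft (K34.f486619 IH) (Lpr_bt (f486600 IH) (Lpn (LP (LK LD1_c7 LD2_c9 LD3_c14))))))
theorem f486717 : Led Lsl_at (LP (LK LD1_c13 LD2_c32 LD3_c60)) = (LP (LK LD1_c7 LD2_c9 LD3_c14)) :=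
  Lre_a IH (LK LD1_c13 LD2_c32 LD3_c60) (LK LD1_c7 LD2_c9 LD3_c14) Lrfl Lrfl
theorem f486718 : Led Lsl_ft (LP (LK LD1_c13 LD2_c40 LD3_c26)) = (LP (LK LD1_c13 LD2_c32 LD3_c60)) :=
  Lgr Lrot101 (Lpe (K33.f88535 IH) (Lpr_ff (f486629 IH) (Lpe (f486717 IH) (Lpn (LP (LK LD1_c13 LD2_c32 LD3_c60))))))
theorem f486742 : Led Lsl_gt (LP (LK LD1_c13 LD2_c32 LD3_c59)) = (LP (LK LD1_c7 LD2_c9 LD3_c14)) :=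
  Lre_g IH (LK LD1_c13 LD2_c32 LD3_c59) (LK LD1_c7 LD2_c9 LD3_c14) Lrfl Lrfl
theorem f486755 : Led Lsl_gt (LP (LK LD1_c13 LD2_c40 LD3_c26)) = (LP (LK LD1_c13 LD2_c32 LD3_c59)) :=
  Lgr Lrot5 (Lpr_ft (f486718 IH) (Lpr_at (f486717 IH) (Lpe (f486742 IH) (Lpn (LP (LK LD1_c13 LD2_c32 LD3_c59))))))
theorem f87690 : Led Lsl_bt (LP (LK LD1_c7 LD2_c34 LD3_c51)) = (LP (LK LD1_c3 LD2_c48 LD3_c32)) :=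
  Lgr Lrot62 (Lpe (K3.f87687 IH) (Lpe (K29.f87686 IH) (Lpr_af (K2.f87680 IH) (Lpe (K33.f87688 IH) (Lpe (K33.f87689 IH) (Lpn (LP (LK LD1_c3 LD2_c48 LD3_c32))))))))
theorem f15244 : Led Lsl_gt (LP (LK LD1_c7 LD2_c35 LD3_c25)) = (LP (LK LD1_c14 LD2_c18 LD3_c37)) :=
  Lre_g IH (LK LD1_c7 LD2_c35 LD3_c25) (LK LD1_c14 LD2_c18 LD3_c37) Lrfl Lrfl
theorem f15116 : Led Lsl_bt (LP (LK LD1_c14 LD2_c18 LD3_c38)) = (LP (LK LD1_c7 LD2_c35 LD3_c25)) :=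
  Lre_b IH (LK LD1_c14 LD2_c18 LD3_c38) (LK LD1_c7 LD2_c35 LD3_c25) Lrfl Lrfl
theorem f486962 : Led Lsl_cf (LP (LK LD1_c13 LD2_c32 LD3_c59)) = (LP (LK LD1_c14 LD2_c18 LD3_c38)) :=
  Lgr Lrot58 (Lpe (f486755 IH) (Lpe (K3.f88555 IH) (Lpr_bt (f87690 IH) (Lpe (K33.f88569 IH) (Lpr_bf (K33.f486926 IH) (Lpr_ct (K33.f15196 IH) (Lpe (K33.f15239 IH) (Lpr_cf (K33.f15137 IH) (Lpe (f15244 IH) (Lpe (f15116 IH) (Lpn (LP (LK LD1_c14 LD2_c18 LD3_c38)))))))))))))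
theorem f486964 : Led Lsl_ct (LP (LK LD1_c13 LD2_c32 LD3_c59)) = (LP (LK LD1_c14 LD2_c18 LD3_c38)) :=
  Lgr Lrot59 (Lpr_cf (f486962 IH) (Lpn (LP (LK LD1_c14 LD2_c18 LD3_c38))))
theorem f12313 : Led Lsl_dt (LP (LK LD1_c3 LD2_c50 LD3_c31)) = (LP (LK LD1_c7 LD2_c42 LD3_c6)) :=
  Lre_d IH (LK LD1_c3 LD2_c50 LD3_c31) (LK LD1_c7 LD2_c42 LD3_c6) Lrfl Lrfl
theorem f476866 : Led Lsl_dt (LP (LK LD1_c14 LD2_c30 LD3_c58)) = (LP (LK LD1_c24 LD2_c12 LD3_c28)) :=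
  Lre_d IH (LK LD1_c14 LD2_c30 LD3_c58) (LK LD1_c24 LD2_c12 LD3_c28) Lrfl Lrfl
theorem f476878 : Led Lsl_ct (LP (LK LD1_c24 LD2_c12 LD3_c28)) = (LP (LK LD1_c31 LD2_c25 LD3_c3)) :=
  Lre_c IH (LK LD1_c24 LD2_c12 LD3_c28) (LK LD1_c31 LD2_c25 LD3_c3) Lrfl Lrfl
theorem f476879 : Led Lsl_dt (LP (LK LD1_c31 LD2_c25 LD3_c3)) = (LP (LK LD1_c24 LD2_c12 LD3_c19)) :=
  Lre_d IH (LK LD1_c31 LD2_c25 LD3_c3) (LK LD1_c24 LD2_c12 LD3_c19) Lrfl Lrfl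
theorem f476880 : Led Lsl_ct (LP (LK LD1_c24 LD2_c12 LD3_c19)) = (LP (LK LD1_c14 LD2_c30 LD3_c53)) :=
  Lre_c IH (LK LD1_c24 LD2_c12 LD3_c19) (LK LD1_c14 LD2_c30 LD3_c53) Lrfl Lrfl
theorem f136701 : Led Lsl_dt (LP (LK LD1_c14 LD2_c30 LD3_c53)) = (LP (LK LD1_c7 LD2_c42 LD3_c2)) :=
  Lre_d IH (LK LD1_c14 LD2_c30 LD3_c53) (LK LD1_c7 LD2_c42 LD3_c2) Lrfl Lrfl
theorem f476974 : Led Lsl_ct (LP (LK LD1_c7 LD2_c42 LD3_c2)) = (LP (LK LD1_c13 LD2_c45 LD3_c39)) :=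
  Lgr Lrot98 (Lpe (f136701 IH) (Lpe (f476880 IH) (Lpe (f476879 IH) (Lpe (f476878 IH) (Lpe (f476866 IH) (Lpe (K29.f12246 IH) (Lpe (f12313 IH) (Lpr_ft (f476840 IH) (Lpr_at (f476823 IH) (Lpn (LP (LK LD1_c13 LD2_c45 LD3_c39))))))))))))
theorem f476976 : Led Lsl_cf (LP (LK LD1_c7 LD2_c42 LD3_c2)) = (LP (LK LD1_c13 LD2_c45 LD3_c39)) :=
  Lgr Lrot11 (Lpr_ct (f476974 IH) (Lpn (LP (LK LD1_c13 LD2_c45 LD3_c39))))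
theorem f136517 : Led Lsl_et (LP (LK LD1_c1 LD2_c52 LD3_c8)) = (LP (LK LD1_c3 LD2_c50 LD3_c28)) :=
  Lre_e IH (LK LD1_c1 LD2_c52 LD3_c8) (LK LD1_c3 LD2_c50 LD3_c28) Lrfl Lrfl
theorem f136518 : Led Lsl_ft (LP (LK LD1_c3 LD2_c50 LD3_c28)) = (LP (LK LD1_c7 LD2_c42 LD3_c2)) :=
  Lre_f IH (LK LD1_c3 LD2_c50 LD3_c28) (LK LD1_c7 LD2_c42 LD3_c2) Lrfl Lrfl
theorem f136519 : Led Lsl_et (LP (LK LD1_c7 LD2_c42 LD3_c2)) = (LP (LK LD1_c14 LD2_c18 LD3_c37)) :=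
  Lgr Lrot69 (Lpe (f136518 IH) (Lpe (f136517 IH) (Lpr_ff (K6.f136512 IH) (Lpe (K4.f15211 IH) (Lpe (K4.f15222 IH) (Lpn (LP (LK LD1_c14 LD2_c18 LD3_c37))))))))
theorem f476985 : Led Lsl_et (LP (LK LD1_c13 LD2_c8 LD3_c4)) = (LP (LK LD1_c13 LD2_c45 LD3_c39)) :=
  Lgr Lrot158 (Lpr_cf (K33.f15137 IH) (Lpe (f136519 IH) (Lpr_cf (f476976 IH) (Lpn (LP (LK LD1_c13 LD2_c45 LD3_c39))))))
theorem f484867 : Led Lsl_bt (LP (LK LD1_c13 LD2_c45 LD3_c39)) = (LP (LK LD1_c7 LD2_c38 LD3_c45)) :=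
  Lgr Lrot119 (Lpe (f476985 IH) (Lpr_bf (K34.f484497 IH) (Lpr_ef (K33.f484863 IH) (Lpn (LP (LK LD1_c7 LD2_c38 LD3_c45))))))
theorem f135959 : Led Lsl_gt (LP (LK LD1_c3 LD2_c50 LD3_c35)) = (LP (LK LD1_c7 LD2_c42 LD3_c2)) :=
  Lre_g IH (LK LD1_c3 LD2_c50 LD3_c35) (LK LD1_c7 LD2_c42 LD3_c2) Lrfl Lrfl
theorem f15112 : Led Lsl_bt (LP (LK LD1_c1 LD2_c50 LD3_c47)) = (LP (LK LD1_c3 LD2_c47 LD3_c18)) :=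
  Lre_b IH (LK LD1_c1 LD2_c50 LD3_c47) (LK LD1_c3 LD2_c47 LD3_c18) Lrfl Lrfl
theorem f15115 : Led Lsl_gt (LP (LK LD1_c3 LD2_c47 LD3_c18)) = (LP (LK LD1_c7 LD2_c35 LD3_c25)) :=
  Lre_g IH (LK LD1_c3 LD2_c47 LD3_c18) (LK LD1_c7 LD2_c35 LD3_c25) Lrfl Lrfl
theorem f484874 : Led Lsl_cf (LP (LK LD1_c3 LD2_c50 LD3_c35)) = (LP (LK LD1_c7 LD2_c35 LD3_c25)) :=
  Lgr Lrot125 (Lpr_gt (f135959 IH) (Lpr_cf (f476976 IH) (Lpr_bt (f484867 IH) (Lpr_gt (K33.f484760 IH) (Lpe (K33.f484529 IH) (Lpe (K33.f484531 IH) (Lpr_gt (K33.f15114 IH) (Lpr_cf (K4.f15086 IH) (Lpr_bt (f15112 IH) (Lpr_gt (f15115 IH) (Lpn (LP (LK LD1_c7 LD2_c35 LD3_c25)))))))))))))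
theorem f484876 : Led Lsl_bt (LP (LK LD1_c7 LD2_c35 LD3_c25)) = (LP (LK LD1_c14 LD2_c18 LD3_c38)) :=
  Lre_b IH (LK LD1_c7 LD2_c35 LD3_c25) (LK LD1_c14 LD2_c18 LD3_c38) Lrfl Lrfl
theorem f162558 : Led Lsl_bf (LP (LK LD1_c13 LD2_c30 LD3_c19)) = (LP (LK LD1_c14 LD2_c19 LD3_c21)) :=
  Lgr Lrot24 (Lpr_bt (K33.f162555 IH) (Lpn (LP (LK LD1_c14 LD2_c19 LD3_c21))))
theorem f485021 : Led Lsl_gf (LP (LK LD1_c14 LD2_c18 LD3_c38)) = (LP (LK LD1_c13 LD2_c30 LD3_c19)) :=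
  Lgr Lrot124 (Lpe (f484876 IH) (Lpe (f484874 IH) (Lpr_gt (f135959 IH) (Lpr_cf (f476976 IH) (Lpr_bt (f484867 IH) (Lpr_gt (K33.f484760 IH) (Lpr_ct (K33.f484530 IH) (Lpr_gt (K33.f485017 IH) (Lpr_cf (K33.f425718 IH) (Lpe (f162558 IH) (Lpn (LP (LK LD1_c13 LD2_c30 LD3_c19)))))))))))))
theorem f162557 : Led Lsl_ct (LP (LK LD1_c7 LD2_c7 LD3_c48)) = (LP (LK LD1_c13 LD2_c30 LD3_c19)) :=
  Lre_c IH (LK LD1_c7 LD2_c7 LD3_c48) (LK LD1_c13 LD2_c30 LD3_c19) Lrfl Lrfl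
theorem f481225 : Led Lsl_gt (LP (LK LD1_c13 LD2_c43 LD3_c28)) = (LP (LK LD1_c7 LD2_c15 LD3_c8)) :=
  Lre_g IH (LK LD1_c13 LD2_c43 LD3_c28) (LK LD1_c7 LD2_c15 LD3_c8) Lrfl Lrfl
theorem f486966 : Led Lsl_bt (LP (LK LD1_c13 LD2_c32 LD3_c59)) = (LP (LK LD1_c13 LD2_c43 LD3_c28)) :=
  Lgr Lrot22 (Lpr_ct (f486964 IH) (Lpr_gf (f485021 IH) (Lpe (f162557 IH) (Lpr_gf (K33.f486365 IH) (Lpe (K33.f467014 IH) (Lpr_ct (K29.f477619 IH) (Lpe (K33.f477607 IH) (Lpe (K29.f477956 IH) (Lpr_bt (K29.f477953 IH) (Lpe (f481225 IH) (Lpn (LP (LK LD1_c13 LD2_c43 LD3_c28)))))))))))))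
theorem f486968 : Led Lsl_bf (LP (LK LD1_c13 LD2_c32 LD3_c59)) = (LP (LK LD1_c13 LD2_c43 LD3_c28)) :=
  Lgr Lrot24 (Lpr_bt (f486966 IH) (Lpn (LP (LK LD1_c13 LD2_c43 LD3_c28))))
theorem f484878 : Led Lsl_ct (LP (LK LD1_c3 LD2_c50 LD3_c35)) = (LP (LK LD1_c7 LD2_c35 LD3_c25)) :=
  Lgr Lrot59 (Lpr_cf (f484874 IH) (Lpn (LP (LK LD1_c7 LD2_c35 LD3_c25))))
theorem f476982 : Led Lsl_bt (LP (LK LD1_c7 LD2_c42 LD3_c14)) = (LP (LK LD1_c3 LD2_c50 LD3_c35)) :=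
  Lre_b IH (LK LD1_c7 LD2_c42 LD3_c14) (LK LD1_c3 LD2_c50 LD3_c35) Lrfl Lrfl
theorem f486970 : Led Lsl_cf (LP (LK LD1_c7 LD2_c42 LD3_c14)) = (LP (LK LD1_c13 LD2_c43 LD3_c28)) :=
  Lgr Lrot97 (Lpr_bt (f476982 IH) (Lpr_ct (f484878 IH) (Lpr_bt (f484876 IH) (Lpe (f486962 IH) (Lpr_bt (f486966 IH) (Lpn (LP (LK LD1_c13 LD2_c43 LD3_c28))))))))
theorem f484877 : Led Lsl_bt (LP (LK LD1_c3 LD2_c50 LD3_c35)) = (LP (LK LD1_c7 LD2_c42 LD3_c14)) :=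
  Lre_b IH (LK LD1_c3 LD2_c50 LD3_c35) (LK LD1_c7 LD2_c42 LD3_c14) Lrfl Lrfl
theorem f488847 : Led Lsl_gf (LP (LK LD1_c14 LD2_c19 LD3_c40)) = (LP (LK LD1_c7 LD2_c42 LD3_c14)) :=
  Lgr Lrot181 (Lpr_ct (K33.f488831 IH) (Lpr_gt (K33.f481142 IH) (Lpe (K33.f481126 IH) (Lpe (K33.f481754 IH) (Lpr_gt (K33.f15270 IH) (Lpe (f15161 IH) (Lpr_ct (f15095 IH) (Lpr_gt (f15115 IH) (Lpe (f484878 IH) (Lpr_bt (f484877 IH) (Lpn (LP (LK LD1_c7 LD2_c42 LD3_c14)))))))))))))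
theorem f488839 : Led Lsl_cf (LP (LK LD1_c14 LD2_c19 LD3_c40)) = (LP (LK LD1_c13 LD2_c28 LD3_c18)) :=
  Lgr Lrot108 (Lpr_ft (f96804 IH) (Lpe (K28.f96793 IH) (Lpr_ft (K33.f488837 IH) (Lpn (LP (LK LD1_c13 LD2_c28 LD3_c18))))))
theorem f489223 : Led Lsl_bt (LP (LK LD1_c13 LD2_c28 LD3_c18)) = (LP (LK LD1_c22 LD2_c47 LD3_c25)) :=
  Lgr Lrot130 (Lpe (f488839 IH) (Lpr_gf (f488847 IH) (Lpr_cf (f486970 IH) (Lpe (f486968 IH) (Lpe (f486755 IH) (Lpe (K33.f96560 IH) (Lpe (K3.f97883 IH) (Lpe (f485383 IH) (Lpe (f485375 IH) (Lpr_gf (f489221 IH) (Lpn (LP (LK LD1_c22 LD2_c47 LD3_c25)))))))))))))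
theorem f489232 : Led Lsl_ff (LP (LK LD1_c13 LD2_c30 LD3_c21)) = (LP (LK LD1_c22 LD2_c47 LD3_c25)) :=
  Lgr Lrot25 (Lpr_bt (K8.f96785 IH) (Lpr_ft (K33.f488837 IH) (Lpr_bt (f489223 IH) (Lpn (LP (LK LD1_c22 LD2_c47 LD3_c25))))))
theorem f489236 : Led Lsl_ft (LP (LK LD1_c13 LD2_c30 LD3_c21)) = (LP (LK LD1_c22 LD2_c47 LD3_c25)) :=
  Lgr Lrot48 (Lpr_ff (f489232 IH) (Lpn (LP (LK LD1_c22 LD2_c47 LD3_c25))))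
theorem f467526 : Led Lsl_ct (LP (LK LD1_c14 LD2_c27 LD3_c26)) = (LP (LK LD1_c7 LD2_c40 LD3_c7)) :=
  Lre_c IH (LK LD1_c14 LD2_c27 LD3_c26) (LK LD1_c7 LD2_c40 LD3_c7) Lrfl Lrfl
theorem f488075 : Led Lsl_gt (LP (LK LD1_c13 LD2_c10 LD3_c3)) = (LP (LK LD1_c14 LD2_c27 LD3_c26)) :=
  Lgr Lrot82 (Lpr_bf (K33.f488065 IH) (Lpr_ct (K33.f97954 IH) (Lpe (K33.f97944 IH) (Lpe (K28.f97920 IH) (Lpr_bt (K29.f97106 IH) (Lpr_gf (K29.f97089 IH) (Lpe (K33.f97103 IH) (Lpr_ct (K33.f467508 IH) (Lpe (K34.f461747 IH) (Lpe (f467526 IH) (Lpn (LP (LK LD1_c14 LD2_c27 LD3_c26)))))))))))))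
theorem f489238 : Led Lsl_af (LP (LK LD1_c14 LD2_c27 LD3_c26)) = (LP (LK LD1_c22 LD2_c47 LD3_c25)) :=
  Lgr Lrot31 (Lpe (f488075 IH) (Lpe (K33.f489026 IH) (Lpr_ft (f489236 IH) (Lpn (LP (LK LD1_c22 LD2_c47 LD3_c25))))))
theorem f489240 : Led Lsl_at (LP (LK LD1_c14 LD2_c27 LD3_c26)) = (LP (LK LD1_c22 LD2_c47 LD3_c25)) :=
  Lgr Lrot100 (Lpr_af (f489238 IH) (Lpn (LP (LK LD1_c22 LD2_c47 LD3_c25))))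
theorem f543134 : Led Lsl_ft (LP (LK LD1_c12 LD2_c8 LD3_c20)) = (LP (LK LD1_c14 LD2_c27 LD3_c26)) :=
  Lgr Lrot2 (Lpr_gt (f543132 IH) (Lpr_gt (K33.f480771 IH) (Lpe (f489240 IH) (Lpn (LP (LK LD1_c14 LD2_c27 LD3_c26))))))
theorem f543148 : Led Lsl_ff (LP (LK LD1_c12 LD2_c8 LD3_c20)) = (LP (LK LD1_c14 LD2_c27 LD3_c26)) :=
  Lgr Lrot3 (Lpr_ft (f543134 IH) (Lpn (LP (LK LD1_c14 LD2_c27 LD3_c26))))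
theorem f450501 : Led Lsl_et (LP (LK LD1_c12 LD2_c8 LD3_c20)) = (LP (LK LD1_c6 LD2_c14 LD3_c61)) :=
  Lre_e IH (LK LD1_c12 LD2_c8 LD3_c20) (LK LD1_c6 LD2_c14 LD3_c61) Lrfl Lrfl
theorem f449955 : Led Lsl_bt (LP (LK LD1_c3 LD2_c4 LD3_c27)) = (LP (LK LD1_c6 LD2_c14 LD3_c61)) :=
  Lre_b IH (LK LD1_c3 LD2_c4 LD3_c27) (LK LD1_c6 LD2_c14 LD3_c61) Lrfl Lrfl
theorem f449930 : Led Lsl_bt (LP (LK LD1_c5 LD2_c49 LD3_c39)) = (LP (LK LD1_c2 LD2_c50 LD3_c57)) :=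
  Lre_b IH (LK LD1_c5 LD2_c49 LD3_c39) (LK LD1_c2 LD2_c50 LD3_c57) Lrfl Lrfl
theorem f449956 : Led Lsl_ft (LP (LK LD1_c6 LD2_c14 LD3_c61)) = (LP (LK LD1_c5 LD2_c49 LD3_c39)) :=
  Lgr Lrot75 (Lpe (f449955 IH) (Lpr_ff (K36.f449952 IH) (Lpe (f449930 IH) (Lpn (LP (LK LD1_c5 LD2_c49 LD3_c39))))))
theorem f450502 : Led Lsl_et (LP (LK LD1_c5 LD2_c49 LD3_c39)) = (LP (LK LD1_c11 LD2_c27 LD3_c61)) :=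
  Lre_e IH (LK LD1_c5 LD2_c49 LD3_c39) (LK LD1_c11 LD2_c27 LD3_c61) Lrfl Lrfl
theorem f450503 : Led Lsl_ft (LP (LK LD1_c11 LD2_c27 LD3_c61)) = (LP (LK LD1_c20 LD2_c25 LD3_c39)) :=
  Lre_f IH (LK LD1_c11 LD2_c27 LD3_c61) (LK LD1_c20 LD2_c25 LD3_c39) Lrfl Lrfl
theorem f543156 : Led Lsl_et (LP (LK LD1_c20 LD2_c25 LD3_c39)) = (LP (LK LD1_c14 LD2_c27 LD3_c26)) :=
  Lgr Lrot69 (Lpe (f450503 IH) (Lpe (f450502 IH) (Lpe (f449956 IH) (Lpe (f450501 IH) (Lpr_ff (f543148 IH) (Lpn (LP (LK LD1_c14 LD2_c27 LD3_c26))))))))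
theorem f489083 : Led Lsl_ef (LP (LK LD1_c13 LD2_c33 LD3_c32)) = (LP (LK LD1_c7 LD2_c40 LD3_c7)) :=
  Lgr Lrot21 (Lpr_ft (K33.f485060 IH) (Lpr_et (K8.f93029 IH) (Lpe (K8.f162165 IH) (Lpr_et (K34.f127268 IH) (Lpr_ft (K34.f489079 IH) (Lpn (LP (LK LD1_c7 LD2_c40 LD3_c7))))))))
theorem f543160 : Led Lsl_cf (LP (LK LD1_c20 LD2_c25 LD3_c39)) = (LP (LK LD1_c13 LD2_c33 LD3_c32)) :=
  Lgr Lrot39 (Lpr_et (f543156 IH) (Lpr_ct (f467526 IH) (Lpe (f489083 IH) (Lpn (LP (LK LD1_c13 LD2_c33 LD3_c32))))))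
theorem f543164 : Led Lsl_ct (LP (LK LD1_c20 LD2_c25 LD3_c39)) = (LP (LK LD1_c13 LD2_c33 LD3_c32)) :=
  Lgr Lrot59 (Lpr_cf (f543160 IH) (Lpn (LP (LK LD1_c13 LD2_c33 LD3_c32))))
theorem f450504 : Led Lsl_bt (LP (LK LD1_c20 LD2_c25 LD3_c39)) = (LP (LK LD1_c11 LD2_c28 LD3_c1)) :=
  Lre_b IH (LK LD1_c20 LD2_c25 LD3_c39) (LK LD1_c11 LD2_c28 LD3_c1) Lrfl Lrfl
theorem f466644 : Led Lsl_bt (LP (LK LD1_c3 LD2_c34 LD3_c13)) = (LP (LK LD1_c1 LD2_c43 LD3_c47)) :=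
  Lre_b IH (LK LD1_c3 LD2_c34 LD3_c13) (LK LD1_c1 LD2_c43 LD3_c47) Lrfl Lrfl
theorem f543201 : Led Lsl_gf (LP (LK LD1_c11 LD2_c28 LD3_c1)) = (LP (LK LD1_c7 LD2_c6 LD3_c34)) :=
  Lgr Lrot124 (Lpe (f450504 IH) (Lpr_ct (f543164 IH) (Lpr_gt (K33.f466649 IH) (Lpe (K33.f466648 IH) (Lpr_bt (f466644 IH) (Lpe (K28.f466641 IH) (Lpe (K3.f96959 IH) (Lpr_gt (K29.f467249 IH) (Lpe (K34.f456068 IH) (Lpr_bt (K34.f456063 IH) (Lpn (LP (LK LD1_c7 LD2_c6 LD3_c34)))))))))))))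
theorem f543017 : Led Lsl_at (LP (LK LD1_c7 LD2_c8 LD3_c44)) = (LP (LK LD1_c11 LD2_c28 LD3_c1)) :=
  Lgr Lrot66 (Lpr_ff (f543015 IH) (Lpr_af (K36.f449918 IH) (Lpe (K36.f449925 IH) (Lpn (LP (LK LD1_c11 LD2_c28 LD3_c1))))))
theorem f543203 : Led Lsl_gt (LP (LK LD1_c6 LD2_c14 LD3_c59)) = (LP (LK LD1_c7 LD2_c6 LD3_c34)) :=
  Lgr Lrot5 (Lpe (f543015 IH) (Lpr_at (f543017 IH) (Lpr_gf (f543201 IH) (Lpn (LP (LK LD1_c7 LD2_c6 LD3_c34))))))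
theorem f37217 : Led Lsl_gt (LP (LK LD1_c3 LD2_c4 LD3_c30)) = (LP (LK LD1_c1 LD2_c28 LD3_c14)) :=
  Lre_g IH (LK LD1_c3 LD2_c4 LD3_c30) (LK LD1_c1 LD2_c28 LD3_c14) Lrfl Lrfl
theorem f424485 : Led Lsl_et (LP (LK LD1_c6 LD2_c15 LD3_c5)) = (LP (LK LD1_c3 LD2_c4 LD3_c30)) :=
  Lre_e IH (LK LD1_c6 LD2_c15 LD3_c5) (LK LD1_c3 LD2_c4 LD3_c30) Lrfl Lrfl
theorem f201385 : Led Lsl_et (LP (LK LD1_c2 LD2_c30 LD3_c40)) = (LP (LK LD1_c1 LD2_c12 LD3_c19)) :=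
  Lre_e IH (LK LD1_c2 LD2_c30 LD3_c40) (LK LD1_c1 LD2_c12 LD3_c19) Lrfl Lrfl
theorem f37215 : Led Lsl_et (LP (LK LD1_c0 LD2_c40 LD3_c47)) = (LP (LK LD1_c0 LD2_c18 LD3_c15)) :=
  Lre_e IH (LK LD1_c0 LD2_c40 LD3_c47) (LK LD1_c0 LD2_c18 LD3_c15) Lrfl Lrfl
theorem f424464 : Led Lsl_dt (LP (LK LD1_c2 LD2_c30 LD3_c40)) = (LP (LK LD1_c3 LD2_c4 LD3_c30)) :=
  Lgr Lrot136 (Lpr_et (f201385 IH) (Lpr_gf (K13.f166427 IH) (Lpe (K11.f35663 IH) (Lpr_dt (K1.f35591 IH) (Lpr_gf (K1.f37192 IH) (Lpe (K1.f37191 IH) (Lpe (K1.f37190 IH) (Lpe (f37215 IH) (Lpr_dt (K14.f37216 IH) (Lpe (f37217 IH) (Lpn (LP (LK LD1_c3 LD2_c4 LD3_c30)))))))))))))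
theorem f211526 : Led Lsl_et (LP (LK LD1_c1 LD2_c12 LD3_c19)) = (LP (LK LD1_c2 LD2_c30 LD3_c40)) :=
  Lre_e IH (LK LD1_c1 LD2_c12 LD3_c19) (LK LD1_c2 LD2_c30 LD3_c40) Lrfl Lrfl
theorem f165475 : Led Lsl_dt (LP (LK LD1_c2 LD2_c30 LD3_c39)) = (LP (LK LD1_c1 LD2_c12 LD3_c19)) :=
  Lre_d IH (LK LD1_c2 LD2_c30 LD3_c39) (LK LD1_c1 LD2_c12 LD3_c19) Lrfl Lrfl
theorem f211549 : Led Lsl_et (LP (LK LD1_c5 LD2_c6 LD3_c47)) = (LP (LK LD1_c2 LD2_c30 LD3_c39)) :=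
  Lre_e IH (LK LD1_c5 LD2_c6 LD3_c47) (LK LD1_c2 LD2_c30 LD3_c39) Lrfl Lrfl
theorem f424471 : Led Lsl_et (LP (LK LD1_c3 LD2_c4 LD3_c30)) = (LP (LK LD1_c6 LD2_c15 LD3_c5)) :=
  Lre_e IH (LK LD1_c3 LD2_c4 LD3_c30) (LK LD1_c6 LD2_c15 LD3_c5) Lrfl Lrfl
theorem f424472 : Led Lsl_df (LP (LK LD1_c5 LD2_c6 LD3_c47)) = (LP (LK LD1_c6 LD2_c15 LD3_c5)) :=
  Lgr Lrot70 (Lpr_et (f211549 IH) (Lpr_dt (f165475 IH) (Lpr_et (f211526 IH) (Lpr_dt (f424464 IH) (Lpr_et (f424471 IH) (Lpn (LP (LK LD1_c6 LD2_c15 LD3_c5))))))))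
theorem f5994 : Led Lsl_bt (LP (LK LD1_c7 LD2_c6 LD3_c34)) = (LP (LK LD1_c3 LD2_c32 LD3_c49)) :=
  Lre_b IH (LK LD1_c7 LD2_c6 LD3_c34) (LK LD1_c3 LD2_c32 LD3_c49) Lrfl Lrfl
theorem f482699 : Led Lsl_bt (LP (LK LD1_c6 LD2_c58 LD3_c38)) = (LP (LK LD1_c13 LD2_c14 LD3_c48)) :=
  Lre_b IH (LK LD1_c6 LD2_c58 LD3_c38) (LK LD1_c13 LD2_c14 LD3_c48) Lrfl Lrfl
theorem f482700 : Led Lsl_ef (LP (LK LD1_c7 LD2_c6 LD3_c34)) = (LP (LK LD1_c13 LD2_c14 LD3_c48)) :=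
  Lgr Lrot29 (Lpr_bt (f5994 IH) (Lpr_et (K29.f482697 IH) (Lpr_bt (f482699 IH) (Lpn (LP (LK LD1_c13 LD2_c14 LD3_c48))))))
theorem f482707 : Led Lsl_bt (LP (LK LD1_c13 LD2_c28 LD3_c17)) = (LP (LK LD1_c22 LD2_c47 LD3_c50)) :=
  Lre_b IH (LK LD1_c13 LD2_c28 LD3_c17) (LK LD1_c22 LD2_c47 LD3_c50) Lrfl Lrfl
theorem f482708 : Led Lsl_bt (LP (LK LD1_c13 LD2_c48 LD3_c39)) = (LP (LK LD1_c7 LD2_c17 LD3_c58)) :=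
  Lre_b IH (LK LD1_c13 LD2_c48 LD3_c39) (LK LD1_c7 LD2_c17 LD3_c58) Lrfl Lrfl
theorem f482709 : Led Lsl_dt (LP (LK LD1_c22 LD2_c47 LD3_c50)) = (LP (LK LD1_c13 LD2_c48 LD3_c39)) :=
  Lgr Lrot79 (Lpe (f482707 IH) (Lpr_df (K35.f482705 IH) (Lpe (f482708 IH) (Lpn (LP (LK LD1_c13 LD2_c48 LD3_c39))))))
theorem f482752 : Led Lsl_df (LP (LK LD1_c22 LD2_c47 LD3_c50)) = (LP (LK LD1_c13 LD2_c48 LD3_c39)) :=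
  Lgr Lrot38 (Lpr_dt (f482709 IH) (Lpn (LP (LK LD1_c13 LD2_c48 LD3_c39))))
theorem f482759 : Led Lsl_et (LP (LK LD1_c22 LD2_c47 LD3_c50)) = (LP (LK LD1_c13 LD2_c28 LD3_c15)) :=
  Lre_e IH (LK LD1_c22 LD2_c47 LD3_c50) (LK LD1_c13 LD2_c28 LD3_c15) Lrfl Lrfl
theorem f456120 : Led Lsl_dt (LP (LK LD1_c13 LD2_c28 LD3_c15)) = (LP (LK LD1_c7 LD2_c6 LD3_c34)) :=
  Lre_d IH (LK LD1_c13 LD2_c28 LD3_c15) (LK LD1_c7 LD2_c6 LD3_c34) Lrfl Lrfl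
theorem f482684 : Led Lsl_bt (LP (LK LD1_c13 LD2_c14 LD3_c48)) = (LP (LK LD1_c6 LD2_c58 LD3_c38)) :=
  Lre_b IH (LK LD1_c13 LD2_c14 LD3_c48) (LK LD1_c6 LD2_c58 LD3_c38) Lrfl Lrfl
theorem f482690 : Led Lsl_et (LP (LK LD1_c7 LD2_c6 LD3_c34)) = (LP (LK LD1_c13 LD2_c14 LD3_c48)) :=
  Lgr Lrot74 (Lpe (K34.f456063 IH) (Lpr_ef (K29.f482688 IH) (Lpe (f482684 IH) (Lpn (LP (LK LD1_c13 LD2_c14 LD3_c48))))))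
theorem f482763 : Led Lsl_et (LP (LK LD1_c7 LD2_c17 LD3_c56)) = (LP (LK LD1_c13 LD2_c48 LD3_c39)) :=
  Lre_e IH (LK LD1_c7 LD2_c17 LD3_c56) (LK LD1_c13 LD2_c48 LD3_c39) Lrfl Lrfl
theorem f482764 : Led Lsl_dt (LP (LK LD1_c13 LD2_c14 LD3_c48)) = (LP (LK LD1_c7 LD2_c17 LD3_c56)) :=
  Lgr Lrot77 (Lpe (f482690 IH) (Lpe (f456120 IH) (Lpe (f482759 IH) (Lpr_df (f482752 IH) (Lpe (f482763 IH) (Lpn (LP (LK LD1_c7 LD2_c17 LD3_c56))))))))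
theorem f543209 : Led Lsl_gf (LP (LK LD1_c5 LD2_c6 LD3_c47)) = (LP (LK LD1_c7 LD2_c17 LD3_c56)) :=
  Lgr Lrot145 (Lpr_df (f424472 IH) (Lpr_et (f424485 IH) (Lpr_gt (f37217 IH) (Lpr_dt (K14.f59089 IH) (Lpr_gt (K12.f38037 IH) (Lpe (K36.f38052 IH) (Lpr_et (f38068 IH) (Lpr_gt (f543203 IH) (Lpr_ef (f482700 IH) (Lpr_dt (f482764 IH) (Lpn (LP (LK LD1_c7 LD2_c17 LD3_c56)))))))))))))
theorem f204955 : Led Lsl_gt (LP (LK LD1_c5 LD2_c6 LD3_c47)) = (LP (LK LD1_c10 LD2_c4 LD3_c19)) :=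
  Lre_g IH (LK LD1_c5 LD2_c6 LD3_c47) (LK LD1_c10 LD2_c4 LD3_c19) Lrfl Lrfl
theorem f525322 : Led Lsl_ff (LP (LK LD1_c3 LD2_c38 LD3_c45)) = (LP (LK LD1_c7 LD2_c16 LD3_c59)) :=
  Lgr Lrot23 (Lpr_ct (K29.f4272 IH) (Lpr_ft (K35.f525318 IH) (Lpr_ct (K34.f4099 IH) (Lpn (LP (LK LD1_c7 LD2_c16 LD3_c59))))))
theorem f476457 : Led Lsl_bt (LP (LK LD1_c3 LD2_c38 LD3_c45)) = (LP (LK LD1_c7 LD2_c17 LD3_c56)) :=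
  Lre_b IH (LK LD1_c3 LD2_c38 LD3_c45) (LK LD1_c7 LD2_c17 LD3_c56) Lrfl Lrfl
theorem f5322 : Led Lsl_bt (LP (LK LD1_c13 LD2_c46 LD3_c51)) = (LP (LK LD1_c7 LD2_c16 LD3_c59)) :=
  Lre_b IH (LK LD1_c13 LD2_c46 LD3_c51) (LK LD1_c7 LD2_c16 LD3_c59) Lrfl Lrfl
theorem f526789 : Led Lsl_ft (LP (LK LD1_c7 LD2_c17 LD3_c56)) = (LP (LK LD1_c13 LD2_c46 LD3_c51)) :=
  Lgr Lrot75 (Lpe (f476457 IH) (Lpr_ff (f525322 IH) (Lpe (f5322 IH) (Lpn (LP (LK LD1_c13 LD2_c46 LD3_c51))))))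
theorem f543213 : Led Lsl_af (LP (LK LD1_c10 LD2_c4 LD3_c19)) = (LP (LK LD1_c13 LD2_c46 LD3_c51)) :=
  Lgr Lrot31 (Lpe (f204955 IH) (Lpr_gf (f543209 IH) (Lpr_ft (f526789 IH) (Lpn (LP (LK LD1_c13 LD2_c46 LD3_c51))))))
theorem f204976 : Led Lsl_et (LP (LK LD1_c10 LD2_c4 LD3_c19)) = (LP (LK LD1_c18 LD2_c23 LD3_c6)) :=
  Lre_e IH (LK LD1_c10 LD2_c4 LD3_c19) (LK LD1_c18 LD2_c23 LD3_c6) Lrfl Lrfl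
theorem f526794 : Led Lsl_et (LP (LK LD1_c23 LD2_c14 LD3_c11)) = (LP (LK LD1_c13 LD2_c46 LD3_c51)) :=
  Lre_e IH (LK LD1_c23 LD2_c14 LD3_c11) (LK LD1_c13 LD2_c46 LD3_c51) Lrfl Lrfl
theorem f543223 : Led Lsl_at (LP (LK LD1_c18 LD2_c23 LD3_c6)) = (LP (LK LD1_c23 LD2_c14 LD3_c11)) :=
  Lgr Lrot80 (Lpe (f204976 IH) (Lpr_af (f543213 IH) (Lpe (f526794 IH) (Lpn (LP (LK LD1_c23 LD2_c14 LD3_c11))))))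
theorem f543233 : Led Lsl_af (LP (LK LD1_c18 LD2_c23 LD3_c6)) = (LP (LK LD1_c23 LD2_c14 LD3_c11)) :=
  Lgr Lrot0 (Lpr_at (f543223 IH) (Lpn (LP (LK LD1_c23 LD2_c14 LD3_c11))))
theorem f36366 : Led Lsl_gt (LP (LK LD1_c12 LD2_c23 LD3_c7)) = (LP (LK LD1_c6 LD2_c25 LD3_c2)) :=
  Lre_g IH (LK LD1_c12 LD2_c23 LD3_c7) (LK LD1_c6 LD2_c25 LD3_c2) Lrfl Lrfl
theorem f201387 : Led Lsl_et (LP (LK LD1_c2 LD2_c30 LD3_c39)) = (LP (LK LD1_c5 LD2_c6 LD3_c47)) :=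
  Lre_e IH (LK LD1_c2 LD2_c30 LD3_c39) (LK LD1_c5 LD2_c6 LD3_c47) Lrfl Lrfl
theorem f204956 : Led Lsl_et (LP (LK LD1_c18 LD2_c23 LD3_c6)) = (LP (LK LD1_c10 LD2_c4 LD3_c19)) :=
  Lre_e IH (LK LD1_c18 LD2_c23 LD3_c6) (LK LD1_c10 LD2_c4 LD3_c19) Lrfl Lrfl
theorem f204957 : Led Lsl_df (LP (LK LD1_c12 LD2_c23 LD3_c7)) = (LP (LK LD1_c18 LD2_c23 LD3_c6)) :=
  Lgr Lrot170 (Lpr_gt (f36366 IH) (Lpr_df (K36.f36358 IH) (Lpr_et (K32.f36352 IH) (Lpr_gt (K12.f204947 IH) (Lpr_dt (K11.f36943 IH) (Lpe (K13.f166427 IH) (Lpe (f165475 IH) (Lpr_et (f201387 IH) (Lpr_gt (f204955 IH) (Lpe (f204956 IH) (Lpn (LP (LK LD1_c18 LD2_c23 LD3_c6)))))))))))))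
theorem f59312 : Led Lsl_dt (LP (LK LD1_c14 LD2_c59 LD3_c48)) = (LP (LK LD1_c7 LD2_c57 LD3_c0)) :=
  Lre_d IH (LK LD1_c14 LD2_c59 LD3_c48) (LK LD1_c7 LD2_c57 LD3_c0) Lrfl Lrfl
theorem f59326 : Led Lsl_et (LP (LK LD1_c14 LD2_c59 LD3_c48)) = (LP (LK LD1_c24 LD2_c47 LD3_c11)) :=
  Lre_e IH (LK LD1_c14 LD2_c59 LD3_c48) (LK LD1_c24 LD2_c47 LD3_c11) Lrfl Lrfl
theorem f204959 : Led Lsl_gf (LP (LK LD1_c18 LD2_c23 LD3_c6)) = (LP (LK LD1_c24 LD2_c47 LD3_c11)) :=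
  Lgr Lrot138 (Lpe (f204957 IH) (Lpr_gt (f36366 IH) (Lpr_df (K36.f36358 IH) (Lpr_et (K32.f36352 IH) (Lpr_gt (K12.f204947 IH) (Lpe (K13.f201360 IH) (Lpr_dt (K6.f59373 IH) (Lpr_gt (K11.f59262 IH) (Lpe (f59312 IH) (Lpr_et (f59326 IH) (Lpn (LP (LK LD1_c24 LD2_c47 LD3_c11)))))))))))))
theorem f36387 : Led Lsl_dt (LP (LK LD1_c3 LD2_c10 LD3_c8)) = (LP (LK LD1_c1 LD2_c31 LD3_c13)) :=
  Lre_d IH (LK LD1_c3 LD2_c10 LD3_c8) (LK LD1_c1 LD2_c31 LD3_c13) Lrfl Lrfl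
theorem f36371 : Led Lsl_gt (LP (LK LD1_c6 LD2_c25 LD3_c2)) = (LP (LK LD1_c12 LD2_c23 LD3_c6)) :=
  Lre_g IH (LK LD1_c6 LD2_c25 LD3_c2) (LK LD1_c12 LD2_c23 LD3_c6) Lrfl Lrfl
theorem f36389 : Led Lsl_dt (LP (LK LD1_c12 LD2_c23 LD3_c6)) = (LP (LK LD1_c21 LD2_c30 LD3_c3)) :=
  Lre_d IH (LK LD1_c12 LD2_c23 LD3_c6) (LK LD1_c21 LD2_c30 LD3_c3) Lrfl Lrfl
theorem f59324 : Led Lsl_et (LP (LK LD1_c2 LD2_c18 LD3_c49)) = (LP (LK LD1_c4 LD2_c42 LD3_c41)) :=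
  Lre_e IH (LK LD1_c2 LD2_c18 LD3_c49) (LK LD1_c4 LD2_c42 LD3_c41) Lrfl Lrfl
theorem f59321 : Led Lsl_et (LP (LK LD1_c17 LD2_c15 LD3_c24)) = (LP (LK LD1_c9 LD2_c19 LD3_c39)) :=
  Lre_e IH (LK LD1_c17 LD2_c15 LD3_c24) (LK LD1_c9 LD2_c19 LD3_c39) Lrfl Lrfl
theorem f59310 : Led Lsl_et (LP (LK LD1_c9 LD2_c19 LD3_c39)) = (LP (LK LD1_c17 LD2_c15 LD3_c24)) :=
  Lre_e IH (LK LD1_c9 LD2_c19 LD3_c39) (LK LD1_c17 LD2_c15 LD3_c24) Lrfl Lrfl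
theorem f59311 : Led Lsl_et (LP (LK LD1_c7 LD2_c57 LD3_c0)) = (LP (LK LD1_c14 LD2_c59 LD3_c49)) :=
  Lre_e IH (LK LD1_c7 LD2_c57 LD3_c0) (LK LD1_c14 LD2_c59 LD3_c49) Lrfl Lrfl
theorem f59313 : Led Lsl_et (LP (LK LD1_c24 LD2_c47 LD3_c11)) = (LP (LK LD1_c14 LD2_c59 LD3_c48)) :=
  Lre_e IH (LK LD1_c24 LD2_c47 LD3_c11) (LK LD1_c14 LD2_c59 LD3_c48) Lrfl Lrfl
theorem f59314 : Led Lsl_dt (LP (LK LD1_c17 LD2_c15 LD3_c24)) = (LP (LK LD1_c24 LD2_c47 LD3_c11)) :=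
  Lgr Lrot77 (Lpe (f59310 IH) (Lpr_df (K11.f59264 IH) (Lpe (f59311 IH) (Lpe (f59312 IH) (Lpe (f59313 IH) (Lpn (LP (LK LD1_c24 LD2_c47 LD3_c11))))))))
theorem f204968 : Led Lsl_gt (LP (LK LD1_c21 LD2_c30 LD3_c3)) = (LP (LK LD1_c24 LD2_c47 LD3_c11)) :=
  Lgr Lrot139 (Lpe (f36389 IH) (Lpe (f36371 IH) (Lpe (K32.f36350 IH) (Lpr_dt (f36387 IH) (Lpr_gf (K14.f204961 IH) (Lpe (K14.f59078 IH) (Lpr_et (f59324 IH) (Lpe (K11.f59261 IH) (Lpe (f59321 IH) (Lpr_dt (f59314 IH) (Lpn (LP (LK LD1_c24 LD2_c47 LD3_c11)))))))))))))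
theorem f543235 : Led Lsl_ft (LP (LK LD1_c21 LD2_c30 LD3_c3)) = (LP (LK LD1_c23 LD2_c14 LD3_c11)) :=
  Lgr Lrot2 (Lpr_gt (f204968 IH) (Lpe (f204959 IH) (Lpr_af (f543233 IH) (Lpn (LP (LK LD1_c23 LD2_c14 LD3_c11))))))
theorem f543241 : Led Lsl_ff (LP (LK LD1_c21 LD2_c30 LD3_c3)) = (LP (LK LD1_c23 LD2_c14 LD3_c11)) :=
  Lgr Lrot3 (Lpr_ft (f543235 IH) (Lpn (LP (LK LD1_c23 LD2_c14 LD3_c11))))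
theorem f526791 : Led Lsl_et (LP (LK LD1_c13 LD2_c46 LD3_c51)) = (LP (LK LD1_c23 LD2_c14 LD3_c11)) :=
  Lre_e IH (LK LD1_c13 LD2_c46 LD3_c51) (LK LD1_c23 LD2_c14 LD3_c11) Lrfl Lrfl
theorem f482755 : Led Lsl_et (LP (LK LD1_c13 LD2_c48 LD3_c39)) = (LP (LK LD1_c7 LD2_c17 LD3_c56)) :=
  Lre_e IH (LK LD1_c13 LD2_c48 LD3_c39) (LK LD1_c7 LD2_c17 LD3_c56) Lrfl Lrfl
theorem f482766 : Led Lsl_ft (LP (LK LD1_c23 LD2_c16 LD3_c56)) = (LP (LK LD1_c13 LD2_c48 LD3_c39)) :=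
  Lre_f IH (LK LD1_c23 LD2_c16 LD3_c56) (LK LD1_c13 LD2_c48 LD3_c39) Lrfl Lrfl
theorem f543245 : Led Lsl_et (LP (LK LD1_c21 LD2_c30 LD3_c3)) = (LP (LK LD1_c23 LD2_c16 LD3_c56)) :=
  Lgr Lrot69 (Lpr_ff (f543241 IH) (Lpe (f526791 IH) (Lpe (f526789 IH) (Lpe (f482755 IH) (Lpe (f482766 IH) (Lpn (LP (LK LD1_c23 LD2_c16 LD3_c56))))))))
theorem f204970 : Led Lsl_et (LP (LK LD1_c21 LD2_c30 LD3_c4)) = (LP (LK LD1_c12 LD2_c23 LD3_c6)) :=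
  Lre_e IH (LK LD1_c21 LD2_c30 LD3_c4) (LK LD1_c12 LD2_c23 LD3_c6) Lrfl Lrfl
theorem f227422 : Led Lsl_gt (LP (LK LD1_c16 LD2_c27 LD3_c39)) = (LP (LK LD1_c8 LD2_c47 LD3_c46)) :=
  Lre_g IH (LK LD1_c16 LD2_c27 LD3_c39) (LK LD1_c8 LD2_c47 LD3_c46) Lrfl Lrfl
theorem f59322 : Led Lsl_dt (LP (LK LD1_c9 LD2_c19 LD3_c33)) = (LP (LK LD1_c4 LD2_c42 LD3_c39)) :=
  Lre_d IH (LK LD1_c9 LD2_c19 LD3_c33) (LK LD1_c4 LD2_c42 LD3_c39) Lrfl Lrfl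
theorem f59323 : Led Lsl_et (LP (LK LD1_c9 LD2_c19 LD3_c33)) = (LP (LK LD1_c17 LD2_c15 LD3_c17)) :=
  Lre_e IH (LK LD1_c9 LD2_c19 LD3_c33) (LK LD1_c17 LD2_c15 LD3_c17) Lrfl Lrfl
theorem f204972 : Led Lsl_et (LP (LK LD1_c12 LD2_c23 LD3_c6)) = (LP (LK LD1_c21 LD2_c30 LD3_c4)) :=
  Lre_e IH (LK LD1_c12 LD2_c23 LD3_c6) (LK LD1_c21 LD2_c30 LD3_c4) Lrfl Lrfl
theorem f204973 : Led Lsl_gf (LP (LK LD1_c21 LD2_c30 LD3_c4)) = (LP (LK LD1_c17 LD2_c15 LD3_c17)) :=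
  Lgr Lrot141 (Lpe (f204972 IH) (Lpr_dt (f36389 IH) (Lpr_gt (f204968 IH) (Lpe (f59314 IH) (Lpr_et (f59321 IH) (Lpr_gt (K11.f59261 IH) (Lpr_dt (K32.f59316 IH) (Lpr_gt (K11.f56608 IH) (Lpe (f59322 IH) (Lpr_et (f59323 IH) (Lpn (LP (LK LD1_c17 LD2_c15 LD3_c17)))))))))))))
theorem f227423 : Led Lsl_df (LP (LK LD1_c16 LD2_c27 LD3_c39)) = (LP (LK LD1_c21 LD2_c30 LD3_c4)) :=
  Lgr Lrot135 (Lpr_gt (f227422 IH) (Lpr_df (K36.f227407 IH) (Lpr_et (K36.f204971 IH) (Lpr_gt (K36.f59142 IH) (Lpe (K32.f204975 IH) (Lpr_dt (K32.f59316 IH) (Lpr_gt (K11.f56608 IH) (Lpe (f59322 IH) (Lpr_et (f59323 IH) (Lpe (f204973 IH) (Lpn (LP (LK LD1_c21 LD2_c30 LD3_c4)))))))))))))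
theorem f227425 : Led Lsl_dt (LP (LK LD1_c16 LD2_c27 LD3_c39)) = (LP (LK LD1_c21 LD2_c30 LD3_c4)) :=
  Lgr Lrot42 (Lpr_df (f227423 IH) (Lpn (LP (LK LD1_c21 LD2_c30 LD3_c4))))
theorem f227428 : Led Lsl_et (LP (LK LD1_c26 LD2_c24 LD3_c52)) = (LP (LK LD1_c16 LD2_c27 LD3_c39)) :=
  Lre_e IH (LK LD1_c26 LD2_c24 LD3_c52) (LK LD1_c16 LD2_c27 LD3_c39) Lrfl Lrfl
theorem f543247 : Led Lsl_df (LP (LK LD1_c26 LD2_c24 LD3_c52)) = (LP (LK LD1_c23 LD2_c16 LD3_c56)) :=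
  Lgr Lrot70 (Lpr_et (f227428 IH) (Lpr_dt (f227425 IH) (Lpr_et (f204970 IH) (Lpr_dt (f36389 IH) (Lpr_et (f543245 IH) (Lpn (LP (LK LD1_c23 LD2_c16 LD3_c56))))))))
theorem f482756 : Led Lsl_ft (LP (LK LD1_c13 LD2_c48 LD3_c39)) = (LP (LK LD1_c23 LD2_c16 LD3_c56)) :=
  Lre_f IH (LK LD1_c13 LD2_c48 LD3_c39) (LK LD1_c23 LD2_c16 LD3_c56) Lrfl Lrfl
theorem f543257 : Led Lsl_ft (LP (LK LD1_c26 LD2_c24 LD3_c52)) = (LP (LK LD1_c22 LD2_c47 LD3_c50)) :=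
  Lgr Lrot54 (Lpr_df (f543247 IH) (Lpe (f482756 IH) (Lpe (f482709 IH) (Lpn (LP (LK LD1_c22 LD2_c47 LD3_c50))))))
theorem f543265 : Led Lsl_ff (LP (LK LD1_c26 LD2_c24 LD3_c52)) = (LP (LK LD1_c22 LD2_c47 LD3_c50)) :=
  Lgr Lrot3 (Lpr_ft (f543257 IH) (Lpn (LP (LK LD1_c22 LD2_c47 LD3_c50))))
theorem f482754 : Led Lsl_et (LP (LK LD1_c13 LD2_c28 LD3_c15)) = (LP (LK LD1_c22 LD2_c47 LD3_c50)) :=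
  Lre_e IH (LK LD1_c13 LD2_c28 LD3_c15) (LK LD1_c22 LD2_c47 LD3_c50) Lrfl Lrfl
theorem f524020 : Led Lsl_bt (LP (LK LD1_c13 LD2_c28 LD3_c15)) = (LP (LK LD1_c7 LD2_c6 LD3_c35)) :=
  Lre_b IH (LK LD1_c13 LD2_c28 LD3_c15) (LK LD1_c7 LD2_c6 LD3_c35) Lrfl Lrfl
theorem f524021 : Led Lsl_ft (LP (LK LD1_c7 LD2_c8 LD3_c47)) = (LP (LK LD1_c13 LD2_c28 LD3_c15)) :=
  Lgr Lrot75 (Lpe (K35.f524019 IH) (Lpr_ff (K34.f524017 IH) (Lpe (f524020 IH) (Lpn (LP (LK LD1_c13 LD2_c28 LD3_c15))))))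
theorem f526939 : Led Lsl_et (LP (LK LD1_c13 LD2_c32 LD3_c6)) = (LP (LK LD1_c7 LD2_c8 LD3_c47)) :=
  Lre_e IH (LK LD1_c13 LD2_c32 LD3_c6) (LK LD1_c7 LD2_c8 LD3_c47) Lrfl Lrfl
theorem f543267 : Led Lsl_ft (LP (LK LD1_c16 LD2_c27 LD3_c39)) = (LP (LK LD1_c13 LD2_c32 LD3_c6)) :=
  Lgr Lrot86 (Lpe (f227428 IH) (Lpr_ff (f543265 IH) (Lpe (f482754 IH) (Lpe (f524021 IH) (Lpe (f526939 IH) (Lpn (LP (LK LD1_c13 LD2_c32 LD3_c6))))))))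
theorem f227398 : Led Lsl_gt (LP (LK LD1_c8 LD2_c47 LD3_c46)) = (LP (LK LD1_c16 LD2_c27 LD3_c38)) :=
  Lre_g IH (LK LD1_c8 LD2_c47 LD3_c46) (LK LD1_c16 LD2_c27 LD3_c38) Lrfl Lrfl
theorem f543271 : Led Lsl_af (LP (LK LD1_c16 LD2_c27 LD3_c38)) = (LP (LK LD1_c13 LD2_c32 LD3_c6)) :=
  Lgr Lrot31 (Lpe (f227398 IH) (Lpe (f227422 IH) (Lpr_ft (f543267 IH) (Lpn (LP (LK LD1_c13 LD2_c32 LD3_c6))))))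
theorem f543273 : Led Lsl_at (LP (LK LD1_c16 LD2_c27 LD3_c38)) = (LP (LK LD1_c13 LD2_c32 LD3_c6)) :=
  Lgr Lrot100 (Lpr_af (f543271 IH) (Lpn (LP (LK LD1_c13 LD2_c32 LD3_c6))))
theorem f198300 : Led Lsl_gt (LP (LK LD1_c17 LD2_c57 LD3_c41)) = (LP (LK LD1_c9 LD2_c47 LD3_c17)) :=
  Lre_g IH (LK LD1_c17 LD2_c57 LD3_c41) (LK LD1_c9 LD2_c47 LD3_c17) Lrfl Lrfl
theorem f543310 : Led Lsl_ff (LP (LK LD1_c16 LD2_c27 LD3_c38)) = (LP (LK LD1_c17 LD2_c57 LD3_c41)) :=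
  Lgr Lrot52 (Lpr_at (f543273 IH) (Lpr_gf (f543049 IH) (Lpe (f198300 IH) (Lpn (LP (LK LD1_c17 LD2_c57 LD3_c41))))))
theorem f543314 : Led Lsl_ft (LP (LK LD1_c16 LD2_c27 LD3_c38)) = (LP (LK LD1_c17 LD2_c57 LD3_c41)) :=
  Lgr Lrot48 (Lpr_ff (f543310 IH) (Lpn (LP (LK LD1_c17 LD2_c57 LD3_c41))))
theorem f543316 : Led Lsl_af (LP (LK LD1_c16 LD2_c27 LD3_c39)) = (LP (LK LD1_c17 LD2_c57 LD3_c41)) :=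
  Lgr Lrot45 (Lpr_ft (f543267 IH) (Lpe (f543271 IH) (Lpr_ft (f543314 IH) (Lpn (LP (LK LD1_c17 LD2_c57 LD3_c41))))))
theorem f227427 : Led Lsl_et (LP (LK LD1_c16 LD2_c27 LD3_c39)) = (LP (LK LD1_c26 LD2_c24 LD3_c52)) :=
  Lre_e IH (LK LD1_c16 LD2_c27 LD3_c39) (LK LD1_c26 LD2_c24 LD3_c52) Lrfl Lrfl
theorem f198301 : Led Lsl_et (LP (LK LD1_c27 LD2_c42 LD3_c12)) = (LP (LK LD1_c17 LD2_c57 LD3_c41)) :=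
  Lre_e IH (LK LD1_c27 LD2_c42 LD3_c12) (LK LD1_c17 LD2_c57 LD3_c41) Lrfl Lrfl
theorem f543319 : Led Lsl_at (LP (LK LD1_c26 LD2_c24 LD3_c52)) = (LP (LK LD1_c27 LD2_c42 LD3_c12)) :=
  Lgr Lrot80 (Lpe (f227427 IH) (Lpr_af (f543316 IH) (Lpe (f198301 IH) (Lpn (LP (LK LD1_c27 LD2_c42 LD3_c12))))))
theorem f526801 : Led Lsl_at (LP (LK LD1_c30 LD2_c59 LD3_c3)) = (LP (LK LD1_c23 LD2_c16 LD3_c56)) :=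
  Lre_a IH (LK LD1_c30 LD2_c59 LD3_c3) (LK LD1_c23 LD2_c16 LD3_c56) Lrfl Lrfl
theorem f543323 : Led Lsl_df (LP (LK LD1_c30 LD2_c59 LD3_c3)) = (LP (LK LD1_c27 LD2_c42 LD3_c12)) :=
  Lgr Lrot18 (Lpr_at (f526801 IH) (Lpe (f543247 IH) (Lpr_at (f543319 IH) (Lpn (LP (LK LD1_c27 LD2_c42 LD3_c12))))))
theorem f543330 : Led Lsl_gt (LP (LK LD1_c23 LD2_c16 LD3_c54)) = (LP (LK LD1_c30 LD2_c59 LD3_c3)) :=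
  Lre_g IH (LK LD1_c23 LD2_c16 LD3_c54) (LK LD1_c30 LD2_c59 LD3_c3) Lrfl Lrfl
theorem f198298 : Led Lsl_et (LP (LK LD1_c4 LD2_c25 LD3_c37)) = (LP (LK LD1_c8 LD2_c48 LD3_c49)) :=
  Lre_e IH (LK LD1_c4 LD2_c25 LD3_c37) (LK LD1_c8 LD2_c48 LD3_c49) Lrfl Lrfl
theorem f38331 : Led Lsl_gt (LP (LK LD1_c8 LD2_c48 LD3_c49)) = (LP (LK LD1_c16 LD2_c29 LD3_c9)) :=
  Lre_g IH (LK LD1_c8 LD2_c48 LD3_c49) (LK LD1_c16 LD2_c29 LD3_c9) Lrfl Lrfl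
theorem f543331 : Led Lsl_df (LP (LK LD1_c23 LD2_c16 LD3_c54)) = (LP (LK LD1_c16 LD2_c29 LD3_c9)) :=
  Lgr Lrot135 (Lpr_gt (f543330 IH) (Lpr_df (f543323 IH) (Lpr_et (f198301 IH) (Lpr_gt (f198300 IH) (Lpe (K36.f198299 IH) (Lpr_dt (K12.f198075 IH) (Lpr_gt (K10.f198278 IH) (Lpe (K11.f38401 IH) (Lpr_et (f198298 IH) (Lpr_gt (f38331 IH) (Lpn (LP (LK LD1_c16 LD2_c29 LD3_c9)))))))))))))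
theorem f210387 : Led Lsl_dt (LP (LK LD1_c8 LD2_c44 LD3_c57)) = (LP (LK LD1_c4 LD2_c23 LD3_c35)) :=
  Lre_d IH (LK LD1_c8 LD2_c44 LD3_c57) (LK LD1_c4 LD2_c23 LD3_c35) Lrfl Lrfl
theorem f210390 : Led Lsl_gt (LP (LK LD1_c8 LD2_c44 LD3_c56)) = (LP (LK LD1_c4 LD2_c23 LD3_c35)) :=
  Lre_g IH (LK LD1_c8 LD2_c44 LD3_c56) (LK LD1_c4 LD2_c23 LD3_c35) Lrfl Lrfl
theorem f210391 : Led Lsl_dt (LP (LK LD1_c16 LD2_c22 LD3_c33)) = (LP (LK LD1_c8 LD2_c44 LD3_c56)) :=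
  Lre_d IH (LK LD1_c16 LD2_c22 LD3_c33) (LK LD1_c8 LD2_c44 LD3_c56) Lrfl Lrfl
theorem f227541 : Led Lsl_et (LP (LK LD1_c16 LD2_c22 LD3_c33)) = (LP (LK LD1_c16 LD2_c29 LD3_c9)) :=
  Lgr Lrot122 (Lpr_dt (f210391 IH) (Lpr_gt (f210390 IH) (Lpe (f210387 IH) (Lpr_et (K30.f210333 IH) (Lpr_gt (K12.f227536 IH) (Lpr_dt (K12.f198075 IH) (Lpr_gt (K10.f198278 IH) (Lpe (K11.f38401 IH) (Lpr_et (f198298 IH) (Lpr_gt (f38331 IH) (Lpn (LP (LK LD1_c16 LD2_c29 LD3_c9)))))))))))))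
theorem f216692 : Led Lsl_dt (LP (LK LD1_c8 LD2_c44 LD3_c56)) = (LP (LK LD1_c16 LD2_c22 LD3_c33)) :=
  Lre_d IH (LK LD1_c8 LD2_c44 LD3_c56) (LK LD1_c16 LD2_c22 LD3_c33) Lrfl Lrfl
theorem f211165 : Led Lsl_et (LP (LK LD1_c16 LD2_c22 LD3_c34)) = (LP (LK LD1_c8 LD2_c44 LD3_c56)) :=
  Lre_e IH (LK LD1_c16 LD2_c22 LD3_c34) (LK LD1_c8 LD2_c44 LD3_c56) Lrfl Lrfl
theorem f211200 : Led Lsl_dt (LP (LK LD1_c26 LD2_c20 LD3_c33)) = (LP (LK LD1_c16 LD2_c22 LD3_c34)) :=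
  Lre_d IH (LK LD1_c26 LD2_c20 LD3_c33) (LK LD1_c16 LD2_c22 LD3_c34) Lrfl Lrfl
theorem f543335 : Led Lsl_et (LP (LK LD1_c23 LD2_c16 LD3_c54)) = (LP (LK LD1_c26 LD2_c20 LD3_c33)) :=
  Lgr Lrot71 (Lpr_df (f543331 IH) (Lpe (f227541 IH) (Lpe (f216692 IH) (Lpe (f211165 IH) (Lpe (f211200 IH) (Lpn (LP (LK LD1_c26 LD2_c20 LD3_c33))))))))
theorem f543333 : Led Lsl_dt (LP (LK LD1_c23 LD2_c16 LD3_c54)) = (LP (LK LD1_c16 LD2_c29 LD3_c9)) :=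
  Lgr Lrot42 (Lpr_df (f543331 IH) (Lpn (LP (LK LD1_c16 LD2_c29 LD3_c9))))
theorem f38332 : Led Lsl_gt (LP (LK LD1_c16 LD2_c29 LD3_c9)) = (LP (LK LD1_c21 LD2_c4 LD3_c19)) :=
  Lgr Lrot46 (Lpe (f38331 IH) (Lpr_ft (K1.f38327 IH) (Lpr_at (K1.f38316 IH) (Lpn (LP (LK LD1_c21 LD2_c4 LD3_c19))))))
theorem f59376 : Led Lsl_dt (LP (LK LD1_c12 LD2_c7 LD3_c59)) = (LP (LK LD1_c6 LD2_c14 LD3_c51)) :=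
  Lre_d IH (LK LD1_c12 LD2_c7 LD3_c59) (LK LD1_c6 LD2_c14 LD3_c51) Lrfl Lrfl
theorem f180134 : Led Lsl_et (LP (LK LD1_c4 LD2_c19 LD3_c20)) = (LP (LK LD1_c8 LD2_c37 LD3_c2)) :=
  Lre_e IH (LK LD1_c4 LD2_c19 LD3_c20) (LK LD1_c8 LD2_c37 LD3_c2) Lrfl Lrfl
theorem f16284 : Led Lsl_dt (LP (LK LD1_c2 LD2_c9 LD3_c14)) = (LP (LK LD1_c1 LD2_c2 LD3_c18)) :=
  Lre_d IH (LK LD1_c2 LD2_c9 LD3_c14) (LK LD1_c1 LD2_c2 LD3_c18) Lrfl Lrfl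
theorem f101847 : Led Lsl_dt (LP (LK LD1_c4 LD2_c26 LD3_c49)) = (LP (LK LD1_c2 LD2_c10 LD3_c33)) :=
  Lre_d IH (LK LD1_c4 LD2_c26 LD3_c49) (LK LD1_c2 LD2_c10 LD3_c33) Lrfl Lrfl
theorem f211169 : Led Lsl_et (LP (LK LD1_c4 LD2_c26 LD3_c49)) = (LP (LK LD1_c8 LD2_c51 LD3_c22)) :=
  Lre_e IH (LK LD1_c4 LD2_c26 LD3_c49) (LK LD1_c8 LD2_c51 LD3_c22) Lrfl Lrfl
theorem f211170 : Led Lsl_gt (LP (LK LD1_c8 LD2_c37 LD3_c2)) = (LP (LK LD1_c8 LD2_c51 LD3_c22)) :=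
  Lgr Lrot131 (Lpe (f180134 IH) (Lpr_dt (K13.f180146 IH) (Lpr_gf (K11.f211155 IH) (Lpr_df (K13.f182342 IH) (Lpe (K12.f29617 IH) (Lpe (K1.f39888 IH) (Lpr_dt (f16284 IH) (Lpe (K4.f99340 IH) (Lpe (f101847 IH) (Lpr_et (f211169 IH) (Lpn (LP (LK LD1_c8 LD2_c51 LD3_c22)))))))))))))
theorem f211166 : Led Lsl_dt (LP (LK LD1_c16 LD2_c22 LD3_c34)) = (LP (LK LD1_c26 LD2_c20 LD3_c33)) :=
  Lre_d IH (LK LD1_c16 LD2_c22 LD3_c34) (LK LD1_c26 LD2_c20 LD3_c33) Lrfl Lrfl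
theorem f211172 : Led Lsl_dt (LP (LK LD1_c8 LD2_c51 LD3_c22)) = (LP (LK LD1_c16 LD2_c33 LD3_c28)) :=
  Lre_d IH (LK LD1_c8 LD2_c51 LD3_c22) (LK LD1_c16 LD2_c33 LD3_c28) Lrfl Lrfl
theorem f211178 : Led Lsl_gf (LP (LK LD1_c26 LD2_c20 LD3_c33)) = (LP (LK LD1_c16 LD2_c33 LD3_c28)) :=
  Lgr Lrot134 (Lpe (f211166 IH) (Lpr_et (f211165 IH) (Lpr_gt (f210390 IH) (Lpe (K15.f210331 IH) (Lpe (K13.f182342 IH) (Lpe (K11.f211155 IH) (Lpe (K13.f180146 IH) (Lpr_et (f180134 IH) (Lpr_gt (f211170 IH) (Lpr_dt (f211172 IH) (Lpn (LP (LK LD1_c16 LD2_c33 LD3_c28)))))))))))))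
theorem f211204 : Led Lsl_et (LP (LK LD1_c8 LD2_c51 LD3_c24)) = (LP (LK LD1_c16 LD2_c33 LD3_c28)) :=
  Lre_e IH (LK LD1_c8 LD2_c51 LD3_c24) (LK LD1_c16 LD2_c33 LD3_c28) Lrfl Lrfl
theorem f543339 : Led Lsl_gt (LP (LK LD1_c6 LD2_c14 LD3_c51)) = (LP (LK LD1_c4 LD2_c26 LD3_c50)) :=
  Lgr Lrot139 (Lpe (f59376 IH) (Lpe (K11.f201939 IH) (Lpe (K11.f70800 IH) (Lpe (K2.f70808 IH) (Lpe (f38332 IH) (Lpe (f543333 IH) (Lpr_et (f543335 IH) (Lpr_gf (f211178 IH) (Lpe (f211204 IH) (Lpr_dt (K4.f99366 IH) (Lpn (LP (LK LD1_c4 LD2_c26 LD3_c50)))))))))))))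
theorem f543347 : Led Lsl_et (LP (LK LD1_c3 LD2_c4 LD3_c20)) = (LP (LK LD1_c6 LD2_c14 LD3_c51)) :=
  Lre_e IH (LK LD1_c3 LD2_c4 LD3_c20) (LK LD1_c6 LD2_c14 LD3_c51) Lrfl Lrfl
theorem f59369 : Led Lsl_dt (LP (LK LD1_c3 LD2_c4 LD3_c20)) = (LP (LK LD1_c6 LD2_c14 LD3_c50)) :=
  Lre_d IH (LK LD1_c3 LD2_c4 LD3_c20) (LK LD1_c6 LD2_c14 LD3_c50) Lrfl Lrfl
theorem f543348 : Led Lsl_gt (LP (LK LD1_c12 LD2_c7 LD3_c55)) = (LP (LK LD1_c6 LD2_c14 LD3_c50)) :=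
  Lre_g IH (LK LD1_c12 LD2_c7 LD3_c55) (LK LD1_c6 LD2_c14 LD3_c50) Lrfl Lrfl
theorem f99378 : Led Lsl_dt (LP (LK LD1_c4 LD2_c26 LD3_c50)) = (LP (LK LD1_c8 LD2_c51 LD3_c24)) :=
  Lre_d IH (LK LD1_c4 LD2_c26 LD3_c50) (LK LD1_c8 LD2_c51 LD3_c24) Lrfl Lrfl
theorem f180136 : Led Lsl_et (LP (LK LD1_c8 LD2_c38 LD3_c8)) = (LP (LK LD1_c4 LD2_c20 LD3_c5)) :=
  Lre_e IH (LK LD1_c8 LD2_c38 LD3_c8) (LK LD1_c4 LD2_c20 LD3_c5) Lrfl Lrfl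
theorem f201413 : Led Lsl_et (LP (LK LD1_c4 LD2_c25 LD3_c9)) = (LP (LK LD1_c2 LD2_c10 LD3_c0)) :=
  Lre_e IH (LK LD1_c4 LD2_c25 LD3_c9) (LK LD1_c2 LD2_c10 LD3_c0) Lrfl Lrfl
theorem f70775 : Led Lsl_dt (LP (LK LD1_c4 LD2_c25 LD3_c9)) = (LP (LK LD1_c2 LD2_c9 LD3_c61)) :=
  Lre_d IH (LK LD1_c4 LD2_c25 LD3_c9) (LK LD1_c2 LD2_c9 LD3_c61) Lrfl Lrfl
theorem f70554 : Led Lsl_gt (LP (LK LD1_c4 LD2_c25 LD3_c8)) = (LP (LK LD1_c2 LD2_c9 LD3_c61)) :=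
  Lre_g IH (LK LD1_c4 LD2_c25 LD3_c8) (LK LD1_c2 LD2_c9 LD3_c61) Lrfl Lrfl
theorem f99396 : Led Lsl_dt (LP (LK LD1_c8 LD2_c47 LD3_c54)) = (LP (LK LD1_c4 LD2_c25 LD3_c8)) :=
  Lre_d IH (LK LD1_c8 LD2_c47 LD3_c54) (LK LD1_c4 LD2_c25 LD3_c8) Lrfl Lrfl
theorem f211180 : Led Lsl_dt (LP (LK LD1_c16 LD2_c33 LD3_c28)) = (LP (LK LD1_c8 LD2_c51 LD3_c22)) :=
  Lre_d IH (LK LD1_c16 LD2_c33 LD3_c28) (LK LD1_c8 LD2_c51 LD3_c22) Lrfl Lrfl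
theorem f211181 : Led Lsl_et (LP (LK LD1_c16 LD2_c33 LD3_c28)) = (LP (LK LD1_c8 LD2_c51 LD3_c24)) :=
  Lre_e IH (LK LD1_c16 LD2_c33 LD3_c28) (LK LD1_c8 LD2_c51 LD3_c24) Lrfl Lrfl
theorem f211182 : Led Lsl_gf (LP (LK LD1_c8 LD2_c47 LD3_c54)) = (LP (LK LD1_c8 LD2_c51 LD3_c24)) :=
  Lgr Lrot138 (Lpr_dt (f99396 IH) (Lpr_gt (f70554 IH) (Lpe (f70775 IH) (Lpr_et (f201413 IH) (Lpr_gt (K11.f201435 IH) (Lpe (f180136 IH) (Lpe (K32.f180149 IH) (Lpr_gt (f211170 IH) (Lpe (f211180 IH) (Lpr_et (f211181 IH) (Lpn (LP (LK LD1_c8 LD2_c51 LD3_c24)))))))))))))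
theorem f99397 : Led Lsl_dt (LP (LK LD1_c4 LD2_c25 LD3_c8)) = (LP (LK LD1_c8 LD2_c47 LD3_c54)) :=
  Lre_d IH (LK LD1_c4 LD2_c25 LD3_c8) (LK LD1_c8 LD2_c47 LD3_c54) Lrfl Lrfl
theorem f211195 : Led Lsl_et (LP (LK LD1_c4 LD2_c25 LD3_c8)) = (LP (LK LD1_c8 LD2_c47 LD3_c55)) :=
  Lre_e IH (LK LD1_c4 LD2_c25 LD3_c8) (LK LD1_c8 LD2_c47 LD3_c55) Lrfl Lrfl
theorem f211196 : Led Lsl_gt (LP (LK LD1_c8 LD2_c47 LD3_c55)) = (LP (LK LD1_c16 LD2_c27 LD3_c56)) :=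
  Lre_g IH (LK LD1_c8 LD2_c47 LD3_c55) (LK LD1_c16 LD2_c27 LD3_c56) Lrfl Lrfl
theorem f304002 : Led Lsl_af (LP (LK LD1_c16 LD2_c8 LD3_c38)) = (LP (LK LD1_c11 LD2_c6 LD3_c16)) :=
  Lgr Lrot0 (Lpr_at (K32.f303932 IH) (Lpn (LP (LK LD1_c11 LD2_c6 LD3_c16))))
theorem f269597 : Led Lsl_et (LP (LK LD1_c16 LD2_c8 LD3_c38)) = (LP (LK LD1_c16 LD2_c21 LD3_c14)) :=
  Lgr Lrot87 (Lpr_ef (K32.f269595 IH) (Lpn (LP (LK LD1_c16 LD2_c21 LD3_c14))))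
theorem f407833 : Led Lsl_af (LP (LK LD1_c16 LD2_c19 LD3_c22)) = (LP (LK LD1_c16 LD2_c21 LD3_c14)) :=
  Lgr Lrot50 (Lpr_et (K32.f407831 IH) (Lpe (f304002 IH) (Lpr_et (f269597 IH) (Lpn (LP (LK LD1_c16 LD2_c21 LD3_c14))))))
theorem f269618 : Led Lsl_gt (LP (LK LD1_c8 LD2_c43 LD3_c61)) = (LP (LK LD1_c16 LD2_c21 LD3_c12)) :=
  Lre_g IH (LK LD1_c8 LD2_c43 LD3_c61) (LK LD1_c16 LD2_c21 LD3_c12) Lrfl Lrfl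
theorem f408050 : Led Lsl_gf (LP (LK LD1_c16 LD2_c19 LD3_c22)) = (LP (LK LD1_c16 LD2_c21 LD3_c12)) :=
  Lgr Lrot76 (Lpr_af (f407833 IH) (Lpe (K32.f269594 IH) (Lpr_gt (f269618 IH) (Lpn (LP (LK LD1_c16 LD2_c21 LD3_c12))))))
theorem f164916 : Led Lsl_ft (LP (LK LD1_c5 LD2_c5 LD3_c16)) = (LP (LK LD1_c10 LD2_c1 LD3_c37)) :=
  Lre_f IH (LK LD1_c5 LD2_c5 LD3_c16) (LK LD1_c10 LD2_c1 LD3_c37) Lrfl Lrfl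
theorem f303934 : Led Lsl_at (LP (LK LD1_c8 LD2_c38 LD3_c8)) = (LP (LK LD1_c5 LD2_c5 LD3_c16)) :=
  Lgr Lrot66 (Lpe (K32.f180158 IH) (Lpr_af (K32.f303896 IH) (Lpe (f164916 IH) (Lpn (LP (LK LD1_c5 LD2_c5 LD3_c16))))))
theorem f303940 : Led Lsl_af (LP (LK LD1_c8 LD2_c38 LD3_c8)) = (LP (LK LD1_c5 LD2_c5 LD3_c16)) :=
  Lgr Lrot0 (Lpr_at (f303934 IH) (Lpn (LP (LK LD1_c5 LD2_c5 LD3_c16))))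
theorem f180163 : Led Lsl_gt (LP (LK LD1_c16 LD2_c10 LD3_c27)) = (LP (LK LD1_c8 LD2_c38 LD3_c8)) :=
  Lre_g IH (LK LD1_c16 LD2_c10 LD3_c27) (LK LD1_c8 LD2_c38 LD3_c8) Lrfl Lrfl
theorem f303999 : Led Lsl_gf (LP (LK LD1_c16 LD2_c10 LD3_c27)) = (LP (LK LD1_c10 LD2_c1 LD3_c37)) :=
  Lgr Lrot47 (Lpr_gt (f180163 IH) (Lpr_af (f303940 IH) (Lpe (K32.f164912 IH) (Lpn (LP (LK LD1_c10 LD2_c1 LD3_c37))))))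
theorem f269619 : Led Lsl_et (LP (LK LD1_c26 LD2_c19 LD3_c16)) = (LP (LK LD1_c16 LD2_c21 LD3_c12)) :=
  Lre_e IH (LK LD1_c26 LD2_c19 LD3_c16) (LK LD1_c16 LD2_c21 LD3_c12) Lrfl Lrfl
theorem f38885 : Led Lsl_dt (LP (LK LD1_c4 LD2_c23 LD3_c43)) = (LP (LK LD1_c8 LD2_c45 LD3_c22)) :=
  Lre_d IH (LK LD1_c4 LD2_c23 LD3_c43) (LK LD1_c8 LD2_c45 LD3_c22) Lrfl Lrfl
theorem f39897 : Led Lsl_gt (LP (LK LD1_c16 LD2_c23 LD3_c29)) = (LP (LK LD1_c8 LD2_c45 LD3_c22)) :=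
  Lre_g IH (LK LD1_c16 LD2_c23 LD3_c29) (LK LD1_c8 LD2_c45 LD3_c22) Lrfl Lrfl
theorem f269620 : Led Lsl_df (LP (LK LD1_c16 LD2_c23 LD3_c29)) = (LP (LK LD1_c26 LD2_c19 LD3_c16)) :=
  Lgr Lrot170 (Lpr_gt (f39897 IH) (Lpe (f38885 IH) (Lpr_et (K1.f38903 IH) (Lpe (K11.f39891 IH) (Lpr_dt (K12.f193485 IH) (Lpe (K14.f255107 IH) (Lpr_df (K16.f269591 IH) (Lpr_et (K32.f269593 IH) (Lpr_gt (f269618 IH) (Lpe (f269619 IH) (Lpn (LP (LK LD1_c26 LD2_c19 LD3_c16)))))))))))))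
theorem f16380 : Led Lsl_ct (LP (LK LD1_c26 LD2_c29 LD3_c20)) = (LP (LK LD1_c16 LD2_c32 LD3_c36)) :=
  Lre_c IH (LK LD1_c26 LD2_c29 LD3_c20) (LK LD1_c16 LD2_c32 LD3_c36) Lrfl Lrfl
theorem f101005 : Led Lsl_ff (LP (LK LD1_c12 LD2_c5 LD3_c19)) = (LP (LK LD1_c16 LD2_c32 LD3_c36)) :=
  Lgr Lrot23 (Lpr_ct (K9.f100987 IH) (Lpr_ft (K9.f42953 IH) (Lpr_ct (f16380 IH) (Lpn (LP (LK LD1_c16 LD2_c32 LD3_c36))))))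
theorem f16379 : Led Lsl_dt (LP (LK LD1_c8 LD2_c45 LD3_c22)) = (LP (LK LD1_c4 LD2_c23 LD3_c43)) :=
  Lre_d IH (LK LD1_c8 LD2_c45 LD3_c22) (LK LD1_c4 LD2_c23 LD3_c43) Lrfl Lrfl
theorem f100981 : Led Lsl_at (LP (LK LD1_c12 LD2_c5 LD3_c19)) = (LP (LK LD1_c8 LD2_c45 LD3_c22)) :=
  Lgr Lrot51 (Lpr_df (K9.f100976 IH) (Lpr_af (K9.f38897 IH) (Lpe (f16379 IH) (Lpn (LP (LK LD1_c8 LD2_c45 LD3_c22))))))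
theorem f101008 : Led Lsl_gf (LP (LK LD1_c16 LD2_c23 LD3_c29)) = (LP (LK LD1_c16 LD2_c32 LD3_c36)) :=
  Lgr Lrot47 (Lpr_gt (f39897 IH) (Lpe (f100981 IH) (Lpr_ff (f101005 IH) (Lpn (LP (LK LD1_c16 LD2_c32 LD3_c36))))))
theorem f16365 : Led Lsl_dt (LP (LK LD1_c16 LD2_c23 LD3_c23)) = (LP (LK LD1_c8 LD2_c45 LD3_c19)) :=
  Lre_d IH (LK LD1_c16 LD2_c23 LD3_c23) (LK LD1_c8 LD2_c45 LD3_c19) Lrfl Lrfl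
theorem f16366 : Led Lsl_af (LP (LK LD1_c16 LD2_c23 LD3_c23)) = (LP (LK LD1_c16 LD2_c32 LD3_c36)) :=
  Lgr Lrot0 (Lpr_at (K9.f16350 IH) (Lpn (LP (LK LD1_c16 LD2_c32 LD3_c36))))
theorem f38876 : Led Lsl_dt (LP (LK LD1_c14 LD2_c59 LD3_c22)) = (LP (LK LD1_c16 LD2_c32 LD3_c36)) :=
  Lgr Lrot44 (Lpr_af (K1.f38854 IH) (Lpe (f16365 IH) (Lpr_af (f16366 IH) (Lpn (LP (LK LD1_c16 LD2_c32 LD3_c36))))))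
theorem f38882 : Led Lsl_gt (LP (LK LD1_c4 LD2_c23 LD3_c43)) = (LP (LK LD1_c8 LD2_c45 LD3_c20)) :=
  Lre_g IH (LK LD1_c4 LD2_c23 LD3_c43) (LK LD1_c8 LD2_c45 LD3_c20) Lrfl Lrfl
theorem f38883 : Led Lsl_gf (LP (LK LD1_c14 LD2_c59 LD3_c22)) = (LP (LK LD1_c8 LD2_c45 LD3_c20)) :=
  Lgr Lrot76 (Lpr_af (K1.f38854 IH) (Lpe (K1.f38879 IH) (Lpr_gt (f38882 IH) (Lpn (LP (LK LD1_c8 LD2_c45 LD3_c20))))))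
theorem f38894 : Led Lsl_et (LP (LK LD1_c16 LD2_c23 LD3_c26)) = (LP (LK LD1_c8 LD2_c45 LD3_c20)) :=
  Lre_e IH (LK LD1_c16 LD2_c23 LD3_c26) (LK LD1_c8 LD2_c45 LD3_c20) Lrfl Lrfl
theorem f408054 : Led Lsl_df (LP (LK LD1_c16 LD2_c10 LD3_c27)) = (LP (LK LD1_c16 LD2_c23 LD3_c26)) :=
  Lgr Lrot168 (Lpr_gf (f303999 IH) (Lpe (K32.f164913 IH) (Lpe (K32.f407837 IH) (Lpr_gf (f408050 IH) (Lpe (f269619 IH) (Lpe (f269620 IH) (Lpr_gf (f101008 IH) (Lpe (f38876 IH) (Lpr_gf (f38883 IH) (Lpe (f38894 IH) (Lpn (LP (LK LD1_c16 LD2_c23 LD3_c26)))))))))))))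
theorem f304004 : Led Lsl_gt (LP (LK LD1_c8 LD2_c51 LD3_c22)) = (LP (LK LD1_c11 LD2_c6 LD3_c16)) :=
  Lgr Lrot46 (Lpe (f211170 IH) (Lpr_ft (K32.f180157 IH) (Lpr_at (K32.f303932 IH) (Lpn (LP (LK LD1_c11 LD2_c6 LD3_c16))))))
theorem f38896 : Led Lsl_et (LP (LK LD1_c7 LD2_c56 LD3_c38)) = (LP (LK LD1_c14 LD2_c59 LD3_c22)) :=
  Lre_e IH (LK LD1_c7 LD2_c56 LD3_c38) (LK LD1_c14 LD2_c59 LD3_c22) Lrfl Lrfl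
theorem f38835 : Led Lsl_dt (LP (LK LD1_c7 LD2_c56 LD3_c38)) = (LP (LK LD1_c3 LD2_c58 LD3_c2)) :=
  Lre_d IH (LK LD1_c7 LD2_c56 LD3_c38) (LK LD1_c3 LD2_c58 LD3_c2) Lrfl Lrfl
theorem f408062 : Led Lsl_gf (LP (LK LD1_c2 LD2_c10 LD3_c33)) = (LP (LK LD1_c3 LD2_c58 LD3_c2)) :=
  Lgr Lrot145 (Lpe (f101847 IH) (Lpr_et (f211169 IH) (Lpr_gt (f304004 IH) (Lpr_dt (K32.f164913 IH) (Lpe (f303999 IH) (Lpr_df (f408054 IH) (Lpr_et (f38894 IH) (Lpe (f38883 IH) (Lpe (f38896 IH) (Lpr_dt (f38835 IH) (Lpn (LP (LK LD1_c3 LD2_c58 LD3_c2)))))))))))))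
theorem f211197 : Led Lsl_et (LP (LK LD1_c4 LD2_c26 LD3_c50)) = (LP (LK LD1_c2 LD2_c10 LD3_c33)) :=
  Lre_e IH (LK LD1_c4 LD2_c26 LD3_c50) (LK LD1_c2 LD2_c10 LD3_c33) Lrfl Lrfl
theorem f408073 : Led Lsl_dt (LP (LK LD1_c16 LD2_c27 LD3_c56)) = (LP (LK LD1_c8 LD2_c51 LD3_c33)) :=
  Lgr Lrot171 (Lpe (f211196 IH) (Lpe (f211195 IH) (Lpr_dt (f99397 IH) (Lpr_gf (f211182 IH) (Lpe (f99378 IH) (Lpr_et (f211197 IH) (Lpr_gf (f408062 IH) (Lpr_ef (K1.f39982 IH) (Lpr_dt (K1.f16345 IH) (Lpe (f16538 IH) (Lpn (LP (LK LD1_c8 LD2_c51 LD3_c33)))))))))))))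
theorem f16425 : Led Lsl_dt (LP (LK LD1_c2 LD2_c10 LD3_c35)) = (LP (LK LD1_c4 LD2_c26 LD3_c54)) :=
  Lre_d IH (LK LD1_c2 LD2_c10 LD3_c35) (LK LD1_c4 LD2_c26 LD3_c54) Lrfl Lrfl
theorem f16610 : Led Lsl_et (LP (LK LD1_c8 LD2_c51 LD3_c32)) = (LP (LK LD1_c4 LD2_c26 LD3_c53)) :=
  Lre_e IH (LK LD1_c8 LD2_c51 LD3_c32) (LK LD1_c4 LD2_c26 LD3_c53) Lrfl Lrfl
theorem f16611 : Led Lsl_dt (LP (LK LD1_c8 LD2_c51 LD3_c32)) = (LP (LK LD1_c16 LD2_c33 LD3_c44)) :=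
  Lre_d IH (LK LD1_c8 LD2_c51 LD3_c32) (LK LD1_c16 LD2_c33 LD3_c44) Lrfl Lrfl
theorem f35556 : Led Lsl_gt (LP (LK LD1_c3 LD2_c0 LD3_c59)) = (LP (LK LD1_c6 LD2_c9 LD3_c11)) :=
  Lre_g IH (LK LD1_c3 LD2_c0 LD3_c59) (LK LD1_c6 LD2_c9 LD3_c11) Lrfl Lrfl
theorem f35560 : Led Lsl_dt (LP (LK LD1_c6 LD2_c9 LD3_c11)) = (LP (LK LD1_c11 LD2_c59 LD3_c29)) :=
  Lre_d IH (LK LD1_c6 LD2_c9 LD3_c11) (LK LD1_c11 LD2_c59 LD3_c29) Lrfl Lrfl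
theorem f35561 : Led Lsl_gf (LP (LK LD1_c16 LD2_c33 LD3_c44)) = (LP (LK LD1_c11 LD2_c59 LD3_c29)) :=
  Lgr Lrot134 (Lpe (f16611 IH) (Lpr_et (f16610 IH) (Lpr_gt (f16598 IH) (Lpe (K1.f16547 IH) (Lpr_dt (K1.f16568 IH) (Lpr_gt (K1.f35533 IH) (Lpe (K1.f34746 IH) (Lpr_et (K1.f35555 IH) (Lpr_gt (f35556 IH) (Lpr_dt (f35560 IH) (Lpn (LP (LK LD1_c11 LD2_c59 LD3_c29)))))))))))))
theorem f35568 : Led Lsl_et (LP (LK LD1_c6 LD2_c9 LD3_c11)) = (LP (LK LD1_c11 LD2_c59 LD3_c30)) :=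
  Lre_e IH (LK LD1_c6 LD2_c9 LD3_c11) (LK LD1_c11 LD2_c59 LD3_c30) Lrfl Lrfl
theorem f35569 : Led Lsl_gt (LP (LK LD1_c21 LD2_c4 LD3_c12)) = (LP (LK LD1_c11 LD2_c59 LD3_c30)) :=
  Lre_g IH (LK LD1_c21 LD2_c4 LD3_c12) (LK LD1_c11 LD2_c59 LD3_c30) Lrfl Lrfl
theorem f408085 : Led Lsl_et (LP (LK LD1_c16 LD2_c27 LD3_c56)) = (LP (LK LD1_c21 LD2_c4 LD3_c12)) :=
  Lgr Lrot185 (Lpr_dt (f408073 IH) (Lpe (f16537 IH) (Lpe (f16425 IH) (Lpe (f16598 IH) (Lpe (f16610 IH) (Lpr_dt (f16611 IH) (Lpr_gf (f35561 IH) (Lpe (f35560 IH) (Lpr_et (f35568 IH) (Lpe (f35569 IH) (Lpn (LP (LK LD1_c21 LD2_c4 LD3_c12)))))))))))))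
theorem f408087 : Led Lsl_ef (LP (LK LD1_c16 LD2_c27 LD3_c56)) = (LP (LK LD1_c21 LD2_c4 LD3_c12)) :=
  Lgr Lrot88 (Lpr_et (f408085 IH) (Lpn (LP (LK LD1_c21 LD2_c4 LD3_c12))))
theorem f543349 : Led Lsl_df (LP (LK LD1_c12 LD2_c7 LD3_c55)) = (LP (LK LD1_c21 LD2_c4 LD3_c12)) :=
  Lgr Lrot170 (Lpr_gt (f543348 IH) (Lpe (f59369 IH) (Lpr_et (f543347 IH) (Lpr_gt (f543339 IH) (Lpr_dt (f99378 IH) (Lpe (f211182 IH) (Lpe (f99397 IH) (Lpr_et (f211195 IH) (Lpr_gt (f211196 IH) (Lpr_ef (f408087 IH) (Lpn (LP (LK LD1_c21 LD2_c4 LD3_c12)))))))))))))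
theorem f408076 : Led Lsl_df (LP (LK LD1_c16 LD2_c27 LD3_c56)) = (LP (LK LD1_c8 LD2_c51 LD3_c33)) :=
  Lgr Lrot38 (Lpr_dt (f408073 IH) (Lpn (LP (LK LD1_c8 LD2_c51 LD3_c33))))
theorem f528277 : Led Lsl_dt (LP (LK LD1_c7 LD2_c14 LD3_c47)) = (LP (LK LD1_c13 LD2_c42 LD3_c37)) :=
  Lre_d IH (LK LD1_c7 LD2_c14 LD3_c47) (LK LD1_c13 LD2_c42 LD3_c37) Lrfl Lrfl
theorem f543353 : Led Lsl_et (LP (LK LD1_c12 LD2_c7 LD3_c55)) = (LP (LK LD1_c7 LD2_c14 LD3_c47)) :=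
  Lgr Lrot71 (Lpr_df (f543349 IH) (Lpe (f408085 IH) (Lpr_df (f408076 IH) (Lpr_ef (f543096 IH) (Lpe (f528277 IH) (Lpn (LP (LK LD1_c7 LD2_c14 LD3_c47))))))))
theorem f543351 : Led Lsl_dt (LP (LK LD1_c12 LD2_c7 LD3_c55)) = (LP (LK LD1_c21 LD2_c4 LD3_c12)) :=
  Lgr Lrot42 (Lpr_df (f543349 IH) (Lpn (LP (LK LD1_c21 LD2_c4 LD3_c12))))
theorem f542975 : Led Lsl_dt (LP (LK LD1_c3 LD2_c33 LD3_c35)) = (LP (LK LD1_c2 LD2_c17 LD3_c55)) :=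
  Lgr Lrot6 (Lpr_gt (K8.f108028 IH) (Lpr_ct (K28.f108064 IH) (Lpr_gt (K8.f108089 IH) (Lpr_ct (K8.f159807 IH) (Lpr_df (f542960 IH) (Lpr_cf (K31.f272458 IH) (Lpe (K31.f205238 IH) (Lpe (K11.f59070 IH) (Lpe (K11.f205231 IH) (Lpn (LP (LK LD1_c2 LD2_c17 LD3_c55))))))))))))
def v1808 : LQ := Led Lsl_dt (LP (LK LD1_c1 LD2_c27 LD3_c53))
theorem f503028 : Led Lsl_dt (LP (LK LD1_c1 LD2_c27 LD3_c53)) = v1808 :=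
  Lrfl
theorem f503030 : Led Lsl_df (LP (LK LD1_c1 LD2_c27 LD3_c53)) = v1808 :=
  Lgr Lrot38 (Lpr_dt (f503028 IH) (Lpn v1808))
def v2487 : LQ := Led Lsl_at (LP (LK LD1_c1 LD2_c46 LD3_c40))
theorem f522751 : Led Lsl_at (LP (LK LD1_c1 LD2_c46 LD3_c40)) = v2487 :=
  Lrfl
theorem f522752 : Led Lsl_af (LP (LK LD1_c1 LD2_c46 LD3_c40)) = v2487 :=
  Lgr Lrot0 (Lpr_at (f522751 IH) (Lpn v2487))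
theorem f59084 : Led Lsl_at (LP (LK LD1_c1 LD2_c27 LD3_c53)) = (LP (LK LD1_c0 LD2_c40 LD3_c47)) :=
  Lre_a IH (LK LD1_c1 LD2_c27 LD3_c53) (LK LD1_c0 LD2_c40 LD3_c47) Lrfl Lrfl
theorem f503031 : Led Lsl_at (LP (LK LD1_c1 LD2_c28 LD3_c14)) = v1808 :=
  Lgr Lrot51 (Lpe (K14.f37216 IH) (Lpe (f59084 IH) (Lpr_df (f503030 IH) (Lpn v1808))))
theorem f439383 : Led Lsl_ct (LP (LK LD1_c7 LD2_c5 LD3_c37)) = (LP (LK LD1_c7 LD2_c12 LD3_c0)) :=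
  Lgr Lrot63 (Lpr_bt (K28.f94427 IH) (Lpr_gt (K24.f94426 IH) (Lpe (K24.f94425 IH) (Lpr_ct (K3.f92289 IH) (Lpr_gt (K2.f94412 IH) (Lpe (K2.f394 IH) (Lpr_bt (K0.f5045 IH) (Lpr_gt (K3.f5062 IH) (Lpr_ct (K28.f5632 IH) (Lpr_gt (K28.f439378 IH) (Lpn (LP (LK LD1_c7 LD2_c12 LD3_c0)))))))))))))
theorem f156469 : Led Lsl_ct (LP (LK LD1_c3 LD2_c14 LD3_c50)) = (LP (LK LD1_c2 LD2_c20 LD3_c7)) :=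
  Lgr Lrot7 (Lpe (K7.f24303 IH) (Lpr_gf (K7.f156460 IH) (Lpe (K5.f127075 IH) (Lpe (K3.f57467 IH) (Lpr_cf (K5.f64414 IH) (Lpr_gt (K4.f11853 IH) (Lpr_dt (K5.f64306 IH) (Lpr_gt (K4.f116711 IH) (Lpr_dt (K7.f25392 IH) (Lpn (LP (LK LD1_c2 LD2_c20 LD3_c7))))))))))))
theorem f94502 : Led Lsl_ct (LP (LK LD1_c7 LD2_c0 LD3_c16)) = (LP (LK LD1_c7 LD2_c18 LD3_c55)) :=
  Lgr Lrot59 (Lpr_cf (K2.f94489 IH) (Lpn (LP (LK LD1_c7 LD2_c18 LD3_c55))))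
theorem f157317 : Led Lsl_gt (LP (LK LD1_c7 LD2_c16 LD3_c44)) = (LP (LK LD1_c7 LD2_c18 LD3_c55)) :=
  Lgr Lrot149 (Lpe (K28.f116571 IH) (Lpr_gf (K36.f116626 IH) (Lpr_bf (K4.f95351 IH) (Lpr_ct (K3.f95512 IH) (Lpe (K30.f146576 IH) (Lpe (f156469 IH) (Lpr_bt (K8.f24149 IH) (Lpr_gf (K8.f157308 IH) (Lpe (K2.f91242 IH) (Lpr_ct (f94502 IH) (Lpn (LP (LK LD1_c7 LD2_c18 LD3_c55)))))))))))))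
theorem f116466 : Led Lsl_bf (LP (LK LD1_c3 LD2_c35 LD3_c43)) = (LP (LK LD1_c3 LD2_c32 LD3_c36)) :=
  Lgr Lrot90 (Lpr_ct (K4.f116188 IH) (Lpe (K8.f116270 IH) (Lpr_ct (K4.f116457 IH) (Lpe (K8.f111462 IH) (Lpr_ct (K4.f92444 IH) (Lpn (LP (LK LD1_c3 LD2_c32 LD3_c36))))))))
theorem f439390 : Led Lsl_gf (LP (LK LD1_c3 LD2_c32 LD3_c18)) = (LP (LK LD1_c3 LD2_c35 LD3_c43)) :=
  Lgr Lrot124 (Lpe (K28.f94427 IH) (Lpr_ct (f439383 IH) (Lpe (K28.f439381 IH) (Lpe (K28.f5632 IH) (Lpr_bt (K36.f94476 IH) (Lpr_gt (f157317 IH) (Lpe (K2.f94489 IH) (Lpe (K4.f111497 IH) (Lpr_cf (K4.f92452 IH) (Lpe (f116466 IH) (Lpn (LP (LK LD1_c3 LD2_c35 LD3_c43)))))))))))))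
def v2519 : LQ := Led Lsl_at (LP (LK LD1_c1 LD2_c47 LD3_c22))
theorem f523742 : Led Lsl_at (LP (LK LD1_c1 LD2_c47 LD3_c22)) = v2519 :=
  Lrfl
theorem f523747 : Led Lsl_gt (LP (LK LD1_c3 LD2_c43 LD3_c33)) = v2519 :=
  Lgr Lrot46 (Lpe (K24.f12903 IH) (Lpe (K28.f208941 IH) (Lpr_at (f523742 IH) (Lpn v2519))))
theorem f523745 : Led Lsl_cf v2487 = v2519 :=
  Lgr Lrot1 (Lpe (f522752 IH) (Lpr_ct (K28.f439404 IH) (Lpr_at (f523742 IH) (Lpn v2519))))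
theorem f540328 : v2487 = (LP (LK LD1_c1 LD2_c28 LD3_c14)) :=
  (Llr Lrot151 (Lpr_cf (f523745 IH) (Lpe (f523747 IH) (Lpr_cf (K24.f439365 IH) (Lpr_gf (f439390 IH) (Lpr_dt (K36.f540313 IH) (Lpe (f239190 IH) (Lpr_ct (K31.f59144 IH) (Lpr_gt (K11.f59095 IH) (Lpr_ct (K12.f59079 IH) (Lpr_dt (K14.f37216 IH) (Lpn (LP (LK LD1_c1 LD2_c28 LD3_c14)))))))))))))).symm
theorem f540353 : (LP (LK LD1_c1 LD2_c46 LD3_c40)) = v1808 :=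
  Lefun (Lecon (Lfl_af (f522752 IH)) (f540328 IH)) (f503031 IH)
theorem f106001 : Led Lsl_dt (LP (LK LD1_c7 LD2_c19 LD3_c7)) = (LP (LK LD1_c13 LD2_c50 LD3_c41)) :=
  Lre_d IH (LK LD1_c7 LD2_c19 LD3_c7) (LK LD1_c13 LD2_c50 LD3_c41) Lrfl Lrfl
theorem f543362 : Led Lsl_gf (LP (LK LD1_c21 LD2_c4 LD3_c12)) = (LP (LK LD1_c13 LD2_c50 LD3_c41)) :=
  Lgr Lrot134 (Lpe (f543351 IH) (Lpr_et (f543353 IH) (Lpe (f529040 IH) (Lpe (K8.f155670 IH) (Lpr_dt (f542975 IH) (Lpr_gt (K11.f205231 IH) (Lpr_df (f503030 IH) (Lpq (f540353 IH) (Lpr_et (K28.f208963 IH) (Lpr_gt (K35.f106000 IH) (Lpr_dt (f106001 IH) (Lpn (LP (LK LD1_c13 LD2_c50 LD3_c41))))))))))))))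
theorem f227643 : Led Lsl_et (LP (LK LD1_c2 LD2_c10 LD3_c33)) = (LP (LK LD1_c4 LD2_c26 LD3_c50)) :=
  Lre_e IH (LK LD1_c2 LD2_c10 LD3_c33) (LK LD1_c4 LD2_c26 LD3_c50) Lrfl Lrfl
theorem f101849 : Led Lsl_dt (LP (LK LD1_c2 LD2_c10 LD3_c33)) = (LP (LK LD1_c4 LD2_c26 LD3_c49)) :=
  Lre_d IH (LK LD1_c2 LD2_c10 LD3_c33) (LK LD1_c4 LD2_c26 LD3_c49) Lrfl Lrfl
theorem f16237 : Led Lsl_ct (LP (LK LD1_c16 LD2_c33 LD3_c52)) = (LP (LK LD1_c16 LD2_c23 LD3_c3)) :=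
  Lgr Lrot59 (Lpr_cf (K1.f16233 IH) (Lpn (LP (LK LD1_c16 LD2_c23 LD3_c3))))
theorem f38790 : Led Lsl_af (LP (LK LD1_c24 LD2_c46 LD3_c50)) = (LP (LK LD1_c16 LD2_c23 LD3_c3)) :=
  Lgr Lrot68 (Lpr_ct (K1.f38786 IH) (Lpe (K1.f16496 IH) (Lpr_ct (f16237 IH) (Lpn (LP (LK LD1_c16 LD2_c23 LD3_c3))))))
theorem f39441 : Led Lsl_gt (LP (LK LD1_c8 LD2_c45 LD3_c9)) = (LP (LK LD1_c16 LD2_c23 LD3_c0)) :=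
  Lre_g IH (LK LD1_c8 LD2_c45 LD3_c9) (LK LD1_c16 LD2_c23 LD3_c0) Lrfl Lrfl
theorem f445505 : Led Lsl_gf (LP (LK LD1_c24 LD2_c46 LD3_c50)) = (LP (LK LD1_c16 LD2_c23 LD3_c0)) :=
  Lgr Lrot76 (Lpr_af (f38790 IH) (Lpe (K1.f16244 IH) (Lpr_gt (f39441 IH) (Lpn (LP (LK LD1_c16 LD2_c23 LD3_c0))))))
theorem f38817 : Led Lsl_dt (LP (LK LD1_c24 LD2_c46 LD3_c50)) = (LP (LK LD1_c14 LD2_c59 LD3_c15)) :=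
  Lre_d IH (LK LD1_c24 LD2_c46 LD3_c50) (LK LD1_c14 LD2_c59 LD3_c15) Lrfl Lrfl
theorem f38794 : Led Lsl_dt (LP (LK LD1_c3 LD2_c58 LD3_c2)) = (LP (LK LD1_c7 LD2_c56 LD3_c38)) :=
  Lre_d IH (LK LD1_c3 LD2_c58 LD3_c2) (LK LD1_c7 LD2_c56 LD3_c38) Lrfl Lrfl
theorem f38092 : Led Lsl_dt (LP (LK LD1_c6 LD2_c14 LD3_c24)) = (LP (LK LD1_c3 LD2_c4 LD3_c4)) :=
  Lre_d IH (LK LD1_c6 LD2_c14 LD3_c24) (LK LD1_c3 LD2_c4 LD3_c4) Lrfl Lrfl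
theorem f60389 : Led Lsl_af (LP (LK LD1_c6 LD2_c14 LD3_c24)) = (LP (LK LD1_c5 LD2_c46 LD3_c34)) :=
  Lgr Lrot117 (Lpr_dt (f38092 IH) (Lpr_at (K1.f60372 IH) (Lpr_dt (K2.f56635 IH) (Lpn (LP (LK LD1_c5 LD2_c46 LD3_c34))))))
theorem f37212 : Led Lsl_gt (LP (LK LD1_c12 LD2_c7 LD3_c10)) = (LP (LK LD1_c6 LD2_c14 LD3_c24)) :=
  Lre_g IH (LK LD1_c12 LD2_c7 LD3_c10) (LK LD1_c6 LD2_c14 LD3_c24) Lrfl Lrfl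
theorem f69556 : Led Lsl_ft (LP (LK LD1_c11 LD2_c23 LD3_c23)) = (LP (LK LD1_c5 LD2_c46 LD3_c34)) :=
  Lre_f IH (LK LD1_c11 LD2_c23 LD3_c23) (LK LD1_c5 LD2_c46 LD3_c34) Lrfl Lrfl
theorem f443760 : Led Lsl_gf (LP (LK LD1_c12 LD2_c7 LD3_c10)) = (LP (LK LD1_c11 LD2_c23 LD3_c23)) :=
  Lgr Lrot47 (Lpr_gt (f37212 IH) (Lpr_af (f60389 IH) (Lpe (f69556 IH) (Lpn (LP (LK LD1_c11 LD2_c23 LD3_c23))))))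
theorem f16445 : Led Lsl_et (LP (LK LD1_c8 LD2_c51 LD3_c29)) = (LP (LK LD1_c4 LD2_c26 LD3_c52)) :=
  Lre_e IH (LK LD1_c8 LD2_c51 LD3_c29) (LK LD1_c4 LD2_c26 LD3_c52) Lrfl Lrfl
theorem f37211 : Led Lsl_dt (LP (LK LD1_c3 LD2_c4 LD3_c4)) = (LP (LK LD1_c6 LD2_c14 LD3_c24)) :=
  Lre_d IH (LK LD1_c3 LD2_c4 LD3_c4) (LK LD1_c6 LD2_c14 LD3_c24) Lrfl Lrfl
theorem f38638 : Led Lsl_dt (LP (LK LD1_c8 LD2_c51 LD3_c29)) = (LP (LK LD1_c12 LD2_c7 LD3_c10)) :=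
  Lgr Lrot136 (Lpr_et (f16445 IH) (Lpe (K1.f16422 IH) (Lpe (K1.f16547 IH) (Lpr_dt (K1.f16568 IH) (Lpr_gf (K1.f38619 IH) (Lpe (K1.f35657 IH) (Lpr_gf (K1.f37192 IH) (Lpe (K8.f37210 IH) (Lpr_dt (f37211 IH) (Lpe (f37212 IH) (Lpn (LP (LK LD1_c12 LD2_c7 LD3_c10)))))))))))))
theorem f16420 : Led Lsl_ft (LP (LK LD1_c2 LD2_c10 LD3_c35)) = (LP (LK LD1_c4 LD2_c26 LD3_c51)) :=
  Lre_f IH (LK LD1_c2 LD2_c10 LD3_c35) (LK LD1_c4 LD2_c26 LD3_c51) Lrfl Lrfl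
theorem f16423 : Led Lsl_gt (LP (LK LD1_c4 LD2_c26 LD3_c52)) = (LP (LK LD1_c4 LD2_c26 LD3_c42)) :=
  Lgr Lrot46 (Lpe (K1.f16422 IH) (Lpr_ft (f16420 IH) (Lpr_at (K1.f16346 IH) (Lpn (LP (LK LD1_c4 LD2_c26 LD3_c42))))))
theorem f39906 : Led Lsl_ft (LP (LK LD1_c7 LD2_c56 LD3_c38)) = (LP (LK LD1_c3 LD2_c57 LD3_c35)) :=
  Lre_f IH (LK LD1_c7 LD2_c56 LD3_c38) (LK LD1_c3 LD2_c57 LD3_c35) Lrfl Lrfl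
theorem f38027 : Led Lsl_gt (LP (LK LD1_c4 LD2_c23 LD3_c41)) = (LP (LK LD1_c2 LD2_c9 LD3_c14)) :=
  Lre_g IH (LK LD1_c4 LD2_c23 LD3_c41) (LK LD1_c2 LD2_c9 LD3_c14) Lrfl Lrfl
theorem f39908 : Led Lsl_gt (LP (LK LD1_c7 LD2_c56 LD3_c38)) = (LP (LK LD1_c4 LD2_c23 LD3_c41)) :=
  Lgr Lrot5 (Lpr_ft (f39906 IH) (Lpr_at (K1.f39889 IH) (Lpe (f38027 IH) (Lpn (LP (LK LD1_c4 LD2_c23 LD3_c41))))))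
theorem f38028 : Led Lsl_dt (LP (LK LD1_c8 LD2_c45 LD3_c17)) = (LP (LK LD1_c4 LD2_c23 LD3_c41)) :=
  Lre_d IH (LK LD1_c8 LD2_c45 LD3_c17) (LK LD1_c4 LD2_c23 LD3_c41) Lrfl Lrfl
theorem f38026 : Led Lsl_et (LP (LK LD1_c1 LD2_c2 LD3_c18)) = (LP (LK LD1_c0 LD2_c28 LD3_c24)) :=
  Lre_e IH (LK LD1_c1 LD2_c2 LD3_c18) (LK LD1_c0 LD2_c28 LD3_c24) Lrfl Lrfl
theorem f38030 : Led Lsl_gt (LP (LK LD1_c3 LD2_c4 LD3_c4)) = (LP (LK LD1_c6 LD2_c14 LD3_c22)) :=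
  Lre_g IH (LK LD1_c3 LD2_c4 LD3_c4) (LK LD1_c6 LD2_c14 LD3_c22) Lrfl Lrfl
theorem f38031 : Led Lsl_et (LP (LK LD1_c8 LD2_c45 LD3_c17)) = (LP (LK LD1_c6 LD2_c14 LD3_c22)) :=
  Lgr Lrot122 (Lpr_dt (f38028 IH) (Lpr_gt (f38027 IH) (Lpe (K1.f16329 IH) (Lpr_et (f38026 IH) (Lpr_gt (K2.f38005 IH) (Lpr_dt (K2.f38004 IH) (Lpr_gt (K1.f37190 IH) (Lpe (K1.f37204 IH) (Lpr_et (K1.f38029 IH) (Lpr_gt (f38030 IH) (Lpn (LP (LK LD1_c6 LD2_c14 LD3_c22)))))))))))))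
theorem f60323 : Led Lsl_dt (LP (LK LD1_c5 LD2_c46 LD3_c35)) = (LP (LK LD1_c11 LD2_c23 LD3_c23)) :=
  Lre_d IH (LK LD1_c5 LD2_c46 LD3_c35) (LK LD1_c11 LD2_c23 LD3_c23) Lrfl Lrfl
theorem f443764 : Led Lsl_gt (LP (LK LD1_c6 LD2_c14 LD3_c22)) = (LP (LK LD1_c5 LD2_c46 LD3_c35)) :=
  Lgr Lrot137 (Lpe (f38031 IH) (Lpr_dt (f38028 IH) (Lpe (f39908 IH) (Lpe (f38794 IH) (Lpr_et (K1.f40003 IH) (Lpe (f16423 IH) (Lpe (f16445 IH) (Lpr_dt (f38638 IH) (Lpr_gf (f443760 IH) (Lpe (f60323 IH) (Lpn (LP (LK LD1_c5 LD2_c46 LD3_c35)))))))))))))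
theorem f46720 : Led Lsl_gt (LP (LK LD1_c8 LD2_c26 LD3_c6)) = (LP (LK LD1_c8 LD2_c10 LD3_c43)) :=
  Lgr Lrot5 (Lpr_ft (K1.f46715 IH) (Lpr_at (K1.f46701 IH) (Lpe (K8.f46719 IH) (Lpn (LP (LK LD1_c8 LD2_c10 LD3_c43))))))
theorem f443766 : Led Lsl_gf (LP (LK LD1_c3 LD2_c58 LD3_c2)) = (LP (LK LD1_c2 LD2_c10 LD3_c32)) :=
  Lgr Lrot138 (Lpr_dt (f38794 IH) (Lpr_gt (f39908 IH) (Lpe (f38028 IH) (Lpr_et (f38031 IH) (Lpr_gt (f443764 IH) (Lpe (K1.f60320 IH) (Lpe (K1.f56140 IH) (Lpr_gt (f46720 IH) (Lpe (K8.f69511 IH) (Lpr_et (K8.f69510 IH) (Lpn (LP (LK LD1_c2 LD2_c10 LD3_c32)))))))))))))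
theorem f69525 : Led Lsl_dt (LP (LK LD1_c4 LD2_c26 LD3_c45)) = (LP (LK LD1_c2 LD2_c10 LD3_c32)) :=
  Lre_d IH (LK LD1_c4 LD2_c26 LD3_c45) (LK LD1_c2 LD2_c10 LD3_c32) Lrfl Lrfl
theorem f69628 : Led Lsl_gt (LP (LK LD1_c8 LD2_c51 LD3_c8)) = (LP (LK LD1_c4 LD2_c26 LD3_c45)) :=
  Lre_g IH (LK LD1_c8 LD2_c51 LD3_c8) (LK LD1_c4 LD2_c26 LD3_c45) Lrfl Lrfl
theorem f443771 : Led Lsl_ct (LP (LK LD1_c8 LD2_c51 LD3_c8)) = (LP (LK LD1_c16 LD2_c33 LD3_c2)) :=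
  Lre_c IH (LK LD1_c8 LD2_c51 LD3_c8) (LK LD1_c16 LD2_c33 LD3_c2) Lrfl Lrfl
theorem f16504 : Led Lsl_gt (LP (LK LD1_c4 LD2_c26 LD3_c40)) = (LP (LK LD1_c2 LD2_c10 LD3_c31)) :=
  Lre_g IH (LK LD1_c4 LD2_c26 LD3_c40) (LK LD1_c2 LD2_c10 LD3_c31) Lrfl Lrfl
theorem f16562 : Led Lsl_et (LP (LK LD1_c8 LD2_c50 LD3_c56)) = (LP (LK LD1_c4 LD2_c26 LD3_c40)) :=
  Lre_e IH (LK LD1_c8 LD2_c50 LD3_c56) (LK LD1_c4 LD2_c26 LD3_c40) Lrfl Lrfl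
theorem f38065 : Led Lsl_gt (LP (LK LD1_c2 LD2_c10 LD3_c7)) = (LP (LK LD1_c4 LD2_c25 LD3_c30)) :=
  Lre_g IH (LK LD1_c2 LD2_c10 LD3_c7) (LK LD1_c4 LD2_c25 LD3_c30) Lrfl Lrfl
theorem f38304 : Led Lsl_dt (LP (LK LD1_c4 LD2_c25 LD3_c30)) = (LP (LK LD1_c8 LD2_c48 LD3_c32)) :=
  Lre_d IH (LK LD1_c4 LD2_c25 LD3_c30) (LK LD1_c8 LD2_c48 LD3_c32) Lrfl Lrfl
theorem f38305 : Led Lsl_gt (LP (LK LD1_c8 LD2_c48 LD3_c32)) = (LP (LK LD1_c16 LD2_c28 LD3_c47)) :=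
  Lre_g IH (LK LD1_c8 LD2_c48 LD3_c32) (LK LD1_c16 LD2_c28 LD3_c47) Lrfl Lrfl
theorem f70563 : Led Lsl_dt (LP (LK LD1_c8 LD2_c50 LD3_c56)) = (LP (LK LD1_c16 LD2_c28 LD3_c47)) :=
  Lgr Lrot56 (Lpr_et (f16562 IH) (Lpr_gt (f16504 IH) (Lpe (K2.f16597 IH) (Lpr_dt (K2.f70437 IH) (Lpe (K2.f69355 IH) (Lpe (K2.f38007 IH) (Lpr_et (K2.f38252 IH) (Lpr_gt (f38065 IH) (Lpr_dt (f38304 IH) (Lpr_gt (f38305 IH) (Lpn (LP (LK LD1_c16 LD2_c28 LD3_c47)))))))))))))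
theorem f70569 : Led Lsl_df (LP (LK LD1_c8 LD2_c50 LD3_c56)) = (LP (LK LD1_c16 LD2_c28 LD3_c47)) :=
  Lgr Lrot38 (Lpr_dt (f70563 IH) (Lpn (LP (LK LD1_c16 LD2_c28 LD3_c47))))
theorem f35672 : Led Lsl_et (LP (LK LD1_c3 LD2_c0 LD3_c59)) = (LP (LK LD1_c1 LD2_c26 LD3_c18)) :=
  Lre_e IH (LK LD1_c3 LD2_c0 LD3_c59) (LK LD1_c1 LD2_c26 LD3_c18) Lrfl Lrfl
theorem f35673 : Led Lsl_cf (LP (LK LD1_c3 LD2_c0 LD3_c59)) = (LP (LK LD1_c3 LD2_c57 LD3_c45)) :=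
  Lgr Lrot39 (Lpr_et (f35672 IH) (Lpr_ct (K1.f35588 IH) (Lpr_et (K2.f35602 IH) (Lpn (LP (LK LD1_c3 LD2_c57 LD3_c45))))))
theorem f36137 : Led Lsl_bf (LP (LK LD1_c8 LD2_c46 LD3_c43)) = (LP (LK LD1_c14 LD2_c59 LD3_c35)) :=
  Lgr Lrot24 (Lpr_bt (K1.f36133 IH) (Lpn (LP (LK LD1_c14 LD2_c59 LD3_c35))))
theorem f34789 : Led Lsl_bt (LP (LK LD1_c4 LD2_c24 LD3_c37)) = (LP (LK LD1_c2 LD2_c9 LD3_c48)) :=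
  Lre_b IH (LK LD1_c4 LD2_c24 LD3_c37) (LK LD1_c2 LD2_c9 LD3_c48) Lrfl Lrfl
theorem f35693 : Led Lsl_bt (LP (LK LD1_c3 LD2_c57 LD3_c45)) = (LP (LK LD1_c7 LD2_c56 LD3_c52)) :=
  Lre_b IH (LK LD1_c3 LD2_c57 LD3_c45) (LK LD1_c7 LD2_c56 LD3_c52) Lrfl Lrfl
theorem f36156 : Led Lsl_at (LP (LK LD1_c2 LD2_c9 LD3_c48)) = (LP (LK LD1_c3 LD2_c57 LD3_c45)) :=
  Lgr Lrot67 (Lpe (f34789 IH) (Lpe (K1.f34837 IH) (Lpr_bf (f36137 IH) (Lpe (K1.f36100 IH) (Lpe (f35693 IH) (Lpn (LP (LK LD1_c3 LD2_c57 LD3_c45))))))))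
theorem f38274 : Led Lsl_ct (LP (LK LD1_c2 LD2_c10 LD3_c7)) = (LP (LK LD1_c2 LD2_c9 LD3_c48)) :=
  Lgr Lrot111 (Lpr_af (K1.f38264 IH) (Lpr_cf (f35673 IH) (Lpe (f36156 IH) (Lpn (LP (LK LD1_c2 LD2_c9 LD3_c48))))))
theorem f34803 : Led Lsl_gt (LP (LK LD1_c2 LD2_c9 LD3_c48)) = (LP (LK LD1_c4 LD2_c24 LD3_c38)) :=
  Lre_g IH (LK LD1_c2 LD2_c9 LD3_c48) (LK LD1_c4 LD2_c24 LD3_c38) Lrfl Lrfl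
theorem f35309 : Led Lsl_dt (LP (LK LD1_c4 LD2_c24 LD3_c38)) = (LP (LK LD1_c8 LD2_c46 LD3_c50)) :=
  Lre_d IH (LK LD1_c4 LD2_c24 LD3_c38) (LK LD1_c8 LD2_c46 LD3_c50) Lrfl Lrfl
theorem f30104 : Led Lsl_gt (LP (LK LD1_c4 LD2_c0 LD3_c12)) = (LP (LK LD1_c1 LD2_c56 LD3_c53)) :=
  Lre_g IH (LK LD1_c4 LD2_c0 LD3_c12) (LK LD1_c1 LD2_c56 LD3_c53) Lrfl Lrfl
theorem f30116 : Led Lsl_et (LP (LK LD1_c8 LD2_c1 LD3_c26)) = (LP (LK LD1_c4 LD2_c0 LD3_c12)) :=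
  Lre_e IH (LK LD1_c8 LD2_c1 LD3_c26) (LK LD1_c4 LD2_c0 LD3_c12) Lrfl Lrfl
theorem f30117 : Led Lsl_dt (LP (LK LD1_c8 LD2_c1 LD3_c26)) = (LP (LK LD1_c15 LD2_c6 LD3_c37)) :=
  Lre_d IH (LK LD1_c8 LD2_c1 LD3_c26) (LK LD1_c15 LD2_c6 LD3_c37) Lrfl Lrfl
theorem f35349 : Led Lsl_gt (LP (LK LD1_c8 LD2_c46 LD3_c50)) = (LP (LK LD1_c15 LD2_c6 LD3_c37)) :=
  Lgr Lrot139 (Lpe (f35309 IH) (Lpe (f34803 IH) (Lpe (K1.f34748 IH) (Lpr_dt (K1.f34744 IH) (Lpr_gf (K0.f35345 IH) (Lpe (K2.f3053 IH) (Lpr_et (K1.f30047 IH) (Lpe (f30104 IH) (Lpe (f30116 IH) (Lpr_dt (f30117 IH) (Lpn (LP (LK LD1_c15 LD2_c6 LD3_c37)))))))))))))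
theorem f35353 : Led Lsl_dt (LP (LK LD1_c15 LD2_c6 LD3_c37)) = (LP (LK LD1_c8 LD2_c1 LD3_c26)) :=
  Lre_d IH (LK LD1_c15 LD2_c6 LD3_c37) (LK LD1_c8 LD2_c1 LD3_c26) Lrfl Lrfl
theorem f70598 : Led Lsl_cf (LP (LK LD1_c8 LD2_c50 LD3_c56)) = (LP (LK LD1_c8 LD2_c1 LD3_c26)) :=
  Lgr Lrot14 (Lpr_df (f70569 IH) (Lpe (f38305 IH) (Lpe (f38304 IH) (Lpe (f38065 IH) (Lpr_ct (f38274 IH) (Lpr_gt (f34803 IH) (Lpr_dt (f35309 IH) (Lpr_gt (f35349 IH) (Lpr_dt (f35353 IH) (Lpn (LP (LK LD1_c8 LD2_c1 LD3_c26))))))))))))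
theorem f70606 : Led Lsl_et (LP (LK LD1_c4 LD2_c0 LD3_c12)) = (LP (LK LD1_c8 LD2_c1 LD3_c26)) :=
  Lre_e IH (LK LD1_c4 LD2_c0 LD3_c12) (LK LD1_c8 LD2_c1 LD3_c26) Lrfl Lrfl
theorem f70607 : Led Lsl_ct (LP (LK LD1_c4 LD2_c26 LD3_c40)) = (LP (LK LD1_c4 LD2_c0 LD3_c12)) :=
  Lgr Lrot15 (Lpe (f16562 IH) (Lpr_cf (f70598 IH) (Lpe (f70606 IH) (Lpn (LP (LK LD1_c4 LD2_c0 LD3_c12))))))
theorem f70622 : Led Lsl_cf (LP (LK LD1_c4 LD2_c26 LD3_c40)) = (LP (LK LD1_c4 LD2_c0 LD3_c12)) :=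
  Lgr Lrot11 (Lpr_ct (f70607 IH) (Lpn (LP (LK LD1_c4 LD2_c0 LD3_c12))))
theorem f16283 : Led Lsl_ct (LP (LK LD1_c4 LD2_c23 LD3_c39)) = (LP (LK LD1_c2 LD2_c9 LD3_c14)) :=
  Lre_c IH (LK LD1_c4 LD2_c23 LD3_c39) (LK LD1_c2 LD2_c9 LD3_c14) Lrfl Lrfl
theorem f16291 : Led Lsl_gt (LP (LK LD1_c8 LD2_c45 LD3_c8)) = (LP (LK LD1_c4 LD2_c23 LD3_c39)) :=
  Lre_g IH (LK LD1_c8 LD2_c45 LD3_c8) (LK LD1_c4 LD2_c23 LD3_c39) Lrfl Lrfl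
theorem f30105 : Led Lsl_gf (LP (LK LD1_c4 LD2_c0 LD3_c12)) = (LP (LK LD1_c4 LD2_c0 LD3_c57)) :=
  Lgr Lrot47 (Lpr_gt (f30104 IH) (Lpr_af (K1.f30041 IH) (Lpe (K1.f30101 IH) (Lpn (LP (LK LD1_c4 LD2_c0 LD3_c57))))))
theorem f29931 : Led Lsl_dt (LP (LK LD1_c8 LD2_c2 LD3_c1)) = (LP (LK LD1_c4 LD2_c0 LD3_c57)) :=
  Lre_d IH (LK LD1_c8 LD2_c2 LD3_c1) (LK LD1_c4 LD2_c0 LD3_c57) Lrfl Lrfl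
theorem f30002 : Led Lsl_gt (LP (LK LD1_c8 LD2_c1 LD3_c11)) = (LP (LK LD1_c4 LD2_c0 LD3_c4)) :=
  Lre_g IH (LK LD1_c8 LD2_c1 LD3_c11) (LK LD1_c4 LD2_c0 LD3_c4) Lrfl Lrfl
theorem f30003 : Led Lsl_gf (LP (LK LD1_c8 LD2_c1 LD3_c11)) = (LP (LK LD1_c8 LD2_c2 LD3_c1)) :=
  Lgr Lrot47 (Lpr_gt (f30002 IH) (Lpr_af (K1.f29967 IH) (Lpe (K1.f29966 IH) (Lpn (LP (LK LD1_c8 LD2_c2 LD3_c1))))))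
theorem f70647 : Led Lsl_cf (LP (LK LD1_c8 LD2_c45 LD3_c8)) = (LP (LK LD1_c8 LD2_c1 LD3_c11)) :=
  Lgr Lrot169 (Lpr_gt (f16291 IH) (Lpr_ct (f16283 IH) (Lpe (K1.f16329 IH) (Lpe (K1.f16330 IH) (Lpe (f16504 IH) (Lpr_cf (f70622 IH) (Lpr_gf (f30105 IH) (Lpe (f29931 IH) (Lpe (f30003 IH) (Lpn (LP (LK LD1_c8 LD2_c1 LD3_c11))))))))))))
theorem f30120 : Led Lsl_gt (LP (LK LD1_c1 LD2_c56 LD3_c53)) = (LP (LK LD1_c4 LD2_c0 LD3_c11)) :=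
  Lre_g IH (LK LD1_c1 LD2_c56 LD3_c53) (LK LD1_c4 LD2_c0 LD3_c11) Lrfl Lrfl
theorem f30126 : Led Lsl_dt (LP (LK LD1_c4 LD2_c0 LD3_c11)) = (LP (LK LD1_c8 LD2_c1 LD3_c22)) :=
  Lre_d IH (LK LD1_c4 LD2_c0 LD3_c11) (LK LD1_c8 LD2_c1 LD3_c22) Lrfl Lrfl
theorem f35855 : Led Lsl_ct (LP (LK LD1_c15 LD2_c6 LD3_c27)) = (LP (LK LD1_c8 LD2_c1 LD3_c22)) :=
  Lre_c IH (LK LD1_c15 LD2_c6 LD3_c27) (LK LD1_c8 LD2_c1 LD3_c22) Lrfl Lrfl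
theorem f70657 : Led Lsl_dt (LP (LK LD1_c16 LD2_c23 LD3_c0)) = (LP (LK LD1_c15 LD2_c6 LD3_c27)) :=
  Lgr Lrot105 (Lpe (f39441 IH) (Lpe (K1.f16290 IH) (Lpe (f16291 IH) (Lpr_cf (f70647 IH) (Lpr_gt (f30002 IH) (Lpr_dt (K1.f29941 IH) (Lpr_gt (f30120 IH) (Lpr_dt (f30126 IH) (Lpe (f35855 IH) (Lpn (LP (LK LD1_c15 LD2_c6 LD3_c27))))))))))))
theorem f70667 : Led Lsl_df (LP (LK LD1_c16 LD2_c23 LD3_c0)) = (LP (LK LD1_c15 LD2_c6 LD3_c27)) :=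
  Lgr Lrot38 (Lpr_dt (f70657 IH) (Lpn (LP (LK LD1_c15 LD2_c6 LD3_c27))))
theorem f445509 : Led Lsl_gt (LP (LK LD1_c16 LD2_c33 LD3_c2)) = (LP (LK LD1_c15 LD2_c6 LD3_c27)) :=
  Lgr Lrot94 (Lpe (f443771 IH) (Lpr_gt (f69628 IH) (Lpr_dt (f69525 IH) (Lpe (f443766 IH) (Lpr_dt (f38794 IH) (Lpe (K1.f38815 IH) (Lpe (f38817 IH) (Lpr_gf (f445505 IH) (Lpr_df (f70667 IH) (Lpn (LP (LK LD1_c15 LD2_c6 LD3_c27))))))))))))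
theorem f38823 : Led Lsl_at (LP (LK LD1_c14 LD2_c59 LD3_c15)) = (LP (LK LD1_c8 LD2_c45 LD3_c10)) :=
  Lgr Lrot100 (Lpr_af (K1.f38811 IH) (Lpn (LP (LK LD1_c8 LD2_c45 LD3_c10))))
theorem f39584 : Led Lsl_gt (LP (LK LD1_c7 LD2_c56 LD3_c35)) = (LP (LK LD1_c14 LD2_c59 LD3_c12)) :=
  Lre_g IH (LK LD1_c7 LD2_c56 LD3_c35) (LK LD1_c14 LD2_c59 LD3_c12) Lrfl Lrfl
theorem f444826 : Led Lsl_gt (LP (LK LD1_c14 LD2_c59 LD3_c12)) = (LP (LK LD1_c8 LD2_c45 LD3_c10)) :=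
  Lgr Lrot46 (Lpe (f39584 IH) (Lpr_ft (K1.f39420 IH) (Lpr_at (f38823 IH) (Lpn (LP (LK LD1_c8 LD2_c45 LD3_c10))))))
theorem f35564 : Led Lsl_dt (LP (LK LD1_c16 LD2_c33 LD3_c44)) = (LP (LK LD1_c8 LD2_c51 LD3_c32)) :=
  Lre_d IH (LK LD1_c16 LD2_c33 LD3_c44) (LK LD1_c8 LD2_c51 LD3_c32) Lrfl Lrfl
theorem f35603 : Led Lsl_gt (LP (LK LD1_c3 LD2_c57 LD3_c45)) = (LP (LK LD1_c7 LD2_c56 LD3_c53)) :=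
  Lre_g IH (LK LD1_c3 LD2_c57 LD3_c45) (LK LD1_c7 LD2_c56 LD3_c53) Lrfl Lrfl
theorem f35604 : Led Lsl_dt (LP (LK LD1_c7 LD2_c56 LD3_c53)) = (LP (LK LD1_c14 LD2_c59 LD3_c40)) :=
  Lre_d IH (LK LD1_c7 LD2_c56 LD3_c53) (LK LD1_c14 LD2_c59 LD3_c40) Lrfl Lrfl
theorem f30099 : Led Lsl_et (LP (LK LD1_c0 LD2_c55 LD3_c25)) = (LP (LK LD1_c1 LD2_c57 LD3_c14)) :=
  Lre_e IH (LK LD1_c0 LD2_c55 LD3_c25) (LK LD1_c1 LD2_c57 LD3_c14) Lrfl Lrfl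
theorem f30053 : Led Lsl_gt (LP (LK LD1_c4 LD2_c0 LD3_c56)) = (LP (LK LD1_c1 LD2_c57 LD3_c14)) :=
  Lre_g IH (LK LD1_c4 LD2_c0 LD3_c56) (LK LD1_c1 LD2_c57 LD3_c14) Lrfl Lrfl
theorem f30088 : Led Lsl_et (LP (LK LD1_c8 LD2_c2 LD3_c39)) = (LP (LK LD1_c4 LD2_c0 LD3_c56)) :=
  Lre_e IH (LK LD1_c8 LD2_c2 LD3_c39) (LK LD1_c4 LD2_c0 LD3_c56) Lrfl Lrfl
theorem f30089 : Led Lsl_dt (LP (LK LD1_c8 LD2_c2 LD3_c39)) = (LP (LK LD1_c15 LD2_c8 LD3_c47)) :=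
  Lre_d IH (LK LD1_c8 LD2_c2 LD3_c39) (LK LD1_c15 LD2_c8 LD3_c47) Lrfl Lrfl
theorem f35605 : Led Lsl_gf (LP (LK LD1_c15 LD2_c8 LD3_c47)) = (LP (LK LD1_c14 LD2_c59 LD3_c40)) :=
  Lgr Lrot134 (Lpe (f30089 IH) (Lpr_et (f30088 IH) (Lpr_gt (f30053 IH) (Lpe (f30099 IH) (Lpr_dt (K1.f29552 IH) (Lpr_gt (K1.f35594 IH) (Lpe (K1.f35583 IH) (Lpr_et (K2.f35602 IH) (Lpr_gt (f35603 IH) (Lpr_dt (f35604 IH) (Lpn (LP (LK LD1_c14 LD2_c59 LD3_c40)))))))))))))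
theorem f35608 : Led Lsl_dt (LP (LK LD1_c15 LD2_c8 LD3_c47)) = (LP (LK LD1_c8 LD2_c2 LD3_c39)) :=
  Lre_d IH (LK LD1_c15 LD2_c8 LD3_c47) (LK LD1_c8 LD2_c2 LD3_c39) Lrfl Lrfl
theorem f35685 : Led Lsl_ct (LP (LK LD1_c8 LD2_c51 LD3_c32)) = (LP (LK LD1_c8 LD2_c2 LD3_c39)) :=
  Lgr Lrot7 (Lpe (f35564 IH) (Lpr_gf (f35561 IH) (Lpe (f35560 IH) (Lpe (f35556 IH) (Lpr_cf (f35673 IH) (Lpr_gt (f35603 IH) (Lpr_dt (f35604 IH) (Lpe (f35605 IH) (Lpr_dt (f35608 IH) (Lpn (LP (LK LD1_c8 LD2_c2 LD3_c39))))))))))))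
theorem f35701 : Led Lsl_et (LP (LK LD1_c4 LD2_c26 LD3_c53)) = (LP (LK LD1_c8 LD2_c51 LD3_c32)) :=
  Lre_e IH (LK LD1_c4 LD2_c26 LD3_c53) (LK LD1_c8 LD2_c51 LD3_c32) Lrfl Lrfl
theorem f35702 : Led Lsl_cf (LP (LK LD1_c4 LD2_c26 LD3_c53)) = (LP (LK LD1_c4 LD2_c0 LD3_c56)) :=
  Lgr Lrot39 (Lpr_et (f35701 IH) (Lpr_ct (f35685 IH) (Lpr_et (f30088 IH) (Lpn (LP (LK LD1_c4 LD2_c0 LD3_c56))))))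
theorem f30643 : Led Lsl_gt (LP (LK LD1_c4 LD2_c0 LD3_c31)) = (LP (LK LD1_c8 LD2_c1 LD3_c61)) :=
  Lre_g IH (LK LD1_c4 LD2_c0 LD3_c31) (LK LD1_c8 LD2_c1 LD3_c61) Lrfl Lrfl
theorem f30647 : Led Lsl_dt (LP (LK LD1_c8 LD2_c1 LD3_c61)) = (LP (LK LD1_c15 LD2_c7 LD3_c41)) :=
  Lre_d IH (LK LD1_c8 LD2_c1 LD3_c61) (LK LD1_c15 LD2_c7 LD3_c41) Lrfl Lrfl
theorem f408118 : Led Lsl_ct (LP (LK LD1_c16 LD2_c27 LD3_c56)) = (LP (LK LD1_c15 LD2_c7 LD3_c41)) :=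
  Lgr Lrot7 (Lpr_df (f408076 IH) (Lpe (f16537 IH) (Lpe (f16425 IH) (Lpe (f16598 IH) (Lpr_cf (f35702 IH) (Lpr_gt (f30053 IH) (Lpr_dt (K1.f29995 IH) (Lpr_gt (f30643 IH) (Lpr_dt (f30647 IH) (Lpn (LP (LK LD1_c15 LD2_c7 LD3_c41))))))))))))
theorem f16428 : Led Lsl_dt (LP (LK LD1_c4 LD2_c23 LD3_c42)) = (LP (LK LD1_c2 LD2_c10 LD3_c34)) :=
  Lre_d IH (LK LD1_c4 LD2_c23 LD3_c42) (LK LD1_c2 LD2_c10 LD3_c34) Lrfl Lrfl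
theorem f38856 : Led Lsl_ft (LP (LK LD1_c3 LD2_c57 LD3_c35)) = (LP (LK LD1_c7 LD2_c56 LD3_c38)) :=
  Lre_f IH (LK LD1_c3 LD2_c57 LD3_c35) (LK LD1_c7 LD2_c56 LD3_c38) Lrfl Lrfl
theorem f38858 : Led Lsl_gt (LP (LK LD1_c3 LD2_c57 LD3_c35)) = (LP (LK LD1_c7 LD2_c56 LD3_c36)) :=
  Lre_g IH (LK LD1_c3 LD2_c57 LD3_c35) (LK LD1_c7 LD2_c56 LD3_c36) Lrfl Lrfl
theorem f38859 : Led Lsl_gt (LP (LK LD1_c7 LD2_c56 LD3_c36)) = (LP (LK LD1_c4 LD2_c23 LD3_c42)) :=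
  Lgr Lrot46 (Lpe (f38858 IH) (Lpr_ft (f38856 IH) (Lpr_at (K1.f38826 IH) (Lpn (LP (LK LD1_c4 LD2_c23 LD3_c42))))))
theorem f38862 : Led Lsl_dt (LP (LK LD1_c14 LD2_c59 LD3_c18)) = (LP (LK LD1_c7 LD2_c56 LD3_c36)) :=
  Lre_d IH (LK LD1_c14 LD2_c59 LD3_c18) (LK LD1_c7 LD2_c56 LD3_c36) Lrfl Lrfl
theorem f16505 : Led Lsl_dt (LP (LK LD1_c8 LD2_c50 LD3_c55)) = (LP (LK LD1_c4 LD2_c26 LD3_c40)) :=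
  Lre_d IH (LK LD1_c8 LD2_c50 LD3_c55) (LK LD1_c4 LD2_c26 LD3_c40) Lrfl Lrfl
theorem f16561 : Led Lsl_et (LP (LK LD1_c8 LD2_c50 LD3_c55)) = (LP (LK LD1_c16 LD2_c32 LD3_c24)) :=
  Lre_e IH (LK LD1_c8 LD2_c50 LD3_c55) (LK LD1_c16 LD2_c32 LD3_c24) Lrfl Lrfl
theorem f241113 : Led Lsl_gf (LP (LK LD1_c16 LD2_c32 LD3_c24)) = (LP (LK LD1_c16 LD2_c29 LD3_c2)) :=
  Lgr Lrot141 (Lpe (f16561 IH) (Lpr_dt (f16505 IH) (Lpr_gt (f16504 IH) (Lpe (K1.f16331 IH) (Lpe (K12.f101059 IH) (Lpr_gt (K13.f101073 IH) (Lpr_dt (K13.f241042 IH) (Lpe (K13.f241077 IH) (Lpr_df (K12.f210957 IH) (Lpr_et (K36.f241085 IH) (Lpn (LP (LK LD1_c16 LD2_c29 LD3_c2)))))))))))))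
theorem f70571 : Led Lsl_et (LP (LK LD1_c4 LD2_c26 LD3_c40)) = (LP (LK LD1_c8 LD2_c50 LD3_c56)) :=
  Lre_e IH (LK LD1_c4 LD2_c26 LD3_c40) (LK LD1_c8 LD2_c50 LD3_c56) Lrfl Lrfl
theorem f70572 : Led Lsl_et (LP (LK LD1_c16 LD2_c32 LD3_c24)) = (LP (LK LD1_c8 LD2_c50 LD3_c55)) :=
  Lre_e IH (LK LD1_c16 LD2_c32 LD3_c24) (LK LD1_c8 LD2_c50 LD3_c55) Lrfl Lrfl
theorem f70573 : Led Lsl_et (LP (LK LD1_c16 LD2_c28 LD3_c47)) = (LP (LK LD1_c26 LD2_c25 LD3_c52)) :=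
  Lre_e IH (LK LD1_c16 LD2_c28 LD3_c47) (LK LD1_c26 LD2_c25 LD3_c52) Lrfl Lrfl
theorem f70574 : Led Lsl_df (LP (LK LD1_c16 LD2_c32 LD3_c24)) = (LP (LK LD1_c26 LD2_c25 LD3_c52)) :=
  Lgr Lrot70 (Lpr_et (f70572 IH) (Lpr_dt (f16505 IH) (Lpr_et (f70571 IH) (Lpr_dt (f70563 IH) (Lpr_et (f70573 IH) (Lpn (LP (LK LD1_c26 LD2_c25 LD3_c52))))))))
theorem f70587 : Led Lsl_et (LP (LK LD1_c26 LD2_c25 LD3_c52)) = (LP (LK LD1_c16 LD2_c28 LD3_c47)) :=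
  Lre_e IH (LK LD1_c26 LD2_c25 LD3_c52) (LK LD1_c16 LD2_c28 LD3_c47) Lrfl Lrfl
theorem f38063 : Led Lsl_et (LP (LK LD1_c4 LD2_c25 LD3_c32)) = (LP (LK LD1_c2 LD2_c10 LD3_c8)) :=
  Lre_e IH (LK LD1_c4 LD2_c25 LD3_c32) (LK LD1_c2 LD2_c10 LD3_c8) Lrfl Lrfl
theorem f38064 : Led Lsl_dt (LP (LK LD1_c4 LD2_c25 LD3_c32)) = (LP (LK LD1_c2 LD2_c10 LD3_c7)) :=
  Lre_d IH (LK LD1_c4 LD2_c25 LD3_c32) (LK LD1_c2 LD2_c10 LD3_c7) Lrfl Lrfl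
theorem f38281 : Led Lsl_gt (LP (LK LD1_c4 LD2_c25 LD3_c31)) = (LP (LK LD1_c2 LD2_c10 LD3_c7)) :=
  Lre_g IH (LK LD1_c4 LD2_c25 LD3_c31) (LK LD1_c2 LD2_c10 LD3_c7) Lrfl Lrfl
theorem f38287 : Led Lsl_dt (LP (LK LD1_c8 LD2_c48 LD3_c34)) = (LP (LK LD1_c4 LD2_c25 LD3_c31)) :=
  Lre_d IH (LK LD1_c8 LD2_c48 LD3_c34) (LK LD1_c4 LD2_c25 LD3_c31) Lrfl Lrfl
theorem f241117 : Led Lsl_gt (LP (LK LD1_c16 LD2_c28 LD3_c47)) = (LP (LK LD1_c8 LD2_c48 LD3_c34)) :=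
  Lgr Lrot137 (Lpe (f70587 IH) (Lpe (f70574 IH) (Lpr_gf (f241113 IH) (Lpe (K36.f38359 IH) (Lpr_et (K36.f38358 IH) (Lpe (K12.f38354 IH) (Lpe (f38063 IH) (Lpr_dt (f38064 IH) (Lpe (f38281 IH) (Lpe (f38287 IH) (Lpn (LP (LK LD1_c8 LD2_c48 LD3_c34)))))))))))))
theorem f16215 : Led Lsl_dt (LP (LK LD1_c2 LD2_c10 LD3_c31)) = (LP (LK LD1_c4 LD2_c26 LD3_c41)) :=
  Lre_d IH (LK LD1_c2 LD2_c10 LD3_c31) (LK LD1_c4 LD2_c26 LD3_c41) Lrfl Lrfl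
theorem f16216 : Led Lsl_at (LP (LK LD1_c2 LD2_c10 LD3_c35)) = (LP (LK LD1_c2 LD2_c10 LD3_c31)) :=
  Lgr Lrot51 (Lpe (K1.f16214 IH) (Lpr_af (K1.f16200 IH) (Lpe (f16215 IH) (Lpn (LP (LK LD1_c2 LD2_c10 LD3_c31))))))
theorem f16289 : Led Lsl_ft (LP (LK LD1_c4 LD2_c26 LD3_c51)) = (LP (LK LD1_c2 LD2_c10 LD3_c35)) :=
  Lre_f IH (LK LD1_c4 LD2_c26 LD3_c51) (LK LD1_c2 LD2_c10 LD3_c35) Lrfl Lrfl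
theorem f16551 : Led Lsl_gt (LP (LK LD1_c4 LD2_c26 LD3_c51)) = (LP (LK LD1_c4 LD2_c26 LD3_c40)) :=
  Lgr Lrot5 (Lpr_ft (f16289 IH) (Lpr_at (f16216 IH) (Lpe (f16504 IH) (Lpn (LP (LK LD1_c4 LD2_c26 LD3_c40))))))
theorem f38284 : Led Lsl_dt (LP (LK LD1_c4 LD2_c25 LD3_c31)) = (LP (LK LD1_c8 LD2_c48 LD3_c34)) :=
  Lre_d IH (LK LD1_c4 LD2_c25 LD3_c31) (LK LD1_c8 LD2_c48 LD3_c34) Lrfl Lrfl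
theorem f227623 : Led Lsl_et (LP (LK LD1_c4 LD2_c25 LD3_c31)) = (LP (LK LD1_c8 LD2_c48 LD3_c35)) :=
  Lre_e IH (LK LD1_c4 LD2_c25 LD3_c31) (LK LD1_c8 LD2_c48 LD3_c35) Lrfl Lrfl
theorem f241119 : Led Lsl_gf (LP (LK LD1_c14 LD2_c59 LD3_c18)) = (LP (LK LD1_c8 LD2_c48 LD3_c35)) :=
  Lgr Lrot138 (Lpr_dt (f38862 IH) (Lpr_gt (f38859 IH) (Lpe (K1.f16230 IH) (Lpr_et (K1.f16419 IH) (Lpr_gt (f16551 IH) (Lpe (f16562 IH) (Lpr_dt (f70563 IH) (Lpr_gt (f241117 IH) (Lpe (f38284 IH) (Lpr_et (f227623 IH) (Lpn (LP (LK LD1_c8 LD2_c48 LD3_c35)))))))))))))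
theorem f408082 : Led Lsl_cf (LP (LK LD1_c8 LD2_c47 LD3_c55)) = (LP (LK LD1_c8 LD2_c48 LD3_c35)) :=
  Lgr Lrot166 (Lpr_gt (f211196 IH) (Lpr_dt (f408073 IH) (Lpr_gt (f16538 IH) (Lpr_dt (K1.f16228 IH) (Lpr_ct (K1.f16229 IH) (Lpe (f16428 IH) (Lpe (f38859 IH) (Lpe (f38862 IH) (Lpr_gf (f241119 IH) (Lpn (LP (LK LD1_c8 LD2_c48 LD3_c35))))))))))))
theorem f100990 : Led Lsl_gt (LP (LK LD1_c12 LD2_c5 LD3_c19)) = (LP (LK LD1_c21 LD2_c10 LD3_c57)) :=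
  Lre_g IH (LK LD1_c12 LD2_c5 LD3_c19) (LK LD1_c21 LD2_c10 LD3_c57) Lrfl Lrfl
theorem f227617 : Led Lsl_gt (LP (LK LD1_c16 LD2_c29 LD3_c1)) = (LP (LK LD1_c8 LD2_c48 LD3_c41)) :=
  Lre_g IH (LK LD1_c16 LD2_c29 LD3_c1) (LK LD1_c8 LD2_c48 LD3_c41) Lrfl Lrfl
theorem f241128 : Led Lsl_dt (LP (LK LD1_c26 LD2_c26 LD3_c5)) = (LP (LK LD1_c16 LD2_c29 LD3_c1)) :=
  Lre_d IH (LK LD1_c26 LD2_c26 LD3_c5) (LK LD1_c16 LD2_c29 LD3_c1) Lrfl Lrfl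
theorem f241129 : Led Lsl_ef (LP (LK LD1_c21 LD2_c10 LD3_c57)) = (LP (LK LD1_c26 LD2_c26 LD3_c5)) :=
  Lgr Lrot17 (Lpe (f100990 IH) (Lpe (K9.f101002 IH) (Lpr_dt (K9.f100660 IH) (Lpr_gf (K9.f101399 IH) (Lpe (K12.f101401 IH) (Lpe (K12.f101402 IH) (Lpr_ef (f241110 IH) (Lpr_dt (K36.f227608 IH) (Lpe (f227617 IH) (Lpe (f241128 IH) (Lpn (LP (LK LD1_c26 LD2_c26 LD3_c5)))))))))))))
theorem f241139 : Led Lsl_et (LP (LK LD1_c21 LD2_c10 LD3_c57)) = (LP (LK LD1_c26 LD2_c26 LD3_c5)) :=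
  Lgr Lrot87 (Lpr_ef (f241129 IH) (Lpn (LP (LK LD1_c26 LD2_c26 LD3_c5))))
theorem f100993 : Led Lsl_dt (LP (LK LD1_c29 LD2_c53 LD3_c14)) = (LP (LK LD1_c21 LD2_c10 LD3_c57)) :=
  Lre_d IH (LK LD1_c29 LD2_c53 LD3_c14) (LK LD1_c21 LD2_c10 LD3_c57) Lrfl Lrfl
theorem f237295 : Led Lsl_et (LP (LK LD1_c2 LD2_c9 LD3_c4)) = (LP (LK LD1_c4 LD2_c23 LD3_c15)) :=
  Lre_e IH (LK LD1_c2 LD2_c9 LD3_c4) (LK LD1_c4 LD2_c23 LD3_c15) Lrfl Lrfl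
theorem f237296 : Led Lsl_gt (LP (LK LD1_c4 LD2_c23 LD3_c15)) = (LP (LK LD1_c8 LD2_c44 LD3_c12)) :=
  Lre_g IH (LK LD1_c4 LD2_c23 LD3_c15) (LK LD1_c8 LD2_c44 LD3_c12) Lrfl Lrfl
theorem f237297 : Led Lsl_et (LP (LK LD1_c16 LD2_c21 LD3_c33)) = (LP (LK LD1_c8 LD2_c44 LD3_c12)) :=
  Lre_e IH (LK LD1_c16 LD2_c21 LD3_c33) (LK LD1_c8 LD2_c44 LD3_c12) Lrfl Lrfl
theorem f100996 : Led Lsl_gt (LP (LK LD1_c16 LD2_c22 LD3_c36)) = (LP (LK LD1_c8 LD2_c44 LD3_c57)) :=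
  Lre_g IH (LK LD1_c16 LD2_c22 LD3_c36) (LK LD1_c8 LD2_c44 LD3_c57) Lrfl Lrfl
theorem f237298 : Led Lsl_dt (LP (LK LD1_c16 LD2_c21 LD3_c33)) = (LP (LK LD1_c16 LD2_c22 LD3_c36)) :=
  Lgr Lrot136 (Lpr_et (f237297 IH) (Lpe (f237296 IH) (Lpe (f237295 IH) (Lpr_dt (K13.f29618 IH) (Lpr_gf (K13.f237289 IH) (Lpe (K1.f38918 IH) (Lpr_gf (K12.f38926 IH) (Lpe (K15.f100994 IH) (Lpr_dt (K30.f100995 IH) (Lpe (f100996 IH) (Lpn (LP (LK LD1_c16 LD2_c22 LD3_c36)))))))))))))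
theorem f237303 : Led Lsl_gt (LP (LK LD1_c26 LD2_c19 LD3_c38)) = (LP (LK LD1_c16 LD2_c21 LD3_c33)) :=
  Lre_g IH (LK LD1_c26 LD2_c19 LD3_c38) (LK LD1_c16 LD2_c21 LD3_c33) Lrfl Lrfl
theorem f39821 : Led Lsl_et (LP (LK LD1_c7 LD2_c56 LD3_c39)) = (LP (LK LD1_c3 LD2_c57 LD3_c36)) :=
  Lre_e IH (LK LD1_c7 LD2_c56 LD3_c39) (LK LD1_c3 LD2_c57 LD3_c36) Lrfl Lrfl
theorem f237304 : Led Lsl_ef (LP (LK LD1_c26 LD2_c19 LD3_c38)) = (LP (LK LD1_c29 LD2_c53 LD3_c14)) :=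
  Lgr Lrot167 (Lpr_gt (f237303 IH) (Lpr_dt (f237298 IH) (Lpr_gt (f100996 IH) (Lpe (K30.f100995 IH) (Lpr_et (K15.f100994 IH) (Lpe (K12.f38926 IH) (Lpe (f39821 IH) (Lpe (K9.f100976 IH) (Lpr_gt (f100990 IH) (Lpe (f100993 IH) (Lpn (LP (LK LD1_c29 LD2_c53 LD3_c14)))))))))))))
theorem f237306 : Led Lsl_et (LP (LK LD1_c26 LD2_c19 LD3_c38)) = (LP (LK LD1_c29 LD2_c53 LD3_c14)) :=
  Lgr Lrot87 (Lpr_ef (f237304 IH) (Lpn (LP (LK LD1_c29 LD2_c53 LD3_c14))))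
theorem f241144 : Led Lsl_et (LP (LK LD1_c16 LD2_c29 LD3_c1)) = (LP (LK LD1_c26 LD2_c26 LD3_c6)) :=
  Lre_e IH (LK LD1_c16 LD2_c29 LD3_c1) (LK LD1_c26 LD2_c26 LD3_c6) Lrfl Lrfl
theorem f241145 : Led Lsl_df (LP (LK LD1_c26 LD2_c19 LD3_c38)) = (LP (LK LD1_c26 LD2_c26 LD3_c6)) :=
  Lgr Lrot70 (Lpr_et (f237306 IH) (Lpr_dt (f100993 IH) (Lpr_et (f241139 IH) (Lpr_dt (f241128 IH) (Lpr_et (f241144 IH) (Lpn (LP (LK LD1_c26 LD2_c26 LD3_c6))))))))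
theorem f227618 : Led Lsl_et (LP (LK LD1_c26 LD2_c26 LD3_c6)) = (LP (LK LD1_c16 LD2_c29 LD3_c1)) :=
  Lre_e IH (LK LD1_c26 LD2_c26 LD3_c6) (LK LD1_c16 LD2_c29 LD3_c1) Lrfl Lrfl
theorem f210400 : Led Lsl_gt (LP (LK LD1_c8 LD2_c44 LD3_c57)) = (LP (LK LD1_c16 LD2_c22 LD3_c35)) :=
  Lre_g IH (LK LD1_c8 LD2_c44 LD3_c57) (LK LD1_c16 LD2_c22 LD3_c35) Lrfl Lrfl
theorem f227615 : Led Lsl_et (LP (LK LD1_c8 LD2_c48 LD3_c34)) = (LP (LK LD1_c16 LD2_c22 LD3_c35)) :=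
  Lgr Lrot122 (Lpr_dt (f38287 IH) (Lpr_gt (f38281 IH) (Lpe (f38064 IH) (Lpr_et (f38063 IH) (Lpr_gt (K12.f38354 IH) (Lpr_dt (K12.f227601 IH) (Lpr_gt (K12.f210961 IH) (Lpe (K11.f182393 IH) (Lpe (K30.f210384 IH) (Lpr_gt (f210400 IH) (Lpn (LP (LK LD1_c16 LD2_c22 LD3_c35)))))))))))))
theorem f38289 : Led Lsl_et (LP (LK LD1_c8 LD2_c48 LD3_c35)) = (LP (LK LD1_c4 LD2_c25 LD3_c31)) :=
  Lre_e IH (LK LD1_c8 LD2_c48 LD3_c35) (LK LD1_c4 LD2_c25 LD3_c31) Lrfl Lrfl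
theorem f69626 : Led Lsl_dt (LP (LK LD1_c8 LD2_c51 LD3_c7)) = (LP (LK LD1_c8 LD2_c48 LD3_c35)) :=
  Lre_d IH (LK LD1_c8 LD2_c51 LD3_c7) (LK LD1_c8 LD2_c48 LD3_c35) Lrfl Lrfl
theorem f69627 : Led Lsl_et (LP (LK LD1_c16 LD2_c33 LD3_c1)) = (LP (LK LD1_c8 LD2_c51 LD3_c7)) :=
  Lre_e IH (LK LD1_c16 LD2_c33 LD3_c1) (LK LD1_c8 LD2_c51 LD3_c7) Lrfl Lrfl
theorem f227619 : Led Lsl_df (LP (LK LD1_c16 LD2_c33 LD3_c1)) = (LP (LK LD1_c16 LD2_c22 LD3_c35)) :=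
  Lgr Lrot70 (Lpr_et (f69627 IH) (Lpr_dt (f69626 IH) (Lpr_et (f38289 IH) (Lpr_dt (f38284 IH) (Lpr_et (f227615 IH) (Lpn (LP (LK LD1_c16 LD2_c22 LD3_c35))))))))
theorem f241147 : Led Lsl_gf (LP (LK LD1_c26 LD2_c19 LD3_c38)) = (LP (LK LD1_c16 LD2_c33 LD3_c1)) :=
  Lgr Lrot134 (Lpr_df (f241145 IH) (Lpr_et (f227618 IH) (Lpr_gt (f227617 IH) (Lpe (f227612 IH) (Lpr_dt (K12.f227601 IH) (Lpr_gt (K12.f210961 IH) (Lpe (K11.f182393 IH) (Lpe (K30.f210384 IH) (Lpr_gt (f210400 IH) (Lpe (f227619 IH) (Lpn (LP (LK LD1_c16 LD2_c33 LD3_c1)))))))))))))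
theorem f40007 : Led Lsl_df (LP (LK LD1_c14 LD2_c59 LD3_c22)) = (LP (LK LD1_c16 LD2_c32 LD3_c36)) :=
  Lgr Lrot70 (Lpr_et (K1.f38852 IH) (Lpr_dt (f38835 IH) (Lpr_et (K1.f40003 IH) (Lpr_dt (K1.f16345 IH) (Lpr_et (f16387 IH) (Lpn (LP (LK LD1_c16 LD2_c32 LD3_c36))))))))
theorem f100985 : Led Lsl_ft (LP (LK LD1_c12 LD2_c5 LD3_c19)) = (LP (LK LD1_c16 LD2_c32 LD3_c36)) :=
  Lgr Lrot54 (Lpr_df (K9.f100976 IH) (Lpe (K1.f38878 IH) (Lpr_df (f40007 IH) (Lpn (LP (LK LD1_c16 LD2_c32 LD3_c36))))))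
theorem f101394 : Led Lsl_gt (LP (LK LD1_c21 LD2_c10 LD3_c57)) = (LP (LK LD1_c16 LD2_c23 LD3_c23)) :=
  Lgr Lrot46 (Lpe (f100990 IH) (Lpr_ft (f100985 IH) (Lpe (f16366 IH) (Lpn (LP (LK LD1_c16 LD2_c23 LD3_c23))))))
theorem f38871 : Led Lsl_et (LP (LK LD1_c8 LD2_c45 LD3_c19)) = (LP (LK LD1_c4 LD2_c23 LD3_c42)) :=
  Lre_e IH (LK LD1_c8 LD2_c45 LD3_c19) (LK LD1_c4 LD2_c23 LD3_c42) Lrfl Lrfl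
theorem f205259 : Led Lsl_gf (LP (LK LD1_c0 LD2_c37 LD3_c14)) = (LP (LK LD1_c0 LD2_c40 LD3_c39)) :=
  Lgr Lrot144 (Lpr_dt (K4.f56595 IH) (Lpr_gt (K2.f70559 IH) (Lpr_dt (K2.f60409 IH) (Lpr_cf (K2.f69327 IH) (Lpe (K6.f37964 IH) (Lpe (K0.f8190 IH) (Lpe (K2.f59163 IH) (Lpr_gf (K11.f205255 IH) (Lpe (K36.f38134 IH) (Lpn (LP (LK LD1_c0 LD2_c40 LD3_c39))))))))))))
theorem f59300 : Led Lsl_gt (LP (LK LD1_c2 LD2_c48 LD3_c60)) = (LP (LK LD1_c5 LD2_c46 LD3_c32)) :=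
  Lre_g IH (LK LD1_c2 LD2_c48 LD3_c60) (LK LD1_c5 LD2_c46 LD3_c32) Lrfl Lrfl
theorem f60380 : Led Lsl_et (LP (LK LD1_c11 LD2_c23 LD3_c16)) = (LP (LK LD1_c5 LD2_c46 LD3_c32)) :=
  Lre_e IH (LK LD1_c11 LD2_c23 LD3_c16) (LK LD1_c5 LD2_c46 LD3_c32) Lrfl Lrfl
theorem f38113 : Led Lsl_dt (LP (LK LD1_c1 LD2_c27 LD3_c52)) = (LP (LK LD1_c0 LD2_c40 LD3_c39)) :=
  Lre_d IH (LK LD1_c1 LD2_c27 LD3_c52) (LK LD1_c0 LD2_c40 LD3_c39) Lrfl Lrfl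
theorem f38713 : Led Lsl_et (LP (LK LD1_c1 LD2_c55 LD3_c46)) = (LP (LK LD1_c0 LD2_c54 LD3_c36)) :=
  Lre_e IH (LK LD1_c1 LD2_c55 LD3_c46) (LK LD1_c0 LD2_c54 LD3_c36) Lrfl Lrfl
theorem f38724 : Led Lsl_gt (LP (LK LD1_c7 LD2_c56 LD3_c37)) = (LP (LK LD1_c3 LD2_c57 LD3_c35)) :=
  Lre_g IH (LK LD1_c7 LD2_c56 LD3_c37) (LK LD1_c3 LD2_c57 LD3_c35) Lrfl Lrfl
theorem f210919 : Led Lsl_dt (LP (LK LD1_c11 LD2_c23 LD3_c16)) = (LP (LK LD1_c7 LD2_c56 LD3_c37)) :=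
  Lgr Lrot136 (Lpr_et (f60380 IH) (Lpe (f59300 IH) (Lpe (K8.f56611 IH) (Lpr_dt (K1.f56593 IH) (Lpr_gf (f205259 IH) (Lpe (f38113 IH) (Lpe (K11.f202013 IH) (Lpe (f38713 IH) (Lpr_dt (K1.f38707 IH) (Lpe (f38724 IH) (Lpn (LP (LK LD1_c7 LD2_c56 LD3_c37)))))))))))))
theorem f60374 : Led Lsl_gf (LP (LK LD1_c6 LD2_c14 LD3_c25)) = (LP (LK LD1_c5 LD2_c46 LD3_c32)) :=
  Lgr Lrot76 (Lpr_af (K1.f60324 IH) (Lpe (K1.f60322 IH) (Lpr_gt (f59300 IH) (Lpn (LP (LK LD1_c5 LD2_c46 LD3_c32))))))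
theorem f210932 : Led Lsl_gt (LP (LK LD1_c4 LD2_c23 LD3_c42)) = (LP (LK LD1_c7 LD2_c56 LD3_c37)) :=
  Lgr Lrot112 (Lpe (K1.f16230 IH) (Lpr_et (K1.f16419 IH) (Lpr_gf (K2.f16452 IH) (Lpe (K2.f16461 IH) (Lpr_dt (K2.f60532 IH) (Lpe (K2.f60528 IH) (Lpe (K2.f56448 IH) (Lpr_gf (f60374 IH) (Lpe (f60380 IH) (Lpr_dt (f210919 IH) (Lpn (LP (LK LD1_c7 LD2_c56 LD3_c37)))))))))))))
theorem f210927 : Led Lsl_df (LP (LK LD1_c11 LD2_c23 LD3_c16)) = (LP (LK LD1_c7 LD2_c56 LD3_c37)) :=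
  Lgr Lrot38 (Lpr_dt (f210919 IH) (Lpn (LP (LK LD1_c7 LD2_c56 LD3_c37))))
theorem f227624 : Led Lsl_et (LP (LK LD1_c8 LD2_c51 LD3_c7)) = (LP (LK LD1_c16 LD2_c33 LD3_c1)) :=
  Lre_e IH (LK LD1_c8 LD2_c51 LD3_c7) (LK LD1_c16 LD2_c33 LD3_c1) Lrfl Lrfl
theorem f241149 : Led Lsl_gt (LP (LK LD1_c11 LD2_c23 LD3_c16)) = (LP (LK LD1_c8 LD2_c48 LD3_c35)) :=
  Lgr Lrot139 (Lpr_df (f210927 IH) (Lpe (f210932 IH) (Lpe (f38871 IH) (Lpr_dt (K9.f16374 IH) (Lpe (f101394 IH) (Lpe (f100993 IH) (Lpe (f237304 IH) (Lpr_gf (f241147 IH) (Lpe (f227624 IH) (Lpr_dt (f69626 IH) (Lpn (LP (LK LD1_c8 LD2_c48 LD3_c35)))))))))))))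
theorem f408125 : Led Lsl_ct (LP (LK LD1_c14 LD2_c59 LD3_c12)) = (LP (LK LD1_c8 LD2_c1 LD3_c61)) :=
  Lgr Lrot110 (Lpe (f39584 IH) (Lpe (K1.f38708 IH) (Lpe (f38724 IH) (Lpe (f210919 IH) (Lpr_gt (f241149 IH) (Lpe (f408082 IH) (Lpr_gt (f211196 IH) (Lpr_ct (f408118 IH) (Lpe (f30647 IH) (Lpn (LP (LK LD1_c8 LD2_c1 LD3_c61))))))))))))
theorem f408129 : Led Lsl_cf (LP (LK LD1_c14 LD2_c59 LD3_c12)) = (LP (LK LD1_c8 LD2_c1 LD3_c61)) :=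
  Lgr Lrot11 (Lpr_ct (f408125 IH) (Lpn (LP (LK LD1_c8 LD2_c1 LD3_c61))))
theorem f30071 : Led Lsl_dt (LP (LK LD1_c4 LD2_c0 LD3_c31)) = (LP (LK LD1_c1 LD2_c57 LD3_c14)) :=
  Lre_d IH (LK LD1_c4 LD2_c0 LD3_c31) (LK LD1_c1 LD2_c57 LD3_c14) Lrfl Lrfl
theorem f30627 : Led Lsl_gt (LP (LK LD1_c1 LD2_c57 LD3_c14)) = (LP (LK LD1_c4 LD2_c0 LD3_c55)) :=
  Lre_g IH (LK LD1_c1 LD2_c57 LD3_c14) (LK LD1_c4 LD2_c0 LD3_c55) Lrfl Lrfl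
theorem f16427 : Led Lsl_ct (LP (LK LD1_c8 LD2_c45 LD3_c10)) = (LP (LK LD1_c4 LD2_c23 LD3_c42)) :=
  Lre_c IH (LK LD1_c8 LD2_c45 LD3_c10) (LK LD1_c4 LD2_c23 LD3_c42) Lrfl Lrfl
theorem f444830 : Led Lsl_ct (LP (LK LD1_c4 LD2_c0 LD3_c55)) = (LP (LK LD1_c4 LD2_c26 LD3_c52)) :=
  Lgr Lrot152 (Lpe (f30627 IH) (Lpe (f30071 IH) (Lpr_gt (f30643 IH) (Lpe (f408129 IH) (Lpr_gt (f444826 IH) (Lpr_ct (f16427 IH) (Lpe (K1.f16230 IH) (Lpe (K1.f16229 IH) (Lpe (f16423 IH) (Lpn (LP (LK LD1_c4 LD2_c26 LD3_c52))))))))))))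
theorem f444835 : Led Lsl_cf (LP (LK LD1_c4 LD2_c0 LD3_c55)) = (LP (LK LD1_c4 LD2_c26 LD3_c52)) :=
  Lgr Lrot11 (Lpr_ct (f444830 IH) (Lpn (LP (LK LD1_c4 LD2_c26 LD3_c52))))
theorem f29959 : Led Lsl_af (LP (LK LD1_c4 LD2_c0 LD3_c13)) = (LP (LK LD1_c4 LD2_c0 LD3_c57)) :=
  Lgr Lrot117 (Lpr_dt (K1.f29952 IH) (Lpr_at (K1.f29947 IH) (Lpr_dt (f29931 IH) (Lpn (LP (LK LD1_c4 LD2_c0 LD3_c57))))))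
theorem f30052 : Led Lsl_ft (LP (LK LD1_c1 LD2_c57 LD3_c14)) = (LP (LK LD1_c4 LD2_c0 LD3_c57)) :=
  Lre_f IH (LK LD1_c1 LD2_c57 LD3_c14) (LK LD1_c4 LD2_c0 LD3_c57) Lrfl Lrfl
theorem f30628 : Led Lsl_gf (LP (LK LD1_c4 LD2_c0 LD3_c13)) = (LP (LK LD1_c4 LD2_c0 LD3_c55)) :=
  Lgr Lrot76 (Lpr_af (f29959 IH) (Lpe (f30052 IH) (Lpr_gt (f30627 IH) (Lpn (LP (LK LD1_c4 LD2_c0 LD3_c55))))))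
theorem f36849 : Led Lsl_ct (LP (LK LD1_c21 LD2_c11 LD3_c59)) = (LP (LK LD1_c12 LD2_c6 LD3_c1)) :=
  Lre_c IH (LK LD1_c21 LD2_c11 LD3_c59) (LK LD1_c12 LD2_c6 LD3_c1) Lrfl Lrfl
theorem f16540 : Led Lsl_ct (LP (LK LD1_c8 LD2_c51 LD3_c33)) = (LP (LK LD1_c16 LD2_c33 LD3_c46)) :=
  Lre_c IH (LK LD1_c8 LD2_c51 LD3_c33) (LK LD1_c16 LD2_c33 LD3_c46) Lrfl Lrfl
theorem f445128 : Led Lsl_gf (LP (LK LD1_c21 LD2_c11 LD3_c59)) = (LP (LK LD1_c16 LD2_c33 LD3_c46)) :=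
  Lgr Lrot104 (Lpr_ct (f36849 IH) (Lpe (K1.f36689 IH) (Lpr_cf (K1.f36817 IH) (Lpr_gf (f30628 IH) (Lpr_cf (f444835 IH) (Lpe (K1.f16422 IH) (Lpe (K1.f16214 IH) (Lpr_gt (f16537 IH) (Lpr_ct (f16540 IH) (Lpn (LP (LK LD1_c16 LD2_c33 LD3_c46))))))))))))
theorem f445131 : Led Lsl_gt (LP (LK LD1_c15 LD2_c8 LD3_c26)) = (LP (LK LD1_c16 LD2_c33 LD3_c46)) :=
  Lgr Lrot5 (Lpr_ft (K1.f30075 IH) (Lpe (K1.f36847 IH) (Lpr_gf (f445128 IH) (Lpn (LP (LK LD1_c16 LD2_c33 LD3_c46))))))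
theorem f30067 : Led Lsl_gt (LP (LK LD1_c15 LD2_c8 LD3_c25)) = (LP (LK LD1_c8 LD2_c2 LD3_c32)) :=
  Lre_g IH (LK LD1_c15 LD2_c8 LD3_c25) (LK LD1_c8 LD2_c2 LD3_c32) Lrfl Lrfl
theorem f29988 : Led Lsl_at (LP (LK LD1_c4 LD2_c0 LD3_c4)) = (LP (LK LD1_c4 LD2_c0 LD3_c31)) :=
  Lgr Lrot100 (Lpr_af (K1.f29967 IH) (Lpn (LP (LK LD1_c4 LD2_c0 LD3_c31))))
theorem f30141 : Led Lsl_ft (LP (LK LD1_c8 LD2_c1 LD3_c12)) = (LP (LK LD1_c4 LD2_c0 LD3_c4)) :=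
  Lre_f IH (LK LD1_c8 LD2_c1 LD3_c12) (LK LD1_c4 LD2_c0 LD3_c4) Lrfl Lrfl
theorem f30142 : Led Lsl_gt (LP (LK LD1_c8 LD2_c2 LD3_c0)) = (LP (LK LD1_c4 LD2_c0 LD3_c31)) :=
  Lre_g IH (LK LD1_c8 LD2_c2 LD3_c0) (LK LD1_c4 LD2_c0 LD3_c31) Lrfl Lrfl
theorem f30143 : Led Lsl_gt (LP (LK LD1_c8 LD2_c1 LD3_c12)) = (LP (LK LD1_c8 LD2_c2 LD3_c0)) :=
  Lgr Lrot5 (Lpr_ft (f30141 IH) (Lpr_at (f29988 IH) (Lpe (f30142 IH) (Lpn (LP (LK LD1_c8 LD2_c2 LD3_c0))))))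
theorem f30638 : Led Lsl_et (LP (LK LD1_c8 LD2_c2 LD3_c36)) = (LP (LK LD1_c4 LD2_c0 LD3_c55)) :=
  Lre_e IH (LK LD1_c8 LD2_c2 LD3_c36) (LK LD1_c4 LD2_c0 LD3_c55) Lrfl Lrfl
theorem f34477 : Led Lsl_gt (LP (LK LD1_c8 LD2_c3 LD3_c53)) = (LP (LK LD1_c4 LD2_c1 LD3_c37)) :=
  Lre_g IH (LK LD1_c8 LD2_c3 LD3_c53) (LK LD1_c4 LD2_c1 LD3_c37) Lrfl Lrfl
theorem f81510 : Led Lsl_dt (LP (LK LD1_c8 LD2_c2 LD3_c36)) = (LP (LK LD1_c8 LD2_c3 LD3_c53)) :=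
  Lgr Lrot136 (Lpr_et (f30638 IH) (Lpe (f30627 IH) (Lpe (f30099 IH) (Lpr_dt (K1.f29552 IH) (Lpr_gf (K1.f37324 IH) (Lpe (K1.f37330 IH) (Lpr_gf (K24.f80319 IH) (Lpe (K32.f80330 IH) (Lpr_dt (K32.f81135 IH) (Lpe (f34477 IH) (Lpn (LP (LK LD1_c8 LD2_c3 LD3_c53)))))))))))))
theorem f34476 : Led Lsl_ft (LP (LK LD1_c8 LD2_c5 LD3_c23)) = (LP (LK LD1_c4 LD2_c2 LD3_c24)) :=
  Lre_f IH (LK LD1_c8 LD2_c5 LD3_c23) (LK LD1_c4 LD2_c2 LD3_c24) Lrfl Lrfl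
theorem f34478 : Led Lsl_gf (LP (LK LD1_c8 LD2_c3 LD3_c53)) = (LP (LK LD1_c8 LD2_c5 LD3_c23)) :=
  Lgr Lrot47 (Lpr_gt (f34477 IH) (Lpr_af (K10.f34440 IH) (Lpe (f34476 IH) (Lpn (LP (LK LD1_c8 LD2_c5 LD3_c23))))))
theorem f81227 : Led Lsl_ft (LP (LK LD1_c3 LD2_c3 LD3_c61)) = (LP (LK LD1_c6 LD2_c14 LD3_c14)) :=
  Lre_f IH (LK LD1_c3 LD2_c3 LD3_c61) (LK LD1_c6 LD2_c14 LD3_c14) Lrfl Lrfl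
theorem f81228 : Led Lsl_dt (LP (LK LD1_c6 LD2_c14 LD3_c14)) = (LP (LK LD1_c8 LD2_c5 LD3_c23)) :=
  Lgr Lrot60 (Lpe (f81227 IH) (Lpr_df (K32.f81206 IH) (Lpe (f34476 IH) (Lpn (LP (LK LD1_c8 LD2_c5 LD3_c23))))))
theorem f70154 : Led Lsl_gt (LP (LK LD1_c3 LD2_c3 LD3_c50)) = (LP (LK LD1_c6 LD2_c13 LD3_c57)) :=
  Lre_g IH (LK LD1_c3 LD2_c3 LD3_c50) (LK LD1_c6 LD2_c13 LD3_c57) Lrfl Lrfl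
theorem f70155 : Led Lsl_gt (LP (LK LD1_c6 LD2_c13 LD3_c57)) = (LP (LK LD1_c8 LD2_c45 LD3_c32)) :=
  Lgr Lrot46 (Lpe (f70154 IH) (Lpr_ft (K2.f70150 IH) (Lpr_at (K2.f70139 IH) (Lpn (LP (LK LD1_c8 LD2_c45 LD3_c32))))))
theorem f70158 : Led Lsl_et (LP (LK LD1_c12 LD2_c6 LD3_c29)) = (LP (LK LD1_c6 LD2_c13 LD3_c57)) :=
  Lre_e IH (LK LD1_c12 LD2_c6 LD3_c29) (LK LD1_c6 LD2_c13 LD3_c57) Lrfl Lrfl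
theorem f81523 : Led Lsl_df (LP (LK LD1_c8 LD2_c2 LD3_c0)) = (LP (LK LD1_c12 LD2_c6 LD3_c29)) :=
  Lgr Lrot132 (Lpe (f30143 IH) (Lpe (K1.f29952 IH) (Lpr_gf (f30628 IH) (Lpe (f30638 IH) (Lpr_dt (f81510 IH) (Lpr_gf (f34478 IH) (Lpe (f81228 IH) (Lpr_et (K32.f81350 IH) (Lpe (f70155 IH) (Lpe (f70158 IH) (Lpn (LP (LK LD1_c12 LD2_c6 LD3_c29)))))))))))))
theorem f81525 : Led Lsl_dt (LP (LK LD1_c8 LD2_c2 LD3_c0)) = (LP (LK LD1_c12 LD2_c6 LD3_c29)) :=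
  Lgr Lrot42 (Lpr_df (f81523 IH) (Lpn (LP (LK LD1_c12 LD2_c6 LD3_c29))))
theorem f16223 : Led Lsl_gt (LP (LK LD1_c8 LD2_c51 LD3_c34)) = (LP (LK LD1_c4 LD2_c26 LD3_c54)) :=
  Lre_g IH (LK LD1_c8 LD2_c51 LD3_c34) (LK LD1_c4 LD2_c26 LD3_c54) Lrfl Lrfl
theorem f16224 : Led Lsl_gf (LP (LK LD1_c8 LD2_c51 LD3_c34)) = (LP (LK LD1_c8 LD2_c50 LD3_c60)) :=
  Lgr Lrot47 (Lpr_gt (f16223 IH) (Lpr_af (K1.f16200 IH) (Lpe (K1.f16220 IH) (Lpn (LP (LK LD1_c8 LD2_c50 LD3_c60))))))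
theorem f56354 : Led Lsl_gt (LP (LK LD1_c3 LD2_c9 LD3_c49)) = (LP (LK LD1_c6 LD2_c24 LD3_c21)) :=
  Lre_g IH (LK LD1_c3 LD2_c9 LD3_c49) (LK LD1_c6 LD2_c24 LD3_c21) Lrfl Lrfl
theorem f56496 : Led Lsl_gf (LP (LK LD1_c4 LD2_c39 LD3_c40)) = (LP (LK LD1_c6 LD2_c24 LD3_c21)) :=
  Lgr Lrot76 (Lpr_af (K1.f56359 IH) (Lpe (K2.f56351 IH) (Lpr_gt (f56354 IH) (Lpn (LP (LK LD1_c6 LD2_c24 LD3_c21))))))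
theorem f56503 : Led Lsl_et (LP (LK LD1_c12 LD2_c21 LD3_c55)) = (LP (LK LD1_c6 LD2_c24 LD3_c21)) :=
  Lre_e IH (LK LD1_c12 LD2_c21 LD3_c55) (LK LD1_c6 LD2_c24 LD3_c21) Lrfl Lrfl
theorem f443762 : Led Lsl_df (LP (LK LD1_c8 LD2_c51 LD3_c34)) = (LP (LK LD1_c12 LD2_c21 LD3_c55)) :=
  Lgr Lrot132 (Lpr_gf (f16224 IH) (Lpe (K1.f16345 IH) (Lpe (f16423 IH) (Lpe (f16445 IH) (Lpr_dt (f38638 IH) (Lpr_gf (f443760 IH) (Lpe (f60323 IH) (Lpe (K1.f60313 IH) (Lpr_gf (f56496 IH) (Lpe (f56503 IH) (Lpn (LP (LK LD1_c12 LD2_c21 LD3_c55)))))))))))))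
theorem f443805 : Led Lsl_dt (LP (LK LD1_c8 LD2_c51 LD3_c34)) = (LP (LK LD1_c12 LD2_c21 LD3_c55)) :=
  Lgr Lrot42 (Lpr_df (f443762 IH) (Lpn (LP (LK LD1_c12 LD2_c21 LD3_c55))))
theorem f444839 : Led Lsl_cf (LP (LK LD1_c12 LD2_c6 LD3_c29)) = (LP (LK LD1_c12 LD2_c21 LD3_c55)) :=
  Lgr Lrot14 (Lpe (f81525 IH) (Lpe (f30143 IH) (Lpe (K1.f29952 IH) (Lpr_gf (f30628 IH) (Lpr_ct (f444830 IH) (Lpr_gt (f16423 IH) (Lpr_dt (K1.f16345 IH) (Lpe (f16224 IH) (Lpr_dt (f443805 IH) (Lpn (LP (LK LD1_c12 LD2_c21 LD3_c55))))))))))))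
theorem f443808 : Led Lsl_et (LP (LK LD1_c6 LD2_c24 LD3_c21)) = (LP (LK LD1_c12 LD2_c21 LD3_c55)) :=
  Lre_e IH (LK LD1_c6 LD2_c24 LD3_c21) (LK LD1_c12 LD2_c21 LD3_c55) Lrfl Lrfl
theorem f444845 : Led Lsl_ct (LP (LK LD1_c6 LD2_c13 LD3_c57)) = (LP (LK LD1_c6 LD2_c24 LD3_c21)) :=
  Lgr Lrot15 (Lpe (f70158 IH) (Lpr_cf (f444839 IH) (Lpe (f443808 IH) (Lpn (LP (LK LD1_c6 LD2_c24 LD3_c21))))))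
theorem f70132 : Led Lsl_gt (LP (LK LD1_c12 LD2_c6 LD3_c33)) = (LP (LK LD1_c6 LD2_c13 LD3_c59)) :=
  Lre_g IH (LK LD1_c12 LD2_c6 LD3_c33) (LK LD1_c6 LD2_c13 LD3_c59) Lrfl Lrfl
theorem f70133 : Led Lsl_gf (LP (LK LD1_c12 LD2_c6 LD3_c33)) = (LP (LK LD1_c16 LD2_c23 LD3_c42)) :=
  Lgr Lrot47 (Lpr_gt (f70132 IH) (Lpr_af (K2.f70116 IH) (Lpe (K2.f69995 IH) (Lpn (LP (LK LD1_c16 LD2_c23 LD3_c42))))))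
theorem f69522 : Led Lsl_df (LP (LK LD1_c4 LD2_c26 LD3_c46)) = (LP (LK LD1_c8 LD2_c10 LD3_c43)) :=
  Lgr Lrot38 (Lpr_dt (K8.f69511 IH) (Lpn (LP (LK LD1_c8 LD2_c10 LD3_c43))))
theorem f69542 : Led Lsl_ct (LP (LK LD1_c4 LD2_c26 LD3_c46)) = (LP (LK LD1_c8 LD2_c51 LD3_c6)) :=
  Lre_c IH (LK LD1_c4 LD2_c26 LD3_c46) (LK LD1_c8 LD2_c51 LD3_c6) Lrfl Lrfl
theorem f444850 : Led Lsl_dt (LP (LK LD1_c12 LD2_c6 LD3_c33)) = (LP (LK LD1_c8 LD2_c51 LD3_c6)) :=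
  Lgr Lrot113 (Lpr_gf (f70133 IH) (Lpe (K10.f69989 IH) (Lpe (f70155 IH) (Lpr_ct (f444845 IH) (Lpe (f56496 IH) (Lpe (K1.f56140 IH) (Lpr_gt (f46720 IH) (Lpe (f69522 IH) (Lpr_ct (f69542 IH) (Lpn (LP (LK LD1_c8 LD2_c51 LD3_c6))))))))))))
theorem f444853 : Led Lsl_df (LP (LK LD1_c12 LD2_c6 LD3_c33)) = (LP (LK LD1_c8 LD2_c51 LD3_c6)) :=
  Lgr Lrot38 (Lpr_dt (f444850 IH) (Lpn (LP (LK LD1_c8 LD2_c51 LD3_c6))))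
theorem f36648 : Led Lsl_et (LP (LK LD1_c3 LD2_c3 LD3_c38)) = (LP (LK LD1_c1 LD2_c27 LD3_c47)) :=
  Lre_e IH (LK LD1_c3 LD2_c3 LD3_c38) (LK LD1_c1 LD2_c27 LD3_c47) Lrfl Lrfl
theorem f36650 : Led Lsl_ef (LP (LK LD1_c6 LD2_c13 LD3_c37)) = (LP (LK LD1_c4 LD2_c0 LD3_c13)) :=
  Lgr Lrot21 (Lpr_ft (K1.f36649 IH) (Lpr_et (f36648 IH) (Lpr_ft (K1.f36637 IH) (Lpr_et (K1.f30047 IH) (Lpr_ft (K1.f30100 IH) (Lpn (LP (LK LD1_c4 LD2_c0 LD3_c13))))))))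
theorem f444855 : Led Lsl_et (LP (LK LD1_c8 LD2_c51 LD3_c6)) = (LP (LK LD1_c4 LD2_c26 LD3_c44)) :=
  Lre_e IH (LK LD1_c8 LD2_c51 LD3_c6) (LK LD1_c4 LD2_c26 LD3_c44) Lrfl Lrfl
theorem f444897 : Led Lsl_gf (LP (LK LD1_c6 LD2_c13 LD3_c37)) = (LP (LK LD1_c4 LD2_c26 LD3_c44)) :=
  Lgr Lrot141 (Lpr_ef (f36650 IH) (Lpr_dt (K1.f29952 IH) (Lpr_gt (f30143 IH) (Lpr_df (f81523 IH) (Lpr_et (f70158 IH) (Lpr_gt (f70155 IH) (Lpr_dt (K10.f69989 IH) (Lpe (f70133 IH) (Lpr_df (f444853 IH) (Lpr_et (f444855 IH) (Lpn (LP (LK LD1_c4 LD2_c26 LD3_c44)))))))))))))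
theorem f36842 : Led Lsl_ct (LP (LK LD1_c6 LD2_c13 LD3_c37)) = (LP (LK LD1_c4 LD2_c0 LD3_c13)) :=
  Lgr Lrot59 (Lpr_cf (K1.f36817 IH) (Lpn (LP (LK LD1_c4 LD2_c0 LD3_c13))))
theorem f443772 : Led Lsl_ct (LP (LK LD1_c2 LD2_c10 LD3_c32)) = (LP (LK LD1_c4 LD2_c26 LD3_c44)) :=
  Lre_c IH (LK LD1_c2 LD2_c10 LD3_c32) (LK LD1_c4 LD2_c26 LD3_c44) Lrfl Lrfl
theorem f99336 : Led Lsl_ct (LP (LK LD1_c4 LD2_c23 LD3_c40)) = (LP (LK LD1_c8 LD2_c45 LD3_c12)) :=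
  Lre_c IH (LK LD1_c4 LD2_c23 LD3_c40) (LK LD1_c8 LD2_c45 LD3_c12) Lrfl Lrfl
theorem f444901 : Led Lsl_gf (LP (LK LD1_c15 LD2_c5 LD3_c58)) = (LP (LK LD1_c8 LD2_c45 LD3_c12)) :=
  Lgr Lrot104 (Lpr_ct (K1.f29945 IH) (Lpe (K1.f29952 IH) (Lpe (f36842 IH) (Lpr_gf (f444897 IH) (Lpe (f443772 IH) (Lpe (K8.f69509 IH) (Lpe (f16284 IH) (Lpr_gt (K4.f99339 IH) (Lpr_ct (f99336 IH) (Lpn (LP (LK LD1_c8 LD2_c45 LD3_c12))))))))))))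
theorem f29950 : Led Lsl_ft (LP (LK LD1_c8 LD2_c1 LD3_c60)) = (LP (LK LD1_c15 LD2_c7 LD3_c39)) :=
  Lre_f IH (LK LD1_c8 LD2_c1 LD3_c60) (LK LD1_c15 LD2_c7 LD3_c39) Lrfl Lrfl
theorem f444908 : Led Lsl_gt (LP (LK LD1_c8 LD2_c1 LD3_c60)) = (LP (LK LD1_c8 LD2_c45 LD3_c12)) :=
  Lgr Lrot5 (Lpr_ft (f29950 IH) (Lpe (K1.f29938 IH) (Lpr_gf (f444901 IH) (Lpn (LP (LK LD1_c8 LD2_c45 LD3_c12))))))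
theorem f29923 : Led Lsl_dt (LP (LK LD1_c8 LD2_c1 LD3_c60)) = (LP (LK LD1_c15 LD2_c7 LD3_c38)) :=
  Lre_d IH (LK LD1_c8 LD2_c1 LD3_c60) (LK LD1_c15 LD2_c7 LD3_c38) Lrfl Lrfl
theorem f99344 : Led Lsl_ct (LP (LK LD1_c2 LD2_c10 LD3_c33)) = (LP (LK LD1_c4 LD2_c26 LD3_c48)) :=
  Lre_c IH (LK LD1_c2 LD2_c10 LD3_c33) (LK LD1_c4 LD2_c26 LD3_c48) Lrfl Lrfl
theorem f29994 : Led Lsl_ct (LP (LK LD1_c8 LD2_c1 LD3_c60)) = (LP (LK LD1_c4 LD2_c0 LD3_c31)) :=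
  Lre_c IH (LK LD1_c8 LD2_c1 LD3_c60) (LK LD1_c4 LD2_c0 LD3_c31) Lrfl Lrfl
theorem f39910 : Led Lsl_ct (LP (LK LD1_c4 LD2_c23 LD3_c41)) = (LP (LK LD1_c8 LD2_c45 LD3_c16)) :=
  Lre_c IH (LK LD1_c4 LD2_c23 LD3_c41) (LK LD1_c8 LD2_c45 LD3_c16) Lrfl Lrfl
theorem f408064 : Led Lsl_gf (LP (LK LD1_c8 LD2_c1 LD3_c60)) = (LP (LK LD1_c8 LD2_c45 LD3_c16)) :=
  Lgr Lrot104 (Lpr_ct (f29994 IH) (Lpe (K1.f29995 IH) (Lpe (K1.f30056 IH) (Lpr_gf (K4.f99342 IH) (Lpe (f99344 IH) (Lpr_gf (f408062 IH) (Lpe (f38835 IH) (Lpr_gt (f39908 IH) (Lpr_ct (f39910 IH) (Lpn (LP (LK LD1_c8 LD2_c45 LD3_c16))))))))))))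
theorem f69624 : Led Lsl_dt (LP (LK LD1_c2 LD2_c10 LD3_c32)) = (LP (LK LD1_c4 LD2_c26 LD3_c45)) :=
  Lre_d IH (LK LD1_c2 LD2_c10 LD3_c32) (LK LD1_c4 LD2_c26 LD3_c45) Lrfl Lrfl
theorem f241122 : Led Lsl_ct (LP (LK LD1_c8 LD2_c51 LD3_c9)) = (LP (LK LD1_c4 LD2_c26 LD3_c45)) :=
  Lre_c IH (LK LD1_c8 LD2_c51 LD3_c9) (LK LD1_c4 LD2_c26 LD3_c45) Lrfl Lrfl
theorem f408147 : Led Lsl_dt (LP (LK LD1_c16 LD2_c33 LD3_c7)) = (LP (LK LD1_c8 LD2_c51 LD3_c9)) :=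
  Lre_d IH (LK LD1_c16 LD2_c33 LD3_c7) (LK LD1_c8 LD2_c51 LD3_c9) Lrfl Lrfl
theorem f408148 : Led Lsl_gt (LP (LK LD1_c15 LD2_c7 LD3_c38)) = (LP (LK LD1_c16 LD2_c33 LD3_c7)) :=
  Lgr Lrot49 (Lpe (f29923 IH) (Lpr_gf (f408064 IH) (Lpe (f39910 IH) (Lpr_gt (f38027 IH) (Lpr_dt (f16284 IH) (Lpr_gt (K8.f69509 IH) (Lpr_dt (f69624 IH) (Lpe (f241122 IH) (Lpe (f408147 IH) (Lpn (LP (LK LD1_c16 LD2_c33 LD3_c7))))))))))))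
theorem f99329 : Led Lsl_ct (LP (LK LD1_c8 LD2_c45 LD3_c12)) = (LP (LK LD1_c4 LD2_c23 LD3_c40)) :=
  Lre_c IH (LK LD1_c8 LD2_c45 LD3_c12) (LK LD1_c4 LD2_c23 LD3_c40) Lrfl Lrfl
theorem f205319 : Led Lsl_gt (LP (LK LD1_c12 LD2_c23 LD3_c52)) = (LP (LK LD1_c6 LD2_c25 LD3_c35)) :=
  Lre_g IH (LK LD1_c12 LD2_c23 LD3_c52) (LK LD1_c6 LD2_c25 LD3_c35) Lrfl Lrfl
theorem f407923 : Led Lsl_gt (LP (LK LD1_c11 LD2_c29 LD3_c18)) = (LP (LK LD1_c12 LD2_c23 LD3_c52)) :=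
  Lgr Lrot5 (Lpr_ft (K32.f239089 IH) (Lpr_at (K32.f407908 IH) (Lpe (f205319 IH) (Lpn (LP (LK LD1_c12 LD2_c23 LD3_c52))))))
theorem f407940 : Led Lsl_df (LP (LK LD1_c16 LD2_c21 LD3_c14)) = (LP (LK LD1_c12 LD2_c23 LD3_c53)) :=
  Lgr Lrot70 (Lpe (K32.f269595 IH) (Lpr_dt (K32.f180159 IH) (Lpr_et (K32.f303835 IH) (Lpe (K32.f36362 IH) (Lpr_et (K32.f407932 IH) (Lpn (LP (LK LD1_c12 LD2_c23 LD3_c53))))))))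
theorem f408012 : Led Lsl_dt (LP (LK LD1_c8 LD2_c43 LD3_c61)) = (LP (LK LD1_c6 LD2_c25 LD3_c35)) :=
  Lgr Lrot60 (Lpe (K32.f269599 IH) (Lpr_df (f407940 IH) (Lpe (K32.f407920 IH) (Lpn (LP (LK LD1_c6 LD2_c25 LD3_c35))))))
theorem f237709 : Led Lsl_et (LP (LK LD1_c1 LD2_c1 LD3_c45)) = (LP (LK LD1_c2 LD2_c9 LD3_c14)) :=
  Lre_e IH (LK LD1_c1 LD2_c1 LD3_c45) (LK LD1_c2 LD2_c9 LD3_c14) Lrfl Lrfl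
theorem f237710 : Led Lsl_et (LP (LK LD1_c8 LD2_c45 LD3_c14)) = (LP (LK LD1_c4 LD2_c23 LD3_c40)) :=
  Lre_e IH (LK LD1_c8 LD2_c45 LD3_c14) (LK LD1_c4 LD2_c23 LD3_c40) Lrfl Lrfl
theorem f408016 : Led Lsl_dt (LP (LK LD1_c8 LD2_c45 LD3_c14)) = (LP (LK LD1_c12 LD2_c23 LD3_c52)) :=
  Lgr Lrot136 (Lpr_et (f237710 IH) (Lpe (K4.f99339 IH) (Lpe (f237709 IH) (Lpr_dt (K1.f38928 IH) (Lpe (K13.f28951 IH) (Lpe (K13.f29618 IH) (Lpe (K13.f237705 IH) (Lpe (K32.f237704 IH) (Lpr_dt (f408012 IH) (Lpe (f205319 IH) (Lpn (LP (LK LD1_c12 LD2_c23 LD3_c52)))))))))))))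
theorem f408052 : Led Lsl_gt (LP (LK LD1_c4 LD2_c23 LD3_c40)) = (LP (LK LD1_c7 LD2_c56 LD3_c38)) :=
  Lgr Lrot131 (Lpe (f237710 IH) (Lpr_dt (f408016 IH) (Lpe (f407923 IH) (Lpr_df (K32.f239087 IH) (Lpr_gf (f408050 IH) (Lpe (f269619 IH) (Lpe (f269620 IH) (Lpr_gf (f101008 IH) (Lpe (f38876 IH) (Lpr_et (K1.f38852 IH) (Lpn (LP (LK LD1_c7 LD2_c56 LD3_c38)))))))))))))
theorem f38793 : Led Lsl_ct (LP (LK LD1_c7 LD2_c56 LD3_c38)) = (LP (LK LD1_c14 LD2_c59 LD3_c15)) :=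
  Lre_c IH (LK LD1_c7 LD2_c56 LD3_c38) (LK LD1_c14 LD2_c59 LD3_c15) Lrfl Lrfl
theorem f38775 : Led Lsl_ft (LP (LK LD1_c24 LD2_c46 LD3_c50)) = (LP (LK LD1_c14 LD2_c59 LD3_c14)) :=
  Lre_f IH (LK LD1_c24 LD2_c46 LD3_c50) (LK LD1_c14 LD2_c59 LD3_c14) Lrfl Lrfl
theorem f38776 : Led Lsl_cf (LP (LK LD1_c24 LD2_c46 LD3_c50)) = (LP (LK LD1_c16 LD2_c32 LD3_c34)) :=
  Lgr Lrot108 (Lpr_ft (f38775 IH) (Lpr_ct (K1.f38710 IH) (Lpr_ft (K1.f38767 IH) (Lpn (LP (LK LD1_c16 LD2_c32 LD3_c34))))))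
theorem f16274 : Led Lsl_gt (LP (LK LD1_c16 LD2_c23 LD3_c2)) = (LP (LK LD1_c26 LD2_c21 LD3_c4)) :=
  Lre_g IH (LK LD1_c16 LD2_c23 LD3_c2) (LK LD1_c26 LD2_c21 LD3_c4) Lrfl Lrfl
theorem f16502 : Led Lsl_gt (LP (LK LD1_c26 LD2_c21 LD3_c4)) = (LP (LK LD1_c16 LD2_c32 LD3_c34)) :=
  Lgr Lrot46 (Lpe (f16274 IH) (Lpe (K9.f16264 IH) (Lpr_at (K1.f16487 IH) (Lpn (LP (LK LD1_c16 LD2_c32 LD3_c34))))))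
theorem f444943 : Led Lsl_ct (LP (LK LD1_c16 LD2_c33 LD3_c7)) = (LP (LK LD1_c26 LD2_c21 LD3_c4)) :=
  Lgr Lrot152 (Lpe (f408148 IH) (Lpe (f29923 IH) (Lpr_gt (f444908 IH) (Lpr_ct (f99329 IH) (Lpr_gt (f408052 IH) (Lpr_ct (f38793 IH) (Lpe (f38817 IH) (Lpr_cf (f38776 IH) (Lpe (f16502 IH) (Lpn (LP (LK LD1_c26 LD2_c21 LD3_c4))))))))))))
theorem f444947 : Led Lsl_cf (LP (LK LD1_c16 LD2_c33 LD3_c7)) = (LP (LK LD1_c26 LD2_c21 LD3_c4)) :=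
  Lgr Lrot11 (Lpr_ct (f444943 IH) (Lpn (LP (LK LD1_c26 LD2_c21 LD3_c4))))
theorem f30072 : Led Lsl_ft (LP (LK LD1_c15 LD2_c7 LD3_c38)) = (LP (LK LD1_c24 LD2_c56 LD3_c31)) :=
  Lre_f IH (LK LD1_c15 LD2_c7 LD3_c38) (LK LD1_c24 LD2_c56 LD3_c31) Lrfl Lrfl
theorem f29935 : Led Lsl_af (LP (LK LD1_c24 LD2_c54 LD3_c4)) = (LP (LK LD1_c24 LD2_c56 LD3_c31)) :=
  Lgr Lrot0 (Lpr_at (K1.f29927 IH) (Lpn (LP (LK LD1_c24 LD2_c56 LD3_c31))))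
theorem f408159 : Led Lsl_gf (LP (LK LD1_c24 LD2_c54 LD3_c4)) = (LP (LK LD1_c16 LD2_c33 LD3_c7)) :=
  Lgr Lrot76 (Lpr_af (f29935 IH) (Lpe (f30072 IH) (Lpr_gt (f408148 IH) (Lpn (LP (LK LD1_c16 LD2_c33 LD3_c7))))))
theorem f16272 : Led Lsl_dt (LP (LK LD1_c16 LD2_c33 LD3_c31)) = (LP (LK LD1_c16 LD2_c23 LD3_c2)) :=
  Lgr Lrot60 (Lpe (K1.f16271 IH) (Lpe (K1.f16227 IH) (Lpr_ff (K9.f16264 IH) (Lpn (LP (LK LD1_c16 LD2_c23 LD3_c2))))))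
theorem f16210 : Led Lsl_ct (LP (LK LD1_c4 LD2_c26 LD3_c54)) = (LP (LK LD1_c8 LD2_c51 LD3_c35)) :=
  Lre_c IH (LK LD1_c4 LD2_c26 LD3_c54) (LK LD1_c8 LD2_c51 LD3_c35) Lrfl Lrfl
theorem f16212 : Led Lsl_at (LP (LK LD1_c8 LD2_c51 LD3_c35)) = (LP (LK LD1_c8 LD2_c50 LD3_c59)) :=
  Lgr Lrot107 (Lpe (f16210 IH) (Lpr_af (K1.f16200 IH) (Lpe (K1.f16211 IH) (Lpn (LP (LK LD1_c8 LD2_c50 LD3_c59))))))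
theorem f16571 : Led Lsl_gt (LP (LK LD1_c16 LD2_c32 LD3_c32)) = (LP (LK LD1_c8 LD2_c50 LD3_c59)) :=
  Lre_g IH (LK LD1_c16 LD2_c32 LD3_c32) (LK LD1_c8 LD2_c50 LD3_c59) Lrfl Lrfl
theorem f16572 : Led Lsl_gt (LP (LK LD1_c16 LD2_c33 LD3_c31)) = (LP (LK LD1_c16 LD2_c32 LD3_c32)) :=
  Lgr Lrot5 (Lpr_ft (K1.f16260 IH) (Lpr_at (f16212 IH) (Lpe (f16571 IH) (Lpn (LP (LK LD1_c16 LD2_c32 LD3_c32))))))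
theorem f444953 : Led Lsl_cf (LP (LK LD1_c15 LD2_c8 LD3_c25)) = (LP (LK LD1_c16 LD2_c32 LD3_c32)) :=
  Lgr Lrot169 (Lpr_gt (f30067 IH) (Lpr_ct (K1.f30066 IH) (Lpe (K1.f30059 IH) (Lpe (K1.f30060 IH) (Lpr_gf (f408159 IH) (Lpr_cf (f444947 IH) (Lpe (f16274 IH) (Lpe (f16272 IH) (Lpr_gt (f16572 IH) (Lpn (LP (LK LD1_c16 LD2_c32 LD3_c32))))))))))))
theorem f444956 : Led Lsl_ct (LP (LK LD1_c15 LD2_c8 LD3_c25)) = (LP (LK LD1_c16 LD2_c32 LD3_c32)) :=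
  Lgr Lrot59 (Lpr_cf (f444953 IH) (Lpn (LP (LK LD1_c16 LD2_c32 LD3_c32))))
theorem f16285 : Led Lsl_ct (LP (LK LD1_c1 LD2_c2 LD3_c18)) = (LP (LK LD1_c2 LD2_c10 LD3_c31)) :=
  Lre_c IH (LK LD1_c1 LD2_c2 LD3_c18) (LK LD1_c2 LD2_c10 LD3_c31) Lrfl Lrfl
theorem f36787 : Led Lsl_at (LP (LK LD1_c3 LD2_c3 LD3_c38)) = (LP (LK LD1_c4 LD2_c0 LD3_c54)) :=
  Lgr Lrot51 (Lpe (K1.f36786 IH) (Lpr_af (K1.f36777 IH) (Lpe (K4.f30070 IH) (Lpn (LP (LK LD1_c4 LD2_c0 LD3_c54))))))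
theorem f99346 : Led Lsl_gt (LP (LK LD1_c6 LD2_c13 LD3_c37)) = (LP (LK LD1_c4 LD2_c26 LD3_c48)) :=
  Lgr Lrot5 (Lpr_ft (K1.f36649 IH) (Lpr_at (f36787 IH) (Lpr_gf (K4.f99342 IH) (Lpn (LP (LK LD1_c4 LD2_c26 LD3_c48))))))
theorem f444991 : Led Lsl_gf (LP (LK LD1_c15 LD2_c8 LD3_c25)) = (LP (LK LD1_c12 LD2_c6 LD3_c1)) :=
  Lgr Lrot147 (Lpr_ct (f444956 IH) (Lpr_gt (f16571 IH) (Lpr_ct (K1.f16211 IH) (Lpe (f16215 IH) (Lpe (f16285 IH) (Lpe (K4.f99340 IH) (Lpe (K4.f99341 IH) (Lpe (f99346 IH) (Lpe (K1.f36685 IH) (Lpn (LP (LK LD1_c12 LD2_c6 LD3_c1))))))))))))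
theorem f38071 : Led Lsl_dt (LP (LK LD1_c4 LD2_c23 LD3_c41)) = (LP (LK LD1_c8 LD2_c45 LD3_c17)) :=
  Lre_d IH (LK LD1_c4 LD2_c23 LD3_c41) (LK LD1_c8 LD2_c45 LD3_c17) Lrfl Lrfl
theorem f38070 : Led Lsl_ct (LP (LK LD1_c16 LD2_c23 LD3_c21)) = (LP (LK LD1_c8 LD2_c45 LD3_c17)) :=
  Lre_c IH (LK LD1_c16 LD2_c23 LD3_c21) (LK LD1_c8 LD2_c45 LD3_c17) Lrfl Lrfl
theorem f444995 : Led Lsl_dt (LP (LK LD1_c15 LD2_c8 LD3_c25)) = (LP (LK LD1_c16 LD2_c23 LD3_c21)) :=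
  Lgr Lrot105 (Lpr_gf (f444991 IH) (Lpe (K1.f36689 IH) (Lpr_gf (f444897 IH) (Lpe (f443772 IH) (Lpe (f443766 IH) (Lpr_dt (f38794 IH) (Lpr_gt (f39908 IH) (Lpr_dt (f38071 IH) (Lpe (f38070 IH) (Lpn (LP (LK LD1_c16 LD2_c23 LD3_c21))))))))))))
theorem f16541 : Led Lsl_ct (LP (LK LD1_c16 LD2_c33 LD3_c46)) = (LP (LK LD1_c8 LD2_c51 LD3_c33)) :=
  Lre_c IH (LK LD1_c16 LD2_c33 LD3_c46) (LK LD1_c8 LD2_c51 LD3_c33) Lrfl Lrfl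
theorem f35710 : Led Lsl_ct (LP (LK LD1_c4 LD2_c26 LD3_c53)) = (LP (LK LD1_c4 LD2_c0 LD3_c56)) :=
  Lgr Lrot59 (Lpr_cf (f35702 IH) (Lpn (LP (LK LD1_c4 LD2_c0 LD3_c56))))
theorem f408120 : Led Lsl_cf (LP (LK LD1_c16 LD2_c27 LD3_c56)) = (LP (LK LD1_c15 LD2_c7 LD3_c41)) :=
  Lgr Lrot14 (Lpr_df (f408076 IH) (Lpe (f16537 IH) (Lpe (f16425 IH) (Lpe (f16598 IH) (Lpr_ct (f35710 IH) (Lpr_gt (f30053 IH) (Lpr_dt (K1.f29995 IH) (Lpr_gt (f30643 IH) (Lpr_dt (f30647 IH) (Lpn (LP (LK LD1_c15 LD2_c7 LD3_c41))))))))))))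
theorem f70157 : Led Lsl_dt (LP (LK LD1_c3 LD2_c3 LD3_c50)) = (LP (LK LD1_c6 LD2_c13 LD3_c59)) :=
  Lre_d IH (LK LD1_c3 LD2_c3 LD3_c50) (LK LD1_c6 LD2_c13 LD3_c59) Lrfl Lrfl
theorem f444895 : Led Lsl_gt (LP (LK LD1_c4 LD2_c0 LD3_c54)) = (LP (LK LD1_c4 LD2_c26 LD3_c44)) :=
  Lgr Lrot131 (Lpe (K1.f30712 IH) (Lpe (K4.f30709 IH) (Lpe (K1.f34741 IH) (Lpe (K1.f34744 IH) (Lpr_gf (K2.f80321 IH) (Lpe (K2.f70163 IH) (Lpr_dt (f70157 IH) (Lpe (f70132 IH) (Lpr_df (f444853 IH) (Lpr_et (f444855 IH) (Lpn (LP (LK LD1_c4 LD2_c26 LD3_c44)))))))))))))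
theorem f408174 : Led Lsl_ct (LP (LK LD1_c4 LD2_c26 LD3_c44)) = (LP (LK LD1_c2 LD2_c10 LD3_c32)) :=
  Lre_c IH (LK LD1_c4 LD2_c26 LD3_c44) (LK LD1_c2 LD2_c10 LD3_c32) Lrfl Lrfl
theorem f38715 : Led Lsl_ct (LP (LK LD1_c3 LD2_c58 LD3_c2)) = (LP (LK LD1_c4 LD2_c26 LD3_c51)) :=
  Lgr Lrot40 (Lpe (K1.f38714 IH) (Lpr_cf (K1.f38698 IH) (Lpe (f16289 IH) (Lpn (LP (LK LD1_c4 LD2_c26 LD3_c51))))))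
theorem f16388 : Led Lsl_at (LP (LK LD1_c26 LD2_c21 LD3_c15)) = (LP (LK LD1_c26 LD2_c29 LD3_c20)) :=
  Lgr Lrot100 (Lpr_af (K9.f16372 IH) (Lpn (LP (LK LD1_c26 LD2_c29 LD3_c20))))
theorem f16297 : Led Lsl_et (LP (LK LD1_c16 LD2_c33 LD3_c31)) = (LP (LK LD1_c26 LD2_c21 LD3_c15)) :=
  Lre_e IH (LK LD1_c16 LD2_c33 LD3_c31) (LK LD1_c26 LD2_c21 LD3_c15) Lrfl Lrfl
theorem f16395 : Led Lsl_af (LP (LK LD1_c16 LD2_c33 LD3_c31)) = (LP (LK LD1_c16 LD2_c32 LD3_c35)) :=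
  Lgr Lrot50 (Lpr_et (f16297 IH) (Lpr_at (f16388 IH) (Lpr_et (K9.f16394 IH) (Lpn (LP (LK LD1_c16 LD2_c32 LD3_c35))))))
theorem f16408 : Led Lsl_gt (LP (LK LD1_c8 LD2_c50 LD3_c59)) = (LP (LK LD1_c16 LD2_c32 LD3_c31)) :=
  Lre_g IH (LK LD1_c8 LD2_c50 LD3_c59) (LK LD1_c16 LD2_c32 LD3_c31) Lrfl Lrfl
theorem f16409 : Led Lsl_gf (LP (LK LD1_c16 LD2_c33 LD3_c31)) = (LP (LK LD1_c16 LD2_c32 LD3_c31)) :=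
  Lgr Lrot76 (Lpr_af (f16395 IH) (Lpe (K9.f16407 IH) (Lpr_gt (f16408 IH) (Lpn (LP (LK LD1_c16 LD2_c32 LD3_c31))))))
theorem f445032 : Led Lsl_ct (LP (LK LD1_c15 LD2_c8 LD3_c24)) = (LP (LK LD1_c16 LD2_c32 LD3_c31)) :=
  Lgr Lrot152 (Lpe (K4.f30750 IH) (Lpe (K4.f30070 IH) (Lpr_gt (f444895 IH) (Lpr_ct (f408174 IH) (Lpe (f443766 IH) (Lpr_ct (f38715 IH) (Lpe (K1.f16276 IH) (Lpe (K1.f16275 IH) (Lpr_gf (f16409 IH) (Lpn (LP (LK LD1_c16 LD2_c32 LD3_c31))))))))))))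
theorem f444856 : Led Lsl_dt (LP (LK LD1_c4 LD2_c26 LD3_c44)) = (LP (LK LD1_c8 LD2_c51 LD3_c5)) :=
  Lre_d IH (LK LD1_c4 LD2_c26 LD3_c44) (LK LD1_c8 LD2_c51 LD3_c5) Lrfl Lrfl
theorem f444950 : Led Lsl_ct (LP (LK LD1_c8 LD2_c51 LD3_c5)) = (LP (LK LD1_c16 LD2_c32 LD3_c57)) :=
  Lre_c IH (LK LD1_c8 LD2_c51 LD3_c5) (LK LD1_c16 LD2_c32 LD3_c57) Lrfl Lrfl
theorem f16298 : Led Lsl_gt (LP (LK LD1_c26 LD2_c21 LD3_c5)) = (LP (LK LD1_c16 LD2_c23 LD3_c2)) :=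
  Lre_g IH (LK LD1_c26 LD2_c21 LD3_c5) (LK LD1_c16 LD2_c23 LD3_c2) Lrfl Lrfl
theorem f38788 : Led Lsl_gf (LP (LK LD1_c26 LD2_c21 LD3_c5)) = (LP (LK LD1_c16 LD2_c32 LD3_c34)) :=
  Lgr Lrot47 (Lpr_gt (f16298 IH) (Lpe (K9.f38763 IH) (Lpr_ff (K1.f38780 IH) (Lpn (LP (LK LD1_c16 LD2_c32 LD3_c34))))))
theorem f444959 : Led Lsl_df (LP (LK LD1_c16 LD2_c32 LD3_c57)) = (LP (LK LD1_c26 LD2_c21 LD3_c5)) :=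
  Lgr Lrot84 (Lpe (f444950 IH) (Lpe (f444856 IH) (Lpe (f444895 IH) (Lpe (K1.f30057 IH) (Lpe (f30067 IH) (Lpr_cf (f444953 IH) (Lpr_gt (f16571 IH) (Lpr_dt (K13.f16287 IH) (Lpe (f38788 IH) (Lpn (LP (LK LD1_c26 LD2_c21 LD3_c5))))))))))))
theorem f444949 : Led Lsl_ct (LP (LK LD1_c16 LD2_c32 LD3_c57)) = (LP (LK LD1_c8 LD2_c51 LD3_c5)) :=
  Lre_c IH (LK LD1_c16 LD2_c32 LD3_c57) (LK LD1_c8 LD2_c51 LD3_c5) Lrfl Lrfl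
theorem f444884 : Led Lsl_dt (LP (LK LD1_c8 LD2_c51 LD3_c5)) = (LP (LK LD1_c4 LD2_c26 LD3_c44)) :=
  Lre_d IH (LK LD1_c8 LD2_c51 LD3_c5) (LK LD1_c4 LD2_c26 LD3_c44) Lrfl Lrfl
theorem f241124 : Led Lsl_ct (LP (LK LD1_c4 LD2_c26 LD3_c45)) = (LP (LK LD1_c8 LD2_c51 LD3_c9)) :=
  Lre_c IH (LK LD1_c4 LD2_c26 LD3_c45) (LK LD1_c8 LD2_c51 LD3_c9) Lrfl Lrfl
theorem f408156 : Led Lsl_dt (LP (LK LD1_c8 LD2_c51 LD3_c9)) = (LP (LK LD1_c16 LD2_c33 LD3_c7)) :=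
  Lre_d IH (LK LD1_c8 LD2_c51 LD3_c9) (LK LD1_c16 LD2_c33 LD3_c7) Lrfl Lrfl
theorem f101848 : Led Lsl_ct (LP (LK LD1_c8 LD2_c51 LD3_c21)) = (LP (LK LD1_c4 LD2_c26 LD3_c49)) :=
  Lre_c IH (LK LD1_c8 LD2_c51 LD3_c21) (LK LD1_c4 LD2_c26 LD3_c49) Lrfl Lrfl
theorem f227634 : Led Lsl_dt (LP (LK LD1_c16 LD2_c33 LD3_c26)) = (LP (LK LD1_c8 LD2_c51 LD3_c21)) :=
  Lre_d IH (LK LD1_c16 LD2_c33 LD3_c26) (LK LD1_c8 LD2_c51 LD3_c21) Lrfl Lrfl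
theorem f444910 : Led Lsl_gt (LP (LK LD1_c24 LD2_c54 LD3_c4)) = (LP (LK LD1_c16 LD2_c33 LD3_c26)) :=
  Lgr Lrot49 (Lpe (K1.f29937 IH) (Lpr_gf (f444901 IH) (Lpe (f99336 IH) (Lpr_gt (f408052 IH) (Lpr_dt (f38835 IH) (Lpe (f408062 IH) (Lpr_dt (f101849 IH) (Lpe (f101848 IH) (Lpe (f227634 IH) (Lpn (LP (LK LD1_c16 LD2_c33 LD3_c26))))))))))))
theorem f29694 : Led Lsl_dt (LP (LK LD1_c15 LD2_c5 LD3_c57)) = (LP (LK LD1_c8 LD2_c1 LD3_c9)) :=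
  Lre_d IH (LK LD1_c15 LD2_c5 LD3_c57) (LK LD1_c8 LD2_c1 LD3_c9) Lrfl Lrfl
theorem f29924 : Led Lsl_at (LP (LK LD1_c8 LD2_c1 LD3_c9)) = (LP (LK LD1_c8 LD2_c1 LD3_c60)) :=
  Lgr Lrot51 (Lpe (f29694 IH) (Lpr_af (K1.f29917 IH) (Lpe (f29923 IH) (Lpn (LP (LK LD1_c8 LD2_c1 LD3_c60))))))
theorem f29949 : Led Lsl_ft (LP (LK LD1_c15 LD2_c5 LD3_c58)) = (LP (LK LD1_c8 LD2_c1 LD3_c9)) :=
  Lre_f IH (LK LD1_c15 LD2_c5 LD3_c58) (LK LD1_c8 LD2_c1 LD3_c9) Lrfl Lrfl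
theorem f408145 : Led Lsl_gt (LP (LK LD1_c15 LD2_c5 LD3_c58)) = (LP (LK LD1_c8 LD2_c45 LD3_c16)) :=
  Lgr Lrot5 (Lpr_ft (f29949 IH) (Lpr_at (f29924 IH) (Lpr_gf (f408064 IH) (Lpn (LP (LK LD1_c8 LD2_c45 LD3_c16))))))
theorem f39913 : Led Lsl_ct (LP (LK LD1_c8 LD2_c45 LD3_c16)) = (LP (LK LD1_c4 LD2_c23 LD3_c41)) :=
  Lre_c IH (LK LD1_c8 LD2_c45 LD3_c16) (LK LD1_c4 LD2_c23 LD3_c41) Lrfl Lrfl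
theorem f444919 : Led Lsl_cf (LP (LK LD1_c26 LD2_c21 LD3_c5)) = (LP (LK LD1_c16 LD2_c33 LD3_c26)) :=
  Lgr Lrot169 (Lpr_gt (f16298 IH) (Lpr_ct (K1.f16245 IH) (Lpe (K1.f16290 IH) (Lpe (K1.f16328 IH) (Lpe (f38027 IH) (Lpe (f39913 IH) (Lpe (f408145 IH) (Lpe (K1.f30068 IH) (Lpr_gt (f444910 IH) (Lpn (LP (LK LD1_c16 LD2_c33 LD3_c26))))))))))))
theorem f227635 : Led Lsl_dt (LP (LK LD1_c8 LD2_c51 LD3_c21)) = (LP (LK LD1_c16 LD2_c33 LD3_c26)) :=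
  Lre_d IH (LK LD1_c8 LD2_c51 LD3_c21) (LK LD1_c16 LD2_c33 LD3_c26) Lrfl Lrfl
theorem f227633 : Led Lsl_ct (LP (LK LD1_c4 LD2_c26 LD3_c49)) = (LP (LK LD1_c8 LD2_c51 LD3_c21)) :=
  Lre_c IH (LK LD1_c4 LD2_c26 LD3_c49) (LK LD1_c8 LD2_c51 LD3_c21) Lrfl Lrfl
theorem f99348 : Led Lsl_dt (LP (LK LD1_c8 LD2_c51 LD3_c19)) = (LP (LK LD1_c4 LD2_c26 LD3_c48)) :=
  Lre_d IH (LK LD1_c8 LD2_c51 LD3_c19) (LK LD1_c4 LD2_c26 LD3_c48) Lrfl Lrfl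
theorem f101845 : Led Lsl_ct (LP (LK LD1_c16 LD2_c33 LD3_c23)) = (LP (LK LD1_c8 LD2_c51 LD3_c19)) :=
  Lre_c IH (LK LD1_c16 LD2_c33 LD3_c23) (LK LD1_c8 LD2_c51 LD3_c19) Lrfl Lrfl
theorem f444962 : Led Lsl_dt (LP (LK LD1_c26 LD2_c21 LD3_c4)) = (LP (LK LD1_c16 LD2_c33 LD3_c23)) :=
  Lgr Lrot173 (Lpe (f444943 IH) (Lpe (f408156 IH) (Lpe (f241124 IH) (Lpe (f69624 IH) (Lpe (f408174 IH) (Lpe (f444884 IH) (Lpe (f444949 IH) (Lpr_df (f444959 IH) (Lpr_cf (f444919 IH) (Lpe (f227635 IH) (Lpe (f227633 IH) (Lpe (f101849 IH) (Lpe (K4.f99341 IH) (Lpe (f99348 IH) (Lpe (f101845 IH) (Lpn (LP (LK LD1_c16 LD2_c33 LD3_c23))))))))))))))))))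
theorem f99349 : Led Lsl_dt (LP (LK LD1_c4 LD2_c26 LD3_c48)) = (LP (LK LD1_c8 LD2_c51 LD3_c19)) :=
  Lre_d IH (LK LD1_c4 LD2_c26 LD3_c48) (LK LD1_c8 LD2_c51 LD3_c19) Lrfl Lrfl
theorem f445098 : Led Lsl_gt (LP (LK LD1_c15 LD2_c8 LD3_c24)) = (LP (LK LD1_c12 LD2_c6 LD3_c1)) :=
  Lgr Lrot180 (Lpr_ct (f445032 IH) (Lpe (f16409 IH) (Lpr_dt (f16272 IH) (Lpr_gt (f16274 IH) (Lpr_dt (f444962 IH) (Lpr_ct (f101845 IH) (Lpe (f99349 IH) (Lpe (f99346 IH) (Lpe (K1.f36685 IH) (Lpn (LP (LK LD1_c12 LD2_c6 LD3_c1))))))))))))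
theorem f30054 : Led Lsl_gt (LP (LK LD1_c4 LD2_c0 LD3_c13)) = (LP (LK LD1_c4 LD2_c0 LD3_c56)) :=
  Lgr Lrot5 (Lpr_ft (K1.f30051 IH) (Lpr_at (K1.f29996 IH) (Lpe (f30053 IH) (Lpn (LP (LK LD1_c4 LD2_c0 LD3_c56))))))
theorem f239178 : Led Lsl_ef (LP (LK LD1_c2 LD2_c26 LD3_c3)) = (LP (LK LD1_c2 LD2_c9 LD3_c40)) :=
  Lgr Lrot28 (Lpr_ct (K11.f182326 IH) (Lpr_et (K13.f239164 IH) (Lpr_ct (K13.f239174 IH) (Lpn (LP (LK LD1_c2 LD2_c9 LD3_c40))))))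
theorem f239212 : Led Lsl_et (LP (LK LD1_c2 LD2_c26 LD3_c3)) = (LP (LK LD1_c2 LD2_c9 LD3_c40)) :=
  Lgr Lrot87 (Lpr_ef (f239178 IH) (Lpn (LP (LK LD1_c2 LD2_c9 LD3_c40))))
theorem f346806 : Led Lsl_ft (LP (LK LD1_c2 LD2_c9 LD3_c40)) = (LP (LK LD1_c1 LD2_c31 LD3_c10)) :=
  Lgr Lrot86 (Lpe (f239212 IH) (Lpe (K23.f346752 IH) (Lpr_ef (K12.f53107 IH) (Lpr_ff (K35.f346798 IH) (Lpr_ef (K13.f239315 IH) (Lpn (LP (LK LD1_c1 LD2_c31 LD3_c10))))))))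
theorem f210864 : Led Lsl_dt (LP (LK LD1_c4 LD2_c24 LD3_c28)) = (LP (LK LD1_c2 LD2_c9 LD3_c40)) :=
  Lre_d IH (LK LD1_c4 LD2_c24 LD3_c28) (LK LD1_c2 LD2_c9 LD3_c40) Lrfl Lrfl
theorem f198450 : Led Lsl_dt (LP (LK LD1_c1 LD2_c31 LD3_c10)) = (LP (LK LD1_c3 LD2_c10 LD3_c4)) :=
  Lre_d IH (LK LD1_c1 LD2_c31 LD3_c10) (LK LD1_c3 LD2_c10 LD3_c4) Lrfl Lrfl
theorem f346808 : Led Lsl_ff (LP (LK LD1_c4 LD2_c24 LD3_c28)) = (LP (LK LD1_c3 LD2_c10 LD3_c4)) :=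
  Lgr Lrot19 (Lpr_dt (f210864 IH) (Lpr_ft (f346806 IH) (Lpr_dt (f198450 IH) (Lpn (LP (LK LD1_c3 LD2_c10 LD3_c4))))))
theorem f346812 : Led Lsl_ft (LP (LK LD1_c4 LD2_c24 LD3_c28)) = (LP (LK LD1_c3 LD2_c10 LD3_c4)) :=
  Lgr Lrot48 (Lpr_ff (f346808 IH) (Lpn (LP (LK LD1_c3 LD2_c10 LD3_c4))))
theorem f239209 : Led Lsl_et (LP (LK LD1_c8 LD2_c46 LD3_c36)) = (LP (LK LD1_c4 LD2_c24 LD3_c28)) :=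
  Lre_e IH (LK LD1_c8 LD2_c46 LD3_c36) (LK LD1_c4 LD2_c24 LD3_c28) Lrfl Lrfl
theorem f239219 : Led Lsl_ft (LP (LK LD1_c16 LD2_c25 LD3_c13)) = (LP (LK LD1_c8 LD2_c46 LD3_c36)) :=
  Lre_f IH (LK LD1_c16 LD2_c25 LD3_c13) (LK LD1_c8 LD2_c46 LD3_c36) Lrfl Lrfl
theorem f205623 : Led Lsl_et (LP (LK LD1_c3 LD2_c10 LD3_c4)) = (LP (LK LD1_c6 LD2_c24 LD3_c57)) :=
  Lre_e IH (LK LD1_c3 LD2_c10 LD3_c4) (LK LD1_c6 LD2_c24 LD3_c57) Lrfl Lrfl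
theorem f239324 : Led Lsl_ft (LP (LK LD1_c6 LD2_c24 LD3_c57)) = (LP (LK LD1_c12 LD2_c22 LD3_c55)) :=
  Lre_f IH (LK LD1_c6 LD2_c24 LD3_c57) (LK LD1_c12 LD2_c22 LD3_c55) Lrfl Lrfl
theorem f346814 : Led Lsl_ef (LP (LK LD1_c16 LD2_c25 LD3_c13)) = (LP (LK LD1_c12 LD2_c22 LD3_c55)) :=
  Lgr Lrot21 (Lpr_ft (f239219 IH) (Lpr_et (f239209 IH) (Lpr_ft (f346812 IH) (Lpr_et (f205623 IH) (Lpr_ft (f239324 IH) (Lpn (LP (LK LD1_c12 LD2_c22 LD3_c55))))))))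
theorem f210863 : Led Lsl_dt (LP (LK LD1_c2 LD2_c9 LD3_c40)) = (LP (LK LD1_c4 LD2_c24 LD3_c28)) :=
  Lre_d IH (LK LD1_c2 LD2_c9 LD3_c40) (LK LD1_c4 LD2_c24 LD3_c28) Lrfl Lrfl
theorem f210865 : Led Lsl_et (LP (LK LD1_c4 LD2_c24 LD3_c28)) = (LP (LK LD1_c8 LD2_c46 LD3_c36)) :=
  Lre_e IH (LK LD1_c4 LD2_c24 LD3_c28) (LK LD1_c8 LD2_c46 LD3_c36) Lrfl Lrfl
theorem f239214 : Led Lsl_df (LP (LK LD1_c8 LD2_c43 LD3_c43)) = (LP (LK LD1_c8 LD2_c46 LD3_c36)) :=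
  Lgr Lrot70 (Lpr_et (K23.f237249 IH) (Lpr_dt (K13.f237239 IH) (Lpr_et (f239212 IH) (Lpr_dt (f210863 IH) (Lpr_et (f210865 IH) (Lpn (LP (LK LD1_c8 LD2_c46 LD3_c36))))))))
theorem f239218 : Led Lsl_ft (LP (LK LD1_c8 LD2_c43 LD3_c43)) = (LP (LK LD1_c16 LD2_c20 LD3_c46)) :=
  Lre_f IH (LK LD1_c8 LD2_c43 LD3_c43) (LK LD1_c16 LD2_c20 LD3_c46) Lrfl Lrfl
theorem f239220 : Led Lsl_dt (LP (LK LD1_c16 LD2_c20 LD3_c46)) = (LP (LK LD1_c16 LD2_c25 LD3_c13)) :=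
  Lgr Lrot60 (Lpe (f239218 IH) (Lpr_df (f239214 IH) (Lpe (f239219 IH) (Lpn (LP (LK LD1_c16 LD2_c25 LD3_c13))))))
theorem f239224 : Led Lsl_df (LP (LK LD1_c16 LD2_c20 LD3_c46)) = (LP (LK LD1_c16 LD2_c25 LD3_c13)) :=
  Lgr Lrot38 (Lpr_dt (f239220 IH) (Lpn (LP (LK LD1_c16 LD2_c25 LD3_c13))))
theorem f346743 : Led Lsl_ef (LP (LK LD1_c15 LD2_c23 LD3_c37)) = (LP (LK LD1_c16 LD2_c20 LD3_c46)) :=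
  Lgr Lrot88 (Lpr_et (K23.f346737 IH) (Lpn (LP (LK LD1_c16 LD2_c20 LD3_c46))))
theorem f231529 : Led Lsl_et (LP (LK LD1_c4 LD2_c20 LD3_c42)) = (LP (LK LD1_c8 LD2_c39 LD3_c4)) :=
  Lre_e IH (LK LD1_c4 LD2_c20 LD3_c42) (LK LD1_c8 LD2_c39 LD3_c4) Lrfl Lrfl
theorem f205622 : Led Lsl_dt (LP (LK LD1_c3 LD2_c10 LD3_c4)) = (LP (LK LD1_c1 LD2_c31 LD3_c10)) :=
  Lre_d IH (LK LD1_c3 LD2_c10 LD3_c4) (LK LD1_c1 LD2_c31 LD3_c10) Lrfl Lrfl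
theorem f239319 : Led Lsl_et (LP (LK LD1_c6 LD2_c24 LD3_c57)) = (LP (LK LD1_c3 LD2_c10 LD3_c4)) :=
  Lre_e IH (LK LD1_c6 LD2_c24 LD3_c57) (LK LD1_c3 LD2_c10 LD3_c4) Lrfl Lrfl
theorem f239320 : Led Lsl_dt (LP (LK LD1_c8 LD2_c39 LD3_c4)) = (LP (LK LD1_c6 LD2_c24 LD3_c57)) :=
  Lgr Lrot77 (Lpe (f231529 IH) (Lpe (K13.f239303 IH) (Lpr_ef (K13.f239315 IH) (Lpe (f205622 IH) (Lpe (f239319 IH) (Lpn (LP (LK LD1_c6 LD2_c24 LD3_c57))))))))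
theorem f231535 : Led Lsl_ft (LP (LK LD1_c16 LD2_c12 LD3_c14)) = (LP (LK LD1_c8 LD2_c39 LD3_c4)) :=
  Lre_f IH (LK LD1_c16 LD2_c12 LD3_c14) (LK LD1_c8 LD2_c39 LD3_c4) Lrfl Lrfl
theorem f239325 : Led Lsl_df (LP (LK LD1_c16 LD2_c12 LD3_c14)) = (LP (LK LD1_c12 LD2_c22 LD3_c55)) :=
  Lgr Lrot78 (Lpr_ft (f231535 IH) (Lpr_dt (f239320 IH) (Lpr_ft (f239324 IH) (Lpn (LP (LK LD1_c12 LD2_c22 LD3_c55))))))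
theorem f239346 : Led Lsl_dt (LP (LK LD1_c16 LD2_c12 LD3_c14)) = (LP (LK LD1_c12 LD2_c22 LD3_c55)) :=
  Lgr Lrot42 (Lpr_df (f239325 IH) (Lpn (LP (LK LD1_c12 LD2_c22 LD3_c55))))
theorem f225017 : Led Lsl_et (LP (LK LD1_c4 LD2_c20 LD3_c15)) = (LP (LK LD1_c8 LD2_c38 LD3_c24)) :=
  Lre_e IH (LK LD1_c4 LD2_c20 LD3_c15) (LK LD1_c8 LD2_c38 LD3_c24) Lrfl Lrfl
theorem f346791 : Led Lsl_ft (LP (LK LD1_c8 LD2_c38 LD3_c24)) = (LP (LK LD1_c16 LD2_c10 LD3_c51)) :=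
  Lre_f IH (LK LD1_c8 LD2_c38 LD3_c24) (LK LD1_c16 LD2_c10 LD3_c51) Lrfl Lrfl
theorem f36222 : Led Lsl_et (LP (LK LD1_c8 LD2_c39 LD3_c4)) = (LP (LK LD1_c4 LD2_c20 LD3_c42)) :=
  Lre_e IH (LK LD1_c8 LD2_c39 LD3_c4) (LK LD1_c4 LD2_c20 LD3_c42) Lrfl Lrfl
theorem f346792 : Led Lsl_et (LP (LK LD1_c16 LD2_c10 LD3_c51)) = (LP (LK LD1_c16 LD2_c12 LD3_c14)) :=
  Lgr Lrot69 (Lpe (f346791 IH) (Lpe (f225017 IH) (Lpr_ff (K23.f346787 IH) (Lpe (f36222 IH) (Lpe (f231535 IH) (Lpn (LP (LK LD1_c16 LD2_c12 LD3_c14))))))))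
theorem f346816 : Led Lsl_dt (LP (LK LD1_c15 LD2_c23 LD3_c37)) = (LP (LK LD1_c16 LD2_c10 LD3_c51)) :=
  Lgr Lrot77 (Lpr_ef (f346743 IH) (Lpr_df (f239224 IH) (Lpr_ef (f346814 IH) (Lpe (f239346 IH) (Lpe (f346792 IH) (Lpn (LP (LK LD1_c16 LD2_c10 LD3_c51))))))))
theorem f346820 : Led Lsl_df (LP (LK LD1_c15 LD2_c23 LD3_c37)) = (LP (LK LD1_c16 LD2_c10 LD3_c51)) :=
  Lgr Lrot38 (Lpr_dt (f346816 IH) (Lpn (LP (LK LD1_c16 LD2_c10 LD3_c51))))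
theorem f346825 : Led Lsl_dt (LP (LK LD1_c8 LD2_c10 LD3_c29)) = (LP (LK LD1_c8 LD2_c38 LD3_c24)) :=
  Lgr Lrot60 (Lpe (K23.f346730 IH) (Lpr_df (f346820 IH) (Lpe (f346791 IH) (Lpn (LP (LK LD1_c8 LD2_c38 LD3_c24))))))
theorem f337280 : Led Lsl_at (LP (LK LD1_c15 LD2_c23 LD3_c35)) = (LP (LK LD1_c16 LD2_c14 LD3_c60)) :=
  Lgr Lrot100 (Lpr_af (K23.f337278 IH) (Lpn (LP (LK LD1_c16 LD2_c14 LD3_c60))))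
theorem f272914 : Led Lsl_ct (LP (LK LD1_c8 LD2_c10 LD3_c29)) = (LP (LK LD1_c15 LD2_c23 LD3_c35)) :=
  Lre_c IH (LK LD1_c8 LD2_c10 LD3_c29) (LK LD1_c15 LD2_c23 LD3_c35) Lrfl Lrfl
theorem f346723 : Led Lsl_af (LP (LK LD1_c8 LD2_c10 LD3_c29)) = (LP (LK LD1_c8 LD2_c43 LD3_c44)) :=
  Lgr Lrot68 (Lpr_ct (f272914 IH) (Lpr_at (f337280 IH) (Lpr_ct (K23.f346721 IH) (Lpn (LP (LK LD1_c8 LD2_c43 LD3_c44))))))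
theorem f240653 : Led Lsl_et (LP (LK LD1_c4 LD2_c20 LD3_c41)) = (LP (LK LD1_c8 LD2_c39 LD3_c3)) :=
  Lre_e IH (LK LD1_c4 LD2_c20 LD3_c41) (LK LD1_c8 LD2_c39 LD3_c3) Lrfl Lrfl
theorem f240654 : Led Lsl_df (LP (LK LD1_c8 LD2_c43 LD3_c44)) = (LP (LK LD1_c8 LD2_c39 LD3_c3)) :=
  Lgr Lrot70 (Lpr_et (K23.f239104 IH) (Lpe (K13.f239101 IH) (Lpe (K13.f211228 IH) (Lpr_dt (K13.f240649 IH) (Lpr_et (f240653 IH) (Lpn (LP (LK LD1_c8 LD2_c39 LD3_c3))))))))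
theorem f346827 : Led Lsl_af (LP (LK LD1_c8 LD2_c39 LD3_c3)) = (LP (LK LD1_c8 LD2_c38 LD3_c24)) :=
  Lgr Lrot117 (Lpe (f240654 IH) (Lpe (f346723 IH) (Lpr_dt (f346825 IH) (Lpn (LP (LK LD1_c8 LD2_c38 LD3_c24))))))
theorem f240678 : Led Lsl_ft (LP (LK LD1_c8 LD2_c39 LD3_c3)) = (LP (LK LD1_c16 LD2_c12 LD3_c11)) :=
  Lre_f IH (LK LD1_c8 LD2_c39 LD3_c3) (LK LD1_c16 LD2_c12 LD3_c11) Lrfl Lrfl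
theorem f346800 : Led Lsl_ft (LP (LK LD1_c16 LD2_c10 LD3_c51)) = (LP (LK LD1_c8 LD2_c38 LD3_c24)) :=
  Lre_f IH (LK LD1_c16 LD2_c10 LD3_c51) (LK LD1_c8 LD2_c38 LD3_c24) Lrfl Lrfl
theorem f346867 : Led Lsl_at (LP (LK LD1_c16 LD2_c12 LD3_c11)) = (LP (LK LD1_c16 LD2_c10 LD3_c51)) :=
  Lgr Lrot66 (Lpe (f240678 IH) (Lpr_af (f346827 IH) (Lpe (f346800 IH) (Lpn (LP (LK LD1_c16 LD2_c10 LD3_c51))))))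
theorem f337290 : Led Lsl_ct (LP (LK LD1_c25 LD2_c15 LD3_c57)) = (LP (LK LD1_c15 LD2_c23 LD3_c37)) :=
  Lre_c IH (LK LD1_c25 LD2_c15 LD3_c57) (LK LD1_c15 LD2_c23 LD3_c37) Lrfl Lrfl
theorem f346716 : Led Lsl_at (LP (LK LD1_c15 LD2_c23 LD3_c37)) = (LP (LK LD1_c16 LD2_c20 LD3_c48)) :=
  Lgr Lrot107 (Lpe (f337290 IH) (Lpr_af (K23.f337287 IH) (Lpr_cf (K23.f346714 IH) (Lpn (LP (LK LD1_c16 LD2_c20 LD3_c48))))))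
theorem f346873 : Led Lsl_df (LP (LK LD1_c16 LD2_c12 LD3_c11)) = (LP (LK LD1_c16 LD2_c20 LD3_c48)) :=
  Lgr Lrot18 (Lpr_at (f346867 IH) (Lpe (f346820 IH) (Lpr_at (f346716 IH) (Lpn (LP (LK LD1_c16 LD2_c20 LD3_c48))))))
theorem f346878 : Led Lsl_dt (LP (LK LD1_c16 LD2_c12 LD3_c11)) = (LP (LK LD1_c16 LD2_c20 LD3_c48)) :=
  Lgr Lrot42 (Lpr_df (f346873 IH) (Lpn (LP (LK LD1_c16 LD2_c20 LD3_c48))))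
theorem f346880 : Led Lsl_df (LP (LK LD1_c8 LD2_c39 LD3_c3)) = (LP (LK LD1_c8 LD2_c43 LD3_c44)) :=
  Lgr Lrot78 (Lpr_ft (f240678 IH) (Lpr_dt (f346878 IH) (Lpr_ft (K23.f346678 IH) (Lpn (LP (LK LD1_c8 LD2_c43 LD3_c44))))))
theorem f240676 : Led Lsl_gt (LP (LK LD1_c16 LD2_c12 LD3_c10)) = (LP (LK LD1_c8 LD2_c39 LD3_c3)) :=
  Lre_g IH (LK LD1_c16 LD2_c12 LD3_c10) (LK LD1_c8 LD2_c39 LD3_c3) Lrfl Lrfl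
theorem f30198 : Led Lsl_et (LP (LK LD1_c4 LD2_c0 LD3_c32)) = (LP (LK LD1_c8 LD2_c2 LD3_c2)) :=
  Lre_e IH (LK LD1_c4 LD2_c0 LD3_c32) (LK LD1_c8 LD2_c2 LD3_c2) Lrfl Lrfl
theorem f30164 : Led Lsl_gt (LP (LK LD1_c8 LD2_c2 LD3_c2)) = (LP (LK LD1_c15 LD2_c7 LD3_c46)) :=
  Lre_g IH (LK LD1_c8 LD2_c2 LD3_c2) (LK LD1_c15 LD2_c7 LD3_c46) Lrfl Lrfl
theorem f30173 : Led Lsl_et (LP (LK LD1_c24 LD2_c56 LD3_c38)) = (LP (LK LD1_c15 LD2_c7 LD3_c46)) :=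
  Lre_e IH (LK LD1_c24 LD2_c56 LD3_c38) (LK LD1_c15 LD2_c7 LD3_c46) Lrfl Lrfl
theorem f346883 : Led Lsl_df (LP (LK LD1_c16 LD2_c12 LD3_c10)) = (LP (LK LD1_c24 LD2_c56 LD3_c38)) :=
  Lgr Lrot170 (Lpr_gt (f240676 IH) (Lpr_df (f346880 IH) (Lpr_et (K23.f239104 IH) (Lpr_gt (K13.f181783 IH) (Lpr_dt (K13.f181782 IH) (Lpe (K10.f193688 IH) (Lpe (K12.f29355 IH) (Lpr_et (f30198 IH) (Lpr_gt (f30164 IH) (Lpe (f30173 IH) (Lpn (LP (LK LD1_c24 LD2_c56 LD3_c38)))))))))))))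
theorem f346869 : Led Lsl_gf (LP (LK LD1_c16 LD2_c12 LD3_c10)) = (LP (LK LD1_c16 LD2_c10 LD3_c51)) :=
  Lgr Lrot47 (Lpr_gt (f240676 IH) (Lpr_af (f346827 IH) (Lpe (f346800 IH) (Lpn (LP (LK LD1_c16 LD2_c10 LD3_c51))))))
theorem f30165 : Led Lsl_gf (LP (LK LD1_c15 LD2_c6 LD3_c3)) = (LP (LK LD1_c15 LD2_c7 LD3_c46)) :=
  Lgr Lrot76 (Lpr_af (K12.f29963 IH) (Lpe (K12.f30161 IH) (Lpr_gt (f30164 IH) (Lpn (LP (LK LD1_c15 LD2_c7 LD3_c46))))))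
theorem f30086 : Led Lsl_dt (LP (LK LD1_c8 LD2_c2 LD3_c38)) = (LP (LK LD1_c4 LD2_c0 LD3_c56)) :=
  Lre_d IH (LK LD1_c8 LD2_c2 LD3_c38) (LK LD1_c4 LD2_c0 LD3_c56) Lrfl Lrfl
theorem f30087 : Led Lsl_et (LP (LK LD1_c8 LD2_c2 LD3_c38)) = (LP (LK LD1_c15 LD2_c8 LD3_c45)) :=
  Lre_e IH (LK LD1_c8 LD2_c2 LD3_c38) (LK LD1_c15 LD2_c8 LD3_c45) Lrfl Lrfl
theorem f346888 : Led Lsl_gf (LP (LK LD1_c15 LD2_c23 LD3_c37)) = (LP (LK LD1_c15 LD2_c8 LD3_c45)) :=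
  Lgr Lrot138 (Lpr_dt (f346816 IH) (Lpe (f346869 IH) (Lpr_df (f346883 IH) (Lpr_et (f30173 IH) (Lpe (f30165 IH) (Lpe (K1.f30090 IH) (Lpr_dt (K1.f30069 IH) (Lpr_gt (f30054 IH) (Lpe (f30086 IH) (Lpr_et (f30087 IH) (Lpn (LP (LK LD1_c15 LD2_c8 LD3_c45)))))))))))))
theorem f346892 : Led Lsl_gt (LP (LK LD1_c8 LD2_c43 LD3_c44)) = (LP (LK LD1_c15 LD2_c8 LD3_c45)) :=
  Lgr Lrot5 (Lpr_ft (K23.f346720 IH) (Lpe (K23.f346731 IH) (Lpr_gf (f346888 IH) (Lpn (LP (LK LD1_c15 LD2_c8 LD3_c45))))))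
theorem f36221 : Led Lsl_et (LP (LK LD1_c8 LD2_c39 LD3_c3)) = (LP (LK LD1_c4 LD2_c20 LD3_c41)) :=
  Lre_e IH (LK LD1_c8 LD2_c39 LD3_c3) (LK LD1_c4 LD2_c20 LD3_c41) Lrfl Lrfl
theorem f35776 : Led Lsl_et (LP (LK LD1_c2 LD2_c7 LD3_c49)) = (LP (LK LD1_c4 LD2_c20 LD3_c44)) :=
  Lre_e IH (LK LD1_c2 LD2_c7 LD3_c49) (LK LD1_c4 LD2_c20 LD3_c44) Lrfl Lrfl
theorem f35777 : Led Lsl_dt (LP (LK LD1_c4 LD2_c20 LD3_c44)) = (LP (LK LD1_c3 LD2_c57 LD3_c45)) :=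
  Lgr Lrot77 (Lpe (f35776 IH) (Lpe (K13.f31843 IH) (Lpr_ef (K1.f35772 IH) (Lpe (K1.f35583 IH) (Lpe (K1.f35749 IH) (Lpn (LP (LK LD1_c3 LD2_c57 LD3_c45))))))))
theorem f35690 : Led Lsl_gt (LP (LK LD1_c7 LD2_c56 LD3_c54)) = (LP (LK LD1_c3 LD2_c57 LD3_c45)) :=
  Lre_g IH (LK LD1_c7 LD2_c56 LD3_c54) (LK LD1_c3 LD2_c57 LD3_c45) Lrfl Lrfl
theorem f35691 : Led Lsl_dt (LP (LK LD1_c14 LD2_c59 LD3_c41)) = (LP (LK LD1_c7 LD2_c56 LD3_c54)) :=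
  Lre_d IH (LK LD1_c14 LD2_c59 LD3_c41) (LK LD1_c7 LD2_c56 LD3_c54) Lrfl Lrfl
theorem f35613 : Led Lsl_dt (LP (LK LD1_c24 LD2_c57 LD3_c42)) = (LP (LK LD1_c15 LD2_c8 LD3_c45)) :=
  Lre_d IH (LK LD1_c24 LD2_c57 LD3_c42) (LK LD1_c15 LD2_c8 LD3_c45) Lrfl Lrfl
theorem f35612 : Led Lsl_et (LP (LK LD1_c24 LD2_c57 LD3_c42)) = (LP (LK LD1_c15 LD2_c8 LD3_c47)) :=
  Lre_e IH (LK LD1_c24 LD2_c57 LD3_c42) (LK LD1_c15 LD2_c8 LD3_c47) Lrfl Lrfl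
theorem f346894 : Led Lsl_gf (LP (LK LD1_c14 LD2_c59 LD3_c41)) = (LP (LK LD1_c15 LD2_c8 LD3_c47)) :=
  Lgr Lrot138 (Lpr_dt (f35691 IH) (Lpr_gt (f35690 IH) (Lpe (f35777 IH) (Lpr_et (K0.f31969 IH) (Lpr_gt (K13.f31790 IH) (Lpe (f36221 IH) (Lpe (f240654 IH) (Lpr_gt (f346892 IH) (Lpe (f35613 IH) (Lpr_et (f35612 IH) (Lpn (LP (LK LD1_c15 LD2_c8 LD3_c47)))))))))))))
theorem f35692 : Led Lsl_dt (LP (LK LD1_c7 LD2_c56 LD3_c54)) = (LP (LK LD1_c14 LD2_c59 LD3_c41)) :=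
  Lre_d IH (LK LD1_c7 LD2_c56 LD3_c54) (LK LD1_c14 LD2_c59 LD3_c41) Lrfl Lrfl
theorem f346896 : Led Lsl_et (LP (LK LD1_c7 LD2_c56 LD3_c54)) = (LP (LK LD1_c14 LD2_c59 LD3_c42)) :=
  Lre_e IH (LK LD1_c7 LD2_c56 LD3_c54) (LK LD1_c14 LD2_c59 LD3_c42) Lrfl Lrfl
theorem f445102 : Led Lsl_gf (LP (LK LD1_c16 LD2_c23 LD3_c13)) = (LP (LK LD1_c14 LD2_c59 LD3_c42)) :=
  Lgr Lrot138 (Lpe (K4.f99326 IH) (Lpr_gt (f445098 IH) (Lpe (K1.f36689 IH) (Lpr_et (K1.f36663 IH) (Lpr_gt (f30054 IH) (Lpe (f30088 IH) (Lpr_dt (f30089 IH) (Lpe (f346894 IH) (Lpe (f35692 IH) (Lpr_et (f346896 IH) (Lpn (LP (LK LD1_c14 LD2_c59 LD3_c42)))))))))))))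
theorem f29954 : Led Lsl_af (LP (LK LD1_c8 LD2_c1 LD3_c12)) = (LP (LK LD1_c8 LD2_c2 LD3_c1)) :=
  Lgr Lrot0 (Lpr_at (K1.f29947 IH) (Lpn (LP (LK LD1_c8 LD2_c2 LD3_c1))))
theorem f30073 : Led Lsl_ft (LP (LK LD1_c4 LD2_c0 LD3_c31)) = (LP (LK LD1_c8 LD2_c2 LD3_c1)) :=
  Lre_f IH (LK LD1_c4 LD2_c0 LD3_c31) (LK LD1_c8 LD2_c2 LD3_c1) Lrfl Lrfl
theorem f30644 : Led Lsl_gf (LP (LK LD1_c8 LD2_c1 LD3_c12)) = (LP (LK LD1_c8 LD2_c1 LD3_c61)) :=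
  Lgr Lrot76 (Lpr_af (f29954 IH) (Lpe (f30073 IH) (Lpr_gt (f30643 IH) (Lpn (LP (LK LD1_c8 LD2_c1 LD3_c61))))))
theorem f30646 : Led Lsl_dt (LP (LK LD1_c15 LD2_c7 LD3_c41)) = (LP (LK LD1_c8 LD2_c1 LD3_c61)) :=
  Lre_d IH (LK LD1_c15 LD2_c7 LD3_c41) (LK LD1_c8 LD2_c1 LD3_c61) Lrfl Lrfl
theorem f36819 : Led Lsl_gt (LP (LK LD1_c3 LD2_c3 LD3_c38)) = (LP (LK LD1_c6 LD2_c13 LD3_c34)) :=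
  Lre_g IH (LK LD1_c3 LD2_c3 LD3_c38) (LK LD1_c6 LD2_c13 LD3_c34) Lrfl Lrfl
theorem f36820 : Led Lsl_dt (LP (LK LD1_c6 LD2_c13 LD3_c34)) = (LP (LK LD1_c12 LD2_c5 LD3_c55)) :=
  Lre_d IH (LK LD1_c6 LD2_c13 LD3_c34) (LK LD1_c12 LD2_c5 LD3_c55) Lrfl Lrfl
theorem f36821 : Led Lsl_gt (LP (LK LD1_c12 LD2_c5 LD3_c55)) = (LP (LK LD1_c21 LD2_c11 LD3_c45)) :=
  Lre_g IH (LK LD1_c12 LD2_c5 LD3_c55) (LK LD1_c21 LD2_c11 LD3_c45) Lrfl Lrfl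
theorem f36171 : Led Lsl_et (LP (LK LD1_c14 LD2_c59 LD3_c42)) = (LP (LK LD1_c7 LD2_c56 LD3_c54)) :=
  Lre_e IH (LK LD1_c14 LD2_c59 LD3_c42) (LK LD1_c7 LD2_c56 LD3_c54) Lrfl Lrfl
theorem f443127 : Led Lsl_df (LP (LK LD1_c21 LD2_c11 LD3_c45)) = (LP (LK LD1_c14 LD2_c59 LD3_c42)) :=
  Lgr Lrot132 (Lpe (f36821 IH) (Lpe (f36820 IH) (Lpe (f36819 IH) (Lpe (K1.f36661 IH) (Lpr_dt (K1.f36626 IH) (Lpr_gf (K2.f70214 IH) (Lpe (K1.f35583 IH) (Lpr_et (K2.f35602 IH) (Lpe (f35690 IH) (Lpe (f36171 IH) (Lpn (LP (LK LD1_c14 LD2_c59 LD3_c42)))))))))))))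
theorem f443129 : Led Lsl_dt (LP (LK LD1_c21 LD2_c11 LD3_c45)) = (LP (LK LD1_c14 LD2_c59 LD3_c42)) :=
  Lgr Lrot42 (Lpr_df (f443127 IH) (Lpn (LP (LK LD1_c14 LD2_c59 LD3_c42))))
theorem f30127 : Led Lsl_gt (LP (LK LD1_c8 LD2_c1 LD3_c22)) = (LP (LK LD1_c15 LD2_c6 LD3_c25)) :=
  Lre_g IH (LK LD1_c8 LD2_c1 LD3_c22) (LK LD1_c15 LD2_c6 LD3_c25) Lrfl Lrfl
theorem f35830 : Led Lsl_gt (LP (LK LD1_c4 LD2_c24 LD3_c55)) = (LP (LK LD1_c2 LD2_c9 LD3_c54)) :=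
  Lre_g IH (LK LD1_c4 LD2_c24 LD3_c55) (LK LD1_c2 LD2_c9 LD3_c54) Lrfl Lrfl
theorem f35831 : Led Lsl_et (LP (LK LD1_c8 LD2_c47 LD3_c21)) = (LP (LK LD1_c4 LD2_c24 LD3_c55)) :=
  Lre_e IH (LK LD1_c8 LD2_c47 LD3_c21) (LK LD1_c4 LD2_c24 LD3_c55) Lrfl Lrfl
theorem f35832 : Led Lsl_df (LP (LK LD1_c15 LD2_c6 LD3_c25)) = (LP (LK LD1_c8 LD2_c47 LD3_c21)) :=
  Lgr Lrot132 (Lpe (f30127 IH) (Lpe (f30126 IH) (Lpe (f30120 IH) (Lpe (K1.f30047 IH) (Lpr_dt (K2.f3053 IH) (Lpr_gf (K1.f35818 IH) (Lpe (K1.f35438 IH) (Lpr_et (K1.f35829 IH) (Lpe (f35830 IH) (Lpe (f35831 IH) (Lpn (LP (LK LD1_c8 LD2_c47 LD3_c21)))))))))))))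
theorem f35838 : Led Lsl_dt (LP (LK LD1_c15 LD2_c6 LD3_c25)) = (LP (LK LD1_c8 LD2_c47 LD3_c21)) :=
  Lgr Lrot42 (Lpr_df (f35832 IH) (Lpn (LP (LK LD1_c8 LD2_c47 LD3_c21))))
theorem f443142 : Led Lsl_ct (LP (LK LD1_c8 LD2_c47 LD3_c21)) = (LP (LK LD1_c14 LD2_c59 LD3_c42)) :=
  Lgr Lrot7 (Lpe (f35838 IH) (Lpe (f30127 IH) (Lpe (f30126 IH) (Lpe (f30120 IH) (Lpe (K1.f36805 IH) (Lpr_gt (f36819 IH) (Lpr_dt (f36820 IH) (Lpr_gt (f36821 IH) (Lpr_dt (f443129 IH) (Lpn (LP (LK LD1_c14 LD2_c59 LD3_c42))))))))))))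
theorem f445104 : Led Lsl_gf (LP (LK LD1_c15 LD2_c7 LD3_c41)) = (LP (LK LD1_c8 LD2_c47 LD3_c21)) :=
  Lgr Lrot144 (Lpr_dt (f30646 IH) (Lpe (f30644 IH) (Lpr_dt (K1.f30069 IH) (Lpe (f36842 IH) (Lpe (K1.f36685 IH) (Lpe (f445098 IH) (Lpr_df (K4.f99326 IH) (Lpr_gf (f445102 IH) (Lpe (f443142 IH) (Lpn (LP (LK LD1_c8 LD2_c47 LD3_c21))))))))))))
theorem f36815 : Led Lsl_cf (LP (LK LD1_c3 LD2_c3 LD3_c38)) = (LP (LK LD1_c1 LD2_c56 LD3_c53)) :=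
  Lgr Lrot11 (Lpr_ct (K1.f36805 IH) (Lpn (LP (LK LD1_c1 LD2_c56 LD3_c53))))
theorem f443145 : Led Lsl_cf (LP (LK LD1_c8 LD2_c47 LD3_c21)) = (LP (LK LD1_c14 LD2_c59 LD3_c42)) :=
  Lgr Lrot14 (Lpe (f35838 IH) (Lpe (f30127 IH) (Lpe (f30126 IH) (Lpe (f30120 IH) (Lpe (f36815 IH) (Lpr_gt (f36819 IH) (Lpr_dt (f36820 IH) (Lpr_gt (f36821 IH) (Lpr_dt (f443129 IH) (Lpn (LP (LK LD1_c14 LD2_c59 LD3_c42))))))))))))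
theorem f445137 : Led Lsl_gt (LP (LK LD1_c16 LD2_c23 LD3_c21)) = (LP (LK LD1_c14 LD2_c59 LD3_c42)) :=
  Lgr Lrot9 (Lpe (f444995 IH) (Lpr_gt (f30067 IH) (Lpr_ct (K1.f30066 IH) (Lpr_gt (f445131 IH) (Lpr_ct (f16541 IH) (Lpe (f408073 IH) (Lpr_cf (f408120 IH) (Lpr_gf (f445104 IH) (Lpr_cf (f443145 IH) (Lpn (LP (LK LD1_c14 LD2_c59 LD3_c42))))))))))))
theorem f205082 : Led Lsl_gt (LP (LK LD1_c10 LD2_c1 LD3_c16)) = (LP (LK LD1_c18 LD2_c18 LD3_c47)) :=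
  Lre_g IH (LK LD1_c10 LD2_c1 LD3_c16) (LK LD1_c18 LD2_c18 LD3_c47) Lrfl Lrfl
theorem f418162 : Led Lsl_et (LP (LK LD1_c14 LD2_c59 LD3_c41)) = (LP (LK LD1_c18 LD2_c18 LD3_c47)) :=
  Lgr Lrot122 (Lpr_dt (f35691 IH) (Lpr_gt (f35690 IH) (Lpe (f35777 IH) (Lpr_et (K0.f31969 IH) (Lpr_gt (K13.f31790 IH) (Lpr_dt (K23.f239246 IH) (Lpe (K12.f225636 IH) (Lpe (K13.f205070 IH) (Lpr_et (K36.f205089 IH) (Lpr_gt (f205082 IH) (Lpn (LP (LK LD1_c18 LD2_c18 LD3_c47)))))))))))))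
theorem f418165 : Led Lsl_ef (LP (LK LD1_c14 LD2_c59 LD3_c41)) = (LP (LK LD1_c18 LD2_c18 LD3_c47)) :=
  Lgr Lrot88 (Lpr_et (f418162 IH) (Lpn (LP (LK LD1_c18 LD2_c18 LD3_c47))))
theorem f205084 : Led Lsl_dt (LP (LK LD1_c27 LD2_c57 LD3_c26)) = (LP (LK LD1_c18 LD2_c18 LD3_c47)) :=
  Lre_d IH (LK LD1_c27 LD2_c57 LD3_c26) (LK LD1_c18 LD2_c18 LD3_c47) Lrfl Lrfl
theorem f443131 : Led Lsl_et (LP (LK LD1_c21 LD2_c11 LD3_c45)) = (LP (LK LD1_c27 LD2_c57 LD3_c26)) :=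
  Lgr Lrot71 (Lpr_df (f443127 IH) (Lpe (f346896 IH) (Lpe (f35691 IH) (Lpr_ef (f418165 IH) (Lpe (f205084 IH) (Lpn (LP (LK LD1_c27 LD2_c57 LD3_c26))))))))
theorem f443134 : Led Lsl_ef (LP (LK LD1_c21 LD2_c11 LD3_c45)) = (LP (LK LD1_c27 LD2_c57 LD3_c26)) :=
  Lgr Lrot88 (Lpr_et (f443131 IH) (Lpn (LP (LK LD1_c27 LD2_c57 LD3_c26))))
theorem f198466 : Led Lsl_et (LP (LK LD1_c12 LD2_c6 LD3_c2)) = (LP (LK LD1_c6 LD2_c13 LD3_c38)) :=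
  Lre_e IH (LK LD1_c12 LD2_c6 LD3_c2) (LK LD1_c6 LD2_c13 LD3_c38) Lrfl Lrfl
theorem f36822 : Led Lsl_gt (LP (LK LD1_c6 LD2_c13 LD3_c35)) = (LP (LK LD1_c3 LD2_c3 LD3_c38)) :=
  Lre_g IH (LK LD1_c6 LD2_c13 LD3_c35) (LK LD1_c3 LD2_c3 LD3_c38) Lrfl Lrfl
theorem f36824 : Led Lsl_dt (LP (LK LD1_c12 LD2_c5 LD3_c58)) = (LP (LK LD1_c6 LD2_c13 LD3_c35)) :=
  Lre_d IH (LK LD1_c12 LD2_c5 LD3_c58) (LK LD1_c6 LD2_c13 LD3_c35) Lrfl Lrfl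
theorem f443136 : Led Lsl_gt (LP (LK LD1_c21 LD2_c11 LD3_c45)) = (LP (LK LD1_c12 LD2_c5 LD3_c58)) :=
  Lgr Lrot137 (Lpr_ef (f443134 IH) (Lpr_dt (f205084 IH) (Lpe (f205082 IH) (Lpr_df (K36.f205072 IH) (Lpr_et (f198466 IH) (Lpe (K13.f198443 IH) (Lpe (K1.f36776 IH) (Lpr_dt (K1.f36786 IH) (Lpe (f36822 IH) (Lpe (f36824 IH) (Lpn (LP (LK LD1_c12 LD2_c5 LD3_c58)))))))))))))
theorem f59325 : Led Lsl_dt (LP (LK LD1_c7 LD2_c57 LD3_c0)) = (LP (LK LD1_c14 LD2_c59 LD3_c48)) :=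
  Lre_d IH (LK LD1_c7 LD2_c57 LD3_c0) (LK LD1_c14 LD2_c59 LD3_c48) Lrfl Lrfl
theorem f59327 : Led Lsl_gt (LP (LK LD1_c14 LD2_c59 LD3_c48)) = (LP (LK LD1_c15 LD2_c0 LD3_c34)) :=
  Lre_g IH (LK LD1_c14 LD2_c59 LD3_c48) (LK LD1_c15 LD2_c0 LD3_c34) Lrfl Lrfl
theorem f59328 : Led Lsl_dt (LP (LK LD1_c15 LD2_c0 LD3_c34)) = (LP (LK LD1_c7 LD2_c57 LD3_c30)) :=
  Lre_d IH (LK LD1_c15 LD2_c0 LD3_c34) (LK LD1_c7 LD2_c57 LD3_c30) Lrfl Lrfl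
theorem f37332 : Led Lsl_gt (LP (LK LD1_c2 LD2_c26 LD3_c51)) = (LP (LK LD1_c4 LD2_c58 LD3_c0)) :=
  Lre_g IH (LK LD1_c2 LD2_c26 LD3_c51) (LK LD1_c4 LD2_c58 LD3_c0) Lrfl Lrfl
theorem f37338 : Led Lsl_dt (LP (LK LD1_c4 LD2_c58 LD3_c0)) = (LP (LK LD1_c9 LD2_c46 LD3_c56)) :=
  Lre_d IH (LK LD1_c4 LD2_c58 LD3_c0) (LK LD1_c9 LD2_c46 LD3_c56) Lrfl Lrfl
theorem f37339 : Led Lsl_gt (LP (LK LD1_c9 LD2_c46 LD3_c56)) = (LP (LK LD1_c17 LD2_c56 LD3_c58)) :=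
  Lre_g IH (LK LD1_c9 LD2_c46 LD3_c56) (LK LD1_c17 LD2_c56 LD3_c58) Lrfl Lrfl
theorem f37337 : Led Lsl_et (LP (LK LD1_c12 LD2_c5 LD3_c59)) = (LP (LK LD1_c6 LD2_c13 LD3_c35)) :=
  Lre_e IH (LK LD1_c12 LD2_c5 LD3_c59) (LK LD1_c6 LD2_c13 LD3_c35) Lrfl Lrfl
theorem f37340 : Led Lsl_dt (LP (LK LD1_c12 LD2_c5 LD3_c59)) = (LP (LK LD1_c17 LD2_c56 LD3_c58)) :=
  Lgr Lrot56 (Lpr_et (f37337 IH) (Lpr_gt (f36822 IH) (Lpe (K1.f36661 IH) (Lpr_dt (K1.f36626 IH) (Lpr_gt (K1.f37320 IH) (Lpe (K1.f37330 IH) (Lpr_et (K1.f37331 IH) (Lpr_gt (f37332 IH) (Lpr_dt (f37338 IH) (Lpr_gt (f37339 IH) (Lpn (LP (LK LD1_c17 LD2_c56 LD3_c58)))))))))))))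
theorem f37347 : Led Lsl_df (LP (LK LD1_c12 LD2_c5 LD3_c59)) = (LP (LK LD1_c17 LD2_c56 LD3_c58)) :=
  Lgr Lrot38 (Lpr_dt (f37340 IH) (Lpn (LP (LK LD1_c17 LD2_c56 LD3_c58))))
theorem f70282 : Led Lsl_cf (LP (LK LD1_c7 LD2_c57 LD3_c30)) = (LP (LK LD1_c12 LD2_c5 LD3_c59)) :=
  Lgr Lrot14 (Lpe (f59328 IH) (Lpe (f59327 IH) (Lpe (f59325 IH) (Lpe (K11.f59262 IH) (Lpr_ct (K6.f70276 IH) (Lpr_gt (f37332 IH) (Lpr_dt (f37338 IH) (Lpr_gt (f37339 IH) (Lpe (f37347 IH) (Lpn (LP (LK LD1_c12 LD2_c5 LD3_c59))))))))))))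
theorem f70295 : Led Lsl_et (LP (LK LD1_c7 LD2_c57 LD3_c30)) = (LP (LK LD1_c3 LD2_c58 LD3_c1)) :=
  Lre_e IH (LK LD1_c7 LD2_c57 LD3_c30) (LK LD1_c3 LD2_c58 LD3_c1) Lrfl Lrfl
theorem f37349 : Led Lsl_et (LP (LK LD1_c6 LD2_c13 LD3_c35)) = (LP (LK LD1_c12 LD2_c5 LD3_c59)) :=
  Lre_e IH (LK LD1_c6 LD2_c13 LD3_c35) (LK LD1_c12 LD2_c5 LD3_c59) Lrfl Lrfl
theorem f70296 : Led Lsl_ct (LP (LK LD1_c3 LD2_c58 LD3_c1)) = (LP (LK LD1_c6 LD2_c13 LD3_c35)) :=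
  Lgr Lrot15 (Lpe (f70295 IH) (Lpr_cf (f70282 IH) (Lpe (f37349 IH) (Lpn (LP (LK LD1_c6 LD2_c13 LD3_c35))))))
theorem f70305 : Led Lsl_dt (LP (LK LD1_c7 LD2_c57 LD3_c29)) = (LP (LK LD1_c3 LD2_c58 LD3_c1)) :=
  Lre_d IH (LK LD1_c7 LD2_c57 LD3_c29) (LK LD1_c3 LD2_c58 LD3_c1) Lrfl Lrfl
theorem f38370 : Led Lsl_et (LP (LK LD1_c6 LD2_c9 LD3_c13)) = (LP (LK LD1_c3 LD2_c0 LD3_c60)) :=
  Lre_e IH (LK LD1_c6 LD2_c9 LD3_c13) (LK LD1_c3 LD2_c0 LD3_c60) Lrfl Lrfl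
theorem f35687 : Led Lsl_dt (LP (LK LD1_c6 LD2_c9 LD3_c13)) = (LP (LK LD1_c3 LD2_c0 LD3_c59)) :=
  Lre_d IH (LK LD1_c6 LD2_c9 LD3_c13) (LK LD1_c3 LD2_c0 LD3_c59) Lrfl Lrfl
theorem f35752 : Led Lsl_dt (LP (LK LD1_c11 LD2_c59 LD3_c32)) = (LP (LK LD1_c6 LD2_c9 LD3_c12)) :=
  Lre_d IH (LK LD1_c11 LD2_c59 LD3_c32) (LK LD1_c6 LD2_c9 LD3_c12) Lrfl Lrfl
theorem f37805 : Led Lsl_et (LP (LK LD1_c11 LD2_c59 LD3_c32)) = (LP (LK LD1_c21 LD2_c4 LD3_c15)) :=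
  Lre_e IH (LK LD1_c11 LD2_c59 LD3_c32) (LK LD1_c21 LD2_c4 LD3_c15) Lrfl Lrfl
theorem f197752 : Led Lsl_dt (LP (LK LD1_c7 LD2_c56 LD3_c31)) = (LP (LK LD1_c14 LD2_c59 LD3_c1)) :=
  Lre_d IH (LK LD1_c7 LD2_c56 LD3_c31) (LK LD1_c14 LD2_c59 LD3_c1) Lrfl Lrfl
theorem f210746 : Led Lsl_ef (LP (LK LD1_c8 LD2_c1 LD3_c2)) = (LP (LK LD1_c14 LD2_c59 LD3_c1)) :=
  Lgr Lrot73 (Lpr_dt (K18.f210745 IH) (Lpr_et (K13.f210744 IH) (Lpr_dt (K12.f210732 IH) (Lpr_et (K15.f197784 IH) (Lpr_dt (f197752 IH) (Lpn (LP (LK LD1_c14 LD2_c59 LD3_c1))))))))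
theorem f210750 : Led Lsl_et (LP (LK LD1_c8 LD2_c1 LD3_c2)) = (LP (LK LD1_c14 LD2_c59 LD3_c1)) :=
  Lgr Lrot87 (Lpr_ef (f210746 IH) (Lpn (LP (LK LD1_c14 LD2_c59 LD3_c1))))
theorem f227565 : Led Lsl_gf (LP (LK LD1_c21 LD2_c4 LD3_c15)) = (LP (LK LD1_c14 LD2_c59 LD3_c1)) :=
  Lgr Lrot141 (Lpe (f37805 IH) (Lpr_dt (f35752 IH) (Lpr_gt (K1.f35694 IH) (Lpe (f35687 IH) (Lpr_et (f38370 IH) (Lpr_gt (K10.f35559 IH) (Lpr_dt (K10.f198079 IH) (Lpr_gt (K12.f227561 IH) (Lpe (K18.f210745 IH) (Lpr_et (f210750 IH) (Lpn (LP (LK LD1_c14 LD2_c59 LD3_c1)))))))))))))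
theorem f37788 : Led Lsl_et (LP (LK LD1_c6 LD2_c9 LD3_c12)) = (LP (LK LD1_c11 LD2_c59 LD3_c33)) :=
  Lre_e IH (LK LD1_c6 LD2_c9 LD3_c12) (LK LD1_c11 LD2_c59 LD3_c33) Lrfl Lrfl
theorem f37789 : Led Lsl_et (LP (LK LD1_c21 LD2_c4 LD3_c15)) = (LP (LK LD1_c11 LD2_c59 LD3_c32)) :=
  Lre_e IH (LK LD1_c21 LD2_c4 LD3_c15) (LK LD1_c11 LD2_c59 LD3_c32) Lrfl Lrfl
theorem f37790 : Led Lsl_et (LP (LK LD1_c15 LD2_c0 LD3_c24)) = (LP (LK LD1_c24 LD2_c47 LD3_c45)) :=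
  Lre_e IH (LK LD1_c15 LD2_c0 LD3_c24) (LK LD1_c24 LD2_c47 LD3_c45) Lrfl Lrfl
theorem f37791 : Led Lsl_df (LP (LK LD1_c21 LD2_c4 LD3_c15)) = (LP (LK LD1_c24 LD2_c47 LD3_c45)) :=
  Lgr Lrot70 (Lpr_et (f37789 IH) (Lpr_dt (f35752 IH) (Lpr_et (f37788 IH) (Lpr_dt (K1.f37783 IH) (Lpr_et (f37790 IH) (Lpn (LP (LK LD1_c24 LD2_c47 LD3_c45))))))))
theorem f37803 : Led Lsl_et (LP (LK LD1_c24 LD2_c47 LD3_c45)) = (LP (LK LD1_c15 LD2_c0 LD3_c24)) :=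
  Lre_e IH (LK LD1_c24 LD2_c47 LD3_c45) (LK LD1_c15 LD2_c0 LD3_c24) Lrfl Lrfl
theorem f193558 : Led Lsl_et (LP (LK LD1_c3 LD2_c57 LD3_c35)) = (LP (LK LD1_c1 LD2_c55 LD3_c32)) :=
  Lre_e IH (LK LD1_c3 LD2_c57 LD3_c35) (LK LD1_c1 LD2_c55 LD3_c32) Lrfl Lrfl
theorem f38723 : Led Lsl_dt (LP (LK LD1_c3 LD2_c57 LD3_c35)) = (LP (LK LD1_c1 LD2_c55 LD3_c46)) :=
  Lre_d IH (LK LD1_c3 LD2_c57 LD3_c35) (LK LD1_c1 LD2_c55 LD3_c46) Lrfl Lrfl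
theorem f38734 : Led Lsl_gt (LP (LK LD1_c3 LD2_c58 LD3_c1)) = (LP (LK LD1_c1 LD2_c55 LD3_c46)) :=
  Lre_g IH (LK LD1_c3 LD2_c58 LD3_c1) (LK LD1_c1 LD2_c55 LD3_c46) Lrfl Lrfl
theorem f227567 : Led Lsl_gt (LP (LK LD1_c15 LD2_c0 LD3_c24)) = (LP (LK LD1_c7 LD2_c57 LD3_c29)) :=
  Lgr Lrot137 (Lpe (f37803 IH) (Lpe (f37791 IH) (Lpr_gf (f227565 IH) (Lpe (f197752 IH) (Lpr_et (K15.f197740 IH) (Lpe (K12.f37779 IH) (Lpe (f193558 IH) (Lpr_dt (f38723 IH) (Lpe (f38734 IH) (Lpe (f70305 IH) (Lpn (LP (LK LD1_c7 LD2_c57 LD3_c29)))))))))))))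
theorem f445139 : Led Lsl_gt (LP (LK LD1_c8 LD2_c45 LD3_c17)) = (LP (LK LD1_c11 LD2_c59 LD3_c33)) :=
  Lgr Lrot94 (Lpe (f38070 IH) (Lpr_gt (f445137 IH) (Lpe (f443127 IH) (Lpr_gt (f443136 IH) (Lpr_dt (f36824 IH) (Lpe (f70296 IH) (Lpe (f70305 IH) (Lpe (f227567 IH) (Lpe (K1.f37783 IH) (Lpn (LP (LK LD1_c11 LD2_c59 LD3_c33))))))))))))
theorem f38830 : Led Lsl_gt (LP (LK LD1_c4 LD2_c23 LD3_c39)) = (LP (LK LD1_c8 LD2_c45 LD3_c7)) :=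
  Lre_g IH (LK LD1_c4 LD2_c23 LD3_c39) (LK LD1_c8 LD2_c45 LD3_c7) Lrfl Lrfl
theorem f237414 : Led Lsl_gt (LP (LK LD1_c8 LD2_c42 LD3_c50)) = (LP (LK LD1_c16 LD2_c19 LD3_c20)) :=
  Lre_g IH (LK LD1_c8 LD2_c42 LD3_c50) (LK LD1_c16 LD2_c19 LD3_c20) Lrfl Lrfl
theorem f407845 : Led Lsl_gt (LP (LK LD1_c16 LD2_c19 LD3_c20)) = (LP (LK LD1_c16 LD2_c21 LD3_c14)) :=
  Lgr Lrot46 (Lpe (f237414 IH) (Lpr_ft (K32.f239068 IH) (Lpr_at (K32.f407839 IH) (Lpn (LP (LK LD1_c16 LD2_c21 LD3_c14))))))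
theorem f237418 : Led Lsl_et (LP (LK LD1_c26 LD2_c17 LD3_c11)) = (LP (LK LD1_c16 LD2_c19 LD3_c20)) :=
  Lre_e IH (LK LD1_c26 LD2_c17 LD3_c11) (LK LD1_c16 LD2_c19 LD3_c20) Lrfl Lrfl
theorem f100997 : Led Lsl_gt (LP (LK LD1_c21 LD2_c10 LD3_c58)) = (LP (LK LD1_c12 LD2_c5 LD3_c19)) :=
  Lre_g IH (LK LD1_c21 LD2_c10 LD3_c58) (LK LD1_c12 LD2_c5 LD3_c19) Lrfl Lrfl
theorem f237419 : Led Lsl_dt (LP (LK LD1_c26 LD2_c17 LD3_c11)) = (LP (LK LD1_c21 LD2_c10 LD3_c58)) :=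
  Lgr Lrot136 (Lpr_et (f237418 IH) (Lpe (f237414 IH) (Lpe (K32.f210344 IH) (Lpr_dt (K13.f210337 IH) (Lpr_gf (K13.f237407 IH) (Lpe (K13.f201465 IH) (Lpr_gf (K13.f201470 IH) (Lpe (f39821 IH) (Lpe (K9.f100976 IH) (Lpe (f100997 IH) (Lpn (LP (LK LD1_c21 LD2_c10 LD3_c58)))))))))))))
theorem f16397 : Led Lsl_ft (LP (LK LD1_c16 LD2_c23 LD3_c30)) = (LP (LK LD1_c26 LD2_c21 LD3_c15)) :=
  Lre_f IH (LK LD1_c16 LD2_c23 LD3_c30) (LK LD1_c26 LD2_c21 LD3_c15) Lrfl Lrfl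
theorem f42947 : Led Lsl_at (LP (LK LD1_c16 LD2_c34 LD3_c25)) = (LP (LK LD1_c16 LD2_c23 LD3_c30)) :=
  Lgr Lrot66 (Lpr_ff (K9.f42942 IH) (Lpe (f16388 IH) (Lpe (f16397 IH) (Lpn (LP (LK LD1_c16 LD2_c23 LD3_c30))))))
theorem f39330 : Led Lsl_ct (LP (LK LD1_c16 LD2_c23 LD3_c30)) = (LP (LK LD1_c8 LD2_c45 LD3_c22)) :=
  Lre_c IH (LK LD1_c16 LD2_c23 LD3_c30) (LK LD1_c8 LD2_c45 LD3_c22) Lrfl Lrfl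
theorem f100998 : Led Lsl_af (LP (LK LD1_c12 LD2_c5 LD3_c19)) = (LP (LK LD1_c8 LD2_c45 LD3_c22)) :=
  Lgr Lrot68 (Lpr_ct (K9.f100987 IH) (Lpr_at (f42947 IH) (Lpr_ct (f39330 IH) (Lpn (LP (LK LD1_c8 LD2_c45 LD3_c22))))))
theorem f16413 : Led Lsl_ft (LP (LK LD1_c16 LD2_c23 LD3_c23)) = (LP (LK LD1_c8 LD2_c45 LD3_c22)) :=
  Lre_f IH (LK LD1_c16 LD2_c23 LD3_c23) (LK LD1_c8 LD2_c45 LD3_c22) Lrfl Lrfl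
theorem f101391 : Led Lsl_gf (LP (LK LD1_c21 LD2_c10 LD3_c58)) = (LP (LK LD1_c16 LD2_c23 LD3_c23)) :=
  Lgr Lrot47 (Lpr_gt (f100997 IH) (Lpr_af (f100998 IH) (Lpe (f16413 IH) (Lpn (LP (LK LD1_c16 LD2_c23 LD3_c23))))))
theorem f164918 : Led Lsl_gt (LP (LK LD1_c10 LD2_c1 LD3_c36)) = (LP (LK LD1_c5 LD2_c5 LD3_c16)) :=
  Lre_g IH (LK LD1_c10 LD2_c1 LD3_c36) (LK LD1_c5 LD2_c5 LD3_c16) Lrfl Lrfl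
theorem f303946 : Led Lsl_gt (LP (LK LD1_c16 LD2_c10 LD3_c28)) = (LP (LK LD1_c10 LD2_c1 LD3_c36)) :=
  Lgr Lrot5 (Lpr_ft (K32.f180158 IH) (Lpr_at (f303934 IH) (Lpe (f164918 IH) (Lpn (LP (LK LD1_c10 LD2_c1 LD3_c36))))))
theorem f164919 : Led Lsl_dt (LP (LK LD1_c18 LD2_c19 LD3_c25)) = (LP (LK LD1_c10 LD2_c1 LD3_c36)) :=
  Lre_d IH (LK LD1_c18 LD2_c19 LD3_c25) (LK LD1_c10 LD2_c1 LD3_c36) Lrfl Lrfl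
theorem f39213 : Led Lsl_gt (LP (LK LD1_c7 LD2_c56 LD3_c39)) = (LP (LK LD1_c14 LD2_c59 LD3_c23)) :=
  Lre_g IH (LK LD1_c7 LD2_c56 LD3_c39) (LK LD1_c14 LD2_c59 LD3_c23) Lrfl Lrfl
theorem f164905 : Led Lsl_dt (LP (LK LD1_c5 LD2_c37 LD3_c10)) = (LP (LK LD1_c5 LD2_c5 LD3_c16)) :=
  Lgr Lrot42 (Lpr_df (K32.f164890 IH) (Lpn (LP (LK LD1_c5 LD2_c5 LD3_c16))))
theorem f236576 : Led Lsl_ef (LP (LK LD1_c14 LD2_c59 LD3_c23)) = (LP (LK LD1_c18 LD2_c19 LD3_c25)) :=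
  Lgr Lrot17 (Lpe (f39213 IH) (Lpe (K1.f38902 IH) (Lpr_dt (K1.f38918 IH) (Lpr_gf (K13.f39203 IH) (Lpe (K13.f39205 IH) (Lpr_gf (K13.f236506 IH) (Lpe (K32.f164907 IH) (Lpr_dt (f164905 IH) (Lpe (f164918 IH) (Lpe (f164919 IH) (Lpn (LP (LK LD1_c18 LD2_c19 LD3_c25)))))))))))))
theorem f407847 : Led Lsl_gf (LP (LK LD1_c8 LD2_c45 LD3_c19)) = (LP (LK LD1_c14 LD2_c59 LD3_c23)) :=
  Lgr Lrot138 (Lpr_dt (K9.f16374 IH) (Lpe (f101391 IH) (Lpe (f237419 IH) (Lpr_et (f237418 IH) (Lpr_gt (f407845 IH) (Lpe (f269597 IH) (Lpr_dt (K32.f180159 IH) (Lpr_gt (f303946 IH) (Lpe (f164919 IH) (Lpe (f236576 IH) (Lpn (LP (LK LD1_c14 LD2_c59 LD3_c23)))))))))))))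
theorem f164920 : Led Lsl_gt (LP (LK LD1_c5 LD2_c37 LD3_c10)) = (LP (LK LD1_c11 LD2_c6 LD3_c14)) :=
  Lre_g IH (LK LD1_c5 LD2_c37 LD3_c10) (LK LD1_c11 LD2_c6 LD3_c14) Lrfl Lrfl
theorem f304006 : Led Lsl_gf (LP (LK LD1_c16 LD2_c8 LD3_c38)) = (LP (LK LD1_c11 LD2_c6 LD3_c14)) :=
  Lgr Lrot76 (Lpr_af (f304002 IH) (Lpe (K32.f164911 IH) (Lpr_gt (f164920 IH) (Lpn (LP (LK LD1_c11 LD2_c6 LD3_c14))))))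
theorem f164951 : Led Lsl_et (LP (LK LD1_c2 LD2_c44 LD3_c29)) = (LP (LK LD1_c5 LD2_c37 LD3_c10)) :=
  Lre_e IH (LK LD1_c2 LD2_c44 LD3_c29) (LK LD1_c5 LD2_c37 LD3_c10) Lrfl Lrfl
theorem f236510 : Led Lsl_et (LP (LK LD1_c7 LD2_c57 LD3_c29)) = (LP (LK LD1_c11 LD2_c6 LD3_c14)) :=
  Lgr Lrot122 (Lpr_dt (f70305 IH) (Lpr_gt (f38734 IH) (Lpe (f38723 IH) (Lpr_et (f193558 IH) (Lpr_gt (K12.f37779 IH) (Lpe (K12.f193667 IH) (Lpr_gt (K13.f236497 IH) (Lpe (K13.f164908 IH) (Lpr_et (f164951 IH) (Lpr_gt (f164920 IH) (Lpn (LP (LK LD1_c11 LD2_c6 LD3_c14)))))))))))))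
theorem f407849 : Led Lsl_gt (LP (LK LD1_c2 LD2_c10 LD3_c34)) = (LP (LK LD1_c3 LD2_c58 LD3_c1)) :=
  Lgr Lrot112 (Lpe (f16428 IH) (Lpr_et (K1.f38853 IH) (Lpr_gf (f407847 IH) (Lpr_ef (f236576 IH) (Lpr_dt (f164919 IH) (Lpe (f303946 IH) (Lpe (K32.f180159 IH) (Lpr_gf (f304006 IH) (Lpe (f236510 IH) (Lpr_dt (f70305 IH) (Lpn (LP (LK LD1_c3 LD2_c58 LD3_c1)))))))))))))
theorem f16353 : Led Lsl_gt (LP (LK LD1_c4 LD2_c26 LD3_c41)) = (LP (LK LD1_c8 LD2_c50 LD3_c57)) :=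
  Lre_g IH (LK LD1_c4 LD2_c26 LD3_c41) (LK LD1_c8 LD2_c50 LD3_c57) Lrfl Lrfl
theorem f16354 : Led Lsl_gf (LP (LK LD1_c8 LD2_c51 LD3_c26)) = (LP (LK LD1_c8 LD2_c50 LD3_c57)) :=
  Lgr Lrot76 (Lpr_af (K1.f16334 IH) (Lpe (K1.f16333 IH) (Lpr_gt (f16353 IH) (Lpn (LP (LK LD1_c8 LD2_c50 LD3_c57))))))
theorem f16357 : Led Lsl_dt (LP (LK LD1_c16 LD2_c32 LD3_c27)) = (LP (LK LD1_c8 LD2_c50 LD3_c57)) :=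
  Lre_d IH (LK LD1_c16 LD2_c32 LD3_c27) (LK LD1_c8 LD2_c50 LD3_c57) Lrfl Lrfl
theorem f70294 : Led Lsl_dt (LP (LK LD1_c7 LD2_c57 LD3_c30)) = (LP (LK LD1_c15 LD2_c0 LD3_c34)) :=
  Lre_d IH (LK LD1_c7 LD2_c57 LD3_c30) (LK LD1_c15 LD2_c0 LD3_c34) Lrfl Lrfl
theorem f197765 : Led Lsl_gt (LP (LK LD1_c14 LD2_c59 LD3_c0)) = (LP (LK LD1_c7 LD2_c56 LD3_c31)) :=
  Lre_g IH (LK LD1_c14 LD2_c59 LD3_c0) (LK LD1_c7 LD2_c56 LD3_c31) Lrfl Lrfl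
theorem f227569 : Led Lsl_et (LP (LK LD1_c24 LD2_c46 LD3_c33)) = (LP (LK LD1_c14 LD2_c59 LD3_c0)) :=
  Lre_e IH (LK LD1_c24 LD2_c46 LD3_c33) (LK LD1_c14 LD2_c59 LD3_c0) Lrfl Lrfl
theorem f164921 : Led Lsl_dt (LP (LK LD1_c11 LD2_c6 LD3_c14)) = (LP (LK LD1_c19 LD2_c59 LD3_c43)) :=
  Lre_d IH (LK LD1_c11 LD2_c6 LD3_c14) (LK LD1_c19 LD2_c59 LD3_c43) Lrfl Lrfl
theorem f236514 : Led Lsl_gt (LP (LK LD1_c19 LD2_c59 LD3_c43)) = (LP (LK LD1_c29 LD2_c14 LD3_c32)) :=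
  Lre_g IH (LK LD1_c19 LD2_c59 LD3_c43) (LK LD1_c29 LD2_c14 LD3_c32) Lrfl Lrfl
theorem f236515 : Led Lsl_dt (LP (LK LD1_c24 LD2_c46 LD3_c33)) = (LP (LK LD1_c29 LD2_c14 LD3_c32)) :=
  Lgr Lrot56 (Lpr_et (f227569 IH) (Lpr_gt (f197765 IH) (Lpe (K15.f197784 IH) (Lpe (K12.f193667 IH) (Lpr_gt (K13.f236497 IH) (Lpe (K13.f164908 IH) (Lpr_et (f164951 IH) (Lpr_gt (f164920 IH) (Lpr_dt (f164921 IH) (Lpr_gt (f236514 IH) (Lpn (LP (LK LD1_c29 LD2_c14 LD3_c32)))))))))))))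
theorem f236521 : Led Lsl_ef (LP (LK LD1_c7 LD2_c57 LD3_c29)) = (LP (LK LD1_c11 LD2_c6 LD3_c14)) :=
  Lgr Lrot17 (Lpe (f227567 IH) (Lpe (f37803 IH) (Lpe (f37791 IH) (Lpr_gf (f227565 IH) (Lpe (f197752 IH) (Lpe (f197765 IH) (Lpe (f227569 IH) (Lpr_dt (f236515 IH) (Lpe (f236514 IH) (Lpe (f164921 IH) (Lpn (LP (LK LD1_c11 LD2_c6 LD3_c14)))))))))))))
theorem f70319 : Led Lsl_et (LP (LK LD1_c3 LD2_c58 LD3_c1)) = (LP (LK LD1_c7 LD2_c57 LD3_c30)) :=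
  Lre_e IH (LK LD1_c3 LD2_c58 LD3_c1) (LK LD1_c7 LD2_c57 LD3_c30) Lrfl Lrfl
theorem f164930 : Led Lsl_dt (LP (LK LD1_c19 LD2_c59 LD3_c43)) = (LP (LK LD1_c11 LD2_c6 LD3_c14)) :=
  Lre_d IH (LK LD1_c19 LD2_c59 LD3_c43) (LK LD1_c11 LD2_c6 LD3_c14) Lrfl Lrfl
theorem f236530 : Led Lsl_et (LP (LK LD1_c15 LD2_c0 LD3_c34)) = (LP (LK LD1_c19 LD2_c59 LD3_c43)) :=
  Lgr Lrot71 (Lpe (f70294 IH) (Lpe (f70319 IH) (Lpe (f70305 IH) (Lpr_ef (f236521 IH) (Lpe (f164930 IH) (Lpn (LP (LK LD1_c19 LD2_c59 LD3_c43))))))))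
theorem f236536 : Led Lsl_ef (LP (LK LD1_c15 LD2_c0 LD3_c34)) = (LP (LK LD1_c19 LD2_c59 LD3_c43)) :=
  Lgr Lrot88 (Lpr_et (f236530 IH) (Lpn (LP (LK LD1_c19 LD2_c59 LD3_c43))))
theorem f164932 : Led Lsl_et (LP (LK LD1_c5 LD2_c5 LD3_c16)) = (LP (LK LD1_c2 LD2_c29 LD3_c56)) :=
  Lre_e IH (LK LD1_c5 LD2_c5 LD3_c16) (LK LD1_c2 LD2_c29 LD3_c56) Lrfl Lrfl
theorem f38681 : Led Lsl_dt (LP (LK LD1_c14 LD2_c59 LD3_c50)) = (LP (LK LD1_c7 LD2_c57 LD3_c1)) :=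
  Lre_d IH (LK LD1_c14 LD2_c59 LD3_c50) (LK LD1_c7 LD2_c57 LD3_c1) Lrfl Lrfl
theorem f236542 : Led Lsl_gt (LP (LK LD1_c15 LD2_c0 LD3_c34)) = (LP (LK LD1_c14 LD2_c59 LD3_c50)) :=
  Lgr Lrot137 (Lpr_ef (f236536 IH) (Lpr_dt (f164930 IH) (Lpe (f164920 IH) (Lpr_df (K32.f164890 IH) (Lpr_et (f164932 IH) (Lpr_gf (K11.f201347 IH) (Lpe (K13.f201360 IH) (Lpr_dt (K6.f59373 IH) (Lpe (K1.f38633 IH) (Lpe (f38681 IH) (Lpn (LP (LK LD1_c14 LD2_c59 LD3_c50)))))))))))))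
theorem f38684 : Led Lsl_dt (LP (LK LD1_c7 LD2_c57 LD3_c1)) = (LP (LK LD1_c14 LD2_c59 LD3_c50)) :=
  Lre_d IH (LK LD1_c7 LD2_c57 LD3_c1) (LK LD1_c14 LD2_c59 LD3_c50) Lrfl Lrfl
theorem f38680 : Led Lsl_et (LP (LK LD1_c7 LD2_c57 LD3_c1)) = (LP (LK LD1_c14 LD2_c59 LD3_c51)) :=
  Lre_e IH (LK LD1_c7 LD2_c57 LD3_c1) (LK LD1_c14 LD2_c59 LD3_c51) Lrfl Lrfl
theorem f407860 : Led Lsl_gf (LP (LK LD1_c16 LD2_c32 LD3_c27)) = (LP (LK LD1_c14 LD2_c59 LD3_c51)) :=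
  Lgr Lrot138 (Lpr_dt (f16357 IH) (Lpe (f16354 IH) (Lpe (K2.f16281 IH) (Lpr_et (K2.f16363 IH) (Lpr_gt (f407849 IH) (Lpe (f70295 IH) (Lpr_dt (f70294 IH) (Lpr_gt (f236542 IH) (Lpe (f38684 IH) (Lpr_et (f38680 IH) (Lpn (LP (LK LD1_c14 LD2_c59 LD3_c51)))))))))))))
theorem f16359 : Led Lsl_dt (LP (LK LD1_c8 LD2_c50 LD3_c57)) = (LP (LK LD1_c16 LD2_c32 LD3_c27)) :=
  Lre_d IH (LK LD1_c8 LD2_c50 LD3_c57) (LK LD1_c16 LD2_c32 LD3_c27) Lrfl Lrfl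
theorem f30097 : Led Lsl_dt (LP (LK LD1_c1 LD2_c56 LD3_c53)) = (LP (LK LD1_c4 LD2_c0 LD3_c4)) :=
  Lre_d IH (LK LD1_c1 LD2_c56 LD3_c53) (LK LD1_c4 LD2_c0 LD3_c4) Lrfl Lrfl
theorem f29969 : Led Lsl_gt (LP (LK LD1_c4 LD2_c0 LD3_c4)) = (LP (LK LD1_c8 LD2_c1 LD3_c10)) :=
  Lre_g IH (LK LD1_c4 LD2_c0 LD3_c4) (LK LD1_c8 LD2_c1 LD3_c10) Lrfl Lrfl
theorem f29975 : Led Lsl_dt (LP (LK LD1_c8 LD2_c1 LD3_c10)) = (LP (LK LD1_c15 LD2_c5 LD3_c60)) :=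
  Lre_d IH (LK LD1_c8 LD2_c1 LD3_c10) (LK LD1_c15 LD2_c5 LD3_c60) Lrfl Lrfl
theorem f70624 : Led Lsl_cf (LP (LK LD1_c16 LD2_c32 LD3_c27)) = (LP (LK LD1_c15 LD2_c5 LD3_c60)) :=
  Lgr Lrot14 (Lpe (f16359 IH) (Lpe (f16353 IH) (Lpe (f16215 IH) (Lpe (f16504 IH) (Lpr_ct (f70607 IH) (Lpr_gt (f30104 IH) (Lpr_dt (f30097 IH) (Lpr_gt (f29969 IH) (Lpr_dt (f29975 IH) (Lpn (LP (LK LD1_c15 LD2_c5 LD3_c60))))))))))))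
theorem f70639 : Led Lsl_ct (LP (LK LD1_c16 LD2_c32 LD3_c27)) = (LP (LK LD1_c15 LD2_c5 LD3_c60)) :=
  Lgr Lrot59 (Lpr_cf (f70624 IH) (Lpn (LP (LK LD1_c15 LD2_c5 LD3_c60))))
theorem f445141 : Led Lsl_ct (LP (LK LD1_c8 LD2_c45 LD3_c7)) = (LP (LK LD1_c8 LD2_c1 LD3_c10)) :=
  Lgr Lrot110 (Lpe (f38830 IH) (Lpe (K1.f16328 IH) (Lpe (f38027 IH) (Lpe (f38028 IH) (Lpr_gt (f445139 IH) (Lpr_ct (K1.f38689 IH) (Lpe (f407860 IH) (Lpr_ct (f70639 IH) (Lpe (f29975 IH) (Lpn (LP (LK LD1_c8 LD2_c1 LD3_c10))))))))))))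
theorem f445146 : Led Lsl_cf (LP (LK LD1_c8 LD2_c45 LD3_c7)) = (LP (LK LD1_c8 LD2_c1 LD3_c10)) :=
  Lgr Lrot11 (Lpr_ct (f445141 IH) (Lpn (LP (LK LD1_c8 LD2_c1 LD3_c10))))
theorem f38831 : Led Lsl_gf (LP (LK LD1_c14 LD2_c59 LD3_c15)) = (LP (LK LD1_c8 LD2_c45 LD3_c7)) :=
  Lgr Lrot76 (Lpr_af (K1.f38811 IH) (Lpe (K1.f16337 IH) (Lpr_gt (f38830 IH) (Lpn (LP (LK LD1_c8 LD2_c45 LD3_c7))))))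
theorem f38795 : Led Lsl_cf (LP (LK LD1_c3 LD2_c58 LD3_c2)) = (LP (LK LD1_c4 LD2_c26 LD3_c51)) :=
  Lgr Lrot55 (Lpr_dt (f38794 IH) (Lpr_ct (f38793 IH) (Lpr_dt (K1.f38792 IH) (Lpr_ct (K1.f38786 IH) (Lpr_dt (K1.f16332 IH) (Lpr_ct (K1.f16211 IH) (Lpr_dt (K1.f16331 IH) (Lpr_ct (K1.f16330 IH) (Lpr_dt (K1.f16329 IH) (Lpr_ct (K1.f16328 IH) (Lpr_dt (K1.f16290 IH) (Lpr_ct (K1.f16270 IH) (Lpe (K1.f16261 IH) (Lpr_ct (K1.f16275 IH) (Lpr_dt (K1.f16276 IH) (Lpn (LP (LK LD1_c4 LD2_c26 LD3_c51))))))))))))))))))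
theorem f445170 : Led Lsl_cf (LP (LK LD1_c4 LD2_c26 LD3_c39)) = (LP (LK LD1_c4 LD2_c0 LD3_c11)) :=
  Lgr Lrot169 (Lpe (K2.f16452 IH) (Lpe (f38795 IH) (Lpe (f38835 IH) (Lpe (K1.f38815 IH) (Lpr_gf (f38831 IH) (Lpr_cf (f445146 IH) (Lpe (f29969 IH) (Lpe (f30097 IH) (Lpr_gt (f30120 IH) (Lpn (LP (LK LD1_c4 LD2_c0 LD3_c11))))))))))))
theorem f445174 : Led Lsl_ct (LP (LK LD1_c4 LD2_c26 LD3_c39)) = (LP (LK LD1_c4 LD2_c0 LD3_c11)) :=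
  Lgr Lrot59 (Lpr_cf (f445170 IH) (Lpn (LP (LK LD1_c4 LD2_c0 LD3_c11))))
theorem f445513 : Led Lsl_gf (LP (LK LD1_c8 LD2_c51 LD3_c8)) = (LP (LK LD1_c4 LD2_c26 LD3_c49)) :=
  Lgr Lrot147 (Lpr_ct (f443771 IH) (Lpr_gt (f445509 IH) (Lpr_ct (f35855 IH) (Lpe (f30126 IH) (Lpe (f445174 IH) (Lpe (K2.f16451 IH) (Lpe (f16285 IH) (Lpe (K4.f99340 IH) (Lpe (f101847 IH) (Lpn (LP (LK LD1_c4 LD2_c26 LD3_c49))))))))))))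
theorem f421111 : Led Lsl_dt (LP (LK LD1_c16 LD2_c33 LD3_c3)) = (LP (LK LD1_c8 LD2_c51 LD3_c8)) :=
  Lre_d IH (LK LD1_c16 LD2_c33 LD3_c3) (LK LD1_c8 LD2_c51 LD3_c8) Lrfl Lrfl
theorem f543366 : Led Lsl_et (LP (LK LD1_c16 LD2_c33 LD3_c3)) = (LP (LK LD1_c13 LD2_c50 LD3_c41)) :=
  Lgr Lrot121 (Lpr_dt (f421111 IH) (Lpr_gf (f445513 IH) (Lpe (f101849 IH) (Lpr_et (f227643 IH) (Lpe (f543339 IH) (Lpe (f543347 IH) (Lpr_dt (f59369 IH) (Lpe (f543348 IH) (Lpr_df (f543349 IH) (Lpr_gf (f543362 IH) (Lpn (LP (LK LD1_c13 LD2_c50 LD3_c41)))))))))))))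
theorem f69524 : Led Lsl_et (LP (LK LD1_c2 LD2_c10 LD3_c32)) = (LP (LK LD1_c4 LD2_c26 LD3_c46)) :=
  Lre_e IH (LK LD1_c2 LD2_c10 LD3_c32) (LK LD1_c4 LD2_c26 LD3_c46) Lrfl Lrfl
theorem f212035 : Led Lsl_et (LP (LK LD1_c16 LD2_c21 LD3_c1)) = (LP (LK LD1_c8 LD2_c43 LD3_c52)) :=
  Lre_e IH (LK LD1_c16 LD2_c21 LD3_c1) (LK LD1_c8 LD2_c43 LD3_c52) Lrfl Lrfl
theorem f421076 : Led Lsl_df (LP (LK LD1_c16 LD2_c21 LD3_c1)) = (LP (LK LD1_c11 LD2_c28 LD3_c2)) :=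
  Lgr Lrot70 (Lpr_et (f212035 IH) (Lpr_dt (f80973 IH) (Lpr_et (f198251 IH) (Lpr_dt (K36.f210622 IH) (Lpr_et (K36.f241484 IH) (Lpn (LP (LK LD1_c11 LD2_c28 LD3_c2))))))))
theorem f421078 : Led Lsl_dt (LP (LK LD1_c16 LD2_c21 LD3_c1)) = (LP (LK LD1_c11 LD2_c28 LD3_c2)) :=
  Lgr Lrot42 (Lpr_df (f421076 IH) (Lpn (LP (LK LD1_c11 LD2_c28 LD3_c2))))
theorem f56462 : Led Lsl_gt (LP (LK LD1_c12 LD2_c7 LD3_c15)) = (LP (LK LD1_c21 LD2_c13 LD3_c26)) :=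
  Lre_g IH (LK LD1_c12 LD2_c7 LD3_c15) (LK LD1_c21 LD2_c13 LD3_c26) Lrfl Lrfl
theorem f421082 : Led Lsl_gt (LP (LK LD1_c20 LD2_c25 LD3_c42)) = (LP (LK LD1_c11 LD2_c28 LD3_c2)) :=
  Lre_g IH (LK LD1_c20 LD2_c25 LD3_c42) (LK LD1_c11 LD2_c28 LD3_c2) Lrfl Lrfl
theorem f421083 : Led Lsl_dt (LP (LK LD1_c29 LD2_c27 LD3_c9)) = (LP (LK LD1_c20 LD2_c25 LD3_c42)) :=
  Lre_d IH (LK LD1_c29 LD2_c27 LD3_c9) (LK LD1_c20 LD2_c25 LD3_c42) Lrfl Lrfl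
theorem f421096 : Led Lsl_ef (LP (LK LD1_c21 LD2_c13 LD3_c26)) = (LP (LK LD1_c29 LD2_c27 LD3_c9)) :=
  Lgr Lrot17 (Lpe (f56462 IH) (Lpe (K1.f56456 IH) (Lpr_dt (K1.f56475 IH) (Lpr_gf (K10.f60772 IH) (Lpe (K13.f59294 IH) (Lpe (f241332 IH) (Lpe (f212035 IH) (Lpr_dt (f421078 IH) (Lpe (f421082 IH) (Lpe (f421083 IH) (Lpn (LP (LK LD1_c29 LD2_c27 LD3_c9)))))))))))))
theorem f421101 : Led Lsl_et (LP (LK LD1_c21 LD2_c13 LD3_c26)) = (LP (LK LD1_c29 LD2_c27 LD3_c9)) :=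
  Lgr Lrot87 (Lpr_ef (f421096 IH) (Lpn (LP (LK LD1_c29 LD2_c27 LD3_c9))))
theorem f56491 : Led Lsl_dt (LP (LK LD1_c29 LD2_c54 LD3_c34)) = (LP (LK LD1_c21 LD2_c13 LD3_c26)) :=
  Lre_d IH (LK LD1_c29 LD2_c54 LD3_c34) (LK LD1_c21 LD2_c13 LD3_c26) Lrfl Lrfl
theorem f411231 : Led Lsl_et (LP (LK LD1_c5 LD2_c50 LD3_c49)) = (LP (LK LD1_c11 LD2_c29 LD3_c12)) :=
  Lre_e IH (LK LD1_c5 LD2_c50 LD3_c49) (LK LD1_c11 LD2_c29 LD3_c12) Lrfl Lrfl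
theorem f407952 : Led Lsl_et (LP (LK LD1_c12 LD2_c23 LD3_c47)) = (LP (LK LD1_c6 LD2_c25 LD3_c32)) :=
  Lre_e IH (LK LD1_c12 LD2_c23 LD3_c47) (LK LD1_c6 LD2_c25 LD3_c32) Lrfl Lrfl
theorem f411232 : Led Lsl_at (LP (LK LD1_c11 LD2_c29 LD3_c12)) = (LP (LK LD1_c12 LD2_c23 LD3_c47)) :=
  Lgr Lrot80 (Lpe (f411231 IH) (Lpr_af (K36.f411227 IH) (Lpe (f407952 IH) (Lpn (LP (LK LD1_c12 LD2_c23 LD3_c47))))))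
theorem f182466 : Led Lsl_et (LP (LK LD1_c1 LD2_c57 LD3_c33)) = (LP (LK LD1_c4 LD2_c1 LD3_c18)) :=
  Lre_e IH (LK LD1_c1 LD2_c57 LD3_c33) (LK LD1_c4 LD2_c1 LD3_c18) Lrfl Lrfl
theorem f271959 : Led Lsl_et (LP (LK LD1_c8 LD2_c3 LD3_c17)) = (LP (LK LD1_c4 LD2_c1 LD3_c17)) :=
  Lre_e IH (LK LD1_c8 LD2_c3 LD3_c17) (LK LD1_c4 LD2_c1 LD3_c17) Lrfl Lrfl
theorem f407959 : Led Lsl_df (LP (LK LD1_c8 LD2_c3 LD3_c17)) = (LP (LK LD1_c12 LD2_c23 LD3_c47)) :=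
  Lgr Lrot70 (Lpr_et (f271959 IH) (Lpr_dt (K13.f182459 IH) (Lpr_et (f182466 IH) (Lpr_dt (K32.f407953 IH) (Lpr_et (K32.f407958 IH) (Lpn (LP (LK LD1_c12 LD2_c23 LD3_c47))))))))
theorem f242802 : Led Lsl_et (LP (LK LD1_c4 LD2_c2 LD3_c3)) = (LP (LK LD1_c8 LD2_c4 LD3_c43)) :=
  Lre_e IH (LK LD1_c4 LD2_c2 LD3_c3) (LK LD1_c8 LD2_c4 LD3_c43) Lrfl Lrfl
theorem f271974 : Led Lsl_at (LP (LK LD1_c8 LD2_c4 LD3_c43)) = (LP (LK LD1_c8 LD2_c3 LD3_c17)) :=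
  Lgr Lrot80 (Lpe (f242802 IH) (Lpr_af (K16.f271966 IH) (Lpe (f271959 IH) (Lpn (LP (LK LD1_c8 LD2_c3 LD3_c17))))))
theorem f411209 : Led Lsl_af (LP (LK LD1_c8 LD2_c4 LD3_c43)) = (LP (LK LD1_c8 LD2_c3 LD3_c17)) :=
  Lgr Lrot0 (Lpr_at (f271974 IH) (Lpn (LP (LK LD1_c8 LD2_c3 LD3_c17))))
theorem f411236 : Led Lsl_df (LP (LK LD1_c11 LD2_c29 LD3_c12)) = (LP (LK LD1_c8 LD2_c4 LD3_c43)) :=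
  Lgr Lrot18 (Lpr_at (f411232 IH) (Lpe (f407959 IH) (Lpe (f411209 IH) (Lpn (LP (LK LD1_c8 LD2_c4 LD3_c43))))))
theorem f411248 : Led Lsl_gt (LP (LK LD1_c20 LD2_c26 LD3_c18)) = (LP (LK LD1_c11 LD2_c29 LD3_c12)) :=
  Lre_g IH (LK LD1_c20 LD2_c26 LD3_c18) (LK LD1_c11 LD2_c29 LD3_c12) Lrfl Lrfl
theorem f242139 : Led Lsl_et (LP (LK LD1_c8 LD2_c4 LD3_c43)) = (LP (LK LD1_c4 LD2_c2 LD3_c3)) :=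
  Lre_e IH (LK LD1_c8 LD2_c4 LD3_c43) (LK LD1_c4 LD2_c2 LD3_c3) Lrfl Lrfl
theorem f242131 : Led Lsl_gf (LP (LK LD1_c4 LD2_c4 LD3_c59)) = (LP (LK LD1_c4 LD2_c2 LD3_c3)) :=
  Lgr Lrot76 (Lpr_af (K1.f46637 IH) (Lpe (K1.f27877 IH) (Lpr_gt (K13.f242126 IH) (Lpn (LP (LK LD1_c4 LD2_c2 LD3_c3))))))
theorem f242147 : Led Lsl_et (LP (LK LD1_c4 LD2_c2 LD3_c10)) = (LP (LK LD1_c8 LD2_c4 LD3_c53)) :=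
  Lre_e IH (LK LD1_c4 LD2_c2 LD3_c10) (LK LD1_c8 LD2_c4 LD3_c53) Lrfl Lrfl
theorem f242197 : Led Lsl_gt (LP (LK LD1_c8 LD2_c4 LD3_c53)) = (LP (LK LD1_c15 LD2_c12 LD3_c60)) :=
  Lre_g IH (LK LD1_c8 LD2_c4 LD3_c53) (LK LD1_c15 LD2_c12 LD3_c60) Lrfl Lrfl
theorem f386063 : Led Lsl_et (LP (LK LD1_c25 LD2_c1 LD3_c59)) = (LP (LK LD1_c15 LD2_c12 LD3_c60)) :=
  Lre_e IH (LK LD1_c25 LD2_c1 LD3_c59) (LK LD1_c15 LD2_c12 LD3_c60) Lrfl Lrfl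
theorem f411249 : Led Lsl_df (LP (LK LD1_c20 LD2_c26 LD3_c18)) = (LP (LK LD1_c25 LD2_c1 LD3_c59)) :=
  Lgr Lrot170 (Lpr_gt (f411248 IH) (Lpr_df (f411236 IH) (Lpr_et (f242139 IH) (Lpe (f242131 IH) (Lpr_dt (K1.f46636 IH) (Lpr_gt (K13.f242068 IH) (Lpe (K12.f34054 IH) (Lpr_et (f242147 IH) (Lpr_gt (f242197 IH) (Lpe (f386063 IH) (Lpn (LP (LK LD1_c25 LD2_c1 LD3_c59)))))))))))))
theorem f56454 : Led Lsl_df (LP (LK LD1_c12 LD2_c7 LD3_c15)) = (LP (LK LD1_c8 LD2_c10 LD3_c45)) :=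
  Lgr Lrot38 (Lpr_dt (K1.f56452 IH) (Lpn (LP (LK LD1_c8 LD2_c10 LD3_c45))))
theorem f411254 : Led Lsl_gt (LP (LK LD1_c31 LD2_c44 LD3_c50)) = (LP (LK LD1_c25 LD2_c1 LD3_c59)) :=
  Lre_g IH (LK LD1_c31 LD2_c44 LD3_c50) (LK LD1_c25 LD2_c1 LD3_c59) Lrfl Lrfl
theorem f411255 : Led Lsl_et (LP (LK LD1_c29 LD2_c54 LD3_c34)) = (LP (LK LD1_c31 LD2_c44 LD3_c50)) :=
  Lgr Lrot121 (Lpr_dt (f56491 IH) (Lpe (f56462 IH) (Lpr_df (f56454 IH) (Lpr_et (K1.f46764 IH) (Lpr_gf (f242131 IH) (Lpe (f242139 IH) (Lpe (f411236 IH) (Lpe (f411248 IH) (Lpr_df (f411249 IH) (Lpe (f411254 IH) (Lpn (LP (LK LD1_c31 LD2_c44 LD3_c50)))))))))))))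
theorem f411257 : Led Lsl_ef (LP (LK LD1_c29 LD2_c54 LD3_c34)) = (LP (LK LD1_c31 LD2_c44 LD3_c50)) :=
  Lgr Lrot88 (Lpr_et (f411255 IH) (Lpn (LP (LK LD1_c31 LD2_c44 LD3_c50))))
theorem f421103 : Led Lsl_et (LP (LK LD1_c20 LD2_c25 LD3_c42)) = (LP (LK LD1_c29 LD2_c27 LD3_c10)) :=
  Lre_e IH (LK LD1_c20 LD2_c25 LD3_c42) (LK LD1_c29 LD2_c27 LD3_c10) Lrfl Lrfl
theorem f421104 : Led Lsl_df (LP (LK LD1_c31 LD2_c44 LD3_c50)) = (LP (LK LD1_c29 LD2_c27 LD3_c10)) :=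
  Lgr Lrot70 (Lpe (f411257 IH) (Lpr_dt (f56491 IH) (Lpr_et (f421101 IH) (Lpr_dt (f421083 IH) (Lpr_et (f421103 IH) (Lpn (LP (LK LD1_c29 LD2_c27 LD3_c10))))))))
theorem f421084 : Led Lsl_et (LP (LK LD1_c29 LD2_c27 LD3_c10)) = (LP (LK LD1_c20 LD2_c25 LD3_c42)) :=
  Lre_e IH (LK LD1_c29 LD2_c27 LD3_c10) (LK LD1_c20 LD2_c25 LD3_c42) Lrfl Lrfl
theorem f241773 : Led Lsl_gt (LP (LK LD1_c6 LD2_c14 LD3_c6)) = (LP (LK LD1_c4 LD2_c23 LD3_c1)) :=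
  Lgr Lrot9 (Lpe (K10.f197827 IH) (Lpr_gt (K10.f60504 IH) (Lpr_ct (K1.f60480 IH) (Lpr_gt (K13.f241767 IH) (Lpr_ct (K13.f80960 IH) (Lpe (K10.f80981 IH) (Lpe (K10.f80980 IH) (Lpe (K10.f80922 IH) (Lpe (K36.f80970 IH) (Lpn (LP (LK LD1_c4 LD2_c23 LD3_c1))))))))))))
theorem f38093 : Led Lsl_et (LP (LK LD1_c6 LD2_c14 LD3_c24)) = (LP (LK LD1_c3 LD2_c4 LD3_c5)) :=
  Lre_e IH (LK LD1_c6 LD2_c14 LD3_c24) (LK LD1_c3 LD2_c4 LD3_c5) Lrfl Lrfl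
theorem f69568 : Led Lsl_gt (LP (LK LD1_c6 LD2_c14 LD3_c23)) = (LP (LK LD1_c3 LD2_c4 LD3_c4)) :=
  Lre_g IH (LK LD1_c6 LD2_c14 LD3_c23) (LK LD1_c3 LD2_c4 LD3_c4) Lrfl Lrfl
theorem f69594 : Led Lsl_dt (LP (LK LD1_c12 LD2_c7 LD3_c7)) = (LP (LK LD1_c6 LD2_c14 LD3_c23)) :=
  Lre_d IH (LK LD1_c12 LD2_c7 LD3_c7) (LK LD1_c6 LD2_c14 LD3_c23) Lrfl Lrfl
theorem f80596 : Led Lsl_et (LP (LK LD1_c12 LD2_c7 LD3_c7)) = (LP (LK LD1_c21 LD2_c13 LD3_c20)) :=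
  Lre_e IH (LK LD1_c12 LD2_c7 LD3_c7) (LK LD1_c21 LD2_c13 LD3_c20) Lrfl Lrfl
theorem f80978 : Led Lsl_et (LP (LK LD1_c8 LD2_c43 LD3_c52)) = (LP (LK LD1_c16 LD2_c21 LD3_c1)) :=
  Lre_e IH (LK LD1_c8 LD2_c43 LD3_c52) (LK LD1_c16 LD2_c21 LD3_c1) Lrfl Lrfl
theorem f241776 : Led Lsl_gf (LP (LK LD1_c21 LD2_c13 LD3_c20)) = (LP (LK LD1_c16 LD2_c21 LD3_c1)) :=
  Lgr Lrot141 (Lpe (f80596 IH) (Lpr_dt (f69594 IH) (Lpr_gt (f69568 IH) (Lpe (f38092 IH) (Lpr_et (f38093 IH) (Lpr_gt (K10.f60503 IH) (Lpr_dt (K10.f197827 IH) (Lpr_gt (f241773 IH) (Lpe (f80973 IH) (Lpr_et (f80978 IH) (Lpn (LP (LK LD1_c16 LD2_c21 LD3_c1)))))))))))))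
theorem f80465 : Led Lsl_gt (LP (LK LD1_c2 LD2_c10 LD3_c29)) = (LP (LK LD1_c4 LD2_c26 LD3_c31)) :=
  Lre_g IH (LK LD1_c2 LD2_c10 LD3_c29) (LK LD1_c4 LD2_c26 LD3_c31) Lrfl Lrfl
theorem f80467 : Led Lsl_dt (LP (LK LD1_c4 LD2_c26 LD3_c31)) = (LP (LK LD1_c8 LD2_c50 LD3_c35)) :=
  Lre_d IH (LK LD1_c4 LD2_c26 LD3_c31) (LK LD1_c8 LD2_c50 LD3_c35) Lrfl Lrfl
theorem f80468 : Led Lsl_gt (LP (LK LD1_c8 LD2_c50 LD3_c35)) = (LP (LK LD1_c16 LD2_c31 LD3_c42)) :=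
  Lre_g IH (LK LD1_c8 LD2_c50 LD3_c35) (LK LD1_c16 LD2_c31 LD3_c42) Lrfl Lrfl
theorem f80556 : Led Lsl_et (LP (LK LD1_c12 LD2_c7 LD3_c8)) = (LP (LK LD1_c6 LD2_c14 LD3_c23)) :=
  Lre_e IH (LK LD1_c12 LD2_c7 LD3_c8) (LK LD1_c6 LD2_c14 LD3_c23) Lrfl Lrfl
theorem f80557 : Led Lsl_df (LP (LK LD1_c16 LD2_c31 LD3_c42)) = (LP (LK LD1_c12 LD2_c7 LD3_c8)) :=
  Lgr Lrot132 (Lpe (f80468 IH) (Lpe (f80467 IH) (Lpe (f80465 IH) (Lpe (K11.f38128 IH) (Lpe (K4.f80442 IH) (Lpr_gf (K8.f80547 IH) (Lpe (K1.f37204 IH) (Lpr_et (K1.f38029 IH) (Lpe (f69568 IH) (Lpe (f80556 IH) (Lpn (LP (LK LD1_c12 LD2_c7 LD3_c8)))))))))))))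
theorem f80587 : Led Lsl_et (LP (LK LD1_c16 LD2_c31 LD3_c42)) = (LP (LK LD1_c26 LD2_c28 LD3_c18)) :=
  Lre_e IH (LK LD1_c16 LD2_c31 LD3_c42) (LK LD1_c26 LD2_c28 LD3_c18) Lrfl Lrfl
theorem f80588 : Led Lsl_et (LP (LK LD1_c6 LD2_c14 LD3_c23)) = (LP (LK LD1_c12 LD2_c7 LD3_c8)) :=
  Lre_e IH (LK LD1_c6 LD2_c14 LD3_c23) (LK LD1_c12 LD2_c7 LD3_c8) Lrfl Lrfl
theorem f80589 : Led Lsl_et (LP (LK LD1_c21 LD2_c13 LD3_c20)) = (LP (LK LD1_c12 LD2_c7 LD3_c7)) :=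
  Lre_e IH (LK LD1_c21 LD2_c13 LD3_c20) (LK LD1_c12 LD2_c7 LD3_c7) Lrfl Lrfl
theorem f80590 : Led Lsl_dt (LP (LK LD1_c26 LD2_c28 LD3_c18)) = (LP (LK LD1_c21 LD2_c13 LD3_c20)) :=
  Lgr Lrot77 (Lpe (f80587 IH) (Lpr_df (f80557 IH) (Lpe (f80588 IH) (Lpe (f69594 IH) (Lpe (f80589 IH) (Lpn (LP (LK LD1_c21 LD2_c13 LD3_c20))))))))
theorem f80579 : Led Lsl_et (LP (LK LD1_c26 LD2_c28 LD3_c18)) = (LP (LK LD1_c16 LD2_c31 LD3_c42)) :=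
  Lre_e IH (LK LD1_c26 LD2_c28 LD3_c18) (LK LD1_c16 LD2_c31 LD3_c42) Lrfl Lrfl
theorem f210781 : Led Lsl_et (LP (LK LD1_c11 LD2_c28 LD3_c2)) = (LP (LK LD1_c5 LD2_c49 LD3_c41)) :=
  Lre_e IH (LK LD1_c11 LD2_c28 LD3_c2) (LK LD1_c5 LD2_c49 LD3_c41) Lrfl Lrfl
theorem f198255 : Led Lsl_dt (LP (LK LD1_c5 LD2_c49 LD3_c41)) = (LP (LK LD1_c2 LD2_c50 LD3_c58)) :=
  Lre_d IH (LK LD1_c5 LD2_c49 LD3_c41) (LK LD1_c2 LD2_c50 LD3_c58) Lrfl Lrfl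
theorem f80452 : Led Lsl_dt (LP (LK LD1_c1 LD2_c57 LD3_c3)) = (LP (LK LD1_c4 LD2_c0 LD3_c38)) :=
  Lre_d IH (LK LD1_c1 LD2_c57 LD3_c3) (LK LD1_c4 LD2_c0 LD3_c38) Lrfl Lrfl
theorem f210779 : Led Lsl_gf (LP (LK LD1_c5 LD2_c49 LD3_c41)) = (LP (LK LD1_c4 LD2_c0 LD3_c38)) :=
  Lgr Lrot143 (Lpr_dt (f198255 IH) (Lpe (K36.f177145 IH) (Lpe (f24569 IH) (Lpe (K10.f198253 IH) (Lpe (K10.f59344 IH) (Lpr_gf (K32.f210573 IH) (Lpe (K13.f25991 IH) (Lpe (K11.f205315 IH) (Lpr_dt (f80452 IH) (Lpn (LP (LK LD1_c4 LD2_c0 LD3_c38))))))))))))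
theorem f38154 : Led Lsl_et (LP (LK LD1_c4 LD2_c26 LD3_c30)) = (LP (LK LD1_c2 LD2_c10 LD3_c28)) :=
  Lre_e IH (LK LD1_c4 LD2_c26 LD3_c30) (LK LD1_c2 LD2_c10 LD3_c28) Lrfl Lrfl
theorem f80760 : Led Lsl_dt (LP (LK LD1_c8 LD2_c50 LD3_c33)) = (LP (LK LD1_c4 LD2_c26 LD3_c30)) :=
  Lre_d IH (LK LD1_c8 LD2_c50 LD3_c33) (LK LD1_c4 LD2_c26 LD3_c30) Lrfl Lrfl
theorem f80664 : Led Lsl_et (LP (LK LD1_c1 LD2_c57 LD3_c2)) = (LP (LK LD1_c4 LD2_c0 LD3_c37)) :=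
  Lre_e IH (LK LD1_c1 LD2_c57 LD3_c2) (LK LD1_c4 LD2_c0 LD3_c37) Lrfl Lrfl
theorem f80672 : Led Lsl_dt (LP (LK LD1_c4 LD2_c0 LD3_c37)) = (LP (LK LD1_c8 LD2_c2 LD3_c7)) :=
  Lre_d IH (LK LD1_c4 LD2_c0 LD3_c37) (LK LD1_c8 LD2_c2 LD3_c7) Lrfl Lrfl
theorem f80761 : Led Lsl_ef (LP (LK LD1_c8 LD2_c50 LD3_c33)) = (LP (LK LD1_c8 LD2_c2 LD3_c7)) :=
  Lgr Lrot73 (Lpr_dt (f80760 IH) (Lpr_et (f38154 IH) (Lpr_dt (K36.f80758 IH) (Lpr_et (f80664 IH) (Lpr_dt (f80672 IH) (Lpn (LP (LK LD1_c8 LD2_c2 LD3_c7))))))))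
theorem f80510 : Led Lsl_bt (LP (LK LD1_c8 LD2_c50 LD3_c33)) = (LP (LK LD1_c4 LD2_c26 LD3_c33)) :=
  Lre_b IH (LK LD1_c8 LD2_c50 LD3_c33) (LK LD1_c4 LD2_c26 LD3_c33) Lrfl Lrfl
theorem f80778 : Led Lsl_bt (LP (LK LD1_c4 LD2_c0 LD3_c38)) = (LP (LK LD1_c8 LD2_c2 LD3_c7)) :=
  Lre_b IH (LK LD1_c4 LD2_c0 LD3_c38) (LK LD1_c8 LD2_c2 LD3_c7) Lrfl Lrfl
theorem f80779 : Led Lsl_et (LP (LK LD1_c4 LD2_c26 LD3_c33)) = (LP (LK LD1_c4 LD2_c0 LD3_c38)) :=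
  Lgr Lrot74 (Lpe (f80510 IH) (Lpr_ef (f80761 IH) (Lpe (f80778 IH) (Lpn (LP (LK LD1_c4 LD2_c0 LD3_c38))))))
theorem f80460 : Led Lsl_gt (LP (LK LD1_c4 LD2_c26 LD3_c32)) = (LP (LK LD1_c2 LD2_c10 LD3_c29)) :=
  Lre_g IH (LK LD1_c4 LD2_c26 LD3_c32) (LK LD1_c2 LD2_c10 LD3_c29) Lrfl Lrfl
theorem f80501 : Led Lsl_dt (LP (LK LD1_c8 LD2_c50 LD3_c38)) = (LP (LK LD1_c4 LD2_c26 LD3_c32)) :=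
  Lre_d IH (LK LD1_c8 LD2_c50 LD3_c38) (LK LD1_c4 LD2_c26 LD3_c32) Lrfl Lrfl
theorem f421085 : Led Lsl_gt (LP (LK LD1_c16 LD2_c31 LD3_c42)) = (LP (LK LD1_c8 LD2_c50 LD3_c38)) :=
  Lgr Lrot137 (Lpe (f80579 IH) (Lpr_dt (f80590 IH) (Lpr_gf (f241776 IH) (Lpr_df (f421076 IH) (Lpr_et (f210781 IH) (Lpr_gf (f210779 IH) (Lpe (f80779 IH) (Lpr_dt (K4.f80453 IH) (Lpe (f80460 IH) (Lpe (f80501 IH) (Lpn (LP (LK LD1_c8 LD2_c50 LD3_c38)))))))))))))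
theorem f421095 : Led Lsl_et (LP (LK LD1_c16 LD2_c31 LD3_c51)) = (LP (LK LD1_c8 LD2_c50 LD3_c38)) :=
  Lre_e IH (LK LD1_c16 LD2_c31 LD3_c51) (LK LD1_c8 LD2_c50 LD3_c38) Lrfl Lrfl
theorem f420709 : Led Lsl_dt (LP (LK LD1_c16 LD2_c31 LD3_c51)) = (LP (LK LD1_c26 LD2_c28 LD3_c22)) :=
  Lre_d IH (LK LD1_c16 LD2_c31 LD3_c51) (LK LD1_c26 LD2_c28 LD3_c22) Lrfl Lrfl
theorem f421106 : Led Lsl_gf (LP (LK LD1_c31 LD2_c44 LD3_c50)) = (LP (LK LD1_c26 LD2_c28 LD3_c22)) :=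
  Lgr Lrot145 (Lpr_df (f421104 IH) (Lpr_et (f421084 IH) (Lpr_gt (f421082 IH) (Lpe (f421076 IH) (Lpe (f241776 IH) (Lpe (f80590 IH) (Lpr_et (f80579 IH) (Lpr_gt (f421085 IH) (Lpe (f421095 IH) (Lpr_dt (f420709 IH) (Lpn (LP (LK LD1_c26 LD2_c28 LD3_c22)))))))))))))
theorem f60524 : Led Lsl_ft (LP (LK LD1_c5 LD2_c46 LD3_c34)) = (LP (LK LD1_c11 LD2_c23 LD3_c23)) :=
  Lre_f IH (LK LD1_c5 LD2_c46 LD3_c34) (LK LD1_c11 LD2_c23 LD3_c23) Lrfl Lrfl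
theorem f60525 : Led Lsl_af (LP (LK LD1_c12 LD2_c7 LD3_c12)) = (LP (LK LD1_c11 LD2_c23 LD3_c23)) :=
  Lgr Lrot45 (Lpr_ft (K2.f60523 IH) (Lpr_at (K1.f60516 IH) (Lpr_ft (f60524 IH) (Lpn (LP (LK LD1_c11 LD2_c23 LD3_c23))))))
theorem f56492 : Led Lsl_et (LP (LK LD1_c12 LD2_c7 LD3_c12)) = (LP (LK LD1_c21 LD2_c13 LD3_c23)) :=
  Lre_e IH (LK LD1_c12 LD2_c7 LD3_c12) (LK LD1_c21 LD2_c13 LD3_c23) Lrfl Lrfl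
theorem f60570 : Led Lsl_at (LP (LK LD1_c21 LD2_c13 LD3_c23)) = (LP (LK LD1_c20 LD2_c21 LD3_c4)) :=
  Lgr Lrot80 (Lpe (f56492 IH) (Lpr_af (f60525 IH) (Lpe (K1.f60311 IH) (Lpn (LP (LK LD1_c20 LD2_c21 LD3_c4))))))
theorem f56460 : Led Lsl_ft (LP (LK LD1_c12 LD2_c7 LD3_c15)) = (LP (LK LD1_c21 LD2_c13 LD3_c23)) :=
  Lre_f IH (LK LD1_c12 LD2_c7 LD3_c15) (LK LD1_c21 LD2_c13 LD3_c23) Lrfl Lrfl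
theorem f60577 : Led Lsl_gt (LP (LK LD1_c21 LD2_c13 LD3_c26)) = (LP (LK LD1_c20 LD2_c21 LD3_c4)) :=
  Lgr Lrot46 (Lpe (f56462 IH) (Lpr_ft (f56460 IH) (Lpr_at (f60570 IH) (Lpn (LP (LK LD1_c20 LD2_c21 LD3_c4))))))
theorem f46728 : Led Lsl_et (LP (LK LD1_c15 LD2_c50 LD3_c37)) = (LP (LK LD1_c8 LD2_c26 LD3_c6)) :=
  Lre_e IH (LK LD1_c15 LD2_c50 LD3_c37) (LK LD1_c8 LD2_c26 LD3_c6) Lrfl Lrfl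
theorem f421108 : Led Lsl_et (LP (LK LD1_c16 LD2_c31 LD3_c52)) = (LP (LK LD1_c26 LD2_c28 LD3_c22)) :=
  Lre_e IH (LK LD1_c16 LD2_c31 LD3_c52) (LK LD1_c26 LD2_c28 LD3_c22) Lrfl Lrfl
theorem f80469 : Led Lsl_dt (LP (LK LD1_c16 LD2_c31 LD3_c52)) = (LP (LK LD1_c8 LD2_c50 LD3_c39)) :=
  Lre_d IH (LK LD1_c16 LD2_c31 LD3_c52) (LK LD1_c8 LD2_c50 LD3_c39) Lrfl Lrfl
theorem f421109 : Led Lsl_gt (LP (LK LD1_c4 LD2_c26 LD3_c46)) = (LP (LK LD1_c8 LD2_c50 LD3_c39)) :=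
  Lgr Lrot139 (Lpr_df (f69522 IH) (Lpe (f46720 IH) (Lpe (f46728 IH) (Lpr_dt (K1.f60296 IH) (Lpe (f60577 IH) (Lpe (f56491 IH) (Lpr_et (f411255 IH) (Lpr_gf (f421106 IH) (Lpe (f421108 IH) (Lpr_dt (f80469 IH) (Lpn (LP (LK LD1_c8 LD2_c50 LD3_c39)))))))))))))
theorem f80462 : Led Lsl_dt (LP (LK LD1_c8 LD2_c50 LD3_c39)) = (LP (LK LD1_c16 LD2_c31 LD3_c52)) :=
  Lre_d IH (LK LD1_c8 LD2_c50 LD3_c39) (LK LD1_c16 LD2_c31 LD3_c52) Lrfl Lrfl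
theorem f201955 : Led Lsl_dt (LP (LK LD1_c9 LD2_c19 LD3_c40)) = (LP (LK LD1_c4 LD2_c42 LD3_c42)) :=
  Lre_d IH (LK LD1_c9 LD2_c19 LD3_c40) (LK LD1_c4 LD2_c42 LD3_c42) Lrfl Lrfl
theorem f201956 : Led Lsl_af (LP (LK LD1_c9 LD2_c19 LD3_c40)) = (LP (LK LD1_c8 LD2_c50 LD3_c43)) :=
  Lgr Lrot117 (Lpr_dt (f201955 IH) (Lpr_at (K11.f201948 IH) (Lpr_dt (K11.f38139 IH) (Lpn (LP (LK LD1_c8 LD2_c50 LD3_c43))))))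
theorem f80905 : Led Lsl_ft (LP (LK LD1_c4 LD2_c26 LD3_c33)) = (LP (LK LD1_c8 LD2_c50 LD3_c43)) :=
  Lre_f IH (LK LD1_c4 LD2_c26 LD3_c33) (LK LD1_c8 LD2_c50 LD3_c43) Lrfl Lrfl
theorem f40018 : Led Lsl_gt (LP (LK LD1_c4 LD2_c26 LD3_c33)) = (LP (LK LD1_c8 LD2_c50 LD3_c40)) :=
  Lre_g IH (LK LD1_c4 LD2_c26 LD3_c33) (LK LD1_c8 LD2_c50 LD3_c40) Lrfl Lrfl
theorem f420703 : Led Lsl_gf (LP (LK LD1_c9 LD2_c19 LD3_c40)) = (LP (LK LD1_c8 LD2_c50 LD3_c40)) :=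
  Lgr Lrot76 (Lpr_af (f201956 IH) (Lpe (f80905 IH) (Lpr_gt (f40018 IH) (Lpn (LP (LK LD1_c8 LD2_c50 LD3_c40))))))
theorem f201962 : Led Lsl_at (LP (LK LD1_c2 LD2_c18 LD3_c48)) = (LP (LK LD1_c2 LD2_c10 LD3_c29)) :=
  Lgr Lrot100 (Lpr_af (K11.f201960 IH) (Lpn (LP (LK LD1_c2 LD2_c10 LD3_c29))))
theorem f202012 : Led Lsl_ft (LP (LK LD1_c4 LD2_c42 LD3_c42)) = (LP (LK LD1_c2 LD2_c18 LD3_c48)) :=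
  Lre_f IH (LK LD1_c4 LD2_c42 LD3_c42) (LK LD1_c2 LD2_c18 LD3_c48) Lrfl Lrfl
theorem f420669 : Led Lsl_gt (LP (LK LD1_c4 LD2_c42 LD3_c42)) = (LP (LK LD1_c4 LD2_c26 LD3_c32)) :=
  Lgr Lrot5 (Lpr_ft (f202012 IH) (Lpr_at (f201962 IH) (Lpe (f80460 IH) (Lpn (LP (LK LD1_c4 LD2_c26 LD3_c32))))))
theorem f80793 : Led Lsl_et (LP (LK LD1_c8 LD2_c50 LD3_c38)) = (LP (LK LD1_c16 LD2_c31 LD3_c51)) :=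
  Lre_e IH (LK LD1_c8 LD2_c50 LD3_c38) (LK LD1_c16 LD2_c31 LD3_c51) Lrfl Lrfl
theorem f80909 : Led Lsl_et (LP (LK LD1_c16 LD2_c31 LD3_c54)) = (LP (LK LD1_c8 LD2_c50 LD3_c40)) :=
  Lre_e IH (LK LD1_c16 LD2_c31 LD3_c54) (LK LD1_c8 LD2_c50 LD3_c40) Lrfl Lrfl
theorem f411268 : Led Lsl_ft (LP (LK LD1_c5 LD2_c50 LD3_c49)) = (LP (LK LD1_c6 LD2_c25 LD3_c33)) :=
  Lgr Lrot48 (Lpr_ff (K36.f411264 IH) (Lpn (LP (LK LD1_c6 LD2_c25 LD3_c33))))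
theorem f411270 : Led Lsl_af (LP (LK LD1_c5 LD2_c50 LD3_c50)) = (LP (LK LD1_c6 LD2_c25 LD3_c33)) :=
  Lgr Lrot45 (Lpr_ft (K36.f411221 IH) (Lpe (K36.f411227 IH) (Lpr_ft (f411268 IH) (Lpn (LP (LK LD1_c6 LD2_c25 LD3_c33))))))
theorem f205320 : Led Lsl_et (LP (LK LD1_c12 LD2_c23 LD3_c48)) = (LP (LK LD1_c6 LD2_c25 LD3_c33)) :=
  Lre_e IH (LK LD1_c12 LD2_c23 LD3_c48) (LK LD1_c6 LD2_c25 LD3_c33) Lrfl Lrfl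
theorem f411273 : Led Lsl_at (LP (LK LD1_c11 LD2_c29 LD3_c14)) = (LP (LK LD1_c12 LD2_c23 LD3_c48)) :=
  Lgr Lrot80 (Lpe (K36.f239008 IH) (Lpr_af (f411270 IH) (Lpe (f205320 IH) (Lpn (LP (LK LD1_c12 LD2_c23 LD3_c48))))))
theorem f239020 : Led Lsl_df (LP (LK LD1_c11 LD2_c29 LD3_c14)) = (LP (LK LD1_c8 LD2_c51 LD3_c42)) :=
  Lgr Lrot38 (Lpr_dt (K36.f239009 IH) (Lpn (LP (LK LD1_c8 LD2_c51 LD3_c42))))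
theorem f241556 : Led Lsl_af (LP (LK LD1_c1 LD2_c28 LD3_c21)) = (LP (LK LD1_c1 LD2_c20 LD3_c37)) :=
  Lgr Lrot68 (Lpr_ct (K13.f60455 IH) (Lpr_at (K13.f241551 IH) (Lpr_ct (K13.f175838 IH) (Lpn (LP (LK LD1_c1 LD2_c20 LD3_c37))))))
theorem f197983 : Led Lsl_bt (LP (LK LD1_c1 LD2_c28 LD3_c21)) = (LP (LK LD1_c1 LD2_c27 LD3_c60)) :=
  Lgr Lrot127 (Lpr_bf (K10.f197913 IH) (Lpn (LP (LK LD1_c1 LD2_c27 LD3_c60))))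
theorem f268525 : Led Lsl_at (LP (LK LD1_c1 LD2_c27 LD3_c60)) = (LP (LK LD1_c2 LD2_c17 LD3_c42)) :=
  Lgr Lrot67 (Lpe (f197983 IH) (Lpr_af (f241556 IH) (Lpr_bf (K10.f175839 IH) (Lpr_af (K16.f268520 IH) (Lpe (K10.f80285 IH) (Lpn (LP (LK LD1_c2 LD2_c17 LD3_c42))))))))
theorem f273167 : Led Lsl_at (LP (LK LD1_c1 LD2_c27 LD3_c61)) = (LP (LK LD1_c2 LD2_c18 LD3_c42)) :=
  Lgr Lrot100 (Lpr_af (K16.f273165 IH) (Lpn (LP (LK LD1_c2 LD2_c18 LD3_c42))))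
theorem f273181 : Led Lsl_ft (LP (LK LD1_c2 LD2_c17 LD3_c42)) = (LP (LK LD1_c1 LD2_c27 LD3_c61)) :=
  Lgr Lrot101 (Lpe (f268525 IH) (Lpr_ff (K16.f273179 IH) (Lpe (f273167 IH) (Lpn (LP (LK LD1_c1 LD2_c27 LD3_c61))))))
theorem f60756 : Led Lsl_ct (LP (LK LD1_c11 LD2_c23 LD3_c28)) = (LP (LK LD1_c5 LD2_c46 LD3_c39)) :=
  Lre_c IH (LK LD1_c11 LD2_c23 LD3_c28) (LK LD1_c5 LD2_c46 LD3_c39) Lrfl Lrfl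
theorem f181600 : Led Lsl_ft (LP (LK LD1_c2 LD2_c9 LD3_c2)) = (LP (LK LD1_c4 LD2_c23 LD3_c11)) :=
  Lre_f IH (LK LD1_c2 LD2_c9 LD3_c2) (LK LD1_c4 LD2_c23 LD3_c11) Lrfl Lrfl
theorem f270170 : Led Lsl_df (LP (LK LD1_c5 LD2_c46 LD3_c40)) = (LP (LK LD1_c4 LD2_c23 LD3_c11)) :=
  Lgr Lrot78 (Lpr_ft (K16.f270166 IH) (Lpr_dt (K13.f80609 IH) (Lpr_ft (f181600 IH) (Lpn (LP (LK LD1_c4 LD2_c23 LD3_c11))))))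
theorem f410519 : Led Lsl_dt (LP (LK LD1_c2 LD2_c17 LD3_c42)) = (LP (LK LD1_c2 LD2_c26 LD3_c23)) :=
  Lgr Lrot159 (Lpr_ft (f273181 IH) (Lpr_at (f273167 IH) (Lpr_cf (K13.f197467 IH) (Lpe (K13.f60607 IH) (Lpe (f60756 IH) (Lpr_df (K13.f197490 IH) (Lpe (K13.f60781 IH) (Lpr_df (f270170 IH) (Lpe (K10.f181597 IH) (Lpn (LP (LK LD1_c2 LD2_c26 LD3_c23))))))))))))
theorem f270209 : Led Lsl_af (LP (LK LD1_c5 LD2_c46 LD3_c39)) = (LP (LK LD1_c6 LD2_c14 LD3_c7)) :=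
  Lgr Lrot68 (Lpr_ct (K13.f60757 IH) (Lpr_at (K16.f270205 IH) (Lpr_ct (K10.f197816 IH) (Lpn (LP (LK LD1_c6 LD2_c14 LD3_c7))))))
theorem f410521 : Led Lsl_ft (LP (LK LD1_c5 LD2_c46 LD3_c36)) = (LP (LK LD1_c6 LD2_c14 LD3_c7)) :=
  Lgr Lrot142 (Lpr_dt (K13.f59294 IH) (Lpr_ct (K18.f193966 IH) (Lpr_dt (f410519 IH) (Lpr_ct (K10.f181597 IH) (Lpe (f270170 IH) (Lpr_ct (K13.f60781 IH) (Lpe (K13.f197490 IH) (Lpr_ct (f60756 IH) (Lpr_af (f270209 IH) (Lpn (LP (LK LD1_c6 LD2_c14 LD3_c7))))))))))))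
theorem f410529 : Led Lsl_ff (LP (LK LD1_c5 LD2_c46 LD3_c36)) = (LP (LK LD1_c6 LD2_c14 LD3_c7)) :=
  Lgr Lrot3 (Lpr_ft (f410521 IH) (Lpn (LP (LK LD1_c6 LD2_c14 LD3_c7))))
theorem f410537 : Led Lsl_at (LP (LK LD1_c5 LD2_c46 LD3_c36)) = (LP (LK LD1_c6 LD2_c14 LD3_c4)) :=
  Lgr Lrot33 (Lpr_ff (f410529 IH) (Lpr_dt (K10.f197813 IH) (Lpr_ct (K10.f37242 IH) (Lpe (K10.f197811 IH) (Lpr_ct (K10.f181581 IH) (Lpr_dt (K10.f39212 IH) (Lpr_ct (K10.f80607 IH) (Lpr_dt (K10.f197861 IH) (Lpr_ct (K10.f197839 IH) (Lpn (LP (LK LD1_c6 LD2_c14 LD3_c4))))))))))))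
theorem f69373 : Led Lsl_et (LP (LK LD1_c11 LD2_c23 LD3_c25)) = (LP (LK LD1_c5 LD2_c46 LD3_c36)) :=
  Lre_e IH (LK LD1_c11 LD2_c23 LD3_c25) (LK LD1_c5 LD2_c46 LD3_c36) Lrfl Lrfl
theorem f197916 : Led Lsl_et (LP (LK LD1_c6 LD2_c14 LD3_c4)) = (LP (LK LD1_c12 LD2_c6 LD3_c46)) :=
  Lre_e IH (LK LD1_c6 LD2_c14 LD3_c4) (LK LD1_c12 LD2_c6 LD3_c46) Lrfl Lrfl
theorem f410543 : Led Lsl_af (LP (LK LD1_c11 LD2_c23 LD3_c25)) = (LP (LK LD1_c12 LD2_c6 LD3_c46)) :=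
  Lgr Lrot50 (Lpr_et (f69373 IH) (Lpr_at (f410537 IH) (Lpr_et (f197916 IH) (Lpn (LP (LK LD1_c12 LD2_c6 LD3_c46))))))
theorem f69389 : Led Lsl_ft (LP (LK LD1_c11 LD2_c23 LD3_c25)) = (LP (LK LD1_c20 LD2_c21 LD3_c9)) :=
  Lre_f IH (LK LD1_c11 LD2_c23 LD3_c25) (LK LD1_c20 LD2_c21 LD3_c9) Lrfl Lrfl
theorem f197964 : Led Lsl_ft (LP (LK LD1_c21 LD2_c12 LD3_c52)) = (LP (LK LD1_c12 LD2_c6 LD3_c46)) :=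
  Lre_f IH (LK LD1_c21 LD2_c12 LD3_c52) (LK LD1_c12 LD2_c6 LD3_c46) Lrfl Lrfl
theorem f410551 : Led Lsl_at (LP (LK LD1_c20 LD2_c21 LD3_c9)) = (LP (LK LD1_c21 LD2_c12 LD3_c52)) :=
  Lgr Lrot66 (Lpe (f69389 IH) (Lpr_af (f410543 IH) (Lpe (f197964 IH) (Lpn (LP (LK LD1_c21 LD2_c12 LD3_c52))))))
theorem f69374 : Led Lsl_et (LP (LK LD1_c6 LD2_c13 LD3_c9)) = (LP (LK LD1_c12 LD2_c5 LD3_c15)) :=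
  Lre_e IH (LK LD1_c6 LD2_c13 LD3_c9) (LK LD1_c12 LD2_c5 LD3_c15) Lrfl Lrfl
theorem f69375 : Led Lsl_df (LP (LK LD1_c11 LD2_c23 LD3_c25)) = (LP (LK LD1_c12 LD2_c5 LD3_c15)) :=
  Lgr Lrot70 (Lpr_et (f69373 IH) (Lpr_dt (K13.f59294 IH) (Lpr_et (K13.f69372 IH) (Lpr_dt (K11.f69367 IH) (Lpr_et (f69374 IH) (Lpn (LP (LK LD1_c12 LD2_c5 LD3_c15))))))))
theorem f69390 : Led Lsl_ft (LP (LK LD1_c21 LD2_c10 LD3_c49)) = (LP (LK LD1_c12 LD2_c5 LD3_c15)) :=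
  Lre_f IH (LK LD1_c21 LD2_c10 LD3_c49) (LK LD1_c12 LD2_c5 LD3_c15) Lrfl Lrfl
theorem f69391 : Led Lsl_dt (LP (LK LD1_c20 LD2_c21 LD3_c9)) = (LP (LK LD1_c21 LD2_c10 LD3_c49)) :=
  Lgr Lrot60 (Lpe (f69389 IH) (Lpr_df (f69375 IH) (Lpe (f69390 IH) (Lpn (LP (LK LD1_c21 LD2_c10 LD3_c49))))))
theorem f69409 : Led Lsl_df (LP (LK LD1_c20 LD2_c21 LD3_c9)) = (LP (LK LD1_c21 LD2_c10 LD3_c49)) :=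
  Lgr Lrot38 (Lpr_dt (f69391 IH) (Lpn (LP (LK LD1_c21 LD2_c10 LD3_c49))))
theorem f197922 : Led Lsl_et (LP (LK LD1_c4 LD2_c26 LD3_c60)) = (LP (LK LD1_c8 LD2_c51 LD3_c47)) :=
  Lre_e IH (LK LD1_c4 LD2_c26 LD3_c60) (LK LD1_c8 LD2_c51 LD3_c47) Lrfl Lrfl
theorem f197923 : Led Lsl_et (LP (LK LD1_c3 LD2_c3 LD3_c53)) = (LP (LK LD1_c6 LD2_c14 LD3_c5)) :=
  Lre_e IH (LK LD1_c3 LD2_c3 LD3_c53) (LK LD1_c6 LD2_c14 LD3_c5) Lrfl Lrfl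
theorem f197924 : Led Lsl_et (LP (LK LD1_c12 LD2_c6 LD3_c46)) = (LP (LK LD1_c6 LD2_c14 LD3_c4)) :=
  Lre_e IH (LK LD1_c12 LD2_c6 LD3_c46) (LK LD1_c6 LD2_c14 LD3_c4) Lrfl Lrfl
theorem f197925 : Led Lsl_dt (LP (LK LD1_c8 LD2_c51 LD3_c47)) = (LP (LK LD1_c12 LD2_c6 LD3_c46)) :=
  Lgr Lrot77 (Lpe (f197922 IH) (Lpr_df (K10.f197918 IH) (Lpe (f197923 IH) (Lpe (K10.f197838 IH) (Lpe (f197924 IH) (Lpn (LP (LK LD1_c12 LD2_c6 LD3_c46))))))))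
theorem f197933 : Led Lsl_ft (LP (LK LD1_c16 LD2_c34 LD3_c16)) = (LP (LK LD1_c8 LD2_c51 LD3_c47)) :=
  Lre_f IH (LK LD1_c16 LD2_c34 LD3_c16) (LK LD1_c8 LD2_c51 LD3_c47) Lrfl Lrfl
theorem f197934 : Led Lsl_ft (LP (LK LD1_c12 LD2_c6 LD3_c46)) = (LP (LK LD1_c21 LD2_c12 LD3_c52)) :=
  Lre_f IH (LK LD1_c12 LD2_c6 LD3_c46) (LK LD1_c21 LD2_c12 LD3_c52) Lrfl Lrfl
theorem f197935 : Led Lsl_df (LP (LK LD1_c16 LD2_c34 LD3_c16)) = (LP (LK LD1_c21 LD2_c12 LD3_c52)) :=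
  Lgr Lrot78 (Lpr_ft (f197933 IH) (Lpr_dt (f197925 IH) (Lpr_ft (f197934 IH) (Lpn (LP (LK LD1_c21 LD2_c12 LD3_c52))))))
theorem f410559 : Led Lsl_af (LP (LK LD1_c21 LD2_c10 LD3_c49)) = (LP (LK LD1_c16 LD2_c34 LD3_c16)) :=
  Lgr Lrot117 (Lpe (f69409 IH) (Lpr_at (f410551 IH) (Lpe (f197935 IH) (Lpn (LP (LK LD1_c16 LD2_c34 LD3_c16))))))
theorem f410671 : Led Lsl_at (LP (LK LD1_c21 LD2_c10 LD3_c49)) = (LP (LK LD1_c16 LD2_c34 LD3_c16)) :=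
  Lgr Lrot100 (Lpr_af (f410559 IH) (Lpn (LP (LK LD1_c16 LD2_c34 LD3_c16))))
theorem f69393 : Led Lsl_ft (LP (LK LD1_c12 LD2_c5 LD3_c15)) = (LP (LK LD1_c21 LD2_c10 LD3_c49)) :=
  Lre_f IH (LK LD1_c12 LD2_c5 LD3_c15) (LK LD1_c21 LD2_c10 LD3_c49) Lrfl Lrfl
theorem f410676 : Led Lsl_af (LP (LK LD1_c12 LD2_c5 LD3_c15)) = (LP (LK LD1_c8 LD2_c51 LD3_c47)) :=
  Lgr Lrot45 (Lpr_ft (f69393 IH) (Lpr_at (f410671 IH) (Lpr_ft (f197933 IH) (Lpn (LP (LK LD1_c8 LD2_c51 LD3_c47))))))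
theorem f69403 : Led Lsl_et (LP (LK LD1_c12 LD2_c5 LD3_c15)) = (LP (LK LD1_c6 LD2_c13 LD3_c9)) :=
  Lre_e IH (LK LD1_c12 LD2_c5 LD3_c15) (LK LD1_c6 LD2_c13 LD3_c9) Lrfl Lrfl
theorem f410682 : Led Lsl_at (LP (LK LD1_c6 LD2_c13 LD3_c9)) = (LP (LK LD1_c4 LD2_c26 LD3_c60)) :=
  Lgr Lrot80 (Lpe (f69403 IH) (Lpr_af (f410676 IH) (Lpe (f197922 IH) (Lpn (LP (LK LD1_c4 LD2_c26 LD3_c60))))))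
theorem f410690 : Led Lsl_ff (LP (LK LD1_c6 LD2_c13 LD3_c9)) = (LP (LK LD1_c4 LD2_c26 LD3_c59)) :=
  Lgr Lrot52 (Lpr_at (f410682 IH) (Lpe (K12.f101061 IH) (Lpr_gf (K12.f101042 IH) (Lpn (LP (LK LD1_c4 LD2_c26 LD3_c59))))))
theorem f410696 : Led Lsl_ft (LP (LK LD1_c6 LD2_c13 LD3_c9)) = (LP (LK LD1_c4 LD2_c26 LD3_c59)) :=
  Lgr Lrot48 (Lpr_ff (f410690 IH) (Lpn (LP (LK LD1_c4 LD2_c26 LD3_c59))))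
theorem f410704 : Led Lsl_af (LP (LK LD1_c6 LD2_c13 LD3_c8)) = (LP (LK LD1_c4 LD2_c26 LD3_c59)) :=
  Lgr Lrot31 (Lpe (K13.f101073 IH) (Lpe (K11.f69366 IH) (Lpr_ft (f410696 IH) (Lpn (LP (LK LD1_c4 LD2_c26 LD3_c59))))))
theorem f410686 : Led Lsl_af (LP (LK LD1_c6 LD2_c13 LD3_c9)) = (LP (LK LD1_c4 LD2_c26 LD3_c60)) :=
  Lgr Lrot0 (Lpr_at (f410682 IH) (Lpn (LP (LK LD1_c4 LD2_c26 LD3_c60))))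
theorem f410714 : Led Lsl_ft (LP (LK LD1_c6 LD2_c13 LD3_c8)) = (LP (LK LD1_c4 LD2_c26 LD3_c60)) :=
  Lgr Lrot101 (Lpr_af (f410704 IH) (Lpe (f410696 IH) (Lpr_af (f410686 IH) (Lpn (LP (LK LD1_c4 LD2_c26 LD3_c60))))))
theorem f410722 : Led Lsl_ff (LP (LK LD1_c6 LD2_c13 LD3_c8)) = (LP (LK LD1_c4 LD2_c26 LD3_c60)) :=
  Lgr Lrot3 (Lpr_ft (f410714 IH) (Lpn (LP (LK LD1_c4 LD2_c26 LD3_c60))))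
theorem f241044 : Led Lsl_et (LP (LK LD1_c6 LD2_c13 LD3_c8)) = (LP (LK LD1_c12 LD2_c5 LD3_c13)) :=
  Lre_e IH (LK LD1_c6 LD2_c13 LD3_c8) (LK LD1_c12 LD2_c5 LD3_c13) Lrfl Lrfl
theorem f241055 : Led Lsl_ft (LP (LK LD1_c12 LD2_c5 LD3_c13)) = (LP (LK LD1_c21 LD2_c10 LD3_c44)) :=
  Lre_f IH (LK LD1_c12 LD2_c5 LD3_c13) (LK LD1_c21 LD2_c10 LD3_c44) Lrfl Lrfl
theorem f101066 : Led Lsl_et (LP (LK LD1_c8 LD2_c51 LD3_c47)) = (LP (LK LD1_c4 LD2_c26 LD3_c60)) :=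
  Lre_e IH (LK LD1_c8 LD2_c51 LD3_c47) (LK LD1_c4 LD2_c26 LD3_c60) Lrfl Lrfl
theorem f410726 : Led Lsl_et (LP (LK LD1_c21 LD2_c10 LD3_c44)) = (LP (LK LD1_c16 LD2_c34 LD3_c16)) :=
  Lgr Lrot69 (Lpe (f241055 IH) (Lpe (f241044 IH) (Lpr_ff (f410722 IH) (Lpe (f101066 IH) (Lpe (f197933 IH) (Lpn (LP (LK LD1_c16 LD2_c34 LD3_c16))))))))
theorem f101049 : Led Lsl_et (LP (LK LD1_c8 LD2_c51 LD3_c45)) = (LP (LK LD1_c4 LD2_c26 LD3_c59)) :=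
  Lre_e IH (LK LD1_c8 LD2_c51 LD3_c45) (LK LD1_c4 LD2_c26 LD3_c59) Lrfl Lrfl
theorem f205018 : Led Lsl_ft (LP (LK LD1_c16 LD2_c34 LD3_c11)) = (LP (LK LD1_c8 LD2_c51 LD3_c45)) :=
  Lre_f IH (LK LD1_c16 LD2_c34 LD3_c11) (LK LD1_c8 LD2_c51 LD3_c45) Lrfl Lrfl
theorem f410694 : Led Lsl_et (LP (LK LD1_c21 LD2_c10 LD3_c49)) = (LP (LK LD1_c16 LD2_c34 LD3_c11)) :=
  Lgr Lrot69 (Lpe (f69393 IH) (Lpe (f69374 IH) (Lpr_ff (f410690 IH) (Lpe (f101049 IH) (Lpe (f205018 IH) (Lpn (LP (LK LD1_c16 LD2_c34 LD3_c11))))))))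
theorem f410728 : Led Lsl_af (LP (LK LD1_c21 LD2_c10 LD3_c44)) = (LP (LK LD1_c16 LD2_c34 LD3_c11)) :=
  Lgr Lrot50 (Lpr_et (f410726 IH) (Lpe (f410559 IH) (Lpr_et (f410694 IH) (Lpn (LP (LK LD1_c16 LD2_c34 LD3_c11))))))
theorem f241062 : Led Lsl_ct (LP (LK LD1_c21 LD2_c10 LD3_c44)) = (LP (LK LD1_c29 LD2_c52 LD3_c61)) :=
  Lre_c IH (LK LD1_c21 LD2_c10 LD3_c44) (LK LD1_c29 LD2_c52 LD3_c61) Lrfl Lrfl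
theorem f205015 : Led Lsl_ct (LP (LK LD1_c26 LD2_c31 LD3_c16)) = (LP (LK LD1_c16 LD2_c34 LD3_c11)) :=
  Lre_c IH (LK LD1_c26 LD2_c31 LD3_c16) (LK LD1_c16 LD2_c34 LD3_c11) Lrfl Lrfl
theorem f410744 : Led Lsl_at (LP (LK LD1_c29 LD2_c52 LD3_c61)) = (LP (LK LD1_c26 LD2_c31 LD3_c16)) :=
  Lgr Lrot107 (Lpe (f241062 IH) (Lpr_af (f410728 IH) (Lpe (f205015 IH) (Lpn (LP (LK LD1_c26 LD2_c31 LD3_c16))))))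
theorem f410740 : Led Lsl_ft (LP (LK LD1_c21 LD2_c10 LD3_c41)) = (LP (LK LD1_c29 LD2_c52 LD3_c61)) :=
  Lre_f IH (LK LD1_c21 LD2_c10 LD3_c41) (LK LD1_c29 LD2_c52 LD3_c61) Lrfl Lrfl
theorem f410783 : Led Lsl_ft (LP (LK LD1_c26 LD2_c31 LD3_c16)) = (LP (LK LD1_c16 LD2_c34 LD3_c8)) :=
  Lre_f IH (LK LD1_c26 LD2_c31 LD3_c16) (LK LD1_c16 LD2_c34 LD3_c8) Lrfl Lrfl
theorem f410784 : Led Lsl_af (LP (LK LD1_c21 LD2_c10 LD3_c41)) = (LP (LK LD1_c16 LD2_c34 LD3_c8)) :=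
  Lgr Lrot45 (Lpr_ft (f410740 IH) (Lpr_at (f410744 IH) (Lpr_ft (f410783 IH) (Lpn (LP (LK LD1_c16 LD2_c34 LD3_c8))))))
theorem f410789 : Led Lsl_at (LP (LK LD1_c21 LD2_c10 LD3_c41)) = (LP (LK LD1_c16 LD2_c34 LD3_c8)) :=
  Lgr Lrot100 (Lpr_af (f410784 IH) (Lpn (LP (LK LD1_c16 LD2_c34 LD3_c8))))
theorem f241844 : Led Lsl_et (LP (LK LD1_c12 LD2_c5 LD3_c12)) = (LP (LK LD1_c21 LD2_c10 LD3_c41)) :=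
  Lre_e IH (LK LD1_c12 LD2_c5 LD3_c12) (LK LD1_c21 LD2_c10 LD3_c41) Lrfl Lrfl
theorem f198148 : Led Lsl_et (LP (LK LD1_c16 LD2_c34 LD3_c8)) = (LP (LK LD1_c8 LD2_c51 LD3_c44)) :=
  Lre_e IH (LK LD1_c16 LD2_c34 LD3_c8) (LK LD1_c8 LD2_c51 LD3_c44) Lrfl Lrfl
theorem f410797 : Led Lsl_af (LP (LK LD1_c12 LD2_c5 LD3_c12)) = (LP (LK LD1_c8 LD2_c51 LD3_c44)) :=
  Lgr Lrot50 (Lpr_et (f241844 IH) (Lpr_at (f410789 IH) (Lpr_et (f198148 IH) (Lpn (LP (LK LD1_c8 LD2_c51 LD3_c44))))))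
theorem f241246 : Led Lsl_gt (LP (LK LD1_c12 LD2_c5 LD3_c12)) = (LP (LK LD1_c12 LD2_c6 LD3_c6)) :=
  Lgr Lrot46 (Lpr_gf (K13.f241244 IH) (Lpr_ft (K1.f36885 IH) (Lpe (K1.f36869 IH) (Lpn (LP (LK LD1_c12 LD2_c6 LD3_c6))))))
theorem f241248 : Led Lsl_dt (LP (LK LD1_c12 LD2_c5 LD3_c12)) = (LP (LK LD1_c12 LD2_c5 LD3_c9)) :=
  Lgr Lrot105 (Lpr_gf (K13.f241244 IH) (Lpe (K1.f36868 IH) (Lpe (f241246 IH) (Lpe (K13.f101382 IH) (Lpr_gt (K13.f101380 IH) (Lpr_dt (f43000 IH) (Lpe (K9.f101281 IH) (Lpr_dt (K12.f101283 IH) (Lpe (K13.f101285 IH) (Lpn (LP (LK LD1_c12 LD2_c5 LD3_c9))))))))))))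
theorem f410803 : Led Lsl_at (LP (LK LD1_c12 LD2_c5 LD3_c9)) = (LP (LK LD1_c8 LD2_c51 LD3_c41)) :=
  Lgr Lrot51 (Lpe (f241248 IH) (Lpr_af (f410797 IH) (Lpr_df (K13.f198117 IH) (Lpn (LP (LK LD1_c8 LD2_c51 LD3_c41))))))
theorem f410809 : Led Lsl_ff (LP (LK LD1_c12 LD2_c5 LD3_c9)) = (LP (LK LD1_c8 LD2_c51 LD3_c38)) :=
  Lgr Lrot30 (Lpr_at (f410803 IH) (Lpe (K16.f271896 IH) (Lpr_at (K16.f271902 IH) (Lpn (LP (LK LD1_c8 LD2_c51 LD3_c38))))))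
theorem f410816 : Led Lsl_ft (LP (LK LD1_c12 LD2_c5 LD3_c9)) = (LP (LK LD1_c8 LD2_c51 LD3_c38)) :=
  Lgr Lrot48 (Lpr_ff (f410809 IH) (Lpn (LP (LK LD1_c8 LD2_c51 LD3_c38))))
theorem f239207 : Led Lsl_et (LP (LK LD1_c21 LD2_c10 LD3_c34)) = (LP (LK LD1_c12 LD2_c5 LD3_c9)) :=
  Lre_e IH (LK LD1_c21 LD2_c10 LD3_c34) (LK LD1_c12 LD2_c5 LD3_c9) Lrfl Lrfl
theorem f410820 : Led Lsl_ft (LP (LK LD1_c29 LD2_c52 LD3_c52)) = (LP (LK LD1_c21 LD2_c10 LD3_c34)) :=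
  Lre_f IH (LK LD1_c29 LD2_c52 LD3_c52) (LK LD1_c21 LD2_c10 LD3_c34) Lrfl Lrfl
theorem f410821 : Led Lsl_ft (LP (LK LD1_c16 LD2_c33 LD3_c57)) = (LP (LK LD1_c26 LD2_c30 LD3_c55)) :=
  Lre_f IH (LK LD1_c16 LD2_c33 LD3_c57) (LK LD1_c26 LD2_c30 LD3_c55) Lrfl Lrfl
theorem f410822 : Led Lsl_ef (LP (LK LD1_c29 LD2_c52 LD3_c52)) = (LP (LK LD1_c26 LD2_c30 LD3_c55)) :=
  Lgr Lrot21 (Lpr_ft (f410820 IH) (Lpr_et (f239207 IH) (Lpr_ft (f410816 IH) (Lpr_et (K16.f198104 IH) (Lpr_ft (f410821 IH) (Lpn (LP (LK LD1_c26 LD2_c30 LD3_c55))))))))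
theorem f410826 : Led Lsl_ct (LP (LK LD1_c29 LD2_c52 LD3_c52)) = (LP (LK LD1_c21 LD2_c10 LD3_c37)) :=
  Lre_c IH (LK LD1_c29 LD2_c52 LD3_c52) (LK LD1_c21 LD2_c10 LD3_c37) Lrfl Lrfl
theorem f192754 : Led Lsl_ct (LP (LK LD1_c16 LD2_c33 LD3_c60)) = (LP (LK LD1_c26 LD2_c30 LD3_c55)) :=
  Lre_c IH (LK LD1_c16 LD2_c33 LD3_c60) (LK LD1_c26 LD2_c30 LD3_c55) Lrfl Lrfl
theorem f410827 : Led Lsl_et (LP (LK LD1_c21 LD2_c10 LD3_c37)) = (LP (LK LD1_c16 LD2_c33 LD3_c60)) :=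
  Lgr Lrot158 (Lpe (f410826 IH) (Lpr_ef (f410822 IH) (Lpe (f192754 IH) (Lpn (LP (LK LD1_c16 LD2_c33 LD3_c60))))))
theorem f410831 : Led Lsl_ef (LP (LK LD1_c21 LD2_c10 LD3_c37)) = (LP (LK LD1_c16 LD2_c33 LD3_c60)) :=
  Lgr Lrot88 (Lpr_et (f410827 IH) (Lpn (LP (LK LD1_c16 LD2_c33 LD3_c60))))
theorem f271925 : Led Lsl_at (LP (LK LD1_c21 LD2_c10 LD3_c32)) = (LP (LK LD1_c16 LD2_c33 LD3_c60)) :=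
  Lgr Lrot100 (Lpr_af (K16.f271923 IH) (Lpn (LP (LK LD1_c16 LD2_c33 LD3_c60))))
theorem f410834 : Led Lsl_at (LP (LK LD1_c21 LD2_c10 LD3_c37)) = (LP (LK LD1_c16 LD2_c34 LD3_c5)) :=
  Lgr Lrot80 (Lpr_ef (f410831 IH) (Lpe (f271925 IH) (Lpr_ef (K16.f271890 IH) (Lpn (LP (LK LD1_c16 LD2_c34 LD3_c5))))))
theorem f410833 : Led Lsl_ft (LP (LK LD1_c12 LD2_c5 LD3_c10)) = (LP (LK LD1_c21 LD2_c10 LD3_c37)) :=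
  Lre_f IH (LK LD1_c12 LD2_c5 LD3_c10) (LK LD1_c21 LD2_c10 LD3_c37) Lrfl Lrfl
theorem f410840 : Led Lsl_af (LP (LK LD1_c12 LD2_c5 LD3_c10)) = (LP (LK LD1_c8 LD2_c51 LD3_c42)) :=
  Lgr Lrot45 (Lpr_ft (f410833 IH) (Lpr_at (f410834 IH) (Lpr_ft (K16.f239047 IH) (Lpn (LP (LK LD1_c8 LD2_c51 LD3_c42))))))
theorem f410844 : Led Lsl_at (LP (LK LD1_c12 LD2_c5 LD3_c10)) = (LP (LK LD1_c8 LD2_c51 LD3_c42)) :=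
  Lgr Lrot100 (Lpr_af (f410840 IH) (Lpn (LP (LK LD1_c8 LD2_c51 LD3_c42))))
theorem f411277 : Led Lsl_df (LP (LK LD1_c12 LD2_c5 LD3_c10)) = (LP (LK LD1_c12 LD2_c23 LD3_c48)) :=
  Lgr Lrot18 (Lpr_at (f410844 IH) (Lpe (f239020 IH) (Lpr_at (f411273 IH) (Lpn (LP (LK LD1_c12 LD2_c23 LD3_c48))))))
theorem f410849 : Led Lsl_gt (LP (LK LD1_c21 LD2_c10 LD3_c36)) = (LP (LK LD1_c12 LD2_c5 LD3_c10)) :=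
  Lre_g IH (LK LD1_c21 LD2_c10 LD3_c36) (LK LD1_c12 LD2_c5 LD3_c10) Lrfl Lrfl
theorem f80451 : Led Lsl_et (LP (LK LD1_c0 LD2_c55 LD3_c21)) = (LP (LK LD1_c1 LD2_c57 LD3_c3)) :=
  Lre_e IH (LK LD1_c0 LD2_c55 LD3_c21) (LK LD1_c1 LD2_c57 LD3_c3) Lrfl Lrfl
theorem f38114 : Led Lsl_et (LP (LK LD1_c2 LD2_c10 LD3_c29)) = (LP (LK LD1_c1 LD2_c2 LD3_c16)) :=
  Lre_e IH (LK LD1_c2 LD2_c10 LD3_c29) (LK LD1_c1 LD2_c2 LD3_c16) Lrfl Lrfl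
theorem f80454 : Led Lsl_et (LP (LK LD1_c4 LD2_c0 LD3_c38)) = (LP (LK LD1_c4 LD2_c26 LD3_c33)) :=
  Lgr Lrot71 (Lpe (f80452 IH) (Lpe (f80451 IH) (Lpr_df (K4.f80442 IH) (Lpe (f38114 IH) (Lpe (K4.f80453 IH) (Lpn (LP (LK LD1_c4 LD2_c26 LD3_c33))))))))
theorem f411291 : Led Lsl_df (LP (LK LD1_c21 LD2_c10 LD3_c36)) = (LP (LK LD1_c16 LD2_c31 LD3_c54)) :=
  Lgr Lrot170 (Lpr_gt (f410849 IH) (Lpr_df (f411277 IH) (Lpr_et (f205320 IH) (Lpr_gt (K36.f25993 IH) (Lpr_dt (K36.f25992 IH) (Lpe (K11.f205315 IH) (Lpe (K14.f80707 IH) (Lpr_et (f80454 IH) (Lpr_gt (f40018 IH) (Lpe (f80909 IH) (Lpn (LP (LK LD1_c16 LD2_c31 LD3_c54)))))))))))))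
theorem f410850 : Led Lsl_gf (LP (LK LD1_c21 LD2_c10 LD3_c36)) = (LP (LK LD1_c16 LD2_c34 LD3_c5)) :=
  Lgr Lrot47 (Lpr_gt (f410849 IH) (Lpr_af (f410840 IH) (Lpe (K16.f239047 IH) (Lpn (LP (LK LD1_c16 LD2_c34 LD3_c5))))))
theorem f239022 : Led Lsl_ft (LP (LK LD1_c20 LD2_c26 LD3_c22)) = (LP (LK LD1_c11 LD2_c29 LD3_c14)) :=
  Lre_f IH (LK LD1_c20 LD2_c26 LD3_c22) (LK LD1_c11 LD2_c29 LD3_c14) Lrfl Lrfl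
theorem f239023 : Led Lsl_ft (LP (LK LD1_c8 LD2_c51 LD3_c42)) = (LP (LK LD1_c16 LD2_c34 LD3_c5)) :=
  Lre_f IH (LK LD1_c8 LD2_c51 LD3_c42) (LK LD1_c16 LD2_c34 LD3_c5) Lrfl Lrfl
theorem f239024 : Led Lsl_df (LP (LK LD1_c20 LD2_c26 LD3_c22)) = (LP (LK LD1_c16 LD2_c34 LD3_c5)) :=
  Lgr Lrot78 (Lpr_ft (f239022 IH) (Lpr_dt (K36.f239009 IH) (Lpr_ft (f239023 IH) (Lpn (LP (LK LD1_c16 LD2_c34 LD3_c5))))))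
theorem f239045 : Led Lsl_dt (LP (LK LD1_c20 LD2_c26 LD3_c22)) = (LP (LK LD1_c16 LD2_c34 LD3_c5)) :=
  Lgr Lrot42 (Lpr_df (f239024 IH) (Lpn (LP (LK LD1_c16 LD2_c34 LD3_c5))))
theorem f239014 : Led Lsl_et (LP (LK LD1_c11 LD2_c29 LD3_c14)) = (LP (LK LD1_c5 LD2_c50 LD3_c50)) :=
  Lre_e IH (LK LD1_c11 LD2_c29 LD3_c14) (LK LD1_c5 LD2_c50 LD3_c50) Lrfl Lrfl
theorem f407965 : Led Lsl_ft (LP (LK LD1_c12 LD2_c23 LD3_c47)) = (LP (LK LD1_c21 LD2_c30 LD3_c43)) :=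
  Lre_f IH (LK LD1_c12 LD2_c23 LD3_c47) (LK LD1_c21 LD2_c30 LD3_c43) Lrfl Lrfl
theorem f411225 : Led Lsl_ef (LP (LK LD1_c20 LD2_c26 LD3_c22)) = (LP (LK LD1_c21 LD2_c30 LD3_c43)) :=
  Lgr Lrot21 (Lpr_ft (f239022 IH) (Lpr_et (f239014 IH) (Lpr_ft (K36.f411221 IH) (Lpr_et (K32.f407958 IH) (Lpr_ft (f407965 IH) (Lpn (LP (LK LD1_c21 LD2_c30 LD3_c43))))))))
theorem f411314 : Led Lsl_et (LP (LK LD1_c20 LD2_c26 LD3_c22)) = (LP (LK LD1_c21 LD2_c30 LD3_c43)) :=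
  Lgr Lrot87 (Lpr_ef (f411225 IH) (Lpn (LP (LK LD1_c21 LD2_c30 LD3_c43))))
theorem f420705 : Led Lsl_gt (LP (LK LD1_c16 LD2_c31 LD3_c51)) = (LP (LK LD1_c21 LD2_c30 LD3_c43)) :=
  Lgr Lrot131 (Lpe (f80793 IH) (Lpr_dt (f80501 IH) (Lpe (f420669 IH) (Lpe (f201955 IH) (Lpr_gf (f420703 IH) (Lpe (f80909 IH) (Lpe (f411291 IH) (Lpr_gf (f410850 IH) (Lpe (f239045 IH) (Lpr_et (f411314 IH) (Lpn (LP (LK LD1_c21 LD2_c30 LD3_c43)))))))))))))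
theorem f411238 : Led Lsl_ft (LP (LK LD1_c20 LD2_c26 LD3_c19)) = (LP (LK LD1_c11 LD2_c29 LD3_c12)) :=
  Lre_f IH (LK LD1_c20 LD2_c26 LD3_c19) (LK LD1_c11 LD2_c29 LD3_c12) Lrfl Lrfl
theorem f411239 : Led Lsl_af (LP (LK LD1_c20 LD2_c26 LD3_c19)) = (LP (LK LD1_c21 LD2_c30 LD3_c43)) :=
  Lgr Lrot45 (Lpr_ft (f411238 IH) (Lpr_at (f411232 IH) (Lpr_ft (f407965 IH) (Lpn (LP (LK LD1_c21 LD2_c30 LD3_c43))))))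
theorem f411241 : Led Lsl_at (LP (LK LD1_c20 LD2_c26 LD3_c19)) = (LP (LK LD1_c21 LD2_c30 LD3_c43)) :=
  Lgr Lrot100 (Lpr_af (f411239 IH) (Lpn (LP (LK LD1_c21 LD2_c30 LD3_c43))))
theorem f411243 : Led Lsl_ft (LP (LK LD1_c11 LD2_c29 LD3_c12)) = (LP (LK LD1_c20 LD2_c26 LD3_c19)) :=
  Lre_f IH (LK LD1_c11 LD2_c29 LD3_c12) (LK LD1_c20 LD2_c26 LD3_c19) Lrfl Lrfl
theorem f420707 : Led Lsl_gf (LP (LK LD1_c16 LD2_c31 LD3_c51)) = (LP (LK LD1_c11 LD2_c29 LD3_c12)) :=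
  Lgr Lrot47 (Lpr_gt (f420705 IH) (Lpe (f411241 IH) (Lpe (f411243 IH) (Lpn (LP (LK LD1_c11 LD2_c29 LD3_c12))))))
theorem f80477 : Led Lsl_dt (LP (LK LD1_c26 LD2_c28 LD3_c22)) = (LP (LK LD1_c16 LD2_c31 LD3_c51)) :=
  Lre_d IH (LK LD1_c26 LD2_c28 LD3_c22) (LK LD1_c16 LD2_c31 LD3_c51) Lrfl Lrfl
theorem f80476 : Led Lsl_et (LP (LK LD1_c26 LD2_c28 LD3_c22)) = (LP (LK LD1_c16 LD2_c31 LD3_c52)) :=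
  Lre_e IH (LK LD1_c26 LD2_c28 LD3_c22) (LK LD1_c16 LD2_c31 LD3_c52) Lrfl Lrfl
theorem f56087 : Led Lsl_dt (LP (LK LD1_c4 LD2_c13 LD3_c34)) = (LP (LK LD1_c2 LD2_c16 LD3_c51)) :=
  Lgr Lrot42 (Lpr_df (K1.f56082 IH) (Lpn (LP (LK LD1_c2 LD2_c16 LD3_c51))))
theorem f56093 : Led Lsl_gt (LP (LK LD1_c4 LD2_c39 LD3_c39)) = (LP (LK LD1_c2 LD2_c16 LD3_c51)) :=
  Lre_g IH (LK LD1_c4 LD2_c39 LD3_c39) (LK LD1_c2 LD2_c16 LD3_c51) Lrfl Lrfl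
theorem f56094 : Led Lsl_dt (LP (LK LD1_c9 LD2_c14 LD3_c56)) = (LP (LK LD1_c4 LD2_c39 LD3_c39)) :=
  Lre_d IH (LK LD1_c9 LD2_c14 LD3_c56) (LK LD1_c4 LD2_c39 LD3_c39) Lrfl Lrfl
theorem f420710 : Led Lsl_gt (LP (LK LD1_c16 LD2_c31 LD3_c52)) = (LP (LK LD1_c9 LD2_c14 LD3_c56)) :=
  Lgr Lrot137 (Lpe (f80476 IH) (Lpr_dt (f80477 IH) (Lpr_gf (f420707 IH) (Lpr_df (f411236 IH) (Lpr_et (f242139 IH) (Lpe (K13.f242126 IH) (Lpe (K1.f46877 IH) (Lpr_dt (f56087 IH) (Lpe (f56093 IH) (Lpe (f56094 IH) (Lpn (LP (LK LD1_c9 LD2_c14 LD3_c56)))))))))))))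
theorem f56421 : Led Lsl_dt (LP (LK LD1_c4 LD2_c39 LD3_c39)) = (LP (LK LD1_c9 LD2_c14 LD3_c56)) :=
  Lre_d IH (LK LD1_c4 LD2_c39 LD3_c39) (LK LD1_c9 LD2_c14 LD3_c56) Lrfl Lrfl
theorem f420712 : Led Lsl_et (LP (LK LD1_c4 LD2_c39 LD3_c39)) = (LP (LK LD1_c9 LD2_c14 LD3_c57)) :=
  Lre_e IH (LK LD1_c4 LD2_c39 LD3_c39) (LK LD1_c9 LD2_c14 LD3_c57) Lrfl Lrfl
theorem f543372 : Led Lsl_gt (LP (LK LD1_c9 LD2_c14 LD3_c57)) = (LP (LK LD1_c13 LD2_c50 LD3_c41)) :=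
  Lgr Lrot131 (Lpe (f420712 IH) (Lpr_dt (f56421 IH) (Lpe (f420710 IH) (Lpe (f80462 IH) (Lpe (f421109 IH) (Lpe (f69524 IH) (Lpr_dt (f69624 IH) (Lpe (f69628 IH) (Lpe (f421111 IH) (Lpr_et (f543366 IH) (Lpn (LP (LK LD1_c13 LD2_c50 LD3_c41)))))))))))))
theorem f80461 : Led Lsl_et (LP (LK LD1_c8 LD2_c50 LD3_c39)) = (LP (LK LD1_c4 LD2_c26 LD3_c32)) :=
  Lre_e IH (LK LD1_c8 LD2_c50 LD3_c39) (LK LD1_c4 LD2_c26 LD3_c32) Lrfl Lrfl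
theorem f38136 : Led Lsl_at (LP (LK LD1_c6 LD2_c13 LD3_c54)) = (LP (LK LD1_c3 LD2_c4 LD3_c23)) :=
  Lre_a IH (LK LD1_c6 LD2_c13 LD3_c54) (LK LD1_c3 LD2_c4 LD3_c23) Lrfl Lrfl
theorem f201958 : Led Lsl_ef (LP (LK LD1_c4 LD2_c42 LD3_c42)) = (LP (LK LD1_c3 LD2_c4 LD3_c23)) :=
  Lgr Lrot20 (Lpr_at (K11.f201948 IH) (Lpr_et (K11.f38132 IH) (Lpr_at (f38136 IH) (Lpn (LP (LK LD1_c3 LD2_c4 LD3_c23))))))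
theorem f533550 : Led Lsl_dt (LP (LK LD1_c13 LD2_c50 LD3_c41)) = (LP (LK LD1_c7 LD2_c19 LD3_c7)) :=
  Lre_d IH (LK LD1_c13 LD2_c50 LD3_c41) (LK LD1_c7 LD2_c19 LD3_c7) Lrfl Lrfl
theorem f543374 : Led Lsl_gf (LP (LK LD1_c6 LD2_c14 LD3_c58)) = (LP (LK LD1_c7 LD2_c19 LD3_c7)) :=
  Lgr Lrot134 (Lpe (K11.f75743 IH) (Lpe (f201958 IH) (Lpr_gt (f420669 IH) (Lpe (f80461 IH) (Lpr_dt (f80462 IH) (Lpr_gt (f420710 IH) (Lpe (f56421 IH) (Lpr_et (f420712 IH) (Lpr_gt (f543372 IH) (Lpr_dt (f533550 IH) (Lpn (LP (LK LD1_c7 LD2_c19 LD3_c7)))))))))))))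
theorem f543382 : Led Lsl_bt (LP (LK LD1_c12 LD2_c7 LD3_c48)) = (LP (LK LD1_c6 LD2_c14 LD3_c58)) :=
  Lre_b IH (LK LD1_c12 LD2_c7 LD3_c48) (LK LD1_c6 LD2_c14 LD3_c58) Lrfl Lrfl
theorem f460969 : Led Lsl_gt (LP (LK LD1_c7 LD2_c31 LD3_c60)) = (LP (LK LD1_c13 LD2_c22 LD3_c44)) :=
  Lgr Lrot5 (Lpr_ft (K28.f460956 IH) (Lpr_at (K28.f460936 IH) (Lpe (K35.f460955 IH) (Lpn (LP (LK LD1_c13 LD2_c22 LD3_c44))))))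
theorem f476569 : Led Lsl_at (LP (LK LD1_c7 LD2_c5 LD3_c43)) = (LP (LK LD1_c13 LD2_c26 LD3_c48)) :=
  Lre_a IH (LK LD1_c7 LD2_c5 LD3_c43) (LK LD1_c13 LD2_c26 LD3_c48) Lrfl Lrfl
theorem f466599 : Led Lsl_cf (LP (LK LD1_c3 LD2_c35 LD3_c61)) = (LP (LK LD1_c3 LD2_c32 LD3_c21)) :=
  Lgr Lrot39 (Lpe (K33.f466584 IH) (Lpr_ct (K28.f458495 IH) (Lpr_et (K28.f466594 IH) (Lpn (LP (LK LD1_c3 LD2_c32 LD3_c21))))))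
theorem f512034 : Led Lsl_af (LP (LK LD1_c3 LD2_c32 LD3_c21)) = (LP (LK LD1_c3 LD2_c36 LD3_c8)) :=
  Lgr Lrot68 (Lpe (f466599 IH) (Lpr_at (K33.f512032 IH) (Lpe (K28.f466267 IH) (Lpn (LP (LK LD1_c3 LD2_c36 LD3_c8))))))
theorem f513342 : Led Lsl_at (LP (LK LD1_c7 LD2_c6 LD3_c6)) = (LP (LK LD1_c7 LD2_c12 LD3_c36)) :=
  Lgr Lrot67 (Lpr_bf (K34.f513340 IH) (Lpe (f476569 IH) (Lpe (K34.f466596 IH) (Lpr_af (f512034 IH) (Lpe (K28.f17898 IH) (Lpn (LP (LK LD1_c7 LD2_c12 LD3_c36))))))))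
theorem f466539 : Led Lsl_ft (LP (LK LD1_c13 LD2_c26 LD3_c53)) = (LP (LK LD1_c7 LD2_c6 LD3_c6)) :=
  Lgr Lrot48 (Lpr_ff (K34.f466535 IH) (Lpn (LP (LK LD1_c7 LD2_c6 LD3_c6))))
theorem f514039 : Led Lsl_gt (LP (LK LD1_c13 LD2_c26 LD3_c53)) = (LP (LK LD1_c7 LD2_c6 LD3_c5)) :=
  Lgr Lrot5 (Lpr_ft (f466539 IH) (Lpr_at (f513342 IH) (Lpr_gf (K28.f466289 IH) (Lpn (LP (LK LD1_c7 LD2_c6 LD3_c5))))))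
theorem f63104 : Led Lsl_at (LP (LK LD1_c7 LD2_c3 LD3_c55)) = (LP (LK LD1_c13 LD2_c23 LD3_c39)) :=
  Lre_a IH (LK LD1_c7 LD2_c3 LD3_c55) (LK LD1_c13 LD2_c23 LD3_c39) Lrfl Lrfl
theorem f63056 : Led Lsl_bt (LP (LK LD1_c7 LD2_c3 LD3_c55)) = (LP (LK LD1_c3 LD2_c30 LD3_c58)) :=
  Lre_b IH (LK LD1_c7 LD2_c3 LD3_c55) (LK LD1_c3 LD2_c30 LD3_c58) Lrfl Lrfl
theorem f63057 : Led Lsl_et (LP (LK LD1_c13 LD2_c15 LD3_c0)) = (LP (LK LD1_c7 LD2_c3 LD3_c55)) :=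
  Lgr Lrot74 (Lpe (K34.f18555 IH) (Lpr_ef (K24.f63053 IH) (Lpe (f63056 IH) (Lpn (LP (LK LD1_c7 LD2_c3 LD3_c55))))))
theorem f513306 : Led Lsl_at (LP (LK LD1_c7 LD2_c33 LD3_c61)) = (LP (LK LD1_c13 LD2_c15 LD3_c0)) :=
  Lgr Lrot80 (Lpr_ef (K34.f513304 IH) (Lpe (f63104 IH) (Lpe (f63057 IH) (Lpn (LP (LK LD1_c13 LD2_c15 LD3_c0))))))
theorem f97522 : Led Lsl_gt (LP (LK LD1_c13 LD2_c18 LD3_c12)) = (LP (LK LD1_c7 LD2_c0 LD3_c51)) :=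
  Lre_g IH (LK LD1_c13 LD2_c18 LD3_c12) (LK LD1_c7 LD2_c0 LD3_c51) Lrfl Lrfl
theorem f514043 : Led Lsl_ff (LP (LK LD1_c7 LD2_c33 LD3_c61)) = (LP (LK LD1_c13 LD2_c18 LD3_c12)) :=
  Lgr Lrot52 (Lpr_at (f513306 IH) (Lpr_gf (K34.f476498 IH) (Lpe (f97522 IH) (Lpn (LP (LK LD1_c13 LD2_c18 LD3_c12))))))
theorem f514049 : Led Lsl_ft (LP (LK LD1_c7 LD2_c33 LD3_c61)) = (LP (LK LD1_c13 LD2_c18 LD3_c12)) :=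
  Lgr Lrot48 (Lpr_ff (f514043 IH) (Lpn (LP (LK LD1_c13 LD2_c18 LD3_c12))))
theorem f513314 : Led Lsl_af (LP (LK LD1_c7 LD2_c33 LD3_c61)) = (LP (LK LD1_c13 LD2_c15 LD3_c0)) :=
  Lgr Lrot50 (Lpr_et (K34.f513312 IH) (Lpr_at (K33.f63096 IH) (Lpe (K34.f63090 IH) (Lpn (LP (LK LD1_c13 LD2_c15 LD3_c0))))))
theorem f63097 : Led Lsl_bt (LP (LK LD1_c13 LD2_c15 LD3_c0)) = (LP (LK LD1_c6 LD2_c58 LD3_c48)) :=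
  Lre_b IH (LK LD1_c13 LD2_c15 LD3_c0) (LK LD1_c6 LD2_c58 LD3_c48) Lrfl Lrfl
theorem f512349 : Led Lsl_ff (LP (LK LD1_c13 LD2_c15 LD3_c0)) = (LP (LK LD1_c7 LD2_c4 LD3_c0)) :=
  Lgr Lrot25 (Lpr_bt (f63097 IH) (Lpr_ft (K33.f512347 IH) (Lpr_bt (K28.f18610 IH) (Lpn (LP (LK LD1_c7 LD2_c4 LD3_c0))))))
theorem f514051 : Led Lsl_af (LP (LK LD1_c7 LD2_c4 LD3_c0)) = (LP (LK LD1_c13 LD2_c18 LD3_c12)) :=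
  Lgr Lrot45 (Lpe (f512349 IH) (Lpe (f513314 IH) (Lpr_ft (f514049 IH) (Lpn (LP (LK LD1_c13 LD2_c18 LD3_c12))))))
theorem f461803 : Led Lsl_cf (LP (LK LD1_c3 LD2_c31 LD3_c1)) = (LP (LK LD1_c3 LD2_c36 LD3_c9)) :=
  Lgr Lrot11 (Lpr_ct (K24.f461796 IH) (Lpn (LP (LK LD1_c3 LD2_c36 LD3_c9))))
theorem f490096 : Led Lsl_ct (LP (LK LD1_c7 LD2_c4 LD3_c0)) = (LP (LK LD1_c7 LD2_c12 LD3_c39)) :=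
  Lgr Lrot83 (Lpe (K28.f18610 IH) (Lpe (K28.f18848 IH) (Lpe (K24.f18850 IH) (Lpr_cf (f461803 IH) (Lpe (K28.f17900 IH) (Lpn (LP (LK LD1_c7 LD2_c12 LD3_c39))))))))
theorem f490098 : Led Lsl_at (LP (LK LD1_c7 LD2_c12 LD3_c39)) = (LP (LK LD1_c13 LD2_c38 LD3_c61)) :=
  Lre_a IH (LK LD1_c7 LD2_c12 LD3_c39) (LK LD1_c13 LD2_c38 LD3_c61) Lrfl Lrfl
theorem f514059 : Led Lsl_ct (LP (LK LD1_c13 LD2_c38 LD3_c61)) = (LP (LK LD1_c13 LD2_c18 LD3_c12)) :=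
  Lgr Lrot111 (Lpe (f490098 IH) (Lpe (f490096 IH) (Lpr_af (f514051 IH) (Lpn (LP (LK LD1_c13 LD2_c18 LD3_c12))))))
theorem f92465 : Led Lsl_ft (LP (LK LD1_c7 LD2_c6 LD3_c8)) = (LP (LK LD1_c3 LD2_c32 LD3_c38)) :=
  Lre_f IH (LK LD1_c7 LD2_c6 LD3_c8) (LK LD1_c3 LD2_c32 LD3_c38) Lrfl Lrfl
theorem f514041 : Led Lsl_gf (LP (LK LD1_c13 LD2_c26 LD3_c53)) = (LP (LK LD1_c7 LD2_c6 LD3_c8)) :=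
  Lgr Lrot47 (Lpr_gt (f514039 IH) (Lpe (K33.f92422 IH) (Lpe (f92465 IH) (Lpn (LP (LK LD1_c7 LD2_c6 LD3_c8))))))
theorem f514132 : Led Lsl_bt (LP (LK LD1_c13 LD2_c38 LD3_c61)) = (LP (LK LD1_c13 LD2_c26 LD3_c53)) :=
  Lgr Lrot92 (Lpr_ct (f514059 IH) (Lpr_gt (f97522 IH) (Lpr_cf (K3.f97512 IH) (Lpr_bt (K28.f18047 IH) (Lpe (K33.f470659 IH) (Lpr_ct (K29.f441627 IH) (Lpr_gt (K29.f441625 IH) (Lpe (K28.f108642 IH) (Lpr_bt (K28.f108639 IH) (Lpe (f514041 IH) (Lpn (LP (LK LD1_c13 LD2_c26 LD3_c53)))))))))))))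
theorem f419646 : Led Lsl_at (LP (LK LD1_c3 LD2_c46 LD3_c34)) = (LP (LK LD1_c7 LD2_c0 LD3_c51)) :=
  Lgr Lrot100 (Lpr_af (K28.f419632 IH) (Lpn (LP (LK LD1_c7 LD2_c0 LD3_c51))))
theorem f419446 : Led Lsl_ft (LP (LK LD1_c7 LD2_c34 LD3_c1)) = (LP (LK LD1_c3 LD2_c46 LD3_c34)) :=
  Lre_f IH (LK LD1_c7 LD2_c34 LD3_c1) (LK LD1_c3 LD2_c46 LD3_c34) Lrfl Lrfl
theorem f419741 : Led Lsl_gt (LP (LK LD1_c7 LD2_c34 LD3_c1)) = (LP (LK LD1_c13 LD2_c18 LD3_c12)) :=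
  Lgr Lrot5 (Lpr_ft (f419446 IH) (Lpr_at (f419646 IH) (Lpe (f97522 IH) (Lpn (LP (LK LD1_c13 LD2_c18 LD3_c12))))))
theorem f543383 : Led Lsl_ct (LP (LK LD1_c12 LD2_c7 LD3_c48)) = (LP (LK LD1_c7 LD2_c34 LD3_c1)) :=
  Lgr Lrot64 (Lpr_bt (f543382 IH) (Lpr_gf (f543374 IH) (Lpe (K35.f439428 IH) (Lpe (K35.f513174 IH) (Lpe (f460969 IH) (Lpr_cf (K35.f92423 IH) (Lpe (f514039 IH) (Lpe (f514132 IH) (Lpr_ct (f514059 IH) (Lpe (f419741 IH) (Lpn (LP (LK LD1_c7 LD2_c34 LD3_c1)))))))))))))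
theorem f97531 : Led Lsl_ft (LP (LK LD1_c7 LD2_c0 LD3_c51)) = (LP (LK LD1_c13 LD2_c18 LD3_c14)) :=
  Lre_f IH (LK LD1_c7 LD2_c0 LD3_c51) (LK LD1_c13 LD2_c18 LD3_c14) Lrfl Lrfl
theorem f419652 : Led Lsl_af (LP (LK LD1_c7 LD2_c34 LD3_c1)) = (LP (LK LD1_c13 LD2_c18 LD3_c14)) :=
  Lgr Lrot0 (Lpr_at (K34.f419650 IH) (Lpn (LP (LK LD1_c13 LD2_c18 LD3_c14))))
theorem f476501 : Led Lsl_gt (LP (LK LD1_c13 LD2_c15 LD3_c0)) = (LP (LK LD1_c7 LD2_c34 LD3_c1)) :=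
  Lgr Lrot46 (Lpr_gf (K34.f476498 IH) (Lpr_ft (f97531 IH) (Lpe (f419652 IH) (Lpn (LP (LK LD1_c7 LD2_c34 LD3_c1))))))
theorem f476504 : Led Lsl_cf (LP (LK LD1_c13 LD2_c15 LD3_c0)) = (LP (LK LD1_c7 LD2_c5 LD3_c43)) :=
  Lgr Lrot58 (Lpr_gf (K34.f476498 IH) (Lpr_cf (K3.f97512 IH) (Lpr_bt (K28.f18047 IH) (Lpr_gf (K33.f464220 IH) (Lpe (K33.f457455 IH) (Lpr_ct (K28.f450704 IH) (Lpq (K34.f460763 IH) (Lpe (K34.f455812 IH) (Lpe (K3.f17843 IH) (Lpr_gf (K28.f108462 IH) (Lpe (K34.f108464 IH) (Lpn (LP (LK LD1_c7 LD2_c5 LD3_c43))))))))))))))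
theorem f108484 : Led Lsl_bt (LP (LK LD1_c3 LD2_c32 LD3_c19)) = (LP (LK LD1_c1 LD2_c42 LD3_c53)) :=
  Lre_b IH (LK LD1_c3 LD2_c32 LD3_c19) (LK LD1_c1 LD2_c42 LD3_c53) Lrfl Lrfl
theorem f147270 : Led Lsl_ct (LP (LK LD1_c3 LD2_c32 LD3_c19)) = (LP (LK LD1_c3 LD2_c41 LD3_c21)) :=
  Lgr Lrot59 (Lpr_cf (K28.f147266 IH) (Lpn (LP (LK LD1_c3 LD2_c41 LD3_c21))))
theorem f147284 : Led Lsl_gt (LP (LK LD1_c7 LD2_c23 LD3_c9)) = (LP (LK LD1_c3 LD2_c41 LD3_c21)) :=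
  Lre_g IH (LK LD1_c7 LD2_c23 LD3_c9) (LK LD1_c3 LD2_c41 LD3_c21) Lrfl Lrfl
theorem f147163 : Led Lsl_ft (LP (LK LD1_c13 LD2_c57 LD3_c45)) = (LP (LK LD1_c23 LD2_c29 LD3_c41)) :=
  Lre_f IH (LK LD1_c13 LD2_c57 LD3_c45) (LK LD1_c23 LD2_c29 LD3_c41) Lrfl Lrfl
theorem f123759 : Led Lsl_ft (LP (LK LD1_c23 LD2_c40 LD3_c51)) = (LP (LK LD1_c14 LD2_c6 LD3_c45)) :=
  Lre_f IH (LK LD1_c23 LD2_c40 LD3_c51) (LK LD1_c14 LD2_c6 LD3_c45) Lrfl Lrfl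
theorem f147164 : Led Lsl_bt (LP (LK LD1_c23 LD2_c29 LD3_c41)) = (LP (LK LD1_c23 LD2_c40 LD3_c51)) :=
  Lgr Lrot35 (Lpe (f147163 IH) (Lpr_bf (K8.f147146 IH) (Lpe (f123759 IH) (Lpn (LP (LK LD1_c23 LD2_c40 LD3_c51))))))
theorem f147169 : Led Lsl_dt (LP (LK LD1_c13 LD2_c57 LD3_c46)) = (LP (LK LD1_c23 LD2_c29 LD3_c41)) :=
  Lre_d IH (LK LD1_c13 LD2_c57 LD3_c46) (LK LD1_c23 LD2_c29 LD3_c41) Lrfl Lrfl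
theorem f123755 : Led Lsl_dt (LP (LK LD1_c23 LD2_c40 LD3_c51)) = (LP (LK LD1_c14 LD2_c6 LD3_c46)) :=
  Lre_d IH (LK LD1_c23 LD2_c40 LD3_c51) (LK LD1_c14 LD2_c6 LD3_c46) Lrfl Lrfl
theorem f147170 : Led Lsl_bf (LP (LK LD1_c13 LD2_c57 LD3_c46)) = (LP (LK LD1_c14 LD2_c6 LD3_c46)) :=
  Lgr Lrot93 (Lpr_dt (f147169 IH) (Lpr_bt (f147164 IH) (Lpr_dt (f123755 IH) (Lpn (LP (LK LD1_c14 LD2_c6 LD3_c46))))))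
theorem f147176 : Led Lsl_gt (LP (LK LD1_c13 LD2_c57 LD3_c46)) = (LP (LK LD1_c7 LD2_c23 LD3_c9)) :=
  Lre_g IH (LK LD1_c13 LD2_c57 LD3_c46) (LK LD1_c7 LD2_c23 LD3_c9) Lrfl Lrfl
theorem f439422 : Led Lsl_gt (LP (LK LD1_c7 LD2_c19 LD3_c8)) = (LP (LK LD1_c3 LD2_c39 LD3_c28)) :=
  Lre_g IH (LK LD1_c7 LD2_c19 LD3_c8) (LK LD1_c3 LD2_c39 LD3_c28) Lrfl Lrfl
theorem f488282 : Led Lsl_ct (LP (LK LD1_c7 LD2_c23 LD3_c9)) = (LP (LK LD1_c7 LD2_c19 LD3_c8)) :=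
  Lgr Lrot91 (Lpe (f147176 IH) (Lpr_bf (f147170 IH) (Lpe (K24.f123737 IH) (Lpe (K28.f103803 IH) (Lpr_cf (K28.f468292 IH) (Lpr_bt (K28.f439423 IH) (Lpe (K28.f128316 IH) (Lpe (K35.f128305 IH) (Lpe (K28.f439406 IH) (Lpe (f439422 IH) (Lpn (LP (LK LD1_c7 LD2_c19 LD3_c8)))))))))))))
theorem f488284 : Led Lsl_cf (LP (LK LD1_c7 LD2_c23 LD3_c9)) = (LP (LK LD1_c7 LD2_c19 LD3_c8)) :=
  Lgr Lrot11 (Lpr_ct (f488282 IH) (Lpn (LP (LK LD1_c7 LD2_c19 LD3_c8))))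
theorem f543400 : Led Lsl_gt (LP (LK LD1_c6 LD2_c14 LD3_c58)) = (LP (LK LD1_c7 LD2_c19 LD3_c8)) :=
  Lgr Lrot82 (Lpe (f543382 IH) (Lpr_ct (f543383 IH) (Lpe (f476501 IH) (Lpr_cf (f476504 IH) (Lpr_bt (K34.f108464 IH) (Lpe (K28.f97380 IH) (Lpe (f108484 IH) (Lpr_ct (f147270 IH) (Lpe (f147284 IH) (Lpr_cf (f488284 IH) (Lpn (LP (LK LD1_c7 LD2_c19 LD3_c8)))))))))))))
theorem f201951 : Led Lsl_af (LP (LK LD1_c4 LD2_c42 LD3_c42)) = (LP (LK LD1_c4 LD2_c26 LD3_c34)) :=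
  Lgr Lrot0 (Lpr_at (K11.f201948 IH) (Lpn (LP (LK LD1_c4 LD2_c26 LD3_c34))))
theorem f420716 : Led Lsl_gf (LP (LK LD1_c4 LD2_c42 LD3_c42)) = (LP (LK LD1_c4 LD2_c26 LD3_c31)) :=
  Lgr Lrot76 (Lpr_af (f201951 IH) (Lpe (K11.f38129 IH) (Lpr_gt (f80465 IH) (Lpn (LP (LK LD1_c4 LD2_c26 LD3_c31))))))
theorem f80466 : Led Lsl_et (LP (LK LD1_c8 LD2_c50 LD3_c36)) = (LP (LK LD1_c4 LD2_c26 LD3_c31)) :=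
  Lre_e IH (LK LD1_c8 LD2_c50 LD3_c36) (LK LD1_c4 LD2_c26 LD3_c31) Lrfl Lrfl
theorem f35679 : Led Lsl_dt (LP (LK LD1_c3 LD2_c0 LD3_c59)) = (LP (LK LD1_c6 LD2_c9 LD3_c13)) :=
  Lre_d IH (LK LD1_c3 LD2_c0 LD3_c59) (LK LD1_c6 LD2_c9 LD3_c13) Lrfl Lrfl
theorem f35688 : Led Lsl_gt (LP (LK LD1_c11 LD2_c59 LD3_c35)) = (LP (LK LD1_c6 LD2_c9 LD3_c13)) :=
  Lre_g IH (LK LD1_c11 LD2_c59 LD3_c35) (LK LD1_c6 LD2_c9 LD3_c13) Lrfl Lrfl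
theorem f80560 : Led Lsl_dt (LP (LK LD1_c8 LD2_c50 LD3_c36)) = (LP (LK LD1_c11 LD2_c59 LD3_c35)) :=
  Lgr Lrot136 (Lpr_et (f80466 IH) (Lpe (f80465 IH) (Lpe (K11.f38128 IH) (Lpe (K4.f80442 IH) (Lpr_gf (K8.f80547 IH) (Lpe (K1.f37204 IH) (Lpr_gf (K1.f59681 IH) (Lpe (f35672 IH) (Lpr_dt (f35679 IH) (Lpe (f35688 IH) (Lpn (LP (LK LD1_c11 LD2_c59 LD3_c35)))))))))))))
theorem f70787 : Led Lsl_af (LP (LK LD1_c7 LD2_c57 LD3_c3)) = (LP (LK LD1_c4 LD2_c25 LD3_c10)) :=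
  Lgr Lrot0 (Lpr_at (K2.f70779 IH) (Lpn (LP (LK LD1_c4 LD2_c25 LD3_c10))))
theorem f443069 : Led Lsl_gf (LP (LK LD1_c7 LD2_c57 LD3_c3)) = (LP (LK LD1_c4 LD2_c25 LD3_c7)) :=
  Lgr Lrot76 (Lpr_af (f70787 IH) (Lpe (K2.f70805 IH) (Lpr_gt (K4.f72225 IH) (Lpn (LP (LK LD1_c4 LD2_c25 LD3_c7))))))
theorem f38323 : Led Lsl_dt (LP (LK LD1_c4 LD2_c25 LD3_c33)) = (LP (LK LD1_c8 LD2_c48 LD3_c39)) :=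
  Lre_d IH (LK LD1_c4 LD2_c25 LD3_c33) (LK LD1_c8 LD2_c48 LD3_c39) Lrfl Lrfl
theorem f420665 : Led Lsl_et (LP (LK LD1_c8 LD2_c47 LD3_c52)) = (LP (LK LD1_c4 LD2_c25 LD3_c7)) :=
  Lre_e IH (LK LD1_c8 LD2_c47 LD3_c52) (LK LD1_c4 LD2_c25 LD3_c7) Lrfl Lrfl
theorem f201971 : Led Lsl_at (LP (LK LD1_c4 LD2_c42 LD3_c41)) = (LP (LK LD1_c4 LD2_c26 LD3_c33)) :=
  Lgr Lrot51 (Lpe (K11.f59260 IH) (Lpr_af (K11.f201960 IH) (Lpe (K4.f80453 IH) (Lpn (LP (LK LD1_c4 LD2_c26 LD3_c33))))))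
theorem f210851 : Led Lsl_ft (LP (LK LD1_c9 LD2_c19 LD3_c40)) = (LP (LK LD1_c4 LD2_c42 LD3_c41)) :=
  Lre_f IH (LK LD1_c9 LD2_c19 LD3_c40) (LK LD1_c4 LD2_c42 LD3_c41) Lrfl Lrfl
theorem f420662 : Led Lsl_gt (LP (LK LD1_c9 LD2_c19 LD3_c40)) = (LP (LK LD1_c8 LD2_c50 LD3_c41)) :=
  Lgr Lrot5 (Lpr_ft (f210851 IH) (Lpr_at (f201971 IH) (Lpe (K4.f80906 IH) (Lpn (LP (LK LD1_c8 LD2_c50 LD3_c41))))))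
theorem f210848 : Led Lsl_dt (LP (LK LD1_c4 LD2_c42 LD3_c42)) = (LP (LK LD1_c9 LD2_c19 LD3_c40)) :=
  Lre_d IH (LK LD1_c4 LD2_c42 LD3_c42) (LK LD1_c9 LD2_c19 LD3_c40) Lrfl Lrfl
theorem f443072 : Led Lsl_gt (LP (LK LD1_c8 LD2_c48 LD3_c39)) = (LP (LK LD1_c11 LD2_c59 LD3_c35)) :=
  Lgr Lrot112 (Lpe (f38323 IH) (Lpr_et (K2.f38255 IH) (Lpr_gf (f443069 IH) (Lpe (f420665 IH) (Lpr_dt (K4.f99311 IH) (Lpe (f420662 IH) (Lpe (f210848 IH) (Lpr_gf (f420716 IH) (Lpe (f80466 IH) (Lpr_dt (f80560 IH) (Lpn (LP (LK LD1_c11 LD2_c59 LD3_c35)))))))))))))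
theorem f35681 : Led Lsl_ft (LP (LK LD1_c3 LD2_c0 LD3_c59)) = (LP (LK LD1_c6 LD2_c9 LD3_c14)) :=
  Lre_f IH (LK LD1_c3 LD2_c0 LD3_c59) (LK LD1_c6 LD2_c9 LD3_c14) Lrfl Lrfl
theorem f445681 : Led Lsl_gf (LP (LK LD1_c4 LD2_c25 LD3_c33)) = (LP (LK LD1_c6 LD2_c9 LD3_c11)) :=
  Lgr Lrot76 (Lpr_af (K2.f38291 IH) (Lpe (f35681 IH) (Lpr_gt (f35556 IH) (Lpn (LP (LK LD1_c6 LD2_c9 LD3_c11))))))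
theorem f35557 : Led Lsl_et (LP (LK LD1_c11 LD2_c59 LD3_c30)) = (LP (LK LD1_c6 LD2_c9 LD3_c11)) :=
  Lre_e IH (LK LD1_c11 LD2_c59 LD3_c30) (LK LD1_c6 LD2_c9 LD3_c11) Lrfl Lrfl
theorem f543406 : Led Lsl_dt (LP (LK LD1_c11 LD2_c59 LD3_c30)) = (LP (LK LD1_c7 LD2_c19 LD3_c8)) :=
  Lgr Lrot37 (Lpr_et (f35557 IH) (Lpe (f445681 IH) (Lpr_dt (f38323 IH) (Lpr_gt (f443072 IH) (Lpe (f80560 IH) (Lpr_et (f80466 IH) (Lpe (f420716 IH) (Lpr_ef (f201958 IH) (Lpr_dt (K11.f75743 IH) (Lpr_gt (f543400 IH) (Lpn (LP (LK LD1_c7 LD2_c19 LD3_c8)))))))))))))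
theorem f543410 : Led Lsl_dt (LP (LK LD1_c3 LD2_c3 LD3_c46)) = (LP (LK LD1_c3 LD2_c39 LD3_c28)) :=
  Lgr Lrot56 (Lpr_et (K11.f38130 IH) (Lpe (K11.f202031 IH) (Lpe (K1.f16596 IH) (Lpr_dt (f16425 IH) (Lpr_gt (f16537 IH) (Lpe (f408073 IH) (Lpr_et (f408085 IH) (Lpr_gt (f35569 IH) (Lpr_dt (f543406 IH) (Lpr_gt (f439422 IH) (Lpn (LP (LK LD1_c3 LD2_c39 LD3_c28)))))))))))))
theorem f205498 : Led Lsl_ft (LP (LK LD1_c12 LD2_c8 LD3_c17)) = (LP (LK LD1_c6 LD2_c14 LD3_c57)) :=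
  Lre_f IH (LK LD1_c12 LD2_c8 LD3_c17) (LK LD1_c6 LD2_c14 LD3_c57) Lrfl Lrfl
theorem f128306 : Led Lsl_cf (LP (LK LD1_c3 LD2_c40 LD3_c50)) = (LP (LK LD1_c3 LD2_c39 LD3_c28)) :=
  Lgr Lrot97 (Lpr_bt (K35.f128305 IH) (Lpr_ct (K4.f122347 IH) (Lpr_bt (K5.f128301 IH) (Lpr_ct (K28.f94448 IH) (Lpr_bt (K35.f105999 IH) (Lpn (LP (LK LD1_c3 LD2_c39 LD3_c28))))))))
theorem f543424 : Led Lsl_at (LP (LK LD1_c6 LD2_c14 LD3_c57)) = (LP (LK LD1_c3 LD2_c40 LD3_c50)) :=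
  Lgr Lrot33 (Lpe (f205498 IH) (Lpr_dt (K11.f75745 IH) (Lpr_ct (K11.f205496 IH) (Lpr_dt (K11.f205495 IH) (Lpr_ct (K11.f205494 IH) (Lpr_dt (K11.f205493 IH) (Lpe (K11.f205486 IH) (Lpr_dt (f543410 IH) (Lpe (f128306 IH) (Lpn (LP (LK LD1_c3 LD2_c40 LD3_c50))))))))))))
theorem f463268 : Led Lsl_ft (LP (LK LD1_c3 LD2_c40 LD3_c50)) = (LP (LK LD1_c7 LD2_c4 LD3_c25)) :=
  Lgr Lrot75 (Lpe (K28.f122356 IH) (Lpr_ff (K28.f463265 IH) (Lpe (K29.f463267 IH) (Lpn (LP (LK LD1_c7 LD2_c4 LD3_c25))))))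
theorem f543543 : Led Lsl_af (LP (LK LD1_c12 LD2_c8 LD3_c17)) = (LP (LK LD1_c7 LD2_c4 LD3_c25)) :=
  Lgr Lrot45 (Lpr_ft (f205498 IH) (Lpr_at (f543424 IH) (Lpr_ft (f463268 IH) (Lpn (LP (LK LD1_c7 LD2_c4 LD3_c25))))))
theorem f131730 : Led Lsl_bt (LP (LK LD1_c3 LD2_c43 LD3_c42)) = (LP (LK LD1_c7 LD2_c27 LD3_c50)) :=
  Lre_b IH (LK LD1_c3 LD2_c43 LD3_c42) (LK LD1_c7 LD2_c27 LD3_c50) Lrfl Lrfl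
theorem f463332 : Led Lsl_et (LP (LK LD1_c7 LD2_c27 LD3_c50)) = (LP (LK LD1_c7 LD2_c4 LD3_c25)) :=
  Lgr Lrot74 (Lpe (f131730 IH) (Lpr_ef (K29.f463324 IH) (Lpe (K29.f463267 IH) (Lpn (LP (LK LD1_c7 LD2_c4 LD3_c25))))))
theorem f209164 : Led Lsl_at (LP (LK LD1_c14 LD2_c5 LD3_c12)) = (LP (LK LD1_c7 LD2_c27 LD3_c50)) :=
  Lre_a IH (LK LD1_c14 LD2_c5 LD3_c12) (LK LD1_c7 LD2_c27 LD3_c50) Lrfl Lrfl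
theorem f543554 : Led Lsl_et (LP (LK LD1_c12 LD2_c8 LD3_c17)) = (LP (LK LD1_c14 LD2_c5 LD3_c12)) :=
  Lgr Lrot123 (Lpr_af (f543543 IH) (Lpe (f463332 IH) (Lpe (f209164 IH) (Lpn (LP (LK LD1_c14 LD2_c5 LD3_c12))))))
theorem f543558 : Led Lsl_ef (LP (LK LD1_c12 LD2_c8 LD3_c17)) = (LP (LK LD1_c14 LD2_c5 LD3_c12)) :=
  Lgr Lrot88 (Lpr_et (f543554 IH) (Lpn (LP (LK LD1_c14 LD2_c5 LD3_c12))))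
theorem f75725 : Led Lsl_ct (LP (LK LD1_c12 LD2_c8 LD3_c17)) = (LP (LK LD1_c6 LD2_c14 LD3_c58)) :=
  Lre_c IH (LK LD1_c12 LD2_c8 LD3_c17) (LK LD1_c6 LD2_c14 LD3_c58) Lrfl Lrfl
theorem f210900 : Led Lsl_et (LP (LK LD1_c6 LD2_c14 LD3_c58)) = (LP (LK LD1_c12 LD2_c8 LD3_c18)) :=
  Lre_e IH (LK LD1_c6 LD2_c14 LD3_c58) (LK LD1_c12 LD2_c8 LD3_c18) Lrfl Lrfl
theorem f543560 : Led Lsl_ct (LP (LK LD1_c12 LD2_c8 LD3_c18)) = (LP (LK LD1_c14 LD2_c5 LD3_c12)) :=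
  Lgr Lrot15 (Lpe (f210900 IH) (Lpe (f75725 IH) (Lpr_ef (f543558 IH) (Lpn (LP (LK LD1_c14 LD2_c5 LD3_c12))))))
theorem f469280 : Led Lsl_gt (LP (LK LD1_c7 LD2_c27 LD3_c47)) = (LP (LK LD1_c14 LD2_c5 LD3_c12)) :=
  Lre_g IH (LK LD1_c7 LD2_c27 LD3_c47) (LK LD1_c14 LD2_c5 LD3_c12) Lrfl Lrfl
theorem f469275 : Led Lsl_cf (LP (LK LD1_c7 LD2_c27 LD3_c47)) = (LP (LK LD1_c13 LD2_c38 LD3_c12)) :=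
  Lgr Lrot11 (Lpr_ct (K33.f469272 IH) (Lpn (LP (LK LD1_c13 LD2_c38 LD3_c12))))
theorem f116247 : Led Lsl_gt (LP (LK LD1_c7 LD2_c12 LD3_c2)) = (LP (LK LD1_c13 LD2_c38 LD3_c12)) :=
  Lre_g IH (LK LD1_c7 LD2_c12 LD3_c2) (LK LD1_c13 LD2_c38 LD3_c12) Lrfl Lrfl
theorem f543568 : Led Lsl_bt (LP (LK LD1_c12 LD2_c8 LD3_c18)) = (LP (LK LD1_c13 LD2_c50 LD3_c25)) :=
  Lgr Lrot22 (Lpr_ct (f543560 IH) (Lpe (f469280 IH) (Lpr_cf (f469275 IH) (Lpe (f116247 IH) (Lpr_bf (K33.f108615 IH) (Lpe (K35.f92423 IH) (Lpr_gf (K28.f460958 IH) (Lpr_cf (K28.f463886 IH) (Lpr_bt (K28.f92320 IH) (Lpe (K28.f463892 IH) (Lpn (LP (LK LD1_c13 LD2_c50 LD3_c25)))))))))))))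
theorem f210888 : Led Lsl_ft (LP (LK LD1_c6 LD2_c15 LD3_c7)) = (LP (LK LD1_c12 LD2_c8 LD3_c18)) :=
  Lre_f IH (LK LD1_c6 LD2_c15 LD3_c7) (LK LD1_c12 LD2_c8 LD3_c18) Lrfl Lrfl
theorem f543572 : Led Lsl_bf (LP (LK LD1_c6 LD2_c15 LD3_c7)) = (LP (LK LD1_c7 LD2_c18 LD3_c57)) :=
  Lgr Lrot61 (Lpr_ft (f210888 IH) (Lpr_bt (f543568 IH) (Lpr_ft (K28.f94555 IH) (Lpn (LP (LK LD1_c7 LD2_c18 LD3_c57))))))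
theorem f210893 : Led Lsl_gt (LP (LK LD1_c6 LD2_c15 LD3_c7)) = (LP (LK LD1_c12 LD2_c8 LD3_c32)) :=
  Lre_g IH (LK LD1_c6 LD2_c15 LD3_c7) (LK LD1_c12 LD2_c8 LD3_c32) Lrfl Lrfl
theorem f64667 : Led Lsl_gt (LP (LK LD1_c13 LD2_c23 LD3_c18)) = (LP (LK LD1_c7 LD2_c3 LD3_c39)) :=
  Lre_g IH (LK LD1_c13 LD2_c23 LD3_c18) (LK LD1_c7 LD2_c3 LD3_c39) Lrfl Lrfl
theorem f452012 : Led Lsl_ct (LP (LK LD1_c7 LD2_c54 LD3_c0)) = (LP (LK LD1_c14 LD2_c54 LD3_c5)) :=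
  Lre_c IH (LK LD1_c7 LD2_c54 LD3_c0) (LK LD1_c14 LD2_c54 LD3_c5) Lrfl Lrfl
theorem f533882 : Led Lsl_gf (LP (LK LD1_c13 LD2_c52 LD3_c55)) = (LP (LK LD1_c14 LD2_c54 LD3_c5)) :=
  Lgr Lrot129 (Lpr_cf (K35.f533875 IH) (Lpr_bt (K35.f108079 IH) (Lpr_gt (K35.f108075 IH) (Lpe (K8.f26203 IH) (Lpr_ct (K28.f26204 IH) (Lpr_gt (K28.f459381 IH) (Lpq (K28.f462170 IH) (Lpe (K28.f451270 IH) (Lpr_bt (K33.f451847 IH) (Lpr_gt (K35.f451973 IH) (Lpr_ct (f452012 IH) (Lpn (LP (LK LD1_c14 LD2_c54 LD3_c5))))))))))))))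
theorem f464987 : Led Lsl_ff (LP (LK LD1_c3 LD2_c36 LD3_c38)) = (LP (LK LD1_c6 LD2_c58 LD3_c8)) :=
  Lgr Lrot30 (Lpr_at (K28.f128168 IH) (Lpr_ft (K28.f464981 IH) (Lpr_at (K28.f464971 IH) (Lpn (LP (LK LD1_c6 LD2_c58 LD3_c8))))))
theorem f489531 : Led Lsl_gf (LP (LK LD1_c7 LD2_c13 LD3_c32)) = (LP (LK LD1_c13 LD2_c13 LD3_c56)) :=
  Lgr Lrot76 (Lpe (K28.f128168 IH) (Lpr_ff (f464987 IH) (Lpr_gt (K35.f458567 IH) (Lpn (LP (LK LD1_c13 LD2_c13 LD3_c56))))))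
theorem f471256 : Led Lsl_gt (LP (LK LD1_c7 LD2_c36 LD3_c24)) = (LP (LK LD1_c14 LD2_c20 LD3_c25)) :=
  Lre_g IH (LK LD1_c7 LD2_c36 LD3_c24) (LK LD1_c14 LD2_c20 LD3_c25) Lrfl Lrfl
theorem f470889 : Led Lsl_cf (LP (LK LD1_c7 LD2_c26 LD3_c7)) = (LP (LK LD1_c7 LD2_c26 LD3_c7)) :=
  Lgr Lrot1 (Lpe (K33.f470887 IH) (Lpe (K33.f452033 IH) (Lpr_at (K33.f470853 IH) (Lpn (LP (LK LD1_c7 LD2_c26 LD3_c7))))))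
theorem f452055 : Led Lsl_ct (LP (LK LD1_c14 LD2_c54 LD3_c5)) = (LP (LK LD1_c7 LD2_c54 LD3_c0)) :=
  Lre_c IH (LK LD1_c14 LD2_c54 LD3_c5) (LK LD1_c7 LD2_c54 LD3_c0) Lrfl Lrfl
theorem f122585 : Led Lsl_gt (LP (LK LD1_c7 LD2_c20 LD3_c35)) = (LP (LK LD1_c13 LD2_c53 LD3_c13)) :=
  Lre_g IH (LK LD1_c7 LD2_c20 LD3_c35) (LK LD1_c13 LD2_c53 LD3_c13) Lrfl Lrfl
theorem f471739 : Led Lsl_bt (LP (LK LD1_c14 LD2_c54 LD3_c5)) = (LP (LK LD1_c13 LD2_c53 LD3_c13)) :=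
  Lgr Lrot92 (Lpr_ct (f452055 IH) (Lpr_gt (K35.f470891 IH) (Lpr_cf (f470889 IH) (Lpr_bt (K33.f470852 IH) (Lpe (K34.f470896 IH) (Lpr_ct (K8.f11652 IH) (Lpr_gt (K29.f11672 IH) (Lpr_cf (K29.f471728 IH) (Lpr_bt (K29.f471738 IH) (Lpr_gt (f122585 IH) (Lpn (LP (LK LD1_c13 LD2_c53 LD3_c13)))))))))))))
theorem f471741 : Led Lsl_bf (LP (LK LD1_c14 LD2_c54 LD3_c5)) = (LP (LK LD1_c13 LD2_c53 LD3_c13)) :=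
  Lgr Lrot24 (Lpr_bt (f471739 IH) (Lpn (LP (LK LD1_c13 LD2_c53 LD3_c13))))
theorem f533884 : Led Lsl_cf (LP (LK LD1_c14 LD2_c20 LD3_c25)) = (LP (LK LD1_c13 LD2_c53 LD3_c13)) :=
  Lgr Lrot163 (Lpe (f471256 IH) (Lpr_cf (K35.f471248 IH) (Lpr_gf (K29.f463149 IH) (Lpr_bf (K8.f159987 IH) (Lpe (K29.f160478 IH) (Lpr_gf (f489531 IH) (Lpr_cf (K35.f471437 IH) (Lpr_bt (K35.f471436 IH) (Lpr_gf (f533882 IH) (Lpr_bf (f471741 IH) (Lpn (LP (LK LD1_c13 LD2_c53 LD3_c13)))))))))))))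
theorem f471257 : Led Lsl_dt (LP (LK LD1_c14 LD2_c20 LD3_c25)) = (LP (LK LD1_c23 LD2_c58 LD3_c14)) :=
  Lre_d IH (LK LD1_c14 LD2_c20 LD3_c25) (LK LD1_c23 LD2_c58 LD3_c14) Lrfl Lrfl
theorem f472094 : Led Lsl_ct (LP (LK LD1_c31 LD2_c18 LD3_c11)) = (LP (LK LD1_c23 LD2_c58 LD3_c14)) :=
  Lre_c IH (LK LD1_c31 LD2_c18 LD3_c11) (LK LD1_c23 LD2_c58 LD3_c14) Lrfl Lrfl
theorem f461111 : Led Lsl_ct (LP (LK LD1_c14 LD2_c23 LD3_c1)) = (LP (LK LD1_c24 LD2_c1 LD3_c21)) :=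
  Lre_c IH (LK LD1_c14 LD2_c23 LD3_c1) (LK LD1_c24 LD2_c1 LD3_c21) Lrfl Lrfl
theorem f533890 : Led Lsl_gf (LP (LK LD1_c31 LD2_c18 LD3_c11)) = (LP (LK LD1_c24 LD2_c1 LD3_c21)) :=
  Lgr Lrot104 (Lpr_ct (f472094 IH) (Lpe (f471257 IH) (Lpr_cf (f533884 IH) (Lpe (f122585 IH) (Lpr_cf (K35.f471759 IH) (Lpe (K28.f88239 IH) (Lpe (K5.f88214 IH) (Lpr_gt (K29.f88221 IH) (Lpr_ct (f461111 IH) (Lpn (LP (LK LD1_c24 LD2_c1 LD3_c21))))))))))))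
theorem f472093 : Led Lsl_ct (LP (LK LD1_c23 LD2_c58 LD3_c14)) = (LP (LK LD1_c31 LD2_c18 LD3_c11)) :=
  Lre_c IH (LK LD1_c23 LD2_c58 LD3_c14) (LK LD1_c31 LD2_c18 LD3_c11) Lrfl Lrfl
theorem f443323 : Led Lsl_bt (LP (LK LD1_c3 LD2_c47 LD3_c59)) = (LP (LK LD1_c7 LD2_c36 LD3_c61)) :=
  Lre_b IH (LK LD1_c3 LD2_c47 LD3_c59) (LK LD1_c7 LD2_c36 LD3_c61) Lrfl Lrfl
theorem f533895 : Led Lsl_bt (LP (LK LD1_c23 LD2_c58 LD3_c14)) = (LP (LK LD1_c14 LD2_c21 LD3_c23)) :=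
  Lgr Lrot22 (Lpr_ct (f472093 IH) (Lpr_gf (f533890 IH) (Lpe (f461111 IH) (Lpe (K29.f88221 IH) (Lpe (K28.f88164 IH) (Lpr_ct (K29.f87986 IH) (Lpr_gf (K29.f463737 IH) (Lpe (K29.f443327 IH) (Lpr_bt (f443323 IH) (Lpe (K34.f533413 IH) (Lpn (LP (LK LD1_c14 LD2_c21 LD3_c23)))))))))))))
theorem f144799 : Led Lsl_bt (LP (LK LD1_c7 LD2_c40 LD3_c57)) = (LP (LK LD1_c14 LD2_c28 LD3_c52)) :=
  Lre_b IH (LK LD1_c7 LD2_c40 LD3_c57) (LK LD1_c14 LD2_c28 LD3_c52) Lrfl Lrfl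
theorem f533901 : Led Lsl_ff (LP (LK LD1_c23 LD2_c58 LD3_c14)) = (LP (LK LD1_c14 LD2_c28 LD3_c52)) :=
  Lgr Lrot25 (Lpr_bt (f533895 IH) (Lpr_ft (K34.f533415 IH) (Lpr_bt (f144799 IH) (Lpn (LP (LK LD1_c14 LD2_c28 LD3_c52))))))
theorem f533907 : Led Lsl_ft (LP (LK LD1_c23 LD2_c58 LD3_c14)) = (LP (LK LD1_c14 LD2_c28 LD3_c52)) :=
  Lgr Lrot48 (Lpr_ff (f533901 IH) (Lpn (LP (LK LD1_c14 LD2_c28 LD3_c52))))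
theorem f463103 : Led Lsl_dt (LP (LK LD1_c14 LD2_c54 LD3_c15)) = (LP (LK LD1_c14 LD2_c6 LD3_c57)) :=
  Lgr Lrot42 (Lpr_df (K28.f463099 IH) (Lpn (LP (LK LD1_c14 LD2_c6 LD3_c57))))
theorem f463180 : Led Lsl_ct (LP (LK LD1_c14 LD2_c6 LD3_c57)) = (LP (LK LD1_c23 LD2_c41 LD3_c2)) :=
  Lre_c IH (LK LD1_c14 LD2_c6 LD3_c57) (LK LD1_c23 LD2_c41 LD3_c2) Lrfl Lrfl
theorem f463102 : Led Lsl_dt (LP (LK LD1_c31 LD2_c10 LD3_c47)) = (LP (LK LD1_c23 LD2_c41 LD3_c2)) :=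
  Lre_d IH (LK LD1_c31 LD2_c10 LD3_c47) (LK LD1_c23 LD2_c41 LD3_c2) Lrfl Lrfl
theorem f471258 : Led Lsl_gt (LP (LK LD1_c23 LD2_c58 LD3_c14)) = (LP (LK LD1_c31 LD2_c10 LD3_c47)) :=
  Lgr Lrot189 (Lpe (f471257 IH) (Lpe (f471256 IH) (Lpr_ct (K29.f471245 IH) (Lpr_gt (K29.f463107 IH) (Lpr_dt (K28.f463092 IH) (Lpr_gt (K28.f463094 IH) (Lpr_dt (f463103 IH) (Lpr_ct (f463180 IH) (Lpe (f463102 IH) (Lpn (LP (LK LD1_c31 LD2_c10 LD3_c47))))))))))))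
theorem f204022 : Led Lsl_af (LP (LK LD1_c23 LD2_c57 LD3_c19)) = (LP (LK LD1_c14 LD2_c28 LD3_c52)) :=
  Lgr Lrot0 (Lpr_at (K35.f204020 IH) (Lpn (LP (LK LD1_c14 LD2_c28 LD3_c52))))
theorem f533913 : Led Lsl_gt (LP (LK LD1_c31 LD2_c10 LD3_c47)) = (LP (LK LD1_c23 LD2_c57 LD3_c19)) :=
  Lgr Lrot46 (Lpe (f471258 IH) (Lpr_ft (f533907 IH) (Lpe (f204022 IH) (Lpn (LP (LK LD1_c23 LD2_c57 LD3_c19))))))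
theorem f463181 : Led Lsl_dt (LP (LK LD1_c23 LD2_c41 LD3_c2)) = (LP (LK LD1_c31 LD2_c10 LD3_c47)) :=
  Lre_d IH (LK LD1_c23 LD2_c41 LD3_c2) (LK LD1_c31 LD2_c10 LD3_c47) Lrfl Lrfl
theorem f472097 : Led Lsl_et (LP (LK LD1_c23 LD2_c41 LD3_c2)) = (LP (LK LD1_c14 LD2_c6 LD3_c55)) :=
  Lre_e IH (LK LD1_c23 LD2_c41 LD3_c2) (LK LD1_c14 LD2_c6 LD3_c55) Lrfl Lrfl
theorem f145017 : Led Lsl_et (LP (LK LD1_c14 LD2_c19 LD3_c20)) = (LP (LK LD1_c7 LD2_c35 LD3_c51)) :=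
  Lre_e IH (LK LD1_c14 LD2_c19 LD3_c20) (LK LD1_c7 LD2_c35 LD3_c51) Lrfl Lrfl
theorem f111282 : Led Lsl_et (LP (LK LD1_c12 LD2_c34 LD3_c51)) = (LP (LK LD1_c21 LD2_c41 LD3_c13)) :=
  Lre_e IH (LK LD1_c12 LD2_c34 LD3_c51) (LK LD1_c21 LD2_c41 LD3_c13) Lrfl Lrfl
theorem f533917 : Led Lsl_gf (LP (LK LD1_c14 LD2_c6 LD3_c55)) = (LP (LK LD1_c21 LD2_c41 LD3_c13)) :=
  Lgr Lrot141 (Lpe (f472097 IH) (Lpr_dt (f463181 IH) (Lpr_gt (f533913 IH) (Lpe (K35.f145018 IH) (Lpr_et (f145017 IH) (Lpr_gt (K6.f126479 IH) (Lpr_dt (K8.f126497 IH) (Lpr_gt (K8.f126490 IH) (Lpr_df (K4.f111280 IH) (Lpr_et (f111282 IH) (Lpn (LP (LK LD1_c21 LD2_c41 LD3_c13)))))))))))))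
theorem f130741 : Led Lsl_ct (LP (LK LD1_c7 LD2_c28 LD3_c39)) = (LP (LK LD1_c14 LD2_c6 LD3_c55)) :=
  Lre_c IH (LK LD1_c7 LD2_c28 LD3_c39) (LK LD1_c14 LD2_c6 LD3_c55) Lrfl Lrfl
theorem f469172 : Led Lsl_bt (LP (LK LD1_c3 LD2_c31 LD3_c41)) = (LP (LK LD1_c7 LD2_c4 LD3_c57)) :=
  Lre_b IH (LK LD1_c3 LD2_c31 LD3_c41) (LK LD1_c7 LD2_c4 LD3_c57) Lrfl Lrfl
theorem f469266 : Led Lsl_gt (LP (LK LD1_c13 LD2_c25 LD3_c30)) = (LP (LK LD1_c7 LD2_c4 LD3_c57)) :=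
  Lre_g IH (LK LD1_c13 LD2_c25 LD3_c30) (LK LD1_c7 LD2_c4 LD3_c57) Lrfl Lrfl
theorem f533919 : Led Lsl_bt (LP (LK LD1_c7 LD2_c28 LD3_c39)) = (LP (LK LD1_c13 LD2_c25 LD3_c30)) :=
  Lgr Lrot22 (Lpr_ct (f130741 IH) (Lpr_gf (f533917 IH) (Lpe (K4.f111335 IH) (Lpe (K34.f533139 IH) (Lpe (K28.f463394 IH) (Lpr_ct (K28.f463399 IH) (Lpr_gf (K28.f464587 IH) (Lpe (K33.f469175 IH) (Lpr_bt (f469172 IH) (Lpe (f469266 IH) (Lpn (LP (LK LD1_c13 LD2_c25 LD3_c30)))))))))))))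
theorem f469384 : Led Lsl_gf (LP (LK LD1_c13 LD2_c25 LD3_c30)) = (LP (LK LD1_c7 LD2_c28 LD3_c54)) :=
  Lgr Lrot47 (Lpr_gt (f469266 IH) (Lpe (K28.f469248 IH) (Lpr_ff (K28.f469369 IH) (Lpn (LP (LK LD1_c7 LD2_c28 LD3_c54))))))
theorem f533191 : Led Lsl_bt (LP (LK LD1_c14 LD2_c6 LD3_c23)) = (LP (LK LD1_c13 LD2_c56 LD3_c45)) :=
  Lgr Lrot35 (Lpr_ff (K34.f533187 IH) (Lpe (K24.f108966 IH) (Lpr_ff (K34.f533069 IH) (Lpn (LP (LK LD1_c13 LD2_c56 LD3_c45))))))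
theorem f468321 : Led Lsl_bt (LP (LK LD1_c3 LD2_c30 LD3_c37)) = (LP (LK LD1_c7 LD2_c3 LD3_c11)) :=
  Lre_b IH (LK LD1_c3 LD2_c30 LD3_c37) (LK LD1_c7 LD2_c3 LD3_c11) Lrfl Lrfl
theorem f457610 : Led Lsl_gt (LP (LK LD1_c7 LD2_c3 LD3_c11)) = (LP (LK LD1_c13 LD2_c22 LD3_c36)) :=
  Lre_g IH (LK LD1_c7 LD2_c3 LD3_c11) (LK LD1_c13 LD2_c22 LD3_c36) Lrfl Lrfl
theorem f468329 : Led Lsl_bt (LP (LK LD1_c22 LD2_c40 LD3_c4)) = (LP (LK LD1_c13 LD2_c22 LD3_c36)) :=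
  Lre_b IH (LK LD1_c22 LD2_c40 LD3_c4) (LK LD1_c13 LD2_c22 LD3_c36) Lrfl Lrfl
theorem f468926 : Led Lsl_ct (LP (LK LD1_c22 LD2_c40 LD3_c4)) = (LP (LK LD1_c14 LD2_c6 LD3_c23)) :=
  Lgr Lrot64 (Lpr_bt (f468329 IH) (Lpe (f457610 IH) (Lpe (f468321 IH) (Lpr_ct (K28.f457479 IH) (Lpe (K29.f468324 IH) (Lpr_cf (K3.f91228 IH) (Lpr_gf (K28.f468877 IH) (Lpe (K28.f463396 IH) (Lpe (K34.f463426 IH) (Lpe (K34.f463437 IH) (Lpn (LP (LK LD1_c14 LD2_c6 LD3_c23)))))))))))))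
theorem f468950 : Led Lsl_cf (LP (LK LD1_c22 LD2_c40 LD3_c4)) = (LP (LK LD1_c14 LD2_c6 LD3_c23)) :=
  Lgr Lrot11 (Lpr_ct (f468926 IH) (Lpn (LP (LK LD1_c14 LD2_c6 LD3_c23))))
theorem f533925 : Led Lsl_gt (LP (LK LD1_c14 LD2_c6 LD3_c55)) = (LP (LK LD1_c22 LD2_c40 LD3_c4)) :=
  Lgr Lrot65 (Lpe (f130741 IH) (Lpr_bt (f533919 IH) (Lpr_gf (f469384 IH) (Lpe (K28.f116282 IH) (Lpr_ct (K33.f116445 IH) (Lpr_gf (K28.f466292 IH) (Lpr_cf (K28.f466202 IH) (Lpe (K34.f466258 IH) (Lpe (f533191 IH) (Lpe (f468950 IH) (Lpn (LP (LK LD1_c22 LD2_c40 LD3_c4)))))))))))))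
theorem f18037 : Led Lsl_gt (LP (LK LD1_c3 LD2_c38 LD3_c26)) = (LP (LK LD1_c7 LD2_c17 LD3_c11)) :=
  Lre_g IH (LK LD1_c3 LD2_c38 LD3_c26) (LK LD1_c7 LD2_c17 LD3_c11) Lrfl Lrfl
theorem f97528 : Led Lsl_ct (LP (LK LD1_c13 LD2_c47 LD3_c6)) = (LP (LK LD1_c7 LD2_c17 LD3_c11)) :=
  Lre_c IH (LK LD1_c13 LD2_c47 LD3_c6) (LK LD1_c7 LD2_c17 LD3_c11) Lrfl Lrfl
theorem f534482 : Led Lsl_bf (LP (LK LD1_c14 LD2_c6 LD3_c55)) = (LP (LK LD1_c13 LD2_c47 LD3_c6)) :=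
  Lgr Lrot165 (Lpr_gt (f533925 IH) (Lpr_ct (f468926 IH) (Lpr_gt (K34.f463437 IH) (Lpr_cf (K34.f463426 IH) (Lpr_bt (K28.f463396 IH) (Lpe (K28.f468877 IH) (Lpe (K3.f97533 IH) (Lpr_ct (K3.f97506 IH) (Lpr_gt (f18037 IH) (Lpe (f97528 IH) (Lpn (LP (LK LD1_c13 LD2_c47 LD3_c6)))))))))))))
theorem f534484 : Led Lsl_bt (LP (LK LD1_c14 LD2_c6 LD3_c55)) = (LP (LK LD1_c13 LD2_c47 LD3_c6)) :=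
  Lgr Lrot127 (Lpr_bf (f534482 IH) (Lpn (LP (LK LD1_c13 LD2_c47 LD3_c6))))
theorem f123767 : Led Lsl_ct (LP (LK LD1_c14 LD2_c6 LD3_c55)) = (LP (LK LD1_c7 LD2_c28 LD3_c39)) :=
  Lre_c IH (LK LD1_c14 LD2_c6 LD3_c55) (LK LD1_c7 LD2_c28 LD3_c39) Lrfl Lrfl
theorem f463614 : Led Lsl_gt (LP (LK LD1_c13 LD2_c38 LD3_c60)) = (LP (LK LD1_c7 LD2_c12 LD3_c39)) :=
  Lre_g IH (LK LD1_c13 LD2_c38 LD3_c60) (LK LD1_c7 LD2_c12 LD3_c39) Lrfl Lrfl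
theorem f490104 : Led Lsl_ct (LP (LK LD1_c23 LD2_c4 LD3_c4)) = (LP (LK LD1_c13 LD2_c38 LD3_c60)) :=
  Lre_c IH (LK LD1_c23 LD2_c4 LD3_c4) (LK LD1_c13 LD2_c38 LD3_c60) Lrfl Lrfl
theorem f534501 : Led Lsl_gf (LP (LK LD1_c23 LD2_c4 LD3_c4)) = (LP (LK LD1_c13 LD2_c47 LD3_c6)) :=
  Lgr Lrot181 (Lpr_ct (f490104 IH) (Lpr_gt (f463614 IH) (Lpe (f490096 IH) (Lpr_bt (K28.f461799 IH) (Lpe (K28.f461822 IH) (Lpe (K24.f111813 IH) (Lpr_ct (K24.f123652 IH) (Lpr_gt (K28.f123822 IH) (Lpe (f123767 IH) (Lpr_bt (f534484 IH) (Lpn (LP (LK LD1_c13 LD2_c47 LD3_c6)))))))))))))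
theorem f514201 : Led Lsl_ct (LP (LK LD1_c13 LD2_c38 LD3_c60)) = (LP (LK LD1_c23 LD2_c4 LD3_c4)) :=
  Lre_c IH (LK LD1_c13 LD2_c38 LD3_c60) (LK LD1_c23 LD2_c4 LD3_c4) Lrfl Lrfl
theorem f18052 : Led Lsl_ct (LP (LK LD1_c7 LD2_c17 LD3_c11)) = (LP (LK LD1_c13 LD2_c47 LD3_c6)) :=
  Lre_c IH (LK LD1_c7 LD2_c17 LD3_c11) (LK LD1_c13 LD2_c47 LD3_c6) Lrfl Lrfl
theorem f466571 : Led Lsl_bt (LP (LK LD1_c3 LD2_c30 LD3_c52)) = (LP (LK LD1_c7 LD2_c3 LD3_c39)) :=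
  Lre_b IH (LK LD1_c3 LD2_c30 LD3_c52) (LK LD1_c7 LD2_c3 LD3_c39) Lrfl Lrfl
theorem f534505 : Led Lsl_bt (LP (LK LD1_c13 LD2_c38 LD3_c60)) = (LP (LK LD1_c13 LD2_c23 LD3_c18)) :=
  Lgr Lrot22 (Lpr_ct (f514201 IH) (Lpr_gf (f534501 IH) (Lpe (f18052 IH) (Lpe (f18037 IH) (Lpe (K3.f18028 IH) (Lpe (K28.f18029 IH) (Lpe (K28.f466566 IH) (Lpe (K28.f466471 IH) (Lpr_bt (f466571 IH) (Lpe (f64667 IH) (Lpn (LP (LK LD1_c13 LD2_c23 LD3_c18)))))))))))))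
theorem f543582 : Led Lsl_bf (LP (LK LD1_c12 LD2_c8 LD3_c32)) = (LP (LK LD1_c7 LD2_c17 LD3_c11)) :=
  Lgr Lrot34 (Lpe (f210893 IH) (Lpr_bf (f543572 IH) (Lpr_ct (K28.f121871 IH) (Lpe (K34.f469705 IH) (Lpe (K33.f64665 IH) (Lpe (f64667 IH) (Lpe (f534505 IH) (Lpr_ct (f514201 IH) (Lpr_gf (f534501 IH) (Lpe (f18052 IH) (Lpn (LP (LK LD1_c7 LD2_c17 LD3_c11)))))))))))))
theorem f543584 : Led Lsl_bt (LP (LK LD1_c12 LD2_c8 LD3_c32)) = (LP (LK LD1_c7 LD2_c17 LD3_c11)) :=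
  Lgr Lrot127 (Lpr_bf (f543582 IH) (Lpn (LP (LK LD1_c7 LD2_c17 LD3_c11))))
theorem f543591 : Led Lsl_cf (LP (LK LD1_c12 LD2_c8 LD3_c32)) = (LP (LK LD1_c13 LD2_c25 LD3_c30)) :=
  Lgr Lrot97 (Lpr_bt (f543584 IH) (Lpr_ct (f18052 IH) (Lpe (f534482 IH) (Lpr_ct (f123767 IH) (Lpr_bt (f533919 IH) (Lpn (LP (LK LD1_c13 LD2_c25 LD3_c30))))))))
theorem f469367 : Led Lsl_ff (LP (LK LD1_c22 LD2_c44 LD3_c29)) = (LP (LK LD1_c14 LD2_c7 LD3_c22)) :=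
  Lgr Lrot19 (Lpr_dt (K28.f469363 IH) (Lpr_ft (K28.f469361 IH) (Lpr_dt (K34.f116245 IH) (Lpn (LP (LK LD1_c14 LD2_c7 LD3_c22))))))
theorem f469451 : Led Lsl_at (LP (LK LD1_c22 LD2_c44 LD3_c29)) = (LP (LK LD1_c13 LD2_c25 LD3_c32)) :=
  Lre_a IH (LK LD1_c22 LD2_c44 LD3_c29) (LK LD1_c13 LD2_c25 LD3_c32) Lrfl Lrfl
theorem f469255 : Led Lsl_gt (LP (LK LD1_c22 LD2_c44 LD3_c31)) = (LP (LK LD1_c13 LD2_c25 LD3_c32)) :=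
  Lre_g IH (LK LD1_c22 LD2_c44 LD3_c31) (LK LD1_c13 LD2_c25 LD3_c32) Lrfl Lrfl
theorem f470207 : Led Lsl_gf (LP (LK LD1_c22 LD2_c44 LD3_c31)) = (LP (LK LD1_c14 LD2_c7 LD3_c22)) :=
  Lgr Lrot47 (Lpr_gt (f469255 IH) (Lpe (f469451 IH) (Lpr_ff (f469367 IH) (Lpn (LP (LK LD1_c14 LD2_c7 LD3_c22))))))
theorem f470209 : Led Lsl_ct (LP (LK LD1_c22 LD2_c44 LD3_c31)) = (LP (LK LD1_c30 LD2_c41 LD3_c43)) :=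
  Lre_c IH (LK LD1_c22 LD2_c44 LD3_c31) (LK LD1_c30 LD2_c41 LD3_c43) Lrfl Lrfl
theorem f451941 : Led Lsl_et (LP (LK LD1_c7 LD2_c54 LD3_c2)) = (LP (LK LD1_c3 LD2_c56 LD3_c9)) :=
  Lre_e IH (LK LD1_c7 LD2_c54 LD3_c2) (LK LD1_c3 LD2_c56 LD3_c9) Lrfl Lrfl
theorem f470079 : Led Lsl_dt (LP (LK LD1_c7 LD2_c54 LD3_c2)) = (LP (LK LD1_c14 LD2_c7 LD3_c37)) :=
  Lgr Lrot79 (Lpe (K33.f11367 IH) (Lpr_df (K33.f470075 IH) (Lpe (K33.f116153 IH) (Lpn (LP (LK LD1_c14 LD2_c7 LD3_c37))))))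
theorem f533685 : Led Lsl_gt (LP (LK LD1_c14 LD2_c7 LD3_c37)) = (LP (LK LD1_c13 LD2_c54 LD3_c29)) :=
  Lgr Lrot112 (Lpe (f470079 IH) (Lpr_et (f451941 IH) (Lpr_gf (K35.f533674 IH) (Lpe (K34.f142485 IH) (Lpr_dt (K28.f151400 IH) (Lpe (K7.f148317 IH) (Lpe (K7.f13170 IH) (Lpr_gf (K7.f148312 IH) (Lpe (K34.f148319 IH) (Lpr_dt (K34.f148320 IH) (Lpn (LP (LK LD1_c13 LD2_c54 LD3_c29)))))))))))))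
theorem f471668 : Led Lsl_af (LP (LK LD1_c14 LD2_c7 LD3_c12)) = (LP (LK LD1_c13 LD2_c57 LD3_c37)) :=
  Lgr Lrot45 (Lpr_ft (K34.f471662 IH) (Lpe (K33.f471612 IH) (Lpe (K33.f470102 IH) (Lpn (LP (LK LD1_c13 LD2_c57 LD3_c37))))))
theorem f533687 : Led Lsl_gf (LP (LK LD1_c14 LD2_c7 LD3_c12)) = (LP (LK LD1_c13 LD2_c54 LD3_c29)) :=
  Lgr Lrot76 (Lpr_af (f471668 IH) (Lpr_ff (K33.f470102 IH) (Lpr_gt (f533685 IH) (Lpn (LP (LK LD1_c13 LD2_c54 LD3_c29))))))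
theorem f131910 : Led Lsl_gt (LP (LK LD1_c7 LD2_c28 LD3_c1)) = (LP (LK LD1_c14 LD2_c5 LD3_c50)) :=
  Lre_g IH (LK LD1_c7 LD2_c28 LD3_c1) (LK LD1_c14 LD2_c5 LD3_c50) Lrfl Lrfl
theorem f131911 : Led Lsl_gf (LP (LK LD1_c13 LD2_c56 LD3_c58)) = (LP (LK LD1_c14 LD2_c5 LD3_c50)) :=
  Lgr Lrot76 (Lpr_af (K34.f131900 IH) (Lpe (K34.f131907 IH) (Lpr_gt (f131910 IH) (Lpn (LP (LK LD1_c14 LD2_c5 LD3_c50))))))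
theorem f463544 : Led Lsl_cf (LP (LK LD1_c14 LD2_c5 LD3_c50)) = (LP (LK LD1_c7 LD2_c28 LD3_c47)) :=
  Lgr Lrot169 (Lpe (f131911 IH) (Lpr_ct (K5.f131738 IH) (Lpe (K28.f131755 IH) (Lpe (K28.f122031 IH) (Lpr_gf (K28.f131736 IH) (Lpe (K28.f131917 IH) (Lpr_gf (K28.f463538 IH) (Lpe (K34.f130735 IH) (Lpr_gt (K34.f147416 IH) (Lpn (LP (LK LD1_c7 LD2_c28 LD3_c47))))))))))))
theorem f533632 : Led Lsl_gt (LP (LK LD1_c14 LD2_c7 LD3_c12)) = (LP (LK LD1_c22 LD2_c44 LD3_c15)) :=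
  Lgr Lrot164 (Lpe (K34.f471661 IH) (Lpe (f463544 IH) (Lpe (f131910 IH) (Lpe (K33.f131791 IH) (Lpe (K28.f131799 IH) (Lpe (K34.f131803 IH) (Lpr_ct (K34.f131804 IH) (Lpe (K35.f437755 IH) (Lpr_cf (K35.f533625 IH) (Lpr_bt (K35.f533484 IH) (Lpn (LP (LK LD1_c22 LD2_c44 LD3_c15)))))))))))))
theorem f533127 : Led Lsl_ff (LP (LK LD1_c22 LD2_c42 LD3_c57)) = (LP (LK LD1_c13 LD2_c54 LD3_c29)) :=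
  Lgr Lrot19 (Lpr_dt (K34.f469870 IH) (Lpr_ft (K34.f533121 IH) (Lpr_dt (K34.f148320 IH) (Lpn (LP (LK LD1_c13 LD2_c54 LD3_c29))))))
theorem f533693 : Led Lsl_af (LP (LK LD1_c22 LD2_c44 LD3_c15)) = (LP (LK LD1_c22 LD2_c42 LD3_c57)) :=
  Lgr Lrot31 (Lpe (f533632 IH) (Lpr_gf (f533687 IH) (Lpe (f533127 IH) (Lpn (LP (LK LD1_c22 LD2_c42 LD3_c57))))))
theorem f465873 : Led Lsl_ct (LP (LK LD1_c22 LD2_c44 LD3_c15)) = (LP (LK LD1_c30 LD2_c41 LD3_c23)) :=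
  Lre_c IH (LK LD1_c22 LD2_c44 LD3_c15) (LK LD1_c30 LD2_c41 LD3_c23) Lrfl Lrfl
theorem f469860 : Led Lsl_ct (LP (LK LD1_c30 LD2_c40 LD3_c10)) = (LP (LK LD1_c22 LD2_c42 LD3_c57)) :=
  Lre_c IH (LK LD1_c30 LD2_c40 LD3_c10) (LK LD1_c22 LD2_c42 LD3_c57) Lrfl Lrfl
theorem f533695 : Led Lsl_at (LP (LK LD1_c30 LD2_c41 LD3_c23)) = (LP (LK LD1_c30 LD2_c40 LD3_c10)) :=
  Lgr Lrot107 (Lpe (f465873 IH) (Lpr_af (f533693 IH) (Lpe (f469860 IH) (Lpn (LP (LK LD1_c30 LD2_c40 LD3_c10))))))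
theorem f436344 : Led Lsl_ct (LP (LK LD1_c13 LD2_c54 LD3_c29)) = (LP (LK LD1_c23 LD2_c24 LD3_c38)) :=
  Lre_c IH (LK LD1_c13 LD2_c54 LD3_c29) (LK LD1_c23 LD2_c24 LD3_c38) Lrfl Lrfl
theorem f533365 : Led Lsl_ft (LP (LK LD1_c23 LD2_c24 LD3_c38)) = (LP (LK LD1_c30 LD2_c40 LD3_c10)) :=
  Lgr Lrot4 (Lpe (f436344 IH) (Lpr_ff (K34.f533352 IH) (Lpe (f469860 IH) (Lpn (LP (LK LD1_c30 LD2_c40 LD3_c10))))))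
theorem f533369 : Led Lsl_ff (LP (LK LD1_c23 LD2_c24 LD3_c38)) = (LP (LK LD1_c30 LD2_c40 LD3_c10)) :=
  Lgr Lrot3 (Lpr_ft (f533365 IH) (Lpn (LP (LK LD1_c30 LD2_c40 LD3_c10))))
theorem f436343 : Led Lsl_ct (LP (LK LD1_c23 LD2_c37 LD3_c6)) = (LP (LK LD1_c14 LD2_c3 LD3_c57)) :=
  Lre_c IH (LK LD1_c23 LD2_c37 LD3_c6) (LK LD1_c14 LD2_c3 LD3_c57) Lrfl Lrfl
theorem f436345 : Led Lsl_af (LP (LK LD1_c23 LD2_c37 LD3_c6)) = (LP (LK LD1_c23 LD2_c24 LD3_c38)) :=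
  Lgr Lrot68 (Lpr_ct (f436343 IH) (Lpr_at (K34.f436338 IH) (Lpr_ct (f436344 IH) (Lpn (LP (LK LD1_c23 LD2_c24 LD3_c38))))))
theorem f533703 : Led Lsl_ff (LP (LK LD1_c30 LD2_c41 LD3_c23)) = (LP (LK LD1_c23 LD2_c37 LD3_c6)) :=
  Lgr Lrot30 (Lpr_at (f533695 IH) (Lpe (f533369 IH) (Lpe (f436345 IH) (Lpn (LP (LK LD1_c23 LD2_c37 LD3_c6))))))
theorem f533707 : Led Lsl_ft (LP (LK LD1_c30 LD2_c41 LD3_c23)) = (LP (LK LD1_c23 LD2_c37 LD3_c6)) :=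
  Lgr Lrot48 (Lpr_ff (f533703 IH) (Lpn (LP (LK LD1_c23 LD2_c37 LD3_c6))))
theorem f436350 : Led Lsl_at (LP (LK LD1_c23 LD2_c37 LD3_c6)) = (LP (LK LD1_c23 LD2_c24 LD3_c38)) :=
  Lgr Lrot100 (Lpr_af (f436345 IH) (Lpn (LP (LK LD1_c23 LD2_c24 LD3_c38))))
theorem f436370 : Led Lsl_gt (LP (LK LD1_c31 LD2_c2 LD3_c2)) = (LP (LK LD1_c23 LD2_c24 LD3_c38)) :=
  Lre_g IH (LK LD1_c31 LD2_c2 LD3_c2) (LK LD1_c23 LD2_c24 LD3_c38) Lrfl Lrfl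
theorem f533709 : Led Lsl_gt (LP (LK LD1_c30 LD2_c41 LD3_c23)) = (LP (LK LD1_c31 LD2_c2 LD3_c2)) :=
  Lgr Lrot5 (Lpr_ft (f533707 IH) (Lpr_at (f436350 IH) (Lpe (f436370 IH) (Lpn (LP (LK LD1_c31 LD2_c2 LD3_c2))))))
theorem f159665 : Led Lsl_gt (LP (LK LD1_c14 LD2_c5 LD3_c23)) = (LP (LK LD1_c7 LD2_c27 LD3_c49)) :=
  Lre_g IH (LK LD1_c14 LD2_c5 LD3_c23) (LK LD1_c7 LD2_c27 LD3_c49) Lrfl Lrfl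
theorem f439643 : Led Lsl_bt (LP (LK LD1_c23 LD2_c38 LD3_c36)) = (LP (LK LD1_c14 LD2_c5 LD3_c23)) :=
  Lre_b IH (LK LD1_c23 LD2_c38 LD3_c36) (LK LD1_c14 LD2_c5 LD3_c23) Lrfl Lrfl
theorem f533711 : Led Lsl_ct (LP (LK LD1_c23 LD2_c38 LD3_c36)) = (LP (LK LD1_c31 LD2_c2 LD3_c2)) :=
  Lgr Lrot63 (Lpr_bt (f439643 IH) (Lpr_gt (f159665 IH) (Lpe (K33.f131786 IH) (Lpr_ct (K33.f131791 IH) (Lpr_gt (f131910 IH) (Lpr_cf (f463544 IH) (Lpr_bt (K34.f471661 IH) (Lpr_gt (f533632 IH) (Lpr_ct (f465873 IH) (Lpr_gt (f533709 IH) (Lpn (LP (LK LD1_c31 LD2_c2 LD3_c2)))))))))))))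
theorem f469281 : Led Lsl_gt (LP (LK LD1_c23 LD2_c38 LD3_c23)) = (LP (LK LD1_c14 LD2_c5 LD3_c23)) :=
  Lre_g IH (LK LD1_c23 LD2_c38 LD3_c23) (LK LD1_c14 LD2_c5 LD3_c23) Lrfl Lrfl
theorem f209128 : Led Lsl_dt (LP (LK LD1_c14 LD2_c5 LD3_c11)) = (LP (LK LD1_c7 LD2_c27 LD3_c45)) :=
  Lre_d IH (LK LD1_c14 LD2_c5 LD3_c11) (LK LD1_c7 LD2_c27 LD3_c45) Lrfl Lrfl
theorem f209129 : Led Lsl_bt (LP (LK LD1_c13 LD2_c56 LD3_c17)) = (LP (LK LD1_c14 LD2_c5 LD3_c11)) :=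
  Lgr Lrot95 (Lpe (K34.f122076 IH) (Lpr_bf (K28.f209121 IH) (Lpe (f209128 IH) (Lpn (LP (LK LD1_c14 LD2_c5 LD3_c11))))))
theorem f209138 : Led Lsl_ft (LP (LK LD1_c14 LD2_c5 LD3_c11)) = (LP (LK LD1_c23 LD2_c38 LD3_c23)) :=
  Lre_f IH (LK LD1_c14 LD2_c5 LD3_c11) (LK LD1_c23 LD2_c38 LD3_c23) Lrfl Lrfl
theorem f469744 : Led Lsl_bf (LP (LK LD1_c23 LD2_c26 LD3_c61)) = (LP (LK LD1_c23 LD2_c38 LD3_c23)) :=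
  Lgr Lrot61 (Lpr_ft (K34.f469684 IH) (Lpr_bt (f209129 IH) (Lpr_ft (f209138 IH) (Lpn (LP (LK LD1_c23 LD2_c38 LD3_c23))))))
theorem f469778 : Led Lsl_bt (LP (LK LD1_c23 LD2_c26 LD3_c61)) = (LP (LK LD1_c23 LD2_c38 LD3_c23)) :=
  Lgr Lrot127 (Lpr_bf (f469744 IH) (Lpn (LP (LK LD1_c23 LD2_c38 LD3_c23))))
theorem f469677 : Led Lsl_ct (LP (LK LD1_c23 LD2_c26 LD3_c61)) = (LP (LK LD1_c31 LD2_c3 LD3_c32)) :=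
  Lre_c IH (LK LD1_c23 LD2_c26 LD3_c61) (LK LD1_c31 LD2_c3 LD3_c32) Lrfl Lrfl
theorem f469766 : Led Lsl_gt (LP (LK LD1_c13 LD2_c56 LD3_c27)) = (LP (LK LD1_c23 LD2_c27 LD3_c36)) :=
  Lre_g IH (LK LD1_c13 LD2_c56 LD3_c27) (LK LD1_c23 LD2_c27 LD3_c36) Lrfl Lrfl
theorem f469767 : Led Lsl_gf (LP (LK LD1_c31 LD2_c3 LD3_c32)) = (LP (LK LD1_c23 LD2_c27 LD3_c36)) :=
  Lgr Lrot76 (Lpr_af (K34.f469758 IH) (Lpe (K34.f469757 IH) (Lpr_gt (f469766 IH) (Lpn (LP (LK LD1_c23 LD2_c27 LD3_c36))))))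
theorem f420061 : Led Lsl_gt (LP (LK LD1_c22 LD2_c35 LD3_c31)) = (LP (LK LD1_c30 LD2_c36 LD3_c1)) :=
  Lre_g IH (LK LD1_c22 LD2_c35 LD3_c31) (LK LD1_c30 LD2_c36 LD3_c1) Lrfl Lrfl
theorem f533718 : Led Lsl_cf (LP (LK LD1_c23 LD2_c27 LD3_c36)) = (LP (LK LD1_c30 LD2_c36 LD3_c1)) :=
  Lgr Lrot125 (Lpe (f469767 IH) (Lpe (f469677 IH) (Lpr_bt (f469778 IH) (Lpr_gt (f469281 IH) (Lpe (f439643 IH) (Lpr_ct (f533711 IH) (Lpr_gt (f436370 IH) (Lpe (f436344 IH) (Lpe (K34.f436406 IH) (Lpr_gt (f420061 IH) (Lpn (LP (LK LD1_c30 LD2_c36 LD3_c1)))))))))))))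
theorem f469657 : Led Lsl_ct (LP (LK LD1_c7 LD2_c22 LD3_c21)) = (LP (LK LD1_c13 LD2_c56 LD3_c27)) :=
  Lre_c IH (LK LD1_c7 LD2_c22 LD3_c21) (LK LD1_c13 LD2_c56 LD3_c27) Lrfl Lrfl
theorem f131784 : Led Lsl_bt (LP (LK LD1_c7 LD2_c22 LD3_c21)) = (LP (LK LD1_c3 LD2_c41 LD3_c7)) :=
  Lre_b IH (LK LD1_c7 LD2_c22 LD3_c21) (LK LD1_c3 LD2_c41 LD3_c7) Lrfl Lrfl
theorem f122580 : Led Lsl_ct (LP (LK LD1_c13 LD2_c56 LD3_c54)) = (LP (LK LD1_c23 LD2_c28 LD3_c33)) :=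
  Lre_c IH (LK LD1_c13 LD2_c56 LD3_c54) (LK LD1_c23 LD2_c28 LD3_c33) Lrfl Lrfl
theorem f122147 : Led Lsl_et (LP (LK LD1_c3 LD2_c41 LD3_c3)) = (LP (LK LD1_c1 LD2_c47 LD3_c27)) :=
  Lre_e IH (LK LD1_c3 LD2_c41 LD3_c3) (LK LD1_c1 LD2_c47 LD3_c27) Lrfl Lrfl
theorem f123575 : Led Lsl_dt (LP (LK LD1_c3 LD2_c41 LD3_c3)) = (LP (LK LD1_c7 LD2_c22 LD3_c21)) :=
  Lre_d IH (LK LD1_c3 LD2_c41 LD3_c3) (LK LD1_c7 LD2_c22 LD3_c21) Lrfl Lrfl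
theorem f489600 : Led Lsl_gt (LP (LK LD1_c13 LD2_c56 LD3_c7)) = (LP (LK LD1_c7 LD2_c22 LD3_c21)) :=
  Lgr Lrot112 (Lpr_df (K34.f489593 IH) (Lpr_et (K34.f471514 IH) (Lpr_gf (K34.f471492 IH) (Lpe (K28.f203683 IH) (Lpr_dt (K28.f203680 IH) (Lpe (K32.f203699 IH) (Lpe (K32.f148716 IH) (Lpe (K6.f108790 IH) (Lpe (f122147 IH) (Lpr_dt (f123575 IH) (Lpn (LP (LK LD1_c7 LD2_c22 LD3_c21)))))))))))))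
theorem f469491 : Led Lsl_bt (LP (LK LD1_c7 LD2_c4 LD3_c33)) = (LP (LK LD1_c13 LD2_c24 LD3_c49)) :=
  Lre_b IH (LK LD1_c7 LD2_c4 LD3_c33) (LK LD1_c13 LD2_c24 LD3_c49) Lrfl Lrfl
theorem f466322 : Led Lsl_gt (LP (LK LD1_c22 LD2_c43 LD3_c8)) = (LP (LK LD1_c13 LD2_c24 LD3_c49)) :=
  Lre_g IH (LK LD1_c22 LD2_c43 LD3_c8) (LK LD1_c13 LD2_c24 LD3_c49) Lrfl Lrfl
theorem f533725 : Led Lsl_bf (LP (LK LD1_c22 LD2_c43 LD3_c8)) = (LP (LK LD1_c30 LD2_c36 LD3_c1)) :=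
  Lgr Lrot156 (Lpr_gt (f466322 IH) (Lpe (f469491 IH) (Lpr_ct (K28.f466166 IH) (Lpe (K28.f469965 IH) (Lpe (K28.f129176 IH) (Lpr_bt (K34.f129175 IH) (Lpr_gt (f489600 IH) (Lpr_ct (f469657 IH) (Lpr_gt (f469766 IH) (Lpr_cf (f533718 IH) (Lpn (LP (LK LD1_c30 LD2_c36 LD3_c1)))))))))))))
theorem f466356 : Led Lsl_ct (LP (LK LD1_c13 LD2_c24 LD3_c49)) = (LP (LK LD1_c22 LD2_c43 LD3_c9)) :=
  Lre_c IH (LK LD1_c13 LD2_c24 LD3_c49) (LK LD1_c22 LD2_c43 LD3_c9) Lrfl Lrfl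
theorem f533727 : Led Lsl_gf (LP (LK LD1_c23 LD2_c28 LD3_c33)) = (LP (LK LD1_c22 LD2_c43 LD3_c9)) :=
  Lgr Lrot129 (Lpe (f122580 IH) (Lpr_bt (K34.f122579 IH) (Lpr_gt (K28.f122488 IH) (Lpe (f131784 IH) (Lpr_ct (f469657 IH) (Lpr_gt (f469766 IH) (Lpr_cf (f533718 IH) (Lpe (f533725 IH) (Lpr_gt (f466322 IH) (Lpr_ct (f466356 IH) (Lpn (LP (LK LD1_c22 LD2_c43 LD3_c9)))))))))))))
theorem f116482 : Led Lsl_ct (LP (LK LD1_c13 LD2_c57 LD3_c27)) = (LP (LK LD1_c7 LD2_c22 LD3_c54)) :=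
  Lre_c IH (LK LD1_c13 LD2_c57 LD3_c27) (LK LD1_c7 LD2_c22 LD3_c54) Lrfl Lrfl
theorem f466365 : Led Lsl_ff (LP (LK LD1_c13 LD2_c57 LD3_c27)) = (LP (LK LD1_c22 LD2_c43 LD3_c9)) :=
  Lgr Lrot23 (Lpr_ct (f116482 IH) (Lpr_ft (K28.f466352 IH) (Lpr_ct (f466356 IH) (Lpn (LP (LK LD1_c22 LD2_c43 LD3_c9))))))
theorem f116474 : Led Lsl_at (LP (LK LD1_c13 LD2_c57 LD3_c27)) = (LP (LK LD1_c23 LD2_c28 LD3_c58)) :=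
  Lre_a IH (LK LD1_c13 LD2_c57 LD3_c27) (LK LD1_c23 LD2_c28 LD3_c58) Lrfl Lrfl
theorem f533729 : Led Lsl_gt (LP (LK LD1_c23 LD2_c28 LD3_c33)) = (LP (LK LD1_c23 LD2_c28 LD3_c58)) :=
  Lgr Lrot46 (Lpr_gf (f533727 IH) (Lpe (f466365 IH) (Lpr_at (f116474 IH) (Lpn (LP (LK LD1_c23 LD2_c28 LD3_c58))))))
theorem f131760 : Led Lsl_bt (LP (LK LD1_c14 LD2_c5 LD3_c25)) = (LP (LK LD1_c7 LD2_c28 LD3_c2)) :=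
  Lre_b IH (LK LD1_c14 LD2_c5 LD3_c25) (LK LD1_c7 LD2_c28 LD3_c2) Lrfl Lrfl
theorem f439164 : Led Lsl_ct (LP (LK LD1_c14 LD2_c5 LD3_c25)) = (LP (LK LD1_c23 LD2_c38 LD3_c43)) :=
  Lre_c IH (LK LD1_c14 LD2_c5 LD3_c25) (LK LD1_c23 LD2_c38 LD3_c43) Lrfl Lrfl
theorem f116431 : Led Lsl_ct (LP (LK LD1_c13 LD2_c57 LD3_c10)) = (LP (LK LD1_c23 LD2_c28 LD3_c58)) :=
  Lre_c IH (LK LD1_c13 LD2_c57 LD3_c10) (LK LD1_c23 LD2_c28 LD3_c58) Lrfl Lrfl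
theorem f533731 : Led Lsl_gf (LP (LK LD1_c23 LD2_c38 LD3_c43)) = (LP (LK LD1_c30 LD2_c41 LD3_c43)) :=
  Lgr Lrot129 (Lpe (f439164 IH) (Lpr_bt (f131760 IH) (Lpe (K28.f439161 IH) (Lpe (K34.f122579 IH) (Lpr_ct (f122580 IH) (Lpr_gt (f533729 IH) (Lpe (f116431 IH) (Lpr_bt (K4.f116429 IH) (Lpe (f470207 IH) (Lpr_ct (f470209 IH) (Lpn (LP (LK LD1_c30 LD2_c41 LD3_c43)))))))))))))
theorem f439163 : Led Lsl_ct (LP (LK LD1_c23 LD2_c38 LD3_c43)) = (LP (LK LD1_c14 LD2_c5 LD3_c25)) :=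
  Lre_c IH (LK LD1_c23 LD2_c38 LD3_c43) (LK LD1_c14 LD2_c5 LD3_c25) Lrfl Lrfl
theorem f543597 : Led Lsl_gt (LP (LK LD1_c12 LD2_c8 LD3_c32)) = (LP (LK LD1_c7 LD2_c17 LD3_c20)) :=
  Lgr Lrot150 (Lpr_cf (f543591 IH) (Lpr_gf (f469384 IH) (Lpe (K4.f116249 IH) (Lpe (f470207 IH) (Lpr_ct (f470209 IH) (Lpe (f533731 IH) (Lpr_ct (f439163 IH) (Lpe (K29.f439561 IH) (Lpe (K29.f439557 IH) (Lpn (LP (LK LD1_c7 LD2_c17 LD3_c20))))))))))))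
theorem f543599 : Led Lsl_at (LP (LK LD1_c12 LD2_c8 LD3_c18)) = (LP (LK LD1_c7 LD2_c17 LD3_c20)) :=
  Lgr Lrot26 (Lpe (f210888 IH) (Lpr_gt (f210893 IH) (Lpr_gt (f543597 IH) (Lpn (LP (LK LD1_c7 LD2_c17 LD3_c20))))))
theorem f543603 : Led Lsl_af (LP (LK LD1_c6 LD2_c15 LD3_c7)) = (LP (LK LD1_c3 LD2_c38 LD3_c29)) :=
  Lgr Lrot45 (Lpr_ft (f210888 IH) (Lpr_at (f543599 IH) (Lpr_ft (K28.f208966 IH) (Lpn (LP (LK LD1_c3 LD2_c38 LD3_c29))))))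
theorem f205236 : Led Lsl_gt (LP (LK LD1_c12 LD2_c8 LD3_c33)) = (LP (LK LD1_c6 LD2_c15 LD3_c7)) :=
  Lre_g IH (LK LD1_c12 LD2_c8 LD3_c33) (LK LD1_c6 LD2_c15 LD3_c7) Lrfl Lrfl
theorem f543607 : Led Lsl_gf (LP (LK LD1_c12 LD2_c8 LD3_c33)) = (LP (LK LD1_c7 LD2_c17 LD3_c20)) :=
  Lgr Lrot47 (Lpr_gt (f205236 IH) (Lpr_af (f543603 IH) (Lpe (K28.f208966 IH) (Lpn (LP (LK LD1_c7 LD2_c17 LD3_c20))))))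
theorem f210905 : Led Lsl_bt (LP (LK LD1_c21 LD2_c14 LD3_c52)) = (LP (LK LD1_c12 LD2_c8 LD3_c33)) :=
  Lre_b IH (LK LD1_c21 LD2_c14 LD3_c52) (LK LD1_c12 LD2_c8 LD3_c33) Lrfl Lrfl
theorem f439449 : Led Lsl_ct (LP (LK LD1_c3 LD2_c38 LD3_c31)) = (LP (LK LD1_c3 LD2_c36 LD3_c2)) :=
  Lgr Lrot111 (Lpr_af (K28.f439445 IH) (Lpr_cf (K4.f92312 IH) (Lpr_af (K5.f121763 IH) (Lpn (LP (LK LD1_c3 LD2_c36 LD3_c2))))))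
theorem f17806 : Led Lsl_bt (LP (LK LD1_c3 LD2_c36 LD3_c6)) = (LP (LK LD1_c1 LD2_c44 LD3_c57)) :=
  Lre_b IH (LK LD1_c3 LD2_c36 LD3_c6) (LK LD1_c1 LD2_c44 LD3_c57) Lrfl Lrfl
theorem f17897 : Led Lsl_gt (LP (LK LD1_c13 LD2_c17 LD3_c25)) = (LP (LK LD1_c7 LD2_c0 LD3_c19)) :=
  Lre_g IH (LK LD1_c13 LD2_c17 LD3_c25) (LK LD1_c7 LD2_c0 LD3_c19) Lrfl Lrfl
theorem f543614 : Led Lsl_ct (LP (LK LD1_c21 LD2_c14 LD3_c52)) = (LP (LK LD1_c13 LD2_c17 LD3_c25)) :=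
  Lgr Lrot64 (Lpr_bt (f210905 IH) (Lpr_gf (f543607 IH) (Lpe (K29.f208982 IH) (Lpr_ct (f439449 IH) (Lpe (K28.f121774 IH) (Lpe (K28.f466272 IH) (Lpe (K28.f17896 IH) (Lpe (f17806 IH) (Lpr_ct (K4.f17859 IH) (Lpe (f17897 IH) (Lpn (LP (LK LD1_c13 LD2_c17 LD3_c25)))))))))))))
theorem f543578 : Led Lsl_ct (LP (LK LD1_c6 LD2_c15 LD3_c7)) = (LP (LK LD1_c7 LD2_c27 LD3_c45)) :=
  Lgr Lrot83 (Lpr_bf (f543572 IH) (Lpr_cf (K28.f121880 IH) (Lpe (K4.f121870 IH) (Lpe (K35.f122069 IH) (Lpr_bf (K28.f209121 IH) (Lpn (LP (LK LD1_c7 LD2_c27 LD3_c45))))))))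
theorem f106229 : Led Lsl_gt (LP (LK LD1_c3 LD2_c35 LD3_c44)) = (LP (LK LD1_c7 LD2_c12 LD3_c3)) :=
  Lre_g IH (LK LD1_c3 LD2_c35 LD3_c44) (LK LD1_c7 LD2_c12 LD3_c3) Lrfl Lrfl
theorem f116260 : Led Lsl_ct (LP (LK LD1_c7 LD2_c12 LD3_c3)) = (LP (LK LD1_c13 LD2_c38 LD3_c15)) :=
  Lre_c IH (LK LD1_c7 LD2_c12 LD3_c3) (LK LD1_c13 LD2_c38 LD3_c15) Lrfl Lrfl
theorem f489386 : Led Lsl_gt (LP (LK LD1_c13 LD2_c38 LD3_c15)) = (LP (LK LD1_c7 LD2_c27 LD3_c50)) :=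
  Lgr Lrot149 (Lpe (f116260 IH) (Lpe (f106229 IH) (Lpe (K4.f106228 IH) (Lpr_ct (K28.f98526 IH) (Lpr_gf (K24.f456824 IH) (Lpqs (K24.f461786 IH) (Lpe (K28.f16739 IH) (Lpe (K28.f457429 IH) (Lpr_gf (K33.f466195 IH) (Lpe (K28.f208970 IH) (Lpr_ct (K29.f439557 IH) (Lpn (LP (LK LD1_c7 LD2_c27 LD3_c50))))))))))))))
theorem f209123 : Led Lsl_ft (LP (LK LD1_c7 LD2_c27 LD3_c45)) = (LP (LK LD1_c14 LD2_c5 LD3_c12)) :=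
  Lre_f IH (LK LD1_c7 LD2_c27 LD3_c45) (LK LD1_c14 LD2_c5 LD3_c12) Lrfl Lrfl
theorem f489388 : Led Lsl_gf (LP (LK LD1_c13 LD2_c38 LD3_c15)) = (LP (LK LD1_c7 LD2_c27 LD3_c45)) :=
  Lgr Lrot47 (Lpr_gt (f489386 IH) (Lpe (f209164 IH) (Lpe (f209123 IH) (Lpn (LP (LK LD1_c7 LD2_c27 LD3_c45))))))
theorem f108312 : Led Lsl_bt (LP (LK LD1_c1 LD2_c42 LD3_c53)) = (LP (LK LD1_c3 LD2_c32 LD3_c19)) :=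
  Lre_b IH (LK LD1_c1 LD2_c42 LD3_c53) (LK LD1_c3 LD2_c32 LD3_c19) Lrfl Lrfl
theorem f147278 : Led Lsl_gt (LP (LK LD1_c3 LD2_c32 LD3_c19)) = (LP (LK LD1_c7 LD2_c5 LD3_c39)) :=
  Lre_g IH (LK LD1_c3 LD2_c32 LD3_c19) (LK LD1_c7 LD2_c5 LD3_c39) Lrfl Lrfl
theorem f489392 : Led Lsl_bt (LP (LK LD1_c7 LD2_c12 LD3_c3)) = (LP (LK LD1_c7 LD2_c5 LD3_c39)) :=
  Lgr Lrot92 (Lpr_ct (f116260 IH) (Lpr_gt (f489386 IH) (Lpe (K29.f439557 IH) (Lpr_bt (K28.f208970 IH) (Lpe (K33.f466195 IH) (Lpr_ct (K28.f450704 IH) (Lpq (K34.f460763 IH) (Lpe (K34.f455811 IH) (Lpe (K33.f98566 IH) (Lpr_bt (f108312 IH) (Lpr_gt (f147278 IH) (Lpn (LP (LK LD1_c7 LD2_c5 LD3_c39))))))))))))))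
theorem f111810 : Led Lsl_gt (LP (LK LD1_c22 LD2_c33 LD3_c11)) = (LP (LK LD1_c13 LD2_c17 LD3_c25)) :=
  Lre_g IH (LK LD1_c22 LD2_c33 LD3_c11) (LK LD1_c13 LD2_c17 LD3_c25) Lrfl Lrfl
theorem f513201 : Led Lsl_ff (LP (LK LD1_c13 LD2_c38 LD3_c35)) = (LP (LK LD1_c7 LD2_c12 LD3_c31)) :=
  Lgr Lrot3 (Lpr_ft (K34.f513182 IH) (Lpn (LP (LK LD1_c7 LD2_c12 LD3_c31))))
theorem f513205 : Led Lsl_ct (LP (LK LD1_c13 LD2_c38 LD3_c35)) = (LP (LK LD1_c22 LD2_c33 LD3_c11)) :=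
  Lgr Lrot40 (Lpr_ff (f513201 IH) (Lpr_cf (K34.f17870 IH) (Lpe (K4.f17887 IH) (Lpn (LP (LK LD1_c22 LD2_c33 LD3_c11))))))
theorem f17914 : Led Lsl_et (LP (LK LD1_c7 LD2_c12 LD3_c31)) = (LP (LK LD1_c3 LD2_c36 LD3_c4)) :=
  Lre_e IH (LK LD1_c7 LD2_c12 LD3_c31) (LK LD1_c3 LD2_c36 LD3_c4) Lrfl Lrfl
theorem f136756 : Led Lsl_ft (LP (LK LD1_c3 LD2_c36 LD3_c4)) = (LP (LK LD1_c3 LD2_c32 LD3_c36)) :=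
  Lgr Lrot2 (Lpr_gt (K7.f136754 IH) (Lpr_gt (K24.f116577 IH) (Lpe (K4.f92443 IH) (Lpn (LP (LK LD1_c3 LD2_c32 LD3_c36))))))
theorem f92456 : Led Lsl_et (LP (LK LD1_c3 LD2_c32 LD3_c36)) = (LP (LK LD1_c7 LD2_c6 LD3_c5)) :=
  Lre_e IH (LK LD1_c3 LD2_c32 LD3_c36) (LK LD1_c7 LD2_c6 LD3_c5) Lrfl Lrfl
theorem f513199 : Led Lsl_ef (LP (LK LD1_c13 LD2_c38 LD3_c35)) = (LP (LK LD1_c13 LD2_c26 LD3_c52)) :=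
  Lgr Lrot21 (Lpr_ft (K34.f513182 IH) (Lpr_et (f17914 IH) (Lpr_ft (f136756 IH) (Lpr_et (f92456 IH) (Lpe (K35.f466525 IH) (Lpn (LP (LK LD1_c13 LD2_c26 LD3_c52))))))))
theorem f540284 : Led Lsl_bt (LP (LK LD1_c13 LD2_c38 LD3_c35)) = (LP (LK LD1_c8 LD2_c46 LD3_c0)) :=
  Lgr Lrot119 (Lpr_ef (f513199 IH) (Lpr_bf (K35.f466529 IH) (Lpr_ef (K36.f540280 IH) (Lpn (LP (LK LD1_c8 LD2_c46 LD3_c0))))))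
theorem f543634 : Led Lsl_gt (LP (LK LD1_c7 LD2_c5 LD3_c39)) = (LP (LK LD1_c8 LD2_c46 LD3_c0)) :=
  Lgr Lrot164 (Lpe (f489392 IH) (Lpr_ct (f116260 IH) (Lpr_gf (f489388 IH) (Lpe (f543578 IH) (Lpe (f205236 IH) (Lpe (f210905 IH) (Lpr_ct (f543614 IH) (Lpe (f111810 IH) (Lpe (f513205 IH) (Lpr_bt (f540284 IH) (Lpn (LP (LK LD1_c8 LD2_c46 LD3_c0)))))))))))))
theorem f540286 : Led Lsl_ct (LP (LK LD1_c13 LD2_c57 LD3_c46)) = (LP (LK LD1_c8 LD2_c46 LD3_c0)) :=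
  Lgr Lrot15 (Lpe (K34.f469382 IH) (Lpr_cf (K28.f469267 IH) (Lpr_ef (K36.f540280 IH) (Lpn (LP (LK LD1_c8 LD2_c46 LD3_c0))))))
theorem f419634 : Led Lsl_at (LP (LK LD1_c3 LD2_c43 LD3_c49)) = (LP (LK LD1_c7 LD2_c28 LD3_c11)) :=
  Lre_a IH (LK LD1_c3 LD2_c43 LD3_c49) (LK LD1_c7 LD2_c28 LD3_c11) Lrfl Lrfl
theorem f543539 : Led Lsl_bf (LP (LK LD1_c6 LD2_c14 LD3_c57)) = (LP (LK LD1_c7 LD2_c28 LD3_c11)) :=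
  Lgr Lrot81 (Lpr_at (f543424 IH) (Lpr_bt (K35.f128305 IH) (Lpr_at (K28.f122354 IH) (Lpr_bt (K28.f159501 IH) (Lpr_at (f419634 IH) (Lpn (LP (LK LD1_c7 LD2_c28 LD3_c11))))))))
theorem f70728 : Led Lsl_gt (LP (LK LD1_c6 LD2_c14 LD3_c57)) = (LP (LK LD1_c12 LD2_c8 LD3_c14)) :=
  Lre_g IH (LK LD1_c6 LD2_c14 LD3_c57) (LK LD1_c12 LD2_c8 LD3_c14) Lrfl Lrfl
theorem f543636 : Led Lsl_cf (LP (LK LD1_c7 LD2_c5 LD3_c39)) = (LP (LK LD1_c12 LD2_c8 LD3_c14)) :=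
  Lgr Lrot125 (Lpr_gt (f543634 IH) (Lpe (f540286 IH) (Lpr_bt (K34.f146940 IH) (Lpr_gt (K24.f123763 IH) (Lpe (K28.f123830 IH) (Lpr_ct (K28.f468160 IH) (Lpr_gt (K28.f419420 IH) (Lpr_cf (K28.f419429 IH) (Lpe (f543539 IH) (Lpr_gt (f70728 IH) (Lpn (LP (LK LD1_c12 LD2_c8 LD3_c14)))))))))))))
theorem f543638 : Led Lsl_bt (LP (LK LD1_c12 LD2_c8 LD3_c14)) = (LP (LK LD1_c21 LD2_c14 LD3_c29)) :=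
  Lre_b IH (LK LD1_c12 LD2_c8 LD3_c14) (LK LD1_c21 LD2_c14 LD3_c29) Lrfl Lrfl
theorem f492871 : Led Lsl_dt (LP (LK LD1_c13 LD2_c7 LD3_c47)) = (LP (LK LD1_c14 LD2_c12 LD3_c60)) :=
  Lgr Lrot60 (Lpe (K34.f492380 IH) (Lpe (K34.f98797 IH) (Lpr_ff (K34.f492864 IH) (Lpn (LP (LK LD1_c14 LD2_c12 LD3_c60))))))
theorem f462849 : Led Lsl_at (LP (LK LD1_c22 LD2_c19 LD3_c48)) = (LP (LK LD1_c13 LD2_c7 LD3_c47)) :=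
  Lre_a IH (LK LD1_c22 LD2_c19 LD3_c48) (LK LD1_c13 LD2_c7 LD3_c47) Lrfl Lrfl
theorem f492887 : Led Lsl_dt (LP (LK LD1_c23 LD2_c47 LD3_c59)) = (LP (LK LD1_c22 LD2_c19 LD3_c48)) :=
  Lgr Lrot44 (Lpr_af (K34.f492883 IH) (Lpe (f492871 IH) (Lpe (f462849 IH) (Lpn (LP (LK LD1_c22 LD2_c19 LD3_c48))))))
theorem f471370 : Led Lsl_ct (LP (LK LD1_c7 LD2_c20 LD3_c46)) = (LP (LK LD1_c3 LD2_c40 LD3_c17)) :=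
  Lre_c IH (LK LD1_c7 LD2_c20 LD3_c46) (LK LD1_c3 LD2_c40 LD3_c17) Lrfl Lrfl
theorem f451938 : Led Lsl_ff (LP (LK LD1_c7 LD2_c54 LD3_c2)) = (LP (LK LD1_c7 LD2_c54 LD3_c3)) :=
  Lgr Lrot3 (Lpr_ft (K33.f451931 IH) (Lpn (LP (LK LD1_c7 LD2_c54 LD3_c3))))
theorem f451943 : Led Lsl_gt (LP (LK LD1_c7 LD2_c54 LD3_c3)) = (LP (LK LD1_c14 LD2_c54 LD3_c9)) :=
  Lre_g IH (LK LD1_c7 LD2_c54 LD3_c3) (LK LD1_c14 LD2_c54 LD3_c9) Lrfl Lrfl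
theorem f471626 : Led Lsl_gt (LP (LK LD1_c14 LD2_c54 LD3_c9)) = (LP (LK LD1_c13 LD2_c53 LD3_c29)) :=
  Lgr Lrot46 (Lpe (f451943 IH) (Lpe (f451938 IH) (Lpr_at (K33.f471618 IH) (Lpn (LP (LK LD1_c13 LD2_c53 LD3_c29))))))
theorem f129177 : Led Lsl_df (LP (LK LD1_c7 LD2_c21 LD3_c19)) = (LP (LK LD1_c7 LD2_c22 LD3_c7)) :=
  Lgr Lrot38 (Lpr_dt (K28.f129173 IH) (Lpn (LP (LK LD1_c7 LD2_c22 LD3_c7))))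
theorem f469525 : Led Lsl_gt (LP (LK LD1_c7 LD2_c21 LD3_c19)) = (LP (LK LD1_c3 LD2_c56 LD3_c27)) :=
  Lgr Lrot9 (Lpr_df (f129177 IH) (Lpr_gt (K28.f12599 IH) (Lpr_ct (K28.f129183 IH) (Lpr_gt (K28.f469517 IH) (Lpr_ct (K28.f462894 IH) (Lpe (K33.f462925 IH) (Lpe (K28.f451918 IH) (Lpe (K28.f451970 IH) (Lpe (K28.f451972 IH) (Lpn (LP (LK LD1_c3 LD2_c56 LD3_c27))))))))))))
theorem f477502 : Led Lsl_ct (LP (LK LD1_c7 LD2_c45 LD3_c35)) = (LP (LK LD1_c3 LD2_c51 LD3_c55)) :=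
  Lre_c IH (LK LD1_c7 LD2_c45 LD3_c35) (LK LD1_c3 LD2_c51 LD3_c55) Lrfl Lrfl
theorem f489567 : Led Lsl_gt (LP (LK LD1_c7 LD2_c45 LD3_c41)) = (LP (LK LD1_c3 LD2_c51 LD3_c55)) :=
  Lre_g IH (LK LD1_c7 LD2_c45 LD3_c41) (LK LD1_c3 LD2_c51 LD3_c55) Lrfl Lrfl
theorem f489582 : Led Lsl_ct (LP (LK LD1_c14 LD2_c38 LD3_c24)) = (LP (LK LD1_c7 LD2_c45 LD3_c41)) :=
  Lre_c IH (LK LD1_c14 LD2_c38 LD3_c24) (LK LD1_c7 LD2_c45 LD3_c41) Lrfl Lrfl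
theorem f489583 : Led Lsl_bf (LP (LK LD1_c14 LD2_c54 LD3_c9)) = (LP (LK LD1_c14 LD2_c38 LD3_c24)) :=
  Lgr Lrot34 (Lpe (f451943 IH) (Lpe (K33.f451922 IH) (Lpr_ct (K33.f451911 IH) (Lpe (K28.f451970 IH) (Lpe (K28.f451972 IH) (Lpe (f469525 IH) (Lpr_bf (K34.f489574 IH) (Lpr_ct (f477502 IH) (Lpe (f489567 IH) (Lpe (f489582 IH) (Lpn (LP (LK LD1_c14 LD2_c38 LD3_c24)))))))))))))
theorem f463990 : Led Lsl_gt (LP (LK LD1_c14 LD2_c38 LD3_c13)) = (LP (LK LD1_c7 LD2_c45 LD3_c41)) :=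
  Lre_g IH (LK LD1_c14 LD2_c38 LD3_c13) (LK LD1_c7 LD2_c45 LD3_c41) Lrfl Lrfl
theorem f488120 : Led Lsl_ct (LP (LK LD1_c3 LD2_c54 LD3_c41)) = (LP (LK LD1_c1 LD2_c53 LD3_c57)) :=
  Lre_c IH (LK LD1_c3 LD2_c54 LD3_c41) (LK LD1_c1 LD2_c53 LD3_c57) Lrfl Lrfl
theorem f524432 : Led Lsl_bt (LP (LK LD1_c3 LD2_c54 LD3_c41)) = (LP (LK LD1_c7 LD2_c51 LD3_c1)) :=
  Lre_b IH (LK LD1_c3 LD2_c54 LD3_c41) (LK LD1_c7 LD2_c51 LD3_c1) Lrfl Lrfl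
theorem f477091 : Led Lsl_gt (LP (LK LD1_c7 LD2_c51 LD3_c1)) = (LP (LK LD1_c14 LD2_c48 LD3_c33)) :=
  Lre_g IH (LK LD1_c7 LD2_c51 LD3_c1) (LK LD1_c14 LD2_c48 LD3_c33) Lrfl Lrfl
theorem f527039 : Led Lsl_cf (LP (LK LD1_c14 LD2_c38 LD3_c13)) = (LP (LK LD1_c14 LD2_c48 LD3_c33)) :=
  Lgr Lrot125 (Lpr_gt (f463990 IH) (Lpe (f489582 IH) (Lpe (f489583 IH) (Lpr_gt (f471626 IH) (Lpe (K33.f471367 IH) (Lpr_ct (f471370 IH) (Lpr_gt (K34.f527036 IH) (Lpe (f488120 IH) (Lpr_bt (f524432 IH) (Lpr_gt (f477091 IH) (Lpn (LP (LK LD1_c14 LD2_c48 LD3_c33)))))))))))))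
theorem f461915 : Led Lsl_bt (LP (LK LD1_c6 LD2_c57 LD3_c17)) = (LP (LK LD1_c13 LD2_c12 LD3_c25)) :=
  Lre_b IH (LK LD1_c6 LD2_c57 LD3_c17) (LK LD1_c13 LD2_c12 LD3_c25) Lrfl Lrfl
theorem f463982 : Led Lsl_bt (LP (LK LD1_c7 LD2_c45 LD3_c43)) = (LP (LK LD1_c3 LD2_c52 LD3_c3)) :=
  Lre_b IH (LK LD1_c7 LD2_c45 LD3_c43) (LK LD1_c3 LD2_c52 LD3_c3) Lrfl Lrfl
theorem f463983 : Led Lsl_at (LP (LK LD1_c14 LD2_c38 LD3_c13)) = (LP (LK LD1_c7 LD2_c45 LD3_c43)) :=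
  Lre_a IH (LK LD1_c14 LD2_c38 LD3_c13) (LK LD1_c7 LD2_c45 LD3_c43) Lrfl Lrfl
theorem f463984 : Led Lsl_bt (LP (LK LD1_c22 LD2_c26 LD3_c9)) = (LP (LK LD1_c14 LD2_c38 LD3_c13)) :=
  Lgr Lrot62 (Lpe (K34.f463937 IH) (Lpe (f461915 IH) (Lpr_af (K33.f463976 IH) (Lpe (f463982 IH) (Lpe (f463983 IH) (Lpn (LP (LK LD1_c14 LD2_c38 LD3_c13))))))))
theorem f463986 : Led Lsl_bf (LP (LK LD1_c22 LD2_c26 LD3_c9)) = (LP (LK LD1_c14 LD2_c38 LD3_c13)) :=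
  Lgr Lrot24 (Lpr_bt (f463984 IH) (Lpn (LP (LK LD1_c14 LD2_c38 LD3_c13))))
theorem f527038 : Led Lsl_bt (LP (LK LD1_c24 LD2_c34 LD3_c46)) = (LP (LK LD1_c14 LD2_c48 LD3_c33)) :=
  Lre_b IH (LK LD1_c24 LD2_c34 LD3_c46) (LK LD1_c14 LD2_c48 LD3_c33) Lrfl Lrfl
theorem f527043 : Led Lsl_ct (LP (LK LD1_c22 LD2_c19 LD3_c48)) = (LP (LK LD1_c24 LD2_c34 LD3_c46)) :=
  Lgr Lrot83 (Lpr_bf (K34.f492548 IH) (Lpe (K34.f463991 IH) (Lpr_bf (f463986 IH) (Lpr_cf (f527039 IH) (Lpe (f527038 IH) (Lpn (LP (LK LD1_c24 LD2_c34 LD3_c46))))))))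
theorem f18813 : Led Lsl_bt (LP (LK LD1_c7 LD2_c2 LD3_c49)) = (LP (LK LD1_c3 LD2_c30 LD3_c27)) :=
  Lre_b IH (LK LD1_c7 LD2_c2 LD3_c49) (LK LD1_c3 LD2_c30 LD3_c27) Lrfl Lrfl
theorem f463995 : Led Lsl_bt (LP (LK LD1_c3 LD2_c52 LD3_c3)) = (LP (LK LD1_c7 LD2_c45 LD3_c43)) :=
  Lre_b IH (LK LD1_c3 LD2_c52 LD3_c3) (LK LD1_c7 LD2_c45 LD3_c43) Lrfl Lrfl
theorem f491893 : Led Lsl_df (LP (LK LD1_c7 LD2_c2 LD3_c49)) = (LP (LK LD1_c7 LD2_c45 LD3_c43)) :=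
  Lgr Lrot12 (Lpr_bt (f18813 IH) (Lpr_dt (K33.f491881 IH) (Lpr_bt (f463995 IH) (Lpn (LP (LK LD1_c7 LD2_c45 LD3_c43))))))
theorem f492084 : Led Lsl_et (LP (LK LD1_c7 LD2_c2 LD3_c49)) = (LP (LK LD1_c13 LD2_c21 LD3_c55)) :=
  Lre_e IH (LK LD1_c7 LD2_c2 LD3_c49) (LK LD1_c13 LD2_c21 LD3_c55) Lrfl Lrfl
theorem f492085 : Led Lsl_dt (LP (LK LD1_c13 LD2_c21 LD3_c55)) = (LP (LK LD1_c22 LD2_c38 LD3_c57)) :=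
  Lre_d IH (LK LD1_c13 LD2_c21 LD3_c55) (LK LD1_c22 LD2_c38 LD3_c57) Lrfl Lrfl
theorem f492086 : Led Lsl_ef (LP (LK LD1_c14 LD2_c1 LD3_c25)) = (LP (LK LD1_c22 LD2_c38 LD3_c57)) :=
  Lgr Lrot73 (Lpr_dt (K34.f474267 IH) (Lpr_et (K34.f492082 IH) (Lpe (f491893 IH) (Lpr_et (f492084 IH) (Lpr_dt (f492085 IH) (Lpn (LP (LK LD1_c22 LD2_c38 LD3_c57))))))))
theorem f492123 : Led Lsl_et (LP (LK LD1_c14 LD2_c1 LD3_c25)) = (LP (LK LD1_c22 LD2_c38 LD3_c57)) :=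
  Lgr Lrot87 (Lpr_ef (f492086 IH) (Lpn (LP (LK LD1_c22 LD2_c38 LD3_c57))))
theorem f474271 : Led Lsl_bt (LP (LK LD1_c7 LD2_c24 LD3_c50)) = (LP (LK LD1_c14 LD2_c1 LD3_c24)) :=
  Lre_b IH (LK LD1_c7 LD2_c24 LD3_c50) (LK LD1_c14 LD2_c1 LD3_c24) Lrfl Lrfl
theorem f474272 : Led Lsl_df (LP (LK LD1_c14 LD2_c1 LD3_c25)) = (LP (LK LD1_c14 LD2_c1 LD3_c24)) :=
  Lgr Lrot12 (Lpr_bt (K34.f456423 IH) (Lpr_dt (K34.f474269 IH) (Lpr_bt (f474271 IH) (Lpn (LP (LK LD1_c14 LD2_c1 LD3_c24))))))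
theorem f492125 : Led Lsl_dt (LP (LK LD1_c22 LD2_c38 LD3_c57)) = (LP (LK LD1_c13 LD2_c21 LD3_c55)) :=
  Lre_d IH (LK LD1_c22 LD2_c38 LD3_c57) (LK LD1_c13 LD2_c21 LD3_c55) Lrfl Lrfl
theorem f492130 : Led Lsl_et (LP (LK LD1_c13 LD2_c21 LD3_c55)) = (LP (LK LD1_c7 LD2_c2 LD3_c49)) :=
  Lre_e IH (LK LD1_c13 LD2_c21 LD3_c55) (LK LD1_c7 LD2_c2 LD3_c49) Lrfl Lrfl
theorem f492131 : Led Lsl_df (LP (LK LD1_c7 LD2_c45 LD3_c43)) = (LP (LK LD1_c7 LD2_c2 LD3_c49)) :=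
  Lgr Lrot70 (Lpe (K34.f492077 IH) (Lpe (f474272 IH) (Lpr_et (f492123 IH) (Lpr_dt (f492125 IH) (Lpr_et (f492130 IH) (Lpn (LP (LK LD1_c7 LD2_c2 LD3_c49))))))))
theorem f463996 : Led Lsl_at (LP (LK LD1_c7 LD2_c45 LD3_c43)) = (LP (LK LD1_c14 LD2_c38 LD3_c13)) :=
  Lre_a IH (LK LD1_c7 LD2_c45 LD3_c43) (LK LD1_c14 LD2_c38 LD3_c13) Lrfl Lrfl
theorem f492133 : Led Lsl_at (LP (LK LD1_c13 LD2_c21 LD3_c53)) = (LP (LK LD1_c7 LD2_c2 LD3_c49)) :=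
  Lre_a IH (LK LD1_c13 LD2_c21 LD3_c53) (LK LD1_c7 LD2_c2 LD3_c49) Lrfl Lrfl
theorem f492134 : Led Lsl_dt (LP (LK LD1_c14 LD2_c38 LD3_c13)) = (LP (LK LD1_c13 LD2_c21 LD3_c53)) :=
  Lgr Lrot44 (Lpe (f463996 IH) (Lpr_df (f492131 IH) (Lpe (f492133 IH) (Lpn (LP (LK LD1_c13 LD2_c21 LD3_c53))))))
theorem f492137 : Led Lsl_ct (LP (LK LD1_c13 LD2_c21 LD3_c53)) = (LP (LK LD1_c22 LD2_c38 LD3_c50)) :=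
  Lre_c IH (LK LD1_c13 LD2_c21 LD3_c53) (LK LD1_c22 LD2_c38 LD3_c50) Lrfl Lrfl
theorem f492138 : Led Lsl_dt (LP (LK LD1_c22 LD2_c38 LD3_c50)) = (LP (LK LD1_c30 LD2_c37 LD3_c33)) :=
  Lre_d IH (LK LD1_c22 LD2_c38 LD3_c50) (LK LD1_c30 LD2_c37 LD3_c33) Lrfl Lrfl
theorem f463989 : Led Lsl_ft (LP (LK LD1_c14 LD2_c38 LD3_c13)) = (LP (LK LD1_c7 LD2_c45 LD3_c33)) :=
  Lre_f IH (LK LD1_c14 LD2_c38 LD3_c13) (LK LD1_c7 LD2_c45 LD3_c33) Lrfl Lrfl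
theorem f489596 : Led Lsl_at (LP (LK LD1_c7 LD2_c45 LD3_c33)) = (LP (LK LD1_c3 LD2_c51 LD3_c55)) :=
  Lre_a IH (LK LD1_c7 LD2_c45 LD3_c33) (LK LD1_c3 LD2_c51 LD3_c55) Lrfl Lrfl
theorem f128315 : Led Lsl_dt (LP (LK LD1_c31 LD2_c3 LD3_c44)) = (LP (LK LD1_c23 LD2_c27 LD3_c12)) :=
  Lre_d IH (LK LD1_c31 LD2_c3 LD3_c44) (LK LD1_c23 LD2_c27 LD3_c12) Lrfl Lrfl
theorem f492145 : Led Lsl_cf (LP (LK LD1_c31 LD2_c3 LD3_c44)) = (LP (LK LD1_c30 LD2_c37 LD3_c33)) :=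
  Lgr Lrot116 (Lpr_dt (f128315 IH) (Lpr_ct (K35.f128314 IH) (Lpr_dt (K34.f489578 IH) (Lpr_ct (f477502 IH) (Lpe (f489596 IH) (Lpe (f463989 IH) (Lpr_dt (f492134 IH) (Lpr_ct (f492137 IH) (Lpr_dt (f492138 IH) (Lpn (LP (LK LD1_c30 LD2_c37 LD3_c33))))))))))))
theorem f527049 : Led Lsl_dt (LP (LK LD1_c13 LD2_c56 LD3_c26)) = (LP (LK LD1_c14 LD2_c48 LD3_c33)) :=
  Lgr Lrot159 (Lpe (K34.f489604 IH) (Lpr_at (K34.f489591 IH) (Lpe (K35.f128314 IH) (Lpe (f128315 IH) (Lpr_cf (f492145 IH) (Lpe (f492138 IH) (Lpe (f492137 IH) (Lpe (f492134 IH) (Lpr_cf (f527039 IH) (Lpn (LP (LK LD1_c14 LD2_c48 LD3_c33))))))))))))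
theorem f527058 : Led Lsl_ff (LP (LK LD1_c14 LD2_c2 LD3_c59)) = (LP (LK LD1_c14 LD2_c48 LD3_c33)) :=
  Lgr Lrot19 (Lpe (K34.f492791 IH) (Lpr_ft (K34.f489609 IH) (Lpr_dt (f527049 IH) (Lpn (LP (LK LD1_c14 LD2_c48 LD3_c33))))))
theorem f527061 : Led Lsl_ft (LP (LK LD1_c22 LD2_c27 LD3_c15)) = (LP (LK LD1_c24 LD2_c34 LD3_c46)) :=
  Lgr Lrot75 (Lpr_bf (K34.f492802 IH) (Lpr_ff (f527058 IH) (Lpe (f527038 IH) (Lpn (LP (LK LD1_c24 LD2_c34 LD3_c46))))))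
theorem f527098 : Led Lsl_ff (LP (LK LD1_c22 LD2_c27 LD3_c15)) = (LP (LK LD1_c24 LD2_c34 LD3_c46)) :=
  Lgr Lrot3 (Lpr_ft (f527061 IH) (Lpn (LP (LK LD1_c24 LD2_c34 LD3_c46))))
theorem f469879 : Led Lsl_at (LP (LK LD1_c23 LD2_c27 LD3_c7)) = (LP (LK LD1_c13 LD2_c56 LD3_c4)) :=
  Lre_a IH (LK LD1_c23 LD2_c27 LD3_c7) (LK LD1_c13 LD2_c56 LD3_c4) Lrfl Lrfl
theorem f492758 : Led Lsl_ff (LP (LK LD1_c23 LD2_c27 LD3_c7)) = (LP (LK LD1_c23 LD2_c40 LD3_c30)) :=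
  Lgr Lrot30 (Lpr_at (f469879 IH) (Lpr_ft (K34.f492756 IH) (Lpr_at (K34.f462856 IH) (Lpn (LP (LK LD1_c23 LD2_c40 LD3_c30))))))
theorem f527102 : Led Lsl_dt (LP (LK LD1_c23 LD2_c27 LD3_c7)) = (LP (LK LD1_c24 LD2_c34 LD3_c46)) :=
  Lgr Lrot60 (Lpr_ff (f492758 IH) (Lpe (K34.f462862 IH) (Lpr_ff (f527098 IH) (Lpn (LP (LK LD1_c24 LD2_c34 LD3_c46))))))
theorem f533161 : Led Lsl_gf (LP (LK LD1_c23 LD2_c27 LD3_c7)) = (LP (LK LD1_c23 LD2_c38 LD3_c11)) :=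
  Lgr Lrot143 (Lpr_dt (f527102 IH) (Lpe (f527043 IH) (Lpe (f492887 IH) (Lpe (K34.f111400 IH) (Lpe (K34.f111408 IH) (Lpr_gf (K28.f463453 IH) (Lpe (K28.f463397 IH) (Lpr_gt (K34.f533139 IH) (Lpr_dt (K34.f102902 IH) (Lpn (LP (LK LD1_c23 LD2_c38 LD3_c11))))))))))))
theorem f533173 : Led Lsl_gt (LP (LK LD1_c14 LD2_c6 LD3_c31)) = (LP (LK LD1_c23 LD2_c38 LD3_c11)) :=
  Lgr Lrot5 (Lpe (K34.f492762 IH) (Lpr_at (K34.f469877 IH) (Lpr_gf (f533161 IH) (Lpn (LP (LK LD1_c23 LD2_c38 LD3_c11))))))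
theorem f533262 : Led Lsl_gt (LP (LK LD1_c23 LD2_c40 LD3_c19)) = (LP (LK LD1_c14 LD2_c6 LD3_c31)) :=
  Lgr Lrot5 (Lpr_ft (K34.f533195 IH) (Lpr_at (K34.f108922 IH) (Lpe (f533173 IH) (Lpn (LP (LK LD1_c14 LD2_c6 LD3_c31))))))
theorem f533264 : Led Lsl_gf (LP (LK LD1_c23 LD2_c40 LD3_c19)) = (LP (LK LD1_c23 LD2_c27 LD3_c7)) :=
  Lgr Lrot47 (Lpr_gt (f533262 IH) (Lpe (K34.f462864 IH) (Lpe (K34.f492764 IH) (Lpn (LP (LK LD1_c23 LD2_c27 LD3_c7))))))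
theorem f468953 : Led Lsl_ct (LP (LK LD1_c23 LD2_c40 LD3_c19)) = (LP (LK LD1_c31 LD2_c10 LD3_c21)) :=
  Lre_c IH (LK LD1_c23 LD2_c40 LD3_c19) (LK LD1_c31 LD2_c10 LD3_c21) Lrfl Lrfl
theorem f527051 : Led Lsl_bt (LP (LK LD1_c14 LD2_c48 LD3_c33)) = (LP (LK LD1_c24 LD2_c34 LD3_c46)) :=
  Lre_b IH (LK LD1_c14 LD2_c48 LD3_c33) (LK LD1_c24 LD2_c34 LD3_c46) Lrfl Lrfl
theorem f527054 : Led Lsl_df (LP (LK LD1_c23 LD2_c27 LD3_c7)) = (LP (LK LD1_c24 LD2_c34 LD3_c46)) :=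
  Lgr Lrot12 (Lpe (K34.f492778 IH) (Lpr_dt (f527049 IH) (Lpr_bt (f527051 IH) (Lpn (LP (LK LD1_c24 LD2_c34 LD3_c46))))))
theorem f462851 : Led Lsl_gt (LP (LK LD1_c22 LD2_c27 LD3_c14)) = (LP (LK LD1_c13 LD2_c13 LD3_c9)) :=
  Lre_g IH (LK LD1_c22 LD2_c27 LD3_c14) (LK LD1_c13 LD2_c13 LD3_c9) Lrfl Lrfl
theorem f527104 : Led Lsl_gf (LP (LK LD1_c22 LD2_c27 LD3_c14)) = (LP (LK LD1_c24 LD2_c34 LD3_c46)) :=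
  Lgr Lrot47 (Lpr_gt (f462851 IH) (Lpe (K34.f462829 IH) (Lpr_ff (f527098 IH) (Lpn (LP (LK LD1_c24 LD2_c34 LD3_c46))))))
theorem f98782 : Led Lsl_ct (LP (LK LD1_c6 LD2_c57 LD3_c54)) = (LP (LK LD1_c13 LD2_c13 LD3_c9)) :=
  Lre_c IH (LK LD1_c6 LD2_c57 LD3_c54) (LK LD1_c13 LD2_c13 LD3_c9) Lrfl Lrfl
theorem f459886 : Led Lsl_bt (LP (LK LD1_c3 LD2_c52 LD3_c41)) = (LP (LK LD1_c7 LD2_c47 LD3_c7)) :=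
  Lre_b IH (LK LD1_c3 LD2_c52 LD3_c41) (LK LD1_c7 LD2_c47 LD3_c7) Lrfl Lrfl
theorem f459887 : Led Lsl_gt (LP (LK LD1_c7 LD2_c47 LD3_c7)) = (LP (LK LD1_c14 LD2_c41 LD3_c23)) :=
  Lre_g IH (LK LD1_c7 LD2_c47 LD3_c7) (LK LD1_c14 LD2_c41 LD3_c23) Lrfl Lrfl
theorem f473534 : Led Lsl_bt (LP (LK LD1_c24 LD2_c25 LD3_c59)) = (LP (LK LD1_c14 LD2_c41 LD3_c23)) :=
  Lre_b IH (LK LD1_c24 LD2_c25 LD3_c59) (LK LD1_c14 LD2_c41 LD3_c23) Lrfl Lrfl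
theorem f473535 : Led Lsl_cf (LP (LK LD1_c22 LD2_c27 LD3_c14)) = (LP (LK LD1_c24 LD2_c25 LD3_c59)) :=
  Lgr Lrot160 (Lpr_gt (f462851 IH) (Lpe (f98782 IH) (Lpr_bt (K34.f98751 IH) (Lpr_gt (K29.f473528 IH) (Lpe (K29.f473444 IH) (Lpr_gt (K29.f63010 IH) (Lpe (K29.f457986 IH) (Lpr_bt (f459886 IH) (Lpr_gt (f459887 IH) (Lpe (f473534 IH) (Lpn (LP (LK LD1_c24 LD2_c25 LD3_c59)))))))))))))
theorem f473539 : Led Lsl_ct (LP (LK LD1_c22 LD2_c27 LD3_c14)) = (LP (LK LD1_c24 LD2_c25 LD3_c59)) :=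
  Lgr Lrot59 (Lpr_cf (f473535 IH) (Lpn (LP (LK LD1_c24 LD2_c25 LD3_c59))))
theorem f111287 : Led Lsl_dt (LP (LK LD1_c30 LD2_c7 LD3_c28)) = (LP (LK LD1_c21 LD2_c41 LD3_c13)) :=
  Lre_d IH (LK LD1_c30 LD2_c7 LD3_c28) (LK LD1_c21 LD2_c41 LD3_c13) Lrfl Lrfl
theorem f464254 : Led Lsl_bt (LP (LK LD1_c7 LD2_c30 LD3_c18)) = (LP (LK LD1_c14 LD2_c10 LD3_c20)) :=
  Lre_b IH (LK LD1_c7 LD2_c30 LD3_c18) (LK LD1_c14 LD2_c10 LD3_c20) Lrfl Lrfl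
theorem f464237 : Led Lsl_bf (LP (LK LD1_c14 LD2_c10 LD3_c21)) = (LP (LK LD1_c13 LD2_c53 LD3_c55)) :=
  Lgr Lrot24 (Lpr_bt (K35.f464232 IH) (Lpn (LP (LK LD1_c13 LD2_c53 LD3_c55))))
theorem f465451 : Led Lsl_bt (LP (LK LD1_c14 LD2_c46 LD3_c8)) = (LP (LK LD1_c23 LD2_c24 LD3_c5)) :=
  Lgr Lrot128 (Lpr_cf (K28.f465449 IH) (Lpe (f464254 IH) (Lpe (K35.f16731 IH) (Lpr_bf (f464237 IH) (Lpe (K35.f462758 IH) (Lpn (LP (LK LD1_c23 LD2_c24 LD3_c5))))))))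
theorem f465453 : Led Lsl_ct (LP (LK LD1_c14 LD2_c46 LD3_c8)) = (LP (LK LD1_c14 LD2_c10 LD3_c20)) :=
  Lgr Lrot59 (Lpr_cf (K28.f465449 IH) (Lpn (LP (LK LD1_c14 LD2_c10 LD3_c20))))
theorem f532890 : Led Lsl_gt (LP (LK LD1_c13 LD2_c10 LD3_c28)) = (LP (LK LD1_c14 LD2_c10 LD3_c20)) :=
  Lgr Lrot149 (Lpe (K6.f122717 IH) (Lpe (K34.f532813 IH) (Lpe (K35.f493033 IH) (Lpr_ct (K35.f493001 IH) (Lpr_gf (K35.f492097 IH) (Lpe (K34.f471510 IH) (Lpr_bt (K34.f532879 IH) (Lpe (K35.f532873 IH) (Lpe (f465451 IH) (Lpr_ct (f465453 IH) (Lpn (LP (LK LD1_c14 LD2_c10 LD3_c20)))))))))))))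
theorem f122726 : Led Lsl_et (LP (LK LD1_c6 LD2_c56 LD3_c13)) = (LP (LK LD1_c13 LD2_c10 LD3_c28)) :=
  Lre_e IH (LK LD1_c6 LD2_c56 LD3_c13) (LK LD1_c13 LD2_c10 LD3_c28) Lrfl Lrfl
theorem f428967 : Led Lsl_et (LP (LK LD1_c23 LD2_c45 LD3_c34)) = (LP (LK LD1_c14 LD2_c10 LD3_c20)) :=
  Lre_e IH (LK LD1_c23 LD2_c45 LD3_c34) (LK LD1_c14 LD2_c10 LD3_c20) Lrfl Lrfl
theorem f16736 : Led Lsl_et (LP (LK LD1_c14 LD2_c10 LD3_c23)) = (LP (LK LD1_c7 LD2_c30 LD3_c18)) :=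
  Lre_e IH (LK LD1_c14 LD2_c10 LD3_c23) (LK LD1_c7 LD2_c30 LD3_c18) Lrfl Lrfl
theorem f18937 : Led Lsl_et (LP (LK LD1_c13 LD2_c14 LD3_c55)) = (LP (LK LD1_c6 LD2_c59 LD3_c54)) :=
  Lre_e IH (LK LD1_c13 LD2_c14 LD3_c55) (LK LD1_c6 LD2_c59 LD3_c54) Lrfl Lrfl
theorem f18932 : Led Lsl_dt (LP (LK LD1_c13 LD2_c14 LD3_c55)) = (LP (LK LD1_c22 LD2_c29 LD3_c52)) :=
  Lre_d IH (LK LD1_c13 LD2_c14 LD3_c55) (LK LD1_c22 LD2_c29 LD3_c52) Lrfl Lrfl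
theorem f18933 : Led Lsl_dt (LP (LK LD1_c22 LD2_c29 LD3_c52)) = (LP (LK LD1_c13 LD2_c14 LD3_c55)) :=
  Lre_d IH (LK LD1_c22 LD2_c29 LD3_c52) (LK LD1_c13 LD2_c14 LD3_c55) Lrfl Lrfl
theorem f18992 : Led Lsl_af (LP (LK LD1_c22 LD2_c29 LD3_c52)) = (LP (LK LD1_c22 LD2_c12 LD3_c34)) :=
  Lgr Lrot117 (Lpr_dt (f18933 IH) (Lpr_at (K8.f18672 IH) (Lpr_dt (K8.f15840 IH) (Lpn (LP (LK LD1_c22 LD2_c12 LD3_c34))))))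
theorem f18938 : Led Lsl_ft (LP (LK LD1_c22 LD2_c29 LD3_c52)) = (LP (LK LD1_c13 LD2_c14 LD3_c54)) :=
  Lre_f IH (LK LD1_c22 LD2_c29 LD3_c52) (LK LD1_c13 LD2_c14 LD3_c54) Lrfl Lrfl
theorem f15870 : Led Lsl_ft (LP (LK LD1_c13 LD2_c2 LD3_c51)) = (LP (LK LD1_c22 LD2_c12 LD3_c34)) :=
  Lre_f IH (LK LD1_c13 LD2_c2 LD3_c51) (LK LD1_c22 LD2_c12 LD3_c34) Lrfl Lrfl
theorem f19007 : Led Lsl_at (LP (LK LD1_c13 LD2_c14 LD3_c54)) = (LP (LK LD1_c13 LD2_c2 LD3_c51)) :=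
  Lgr Lrot66 (Lpe (f18938 IH) (Lpr_af (f18992 IH) (Lpe (f15870 IH) (Lpn (LP (LK LD1_c13 LD2_c2 LD3_c51))))))
theorem f15872 : Led Lsl_gt (LP (LK LD1_c22 LD2_c12 LD3_c32)) = (LP (LK LD1_c13 LD2_c2 LD3_c51)) :=
  Lre_g IH (LK LD1_c22 LD2_c12 LD3_c32) (LK LD1_c13 LD2_c2 LD3_c51) Lrfl Lrfl
theorem f19021 : Led Lsl_gt (LP (LK LD1_c22 LD2_c29 LD3_c52)) = (LP (LK LD1_c22 LD2_c12 LD3_c32)) :=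
  Lgr Lrot5 (Lpr_ft (f18938 IH) (Lpr_at (f19007 IH) (Lpe (f15872 IH) (Lpn (LP (LK LD1_c22 LD2_c12 LD3_c32))))))
theorem f156634 : Led Lsl_dt (LP (LK LD1_c14 LD2_c10 LD3_c23)) = (LP (LK LD1_c22 LD2_c12 LD3_c32)) :=
  Lgr Lrot37 (Lpr_et (f16736 IH) (Lpr_gt (K28.f16727 IH) (Lpr_dt (K7.f15940 IH) (Lpe (K7.f17042 IH) (Lpr_df (K7.f156627 IH) (Lpr_et (K7.f19024 IH) (Lpr_gt (K7.f18970 IH) (Lpe (f18937 IH) (Lpr_dt (f18932 IH) (Lpr_gt (f19021 IH) (Lpn (LP (LK LD1_c22 LD2_c12 LD3_c32)))))))))))))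
theorem f428946 : Led Lsl_df (LP (LK LD1_c14 LD2_c10 LD3_c23)) = (LP (LK LD1_c22 LD2_c12 LD3_c32)) :=
  Lgr Lrot38 (Lpr_dt (f156634 IH) (Lpn (LP (LK LD1_c22 LD2_c12 LD3_c32))))
theorem f428959 : Led Lsl_bt (LP (LK LD1_c14 LD2_c10 LD3_c23)) = (LP (LK LD1_c23 LD2_c45 LD3_c34)) :=
  Lre_b IH (LK LD1_c14 LD2_c10 LD3_c23) (LK LD1_c23 LD2_c45 LD3_c34) Lrfl Lrfl
theorem f15881 : Led Lsl_bt (LP (LK LD1_c30 LD2_c20 LD3_c45)) = (LP (LK LD1_c22 LD2_c12 LD3_c32)) :=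
  Lre_b IH (LK LD1_c30 LD2_c20 LD3_c45) (LK LD1_c22 LD2_c12 LD3_c32) Lrfl Lrfl
theorem f428960 : Led Lsl_dt (LP (LK LD1_c23 LD2_c45 LD3_c34)) = (LP (LK LD1_c30 LD2_c20 LD3_c45)) :=
  Lgr Lrot79 (Lpe (f428959 IH) (Lpr_df (f428946 IH) (Lpe (f15881 IH) (Lpn (LP (LK LD1_c30 LD2_c20 LD3_c45))))))
theorem f532892 : Led Lsl_gf (LP (LK LD1_c30 LD2_c7 LD3_c28)) = (LP (LK LD1_c30 LD2_c20 LD3_c45)) :=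
  Lgr Lrot145 (Lpe (K34.f111283 IH) (Lpr_et (K4.f111286 IH) (Lpr_gt (K8.f123603 IH) (Lpe (K6.f130257 IH) (Lpr_gt (K6.f93279 IH) (Lpe (K6.f130276 IH) (Lpr_et (f122726 IH) (Lpr_gt (f532890 IH) (Lpe (f428967 IH) (Lpr_dt (f428960 IH) (Lpn (LP (LK LD1_c30 LD2_c20 LD3_c45)))))))))))))
theorem f533175 : Led Lsl_gt (LP (LK LD1_c24 LD2_c25 LD3_c59)) = (LP (LK LD1_c23 LD2_c45 LD3_c34)) :=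
  Lgr Lrot94 (Lpe (f473539 IH) (Lpr_gt (f462851 IH) (Lpr_dt (K34.f462854 IH) (Lpr_gt (f533173 IH) (Lpr_dt (K34.f108921 IH) (Lpr_cf (K4.f111296 IH) (Lpe (f111287 IH) (Lpr_gf (f532892 IH) (Lpe (f428960 IH) (Lpn (LP (LK LD1_c23 LD2_c45 LD3_c34))))))))))))
theorem f129491 : Led Lsl_et (LP (LK LD1_c14 LD2_c46 LD3_c8)) = (LP (LK LD1_c23 LD2_c41 LD3_c16)) :=
  Lgr Lrot87 (Lpr_ef (K28.f129487 IH) (Lpn (LP (LK LD1_c23 LD2_c41 LD3_c16))))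
theorem f465455 : Led Lsl_ct (LP (LK LD1_c23 LD2_c41 LD3_c16)) = (LP (LK LD1_c23 LD2_c45 LD3_c34)) :=
  Lgr Lrot15 (Lpe (f129491 IH) (Lpr_cf (K28.f465449 IH) (Lpe (f428967 IH) (Lpn (LP (LK LD1_c23 LD2_c45 LD3_c34))))))
theorem f489508 : Led Lsl_cf (LP (LK LD1_c23 LD2_c41 LD3_c16)) = (LP (LK LD1_c23 LD2_c45 LD3_c34)) :=
  Lgr Lrot11 (Lpr_ct (f465455 IH) (Lpn (LP (LK LD1_c23 LD2_c45 LD3_c34))))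
theorem f129489 : Led Lsl_dt (LP (LK LD1_c14 LD2_c7 LD3_c1)) = (LP (LK LD1_c23 LD2_c41 LD3_c16)) :=
  Lre_d IH (LK LD1_c14 LD2_c7 LD3_c1) (LK LD1_c23 LD2_c41 LD3_c16) Lrfl Lrfl
theorem f489510 : Led Lsl_ct (LP (LK LD1_c23 LD2_c41 LD3_c15)) = (LP (LK LD1_c14 LD2_c7 LD3_c1)) :=
  Lre_c IH (LK LD1_c23 LD2_c41 LD3_c15) (LK LD1_c14 LD2_c7 LD3_c1) Lrfl Lrfl
theorem f533272 : Led Lsl_gt (LP (LK LD1_c31 LD2_c10 LD3_c21)) = (LP (LK LD1_c23 LD2_c41 LD3_c15)) :=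
  Lgr Lrot150 (Lpe (f468953 IH) (Lpr_gf (f533264 IH) (Lpr_df (f527054 IH) (Lpe (f527104 IH) (Lpr_ct (f473539 IH) (Lpr_gt (f533175 IH) (Lpe (f489508 IH) (Lpe (f129489 IH) (Lpe (f489510 IH) (Lpn (LP (LK LD1_c23 LD2_c41 LD3_c15))))))))))))
theorem f533281 : Led Lsl_gt (LP (LK LD1_c23 LD2_c41 LD3_c15)) = (LP (LK LD1_c31 LD2_c8 LD3_c21)) :=
  Lgr Lrot46 (Lpe (f533272 IH) (Lpr_ft (K34.f533277 IH) (Lpr_at (K34.f108931 IH) (Lpn (LP (LK LD1_c31 LD2_c8 LD3_c21))))))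
theorem f147172 : Led Lsl_ct (LP (LK LD1_c14 LD2_c7 LD3_c1)) = (LP (LK LD1_c23 LD2_c41 LD3_c15)) :=
  Lre_c IH (LK LD1_c14 LD2_c7 LD3_c1) (LK LD1_c23 LD2_c41 LD3_c15) Lrfl Lrfl
theorem f108930 : Led Lsl_ct (LP (LK LD1_c31 LD2_c8 LD3_c21)) = (LP (LK LD1_c23 LD2_c38 LD3_c11)) :=
  Lre_c IH (LK LD1_c31 LD2_c8 LD3_c21) (LK LD1_c23 LD2_c38 LD3_c11) Lrfl Lrfl
theorem f533283 : Led Lsl_gt (LP (LK LD1_c14 LD2_c6 LD3_c59)) = (LP (LK LD1_c21 LD2_c41 LD3_c13)) :=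
  Lgr Lrot150 (Lpe (K28.f123782 IH) (Lpe (K24.f123763 IH) (Lpe (f123755 IH) (Lpr_gt (K28.f129493 IH) (Lpr_ct (f147172 IH) (Lpr_gt (f533281 IH) (Lpr_ct (f108930 IH) (Lpe (K34.f102902 IH) (Lpr_cf (K4.f111296 IH) (Lpn (LP (LK LD1_c21 LD2_c41 LD3_c13))))))))))))
theorem f543639 : Led Lsl_gf (LP (LK LD1_c21 LD2_c14 LD3_c29)) = (LP (LK LD1_c14 LD2_c3 LD3_c56)) :=
  Lgr Lrot124 (Lpe (f543638 IH) (Lpe (f543636 IH) (Lpr_gt (f543634 IH) (Lpe (f540286 IH) (Lpr_bt (K34.f146940 IH) (Lpr_gt (K24.f123763 IH) (Lpr_ct (K28.f123782 IH) (Lpr_gt (f533283 IH) (Lpe (K4.f111335 IH) (Lpr_bt (K7.f147807 IH) (Lpn (LP (LK LD1_c14 LD2_c3 LD3_c56)))))))))))))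
theorem f460898 : Led Lsl_bt (LP (LK LD1_c7 LD2_c28 LD3_c40)) = (LP (LK LD1_c14 LD2_c6 LD3_c58)) :=
  Lre_b IH (LK LD1_c7 LD2_c28 LD3_c40) (LK LD1_c14 LD2_c6 LD3_c58) Lrfl Lrfl
theorem f533564 : Led Lsl_gf (LP (LK LD1_c13 LD2_c19 LD3_c0)) = (LP (LK LD1_c14 LD2_c6 LD3_c58)) :=
  Lgr Lrot129 (Lpe (K7.f111174 IH) (Lpe (K34.f111172 IH) (Lpr_gt (K35.f533560 IH) (Lpe (f468321 IH) (Lpr_ct (K28.f457479 IH) (Lpr_gt (K28.f457480 IH) (Lpe (K28.f468303 IH) (Lpr_bt (K28.f98771 IH) (Lpr_gt (K28.f468294 IH) (Lpe (K28.f468158 IH) (Lpn (LP (LK LD1_c14 LD2_c6 LD3_c58)))))))))))))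
theorem f473489 : Led Lsl_bt (LP (LK LD1_c13 LD2_c25 LD3_c23)) = (LP (LK LD1_c22 LD2_c44 LD3_c13)) :=
  Lre_b IH (LK LD1_c13 LD2_c25 LD3_c23) (LK LD1_c22 LD2_c44 LD3_c13) Lrfl Lrfl
theorem f533001 : Led Lsl_ff (LP (LK LD1_c14 LD2_c3 LD3_c55)) = (LP (LK LD1_c22 LD2_c44 LD3_c13)) :=
  Lgr Lrot25 (Lpr_bt (K34.f147825 IH) (Lpr_ft (K34.f532999 IH) (Lpr_bt (f473489 IH) (Lpn (LP (LK LD1_c22 LD2_c44 LD3_c13))))))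
theorem f535030 : Led Lsl_gt (LP (LK LD1_c22 LD2_c44 LD3_c13)) = (LP (LK LD1_c14 LD2_c6 LD3_c58)) :=
  Lgr Lrot5 (Lpe (f533001 IH) (Lpe (K34.f147826 IH) (Lpr_gf (f533564 IH) (Lpn (LP (LK LD1_c14 LD2_c6 LD3_c58))))))
theorem f116265 : Led Lsl_ct (LP (LK LD1_c13 LD2_c38 LD3_c15)) = (LP (LK LD1_c7 LD2_c12 LD3_c3)) :=
  Lre_c IH (LK LD1_c13 LD2_c38 LD3_c15) (LK LD1_c7 LD2_c12 LD3_c3) Lrfl Lrfl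
theorem f116266 : Led Lsl_bt (LP (LK LD1_c13 LD2_c38 LD3_c15)) = (LP (LK LD1_c23 LD2_c3 LD3_c21)) :=
  Lre_b IH (LK LD1_c13 LD2_c38 LD3_c15) (LK LD1_c23 LD2_c3 LD3_c21) Lrfl Lrfl
theorem f473491 : Led Lsl_gt (LP (LK LD1_c23 LD2_c3 LD3_c21)) = (LP (LK LD1_c22 LD2_c44 LD3_c14)) :=
  Lgr Lrot164 (Lpe (f116266 IH) (Lpr_ct (f116265 IH) (Lpe (f106229 IH) (Lpr_cf (K36.f116136 IH) (Lpe (K34.f116155 IH) (Lpr_bf (K34.f469409 IH) (Lpr_ct (K34.f123807 IH) (Lpe (K34.f473473 IH) (Lpe (K34.f473472 IH) (Lpr_bt (K34.f473477 IH) (Lpn (LP (LK LD1_c22 LD2_c44 LD3_c14)))))))))))))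
theorem f543646 : Led Lsl_ct (LP (LK LD1_c21 LD2_c14 LD3_c29)) = (LP (LK LD1_c23 LD2_c3 LD3_c21)) :=
  Lgr Lrot91 (Lpr_gf (f543639 IH) (Lpe (K7.f147807 IH) (Lpr_ct (K4.f111335 IH) (Lpe (f533283 IH) (Lpe (K28.f123782 IH) (Lpr_bt (f460898 IH) (Lpe (f535030 IH) (Lpe (f473489 IH) (Lpr_ct (K34.f465874 IH) (Lpe (f473491 IH) (Lpn (LP (LK LD1_c23 LD2_c3 LD3_c21)))))))))))))
theorem f489390 : Led Lsl_bt (LP (LK LD1_c23 LD2_c3 LD3_c21)) = (LP (LK LD1_c13 LD2_c38 LD3_c15)) :=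
  Lre_b IH (LK LD1_c23 LD2_c3 LD3_c21) (LK LD1_c13 LD2_c38 LD3_c15) Lrfl Lrfl
theorem f543690 : Led Lsl_cf (LP (LK LD1_c12 LD2_c8 LD3_c14)) = (LP (LK LD1_c7 LD2_c5 LD3_c39)) :=
  Lgr Lrot97 (Lpr_bt (f543638 IH) (Lpr_ct (f543646 IH) (Lpr_bt (f489390 IH) (Lpr_ct (f116265 IH) (Lpr_bt (f489392 IH) (Lpn (LP (LK LD1_c7 LD2_c5 LD3_c39))))))))
theorem f70727 : Led Lsl_ct (LP (LK LD1_c3 LD2_c4 LD3_c22)) = (LP (LK LD1_c6 LD2_c14 LD3_c57)) :=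
  Lre_c IH (LK LD1_c3 LD2_c4 LD3_c22) (LK LD1_c6 LD2_c14 LD3_c57) Lrfl Lrfl
theorem f543700 : Led Lsl_bt (LP (LK LD1_c3 LD2_c4 LD3_c22)) = (LP (LK LD1_c6 LD2_c14 LD3_c44)) :=
  Lre_b IH (LK LD1_c3 LD2_c4 LD3_c22) (LK LD1_c6 LD2_c14 LD3_c44) Lrfl Lrfl
theorem f75668 : Led Lsl_gt (LP (LK LD1_c12 LD2_c7 LD3_c47)) = (LP (LK LD1_c6 LD2_c14 LD3_c44)) :=
  Lre_g IH (LK LD1_c12 LD2_c7 LD3_c47) (LK LD1_c6 LD2_c14 LD3_c44) Lrfl Lrfl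
theorem f489395 : Led Lsl_bf (LP (LK LD1_c7 LD2_c12 LD3_c3)) = (LP (LK LD1_c7 LD2_c5 LD3_c39)) :=
  Lgr Lrot24 (Lpr_bt (f489392 IH) (Lpn (LP (LK LD1_c7 LD2_c5 LD3_c39))))
theorem f466532 : Led Lsl_gt (LP (LK LD1_c7 LD2_c12 LD3_c3)) = (LP (LK LD1_c13 LD2_c38 LD3_c14)) :=
  Lre_g IH (LK LD1_c7 LD2_c12 LD3_c3) (LK LD1_c13 LD2_c38 LD3_c14) Lrfl Lrfl
theorem f469399 : Led Lsl_cf (LP (LK LD1_c7 LD2_c28 LD3_c56)) = (LP (LK LD1_c7 LD2_c17 LD3_c18)) :=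
  Lgr Lrot11 (Lpr_ct (K34.f469397 IH) (Lpn (LP (LK LD1_c7 LD2_c17 LD3_c18))))
theorem f543701 : Led Lsl_bf (LP (LK LD1_c12 LD2_c7 LD3_c47)) = (LP (LK LD1_c7 LD2_c17 LD3_c18)) :=
  Lgr Lrot156 (Lpr_gt (f75668 IH) (Lpe (f543700 IH) (Lpr_ct (f70727 IH) (Lpr_gt (f70728 IH) (Lpr_cf (f543690 IH) (Lpe (f489395 IH) (Lpr_gt (f466532 IH) (Lpe (K28.f469267 IH) (Lpr_gt (K34.f469371 IH) (Lpr_cf (f469399 IH) (Lpn (LP (LK LD1_c7 LD2_c17 LD3_c18)))))))))))))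
theorem f463848 : Led Lsl_ct (LP (LK LD1_c3 LD2_c35 LD3_c48)) = (LP (LK LD1_c3 LD2_c29 LD3_c10)) :=
  Lgr Lrot59 (Lpr_cf (K28.f463843 IH) (Lpn (LP (LK LD1_c3 LD2_c29 LD3_c10))))
theorem f18044 : Led Lsl_bt (LP (LK LD1_c3 LD2_c38 LD3_c28)) = (LP (LK LD1_c7 LD2_c17 LD3_c13)) :=
  Lre_b IH (LK LD1_c3 LD2_c38 LD3_c28) (LK LD1_c7 LD2_c17 LD3_c13) Lrfl Lrfl
theorem f543712 : Led Lsl_gf (LP (LK LD1_c12 LD2_c7 LD3_c47)) = (LP (LK LD1_c7 LD2_c17 LD3_c13)) :=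
  Lgr Lrot124 (Lpr_bf (f543701 IH) (Lpe (f469399 IH) (Lpr_gt (K34.f116155 IH) (Lpe (K4.f116149 IH) (Lpr_bt (K33.f108613 IH) (Lpr_gt (K28.f97033 IH) (Lpr_ct (f463848 IH) (Lpe (K29.f468352 IH) (Lpr_cf (K4.f18033 IH) (Lpr_bt (f18044 IH) (Lpn (LP (LK LD1_c7 LD2_c17 LD3_c13)))))))))))))
theorem f438178 : Led Lsl_dt (LP (LK LD1_c21 LD2_c14 LD3_c11)) = (LP (LK LD1_c12 LD2_c7 LD3_c47)) :=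
  Lre_d IH (LK LD1_c21 LD2_c14 LD3_c11) (LK LD1_c12 LD2_c7 LD3_c47) Lrfl Lrfl
theorem f72172 : Led Lsl_gt (LP (LK LD1_c9 LD2_c8 LD3_c11)) = (LP (LK LD1_c17 LD2_c0 LD3_c38)) :=
  Lre_g IH (LK LD1_c9 LD2_c8 LD3_c11) (LK LD1_c17 LD2_c0 LD3_c38) Lrfl Lrfl
theorem f137504 : Led Lsl_et (LP (LK LD1_c3 LD2_c4 LD3_c15)) = (LP (LK LD1_c1 LD2_c28 LD3_c9)) :=
  Lre_e IH (LK LD1_c3 LD2_c4 LD3_c15) (LK LD1_c1 LD2_c28 LD3_c9) Lrfl Lrfl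
theorem f137505 : Led Lsl_dt (LP (LK LD1_c3 LD2_c4 LD3_c15)) = (LP (LK LD1_c6 LD2_c14 LD3_c44)) :=
  Lre_d IH (LK LD1_c3 LD2_c4 LD3_c15) (LK LD1_c6 LD2_c14 LD3_c44) Lrfl Lrfl
theorem f438179 : Led Lsl_ef (LP (LK LD1_c17 LD2_c0 LD3_c38)) = (LP (LK LD1_c21 LD2_c14 LD3_c11)) :=
  Lgr Lrot17 (Lpe (f72172 IH) (Lpe (K2.f70985 IH) (Lpr_dt (K2.f70905 IH) (Lpr_gf (K6.f70856 IH) (Lpe (K8.f71195 IH) (Lpr_gf (K11.f137508 IH) (Lpe (f137504 IH) (Lpr_dt (f137505 IH) (Lpe (f75668 IH) (Lpe (f438178 IH) (Lpn (LP (LK LD1_c21 LD2_c14 LD3_c11)))))))))))))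
theorem f70975 : Led Lsl_gt (LP (LK LD1_c17 LD2_c0 LD3_c38)) = (LP (LK LD1_c9 LD2_c8 LD3_c31)) :=
  Lre_g IH (LK LD1_c17 LD2_c0 LD3_c38) (LK LD1_c9 LD2_c8 LD3_c31) Lrfl Lrfl
theorem f70953 : Led Lsl_dt (LP (LK LD1_c9 LD2_c8 LD3_c31)) = (LP (LK LD1_c17 LD2_c1 LD3_c9)) :=
  Lre_d IH (LK LD1_c9 LD2_c8 LD3_c31) (LK LD1_c17 LD2_c1 LD3_c9) Lrfl Lrfl
theorem f70954 : Led Lsl_gt (LP (LK LD1_c17 LD2_c1 LD3_c9)) = (LP (LK LD1_c26 LD2_c55 LD3_c41)) :=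
  Lre_g IH (LK LD1_c17 LD2_c1 LD3_c9) (LK LD1_c26 LD2_c55 LD3_c41) Lrfl Lrfl
theorem f138314 : Led Lsl_et (LP (LK LD1_c2 LD2_c18 LD3_c46)) = (LP (LK LD1_c4 LD2_c42 LD3_c38)) :=
  Lre_e IH (LK LD1_c2 LD2_c18 LD3_c46) (LK LD1_c4 LD2_c42 LD3_c38) Lrfl Lrfl
theorem f138603 : Led Lsl_gt (LP (LK LD1_c4 LD2_c42 LD3_c38)) = (LP (LK LD1_c9 LD2_c19 LD3_c29)) :=
  Lre_g IH (LK LD1_c4 LD2_c42 LD3_c38) (LK LD1_c9 LD2_c19 LD3_c29) Lrfl Lrfl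
theorem f138604 : Led Lsl_et (LP (LK LD1_c17 LD2_c15 LD3_c10)) = (LP (LK LD1_c9 LD2_c19 LD3_c29)) :=
  Lre_e IH (LK LD1_c17 LD2_c15 LD3_c10) (LK LD1_c9 LD2_c19 LD3_c29) Lrfl Lrfl
theorem f71015 : Led Lsl_et (LP (LK LD1_c9 LD2_c8 LD3_c11)) = (LP (LK LD1_c4 LD2_c35 LD3_c60)) :=
  Lre_e IH (LK LD1_c9 LD2_c8 LD3_c11) (LK LD1_c4 LD2_c35 LD3_c60) Lrfl Lrfl
theorem f71030 : Led Lsl_dt (LP (LK LD1_c9 LD2_c8 LD3_c11)) = (LP (LK LD1_c17 LD2_c0 LD3_c40)) :=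
  Lre_d IH (LK LD1_c9 LD2_c8 LD3_c11) (LK LD1_c17 LD2_c0 LD3_c40) Lrfl Lrfl
theorem f71031 : Led Lsl_gt (LP (LK LD1_c26 LD2_c55 LD3_c41)) = (LP (LK LD1_c17 LD2_c0 LD3_c40)) :=
  Lre_g IH (LK LD1_c26 LD2_c55 LD3_c41) (LK LD1_c17 LD2_c0 LD3_c40) Lrfl Lrfl
theorem f138605 : Led Lsl_dt (LP (LK LD1_c17 LD2_c15 LD3_c10)) = (LP (LK LD1_c26 LD2_c55 LD3_c41)) :=
  Lgr Lrot136 (Lpr_et (f138604 IH) (Lpe (f138603 IH) (Lpe (f138314 IH) (Lpr_dt (K11.f27051 IH) (Lpe (K36.f27052 IH) (Lpr_df (K36.f138598 IH) (Lpe (K36.f71020 IH) (Lpe (f71015 IH) (Lpr_dt (f71030 IH) (Lpe (f71031 IH) (Lpn (LP (LK LD1_c26 LD2_c55 LD3_c41)))))))))))))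
theorem f138617 : Led Lsl_gt (LP (LK LD1_c9 LD2_c19 LD3_c29)) = (LP (LK LD1_c17 LD2_c15 LD3_c2)) :=
  Lre_g IH (LK LD1_c9 LD2_c19 LD3_c29) (LK LD1_c17 LD2_c15 LD3_c2) Lrfl Lrfl
theorem f202205 : Led Lsl_ft (LP (LK LD1_c4 LD2_c42 LD3_c36)) = (LP (LK LD1_c3 LD2_c4 LD3_c12)) :=
  Lgr Lrot48 (Lpr_ff (K11.f202192 IH) (Lpn (LP (LK LD1_c3 LD2_c4 LD3_c12))))
theorem f202073 : Led Lsl_et (LP (LK LD1_c9 LD2_c19 LD3_c27)) = (LP (LK LD1_c4 LD2_c42 LD3_c36)) :=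
  Lre_e IH (LK LD1_c9 LD2_c19 LD3_c27) (LK LD1_c4 LD2_c42 LD3_c36) Lrfl Lrfl
theorem f420524 : Led Lsl_ft (LP (LK LD1_c17 LD2_c15 LD3_c2)) = (LP (LK LD1_c9 LD2_c19 LD3_c27)) :=
  Lre_f IH (LK LD1_c17 LD2_c15 LD3_c2) (LK LD1_c9 LD2_c19 LD3_c27) Lrfl Lrfl
theorem f202309 : Led Lsl_et (LP (LK LD1_c3 LD2_c4 LD3_c12)) = (LP (LK LD1_c6 LD2_c14 LD3_c38)) :=
  Lre_e IH (LK LD1_c3 LD2_c4 LD3_c12) (LK LD1_c6 LD2_c14 LD3_c38) Lrfl Lrfl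
theorem f420525 : Led Lsl_ft (LP (LK LD1_c6 LD2_c14 LD3_c38)) = (LP (LK LD1_c12 LD2_c7 LD3_c31)) :=
  Lre_f IH (LK LD1_c6 LD2_c14 LD3_c38) (LK LD1_c12 LD2_c7 LD3_c31) Lrfl Lrfl
theorem f420526 : Led Lsl_ef (LP (LK LD1_c17 LD2_c15 LD3_c2)) = (LP (LK LD1_c12 LD2_c7 LD3_c31)) :=
  Lgr Lrot21 (Lpr_ft (f420524 IH) (Lpr_et (f202073 IH) (Lpr_ft (f202205 IH) (Lpr_et (f202309 IH) (Lpr_ft (f420525 IH) (Lpn (LP (LK LD1_c12 LD2_c7 LD3_c31))))))))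
theorem f543719 : Led Lsl_dt (LP (LK LD1_c12 LD2_c7 LD3_c31)) = (LP (LK LD1_c7 LD2_c17 LD3_c13)) :=
  Lgr Lrot136 (Lpe (f420526 IH) (Lpe (f138617 IH) (Lpe (f138604 IH) (Lpr_dt (f138605 IH) (Lpe (f70954 IH) (Lpe (f70953 IH) (Lpe (f70975 IH) (Lpr_ef (f438179 IH) (Lpr_dt (f438178 IH) (Lpr_gf (f543712 IH) (Lpn (LP (LK LD1_c7 LD2_c17 LD3_c13)))))))))))))
theorem f543725 : Led Lsl_df (LP (LK LD1_c6 LD2_c14 LD3_c38)) = (LP (LK LD1_c3 LD2_c38 LD3_c26)) :=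
  Lgr Lrot78 (Lpr_ft (f420525 IH) (Lpr_dt (f543719 IH) (Lpr_ft (K4.f97532 IH) (Lpn (LP (LK LD1_c3 LD2_c38 LD3_c26))))))
theorem f202191 : Led Lsl_et (LP (LK LD1_c6 LD2_c14 LD3_c38)) = (LP (LK LD1_c3 LD2_c4 LD3_c12)) :=
  Lre_e IH (LK LD1_c6 LD2_c14 LD3_c38) (LK LD1_c3 LD2_c4 LD3_c12) Lrfl Lrfl
theorem f202190 : Led Lsl_et (LP (LK LD1_c1 LD2_c28 LD3_c8)) = (LP (LK LD1_c3 LD2_c4 LD3_c13)) :=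
  Lre_e IH (LK LD1_c1 LD2_c28 LD3_c8) (LK LD1_c3 LD2_c4 LD3_c13) Lrfl Lrfl
theorem f97538 : Led Lsl_et (LP (LK LD1_c1 LD2_c46 LD3_c11)) = (LP (LK LD1_c3 LD2_c38 LD3_c26)) :=
  Lre_e IH (LK LD1_c1 LD2_c46 LD3_c11) (LK LD1_c3 LD2_c38 LD3_c26) Lrfl Lrfl
def v2435 : LQ := Led Lsl_bt (LP (LK LD1_c1 LD2_c45 LD3_c24))
theorem f519728 : Led Lsl_bt (LP (LK LD1_c1 LD2_c45 LD3_c24)) = v2435 :=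
  Lrfl
theorem f519730 : Led Lsl_df (LP (LK LD1_c1 LD2_c46 LD3_c11)) = v2435 :=
  Lgr Lrot12 (Lpr_bt (K3.f5815 IH) (Lpr_dt (K29.f97279 IH) (Lpr_bt (f519728 IH) (Lpn v2435))))
theorem f543803 : (LP (LK LD1_c3 LD2_c4 LD3_c13)) = v2435 :=
  (Llr Lrot71 (Lpe (f202190 IH) (Lpe (K11.f202184 IH) (Lpe (f202191 IH) (Lpr_df (f543725 IH) (Lpe (f97538 IH) (Lpr_df (f519730 IH) (Lpn v2435)))))))).symm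
theorem f108512 : Led Lsl_ff (LP (LK LD1_c1 LD2_c45 LD3_c24)) = (LP (LK LD1_c1 LD2_c43 LD3_c34)) :=
  Lgr Lrot23 (Lpr_ct (K36.f98474 IH) (Lpr_ft (K3.f108508 IH) (Lpr_ct (K3.f98017 IH) (Lpn (LP (LK LD1_c1 LD2_c43 LD3_c34))))))
theorem f6565 : Led Lsl_bt (LP (LK LD1_c3 LD2_c33 LD3_c41)) = (LP (LK LD1_c1 LD2_c43 LD3_c34)) :=
  Lre_b IH (LK LD1_c3 LD2_c33 LD3_c41) (LK LD1_c1 LD2_c43 LD3_c34) Lrfl Lrfl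
theorem f519731 : Led Lsl_ff (LP (LK LD1_c3 LD2_c33 LD3_c41)) = v2435 :=
  Lgr Lrot25 (Lpr_bt (f6565 IH) (Lpe (f108512 IH) (Lpr_bt (f519728 IH) (Lpn v2435))))
theorem f519733 : Led Lsl_ft (LP (LK LD1_c3 LD2_c33 LD3_c41)) = v2435 :=
  Lgr Lrot48 (Lpr_ff (f519731 IH) (Lpn v2435))
theorem f98039 : Led Lsl_dt (LP (LK LD1_c1 LD2_c46 LD3_c38)) = (LP (LK LD1_c3 LD2_c33 LD3_c41)) :=
  Lgr Lrot79 (Lpe (K3.f92286 IH) (Lpr_df (K3.f98037 IH) (Lpe (f6565 IH) (Lpn (LP (LK LD1_c3 LD2_c33 LD3_c41))))))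
theorem f441965 : Led Lsl_df (LP (LK LD1_c1 LD2_c46 LD3_c38)) = (LP (LK LD1_c3 LD2_c33 LD3_c41)) :=
  Lgr Lrot38 (Lpr_dt (f98039 IH) (Lpn (LP (LK LD1_c3 LD2_c33 LD3_c41))))
theorem f503026 : Led Lsl_at (LP (LK LD1_c3 LD2_c4 LD3_c13)) = (LP (LK LD1_c1 LD2_c28 LD3_c10)) :=
  Lre_a IH (LK LD1_c3 LD2_c4 LD3_c13) (LK LD1_c1 LD2_c28 LD3_c10) Lrfl Lrfl
theorem f179937 : Led Lsl_ct (LP (LK LD1_c0 LD2_c40 LD3_c60)) = (LP (LK LD1_c1 LD2_c28 LD3_c10)) :=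
  Lre_c IH (LK LD1_c0 LD2_c40 LD3_c60) (LK LD1_c1 LD2_c28 LD3_c10) Lrfl Lrfl
theorem f202611 : Led Lsl_dt (LP (LK LD1_c1 LD2_c28 LD3_c42)) = (LP (LK LD1_c0 LD2_c40 LD3_c60)) :=
  Lre_d IH (LK LD1_c1 LD2_c28 LD3_c42) (LK LD1_c0 LD2_c40 LD3_c60) Lrfl Lrfl
theorem f186353 : Led Lsl_ct (LP (LK LD1_c3 LD2_c5 LD3_c25)) = (LP (LK LD1_c1 LD2_c28 LD3_c42)) :=
  Lre_c IH (LK LD1_c3 LD2_c5 LD3_c25) (LK LD1_c1 LD2_c28 LD3_c42) Lrfl Lrfl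
theorem f186354 : Led Lsl_dt (LP (LK LD1_c6 LD2_c16 LD3_c41)) = (LP (LK LD1_c3 LD2_c5 LD3_c25)) :=
  Lre_d IH (LK LD1_c6 LD2_c16 LD3_c41) (LK LD1_c3 LD2_c5 LD3_c25) Lrfl Lrfl
theorem f543816 : Led Lsl_ct (LP (LK LD1_c3 LD2_c46 LD3_c35)) = (LP (LK LD1_c6 LD2_c16 LD3_c41)) :=
  Lgr Lrot41 (Lpe (K28.f94531 IH) (Lpe (K2.f94485 IH) (Lpr_df (f441965 IH) (Lpr_ft (f519733 IH) (Lpq (f543803 IH) (Lpr_at (f503026 IH) (Lpe (f179937 IH) (Lpe (f202611 IH) (Lpe (f186353 IH) (Lpe (f186354 IH) (Lpn (LP (LK LD1_c6 LD2_c16 LD3_c41)))))))))))))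
theorem f162499 : Led Lsl_gt (LP (LK LD1_c7 LD2_c7 LD3_c47)) = (LP (LK LD1_c7 LD2_c35 LD3_c21)) :=
  Lgr Lrot5 (Lpr_ft (K33.f162488 IH) (Lpr_at (K33.f162204 IH) (Lpe (K28.f136916 IH) (Lpn (LP (LK LD1_c7 LD2_c35 LD3_c21))))))
theorem f157597 : Led Lsl_gt (LP (LK LD1_c11 LD2_c41 LD3_c43)) = (LP (LK LD1_c5 LD2_c58 LD3_c39)) :=
  Lre_g IH (LK LD1_c11 LD2_c41 LD3_c43) (LK LD1_c5 LD2_c58 LD3_c39) Lrfl Lrfl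
theorem f162503 : Led Lsl_df (LP (LK LD1_c7 LD2_c7 LD3_c47)) = (LP (LK LD1_c11 LD2_c41 LD3_c43)) :=
  Lgr Lrot155 (Lpr_gt (f162499 IH) (Lpe (K3.f110227 IH) (Lpr_gt (K3.f87934 IH) (Lpr_ct (K3.f11546 IH) (Lpr_dt (K4.f87298 IH) (Lpe (K4.f87178 IH) (Lpr_gf (K8.f157592 IH) (Lpe (K8.f110909 IH) (Lpe (f157597 IH) (Lpn (LP (LK LD1_c11 LD2_c41 LD3_c43))))))))))))
theorem f162511 : Led Lsl_ft (LP (LK LD1_c13 LD2_c41 LD3_c23)) = (LP (LK LD1_c11 LD2_c41 LD3_c43)) :=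
  Lgr Lrot54 (Lpe (K30.f96611 IH) (Lpe (K33.f162488 IH) (Lpr_df (f162503 IH) (Lpn (LP (LK LD1_c11 LD2_c41 LD3_c43))))))
theorem f162515 : Led Lsl_bf (LP (LK LD1_c12 LD2_c33 LD3_c41)) = (LP (LK LD1_c11 LD2_c41 LD3_c43)) :=
  Lgr Lrot61 (Lpe (K30.f162413 IH) (Lpr_bt (K30.f136386 IH) (Lpr_ft (f162511 IH) (Lpn (LP (LK LD1_c11 LD2_c41 LD3_c43))))))
theorem f204771 : Led Lsl_gt (LP (LK LD1_c6 LD2_c16 LD3_c41)) = (LP (LK LD1_c12 LD2_c10 LD3_c27)) :=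
  Lre_g IH (LK LD1_c6 LD2_c16 LD3_c41) (LK LD1_c12 LD2_c10 LD3_c27) Lrfl Lrfl
theorem f543837 : Led Lsl_ct (LP (LK LD1_c11 LD2_c41 LD3_c43)) = (LP (LK LD1_c12 LD2_c10 LD3_c27)) :=
  Lgr Lrot63 (Lpe (f162515 IH) (Lpr_gt (K30.f93197 IH) (Lpe (K2.f93183 IH) (Lpe (K2.f93186 IH) (Lpr_gt (K5.f129592 IH) (Lpr_cf (K5.f127066 IH) (Lpe (K28.f127079 IH) (Lpr_gt (K28.f419462 IH) (Lpr_ct (f543816 IH) (Lpr_gt (f204771 IH) (Lpn (LP (LK LD1_c12 LD2_c10 LD3_c27)))))))))))))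
theorem f206007 : Led Lsl_df (LP (LK LD1_c5 LD2_c51 LD3_c9)) = (LP (LK LD1_c6 LD2_c34 LD3_c54)) :=
  Lgr Lrot155 (Lpr_gt (K34.f112206 IH) (Lpr_ct (K4.f24063 IH) (Lpr_gt (K11.f206001 IH) (Lpr_ct (K7.f20373 IH) (Lpr_dt (K7.f151673 IH) (Lpe (K4.f8358 IH) (Lpe (K4.f65881 IH) (Lpe (K4.f65936 IH) (Lpe (K6.f65940 IH) (Lpn (LP (LK LD1_c6 LD2_c34 LD3_c54))))))))))))
theorem f206010 : Led Lsl_ct (LP (LK LD1_c5 LD2_c51 LD3_c9)) = (LP (LK LD1_c2 LD2_c55 LD3_c17)) :=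
  Lgr Lrot7 (Lpr_df (f206007 IH) (Lpe (K6.f115859 IH) (Lpr_df (K6.f135925 IH) (Lpe (K6.f135935 IH) (Lpe (K6.f56768 IH) (Lpe (K8.f160992 IH) (Lpr_dt (K8.f160965 IH) (Lpr_gt (K8.f160957 IH) (Lpr_dt (K8.f72400 IH) (Lpn (LP (LK LD1_c2 LD2_c55 LD3_c17))))))))))))
theorem f206014 : Led Lsl_gf (LP (LK LD1_c5 LD2_c51 LD3_c9)) = (LP (LK LD1_c2 LD2_c51 LD3_c54)) :=
  Lgr Lrot147 (Lpr_ct (f206010 IH) (Lpr_gt (K8.f137302 IH) (Lpe (K6.f132316 IH) (Lpe (K5.f12283 IH) (Lpe (K1.f12290 IH) (Lpe (K6.f12298 IH) (Lpr_cf (K6.f136448 IH) (Lpe (K6.f136527 IH) (Lpr_df (K8.f157966 IH) (Lpn (LP (LK LD1_c2 LD2_c51 LD3_c54))))))))))))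
theorem f426848 : Led Lsl_at (LP (LK LD1_c3 LD2_c50 LD3_c32)) = (LP (LK LD1_c5 LD2_c51 LD3_c9)) :=
  Lgr Lrot26 (Lpr_ff (K36.f426841 IH) (Lpr_gt (K8.f157980 IH) (Lpe (f206014 IH) (Lpn (LP (LK LD1_c5 LD2_c51 LD3_c9))))))
theorem f426103 : Led Lsl_at (LP (LK LD1_c1 LD2_c23 LD3_c50)) = (LP (LK LD1_c2 LD2_c55 LD3_c44)) :=
  Lre_a IH (LK LD1_c1 LD2_c23 LD3_c50) (LK LD1_c2 LD2_c55 LD3_c44) Lrfl Lrfl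
theorem f426104 : Led Lsl_af (LP (LK LD1_c2 LD2_c55 LD3_c46)) = (LP (LK LD1_c3 LD2_c50 LD3_c33)) :=
  Lgr Lrot68 (Lpr_ct (K8.f124067 IH) (Lpr_at (f426103 IH) (Lpr_ct (K24.f426099 IH) (Lpn (LP (LK LD1_c3 LD2_c50 LD3_c33))))))
theorem f426854 : Led Lsl_ff (LP (LK LD1_c3 LD2_c50 LD3_c33)) = (LP (LK LD1_c5 LD2_c51 LD3_c9)) :=
  Lgr Lrot30 (Lpe (f426104 IH) (Lpe (K36.f426841 IH) (Lpr_at (f426848 IH) (Lpn (LP (LK LD1_c5 LD2_c51 LD3_c9))))))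
theorem f426856 : Led Lsl_ft (LP (LK LD1_c3 LD2_c29 LD3_c58)) = (LP (LK LD1_c6 LD2_c34 LD3_c54)) :=
  Lgr Lrot54 (Lpe (K36.f151605 IH) (Lpr_ff (f426854 IH) (Lpr_df (f206007 IH) (Lpn (LP (LK LD1_c6 LD2_c34 LD3_c54))))))
theorem f426862 : Led Lsl_ff (LP (LK LD1_c3 LD2_c29 LD3_c58)) = (LP (LK LD1_c6 LD2_c34 LD3_c54)) :=
  Lgr Lrot3 (Lpr_ft (f426856 IH) (Lpn (LP (LK LD1_c6 LD2_c34 LD3_c54))))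
theorem f95400 : Led Lsl_gt (LP (LK LD1_c3 LD2_c24 LD3_c41)) = (LP (LK LD1_c6 LD2_c51 LD3_c51)) :=
  Lre_g IH (LK LD1_c3 LD2_c24 LD3_c41) (LK LD1_c6 LD2_c51 LD3_c51) Lrfl Lrfl
theorem f136947 : Led Lsl_bf (LP (LK LD1_c6 LD2_c51 LD3_c51)) = (LP (LK LD1_c6 LD2_c34 LD3_c54)) :=
  Lgr Lrot34 (Lpe (f95400 IH) (Lpe (K7.f95398 IH) (Lpe (K4.f116564 IH) (Lpe (K4.f116538 IH) (Lpr_cf (K24.f122009 IH) (Lpe (K4.f94218 IH) (Lpe (K6.f94578 IH) (Lpe (K6.f115838 IH) (Lpe (K6.f94630 IH) (Lpr_cf (K6.f136936 IH) (Lpn (LP (LK LD1_c6 LD2_c34 LD3_c54)))))))))))))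
theorem f136949 : Led Lsl_bt (LP (LK LD1_c6 LD2_c51 LD3_c51)) = (LP (LK LD1_c6 LD2_c34 LD3_c54)) :=
  Lgr Lrot127 (Lpr_bf (f136947 IH) (Lpn (LP (LK LD1_c6 LD2_c34 LD3_c54))))
theorem f426866 : Led Lsl_ft (LP (LK LD1_c7 LD2_c1 LD3_c33)) = (LP (LK LD1_c6 LD2_c51 LD3_c51)) :=
  Lgr Lrot75 (Lpe (K36.f136941 IH) (Lpr_ff (f426862 IH) (Lpe (f136949 IH) (Lpn (LP (LK LD1_c6 LD2_c51 LD3_c51))))))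
theorem f426868 : Led Lsl_af (LP (LK LD1_c7 LD2_c1 LD3_c49)) = (LP (LK LD1_c6 LD2_c51 LD3_c51)) :=
  Lgr Lrot45 (Lpr_ft (K36.f426692 IH) (Lpe (K36.f426699 IH) (Lpr_ft (f426866 IH) (Lpn (LP (LK LD1_c6 LD2_c51 LD3_c51))))))
theorem f126570 : Led Lsl_gt (LP (LK LD1_c3 LD2_c14 LD3_c59)) = (LP (LK LD1_c6 LD2_c33 LD3_c22)) :=
  Lre_g IH (LK LD1_c3 LD2_c14 LD3_c59) (LK LD1_c6 LD2_c33 LD3_c22) Lrfl Lrfl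
theorem f127444 : Led Lsl_gt (LP (LK LD1_c6 LD2_c33 LD3_c22)) = (LP (LK LD1_c3 LD2_c50 LD3_c49)) :=
  Lgr Lrot46 (Lpe (f126570 IH) (Lpr_ft (K5.f127425 IH) (Lpr_at (K5.f127240 IH) (Lpn (LP (LK LD1_c3 LD2_c50 LD3_c49))))))
theorem f127448 : Led Lsl_df (LP (LK LD1_c6 LD2_c33 LD3_c22)) = (LP (LK LD1_c7 LD2_c1 LD3_c49)) :=
  Lgr Lrot155 (Lpr_gt (f127444 IH) (Lpr_ct (K5.f64395 IH) (Lpr_gt (K5.f89306 IH) (Lpr_ct (K4.f89304 IH) (Lpe (K4.f89557 IH) (Lpe (K2.f17788 IH) (Lpr_gf (K3.f109485 IH) (Lpe (K4.f109479 IH) (Lpe (K24.f94906 IH) (Lpn (LP (LK LD1_c7 LD2_c1 LD3_c49))))))))))))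
theorem f204004 : Led Lsl_at (LP (LK LD1_c6 LD2_c55 LD3_c11)) = (LP (LK LD1_c7 LD2_c24 LD3_c61)) :=
  Lgr Lrot80 (Lpe (K35.f127983 IH) (Lpr_af (K35.f204002 IH) (Lpe (K34.f123484 IH) (Lpn (LP (LK LD1_c7 LD2_c24 LD3_c61))))))
theorem f204008 : Led Lsl_af (LP (LK LD1_c13 LD2_c6 LD3_c23)) = (LP (LK LD1_c14 LD2_c1 LD3_c41)) :=
  Lgr Lrot117 (Lpr_dt (K6.f127984 IH) (Lpr_at (f204004 IH) (Lpr_dt (K6.f120976 IH) (Lpn (LP (LK LD1_c14 LD2_c1 LD3_c41))))))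
theorem f204014 : Led Lsl_at (LP (LK LD1_c13 LD2_c6 LD3_c23)) = (LP (LK LD1_c14 LD2_c1 LD3_c41)) :=
  Lgr Lrot100 (Lpr_af (f204008 IH) (Lpn (LP (LK LD1_c14 LD2_c1 LD3_c41))))
theorem f145042 : Led Lsl_ft (LP (LK LD1_c14 LD2_c1 LD3_c43)) = (LP (LK LD1_c13 LD2_c6 LD3_c23)) :=
  Lgr Lrot54 (Lpe (K6.f122714 IH) (Lpr_ff (K6.f145036 IH) (Lpe (K6.f127984 IH) (Lpn (LP (LK LD1_c13 LD2_c6 LD3_c23))))))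
theorem f94032 : Led Lsl_dt (LP (LK LD1_c3 LD2_c23 LD3_c22)) = (LP (LK LD1_c6 LD2_c50 LD3_c4)) :=
  Lre_d IH (LK LD1_c3 LD2_c23 LD3_c22) (LK LD1_c6 LD2_c50 LD3_c4) Lrfl Lrfl
theorem f209716 : Led Lsl_ct (LP (LK LD1_c6 LD2_c50 LD3_c4)) = (LP (LK LD1_c9 LD2_c48 LD3_c26)) :=
  Lgr Lrot53 (Lpe (f94032 IH) (Lpe (K6.f93278 IH) (Lpe (K6.f130276 IH) (Lpe (K5.f122712 IH) (Lpe (K6.f122691 IH) (Lpr_ft (f145042 IH) (Lpr_at (f204014 IH) (Lpr_cf (K32.f209712 IH) (Lpe (K32.f100589 IH) (Lpn (LP (LK LD1_c9 LD2_c48 LD3_c26))))))))))))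
theorem f209722 : Led Lsl_cf (LP (LK LD1_c6 LD2_c50 LD3_c4)) = (LP (LK LD1_c9 LD2_c48 LD3_c26)) :=
  Lgr Lrot11 (Lpr_ct (f209716 IH) (Lpn (LP (LK LD1_c9 LD2_c48 LD3_c26))))
theorem f90146 : Led Lsl_bt (LP (LK LD1_c6 LD2_c50 LD3_c4)) = (LP (LK LD1_c3 LD2_c23 LD3_c23)) :=
  Lre_b IH (LK LD1_c6 LD2_c50 LD3_c4) (LK LD1_c3 LD2_c23 LD3_c23) Lrfl Lrfl
theorem f89967 : Led Lsl_bt (LP (LK LD1_c1 LD2_c40 LD3_c9)) = (LP (LK LD1_c3 LD2_c27 LD3_c3)) :=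
  Lre_b IH (LK LD1_c1 LD2_c40 LD3_c9) (LK LD1_c3 LD2_c27 LD3_c3) Lrfl Lrfl
theorem f209724 : Led Lsl_bt (LP (LK LD1_c6 LD2_c55 LD3_c61)) = (LP (LK LD1_c9 LD2_c48 LD3_c26)) :=
  Lgr Lrot128 (Lpe (K4.f89715 IH) (Lpe (f89967 IH) (Lpr_cf (K2.f90144 IH) (Lpe (f90146 IH) (Lpr_cf (f209722 IH) (Lpn (LP (LK LD1_c9 LD2_c48 LD3_c26))))))))
theorem f90153 : Led Lsl_gt (LP (LK LD1_c3 LD2_c27 LD3_c3)) = (LP (LK LD1_c6 LD2_c55 LD3_c59)) :=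
  Lre_g IH (LK LD1_c3 LD2_c27 LD3_c3) (LK LD1_c6 LD2_c55 LD3_c59) Lrfl Lrfl
theorem f72478 : Led Lsl_bt (LP (LK LD1_c2 LD2_c27 LD3_c24)) = (LP (LK LD1_c4 LD2_c59 LD3_c0)) :=
  Lre_b IH (LK LD1_c2 LD2_c27 LD3_c24) (LK LD1_c4 LD2_c59 LD3_c0) Lrfl Lrfl
theorem f72524 : Led Lsl_bt (LP (LK LD1_c5 LD2_c57 LD3_c57)) = (LP (LK LD1_c2 LD2_c55 LD3_c20)) :=
  Lre_b IH (LK LD1_c5 LD2_c57 LD3_c57) (LK LD1_c2 LD2_c55 LD3_c20) Lrfl Lrfl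
theorem f209728 : Led Lsl_cf (LP (LK LD1_c6 LD2_c55 LD3_c59)) = (LP (LK LD1_c5 LD2_c57 LD3_c57)) :=
  Lgr Lrot58 (Lpe (f90153 IH) (Lpe (K5.f90172 IH) (Lpr_bt (f209724 IH) (Lpe (K32.f72438 IH) (Lpe (f72478 IH) (Lpr_ct (K4.f72462 IH) (Lpe (K2.f72443 IH) (Lpe (K2.f74261 IH) (Lpr_gf (K2.f74502 IH) (Lpe (f72524 IH) (Lpn (LP (LK LD1_c5 LD2_c57 LD3_c57)))))))))))))
theorem f209732 : Led Lsl_ct (LP (LK LD1_c6 LD2_c55 LD3_c59)) = (LP (LK LD1_c5 LD2_c57 LD3_c57)) :=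
  Lgr Lrot59 (Lpr_cf (f209728 IH) (Lpn (LP (LK LD1_c5 LD2_c57 LD3_c57))))
theorem f95535 : Led Lsl_af (LP (LK LD1_c1 LD2_c37 LD3_c54)) = (LP (LK LD1_c1 LD2_c50 LD3_c20)) :=
  Lgr Lrot0 (Lpr_at (K2.f95533 IH) (Lpn (LP (LK LD1_c1 LD2_c50 LD3_c20))))
theorem f95694 : Led Lsl_ft (LP (LK LD1_c1 LD2_c37 LD3_c50)) = (LP (LK LD1_c1 LD2_c50 LD3_c20)) :=
  Lgr Lrot101 (Lpr_af (K30.f95691 IH) (Lpe (K30.f95638 IH) (Lpr_af (f95535 IH) (Lpn (LP (LK LD1_c1 LD2_c50 LD3_c20))))))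
theorem f95700 : Led Lsl_ff (LP (LK LD1_c1 LD2_c37 LD3_c50)) = (LP (LK LD1_c1 LD2_c50 LD3_c20)) :=
  Lgr Lrot3 (Lpr_ft (f95694 IH) (Lpn (LP (LK LD1_c1 LD2_c50 LD3_c20))))
theorem f20029 : Led Lsl_ct (LP (LK LD1_c0 LD2_c45 LD3_c22)) = (LP (LK LD1_c1 LD2_c37 LD3_c50)) :=
  Lre_c IH (LK LD1_c0 LD2_c45 LD3_c22) (LK LD1_c1 LD2_c37 LD3_c50) Lrfl Lrfl
theorem f95658 : Led Lsl_at (LP (LK LD1_c1 LD2_c37 LD3_c50)) = (LP (LK LD1_c1 LD2_c49 LD3_c30)) :=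
  Lgr Lrot107 (Lpe (f20029 IH) (Lpr_af (K2.f95652 IH) (Lpe (K2.f23706 IH) (Lpn (LP (LK LD1_c1 LD2_c49 LD3_c30))))))
theorem f95702 : Led Lsl_gf (LP (LK LD1_c1 LD2_c49 LD3_c30)) = (LP (LK LD1_c3 LD2_c13 LD3_c58)) :=
  Lgr Lrot76 (Lpe (f95658 IH) (Lpr_ff (f95700 IH) (Lpe (K2.f68338 IH) (Lpn (LP (LK LD1_c3 LD2_c13 LD3_c58))))))
theorem f95704 : Led Lsl_gt (LP (LK LD1_c0 LD2_c46 LD3_c22)) = (LP (LK LD1_c1 LD2_c33 LD3_c33)) :=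
  Lgr Lrot9 (Lpe (K2.f26118 IH) (Lpr_gt (K2.f94653 IH) (Lpr_ct (K3.f23688 IH) (Lpr_gt (K0.f5716 IH) (Lpr_ct (K0.f5720 IH) (Lpe (K2.f15030 IH) (Lpe (K2.f23706 IH) (Lpr_gf (f95702 IH) (Lpe (K2.f22505 IH) (Lpn (LP (LK LD1_c1 LD2_c33 LD3_c33))))))))))))
theorem f94198 : Led Lsl_dt (LP (LK LD1_c1 LD2_c33 LD3_c33)) = (LP (LK LD1_c1 LD2_c37 LD3_c46)) :=
  Lgr Lrot27 (Lpe (K2.f68341 IH) (Lpr_gf (K2.f68338 IH) (Lpe (K2.f23365 IH) (Lpr_gf (K2.f68335 IH) (Lpe (K2.f66811 IH) (Lpr_gt (K2.f66808 IH) (Lpr_ct (K2.f90103 IH) (Lpe (K2.f87557 IH) (Lpr_ct (K2.f87511 IH) (Lpn (LP (LK LD1_c1 LD2_c37 LD3_c46))))))))))))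
theorem f120839 : Led Lsl_df (LP (LK LD1_c1 LD2_c41 LD3_c21)) = (LP (LK LD1_c0 LD2_c50 LD3_c50)) :=
  Lgr Lrot153 (Lpr_gt (K4.f116562 IH) (Lpr_dt (K2.f92272 IH) (Lpr_cf (K5.f84751 IH) (Lpe (f94198 IH) (Lpe (f95704 IH) (Lpe (K2.f26118 IH) (Lpe (K3.f13553 IH) (Lpr_cf (K4.f120826 IH) (Lpr_gt (K5.f120838 IH) (Lpn (LP (LK LD1_c0 LD2_c50 LD3_c50))))))))))))
theorem f209736 : Led Lsl_df (LP (LK LD1_c6 LD2_c55 LD3_c59)) = (LP (LK LD1_c6 LD2_c51 LD3_c51)) :=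
  Lgr Lrot183 (Lpr_ct (f209732 IH) (Lpr_bt (f72524 IH) (Lpe (K2.f74502 IH) (Lpe (K2.f74269 IH) (Lpr_ct (K2.f72868 IH) (Lpr_bt (K6.f58724 IH) (Lpe (K3.f78502 IH) (Lpr_dt (K3.f13812 IH) (Lpr_ct (K3.f78007 IH) (Lpr_bt (K5.f114980 IH) (Lpr_gt (K5.f124127 IH) (Lpr_dt (K4.f124110 IH) (Lpr_ct (K4.f120829 IH) (Lpr_bt (K4.f120828 IH) (Lpr_gt (K5.f120838 IH) (Lpe (f120839 IH) (Lpe (K4.f107346 IH) (Lpr_bt (K7.f95398 IH) (Lpr_gt (f95400 IH) (Lpn (LP (LK LD1_c6 LD2_c51 LD3_c51))))))))))))))))))))))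
theorem f209738 : Led Lsl_dt (LP (LK LD1_c6 LD2_c55 LD3_c59)) = (LP (LK LD1_c6 LD2_c51 LD3_c51)) :=
  Lgr Lrot42 (Lpr_df (f209736 IH) (Lpn (LP (LK LD1_c6 LD2_c51 LD3_c51))))
theorem f426872 : Led Lsl_at (LP (LK LD1_c6 LD2_c33 LD3_c22)) = (LP (LK LD1_c6 LD2_c55 LD3_c59)) :=
  Lgr Lrot51 (Lpr_df (f127448 IH) (Lpr_af (f426868 IH) (Lpe (f209738 IH) (Lpn (LP (LK LD1_c6 LD2_c55 LD3_c59))))))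
theorem f72812 : Led Lsl_at (LP (LK LD1_c5 LD2_c57 LD3_c57)) = (LP (LK LD1_c11 LD2_c40 LD3_c39)) :=
  Lre_a IH (LK LD1_c5 LD2_c57 LD3_c57) (LK LD1_c11 LD2_c40 LD3_c39) Lrfl Lrfl
theorem f426883 : Led Lsl_cf (LP (LK LD1_c6 LD2_c33 LD3_c22)) = (LP (LK LD1_c11 LD2_c40 LD3_c39)) :=
  Lgr Lrot1 (Lpr_at (f426872 IH) (Lpr_ct (f209732 IH) (Lpr_at (f72812 IH) (Lpn (LP (LK LD1_c11 LD2_c40 LD3_c39))))))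
theorem f426885 : Led Lsl_ct (LP (LK LD1_c6 LD2_c33 LD3_c22)) = (LP (LK LD1_c11 LD2_c40 LD3_c39)) :=
  Lgr Lrot59 (Lpr_cf (f426883 IH) (Lpn (LP (LK LD1_c11 LD2_c40 LD3_c39))))
theorem f127455 : Led Lsl_bt (LP (LK LD1_c6 LD2_c33 LD3_c22)) = (LP (LK LD1_c12 LD2_c33 LD3_c55)) :=
  Lre_b IH (LK LD1_c6 LD2_c33 LD3_c22) (LK LD1_c12 LD2_c33 LD3_c55) Lrfl Lrfl
theorem f127407 : Led Lsl_dt (LP (LK LD1_c12 LD2_c33 LD3_c59)) = (LP (LK LD1_c6 LD2_c33 LD3_c24)) :=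
  Lre_d IH (LK LD1_c12 LD2_c33 LD3_c59) (LK LD1_c6 LD2_c33 LD3_c24) Lrfl Lrfl
theorem f127386 : Led Lsl_et (LP (LK LD1_c6 LD2_c33 LD3_c24)) = (LP (LK LD1_c3 LD2_c14 LD3_c59)) :=
  Lre_e IH (LK LD1_c6 LD2_c33 LD3_c24) (LK LD1_c3 LD2_c14 LD3_c59) Lrfl Lrfl
theorem f97889 : Led Lsl_dt (LP (LK LD1_c6 LD2_c55 LD3_c57)) = (LP (LK LD1_c13 LD2_c9 LD3_c53)) :=
  Lre_d IH (LK LD1_c6 LD2_c55 LD3_c57) (LK LD1_c13 LD2_c9 LD3_c53) Lrfl Lrfl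
theorem f97878 : Led Lsl_et (LP (LK LD1_c3 LD2_c27 LD3_c1)) = (LP (LK LD1_c6 LD2_c55 LD3_c57)) :=
  Lre_e IH (LK LD1_c3 LD2_c27 LD3_c1) (LK LD1_c6 LD2_c55 LD3_c57) Lrfl Lrfl
theorem f127408 : Led Lsl_dt (LP (LK LD1_c3 LD2_c14 LD3_c59)) = (LP (LK LD1_c3 LD2_c27 LD3_c1)) :=
  Lgr Lrot77 (Lpe (f127386 IH) (Lpe (f127407 IH) (Lpr_ef (K5.f127399 IH) (Lpe (f97889 IH) (Lpe (f97878 IH) (Lpn (LP (LK LD1_c3 LD2_c27 LD3_c1))))))))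
theorem f10238 : Led Lsl_ct (LP (LK LD1_c3 LD2_c32 LD3_c45)) = (LP (LK LD1_c7 LD2_c6 LD3_c21)) :=
  Lre_c IH (LK LD1_c3 LD2_c32 LD3_c45) (LK LD1_c7 LD2_c6 LD3_c21) Lrfl Lrfl
theorem f145193 : Led Lsl_ct (LP (LK LD1_c3 LD2_c50 LD3_c47)) = (LP (LK LD1_c7 LD2_c6 LD3_c20)) :=
  Lgr Lrot83 (Lpr_bf (K36.f145189 IH) (Lpe (K36.f145184 IH) (Lpe (K36.f96539 IH) (Lpe (f10238 IH) (Lpe (K36.f10241 IH) (Lpn (LP (LK LD1_c7 LD2_c6 LD3_c20))))))))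
theorem f145191 : Led Lsl_bt (LP (LK LD1_c3 LD2_c50 LD3_c47)) = (LP (LK LD1_c7 LD2_c35 LD3_c59)) :=
  Lgr Lrot127 (Lpr_bf (K36.f145189 IH) (Lpn (LP (LK LD1_c7 LD2_c35 LD3_c59))))
theorem f157346 : Led Lsl_gt (LP (LK LD1_c7 LD2_c6 LD3_c20)) = (LP (LK LD1_c7 LD2_c14 LD3_c2)) :=
  Lgr Lrot65 (Lpe (f145193 IH) (Lpr_bt (f145191 IH) (Lpe (K36.f15661 IH) (Lpe (K3.f15660 IH) (Lpr_ct (K11.f15659 IH) (Lpe (K8.f15651 IH) (Lpr_cf (K6.f145141 IH) (Lpr_gf (K8.f157342 IH) (Lpe (K8.f89732 IH) (Lpr_ct (K6.f96483 IH) (Lpn (LP (LK LD1_c7 LD2_c14 LD3_c2)))))))))))))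
theorem f93542 : Led Lsl_ct (LP (LK LD1_c14 LD2_c12 LD3_c29)) = (LP (LK LD1_c7 LD2_c31 LD3_c61)) :=
  Lre_c IH (LK LD1_c14 LD2_c12 LD3_c29) (LK LD1_c7 LD2_c31 LD3_c61) Lrfl Lrfl
theorem f426889 : Led Lsl_gf (LP (LK LD1_c14 LD2_c12 LD3_c29)) = (LP (LK LD1_c11 LD2_c40 LD3_c39)) :=
  Lgr Lrot104 (Lpr_ct (f93542 IH) (Lpe (K8.f162652 IH) (Lpr_cf (K6.f96471 IH) (Lpe (f157346 IH) (Lpe (f145193 IH) (Lpr_gf (K36.f145197 IH) (Lpe (f127408 IH) (Lpr_gt (f126570 IH) (Lpr_ct (f426885 IH) (Lpn (LP (LK LD1_c11 LD2_c40 LD3_c39))))))))))))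
theorem f93541 : Led Lsl_ct (LP (LK LD1_c7 LD2_c31 LD3_c61)) = (LP (LK LD1_c14 LD2_c12 LD3_c29)) :=
  Lre_c IH (LK LD1_c7 LD2_c31 LD3_c61) (LK LD1_c14 LD2_c12 LD3_c29) Lrfl Lrfl
theorem f426891 : Led Lsl_gf (LP (LK LD1_c12 LD2_c33 LD3_c55)) = (LP (LK LD1_c7 LD2_c35 LD3_c60)) :=
  Lgr Lrot124 (Lpe (f127455 IH) (Lpr_ct (f426885 IH) (Lpe (f426889 IH) (Lpe (f93541 IH) (Lpe (K8.f162641 IH) (Lpr_gt (K8.f25304 IH) (Lpe (K8.f156522 IH) (Lpr_gt (K8.f148370 IH) (Lpr_cf (K28.f162587 IH) (Lpr_bt (K8.f162252 IH) (Lpn (LP (LK LD1_c7 LD2_c35 LD3_c60)))))))))))))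
theorem f162481 : Led Lsl_at (LP (LK LD1_c7 LD2_c7 LD3_c47)) = (LP (LK LD1_c7 LD2_c14 LD3_c3)) :=
  Lgr Lrot100 (Lpr_af (K33.f162479 IH) (Lpn (LP (LK LD1_c7 LD2_c14 LD3_c3))))
theorem f96518 : Led Lsl_dt (LP (LK LD1_c7 LD2_c14 LD3_c3)) = (LP (LK LD1_c13 LD2_c41 LD3_c27)) :=
  Lre_d IH (LK LD1_c7 LD2_c14 LD3_c3) (LK LD1_c13 LD2_c41 LD3_c27) Lrfl Lrfl
theorem f162506 : Led Lsl_at (LP (LK LD1_c13 LD2_c41 LD3_c27)) = (LP (LK LD1_c11 LD2_c41 LD3_c43)) :=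
  Lgr Lrot51 (Lpe (f96518 IH) (Lpe (f162481 IH) (Lpr_df (f162503 IH) (Lpn (LP (LK LD1_c11 LD2_c41 LD3_c43))))))
theorem f426893 : Led Lsl_gt (LP (LK LD1_c12 LD2_c33 LD3_c55)) = (LP (LK LD1_c11 LD2_c41 LD3_c43)) :=
  Lgr Lrot46 (Lpr_gf (f426891 IH) (Lpe (K8.f162250 IH) (Lpr_at (f162506 IH) (Lpn (LP (LK LD1_c11 LD2_c41 LD3_c43))))))
theorem f426615 : Led Lsl_gf (LP (LK LD1_c6 LD2_c59 LD3_c45)) = (LP (LK LD1_c11 LD2_c41 LD3_c45)) :=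
  Lgr Lrot124 (Lpe (K2.f91259 IH) (Lpr_ct (K8.f18650 IH) (Lpe (K8.f157308 IH) (Lpr_cf (K8.f157319 IH) (Lpr_bt (K8.f95238 IH) (Lpr_gt (K4.f95237 IH) (Lpe (K6.f115838 IH) (Lpr_gt (K28.f103772 IH) (Lpr_cf (K28.f426605 IH) (Lpr_bt (K28.f426549 IH) (Lpn (LP (LK LD1_c11 LD2_c41 LD3_c45)))))))))))))
theorem f94526 : Led Lsl_gt (LP (LK LD1_c6 LD2_c59 LD3_c45)) = (LP (LK LD1_c13 LD2_c16 LD3_c27)) :=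
  Lre_g IH (LK LD1_c6 LD2_c59 LD3_c45) (LK LD1_c13 LD2_c16 LD3_c27) Lrfl Lrfl
theorem f427134 : Led Lsl_at (LP (LK LD1_c7 LD2_c1 LD3_c31)) = (LP (LK LD1_c13 LD2_c16 LD3_c27)) :=
  Lgr Lrot26 (Lpr_ff (K36.f427130 IH) (Lpe (f426615 IH) (Lpr_gt (f94526 IH) (Lpn (LP (LK LD1_c13 LD2_c16 LD3_c27))))))
theorem f427140 : Led Lsl_ff (LP (LK LD1_c7 LD2_c33 LD3_c42)) = (LP (LK LD1_c13 LD2_c16 LD3_c27)) :=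
  Lgr Lrot30 (Lpe (K36.f426545 IH) (Lpe (K36.f427130 IH) (Lpr_at (f427134 IH) (Lpn (LP (LK LD1_c13 LD2_c16 LD3_c27))))))
theorem f162020 : Led Lsl_dt (LP (LK LD1_c7 LD2_c35 LD3_c52)) = (LP (LK LD1_c12 LD2_c33 LD3_c41)) :=
  Lgr Lrot6 (Lpr_gt (K8.f162014 IH) (Lpe (K5.f122709 IH) (Lpr_gt (K5.f122690 IH) (Lpe (K4.f120968 IH) (Lpe (K5.f96143 IH) (Lpr_cf (K36.f129427 IH) (Lpe (K36.f90606 IH) (Lpr_cf (K2.f93184 IH) (Lpe (K30.f93197 IH) (Lpn (LP (LK LD1_c12 LD2_c33 LD3_c41))))))))))))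
theorem f162508 : Led Lsl_bt (LP (LK LD1_c12 LD2_c33 LD3_c41)) = (LP (LK LD1_c11 LD2_c41 LD3_c43)) :=
  Lgr Lrot95 (Lpe (f162020 IH) (Lpr_bf (K33.f162024 IH) (Lpr_df (f162503 IH) (Lpn (LP (LK LD1_c11 LD2_c41 LD3_c43))))))
theorem f209687 : Led Lsl_ct (LP (LK LD1_c12 LD2_c33 LD3_c41)) = (LP (LK LD1_c13 LD2_c6 LD3_c33)) :=
  Lgr Lrot59 (Lpr_cf (K30.f209556 IH) (Lpn (LP (LK LD1_c13 LD2_c6 LD3_c33))))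
theorem f209700 : Led Lsl_gf (LP (LK LD1_c13 LD2_c9 LD3_c1)) = (LP (LK LD1_c13 LD2_c6 LD3_c33)) :=
  Lgr Lrot76 (Lpe (K4.f111431 IH) (Lpr_ff (K8.f129441 IH) (Lpr_gt (K36.f209695 IH) (Lpn (LP (LK LD1_c13 LD2_c6 LD3_c33))))))
theorem f426898 : Led Lsl_gf (LP (LK LD1_c11 LD2_c40 LD3_c39)) = (LP (LK LD1_c14 LD2_c12 LD3_c31)) :=
  Lgr Lrot129 (Lpe (f426885 IH) (Lpr_bt (f127455 IH) (Lpr_gt (f426893 IH) (Lpe (f162508 IH) (Lpr_ct (f209687 IH) (Lpe (f209700 IH) (Lpe (K4.f91288 IH) (Lpr_bt (K4.f111824 IH) (Lpe (K4.f111836 IH) (Lpr_ct (K4.f111838 IH) (Lpn (LP (LK LD1_c14 LD2_c12 LD3_c31)))))))))))))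
theorem f139333 : Led Lsl_bt (LP (LK LD1_c5 LD2_c51 LD3_c33)) = (LP (LK LD1_c11 LD2_c30 LD3_c30)) :=
  Lre_b IH (LK LD1_c5 LD2_c51 LD3_c33) (LK LD1_c11 LD2_c30 LD3_c30) Lrfl Lrfl
theorem f426118 : Led Lsl_gt (LP (LK LD1_c11 LD2_c30 LD3_c30)) = (LP (LK LD1_c14 LD2_c12 LD3_c31)) :=
  Lgr Lrot82 (Lpe (f139333 IH) (Lpe (K28.f426071 IH) (Lpr_gf (K24.f426114 IH) (Lpe (K28.f157053 IH) (Lpr_bt (K32.f157048 IH) (Lpe (K32.f161235 IH) (Lpe (K4.f94137 IH) (Lpr_ct (K28.f89127 IH) (Lpe (K4.f92450 IH) (Lpe (K4.f94162 IH) (Lpn (LP (LK LD1_c14 LD2_c12 LD3_c31)))))))))))))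
theorem f426900 : Led Lsl_ff (LP (LK LD1_c5 LD2_c57 LD3_c57)) = (LP (LK LD1_c11 LD2_c30 LD3_c30)) :=
  Lgr Lrot52 (Lpr_at (f72812 IH) (Lpr_gf (f426898 IH) (Lpe (f426118 IH) (Lpn (LP (LK LD1_c11 LD2_c30 LD3_c30))))))
theorem f426906 : Led Lsl_ft (LP (LK LD1_c5 LD2_c57 LD3_c57)) = (LP (LK LD1_c11 LD2_c30 LD3_c30)) :=
  Lgr Lrot48 (Lpr_ff (f426900 IH) (Lpn (LP (LK LD1_c11 LD2_c30 LD3_c30))))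
theorem f162973 : Led Lsl_ct (LP (LK LD1_c7 LD2_c37 LD3_c44)) = (LP (LK LD1_c11 LD2_c40 LD3_c38)) :=
  Lgr Lrot59 (Lpr_cf (K8.f162969 IH) (Lpn (LP (LK LD1_c11 LD2_c40 LD3_c38))))
theorem f424981 : Led Lsl_gf (LP (LK LD1_c13 LD2_c9 LD3_c56)) = (LP (LK LD1_c11 LD2_c40 LD3_c38)) :=
  Lgr Lrot104 (Lpr_ct (K36.f116585 IH) (Lpe (K36.f116581 IH) (Lpr_cf (K7.f116622 IH) (Lpr_gf (K32.f147328 IH) (Lpe (K32.f147330 IH) (Lpr_gf (K8.f127657 IH) (Lpe (K8.f92454 IH) (Lpr_gt (K8.f127429 IH) (Lpr_ct (f162973 IH) (Lpn (LP (LK LD1_c11 LD2_c40 LD3_c38))))))))))))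
theorem f426911 : Led Lsl_af (LP (LK LD1_c13 LD2_c9 LD3_c56)) = (LP (LK LD1_c11 LD2_c30 LD3_c30)) :=
  Lgr Lrot31 (Lpr_gf (f424981 IH) (Lpe (K8.f72807 IH) (Lpr_ft (f426906 IH) (Lpn (LP (LK LD1_c11 LD2_c30 LD3_c30))))))
theorem f72806 : Led Lsl_at (LP (LK LD1_c11 LD2_c40 LD3_c39)) = (LP (LK LD1_c5 LD2_c57 LD3_c57)) :=
  Lre_a IH (LK LD1_c11 LD2_c40 LD3_c39) (LK LD1_c5 LD2_c57 LD3_c57) Lrfl Lrfl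
theorem f426915 : Led Lsl_ft (LP (LK LD1_c13 LD2_c9 LD3_c56)) = (LP (LK LD1_c11 LD2_c40 LD3_c39)) :=
  Lgr Lrot101 (Lpr_af (f426911 IH) (Lpe (f426906 IH) (Lpe (f72806 IH) (Lpn (LP (LK LD1_c11 LD2_c40 LD3_c39))))))
theorem f426917 : Led Lsl_ff (LP (LK LD1_c6 LD2_c55 LD3_c60)) = (LP (LK LD1_c6 LD2_c33 LD3_c22)) :=
  Lgr Lrot23 (Lpr_ct (K36.f116605 IH) (Lpr_ft (f426915 IH) (Lpe (f426883 IH) (Lpn (LP (LK LD1_c6 LD2_c33 LD3_c22))))))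
theorem f426501 : Led Lsl_bf (LP (LK LD1_c11 LD2_c41 LD3_c44)) = (LP (LK LD1_c6 LD2_c55 LD3_c60)) :=
  Lgr Lrot24 (Lpr_bt (K28.f426496 IH) (Lpn (LP (LK LD1_c6 LD2_c55 LD3_c60))))
theorem f127450 : Led Lsl_bt (LP (LK LD1_c12 LD2_c33 LD3_c55)) = (LP (LK LD1_c6 LD2_c33 LD3_c22)) :=
  Lre_b IH (LK LD1_c12 LD2_c33 LD3_c55) (LK LD1_c6 LD2_c33 LD3_c22) Lrfl Lrfl
theorem f426919 : Led Lsl_ft (LP (LK LD1_c11 LD2_c41 LD3_c44)) = (LP (LK LD1_c12 LD2_c33 LD3_c55)) :=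
  Lgr Lrot75 (Lpr_bf (f426501 IH) (Lpr_ff (f426917 IH) (Lpe (f127450 IH) (Lpn (LP (LK LD1_c12 LD2_c33 LD3_c55))))))
theorem f427146 : Led Lsl_dt (LP (LK LD1_c12 LD2_c33 LD3_c55)) = (LP (LK LD1_c13 LD2_c16 LD3_c27)) :=
  Lgr Lrot60 (Lpe (f426919 IH) (Lpr_df (K28.f426505 IH) (Lpr_ff (f427140 IH) (Lpn (LP (LK LD1_c13 LD2_c16 LD3_c27))))))
theorem f427150 : Led Lsl_gf (LP (LK LD1_c7 LD2_c18 LD3_c53)) = (LP (LK LD1_c13 LD2_c16 LD3_c27)) :=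
  Lgr Lrot47 (Lpr_gt (K28.f426613 IH) (Lpr_af (K36.f426545 IH) (Lpr_ff (f427140 IH) (Lpn (LP (LK LD1_c13 LD2_c16 LD3_c27))))))
theorem f419449 : Led Lsl_at (LP (LK LD1_c1 LD2_c50 LD3_c24)) = (LP (LK LD1_c3 LD2_c29 LD3_c38)) :=
  Lgr Lrot66 (Lpr_ff (K28.f419447 IH) (Lpe (K4.f121858 IH) (Lpr_ff (K4.f121854 IH) (Lpn (LP (LK LD1_c3 LD2_c29 LD3_c38))))))
theorem f522537 : Led Lsl_cf (LP (LK LD1_c1 LD2_c50 LD3_c24)) = K33.v2473 :=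
  Lgr Lrot1 (Lpr_at (f419449 IH) (Lpr_ct (K6.f97502 IH) (Lpr_at (K33.f522535 IH) (Lpn K33.v2473))))
theorem f543846 : Led Lsl_gf (LP (LK LD1_c7 LD2_c33 LD3_c59)) = (LP (LK LD1_c12 LD2_c10 LD3_c27)) :=
  Lgr Lrot104 (Lpr_ct (K28.f419383 IH) (Lpe (K28.f14697 IH) (Lpr_cf (f522537 IH) (Lpe (K33.f522539 IH) (Lpe (K28.f94565 IH) (Lpr_gf (f427150 IH) (Lpe (f427146 IH) (Lpr_gt (f426893 IH) (Lpr_ct (f543837 IH) (Lpn (LP (LK LD1_c12 LD2_c10 LD3_c27))))))))))))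
theorem f202261 : Led Lsl_ct (LP (LK LD1_c3 LD2_c4 LD3_c13)) = (LP (LK LD1_c1 LD2_c28 LD3_c39)) :=
  Lre_c IH (LK LD1_c3 LD2_c4 LD3_c13) (LK LD1_c1 LD2_c28 LD3_c39) Lrfl Lrfl
theorem f210065 : Led Lsl_ft (LP (LK LD1_c1 LD2_c28 LD3_c39)) = (LP (LK LD1_c3 LD2_c5 LD3_c15)) :=
  Lre_f IH (LK LD1_c1 LD2_c28 LD3_c39) (LK LD1_c3 LD2_c5 LD3_c15) Lrfl Lrfl
theorem f543812 : Led Lsl_cf (LP (LK LD1_c3 LD2_c33 LD3_c41)) = (LP (LK LD1_c3 LD2_c5 LD3_c15)) :=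
  Lgr Lrot108 (Lpr_ft (f519733 IH) (Lpq (f543803 IH) (Lpr_ct (f202261 IH) (Lpr_ft (f210065 IH) (Lpn (LP (LK LD1_c3 LD2_c5 LD3_c15)))))))
theorem f538153 : Led Lsl_dt (LP (LK LD1_c6 LD2_c16 LD3_c20)) = (LP (LK LD1_c3 LD2_c5 LD3_c15)) :=
  Lre_d IH (LK LD1_c6 LD2_c16 LD3_c20) (LK LD1_c3 LD2_c5 LD3_c15) Lrfl Lrfl
theorem f543822 : Led Lsl_ct (LP (LK LD1_c12 LD2_c9 LD3_c58)) = (LP (LK LD1_c6 LD2_c16 LD3_c20)) :=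
  Lre_c IH (LK LD1_c12 LD2_c9 LD3_c58) (LK LD1_c6 LD2_c16 LD3_c20) Lrfl Lrfl
theorem f112399 : Led Lsl_dt (LP (LK LD1_c1 LD2_c28 LD3_c10)) = (LP (LK LD1_c3 LD2_c4 LD3_c18)) :=
  Lre_d IH (LK LD1_c1 LD2_c28 LD3_c10) (LK LD1_c3 LD2_c4 LD3_c18) Lrfl Lrfl
theorem f121795 : Led Lsl_af (LP (LK LD1_c0 LD2_c50 LD3_c4)) = (LP (LK LD1_c0 LD2_c49 LD3_c51)) :=
  Lgr Lrot68 (Lpe (K2.f94416 IH) (Lpr_at (K4.f121791 IH) (Lpr_ct (K1.f18018 IH) (Lpn (LP (LK LD1_c0 LD2_c49 LD3_c51))))))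
theorem f522536 : Led Lsl_af (LP (LK LD1_c1 LD2_c46 LD3_c11)) = K33.v2473 :=
  Lgr Lrot0 (Lpr_at (K33.f522535 IH) (Lpn K33.v2473))
theorem f522753 : Led Lsl_bf K33.v2473 = v2487 :=
  Lgr Lrot81 (Lpe (f522536 IH) (Lpr_bt (K3.f5815 IH) (Lpe (f121795 IH) (Lpr_bt (K8.f93169 IH) (Lpr_at (f522751 IH) (Lpn v2487))))))
theorem f503032 : Led Lsl_bt (LP (LK LD1_c1 LD2_c28 LD3_c14)) = (LP (LK LD1_c3 LD2_c4 LD3_c18)) :=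
  Lre_b IH (LK LD1_c1 LD2_c28 LD3_c14) (LK LD1_c3 LD2_c4 LD3_c18) Lrfl Lrfl
theorem f540358 : K33.v2473 = (LP (LK LD1_c3 LD2_c4 LD3_c18)) :=
  Lefun (Lecon (Lfl_bf (f522753 IH)) (f540328 IH)) (f503032 IH)
theorem f543823 : Led Lsl_df (LP (LK LD1_c12 LD2_c9 LD3_c58)) = (LP (LK LD1_c7 LD2_c33 LD3_c59)) :=
  Lgr Lrot43 (Lpr_ct (f543822 IH) (Lpr_dt (f538153 IH) (Lpe (f543812 IH) (Lpe (f441965 IH) (Lpr_ct (K2.f94485 IH) (Lpr_dt (K28.f94531 IH) (Lpr_ct (f543816 IH) (Lpr_dt (f186354 IH) (Lpr_ct (f186353 IH) (Lpr_dt (f202611 IH) (Lpr_ct (f179937 IH) (Lpr_dt (f112399 IH) (Lpq (f540358 IH) (Lpe (f522537 IH) (Lpr_dt (K28.f14697 IH) (Lpr_ct (K28.f14698 IH) (Lpn (LP (LK LD1_c7 LD2_c33 LD3_c59)))))))))))))))))))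
theorem f543848 : Led Lsl_gt (LP (LK LD1_c12 LD2_c9 LD3_c58)) = (LP (LK LD1_c6 LD2_c16 LD3_c39)) :=
  Lre_g IH (LK LD1_c12 LD2_c9 LD3_c58) (LK LD1_c6 LD2_c16 LD3_c39) Lrfl Lrfl
theorem f543849 : Led Lsl_dt (LP (LK LD1_c6 LD2_c16 LD3_c39)) = (LP (LK LD1_c12 LD2_c10 LD3_c21)) :=
  Lre_d IH (LK LD1_c6 LD2_c16 LD3_c39) (LK LD1_c12 LD2_c10 LD3_c21) Lrfl Lrfl
theorem f88599 : Led Lsl_dt (LP (LK LD1_c1 LD2_c51 LD3_c44)) = (LP (LK LD1_c0 LD2_c52 LD3_c39)) :=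
  Lre_d IH (LK LD1_c1 LD2_c51 LD3_c44) (LK LD1_c0 LD2_c52 LD3_c39) Lrfl Lrfl
theorem f162501 : Led Lsl_dt (LP (LK LD1_c7 LD2_c7 LD3_c47)) = (LP (LK LD1_c11 LD2_c41 LD3_c43)) :=
  Lgr Lrot6 (Lpr_gt (f162499 IH) (Lpe (K3.f110227 IH) (Lpr_gt (K3.f87934 IH) (Lpr_ct (K3.f11546 IH) (Lpe (f88599 IH) (Lpe (K4.f87178 IH) (Lpr_gf (K8.f157592 IH) (Lpe (K8.f110909 IH) (Lpe (f157597 IH) (Lpn (LP (LK LD1_c11 LD2_c41 LD3_c43))))))))))))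
theorem f543832 : Led Lsl_cf (LP (LK LD1_c11 LD2_c41 LD3_c43)) = (LP (LK LD1_c12 LD2_c10 LD3_c27)) :=
  Lgr Lrot99 (Lpe (f162501 IH) (Lpe (K33.f96865 IH) (Lpe (K33.f96830 IH) (Lpe (K3.f10793 IH) (Lpe (K3.f96862 IH) (Lpe (K28.f88576 IH) (Lpr_gt (K28.f419462 IH) (Lpr_ct (f543816 IH) (Lpr_gt (f204771 IH) (Lpn (LP (LK LD1_c12 LD2_c10 LD3_c27))))))))))))
theorem f162521 : Led Lsl_dt (LP (LK LD1_c5 LD2_c58 LD3_c39)) = (LP (LK LD1_c11 LD2_c41 LD3_c45)) :=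
  Lre_d IH (LK LD1_c5 LD2_c58 LD3_c39) (LK LD1_c11 LD2_c41 LD3_c45) Lrfl Lrfl
theorem f437317 : Led Lsl_gf (LP (LK LD1_c12 LD2_c33 LD3_c7)) = (LP (LK LD1_c11 LD2_c44 LD3_c34)) :=
  Lgr Lrot181 (Lpr_ct (K36.f428987 IH) (Lpr_gt (K36.f103046 IH) (Lpe (K8.f120626 IH) (Lpr_bt (K4.f57259 IH) (Lpe (K6.f135768 IH) (Lpe (K6.f92187 IH) (Lpr_ct (K6.f145268 IH) (Lpr_gt (K11.f24855 IH) (Lpr_cf (K11.f139681 IH) (Lpr_bt (K32.f437308 IH) (Lpn (LP (LK LD1_c11 LD2_c44 LD3_c34)))))))))))))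
theorem f427148 : Led Lsl_ft (LP (LK LD1_c7 LD2_c33 LD3_c42)) = (LP (LK LD1_c13 LD2_c16 LD3_c27)) :=
  Lgr Lrot48 (Lpr_ff (f427140 IH) (Lpn (LP (LK LD1_c13 LD2_c16 LD3_c27))))
theorem f427152 : Led Lsl_cf (LP (LK LD1_c7 LD2_c0 LD3_c40)) = (LP (LK LD1_c13 LD2_c16 LD3_c27)) :=
  Lgr Lrot108 (Lpr_ft (K28.f426656 IH) (Lpr_ct (K28.f94454 IH) (Lpr_ft (f427148 IH) (Lpn (LP (LK LD1_c13 LD2_c16 LD3_c27))))))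
theorem f437319 : Led Lsl_dt (LP (LK LD1_c6 LD2_c59 LD3_c45)) = (LP (LK LD1_c11 LD2_c44 LD3_c34)) :=
  Lgr Lrot6 (Lpr_gt (f94526 IH) (Lpe (f427152 IH) (Lpe (K28.f109057 IH) (Lpr_ct (K4.f109060 IH) (Lpr_df (K4.f120285 IH) (Lpr_cf (K4.f120622 IH) (Lpe (K36.f103046 IH) (Lpe (K36.f428987 IH) (Lpr_gf (f437317 IH) (Lpn (LP (LK LD1_c11 LD2_c44 LD3_c34))))))))))))
theorem f543852 : Led Lsl_cf (LP (LK LD1_c12 LD2_c10 LD3_c21)) = (LP (LK LD1_c11 LD2_c44 LD3_c34)) :=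
  Lgr Lrot14 (Lpe (f543849 IH) (Lpe (f543848 IH) (Lpr_df (f543823 IH) (Lpr_gf (f543846 IH) (Lpe (f543832 IH) (Lpr_gt (f157597 IH) (Lpr_dt (f162521 IH) (Lpe (f426615 IH) (Lpr_dt (f437319 IH) (Lpn (LP (LK LD1_c11 LD2_c44 LD3_c34))))))))))))
theorem f136927 : Led Lsl_dt (LP (LK LD1_c3 LD2_c50 LD3_c22)) = (LP (LK LD1_c6 LD2_c0 LD3_c3)) :=
  Lgr Lrot79 (Lpe (K6.f96147 IH) (Lpr_df (K6.f136924 IH) (Lpe (K6.f110366 IH) (Lpn (LP (LK LD1_c6 LD2_c0 LD3_c3))))))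
theorem f543872 : Led Lsl_gt (LP (LK LD1_c12 LD2_c10 LD3_c21)) = (LP (LK LD1_c7 LD2_c34 LD3_c7)) :=
  Lgr Lrot150 (Lpr_cf (f543852 IH) (Lpe (K32.f72665 IH) (Lpe (f136927 IH) (Lpr_gt (K6.f136345 IH) (Lpr_ct (K6.f96480 IH) (Lpr_gt (K6.f17480 IH) (Lpr_ct (K3.f96468 IH) (Lpe (K4.f120257 IH) (Lpe (K28.f120260 IH) (Lpn (LP (LK LD1_c7 LD2_c34 LD3_c7))))))))))))
theorem f141994 : Led Lsl_ct (LP (LK LD1_c17 LD2_c20 LD3_c43)) = (LP (LK LD1_c20 LD2_c26 LD3_c2)) :=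
  Lgr Lrot83 (Lpe (K28.f136155 IH) (Lpr_cf (K6.f136153 IH) (Lpe (K6.f136156 IH) (Lpr_cf (K7.f141986 IH) (Lpe (K7.f141993 IH) (Lpn (LP (LK LD1_c20 LD2_c26 LD3_c2))))))))
theorem f120814 : Led Lsl_bt (LP (LK LD1_c3 LD2_c42 LD3_c60)) = (LP (LK LD1_c1 LD2_c48 LD3_c32)) :=
  Lre_b IH (LK LD1_c3 LD2_c42 LD3_c60) (LK LD1_c1 LD2_c48 LD3_c32) Lrfl Lrfl
theorem f102254 : Led Lsl_ct (LP (LK LD1_c7 LD2_c20 LD3_c0)) = (LP (LK LD1_c4 LD2_c45 LD3_c13)) :=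
  Lgr Lrot83 (Lpe (K5.f66562 IH) (Lpe (K4.f12564 IH) (Lpr_bf (K4.f102250 IH) (Lpe (K4.f102118 IH) (Lpe (K7.f13748 IH) (Lpn (LP (LK LD1_c4 LD2_c45 LD3_c13))))))))
theorem f102128 : Led Lsl_gt (LP (LK LD1_c9 LD2_c23 LD3_c6)) = (LP (LK LD1_c4 LD2_c45 LD3_c13)) :=
  Lre_g IH (LK LD1_c9 LD2_c23 LD3_c6) (LK LD1_c4 LD2_c45 LD3_c13) Lrfl Lrfl
theorem f142002 : Led Lsl_cf (LP (LK LD1_c9 LD2_c23 LD3_c6)) = (LP (LK LD1_c12 LD2_c48 LD3_c56)) :=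
  Lgr Lrot125 (Lpr_gt (f102128 IH) (Lpe (f102254 IH) (Lpr_bt (K5.f102263 IH) (Lpe (K4.f120807 IH) (Lpe (f120814 IH) (Lpr_ct (K6.f128948 IH) (Lpr_gt (K6.f128957 IH) (Lpr_cf (K7.f141986 IH) (Lpr_bt (K7.f141999 IH) (Lpe (K11.f142000 IH) (Lpn (LP (LK LD1_c12 LD2_c48 LD3_c56)))))))))))))
theorem f142004 : Led Lsl_ct (LP (LK LD1_c9 LD2_c23 LD3_c6)) = (LP (LK LD1_c12 LD2_c48 LD3_c56)) :=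
  Lgr Lrot59 (Lpr_cf (f142002 IH) (Lpn (LP (LK LD1_c12 LD2_c48 LD3_c56))))
theorem f543878 : Led Lsl_bf (LP (LK LD1_c12 LD2_c10 LD3_c21)) = (LP (LK LD1_c9 LD2_c23 LD3_c6)) :=
  Lgr Lrot165 (Lpr_gt (f543872 IH) (Lpr_ct (K28.f120260 IH) (Lpr_gt (K4.f94484 IH) (Lpe (K3.f88295 IH) (Lpe (K6.f65226 IH) (Lpr_gt (K6.f136010 IH) (Lpe (K28.f124522 IH) (Lpr_ct (f141994 IH) (Lpe (K11.f142000 IH) (Lpe (f142004 IH) (Lpn (LP (LK LD1_c9 LD2_c23 LD3_c6)))))))))))))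
theorem f13325 : Led Lsl_bt (LP (LK LD1_c3 LD2_c44 LD3_c10)) = (LP (LK LD1_c1 LD2_c49 LD3_c8)) :=
  Lre_b IH (LK LD1_c3 LD2_c44 LD3_c10) (LK LD1_c1 LD2_c49 LD3_c8) Lrfl Lrfl
theorem f22671 : Led Lsl_bt (LP (LK LD1_c1 LD2_c33 LD3_c28)) = (LP (LK LD1_c3 LD2_c13 LD3_c48)) :=
  Lre_b IH (LK LD1_c1 LD2_c33 LD3_c28) (LK LD1_c3 LD2_c13 LD3_c48) Lrfl Lrfl
theorem f148346 : Led Lsl_df (LP (LK LD1_c3 LD2_c44 LD3_c10)) = (LP (LK LD1_c3 LD2_c13 LD3_c48)) :=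
  Lgr Lrot12 (Lpr_bt (f13325 IH) (Lpr_dt (K7.f148342 IH) (Lpr_bt (f22671 IH) (Lpn (LP (LK LD1_c3 LD2_c13 LD3_c48))))))
theorem f13328 : Led Lsl_gt (LP (LK LD1_c3 LD2_c44 LD3_c10)) = (LP (LK LD1_c7 LD2_c29 LD3_c12)) :=
  Lre_g IH (LK LD1_c3 LD2_c44 LD3_c10) (LK LD1_c7 LD2_c29 LD3_c12) Lrfl Lrfl
theorem f205866 : Led Lsl_df (LP (LK LD1_c6 LD2_c41 LD3_c51)) = (LP (LK LD1_c7 LD2_c29 LD3_c12)) :=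
  Lgr Lrot84 (Lpr_cf (K11.f139681 IH) (Lpr_df (K11.f205860 IH) (Lpr_gf (K2.f18648 IH) (Lpe (K7.f15860 IH) (Lpr_gf (K8.f129425 IH) (Lpr_cf (K8.f156559 IH) (Lpr_gt (K8.f22670 IH) (Lpe (f148346 IH) (Lpr_gt (f13328 IH) (Lpn (LP (LK LD1_c7 LD2_c29 LD3_c12))))))))))))
theorem f205872 : Led Lsl_dt (LP (LK LD1_c6 LD2_c41 LD3_c51)) = (LP (LK LD1_c7 LD2_c29 LD3_c12)) :=
  Lgr Lrot42 (Lpr_df (f205866 IH) (Lpn (LP (LK LD1_c7 LD2_c29 LD3_c12))))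
theorem f139680 : Led Lsl_bt (LP (LK LD1_c12 LD2_c48 LD3_c56)) = (LP (LK LD1_c6 LD2_c41 LD3_c51)) :=
  Lre_b IH (LK LD1_c12 LD2_c48 LD3_c56) (LK LD1_c6 LD2_c41 LD3_c51) Lrfl Lrfl
theorem f205874 : Led Lsl_bt (LP (LK LD1_c7 LD2_c29 LD3_c12)) = (LP (LK LD1_c14 LD2_c7 LD3_c59)) :=
  Lre_b IH (LK LD1_c7 LD2_c29 LD3_c12) (LK LD1_c14 LD2_c7 LD3_c59) Lrfl Lrfl
theorem f205875 : Led Lsl_df (LP (LK LD1_c12 LD2_c48 LD3_c56)) = (LP (LK LD1_c14 LD2_c7 LD3_c59)) :=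
  Lgr Lrot12 (Lpr_bt (f139680 IH) (Lpr_dt (f205872 IH) (Lpr_bt (f205874 IH) (Lpn (LP (LK LD1_c14 LD2_c7 LD3_c59))))))
theorem f205925 : Led Lsl_ct (LP (LK LD1_c12 LD2_c44 LD3_c12)) = (LP (LK LD1_c6 LD2_c43 LD3_c11)) :=
  Lgr Lrot59 (Lpr_cf (K11.f205899 IH) (Lpn (LP (LK LD1_c6 LD2_c43 LD3_c11))))
theorem f497796 : Led Lsl_af (LP (LK LD1_c12 LD2_c44 LD3_c12)) = (LP (LK LD1_c7 LD2_c36 LD3_c16)) :=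
  Lgr Lrot68 (Lpr_ct (f205925 IH) (Lpr_at (K32.f497790 IH) (Lpr_ct (K6.f135805 IH) (Lpn (LP (LK LD1_c7 LD2_c36 LD3_c16))))))
theorem f499475 : Led Lsl_at (LP (LK LD1_c14 LD2_c7 LD3_c61)) = (LP (LK LD1_c13 LD2_c58 LD3_c36)) :=
  Lgr Lrot51 (Lpe (K11.f205929 IH) (Lpr_af (f497796 IH) (Lpr_df (K32.f205939 IH) (Lpn (LP (LK LD1_c13 LD2_c58 LD3_c36))))))
theorem f159533 : Led Lsl_ct (LP (LK LD1_c7 LD2_c29 LD3_c13)) = (LP (LK LD1_c14 LD2_c7 LD3_c61)) :=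
  Lre_c IH (LK LD1_c7 LD2_c29 LD3_c13) (LK LD1_c14 LD2_c7 LD3_c61) Lrfl Lrfl
theorem f13388 : Led Lsl_ct (LP (LK LD1_c13 LD2_c58 LD3_c36)) = (LP (LK LD1_c7 LD2_c23 LD3_c30)) :=
  Lre_c IH (LK LD1_c13 LD2_c58 LD3_c36) (LK LD1_c7 LD2_c23 LD3_c30) Lrfl Lrfl
theorem f499479 : Led Lsl_af (LP (LK LD1_c7 LD2_c29 LD3_c13)) = (LP (LK LD1_c7 LD2_c23 LD3_c30)) :=
  Lgr Lrot68 (Lpr_ct (f159533 IH) (Lpr_at (f499475 IH) (Lpr_ct (f13388 IH) (Lpn (LP (LK LD1_c7 LD2_c23 LD3_c30))))))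
theorem f499481 : Led Lsl_at (LP (LK LD1_c7 LD2_c29 LD3_c13)) = (LP (LK LD1_c7 LD2_c23 LD3_c30)) :=
  Lgr Lrot100 (Lpr_af (f499479 IH) (Lpn (LP (LK LD1_c7 LD2_c23 LD3_c30))))
theorem f13330 : Led Lsl_gt (LP (LK LD1_c7 LD2_c23 LD3_c31)) = (LP (LK LD1_c3 LD2_c41 LD3_c29)) :=
  Lre_g IH (LK LD1_c7 LD2_c23 LD3_c31) (LK LD1_c3 LD2_c41 LD3_c29) Lrfl Lrfl
theorem f499487 : Led Lsl_ff (LP (LK LD1_c7 LD2_c29 LD3_c13)) = (LP (LK LD1_c7 LD2_c23 LD3_c31)) :=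
  Lgr Lrot52 (Lpr_at (f499481 IH) (Lpe (K11.f13329 IH) (Lpe (f13330 IH) (Lpn (LP (LK LD1_c7 LD2_c23 LD3_c31))))))
theorem f156670 : Led Lsl_df (LP (LK LD1_c9 LD2_c28 LD3_c28)) = (LP (LK LD1_c7 LD2_c32 LD3_c26)) :=
  Lgr Lrot162 (Lpr_cf (K32.f135816 IH) (Lpe (K6.f16084 IH) (Lpe (K0.f16067 IH) (Lpe (K7.f16108 IH) (Lpr_dt (K7.f156662 IH) (Lpr_gt (K7.f18665 IH) (Lpe (K4.f18621 IH) (Lpr_gt (K4.f19043 IH) (Lpe (K4.f65918 IH) (Lpn (LP (LK LD1_c7 LD2_c32 LD3_c26))))))))))))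
theorem f16786 : Led Lsl_ct (LP (LK LD1_c7 LD2_c36 LD3_c11)) = (LP (LK LD1_c3 LD2_c47 LD3_c39)) :=
  Lre_c IH (LK LD1_c7 LD2_c36 LD3_c11) (LK LD1_c3 LD2_c47 LD3_c39) Lrfl Lrfl
theorem f499489 : Led Lsl_dt (LP (LK LD1_c7 LD2_c23 LD3_c31)) = (LP (LK LD1_c7 LD2_c36 LD3_c11)) :=
  Lgr Lrot159 (Lpe (f499487 IH) (Lpr_at (f499481 IH) (Lpe (f13388 IH) (Lpe (K11.f205937 IH) (Lpe (K6.f135805 IH) (Lpr_df (f156670 IH) (Lpr_cf (K4.f65918 IH) (Lpe (K7.f156688 IH) (Lpe (f16786 IH) (Lpn (LP (LK LD1_c7 LD2_c36 LD3_c11))))))))))))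
theorem f497630 : Led Lsl_at (LP (LK LD1_c7 LD2_c36 LD3_c11)) = (LP (LK LD1_c6 LD2_c41 LD3_c51)) :=
  Lgr Lrot100 (Lpr_af (K32.f497628 IH) (Lpn (LP (LK LD1_c6 LD2_c41 LD3_c51))))
theorem f499491 : Led Lsl_af (LP (LK LD1_c7 LD2_c23 LD3_c31)) = (LP (LK LD1_c7 LD2_c29 LD3_c12)) :=
  Lgr Lrot117 (Lpr_dt (f499489 IH) (Lpr_at (f497630 IH) (Lpr_dt (f205872 IH) (Lpn (LP (LK LD1_c7 LD2_c29 LD3_c12))))))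
theorem f499506 : Led Lsl_ft (LP (LK LD1_c7 LD2_c23 LD3_c30)) = (LP (LK LD1_c7 LD2_c29 LD3_c12)) :=
  Lgr Lrot101 (Lpe (f499481 IH) (Lpr_ff (f499487 IH) (Lpr_af (f499491 IH) (Lpn (LP (LK LD1_c7 LD2_c29 LD3_c12))))))
theorem f205950 : Led Lsl_bt (LP (LK LD1_c13 LD2_c58 LD3_c35)) = (LP (LK LD1_c7 LD2_c23 LD3_c30)) :=
  Lre_b IH (LK LD1_c13 LD2_c58 LD3_c35) (LK LD1_c7 LD2_c23 LD3_c30) Lrfl Lrfl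
theorem f499508 : Led Lsl_ff (LP (LK LD1_c13 LD2_c58 LD3_c35)) = (LP (LK LD1_c14 LD2_c7 LD3_c59)) :=
  Lgr Lrot25 (Lpr_bt (f205950 IH) (Lpr_ft (f499506 IH) (Lpr_bt (f205874 IH) (Lpn (LP (LK LD1_c14 LD2_c7 LD3_c59))))))
theorem f499516 : Led Lsl_ft (LP (LK LD1_c13 LD2_c58 LD3_c35)) = (LP (LK LD1_c14 LD2_c7 LD3_c59)) :=
  Lgr Lrot48 (Lpr_ff (f499508 IH) (Lpn (LP (LK LD1_c14 LD2_c7 LD3_c59))))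
theorem f78513 : Led Lsl_bt (LP (LK LD1_c2 LD2_c21 LD3_c3)) = (LP (LK LD1_c4 LD2_c46 LD3_c2)) :=
  Lre_b IH (LK LD1_c2 LD2_c21 LD3_c3) (LK LD1_c4 LD2_c46 LD3_c2) Lrfl Lrfl
theorem f78514 : Led Lsl_ct (LP (LK LD1_c4 LD2_c46 LD3_c2)) = (LP (LK LD1_c9 LD2_c24 LD3_c40)) :=
  Lre_c IH (LK LD1_c4 LD2_c46 LD3_c2) (LK LD1_c9 LD2_c24 LD3_c40) Lrfl Lrfl
theorem f78506 : Led Lsl_bt (LP (LK LD1_c4 LD2_c46 LD3_c19)) = (LP (LK LD1_c2 LD2_c21 LD3_c9)) :=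
  Lre_b IH (LK LD1_c4 LD2_c46 LD3_c19) (LK LD1_c2 LD2_c21 LD3_c9) Lrfl Lrfl
theorem f78507 : Led Lsl_ct (LP (LK LD1_c9 LD2_c25 LD3_c17)) = (LP (LK LD1_c4 LD2_c46 LD3_c19)) :=
  Lre_c IH (LK LD1_c9 LD2_c25 LD3_c17) (LK LD1_c4 LD2_c46 LD3_c19) Lrfl Lrfl
theorem f78515 : Led Lsl_bt (LP (LK LD1_c9 LD2_c24 LD3_c40)) = (LP (LK LD1_c9 LD2_c25 LD3_c17)) :=
  Lgr Lrot128 (Lpe (f78514 IH) (Lpe (f78513 IH) (Lpr_cf (K3.f78504 IH) (Lpe (f78506 IH) (Lpe (f78507 IH) (Lpn (LP (LK LD1_c9 LD2_c25 LD3_c17))))))))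
theorem f148555 : Led Lsl_bt (LP (LK LD1_c12 LD2_c31 LD3_c27)) = (LP (LK LD1_c6 LD2_c31 LD3_c46)) :=
  Lre_b IH (LK LD1_c12 LD2_c31 LD3_c27) (LK LD1_c6 LD2_c31 LD3_c46) Lrfl Lrfl
theorem f419197 : Led Lsl_dt (LP (LK LD1_c9 LD2_c25 LD3_c17)) = (LP (LK LD1_c12 LD2_c31 LD3_c27)) :=
  Lgr Lrot79 (Lpe (f78515 IH) (Lpr_df (K28.f419195 IH) (Lpe (f148555 IH) (Lpn (LP (LK LD1_c12 LD2_c31 LD3_c27))))))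
theorem f74728 : Led Lsl_gt (LP (LK LD1_c5 LD2_c58 LD3_c11)) = (LP (LK LD1_c11 LD2_c41 LD3_c0)) :=
  Lre_g IH (LK LD1_c5 LD2_c58 LD3_c11) (LK LD1_c11 LD2_c41 LD3_c0) Lrfl Lrfl
theorem f163450 : Led Lsl_bf (LP (LK LD1_c11 LD2_c41 LD3_c0)) = (LP (LK LD1_c17 LD2_c18 LD3_c29)) :=
  Lgr Lrot34 (Lpe (f74728 IH) (Lpe (K32.f74718 IH) (Lpe (K7.f74721 IH) (Lpe (K7.f150227 IH) (Lpr_cf (K8.f139375 IH) (Lpe (K8.f74942 IH) (Lpe (K6.f74936 IH) (Lpr_ct (K4.f66890 IH) (Lpe (K28.f74945 IH) (Lpr_cf (K28.f163446 IH) (Lpn (LP (LK LD1_c17 LD2_c18 LD3_c29)))))))))))))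
theorem f163454 : Led Lsl_ct (LP (LK LD1_c11 LD2_c41 LD3_c0)) = (LP (LK LD1_c12 LD2_c31 LD3_c27)) :=
  Lgr Lrot83 (Lpr_bf (f163450 IH) (Lpe (K28.f163448 IH) (Lpr_bf (K28.f148549 IH) (Lpe (K36.f148554 IH) (Lpe (f148555 IH) (Lpn (LP (LK LD1_c12 LD2_c31 LD3_c27))))))))
theorem f163457 : Led Lsl_cf (LP (LK LD1_c11 LD2_c41 LD3_c0)) = (LP (LK LD1_c12 LD2_c31 LD3_c27)) :=
  Lgr Lrot11 (Lpr_ct (f163454 IH) (Lpn (LP (LK LD1_c12 LD2_c31 LD3_c27))))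
theorem f163452 : Led Lsl_bt (LP (LK LD1_c11 LD2_c41 LD3_c0)) = (LP (LK LD1_c17 LD2_c18 LD3_c29)) :=
  Lgr Lrot127 (Lpr_bf (f163450 IH) (Lpn (LP (LK LD1_c17 LD2_c18 LD3_c29))))
theorem f71896 : Led Lsl_ff (LP (LK LD1_c11 LD2_c36 LD3_c44)) = (LP (LK LD1_c16 LD2_c25 LD3_c22)) :=
  Lgr Lrot25 (Lpr_bt (K8.f71895 IH) (Lpr_ft (K2.f71887 IH) (Lpr_bt (K2.f36148 IH) (Lpn (LP (LK LD1_c16 LD2_c25 LD3_c22))))))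
theorem f81683 : Led Lsl_ct (LP (LK LD1_c20 LD2_c41 LD3_c1)) = (LP (LK LD1_c16 LD2_c25 LD3_c22)) :=
  Lgr Lrot40 (Lpe (K7.f81642 IH) (Lpr_cf (K2.f81679 IH) (Lpr_ff (f71896 IH) (Lpn (LP (LK LD1_c16 LD2_c25 LD3_c22))))))
theorem f205943 : Led Lsl_bt (LP (LK LD1_c7 LD2_c23 LD3_c30)) = (LP (LK LD1_c13 LD2_c58 LD3_c35)) :=
  Lre_b IH (LK LD1_c7 LD2_c23 LD3_c30) (LK LD1_c13 LD2_c58 LD3_c35) Lrfl Lrfl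
theorem f420121 : Led Lsl_gf (LP (LK LD1_c9 LD2_c25 LD3_c17)) = (LP (LK LD1_c13 LD2_c58 LD3_c35)) :=
  Lgr Lrot85 (Lpr_dt (f419197 IH) (Lpe (f163457 IH) (Lpr_bt (f163452 IH) (Lpr_gt (K32.f149516 IH) (Lpr_dt (K7.f81675 IH) (Lpr_ct (f81683 IH) (Lpr_bt (K2.f36155 IH) (Lpe (K6.f71889 IH) (Lpr_dt (K6.f112875 IH) (Lpr_ct (K4.f26388 IH) (Lpr_bt (K4.f26387 IH) (Lpr_gt (K0.f26380 IH) (Lpr_dt (K6.f99950 IH) (Lpr_ct (K6.f63824 IH) (Lpr_bt (K32.f40669 IH) (Lpr_gt (K6.f16084 IH) (Lpr_dt (K11.f205937 IH) (Lpr_ct (f13388 IH) (Lpr_bt (f205943 IH) (Lpn (LP (LK LD1_c13 LD2_c58 LD3_c35))))))))))))))))))))))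
theorem f150380 : Led Lsl_gt (LP (LK LD1_c2 LD2_c27 LD3_c8)) = (LP (LK LD1_c2 LD2_c55 LD3_c15)) :=
  Lgr Lrot189 (Lpe (K6.f138899 IH) (Lpr_gf (K7.f150224 IH) (Lpr_ct (K7.f74555 IH) (Lpr_gt (K7.f72553 IH) (Lpr_dt (K2.f72552 IH) (Lpr_gt (K2.f72639 IH) (Lpr_dt (K2.f72640 IH) (Lpr_ct (K8.f150374 IH) (Lpe (K8.f72610 IH) (Lpn (LP (LK LD1_c2 LD2_c55 LD3_c15))))))))))))
theorem f161308 : Led Lsl_bt (LP (LK LD1_c3 LD2_c59 LD3_c27)) = (LP (LK LD1_c2 LD2_c27 LD3_c8)) :=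
  Lgr Lrot130 (Lpe (K8.f161262 IH) (Lpr_gf (K8.f161095 IH) (Lpe (K6.f69453 IH) (Lpr_bt (K8.f69454 IH) (Lpr_gf (K8.f161296 IH) (Lpe (K8.f150342 IH) (Lpr_ct (K2.f26539 IH) (Lpe (K6.f72574 IH) (Lpe (K8.f72587 IH) (Lpe (f150380 IH) (Lpn (LP (LK LD1_c2 LD2_c27 LD3_c8)))))))))))))
theorem f150377 : Led Lsl_cf (LP (LK LD1_c2 LD2_c56 LD3_c12)) = (LP (LK LD1_c5 LD2_c57 LD3_c50)) :=
  Lgr Lrot11 (Lpr_ct (K8.f150374 IH) (Lpn (LP (LK LD1_c5 LD2_c57 LD3_c50))))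
theorem f98856 : Led Lsl_ct (LP (LK LD1_c9 LD2_c25 LD3_c3)) = (LP (LK LD1_c4 LD2_c46 LD3_c15)) :=
  Lre_c IH (LK LD1_c9 LD2_c25 LD3_c3) (LK LD1_c4 LD2_c46 LD3_c15) Lrfl Lrfl
theorem f205830 : Led Lsl_dt (LP (LK LD1_c17 LD2_c22 LD3_c20)) = (LP (LK LD1_c9 LD2_c25 LD3_c3)) :=
  Lre_d IH (LK LD1_c17 LD2_c22 LD3_c20) (LK LD1_c9 LD2_c25 LD3_c3) Lrfl Lrfl
theorem f205831 : Led Lsl_gt (LP (LK LD1_c9 LD2_c25 LD3_c17)) = (LP (LK LD1_c17 LD2_c22 LD3_c20)) :=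
  Lgr Lrot190 (Lpe (f78515 IH) (Lpe (f78514 IH) (Lpe (K28.f78691 IH) (Lpe (K8.f78692 IH) (Lpr_bf (K8.f150394 IH) (Lpr_cf (f150377 IH) (Lpe (K8.f72610 IH) (Lpe (f150380 IH) (Lpe (f161308 IH) (Lpr_cf (K8.f160930 IH) (Lpe (K8.f112468 IH) (Lpr_gf (K32.f202601 IH) (Lpr_bf (K32.f138181 IH) (Lpe (K8.f138164 IH) (Lpe (K32.f138173 IH) (Lpr_gf (K11.f205824 IH) (Lpe (K11.f98855 IH) (Lpe (f98856 IH) (Lpe (f205830 IH) (Lpn (LP (LK LD1_c17 LD2_c22 LD3_c20))))))))))))))))))))))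
theorem f499518 : Led Lsl_af (LP (LK LD1_c17 LD2_c22 LD3_c20)) = (LP (LK LD1_c14 LD2_c7 LD3_c59)) :=
  Lgr Lrot31 (Lpe (f205831 IH) (Lpr_gf (f420121 IH) (Lpr_ft (f499516 IH) (Lpn (LP (LK LD1_c14 LD2_c7 LD3_c59))))))
theorem f205869 : Led Lsl_bt (LP (LK LD1_c14 LD2_c7 LD3_c59)) = (LP (LK LD1_c7 LD2_c29 LD3_c12)) :=
  Lre_b IH (LK LD1_c14 LD2_c7 LD3_c59) (LK LD1_c7 LD2_c29 LD3_c12) Lrfl Lrfl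
theorem f205870 : Led Lsl_dt (LP (LK LD1_c12 LD2_c48 LD3_c56)) = (LP (LK LD1_c14 LD2_c7 LD3_c59)) :=
  Lgr Lrot79 (Lpe (K11.f139687 IH) (Lpr_df (f205866 IH) (Lpe (f205869 IH) (Lpn (LP (LK LD1_c14 LD2_c7 LD3_c59))))))
theorem f499524 : Led Lsl_at (LP (LK LD1_c9 LD2_c25 LD3_c3)) = (LP (LK LD1_c12 LD2_c48 LD3_c56)) :=
  Lgr Lrot51 (Lpe (f205830 IH) (Lpr_af (f499518 IH) (Lpe (f205870 IH) (Lpn (LP (LK LD1_c12 LD2_c48 LD3_c56))))))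
theorem f83098 : Led Lsl_ct (LP (LK LD1_c1 LD2_c6 LD3_c45)) = (LP (LK LD1_c2 LD2_c19 LD3_c14)) :=
  Lre_c IH (LK LD1_c1 LD2_c6 LD3_c45) (LK LD1_c2 LD2_c19 LD3_c14) Lrfl Lrfl
theorem f124513 : Led Lsl_gf (LP (LK LD1_c3 LD2_c5 LD3_c48)) = (LP (LK LD1_c2 LD2_c19 LD3_c13)) :=
  Lgr Lrot124 (Lpe (K4.f102252 IH) (Lpr_ct (K4.f12564 IH) (Lpe (K4.f120807 IH) (Lpe (K4.f13598 IH) (Lpr_bt (K4.f120804 IH) (Lpr_gt (K4.f120785 IH) (Lpr_ct (K4.f93665 IH) (Lpr_gt (K5.f124418 IH) (Lpe (f83098 IH) (Lpr_bt (K6.f120765 IH) (Lpn (LP (LK LD1_c2 LD2_c19 LD3_c13)))))))))))))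
theorem f102125 : Led Lsl_bt (LP (LK LD1_c2 LD2_c20 LD3_c45)) = (LP (LK LD1_c4 LD2_c45 LD3_c13)) :=
  Lre_b IH (LK LD1_c2 LD2_c20 LD3_c45) (LK LD1_c4 LD2_c45 LD3_c13) Lrfl Lrfl
theorem f102126 : Led Lsl_gt (LP (LK LD1_c4 LD2_c45 LD3_c13)) = (LP (LK LD1_c9 LD2_c23 LD3_c5)) :=
  Lre_g IH (LK LD1_c4 LD2_c45 LD3_c13) (LK LD1_c9 LD2_c23 LD3_c5) Lrfl Lrfl
theorem f102127 : Led Lsl_ct (LP (LK LD1_c9 LD2_c23 LD3_c5)) = (LP (LK LD1_c17 LD2_c19 LD3_c33)) :=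
  Lre_c IH (LK LD1_c9 LD2_c23 LD3_c5) (LK LD1_c17 LD2_c19 LD3_c33) Lrfl Lrfl
theorem f142112 : Led Lsl_gt (LP (LK LD1_c17 LD2_c19 LD3_c33)) = (LP (LK LD1_c20 LD2_c26 LD3_c2)) :=
  Lgr Lrot149 (Lpe (f102127 IH) (Lpe (f102126 IH) (Lpe (f102125 IH) (Lpr_ct (K4.f102118 IH) (Lpr_gf (f124513 IH) (Lpr_cf (K5.f120769 IH) (Lpr_bt (K6.f102980 IH) (Lpe (K6.f124521 IH) (Lpe (K28.f124522 IH) (Lpr_ct (f141994 IH) (Lpn (LP (LK LD1_c20 LD2_c26 LD3_c2)))))))))))))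
theorem f499534 : Led Lsl_ff (LP (LK LD1_c9 LD2_c25 LD3_c3)) = (LP (LK LD1_c17 LD2_c19 LD3_c33)) :=
  Lgr Lrot52 (Lpr_at (f499524 IH) (Lpr_gf (K11.f142000 IH) (Lpe (f142112 IH) (Lpn (LP (LK LD1_c17 LD2_c19 LD3_c33))))))
theorem f499540 : Led Lsl_ft (LP (LK LD1_c9 LD2_c25 LD3_c3)) = (LP (LK LD1_c17 LD2_c19 LD3_c33)) :=
  Lgr Lrot48 (Lpr_ff (f499534 IH) (Lpn (LP (LK LD1_c17 LD2_c19 LD3_c33))))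
theorem f72668 : Led Lsl_dt (LP (LK LD1_c2 LD2_c56 LD3_c24)) = (LP (LK LD1_c1 LD2_c24 LD3_c3)) :=
  Lre_d IH (LK LD1_c2 LD2_c56 LD3_c24) (LK LD1_c1 LD2_c24 LD3_c3) Lrfl Lrfl
theorem f161291 : Led Lsl_gf (LP (LK LD1_c2 LD2_c56 LD3_c24)) = (LP (LK LD1_c5 LD2_c59 LD3_c51)) :=
  Lgr Lrot144 (Lpr_dt (f72668 IH) (Lpr_gt (K8.f72649 IH) (Lpr_dt (K28.f137229 IH) (Lpr_cf (K8.f150357 IH) (Lpe (K8.f26556 IH) (Lpe (K8.f150255 IH) (Lpr_df (K4.f104994 IH) (Lpe (K4.f104986 IH) (Lpr_cf (K8.f161285 IH) (Lpn (LP (LK LD1_c5 LD2_c59 LD3_c51))))))))))))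
theorem f72578 : Led Lsl_gt (LP (LK LD1_c5 LD2_c58 LD3_c22)) = (LP (LK LD1_c2 LD2_c55 LD3_c55)) :=
  Lre_g IH (LK LD1_c5 LD2_c58 LD3_c22) (LK LD1_c2 LD2_c55 LD3_c55) Lrfl Lrfl
theorem f72646 : Led Lsl_gt (LP (LK LD1_c2 LD2_c56 LD3_c11)) = (LP (LK LD1_c1 LD2_c24 LD3_c3)) :=
  Lgr Lrot9 (Lpe (K8.f26528 IH) (Lpr_gt (f72578 IH) (Lpr_ct (K2.f72567 IH) (Lpr_gt (K2.f40686 IH) (Lpr_ct (K8.f14035 IH) (Lpe (K4.f72644 IH) (Lpe (K4.f56781 IH) (Lpe (K6.f56766 IH) (Lpe (K8.f72645 IH) (Lpn (LP (LK LD1_c1 LD2_c24 LD3_c3))))))))))))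
theorem f72652 : Led Lsl_dt (LP (LK LD1_c2 LD2_c27 LD3_c41)) = (LP (LK LD1_c1 LD2_c10 LD3_c60)) :=
  Lre_d IH (LK LD1_c2 LD2_c27 LD3_c41) (LK LD1_c1 LD2_c10 LD3_c60) Lrfl Lrfl
theorem f72650 : Led Lsl_dt (LP (LK LD1_c1 LD2_c24 LD3_c3)) = (LP (LK LD1_c2 LD2_c56 LD3_c24)) :=
  Lre_d IH (LK LD1_c1 LD2_c24 LD3_c3) (LK LD1_c2 LD2_c56 LD3_c24) Lrfl Lrfl
theorem f72656 : Led Lsl_cf (LP (LK LD1_c4 LD2_c59 LD3_c40)) = (LP (LK LD1_c2 LD2_c56 LD3_c24)) :=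
  Lgr Lrot14 (Lpe (K4.f72653 IH) (Lpe (K4.f58947 IH) (Lpe (f72652 IH) (Lpe (K4.f72651 IH) (Lpr_ct (K2.f56977 IH) (Lpr_gt (K7.f26529 IH) (Lpr_dt (K8.f26528 IH) (Lpr_gt (f72646 IH) (Lpr_dt (f72650 IH) (Lpn (LP (LK LD1_c2 LD2_c56 LD3_c24))))))))))))
theorem f58734 : Led Lsl_bt (LP (LK LD1_c3 LD2_c0 LD3_c38)) = (LP (LK LD1_c3 LD2_c5 LD3_c56)) :=
  Lgr Lrot35 (Lpe (K2.f58733 IH) (Lpe (K2.f58240 IH) (Lpr_ff (K1.f58730 IH) (Lpn (LP (LK LD1_c3 LD2_c5 LD3_c56))))))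
theorem f101920 : Led Lsl_bt (LP (LK LD1_c9 LD2_c23 LD3_c8)) = (LP (LK LD1_c4 LD2_c45 LD3_c14)) :=
  Lre_b IH (LK LD1_c9 LD2_c23 LD3_c8) (LK LD1_c4 LD2_c45 LD3_c14) Lrfl Lrfl
theorem f101922 : Led Lsl_ct (LP (LK LD1_c9 LD2_c23 LD3_c8)) = (LP (LK LD1_c17 LD2_c19 LD3_c35)) :=
  Lre_c IH (LK LD1_c9 LD2_c23 LD3_c8) (LK LD1_c17 LD2_c19 LD3_c35) Lrfl Lrfl
theorem f112428 : Led Lsl_bt (LP (LK LD1_c11 LD2_c44 LD3_c11)) = (LP (LK LD1_c5 LD2_c59 LD3_c51)) :=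
  Lre_b IH (LK LD1_c11 LD2_c44 LD3_c11) (LK LD1_c5 LD2_c59 LD3_c51) Lrfl Lrfl
theorem f112429 : Led Lsl_ct (LP (LK LD1_c11 LD2_c44 LD3_c11)) = (LP (LK LD1_c20 LD2_c45 LD3_c27)) :=
  Lre_c IH (LK LD1_c11 LD2_c44 LD3_c11) (LK LD1_c20 LD2_c45 LD3_c27) Lrfl Lrfl
theorem f425903 : Led Lsl_gt (LP (LK LD1_c17 LD2_c19 LD3_c35)) = (LP (LK LD1_c20 LD2_c45 LD3_c27)) :=
  Lgr Lrot65 (Lpe (f101922 IH) (Lpr_bt (f101920 IH) (Lpr_gf (K3.f101914 IH) (Lpe (f58734 IH) (Lpr_ct (K2.f72878 IH) (Lpe (K4.f75389 IH) (Lpr_cf (f72656 IH) (Lpr_gf (f161291 IH) (Lpe (f112428 IH) (Lpr_ct (f112429 IH) (Lpn (LP (LK LD1_c20 LD2_c45 LD3_c27)))))))))))))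
theorem f105477 : Led Lsl_ct (LP (LK LD1_c14 LD2_c11 LD3_c60)) = (LP (LK LD1_c7 LD2_c31 LD3_c39)) :=
  Lre_c IH (LK LD1_c14 LD2_c11 LD3_c60) (LK LD1_c7 LD2_c31 LD3_c39) Lrfl Lrfl
theorem f162578 : Led Lsl_bt (LP (LK LD1_c6 LD2_c31 LD3_c10)) = (LP (LK LD1_c12 LD2_c30 LD3_c54)) :=
  Lre_b IH (LK LD1_c6 LD2_c31 LD3_c10) (LK LD1_c12 LD2_c30 LD3_c54) Lrfl Lrfl
theorem f158844 : Led Lsl_bt (LP (LK LD1_c7 LD2_c27 LD3_c19)) = (LP (LK LD1_c14 LD2_c4 LD3_c54)) :=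
  Lre_b IH (LK LD1_c7 LD2_c27 LD3_c19) (LK LD1_c14 LD2_c4 LD3_c54) Lrfl Lrfl
theorem f424793 : Led Lsl_gt (LP (LK LD1_c12 LD2_c30 LD3_c54)) = (LP (LK LD1_c14 LD2_c4 LD3_c54)) :=
  Lgr Lrot164 (Lpe (f162578 IH) (Lpr_ct (K8.f162579 IH) (Lpe (K24.f162372 IH) (Lpe (K8.f15861 IH) (Lpe (K11.f156482 IH) (Lpe (K36.f162686 IH) (Lpr_ct (f105477 IH) (Lpr_gf (K36.f424791 IH) (Lpe (K28.f158845 IH) (Lpr_bt (f158844 IH) (Lpn (LP (LK LD1_c14 LD2_c4 LD3_c54)))))))))))))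
theorem f98698 : Led Lsl_bf (LP (LK LD1_c0 LD2_c20 LD3_c47)) = (LP (LK LD1_c0 LD2_c19 LD3_c39)) :=
  Lgr Lrot93 (Lpr_dt (K3.f98694 IH) (Lpe (K2.f65847 IH) (Lpr_dt (K3.f62961 IH) (Lpn (LP (LK LD1_c0 LD2_c19 LD3_c39))))))
theorem f101921 : Led Lsl_ct (LP (LK LD1_c17 LD2_c19 LD3_c35)) = (LP (LK LD1_c9 LD2_c23 LD3_c8)) :=
  Lre_c IH (LK LD1_c17 LD2_c19 LD3_c35) (LK LD1_c9 LD2_c23 LD3_c8) Lrfl Lrfl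
theorem f424797 : Led Lsl_df (LP (LK LD1_c17 LD2_c19 LD3_c35)) = (LP (LK LD1_c14 LD2_c4 LD3_c54)) :=
  Lgr Lrot183 (Lpr_ct (f101921 IH) (Lpr_bt (f101920 IH) (Lpr_gt (K3.f99153 IH) (Lpr_dt (K1.f13680 IH) (Lpr_ct (K1.f13679 IH) (Lpr_bt (K4.f58396 IH) (Lpr_gt (K1.f62849 IH) (Lpr_dt (K1.f62859 IH) (Lpr_ct (K2.f62963 IH) (Lpe (f98698 IH) (Lpr_gt (K3.f98705 IH) (Lpr_dt (K0.f9772 IH) (Lpr_ct (K0.f14638 IH) (Lpr_bt (K3.f14642 IH) (Lpe (K3.f17110 IH) (Lpr_dt (K8.f15658 IH) (Lpe (K28.f162587 IH) (Lpr_bt (f162578 IH) (Lpr_gt (f424793 IH) (Lpn (LP (LK LD1_c14 LD2_c4 LD3_c54))))))))))))))))))))))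
theorem f162603 : Led Lsl_bt (LP (LK LD1_c14 LD2_c3 LD3_c54)) = (LP (LK LD1_c7 LD2_c26 LD3_c27)) :=
  Lre_b IH (LK LD1_c14 LD2_c3 LD3_c54) (LK LD1_c7 LD2_c26 LD3_c27) Lrfl Lrfl
theorem f162604 : Led Lsl_ft (LP (LK LD1_c12 LD2_c30 LD3_c54)) = (LP (LK LD1_c14 LD2_c3 LD3_c54)) :=
  Lgr Lrot75 (Lpe (f162578 IH) (Lpr_ff (K8.f162590 IH) (Lpe (f162603 IH) (Lpn (LP (LK LD1_c14 LD2_c3 LD3_c54))))))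
theorem f72539 : Led Lsl_dt (LP (LK LD1_c2 LD2_c55 LD3_c55)) = (LP (LK LD1_c1 LD2_c23 LD3_c54)) :=
  Lre_d IH (LK LD1_c2 LD2_c55 LD3_c55) (LK LD1_c1 LD2_c23 LD3_c54) Lrfl Lrfl
theorem f72606 : Led Lsl_bt (LP (LK LD1_c11 LD2_c41 LD3_c21)) = (LP (LK LD1_c5 LD2_c58 LD3_c22)) :=
  Lre_b IH (LK LD1_c11 LD2_c41 LD3_c21) (LK LD1_c5 LD2_c58 LD3_c22) Lrfl Lrfl
theorem f72607 : Led Lsl_ct (LP (LK LD1_c20 LD2_c41 LD3_c11)) = (LP (LK LD1_c11 LD2_c41 LD3_c21)) :=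
  Lre_c IH (LK LD1_c20 LD2_c41 LD3_c11) (LK LD1_c11 LD2_c41 LD3_c21) Lrfl Lrfl
theorem f150147 : Led Lsl_af (LP (LK LD1_c9 LD2_c26 LD3_c24)) = (LP (LK LD1_c17 LD2_c2 LD3_c33)) :=
  Lgr Lrot68 (Lpr_ct (K11.f99064 IH) (Lpr_at (K7.f110577 IH) (Lpr_ct (K7.f150145 IH) (Lpn (LP (LK LD1_c17 LD2_c2 LD3_c33))))))
theorem f205846 : Led Lsl_df (LP (LK LD1_c17 LD2_c2 LD3_c33)) = (LP (LK LD1_c17 LD2_c22 LD3_c18)) :=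
  Lgr Lrot18 (Lpe (f150147 IH) (Lpr_dt (K11.f150806 IH) (Lpr_at (K11.f205836 IH) (Lpn (LP (LK LD1_c17 LD2_c22 LD3_c18))))))
theorem f150149 : Led Lsl_cf (LP (LK LD1_c9 LD2_c26 LD3_c23)) = (LP (LK LD1_c17 LD2_c2 LD3_c33)) :=
  Lgr Lrot11 (Lpr_ct (K7.f150145 IH) (Lpn (LP (LK LD1_c17 LD2_c2 LD3_c33))))
theorem f110575 : Led Lsl_af (LP (LK LD1_c2 LD2_c21 LD3_c19)) = (LP (LK LD1_c4 LD2_c40 LD3_c33)) :=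
  Lgr Lrot31 (Lpe (K3.f78058 IH) (Lpe (K3.f13768 IH) (Lpr_ft (K7.f110516 IH) (Lpn (LP (LK LD1_c4 LD2_c40 LD3_c33))))))
theorem f110580 : Led Lsl_at (LP (LK LD1_c4 LD2_c46 LD3_c51)) = (LP (LK LD1_c9 LD2_c16 LD3_c29)) :=
  Lgr Lrot80 (Lpe (K7.f98917 IH) (Lpr_af (f110575 IH) (Lpe (K6.f102026 IH) (Lpn (LP (LK LD1_c9 LD2_c16 LD3_c29))))))
theorem f110570 : Led Lsl_ft (LP (LK LD1_c9 LD2_c16 LD3_c29)) = (LP (LK LD1_c17 LD2_c11 LD3_c8)) :=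
  Lre_f IH (LK LD1_c9 LD2_c16 LD3_c29) (LK LD1_c17 LD2_c11 LD3_c8) Lrfl Lrfl
theorem f110589 : Led Lsl_af (LP (LK LD1_c9 LD2_c26 LD3_c29)) = (LP (LK LD1_c17 LD2_c11 LD3_c8)) :=
  Lgr Lrot45 (Lpr_ft (K7.f99026 IH) (Lpr_at (f110580 IH) (Lpr_ft (f110570 IH) (Lpn (LP (LK LD1_c17 LD2_c11 LD3_c8))))))
theorem f99040 : Led Lsl_dt (LP (LK LD1_c9 LD2_c26 LD3_c29)) = (LP (LK LD1_c17 LD2_c24 LD3_c31)) :=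
  Lre_d IH (LK LD1_c9 LD2_c26 LD3_c29) (LK LD1_c17 LD2_c24 LD3_c31) Lrfl Lrfl
theorem f110601 : Led Lsl_dt (LP (LK LD1_c27 LD2_c2 LD3_c25)) = (LP (LK LD1_c17 LD2_c11 LD3_c8)) :=
  Lre_d IH (LK LD1_c27 LD2_c2 LD3_c25) (LK LD1_c17 LD2_c11 LD3_c8) Lrfl Lrfl
theorem f110602 : Led Lsl_at (LP (LK LD1_c17 LD2_c24 LD3_c31)) = (LP (LK LD1_c27 LD2_c2 LD3_c25)) :=
  Lgr Lrot51 (Lpe (f99040 IH) (Lpr_af (f110589 IH) (Lpe (f110601 IH) (Lpn (LP (LK LD1_c27 LD2_c2 LD3_c25))))))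
theorem f110605 : Led Lsl_af (LP (LK LD1_c17 LD2_c24 LD3_c31)) = (LP (LK LD1_c27 LD2_c2 LD3_c25)) :=
  Lgr Lrot0 (Lpr_at (f110602 IH) (Lpn (LP (LK LD1_c27 LD2_c2 LD3_c25))))
theorem f99046 : Led Lsl_ft (LP (LK LD1_c17 LD2_c24 LD3_c31)) = (LP (LK LD1_c9 LD2_c26 LD3_c28)) :=
  Lre_f IH (LK LD1_c17 LD2_c24 LD3_c31) (LK LD1_c9 LD2_c26 LD3_c28) Lrfl Lrfl
theorem f110615 : Led Lsl_ft (LP (LK LD1_c17 LD2_c11 LD3_c7)) = (LP (LK LD1_c27 LD2_c2 LD3_c25)) :=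
  Lre_f IH (LK LD1_c17 LD2_c11 LD3_c7) (LK LD1_c27 LD2_c2 LD3_c25) Lrfl Lrfl
theorem f110616 : Led Lsl_at (LP (LK LD1_c9 LD2_c26 LD3_c28)) = (LP (LK LD1_c17 LD2_c11 LD3_c7)) :=
  Lgr Lrot66 (Lpe (f99046 IH) (Lpr_af (f110605 IH) (Lpe (f110615 IH) (Lpn (LP (LK LD1_c17 LD2_c11 LD3_c7))))))
theorem f98900 : Led Lsl_et (LP (LK LD1_c2 LD2_c20 LD3_c26)) = (LP (LK LD1_c4 LD2_c44 LD3_c39)) :=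
  Lre_e IH (LK LD1_c2 LD2_c20 LD3_c26) (LK LD1_c4 LD2_c44 LD3_c39) Lrfl Lrfl
theorem f98901 : Led Lsl_dt (LP (LK LD1_c4 LD2_c44 LD3_c39)) = (LP (LK LD1_c9 LD2_c22 LD3_c2)) :=
  Lre_d IH (LK LD1_c4 LD2_c44 LD3_c39) (LK LD1_c9 LD2_c22 LD3_c2) Lrfl Lrfl
theorem f98902 : Led Lsl_et (LP (LK LD1_c4 LD2_c46 LD3_c51)) = (LP (LK LD1_c2 LD2_c21 LD3_c19)) :=
  Lre_e IH (LK LD1_c4 LD2_c46 LD3_c51) (LK LD1_c2 LD2_c21 LD3_c19) Lrfl Lrfl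
theorem f98903 : Led Lsl_dt (LP (LK LD1_c9 LD2_c26 LD3_c28)) = (LP (LK LD1_c4 LD2_c46 LD3_c51)) :=
  Lre_d IH (LK LD1_c9 LD2_c26 LD3_c28) (LK LD1_c4 LD2_c46 LD3_c51) Lrfl Lrfl
theorem f98904 : Led Lsl_et (LP (LK LD1_c9 LD2_c22 LD3_c2)) = (LP (LK LD1_c9 LD2_c26 LD3_c28)) :=
  Lgr Lrot71 (Lpe (f98901 IH) (Lpe (f98900 IH) (Lpr_df (K3.f98883 IH) (Lpe (f98902 IH) (Lpe (f98903 IH) (Lpn (LP (LK LD1_c9 LD2_c26 LD3_c28))))))))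
theorem f110625 : Led Lsl_et (LP (LK LD1_c17 LD2_c11 LD3_c7)) = (LP (LK LD1_c9 LD2_c16 LD3_c30)) :=
  Lre_e IH (LK LD1_c17 LD2_c11 LD3_c7) (LK LD1_c9 LD2_c16 LD3_c30) Lrfl Lrfl
theorem f110626 : Led Lsl_af (LP (LK LD1_c9 LD2_c22 LD3_c2)) = (LP (LK LD1_c9 LD2_c16 LD3_c30)) :=
  Lgr Lrot50 (Lpr_et (f98904 IH) (Lpr_at (f110616 IH) (Lpr_et (f110625 IH) (Lpn (LP (LK LD1_c9 LD2_c16 LD3_c30))))))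
theorem f102325 : Led Lsl_ct (LP (LK LD1_c9 LD2_c22 LD3_c2)) = (LP (LK LD1_c17 LD2_c18 LD3_c17)) :=
  Lre_c IH (LK LD1_c9 LD2_c22 LD3_c2) (LK LD1_c17 LD2_c18 LD3_c17) Lrfl Lrfl
theorem f110637 : Led Lsl_ct (LP (LK LD1_c17 LD2_c11 LD3_c10)) = (LP (LK LD1_c9 LD2_c16 LD3_c30)) :=
  Lre_c IH (LK LD1_c17 LD2_c11 LD3_c10) (LK LD1_c9 LD2_c16 LD3_c30) Lrfl Lrfl
theorem f110638 : Led Lsl_at (LP (LK LD1_c17 LD2_c18 LD3_c17)) = (LP (LK LD1_c17 LD2_c11 LD3_c10)) :=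
  Lgr Lrot107 (Lpe (f102325 IH) (Lpr_af (f110626 IH) (Lpe (f110637 IH) (Lpn (LP (LK LD1_c17 LD2_c11 LD3_c10))))))
theorem f110674 : Led Lsl_et (LP (LK LD1_c17 LD2_c11 LD3_c10)) = (LP (LK LD1_c27 LD2_c2 LD3_c24)) :=
  Lre_e IH (LK LD1_c17 LD2_c11 LD3_c10) (LK LD1_c27 LD2_c2 LD3_c24) Lrfl Lrfl
theorem f99024 : Led Lsl_ct (LP (LK LD1_c17 LD2_c24 LD3_c30)) = (LP (LK LD1_c9 LD2_c26 LD3_c28)) :=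
  Lre_c IH (LK LD1_c17 LD2_c24 LD3_c30) (LK LD1_c9 LD2_c26 LD3_c28) Lrfl Lrfl
theorem f110604 : Led Lsl_ct (LP (LK LD1_c17 LD2_c11 LD3_c7)) = (LP (LK LD1_c27 LD2_c2 LD3_c24)) :=
  Lre_c IH (LK LD1_c17 LD2_c11 LD3_c7) (LK LD1_c27 LD2_c2 LD3_c24) Lrfl Lrfl
theorem f110623 : Led Lsl_af (LP (LK LD1_c17 LD2_c24 LD3_c30)) = (LP (LK LD1_c27 LD2_c2 LD3_c24)) :=
  Lgr Lrot68 (Lpr_ct (f99024 IH) (Lpr_at (f110616 IH) (Lpr_ct (f110604 IH) (Lpn (LP (LK LD1_c27 LD2_c2 LD3_c24))))))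
theorem f110675 : Led Lsl_ef (LP (LK LD1_c17 LD2_c18 LD3_c17)) = (LP (LK LD1_c17 LD2_c24 LD3_c30)) :=
  Lgr Lrot20 (Lpr_at (f110638 IH) (Lpr_et (f110674 IH) (Lpe (f110623 IH) (Lpn (LP (LK LD1_c17 LD2_c24 LD3_c30))))))
theorem f110682 : Led Lsl_et (LP (LK LD1_c17 LD2_c18 LD3_c17)) = (LP (LK LD1_c17 LD2_c24 LD3_c30)) :=
  Lgr Lrot87 (Lpr_ef (f110675 IH) (Lpn (LP (LK LD1_c17 LD2_c24 LD3_c30))))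
theorem f110690 : Led Lsl_ef (LP (LK LD1_c9 LD2_c22 LD3_c2)) = (LP (LK LD1_c9 LD2_c26 LD3_c28)) :=
  Lgr Lrot28 (Lpr_ct (f102325 IH) (Lpr_et (f110682 IH) (Lpr_ct (f99024 IH) (Lpn (LP (LK LD1_c9 LD2_c26 LD3_c28))))))
theorem f110634 : Led Lsl_bt (LP (LK LD1_c9 LD2_c22 LD3_c2)) = (LP (LK LD1_c17 LD2_c18 LD3_c16)) :=
  Lre_b IH (LK LD1_c9 LD2_c22 LD3_c2) (LK LD1_c17 LD2_c18 LD3_c16) Lrfl Lrfl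
theorem f110621 : Led Lsl_bt (LP (LK LD1_c17 LD2_c24 LD3_c22)) = (LP (LK LD1_c9 LD2_c26 LD3_c28)) :=
  Lre_b IH (LK LD1_c17 LD2_c24 LD3_c22) (LK LD1_c9 LD2_c26 LD3_c28) Lrfl Lrfl
theorem f110695 : Led Lsl_et (LP (LK LD1_c17 LD2_c18 LD3_c16)) = (LP (LK LD1_c17 LD2_c24 LD3_c22)) :=
  Lgr Lrot74 (Lpe (f110634 IH) (Lpr_ef (f110690 IH) (Lpe (f110621 IH) (Lpn (LP (LK LD1_c17 LD2_c24 LD3_c22))))))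
theorem f110709 : Led Lsl_ef (LP (LK LD1_c17 LD2_c18 LD3_c16)) = (LP (LK LD1_c17 LD2_c24 LD3_c22)) :=
  Lgr Lrot88 (Lpr_et (f110695 IH) (Lpn (LP (LK LD1_c17 LD2_c24 LD3_c22))))
theorem f110635 : Led Lsl_at (LP (LK LD1_c17 LD2_c18 LD3_c16)) = (LP (LK LD1_c27 LD2_c7 LD3_c59)) :=
  Lre_a IH (LK LD1_c17 LD2_c18 LD3_c16) (LK LD1_c27 LD2_c7 LD3_c59) Lrfl Lrfl
theorem f110622 : Led Lsl_at (LP (LK LD1_c27 LD2_c13 LD3_c25)) = (LP (LK LD1_c17 LD2_c24 LD3_c22)) :=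
  Lre_a IH (LK LD1_c27 LD2_c13 LD3_c25) (LK LD1_c17 LD2_c24 LD3_c22) Lrfl Lrfl
theorem f110717 : Led Lsl_et (LP (LK LD1_c27 LD2_c7 LD3_c59)) = (LP (LK LD1_c27 LD2_c13 LD3_c25)) :=
  Lgr Lrot123 (Lpe (f110635 IH) (Lpr_ef (f110709 IH) (Lpe (f110622 IH) (Lpn (LP (LK LD1_c27 LD2_c13 LD3_c25))))))
theorem f110652 : Led Lsl_dt (LP (LK LD1_c17 LD2_c18 LD3_c13)) = (LP (LK LD1_c27 LD2_c7 LD3_c59)) :=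
  Lre_d IH (LK LD1_c17 LD2_c18 LD3_c13) (LK LD1_c27 LD2_c7 LD3_c59) Lrfl Lrfl
theorem f110663 : Led Lsl_et (LP (LK LD1_c9 LD2_c22 LD3_c0)) = (LP (LK LD1_c17 LD2_c18 LD3_c13)) :=
  Lre_e IH (LK LD1_c9 LD2_c22 LD3_c0) (LK LD1_c17 LD2_c18 LD3_c13) Lrfl Lrfl
theorem f110729 : Led Lsl_dt (LP (LK LD1_c27 LD2_c13 LD3_c25)) = (LP (LK LD1_c17 LD2_c24 LD3_c18)) :=
  Lre_d IH (LK LD1_c27 LD2_c13 LD3_c25) (LK LD1_c17 LD2_c24 LD3_c18) Lrfl Lrfl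
theorem f110730 : Led Lsl_et (LP (LK LD1_c17 LD2_c24 LD3_c18)) = (LP (LK LD1_c9 LD2_c26 LD3_c23)) :=
  Lre_e IH (LK LD1_c17 LD2_c24 LD3_c18) (LK LD1_c9 LD2_c26 LD3_c23) Lrfl Lrfl
theorem f110731 : Led Lsl_df (LP (LK LD1_c9 LD2_c22 LD3_c0)) = (LP (LK LD1_c9 LD2_c26 LD3_c23)) :=
  Lgr Lrot70 (Lpr_et (f110663 IH) (Lpr_dt (f110652 IH) (Lpr_et (f110717 IH) (Lpr_dt (f110729 IH) (Lpr_et (f110730 IH) (Lpn (LP (LK LD1_c9 LD2_c26 LD3_c23))))))))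
theorem f110733 : Led Lsl_dt (LP (LK LD1_c9 LD2_c22 LD3_c0)) = (LP (LK LD1_c9 LD2_c26 LD3_c23)) :=
  Lgr Lrot42 (Lpr_df (f110731 IH) (Lpn (LP (LK LD1_c9 LD2_c26 LD3_c23))))
theorem f110854 : Led Lsl_dt (LP (LK LD1_c4 LD2_c40 LD3_c30)) = (LP (LK LD1_c9 LD2_c16 LD3_c24)) :=
  Lre_d IH (LK LD1_c4 LD2_c40 LD3_c30) (LK LD1_c9 LD2_c16 LD3_c24) Lrfl Lrfl
theorem f110704 : Led Lsl_dt (LP (LK LD1_c9 LD2_c22 LD3_c1)) = (LP (LK LD1_c17 LD2_c18 LD3_c16)) :=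
  Lre_d IH (LK LD1_c9 LD2_c22 LD3_c1) (LK LD1_c17 LD2_c18 LD3_c16) Lrfl Lrfl
theorem f110705 : Led Lsl_et (LP (LK LD1_c4 LD2_c44 LD3_c38)) = (LP (LK LD1_c9 LD2_c22 LD3_c1)) :=
  Lre_e IH (LK LD1_c4 LD2_c44 LD3_c38) (LK LD1_c9 LD2_c22 LD3_c1) Lrfl Lrfl
theorem f99061 : Led Lsl_dt (LP (LK LD1_c17 LD2_c24 LD3_c22)) = (LP (LK LD1_c9 LD2_c26 LD3_c25)) :=
  Lre_d IH (LK LD1_c17 LD2_c24 LD3_c22) (LK LD1_c9 LD2_c26 LD3_c25) Lrfl Lrfl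
theorem f110706 : Led Lsl_et (LP (LK LD1_c9 LD2_c26 LD3_c25)) = (LP (LK LD1_c4 LD2_c46 LD3_c50)) :=
  Lre_e IH (LK LD1_c9 LD2_c26 LD3_c25) (LK LD1_c4 LD2_c46 LD3_c50) Lrfl Lrfl
theorem f110707 : Led Lsl_df (LP (LK LD1_c4 LD2_c44 LD3_c38)) = (LP (LK LD1_c4 LD2_c46 LD3_c50)) :=
  Lgr Lrot70 (Lpr_et (f110705 IH) (Lpr_dt (f110704 IH) (Lpr_et (f110695 IH) (Lpr_dt (f99061 IH) (Lpr_et (f110706 IH) (Lpn (LP (LK LD1_c4 LD2_c46 LD3_c50))))))))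
theorem f110855 : Led Lsl_ff (LP (LK LD1_c4 LD2_c40 LD3_c30)) = (LP (LK LD1_c4 LD2_c44 LD3_c38)) :=
  Lgr Lrot19 (Lpr_dt (f110854 IH) (Lpr_ft (K7.f110848 IH) (Lpe (f110707 IH) (Lpn (LP (LK LD1_c4 LD2_c44 LD3_c38))))))
theorem f110863 : Led Lsl_ft (LP (LK LD1_c4 LD2_c40 LD3_c30)) = (LP (LK LD1_c4 LD2_c44 LD3_c38)) :=
  Lgr Lrot48 (Lpr_ff (f110855 IH) (Lpn (LP (LK LD1_c4 LD2_c44 LD3_c38))))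
theorem f110508 : Led Lsl_gt (LP (LK LD1_c4 LD2_c40 LD3_c30)) = (LP (LK LD1_c9 LD2_c16 LD3_c21)) :=
  Lre_g IH (LK LD1_c4 LD2_c40 LD3_c30) (LK LD1_c9 LD2_c16 LD3_c21) Lrfl Lrfl
theorem f110657 : Led Lsl_at (LP (LK LD1_c4 LD2_c44 LD3_c38)) = (LP (LK LD1_c9 LD2_c22 LD3_c0)) :=
  Lre_a IH (LK LD1_c4 LD2_c44 LD3_c38) (LK LD1_c9 LD2_c22 LD3_c0) Lrfl Lrfl
theorem f110871 : Led Lsl_gt (LP (LK LD1_c9 LD2_c16 LD3_c21)) = (LP (LK LD1_c9 LD2_c22 LD3_c0)) :=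
  Lgr Lrot46 (Lpe (f110508 IH) (Lpr_ft (f110863 IH) (Lpr_at (f110657 IH) (Lpn (LP (LK LD1_c9 LD2_c22 LD3_c0))))))
theorem f78527 : Led Lsl_gt (LP (LK LD1_c4 LD2_c46 LD3_c19)) = (LP (LK LD1_c9 LD2_c25 LD3_c16)) :=
  Lre_g IH (LK LD1_c4 LD2_c46 LD3_c19) (LK LD1_c9 LD2_c25 LD3_c16) Lrfl Lrfl
theorem f206655 : Led Lsl_df (LP (LK LD1_c9 LD2_c16 LD3_c21)) = (LP (LK LD1_c9 LD2_c25 LD3_c16)) :=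
  Lgr Lrot153 (Lpr_gt (f110871 IH) (Lpr_dt (f110733 IH) (Lpr_cf (f150149 IH) (Lpr_df (f205846 IH) (Lpe (K11.f78062 IH) (Lpe (f205830 IH) (Lpe (f205831 IH) (Lpe (K36.f78508 IH) (Lpr_gt (f78527 IH) (Lpn (LP (LK LD1_c9 LD2_c25 LD3_c16))))))))))))
theorem f110509 : Led Lsl_ct (LP (LK LD1_c9 LD2_c16 LD3_c21)) = (LP (LK LD1_c17 LD2_c10 LD3_c57)) :=
  Lre_c IH (LK LD1_c9 LD2_c16 LD3_c21) (LK LD1_c17 LD2_c10 LD3_c57) Lrfl Lrfl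
theorem f72632 : Led Lsl_ct (LP (LK LD1_c11 LD2_c41 LD3_c21)) = (LP (LK LD1_c20 LD2_c41 LD3_c11)) :=
  Lre_c IH (LK LD1_c11 LD2_c41 LD3_c21) (LK LD1_c20 LD2_c41 LD3_c11) Lrfl Lrfl
theorem f110918 : Led Lsl_gt (LP (LK LD1_c17 LD2_c10 LD3_c61)) = (LP (LK LD1_c20 LD2_c41 LD3_c11)) :=
  Lgr Lrot65 (Lpe (K7.f110794 IH) (Lpr_bt (K7.f110774 IH) (Lpr_gf (K4.f110787 IH) (Lpe (K36.f14036 IH) (Lpr_ct (K2.f13725 IH) (Lpe (K2.f40686 IH) (Lpe (K2.f72567 IH) (Lpe (f72578 IH) (Lpe (f72606 IH) (Lpr_ct (f72632 IH) (Lpn (LP (LK LD1_c20 LD2_c41 LD3_c11)))))))))))))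
theorem f206663 : Led Lsl_df (LP (LK LD1_c17 LD2_c10 LD3_c57)) = (LP (LK LD1_c20 LD2_c41 LD3_c11)) :=
  Lgr Lrot84 (Lpe (f110509 IH) (Lpr_df (f206655 IH) (Lpe (f78527 IH) (Lpe (K36.f78572 IH) (Lpe (K7.f78067 IH) (Lpe (K7.f118990 IH) (Lpr_gt (K7.f156854 IH) (Lpr_dt (K7.f150729 IH) (Lpr_gt (f110918 IH) (Lpn (LP (LK LD1_c20 LD2_c41 LD3_c11))))))))))))
theorem f206666 : Led Lsl_dt (LP (LK LD1_c17 LD2_c10 LD3_c57)) = (LP (LK LD1_c20 LD2_c41 LD3_c11)) :=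
  Lgr Lrot42 (Lpr_df (f206663 IH) (Lpn (LP (LK LD1_c20 LD2_c41 LD3_c11))))
theorem f419172 : Led Lsl_gf (LP (LK LD1_c17 LD2_c10 LD3_c57)) = (LP (LK LD1_c14 LD2_c4 LD3_c54)) :=
  Lgr Lrot85 (Lpr_dt (f206666 IH) (Lpr_ct (f72607 IH) (Lpr_bt (f72606 IH) (Lpr_gt (f72578 IH) (Lpr_dt (f72539 IH) (Lpr_ct (K7.f72538 IH) (Lpr_bt (K8.f74730 IH) (Lpe (K8.f157603 IH) (Lpr_dt (K5.f117851 IH) (Lpr_ct (K5.f66378 IH) (Lpr_bt (K32.f117820 IH) (Lpr_gt (K8.f160877 IH) (Lpe (K8.f157807 IH) (Lpr_ct (K8.f36253 IH) (Lpr_bt (K36.f204149 IH) (Lpr_gt (K36.f203487 IH) (Lpr_dt (K28.f419165 IH) (Lpe (K28.f158842 IH) (Lpr_bt (f158844 IH) (Lpn (LP (LK LD1_c14 LD2_c4 LD3_c54))))))))))))))))))))))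
theorem f424795 : Led Lsl_at (LP (LK LD1_c14 LD2_c3 LD3_c54)) = (LP (LK LD1_c17 LD2_c10 LD3_c57)) :=
  Lgr Lrot26 (Lpe (f162604 IH) (Lpr_gt (f424793 IH) (Lpe (f419172 IH) (Lpn (LP (LK LD1_c17 LD2_c10 LD3_c57))))))
theorem f148568 : Led Lsl_bt (LP (LK LD1_c6 LD2_c31 LD3_c46)) = (LP (LK LD1_c12 LD2_c31 LD3_c27)) :=
  Lre_b IH (LK LD1_c6 LD2_c31 LD3_c46) (LK LD1_c12 LD2_c31 LD3_c27) Lrfl Lrfl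
theorem f420104 : Led Lsl_df (LP (LK LD1_c9 LD2_c25 LD3_c17)) = (LP (LK LD1_c12 LD2_c31 LD3_c27)) :=
  Lgr Lrot12 (Lpe (K36.f78565 IH) (Lpr_dt (K32.f419199 IH) (Lpr_bt (f148568 IH) (Lpn (LP (LK LD1_c12 LD2_c31 LD3_c27))))))
theorem f109216 : Led Lsl_cf (LP (LK LD1_c0 LD2_c20 LD3_c44)) = (LP (LK LD1_c0 LD2_c19 LD3_c33)) :=
  Lgr Lrot14 (Lpe (K2.f94332 IH) (Lpe (K3.f94339 IH) (Lpr_df (K3.f109154 IH) (Lpr_gf (K3.f109212 IH) (Lpr_ct (K2.f12118 IH) (Lpr_gt (K1.f18905 IH) (Lpr_dt (K1.f58394 IH) (Lpr_gt (K3.f58455 IH) (Lpe (K35.f109214 IH) (Lpn (LP (LK LD1_c0 LD2_c19 LD3_c33))))))))))))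
theorem f9812 : Led Lsl_bt (LP (LK LD1_c0 LD2_c20 LD3_c44)) = (LP (LK LD1_c0 LD2_c9 LD3_c25)) :=
  Lre_b IH (LK LD1_c0 LD2_c20 LD3_c44) (LK LD1_c0 LD2_c9 LD3_c25) Lrfl Lrfl
theorem f162564 : Led Lsl_bt (LP (LK LD1_c7 LD2_c26 LD3_c27)) = (LP (LK LD1_c14 LD2_c3 LD3_c54)) :=
  Lre_b IH (LK LD1_c7 LD2_c26 LD3_c27) (LK LD1_c14 LD2_c3 LD3_c54) Lrfl Lrfl
theorem f420106 : Led Lsl_gt (LP (LK LD1_c14 LD2_c3 LD3_c54)) = (LP (LK LD1_c12 LD2_c31 LD3_c27)) :=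
  Lgr Lrot190 (Lpe (f162564 IH) (Lpe (K8.f162606 IH) (Lpe (K8.f14741 IH) (Lpe (K5.f16685 IH) (Lpe (K0.f14605 IH) (Lpe (K0.f14581 IH) (Lpr_df (K0.f14974 IH) (Lpe (K2.f9811 IH) (Lpe (f9812 IH) (Lpr_cf (f109216 IH) (Lpr_df (K35.f109214 IH) (Lpe (K3.f58455 IH) (Lpr_bf (K4.f58388 IH) (Lpe (K1.f58224 IH) (Lpe (K1.f58225 IH) (Lpe (K3.f78492 IH) (Lpe (f78506 IH) (Lpe (f78507 IH) (Lpr_df (f420104 IH) (Lpn (LP (LK LD1_c12 LD2_c31 LD3_c27))))))))))))))))))))))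
theorem f162584 : Led Lsl_bt (LP (LK LD1_c12 LD2_c30 LD3_c54)) = (LP (LK LD1_c6 LD2_c31 LD3_c10)) :=
  Lre_b IH (LK LD1_c12 LD2_c30 LD3_c54) (LK LD1_c6 LD2_c31 LD3_c10) Lrfl Lrfl
theorem f162585 : Led Lsl_ff (LP (LK LD1_c12 LD2_c30 LD3_c54)) = (LP (LK LD1_c14 LD2_c3 LD3_c54)) :=
  Lgr Lrot25 (Lpr_bt (f162584 IH) (Lpr_ft (K8.f162582 IH) (Lpr_bt (f162564 IH) (Lpn (LP (LK LD1_c14 LD2_c3 LD3_c54))))))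
theorem f161132 : Led Lsl_ft (LP (LK LD1_c6 LD2_c53 LD3_c54)) = (LP (LK LD1_c9 LD2_c21 LD3_c51)) :=
  Lgr Lrot48 (Lpr_ff (K11.f161130 IH) (Lpn (LP (LK LD1_c9 LD2_c21 LD3_c51))))
theorem f161146 : Led Lsl_af (LP (LK LD1_c6 LD2_c53 LD3_c55)) = (LP (LK LD1_c9 LD2_c21 LD3_c51)) :=
  Lgr Lrot45 (Lpr_ft (K11.f161144 IH) (Lpe (K11.f161136 IH) (Lpr_ft (f161132 IH) (Lpn (LP (LK LD1_c9 LD2_c21 LD3_c51))))))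
theorem f163433 : Led Lsl_ct (LP (LK LD1_c11 LD2_c58 LD3_c43)) = (LP (LK LD1_c6 LD2_c53 LD3_c55)) :=
  Lgr Lrot98 (Lpr_df (K11.f163352 IH) (Lpe (K8.f72413 IH) (Lpe (K8.f72412 IH) (Lpe (K2.f72404 IH) (Lpe (K11.f72426 IH) (Lpe (K2.f72423 IH) (Lpe (K6.f104737 IH) (Lpr_ft (f161132 IH) (Lpe (f161146 IH) (Lpn (LP (LK LD1_c6 LD2_c53 LD3_c55))))))))))))
theorem f94798 : Led Lsl_bt (LP (LK LD1_c4 LD2_c40 LD3_c24)) = (LP (LK LD1_c2 LD2_c17 LD3_c17)) :=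
  Lre_b IH (LK LD1_c4 LD2_c40 LD3_c24) (LK LD1_c2 LD2_c17 LD3_c17) Lrfl Lrfl
theorem f26094 : Led Lsl_ct (LP (LK LD1_c3 LD2_c12 LD3_c15)) = (LP (LK LD1_c1 LD2_c32 LD3_c37)) :=
  Lre_c IH (LK LD1_c3 LD2_c12 LD3_c15) (LK LD1_c1 LD2_c32 LD3_c37) Lrfl Lrfl
theorem f103260 : Led Lsl_cf (LP (LK LD1_c4 LD2_c44 LD3_c51)) = (LP (LK LD1_c6 LD2_c19 LD3_c58)) :=
  Lgr Lrot11 (Lpr_ct (K3.f103256 IH) (Lpn (LP (LK LD1_c6 LD2_c19 LD3_c58))))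
theorem f120014 : Led Lsl_gf (LP (LK LD1_c3 LD2_c12 LD3_c15)) = (LP (LK LD1_c2 LD2_c17 LD3_c17)) :=
  Lgr Lrot147 (Lpr_ct (f26094 IH) (Lpr_gt (K4.f119997 IH) (Lpr_ct (K3.f98841 IH) (Lpr_df (K3.f98883 IH) (Lpe (K3.f98909 IH) (Lpr_gf (K3.f102964 IH) (Lpr_cf (f103260 IH) (Lpr_gf (K3.f103239 IH) (Lpe (K3.f78654 IH) (Lpn (LP (LK LD1_c2 LD2_c17 LD3_c17))))))))))))
theorem f98847 : Led Lsl_bt (LP (LK LD1_c2 LD2_c20 LD3_c26)) = (LP (LK LD1_c4 LD2_c44 LD3_c38)) :=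
  Lre_b IH (LK LD1_c2 LD2_c20 LD3_c26) (LK LD1_c4 LD2_c44 LD3_c38) Lrfl Lrfl
theorem f98848 : Led Lsl_gt (LP (LK LD1_c4 LD2_c44 LD3_c38)) = (LP (LK LD1_c9 LD2_c21 LD3_c60)) :=
  Lre_g IH (LK LD1_c4 LD2_c44 LD3_c38) (LK LD1_c9 LD2_c21 LD3_c60) Lrfl Lrfl
theorem f163504 : Led Lsl_bt (LP (LK LD1_c11 LD2_c58 LD3_c43)) = (LP (LK LD1_c9 LD2_c21 LD3_c60)) :=
  Lgr Lrot92 (Lpr_ct (f163433 IH) (Lpr_gt (K11.f94799 IH) (Lpe (K3.f94788 IH) (Lpr_bt (f94798 IH) (Lpe (f120014 IH) (Lpr_ct (f26094 IH) (Lpr_gt (K4.f119997 IH) (Lpe (K3.f98840 IH) (Lpr_bt (f98847 IH) (Lpr_gt (f98848 IH) (Lpn (LP (LK LD1_c9 LD2_c21 LD3_c60)))))))))))))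
theorem f163506 : Led Lsl_bf (LP (LK LD1_c11 LD2_c58 LD3_c43)) = (LP (LK LD1_c9 LD2_c21 LD3_c60)) :=
  Lgr Lrot24 (Lpr_bt (f163504 IH) (Lpn (LP (LK LD1_c9 LD2_c21 LD3_c60))))
theorem f110738 : Led Lsl_ct (LP (LK LD1_c9 LD2_c21 LD3_c60)) = (LP (LK LD1_c17 LD2_c18 LD3_c11)) :=
  Lre_c IH (LK LD1_c9 LD2_c21 LD3_c60) (LK LD1_c17 LD2_c18 LD3_c11) Lrfl Lrfl
theorem f163508 : Led Lsl_gt (LP (LK LD1_c12 LD2_c31 LD3_c27)) = (LP (LK LD1_c17 LD2_c18 LD3_c11)) :=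
  Lgr Lrot65 (Lpe (f163454 IH) (Lpr_bt (f163452 IH) (Lpe (K28.f149376 IH) (Lpe (K7.f149361 IH) (Lpr_ct (K8.f149362 IH) (Lpr_gf (K6.f59888 IH) (Lpe (K11.f163435 IH) (Lpe (K11.f150234 IH) (Lpr_bf (f163506 IH) (Lpr_ct (f110738 IH) (Lpn (LP (LK LD1_c17 LD2_c18 LD3_c11)))))))))))))
theorem f420108 : Led Lsl_at (LP (LK LD1_c12 LD2_c30 LD3_c54)) = (LP (LK LD1_c17 LD2_c18 LD3_c11)) :=
  Lgr Lrot26 (Lpr_ff (f162585 IH) (Lpr_gt (f420106 IH) (Lpr_gt (f163508 IH) (Lpn (LP (LK LD1_c17 LD2_c18 LD3_c11))))))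
theorem f420119 : Led Lsl_af (LP (LK LD1_c12 LD2_c30 LD3_c54)) = (LP (LK LD1_c17 LD2_c18 LD3_c11)) :=
  Lgr Lrot0 (Lpr_at (f420108 IH) (Lpn (LP (LK LD1_c17 LD2_c18 LD3_c11))))
theorem f424821 : Led Lsl_ff (LP (LK LD1_c17 LD2_c18 LD3_c11)) = (LP (LK LD1_c17 LD2_c10 LD3_c57)) :=
  Lgr Lrot30 (Lpe (f420119 IH) (Lpr_ft (f162604 IH) (Lpr_at (f424795 IH) (Lpn (LP (LK LD1_c17 LD2_c10 LD3_c57))))))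
theorem f424825 : Led Lsl_ft (LP (LK LD1_c17 LD2_c18 LD3_c11)) = (LP (LK LD1_c17 LD2_c10 LD3_c57)) :=
  Lgr Lrot48 (Lpr_ff (f424821 IH) (Lpn (LP (LK LD1_c17 LD2_c10 LD3_c57))))
theorem f110873 : Led Lsl_ct (LP (LK LD1_c17 LD2_c10 LD3_c57)) = (LP (LK LD1_c9 LD2_c16 LD3_c21)) :=
  Lre_c IH (LK LD1_c17 LD2_c10 LD3_c57) (LK LD1_c9 LD2_c16 LD3_c21) Lrfl Lrfl
theorem f424827 : Led Lsl_ff (LP (LK LD1_c9 LD2_c21 LD3_c60)) = (LP (LK LD1_c9 LD2_c16 LD3_c21)) :=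
  Lgr Lrot23 (Lpr_ct (f110738 IH) (Lpr_ft (f424825 IH) (Lpr_ct (f110873 IH) (Lpn (LP (LK LD1_c9 LD2_c16 LD3_c21))))))
theorem f110868 : Led Lsl_at (LP (LK LD1_c9 LD2_c16 LD3_c23)) = (LP (LK LD1_c4 LD2_c40 LD3_c30)) :=
  Lre_a IH (LK LD1_c9 LD2_c16 LD3_c23) (LK LD1_c4 LD2_c40 LD3_c30) Lrfl Lrfl
theorem f110869 : Led Lsl_ff (LP (LK LD1_c9 LD2_c16 LD3_c23)) = (LP (LK LD1_c9 LD2_c22 LD3_c0)) :=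
  Lgr Lrot30 (Lpr_at (f110868 IH) (Lpr_ft (f110863 IH) (Lpr_at (f110657 IH) (Lpn (LP (LK LD1_c9 LD2_c22 LD3_c0))))))
theorem f110876 : Led Lsl_gt (LP (LK LD1_c9 LD2_c16 LD3_c22)) = (LP (LK LD1_c4 LD2_c40 LD3_c30)) :=
  Lre_g IH (LK LD1_c9 LD2_c16 LD3_c22) (LK LD1_c4 LD2_c40 LD3_c30) Lrfl Lrfl
theorem f110877 : Led Lsl_gf (LP (LK LD1_c9 LD2_c16 LD3_c22)) = (LP (LK LD1_c9 LD2_c22 LD3_c0)) :=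
  Lgr Lrot47 (Lpr_gt (f110876 IH) (Lpe (f110868 IH) (Lpr_ff (f110869 IH) (Lpn (LP (LK LD1_c9 LD2_c22 LD3_c0))))))
theorem f424829 : Led Lsl_at (LP (LK LD1_c9 LD2_c21 LD3_c60)) = (LP (LK LD1_c9 LD2_c16 LD3_c22)) :=
  Lgr Lrot26 (Lpr_ff (f424827 IH) (Lpr_gt (f110871 IH) (Lpe (f110877 IH) (Lpn (LP (LK LD1_c9 LD2_c16 LD3_c22))))))
theorem f110867 : Led Lsl_ct (LP (LK LD1_c17 LD2_c18 LD3_c11)) = (LP (LK LD1_c9 LD2_c21 LD3_c60)) :=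
  Lre_c IH (LK LD1_c17 LD2_c18 LD3_c11) (LK LD1_c9 LD2_c21 LD3_c60) Lrfl Lrfl
theorem f424833 : Led Lsl_cf (LP (LK LD1_c12 LD2_c30 LD3_c54)) = (LP (LK LD1_c9 LD2_c16 LD3_c22)) :=
  Lgr Lrot1 (Lpr_at (f420108 IH) (Lpr_ct (f110867 IH) (Lpr_at (f424829 IH) (Lpn (LP (LK LD1_c9 LD2_c16 LD3_c22))))))
theorem f424836 : Led Lsl_ct (LP (LK LD1_c12 LD2_c30 LD3_c54)) = (LP (LK LD1_c9 LD2_c16 LD3_c22)) :=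
  Lgr Lrot59 (Lpr_cf (f424833 IH) (Lpn (LP (LK LD1_c9 LD2_c16 LD3_c22))))
theorem f138134 : Led Lsl_df (LP (LK LD1_c2 LD2_c53 LD3_c37)) = (LP (LK LD1_c4 LD2_c45 LD3_c28)) :=
  Lgr Lrot157 (Lpr_ct (K7.f22813 IH) (Lpr_dt (K6.f137310 IH) (Lpr_ct (K4.f60939 IH) (Lpr_dt (K5.f60949 IH) (Lpr_ct (K8.f138121 IH) (Lpe (K8.f138132 IH) (Lpe (K8.f137417 IH) (Lpr_af (K6.f137412 IH) (Lpe (K6.f137460 IH) (Lpn (LP (LK LD1_c4 LD2_c45 LD3_c28))))))))))))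
theorem f124523 : Led Lsl_gt (LP (LK LD1_c9 LD2_c23 LD3_c43)) = (LP (LK LD1_c4 LD2_c45 LD3_c28)) :=
  Lre_g IH (LK LD1_c9 LD2_c23 LD3_c43) (LK LD1_c4 LD2_c45 LD3_c28) Lrfl Lrfl
theorem f163369 : Led Lsl_cf (LP (LK LD1_c9 LD2_c23 LD3_c43)) = (LP (LK LD1_c6 LD2_c0 LD3_c38)) :=
  Lgr Lrot166 (Lpr_gt (f124523 IH) (Lpe (f138134 IH) (Lpe (K2.f72424 IH) (Lpe (K6.f104744 IH) (Lpr_ct (K32.f163362 IH) (Lpe (K36.f163359 IH) (Lpe (K8.f158583 IH) (Lpe (K8.f75099 IH) (Lpe (K11.f69037 IH) (Lpn (LP (LK LD1_c6 LD2_c0 LD3_c38))))))))))))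
theorem f163376 : Led Lsl_bf (LP (LK LD1_c9 LD2_c23 LD3_c5)) = (LP (LK LD1_c6 LD2_c0 LD3_c38)) :=
  Lgr Lrot34 (Lpe (f102126 IH) (Lpe (f102125 IH) (Lpr_ct (K4.f102118 IH) (Lpr_gf (f124513 IH) (Lpr_cf (K5.f120769 IH) (Lpe (K3.f102966 IH) (Lpe (K8.f103266 IH) (Lpr_ct (K6.f78291 IH) (Lpe (f124523 IH) (Lpr_cf (f163369 IH) (Lpn (LP (LK LD1_c6 LD2_c0 LD3_c38)))))))))))))
theorem f163378 : Led Lsl_bt (LP (LK LD1_c9 LD2_c23 LD3_c5)) = (LP (LK LD1_c6 LD2_c0 LD3_c38)) :=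
  Lgr Lrot127 (Lpr_bf (f163376 IH) (Lpn (LP (LK LD1_c6 LD2_c0 LD3_c38))))
theorem f163545 : Led Lsl_dt (LP (LK LD1_c17 LD2_c10 LD3_c60)) = (LP (LK LD1_c9 LD2_c23 LD3_c5)) :=
  Lgr Lrot79 (Lpr_bf (K8.f161173 IH) (Lpr_df (K11.f163537 IH) (Lpe (f163378 IH) (Lpn (LP (LK LD1_c9 LD2_c23 LD3_c5))))))
theorem f425913 : Led Lsl_df (LP (LK LD1_c17 LD2_c19 LD3_c33)) = (LP (LK LD1_c20 LD2_c45 LD3_c27)) :=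
  Lgr Lrot84 (Lpe (f102127 IH) (Lpe (f163545 IH) (Lpe (K8.f110857 IH) (Lpe (f110854 IH) (Lpe (f110876 IH) (Lpe (f424836 IH) (Lpr_gt (f424793 IH) (Lpe (f424797 IH) (Lpr_gt (f425903 IH) (Lpn (LP (LK LD1_c20 LD2_c45 LD3_c27))))))))))))
theorem f425915 : Led Lsl_dt (LP (LK LD1_c17 LD2_c19 LD3_c33)) = (LP (LK LD1_c20 LD2_c45 LD3_c27)) :=
  Lgr Lrot42 (Lpr_df (f425913 IH) (Lpn (LP (LK LD1_c20 LD2_c45 LD3_c27))))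
theorem f499546 : Led Lsl_ff (LP (LK LD1_c17 LD2_c22 LD3_c20)) = (LP (LK LD1_c20 LD2_c45 LD3_c27)) :=
  Lgr Lrot19 (Lpr_dt (f205830 IH) (Lpr_ft (f499540 IH) (Lpr_dt (f425915 IH) (Lpn (LP (LK LD1_c20 LD2_c45 LD3_c27))))))
theorem f499520 : Led Lsl_at (LP (LK LD1_c17 LD2_c22 LD3_c20)) = (LP (LK LD1_c14 LD2_c7 LD3_c59)) :=
  Lgr Lrot100 (Lpr_af (f499518 IH) (Lpn (LP (LK LD1_c14 LD2_c7 LD3_c59))))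
theorem f419228 : Led Lsl_ft (LP (LK LD1_c7 LD2_c27 LD3_c19)) = (LP (LK LD1_c6 LD2_c31 LD3_c46)) :=
  Lgr Lrot4 (Lpr_cf (K28.f158842 IH) (Lpr_ff (K28.f419224 IH) (Lpe (K36.f148554 IH) (Lpn (LP (LK LD1_c6 LD2_c31 LD3_c46))))))
theorem f148081 : Led Lsl_bt (LP (LK LD1_c14 LD2_c4 LD3_c54)) = (LP (LK LD1_c7 LD2_c27 LD3_c19)) :=
  Lre_b IH (LK LD1_c14 LD2_c4 LD3_c54) (LK LD1_c7 LD2_c27 LD3_c19) Lrfl Lrfl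
theorem f420100 : Led Lsl_ff (LP (LK LD1_c14 LD2_c4 LD3_c54)) = (LP (LK LD1_c12 LD2_c31 LD3_c27)) :=
  Lgr Lrot25 (Lpr_bt (f148081 IH) (Lpr_ft (f419228 IH) (Lpr_bt (f148568 IH) (Lpn (LP (LK LD1_c12 LD2_c31 LD3_c27))))))
theorem f424802 : Led Lsl_ft (LP (LK LD1_c17 LD2_c19 LD3_c35)) = (LP (LK LD1_c9 LD2_c25 LD3_c17)) :=
  Lgr Lrot54 (Lpr_df (f424797 IH) (Lpr_ff (f420100 IH) (Lpe (f419197 IH) (Lpn (LP (LK LD1_c9 LD2_c25 LD3_c17))))))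
theorem f156925 : Led Lsl_bt (LP (LK LD1_c1 LD2_c48 LD3_c39)) = (LP (LK LD1_c3 LD2_c43 LD3_c10)) :=
  Lre_b IH (LK LD1_c1 LD2_c48 LD3_c39) (LK LD1_c3 LD2_c43 LD3_c10) Lrfl Lrfl
theorem f425608 : Led Lsl_bf (LP (LK LD1_c7 LD2_c26 LD3_c60)) = (LP (LK LD1_c6 LD2_c59 LD3_c49)) :=
  Lgr Lrot156 (Lpr_gt (K8.f156932 IH) (Lpe (f156925 IH) (Lpr_ct (K4.f116065 IH) (Lpr_gt (K7.f148289 IH) (Lpe (K7.f148341 IH) (Lpr_bt (f22671 IH) (Lpr_gt (K8.f148370 IH) (Lpr_ct (K8.f162579 IH) (Lpe (K8.f162370 IH) (Lpe (K11.f18773 IH) (Lpn (LP (LK LD1_c6 LD2_c59 LD3_c49)))))))))))))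
theorem f161591 : Led Lsl_bt (LP (LK LD1_c11 LD2_c31 LD3_c20)) = (LP (LK LD1_c20 LD2_c28 LD3_c6)) :=
  Lre_b IH (LK LD1_c11 LD2_c31 LD3_c20) (LK LD1_c20 LD2_c28 LD3_c6) Lrfl Lrfl
theorem f425610 : Led Lsl_gf (LP (LK LD1_c12 LD2_c30 LD3_c54)) = (LP (LK LD1_c20 LD2_c28 LD3_c6)) :=
  Lgr Lrot124 (Lpe (f162578 IH) (Lpr_ct (K8.f162579 IH) (Lpe (K8.f162370 IH) (Lpe (K11.f18773 IH) (Lpe (f425608 IH) (Lpr_gt (K8.f156932 IH) (Lpe (K7.f156923 IH) (Lpr_gt (K8.f152571 IH) (Lpe (K8.f161593 IH) (Lpr_bt (f161591 IH) (Lpn (LP (LK LD1_c20 LD2_c28 LD3_c6)))))))))))))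
theorem f425612 : Led Lsl_gt (LP (LK LD1_c17 LD2_c10 LD3_c57)) = (LP (LK LD1_c20 LD2_c28 LD3_c6)) :=
  Lgr Lrot5 (Lpe (f424821 IH) (Lpe (f420119 IH) (Lpr_gf (f425610 IH) (Lpn (LP (LK LD1_c20 LD2_c28 LD3_c6))))))
theorem f420102 : Led Lsl_ft (LP (LK LD1_c14 LD2_c4 LD3_c54)) = (LP (LK LD1_c12 LD2_c31 LD3_c27)) :=
  Lgr Lrot48 (Lpr_ff (f420100 IH) (Lpn (LP (LK LD1_c12 LD2_c31 LD3_c27))))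
theorem f425614 : Led Lsl_at (LP (LK LD1_c12 LD2_c31 LD3_c27)) = (LP (LK LD1_c20 LD2_c28 LD3_c6)) :=
  Lgr Lrot26 (Lpe (f420102 IH) (Lpe (f419172 IH) (Lpr_gt (f425612 IH) (Lpn (LP (LK LD1_c20 LD2_c28 LD3_c6))))))
theorem f425616 : Led Lsl_af (LP (LK LD1_c12 LD2_c31 LD3_c27)) = (LP (LK LD1_c20 LD2_c28 LD3_c6)) :=
  Lgr Lrot0 (Lpr_at (f425614 IH) (Lpn (LP (LK LD1_c20 LD2_c28 LD3_c6))))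
theorem f161579 : Led Lsl_bt (LP (LK LD1_c20 LD2_c28 LD3_c6)) = (LP (LK LD1_c11 LD2_c31 LD3_c20)) :=
  Lre_b IH (LK LD1_c20 LD2_c28 LD3_c6) (LK LD1_c11 LD2_c31 LD3_c20) Lrfl Lrfl
theorem f157238 : Led Lsl_bt (LP (LK LD1_c8 LD2_c49 LD3_c7)) = (LP (LK LD1_c16 LD2_c29 LD3_c32)) :=
  Lre_b IH (LK LD1_c8 LD2_c49 LD3_c7) (LK LD1_c16 LD2_c29 LD3_c32) Lrfl Lrfl
theorem f161580 : Led Lsl_df (LP (LK LD1_c20 LD2_c28 LD3_c6)) = (LP (LK LD1_c16 LD2_c29 LD3_c32)) :=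
  Lgr Lrot12 (Lpr_bt (f161579 IH) (Lpr_dt (K8.f161577 IH) (Lpr_bt (f157238 IH) (Lpn (LP (LK LD1_c16 LD2_c29 LD3_c32))))))
theorem f425618 : Led Lsl_at (LP (LK LD1_c9 LD2_c25 LD3_c17)) = (LP (LK LD1_c16 LD2_c29 LD3_c32)) :=
  Lgr Lrot51 (Lpr_df (f420104 IH) (Lpr_af (f425616 IH) (Lpr_df (f161580 IH) (Lpn (LP (LK LD1_c16 LD2_c29 LD3_c32))))))
theorem f425911 : Led Lsl_gf (LP (LK LD1_c16 LD2_c29 LD3_c32)) = (LP (LK LD1_c20 LD2_c45 LD3_c27)) :=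
  Lgr Lrot76 (Lpe (f425618 IH) (Lpe (f424802 IH) (Lpr_gt (f425903 IH) (Lpn (LP (LK LD1_c20 LD2_c45 LD3_c27))))))
theorem f499552 : Led Lsl_gf (LP (LK LD1_c14 LD2_c7 LD3_c59)) = (LP (LK LD1_c16 LD2_c29 LD3_c32)) :=
  Lgr Lrot76 (Lpe (f499520 IH) (Lpr_ff (f499546 IH) (Lpe (f425911 IH) (Lpn (LP (LK LD1_c16 LD2_c29 LD3_c32))))))
theorem f139765 : Led Lsl_dt (LP (LK LD1_c11 LD2_c28 LD3_c45)) = (LP (LK LD1_c8 LD2_c49 LD3_c46)) :=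
  Lgr Lrot6 (Lpr_gt (K8.f139764 IH) (Lpr_ct (K6.f139756 IH) (Lpr_gt (K6.f36593 IH) (Lpr_ct (K6.f63824 IH) (Lpe (K36.f63823 IH) (Lpe (K0.f16136 IH) (Lpe (K7.f16159 IH) (Lpe (K8.f80227 IH) (Lpe (K8.f80228 IH) (Lpn (LP (LK LD1_c8 LD2_c49 LD3_c46))))))))))))
theorem f161619 : Led Lsl_gt (LP (LK LD1_c8 LD2_c49 LD3_c25)) = (LP (LK LD1_c11 LD2_c28 LD3_c45)) :=
  Lgr Lrot65 (Lpr_cf (K6.f100354 IH) (Lpr_bt (K7.f100345 IH) (Lpr_gf (K6.f141551 IH) (Lpe (K6.f118773 IH) (Lpr_ct (K6.f118663 IH) (Lpe (K6.f118661 IH) (Lpe (K6.f141558 IH) (Lpr_gf (K7.f150885 IH) (Lpr_bf (K8.f151175 IH) (Lpr_ct (K8.f161607 IH) (Lpn (LP (LK LD1_c11 LD2_c28 LD3_c45)))))))))))))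
theorem f542897 : Led Lsl_ct (LP (LK LD1_c6 LD2_c24 LD3_c45)) = (LP (LK LD1_c8 LD2_c49 LD3_c7)) :=
  Lgr Lrot8 (Lpr_gt (f542891 IH) (Lpr_dt (K7.f141306 IH) (Lpr_gt (K7.f148994 IH) (Lpr_dt (K7.f141927 IH) (Lpe (K24.f161519 IH) (Lpe (f139765 IH) (Lpe (f161619 IH) (Lpe (K6.f99705 IH) (Lpr_gf (K8.f157259 IH) (Lpn (LP (LK LD1_c8 LD2_c49 LD3_c7))))))))))))
theorem f175522 : Led Lsl_bt (LP (LK LD1_c4 LD2_c32 LD3_c41)) = (LP (LK LD1_c2 LD2_c13 LD3_c22)) :=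
  Lre_b IH (LK LD1_c4 LD2_c32 LD3_c41) (LK LD1_c2 LD2_c13 LD3_c22) Lrfl Lrfl
theorem f177761 : Led Lsl_ct (LP (LK LD1_c9 LD2_c2 LD3_c51)) = (LP (LK LD1_c4 LD2_c32 LD3_c41)) :=
  Lre_c IH (LK LD1_c9 LD2_c2 LD3_c51) (LK LD1_c4 LD2_c32 LD3_c41) Lrfl Lrfl
theorem f543888 : Led Lsl_dt (LP (LK LD1_c7 LD2_c34 LD3_c7)) = (LP (LK LD1_c9 LD2_c2 LD3_c51)) :=
  Lgr Lrot182 (Lpe (f543872 IH) (Lpr_bf (f543878 IH) (Lpr_cf (f142002 IH) (Lpr_df (f205875 IH) (Lpr_gf (f499552 IH) (Lpe (f157238 IH) (Lpe (f542897 IH) (Lpe (f149622 IH) (Lpe (f68662 IH) (Lpe (K35.f205197 IH) (Lpe (K13.f56333 IH) (Lpr_df (K13.f36412 IH) (Lpe (K10.f36443 IH) (Lpr_bf (K12.f205224 IH) (Lpe (K12.f26676 IH) (Lpe (K15.f26677 IH) (Lpr_gf (K15.f177759 IH) (Lpe (f175522 IH) (Lpe (f177761 IH) (Lpn (LP (LK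 LD1_c9 LD2_c2 LD3_c51))))))))))))))))))))))
theorem f202668 : Led Lsl_gt (LP (LK LD1_c6 LD2_c16 LD3_c20)) = (LP (LK LD1_c3 LD2_c5 LD3_c24)) :=
  Lre_g IH (LK LD1_c6 LD2_c16 LD3_c20) (LK LD1_c3 LD2_c5 LD3_c24) Lrfl Lrfl
theorem f175523 : Led Lsl_ct (LP (LK LD1_c4 LD2_c32 LD3_c41)) = (LP (LK LD1_c9 LD2_c2 LD3_c51)) :=
  Lre_c IH (LK LD1_c4 LD2_c32 LD3_c41) (LK LD1_c9 LD2_c2 LD3_c51) Lrfl Lrfl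
theorem f396320 : Led Lsl_dt (LP (LK LD1_c2 LD2_c13 LD3_c20)) = (LP (LK LD1_c4 LD2_c32 LD3_c41)) :=
  Lre_d IH (LK LD1_c2 LD2_c13 LD3_c20) (LK LD1_c4 LD2_c32 LD3_c41) Lrfl Lrfl
theorem f175540 : Led Lsl_gt (LP (LK LD1_c4 LD2_c32 LD3_c40)) = (LP (LK LD1_c2 LD2_c13 LD3_c20)) :=
  Lre_g IH (LK LD1_c4 LD2_c32 LD3_c40) (LK LD1_c2 LD2_c13 LD3_c20) Lrfl Lrfl
theorem f543898 : Led Lsl_dt (LP (LK LD1_c3 LD2_c5 LD3_c24)) = (LP (LK LD1_c4 LD2_c32 LD3_c40)) :=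
  Lgr Lrot57 (Lpe (f202668 IH) (Lpe (f543822 IH) (Lpr_gt (f543848 IH) (Lpr_dt (f543849 IH) (Lpr_gt (f543872 IH) (Lpr_dt (f543888 IH) (Lpe (f175523 IH) (Lpe (f396320 IH) (Lpe (f175540 IH) (Lpn (LP (LK LD1_c4 LD2_c32 LD3_c40))))))))))))
theorem f543900 : Led Lsl_df (LP (LK LD1_c3 LD2_c5 LD3_c24)) = (LP (LK LD1_c4 LD2_c32 LD3_c40)) :=
  Lgr Lrot38 (Lpr_dt (f543898 IH) (Lpn (LP (LK LD1_c4 LD2_c32 LD3_c40))))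
theorem f112392 : Led Lsl_gt (LP (LK LD1_c3 LD2_c5 LD3_c24)) = (LP (LK LD1_c1 LD2_c28 LD3_c42)) :=
  Lre_g IH (LK LD1_c3 LD2_c5 LD3_c24) (LK LD1_c1 LD2_c28 LD3_c42) Lrfl Lrfl
theorem f112391 : Led Lsl_dt (LP (LK LD1_c0 LD2_c40 LD3_c60)) = (LP (LK LD1_c1 LD2_c28 LD3_c42)) :=
  Lre_d IH (LK LD1_c0 LD2_c40 LD3_c60) (LK LD1_c1 LD2_c28 LD3_c42) Lrfl Lrfl
theorem f112390 : Led Lsl_et (LP (LK LD1_c0 LD2_c40 LD3_c60)) = (LP (LK LD1_c0 LD2_c18 LD3_c20)) :=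
  Lre_e IH (LK LD1_c0 LD2_c40 LD3_c60) (LK LD1_c0 LD2_c18 LD3_c20) Lrfl Lrfl
theorem f112388 : Led Lsl_gt (LP (LK LD1_c1 LD2_c22 LD3_c46)) = (LP (LK LD1_c2 LD2_c53 LD3_c20)) :=
  Lre_g IH (LK LD1_c1 LD2_c22 LD3_c46) (LK LD1_c2 LD2_c53 LD3_c20) Lrfl Lrfl
theorem f543908 : Led Lsl_ef (LP (LK LD1_c2 LD2_c53 LD3_c20)) = (LP (LK LD1_c4 LD2_c32 LD3_c40)) :=
  Lgr Lrot17 (Lpe (f112388 IH) (Lpe (K2.f71817 IH) (Lpr_dt (K2.f71007 IH) (Lpr_gf (K4.f112352 IH) (Lpe (K4.f83762 IH) (Lpe (K4.f58961 IH) (Lpe (f112390 IH) (Lpr_dt (f112391 IH) (Lpe (f112392 IH) (Lpr_df (f543900 IH) (Lpn (LP (LK LD1_c4 LD2_c32 LD3_c40)))))))))))))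
theorem f428023 : Led Lsl_ct (LP (LK LD1_c2 LD2_c53 LD3_c20)) = (LP (LK LD1_c5 LD2_c53 LD3_c57)) :=
  Lre_c IH (LK LD1_c2 LD2_c53 LD3_c20) (LK LD1_c5 LD2_c53 LD3_c57) Lrfl Lrfl
theorem f96993 : Led Lsl_bt (LP (LK LD1_c3 LD2_c33 LD3_c5)) = (LP (LK LD1_c1 LD2_c43 LD3_c18)) :=
  Lre_b IH (LK LD1_c3 LD2_c33 LD3_c5) (LK LD1_c1 LD2_c43 LD3_c18) Lrfl Lrfl
theorem f96994 : Led Lsl_bt (LP (LK LD1_c3 LD2_c46 LD3_c22)) = (LP (LK LD1_c1 LD2_c50 LD3_c16)) :=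
  Lre_b IH (LK LD1_c3 LD2_c46 LD3_c22) (LK LD1_c1 LD2_c50 LD3_c16) Lrfl Lrfl
theorem f243011 : Led Lsl_gf (LP (LK LD1_c2 LD2_c9 LD3_c0)) = (LP (LK LD1_c1 LD2_c31 LD3_c14)) :=
  Lgr Lrot141 (Lpr_ef (K13.f241798 IH) (Lpr_dt (K13.f101375 IH) (Lpe (K9.f181418 IH) (Lpe (K9.f60227 IH) (Lpe (K1.f60222 IH) (Lpr_gt (K9.f47077 IH) (Lpe (K10.f177804 IH) (Lpr_gt (K13.f242789 IH) (Lpe (K13.f241814 IH) (Lpr_et (K13.f241816 IH) (Lpn (LP (LK LD1_c1 LD2_c31 LD3_c14)))))))))))))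
theorem f175539 : Led Lsl_bt (LP (LK LD1_c1 LD2_c3 LD3_c44)) = (LP (LK LD1_c2 LD2_c13 LD3_c20)) :=
  Lre_b IH (LK LD1_c1 LD2_c3 LD3_c44) (LK LD1_c2 LD2_c13 LD3_c20) Lrfl Lrfl
theorem f181332 : Led Lsl_ct (LP (LK LD1_c2 LD2_c13 LD3_c20)) = (LP (LK LD1_c4 LD2_c32 LD3_c34)) :=
  Lre_c IH (LK LD1_c2 LD2_c13 LD3_c20) (LK LD1_c4 LD2_c32 LD3_c34) Lrfl Lrfl
theorem f181333 : Led Lsl_bt (LP (LK LD1_c4 LD2_c32 LD3_c34)) = (LP (LK LD1_c3 LD2_c57 LD3_c27)) :=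
  Lgr Lrot128 (Lpe (f181332 IH) (Lpe (f175539 IH) (Lpe (K10.f174527 IH) (Lpe (K13.f28392 IH) (Lpr_cf (K13.f181319 IH) (Lpn (LP (LK LD1_c3 LD2_c57 LD3_c27))))))))
theorem f542937 : Led Lsl_ct (LP (LK LD1_c3 LD2_c46 LD3_c22)) = (LP (LK LD1_c4 LD2_c32 LD3_c40)) :=
  Lgr Lrot64 (Lpr_bt (f96994 IH) (Lpr_gf (K5.f96968 IH) (Lpe (f96993 IH) (Lpr_ct (f542925 IH) (Lpr_gf (f243011 IH) (Lpe (K16.f164153 IH) (Lpr_gf (K13.f242757 IH) (Lpe (f181333 IH) (Lpr_ct (K16.f175536 IH) (Lpe (f175540 IH) (Lpn (LP (LK LD1_c4 LD2_c32 LD3_c40)))))))))))))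
theorem f543910 : Led Lsl_et (LP (LK LD1_c5 LD2_c53 LD3_c57)) = (LP (LK LD1_c3 LD2_c46 LD3_c22)) :=
  Lgr Lrot158 (Lpe (f428023 IH) (Lpr_ef (f543908 IH) (Lpe (f542937 IH) (Lpn (LP (LK LD1_c3 LD2_c46 LD3_c22))))))
theorem f543938 : Led Lsl_ef (LP (LK LD1_c5 LD2_c53 LD3_c57)) = (LP (LK LD1_c3 LD2_c46 LD3_c22)) :=
  Lgr Lrot88 (Lpr_et (f543910 IH) (Lpn (LP (LK LD1_c3 LD2_c46 LD3_c22))))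
theorem f227343 : Led Lsl_ct (LP (LK LD1_c5 LD2_c53 LD3_c57)) = (LP (LK LD1_c2 LD2_c53 LD3_c20)) :=
  Lre_c IH (LK LD1_c5 LD2_c53 LD3_c57) (LK LD1_c2 LD2_c53 LD3_c20) Lrfl Lrfl
theorem f543914 : Led Lsl_et (LP (LK LD1_c2 LD2_c53 LD3_c20)) = (LP (LK LD1_c4 LD2_c32 LD3_c40)) :=
  Lgr Lrot87 (Lpr_ef (f543908 IH) (Lpn (LP (LK LD1_c4 LD2_c32 LD3_c40))))
theorem f543942 : Led Lsl_ct (LP (LK LD1_c4 LD2_c32 LD3_c40)) = (LP (LK LD1_c3 LD2_c46 LD3_c22)) :=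
  Lgr Lrot15 (Lpe (f543914 IH) (Lpe (f227343 IH) (Lpr_ef (f543938 IH) (Lpn (LP (LK LD1_c3 LD2_c46 LD3_c22))))))
theorem f204761 : Led Lsl_ft (LP (LK LD1_c6 LD2_c16 LD3_c20)) = (LP (LK LD1_c3 LD2_c5 LD3_c14)) :=
  Lre_f IH (LK LD1_c6 LD2_c16 LD3_c20) (LK LD1_c3 LD2_c5 LD3_c14) Lrfl Lrfl
theorem f538118 : Led Lsl_bt (LP (LK LD1_c4 LD2_c39 LD3_c57)) = (LP (LK LD1_c6 LD2_c16 LD3_c20)) :=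
  Lgr Lrot35 (Lpr_ff (K35.f538114 IH) (Lpr_bf (K11.f210063 IH) (Lpe (f204761 IH) (Lpn (LP (LK LD1_c6 LD2_c16 LD3_c20))))))
theorem f111855 : Led Lsl_af (LP (LK LD1_c13 LD2_c9 LD3_c58)) = (LP (LK LD1_c7 LD2_c38 LD3_c16)) :=
  Lgr Lrot68 (Lpr_ct (K4.f111853 IH) (Lpr_at (K4.f89566 IH) (Lpr_ct (K5.f89305 IH) (Lpn (LP (LK LD1_c7 LD2_c38 LD3_c16))))))
theorem f111879 : Led Lsl_gt (LP (LK LD1_c9 LD2_c21 LD3_c8)) = (LP (LK LD1_c13 LD2_c9 LD3_c58)) :=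
  Lgr Lrot46 (Lpr_gf (K4.f111875 IH) (Lpr_ft (K4.f111522 IH) (Lpe (f111855 IH) (Lpn (LP (LK LD1_c13 LD2_c9 LD3_c58))))))
theorem f543969 : Led Lsl_df (LP (LK LD1_c9 LD2_c15 LD3_c22)) = (LP (LK LD1_c13 LD2_c9 LD3_c58)) :=
  Lgr Lrot183 (Lpr_ct (K35.f80173 IH) (Lpr_bt (f538118 IH) (Lpr_gt (f202668 IH) (Lpr_dt (f543898 IH) (Lpr_ct (f543942 IH) (Lpr_bt (f96994 IH) (Lpr_gt (K3.f98498 IH) (Lpr_dt (K3.f10463 IH) (Lpr_ct (K3.f6678 IH) (Lpr_bt (K3.f89728 IH) (Lpr_gt (K3.f96192 IH) (Lpe (K2.f84963 IH) (Lpr_ct (K2.f12118 IH) (Lpr_bt (K3.f61709 IH) (Lpr_gt (K2.f76712 IH) (Lpe (K5.f127121 IH) (Lpr_ct (K5.f25212 IH) (Lpr_bt (K36.f111883 IH) (Lpr_gt (f111879 IH) (Lpn (LP (LK LD1_c13 LD2_c9 LD3_c58))))))))))))))))))))))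
theorem f26903 : Led Lsl_at (LP (LK LD1_c9 LD2_c17 LD3_c48)) = (LP (LK LD1_c4 LD2_c41 LD3_c30)) :=
  Lre_a IH (LK LD1_c9 LD2_c17 LD3_c48) (LK LD1_c4 LD2_c41 LD3_c30) Lrfl Lrfl
theorem f538116 : Led Lsl_gt (LP (LK LD1_c9 LD2_c15 LD3_c22)) = (LP (LK LD1_c9 LD2_c17 LD3_c56)) :=
  Lgr Lrot5 (Lpr_ft (K35.f538110 IH) (Lpr_at (f26903 IH) (Lpe (K31.f26916 IH) (Lpn (LP (LK LD1_c9 LD2_c17 LD3_c56))))))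
theorem f496110 : Led Lsl_cf (LP (LK LD1_c10 LD2_c5 LD3_c29)) = (LP (LK LD1_c9 LD2_c17 LD3_c56)) :=
  Lgr Lrot11 (Lpr_ct (K31.f496105 IH) (Lpn (LP (LK LD1_c9 LD2_c17 LD3_c56))))
theorem f161221 : Led Lsl_bt (LP (LK LD1_c2 LD2_c27 LD3_c7)) = (LP (LK LD1_c4 LD2_c58 LD3_c30)) :=
  Lre_b IH (LK LD1_c2 LD2_c27 LD3_c7) (LK LD1_c4 LD2_c58 LD3_c30) Lrfl Lrfl
theorem f387097 : Led Lsl_bt (LP (LK LD1_c1 LD2_c12 LD3_c33)) = (LP (LK LD1_c2 LD2_c31 LD3_c3)) :=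
  Lre_b IH (LK LD1_c1 LD2_c12 LD3_c33) (LK LD1_c2 LD2_c31 LD3_c3) Lrfl Lrfl
theorem f387098 : Led Lsl_gt (LP (LK LD1_c4 LD2_c58 LD3_c30)) = (LP (LK LD1_c2 LD2_c31 LD3_c3)) :=
  Lgr Lrot164 (Lpe (f161221 IH) (Lpr_ct (K32.f161222 IH) (Lpr_gf (K28.f387085 IH) (Lpe (K32.f194110 IH) (Lpe (K27.f169713 IH) (Lpe (K36.f169717 IH) (Lpr_ct (K36.f169718 IH) (Lpe (K27.f169697 IH) (Lpe (K27.f3284 IH) (Lpr_bt (f387097 IH) (Lpn (LP (LK LD1_c2 LD2_c31 LD3_c3)))))))))))))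
theorem f149240 : Led Lsl_dt (LP (LK LD1_c6 LD2_c15 LD3_c18)) = (LP (LK LD1_c12 LD2_c8 LD3_c50)) :=
  Lre_d IH (LK LD1_c6 LD2_c15 LD3_c18) (LK LD1_c12 LD2_c8 LD3_c50) Lrfl Lrfl
theorem f387120 : Led Lsl_et (LP (LK LD1_c5 LD2_c7 LD3_c34)) = (LP (LK LD1_c2 LD2_c31 LD3_c3)) :=
  Lre_e IH (LK LD1_c5 LD2_c7 LD3_c34) (LK LD1_c2 LD2_c31 LD3_c3) Lrfl Lrfl
theorem f387121 : Led Lsl_dt (LP (LK LD1_c5 LD2_c7 LD3_c34)) = (LP (LK LD1_c10 LD2_c5 LD3_c29)) :=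
  Lre_d IH (LK LD1_c5 LD2_c7 LD3_c34) (LK LD1_c10 LD2_c5 LD3_c29) Lrfl Lrfl
theorem f387122 : Led Lsl_gf (LP (LK LD1_c12 LD2_c8 LD3_c50)) = (LP (LK LD1_c10 LD2_c5 LD3_c29)) :=
  Lgr Lrot145 (Lpe (f149240 IH) (Lpr_et (K8.f149233 IH) (Lpe (K8.f161008 IH) (Lpr_dt (K4.f117532 IH) (Lpr_gt (K7.f117538 IH) (Lpe (K6.f24080 IH) (Lpr_et (K32.f24083 IH) (Lpr_gt (f387098 IH) (Lpe (f387120 IH) (Lpr_dt (f387121 IH) (Lpn (LP (LK LD1_c10 LD2_c5 LD3_c29)))))))))))))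
theorem f72528 : Led Lsl_bt (LP (LK LD1_c4 LD2_c59 LD3_c45)) = (LP (LK LD1_c9 LD2_c49 LD3_c56)) :=
  Lre_b IH (LK LD1_c4 LD2_c59 LD3_c45) (LK LD1_c9 LD2_c49 LD3_c56) Lrfl Lrfl
theorem f72529 : Led Lsl_df (LP (LK LD1_c5 LD2_c57 LD3_c57)) = (LP (LK LD1_c9 LD2_c49 LD3_c56)) :=
  Lgr Lrot12 (Lpr_bt (f72524 IH) (Lpr_dt (K2.f72522 IH) (Lpr_bt (f72528 IH) (Lpn (LP (LK LD1_c9 LD2_c49 LD3_c56))))))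
theorem f543979 : Led Lsl_ct (LP (LK LD1_c12 LD2_c8 LD3_c50)) = (LP (LK LD1_c9 LD2_c49 LD3_c56)) :=
  Lgr Lrot110 (Lpr_gf (f387122 IH) (Lpr_cf (f496110 IH) (Lpe (f538116 IH) (Lpr_df (f543969 IH) (Lpr_gt (K4.f90976 IH) (Lpr_ct (K5.f90172 IH) (Lpr_gt (f90153 IH) (Lpr_ct (f209732 IH) (Lpr_df (f72529 IH) (Lpn (LP (LK LD1_c9 LD2_c49 LD3_c56))))))))))))
theorem f40687 : Led Lsl_bt (LP (LK LD1_c9 LD2_c49 LD3_c56)) = (LP (LK LD1_c4 LD2_c59 LD3_c45)) :=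
  Lre_b IH (LK LD1_c9 LD2_c49 LD3_c56) (LK LD1_c4 LD2_c59 LD3_c45) Lrfl Lrfl
theorem f72537 : Led Lsl_dt (LP (LK LD1_c0 LD2_c38 LD3_c45)) = (LP (LK LD1_c0 LD2_c17 LD3_c12)) :=
  Lre_d IH (LK LD1_c0 LD2_c38 LD3_c45) (LK LD1_c0 LD2_c17 LD3_c12) Lrfl Lrfl
theorem f72540 : Led Lsl_cf (LP (LK LD1_c2 LD2_c55 LD3_c55)) = (LP (LK LD1_c4 LD2_c59 LD3_c45)) :=
  Lgr Lrot55 (Lpr_dt (f72539 IH) (Lpr_ct (K7.f72538 IH) (Lpr_dt (f72537 IH) (Lpr_ct (K8.f72536 IH) (Lpr_dt (K8.f72535 IH) (Lpr_ct (K36.f72534 IH) (Lpr_dt (K32.f72533 IH) (Lpr_ct (K2.f56977 IH) (Lpr_dt (K8.f72532 IH) (Lpr_ct (K4.f72531 IH) (Lpr_dt (K2.f72401 IH) (Lpr_ct (K2.f26539 IH) (Lpr_dt (K2.f72467 IH) (Lpr_ct (K8.f72475 IH) (Lpr_dt (K2.f72522 IH) (Lpn (LP (LK LD1_c4 LD2_c59 LD3_c45))))))))))))))))))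
theorem f543981 : Led Lsl_cf (LP (LK LD1_c6 LD2_c15 LD3_c21)) = (LP (LK LD1_c5 LD2_c58 LD3_c60)) :=
  Lgr Lrot97 (Lpr_bt (K36.f149221 IH) (Lpr_ct (f543979 IH) (Lpr_bt (f40687 IH) (Lpe (f72540 IH) (Lpr_bt (K36.f72557 IH) (Lpn (LP (LK LD1_c5 LD2_c58 LD3_c60))))))))
theorem f110911 : Led Lsl_dt (LP (LK LD1_c2 LD2_c55 LD3_c54)) = (LP (LK LD1_c5 LD2_c58 LD3_c60)) :=
  Lre_d IH (LK LD1_c2 LD2_c55 LD3_c54) (LK LD1_c5 LD2_c58 LD3_c60) Lrfl Lrfl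
theorem f110565 : Led Lsl_dt (LP (LK LD1_c9 LD2_c22 LD3_c6)) = (LP (LK LD1_c4 LD2_c44 LD3_c43)) :=
  Lre_d IH (LK LD1_c9 LD2_c22 LD3_c6) (LK LD1_c4 LD2_c44 LD3_c43) Lrfl Lrfl
theorem f110372 : Led Lsl_dt (LP (LK LD1_c6 LD2_c0 LD3_c9)) = (LP (LK LD1_c11 LD2_c44 LD3_c45)) :=
  Lre_d IH (LK LD1_c6 LD2_c0 LD3_c9) (LK LD1_c11 LD2_c44 LD3_c45) Lrfl Lrfl
theorem f501561 : Led Lsl_gf (LP (LK LD1_c9 LD2_c22 LD3_c6)) = (LP (LK LD1_c11 LD2_c44 LD3_c45)) :=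
  Lgr Lrot143 (Lpr_dt (f110565 IH) (Lpe (K8.f128601 IH) (Lpr_df (K34.f111957 IH) (Lpr_gf (K3.f88602 IH) (Lpr_df (K8.f110242 IH) (Lpe (K3.f65239 IH) (Lpe (K3.f88295 IH) (Lpr_gt (K36.f501555 IH) (Lpr_dt (f110372 IH) (Lpn (LP (LK LD1_c11 LD2_c44 LD3_c45))))))))))))
theorem f202234 : Led Lsl_et (LP (LK LD1_c6 LD2_c16 LD3_c14)) = (LP (LK LD1_c3 LD2_c5 LD3_c12)) :=
  Lre_e IH (LK LD1_c6 LD2_c16 LD3_c14) (LK LD1_c3 LD2_c5 LD3_c12) Lrfl Lrfl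
theorem f180347 : Led Lsl_ft (LP (LK LD1_c1 LD2_c3 LD3_c41)) = (LP (LK LD1_c2 LD2_c13 LD3_c14)) :=
  Lre_f IH (LK LD1_c1 LD2_c3 LD3_c41) (LK LD1_c2 LD2_c13 LD3_c14) Lrfl Lrfl
theorem f27013 : Led Lsl_bt (LP (LK LD1_c2 LD2_c13 LD3_c11)) = (LP (LK LD1_c1 LD2_c3 LD3_c41)) :=
  Lre_b IH (LK LD1_c2 LD2_c13 LD3_c11) (LK LD1_c1 LD2_c3 LD3_c41) Lrfl Lrfl
theorem f164988 : Led Lsl_et (LP (LK LD1_c5 LD2_c5 LD3_c59)) = (LP (LK LD1_c2 LD2_c30 LD3_c16)) :=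
  Lre_e IH (LK LD1_c5 LD2_c5 LD3_c59) (LK LD1_c2 LD2_c30 LD3_c16) Lrfl Lrfl
def v1412 : LQ := Led Lsl_at (LP (LK LD1_c1 LD2_c13 LD3_c44))
theorem f495420 : Led Lsl_at (LP (LK LD1_c1 LD2_c13 LD3_c44)) = v1412 :=
  Lrfl
theorem f3131 : Led Lsl_gt (LP (LK LD1_c1 LD2_c12 LD3_c9)) = (LP (LK LD1_c2 LD2_c30 LD3_c16)) :=
  Lre_g IH (LK LD1_c1 LD2_c12 LD3_c9) (LK LD1_c2 LD2_c30 LD3_c16) Lrfl Lrfl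
theorem f495424 : Led Lsl_gt (LP (LK LD1_c2 LD2_c30 LD3_c16)) = v1412 :=
  Lgr Lrot46 (Lpe (f3131 IH) (Lpe (K18.f302391 IH) (Lpr_at (f495420 IH) (Lpn v1412))))
def v475 : LQ := Led Lsl_et (LP (LK LD1_c0 LD2_c42 LD3_c6))
theorem f453534 : Led Lsl_et (LP (LK LD1_c0 LD2_c42 LD3_c6)) = v475 :=
  Lrfl
theorem f453535 : Led Lsl_ef (LP (LK LD1_c0 LD2_c42 LD3_c6)) = v475 :=
  Lgr Lrot88 (Lpr_et (f453534 IH) (Lpn v475))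
theorem f161042 : Led Lsl_et (LP (LK LD1_c1 LD2_c5 LD3_c48)) = (LP (LK LD1_c2 LD2_c17 LD3_c46)) :=
  Lre_e IH (LK LD1_c1 LD2_c5 LD3_c48) (LK LD1_c2 LD2_c17 LD3_c46) Lrfl Lrfl
theorem f499909 : Led Lsl_af v475 = (LP (LK LD1_c2 LD2_c17 LD3_c46)) :=
  Lgr Lrot50 (Lpe (f453535 IH) (Lpr_at (K32.f453528 IH) (Lpqs (K32.f496746 IH) (Lpr_et (f161042 IH) (Lpn (LP (LK LD1_c2 LD2_c17 LD3_c46)))))))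
theorem f499910 : Led Lsl_at v475 = (LP (LK LD1_c2 LD2_c17 LD3_c46)) :=
  Lgr Lrot100 (Lpr_af (f499909 IH) (Lpn (LP (LK LD1_c2 LD2_c17 LD3_c46))))
def v1249 : LQ := Led Lsl_bt (LP (LK LD1_c1 LD2_c4 LD3_c13))
theorem f494307 : Led Lsl_bt (LP (LK LD1_c1 LD2_c4 LD3_c13)) = v1249 :=
  Lrfl
theorem f494309 : Led Lsl_ef (LP (LK LD1_c1 LD2_c13 LD3_c44)) = v1249 :=
  Lgr Lrot29 (Lpr_bt (K18.f20497 IH) (Lpr_et (K11.f20493 IH) (Lpr_bt (f494307 IH) (Lpn v1249))))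
theorem f537308 : (LP (LK LD1_c0 LD2_c42 LD3_c6)) = v1249 :=
  Lefun (Lecon (Lfl_bf (K36.f453533 IH)) (K36.f537132 IH)) (f494307 IH)
theorem f537698 : (LP (LK LD1_c1 LD2_c13 LD3_c44)) = v475 :=
  Lefun (Lecon (Lfl_ef (f494309 IH)) (f537308 IH).symm) (f453534 IH)
theorem f537888 : (LP (LK LD1_c2 LD2_c17 LD3_c46)) = v1412 :=
  Lefun (Lecon (f499910 IH) (f537698 IH).symm) (f495420 IH)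
theorem f141857 : Led Lsl_et (LP (LK LD1_c0 LD2_c17 LD3_c8)) = (LP (LK LD1_c0 LD2_c38 LD3_c32)) :=
  Lre_e IH (LK LD1_c0 LD2_c17 LD3_c8) (LK LD1_c0 LD2_c38 LD3_c32) Lrfl Lrfl
def v440 : LQ := Led Lsl_gt (LP (LK LD1_c0 LD2_c38 LD3_c32))
theorem f452832 : Led Lsl_gt (LP (LK LD1_c0 LD2_c38 LD3_c32)) = v440 :=
  Lrfl
def v1654 : LQ := Led Lsl_ft (LP (LK LD1_c1 LD2_c23 LD3_c18))
theorem f500575 : Led Lsl_ft (LP (LK LD1_c1 LD2_c23 LD3_c18)) = v1654 :=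
  Lrfl
def v1651 : LQ := Led Lsl_at (LP (LK LD1_c1 LD2_c23 LD3_c18))
theorem f500564 : Led Lsl_at (LP (LK LD1_c1 LD2_c23 LD3_c18)) = v1651 :=
  Lrfl
theorem f500565 : Led Lsl_af (LP (LK LD1_c1 LD2_c23 LD3_c18)) = v1651 :=
  Lgr Lrot0 (Lpr_at (f500564 IH) (Lpn v1651))
def v1648 : LQ := Led Lsl_ft (LP (LK LD1_c1 LD2_c23 LD3_c9))
theorem f500528 : Led Lsl_ft (LP (LK LD1_c1 LD2_c23 LD3_c9)) = v1648 :=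
  Lrfl
theorem f500532 : Led Lsl_ff (LP (LK LD1_c1 LD2_c23 LD3_c9)) = v1648 :=
  Lgr Lrot3 (Lpr_ft (f500528 IH) (Lpn v1648))
theorem f71975 : Led Lsl_at (LP (LK LD1_c1 LD2_c23 LD3_c9)) = (LP (LK LD1_c0 LD2_c38 LD3_c32)) :=
  Lre_a IH (LK LD1_c1 LD2_c23 LD3_c9) (LK LD1_c0 LD2_c38 LD3_c32) Lrfl Lrfl
theorem f82182 : Led Lsl_gt (LP (LK LD1_c1 LD2_c23 LD3_c18)) = (LP (LK LD1_c0 LD2_c38 LD3_c32)) :=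
  Lre_g IH (LK LD1_c1 LD2_c23 LD3_c18) (LK LD1_c0 LD2_c38 LD3_c32) Lrfl Lrfl
theorem f500541 : Led Lsl_gf (LP (LK LD1_c1 LD2_c23 LD3_c18)) = v1648 :=
  Lgr Lrot47 (Lpr_gt (f82182 IH) (Lpe (f71975 IH) (Lpr_ff (f500532 IH) (Lpn v1648))))
theorem f442600 : Led Lsl_ft (LP (LK LD1_c0 LD2_c38 LD3_c32)) = (LP (LK LD1_c1 LD2_c23 LD3_c20)) :=
  Lre_f IH (LK LD1_c0 LD2_c38 LD3_c32) (LK LD1_c1 LD2_c23 LD3_c20) Lrfl Lrfl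
theorem f500538 : Led Lsl_at (LP (LK LD1_c1 LD2_c23 LD3_c20)) = v1648 :=
  Lgr Lrot66 (Lpe (f442600 IH) (Lpe (f71975 IH) (Lpr_ff (f500532 IH) (Lpn v1648))))
theorem f500553 : Led Lsl_gt v440 = v1648 :=
  Lgr Lrot46 (Lpe (f452832 IH) (Lpr_ft (f442600 IH) (Lpr_at (f500538 IH) (Lpn v1648))))
theorem f500566 : Led Lsl_ft v440 = v1651 :=
  Lgr Lrot2 (Lpr_gt (f500553 IH) (Lpe (f500541 IH) (Lpr_af (f500565 IH) (Lpn v1651))))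
theorem f500576 : Led Lsl_af v440 = v1654 :=
  Lgr Lrot45 (Lpr_ft (f500566 IH) (Lpe (f500565 IH) (Lpr_ft (f500575 IH) (Lpn v1654))))
theorem f494498 : Led Lsl_at (LP (LK LD1_c2 LD2_c15 LD3_c30)) = (LP (LK LD1_c1 LD2_c5 LD3_c3)) :=
  Lre_a IH (LK LD1_c2 LD2_c15 LD3_c30) (LK LD1_c1 LD2_c5 LD3_c3) Lrfl Lrfl
theorem f500621 : Led Lsl_ft (LP (LK LD1_c1 LD2_c23 LD3_c27)) = (LP (LK LD1_c2 LD2_c47 LD3_c36)) :=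
  Lre_f IH (LK LD1_c1 LD2_c23 LD3_c27) (LK LD1_c2 LD2_c47 LD3_c36) Lrfl Lrfl
theorem f387214 : Led Lsl_ft (LP (LK LD1_c1 LD2_c10 LD3_c56)) = (LP (LK LD1_c2 LD2_c27 LD3_c28)) :=
  Lre_f IH (LK LD1_c1 LD2_c10 LD3_c56) (LK LD1_c2 LD2_c27 LD3_c28) Lrfl Lrfl
theorem f72505 : Led Lsl_dt (LP (LK LD1_c1 LD2_c10 LD3_c56)) = (LP (LK LD1_c2 LD2_c27 LD3_c27)) :=
  Lre_d IH (LK LD1_c1 LD2_c10 LD3_c56) (LK LD1_c2 LD2_c27 LD3_c27) Lrfl Lrfl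
theorem f539890 : Led Lsl_ct (LP (LK LD1_c2 LD2_c27 LD3_c27)) = (LP (LK LD1_c4 LD2_c59 LD3_c8)) :=
  Lre_c IH (LK LD1_c2 LD2_c27 LD3_c27) (LK LD1_c4 LD2_c59 LD3_c8) Lrfl Lrfl
theorem f545746 : Led Lsl_dt (LP (LK LD1_c4 LD2_c59 LD3_c8)) = (LP (LK LD1_c9 LD2_c48 LD3_c46)) :=
  Lre_d IH (LK LD1_c4 LD2_c59 LD3_c8) (LK LD1_c9 LD2_c48 LD3_c46) Lrfl Lrfl
theorem f545747 : Led Lsl_ct (LP (LK LD1_c9 LD2_c48 LD3_c46)) = (LP (LK LD1_c17 LD2_c59 LD3_c4)) :=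
  Lre_c IH (LK LD1_c9 LD2_c48 LD3_c46) (LK LD1_c17 LD2_c59 LD3_c4) Lrfl Lrfl
theorem f539816 : Led Lsl_af (LP (LK LD1_c4 LD2_c35 LD3_c4)) = (LP (LK LD1_c2 LD2_c27 LD3_c28)) :=
  Lgr Lrot45 (Lpr_ft (K36.f539814 IH) (Lpr_at (K36.f438132 IH) (Lpr_ft (f387214 IH) (Lpn (LP (LK LD1_c2 LD2_c27 LD3_c28))))))
def v1274 : LQ := Led Lsl_et (LP (LK LD1_c1 LD2_c4 LD3_c56))
theorem f494469 : Led Lsl_et (LP (LK LD1_c1 LD2_c4 LD3_c56)) = v1274 :=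
  Lrfl
theorem f80216 : Led Lsl_et (LP (LK LD1_c1 LD2_c4 LD3_c59)) = (LP (LK LD1_c0 LD2_c29 LD3_c40)) :=
  Lre_e IH (LK LD1_c1 LD2_c4 LD3_c59) (LK LD1_c0 LD2_c29 LD3_c40) Lrfl Lrfl
theorem f494470 : Led Lsl_bf (LP (LK LD1_c1 LD2_c4 LD3_c59)) = v1274 :=
  Lgr Lrot96 (Lpr_et (f80216 IH) (Lpr_bt (K35.f119694 IH) (Lpr_et (f494469 IH) (Lpn v1274))))
theorem f537556 : (LP (LK LD1_c0 LD2_c38 LD3_c61)) = v1274 :=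
  Lefun (Lecon (Lfl_ef (K35.f452911 IH)) (K35.f537228 IH).symm) (f494469 IH)
theorem f541534 : Led Lsl_cf (LP (LK LD1_c4 LD2_c35 LD3_c4)) = (LP (LK LD1_c2 LD2_c27 LD3_c48)) :=
  Lgr Lrot125 (Lpr_gt (K36.f500368 IH) (Lpqs (K36.f539826 IH) (Lpq (K36.f539836 IH) (Lpe (K36.f500755 IH) (Lpr_bt (K36.f500751 IH) (Lpq (K36.f541531 IH) (Lpr_gt (K36.f99671 IH) (Lpr_bf (f494470 IH) (Lpq (f537556 IH) (Lpr_ct (K9.f175565 IH) (Lpr_gt (K9.f27239 IH) (Lpe (K9.f26035 IH) (Lpr_bt (K9.f100579 IH) (Lpr_gt (K31.f104895 IH) (Lpn (LP (LK LD1_c2 LD2_c27 LD3_c48)))))))))))))))))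
theorem f500918 : Led Lsl_dt (LP (LK LD1_c5 LD2_c0 LD3_c4)) = (LP (LK LD1_c2 LD2_c27 LD3_c48)) :=
  Lre_d IH (LK LD1_c5 LD2_c0 LD3_c4) (LK LD1_c2 LD2_c27 LD3_c48) Lrfl Lrfl
theorem f545748 : Led Lsl_ct (LP (LK LD1_c9 LD2_c50 LD3_c42)) = (LP (LK LD1_c5 LD2_c0 LD3_c4)) :=
  Lre_c IH (LK LD1_c9 LD2_c50 LD3_c42) (LK LD1_c5 LD2_c0 LD3_c4) Lrfl Lrfl
theorem f545749 : Led Lsl_dt (LP (LK LD1_c17 LD2_c59 LD3_c4)) = (LP (LK LD1_c9 LD2_c50 LD3_c42)) :=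
  Lgr Lrot140 (Lpe (f545747 IH) (Lpe (f545746 IH) (Lpe (f539890 IH) (Lpe (f72505 IH) (Lpr_ft (f387214 IH) (Lpe (f539816 IH) (Lpr_cf (f541534 IH) (Lpe (f500918 IH) (Lpe (f545748 IH) (Lpn (LP (LK LD1_c9 LD2_c50 LD3_c42))))))))))))
theorem f545753 : Led Lsl_ft (LP (LK LD1_c4 LD2_c59 LD3_c8)) = (LP (LK LD1_c9 LD2_c48 LD3_c47)) :=
  Lre_f IH (LK LD1_c4 LD2_c59 LD3_c8) (LK LD1_c9 LD2_c48 LD3_c47) Lrfl Lrfl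
theorem f211066 : Led Lsl_dt (LP (LK LD1_c4 LD2_c35 LD3_c4)) = (LP (LK LD1_c9 LD2_c6 LD3_c54)) :=
  Lre_d IH (LK LD1_c4 LD2_c35 LD3_c4) (LK LD1_c9 LD2_c6 LD3_c54) Lrfl Lrfl
theorem f211067 : Led Lsl_ct (LP (LK LD1_c9 LD2_c6 LD3_c54)) = (LP (LK LD1_c16 LD2_c59 LD3_c5)) :=
  Lre_c IH (LK LD1_c9 LD2_c6 LD3_c54) (LK LD1_c16 LD2_c59 LD3_c5) Lrfl Lrfl
theorem f545754 : Led Lsl_at (LP (LK LD1_c9 LD2_c48 LD3_c47)) = (LP (LK LD1_c16 LD2_c59 LD3_c5)) :=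
  Lgr Lrot33 (Lpe (f545753 IH) (Lpr_dt (f545746 IH) (Lpr_ct (f545747 IH) (Lpr_dt (f545749 IH) (Lpr_ct (f545748 IH) (Lpr_dt (f500918 IH) (Lpe (f541534 IH) (Lpr_dt (f211066 IH) (Lpr_ct (f211067 IH) (Lpn (LP (LK LD1_c16 LD2_c59 LD3_c5))))))))))))
theorem f545766 : Led Lsl_at (LP (LK LD1_c9 LD2_c48 LD3_c7)) = (LP (LK LD1_c4 LD2_c59 LD3_c8)) :=
  Lre_a IH (LK LD1_c9 LD2_c48 LD3_c7) (LK LD1_c4 LD2_c59 LD3_c8) Lrfl Lrfl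
theorem f545767 : Led Lsl_ff (LP (LK LD1_c9 LD2_c48 LD3_c7)) = (LP (LK LD1_c16 LD2_c59 LD3_c5)) :=
  Lgr Lrot30 (Lpr_at (f545766 IH) (Lpr_ft (f545753 IH) (Lpr_at (f545754 IH) (Lpn (LP (LK LD1_c16 LD2_c59 LD3_c5))))))
theorem f545790 : Led Lsl_ft (LP (LK LD1_c9 LD2_c48 LD3_c7)) = (LP (LK LD1_c16 LD2_c59 LD3_c5)) :=
  Lgr Lrot48 (Lpr_ff (f545767 IH) (Lpn (LP (LK LD1_c16 LD2_c59 LD3_c5))))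
theorem f139007 : Led Lsl_ct (LP (LK LD1_c4 LD2_c58 LD3_c51)) = (LP (LK LD1_c9 LD2_c48 LD3_c7)) :=
  Lre_c IH (LK LD1_c4 LD2_c58 LD3_c51) (LK LD1_c9 LD2_c48 LD3_c7) Lrfl Lrfl
theorem f545456 : Led Lsl_ct (LP (LK LD1_c16 LD2_c59 LD3_c5)) = (LP (LK LD1_c9 LD2_c6 LD3_c54)) :=
  Lre_c IH (LK LD1_c16 LD2_c59 LD3_c5) (LK LD1_c9 LD2_c6 LD3_c54) Lrfl Lrfl
theorem f545800 : Led Lsl_ff (LP (LK LD1_c4 LD2_c58 LD3_c51)) = (LP (LK LD1_c9 LD2_c6 LD3_c54)) :=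
  Lgr Lrot23 (Lpr_ct (f139007 IH) (Lpr_ft (f545790 IH) (Lpr_ct (f545456 IH) (Lpn (LP (LK LD1_c9 LD2_c6 LD3_c54))))))
theorem f139003 : Led Lsl_at (LP (LK LD1_c4 LD2_c58 LD3_c51)) = (LP (LK LD1_c2 LD2_c27 LD3_c27)) :=
  Lre_a IH (LK LD1_c4 LD2_c58 LD3_c51) (LK LD1_c2 LD2_c27 LD3_c27) Lrfl Lrfl
theorem f539893 : Led Lsl_ct (LP (LK LD1_c4 LD2_c59 LD3_c8)) = (LP (LK LD1_c2 LD2_c27 LD3_c27)) :=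
  Lre_c IH (LK LD1_c4 LD2_c59 LD3_c8) (LK LD1_c2 LD2_c27 LD3_c27) Lrfl Lrfl
theorem f539891 : Led Lsl_dt (LP (LK LD1_c9 LD2_c48 LD3_c46)) = (LP (LK LD1_c4 LD2_c59 LD3_c8)) :=
  Lre_d IH (LK LD1_c9 LD2_c48 LD3_c46) (LK LD1_c4 LD2_c59 LD3_c8) Lrfl Lrfl
theorem f545811 : Led Lsl_ct (LP (LK LD1_c17 LD2_c59 LD3_c4)) = (LP (LK LD1_c9 LD2_c48 LD3_c46)) :=
  Lre_c IH (LK LD1_c17 LD2_c59 LD3_c4) (LK LD1_c9 LD2_c48 LD3_c46) Lrfl Lrfl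
theorem f545751 : Led Lsl_df (LP (LK LD1_c17 LD2_c59 LD3_c4)) = (LP (LK LD1_c9 LD2_c50 LD3_c42)) :=
  Lgr Lrot38 (Lpr_dt (f545749 IH) (Lpn (LP (LK LD1_c9 LD2_c50 LD3_c42))))
theorem f241212 : Led Lsl_ct (LP (LK LD1_c5 LD2_c0 LD3_c4)) = (LP (LK LD1_c9 LD2_c50 LD3_c42)) :=
  Lre_c IH (LK LD1_c5 LD2_c0 LD3_c4) (LK LD1_c9 LD2_c50 LD3_c42) Lrfl Lrfl
theorem f104896 : Led Lsl_dt (LP (LK LD1_c2 LD2_c27 LD3_c48)) = (LP (LK LD1_c5 LD2_c0 LD3_c4)) :=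
  Lre_d IH (LK LD1_c2 LD2_c27 LD3_c48) (LK LD1_c5 LD2_c0 LD3_c4) Lrfl Lrfl
theorem f500369 : Led Lsl_dt (LP (LK LD1_c9 LD2_c6 LD3_c54)) = (LP (LK LD1_c4 LD2_c35 LD3_c4)) :=
  Lre_d IH (LK LD1_c9 LD2_c6 LD3_c54) (LK LD1_c4 LD2_c35 LD3_c4) Lrfl Lrfl
theorem f545812 : Led Lsl_cf (LP (LK LD1_c2 LD2_c27 LD3_c48)) = (LP (LK LD1_c4 LD2_c35 LD3_c4)) :=
  Lgr Lrot118 (Lpr_dt (f104896 IH) (Lpr_ct (f241212 IH) (Lpe (f545751 IH) (Lpr_ct (f545811 IH) (Lpr_dt (f539891 IH) (Lpr_ct (f539893 IH) (Lpe (f139003 IH) (Lpr_ff (f545800 IH) (Lpr_dt (f500369 IH) (Lpn (LP (LK LD1_c4 LD2_c35 LD3_c4))))))))))))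
def v1652 : LQ := Led Lsl_bt (LP (LK LD1_c1 LD2_c23 LD3_c18))
theorem f500568 : Led Lsl_bt (LP (LK LD1_c1 LD2_c23 LD3_c18)) = v1652 :=
  Lrfl
theorem f500569 : Led Lsl_bf (LP (LK LD1_c1 LD2_c23 LD3_c18)) = v1652 :=
  Lgr Lrot24 (Lpr_bt (f500568 IH) (Lpn v1652))
theorem f545826 : (LP (LK LD1_c2 LD2_c47 LD3_c36)) = v1652 :=
  (Llr Lrot163 (Lpr_ct (K36.f101557 IH) (Lpe (K31.f100576 IH) (Lpr_cf (f545812 IH) (Lpe (K36.f211065 IH) (Lpe (K36.f211060 IH) (Lpr_ct (K12.f211063 IH) (Lpe (K10.f37720 IH) (Lpr_cf (K2.f37925 IH) (Lpr_bt (K2.f71445 IH) (Lpe (f82182 IH) (Lpr_bf (f500569 IH) (Lpn v1652))))))))))))).symm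
theorem f545830 : (LP (LK LD1_c2 LD2_c15 LD3_c30)) = v1654 :=
  (Llr Lrot61 (Lpr_bt (K31.f100584 IH) (Lpr_ft (f500621 IH) (Lpqs (f545826 IH) (Lpe (f500569 IH) (Lpr_ft (f500575 IH) (Lpn v1654))))))).symm
theorem f545833 : v440 = (LP (LK LD1_c1 LD2_c5 LD3_c3)) :=
  Lefun (Lecon (Lfl_af (f500576 IH)) (f545830 IH).symm) (f494498 IH)
theorem f142145 : Led Lsl_dt (LP (LK LD1_c1 LD2_c5 LD3_c3)) = (LP (LK LD1_c2 LD2_c16 LD3_c16)) :=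
  Lre_d IH (LK LD1_c1 LD2_c5 LD3_c3) (LK LD1_c2 LD2_c16 LD3_c16) Lrfl Lrfl
theorem f142146 : Led Lsl_gt (LP (LK LD1_c2 LD2_c16 LD3_c16)) = (LP (LK LD1_c4 LD2_c38 LD3_c25)) :=
  Lre_g IH (LK LD1_c2 LD2_c16 LD3_c16) (LK LD1_c4 LD2_c38 LD3_c25) Lrfl Lrfl
theorem f546673 : Led Lsl_dt (LP (LK LD1_c5 LD2_c5 LD3_c59)) = (LP (LK LD1_c4 LD2_c38 LD3_c25)) :=
  Lgr Lrot56 (Lpr_et (f164988 IH) (Lpr_gt (f495424 IH) (Lpq (f537888 IH) (Lpe (f161042 IH) (Lpe (K8.f161032 IH) (Lpr_gt (K8.f71856 IH) (Lpe (K6.f24072 IH) (Lpr_et (f141857 IH) (Lpr_gt (f452832 IH) (Lpqs (f545833 IH) (Lpr_dt (f142145 IH) (Lpr_gt (f142146 IH) (Lpn (LP (LK LD1_c4 LD2_c38 LD3_c25)))))))))))))))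
theorem f164731 : Led Lsl_et (LP (LK LD1_c1 LD2_c18 LD3_c37)) = (LP (LK LD1_c1 LD2_c12 LD3_c9)) :=
  Lgr Lrot74 (Lpe (K32.f164729 IH) (Lpr_ef (K9.f164727 IH) (Lpe (K18.f164730 IH) (Lpn (LP (LK LD1_c1 LD2_c12 LD3_c9))))))
theorem f164830 : Led Lsl_dt (LP (LK LD1_c1 LD2_c18 LD3_c37)) = (LP (LK LD1_c2 LD2_c44 LD3_c33)) :=
  Lre_d IH (LK LD1_c1 LD2_c18 LD3_c37) (LK LD1_c2 LD2_c44 LD3_c33) Lrfl Lrfl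
theorem f494503 : Led Lsl_ft (LP (LK LD1_c1 LD2_c5 LD3_c3)) = (LP (LK LD1_c2 LD2_c13 LD3_c38)) :=
  Lre_f IH (LK LD1_c1 LD2_c5 LD3_c3) (LK LD1_c2 LD2_c13 LD3_c38) Lrfl Lrfl
theorem f176068 : Led Lsl_ct (LP (LK LD1_c2 LD2_c16 LD3_c16)) = (LP (LK LD1_c4 LD2_c38 LD3_c27)) :=
  Lre_c IH (LK LD1_c2 LD2_c16 LD3_c16) (LK LD1_c4 LD2_c38 LD3_c27) Lrfl Lrfl
theorem f542331 : Led Lsl_dt (LP (LK LD1_c4 LD2_c38 LD3_c27)) = (LP (LK LD1_c9 LD2_c12 LD3_c46)) :=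
  Lre_d IH (LK LD1_c4 LD2_c38 LD3_c27) (LK LD1_c9 LD2_c12 LD3_c46) Lrfl Lrfl
theorem f542332 : Led Lsl_ct (LP (LK LD1_c9 LD2_c12 LD3_c46)) = (LP (LK LD1_c17 LD2_c7 LD3_c15)) :=
  Lre_c IH (LK LD1_c9 LD2_c12 LD3_c46) (LK LD1_c17 LD2_c7 LD3_c15) Lrfl Lrfl
theorem f545850 : v1651 = (LP (LK LD1_c2 LD2_c13 LD3_c38)) :=
  Lefun (Lecon (f500566 IH) (f545833 IH)) (f494503 IH)
theorem f82183 : Led Lsl_ct (LP (LK LD1_c2 LD2_c54 LD3_c47)) = (LP (LK LD1_c1 LD2_c23 LD3_c18)) :=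
  Lre_c IH (LK LD1_c2 LD2_c54 LD3_c47) (LK LD1_c1 LD2_c23 LD3_c18) Lrfl Lrfl
theorem f500548 : Led Lsl_dt (LP (LK LD1_c5 LD2_c57 LD3_c0)) = (LP (LK LD1_c2 LD2_c54 LD3_c47)) :=
  Lre_d IH (LK LD1_c5 LD2_c57 LD3_c0) (LK LD1_c2 LD2_c54 LD3_c47) Lrfl Lrfl
theorem f500547 : Led Lsl_ct (LP (LK LD1_c11 LD2_c39 LD3_c19)) = (LP (LK LD1_c5 LD2_c57 LD3_c0)) :=
  Lre_c IH (LK LD1_c11 LD2_c39 LD3_c19) (LK LD1_c5 LD2_c57 LD3_c0) Lrfl Lrfl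
theorem f545853 : Led Lsl_dt (LP (LK LD1_c17 LD2_c7 LD3_c15)) = (LP (LK LD1_c11 LD2_c39 LD3_c19)) :=
  Lgr Lrot140 (Lpe (f542332 IH) (Lpe (f542331 IH) (Lpe (f176068 IH) (Lpe (f142145 IH) (Lpr_ft (f494503 IH) (Lpq (f545850 IH) (Lpe (f500565 IH) (Lpe (f82183 IH) (Lpe (f500548 IH) (Lpe (f500547 IH) (Lpn (LP (LK LD1_c11 LD2_c39 LD3_c19)))))))))))))
theorem f192780 : Led Lsl_ct (LP (LK LD1_c2 LD2_c10 LD3_c27)) = (LP (LK LD1_c1 LD2_c5 LD3_c3)) :=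
  Lre_c IH (LK LD1_c2 LD2_c10 LD3_c27) (LK LD1_c1 LD2_c5 LD3_c3) Lrfl Lrfl
theorem f494499 : Led Lsl_dt (LP (LK LD1_c4 LD2_c26 LD3_c27)) = (LP (LK LD1_c2 LD2_c10 LD3_c27)) :=
  Lre_d IH (LK LD1_c4 LD2_c26 LD3_c27) (LK LD1_c2 LD2_c10 LD3_c27) Lrfl Lrfl
theorem f545875 : Led Lsl_ft (LP (LK LD1_c4 LD2_c26 LD3_c27)) = (LP (LK LD1_c8 LD2_c44 LD3_c51)) :=
  Lre_f IH (LK LD1_c4 LD2_c26 LD3_c27) (LK LD1_c8 LD2_c44 LD3_c51) Lrfl Lrfl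
theorem f545876 : Led Lsl_at (LP (LK LD1_c8 LD2_c44 LD3_c51)) = (LP (LK LD1_c5 LD2_c57 LD3_c0)) :=
  Lgr Lrot33 (Lpe (f545875 IH) (Lpr_dt (f494499 IH) (Lpr_ct (f192780 IH) (Lpr_dt (f142145 IH) (Lpr_ct (f176068 IH) (Lpr_dt (f542331 IH) (Lpr_ct (f542332 IH) (Lpr_dt (f545853 IH) (Lpr_ct (f500547 IH) (Lpn (LP (LK LD1_c5 LD2_c57 LD3_c0))))))))))))
theorem f101327 : Led Lsl_at (LP (LK LD1_c8 LD2_c48 LD3_c52)) = (LP (LK LD1_c4 LD2_c26 LD3_c27)) :=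
  Lre_a IH (LK LD1_c8 LD2_c48 LD3_c52) (LK LD1_c4 LD2_c26 LD3_c27) Lrfl Lrfl
theorem f545887 : Led Lsl_ff (LP (LK LD1_c8 LD2_c48 LD3_c52)) = (LP (LK LD1_c5 LD2_c57 LD3_c0)) :=
  Lgr Lrot30 (Lpr_at (f101327 IH) (Lpr_ft (f545875 IH) (Lpr_at (f545876 IH) (Lpn (LP (LK LD1_c5 LD2_c57 LD3_c0))))))
theorem f545905 : Led Lsl_ft (LP (LK LD1_c8 LD2_c48 LD3_c52)) = (LP (LK LD1_c5 LD2_c57 LD3_c0)) :=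
  Lgr Lrot48 (Lpr_ff (f545887 IH) (Lpn (LP (LK LD1_c5 LD2_c57 LD3_c0))))
theorem f16191 : Led Lsl_et (LP (LK LD1_c16 LD2_c29 LD3_c14)) = (LP (LK LD1_c8 LD2_c48 LD3_c52)) :=
  Lre_e IH (LK LD1_c16 LD2_c29 LD3_c14) (LK LD1_c8 LD2_c48 LD3_c52) Lrfl Lrfl
theorem f16207 : Led Lsl_ft (LP (LK LD1_c26 LD2_c26 LD3_c18)) = (LP (LK LD1_c16 LD2_c29 LD3_c14)) :=
  Lre_f IH (LK LD1_c26 LD2_c26 LD3_c18) (LK LD1_c16 LD2_c29 LD3_c14) Lrfl Lrfl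
theorem f545884 : Led Lsl_et (LP (LK LD1_c5 LD2_c57 LD3_c0)) = (LP (LK LD1_c11 LD2_c39 LD3_c20)) :=
  Lre_e IH (LK LD1_c5 LD2_c57 LD3_c0) (LK LD1_c11 LD2_c39 LD3_c20) Lrfl Lrfl
theorem f545919 : Led Lsl_ft (LP (LK LD1_c11 LD2_c39 LD3_c20)) = (LP (LK LD1_c20 LD2_c38 LD3_c53)) :=
  Lre_f IH (LK LD1_c11 LD2_c39 LD3_c20) (LK LD1_c20 LD2_c38 LD3_c53) Lrfl Lrfl
theorem f545920 : Led Lsl_ef (LP (LK LD1_c26 LD2_c26 LD3_c18)) = (LP (LK LD1_c20 LD2_c38 LD3_c53)) :=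
  Lgr Lrot21 (Lpr_ft (f16207 IH) (Lpr_et (f16191 IH) (Lpr_ft (f545905 IH) (Lpr_et (f545884 IH) (Lpr_ft (f545919 IH) (Lpn (LP (LK LD1_c20 LD2_c38 LD3_c53))))))))
theorem f16536 : Led Lsl_at (LP (LK LD1_c26 LD2_c26 LD3_c18)) = (LP (LK LD1_c16 LD2_c31 LD3_c1)) :=
  Lre_a IH (LK LD1_c26 LD2_c26 LD3_c18) (LK LD1_c16 LD2_c31 LD3_c1) Lrfl Lrfl
theorem f545927 : Led Lsl_et (LP (LK LD1_c16 LD2_c31 LD3_c1)) = (LP (LK LD1_c26 LD2_c20 LD3_c9)) :=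
  Lre_e IH (LK LD1_c16 LD2_c31 LD3_c1) (LK LD1_c26 LD2_c20 LD3_c9) Lrfl Lrfl
theorem f545928 : Led Lsl_at (LP (LK LD1_c26 LD2_c20 LD3_c9)) = (LP (LK LD1_c20 LD2_c38 LD3_c53)) :=
  Lgr Lrot80 (Lpe (f545927 IH) (Lpe (f16536 IH) (Lpr_ef (f545920 IH) (Lpn (LP (LK LD1_c20 LD2_c38 LD3_c53))))))
theorem f545933 : Led Lsl_af (LP (LK LD1_c26 LD2_c20 LD3_c9)) = (LP (LK LD1_c20 LD2_c38 LD3_c53)) :=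
  Lgr Lrot0 (Lpr_at (f545928 IH) (Lpn (LP (LK LD1_c20 LD2_c38 LD3_c53))))
theorem f545937 : Led Lsl_ft (LP (LK LD1_c26 LD2_c20 LD3_c9)) = (LP (LK LD1_c16 LD2_c22 LD3_c19)) :=
  Lre_f IH (LK LD1_c26 LD2_c20 LD3_c9) (LK LD1_c16 LD2_c22 LD3_c19) Lrfl Lrfl
theorem f545938 : Led Lsl_at (LP (LK LD1_c16 LD2_c22 LD3_c19)) = (LP (LK LD1_c11 LD2_c39 LD3_c20)) :=
  Lgr Lrot66 (Lpe (f545937 IH) (Lpr_af (f545933 IH) (Lpe (f545919 IH) (Lpn (LP (LK LD1_c11 LD2_c39 LD3_c20))))))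
theorem f545942 : Led Lsl_dt (LP (LK LD1_c8 LD2_c44 LD3_c49)) = (LP (LK LD1_c16 LD2_c22 LD3_c19)) :=
  Lre_d IH (LK LD1_c8 LD2_c44 LD3_c49) (LK LD1_c16 LD2_c22 LD3_c19) Lrfl Lrfl
theorem f444823 : Led Lsl_at (LP (LK LD1_c16 LD2_c21 LD3_c36)) = (LP (LK LD1_c8 LD2_c44 LD3_c49)) :=
  Lre_a IH (LK LD1_c16 LD2_c21 LD3_c36) (LK LD1_c8 LD2_c44 LD3_c49) Lrfl Lrfl
theorem f545943 : Led Lsl_df (LP (LK LD1_c16 LD2_c21 LD3_c36)) = (LP (LK LD1_c11 LD2_c39 LD3_c20)) :=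
  Lgr Lrot18 (Lpr_at (f444823 IH) (Lpr_dt (f545942 IH) (Lpr_at (f545938 IH) (Lpn (LP (LK LD1_c11 LD2_c39 LD3_c20))))))
theorem f427587 : Led Lsl_et (LP (LK LD1_c16 LD2_c21 LD3_c36)) = (LP (LK LD1_c8 LD2_c44 LD3_c15)) :=
  Lre_e IH (LK LD1_c16 LD2_c21 LD3_c36) (LK LD1_c8 LD2_c44 LD3_c15) Lrfl Lrfl
theorem f424197 : Led Lsl_dt (LP (LK LD1_c8 LD2_c44 LD3_c15)) = (LP (LK LD1_c4 LD2_c23 LD3_c16)) :=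
  Lre_d IH (LK LD1_c8 LD2_c44 LD3_c15) (LK LD1_c4 LD2_c23 LD3_c16) Lrfl Lrfl
theorem f500546 : Led Lsl_dt (LP (LK LD1_c2 LD2_c54 LD3_c47)) = (LP (LK LD1_c5 LD2_c57 LD3_c0)) :=
  Lre_d IH (LK LD1_c2 LD2_c54 LD3_c47) (LK LD1_c5 LD2_c57 LD3_c0) Lrfl Lrfl
theorem f545951 : Led Lsl_et (LP (LK LD1_c4 LD2_c23 LD3_c16)) = (LP (LK LD1_c2 LD2_c54 LD3_c47)) :=
  Lgr Lrot71 (Lpe (f424197 IH) (Lpe (f427587 IH) (Lpr_df (f545943 IH) (Lpe (f545884 IH) (Lpe (f500546 IH) (Lpn (LP (LK LD1_c2 LD2_c54 LD3_c47))))))))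
def v1653 : LQ := Led Lsl_et (LP (LK LD1_c1 LD2_c23 LD3_c18))
theorem f500571 : Led Lsl_et (LP (LK LD1_c1 LD2_c23 LD3_c18)) = v1653 :=
  Lrfl
theorem f545959 : (LP (LK LD1_c2 LD2_c13 LD3_c24)) = v1653 :=
  (Llr Lrot39 (Lpr_ct (K30.f40170 IH) (Lpr_et (f545951 IH) (Lpr_ct (f82183 IH) (Lpr_et (f500571 IH) (Lpn v1653)))))).symm
theorem f418493 : Led Lsl_dt (LP (LK LD1_c2 LD2_c54 LD3_c48)) = (LP (LK LD1_c1 LD2_c23 LD3_c18)) :=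
  Lre_d IH (LK LD1_c2 LD2_c54 LD3_c48) (LK LD1_c1 LD2_c23 LD3_c18) Lrfl Lrfl
theorem f500572 : Led Lsl_et (LP (LK LD1_c5 LD2_c57 LD3_c2)) = (LP (LK LD1_c2 LD2_c54 LD3_c48)) :=
  Lre_e IH (LK LD1_c5 LD2_c57 LD3_c2) (LK LD1_c2 LD2_c54 LD3_c48) Lrfl Lrfl
theorem f382038 : Led Lsl_dt (LP (LK LD1_c2 LD2_c13 LD3_c24)) = (LP (LK LD1_c4 LD2_c32 LD3_c48)) :=
  Lre_d IH (LK LD1_c2 LD2_c13 LD3_c24) (LK LD1_c4 LD2_c32 LD3_c48) Lrfl Lrfl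
theorem f545964 : Led Lsl_et (LP (LK LD1_c4 LD2_c32 LD3_c48)) = (LP (LK LD1_c9 LD2_c2 LD3_c59)) :=
  Lre_e IH (LK LD1_c4 LD2_c32 LD3_c48) (LK LD1_c9 LD2_c2 LD3_c59) Lrfl Lrfl
theorem f545965 : Led Lsl_df (LP (LK LD1_c5 LD2_c57 LD3_c2)) = (LP (LK LD1_c9 LD2_c2 LD3_c59)) :=
  Lgr Lrot70 (Lpr_et (f500572 IH) (Lpr_dt (f418493 IH) (Lpr_et (f500571 IH) (Lpq (f545959 IH) (Lpr_dt (f382038 IH) (Lpr_et (f545964 IH) (Lpn (LP (LK LD1_c9 LD2_c2 LD3_c59)))))))))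
theorem f545981 : Led Lsl_ft (LP (LK LD1_c5 LD2_c57 LD3_c2)) = (LP (LK LD1_c11 LD2_c39 LD3_c25)) :=
  Lre_f IH (LK LD1_c5 LD2_c57 LD3_c2) (LK LD1_c11 LD2_c39 LD3_c25) Lrfl Lrfl
theorem f545982 : Led Lsl_ft (LP (LK LD1_c16 LD2_c53 LD3_c40)) = (LP (LK LD1_c9 LD2_c2 LD3_c59)) :=
  Lre_f IH (LK LD1_c16 LD2_c53 LD3_c40) (LK LD1_c9 LD2_c2 LD3_c59) Lrfl Lrfl
theorem f545983 : Led Lsl_dt (LP (LK LD1_c11 LD2_c39 LD3_c25)) = (LP (LK LD1_c16 LD2_c53 LD3_c40)) :=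
  Lgr Lrot60 (Lpe (f545981 IH) (Lpr_df (f545965 IH) (Lpe (f545982 IH) (Lpn (LP (LK LD1_c16 LD2_c53 LD3_c40))))))
theorem f546011 : Led Lsl_df (LP (LK LD1_c11 LD2_c39 LD3_c25)) = (LP (LK LD1_c16 LD2_c53 LD3_c40)) :=
  Lgr Lrot38 (Lpr_dt (f545983 IH) (Lpn (LP (LK LD1_c16 LD2_c53 LD3_c40))))
theorem f546030 : Led Lsl_bt (LP (LK LD1_c11 LD2_c16 LD3_c37)) = (LP (LK LD1_c16 LD2_c53 LD3_c40)) :=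
  Lre_b IH (LK LD1_c11 LD2_c16 LD3_c37) (LK LD1_c16 LD2_c53 LD3_c40) Lrfl Lrfl
theorem f546031 : Led Lsl_dt (LP (LK LD1_c17 LD2_c31 LD3_c58)) = (LP (LK LD1_c11 LD2_c16 LD3_c37)) :=
  Lre_d IH (LK LD1_c17 LD2_c31 LD3_c58) (LK LD1_c11 LD2_c16 LD3_c37) Lrfl Lrfl
theorem f546032 : Led Lsl_bt (LP (LK LD1_c11 LD2_c39 LD3_c25)) = (LP (LK LD1_c17 LD2_c31 LD3_c58)) :=
  Lgr Lrot95 (Lpr_df (f546011 IH) (Lpe (f546030 IH) (Lpe (f546031 IH) (Lpn (LP (LK LD1_c17 LD2_c31 LD3_c58))))))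
theorem f546052 : Led Lsl_ft (LP (LK LD1_c17 LD2_c31 LD3_c58)) = (LP (LK LD1_c11 LD2_c16 LD3_c36)) :=
  Lre_f IH (LK LD1_c17 LD2_c31 LD3_c58) (LK LD1_c11 LD2_c16 LD3_c36) Lrfl Lrfl
theorem f546053 : Led Lsl_bf (LP (LK LD1_c5 LD2_c57 LD3_c2)) = (LP (LK LD1_c11 LD2_c16 LD3_c36)) :=
  Lgr Lrot61 (Lpr_ft (f545981 IH) (Lpr_bt (f546032 IH) (Lpr_ft (f546052 IH) (Lpn (LP (LK LD1_c11 LD2_c16 LD3_c36))))))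
theorem f546062 : Led Lsl_et (LP (LK LD1_c5 LD2_c43 LD3_c12)) = (LP (LK LD1_c11 LD2_c16 LD3_c36)) :=
  Lre_e IH (LK LD1_c5 LD2_c43 LD3_c12) (LK LD1_c11 LD2_c16 LD3_c36) Lrfl Lrfl
theorem f546063 : Led Lsl_bt (LP (LK LD1_c2 LD2_c54 LD3_c48)) = (LP (LK LD1_c5 LD2_c43 LD3_c12)) :=
  Lgr Lrot119 (Lpe (f500572 IH) (Lpr_bf (f546053 IH) (Lpe (f546062 IH) (Lpn (LP (LK LD1_c5 LD2_c43 LD3_c12))))))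
theorem f539268 : Led Lsl_at (LP (LK LD1_c5 LD2_c43 LD3_c12)) = (LP (LK LD1_c2 LD2_c48 LD3_c20)) :=
  Lre_a IH (LK LD1_c5 LD2_c43 LD3_c12) (LK LD1_c2 LD2_c48 LD3_c20) Lrfl Lrfl
theorem f9405 : Led Lsl_bt (LP (LK LD1_c2 LD2_c13 LD3_c49)) = (LP (LK LD1_c4 LD2_c33 LD3_c25)) :=
  Lre_b IH (LK LD1_c2 LD2_c13 LD3_c49) (LK LD1_c4 LD2_c33 LD3_c25) Lrfl Lrfl
theorem f546066 : Led Lsl_af (LP (LK LD1_c2 LD2_c54 LD3_c48)) = (LP (LK LD1_c4 LD2_c33 LD3_c25)) :=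
  Lgr Lrot36 (Lpr_bt (f546063 IH) (Lpr_at (f539268 IH) (Lpr_bt (f24004 IH) (Lpr_at (K0.f9377 IH) (Lpr_bt (f9405 IH) (Lpn (LP (LK LD1_c4 LD2_c33 LD3_c25))))))))
theorem f509354 : Led Lsl_ft (LP (LK LD1_c2 LD2_c16 LD3_c16)) = (LP (LK LD1_c4 LD2_c33 LD3_c25)) :=
  Lre_f IH (LK LD1_c2 LD2_c16 LD3_c16) (LK LD1_c4 LD2_c33 LD3_c25) Lrfl Lrfl
theorem f546334 : Led Lsl_gf (LP (LK LD1_c2 LD2_c54 LD3_c48)) = (LP (LK LD1_c4 LD2_c38 LD3_c25)) :=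
  Lgr Lrot76 (Lpr_af (f546066 IH) (Lpe (f509354 IH) (Lpr_gt (f142146 IH) (Lpn (LP (LK LD1_c4 LD2_c38 LD3_c25))))))
theorem f500542 : Led Lsl_dt (LP (LK LD1_c1 LD2_c23 LD3_c18)) = (LP (LK LD1_c2 LD2_c54 LD3_c48)) :=
  Lre_d IH (LK LD1_c1 LD2_c23 LD3_c18) (LK LD1_c2 LD2_c54 LD3_c48) Lrfl Lrfl
theorem f422831 : Led Lsl_gt (LP (LK LD1_c2 LD2_c13 LD3_c24)) = (LP (LK LD1_c1 LD2_c3 LD3_c46)) :=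
  Lre_g IH (LK LD1_c2 LD2_c13 LD3_c24) (LK LD1_c1 LD2_c3 LD3_c46) Lrfl Lrfl
theorem f422832 : Led Lsl_dt (LP (LK LD1_c1 LD2_c3 LD3_c46)) = (LP (LK LD1_c2 LD2_c13 LD3_c30)) :=
  Lre_d IH (LK LD1_c1 LD2_c3 LD3_c46) (LK LD1_c2 LD2_c13 LD3_c30) Lrfl Lrfl
theorem f546683 : Led Lsl_gf (LP (LK LD1_c2 LD2_c44 LD3_c33)) = (LP (LK LD1_c2 LD2_c13 LD3_c30)) :=
  Lgr Lrot134 (Lpe (f164830 IH) (Lpr_et (f164731 IH) (Lpr_gt (f3131 IH) (Lpe (f164988 IH) (Lpr_dt (f546673 IH) (Lpe (f546334 IH) (Lpe (f500542 IH) (Lpr_et (f500571 IH) (Lpq (f545959 IH) (Lpr_gt (f422831 IH) (Lpr_dt (f422832 IH) (Lpn (LP (LK LD1_c2 LD2_c13 LD3_c30))))))))))))))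
theorem f180393 : Led Lsl_bt (LP (LK LD1_c1 LD2_c18 LD3_c38)) = (LP (LK LD1_c2 LD2_c44 LD3_c33)) :=
  Lre_b IH (LK LD1_c1 LD2_c18 LD3_c38) (LK LD1_c2 LD2_c44 LD3_c33) Lrfl Lrfl
theorem f379933 : Led Lsl_bt (LP (LK LD1_c1 LD2_c3 LD3_c30)) = (LP (LK LD1_c2 LD2_c12 LD3_c56)) :=
  Lre_b IH (LK LD1_c1 LD2_c3 LD3_c30) (LK LD1_c2 LD2_c12 LD3_c56) Lrfl Lrfl
def v1516 : LQ := Led Lsl_gt (LP (LK LD1_c1 LD2_c20 LD3_c54))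
theorem f496005 : Led Lsl_gt (LP (LK LD1_c1 LD2_c20 LD3_c54)) = v1516 :=
  Lrfl
def v377 : LQ := Led Lsl_ct (LP (LK LD1_c0 LD2_c36 LD3_c47))
theorem f452513 : Led Lsl_ct (LP (LK LD1_c0 LD2_c36 LD3_c47)) = v377 :=
  Lrfl
theorem f452517 : Led Lsl_gt (LP (LK LD1_c1 LD2_c28 LD3_c29)) = v377 :=
  Lgr Lrot65 (Lpe (K24.f60641 IH) (Lpr_bt (K1.f60417 IH) (Lpe (K13.f175836 IH) (Lpr_bf (K10.f175839 IH) (Lpr_ct (K10.f175421 IH) (Lpe (K10.f60159 IH) (Lpe (K1.f60119 IH) (Lpe (K9.f60151 IH) (Lpe (K19.f204919 IH) (Lpr_ct (f452513 IH) (Lpn v377)))))))))))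
theorem f452518 : Led Lsl_gf (LP (LK LD1_c0 LD2_c37 LD3_c22)) = v377 :=
  Lgr Lrot76 (Lpe (K17.f73143 IH) (Lpe (K17.f60833 IH) (Lpr_gt (f452517 IH) (Lpn v377))))
theorem f61290 : Led Lsl_et (LP (LK LD1_c0 LD2_c16 LD3_c39)) = (LP (LK LD1_c0 LD2_c37 LD3_c22)) :=
  Lre_e IH (LK LD1_c0 LD2_c16 LD3_c39) (LK LD1_c0 LD2_c37 LD3_c22) Lrfl Lrfl
theorem f452519 : Led Lsl_et (LP (LK LD1_c1 LD2_c12 LD3_c6)) = v377 :=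
  Lgr Lrot185 (Lpr_dt (K9.f164099 IH) (Lpr_gf (K14.f250016 IH) (Lpe (K12.f61289 IH) (Lpe (K10.f61288 IH) (Lpr_ef (K8.f20464 IH) (Lpr_dt (K1.f20540 IH) (Lpr_gf (K4.f61280 IH) (Lpe (K2.f61213 IH) (Lpr_et (f61290 IH) (Lpr_gf (f452518 IH) (Lpn v377)))))))))))
theorem f494123 : Led Lsl_ef K36.v385 = K36.v1225 :=
  Lgr Lrot28 (Lpe (K36.f452554 IH) (Lpe (K36.f380688 IH) (Lpr_ct (K36.f494120 IH) (Lpn K36.v1225))))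
theorem f496008 : Led Lsl_dt K36.v1225 = v1516 :=
  Lgr Lrot56 (Lpe (f494123 IH) (Lpe (K36.f452558 IH) (Lpe (K36.f61304 IH) (Lpr_dt (K12.f61289 IH) (Lpe (K14.f250016 IH) (Lpe (K9.f164099 IH) (Lpr_et (f452519 IH) (Lpe (f452518 IH) (Lpr_dt (K9.f61318 IH) (Lpr_gt (f496005 IH) (Lpn v1516)))))))))))
theorem f494128 : Led Lsl_ft K36.v329 = K36.v1225 :=
  Lgr Lrot48 (Lpr_ff (K36.f494124 IH) (Lpn K36.v1225))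
def v1472 : LQ := Led Lsl_at (LP (LK LD1_c1 LD2_c19 LD3_c34))
theorem f495733 : Led Lsl_at (LP (LK LD1_c1 LD2_c19 LD3_c34)) = v1472 :=
  Lrfl
theorem f380112 : Led Lsl_at (LP (LK LD1_c0 LD2_c16 LD3_c23)) = (LP (LK LD1_c0 LD2_c28 LD3_c61)) :=
  Lgr Lrot66 (Lpr_ff (K30.f380108 IH) (Lpr_af (K24.f379949 IH) (Lpe (K24.f379941 IH) (Lpn (LP (LK LD1_c0 LD2_c28 LD3_c61))))))
theorem f452174 : Led Lsl_af (LP (LK LD1_c0 LD2_c36 LD3_c43)) = K36.v329 :=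
  Lgr Lrot50 (Lpr_et (K9.f172151 IH) (Lpr_at (f380112 IH) (Lpr_et (K36.f452173 IH) (Lpn K36.v329))))
theorem f495735 : Led Lsl_df K36.v329 = v1472 :=
  Lgr Lrot18 (Lpe (f452174 IH) (Lpr_dt (K9.f172152 IH) (Lpr_at (f495733 IH) (Lpn v1472))))
theorem f496010 : Led Lsl_ff v1472 = v1516 :=
  Lgr Lrot19 (Lpe (f495735 IH) (Lpr_ft (f494128 IH) (Lpr_dt (f496008 IH) (Lpn v1516))))
theorem f164995 : Led Lsl_bt (LP (LK LD1_c2 LD2_c12 LD3_c56)) = (LP (LK LD1_c1 LD2_c3 LD3_c30)) :=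
  Lre_b IH (LK LD1_c2 LD2_c12 LD3_c56) (LK LD1_c1 LD2_c3 LD3_c30) Lrfl Lrfl
theorem f225727 : Led Lsl_bt (LP (LK LD1_c0 LD2_c36 LD3_c53)) = (LP (LK LD1_c1 LD2_c19 LD3_c41)) :=
  Lre_b IH (LK LD1_c0 LD2_c36 LD3_c53) (LK LD1_c1 LD2_c19 LD3_c41) Lrfl Lrfl
theorem f379910 : Led Lsl_ff (LP (LK LD1_c2 LD2_c12 LD3_c56)) = (LP (LK LD1_c1 LD2_c19 LD3_c41)) :=
  Lgr Lrot25 (Lpr_bt (f164995 IH) (Lpr_ft (K24.f379905 IH) (Lpr_bt (f225727 IH) (Lpn (LP (LK LD1_c1 LD2_c19 LD3_c41))))))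
theorem f537181 : v1516 = (LP (LK LD1_c1 LD2_c19 LD3_c41)) :=
  Lefun (Lecon (f496008 IH) (K36.f537011 IH)) (K30.f225795 IH)
theorem f537458 : v1472 = (LP (LK LD1_c2 LD2_c12 LD3_c56)) :=
  Lefun (Lecon (Lfl_ff (f496010 IH)) (f537181 IH)) (Lfl_ff (f379910 IH))
def v1260 : LQ := Led Lsl_et (LP (LK LD1_c1 LD2_c4 LD3_c27))
theorem f494360 : Led Lsl_et (LP (LK LD1_c1 LD2_c4 LD3_c27)) = v1260 :=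
  Lrfl
theorem f494365 : Led Lsl_gt K36.v329 = v1260 :=
  Lgr Lrot131 (Lpe (K36.f452173 IH) (Lpr_dt (K15.f165000 IH) (Lpe (K15.f164714 IH) (Lpe (K12.f164711 IH) (Lpe (K9.f164710 IH) (Lpe (K9.f164998 IH) (Lpr_dt (K9.f164999 IH) (Lpr_gf (K9.f164697 IH) (Lpe (K9.f151832 IH) (Lpr_et (f494360 IH) (Lpn v1260)))))))))))
theorem f494362 : Led Lsl_cf (LP (LK LD1_c1 LD2_c10 LD3_c27)) = v1260 :=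
  Lgr Lrot39 (Lpr_et (K10.f186481 IH) (Lpe (K12.f227453 IH) (Lpr_et (f494360 IH) (Lpn v1260))))
theorem f268709 : Led Lsl_cf (LP (LK LD1_c2 LD2_c13 LD3_c14)) = (LP (LK LD1_c1 LD2_c28 LD3_c30)) :=
  Lgr Lrot11 (Lpr_ct (K16.f268705 IH) (Lpn (LP (LK LD1_c1 LD2_c28 LD3_c30))))
theorem f68781 : Led Lsl_ft (LP (LK LD1_c2 LD2_c47 LD3_c9)) = (LP (LK LD1_c5 LD2_c42 LD3_c25)) :=
  Lre_f IH (LK LD1_c2 LD2_c47 LD3_c9) (LK LD1_c5 LD2_c42 LD3_c25) Lrfl Lrfl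
theorem f68741 : Led Lsl_ct (LP (LK LD1_c5 LD2_c42 LD3_c26)) = (LP (LK LD1_c11 LD2_c15 LD3_c2)) :=
  Lre_c IH (LK LD1_c5 LD2_c42 LD3_c26) (LK LD1_c11 LD2_c15 LD3_c2) Lrfl Lrfl
theorem f68742 : Led Lsl_ct (LP (LK LD1_c11 LD2_c24 LD3_c0)) = (LP (LK LD1_c5 LD2_c46 LD3_c57)) :=
  Lre_c IH (LK LD1_c11 LD2_c24 LD3_c0) (LK LD1_c5 LD2_c46 LD3_c57) Lrfl Lrfl
theorem f68743 : Led Lsl_at (LP (LK LD1_c11 LD2_c15 LD3_c2)) = (LP (LK LD1_c11 LD2_c24 LD3_c0)) :=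
  Lgr Lrot107 (Lpe (f68741 IH) (Lpr_af (K16.f68735 IH) (Lpe (f68742 IH) (Lpn (LP (LK LD1_c11 LD2_c24 LD3_c0))))))
theorem f68766 : Led Lsl_af (LP (LK LD1_c11 LD2_c15 LD3_c2)) = (LP (LK LD1_c11 LD2_c24 LD3_c0)) :=
  Lgr Lrot0 (Lpr_at (f68743 IH) (Lpn (LP (LK LD1_c11 LD2_c24 LD3_c0))))
theorem f68773 : Led Lsl_et (LP (LK LD1_c11 LD2_c15 LD3_c2)) = (LP (LK LD1_c5 LD2_c42 LD3_c25)) :=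
  Lre_e IH (LK LD1_c11 LD2_c15 LD3_c2) (LK LD1_c5 LD2_c42 LD3_c25) Lrfl Lrfl
theorem f68774 : Led Lsl_et (LP (LK LD1_c5 LD2_c46 LD3_c56)) = (LP (LK LD1_c11 LD2_c24 LD3_c0)) :=
  Lre_e IH (LK LD1_c5 LD2_c46 LD3_c56) (LK LD1_c11 LD2_c24 LD3_c0) Lrfl Lrfl
theorem f68775 : Led Lsl_at (LP (LK LD1_c5 LD2_c42 LD3_c25)) = (LP (LK LD1_c5 LD2_c46 LD3_c56)) :=
  Lgr Lrot80 (Lpe (f68773 IH) (Lpr_af (f68766 IH) (Lpe (f68774 IH) (Lpn (LP (LK LD1_c5 LD2_c46 LD3_c56))))))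
theorem f420993 : Led Lsl_gt (LP (LK LD1_c3 LD2_c4 LD3_c51)) = (LP (LK LD1_c5 LD2_c46 LD3_c56)) :=
  Lgr Lrot46 (Lpr_gf (K36.f420991 IH) (Lpr_ft (f68781 IH) (Lpr_at (f68775 IH) (Lpn (LP (LK LD1_c5 LD2_c46 LD3_c56))))))
theorem f495737 : Led Lsl_gf (LP (LK LD1_c1 LD2_c28 LD3_c28)) = v1472 :=
  Lgr Lrot147 (Lpr_ct (K17.f60725 IH) (Lpr_gt (f420993 IH) (Lpr_ct (K16.f68737 IH) (Lpe (K36.f268721 IH) (Lpr_cf (f268709 IH) (Lpe (K24.f186487 IH) (Lpr_cf (f494362 IH) (Lpe (f494365 IH) (Lpr_df (f495735 IH) (Lpn v1472))))))))))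
theorem f68729 : Led Lsl_ct (LP (LK LD1_c2 LD2_c49 LD3_c14)) = (LP (LK LD1_c5 LD2_c46 LD3_c56)) :=
  Lre_c IH (LK LD1_c2 LD2_c49 LD3_c14) (LK LD1_c5 LD2_c46 LD3_c56) Lrfl Lrfl
theorem f546691 : Led Lsl_bt (LP (LK LD1_c2 LD2_c49 LD3_c14)) = (LP (LK LD1_c2 LD2_c13 LD3_c30)) :=
  Lgr Lrot22 (Lpr_ct (f68729 IH) (Lpe (f420993 IH) (Lpe (K17.f60725 IH) (Lpr_gf (f495737 IH) (Lpqs (f537458 IH) (Lpe (f379933 IH) (Lpr_ct (K15.f225183 IH) (Lpr_gf (K31.f180400 IH) (Lpe (K15.f180282 IH) (Lpr_bt (f180393 IH) (Lpr_gf (f546683 IH) (Lpn (LP (LK LD1_c2 LD2_c13 LD3_c30))))))))))))))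
theorem f424146 : Led Lsl_dt (LP (LK LD1_c2 LD2_c13 LD3_c30)) = (LP (LK LD1_c1 LD2_c3 LD3_c46)) :=
  Lre_d IH (LK LD1_c2 LD2_c13 LD3_c30) (LK LD1_c1 LD2_c3 LD3_c46) Lrfl Lrfl
def v1228 : LQ := Led Lsl_bt (LP (LK LD1_c1 LD2_c3 LD3_c46))
theorem f494153 : Led Lsl_bt (LP (LK LD1_c1 LD2_c3 LD3_c46)) = v1228 :=
  Lrfl
theorem f546708 : (LP (LK LD1_c2 LD2_c13 LD3_c14)) = v1228 :=
  (Llr Lrot12 (Lpr_dt (K36.f268721 IH) (Lpr_bt (f546691 IH) (Lpr_dt (f424146 IH) (Lpr_bt (f494153 IH) (Lpn v1228)))))).symm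
theorem f494155 : Led Lsl_bf (LP (LK LD1_c1 LD2_c3 LD3_c46)) = v1228 :=
  Lgr Lrot24 (Lpr_bt (f494153 IH) (Lpn v1228))
def v1226 : LQ := Led Lsl_at (LP (LK LD1_c1 LD2_c3 LD3_c45))
theorem f494131 : Led Lsl_at (LP (LK LD1_c1 LD2_c3 LD3_c45)) = v1226 :=
  Lrfl
theorem f494134 : Led Lsl_ft (LP (LK LD1_c2 LD2_c13 LD3_c28)) = (LP (LK LD1_c1 LD2_c3 LD3_c45)) :=
  Lre_f IH (LK LD1_c2 LD2_c13 LD3_c28) (LK LD1_c1 LD2_c3 LD3_c45) Lrfl Lrfl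
theorem f494135 : Led Lsl_at (LP (LK LD1_c1 LD2_c3 LD3_c46)) = (LP (LK LD1_c2 LD2_c13 LD3_c28)) :=
  Lre_a IH (LK LD1_c1 LD2_c3 LD3_c46) (LK LD1_c2 LD2_c13 LD3_c28) Lrfl Lrfl
theorem f494136 : Led Lsl_ff (LP (LK LD1_c1 LD2_c3 LD3_c46)) = v1226 :=
  Lgr Lrot30 (Lpr_at (f494135 IH) (Lpr_ft (f494134 IH) (Lpr_at (f494131 IH) (Lpn v1226))))
theorem f494140 : Led Lsl_ft (LP (LK LD1_c1 LD2_c3 LD3_c46)) = v1226 :=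
  Lgr Lrot48 (Lpr_ff (f494136 IH) (Lpn v1226))
theorem f546711 : (LP (LK LD1_c2 LD2_c13 LD3_c11)) = v1226 :=
  (Llr Lrot61 (Lpr_bt (f27013 IH) (Lpr_ft (f180347 IH) (Lpqs (f546708 IH) (Lpe (f494155 IH) (Lpr_ft (f494140 IH) (Lpn v1226))))))).symm
theorem f80214 : Led Lsl_et (LP (LK LD1_c2 LD2_c13 LD3_c31)) = (LP (LK LD1_c1 LD2_c3 LD3_c46)) :=
  Lre_e IH (LK LD1_c2 LD2_c13 LD3_c31) (LK LD1_c1 LD2_c3 LD3_c46) Lrfl Lrfl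
theorem f172414 : Led Lsl_bt (LP (LK LD1_c0 LD2_c37 LD3_c0)) = (LP (LK LD1_c0 LD2_c16 LD3_c31)) :=
  Lre_b IH (LK LD1_c0 LD2_c37 LD3_c0) (LK LD1_c0 LD2_c16 LD3_c31) Lrfl Lrfl
theorem f268881 : Led Lsl_ff (LP (LK LD1_c0 LD2_c37 LD3_c0)) = (LP (LK LD1_c1 LD2_c3 LD3_c39)) :=
  Lgr Lrot25 (Lpr_bt (f172414 IH) (Lpr_ft (K16.f268879 IH) (Lpr_bt (K36.f173359 IH) (Lpn (LP (LK LD1_c1 LD2_c3 LD3_c39))))))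
theorem f412034 : Led Lsl_et (LP (LK LD1_c0 LD2_c37 LD3_c0)) = (LP (LK LD1_c1 LD2_c20 LD3_c2)) :=
  Lre_e IH (LK LD1_c0 LD2_c37 LD3_c0) (LK LD1_c1 LD2_c20 LD3_c2) Lrfl Lrfl
def v1496 : LQ := Led Lsl_ft (LP (LK LD1_c1 LD2_c20 LD3_c2))
theorem f495848 : Led Lsl_ft (LP (LK LD1_c1 LD2_c20 LD3_c2)) = v1496 :=
  Lrfl
theorem f546720 : (LP (LK LD1_c2 LD2_c13 LD3_c31)) = v1496 :=
  (Llr Lrot21 (Lpr_et (f80214 IH) (Lpr_ft (f494140 IH) (Lpq (f546711 IH) (Lpr_et (K16.f181730 IH) (Lpe (f268881 IH) (Lpr_et (f412034 IH) (Lpr_ft (f495848 IH) (Lpn v1496))))))))).symm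
theorem f424379 : Led Lsl_dt (LP (LK LD1_c1 LD2_c20 LD3_c2)) = (LP (LK LD1_c2 LD2_c47 LD3_c28)) :=
  Lre_d IH (LK LD1_c1 LD2_c20 LD3_c2) (LK LD1_c2 LD2_c47 LD3_c28) Lrfl Lrfl
theorem f176857 : Led Lsl_ct (LP (LK LD1_c2 LD2_c47 LD3_c28)) = (LP (LK LD1_c5 LD2_c43 LD3_c1)) :=
  Lre_c IH (LK LD1_c2 LD2_c47 LD3_c28) (LK LD1_c5 LD2_c43 LD3_c1) Lrfl Lrfl
theorem f540099 : Led Lsl_df (LP (LK LD1_c7 LD2_c32 LD3_c46)) = (LP (LK LD1_c5 LD2_c43 LD3_c1)) :=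
  Lgr Lrot38 (Lpr_dt (K36.f540091 IH) (Lpn (LP (LK LD1_c5 LD2_c43 LD3_c1))))
theorem f93069 : Led Lsl_dt (LP (LK LD1_c1 LD2_c45 LD3_c13)) = (LP (LK LD1_c3 LD2_c36 LD3_c46)) :=
  Lre_d IH (LK LD1_c1 LD2_c45 LD3_c13) (LK LD1_c3 LD2_c36 LD3_c46) Lrfl Lrfl
theorem f546725 : Led Lsl_at (LP (LK LD1_c2 LD2_c13 LD3_c31)) = (LP (LK LD1_c4 LD2_c32 LD3_c61)) :=
  Lre_a IH (LK LD1_c2 LD2_c13 LD3_c31) (LK LD1_c4 LD2_c32 LD3_c61) Lrfl Lrfl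
theorem f546734 : Led Lsl_ct (LP (LK LD1_c3 LD2_c36 LD3_c46)) = (LP (LK LD1_c4 LD2_c32 LD3_c61)) :=
  Lgr Lrot98 (Lpe (f93069 IH) (Lpr_cf (K4.f17309 IH) (Lpe (K36.f92930 IH) (Lpe (K5.f92757 IH) (Lpr_df (f540099 IH) (Lpe (f176857 IH) (Lpe (f424379 IH) (Lpr_ft (f495848 IH) (Lpq (f546720 IH) (Lpr_at (f546725 IH) (Lpn (LP (LK LD1_c4 LD2_c32 LD3_c61)))))))))))))
theorem f94786 : Led Lsl_bt (LP (LK LD1_c1 LD2_c5 LD3_c36)) = (LP (LK LD1_c0 LD2_c46 LD3_c22)) :=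
  Lgr Lrot127 (Lpr_bf (K3.f94783 IH) (Lpn (LP (LK LD1_c0 LD2_c46 LD3_c22))))
theorem f93087 : Led Lsl_bt (LP (LK LD1_c1 LD2_c45 LD3_c14)) = (LP (LK LD1_c3 LD2_c36 LD3_c46)) :=
  Lre_b IH (LK LD1_c1 LD2_c45 LD3_c14) (LK LD1_c3 LD2_c36 LD3_c46) Lrfl Lrfl
theorem f92528 : Led Lsl_bt (LP (LK LD1_c3 LD2_c36 LD3_c57)) = (LP (LK LD1_c1 LD2_c45 LD3_c19)) :=
  Lre_b IH (LK LD1_c3 LD2_c36 LD3_c57) (LK LD1_c1 LD2_c45 LD3_c19) Lrfl Lrfl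
theorem f92529 : Led Lsl_ct (LP (LK LD1_c7 LD2_c14 LD3_c8)) = (LP (LK LD1_c3 LD2_c36 LD3_c57)) :=
  Lre_c IH (LK LD1_c7 LD2_c14 LD3_c8) (LK LD1_c3 LD2_c36 LD3_c57) Lrfl Lrfl
theorem f546738 : Led Lsl_bf (LP (LK LD1_c7 LD2_c14 LD3_c8)) = (LP (LK LD1_c4 LD2_c32 LD3_c61)) :=
  Lgr Lrot90 (Lpr_ct (f92529 IH) (Lpr_bt (f92528 IH) (Lpr_ct (K3.f92516 IH) (Lpr_bt (f93087 IH) (Lpr_ct (f546734 IH) (Lpn (LP (LK LD1_c4 LD2_c32 LD3_c61))))))))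
theorem f522544 : Led Lsl_dt (LP (LK LD1_c7 LD2_c14 LD3_c7)) = (LP (LK LD1_c3 LD2_c39 LD3_c21)) :=
  Lgr Lrot42 (Lpr_df (K33.f522542 IH) (Lpn (LP (LK LD1_c3 LD2_c39 LD3_c21))))
theorem f92530 : Led Lsl_ct (LP (LK LD1_c3 LD2_c36 LD3_c57)) = (LP (LK LD1_c7 LD2_c14 LD3_c8)) :=
  Lre_c IH (LK LD1_c3 LD2_c36 LD3_c57) (LK LD1_c7 LD2_c14 LD3_c8) Lrfl Lrfl
theorem f543967 : Led Lsl_gf (LP (LK LD1_c4 LD2_c32 LD3_c40)) = (LP (LK LD1_c7 LD2_c14 LD3_c8)) :=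
  Lgr Lrot104 (Lpr_ct (f543942 IH) (Lpe (K3.f94546 IH) (Lpe (K7.f92364 IH) (Lpe (K2.f62825 IH) (Lpe (K2.f94485 IH) (Lpe (K2.f92340 IH) (Lpe (f522544 IH) (Lpr_gt (K33.f93111 IH) (Lpr_ct (f92530 IH) (Lpn (LP (LK LD1_c7 LD2_c14 LD3_c8))))))))))))
theorem f543905 : Led Lsl_ct (LP (LK LD1_c3 LD2_c5 LD3_c24)) = (LP (LK LD1_c6 LD2_c16 LD3_c36)) :=
  Lre_c IH (LK LD1_c3 LD2_c5 LD3_c24) (LK LD1_c6 LD2_c16 LD3_c36) Lrfl Lrfl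
theorem f546747 : Led Lsl_bf (LP (LK LD1_c9 LD2_c16 LD3_c12)) = (LP (LK LD1_c6 LD2_c16 LD3_c36)) :=
  Lgr Lrot184 (Lpr_gt (K3.f94803 IH) (Lpr_dt (K3.f78655 IH) (Lpr_ct (K3.f58770 IH) (Lpr_bt (f94786 IH) (Lpr_gt (f95704 IH) (Lpr_dt (f94198 IH) (Lpe (K5.f84751 IH) (Lpr_bt (K2.f84730 IH) (Lpr_gt (K2.f84720 IH) (Lpr_dt (K3.f87146 IH) (Lpe (K3.f97012 IH) (Lpr_bt (K3.f97019 IH) (Lpr_gt (K3.f97907 IH) (Lpr_dt (f93069 IH) (Lpr_ct (f546734 IH) (Lpe (f546738 IH) (Lpe (f543967 IH) (Lpe (f543900 IH) (Lpr_ct (f543905 IH) (Lpn (LP (LK LD1_c6 LD2_c16 LD3_c36))))))))))))))))))))))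
theorem f150708 : Led Lsl_cf (LP (LK LD1_c12 LD2_c49 LD3_c12)) = (LP (LK LD1_c9 LD2_c16 LD3_c17)) :=
  Lgr Lrot11 (Lpr_ct (K7.f150704 IH) (Lpn (LP (LK LD1_c9 LD2_c16 LD3_c17))))
theorem f207950 : Led Lsl_ff (LP (LK LD1_c12 LD2_c31 LD3_c32)) = (LP (LK LD1_c12 LD2_c49 LD3_c9)) :=
  Lgr Lrot3 (Lpr_ft (K28.f207943 IH) (Lpn (LP (LK LD1_c12 LD2_c49 LD3_c9))))
theorem f207934 : Led Lsl_at (LP (LK LD1_c12 LD2_c31 LD3_c32)) = (LP (LK LD1_c12 LD2_c49 LD3_c12)) :=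
  Lgr Lrot100 (Lpr_af (K28.f207902 IH) (Lpn (LP (LK LD1_c12 LD2_c49 LD3_c12))))
theorem f208898 : Led Lsl_gf (LP (LK LD1_c12 LD2_c49 LD3_c12)) = (LP (LK LD1_c12 LD2_c31 LD3_c30)) :=
  Lgr Lrot76 (Lpe (f207934 IH) (Lpr_ff (f207950 IH) (Lpe (K24.f207667 IH) (Lpn (LP (LK LD1_c12 LD2_c31 LD3_c30))))))
theorem f543834 : Led Lsl_ct (LP (LK LD1_c6 LD2_c16 LD3_c36)) = (LP (LK LD1_c3 LD2_c5 LD3_c24)) :=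
  Lre_c IH (LK LD1_c6 LD2_c16 LD3_c36) (LK LD1_c3 LD2_c5 LD3_c24) Lrfl Lrfl
theorem f204716 : Led Lsl_bt (LP (LK LD1_c3 LD2_c5 LD3_c25)) = (LP (LK LD1_c6 LD2_c16 LD3_c40)) :=
  Lre_b IH (LK LD1_c3 LD2_c5 LD3_c25) (LK LD1_c6 LD2_c16 LD3_c40) Lrfl Lrfl
theorem f503153 : Led Lsl_gt (LP (LK LD1_c6 LD2_c16 LD3_c40)) = (LP (LK LD1_c12 LD2_c10 LD3_c23)) :=
  Lre_g IH (LK LD1_c6 LD2_c16 LD3_c40) (LK LD1_c12 LD2_c10 LD3_c23) Lrfl Lrfl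
theorem f546761 : Led Lsl_cf (LP (LK LD1_c12 LD2_c31 LD3_c30)) = (LP (LK LD1_c12 LD2_c10 LD3_c23)) :=
  Lgr Lrot125 (Lpe (f208898 IH) (Lpr_cf (f150708 IH) (Lpr_bt (K7.f103270 IH) (Lpr_gt (K3.f103293 IH) (Lpr_bf (f546747 IH) (Lpr_ct (f543834 IH) (Lpr_gt (f112392 IH) (Lpe (f186353 IH) (Lpr_bt (f204716 IH) (Lpr_gt (f503153 IH) (Lpn (LP (LK LD1_c12 LD2_c10 LD3_c23)))))))))))))
theorem f546777 : Led Lsl_bf (LP (LK LD1_c9 LD2_c25 LD3_c27)) = (LP (LK LD1_c12 LD2_c10 LD3_c23)) :=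
  Lgr Lrot34 (Lpe (K36.f202907 IH) (Lpe (K7.f102994 IH) (Lpr_ct (K36.f102987 IH) (Lpe (K3.f103002 IH) (Lpr_cf (K3.f103295 IH) (Lpe (K3.f103293 IH) (Lpe (K7.f103270 IH) (Lpe (f150708 IH) (Lpr_gf (f208898 IH) (Lpr_cf (f546761 IH) (Lpn (LP (LK LD1_c12 LD2_c10 LD3_c23)))))))))))))
theorem f79460 : Led Lsl_dt (LP (LK LD1_c4 LD2_c46 LD3_c24)) = (LP (LK LD1_c9 LD2_c25 LD3_c27)) :=
  Lre_d IH (LK LD1_c4 LD2_c46 LD3_c24) (LK LD1_c9 LD2_c25 LD3_c27) Lrfl Lrfl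
theorem f540751 : Led Lsl_ft (LP (LK LD1_c9 LD2_c25 LD3_c27)) = (LP (LK LD1_c13 LD2_c31 LD3_c7)) :=
  Lgr Lrot54 (Lpe (f79460 IH) (Lpr_ff (K36.f424682 IH) (Lpr_df (K36.f540725 IH) (Lpn (LP (LK LD1_c13 LD2_c31 LD3_c7))))))
theorem f546772 : Led Lsl_ft (LP (LK LD1_c21 LD2_c16 LD3_c6)) = (LP (LK LD1_c12 LD2_c10 LD3_c23)) :=
  Lre_f IH (LK LD1_c21 LD2_c16 LD3_c6) (LK LD1_c12 LD2_c10 LD3_c23) Lrfl Lrfl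
theorem f546783 : Led Lsl_bt (LP (LK LD1_c13 LD2_c31 LD3_c7)) = (LP (LK LD1_c21 LD2_c16 LD3_c6)) :=
  Lgr Lrot35 (Lpe (f540751 IH) (Lpr_bf (f546777 IH) (Lpe (f546772 IH) (Lpn (LP (LK LD1_c21 LD2_c16 LD3_c6))))))
theorem f540723 : Led Lsl_dt (LP (LK LD1_c9 LD2_c22 LD3_c61)) = (LP (LK LD1_c13 LD2_c31 LD3_c7)) :=
  Lgr Lrot27 (Lpr_cf (K36.f424710 IH) (Lpe (K36.f56892 IH) (Lpe (K28.f56944 IH) (Lpe (K7.f56961 IH) (Lpr_df (K11.f202909 IH) (Lpr_gt (K28.f426330 IH) (Lpe (K36.f426338 IH) (Lpr_gt (K36.f540715 IH) (Lpr_ct (K36.f98028 IH) (Lpn (LP (LK LD1_c13 LD2_c31 LD3_c7))))))))))))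
theorem f546787 : Led Lsl_df (LP (LK LD1_c17 LD2_c19 LD3_c29)) = (LP (LK LD1_c21 LD2_c16 LD3_c6)) :=
  Lgr Lrot12 (Lpr_bt (K36.f99185 IH) (Lpr_dt (f540723 IH) (Lpr_bt (f546783 IH) (Lpn (LP (LK LD1_c21 LD2_c16 LD3_c6))))))
theorem f546795 : Led Lsl_dt (LP (LK LD1_c17 LD2_c19 LD3_c29)) = (LP (LK LD1_c21 LD2_c16 LD3_c6)) :=
  Lgr Lrot42 (Lpr_df (f546787 IH) (Lpn (LP (LK LD1_c21 LD2_c16 LD3_c6))))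
theorem f546797 : Led Lsl_df (LP (LK LD1_c9 LD2_c25 LD3_c25)) = (LP (LK LD1_c12 LD2_c10 LD3_c23)) :=
  Lgr Lrot78 (Lpr_ft (K36.f424684 IH) (Lpr_dt (f546795 IH) (Lpr_ft (f546772 IH) (Lpn (LP (LK LD1_c12 LD2_c10 LD3_c23))))))
theorem f426646 : Led Lsl_bf (LP (LK LD1_c11 LD2_c44 LD3_c35)) = (LP (LK LD1_c12 LD2_c32 LD3_c55)) :=
  Lgr Lrot24 (Lpr_bt (K32.f426638 IH) (Lpn (LP (LK LD1_c12 LD2_c32 LD3_c55))))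
theorem f88516 : Led Lsl_dt (LP (LK LD1_c1 LD2_c51 LD3_c34)) = (LP (LK LD1_c3 LD2_c49 LD3_c7)) :=
  Lre_d IH (LK LD1_c1 LD2_c51 LD3_c34) (LK LD1_c3 LD2_c49 LD3_c7) Lrfl Lrfl
theorem f204766 : Led Lsl_ct (LP (LK LD1_c1 LD2_c28 LD3_c42)) = (LP (LK LD1_c3 LD2_c5 LD3_c25)) :=
  Lre_c IH (LK LD1_c1 LD2_c28 LD3_c42) (LK LD1_c3 LD2_c5 LD3_c25) Lrfl Lrfl
def v1826 : LQ := Led Lsl_bt (LP (LK LD1_c1 LD2_c28 LD3_c41))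
theorem f503151 : Led Lsl_bt (LP (LK LD1_c1 LD2_c28 LD3_c41)) = v1826 :=
  Lrfl
theorem f503152 : Led Lsl_bf (LP (LK LD1_c1 LD2_c28 LD3_c41)) = v1826 :=
  Lgr Lrot24 (Lpr_bt (f503151 IH) (Lpn v1826))
theorem f546799 : Led Lsl_ct (LP (LK LD1_c3 LD2_c49 LD3_c7)) = v1826 :=
  Lgr Lrot191 (Lpe (f88516 IH) (Lpe (K3.f87934 IH) (Lpe (K6.f136357 IH) (Lpe (K6.f96135 IH) (Lpr_df (K8.f137216 IH) (Lpe (K32.f135980 IH) (Lpr_bf (f426646 IH) (Lpe (K8.f130095 IH) (Lpe (K32.f137487 IH) (Lpr_gf (K36.f209697 IH) (Lpe (K36.f424651 IH) (Lpe (K36.f125728 IH) (Lpr_df (f546797 IH) (Lpe (f503153 IH) (Lpe (f204716 IH) (Lpe (f204766 IH) (Lpe (f112391 IH) (Lpe (K36.f202625 IH) (Lpr_bf (f503152 IH) (Lpn v1826))))))))))))))))))))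
theorem f11637 : Led Lsl_bt (LP (LK LD1_c3 LD2_c49 LD3_c7)) = (LP (LK LD1_c1 LD2_c51 LD3_c35)) :=
  Lre_b IH (LK LD1_c3 LD2_c49 LD3_c7) (LK LD1_c1 LD2_c51 LD3_c35) Lrfl Lrfl
theorem f519729 : Led Lsl_bf (LP (LK LD1_c1 LD2_c45 LD3_c24)) = v2435 :=
  Lgr Lrot24 (Lpr_bt (f519728 IH) (Lpn v2435))
theorem f202233 : Led Lsl_gt (LP (LK LD1_c1 LD2_c28 LD3_c39)) = (LP (LK LD1_c3 LD2_c5 LD3_c12)) :=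
  Lre_g IH (LK LD1_c1 LD2_c28 LD3_c39) (LK LD1_c3 LD2_c5 LD3_c12) Lrfl Lrfl
theorem f546804 : (LP (LK LD1_c3 LD2_c5 LD3_c12)) = v1826 :=
  (Llr Lrot65 (Lpe (f202233 IH) (Lpe (f202261 IH) (Lpqs (f543803 IH) (Lpe (f519729 IH) (Lpe (K3.f6124 IH) (Lpr_bf (K4.f6098 IH) (Lpr_ct (K3.f6125 IH) (Lpr_gf (K3.f98033 IH) (Lpe (K3.f98017 IH) (Lpe (K3.f11534 IH) (Lpe (f11637 IH) (Lpr_ct (f546799 IH) (Lpn v1826)))))))))))))).symm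
theorem f546802 : Led Lsl_cf (LP (LK LD1_c3 LD2_c49 LD3_c7)) = v1826 :=
  Lgr Lrot11 (Lpr_ct (f546799 IH) (Lpn v1826))
theorem f120282 : Led Lsl_et (LP (LK LD1_c3 LD2_c49 LD3_c7)) = (LP (LK LD1_c7 LD2_c39 LD3_c14)) :=
  Lre_e IH (LK LD1_c3 LD2_c49 LD3_c7) (LK LD1_c7 LD2_c39 LD3_c14) Lrfl Lrfl
theorem f546811 : Led Lsl_cf (LP (LK LD1_c6 LD2_c16 LD3_c14)) = (LP (LK LD1_c7 LD2_c39 LD3_c14)) :=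
  Lgr Lrot39 (Lpr_et (f202234 IH) (Lpqs (f546804 IH) (Lpe (f546802 IH) (Lpr_et (f120282 IH) (Lpn (LP (LK LD1_c7 LD2_c39 LD3_c14)))))))
theorem f137408 : Led Lsl_et (LP (LK LD1_c0 LD2_c17 LD3_c5)) = (LP (LK LD1_c0 LD2_c38 LD3_c23)) :=
  Lre_e IH (LK LD1_c0 LD2_c17 LD3_c5) (LK LD1_c0 LD2_c38 LD3_c23) Lrfl Lrfl
theorem f71111 : Led Lsl_et (LP (LK LD1_c2 LD2_c53 LD3_c48)) = (LP (LK LD1_c1 LD2_c22 LD3_c54)) :=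
  Lre_e IH (LK LD1_c2 LD2_c53 LD3_c48) (LK LD1_c1 LD2_c22 LD3_c54) Lrfl Lrfl
theorem f71112 : Led Lsl_dt (LP (LK LD1_c2 LD2_c53 LD3_c48)) = (LP (LK LD1_c5 LD2_c54 LD3_c56)) :=
  Lre_d IH (LK LD1_c2 LD2_c53 LD3_c48) (LK LD1_c5 LD2_c54 LD3_c56) Lrfl Lrfl
theorem f202252 : Led Lsl_gt (LP (LK LD1_c5 LD2_c54 LD3_c56)) = (LP (LK LD1_c3 LD2_c5 LD3_c14)) :=
  Lgr Lrot112 (Lpe (f71112 IH) (Lpr_et (f71111 IH) (Lpe (K35.f137409 IH) (Lpe (f137408 IH) (Lpr_dt (K2.f22777 IH) (Lpe (K6.f59464 IH) (Lpr_df (K6.f137398 IH) (Lpr_gf (K11.f202241 IH) (Lpe (K11.f202218 IH) (Lpr_dt (K11.f202251 IH) (Lpn (LP (LK LD1_c3 LD2_c5 LD3_c14)))))))))))))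
theorem f202256 : Led Lsl_ft (LP (LK LD1_c3 LD2_c5 LD3_c26)) = (LP (LK LD1_c1 LD2_c28 LD3_c42)) :=
  Lre_f IH (LK LD1_c3 LD2_c5 LD3_c26) (LK LD1_c1 LD2_c28 LD3_c42) Lrfl Lrfl
theorem f202257 : Led Lsl_gf (LP (LK LD1_c5 LD2_c54 LD3_c56)) = (LP (LK LD1_c3 LD2_c5 LD3_c26)) :=
  Lgr Lrot47 (Lpr_gt (f202252 IH) (Lpe (K11.f202255 IH) (Lpe (f202256 IH) (Lpn (LP (LK LD1_c3 LD2_c5 LD3_c26))))))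
theorem f71108 : Led Lsl_dt (LP (LK LD1_c4 LD2_c36 LD3_c4)) = (LP (LK LD1_c9 LD2_c8 LD3_c22)) :=
  Lre_d IH (LK LD1_c4 LD2_c36 LD3_c4) (LK LD1_c9 LD2_c8 LD3_c22) Lrfl Lrfl
theorem f71109 : Led Lsl_gt (LP (LK LD1_c9 LD2_c8 LD3_c22)) = (LP (LK LD1_c4 LD2_c36 LD3_c26)) :=
  Lre_g IH (LK LD1_c9 LD2_c8 LD3_c22) (LK LD1_c4 LD2_c36 LD3_c26) Lrfl Lrfl
theorem f202277 : Led Lsl_dt (LP (LK LD1_c1 LD2_c28 LD3_c43)) = (LP (LK LD1_c3 LD2_c5 LD3_c26)) :=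
  Lre_d IH (LK LD1_c1 LD2_c28 LD3_c43) (LK LD1_c3 LD2_c5 LD3_c26) Lrfl Lrfl
theorem f202278 : Led Lsl_gt (LP (LK LD1_c3 LD2_c5 LD3_c12)) = (LP (LK LD1_c1 LD2_c28 LD3_c43)) :=
  Lre_g IH (LK LD1_c3 LD2_c5 LD3_c12) (LK LD1_c1 LD2_c28 LD3_c43) Lrfl Lrfl
theorem f202288 : Led Lsl_df (LP (LK LD1_c4 LD2_c36 LD3_c26)) = (LP (LK LD1_c6 LD2_c16 LD3_c14)) :=
  Lgr Lrot168 (Lpe (f71109 IH) (Lpe (f71108 IH) (Lpr_et (K2.f71083 IH) (Lpe (K35.f71110 IH) (Lpe (f71111 IH) (Lpr_dt (f71112 IH) (Lpr_gf (f202257 IH) (Lpe (f202277 IH) (Lpe (f202278 IH) (Lpe (f202234 IH) (Lpn (LP (LK LD1_c6 LD2_c16 LD3_c14)))))))))))))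
theorem f202292 : Led Lsl_dt (LP (LK LD1_c4 LD2_c36 LD3_c26)) = (LP (LK LD1_c6 LD2_c16 LD3_c14)) :=
  Lgr Lrot42 (Lpr_df (f202288 IH) (Lpn (LP (LK LD1_c6 LD2_c16 LD3_c14))))
theorem f546815 : Led Lsl_dt (LP (LK LD1_c6 LD2_c13 LD3_c20)) = (LP (LK LD1_c12 LD2_c5 LD3_c31)) :=
  Lre_d IH (LK LD1_c6 LD2_c13 LD3_c20) (LK LD1_c12 LD2_c5 LD3_c31) Lrfl Lrfl
theorem f540571 : Led Lsl_dt (LP (LK LD1_c14 LD2_c25 LD3_c35)) = (LP (LK LD1_c7 LD2_c39 LD3_c14)) :=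
  Lre_d IH (LK LD1_c14 LD2_c25 LD3_c35) (LK LD1_c7 LD2_c39 LD3_c14) Lrfl Lrfl
theorem f546816 : Led Lsl_gt (LP (LK LD1_c12 LD2_c5 LD3_c31)) = (LP (LK LD1_c14 LD2_c25 LD3_c35)) :=
  Lgr Lrot49 (Lpe (f546815 IH) (Lpr_gf (f539929 IH) (Lpe (f202304 IH) (Lpr_gt (K35.f202300 IH) (Lpr_dt (f71108 IH) (Lpr_gt (f71109 IH) (Lpr_dt (f202292 IH) (Lpr_cf (f546811 IH) (Lpe (f540571 IH) (Lpn (LP (LK LD1_c14 LD2_c25 LD3_c35))))))))))))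
theorem f198277 : Led Lsl_ct (LP (LK LD1_c4 LD2_c36 LD3_c21)) = (LP (LK LD1_c2 LD2_c15 LD3_c20)) :=
  Lre_c IH (LK LD1_c4 LD2_c36 LD3_c21) (LK LD1_c2 LD2_c15 LD3_c20) Lrfl Lrfl
theorem f538419 : Led Lsl_et (LP (LK LD1_c2 LD2_c54 LD3_c23)) = (LP (LK LD1_c4 LD2_c36 LD3_c21)) :=
  Lgr Lrot158 (Lpe (K8.f118948 IH) (Lpr_ef (K35.f538413 IH) (Lpe (f198277 IH) (Lpn (LP (LK LD1_c4 LD2_c36 LD3_c21))))))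
theorem f80638 : Led Lsl_et (LP (LK LD1_c3 LD2_c4 LD3_c44)) = (LP (LK LD1_c6 LD2_c15 LD3_c20)) :=
  Lre_e IH (LK LD1_c3 LD2_c4 LD3_c44) (LK LD1_c6 LD2_c15 LD3_c20) Lrfl Lrfl
theorem f540511 : Led Lsl_dt (LP (LK LD1_c7 LD2_c39 LD3_c14)) = (LP (LK LD1_c14 LD2_c25 LD3_c35)) :=
  Lre_d IH (LK LD1_c7 LD2_c39 LD3_c14) (LK LD1_c14 LD2_c25 LD3_c35) Lrfl Lrfl
theorem f546803 : Led Lsl_et (LP (LK LD1_c7 LD2_c39 LD3_c14)) = (LP (LK LD1_c3 LD2_c49 LD3_c7)) :=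
  Lre_e IH (LK LD1_c7 LD2_c39 LD3_c14) (LK LD1_c3 LD2_c49 LD3_c7) Lrfl Lrfl
theorem f546824 : Led Lsl_gf (LP (LK LD1_c6 LD2_c15 LD3_c20)) = (LP (LK LD1_c3 LD2_c49 LD3_c7)) :=
  Lgr Lrot141 (Lpe (f80638 IH) (Lpr_dt (K32.f73431 IH) (Lpe (K32.f208747 IH) (Lpe (K8.f149643 IH) (Lpr_et (f538419 IH) (Lpe (f539929 IH) (Lpr_dt (f546815 IH) (Lpr_gt (f546816 IH) (Lpe (f540511 IH) (Lpr_et (f546803 IH) (Lpn (LP (LK LD1_c3 LD2_c49 LD3_c7)))))))))))))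
theorem f97151 : Led Lsl_bt (LP (LK LD1_c1 LD2_c51 LD3_c35)) = (LP (LK LD1_c3 LD2_c49 LD3_c7)) :=
  Lre_b IH (LK LD1_c1 LD2_c51 LD3_c35) (LK LD1_c3 LD2_c49 LD3_c7) Lrfl Lrfl
def v2437 : LQ := Led Lsl_bt (LP (LK LD1_c1 LD2_c45 LD3_c25))
theorem f519742 : Led Lsl_bt (LP (LK LD1_c1 LD2_c45 LD3_c25)) = v2437 :=
  Lrfl
theorem f121783 : Led Lsl_ff (LP (LK LD1_c0 LD2_c50 LD3_c4)) = (LP (LK LD1_c0 LD2_c49 LD3_c52)) :=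
  Lgr Lrot23 (Lpe (K2.f94416 IH) (Lpr_ft (K4.f121781 IH) (Lpr_ct (K3.f97190 IH) (Lpn (LP (LK LD1_c0 LD2_c49 LD3_c52))))))
theorem f440476 : Led Lsl_ft (LP (LK LD1_c1 LD2_c43 LD3_c35)) = (LP (LK LD1_c1 LD2_c45 LD3_c25)) :=
  Lgr Lrot54 (Lpe (K3.f92482 IH) (Lpr_ff (f121783 IH) (Lpr_df (K3.f97188 IH) (Lpn (LP (LK LD1_c1 LD2_c45 LD3_c25))))))
theorem f519745 : Led Lsl_ff K36.v2358 = v2437 :=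
  Lgr Lrot25 (Lpe (K36.f514959 IH) (Lpr_ft (f440476 IH) (Lpr_bt (f519742 IH) (Lpn v2437))))
theorem f519747 : Led Lsl_ft K36.v2358 = v2437 :=
  Lgr Lrot48 (Lpr_ff (f519745 IH) (Lpn v2437))
theorem f59102 : Led Lsl_ft (LP (LK LD1_c1 LD2_c27 LD3_c53)) = (LP (LK LD1_c3 LD2_c3 LD3_c47)) :=
  Lre_f IH (LK LD1_c1 LD2_c27 LD3_c53) (LK LD1_c3 LD2_c3 LD3_c47) Lrfl Lrfl
theorem f540392 : v2437 = (LP (LK LD1_c3 LD2_c3 LD3_c47)) :=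
  Lefun (Lecon (f519747 IH) (K36.f540329 IH)) (f59102 IH)
def v1816 : LQ := Led Lsl_bt (LP (LK LD1_c1 LD2_c28 LD3_c12))
theorem f503075 : Led Lsl_bt (LP (LK LD1_c1 LD2_c28 LD3_c12)) = v1816 :=
  Lrfl
theorem f503076 : Led Lsl_bf (LP (LK LD1_c1 LD2_c28 LD3_c12)) = v1816 :=
  Lgr Lrot24 (Lpr_bt (f503075 IH) (Lpn v1816))
theorem f186337 : Led Lsl_ct (LP (LK LD1_c0 LD2_c41 LD3_c2)) = (LP (LK LD1_c0 LD2_c18 LD3_c22)) :=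
  Lre_c IH (LK LD1_c0 LD2_c41 LD3_c2) (LK LD1_c0 LD2_c18 LD3_c22) Lrfl Lrfl
theorem f210309 : Led Lsl_bt (LP (LK LD1_c1 LD2_c28 LD3_c51)) = (LP (LK LD1_c0 LD2_c41 LD3_c2)) :=
  Lre_b IH (LK LD1_c1 LD2_c28 LD3_c51) (LK LD1_c0 LD2_c41 LD3_c2) Lrfl Lrfl
theorem f503077 : Led Lsl_cf (LP (LK LD1_c1 LD2_c28 LD3_c51)) = v1816 :=
  Lgr Lrot97 (Lpr_bt (f210309 IH) (Lpr_ct (f186337 IH) (Lpr_bt (K11.f210308 IH) (Lpe (K12.f210305 IH) (Lpr_bt (f503075 IH) (Lpn v1816))))))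
def v1829 : LQ := Led Lsl_gf (LP (LK LD1_c1 LD2_c28 LD3_c51))
theorem f503197 : Led Lsl_gf (LP (LK LD1_c1 LD2_c28 LD3_c51)) = v1829 :=
  Lrfl
theorem f546836 : (LP (LK LD1_c3 LD2_c4 LD3_c45)) = v1829 :=
  (Llr Lrot91 (Lpe (K32.f80633 IH) (Lpr_gf (f546824 IH) (Lpe (f97151 IH) (Lpr_ct (K3.f97141 IH) (Lpe (K3.f97128 IH) (Lpe (K3.f97122 IH) (Lpr_bt (f519742 IH) (Lpqs (f540392 IH) (Lpe (K12.f38059 IH) (Lpr_bf (f503076 IH) (Lpe (f503077 IH) (Lpr_gf (f503197 IH) (Lpn v1829)))))))))))))).symm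
theorem f450243 : Led Lsl_at (LP (LK LD1_c3 LD2_c5 LD3_c39)) = (LP (LK LD1_c1 LD2_c28 LD3_c51)) :=
  Lre_a IH (LK LD1_c3 LD2_c5 LD3_c39) (LK LD1_c1 LD2_c28 LD3_c51) Lrfl Lrfl
theorem f449962 : Led Lsl_bt (LP (LK LD1_c6 LD2_c14 LD3_c61)) = (LP (LK LD1_c3 LD2_c4 LD3_c27)) :=
  Lre_b IH (LK LD1_c6 LD2_c14 LD3_c61) (LK LD1_c3 LD2_c4 LD3_c27) Lrfl Lrfl
theorem f449929 : Led Lsl_bt (LP (LK LD1_c2 LD2_c50 LD3_c57)) = (LP (LK LD1_c5 LD2_c49 LD3_c39)) :=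
  Lre_b IH (LK LD1_c2 LD2_c50 LD3_c57) (LK LD1_c5 LD2_c49 LD3_c39) Lrfl Lrfl
theorem f449963 : Led Lsl_ff (LP (LK LD1_c6 LD2_c14 LD3_c61)) = (LP (LK LD1_c5 LD2_c49 LD3_c39)) :=
  Lgr Lrot25 (Lpr_bt (f449962 IH) (Lpr_ft (K36.f449960 IH) (Lpr_bt (f449929 IH) (Lpn (LP (LK LD1_c5 LD2_c49 LD3_c39))))))
theorem f418052 : Led Lsl_dt (LP (LK LD1_c6 LD2_c14 LD3_c61)) = (LP (LK LD1_c3 LD2_c4 LD3_c26)) :=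
  Lre_d IH (LK LD1_c6 LD2_c14 LD3_c61) (LK LD1_c3 LD2_c4 LD3_c26) Lrfl Lrfl
theorem f449967 : Led Lsl_dt (LP (LK LD1_c2 LD2_c50 LD3_c56)) = (LP (LK LD1_c5 LD2_c49 LD3_c39)) :=
  Lre_d IH (LK LD1_c2 LD2_c50 LD3_c56) (LK LD1_c5 LD2_c49 LD3_c39) Lrfl Lrfl
theorem f449968 : Led Lsl_ft (LP (LK LD1_c3 LD2_c4 LD3_c26)) = (LP (LK LD1_c2 LD2_c50 LD3_c56)) :=
  Lgr Lrot54 (Lpe (f418052 IH) (Lpr_ff (f449963 IH) (Lpe (f449967 IH) (Lpn (LP (LK LD1_c2 LD2_c50 LD3_c56))))))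
theorem f449976 : Led Lsl_ff (LP (LK LD1_c3 LD2_c4 LD3_c26)) = (LP (LK LD1_c2 LD2_c50 LD3_c56)) :=
  Lgr Lrot3 (Lpr_ft (f449968 IH) (Lpn (LP (LK LD1_c2 LD2_c50 LD3_c56))))
theorem f227745 : Led Lsl_bt (LP (LK LD1_c1 LD2_c28 LD3_c13)) = (LP (LK LD1_c3 LD2_c4 LD3_c26)) :=
  Lre_b IH (LK LD1_c1 LD2_c28 LD3_c13) (LK LD1_c3 LD2_c4 LD3_c26) Lrfl Lrfl
theorem f26797 : Led Lsl_bt (LP (LK LD1_c2 LD2_c14 LD3_c3)) = (LP (LK LD1_c1 LD2_c4 LD3_c4)) :=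
  Lre_b IH (LK LD1_c2 LD2_c14 LD3_c3) (LK LD1_c1 LD2_c4 LD3_c4) Lrfl Lrfl
theorem f227746 : Led Lsl_ct (LP (LK LD1_c3 LD2_c4 LD3_c26)) = (LP (LK LD1_c2 LD2_c14 LD3_c3)) :=
  Lgr Lrot83 (Lpe (f227745 IH) (Lpr_cf (K12.f227743 IH) (Lpr_bf (K12.f205224 IH) (Lpe (K12.f26676 IH) (Lpe (f26797 IH) (Lpn (LP (LK LD1_c2 LD2_c14 LD3_c3))))))))
theorem f179941 : Led Lsl_ct (LP (LK LD1_c1 LD2_c21 LD3_c29)) = (LP (LK LD1_c2 LD2_c50 LD3_c56)) :=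
  Lre_c IH (LK LD1_c1 LD2_c21 LD3_c29) (LK LD1_c2 LD2_c50 LD3_c56) Lrfl Lrfl
theorem f449978 : Led Lsl_ft (LP (LK LD1_c2 LD2_c14 LD3_c3)) = (LP (LK LD1_c1 LD2_c21 LD3_c29)) :=
  Lgr Lrot4 (Lpe (f227746 IH) (Lpr_ff (f449976 IH) (Lpe (f179941 IH) (Lpn (LP (LK LD1_c1 LD2_c21 LD3_c29))))))
theorem f418051 : Led Lsl_dt (LP (LK LD1_c4 LD2_c34 LD3_c16)) = (LP (LK LD1_c2 LD2_c14 LD3_c3)) :=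
  Lre_d IH (LK LD1_c4 LD2_c34 LD3_c16) (LK LD1_c2 LD2_c14 LD3_c3) Lrfl Lrfl
theorem f210806 : Led Lsl_dt (LP (LK LD1_c1 LD2_c21 LD3_c29)) = (LP (LK LD1_c2 LD2_c50 LD3_c59)) :=
  Lre_d IH (LK LD1_c1 LD2_c21 LD3_c29) (LK LD1_c2 LD2_c50 LD3_c59) Lrfl Lrfl
theorem f449983 : Led Lsl_ff (LP (LK LD1_c4 LD2_c34 LD3_c16)) = (LP (LK LD1_c2 LD2_c50 LD3_c59)) :=
  Lgr Lrot19 (Lpr_dt (f418051 IH) (Lpr_ft (f449978 IH) (Lpr_dt (f210806 IH) (Lpn (LP (LK LD1_c2 LD2_c50 LD3_c59))))))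
theorem f449991 : Led Lsl_ft (LP (LK LD1_c4 LD2_c34 LD3_c16)) = (LP (LK LD1_c2 LD2_c50 LD3_c59)) :=
  Lgr Lrot48 (Lpr_ff (f449983 IH) (Lpn (LP (LK LD1_c2 LD2_c50 LD3_c59))))
theorem f449994 : Led Lsl_bt (LP (LK LD1_c2 LD2_c14 LD3_c4)) = (LP (LK LD1_c4 LD2_c34 LD3_c16)) :=
  Lre_b IH (LK LD1_c2 LD2_c14 LD3_c4) (LK LD1_c4 LD2_c34 LD3_c16) Lrfl Lrfl
theorem f179922 : Led Lsl_bt (LP (LK LD1_c2 LD2_c50 LD3_c59)) = (LP (LK LD1_c1 LD2_c21 LD3_c30)) :=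
  Lre_b IH (LK LD1_c2 LD2_c50 LD3_c59) (LK LD1_c1 LD2_c21 LD3_c30) Lrfl Lrfl
theorem f449995 : Led Lsl_ff (LP (LK LD1_c2 LD2_c14 LD3_c4)) = (LP (LK LD1_c1 LD2_c21 LD3_c30)) :=
  Lgr Lrot25 (Lpr_bt (f449994 IH) (Lpr_ft (f449991 IH) (Lpr_bt (f179922 IH) (Lpn (LP (LK LD1_c1 LD2_c21 LD3_c30))))))
theorem f450000 : Led Lsl_at (LP (LK LD1_c2 LD2_c14 LD3_c4)) = (LP (LK LD1_c1 LD2_c21 LD3_c33)) :=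
  Lgr Lrot26 (Lpr_ff (f449995 IH) (Lpr_gt (K14.f179920 IH) (Lpe (K11.f176851 IH) (Lpn (LP (LK LD1_c1 LD2_c21 LD3_c33))))))
theorem f177765 : Led Lsl_et (LP (LK LD1_c4 LD2_c34 LD3_c18)) = (LP (LK LD1_c2 LD2_c14 LD3_c4)) :=
  Lre_e IH (LK LD1_c4 LD2_c34 LD3_c18) (LK LD1_c2 LD2_c14 LD3_c4) Lrfl Lrfl
theorem f186340 : Led Lsl_et (LP (LK LD1_c1 LD2_c21 LD3_c33)) = (LP (LK LD1_c2 LD2_c51 LD3_c4)) :=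
  Lre_e IH (LK LD1_c1 LD2_c21 LD3_c33) (LK LD1_c2 LD2_c51 LD3_c4) Lrfl Lrfl
theorem f450008 : Led Lsl_af (LP (LK LD1_c4 LD2_c34 LD3_c18)) = (LP (LK LD1_c2 LD2_c51 LD3_c4)) :=
  Lgr Lrot50 (Lpr_et (f177765 IH) (Lpr_at (f450000 IH) (Lpr_et (f186340 IH) (Lpn (LP (LK LD1_c2 LD2_c51 LD3_c4))))))
theorem f177766 : Led Lsl_dt (LP (LK LD1_c4 LD2_c34 LD3_c18)) = (LP (LK LD1_c6 LD2_c3 LD3_c29)) :=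
  Lre_d IH (LK LD1_c4 LD2_c34 LD3_c18) (LK LD1_c6 LD2_c3 LD3_c29) Lrfl Lrfl
theorem f186122 : Led Lsl_dt (LP (LK LD1_c5 LD2_c49 LD3_c57)) = (LP (LK LD1_c2 LD2_c51 LD3_c4)) :=
  Lre_d IH (LK LD1_c5 LD2_c49 LD3_c57) (LK LD1_c2 LD2_c51 LD3_c4) Lrfl Lrfl
theorem f450013 : Led Lsl_at (LP (LK LD1_c6 LD2_c3 LD3_c29)) = (LP (LK LD1_c5 LD2_c49 LD3_c57)) :=
  Lgr Lrot51 (Lpe (f177766 IH) (Lpr_af (f450008 IH) (Lpe (f186122 IH) (Lpn (LP (LK LD1_c5 LD2_c49 LD3_c57))))))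
theorem f177690 : Led Lsl_et (LP (LK LD1_c2 LD2_c57 LD3_c52)) = (LP (LK LD1_c6 LD2_c3 LD3_c29)) :=
  Lre_e IH (LK LD1_c2 LD2_c57 LD3_c52) (LK LD1_c6 LD2_c3 LD3_c29) Lrfl Lrfl
theorem f186121 : Led Lsl_et (LP (LK LD1_c5 LD2_c49 LD3_c57)) = (LP (LK LD1_c2 LD2_c51 LD3_c5)) :=
  Lre_e IH (LK LD1_c5 LD2_c49 LD3_c57) (LK LD1_c2 LD2_c51 LD3_c5) Lrfl Lrfl
theorem f450018 : Led Lsl_af (LP (LK LD1_c2 LD2_c57 LD3_c52)) = (LP (LK LD1_c2 LD2_c51 LD3_c5)) :=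
  Lgr Lrot50 (Lpr_et (f177690 IH) (Lpr_at (f450013 IH) (Lpr_et (f186121 IH) (Lpn (LP (LK LD1_c2 LD2_c51 LD3_c5))))))
theorem f450024 : Led Lsl_ft (LP (LK LD1_c2 LD2_c57 LD3_c53)) = (LP (LK LD1_c2 LD2_c51 LD3_c5)) :=
  Lgr Lrot2 (Lpr_gt (K10.f9419 IH) (Lpr_gt (K11.f26784 IH) (Lpr_af (f450018 IH) (Lpn (LP (LK LD1_c2 LD2_c51 LD3_c5))))))
theorem f450028 : Led Lsl_ff (LP (LK LD1_c2 LD2_c57 LD3_c53)) = (LP (LK LD1_c2 LD2_c51 LD3_c5)) :=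
  Lgr Lrot3 (Lpr_ft (f450024 IH) (Lpn (LP (LK LD1_c2 LD2_c51 LD3_c5))))
theorem f450032 : Led Lsl_at (LP (LK LD1_c2 LD2_c57 LD3_c53)) = (LP (LK LD1_c4 LD2_c39 LD3_c13)) :=
  Lgr Lrot26 (Lpr_ff (f450028 IH) (Lpr_gt (K11.f186109 IH) (Lpr_gt (K10.f176705 IH) (Lpn (LP (LK LD1_c4 LD2_c39 LD3_c13))))))
theorem f450020 : Led Lsl_at (LP (LK LD1_c2 LD2_c57 LD3_c52)) = (LP (LK LD1_c2 LD2_c51 LD3_c5)) :=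
  Lgr Lrot100 (Lpr_af (f450018 IH) (Lpn (LP (LK LD1_c2 LD2_c51 LD3_c5))))
theorem f450038 : Led Lsl_ff (LP (LK LD1_c2 LD2_c57 LD3_c52)) = (LP (LK LD1_c4 LD2_c39 LD3_c13)) :=
  Lgr Lrot30 (Lpr_at (f450020 IH) (Lpe (f450028 IH) (Lpr_at (f450032 IH) (Lpn (LP (LK LD1_c4 LD2_c39 LD3_c13))))))
theorem f450042 : Led Lsl_ft (LP (LK LD1_c2 LD2_c57 LD3_c52)) = (LP (LK LD1_c4 LD2_c39 LD3_c13)) :=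
  Lgr Lrot48 (Lpr_ff (f450038 IH) (Lpn (LP (LK LD1_c4 LD2_c39 LD3_c13))))
theorem f450044 : Led Lsl_ff (LP (LK LD1_c2 LD2_c14 LD3_c5)) = (LP (LK LD1_c2 LD2_c58 LD3_c10)) :=
  Lgr Lrot19 (Lpr_dt (K10.f26668 IH) (Lpr_ft (f450042 IH) (Lpe (K10.f176709 IH) (Lpn (LP (LK LD1_c2 LD2_c58 LD3_c10))))))
theorem f449062 : Led Lsl_ff (LP (LK LD1_c0 LD2_c37 LD3_c36)) = (LP (LK LD1_c1 LD2_c4 LD3_c4)) :=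
  Lgr Lrot23 (Lpr_ct (K36.f146350 IH) (Lpr_ft (K36.f448913 IH) (Lpqs (K36.f449057 IH) (Lpr_ct (K11.f26678 IH) (Lpn (LP (LK LD1_c1 LD2_c4 LD3_c4)))))))
theorem f450050 : Led Lsl_ft (LP (LK LD1_c1 LD2_c18 LD3_c56)) = (LP (LK LD1_c2 LD2_c12 LD3_c36)) :=
  Lgr Lrot86 (Lpe (K14.f179919 IH) (Lpr_ff (f449062 IH) (Lpe (K11.f26785 IH) (Lpr_ff (f450044 IH) (Lpe (K10.f26655 IH) (Lpn (LP (LK LD1_c2 LD2_c12 LD3_c36))))))))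
theorem f450056 : Led Lsl_ff (LP (LK LD1_c1 LD2_c18 LD3_c56)) = (LP (LK LD1_c2 LD2_c12 LD3_c36)) :=
  Lgr Lrot3 (Lpr_ft (f450050 IH) (Lpn (LP (LK LD1_c2 LD2_c12 LD3_c36))))
theorem f450060 : Led Lsl_at (LP (LK LD1_c1 LD2_c18 LD3_c56)) = (LP (LK LD1_c2 LD2_c12 LD3_c35)) :=
  Lgr Lrot26 (Lpr_ff (f450056 IH) (Lpr_gt (K10.f176716 IH) (Lpr_gt (K10.f175513 IH) (Lpn (LP (LK LD1_c2 LD2_c12 LD3_c35))))))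
theorem f20785 : Led Lsl_ef (LP (LK LD1_c1 LD2_c4 LD3_c2)) = (LP (LK LD1_c2 LD2_c12 LD3_c35)) :=
  Lgr Lrot28 (Lpr_ct (K31.f20784 IH) (Lpr_et (K9.f20782 IH) (Lpr_ct (K10.f20726 IH) (Lpn (LP (LK LD1_c2 LD2_c12 LD3_c35))))))
theorem f450064 : Led Lsl_af (LP (LK LD1_c0 LD2_c37 LD3_c36)) = (LP (LK LD1_c1 LD2_c4 LD3_c2)) :=
  Lgr Lrot50 (Lpr_et (K14.f179919 IH) (Lpr_at (f450060 IH) (Lpe (f20785 IH) (Lpn (LP (LK LD1_c1 LD2_c4 LD3_c2))))))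
theorem f450070 : Led Lsl_ft (LP (LK LD1_c0 LD2_c37 LD3_c38)) = (LP (LK LD1_c1 LD2_c4 LD3_c2)) :=
  Lgr Lrot2 (Lpr_gt (K11.f186325 IH) (Lpe (K14.f179930 IH) (Lpr_af (f450064 IH) (Lpn (LP (LK LD1_c1 LD2_c4 LD3_c2))))))
theorem f450080 : Led Lsl_ff (LP (LK LD1_c0 LD2_c37 LD3_c38)) = (LP (LK LD1_c1 LD2_c4 LD3_c2)) :=
  Lgr Lrot3 (Lpr_ft (f450070 IH) (Lpn (LP (LK LD1_c1 LD2_c4 LD3_c2))))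
theorem f146338 : Led Lsl_bt (LP (LK LD1_c0 LD2_c37 LD3_c38)) = (LP (LK LD1_c1 LD2_c21 LD3_c32)) :=
  Lre_b IH (LK LD1_c0 LD2_c37 LD3_c38) (LK LD1_c1 LD2_c21 LD3_c32) Lrfl Lrfl
theorem f20793 : Led Lsl_bt (LP (LK LD1_c2 LD2_c14 LD3_c0)) = (LP (LK LD1_c1 LD2_c4 LD3_c2)) :=
  Lre_b IH (LK LD1_c2 LD2_c14 LD3_c0) (LK LD1_c1 LD2_c4 LD3_c2) Lrfl Lrfl
theorem f450082 : Led Lsl_ft (LP (LK LD1_c1 LD2_c21 LD3_c32)) = (LP (LK LD1_c2 LD2_c14 LD3_c0)) :=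
  Lgr Lrot75 (Lpe (f146338 IH) (Lpr_ff (f450080 IH) (Lpe (f20793 IH) (Lpn (LP (LK LD1_c2 LD2_c14 LD3_c0))))))
theorem f198476 : Led Lsl_bt (LP (LK LD1_c1 LD2_c28 LD3_c55)) = (LP (LK LD1_c0 LD2_c41 LD3_c5)) :=
  Lre_b IH (LK LD1_c1 LD2_c28 LD3_c55) (LK LD1_c0 LD2_c41 LD3_c5) Lrfl Lrfl
theorem f198477 : Led Lsl_ct (LP (LK LD1_c1 LD2_c21 LD3_c32)) = (LP (LK LD1_c1 LD2_c28 LD3_c55)) :=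
  Lgr Lrot83 (Lpe (f146338 IH) (Lpe (K11.f146333 IH) (Lpr_bf (K11.f198359 IH) (Lpe (K16.f59022 IH) (Lpe (f198476 IH) (Lpn (LP (LK LD1_c1 LD2_c28 LD3_c55))))))))
theorem f421025 : Led Lsl_cf (LP (LK LD1_c1 LD2_c21 LD3_c32)) = (LP (LK LD1_c1 LD2_c28 LD3_c55)) :=
  Lgr Lrot11 (Lpr_ct (f198477 IH) (Lpn (LP (LK LD1_c1 LD2_c28 LD3_c55))))
theorem f20802 : Led Lsl_bt (LP (LK LD1_c1 LD2_c4 LD3_c2)) = (LP (LK LD1_c2 LD2_c14 LD3_c0)) :=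
  Lre_b IH (LK LD1_c1 LD2_c4 LD3_c2) (LK LD1_c2 LD2_c14 LD3_c0) Lrfl Lrfl
theorem f171787 : Led Lsl_bt (LP (LK LD1_c1 LD2_c21 LD3_c18)) = (LP (LK LD1_c0 LD2_c37 LD3_c31)) :=
  Lre_b IH (LK LD1_c1 LD2_c21 LD3_c18) (LK LD1_c0 LD2_c37 LD3_c31) Lrfl Lrfl
theorem f210984 : Led Lsl_ct (LP (LK LD1_c2 LD2_c14 LD3_c0)) = (LP (LK LD1_c1 LD2_c21 LD3_c18)) :=
  Lgr Lrot83 (Lpe (f20802 IH) (Lpe (K10.f20789 IH) (Lpr_bf (K10.f198325 IH) (Lpr_cf (K11.f205222 IH) (Lpe (f171787 IH) (Lpn (LP (LK LD1_c1 LD2_c21 LD3_c18))))))))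
theorem f450096 : Led Lsl_ff (LP (LK LD1_c1 LD2_c28 LD3_c55)) = (LP (LK LD1_c1 LD2_c21 LD3_c18)) :=
  Lgr Lrot23 (Lpe (f421025 IH) (Lpr_ft (f450082 IH) (Lpr_ct (f210984 IH) (Lpn (LP (LK LD1_c1 LD2_c21 LD3_c18))))))
theorem f450104 : Led Lsl_ft (LP (LK LD1_c1 LD2_c28 LD3_c55)) = (LP (LK LD1_c1 LD2_c21 LD3_c18)) :=
  Lgr Lrot48 (Lpr_ff (f450096 IH) (Lpn (LP (LK LD1_c1 LD2_c21 LD3_c18))))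
theorem f421031 : Led Lsl_dt (LP (LK LD1_c3 LD2_c5 LD3_c44)) = (LP (LK LD1_c1 LD2_c28 LD3_c55)) :=
  Lre_d IH (LK LD1_c3 LD2_c5 LD3_c44) (LK LD1_c1 LD2_c28 LD3_c55) Lrfl Lrfl
theorem f171800 : Led Lsl_dt (LP (LK LD1_c1 LD2_c21 LD3_c18)) = (LP (LK LD1_c2 LD2_c50 LD3_c37)) :=
  Lre_d IH (LK LD1_c1 LD2_c21 LD3_c18) (LK LD1_c2 LD2_c50 LD3_c37) Lrfl Lrfl
theorem f450113 : Led Lsl_ff (LP (LK LD1_c3 LD2_c5 LD3_c44)) = (LP (LK LD1_c2 LD2_c50 LD3_c37)) :=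
  Lgr Lrot19 (Lpr_dt (f421031 IH) (Lpr_ft (f450104 IH) (Lpr_dt (f171800 IH) (Lpn (LP (LK LD1_c2 LD2_c50 LD3_c37))))))
theorem f186039 : Led Lsl_bt (LP (LK LD1_c3 LD2_c5 LD3_c44)) = (LP (LK LD1_c1 LD2_c28 LD3_c56)) :=
  Lre_b IH (LK LD1_c3 LD2_c5 LD3_c44) (LK LD1_c1 LD2_c28 LD3_c56) Lrfl Lrfl
theorem f450119 : Led Lsl_bt (LP (LK LD1_c1 LD2_c21 LD3_c19)) = (LP (LK LD1_c2 LD2_c50 LD3_c37)) :=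
  Lre_b IH (LK LD1_c1 LD2_c21 LD3_c19) (LK LD1_c2 LD2_c50 LD3_c37) Lrfl Lrfl
theorem f450120 : Led Lsl_ft (LP (LK LD1_c1 LD2_c28 LD3_c56)) = (LP (LK LD1_c1 LD2_c21 LD3_c19)) :=
  Lgr Lrot75 (Lpe (f186039 IH) (Lpr_ff (f450113 IH) (Lpe (f450119 IH) (Lpn (LP (LK LD1_c1 LD2_c21 LD3_c19))))))
theorem f450129 : Led Lsl_ff (LP (LK LD1_c1 LD2_c28 LD3_c56)) = (LP (LK LD1_c1 LD2_c21 LD3_c19)) :=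
  Lgr Lrot3 (Lpr_ft (f450120 IH) (Lpn (LP (LK LD1_c1 LD2_c21 LD3_c19))))
theorem f176637 : Led Lsl_dt (LP (LK LD1_c0 LD2_c37 LD3_c32)) = (LP (LK LD1_c1 LD2_c21 LD3_c21)) :=
  Lre_d IH (LK LD1_c0 LD2_c37 LD3_c32) (LK LD1_c1 LD2_c21 LD3_c21) Lrfl Lrfl
theorem f100938 : Led Lsl_et (LP (LK LD1_c1 LD2_c10 LD3_c41)) = (LP (LK LD1_c0 LD2_c32 LD3_c44)) :=
  Lre_e IH (LK LD1_c1 LD2_c10 LD3_c41) (LK LD1_c0 LD2_c32 LD3_c44) Lrfl Lrfl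
theorem f186059 : Led Lsl_gf (LP (LK LD1_c1 LD2_c21 LD3_c21)) = (LP (LK LD1_c1 LD2_c19 LD3_c45)) :=
  Lgr Lrot145 (Lpe (f176637 IH) (Lpr_et (K11.f176624 IH) (Lpr_gt (K10.f185962 IH) (Lpr_dt (K10.f176841 IH) (Lpr_gt (K10.f186042 IH) (Lpe (K9.f100682 IH) (Lpr_et (f100938 IH) (Lpe (K9.f171766 IH) (Lpe (K12.f171778 IH) (Lpr_dt (K12.f171779 IH) (Lpn (LP (LK LD1_c1 LD2_c19 LD3_c45)))))))))))))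
theorem f450132 : Led Lsl_at (LP (LK LD1_c1 LD2_c28 LD3_c56)) = (LP (LK LD1_c1 LD2_c21 LD3_c21)) :=
  Lgr Lrot26 (Lpr_ff (f450129 IH) (Lpr_gt (K12.f171780 IH) (Lpe (f186059 IH) (Lpn (LP (LK LD1_c1 LD2_c21 LD3_c21))))))
theorem f176640 : Led Lsl_dt (LP (LK LD1_c1 LD2_c21 LD3_c21)) = (LP (LK LD1_c0 LD2_c37 LD3_c32)) :=
  Lre_d IH (LK LD1_c1 LD2_c21 LD3_c21) (LK LD1_c0 LD2_c37 LD3_c32) Lrfl Lrfl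
theorem f450141 : Led Lsl_af (LP (LK LD1_c0 LD2_c41 LD3_c5)) = (LP (LK LD1_c0 LD2_c37 LD3_c32)) :=
  Lgr Lrot117 (Lpr_dt (K16.f186032 IH) (Lpr_at (f450132 IH) (Lpr_dt (f176640 IH) (Lpn (LP (LK LD1_c0 LD2_c37 LD3_c32))))))
theorem f211006 : Led Lsl_bf (LP (LK LD1_c0 LD2_c16 LD3_c46)) = (LP (LK LD1_c0 LD2_c16 LD3_c46)) :=
  Lgr Lrot34 (Lpe (K11.f177110 IH) (Lpr_bf (K10.f198325 IH) (Lpr_ct (K11.f210986 IH) (Lpe (K11.f61333 IH) (Lpe (K11.f61311 IH) (Lpe (K9.f146326 IH) (Lpr_bf (K11.f198359 IH) (Lpr_ct (K11.f59026 IH) (Lpe (K11.f211004 IH) (Lpe (K11.f146357 IH) (Lpn (LP (LK LD1_c0 LD2_c16 LD3_c46)))))))))))))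
theorem f227759 : Led Lsl_gt (LP (LK LD1_c0 LD2_c41 LD3_c2)) = (LP (LK LD1_c0 LD2_c37 LD3_c34)) :=
  Lgr Lrot149 (Lpe (K12.f59006 IH) (Lpe (K10.f59000 IH) (Lpe (K12.f59076 IH) (Lpr_ct (K12.f59079 IH) (Lpe (K12.f38106 IH) (Lpr_cf (K12.f227743 IH) (Lpr_bt (K12.f210940 IH) (Lpe (K36.f177099 IH) (Lpr_bf (f211006 IH) (Lpr_ct (K11.f146357 IH) (Lpn (LP (LK LD1_c0 LD2_c37 LD3_c34)))))))))))))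
theorem f450163 : Led Lsl_ft (LP (LK LD1_c0 LD2_c41 LD3_c2)) = (LP (LK LD1_c0 LD2_c37 LD3_c32)) :=
  Lgr Lrot2 (Lpr_gt (f227759 IH) (Lpr_gt (K11.f211004 IH) (Lpr_af (f450141 IH) (Lpn (LP (LK LD1_c0 LD2_c37 LD3_c32))))))
theorem f450171 : Led Lsl_ff (LP (LK LD1_c0 LD2_c41 LD3_c2)) = (LP (LK LD1_c0 LD2_c37 LD3_c32)) :=
  Lgr Lrot3 (Lpr_ft (f450163 IH) (Lpn (LP (LK LD1_c0 LD2_c37 LD3_c32))))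
theorem f450177 : Led Lsl_ft (LP (LK LD1_c1 LD2_c28 LD3_c52)) = (LP (LK LD1_c1 LD2_c21 LD3_c21)) :=
  Lgr Lrot54 (Lpe (K12.f186332 IH) (Lpr_ff (f450171 IH) (Lpe (f176640 IH) (Lpn (LP (LK LD1_c1 LD2_c21 LD3_c21))))))
theorem f227766 : Led Lsl_bt (LP (LK LD1_c3 LD2_c5 LD3_c40)) = (LP (LK LD1_c1 LD2_c28 LD3_c52)) :=
  Lre_b IH (LK LD1_c3 LD2_c5 LD3_c40) (LK LD1_c1 LD2_c28 LD3_c52) Lrfl Lrfl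
theorem f450137 : Led Lsl_bt (LP (LK LD1_c1 LD2_c21 LD3_c21)) = (LP (LK LD1_c2 LD2_c50 LD3_c42)) :=
  Lre_b IH (LK LD1_c1 LD2_c21 LD3_c21) (LK LD1_c2 LD2_c50 LD3_c42) Lrfl Lrfl
theorem f450181 : Led Lsl_ff (LP (LK LD1_c3 LD2_c5 LD3_c40)) = (LP (LK LD1_c2 LD2_c50 LD3_c42)) :=
  Lgr Lrot25 (Lpr_bt (f227766 IH) (Lpr_ft (f450177 IH) (Lpr_bt (f450137 IH) (Lpn (LP (LK LD1_c2 LD2_c50 LD3_c42))))))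
theorem f450193 : Led Lsl_ft (LP (LK LD1_c3 LD2_c5 LD3_c40)) = (LP (LK LD1_c2 LD2_c50 LD3_c42)) :=
  Lgr Lrot48 (Lpr_ff (f450181 IH) (Lpn (LP (LK LD1_c2 LD2_c50 LD3_c42))))
theorem f450206 : Led Lsl_at (LP (LK LD1_c6 LD2_c17 LD3_c0)) = (LP (LK LD1_c3 LD2_c5 LD3_c40)) :=
  Lre_a IH (LK LD1_c6 LD2_c17 LD3_c0) (LK LD1_c3 LD2_c5 LD3_c40) Lrfl Lrfl
theorem f450138 : Led Lsl_at (LP (LK LD1_c2 LD2_c50 LD3_c42)) = (LP (LK LD1_c5 LD2_c49 LD3_c10)) :=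
  Lre_a IH (LK LD1_c2 LD2_c50 LD3_c42) (LK LD1_c5 LD2_c49 LD3_c10) Lrfl Lrfl
theorem f450207 : Led Lsl_ff (LP (LK LD1_c6 LD2_c17 LD3_c0)) = (LP (LK LD1_c5 LD2_c49 LD3_c10)) :=
  Lgr Lrot30 (Lpr_at (f450206 IH) (Lpr_ft (f450193 IH) (Lpr_at (f450138 IH) (Lpn (LP (LK LD1_c5 LD2_c49 LD3_c10))))))
theorem f450199 : Led Lsl_dt (LP (LK LD1_c6 LD2_c17 LD3_c0)) = (LP (LK LD1_c3 LD2_c5 LD3_c39)) :=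
  Lre_d IH (LK LD1_c6 LD2_c17 LD3_c0) (LK LD1_c3 LD2_c5 LD3_c39) Lrfl Lrfl
theorem f450219 : Led Lsl_dt (LP (LK LD1_c2 LD2_c50 LD3_c40)) = (LP (LK LD1_c5 LD2_c49 LD3_c10)) :=
  Lre_d IH (LK LD1_c2 LD2_c50 LD3_c40) (LK LD1_c5 LD2_c49 LD3_c10) Lrfl Lrfl
theorem f450224 : Led Lsl_ft (LP (LK LD1_c3 LD2_c5 LD3_c39)) = (LP (LK LD1_c2 LD2_c50 LD3_c40)) :=
  Lgr Lrot54 (Lpe (f450199 IH) (Lpr_ff (f450207 IH) (Lpe (f450219 IH) (Lpn (LP (LK LD1_c2 LD2_c50 LD3_c40))))))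
theorem f450233 : Led Lsl_ff (LP (LK LD1_c3 LD2_c5 LD3_c39)) = (LP (LK LD1_c2 LD2_c50 LD3_c40)) :=
  Lgr Lrot3 (Lpr_ft (f450224 IH) (Lpn (LP (LK LD1_c2 LD2_c50 LD3_c40))))
theorem f503198 : Led Lsl_gt (LP (LK LD1_c2 LD2_c50 LD3_c40)) = v1829 :=
  Lgr Lrot5 (Lpe (f450233 IH) (Lpr_at (f450243 IH) (Lpr_gf (f503197 IH) (Lpn v1829))))
theorem f450217 : Led Lsl_dt (LP (LK LD1_c5 LD2_c49 LD3_c10)) = (LP (LK LD1_c2 LD2_c50 LD3_c40)) :=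
  Lre_d IH (LK LD1_c5 LD2_c49 LD3_c10) (LK LD1_c2 LD2_c50 LD3_c40) Lrfl Lrfl
theorem f450214 : Led Lsl_gt (LP (LK LD1_c3 LD2_c5 LD3_c40)) = (LP (LK LD1_c6 LD2_c17 LD3_c2)) :=
  Lre_g IH (LK LD1_c3 LD2_c5 LD3_c40) (LK LD1_c6 LD2_c17 LD3_c2) Lrfl Lrfl
theorem f450215 : Led Lsl_gt (LP (LK LD1_c6 LD2_c17 LD3_c2)) = (LP (LK LD1_c5 LD2_c49 LD3_c10)) :=
  Lgr Lrot46 (Lpe (f450214 IH) (Lpr_ft (f450193 IH) (Lpr_at (f450138 IH) (Lpn (LP (LK LD1_c5 LD2_c49 LD3_c10))))))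
theorem f546847 : Led Lsl_cf (LP (LK LD1_c11 LD2_c44 LD3_c45)) = (LP (LK LD1_c6 LD2_c17 LD3_c2)) :=
  Lgr Lrot166 (Lpe (f501561 IH) (Lpr_dt (f110565 IH) (Lpr_gt (K8.f157594 IH) (Lpr_dt (f110911 IH) (Lpe (f543981 IH) (Lpe (K36.f73436 IH) (Lpqs (f546836 IH) (Lpe (f503198 IH) (Lpe (f450217 IH) (Lpe (f450215 IH) (Lpn (LP (LK LD1_c6 LD2_c17 LD3_c2)))))))))))))
theorem f501891 : Led Lsl_et (LP (LK LD1_c5 LD2_c59 LD3_c35)) = (LP (LK LD1_c2 LD2_c56 LD3_c8)) :=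
  Lre_e IH (LK LD1_c5 LD2_c59 LD3_c35) (LK LD1_c2 LD2_c56 LD3_c8) Lrfl Lrfl
theorem f501862 : Led Lsl_et (LP (LK LD1_c4 LD2_c48 LD3_c50)) = (LP (LK LD1_c9 LD2_c30 LD3_c9)) :=
  Lre_e IH (LK LD1_c4 LD2_c48 LD3_c50) (LK LD1_c9 LD2_c30 LD3_c9) Lrfl Lrfl
theorem f501892 : Led Lsl_bf (LP (LK LD1_c5 LD2_c59 LD3_c35)) = (LP (LK LD1_c9 LD2_c30 LD3_c9)) :=
  Lgr Lrot96 (Lpr_et (f501891 IH) (Lpr_bt (K36.f501884 IH) (Lpr_et (f501862 IH) (Lpn (LP (LK LD1_c9 LD2_c30 LD3_c9))))))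
theorem f501898 : Led Lsl_ft (LP (LK LD1_c5 LD2_c59 LD3_c35)) = (LP (LK LD1_c11 LD2_c43 LD3_c45)) :=
  Lre_f IH (LK LD1_c5 LD2_c59 LD3_c35) (LK LD1_c11 LD2_c43 LD3_c45) Lrfl Lrfl
theorem f501899 : Led Lsl_ft (LP (LK LD1_c17 LD2_c31 LD3_c28)) = (LP (LK LD1_c9 LD2_c30 LD3_c9)) :=
  Lre_f IH (LK LD1_c17 LD2_c31 LD3_c28) (LK LD1_c9 LD2_c30 LD3_c9) Lrfl Lrfl
theorem f501900 : Led Lsl_bt (LP (LK LD1_c11 LD2_c43 LD3_c45)) = (LP (LK LD1_c17 LD2_c31 LD3_c28)) :=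
  Lgr Lrot35 (Lpe (f501898 IH) (Lpr_bf (f501892 IH) (Lpe (f501899 IH) (Lpn (LP (LK LD1_c17 LD2_c31 LD3_c28))))))
theorem f501908 : Led Lsl_bf (LP (LK LD1_c11 LD2_c43 LD3_c45)) = (LP (LK LD1_c17 LD2_c31 LD3_c28)) :=
  Lgr Lrot24 (Lpr_bt (f501900 IH) (Lpn (LP (LK LD1_c17 LD2_c31 LD3_c28))))
theorem f501914 : Led Lsl_at (LP (LK LD1_c11 LD2_c43 LD3_c45)) = (LP (LK LD1_c5 LD2_c59 LD3_c42)) :=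
  Lre_a IH (LK LD1_c11 LD2_c43 LD3_c45) (LK LD1_c5 LD2_c59 LD3_c42) Lrfl Lrfl
theorem f501437 : Led Lsl_bt (LP (LK LD1_c5 LD2_c59 LD3_c42)) = (LP (LK LD1_c2 LD2_c56 LD3_c19)) :=
  Lre_b IH (LK LD1_c5 LD2_c59 LD3_c42) (LK LD1_c2 LD2_c56 LD3_c19) Lrfl Lrfl
theorem f501915 : Led Lsl_at (LP (LK LD1_c9 LD2_c30 LD3_c15)) = (LP (LK LD1_c17 LD2_c31 LD3_c28)) :=
  Lre_a IH (LK LD1_c9 LD2_c30 LD3_c15) (LK LD1_c17 LD2_c31 LD3_c28) Lrfl Lrfl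
theorem f501916 : Led Lsl_bt (LP (LK LD1_c4 LD2_c48 LD3_c58)) = (LP (LK LD1_c9 LD2_c30 LD3_c15)) :=
  Lre_b IH (LK LD1_c4 LD2_c48 LD3_c58) (LK LD1_c9 LD2_c30 LD3_c15) Lrfl Lrfl
theorem f501917 : Led Lsl_at (LP (LK LD1_c2 LD2_c56 LD3_c19)) = (LP (LK LD1_c4 LD2_c48 LD3_c58)) :=
  Lgr Lrot67 (Lpe (f501437 IH) (Lpe (f501914 IH) (Lpr_bf (f501908 IH) (Lpe (f501915 IH) (Lpe (f501916 IH) (Lpn (LP (LK LD1_c4 LD2_c48 LD3_c58))))))))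
def v1692 : LQ := Led Lsl_at (LP (LK LD1_c1 LD2_c24 LD3_c4))
theorem f500819 : Led Lsl_at (LP (LK LD1_c1 LD2_c24 LD3_c4)) = v1692 :=
  Lrfl
theorem f75059 : Led Lsl_et (LP (LK LD1_c0 LD2_c38 LD3_c49)) = (LP (LK LD1_c1 LD2_c24 LD3_c4)) :=
  Lre_e IH (LK LD1_c0 LD2_c38 LD3_c49) (LK LD1_c1 LD2_c24 LD3_c4) Lrfl Lrfl
def v445 : LQ := Led Lsl_ft (LP (LK LD1_c0 LD2_c38 LD3_c48))
theorem f452874 : Led Lsl_ft (LP (LK LD1_c0 LD2_c38 LD3_c48)) = v445 :=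
  Lrfl
theorem f76142 : Led Lsl_ft (LP (LK LD1_c1 LD2_c26 LD3_c0)) = (LP (LK LD1_c0 LD2_c39 LD3_c45)) :=
  Lre_f IH (LK LD1_c1 LD2_c26 LD3_c0) (LK LD1_c0 LD2_c39 LD3_c45) Lrfl Lrfl
theorem f452868 : Led Lsl_ft (LP (LK LD1_c0 LD2_c38 LD3_c49)) = K36.v444 :=
  Lgr Lrot54 (Lpe (K11.f75042 IH) (Lpe (f76142 IH) (Lpr_df (K36.f452864 IH) (Lpn K36.v444))))
theorem f452875 : Led Lsl_af (LP (LK LD1_c0 LD2_c38 LD3_c49)) = v445 :=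
  Lgr Lrot45 (Lpr_ft (f452868 IH) (Lpe (K36.f452863 IH) (Lpr_ft (f452874 IH) (Lpn v445))))
theorem f500824 : Led Lsl_ef v445 = v1692 :=
  Lgr Lrot20 (Lpe (f452875 IH) (Lpr_et (f75059 IH) (Lpr_at (f500819 IH) (Lpn v1692))))
theorem f500827 : Led Lsl_et v445 = v1692 :=
  Lgr Lrot87 (Lpr_ef (f500824 IH) (Lpn v1692))
theorem f161277 : Led Lsl_df (LP (LK LD1_c2 LD2_c49 LD3_c20)) = (LP (LK LD1_c3 LD2_c59 LD3_c41)) :=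
  Lgr Lrot84 (Lpe (K32.f60947 IH) (Lpr_df (K4.f104801 IH) (Lpe (K4.f26416 IH) (Lpe (K8.f40318 IH) (Lpr_gf (K8.f161274 IH) (Lpe (K6.f138890 IH) (Lpr_gt (f150380 IH) (Lpr_dt (K8.f72610 IH) (Lpr_gt (K8.f156784 IH) (Lpn (LP (LK LD1_c3 LD2_c59 LD3_c41))))))))))))
theorem f452967 : Led Lsl_df (LP (LK LD1_c1 LD2_c8 LD3_c17)) = K24.v458 :=
  Lgr Lrot155 (Lpr_gt (K6.f40709 IH) (Lpr_ct (K7.f56843 IH) (Lpr_gt (K7.f56844 IH) (Lpr_ct (K7.f156777 IH) (Lpe (f161277 IH) (Lpe (K32.f60947 IH) (Lpe (K4.f72866 IH) (Lpe (K2.f72860 IH) (Lpr_gf (K24.f452964 IH) (Lpn K24.v458))))))))))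
theorem f452878 : Led Lsl_ff (LP (LK LD1_c0 LD2_c38 LD3_c48)) = v445 :=
  Lgr Lrot3 (Lpr_ft (f452874 IH) (Lpn v445))
theorem f75536 : Led Lsl_ft (LP (LK LD1_c0 LD2_c39 LD3_c44)) = (LP (LK LD1_c1 LD2_c26 LD3_c4)) :=
  Lre_f IH (LK LD1_c0 LD2_c39 LD3_c44) (LK LD1_c1 LD2_c26 LD3_c4) Lrfl Lrfl
theorem f452880 : Led Lsl_dt (LP (LK LD1_c1 LD2_c26 LD3_c4)) = v445 :=
  Lgr Lrot60 (Lpe (f75536 IH) (Lpe (K5.f75526 IH) (Lpr_ff (f452878 IH) (Lpn v445))))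
theorem f75038 : Led Lsl_at (LP (LK LD1_c0 LD2_c39 LD3_c45)) = (LP (LK LD1_c1 LD2_c26 LD3_c4)) :=
  Lre_a IH (LK LD1_c0 LD2_c39 LD3_c45) (LK LD1_c1 LD2_c26 LD3_c4) Lrfl Lrfl
theorem f501346 : Led Lsl_gf (LP (LK LD1_c1 LD2_c26 LD3_c4)) = K36.v1765 :=
  Lgr Lrot76 (Lpe (f75038 IH) (Lpe (f76142 IH) (Lpr_gt (K36.f501345 IH) (Lpn K36.v1765))))
theorem f501380 : (LP (LK LD1_c1 LD2_c26 LD3_c4)) = K24.v458 :=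
  Lefun (Lecon (Lfl_gf (f501346 IH)) (K36.f501366 IH).symm) (K24.f452965 IH)
theorem f501404 : (LP (LK LD1_c1 LD2_c8 LD3_c17)) = v445 :=
  Lefun (Lecon (Lfl_df (f452967 IH)) (f501380 IH).symm) (f452880 IH)
theorem f501419 : v1692 = (LP (LK LD1_c2 LD2_c22 LD3_c17)) :=
  Lefun (Lecon (f500827 IH) (f501404 IH).symm) (K24.f452969 IH)
theorem f500820 : Led Lsl_af (LP (LK LD1_c1 LD2_c24 LD3_c4)) = v1692 :=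
  Lgr Lrot0 (Lpr_at (f500819 IH) (Lpn v1692))
theorem f452871 : Led Lsl_ft (LP (LK LD1_c1 LD2_c24 LD3_c4)) = (LP (LK LD1_c2 LD2_c56 LD3_c29)) :=
  Lre_f IH (LK LD1_c1 LD2_c24 LD3_c4) (LK LD1_c2 LD2_c56 LD3_c29) Lrfl Lrfl
theorem f501422 : Led Lsl_af (LP (LK LD1_c4 LD2_c48 LD3_c49)) = (LP (LK LD1_c2 LD2_c56 LD3_c29)) :=
  Lgr Lrot45 (Lpr_ft (K36.f495137 IH) (Lpq (f501419 IH) (Lpe (f500820 IH) (Lpr_ft (f452871 IH) (Lpn (LP (LK LD1_c2 LD2_c56 LD3_c29)))))))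
theorem f501927 : Led Lsl_ef (LP (LK LD1_c2 LD2_c56 LD3_c29)) = (LP (LK LD1_c4 LD2_c48 LD3_c58)) :=
  Lgr Lrot20 (Lpe (f501422 IH) (Lpr_et (K36.f501444 IH) (Lpr_at (f501917 IH) (Lpn (LP (LK LD1_c4 LD2_c48 LD3_c58))))))
theorem f501939 : Led Lsl_et (LP (LK LD1_c2 LD2_c56 LD3_c29)) = (LP (LK LD1_c4 LD2_c48 LD3_c58)) :=
  Lgr Lrot87 (Lpr_ef (f501927 IH) (Lpn (LP (LK LD1_c4 LD2_c48 LD3_c58))))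
theorem f501903 : Led Lsl_at (LP (LK LD1_c5 LD2_c59 LD3_c42)) = (LP (LK LD1_c11 LD2_c43 LD3_c45)) :=
  Lre_a IH (LK LD1_c5 LD2_c59 LD3_c42) (LK LD1_c11 LD2_c43 LD3_c45) Lrfl Lrfl
theorem f501446 : Led Lsl_bt (LP (LK LD1_c2 LD2_c56 LD3_c19)) = (LP (LK LD1_c5 LD2_c59 LD3_c42)) :=
  Lre_b IH (LK LD1_c2 LD2_c56 LD3_c19) (LK LD1_c5 LD2_c59 LD3_c42) Lrfl Lrfl
theorem f501904 : Led Lsl_at (LP (LK LD1_c17 LD2_c31 LD3_c28)) = (LP (LK LD1_c9 LD2_c30 LD3_c15)) :=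
  Lre_a IH (LK LD1_c17 LD2_c31 LD3_c28) (LK LD1_c9 LD2_c30 LD3_c15) Lrfl Lrfl
theorem f501905 : Led Lsl_bt (LP (LK LD1_c9 LD2_c30 LD3_c15)) = (LP (LK LD1_c4 LD2_c48 LD3_c58)) :=
  Lre_b IH (LK LD1_c9 LD2_c30 LD3_c15) (LK LD1_c4 LD2_c48 LD3_c58) Lrfl Lrfl
theorem f501906 : Led Lsl_af (LP (LK LD1_c2 LD2_c56 LD3_c19)) = (LP (LK LD1_c4 LD2_c48 LD3_c58)) :=
  Lgr Lrot36 (Lpr_bt (f501446 IH) (Lpr_at (f501903 IH) (Lpr_bt (f501900 IH) (Lpr_at (f501904 IH) (Lpr_bt (f501905 IH) (Lpn (LP (LK LD1_c4 LD2_c48 LD3_c58))))))))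
theorem f501941 : Led Lsl_af (LP (LK LD1_c2 LD2_c56 LD3_c29)) = (LP (LK LD1_c4 LD2_c48 LD3_c49)) :=
  Lgr Lrot50 (Lpr_et (f501939 IH) (Lpe (f501906 IH) (Lpe (K36.f501425 IH) (Lpn (LP (LK LD1_c4 LD2_c48 LD3_c49))))))
theorem f501937 : Led Lsl_ct (LP (LK LD1_c2 LD2_c56 LD3_c29)) = (LP (LK LD1_c6 LD2_c0 LD3_c16)) :=
  Lre_c IH (LK LD1_c2 LD2_c56 LD3_c29) (LK LD1_c6 LD2_c0 LD3_c16) Lrfl Lrfl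
theorem f501975 : Led Lsl_at (LP (LK LD1_c6 LD2_c0 LD3_c16)) = (LP (LK LD1_c9 LD2_c30 LD3_c6)) :=
  Lgr Lrot107 (Lpe (f501937 IH) (Lpr_af (f501941 IH) (Lpe (K36.f56923 IH) (Lpn (LP (LK LD1_c9 LD2_c30 LD3_c6))))))
theorem f500791 : Led Lsl_ft (LP (LK LD1_c2 LD2_c56 LD3_c25)) = (LP (LK LD1_c6 LD2_c0 LD3_c16)) :=
  Lre_f IH (LK LD1_c2 LD2_c56 LD3_c25) (LK LD1_c6 LD2_c0 LD3_c16) Lrfl Lrfl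
theorem f501457 : Led Lsl_ft (LP (LK LD1_c9 LD2_c30 LD3_c6)) = (LP (LK LD1_c4 LD2_c48 LD3_c47)) :=
  Lre_f IH (LK LD1_c9 LD2_c30 LD3_c6) (LK LD1_c4 LD2_c48 LD3_c47) Lrfl Lrfl
theorem f501986 : Led Lsl_af (LP (LK LD1_c2 LD2_c56 LD3_c25)) = (LP (LK LD1_c4 LD2_c48 LD3_c47)) :=
  Lgr Lrot45 (Lpr_ft (f500791 IH) (Lpr_at (f501975 IH) (Lpr_ft (f501457 IH) (Lpn (LP (LK LD1_c4 LD2_c48 LD3_c47))))))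
theorem f72672 : Led Lsl_dt (LP (LK LD1_c2 LD2_c56 LD3_c25)) = (LP (LK LD1_c6 LD2_c0 LD3_c15)) :=
  Lre_d IH (LK LD1_c2 LD2_c56 LD3_c25) (LK LD1_c6 LD2_c0 LD3_c15) Lrfl Lrfl
theorem f502000 : Led Lsl_dt (LP (LK LD1_c9 LD2_c30 LD3_c5)) = (LP (LK LD1_c4 LD2_c48 LD3_c47)) :=
  Lre_d IH (LK LD1_c9 LD2_c30 LD3_c5) (LK LD1_c4 LD2_c48 LD3_c47) Lrfl Lrfl
theorem f502001 : Led Lsl_at (LP (LK LD1_c6 LD2_c0 LD3_c15)) = (LP (LK LD1_c9 LD2_c30 LD3_c5)) :=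
  Lgr Lrot51 (Lpe (f72672 IH) (Lpr_af (f501986 IH) (Lpe (f502000 IH) (Lpn (LP (LK LD1_c9 LD2_c30 LD3_c5))))))
theorem f502018 : Led Lsl_et (LP (LK LD1_c11 LD2_c44 LD3_c53)) = (LP (LK LD1_c6 LD2_c0 LD3_c15)) :=
  Lre_e IH (LK LD1_c11 LD2_c44 LD3_c53) (LK LD1_c6 LD2_c0 LD3_c15) Lrfl Lrfl
theorem f138726 : Led Lsl_et (LP (LK LD1_c9 LD2_c30 LD3_c5)) = (LP (LK LD1_c17 LD2_c31 LD3_c20)) :=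
  Lre_e IH (LK LD1_c9 LD2_c30 LD3_c5) (LK LD1_c17 LD2_c31 LD3_c20) Lrfl Lrfl
theorem f502019 : Led Lsl_af (LP (LK LD1_c11 LD2_c44 LD3_c53)) = (LP (LK LD1_c17 LD2_c31 LD3_c20)) :=
  Lgr Lrot50 (Lpr_et (f502018 IH) (Lpr_at (f502001 IH) (Lpr_et (f138726 IH) (Lpn (LP (LK LD1_c17 LD2_c31 LD3_c20))))))
theorem f72692 : Led Lsl_dt (LP (LK LD1_c11 LD2_c44 LD3_c53)) = (LP (LK LD1_c6 LD2_c0 LD3_c12)) :=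
  Lre_d IH (LK LD1_c11 LD2_c44 LD3_c53) (LK LD1_c6 LD2_c0 LD3_c12) Lrfl Lrfl
theorem f105102 : Led Lsl_dt (LP (LK LD1_c9 LD2_c30 LD3_c2)) = (LP (LK LD1_c17 LD2_c31 LD3_c20)) :=
  Lre_d IH (LK LD1_c9 LD2_c30 LD3_c2) (LK LD1_c17 LD2_c31 LD3_c20) Lrfl Lrfl
theorem f502025 : Led Lsl_at (LP (LK LD1_c6 LD2_c0 LD3_c12)) = (LP (LK LD1_c9 LD2_c30 LD3_c2)) :=
  Lgr Lrot51 (Lpe (f72692 IH) (Lpr_af (f502019 IH) (Lpe (f105102 IH) (Lpn (LP (LK LD1_c9 LD2_c30 LD3_c2))))))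
theorem f72701 : Led Lsl_ft (LP (LK LD1_c11 LD2_c44 LD3_c54)) = (LP (LK LD1_c6 LD2_c0 LD3_c12)) :=
  Lre_f IH (LK LD1_c11 LD2_c44 LD3_c54) (LK LD1_c6 LD2_c0 LD3_c12) Lrfl Lrfl
theorem f105139 : Led Lsl_ft (LP (LK LD1_c9 LD2_c30 LD3_c2)) = (LP (LK LD1_c17 LD2_c31 LD3_c21)) :=
  Lre_f IH (LK LD1_c9 LD2_c30 LD3_c2) (LK LD1_c17 LD2_c31 LD3_c21) Lrfl Lrfl
theorem f502035 : Led Lsl_af (LP (LK LD1_c11 LD2_c44 LD3_c54)) = (LP (LK LD1_c17 LD2_c31 LD3_c21)) :=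
  Lgr Lrot45 (Lpr_ft (f72701 IH) (Lpr_at (f502025 IH) (Lpr_ft (f105139 IH) (Lpn (LP (LK LD1_c17 LD2_c31 LD3_c21))))))
theorem f72676 : Led Lsl_et (LP (LK LD1_c4 LD2_c59 LD3_c40)) = (LP (LK LD1_c9 LD2_c49 LD3_c46)) :=
  Lre_e IH (LK LD1_c4 LD2_c59 LD3_c40) (LK LD1_c9 LD2_c49 LD3_c46) Lrfl Lrfl
theorem f72677 : Led Lsl_et (LP (LK LD1_c6 LD2_c0 LD3_c12)) = (LP (LK LD1_c2 LD2_c56 LD3_c24)) :=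
  Lre_e IH (LK LD1_c6 LD2_c0 LD3_c12) (LK LD1_c2 LD2_c56 LD3_c24) Lrfl Lrfl
theorem f72678 : Led Lsl_ct (LP (LK LD1_c9 LD2_c49 LD3_c46)) = (LP (LK LD1_c6 LD2_c0 LD3_c12)) :=
  Lgr Lrot15 (Lpe (f72676 IH) (Lpr_cf (f72656 IH) (Lpe (f72677 IH) (Lpn (LP (LK LD1_c6 LD2_c0 LD3_c12))))))
theorem f72687 : Led Lsl_ft (LP (LK LD1_c18 LD2_c0 LD3_c24)) = (LP (LK LD1_c9 LD2_c49 LD3_c46)) :=
  Lre_f IH (LK LD1_c18 LD2_c0 LD3_c24) (LK LD1_c9 LD2_c49 LD3_c46) Lrfl Lrfl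
theorem f72688 : Led Lsl_ft (LP (LK LD1_c6 LD2_c0 LD3_c12)) = (LP (LK LD1_c11 LD2_c44 LD3_c54)) :=
  Lre_f IH (LK LD1_c6 LD2_c0 LD3_c12) (LK LD1_c11 LD2_c44 LD3_c54) Lrfl Lrfl
theorem f72689 : Led Lsl_cf (LP (LK LD1_c18 LD2_c0 LD3_c24)) = (LP (LK LD1_c11 LD2_c44 LD3_c54)) :=
  Lgr Lrot108 (Lpr_ft (f72687 IH) (Lpr_ct (f72678 IH) (Lpr_ft (f72688 IH) (Lpn (LP (LK LD1_c11 LD2_c44 LD3_c54))))))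
theorem f105094 : Led Lsl_et (LP (LK LD1_c4 LD2_c48 LD3_c46)) = (LP (LK LD1_c9 LD2_c30 LD3_c2)) :=
  Lre_e IH (LK LD1_c4 LD2_c48 LD3_c46) (LK LD1_c9 LD2_c30 LD3_c2) Lrfl Lrfl
theorem f104932 : Led Lsl_et (LP (LK LD1_c11 LD2_c43 LD3_c49)) = (LP (LK LD1_c5 LD2_c59 LD3_c37)) :=
  Lre_e IH (LK LD1_c11 LD2_c43 LD3_c49) (LK LD1_c5 LD2_c59 LD3_c37) Lrfl Lrfl
theorem f105095 : Led Lsl_ct (LP (LK LD1_c9 LD2_c30 LD3_c2)) = (LP (LK LD1_c11 LD2_c43 LD3_c49)) :=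
  Lgr Lrot15 (Lpe (f105094 IH) (Lpr_cf (K8.f105064 IH) (Lpe (f104932 IH) (Lpn (LP (LK LD1_c11 LD2_c43 LD3_c49))))))
theorem f105125 : Led Lsl_ft (LP (LK LD1_c17 LD2_c31 LD3_c21)) = (LP (LK LD1_c9 LD2_c30 LD3_c2)) :=
  Lre_f IH (LK LD1_c17 LD2_c31 LD3_c21) (LK LD1_c9 LD2_c30 LD3_c2) Lrfl Lrfl
theorem f105126 : Led Lsl_ft (LP (LK LD1_c11 LD2_c43 LD3_c49)) = (LP (LK LD1_c20 LD2_c45 LD3_c0)) :=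
  Lre_f IH (LK LD1_c11 LD2_c43 LD3_c49) (LK LD1_c20 LD2_c45 LD3_c0) Lrfl Lrfl
theorem f105127 : Led Lsl_cf (LP (LK LD1_c17 LD2_c31 LD3_c21)) = (LP (LK LD1_c20 LD2_c45 LD3_c0)) :=
  Lgr Lrot108 (Lpr_ft (f105125 IH) (Lpr_ct (f105095 IH) (Lpr_ft (f105126 IH) (Lpn (LP (LK LD1_c20 LD2_c45 LD3_c0))))))
theorem f502041 : Led Lsl_at (LP (LK LD1_c18 LD2_c0 LD3_c24)) = (LP (LK LD1_c20 LD2_c45 LD3_c0)) :=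
  Lgr Lrot107 (Lpr_cf (f72689 IH) (Lpr_af (f502035 IH) (Lpr_cf (f105127 IH) (Lpn (LP (LK LD1_c20 LD2_c45 LD3_c0))))))
theorem f502043 : Led Lsl_af (LP (LK LD1_c18 LD2_c0 LD3_c24)) = (LP (LK LD1_c20 LD2_c45 LD3_c0)) :=
  Lgr Lrot0 (Lpr_at (f502041 IH) (Lpn (LP (LK LD1_c20 LD2_c45 LD3_c0))))
theorem f502047 : Led Lsl_at (LP (LK LD1_c9 LD2_c49 LD3_c46)) = (LP (LK LD1_c11 LD2_c43 LD3_c49)) :=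
  Lgr Lrot66 (Lpe (f72687 IH) (Lpr_af (f502043 IH) (Lpe (f105126 IH) (Lpn (LP (LK LD1_c11 LD2_c43 LD3_c49))))))
theorem f502053 : Led Lsl_af (LP (LK LD1_c4 LD2_c59 LD3_c40)) = (LP (LK LD1_c5 LD2_c59 LD3_c37)) :=
  Lgr Lrot50 (Lpr_et (f72676 IH) (Lpr_at (f502047 IH) (Lpr_et (f104932 IH) (Lpn (LP (LK LD1_c5 LD2_c59 LD3_c37))))))
theorem f502061 : Led Lsl_ft (LP (LK LD1_c4 LD2_c59 LD3_c43)) = (LP (LK LD1_c5 LD2_c59 LD3_c37)) :=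
  Lgr Lrot2 (Lpe (K4.f75134 IH) (Lpe (K4.f75340 IH) (Lpr_af (f502053 IH) (Lpn (LP (LK LD1_c5 LD2_c59 LD3_c37))))))
theorem f502071 : Led Lsl_ff (LP (LK LD1_c4 LD2_c59 LD3_c43)) = (LP (LK LD1_c5 LD2_c59 LD3_c37)) :=
  Lgr Lrot3 (Lpr_ft (f502061 IH) (Lpn (LP (LK LD1_c5 LD2_c59 LD3_c37))))
theorem f502081 : Led Lsl_at (LP (LK LD1_c4 LD2_c59 LD3_c43)) = (LP (LK LD1_c9 LD2_c30 LD3_c18)) :=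
  Lgr Lrot26 (Lpr_ff (f502071 IH) (Lpe (K4.f104909 IH) (Lpr_gt (K4.f104984 IH) (Lpn (LP (LK LD1_c9 LD2_c30 LD3_c18))))))
theorem f502057 : Led Lsl_at (LP (LK LD1_c4 LD2_c59 LD3_c40)) = (LP (LK LD1_c5 LD2_c59 LD3_c37)) :=
  Lgr Lrot100 (Lpr_af (f502053 IH) (Lpn (LP (LK LD1_c5 LD2_c59 LD3_c37))))
theorem f502091 : Led Lsl_ff (LP (LK LD1_c4 LD2_c59 LD3_c40)) = (LP (LK LD1_c9 LD2_c30 LD3_c18)) :=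
  Lgr Lrot30 (Lpr_at (f502057 IH) (Lpe (f502071 IH) (Lpr_at (f502081 IH) (Lpn (LP (LK LD1_c9 LD2_c30 LD3_c18))))))
theorem f502097 : Led Lsl_ft (LP (LK LD1_c4 LD2_c59 LD3_c40)) = (LP (LK LD1_c9 LD2_c30 LD3_c18)) :=
  Lgr Lrot48 (Lpr_ff (f502091 IH) (Lpn (LP (LK LD1_c9 LD2_c30 LD3_c18))))
theorem f502099 : Led Lsl_ff (LP (LK LD1_c2 LD2_c56 LD3_c24)) = (LP (LK LD1_c4 LD2_c48 LD3_c54)) :=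
  Lgr Lrot23 (Lpe (f72656 IH) (Lpr_ft (f502097 IH) (Lpr_ct (K4.f104983 IH) (Lpn (LP (LK LD1_c4 LD2_c48 LD3_c54))))))
theorem f72654 : Led Lsl_ct (LP (LK LD1_c4 LD2_c59 LD3_c40)) = (LP (LK LD1_c2 LD2_c56 LD3_c24)) :=
  Lgr Lrot7 (Lpe (K4.f72653 IH) (Lpe (K4.f58947 IH) (Lpe (f72652 IH) (Lpe (K4.f72651 IH) (Lpe (K2.f72564 IH) (Lpr_gt (K7.f26529 IH) (Lpr_dt (K8.f26528 IH) (Lpr_gt (f72646 IH) (Lpr_dt (f72650 IH) (Lpn (LP (LK LD1_c2 LD2_c56 LD3_c24))))))))))))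
theorem f105092 : Led Lsl_ct (LP (LK LD1_c4 LD2_c48 LD3_c46)) = (LP (LK LD1_c5 LD2_c59 LD3_c37)) :=
  Lgr Lrot59 (Lpr_cf (K8.f105064 IH) (Lpn (LP (LK LD1_c5 LD2_c59 LD3_c37))))
theorem f502059 : Led Lsl_at (LP (LK LD1_c2 LD2_c56 LD3_c24)) = (LP (LK LD1_c4 LD2_c48 LD3_c46)) :=
  Lgr Lrot107 (Lpe (f72654 IH) (Lpr_af (f502053 IH) (Lpe (f105092 IH) (Lpn (LP (LK LD1_c4 LD2_c48 LD3_c46))))))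
theorem f502065 : Led Lsl_ff (LP (LK LD1_c2 LD2_c56 LD3_c14)) = (LP (LK LD1_c4 LD2_c48 LD3_c46)) :=
  Lgr Lrot23 (Lpr_ct (K4.f72717 IH) (Lpr_ft (f502061 IH) (Lpe (K8.f105064 IH) (Lpn (LP (LK LD1_c4 LD2_c48 LD3_c46))))))
theorem f502145 : Led Lsl_at (LP (LK LD1_c2 LD2_c56 LD3_c14)) = (LP (LK LD1_c4 LD2_c48 LD3_c54)) :=
  Lgr Lrot66 (Lpr_ff (f502065 IH) (Lpe (f502059 IH) (Lpr_ff (f502099 IH) (Lpn (LP (LK LD1_c4 LD2_c48 LD3_c54))))))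
theorem f72747 : Led Lsl_et (LP (LK LD1_c5 LD2_c59 LD3_c53)) = (LP (LK LD1_c2 LD2_c56 LD3_c14)) :=
  Lre_e IH (LK LD1_c5 LD2_c59 LD3_c53) (LK LD1_c2 LD2_c56 LD3_c14) Lrfl Lrfl
theorem f158502 : Led Lsl_et (LP (LK LD1_c4 LD2_c48 LD3_c54)) = (LP (LK LD1_c9 LD2_c30 LD3_c19)) :=
  Lre_e IH (LK LD1_c4 LD2_c48 LD3_c54) (LK LD1_c9 LD2_c30 LD3_c19) Lrfl Lrfl
theorem f502251 : Led Lsl_af (LP (LK LD1_c5 LD2_c59 LD3_c53)) = (LP (LK LD1_c9 LD2_c30 LD3_c19)) :=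
  Lgr Lrot50 (Lpr_et (f72747 IH) (Lpr_at (f502145 IH) (Lpr_et (f158502 IH) (Lpn (LP (LK LD1_c9 LD2_c30 LD3_c19))))))
theorem f72744 : Led Lsl_ft (LP (LK LD1_c5 LD2_c59 LD3_c53)) = (LP (LK LD1_c11 LD2_c44 LD3_c16)) :=
  Lre_f IH (LK LD1_c5 LD2_c59 LD3_c53) (LK LD1_c11 LD2_c44 LD3_c16) Lrfl Lrfl
theorem f502149 : Led Lsl_ft (LP (LK LD1_c17 LD2_c31 LD3_c41)) = (LP (LK LD1_c9 LD2_c30 LD3_c19)) :=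
  Lre_f IH (LK LD1_c17 LD2_c31 LD3_c41) (LK LD1_c9 LD2_c30 LD3_c19) Lrfl Lrfl
theorem f502259 : Led Lsl_at (LP (LK LD1_c11 LD2_c44 LD3_c16)) = (LP (LK LD1_c17 LD2_c31 LD3_c41)) :=
  Lgr Lrot66 (Lpe (f72744 IH) (Lpr_af (f502251 IH) (Lpe (f502149 IH) (Lpn (LP (LK LD1_c17 LD2_c31 LD3_c41))))))
theorem f72669 : Led Lsl_et (LP (LK LD1_c2 LD2_c56 LD3_c24)) = (LP (LK LD1_c6 LD2_c0 LD3_c12)) :=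
  Lre_e IH (LK LD1_c2 LD2_c56 LD3_c24) (LK LD1_c6 LD2_c0 LD3_c12) Lrfl Lrfl
theorem f105182 : Led Lsl_et (LP (LK LD1_c9 LD2_c30 LD3_c19)) = (LP (LK LD1_c4 LD2_c48 LD3_c54)) :=
  Lre_e IH (LK LD1_c9 LD2_c30 LD3_c19) (LK LD1_c4 LD2_c48 LD3_c54) Lrfl Lrfl
theorem f502150 : Led Lsl_et (LP (LK LD1_c11 LD2_c44 LD3_c54)) = (LP (LK LD1_c17 LD2_c31 LD3_c41)) :=
  Lgr Lrot69 (Lpe (f72688 IH) (Lpe (f72669 IH) (Lpr_ff (f502099 IH) (Lpe (f105182 IH) (Lpe (f502149 IH) (Lpn (LP (LK LD1_c17 LD2_c31 LD3_c41))))))))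
theorem f502152 : Led Lsl_ef (LP (LK LD1_c11 LD2_c44 LD3_c54)) = (LP (LK LD1_c17 LD2_c31 LD3_c41)) :=
  Lgr Lrot88 (Lpr_et (f502150 IH) (Lpn (LP (LK LD1_c17 LD2_c31 LD3_c41))))
theorem f502039 : Led Lsl_at (LP (LK LD1_c11 LD2_c44 LD3_c54)) = (LP (LK LD1_c17 LD2_c31 LD3_c21)) :=
  Lgr Lrot100 (Lpr_af (f502035 IH) (Lpn (LP (LK LD1_c17 LD2_c31 LD3_c21))))
theorem f502268 : Led Lsl_ef (LP (LK LD1_c11 LD2_c44 LD3_c16)) = (LP (LK LD1_c17 LD2_c31 LD3_c21)) :=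
  Lgr Lrot20 (Lpr_at (f502259 IH) (Lpe (f502152 IH) (Lpr_at (f502039 IH) (Lpn (LP (LK LD1_c17 LD2_c31 LD3_c21))))))
theorem f502277 : Led Lsl_et (LP (LK LD1_c11 LD2_c44 LD3_c16)) = (LP (LK LD1_c17 LD2_c31 LD3_c21)) :=
  Lgr Lrot87 (Lpr_ef (f502268 IH) (Lpn (LP (LK LD1_c17 LD2_c31 LD3_c21))))
theorem f72743 : Led Lsl_bt (LP (LK LD1_c20 LD2_c45 LD3_c19)) = (LP (LK LD1_c11 LD2_c44 LD3_c16)) :=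
  Lre_b IH (LK LD1_c20 LD2_c45 LD3_c19) (LK LD1_c11 LD2_c44 LD3_c16) Lrfl Lrfl
theorem f81664 : Led Lsl_et (LP (LK LD1_c16 LD2_c26 LD3_c12)) = (LP (LK LD1_c8 LD2_c47 LD3_c4)) :=
  Lre_e IH (LK LD1_c16 LD2_c26 LD3_c12) (LK LD1_c8 LD2_c47 LD3_c4) Lrfl Lrfl
theorem f137933 : Led Lsl_dt (LP (LK LD1_c26 LD2_c23 LD3_c34)) = (LP (LK LD1_c16 LD2_c26 LD3_c12)) :=
  Lre_d IH (LK LD1_c26 LD2_c23 LD3_c34) (LK LD1_c16 LD2_c26 LD3_c12) Lrfl Lrfl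
theorem f56941 : Led Lsl_dt (LP (LK LD1_c9 LD2_c30 LD3_c1)) = (LP (LK LD1_c17 LD2_c31 LD3_c17)) :=
  Lre_d IH (LK LD1_c9 LD2_c30 LD3_c1) (LK LD1_c17 LD2_c31 LD3_c17) Lrfl Lrfl
theorem f137934 : Led Lsl_ef (LP (LK LD1_c26 LD2_c23 LD3_c34)) = (LP (LK LD1_c17 LD2_c31 LD3_c17)) :=
  Lgr Lrot73 (Lpr_dt (f137933 IH) (Lpr_et (f81664 IH) (Lpr_dt (K6.f137925 IH) (Lpr_et (K36.f56970 IH) (Lpr_dt (f56941 IH) (Lpn (LP (LK LD1_c17 LD2_c31 LD3_c17))))))))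
theorem f138723 : Led Lsl_et (LP (LK LD1_c26 LD2_c23 LD3_c34)) = (LP (LK LD1_c17 LD2_c31 LD3_c17)) :=
  Lgr Lrot87 (Lpr_ef (f137934 IH) (Lpn (LP (LK LD1_c17 LD2_c31 LD3_c17))))
theorem f138725 : Led Lsl_bt (LP (LK LD1_c17 LD2_c31 LD3_c17)) = (LP (LK LD1_c9 LD2_c30 LD3_c5)) :=
  Lre_b IH (LK LD1_c17 LD2_c31 LD3_c17) (LK LD1_c9 LD2_c30 LD3_c5) Lrfl Lrfl
theorem f138727 : Led Lsl_bf (LP (LK LD1_c26 LD2_c23 LD3_c34)) = (LP (LK LD1_c17 LD2_c31 LD3_c20)) :=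
  Lgr Lrot96 (Lpr_et (f138723 IH) (Lpr_bt (f138725 IH) (Lpr_et (f138726 IH) (Lpn (LP (LK LD1_c17 LD2_c31 LD3_c20))))))
theorem f138729 : Led Lsl_bt (LP (LK LD1_c16 LD2_c26 LD3_c12)) = (LP (LK LD1_c9 LD2_c30 LD3_c2)) :=
  Lgr Lrot95 (Lpe (f137933 IH) (Lpr_bf (f138727 IH) (Lpe (f105102 IH) (Lpn (LP (LK LD1_c9 LD2_c30 LD3_c2))))))
theorem f138733 : Led Lsl_ft (LP (LK LD1_c26 LD2_c23 LD3_c35)) = (LP (LK LD1_c16 LD2_c26 LD3_c12)) :=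
  Lre_f IH (LK LD1_c26 LD2_c23 LD3_c35) (LK LD1_c16 LD2_c26 LD3_c12) Lrfl Lrfl
theorem f138734 : Led Lsl_bf (LP (LK LD1_c26 LD2_c23 LD3_c35)) = (LP (LK LD1_c17 LD2_c31 LD3_c21)) :=
  Lgr Lrot61 (Lpr_ft (f138733 IH) (Lpr_bt (f138729 IH) (Lpr_ft (f105139 IH) (Lpn (LP (LK LD1_c17 LD2_c31 LD3_c21))))))
theorem f502279 : Led Lsl_ef (LP (LK LD1_c20 LD2_c45 LD3_c19)) = (LP (LK LD1_c26 LD2_c23 LD3_c35)) :=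
  Lgr Lrot29 (Lpr_bt (f72743 IH) (Lpr_et (f502277 IH) (Lpe (f138734 IH) (Lpn (LP (LK LD1_c26 LD2_c23 LD3_c35))))))
theorem f502281 : Led Lsl_ft (LP (LK LD1_c20 LD2_c45 LD3_c19)) = (LP (LK LD1_c11 LD2_c44 LD3_c6)) :=
  Lre_f IH (LK LD1_c20 LD2_c45 LD3_c19) (LK LD1_c11 LD2_c44 LD3_c6) Lrfl Lrfl
theorem f112416 : Led Lsl_et (LP (LK LD1_c11 LD2_c44 LD3_c6)) = (LP (LK LD1_c5 LD2_c59 LD3_c49)) :=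
  Lre_e IH (LK LD1_c11 LD2_c44 LD3_c6) (LK LD1_c5 LD2_c59 LD3_c49) Lrfl Lrfl
theorem f138738 : Led Lsl_ft (LP (LK LD1_c16 LD2_c26 LD3_c12)) = (LP (LK LD1_c26 LD2_c23 LD3_c35)) :=
  Lre_f IH (LK LD1_c16 LD2_c26 LD3_c12) (LK LD1_c26 LD2_c23 LD3_c35) Lrfl Lrfl
theorem f137938 : Led Lsl_et (LP (LK LD1_c8 LD2_c47 LD3_c4)) = (LP (LK LD1_c16 LD2_c26 LD3_c12)) :=
  Lre_e IH (LK LD1_c8 LD2_c47 LD3_c4) (LK LD1_c16 LD2_c26 LD3_c12) Lrfl Lrfl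
theorem f502282 : Led Lsl_ft (LP (LK LD1_c5 LD2_c59 LD3_c49)) = (LP (LK LD1_c8 LD2_c47 LD3_c4)) :=
  Lgr Lrot86 (Lpe (f112416 IH) (Lpe (f502281 IH) (Lpr_ef (f502279 IH) (Lpe (f138738 IH) (Lpe (f137938 IH) (Lpn (LP (LK LD1_c8 LD2_c47 LD3_c4))))))))
theorem f35957 : Led Lsl_gt (LP (LK LD1_c7 LD2_c56 LD3_c51)) = (LP (LK LD1_c14 LD2_c59 LD3_c36)) :=
  Lre_g IH (LK LD1_c7 LD2_c56 LD3_c51) (LK LD1_c14 LD2_c59 LD3_c36) Lrfl Lrfl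
theorem f502286 : Led Lsl_af (LP (LK LD1_c14 LD2_c59 LD3_c36)) = (LP (LK LD1_c8 LD2_c47 LD3_c4)) :=
  Lgr Lrot31 (Lpe (f35957 IH) (Lpr_gf (K4.f112403 IH) (Lpr_ft (f502282 IH) (Lpn (LP (LK LD1_c8 LD2_c47 LD3_c4))))))
theorem f137929 : Led Lsl_bf (LP (LK LD1_c8 LD2_c47 LD3_c4)) = (LP (LK LD1_c4 LD2_c48 LD3_c46)) :=
  Lgr Lrot93 (Lpr_dt (K6.f137925 IH) (Lpr_bt (K7.f56870 IH) (Lpr_dt (K8.f58888 IH) (Lpn (LP (LK LD1_c4 LD2_c48 LD3_c46))))))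
theorem f72674 : Led Lsl_bt (LP (LK LD1_c6 LD2_c0 LD3_c10)) = (LP (LK LD1_c2 LD2_c56 LD3_c24)) :=
  Lre_b IH (LK LD1_c6 LD2_c0 LD3_c10) (LK LD1_c2 LD2_c56 LD3_c24) Lrfl Lrfl
theorem f502155 : Led Lsl_at (LP (LK LD1_c11 LD2_c44 LD3_c45)) = (LP (LK LD1_c6 LD2_c0 LD3_c10)) :=
  Lre_a IH (LK LD1_c11 LD2_c44 LD3_c45) (LK LD1_c6 LD2_c0 LD3_c10) Lrfl Lrfl
theorem f502290 : Led Lsl_bt (LP (LK LD1_c14 LD2_c59 LD3_c36)) = (LP (LK LD1_c11 LD2_c44 LD3_c45)) :=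
  Lgr Lrot62 (Lpr_af (f502286 IH) (Lpr_bf (f137929 IH) (Lpe (f502059 IH) (Lpe (f72674 IH) (Lpe (f502155 IH) (Lpn (LP (LK LD1_c11 LD2_c44 LD3_c45))))))))
theorem f502297 : Led Lsl_bf (LP (LK LD1_c14 LD2_c59 LD3_c36)) = (LP (LK LD1_c11 LD2_c44 LD3_c45)) :=
  Lgr Lrot24 (Lpr_bt (f502290 IH) (Lpn (LP (LK LD1_c11 LD2_c44 LD3_c45))))
theorem f35958 : Led Lsl_gt (LP (LK LD1_c14 LD2_c59 LD3_c36)) = (LP (LK LD1_c8 LD2_c46 LD3_c57)) :=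
  Lgr Lrot46 (Lpe (f35957 IH) (Lpr_ft (K4.f35950 IH) (Lpr_at (K6.f35953 IH) (Lpn (LP (LK LD1_c8 LD2_c46 LD3_c57))))))
theorem f81592 : Led Lsl_dt (LP (LK LD1_c8 LD2_c46 LD3_c57)) = (LP (LK LD1_c11 LD2_c41 LD3_c10)) :=
  Lgr Lrot44 (Lpe (K6.f35953 IH) (Lpr_df (K2.f81589 IH) (Lpe (K2.f81591 IH) (Lpn (LP (LK LD1_c11 LD2_c41 LD3_c10))))))
theorem f112654 : Led Lsl_cf (LP (LK LD1_c11 LD2_c37 LD3_c43)) = (LP (LK LD1_c11 LD2_c41 LD3_c10)) :=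
  Lgr Lrot11 (Lpr_ct (K5.f112648 IH) (Lpn (LP (LK LD1_c11 LD2_c41 LD3_c10))))
theorem f176681 : Led Lsl_et (LP (LK LD1_c4 LD2_c41 LD3_c39)) = (LP (LK LD1_c2 LD2_c17 LD3_c55)) :=
  Lre_e IH (LK LD1_c4 LD2_c41 LD3_c39) (LK LD1_c2 LD2_c17 LD3_c55) Lrfl Lrfl
theorem f210869 : Led Lsl_et (LP (LK LD1_c0 LD2_c40 LD3_c50)) = (LP (LK LD1_c1 LD2_c6 LD3_c28)) :=
  Lgr Lrot123 (Lpe (K13.f59058 IH) (Lpr_ef (K11.f80820 IH) (Lpr_af (K13.f205285 IH) (Lpn (LP (LK LD1_c1 LD2_c6 LD3_c28))))))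
theorem f59061 : Led Lsl_ct (LP (LK LD1_c1 LD2_c28 LD3_c15)) = (LP (LK LD1_c0 LD2_c40 LD3_c50)) :=
  Lre_c IH (LK LD1_c1 LD2_c28 LD3_c15) (LK LD1_c0 LD2_c40 LD3_c50) Lrfl Lrfl
theorem f210879 : Led Lsl_ef (LP (LK LD1_c1 LD2_c28 LD3_c15)) = (LP (LK LD1_c2 LD2_c18 LD3_c50)) :=
  Lgr Lrot28 (Lpr_ct (f59061 IH) (Lpr_et (f210869 IH) (Lpr_ct (K11.f59059 IH) (Lpn (LP (LK LD1_c2 LD2_c18 LD3_c50))))))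
theorem f59060 : Led Lsl_dt (LP (LK LD1_c2 LD2_c18 LD3_c50)) = (LP (LK LD1_c4 LD2_c42 LD3_c45)) :=
  Lre_d IH (LK LD1_c2 LD2_c18 LD3_c50) (LK LD1_c4 LD2_c42 LD3_c45) Lrfl Lrfl
theorem f241482 : Led Lsl_gt (LP (LK LD1_c5 LD2_c49 LD3_c41)) = (LP (LK LD1_c4 LD2_c42 LD3_c45)) :=
  Lgr Lrot139 (Lpe (K36.f210622 IH) (Lpr_gf (f241480 IH) (Lpe (K36.f198005 IH) (Lpr_dt (K12.f101314 IH) (Lpr_gf (K13.f241478 IH) (Lpr_df (K13.f198054 IH) (Lpr_et (f176681 IH) (Lpr_gf (K11.f205227 IH) (Lpr_ef (f210879 IH) (Lpr_dt (f59060 IH) (Lpn (LP (LK LD1_c4 LD2_c42 LD3_c45)))))))))))))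
theorem f59071 : Led Lsl_dt (LP (LK LD1_c4 LD2_c42 LD3_c45)) = (LP (LK LD1_c2 LD2_c18 LD3_c50)) :=
  Lre_d IH (LK LD1_c4 LD2_c42 LD3_c45) (LK LD1_c2 LD2_c18 LD3_c50) Lrfl Lrfl
theorem f61378 : Led Lsl_gt (LP (LK LD1_c2 LD2_c33 LD3_c56)) = (LP (LK LD1_c5 LD2_c14 LD3_c5)) :=
  Lre_g IH (LK LD1_c2 LD2_c33 LD3_c56) (LK LD1_c5 LD2_c14 LD3_c5) Lrfl Lrfl
theorem f546849 : Led Lsl_dt (LP (LK LD1_c5 LD2_c14 LD3_c5)) = (LP (LK LD1_c6 LD2_c17 LD3_c2)) :=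
  Lgr Lrot182 (Lpe (f61378 IH) (Lpe (K16.f61372 IH) (Lpr_cf (K16.f210592 IH) (Lpe (K11.f169786 IH) (Lpr_gf (K11.f204383 IH) (Lpe (K11.f59047 IH) (Lpe (K14.f59073 IH) (Lpe (f59071 IH) (Lpe (f241482 IH) (Lpr_bf (K36.f542086 IH) (Lpe (K8.f149608 IH) (Lpe (K8.f149660 IH) (Lpr_gf (K8.f161759 IH) (Lpe (K8.f112658 IH) (Lpr_cf (f112654 IH) (Lpe (f81592 IH) (Lpe (f35958 IH) (Lpr_bf (f502297 IH) (Lpr_cf (f546847 IH) (Lpn (LP (LK LD1_c6 LD2_c17 LD3_c2))))))))))))))))))))))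
theorem f110378 : Led Lsl_dt (LP (LK LD1_c11 LD2_c44 LD3_c45)) = (LP (LK LD1_c6 LD2_c0 LD3_c9)) :=
  Lre_d IH (LK LD1_c11 LD2_c44 LD3_c45) (LK LD1_c6 LD2_c0 LD3_c9) Lrfl Lrfl
theorem f162833 : Led Lsl_gt (LP (LK LD1_c3 LD2_c33 LD3_c26)) = (LP (LK LD1_c3 LD2_c36 LD3_c56)) :=
  Lgr Lrot5 (Lpr_ft (K33.f162535 IH) (Lpr_at (K33.f162202 IH) (Lpr_gf (K8.f162831 IH) (Lpn (LP (LK LD1_c3 LD2_c36 LD3_c56))))))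
theorem f501553 : Led Lsl_df (LP (LK LD1_c7 LD2_c35 LD3_c59)) = (LP (LK LD1_c11 LD2_c44 LD3_c36)) :=
  Lgr Lrot155 (Lpe (K36.f162490 IH) (Lpr_ct (K33.f96831 IH) (Lpr_gt (f162833 IH) (Lpe (K8.f162821 IH) (Lpe (K8.f120634 IH) (Lpe (K7.f120304 IH) (Lpe (K8.f158585 IH) (Lpr_cf (K8.f158507 IH) (Lpr_gf (K36.f501545 IH) (Lpn (LP (LK LD1_c11 LD2_c44 LD3_c36))))))))))))
theorem f120263 : Led Lsl_df (LP (LK LD1_c3 LD2_c46 LD3_c39)) = (LP (LK LD1_c1 LD2_c51 LD3_c42)) :=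
  Lgr Lrot38 (Lpr_dt (K4.f120257 IH) (Lpn (LP (LK LD1_c1 LD2_c51 LD3_c42))))
theorem f93628 : Led Lsl_dt (LP (LK LD1_c3 LD2_c46 LD3_c22)) = (LP (LK LD1_c1 LD2_c50 LD3_c15)) :=
  Lre_d IH (LK LD1_c3 LD2_c46 LD3_c22) (LK LD1_c1 LD2_c50 LD3_c15) Lrfl Lrfl
theorem f93629 : Led Lsl_gt (LP (LK LD1_c7 LD2_c33 LD3_c47)) = (LP (LK LD1_c3 LD2_c46 LD3_c22)) :=
  Lre_g IH (LK LD1_c7 LD2_c33 LD3_c47) (LK LD1_c3 LD2_c46 LD3_c22) Lrfl Lrfl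
theorem f120272 : Led Lsl_df (LP (LK LD1_c7 LD2_c33 LD3_c47)) = (LP (LK LD1_c3 LD2_c49 LD3_c5)) :=
  Lgr Lrot153 (Lpr_gt (f93629 IH) (Lpr_dt (f93628 IH) (Lpe (K7.f92364 IH) (Lpe (K34.f94483 IH) (Lpe (K4.f94484 IH) (Lpr_df (f120263 IH) (Lpe (K3.f88589 IH) (Lpr_cf (K3.f88565 IH) (Lpe (K3.f88608 IH) (Lpn (LP (LK LD1_c3 LD2_c49 LD3_c5))))))))))))
theorem f546854 : Led Lsl_cf (LP (LK LD1_c5 LD2_c14 LD3_c5)) = (LP (LK LD1_c7 LD2_c33 LD3_c47)) :=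
  Lgr Lrot118 (Lpr_dt (f546849 IH) (Lpe (f546847 IH) (Lpr_dt (f110378 IH) (Lpr_ct (K36.f110371 IH) (Lpe (f501553 IH) (Lpe (K36.f145182 IH) (Lpe (K36.f501675 IH) (Lpe (K36.f501681 IH) (Lpe (f120272 IH) (Lpn (LP (LK LD1_c7 LD2_c33 LD3_c47))))))))))))
theorem f24145 : Led Lsl_gt (LP (LK LD1_c6 LD2_c33 LD3_c23)) = (LP (LK LD1_c3 LD2_c14 LD3_c59)) :=
  Lre_g IH (LK LD1_c6 LD2_c33 LD3_c23) (LK LD1_c3 LD2_c14 LD3_c59) Lrfl Lrfl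
theorem f426879 : Led Lsl_af (LP (LK LD1_c6 LD2_c33 LD3_c22)) = (LP (LK LD1_c6 LD2_c55 LD3_c59)) :=
  Lgr Lrot0 (Lpr_at (f426872 IH) (Lpn (LP (LK LD1_c6 LD2_c55 LD3_c59))))
theorem f427057 : Led Lsl_ft (LP (LK LD1_c6 LD2_c33 LD3_c23)) = (LP (LK LD1_c6 LD2_c55 LD3_c59)) :=
  Lgr Lrot2 (Lpr_gt (f24145 IH) (Lpr_gt (f126570 IH) (Lpr_af (f426879 IH) (Lpn (LP (LK LD1_c6 LD2_c55 LD3_c59))))))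
theorem f150343 : Led Lsl_bt (LP (LK LD1_c2 LD2_c55 LD3_c17)) = (LP (LK LD1_c1 LD2_c23 LD3_c37)) :=
  Lre_b IH (LK LD1_c2 LD2_c55 LD3_c17) (LK LD1_c1 LD2_c23 LD3_c37) Lrfl Lrfl
theorem f209730 : Led Lsl_bt (LP (LK LD1_c6 LD2_c55 LD3_c59)) = (LP (LK LD1_c5 LD2_c51 LD3_c9)) :=
  Lgr Lrot128 (Lpr_cf (f209728 IH) (Lpe (K8.f72561 IH) (Lpe (K8.f72475 IH) (Lpe (f150343 IH) (Lpe (f206010 IH) (Lpn (LP (LK LD1_c5 LD2_c51 LD3_c9))))))))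
theorem f427061 : Led Lsl_bf (LP (LK LD1_c6 LD2_c33 LD3_c23)) = (LP (LK LD1_c3 LD2_c50 LD3_c33)) :=
  Lgr Lrot61 (Lpr_ft (f427057 IH) (Lpr_bt (f209730 IH) (Lpe (f426854 IH) (Lpn (LP (LK LD1_c3 LD2_c50 LD3_c33))))))
theorem f158668 : Led Lsl_bt (LP (LK LD1_c2 LD2_c51 LD3_c42)) = (LP (LK LD1_c1 LD2_c21 LD3_c54)) :=
  Lre_b IH (LK LD1_c2 LD2_c51 LD3_c42) (LK LD1_c1 LD2_c21 LD3_c54) Lrfl Lrfl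
theorem f185774 : Led Lsl_dt (LP (LK LD1_c3 LD2_c5 LD3_c29)) = (LP (LK LD1_c2 LD2_c33 LD3_c40)) :=
  Lgr Lrot79 (Lpe (K36.f185772 IH) (Lpr_df (K11.f185769 IH) (Lpe (K35.f185773 IH) (Lpn (LP (LK LD1_c2 LD2_c33 LD3_c40))))))
theorem f541810 : Led Lsl_cf (LP (LK LD1_c4 LD2_c0 LD3_c49)) = (LP (LK LD1_c4 LD2_c34 LD3_c10)) :=
  Lgr Lrot116 (Lpr_dt (K36.f425764 IH) (Lpr_ct (K36.f80626 IH) (Lpe (K36.f499051 IH) (Lpr_ct (K36.f541806 IH) (Lpe (K36.f428098 IH) (Lpe (K36.f302543 IH) (Lpr_dt (f185774 IH) (Lpe (K35.f242750 IH) (Lpe (K32.f68556 IH) (Lpn (LP (LK LD1_c4 LD2_c34 LD3_c10))))))))))))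
theorem f546858 : Led Lsl_bt (LP (LK LD1_c5 LD2_c14 LD3_c5)) = (LP (LK LD1_c4 LD2_c57 LD3_c21)) :=
  Lgr Lrot178 (Lpr_cf (f546854 IH) (Lpr_df (f120272 IH) (Lpr_gf (K3.f88608 IH) (Lpe (K3.f96557 IH) (Lpe (K3.f97876 IH) (Lpe (f127408 IH) (Lpe (f24145 IH) (Lpr_bf (f427061 IH) (Lpe (K24.f426099 IH) (Lpe (K24.f425948 IH) (Lpr_gf (K24.f426091 IH) (Lpe (f158668 IH) (Lpe (K8.f148989 IH) (Lpe (K8.f149637 IH) (Lpr_gf (K32.f208747 IH) (Lpe (K36.f425778 IH) (Lpr_cf (f541810 IH) (Lpr_df (K32.f68556 IH) (Lpr_gf (K35.f541669 IH) (Lpn (LP (LK LD1_c4 LD2_c57 LD3_c21))))))))))))))))))))))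
theorem f546856 : Led Lsl_ct (LP (LK LD1_c5 LD2_c14 LD3_c5)) = (LP (LK LD1_c7 LD2_c33 LD3_c47)) :=
  Lgr Lrot59 (Lpr_cf (f546854 IH) (Lpn (LP (LK LD1_c7 LD2_c33 LD3_c47))))
theorem f175541 : Led Lsl_gt (LP (LK LD1_c2 LD2_c13 LD3_c20)) = (LP (LK LD1_c4 LD2_c32 LD3_c39)) :=
  Lre_g IH (LK LD1_c2 LD2_c13 LD3_c20) (LK LD1_c4 LD2_c32 LD3_c39) Lrfl Lrfl
theorem f175542 : Led Lsl_ct (LP (LK LD1_c4 LD2_c32 LD3_c39)) = (LP (LK LD1_c9 LD2_c2 LD3_c50)) :=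
  Lre_c IH (LK LD1_c4 LD2_c32 LD3_c39) (LK LD1_c9 LD2_c2 LD3_c50) Lrfl Lrfl
theorem f546865 : Led Lsl_gf (LP (LK LD1_c7 LD2_c33 LD3_c47)) = (LP (LK LD1_c9 LD2_c2 LD3_c50)) :=
  Lgr Lrot129 (Lpe (f546856 IH) (Lpr_bt (f546858 IH) (Lpe (K35.f541669 IH) (Lpe (K32.f68555 IH) (Lpr_ct (K18.f242722 IH) (Lpr_gt (K13.f242634 IH) (Lpr_cf (K16.f175532 IH) (Lpr_bt (f175539 IH) (Lpr_gt (f175541 IH) (Lpr_ct (f175542 IH) (Lpn (LP (LK LD1_c9 LD2_c2 LD3_c50)))))))))))))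
theorem f120277 : Led Lsl_dt (LP (LK LD1_c7 LD2_c33 LD3_c47)) = (LP (LK LD1_c3 LD2_c49 LD3_c5)) :=
  Lgr Lrot42 (Lpr_df (f120272 IH) (Lpn (LP (LK LD1_c3 LD2_c49 LD3_c5))))
theorem f546867 : Led Lsl_dt (LP (LK LD1_c7 LD2_c0 LD3_c42)) = (LP (LK LD1_c9 LD2_c2 LD3_c50)) :=
  Lgr Lrot57 (Lpe (K3.f109025 IH) (Lpe (K7.f92366 IH) (Lpr_gt (K32.f147310 IH) (Lpr_dt (K28.f109550 IH) (Lpr_gt (K6.f130400 IH) (Lpr_dt (K3.f109399 IH) (Lpe (K3.f110230 IH) (Lpe (f120277 IH) (Lpr_gf (f546865 IH) (Lpn (LP (LK LD1_c9 LD2_c2 LD3_c50))))))))))))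
theorem f109047 : Led Lsl_ft (LP (LK LD1_c3 LD2_c46 LD3_c21)) = (LP (LK LD1_c7 LD2_c0 LD3_c42)) :=
  Lgr Lrot101 (Lpe (K28.f109045 IH) (Lpr_ff (K3.f109043 IH) (Lpe (K24.f109046 IH) (Lpn (LP (LK LD1_c7 LD2_c0 LD3_c42))))))
theorem f427144 : Led Lsl_ct (LP (LK LD1_c7 LD2_c0 LD3_c40)) = (LP (LK LD1_c13 LD2_c16 LD3_c27)) :=
  Lgr Lrot40 (Lpr_ff (K28.f426660 IH) (Lpe (K7.f92366 IH) (Lpr_ff (f427140 IH) (Lpn (LP (LK LD1_c13 LD2_c16 LD3_c27))))))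
theorem f546826 : Led Lsl_dt (LP (LK LD1_c6 LD2_c15 LD3_c20)) = (LP (LK LD1_c7 LD2_c0 LD3_c40)) :=
  Lgr Lrot105 (Lpr_gf (f546824 IH) (Lpe (f88516 IH) (Lpe (K3.f87934 IH) (Lpr_cf (K3.f110227 IH) (Lpr_gt (K28.f136916 IH) (Lpr_dt (K8.f96814 IH) (Lpe (f426891 IH) (Lpr_dt (f427146 IH) (Lpe (f427144 IH) (Lpn (LP (LK LD1_c7 LD2_c0 LD3_c40))))))))))))
theorem f36546 : Led Lsl_bt (LP (LK LD1_c4 LD2_c34 LD3_c20)) = (LP (LK LD1_c2 LD2_c14 LD3_c9)) :=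
  Lre_b IH (LK LD1_c4 LD2_c34 LD3_c20) (LK LD1_c2 LD2_c14 LD3_c9) Lrfl Lrfl
theorem f146872 : Led Lsl_et (LP (LK LD1_c4 LD2_c48 LD3_c16)) = (LP (LK LD1_c2 LD2_c22 LD3_c2)) :=
  Lre_e IH (LK LD1_c4 LD2_c48 LD3_c16) (LK LD1_c2 LD2_c22 LD3_c2) Lrfl Lrfl
theorem f543983 : Led Lsl_cf (LP (LK LD1_c12 LD2_c8 LD3_c50)) = (LP (LK LD1_c9 LD2_c49 LD3_c56)) :=
  Lgr Lrot11 (Lpr_ct (f543979 IH) (Lpn (LP (LK LD1_c9 LD2_c49 LD3_c56))))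
theorem f496109 : Led Lsl_bt (LP (LK LD1_c9 LD2_c17 LD3_c56)) = (LP (LK LD1_c17 LD2_c13 LD3_c0)) :=
  Lre_b IH (LK LD1_c9 LD2_c17 LD3_c56) (LK LD1_c17 LD2_c13 LD3_c0) Lrfl Lrfl
theorem f74510 : Led Lsl_bt (LP (LK LD1_c4 LD2_c59 LD3_c1)) = (LP (LK LD1_c9 LD2_c48 LD3_c28)) :=
  Lre_b IH (LK LD1_c4 LD2_c59 LD3_c1) (LK LD1_c9 LD2_c48 LD3_c28) Lrfl Lrfl
theorem f543989 : Led Lsl_gf (LP (LK LD1_c17 LD2_c13 LD3_c0)) = (LP (LK LD1_c9 LD2_c48 LD3_c28)) :=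
  Lgr Lrot124 (Lpe (f496109 IH) (Lpe (f496110 IH) (Lpe (f387122 IH) (Lpr_cf (f543983 IH) (Lpr_bt (f40687 IH) (Lpr_gt (K2.f40686 IH) (Lpr_ct (K8.f14035 IH) (Lpr_gt (K6.f13749 IH) (Lpe (K8.f74511 IH) (Lpr_bt (f74510 IH) (Lpn (LP (LK LD1_c9 LD2_c48 LD3_c28)))))))))))))
theorem f543993 : Led Lsl_ct (LP (LK LD1_c17 LD2_c13 LD3_c0)) = (LP (LK LD1_c13 LD2_c6 LD3_c17)) :=
  Lgr Lrot110 (Lpr_gf (f543989 IH) (Lpe (K32.f209693 IH) (Lpr_gf (K32.f123943 IH) (Lpe (K32.f123672 IH) (Lpr_gt (K7.f144698 IH) (Lpr_ct (K4.f116520 IH) (Lpr_gt (K24.f116526 IH) (Lpr_ct (K4.f103624 IH) (Lpe (K5.f102874 IH) (Lpn (LP (LK LD1_c13 LD2_c6 LD3_c17))))))))))))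
theorem f496129 : Led Lsl_bt (LP (LK LD1_c17 LD2_c13 LD3_c0)) = (LP (LK LD1_c9 LD2_c17 LD3_c56)) :=
  Lre_b IH (LK LD1_c17 LD2_c13 LD3_c0) (LK LD1_c9 LD2_c17 LD3_c56) Lrfl Lrfl
theorem f26904 : Led Lsl_bt (LP (LK LD1_c9 LD2_c17 LD3_c57)) = (LP (LK LD1_c4 LD2_c41 LD3_c30)) :=
  Lre_b IH (LK LD1_c9 LD2_c17 LD3_c57) (LK LD1_c4 LD2_c41 LD3_c30) Lrfl Lrfl
theorem f205164 : Led Lsl_ct (LP (LK LD1_c9 LD2_c17 LD3_c57)) = (LP (LK LD1_c4 LD2_c41 LD3_c35)) :=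
  Lre_c IH (LK LD1_c9 LD2_c17 LD3_c57) (LK LD1_c4 LD2_c41 LD3_c35) Lrfl Lrfl
theorem f203558 : Led Lsl_dt (LP (LK LD1_c12 LD2_c38 LD3_c38)) = (LP (LK LD1_c14 LD2_c4 LD3_c48)) :=
  Lgr Lrot42 (Lpr_df (K32.f203551 IH) (Lpn (LP (LK LD1_c14 LD2_c4 LD3_c48))))
theorem f203560 : Led Lsl_bf (LP (LK LD1_c7 LD2_c28 LD3_c37)) = (LP (LK LD1_c14 LD2_c4 LD3_c48)) :=
  Lgr Lrot93 (Lpr_dt (K28.f123692 IH) (Lpe (K32.f203549 IH) (Lpr_dt (f203558 IH) (Lpn (LP (LK LD1_c14 LD2_c4 LD3_c48))))))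
theorem f544005 : Led Lsl_gt (LP (LK LD1_c4 LD2_c41 LD3_c35)) = (LP (LK LD1_c7 LD2_c27 LD3_c11)) :=
  Lgr Lrot65 (Lpe (f205164 IH) (Lpr_bt (f26904 IH) (Lpe (K31.f26916 IH) (Lpe (f496129 IH) (Lpr_ct (f543993 IH) (Lpe (K5.f129476 IH) (Lpe (K5.f122683 IH) (Lpr_gf (K5.f123924 IH) (Lpr_bf (f203560 IH) (Lpr_ct (K8.f148121 IH) (Lpn (LP (LK LD1_c7 LD2_c27 LD3_c11)))))))))))))
theorem f225446 : Led Lsl_gt (LP (LK LD1_c9 LD2_c18 LD3_c0)) = (LP (LK LD1_c4 LD2_c41 LD3_c35)) :=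
  Lre_g IH (LK LD1_c9 LD2_c18 LD3_c0) (LK LD1_c4 LD2_c41 LD3_c35) Lrfl Lrfl
theorem f209323 : Led Lsl_at (LP (LK LD1_c8 LD2_c49 LD3_c60)) = (LP (LK LD1_c7 LD2_c27 LD3_c11)) :=
  Lgr Lrot100 (Lpr_af (K11.f209314 IH) (Lpn (LP (LK LD1_c7 LD2_c27 LD3_c11))))
theorem f544007 : Led Lsl_ft (LP (LK LD1_c9 LD2_c18 LD3_c0)) = (LP (LK LD1_c8 LD2_c49 LD3_c60)) :=
  Lgr Lrot2 (Lpr_gt (f225446 IH) (Lpr_gt (f544005 IH) (Lpe (f209323 IH) (Lpn (LP (LK LD1_c8 LD2_c49 LD3_c60))))))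
theorem f544047 : Led Lsl_ff (LP (LK LD1_c9 LD2_c18 LD3_c0)) = (LP (LK LD1_c8 LD2_c49 LD3_c60)) :=
  Lgr Lrot3 (Lpr_ft (f544007 IH) (Lpn (LP (LK LD1_c8 LD2_c49 LD3_c60))))
theorem f544049 : Led Lsl_bt (LP (LK LD1_c9 LD2_c18 LD3_c0)) = (LP (LK LD1_c8 LD2_c49 LD3_c38)) :=
  Lgr Lrot35 (Lpr_ff (f544047 IH) (Lpe (K36.f80120 IH) (Lpr_ff (K11.f206856 IH) (Lpn (LP (LK LD1_c8 LD2_c49 LD3_c38))))))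
theorem f544044 : Led Lsl_ct (LP (LK LD1_c17 LD2_c13 LD3_c8)) = (LP (LK LD1_c9 LD2_c18 LD3_c0)) :=
  Lre_c IH (LK LD1_c17 LD2_c13 LD3_c8) (LK LD1_c9 LD2_c18 LD3_c0) Lrfl Lrfl
theorem f78774 : Led Lsl_gt (LP (LK LD1_c6 LD2_c36 LD3_c16)) = (LP (LK LD1_c12 LD2_c38 LD3_c37)) :=
  Lre_g IH (LK LD1_c6 LD2_c36 LD3_c16) (LK LD1_c12 LD2_c38 LD3_c37) Lrfl Lrfl
theorem f544056 : Led Lsl_df (LP (LK LD1_c17 LD2_c13 LD3_c8)) = (LP (LK LD1_c12 LD2_c38 LD3_c37)) :=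
  Lgr Lrot183 (Lpr_ct (f544044 IH) (Lpr_bt (f544049 IH) (Lpr_gt (K8.f14762 IH) (Lpr_dt (K8.f114923 IH) (Lpr_ct (K6.f114922 IH) (Lpr_bt (K6.f65241 IH) (Lpr_gt (K1.f62195 IH) (Lpr_dt (K3.f65245 IH) (Lpr_ct (K1.f62854 IH) (Lpr_bt (K4.f62864 IH) (Lpr_gt (K4.f62869 IH) (Lpr_dt (K5.f113062 IH) (Lpe (K4.f77836 IH) (Lpr_bt (K4.f77835 IH) (Lpe (K4.f114916 IH) (Lpe (K4.f78765 IH) (Lpr_ct (K4.f78760 IH) (Lpr_bt (K6.f78773 IH) (Lpr_gt (f78774 IH) (Lpn (LP (LK LD1_c12 LD2_c38 LD3_c37))))))))))))))))))))))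
theorem f544060 : Led Lsl_dt (LP (LK LD1_c17 LD2_c13 LD3_c8)) = (LP (LK LD1_c12 LD2_c38 LD3_c37)) :=
  Lgr Lrot42 (Lpr_df (f544056 IH) (Lpn (LP (LK LD1_c12 LD2_c38 LD3_c37))))
theorem f540675 : Led Lsl_ct (LP (LK LD1_c8 LD2_c46 LD3_c13)) = (LP (LK LD1_c16 LD2_c24 LD3_c33)) :=
  Lre_c IH (LK LD1_c8 LD2_c46 LD3_c13) (LK LD1_c16 LD2_c24 LD3_c33) Lrfl Lrfl
theorem f544054 : Led Lsl_bf (LP (LK LD1_c17 LD2_c13 LD3_c8)) = (LP (LK LD1_c16 LD2_c24 LD3_c33)) :=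
  Lgr Lrot90 (Lpr_ct (f544044 IH) (Lpr_bt (f544049 IH) (Lpe (K8.f161535 IH) (Lpr_bt (K36.f540767 IH) (Lpr_ct (f540675 IH) (Lpn (LP (LK LD1_c16 LD2_c24 LD3_c33))))))))
theorem f424717 : Led Lsl_ft (LP (LK LD1_c9 LD2_c25 LD3_c26)) = (LP (LK LD1_c9 LD2_c49 LD3_c49)) :=
  Lgr Lrot48 (Lpr_ff (K36.f424712 IH) (Lpn (LP (LK LD1_c9 LD2_c49 LD3_c49))))
theorem f424708 : Led Lsl_af (LP (LK LD1_c9 LD2_c25 LD3_c29)) = (LP (LK LD1_c9 LD2_c49 LD3_c49)) :=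
  Lgr Lrot68 (Lpr_ct (K36.f78396 IH) (Lpr_at (K36.f424677 IH) (Lpr_ct (K36.f424706 IH) (Lpn (LP (LK LD1_c9 LD2_c49 LD3_c49))))))
theorem f424675 : Led Lsl_ft (LP (LK LD1_c9 LD2_c25 LD3_c29)) = (LP (LK LD1_c9 LD2_c49 LD3_c50)) :=
  Lgr Lrot4 (Lpe (K36.f118979 IH) (Lpr_ff (K36.f424673 IH) (Lpe (K36.f203025 IH) (Lpn (LP (LK LD1_c9 LD2_c49 LD3_c50))))))
theorem f424719 : Led Lsl_af (LP (LK LD1_c9 LD2_c25 LD3_c26)) = (LP (LK LD1_c9 LD2_c49 LD3_c50)) :=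
  Lgr Lrot45 (Lpr_ft (f424717 IH) (Lpe (f424708 IH) (Lpr_ft (f424675 IH) (Lpn (LP (LK LD1_c9 LD2_c49 LD3_c50))))))
theorem f78395 : Led Lsl_bt (LP (LK LD1_c9 LD2_c25 LD3_c26)) = (LP (LK LD1_c17 LD2_c22 LD3_c54)) :=
  Lre_b IH (LK LD1_c9 LD2_c25 LD3_c26) (LK LD1_c17 LD2_c22 LD3_c54) Lrfl Lrfl
theorem f203535 : Led Lsl_at (LP (LK LD1_c14 LD2_c33 LD3_c5)) = (LP (LK LD1_c14 LD2_c23 LD3_c43)) :=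
  Lgr Lrot51 (Lpr_df (K28.f203533 IH) (Lpe (K8.f111450 IH) (Lpe (K36.f64821 IH) (Lpn (LP (LK LD1_c14 LD2_c23 LD3_c43))))))
theorem f152481 : Led Lsl_bt (LP (LK LD1_c6 LD2_c56 LD3_c37)) = (LP (LK LD1_c13 LD2_c10 LD3_c59)) :=
  Lre_b IH (LK LD1_c6 LD2_c56 LD3_c37) (LK LD1_c13 LD2_c10 LD3_c59) Lrfl Lrfl
theorem f419294 : Led Lsl_ft (LP (LK LD1_c13 LD2_c10 LD3_c59)) = (LP (LK LD1_c14 LD2_c33 LD3_c5)) :=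
  Lgr Lrot75 (Lpe (f152481 IH) (Lpr_ff (K32.f419292 IH) (Lpe (K28.f15580 IH) (Lpn (LP (LK LD1_c14 LD2_c33 LD3_c5))))))
theorem f15562 : Led Lsl_bt (LP (LK LD1_c13 LD2_c10 LD3_c59)) = (LP (LK LD1_c6 LD2_c56 LD3_c37)) :=
  Lre_b IH (LK LD1_c13 LD2_c10 LD3_c59) (LK LD1_c6 LD2_c56 LD3_c37) Lrfl Lrfl
theorem f419300 : Led Lsl_ff (LP (LK LD1_c13 LD2_c10 LD3_c59)) = (LP (LK LD1_c14 LD2_c33 LD3_c5)) :=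
  Lgr Lrot25 (Lpr_bt (f15562 IH) (Lpr_ft (K32.f419296 IH) (Lpr_bt (K32.f203522 IH) (Lpn (LP (LK LD1_c14 LD2_c33 LD3_c5))))))
theorem f419317 : Led Lsl_dt (LP (LK LD1_c13 LD2_c10 LD3_c59)) = (LP (LK LD1_c13 LD2_c9 LD3_c1)) :=
  Lgr Lrot60 (Lpr_ff (f419300 IH) (Lpr_df (K28.f203533 IH) (Lpr_ff (K32.f111388 IH) (Lpn (LP (LK LD1_c13 LD2_c9 LD3_c1))))))
theorem f424645 : Led Lsl_df (LP (LK LD1_c17 LD2_c22 LD3_c54)) = (LP (LK LD1_c14 LD2_c6 LD3_c41)) :=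
  Lgr Lrot177 (Lpr_ct (K36.f424637 IH) (Lpe (f203535 IH) (Lpe (f419294 IH) (Lpr_dt (f419317 IH) (Lpr_ct (K4.f111359 IH) (Lpe (K5.f111372 IH) (Lpr_ct (K5.f123647 IH) (Lpr_dt (K32.f123672 IH) (Lpr_ct (K5.f123675 IH) (Lpn (LP (LK LD1_c14 LD2_c6 LD3_c41))))))))))))
theorem f123901 : Led Lsl_at (LP (LK LD1_c7 LD2_c28 LD3_c37)) = (LP (LK LD1_c14 LD2_c6 LD3_c41)) :=
  Lre_a IH (LK LD1_c7 LD2_c28 LD3_c37) (LK LD1_c14 LD2_c6 LD3_c41) Lrfl Lrfl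
theorem f424647 : Led Lsl_at (LP (LK LD1_c17 LD2_c22 LD3_c54)) = (LP (LK LD1_c14 LD2_c6 LD3_c49)) :=
  Lgr Lrot51 (Lpr_df (f424645 IH) (Lpe (f123901 IH) (Lpe (K28.f123650 IH) (Lpn (LP (LK LD1_c14 LD2_c6 LD3_c49))))))
theorem f99245 : Led Lsl_bt (LP (LK LD1_c8 LD2_c45 LD3_c48)) = (LP (LK LD1_c8 LD2_c50 LD3_c29)) :=
  Lgr Lrot127 (Lpr_bf (K4.f99243 IH) (Lpn (LP (LK LD1_c8 LD2_c50 LD3_c29))))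
theorem f78151 : Led Lsl_gt (LP (LK LD1_c6 LD2_c21 LD3_c7)) = (LP (LK LD1_c12 LD2_c16 LD3_c14)) :=
  Lre_g IH (LK LD1_c6 LD2_c21 LD3_c7) (LK LD1_c12 LD2_c16 LD3_c14) Lrfl Lrfl
theorem f79426 : Led Lsl_gf (LP (LK LD1_c12 LD2_c38 LD3_c39)) = (LP (LK LD1_c12 LD2_c16 LD3_c14)) :=
  Lgr Lrot76 (Lpe (K4.f79422 IH) (Lpr_ff (K4.f79419 IH) (Lpr_gt (f78151 IH) (Lpn (LP (LK LD1_c12 LD2_c16 LD3_c14))))))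
theorem f203259 : Led Lsl_bt (LP (LK LD1_c9 LD2_c49 LD3_c50)) = (LP (LK LD1_c12 LD2_c16 LD3_c14)) :=
  Lgr Lrot22 (Lpr_ct (K36.f203025 IH) (Lpr_gf (K36.f118980 IH) (Lpe (K36.f118939 IH) (Lpe (K7.f118962 IH) (Lpe (f99245 IH) (Lpr_ct (K8.f160826 IH) (Lpe (K32.f160824 IH) (Lpe (K4.f79429 IH) (Lpr_bt (K4.f79428 IH) (Lpr_gf (f79426 IH) (Lpn (LP (LK LD1_c12 LD2_c16 LD3_c14)))))))))))))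
theorem f203261 : Led Lsl_bf (LP (LK LD1_c9 LD2_c49 LD3_c50)) = (LP (LK LD1_c12 LD2_c16 LD3_c14)) :=
  Lgr Lrot24 (Lpr_bt (f203259 IH) (Lpn (LP (LK LD1_c12 LD2_c16 LD3_c14))))
theorem f424721 : Led Lsl_at (LP (LK LD1_c12 LD2_c38 LD3_c38)) = (LP (LK LD1_c12 LD2_c16 LD3_c14)) :=
  Lgr Lrot67 (Lpr_bf (K32.f203549 IH) (Lpe (f424647 IH) (Lpe (f78395 IH) (Lpr_af (f424719 IH) (Lpr_bf (f203261 IH) (Lpn (LP (LK LD1_c12 LD2_c16 LD3_c14))))))))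
theorem f78150 : Led Lsl_gt (LP (LK LD1_c12 LD2_c16 LD3_c15)) = (LP (LK LD1_c6 LD2_c21 LD3_c7)) :=
  Lre_g IH (LK LD1_c12 LD2_c16 LD3_c15) (LK LD1_c6 LD2_c21 LD3_c7) Lrfl Lrfl
theorem f424740 : Led Lsl_ff (LP (LK LD1_c12 LD2_c38 LD3_c38)) = (LP (LK LD1_c12 LD2_c16 LD3_c15)) :=
  Lgr Lrot52 (Lpr_at (f424721 IH) (Lpe (f78151 IH) (Lpe (f78150 IH) (Lpn (LP (LK LD1_c12 LD2_c16 LD3_c15))))))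
theorem f424742 : Led Lsl_ft (LP (LK LD1_c12 LD2_c38 LD3_c38)) = (LP (LK LD1_c12 LD2_c16 LD3_c15)) :=
  Lgr Lrot48 (Lpr_ff (f424740 IH) (Lpn (LP (LK LD1_c12 LD2_c16 LD3_c15))))
theorem f424744 : Led Lsl_af (LP (LK LD1_c12 LD2_c38 LD3_c37)) = (LP (LK LD1_c12 LD2_c16 LD3_c15)) :=
  Lgr Lrot31 (Lpe (f78774 IH) (Lpe (K6.f79437 IH) (Lpr_ft (f424742 IH) (Lpn (LP (LK LD1_c12 LD2_c16 LD3_c15))))))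
theorem f424738 : Led Lsl_af (LP (LK LD1_c12 LD2_c38 LD3_c38)) = (LP (LK LD1_c12 LD2_c16 LD3_c14)) :=
  Lgr Lrot0 (Lpr_at (f424721 IH) (Lpn (LP (LK LD1_c12 LD2_c16 LD3_c14))))
theorem f424748 : Led Lsl_ft (LP (LK LD1_c12 LD2_c38 LD3_c37)) = (LP (LK LD1_c12 LD2_c16 LD3_c14)) :=
  Lgr Lrot101 (Lpr_af (f424744 IH) (Lpe (f424742 IH) (Lpr_af (f424738 IH) (Lpn (LP (LK LD1_c12 LD2_c16 LD3_c14))))))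
theorem f424752 : Led Lsl_ff (LP (LK LD1_c12 LD2_c38 LD3_c37)) = (LP (LK LD1_c12 LD2_c16 LD3_c14)) :=
  Lgr Lrot3 (Lpr_ft (f424748 IH) (Lpn (LP (LK LD1_c12 LD2_c16 LD3_c14))))
theorem f424754 : Led Lsl_bt (LP (LK LD1_c12 LD2_c38 LD3_c37)) = (LP (LK LD1_c9 LD2_c25 LD3_c29)) :=
  Lgr Lrot35 (Lpr_ff (f424752 IH) (Lpe (f203259 IH) (Lpe (f424675 IH) (Lpn (LP (LK LD1_c9 LD2_c25 LD3_c29))))))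
theorem f544062 : Led Lsl_df (LP (LK LD1_c16 LD2_c24 LD3_c33)) = (LP (LK LD1_c9 LD2_c25 LD3_c29)) :=
  Lgr Lrot12 (Lpe (f544054 IH) (Lpr_dt (f544060 IH) (Lpr_bt (f424754 IH) (Lpn (LP (LK LD1_c9 LD2_c25 LD3_c29))))))
theorem f540674 : Led Lsl_ct (LP (LK LD1_c16 LD2_c24 LD3_c33)) = (LP (LK LD1_c8 LD2_c46 LD3_c13)) :=
  Lre_c IH (LK LD1_c16 LD2_c24 LD3_c33) (LK LD1_c8 LD2_c46 LD3_c13) Lrfl Lrfl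
theorem f201432 : Led Lsl_bt (LP (LK LD1_c2 LD2_c33 LD3_c43)) = (LP (LK LD1_c1 LD2_c13 LD3_c50)) :=
  Lre_b IH (LK LD1_c2 LD2_c33 LD3_c43) (LK LD1_c1 LD2_c13 LD3_c50) Lrfl Lrfl
def v1414 : LQ := Led Lsl_gt (LP (LK LD1_c1 LD2_c13 LD3_c52))
theorem f495440 : Led Lsl_gt (LP (LK LD1_c1 LD2_c13 LD3_c52)) = v1414 :=
  Lrfl
theorem f495441 : Led Lsl_gf K36.v1398 = v1414 :=
  Lgr Lrot76 (Lpe (K36.f495330 IH) (Lpe (K19.f308131 IH) (Lpr_gt (f495440 IH) (Lpn v1414))))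
theorem f100260 : Led Lsl_gt (LP (LK LD1_c1 LD2_c4 LD3_c54)) = (LP (LK LD1_c2 LD2_c15 LD3_c49)) :=
  Lre_g IH (LK LD1_c1 LD2_c4 LD3_c54) (LK LD1_c2 LD2_c15 LD3_c49) Lrfl Lrfl
theorem f494443 : Led Lsl_ft (LP (LK LD1_c1 LD2_c4 LD3_c54)) = (LP (LK LD1_c2 LD2_c15 LD3_c51)) :=
  Lre_f IH (LK LD1_c1 LD2_c4 LD3_c54) (LK LD1_c2 LD2_c15 LD3_c51) Lrfl Lrfl
theorem f192715 : Led Lsl_at (LP (LK LD1_c2 LD2_c0 LD3_c6)) = (LP (LK LD1_c4 LD2_c5 LD3_c40)) :=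
  Lre_a IH (LK LD1_c2 LD2_c0 LD3_c6) (LK LD1_c4 LD2_c5 LD3_c40) Lrfl Lrfl
theorem f538300 : Led Lsl_at (LP (LK LD1_c2 LD2_c15 LD3_c51)) = (LP (LK LD1_c2 LD2_c0 LD3_c57)) :=
  Lgr Lrot67 (Lpr_bf (K35.f538296 IH) (Lpe (f192715 IH) (Lpe (K35.f55909 IH) (Lpr_af (K16.f268225 IH) (Lpe (K16.f175915 IH) (Lpn (LP (LK LD1_c2 LD2_c0 LD3_c57))))))))
theorem f542390 : Led Lsl_gt (LP (LK LD1_c2 LD2_c15 LD3_c49)) = (LP (LK LD1_c2 LD2_c0 LD3_c57)) :=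
  Lgr Lrot46 (Lpe (f100260 IH) (Lpr_ft (f494443 IH) (Lpr_at (f538300 IH) (Lpn (LP (LK LD1_c2 LD2_c0 LD3_c57))))))
theorem f193919 : Led Lsl_cf (LP (LK LD1_c0 LD2_c57 LD3_c27)) = (LP (LK LD1_c1 LD2_c13 LD3_c60)) :=
  Lgr Lrot39 (Lpr_et (K10.f193793 IH) (Lpr_ct (K10.f186688 IH) (Lpr_et (K18.f186672 IH) (Lpn (LP (LK LD1_c1 LD2_c13 LD3_c60))))))
def v368 : LQ := Led Lsl_gf (LP (LK LD1_c0 LD2_c34 LD3_c18))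
def v2859 : LQ := Led Lsl_bt v368
theorem f535991 : Led Lsl_bt v368 = v2859 :=
  Lrfl
theorem f20573 : Led Lsl_bt (LP (LK LD1_c0 LD2_c39 LD3_c28)) = (LP (LK LD1_c0 LD2_c17 LD3_c43)) :=
  Lre_b IH (LK LD1_c0 LD2_c39 LD3_c28) (LK LD1_c0 LD2_c17 LD3_c43) Lrfl Lrfl
theorem f452266 : Led Lsl_bt (LP (LK LD1_c0 LD2_c29 LD3_c52)) = K35.v340 :=
  Lgr Lrot35 (Lpe (K19.f313801 IH) (Lpe (f20573 IH) (Lpr_ff (K35.f452264 IH) (Lpn K35.v340))))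
theorem f452274 : Led Lsl_gt (LP (LK LD1_c1 LD2_c13 LD3_c60)) = K36.v341 :=
  Lgr Lrot149 (Lpe (K18.f193789 IH) (Lpr_gf (K10.f193795 IH) (Lpe (K10.f176793 IH) (Lpr_ct (K10.f80935 IH) (Lpe (K10.f194127 IH) (Lpe (K10.f194126 IH) (Lpe (K35.f315134 IH) (Lpr_gf (K35.f452265 IH) (Lpe (f452266 IH) (Lpr_ct (K36.f452269 IH) (Lpn K36.v341)))))))))))
theorem f452458 : Led Lsl_gf (LP (LK LD1_c0 LD2_c34 LD3_c18)) = v368 :=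
  Lrfl
def v365 : LQ := Led Lsl_bt (LP (LK LD1_c0 LD2_c33 LD3_c45))
theorem f452442 : Led Lsl_bt (LP (LK LD1_c0 LD2_c33 LD3_c45)) = v365 :=
  Lrfl
theorem f163630 : Led Lsl_bt (LP (LK LD1_c0 LD2_c34 LD3_c18)) = (LP (LK LD1_c0 LD2_c15 LD3_c23)) :=
  Lre_b IH (LK LD1_c0 LD2_c34 LD3_c18) (LK LD1_c0 LD2_c15 LD3_c23) Lrfl Lrfl
theorem f452444 : Led Lsl_cf (LP (LK LD1_c0 LD2_c34 LD3_c18)) = v365 :=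
  Lgr Lrot97 (Lpr_bt (f163630 IH) (Lpr_ct (K8.f20462 IH) (Lpr_bt (K10.f20523 IH) (Lpr_ct (K10.f69798 IH) (Lpr_bt (f452442 IH) (Lpn v365))))))
theorem f452262 : Led Lsl_bf (LP (LK LD1_c0 LD2_c29 LD3_c52)) = K35.v340 :=
  Lgr Lrot93 (Lpr_dt (K9.f8413 IH) (Lpr_bt (K10.f9492 IH) (Lpr_dt (K35.f452261 IH) (Lpn K35.v340))))
theorem f452428 : Led Lsl_gt (LP (LK LD1_c0 LD2_c33 LD3_c45)) = K36.v363 :=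
  Lgr Lrot65 (Lpe (K10.f69798 IH) (Lpr_bt (K10.f20458 IH) (Lpe (K9.f20536 IH) (Lpe (K18.f171692 IH) (Lpr_ct (K11.f171693 IH) (Lpe (K11.f171694 IH) (Lpe (K11.f201548 IH) (Lpe (K19.f31589 IH) (Lpe (K20.f240627 IH) (Lpr_ct (K36.f452425 IH) (Lpn K36.v363)))))))))))
theorem f536630 : K36.v1406 = K35.v397 :=
  Lefun (Lecon (Lfl_ff (K36.f495754 IH)) (K35.f536620 IH)) (Lfl_ff (K35.f452638 IH))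
theorem f536673 : K36.v363 = (LP (LK LD1_c1 LD2_c12 LD3_c45)) :=
  Lefun (Lecon (Lfl_ef (K36.f495397 IH)) ((f536630 IH).trans (K35.f536628 IH).symm)) (K35.f396359 IH)
theorem f536744 : (LP (LK LD1_c0 LD2_c33 LD3_c45)) = K35.v340 :=
  Lefun (Lecon (Lfl_gt (f452428 IH)) (f536673 IH)) (K35.f452265 IH)
theorem f536866 : (LP (LK LD1_c0 LD2_c29 LD3_c52)) = v365 :=
  Lefun (Lecon (Lfl_bf (f452262 IH)) (f536744 IH).symm) (f452442 IH)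
theorem f537077 : (LP (LK LD1_c0 LD2_c34 LD3_c18)) = K36.v341 :=
  Lefun (Lecon (Lfl_cf (f452444 IH)) (f536866 IH).symm) (K36.f452269 IH)
theorem f537218 : (LP (LK LD1_c1 LD2_c13 LD3_c60)) = v368 :=
  Lefun (Lecon (Lfl_gt (f452274 IH)) (f537077 IH).symm) (f452458 IH)
theorem f537524 : v2859 = (LP (LK LD1_c2 LD2_c33 LD3_c61)) :=
  Lefun (Lecon (f535991 IH) (f537218 IH).symm) (K27.f193925 IH)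
theorem f535992 : Led Lsl_bf v368 = v2859 :=
  Lgr Lrot24 (Lpr_bt (f535991 IH) (Lpn v2859))
def v1663 : LQ := Led Lsl_gf (LP (LK LD1_c1 LD2_c23 LD3_c33))
theorem f500624 : Led Lsl_gf (LP (LK LD1_c1 LD2_c23 LD3_c33)) = v1663 :=
  Lrfl
theorem f500625 : Led Lsl_gt (LP (LK LD1_c2 LD2_c55 LD3_c25)) = v1663 :=
  Lgr Lrot5 (Lpr_ft (K24.f426205 IH) (Lpr_at (K24.f426192 IH) (Lpr_gf (f500624 IH) (Lpn v1663))))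
theorem f535993 : Led Lsl_cf v1663 = v2859 :=
  Lgr Lrot163 (Lpe (f500625 IH) (Lpe (K36.f386734 IH) (Lpe (K36.f427778 IH) (Lpe (K27.f165468 IH) (Lpr_ct (K10.f163742 IH) (Lpe (K10.f20534 IH) (Lpe (K8.f20462 IH) (Lpr_bt (K36.f164412 IH) (Lpr_gf (f452458 IH) (Lpr_bf (f535992 IH) (Lpn v2859)))))))))))
theorem f535994 : Led Lsl_ct v1663 = v2859 :=
  Lgr Lrot59 (Lpr_cf (f535993 IH) (Lpn v2859))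
def v1401 : LQ := Led Lsl_gt (LP (LK LD1_c1 LD2_c12 LD3_c35))
theorem f495362 : Led Lsl_gt (LP (LK LD1_c1 LD2_c12 LD3_c35)) = v1401 :=
  Lrfl
def v1399 : LQ := Led Lsl_gt (LP (LK LD1_c1 LD2_c12 LD3_c33))
theorem f495341 : Led Lsl_gt (LP (LK LD1_c1 LD2_c12 LD3_c33)) = v1399 :=
  Lrfl
theorem f387130 : Led Lsl_bt (LP (LK LD1_c2 LD2_c31 LD3_c3)) = (LP (LK LD1_c1 LD2_c12 LD3_c33)) :=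
  Lre_b IH (LK LD1_c2 LD2_c31 LD3_c3) (LK LD1_c1 LD2_c12 LD3_c33) Lrfl Lrfl
theorem f387109 : Led Lsl_ct (LP (LK LD1_c2 LD2_c31 LD3_c3)) = (LP (LK LD1_c5 LD2_c7 LD3_c32)) :=
  Lre_c IH (LK LD1_c2 LD2_c31 LD3_c3) (LK LD1_c5 LD2_c7 LD3_c32) Lrfl Lrfl
theorem f387114 : Led Lsl_gf (LP (LK LD1_c4 LD2_c20 LD3_c14)) = (LP (LK LD1_c5 LD2_c7 LD3_c32)) :=
  Lgr Lrot129 (Lpe (K20.f34922 IH) (Lpr_bt (K2.f34918 IH) (Lpr_gt (K10.f166160 IH) (Lpe (K32.f166164 IH) (Lpr_ct (K32.f194110 IH) (Lpe (K28.f387085 IH) (Lpe (K32.f161222 IH) (Lpr_bt (f161221 IH) (Lpr_gt (f387098 IH) (Lpr_ct (f387109 IH) (Lpn (LP (LK LD1_c5 LD2_c7 LD3_c32)))))))))))))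
theorem f31764 : Led Lsl_at (LP (LK LD1_c8 LD2_c38 LD3_c13)) = (LP (LK LD1_c4 LD2_c20 LD3_c14)) :=
  Lre_a IH (LK LD1_c8 LD2_c38 LD3_c13) (LK LD1_c4 LD2_c20 LD3_c14) Lrfl Lrfl
theorem f387128 : Led Lsl_gt (LP (LK LD1_c4 LD2_c20 LD3_c12)) = (LP (LK LD1_c5 LD2_c7 LD3_c32)) :=
  Lgr Lrot5 (Lpr_ft (f34948 IH) (Lpr_at (f31764 IH) (Lpr_gf (f387114 IH) (Lpn (LP (LK LD1_c5 LD2_c7 LD3_c32))))))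
theorem f71501 : Led Lsl_bt (LP (LK LD1_c0 LD2_c38 LD3_c23)) = (LP (LK LD1_c0 LD2_c17 LD3_c7)) :=
  Lre_b IH (LK LD1_c0 LD2_c38 LD3_c23) (LK LD1_c0 LD2_c17 LD3_c7) Lrfl Lrfl
theorem f71502 : Led Lsl_at (LP (LK LD1_c1 LD2_c22 LD3_c46)) = (LP (LK LD1_c0 LD2_c38 LD3_c23)) :=
  Lre_a IH (LK LD1_c1 LD2_c22 LD3_c46) (LK LD1_c0 LD2_c38 LD3_c23) Lrfl Lrfl
theorem f34985 : Led Lsl_at (LP (LK LD1_c1 LD2_c4 LD3_c36)) = (LP (LK LD1_c2 LD2_c14 LD3_c54)) :=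
  Lre_a IH (LK LD1_c1 LD2_c4 LD3_c36) (LK LD1_c2 LD2_c14 LD3_c54) Lrfl Lrfl
theorem f71503 : Led Lsl_bf (LP (LK LD1_c1 LD2_c22 LD3_c46)) = (LP (LK LD1_c2 LD2_c14 LD3_c54)) :=
  Lgr Lrot81 (Lpr_at (f71502 IH) (Lpr_bt (f71501 IH) (Lpr_at (K2.f71497 IH) (Lpr_bt (K8.f34884 IH) (Lpr_at (f34985 IH) (Lpn (LP (LK LD1_c2 LD2_c14 LD3_c54))))))))
theorem f138516 : Led Lsl_gt (LP (LK LD1_c2 LD2_c53 LD3_c21)) = (LP (LK LD1_c1 LD2_c22 LD3_c46)) :=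
  Lre_g IH (LK LD1_c2 LD2_c53 LD3_c21) (LK LD1_c1 LD2_c22 LD3_c46) Lrfl Lrfl
theorem f495343 : Led Lsl_ft (LP (LK LD1_c1 LD2_c12 LD3_c33)) = (LP (LK LD1_c2 LD2_c31 LD3_c7)) :=
  Lre_f IH (LK LD1_c1 LD2_c12 LD3_c33) (LK LD1_c2 LD2_c31 LD3_c7) Lrfl Lrfl
theorem f495344 : Led Lsl_at (LP (LK LD1_c2 LD2_c31 LD3_c7)) = (LP (LK LD1_c1 LD2_c12 LD3_c34)) :=
  Lre_a IH (LK LD1_c2 LD2_c31 LD3_c7) (LK LD1_c1 LD2_c12 LD3_c34) Lrfl Lrfl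
theorem f495345 : Led Lsl_gf (LP (LK LD1_c1 LD2_c12 LD3_c34)) = v1399 :=
  Lgr Lrot76 (Lpe (f495344 IH) (Lpe (f495343 IH) (Lpr_gt (f495341 IH) (Lpn v1399))))
theorem f495346 : Led Lsl_cf v1399 = v1399 :=
  Lgr Lrot125 (Lpe (f495345 IH) (Lpe (K36.f3282 IH) (Lpe (K36.f421465 IH) (Lpr_gt (f138516 IH) (Lpr_bf (f71503 IH) (Lpr_ct (f34962 IH) (Lpr_gt (f387128 IH) (Lpe (f387109 IH) (Lpr_bt (f387130 IH) (Lpr_gt (f495341 IH) (Lpn v1399)))))))))))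
theorem f495342 : Led Lsl_at (LP (LK LD1_c1 LD2_c12 LD3_c37)) = v1399 :=
  Lgr Lrot26 (Lpe (K7.f3172 IH) (Lpr_gt (K27.f3278 IH) (Lpr_gt (f495341 IH) (Lpn v1399))))
theorem f495348 : Led Lsl_at v1399 = (LP (LK LD1_c1 LD2_c12 LD3_c37)) :=
  Lgr Lrot107 (Lpr_cf (f495346 IH) (Lpe (f495342 IH) (Lpe (K36.f3161 IH) (Lpn (LP (LK LD1_c1 LD2_c12 LD3_c37))))))
theorem f3205 : Led Lsl_at (LP (LK LD1_c0 LD2_c33 LD3_c36)) = (LP (LK LD1_c1 LD2_c12 LD3_c35)) :=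
  Lre_a IH (LK LD1_c0 LD2_c33 LD3_c36) (LK LD1_c1 LD2_c12 LD3_c35) Lrfl Lrfl
theorem f495349 : Led Lsl_ff v1399 = (LP (LK LD1_c1 LD2_c12 LD3_c35)) :=
  Lgr Lrot30 (Lpr_at (f495348 IH) (Lpr_ft (K36.f3173 IH) (Lpr_at (f3205 IH) (Lpn (LP (LK LD1_c1 LD2_c12 LD3_c35))))))
theorem f495363 : Led Lsl_gf (LP (LK LD1_c1 LD2_c12 LD3_c37)) = v1401 :=
  Lgr Lrot76 (Lpe (f495348 IH) (Lpr_ff (f495349 IH) (Lpr_gt (f495362 IH) (Lpn v1401))))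
theorem f186684 : Led Lsl_bt (LP (LK LD1_c2 LD2_c53 LD3_c45)) = (LP (LK LD1_c1 LD2_c22 LD3_c54)) :=
  Lre_b IH (LK LD1_c2 LD2_c53 LD3_c45) (LK LD1_c1 LD2_c22 LD3_c54) Lrfl Lrfl
theorem f495365 : Led Lsl_ct (LP (LK LD1_c2 LD2_c53 LD3_c45)) = v1401 :=
  Lgr Lrot64 (Lpr_bt (f186684 IH) (Lpe (K35.f137409 IH) (Lpe (K35.f71812 IH) (Lpr_ct (K9.f37949 IH) (Lpr_gf (K9.f31440 IH) (Lpr_cf (K10.f186682 IH) (Lpe (K10.f186664 IH) (Lpe (K36.f3160 IH) (Lpr_ct (K36.f3161 IH) (Lpr_gf (f495363 IH) (Lpn v1401)))))))))))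
theorem f495367 : Led Lsl_cf (LP (LK LD1_c2 LD2_c53 LD3_c45)) = v1401 :=
  Lgr Lrot11 (Lpr_ct (f495365 IH) (Lpn v1401))
theorem f427473 : Led Lsl_cf (LP (LK LD1_c2 LD2_c55 LD3_c18)) = (LP (LK LD1_c2 LD2_c55 LD3_c3)) :=
  Lgr Lrot11 (Lpr_ct (K36.f427471 IH) (Lpn (LP (LK LD1_c2 LD2_c55 LD3_c3))))
theorem f421365 : Led Lsl_ct (LP (LK LD1_c8 LD2_c49 LD3_c4)) = (LP (LK LD1_c4 LD2_c25 LD3_c57)) :=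
  Lre_c IH (LK LD1_c8 LD2_c49 LD3_c4) (LK LD1_c4 LD2_c25 LD3_c57) Lrfl Lrfl
theorem f421428 : Led Lsl_ft (LP (LK LD1_c4 LD2_c25 LD3_c49)) = (LP (LK LD1_c8 LD2_c49 LD3_c4)) :=
  Lre_f IH (LK LD1_c4 LD2_c25 LD3_c49) (LK LD1_c8 LD2_c49 LD3_c4) Lrfl Lrfl
theorem f421429 : Led Lsl_at (LP (LK LD1_c8 LD2_c49 LD3_c4)) = (LP (LK LD1_c4 LD2_c58 LD3_c27)) :=
  Lgr Lrot66 (Lpe (f421428 IH) (Lpr_af (K36.f421423 IH) (Lpe (K36.f138926 IH) (Lpn (LP (LK LD1_c4 LD2_c58 LD3_c27))))))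
theorem f421434 : Led Lsl_af (LP (LK LD1_c8 LD2_c49 LD3_c4)) = (LP (LK LD1_c4 LD2_c58 LD3_c27)) :=
  Lgr Lrot0 (Lpr_at (f421429 IH) (Lpn (LP (LK LD1_c4 LD2_c58 LD3_c27))))
theorem f138911 : Led Lsl_ft (LP (LK LD1_c2 LD2_c27 LD3_c3)) = (LP (LK LD1_c4 LD2_c58 LD3_c27)) :=
  Lre_f IH (LK LD1_c2 LD2_c27 LD3_c3) (LK LD1_c4 LD2_c58 LD3_c27) Lrfl Lrfl
theorem f157022 : Led Lsl_gt (LP (LK LD1_c2 LD2_c27 LD3_c3)) = (LP (LK LD1_c4 LD2_c58 LD3_c24)) :=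
  Lre_g IH (LK LD1_c2 LD2_c27 LD3_c3) (LK LD1_c4 LD2_c58 LD3_c24) Lrfl Lrfl
theorem f421439 : Led Lsl_gf (LP (LK LD1_c8 LD2_c49 LD3_c4)) = (LP (LK LD1_c4 LD2_c58 LD3_c24)) :=
  Lgr Lrot76 (Lpr_af (f421434 IH) (Lpe (f138911 IH) (Lpr_gt (f157022 IH) (Lpn (LP (LK LD1_c4 LD2_c58 LD3_c24))))))
theorem f495368 : Led Lsl_bf (LP (LK LD1_c4 LD2_c58 LD3_c24)) = v1401 :=
  Lgr Lrot165 (Lpe (f421439 IH) (Lpr_ct (f421365 IH) (Lpe (K32.f421368 IH) (Lpe (K32.f308085 IH) (Lpr_bt (K32.f308083 IH) (Lpr_gt (K32.f427782 IH) (Lpe (K36.f386741 IH) (Lpe (f427473 IH) (Lpr_gt (K36.f386769 IH) (Lpr_cf (f495367 IH) (Lpn v1401)))))))))))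
theorem f535995 : Led Lsl_gf (LP (LK LD1_c2 LD2_c27 LD3_c7)) = v2859 :=
  Lgr Lrot129 (Lpe (K36.f161204 IH) (Lpr_bt (K32.f421406 IH) (Lpr_gt (f157022 IH) (Lpr_bf (f495368 IH) (Lpe (f495367 IH) (Lpr_gt (K36.f427487 IH) (Lpe (K27.f169698 IH) (Lpe (K36.f427485 IH) (Lpr_gt (f500625 IH) (Lpr_ct (f535994 IH) (Lpn v2859)))))))))))
theorem f387147 : Led Lsl_cf (LP (LK LD1_c2 LD2_c27 LD3_c13)) = (LP (LK LD1_c1 LD2_c23 LD3_c44)) :=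
  Lgr Lrot108 (Lpr_ft (K32.f387143 IH) (Lpe (K32.f308068 IH) (Lpe (K36.f386786 IH) (Lpn (LP (LK LD1_c1 LD2_c23 LD3_c44))))))
theorem f495334 : Led Lsl_ff (LP (LK LD1_c2 LD2_c33 LD3_c46)) = K36.v1398 :=
  Lgr Lrot30 (Lpr_at (K19.f308080 IH) (Lpr_ft (K19.f308131 IH) (Lpr_at (K36.f495330 IH) (Lpn K36.v1398))))
theorem f495337 : Led Lsl_bt (LP (LK LD1_c1 LD2_c23 LD3_c44)) = K36.v1398 :=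
  Lgr Lrot35 (Lpr_ff (K36.f386786 IH) (Lpe (K32.f308083 IH) (Lpr_ff (f495334 IH) (Lpn K36.v1398))))
theorem f542395 : (LP (LK LD1_c2 LD2_c15 LD3_c49)) = K36.v1398 :=
  (Llr Lrot124 (Lpr_gt (f542390 IH) (Lpe (K35.f59123 IH) (Lpr_ct (K9.f59122 IH) (Lpe (K10.f193795 IH) (Lpr_cf (f193919 IH) (Lpr_bt (K27.f193925 IH) (Lpq (f537524 IH) (Lpe (f535995 IH) (Lpr_ct (K32.f161222 IH) (Lpr_gt (K28.f386899 IH) (Lpr_cf (f387147 IH) (Lpr_bt (f495337 IH) (Lpn K36.v1398)))))))))))))).symm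
theorem f542405 : v1414 = (LP (LK LD1_c1 LD2_c4 LD3_c54)) :=
  Lefun (Lecon (f495441 IH) (f542395 IH).symm) (Lfl_gt (f100260 IH))
theorem f494455 : Led Lsl_bt (LP (LK LD1_c2 LD2_c15 LD3_c43)) = (LP (LK LD1_c4 LD2_c36 LD3_c56)) :=
  Lre_b IH (LK LD1_c2 LD2_c15 LD3_c43) (LK LD1_c4 LD2_c36 LD3_c56) Lrfl Lrfl
theorem f542477 : Led Lsl_gf (LP (LK LD1_c7 LD2_c7 LD3_c7)) = (LP (LK LD1_c4 LD2_c36 LD3_c56)) :=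
  Lgr Lrot181 (Lpr_ct (K36.f97156 IH) (Lpe (K36.f540491 IH) (Lpr_cf (K36.f201563 IH) (Lpr_bt (K36.f193358 IH) (Lpr_gt (K11.f171694 IH) (Lpe (f201432 IH) (Lpr_ct (K32.f185090 IH) (Lpr_gt (f495440 IH) (Lpqs (f542405 IH) (Lpe (K35.f494435 IH) (Lpr_bt (f494455 IH) (Lpn (LP (LK LD1_c4 LD2_c36 LD3_c56))))))))))))))
theorem f98492 : Led Lsl_et (LP (LK LD1_c1 LD2_c44 LD3_c44)) = (LP (LK LD1_c3 LD2_c35 LD3_c47)) :=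
  Lre_e IH (LK LD1_c1 LD2_c44 LD3_c44) (LK LD1_c3 LD2_c35 LD3_c47) Lrfl Lrfl
theorem f98493 : Led Lsl_gt (LP (LK LD1_c3 LD2_c35 LD3_c47)) = (LP (LK LD1_c7 LD2_c12 LD3_c10)) :=
  Lre_g IH (LK LD1_c3 LD2_c35 LD3_c47) (LK LD1_c7 LD2_c12 LD3_c10) Lrfl Lrfl
theorem f112467 : Led Lsl_et (LP (LK LD1_c2 LD2_c15 LD3_c41)) = (LP (LK LD1_c4 LD2_c36 LD3_c56)) :=
  Lre_e IH (LK LD1_c2 LD2_c15 LD3_c41) (LK LD1_c4 LD2_c36 LD3_c56) Lrfl Lrfl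
theorem f542483 : Led Lsl_dt (LP (LK LD1_c7 LD2_c12 LD3_c10)) = (LP (LK LD1_c9 LD2_c9 LD3_c38)) :=
  Lgr Lrot171 (Lpe (f98493 IH) (Lpe (f98492 IH) (Lpr_dt (K3.f18054 IH) (Lpe (K3.f19355 IH) (Lpr_df (K3.f98480 IH) (Lpr_et (K36.f97155 IH) (Lpr_gf (f542477 IH) (Lpe (f112467 IH) (Lpr_dt (K6.f112461 IH) (Lpe (K24.f100225 IH) (Lpn (LP (LK LD1_c9 LD2_c9 LD3_c38)))))))))))))
theorem f542489 : Led Lsl_df (LP (LK LD1_c7 LD2_c12 LD3_c10)) = (LP (LK LD1_c9 LD2_c9 LD3_c38)) :=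
  Lgr Lrot38 (Lpr_dt (f542483 IH) (Lpn (LP (LK LD1_c9 LD2_c9 LD3_c38))))
theorem f544074 : Led Lsl_gf (LP (LK LD1_c4 LD2_c24 LD3_c18)) = (LP (LK LD1_c7 LD2_c12 LD3_c10)) :=
  Lgr Lrot143 (Lpr_dt (K36.f202813 IH) (Lpe (f540674 IH) (Lpr_df (f544062 IH) (Lpe (K36.f501485 IH) (Lpr_df (K36.f501477 IH) (Lpe (K8.f160681 IH) (Lpe (K28.f142216 IH) (Lpe (K36.f142228 IH) (Lpe (f542489 IH) (Lpn (LP (LK LD1_c7 LD2_c12 LD3_c10))))))))))))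
theorem f544080 : Led Lsl_cf (LP (LK LD1_c3 LD2_c57 LD3_c37)) = (LP (LK LD1_c7 LD2_c12 LD3_c10)) :=
  Lgr Lrot166 (Lpe (K11.f202801 IH) (Lpr_dt (K11.f80704 IH) (Lpe (K28.f202905 IH) (Lpe (K28.f150110 IH) (Lpr_ct (K6.f81829 IH) (Lpe (K6.f81831 IH) (Lpr_gf (K36.f540777 IH) (Lpe (K36.f202813 IH) (Lpr_gf (f544074 IH) (Lpn (LP (LK LD1_c7 LD2_c12 LD3_c10))))))))))))
theorem f544084 : Led Lsl_bf (LP (LK LD1_c4 LD2_c42 LD3_c51)) = (LP (LK LD1_c7 LD2_c12 LD3_c10)) :=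
  Lgr Lrot34 (Lpr_gf (K8.f138535 IH) (Lpr_bf (K11.f205752 IH) (Lpe (K4.f60945 IH) (Lpr_gf (K11.f158471 IH) (Lpr_cf (K11.f158473 IH) (Lpe (K11.f205764 IH) (Lpe (K32.f202827 IH) (Lpr_ct (K11.f80698 IH) (Lpr_gf (K11.f202801 IH) (Lpr_cf (f544080 IH) (Lpn (LP (LK LD1_c7 LD2_c12 LD3_c10)))))))))))))
theorem f73474 : Led Lsl_dt (LP (LK LD1_c2 LD2_c49 LD3_c35)) = (LP (LK LD1_c5 LD2_c47 LD3_c18)) :=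
  Lre_d IH (LK LD1_c2 LD2_c49 LD3_c35) (LK LD1_c5 LD2_c47 LD3_c18) Lrfl Lrfl
theorem f544078 : Led Lsl_ct (LP (LK LD1_c3 LD2_c57 LD3_c37)) = (LP (LK LD1_c7 LD2_c12 LD3_c10)) :=
  Lgr Lrot8 (Lpe (K11.f202801 IH) (Lpr_dt (K11.f80704 IH) (Lpe (K28.f202905 IH) (Lpe (K28.f150110 IH) (Lpr_cf (K6.f81825 IH) (Lpe (K6.f81831 IH) (Lpr_gf (K36.f540777 IH) (Lpe (K36.f202813 IH) (Lpr_gf (f544074 IH) (Lpn (LP (LK LD1_c7 LD2_c12 LD3_c10))))))))))))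
theorem f80162 : Led Lsl_dt (LP (LK LD1_c0 LD2_c29 LD3_c42)) = (LP (LK LD1_c0 LD2_c13 LD3_c2)) :=
  Lre_d IH (LK LD1_c0 LD2_c29 LD3_c42) (LK LD1_c0 LD2_c13 LD3_c2) Lrfl Lrfl
def v1276 : LQ := Led Lsl_bt (LP (LK LD1_c1 LD2_c5 LD3_c0))
theorem f494489 : Led Lsl_bt (LP (LK LD1_c1 LD2_c5 LD3_c0)) = v1276 :=
  Lrfl
theorem f494490 : Led Lsl_bf (LP (LK LD1_c1 LD2_c5 LD3_c0)) = v1276 :=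
  Lgr Lrot24 (Lpr_bt (f494489 IH) (Lpn v1276))
theorem f80053 : Led Lsl_ct (LP (LK LD1_c1 LD2_c5 LD3_c0)) = (LP (LK LD1_c2 LD2_c16 LD3_c6)) :=
  Lre_c IH (LK LD1_c1 LD2_c5 LD3_c0) (LK LD1_c2 LD2_c16 LD3_c6) Lrfl Lrfl
theorem f207299 : Led Lsl_ff (LP (LK LD1_c1 LD2_c5 LD3_c0)) = (LP (LK LD1_c0 LD2_c44 LD3_c45)) :=
  Lgr Lrot23 (Lpr_ct (f80053 IH) (Lpr_ft (K11.f207293 IH) (Lpr_ct (K6.f62198 IH) (Lpn (LP (LK LD1_c0 LD2_c44 LD3_c45))))))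
def v557 : LQ := Led Lsl_bt (LP (LK LD1_c0 LD2_c44 LD3_c45))
theorem f453972 : Led Lsl_bt (LP (LK LD1_c0 LD2_c44 LD3_c45)) = v557 :=
  Lrfl
theorem f453973 : Led Lsl_bf (LP (LK LD1_c0 LD2_c44 LD3_c45)) = v557 :=
  Lgr Lrot24 (Lpr_bt (f453972 IH) (Lpn v557))
theorem f494491 : Led Lsl_ff v557 = v1276 :=
  Lgr Lrot25 (Lpe (f453973 IH) (Lpe (f207299 IH) (Lpr_bt (f494489 IH) (Lpn v1276))))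
theorem f494492 : Led Lsl_ft v557 = v1276 :=
  Lgr Lrot48 (Lpr_ff (f494491 IH) (Lpn v1276))
theorem f25969 : Led Lsl_ft (LP (LK LD1_c1 LD2_c31 LD3_c24)) = (LP (LK LD1_c0 LD2_c42 LD3_c10)) :=
  Lre_f IH (LK LD1_c1 LD2_c31 LD3_c24) (LK LD1_c0 LD2_c42 LD3_c10) Lrfl Lrfl
def v1508 : LQ := Led Lsl_bt (LP (LK LD1_c1 LD2_c20 LD3_c41))
theorem f495967 : Led Lsl_bt (LP (LK LD1_c1 LD2_c20 LD3_c41)) = v1508 :=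
  Lrfl
theorem f495969 : Led Lsl_df v557 = v1508 :=
  Lgr Lrot12 (Lpe (f453973 IH) (Lpr_dt (K6.f116865 IH) (Lpr_bt (f495967 IH) (Lpn v1508))))
theorem f495970 : Led Lsl_gt K36.v474 = v1508 :=
  Lgr Lrot164 (Lpe (K36.f453532 IH) (Lpr_ct (K4.f69209 IH) (Lpe (K11.f116807 IH) (Lpe (K11.f205731 IH) (Lpe (K11.f119887 IH) (Lpe (K35.f132536 IH) (Lpr_ct (K5.f132542 IH) (Lpr_gf (K5.f119045 IH) (Lpe (K7.f72986 IH) (Lpr_bt (f495967 IH) (Lpn v1508)))))))))))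
theorem f537307 : v1508 = (LP (LK LD1_c0 LD2_c42 LD3_c11)) :=
  Lefun (Lecon (f495970 IH) (K36.f537132 IH)) (Lfl_gf (K11.f210559 IH))
theorem f537696 : v557 = (LP (LK LD1_c1 LD2_c31 LD3_c24)) :=
  Lefun (Lecon (Lfl_df (f495969 IH)) (f537307 IH)) (K11.f25975 IH)
theorem f537887 : v1276 = (LP (LK LD1_c0 LD2_c42 LD3_c10)) :=
  Lefun (Lecon (f494492 IH) (f537696 IH)) (f25969 IH)
theorem f204353 : Led Lsl_df (LP (LK LD1_c1 LD2_c31 LD3_c23)) = (LP (LK LD1_c3 LD2_c5 LD3_c34)) :=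
  Lgr Lrot43 (Lpr_ct (K11.f25979 IH) (Lpr_dt (K11.f25938 IH) (Lpr_ct (K11.f25945 IH) (Lpr_dt (K10.f25930 IH) (Lpr_ct (K11.f25980 IH) (Lpr_dt (K11.f25981 IH) (Lpr_ct (K11.f25982 IH) (Lpr_dt (K11.f25983 IH) (Lpr_ct (K11.f204349 IH) (Lpr_dt (K11.f59044 IH) (Lpr_ct (K11.f59045 IH) (Lpr_dt (K11.f59040 IH) (Lpr_ct (K11.f59051 IH) (Lpr_dt (K11.f59052 IH) (Lpr_ct (K11.f59053 IH) (Lpn (LP (LK LD1_c3 LD2_c5 LD3_c34))))))))))))))))))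
theorem f205167 : Led Lsl_bt (LP (LK LD1_c5 LD2_c49 LD3_c24)) = (LP (LK LD1_c2 LD2_c50 LD3_c47)) :=
  Lre_b IH (LK LD1_c5 LD2_c49 LD3_c24) (LK LD1_c2 LD2_c50 LD3_c47) Lrfl Lrfl
theorem f544088 : Led Lsl_ct (LP (LK LD1_c5 LD2_c47 LD3_c18)) = (LP (LK LD1_c5 LD2_c49 LD3_c24)) :=
  Lgr Lrot191 (Lpe (f73474 IH) (Lpe (K28.f205711 IH) (Lpr_bf (f544084 IH) (Lpe (f544078 IH) (Lpe (K28.f138023 IH) (Lpe (K6.f36039 IH) (Lpe (K6.f35900 IH) (Lpe (K8.f69337 IH) (Lpe (K2.f34763 IH) (Lpe (K2.f20309 IH) (Lpe (K2.f37862 IH) (Lpe (K6.f26589 IH) (Lpe (f80162 IH) (Lpe (K7.f58856 IH) (Lpr_bf (f494490 IH) (Lpqs (f537887 IH) (Lpe (K11.f25979 IH) (Lpr_df (f204353 IH) (Lpe (K11.f205161 IH) (Lpe (f205167 IH) (Lpn (LP (LK LD1_c5 LD2_c49 LD3_c24)))))))))))))))))))))))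
theorem f208498 : Led Lsl_af (LP (LK LD1_c2 LD2_c15 LD3_c33)) = (LP (LK LD1_c1 LD2_c22 LD3_c41)) :=
  Lgr Lrot0 (Lpr_at (K36.f208472 IH) (Lpn (LP (LK LD1_c1 LD2_c22 LD3_c41))))
theorem f208723 : Led Lsl_at (LP (LK LD1_c3 LD2_c59 LD3_c20)) = (LP (LK LD1_c2 LD2_c53 LD3_c11)) :=
  Lgr Lrot107 (Lpr_cf (K8.f160942 IH) (Lpr_af (f208498 IH) (Lpe (K4.f69008 IH) (Lpn (LP (LK LD1_c2 LD2_c53 LD3_c11))))))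
theorem f208731 : Led Lsl_af (LP (LK LD1_c7 LD2_c59 LD3_c55)) = (LP (LK LD1_c5 LD2_c53 LD3_c41)) :=
  Lgr Lrot117 (Lpr_dt (K8.f101694 IH) (Lpr_at (f208723 IH) (Lpr_dt (K8.f99535 IH) (Lpn (LP (LK LD1_c5 LD2_c53 LD3_c41))))))
theorem f208360 : Led Lsl_ft (LP (LK LD1_c7 LD2_c59 LD3_c53)) = (LP (LK LD1_c5 LD2_c53 LD3_c41)) :=
  Lgr Lrot4 (Lpr_cf (K8.f157746 IH) (Lpr_ff (K32.f208356 IH) (Lpe (K32.f99536 IH) (Lpn (LP (LK LD1_c5 LD2_c53 LD3_c41))))))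
theorem f208735 : Led Lsl_gf (LP (LK LD1_c7 LD2_c59 LD3_c55)) = (LP (LK LD1_c5 LD2_c47 LD3_c18)) :=
  Lgr Lrot76 (Lpr_af (f208731 IH) (Lpe (f208360 IH) (Lpr_gt (K28.f157813 IH) (Lpn (LP (LK LD1_c5 LD2_c47 LD3_c18))))))
theorem f158951 : Led Lsl_ct (LP (LK LD1_c8 LD2_c0 LD3_c15)) = (LP (LK LD1_c11 LD2_c28 LD3_c42)) :=
  Lgr Lrot59 (Lpr_cf (K8.f158939 IH) (Lpn (LP (LK LD1_c11 LD2_c28 LD3_c42))))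
theorem f208400 : Led Lsl_gf (LP (LK LD1_c8 LD2_c0 LD3_c15)) = (LP (LK LD1_c12 LD2_c49 LD3_c23)) :=
  Lgr Lrot147 (Lpr_ct (f158951 IH) (Lpe (K8.f158960 IH) (Lpr_ct (K1.f40052 IH) (Lpe (K1.f40036 IH) (Lpe (K1.f36232 IH) (Lpe (K8.f36251 IH) (Lpe (K32.f40426 IH) (Lpr_gf (K32.f208396 IH) (Lpe (K32.f208382 IH) (Lpn (LP (LK LD1_c12 LD2_c49 LD3_c23))))))))))))
theorem f208404 : Led Lsl_dt (LP (LK LD1_c11 LD2_c28 LD3_c42)) = (LP (LK LD1_c7 LD2_c59 LD3_c57)) :=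
  Lgr Lrot27 (Lpe (f158951 IH) (Lpr_gf (f208400 IH) (Lpe (K32.f129258 IH) (Lpe (K8.f129256 IH) (Lpr_df (K8.f157675 IH) (Lpe (K8.f117673 IH) (Lpr_ct (K8.f117672 IH) (Lpr_gt (K8.f149353 IH) (Lpr_ct (K8.f112553 IH) (Lpn (LP (LK LD1_c7 LD2_c59 LD3_c57))))))))))))
theorem f544100 : Led Lsl_gf (LP (LK LD1_c3 LD2_c57 LD3_c60)) = (LP (LK LD1_c5 LD2_c49 LD3_c24)) :=
  Lgr Lrot148 (Lpr_dt (K32.f40054 IH) (Lpr_gt (K8.f158955 IH) (Lpr_dt (f208404 IH) (Lpr_ct (K8.f112544 IH) (Lpe (K8.f112543 IH) (Lpe (K8.f101692 IH) (Lpe (K8.f101694 IH) (Lpr_gf (f208735 IH) (Lpr_ct (f544088 IH) (Lpn (LP (LK LD1_c5 LD2_c49 LD3_c24))))))))))))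
theorem f176659 : Led Lsl_bt (LP (LK LD1_c2 LD2_c50 LD3_c47)) = (LP (LK LD1_c5 LD2_c49 LD3_c24)) :=
  Lre_b IH (LK LD1_c2 LD2_c50 LD3_c47) (LK LD1_c5 LD2_c49 LD3_c24) Lrfl Lrfl
theorem f146329 : Led Lsl_ct (LP (LK LD1_c1 LD2_c21 LD3_c25)) = (LP (LK LD1_c0 LD2_c37 LD3_c33)) :=
  Lre_c IH (LK LD1_c1 LD2_c21 LD3_c25) (LK LD1_c0 LD2_c37 LD3_c33) Lrfl Lrfl
def v1541 : LQ := Led Lsl_bt (LP (LK LD1_c1 LD2_c21 LD3_c25))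
theorem f496184 : Led Lsl_bt (LP (LK LD1_c1 LD2_c21 LD3_c25)) = v1541 :=
  Lrfl
theorem f544106 : (LP (LK LD1_c2 LD2_c22 LD3_c2)) = v1541 :=
  (Llr Lrot164 (Lpr_gf (K6.f129265 IH) (Lpe (K7.f144379 IH) (Lpe (K7.f156728 IH) (Lpe (K7.f37892 IH) (Lpe (K7.f40023 IH) (Lpr_gf (f544100 IH) (Lpe (f176659 IH) (Lpr_ct (K11.f176646 IH) (Lpe (K11.f73198 IH) (Lpe (f146329 IH) (Lpr_bt (f496184 IH) (Lpn v1541))))))))))))).symm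
theorem f496185 : Led Lsl_bf (LP (LK LD1_c1 LD2_c21 LD3_c25)) = v1541 :=
  Lgr Lrot24 (Lpr_bt (f496184 IH) (Lpn v1541))
def v1535 : LQ := Led Lsl_ct (LP (LK LD1_c1 LD2_c21 LD3_c16))
theorem f496153 : Led Lsl_ct (LP (LK LD1_c1 LD2_c21 LD3_c16)) = v1535 :=
  Lrfl
theorem f186064 : Led Lsl_et (LP (LK LD1_c0 LD2_c37 LD3_c33)) = (LP (LK LD1_c1 LD2_c21 LD3_c16)) :=
  Lre_e IH (LK LD1_c0 LD2_c37 LD3_c33) (LK LD1_c1 LD2_c21 LD3_c16) Lrfl Lrfl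
theorem f496156 : Led Lsl_ef (LP (LK LD1_c1 LD2_c21 LD3_c25)) = v1535 :=
  Lgr Lrot28 (Lpr_ct (f146329 IH) (Lpr_et (f186064 IH) (Lpr_ct (f496153 IH) (Lpn v1535))))
theorem f496161 : Led Lsl_et (LP (LK LD1_c1 LD2_c21 LD3_c25)) = v1535 :=
  Lgr Lrot87 (Lpr_ef (f496156 IH) (Lpn v1535))
theorem f544109 : Led Lsl_bf (LP (LK LD1_c4 LD2_c48 LD3_c16)) = v1535 :=
  Lgr Lrot96 (Lpr_et (f146872 IH) (Lpqs (f544106 IH) (Lpe (f496185 IH) (Lpr_et (f496161 IH) (Lpn v1535)))))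
theorem f124140 : Led Lsl_et (LP (LK LD1_c2 LD2_c22 LD3_c2)) = (LP (LK LD1_c4 LD2_c48 LD3_c16)) :=
  Lre_e IH (LK LD1_c2 LD2_c22 LD3_c2) (LK LD1_c4 LD2_c48 LD3_c16) Lrfl Lrfl
theorem f134770 : Led Lsl_et (LP (LK LD1_c3 LD2_c53 LD3_c56)) = (LP (LK LD1_c1 LD2_c53 LD3_c35)) :=
  Lre_e IH (LK LD1_c3 LD2_c53 LD3_c56) (LK LD1_c1 LD2_c53 LD3_c35) Lrfl Lrfl
theorem f134771 : Led Lsl_ct (LP (LK LD1_c4 LD2_c48 LD3_c16)) = (LP (LK LD1_c3 LD2_c53 LD3_c56)) :=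
  Lgr Lrot15 (Lpe (f124140 IH) (Lpr_cf (K5.f134764 IH) (Lpe (f134770 IH) (Lpn (LP (LK LD1_c3 LD2_c53 LD3_c56))))))
theorem f437494 : Led Lsl_bt (LP (LK LD1_c2 LD2_c50 LD3_c20)) = (LP (LK LD1_c1 LD2_c21 LD3_c16)) :=
  Lre_b IH (LK LD1_c2 LD2_c50 LD3_c20) (LK LD1_c1 LD2_c21 LD3_c16) Lrfl Lrfl
theorem f496154 : Led Lsl_ct (LP (LK LD1_c5 LD2_c48 LD3_c36)) = (LP (LK LD1_c2 LD2_c50 LD3_c20)) :=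
  Lre_c IH (LK LD1_c5 LD2_c48 LD3_c36) (LK LD1_c2 LD2_c50 LD3_c20) Lrfl Lrfl
theorem f544111 : Led Lsl_bt (LP (LK LD1_c3 LD2_c53 LD3_c56)) = (LP (LK LD1_c5 LD2_c48 LD3_c36)) :=
  Lgr Lrot128 (Lpe (f134771 IH) (Lpr_bf (f544109 IH) (Lpe (f496153 IH) (Lpe (f437494 IH) (Lpe (f496154 IH) (Lpn (LP (LK LD1_c5 LD2_c48 LD3_c36))))))))
theorem f531358 : Led Lsl_bf (LP (LK LD1_c1 LD2_c53 LD3_c35)) = K34.v2717 :=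
  Lgr Lrot93 (Lpr_dt (K6.f134753 IH) (Lpr_bt (K6.f123226 IH) (Lpr_dt (K34.f531356 IH) (Lpn K34.v2717))))
theorem f544121 : Led Lsl_et (LP (LK LD1_c5 LD2_c48 LD3_c36)) = (LP (LK LD1_c2 LD2_c50 LD3_c26)) :=
  Lre_e IH (LK LD1_c5 LD2_c48 LD3_c36) (LK LD1_c2 LD2_c50 LD3_c26) Lrfl Lrfl
theorem f544129 : K34.v2717 = (LP (LK LD1_c2 LD2_c50 LD3_c26)) :=
  (Llr Lrot96 (Lpe (f531358 IH) (Lpr_et (K7.f142332 IH) (Lpr_bt (f544111 IH) (Lpr_et (f544121 IH) (Lpn (LP (LK LD1_c2 LD2_c50 LD3_c26)))))))).symm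
theorem f123227 : Led Lsl_dt (LP (LK LD1_c1 LD2_c53 LD3_c60)) = (LP (LK LD1_c3 LD2_c54 LD3_c48)) :=
  Lre_d IH (LK LD1_c1 LD2_c53 LD3_c60) (LK LD1_c3 LD2_c54 LD3_c48) Lrfl Lrfl
theorem f176650 : Led Lsl_ct (LP (LK LD1_c2 LD2_c50 LD3_c26)) = (LP (LK LD1_c1 LD2_c21 LD3_c13)) :=
  Lre_c IH (LK LD1_c2 LD2_c50 LD3_c26) (LK LD1_c1 LD2_c21 LD3_c13) Lrfl Lrfl
theorem f544139 : Led Lsl_cf (LP (LK LD1_c3 LD2_c54 LD3_c48)) = K31.v1531 :=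
  Lgr Lrot108 (Lpr_ft (K34.f531363 IH) (Lpqs (f544129 IH) (Lpr_ct (f176650 IH) (Lpr_ft (K31.f496094 IH) (Lpn K31.v1531)))))
theorem f422774 : Led Lsl_dt (LP (LK LD1_c1 LD2_c21 LD3_c13)) = (LP (LK LD1_c0 LD2_c37 LD3_c29)) :=
  Lre_d IH (LK LD1_c1 LD2_c21 LD3_c13) (LK LD1_c0 LD2_c37 LD3_c29) Lrfl Lrfl
theorem f496100 : Led Lsl_dt K31.v393 = K31.v1531 :=
  Lgr Lrot60 (Lpe (K31.f452606 IH) (Lpe (f422774 IH) (Lpr_ff (K31.f496098 IH) (Lpn K31.v1531))))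
def v1237 : LQ := Led Lsl_et (LP (LK LD1_c1 LD2_c3 LD3_c59))
theorem f494231 : Led Lsl_et (LP (LK LD1_c1 LD2_c3 LD3_c59)) = v1237 :=
  Lrfl
theorem f494233 : Led Lsl_bf (LP (LK LD1_c1 LD2_c21 LD3_c7)) = v1237 :=
  Lgr Lrot96 (Lpr_et (K31.f206039 IH) (Lpe (K11.f437498 IH) (Lpr_et (f494231 IH) (Lpn v1237))))
theorem f146370 : Led Lsl_ft (LP (LK LD1_c0 LD2_c16 LD3_c43)) = (LP (LK LD1_c0 LD2_c37 LD3_c34)) :=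
  Lre_f IH (LK LD1_c0 LD2_c16 LD3_c43) (LK LD1_c0 LD2_c37 LD3_c34) Lrfl Lrfl
theorem f452609 : Led Lsl_bt (LP (LK LD1_c0 LD2_c37 LD3_c34)) = K31.v393 :=
  Lgr Lrot35 (Lpe (f146370 IH) (Lpe (K31.f205226 IH) (Lpr_ff (K31.f452608 IH) (Lpn K31.v393))))
theorem f452218 : Led Lsl_af (LP (LK LD1_c0 LD2_c37 LD3_c34)) = K36.v335 :=
  Lgr Lrot45 (Lpr_ft (K11.f146367 IH) (Lpe (K11.f146319 IH) (Lpr_ft (K36.f452217 IH) (Lpn K36.v335))))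
theorem f494234 : Led Lsl_ef (LP (LK LD1_c1 LD2_c3 LD3_c59)) = v1237 :=
  Lgr Lrot88 (Lpr_et (f494231 IH) (Lpn v1237))
theorem f494235 : Led Lsl_at (LP (LK LD1_c1 LD2_c3 LD3_c61)) = v1237 :=
  Lgr Lrot80 (Lpe (K36.f424534 IH) (Lpe (K11.f437500 IH) (Lpr_ef (f494234 IH) (Lpn v1237))))
theorem f536898 : (LP (LK LD1_c0 LD2_c37 LD3_c34)) = v1237 :=
  Lefun (Lecon (Lfl_af (f452218 IH)) (K36.f536763 IH).symm) (f494235 IH)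
theorem f537105 : (LP (LK LD1_c1 LD2_c21 LD3_c7)) = K31.v393 :=
  Lefun (Lecon (Lfl_bf (f494233 IH)) (f536898 IH).symm) (f452609 IH)
theorem f537269 : K31.v1531 = (LP (LK LD1_c2 LD2_c50 LD3_c8)) :=
  Lefun (Lecon (f496100 IH) (f537105 IH).symm) (K31.f206040 IH)
theorem f422770 : Led Lsl_at (LP (LK LD1_c1 LD2_c21 LD3_c7)) = (LP (LK LD1_c0 LD2_c37 LD3_c29)) :=
  Lre_a IH (LK LD1_c1 LD2_c21 LD3_c7) (LK LD1_c0 LD2_c37 LD3_c29) Lrfl Lrfl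
theorem f422771 : Led Lsl_ct (LP (LK LD1_c1 LD2_c21 LD3_c7)) = (LP (LK LD1_c1 LD2_c21 LD3_c7)) :=
  Lgr Lrot111 (Lpe (K31.f146382 IH) (Lpr_cf (K31.f422768 IH) (Lpe (f422770 IH) (Lpn (LP (LK LD1_c1 LD2_c21 LD3_c7))))))
theorem f206045 : Led Lsl_dt (LP (LK LD1_c2 LD2_c50 LD3_c8)) = (LP (LK LD1_c1 LD2_c21 LD3_c7)) :=
  Lre_d IH (LK LD1_c2 LD2_c50 LD3_c8) (LK LD1_c1 LD2_c21 LD3_c7) Lrfl Lrfl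
theorem f544143 : Led Lsl_ct (LP (LK LD1_c3 LD2_c54 LD3_c48)) = (LP (LK LD1_c2 LD2_c50 LD3_c8)) :=
  Lgr Lrot41 (Lpe (f123227 IH) (Lpe (K28.f142515 IH) (Lpe (K34.f123448 IH) (Lpr_ft (K34.f531363 IH) (Lpqs (f544129 IH) (Lpq (f544129 IH) (Lpe (K34.f531357 IH) (Lpr_cf (f544139 IH) (Lpqs (f537269 IH) (Lpe (K31.f206040 IH) (Lpe (f422771 IH) (Lpe (f206045 IH) (Lpn (LP (LK LD1_c2 LD2_c50 LD3_c8)))))))))))))))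
theorem f123446 : Led Lsl_bt (LP (LK LD1_c3 LD2_c54 LD3_c48)) = (LP (LK LD1_c1 LD2_c53 LD3_c61)) :=
  Lre_b IH (LK LD1_c3 LD2_c54 LD3_c48) (LK LD1_c1 LD2_c53 LD3_c61) Lrfl Lrfl
theorem f527589 : Led Lsl_bf (LP (LK LD1_c1 LD2_c49 LD3_c4)) = K36.v2579 :=
  Lgr Lrot93 (Lpr_dt (K4.f116118 IH) (Lpr_bt (K8.f116131 IH) (Lpr_dt (K36.f527588 IH) (Lpn K36.v2579))))
theorem f205607 : Led Lsl_ct (LP (LK LD1_c6 LD2_c24 LD3_c58)) = (LP (LK LD1_c3 LD2_c10 LD3_c5)) :=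
  Lre_c IH (LK LD1_c6 LD2_c24 LD3_c58) (LK LD1_c3 LD2_c10 LD3_c5) Lrfl Lrfl
theorem f205609 : Led Lsl_bt (LP (LK LD1_c6 LD2_c24 LD3_c58)) = (LP (LK LD1_c12 LD2_c22 LD3_c56)) :=
  Lre_b IH (LK LD1_c6 LD2_c24 LD3_c58) (LK LD1_c12 LD2_c22 LD3_c56) Lrfl Lrfl
theorem f206049 : Led Lsl_ct (LP (LK LD1_c10 LD2_c5 LD3_c43)) = (LP (LK LD1_c5 LD2_c7 LD3_c43)) :=
  Lre_c IH (LK LD1_c10 LD2_c5 LD3_c43) (LK LD1_c5 LD2_c7 LD3_c43) Lrfl Lrfl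
theorem f544153 : Led Lsl_gt (LP (LK LD1_c12 LD2_c22 LD3_c56)) = (LP (LK LD1_c10 LD2_c5 LD3_c43)) :=
  Lgr Lrot82 (Lpe (f205609 IH) (Lpr_ct (f205607 IH) (Lpe (K35.f80361 IH) (Lpe (K36.f36429 IH) (Lpq (K36.f542015 IH) (Lpe (f527589 IH) (Lpr_gf (K8.f147602 IH) (Lpe (f123446 IH) (Lpr_ct (f544143 IH) (Lpr_gf (K31.f206041 IH) (Lpe (f206049 IH) (Lpn (LP (LK LD1_c10 LD2_c5 LD3_c43))))))))))))))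
theorem f544157 : Led Lsl_dt (LP (LK LD1_c12 LD2_c22 LD3_c56)) = (LP (LK LD1_c7 LD2_c25 LD3_c8)) :=
  Lgr Lrot6 (Lpr_gt (f544153 IH) (Lpr_ct (f206049 IH) (Lpe (K31.f206041 IH) (Lpq (f537269 IH) (Lpe (f544139 IH) (Lpe (f123227 IH) (Lpe (K28.f142515 IH) (Lpr_gf (K28.f203635 IH) (Lpe (K28.f147606 IH) (Lpe (K28.f203637 IH) (Lpn (LP (LK LD1_c7 LD2_c25 LD3_c8)))))))))))))
theorem f159428 : Led Lsl_dt (LP (LK LD1_c1 LD2_c47 LD3_c1)) = (LP (LK LD1_c3 LD2_c40 LD3_c8)) :=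
  Lre_d IH (LK LD1_c1 LD2_c47 LD3_c1) (LK LD1_c3 LD2_c40 LD3_c8) Lrfl Lrfl
theorem f107577 : Led Lsl_bt (LP (LK LD1_c3 LD2_c40 LD3_c8)) = (LP (LK LD1_c1 LD2_c47 LD3_c2)) :=
  Lre_b IH (LK LD1_c3 LD2_c40 LD3_c8) (LK LD1_c1 LD2_c47 LD3_c2) Lrfl Lrfl
theorem f159390 : Led Lsl_ft (LP (LK LD1_c3 LD2_c42 LD3_c16)) = (LP (LK LD1_c3 LD2_c40 LD3_c8)) :=
  Lgr Lrot75 (Lpe (K8.f142322 IH) (Lpr_ff (K28.f159387 IH) (Lpe (f107577 IH) (Lpn (LP (LK LD1_c3 LD2_c40 LD3_c8))))))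
theorem f541132 : Led Lsl_ct (LP (LK LD1_c3 LD2_c40 LD3_c8)) = (LP (LK LD1_c6 LD2_c25 LD3_c33)) :=
  Lgr Lrot40 (Lpe (f159390 IH) (Lpr_cf (K36.f541126 IH) (Lpr_ff (K36.f411264 IH) (Lpn (LP (LK LD1_c6 LD2_c25 LD3_c33))))))
theorem f541144 : Led Lsl_bf (LP (LK LD1_c5 LD2_c47 LD3_c23)) = (LP (LK LD1_c6 LD2_c25 LD3_c33)) :=
  Lgr Lrot24 (Lpr_bt (K36.f541142 IH) (Lpn (LP (LK LD1_c6 LD2_c25 LD3_c33))))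
theorem f72964 : Led Lsl_bt (LP (LK LD1_c1 LD2_c28 LD3_c26)) = (LP (LK LD1_c1 LD2_c20 LD3_c50)) :=
  Lgr Lrot127 (Lpr_bf (K4.f72962 IH) (Lpn (LP (LK LD1_c1 LD2_c20 LD3_c50))))
theorem f155638 : Led Lsl_ff (LP (LK LD1_c13 LD2_c8 LD3_c51)) = (LP (LK LD1_c13 LD2_c6 LD3_c19)) :=
  Lgr Lrot19 (Lpr_dt (K8.f155627 IH) (Lpe (K4.f108907 IH) (Lpr_dt (K5.f97682 IH) (Lpn (LP (LK LD1_c13 LD2_c6 LD3_c19))))))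
theorem f155719 : Led Lsl_at (LP (LK LD1_c13 LD2_c8 LD3_c51)) = (LP (LK LD1_c13 LD2_c6 LD3_c17)) :=
  Lgr Lrot26 (Lpr_ff (f155638 IH) (Lpe (K5.f122686 IH) (Lpr_gt (K5.f129476 IH) (Lpn (LP (LK LD1_c13 LD2_c6 LD3_c17))))))
theorem f544002 : Led Lsl_df (LP (LK LD1_c17 LD2_c13 LD3_c0)) = (LP (LK LD1_c9 LD2_c49 LD3_c29)) :=
  Lgr Lrot177 (Lpr_ct (f543993 IH) (Lpe (f155719 IH) (Lpr_ff (f155638 IH) (Lpr_dt (K8.f97687 IH) (Lpe (K4.f97680 IH) (Lpr_dt (K4.f93207 IH) (Lpe (K2.f93184 IH) (Lpr_dt (K8.f93213 IH) (Lpe (K8.f130344 IH) (Lpn (LP (LK LD1_c9 LD2_c49 LD3_c29))))))))))))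
theorem f387125 : Led Lsl_bt (LP (LK LD1_c5 LD2_c7 LD3_c43)) = (LP (LK LD1_c10 LD2_c5 LD3_c29)) :=
  Lre_b IH (LK LD1_c5 LD2_c7 LD3_c43) (LK LD1_c10 LD2_c5 LD3_c29) Lrfl Lrfl
theorem f543996 : Led Lsl_bf (LP (LK LD1_c10 LD2_c5 LD3_c43)) = (LP (LK LD1_c13 LD2_c6 LD3_c17)) :=
  Lgr Lrot90 (Lpr_ct (f206049 IH) (Lpr_bt (f387125 IH) (Lpr_ct (K31.f496105 IH) (Lpr_bt (f496109 IH) (Lpr_ct (f543993 IH) (Lpn (LP (LK LD1_c13 LD2_c6 LD3_c17))))))))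
theorem f544163 : Led Lsl_gf (LP (LK LD1_c12 LD2_c22 LD3_c56)) = (LP (LK LD1_c10 LD2_c5 LD3_c43)) :=
  Lgr Lrot85 (Lpr_dt (f544157 IH) (Lpr_ct (K36.f203655 IH) (Lpr_bt (K28.f142732 IH) (Lpr_gt (K28.f142731 IH) (Lpr_dt (f159428 IH) (Lpr_ct (f541132 IH) (Lpe (f541144 IH) (Lpe (K8.f73327 IH) (Lpr_dt (K2.f60664 IH) (Lpr_ct (K2.f60847 IH) (Lpr_bt (f72964 IH) (Lpe (K4.f76101 IH) (Lpr_dt (K32.f76089 IH) (Lpr_ct (K8.f40385 IH) (Lpr_bt (K6.f76104 IH) (Lpr_gt (K8.f76105 IH) (Lpe (f544002 IH) (Lpr_ct (f543993 IH) (Lpe (f543996 IH) (Lpn (LP (LK LD1_c10 LD2_c5 LD3_c43))))))))))))))))))))))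
theorem f543998 : Led Lsl_cf (LP (LK LD1_c17 LD2_c13 LD3_c0)) = (LP (LK LD1_c13 LD2_c6 LD3_c17)) :=
  Lgr Lrot11 (Lpr_ct (f543993 IH) (Lpn (LP (LK LD1_c13 LD2_c6 LD3_c17))))
theorem f146883 : Led Lsl_bt (LP (LK LD1_c1 LD2_c47 LD3_c36)) = (LP (LK LD1_c3 LD2_c41 LD3_c20)) :=
  Lre_b IH (LK LD1_c1 LD2_c47 LD3_c36) (LK LD1_c3 LD2_c41 LD3_c20) Lrfl Lrfl
theorem f146884 : Led Lsl_at (LP (LK LD1_c3 LD2_c41 LD3_c20)) = (LP (LK LD1_c7 LD2_c23 LD3_c3)) :=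
  Lre_a IH (LK LD1_c3 LD2_c41 LD3_c20) (LK LD1_c7 LD2_c23 LD3_c3) Lrfl Lrfl
theorem f123703 : Led Lsl_bt (LP (LK LD1_c3 LD2_c43 LD3_c57)) = (LP (LK LD1_c1 LD2_c49 LD3_c1)) :=
  Lre_b IH (LK LD1_c3 LD2_c43 LD3_c57) (LK LD1_c1 LD2_c49 LD3_c1) Lrfl Lrfl
theorem f146885 : Led Lsl_bt (LP (LK LD1_c7 LD2_c23 LD3_c3)) = (LP (LK LD1_c7 LD2_c28 LD3_c33)) :=
  Lgr Lrot62 (Lpe (f146884 IH) (Lpe (f146883 IH) (Lpr_af (K6.f146878 IH) (Lpe (f123703 IH) (Lpe (K5.f123893 IH) (Lpn (LP (LK LD1_c7 LD2_c28 LD3_c33))))))))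
theorem f544167 : Led Lsl_cf (LP (LK LD1_c4 LD2_c24 LD3_c31)) = (LP (LK LD1_c7 LD2_c23 LD3_c3)) :=
  Lgr Lrot58 (Lpr_gf (K35.f205605 IH) (Lpe (f205607 IH) (Lpr_bt (f205609 IH) (Lpr_gf (f544163 IH) (Lpr_bf (f543996 IH) (Lpe (f543998 IH) (Lpr_gf (f543989 IH) (Lpe (K32.f209693 IH) (Lpr_gf (K32.f123943 IH) (Lpe (f146885 IH) (Lpn (LP (LK LD1_c7 LD2_c23 LD3_c3)))))))))))))
theorem f541911 : Led Lsl_ef (LP (LK LD1_c7 LD2_c23 LD3_c3)) = (LP (LK LD1_c13 LD2_c38 LD3_c24)) :=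
  Lgr Lrot29 (Lpr_bt (f146885 IH) (Lpr_et (K5.f123679 IH) (Lpr_bt (K36.f541897 IH) (Lpn (LP (LK LD1_c13 LD2_c38 LD3_c24))))))
theorem f544171 : Led Lsl_et (LP (LK LD1_c4 LD2_c24 LD3_c31)) = (LP (LK LD1_c7 LD2_c12 LD3_c5)) :=
  Lgr Lrot158 (Lpr_cf (f544167 IH) (Lpr_ef (f541911 IH) (Lpe (K36.f116255 IH) (Lpn (LP (LK LD1_c7 LD2_c12 LD3_c5))))))
theorem f59396 : Led Lsl_ft (LP (LK LD1_c2 LD2_c9 LD3_c41)) = (LP (LK LD1_c4 LD2_c24 LD3_c31)) :=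
  Lre_f IH (LK LD1_c2 LD2_c9 LD3_c41) (LK LD1_c4 LD2_c24 LD3_c31) Lrfl Lrfl
theorem f205596 : Led Lsl_et (LP (LK LD1_c4 LD2_c24 LD3_c26)) = (LP (LK LD1_c2 LD2_c9 LD3_c41)) :=
  Lre_e IH (LK LD1_c4 LD2_c24 LD3_c26) (LK LD1_c2 LD2_c9 LD3_c41) Lrfl Lrfl
theorem f116171 : Led Lsl_ft (LP (LK LD1_c7 LD2_c12 LD3_c5)) = (LP (LK LD1_c13 LD2_c38 LD3_c25)) :=
  Lre_f IH (LK LD1_c7 LD2_c12 LD3_c5) (LK LD1_c13 LD2_c38 LD3_c25) Lrfl Lrfl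
theorem f544175 : Led Lsl_ef (LP (LK LD1_c8 LD2_c46 LD3_c35)) = (LP (LK LD1_c13 LD2_c38 LD3_c25)) :=
  Lgr Lrot21 (Lpr_ft (K11.f75748 IH) (Lpr_et (f205596 IH) (Lpr_ft (f59396 IH) (Lpr_et (f544171 IH) (Lpr_ft (f116171 IH) (Lpn (LP (LK LD1_c13 LD2_c38 LD3_c25))))))))
theorem f544185 : Led Lsl_et (LP (LK LD1_c8 LD2_c46 LD3_c35)) = (LP (LK LD1_c13 LD2_c38 LD3_c25)) :=
  Lgr Lrot87 (Lpr_ef (f544175 IH) (Lpn (LP (LK LD1_c13 LD2_c38 LD3_c25))))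
theorem f75722 : Led Lsl_dt (LP (LK LD1_c4 LD2_c24 LD3_c27)) = (LP (LK LD1_c8 LD2_c46 LD3_c35)) :=
  Lre_d IH (LK LD1_c4 LD2_c24 LD3_c27) (LK LD1_c8 LD2_c46 LD3_c35) Lrfl Lrfl
theorem f205437 : Led Lsl_af (LP (LK LD1_c1 LD2_c1 LD3_c51)) = (LP (LK LD1_c1 LD2_c55 LD3_c35)) :=
  Lgr Lrot117 (Lpr_dt (K1.f35823 IH) (Lpr_at (K11.f205429 IH) (Lpr_dt (K1.f59240 IH) (Lpn (LP (LK LD1_c1 LD2_c55 LD3_c35))))))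
theorem f59241 : Led Lsl_et (LP (LK LD1_c3 LD2_c57 LD3_c40)) = (LP (LK LD1_c1 LD2_c55 LD3_c35)) :=
  Lre_e IH (LK LD1_c3 LD2_c57 LD3_c40) (LK LD1_c1 LD2_c55 LD3_c35) Lrfl Lrfl
theorem f210819 : Led Lsl_at (LP (LK LD1_c2 LD2_c9 LD3_c27)) = (LP (LK LD1_c3 LD2_c57 LD3_c40)) :=
  Lgr Lrot80 (Lpe (K11.f80325 IH) (Lpr_af (f205437 IH) (Lpe (f59241 IH) (Lpn (LP (LK LD1_c3 LD2_c57 LD3_c40))))))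
theorem f99296 : Led Lsl_ft (LP (LK LD1_c4 LD2_c24 LD3_c7)) = (LP (LK LD1_c2 LD2_c9 LD3_c27)) :=
  Lre_f IH (LK LD1_c4 LD2_c24 LD3_c7) (LK LD1_c2 LD2_c9 LD3_c27) Lrfl Lrfl
theorem f210823 : Led Lsl_ft (LP (LK LD1_c3 LD2_c57 LD3_c40)) = (LP (LK LD1_c7 LD2_c56 LD3_c47)) :=
  Lre_f IH (LK LD1_c3 LD2_c57 LD3_c40) (LK LD1_c7 LD2_c56 LD3_c47) Lrfl Lrfl
theorem f210824 : Led Lsl_af (LP (LK LD1_c4 LD2_c24 LD3_c7)) = (LP (LK LD1_c7 LD2_c56 LD3_c47)) :=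
  Lgr Lrot45 (Lpr_ft (f99296 IH) (Lpr_at (f210819 IH) (Lpr_ft (f210823 IH) (Lpn (LP (LK LD1_c7 LD2_c56 LD3_c47))))))
theorem f38221 : Led Lsl_at (LP (LK LD1_c3 LD2_c4 LD3_c23)) = (LP (LK LD1_c6 LD2_c13 LD3_c54)) :=
  Lre_a IH (LK LD1_c3 LD2_c4 LD3_c23) (LK LD1_c6 LD2_c13 LD3_c54) Lrfl Lrfl
theorem f205482 : Led Lsl_af (LP (LK LD1_c4 LD2_c24 LD3_c27)) = (LP (LK LD1_c3 LD2_c10 LD3_c3)) :=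
  Lgr Lrot68 (Lpr_ct (K11.f75720 IH) (Lpr_at (f38221 IH) (Lpr_ct (K11.f205477 IH) (Lpn (LP (LK LD1_c3 LD2_c10 LD3_c3))))))
theorem f210837 : Led Lsl_et (LP (LK LD1_c4 LD2_c24 LD3_c27)) = (LP (LK LD1_c7 LD2_c56 LD3_c47)) :=
  Lgr Lrot123 (Lpr_af (f205482 IH) (Lpe (K11.f205463 IH) (Lpr_af (f210824 IH) (Lpn (LP (LK LD1_c7 LD2_c56 LD3_c47))))))
theorem f210843 : Led Lsl_ef (LP (LK LD1_c4 LD2_c24 LD3_c27)) = (LP (LK LD1_c7 LD2_c56 LD3_c47)) :=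
  Lgr Lrot88 (Lpr_et (f210837 IH) (Lpn (LP (LK LD1_c7 LD2_c56 LD3_c47))))
theorem f108241 : Led Lsl_bt (LP (LK LD1_c3 LD2_c35 LD3_c51)) = (LP (LK LD1_c7 LD2_c12 LD3_c6)) :=
  Lre_b IH (LK LD1_c3 LD2_c35 LD3_c51) (LK LD1_c7 LD2_c12 LD3_c6) Lrfl Lrfl
theorem f108243 : Led Lsl_et (LP (LK LD1_c7 LD2_c12 LD3_c6)) = (LP (LK LD1_c7 LD2_c5 LD3_c41)) :=
  Lgr Lrot74 (Lpe (f108241 IH) (Lpr_ef (K3.f108239 IH) (Lpe (K28.f108242 IH) (Lpn (LP (LK LD1_c7 LD2_c5 LD3_c41))))))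
theorem f544189 : Led Lsl_df (LP (LK LD1_c7 LD2_c56 LD3_c47)) = (LP (LK LD1_c7 LD2_c5 LD3_c41)) :=
  Lgr Lrot70 (Lpe (f210843 IH) (Lpr_dt (f75722 IH) (Lpr_et (f544185 IH) (Lpr_dt (K36.f108289 IH) (Lpr_et (f108243 IH) (Lpn (LP (LK LD1_c7 LD2_c5 LD3_c41))))))))
theorem f210835 : Led Lsl_ct (LP (LK LD1_c4 LD2_c42 LD3_c42)) = (LP (LK LD1_c7 LD2_c56 LD3_c47)) :=
  Lgr Lrot111 (Lpr_af (f201951 IH) (Lpe (K4.f99292 IH) (Lpr_af (f210824 IH) (Lpn (LP (LK LD1_c7 LD2_c56 LD3_c47))))))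
theorem f205500 : Led Lsl_gt (LP (LK LD1_c3 LD2_c3 LD3_c46)) = (LP (LK LD1_c6 LD2_c13 LD3_c52)) :=
  Lre_g IH (LK LD1_c3 LD2_c3 LD3_c46) (LK LD1_c6 LD2_c13 LD3_c52) Lrfl Lrfl
theorem f147178 : Led Lsl_gt (LP (LK LD1_c7 LD2_c23 LD3_c8)) = (LP (LK LD1_c13 LD2_c57 LD3_c46)) :=
  Lre_g IH (LK LD1_c7 LD2_c23 LD3_c8) (LK LD1_c13 LD2_c57 LD3_c46) Lrfl Lrfl
theorem f543426 : Led Lsl_ct (LP (LK LD1_c6 LD2_c13 LD3_c52)) = (LP (LK LD1_c4 LD2_c42 LD3_c39)) :=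
  Lgr Lrot186 (Lpe (f205500 IH) (Lpr_dt (f543410 IH) (Lpr_gt (K35.f106000 IH) (Lpe (K35.f533544 IH) (Lpr_gt (f147178 IH) (Lpr_ct (f540286 IH) (Lpr_dt (K36.f99297 IH) (Lpr_cf (K4.f99287 IH) (Lpe (K11.f201945 IH) (Lpn (LP (LK LD1_c4 LD2_c42 LD3_c39))))))))))))
theorem f75735 : Led Lsl_gt (LP (LK LD1_c6 LD2_c13 LD3_c52)) = (LP (LK LD1_c3 LD2_c4 LD3_c23)) :=
  Lre_g IH (LK LD1_c6 LD2_c13 LD3_c52) (LK LD1_c3 LD2_c4 LD3_c23) Lrfl Lrfl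
theorem f543408 : Led Lsl_df (LP (LK LD1_c11 LD2_c59 LD3_c30)) = (LP (LK LD1_c7 LD2_c19 LD3_c8)) :=
  Lgr Lrot38 (Lpr_dt (f543406 IH) (Lpn (LP (LK LD1_c7 LD2_c19 LD3_c8))))
theorem f59308 : Led Lsl_dt (LP (LK LD1_c9 LD2_c19 LD3_c39)) = (LP (LK LD1_c14 LD2_c59 LD3_c49)) :=
  Lgr Lrot42 (Lpr_df (K11.f59264 IH) (Lpn (LP (LK LD1_c14 LD2_c59 LD3_c49))))
theorem f543431 : Led Lsl_cf (LP (LK LD1_c11 LD2_c59 LD3_c30)) = (LP (LK LD1_c14 LD2_c59 LD3_c49)) :=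
  Lgr Lrot14 (Lpr_df (f543408 IH) (Lpe (f543400 IH) (Lpe (K11.f75743 IH) (Lpe (f75735 IH) (Lpr_ct (f543426 IH) (Lpr_gt (K11.f201945 IH) (Lpr_dt (K11.f38139 IH) (Lpe (K11.f201941 IH) (Lpr_dt (f59308 IH) (Lpn (LP (LK LD1_c14 LD2_c59 LD3_c49))))))))))))
theorem f543435 : Led Lsl_ct (LP (LK LD1_c6 LD2_c9 LD3_c11)) = (LP (LK LD1_c7 LD2_c57 LD3_c0)) :=
  Lgr Lrot15 (Lpe (f35557 IH) (Lpr_cf (f543431 IH) (Lpe (f59311 IH) (Lpn (LP (LK LD1_c7 LD2_c57 LD3_c0))))))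
theorem f80563 : Led Lsl_df (LP (LK LD1_c8 LD2_c50 LD3_c36)) = (LP (LK LD1_c11 LD2_c59 LD3_c35)) :=
  Lgr Lrot38 (Lpr_dt (f80560 IH) (Lpn (LP (LK LD1_c11 LD2_c59 LD3_c35))))
theorem f543439 : Led Lsl_cf (LP (LK LD1_c8 LD2_c50 LD3_c36)) = (LP (LK LD1_c6 LD2_c14 LD3_c51)) :=
  Lgr Lrot14 (Lpr_df (f80563 IH) (Lpe (f443072 IH) (Lpe (f38323 IH) (Lpr_gf (f445681 IH) (Lpr_ct (f543435 IH) (Lpr_gt (K11.f70795 IH) (Lpr_dt (K2.f70783 IH) (Lpr_gt (K11.f201939 IH) (Lpr_dt (f59376 IH) (Lpn (LP (LK LD1_c6 LD2_c14 LD3_c51))))))))))))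
theorem f543452 : Led Lsl_ct (LP (LK LD1_c4 LD2_c26 LD3_c31)) = (LP (LK LD1_c3 LD2_c4 LD3_c20)) :=
  Lgr Lrot15 (Lpe (f80466 IH) (Lpr_cf (f543439 IH) (Lpe (f543347 IH) (Lpn (LP (LK LD1_c3 LD2_c4 LD3_c20))))))
theorem f543470 : Led Lsl_cf (LP (LK LD1_c4 LD2_c26 LD3_c31)) = (LP (LK LD1_c3 LD2_c4 LD3_c20)) :=
  Lgr Lrot11 (Lpr_ct (f543452 IH) (Lpn (LP (LK LD1_c3 LD2_c4 LD3_c20))))
theorem f38042 : Led Lsl_dt (LP (LK LD1_c1 LD2_c28 LD3_c11)) = (LP (LK LD1_c3 LD2_c4 LD3_c22)) :=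
  Lre_d IH (LK LD1_c1 LD2_c28 LD3_c11) (LK LD1_c3 LD2_c4 LD3_c22) Lrfl Lrfl
theorem f38043 : Led Lsl_gt (LP (LK LD1_c3 LD2_c4 LD3_c22)) = (LP (LK LD1_c6 LD2_c14 LD3_c55)) :=
  Lre_g IH (LK LD1_c3 LD2_c4 LD3_c22) (LK LD1_c6 LD2_c14 LD3_c55) Lrfl Lrfl
theorem f80507 : Led Lsl_ct (LP (LK LD1_c6 LD2_c14 LD3_c55)) = (LP (LK LD1_c12 LD2_c8 LD3_c8)) :=
  Lre_c IH (LK LD1_c6 LD2_c14 LD3_c55) (LK LD1_c12 LD2_c8 LD3_c8) Lrfl Lrfl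
theorem f544196 : Led Lsl_gt (LP (LK LD1_c12 LD2_c8 LD3_c8)) = (LP (LK LD1_c7 LD2_c23 LD3_c11)) :=
  Lgr Lrot150 (Lpe (f80507 IH) (Lpe (f38043 IH) (Lpe (f38042 IH) (Lpr_gt (K6.f59368 IH) (Lpe (f543470 IH) (Lpe (f420716 IH) (Lpr_ct (f210835 IH) (Lpr_df (f544189 IH) (Lpr_cf (K28.f147289 IH) (Lpn (LP (LK LD1_c7 LD2_c23 LD3_c11))))))))))))
theorem f92316 : Led Lsl_bt (LP (LK LD1_c1 LD2_c46 LD3_c39)) = (LP (LK LD1_c3 LD2_c39 LD3_c23)) :=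
  Lre_b IH (LK LD1_c1 LD2_c46 LD3_c39) (LK LD1_c3 LD2_c39 LD3_c23) Lrfl Lrfl
theorem f92317 : Led Lsl_gt (LP (LK LD1_c3 LD2_c39 LD3_c23)) = (LP (LK LD1_c7 LD2_c18 LD3_c58)) :=
  Lre_g IH (LK LD1_c3 LD2_c39 LD3_c23) (LK LD1_c7 LD2_c18 LD3_c58) Lrfl Lrfl
theorem f544203 : Led Lsl_bt (LP (LK LD1_c6 LD2_c14 LD3_c55)) = (LP (LK LD1_c7 LD2_c18 LD3_c58)) :=
  Lgr Lrot92 (Lpr_ct (f80507 IH) (Lpr_gt (f544196 IH) (Lpe (K28.f147275 IH) (Lpr_bt (K28.f108242 IH) (Lpe (K24.f108485 IH) (Lpe (f461803 IH) (Lpe (K28.f464553 IH) (Lpe (K2.f92292 IH) (Lpr_bt (f92316 IH) (Lpr_gt (f92317 IH) (Lpn (LP (LK LD1_c7 LD2_c18 LD3_c58)))))))))))))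
theorem f544206 : Led Lsl_bf (LP (LK LD1_c6 LD2_c14 LD3_c55)) = (LP (LK LD1_c7 LD2_c18 LD3_c58)) :=
  Lgr Lrot24 (Lpr_bt (f544203 IH) (Lpn (LP (LK LD1_c7 LD2_c18 LD3_c58))))
theorem f94558 : Led Lsl_ct (LP (LK LD1_c13 LD2_c50 LD3_c26)) = (LP (LK LD1_c7 LD2_c18 LD3_c58)) :=
  Lre_c IH (LK LD1_c13 LD2_c50 LD3_c26) (LK LD1_c7 LD2_c18 LD3_c58) Lrfl Lrfl
theorem f533179 : Led Lsl_bf (LP (LK LD1_c14 LD2_c6 LD3_c23)) = (LP (LK LD1_c13 LD2_c56 LD3_c45)) :=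
  Lgr Lrot61 (Lpr_ft (K34.f533159 IH) (Lpe (K34.f108968 IH) (Lpr_ft (K34.f533075 IH) (Lpn (LP (LK LD1_c13 LD2_c56 LD3_c45))))))
theorem f116484 : Led Lsl_gt (LP (LK LD1_c3 LD2_c41 LD3_c14)) = (LP (LK LD1_c7 LD2_c22 LD3_c52)) :=
  Lre_g IH (LK LD1_c3 LD2_c41 LD3_c14) (LK LD1_c7 LD2_c22 LD3_c52) Lrfl Lrfl
theorem f116498 : Led Lsl_ct (LP (LK LD1_c7 LD2_c22 LD3_c52)) = (LP (LK LD1_c13 LD2_c57 LD3_c18)) :=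
  Lre_c IH (LK LD1_c7 LD2_c22 LD3_c52) (LK LD1_c13 LD2_c57 LD3_c18) Lrfl Lrfl
theorem f533077 : Led Lsl_ct (LP (LK LD1_c13 LD2_c56 LD3_c45)) = (LP (LK LD1_c23 LD2_c28 LD3_c12)) :=
  Lre_c IH (LK LD1_c13 LD2_c56 LD3_c45) (LK LD1_c23 LD2_c28 LD3_c12) Lrfl Lrfl
theorem f535184 : Led Lsl_gt (LP (LK LD1_c13 LD2_c57 LD3_c18)) = (LP (LK LD1_c23 LD2_c28 LD3_c12)) :=
  Lgr Lrot149 (Lpe (f116498 IH) (Lpe (f116484 IH) (Lpe (K28.f116280 IH) (Lpr_ct (K28.f116284 IH) (Lpe (K28.f464585 IH) (Lpe (K28.f463399 IH) (Lpr_bt (K28.f463394 IH) (Lpe (K34.f463437 IH) (Lpr_bf (f533179 IH) (Lpr_ct (f533077 IH) (Lpn (LP (LK LD1_c23 LD2_c28 LD3_c12)))))))))))))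
theorem f489376 : Led Lsl_ct (LP (LK LD1_c23 LD2_c28 LD3_c12)) = (LP (LK LD1_c13 LD2_c56 LD3_c45)) :=
  Lre_c IH (LK LD1_c23 LD2_c28 LD3_c12) (LK LD1_c13 LD2_c56 LD3_c45) Lrfl Lrfl
theorem f535188 : Led Lsl_bf (LP (LK LD1_c13 LD2_c57 LD3_c18)) = (LP (LK LD1_c13 LD2_c50 LD3_c26)) :=
  Lgr Lrot165 (Lpr_gt (f535184 IH) (Lpr_ct (f489376 IH) (Lpr_gt (K34.f466258 IH) (Lpe (K34.f489368 IH) (Lpr_bt (K28.f466200 IH) (Lpe (K28.f466223 IH) (Lpr_bf (K4.f94579 IH) (Lpe (K2.f94543 IH) (Lpr_gt (f92317 IH) (Lpe (f94558 IH) (Lpn (LP (LK LD1_c13 LD2_c50 LD3_c26)))))))))))))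
theorem f535191 : Led Lsl_bt (LP (LK LD1_c13 LD2_c57 LD3_c18)) = (LP (LK LD1_c13 LD2_c50 LD3_c26)) :=
  Lgr Lrot127 (Lpr_bf (f535188 IH) (Lpn (LP (LK LD1_c13 LD2_c50 LD3_c26))))
theorem f544216 : Led Lsl_bt (LP (LK LD1_c12 LD2_c8 LD3_c8)) = (LP (LK LD1_c7 LD2_c22 LD3_c52)) :=
  Lgr Lrot128 (Lpe (f80507 IH) (Lpr_bf (f544206 IH) (Lpe (f94558 IH) (Lpe (f535191 IH) (Lpe (f116498 IH) (Lpn (LP (LK LD1_c7 LD2_c22 LD3_c52))))))))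
theorem f80509 : Led Lsl_ct (LP (LK LD1_c12 LD2_c8 LD3_c8)) = (LP (LK LD1_c6 LD2_c14 LD3_c55)) :=
  Lre_c IH (LK LD1_c12 LD2_c8 LD3_c8) (LK LD1_c6 LD2_c14 LD3_c55) Lrfl Lrfl
theorem f75770 : Led Lsl_ct (LP (LK LD1_c6 LD2_c14 LD3_c57)) = (LP (LK LD1_c3 LD2_c4 LD3_c22)) :=
  Lre_c IH (LK LD1_c6 LD2_c14 LD3_c57) (LK LD1_c3 LD2_c4 LD3_c22) Lrfl Lrfl
theorem f75771 : Led Lsl_gt (LP (LK LD1_c12 LD2_c8 LD3_c15)) = (LP (LK LD1_c6 LD2_c14 LD3_c57)) :=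
  Lre_g IH (LK LD1_c12 LD2_c8 LD3_c15) (LK LD1_c6 LD2_c14 LD3_c57) Lrfl Lrfl
theorem f466340 : Led Lsl_gt (LP (LK LD1_c7 LD2_c22 LD3_c52)) = (LP (LK LD1_c13 LD2_c24 LD3_c48)) :=
  Lgr Lrot46 (Lpe (f116484 IH) (Lpr_ft (K28.f466318 IH) (Lpr_at (K28.f466328 IH) (Lpn (LP (LK LD1_c13 LD2_c24 LD3_c48))))))
theorem f108288 : Led Lsl_at (LP (LK LD1_c13 LD2_c38 LD3_c14)) = (LP (LK LD1_c7 LD2_c12 LD3_c6)) :=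
  Lre_a IH (LK LD1_c13 LD2_c38 LD3_c14) (LK LD1_c7 LD2_c12 LD3_c6) Lrfl Lrfl
theorem f469257 : Led Lsl_ct (LP (LK LD1_c13 LD2_c25 LD3_c31)) = (LP (LK LD1_c13 LD2_c38 LD3_c14)) :=
  Lgr Lrot111 (Lpe (K35.f469256 IH) (Lpr_cf (K28.f469251 IH) (Lpe (f108288 IH) (Lpn (LP (LK LD1_c13 LD2_c38 LD3_c14))))))
theorem f466189 : Led Lsl_gt (LP (LK LD1_c13 LD2_c38 LD3_c14)) = (LP (LK LD1_c7 LD2_c12 LD3_c4)) :=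
  Lre_g IH (LK LD1_c13 LD2_c38 LD3_c14) (LK LD1_c7 LD2_c12 LD3_c4) Lrfl Lrfl
theorem f116179 : Led Lsl_ct (LP (LK LD1_c13 LD2_c38 LD3_c19)) = (LP (LK LD1_c7 LD2_c12 LD3_c4)) :=
  Lre_c IH (LK LD1_c13 LD2_c38 LD3_c19) (LK LD1_c7 LD2_c12 LD3_c4) Lrfl Lrfl
theorem f544223 : Led Lsl_bf (LP (LK LD1_c12 LD2_c8 LD3_c15)) = (LP (LK LD1_c13 LD2_c38 LD3_c19)) :=
  Lgr Lrot165 (Lpr_gt (f75771 IH) (Lpr_ct (f75770 IH) (Lpr_gt (f38043 IH) (Lpe (f80509 IH) (Lpr_bt (f544216 IH) (Lpr_gt (f466340 IH) (Lpe (K28.f469378 IH) (Lpr_ct (f469257 IH) (Lpr_gt (f466189 IH) (Lpe (f116179 IH) (Lpn (LP (LK LD1_c13 LD2_c38 LD3_c19)))))))))))))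
theorem f116177 : Led Lsl_gt (LP (LK LD1_c7 LD2_c12 LD3_c4)) = (LP (LK LD1_c3 LD2_c35 LD3_c44)) :=
  Lre_g IH (LK LD1_c7 LD2_c12 LD3_c4) (LK LD1_c3 LD2_c35 LD3_c44) Lrfl Lrfl
theorem f459281 : Led Lsl_bt (LP (LK LD1_c3 LD2_c31 LD3_c22)) = (LP (LK LD1_c7 LD2_c4 LD3_c25)) :=
  Lre_b IH (LK LD1_c3 LD2_c31 LD3_c22) (LK LD1_c7 LD2_c4 LD3_c25) Lrfl Lrfl
theorem f544230 : Led Lsl_gf (LP (LK LD1_c12 LD2_c8 LD3_c15)) = (LP (LK LD1_c7 LD2_c4 LD3_c25)) :=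
  Lgr Lrot124 (Lpr_bf (f544223 IH) (Lpr_ct (f116179 IH) (Lpr_gt (f116177 IH) (Lpr_cf (K36.f116136 IH) (Lpr_bt (K4.f116148 IH) (Lpr_gt (K28.f463841 IH) (Lpr_ct (K28.f446541 IH) (Lpr_gt (K24.f455618 IH) (Lpe (K28.f459280 IH) (Lpr_bt (f459281 IH) (Lpn (LP (LK LD1_c7 LD2_c4 LD3_c25)))))))))))))
theorem f146922 : Led Lsl_bt (LP (LK LD1_c3 LD2_c41 LD3_c21)) = (LP (LK LD1_c1 LD2_c47 LD3_c37)) :=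
  Lre_b IH (LK LD1_c3 LD2_c41 LD3_c21) (LK LD1_c1 LD2_c47 LD3_c37) Lrfl Lrfl
theorem f147288 : Led Lsl_gt (LP (LK LD1_c7 LD2_c5 LD3_c40)) = (LP (LK LD1_c3 LD2_c32 LD3_c19)) :=
  Lre_g IH (LK LD1_c7 LD2_c5 LD3_c40) (LK LD1_c3 LD2_c32 LD3_c19) Lrfl Lrfl
theorem f544232 : Led Lsl_ct (LP (LK LD1_c12 LD2_c8 LD3_c15)) = (LP (LK LD1_c7 LD2_c5 LD3_c40)) :=
  Lgr Lrot91 (Lpr_gf (f544230 IH) (Lpe (f459281 IH) (Lpr_ct (K28.f459280 IH) (Lpe (K24.f455618 IH) (Lpe (K28.f446541 IH) (Lpr_bt (K28.f455629 IH) (Lpe (K24.f460754 IH) (Lpe (f146922 IH) (Lpe (K28.f147266 IH) (Lpe (f147288 IH) (Lpn (LP (LK LD1_c7 LD2_c5 LD3_c40)))))))))))))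
theorem f544225 : Led Lsl_bt (LP (LK LD1_c12 LD2_c8 LD3_c15)) = (LP (LK LD1_c13 LD2_c38 LD3_c19)) :=
  Lgr Lrot127 (Lpr_bf (f544223 IH) (Lpn (LP (LK LD1_c13 LD2_c38 LD3_c19))))
theorem f466179 : Led Lsl_gf (LP (LK LD1_c13 LD2_c38 LD3_c19)) = (LP (LK LD1_c7 LD2_c27 LD3_c50)) :=
  Lgr Lrot181 (Lpr_ct (f116179 IH) (Lpr_gt (f116177 IH) (Lpr_cf (K36.f116136 IH) (Lpr_bt (K4.f116148 IH) (Lpr_gt (K28.f463841 IH) (Lpe (K24.f458241 IH) (Lpr_ct (K28.f455646 IH) (Lpq (K28.f466161 IH) (Lpe (K28.f457153 IH) (Lpe (K28.f131724 IH) (Lpr_bt (f131730 IH) (Lpn (LP (LK LD1_c7 LD2_c27 LD3_c50))))))))))))))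
theorem f208954 : Led Lsl_ft (LP (LK LD1_c7 LD2_c27 LD3_c50)) = (LP (LK LD1_c3 LD2_c43 LD3_c37)) :=
  Lre_f IH (LK LD1_c7 LD2_c27 LD3_c50) (LK LD1_c3 LD2_c43 LD3_c37) Lrfl Lrfl
theorem f466181 : Led Lsl_gt (LP (LK LD1_c13 LD2_c38 LD3_c19)) = (LP (LK LD1_c7 LD2_c27 LD3_c45)) :=
  Lgr Lrot46 (Lpr_gf (f466179 IH) (Lpr_ft (f208954 IH) (Lpr_at (K28.f209125 IH) (Lpn (LP (LK LD1_c7 LD2_c27 LD3_c45))))))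
theorem f209132 : Led Lsl_ft (LP (LK LD1_c14 LD2_c5 LD3_c12)) = (LP (LK LD1_c7 LD2_c27 LD3_c45)) :=
  Lre_f IH (LK LD1_c14 LD2_c5 LD3_c12) (LK LD1_c7 LD2_c27 LD3_c45) Lrfl Lrfl
theorem f543566 : Led Lsl_cf (LP (LK LD1_c6 LD2_c15 LD3_c7)) = (LP (LK LD1_c7 LD2_c27 LD3_c45)) :=
  Lgr Lrot108 (Lpr_ft (f210888 IH) (Lpr_ct (f543560 IH) (Lpr_ft (f209132 IH) (Lpn (LP (LK LD1_c7 LD2_c27 LD3_c45))))))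
theorem f533921 : Led Lsl_bf (LP (LK LD1_c7 LD2_c28 LD3_c39)) = (LP (LK LD1_c13 LD2_c25 LD3_c30)) :=
  Lgr Lrot24 (Lpr_bt (f533919 IH) (Lpn (LP (LK LD1_c13 LD2_c25 LD3_c30))))
theorem f544240 : Led Lsl_gt (LP (LK LD1_c8 LD2_c46 LD3_c0)) = (LP (LK LD1_c7 LD2_c5 LD3_c40)) :=
  Lgr Lrot65 (Lpe (f540286 IH) (Lpr_bt (K34.f146940 IH) (Lpe (K28.f123766 IH) (Lpr_bf (f533921 IH) (Lpe (f543591 IH) (Lpe (f210893 IH) (Lpr_cf (f543566 IH) (Lpe (f466181 IH) (Lpe (f544225 IH) (Lpr_ct (f544232 IH) (Lpn (LP (LK LD1_c7 LD2_c5 LD3_c40)))))))))))))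
theorem f210826 : Led Lsl_gt (LP (LK LD1_c7 LD2_c56 LD3_c46)) = (LP (LK LD1_c3 LD2_c57 LD3_c40)) :=
  Lre_g IH (LK LD1_c7 LD2_c56 LD3_c46) (LK LD1_c3 LD2_c57 LD3_c40) Lrfl Lrfl
theorem f210827 : Led Lsl_gt (LP (LK LD1_c4 LD2_c24 LD3_c7)) = (LP (LK LD1_c7 LD2_c56 LD3_c46)) :=
  Lgr Lrot5 (Lpr_ft (f99296 IH) (Lpr_at (f210819 IH) (Lpe (f210826 IH) (Lpn (LP (LK LD1_c7 LD2_c56 LD3_c46))))))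
theorem f544237 : Led Lsl_cf (LP (LK LD1_c12 LD2_c8 LD3_c15)) = (LP (LK LD1_c7 LD2_c5 LD3_c40)) :=
  Lgr Lrot11 (Lpr_ct (f544232 IH) (Lpn (LP (LK LD1_c7 LD2_c5 LD3_c40))))
theorem f75654 : Led Lsl_ct (LP (LK LD1_c8 LD2_c46 LD3_c20)) = (LP (LK LD1_c4 LD2_c24 LD3_c22)) :=
  Lre_c IH (LK LD1_c8 LD2_c46 LD3_c20) (LK LD1_c4 LD2_c24 LD3_c22) Lrfl Lrfl
theorem f75655 : Led Lsl_bt (LP (LK LD1_c4 LD2_c24 LD3_c22)) = (LP (LK LD1_c2 LD2_c9 LD3_c39)) :=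
  Lre_b IH (LK LD1_c4 LD2_c24 LD3_c22) (LK LD1_c2 LD2_c9 LD3_c39) Lrfl Lrfl
theorem f75656 : Led Lsl_ct (LP (LK LD1_c3 LD2_c4 LD3_c15)) = (LP (LK LD1_c6 LD2_c14 LD3_c41)) :=
  Lre_c IH (LK LD1_c3 LD2_c4 LD3_c15) (LK LD1_c6 LD2_c14 LD3_c41) Lrfl Lrfl
theorem f75657 : Led Lsl_bt (LP (LK LD1_c1 LD2_c28 LD3_c11)) = (LP (LK LD1_c3 LD2_c4 LD3_c15)) :=
  Lre_b IH (LK LD1_c1 LD2_c28 LD3_c11) (LK LD1_c3 LD2_c4 LD3_c15) Lrfl Lrfl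
theorem f75658 : Led Lsl_ct (LP (LK LD1_c2 LD2_c9 LD3_c39)) = (LP (LK LD1_c1 LD2_c28 LD3_c11)) :=
  Lgr Lrot83 (Lpe (f75655 IH) (Lpe (f75654 IH) (Lpr_bf (K11.f75643 IH) (Lpe (f75656 IH) (Lpe (f75657 IH) (Lpn (LP (LK LD1_c1 LD2_c28 LD3_c11))))))))
theorem f75768 : Led Lsl_gt (LP (LK LD1_c4 LD2_c24 LD3_c25)) = (LP (LK LD1_c2 LD2_c9 LD3_c39)) :=
  Lre_g IH (LK LD1_c4 LD2_c24 LD3_c25) (LK LD1_c2 LD2_c9 LD3_c39) Lrfl Lrfl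
theorem f544244 : Led Lsl_ct (LP (LK LD1_c7 LD2_c56 LD3_c46)) = (LP (LK LD1_c4 LD2_c24 LD3_c25)) :=
  Lgr Lrot152 (Lpe (f210827 IH) (Lpe (K36.f99297 IH) (Lpr_gt (f544240 IH) (Lpe (f544237 IH) (Lpr_gt (f75771 IH) (Lpr_ct (f75770 IH) (Lpe (f38042 IH) (Lpe (f75658 IH) (Lpe (f75768 IH) (Lpn (LP (LK LD1_c4 LD2_c24 LD3_c25))))))))))))
theorem f99299 : Led Lsl_bt (LP (LK LD1_c8 LD2_c45 LD3_c52)) = (LP (LK LD1_c4 LD2_c24 LD3_c7)) :=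
  Lre_b IH (LK LD1_c8 LD2_c45 LD3_c52) (LK LD1_c4 LD2_c24 LD3_c7) Lrfl Lrfl
theorem f70433 : Led Lsl_et (LP (LK LD1_c2 LD2_c9 LD3_c39)) = (LP (LK LD1_c1 LD2_c1 LD3_c56)) :=
  Lre_e IH (LK LD1_c2 LD2_c9 LD3_c39) (LK LD1_c1 LD2_c1 LD3_c56) Lrfl Lrfl
theorem f70434 : Led Lsl_ct (LP (LK LD1_c1 LD2_c28 LD3_c11)) = (LP (LK LD1_c2 LD2_c9 LD3_c39)) :=
  Lgr Lrot15 (Lpe (K6.f59367 IH) (Lpr_cf (K2.f70229 IH) (Lpe (f70433 IH) (Lpn (LP (LK LD1_c2 LD2_c9 LD3_c39))))))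
theorem f75673 : Led Lsl_gt (LP (LK LD1_c3 LD2_c4 LD3_c15)) = (LP (LK LD1_c6 LD2_c14 LD3_c42)) :=
  Lre_g IH (LK LD1_c3 LD2_c4 LD3_c15) (LK LD1_c6 LD2_c14 LD3_c42) Lrfl Lrfl
theorem f443100 : Led Lsl_bt (LP (LK LD1_c12 LD2_c7 LD3_c38)) = (LP (LK LD1_c6 LD2_c14 LD3_c42)) :=
  Lre_b IH (LK LD1_c12 LD2_c7 LD3_c38) (LK LD1_c6 LD2_c14 LD3_c42) Lrfl Lrfl
theorem f443101 : Led Lsl_ct (LP (LK LD1_c12 LD2_c7 LD3_c38)) = (LP (LK LD1_c21 LD2_c13 LD3_c53)) :=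
  Lre_c IH (LK LD1_c12 LD2_c7 LD3_c38) (LK LD1_c21 LD2_c13 LD3_c53) Lrfl Lrfl
theorem f544286 : Led Lsl_gf (LP (LK LD1_c16 LD2_c24 LD3_c1)) = (LP (LK LD1_c21 LD2_c13 LD3_c53)) :=
  Lgr Lrot126 (Lpe (K4.f99284 IH) (Lpr_bt (f99299 IH) (Lpr_gt (f210827 IH) (Lpr_ct (f544244 IH) (Lpr_gt (f75768 IH) (Lpe (f70434 IH) (Lpr_bt (f75657 IH) (Lpr_gt (f75673 IH) (Lpe (f443100 IH) (Lpr_ct (f443101 IH) (Lpn (LP (LK LD1_c21 LD2_c13 LD3_c53)))))))))))))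
theorem f38041 : Led Lsl_et (LP (LK LD1_c1 LD2_c28 LD3_c11)) = (LP (LK LD1_c0 LD2_c40 LD3_c46)) :=
  Lre_e IH (LK LD1_c1 LD2_c28 LD3_c11) (LK LD1_c0 LD2_c40 LD3_c46) Lrfl Lrfl
theorem f202002 : Led Lsl_et (LP (LK LD1_c4 LD2_c42 LD3_c42)) = (LP (LK LD1_c3 LD2_c4 LD3_c23)) :=
  Lgr Lrot69 (Lpe (K11.f201947 IH) (Lpe (K11.f56607 IH) (Lpr_ff (K11.f201994 IH) (Lpe (f38041 IH) (Lpe (K11.f75747 IH) (Lpn (LP (LK LD1_c3 LD2_c4 LD3_c23))))))))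
theorem f210841 : Led Lsl_cf (LP (LK LD1_c4 LD2_c42 LD3_c42)) = (LP (LK LD1_c7 LD2_c56 LD3_c47)) :=
  Lgr Lrot39 (Lpr_et (f202002 IH) (Lpe (K11.f75682 IH) (Lpr_et (f210837 IH) (Lpn (LP (LK LD1_c7 LD2_c56 LD3_c47))))))
theorem f75741 : Led Lsl_bt (LP (LK LD1_c8 LD2_c46 LD3_c24)) = (LP (LK LD1_c4 LD2_c24 LD3_c27)) :=
  Lre_b IH (LK LD1_c8 LD2_c46 LD3_c24) (LK LD1_c4 LD2_c24 LD3_c27) Lrfl Lrfl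
theorem f540627 : Led Lsl_bt (LP (LK LD1_c7 LD2_c56 LD3_c47)) = (LP (LK LD1_c7 LD2_c5 LD3_c51)) :=
  Lgr Lrot119 (Lpe (f210837 IH) (Lpe (f75741 IH) (Lpr_ef (K36.f540623 IH) (Lpn (LP (LK LD1_c7 LD2_c5 LD3_c51))))))
theorem f108473 : Led Lsl_bt (LP (LK LD1_c13 LD2_c39 LD3_c4)) = (LP (LK LD1_c7 LD2_c12 LD3_c43)) :=
  Lre_b IH (LK LD1_c13 LD2_c39 LD3_c4) (LK LD1_c7 LD2_c12 LD3_c43) Lrfl Lrfl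
theorem f75790 : Led Lsl_bt (LP (LK LD1_c3 LD2_c4 LD3_c15)) = (LP (LK LD1_c1 LD2_c28 LD3_c11)) :=
  Lre_b IH (LK LD1_c3 LD2_c4 LD3_c15) (LK LD1_c1 LD2_c28 LD3_c11) Lrfl Lrfl
theorem f75798 : Led Lsl_gt (LP (LK LD1_c12 LD2_c7 LD3_c35)) = (LP (LK LD1_c6 LD2_c14 LD3_c41)) :=
  Lre_g IH (LK LD1_c12 LD2_c7 LD3_c35) (LK LD1_c6 LD2_c14 LD3_c41) Lrfl Lrfl
theorem f543485 : Led Lsl_ct (LP (LK LD1_c13 LD2_c39 LD3_c4)) = (LP (LK LD1_c12 LD2_c7 LD3_c35)) :=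
  Lgr Lrot64 (Lpr_bt (f108473 IH) (Lpr_gf (K8.f108469 IH) (Lpe (f540627 IH) (Lpe (f210841 IH) (Lpr_gf (f420716 IH) (Lpr_cf (f543470 IH) (Lpe (K6.f59368 IH) (Lpe (f75790 IH) (Lpr_ct (f75656 IH) (Lpe (f75798 IH) (Lpn (LP (LK LD1_c12 LD2_c7 LD3_c35)))))))))))))
theorem f108407 : Led Lsl_bt (LP (LK LD1_c7 LD2_c12 LD3_c33)) = (LP (LK LD1_c3 LD2_c36 LD3_c10)) :=
  Lre_b IH (LK LD1_c7 LD2_c12 LD3_c33) (LK LD1_c3 LD2_c36 LD3_c10) Lrfl Lrfl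
theorem f17941 : Led Lsl_ct (LP (LK LD1_c7 LD2_c12 LD3_c33)) = (LP (LK LD1_c13 LD2_c38 LD3_c54)) :=
  Lre_c IH (LK LD1_c7 LD2_c12 LD3_c33) (LK LD1_c13 LD2_c38 LD3_c54) Lrfl Lrfl
theorem f420545 : Led Lsl_gt (LP (LK LD1_c21 LD2_c13 LD3_c41)) = (LP (LK LD1_c12 LD2_c7 LD3_c35)) :=
  Lre_g IH (LK LD1_c21 LD2_c13 LD3_c41) (LK LD1_c12 LD2_c7 LD3_c35) Lrfl Lrfl
theorem f420549 : Led Lsl_ct (LP (LK LD1_c12 LD2_c7 LD3_c31)) = (LP (LK LD1_c21 LD2_c13 LD3_c41)) :=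
  Lre_c IH (LK LD1_c12 LD2_c7 LD3_c31) (LK LD1_c21 LD2_c13 LD3_c41) Lrfl Lrfl
theorem f112736 : Led Lsl_gt (LP (LK LD1_c6 LD2_c14 LD3_c42)) = (LP (LK LD1_c12 LD2_c7 LD3_c31)) :=
  Lre_g IH (LK LD1_c6 LD2_c14 LD3_c42) (LK LD1_c12 LD2_c7 LD3_c31) Lrfl Lrfl
theorem f543511 : Led Lsl_gt (LP (LK LD1_c13 LD2_c38 LD3_c54)) = (LP (LK LD1_c21 LD2_c13 LD3_c53)) :=
  Lgr Lrot65 (Lpe (f17941 IH) (Lpr_bt (f108407 IH) (Lpe (K8.f108468 IH) (Lpe (f108473 IH) (Lpr_ct (f543485 IH) (Lpe (f420545 IH) (Lpe (f420549 IH) (Lpe (f112736 IH) (Lpe (f443100 IH) (Lpr_ct (f443101 IH) (Lpn (LP (LK LD1_c21 LD2_c13 LD3_c53)))))))))))))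
theorem f492948 : Led Lsl_ft (LP (LK LD1_c13 LD2_c38 LD3_c54)) = (LP (LK LD1_c23 LD2_c3 LD3_c58)) :=
  Lre_f IH (LK LD1_c13 LD2_c38 LD3_c54) (LK LD1_c23 LD2_c3 LD3_c58) Lrfl Lrfl
theorem f544289 : Led Lsl_af (LP (LK LD1_c16 LD2_c24 LD3_c1)) = (LP (LK LD1_c23 LD2_c3 LD3_c58)) :=
  Lgr Lrot31 (Lpr_gf (f544286 IH) (Lpe (f543511 IH) (Lpr_ft (f492948 IH) (Lpn (LP (LK LD1_c23 LD2_c3 LD3_c58))))))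
theorem f17942 : Led Lsl_dt (LP (LK LD1_c13 LD2_c38 LD3_c54)) = (LP (LK LD1_c23 LD2_c3 LD3_c57)) :=
  Lre_d IH (LK LD1_c13 LD2_c38 LD3_c54) (LK LD1_c23 LD2_c3 LD3_c57) Lrfl Lrfl
theorem f17943 : Led Lsl_ct (LP (LK LD1_c23 LD2_c3 LD3_c57)) = (LP (LK LD1_c30 LD2_c52 LD3_c53)) :=
  Lre_c IH (LK LD1_c23 LD2_c3 LD3_c57) (LK LD1_c30 LD2_c52 LD3_c53) Lrfl Lrfl
theorem f464416 : Led Lsl_bt (LP (LK LD1_c13 LD2_c13 LD3_c28)) = (LP (LK LD1_c6 LD2_c57 LD3_c55)) :=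
  Lre_b IH (LK LD1_c13 LD2_c13 LD3_c28) (LK LD1_c6 LD2_c57 LD3_c55) Lrfl Lrfl
theorem f492384 : Led Lsl_ft (LP (LK LD1_c6 LD2_c57 LD3_c55)) = (LP (LK LD1_c13 LD2_c5 LD3_c19)) :=
  Lgr Lrot54 (Lpe (K28.f98756 IH) (Lpr_ff (K33.f492378 IH) (Lpr_df (K29.f463251 IH) (Lpn (LP (LK LD1_c13 LD2_c5 LD3_c19))))))
theorem f492866 : Led Lsl_bt (LP (LK LD1_c13 LD2_c5 LD3_c19)) = (LP (LK LD1_c14 LD2_c12 LD3_c60)) :=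
  Lgr Lrot35 (Lpe (f492384 IH) (Lpe (f464416 IH) (Lpr_ff (K34.f492864 IH) (Lpn (LP (LK LD1_c14 LD2_c12 LD3_c60))))))
theorem f90902 : Led Lsl_ct (LP (LK LD1_c6 LD2_c51 LD3_c36)) = (LP (LK LD1_c13 LD2_c2 LD3_c56)) :=
  Lre_c IH (LK LD1_c6 LD2_c51 LD3_c36) (LK LD1_c13 LD2_c2 LD3_c56) Lrfl Lrfl
theorem f90907 : Led Lsl_bt (LP (LK LD1_c13 LD2_c11 LD3_c26)) = (LP (LK LD1_c6 LD2_c56 LD3_c55)) :=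
  Lre_b IH (LK LD1_c13 LD2_c11 LD3_c26) (LK LD1_c6 LD2_c56 LD3_c55) Lrfl Lrfl
theorem f90910 : Led Lsl_ct (LP (LK LD1_c13 LD2_c11 LD3_c26)) = (LP (LK LD1_c22 LD2_c24 LD3_c10)) :=
  Lre_c IH (LK LD1_c13 LD2_c11 LD3_c26) (LK LD1_c22 LD2_c24 LD3_c10) Lrfl Lrfl
theorem f90911 : Led Lsl_gt (LP (LK LD1_c30 LD2_c28 LD3_c30)) = (LP (LK LD1_c22 LD2_c24 LD3_c10)) :=
  Lre_g IH (LK LD1_c30 LD2_c28 LD3_c30) (LK LD1_c22 LD2_c24 LD3_c10) Lrfl Lrfl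
theorem f111717 : Led Lsl_bt (LP (LK LD1_c14 LD2_c13 LD3_c1)) = (LP (LK LD1_c7 LD2_c32 LD3_c25)) :=
  Lre_b IH (LK LD1_c14 LD2_c13 LD3_c1) (LK LD1_c7 LD2_c32 LD3_c25) Lrfl Lrfl
theorem f111718 : Led Lsl_at (LP (LK LD1_c23 LD2_c47 LD3_c61)) = (LP (LK LD1_c14 LD2_c13 LD3_c1)) :=
  Lre_a IH (LK LD1_c23 LD2_c47 LD3_c61) (LK LD1_c14 LD2_c13 LD3_c1) Lrfl Lrfl
theorem f111719 : Led Lsl_bt (LP (LK LD1_c13 LD2_c17 LD3_c29)) = (LP (LK LD1_c22 LD2_c33 LD3_c19)) :=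
  Lre_b IH (LK LD1_c13 LD2_c17 LD3_c29) (LK LD1_c22 LD2_c33 LD3_c19) Lrfl Lrfl
theorem f17948 : Led Lsl_at (LP (LK LD1_c22 LD2_c33 LD3_c19)) = (LP (LK LD1_c30 LD2_c34 LD3_c20)) :=
  Lre_a IH (LK LD1_c22 LD2_c33 LD3_c19) (LK LD1_c30 LD2_c34 LD3_c20) Lrfl Lrfl
theorem f111720 : Led Lsl_bf (LP (LK LD1_c23 LD2_c47 LD3_c61)) = (LP (LK LD1_c30 LD2_c34 LD3_c20)) :=
  Lgr Lrot81 (Lpr_at (f111718 IH) (Lpr_bt (f111717 IH) (Lpr_at (K4.f111704 IH) (Lpr_bt (f111719 IH) (Lpr_at (f17948 IH) (Lpn (LP (LK LD1_c30 LD2_c34 LD3_c20))))))))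
theorem f492929 : Led Lsl_cf (LP (LK LD1_c30 LD2_c28 LD3_c30)) = (LP (LK LD1_c30 LD2_c34 LD3_c20)) :=
  Lgr Lrot160 (Lpr_gt (f90911 IH) (Lpe (f90910 IH) (Lpr_bt (f90907 IH) (Lpe (K2.f90895 IH) (Lpr_ct (f90902 IH) (Lpr_gt (K29.f90903 IH) (Lpr_cf (K29.f473320 IH) (Lpr_bt (f492866 IH) (Lpr_gt (K34.f103810 IH) (Lpr_bf (f111720 IH) (Lpn (LP (LK LD1_c30 LD2_c34 LD3_c20)))))))))))))
theorem f17888 : Led Lsl_dt (LP (LK LD1_c22 LD2_c33 LD3_c11)) = (LP (LK LD1_c30 LD2_c34 LD3_c20)) :=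
  Lre_d IH (LK LD1_c22 LD2_c33 LD3_c11) (LK LD1_c30 LD2_c34 LD3_c20) Lrfl Lrfl
theorem f17875 : Led Lsl_dt (LP (LK LD1_c7 LD2_c12 LD3_c33)) = (LP (LK LD1_c3 LD2_c36 LD3_c6)) :=
  Lre_d IH (LK LD1_c7 LD2_c12 LD3_c33) (LK LD1_c3 LD2_c36 LD3_c6) Lrfl Lrfl
theorem f17876 : Led Lsl_ct (LP (LK LD1_c13 LD2_c38 LD3_c54)) = (LP (LK LD1_c7 LD2_c12 LD3_c33)) :=
  Lre_c IH (LK LD1_c13 LD2_c38 LD3_c54) (LK LD1_c7 LD2_c12 LD3_c33) Lrfl Lrfl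
theorem f17877 : Led Lsl_dt (LP (LK LD1_c23 LD2_c3 LD3_c57)) = (LP (LK LD1_c13 LD2_c38 LD3_c54)) :=
  Lre_d IH (LK LD1_c23 LD2_c3 LD3_c57) (LK LD1_c13 LD2_c38 LD3_c54) Lrfl Lrfl
theorem f17878 : Led Lsl_ct (LP (LK LD1_c30 LD2_c52 LD3_c53)) = (LP (LK LD1_c23 LD2_c3 LD3_c57)) :=
  Lre_c IH (LK LD1_c30 LD2_c52 LD3_c53) (LK LD1_c23 LD2_c3 LD3_c57) Lrfl Lrfl
theorem f492937 : Led Lsl_dt (LP (LK LD1_c30 LD2_c28 LD3_c30)) = (LP (LK LD1_c30 LD2_c52 LD3_c53)) :=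
  Lgr Lrot32 (Lpr_cf (f492929 IH) (Lpe (f17888 IH) (Lpr_ft (K4.f17887 IH) (Lpr_at (K28.f17886 IH) (Lpe (K4.f17859 IH) (Lpe (f17875 IH) (Lpe (f17876 IH) (Lpe (f17877 IH) (Lpe (f17878 IH) (Lpn (LP (LK LD1_c30 LD2_c52 LD3_c53))))))))))))
theorem f492945 : Led Lsl_df (LP (LK LD1_c30 LD2_c28 LD3_c30)) = (LP (LK LD1_c30 LD2_c52 LD3_c53)) :=
  Lgr Lrot38 (Lpr_dt (f492937 IH) (Lpn (LP (LK LD1_c30 LD2_c52 LD3_c53))))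
theorem f492933 : Led Lsl_ct (LP (LK LD1_c30 LD2_c28 LD3_c30)) = (LP (LK LD1_c30 LD2_c34 LD3_c20)) :=
  Lgr Lrot59 (Lpr_cf (f492929 IH) (Lpn (LP (LK LD1_c30 LD2_c34 LD3_c20))))
theorem f441252 : Led Lsl_dt (LP (LK LD1_c30 LD2_c34 LD3_c20)) = (LP (LK LD1_c22 LD2_c33 LD3_c11)) :=
  Lre_d IH (LK LD1_c30 LD2_c34 LD3_c20) (LK LD1_c22 LD2_c33 LD3_c11) Lrfl Lrfl
theorem f544301 : Led Lsl_df (LP (LK LD1_c8 LD2_c45 LD3_c52)) = (LP (LK LD1_c13 LD2_c38 LD3_c35)) :=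
  Lgr Lrot177 (Lpr_ct (K4.f99284 IH) (Lpr_af (f544289 IH) (Lpe (f492948 IH) (Lpr_dt (f17942 IH) (Lpr_ct (f17943 IH) (Lpe (f492945 IH) (Lpr_ct (f492933 IH) (Lpr_dt (f441252 IH) (Lpe (K34.f513197 IH) (Lpn (LP (LK LD1_c13 LD2_c38 LD3_c35))))))))))))
theorem f544305 : Led Lsl_dt (LP (LK LD1_c8 LD2_c45 LD3_c52)) = (LP (LK LD1_c13 LD2_c38 LD3_c35)) :=
  Lgr Lrot42 (Lpr_df (f544301 IH) (Lpn (LP (LK LD1_c13 LD2_c38 LD3_c35))))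
theorem f99291 : Led Lsl_ct (LP (LK LD1_c16 LD2_c24 LD3_c1)) = (LP (LK LD1_c8 LD2_c45 LD3_c52)) :=
  Lre_c IH (LK LD1_c16 LD2_c24 LD3_c1) (LK LD1_c8 LD2_c45 LD3_c52) Lrfl Lrfl
theorem f99289 : Led Lsl_dt (LP (LK LD1_c26 LD2_c21 LD3_c56)) = (LP (LK LD1_c16 LD2_c24 LD3_c1)) :=
  Lre_d IH (LK LD1_c26 LD2_c21 LD3_c56) (LK LD1_c16 LD2_c24 LD3_c1) Lrfl Lrfl
theorem f101862 : Led Lsl_ft (LP (LK LD1_c26 LD2_c21 LD3_c56)) = (LP (LK LD1_c16 LD2_c24 LD3_c0)) :=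
  Lre_f IH (LK LD1_c26 LD2_c21 LD3_c56) (LK LD1_c16 LD2_c24 LD3_c0) Lrfl Lrfl
theorem f544315 : Led Lsl_at (LP (LK LD1_c16 LD2_c24 LD3_c0)) = (LP (LK LD1_c23 LD2_c3 LD3_c57)) :=
  Lgr Lrot33 (Lpe (f101862 IH) (Lpr_dt (f99289 IH) (Lpr_ct (f99291 IH) (Lpr_dt (f544305 IH) (Lpr_ct (f513205 IH) (Lpr_dt (f17888 IH) (Lpe (f492929 IH) (Lpr_dt (f492937 IH) (Lpr_ct (f17878 IH) (Lpn (LP (LK LD1_c23 LD2_c3 LD3_c57))))))))))))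
theorem f101861 : Led Lsl_et (LP (LK LD1_c26 LD2_c21 LD3_c51)) = (LP (LK LD1_c16 LD2_c24 LD3_c0)) :=
  Lre_e IH (LK LD1_c26 LD2_c21 LD3_c51) (LK LD1_c16 LD2_c24 LD3_c0) Lrfl Lrfl
theorem f161938 : Led Lsl_dt (LP (LK LD1_c11 LD2_c49 LD3_c1)) = (LP (LK LD1_c16 LD2_c23 LD3_c51)) :=
  Lgr Lrot79 (Lpe (K6.f64548 IH) (Lpr_df (K8.f161935 IH) (Lpe (K11.f99251 IH) (Lpn (LP (LK LD1_c16 LD2_c23 LD3_c51))))))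
theorem f419129 : Led Lsl_ft (LP (LK LD1_c17 LD2_c7 LD3_c21)) = (LP (LK LD1_c11 LD2_c49 LD3_c1)) :=
  Lgr Lrot54 (Lpr_df (K11.f204139 IH) (Lpe (K11.f202880 IH) (Lpe (f161938 IH) (Lpn (LP (LK LD1_c11 LD2_c49 LD3_c1))))))
theorem f419131 : Led Lsl_af (LP (LK LD1_c17 LD2_c22 LD3_c58)) = (LP (LK LD1_c11 LD2_c49 LD3_c1)) :=
  Lgr Lrot45 (Lpe (K11.f202934 IH) (Lpe (K11.f202760 IH) (Lpr_ft (f419129 IH) (Lpn (LP (LK LD1_c11 LD2_c49 LD3_c1))))))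
theorem f202932 : Led Lsl_af (LP (LK LD1_c8 LD2_c50 LD3_c29)) = (LP (LK LD1_c9 LD2_c25 LD3_c33)) :=
  Lgr Lrot45 (Lpe (K11.f202750 IH) (Lpr_at (K11.f202756 IH) (Lpr_ft (K11.f202930 IH) (Lpn (LP (LK LD1_c9 LD2_c25 LD3_c33))))))
theorem f419138 : Led Lsl_at (LP (LK LD1_c8 LD2_c45 LD3_c48)) = (LP (LK LD1_c6 LD2_c2 LD3_c21)) :=
  Lgr Lrot67 (Lpr_bf (K4.f99243 IH) (Lpr_af (f202932 IH) (Lpe (K11.f78422 IH) (Lpr_af (f419131 IH) (Lpe (K6.f64548 IH) (Lpn (LP (LK LD1_c6 LD2_c2 LD3_c21))))))))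
theorem f80042 : Led Lsl_et (LP (LK LD1_c16 LD2_c23 LD3_c60)) = (LP (LK LD1_c8 LD2_c45 LD3_c48)) :=
  Lre_e IH (LK LD1_c16 LD2_c23 LD3_c60) (LK LD1_c8 LD2_c45 LD3_c48) Lrfl Lrfl
theorem f161942 : Led Lsl_et (LP (LK LD1_c6 LD2_c2 LD3_c21)) = (LP (LK LD1_c11 LD2_c49 LD3_c2)) :=
  Lre_e IH (LK LD1_c6 LD2_c2 LD3_c21) (LK LD1_c11 LD2_c49 LD3_c2) Lrfl Lrfl
theorem f419148 : Led Lsl_af (LP (LK LD1_c16 LD2_c23 LD3_c60)) = (LP (LK LD1_c11 LD2_c49 LD3_c2)) :=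
  Lgr Lrot50 (Lpr_et (f80042 IH) (Lpr_at (f419138 IH) (Lpr_et (f161942 IH) (Lpn (LP (LK LD1_c11 LD2_c49 LD3_c2))))))
theorem f80043 : Led Lsl_dt (LP (LK LD1_c16 LD2_c23 LD3_c60)) = (LP (LK LD1_c26 LD2_c21 LD3_c51)) :=
  Lre_d IH (LK LD1_c16 LD2_c23 LD3_c60) (LK LD1_c26 LD2_c21 LD3_c51) Lrfl Lrfl
theorem f419156 : Led Lsl_dt (LP (LK LD1_c20 LD2_c51 LD3_c34)) = (LP (LK LD1_c11 LD2_c49 LD3_c2)) :=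
  Lre_d IH (LK LD1_c20 LD2_c51 LD3_c34) (LK LD1_c11 LD2_c49 LD3_c2) Lrfl Lrfl
theorem f419157 : Led Lsl_at (LP (LK LD1_c26 LD2_c21 LD3_c51)) = (LP (LK LD1_c20 LD2_c51 LD3_c34)) :=
  Lgr Lrot51 (Lpe (f80043 IH) (Lpr_af (f419148 IH) (Lpe (f419156 IH) (Lpn (LP (LK LD1_c20 LD2_c51 LD3_c34))))))
theorem f419159 : Led Lsl_af (LP (LK LD1_c26 LD2_c21 LD3_c51)) = (LP (LK LD1_c20 LD2_c51 LD3_c34)) :=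
  Lgr Lrot0 (Lpr_at (f419157 IH) (Lpn (LP (LK LD1_c20 LD2_c51 LD3_c34))))
theorem f544323 : Led Lsl_ef (LP (LK LD1_c20 LD2_c51 LD3_c34)) = (LP (LK LD1_c23 LD2_c3 LD3_c57)) :=
  Lgr Lrot20 (Lpe (f419159 IH) (Lpr_et (f101861 IH) (Lpr_at (f544315 IH) (Lpn (LP (LK LD1_c23 LD2_c3 LD3_c57))))))
theorem f544329 : Led Lsl_et (LP (LK LD1_c20 LD2_c51 LD3_c34)) = (LP (LK LD1_c23 LD2_c3 LD3_c57)) :=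
  Lgr Lrot87 (Lpr_ef (f544323 IH) (Lpn (LP (LK LD1_c23 LD2_c3 LD3_c57))))
theorem f64567 : Led Lsl_dt (LP (LK LD1_c11 LD2_c49 LD3_c2)) = (LP (LK LD1_c20 LD2_c51 LD3_c34)) :=
  Lre_d IH (LK LD1_c11 LD2_c49 LD3_c2) (LK LD1_c20 LD2_c51 LD3_c34) Lrfl Lrfl
theorem f544331 : Led Lsl_ef (LP (LK LD1_c8 LD2_c45 LD3_c40)) = (LP (LK LD1_c13 LD2_c38 LD3_c54)) :=
  Lgr Lrot73 (Lpe (K8.f161935 IH) (Lpr_et (f161942 IH) (Lpr_dt (f64567 IH) (Lpr_et (f544329 IH) (Lpr_dt (f17877 IH) (Lpn (LP (LK LD1_c13 LD2_c38 LD3_c54))))))))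
theorem f543518 : Led Lsl_bt (LP (LK LD1_c23 LD2_c3 LD3_c56)) = (LP (LK LD1_c13 LD2_c38 LD3_c54)) :=
  Lre_b IH (LK LD1_c23 LD2_c3 LD3_c56) (LK LD1_c13 LD2_c38 LD3_c54) Lrfl Lrfl
theorem f544333 : Led Lsl_et (LP (LK LD1_c16 LD2_c23 LD3_c51)) = (LP (LK LD1_c23 LD2_c3 LD3_c56)) :=
  Lgr Lrot74 (Lpe (K11.f101886 IH) (Lpr_ef (f544331 IH) (Lpe (f543518 IH) (Lpn (LP (LK LD1_c23 LD2_c3 LD3_c56))))))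
theorem f544346 : Led Lsl_ef (LP (LK LD1_c16 LD2_c23 LD3_c51)) = (LP (LK LD1_c23 LD2_c3 LD3_c56)) :=
  Lgr Lrot88 (Lpr_et (f544333 IH) (Lpn (LP (LK LD1_c23 LD2_c3 LD3_c56))))
theorem f419460 : Led Lsl_ff (LP (LK LD1_c7 LD2_c33 LD3_c59)) = (LP (LK LD1_c7 LD2_c39 LD3_c35)) :=
  Lgr Lrot23 (Lpr_ct (K28.f419383 IH) (Lpr_ft (K28.f419453 IH) (Lpr_ct (K8.f87192 IH) (Lpn (LP (LK LD1_c7 LD2_c39 LD3_c35))))))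
theorem f419469 : Led Lsl_ft (LP (LK LD1_c7 LD2_c33 LD3_c59)) = (LP (LK LD1_c7 LD2_c39 LD3_c35)) :=
  Lgr Lrot48 (Lpr_ff (f419460 IH) (Lpn (LP (LK LD1_c7 LD2_c39 LD3_c35))))
theorem f419384 : Led Lsl_bf (LP (LK LD1_c7 LD2_c33 LD3_c59)) = (LP (LK LD1_c12 LD2_c11 LD3_c9)) :=
  Lgr Lrot24 (Lpr_bt (K28.f419381 IH) (Lpn (LP (LK LD1_c12 LD2_c11 LD3_c9))))
theorem f419471 : Led Lsl_ff (LP (LK LD1_c12 LD2_c11 LD3_c9)) = (LP (LK LD1_c9 LD2_c15 LD3_c59)) :=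
  Lgr Lrot25 (Lpe (f419384 IH) (Lpr_ft (f419469 IH) (Lpr_bt (K8.f157581 IH) (Lpn (LP (LK LD1_c9 LD2_c15 LD3_c59))))))
theorem f419475 : Led Lsl_at (LP (LK LD1_c12 LD2_c11 LD3_c9)) = (LP (LK LD1_c9 LD2_c15 LD3_c60)) :=
  Lgr Lrot26 (Lpr_ff (f419471 IH) (Lpe (K8.f75311 IH) (Lpe (K11.f76179 IH) (Lpn (LP (LK LD1_c9 LD2_c15 LD3_c60))))))
theorem f419479 : Led Lsl_af (LP (LK LD1_c9 LD2_c23 LD3_c21)) = (LP (LK LD1_c9 LD2_c26 LD3_c35)) :=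
  Lgr Lrot117 (Lpr_dt (K28.f419360 IH) (Lpr_at (f419475 IH) (Lpe (K11.f203496 IH) (Lpn (LP (LK LD1_c9 LD2_c26 LD3_c35))))))
theorem f419514 : Led Lsl_ft (LP (LK LD1_c9 LD2_c23 LD3_c22)) = (LP (LK LD1_c9 LD2_c26 LD3_c35)) :=
  Lgr Lrot2 (Lpr_gt (K11.f13752 IH) (Lpr_gt (K28.f13751 IH) (Lpr_af (f419479 IH) (Lpn (LP (LK LD1_c9 LD2_c26 LD3_c35))))))
theorem f419522 : Led Lsl_ff (LP (LK LD1_c9 LD2_c23 LD3_c22)) = (LP (LK LD1_c9 LD2_c26 LD3_c35)) :=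
  Lgr Lrot3 (Lpr_ft (f419514 IH) (Lpn (LP (LK LD1_c9 LD2_c26 LD3_c35))))
theorem f419528 : Led Lsl_at (LP (LK LD1_c9 LD2_c23 LD3_c22)) = (LP (LK LD1_c9 LD2_c26 LD3_c34)) :=
  Lgr Lrot26 (Lpr_ff (f419522 IH) (Lpr_gt (K6.f40543 IH) (Lpr_gt (K11.f14009 IH) (Lpn (LP (LK LD1_c9 LD2_c26 LD3_c34))))))
theorem f419363 : Led Lsl_et (LP (LK LD1_c21 LD2_c16 LD3_c26)) = (LP (LK LD1_c12 LD2_c11 LD3_c9)) :=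
  Lre_e IH (LK LD1_c21 LD2_c16 LD3_c26) (LK LD1_c12 LD2_c11 LD3_c9) Lrfl Lrfl
theorem f65685 : Led Lsl_et (LP (LK LD1_c9 LD2_c15 LD3_c60)) = (LP (LK LD1_c17 LD2_c10 LD3_c30)) :=
  Lre_e IH (LK LD1_c9 LD2_c15 LD3_c60) (LK LD1_c17 LD2_c10 LD3_c30) Lrfl Lrfl
theorem f419481 : Led Lsl_af (LP (LK LD1_c21 LD2_c16 LD3_c26)) = (LP (LK LD1_c17 LD2_c10 LD3_c30)) :=
  Lgr Lrot50 (Lpr_et (f419363 IH) (Lpr_at (f419475 IH) (Lpr_et (f65685 IH) (Lpn (LP (LK LD1_c17 LD2_c10 LD3_c30))))))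
theorem f419376 : Led Lsl_dt (LP (LK LD1_c21 LD2_c16 LD3_c26)) = (LP (LK LD1_c29 LD2_c56 LD3_c1)) :=
  Lre_d IH (LK LD1_c21 LD2_c16 LD3_c26) (LK LD1_c29 LD2_c56 LD3_c1) Lrfl Lrfl
theorem f203507 : Led Lsl_dt (LP (LK LD1_c27 LD2_c1 LD3_c56)) = (LP (LK LD1_c17 LD2_c10 LD3_c30)) :=
  Lre_d IH (LK LD1_c27 LD2_c1 LD3_c56) (LK LD1_c17 LD2_c10 LD3_c30) Lrfl Lrfl
theorem f419485 : Led Lsl_at (LP (LK LD1_c29 LD2_c56 LD3_c1)) = (LP (LK LD1_c27 LD2_c1 LD3_c56)) :=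
  Lgr Lrot51 (Lpe (f419376 IH) (Lpr_af (f419481 IH) (Lpe (f203507 IH) (Lpn (LP (LK LD1_c27 LD2_c1 LD3_c56))))))
theorem f419487 : Led Lsl_af (LP (LK LD1_c29 LD2_c56 LD3_c1)) = (LP (LK LD1_c27 LD2_c1 LD3_c56)) :=
  Lgr Lrot0 (Lpr_at (f419485 IH) (Lpn (LP (LK LD1_c27 LD2_c1 LD3_c56))))
theorem f419362 : Led Lsl_et (LP (LK LD1_c9 LD2_c23 LD3_c21)) = (LP (LK LD1_c17 LD2_c19 LD3_c55)) :=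
  Lre_e IH (LK LD1_c9 LD2_c23 LD3_c21) (LK LD1_c17 LD2_c19 LD3_c55) Lrfl Lrfl
theorem f14360 : Led Lsl_dt (LP (LK LD1_c17 LD2_c19 LD3_c55)) = (LP (LK LD1_c27 LD2_c9 LD3_c29)) :=
  Lre_d IH (LK LD1_c17 LD2_c19 LD3_c55) (LK LD1_c27 LD2_c9 LD3_c29) Lrfl Lrfl
theorem f419364 : Led Lsl_dt (LP (LK LD1_c29 LD2_c56 LD3_c1)) = (LP (LK LD1_c21 LD2_c16 LD3_c26)) :=
  Lre_d IH (LK LD1_c29 LD2_c56 LD3_c1) (LK LD1_c21 LD2_c16 LD3_c26) Lrfl Lrfl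
theorem f419365 : Led Lsl_et (LP (LK LD1_c27 LD2_c9 LD3_c29)) = (LP (LK LD1_c29 LD2_c56 LD3_c1)) :=
  Lgr Lrot71 (Lpe (f14360 IH) (Lpe (f419362 IH) (Lpr_df (K28.f419355 IH) (Lpe (f419363 IH) (Lpe (f419364 IH) (Lpn (LP (LK LD1_c29 LD2_c56 LD3_c1))))))))
theorem f419373 : Led Lsl_ef (LP (LK LD1_c27 LD2_c9 LD3_c29)) = (LP (LK LD1_c29 LD2_c56 LD3_c1)) :=
  Lgr Lrot88 (Lpr_et (f419365 IH) (Lpn (LP (LK LD1_c29 LD2_c56 LD3_c1))))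
theorem f203506 : Led Lsl_et (LP (LK LD1_c9 LD2_c26 LD3_c35)) = (LP (LK LD1_c17 LD2_c24 LD3_c38)) :=
  Lre_e IH (LK LD1_c9 LD2_c26 LD3_c35) (LK LD1_c17 LD2_c24 LD3_c38) Lrfl Lrfl
theorem f40589 : Led Lsl_dt (LP (LK LD1_c17 LD2_c24 LD3_c38)) = (LP (LK LD1_c27 LD2_c13 LD3_c46)) :=
  Lre_d IH (LK LD1_c17 LD2_c24 LD3_c38) (LK LD1_c27 LD2_c13 LD3_c46) Lrfl Lrfl
theorem f65686 : Led Lsl_et (LP (LK LD1_c17 LD2_c10 LD3_c30)) = (LP (LK LD1_c9 LD2_c15 LD3_c60)) :=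
  Lre_e IH (LK LD1_c17 LD2_c10 LD3_c30) (LK LD1_c9 LD2_c15 LD3_c60) Lrfl Lrfl
theorem f203508 : Led Lsl_et (LP (LK LD1_c27 LD2_c13 LD3_c46)) = (LP (LK LD1_c27 LD2_c1 LD3_c56)) :=
  Lgr Lrot71 (Lpe (f40589 IH) (Lpe (f203506 IH) (Lpr_df (K11.f203496 IH) (Lpe (f65686 IH) (Lpe (f203507 IH) (Lpn (LP (LK LD1_c27 LD2_c1 LD3_c56))))))))
theorem f419491 : Led Lsl_at (LP (LK LD1_c27 LD2_c9 LD3_c29)) = (LP (LK LD1_c27 LD2_c13 LD3_c46)) :=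
  Lgr Lrot80 (Lpr_ef (f419373 IH) (Lpr_af (f419487 IH) (Lpe (f203508 IH) (Lpn (LP (LK LD1_c27 LD2_c13 LD3_c46))))))
theorem f419495 : Led Lsl_dt (LP (LK LD1_c27 LD2_c13 LD3_c46)) = (LP (LK LD1_c17 LD2_c24 LD3_c38)) :=
  Lre_d IH (LK LD1_c27 LD2_c13 LD3_c46) (LK LD1_c17 LD2_c24 LD3_c38) Lrfl Lrfl
theorem f419496 : Led Lsl_af (LP (LK LD1_c17 LD2_c19 LD3_c55)) = (LP (LK LD1_c17 LD2_c24 LD3_c38)) :=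
  Lgr Lrot117 (Lpr_dt (f14360 IH) (Lpr_at (f419491 IH) (Lpr_dt (f419495 IH) (Lpn (LP (LK LD1_c17 LD2_c24 LD3_c38))))))
theorem f14359 : Led Lsl_et (LP (LK LD1_c17 LD2_c19 LD3_c55)) = (LP (LK LD1_c9 LD2_c23 LD3_c21)) :=
  Lre_e IH (LK LD1_c17 LD2_c19 LD3_c55) (LK LD1_c9 LD2_c23 LD3_c21) Lrfl Lrfl
theorem f419501 : Led Lsl_at (LP (LK LD1_c9 LD2_c23 LD3_c21)) = (LP (LK LD1_c9 LD2_c26 LD3_c35)) :=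
  Lgr Lrot80 (Lpe (f14359 IH) (Lpr_af (f419496 IH) (Lpe (f203506 IH) (Lpn (LP (LK LD1_c9 LD2_c26 LD3_c35))))))
theorem f419534 : Led Lsl_ff (LP (LK LD1_c9 LD2_c23 LD3_c21)) = (LP (LK LD1_c9 LD2_c26 LD3_c34)) :=
  Lgr Lrot30 (Lpr_at (f419501 IH) (Lpe (f419522 IH) (Lpr_at (f419528 IH) (Lpn (LP (LK LD1_c9 LD2_c26 LD3_c34))))))
theorem f419536 : Led Lsl_gf (LP (LK LD1_c9 LD2_c26 LD3_c35)) = (LP (LK LD1_c9 LD2_c23 LD3_c19)) :=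
  Lgr Lrot76 (Lpe (f419501 IH) (Lpr_ff (f419534 IH) (Lpr_gt (K11.f14010 IH) (Lpn (LP (LK LD1_c9 LD2_c23 LD3_c19))))))
theorem f40576 : Led Lsl_ct (LP (LK LD1_c9 LD2_c26 LD3_c35)) = (LP (LK LD1_c17 LD2_c24 LD3_c37)) :=
  Lre_c IH (LK LD1_c9 LD2_c26 LD3_c35) (LK LD1_c17 LD2_c24 LD3_c37) Lrfl Lrfl
theorem f101889 : Led Lsl_gf (LP (LK LD1_c16 LD2_c23 LD3_c51)) = (LP (LK LD1_c17 LD2_c24 LD3_c37)) :=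
  Lgr Lrot76 (Lpr_af (K11.f99252 IH) (Lpr_ff (K11.f38214 IH) (Lpr_gt (K6.f80827 IH) (Lpn (LP (LK LD1_c17 LD2_c24 LD3_c37))))))
theorem f14021 : Led Lsl_bt (LP (LK LD1_c4 LD2_c46 LD3_c40)) = (LP (LK LD1_c9 LD2_c23 LD3_c19)) :=
  Lre_b IH (LK LD1_c4 LD2_c46 LD3_c40) (LK LD1_c9 LD2_c23 LD3_c19) Lrfl Lrfl
theorem f74700 : Led Lsl_bt (LP (LK LD1_c20 LD2_c41 LD3_c6)) = (LP (LK LD1_c11 LD2_c41 LD3_c17)) :=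
  Lre_b IH (LK LD1_c20 LD2_c41 LD3_c6) (LK LD1_c11 LD2_c41 LD3_c17) Lrfl Lrfl
theorem f419538 : Led Lsl_cf (LP (LK LD1_c16 LD2_c23 LD3_c51)) = (LP (LK LD1_c20 LD2_c41 LD3_c6)) :=
  Lgr Lrot163 (Lpr_gf (f101889 IH) (Lpe (f40576 IH) (Lpr_gf (f419536 IH) (Lpe (f14021 IH) (Lpr_ct (K2.f14022 IH) (Lpe (K4.f72651 IH) (Lpe (K2.f72564 IH) (Lpr_bt (K28.f79665 IH) (Lpe (K36.f74699 IH) (Lpe (f74700 IH) (Lpn (LP (LK LD1_c20 LD2_c41 LD3_c6)))))))))))))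
theorem f419543 : Led Lsl_ct (LP (LK LD1_c16 LD2_c23 LD3_c51)) = (LP (LK LD1_c20 LD2_c41 LD3_c6)) :=
  Lgr Lrot59 (Lpr_cf (f419538 IH) (Lpn (LP (LK LD1_c20 LD2_c41 LD3_c6))))
theorem f543519 : Led Lsl_ct (LP (LK LD1_c13 LD2_c39 LD3_c7)) = (LP (LK LD1_c23 LD2_c3 LD3_c56)) :=
  Lre_c IH (LK LD1_c13 LD2_c39 LD3_c7) (LK LD1_c23 LD2_c3 LD3_c56) Lrfl Lrfl
theorem f544350 : Led Lsl_et (LP (LK LD1_c20 LD2_c41 LD3_c6)) = (LP (LK LD1_c13 LD2_c39 LD3_c7)) :=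
  Lgr Lrot158 (Lpe (f419543 IH) (Lpr_ef (f544346 IH) (Lpe (f543519 IH) (Lpn (LP (LK LD1_c13 LD2_c39 LD3_c7))))))
theorem f419545 : Led Lsl_ft (LP (LK LD1_c16 LD2_c24 LD3_c28)) = (LP (LK LD1_c20 LD2_c41 LD3_c6)) :=
  Lgr Lrot4 (Lpr_cf (K11.f202835 IH) (Lpe (K11.f202880 IH) (Lpr_cf (f419538 IH) (Lpn (LP (LK LD1_c20 LD2_c41 LD3_c6))))))
theorem f108448 : Led Lsl_ft (LP (LK LD1_c13 LD2_c39 LD3_c7)) = (LP (LK LD1_c23 LD2_c4 LD3_c19)) :=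
  Lre_f IH (LK LD1_c13 LD2_c39 LD3_c7) (LK LD1_c23 LD2_c4 LD3_c19) Lrfl Lrfl
theorem f108450 : Led Lsl_et (LP (LK LD1_c23 LD2_c4 LD3_c19)) = (LP (LK LD1_c30 LD2_c52 LD3_c58)) :=
  Lre_e IH (LK LD1_c23 LD2_c4 LD3_c19) (LK LD1_c30 LD2_c52 LD3_c58) Lrfl Lrfl
theorem f544356 : Led Lsl_ff (LP (LK LD1_c26 LD2_c22 LD3_c5)) = (LP (LK LD1_c30 LD2_c52 LD3_c58)) :=
  Lgr Lrot72 (Lpr_et (K11.f75801 IH) (Lpr_ft (f419545 IH) (Lpr_et (f544350 IH) (Lpr_ft (f108448 IH) (Lpr_et (f108450 IH) (Lpn (LP (LK LD1_c30 LD2_c52 LD3_c58))))))))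
theorem f544362 : Led Lsl_ft (LP (LK LD1_c26 LD2_c22 LD3_c5)) = (LP (LK LD1_c30 LD2_c52 LD3_c58)) :=
  Lgr Lrot48 (Lpr_ff (f544356 IH) (Lpn (LP (LK LD1_c30 LD2_c52 LD3_c58))))
theorem f202870 : Led Lsl_ft (LP (LK LD1_c30 LD2_c2 LD3_c36)) = (LP (LK LD1_c21 LD2_c28 LD3_c50)) :=
  Lre_f IH (LK LD1_c30 LD2_c2 LD3_c36) (LK LD1_c21 LD2_c28 LD3_c50) Lrfl Lrfl
theorem f544367 : Led Lsl_cf (LP (LK LD1_c30 LD2_c2 LD3_c36)) = (LP (LK LD1_c30 LD2_c52 LD3_c58)) :=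
  Lgr Lrot108 (Lpr_ft (f202870 IH) (Lpe (K11.f202859 IH) (Lpr_ft (f544362 IH) (Lpn (LP (LK LD1_c30 LD2_c52 LD3_c58))))))
theorem f544369 : Led Lsl_bt (LP (LK LD1_c30 LD2_c2 LD3_c36)) = (LP (LK LD1_c21 LD2_c28 LD3_c54)) :=
  Lre_b IH (LK LD1_c30 LD2_c2 LD3_c36) (LK LD1_c21 LD2_c28 LD3_c54) Lrfl Lrfl
theorem f544370 : Led Lsl_ct (LP (LK LD1_c21 LD2_c28 LD3_c54)) = (LP (LK LD1_c12 LD2_c22 LD3_c10)) :=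
  Lre_c IH (LK LD1_c21 LD2_c28 LD3_c54) (LK LD1_c12 LD2_c22 LD3_c10) Lrfl Lrfl
theorem f441551 : Led Lsl_bt (LP (LK LD1_c23 LD2_c4 LD3_c20)) = (LP (LK LD1_c30 LD2_c52 LD3_c58)) :=
  Lre_b IH (LK LD1_c23 LD2_c4 LD3_c20) (LK LD1_c30 LD2_c52 LD3_c58) Lrfl Lrfl
theorem f441549 : Led Lsl_ct (LP (LK LD1_c13 LD2_c39 LD3_c9)) = (LP (LK LD1_c23 LD2_c4 LD3_c20)) :=
  Lre_c IH (LK LD1_c13 LD2_c39 LD3_c9) (LK LD1_c23 LD2_c4 LD3_c20) Lrfl Lrfl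
theorem f544371 : Led Lsl_bt (LP (LK LD1_c12 LD2_c22 LD3_c10)) = (LP (LK LD1_c13 LD2_c39 LD3_c9)) :=
  Lgr Lrot128 (Lpe (f544370 IH) (Lpe (f544369 IH) (Lpr_cf (f544367 IH) (Lpe (f441551 IH) (Lpe (f441549 IH) (Lpn (LP (LK LD1_c13 LD2_c39 LD3_c9))))))))
theorem f420362 : Led Lsl_ft (LP (LK LD1_c6 LD2_c24 LD3_c38)) = (LP (LK LD1_c12 LD2_c22 LD3_c10)) :=
  Lre_f IH (LK LD1_c6 LD2_c24 LD3_c38) (LK LD1_c12 LD2_c22 LD3_c10) Lrfl Lrfl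
theorem f202845 : Led Lsl_bt (LP (LK LD1_c8 LD2_c46 LD3_c12)) = (LP (LK LD1_c6 LD2_c24 LD3_c38)) :=
  Lgr Lrot127 (Lpr_bf (K11.f202838 IH) (Lpn (LP (LK LD1_c6 LD2_c24 LD3_c38))))
theorem f544378 : Led Lsl_ff (LP (LK LD1_c8 LD2_c46 LD3_c12)) = (LP (LK LD1_c13 LD2_c39 LD3_c9)) :=
  Lgr Lrot25 (Lpr_bt (f202845 IH) (Lpr_ft (f420362 IH) (Lpr_bt (f544371 IH) (Lpn (LP (LK LD1_c13 LD2_c39 LD3_c9))))))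
theorem f544384 : Led Lsl_ft (LP (LK LD1_c8 LD2_c46 LD3_c12)) = (LP (LK LD1_c13 LD2_c39 LD3_c9)) :=
  Lgr Lrot48 (Lpr_ff (f544378 IH) (Lpn (LP (LK LD1_c13 LD2_c39 LD3_c9))))
theorem f202811 : Led Lsl_et (LP (LK LD1_c4 LD2_c24 LD3_c17)) = (LP (LK LD1_c8 LD2_c46 LD3_c12)) :=
  Lre_e IH (LK LD1_c4 LD2_c24 LD3_c17) (LK LD1_c8 LD2_c46 LD3_c12) Lrfl Lrfl
theorem f108379 : Led Lsl_et (LP (LK LD1_c13 LD2_c39 LD3_c9)) = (LP (LK LD1_c7 LD2_c12 LD3_c45)) :=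
  Lre_e IH (LK LD1_c13 LD2_c39 LD3_c9) (LK LD1_c7 LD2_c12 LD3_c45) Lrfl Lrfl
theorem f108467 : Led Lsl_et (LP (LK LD1_c3 LD2_c36 LD3_c10)) = (LP (LK LD1_c7 LD2_c12 LD3_c35)) :=
  Lre_e IH (LK LD1_c3 LD2_c36 LD3_c10) (LK LD1_c7 LD2_c12 LD3_c35) Lrfl Lrfl
theorem f544394 : Led Lsl_ff (LP (LK LD1_c4 LD2_c24 LD3_c17)) = (LP (LK LD1_c7 LD2_c12 LD3_c35)) :=
  Lgr Lrot72 (Lpr_et (f202811 IH) (Lpr_ft (f544384 IH) (Lpr_et (f108379 IH) (Lpr_ft (K28.f108390 IH) (Lpr_et (f108467 IH) (Lpn (LP (LK LD1_c7 LD2_c12 LD3_c35))))))))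
theorem f75580 : Led Lsl_at (LP (LK LD1_c4 LD2_c24 LD3_c17)) = (LP (LK LD1_c2 LD2_c9 LD3_c37)) :=
  Lre_a IH (LK LD1_c4 LD2_c24 LD3_c17) (LK LD1_c2 LD2_c9 LD3_c37) Lrfl Lrfl
theorem f544402 : Led Lsl_gf (LP (LK LD1_c4 LD2_c24 LD3_c20)) = (LP (LK LD1_c7 LD2_c12 LD3_c35)) :=
  Lgr Lrot47 (Lpr_gt (K6.f70442 IH) (Lpe (f75580 IH) (Lpr_ff (f544394 IH) (Lpn (LP (LK LD1_c7 LD2_c12 LD3_c35))))))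
theorem f175024 : Led Lsl_ef (LP (LK LD1_c6 LD2_c13 LD3_c12)) = (LP (LK LD1_c4 LD2_c13 LD3_c27)) :=
  Lgr Lrot88 (Lpr_et (K35.f175017 IH) (Lpn (LP (LK LD1_c4 LD2_c13 LD3_c27))))
theorem f242878 : Led Lsl_ft (LP (LK LD1_c16 LD2_c34 LD3_c32)) = (LP (LK LD1_c8 LD2_c51 LD3_c54)) :=
  Lre_f IH (LK LD1_c16 LD2_c34 LD3_c32) (LK LD1_c8 LD2_c51 LD3_c54) Lrfl Lrfl
theorem f242880 : Led Lsl_df (LP (LK LD1_c16 LD2_c34 LD3_c32)) = (LP (LK LD1_c15 LD2_c13 LD3_c51)) :=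
  Lgr Lrot78 (Lpr_ft (f242878 IH) (Lpr_dt (K16.f242845 IH) (Lpr_ft (K16.f242879 IH) (Lpn (LP (LK LD1_c15 LD2_c13 LD3_c51))))))
theorem f272140 : Led Lsl_dt (LP (LK LD1_c21 LD2_c11 LD3_c5)) = (LP (LK LD1_c15 LD2_c10 LD3_c45)) :=
  Lgr Lrot44 (Lpr_af (K16.f272132 IH) (Lpr_df (f242880 IH) (Lpe (K16.f272110 IH) (Lpn (LP (LK LD1_c15 LD2_c10 LD3_c45))))))
theorem f272149 : Led Lsl_df (LP (LK LD1_c21 LD2_c11 LD3_c5)) = (LP (LK LD1_c15 LD2_c10 LD3_c45)) :=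
  Lgr Lrot38 (Lpr_dt (f272140 IH) (Lpn (LP (LK LD1_c15 LD2_c10 LD3_c45))))
theorem f272154 : Led Lsl_dt (LP (LK LD1_c12 LD2_c5 LD3_c24)) = (LP (LK LD1_c8 LD2_c3 LD3_c49)) :=
  Lgr Lrot60 (Lpe (K16.f272131 IH) (Lpr_df (f272149 IH) (Lpe (K16.f239779 IH) (Lpn (LP (LK LD1_c8 LD2_c3 LD3_c49))))))
theorem f272125 : Led Lsl_bt (LP (LK LD1_c21 LD2_c11 LD3_c0)) = (LP (LK LD1_c12 LD2_c5 LD3_c24)) :=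
  Lre_b IH (LK LD1_c21 LD2_c11 LD3_c0) (LK LD1_c12 LD2_c5 LD3_c24) Lrfl Lrfl
theorem f239769 : Led Lsl_bt (LP (LK LD1_c8 LD2_c3 LD3_c49)) = (LP (LK LD1_c15 LD2_c10 LD3_c43)) :=
  Lre_b IH (LK LD1_c8 LD2_c3 LD3_c49) (LK LD1_c15 LD2_c10 LD3_c43) Lrfl Lrfl
theorem f272156 : Led Lsl_df (LP (LK LD1_c21 LD2_c11 LD3_c0)) = (LP (LK LD1_c15 LD2_c10 LD3_c43)) :=
  Lgr Lrot12 (Lpr_bt (f272125 IH) (Lpr_dt (f272154 IH) (Lpr_bt (f239769 IH) (Lpn (LP (LK LD1_c15 LD2_c10 LD3_c43))))))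
theorem f175023 : Led Lsl_et (LP (LK LD1_c21 LD2_c11 LD3_c0)) = (LP (LK LD1_c12 LD2_c5 LD3_c22)) :=
  Lre_e IH (LK LD1_c21 LD2_c11 LD3_c0) (LK LD1_c12 LD2_c5 LD3_c22) Lrfl Lrfl
theorem f272164 : Led Lsl_et (LP (LK LD1_c8 LD2_c3 LD3_c48)) = (LP (LK LD1_c15 LD2_c10 LD3_c43)) :=
  Lre_e IH (LK LD1_c8 LD2_c3 LD3_c48) (LK LD1_c15 LD2_c10 LD3_c43) Lrfl Lrfl
theorem f272165 : Led Lsl_dt (LP (LK LD1_c4 LD2_c13 LD3_c27)) = (LP (LK LD1_c8 LD2_c3 LD3_c48)) :=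
  Lgr Lrot77 (Lpe (K35.f175017 IH) (Lpe (K35.f175022 IH) (Lpe (f175023 IH) (Lpr_df (f272156 IH) (Lpe (f272164 IH) (Lpn (LP (LK LD1_c8 LD2_c3 LD3_c48))))))))
theorem f108530 : Led Lsl_dt (LP (LK LD1_c3 LD2_c36 LD3_c7)) = (LP (LK LD1_c7 LD2_c12 LD3_c35)) :=
  Lre_d IH (LK LD1_c3 LD2_c36 LD3_c7) (LK LD1_c7 LD2_c12 LD3_c35) Lrfl Lrfl
theorem f81094 : Led Lsl_et (LP (LK LD1_c4 LD2_c24 LD3_c13)) = (LP (LK LD1_c2 LD2_c9 LD3_c34)) :=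
  Lre_e IH (LK LD1_c4 LD2_c24 LD3_c13) (LK LD1_c2 LD2_c9 LD3_c34) Lrfl Lrfl
theorem f81063 : Led Lsl_dt (LP (LK LD1_c4 LD2_c24 LD3_c13)) = (LP (LK LD1_c8 LD2_c46 LD3_c6)) :=
  Lre_d IH (LK LD1_c4 LD2_c24 LD3_c13) (LK LD1_c8 LD2_c46 LD3_c6) Lrfl Lrfl
theorem f544412 : Led Lsl_gt (LP (LK LD1_c8 LD2_c3 LD3_c48)) = (LP (LK LD1_c8 LD2_c46 LD3_c6)) :=
  Lgr Lrot112 (Lpe (f272165 IH) (Lpe (f175024 IH) (Lpr_gf (K35.f538568 IH) (Lpe (K35.f70499 IH) (Lpr_dt (K6.f70488 IH) (Lpr_gf (f544402 IH) (Lpe (f108530 IH) (Lpe (K36.f540414 IH) (Lpe (f81094 IH) (Lpr_dt (f81063 IH) (Lpn (LP (LK LD1_c8 LD2_c46 LD3_c6)))))))))))))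
theorem f227908 : Led Lsl_bt (LP (LK LD1_c4 LD2_c1 LD3_c35)) = (LP (LK LD1_c8 LD2_c3 LD3_c48)) :=
  Lre_b IH (LK LD1_c4 LD2_c1 LD3_c35) (LK LD1_c8 LD2_c3 LD3_c48) Lrfl Lrfl
theorem f190444 : Led Lsl_gt (LP (LK LD1_c4 LD2_c2 LD3_c40)) = (LP (LK LD1_c5 LD2_c8 LD3_c38)) :=
  Lgr Lrot49 (Lpe (K1.f27873 IH) (Lpr_gf (K10.f190340 IH) (Lpe (K10.f34002 IH) (Lpr_gt (K10.f22006 IH) (Lpr_dt (K0.f21853 IH) (Lpr_gt (K10.f21854 IH) (Lpr_dt (K13.f22109 IH) (Lpe (K13.f33190 IH) (Lpe (K13.f190443 IH) (Lpn (LP (LK LD1_c5 LD2_c8 LD3_c38))))))))))))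
theorem f46641 : Led Lsl_bt (LP (LK LD1_c4 LD2_c4 LD3_c59)) = (LP (LK LD1_c8 LD2_c10 LD3_c39)) :=
  Lre_b IH (LK LD1_c4 LD2_c4 LD3_c59) (LK LD1_c8 LD2_c10 LD3_c39) Lrfl Lrfl
theorem f60819 : Led Lsl_dt (LP (LK LD1_c4 LD2_c6 LD3_c1)) = (LP (LK LD1_c2 LD2_c0 LD3_c17)) :=
  Lre_d IH (LK LD1_c4 LD2_c6 LD3_c1) (LK LD1_c2 LD2_c0 LD3_c17) Lrfl Lrfl
theorem f56477 : Led Lsl_ct (LP (LK LD1_c2 LD2_c0 LD3_c17)) = (LP (LK LD1_c4 LD2_c4 LD3_c56)) :=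
  Lre_c IH (LK LD1_c2 LD2_c0 LD3_c17) (LK LD1_c4 LD2_c4 LD3_c56) Lrfl Lrfl
theorem f56478 : Led Lsl_dt (LP (LK LD1_c8 LD2_c10 LD3_c39)) = (LP (LK LD1_c4 LD2_c4 LD3_c56)) :=
  Lre_d IH (LK LD1_c8 LD2_c10 LD3_c39) (LK LD1_c4 LD2_c4 LD3_c56) Lrfl Lrfl
theorem f185755 : Led Lsl_gt (LP (LK LD1_c2 LD2_c53 LD3_c36)) = (LP (LK LD1_c5 LD2_c53 LD3_c53)) :=
  Lre_g IH (LK LD1_c2 LD2_c53 LD3_c36) (LK LD1_c5 LD2_c53 LD3_c53) Lrfl Lrfl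
theorem f539734 : Led Lsl_ct (LP (LK LD1_c5 LD2_c53 LD3_c53)) = (LP (LK LD1_c5 LD2_c7 LD3_c17)) :=
  Lgr Lrot91 (Lpe (f185755 IH) (Lpe (K35.f420733 IH) (Lpr_ct (K11.f201379 IH) (Lpr_gf (K13.f31593 IH) (Lpr_cf (K23.f239235 IH) (Lpr_bt (K36.f239234 IH) (Lpr_gf (K36.f427892 IH) (Lpe (K36.f158264 IH) (Lpe (K36.f427916 IH) (Lpr_gf (K36.f539730 IH) (Lpn (LP (LK LD1_c5 LD2_c7 LD3_c17)))))))))))))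
theorem f71822 : Led Lsl_gt (LP (LK LD1_c5 LD2_c53 LD3_c53)) = (LP (LK LD1_c2 LD2_c53 LD3_c18)) :=
  Lre_g IH (LK LD1_c5 LD2_c53 LD3_c53) (LK LD1_c2 LD2_c53 LD3_c18) Lrfl Lrfl
theorem f71057 : Led Lsl_dt (LP (LK LD1_c2 LD2_c53 LD3_c18)) = (LP (LK LD1_c5 LD2_c53 LD3_c54)) :=
  Lre_d IH (LK LD1_c2 LD2_c53 LD3_c18) (LK LD1_c5 LD2_c53 LD3_c54) Lrfl Lrfl
theorem f539748 : Led Lsl_gf (LP (LK LD1_c8 LD2_c10 LD3_c39)) = (LP (LK LD1_c5 LD2_c53 LD3_c54)) :=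
  Lgr Lrot143 (Lpr_dt (f56478 IH) (Lpe (f56477 IH) (Lpe (f60819 IH) (Lpe (K36.f55532 IH) (Lpr_df (K36.f539742 IH) (Lpr_gf (K36.f539730 IH) (Lpe (f539734 IH) (Lpr_gt (f71822 IH) (Lpr_dt (f71057 IH) (Lpn (LP (LK LD1_c5 LD2_c53 LD3_c54))))))))))))
theorem f420951 : Led Lsl_bt (LP (LK LD1_c11 LD2_c33 LD3_c33)) = (LP (LK LD1_c5 LD2_c53 LD3_c54)) :=
  Lre_b IH (LK LD1_c11 LD2_c33 LD3_c33) (LK LD1_c5 LD2_c53 LD3_c54) Lrfl Lrfl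
theorem f442687 : Led Lsl_ct (LP (LK LD1_c11 LD2_c33 LD3_c33)) = (LP (LK LD1_c20 LD2_c30 LD3_c48)) :=
  Lre_c IH (LK LD1_c11 LD2_c33 LD3_c33) (LK LD1_c20 LD2_c30 LD3_c48) Lrfl Lrfl
theorem f81012 : Led Lsl_ct (LP (LK LD1_c8 LD2_c46 LD3_c6)) = (LP (LK LD1_c16 LD2_c24 LD3_c22)) :=
  Lre_c IH (LK LD1_c8 LD2_c46 LD3_c6) (LK LD1_c16 LD2_c24 LD3_c22) Lrfl Lrfl
theorem f544418 : Led Lsl_gf (LP (LK LD1_c20 LD2_c30 LD3_c48)) = (LP (LK LD1_c16 LD2_c24 LD3_c22)) :=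
  Lgr Lrot129 (Lpe (f442687 IH) (Lpr_bt (f420951 IH) (Lpe (f539748 IH) (Lpe (f46641 IH) (Lpr_ct (K10.f46652 IH) (Lpr_gt (f190444 IH) (Lpr_cf (K13.f227911 IH) (Lpr_bt (f227908 IH) (Lpr_gt (f544412 IH) (Lpr_ct (f81012 IH) (Lpn (LP (LK LD1_c16 LD2_c24 LD3_c22)))))))))))))
theorem f239273 : Led Lsl_ct (LP (LK LD1_c20 LD2_c30 LD3_c48)) = (LP (LK LD1_c11 LD2_c33 LD3_c33)) :=
  Lre_c IH (LK LD1_c20 LD2_c30 LD3_c48) (LK LD1_c11 LD2_c33 LD3_c33) Lrfl Lrfl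
theorem f239272 : Led Lsl_dt (LP (LK LD1_c11 LD2_c33 LD3_c33)) = (LP (LK LD1_c5 LD2_c53 LD3_c50)) :=
  Lre_d IH (LK LD1_c11 LD2_c33 LD3_c33) (LK LD1_c5 LD2_c53 LD3_c50) Lrfl Lrfl
theorem f71813 : Led Lsl_ct (LP (LK LD1_c2 LD2_c53 LD3_c18)) = (LP (LK LD1_c1 LD2_c22 LD3_c46)) :=
  Lre_c IH (LK LD1_c2 LD2_c53 LD3_c18) (LK LD1_c1 LD2_c22 LD3_c46) Lrfl Lrfl
theorem f71814 : Led Lsl_bt (LP (LK LD1_c5 LD2_c53 LD3_c50)) = (LP (LK LD1_c2 LD2_c53 LD3_c18)) :=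
  Lre_b IH (LK LD1_c5 LD2_c53 LD3_c50) (LK LD1_c2 LD2_c53 LD3_c18) Lrfl Lrfl
theorem f31751 : Led Lsl_at (LP (LK LD1_c2 LD2_c7 LD3_c34)) = (LP (LK LD1_c4 LD2_c20 LD3_c12)) :=
  Lre_a IH (LK LD1_c2 LD2_c7 LD3_c34) (LK LD1_c4 LD2_c20 LD3_c12) Lrfl Lrfl
theorem f28652 : Led Lsl_bt (LP (LK LD1_c2 LD2_c7 LD3_c48)) = (LP (LK LD1_c1 LD2_c0 LD3_c61)) :=
  Lre_b IH (LK LD1_c2 LD2_c7 LD3_c48) (LK LD1_c1 LD2_c0 LD3_c61) Lrfl Lrfl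
theorem f31752 : Led Lsl_at (LP (LK LD1_c4 LD2_c20 LD3_c38)) = (LP (LK LD1_c2 LD2_c7 LD3_c48)) :=
  Lre_a IH (LK LD1_c4 LD2_c20 LD3_c38) (LK LD1_c2 LD2_c7 LD3_c48) Lrfl Lrfl
theorem f31753 : Led Lsl_bt (LP (LK LD1_c4 LD2_c20 LD3_c12)) = (LP (LK LD1_c4 LD2_c20 LD3_c38)) :=
  Lgr Lrot62 (Lpe (f31751 IH) (Lpe (K36.f31750 IH) (Lpr_af (K0.f31739 IH) (Lpe (f28652 IH) (Lpe (f31752 IH) (Lpn (LP (LK LD1_c4 LD2_c20 LD3_c38))))))))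
theorem f71815 : Led Lsl_cf (LP (LK LD1_c5 LD2_c53 LD3_c50)) = (LP (LK LD1_c4 LD2_c20 LD3_c38)) :=
  Lgr Lrot97 (Lpr_bt (f71814 IH) (Lpr_ct (f71813 IH) (Lpr_bt (K2.f71806 IH) (Lpr_ct (f34962 IH) (Lpr_bt (f31753 IH) (Lpn (LP (LK LD1_c4 LD2_c20 LD3_c38))))))))
theorem f71074 : Led Lsl_gt (LP (LK LD1_c2 LD2_c53 LD3_c33)) = (LP (LK LD1_c5 LD2_c53 LD3_c55)) :=
  Lre_g IH (LK LD1_c2 LD2_c53 LD3_c33) (LK LD1_c5 LD2_c53 LD3_c55) Lrfl Lrfl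
theorem f71114 : Led Lsl_gt (LP (LK LD1_c2 LD2_c53 LD3_c23)) = (LP (LK LD1_c1 LD2_c22 LD3_c55)) :=
  Lre_g IH (LK LD1_c2 LD2_c53 LD3_c23) (LK LD1_c1 LD2_c22 LD3_c55) Lrfl Lrfl
theorem f239265 : Led Lsl_bt (LP (LK LD1_c2 LD2_c53 LD3_c50)) = (LP (LK LD1_c5 LD2_c54 LD3_c59)) :=
  Lre_b IH (LK LD1_c2 LD2_c53 LD3_c50) (LK LD1_c5 LD2_c54 LD3_c59) Lrfl Lrfl
theorem f34990 : Led Lsl_gt (LP (LK LD1_c2 LD2_c14 LD3_c54)) = (LP (LK LD1_c4 LD2_c35 LD3_c23)) :=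
  Lre_g IH (LK LD1_c2 LD2_c14 LD3_c54) (LK LD1_c4 LD2_c35 LD3_c23) Lrfl Lrfl
theorem f34881 : Led Lsl_at (LP (LK LD1_c2 LD2_c14 LD3_c54)) = (LP (LK LD1_c1 LD2_c4 LD3_c36)) :=
  Lre_a IH (LK LD1_c2 LD2_c14 LD3_c54) (LK LD1_c1 LD2_c4 LD3_c36) Lrfl Lrfl
theorem f34882 : Led Lsl_cf (LP (LK LD1_c2 LD2_c14 LD3_c54)) = (LP (LK LD1_c4 LD2_c20 LD3_c12)) :=
  Lgr Lrot1 (Lpr_at (f34881 IH) (Lpr_ct (K2.f34871 IH) (Lpr_at (f31751 IH) (Lpn (LP (LK LD1_c4 LD2_c20 LD3_c12))))))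
theorem f239266 : Led Lsl_gt (LP (LK LD1_c5 LD2_c54 LD3_c59)) = (LP (LK LD1_c4 LD2_c20 LD3_c38)) :=
  Lgr Lrot164 (Lpe (f239265 IH) (Lpr_ct (K35.f201595 IH) (Lpe (f71114 IH) (Lpe (K35.f71066 IH) (Lpe (f71074 IH) (Lpe (K36.f201431 IH) (Lpr_ct (K36.f239254 IH) (Lpe (f34990 IH) (Lpr_cf (f34882 IH) (Lpr_bt (f31753 IH) (Lpn (LP (LK LD1_c4 LD2_c20 LD3_c38)))))))))))))
theorem f47087 : Led Lsl_gt (LP (LK LD1_c4 LD2_c13 LD3_c27)) = (LP (LK LD1_c8 LD2_c25 LD3_c51)) :=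
  Lre_g IH (LK LD1_c4 LD2_c13 LD3_c27) (LK LD1_c8 LD2_c25 LD3_c51) Lrfl Lrfl
theorem f544422 : Led Lsl_cf (LP (LK LD1_c5 LD2_c54 LD3_c59)) = (LP (LK LD1_c8 LD2_c25 LD3_c51)) :=
  Lgr Lrot169 (Lpr_gt (f239266 IH) (Lpe (f71815 IH) (Lpe (f239272 IH) (Lpe (f239273 IH) (Lpr_gf (f544418 IH) (Lpe (f81012 IH) (Lpe (f544412 IH) (Lpe (f272165 IH) (Lpr_gt (f47087 IH) (Lpn (LP (LK LD1_c8 LD2_c25 LD3_c51))))))))))))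
theorem f36131 : Led Lsl_at (LP (LK LD1_c2 LD2_c7 LD3_c48)) = (LP (LK LD1_c4 LD2_c20 LD3_c38)) :=
  Lre_a IH (LK LD1_c2 LD2_c7 LD3_c48) (LK LD1_c4 LD2_c20 LD3_c38) Lrfl Lrfl
theorem f36044 : Led Lsl_ft (LP (LK LD1_c4 LD2_c20 LD3_c40)) = (LP (LK LD1_c2 LD2_c7 LD3_c48)) :=
  Lre_f IH (LK LD1_c4 LD2_c20 LD3_c40) (LK LD1_c2 LD2_c7 LD3_c48) Lrfl Lrfl
theorem f239268 : Led Lsl_gf (LP (LK LD1_c5 LD2_c54 LD3_c59)) = (LP (LK LD1_c4 LD2_c20 LD3_c40)) :=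
  Lgr Lrot47 (Lpr_gt (f239266 IH) (Lpe (f36131 IH) (Lpe (f36044 IH) (Lpn (LP (LK LD1_c4 LD2_c20 LD3_c40))))))
theorem f139412 : Led Lsl_af (LP (LK LD1_c1 LD2_c56 LD3_c23)) = (LP (LK LD1_c3 LD2_c3 LD3_c26)) :=
  Lgr Lrot68 (Lpr_ct (K7.f37772 IH) (Lpr_at (K6.f139408 IH) (Lpr_ct (K6.f59554 IH) (Lpn (LP (LK LD1_c3 LD2_c3 LD3_c26))))))
theorem f158354 : Led Lsl_et (LP (LK LD1_c1 LD2_c56 LD3_c23)) = (LP (LK LD1_c3 LD2_c59 LD3_c23)) :=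
  Lre_e IH (LK LD1_c1 LD2_c56 LD3_c23) (LK LD1_c3 LD2_c59 LD3_c23) Lrfl Lrfl
theorem f421289 : Led Lsl_af (LP (LK LD1_c5 LD2_c13 LD3_c56)) = (LP (LK LD1_c3 LD2_c59 LD3_c23)) :=
  Lgr Lrot50 (Lpr_et (K32.f421281 IH) (Lpe (f139412 IH) (Lpr_et (f158354 IH) (Lpn (LP (LK LD1_c3 LD2_c59 LD3_c23))))))
theorem f171698 : Led Lsl_bt (LP (LK LD1_c2 LD2_c53 LD3_c49)) = (LP (LK LD1_c1 LD2_c22 LD3_c55)) :=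
  Lre_b IH (LK LD1_c2 LD2_c53 LD3_c49) (LK LD1_c1 LD2_c22 LD3_c55) Lrfl Lrfl
theorem f171699 : Led Lsl_ct (LP (LK LD1_c2 LD2_c53 LD3_c49)) = (LP (LK LD1_c5 LD2_c54 LD3_c57)) :=
  Lre_c IH (LK LD1_c2 LD2_c53 LD3_c49) (LK LD1_c5 LD2_c54 LD3_c57) Lrfl Lrfl
theorem f171701 : Led Lsl_gf (LP (LK LD1_c5 LD2_c54 LD3_c57)) = (LP (LK LD1_c5 LD2_c13 LD3_c53)) :=
  Lgr Lrot129 (Lpe (f171699 IH) (Lpr_bt (f171698 IH) (Lpr_gt (K35.f171697 IH) (Lpe (K35.f71812 IH) (Lpr_ct (K9.f37949 IH) (Lpr_gt (K10.f31442 IH) (Lpr_cf (K10.f171690 IH) (Lpr_bt (K16.f171689 IH) (Lpr_gt (K32.f61381 IH) (Lpr_ct (K35.f171700 IH) (Lpn (LP (LK LD1_c5 LD2_c13 LD3_c53)))))))))))))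
theorem f421387 : Led Lsl_gf (LP (LK LD1_c5 LD2_c13 LD3_c56)) = (LP (LK LD1_c5 LD2_c54 LD3_c57)) :=
  Lgr Lrot76 (Lpr_af (f421289 IH) (Lpe (K35.f421197 IH) (Lpe (f171701 IH) (Lpn (LP (LK LD1_c5 LD2_c54 LD3_c57))))))
theorem f544433 : Led Lsl_bf (LP (LK LD1_c5 LD2_c54 LD3_c57)) = (LP (LK LD1_c8 LD2_c25 LD3_c51)) :=
  Lgr Lrot165 (Lpe (f421387 IH) (Lpr_ct (K32.f201594 IH) (Lpr_gt (K32.f61383 IH) (Lpe (K32.f164079 IH) (Lpe (K16.f201586 IH) (Lpr_gt (K11.f201574 IH) (Lpe (K36.f193358 IH) (Lpe (K36.f201563 IH) (Lpe (f239268 IH) (Lpr_cf (f544422 IH) (Lpn (LP (LK LD1_c8 LD2_c25 LD3_c51)))))))))))))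
theorem f421183 : Led Lsl_bf (LP (LK LD1_c5 LD2_c13 LD3_c53)) = (LP (LK LD1_c5 LD2_c54 LD3_c50)) :=
  Lgr Lrot90 (Lpr_ct (K35.f171705 IH) (Lpr_bt (K35.f171710 IH) (Lpr_ct (K32.f421179 IH) (Lpr_bt (K35.f186697 IH) (Lpe (K35.f186695 IH) (Lpn (LP (LK LD1_c5 LD2_c54 LD3_c50))))))))
theorem f186698 : Led Lsl_ct (LP (LK LD1_c5 LD2_c54 LD3_c50)) = (LP (LK LD1_c5 LD2_c14 LD3_c10)) :=
  Lgr Lrot59 (Lpr_cf (K35.f186695 IH) (Lpn (LP (LK LD1_c5 LD2_c14 LD3_c10))))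
theorem f72098 : Led Lsl_et (LP (LK LD1_c2 LD2_c53 LD3_c16)) = (LP (LK LD1_c5 LD2_c53 LD3_c50)) :=
  Lre_e IH (LK LD1_c2 LD2_c53 LD3_c16) (LK LD1_c5 LD2_c53 LD3_c50) Lrfl Lrfl
theorem f442672 : Led Lsl_cf (LP (LK LD1_c4 LD2_c20 LD3_c38)) = (LP (LK LD1_c5 LD2_c53 LD3_c50)) :=
  Lgr Lrot39 (Lpr_et (K35.f36129 IH) (Lpr_ct (K2.f72106 IH) (Lpr_et (f72098 IH) (Lpn (LP (LK LD1_c5 LD2_c53 LD3_c50))))))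
theorem f71062 : Led Lsl_at (LP (LK LD1_c5 LD2_c53 LD3_c55)) = (LP (LK LD1_c2 LD2_c53 LD3_c36)) :=
  Lre_a IH (LK LD1_c5 LD2_c53 LD3_c55) (LK LD1_c2 LD2_c53 LD3_c36) Lrfl Lrfl
theorem f71088 : Led Lsl_ft (LP (LK LD1_c2 LD2_c53 LD3_c18)) = (LP (LK LD1_c5 LD2_c53 LD3_c55)) :=
  Lre_f IH (LK LD1_c2 LD2_c53 LD3_c18) (LK LD1_c5 LD2_c53 LD3_c55) Lrfl Lrfl
theorem f421684 : Led Lsl_gf (LP (LK LD1_c5 LD2_c14 LD3_c24)) = (LP (LK LD1_c2 LD2_c53 LD3_c18)) :=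
  Lgr Lrot47 (Lpr_gt (K36.f421681 IH) (Lpe (f71062 IH) (Lpe (f71088 IH) (Lpn (LP (LK LD1_c2 LD2_c53 LD3_c18))))))
theorem f421686 : Led Lsl_ct (LP (LK LD1_c5 LD2_c14 LD3_c24)) = (LP (LK LD1_c2 LD2_c34 LD3_c2)) :=
  Lre_c IH (LK LD1_c5 LD2_c14 LD3_c24) (LK LD1_c2 LD2_c34 LD3_c2) Lrfl Lrfl
theorem f544435 : Led Lsl_gf (LP (LK LD1_c5 LD2_c14 LD3_c10)) = (LP (LK LD1_c2 LD2_c34 LD3_c2)) :=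
  Lgr Lrot129 (Lpe (f186698 IH) (Lpe (f421183 IH) (Lpe (f171701 IH) (Lpr_bf (f544433 IH) (Lpe (f544422 IH) (Lpr_gt (f239266 IH) (Lpr_cf (f442672 IH) (Lpr_bt (f71814 IH) (Lpe (f421684 IH) (Lpr_ct (f421686 IH) (Lpn (LP (LK LD1_c2 LD2_c34 LD3_c2)))))))))))))
theorem f239274 : Led Lsl_ct (LP (LK LD1_c1 LD2_c22 LD3_c55)) = (LP (LK LD1_c2 LD2_c53 LD3_c50)) :=
  Lre_c IH (LK LD1_c1 LD2_c22 LD3_c55) (LK LD1_c2 LD2_c53 LD3_c50) Lrfl Lrfl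
theorem f421253 : Led Lsl_bt (LP (LK LD1_c1 LD2_c22 LD3_c55)) = (LP (LK LD1_c2 LD2_c53 LD3_c49)) :=
  Lre_b IH (LK LD1_c1 LD2_c22 LD3_c55) (LK LD1_c2 LD2_c53 LD3_c49) Lrfl Lrfl
theorem f427913 : Led Lsl_bt (LP (LK LD1_c1 LD2_c13 LD3_c61)) = (LP (LK LD1_c2 LD2_c34 LD3_c2)) :=
  Lre_b IH (LK LD1_c1 LD2_c13 LD3_c61) (LK LD1_c2 LD2_c34 LD3_c2) Lrfl Lrfl
def v1418 : LQ := Led Lsl_ct (LP (LK LD1_c1 LD2_c13 LD3_c61))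
theorem f495461 : Led Lsl_ct (LP (LK LD1_c1 LD2_c13 LD3_c61)) = v1418 :=
  Lrfl
def v1208 : LQ := Led Lsl_ct (LP (LK LD1_c0 LD2_c57 LD3_c26))
theorem f493959 : Led Lsl_ct (LP (LK LD1_c0 LD2_c57 LD3_c26)) = v1208 :=
  Lrfl
theorem f493961 : Led Lsl_cf (LP (LK LD1_c0 LD2_c57 LD3_c26)) = v1208 :=
  Lgr Lrot11 (Lpr_ct (f493959 IH) (Lpn v1208))
theorem f255246 : Led Lsl_ft (LP (LK LD1_c2 LD2_c0 LD3_c0)) = (LP (LK LD1_c1 LD2_c59 LD3_c28)) :=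
  Lgr Lrot54 (Lpr_df (K13.f242787 IH) (Lpr_ff (K14.f255240 IH) (Lpe (K12.f227301 IH) (Lpn (LP (LK LD1_c1 LD2_c59 LD3_c28))))))
theorem f289722 : Led Lsl_bf (LP (LK LD1_c2 LD2_c0 LD3_c0)) = (LP (LK LD1_c0 LD2_c57 LD3_c26)) :=
  Lgr Lrot61 (Lpr_ft (f255246 IH) (Lpr_bt (K12.f227299 IH) (Lpr_ft (K17.f289720 IH) (Lpn (LP (LK LD1_c0 LD2_c57 LD3_c26))))))
def v364 : LQ := Led Lsl_et (LP (LK LD1_c0 LD2_c33 LD3_c44))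
theorem f452431 : Led Lsl_et (LP (LK LD1_c0 LD2_c33 LD3_c44)) = v364 :=
  Lrfl
theorem f452435 : Led Lsl_ff (LP (LK LD1_c1 LD2_c12 LD3_c45)) = v364 :=
  Lgr Lrot72 (Lpe (K35.f396355 IH) (Lpr_ft (K35.f396365 IH) (Lpr_et (K35.f37152 IH) (Lpe (K20.f315140 IH) (Lpr_et (f452431 IH) (Lpn v364))))))
theorem f452436 : Led Lsl_bt (LP (LK LD1_c1 LD2_c57 LD3_c32)) = v364 :=
  Lgr Lrot35 (Lpr_ff (K20.f315202 IH) (Lpe (K35.f315136 IH) (Lpr_ff (f452435 IH) (Lpn v364))))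
theorem f452439 : Led Lsl_gf K35.v340 = v364 :=
  Lgr Lrot47 (Lpe (K35.f452265 IH) (Lpr_af (K35.f346923 IH) (Lpr_ff (f452435 IH) (Lpn v364))))
theorem f493965 : Led Lsl_gt K36.v341 = v1208 :=
  Lgr Lrot65 (Lpe (K36.f452269 IH) (Lpr_bt (f452266 IH) (Lpr_gf (f452439 IH) (Lpe (f452436 IH) (Lpr_ct (K12.f211569 IH) (Lpe (K13.f240521 IH) (Lpe (K12.f47084 IH) (Lpe (K13.f241818 IH) (Lpr_bf (f289722 IH) (Lpr_ct (f493959 IH) (Lpn v1208)))))))))))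
theorem f537216 : v1208 = (LP (LK LD1_c1 LD2_c13 LD3_c61)) :=
  Lefun (Lecon (f493965 IH) (f537077 IH).symm) (K36.f164418 IH)
theorem f537506 : (LP (LK LD1_c0 LD2_c57 LD3_c26)) = v1418 :=
  Lefun (Lecon (Lfl_cf (f493961 IH)) (f537216 IH)) (f495461 IH)
theorem f544444 : Led Lsl_gt (LP (LK LD1_c2 LD2_c53 LD3_c49)) = (LP (LK LD1_c2 LD2_c0 LD3_c55)) :=
  Lgr Lrot164 (Lpe (f421253 IH) (Lpr_ct (f239274 IH) (Lpr_gf (K35.f421244 IH) (Lpr_cf (K35.f186695 IH) (Lpr_gf (f544435 IH) (Lpe (f427913 IH) (Lpr_ct (f495461 IH) (Lpq (f537506 IH) (Lpe (K8.f8147 IH) (Lpe (K9.f28357 IH) (Lpr_bt (K36.f55917 IH) (Lpn (LP (LK LD1_c2 LD2_c0 LD3_c55))))))))))))))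
theorem f171706 : Led Lsl_ct (LP (LK LD1_c5 LD2_c54 LD3_c57)) = (LP (LK LD1_c2 LD2_c53 LD3_c49)) :=
  Lre_c IH (LK LD1_c5 LD2_c54 LD3_c57) (LK LD1_c2 LD2_c53 LD3_c49) Lrfl Lrfl
theorem f421254 : Led Lsl_bt (LP (LK LD1_c5 LD2_c54 LD3_c59)) = (LP (LK LD1_c2 LD2_c53 LD3_c50)) :=
  Lre_b IH (LK LD1_c5 LD2_c54 LD3_c59) (LK LD1_c2 LD2_c53 LD3_c50) Lrfl Lrfl
theorem f544426 : Led Lsl_bt (LP (LK LD1_c5 LD2_c54 LD3_c57)) = (LP (LK LD1_c8 LD2_c25 LD3_c51)) :=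
  Lgr Lrot128 (Lpe (f171699 IH) (Lpe (f421253 IH) (Lpe (K35.f201595 IH) (Lpe (f421254 IH) (Lpr_cf (f544422 IH) (Lpn (LP (LK LD1_c8 LD2_c25 LD3_c51))))))))
theorem f158994 : Led Lsl_cf (LP (LK LD1_c1 LD2_c55 LD3_c42)) = (LP (LK LD1_c2 LD2_c15 LD3_c34)) :=
  Lgr Lrot11 (Lpr_ct (K8.f158980 IH) (Lpn (LP (LK LD1_c2 LD2_c15 LD3_c34))))
theorem f158969 : Led Lsl_et (LP (LK LD1_c1 LD2_c55 LD3_c42)) = (LP (LK LD1_c3 LD2_c57 LD3_c53)) :=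
  Lre_e IH (LK LD1_c1 LD2_c55 LD3_c42) (LK LD1_c3 LD2_c57 LD3_c53) Lrfl Lrfl
theorem f538403 : Led Lsl_cf (LP (LK LD1_c2 LD2_c0 LD3_c55)) = (LP (LK LD1_c3 LD2_c57 LD3_c53)) :=
  Lgr Lrot39 (Lpr_et (K35.f538399 IH) (Lpe (f158994 IH) (Lpr_et (f158969 IH) (Lpn (LP (LK LD1_c3 LD2_c57 LD3_c53))))))
theorem f544454 : Led Lsl_bf (LP (LK LD1_c1 LD2_c57 LD3_c59)) = (LP (LK LD1_c3 LD2_c57 LD3_c53)) :=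
  Lgr Lrot165 (Lpr_gt (K13.f240596 IH) (Lpe (K13.f242770 IH) (Lpr_gt (K13.f241818 IH) (Lpe (K12.f47085 IH) (Lpr_bt (K35.f47086 IH) (Lpr_gt (f47087 IH) (Lpe (f544426 IH) (Lpr_ct (f171706 IH) (Lpr_gt (f544444 IH) (Lpr_cf (f538403 IH) (Lpn (LP (LK LD1_c3 LD2_c57 LD3_c53)))))))))))))
theorem f269134 : Led Lsl_bt (LP (LK LD1_c5 LD2_c13 LD3_c41)) = (LP (LK LD1_c2 LD2_c33 LD3_c45)) :=
  Lre_b IH (LK LD1_c5 LD2_c13 LD3_c41) (LK LD1_c2 LD2_c33 LD3_c45) Lrfl Lrfl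
theorem f418131 : Led Lsl_ct (LP (LK LD1_c5 LD2_c13 LD3_c41)) = (LP (LK LD1_c2 LD2_c33 LD3_c48)) :=
  Lre_c IH (LK LD1_c5 LD2_c13 LD3_c41) (LK LD1_c2 LD2_c33 LD3_c48) Lrfl Lrfl
theorem f80220 : Led Lsl_et (LP (LK LD1_c1 LD2_c4 LD3_c49)) = (LP (LK LD1_c2 LD2_c15 LD3_c30)) :=
  Lre_e IH (LK LD1_c1 LD2_c4 LD3_c49) (LK LD1_c2 LD2_c15 LD3_c30) Lrfl Lrfl
theorem f56289 : Led Lsl_et (LP (LK LD1_c1 LD2_c5 LD3_c23)) = (LP (LK LD1_c0 LD2_c29 LD3_c57)) :=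
  Lre_e IH (LK LD1_c1 LD2_c5 LD3_c23) (LK LD1_c0 LD2_c29 LD3_c57) Lrfl Lrfl
theorem f56240 : Led Lsl_dt (LP (LK LD1_c1 LD2_c5 LD3_c23)) = (LP (LK LD1_c2 LD2_c16 LD3_c56)) :=
  Lre_d IH (LK LD1_c1 LD2_c5 LD3_c23) (LK LD1_c2 LD2_c16 LD3_c56) Lrfl Lrfl
theorem f542329 : Led Lsl_ft (LP (LK LD1_c2 LD2_c13 LD3_c38)) = (LP (LK LD1_c1 LD2_c5 LD3_c3)) :=
  Lre_f IH (LK LD1_c2 LD2_c13 LD3_c38) (LK LD1_c1 LD2_c5 LD3_c3) Lrfl Lrfl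
theorem f494502 : Led Lsl_at (LP (LK LD1_c1 LD2_c5 LD3_c3)) = (LP (LK LD1_c2 LD2_c15 LD3_c30)) :=
  Lre_a IH (LK LD1_c1 LD2_c5 LD3_c3) (LK LD1_c2 LD2_c15 LD3_c30) Lrfl Lrfl
theorem f75448 : Led Lsl_df (LP (LK LD1_c2 LD2_c22 LD3_c15)) = (LP (LK LD1_c1 LD2_c26 LD3_c6)) :=
  Lgr Lrot162 (Lpr_cf (K6.f56874 IH) (Lpe (K2.f14399 IH) (Lpe (K4.f40688 IH) (Lpe (K4.f56838 IH) (Lpr_dt (K4.f75398 IH) (Lpr_gt (K4.f72839 IH) (Lpe (K2.f72863 IH) (Lpr_gt (K8.f72884 IH) (Lpr_ct (K32.f72886 IH) (Lpn (LP (LK LD1_c1 LD2_c26 LD3_c6))))))))))))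
def v1775 : LQ := Led Lsl_et (LP (LK LD1_c1 LD2_c26 LD3_c6))
theorem f502809 : Led Lsl_et (LP (LK LD1_c1 LD2_c26 LD3_c6)) = v1775 :=
  Lrfl
theorem f502812 : Led Lsl_ef (LP (LK LD1_c1 LD2_c26 LD3_c6)) = v1775 :=
  Lgr Lrot88 (Lpr_et (f502809 IH) (Lpn v1775))
theorem f37269 : Led Lsl_ct (LP (LK LD1_c1 LD2_c26 LD3_c6)) = (LP (LK LD1_c0 LD2_c39 LD3_c45)) :=
  Lre_c IH (LK LD1_c1 LD2_c26 LD3_c6) (LK LD1_c0 LD2_c39 LD3_c45) Lrfl Lrfl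
theorem f452968 : Led Lsl_bt (LP (LK LD1_c1 LD2_c26 LD3_c6)) = K24.v458 :=
  Lgr Lrot130 (Lpr_ct (f37269 IH) (Lpe (K8.f72884 IH) (Lpr_cf (K2.f72863 IH) (Lpe (K4.f72962 IH) (Lpr_gf (K8.f73295 IH) (Lpr_bf (K32.f210034 IH) (Lpr_ct (K32.f60944 IH) (Lpe (K4.f72866 IH) (Lpe (K2.f72860 IH) (Lpr_gf (K24.f452964 IH) (Lpn K24.v458)))))))))))
def v1773 : LQ := Led Lsl_et (LP (LK LD1_c1 LD2_c26 LD3_c4))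
theorem f502799 : Led Lsl_et (LP (LK LD1_c1 LD2_c26 LD3_c4)) = v1773 :=
  Lrfl
theorem f502813 : Led Lsl_bt v1773 = v1775 :=
  Lgr Lrot119 (Lpe (f502799 IH) (Lpqs (f501380 IH) (Lpe (f452968 IH) (Lpr_ef (f502812 IH) (Lpn v1775)))))
theorem f496616 : Led Lsl_gt (LP (LK LD1_c1 LD2_c21 LD3_c40)) = (LP (LK LD1_c2 LD2_c49 LD3_c18)) :=
  Lgr Lrot49 (Lpe (K36.f496615 IH) (Lpr_gf (K32.f496611 IH) (Lpe (K4.f74532 IH) (Lpr_gt (K2.f22841 IH) (Lpr_dt (K2.f72820 IH) (Lpr_gt (K4.f104946 IH) (Lpr_dt (K4.f26447 IH) (Lpe (K8.f104950 IH) (Lpe (K32.f210038 IH) (Lpn (LP (LK LD1_c2 LD2_c49 LD3_c18))))))))))))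
theorem f499972 : Led Lsl_gf (LP (LK LD1_c1 LD2_c26 LD3_c6)) = K36.v1563 :=
  Lgr Lrot148 (Lpe (f75448 IH) (Lpe (K6.f72576 IH) (Lpr_dt (K6.f72575 IH) (Lpr_ct (K8.f72585 IH) (Lpe (K8.f72586 IH) (Lpe (K8.f150391 IH) (Lpe (K32.f210038 IH) (Lpe (f496616 IH) (Lpr_ct (K36.f499967 IH) (Lpn K36.v1563))))))))))
theorem f382412 : Led Lsl_et (LP (LK LD1_c0 LD2_c17 LD3_c13)) = (LP (LK LD1_c0 LD2_c37 LD3_c5)) :=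
  Lre_e IH (LK LD1_c0 LD2_c17 LD3_c13) (LK LD1_c0 LD2_c37 LD3_c5) Lrfl Lrfl
theorem f381646 : Led Lsl_at (LP (LK LD1_c1 LD2_c20 LD3_c14)) = (LP (LK LD1_c2 LD2_c47 LD3_c48)) :=
  Lre_a IH (LK LD1_c1 LD2_c20 LD3_c14) (LK LD1_c2 LD2_c47 LD3_c48) Lrfl Lrfl
theorem f381647 : Led Lsl_ft (LP (LK LD1_c2 LD2_c47 LD3_c38)) = (LP (LK LD1_c1 LD2_c20 LD3_c14)) :=
  Lre_f IH (LK LD1_c2 LD2_c47 LD3_c38) (LK LD1_c1 LD2_c20 LD3_c14) Lrfl Lrfl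
theorem f382451 : Led Lsl_gt (LP (LK LD1_c2 LD2_c47 LD3_c38)) = (LP (LK LD1_c2 LD2_c44 LD3_c38)) :=
  Lgr Lrot5 (Lpr_ft (f381647 IH) (Lpr_at (f381646 IH) (Lpr_gf (K27.f382449 IH) (Lpn (LP (LK LD1_c2 LD2_c44 LD3_c38))))))
theorem f242710 : Led Lsl_ef (LP (LK LD1_c2 LD2_c14 LD3_c20)) = (LP (LK LD1_c1 LD2_c18 LD3_c39)) :=
  Lgr Lrot88 (Lpr_et (K36.f242663 IH) (Lpn (LP (LK LD1_c1 LD2_c18 LD3_c39))))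
theorem f502802 : Led Lsl_gt (LP (LK LD1_c2 LD2_c14 LD3_c20)) = v1773 :=
  Lgr Lrot131 (Lpr_ef (f242710 IH) (Lpr_dt (K27.f211945 IH) (Lpe (f382451 IH) (Lpe (K27.f381591 IH) (Lpr_gf (K27.f382406 IH) (Lpe (f382412 IH) (Lpr_dt (K8.f139225 IH) (Lpe (K6.f40709 IH) (Lpqs (f501404 IH) (Lpe (f452880 IH) (Lpr_et (f502799 IH) (Lpn v1773))))))))))))
def v1106 : LQ := Led Lsl_bt K35.v264
theorem f491533 : Led Lsl_bt K35.v264 = v1106 :=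
  Lrfl
theorem f451453 : Led Lsl_ct (LP (LK LD1_c0 LD2_c30 LD3_c28)) = K35.v264 :=
  Lgr Lrot152 (Lpe (K18.f242724 IH) (Lpr_df (K1.f25966 IH) (Lpe (K11.f210471 IH) (Lpr_ct (K11.f59026 IH) (Lpe (K11.f211010 IH) (Lpr_ct (K11.f20777 IH) (Lpe (K6.f21202 IH) (Lpr_cf (K36.f446801 IH) (Lpr_gf (K35.f451451 IH) (Lpn K35.v264))))))))))
theorem f491535 : Led Lsl_cf (LP (LK LD1_c2 LD2_c14 LD3_c20)) = v1106 :=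
  Lgr Lrot97 (Lpr_bt (K36.f177091 IH) (Lpr_ct (K13.f176880 IH) (Lpr_bt (K13.f242647 IH) (Lpr_ct (f451453 IH) (Lpr_bt (f491533 IH) (Lpn v1106))))))
theorem f452674 : Led Lsl_bt (LP (LK LD1_c0 LD2_c37 LD3_c48)) = (LP (LK LD1_c1 LD2_c21 LD3_c40)) :=
  Lre_b IH (LK LD1_c0 LD2_c37 LD3_c48) (LK LD1_c1 LD2_c21 LD3_c40) Lrfl Lrfl
theorem f537099 : K35.v264 = (LP (LK LD1_c0 LD2_c37 LD3_c48)) :=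
  Lefun (Lecon (K35.f451451 IH) (K35.f536885 IH).symm) (Lfl_gt (K11.f21185 IH))
theorem f537252 : v1106 = (LP (LK LD1_c1 LD2_c21 LD3_c40)) :=
  Lefun (Lecon (f491533 IH) (f537099 IH)) (f452674 IH)
theorem f537618 : (LP (LK LD1_c2 LD2_c14 LD3_c20)) = K36.v1563 :=
  Lefun (Lecon (Lfl_cf (f491535 IH)) (f537252 IH)) (K36.f499967 IH)
theorem f537839 : (LP (LK LD1_c1 LD2_c26 LD3_c6)) = v1773 :=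
  Lefun (Lecon (Lfl_gf (f499972 IH)) (f537618 IH).symm) (f502802 IH)
theorem f538022 : v1775 = K24.v458 :=
  Lefun (Lecon (f502813 IH) (f537839 IH).symm) (f452968 IH)
theorem f73174 : Led Lsl_et (LP (LK LD1_c1 LD2_c26 LD3_c10)) = (LP (LK LD1_c0 LD2_c39 LD3_c48)) :=
  Lre_e IH (LK LD1_c1 LD2_c26 LD3_c10) (LK LD1_c0 LD2_c39 LD3_c48) Lrfl Lrfl
theorem f68880 : Led Lsl_dt (LP (LK LD1_c1 LD2_c26 LD3_c10)) = (LP (LK LD1_c3 LD2_c0 LD3_c45)) :=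
  Lre_d IH (LK LD1_c1 LD2_c26 LD3_c10) (LK LD1_c3 LD2_c0 LD3_c45) Lrfl Lrfl
theorem f542147 : Led Lsl_gf (LP (LK LD1_c3 LD2_c0 LD3_c45)) = (LP (LK LD1_c2 LD2_c47 LD3_c43)) :=
  Lgr Lrot134 (Lpe (f68880 IH) (Lpr_et (f73174 IH) (Lpqs (K36.f501366 IH) (Lpe (f501346 IH) (Lpqs (f501380 IH) (Lpq (f538022 IH) (Lpe (f502809 IH) (Lpe (f75448 IH) (Lpe (K6.f72576 IH) (Lpe (K7.f72600 IH) (Lpr_et (K36.f500641 IH) (Lpqs (K36.f542139 IH) (Lpr_gt (K36.f381787 IH) (Lpr_dt (K27.f381392 IH) (Lpn (LP (LK LD1_c2 LD2_c47 LD3_c43)))))))))))))))))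
theorem f68883 : Led Lsl_dt (LP (LK LD1_c3 LD2_c0 LD3_c45)) = (LP (LK LD1_c1 LD2_c26 LD3_c10)) :=
  Lre_d IH (LK LD1_c3 LD2_c0 LD3_c45) (LK LD1_c1 LD2_c26 LD3_c10) Lrfl Lrfl
theorem f72822 : Led Lsl_et (LP (LK LD1_c0 LD2_c39 LD3_c48)) = (LP (LK LD1_c1 LD2_c26 LD3_c10)) :=
  Lre_e IH (LK LD1_c0 LD2_c39 LD3_c48) (LK LD1_c1 LD2_c26 LD3_c10) Lrfl Lrfl
theorem f72823 : Led Lsl_et (LP (LK LD1_c1 LD2_c20 LD3_c52)) = (LP (LK LD1_c0 LD2_c37 LD3_c20)) :=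
  Lre_e IH (LK LD1_c1 LD2_c20 LD3_c52) (LK LD1_c0 LD2_c37 LD3_c20) Lrfl Lrfl
theorem f72824 : Led Lsl_ct (LP (LK LD1_c1 LD2_c26 LD3_c10)) = (LP (LK LD1_c1 LD2_c20 LD3_c52)) :=
  Lgr Lrot15 (Lpe (f72822 IH) (Lpr_cf (K2.f72464 IH) (Lpe (f72823 IH) (Lpn (LP (LK LD1_c1 LD2_c20 LD3_c52))))))
theorem f73173 : Led Lsl_dt (LP (LK LD1_c2 LD2_c49 LD3_c28)) = (LP (LK LD1_c1 LD2_c20 LD3_c52)) :=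
  Lre_d IH (LK LD1_c2 LD2_c49 LD3_c28) (LK LD1_c1 LD2_c20 LD3_c52) Lrfl Lrfl
theorem f73175 : Led Lsl_gt (LP (LK LD1_c5 LD2_c47 LD3_c11)) = (LP (LK LD1_c2 LD2_c49 LD3_c28)) :=
  Lre_g IH (LK LD1_c5 LD2_c47 LD3_c11) (LK LD1_c2 LD2_c49 LD3_c28) Lrfl Lrfl
theorem f424002 : Led Lsl_bf (LP (LK LD1_c5 LD2_c43 LD3_c19)) = (LP (LK LD1_c4 LD2_c57 LD3_c15)) :=
  Lgr Lrot24 (Lpr_bt (K36.f423999 IH) (Lpn (LP (LK LD1_c4 LD2_c57 LD3_c15))))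
theorem f424029 : Led Lsl_gt (LP (LK LD1_c5 LD2_c43 LD3_c19)) = (LP (LK LD1_c3 LD2_c58 LD3_c58)) :=
  Lgr Lrot164 (Lpr_bf (f424002 IH) (Lpr_ct (K36.f411805 IH) (Lpe (K30.f174560 IH) (Lpe (K30.f174559 IH) (Lpe (K30.f174538 IH) (Lpe (K30.f174539 IH) (Lpe (K30.f174540 IH) (Lpe (K30.f174536 IH) (Lpe (K30.f174535 IH) (Lpr_bt (K35.f174558 IH) (Lpn (LP (LK LD1_c3 LD2_c58 LD3_c58)))))))))))))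
theorem f542151 : Led Lsl_df (LP (LK LD1_c5 LD2_c47 LD3_c11)) = (LP (LK LD1_c3 LD2_c58 LD3_c58)) :=
  Lgr Lrot153 (Lpr_gt (f73175 IH) (Lpr_dt (f73173 IH) (Lpe (f72824 IH) (Lpe (f68883 IH) (Lpr_gf (f542147 IH) (Lpe (K27.f381392 IH) (Lpe (K36.f381787 IH) (Lpe (K36.f381799 IH) (Lpr_gt (f424029 IH) (Lpn (LP (LK LD1_c3 LD2_c58 LD3_c58))))))))))))
theorem f80035 : Led Lsl_dt (LP (LK LD1_c1 LD2_c20 LD3_c52)) = (LP (LK LD1_c2 LD2_c49 LD3_c28)) :=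
  Lre_d IH (LK LD1_c1 LD2_c20 LD3_c52) (LK LD1_c2 LD2_c49 LD3_c28) Lrfl Lrfl
theorem f40151 : Led Lsl_et (LP (LK LD1_c0 LD2_c32 LD3_c53)) = (LP (LK LD1_c1 LD2_c10 LD3_c35)) :=
  Lre_e IH (LK LD1_c0 LD2_c32 LD3_c53) (LK LD1_c1 LD2_c10 LD3_c35) Lrfl Lrfl
theorem f542190 : Led Lsl_ef K35.v1383 = (LP (LK LD1_c3 LD2_c58 LD3_c58)) :=
  Lgr Lrot17 (Lpe (K35.f495247 IH) (Lpe (f40151 IH) (Lpr_dt (K8.f40318 IH) (Lpe (K0.f26396 IH) (Lpe (K4.f80030 IH) (Lpe (K4.f60930 IH) (Lpe (f72823 IH) (Lpr_dt (f80035 IH) (Lpe (f73175 IH) (Lpr_df (f542151 IH) (Lpn (LP (LK LD1_c3 LD2_c58 LD3_c58)))))))))))))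
theorem f100564 : Led Lsl_et (LP (LK LD1_c3 LD2_c58 LD3_c61)) = (LP (LK LD1_c1 LD2_c56 LD3_c14)) :=
  Lre_e IH (LK LD1_c3 LD2_c58 LD3_c61) (LK LD1_c1 LD2_c56 LD3_c14) Lrfl Lrfl
theorem f542191 : Led Lsl_bt K35.v1383 = (LP (LK LD1_c3 LD2_c58 LD3_c61)) :=
  Lgr Lrot119 (Lpr_ef (f542190 IH) (Lpe (K35.f174558 IH) (Lpe (f100564 IH) (Lpn (LP (LK LD1_c3 LD2_c58 LD3_c61))))))
theorem f381705 : Led Lsl_bt (LP (LK LD1_c1 LD2_c20 LD3_c11)) = (LP (LK LD1_c1 LD2_c20 LD3_c13)) :=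
  Lgr Lrot127 (Lpr_bf (K27.f381687 IH) (Lpn (LP (LK LD1_c1 LD2_c20 LD3_c13))))
theorem f423995 : Led Lsl_gf (LP (LK LD1_c2 LD2_c47 LD3_c44)) = (LP (LK LD1_c2 LD2_c47 LD3_c13)) :=
  Lgr Lrot76 (Lpe (K27.f381649 IH) (Lpe (K27.f381716 IH) (Lpr_gt (K36.f423993 IH) (Lpn (LP (LK LD1_c2 LD2_c47 LD3_c13))))))
theorem f172440 : Led Lsl_bt (LP (LK LD1_c4 LD2_c57 LD3_c7)) = (LP (LK LD1_c5 LD2_c41 LD3_c35)) :=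
  Lre_b IH (LK LD1_c4 LD2_c57 LD3_c7) (LK LD1_c5 LD2_c41 LD3_c35) Lrfl Lrfl
theorem f542228 : Led Lsl_gf (LP (LK LD1_c5 LD2_c41 LD3_c35)) = (LP (LK LD1_c3 LD2_c58 LD3_c61)) :=
  Lgr Lrot124 (Lpe (f172440 IH) (Lpr_ct (K31.f172446 IH) (Lpe (f423995 IH) (Lpe (K27.f381643 IH) (Lpr_bt (f381705 IH) (Lpr_gt (K36.f381788 IH) (Lpr_ct (K36.f381791 IH) (Lpr_gt (f424029 IH) (Lpr_cf (K35.f495250 IH) (Lpr_bt (f542191 IH) (Lpn (LP (LK LD1_c3 LD2_c58 LD3_c61)))))))))))))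
theorem f412004 : Led Lsl_dt (LP (LK LD1_c5 LD2_c41 LD3_c35)) = (LP (LK LD1_c11 LD2_c13 LD3_c21)) :=
  Lre_d IH (LK LD1_c5 LD2_c41 LD3_c35) (LK LD1_c11 LD2_c13 LD3_c21) Lrfl Lrfl
theorem f386183 : Led Lsl_ct (LP (LK LD1_c5 LD2_c45 LD3_c9)) = (LP (LK LD1_c11 LD2_c13 LD3_c21)) :=
  Lre_c IH (LK LD1_c5 LD2_c45 LD3_c9) (LK LD1_c11 LD2_c13 LD3_c21) Lrfl Lrfl
theorem f210429 : Led Lsl_dt (LP (LK LD1_c8 LD2_c44 LD3_c53)) = (LP (LK LD1_c16 LD2_c22 LD3_c26)) :=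
  Lre_d IH (LK LD1_c8 LD2_c44 LD3_c53) (LK LD1_c16 LD2_c22 LD3_c26) Lrfl Lrfl
theorem f385233 : Led Lsl_ff (LP (LK LD1_c4 LD2_c33 LD3_c33)) = (LP (LK LD1_c2 LD2_c48 LD3_c22)) :=
  Lgr Lrot3 (Lpr_ft (K30.f385214 IH) (Lpn (LP (LK LD1_c2 LD2_c48 LD3_c22))))
theorem f175998 : Led Lsl_at (LP (LK LD1_c4 LD2_c33 LD3_c33)) = (LP (LK LD1_c9 LD2_c4 LD3_c39)) :=
  Lre_a IH (LK LD1_c4 LD2_c33 LD3_c33) (LK LD1_c9 LD2_c4 LD3_c39) Lrfl Lrfl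
theorem f174717 : Led Lsl_gt (LP (LK LD1_c2 LD2_c48 LD3_c22)) = (LP (LK LD1_c5 LD2_c45 LD3_c9)) :=
  Lre_g IH (LK LD1_c2 LD2_c48 LD3_c22) (LK LD1_c5 LD2_c45 LD3_c9) Lrfl Lrfl
theorem f386181 : Led Lsl_gf (LP (LK LD1_c9 LD2_c4 LD3_c39)) = (LP (LK LD1_c5 LD2_c45 LD3_c9)) :=
  Lgr Lrot76 (Lpe (f175998 IH) (Lpr_ff (f385233 IH) (Lpr_gt (f174717 IH) (Lpn (LP (LK LD1_c5 LD2_c45 LD3_c9))))))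
theorem f174355 : Led Lsl_gt (LP (LK LD1_c5 LD2_c41 LD3_c54)) = (LP (LK LD1_c11 LD2_c14 LD3_c1)) :=
  Lre_g IH (LK LD1_c5 LD2_c41 LD3_c54) (LK LD1_c11 LD2_c14 LD3_c1) Lrfl Lrfl
theorem f411970 : Led Lsl_df (LP (LK LD1_c5 LD2_c45 LD3_c9)) = (LP (LK LD1_c11 LD2_c14 LD3_c1)) :=
  Lgr Lrot153 (Lpe (f386181 IH) (Lpr_dt (K30.f175990 IH) (Lpe (K30.f385563 IH) (Lpe (f210429 IH) (Lpr_gf (K31.f406937 IH) (Lpe (K31.f411935 IH) (Lpr_gf (K31.f411949 IH) (Lpe (K16.f174352 IH) (Lpr_gt (f174355 IH) (Lpn (LP (LK LD1_c11 LD2_c14 LD3_c1))))))))))))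
theorem f174386 : Led Lsl_gt (LP (LK LD1_c5 LD2_c41 LD3_c53)) = (LP (LK LD1_c2 LD2_c46 LD3_c57)) :=
  Lre_g IH (LK LD1_c5 LD2_c41 LD3_c53) (LK LD1_c2 LD2_c46 LD3_c57) Lrfl Lrfl
theorem f157832 : Led Lsl_dt (LP (LK LD1_c7 LD2_c59 LD3_c19)) = (LP (LK LD1_c3 LD2_c58 LD3_c61)) :=
  Lre_d IH (LK LD1_c7 LD2_c59 LD3_c19) (LK LD1_c3 LD2_c58 LD3_c61) Lrfl Lrfl
theorem f172213 : Led Lsl_ft (LP (LK LD1_c5 LD2_c40 LD3_c56)) = (LP (LK LD1_c11 LD2_c12 LD3_c25)) :=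
  Lre_f IH (LK LD1_c5 LD2_c40 LD3_c56) (LK LD1_c11 LD2_c12 LD3_c25) Lrfl Lrfl
theorem f172214 : Led Lsl_dt (LP (LK LD1_c4 LD2_c6 LD3_c7)) = (LP (LK LD1_c5 LD2_c40 LD3_c56)) :=
  Lgr Lrot60 (Lpe (K9.f55552 IH) (Lpr_df (K17.f172204 IH) (Lpe (f172213 IH) (Lpn (LP (LK LD1_c5 LD2_c40 LD3_c56))))))
theorem f172216 : Led Lsl_bt (LP (LK LD1_c5 LD2_c40 LD3_c56)) = (LP (LK LD1_c11 LD2_c12 LD3_c21)) :=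
  Lre_b IH (LK LD1_c5 LD2_c40 LD3_c56) (LK LD1_c11 LD2_c12 LD3_c21) Lrfl Lrfl
theorem f172217 : Led Lsl_df (LP (LK LD1_c8 LD2_c12 LD3_c50)) = (LP (LK LD1_c11 LD2_c12 LD3_c21)) :=
  Lgr Lrot12 (Lpr_bt (K9.f55538 IH) (Lpr_dt (f172214 IH) (Lpr_bt (f172216 IH) (Lpn (LP (LK LD1_c11 LD2_c12 LD3_c21))))))
theorem f60820 : Led Lsl_et (LP (LK LD1_c8 LD2_c12 LD3_c50)) = (LP (LK LD1_c4 LD2_c6 LD3_c1)) :=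
  Lre_e IH (LK LD1_c8 LD2_c12 LD3_c50) (LK LD1_c4 LD2_c6 LD3_c1) Lrfl Lrfl
theorem f172224 : Led Lsl_et (LP (LK LD1_c5 LD2_c40 LD3_c54)) = (LP (LK LD1_c11 LD2_c12 LD3_c21)) :=
  Lre_e IH (LK LD1_c5 LD2_c40 LD3_c54) (LK LD1_c11 LD2_c12 LD3_c21) Lrfl Lrfl
theorem f172225 : Led Lsl_dt (LP (LK LD1_c3 LD2_c4 LD3_c50)) = (LP (LK LD1_c5 LD2_c40 LD3_c54)) :=
  Lgr Lrot77 (Lpe (K2.f60810 IH) (Lpe (f60819 IH) (Lpe (f60820 IH) (Lpr_df (f172217 IH) (Lpe (f172224 IH) (Lpn (LP (LK LD1_c5 LD2_c40 LD3_c54))))))))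
theorem f60800 : Led Lsl_dt (LP (LK LD1_c3 LD2_c4 LD3_c49)) = (LP (LK LD1_c1 LD2_c28 LD3_c27)) :=
  Lre_d IH (LK LD1_c3 LD2_c4 LD3_c49) (LK LD1_c1 LD2_c28 LD3_c27) Lrfl Lrfl
theorem f172233 : Led Lsl_ff (LP (LK LD1_c3 LD2_c4 LD3_c49)) = (LP (LK LD1_c5 LD2_c40 LD3_c54)) :=
  Lgr Lrot19 (Lpr_dt (f60800 IH) (Lpr_ft (K2.f60795 IH) (Lpr_dt (f172225 IH) (Lpn (LP (LK LD1_c5 LD2_c40 LD3_c54))))))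
theorem f99576 : Led Lsl_et (LP (LK LD1_c0 LD2_c24 LD3_c55)) = (LP (LK LD1_c0 LD2_c54 LD3_c58)) :=
  Lre_e IH (LK LD1_c0 LD2_c24 LD3_c55) (LK LD1_c0 LD2_c54 LD3_c58) Lrfl Lrfl
theorem f100565 : Led Lsl_dt (LP (LK LD1_c3 LD2_c58 LD3_c61)) = (LP (LK LD1_c7 LD2_c59 LD3_c19)) :=
  Lre_d IH (LK LD1_c3 LD2_c58 LD3_c61) (LK LD1_c7 LD2_c59 LD3_c19) Lrfl Lrfl
theorem f157827 : Led Lsl_gt (LP (LK LD1_c7 LD2_c59 LD3_c19)) = (LP (LK LD1_c6 LD2_c15 LD3_c24)) :=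
  Lgr Lrot112 (Lpe (f100565 IH) (Lpr_et (f100564 IH) (Lpe (K30.f157826 IH) (Lpe (f99576 IH) (Lpr_dt (K1.f40035 IH) (Lpe (K8.f36251 IH) (Lpr_df (K8.f157809 IH) (Lpe (K8.f73470 IH) (Lpe (K2.f60834 IH) (Lpr_dt (K8.f60875 IH) (Lpn (LP (LK LD1_c6 LD2_c15 LD3_c24)))))))))))))
theorem f172239 : Led Lsl_gf (LP (LK LD1_c7 LD2_c59 LD3_c19)) = (LP (LK LD1_c5 LD2_c40 LD3_c54)) :=
  Lgr Lrot47 (Lpr_gt (f157827 IH) (Lpe (K2.f73133 IH) (Lpr_ff (f172233 IH) (Lpn (LP (LK LD1_c5 LD2_c40 LD3_c54))))))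
theorem f542232 : Led Lsl_cf (LP (LK LD1_c5 LD2_c41 LD3_c53)) = (LP (LK LD1_c5 LD2_c40 LD3_c54)) :=
  Lgr Lrot166 (Lpr_gt (f174386 IH) (Lpr_dt (K16.f174362 IH) (Lpr_gt (f174355 IH) (Lpe (f411970 IH) (Lpr_ct (f386183 IH) (Lpe (f412004 IH) (Lpr_gf (f542228 IH) (Lpe (f157832 IH) (Lpr_gf (f172239 IH) (Lpn (LP (LK LD1_c5 LD2_c40 LD3_c54))))))))))))
theorem f268980 : Led Lsl_ff (LP (LK LD1_c5 LD2_c41 LD3_c33)) = (LP (LK LD1_c9 LD2_c2 LD3_c32)) :=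
  Lgr Lrot30 (Lpr_at (K20.f174326 IH) (Lpr_ft (K16.f268976 IH) (Lpr_at (K16.f268979 IH) (Lpn (LP (LK LD1_c9 LD2_c2 LD3_c32))))))
theorem f411904 : Led Lsl_gf (LP (LK LD1_c5 LD2_c41 LD3_c53)) = (LP (LK LD1_c9 LD2_c2 LD3_c32)) :=
  Lgr Lrot47 (Lpr_gt (f174386 IH) (Lpe (K20.f174326 IH) (Lpr_ff (f268980 IH) (Lpn (LP (LK LD1_c9 LD2_c2 LD3_c32))))))
theorem f268831 : Led Lsl_bf (LP (LK LD1_c2 LD2_c47 LD3_c17)) = (LP (LK LD1_c4 LD2_c32 LD3_c29)) :=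
  Lgr Lrot24 (Lpr_bt (K16.f268819 IH) (Lpn (LP (LK LD1_c4 LD2_c32 LD3_c29))))
theorem f172232 : Led Lsl_bt (LP (LK LD1_c5 LD2_c40 LD3_c54)) = (LP (LK LD1_c2 LD2_c46 LD3_c24)) :=
  Lre_b IH (LK LD1_c5 LD2_c40 LD3_c54) (LK LD1_c2 LD2_c46 LD3_c24) Lrfl Lrfl
theorem f172169 : Led Lsl_ct (LP (LK LD1_c1 LD2_c19 LD3_c34)) = (LP (LK LD1_c2 LD2_c46 LD3_c25)) :=
  Lre_c IH (LK LD1_c1 LD2_c19 LD3_c34) (LK LD1_c2 LD2_c46 LD3_c25) Lrfl Lrfl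
theorem f22414 : Led Lsl_dt (LP (LK LD1_c1 LD2_c19 LD3_c34)) = (LP (LK LD1_c0 LD2_c36 LD3_c43)) :=
  Lre_d IH (LK LD1_c1 LD2_c19 LD3_c34) (LK LD1_c0 LD2_c36 LD3_c43) Lrfl Lrfl
theorem f172279 : Led Lsl_ct (LP (LK LD1_c2 LD2_c46 LD3_c25)) = (LP (LK LD1_c1 LD2_c19 LD3_c34)) :=
  Lre_c IH (LK LD1_c2 LD2_c46 LD3_c25) (LK LD1_c1 LD2_c19 LD3_c34) Lrfl Lrfl
theorem f172281 : Led Lsl_gt (LP (LK LD1_c5 LD2_c40 LD3_c57)) = (LP (LK LD1_c2 LD2_c46 LD3_c25)) :=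
  Lre_g IH (LK LD1_c5 LD2_c40 LD3_c57) (LK LD1_c2 LD2_c46 LD3_c25) Lrfl Lrfl
theorem f412092 : Led Lsl_cf (LP (LK LD1_c5 LD2_c40 LD3_c57)) = (LP (LK LD1_c2 LD2_c47 LD3_c8)) :=
  Lgr Lrot188 (Lpr_gt (f172281 IH) (Lpr_ct (f172279 IH) (Lpr_dt (f22414 IH) (Lpe (K35.f22416 IH) (Lpe (K9.f60155 IH) (Lpe (K10.f60157 IH) (Lpe (K32.f268715 IH) (Lpr_dt (K36.f268721 IH) (Lpe (K36.f68917 IH) (Lpn (LP (LK LD1_c2 LD2_c47 LD3_c8))))))))))))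
theorem f412102 : Led Lsl_ft (LP (LK LD1_c5 LD2_c40 LD3_c57)) = (LP (LK LD1_c3 LD2_c0 LD3_c57)) :=
  Lgr Lrot4 (Lpr_cf (f412092 IH) (Lpr_ff (K36.f68807 IH) (Lpe (K1.f9525 IH) (Lpn (LP (LK LD1_c3 LD2_c0 LD3_c57))))))
theorem f60009 : Led Lsl_et (LP (LK LD1_c4 LD2_c40 LD3_c61)) = (LP (LK LD1_c3 LD2_c0 LD3_c57)) :=
  Lre_e IH (LK LD1_c4 LD2_c40 LD3_c61) (LK LD1_c3 LD2_c0 LD3_c57) Lrfl Lrfl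
theorem f60010 : Led Lsl_at (LP (LK LD1_c3 LD2_c0 LD3_c57)) = (LP (LK LD1_c2 LD2_c49 LD3_c15)) :=
  Lgr Lrot80 (Lpe (f60009 IH) (Lpe (K17.f60008 IH) (Lpr_ef (K1.f60004 IH) (Lpn (LP (LK LD1_c2 LD2_c49 LD3_c15))))))
theorem f412291 : Led Lsl_gt (LP (LK LD1_c2 LD2_c46 LD3_c25)) = (LP (LK LD1_c2 LD2_c49 LD3_c15)) :=
  Lgr Lrot46 (Lpe (f172281 IH) (Lpr_ft (f412102 IH) (Lpr_at (f60010 IH) (Lpn (LP (LK LD1_c2 LD2_c49 LD3_c15))))))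
theorem f60017 : Led Lsl_ct (LP (LK LD1_c1 LD2_c20 LD3_c46)) = (LP (LK LD1_c2 LD2_c49 LD3_c15)) :=
  Lre_c IH (LK LD1_c1 LD2_c20 LD3_c46) (LK LD1_c2 LD2_c49 LD3_c15) Lrfl Lrfl
theorem f60141 : Led Lsl_bt (LP (LK LD1_c1 LD2_c20 LD3_c46)) = (LP (LK LD1_c2 LD2_c49 LD3_c9)) :=
  Lre_b IH (LK LD1_c1 LD2_c20 LD3_c46) (LK LD1_c2 LD2_c49 LD3_c9) Lrfl Lrfl
theorem f542254 : Led Lsl_gf (LP (LK LD1_c2 LD2_c47 LD3_c17)) = (LP (LK LD1_c2 LD2_c49 LD3_c9)) :=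
  Lgr Lrot124 (Lpr_bf (f268831 IH) (Lpr_ct (K16.f268835 IH) (Lpe (f411904 IH) (Lpr_cf (f542232 IH) (Lpr_bt (f172232 IH) (Lpr_gt (K9.f22415 IH) (Lpr_ct (f172169 IH) (Lpr_gt (f412291 IH) (Lpe (f60017 IH) (Lpr_bt (f60141 IH) (Lpn (LP (LK LD1_c2 LD2_c49 LD3_c9)))))))))))))
theorem f268895 : Led Lsl_ff (LP (LK LD1_c1 LD2_c20 LD3_c1)) = (LP (LK LD1_c2 LD2_c13 LD3_c10)) :=
  Lgr Lrot25 (Lpr_bt (K31.f174222 IH) (Lpr_ft (K16.f268893 IH) (Lpr_bt (K20.f174453 IH) (Lpn (LP (LK LD1_c2 LD2_c13 LD3_c10))))))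
theorem f542256 : Led Lsl_gt (LP (LK LD1_c2 LD2_c13 LD3_c10)) = (LP (LK LD1_c2 LD2_c49 LD3_c9)) :=
  Lgr Lrot5 (Lpe (f268895 IH) (Lpr_at (K16.f268826 IH) (Lpr_gf (f542254 IH) (Lpn (LP (LK LD1_c2 LD2_c49 LD3_c9))))))
theorem f181724 : Led Lsl_et (LP (LK LD1_c1 LD2_c3 LD3_c39)) = (LP (LK LD1_c2 LD2_c13 LD3_c11)) :=
  Lre_e IH (LK LD1_c1 LD2_c3 LD3_c39) (LK LD1_c2 LD2_c13 LD3_c11) Lrfl Lrfl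
theorem f73015 : Led Lsl_dt (LP (LK LD1_c1 LD2_c20 LD3_c43)) = (LP (LK LD1_c2 LD2_c49 LD3_c9)) :=
  Lre_d IH (LK LD1_c1 LD2_c20 LD3_c43) (LK LD1_c2 LD2_c49 LD3_c9) Lrfl Lrfl
theorem f73051 : Led Lsl_et (LP (LK LD1_c1 LD2_c20 LD3_c43)) = (LP (LK LD1_c0 LD2_c37 LD3_c16)) :=
  Lre_e IH (LK LD1_c1 LD2_c20 LD3_c43) (LK LD1_c0 LD2_c37 LD3_c16) Lrfl Lrfl
theorem f26616 : Led Lsl_bt (LP (LK LD1_c0 LD2_c3 LD3_c39)) = (LP (LK LD1_c0 LD2_c3 LD3_c39)) :=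
  Lgr Lrot95 (Lpr_df (K0.f26612 IH) (Lpr_bf (K2.f20286 IH) (Lpe (K4.f26610 IH) (Lpn (LP (LK LD1_c0 LD2_c3 LD3_c39))))))
theorem f59799 : Led Lsl_dt (LP (LK LD1_c0 LD2_c6 LD3_c3)) = (LP (LK LD1_c0 LD2_c7 LD3_c25)) :=
  Lgr Lrot27 (Lpe (K0.f7110 IH) (Lpe (K0.f7109 IH) (Lpe (K0.f20610 IH) (Lpe (K0.f27186 IH) (Lpe (K1.f194 IH) (Lpr_gt (K1.f58941 IH) (Lpr_ct (K1.f21181 IH) (Lpr_gt (K1.f59724 IH) (Lpr_ct (K6.f59796 IH) (Lpn (LP (LK LD1_c0 LD2_c7 LD3_c25))))))))))))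
theorem f160801 : Led Lsl_dt (LP (LK LD1_c1 LD2_c20 LD3_c40)) = (LP (LK LD1_c0 LD2_c44 LD3_c44)) :=
  Lgr Lrot182 (Lpe (K4.f73023 IH) (Lpe (K5.f59874 IH) (Lpe (K1.f56568 IH) (Lpe (f59799 IH) (Lpe (K0.f7112 IH) (Lpe (f26616 IH) (Lpr_cf (K0.f26620 IH) (Lpe (K0.f13429 IH) (Lpe (K0.f7308 IH) (Lpe (K0.f9717 IH) (Lpr_cf (K0.f13456 IH) (Lpr_df (K24.f58922 IH) (Lpe (K1.f25133 IH) (Lpe (K3.f58914 IH) (Lpe (K5.f61864 IH) (Lpe (K8.f91437 IH) (Lpe (K8.f110447 IH) (Lpr_bf (K8.f160795 IH) (Lpe (K6.f56752 IH) (Lpn (LP (LK LD1_c0 LD2_c44 LD3_c44))))))))))))))))))))))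
theorem f116972 : Led Lsl_et (LP (LK LD1_c0 LD2_c29 LD3_c41)) = (LP (LK LD1_c1 LD2_c3 LD3_c47)) :=
  Lre_e IH (LK LD1_c0 LD2_c29 LD3_c41) (LK LD1_c1 LD2_c3 LD3_c47) Lrfl Lrfl
def v1229 : LQ := Led Lsl_gt (LP (LK LD1_c1 LD2_c3 LD3_c47))
theorem f494159 : Led Lsl_gt (LP (LK LD1_c1 LD2_c3 LD3_c47)) = v1229 :=
  Lrfl
theorem f542289 : (LP (LK LD1_c2 LD2_c13 LD3_c11)) = v1229 :=
  (Llr Lrot122 (Lpe (f181724 IH) (Lpr_dt (K31.f174473 IH) (Lpr_gt (f542256 IH) (Lpe (f73015 IH) (Lpr_et (f73051 IH) (Lpr_gt (K4.f73023 IH) (Lpr_dt (f160801 IH) (Lpr_gt (K4.f40100 IH) (Lpe (K7.f116898 IH) (Lpr_et (f116972 IH) (Lpr_gt (f494159 IH) (Lpn v1229))))))))))))).symm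
theorem f494160 : Led Lsl_ft (LP (LK LD1_c1 LD2_c3 LD3_c47)) = (LP (LK LD1_c2 LD2_c13 LD3_c24)) :=
  Lre_f IH (LK LD1_c1 LD2_c3 LD3_c47) (LK LD1_c2 LD2_c13 LD3_c24) Lrfl Lrfl
theorem f494161 : Led Lsl_at (LP (LK LD1_c2 LD2_c13 LD3_c24)) = (LP (LK LD1_c1 LD2_c3 LD3_c49)) :=
  Lre_a IH (LK LD1_c2 LD2_c13 LD3_c24) (LK LD1_c1 LD2_c3 LD3_c49) Lrfl Lrfl
theorem f494162 : Led Lsl_gf (LP (LK LD1_c1 LD2_c3 LD3_c49)) = v1229 :=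
  Lgr Lrot76 (Lpe (f494161 IH) (Lpe (f494160 IH) (Lpr_gt (f494159 IH) (Lpn v1229))))
theorem f101337 : Led Lsl_ct (LP (LK LD1_c2 LD2_c9 LD3_c10)) = (LP (LK LD1_c1 LD2_c3 LD3_c49)) :=
  Lre_c IH (LK LD1_c2 LD2_c9 LD3_c10) (LK LD1_c1 LD2_c3 LD3_c49) Lrfl Lrfl
theorem f39194 : Led Lsl_bt (LP (LK LD1_c2 LD2_c9 LD3_c10)) = (LP (LK LD1_c1 LD2_c1 LD3_c46)) :=
  Lre_b IH (LK LD1_c2 LD2_c9 LD3_c10) (LK LD1_c1 LD2_c1 LD3_c46) Lrfl Lrfl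
theorem f181299 : Led Lsl_ct (LP (LK LD1_c4 LD2_c32 LD3_c22)) = (LP (LK LD1_c2 LD2_c13 LD3_c15)) :=
  Lre_c IH (LK LD1_c4 LD2_c32 LD3_c22) (LK LD1_c2 LD2_c13 LD3_c15) Lrfl Lrfl
theorem f181267 : Led Lsl_bt (LP (LK LD1_c2 LD2_c46 LD3_c7)) = (LP (LK LD1_c1 LD2_c19 LD3_c26)) :=
  Lre_b IH (LK LD1_c2 LD2_c46 LD3_c7) (LK LD1_c1 LD2_c19 LD3_c26) Lrfl Lrfl
theorem f181268 : Led Lsl_ct (LP (LK LD1_c5 LD2_c40 LD3_c19)) = (LP (LK LD1_c2 LD2_c46 LD3_c7)) :=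
  Lre_c IH (LK LD1_c5 LD2_c40 LD3_c19) (LK LD1_c2 LD2_c46 LD3_c7) Lrfl Lrfl
theorem f181269 : Led Lsl_bt (LP (LK LD1_c4 LD2_c32 LD3_c22)) = (LP (LK LD1_c5 LD2_c40 LD3_c19)) :=
  Lgr Lrot128 (Lpe (K30.f174543 IH) (Lpr_bf (K30.f181227 IH) (Lpe (K31.f181266 IH) (Lpe (f181267 IH) (Lpe (f181268 IH) (Lpn (LP (LK LD1_c5 LD2_c40 LD3_c19))))))))
theorem f542301 : Led Lsl_gf (LP (LK LD1_c4 LD2_c22 LD3_c55)) = (LP (LK LD1_c5 LD2_c40 LD3_c19)) :=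
  Lgr Lrot181 (Lpr_ct (K16.f181719 IH) (Lpqs (f542289 IH) (Lpe (f494162 IH) (Lpe (f101337 IH) (Lpr_bt (f39194 IH) (Lpr_gt (K13.f181324 IH) (Lpe (K16.f181341 IH) (Lpr_ct (K16.f174523 IH) (Lpr_gt (K30.f174542 IH) (Lpe (f181299 IH) (Lpr_bt (f181269 IH) (Lpn (LP (LK LD1_c5 LD2_c40 LD3_c19))))))))))))))
theorem f80983 : Led Lsl_bt (LP (LK LD1_c2 LD2_c8 LD3_c54)) = (LP (LK LD1_c4 LD2_c22 LD3_c55)) :=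
  Lre_b IH (LK LD1_c2 LD2_c8 LD3_c54) (LK LD1_c4 LD2_c22 LD3_c55) Lrfl Lrfl
theorem f542305 : Led Lsl_bt (LP (LK LD1_c4 LD2_c23 LD3_c0)) = (LP (LK LD1_c4 LD2_c32 LD3_c32)) :=
  Lgr Lrot130 (Lpr_ct (K13.f227685 IH) (Lpe (K10.f80971 IH) (Lpe (K13.f80958 IH) (Lpr_bt (f80983 IH) (Lpr_gf (f542301 IH) (Lpe (f181269 IH) (Lpr_ct (f181299 IH) (Lpe (K30.f174542 IH) (Lpe (K16.f174523 IH) (Lpe (K30.f181300 IH) (Lpn (LP (LK LD1_c4 LD2_c32 LD3_c32)))))))))))))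
theorem f542311 : Led Lsl_ef (LP (LK LD1_c4 LD2_c25 LD3_c5)) = (LP (LK LD1_c4 LD2_c32 LD3_c32)) :=
  Lgr Lrot29 (Lpr_bt (K36.f227660 IH) (Lpe (K13.f227686 IH) (Lpr_bt (f542305 IH) (Lpn (LP (LK LD1_c4 LD2_c32 LD3_c32))))))
theorem f262304 : Led Lsl_af (LP (LK LD1_c2 LD2_c9 LD3_c12)) = (LP (LK LD1_c3 LD2_c57 LD3_c33)) :=
  Lgr Lrot0 (Lpr_at (K15.f262302 IH) (Lpn (LP (LK LD1_c3 LD2_c57 LD3_c33))))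
theorem f411732 : Led Lsl_at (LP (LK LD1_c11 LD2_c13 LD3_c22)) = (LP (LK LD1_c7 LD2_c56 LD3_c32)) :=
  Lgr Lrot67 (Lpr_bf (K31.f411730 IH) (Lpe (K18.f201529 IH) (Lpe (K18.f201462 IH) (Lpr_af (f262304 IH) (Lpe (K30.f39895 IH) (Lpn (LP (LK LD1_c7 LD2_c56 LD3_c32))))))))
theorem f411693 : Led Lsl_ff (LP (LK LD1_c11 LD2_c13 LD3_c22)) = (LP (LK LD1_c8 LD2_c44 LD3_c52)) :=
  Lgr Lrot23 (Lpr_ct (K31.f411685 IH) (Lpr_ft (K31.f385612 IH) (Lpr_ct (K30.f210432 IH) (Lpn (LP (LK LD1_c8 LD2_c44 LD3_c52))))))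
theorem f411756 : Led Lsl_gt (LP (LK LD1_c8 LD2_c44 LD3_c52)) = (LP (LK LD1_c9 LD2_c2 LD3_c35)) :=
  Lgr Lrot5 (Lpe (f411693 IH) (Lpr_at (f411732 IH) (Lpe (K30.f411658 IH) (Lpn (LP (LK LD1_c9 LD2_c2 LD3_c35))))))
theorem f385264 : Led Lsl_ft (LP (LK LD1_c3 LD2_c58 LD3_c52)) = (LP (LK LD1_c2 LD2_c26 LD3_c4)) :=
  Lgr Lrot4 (Lpe (K30.f169331 IH) (Lpr_ff (K30.f385258 IH) (Lpe (K30.f172617 IH) (Lpn (LP (LK LD1_c2 LD2_c26 LD3_c4))))))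
theorem f172655 : Led Lsl_at (LP (LK LD1_c2 LD2_c26 LD3_c4)) = (LP (LK LD1_c4 LD2_c56 LD3_c35)) :=
  Lre_a IH (LK LD1_c2 LD2_c26 LD3_c4) (LK LD1_c4 LD2_c56 LD3_c35) Lrfl Lrfl
theorem f541657 : Led Lsl_gt (LP (LK LD1_c6 LD2_c14 LD3_c16)) = (LP (LK LD1_c4 LD2_c56 LD3_c35)) :=
  Lgr Lrot46 (Lpr_gf (K35.f541561 IH) (Lpr_ft (f385264 IH) (Lpr_at (f172655 IH) (Lpn (LP (LK LD1_c4 LD2_c56 LD3_c35))))))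
theorem f60660 : Led Lsl_dt (LP (LK LD1_c3 LD2_c4 LD3_c1)) = (LP (LK LD1_c6 LD2_c14 LD3_c15)) :=
  Lre_d IH (LK LD1_c3 LD2_c4 LD3_c1) (LK LD1_c6 LD2_c14 LD3_c15) Lrfl Lrfl
theorem f176805 : Led Lsl_ct (LP (LK LD1_c4 LD2_c39 LD3_c16)) = (LP (LK LD1_c2 LD2_c16 LD3_c37)) :=
  Lre_c IH (LK LD1_c4 LD2_c39 LD3_c16) (LK LD1_c2 LD2_c16 LD3_c37) Lrfl Lrfl
theorem f539966 : Led Lsl_et (LP (LK LD1_c3 LD2_c3 LD3_c15)) = (LP (LK LD1_c4 LD2_c39 LD3_c16)) :=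
  Lgr Lrot158 (Lpr_cf (K36.f161382 IH) (Lpr_ef (K36.f539963 IH) (Lpe (f176805 IH) (Lpn (LP (LK LD1_c4 LD2_c39 LD3_c16))))))
theorem f542317 : Led Lsl_gt (LP (LK LD1_c4 LD2_c25 LD3_c5)) = (LP (LK LD1_c4 LD2_c39 LD3_c16)) :=
  Lgr Lrot131 (Lpr_ef (f542311 IH) (Lpr_dt (K30.f281787 IH) (Lpe (f411756 IH) (Lpr_df (K30.f210433 IH) (Lpe (f541657 IH) (Lpe (K2.f60652 IH) (Lpr_dt (f60660 IH) (Lpr_gf (K8.f73327 IH) (Lpr_df (K8.f99507 IH) (Lpr_et (f539966 IH) (Lpn (LP (LK LD1_c4 LD2_c39 LD3_c16)))))))))))))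
theorem f227674 : Led Lsl_bt (LP (LK LD1_c2 LD2_c9 LD3_c60)) = (LP (LK LD1_c4 LD2_c25 LD3_c5)) :=
  Lre_b IH (LK LD1_c2 LD2_c9 LD3_c60) (LK LD1_c4 LD2_c25 LD3_c5) Lrfl Lrfl
theorem f82069 : Led Lsl_bt (LP (LK LD1_c2 LD2_c26 LD3_c55)) = (LP (LK LD1_c2 LD2_c54 LD3_c33)) :=
  Lgr Lrot119 (Lpe (K1.f37496 IH) (Lpe (K20.f31763 IH) (Lpr_ef (K2.f82065 IH) (Lpn (LP (LK LD1_c2 LD2_c54 LD3_c33))))))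
theorem f20339 : Led Lsl_ft (LP (LK LD1_c1 LD2_c4 LD3_c24)) = (LP (LK LD1_c2 LD2_c14 LD3_c36)) :=
  Lre_f IH (LK LD1_c1 LD2_c4 LD3_c24) (LK LD1_c2 LD2_c14 LD3_c36) Lrfl Lrfl
def v1740 : LQ := Led Lsl_at (LP (LK LD1_c1 LD2_c24 LD3_c43))
theorem f501211 : Led Lsl_at (LP (LK LD1_c1 LD2_c24 LD3_c43)) = v1740 :=
  Lrfl
theorem f501212 : Led Lsl_af (LP (LK LD1_c1 LD2_c24 LD3_c43)) = v1740 :=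
  Lgr Lrot0 (Lpr_at (f501211 IH) (Lpn v1740))
theorem f539938 : v1740 = (LP (LK LD1_c2 LD2_c14 LD3_c36)) :=
  (Llr Lrot45 (Lpe (f501212 IH) (Lpr_ft (K35.f494624 IH) (Lpq (K35.f537701 IH) (Lpr_at (K35.f20365 IH) (Lpr_ft (f20339 IH) (Lpn (LP (LK LD1_c2 LD2_c14 LD3_c36))))))))).symm
def v1739 : LQ := Led Lsl_gf (LP (LK LD1_c1 LD2_c24 LD3_c43))
theorem f501209 : Led Lsl_gf (LP (LK LD1_c1 LD2_c24 LD3_c43)) = v1739 :=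
  Lrfl
theorem f539943 : K36.v1259 = v1739 :=
  (Llr Lrot5 (Lpe (K36.f494354 IH) (Lpr_ft (f20339 IH) (Lpq (f539938 IH) (Lpe (f501212 IH) (Lpr_gf (f501209 IH) (Lpn v1739))))))).symm
theorem f176797 : Led Lsl_bt (LP (LK LD1_c1 LD2_c5 LD3_c12)) = (LP (LK LD1_c2 LD2_c16 LD3_c37)) :=
  Lre_b IH (LK LD1_c1 LD2_c5 LD3_c12) (LK LD1_c2 LD2_c16 LD3_c37) Lrfl Lrfl
def v1625 : LQ := Led Lsl_gf (LP (LK LD1_c1 LD2_c22 LD3_c40))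
theorem f500412 : Led Lsl_gf (LP (LK LD1_c1 LD2_c22 LD3_c40)) = v1625 :=
  Lrfl
theorem f539961 : (LP (LK LD1_c2 LD2_c16 LD3_c37)) = v1625 :=
  (Llr Lrot22 (Lpe (f176797 IH) (Lpr_ct (K9.f176801 IH) (Lpe (K9.f101527 IH) (Lpe (K9.f100672 IH) (Lpe (K9.f172123 IH) (Lpe (K35.f22440 IH) (Lpe (K35.f175880 IH) (Lpr_gf (f501209 IH) (Lpq (f539943 IH) (Lpq (K36.f539953 IH) (Lpr_cf (K2.f72281 IH) (Lpr_bt (K36.f72381 IH) (Lpr_gf (f500412 IH) (Lpn v1625))))))))))))))).symm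
theorem f72275 : Led Lsl_bf (LP (LK LD1_c4 LD2_c36 LD3_c52)) = (LP (LK LD1_c2 LD2_c53 LD3_c6)) :=
  Lgr Lrot24 (Lpr_bt (K2.f72267 IH) (Lpn (LP (LK LD1_c2 LD2_c53 LD3_c6))))
theorem f542321 : Led Lsl_gf (LP (LK LD1_c2 LD2_c54 LD3_c33)) = (LP (LK LD1_c4 LD2_c36 LD3_c52)) :=
  Lgr Lrot124 (Lpe (f82069 IH) (Lpr_ct (K1.f37506 IH) (Lpr_gt (K12.f227663 IH) (Lpe (K12.f35472 IH) (Lpr_bt (f227674 IH) (Lpr_gt (f542317 IH) (Lpr_ct (f176805 IH) (Lpqs (f539961 IH) (Lpe (f500412 IH) (Lpe (K2.f72279 IH) (Lpe (f72275 IH) (Lpn (LP (LK LD1_c4 LD2_c36 LD3_c52))))))))))))))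
theorem f82057 : Led Lsl_ct (LP (LK LD1_c2 LD2_c54 LD3_c33)) = (LP (LK LD1_c1 LD2_c23 LD3_c20)) :=
  Lre_c IH (LK LD1_c2 LD2_c54 LD3_c33) (LK LD1_c1 LD2_c23 LD3_c20) Lrfl Lrfl
def v1647 : LQ := Led Lsl_gf (LP (LK LD1_c1 LD2_c23 LD3_c9))
theorem f500526 : Led Lsl_gf (LP (LK LD1_c1 LD2_c23 LD3_c9)) = v1647 :=
  Lrfl
theorem f71446 : Led Lsl_at (LP (LK LD1_c0 LD2_c38 LD3_c32)) = (LP (LK LD1_c1 LD2_c23 LD3_c9)) :=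
  Lre_a IH (LK LD1_c0 LD2_c38 LD3_c32) (LK LD1_c1 LD2_c23 LD3_c9) Lrfl Lrfl
theorem f442599 : Led Lsl_ft (LP (LK LD1_c1 LD2_c23 LD3_c20)) = (LP (LK LD1_c0 LD2_c38 LD3_c32)) :=
  Lre_f IH (LK LD1_c1 LD2_c23 LD3_c20) (LK LD1_c0 LD2_c38 LD3_c32) Lrfl Lrfl
theorem f500527 : Led Lsl_gt (LP (LK LD1_c1 LD2_c23 LD3_c20)) = v1647 :=
  Lgr Lrot5 (Lpr_ft (f442599 IH) (Lpr_at (f71446 IH) (Lpr_gf (f500526 IH) (Lpn v1647))))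
theorem f176798 : Led Lsl_ct (LP (LK LD1_c2 LD2_c16 LD3_c37)) = (LP (LK LD1_c4 LD2_c39 LD3_c16)) :=
  Lre_c IH (LK LD1_c2 LD2_c16 LD3_c37) (LK LD1_c4 LD2_c39 LD3_c16) Lrfl Lrfl
theorem f176799 : Led Lsl_bt (LP (LK LD1_c4 LD2_c39 LD3_c16)) = (LP (LK LD1_c3 LD2_c3 LD3_c19)) :=
  Lgr Lrot128 (Lpe (f176798 IH) (Lpe (f176797 IH) (Lpr_cf (K9.f176795 IH) (Lpe (K9.f101511 IH) (Lpr_cf (K13.f175891 IH) (Lpn (LP (LK LD1_c3 LD2_c3 LD3_c19))))))))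
theorem f101287 : Led Lsl_bt (LP (LK LD1_c4 LD2_c23 LD3_c33)) = (LP (LK LD1_c2 LD2_c9 LD3_c16)) :=
  Lre_b IH (LK LD1_c4 LD2_c23 LD3_c33) (LK LD1_c2 LD2_c9 LD3_c16) Lrfl Lrfl
theorem f101290 : Led Lsl_ct (LP (LK LD1_c4 LD2_c23 LD3_c33)) = (LP (LK LD1_c2 LD2_c13 LD3_c38)) :=
  Lre_c IH (LK LD1_c4 LD2_c23 LD3_c33) (LK LD1_c2 LD2_c13 LD3_c38) Lrfl Lrfl
theorem f542326 : v1647 = (LP (LK LD1_c2 LD2_c13 LD3_c38)) :=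
  (Llr Lrot149 (Lpe (f500527 IH) (Lpe (f82057 IH) (Lpr_gf (f542321 IH) (Lpr_bf (f72275 IH) (Lpr_ct (K2.f72279 IH) (Lpr_gf (f500412 IH) (Lpq (f539961 IH) (Lpe (f176805 IH) (Lpr_bt (f176799 IH) (Lpr_gf (K9.f101281 IH) (Lpe (f101287 IH) (Lpr_ct (f101290 IH) (Lpn (LP (LK LD1_c2 LD2_c13 LD3_c38)))))))))))))))).symm
def v1646 : LQ := Led Lsl_gt (LP (LK LD1_c1 LD2_c23 LD3_c9))
theorem f500522 : Led Lsl_gt (LP (LK LD1_c1 LD2_c23 LD3_c9)) = v1646 :=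
  Lrfl
theorem f542336 : (LP (LK LD1_c2 LD2_c15 LD3_c30)) = v1646 :=
  (Llr Lrot26 (Lpe (f494502 IH) (Lpe (f542329 IH) (Lpq (f542326 IH) (Lpe (f500526 IH) (Lpr_gt (f500522 IH) (Lpn v1646))))))).symm
theorem f500529 : Led Lsl_af (LP (LK LD1_c1 LD2_c23 LD3_c20)) = v1648 :=
  Lgr Lrot45 (Lpr_ft (f442599 IH) (Lpr_at (f71446 IH) (Lpr_ft (f500528 IH) (Lpn v1648))))
theorem f500533 : Led Lsl_gt v1646 = (LP (LK LD1_c1 LD2_c23 LD3_c20)) :=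
  Lgr Lrot46 (Lpe (f500522 IH) (Lpr_ft (f500528 IH) (Lpe (f500529 IH) (Lpn (LP (LK LD1_c1 LD2_c23 LD3_c20))))))
theorem f82071 : Led Lsl_ct (LP (LK LD1_c1 LD2_c23 LD3_c20)) = (LP (LK LD1_c2 LD2_c54 LD3_c33)) :=
  Lre_c IH (LK LD1_c1 LD2_c23 LD3_c20) (LK LD1_c2 LD2_c54 LD3_c33) Lrfl Lrfl
theorem f82072 : Led Lsl_et (LP (LK LD1_c2 LD2_c14 LD3_c60)) = (LP (LK LD1_c1 LD2_c23 LD3_c20)) :=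
  Lgr Lrot158 (Lpr_cf (K2.f34895 IH) (Lpr_ef (K2.f82065 IH) (Lpe (f82071 IH) (Lpn (LP (LK LD1_c1 LD2_c23 LD3_c20))))))
theorem f34924 : Led Lsl_dt (LP (LK LD1_c2 LD2_c14 LD3_c60)) = (LP (LK LD1_c4 LD2_c35 LD3_c40)) :=
  Lre_d IH (LK LD1_c2 LD2_c14 LD3_c60) (LK LD1_c4 LD2_c35 LD3_c40) Lrfl Lrfl
theorem f542340 : Led Lsl_gf (LP (LK LD1_c2 LD2_c16 LD3_c56)) = (LP (LK LD1_c4 LD2_c35 LD3_c40)) :=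
  Lgr Lrot145 (Lpe (f56240 IH) (Lpr_et (f56289 IH) (Lpr_gt (K4.f22447 IH) (Lpr_dt (K8.f79943 IH) (Lpr_gt (K4.f26401 IH) (Lpe (K6.f80219 IH) (Lpr_et (f80220 IH) (Lpqs (f542336 IH) (Lpr_gt (f500533 IH) (Lpe (f82072 IH) (Lpr_dt (f34924 IH) (Lpn (LP (LK LD1_c4 LD2_c35 LD3_c40))))))))))))))
theorem f56241 : Led Lsl_ct (LP (LK LD1_c2 LD2_c16 LD3_c56)) = (LP (LK LD1_c4 LD2_c39 LD3_c49)) :=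
  Lre_c IH (LK LD1_c2 LD2_c16 LD3_c56) (LK LD1_c4 LD2_c39 LD3_c49) Lrfl Lrfl
theorem f422807 : Led Lsl_gt (LP (LK LD1_c4 LD2_c39 LD3_c49)) = (LP (LK LD1_c9 LD2_c15 LD3_c6)) :=
  Lre_g IH (LK LD1_c4 LD2_c39 LD3_c49) (LK LD1_c9 LD2_c15 LD3_c6) Lrfl Lrfl
theorem f34999 : Led Lsl_bt (LP (LK LD1_c2 LD2_c15 LD3_c4)) = (LP (LK LD1_c4 LD2_c35 LD3_c40)) :=
  Lre_b IH (LK LD1_c2 LD2_c15 LD3_c4) (LK LD1_c4 LD2_c35 LD3_c40) Lrfl Lrfl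
theorem f421457 : Led Lsl_bt (LP (LK LD1_c10 LD2_c17 LD3_c56)) = (LP (LK LD1_c5 LD2_c13 LD3_c57)) :=
  Lre_b IH (LK LD1_c10 LD2_c17 LD3_c56) (LK LD1_c5 LD2_c13 LD3_c57) Lrfl Lrfl
theorem f542346 : Led Lsl_cf (LP (LK LD1_c9 LD2_c15 LD3_c6)) = (LP (LK LD1_c10 LD2_c17 LD3_c56)) :=
  Lgr Lrot163 (Lpe (f422807 IH) (Lpe (f56241 IH) (Lpr_gf (f542340 IH) (Lpe (f34999 IH) (Lpr_ct (K9.f35003 IH) (Lpr_gf (K10.f186723 IH) (Lpe (K10.f186773 IH) (Lpr_bt (K12.f181096 IH) (Lpe (K36.f541271 IH) (Lpe (f421457 IH) (Lpn (LP (LK LD1_c10 LD2_c17 LD3_c56)))))))))))))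
theorem f183086 : Led Lsl_bt (LP (LK LD1_c2 LD2_c16 LD3_c56)) = (LP (LK LD1_c1 LD2_c5 LD3_c24)) :=
  Lre_b IH (LK LD1_c2 LD2_c16 LD3_c56) (LK LD1_c1 LD2_c5 LD3_c24) Lrfl Lrfl
theorem f175317 : Led Lsl_ct (LP (LK LD1_c4 LD2_c5 LD3_c41)) = (LP (LK LD1_c8 LD2_c12 LD3_c6)) :=
  Lre_c IH (LK LD1_c4 LD2_c5 LD3_c41) (LK LD1_c8 LD2_c12 LD3_c6) Lrfl Lrfl
theorem f542353 : Led Lsl_gf (LP (LK LD1_c8 LD2_c12 LD3_c6)) = (LP (LK LD1_c5 LD2_c14 LD3_c32)) :=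
  Lgr Lrot129 (Lpe (f175317 IH) (Lpr_bt (K35.f175316 IH) (Lpe (K9.f175312 IH) (Lpe (f183086 IH) (Lpr_ct (f56241 IH) (Lpr_gt (f422807 IH) (Lpr_cf (f542346 IH) (Lpr_bt (f421457 IH) (Lpr_gt (K36.f541271 IH) (Lpr_ct (K36.f165460 IH) (Lpn (LP (LK LD1_c5 LD2_c14 LD3_c32)))))))))))))
theorem f183038 : Led Lsl_ct (LP (LK LD1_c8 LD2_c12 LD3_c6)) = (LP (LK LD1_c4 LD2_c5 LD3_c41)) :=
  Lre_c IH (LK LD1_c8 LD2_c12 LD3_c6) (LK LD1_c4 LD2_c5 LD3_c41) Lrfl Lrfl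
theorem f192668 : Led Lsl_cf (LP (LK LD1_c2 LD2_c0 LD3_c6)) = (LP (LK LD1_c4 LD2_c1 LD3_c21)) :=
  Lgr Lrot11 (Lpr_ct (K36.f192665 IH) (Lpn (LP (LK LD1_c4 LD2_c1 LD3_c21))))
theorem f542357 : Led Lsl_gf (LP (LK LD1_c4 LD2_c1 LD3_c21)) = (LP (LK LD1_c2 LD2_c33 LD3_c54)) :=
  Lgr Lrot104 (Lpe (f192668 IH) (Lpe (K35.f175362 IH) (Lpe (f183038 IH) (Lpr_gf (f542353 IH) (Lpe (K36.f165460 IH) (Lpe (K36.f541271 IH) (Lpe (K36.f308591 IH) (Lpr_gt (K32.f61383 IH) (Lpr_ct (K16.f164082 IH) (Lpn (LP (LK LD1_c2 LD2_c33 LD3_c54))))))))))))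
theorem f198572 : Led Lsl_bt (LP (LK LD1_c2 LD2_c33 LD3_c48)) = (LP (LK LD1_c1 LD2_c13 LD3_c54)) :=
  Lre_b IH (LK LD1_c2 LD2_c33 LD3_c48) (LK LD1_c1 LD2_c13 LD3_c54) Lrfl Lrfl
theorem f198573 : Led Lsl_ct (LP (LK LD1_c2 LD2_c33 LD3_c48)) = (LP (LK LD1_c5 LD2_c13 LD3_c41)) :=
  Lre_c IH (LK LD1_c2 LD2_c33 LD3_c48) (LK LD1_c5 LD2_c13 LD3_c41) Lrfl Lrfl
theorem f542365 : Led Lsl_gt (LP (LK LD1_c5 LD2_c13 LD3_c41)) = (LP (LK LD1_c5 LD2_c55 LD3_c30)) :=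
  Lgr Lrot65 (Lpe (f198573 IH) (Lpr_bt (f198572 IH) (Lpe (K11.f198570 IH) (Lpe (K35.f175323 IH) (Lpr_ct (K36.f192665 IH) (Lpr_gf (f542357 IH) (Lpe (K16.f164082 IH) (Lpe (K32.f61383 IH) (Lpe (K36.f171695 IH) (Lpr_ct (K32.f421296 IH) (Lpn (LP (LK LD1_c5 LD2_c55 LD3_c30)))))))))))))
theorem f421320 : Led Lsl_cf (LP (LK LD1_c5 LD2_c13 LD3_c55)) = (LP (LK LD1_c5 LD2_c55 LD3_c30)) :=
  Lgr Lrot11 (Lpr_ct (K32.f421296 IH) (Lpn (LP (LK LD1_c5 LD2_c55 LD3_c30))))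
theorem f421322 : Led Lsl_dt (LP (LK LD1_c10 LD2_c17 LD3_c56)) = (LP (LK LD1_c5 LD2_c13 LD3_c55)) :=
  Lre_d IH (LK LD1_c10 LD2_c17 LD3_c56) (LK LD1_c5 LD2_c13 LD3_c55) Lrfl Lrfl
theorem f542351 : Led Lsl_ct (LP (LK LD1_c9 LD2_c15 LD3_c6)) = (LP (LK LD1_c10 LD2_c17 LD3_c56)) :=
  Lgr Lrot59 (Lpr_cf (f542346 IH) (Lpn (LP (LK LD1_c10 LD2_c17 LD3_c56))))
theorem f542369 : Led Lsl_gf (LP (LK LD1_c2 LD2_c33 LD3_c48)) = (LP (LK LD1_c2 LD2_c14 LD3_c60)) :=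
  Lgr Lrot147 (Lpr_ct (f198573 IH) (Lpr_gt (f542365 IH) (Lpe (f421320 IH) (Lpe (f421322 IH) (Lpe (f542351 IH) (Lpe (f422807 IH) (Lpe (f56241 IH) (Lpr_gf (f542340 IH) (Lpe (f34924 IH) (Lpn (LP (LK LD1_c2 LD2_c14 LD3_c60))))))))))))
theorem f55918 : Led Lsl_gt (LP (LK LD1_c2 LD2_c0 LD3_c55)) = (LP (LK LD1_c4 LD2_c7 LD3_c4)) :=
  Lre_g IH (LK LD1_c2 LD2_c0 LD3_c55) (LK LD1_c4 LD2_c7 LD3_c4) Lrfl Lrfl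
theorem f412433 : Led Lsl_ct (LP (LK LD1_c8 LD2_c14 LD3_c45)) = (LP (LK LD1_c4 LD2_c7 LD3_c4)) :=
  Lre_c IH (LK LD1_c8 LD2_c14 LD3_c45) (LK LD1_c4 LD2_c7 LD3_c4) Lrfl Lrfl
theorem f544466 : Led Lsl_bf (LP (LK LD1_c5 LD2_c7 LD3_c32)) = (LP (LK LD1_c8 LD2_c14 LD3_c45)) :=
  Lgr Lrot165 (Lpe (f387114 IH) (Lpe (K2.f34895 IH) (Lpe (f542369 IH) (Lpe (f418131 IH) (Lpr_bt (f269134 IH) (Lpe (K16.f240540 IH) (Lpr_bf (f544454 IH) (Lpe (f538403 IH) (Lpr_gt (f55918 IH) (Lpe (f412433 IH) (Lpn (LP (LK LD1_c8 LD2_c14 LD3_c45)))))))))))))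
theorem f544475 : Led Lsl_gt (LP (LK LD1_c2 LD2_c30 LD3_c59)) = (LP (LK LD1_c3 LD2_c57 LD3_c53)) :=
  Lgr Lrot82 (Lpr_bf (K32.f53237 IH) (Lpr_ct (K13.f53195 IH) (Lpr_gf (K9.f166415 IH) (Lpe (K0.f31801 IH) (Lpr_bt (K2.f34919 IH) (Lpr_gf (f387114 IH) (Lpr_bf (f544466 IH) (Lpr_ct (f412433 IH) (Lpe (f55918 IH) (Lpr_cf (f538403 IH) (Lpn (LP (LK LD1_c3 LD2_c57 LD3_c53)))))))))))))
theorem f3301 : Led Lsl_gt (LP (LK LD1_c5 LD2_c7 LD3_c18)) = (LP (LK LD1_c2 LD2_c30 LD3_c59)) :=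
  Lre_g IH (LK LD1_c5 LD2_c7 LD3_c18) (LK LD1_c2 LD2_c30 LD3_c59) Lrfl Lrfl
theorem f159164 : Led Lsl_at (LP (LK LD1_c1 LD2_c55 LD3_c42)) = (LP (LK LD1_c2 LD2_c15 LD3_c35)) :=
  Lgr Lrot66 (Lpr_ff (K31.f159162 IH) (Lpr_af (K8.f159098 IH) (Lpe (K8.f159103 IH) (Lpn (LP (LK LD1_c2 LD2_c15 LD3_c35))))))
theorem f101678 : Led Lsl_et (LP (LK LD1_c3 LD2_c57 LD3_c53)) = (LP (LK LD1_c1 LD2_c55 LD3_c42)) :=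
  Lre_e IH (LK LD1_c3 LD2_c57 LD3_c53) (LK LD1_c1 LD2_c55 LD3_c42) Lrfl Lrfl
theorem f137968 : Led Lsl_et (LP (LK LD1_c2 LD2_c15 LD3_c35)) = (LP (LK LD1_c4 LD2_c36 LD3_c45)) :=
  Lre_e IH (LK LD1_c2 LD2_c15 LD3_c35) (LK LD1_c4 LD2_c36 LD3_c45) Lrfl Lrfl
theorem f159166 : Led Lsl_af (LP (LK LD1_c3 LD2_c57 LD3_c53)) = (LP (LK LD1_c4 LD2_c36 LD3_c45)) :=
  Lgr Lrot50 (Lpr_et (f101678 IH) (Lpr_at (f159164 IH) (Lpr_et (f137968 IH) (Lpn (LP (LK LD1_c4 LD2_c36 LD3_c45))))))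
theorem f544477 : Led Lsl_ft (LP (LK LD1_c5 LD2_c7 LD3_c18)) = (LP (LK LD1_c4 LD2_c36 LD3_c45)) :=
  Lgr Lrot2 (Lpr_gt (f3301 IH) (Lpr_gt (f544475 IH) (Lpr_af (f159166 IH) (Lpn (LP (LK LD1_c4 LD2_c36 LD3_c45))))))
theorem f544486 : Led Lsl_ff (LP (LK LD1_c5 LD2_c7 LD3_c18)) = (LP (LK LD1_c4 LD2_c36 LD3_c45)) :=
  Lgr Lrot3 (Lpr_ft (f544477 IH) (Lpn (LP (LK LD1_c4 LD2_c36 LD3_c45))))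
theorem f159168 : Led Lsl_at (LP (LK LD1_c3 LD2_c57 LD3_c53)) = (LP (LK LD1_c4 LD2_c36 LD3_c45)) :=
  Lgr Lrot100 (Lpr_af (f159166 IH) (Lpn (LP (LK LD1_c4 LD2_c36 LD3_c45))))
theorem f544462 : Led Lsl_ft (LP (LK LD1_c4 LD2_c1 LD3_c21)) = (LP (LK LD1_c3 LD2_c57 LD3_c53)) :=
  Lgr Lrot75 (Lpe (K36.f171538 IH) (Lpe (K16.f271986 IH) (Lpr_bf (f544454 IH) (Lpn (LP (LK LD1_c3 LD2_c57 LD3_c53))))))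
theorem f544488 : Led Lsl_at (LP (LK LD1_c5 LD2_c7 LD3_c18)) = (LP (LK LD1_c4 LD2_c1 LD3_c21)) :=
  Lgr Lrot66 (Lpr_ff (f544486 IH) (Lpe (f159168 IH) (Lpe (f544462 IH) (Lpn (LP (LK LD1_c4 LD2_c1 LD3_c21))))))
theorem f544496 : Led Lsl_gf (LP (LK LD1_c2 LD2_c33 LD3_c54)) = (LP (LK LD1_c4 LD2_c36 LD3_c45)) :=
  Lgr Lrot47 (Lpe (f542357 IH) (Lpe (f544488 IH) (Lpr_ff (f544486 IH) (Lpn (LP (LK LD1_c4 LD2_c36 LD3_c45))))))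
theorem f201613 : Led Lsl_dt (LP (LK LD1_c2 LD2_c33 LD3_c54)) = (LP (LK LD1_c5 LD2_c13 LD3_c61)) :=
  Lre_d IH (LK LD1_c2 LD2_c33 LD3_c54) (LK LD1_c5 LD2_c13 LD3_c61) Lrfl Lrfl
theorem f56002 : Led Lsl_ct (LP (LK LD1_c1 LD2_c25 LD3_c45)) = (LP (LK LD1_c2 LD2_c59 LD3_c59)) :=
  Lre_c IH (LK LD1_c1 LD2_c25 LD3_c45) (LK LD1_c2 LD2_c59 LD3_c59) Lrfl Lrfl
theorem f176022 : Led Lsl_et (LP (LK LD1_c2 LD2_c59 LD3_c59)) = (LP (LK LD1_c3 LD2_c58 LD3_c52)) :=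
  Lgr Lrot158 (Lpe (f56002 IH) (Lpr_ef (K18.f175952 IH) (Lpe (K30.f175984 IH) (Lpn (LP (LK LD1_c3 LD2_c58 LD3_c52))))))
theorem f176029 : Led Lsl_dt (LP (LK LD1_c2 LD2_c59 LD3_c59)) = (LP (LK LD1_c6 LD2_c7 LD3_c35)) :=
  Lre_d IH (LK LD1_c2 LD2_c59 LD3_c59) (LK LD1_c6 LD2_c7 LD3_c35) Lrfl Lrfl
theorem f544502 : Led Lsl_gt (LP (LK LD1_c5 LD2_c13 LD3_c61)) = (LP (LK LD1_c6 LD2_c7 LD3_c35)) :=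
  Lgr Lrot139 (Lpe (f201613 IH) (Lpr_gf (f544496 IH) (Lpe (f137968 IH) (Lpr_dt (K6.f99590 IH) (Lpr_gf (f137961 IH) (Lpe (f60660 IH) (Lpr_et (K2.f60652 IH) (Lpr_gf (K35.f541561 IH) (Lpe (f176022 IH) (Lpr_dt (f176029 IH) (Lpn (LP (LK LD1_c6 LD2_c7 LD3_c35)))))))))))))
theorem f266642 : Led Lsl_gf (LP (LK LD1_c8 LD2_c37 LD3_c55)) = (LP (LK LD1_c10 LD2_c1 LD3_c1)) :=
  Lgr Lrot154 (Lpr_dt (K14.f31743 IH) (Lpe (K11.f201652 IH) (Lpr_df (K10.f187923 IH) (Lpe (K12.f170847 IH) (Lpe (K19.f266640 IH) (Lpr_gf (K15.f266634 IH) (Lpr_ct (K15.f192331 IH) (Lpr_gt (K15.f265310 IH) (Lpr_dt (K16.f242040 IH) (Lpn (LP (LK LD1_c10 LD2_c1 LD3_c1))))))))))))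
theorem f265307 : Led Lsl_ct (LP (LK LD1_c5 LD2_c5 LD3_c4)) = (LP (LK LD1_c10 LD2_c1 LD3_c1)) :=
  Lgr Lrot110 (Lpe (K13.f210631 IH) (Lpe (K20.f31581 IH) (Lpr_gf (K20.f201381 IH) (Lpr_df (K13.f231486 IH) (Lpe (K13.f241021 IH) (Lpr_ct (K15.f239291 IH) (Lpe (K15.f240760 IH) (Lpr_ct (K15.f265291 IH) (Lpe (K16.f242043 IH) (Lpn (LP (LK LD1_c10 LD2_c1 LD3_c1))))))))))))
theorem f193573 : Led Lsl_et (LP (LK LD1_c7 LD2_c56 LD3_c32)) = (LP (LK LD1_c14 LD2_c59 LD3_c4)) :=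
  Lre_e IH (LK LD1_c7 LD2_c56 LD3_c32) (LK LD1_c14 LD2_c59 LD3_c4) Lrfl Lrfl
theorem f176025 : Led Lsl_dt (LP (LK LD1_c6 LD2_c7 LD3_c35)) = (LP (LK LD1_c2 LD2_c59 LD3_c59)) :=
  Lre_d IH (LK LD1_c6 LD2_c7 LD3_c35) (LK LD1_c2 LD2_c59 LD3_c59) Lrfl Lrfl
theorem f176026 : Led Lsl_et (LP (LK LD1_c11 LD2_c57 LD3_c41)) = (LP (LK LD1_c6 LD2_c7 LD3_c35)) :=
  Lre_e IH (LK LD1_c11 LD2_c57 LD3_c41) (LK LD1_c6 LD2_c7 LD3_c35) Lrfl Lrfl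
theorem f193574 : Led Lsl_dt (LP (LK LD1_c14 LD2_c59 LD3_c4)) = (LP (LK LD1_c11 LD2_c57 LD3_c41)) :=
  Lgr Lrot77 (Lpe (f193573 IH) (Lpr_df (K30.f193571 IH) (Lpe (f176022 IH) (Lpe (f176025 IH) (Lpe (f176026 IH) (Lpn (LP (LK LD1_c11 LD2_c57 LD3_c41))))))))
theorem f193584 : Led Lsl_ft (LP (LK LD1_c24 LD2_c46 LD3_c38)) = (LP (LK LD1_c14 LD2_c59 LD3_c4)) :=
  Lre_f IH (LK LD1_c24 LD2_c46 LD3_c38) (LK LD1_c14 LD2_c59 LD3_c4) Lrfl Lrfl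
theorem f193585 : Led Lsl_ft (LP (LK LD1_c11 LD2_c57 LD3_c41)) = (LP (LK LD1_c21 LD2_c2 LD3_c45)) :=
  Lre_f IH (LK LD1_c11 LD2_c57 LD3_c41) (LK LD1_c21 LD2_c2 LD3_c45) Lrfl Lrfl
theorem f193586 : Led Lsl_df (LP (LK LD1_c24 LD2_c46 LD3_c38)) = (LP (LK LD1_c21 LD2_c2 LD3_c45)) :=
  Lgr Lrot78 (Lpr_ft (f193584 IH) (Lpr_dt (f193574 IH) (Lpr_ft (f193585 IH) (Lpn (LP (LK LD1_c21 LD2_c2 LD3_c45))))))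
theorem f193596 : Led Lsl_dt (LP (LK LD1_c24 LD2_c46 LD3_c38)) = (LP (LK LD1_c21 LD2_c2 LD3_c45)) :=
  Lgr Lrot42 (Lpr_df (f193586 IH) (Lpn (LP (LK LD1_c21 LD2_c2 LD3_c45))))
theorem f193565 : Led Lsl_bt (LP (LK LD1_c14 LD2_c59 LD3_c7)) = (LP (LK LD1_c24 LD2_c46 LD3_c38)) :=
  Lre_b IH (LK LD1_c14 LD2_c59 LD3_c7) (LK LD1_c24 LD2_c46 LD3_c38) Lrfl Lrfl
theorem f193599 : Led Lsl_bf (LP (LK LD1_c15 LD2_c12 LD3_c58)) = (LP (LK LD1_c21 LD2_c2 LD3_c45)) :=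
  Lgr Lrot93 (Lpe (K15.f193550 IH) (Lpr_bt (f193565 IH) (Lpr_dt (f193596 IH) (Lpn (LP (LK LD1_c21 LD2_c2 LD3_c45))))))
theorem f193568 : Led Lsl_ft (LP (LK LD1_c15 LD2_c12 LD3_c58)) = (LP (LK LD1_c8 LD2_c4 LD3_c51)) :=
  Lre_f IH (LK LD1_c15 LD2_c12 LD3_c58) (LK LD1_c8 LD2_c4 LD3_c51) Lrfl Lrfl
theorem f193601 : Led Lsl_bt (LP (LK LD1_c8 LD2_c4 LD3_c51)) = (LP (LK LD1_c11 LD2_c57 LD3_c41)) :=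
  Lgr Lrot35 (Lpe (f193568 IH) (Lpr_bf (f193599 IH) (Lpe (f193585 IH) (Lpn (LP (LK LD1_c11 LD2_c57 LD3_c41))))))
theorem f193465 : Led Lsl_et (LP (LK LD1_c4 LD2_c2 LD3_c8)) = (LP (LK LD1_c8 LD2_c4 LD3_c51)) :=
  Lre_e IH (LK LD1_c4 LD2_c2 LD3_c8) (LK LD1_c8 LD2_c4 LD3_c51) Lrfl Lrfl
theorem f193603 : Led Lsl_bf (LP (LK LD1_c4 LD2_c2 LD3_c8)) = (LP (LK LD1_c6 LD2_c7 LD3_c35)) :=
  Lgr Lrot96 (Lpr_et (f193465 IH) (Lpr_bt (f193601 IH) (Lpr_et (f176026 IH) (Lpn (LP (LK LD1_c6 LD2_c7 LD3_c35))))))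
theorem f193605 : Led Lsl_bt (LP (LK LD1_c4 LD2_c2 LD3_c8)) = (LP (LK LD1_c6 LD2_c7 LD3_c35)) :=
  Lgr Lrot127 (Lpr_bf (f193603 IH) (Lpn (LP (LK LD1_c6 LD2_c7 LD3_c35))))
theorem f544509 : Led Lsl_bf (LP (LK LD1_c4 LD2_c4 LD3_c35)) = (LP (LK LD1_c8 LD2_c3 LD3_c15)) :=
  Lgr Lrot165 (Lpr_gt (K13.f210631 IH) (Lpr_ct (f265307 IH) (Lpe (f266642 IH) (Lpe (K14.f255313 IH) (Lpr_bt (K32.f201591 IH) (Lpr_gt (f544502 IH) (Lpe (f193605 IH) (Lpe (K13.f242269 IH) (Lpr_gt (K13.f242264 IH) (Lpr_cf (K13.f240530 IH) (Lpn (LP (LK LD1_c8 LD2_c3 LD3_c15)))))))))))))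
theorem f44376 : Led Lsl_gt (LP (LK LD1_c4 LD2_c54 LD3_c11)) = (LP (LK LD1_c9 LD2_c39 LD3_c51)) :=
  Lre_g IH (LK LD1_c4 LD2_c54 LD3_c11) (LK LD1_c9 LD2_c39 LD3_c51) Lrfl Lrfl
theorem f193004 : Led Lsl_bt (LP (LK LD1_c8 LD2_c3 LD3_c9)) = (LP (LK LD1_c4 LD2_c1 LD3_c12)) :=
  Lre_b IH (LK LD1_c8 LD2_c3 LD3_c9) (LK LD1_c4 LD2_c1 LD3_c12) Lrfl Lrfl
theorem f45906 : Led Lsl_bt (LP (LK LD1_c5 LD2_c19 LD3_c8)) = (LP (LK LD1_c10 LD2_c28 LD3_c3)) :=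
  Lre_b IH (LK LD1_c5 LD2_c19 LD3_c8) (LK LD1_c10 LD2_c28 LD3_c3) Lrfl Lrfl
theorem f193005 : Led Lsl_cf (LP (LK LD1_c8 LD2_c3 LD3_c9)) = (LP (LK LD1_c10 LD2_c28 LD3_c3)) :=
  Lgr Lrot97 (Lpr_bt (f193004 IH) (Lpr_ct (K13.f34620 IH) (Lpr_bt (K13.f192995 IH) (Lpr_ct (K15.f45905 IH) (Lpr_bt (f45906 IH) (Lpn (LP (LK LD1_c10 LD2_c28 LD3_c3))))))))
theorem f544521 : Led Lsl_dt (LP (LK LD1_c9 LD2_c39 LD3_c51)) = (LP (LK LD1_c10 LD2_c28 LD3_c3)) :=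
  Lgr Lrot182 (Lpe (f44376 IH) (Lpe (K13.f43485 IH) (Lpe (K9.f43498 IH) (Lpe (K9.f43345 IH) (Lpe (K10.f189543 IH) (Lpe (K11.f186712 IH) (Lpe (K10.f186710 IH) (Lpe (K9.f31695 IH) (Lpr_gf (K9.f101517 IH) (Lpe (K12.f204897 IH) (Lpe (K12.f204902 IH) (Lpe (K13.f205070 IH) (Lpe (K13.f210631 IH) (Lpr_bf (f544509 IH) (Lpe (K13.f240528 IH) (Lpe (K13.f33148 IH) (Lpe (K13.f240232 IH) (Lpe (f193004 IH) (Lpr_cf (f193005 IH) (Lpn (LP (LK LD1_c10 LD2_c28 LD3_c3))))))))))))))))))))))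
theorem f193064 : Led Lsl_bt (LP (LK LD1_c10 LD2_c28 LD3_c3)) = (LP (LK LD1_c5 LD2_c19 LD3_c8)) :=
  Lre_b IH (LK LD1_c10 LD2_c28 LD3_c3) (LK LD1_c5 LD2_c19 LD3_c8) Lrfl Lrfl
theorem f544526 : Led Lsl_bf (LP (LK LD1_c9 LD2_c39 LD3_c51)) = (LP (LK LD1_c9 LD2_c40 LD3_c29)) :=
  Lgr Lrot93 (Lpr_dt (f544521 IH) (Lpr_bt (f193064 IH) (Lpr_dt (K15.f257062 IH) (Lpn (LP (LK LD1_c9 LD2_c40 LD3_c29))))))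
theorem f544678 : Led Lsl_bf (LP (LK LD1_c5 LD2_c10 LD3_c52)) = (LP (LK LD1_c5 LD2_c19 LD3_c39)) :=
  Lgr Lrot165 (Lpr_gt (K12.f171477 IH) (Lpr_ct (K14.f171474 IH) (Lpr_gt (K12.f190783 IH) (Lpe (K9.f43466 IH) (Lpr_bt (K13.f43485 IH) (Lpr_gt (f44376 IH) (Lpr_bf (f544526 IH) (Lpr_ct (K15.f212341 IH) (Lpr_gt (K15.f44131 IH) (Lpe (K14.f46527 IH) (Lpn (LP (LK LD1_c5 LD2_c19 LD3_c39)))))))))))))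
theorem f248288 : Led Lsl_bt (LP (LK LD1_c9 LD2_c39 LD3_c39)) = (LP (LK LD1_c4 LD2_c54 LD3_c7)) :=
  Lre_b IH (LK LD1_c9 LD2_c39 LD3_c39) (LK LD1_c4 LD2_c54 LD3_c7) Lrfl Lrfl
theorem f248967 : Led Lsl_at (LP (LK LD1_c17 LD2_c46 LD3_c1)) = (LP (LK LD1_c9 LD2_c39 LD3_c39)) :=
  Lre_a IH (LK LD1_c17 LD2_c46 LD3_c1) (LK LD1_c9 LD2_c39 LD3_c39) Lrfl Lrfl
theorem f248969 : Led Lsl_ct (LP (LK LD1_c9 LD2_c39 LD3_c39)) = (LP (LK LD1_c10 LD2_c11 LD3_c32)) :=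
  Lgr Lrot111 (Lpe (f248967 IH) (Lpr_cf (K14.f248961 IH) (Lpe (K14.f248968 IH) (Lpn (LP (LK LD1_c10 LD2_c11 LD3_c32))))))
theorem f249073 : Led Lsl_gt (LP (LK LD1_c18 LD2_c33 LD3_c58)) = (LP (LK LD1_c10 LD2_c11 LD3_c32)) :=
  Lre_g IH (LK LD1_c18 LD2_c33 LD3_c58) (LK LD1_c10 LD2_c11 LD3_c32) Lrfl Lrfl
theorem f43785 : Led Lsl_bt (LP (LK LD1_c9 LD2_c39 LD3_c45)) = (LP (LK LD1_c4 LD2_c54 LD3_c9)) :=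
  Lre_b IH (LK LD1_c9 LD2_c39 LD3_c45) (LK LD1_c4 LD2_c54 LD3_c9) Lrfl Lrfl
theorem f184053 : Led Lsl_bt (LP (LK LD1_c4 LD2_c54 LD3_c25)) = (LP (LK LD1_c9 LD2_c40 LD3_c21)) :=
  Lre_b IH (LK LD1_c4 LD2_c54 LD3_c25) (LK LD1_c9 LD2_c40 LD3_c21) Lrfl Lrfl
theorem f294287 : Led Lsl_ff (LP (LK LD1_c9 LD2_c39 LD3_c45)) = (LP (LK LD1_c9 LD2_c40 LD3_c21)) :=
  Lgr Lrot25 (Lpr_bt (f43785 IH) (Lpr_ft (K18.f294285 IH) (Lpr_bt (f184053 IH) (Lpn (LP (LK LD1_c9 LD2_c40 LD3_c21))))))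
theorem f230038 : Led Lsl_at (LP (LK LD1_c9 LD2_c39 LD3_c45)) = (LP (LK LD1_c17 LD2_c46 LD3_c15)) :=
  Lre_a IH (LK LD1_c9 LD2_c39 LD3_c45) (LK LD1_c17 LD2_c46 LD3_c15) Lrfl Lrfl
theorem f184061 : Led Lsl_gt (LP (LK LD1_c9 LD2_c40 LD3_c21)) = (LP (LK LD1_c17 LD2_c47 LD3_c29)) :=
  Lre_g IH (LK LD1_c9 LD2_c40 LD3_c21) (LK LD1_c17 LD2_c47 LD3_c29) Lrfl Lrfl
theorem f407426 : Led Lsl_gf (LP (LK LD1_c17 LD2_c46 LD3_c15)) = (LP (LK LD1_c17 LD2_c47 LD3_c29)) :=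
  Lgr Lrot76 (Lpe (f230038 IH) (Lpr_ff (f294287 IH) (Lpr_gt (f184061 IH) (Lpn (LP (LK LD1_c17 LD2_c47 LD3_c29))))))
theorem f230012 : Led Lsl_at (LP (LK LD1_c17 LD2_c46 LD3_c15)) = (LP (LK LD1_c9 LD2_c39 LD3_c45)) :=
  Lre_a IH (LK LD1_c17 LD2_c46 LD3_c15) (LK LD1_c9 LD2_c39 LD3_c45) Lrfl Lrfl
theorem f260124 : Led Lsl_at (LP (LK LD1_c9 LD2_c40 LD3_c18)) = (LP (LK LD1_c17 LD2_c47 LD3_c23)) :=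
  Lre_a IH (LK LD1_c9 LD2_c40 LD3_c18) (LK LD1_c17 LD2_c47 LD3_c23) Lrfl Lrfl
theorem f294268 : Led Lsl_bf (LP (LK LD1_c17 LD2_c46 LD3_c15)) = (LP (LK LD1_c17 LD2_c47 LD3_c23)) :=
  Lgr Lrot81 (Lpr_at (f230012 IH) (Lpr_bt (f43785 IH) (Lpr_at (K18.f294262 IH) (Lpr_bt (K19.f193106 IH) (Lpr_at (f260124 IH) (Lpn (LP (LK LD1_c17 LD2_c47 LD3_c23))))))))
theorem f260033 : Led Lsl_at (LP (LK LD1_c17 LD2_c47 LD3_c23)) = (LP (LK LD1_c9 LD2_c40 LD3_c18)) :=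
  Lre_a IH (LK LD1_c17 LD2_c47 LD3_c23) (LK LD1_c9 LD2_c40 LD3_c18) Lrfl Lrfl
theorem f260034 : Led Lsl_at (LP (LK LD1_c5 LD2_c9 LD3_c9)) = (LP (LK LD1_c10 LD2_c8 LD3_c52)) :=
  Lre_a IH (LK LD1_c5 LD2_c9 LD3_c9) (LK LD1_c10 LD2_c8 LD3_c52) Lrfl Lrfl
theorem f260035 : Led Lsl_cf (LP (LK LD1_c17 LD2_c47 LD3_c23)) = (LP (LK LD1_c10 LD2_c8 LD3_c52)) :=
  Lgr Lrot1 (Lpr_at (f260033 IH) (Lpr_ct (K19.f260031 IH) (Lpr_at (f260034 IH) (Lpn (LP (LK LD1_c10 LD2_c8 LD3_c52))))))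
theorem f260122 : Led Lsl_ct (LP (LK LD1_c17 LD2_c47 LD3_c23)) = (LP (LK LD1_c10 LD2_c8 LD3_c52)) :=
  Lgr Lrot59 (Lpr_cf (f260035 IH) (Lpn (LP (LK LD1_c10 LD2_c8 LD3_c52))))
theorem f294541 : Led Lsl_et (LP (LK LD1_c17 LD2_c46 LD3_c24)) = (LP (LK LD1_c9 LD2_c39 LD3_c48)) :=
  Lre_e IH (LK LD1_c17 LD2_c46 LD3_c24) (LK LD1_c9 LD2_c39 LD3_c48) Lrfl Lrfl
theorem f262516 : Led Lsl_et (LP (LK LD1_c8 LD2_c4 LD3_c24)) = (LP (LK LD1_c15 LD2_c12 LD3_c1)) :=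
  Lre_e IH (LK LD1_c8 LD2_c4 LD3_c24) (LK LD1_c15 LD2_c12 LD3_c1) Lrfl Lrfl
theorem f294575 : Led Lsl_ct (LP (LK LD1_c9 LD2_c39 LD3_c48)) = (LP (LK LD1_c8 LD2_c4 LD3_c24)) :=
  Lgr Lrot15 (Lpe (f294541 IH) (Lpr_cf (K26.f294568 IH) (Lpe (f262516 IH) (Lpn (LP (LK LD1_c8 LD2_c4 LD3_c24))))))
theorem f294544 : Led Lsl_at (LP (LK LD1_c17 LD2_c46 LD3_c23)) = (LP (LK LD1_c9 LD2_c39 LD3_c48)) :=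
  Lre_a IH (LK LD1_c17 LD2_c46 LD3_c23) (LK LD1_c9 LD2_c39 LD3_c48) Lrfl Lrfl
theorem f262480 : Led Lsl_at (LP (LK LD1_c8 LD2_c4 LD3_c24)) = (LP (LK LD1_c15 LD2_c11 LD3_c61)) :=
  Lre_a IH (LK LD1_c8 LD2_c4 LD3_c24) (LK LD1_c15 LD2_c11 LD3_c61) Lrfl Lrfl
theorem f294581 : Led Lsl_cf (LP (LK LD1_c17 LD2_c46 LD3_c23)) = (LP (LK LD1_c15 LD2_c11 LD3_c61)) :=
  Lgr Lrot1 (Lpr_at (f294544 IH) (Lpr_ct (f294575 IH) (Lpr_at (f262480 IH) (Lpn (LP (LK LD1_c15 LD2_c11 LD3_c61))))))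
theorem f294540 : Led Lsl_ft (LP (LK LD1_c27 LD2_c33 LD3_c5)) = (LP (LK LD1_c17 LD2_c46 LD3_c24)) :=
  Lre_f IH (LK LD1_c27 LD2_c33 LD3_c5) (LK LD1_c17 LD2_c46 LD3_c24) Lrfl Lrfl
theorem f260078 : Led Lsl_et (LP (LK LD1_c9 LD2_c40 LD3_c18)) = (LP (LK LD1_c17 LD2_c47 LD3_c25)) :=
  Lre_e IH (LK LD1_c9 LD2_c40 LD3_c18) (LK LD1_c17 LD2_c47 LD3_c25) Lrfl Lrfl
theorem f294542 : Led Lsl_ft (LP (LK LD1_c9 LD2_c39 LD3_c48)) = (LP (LK LD1_c9 LD2_c40 LD3_c18)) :=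
  Lgr Lrot86 (Lpe (f294541 IH) (Lpe (f294540 IH) (Lpr_ef (K26.f294326 IH) (Lpe (K21.f260063 IH) (Lpe (f260078 IH) (Lpn (LP (LK LD1_c9 LD2_c40 LD3_c18))))))))
theorem f294545 : Led Lsl_ff (LP (LK LD1_c17 LD2_c46 LD3_c23)) = (LP (LK LD1_c17 LD2_c47 LD3_c23)) :=
  Lgr Lrot30 (Lpr_at (f294544 IH) (Lpr_ft (f294542 IH) (Lpr_at (f260124 IH) (Lpn (LP (LK LD1_c17 LD2_c47 LD3_c23))))))
theorem f294552 : Led Lsl_ft (LP (LK LD1_c17 LD2_c46 LD3_c23)) = (LP (LK LD1_c17 LD2_c47 LD3_c23)) :=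
  Lgr Lrot48 (Lpr_ff (f294545 IH) (Lpn (LP (LK LD1_c17 LD2_c47 LD3_c23))))
theorem f294600 : Led Lsl_ft (LP (LK LD1_c10 LD2_c8 LD3_c52)) = (LP (LK LD1_c15 LD2_c11 LD3_c61)) :=
  Lgr Lrot4 (Lpe (f260122 IH) (Lpe (f294552 IH) (Lpr_cf (f294581 IH) (Lpn (LP (LK LD1_c15 LD2_c11 LD3_c61))))))
theorem f294584 : Led Lsl_at (LP (LK LD1_c15 LD2_c11 LD3_c61)) = (LP (LK LD1_c8 LD2_c4 LD3_c24)) :=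
  Lre_a IH (LK LD1_c15 LD2_c11 LD3_c61) (LK LD1_c8 LD2_c4 LD3_c24) Lrfl Lrfl
theorem f294585 : Led Lsl_gt (LP (LK LD1_c15 LD2_c11 LD3_c60)) = (LP (LK LD1_c8 LD2_c4 LD3_c24)) :=
  Lre_g IH (LK LD1_c15 LD2_c11 LD3_c60) (LK LD1_c8 LD2_c4 LD3_c24) Lrfl Lrfl
theorem f294604 : Led Lsl_gt (LP (LK LD1_c10 LD2_c8 LD3_c52)) = (LP (LK LD1_c15 LD2_c11 LD3_c60)) :=
  Lgr Lrot5 (Lpr_ft (f294600 IH) (Lpr_at (f294584 IH) (Lpe (f294585 IH) (Lpn (LP (LK LD1_c15 LD2_c11 LD3_c60))))))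
theorem f294586 : Led Lsl_ct (LP (LK LD1_c25 LD2_c0 LD3_c57)) = (LP (LK LD1_c15 LD2_c11 LD3_c60)) :=
  Lre_c IH (LK LD1_c25 LD2_c0 LD3_c57) (LK LD1_c15 LD2_c11 LD3_c60) Lrfl Lrfl
theorem f43758 : Led Lsl_bt (LP (LK LD1_c9 LD2_c39 LD3_c48)) = (LP (LK LD1_c4 LD2_c54 LD3_c10)) :=
  Lre_b IH (LK LD1_c9 LD2_c39 LD3_c48) (LK LD1_c4 LD2_c54 LD3_c10) Lrfl Lrfl
theorem f229936 : Led Lsl_gt (LP (LK LD1_c9 LD2_c39 LD3_c39)) = (LP (LK LD1_c17 LD2_c45 LD3_c61)) :=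
  Lre_g IH (LK LD1_c9 LD2_c39 LD3_c39) (LK LD1_c17 LD2_c45 LD3_c61) Lrfl Lrfl
theorem f294587 : Led Lsl_bf (LP (LK LD1_c17 LD2_c45 LD3_c61)) = (LP (LK LD1_c25 LD2_c0 LD3_c57)) :=
  Lgr Lrot34 (Lpe (f229936 IH) (Lpe (K14.f43799 IH) (Lpr_ct (K12.f43797 IH) (Lpe (K12.f43794 IH) (Lpe (K9.f43466 IH) (Lpe (K12.f43494 IH) (Lpe (f43758 IH) (Lpr_ct (f294575 IH) (Lpe (f294585 IH) (Lpe (f294586 IH) (Lpn (LP (LK LD1_c25 LD2_c0 LD3_c57)))))))))))))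
theorem f342976 : Led Lsl_at (LP (LK LD1_c5 LD2_c15 LD3_c54)) = (LP (LK LD1_c10 LD2_c21 LD3_c11)) :=
  Lre_a IH (LK LD1_c5 LD2_c15 LD3_c54) (LK LD1_c10 LD2_c21 LD3_c11) Lrfl Lrfl
theorem f343156 : Led Lsl_ff (LP (LK LD1_c18 LD2_c44 LD3_c50)) = (LP (LK LD1_c10 LD2_c21 LD3_c11)) :=
  Lgr Lrot30 (Lpr_at (K26.f214853 IH) (Lpr_ft (K26.f343147 IH) (Lpr_at (f342976 IH) (Lpn (LP (LK LD1_c10 LD2_c21 LD3_c11))))))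
theorem f214858 : Led Lsl_gt (LP (LK LD1_c18 LD2_c44 LD3_c49)) = (LP (LK LD1_c10 LD2_c19 LD3_c35)) :=
  Lre_g IH (LK LD1_c18 LD2_c44 LD3_c49) (LK LD1_c10 LD2_c19 LD3_c35) Lrfl Lrfl
theorem f343294 : Led Lsl_gf (LP (LK LD1_c18 LD2_c44 LD3_c49)) = (LP (LK LD1_c10 LD2_c21 LD3_c11)) :=
  Lgr Lrot47 (Lpr_gt (f214858 IH) (Lpe (K26.f214853 IH) (Lpr_ff (f343156 IH) (Lpn (LP (LK LD1_c10 LD2_c21 LD3_c11))))))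
theorem f31504 : Led Lsl_bt (LP (LK LD1_c15 LD2_c0 LD3_c35)) = (LP (LK LD1_c7 LD2_c57 LD3_c31)) :=
  Lre_b IH (LK LD1_c15 LD2_c0 LD3_c35) (LK LD1_c7 LD2_c57 LD3_c31) Lrfl Lrfl
theorem f166893 : Led Lsl_bt (LP (LK LD1_c2 LD2_c29 LD3_c21)) = (LP (LK LD1_c5 LD2_c3 LD3_c45)) :=
  Lre_b IH (LK LD1_c2 LD2_c29 LD3_c21) (LK LD1_c5 LD2_c3 LD3_c45) Lrfl Lrfl
theorem f166894 : Led Lsl_gt (LP (LK LD1_c5 LD2_c3 LD3_c45)) = (LP (LK LD1_c9 LD2_c58 LD3_c20)) :=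
  Lre_g IH (LK LD1_c5 LD2_c3 LD3_c45) (LK LD1_c9 LD2_c58 LD3_c20) Lrfl Lrfl
theorem f214793 : Led Lsl_bt (LP (LK LD1_c18 LD2_c14 LD3_c33)) = (LP (LK LD1_c9 LD2_c58 LD3_c20)) :=
  Lre_b IH (LK LD1_c18 LD2_c14 LD3_c33) (LK LD1_c9 LD2_c58 LD3_c20) Lrfl Lrfl
theorem f214859 : Led Lsl_cf (LP (LK LD1_c18 LD2_c44 LD3_c49)) = (LP (LK LD1_c18 LD2_c14 LD3_c33)) :=
  Lgr Lrot160 (Lpr_gt (f214858 IH) (Lpr_cf (K14.f214831 IH) (Lpr_bt (f31504 IH) (Lpe (K14.f214787 IH) (Lpr_ct (K14.f214130 IH) (Lpe (K12.f194152 IH) (Lpe (K14.f3136 IH) (Lpr_bt (f166893 IH) (Lpr_gt (f166894 IH) (Lpe (f214793 IH) (Lpn (LP (LK LD1_c18 LD2_c14 LD3_c33)))))))))))))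
theorem f249864 : Led Lsl_at (LP (LK LD1_c5 LD2_c10 LD3_c31)) = (LP (LK LD1_c10 LD2_c11 LD3_c42)) :=
  Lre_a IH (LK LD1_c5 LD2_c10 LD3_c31) (LK LD1_c10 LD2_c11 LD3_c42) Lrfl Lrfl
theorem f249870 : Led Lsl_gt (LP (LK LD1_c9 LD2_c58 LD3_c20)) = (LP (LK LD1_c10 LD2_c11 LD3_c42)) :=
  Lgr Lrot46 (Lpe (f166894 IH) (Lpr_ft (K14.f249855 IH) (Lpr_at (f249864 IH) (Lpn (LP (LK LD1_c10 LD2_c11 LD3_c42))))))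
theorem f248984 : Led Lsl_ct (LP (LK LD1_c10 LD2_c11 LD3_c42)) = (LP (LK LD1_c5 LD2_c10 LD3_c39)) :=
  Lre_c IH (LK LD1_c10 LD2_c11 LD3_c42) (LK LD1_c5 LD2_c10 LD3_c39) Lrfl Lrfl
theorem f342950 : Led Lsl_ct (LP (LK LD1_c18 LD2_c47 LD3_c7)) = (LP (LK LD1_c10 LD2_c21 LD3_c11)) :=
  Lre_c IH (LK LD1_c18 LD2_c47 LD3_c7) (LK LD1_c10 LD2_c21 LD3_c11) Lrfl Lrfl
theorem f342913 : Led Lsl_at (LP (LK LD1_c15 LD2_c0 LD3_c38)) = (LP (LK LD1_c24 LD2_c48 LD3_c2)) :=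
  Lre_a IH (LK LD1_c15 LD2_c0 LD3_c38) (LK LD1_c24 LD2_c48 LD3_c2) Lrfl Lrfl
theorem f343009 : Led Lsl_gf (LP (LK LD1_c24 LD2_c48 LD3_c2)) = (LP (LK LD1_c18 LD2_c6 LD3_c52)) :=
  Lgr Lrot76 (Lpe (f342913 IH) (Lpr_ff (K23.f342997 IH) (Lpr_gt (K10.f190615 IH) (Lpn (LP (LK LD1_c18 LD2_c6 LD3_c52))))))
theorem f343296 : Led Lsl_gt (LP (LK LD1_c5 LD2_c10 LD3_c39)) = (LP (LK LD1_c5 LD2_c3 LD3_c52)) :=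
  Lgr Lrot149 (Lpe (f248984 IH) (Lpe (f249870 IH) (Lpe (f214793 IH) (Lpe (f214859 IH) (Lpr_gf (f343294 IH) (Lpe (f342950 IH) (Lpe (K26.f342939 IH) (Lpr_gf (f343009 IH) (Lpe (K10.f190617 IH) (Lpr_ct (K10.f190618 IH) (Lpn (LP (LK LD1_c5 LD2_c3 LD3_c52)))))))))))))
theorem f343298 : Led Lsl_at (LP (LK LD1_c5 LD2_c3 LD3_c53)) = (LP (LK LD1_c2 LD2_c29 LD3_c23)) :=
  Lre_a IH (LK LD1_c5 LD2_c3 LD3_c53) (LK LD1_c2 LD2_c29 LD3_c23) Lrfl Lrfl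
theorem f343299 : Led Lsl_ft (LP (LK LD1_c5 LD2_c10 LD3_c39)) = (LP (LK LD1_c5 LD2_c3 LD3_c53)) :=
  Lgr Lrot2 (Lpr_gt (f343296 IH) (Lpr_gt (K10.f165738 IH) (Lpe (f343298 IH) (Lpn (LP (LK LD1_c5 LD2_c3 LD3_c53))))))
theorem f180741 : Led Lsl_bt (LP (LK LD1_c2 LD2_c32 LD3_c29)) = (LP (LK LD1_c1 LD2_c13 LD3_c13)) :=
  Lre_b IH (LK LD1_c2 LD2_c32 LD3_c29) (LK LD1_c1 LD2_c13 LD3_c13) Lrfl Lrfl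
theorem f301744 : Led Lsl_at (LP (LK LD1_c5 LD2_c10 LD3_c61)) = (LP (LK LD1_c2 LD2_c32 LD3_c29)) :=
  Lre_a IH (LK LD1_c5 LD2_c10 LD3_c61) (LK LD1_c2 LD2_c32 LD3_c29) Lrfl Lrfl
theorem f165588 : Led Lsl_bt (LP (LK LD1_c1 LD2_c11 LD3_c48)) = (LP (LK LD1_c2 LD2_c29 LD3_c23)) :=
  Lre_b IH (LK LD1_c1 LD2_c11 LD3_c48) (LK LD1_c2 LD2_c29 LD3_c23) Lrfl Lrfl
theorem f249874 : Led Lsl_at (LP (LK LD1_c2 LD2_c29 LD3_c23)) = (LP (LK LD1_c5 LD2_c3 LD3_c53)) :=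
  Lre_a IH (LK LD1_c2 LD2_c29 LD3_c23) (LK LD1_c5 LD2_c3 LD3_c53) Lrfl Lrfl
theorem f301745 : Led Lsl_bf (LP (LK LD1_c5 LD2_c10 LD3_c61)) = (LP (LK LD1_c5 LD2_c3 LD3_c53)) :=
  Lgr Lrot81 (Lpr_at (f301744 IH) (Lpr_bt (f180741 IH) (Lpr_at (K18.f301737 IH) (Lpr_bt (f165588 IH) (Lpr_at (f249874 IH) (Lpn (LP (LK LD1_c5 LD2_c3 LD3_c53))))))))
theorem f343330 : Led Lsl_ff (LP (LK LD1_c5 LD2_c3 LD3_c26)) = (LP (LK LD1_c5 LD2_c10 LD3_c61)) :=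
  Lgr Lrot25 (Lpr_bt (K14.f248946 IH) (Lpr_ft (f343299 IH) (Lpe (f301745 IH) (Lpn (LP (LK LD1_c5 LD2_c10 LD3_c61))))))
theorem f248870 : Led Lsl_at (LP (LK LD1_c5 LD2_c3 LD3_c26)) = (LP (LK LD1_c2 LD2_c29 LD3_c14)) :=
  Lre_a IH (LK LD1_c5 LD2_c3 LD3_c26) (LK LD1_c2 LD2_c29 LD3_c14) Lrfl Lrfl
theorem f165435 : Led Lsl_gt (LP (LK LD1_c5 LD2_c3 LD3_c25)) = (LP (LK LD1_c2 LD2_c29 LD3_c14)) :=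
  Lre_g IH (LK LD1_c5 LD2_c3 LD3_c25) (LK LD1_c2 LD2_c29 LD3_c14) Lrfl Lrfl
theorem f343344 : Led Lsl_gf (LP (LK LD1_c5 LD2_c3 LD3_c25)) = (LP (LK LD1_c5 LD2_c10 LD3_c61)) :=
  Lgr Lrot47 (Lpr_gt (f165435 IH) (Lpe (f248870 IH) (Lpr_ff (f343330 IH) (Lpn (LP (LK LD1_c5 LD2_c10 LD3_c61))))))
theorem f233690 : Led Lsl_ct (LP (LK LD1_c9 LD2_c57 LD3_c47)) = (LP (LK LD1_c5 LD2_c3 LD3_c25)) :=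
  Lre_c IH (LK LD1_c9 LD2_c57 LD3_c47) (LK LD1_c5 LD2_c3 LD3_c25) Lrfl Lrfl
theorem f233424 : Led Lsl_cf (LP (LK LD1_c2 LD2_c36 LD3_c18)) = (LP (LK LD1_c5 LD2_c3 LD3_c17)) :=
  Lgr Lrot11 (Lpr_ct (K14.f233415 IH) (Lpn (LP (LK LD1_c5 LD2_c3 LD3_c17))))
theorem f229051 : Led Lsl_bt (LP (LK LD1_c4 LD2_c54 LD3_c10)) = (LP (LK LD1_c9 LD2_c39 LD3_c48)) :=
  Lre_b IH (LK LD1_c4 LD2_c54 LD3_c10) (LK LD1_c9 LD2_c39 LD3_c48) Lrfl Lrfl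
theorem f229059 : Led Lsl_gt (LP (LK LD1_c9 LD2_c39 LD3_c48)) = (LP (LK LD1_c17 LD2_c46 LD3_c21)) :=
  Lre_g IH (LK LD1_c9 LD2_c39 LD3_c48) (LK LD1_c17 LD2_c46 LD3_c21) Lrfl Lrfl
theorem f165831 : Led Lsl_ct (LP (LK LD1_c5 LD2_c3 LD3_c18)) = (LP (LK LD1_c2 LD2_c29 LD3_c14)) :=
  Lre_c IH (LK LD1_c5 LD2_c3 LD3_c18) (LK LD1_c2 LD2_c29 LD3_c14) Lrfl Lrfl
theorem f233691 : Led Lsl_bf (LP (LK LD1_c17 LD2_c46 LD3_c21)) = (LP (LK LD1_c9 LD2_c57 LD3_c47)) :=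
  Lgr Lrot34 (Lpe (f229059 IH) (Lpe (f229051 IH) (Lpr_ct (K12.f229052 IH) (Lpr_gf (K12.f46530 IH) (Lpr_cf (f233424 IH) (Lpe (K14.f184046 IH) (Lpe (K14.f184511 IH) (Lpr_ct (f165831 IH) (Lpe (f165435 IH) (Lpe (f233690 IH) (Lpn (LP (LK LD1_c9 LD2_c57 LD3_c47)))))))))))))
theorem f294547 : Led Lsl_gt (LP (LK LD1_c17 LD2_c46 LD3_c21)) = (LP (LK LD1_c17 LD2_c47 LD3_c23)) :=
  Lgr Lrot46 (Lpe (f229059 IH) (Lpr_ft (f294542 IH) (Lpr_at (f260124 IH) (Lpn (LP (LK LD1_c17 LD2_c47 LD3_c23))))))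
theorem f343334 : Led Lsl_ct (LP (LK LD1_c10 LD2_c12 LD3_c23)) = (LP (LK LD1_c5 LD2_c10 LD3_c61)) :=
  Lre_c IH (LK LD1_c10 LD2_c12 LD3_c23) (LK LD1_c5 LD2_c10 LD3_c61) Lrfl Lrfl
theorem f171479 : Led Lsl_bt (LP (LK LD1_c2 LD2_c32 LD3_c27)) = (LP (LK LD1_c5 LD2_c10 LD3_c53)) :=
  Lre_b IH (LK LD1_c2 LD2_c32 LD3_c27) (LK LD1_c5 LD2_c10 LD3_c53) Lrfl Lrfl
theorem f248540 : Led Lsl_at (LP (LK LD1_c5 LD2_c10 LD3_c53)) = (LP (LK LD1_c10 LD2_c12 LD3_c23)) :=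
  Lre_a IH (LK LD1_c5 LD2_c10 LD3_c53) (LK LD1_c10 LD2_c12 LD3_c23) Lrfl Lrfl
theorem f230554 : Led Lsl_bt (LP (LK LD1_c9 LD2_c40 LD3_c12)) = (LP (LK LD1_c4 LD2_c54 LD3_c22)) :=
  Lre_b IH (LK LD1_c9 LD2_c40 LD3_c12) (LK LD1_c4 LD2_c54 LD3_c22) Lrfl Lrfl
theorem f248541 : Led Lsl_at (LP (LK LD1_c17 LD2_c47 LD3_c11)) = (LP (LK LD1_c9 LD2_c40 LD3_c12)) :=
  Lre_a IH (LK LD1_c17 LD2_c47 LD3_c11) (LK LD1_c9 LD2_c40 LD3_c12) Lrfl Lrfl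
theorem f248542 : Led Lsl_bt (LP (LK LD1_c10 LD2_c12 LD3_c23)) = (LP (LK LD1_c17 LD2_c47 LD3_c11)) :=
  Lgr Lrot62 (Lpe (f248540 IH) (Lpe (f171479 IH) (Lpr_af (K14.f248536 IH) (Lpe (f230554 IH) (Lpe (f248541 IH) (Lpn (LP (LK LD1_c17 LD2_c47 LD3_c11))))))))
theorem f343348 : Led Lsl_gt (LP (LK LD1_c17 LD2_c45 LD3_c61)) = (LP (LK LD1_c17 LD2_c47 LD3_c11)) :=
  Lgr Lrot164 (Lpr_bf (f294587 IH) (Lpr_ct (f294586 IH) (Lpe (f294604 IH) (Lpe (f260122 IH) (Lpe (f294547 IH) (Lpr_bf (f233691 IH) (Lpr_ct (f233690 IH) (Lpr_gf (f343344 IH) (Lpe (f343334 IH) (Lpr_bt (f248542 IH) (Lpn (LP (LK LD1_c17 LD2_c47 LD3_c11)))))))))))))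
theorem f343342 : Led Lsl_ft (LP (LK LD1_c5 LD2_c3 LD3_c26)) = (LP (LK LD1_c5 LD2_c10 LD3_c61)) :=
  Lgr Lrot48 (Lpr_ff (f343330 IH) (Lpn (LP (LK LD1_c5 LD2_c10 LD3_c61))))
theorem f343347 : Led Lsl_ct (LP (LK LD1_c5 LD2_c10 LD3_c61)) = (LP (LK LD1_c10 LD2_c12 LD3_c23)) :=
  Lre_c IH (LK LD1_c5 LD2_c10 LD3_c61) (LK LD1_c10 LD2_c12 LD3_c23) Lrfl Lrfl
theorem f343356 : Led Lsl_ff (LP (LK LD1_c9 LD2_c57 LD3_c26)) = (LP (LK LD1_c10 LD2_c12 LD3_c23)) :=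
  Lgr Lrot23 (Lpr_ct (K14.f248958 IH) (Lpr_ft (f343342 IH) (Lpr_ct (f343347 IH) (Lpn (LP (LK LD1_c10 LD2_c12 LD3_c23))))))
theorem f343438 : Led Lsl_dt (LP (LK LD1_c9 LD2_c57 LD3_c26)) = (LP (LK LD1_c18 LD2_c13 LD3_c11)) :=
  Lre_d IH (LK LD1_c9 LD2_c57 LD3_c26) (LK LD1_c18 LD2_c13 LD3_c11) Lrfl Lrfl
theorem f343439 : Led Lsl_dt (LP (LK LD1_c18 LD2_c35 LD3_c19)) = (LP (LK LD1_c10 LD2_c12 LD3_c23)) :=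
  Lre_d IH (LK LD1_c18 LD2_c35 LD3_c19) (LK LD1_c10 LD2_c12 LD3_c23) Lrfl Lrfl
theorem f343440 : Led Lsl_ft (LP (LK LD1_c18 LD2_c13 LD3_c11)) = (LP (LK LD1_c18 LD2_c35 LD3_c19)) :=
  Lgr Lrot54 (Lpe (f343438 IH) (Lpr_ff (f343356 IH) (Lpe (f343439 IH) (Lpn (LP (LK LD1_c18 LD2_c35 LD3_c19))))))
theorem f257437 : Led Lsl_bt (LP (LK LD1_c9 LD2_c57 LD3_c27)) = (LP (LK LD1_c5 LD2_c3 LD3_c19)) :=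
  Lre_b IH (LK LD1_c9 LD2_c57 LD3_c27) (LK LD1_c5 LD2_c3 LD3_c19) Lrfl Lrfl
theorem f307524 : Led Lsl_at (LP (LK LD1_c18 LD2_c13 LD3_c11)) = (LP (LK LD1_c9 LD2_c57 LD3_c27)) :=
  Lre_a IH (LK LD1_c18 LD2_c13 LD3_c11) (LK LD1_c9 LD2_c57 LD3_c27) Lrfl Lrfl
theorem f307525 : Led Lsl_at (LP (LK LD1_c17 LD2_c46 LD3_c2)) = (LP (LK LD1_c27 LD2_c32 LD3_c22)) :=
  Lre_a IH (LK LD1_c17 LD2_c46 LD3_c2) (LK LD1_c27 LD2_c32 LD3_c22) Lrfl Lrfl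
theorem f307526 : Led Lsl_bf (LP (LK LD1_c18 LD2_c13 LD3_c11)) = (LP (LK LD1_c27 LD2_c32 LD3_c22)) :=
  Lgr Lrot81 (Lpr_at (f307524 IH) (Lpr_bt (f257437 IH) (Lpr_at (K19.f307507 IH) (Lpr_bt (K19.f230245 IH) (Lpr_at (f307525 IH) (Lpn (LP (LK LD1_c27 LD2_c32 LD3_c22))))))))
theorem f307550 : Led Lsl_at (LP (LK LD1_c17 LD2_c47 LD3_c12)) = (LP (LK LD1_c27 LD2_c34 LD3_c6)) :=
  Lre_a IH (LK LD1_c17 LD2_c47 LD3_c12) (LK LD1_c27 LD2_c34 LD3_c6) Lrfl Lrfl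
theorem f307551 : Led Lsl_at (LP (LK LD1_c27 LD2_c32 LD3_c22)) = (LP (LK LD1_c17 LD2_c46 LD3_c2)) :=
  Lre_a IH (LK LD1_c27 LD2_c32 LD3_c22) (LK LD1_c17 LD2_c46 LD3_c2) Lrfl Lrfl
theorem f307552 : Led Lsl_ft (LP (LK LD1_c27 LD2_c34 LD3_c6)) = (LP (LK LD1_c27 LD2_c32 LD3_c22)) :=
  Lgr Lrot101 (Lpe (f307550 IH) (Lpr_ff (K19.f307547 IH) (Lpe (f307551 IH) (Lpn (LP (LK LD1_c27 LD2_c32 LD3_c22))))))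
theorem f343449 : Led Lsl_bf (LP (LK LD1_c27 LD2_c34 LD3_c6)) = (LP (LK LD1_c18 LD2_c35 LD3_c19)) :=
  Lgr Lrot61 (Lpr_ft (f307552 IH) (Lpe (f307526 IH) (Lpr_ft (f343440 IH) (Lpn (LP (LK LD1_c18 LD2_c35 LD3_c19))))))
theorem f307560 : Led Lsl_dt (LP (LK LD1_c27 LD2_c34 LD3_c6)) = (LP (LK LD1_c17 LD2_c47 LD3_c11)) :=
  Lre_d IH (LK LD1_c27 LD2_c34 LD3_c6) (LK LD1_c17 LD2_c47 LD3_c11) Lrfl Lrfl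
theorem f343435 : Led Lsl_dt (LP (LK LD1_c10 LD2_c12 LD3_c23)) = (LP (LK LD1_c18 LD2_c35 LD3_c19)) :=
  Lre_d IH (LK LD1_c10 LD2_c12 LD3_c23) (LK LD1_c18 LD2_c35 LD3_c19) Lrfl Lrfl
theorem f343503 : Led Lsl_bt (LP (LK LD1_c17 LD2_c47 LD3_c11)) = (LP (LK LD1_c10 LD2_c12 LD3_c23)) :=
  Lgr Lrot95 (Lpe (f307560 IH) (Lpr_bf (f343449 IH) (Lpe (f343435 IH) (Lpn (LP (LK LD1_c10 LD2_c12 LD3_c23))))))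
theorem f248980 : Led Lsl_bt (LP (LK LD1_c18 LD2_c33 LD3_c59)) = (LP (LK LD1_c10 LD2_c11 LD3_c42)) :=
  Lre_b IH (LK LD1_c18 LD2_c33 LD3_c59) (LK LD1_c10 LD2_c11 LD3_c42) Lrfl Lrfl
theorem f165819 : Led Lsl_bt (LP (LK LD1_c2 LD2_c29 LD3_c14)) = (LP (LK LD1_c1 LD2_c11 LD3_c45)) :=
  Lre_b IH (LK LD1_c2 LD2_c29 LD3_c14) (LK LD1_c1 LD2_c11 LD3_c45) Lrfl Lrfl
theorem f165250 : Led Lsl_bt (LP (LK LD1_c1 LD2_c13 LD3_c10)) = (LP (LK LD1_c2 LD2_c32 LD3_c21)) :=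
  Lre_b IH (LK LD1_c1 LD2_c13 LD3_c10) (LK LD1_c2 LD2_c32 LD3_c21) Lrfl Lrfl
theorem f248871 : Led Lsl_at (LP (LK LD1_c2 LD2_c32 LD3_c21)) = (LP (LK LD1_c5 LD2_c10 LD3_c39)) :=
  Lre_a IH (LK LD1_c2 LD2_c32 LD3_c21) (LK LD1_c5 LD2_c10 LD3_c39) Lrfl Lrfl
theorem f248872 : Led Lsl_bf (LP (LK LD1_c5 LD2_c3 LD3_c26)) = (LP (LK LD1_c5 LD2_c10 LD3_c39)) :=
  Lgr Lrot81 (Lpr_at (f248870 IH) (Lpr_bt (f165819 IH) (Lpr_at (K14.f248868 IH) (Lpr_bt (f165250 IH) (Lpr_at (f248871 IH) (Lpn (LP (LK LD1_c5 LD2_c10 LD3_c39))))))))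
theorem f248966 : Led Lsl_ct (LP (LK LD1_c5 LD2_c3 LD3_c26)) = (LP (LK LD1_c9 LD2_c57 LD3_c26)) :=
  Lre_c IH (LK LD1_c5 LD2_c3 LD3_c26) (LK LD1_c9 LD2_c57 LD3_c26) Lrfl Lrfl
theorem f248985 : Led Lsl_bf (LP (LK LD1_c17 LD2_c46 LD3_c1)) = (LP (LK LD1_c9 LD2_c57 LD3_c26)) :=
  Lgr Lrot90 (Lpr_ct (K14.f248971 IH) (Lpr_bt (f248980 IH) (Lpr_ct (f248984 IH) (Lpe (f248872 IH) (Lpr_ct (f248966 IH) (Lpn (LP (LK LD1_c9 LD2_c57 LD3_c26))))))))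
theorem f343507 : Led Lsl_ff (LP (LK LD1_c17 LD2_c47 LD3_c11)) = (LP (LK LD1_c17 LD2_c46 LD3_c1)) :=
  Lgr Lrot25 (Lpr_bt (f343503 IH) (Lpe (f343356 IH) (Lpe (f248985 IH) (Lpn (LP (LK LD1_c17 LD2_c46 LD3_c1))))))
theorem f343509 : Led Lsl_ct (LP (LK LD1_c17 LD2_c47 LD3_c11)) = (LP (LK LD1_c18 LD2_c14 LD3_c20)) :=
  Lgr Lrot40 (Lpr_ff (f343507 IH) (Lpr_cf (K14.f248961 IH) (Lpe (K14.f249745 IH) (Lpn (LP (LK LD1_c18 LD2_c14 LD3_c20))))))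
theorem f248981 : Led Lsl_at (LP (LK LD1_c18 LD2_c33 LD3_c59)) = (LP (LK LD1_c10 LD2_c11 LD3_c32)) :=
  Lre_a IH (LK LD1_c18 LD2_c33 LD3_c59) (LK LD1_c10 LD2_c11 LD3_c32) Lrfl Lrfl
theorem f249761 : Led Lsl_gt (LP (LK LD1_c18 LD2_c14 LD3_c20)) = (LP (LK LD1_c18 LD2_c33 LD3_c58)) :=
  Lgr Lrot5 (Lpr_ft (K14.f249745 IH) (Lpr_at (f248981 IH) (Lpe (f249073 IH) (Lpn (LP (LK LD1_c18 LD2_c33 LD3_c58))))))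
theorem f184867 : Led Lsl_bt (LP (LK LD1_c27 LD2_c34 LD3_c30)) = (LP (LK LD1_c17 LD2_c47 LD3_c29)) :=
  Lre_b IH (LK LD1_c27 LD2_c34 LD3_c30) (LK LD1_c17 LD2_c47 LD3_c29) Lrfl Lrfl
theorem f407428 : Led Lsl_cf (LP (LK LD1_c18 LD2_c33 LD3_c58)) = (LP (LK LD1_c27 LD2_c34 LD3_c30)) :=
  Lgr Lrot163 (Lpe (f249761 IH) (Lpe (f343509 IH) (Lpe (f343348 IH) (Lpr_bf (f294587 IH) (Lpr_ct (f294586 IH) (Lpe (f294604 IH) (Lpe (f260122 IH) (Lpe (f294268 IH) (Lpr_gf (f407426 IH) (Lpe (f184867 IH) (Lpn (LP (LK LD1_c27 LD2_c34 LD3_c30)))))))))))))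
theorem f258037 : Led Lsl_cf (LP (LK LD1_c5 LD2_c19 LD3_c37)) = (LP (LK LD1_c9 LD2_c40 LD3_c30)) :=
  Lgr Lrot55 (Lpr_dt (K15.f229992 IH) (Lpr_ct (K10.f182049 IH) (Lpr_dt (K10.f182059 IH) (Lpr_ct (K10.f184644 IH) (Lpr_dt (K13.f44020 IH) (Lpr_ct (K15.f45905 IH) (Lpr_dt (K15.f257062 IH) (Lpr_ct (K15.f212341 IH) (Lpr_dt (K15.f258033 IH) (Lpr_ct (K15.f43420 IH) (Lpr_dt (K14.f43422 IH) (Lpr_ct (K10.f184868 IH) (Lpr_dt (K14.f184829 IH) (Lpr_ct (K14.f184834 IH) (Lpe (K14.f193117 IH) (Lpn (LP (LK LD1_c9 LD2_c40 LD3_c30))))))))))))))))))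
theorem f193125 : Led Lsl_bt (LP (LK LD1_c9 LD2_c40 LD3_c30)) = (LP (LK LD1_c17 LD2_c47 LD3_c51)) :=
  Lre_b IH (LK LD1_c9 LD2_c40 LD3_c30) (LK LD1_c17 LD2_c47 LD3_c51) Lrfl Lrfl
theorem f544692 : Led Lsl_gf (LP (LK LD1_c27 LD2_c34 LD3_c30)) = (LP (LK LD1_c17 LD2_c47 LD3_c51)) :=
  Lgr Lrot181 (Lpe (f407428 IH) (Lpr_gt (f249073 IH) (Lpe (f248969 IH) (Lpr_bt (f248288 IH) (Lpe (K14.f248279 IH) (Lpr_bf (f544678 IH) (Lpr_ct (K14.f46527 IH) (Lpr_gt (K15.f44127 IH) (Lpr_cf (f258037 IH) (Lpr_bt (f193125 IH) (Lpn (LP (LK LD1_c17 LD2_c47 LD3_c51)))))))))))))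
theorem f294385 : Led Lsl_bt (LP (LK LD1_c17 LD2_c47 LD3_c29)) = (LP (LK LD1_c27 LD2_c34 LD3_c30)) :=
  Lre_b IH (LK LD1_c17 LD2_c47 LD3_c29) (LK LD1_c27 LD2_c34 LD3_c30) Lrfl Lrfl
theorem f184866 : Led Lsl_ct (LP (LK LD1_c17 LD2_c47 LD3_c29)) = (LP (LK LD1_c27 LD2_c34 LD3_c31)) :=
  Lre_c IH (LK LD1_c17 LD2_c47 LD3_c29) (LK LD1_c27 LD2_c34 LD3_c31) Lrfl Lrfl
theorem f190638 : Led Lsl_bt (LP (LK LD1_c17 LD2_c45 LD3_c54)) = (LP (LK LD1_c9 LD2_c39 LD3_c36)) :=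
  Lre_b IH (LK LD1_c17 LD2_c45 LD3_c54) (LK LD1_c9 LD2_c39 LD3_c36) Lrfl Lrfl
theorem f544698 : Led Lsl_gt (LP (LK LD1_c27 LD2_c34 LD3_c31)) = (LP (LK LD1_c27 LD2_c32 LD3_c11)) :=
  Lgr Lrot65 (Lpe (f184866 IH) (Lpr_bt (f294385 IH) (Lpr_gf (f544692 IH) (Lpe (f193125 IH) (Lpe (f258037 IH) (Lpe (K15.f44127 IH) (Lpe (K14.f46527 IH) (Lpr_gf (K14.f190634 IH) (Lpe (f190638 IH) (Lpr_ct (K18.f190639 IH) (Lpn (LP (LK LD1_c27 LD2_c32 LD3_c11)))))))))))))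
theorem f229090 : Led Lsl_bt (LP (LK LD1_c4 LD2_c1 LD3_c53)) = (LP (LK LD1_c8 LD2_c4 LD3_c24)) :=
  Lre_b IH (LK LD1_c4 LD2_c1 LD3_c53) (LK LD1_c8 LD2_c4 LD3_c24) Lrfl Lrfl
theorem f262500 : Led Lsl_ft (LP (LK LD1_c8 LD2_c4 LD3_c24)) = (LP (LK LD1_c5 LD2_c9 LD3_c9)) :=
  Lgr Lrot75 (Lpe (f229090 IH) (Lpr_ff (K15.f262496 IH) (Lpe (K19.f33828 IH) (Lpn (LP (LK LD1_c5 LD2_c9 LD3_c9))))))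
theorem f229103 : Led Lsl_gt (LP (LK LD1_c8 LD2_c4 LD3_c24)) = (LP (LK LD1_c15 LD2_c11 LD3_c59)) :=
  Lre_g IH (LK LD1_c8 LD2_c4 LD3_c24) (LK LD1_c15 LD2_c11 LD3_c59) Lrfl Lrfl
theorem f413122 : Led Lsl_gt (LP (LK LD1_c15 LD2_c11 LD3_c59)) = (LP (LK LD1_c10 LD2_c8 LD3_c52)) :=
  Lgr Lrot46 (Lpe (f229103 IH) (Lpr_ft (f262500 IH) (Lpr_at (f260034 IH) (Lpn (LP (LK LD1_c10 LD2_c8 LD3_c52))))))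
theorem f229106 : Led Lsl_bt (LP (LK LD1_c25 LD2_c0 LD3_c54)) = (LP (LK LD1_c15 LD2_c11 LD3_c59)) :=
  Lre_b IH (LK LD1_c25 LD2_c0 LD3_c54) (LK LD1_c15 LD2_c11 LD3_c59) Lrfl Lrfl
theorem f197156 : Led Lsl_ct (LP (LK LD1_c5 LD2_c8 LD3_c58)) = (LP (LK LD1_c10 LD2_c8 LD3_c14)) :=
  Lre_c IH (LK LD1_c5 LD2_c8 LD3_c58) (LK LD1_c10 LD2_c8 LD3_c14) Lrfl Lrfl
theorem f197100 : Led Lsl_gt (LP (LK LD1_c18 LD2_c27 LD3_c51)) = (LP (LK LD1_c10 LD2_c8 LD3_c14)) :=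
  Lre_g IH (LK LD1_c18 LD2_c27 LD3_c51) (LK LD1_c10 LD2_c8 LD3_c14) Lrfl Lrfl
theorem f229107 : Led Lsl_ct (LP (LK LD1_c25 LD2_c0 LD3_c54)) = (LP (LK LD1_c18 LD2_c27 LD3_c51)) :=
  Lgr Lrot64 (Lpr_bt (f229106 IH) (Lpe (f229103 IH) (Lpe (f229090 IH) (Lpe (K15.f229093 IH) (Lpr_gf (K13.f229101 IH) (Lpe (K1.f46947 IH) (Lpr_gf (K10.f197170 IH) (Lpe (K18.f197182 IH) (Lpr_ct (f197156 IH) (Lpe (f197100 IH) (Lpn (LP (LK LD1_c18 LD2_c27 LD3_c51)))))))))))))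
theorem f49495 : Led Lsl_bt (LP (LK LD1_c18 LD2_c45 LD3_c0)) = (LP (LK LD1_c10 LD2_c19 LD3_c42)) :=
  Lre_b IH (LK LD1_c18 LD2_c45 LD3_c0) (LK LD1_c10 LD2_c19 LD3_c42) Lrfl Lrfl
theorem f230108 : Led Lsl_at (LP (LK LD1_c28 LD2_c14 LD3_c50)) = (LP (LK LD1_c18 LD2_c45 LD3_c0)) :=
  Lre_a IH (LK LD1_c28 LD2_c14 LD3_c50) (LK LD1_c18 LD2_c45 LD3_c0) Lrfl Lrfl
theorem f180808 : Led Lsl_bt (LP (LK LD1_c5 LD2_c16 LD3_c3)) = (LP (LK LD1_c10 LD2_c21 LD3_c35)) :=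
  Lre_b IH (LK LD1_c5 LD2_c16 LD3_c3) (LK LD1_c10 LD2_c21 LD3_c35) Lrfl Lrfl
theorem f180872 : Led Lsl_at (LP (LK LD1_c10 LD2_c21 LD3_c35)) = (LP (LK LD1_c18 LD2_c48 LD3_c4)) :=
  Lre_a IH (LK LD1_c10 LD2_c21 LD3_c35) (LK LD1_c18 LD2_c48 LD3_c4) Lrfl Lrfl
theorem f350784 : Led Lsl_bf (LP (LK LD1_c28 LD2_c14 LD3_c50)) = (LP (LK LD1_c18 LD2_c48 LD3_c4)) :=
  Lgr Lrot81 (Lpr_at (f230108 IH) (Lpr_bt (f49495 IH) (Lpr_at (K26.f350780 IH) (Lpr_bt (f180808 IH) (Lpr_at (f180872 IH) (Lpn (LP (LK LD1_c18 LD2_c48 LD3_c4))))))))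
theorem f230203 : Led Lsl_et (LP (LK LD1_c28 LD2_c14 LD3_c50)) = (LP (LK LD1_c18 LD2_c44 LD3_c60)) :=
  Lre_e IH (LK LD1_c28 LD2_c14 LD3_c50) (LK LD1_c18 LD2_c44 LD3_c60) Lrfl Lrfl
theorem f180871 : Led Lsl_et (LP (LK LD1_c10 LD2_c21 LD3_c33)) = (LP (LK LD1_c18 LD2_c48 LD3_c4)) :=
  Lre_e IH (LK LD1_c10 LD2_c21 LD3_c33) (LK LD1_c18 LD2_c48 LD3_c4) Lrfl Lrfl
theorem f350863 : Led Lsl_bt (LP (LK LD1_c18 LD2_c44 LD3_c60)) = (LP (LK LD1_c10 LD2_c21 LD3_c33)) :=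
  Lgr Lrot119 (Lpe (f230203 IH) (Lpr_bf (f350784 IH) (Lpe (f180871 IH) (Lpn (LP (LK LD1_c10 LD2_c21 LD3_c33))))))
theorem f230200 : Led Lsl_dt (LP (LK LD1_c28 LD2_c14 LD3_c49)) = (LP (LK LD1_c18 LD2_c44 LD3_c60)) :=
  Lre_d IH (LK LD1_c28 LD2_c14 LD3_c49) (LK LD1_c18 LD2_c44 LD3_c60) Lrfl Lrfl
theorem f180870 : Led Lsl_dt (LP (LK LD1_c10 LD2_c21 LD3_c33)) = (LP (LK LD1_c18 LD2_c48 LD3_c3)) :=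
  Lre_d IH (LK LD1_c10 LD2_c21 LD3_c33) (LK LD1_c18 LD2_c48 LD3_c3) Lrfl Lrfl
theorem f350867 : Led Lsl_bf (LP (LK LD1_c28 LD2_c14 LD3_c49)) = (LP (LK LD1_c18 LD2_c48 LD3_c3)) :=
  Lgr Lrot93 (Lpr_dt (f230200 IH) (Lpr_bt (f350863 IH) (Lpr_dt (f180870 IH) (Lpn (LP (LK LD1_c18 LD2_c48 LD3_c3))))))
theorem f350869 : Led Lsl_at (LP (LK LD1_c28 LD2_c14 LD3_c49)) = (LP (LK LD1_c18 LD2_c44 LD3_c61)) :=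
  Lre_a IH (LK LD1_c28 LD2_c14 LD3_c49) (LK LD1_c18 LD2_c44 LD3_c61) Lrfl Lrfl
theorem f252294 : Led Lsl_bt (LP (LK LD1_c18 LD2_c44 LD3_c61)) = (LP (LK LD1_c10 LD2_c19 LD3_c41)) :=
  Lre_b IH (LK LD1_c18 LD2_c44 LD3_c61) (LK LD1_c10 LD2_c19 LD3_c41) Lrfl Lrfl
theorem f350870 : Led Lsl_at (LP (LK LD1_c10 LD2_c21 LD3_c34)) = (LP (LK LD1_c18 LD2_c48 LD3_c3)) :=
  Lre_a IH (LK LD1_c10 LD2_c21 LD3_c34) (LK LD1_c18 LD2_c48 LD3_c3) Lrfl Lrfl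
theorem f285750 : Led Lsl_bt (LP (LK LD1_c5 LD2_c16 LD3_c2)) = (LP (LK LD1_c10 LD2_c21 LD3_c34)) :=
  Lre_b IH (LK LD1_c5 LD2_c16 LD3_c2) (LK LD1_c10 LD2_c21 LD3_c34) Lrfl Lrfl
theorem f350871 : Led Lsl_at (LP (LK LD1_c10 LD2_c19 LD3_c41)) = (LP (LK LD1_c5 LD2_c16 LD3_c2)) :=
  Lgr Lrot67 (Lpe (f252294 IH) (Lpe (f350869 IH) (Lpr_bf (f350867 IH) (Lpe (f350870 IH) (Lpe (f285750 IH) (Lpn (LP (LK LD1_c5 LD2_c16 LD3_c2))))))))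
theorem f294841 : Led Lsl_at (LP (LK LD1_c10 LD2_c21 LD3_c25)) = (LP (LK LD1_c18 LD2_c47 LD3_c44)) :=
  Lre_a IH (LK LD1_c10 LD2_c21 LD3_c25) (LK LD1_c18 LD2_c47 LD3_c44) Lrfl Lrfl
theorem f231927 : Led Lsl_bt (LP (LK LD1_c5 LD2_c15 LD3_c61)) = (LP (LK LD1_c10 LD2_c21 LD3_c25)) :=
  Lre_b IH (LK LD1_c5 LD2_c15 LD3_c61) (LK LD1_c10 LD2_c21 LD3_c25) Lrfl Lrfl
theorem f294842 : Led Lsl_at (LP (LK LD1_c28 LD2_c2 LD3_c40)) = (LP (LK LD1_c18 LD2_c27 LD3_c53)) :=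
  Lre_a IH (LK LD1_c28 LD2_c2 LD3_c40) (LK LD1_c18 LD2_c27 LD3_c53) Lrfl Lrfl
theorem f294843 : Led Lsl_bt (LP (LK LD1_c18 LD2_c27 LD3_c53)) = (LP (LK LD1_c10 LD2_c8 LD3_c15)) :=
  Lre_b IH (LK LD1_c18 LD2_c27 LD3_c53) (LK LD1_c10 LD2_c8 LD3_c15) Lrfl Lrfl
theorem f294844 : Led Lsl_af (LP (LK LD1_c5 LD2_c15 LD3_c61)) = (LP (LK LD1_c10 LD2_c8 LD3_c15)) :=
  Lgr Lrot36 (Lpr_bt (f231927 IH) (Lpr_at (f294841 IH) (Lpr_bt (K18.f294837 IH) (Lpr_at (f294842 IH) (Lpr_bt (f294843 IH) (Lpn (LP (LK LD1_c10 LD2_c8 LD3_c15))))))))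
theorem f350879 : Led Lsl_ff (LP (LK LD1_c10 LD2_c19 LD3_c41)) = (LP (LK LD1_c5 LD2_c15 LD3_c61)) :=
  Lgr Lrot30 (Lpr_at (f350871 IH) (Lpr_ft (K18.f294870 IH) (Lpe (f294844 IH) (Lpn (LP (LK LD1_c5 LD2_c15 LD3_c61))))))
theorem f252298 : Led Lsl_bt (LP (LK LD1_c10 LD2_c19 LD3_c41)) = (LP (LK LD1_c18 LD2_c44 LD3_c61)) :=
  Lre_b IH (LK LD1_c10 LD2_c19 LD3_c41) (LK LD1_c18 LD2_c44 LD3_c61) Lrfl Lrfl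
theorem f350881 : Led Lsl_ft (LP (LK LD1_c18 LD2_c44 LD3_c61)) = (LP (LK LD1_c10 LD2_c21 LD3_c25)) :=
  Lgr Lrot75 (Lpe (f252298 IH) (Lpr_ff (f350879 IH) (Lpe (K18.f231923 IH) (Lpn (LP (LK LD1_c10 LD2_c21 LD3_c25))))))
theorem f350888 : Led Lsl_ff (LP (LK LD1_c18 LD2_c44 LD3_c61)) = (LP (LK LD1_c10 LD2_c21 LD3_c25)) :=
  Lgr Lrot3 (Lpr_ft (f350881 IH) (Lpn (LP (LK LD1_c10 LD2_c21 LD3_c25))))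
theorem f230157 : Led Lsl_dt (LP (LK LD1_c18 LD2_c44 LD3_c61)) = (LP (LK LD1_c10 LD2_c19 LD3_c40)) :=
  Lre_d IH (LK LD1_c18 LD2_c44 LD3_c61) (LK LD1_c10 LD2_c19 LD3_c40) Lrfl Lrfl
theorem f294773 : Led Lsl_dt (LP (LK LD1_c5 LD2_c15 LD3_c60)) = (LP (LK LD1_c10 LD2_c21 LD3_c25)) :=
  Lre_d IH (LK LD1_c5 LD2_c15 LD3_c60) (LK LD1_c10 LD2_c21 LD3_c25) Lrfl Lrfl
theorem f350892 : Led Lsl_ft (LP (LK LD1_c10 LD2_c19 LD3_c40)) = (LP (LK LD1_c5 LD2_c15 LD3_c60)) :=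
  Lgr Lrot54 (Lpe (f230157 IH) (Lpr_ff (f350888 IH) (Lpe (f294773 IH) (Lpn (LP (LK LD1_c5 LD2_c15 LD3_c60))))))
theorem f230151 : Led Lsl_at (LP (LK LD1_c18 LD2_c44 LD3_c60)) = (LP (LK LD1_c10 LD2_c19 LD3_c40)) :=
  Lre_a IH (LK LD1_c18 LD2_c44 LD3_c60) (LK LD1_c10 LD2_c19 LD3_c40) Lrfl Lrfl
theorem f294790 : Led Lsl_at (LP (LK LD1_c5 LD2_c15 LD3_c60)) = (LP (LK LD1_c10 LD2_c21 LD3_c24)) :=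
  Lre_a IH (LK LD1_c5 LD2_c15 LD3_c60) (LK LD1_c10 LD2_c21 LD3_c24) Lrfl Lrfl
theorem f350897 : Led Lsl_ff (LP (LK LD1_c18 LD2_c44 LD3_c60)) = (LP (LK LD1_c10 LD2_c21 LD3_c24)) :=
  Lgr Lrot30 (Lpr_at (f230151 IH) (Lpr_ft (f350892 IH) (Lpr_at (f294790 IH) (Lpn (LP (LK LD1_c10 LD2_c21 LD3_c24))))))
theorem f350910 : Led Lsl_ft (LP (LK LD1_c10 LD2_c21 LD3_c33)) = (LP (LK LD1_c18 LD2_c27 LD3_c52)) :=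
  Lgr Lrot75 (Lpe (f350863 IH) (Lpr_ff (f350897 IH) (Lpr_bf (K18.f294829 IH) (Lpn (LP (LK LD1_c18 LD2_c27 LD3_c52))))))
theorem f350966 : Led Lsl_at (LP (LK LD1_c18 LD2_c27 LD3_c52)) = (LP (LK LD1_c10 LD2_c8 LD3_c14)) :=
  Lre_a IH (LK LD1_c18 LD2_c27 LD3_c52) (LK LD1_c10 LD2_c8 LD3_c14) Lrfl Lrfl
theorem f351122 : Led Lsl_gt (LP (LK LD1_c10 LD2_c21 LD3_c33)) = (LP (LK LD1_c18 LD2_c27 LD3_c51)) :=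
  Lgr Lrot5 (Lpr_ft (f350910 IH) (Lpr_at (f350966 IH) (Lpe (f197100 IH) (Lpn (LP (LK LD1_c18 LD2_c27 LD3_c51))))))
theorem f180829 : Led Lsl_bt (LP (LK LD1_c15 LD2_c11 LD3_c45)) = (LP (LK LD1_c8 LD2_c4 LD3_c18)) :=
  Lre_b IH (LK LD1_c15 LD2_c11 LD3_c45) (LK LD1_c8 LD2_c4 LD3_c18) Lrfl Lrfl
theorem f180830 : Led Lsl_ct (LP (LK LD1_c10 LD2_c21 LD3_c35)) = (LP (LK LD1_c15 LD2_c11 LD3_c45)) :=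
  Lgr Lrot83 (Lpe (f180808 IH) (Lpr_cf (K25.f180795 IH) (Lpe (K23.f180827 IH) (Lpe (K26.f180828 IH) (Lpe (f180829 IH) (Lpn (LP (LK LD1_c15 LD2_c11 LD3_c45))))))))
theorem f180838 : Led Lsl_et (LP (LK LD1_c5 LD2_c16 LD3_c1)) = (LP (LK LD1_c10 LD2_c21 LD3_c35)) :=
  Lre_e IH (LK LD1_c5 LD2_c16 LD3_c1) (LK LD1_c10 LD2_c21 LD3_c35) Lrfl Lrfl
theorem f180839 : Led Lsl_et (LP (LK LD1_c15 LD2_c11 LD3_c45)) = (LP (LK LD1_c8 LD2_c4 LD3_c16)) :=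
  Lre_e IH (LK LD1_c15 LD2_c11 LD3_c45) (LK LD1_c8 LD2_c4 LD3_c16) Lrfl Lrfl
theorem f180840 : Led Lsl_cf (LP (LK LD1_c5 LD2_c16 LD3_c1)) = (LP (LK LD1_c8 LD2_c4 LD3_c16)) :=
  Lgr Lrot39 (Lpr_et (f180838 IH) (Lpr_ct (f180830 IH) (Lpr_et (f180839 IH) (Lpn (LP (LK LD1_c8 LD2_c4 LD3_c16))))))
theorem f180844 : Led Lsl_at (LP (LK LD1_c5 LD2_c16 LD3_c1)) = (LP (LK LD1_c10 LD2_c21 LD3_c33)) :=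
  Lre_a IH (LK LD1_c5 LD2_c16 LD3_c1) (LK LD1_c10 LD2_c21 LD3_c33) Lrfl Lrfl
theorem f180845 : Led Lsl_at (LP (LK LD1_c15 LD2_c11 LD3_c43)) = (LP (LK LD1_c8 LD2_c4 LD3_c16)) :=
  Lre_a IH (LK LD1_c15 LD2_c11 LD3_c43) (LK LD1_c8 LD2_c4 LD3_c16) Lrfl Lrfl
theorem f180846 : Led Lsl_ct (LP (LK LD1_c10 LD2_c21 LD3_c33)) = (LP (LK LD1_c15 LD2_c11 LD3_c43)) :=
  Lgr Lrot111 (Lpe (f180844 IH) (Lpr_cf (f180840 IH) (Lpe (f180845 IH) (Lpn (LP (LK LD1_c15 LD2_c11 LD3_c43))))))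
theorem f180863 : Led Lsl_cf (LP (LK LD1_c10 LD2_c21 LD3_c33)) = (LP (LK LD1_c15 LD2_c11 LD3_c43)) :=
  Lgr Lrot11 (Lpr_ct (f180846 IH) (Lpn (LP (LK LD1_c15 LD2_c11 LD3_c43))))
theorem f180770 : Led Lsl_bt (LP (LK LD1_c8 LD2_c4 LD3_c16)) = (LP (LK LD1_c4 LD2_c1 LD3_c50)) :=
  Lre_b IH (LK LD1_c8 LD2_c4 LD3_c16) (LK LD1_c4 LD2_c1 LD3_c50) Lrfl Lrfl
theorem f33995 : Led Lsl_bt (LP (LK LD1_c2 LD2_c31 LD3_c39)) = (LP (LK LD1_c5 LD2_c8 LD3_c58)) :=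
  Lre_b IH (LK LD1_c2 LD2_c31 LD3_c39) (LK LD1_c5 LD2_c8 LD3_c58) Lrfl Lrfl
theorem f287161 : Led Lsl_ff (LP (LK LD1_c8 LD2_c4 LD3_c16)) = (LP (LK LD1_c5 LD2_c8 LD3_c58)) :=
  Lgr Lrot25 (Lpr_bt (f180770 IH) (Lpr_ft (K17.f287159 IH) (Lpr_bt (f33995 IH) (Lpn (LP (LK LD1_c5 LD2_c8 LD3_c58))))))
theorem f180868 : Led Lsl_at (LP (LK LD1_c8 LD2_c4 LD3_c16)) = (LP (LK LD1_c15 LD2_c11 LD3_c43)) :=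
  Lre_a IH (LK LD1_c8 LD2_c4 LD3_c16) (LK LD1_c15 LD2_c11 LD3_c43) Lrfl Lrfl
theorem f197068 : Led Lsl_gt (LP (LK LD1_c5 LD2_c8 LD3_c58)) = (LP (LK LD1_c10 LD2_c8 LD3_c20)) :=
  Lre_g IH (LK LD1_c5 LD2_c8 LD3_c58) (LK LD1_c10 LD2_c8 LD3_c20) Lrfl Lrfl
theorem f408563 : Led Lsl_gf (LP (LK LD1_c15 LD2_c11 LD3_c43)) = (LP (LK LD1_c10 LD2_c8 LD3_c20)) :=
  Lgr Lrot76 (Lpe (f180868 IH) (Lpr_ff (f287161 IH) (Lpr_gt (f197068 IH) (Lpn (LP (LK LD1_c10 LD2_c8 LD3_c20))))))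
theorem f197127 : Led Lsl_bt (LP (LK LD1_c18 LD2_c28 LD3_c0)) = (LP (LK LD1_c10 LD2_c8 LD3_c20)) :=
  Lre_b IH (LK LD1_c18 LD2_c28 LD3_c0) (LK LD1_c10 LD2_c8 LD3_c20) Lrfl Lrfl
theorem f32465 : Led Lsl_cf (LP (LK LD1_c5 LD2_c17 LD3_c7)) = (LP (LK LD1_c5 LD2_c15 LD3_c7)) :=
  Lgr Lrot11 (Lpr_ct (K2.f32450 IH) (Lpn (LP (LK LD1_c5 LD2_c15 LD3_c7))))
theorem f32487 : Led Lsl_gt (LP (LK LD1_c10 LD2_c23 LD3_c53)) = (LP (LK LD1_c5 LD2_c17 LD3_c7)) :=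
  Lre_g IH (LK LD1_c10 LD2_c23 LD3_c53) (LK LD1_c5 LD2_c17 LD3_c7) Lrfl Lrfl
theorem f32490 : Led Lsl_ct (LP (LK LD1_c18 LD2_c51 LD3_c60)) = (LP (LK LD1_c10 LD2_c23 LD3_c53)) :=
  Lre_c IH (LK LD1_c18 LD2_c51 LD3_c60) (LK LD1_c10 LD2_c23 LD3_c53) Lrfl Lrfl
theorem f197066 : Led Lsl_bt (LP (LK LD1_c10 LD2_c8 LD3_c14)) = (LP (LK LD1_c5 LD2_c8 LD3_c56)) :=
  Lre_b IH (LK LD1_c10 LD2_c8 LD3_c14) (LK LD1_c5 LD2_c8 LD3_c56) Lrfl Lrfl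
theorem f197067 : Led Lsl_ct (LP (LK LD1_c10 LD2_c8 LD3_c14)) = (LP (LK LD1_c5 LD2_c8 LD3_c58)) :=
  Lre_c IH (LK LD1_c10 LD2_c8 LD3_c14) (LK LD1_c5 LD2_c8 LD3_c58) Lrfl Lrfl
theorem f197069 : Led Lsl_ct (LP (LK LD1_c18 LD2_c28 LD3_c1)) = (LP (LK LD1_c10 LD2_c8 LD3_c20)) :=
  Lre_c IH (LK LD1_c18 LD2_c28 LD3_c1) (LK LD1_c10 LD2_c8 LD3_c20) Lrfl Lrfl
theorem f197070 : Led Lsl_bt (LP (LK LD1_c18 LD2_c28 LD3_c1)) = (LP (LK LD1_c28 LD2_c2 LD3_c51)) :=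
  Lre_b IH (LK LD1_c18 LD2_c28 LD3_c1) (LK LD1_c28 LD2_c2 LD3_c51) Lrfl Lrfl
theorem f197071 : Led Lsl_gf (LP (LK LD1_c18 LD2_c51 LD3_c60)) = (LP (LK LD1_c28 LD2_c2 LD3_c51)) :=
  Lgr Lrot181 (Lpr_ct (f32490 IH) (Lpr_gt (f32487 IH) (Lpr_cf (f32465 IH) (Lpr_bt (K2.f32449 IH) (Lpr_gt (K10.f197061 IH) (Lpe (f197066 IH) (Lpr_ct (f197067 IH) (Lpr_gt (f197068 IH) (Lpe (f197069 IH) (Lpr_bt (f197070 IH) (Lpn (LP (LK LD1_c28 LD2_c2 LD3_c51)))))))))))))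
theorem f197093 : Led Lsl_at (LP (LK LD1_c28 LD2_c20 LD3_c10)) = (LP (LK LD1_c18 LD2_c51 LD3_c60)) :=
  Lre_a IH (LK LD1_c28 LD2_c20 LD3_c10) (LK LD1_c18 LD2_c51 LD3_c60) Lrfl Lrfl
theorem f197094 : Led Lsl_ft (LP (LK LD1_c18 LD2_c51 LD3_c55)) = (LP (LK LD1_c28 LD2_c20 LD3_c10)) :=
  Lre_f IH (LK LD1_c18 LD2_c51 LD3_c55) (LK LD1_c28 LD2_c20 LD3_c10) Lrfl Lrfl
theorem f197095 : Led Lsl_gt (LP (LK LD1_c18 LD2_c51 LD3_c55)) = (LP (LK LD1_c28 LD2_c2 LD3_c51)) :=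
  Lgr Lrot5 (Lpr_ft (f197094 IH) (Lpr_at (f197093 IH) (Lpr_gf (f197071 IH) (Lpn (LP (LK LD1_c28 LD2_c2 LD3_c51))))))
theorem f32838 : Led Lsl_ct (LP (LK LD1_c10 LD2_c23 LD3_c52)) = (LP (LK LD1_c18 LD2_c51 LD3_c55)) :=
  Lre_c IH (LK LD1_c10 LD2_c23 LD3_c52) (LK LD1_c18 LD2_c51 LD3_c55) Lrfl Lrfl
theorem f32480 : Led Lsl_gt (LP (LK LD1_c5 LD2_c17 LD3_c7)) = (LP (LK LD1_c10 LD2_c23 LD3_c52)) :=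
  Lre_g IH (LK LD1_c5 LD2_c17 LD3_c7) (LK LD1_c10 LD2_c23 LD3_c52) Lrfl Lrfl
theorem f32835 : Led Lsl_ct (LP (LK LD1_c2 LD2_c35 LD3_c18)) = (LP (LK LD1_c1 LD2_c14 LD3_c40)) :=
  Lre_c IH (LK LD1_c2 LD2_c35 LD3_c18) (LK LD1_c1 LD2_c14 LD3_c40) Lrfl Lrfl
theorem f197036 : Led Lsl_bt (LP (LK LD1_c4 LD2_c15 LD3_c50)) = (LP (LK LD1_c8 LD2_c30 LD3_c44)) :=
  Lre_b IH (LK LD1_c4 LD2_c15 LD3_c50) (LK LD1_c8 LD2_c30 LD3_c44) Lrfl Lrfl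
theorem f197104 : Led Lsl_gt (LP (LK LD1_c15 LD2_c59 LD3_c0)) = (LP (LK LD1_c8 LD2_c30 LD3_c44)) :=
  Lre_g IH (LK LD1_c15 LD2_c59 LD3_c0) (LK LD1_c8 LD2_c30 LD3_c44) Lrfl Lrfl
theorem f197105 : Led Lsl_bt (LP (LK LD1_c25 LD2_c56 LD3_c14)) = (LP (LK LD1_c15 LD2_c59 LD3_c0)) :=
  Lre_b IH (LK LD1_c25 LD2_c56 LD3_c14) (LK LD1_c15 LD2_c59 LD3_c0) Lrfl Lrfl
theorem f197106 : Led Lsl_ct (LP (LK LD1_c25 LD2_c56 LD3_c14)) = (LP (LK LD1_c28 LD2_c2 LD3_c51)) :=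
  Lgr Lrot63 (Lpr_bt (f197105 IH) (Lpr_gt (f197104 IH) (Lpe (f197036 IH) (Lpr_ct (K16.f197014 IH) (Lpr_gt (K10.f197028 IH) (Lpe (f32835 IH) (Lpr_bt (K2.f32447 IH) (Lpr_gt (f32480 IH) (Lpr_ct (f32838 IH) (Lpr_gt (f197095 IH) (Lpn (LP (LK LD1_c28 LD2_c2 LD3_c51)))))))))))))
theorem f197119 : Led Lsl_bt (LP (LK LD1_c15 LD2_c59 LD3_c0)) = (LP (LK LD1_c25 LD2_c56 LD3_c14)) :=
  Lre_b IH (LK LD1_c15 LD2_c59 LD3_c0) (LK LD1_c25 LD2_c56 LD3_c14) Lrfl Lrfl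
theorem f197120 : Led Lsl_bt (LP (LK LD1_c28 LD2_c2 LD3_c51)) = (LP (LK LD1_c18 LD2_c28 LD3_c1)) :=
  Lre_b IH (LK LD1_c28 LD2_c2 LD3_c51) (LK LD1_c18 LD2_c28 LD3_c1) Lrfl Lrfl
theorem f197121 : Led Lsl_bt (LP (LK LD1_c10 LD2_c8 LD3_c20)) = (LP (LK LD1_c18 LD2_c28 LD3_c0)) :=
  Lre_b IH (LK LD1_c10 LD2_c8 LD3_c20) (LK LD1_c18 LD2_c28 LD3_c0) Lrfl Lrfl
theorem f197122 : Led Lsl_cf (LP (LK LD1_c15 LD2_c59 LD3_c0)) = (LP (LK LD1_c18 LD2_c28 LD3_c0)) :=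
  Lgr Lrot97 (Lpr_bt (f197119 IH) (Lpr_ct (f197106 IH) (Lpr_bt (f197120 IH) (Lpr_ct (f197069 IH) (Lpr_bt (f197121 IH) (Lpn (LP (LK LD1_c18 LD2_c28 LD3_c0))))))))
theorem f251214 : Led Lsl_bt (LP (LK LD1_c10 LD2_c23 LD3_c46)) = (LP (LK LD1_c18 LD2_c51 LD3_c45)) :=
  Lre_b IH (LK LD1_c10 LD2_c23 LD3_c46) (LK LD1_c18 LD2_c51 LD3_c45) Lrfl Lrfl
theorem f285485 : Led Lsl_at (LP (LK LD1_c18 LD2_c51 LD3_c45)) = (LP (LK LD1_c28 LD2_c19 LD3_c60)) :=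
  Lre_a IH (LK LD1_c18 LD2_c51 LD3_c45) (LK LD1_c28 LD2_c19 LD3_c60) Lrfl Lrfl
theorem f285432 : Led Lsl_bt (LP (LK LD1_c10 LD2_c25 LD3_c18)) = (LP (LK LD1_c5 LD2_c17 LD3_c51)) :=
  Lre_b IH (LK LD1_c10 LD2_c25 LD3_c18) (LK LD1_c5 LD2_c17 LD3_c51) Lrfl Lrfl
theorem f285486 : Led Lsl_at (LP (LK LD1_c18 LD2_c54 LD3_c27)) = (LP (LK LD1_c10 LD2_c25 LD3_c18)) :=
  Lre_a IH (LK LD1_c18 LD2_c54 LD3_c27) (LK LD1_c10 LD2_c25 LD3_c18) Lrfl Lrfl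
theorem f285487 : Led Lsl_bt (LP (LK LD1_c28 LD2_c19 LD3_c60)) = (LP (LK LD1_c18 LD2_c54 LD3_c27)) :=
  Lgr Lrot62 (Lpe (f285485 IH) (Lpe (f251214 IH) (Lpr_af (K17.f285479 IH) (Lpe (f285432 IH) (Lpe (f285486 IH) (Lpn (LP (LK LD1_c18 LD2_c54 LD3_c27))))))))
theorem f230057 : Led Lsl_dt (LP (LK LD1_c18 LD2_c51 LD3_c44)) = (LP (LK LD1_c28 LD2_c19 LD3_c60)) :=
  Lre_d IH (LK LD1_c18 LD2_c51 LD3_c44) (LK LD1_c28 LD2_c19 LD3_c60) Lrfl Lrfl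
theorem f192099 : Led Lsl_dt (LP (LK LD1_c18 LD2_c54 LD3_c27)) = (LP (LK LD1_c10 LD2_c25 LD3_c17)) :=
  Lre_d IH (LK LD1_c18 LD2_c54 LD3_c27) (LK LD1_c10 LD2_c25 LD3_c17) Lrfl Lrfl
theorem f409119 : Led Lsl_bf (LP (LK LD1_c18 LD2_c51 LD3_c44)) = (LP (LK LD1_c10 LD2_c25 LD3_c17)) :=
  Lgr Lrot93 (Lpr_dt (f230057 IH) (Lpr_bt (f285487 IH) (Lpr_dt (f192099 IH) (Lpn (LP (LK LD1_c10 LD2_c25 LD3_c17))))))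
theorem f294343 : Led Lsl_bt (LP (LK LD1_c9 LD2_c40 LD3_c23)) = (LP (LK LD1_c17 LD2_c47 LD3_c33)) :=
  Lre_b IH (LK LD1_c9 LD2_c40 LD3_c23) (LK LD1_c17 LD2_c47 LD3_c33) Lrfl Lrfl
theorem f49017 : Led Lsl_bt (LP (LK LD1_c2 LD2_c35 LD3_c43)) = (LP (LK LD1_c5 LD2_c17 LD3_c56)) :=
  Lre_b IH (LK LD1_c2 LD2_c35 LD3_c43) (LK LD1_c5 LD2_c17 LD3_c56) Lrfl Lrfl
theorem f48278 : Led Lsl_ct (LP (LK LD1_c5 LD2_c17 LD3_c59)) = (LP (LK LD1_c2 LD2_c35 LD3_c43)) :=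
  Lre_c IH (LK LD1_c5 LD2_c17 LD3_c59) (LK LD1_c2 LD2_c35 LD3_c43) Lrfl Lrfl
theorem f294344 : Led Lsl_bt (LP (LK LD1_c10 LD2_c25 LD3_c35)) = (LP (LK LD1_c5 LD2_c17 LD3_c59)) :=
  Lre_b IH (LK LD1_c10 LD2_c25 LD3_c35) (LK LD1_c5 LD2_c17 LD3_c59) Lrfl Lrfl
theorem f294345 : Led Lsl_ct (LP (LK LD1_c17 LD2_c47 LD3_c33)) = (LP (LK LD1_c10 LD2_c25 LD3_c35)) :=
  Lgr Lrot83 (Lpe (f294343 IH) (Lpr_cf (K26.f294339 IH) (Lpe (f49017 IH) (Lpe (f48278 IH) (Lpe (f294344 IH) (Lpn (LP (LK LD1_c10 LD2_c25 LD3_c35))))))))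
theorem f294350 : Led Lsl_et (LP (LK LD1_c9 LD2_c40 LD3_c21)) = (LP (LK LD1_c17 LD2_c47 LD3_c33)) :=
  Lre_e IH (LK LD1_c9 LD2_c40 LD3_c21) (LK LD1_c17 LD2_c47 LD3_c33) Lrfl Lrfl
theorem f294351 : Led Lsl_et (LP (LK LD1_c10 LD2_c25 LD3_c35)) = (LP (LK LD1_c5 LD2_c17 LD3_c57)) :=
  Lre_e IH (LK LD1_c10 LD2_c25 LD3_c35) (LK LD1_c5 LD2_c17 LD3_c57) Lrfl Lrfl
theorem f294352 : Led Lsl_cf (LP (LK LD1_c9 LD2_c40 LD3_c21)) = (LP (LK LD1_c5 LD2_c17 LD3_c57)) :=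
  Lgr Lrot39 (Lpr_et (f294350 IH) (Lpr_ct (f294345 IH) (Lpr_et (f294351 IH) (Lpn (LP (LK LD1_c5 LD2_c17 LD3_c57))))))
theorem f229955 : Led Lsl_bt (LP (LK LD1_c4 LD2_c54 LD3_c9)) = (LP (LK LD1_c9 LD2_c39 LD3_c45)) :=
  Lre_b IH (LK LD1_c4 LD2_c54 LD3_c9) (LK LD1_c9 LD2_c39 LD3_c45) Lrfl Lrfl
theorem f189517 : Led Lsl_bt (LP (LK LD1_c10 LD2_c23 LD3_c45)) = (LP (LK LD1_c5 LD2_c17 LD3_c4)) :=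
  Lre_b IH (LK LD1_c10 LD2_c23 LD3_c45) (LK LD1_c5 LD2_c17 LD3_c4) Lrfl Lrfl
theorem f229998 : Led Lsl_ct (LP (LK LD1_c9 LD2_c39 LD3_c45)) = (LP (LK LD1_c10 LD2_c23 LD3_c45)) :=
  Lgr Lrot83 (Lpe (f229955 IH) (Lpe (K14.f229949 IH) (Lpr_bf (K14.f229996 IH) (Lpe (K16.f189510 IH) (Lpe (f189517 IH) (Lpn (LP (LK LD1_c10 LD2_c23 LD3_c45))))))))
theorem f294365 : Led Lsl_ft (LP (LK LD1_c10 LD2_c23 LD3_c45)) = (LP (LK LD1_c5 LD2_c17 LD3_c57)) :=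
  Lgr Lrot4 (Lpe (f229998 IH) (Lpr_ff (f294287 IH) (Lpr_cf (f294352 IH) (Lpn (LP (LK LD1_c5 LD2_c17 LD3_c57))))))
theorem f294392 : Led Lsl_ff (LP (LK LD1_c10 LD2_c23 LD3_c45)) = (LP (LK LD1_c5 LD2_c17 LD3_c57)) :=
  Lgr Lrot3 (Lpr_ft (f294365 IH) (Lpn (LP (LK LD1_c5 LD2_c17 LD3_c57))))
theorem f230013 : Led Lsl_at (LP (LK LD1_c10 LD2_c23 LD3_c45)) = (LP (LK LD1_c18 LD2_c51 LD3_c44)) :=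
  Lre_a IH (LK LD1_c10 LD2_c23 LD3_c45) (LK LD1_c18 LD2_c51 LD3_c44) Lrfl Lrfl
theorem f48272 : Led Lsl_gt (LP (LK LD1_c5 LD2_c17 LD3_c57)) = (LP (LK LD1_c10 LD2_c25 LD3_c31)) :=
  Lre_g IH (LK LD1_c5 LD2_c17 LD3_c57) (LK LD1_c10 LD2_c25 LD3_c31) Lrfl Lrfl
theorem f294406 : Led Lsl_gf (LP (LK LD1_c18 LD2_c51 LD3_c44)) = (LP (LK LD1_c10 LD2_c25 LD3_c31)) :=
  Lgr Lrot76 (Lpe (f230013 IH) (Lpr_ff (f294392 IH) (Lpr_gt (f48272 IH) (Lpn (LP (LK LD1_c10 LD2_c25 LD3_c31))))))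
theorem f215109 : Led Lsl_bt (LP (LK LD1_c18 LD2_c54 LD3_c39)) = (LP (LK LD1_c10 LD2_c25 LD3_c31)) :=
  Lre_b IH (LK LD1_c18 LD2_c54 LD3_c39) (LK LD1_c10 LD2_c25 LD3_c31) Lrfl Lrfl
theorem f215058 : Led Lsl_gt (LP (LK LD1_c16 LD2_c35 LD3_c44)) = (LP (LK LD1_c8 LD2_c52 LD3_c38)) :=
  Lre_g IH (LK LD1_c16 LD2_c35 LD3_c44) (LK LD1_c8 LD2_c52 LD3_c38) Lrfl Lrfl
theorem f48271 : Led Lsl_bt (LP (LK LD1_c2 LD2_c35 LD3_c42)) = (LP (LK LD1_c5 LD2_c17 LD3_c57)) :=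
  Lre_b IH (LK LD1_c2 LD2_c35 LD3_c42) (LK LD1_c5 LD2_c17 LD3_c57) Lrfl Lrfl
theorem f215110 : Led Lsl_cf (LP (LK LD1_c16 LD2_c35 LD3_c44)) = (LP (LK LD1_c18 LD2_c54 LD3_c39)) :=
  Lgr Lrot160 (Lpr_gt (f215058 IH) (Lpr_cf (K19.f215091 IH) (Lpr_bt (K19.f32824 IH) (Lpr_gt (K13.f32823 IH) (Lpr_ct (K10.f32507 IH) (Lpr_gt (K9.f32179 IH) (Lpe (K13.f48267 IH) (Lpr_bt (f48271 IH) (Lpr_gt (f48272 IH) (Lpe (f215109 IH) (Lpn (LP (LK LD1_c18 LD2_c54 LD3_c39)))))))))))))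
theorem f322088 : Led Lsl_ft (LP (LK LD1_c5 LD2_c18 LD3_c4)) = (LP (LK LD1_c9 LD2_c53 LD3_c18)) :=
  Lgr Lrot75 (Lpe (K22.f191526 IH) (Lpr_ff (K20.f322084 IH) (Lpe (K22.f165906 IH) (Lpn (LP (LK LD1_c9 LD2_c53 LD3_c18))))))
theorem f191529 : Led Lsl_gt (LP (LK LD1_c5 LD2_c18 LD3_c4)) = (LP (LK LD1_c10 LD2_c25 LD3_c50)) :=
  Lre_g IH (LK LD1_c5 LD2_c18 LD3_c4) (LK LD1_c10 LD2_c25 LD3_c50) Lrfl Lrfl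
theorem f333242 : Led Lsl_at (LP (LK LD1_c9 LD2_c53 LD3_c18)) = (LP (LK LD1_c18 LD2_c5 LD3_c49)) :=
  Lre_a IH (LK LD1_c9 LD2_c53 LD3_c18) (LK LD1_c18 LD2_c5 LD3_c49) Lrfl Lrfl
theorem f402291 : Led Lsl_gt (LP (LK LD1_c10 LD2_c25 LD3_c50)) = (LP (LK LD1_c18 LD2_c5 LD3_c49)) :=
  Lgr Lrot46 (Lpe (f191529 IH) (Lpr_ft (f322088 IH) (Lpr_at (f333242 IH) (Lpn (LP (LK LD1_c18 LD2_c5 LD3_c49))))))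
theorem f191530 : Led Lsl_bt (LP (LK LD1_c18 LD2_c55 LD3_c7)) = (LP (LK LD1_c10 LD2_c25 LD3_c50)) :=
  Lre_b IH (LK LD1_c18 LD2_c55 LD3_c7) (LK LD1_c10 LD2_c25 LD3_c50) Lrfl Lrfl
theorem f230016 : Led Lsl_cf (LP (LK LD1_c9 LD2_c39 LD3_c45)) = (LP (LK LD1_c10 LD2_c23 LD3_c45)) :=
  Lgr Lrot11 (Lpr_ct (f229998 IH) (Lpn (LP (LK LD1_c10 LD2_c23 LD3_c45))))
theorem f229956 : Led Lsl_gt (LP (LK LD1_c17 LD2_c46 LD3_c14)) = (LP (LK LD1_c9 LD2_c39 LD3_c45)) :=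
  Lre_g IH (LK LD1_c17 LD2_c46 LD3_c14) (LK LD1_c9 LD2_c39 LD3_c45) Lrfl Lrfl
theorem f230046 : Led Lsl_cf (LP (LK LD1_c17 LD2_c46 LD3_c14)) = (LP (LK LD1_c18 LD2_c55 LD3_c7)) :=
  Lgr Lrot160 (Lpr_gt (f229956 IH) (Lpr_cf (f230016 IH) (Lpr_bt (f189517 IH) (Lpr_gt (K10.f189506 IH) (Lpr_ct (K9.f49792 IH) (Lpe (K10.f53602 IH) (Lpr_cf (K10.f191516 IH) (Lpr_bt (K22.f191526 IH) (Lpr_gt (f191529 IH) (Lpe (f191530 IH) (Lpn (LP (LK LD1_c18 LD2_c55 LD3_c7)))))))))))))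
theorem f230023 : Led Lsl_at (LP (LK LD1_c18 LD2_c51 LD3_c44)) = (LP (LK LD1_c10 LD2_c23 LD3_c45)) :=
  Lre_a IH (LK LD1_c18 LD2_c51 LD3_c44) (LK LD1_c10 LD2_c23 LD3_c45) Lrfl Lrfl
theorem f294386 : Led Lsl_at (LP (LK LD1_c5 LD2_c17 LD3_c57)) = (LP (LK LD1_c10 LD2_c25 LD3_c33)) :=
  Lre_a IH (LK LD1_c5 LD2_c17 LD3_c57) (LK LD1_c10 LD2_c25 LD3_c33) Lrfl Lrfl
theorem f294387 : Led Lsl_ff (LP (LK LD1_c18 LD2_c51 LD3_c44)) = (LP (LK LD1_c10 LD2_c25 LD3_c33)) :=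
  Lgr Lrot30 (Lpr_at (f230023 IH) (Lpr_ft (f294365 IH) (Lpr_at (f294386 IH) (Lpn (LP (LK LD1_c10 LD2_c25 LD3_c33))))))
theorem f230014 : Led Lsl_cf (LP (LK LD1_c17 LD2_c46 LD3_c15)) = (LP (LK LD1_c18 LD2_c51 LD3_c44)) :=
  Lgr Lrot1 (Lpr_at (f230012 IH) (Lpr_ct (f229998 IH) (Lpr_at (f230013 IH) (Lpn (LP (LK LD1_c18 LD2_c51 LD3_c44))))))
theorem f294360 : Led Lsl_at (LP (LK LD1_c9 LD2_c40 LD3_c21)) = (LP (LK LD1_c17 LD2_c47 LD3_c31)) :=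
  Lre_a IH (LK LD1_c9 LD2_c40 LD3_c21) (LK LD1_c17 LD2_c47 LD3_c31) Lrfl Lrfl
theorem f251230 : Led Lsl_at (LP (LK LD1_c10 LD2_c25 LD3_c33)) = (LP (LK LD1_c5 LD2_c17 LD3_c57)) :=
  Lre_a IH (LK LD1_c10 LD2_c25 LD3_c33) (LK LD1_c5 LD2_c17 LD3_c57) Lrfl Lrfl
theorem f294361 : Led Lsl_ct (LP (LK LD1_c17 LD2_c47 LD3_c31)) = (LP (LK LD1_c10 LD2_c25 LD3_c33)) :=
  Lgr Lrot111 (Lpe (f294360 IH) (Lpr_cf (f294352 IH) (Lpe (f251230 IH) (Lpn (LP (LK LD1_c10 LD2_c25 LD3_c33))))))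
theorem f294504 : Led Lsl_ft (LP (LK LD1_c17 LD2_c46 LD3_c15)) = (LP (LK LD1_c17 LD2_c47 LD3_c31)) :=
  Lgr Lrot4 (Lpr_cf (f230014 IH) (Lpr_ff (f294387 IH) (Lpe (f294361 IH) (Lpn (LP (LK LD1_c17 LD2_c47 LD3_c31))))))
theorem f294508 : Led Lsl_ff (LP (LK LD1_c17 LD2_c46 LD3_c15)) = (LP (LK LD1_c17 LD2_c47 LD3_c31)) :=
  Lgr Lrot3 (Lpr_ft (f294504 IH) (Lpn (LP (LK LD1_c17 LD2_c47 LD3_c31))))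
theorem f294517 : Led Lsl_gf (LP (LK LD1_c17 LD2_c46 LD3_c14)) = (LP (LK LD1_c17 LD2_c47 LD3_c31)) :=
  Lgr Lrot47 (Lpr_gt (f229956 IH) (Lpe (f230012 IH) (Lpr_ff (f294508 IH) (Lpn (LP (LK LD1_c17 LD2_c47 LD3_c31))))))
theorem f230039 : Led Lsl_ct (LP (LK LD1_c17 LD2_c46 LD3_c15)) = (LP (LK LD1_c18 LD2_c51 LD3_c44)) :=
  Lgr Lrot111 (Lpe (f230038 IH) (Lpr_cf (f230016 IH) (Lpe (f230023 IH) (Lpn (LP (LK LD1_c18 LD2_c51 LD3_c44))))))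
theorem f294401 : Led Lsl_ft (LP (LK LD1_c18 LD2_c51 LD3_c44)) = (LP (LK LD1_c10 LD2_c25 LD3_c33)) :=
  Lgr Lrot101 (Lpe (f230013 IH) (Lpr_ff (f294392 IH) (Lpe (f251230 IH) (Lpn (LP (LK LD1_c10 LD2_c25 LD3_c33))))))
theorem f294515 : Led Lsl_ct (LP (LK LD1_c10 LD2_c25 LD3_c33)) = (LP (LK LD1_c17 LD2_c47 LD3_c31)) :=
  Lgr Lrot40 (Lpe (f294401 IH) (Lpe (f230039 IH) (Lpr_ff (f294508 IH) (Lpn (LP (LK LD1_c17 LD2_c47 LD3_c31))))))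
theorem f230024 : Led Lsl_gt (LP (LK LD1_c10 LD2_c23 LD3_c45)) = (LP (LK LD1_c18 LD2_c51 LD3_c42)) :=
  Lre_g IH (LK LD1_c10 LD2_c23 LD3_c45) (LK LD1_c18 LD2_c51 LD3_c42) Lrfl Lrfl
theorem f294394 : Led Lsl_gt (LP (LK LD1_c18 LD2_c51 LD3_c42)) = (LP (LK LD1_c10 LD2_c25 LD3_c33)) :=
  Lgr Lrot46 (Lpe (f230024 IH) (Lpr_ft (f294365 IH) (Lpr_at (f294386 IH) (Lpn (LP (LK LD1_c10 LD2_c25 LD3_c33))))))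
theorem f321979 : Led Lsl_gt (LP (LK LD1_c16 LD2_c35 LD3_c11)) = (LP (LK LD1_c8 LD2_c52 LD3_c18)) :=
  Lre_g IH (LK LD1_c16 LD2_c35 LD3_c11) (LK LD1_c8 LD2_c52 LD3_c18) Lrfl Lrfl
theorem f321980 : Led Lsl_ct (LP (LK LD1_c26 LD2_c32 LD3_c30)) = (LP (LK LD1_c16 LD2_c35 LD3_c11)) :=
  Lre_c IH (LK LD1_c26 LD2_c32 LD3_c30) (LK LD1_c16 LD2_c35 LD3_c11) Lrfl Lrfl
theorem f230041 : Led Lsl_bt (LP (LK LD1_c5 LD2_c17 LD3_c4)) = (LP (LK LD1_c10 LD2_c23 LD3_c45)) :=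
  Lre_b IH (LK LD1_c5 LD2_c17 LD3_c4) (LK LD1_c10 LD2_c23 LD3_c45) Lrfl Lrfl
theorem f321983 : Led Lsl_bt (LP (LK LD1_c26 LD2_c32 LD3_c30)) = (LP (LK LD1_c18 LD2_c51 LD3_c42)) :=
  Lgr Lrot92 (Lpr_ct (f321980 IH) (Lpr_gt (f321979 IH) (Lpr_cf (K20.f321966 IH) (Lpr_bt (K22.f32501 IH) (Lpr_gt (K10.f32500 IH) (Lpr_ct (f32835 IH) (Lpr_gt (K10.f32454 IH) (Lpe (K16.f189510 IH) (Lpr_bt (f230041 IH) (Lpr_gt (f230024 IH) (Lpn (LP (LK LD1_c18 LD2_c51 LD3_c42)))))))))))))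
theorem f215094 : Led Lsl_at (LP (LK LD1_c8 LD2_c52 LD3_c38)) = (LP (LK LD1_c16 LD2_c35 LD3_c45)) :=
  Lre_a IH (LK LD1_c8 LD2_c52 LD3_c38) (LK LD1_c16 LD2_c35 LD3_c45) Lrfl Lrfl
theorem f215096 : Led Lsl_ct (LP (LK LD1_c16 LD2_c35 LD3_c45)) = (LP (LK LD1_c10 LD2_c25 LD3_c46)) :=
  Lgr Lrot111 (Lpe (f215094 IH) (Lpr_cf (K19.f215091 IH) (Lpe (K22.f215095 IH) (Lpn (LP (LK LD1_c10 LD2_c25 LD3_c46))))))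
theorem f215206 : Led Lsl_cf (LP (LK LD1_c16 LD2_c35 LD3_c45)) = (LP (LK LD1_c10 LD2_c25 LD3_c46)) :=
  Lgr Lrot11 (Lpr_ct (f215096 IH) (Lpn (LP (LK LD1_c10 LD2_c25 LD3_c46))))
theorem f402294 : Led Lsl_gf (LP (LK LD1_c16 LD2_c35 LD3_c11)) = (LP (LK LD1_c16 LD2_c35 LD3_c45)) :=
  Lgr Lrot126 (Lpe (f321980 IH) (Lpr_bt (f321983 IH) (Lpr_gt (f294394 IH) (Lpr_ct (f294515 IH) (Lpe (f294517 IH) (Lpr_cf (f230046 IH) (Lpr_bt (f191530 IH) (Lpr_gt (f402291 IH) (Lpe (K22.f322037 IH) (Lpe (f215206 IH) (Lpn (LP (LK LD1_c16 LD2_c35 LD3_c45)))))))))))))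
theorem f321975 : Led Lsl_at (LP (LK LD1_c16 LD2_c35 LD3_c12)) = (LP (LK LD1_c8 LD2_c52 LD3_c18)) :=
  Lre_a IH (LK LD1_c16 LD2_c35 LD3_c12) (LK LD1_c8 LD2_c52 LD3_c18) Lrfl Lrfl
theorem f402297 : Led Lsl_ff (LP (LK LD1_c16 LD2_c35 LD3_c12)) = (LP (LK LD1_c16 LD2_c35 LD3_c45)) :=
  Lgr Lrot52 (Lpr_at (f321975 IH) (Lpe (f321979 IH) (Lpr_gf (f402294 IH) (Lpn (LP (LK LD1_c16 LD2_c35 LD3_c45))))))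
theorem f402299 : Led Lsl_ft (LP (LK LD1_c16 LD2_c35 LD3_c12)) = (LP (LK LD1_c16 LD2_c35 LD3_c45)) :=
  Lgr Lrot48 (Lpr_ff (f402297 IH) (Lpn (LP (LK LD1_c16 LD2_c35 LD3_c45))))
theorem f215101 : Led Lsl_at (LP (LK LD1_c16 LD2_c35 LD3_c45)) = (LP (LK LD1_c8 LD2_c52 LD3_c38)) :=
  Lre_a IH (LK LD1_c16 LD2_c35 LD3_c45) (LK LD1_c8 LD2_c52 LD3_c38) Lrfl Lrfl
theorem f402303 : Led Lsl_gt (LP (LK LD1_c16 LD2_c35 LD3_c12)) = (LP (LK LD1_c16 LD2_c35 LD3_c44)) :=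
  Lgr Lrot5 (Lpr_ft (f402299 IH) (Lpr_at (f215101 IH) (Lpe (f215058 IH) (Lpn (LP (LK LD1_c16 LD2_c35 LD3_c44))))))
theorem f322005 : Led Lsl_ft (LP (LK LD1_c10 LD2_c25 LD3_c46)) = (LP (LK LD1_c18 LD2_c51 LD3_c49)) :=
  Lgr Lrot101 (Lpe (K22.f215211 IH) (Lpr_ff (K20.f322000 IH) (Lpe (K22.f321968 IH) (Lpn (LP (LK LD1_c18 LD2_c51 LD3_c49))))))
theorem f402301 : Led Lsl_cf (LP (LK LD1_c16 LD2_c35 LD3_c12)) = (LP (LK LD1_c18 LD2_c51 LD3_c49)) :=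
  Lgr Lrot108 (Lpr_ft (f402299 IH) (Lpr_ct (f215096 IH) (Lpr_ft (f322005 IH) (Lpn (LP (LK LD1_c18 LD2_c51 LD3_c49))))))
theorem f214640 : Led Lsl_gt (LP (LK LD1_c5 LD2_c18 LD3_c1)) = (LP (LK LD1_c10 LD2_c25 LD3_c44)) :=
  Lre_g IH (LK LD1_c5 LD2_c18 LD3_c1) (LK LD1_c10 LD2_c25 LD3_c44) Lrfl Lrfl
theorem f322002 : Led Lsl_gt (LP (LK LD1_c10 LD2_c25 LD3_c44)) = (LP (LK LD1_c18 LD2_c51 LD3_c49)) :=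
  Lgr Lrot46 (Lpe (f214640 IH) (Lpr_ft (K20.f321973 IH) (Lpr_at (K22.f321992 IH) (Lpn (LP (LK LD1_c18 LD2_c51 LD3_c49))))))
theorem f197117 : Led Lsl_bt (LP (LK LD1_c8 LD2_c30 LD3_c44)) = (LP (LK LD1_c4 LD2_c15 LD3_c50)) :=
  Lre_b IH (LK LD1_c8 LD2_c30 LD3_c44) (LK LD1_c4 LD2_c15 LD3_c50) Lrfl Lrfl
theorem f192893 : Led Lsl_cf (LP (LK LD1_c1 LD2_c58 LD3_c13)) = (LP (LK LD1_c2 LD2_c31 LD3_c45)) :=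
  Lgr Lrot11 (Lpr_ct (K10.f192850 IH) (Lpn (LP (LK LD1_c2 LD2_c31 LD3_c45))))
theorem f33793 : Led Lsl_bt (LP (LK LD1_c5 LD2_c9 LD3_c12)) = (LP (LK LD1_c2 LD2_c31 LD3_c45)) :=
  Lre_b IH (LK LD1_c5 LD2_c9 LD3_c12) (LK LD1_c2 LD2_c31 LD3_c45) Lrfl Lrfl
theorem f197056 : Led Lsl_ct (LP (LK LD1_c8 LD2_c30 LD3_c44)) = (LP (LK LD1_c5 LD2_c9 LD3_c12)) :=
  Lgr Lrot83 (Lpe (f197036 IH) (Lpe (K12.f197030 IH) (Lpr_bf (K10.f197040 IH) (Lpr_cf (f192893 IH) (Lpe (f33793 IH) (Lpn (LP (LK LD1_c5 LD2_c9 LD3_c12))))))))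
theorem f196196 : Led Lsl_gt (LP (LK LD1_c10 LD2_c8 LD3_c58)) = (LP (LK LD1_c5 LD2_c9 LD3_c12)) :=
  Lre_g IH (LK LD1_c10 LD2_c8 LD3_c58) (LK LD1_c5 LD2_c9 LD3_c12) Lrfl Lrfl
theorem f197151 : Led Lsl_ct (LP (LK LD1_c18 LD2_c29 LD3_c7)) = (LP (LK LD1_c10 LD2_c8 LD3_c58)) :=
  Lre_c IH (LK LD1_c18 LD2_c29 LD3_c7) (LK LD1_c10 LD2_c8 LD3_c58) Lrfl Lrfl
theorem f214641 : Led Lsl_bt (LP (LK LD1_c18 LD2_c29 LD3_c7)) = (LP (LK LD1_c10 LD2_c25 LD3_c44)) :=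
  Lgr Lrot92 (Lpr_ct (f197151 IH) (Lpr_gt (f196196 IH) (Lpe (f197056 IH) (Lpr_bt (f197117 IH) (Lpr_gt (K12.f197031 IH) (Lpr_ct (K12.f44976 IH) (Lpr_gt (K13.f45010 IH) (Lpr_cf (K13.f214615 IH) (Lpr_bt (K22.f214637 IH) (Lpr_gt (f214640 IH) (Lpn (LP (LK LD1_c10 LD2_c25 LD3_c44)))))))))))))
theorem f192052 : Led Lsl_at (LP (LK LD1_c5 LD2_c17 LD3_c50)) = (LP (LK LD1_c10 LD2_c25 LD3_c17)) :=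
  Lre_a IH (LK LD1_c5 LD2_c17 LD3_c50) (LK LD1_c10 LD2_c25 LD3_c17) Lrfl Lrfl
theorem f192053 : Led Lsl_at (LP (LK LD1_c15 LD2_c11 LD3_c53)) = (LP (LK LD1_c8 LD2_c4 LD3_c21)) :=
  Lre_a IH (LK LD1_c15 LD2_c11 LD3_c53) (LK LD1_c8 LD2_c4 LD3_c21) Lrfl Lrfl
theorem f192054 : Led Lsl_ct (LP (LK LD1_c10 LD2_c25 LD3_c17)) = (LP (LK LD1_c15 LD2_c11 LD3_c53)) :=
  Lgr Lrot111 (Lpe (f192052 IH) (Lpr_cf (K15.f192050 IH) (Lpe (f192053 IH) (Lpn (LP (LK LD1_c15 LD2_c11 LD3_c53))))))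
theorem f409125 : Led Lsl_gf (LP (LK LD1_c10 LD2_c8 LD3_c58)) = (LP (LK LD1_c15 LD2_c11 LD3_c53)) :=
  Lgr Lrot126 (Lpe (f197151 IH) (Lpr_bt (f214641 IH) (Lpr_gt (f322002 IH) (Lpe (f402301 IH) (Lpr_gt (f402303 IH) (Lpr_cf (f215110 IH) (Lpr_bt (f215109 IH) (Lpe (f294406 IH) (Lpr_bf (f409119 IH) (Lpr_ct (f192054 IH) (Lpn (LP (LK LD1_c15 LD2_c11 LD3_c53)))))))))))))
theorem f197149 : Led Lsl_at (LP (LK LD1_c10 LD2_c8 LD3_c59)) = (LP (LK LD1_c5 LD2_c9 LD3_c12)) :=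
  Lre_a IH (LK LD1_c10 LD2_c8 LD3_c59) (LK LD1_c5 LD2_c9 LD3_c12) Lrfl Lrfl
theorem f409127 : Led Lsl_ff (LP (LK LD1_c10 LD2_c8 LD3_c59)) = (LP (LK LD1_c15 LD2_c11 LD3_c53)) :=
  Lgr Lrot52 (Lpr_at (f197149 IH) (Lpe (f196196 IH) (Lpr_gf (f409125 IH) (Lpn (LP (LK LD1_c15 LD2_c11 LD3_c53))))))
theorem f409135 : Led Lsl_ft (LP (LK LD1_c10 LD2_c8 LD3_c59)) = (LP (LK LD1_c15 LD2_c11 LD3_c53)) :=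
  Lgr Lrot48 (Lpr_ff (f409127 IH) (Lpn (LP (LK LD1_c15 LD2_c11 LD3_c53))))
theorem f262481 : Led Lsl_bt (LP (LK LD1_c15 LD2_c11 LD3_c61)) = (LP (LK LD1_c10 LD2_c8 LD3_c59)) :=
  Lgr Lrot62 (Lpe (f262480 IH) (Lpe (f229090 IH) (Lpr_af (K15.f262468 IH) (Lpe (f33793 IH) (Lpe (f197149 IH) (Lpn (LP (LK LD1_c10 LD2_c8 LD3_c59))))))))
theorem f409140 : Led Lsl_bf (LP (LK LD1_c10 LD2_c8 LD3_c52)) = (LP (LK LD1_c15 LD2_c11 LD3_c53)) :=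
  Lgr Lrot61 (Lpr_ft (f294600 IH) (Lpr_bt (f262481 IH) (Lpr_ft (f409135 IH) (Lpn (LP (LK LD1_c15 LD2_c11 LD3_c53))))))
theorem f192057 : Led Lsl_ct (LP (LK LD1_c5 LD2_c17 LD3_c50)) = (LP (LK LD1_c8 LD2_c4 LD3_c21)) :=
  Lgr Lrot59 (Lpr_cf (K15.f192050 IH) (Lpn (LP (LK LD1_c8 LD2_c4 LD3_c21))))
theorem f192066 : Led Lsl_at (LP (LK LD1_c10 LD2_c25 LD3_c17)) = (LP (LK LD1_c5 LD2_c17 LD3_c50)) :=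
  Lre_a IH (LK LD1_c10 LD2_c25 LD3_c17) (LK LD1_c5 LD2_c17 LD3_c50) Lrfl Lrfl
theorem f192090 : Led Lsl_at (LP (LK LD1_c8 LD2_c4 LD3_c21)) = (LP (LK LD1_c15 LD2_c11 LD3_c53)) :=
  Lre_a IH (LK LD1_c8 LD2_c4 LD3_c21) (LK LD1_c15 LD2_c11 LD3_c53) Lrfl Lrfl
theorem f192091 : Led Lsl_cf (LP (LK LD1_c10 LD2_c25 LD3_c17)) = (LP (LK LD1_c15 LD2_c11 LD3_c53)) :=
  Lgr Lrot1 (Lpr_at (f192066 IH) (Lpr_ct (f192057 IH) (Lpr_at (f192090 IH) (Lpn (LP (LK LD1_c15 LD2_c11 LD3_c53))))))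
theorem f413127 : Led Lsl_gf (LP (LK LD1_c15 LD2_c59 LD3_c0)) = (LP (LK LD1_c10 LD2_c25 LD3_c17)) :=
  Lgr Lrot126 (Lpr_cf (f197122 IH) (Lpr_bt (f197127 IH) (Lpe (f408563 IH) (Lpe (f180863 IH) (Lpr_gt (f351122 IH) (Lpe (f229107 IH) (Lpr_bt (f229106 IH) (Lpr_gt (f413122 IH) (Lpr_bf (f409140 IH) (Lpe (f192091 IH) (Lpn (LP (LK LD1_c10 LD2_c25 LD3_c17)))))))))))))
theorem f32768 : Led Lsl_ct (LP (LK LD1_c10 LD2_c23 LD3_c53)) = (LP (LK LD1_c18 LD2_c51 LD3_c60)) :=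
  Lre_c IH (LK LD1_c10 LD2_c23 LD3_c53) (LK LD1_c18 LD2_c51 LD3_c60) Lrfl Lrfl
theorem f197099 : Led Lsl_bt (LP (LK LD1_c10 LD2_c23 LD3_c53)) = (LP (LK LD1_c18 LD2_c51 LD3_c59)) :=
  Lre_b IH (LK LD1_c10 LD2_c23 LD3_c53) (LK LD1_c18 LD2_c51 LD3_c59) Lrfl Lrfl
theorem f409121 : Led Lsl_bt (LP (LK LD1_c18 LD2_c51 LD3_c44)) = (LP (LK LD1_c10 LD2_c25 LD3_c17)) :=
  Lgr Lrot127 (Lpr_bf (f409119 IH) (Lpn (LP (LK LD1_c10 LD2_c25 LD3_c17))))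
theorem f294368 : Led Lsl_ct (LP (LK LD1_c27 LD2_c34 LD3_c31)) = (LP (LK LD1_c17 LD2_c47 LD3_c29)) :=
  Lre_c IH (LK LD1_c27 LD2_c34 LD3_c31) (LK LD1_c17 LD2_c47 LD3_c29) Lrfl Lrfl
theorem f413129 : Led Lsl_gt (LP (LK LD1_c18 LD2_c51 LD3_c59)) = (LP (LK LD1_c27 LD2_c34 LD3_c31)) :=
  Lgr Lrot82 (Lpe (f197099 IH) (Lpr_ct (f32768 IH) (Lpr_gf (f197071 IH) (Lpe (f197106 IH) (Lpr_bt (f197105 IH) (Lpr_gf (f413127 IH) (Lpe (f409121 IH) (Lpe (f230014 IH) (Lpr_gf (f407426 IH) (Lpe (f294368 IH) (Lpn (LP (LK LD1_c27 LD2_c34 LD3_c31)))))))))))))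
theorem f413137 : Led Lsl_ft (LP (LK LD1_c18 LD2_c51 LD3_c59)) = (LP (LK LD1_c28 LD2_c20 LD3_c6)) :=
  Lre_f IH (LK LD1_c18 LD2_c51 LD3_c59) (LK LD1_c28 LD2_c20 LD3_c6) Lrfl Lrfl
theorem f544700 : Led Lsl_at (LP (LK LD1_c28 LD2_c20 LD3_c6)) = (LP (LK LD1_c27 LD2_c32 LD3_c11)) :=
  Lgr Lrot26 (Lpe (f413137 IH) (Lpr_gt (f413129 IH) (Lpr_gt (f544698 IH) (Lpn (LP (LK LD1_c27 LD2_c32 LD3_c11))))))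
theorem f300246 : Led Lsl_ft (LP (LK LD1_c27 LD2_c32 LD3_c11)) = (LP (LK LD1_c27 LD2_c33 LD3_c52)) :=
  Lgr Lrot4 (Lpe (K18.f190639 IH) (Lpr_ff (K18.f300237 IH) (Lpe (K18.f249375 IH) (Lpn (LP (LK LD1_c27 LD2_c33 LD3_c52))))))
theorem f544727 : Led Lsl_af (LP (LK LD1_c18 LD2_c51 LD3_c59)) = (LP (LK LD1_c27 LD2_c33 LD3_c52)) :=
  Lgr Lrot45 (Lpr_ft (f413137 IH) (Lpr_at (f544700 IH) (Lpr_ft (f300246 IH) (Lpn (LP (LK LD1_c27 LD2_c33 LD3_c52))))))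
theorem f544732 : Led Lsl_ct (LP (LK LD1_c18 LD2_c51 LD3_c59)) = (LP (LK LD1_c27 LD2_c33 LD3_c50)) :=
  Lgr Lrot111 (Lpr_af (f544727 IH) (Lpe (K18.f233457 IH) (Lpe (K18.f300236 IH) (Lpn (LP (LK LD1_c27 LD2_c33 LD3_c50))))))
theorem f32497 : Led Lsl_bt (LP (LK LD1_c18 LD2_c51 LD3_c59)) = (LP (LK LD1_c10 LD2_c23 LD3_c53)) :=
  Lre_b IH (LK LD1_c18 LD2_c51 LD3_c59) (LK LD1_c10 LD2_c23 LD3_c53) Lrfl Lrfl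
theorem f32483 : Led Lsl_gt (LP (LK LD1_c5 LD2_c15 LD3_c7)) = (LP (LK LD1_c10 LD2_c19 LD3_c43)) :=
  Lre_g IH (LK LD1_c5 LD2_c15 LD3_c7) (LK LD1_c10 LD2_c19 LD3_c43) Lrfl Lrfl
theorem f32498 : Led Lsl_ct (LP (LK LD1_c18 LD2_c45 LD3_c7)) = (LP (LK LD1_c10 LD2_c19 LD3_c43)) :=
  Lre_c IH (LK LD1_c18 LD2_c45 LD3_c7) (LK LD1_c10 LD2_c19 LD3_c43) Lrfl Lrfl
theorem f32499 : Led Lsl_bt (LP (LK LD1_c18 LD2_c45 LD3_c7)) = (LP (LK LD1_c28 LD2_c14 LD3_c60)) :=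
  Lre_b IH (LK LD1_c18 LD2_c45 LD3_c7) (LK LD1_c28 LD2_c14 LD3_c60) Lrfl Lrfl
theorem f321981 : Led Lsl_gf (LP (LK LD1_c26 LD2_c32 LD3_c30)) = (LP (LK LD1_c28 LD2_c14 LD3_c60)) :=
  Lgr Lrot181 (Lpr_ct (f321980 IH) (Lpr_gt (f321979 IH) (Lpr_cf (K20.f321966 IH) (Lpr_bt (K22.f32501 IH) (Lpr_gt (K10.f32500 IH) (Lpe (K23.f32494 IH) (Lpr_ct (K2.f32450 IH) (Lpr_gt (f32483 IH) (Lpe (f32498 IH) (Lpr_bt (f32499 IH) (Lpn (LP (LK LD1_c28 LD2_c14 LD3_c60)))))))))))))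
theorem f321985 : Led Lsl_bf (LP (LK LD1_c26 LD2_c32 LD3_c30)) = (LP (LK LD1_c18 LD2_c51 LD3_c42)) :=
  Lgr Lrot24 (Lpr_bt (f321983 IH) (Lpn (LP (LK LD1_c18 LD2_c51 LD3_c42))))
theorem f248114 : Led Lsl_gt (LP (LK LD1_c17 LD2_c45 LD3_c54)) = (LP (LK LD1_c27 LD2_c32 LD3_c10)) :=
  Lre_g IH (LK LD1_c17 LD2_c45 LD3_c54) (LK LD1_c27 LD2_c32 LD3_c10) Lrfl Lrfl
theorem f299611 : Led Lsl_at (LP (LK LD1_c17 LD2_c47 LD3_c2)) = (LP (LK LD1_c27 LD2_c33 LD3_c50)) :=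
  Lre_a IH (LK LD1_c17 LD2_c47 LD3_c2) (LK LD1_c27 LD2_c33 LD3_c50) Lrfl Lrfl
theorem f300254 : Led Lsl_gt (LP (LK LD1_c27 LD2_c32 LD3_c10)) = (LP (LK LD1_c27 LD2_c33 LD3_c50)) :=
  Lgr Lrot46 (Lpe (f248114 IH) (Lpr_ft (K18.f300249 IH) (Lpr_at (f299611 IH) (Lpn (LP (LK LD1_c27 LD2_c33 LD3_c50))))))
theorem f544739 : Led Lsl_ct (LP (LK LD1_c18 LD2_c51 LD3_c42)) = (LP (LK LD1_c27 LD2_c32 LD3_c10)) :=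
  Lgr Lrot64 (Lpe (f321985 IH) (Lpr_gf (f321981 IH) (Lpe (f32499 IH) (Lpr_ct (f32498 IH) (Lpe (f32483 IH) (Lpe (K2.f32450 IH) (Lpe (f32487 IH) (Lpe (f32497 IH) (Lpr_ct (f544732 IH) (Lpe (f300254 IH) (Lpn (LP (LK LD1_c27 LD2_c32 LD3_c10)))))))))))))
theorem f544741 : Led Lsl_cf (LP (LK LD1_c18 LD2_c51 LD3_c42)) = (LP (LK LD1_c27 LD2_c32 LD3_c10)) :=
  Lgr Lrot11 (Lpr_ct (f544739 IH) (Lpn (LP (LK LD1_c27 LD2_c32 LD3_c10))))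
theorem f294560 : Led Lsl_bf (LP (LK LD1_c17 LD2_c46 LD3_c23)) = (LP (LK LD1_c17 LD2_c47 LD3_c31)) :=
  Lgr Lrot61 (Lpr_ft (f294552 IH) (Lpe (f294268 IH) (Lpr_ft (f294504 IH) (Lpn (LP (LK LD1_c17 LD2_c47 LD3_c31))))))
theorem f43593 : Led Lsl_bt (LP (LK LD1_c4 LD2_c54 LD3_c12)) = (LP (LK LD1_c9 LD2_c39 LD3_c54)) :=
  Lre_b IH (LK LD1_c4 LD2_c54 LD3_c12) (LK LD1_c9 LD2_c39 LD3_c54) Lrfl Lrfl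
theorem f544748 : Led Lsl_gt (LP (LK LD1_c17 LD2_c46 LD3_c23)) = (LP (LK LD1_c9 LD2_c39 LD3_c54)) :=
  Lgr Lrot164 (Lpr_bf (f294560 IH) (Lpr_ct (f294361 IH) (Lpe (f294394 IH) (Lpr_cf (f544741 IH) (Lpe (f248114 IH) (Lpe (K18.f248101 IH) (Lpr_ct (K15.f248104 IH) (Lpe (K14.f248087 IH) (Lpe (K9.f43440 IH) (Lpr_bt (f43593 IH) (Lpn (LP (LK LD1_c9 LD2_c39 LD3_c54)))))))))))))
theorem f165368 : Led Lsl_bt (LP (LK LD1_c8 LD2_c4 LD3_c24)) = (LP (LK LD1_c4 LD2_c1 LD3_c53)) :=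
  Lre_b IH (LK LD1_c8 LD2_c4 LD3_c24) (LK LD1_c4 LD2_c1 LD3_c53) Lrfl Lrfl
theorem f260000 : Led Lsl_bt (LP (LK LD1_c2 LD2_c31 LD3_c44)) = (LP (LK LD1_c5 LD2_c9 LD3_c9)) :=
  Lre_b IH (LK LD1_c2 LD2_c31 LD3_c44) (LK LD1_c5 LD2_c9 LD3_c9) Lrfl Lrfl
theorem f262489 : Led Lsl_ff (LP (LK LD1_c8 LD2_c4 LD3_c24)) = (LP (LK LD1_c5 LD2_c9 LD3_c9)) :=
  Lgr Lrot25 (Lpr_bt (f165368 IH) (Lpr_ft (K15.f262487 IH) (Lpr_bt (f260000 IH) (Lpn (LP (LK LD1_c5 LD2_c9 LD3_c9))))))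
theorem f260027 : Led Lsl_gt (LP (LK LD1_c5 LD2_c9 LD3_c9)) = (LP (LK LD1_c10 LD2_c8 LD3_c50)) :=
  Lre_g IH (LK LD1_c5 LD2_c9 LD3_c9) (LK LD1_c10 LD2_c8 LD3_c50) Lrfl Lrfl
theorem f413144 : Led Lsl_gf (LP (LK LD1_c15 LD2_c11 LD3_c61)) = (LP (LK LD1_c10 LD2_c8 LD3_c50)) :=
  Lgr Lrot76 (Lpe (f262480 IH) (Lpr_ff (f262489 IH) (Lpr_gt (f260027 IH) (Lpn (LP (LK LD1_c10 LD2_c8 LD3_c50))))))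
theorem f260172 : Led Lsl_bt (LP (LK LD1_c18 LD2_c28 LD3_c52)) = (LP (LK LD1_c10 LD2_c8 LD3_c50)) :=
  Lre_b IH (LK LD1_c18 LD2_c28 LD3_c52) (LK LD1_c10 LD2_c8 LD3_c50) Lrfl Lrfl
theorem f180862 : Led Lsl_gt (LP (LK LD1_c10 LD2_c21 LD3_c32)) = (LP (LK LD1_c5 LD2_c16 LD3_c1)) :=
  Lre_g IH (LK LD1_c10 LD2_c21 LD3_c32) (LK LD1_c5 LD2_c16 LD3_c1) Lrfl Lrfl
theorem f260173 : Led Lsl_ct (LP (LK LD1_c18 LD2_c28 LD3_c52)) = (LP (LK LD1_c10 LD2_c21 LD3_c32)) :=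
  Lgr Lrot64 (Lpr_bt (f260172 IH) (Lpe (f260027 IH) (Lpe (f260000 IH) (Lpr_ct (K15.f259996 IH) (Lpe (K15.f46992 IH) (Lpe (K1.f46581 IH) (Lpr_gf (K10.f190749 IH) (Lpe (f180770 IH) (Lpe (f180840 IH) (Lpe (f180862 IH) (Lpn (LP (LK LD1_c10 LD2_c21 LD3_c32)))))))))))))
theorem f350914 : Led Lsl_ft (LP (LK LD1_c18 LD2_c44 LD3_c60)) = (LP (LK LD1_c10 LD2_c21 LD3_c24)) :=
  Lgr Lrot48 (Lpr_ff (f350897 IH) (Lpn (LP (LK LD1_c10 LD2_c21 LD3_c24))))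
theorem f350865 : Led Lsl_bf (LP (LK LD1_c18 LD2_c44 LD3_c60)) = (LP (LK LD1_c10 LD2_c21 LD3_c33)) :=
  Lgr Lrot24 (Lpr_bt (f350863 IH) (Lpn (LP (LK LD1_c10 LD2_c21 LD3_c33))))
theorem f294834 : Led Lsl_bt (LP (LK LD1_c10 LD2_c21 LD3_c24)) = (LP (LK LD1_c18 LD2_c27 LD3_c52)) :=
  Lgr Lrot127 (Lpr_bf (K18.f294829 IH) (Lpn (LP (LK LD1_c18 LD2_c27 LD3_c52))))
theorem f350918 : Led Lsl_ff (LP (LK LD1_c10 LD2_c21 LD3_c33)) = (LP (LK LD1_c18 LD2_c27 LD3_c52)) :=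
  Lgr Lrot25 (Lpe (f350865 IH) (Lpr_ft (f350914 IH) (Lpr_bt (f294834 IH) (Lpn (LP (LK LD1_c18 LD2_c27 LD3_c52))))))
theorem f180852 : Led Lsl_at (LP (LK LD1_c10 LD2_c21 LD3_c33)) = (LP (LK LD1_c5 LD2_c16 LD3_c1)) :=
  Lre_a IH (LK LD1_c10 LD2_c21 LD3_c33) (LK LD1_c5 LD2_c16 LD3_c1) Lrfl Lrfl
theorem f351110 : Led Lsl_gf (LP (LK LD1_c10 LD2_c21 LD3_c32)) = (LP (LK LD1_c18 LD2_c27 LD3_c52)) :=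
  Lgr Lrot47 (Lpr_gt (f180862 IH) (Lpe (f180852 IH) (Lpr_ff (f350918 IH) (Lpn (LP (LK LD1_c18 LD2_c27 LD3_c52))))))
theorem f230111 : Led Lsl_ct (LP (LK LD1_c10 LD2_c28 LD3_c56)) = (LP (LK LD1_c18 LD2_c45 LD3_c0)) :=
  Lgr Lrot59 (Lpr_cf (K17.f230081 IH) (Lpn (LP (LK LD1_c18 LD2_c45 LD3_c0))))
theorem f230145 : Led Lsl_et (LP (LK LD1_c5 LD2_c19 LD3_c31)) = (LP (LK LD1_c10 LD2_c28 LD3_c56)) :=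
  Lre_e IH (LK LD1_c5 LD2_c19 LD3_c31) (LK LD1_c10 LD2_c28 LD3_c56) Lrfl Lrfl
theorem f230146 : Led Lsl_et (LP (LK LD1_c18 LD2_c45 LD3_c0)) = (LP (LK LD1_c10 LD2_c19 LD3_c40)) :=
  Lre_e IH (LK LD1_c18 LD2_c45 LD3_c0) (LK LD1_c10 LD2_c19 LD3_c40) Lrfl Lrfl
theorem f230147 : Led Lsl_cf (LP (LK LD1_c5 LD2_c19 LD3_c31)) = (LP (LK LD1_c10 LD2_c19 LD3_c40)) :=
  Lgr Lrot39 (Lpr_et (f230145 IH) (Lpr_ct (f230111 IH) (Lpr_et (f230146 IH) (Lpn (LP (LK LD1_c10 LD2_c19 LD3_c40))))))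
theorem f230150 : Led Lsl_at (LP (LK LD1_c5 LD2_c19 LD3_c31)) = (LP (LK LD1_c10 LD2_c28 LD3_c54)) :=
  Lre_a IH (LK LD1_c5 LD2_c19 LD3_c31) (LK LD1_c10 LD2_c28 LD3_c54) Lrfl Lrfl
theorem f230152 : Led Lsl_ct (LP (LK LD1_c10 LD2_c28 LD3_c54)) = (LP (LK LD1_c18 LD2_c44 LD3_c60)) :=
  Lgr Lrot111 (Lpe (f230150 IH) (Lpr_cf (f230147 IH) (Lpe (f230151 IH) (Lpn (LP (LK LD1_c18 LD2_c44 LD3_c60))))))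
theorem f230193 : Led Lsl_cf (LP (LK LD1_c10 LD2_c28 LD3_c54)) = (LP (LK LD1_c18 LD2_c44 LD3_c60)) :=
  Lgr Lrot11 (Lpr_ct (f230152 IH) (Lpn (LP (LK LD1_c18 LD2_c44 LD3_c60))))
theorem f34006 : Led Lsl_bt (LP (LK LD1_c2 LD2_c31 LD3_c42)) = (LP (LK LD1_c5 LD2_c9 LD3_c3)) :=
  Lre_b IH (LK LD1_c2 LD2_c31 LD3_c42) (LK LD1_c5 LD2_c9 LD3_c3) Lrfl Lrfl
theorem f287141 : Led Lsl_at (LP (LK LD1_c5 LD2_c9 LD3_c3)) = (LP (LK LD1_c10 LD2_c8 LD3_c41)) :=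
  Lre_a IH (LK LD1_c5 LD2_c9 LD3_c3) (LK LD1_c10 LD2_c8 LD3_c41) Lrfl Lrfl
theorem f287142 : Led Lsl_bf (LP (LK LD1_c15 LD2_c11 LD3_c43)) = (LP (LK LD1_c10 LD2_c8 LD3_c41)) :=
  Lgr Lrot81 (Lpr_at (f180845 IH) (Lpr_bt (f180770 IH) (Lpr_at (K17.f287135 IH) (Lpr_bt (f34006 IH) (Lpr_at (f287141 IH) (Lpn (LP (LK LD1_c10 LD2_c8 LD3_c41))))))))
theorem f321788 : Led Lsl_bt (LP (LK LD1_c5 LD2_c20 LD3_c5)) = (LP (LK LD1_c10 LD2_c30 LD3_c4)) :=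
  Lre_b IH (LK LD1_c5 LD2_c20 LD3_c5) (LK LD1_c10 LD2_c30 LD3_c4) Lrfl Lrfl
theorem f229571 : Led Lsl_ct (LP (LK LD1_c5 LD2_c9 LD3_c5)) = (LP (LK LD1_c2 LD2_c31 LD3_c43)) :=
  Lre_c IH (LK LD1_c5 LD2_c9 LD3_c5) (LK LD1_c2 LD2_c31 LD3_c43) Lrfl Lrfl
theorem f287133 : Led Lsl_bt (LP (LK LD1_c10 LD2_c8 LD3_c43)) = (LP (LK LD1_c5 LD2_c9 LD3_c5)) :=
  Lre_b IH (LK LD1_c10 LD2_c8 LD3_c43) (LK LD1_c5 LD2_c9 LD3_c5) Lrfl Lrfl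
theorem f321789 : Led Lsl_ct (LP (LK LD1_c10 LD2_c30 LD3_c4)) = (LP (LK LD1_c10 LD2_c8 LD3_c43)) :=
  Lgr Lrot83 (Lpe (f321788 IH) (Lpr_cf (K20.f321770 IH) (Lpe (K25.f229524 IH) (Lpe (f229571 IH) (Lpe (f287133 IH) (Lpn (LP (LK LD1_c10 LD2_c8 LD3_c43))))))))
theorem f321800 : Led Lsl_et (LP (LK LD1_c5 LD2_c20 LD3_c3)) = (LP (LK LD1_c10 LD2_c30 LD3_c4)) :=
  Lre_e IH (LK LD1_c5 LD2_c20 LD3_c3) (LK LD1_c10 LD2_c30 LD3_c4) Lrfl Lrfl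
theorem f321801 : Led Lsl_et (LP (LK LD1_c10 LD2_c8 LD3_c43)) = (LP (LK LD1_c5 LD2_c9 LD3_c3)) :=
  Lre_e IH (LK LD1_c10 LD2_c8 LD3_c43) (LK LD1_c5 LD2_c9 LD3_c3) Lrfl Lrfl
theorem f321802 : Led Lsl_cf (LP (LK LD1_c5 LD2_c20 LD3_c3)) = (LP (LK LD1_c5 LD2_c9 LD3_c3)) :=
  Lgr Lrot39 (Lpr_et (f321800 IH) (Lpr_ct (f321789 IH) (Lpr_et (f321801 IH) (Lpn (LP (LK LD1_c5 LD2_c9 LD3_c3))))))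
theorem f321808 : Led Lsl_at (LP (LK LD1_c5 LD2_c20 LD3_c3)) = (LP (LK LD1_c10 LD2_c30 LD3_c2)) :=
  Lre_a IH (LK LD1_c5 LD2_c20 LD3_c3) (LK LD1_c10 LD2_c30 LD3_c2) Lrfl Lrfl
theorem f321809 : Led Lsl_at (LP (LK LD1_c10 LD2_c8 LD3_c41)) = (LP (LK LD1_c5 LD2_c9 LD3_c3)) :=
  Lre_a IH (LK LD1_c10 LD2_c8 LD3_c41) (LK LD1_c5 LD2_c9 LD3_c3) Lrfl Lrfl
theorem f321810 : Led Lsl_ct (LP (LK LD1_c10 LD2_c30 LD3_c2)) = (LP (LK LD1_c10 LD2_c8 LD3_c41)) :=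
  Lgr Lrot111 (Lpe (f321808 IH) (Lpr_cf (f321802 IH) (Lpe (f321809 IH) (Lpn (LP (LK LD1_c10 LD2_c8 LD3_c41))))))
theorem f351141 : Led Lsl_bt (LP (LK LD1_c10 LD2_c28 LD3_c54)) = (LP (LK LD1_c10 LD2_c30 LD3_c2)) :=
  Lgr Lrot128 (Lpr_cf (f230193 IH) (Lpr_bf (f350865 IH) (Lpr_cf (f180863 IH) (Lpr_bf (f287142 IH) (Lpe (f321810 IH) (Lpn (LP (LK LD1_c10 LD2_c30 LD3_c2))))))))
theorem f350920 : Led Lsl_ff (LP (LK LD1_c10 LD2_c28 LD3_c54)) = (LP (LK LD1_c10 LD2_c29 LD3_c57)) :=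
  Lgr Lrot23 (Lpr_ct (f230152 IH) (Lpr_ft (f350914 IH) (Lpe (K18.f294786 IH) (Lpn (LP (LK LD1_c10 LD2_c29 LD3_c57))))))
theorem f351147 : Led Lsl_ff (LP (LK LD1_c10 LD2_c28 LD3_c46)) = (LP (LK LD1_c10 LD2_c30 LD3_c2)) :=
  Lgr Lrot25 (Lpe (K18.f294824 IH) (Lpe (f350920 IH) (Lpr_bt (f351141 IH) (Lpn (LP (LK LD1_c10 LD2_c30 LD3_c2))))))
theorem f321819 : Led Lsl_cf (LP (LK LD1_c10 LD2_c30 LD3_c2)) = (LP (LK LD1_c10 LD2_c8 LD3_c41)) :=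
  Lgr Lrot11 (Lpr_ct (f321810 IH) (Lpn (LP (LK LD1_c10 LD2_c8 LD3_c41))))
theorem f351149 : Led Lsl_ft (LP (LK LD1_c15 LD2_c11 LD3_c28)) = (LP (LK LD1_c10 LD2_c8 LD3_c41)) :=
  Lgr Lrot4 (Lpe (K18.f259037 IH) (Lpr_ff (f351147 IH) (Lpr_cf (f321819 IH) (Lpn (LP (LK LD1_c10 LD2_c8 LD3_c41))))))
theorem f230158 : Led Lsl_at (LP (LK LD1_c10 LD2_c28 LD3_c54)) = (LP (LK LD1_c5 LD2_c19 LD3_c31)) :=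
  Lre_a IH (LK LD1_c10 LD2_c28 LD3_c54) (LK LD1_c5 LD2_c19 LD3_c31) Lrfl Lrfl
theorem f230164 : Led Lsl_gt (LP (LK LD1_c10 LD2_c28 LD3_c53)) = (LP (LK LD1_c5 LD2_c19 LD3_c31)) :=
  Lre_g IH (LK LD1_c10 LD2_c28 LD3_c53) (LK LD1_c5 LD2_c19 LD3_c31) Lrfl Lrfl
theorem f350927 : Led Lsl_gf (LP (LK LD1_c10 LD2_c28 LD3_c53)) = (LP (LK LD1_c10 LD2_c29 LD3_c57)) :=
  Lgr Lrot47 (Lpr_gt (f230164 IH) (Lpe (f230158 IH) (Lpr_ff (f350920 IH) (Lpn (LP (LK LD1_c10 LD2_c29 LD3_c57))))))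
theorem f230165 : Led Lsl_ct (LP (LK LD1_c18 LD2_c59 LD3_c46)) = (LP (LK LD1_c10 LD2_c28 LD3_c53)) :=
  Lre_c IH (LK LD1_c18 LD2_c59 LD3_c46) (LK LD1_c10 LD2_c28 LD3_c53) Lrfl Lrfl
theorem f32841 : Led Lsl_bt (LP (LK LD1_c10 LD2_c19 LD3_c40)) = (LP (LK LD1_c5 LD2_c15 LD3_c6)) :=
  Lre_b IH (LK LD1_c10 LD2_c19 LD3_c40) (LK LD1_c5 LD2_c15 LD3_c6) Lrfl Lrfl
theorem f214799 : Led Lsl_bt (LP (LK LD1_c5 LD2_c15 LD3_c4)) = (LP (LK LD1_c10 LD2_c19 LD3_c35)) :=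
  Lre_b IH (LK LD1_c5 LD2_c15 LD3_c4) (LK LD1_c10 LD2_c19 LD3_c35) Lrfl Lrfl
theorem f214854 : Led Lsl_gt (LP (LK LD1_c10 LD2_c19 LD3_c35)) = (LP (LK LD1_c18 LD2_c44 LD3_c48)) :=
  Lre_g IH (LK LD1_c10 LD2_c19 LD3_c35) (LK LD1_c18 LD2_c44 LD3_c48) Lrfl Lrfl
theorem f230168 : Led Lsl_bt (LP (LK LD1_c18 LD2_c59 LD3_c46)) = (LP (LK LD1_c18 LD2_c44 LD3_c48)) :=
  Lgr Lrot92 (Lpr_ct (f230165 IH) (Lpr_gt (f230164 IH) (Lpr_cf (f230147 IH) (Lpr_bt (f32841 IH) (Lpr_gt (K10.f32460 IH) (Lpr_ct (K1.f32448 IH) (Lpr_gt (K14.f32318 IH) (Lpe (K14.f214828 IH) (Lpr_bt (f214799 IH) (Lpr_gt (f214854 IH) (Lpn (LP (LK LD1_c18 LD2_c44 LD3_c48)))))))))))))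
theorem f343164 : Led Lsl_gt (LP (LK LD1_c18 LD2_c44 LD3_c48)) = (LP (LK LD1_c10 LD2_c21 LD3_c11)) :=
  Lgr Lrot46 (Lpe (f214854 IH) (Lpr_ft (K26.f343147 IH) (Lpr_at (f342976 IH) (Lpn (LP (LK LD1_c10 LD2_c21 LD3_c11))))))
theorem f333105 : Led Lsl_ct (LP (LK LD1_c10 LD2_c21 LD3_c11)) = (LP (LK LD1_c18 LD2_c47 LD3_c7)) :=
  Lre_c IH (LK LD1_c10 LD2_c21 LD3_c11) (LK LD1_c18 LD2_c47 LD3_c7) Lrfl Lrfl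
theorem f214842 : Led Lsl_at (LP (LK LD1_c24 LD2_c47 LD3_c58)) = (LP (LK LD1_c15 LD2_c0 LD3_c35)) :=
  Lre_a IH (LK LD1_c24 LD2_c47 LD3_c58) (LK LD1_c15 LD2_c0 LD3_c35) Lrfl Lrfl
theorem f342942 : Led Lsl_at (LP (LK LD1_c10 LD2_c21 LD3_c3)) = (LP (LK LD1_c18 LD2_c47 LD3_c7)) :=
  Lre_a IH (LK LD1_c10 LD2_c21 LD3_c3) (LK LD1_c18 LD2_c47 LD3_c7) Lrfl Lrfl
theorem f343180 : Led Lsl_ff (LP (LK LD1_c24 LD2_c47 LD3_c58)) = (LP (LK LD1_c18 LD2_c47 LD3_c7)) :=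
  Lgr Lrot30 (Lpr_at (f214842 IH) (Lpr_ft (K26.f343176 IH) (Lpr_at (f342942 IH) (Lpn (LP (LK LD1_c18 LD2_c47 LD3_c7))))))
theorem f214857 : Led Lsl_gt (LP (LK LD1_c24 LD2_c47 LD3_c57)) = (LP (LK LD1_c15 LD2_c0 LD3_c35)) :=
  Lre_g IH (LK LD1_c24 LD2_c47 LD3_c57) (LK LD1_c15 LD2_c0 LD3_c35) Lrfl Lrfl
theorem f343287 : Led Lsl_gf (LP (LK LD1_c24 LD2_c47 LD3_c57)) = (LP (LK LD1_c18 LD2_c47 LD3_c7)) :=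
  Lgr Lrot47 (Lpr_gt (f214857 IH) (Lpe (f214842 IH) (Lpr_ff (f343180 IH) (Lpn (LP (LK LD1_c18 LD2_c47 LD3_c7))))))
theorem f180768 : Led Lsl_bt (LP (LK LD1_c2 LD2_c34 LD3_c50)) = (LP (LK LD1_c5 LD2_c16 LD3_c1)) :=
  Lre_b IH (LK LD1_c2 LD2_c34 LD3_c50) (LK LD1_c5 LD2_c16 LD3_c1) Lrfl Lrfl
theorem f180779 : Led Lsl_gt (LP (LK LD1_c5 LD2_c16 LD3_c1)) = (LP (LK LD1_c10 LD2_c21 LD3_c31)) :=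
  Lre_g IH (LK LD1_c5 LD2_c16 LD3_c1) (LK LD1_c10 LD2_c21 LD3_c31) Lrfl Lrfl
theorem f180880 : Led Lsl_bt (LP (LK LD1_c18 LD2_c47 LD3_c60)) = (LP (LK LD1_c10 LD2_c21 LD3_c31)) :=
  Lre_b IH (LK LD1_c18 LD2_c47 LD3_c60) (LK LD1_c10 LD2_c21 LD3_c31) Lrfl Lrfl
theorem f252522 : Led Lsl_cf (LP (LK LD1_c24 LD2_c47 LD3_c57)) = (LP (LK LD1_c18 LD2_c47 LD3_c60)) :=
  Lgr Lrot160 (Lpr_gt (f214857 IH) (Lpe (K26.f214845 IH) (Lpr_bt (K14.f214829 IH) (Lpe (K14.f252515 IH) (Lpr_ct (K14.f252506 IH) (Lpe (K10.f183813 IH) (Lpe (K15.f180773 IH) (Lpr_bt (f180768 IH) (Lpr_gt (f180779 IH) (Lpe (f180880 IH) (Lpn (LP (LK LD1_c18 LD2_c47 LD3_c60)))))))))))))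
theorem f350929 : Led Lsl_gt (LP (LK LD1_c10 LD2_c21 LD3_c31)) = (LP (LK LD1_c18 LD2_c27 LD3_c52)) :=
  Lgr Lrot164 (Lpe (f180880 IH) (Lpe (f252522 IH) (Lpr_gf (f343287 IH) (Lpe (f333105 IH) (Lpe (f343164 IH) (Lpe (f230168 IH) (Lpr_ct (f230165 IH) (Lpr_gf (f350927 IH) (Lpr_cf (K18.f294786 IH) (Lpr_bt (f294834 IH) (Lpn (LP (LK LD1_c18 LD2_c27 LD3_c52)))))))))))))
theorem f232006 : Led Lsl_bt (LP (LK LD1_c4 LD2_c8 LD3_c51)) = (LP (LK LD1_c8 LD2_c17 LD3_c52)) :=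
  Lre_b IH (LK LD1_c4 LD2_c8 LD3_c51) (LK LD1_c8 LD2_c17 LD3_c52) Lrfl Lrfl
theorem f252840 : Led Lsl_at (LP (LK LD1_c8 LD2_c17 LD3_c52)) = (LP (LK LD1_c15 LD2_c36 LD3_c20)) :=
  Lre_a IH (LK LD1_c8 LD2_c17 LD3_c52) (LK LD1_c15 LD2_c36 LD3_c20) Lrfl Lrfl
theorem f49856 : Led Lsl_bt (LP (LK LD1_c5 LD2_c15 LD3_c54)) = (LP (LK LD1_c2 LD2_c34 LD3_c47)) :=
  Lre_b IH (LK LD1_c5 LD2_c15 LD3_c54) (LK LD1_c2 LD2_c34 LD3_c47) Lrfl Lrfl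
theorem f328580 : Led Lsl_at (LP (LK LD1_c10 LD2_c21 LD3_c11)) = (LP (LK LD1_c5 LD2_c15 LD3_c54)) :=
  Lre_a IH (LK LD1_c10 LD2_c21 LD3_c11) (LK LD1_c5 LD2_c15 LD3_c54) Lrfl Lrfl
theorem f328581 : Led Lsl_bt (LP (LK LD1_c15 LD2_c36 LD3_c20)) = (LP (LK LD1_c10 LD2_c21 LD3_c11)) :=
  Lgr Lrot62 (Lpe (f252840 IH) (Lpe (f232006 IH) (Lpr_af (K21.f328576 IH) (Lpe (f49856 IH) (Lpe (f328580 IH) (Lpn (LP (LK LD1_c10 LD2_c21 LD3_c11))))))))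
theorem f252842 : Led Lsl_ct (LP (LK LD1_c15 LD2_c36 LD3_c20)) = (LP (LK LD1_c9 LD2_c54 LD3_c9)) :=
  Lgr Lrot111 (Lpe (f252840 IH) (Lpr_cf (K23.f252829 IH) (Lpe (K22.f252841 IH) (Lpn (LP (LK LD1_c9 LD2_c54 LD3_c9))))))
theorem f252892 : Led Lsl_cf (LP (LK LD1_c15 LD2_c36 LD3_c20)) = (LP (LK LD1_c9 LD2_c54 LD3_c9)) :=
  Lgr Lrot11 (Lpr_ct (f252842 IH) (Lpn (LP (LK LD1_c9 LD2_c54 LD3_c9))))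
theorem f342943 : Led Lsl_ct (LP (LK LD1_c24 LD2_c48 LD3_c2)) = (LP (LK LD1_c18 LD2_c3 LD3_c51)) :=
  Lgr Lrot83 (Lpr_bf (K26.f342939 IH) (Lpe (f333105 IH) (Lpe (f328581 IH) (Lpr_cf (f252892 IH) (Lpr_bf (K22.f333100 IH) (Lpn (LP (LK LD1_c18 LD2_c3 LD3_c51))))))))
theorem f342953 : Led Lsl_cf (LP (LK LD1_c24 LD2_c48 LD3_c2)) = (LP (LK LD1_c18 LD2_c3 LD3_c51)) :=
  Lgr Lrot11 (Lpr_ct (f342943 IH) (Lpn (LP (LK LD1_c18 LD2_c3 LD3_c51))))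
theorem f191780 : Led Lsl_bt (LP (LK LD1_c7 LD2_c57 LD3_c32)) = (LP (LK LD1_c15 LD2_c0 LD3_c38)) :=
  Lre_b IH (LK LD1_c7 LD2_c57 LD3_c32) (LK LD1_c15 LD2_c0 LD3_c38) Lrfl Lrfl
theorem f214274 : Led Lsl_bt (LP (LK LD1_c10 LD2_c21 LD3_c3)) = (LP (LK LD1_c5 LD2_c15 LD3_c52)) :=
  Lre_b IH (LK LD1_c10 LD2_c21 LD3_c3) (LK LD1_c5 LD2_c15 LD3_c52) Lrfl Lrfl
theorem f342914 : Led Lsl_at (LP (LK LD1_c18 LD2_c47 LD3_c7)) = (LP (LK LD1_c10 LD2_c21 LD3_c3)) :=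
  Lre_a IH (LK LD1_c18 LD2_c47 LD3_c7) (LK LD1_c10 LD2_c21 LD3_c3) Lrfl Lrfl
theorem f342915 : Led Lsl_bt (LP (LK LD1_c24 LD2_c48 LD3_c2)) = (LP (LK LD1_c18 LD2_c47 LD3_c7)) :=
  Lgr Lrot62 (Lpe (f342913 IH) (Lpe (f191780 IH) (Lpr_af (K25.f342703 IH) (Lpe (f214274 IH) (Lpe (f342914 IH) (Lpn (LP (LK LD1_c18 LD2_c47 LD3_c7))))))))
theorem f342974 : Led Lsl_bt (LP (LK LD1_c10 LD2_c21 LD3_c11)) = (LP (LK LD1_c15 LD2_c36 LD3_c20)) :=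
  Lgr Lrot128 (Lpe (f342950 IH) (Lpe (f342915 IH) (Lpr_cf (f342953 IH) (Lpe (K22.f333097 IH) (Lpe (f252842 IH) (Lpn (LP (LK LD1_c15 LD2_c36 LD3_c20))))))))
theorem f180887 : Led Lsl_gt (LP (LK LD1_c5 LD2_c15 LD3_c46)) = (LP (LK LD1_c10 LD2_c20 LD3_c50)) :=
  Lre_g IH (LK LD1_c5 LD2_c15 LD3_c46) (LK LD1_c10 LD2_c20 LD3_c50) Lrfl Lrfl
theorem f343085 : Led Lsl_gf (LP (LK LD1_c15 LD2_c36 LD3_c20)) = (LP (LK LD1_c10 LD2_c20 LD3_c50)) :=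
  Lgr Lrot76 (Lpe (f252840 IH) (Lpr_ff (K23.f343076 IH) (Lpr_gt (f180887 IH) (Lpn (LP (LK LD1_c10 LD2_c20 LD3_c50))))))
theorem f180888 : Led Lsl_bt (LP (LK LD1_c18 LD2_c46 LD3_c41)) = (LP (LK LD1_c10 LD2_c20 LD3_c50)) :=
  Lre_b IH (LK LD1_c18 LD2_c46 LD3_c41) (LK LD1_c10 LD2_c20 LD3_c50) Lrfl Lrfl
theorem f180771 : Led Lsl_ct (LP (LK LD1_c5 LD2_c16 LD3_c1)) = (LP (LK LD1_c8 LD2_c4 LD3_c16)) :=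
  Lgr Lrot83 (Lpe (f180768 IH) (Lpr_cf (K10.f180766 IH) (Lpe (K10.f180769 IH) (Lpe (K13.f33703 IH) (Lpe (f180770 IH) (Lpn (LP (LK LD1_c8 LD2_c4 LD3_c16))))))))
theorem f32529 : Led Lsl_bt (LP (LK LD1_c5 LD2_c16 LD3_c1)) = (LP (LK LD1_c2 LD2_c34 LD3_c50)) :=
  Lre_b IH (LK LD1_c5 LD2_c16 LD3_c1) (LK LD1_c2 LD2_c34 LD3_c50) Lrfl Lrfl
theorem f180857 : Led Lsl_gt (LP (LK LD1_c15 LD2_c11 LD3_c42)) = (LP (LK LD1_c8 LD2_c4 LD3_c16)) :=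
  Lre_g IH (LK LD1_c15 LD2_c11 LD3_c42) (LK LD1_c8 LD2_c4 LD3_c16) Lrfl Lrfl
theorem f180889 : Led Lsl_ct (LP (LK LD1_c18 LD2_c46 LD3_c41)) = (LP (LK LD1_c15 LD2_c11 LD3_c42)) :=
  Lgr Lrot64 (Lpr_bt (f180888 IH) (Lpe (f180887 IH) (Lpe (K23.f180886 IH) (Lpr_ct (K21.f45504 IH) (Lpe (K10.f48336 IH) (Lpe (K10.f45390 IH) (Lpe (K10.f45519 IH) (Lpe (f32529 IH) (Lpr_ct (f180771 IH) (Lpe (f180857 IH) (Lpn (LP (LK LD1_c15 LD2_c11 LD3_c42)))))))))))))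
theorem f294840 : Led Lsl_ct (LP (LK LD1_c18 LD2_c27 LD3_c52)) = (LP (LK LD1_c10 LD2_c8 LD3_c22)) :=
  Lre_c IH (LK LD1_c18 LD2_c27 LD3_c52) (LK LD1_c10 LD2_c8 LD3_c22) Lrfl Lrfl
theorem f350937 : Led Lsl_gf (LP (LK LD1_c15 LD2_c11 LD3_c42)) = (LP (LK LD1_c10 LD2_c8 LD3_c22)) :=
  Lgr Lrot129 (Lpe (f180889 IH) (Lpr_bt (f180888 IH) (Lpe (f343085 IH) (Lpe (f342974 IH) (Lpr_ct (f333105 IH) (Lpe (f343287 IH) (Lpr_cf (f252522 IH) (Lpr_bt (f180880 IH) (Lpr_gt (f350929 IH) (Lpr_ct (f294840 IH) (Lpn (LP (LK LD1_c10 LD2_c8 LD3_c22)))))))))))))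
theorem f350939 : Led Lsl_ff (LP (LK LD1_c15 LD2_c11 LD3_c43)) = (LP (LK LD1_c10 LD2_c8 LD3_c22)) :=
  Lgr Lrot52 (Lpr_at (f180845 IH) (Lpe (f180857 IH) (Lpr_gf (f350937 IH) (Lpn (LP (LK LD1_c10 LD2_c8 LD3_c22))))))
theorem f350948 : Led Lsl_ft (LP (LK LD1_c15 LD2_c11 LD3_c43)) = (LP (LK LD1_c10 LD2_c8 LD3_c22)) :=
  Lgr Lrot48 (Lpr_ff (f350939 IH) (Lpn (LP (LK LD1_c10 LD2_c8 LD3_c22))))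
theorem f351196 : Led Lsl_bf (LP (LK LD1_c15 LD2_c11 LD3_c28)) = (LP (LK LD1_c10 LD2_c8 LD3_c22)) :=
  Lgr Lrot61 (Lpr_ft (f351149 IH) (Lpe (f287142 IH) (Lpr_ft (f350948 IH) (Lpn (LP (LK LD1_c10 LD2_c8 LD3_c22))))))
theorem f192962 : Led Lsl_bt (LP (LK LD1_c8 LD2_c4 LD3_c10)) = (LP (LK LD1_c4 LD2_c1 LD3_c47)) :=
  Lre_b IH (LK LD1_c8 LD2_c4 LD3_c10) (LK LD1_c4 LD2_c1 LD3_c47) Lrfl Lrfl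
theorem f287184 : Led Lsl_ff (LP (LK LD1_c8 LD2_c4 LD3_c10)) = (LP (LK LD1_c5 LD2_c9 LD3_c3)) :=
  Lgr Lrot25 (Lpr_bt (f192962 IH) (Lpr_ft (K17.f287182 IH) (Lpr_bt (f34006 IH) (Lpn (LP (LK LD1_c5 LD2_c9 LD3_c3))))))
theorem f34007 : Led Lsl_gt (LP (LK LD1_c5 LD2_c9 LD3_c3)) = (LP (LK LD1_c10 LD2_c8 LD3_c39)) :=
  Lre_g IH (LK LD1_c5 LD2_c9 LD3_c3) (LK LD1_c10 LD2_c8 LD3_c39) Lrfl Lrfl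
theorem f408558 : Led Lsl_gf (LP (LK LD1_c15 LD2_c11 LD3_c28)) = (LP (LK LD1_c10 LD2_c8 LD3_c39)) :=
  Lgr Lrot76 (Lpe (K18.f259027 IH) (Lpr_ff (f287184 IH) (Lpr_gt (f34007 IH) (Lpn (LP (LK LD1_c10 LD2_c8 LD3_c39))))))
theorem f402972 : Led Lsl_ct (LP (LK LD1_c17 LD2_c46 LD3_c36)) = (LP (LK LD1_c9 LD2_c39 LD3_c54)) :=
  Lre_c IH (LK LD1_c17 LD2_c46 LD3_c36) (LK LD1_c9 LD2_c39 LD3_c54) Lrfl Lrfl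
theorem f544754 : Led Lsl_bf (LP (LK LD1_c10 LD2_c8 LD3_c39)) = (LP (LK LD1_c17 LD2_c46 LD3_c36)) :=
  Lgr Lrot156 (Lpe (f408558 IH) (Lpr_bf (f351196 IH) (Lpr_ct (K18.f294828 IH) (Lpe (f351110 IH) (Lpe (f260173 IH) (Lpr_bt (f260172 IH) (Lpe (f413144 IH) (Lpe (f294581 IH) (Lpr_gt (f544748 IH) (Lpe (f402972 IH) (Lpn (LP (LK LD1_c17 LD2_c46 LD3_c36)))))))))))))
theorem f544625 : Led Lsl_ct (LP (LK LD1_c9 LD2_c39 LD3_c54)) = (LP (LK LD1_c17 LD2_c46 LD3_c36)) :=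
  Lre_c IH (LK LD1_c9 LD2_c39 LD3_c54) (LK LD1_c17 LD2_c46 LD3_c36) Lrfl Lrfl
theorem f43754 : Led Lsl_bt (LP (LK LD1_c17 LD2_c46 LD3_c42)) = (LP (LK LD1_c9 LD2_c39 LD3_c58)) :=
  Lre_b IH (LK LD1_c17 LD2_c46 LD3_c42) (LK LD1_c9 LD2_c39 LD3_c58) Lrfl Lrfl
theorem f544758 : Led Lsl_ct (LP (LK LD1_c10 LD2_c8 LD3_c39)) = (LP (LK LD1_c17 LD2_c46 LD3_c42)) :=
  Lgr Lrot83 (Lpr_bf (f544754 IH) (Lpe (f544625 IH) (Lpe (f43593 IH) (Lpe (K14.f43525 IH) (Lpe (f43754 IH) (Lpn (LP (LK LD1_c17 LD2_c46 LD3_c42))))))))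
theorem f544760 : Led Lsl_cf (LP (LK LD1_c10 LD2_c8 LD3_c39)) = (LP (LK LD1_c17 LD2_c46 LD3_c42)) :=
  Lgr Lrot11 (Lpr_ct (f544758 IH) (Lpn (LP (LK LD1_c17 LD2_c46 LD3_c42))))
theorem f212315 : Led Lsl_bt (LP (LK LD1_c2 LD2_c36 LD3_c42)) = (LP (LK LD1_c5 LD2_c20 LD3_c3)) :=
  Lre_b IH (LK LD1_c2 LD2_c36 LD3_c42) (LK LD1_c5 LD2_c20 LD3_c3) Lrfl Lrfl
theorem f190446 : Led Lsl_bt (LP (LK LD1_c5 LD2_c9 LD3_c3)) = (LP (LK LD1_c2 LD2_c31 LD3_c42)) :=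
  Lre_b IH (LK LD1_c5 LD2_c9 LD3_c3) (LK LD1_c2 LD2_c31 LD3_c42) Lrfl Lrfl
theorem f212316 : Led Lsl_ct (LP (LK LD1_c5 LD2_c20 LD3_c3)) = (LP (LK LD1_c5 LD2_c9 LD3_c3)) :=
  Lgr Lrot83 (Lpe (f212315 IH) (Lpr_cf (K12.f212313 IH) (Lpe (K12.f190447 IH) (Lpe (K10.f34005 IH) (Lpe (f190446 IH) (Lpn (LP (LK LD1_c5 LD2_c9 LD3_c3))))))))
theorem f46280 : Led Lsl_bt (LP (LK LD1_c5 LD2_c20 LD3_c3)) = (LP (LK LD1_c2 LD2_c36 LD3_c42)) :=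
  Lre_b IH (LK LD1_c5 LD2_c20 LD3_c3) (LK LD1_c2 LD2_c36 LD3_c42) Lrfl Lrfl
theorem f544764 : Led Lsl_bf (LP (LK LD1_c2 LD2_c36 LD3_c28)) = (LP (LK LD1_c2 LD2_c36 LD3_c27)) :=
  Lgr Lrot156 (Lpe (K12.f46274 IH) (Lpe (f46280 IH) (Lpr_ct (f212316 IH) (Lpr_gt (f34007 IH) (Lpr_cf (f544760 IH) (Lpr_bt (f43754 IH) (Lpr_gt (K14.f248087 IH) (Lpe (K14.f248092 IH) (Lpe (K14.f190634 IH) (Lpe (K14.f46377 IH) (Lpn (LP (LK LD1_c2 LD2_c36 LD3_c27)))))))))))))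
theorem f32527 : Led Lsl_bt (LP (LK LD1_c5 LD2_c15 LD3_c60)) = (LP (LK LD1_c2 LD2_c34 LD3_c49)) :=
  Lre_b IH (LK LD1_c5 LD2_c15 LD3_c60) (LK LD1_c2 LD2_c34 LD3_c49) Lrfl Lrfl
theorem f184851 : Led Lsl_bt (LP (LK LD1_c2 LD2_c36 LD3_c41)) = (LP (LK LD1_c5 LD2_c20 LD3_c0)) :=
  Lre_b IH (LK LD1_c2 LD2_c36 LD3_c41) (LK LD1_c5 LD2_c20 LD3_c0) Lrfl Lrfl
theorem f184852 : Led Lsl_cf (LP (LK LD1_c5 LD2_c15 LD3_c60)) = (LP (LK LD1_c5 LD2_c20 LD3_c0)) :=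
  Lgr Lrot97 (Lpr_bt (f32527 IH) (Lpe (K13.f184065 IH) (Lpr_bt (K9.f184074 IH) (Lpr_ct (K9.f184848 IH) (Lpr_bt (f184851 IH) (Lpn (LP (LK LD1_c5 LD2_c20 LD3_c0))))))))
theorem f252517 : Led Lsl_gt (LP (LK LD1_c10 LD2_c21 LD3_c23)) = (LP (LK LD1_c5 LD2_c15 LD3_c60)) :=
  Lre_g IH (LK LD1_c10 LD2_c21 LD3_c23) (LK LD1_c5 LD2_c15 LD3_c60) Lrfl Lrfl
theorem f294761 : Led Lsl_ct (LP (LK LD1_c18 LD2_c47 LD3_c42)) = (LP (LK LD1_c10 LD2_c21 LD3_c23)) :=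
  Lre_c IH (LK LD1_c18 LD2_c47 LD3_c42) (LK LD1_c10 LD2_c21 LD3_c23) Lrfl Lrfl
theorem f544776 : Led Lsl_gf (LP (LK LD1_c18 LD2_c47 LD3_c42)) = (LP (LK LD1_c10 LD2_c28 LD3_c17)) :=
  Lgr Lrot181 (Lpr_ct (f294761 IH) (Lpr_gt (f252517 IH) (Lpr_cf (f184852 IH) (Lpr_bt (K18.f46295 IH) (Lpr_gt (K9.f46291 IH) (Lpr_bf (f544764 IH) (Lpr_ct (K14.f46377 IH) (Lpr_gt (K14.f248276 IH) (Lpe (K14.f248106 IH) (Lpr_bt (K18.f248181 IH) (Lpn (LP (LK LD1_c10 LD2_c28 LD3_c17)))))))))))))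
theorem f351151 : Led Lsl_ft (LP (LK LD1_c10 LD2_c28 LD3_c46)) = (LP (LK LD1_c10 LD2_c30 LD3_c2)) :=
  Lgr Lrot48 (Lpr_ff (f351147 IH) (Lpn (LP (LK LD1_c10 LD2_c30 LD3_c2))))
theorem f351155 : Led Lsl_ff (LP (LK LD1_c15 LD2_c11 LD3_c28)) = (LP (LK LD1_c10 LD2_c8 LD3_c41)) :=
  Lgr Lrot23 (Lpe (K18.f259028 IH) (Lpr_ft (f351151 IH) (Lpr_ct (f321810 IH) (Lpn (LP (LK LD1_c10 LD2_c8 LD3_c41))))))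
theorem f259032 : Led Lsl_at (LP (LK LD1_c15 LD2_c11 LD3_c28)) = (LP (LK LD1_c8 LD2_c4 LD3_c10)) :=
  Lre_a IH (LK LD1_c15 LD2_c11 LD3_c28) (LK LD1_c8 LD2_c4 LD3_c10) Lrfl Lrfl
theorem f259036 : Led Lsl_gt (LP (LK LD1_c15 LD2_c11 LD3_c27)) = (LP (LK LD1_c8 LD2_c4 LD3_c10)) :=
  Lre_g IH (LK LD1_c15 LD2_c11 LD3_c27) (LK LD1_c8 LD2_c4 LD3_c10) Lrfl Lrfl
theorem f351161 : Led Lsl_gf (LP (LK LD1_c15 LD2_c11 LD3_c27)) = (LP (LK LD1_c10 LD2_c8 LD3_c41)) :=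
  Lgr Lrot47 (Lpr_gt (f259036 IH) (Lpe (f259032 IH) (Lpr_ff (f351155 IH) (Lpn (LP (LK LD1_c10 LD2_c8 LD3_c41))))))
theorem f258950 : Led Lsl_bt (LP (LK LD1_c5 LD2_c19 LD3_c28)) = (LP (LK LD1_c2 LD2_c36 LD3_c24)) :=
  Lre_b IH (LK LD1_c5 LD2_c19 LD3_c28) (LK LD1_c2 LD2_c36 LD3_c24) Lrfl Lrfl
theorem f165411 : Led Lsl_gt (LP (LK LD1_c5 LD2_c4 LD3_c15)) = (LP (LK LD1_c9 LD2_c59 LD3_c23)) :=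
  Lre_g IH (LK LD1_c5 LD2_c4 LD3_c15) (LK LD1_c9 LD2_c59 LD3_c23) Lrfl Lrfl
theorem f166002 : Led Lsl_bt (LP (LK LD1_c18 LD2_c15 LD3_c52)) = (LP (LK LD1_c9 LD2_c59 LD3_c23)) :=
  Lre_b IH (LK LD1_c18 LD2_c15 LD3_c52) (LK LD1_c9 LD2_c59 LD3_c23) Lrfl Lrfl
theorem f259057 : Led Lsl_cf (LP (LK LD1_c15 LD2_c11 LD3_c27)) = (LP (LK LD1_c18 LD2_c15 LD3_c52)) :=
  Lgr Lrot160 (Lpr_gt (f259036 IH) (Lpe (K18.f259019 IH) (Lpr_bt (f258950 IH) (Lpr_gt (K15.f259050 IH) (Lpr_ct (K15.f28291 IH) (Lpe (K9.f184226 IH) (Lpe (K9.f165881 IH) (Lpr_bt (K19.f165986 IH) (Lpr_gt (f165411 IH) (Lpe (f166002 IH) (Lpn (LP (LK LD1_c18 LD2_c15 LD3_c52)))))))))))))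
theorem f185693 : Led Lsl_at (LP (LK LD1_c5 LD2_c11 LD3_c13)) = (LP (LK LD1_c10 LD2_c12 LD3_c58)) :=
  Lre_a IH (LK LD1_c5 LD2_c11 LD3_c13) (LK LD1_c10 LD2_c12 LD3_c58) Lrfl Lrfl
theorem f307602 : Led Lsl_gf (LP (LK LD1_c10 LD2_c12 LD3_c58)) = (LP (LK LD1_c9 LD2_c59 LD3_c23)) :=
  Lgr Lrot76 (Lpe (f185693 IH) (Lpr_ff (K19.f307585 IH) (Lpr_gt (f165411 IH) (Lpn (LP (LK LD1_c9 LD2_c59 LD3_c23))))))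
theorem f350925 : Led Lsl_ft (LP (LK LD1_c5 LD2_c19 LD3_c31)) = (LP (LK LD1_c5 LD2_c20 LD3_c0)) :=
  Lgr Lrot101 (Lpe (f230158 IH) (Lpr_ff (f350920 IH) (Lpe (K18.f294753 IH) (Lpn (LP (LK LD1_c5 LD2_c20 LD3_c0))))))
theorem f229994 : Led Lsl_gt (LP (LK LD1_c5 LD2_c19 LD3_c31)) = (LP (LK LD1_c10 LD2_c28 LD3_c52)) :=
  Lre_g IH (LK LD1_c5 LD2_c19 LD3_c31) (LK LD1_c10 LD2_c28 LD3_c52) Lrfl Lrfl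
theorem f350988 : Led Lsl_gt (LP (LK LD1_c10 LD2_c28 LD3_c52)) = (LP (LK LD1_c10 LD2_c29 LD3_c57)) :=
  Lgr Lrot46 (Lpe (f229994 IH) (Lpr_ft (f350925 IH) (Lpr_at (K18.f294753 IH) (Lpn (LP (LK LD1_c10 LD2_c29 LD3_c57))))))
theorem f229983 : Led Lsl_bt (LP (LK LD1_c2 LD2_c36 LD3_c25)) = (LP (LK LD1_c5 LD2_c19 LD3_c31)) :=
  Lre_b IH (LK LD1_c2 LD2_c36 LD3_c25) (LK LD1_c5 LD2_c19 LD3_c31) Lrfl Lrfl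
theorem f163774 : Led Lsl_ct (LP (LK LD1_c5 LD2_c11 LD3_c13)) = (LP (LK LD1_c2 LD2_c32 LD3_c35)) :=
  Lre_c IH (LK LD1_c5 LD2_c11 LD3_c13) (LK LD1_c2 LD2_c32 LD3_c35) Lrfl Lrfl
theorem f185202 : Led Lsl_gt (LP (LK LD1_c5 LD2_c11 LD3_c11)) = (LP (LK LD1_c2 LD2_c32 LD3_c35)) :=
  Lre_g IH (LK LD1_c5 LD2_c11 LD3_c11) (LK LD1_c2 LD2_c32 LD3_c35) Lrfl Lrfl
theorem f185505 : Led Lsl_ct (LP (LK LD1_c10 LD2_c12 LD3_c56)) = (LP (LK LD1_c5 LD2_c11 LD3_c11)) :=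
  Lre_c IH (LK LD1_c10 LD2_c12 LD3_c56) (LK LD1_c5 LD2_c11 LD3_c11) Lrfl Lrfl
theorem f230206 : Led Lsl_bf (LP (LK LD1_c10 LD2_c28 LD3_c52)) = (LP (LK LD1_c10 LD2_c12 LD3_c56)) :=
  Lgr Lrot34 (Lpe (f229994 IH) (Lpe (f229983 IH) (Lpr_ct (K15.f229986 IH) (Lpe (K10.f43554 IH) (Lpr_cf (K14.f191571 IH) (Lpe (K12.f185504 IH) (Lpe (K19.f185493 IH) (Lpr_ct (f163774 IH) (Lpe (f185202 IH) (Lpe (f185505 IH) (Lpn (LP (LK LD1_c10 LD2_c12 LD3_c56)))))))))))))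
theorem f49516 : Led Lsl_gt (LP (LK LD1_c18 LD2_c44 LD3_c59)) = (LP (LK LD1_c10 LD2_c19 LD3_c40)) :=
  Lre_g IH (LK LD1_c18 LD2_c44 LD3_c59) (LK LD1_c10 LD2_c19 LD3_c40) Lrfl Lrfl
theorem f350916 : Led Lsl_gf (LP (LK LD1_c18 LD2_c44 LD3_c59)) = (LP (LK LD1_c10 LD2_c21 LD3_c24)) :=
  Lgr Lrot47 (Lpr_gt (f49516 IH) (Lpe (f230151 IH) (Lpr_ff (f350897 IH) (Lpn (LP (LK LD1_c10 LD2_c21 LD3_c24))))))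
theorem f229984 : Led Lsl_ct (LP (LK LD1_c5 LD2_c19 LD3_c31)) = (LP (LK LD1_c10 LD2_c19 LD3_c40)) :=
  Lgr Lrot83 (Lpe (f229983 IH) (Lpr_cf (K14.f229981 IH) (Lpe (K10.f189498 IH) (Lpe (K14.f49489 IH) (Lpe (f32841 IH) (Lpn (LP (LK LD1_c10 LD2_c19 LD3_c40))))))))
theorem f230154 : Led Lsl_bt (LP (LK LD1_c5 LD2_c19 LD3_c31)) = (LP (LK LD1_c2 LD2_c36 LD3_c25)) :=
  Lre_b IH (LK LD1_c5 LD2_c19 LD3_c31) (LK LD1_c2 LD2_c36 LD3_c25) Lrfl Lrfl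
theorem f230223 : Led Lsl_bt (LP (LK LD1_c2 LD2_c36 LD3_c21)) = (LP (LK LD1_c5 LD2_c19 LD3_c21)) :=
  Lre_b IH (LK LD1_c2 LD2_c36 LD3_c21) (LK LD1_c5 LD2_c19 LD3_c21) Lrfl Lrfl
theorem f230224 : Led Lsl_gt (LP (LK LD1_c5 LD2_c19 LD3_c21)) = (LP (LK LD1_c10 LD2_c28 LD3_c27)) :=
  Lre_g IH (LK LD1_c5 LD2_c19 LD3_c21) (LK LD1_c10 LD2_c28 LD3_c27) Lrfl Lrfl
theorem f230225 : Led Lsl_bt (LP (LK LD1_c18 LD2_c58 LD3_c59)) = (LP (LK LD1_c10 LD2_c28 LD3_c27)) :=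
  Lre_b IH (LK LD1_c18 LD2_c58 LD3_c59) (LK LD1_c10 LD2_c28 LD3_c27) Lrfl Lrfl
theorem f230226 : Led Lsl_ct (LP (LK LD1_c18 LD2_c58 LD3_c59)) = (LP (LK LD1_c18 LD2_c44 LD3_c59)) :=
  Lgr Lrot64 (Lpr_bt (f230225 IH) (Lpe (f230224 IH) (Lpe (f230223 IH) (Lpr_ct (K12.f230222 IH) (Lpe (K12.f44265 IH) (Lpe (K1.f44062 IH) (Lpe (K14.f44275 IH) (Lpe (f230154 IH) (Lpr_ct (f229984 IH) (Lpe (f49516 IH) (Lpn (LP (LK LD1_c18 LD2_c44 LD3_c59)))))))))))))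
theorem f230595 : Led Lsl_bt (LP (LK LD1_c10 LD2_c28 LD3_c36)) = (LP (LK LD1_c18 LD2_c59 LD3_c10)) :=
  Lre_b IH (LK LD1_c10 LD2_c28 LD3_c36) (LK LD1_c18 LD2_c59 LD3_c10) Lrfl Lrfl
theorem f248327 : Led Lsl_bt (LP (LK LD1_c19 LD2_c1 LD3_c21)) = (LP (LK LD1_c10 LD2_c29 LD3_c51)) :=
  Lre_b IH (LK LD1_c19 LD2_c1 LD3_c21) (LK LD1_c10 LD2_c29 LD3_c51) Lrfl Lrfl
theorem f288926 : Led Lsl_et (LP (LK LD1_c18 LD2_c59 LD3_c10)) = (LP (LK LD1_c19 LD2_c1 LD3_c21)) :=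
  Lgr Lrot74 (Lpe (f230595 IH) (Lpr_ef (K19.f288923 IH) (Lpe (f248327 IH) (Lpn (LP (LK LD1_c19 LD2_c1 LD3_c21))))))
theorem f230610 : Led Lsl_ft (LP (LK LD1_c10 LD2_c28 LD3_c31)) = (LP (LK LD1_c18 LD2_c59 LD3_c10)) :=
  Lre_f IH (LK LD1_c10 LD2_c28 LD3_c31) (LK LD1_c18 LD2_c59 LD3_c10) Lrfl Lrfl
theorem f288932 : Led Lsl_ft (LP (LK LD1_c19 LD2_c1 LD3_c21)) = (LP (LK LD1_c10 LD2_c29 LD3_c46)) :=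
  Lre_f IH (LK LD1_c19 LD2_c1 LD3_c21) (LK LD1_c10 LD2_c29 LD3_c46) Lrfl Lrfl
theorem f288933 : Led Lsl_et (LP (LK LD1_c10 LD2_c29 LD3_c46)) = (LP (LK LD1_c5 LD2_c19 LD3_c56)) :=
  Lre_e IH (LK LD1_c10 LD2_c29 LD3_c46) (LK LD1_c5 LD2_c19 LD3_c56) Lrfl Lrfl
theorem f288934 : Led Lsl_ff (LP (LK LD1_c5 LD2_c19 LD3_c21)) = (LP (LK LD1_c5 LD2_c19 LD3_c56)) :=
  Lgr Lrot72 (Lpr_et (K15.f230623 IH) (Lpr_ft (f230610 IH) (Lpr_et (f288926 IH) (Lpr_ft (f288932 IH) (Lpr_et (f288933 IH) (Lpn (LP (LK LD1_c5 LD2_c19 LD3_c56))))))))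
theorem f288941 : Led Lsl_ft (LP (LK LD1_c5 LD2_c19 LD3_c21)) = (LP (LK LD1_c5 LD2_c19 LD3_c56)) :=
  Lgr Lrot48 (Lpr_ff (f288934 IH) (Lpn (LP (LK LD1_c5 LD2_c19 LD3_c56))))
theorem f288947 : Led Lsl_at (LP (LK LD1_c5 LD2_c19 LD3_c56)) = (LP (LK LD1_c10 LD2_c29 LD3_c44)) :=
  Lre_a IH (LK LD1_c5 LD2_c19 LD3_c56) (LK LD1_c10 LD2_c29 LD3_c44) Lrfl Lrfl
theorem f288952 : Led Lsl_gt (LP (LK LD1_c10 LD2_c28 LD3_c27)) = (LP (LK LD1_c10 LD2_c29 LD3_c44)) :=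
  Lgr Lrot46 (Lpe (f230224 IH) (Lpr_ft (f288941 IH) (Lpr_at (f288947 IH) (Lpn (LP (LK LD1_c10 LD2_c29 LD3_c44))))))
theorem f307640 : Led Lsl_bt (LP (LK LD1_c10 LD2_c29 LD3_c50)) = (LP (LK LD1_c19 LD2_c1 LD3_c20)) :=
  Lre_b IH (LK LD1_c10 LD2_c29 LD3_c50) (LK LD1_c19 LD2_c1 LD3_c20) Lrfl Lrfl
theorem f307641 : Led Lsl_at (LP (LK LD1_c19 LD2_c1 LD3_c20)) = (LP (LK LD1_c28 LD2_c28 LD3_c1)) :=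
  Lre_a IH (LK LD1_c19 LD2_c1 LD3_c20) (LK LD1_c28 LD2_c28 LD3_c1) Lrfl Lrfl
theorem f166007 : Led Lsl_et (LP (LK LD1_c5 LD2_c16 LD3_c27)) = (LP (LK LD1_c10 LD2_c22 LD3_c26)) :=
  Lre_e IH (LK LD1_c5 LD2_c16 LD3_c27) (LK LD1_c10 LD2_c22 LD3_c26) Lrfl Lrfl
theorem f166008 : Led Lsl_et (LP (LK LD1_c18 LD2_c15 LD3_c56)) = (LP (LK LD1_c9 LD2_c59 LD3_c25)) :=
  Lre_e IH (LK LD1_c18 LD2_c15 LD3_c56) (LK LD1_c9 LD2_c59 LD3_c25) Lrfl Lrfl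
theorem f166009 : Led Lsl_bt (LP (LK LD1_c10 LD2_c22 LD3_c26)) = (LP (LK LD1_c18 LD2_c15 LD3_c56)) :=
  Lgr Lrot119 (Lpe (f166007 IH) (Lpr_bf (K19.f165998 IH) (Lpe (f166008 IH) (Lpn (LP (LK LD1_c18 LD2_c15 LD3_c56))))))
theorem f166017 : Led Lsl_dt (LP (LK LD1_c18 LD2_c49 LD3_c35)) = (LP (LK LD1_c10 LD2_c22 LD3_c26)) :=
  Lre_d IH (LK LD1_c18 LD2_c49 LD3_c35) (LK LD1_c10 LD2_c22 LD3_c26) Lrfl Lrfl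
theorem f166018 : Led Lsl_dt (LP (LK LD1_c18 LD2_c15 LD3_c56)) = (LP (LK LD1_c27 LD2_c55 LD3_c49)) :=
  Lre_d IH (LK LD1_c18 LD2_c15 LD3_c56) (LK LD1_c27 LD2_c55 LD3_c49) Lrfl Lrfl
theorem f166019 : Led Lsl_bf (LP (LK LD1_c18 LD2_c49 LD3_c35)) = (LP (LK LD1_c27 LD2_c55 LD3_c49)) :=
  Lgr Lrot93 (Lpr_dt (f166017 IH) (Lpr_bt (f166009 IH) (Lpr_dt (f166018 IH) (Lpn (LP (LK LD1_c27 LD2_c55 LD3_c49))))))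
theorem f166030 : Led Lsl_bt (LP (LK LD1_c18 LD2_c49 LD3_c35)) = (LP (LK LD1_c27 LD2_c55 LD3_c49)) :=
  Lgr Lrot127 (Lpr_bf (f166019 IH) (Lpn (LP (LK LD1_c27 LD2_c55 LD3_c49))))
theorem f166036 : Led Lsl_et (LP (LK LD1_c10 LD2_c22 LD3_c29)) = (LP (LK LD1_c18 LD2_c49 LD3_c35)) :=
  Lre_e IH (LK LD1_c10 LD2_c22 LD3_c29) (LK LD1_c18 LD2_c49 LD3_c35) Lrfl Lrfl
theorem f166037 : Led Lsl_et (LP (LK LD1_c27 LD2_c55 LD3_c49)) = (LP (LK LD1_c18 LD2_c15 LD3_c58)) :=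
  Lre_e IH (LK LD1_c27 LD2_c55 LD3_c49) (LK LD1_c18 LD2_c15 LD3_c58) Lrfl Lrfl
theorem f166038 : Led Lsl_bf (LP (LK LD1_c10 LD2_c22 LD3_c29)) = (LP (LK LD1_c18 LD2_c15 LD3_c58)) :=
  Lgr Lrot96 (Lpr_et (f166036 IH) (Lpr_bt (f166030 IH) (Lpr_et (f166037 IH) (Lpn (LP (LK LD1_c18 LD2_c15 LD3_c58))))))
theorem f166040 : Led Lsl_at (LP (LK LD1_c27 LD2_c55 LD3_c45)) = (LP (LK LD1_c18 LD2_c15 LD3_c58)) :=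
  Lre_a IH (LK LD1_c27 LD2_c55 LD3_c45) (LK LD1_c18 LD2_c15 LD3_c58) Lrfl Lrfl
theorem f307642 : Led Lsl_bt (LP (LK LD1_c28 LD2_c28 LD3_c1)) = (LP (LK LD1_c27 LD2_c55 LD3_c45)) :=
  Lgr Lrot62 (Lpe (f307641 IH) (Lpe (f307640 IH) (Lpr_af (K25.f307634 IH) (Lpr_bf (f166038 IH) (Lpe (f166040 IH) (Lpn (LP (LK LD1_c27 LD2_c55 LD3_c45))))))))
theorem f307650 : Led Lsl_bf (LP (LK LD1_c28 LD2_c28 LD3_c1)) = (LP (LK LD1_c27 LD2_c55 LD3_c45)) :=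
  Lgr Lrot24 (Lpr_bt (f307642 IH) (Lpn (LP (LK LD1_c27 LD2_c55 LD3_c45))))
theorem f307654 : Led Lsl_dt (LP (LK LD1_c28 LD2_c28 LD3_c1)) = (LP (LK LD1_c19 LD2_c1 LD3_c15)) :=
  Lre_d IH (LK LD1_c28 LD2_c28 LD3_c1) (LK LD1_c19 LD2_c1 LD3_c15) Lrfl Lrfl
theorem f307593 : Led Lsl_dt (LP (LK LD1_c18 LD2_c15 LD3_c48)) = (LP (LK LD1_c27 LD2_c55 LD3_c45)) :=
  Lre_d IH (LK LD1_c18 LD2_c15 LD3_c48) (LK LD1_c27 LD2_c55 LD3_c45) Lrfl Lrfl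
theorem f307655 : Led Lsl_bt (LP (LK LD1_c19 LD2_c1 LD3_c15)) = (LP (LK LD1_c18 LD2_c15 LD3_c48)) :=
  Lgr Lrot95 (Lpe (f307654 IH) (Lpr_bf (f307650 IH) (Lpe (f307593 IH) (Lpn (LP (LK LD1_c18 LD2_c15 LD3_c48))))))
theorem f288978 : Led Lsl_et (LP (LK LD1_c10 LD2_c29 LD3_c44)) = (LP (LK LD1_c19 LD2_c1 LD3_c15)) :=
  Lre_e IH (LK LD1_c10 LD2_c29 LD3_c44) (LK LD1_c19 LD2_c1 LD3_c15) Lrfl Lrfl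
theorem f307592 : Led Lsl_et (LP (LK LD1_c18 LD2_c15 LD3_c48)) = (LP (LK LD1_c9 LD2_c59 LD3_c21)) :=
  Lre_e IH (LK LD1_c18 LD2_c15 LD3_c48) (LK LD1_c9 LD2_c59 LD3_c21) Lrfl Lrfl
theorem f307659 : Led Lsl_bf (LP (LK LD1_c10 LD2_c29 LD3_c44)) = (LP (LK LD1_c9 LD2_c59 LD3_c21)) :=
  Lgr Lrot96 (Lpr_et (f288978 IH) (Lpr_bt (f307655 IH) (Lpr_et (f307592 IH) (Lpn (LP (LK LD1_c9 LD2_c59 LD3_c21))))))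
theorem f307589 : Led Lsl_ct (LP (LK LD1_c9 LD2_c59 LD3_c21)) = (LP (LK LD1_c5 LD2_c4 LD3_c14)) :=
  Lre_c IH (LK LD1_c9 LD2_c59 LD3_c21) (LK LD1_c5 LD2_c4 LD3_c14) Lrfl Lrfl
theorem f350990 : Led Lsl_gf (LP (LK LD1_c5 LD2_c11 LD3_c11)) = (LP (LK LD1_c5 LD2_c4 LD3_c14)) :=
  Lgr Lrot126 (Lpe (f185505 IH) (Lpe (f230206 IH) (Lpr_gt (f350988 IH) (Lpr_ct (K18.f294755 IH) (Lpe (f350916 IH) (Lpe (f230226 IH) (Lpr_bt (f230225 IH) (Lpr_gt (f288952 IH) (Lpr_bf (f307659 IH) (Lpr_ct (f307589 IH) (Lpn (LP (LK LD1_c5 LD2_c4 LD3_c14)))))))))))))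
theorem f267977 : Led Lsl_at (LP (LK LD1_c5 LD2_c11 LD3_c12)) = (LP (LK LD1_c2 LD2_c32 LD3_c35)) :=
  Lre_a IH (LK LD1_c5 LD2_c11 LD3_c12) (LK LD1_c2 LD2_c32 LD3_c35) Lrfl Lrfl
theorem f350992 : Led Lsl_ff (LP (LK LD1_c5 LD2_c11 LD3_c12)) = (LP (LK LD1_c5 LD2_c4 LD3_c14)) :=
  Lgr Lrot52 (Lpr_at (f267977 IH) (Lpe (f185202 IH) (Lpr_gf (f350990 IH) (Lpn (LP (LK LD1_c5 LD2_c4 LD3_c14))))))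
theorem f351002 : Led Lsl_ft (LP (LK LD1_c5 LD2_c11 LD3_c12)) = (LP (LK LD1_c5 LD2_c4 LD3_c14)) :=
  Lgr Lrot48 (Lpr_ff (f350992 IH) (Lpn (LP (LK LD1_c5 LD2_c4 LD3_c14))))
theorem f307953 : Led Lsl_at (LP (LK LD1_c2 LD2_c32 LD3_c38)) = (LP (LK LD1_c5 LD2_c11 LD3_c21)) :=
  Lre_a IH (LK LD1_c2 LD2_c32 LD3_c38) (LK LD1_c5 LD2_c11 LD3_c21) Lrfl Lrfl
theorem f267983 : Led Lsl_at (LP (LK LD1_c5 LD2_c4 LD3_c3)) = (LP (LK LD1_c2 LD2_c29 LD3_c29)) :=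
  Lre_a IH (LK LD1_c5 LD2_c4 LD3_c3) (LK LD1_c2 LD2_c29 LD3_c29) Lrfl Lrfl
theorem f307954 : Led Lsl_ft (LP (LK LD1_c5 LD2_c11 LD3_c21)) = (LP (LK LD1_c5 LD2_c4 LD3_c3)) :=
  Lgr Lrot101 (Lpe (f307953 IH) (Lpr_ff (K19.f307949 IH) (Lpe (f267983 IH) (Lpn (LP (LK LD1_c5 LD2_c4 LD3_c3))))))
theorem f351005 : Led Lsl_bf (LP (LK LD1_c5 LD2_c11 LD3_c21)) = (LP (LK LD1_c5 LD2_c4 LD3_c14)) :=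
  Lgr Lrot61 (Lpr_ft (f307954 IH) (Lpr_bt (K15.f267972 IH) (Lpr_ft (f351002 IH) (Lpn (LP (LK LD1_c5 LD2_c4 LD3_c14))))))
theorem f351014 : Led Lsl_ct (LP (LK LD1_c5 LD2_c11 LD3_c21)) = (LP (LK LD1_c10 LD2_c13 LD3_c15)) :=
  Lre_c IH (LK LD1_c5 LD2_c11 LD3_c21) (LK LD1_c10 LD2_c13 LD3_c15) Lrfl Lrfl
theorem f247456 : Led Lsl_bt (LP (LK LD1_c8 LD2_c52 LD3_c32)) = (LP (LK LD1_c4 LD2_c27 LD3_c24)) :=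
  Lre_b IH (LK LD1_c8 LD2_c52 LD3_c32) (LK LD1_c4 LD2_c27 LD3_c24) Lrfl Lrfl
theorem f248403 : Led Lsl_at (LP (LK LD1_c16 LD2_c35 LD3_c35)) = (LP (LK LD1_c8 LD2_c52 LD3_c32)) :=
  Lre_a IH (LK LD1_c16 LD2_c35 LD3_c35) (LK LD1_c8 LD2_c52 LD3_c32) Lrfl Lrfl
theorem f163743 : Led Lsl_bt (LP (LK LD1_c2 LD2_c32 LD3_c38)) = (LP (LK LD1_c1 LD2_c13 LD3_c16)) :=
  Lre_b IH (LK LD1_c2 LD2_c32 LD3_c38) (LK LD1_c1 LD2_c13 LD3_c16) Lrfl Lrfl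
theorem f186600 : Led Lsl_bt (LP (LK LD1_c2 LD2_c35 LD3_c55)) = (LP (LK LD1_c5 LD2_c11 LD3_c22)) :=
  Lgr Lrot128 (Lpe (K9.f32913 IH) (Lpe (K10.f178532 IH) (Lpr_cf (K10.f186576 IH) (Lpe (f163743 IH) (Lpe (K19.f163744 IH) (Lpn (LP (LK LD1_c5 LD2_c11 LD3_c22))))))))
theorem f248404 : Led Lsl_at (LP (LK LD1_c5 LD2_c11 LD3_c22)) = (LP (LK LD1_c10 LD2_c13 LD3_c15)) :=
  Lre_a IH (LK LD1_c5 LD2_c11 LD3_c22) (LK LD1_c10 LD2_c13 LD3_c15) Lrfl Lrfl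
theorem f248405 : Led Lsl_bf (LP (LK LD1_c16 LD2_c35 LD3_c35)) = (LP (LK LD1_c10 LD2_c13 LD3_c15)) :=
  Lgr Lrot81 (Lpr_at (f248403 IH) (Lpr_bt (f247456 IH) (Lpr_at (K14.f248378 IH) (Lpr_bt (f186600 IH) (Lpr_at (f248404 IH) (Lpn (LP (LK LD1_c10 LD2_c13 LD3_c15))))))))
theorem f307663 : Led Lsl_bt (LP (LK LD1_c10 LD2_c29 LD3_c44)) = (LP (LK LD1_c9 LD2_c59 LD3_c21)) :=
  Lgr Lrot127 (Lpr_bf (f307659 IH) (Lpn (LP (LK LD1_c9 LD2_c59 LD3_c21))))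
theorem f351015 : Led Lsl_ct (LP (LK LD1_c16 LD2_c35 LD3_c35)) = (LP (LK LD1_c10 LD2_c29 LD3_c44)) :=
  Lgr Lrot83 (Lpr_bf (f248405 IH) (Lpe (f351014 IH) (Lpr_bf (f351005 IH) (Lpe (f307589 IH) (Lpe (f307663 IH) (Lpn (LP (LK LD1_c10 LD2_c29 LD3_c44))))))))
theorem f230639 : Led Lsl_at (LP (LK LD1_c10 LD2_c28 LD3_c29)) = (LP (LK LD1_c5 LD2_c19 LD3_c21)) :=
  Lre_a IH (LK LD1_c10 LD2_c28 LD3_c29) (LK LD1_c5 LD2_c19 LD3_c21) Lrfl Lrfl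
theorem f288948 : Led Lsl_ff (LP (LK LD1_c10 LD2_c28 LD3_c29)) = (LP (LK LD1_c10 LD2_c29 LD3_c44)) :=
  Lgr Lrot30 (Lpr_at (f230639 IH) (Lpr_ft (f288941 IH) (Lpr_at (f288947 IH) (Lpn (LP (LK LD1_c10 LD2_c29 LD3_c44))))))
theorem f351055 : Led Lsl_ff (LP (LK LD1_c16 LD2_c35 LD3_c35)) = (LP (LK LD1_c16 LD2_c34 LD3_c58)) :=
  Lgr Lrot23 (Lpr_ct (f351015 IH) (Lpe (f288948 IH) (Lpe (K15.f230632 IH) (Lpn (LP (LK LD1_c16 LD2_c34 LD3_c58))))))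
theorem f249110 : Led Lsl_gt (LP (LK LD1_c16 LD2_c35 LD3_c34)) = (LP (LK LD1_c8 LD2_c52 LD3_c32)) :=
  Lre_g IH (LK LD1_c16 LD2_c35 LD3_c34) (LK LD1_c8 LD2_c52 LD3_c32) Lrfl Lrfl
theorem f351059 : Led Lsl_gf (LP (LK LD1_c16 LD2_c35 LD3_c34)) = (LP (LK LD1_c16 LD2_c34 LD3_c58)) :=
  Lgr Lrot47 (Lpr_gt (f249110 IH) (Lpe (f248403 IH) (Lpr_ff (f351055 IH) (Lpn (LP (LK LD1_c16 LD2_c34 LD3_c58))))))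
theorem f258960 : Led Lsl_gt (LP (LK LD1_c5 LD2_c19 LD3_c28)) = (LP (LK LD1_c10 LD2_c28 LD3_c44)) :=
  Lre_g IH (LK LD1_c5 LD2_c19 LD3_c28) (LK LD1_c10 LD2_c28 LD3_c44) Lrfl Lrfl
theorem f258962 : Led Lsl_bt (LP (LK LD1_c18 LD2_c59 LD3_c31)) = (LP (LK LD1_c10 LD2_c28 LD3_c44)) :=
  Lre_b IH (LK LD1_c18 LD2_c59 LD3_c31) (LK LD1_c10 LD2_c28 LD3_c44) Lrfl Lrfl
theorem f249109 : Led Lsl_bt (LP (LK LD1_c5 LD2_c19 LD3_c56)) = (LP (LK LD1_c2 LD2_c36 LD3_c39)) :=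
  Lre_b IH (LK LD1_c5 LD2_c19 LD3_c56) (LK LD1_c2 LD2_c36 LD3_c39) Lrfl Lrfl
theorem f46337 : Led Lsl_bt (LP (LK LD1_c2 LD2_c36 LD3_c39)) = (LP (LK LD1_c5 LD2_c19 LD3_c56)) :=
  Lre_b IH (LK LD1_c2 LD2_c36 LD3_c39) (LK LD1_c5 LD2_c19 LD3_c56) Lrfl Lrfl
theorem f248293 : Led Lsl_ct (LP (LK LD1_c5 LD2_c19 LD3_c56)) = (LP (LK LD1_c8 LD2_c52 LD3_c32)) :=
  Lgr Lrot83 (Lpe (f46337 IH) (Lpe (K14.f46332 IH) (Lpr_bf (K14.f248289 IH) (Lpe (K15.f47404 IH) (Lpe (f247456 IH) (Lpn (LP (LK LD1_c8 LD2_c52 LD3_c32))))))))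
theorem f258963 : Led Lsl_ct (LP (LK LD1_c18 LD2_c59 LD3_c31)) = (LP (LK LD1_c16 LD2_c35 LD3_c34)) :=
  Lgr Lrot64 (Lpr_bt (f258962 IH) (Lpe (f258960 IH) (Lpe (K18.f258959 IH) (Lpr_ct (K15.f258943 IH) (Lpe (K15.f192965 IH) (Lpe (K9.f31474 IH) (Lpe (K14.f249098 IH) (Lpe (f249109 IH) (Lpr_ct (f248293 IH) (Lpe (f249110 IH) (Lpn (LP (LK LD1_c16 LD2_c35 LD3_c34)))))))))))))
theorem f351165 : Led Lsl_gt (LP (LK LD1_c10 LD2_c28 LD3_c44)) = (LP (LK LD1_c10 LD2_c30 LD3_c2)) :=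
  Lgr Lrot82 (Lpe (f258962 IH) (Lpr_ct (f258963 IH) (Lpr_gf (f351059 IH) (Lpr_cf (K15.f230632 IH) (Lpr_bt (K15.f267986 IH) (Lpr_gf (f307602 IH) (Lpe (f166002 IH) (Lpe (f259057 IH) (Lpr_gf (f351161 IH) (Lpe (f321810 IH) (Lpn (LP (LK LD1_c10 LD2_c30 LD3_c2)))))))))))))
theorem f46338 : Led Lsl_gt (LP (LK LD1_c5 LD2_c19 LD3_c56)) = (LP (LK LD1_c10 LD2_c29 LD3_c42)) :=
  Lre_g IH (LK LD1_c5 LD2_c19 LD3_c56) (LK LD1_c10 LD2_c29 LD3_c42) Lrfl Lrfl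
theorem f288943 : Led Lsl_gf (LP (LK LD1_c10 LD2_c28 LD3_c29)) = (LP (LK LD1_c10 LD2_c29 LD3_c42)) :=
  Lgr Lrot76 (Lpe (K15.f230631 IH) (Lpr_ff (f288934 IH) (Lpr_gt (f46338 IH) (Lpn (LP (LK LD1_c10 LD2_c29 LD3_c42))))))
theorem f350922 : Led Lsl_gt (LP (LK LD1_c18 LD2_c44 LD3_c60)) = (LP (LK LD1_c10 LD2_c21 LD3_c23)) :=
  Lgr Lrot5 (Lpr_ft (f350914 IH) (Lpr_at (K18.f294754 IH) (Lpe (f252517 IH) (Lpn (LP (LK LD1_c10 LD2_c21 LD3_c23))))))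
theorem f351168 : Led Lsl_bf (LP (LK LD1_c10 LD2_c29 LD3_c42)) = (LP (LK LD1_c18 LD2_c47 LD3_c42)) :=
  Lgr Lrot165 (Lpe (f288943 IH) (Lpe (K15.f230632 IH) (Lpe (f351059 IH) (Lpe (f258963 IH) (Lpr_bt (f258962 IH) (Lpr_gt (f351165 IH) (Lpe (f351141 IH) (Lpr_ct (f230152 IH) (Lpr_gt (f350922 IH) (Lpe (f294761 IH) (Lpn (LP (LK LD1_c18 LD2_c47 LD3_c42)))))))))))))
theorem f351170 : Led Lsl_bt (LP (LK LD1_c10 LD2_c29 LD3_c42)) = (LP (LK LD1_c18 LD2_c47 LD3_c42)) :=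
  Lgr Lrot127 (Lpr_bf (f351168 IH) (Lpn (LP (LK LD1_c18 LD2_c47 LD3_c42))))
theorem f46339 : Led Lsl_ct (LP (LK LD1_c10 LD2_c29 LD3_c42)) = (LP (LK LD1_c19 LD2_c1 LD3_c12)) :=
  Lre_c IH (LK LD1_c10 LD2_c29 LD3_c42) (LK LD1_c19 LD2_c1 LD3_c12) Lrfl Lrfl
theorem f212425 : Led Lsl_bt (LP (LK LD1_c10 LD2_c29 LD3_c4)) = (LP (LK LD1_c5 LD2_c19 LD3_c38)) :=
  Lre_b IH (LK LD1_c10 LD2_c29 LD3_c4) (LK LD1_c5 LD2_c19 LD3_c38) Lrfl Lrfl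
theorem f212344 : Led Lsl_ct (LP (LK LD1_c10 LD2_c29 LD3_c4)) = (LP (LK LD1_c19 LD2_c0 LD3_c21)) :=
  Lre_c IH (LK LD1_c10 LD2_c29 LD3_c4) (LK LD1_c19 LD2_c0 LD3_c21) Lrfl Lrfl
theorem f544780 : Led Lsl_gt (LP (LK LD1_c19 LD2_c1 LD3_c12)) = (LP (LK LD1_c19 LD2_c0 LD3_c21)) :=
  Lgr Lrot65 (Lpe (f46339 IH) (Lpr_bt (f351170 IH) (Lpr_gf (f544776 IH) (Lpe (K18.f248181 IH) (Lpr_ct (K14.f248106 IH) (Lpe (K14.f248276 IH) (Lpe (K14.f46377 IH) (Lpe (K15.f44131 IH) (Lpe (f212425 IH) (Lpr_ct (f212344 IH) (Lpn (LP (LK LD1_c19 LD2_c0 LD3_c21)))))))))))))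
theorem f257487 : Led Lsl_dt (LP (LK LD1_c5 LD2_c19 LD3_c56)) = (LP (LK LD1_c10 LD2_c29 LD3_c45)) :=
  Lre_d IH (LK LD1_c5 LD2_c19 LD3_c56) (LK LD1_c10 LD2_c29 LD3_c45) Lrfl Lrfl
theorem f212426 : Led Lsl_ct (LP (LK LD1_c19 LD2_c0 LD3_c21)) = (LP (LK LD1_c10 LD2_c29 LD3_c4)) :=
  Lre_c IH (LK LD1_c19 LD2_c0 LD3_c21) (LK LD1_c10 LD2_c29 LD3_c4) Lrfl Lrfl
theorem f258035 : Led Lsl_df (LP (LK LD1_c10 LD2_c29 LD3_c4)) = (LP (LK LD1_c17 LD2_c46 LD3_c52)) :=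
  Lgr Lrot12 (Lpr_bt (f212425 IH) (Lpr_dt (K15.f258033 IH) (Lpr_bt (K17.f43421 IH) (Lpn (LP (LK LD1_c17 LD2_c46 LD3_c52))))))
theorem f192325 : Led Lsl_gt (LP (LK LD1_c25 LD2_c46 LD3_c50)) = (LP (LK LD1_c15 LD2_c50 LD3_c52)) :=
  Lre_g IH (LK LD1_c25 LD2_c46 LD3_c50) (LK LD1_c15 LD2_c50 LD3_c52) Lrfl Lrfl
theorem f192322 : Led Lsl_ct (LP (LK LD1_c17 LD2_c46 LD3_c52)) = (LP (LK LD1_c15 LD2_c50 LD3_c52)) :=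
  Lgr Lrot59 (Lpr_cf (K17.f192320 IH) (Lpn (LP (LK LD1_c15 LD2_c50 LD3_c52))))
theorem f28278 : Led Lsl_gt (LP (LK LD1_c5 LD2_c19 LD3_c15)) = (LP (LK LD1_c10 LD2_c28 LD3_c14)) :=
  Lre_g IH (LK LD1_c5 LD2_c19 LD3_c15) (LK LD1_c10 LD2_c28 LD3_c14) Lrfl Lrfl
theorem f264928 : Led Lsl_bt (LP (LK LD1_c18 LD2_c58 LD3_c31)) = (LP (LK LD1_c10 LD2_c28 LD3_c14)) :=
  Lre_b IH (LK LD1_c18 LD2_c58 LD3_c31) (LK LD1_c10 LD2_c28 LD3_c14) Lrfl Lrfl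
theorem f264929 : Led Lsl_cf (LP (LK LD1_c25 LD2_c46 LD3_c50)) = (LP (LK LD1_c18 LD2_c58 LD3_c31)) :=
  Lgr Lrot160 (Lpr_gt (f192325 IH) (Lpe (f192322 IH) (Lpr_bt (K17.f192319 IH) (Lpr_gt (K15.f264920 IH) (Lpr_ct (K15.f165314 IH) (Lpe (K20.f264918 IH) (Lpe (K15.f183988 IH) (Lpr_bt (K18.f28277 IH) (Lpr_gt (f28278 IH) (Lpe (f264928 IH) (Lpn (LP (LK LD1_c18 LD2_c58 LD3_c31)))))))))))))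
theorem f544783 : Led Lsl_gt (LP (LK LD1_c10 LD2_c29 LD3_c45)) = (LP (LK LD1_c18 LD2_c58 LD3_c31)) :=
  Lgr Lrot9 (Lpe (f257487 IH) (Lpr_gt (f46338 IH) (Lpr_ct (f46339 IH) (Lpr_gt (f544780 IH) (Lpr_ct (f212426 IH) (Lpr_df (f258035 IH) (Lpr_cf (K17.f192320 IH) (Lpe (f192325 IH) (Lpr_cf (f264929 IH) (Lpn (LP (LK LD1_c18 LD2_c58 LD3_c31))))))))))))
theorem f257445 : Led Lsl_bt (LP (LK LD1_c5 LD2_c19 LD3_c57)) = (LP (LK LD1_c10 LD2_c29 LD3_c45)) :=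
  Lre_b IH (LK LD1_c5 LD2_c19 LD3_c57) (LK LD1_c10 LD2_c29 LD3_c45) Lrfl Lrfl
theorem f165329 : Led Lsl_bt (LP (LK LD1_c9 LD2_c55 LD3_c4)) = (LP (LK LD1_c5 LD2_c2 LD3_c10)) :=
  Lre_b IH (LK LD1_c9 LD2_c55 LD3_c4) (LK LD1_c5 LD2_c2 LD3_c10) Lrfl Lrfl
theorem f165330 : Led Lsl_bt (LP (LK LD1_c5 LD2_c6 LD3_c4)) = (LP (LK LD1_c10 LD2_c3 LD3_c6)) :=
  Lre_b IH (LK LD1_c5 LD2_c6 LD3_c4) (LK LD1_c10 LD2_c3 LD3_c6) Lrfl Lrfl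
theorem f165331 : Led Lsl_cf (LP (LK LD1_c9 LD2_c55 LD3_c4)) = (LP (LK LD1_c10 LD2_c3 LD3_c6)) :=
  Lgr Lrot97 (Lpr_bt (f165329 IH) (Lpr_ct (K14.f165318 IH) (Lpr_bt (K11.f165299 IH) (Lpr_ct (K10.f165307 IH) (Lpr_bt (f165330 IH) (Lpn (LP (LK LD1_c10 LD2_c3 LD3_c6))))))))
theorem f544787 : Led Lsl_gf (LP (LK LD1_c5 LD2_c3 LD3_c19)) = (LP (LK LD1_c9 LD2_c55 LD3_c4)) :=
  Lgr Lrot126 (Lpe (K14.f248478 IH) (Lpr_bt (f257445 IH) (Lpr_gt (f544783 IH) (Lpe (f264929 IH) (Lpr_gt (f192325 IH) (Lpe (f192322 IH) (Lpr_bt (K17.f192319 IH) (Lpr_gt (K15.f264920 IH) (Lpe (K21.f165315 IH) (Lpe (f165331 IH) (Lpn (LP (LK LD1_c9 LD2_c55 LD3_c4)))))))))))))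
theorem f257481 : Led Lsl_ct (LP (LK LD1_c9 LD2_c57 LD3_c27)) = (LP (LK LD1_c18 LD2_c13 LD3_c15)) :=
  Lre_c IH (LK LD1_c9 LD2_c57 LD3_c27) (LK LD1_c18 LD2_c13 LD3_c15) Lrfl Lrfl
theorem f247979 : Led Lsl_bt (LP (LK LD1_c10 LD2_c10 LD3_c54)) = (LP (LK LD1_c5 LD2_c10 LD3_c5)) :=
  Lre_b IH (LK LD1_c10 LD2_c10 LD3_c54) (LK LD1_c5 LD2_c10 LD3_c5) Lrfl Lrfl
theorem f264945 : Led Lsl_bt (LP (LK LD1_c10 LD2_c20 LD3_c5)) = (LP (LK LD1_c5 LD2_c15 LD3_c23)) :=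
  Lre_b IH (LK LD1_c10 LD2_c20 LD3_c5) (LK LD1_c5 LD2_c15 LD3_c23) Lrfl Lrfl
theorem f247997 : Led Lsl_bf (LP (LK LD1_c2 LD2_c32 LD3_c7)) = (LP (LK LD1_c5 LD2_c8 LD3_c28)) :=
  Lgr Lrot24 (Lpr_bt (K14.f247995 IH) (Lpn (LP (LK LD1_c5 LD2_c8 LD3_c28))))
theorem f248047 : Led Lsl_bt (LP (LK LD1_c5 LD2_c10 LD3_c5)) = (LP (LK LD1_c10 LD2_c10 LD3_c54)) :=
  Lre_b IH (LK LD1_c5 LD2_c10 LD3_c5) (LK LD1_c10 LD2_c10 LD3_c54) Lrfl Lrfl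
theorem f264946 : Led Lsl_cf (LP (LK LD1_c10 LD2_c20 LD3_c5)) = (LP (LK LD1_c10 LD2_c10 LD3_c54)) :=
  Lgr Lrot97 (Lpr_bt (f264945 IH) (Lpr_ct (K15.f264940 IH) (Lpe (f247997 IH) (Lpr_ct (K14.f189552 IH) (Lpr_bt (f248047 IH) (Lpn (LP (LK LD1_c10 LD2_c10 LD3_c54))))))))
theorem f544803 : Led Lsl_gt (LP (LK LD1_c18 LD2_c13 LD3_c15)) = (LP (LK LD1_c10 LD2_c20 LD3_c5)) :=
  Lgr Lrot65 (Lpe (f257481 IH) (Lpr_bt (f257437 IH) (Lpr_gf (f544787 IH) (Lpe (K21.f165312 IH) (Lpr_ct (K14.f165318 IH) (Lpe (K11.f184750 IH) (Lpe (K14.f46356 IH) (Lpe (K14.f247976 IH) (Lpe (f247979 IH) (Lpe (f264946 IH) (Lpn (LP (LK LD1_c10 LD2_c20 LD3_c5)))))))))))))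
theorem f343452 : Led Lsl_ff (LP (LK LD1_c18 LD2_c13 LD3_c11)) = (LP (LK LD1_c18 LD2_c35 LD3_c19)) :=
  Lgr Lrot3 (Lpr_ft (f343440 IH) (Lpn (LP (LK LD1_c18 LD2_c35 LD3_c19))))
theorem f343454 : Led Lsl_at (LP (LK LD1_c10 LD2_c12 LD3_c24)) = (LP (LK LD1_c18 LD2_c35 LD3_c19)) :=
  Lre_a IH (LK LD1_c10 LD2_c12 LD3_c24) (LK LD1_c18 LD2_c35 LD3_c19) Lrfl Lrfl
theorem f343455 : Led Lsl_ft (LP (LK LD1_c9 LD2_c57 LD3_c27)) = (LP (LK LD1_c10 LD2_c12 LD3_c24)) :=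
  Lgr Lrot101 (Lpe (f307524 IH) (Lpr_ff (f343452 IH) (Lpe (f343454 IH) (Lpn (LP (LK LD1_c10 LD2_c12 LD3_c24))))))
theorem f247944 : Led Lsl_ct (LP (LK LD1_c18 LD2_c13 LD3_c15)) = (LP (LK LD1_c9 LD2_c57 LD3_c27)) :=
  Lre_c IH (LK LD1_c18 LD2_c13 LD3_c15) (LK LD1_c9 LD2_c57 LD3_c27) Lrfl Lrfl
theorem f248150 : Led Lsl_ct (LP (LK LD1_c10 LD2_c12 LD3_c24)) = (LP (LK LD1_c18 LD2_c35 LD3_c20)) :=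
  Lre_c IH (LK LD1_c10 LD2_c12 LD3_c24) (LK LD1_c18 LD2_c35 LD3_c20) Lrfl Lrfl
theorem f343461 : Led Lsl_ff (LP (LK LD1_c18 LD2_c13 LD3_c15)) = (LP (LK LD1_c18 LD2_c35 LD3_c20)) :=
  Lgr Lrot23 (Lpr_ct (f247944 IH) (Lpr_ft (f343455 IH) (Lpr_ct (f248150 IH) (Lpn (LP (LK LD1_c18 LD2_c35 LD3_c20))))))
theorem f343497 : Led Lsl_ft (LP (LK LD1_c18 LD2_c13 LD3_c15)) = (LP (LK LD1_c18 LD2_c35 LD3_c20)) :=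
  Lgr Lrot48 (Lpr_ff (f343461 IH) (Lpn (LP (LK LD1_c18 LD2_c35 LD3_c20))))
theorem f264950 : Led Lsl_gt (LP (LK LD1_c10 LD2_c20 LD3_c5)) = (LP (LK LD1_c18 LD2_c45 LD3_c36)) :=
  Lre_g IH (LK LD1_c10 LD2_c20 LD3_c5) (LK LD1_c18 LD2_c45 LD3_c36) Lrfl Lrfl
theorem f544807 : Led Lsl_at (LP (LK LD1_c18 LD2_c35 LD3_c20)) = (LP (LK LD1_c18 LD2_c45 LD3_c36)) :=
  Lgr Lrot26 (Lpe (f343497 IH) (Lpr_gt (f544803 IH) (Lpr_gt (f264950 IH) (Lpn (LP (LK LD1_c18 LD2_c45 LD3_c36))))))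
theorem f343446 : Led Lsl_at (LP (LK LD1_c18 LD2_c35 LD3_c19)) = (LP (LK LD1_c10 LD2_c12 LD3_c24)) :=
  Lre_a IH (LK LD1_c18 LD2_c35 LD3_c19) (LK LD1_c10 LD2_c12 LD3_c24) Lrfl Lrfl
theorem f544822 : Led Lsl_cf (LP (LK LD1_c18 LD2_c35 LD3_c19)) = (LP (LK LD1_c18 LD2_c45 LD3_c36)) :=
  Lgr Lrot1 (Lpr_at (f343446 IH) (Lpr_ct (f248150 IH) (Lpr_at (f544807 IH) (Lpn (LP (LK LD1_c18 LD2_c45 LD3_c36))))))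
theorem f544824 : Led Lsl_ct (LP (LK LD1_c18 LD2_c35 LD3_c19)) = (LP (LK LD1_c18 LD2_c45 LD3_c36)) :=
  Lgr Lrot59 (Lpr_cf (f544822 IH) (Lpn (LP (LK LD1_c18 LD2_c45 LD3_c36))))
theorem f189534 : Led Lsl_bt (LP (LK LD1_c10 LD2_c27 LD3_c51)) = (LP (LK LD1_c5 LD2_c18 LD3_c61)) :=
  Lre_b IH (LK LD1_c10 LD2_c27 LD3_c51) (LK LD1_c5 LD2_c18 LD3_c61) Lrfl Lrfl
theorem f32919 : Led Lsl_bt (LP (LK LD1_c5 LD2_c17 LD3_c1)) = (LP (LK LD1_c10 LD2_c23 LD3_c40)) :=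
  Lre_b IH (LK LD1_c5 LD2_c17 LD3_c1) (LK LD1_c10 LD2_c23 LD3_c40) Lrfl Lrfl
theorem f254577 : Led Lsl_bt (LP (LK LD1_c16 LD2_c0 LD3_c43)) = (LP (LK LD1_c8 LD2_c31 LD3_c49)) :=
  Lre_b IH (LK LD1_c16 LD2_c0 LD3_c43) (LK LD1_c8 LD2_c31 LD3_c49) Lrfl Lrfl
theorem f254578 : Led Lsl_et (LP (LK LD1_c10 LD2_c23 LD3_c40)) = (LP (LK LD1_c16 LD2_c0 LD3_c43)) :=
  Lgr Lrot74 (Lpe (f32919 IH) (Lpr_ef (K16.f254571 IH) (Lpe (f254577 IH) (Lpn (LP (LK LD1_c16 LD2_c0 LD3_c43))))))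
theorem f254558 : Led Lsl_bt (LP (LK LD1_c18 LD2_c58 LD3_c11)) = (LP (LK LD1_c10 LD2_c27 LD3_c52)) :=
  Lre_b IH (LK LD1_c18 LD2_c58 LD3_c11) (LK LD1_c10 LD2_c27 LD3_c52) Lrfl Lrfl
theorem f630 : Led Lsl_bt (LP (LK LD1_c8 LD2_c31 LD3_c49)) = (LP (LK LD1_c16 LD2_c0 LD3_c43)) :=
  Lre_b IH (LK LD1_c8 LD2_c31 LD3_c49) (LK LD1_c16 LD2_c0 LD3_c43) Lrfl Lrfl
theorem f254559 : Led Lsl_cf (LP (LK LD1_c18 LD2_c58 LD3_c11)) = (LP (LK LD1_c16 LD2_c0 LD3_c43)) :=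
  Lgr Lrot97 (Lpr_bt (f254558 IH) (Lpr_ct (K16.f45763 IH) (Lpr_bt (K16.f254555 IH) (Lpr_ct (K26.f624 IH) (Lpr_bt (f630 IH) (Lpn (LP (LK LD1_c16 LD2_c0 LD3_c43))))))))
theorem f248231 : Led Lsl_et (LP (LK LD1_c18 LD2_c58 LD3_c11)) = (LP (LK LD1_c10 LD2_c27 LD3_c51)) :=
  Lre_e IH (LK LD1_c18 LD2_c58 LD3_c11) (LK LD1_c10 LD2_c27 LD3_c51) Lrfl Lrfl
theorem f254585 : Led Lsl_cf (LP (LK LD1_c10 LD2_c23 LD3_c40)) = (LP (LK LD1_c10 LD2_c27 LD3_c51)) :=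
  Lgr Lrot39 (Lpr_et (f254578 IH) (Lpe (f254559 IH) (Lpr_et (f248231 IH) (Lpn (LP (LK LD1_c10 LD2_c27 LD3_c51))))))
theorem f183699 : Led Lsl_gt (LP (LK LD1_c18 LD2_c51 LD3_c32)) = (LP (LK LD1_c10 LD2_c23 LD3_c40)) :=
  Lre_g IH (LK LD1_c18 LD2_c51 LD3_c32) (LK LD1_c10 LD2_c23 LD3_c40) Lrfl Lrfl
theorem f186737 : Led Lsl_gt (LP (LK LD1_c5 LD2_c10 LD3_c9)) = (LP (LK LD1_c10 LD2_c11 LD3_c0)) :=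
  Lre_g IH (LK LD1_c5 LD2_c10 LD3_c9) (LK LD1_c10 LD2_c11 LD3_c0) Lrfl Lrfl
theorem f248241 : Led Lsl_bt (LP (LK LD1_c18 LD2_c33 LD3_c1)) = (LP (LK LD1_c10 LD2_c11 LD3_c0)) :=
  Lre_b IH (LK LD1_c18 LD2_c33 LD3_c1) (LK LD1_c10 LD2_c11 LD3_c0) Lrfl Lrfl
theorem f254597 : Led Lsl_cf (LP (LK LD1_c18 LD2_c51 LD3_c32)) = (LP (LK LD1_c18 LD2_c33 LD3_c1)) :=
  Lgr Lrot160 (Lpr_gt (f183699 IH) (Lpr_cf (f254585 IH) (Lpr_bt (f189534 IH) (Lpr_gt (K14.f248176 IH) (Lpr_ct (K14.f189553 IH) (Lpr_gt (K14.f189551 IH) (Lpe (K13.f189583 IH) (Lpr_bt (K18.f189718 IH) (Lpr_gt (f186737 IH) (Lpe (f248241 IH) (Lpn (LP (LK LD1_c18 LD2_c33 LD3_c1)))))))))))))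
theorem f544832 : Led Lsl_gt (LP (LK LD1_c27 LD2_c34 LD3_c6)) = (LP (LK LD1_c18 LD2_c33 LD3_c1)) :=
  Lgr Lrot82 (Lpr_bf (f343449 IH) (Lpr_ct (f544824 IH) (Lpe (f264950 IH) (Lpr_cf (f264946 IH) (Lpr_bt (f247979 IH) (Lpe (K14.f248176 IH) (Lpe (f189534 IH) (Lpe (f254585 IH) (Lpe (f183699 IH) (Lpr_cf (f254597 IH) (Lpn (LP (LK LD1_c18 LD2_c33 LD3_c1)))))))))))))
theorem f343511 : Led Lsl_ft (LP (LK LD1_c17 LD2_c47 LD3_c11)) = (LP (LK LD1_c17 LD2_c46 LD3_c1)) :=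
  Lgr Lrot48 (Lpr_ff (f343507 IH) (Lpn (LP (LK LD1_c17 LD2_c46 LD3_c1))))
theorem f43800 : Led Lsl_gt (LP (LK LD1_c17 LD2_c46 LD3_c0)) = (LP (LK LD1_c9 LD2_c39 LD3_c39)) :=
  Lre_g IH (LK LD1_c17 LD2_c46 LD3_c0) (LK LD1_c9 LD2_c39 LD3_c39) Lrfl Lrfl
theorem f343533 : Led Lsl_gt (LP (LK LD1_c17 LD2_c47 LD3_c11)) = (LP (LK LD1_c17 LD2_c46 LD3_c0)) :=
  Lgr Lrot5 (Lpr_ft (f343511 IH) (Lpr_at (f248967 IH) (Lpe (f43800 IH) (Lpn (LP (LK LD1_c17 LD2_c46 LD3_c0))))))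

end

end K37

end

end Cfsg.Agent.Helper28.S1692
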