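import Cfsg.Agent.Lib.Helper28.S1692.Seeds37

set_option autoImplicit false
set_option maxRecDepth 100000
set_option linter.all false

namespace Cfsg.Agent.Helper28.S1692

open Cfsg.Agent.Helper28
open Cfsg.Spor.ON (Gen)

noncomputable section

namespace K38
abbrev LD1_c0 := D1.c0
abbrev LD1_c1 := D1.c1
abbrev LD1_c2 := D1.c2
abbrev LD1_c3 := D1.c3
abbrev LD1_c4 := D1.c4
abbrev LD1_c5 := D1.c5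
abbrev LD1_c6 := D1.c6
abbrev LD1_c7 := D1.c7
abbrev LD1_c8 := D1.c8
abbrev LD1_c9 := D1.c9
abbrev LD1_c10 := D1.c10
abbrev LD1_c11 := D1.c11
abbrev LD1_c12 := D1.c12
abbrev LD1_c13 := D1.c13
abbrev LD1_c14 := D1.c14
abbrev LD1_c15 := D1.c15
abbrev LD1_c16 := D1.c16
abbrev LD1_c17 := D1.c17
abbrev LD1_c18 := D1.c18
abbrev LD1_c19 := D1.c19
abbrev LD1_c20 := D1.c20
abbrev LD1_c21 := D1.c21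
abbrev LD1_c22 := D1.c22
abbrev LD1_c23 := D1.c23
abbrev LD1_c24 := D1.c24
abbrev LD1_c25 := D1.c25
abbrev LD1_c26 := D1.c26
abbrev LD1_c27 := D1.c27
abbrev LD1_c28 := D1.c28
abbrev LD1_c29 := D1.c29
abbrev LD1_c30 := D1.c30
abbrev LD1_c31 := D1.c31
abbrev LD1_c32 := D1.c32
abbrev LD2_c0 := D2.c0
abbrev LD2_c1 := D2.c1
abbrev LD2_c2 := D2.c2
abbrev LD2_c3 := D2.c3
abbrev LD2_c4 := D2.c4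
abbrev LD2_c5 := D2.c5
abbrev LD2_c6 := D2.c6
abbrev LD2_c7 := D2.c7
abbrev LD2_c8 := D2.c8
abbrev LD2_c9 := D2.c9
abbrev LD2_c10 := D2.c10
abbrev LD2_c11 := D2.c11
abbrev LD2_c12 := D2.c12
abbrev LD2_c13 := D2.c13
abbrev LD2_c14 := D2.c14
abbrev LD2_c15 := D2.c15
abbrev LD2_c16 := D2.c16
abbrev LD2_c17 := D2.c17
abbrev LD2_c18 := D2.c18
abbrev LD2_c19 := D2.c19
abbrev LD2_c20 := D2.c20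
abbrev LD2_c21 := D2.c21
abbrev LD2_c22 := D2.c22
abbrev LD2_c23 := D2.c23
abbrev LD2_c24 := D2.c24
abbrev LD2_c25 := D2.c25
abbrev LD2_c26 := D2.c26
abbrev LD2_c27 := D2.c27
abbrev LD2_c28 := D2.c28
abbrev LD2_c29 := D2.c29
abbrev LD2_c30 := D2.c30
abbrev LD2_c31 := D2.c31
abbrev LD2_c32 := D2.c32
abbrev LD2_c33 := D2.c33
abbrev LD2_c34 := D2.c34
abbrev LD2_c35 := D2.c35
abbrev LD2_c36 := D2.c36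
abbrev LD2_c37 := D2.c37
abbrev LD2_c38 := D2.c38
abbrev LD2_c39 := D2.c39
abbrev LD2_c40 := D2.c40
abbrev LD2_c41 := D2.c41
abbrev LD2_c42 := D2.c42
abbrev LD2_c43 := D2.c43
abbrev LD2_c44 := D2.c44
abbrev LD2_c45 := D2.c45
abbrev LD2_c46 := D2.c46
abbrev LD2_c47 := D2.c47
abbrev LD2_c48 := D2.c48
abbrev LD2_c49 := D2.c49
abbrev LD2_c50 := D2.c50
abbrev LD2_c51 := D2.c51
abbrev LD2_c52 := D2.c52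
abbrev LD2_c53 := D2.c53
abbrev LD2_c54 := D2.c54
abbrev LD2_c55 := D2.c55
abbrev LD2_c56 := D2.c56
abbrev LD2_c57 := D2.c57
abbrev LD2_c58 := D2.c58
abbrev LD2_c59 := D2.c59
abbrev LD3_c0 := D3.c0
abbrev LD3_c1 := D3.c1
abbrev LD3_c2 := D3.c2
abbrev LD3_c3 := D3.c3
abbrev LD3_c4 := D3.c4
abbrev LD3_c5 := D3.c5
abbrev LD3_c6 := D3.c6
abbrev LD3_c7 := D3.c7
abbrev LD3_c8 := D3.c8
abbrev LD3_c9 := D3.c9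
abbrev LD3_c10 := D3.c10
abbrev LD3_c11 := D3.c11
abbrev LD3_c12 := D3.c12
abbrev LD3_c13 := D3.c13
abbrev LD3_c14 := D3.c14
abbrev LD3_c15 := D3.c15
abbrev LD3_c16 := D3.c16
abbrev LD3_c17 := D3.c17
abbrev LD3_c18 := D3.c18
abbrev LD3_c19 := D3.c19
abbrev LD3_c20 := D3.c20
abbrev LD3_c21 := D3.c21
abbrev LD3_c22 := D3.c22
abbrev LD3_c23 := D3.c23
abbrev LD3_c24 := D3.c24
abbrev LD3_c25 := D3.c25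
abbrev LD3_c26 := D3.c26
abbrev LD3_c27 := D3.c27
abbrev LD3_c28 := D3.c28
abbrev LD3_c29 := D3.c29
abbrev LD3_c30 := D3.c30
abbrev LD3_c31 := D3.c31
abbrev LD3_c32 := D3.c32
abbrev LD3_c33 := D3.c33
abbrev LD3_c34 := D3.c34
abbrev LD3_c35 := D3.c35
abbrev LD3_c36 := D3.c36
abbrev LD3_c37 := D3.c37
abbrev LD3_c38 := D3.c38
abbrev LD3_c39 := D3.c39
abbrev LD3_c40 := D3.c40
abbrev LD3_c41 := D3.c41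
abbrev LD3_c42 := D3.c42
abbrev LD3_c43 := D3.c43
abbrev LD3_c44 := D3.c44
abbrev LD3_c45 := D3.c45
abbrev LD3_c46 := D3.c46
abbrev LD3_c47 := D3.c47
abbrev LD3_c48 := D3.c48
abbrev LD3_c49 := D3.c49
abbrev LD3_c50 := D3.c50
abbrev LD3_c51 := D3.c51
abbrev LD3_c52 := D3.c52
abbrev LD3_c53 := D3.c53
abbrev LD3_c54 := D3.c54
abbrev LD3_c55 := D3.c55
abbrev LD3_c56 := D3.c56
abbrev LD3_c57 := D3.c57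
abbrev LD3_c58 := D3.c58
abbrev LD3_c59 := D3.c59
abbrev LD3_c60 := D3.c60
abbrev LD3_c61 := D3.c61
abbrev LG_g := Gen.g
abbrev Lsl_gt : Gen × Bool := sl_gt
alias Lfl_gt := fl_gt
alias Lpr_gt := pr_gt
abbrev Lsl_gf : Gen × Bool := sl_gf
alias Lfl_gf := fl_gf
alias Lpr_gf := pr_gf
alias Lre_g := re_g
alias Leoe_g := eoe_g
abbrev LG_a := Gen.a
abbrev Lsl_at : Gen × Bool := sl_at
alias Lfl_at := fl_at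
alias Lpr_at := pr_at
abbrev Lsl_af : Gen × Bool := sl_af
alias Lfl_af := fl_af
alias Lpr_af := pr_af
alias Lre_a := re_a
alias Leoe_a := eoe_a
abbrev LG_b := Gen.b
abbrev Lsl_bt : Gen × Bool := sl_bt
alias Lfl_bt := fl_bt
alias Lpr_bt := pr_bt
abbrev Lsl_bf : Gen × Bool := sl_bf
alias Lfl_bf := fl_bf
alias Lpr_bf := pr_bf
alias Lre_b := re_b
alias Leoe_b := eoe_b
abbrev LG_c := Gen.c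
abbrev Lsl_ct : Gen × Bool := sl_ct
alias Lfl_ct := fl_ct
alias Lpr_ct := pr_ct
abbrev Lsl_cf : Gen × Bool := sl_cf
alias Lfl_cf := fl_cf
alias Lpr_cf := pr_cf
alias Lre_c := re_c
alias Leoe_c := eoe_c
abbrev LG_d := Gen.d
abbrev Lsl_dt : Gen × Bool := sl_dt
alias Lfl_dt := fl_dt
alias Lpr_dt := pr_dt
abbrev Lsl_df : Gen × Bool := sl_df
alias Lfl_df := fl_df
alias Lpr_df := pr_df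
alias Lre_d := re_d
alias Leoe_d := eoe_d
abbrev LG_e := Gen.e
abbrev Lsl_et : Gen × Bool := sl_et
alias Lfl_et := fl_et
alias Lpr_et := pr_et
abbrev Lsl_ef : Gen × Bool := sl_ef
alias Lfl_ef := fl_ef
alias Lpr_ef := pr_ef
alias Lre_e := re_e
alias Leoe_e := eoe_e
abbrev LG_f := Gen.f
abbrev Lsl_ft : Gen × Bool := sl_ft
alias Lfl_ft := fl_ft
alias Lpr_ft := pr_ft
abbrev Lsl_ff : Gen × Bool := sl_ff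
alias Lfl_ff := fl_ff
alias Lpr_ff := pr_ff
alias Lre_f := re_f
alias Leoe_f := eoe_f
abbrev LK := Pt.mk
abbrev LQ : Type := Qt rels S
abbrev LP (p : Pt) : LQ := P p
abbrev Led (l : Gen × Bool) (c : LQ) : LQ := ed l c
abbrev LEOK (x : Gen) (p : Pt) : Prop := EntryOK rels S fwd inv o plet idx x p
alias Lpe := pe
alias Lpn := pn
alias Lgr := gr
alias Lpq := pq
alias Lpqs := pqs
alias Llr := lr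
alias Leop := eop
alias Lefun := efun
alias Lecon := econ
theorem Lrfl {α : Sort _} {a : α} : a = a := rfl
alias Lrot0 := rot0
alias Lrot1 := rot1
alias Lrot2 := rot2
alias Lrot3 := rot3
alias Lrot4 := rot4
alias Lrot5 := rot5
alias Lrot6 := rot6
alias Lrot7 := rot7
alias Lrot8 := rot8
alias Lrot9 := rot9
alias Lrot10 := rot10
alias Lrot11 := rot11
alias Lrot12 := rot12
alias Lrot13 := rot13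
alias Lrot14 := rot14
alias Lrot15 := rot15
alias Lrot17 := rot17
alias Lrot18 := rot18
alias Lrot19 := rot19
alias Lrot20 := rot20
alias Lrot21 := rot21
alias Lrot23 := rot23
alias Lrot24 := rot24
alias Lrot25 := rot25
alias Lrot26 := rot26
alias Lrot27 := rot27
alias Lrot28 := rot28
alias Lrot29 := rot29
alias Lrot30 := rot30
alias Lrot31 := rot31
alias Lrot32 := rot32
alias Lrot33 := rot33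
alias Lrot34 := rot34
alias Lrot35 := rot35
alias Lrot36 := rot36
alias Lrot37 := rot37
alias Lrot38 := rot38
alias Lrot39 := rot39
alias Lrot40 := rot40
alias Lrot42 := rot42
alias Lrot43 := rot43
alias Lrot44 := rot44
alias Lrot45 := rot45
alias Lrot46 := rot46
alias Lrot47 := rot47
alias Lrot48 := rot48
alias Lrot49 := rot49
alias Lrot50 := rot50
alias Lrot51 := rot51
alias Lrot52 := rot52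
alias Lrot53 := rot53
alias Lrot54 := rot54
alias Lrot55 := rot55
alias Lrot56 := rot56
alias Lrot57 := rot57
alias Lrot58 := rot58
alias Lrot59 := rot59
alias Lrot60 := rot60
alias Lrot61 := rot61
alias Lrot62 := rot62
alias Lrot63 := rot63
alias Lrot64 := rot64
alias Lrot65 := rot65
alias Lrot66 := rot66
alias Lrot67 := rot67
alias Lrot68 := rot68
alias Lrot69 := rot69
alias Lrot70 := rot70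
alias Lrot71 := rot71
alias Lrot72 := rot72
alias Lrot73 := rot73
alias Lrot74 := rot74
alias Lrot75 := rot75
alias Lrot76 := rot76
alias Lrot77 := rot77
alias Lrot78 := rot78
alias Lrot79 := rot79
alias Lrot80 := rot80
alias Lrot81 := rot81
alias Lrot82 := rot82
alias Lrot83 := rot83
alias Lrot84 := rot84
alias Lrot85 := rot85
alias Lrot86 := rot86
alias Lrot87 := rot87
alias Lrot88 := rot88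
alias Lrot89 := rot89
alias Lrot90 := rot90
alias Lrot91 := rot91
alias Lrot92 := rot92
alias Lrot93 := rot93
alias Lrot94 := rot94
alias Lrot95 := rot95
alias Lrot96 := rot96
alias Lrot97 := rot97
alias Lrot98 := rot98
alias Lrot99 := rot99
alias Lrot100 := rot100
alias Lrot101 := rot101
alias Lrot102 := rot102
alias Lrot103 := rot103
alias Lrot104 := rot104
alias Lrot105 := rot105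
alias Lrot106 := rot106
alias Lrot107 := rot107
alias Lrot108 := rot108
alias Lrot109 := rot109
alias Lrot110 := rot110
alias Lrot111 := rot111
alias Lrot112 := rot112
alias Lrot113 := rot113
alias Lrot114 := rot114
alias Lrot115 := rot115
alias Lrot116 := rot116
alias Lrot117 := rot117
alias Lrot118 := rot118
alias Lrot119 := rot119
alias Lrot120 := rot120
alias Lrot121 := rot121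
alias Lrot122 := rot122
alias Lrot123 := rot123
alias Lrot124 := rot124
alias Lrot125 := rot125
alias Lrot126 := rot126
alias Lrot127 := rot127
alias Lrot128 := rot128
alias Lrot129 := rot129
alias Lrot130 := rot130
alias Lrot131 := rot131
alias Lrot132 := rot132
alias Lrot133 := rot133
alias Lrot134 := rot134
alias Lrot135 := rot135
alias Lrot136 := rot136
alias Lrot137 := rot137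
alias Lrot138 := rot138
alias Lrot139 := rot139
alias Lrot140 := rot140
alias Lrot141 := rot141
alias Lrot142 := rot142
alias Lrot143 := rot143
alias Lrot144 := rot144
alias Lrot145 := rot145
alias Lrot146 := rot146
alias Lrot147 := rot147
alias Lrot148 := rot148
alias Lrot149 := rot149
alias Lrot150 := rot150
alias Lrot152 := rot152
alias Lrot153 := rot153
alias Lrot154 := rot154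
alias Lrot155 := rot155
alias Lrot156 := rot156
alias Lrot158 := rot158
alias Lrot159 := rot159
alias Lrot160 := rot160
alias Lrot161 := rot161
alias Lrot162 := rot162
alias Lrot163 := rot163
alias Lrot164 := rot164
alias Lrot165 := rot165
alias Lrot166 := rot166
alias Lrot167 := rot167
alias Lrot169 := rot169
alias Lrot170 := rot170
alias Lrot171 := rot171
alias Lrot172 := rot172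
alias Lrot173 := rot173
alias Lrot175 := rot175
alias Lrot176 := rot176
alias Lrot177 := rot177
alias Lrot178 := rot178
alias Lrot179 := rot179
alias Lrot180 := rot180
alias Lrot181 := rot181
alias Lrot182 := rot182
alias Lrot183 := rot183
alias Lrot184 := rot184
alias Lrot185 := rot185
alias Lrot187 := rot187
alias Lrot188 := rot188
alias Lrot189 := rot189
alias Lrot190 := rot190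
alias Lrot191 := rot191

section
variable (IH : IHT)
include IH

theorem f249540 : Led Lsl_ct (LP (LK LD1_c17 LD2_c46 LD3_c0)) = (LP (LK LD1_c27 LD2_c32 LD3_c21)) :=
  Lre_c IH (LK LD1_c17 LD2_c46 LD3_c0) (LK LD1_c27 LD2_c32 LD3_c21) Lrfl Lrfl
theorem f189535 : Led Lsl_ct (LP (LK LD1_c10 LD2_c23 LD3_c40)) = (LP (LK LD1_c10 LD2_c27 LD3_c51)) :=
  Lgr Lrot83 (Lpe (K37.f32919 IH) (Lpe (K16.f32918 IH) (Lpr_bf (K10.f189530 IH) (Lpe (K10.f184850 IH) (Lpe (K37.f189534 IH) (Lpn (LP (LK LD1_c10 LD2_c27 LD3_c51))))))))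
theorem f248182 : Led Lsl_bt (LP (LK LD1_c9 LD2_c39 LD3_c56)) = (LP (LK LD1_c17 LD2_c46 LD3_c39)) :=
  Lre_b IH (LK LD1_c9 LD2_c39 LD3_c56) (LK LD1_c17 LD2_c46 LD3_c39) Lrfl Lrfl
theorem f248183 : Led Lsl_dt (LP (LK LD1_c17 LD2_c46 LD3_c39)) = (LP (LK LD1_c10 LD2_c27 LD3_c51)) :=
  Lgr Lrot79 (Lpe (f248182 IH) (Lpr_df (K15.f248178 IH) (Lpe (K37.f189534 IH) (Lpn (LP (LK LD1_c10 LD2_c27 LD3_c51))))))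
theorem f43582 : Led Lsl_ct (LP (LK LD1_c27 LD2_c33 LD3_c21)) = (LP (LK LD1_c17 LD2_c46 LD3_c39)) :=
  Lre_c IH (LK LD1_c27 LD2_c33 LD3_c21) (LK LD1_c17 LD2_c46 LD3_c39) Lrfl Lrfl
theorem f544836 : Led Lsl_gt (LP (LK LD1_c27 LD2_c32 LD3_c21)) = (LP (LK LD1_c27 LD2_c33 LD3_c21)) :=
  Lgr Lrot150 (Lpe (f249540 IH) (Lpe (K37.f343533 IH) (Lpe (K37.f307560 IH) (Lpr_gt (K37.f544832 IH) (Lpe (K37.f254597 IH) (Lpr_gt (K37.f183699 IH) (Lpr_ct (f189535 IH) (Lpe (f248183 IH) (Lpe (f43582 IH) (Lpn (LP (LK LD1_c27 LD2_c33 LD3_c21))))))))))))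
theorem f166111 : Led Lsl_at (LP (LK LD1_c9 LD2_c59 LD3_c21)) = (LP (LK LD1_c5 LD2_c4 LD3_c15)) :=
  Lre_a IH (LK LD1_c9 LD2_c59 LD3_c21) (LK LD1_c5 LD2_c4 LD3_c15) Lrfl Lrfl
theorem f307594 : Led Lsl_ft (LP (LK LD1_c10 LD2_c12 LD3_c58)) = (LP (LK LD1_c9 LD2_c59 LD3_c21)) :=
  Lgr Lrot101 (Lpe (K37.f185693 IH) (Lpr_ff (K19.f307585 IH) (Lpe (f166111 IH) (Lpn (LP (LK LD1_c9 LD2_c59 LD3_c21))))))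
theorem f166001 : Led Lsl_gt (LP (LK LD1_c9 LD2_c59 LD3_c24)) = (LP (LK LD1_c5 LD2_c4 LD3_c15)) :=
  Lre_g IH (LK LD1_c9 LD2_c59 LD3_c24) (LK LD1_c5 LD2_c4 LD3_c15) Lrfl Lrfl
theorem f405304 : Led Lsl_gt (LP (LK LD1_c10 LD2_c12 LD3_c58)) = (LP (LK LD1_c9 LD2_c59 LD3_c24)) :=
  Lgr Lrot5 (Lpr_ft (f307594 IH) (Lpr_at (f166111 IH) (Lpe (f166001 IH) (Lpn (LP (LK LD1_c9 LD2_c59 LD3_c24))))))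
theorem f267981 : Led Lsl_ct (LP (LK LD1_c5 LD2_c11 LD3_c12)) = (LP (LK LD1_c10 LD2_c12 LD3_c58)) :=
  Lre_c IH (LK LD1_c5 LD2_c11 LD3_c12) (LK LD1_c10 LD2_c12 LD3_c58) Lrfl Lrfl
theorem f186615 : Led Lsl_gt (LP (LK LD1_c2 LD2_c32 LD3_c38)) = (LP (LK LD1_c5 LD2_c11 LD3_c19)) :=
  Lre_g IH (LK LD1_c2 LD2_c32 LD3_c38) (LK LD1_c5 LD2_c11 LD3_c19) Lrfl Lrfl
theorem f267976 : Led Lsl_at (LP (LK LD1_c2 LD2_c29 LD3_c29)) = (LP (LK LD1_c5 LD2_c4 LD3_c3)) :=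
  Lre_a IH (LK LD1_c2 LD2_c29 LD3_c29) (LK LD1_c5 LD2_c4 LD3_c3) Lrfl Lrfl
theorem f307951 : Led Lsl_gt (LP (LK LD1_c5 LD2_c11 LD3_c19)) = (LP (LK LD1_c5 LD2_c4 LD3_c3)) :=
  Lgr Lrot46 (Lpe (f186615 IH) (Lpr_ft (K19.f307940 IH) (Lpr_at (f267976 IH) (Lpn (LP (LK LD1_c5 LD2_c4 LD3_c3))))))
theorem f186616 : Led Lsl_bt (LP (LK LD1_c10 LD2_c13 LD3_c10)) = (LP (LK LD1_c5 LD2_c11 LD3_c19)) :=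
  Lre_b IH (LK LD1_c10 LD2_c13 LD3_c10) (LK LD1_c5 LD2_c11 LD3_c19) Lrfl Lrfl
theorem f165820 : Led Lsl_ct (LP (LK LD1_c2 LD2_c29 LD3_c14)) = (LP (LK LD1_c5 LD2_c3 LD3_c18)) :=
  Lre_c IH (LK LD1_c2 LD2_c29 LD3_c14) (LK LD1_c5 LD2_c3 LD3_c18) Lrfl Lrfl
theorem f165834 : Led Lsl_gt (LP (LK LD1_c9 LD2_c57 LD3_c25)) = (LP (LK LD1_c5 LD2_c3 LD3_c18)) :=
  Lre_g IH (LK LD1_c9 LD2_c57 LD3_c25) (LK LD1_c5 LD2_c3 LD3_c18) Lrfl Lrfl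
theorem f186617 : Led Lsl_cf (LP (LK LD1_c9 LD2_c57 LD3_c25)) = (LP (LK LD1_c10 LD2_c13 LD3_c10)) :=
  Lgr Lrot160 (Lpr_gt (f165834 IH) (Lpe (f165820 IH) (Lpr_bt (K37.f165819 IH) (Lpe (K9.f165811 IH) (Lpr_ct (K2.f32796 IH) (Lpe (K10.f32909 IH) (Lpr_cf (K10.f186576 IH) (Lpr_bt (K19.f186610 IH) (Lpr_gt (f186615 IH) (Lpe (f186616 IH) (Lpn (LP (LK LD1_c10 LD2_c13 LD3_c10)))))))))))))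
theorem f343443 : Led Lsl_gf (LP (LK LD1_c9 LD2_c57 LD3_c25)) = (LP (LK LD1_c10 LD2_c12 LD3_c23)) :=
  Lgr Lrot47 (Lpr_gt (f165834 IH) (Lpe (K14.f248659 IH) (Lpr_ff (K37.f343356 IH) (Lpn (LP (LK LD1_c10 LD2_c12 LD3_c23))))))
theorem f405307 : Led Lsl_ct (LP (LK LD1_c9 LD2_c57 LD3_c43)) = (LP (LK LD1_c9 LD2_c59 LD3_c24)) :=
  Lre_c IH (LK LD1_c9 LD2_c57 LD3_c43) (LK LD1_c9 LD2_c59 LD3_c24) Lrfl Lrfl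
theorem f405308 : Led Lsl_bt (LP (LK LD1_c9 LD2_c57 LD3_c43)) = (LP (LK LD1_c5 LD2_c3 LD3_c24)) :=
  Lre_b IH (LK LD1_c9 LD2_c57 LD3_c43) (LK LD1_c5 LD2_c3 LD3_c24) Lrfl Lrfl
theorem f405309 : Led Lsl_gf (LP (LK LD1_c5 LD2_c10 LD3_c61)) = (LP (LK LD1_c5 LD2_c3 LD3_c24)) :=
  Lgr Lrot181 (Lpr_ct (K37.f343347 IH) (Lpe (f343443 IH) (Lpr_cf (f186617 IH) (Lpr_bt (f186616 IH) (Lpr_gt (f307951 IH) (Lpr_bf (K15.f267978 IH) (Lpr_ct (f267981 IH) (Lpr_gt (f405304 IH) (Lpe (f405307 IH) (Lpr_bt (f405308 IH) (Lpn (LP (LK LD1_c5 LD2_c3 LD3_c24)))))))))))))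
theorem f184513 : Led Lsl_ct (LP (LK LD1_c9 LD2_c57 LD3_c44)) = (LP (LK LD1_c5 LD2_c3 LD3_c24)) :=
  Lre_c IH (LK LD1_c9 LD2_c57 LD3_c44) (LK LD1_c5 LD2_c3 LD3_c24) Lrfl Lrfl
theorem f43583 : Led Lsl_ct (LP (LK LD1_c17 LD2_c46 LD3_c39)) = (LP (LK LD1_c27 LD2_c33 LD3_c21)) :=
  Lre_c IH (LK LD1_c17 LD2_c46 LD3_c39) (LK LD1_c27 LD2_c33 LD3_c21) Lrfl Lrfl
theorem f43581 : Led Lsl_bt (LP (LK LD1_c17 LD2_c46 LD3_c39)) = (LP (LK LD1_c9 LD2_c39 LD3_c56)) :=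
  Lre_b IH (LK LD1_c17 LD2_c46 LD3_c39) (LK LD1_c9 LD2_c39 LD3_c56) Lrfl Lrfl
theorem f544838 : Led Lsl_bt (LP (LK LD1_c9 LD2_c57 LD3_c44)) = (LP (LK LD1_c9 LD2_c40 LD3_c33)) :=
  Lgr Lrot92 (Lpr_ct (f184513 IH) (Lpe (f405309 IH) (Lpe (K37.f343334 IH) (Lpr_bt (K37.f248542 IH) (Lpr_gt (K37.f343533 IH) (Lpr_ct (f249540 IH) (Lpr_gt (f544836 IH) (Lpe (f43583 IH) (Lpr_bt (f43581 IH) (Lpe (K14.f43578 IH) (Lpn (LP (LK LD1_c9 LD2_c40 LD3_c33)))))))))))))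
theorem f184512 : Led Lsl_gt (LP (LK LD1_c2 LD2_c29 LD3_c14)) = (LP (LK LD1_c5 LD2_c3 LD3_c24)) :=
  Lre_g IH (LK LD1_c2 LD2_c29 LD3_c14) (LK LD1_c5 LD2_c3 LD3_c24) Lrfl Lrfl
theorem f44191 : Led Lsl_gt (LP (LK LD1_c5 LD2_c19 LD3_c35)) = (LP (LK LD1_c2 LD2_c36 LD3_c26)) :=
  Lre_g IH (LK LD1_c5 LD2_c19 LD3_c35) (LK LD1_c2 LD2_c36 LD3_c26) Lrfl Lrfl
theorem f544859 : Led Lsl_cf (LP (LK LD1_c5 LD2_c19 LD3_c35)) = (LP (LK LD1_c9 LD2_c39 LD3_c57)) :=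
  Lgr Lrot125 (Lpr_gt (f44191 IH) (Lpe (K1.f44200 IH) (Lpr_bt (K1.f44209 IH) (Lpe (K13.f184229 IH) (Lpe (K14.f184511 IH) (Lpr_ct (K37.f165831 IH) (Lpr_gt (f184512 IH) (Lpe (f184513 IH) (Lpr_bt (f544838 IH) (Lpr_gt (K14.f43599 IH) (Lpn (LP (LK LD1_c9 LD2_c39 LD3_c57)))))))))))))
theorem f43479 : Led Lsl_bt (LP (LK LD1_c4 LD2_c54 LD3_c13)) = (LP (LK LD1_c9 LD2_c39 LD3_c55)) :=
  Lre_b IH (LK LD1_c4 LD2_c54 LD3_c13) (LK LD1_c9 LD2_c39 LD3_c55) Lrfl Lrfl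
theorem f544533 : Led Lsl_ft (LP (LK LD1_c17 LD2_c46 LD3_c31)) = (LP (LK LD1_c9 LD2_c39 LD3_c51)) :=
  Lre_f IH (LK LD1_c17 LD2_c46 LD3_c31) (LK LD1_c9 LD2_c39 LD3_c51) Lrfl Lrfl
theorem f184679 : Led Lsl_bt (LP (LK LD1_c10 LD2_c27 LD3_c56)) = (LP (LK LD1_c5 LD2_c19 LD3_c1)) :=
  Lre_b IH (LK LD1_c10 LD2_c27 LD3_c56) (LK LD1_c5 LD2_c19 LD3_c1) Lrfl Lrfl
theorem f271322 : Led Lsl_ff (LP (LK LD1_c10 LD2_c27 LD3_c56)) = (LP (LK LD1_c10 LD2_c28 LD3_c3)) :=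
  Lgr Lrot25 (Lpr_bt (f184679 IH) (Lpr_ft (K16.f271320 IH) (Lpr_bt (K37.f45906 IH) (Lpn (LP (LK LD1_c10 LD2_c28 LD3_c3))))))
theorem f544534 : Led Lsl_df (LP (LK LD1_c17 LD2_c46 LD3_c31)) = (LP (LK LD1_c10 LD2_c27 LD3_c56)) :=
  Lgr Lrot78 (Lpr_ft (f544533 IH) (Lpr_dt (K37.f544521 IH) (Lpe (f271322 IH) (Lpn (LP (LK LD1_c10 LD2_c27 LD3_c56))))))
theorem f544545 : Led Lsl_dt (LP (LK LD1_c17 LD2_c46 LD3_c31)) = (LP (LK LD1_c10 LD2_c27 LD3_c56)) :=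
  Lgr Lrot42 (Lpr_df (f544534 IH) (Lpn (LP (LK LD1_c10 LD2_c27 LD3_c56))))
theorem f544552 : Led Lsl_bf (LP (LK LD1_c17 LD2_c46 LD3_c31)) = (LP (LK LD1_c9 LD2_c39 LD3_c57)) :=
  Lgr Lrot93 (Lpr_dt (f544545 IH) (Lpr_bt (f184679 IH) (Lpe (K14.f247968 IH) (Lpn (LP (LK LD1_c9 LD2_c39 LD3_c57))))))
theorem f544883 : Led Lsl_gt (LP (LK LD1_c9 LD2_c39 LD3_c55)) = (LP (LK LD1_c17 LD2_c46 LD3_c31)) :=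
  Lgr Lrot164 (Lpe (f43479 IH) (Lpr_ct (K9.f43432 IH) (Lpr_gf (K9.f184042 IH) (Lpe (K14.f165431 IH) (Lpr_gf (K13.f184229 IH) (Lpe (K1.f44209 IH) (Lpr_ct (K1.f44200 IH) (Lpe (f44191 IH) (Lpr_cf (f544859 IH) (Lpe (f544552 IH) (Lpn (LP (LK LD1_c17 LD2_c46 LD3_c31)))))))))))))
theorem f184691 : Led Lsl_bt (LP (LK LD1_c10 LD2_c27 LD3_c57)) = (LP (LK LD1_c18 LD2_c58 LD3_c14)) :=
  Lre_b IH (LK LD1_c10 LD2_c27 LD3_c57) (LK LD1_c18 LD2_c58 LD3_c14) Lrfl Lrfl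
theorem f184693 : Led Lsl_bt (LP (LK LD1_c15 LD2_c12 LD3_c45)) = (LP (LK LD1_c8 LD2_c4 LD3_c45)) :=
  Lre_b IH (LK LD1_c15 LD2_c12 LD3_c45) (LK LD1_c8 LD2_c4 LD3_c45) Lrfl Lrfl
theorem f184694 : Led Lsl_ct (LP (LK LD1_c18 LD2_c58 LD3_c14)) = (LP (LK LD1_c15 LD2_c12 LD3_c45)) :=
  Lgr Lrot83 (Lpe (f184691 IH) (Lpe (K21.f184690 IH) (Lpr_bf (K19.f184686 IH) (Lpe (K23.f184692 IH) (Lpe (f184693 IH) (Lpn (LP (LK LD1_c15 LD2_c12 LD3_c45))))))))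
theorem f184711 : Led Lsl_cf (LP (LK LD1_c18 LD2_c58 LD3_c14)) = (LP (LK LD1_c15 LD2_c12 LD3_c45)) :=
  Lgr Lrot11 (Lpr_ct (f184694 IH) (Lpn (LP (LK LD1_c15 LD2_c12 LD3_c45))))
theorem f184729 : Led Lsl_et (LP (LK LD1_c18 LD2_c58 LD3_c14)) = (LP (LK LD1_c10 LD2_c27 LD3_c56)) :=
  Lre_e IH (LK LD1_c18 LD2_c58 LD3_c14) (LK LD1_c10 LD2_c27 LD3_c56) Lrfl Lrfl
theorem f184730 : Led Lsl_et (LP (LK LD1_c8 LD2_c4 LD3_c44)) = (LP (LK LD1_c15 LD2_c12 LD3_c45)) :=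
  Lre_e IH (LK LD1_c8 LD2_c4 LD3_c44) (LK LD1_c15 LD2_c12 LD3_c45) Lrfl Lrfl
theorem f184731 : Led Lsl_ct (LP (LK LD1_c10 LD2_c27 LD3_c56)) = (LP (LK LD1_c8 LD2_c4 LD3_c44)) :=
  Lgr Lrot15 (Lpe (f184729 IH) (Lpr_cf (f184711 IH) (Lpe (f184730 IH) (Lpn (LP (LK LD1_c8 LD2_c4 LD3_c44))))))
theorem f184735 : Led Lsl_bt (LP (LK LD1_c8 LD2_c4 LD3_c44)) = (LP (LK LD1_c4 LD2_c2 LD3_c4)) :=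
  Lre_b IH (LK LD1_c8 LD2_c4 LD3_c44) (LK LD1_c4 LD2_c2 LD3_c4) Lrfl Lrfl
theorem f544889 : Led Lsl_bf (LP (LK LD1_c4 LD2_c20 LD3_c33)) = (LP (LK LD1_c8 LD2_c3 LD3_c36)) :=
  Lgr Lrot184 (Lpe (K13.f212058 IH) (Lpr_dt (K13.f192638 IH) (Lpr_ct (K16.f212012 IH) (Lpr_bt (K12.f212008 IH) (Lpe (K10.f185841 IH) (Lpr_dt (K9.f28344 IH) (Lpr_ct (K9.f165839 IH) (Lpr_bt (K10.f165849 IH) (Lpe (K10.f184875 IH) (Lpr_dt (K10.f43354 IH) (Lpr_ct (K9.f43450 IH) (Lpr_bt (f43479 IH) (Lpr_gt (f544883 IH) (Lpr_dt (f544545 IH) (Lpr_ct (f184731 IH) (Lpr_bt (f184735 IH) (Lpe (K13.f240447 IH) (Lpe (K13.f242546 IH) (Lpr_ct (K13.f240049 IH) (Lpn (LP (LK LD1_c8 LD2_c3 LD3_c36))))))))))))))))))))))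
theorem f212069 : Led Lsl_bf (LP (LK LD1_c5 LD2_c12 LD3_c52)) = (LP (LK LD1_c10 LD2_c15 LD3_c23)) :=
  Lgr Lrot24 (Lpr_bt (K36.f212066 IH) (Lpn (LP (LK LD1_c10 LD2_c15 LD3_c23))))
theorem f212071 : Led Lsl_ct (LP (LK LD1_c10 LD2_c15 LD3_c23)) = (LP (LK LD1_c18 LD2_c39 LD3_c32)) :=
  Lre_c IH (LK LD1_c10 LD2_c15 LD3_c23) (LK LD1_c18 LD2_c39 LD3_c32) Lrfl Lrfl
theorem f201450 : Led Lsl_bt (LP (LK LD1_c10 LD2_c17 LD3_c32)) = (LP (LK LD1_c5 LD2_c13 LD3_c44)) :=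
  Lre_b IH (LK LD1_c10 LD2_c17 LD3_c32) (LK LD1_c5 LD2_c13 LD3_c44) Lrfl Lrfl
theorem f201451 : Led Lsl_ct (LP (LK LD1_c10 LD2_c17 LD3_c32)) = (LP (LK LD1_c18 LD2_c42 LD3_c28)) :=
  Lre_c IH (LK LD1_c10 LD2_c17 LD3_c32) (LK LD1_c18 LD2_c42 LD3_c28) Lrfl Lrfl
theorem f544895 : Led Lsl_gt (LP (LK LD1_c18 LD2_c39 LD3_c32)) = (LP (LK LD1_c18 LD2_c42 LD3_c28)) :=
  Lgr Lrot65 (Lpe (f212071 IH) (Lpe (f212069 IH) (Lpr_gf (K13.f212058 IH) (Lpr_bf (f544889 IH) (Lpe (K13.f240053 IH) (Lpe (K13.f21746 IH) (Lpr_cf (K15.f240519 IH) (Lpr_gf (K12.f229361 IH) (Lpe (f201450 IH) (Lpr_ct (f201451 IH) (Lpn (LP (LK LD1_c18 LD2_c42 LD3_c28)))))))))))))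
theorem f229363 : Led Lsl_ct (LP (LK LD1_c18 LD2_c42 LD3_c28)) = (LP (LK LD1_c10 LD2_c17 LD3_c32)) :=
  Lre_c IH (LK LD1_c18 LD2_c42 LD3_c28) (LK LD1_c10 LD2_c17 LD3_c32) Lrfl Lrfl
theorem f427896 : Led Lsl_dt (LP (LK LD1_c5 LD2_c13 LD3_c41)) = (LP (LK LD1_c10 LD2_c17 LD3_c32)) :=
  Lre_d IH (LK LD1_c5 LD2_c13 LD3_c41) (LK LD1_c10 LD2_c17 LD3_c32) Lrfl Lrfl
theorem f387110 : Led Lsl_dt (LP (LK LD1_c10 LD2_c5 LD3_c25)) = (LP (LK LD1_c5 LD2_c7 LD3_c32)) :=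
  Lre_d IH (LK LD1_c10 LD2_c5 LD3_c25) (LK LD1_c5 LD2_c7 LD3_c32) Lrfl Lrfl
theorem f544899 : Led Lsl_gf (LP (LK LD1_c10 LD2_c15 LD3_c23)) = (LP (LK LD1_c10 LD2_c5 LD3_c25)) :=
  Lgr Lrot147 (Lpr_ct (f212071 IH) (Lpr_gt (f544895 IH) (Lpr_ct (f229363 IH) (Lpe (f427896 IH) (Lpe (K37.f198573 IH) (Lpr_gf (K37.f542369 IH) (Lpr_cf (K2.f34895 IH) (Lpr_gf (K37.f387114 IH) (Lpe (f387110 IH) (Lpn (LP (LK LD1_c10 LD2_c5 LD3_c25))))))))))))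
theorem f212081 : Led Lsl_dt (LP (LK LD1_c5 LD2_c12 LD3_c27)) = (LP (LK LD1_c10 LD2_c15 LD3_c23)) :=
  Lre_d IH (LK LD1_c5 LD2_c12 LD3_c27) (LK LD1_c10 LD2_c15 LD3_c23) Lrfl Lrfl
theorem f212063 : Led Lsl_bt (LP (LK LD1_c2 LD2_c33 LD3_c16)) = (LP (LK LD1_c5 LD2_c12 LD3_c27)) :=
  Lgr Lrot127 (Lpr_bf (K36.f212013 IH) (Lpn (LP (LK LD1_c5 LD2_c12 LD3_c27))))
theorem f60137 : Led Lsl_ct (LP (LK LD1_c3 LD2_c0 LD3_c55)) = (LP (LK LD1_c6 LD2_c9 LD3_c5)) :=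
  Lre_c IH (LK LD1_c3 LD2_c0 LD3_c55) (LK LD1_c6 LD2_c9 LD3_c5) Lrfl Lrfl
theorem f193975 : Led Lsl_bf (LP (LK LD1_c3 LD2_c4 LD3_c41)) = (LP (LK LD1_c6 LD2_c9 LD3_c5)) :=
  Lgr Lrot90 (Lpr_ct (K13.f60462 IH) (Lpr_bt (K10.f193772 IH) (Lpr_ct (K10.f193972 IH) (Lpr_bt (K36.f193974 IH) (Lpr_ct (f60137 IH) (Lpn (LP (LK LD1_c6 LD2_c9 LD3_c5))))))))
theorem f212082 : Led Lsl_ef (LP (LK LD1_c6 LD2_c9 LD3_c5)) = (LP (LK LD1_c5 LD2_c12 LD3_c27)) :=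
  Lgr Lrot29 (Lpe (f193975 IH) (Lpe (K16.f212042 IH) (Lpr_bt (f212063 IH) (Lpn (LP (LK LD1_c5 LD2_c12 LD3_c27))))))
theorem f387112 : Led Lsl_dt (LP (LK LD1_c5 LD2_c7 LD3_c32)) = (LP (LK LD1_c10 LD2_c5 LD3_c25)) :=
  Lre_d IH (LK LD1_c5 LD2_c7 LD3_c32) (LK LD1_c10 LD2_c5 LD3_c25) Lrfl Lrfl
theorem f34867 : Led Lsl_at (LP (LK LD1_c4 LD2_c20 LD3_c12)) = (LP (LK LD1_c2 LD2_c7 LD3_c34)) :=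
  Lre_a IH (LK LD1_c4 LD2_c20 LD3_c12) (LK LD1_c2 LD2_c7 LD3_c34) Lrfl Lrfl
theorem f34868 : Led Lsl_et (LP (LK LD1_c2 LD2_c9 LD3_c46)) = (LP (LK LD1_c4 LD2_c20 LD3_c12)) :=
  Lgr Lrot123 (Lpe (K2.f34866 IH) (Lpr_ef (K2.f34848 IH) (Lpe (f34867 IH) (Lpn (LP (LK LD1_c4 LD2_c20 LD3_c12))))))
theorem f112838 : Led Lsl_et (LP (LK LD1_c2 LD2_c9 LD3_c22)) = (LP (LK LD1_c4 LD2_c23 LD3_c55)) :=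
  Lre_e IH (LK LD1_c2 LD2_c9 LD3_c22) (LK LD1_c4 LD2_c23 LD3_c55) Lrfl Lrfl
theorem f544905 : Led Lsl_gt (LP (LK LD1_c6 LD2_c9 LD3_c5)) = (LP (LK LD1_c4 LD2_c23 LD3_c55)) :=
  Lgr Lrot131 (Lpr_ef (f212082 IH) (Lpr_dt (f212081 IH) (Lpr_gf (f544899 IH) (Lpe (f387112 IH) (Lpe (K37.f387128 IH) (Lpe (f34868 IH) (Lpr_dt (K2.f35257 IH) (Lpr_gf (K6.f81795 IH) (Lpr_df (K4.f112626 IH) (Lpr_et (f112838 IH) (Lpn (LP (LK LD1_c4 LD2_c23 LD3_c55)))))))))))))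
theorem f117609 : Led Lsl_et (LP (LK LD1_c3 LD2_c9 LD3_c56)) = (LP (LK LD1_c1 LD2_c31 LD3_c5)) :=
  Lre_e IH (LK LD1_c3 LD2_c9 LD3_c56) (LK LD1_c1 LD2_c31 LD3_c5) Lrfl Lrfl
theorem f117629 : Led Lsl_af (LP (LK LD1_c3 LD2_c9 LD3_c56)) = (LP (LK LD1_c4 LD2_c23 LD3_c55)) :=
  Lgr Lrot50 (Lpr_et (f117609 IH) (Lpr_at (K4.f117613 IH) (Lpr_et (f112838 IH) (Lpn (LP (LK LD1_c4 LD2_c23 LD3_c55))))))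
theorem f117631 : Led Lsl_at (LP (LK LD1_c3 LD2_c9 LD3_c56)) = (LP (LK LD1_c4 LD2_c23 LD3_c55)) :=
  Lgr Lrot100 (Lpr_af (f117629 IH) (Lpn (LP (LK LD1_c4 LD2_c23 LD3_c55))))
theorem f117610 : Led Lsl_ft (LP (LK LD1_c6 LD2_c24 LD3_c36)) = (LP (LK LD1_c3 LD2_c9 LD3_c56)) :=
  Lre_f IH (LK LD1_c6 LD2_c24 LD3_c36) (LK LD1_c3 LD2_c9 LD3_c56) Lrfl Lrfl
theorem f544907 : Led Lsl_gf (LP (LK LD1_c6 LD2_c9 LD3_c5)) = (LP (LK LD1_c6 LD2_c24 LD3_c36)) :=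
  Lgr Lrot47 (Lpr_gt (f544905 IH) (Lpe (f117631 IH) (Lpe (f117610 IH) (Lpn (LP (LK LD1_c6 LD2_c24 LD3_c36))))))
def v1780 : LQ := Led Lsl_bt (LP (LK LD1_c1 LD2_c26 LD3_c17))
theorem f502841 : Led Lsl_bt (LP (LK LD1_c1 LD2_c26 LD3_c17)) = v1780 :=
  Lrfl
theorem f225162 : Led Lsl_bt (LP (LK LD1_c0 LD2_c28 LD3_c51)) = (LP (LK LD1_c1 LD2_c3 LD3_c15)) :=
  Lre_b IH (LK LD1_c0 LD2_c28 LD3_c51) (LK LD1_c1 LD2_c3 LD3_c15) Lrfl Lrfl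
theorem f380381 : Led Lsl_at (LP (LK LD1_c1 LD2_c3 LD3_c17)) = (LP (LK LD1_c0 LD2_c36 LD3_c20)) :=
  Lgr Lrot51 (Lpe (K12.f20723 IH) (Lpr_af (K36.f380375 IH) (Lpe (K9.f164999 IH) (Lpn (LP (LK LD1_c0 LD2_c36 LD3_c20))))))
theorem f380388 : Led Lsl_af (LP (LK LD1_c0 LD2_c28 LD3_c51)) = (LP (LK LD1_c0 LD2_c16 LD3_c9)) :=
  Lgr Lrot50 (Lpr_et (K12.f174925 IH) (Lpr_at (f380381 IH) (Lpr_et (K9.f164998 IH) (Lpn (LP (LK LD1_c0 LD2_c16 LD3_c9))))))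
theorem f494068 : Led Lsl_bf (LP (LK LD1_c1 LD2_c18 LD3_c47)) = K35.v1218 :=
  Lgr Lrot81 (Lpr_at (K35.f380283 IH) (Lpr_bt (K31.f165163 IH) (Lpe (f380388 IH) (Lpr_bt (f225162 IH) (Lpr_at (K35.f494066 IH) (Lpn K35.v1218))))))
theorem f537773 : (LP (LK LD1_c1 LD2_c18 LD3_c47)) = v1780 :=
  Lefun (Lecon (Lfl_bf (f494068 IH)) (K35.f537378 IH).symm) (f502841 IH)
theorem f174633 : Led Lsl_bt (LP (LK LD1_c4 LD2_c31 LD3_c41)) = (LP (LK LD1_c2 LD2_c12 LD3_c50)) :=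
  Lre_b IH (LK LD1_c4 LD2_c31 LD3_c41) (LK LD1_c2 LD2_c12 LD3_c50) Lrfl Lrfl
theorem f544910 : Led Lsl_ct (LP (LK LD1_c4 LD2_c31 LD3_c41)) = (LP (LK LD1_c6 LD2_c24 LD3_c36)) :=
  Lgr Lrot64 (Lpr_bt (f174633 IH) (Lpr_gf (K35.f380436 IH) (Lpqs (f537773 IH) (Lpe (f502841 IH) (Lpr_ct (K19.f24230 IH) (Lpe (K9.f9536 IH) (Lpe (K1.f9523 IH) (Lpe (K10.f9538 IH) (Lpe (K36.f60136 IH) (Lpr_ct (f60137 IH) (Lpr_gf (f544907 IH) (Lpn (LP (LK LD1_c6 LD2_c24 LD3_c36))))))))))))))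
def v1520 : LQ := Led Lsl_et (LP (LK LD1_c1 LD2_c20 LD3_c61))
theorem f496029 : Led Lsl_et (LP (LK LD1_c1 LD2_c20 LD3_c61)) = v1520 :=
  Lrfl
theorem f496032 : Led Lsl_ef (LP (LK LD1_c1 LD2_c20 LD3_c61)) = v1520 :=
  Lgr Lrot88 (Lpr_et (f496029 IH) (Lpn v1520))
theorem f117618 : Led Lsl_et (LP (LK LD1_c1 LD2_c31 LD3_c5)) = (LP (LK LD1_c3 LD2_c9 LD3_c56)) :=
  Lre_e IH (LK LD1_c1 LD2_c31 LD3_c5) (LK LD1_c3 LD2_c9 LD3_c56) Lrfl Lrfl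
theorem f496034 : Led Lsl_ct (LP (LK LD1_c3 LD2_c9 LD3_c56)) = v1520 :=
  Lgr Lrot15 (Lpe (f117618 IH) (Lpr_cf (K4.f117625 IH) (Lpr_ef (f496032 IH) (Lpn v1520))))
theorem f544917 : Led Lsl_ff (LP (LK LD1_c4 LD2_c31 LD3_c41)) = v1520 :=
  Lgr Lrot23 (Lpr_ct (f544910 IH) (Lpr_ft (f117610 IH) (Lpr_ct (f496034 IH) (Lpn v1520))))
def v391 : LQ := Led Lsl_et (LP (LK LD1_c0 LD2_c37 LD3_c25))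
theorem f452601 : Led Lsl_et (LP (LK LD1_c0 LD2_c37 LD3_c25)) = v391 :=
  Lrfl
theorem f496033 : Led Lsl_bt v391 = v1520 :=
  Lgr Lrot119 (Lpe (f452601 IH) (Lpe (K5.f20557 IH) (Lpr_ef (f496032 IH) (Lpn v1520))))
def v2906 : LQ := Led Lsl_ft v391
theorem f536142 : Led Lsl_ft v391 = v2906 :=
  Lrfl
theorem f536143 : Led Lsl_ff v391 = v2906 :=
  Lgr Lrot3 (Lpr_ft (f536142 IH) (Lpn v2906))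
theorem f544920 : (LP (LK LD1_c2 LD2_c12 LD3_c50)) = v2906 :=
  (Llr Lrot35 (Lpe (f174633 IH) (Lpr_ff (f544917 IH) (Lpe (f496033 IH) (Lpr_ff (f536143 IH) (Lpn v2906)))))).symm
def v1243 : LQ := Led Lsl_et (LP (LK LD1_c1 LD2_c4 LD3_c8))
theorem f494263 : Led Lsl_et (LP (LK LD1_c1 LD2_c4 LD3_c8)) = v1243 :=
  Lrfl
theorem f494266 : Led Lsl_ef (LP (LK LD1_c1 LD2_c4 LD3_c8)) = v1243 :=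
  Lgr Lrot88 (Lpr_et (f494263 IH) (Lpn v1243))
theorem f132488 : Led Lsl_at (LP (LK LD1_c1 LD2_c4 LD3_c8)) = (LP (LK LD1_c0 LD2_c37 LD3_c25)) :=
  Lgr Lrot66 (Lpr_ff (K5.f132486 IH) (Lpe (K5.f132325 IH) (Lpr_ff (K5.f117825 IH) (Lpn (LP (LK LD1_c0 LD2_c37 LD3_c25))))))
theorem f494267 : Led Lsl_at v391 = v1243 :=
  Lgr Lrot80 (Lpe (f452601 IH) (Lpe (f132488 IH) (Lpr_ef (f494266 IH) (Lpn v1243))))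
theorem f169115 : Led Lsl_gt (LP (LK LD1_c1 LD2_c3 LD3_c25)) = (LP (LK LD1_c2 LD2_c12 LD3_c49)) :=
  Lre_g IH (LK LD1_c1 LD2_c3 LD3_c25) (LK LD1_c2 LD2_c12 LD3_c49) Lrfl Lrfl
theorem f544926 : v1243 = (LP (LK LD1_c2 LD2_c12 LD3_c49)) :=
  (Llr Lrot26 (Lpe (f494267 IH) (Lpr_ff (f536143 IH) (Lpq (f544920 IH) (Lpr_gt (K35.f169117 IH) (Lpr_gt (f169115 IH) (Lpn (LP (LK LD1_c2 LD2_c12 LD3_c49))))))))).symm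
theorem f22383 : Led Lsl_et (LP (LK LD1_c1 LD2_c21 LD3_c55)) = (LP (LK LD1_c0 LD2_c37 LD3_c54)) :=
  Lre_e IH (LK LD1_c1 LD2_c21 LD3_c55) (LK LD1_c0 LD2_c37 LD3_c54) Lrfl Lrfl
theorem f22384 : Led Lsl_dt (LP (LK LD1_c1 LD2_c21 LD3_c55)) = (LP (LK LD1_c2 LD2_c51 LD3_c45)) :=
  Lre_d IH (LK LD1_c1 LD2_c21 LD3_c55) (LK LD1_c2 LD2_c51 LD3_c45) Lrfl Lrfl
theorem f173326 : Led Lsl_at (LP (LK LD1_c4 LD2_c22 LD3_c31)) = (LP (LK LD1_c2 LD2_c8 LD3_c42)) :=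
  Lre_a IH (LK LD1_c4 LD2_c22 LD3_c31) (LK LD1_c2 LD2_c8 LD3_c42) Lrfl Lrfl
theorem f173334 : Led Lsl_gt (LP (LK LD1_c4 LD2_c22 LD3_c30)) = (LP (LK LD1_c2 LD2_c8 LD3_c42)) :=
  Lre_g IH (LK LD1_c4 LD2_c22 LD3_c30) (LK LD1_c2 LD2_c8 LD3_c42) Lrfl Lrfl
theorem f385860 : Led Lsl_gf (LP (LK LD1_c4 LD2_c22 LD3_c30)) = (LP (LK LD1_c4 LD2_c56 LD3_c53)) :=
  Lgr Lrot47 (Lpr_gt (f173334 IH) (Lpe (f173326 IH) (Lpr_ff (K36.f385384 IH) (Lpn (LP (LK LD1_c4 LD2_c56 LD3_c53))))))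
theorem f178956 : Led Lsl_bt (LP (LK LD1_c4 LD2_c31 LD3_c40)) = (LP (LK LD1_c2 LD2_c12 LD3_c49)) :=
  Lre_b IH (LK LD1_c4 LD2_c31 LD3_c40) (LK LD1_c2 LD2_c12 LD3_c49) Lrfl Lrfl
theorem f178957 : Led Lsl_ct (LP (LK LD1_c4 LD2_c31 LD3_c40)) = (LP (LK LD1_c4 LD2_c22 LD3_c30)) :=
  Lgr Lrot64 (Lpr_bt (f178956 IH) (Lpe (f169115 IH) (Lpe (K31.f169119 IH) (Lpr_ct (K9.f20590 IH) (Lpe (K9.f178954 IH) (Lpe (K9.f20692 IH) (Lpr_gf (K9.f178952 IH) (Lpe (K18.f173327 IH) (Lpr_ct (K18.f173273 IH) (Lpe (f173334 IH) (Lpn (LP (LK LD1_c4 LD2_c22 LD3_c30)))))))))))))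
theorem f385862 : Led Lsl_gt (LP (LK LD1_c2 LD2_c12 LD3_c49)) = (LP (LK LD1_c1 LD2_c18 LD3_c47)) :=
  Lgr Lrot82 (Lpe (f178956 IH) (Lpr_ct (f178957 IH) (Lpr_gf (f385860 IH) (Lpe (K18.f168271 IH) (Lpe (K18.f297017 IH) (Lpr_gf (K35.f385270 IH) (Lpr_bf (K35.f380271 IH) (Lpr_ct (K35.f380270 IH) (Lpr_gf (K35.f380436 IH) (Lpe (K35.f380433 IH) (Lpn (LP (LK LD1_c1 LD2_c18 LD3_c47)))))))))))))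
theorem f544935 : Led Lsl_gf (LP (LK LD1_c2 LD2_c51 LD3_c45)) = (LP (LK LD1_c5 LD2_c0 LD3_c25)) :=
  Lgr Lrot145 (Lpe (f22384 IH) (Lpr_et (f22383 IH) (Lpe (K7.f151711 IH) (Lpr_dt (K7.f20372 IH) (Lpr_gt (K11.f151671 IH) (Lpe (K8.f157202 IH) (Lpr_et (f494263 IH) (Lpqs (f544926 IH) (Lpr_gt (f385862 IH) (Lpe (K36.f380435 IH) (Lpe (K36.f538942 IH) (Lpn (LP (LK LD1_c5 LD2_c0 LD3_c25))))))))))))))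
theorem f544937 : Led Lsl_gt (LP (LK LD1_c2 LD2_c51 LD3_c45)) = (LP (LK LD1_c5 LD2_c38 LD3_c28)) :=
  Lgr Lrot46 (Lpr_gf (f544935 IH) (Lpr_ft (K36.f334714 IH) (Lpr_at (K36.f539013 IH) (Lpn (LP (LK LD1_c5 LD2_c38 LD3_c28))))))
def v1580 : LQ := Led Lsl_gf (LP (LK LD1_c1 LD2_c21 LD3_c55))
theorem f500183 : Led Lsl_gf (LP (LK LD1_c1 LD2_c21 LD3_c55)) = v1580 :=
  Lrfl
theorem f20361 : Led Lsl_at (LP (LK LD1_c1 LD2_c4 LD3_c24)) = (LP (LK LD1_c2 LD2_c14 LD3_c31)) :=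
  Lre_a IH (LK LD1_c1 LD2_c4 LD3_c24) (LK LD1_c2 LD2_c14 LD3_c31) Lrfl Lrfl
theorem f541425 : Led Lsl_gf v1580 = (LP (LK LD1_c4 LD2_c31 LD3_c58)) :=
  Lgr Lrot47 (Lpe (f500183 IH) (Lpr_af (K36.f208521 IH) (Lpr_ff (K36.f541417 IH) (Lpn (LP (LK LD1_c4 LD2_c31 LD3_c58))))))
theorem f541437 : (LP (LK LD1_c2 LD2_c14 LD3_c31)) = v1580 :=
  (Llr Lrot26 (Lpe (f20361 IH) (Lpe (K7.f20340 IH) (Lpq (K37.f539936 IH) (Lpr_gt (K36.f541427 IH) (Lpe (f541425 IH) (Lpn v1580))))))).symm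
theorem f112933 : Led Lsl_et (LP (LK LD1_c1 LD2_c4 LD3_c7)) = (LP (LK LD1_c2 LD2_c14 LD3_c9)) :=
  Lre_e IH (LK LD1_c1 LD2_c4 LD3_c7) (LK LD1_c2 LD2_c14 LD3_c9) Lrfl Lrfl
def v1454 : LQ := Led Lsl_gt (LP (LK LD1_c1 LD2_c18 LD3_c59))
theorem f495658 : Led Lsl_gt (LP (LK LD1_c1 LD2_c18 LD3_c59)) = v1454 :=
  Lrfl
theorem f544988 : (LP (LK LD1_c2 LD2_c14 LD3_c9)) = v1454 :=
  (Llr Lrot122 (Lpe (f112933 IH) (Lpe (K4.f112111 IH) (Lpr_gt (K11.f206001 IH) (Lpe (K7.f20372 IH) (Lpr_et (K7.f20366 IH) (Lpqs (f541437 IH) (Lpe (f500183 IH) (Lpr_dt (f22384 IH) (Lpr_gt (f544937 IH) (Lpe (K36.f380303 IH) (Lpe (K35.f380307 IH) (Lpr_gt (f495658 IH) (Lpn v1454)))))))))))))).symm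
theorem f501277 : Led Lsl_gt v1454 = K35.v1751 :=
  Lgr Lrot46 (Lpe (f495658 IH) (Lpr_ft (K35.f380323 IH) (Lpr_at (K35.f501271 IH) (Lpn K35.v1751))))
theorem f501275 : Led Lsl_ef (LP (LK LD1_c2 LD2_c12 LD3_c51)) = K35.v1751 :=
  Lgr Lrot20 (Lpr_at (K35.f169118 IH) (Lpr_et (K35.f169113 IH) (Lpr_at (K35.f501271 IH) (Lpn K35.v1751))))
theorem f319318 : Led Lsl_at (LP (LK LD1_c1 LD2_c3 LD3_c16)) = (LP (LK LD1_c0 LD2_c36 LD3_c19)) :=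
  Lgr Lrot107 (Lpr_cf (K12.f225160 IH) (Lpr_af (K20.f319314 IH) (Lpe (K9.f172301 IH) (Lpn (LP (LK LD1_c0 LD2_c36 LD3_c19))))))
theorem f172317 : Led Lsl_cf (LP (LK LD1_c0 LD2_c36 LD3_c19)) = (LP (LK LD1_c1 LD2_c18 LD3_c4)) :=
  Lgr Lrot11 (Lpr_ct (K9.f172301 IH) (Lpn (LP (LK LD1_c1 LD2_c18 LD3_c4))))
theorem f319310 : Led Lsl_ff (LP (LK LD1_c1 LD2_c3 LD3_c26)) = (LP (LK LD1_c0 LD2_c36 LD3_c19)) :=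
  Lgr Lrot23 (Lpr_ct (K9.f174735 IH) (Lpr_ft (K20.f319308 IH) (Lpe (f172317 IH) (Lpn (LP (LK LD1_c0 LD2_c36 LD3_c19))))))
theorem f354360 : Led Lsl_af (LP (LK LD1_c0 LD2_c36 LD3_c39)) = (LP (LK LD1_c1 LD2_c3 LD3_c26)) :=
  Lgr Lrot45 (Lpr_ft (K30.f354358 IH) (Lpr_at (f319318 IH) (Lpe (f319310 IH) (Lpn (LP (LK LD1_c1 LD2_c3 LD3_c26))))))
theorem f168851 : Led Lsl_bt (LP (LK LD1_c2 LD2_c12 LD3_c52)) = (LP (LK LD1_c1 LD2_c3 LD3_c26)) :=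
  Lre_b IH (LK LD1_c2 LD2_c12 LD3_c52) (LK LD1_c1 LD2_c3 LD3_c26) Lrfl Lrfl
theorem f354428 : Led Lsl_bt (LP (LK LD1_c2 LD2_c45 LD3_c58)) = (LP (LK LD1_c4 LD2_c31 LD3_c43)) :=
  Lgr Lrot62 (Lpe (K30.f354414 IH) (Lpe (K35.f226539 IH) (Lpr_af (f354360 IH) (Lpe (f168851 IH) (Lpe (K31.f354427 IH) (Lpn (LP (LK LD1_c4 LD2_c31 LD3_c43))))))))
theorem f354400 : Led Lsl_dt (LP (LK LD1_c1 LD2_c19 LD3_c21)) = (LP (LK LD1_c2 LD2_c45 LD3_c58)) :=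
  Lre_d IH (LK LD1_c1 LD2_c19 LD3_c21) (LK LD1_c2 LD2_c45 LD3_c58) Lrfl Lrfl
theorem f354442 : Led Lsl_dt (LP (LK LD1_c4 LD2_c31 LD3_c43)) = (LP (LK LD1_c2 LD2_c12 LD3_c51)) :=
  Lre_d IH (LK LD1_c4 LD2_c31 LD3_c43) (LK LD1_c2 LD2_c12 LD3_c51) Lrfl Lrfl
theorem f354443 : Led Lsl_bf (LP (LK LD1_c1 LD2_c19 LD3_c21)) = (LP (LK LD1_c2 LD2_c12 LD3_c51)) :=
  Lgr Lrot93 (Lpr_dt (f354400 IH) (Lpr_bt (f354428 IH) (Lpr_dt (f354442 IH) (Lpn (LP (LK LD1_c2 LD2_c12 LD3_c51))))))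
def v1465 : LQ := Led Lsl_et (LP (LK LD1_c1 LD2_c19 LD3_c21))
theorem f495706 : Led Lsl_et (LP (LK LD1_c1 LD2_c19 LD3_c21)) = v1465 :=
  Lrfl
theorem f501281 : Led Lsl_bt v1465 = K35.v1751 :=
  Lgr Lrot119 (Lpe (f495706 IH) (Lpr_bf (f354443 IH) (Lpr_ef (f501275 IH) (Lpn K35.v1751))))
theorem f495708 : Led Lsl_ef (LP (LK LD1_c1 LD2_c19 LD3_c21)) = v1465 :=
  Lgr Lrot88 (Lpr_et (f495706 IH) (Lpn v1465))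
def v375 : LQ := Led Lsl_et (LP (LK LD1_c0 LD2_c36 LD3_c38))
theorem f452504 : Led Lsl_et (LP (LK LD1_c0 LD2_c36 LD3_c38)) = v375 :=
  Lrfl
theorem f495709 : Led Lsl_at v375 = v1465 :=
  Lgr Lrot80 (Lpe (f452504 IH) (Lpe (K35.f354426 IH) (Lpr_ef (f495708 IH) (Lpn v1465))))
theorem f250184 : Led Lsl_dt (LP (LK LD1_c2 LD2_c30 LD3_c54)) = (LP (LK LD1_c1 LD2_c13 LD3_c27)) :=
  Lgr Lrot42 (Lpr_df (K14.f250182 IH) (Lpn (LP (LK LD1_c1 LD2_c13 LD3_c27))))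
theorem f313857 : Led Lsl_af (LP (LK LD1_c1 LD2_c12 LD3_c6)) = (LP (LK LD1_c1 LD2_c13 LD3_c27)) :=
  Lgr Lrot117 (Lpr_dt (K9.f164099 IH) (Lpr_at (K19.f313851 IH) (Lpr_dt (f250184 IH) (Lpn (LP (LK LD1_c1 LD2_c13 LD3_c27))))))
def v2868 : LQ := Led Lsl_et K30.v372
theorem f536014 : Led Lsl_et K30.v372 = v2868 :=
  Lrfl
theorem f452492 : Led Lsl_ct (LP (LK LD1_c0 LD2_c36 LD3_c38)) = K30.v372 :=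
  Lgr Lrot59 (Lpr_cf (K30.f452491 IH) (Lpn K30.v372))
theorem f452506 : Led Lsl_ef (LP (LK LD1_c0 LD2_c36 LD3_c38)) = v375 :=
  Lgr Lrot88 (Lpr_et (f452504 IH) (Lpn v375))
theorem f536016 : Led Lsl_cf v375 = v2868 :=
  Lgr Lrot39 (Lpe (f452506 IH) (Lpr_ct (f452492 IH) (Lpr_et (f536014 IH) (Lpn v2868))))
theorem f536017 : Led Lsl_ef K30.v372 = v2868 :=
  Lgr Lrot88 (Lpr_et (f536014 IH) (Lpn v2868))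
theorem f536018 : Led Lsl_bt K35.v373 = v2868 :=
  Lgr Lrot119 (Lpe (K35.f452495 IH) (Lpr_bf (K30.f452490 IH) (Lpr_ef (f536017 IH) (Lpn v2868))))
theorem f452411 : Led Lsl_ef (LP (LK LD1_c0 LD2_c37 LD3_c43)) = K35.v360 :=
  Lgr Lrot28 (Lpr_ct (K1.f37113 IH) (Lpe (K2.f37111 IH) (Lpr_ct (K35.f452409 IH) (Lpn K35.v360))))
theorem f452412 : Led Lsl_et (LP (LK LD1_c0 LD2_c37 LD3_c43)) = K35.v360 :=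
  Lgr Lrot87 (Lpr_ef (f452411 IH) (Lpn K35.v360))
theorem f536665 : (LP (LK LD1_c0 LD2_c37 LD3_c43)) = K35.v261 :=
  Lefun (Lecon (Lfl_df (K35.f452632 IH)) (K35.f536628 IH).symm) (K35.f451427 IH)
theorem f536734 : (LP (LK LD1_c0 LD2_c33 LD3_c41)) = K35.v360 :=
  Lefun (Lecon (Lfl_ef (K35.f451430 IH)) (f536665 IH).symm) (f452412 IH)
theorem f536846 : K35.v373 = (LP (LK LD1_c1 LD2_c12 LD3_c43)) :=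
  Lefun (Lecon (K35.f452500 IH) (f536734 IH).symm) (K19.f313426 IH)
theorem f537063 : v2868 = (LP (LK LD1_c0 LD2_c34 LD3_c1)) :=
  Lefun (Lecon (f536018 IH) (f536846 IH)) (Lfl_bf (K19.f225642 IH))
theorem f537200 : v375 = (LP (LK LD1_c1 LD2_c13 LD3_c27)) :=
  Lefun (Lecon (Lfl_cf (f536016 IH)) (f537063 IH)) (K9.f165499 IH)
theorem f537468 : v1465 = (LP (LK LD1_c1 LD2_c12 LD3_c6)) :=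
  Lefun (Lecon (f495709 IH) (f537200 IH)) (Lfl_af (f313857 IH))
theorem f537804 : K35.v1751 = (LP (LK LD1_c2 LD2_c30 LD3_c10)) :=
  Lefun (Lecon (f501281 IH) (f537468 IH)) (K36.f164694 IH)
theorem f495425 : Led Lsl_ct (LP (LK LD1_c2 LD2_c30 LD3_c16)) = (LP (LK LD1_c5 LD2_c5 LD3_c57)) :=
  Lre_c IH (LK LD1_c2 LD2_c30 LD3_c16) (LK LD1_c5 LD2_c5 LD3_c57) Lrfl Lrfl
theorem f545112 : Led Lsl_gf (LP (LK LD1_c4 LD2_c23 LD3_c57)) = (LP (LK LD1_c5 LD2_c5 LD3_c57)) :=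
  Lgr Lrot129 (Lpe (K8.f36548 IH) (Lpr_bt (K37.f36546 IH) (Lpqs (f544988 IH) (Lpr_gt (f501277 IH) (Lpqs (f537804 IH) (Lpe (K36.f164694 IH) (Lpr_ct (K9.f163704 IH) (Lpr_gt (K9.f163699 IH) (Lpe (K9.f164746 IH) (Lpr_bt (K11.f3130 IH) (Lpr_gt (K37.f3131 IH) (Lpr_ct (f495425 IH) (Lpn (LP (LK LD1_c5 LD2_c5 LD3_c57)))))))))))))))
theorem f82079 : Led Lsl_et (LP (LK LD1_c0 LD2_c38 LD3_c30)) = (LP (LK LD1_c1 LD2_c23 LD3_c13)) :=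
  Lre_e IH (LK LD1_c0 LD2_c38 LD3_c30) (LK LD1_c1 LD2_c23 LD3_c13) Lrfl Lrfl
theorem f24489 : Led Lsl_gt (LP (LK LD1_c1 LD2_c23 LD3_c13)) = (LP (LK LD1_c2 LD2_c54 LD3_c30)) :=
  Lre_g IH (LK LD1_c1 LD2_c23 LD3_c13) (LK LD1_c2 LD2_c54 LD3_c30) Lrfl Lrfl
theorem f119836 : Led Lsl_dt (LP (LK LD1_c2 LD2_c54 LD3_c30)) = (LP (LK LD1_c5 LD2_c56 LD3_c22)) :=
  Lre_d IH (LK LD1_c2 LD2_c54 LD3_c30) (LK LD1_c5 LD2_c56 LD3_c22) Lrfl Lrfl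
theorem f119837 : Led Lsl_gt (LP (LK LD1_c5 LD2_c56 LD3_c22)) = (LP (LK LD1_c11 LD2_c38 LD3_c0)) :=
  Lre_g IH (LK LD1_c5 LD2_c56 LD3_c22) (LK LD1_c11 LD2_c38 LD3_c0) Lrfl Lrfl
theorem f545120 : Led Lsl_et (LP (LK LD1_c10 LD2_c2 LD3_c52)) = (LP (LK LD1_c5 LD2_c5 LD3_c57)) :=
  Lre_e IH (LK LD1_c10 LD2_c2 LD3_c52) (LK LD1_c5 LD2_c5 LD3_c57) Lrfl Lrfl
theorem f545123 : Led Lsl_df (LP (LK LD1_c11 LD2_c38 LD3_c0)) = (LP (LK LD1_c10 LD2_c2 LD3_c52)) :=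
  Lgr Lrot132 (Lpe (f119837 IH) (Lpe (f119836 IH) (Lpe (f24489 IH) (Lpe (f82079 IH) (Lpr_dt (K2.f69446 IH) (Lpe (K4.f81783 IH) (Lpr_df (K8.f119656 IH) (Lpr_et (K8.f36542 IH) (Lpr_gf (f545112 IH) (Lpe (f545120 IH) (Lpn (LP (LK LD1_c10 LD2_c2 LD3_c52)))))))))))))
theorem f545133 : Led Lsl_et (LP (LK LD1_c2 LD2_c54 LD3_c30)) = (LP (LK LD1_c4 LD2_c24 LD3_c42)) :=
  Lgr Lrot122 (Lpr_dt (f119836 IH) (Lpr_gt (f119837 IH) (Lpr_df (f545123 IH) (Lpr_et (f545120 IH) (Lpe (f545112 IH) (Lpr_dt (K35.f36555 IH) (Lpe (K35.f538611 IH) (Lpr_df (K35.f211606 IH) (Lpr_et (K35.f538613 IH) (Lpr_gt (K7.f142120 IH) (Lpn (LP (LK LD1_c4 LD2_c24 LD3_c42)))))))))))))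
theorem f545145 : Led Lsl_ef (LP (LK LD1_c2 LD2_c54 LD3_c30)) = (LP (LK LD1_c4 LD2_c24 LD3_c42)) :=
  Lgr Lrot88 (Lpr_et (f545133 IH) (Lpn (LP (LK LD1_c4 LD2_c24 LD3_c42))))
theorem f198269 : Led Lsl_ct (LP (LK LD1_c2 LD2_c54 LD3_c30)) = (LP (LK LD1_c5 LD2_c56 LD3_c21)) :=
  Lre_c IH (LK LD1_c2 LD2_c54 LD3_c30) (LK LD1_c5 LD2_c56 LD3_c21) Lrfl Lrfl
theorem f545151 : Led Lsl_et (LP (LK LD1_c5 LD2_c56 LD3_c21)) = (LP (LK LD1_c4 LD2_c25 LD3_c46)) :=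
  Lgr Lrot158 (Lpe (f198269 IH) (Lpr_ef (f545145 IH) (Lpe (K6.f70481 IH) (Lpn (LP (LK LD1_c4 LD2_c25 LD3_c46))))))
theorem f545251 : Led Lsl_bf (LP (LK LD1_c5 LD2_c56 LD3_c21)) = (LP (LK LD1_c5 LD2_c50 LD3_c57)) :=
  Lgr Lrot96 (Lpr_et (f545151 IH) (Lpr_bt (K7.f137874 IH) (Lpr_et (K6.f119697 IH) (Lpn (LP (LK LD1_c5 LD2_c50 LD3_c57))))))
theorem f545256 : Led Lsl_dt (LP (LK LD1_c5 LD2_c56 LD3_c21)) = (LP (LK LD1_c11 LD2_c37 LD3_c61)) :=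
  Lre_d IH (LK LD1_c5 LD2_c56 LD3_c21) (LK LD1_c11 LD2_c37 LD3_c61) Lrfl Lrfl
theorem f137832 : Led Lsl_dt (LP (LK LD1_c11 LD2_c29 LD3_c24)) = (LP (LK LD1_c5 LD2_c50 LD3_c57)) :=
  Lre_d IH (LK LD1_c11 LD2_c29 LD3_c24) (LK LD1_c5 LD2_c50 LD3_c57) Lrfl Lrfl
theorem f545264 : Led Lsl_bt (LP (LK LD1_c11 LD2_c37 LD3_c61)) = (LP (LK LD1_c11 LD2_c29 LD3_c24)) :=
  Lgr Lrot95 (Lpe (f545256 IH) (Lpr_bf (f545251 IH) (Lpe (f137832 IH) (Lpn (LP (LK LD1_c11 LD2_c29 LD3_c24))))))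
theorem f545280 : Led Lsl_bf (LP (LK LD1_c11 LD2_c37 LD3_c61)) = (LP (LK LD1_c11 LD2_c29 LD3_c24)) :=
  Lgr Lrot24 (Lpr_bt (f545264 IH) (Lpn (LP (LK LD1_c11 LD2_c29 LD3_c24))))
theorem f494472 : Led Lsl_ef (LP (LK LD1_c1 LD2_c4 LD3_c56)) = K37.v1274 :=
  Lgr Lrot88 (Lpr_et (K37.f494469 IH) (Lpn K37.v1274))
theorem f494473 : Led Lsl_bt (LP (LK LD1_c1 LD2_c4 LD3_c59)) = K37.v1274 :=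
  Lgr Lrot119 (Lpe (K35.f99670 IH) (Lpe (K35.f93461 IH) (Lpr_ef (f494472 IH) (Lpn K37.v1274))))
theorem f545266 : Led Lsl_gt (LP (LK LD1_c5 LD2_c56 LD3_c21)) = (LP (LK LD1_c5 LD2_c0 LD3_c3)) :=
  Lgr Lrot82 (Lpr_bf (f545251 IH) (Lpe (K6.f137826 IH) (Lpe (K35.f538570 IH) (Lpqs (K35.f537988 IH) (Lpe (K35.f494478 IH) (Lpr_bt (f494473 IH) (Lpq (K37.f537556 IH) (Lpe (K9.f101494 IH) (Lpe (K31.f175578 IH) (Lpr_ct (K31.f101288 IH) (Lpe (K31.f99767 IH) (Lpr_cf (K31.f175579 IH) (Lpn (LP (LK LD1_c5 LD2_c0 LD3_c3)))))))))))))))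
theorem f101289 : Led Lsl_dt (LP (LK LD1_c4 LD2_c33 LD3_c25)) = (LP (LK LD1_c2 LD2_c13 LD3_c38)) :=
  Lre_d IH (LK LD1_c4 LD2_c33 LD3_c25) (LK LD1_c2 LD2_c13 LD3_c38) Lrfl Lrfl
theorem f99692 : Led Lsl_ct (LP (LK LD1_c9 LD2_c4 LD3_c24)) = (LP (LK LD1_c4 LD2_c33 LD3_c25)) :=
  Lre_c IH (LK LD1_c9 LD2_c4 LD3_c24) (LK LD1_c4 LD2_c33 LD3_c25) Lrfl Lrfl
theorem f175588 : Led Lsl_gt (LP (LK LD1_c16 LD2_c55 LD3_c59)) = (LP (LK LD1_c9 LD2_c4 LD3_c24)) :=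
  Lre_g IH (LK LD1_c16 LD2_c55 LD3_c59) (LK LD1_c9 LD2_c4 LD3_c24) Lrfl Lrfl
theorem f175397 : Led Lsl_bt (LP (LK LD1_c4 LD2_c33 LD3_c25)) = (LP (LK LD1_c2 LD2_c13 LD3_c49)) :=
  Lre_b IH (LK LD1_c4 LD2_c33 LD3_c25) (LK LD1_c2 LD2_c13 LD3_c49) Lrfl Lrfl
theorem f9406 : Led Lsl_ct (LP (LK LD1_c4 LD2_c33 LD3_c25)) = (LP (LK LD1_c9 LD2_c4 LD3_c24)) :=
  Lre_c IH (LK LD1_c4 LD2_c33 LD3_c25) (LK LD1_c9 LD2_c4 LD3_c24) Lrfl Lrfl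
theorem f139365 : Led Lsl_gt (LP (LK LD1_c2 LD2_c27 LD3_c49)) = (LP (LK LD1_c5 LD2_c0 LD3_c5)) :=
  Lre_g IH (LK LD1_c2 LD2_c27 LD3_c49) (LK LD1_c5 LD2_c0 LD3_c5) Lrfl Lrfl
theorem f100514 : Led Lsl_bt (LP (LK LD1_c9 LD2_c50 LD3_c43)) = (LP (LK LD1_c5 LD2_c0 LD3_c5)) :=
  Lre_b IH (LK LD1_c9 LD2_c50 LD3_c43) (LK LD1_c5 LD2_c0 LD3_c5) Lrfl Lrfl
theorem f175598 : Led Lsl_cf (LP (LK LD1_c16 LD2_c55 LD3_c59)) = (LP (LK LD1_c9 LD2_c50 LD3_c43)) :=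
  Lgr Lrot160 (Lpr_gt (f175588 IH) (Lpe (f9406 IH) (Lpr_bt (f175397 IH) (Lpr_gt (K9.f9416 IH) (Lpr_ct (K10.f9420 IH) (Lpr_gt (K10.f175576 IH) (Lpe (K9.f100616 IH) (Lpr_bt (K9.f100484 IH) (Lpr_gt (f139365 IH) (Lpe (f100514 IH) (Lpn (LP (LK LD1_c9 LD2_c50 LD3_c43)))))))))))))
theorem f545268 : Led Lsl_gt (LP (LK LD1_c11 LD2_c37 LD3_c61)) = (LP (LK LD1_c9 LD2_c50 LD3_c43)) :=
  Lgr Lrot9 (Lpe (f545256 IH) (Lpr_gt (f545266 IH) (Lpe (K31.f175579 IH) (Lpr_gt (K31.f99767 IH) (Lpr_ct (K37.f101290 IH) (Lpe (f101289 IH) (Lpe (f99692 IH) (Lpe (f175588 IH) (Lpr_cf (f175598 IH) (Lpn (LP (LK LD1_c9 LD2_c50 LD3_c43))))))))))))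
theorem f175616 : Led Lsl_ct (LP (LK LD1_c2 LD2_c57 LD3_c61)) = (LP (LK LD1_c6 LD2_c3 LD3_c48)) :=
  Lre_c IH (LK LD1_c2 LD2_c57 LD3_c61) (LK LD1_c6 LD2_c3 LD3_c48) Lrfl Lrfl
theorem f175617 : Led Lsl_gt (LP (LK LD1_c6 LD2_c3 LD3_c48)) = (LP (LK LD1_c11 LD2_c51 LD3_c6)) :=
  Lre_g IH (LK LD1_c6 LD2_c3 LD3_c48) (LK LD1_c11 LD2_c51 LD3_c6) Lrfl Lrfl
theorem f545284 : Led Lsl_cf (LP (LK LD1_c11 LD2_c51 LD3_c6)) = (LP (LK LD1_c11 LD2_c29 LD3_c24)) :=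
  Lgr Lrot58 (Lpe (f175617 IH) (Lpe (f175616 IH) (Lpr_bt (K36.f175390 IH) (Lpe (K9.f9416 IH) (Lpe (f175397 IH) (Lpr_ct (f9406 IH) (Lpe (f175588 IH) (Lpr_cf (f175598 IH) (Lpe (f545268 IH) (Lpr_bf (f545280 IH) (Lpn (LP (LK LD1_c11 LD2_c29 LD3_c24)))))))))))))
theorem f545288 : Led Lsl_ct (LP (LK LD1_c11 LD2_c51 LD3_c6)) = (LP (LK LD1_c11 LD2_c29 LD3_c24)) :=
  Lgr Lrot59 (Lpr_cf (f545284 IH) (Lpn (LP (LK LD1_c11 LD2_c29 LD3_c24))))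
theorem f149694 : Led Lsl_dt (LP (LK LD1_c5 LD2_c50 LD3_c57)) = (LP (LK LD1_c11 LD2_c29 LD3_c24)) :=
  Lre_d IH (LK LD1_c5 LD2_c50 LD3_c57) (LK LD1_c11 LD2_c29 LD3_c24) Lrfl Lrfl
theorem f137830 : Led Lsl_ct (LP (LK LD1_c4 LD2_c24 LD3_c34)) = (LP (LK LD1_c5 LD2_c50 LD3_c57)) :=
  Lgr Lrot59 (Lpr_cf (K6.f137826 IH) (Lpn (LP (LK LD1_c5 LD2_c50 LD3_c57))))
theorem f545293 : Led Lsl_gf (LP (LK LD1_c2 LD2_c57 LD3_c61)) = (LP (LK LD1_c4 LD2_c37 LD3_c36)) :=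
  Lgr Lrot147 (Lpr_ct (f175616 IH) (Lpr_gt (f175617 IH) (Lpr_ct (f545288 IH) (Lpe (f149694 IH) (Lpe (f137830 IH) (Lpe (K35.f538570 IH) (Lpqs (K35.f537988 IH) (Lpe (K35.f494478 IH) (Lpe (K36.f99671 IH) (Lpe (K36.f537983 IH) (Lpn (LP (LK LD1_c4 LD2_c37 LD3_c36)))))))))))))
theorem f175604 : Led Lsl_bt (LP (LK LD1_c5 LD2_c0 LD3_c5)) = (LP (LK LD1_c9 LD2_c50 LD3_c43)) :=
  Lre_b IH (LK LD1_c5 LD2_c0 LD3_c5) (LK LD1_c9 LD2_c50 LD3_c43) Lrfl Lrfl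
theorem f175601 : Led Lsl_ct (LP (LK LD1_c5 LD2_c0 LD3_c5)) = (LP (LK LD1_c9 LD2_c50 LD3_c44)) :=
  Lre_c IH (LK LD1_c5 LD2_c0 LD3_c5) (LK LD1_c9 LD2_c50 LD3_c44) Lrfl Lrfl
theorem f500693 : Led Lsl_ct (LP (LK LD1_c2 LD2_c55 LD3_c60)) = (LP (LK LD1_c5 LD2_c59 LD3_c11)) :=
  Lre_c IH (LK LD1_c2 LD2_c55 LD3_c60) (LK LD1_c5 LD2_c59 LD3_c11) Lrfl Lrfl
theorem f545297 : Led Lsl_gt (LP (LK LD1_c9 LD2_c50 LD3_c44)) = (LP (LK LD1_c5 LD2_c59 LD3_c11)) :=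
  Lgr Lrot65 (Lpe (f175601 IH) (Lpr_bt (f175604 IH) (Lpe (f545268 IH) (Lpr_bf (f545280 IH) (Lpe (f545284 IH) (Lpe (f175617 IH) (Lpe (f175616 IH) (Lpr_gf (f545293 IH) (Lpr_bf (K36.f541524 IH) (Lpr_ct (f500693 IH) (Lpn (LP (LK LD1_c5 LD2_c59 LD3_c11)))))))))))))
theorem f175605 : Led Lsl_ct (LP (LK LD1_c9 LD2_c50 LD3_c44)) = (LP (LK LD1_c5 LD2_c0 LD3_c5)) :=
  Lre_c IH (LK LD1_c9 LD2_c50 LD3_c44) (LK LD1_c5 LD2_c0 LD3_c5) Lrfl Lrfl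
theorem f100513 : Led Lsl_gt (LP (LK LD1_c5 LD2_c0 LD3_c5)) = (LP (LK LD1_c9 LD2_c45 LD3_c12)) :=
  Lre_g IH (LK LD1_c5 LD2_c0 LD3_c5) (LK LD1_c9 LD2_c45 LD3_c12) Lrfl Lrfl
theorem f100504 : Led Lsl_dt (LP (LK LD1_c9 LD2_c45 LD3_c12)) = (LP (LK LD1_c4 LD2_c57 LD3_c2)) :=
  Lre_d IH (LK LD1_c9 LD2_c45 LD3_c12) (LK LD1_c4 LD2_c57 LD3_c2) Lrfl Lrfl
theorem f101760 : Led Lsl_dt (LP (LK LD1_c2 LD2_c27 LD3_c23)) = (LP (LK LD1_c4 LD2_c58 LD3_c61)) :=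
  Lre_d IH (LK LD1_c2 LD2_c27 LD3_c23) (LK LD1_c4 LD2_c58 LD3_c61) Lrfl Lrfl
theorem f545299 : Led Lsl_ct (LP (LK LD1_c4 LD2_c58 LD3_c61)) = (LP (LK LD1_c9 LD2_c48 LD3_c25)) :=
  Lre_c IH (LK LD1_c4 LD2_c58 LD3_c61) (LK LD1_c9 LD2_c48 LD3_c25) Lrfl Lrfl
theorem f539825 : Led Lsl_dt (LP (LK LD1_c17 LD2_c58 LD3_c40)) = (LP (LK LD1_c9 LD2_c48 LD3_c25)) :=
  Lre_d IH (LK LD1_c17 LD2_c58 LD3_c40) (LK LD1_c9 LD2_c48 LD3_c25) Lrfl Lrfl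
theorem f500757 : Led Lsl_dt (LP (LK LD1_c5 LD2_c59 LD3_c11)) = (LP (LK LD1_c11 LD2_c42 LD3_c53)) :=
  Lre_d IH (LK LD1_c5 LD2_c59 LD3_c11) (LK LD1_c11 LD2_c42 LD3_c53) Lrfl Lrfl
theorem f545300 : Led Lsl_gf (LP (LK LD1_c17 LD2_c58 LD3_c40)) = (LP (LK LD1_c11 LD2_c42 LD3_c53)) :=
  Lgr Lrot143 (Lpr_dt (f539825 IH) (Lpe (f545299 IH) (Lpe (f101760 IH) (Lpq (K36.f539786 IH) (Lpe (K36.f495288 IH) (Lpe (f100504 IH) (Lpe (f100513 IH) (Lpe (f175605 IH) (Lpr_gt (f545297 IH) (Lpr_dt (f500757 IH) (Lpn (LP (LK LD1_c11 LD2_c42 LD3_c53)))))))))))))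
theorem f418976 : Led Lsl_dt (LP (LK LD1_c5 LD2_c53 LD3_c2)) = (LP (LK LD1_c11 LD2_c32 LD3_c14)) :=
  Lre_d IH (LK LD1_c5 LD2_c53 LD3_c2) (LK LD1_c11 LD2_c32 LD3_c14) Lrfl Lrfl
theorem f26641 : Led Lsl_dt (LP (LK LD1_c16 LD2_c59 LD3_c7)) = (LP (LK LD1_c9 LD2_c6 LD3_c58)) :=
  Lre_d IH (LK LD1_c16 LD2_c59 LD3_c7) (LK LD1_c9 LD2_c6 LD3_c58) Lrfl Lrfl
theorem f449356 : Led Lsl_ft (LP (LK LD1_c11 LD2_c32 LD3_c14)) = (LP (LK LD1_c16 LD2_c59 LD3_c7)) :=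
  Lgr Lrot54 (Lpe (f418976 IH) (Lpr_ff (K36.f449352 IH) (Lpe (f26641 IH) (Lpn (LP (LK LD1_c16 LD2_c59 LD3_c7))))))
theorem f418972 : Led Lsl_ct (LP (LK LD1_c20 LD2_c28 LD3_c58)) = (LP (LK LD1_c11 LD2_c32 LD3_c14)) :=
  Lre_c IH (LK LD1_c20 LD2_c28 LD3_c58) (LK LD1_c11 LD2_c32 LD3_c14) Lrfl Lrfl
theorem f539851 : Led Lsl_ft (LP (LK LD1_c11 LD2_c42 LD3_c53)) = (LP (LK LD1_c20 LD2_c28 LD3_c58)) :=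
  Lgr Lrot4 (Lpr_cf (K36.f539844 IH) (Lpe (f449356 IH) (Lpe (f418972 IH) (Lpn (LP (LK LD1_c20 LD2_c28 LD3_c58))))))
theorem f418977 : Led Lsl_ct (LP (LK LD1_c11 LD2_c32 LD3_c14)) = (LP (LK LD1_c20 LD2_c28 LD3_c58)) :=
  Lre_c IH (LK LD1_c11 LD2_c32 LD3_c14) (LK LD1_c20 LD2_c28 LD3_c58) Lrfl Lrfl
theorem f211091 : Led Lsl_dt (LP (LK LD1_c5 LD2_c53 LD3_c9)) = (LP (LK LD1_c2 LD2_c52 LD3_c55)) :=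
  Lre_d IH (LK LD1_c5 LD2_c53 LD3_c9) (LK LD1_c2 LD2_c52 LD3_c55) Lrfl Lrfl
theorem f211092 : Led Lsl_ct (LP (LK LD1_c11 LD2_c32 LD3_c25)) = (LP (LK LD1_c5 LD2_c53 LD3_c9)) :=
  Lre_c IH (LK LD1_c11 LD2_c32 LD3_c25) (LK LD1_c5 LD2_c53 LD3_c9) Lrfl Lrfl
theorem f449313 : Led Lsl_dt (LP (LK LD1_c20 LD2_c28 LD3_c58)) = (LP (LK LD1_c11 LD2_c32 LD3_c25)) :=
  Lgr Lrot140 (Lpe (f418977 IH) (Lpe (f418976 IH) (Lpe (K36.f380378 IH) (Lpe (K36.f211801 IH) (Lpr_ft (K36.f449309 IH) (Lpr_at (K36.f211070 IH) (Lpr_cf (K36.f211084 IH) (Lpe (f211091 IH) (Lpe (f211092 IH) (Lpn (LP (LK LD1_c11 LD2_c32 LD3_c25))))))))))))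
theorem f449317 : Led Lsl_df (LP (LK LD1_c20 LD2_c28 LD3_c58)) = (LP (LK LD1_c11 LD2_c32 LD3_c25)) :=
  Lgr Lrot38 (Lpr_dt (f449313 IH) (Lpn (LP (LK LD1_c11 LD2_c32 LD3_c25))))
theorem f211090 : Led Lsl_at (LP (LK LD1_c5 LD2_c53 LD3_c12)) = (LP (LK LD1_c11 LD2_c32 LD3_c25)) :=
  Lre_a IH (LK LD1_c5 LD2_c53 LD3_c12) (LK LD1_c11 LD2_c32 LD3_c25) Lrfl Lrfl
theorem f211078 : Led Lsl_dt (LP (LK LD1_c11 LD2_c32 LD3_c30)) = (LP (LK LD1_c5 LD2_c53 LD3_c12)) :=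
  Lre_d IH (LK LD1_c11 LD2_c32 LD3_c30) (LK LD1_c5 LD2_c53 LD3_c12) Lrfl Lrfl
theorem f449320 : Led Lsl_at (LP (LK LD1_c20 LD2_c28 LD3_c58)) = (LP (LK LD1_c11 LD2_c32 LD3_c30)) :=
  Lgr Lrot51 (Lpr_df (f449317 IH) (Lpe (f211090 IH) (Lpe (f211078 IH) (Lpn (LP (LK LD1_c11 LD2_c32 LD3_c30))))))
theorem f545311 : Led Lsl_gt (LP (LK LD1_c17 LD2_c58 LD3_c40)) = (LP (LK LD1_c11 LD2_c32 LD3_c30)) :=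
  Lgr Lrot46 (Lpr_gf (f545300 IH) (Lpr_ft (f539851 IH) (Lpr_at (f449320 IH) (Lpn (LP (LK LD1_c11 LD2_c32 LD3_c30))))))
theorem f545305 : Led Lsl_dt (LP (LK LD1_c9 LD2_c48 LD3_c25)) = (LP (LK LD1_c17 LD2_c58 LD3_c40)) :=
  Lre_d IH (LK LD1_c9 LD2_c48 LD3_c25) (LK LD1_c17 LD2_c58 LD3_c40) Lrfl Lrfl
theorem f211095 : Led Lsl_ct (LP (LK LD1_c2 LD2_c52 LD3_c56)) = (LP (LK LD1_c5 LD2_c53 LD3_c12)) :=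
  Lre_c IH (LK LD1_c2 LD2_c52 LD3_c56) (LK LD1_c5 LD2_c53 LD3_c12) Lrfl Lrfl
theorem f211094 : Led Lsl_dt (LP (LK LD1_c1 LD2_c22 LD3_c32)) = (LP (LK LD1_c2 LD2_c52 LD3_c56)) :=
  Lre_d IH (LK LD1_c1 LD2_c22 LD3_c32) (LK LD1_c2 LD2_c52 LD3_c56) Lrfl Lrfl
def v1619 : LQ := Led Lsl_gf (LP (LK LD1_c1 LD2_c22 LD3_c32))
theorem f500395 : Led Lsl_gf (LP (LK LD1_c1 LD2_c22 LD3_c32)) = v1619 :=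
  Lrfl
theorem f539221 : (LP (LK LD1_c0 LD2_c38 LD3_c46)) = v1619 :=
  Lefun (Lecon (Lfl_gt (K36.f452858 IH)) (K36.f539219 IH)) (f500395 IH)
theorem f383267 : Led Lsl_dt (LP (LK LD1_c1 LD2_c23 LD3_c57)) = (LP (LK LD1_c0 LD2_c38 LD3_c46)) :=
  Lre_d IH (LK LD1_c1 LD2_c23 LD3_c57) (LK LD1_c0 LD2_c38 LD3_c46) Lrfl Lrfl
theorem f75546 : Led Lsl_gt (LP (LK LD1_c2 LD2_c55 LD3_c61)) = (LP (LK LD1_c1 LD2_c23 LD3_c57)) :=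
  Lre_g IH (LK LD1_c2 LD2_c55 LD3_c61) (LK LD1_c1 LD2_c23 LD3_c57) Lrfl Lrfl
theorem f383270 : Led Lsl_ct (LP (LK LD1_c5 LD2_c59 LD3_c13)) = (LP (LK LD1_c2 LD2_c55 LD3_c61)) :=
  Lre_c IH (LK LD1_c5 LD2_c59 LD3_c13) (LK LD1_c2 LD2_c55 LD3_c61) Lrfl Lrfl
theorem f545316 : Led Lsl_gf (LP (LK LD1_c9 LD2_c48 LD3_c25)) = (LP (LK LD1_c5 LD2_c59 LD3_c13)) :=
  Lgr Lrot144 (Lpr_dt (f545305 IH) (Lpr_gt (f545311 IH) (Lpr_dt (f211078 IH) (Lpe (f211095 IH) (Lpe (f211094 IH) (Lpr_gf (f500395 IH) (Lpq (f539221 IH) (Lpe (f383267 IH) (Lpe (f75546 IH) (Lpe (f383270 IH) (Lpn (LP (LK LD1_c5 LD2_c59 LD3_c13)))))))))))))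
theorem f539824 : Led Lsl_ct (LP (LK LD1_c9 LD2_c48 LD3_c25)) = (LP (LK LD1_c4 LD2_c58 LD3_c61)) :=
  Lre_c IH (LK LD1_c9 LD2_c48 LD3_c25) (LK LD1_c4 LD2_c58 LD3_c61) Lrfl Lrfl
theorem f101719 : Led Lsl_dt (LP (LK LD1_c4 LD2_c58 LD3_c61)) = (LP (LK LD1_c2 LD2_c27 LD3_c23)) :=
  Lre_d IH (LK LD1_c4 LD2_c58 LD3_c61) (LK LD1_c2 LD2_c27 LD3_c23) Lrfl Lrfl
theorem f24263 : Led Lsl_dt (LP (LK LD1_c2 LD2_c52 LD3_c54)) = (LP (LK LD1_c5 LD2_c53 LD3_c8)) :=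
  Lre_d IH (LK LD1_c2 LD2_c52 LD3_c54) (LK LD1_c5 LD2_c53 LD3_c8) Lrfl Lrfl
theorem f383273 : Led Lsl_ct (LP (LK LD1_c2 LD2_c55 LD3_c61)) = (LP (LK LD1_c5 LD2_c59 LD3_c13)) :=
  Lre_c IH (LK LD1_c2 LD2_c55 LD3_c61) (LK LD1_c5 LD2_c59 LD3_c13) Lrfl Lrfl
theorem f545318 : Led Lsl_gt (LP (LK LD1_c5 LD2_c53 LD3_c8)) = (LP (LK LD1_c2 LD2_c55 LD3_c61)) :=
  Lgr Lrot9 (Lpe (f24263 IH) (Lpq (K36.f539211 IH) (Lpe (K36.f500691 IH) (Lpr_ct (K36.f500755 IH) (Lpqs (K36.f539836 IH) (Lpr_gt (K36.f72493 IH) (Lpr_ct (K6.f101713 IH) (Lpe (f101719 IH) (Lpe (f539824 IH) (Lpr_gf (f545316 IH) (Lpe (f383273 IH) (Lpn (LP (LK LD1_c2 LD2_c55 LD3_c61))))))))))))))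
theorem f428341 : Led Lsl_at (LP (LK LD1_c2 LD2_c55 LD3_c42)) = (LP (LK LD1_c1 LD2_c23 LD3_c57)) :=
  Lre_a IH (LK LD1_c2 LD2_c55 LD3_c42) (LK LD1_c1 LD2_c23 LD3_c57) Lrfl Lrfl
theorem f545325 : Led Lsl_ft (LP (LK LD1_c5 LD2_c53 LD3_c8)) = (LP (LK LD1_c2 LD2_c55 LD3_c42)) :=
  Lgr Lrot2 (Lpr_gt (f545318 IH) (Lpr_gt (f75546 IH) (Lpe (f428341 IH) (Lpn (LP (LK LD1_c2 LD2_c55 LD3_c42))))))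
theorem f539091 : Led Lsl_dt (LP (LK LD1_c5 LD2_c53 LD3_c8)) = (LP (LK LD1_c2 LD2_c52 LD3_c54)) :=
  Lre_d IH (LK LD1_c5 LD2_c53 LD3_c8) (LK LD1_c2 LD2_c52 LD3_c54) Lrfl Lrfl
theorem f500888 : Led Lsl_ct (LP (LK LD1_c5 LD2_c45 LD3_c3)) = (LP (LK LD1_c11 LD2_c20 LD3_c32)) :=
  Lre_c IH (LK LD1_c5 LD2_c45 LD3_c3) (LK LD1_c11 LD2_c20 LD3_c32) Lrfl Lrfl
theorem f500669 : Led Lsl_ct (LP (LK LD1_c2 LD2_c56 LD3_c0)) = (LP (LK LD1_c1 LD2_c23 LD3_c57)) :=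
  Lre_c IH (LK LD1_c2 LD2_c56 LD3_c0) (LK LD1_c1 LD2_c23 LD3_c57) Lrfl Lrfl
theorem f500670 : Led Lsl_dt (LP (LK LD1_c5 LD2_c59 LD3_c18)) = (LP (LK LD1_c2 LD2_c56 LD3_c0)) :=
  Lre_d IH (LK LD1_c5 LD2_c59 LD3_c18) (LK LD1_c2 LD2_c56 LD3_c0) Lrfl Lrfl
theorem f545332 : Led Lsl_dt (LP (LK LD1_c11 LD2_c20 LD3_c32)) = (LP (LK LD1_c11 LD2_c43 LD3_c10)) :=
  Lgr Lrot140 (Lpe (f500888 IH) (Lpe (K36.f75542 IH) (Lpr_cf (K36.f500885 IH) (Lpqs (K36.f539086 IH) (Lpe (f539091 IH) (Lpr_ft (f545325 IH) (Lpr_at (f428341 IH) (Lpe (f500669 IH) (Lpe (f500670 IH) (Lpe (K36.f500671 IH) (Lpn (LP (LK LD1_c11 LD2_c43 LD3_c10)))))))))))))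
theorem f539094 : Led Lsl_ct (LP (LK LD1_c11 LD2_c32 LD3_c23)) = (LP (LK LD1_c5 LD2_c53 LD3_c8)) :=
  Lre_c IH (LK LD1_c11 LD2_c32 LD3_c23) (LK LD1_c5 LD2_c53 LD3_c8) Lrfl Lrfl
theorem f539095 : Led Lsl_dt (LP (LK LD1_c20 LD2_c29 LD3_c11)) = (LP (LK LD1_c11 LD2_c32 LD3_c23)) :=
  Lre_d IH (LK LD1_c20 LD2_c29 LD3_c11) (LK LD1_c11 LD2_c32 LD3_c23) Lrfl Lrfl
theorem f539399 : Led Lsl_at (LP (LK LD1_c11 LD2_c41 LD3_c36)) = (LP (LK LD1_c5 LD2_c59 LD3_c18)) :=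
  Lre_a IH (LK LD1_c11 LD2_c41 LD3_c36) (LK LD1_c5 LD2_c59 LD3_c18) Lrfl Lrfl
theorem f545348 : Led Lsl_ft (LP (LK LD1_c20 LD2_c29 LD3_c11)) = (LP (LK LD1_c11 LD2_c41 LD3_c36)) :=
  Lgr Lrot142 (Lpr_dt (f539095 IH) (Lpr_ct (f539094 IH) (Lpr_dt (f539091 IH) (Lpq (K36.f539086 IH) (Lpe (K36.f500885 IH) (Lpr_dt (K36.f75542 IH) (Lpr_ct (f500888 IH) (Lpr_dt (f545332 IH) (Lpr_ct (K36.f500671 IH) (Lpe (f539399 IH) (Lpn (LP (LK LD1_c11 LD2_c41 LD3_c36)))))))))))))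
theorem f545357 : Led Lsl_ff (LP (LK LD1_c20 LD2_c29 LD3_c11)) = (LP (LK LD1_c11 LD2_c41 LD3_c36)) :=
  Lgr Lrot3 (Lpr_ft (f545348 IH) (Lpn (LP (LK LD1_c11 LD2_c41 LD3_c36))))
theorem f500664 : Led Lsl_dt (LP (LK LD1_c5 LD2_c58 LD3_c35)) = (LP (LK LD1_c11 LD2_c41 LD3_c36)) :=
  Lre_d IH (LK LD1_c5 LD2_c58 LD3_c35) (LK LD1_c11 LD2_c41 LD3_c36) Lrfl Lrfl
theorem f545369 : Led Lsl_ft (LP (LK LD1_c11 LD2_c32 LD3_c23)) = (LP (LK LD1_c5 LD2_c58 LD3_c35)) :=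
  Lgr Lrot54 (Lpe (f539095 IH) (Lpr_ff (f545357 IH) (Lpe (f500664 IH) (Lpn (LP (LK LD1_c5 LD2_c58 LD3_c35))))))
theorem f545372 : Led Lsl_at (LP (LK LD1_c5 LD2_c58 LD3_c35)) = (LP (LK LD1_c2 LD2_c56 LD3_c0)) :=
  Lre_a IH (LK LD1_c5 LD2_c58 LD3_c35) (LK LD1_c2 LD2_c56 LD3_c0) Lrfl Lrfl
theorem f545373 : Led Lsl_ft (LP (LK LD1_c2 LD2_c56 LD3_c0)) = (LP (LK LD1_c5 LD2_c59 LD3_c19)) :=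
  Lre_f IH (LK LD1_c2 LD2_c56 LD3_c0) (LK LD1_c5 LD2_c59 LD3_c19) Lrfl Lrfl
theorem f545374 : Led Lsl_af (LP (LK LD1_c11 LD2_c32 LD3_c23)) = (LP (LK LD1_c5 LD2_c59 LD3_c19)) :=
  Lgr Lrot45 (Lpr_ft (f545369 IH) (Lpr_at (f545372 IH) (Lpr_ft (f545373 IH) (Lpn (LP (LK LD1_c5 LD2_c59 LD3_c19))))))
theorem f545406 : Led Lsl_at (LP (LK LD1_c5 LD2_c53 LD3_c8)) = (LP (LK LD1_c2 LD2_c56 LD3_c1)) :=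
  Lgr Lrot107 (Lpe (f539094 IH) (Lpr_af (f545374 IH) (Lpe (K36.f500665 IH) (Lpn (LP (LK LD1_c2 LD2_c56 LD3_c1))))))
theorem f539092 : Led Lsl_bf (LP (LK LD1_c5 LD2_c53 LD3_c8)) = (LP (LK LD1_c2 LD2_c56 LD3_c54)) :=
  Lgr Lrot93 (Lpr_dt (f539091 IH) (Lpq (K36.f539086 IH) (Lpe (K36.f500883 IH) (Lpr_dt (K36.f9395 IH) (Lpn (LP (LK LD1_c2 LD2_c56 LD3_c54)))))))
theorem f545447 : Led Lsl_bt (LP (LK LD1_c2 LD2_c56 LD3_c1)) = (LP (LK LD1_c5 LD2_c58 LD3_c50)) :=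
  Lre_b IH (LK LD1_c2 LD2_c56 LD3_c1) (LK LD1_c5 LD2_c58 LD3_c50) Lrfl Lrfl
theorem f428170 : Led Lsl_ft (LP (LK LD1_c2 LD2_c55 LD3_c49)) = (LP (LK LD1_c5 LD2_c58 LD3_c50)) :=
  Lre_f IH (LK LD1_c2 LD2_c55 LD3_c49) (LK LD1_c5 LD2_c58 LD3_c50) Lrfl Lrfl
theorem f539580 : Led Lsl_at (LP (LK LD1_c5 LD2_c58 LD3_c50)) = (LP (LK LD1_c11 LD2_c20 LD3_c31)) :=
  Lgr Lrot66 (Lpe (f428170 IH) (Lpe (K36.f428189 IH) (Lpr_ff (K36.f539578 IH) (Lpn (LP (LK LD1_c11 LD2_c20 LD3_c31))))))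
theorem f545448 : Led Lsl_af (LP (LK LD1_c2 LD2_c56 LD3_c54)) = (LP (LK LD1_c5 LD2_c45 LD3_c3)) :=
  Lgr Lrot36 (Lpe (f539092 IH) (Lpr_at (f545406 IH) (Lpr_bt (f545447 IH) (Lpr_at (f539580 IH) (Lpr_bt (K36.f539570 IH) (Lpn (LP (LK LD1_c5 LD2_c45 LD3_c3))))))))
theorem f500902 : Led Lsl_et (LP (LK LD1_c2 LD2_c56 LD3_c54)) = (LP (LK LD1_c6 LD2_c1 LD3_c28)) :=
  Lre_e IH (LK LD1_c2 LD2_c56 LD3_c54) (LK LD1_c6 LD2_c1 LD3_c28) Lrfl Lrfl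
theorem f539615 : Led Lsl_et (LP (LK LD1_c11 LD2_c20 LD3_c33)) = (LP (LK LD1_c5 LD2_c45 LD3_c3)) :=
  Lre_e IH (LK LD1_c11 LD2_c20 LD3_c33) (LK LD1_c5 LD2_c45 LD3_c3) Lrfl Lrfl
theorem f545452 : Led Lsl_at (LP (LK LD1_c6 LD2_c1 LD3_c28)) = (LP (LK LD1_c11 LD2_c20 LD3_c33)) :=
  Lgr Lrot80 (Lpe (f500902 IH) (Lpr_af (f545448 IH) (Lpe (f539615 IH) (Lpn (LP (LK LD1_c11 LD2_c20 LD3_c33))))))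
theorem f545457 : Led Lsl_af (LP (LK LD1_c6 LD2_c1 LD3_c28)) = (LP (LK LD1_c11 LD2_c20 LD3_c33)) :=
  Lgr Lrot0 (Lpr_at (f545452 IH) (Lpn (LP (LK LD1_c11 LD2_c20 LD3_c33))))
theorem f545364 : Led Lsl_et (LP (LK LD1_c11 LD2_c32 LD3_c23)) = (LP (LK LD1_c20 LD2_c29 LD3_c12)) :=
  Lre_e IH (LK LD1_c11 LD2_c32 LD3_c23) (LK LD1_c20 LD2_c29 LD3_c12) Lrfl Lrfl
theorem f545408 : Led Lsl_et (LP (LK LD1_c11 LD2_c43 LD3_c13)) = (LP (LK LD1_c5 LD2_c59 LD3_c19)) :=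
  Lre_e IH (LK LD1_c11 LD2_c43 LD3_c13) (LK LD1_c5 LD2_c59 LD3_c19) Lrfl Lrfl
theorem f545409 : Led Lsl_at (LP (LK LD1_c20 LD2_c29 LD3_c12)) = (LP (LK LD1_c11 LD2_c43 LD3_c13)) :=
  Lgr Lrot80 (Lpe (f545364 IH) (Lpr_af (f545374 IH) (Lpe (f545408 IH) (Lpn (LP (LK LD1_c11 LD2_c43 LD3_c13))))))
theorem f539116 : Led Lsl_ct (LP (LK LD1_c11 LD2_c32 LD3_c24)) = (LP (LK LD1_c20 LD2_c29 LD3_c12)) :=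
  Lre_c IH (LK LD1_c11 LD2_c32 LD3_c24) (LK LD1_c20 LD2_c29 LD3_c12) Lrfl Lrfl
theorem f386818 : Led Lsl_ct (LP (LK LD1_c11 LD2_c43 LD3_c13)) = (LP (LK LD1_c5 LD2_c59 LD3_c20)) :=
  Lre_c IH (LK LD1_c11 LD2_c43 LD3_c13) (LK LD1_c5 LD2_c59 LD3_c20) Lrfl Lrfl
theorem f545423 : Led Lsl_af (LP (LK LD1_c11 LD2_c32 LD3_c24)) = (LP (LK LD1_c5 LD2_c59 LD3_c20)) :=
  Lgr Lrot68 (Lpr_ct (f539116 IH) (Lpr_at (f545409 IH) (Lpr_ct (f386818 IH) (Lpn (LP (LK LD1_c5 LD2_c59 LD3_c20))))))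
theorem f386720 : Led Lsl_et (LP (LK LD1_c5 LD2_c58 LD3_c34)) = (LP (LK LD1_c2 LD2_c55 LD3_c41)) :=
  Lre_e IH (LK LD1_c5 LD2_c58 LD3_c34) (LK LD1_c2 LD2_c55 LD3_c41) Lrfl Lrfl
theorem f386721 : Led Lsl_af (LP (LK LD1_c5 LD2_c58 LD3_c34)) = (LP (LK LD1_c10 LD2_c3 LD3_c56)) :=
  Lgr Lrot50 (Lpr_et (f386720 IH) (Lpr_at (K27.f386711 IH) (Lpr_et (K36.f169715 IH) (Lpn (LP (LK LD1_c10 LD2_c3 LD3_c56))))))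
theorem f386724 : Led Lsl_at (LP (LK LD1_c5 LD2_c58 LD3_c34)) = (LP (LK LD1_c10 LD2_c3 LD3_c56)) :=
  Lgr Lrot100 (Lpr_af (f386721 IH) (Lpn (LP (LK LD1_c10 LD2_c3 LD3_c56))))
theorem f545432 : Led Lsl_dt (LP (LK LD1_c11 LD2_c32 LD3_c24)) = (LP (LK LD1_c5 LD2_c58 LD3_c34)) :=
  Lgr Lrot44 (Lpr_af (f545423 IH) (Lpr_df (K36.f386807 IH) (Lpe (f386724 IH) (Lpn (LP (LK LD1_c5 LD2_c58 LD3_c34))))))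
theorem f545436 : Led Lsl_df (LP (LK LD1_c11 LD2_c32 LD3_c24)) = (LP (LK LD1_c5 LD2_c58 LD3_c34)) :=
  Lgr Lrot38 (Lpr_dt (f545432 IH) (Lpn (LP (LK LD1_c5 LD2_c58 LD3_c34))))
theorem f539097 : Led Lsl_et (LP (LK LD1_c5 LD2_c53 LD3_c8)) = (LP (LK LD1_c11 LD2_c32 LD3_c24)) :=
  Lre_e IH (LK LD1_c5 LD2_c53 LD3_c8) (LK LD1_c11 LD2_c32 LD3_c24) Lrfl Lrfl
theorem f500900 : Led Lsl_et (LP (LK LD1_c6 LD2_c1 LD3_c28)) = (LP (LK LD1_c2 LD2_c56 LD3_c54)) :=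
  Lre_e IH (LK LD1_c6 LD2_c1 LD3_c28) (LK LD1_c2 LD2_c56 LD3_c54) Lrfl Lrfl
theorem f539104 : Led Lsl_bt (LP (LK LD1_c11 LD2_c32 LD3_c24)) = (LP (LK LD1_c6 LD2_c1 LD3_c28)) :=
  Lgr Lrot119 (Lpe (f539097 IH) (Lpr_bf (f539092 IH) (Lpe (f500900 IH) (Lpn (LP (LK LD1_c6 LD2_c1 LD3_c28))))))
theorem f386728 : Led Lsl_bt (LP (LK LD1_c11 LD2_c40 LD3_c26)) = (LP (LK LD1_c5 LD2_c58 LD3_c34)) :=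
  Lre_b IH (LK LD1_c11 LD2_c40 LD3_c26) (LK LD1_c5 LD2_c58 LD3_c34) Lrfl Lrfl
theorem f545438 : Led Lsl_dt (LP (LK LD1_c6 LD2_c1 LD3_c28)) = (LP (LK LD1_c11 LD2_c40 LD3_c26)) :=
  Lgr Lrot79 (Lpe (f539104 IH) (Lpr_df (f545436 IH) (Lpe (f386728 IH) (Lpn (LP (LK LD1_c11 LD2_c40 LD3_c26))))))
def v1702 : LQ := Led Lsl_et (LP (LK LD1_c1 LD2_c24 LD3_c13))
theorem f500923 : Led Lsl_et (LP (LK LD1_c1 LD2_c24 LD3_c13)) = v1702 :=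
  Lrfl
theorem f500925 : Led Lsl_ef (LP (LK LD1_c1 LD2_c24 LD3_c13)) = v1702 :=
  Lgr Lrot88 (Lpr_et (f500923 IH) (Lpn v1702))
theorem f539254 : (LP (LK LD1_c1 LD2_c23 LD3_c39)) = v1702 :=
  Lefun (Lecon (Lfl_ef (K36.f500660 IH)) (K36.f539245 IH).symm) (f500923 IH)
theorem f72546 : Led Lsl_ft (LP (LK LD1_c0 LD2_c38 LD3_c39)) = (LP (LK LD1_c1 LD2_c23 LD3_c39)) :=
  Lre_f IH (LK LD1_c0 LD2_c38 LD3_c39) (LK LD1_c1 LD2_c23 LD3_c39) Lrfl Lrfl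
theorem f56901 : Led Lsl_et (LP (LK LD1_c1 LD2_c23 LD3_c38)) = (LP (LK LD1_c0 LD2_c38 LD3_c39)) :=
  Lre_e IH (LK LD1_c1 LD2_c23 LD3_c38) (LK LD1_c0 LD2_c38 LD3_c39) Lrfl Lrfl
theorem f539338 : Led Lsl_ef (LP (LK LD1_c2 LD2_c55 LD3_c25)) = (LP (LK LD1_c2 LD2_c48 LD3_c19)) :=
  Lgr Lrot21 (Lpr_ft (K24.f426205 IH) (Lpr_et (f56901 IH) (Lpr_ft (f72546 IH) (Lpqs (f539254 IH) (Lpe (f500925 IH) (Lpr_ft (K36.f500877 IH) (Lpq (K36.f539329 IH) (Lpn (LP (LK LD1_c2 LD2_c48 LD3_c19))))))))))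
theorem f500889 : Led Lsl_dt (LP (LK LD1_c5 LD2_c45 LD3_c3)) = (LP (LK LD1_c2 LD2_c48 LD3_c19)) :=
  Lre_d IH (LK LD1_c5 LD2_c45 LD3_c3) (LK LD1_c2 LD2_c48 LD3_c19) Lrfl Lrfl
theorem f539616 : Led Lsl_et (LP (LK LD1_c3 LD2_c0 LD3_c14)) = (LP (LK LD1_c6 LD2_c8 LD3_c1)) :=
  Lre_e IH (LK LD1_c3 LD2_c0 LD3_c14) (LK LD1_c6 LD2_c8 LD3_c1) Lrfl Lrfl
theorem f539617 : Led Lsl_df (LP (LK LD1_c11 LD2_c20 LD3_c33)) = (LP (LK LD1_c6 LD2_c8 LD3_c1)) :=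
  Lgr Lrot70 (Lpr_et (f539615 IH) (Lpr_dt (f500889 IH) (Lpe (f539338 IH) (Lpr_dt (K36.f539605 IH) (Lpr_et (f539616 IH) (Lpn (LP (LK LD1_c6 LD2_c8 LD3_c1))))))))
theorem f545550 : Led Lsl_at (LP (LK LD1_c11 LD2_c40 LD3_c26)) = (LP (LK LD1_c6 LD2_c8 LD3_c1)) :=
  Lgr Lrot51 (Lpe (f545438 IH) (Lpr_af (f545457 IH) (Lpr_df (f539617 IH) (Lpn (LP (LK LD1_c6 LD2_c8 LD3_c1))))))
theorem f386726 : Led Lsl_bt (LP (LK LD1_c5 LD2_c58 LD3_c34)) = (LP (LK LD1_c11 LD2_c40 LD3_c26)) :=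
  Lre_b IH (LK LD1_c5 LD2_c58 LD3_c34) (LK LD1_c11 LD2_c40 LD3_c26) Lrfl Lrfl
theorem f386727 : Led Lsl_bt (LP (LK LD1_c18 LD2_c22 LD3_c30)) = (LP (LK LD1_c10 LD2_c3 LD3_c56)) :=
  Lre_b IH (LK LD1_c18 LD2_c22 LD3_c30) (LK LD1_c10 LD2_c3 LD3_c56) Lrfl Lrfl
theorem f545556 : Led Lsl_bt (LP (LK LD1_c6 LD2_c8 LD3_c1)) = (LP (LK LD1_c11 LD2_c58 LD3_c3)) :=
  Lre_b IH (LK LD1_c6 LD2_c8 LD3_c1) (LK LD1_c11 LD2_c58 LD3_c3) Lrfl Lrfl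
theorem f545557 : Led Lsl_af (LP (LK LD1_c18 LD2_c22 LD3_c30)) = (LP (LK LD1_c11 LD2_c58 LD3_c3)) :=
  Lgr Lrot36 (Lpr_bt (f386727 IH) (Lpe (f386721 IH) (Lpr_bt (f386726 IH) (Lpr_at (f545550 IH) (Lpr_bt (f545556 IH) (Lpn (LP (LK LD1_c11 LD2_c58 LD3_c3))))))))
theorem f169693 : Led Lsl_et (LP (LK LD1_c18 LD2_c22 LD3_c30)) = (LP (LK LD1_c10 LD2_c3 LD3_c55)) :=
  Lre_e IH (LK LD1_c18 LD2_c22 LD3_c30) (LK LD1_c10 LD2_c3 LD3_c55) Lrfl Lrfl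
theorem f545565 : Led Lsl_et (LP (LK LD1_c6 LD2_c7 LD3_c61)) = (LP (LK LD1_c11 LD2_c58 LD3_c3)) :=
  Lre_e IH (LK LD1_c6 LD2_c7 LD3_c61) (LK LD1_c11 LD2_c58 LD3_c3) Lrfl Lrfl
theorem f545566 : Led Lsl_at (LP (LK LD1_c10 LD2_c3 LD3_c55)) = (LP (LK LD1_c6 LD2_c7 LD3_c61)) :=
  Lgr Lrot80 (Lpe (f169693 IH) (Lpr_af (f545557 IH) (Lpe (f545565 IH) (Lpn (LP (LK LD1_c6 LD2_c7 LD3_c61))))))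
theorem f386756 : Led Lsl_ft (LP (LK LD1_c2 LD2_c55 LD3_c6)) = (LP (LK LD1_c5 LD2_c6 LD3_c33)) :=
  Lgr Lrot54 (Lpe (K28.f386740 IH) (Lpr_ff (K27.f386749 IH) (Lpe (K27.f169709 IH) (Lpn (LP (LK LD1_c5 LD2_c6 LD3_c33))))))
theorem f386849 : Led Lsl_bt (LP (LK LD1_c5 LD2_c57 LD3_c32)) = (LP (LK LD1_c2 LD2_c55 LD3_c6)) :=
  Lre_b IH (LK LD1_c5 LD2_c57 LD3_c32) (LK LD1_c2 LD2_c55 LD3_c6) Lrfl Lrfl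
theorem f169690 : Led Lsl_bt (LP (LK LD1_c5 LD2_c6 LD3_c33)) = (LP (LK LD1_c10 LD2_c3 LD3_c55)) :=
  Lre_b IH (LK LD1_c5 LD2_c6 LD3_c33) (LK LD1_c10 LD2_c3 LD3_c55) Lrfl Lrfl
theorem f386850 : Led Lsl_ff (LP (LK LD1_c5 LD2_c57 LD3_c32)) = (LP (LK LD1_c10 LD2_c3 LD3_c55)) :=
  Lgr Lrot25 (Lpr_bt (f386849 IH) (Lpr_ft (f386756 IH) (Lpr_bt (f169690 IH) (Lpn (LP (LK LD1_c10 LD2_c3 LD3_c55))))))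
theorem f386853 : Led Lsl_ft (LP (LK LD1_c5 LD2_c57 LD3_c32)) = (LP (LK LD1_c10 LD2_c3 LD3_c55)) :=
  Lgr Lrot48 (Lpr_ff (f386850 IH) (Lpn (LP (LK LD1_c10 LD2_c3 LD3_c55))))
theorem f387168 : Led Lsl_bt (LP (LK LD1_c2 LD2_c55 LD3_c24)) = (LP (LK LD1_c5 LD2_c57 LD3_c54)) :=
  Lre_b IH (LK LD1_c2 LD2_c55 LD3_c24) (LK LD1_c5 LD2_c57 LD3_c54) Lrfl Lrfl
theorem f426187 : Led Lsl_bt (LP (LK LD1_c1 LD2_c23 LD3_c45)) = (LP (LK LD1_c2 LD2_c55 LD3_c12)) :=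
  Lre_b IH (LK LD1_c1 LD2_c23 LD3_c45) (LK LD1_c2 LD2_c55 LD3_c12) Lrfl Lrfl
theorem f386665 : Led Lsl_at (LP (LK LD1_c2 LD2_c55 LD3_c6)) = (LP (LK LD1_c1 LD2_c23 LD3_c45)) :=
  Lre_a IH (LK LD1_c2 LD2_c55 LD3_c6) (LK LD1_c1 LD2_c23 LD3_c45) Lrfl Lrfl
theorem f426188 : Led Lsl_at (LP (LK LD1_c5 LD2_c57 LD3_c54)) = (LP (LK LD1_c5 LD2_c57 LD3_c32)) :=
  Lgr Lrot67 (Lpe (f387168 IH) (Lpr_af (K24.f426178 IH) (Lpe (f426187 IH) (Lpe (f386665 IH) (Lpe (f386849 IH) (Lpn (LP (LK LD1_c5 LD2_c57 LD3_c32))))))))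
theorem f545571 : Led Lsl_ff (LP (LK LD1_c5 LD2_c57 LD3_c54)) = (LP (LK LD1_c6 LD2_c7 LD3_c61)) :=
  Lgr Lrot30 (Lpr_at (f426188 IH) (Lpr_ft (f386853 IH) (Lpr_at (f545566 IH) (Lpn (LP (LK LD1_c6 LD2_c7 LD3_c61))))))
theorem f386773 : Led Lsl_dt (LP (LK LD1_c5 LD2_c57 LD3_c54)) = (LP (LK LD1_c2 LD2_c55 LD3_c18)) :=
  Lre_d IH (LK LD1_c5 LD2_c57 LD3_c54) (LK LD1_c2 LD2_c55 LD3_c18) Lrfl Lrfl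
theorem f545575 : Led Lsl_dt (LP (LK LD1_c5 LD2_c7 LD3_c36)) = (LP (LK LD1_c6 LD2_c7 LD3_c61)) :=
  Lgr Lrot60 (Lpe (K36.f427479 IH) (Lpe (f386773 IH) (Lpr_ff (f545571 IH) (Lpn (LP (LK LD1_c6 LD2_c7 LD3_c61))))))
theorem f3249 : Led Lsl_ct (LP (LK LD1_c2 LD2_c31 LD3_c14)) = (LP (LK LD1_c1 LD2_c12 LD3_c36)) :=
  Lre_c IH (LK LD1_c2 LD2_c31 LD3_c14) (LK LD1_c1 LD2_c12 LD3_c36) Lrfl Lrfl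
theorem f3280 : Led Lsl_gt (LP (LK LD1_c5 LD2_c7 LD3_c59)) = (LP (LK LD1_c2 LD2_c31 LD3_c14)) :=
  Lre_g IH (LK LD1_c5 LD2_c7 LD3_c59) (LK LD1_c2 LD2_c31 LD3_c14) Lrfl Lrfl
theorem f3295 : Led Lsl_ct (LP (LK LD1_c2 LD2_c31 LD3_c4)) = (LP (LK LD1_c1 LD2_c12 LD3_c33)) :=
  Lre_c IH (LK LD1_c2 LD2_c31 LD3_c4) (LK LD1_c1 LD2_c12 LD3_c33) Lrfl Lrfl
def v1416 : LQ := Led Lsl_gt (LP (LK LD1_c1 LD2_c13 LD3_c61))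
theorem f495445 : Led Lsl_gt (LP (LK LD1_c1 LD2_c13 LD3_c61)) = v1416 :=
  Lrfl
theorem f71821 : Led Lsl_ct (LP (LK LD1_c1 LD2_c22 LD3_c46)) = (LP (LK LD1_c2 LD2_c53 LD3_c18)) :=
  Lre_c IH (LK LD1_c1 LD2_c22 LD3_c46) (LK LD1_c2 LD2_c53 LD3_c18) Lrfl Lrfl
theorem f495448 : Led Lsl_bt K37.v1399 = v1416 :=
  Lgr Lrot92 (Lpe (K37.f495346 IH) (Lpe (K37.f495345 IH) (Lpe (K36.f3282 IH) (Lpe (K36.f421465 IH) (Lpr_gt (K37.f138516 IH) (Lpr_ct (f71821 IH) (Lpe (K37.f421684 IH) (Lpe (K36.f421680 IH) (Lpr_bt (K36.f421679 IH) (Lpr_gt (f495445 IH) (Lpn v1416)))))))))))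
theorem f495451 : Led Lsl_bf K37.v1399 = v1416 :=
  Lgr Lrot24 (Lpr_bt (f495448 IH) (Lpn v1416))
theorem f22439 : Led Lsl_bt (LP (LK LD1_c1 LD2_c5 LD3_c22)) = (LP (LK LD1_c2 LD2_c16 LD3_c52)) :=
  Lre_b IH (LK LD1_c1 LD2_c5 LD3_c22) (LK LD1_c2 LD2_c16 LD3_c52) Lrfl Lrfl
def v370 : LQ := Led Lsl_ft (LP (LK LD1_c0 LD2_c34 LD3_c18))
theorem f452465 : Led Lsl_ft (LP (LK LD1_c0 LD2_c34 LD3_c18)) = v370 :=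
  Lrfl
theorem f495446 : Led Lsl_at v370 = v1416 :=
  Lgr Lrot26 (Lpe (f452465 IH) (Lpr_gt (K36.f164418 IH) (Lpr_gt (f495445 IH) (Lpn v1416))))
theorem f334637 : Led Lsl_at (LP (LK LD1_c0 LD2_c39 LD3_c33)) = (LP (LK LD1_c1 LD2_c5 LD3_c22)) :=
  Lgr Lrot51 (Lpe (K9.f169089 IH) (Lpr_af (K22.f334631 IH) (Lpe (K9.f172064 IH) (Lpn (LP (LK LD1_c1 LD2_c5 LD3_c22))))))
def v2855 : LQ := Led Lsl_ft K37.v365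
theorem f535964 : Led Lsl_ft K37.v365 = v2855 :=
  Lrfl
theorem f446277 : Led Lsl_ef (LP (LK LD1_c0 LD2_c33 LD3_c45)) = (LP (LK LD1_c0 LD2_c29 LD3_c24)) :=
  Lgr Lrot28 (Lpr_ct (K35.f165178 IH) (Lpr_et (K35.f20524 IH) (Lpr_ct (K0.f26576 IH) (Lpn (LP (LK LD1_c0 LD2_c29 LD3_c24))))))
theorem f452445 : Led Lsl_ef K35.v338 = K37.v365 :=
  Lgr Lrot29 (Lpe (K35.f452243 IH) (Lpe (f446277 IH) (Lpr_bt (K37.f452442 IH) (Lpn K37.v365))))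
theorem f164382 : Led Lsl_df (LP (LK LD1_c1 LD2_c4 LD3_c19)) = (LP (LK LD1_c1 LD2_c14 LD3_c4)) :=
  Lgr Lrot38 (Lpr_dt (K10.f164373 IH) (Lpn (LP (LK LD1_c1 LD2_c14 LD3_c4))))
theorem f164388 : Led Lsl_bt (LP (LK LD1_c2 LD2_c34 LD3_c5)) = (LP (LK LD1_c1 LD2_c14 LD3_c4)) :=
  Lre_b IH (LK LD1_c2 LD2_c34 LD3_c5) (LK LD1_c1 LD2_c14 LD3_c4) Lrfl Lrfl
theorem f164389 : Led Lsl_dt (LP (LK LD1_c2 LD2_c14 LD3_c25)) = (LP (LK LD1_c2 LD2_c34 LD3_c5)) :=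
  Lgr Lrot79 (Lpe (K8.f163616 IH) (Lpr_df (f164382 IH) (Lpe (f164388 IH) (Lpn (LP (LK LD1_c2 LD2_c34 LD3_c5))))))
theorem f152056 : Led Lsl_et (LP (LK LD1_c1 LD2_c4 LD3_c18)) = (LP (LK LD1_c2 LD2_c14 LD3_c25)) :=
  Lre_e IH (LK LD1_c1 LD2_c4 LD3_c18) (LK LD1_c2 LD2_c14 LD3_c25) Lrfl Lrfl
theorem f164398 : Led Lsl_et (LP (LK LD1_c2 LD2_c34 LD3_c5)) = (LP (LK LD1_c1 LD2_c14 LD3_c0)) :=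
  Lre_e IH (LK LD1_c2 LD2_c34 LD3_c5) (LK LD1_c1 LD2_c14 LD3_c0) Lrfl Lrfl
theorem f164399 : Led Lsl_dt (LP (LK LD1_c1 LD2_c14 LD3_c0)) = (LP (LK LD1_c0 LD2_c34 LD3_c18)) :=
  Lre_d IH (LK LD1_c1 LD2_c14 LD3_c0) (LK LD1_c0 LD2_c34 LD3_c18) Lrfl Lrfl
theorem f164400 : Led Lsl_ef (LP (LK LD1_c0 LD2_c29 LD3_c25)) = (LP (LK LD1_c0 LD2_c34 LD3_c18)) :=
  Lgr Lrot73 (Lpr_dt (K7.f152014 IH) (Lpr_et (f152056 IH) (Lpr_dt (f164389 IH) (Lpr_et (f164398 IH) (Lpr_dt (f164399 IH) (Lpn (LP (LK LD1_c0 LD2_c34 LD3_c18))))))))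
theorem f164413 : Led Lsl_et (LP (LK LD1_c0 LD2_c29 LD3_c25)) = (LP (LK LD1_c0 LD2_c34 LD3_c18)) :=
  Lgr Lrot87 (Lpr_ef (f164400 IH) (Lpn (LP (LK LD1_c0 LD2_c34 LD3_c18))))
theorem f452446 : Led Lsl_ct (LP (LK LD1_c0 LD2_c34 LD3_c18)) = K37.v365 :=
  Lgr Lrot15 (Lpe (f164413 IH) (Lpr_cf (K35.f452244 IH) (Lpr_ef (f452445 IH) (Lpn K37.v365))))
theorem f452467 : Led Lsl_ff (LP (LK LD1_c0 LD2_c34 LD3_c18)) = v370 :=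
  Lgr Lrot3 (Lpr_ft (f452465 IH) (Lpn v370))
theorem f535966 : Led Lsl_cf v370 = v2855 :=
  Lgr Lrot108 (Lpe (f452467 IH) (Lpr_ct (f452446 IH) (Lpr_ft (f535964 IH) (Lpn v2855))))
theorem f535967 : Led Lsl_ff K37.v365 = v2855 :=
  Lgr Lrot3 (Lpr_ft (f535964 IH) (Lpn v2855))
theorem f452443 : Led Lsl_bf (LP (LK LD1_c0 LD2_c33 LD3_c45)) = K37.v365 :=
  Lgr Lrot24 (Lpr_bt (K37.f452442 IH) (Lpn K37.v365))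
theorem f535968 : Led Lsl_bt K35.v367 = v2855 :=
  Lgr Lrot35 (Lpe (K35.f452451 IH) (Lpr_bf (f452443 IH) (Lpr_ff (f535967 IH) (Lpn v2855))))
theorem f452457 : Led Lsl_gt K36.v363 = K35.v367 :=
  Lgr Lrot5 (Lpe (K36.f452427 IH) (Lpe (K36.f315148 IH) (Lpr_gf (K35.f452456 IH) (Lpn K35.v367))))
theorem f536743 : K35.v367 = (LP (LK LD1_c0 LD2_c39 LD3_c28)) :=
  Lefun (Lecon (f452457 IH) (K37.f536673 IH)) (K35.f315132 IH)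
theorem f536859 : v2855 = (LP (LK LD1_c0 LD2_c17 LD3_c43)) :=
  Lefun (Lecon (f535968 IH) (f536743 IH)) (K37.f20573 IH)
theorem f537071 : v370 = (LP (LK LD1_c0 LD2_c39 LD3_c33)) :=
  Lefun (Lecon (Lfl_cf (f535966 IH)) (f536859 IH)) (K9.f45992 IH)
theorem f537206 : v1416 = (LP (LK LD1_c1 LD2_c5 LD3_c22)) :=
  Lefun (Lecon (f495446 IH) (f537071 IH)) (f334637 IH)
theorem f537482 : K37.v1399 = (LP (LK LD1_c2 LD2_c16 LD3_c52)) :=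
  Lefun (Lecon (Lfl_bf (f495451 IH)) (f537206 IH)) (f22439 IH)
theorem f55814 : Led Lsl_bt (LP (LK LD1_c4 LD2_c7 LD3_c21)) = (LP (LK LD1_c2 LD2_c1 LD3_c1)) :=
  Lre_b IH (LK LD1_c4 LD2_c7 LD3_c21) (LK LD1_c2 LD2_c1 LD3_c1) Lrfl Lrfl
theorem f172062 : Led Lsl_dt (LP (LK LD1_c2 LD2_c16 LD3_c52)) = (LP (LK LD1_c4 LD2_c7 LD3_c21)) :=
  Lgr Lrot79 (Lpe (f22439 IH) (Lpr_df (K9.f172060 IH) (Lpe (f55814 IH) (Lpn (LP (LK LD1_c4 LD2_c7 LD3_c21))))))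
theorem f22428 : Led Lsl_bt (LP (LK LD1_c2 LD2_c16 LD3_c52)) = (LP (LK LD1_c1 LD2_c5 LD3_c22)) :=
  Lre_b IH (LK LD1_c2 LD2_c16 LD3_c52) (LK LD1_c1 LD2_c5 LD3_c22) Lrfl Lrfl
theorem f22430 : Led Lsl_ef (LP (LK LD1_c2 LD2_c16 LD3_c52)) = (LP (LK LD1_c1 LD2_c24 LD3_c43)) :=
  Lgr Lrot29 (Lpr_bt (f22428 IH) (Lpr_et (K9.f22421 IH) (Lpr_bt (K35.f22429 IH) (Lpn (LP (LK LD1_c1 LD2_c24 LD3_c43))))))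
theorem f22436 : Led Lsl_et (LP (LK LD1_c2 LD2_c16 LD3_c52)) = (LP (LK LD1_c1 LD2_c24 LD3_c43)) :=
  Lgr Lrot87 (Lpr_ef (f22430 IH) (Lpn (LP (LK LD1_c1 LD2_c24 LD3_c43))))
theorem f3275 : Led Lsl_bt (LP (LK LD1_c0 LD2_c15 LD3_c4)) = (LP (LK LD1_c0 LD2_c33 LD3_c36)) :=
  Lre_b IH (LK LD1_c0 LD2_c15 LD3_c4) (LK LD1_c0 LD2_c33 LD3_c36) Lrfl Lrfl
theorem f22211 : Led Lsl_ef (LP (LK LD1_c0 LD2_c16 LD3_c57)) = (LP (LK LD1_c0 LD2_c33 LD3_c36)) :=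
  Lgr Lrot29 (Lpr_bt (K6.f8339 IH) (Lpr_et (K7.f22116 IH) (Lpr_bt (f3275 IH) (Lpn (LP (LK LD1_c0 LD2_c33 LD3_c36))))))
theorem f3251 : Led Lsl_dt (LP (LK LD1_c0 LD2_c33 LD3_c36)) = (LP (LK LD1_c1 LD2_c12 LD3_c36)) :=
  Lre_d IH (LK LD1_c0 LD2_c33 LD3_c36) (LK LD1_c1 LD2_c12 LD3_c36) Lrfl Lrfl
theorem f3254 : Led Lsl_gt (LP (LK LD1_c2 LD2_c31 LD3_c13)) = (LP (LK LD1_c1 LD2_c12 LD3_c36)) :=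
  Lre_g IH (LK LD1_c2 LD2_c31 LD3_c13) (LK LD1_c1 LD2_c12 LD3_c36) Lrfl Lrfl
theorem f544987 : Led Lsl_df (LP (LK LD1_c2 LD2_c31 LD3_c13)) = v1454 :=
  Lgr Lrot135 (Lpr_gt (f3254 IH) (Lpe (f3251 IH) (Lpe (f22211 IH) (Lpr_gt (K6.f8320 IH) (Lpe (f22383 IH) (Lpr_dt (f22384 IH) (Lpr_gt (f544937 IH) (Lpe (K36.f380303 IH) (Lpe (K35.f380307 IH) (Lpr_gt (f495658 IH) (Lpn v1454)))))))))))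
theorem f545108 : Led Lsl_gt (LP (LK LD1_c4 LD2_c7 LD3_c21)) = (LP (LK LD1_c2 LD2_c31 LD3_c13)) :=
  Lgr Lrot112 (Lpe (f172062 IH) (Lpr_et (f22436 IH) (Lpr_gf (K37.f501209 IH) (Lpq (K37.f539943 IH) (Lpq (K36.f539953 IH) (Lpe (K2.f72388 IH) (Lpe (K5.f130550 IH) (Lpr_gf (K6.f146484 IH) (Lpe (K6.f135846 IH) (Lpe (K11.f161002 IH) (Lpe (K5.f112932 IH) (Lpqs (f544988 IH) (Lpe (f544987 IH) (Lpn (LP (LK LD1_c2 LD2_c31 LD3_c13))))))))))))))))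
theorem f22312 : Led Lsl_et (LP (LK LD1_c2 LD2_c51 LD3_c52)) = (LP (LK LD1_c1 LD2_c21 LD3_c59)) :=
  Lre_e IH (LK LD1_c2 LD2_c51 LD3_c52) (LK LD1_c1 LD2_c21 LD3_c59) Lrfl Lrfl
theorem f544992 : Led Lsl_et (LP (LK LD1_c2 LD2_c31 LD3_c13)) = (LP (LK LD1_c5 LD2_c7 LD3_c57)) :=
  Lre_e IH (LK LD1_c2 LD2_c31 LD3_c13) (LK LD1_c5 LD2_c7 LD3_c57) Lrfl Lrfl
theorem f544993 : Led Lsl_df (LP (LK LD1_c2 LD2_c51 LD3_c52)) = (LP (LK LD1_c5 LD2_c7 LD3_c57)) :=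
  Lgr Lrot70 (Lpr_et (f22312 IH) (Lpr_dt (K4.f112929 IH) (Lpr_et (f112933 IH) (Lpqs (f544988 IH) (Lpe (f544987 IH) (Lpr_et (f544992 IH) (Lpn (LP (LK LD1_c5 LD2_c7 LD3_c57)))))))))
theorem f117836 : Led Lsl_ft (LP (LK LD1_c2 LD2_c51 LD3_c52)) = (LP (LK LD1_c5 LD2_c51 LD3_c13)) :=
  Lre_f IH (LK LD1_c2 LD2_c51 LD3_c52) (LK LD1_c5 LD2_c51 LD3_c13) Lrfl Lrfl
theorem f545005 : Led Lsl_ft (LP (LK LD1_c10 LD2_c6 LD3_c17)) = (LP (LK LD1_c5 LD2_c7 LD3_c57)) :=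
  Lre_f IH (LK LD1_c10 LD2_c6 LD3_c17) (LK LD1_c5 LD2_c7 LD3_c57) Lrfl Lrfl
theorem f545006 : Led Lsl_dt (LP (LK LD1_c5 LD2_c51 LD3_c13)) = (LP (LK LD1_c10 LD2_c6 LD3_c17)) :=
  Lgr Lrot60 (Lpe (f117836 IH) (Lpr_df (f544993 IH) (Lpe (f545005 IH) (Lpn (LP (LK LD1_c10 LD2_c6 LD3_c17))))))
theorem f545026 : Led Lsl_df (LP (LK LD1_c5 LD2_c51 LD3_c13)) = (LP (LK LD1_c10 LD2_c6 LD3_c17)) :=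
  Lgr Lrot38 (Lpr_dt (f545006 IH) (Lpn (LP (LK LD1_c10 LD2_c6 LD3_c17))))
theorem f545030 : Led Lsl_bt (LP (LK LD1_c18 LD2_c25 LD3_c16)) = (LP (LK LD1_c10 LD2_c6 LD3_c17)) :=
  Lre_b IH (LK LD1_c18 LD2_c25 LD3_c16) (LK LD1_c10 LD2_c6 LD3_c17) Lrfl Lrfl
theorem f545031 : Led Lsl_dt (LP (LK LD1_c11 LD2_c29 LD3_c45)) = (LP (LK LD1_c18 LD2_c25 LD3_c16)) :=
  Lgr Lrot79 (Lpe (K4.f24106 IH) (Lpr_df (f545026 IH) (Lpe (f545030 IH) (Lpn (LP (LK LD1_c18 LD2_c25 LD3_c16))))))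
theorem f545033 : Led Lsl_ft (LP (LK LD1_c18 LD2_c25 LD3_c16)) = (LP (LK LD1_c10 LD2_c6 LD3_c13)) :=
  Lre_f IH (LK LD1_c18 LD2_c25 LD3_c16) (LK LD1_c10 LD2_c6 LD3_c13) Lrfl Lrfl
theorem f545034 : Led Lsl_df (LP (LK LD1_c5 LD2_c51 LD3_c8)) = (LP (LK LD1_c10 LD2_c6 LD3_c13)) :=
  Lgr Lrot78 (Lpr_ft (K4.f24091 IH) (Lpr_dt (f545031 IH) (Lpr_ft (f545033 IH) (Lpn (LP (LK LD1_c10 LD2_c6 LD3_c13))))))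
theorem f36558 : Led Lsl_et (LP (LK LD1_c2 LD2_c14 LD3_c7)) = (LP (LK LD1_c4 LD2_c34 LD3_c20)) :=
  Lre_e IH (LK LD1_c2 LD2_c14 LD3_c7) (LK LD1_c4 LD2_c34 LD3_c20) Lrfl Lrfl
theorem f545040 : Led Lsl_et (LP (LK LD1_c5 LD2_c7 LD3_c55)) = (LP (LK LD1_c10 LD2_c6 LD3_c13)) :=
  Lre_e IH (LK LD1_c5 LD2_c7 LD3_c55) (LK LD1_c10 LD2_c6 LD3_c13) Lrfl Lrfl
theorem f545041 : Led Lsl_dt (LP (LK LD1_c4 LD2_c34 LD3_c20)) = (LP (LK LD1_c5 LD2_c7 LD3_c55)) :=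
  Lgr Lrot77 (Lpe (f36558 IH) (Lpe (K4.f112927 IH) (Lpe (K4.f24066 IH) (Lpr_df (f545034 IH) (Lpe (f545040 IH) (Lpn (LP (LK LD1_c5 LD2_c7 LD3_c55))))))))
theorem f3292 : Led Lsl_bt (LP (LK LD1_c5 LD2_c7 LD3_c55)) = (LP (LK LD1_c2 LD2_c31 LD3_c13)) :=
  Lre_b IH (LK LD1_c5 LD2_c7 LD3_c55) (LK LD1_c2 LD2_c31 LD3_c13) Lrfl Lrfl
theorem f545047 : Led Lsl_df (LP (LK LD1_c2 LD2_c14 LD3_c9)) = (LP (LK LD1_c2 LD2_c31 LD3_c13)) :=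
  Lgr Lrot12 (Lpr_bt (K8.f36553 IH) (Lpr_dt (f545041 IH) (Lpr_bt (f3292 IH) (Lpn (LP (LK LD1_c2 LD2_c31 LD3_c13))))))
theorem f545583 : Led Lsl_gf (LP (LK LD1_c9 LD2_c5 LD3_c48)) = (LP (LK LD1_c6 LD2_c7 LD3_c61)) :=
  Lgr Lrot143 (Lpr_dt (K5.f132347 IH) (Lpe (K5.f36547 IH) (Lpr_df (f545047 IH) (Lpe (f545108 IH) (Lpe (f172062 IH) (Lpq (f537482 IH) (Lpe (K37.f495341 IH) (Lpe (f3295 IH) (Lpr_gt (K27.f169697 IH) (Lpr_dt (f545575 IH) (Lpn (LP (LK LD1_c6 LD2_c7 LD3_c61)))))))))))))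
theorem f545585 : Led Lsl_cf (LP (LK LD1_c5 LD2_c7 LD3_c59)) = (LP (LK LD1_c9 LD2_c5 LD3_c48)) :=
  Lgr Lrot188 (Lpr_gt (f3280 IH) (Lpr_ct (f3249 IH) (Lpr_dt (K27.f3250 IH) (Lpr_cf (K36.f3174 IH) (Lpe (K36.f3281 IH) (Lpe (K36.f3282 IH) (Lpe (K36.f3283 IH) (Lpr_dt (f545575 IH) (Lpe (f545583 IH) (Lpn (LP (LK LD1_c9 LD2_c5 LD3_c48))))))))))))
theorem f3252 : Led Lsl_ct (LP (LK LD1_c1 LD2_c12 LD3_c36)) = (LP (LK LD1_c2 LD2_c31 LD3_c14)) :=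
  Lre_c IH (LK LD1_c1 LD2_c12 LD3_c36) (LK LD1_c2 LD2_c31 LD3_c14) Lrfl Lrfl
theorem f53214 : Led Lsl_bt (LP (LK LD1_c1 LD2_c12 LD3_c36)) = (LP (LK LD1_c0 LD2_c33 LD3_c37)) :=
  Lre_b IH (LK LD1_c1 LD2_c12 LD3_c36) (LK LD1_c0 LD2_c33 LD3_c37) Lrfl Lrfl
theorem f71265 : Led Lsl_gt (LP (LK LD1_c2 LD2_c53 LD3_c55)) = (LP (LK LD1_c5 LD2_c54 LD3_c0)) :=
  Lre_g IH (LK LD1_c2 LD2_c53 LD3_c55) (LK LD1_c5 LD2_c54 LD3_c0) Lrfl Lrfl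
theorem f545597 : Led Lsl_bf (LP (LK LD1_c5 LD2_c54 LD3_c0)) = (LP (LK LD1_c9 LD2_c5 LD3_c48)) :=
  Lgr Lrot34 (Lpe (f71265 IH) (Lpe (K2.f71742 IH) (Lpr_ct (K10.f71488 IH) (Lpe (K19.f249931 IH) (Lpr_cf (K9.f177197 IH) (Lpe (K9.f22231 IH) (Lpe (f53214 IH) (Lpr_ct (f3252 IH) (Lpe (f3280 IH) (Lpr_cf (f545585 IH) (Lpn (LP (LK LD1_c9 LD2_c5 LD3_c48)))))))))))))
theorem f436710 : Led Lsl_et (LP (LK LD1_c5 LD2_c54 LD3_c0)) = (LP (LK LD1_c11 LD2_c33 LD3_c50)) :=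
  Lre_e IH (LK LD1_c5 LD2_c54 LD3_c0) (LK LD1_c11 LD2_c33 LD3_c50) Lrfl Lrfl
theorem f132417 : Led Lsl_et (LP (LK LD1_c16 LD2_c57 LD3_c37)) = (LP (LK LD1_c9 LD2_c5 LD3_c48)) :=
  Lre_e IH (LK LD1_c16 LD2_c57 LD3_c37) (LK LD1_c9 LD2_c5 LD3_c48) Lrfl Lrfl
theorem f545606 : Led Lsl_bt (LP (LK LD1_c11 LD2_c33 LD3_c50)) = (LP (LK LD1_c16 LD2_c57 LD3_c37)) :=
  Lgr Lrot119 (Lpe (f436710 IH) (Lpr_bf (f545597 IH) (Lpe (f132417 IH) (Lpn (LP (LK LD1_c16 LD2_c57 LD3_c37))))))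
theorem f104819 : Led Lsl_et (LP (LK LD1_c4 LD2_c42 LD3_c58)) = (LP (LK LD1_c2 LD2_c18 LD3_c59)) :=
  Lre_e IH (LK LD1_c4 LD2_c42 LD3_c58) (LK LD1_c2 LD2_c18 LD3_c59) Lrfl Lrfl
theorem f71125 : Led Lsl_dt (LP (LK LD1_c1 LD2_c22 LD3_c46)) = (LP (LK LD1_c2 LD2_c53 LD3_c22)) :=
  Lre_d IH (LK LD1_c1 LD2_c22 LD3_c46) (LK LD1_c2 LD2_c53 LD3_c22) Lrfl Lrfl
theorem f71126 : Led Lsl_gt (LP (LK LD1_c5 LD2_c54 LD3_c0)) = (LP (LK LD1_c2 LD2_c53 LD3_c22)) :=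
  Lre_g IH (LK LD1_c5 LD2_c54 LD3_c0) (LK LD1_c2 LD2_c53 LD3_c22) Lrfl Lrfl
theorem f436704 : Led Lsl_dt (LP (LK LD1_c4 LD2_c42 LD3_c58)) = (LP (LK LD1_c5 LD2_c54 LD3_c0)) :=
  Lgr Lrot136 (Lpr_et (f104819 IH) (Lpe (K35.f59111 IH) (Lpe (K35.f104818 IH) (Lpr_dt (K11.f104807 IH) (Lpr_gf (K7.f149332 IH) (Lpe (K7.f37814 IH) (Lpr_gf (K8.f71120 IH) (Lpe (K2.f71105 IH) (Lpr_dt (f71125 IH) (Lpe (f71126 IH) (Lpn (LP (LK LD1_c5 LD2_c54 LD3_c0)))))))))))))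
theorem f436708 : Led Lsl_et (LP (LK LD1_c2 LD2_c18 LD3_c59)) = (LP (LK LD1_c4 LD2_c42 LD3_c58)) :=
  Lre_e IH (LK LD1_c2 LD2_c18 LD3_c59) (LK LD1_c4 LD2_c42 LD3_c58) Lrfl Lrfl
theorem f104835 : Led Lsl_dt (LP (LK LD1_c4 LD2_c42 LD3_c57)) = (LP (LK LD1_c2 LD2_c18 LD3_c59)) :=
  Lre_d IH (LK LD1_c4 LD2_c42 LD3_c57) (LK LD1_c2 LD2_c18 LD3_c59) Lrfl Lrfl
theorem f436709 : Led Lsl_et (LP (LK LD1_c9 LD2_c19 LD3_c52)) = (LP (LK LD1_c4 LD2_c42 LD3_c57)) :=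
  Lre_e IH (LK LD1_c9 LD2_c19 LD3_c52) (LK LD1_c4 LD2_c42 LD3_c57) Lrfl Lrfl
theorem f436711 : Led Lsl_df (LP (LK LD1_c9 LD2_c19 LD3_c52)) = (LP (LK LD1_c11 LD2_c33 LD3_c50)) :=
  Lgr Lrot70 (Lpr_et (f436709 IH) (Lpr_dt (f104835 IH) (Lpr_et (f436708 IH) (Lpr_dt (f436704 IH) (Lpr_et (f436710 IH) (Lpn (LP (LK LD1_c11 LD2_c33 LD3_c50))))))))
theorem f436714 : Led Lsl_dt (LP (LK LD1_c9 LD2_c19 LD3_c52)) = (LP (LK LD1_c11 LD2_c33 LD3_c50)) :=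
  Lgr Lrot42 (Lpr_df (f436711 IH) (Lpn (LP (LK LD1_c11 LD2_c33 LD3_c50))))
theorem f132414 : Led Lsl_dt (LP (LK LD1_c16 LD2_c57 LD3_c37)) = (LP (LK LD1_c9 LD2_c5 LD3_c47)) :=
  Lre_d IH (LK LD1_c16 LD2_c57 LD3_c37) (LK LD1_c9 LD2_c5 LD3_c47) Lrfl Lrfl
theorem f545612 : Led Lsl_bf (LP (LK LD1_c9 LD2_c19 LD3_c52)) = (LP (LK LD1_c9 LD2_c5 LD3_c47)) :=
  Lgr Lrot93 (Lpr_dt (f436714 IH) (Lpr_bt (f545606 IH) (Lpr_dt (f132414 IH) (Lpn (LP (LK LD1_c9 LD2_c5 LD3_c47))))))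
theorem f117893 : Led Lsl_et (LP (LK LD1_c4 LD2_c34 LD3_c21)) = (LP (LK LD1_c9 LD2_c5 LD3_c47)) :=
  Lre_e IH (LK LD1_c4 LD2_c34 LD3_c21) (LK LD1_c9 LD2_c5 LD3_c47) Lrfl Lrfl
theorem f545620 : Led Lsl_bt (LP (LK LD1_c4 LD2_c42 LD3_c57)) = (LP (LK LD1_c4 LD2_c34 LD3_c21)) :=
  Lgr Lrot119 (Lpe (f436709 IH) (Lpr_bf (f545612 IH) (Lpe (f117893 IH) (Lpn (LP (LK LD1_c4 LD2_c34 LD3_c21))))))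
theorem f426089 : Led Lsl_gf (LP (LK LD1_c2 LD2_c55 LD3_c44)) = (LP (LK LD1_c4 LD2_c34 LD3_c21)) :=
  Lgr Lrot154 (Lpr_dt (K24.f425957 IH) (Lpr_ct (K24.f426078 IH) (Lpe (K24.f157605 IH) (Lpe (K11.f157610 IH) (Lpe (K6.f117295 IH) (Lpe (K8.f132404 IH) (Lpr_ct (K8.f136244 IH) (Lpe (K8.f161000 IH) (Lpr_dt (K5.f112936 IH) (Lpn (LP (LK LD1_c4 LD2_c34 LD3_c21))))))))))))
theorem f545622 : Led Lsl_gf (LP (LK LD1_c9 LD2_c19 LD3_c51)) = (LP (LK LD1_c5 LD2_c47 LD3_c29)) :=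
  Lgr Lrot129 (Lpe (K36.f59113 IH) (Lpr_bt (f545620 IH) (Lpe (f426089 IH) (Lpr_bf (K24.f426022 IH) (Lpr_ct (K28.f426069 IH) (Lpe (K6.f79685 IH) (Lpe (K2.f72847 IH) (Lpr_bt (K2.f73631 IH) (Lpe (K8.f74176 IH) (Lpr_ct (K6.f74178 IH) (Lpn (LP (LK LD1_c5 LD2_c47 LD3_c29)))))))))))))
theorem f138524 : Led Lsl_ft (LP (LK LD1_c3 LD2_c5 LD3_c3)) = (LP (LK LD1_c2 LD2_c53 LD3_c39)) :=
  Lgr Lrot48 (Lpr_ff (K8.f138479 IH) (Lpn (LP (LK LD1_c2 LD2_c53 LD3_c39))))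
theorem f138527 : Led Lsl_ff (LP (LK LD1_c6 LD2_c15 LD3_c57)) = (LP (LK LD1_c5 LD2_c54 LD3_c32)) :=
  Lgr Lrot23 (Lpr_ct (K8.f73839 IH) (Lpr_ft (f138524 IH) (Lpr_ct (K6.f59466 IH) (Lpn (LP (LK LD1_c5 LD2_c54 LD3_c32))))))
theorem f545624 : Led Lsl_af (LP (LK LD1_c9 LD2_c19 LD3_c51)) = (LP (LK LD1_c6 LD2_c15 LD3_c57)) :=
  Lgr Lrot31 (Lpr_gf (f545622 IH) (Lpr_gf (K6.f138819 IH) (Lpe (f138527 IH) (Lpn (LP (LK LD1_c6 LD2_c15 LD3_c57))))))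
theorem f545630 : Led Lsl_et (LP (LK LD1_c9 LD2_c19 LD3_c51)) = (LP (LK LD1_c17 LD2_c15 LD3_c46)) :=
  Lre_e IH (LK LD1_c9 LD2_c19 LD3_c51) (LK LD1_c17 LD2_c15 LD3_c46) Lrfl Lrfl
theorem f138579 : Led Lsl_et (LP (LK LD1_c12 LD2_c9 LD3_c31)) = (LP (LK LD1_c6 LD2_c15 LD3_c57)) :=
  Lre_e IH (LK LD1_c12 LD2_c9 LD3_c31) (LK LD1_c6 LD2_c15 LD3_c57) Lrfl Lrfl
theorem f545631 : Led Lsl_at (LP (LK LD1_c17 LD2_c15 LD3_c46)) = (LP (LK LD1_c12 LD2_c9 LD3_c31)) :=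
  Lgr Lrot80 (Lpe (f545630 IH) (Lpr_af (f545624 IH) (Lpe (f138579 IH) (Lpn (LP (LK LD1_c12 LD2_c9 LD3_c31))))))
theorem f436713 : Led Lsl_ct (LP (LK LD1_c9 LD2_c19 LD3_c52)) = (LP (LK LD1_c17 LD2_c15 LD3_c46)) :=
  Lre_c IH (LK LD1_c9 LD2_c19 LD3_c52) (LK LD1_c17 LD2_c15 LD3_c46) Lrfl Lrfl
theorem f538454 : Led Lsl_ct (LP (LK LD1_c12 LD2_c9 LD3_c31)) = (LP (LK LD1_c6 LD2_c15 LD3_c58)) :=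
  Lre_c IH (LK LD1_c12 LD2_c9 LD3_c31) (LK LD1_c6 LD2_c15 LD3_c58) Lrfl Lrfl
theorem f545637 : Led Lsl_af (LP (LK LD1_c9 LD2_c19 LD3_c52)) = (LP (LK LD1_c6 LD2_c15 LD3_c58)) :=
  Lgr Lrot68 (Lpr_ct (f436713 IH) (Lpr_at (f545631 IH) (Lpr_ct (f538454 IH) (Lpn (LP (LK LD1_c6 LD2_c15 LD3_c58))))))
theorem f158445 : Led Lsl_et (LP (LK LD1_c1 LD2_c28 LD3_c35)) = (LP (LK LD1_c3 LD2_c5 LD3_c4)) :=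
  Lre_e IH (LK LD1_c1 LD2_c28 LD3_c35) (LK LD1_c3 LD2_c5 LD3_c4) Lrfl Lrfl
theorem f138529 : Led Lsl_et (LP (LK LD1_c6 LD2_c15 LD3_c58)) = (LP (LK LD1_c3 LD2_c5 LD3_c3)) :=
  Lre_e IH (LK LD1_c6 LD2_c15 LD3_c58) (LK LD1_c3 LD2_c5 LD3_c3) Lrfl Lrfl
theorem f538437 : Led Lsl_et (LP (LK LD1_c2 LD2_c53 LD3_c53)) = (LP (LK LD1_c5 LD2_c55 LD3_c5)) :=
  Lre_e IH (LK LD1_c2 LD2_c53 LD3_c53) (LK LD1_c5 LD2_c55 LD3_c5) Lrfl Lrfl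
theorem f538438 : Led Lsl_df (LP (LK LD1_c6 LD2_c15 LD3_c58)) = (LP (LK LD1_c5 LD2_c55 LD3_c5)) :=
  Lgr Lrot70 (Lpr_et (f138529 IH) (Lpr_dt (K8.f79702 IH) (Lpr_et (f158445 IH) (Lpr_dt (K35.f538430 IH) (Lpr_et (f538437 IH) (Lpn (LP (LK LD1_c5 LD2_c55 LD3_c5))))))))
theorem f545639 : Led Lsl_at (LP (LK LD1_c11 LD2_c33 LD3_c50)) = (LP (LK LD1_c5 LD2_c55 LD3_c5)) :=
  Lgr Lrot51 (Lpe (f436714 IH) (Lpr_af (f545637 IH) (Lpr_df (f538438 IH) (Lpn (LP (LK LD1_c5 LD2_c55 LD3_c5))))))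
theorem f443048 : Led Lsl_et (LP (LK LD1_c5 LD2_c55 LD3_c5)) = (LP (LK LD1_c2 LD2_c53 LD3_c53)) :=
  Lre_e IH (LK LD1_c5 LD2_c55 LD3_c5) (LK LD1_c2 LD2_c53 LD3_c53) Lrfl Lrfl
theorem f545641 : Led Lsl_af (LP (LK LD1_c5 LD2_c54 LD3_c0)) = (LP (LK LD1_c2 LD2_c53 LD3_c53)) :=
  Lgr Lrot50 (Lpr_et (f436710 IH) (Lpr_at (f545639 IH) (Lpr_et (f443048 IH) (Lpn (LP (LK LD1_c2 LD2_c53 LD3_c53))))))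
theorem f71263 : Led Lsl_gt (LP (LK LD1_c5 LD2_c53 LD3_c61)) = (LP (LK LD1_c2 LD2_c53 LD3_c55)) :=
  Lre_g IH (LK LD1_c5 LD2_c53 LD3_c61) (LK LD1_c2 LD2_c53 LD3_c55) Lrfl Lrfl
theorem f545647 : Led Lsl_ft (LP (LK LD1_c5 LD2_c53 LD3_c61)) = (LP (LK LD1_c2 LD2_c53 LD3_c53)) :=
  Lgr Lrot2 (Lpr_gt (f71263 IH) (Lpr_gt (f71265 IH) (Lpr_af (f545641 IH) (Lpn (LP (LK LD1_c2 LD2_c53 LD3_c53))))))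
theorem f545653 : Led Lsl_ff (LP (LK LD1_c5 LD2_c53 LD3_c61)) = (LP (LK LD1_c2 LD2_c53 LD3_c53)) :=
  Lgr Lrot3 (Lpr_ft (f545647 IH) (Lpn (LP (LK LD1_c2 LD2_c53 LD3_c53))))
theorem f186787 : Led Lsl_gt (LP (LK LD1_c2 LD2_c53 LD3_c53)) = (LP (LK LD1_c1 LD2_c22 LD3_c56)) :=
  Lre_g IH (LK LD1_c2 LD2_c53 LD3_c53) (LK LD1_c1 LD2_c22 LD3_c56) Lrfl Lrfl
theorem f71536 : Led Lsl_gt (LP (LK LD1_c1 LD2_c22 LD3_c56)) = (LP (LK LD1_c2 LD2_c53 LD3_c52)) :=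
  Lre_g IH (LK LD1_c1 LD2_c22 LD3_c56) (LK LD1_c2 LD2_c53 LD3_c52) Lrfl Lrfl
theorem f545659 : Led Lsl_at (LP (LK LD1_c5 LD2_c53 LD3_c61)) = (LP (LK LD1_c2 LD2_c53 LD3_c52)) :=
  Lgr Lrot26 (Lpr_ff (f545653 IH) (Lpr_gt (f186787 IH) (Lpr_gt (f71536 IH) (Lpn (LP (LK LD1_c2 LD2_c53 LD3_c52))))))
theorem f545661 : Led Lsl_ct (LP (LK LD1_c5 LD2_c55 LD3_c2)) = (LP (LK LD1_c2 LD2_c53 LD3_c52)) :=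
  Lre_c IH (LK LD1_c5 LD2_c55 LD3_c2) (LK LD1_c2 LD2_c53 LD3_c52) Lrfl Lrfl
theorem f545662 : Led Lsl_dt (LP (LK LD1_c11 LD2_c35 LD3_c33)) = (LP (LK LD1_c5 LD2_c55 LD3_c2)) :=
  Lre_d IH (LK LD1_c11 LD2_c35 LD3_c33) (LK LD1_c5 LD2_c55 LD3_c2) Lrfl Lrfl
theorem f538470 : Led Lsl_dt (LP (LK LD1_c11 LD2_c34 LD3_c43)) = (LP (LK LD1_c20 LD2_c32 LD3_c45)) :=
  Lre_d IH (LK LD1_c11 LD2_c34 LD3_c43) (LK LD1_c20 LD2_c32 LD3_c45) Lrfl Lrfl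
theorem f545663 : Led Lsl_cf (LP (LK LD1_c11 LD2_c35 LD3_c33)) = (LP (LK LD1_c20 LD2_c32 LD3_c45)) :=
  Lgr Lrot161 (Lpr_dt (f545662 IH) (Lpr_ct (f545661 IH) (Lpe (f545659 IH) (Lpr_ff (f545653 IH) (Lpe (K35.f538435 IH) (Lpr_ct (K8.f80999 IH) (Lpr_dt (K35.f81075 IH) (Lpr_ct (K35.f538468 IH) (Lpr_dt (f538470 IH) (Lpn (LP (LK LD1_c20 LD2_c32 LD3_c45))))))))))))
theorem f545665 : Led Lsl_ct (LP (LK LD1_c11 LD2_c35 LD3_c33)) = (LP (LK LD1_c20 LD2_c32 LD3_c45)) :=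
  Lgr Lrot59 (Lpr_cf (f545663 IH) (Lpn (LP (LK LD1_c20 LD2_c32 LD3_c45))))
theorem f545669 : Led Lsl_dt (LP (LK LD1_c5 LD2_c55 LD3_c2)) = (LP (LK LD1_c11 LD2_c35 LD3_c33)) :=
  Lre_d IH (LK LD1_c5 LD2_c55 LD3_c2) (LK LD1_c11 LD2_c35 LD3_c33) Lrfl Lrfl
theorem f538471 : Led Lsl_dt (LP (LK LD1_c20 LD2_c32 LD3_c45)) = (LP (LK LD1_c11 LD2_c34 LD3_c43)) :=
  Lre_d IH (LK LD1_c20 LD2_c32 LD3_c45) (LK LD1_c11 LD2_c34 LD3_c43) Lrfl Lrfl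
theorem f538476 : Led Lsl_cf (LP (LK LD1_c12 LD2_c9 LD3_c29)) = (LP (LK LD1_c11 LD2_c34 LD3_c43)) :=
  Lgr Lrot11 (Lpr_ct (K35.f538468 IH) (Lpn (LP (LK LD1_c11 LD2_c34 LD3_c43))))
theorem f81072 : Led Lsl_ct (LP (LK LD1_c6 LD2_c15 LD3_c56)) = (LP (LK LD1_c3 LD2_c5 LD3_c4)) :=
  Lre_c IH (LK LD1_c6 LD2_c15 LD3_c56) (LK LD1_c3 LD2_c5 LD3_c4) Lrfl Lrfl
theorem f421258 : Led Lsl_ct (LP (LK LD1_c2 LD2_c53 LD3_c53)) = (LP (LK LD1_c5 LD2_c55 LD3_c4)) :=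
  Lre_c IH (LK LD1_c2 LD2_c53 LD3_c53) (LK LD1_c5 LD2_c55 LD3_c4) Lrfl Lrfl
theorem f249937 : Led Lsl_ct (LP (LK LD1_c5 LD2_c54 LD3_c0)) = (LP (LK LD1_c11 LD2_c33 LD3_c49)) :=
  Lre_c IH (LK LD1_c5 LD2_c54 LD3_c0) (LK LD1_c11 LD2_c33 LD3_c49) Lrfl Lrfl
theorem f538440 : Led Lsl_ct (LP (LK LD1_c5 LD2_c55 LD3_c4)) = (LP (LK LD1_c2 LD2_c53 LD3_c53)) :=
  Lre_c IH (LK LD1_c5 LD2_c55 LD3_c4) (LK LD1_c2 LD2_c53 LD3_c53) Lrfl Lrfl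
theorem f545643 : Led Lsl_at (LP (LK LD1_c11 LD2_c33 LD3_c49)) = (LP (LK LD1_c5 LD2_c55 LD3_c4)) :=
  Lgr Lrot107 (Lpe (f249937 IH) (Lpr_af (f545641 IH) (Lpe (f538440 IH) (Lpn (LP (LK LD1_c5 LD2_c55 LD3_c4))))))
theorem f545672 : Led Lsl_ft (LP (LK LD1_c5 LD2_c55 LD3_c2)) = (LP (LK LD1_c11 LD2_c33 LD3_c49)) :=
  Lgr Lrot142 (Lpr_dt (f545669 IH) (Lpr_ct (f545665 IH) (Lpr_dt (f538471 IH) (Lpe (f538476 IH) (Lpr_dt (K35.f81069 IH) (Lpr_ct (f81072 IH) (Lpr_dt (K35.f538430 IH) (Lpr_ct (f421258 IH) (Lpe (f545643 IH) (Lpn (LP (LK LD1_c11 LD2_c33 LD3_c49))))))))))))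
theorem f180591 : Led Lsl_gt (LP (LK LD1_c5 LD2_c55 LD3_c2)) = (LP (LK LD1_c11 LD2_c35 LD3_c30)) :=
  Lre_g IH (LK LD1_c5 LD2_c55 LD3_c2) (LK LD1_c11 LD2_c35 LD3_c30) Lrfl Lrfl
theorem f545685 : Led Lsl_gt (LP (LK LD1_c11 LD2_c35 LD3_c30)) = (LP (LK LD1_c5 LD2_c55 LD3_c4)) :=
  Lgr Lrot46 (Lpe (f180591 IH) (Lpr_ft (f545672 IH) (Lpr_at (f545643 IH) (Lpn (LP (LK LD1_c5 LD2_c55 LD3_c4))))))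
theorem f81097 : Led Lsl_dt (LP (LK LD1_c3 LD2_c5 LD3_c10)) = (LP (LK LD1_c1 LD2_c28 LD3_c38)) :=
  Lre_d IH (LK LD1_c3 LD2_c5 LD3_c10) (LK LD1_c1 LD2_c28 LD3_c38) Lrfl Lrfl
theorem f538432 : Led Lsl_bf (LP (LK LD1_c3 LD2_c5 LD3_c10)) = (LP (LK LD1_c2 LD2_c53 LD3_c53)) :=
  Lgr Lrot93 (Lpr_dt (f81097 IH) (Lpr_bt (K8.f80998 IH) (Lpr_dt (K35.f538430 IH) (Lpn (LP (LK LD1_c2 LD2_c53 LD3_c53))))))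
theorem f55534 : Led Lsl_gt (LP (LK LD1_c4 LD2_c6 LD3_c1)) = (LP (LK LD1_c8 LD2_c12 LD3_c35)) :=
  Lre_g IH (LK LD1_c4 LD2_c6 LD3_c1) (LK LD1_c8 LD2_c12 LD3_c35) Lrfl Lrfl
theorem f545690 : Led Lsl_cf (LP (LK LD1_c11 LD2_c35 LD3_c30)) = (LP (LK LD1_c8 LD2_c12 LD3_c35)) :=
  Lgr Lrot125 (Lpr_gt (f545685 IH) (Lpe (f421258 IH) (Lpe (f538432 IH) (Lpe (K35.f538409 IH) (Lpe (K35.f181143 IH) (Lpr_ct (K10.f183378 IH) (Lpe (K10.f183428 IH) (Lpe (K1.f55441 IH) (Lpr_bt (K1.f55521 IH) (Lpr_gt (f55534 IH) (Lpn (LP (LK LD1_c8 LD2_c12 LD3_c35)))))))))))))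
theorem f180590 : Led Lsl_ct (LP (LK LD1_c2 LD2_c53 LD3_c52)) = (LP (LK LD1_c5 LD2_c55 LD3_c2)) :=
  Lre_c IH (LK LD1_c2 LD2_c53 LD3_c52) (LK LD1_c5 LD2_c55 LD3_c2) Lrfl Lrfl
theorem f71512 : Led Lsl_bt (LP (LK LD1_c0 LD2_c38 LD3_c25)) = (LP (LK LD1_c1 LD2_c22 LD3_c56)) :=
  Lre_b IH (LK LD1_c0 LD2_c38 LD3_c25) (LK LD1_c1 LD2_c22 LD3_c56) Lrfl Lrfl
theorem f545701 : Led Lsl_bf (LP (LK LD1_c5 LD2_c14 LD3_c11)) = (LP (LK LD1_c8 LD2_c12 LD3_c35)) :=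
  Lgr Lrot156 (Lpe (K32.f387158 IH) (Lpe (K32.f180683 IH) (Lpr_ct (K10.f180693 IH) (Lpe (K10.f180570 IH) (Lpe (K8.f71517 IH) (Lpr_bt (f71512 IH) (Lpr_gt (f71536 IH) (Lpr_ct (f180590 IH) (Lpr_gt (f180591 IH) (Lpr_cf (f545690 IH) (Lpn (LP (LK LD1_c8 LD2_c12 LD3_c35)))))))))))))
theorem f308062 : Led Lsl_dt (LP (LK LD1_c5 LD2_c14 LD3_c11)) = (LP (LK LD1_c2 LD2_c33 LD3_c58)) :=
  Lre_d IH (LK LD1_c5 LD2_c14 LD3_c11) (LK LD1_c2 LD2_c33 LD3_c58) Lrfl Lrfl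
theorem f545711 : Led Lsl_dt (LP (LK LD1_c5 LD2_c14 LD3_c10)) = (LP (LK LD1_c8 LD2_c12 LD3_c35)) :=
  Lgr Lrot79 (Lpe (K35.f186697 IH) (Lpe (f308062 IH) (Lpr_bf (f545701 IH) (Lpn (LP (LK LD1_c8 LD2_c12 LD3_c35))))))
theorem f55830 : Led Lsl_gt (LP (LK LD1_c8 LD2_c12 LD3_c35)) = (LP (LK LD1_c4 LD2_c5 LD3_c58)) :=
  Lre_g IH (LK LD1_c8 LD2_c12 LD3_c35) (LK LD1_c4 LD2_c5 LD3_c58) Lrfl Lrfl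
theorem f99562 : Led Lsl_et (LP (LK LD1_c0 LD2_c40 LD3_c32)) = (LP (LK LD1_c1 LD2_c27 LD3_c39)) :=
  Lre_e IH (LK LD1_c0 LD2_c40 LD3_c32) (LK LD1_c1 LD2_c27 LD3_c39) Lrfl Lrfl
theorem f545726 : Led Lsl_et (LP (LK LD1_c5 LD2_c14 LD3_c10)) = (LP (LK LD1_c3 LD2_c3 LD3_c28)) :=
  Lgr Lrot122 (Lpr_dt (f545711 IH) (Lpr_gt (f55830 IH) (Lpe (K36.f55881 IH) (Lpr_et (K36.f73388 IH) (Lpe (K8.f73426 IH) (Lpr_dt (K8.f149211 IH) (Lpr_gt (K8.f40334 IH) (Lpr_df (K4.f99540 IH) (Lpr_et (f99562 IH) (Lpr_gt (K37.f99564 IH) (Lpn (LP (LK LD1_c3 LD2_c3 LD3_c28)))))))))))))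
theorem f545728 : Led Lsl_ef (LP (LK LD1_c5 LD2_c54 LD3_c50)) = (LP (LK LD1_c6 LD2_c13 LD3_c20)) :=
  Lgr Lrot28 (Lpr_ct (K37.f186698 IH) (Lpr_et (f545726 IH) (Lpr_ct (K37.f176814 IH) (Lpn (LP (LK LD1_c6 LD2_c13 LD3_c20))))))
theorem f428095 : Led Lsl_et (LP (LK LD1_c5 LD2_c54 LD3_c52)) = (LP (LK LD1_c2 LD2_c53 LD3_c46)) :=
  Lre_e IH (LK LD1_c5 LD2_c54 LD3_c52) (LK LD1_c2 LD2_c53 LD3_c46) Lrfl Lrfl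
theorem f546834 : Led Lsl_df (LP (LK LD1_c3 LD2_c46 LD3_c21)) = (LP (LK LD1_c5 LD2_c54 LD3_c52)) :=
  Lgr Lrot132 (Lpr_gf (K28.f109057 IH) (Lpe (K37.f546826 IH) (Lpr_gf (K37.f546824 IH) (Lpe (K37.f546803 IH) (Lpr_dt (K37.f540511 IH) (Lpe (K37.f546816 IH) (Lpe (K37.f546815 IH) (Lpe (f545728 IH) (Lpe (K35.f186691 IH) (Lpe (f428095 IH) (Lpn (LP (LK LD1_c5 LD2_c54 LD3_c52)))))))))))))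
theorem f546875 : Led Lsl_ff (LP (LK LD1_c5 LD2_c54 LD3_c52)) = (LP (LK LD1_c9 LD2_c2 LD3_c50)) :=
  Lgr Lrot19 (Lpe (f546834 IH) (Lpr_ft (K37.f109047 IH) (Lpr_dt (K37.f546867 IH) (Lpn (LP (LK LD1_c9 LD2_c2 LD3_c50))))))
theorem f546881 : Led Lsl_at (LP (LK LD1_c5 LD2_c54 LD3_c52)) = (LP (LK LD1_c3 LD2_c46 LD3_c22)) :=
  Lgr Lrot26 (Lpr_ff (f546875 IH) (Lpe (K37.f546865 IH) (Lpr_gt (K37.f93629 IH) (Lpn (LP (LK LD1_c3 LD2_c46 LD3_c22))))))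
theorem f546889 : Led Lsl_af (LP (LK LD1_c9 LD2_c2 LD3_c50)) = (LP (LK LD1_c7 LD2_c0 LD3_c43)) :=
  Lgr Lrot45 (Lpe (f546875 IH) (Lpr_at (f546881 IH) (Lpr_ft (K3.f109053 IH) (Lpn (LP (LK LD1_c7 LD2_c0 LD3_c43))))))
theorem f204724 : Led Lsl_gt (LP (LK LD1_c6 LD2_c16 LD3_c39)) = (LP (LK LD1_c3 LD2_c5 LD3_c25)) :=
  Lre_g IH (LK LD1_c6 LD2_c16 LD3_c39) (LK LD1_c3 LD2_c5 LD3_c25) Lrfl Lrfl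
theorem f202641 : Led Lsl_gt (LP (LK LD1_c1 LD2_c28 LD3_c42)) = (LP (LK LD1_c3 LD2_c5 LD3_c23)) :=
  Lre_g IH (LK LD1_c1 LD2_c28 LD3_c42) (LK LD1_c3 LD2_c5 LD3_c23) Lrfl Lrfl
theorem f503158 : Led Lsl_ct (LP (LK LD1_c3 LD2_c5 LD3_c23)) = (LP (LK LD1_c6 LD2_c16 LD3_c34)) :=
  Lre_c IH (LK LD1_c3 LD2_c5 LD3_c23) (LK LD1_c6 LD2_c16 LD3_c34) Lrfl Lrfl
theorem f543876 : Led Lsl_df (LP (LK LD1_c6 LD2_c16 LD3_c34)) = (LP (LK LD1_c3 LD2_c46 LD3_c40)) :=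
  Lgr Lrot162 (Lpe (f503158 IH) (Lpe (f202641 IH) (Lpe (K37.f186353 IH) (Lpe (f204724 IH) (Lpr_dt (K37.f543849 IH) (Lpr_gt (K37.f543872 IH) (Lpr_ct (K28.f120260 IH) (Lpr_gt (K4.f94484 IH) (Lpr_ct (K3.f65225 IH) (Lpn (LP (LK LD1_c3 LD2_c46 LD3_c40))))))))))))
theorem f543964 : Led Lsl_ct (LP (LK LD1_c6 LD2_c16 LD3_c34)) = (LP (LK LD1_c3 LD2_c5 LD3_c23)) :=
  Lre_c IH (LK LD1_c6 LD2_c16 LD3_c34) (LK LD1_c3 LD2_c5 LD3_c23) Lrfl Lrfl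
theorem f546893 : Led Lsl_df (LP (LK LD1_c4 LD2_c32 LD3_c39)) = (LP (LK LD1_c3 LD2_c5 LD3_c23)) :=
  Lgr Lrot177 (Lpr_ct (K37.f175542 IH) (Lpr_af (f546889 IH) (Lpe (K3.f109053 IH) (Lpr_dt (K37.f93628 IH) (Lpr_ct (K2.f93627 IH) (Lpr_dt (K6.f94545 IH) (Lpr_ct (K3.f65225 IH) (Lpe (f543876 IH) (Lpr_ct (f543964 IH) (Lpn (LP (LK LD1_c3 LD2_c5 LD3_c23))))))))))))
theorem f69021 : Led Lsl_dt (LP (LK LD1_c11 LD2_c33 LD3_c22)) = (LP (LK LD1_c5 LD2_c53 LD3_c42)) :=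
  Lre_d IH (LK LD1_c11 LD2_c33 LD3_c22) (LK LD1_c5 LD2_c53 LD3_c42) Lrfl Lrfl
theorem f538209 : Led Lsl_gf (LP (LK LD1_c5 LD2_c47 LD3_c26)) = (LP (LK LD1_c9 LD2_c19 LD3_c51)) :=
  Lgr Lrot144 (Lpr_dt (K8.f139510 IH) (Lpe (K8.f158937 IH) (Lpr_dt (f69021 IH) (Lpe (K4.f68999 IH) (Lpe (K8.f69009 IH) (Lpe (K35.f157873 IH) (Lpe (K35.f148981 IH) (Lpr_gf (K35.f538207 IH) (Lpe (K36.f538202 IH) (Lpn (LP (LK LD1_c9 LD2_c19 LD3_c51))))))))))))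
theorem f540086 : Led Lsl_bt (LP (LK LD1_c7 LD2_c30 LD3_c37)) = (LP (LK LD1_c9 LD2_c19 LD3_c51)) :=
  Lgr Lrot127 (Lpr_bf (K36.f540084 IH) (Lpn (LP (LK LD1_c9 LD2_c19 LD3_c51))))
theorem f427288 : Led Lsl_cf (LP (LK LD1_c7 LD2_c30 LD3_c37)) = (LP (LK LD1_c5 LD2_c51 LD3_c20)) :=
  Lgr Lrot169 (Lpr_gt (K36.f93180 IH) (Lpr_ct (K4.f93190 IH) (Lpe (K4.f93207 IH) (Lpr_cf (K4.f97680 IH) (Lpr_gf (K4.f102887 IH) (Lpr_cf (K4.f103669 IH) (Lpe (K4.f103778 IH) (Lpe (K4.f96316 IH) (Lpr_gt (K34.f427202 IH) (Lpn (LP (LK LD1_c5 LD2_c51 LD3_c20))))))))))))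
theorem f127660 : Led Lsl_ff (LP (LK LD1_c12 LD2_c32 LD3_c61)) = (LP (LK LD1_c7 LD2_c32 LD3_c46)) :=
  Lgr Lrot3 (Lpr_ft (K5.f127653 IH) (Lpn (LP (LK LD1_c7 LD2_c32 LD3_c46))))
theorem f127672 : Led Lsl_at (LP (LK LD1_c12 LD2_c32 LD3_c61)) = (LP (LK LD1_c14 LD2_c32 LD3_c55)) :=
  Lgr Lrot66 (Lpr_ff (f127660 IH) (Lpe (K5.f127664 IH) (Lpr_ff (K5.f127670 IH) (Lpn (LP (LK LD1_c14 LD2_c32 LD3_c55))))))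
theorem f172839 : Led Lsl_dt (LP (LK LD1_c2 LD2_c47 LD3_c28)) = (LP (LK LD1_c1 LD2_c20 LD3_c2)) :=
  Lre_d IH (LK LD1_c2 LD2_c47 LD3_c28) (LK LD1_c1 LD2_c20 LD3_c2) Lrfl Lrfl
theorem f172696 : Led Lsl_ct (LP (LK LD1_c1 LD2_c20 LD3_c2)) = (LP (LK LD1_c2 LD2_c47 LD3_c22)) :=
  Lre_c IH (LK LD1_c1 LD2_c20 LD3_c2) (LK LD1_c2 LD2_c47 LD3_c22) Lrfl Lrfl
theorem f540103 : Led Lsl_df (LP (LK LD1_c3 LD2_c33 LD3_c20)) = (LP (LK LD1_c2 LD2_c47 LD3_c22)) :=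
  Lgr Lrot13 (Lpr_ct (K32.f104075 IH) (Lpr_dt (K5.f104068 IH) (Lpr_ct (K7.f127831 IH) (Lpe (f127672 IH) (Lpr_ff (f127660 IH) (Lpr_dt (K36.f540091 IH) (Lpr_ct (K36.f176856 IH) (Lpr_dt (f172839 IH) (Lpr_ct (f172696 IH) (Lpn (LP (LK LD1_c2 LD2_c47 LD3_c22))))))))))))
theorem f172737 : Led Lsl_gt (LP (LK LD1_c5 LD2_c42 LD3_c47)) = (LP (LK LD1_c2 LD2_c47 LD3_c22)) :=
  Lre_g IH (LK LD1_c5 LD2_c42 LD3_c47) (LK LD1_c2 LD2_c47 LD3_c22) Lrfl Lrfl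
theorem f546896 : Led Lsl_bt (LP (LK LD1_c9 LD2_c2 LD3_c50)) = (LP (LK LD1_c5 LD2_c42 LD3_c47)) :=
  Lgr Lrot178 (Lpe (K37.f175542 IH) (Lpr_df (f546893 IH) (Lpe (f202641 IH) (Lpe (K11.f204734 IH) (Lpe (K11.f59106 IH) (Lpe (K11.f59107 IH) (Lpe (K36.f540205 IH) (Lpe (K6.f26497 IH) (Lpe (K6.f26498 IH) (Lpe (K8.f139510 IH) (Lpr_gf (f538209 IH) (Lpe (f540086 IH) (Lpr_cf (f427288 IH) (Lpe (K34.f427206 IH) (Lpe (K5.f127870 IH) (Lpe (K5.f127750 IH) (Lpe (K32.f104075 IH) (Lpr_df (f540103 IH) (Lpe (f172737 IH) (Lpn (LP (LK LD1_c5 LD2_c42 LD3_c47))))))))))))))))))))))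
theorem f181400 : Led Lsl_ct (LP (LK LD1_c9 LD2_c2 LD3_c50)) = (LP (LK LD1_c4 LD2_c32 LD3_c39)) :=
  Lre_c IH (LK LD1_c9 LD2_c2 LD3_c50) (LK LD1_c4 LD2_c32 LD3_c39) Lrfl Lrfl
theorem f241035 : Led Lsl_gf (LP (LK LD1_c3 LD2_c57 LD3_c27)) = (LP (LK LD1_c2 LD2_c30 LD3_c40)) :=
  Lgr Lrot141 (Lpe (K13.f181318 IH) (Lpr_dt (K13.f181316 IH) (Lpr_gt (K13.f227938 IH) (Lpe (K13.f180133 IH) (Lpr_et (K13.f180139 IH) (Lpr_gt (K13.f241031 IH) (Lpr_dt (K13.f239502 IH) (Lpr_gt (K13.f165476 IH) (Lpe (K13.f197831 IH) (Lpr_et (K37.f211526 IH) (Lpn (LP (LK LD1_c2 LD2_c30 LD3_c40)))))))))))))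
def v1495 : LQ := Led Lsl_gt (LP (LK LD1_c1 LD2_c20 LD3_c2))
theorem f495844 : Led Lsl_gt (LP (LK LD1_c1 LD2_c20 LD3_c2)) = v1495 :=
  Lrfl
theorem f546908 : (LP (LK LD1_c2 LD2_c30 LD3_c42)) = v1495 :=
  (Llr Lrot63 (Lpe (K36.f177122 IH) (Lpr_bt (K36.f402995 IH) (Lpe (f241035 IH) (Lpe (K37.f181333 IH) (Lpr_ct (K16.f175536 IH) (Lpr_gt (K37.f175541 IH) (Lpe (f181400 IH) (Lpr_bt (f546896 IH) (Lpr_gt (f172737 IH) (Lpr_ct (K16.f172723 IH) (Lpr_gt (f495844 IH) (Lpn v1495))))))))))))).symm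
theorem f546733 : Led Lsl_gt v1495 = (LP (LK LD1_c4 LD2_c32 LD3_c61)) :=
  Lgr Lrot46 (Lpe (f495844 IH) (Lpr_ft (K37.f495848 IH) (Lpq (K37.f546720 IH) (Lpr_at (K37.f546725 IH) (Lpn (LP (LK LD1_c4 LD2_c32 LD3_c61)))))))
theorem f93083 : Led Lsl_bt (LP (LK LD1_c3 LD2_c36 LD3_c46)) = (LP (LK LD1_c1 LD2_c45 LD3_c14)) :=
  Lre_b IH (LK LD1_c3 LD2_c36 LD3_c46) (LK LD1_c1 LD2_c45 LD3_c14) Lrfl Lrfl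
theorem f98467 : Led Lsl_ct (LP (LK LD1_c1 LD2_c43 LD3_c32)) = (LP (LK LD1_c1 LD2_c43 LD3_c18)) :=
  Lgr Lrot7 (Lpe (K3.f10501 IH) (Lpr_gf (K3.f10499 IH) (Lpr_df (K3.f98116 IH) (Lpr_gf (K3.f98033 IH) (Lpe (K3.f98017 IH) (Lpe (K3.f97414 IH) (Lpr_dt (K3.f97390 IH) (Lpr_gt (K3.f10821 IH) (Lpr_dt (K3.f11539 IH) (Lpn (LP (LK LD1_c1 LD2_c43 LD3_c18))))))))))))
theorem f98471 : Led Lsl_bt (LP (LK LD1_c1 LD2_c43 LD3_c32)) = (LP (LK LD1_c3 LD2_c33 LD3_c37)) :=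
  Lre_b IH (LK LD1_c1 LD2_c43 LD3_c32) (LK LD1_c3 LD2_c33 LD3_c37) Lrfl Lrfl
theorem f546913 : Led Lsl_gf (LP (LK LD1_c2 LD2_c30 LD3_c40)) = (LP (LK LD1_c3 LD2_c33 LD3_c37)) :=
  Lgr Lrot124 (Lpe (K36.f402995 IH) (Lpr_ct (K36.f177122 IH) (Lpqs (f546908 IH) (Lpr_gt (f546733 IH) (Lpe (K37.f546734 IH) (Lpr_bt (f93083 IH) (Lpr_gt (K3.f98083 IH) (Lpe (K3.f97149 IH) (Lpr_gt (K3.f11537 IH) (Lpe (f98467 IH) (Lpr_bt (f98471 IH) (Lpn (LP (LK LD1_c3 LD2_c33 LD3_c37))))))))))))))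
theorem f270065 : Led Lsl_af (LP (LK LD1_c1 LD2_c1 LD3_c43)) = (LP (LK LD1_c1 LD2_c55 LD3_c30)) :=
  Lgr Lrot117 (Lpr_dt (K13.f29612 IH) (Lpr_at (K16.f270061 IH) (Lpr_dt (K13.f181321 IH) (Lpn (LP (LK LD1_c1 LD2_c55 LD3_c30))))))
theorem f181331 : Led Lsl_et (LP (LK LD1_c3 LD2_c57 LD3_c27)) = (LP (LK LD1_c1 LD2_c55 LD3_c30)) :=
  Lre_e IH (LK LD1_c3 LD2_c57 LD3_c27) (LK LD1_c1 LD2_c55 LD3_c30) Lrfl Lrfl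
theorem f411541 : Led Lsl_at (LP (LK LD1_c2 LD2_c9 LD3_c5)) = (LP (LK LD1_c3 LD2_c57 LD3_c27)) :=
  Lgr Lrot80 (Lpe (K16.f29613 IH) (Lpr_af (f270065 IH) (Lpe (f181331 IH) (Lpn (LP (LK LD1_c3 LD2_c57 LD3_c27))))))
def v2433 : LQ := Led Lsl_dt (LP (LK LD1_c1 LD2_c45 LD3_c21))
theorem f519716 : Led Lsl_dt (LP (LK LD1_c1 LD2_c45 LD3_c21)) = v2433 :=
  Lrfl
theorem f6682 : Led Lsl_bt (LP (LK LD1_c1 LD2_c45 LD3_c21)) = (LP (LK LD1_c0 LD2_c49 LD3_c22)) :=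
  Lre_b IH (LK LD1_c1 LD2_c45 LD3_c21) (LK LD1_c0 LD2_c49 LD3_c22) Lrfl Lrfl
theorem f128268 : Led Lsl_ff (LP (LK LD1_c1 LD2_c45 LD3_c21)) = (LP (LK LD1_c1 LD2_c43 LD3_c31)) :=
  Lgr Lrot25 (Lpr_bt (f6682 IH) (Lpr_ft (K5.f128263 IH) (Lpr_bt (K8.f108027 IH) (Lpn (LP (LK LD1_c1 LD2_c43 LD3_c31))))))
theorem f108086 : Led Lsl_dt (LP (LK LD1_c3 LD2_c33 LD3_c37)) = (LP (LK LD1_c1 LD2_c43 LD3_c31)) :=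
  Lre_d IH (LK LD1_c3 LD2_c33 LD3_c37) (LK LD1_c1 LD2_c43 LD3_c31) Lrfl Lrfl
theorem f519719 : Led Lsl_ff (LP (LK LD1_c3 LD2_c33 LD3_c37)) = v2433 :=
  Lgr Lrot19 (Lpr_dt (f108086 IH) (Lpe (f128268 IH) (Lpr_dt (f519716 IH) (Lpn v2433))))
theorem f519721 : Led Lsl_ft (LP (LK LD1_c3 LD2_c33 LD3_c37)) = v2433 :=
  Lgr Lrot48 (Lpr_ff (f519719 IH) (Lpn v2433))
theorem f546925 : (LP (LK LD1_c2 LD2_c9 LD3_c5)) = v2433 :=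
  (Llr Lrot31 (Lpr_at (f411541 IH) (Lpr_gf (f241035 IH) (Lpr_gf (f546913 IH) (Lpr_ft (f519721 IH) (Lpn v2433)))))).symm
theorem f205108 : Led Lsl_ct (LP (LK LD1_c6 LD2_c25 LD3_c29)) = (LP (LK LD1_c3 LD2_c10 LD3_c25)) :=
  Lre_c IH (LK LD1_c6 LD2_c25 LD3_c29) (LK LD1_c3 LD2_c10 LD3_c25) Lrfl Lrfl
theorem f242613 : Led Lsl_ft (LP (LK LD1_c3 LD2_c57 LD3_c27)) = (LP (LK LD1_c6 LD2_c25 LD3_c29)) :=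
  Lgr Lrot4 (Lpe (K13.f181335 IH) (Lpr_ff (K13.f242607 IH) (Lpe (f205108 IH) (Lpn (LP (LK LD1_c6 LD2_c25 LD3_c29))))))
theorem f546932 : Led Lsl_af (LP (LK LD1_c3 LD2_c33 LD3_c37)) = (LP (LK LD1_c6 LD2_c25 LD3_c29)) :=
  Lgr Lrot45 (Lpr_ft (f519721 IH) (Lpq (f546925 IH) (Lpr_at (f411541 IH) (Lpr_ft (f242613 IH) (Lpn (LP (LK LD1_c6 LD2_c25 LD3_c29)))))))
theorem f273171 : Led Lsl_at (LP (LK LD1_c1 LD2_c10 LD3_c26)) = (LP (LK LD1_c1 LD2_c56 LD3_c45)) :=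
  Lgr Lrot51 (Lpr_df (K10.f197811 IH) (Lpr_af (K16.f273165 IH) (Lpr_df (K13.f197451 IH) (Lpn (LP (LK LD1_c1 LD2_c56 LD3_c45))))))
theorem f410974 : Led Lsl_af (LP (LK LD1_c2 LD2_c9 LD3_c2)) = (LP (LK LD1_c3 LD2_c57 LD3_c25)) :=
  Lgr Lrot68 (Lpe (K10.f181602 IH) (Lpr_at (f273171 IH) (Lpe (K18.f197459 IH) (Lpn (LP (LK LD1_c3 LD2_c57 LD3_c25))))))
theorem f410976 : Led Lsl_at (LP (LK LD1_c1 LD2_c1 LD3_c42)) = (LP (LK LD1_c1 LD2_c55 LD3_c29)) :=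
  Lgr Lrot80 (Lpe (K10.f39211 IH) (Lpr_af (f410974 IH) (Lpe (K13.f59276 IH) (Lpn (LP (LK LD1_c1 LD2_c55 LD3_c29))))))
theorem f182172 : Led Lsl_bt (LP (LK LD1_c2 LD2_c37 LD3_c41)) = (LP (LK LD1_c5 LD2_c22 LD3_c19)) :=
  Lre_b IH (LK LD1_c2 LD2_c37 LD3_c41) (LK LD1_c5 LD2_c22 LD3_c19) Lrfl Lrfl
theorem f403062 : Led Lsl_df (LP (LK LD1_c8 LD2_c43 LD3_c56)) = (LP (LK LD1_c10 LD2_c35 LD3_c3)) :=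
  Lgr Lrot183 (Lpr_ct (K16.f237614 IH) (Lpr_bt (K16.f237613 IH) (Lpr_gt (K13.f239097 IH) (Lpe (K13.f239101 IH) (Lpr_ct (K13.f182332 IH) (Lpr_bt (K20.f313543 IH) (Lpr_gt (K13.f197395 IH) (Lpr_dt (K10.f193448 IH) (Lpr_ct (K10.f197400 IH) (Lpe (K20.f197402 IH) (Lpr_gt (K9.f28566 IH) (Lpr_dt (K11.f34703 IH) (Lpr_ct (K12.f52259 IH) (Lpr_bt (K9.f50800 IH) (Lpe (K9.f182167 IH) (Lpr_dt (K12.f172020 IH) (Lpr_ct (K12.f171982 IH) (Lpr_bt (f182172 IH) (Lpr_gt (K31.f182173 IH) (Lpn (LP (LK LD1_c10 LD2_c35 LD3_c3))))))))))))))))))))))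
theorem f403069 : Led Lsl_ft (LP (LK LD1_c10 LD2_c37 LD3_c35)) = (LP (LK LD1_c10 LD2_c35 LD3_c3)) :=
  Lgr Lrot54 (Lpe (K16.f238830 IH) (Lpr_ff (K16.f280023 IH) (Lpr_df (f403062 IH) (Lpn (LP (LK LD1_c10 LD2_c35 LD3_c3))))))
theorem f197438 : Led Lsl_dt (LP (LK LD1_c7 LD2_c56 LD3_c18)) = (LP (LK LD1_c3 LD2_c57 LD3_c20)) :=
  Lre_d IH (LK LD1_c7 LD2_c56 LD3_c18) (LK LD1_c3 LD2_c57 LD3_c20) Lrfl Lrfl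
theorem f181354 : Led Lsl_bt (LP (LK LD1_c1 LD2_c55 LD3_c27)) = (LP (LK LD1_c3 LD2_c57 LD3_c20)) :=
  Lre_b IH (LK LD1_c1 LD2_c55 LD3_c27) (LK LD1_c3 LD2_c57 LD3_c20) Lrfl Lrfl
theorem f101334 : Led Lsl_bt (LP (LK LD1_c3 LD2_c57 LD3_c23)) = (LP (LK LD1_c1 LD2_c55 LD3_c29)) :=
  Lre_b IH (LK LD1_c3 LD2_c57 LD3_c23) (LK LD1_c1 LD2_c55 LD3_c29) Lrfl Lrfl
theorem f197431 : Led Lsl_ct (LP (LK LD1_c3 LD2_c57 LD3_c20)) = (LP (LK LD1_c3 LD2_c57 LD3_c23)) :=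
  Lgr Lrot83 (Lpe (f181354 IH) (Lpe (K10.f171777 IH) (Lpr_bf (K13.f197429 IH) (Lpe (K12.f197423 IH) (Lpe (f101334 IH) (Lpn (LP (LK LD1_c3 LD2_c57 LD3_c23))))))))
theorem f197440 : Led Lsl_dt (LP (LK LD1_c3 LD2_c57 LD3_c23)) = (LP (LK LD1_c7 LD2_c56 LD3_c20)) :=
  Lre_d IH (LK LD1_c3 LD2_c57 LD3_c23) (LK LD1_c7 LD2_c56 LD3_c20) Lrfl Lrfl
theorem f197441 : Led Lsl_ct (LP (LK LD1_c7 LD2_c56 LD3_c20)) = (LP (LK LD1_c14 LD2_c58 LD3_c33)) :=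
  Lre_c IH (LK LD1_c7 LD2_c56 LD3_c20) (LK LD1_c14 LD2_c58 LD3_c33) Lrfl Lrfl
theorem f169164 : Led Lsl_bt (LP (LK LD1_c5 LD2_c20 LD3_c37)) = (LP (LK LD1_c2 LD2_c36 LD3_c58)) :=
  Lre_b IH (LK LD1_c5 LD2_c20 LD3_c37) (LK LD1_c2 LD2_c36 LD3_c58) Lrfl Lrfl
theorem f169175 : Led Lsl_ct (LP (LK LD1_c5 LD2_c23 LD3_c34)) = (LP (LK LD1_c2 LD2_c38 LD3_c20)) :=
  Lre_c IH (LK LD1_c5 LD2_c23 LD3_c34) (LK LD1_c2 LD2_c38 LD3_c20) Lrfl Lrfl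
theorem f169176 : Led Lsl_bt (LP (LK LD1_c10 LD2_c37 LD3_c38)) = (LP (LK LD1_c5 LD2_c23 LD3_c34)) :=
  Lre_b IH (LK LD1_c10 LD2_c37 LD3_c38) (LK LD1_c5 LD2_c23 LD3_c34) Lrfl Lrfl
theorem f169178 : Led Lsl_bt (LP (LK LD1_c5 LD2_c20 LD3_c39)) = (LP (LK LD1_c10 LD2_c31 LD3_c18)) :=
  Lre_b IH (LK LD1_c5 LD2_c20 LD3_c39) (LK LD1_c10 LD2_c31 LD3_c18) Lrfl Lrfl
theorem f169179 : Led Lsl_cf (LP (LK LD1_c10 LD2_c37 LD3_c38)) = (LP (LK LD1_c10 LD2_c31 LD3_c18)) :=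
  Lgr Lrot97 (Lpr_bt (f169176 IH) (Lpr_ct (f169175 IH) (Lpr_bt (K15.f169169 IH) (Lpr_ct (K20.f169177 IH) (Lpr_bt (f169178 IH) (Lpn (LP (LK LD1_c10 LD2_c31 LD3_c18))))))))
theorem f169201 : Led Lsl_ct (LP (LK LD1_c10 LD2_c37 LD3_c38)) = (LP (LK LD1_c10 LD2_c31 LD3_c18)) :=
  Lgr Lrot59 (Lpr_cf (f169179 IH) (Lpn (LP (LK LD1_c10 LD2_c31 LD3_c18))))
theorem f169217 : Led Lsl_et (LP (LK LD1_c5 LD2_c23 LD3_c33)) = (LP (LK LD1_c10 LD2_c37 LD3_c38)) :=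
  Lre_e IH (LK LD1_c5 LD2_c23 LD3_c33) (LK LD1_c10 LD2_c37 LD3_c38) Lrfl Lrfl
theorem f169218 : Led Lsl_et (LP (LK LD1_c10 LD2_c31 LD3_c18)) = (LP (LK LD1_c5 LD2_c20 LD3_c37)) :=
  Lre_e IH (LK LD1_c10 LD2_c31 LD3_c18) (LK LD1_c5 LD2_c20 LD3_c37) Lrfl Lrfl
theorem f169219 : Led Lsl_cf (LP (LK LD1_c5 LD2_c23 LD3_c33)) = (LP (LK LD1_c5 LD2_c20 LD3_c37)) :=
  Lgr Lrot39 (Lpr_et (f169217 IH) (Lpr_ct (f169201 IH) (Lpr_et (f169218 IH) (Lpn (LP (LK LD1_c5 LD2_c20 LD3_c37))))))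
theorem f169239 : Led Lsl_gt (LP (LK LD1_c10 LD2_c37 LD3_c36)) = (LP (LK LD1_c5 LD2_c23 LD3_c33)) :=
  Lre_g IH (LK LD1_c10 LD2_c37 LD3_c36) (LK LD1_c5 LD2_c23 LD3_c33) Lrfl Lrfl
theorem f169240 : Led Lsl_ct (LP (LK LD1_c19 LD2_c14 LD3_c60)) = (LP (LK LD1_c10 LD2_c37 LD3_c36)) :=
  Lre_c IH (LK LD1_c19 LD2_c14 LD3_c60) (LK LD1_c10 LD2_c37 LD3_c36) Lrfl Lrfl
theorem f257009 : Led Lsl_bt (LP (LK LD1_c19 LD2_c14 LD3_c60)) = (LP (LK LD1_c17 LD2_c48 LD3_c56)) :=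
  Lgr Lrot92 (Lpr_ct (f169240 IH) (Lpr_gt (f169239 IH) (Lpr_cf (f169219 IH) (Lpr_bt (f169164 IH) (Lpr_gt (K15.f257005 IH) (Lpe (K15.f256921 IH) (Lpr_gt (K15.f256820 IH) (Lpe (K13.f214018 IH) (Lpr_bt (K16.f216307 IH) (Lpr_gt (K16.f216308 IH) (Lpn (LP (LK LD1_c17 LD2_c48 LD3_c56)))))))))))))
theorem f229858 : Led Lsl_bt (LP (LK LD1_c3 LD2_c57 LD3_c24)) = (LP (LK LD1_c7 LD2_c56 LD3_c20)) :=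
  Lre_b IH (LK LD1_c3 LD2_c57 LD3_c24) (LK LD1_c7 LD2_c56 LD3_c20) Lrfl Lrfl
theorem f229860 : Led Lsl_bt (LP (LK LD1_c14 LD2_c58 LD3_c33)) = (LP (LK LD1_c17 LD2_c44 LD3_c4)) :=
  Lgr Lrot128 (Lpe (f197441 IH) (Lpe (f229858 IH) (Lpr_cf (K13.f229714 IH) (Lpe (K16.f229859 IH) (Lpe (K16.f229775 IH) (Lpn (LP (LK LD1_c17 LD2_c44 LD3_c4))))))))
theorem f229884 : Led Lsl_bf (LP (LK LD1_c14 LD2_c58 LD3_c33)) = (LP (LK LD1_c17 LD2_c44 LD3_c4)) :=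
  Lgr Lrot24 (Lpr_bt (f229860 IH) (Lpn (LP (LK LD1_c17 LD2_c44 LD3_c4))))
theorem f257014 : Led Lsl_df (LP (LK LD1_c19 LD2_c14 LD3_c60)) = (LP (LK LD1_c14 LD2_c58 LD3_c33)) :=
  Lgr Lrot12 (Lpr_bt (f257009 IH) (Lpe (K16.f238977 IH) (Lpe (f229884 IH) (Lpn (LP (LK LD1_c14 LD2_c58 LD3_c33))))))
theorem f403097 : Led Lsl_af (LP (LK LD1_c10 LD2_c37 LD3_c36)) = (LP (LK LD1_c10 LD2_c35 LD3_c3)) :=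
  Lgr Lrot109 (Lpe (f169240 IH) (Lpr_df (f257014 IH) (Lpe (f197441 IH) (Lpe (f197440 IH) (Lpe (f197431 IH) (Lpe (f197438 IH) (Lpe (K16.f197439 IH) (Lpr_df (K16.f238825 IH) (Lpr_ft (f403069 IH) (Lpn (LP (LK LD1_c10 LD2_c35 LD3_c3))))))))))))
theorem f403099 : Led Lsl_at (LP (LK LD1_c10 LD2_c37 LD3_c36)) = (LP (LK LD1_c10 LD2_c35 LD3_c3)) :=
  Lgr Lrot100 (Lpr_af (f403097 IH) (Lpn (LP (LK LD1_c10 LD2_c35 LD3_c3))))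
theorem f403127 : Led Lsl_ff (LP (LK LD1_c10 LD2_c37 LD3_c36)) = (LP (LK LD1_c10 LD2_c35 LD3_c4)) :=
  Lgr Lrot52 (Lpr_at (f403099 IH) (Lpe (K31.f182173 IH) (Lpe (K31.f228410 IH) (Lpn (LP (LK LD1_c10 LD2_c35 LD3_c4))))))
theorem f403133 : Led Lsl_ft (LP (LK LD1_c10 LD2_c37 LD3_c36)) = (LP (LK LD1_c10 LD2_c35 LD3_c4)) :=
  Lgr Lrot48 (Lpr_ff (f403127 IH) (Lpn (LP (LK LD1_c10 LD2_c35 LD3_c4))))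
theorem f388746 : Led Lsl_ct (LP (LK LD1_c10 LD2_c35 LD3_c4)) = (LP (LK LD1_c16 LD2_c21 LD3_c31)) :=
  Lgr Lrot59 (Lpr_cf (K31.f388741 IH) (Lpn (LP (LK LD1_c16 LD2_c21 LD3_c31))))
theorem f403137 : Led Lsl_ff (LP (LK LD1_c19 LD2_c14 LD3_c60)) = (LP (LK LD1_c16 LD2_c21 LD3_c31)) :=
  Lgr Lrot23 (Lpr_ct (f169240 IH) (Lpr_ft (f403133 IH) (Lpr_ct (f388746 IH) (Lpn (LP (LK LD1_c16 LD2_c21 LD3_c31))))))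
theorem f257025 : Led Lsl_dt (LP (LK LD1_c19 LD2_c14 LD3_c60)) = (LP (LK LD1_c14 LD2_c58 LD3_c33)) :=
  Lgr Lrot42 (Lpr_df (f257014 IH) (Lpn (LP (LK LD1_c14 LD2_c58 LD3_c33))))
theorem f388748 : Led Lsl_dt (LP (LK LD1_c8 LD2_c44 LD3_c11)) = (LP (LK LD1_c16 LD2_c21 LD3_c31)) :=
  Lre_d IH (LK LD1_c8 LD2_c44 LD3_c11) (LK LD1_c16 LD2_c21 LD3_c31) Lrfl Lrfl
theorem f403141 : Led Lsl_ft (LP (LK LD1_c14 LD2_c58 LD3_c33)) = (LP (LK LD1_c8 LD2_c44 LD3_c11)) :=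
  Lgr Lrot54 (Lpe (f257025 IH) (Lpr_ff (f403137 IH) (Lpe (f388748 IH) (Lpn (LP (LK LD1_c8 LD2_c44 LD3_c11))))))
theorem f403147 : Led Lsl_ff (LP (LK LD1_c14 LD2_c58 LD3_c33)) = (LP (LK LD1_c8 LD2_c44 LD3_c11)) :=
  Lgr Lrot3 (Lpr_ft (f403141 IH) (Lpn (LP (LK LD1_c8 LD2_c44 LD3_c11))))
theorem f197443 : Led Lsl_ct (LP (LK LD1_c14 LD2_c58 LD3_c33)) = (LP (LK LD1_c7 LD2_c56 LD3_c20)) :=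
  Lre_c IH (LK LD1_c14 LD2_c58 LD3_c33) (LK LD1_c7 LD2_c56 LD3_c20) Lrfl Lrfl
theorem f237286 : Led Lsl_ct (LP (LK LD1_c4 LD2_c23 LD3_c14)) = (LP (LK LD1_c8 LD2_c44 LD3_c11)) :=
  Lre_c IH (LK LD1_c4 LD2_c23 LD3_c14) (LK LD1_c8 LD2_c44 LD3_c11) Lrfl Lrfl
theorem f403149 : Led Lsl_ft (LP (LK LD1_c7 LD2_c56 LD3_c20)) = (LP (LK LD1_c4 LD2_c23 LD3_c14)) :=
  Lgr Lrot4 (Lpe (f197443 IH) (Lpr_ff (f403147 IH) (Lpe (f237286 IH) (Lpn (LP (LK LD1_c4 LD2_c23 LD3_c14))))))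
theorem f388759 : Led Lsl_dt (LP (LK LD1_c4 LD2_c23 LD3_c14)) = (LP (LK LD1_c2 LD2_c9 LD3_c3)) :=
  Lre_d IH (LK LD1_c4 LD2_c23 LD3_c14) (LK LD1_c2 LD2_c9 LD3_c3) Lrfl Lrfl
theorem f403151 : Led Lsl_ff (LP (LK LD1_c3 LD2_c57 LD3_c23)) = (LP (LK LD1_c2 LD2_c9 LD3_c3)) :=
  Lgr Lrot19 (Lpr_dt (f197440 IH) (Lpr_ft (f403149 IH) (Lpr_dt (f388759 IH) (Lpn (LP (LK LD1_c2 LD2_c9 LD3_c3))))))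
theorem f403154 : Led Lsl_ft (LP (LK LD1_c1 LD2_c55 LD3_c29)) = (LP (LK LD1_c1 LD2_c1 LD3_c43)) :=
  Lgr Lrot75 (Lpe (f101334 IH) (Lpr_ff (f403151 IH) (Lpe (K31.f29609 IH) (Lpn (LP (LK LD1_c1 LD2_c1 LD3_c43))))))
theorem f403162 : Led Lsl_af (LP (LK LD1_c1 LD2_c55 LD3_c30)) = (LP (LK LD1_c1 LD2_c1 LD3_c43)) :=
  Lgr Lrot31 (Lpe (K13.f181324 IH) (Lpe (K11.f101331 IH) (Lpr_ft (f403154 IH) (Lpn (LP (LK LD1_c1 LD2_c1 LD3_c43))))))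
theorem f410980 : Led Lsl_ff (LP (LK LD1_c1 LD2_c1 LD3_c42)) = (LP (LK LD1_c1 LD2_c55 LD3_c30)) :=
  Lgr Lrot30 (Lpr_at (f410976 IH) (Lpr_ft (f403154 IH) (Lpe (f403162 IH) (Lpn (LP (LK LD1_c1 LD2_c55 LD3_c30))))))
theorem f242605 : Led Lsl_ff (LP (LK LD1_c3 LD2_c57 LD3_c27)) = (LP (LK LD1_c6 LD2_c25 LD3_c29)) :=
  Lgr Lrot23 (Lpe (K13.f181319 IH) (Lpr_ft (K13.f242599 IH) (Lpr_ct (K13.f205105 IH) (Lpn (LP (LK LD1_c6 LD2_c25 LD3_c29))))))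
theorem f410982 : Led Lsl_et (LP (LK LD1_c4 LD2_c23 LD3_c11)) = (LP (LK LD1_c6 LD2_c25 LD3_c29)) :=
  Lgr Lrot69 (Lpe (K37.f181600 IH) (Lpe (K10.f80977 IH) (Lpr_ff (f410980 IH) (Lpe (f181331 IH) (Lpr_ff (f242605 IH) (Lpn (LP (LK LD1_c6 LD2_c25 LD3_c29))))))))
theorem f197876 : Led Lsl_af (LP (LK LD1_c4 LD2_c23 LD3_c11)) = (LP (LK LD1_c6 LD2_c14 LD3_c6)) :=
  Lgr Lrot68 (Lpe (K10.f181594 IH) (Lpr_at (K12.f197872 IH) (Lpr_ct (K10.f37181 IH) (Lpn (LP (LK LD1_c6 LD2_c14 LD3_c6))))))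
theorem f546940 : Led Lsl_et (LP (LK LD1_c3 LD2_c33 LD3_c37)) = (LP (LK LD1_c6 LD2_c14 LD3_c6)) :=
  Lgr Lrot123 (Lpr_af (f546932 IH) (Lpe (f410982 IH) (Lpr_af (f197876 IH) (Lpn (LP (LK LD1_c6 LD2_c14 LD3_c6))))))
theorem f108103 : Led Lsl_dt (LP (LK LD1_c1 LD2_c43 LD3_c31)) = (LP (LK LD1_c3 LD2_c33 LD3_c37)) :=
  Lre_d IH (LK LD1_c1 LD2_c43 LD3_c31) (LK LD1_c3 LD2_c33 LD3_c37) Lrfl Lrfl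
theorem f108070 : Led Lsl_dt (LP (LK LD1_c7 LD2_c8 LD3_c6)) = (LP (LK LD1_c3 LD2_c33 LD3_c38)) :=
  Lre_d IH (LK LD1_c7 LD2_c8 LD3_c6) (LK LD1_c3 LD2_c33 LD3_c38) Lrfl Lrfl
theorem f546944 : Led Lsl_ef (LP (LK LD1_c7 LD2_c8 LD3_c6)) = (LP (LK LD1_c6 LD2_c14 LD3_c26)) :=
  Lgr Lrot73 (Lpr_dt (f108070 IH) (Lpr_et (K28.f108062 IH) (Lpr_dt (f108103 IH) (Lpr_et (f546940 IH) (Lpe (K10.f197835 IH) (Lpn (LP (LK LD1_c6 LD2_c14 LD3_c26))))))))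
theorem f546952 : Led Lsl_et (LP (LK LD1_c7 LD2_c8 LD3_c6)) = (LP (LK LD1_c6 LD2_c14 LD3_c26)) :=
  Lgr Lrot87 (Lpr_ef (f546944 IH) (Lpn (LP (LK LD1_c6 LD2_c14 LD3_c26))))
theorem f108073 : Led Lsl_ct (LP (LK LD1_c13 LD2_c30 LD3_c56)) = (LP (LK LD1_c7 LD2_c8 LD3_c6)) :=
  Lre_c IH (LK LD1_c13 LD2_c30 LD3_c56) (LK LD1_c7 LD2_c8 LD3_c6) Lrfl Lrfl
theorem f546976 : Led Lsl_ef (LP (LK LD1_c13 LD2_c30 LD3_c56)) = (LP (LK LD1_c12 LD2_c6 LD3_c39)) :=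
  Lgr Lrot28 (Lpr_ct (f108073 IH) (Lpr_et (f546952 IH) (Lpr_ct (K10.f197854 IH) (Lpn (LP (LK LD1_c12 LD2_c6 LD3_c39))))))
theorem f270161 : Led Lsl_at (LP (LK LD1_c11 LD2_c23 LD3_c30)) = (LP (LK LD1_c12 LD2_c6 LD3_c39)) :=
  Lgr Lrot107 (Lpe (K13.f60781 IH) (Lpr_af (K16.f270157 IH) (Lpr_cf (K10.f197852 IH) (Lpn (LP (LK LD1_c12 LD2_c6 LD3_c39))))))
theorem f197494 : Led Lsl_et (LP (LK LD1_c20 LD2_c21 LD3_c16)) = (LP (LK LD1_c11 LD2_c23 LD3_c30)) :=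
  Lre_e IH (LK LD1_c20 LD2_c21 LD3_c16) (LK LD1_c11 LD2_c23 LD3_c30) Lrfl Lrfl
theorem f546982 : Led Lsl_at (LP (LK LD1_c13 LD2_c30 LD3_c56)) = (LP (LK LD1_c20 LD2_c21 LD3_c16)) :=
  Lgr Lrot80 (Lpr_ef (f546976 IH) (Lpe (f270161 IH) (Lpe (f197494 IH) (Lpn (LP (LK LD1_c20 LD2_c21 LD3_c16))))))
theorem f470613 : Led Lsl_ft (LP (LK LD1_c22 LD2_c29 LD3_c22)) = (LP (LK LD1_c13 LD2_c30 LD3_c56)) :=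
  Lgr Lrot4 (Lpe (K29.f470600 IH) (Lpr_ff (K28.f470605 IH) (Lpe (f108073 IH) (Lpn (LP (LK LD1_c13 LD2_c30 LD3_c56))))))
theorem f270190 : Led Lsl_ft (LP (LK LD1_c20 LD2_c21 LD3_c16)) = (LP (LK LD1_c29 LD2_c25 LD3_c5)) :=
  Lre_f IH (LK LD1_c20 LD2_c21 LD3_c16) (LK LD1_c29 LD2_c25 LD3_c5) Lrfl Lrfl
theorem f546993 : Led Lsl_af (LP (LK LD1_c22 LD2_c29 LD3_c22)) = (LP (LK LD1_c29 LD2_c25 LD3_c5)) :=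
  Lgr Lrot45 (Lpr_ft (f470613 IH) (Lpr_at (f546982 IH) (Lpr_ft (f270190 IH) (Lpn (LP (LK LD1_c29 LD2_c25 LD3_c5))))))
theorem f270189 : Led Lsl_ct (LP (LK LD1_c20 LD2_c21 LD3_c19)) = (LP (LK LD1_c29 LD2_c25 LD3_c5)) :=
  Lre_c IH (LK LD1_c20 LD2_c21 LD3_c19) (LK LD1_c29 LD2_c25 LD3_c5) Lrfl Lrfl
theorem f546998 : Led Lsl_at (LP (LK LD1_c13 LD2_c14 LD3_c34)) = (LP (LK LD1_c20 LD2_c21 LD3_c19)) :=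
  Lgr Lrot107 (Lpe (K29.f470568 IH) (Lpr_af (f546993 IH) (Lpe (f270189 IH) (Lpn (LP (LK LD1_c20 LD2_c21 LD3_c19))))))
theorem f470550 : Led Lsl_dt (LP (LK LD1_c6 LD2_c58 LD3_c31)) = (LP (LK LD1_c13 LD2_c14 LD3_c34)) :=
  Lre_d IH (LK LD1_c6 LD2_c58 LD3_c31) (LK LD1_c13 LD2_c14 LD3_c34) Lrfl Lrfl
theorem f547006 : Led Lsl_df (LP (LK LD1_c13 LD2_c14 LD3_c33)) = (LP (LK LD1_c20 LD2_c21 LD3_c19)) :=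
  Lgr Lrot18 (Lpr_at (K28.f470533 IH) (Lpr_dt (f470550 IH) (Lpr_at (f546998 IH) (Lpn (LP (LK LD1_c20 LD2_c21 LD3_c19))))))
theorem f270179 : Led Lsl_ft (LP (LK LD1_c11 LD2_c23 LD3_c31)) = (LP (LK LD1_c20 LD2_c21 LD3_c19)) :=
  Lre_f IH (LK LD1_c11 LD2_c23 LD3_c31) (LK LD1_c20 LD2_c21 LD3_c19) Lrfl Lrfl
theorem f547016 : Led Lsl_dt (LP (LK LD1_c7 LD2_c8 LD3_c3)) = (LP (LK LD1_c11 LD2_c23 LD3_c31)) :=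
  Lgr Lrot60 (Lpe (K35.f470538 IH) (Lpr_df (f547006 IH) (Lpe (f270179 IH) (Lpn (LP (LK LD1_c11 LD2_c23 LD3_c31))))))
theorem f60783 : Led Lsl_et (LP (LK LD1_c11 LD2_c23 LD3_c31)) = (LP (LK LD1_c5 LD2_c46 LD3_c40)) :=
  Lre_e IH (LK LD1_c11 LD2_c23 LD3_c31) (LK LD1_c5 LD2_c46 LD3_c40) Lrfl Lrfl
theorem f197881 : Led Lsl_at (LP (LK LD1_c4 LD2_c23 LD3_c11)) = (LP (LK LD1_c6 LD2_c14 LD3_c6)) :=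
  Lgr Lrot100 (Lpr_af (f197876 IH) (Lpn (LP (LK LD1_c6 LD2_c14 LD3_c6))))
theorem f270163 : Led Lsl_dt (LP (LK LD1_c5 LD2_c46 LD3_c40)) = (LP (LK LD1_c4 LD2_c23 LD3_c11)) :=
  Lgr Lrot44 (Lpr_af (K16.f270157 IH) (Lpr_df (K10.f197835 IH) (Lpe (f197881 IH) (Lpn (LP (LK LD1_c4 LD2_c23 LD3_c11))))))
theorem f547022 : Led Lsl_df (LP (LK LD1_c3 LD2_c33 LD3_c36)) = (LP (LK LD1_c6 LD2_c25 LD3_c29)) :=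
  Lgr Lrot70 (Lpr_et (K28.f108124 IH) (Lpr_dt (f547016 IH) (Lpr_et (f60783 IH) (Lpr_dt (f270163 IH) (Lpr_et (f410982 IH) (Lpn (LP (LK LD1_c6 LD2_c25 LD3_c29))))))))
theorem f547048 : Led Lsl_dt (LP (LK LD1_c3 LD2_c36 LD3_c61)) = (LP (LK LD1_c3 LD2_c57 LD3_c27)) :=
  Lgr Lrot60 (Lpr_ff (K29.f425471 IH) (Lpr_df (f547022 IH) (Lpe (f242613 IH) (Lpn (LP (LK LD1_c3 LD2_c57 LD3_c27))))))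
theorem f514955 : Led Lsl_gf (LP (LK LD1_c3 LD2_c36 LD3_c61)) = K36.v2357 :=
  Lgr Lrot76 (Lpe (K29.f425462 IH) (Lpr_ff (f128268 IH) (Lpr_gt (K36.f514954 IH) (Lpn K36.v2357))))
theorem f451444 : Led Lsl_ct (LP (LK LD1_c0 LD2_c30 LD3_c27)) = K36.v263 :=
  Lgr Lrot63 (Lpr_bt (K13.f164145 IH) (Lpe (K12.f210867 IH) (Lpe (K12.f80650 IH) (Lpe (K14.f255489 IH) (Lpr_gt (K14.f177132 IH) (Lpe (K14.f146308 IH) (Lpr_bt (K12.f146307 IH) (Lpr_gt (K11.f60174 IH) (Lpr_ct (K35.f446804 IH) (Lpr_gt (K36.f451442 IH) (Lpn K36.v263)))))))))))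
theorem f547056 : Led Lsl_cf (LP (LK LD1_c5 LD2_c49 LD3_c39)) = (LP (LK LD1_c3 LD2_c48 LD3_c21)) :=
  Lgr Lrot89 (Lpr_bt (K37.f449930 IH) (Lpq (K37.f542999 IH) (Lpe (f514955 IH) (Lpr_dt (f547048 IH) (Lpe (K13.f181319 IH) (Lpr_bt (K13.f28392 IH) (Lpe (K13.f212010 IH) (Lpr_dt (K9.f35333 IH) (Lpr_ct (f451444 IH) (Lpqs (K36.f537098 IH) (Lpr_bt (K36.f203565 IH) (Lpe (K11.f158471 IH) (Lpr_dt (K4.f104799 IH) (Lpe (K4.f104780 IH) (Lpr_bt (K8.f104785 IH) (Lpr_gt (K36.f203545 IH) (Lpr_dt (K32.f203523 IH) (Lpr_ct (K8.f96312 IH) (Lpe (K8.f111487 IH) (Lpr_gt (K8.f127429 IH) (Lpr_dt (K8.f93028 IH) (Lpn (LP (LK LD1_c3 LD2_c48 LD3_c21))))))))))))))))))))))))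
theorem f547068 : Led Lsl_gf (LP (LK LD1_c5 LD2_c49 LD3_c39)) = (LP (LK LD1_c6 LD2_c55 LD3_c52)) :=
  Lgr Lrot129 (Lpr_cf (f547056 IH) (Lpr_bt (K8.f144889 IH) (Lpr_gt (K8.f107305 IH) (Lpe (K5.f107280 IH) (Lpr_ct (K5.f95904 IH) (Lpr_gt (K3.f107278 IH) (Lpe (K2.f89846 IH) (Lpr_bt (K3.f89703 IH) (Lpr_gt (K6.f89719 IH) (Lpr_ct (K6.f107306 IH) (Lpn (LP (LK LD1_c6 LD2_c55 LD3_c52)))))))))))))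
theorem f210784 : Led Lsl_dt (LP (LK LD1_c5 LD2_c49 LD3_c39)) = (LP (LK LD1_c2 LD2_c50 LD3_c56)) :=
  Lre_d IH (LK LD1_c5 LD2_c49 LD3_c39) (LK LD1_c2 LD2_c50 LD3_c56) Lrfl Lrfl
theorem f179942 : Led Lsl_gt (LP (LK LD1_c2 LD2_c50 LD3_c56)) = (LP (LK LD1_c5 LD2_c49 LD3_c38)) :=
  Lre_g IH (LK LD1_c2 LD2_c50 LD3_c56) (LK LD1_c5 LD2_c49 LD3_c38) Lrfl Lrfl
theorem f547072 : Led Lsl_dt (LP (LK LD1_c5 LD2_c49 LD3_c38)) = (LP (LK LD1_c7 LD2_c16 LD3_c44)) :=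
  Lgr Lrot105 (Lpe (f179942 IH) (Lpe (f210784 IH) (Lpr_gf (f547068 IH) (Lpe (K6.f107306 IH) (Lpr_gt (K6.f136502 IH) (Lpe (K5.f127253 IH) (Lpr_gt (K28.f142474 IH) (Lpe (K28.f116583 IH) (Lpr_cf (K7.f116622 IH) (Lpn (LP (LK LD1_c7 LD2_c16 LD3_c44))))))))))))
theorem f72562 : Led Lsl_dt (LP (LK LD1_c5 LD2_c57 LD3_c57)) = (LP (LK LD1_c9 LD2_c49 LD3_c56)) :=
  Lgr Lrot79 (Lpe (K8.f72561 IH) (Lpr_df (K2.f72542 IH) (Lpe (K37.f40687 IH) (Lpn (LP (LK LD1_c9 LD2_c49 LD3_c56))))))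
theorem f547077 : Led Lsl_cf (LP (LK LD1_c5 LD2_c49 LD3_c38)) = (LP (LK LD1_c6 LD2_c15 LD3_c18)) :=
  Lgr Lrot116 (Lpr_dt (f547072 IH) (Lpe (K7.f116622 IH) (Lpr_dt (K36.f116581 IH) (Lpr_ct (K36.f116605 IH) (Lpr_af (K37.f426911 IH) (Lpe (K37.f426906 IH) (Lpr_dt (f72562 IH) (Lpe (K37.f543983 IH) (Lpr_dt (K8.f149232 IH) (Lpn (LP (LK LD1_c6 LD2_c15 LD3_c18))))))))))))
theorem f179940 : Led Lsl_bt (LP (LK LD1_c1 LD2_c21 LD3_c29)) = (LP (LK LD1_c0 LD2_c37 LD3_c36)) :=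
  Lre_b IH (LK LD1_c1 LD2_c21 LD3_c29) (LK LD1_c0 LD2_c37 LD3_c36) Lrfl Lrfl
theorem f179934 : Led Lsl_bt (LP (LK LD1_c0 LD2_c40 LD3_c60)) = (LP (LK LD1_c0 LD2_c18 LD3_c21)) :=
  Lre_b IH (LK LD1_c0 LD2_c40 LD3_c60) (LK LD1_c0 LD2_c18 LD3_c21) Lrfl Lrfl
theorem f179938 : Led Lsl_gt (LP (LK LD1_c3 LD2_c4 LD3_c17)) = (LP (LK LD1_c1 LD2_c28 LD3_c10)) :=
  Lre_g IH (LK LD1_c3 LD2_c4 LD3_c17) (LK LD1_c1 LD2_c28 LD3_c10) Lrfl Lrfl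
theorem f80636 : Led Lsl_bt (LP (LK LD1_c6 LD2_c15 LD3_c18)) = (LP (LK LD1_c3 LD2_c4 LD3_c45)) :=
  Lre_b IH (LK LD1_c6 LD2_c15 LD3_c18) (LK LD1_c3 LD2_c4 LD3_c45) Lrfl Lrfl
theorem f210310 : Led Lsl_ct (LP (LK LD1_c1 LD2_c28 LD3_c12)) = (LP (LK LD1_c0 LD2_c41 LD3_c1)) :=
  Lgr Lrot59 (Lpr_cf (K12.f210305 IH) (Lpn (LP (LK LD1_c0 LD2_c41 LD3_c1))))
theorem f449035 : Led Lsl_ft (LP (LK LD1_c2 LD2_c17 LD3_c55)) = (LP (LK LD1_c1 LD2_c28 LD3_c12)) :=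
  Lgr Lrot4 (Lpe (K11.f36598 IH) (Lpr_ff (K36.f449031 IH) (Lpe (f210310 IH) (Lpn (LP (LK LD1_c1 LD2_c28 LD3_c12))))))
theorem f25951 : Led Lsl_ct (LP (LK LD1_c2 LD2_c17 LD3_c55)) = (LP (LK LD1_c1 LD2_c5 LD3_c55)) :=
  Lre_c IH (LK LD1_c2 LD2_c17 LD3_c55) (LK LD1_c1 LD2_c5 LD3_c55) Lrfl Lrfl
theorem f176631 : Led Lsl_bt (LP (LK LD1_c0 LD2_c37 LD3_c32)) = (LP (LK LD1_c1 LD2_c21 LD3_c20)) :=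
  Lre_b IH (LK LD1_c0 LD2_c37 LD3_c32) (LK LD1_c1 LD2_c21 LD3_c20) Lrfl Lrfl
theorem f176632 : Led Lsl_ct (LP (LK LD1_c1 LD2_c21 LD3_c20)) = (LP (LK LD1_c2 LD2_c50 LD3_c41)) :=
  Lre_c IH (LK LD1_c1 LD2_c21 LD3_c20) (LK LD1_c2 LD2_c50 LD3_c41) Lrfl Lrfl
theorem f176633 : Led Lsl_bf (LP (LK LD1_c2 LD2_c17 LD3_c55)) = (LP (LK LD1_c2 LD2_c50 LD3_c41)) :=
  Lgr Lrot90 (Lpr_ct (f25951 IH) (Lpr_bt (K11.f25950 IH) (Lpr_ct (K11.f176625 IH) (Lpr_bt (f176631 IH) (Lpr_ct (f176632 IH) (Lpn (LP (LK LD1_c2 LD2_c50 LD3_c41))))))))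
theorem f503078 : Led Lsl_ff (LP (LK LD1_c2 LD2_c50 LD3_c41)) = K37.v1816 :=
  Lgr Lrot25 (Lpe (f176633 IH) (Lpr_ft (f449035 IH) (Lpr_bt (K37.f503075 IH) (Lpn K37.v1816))))
theorem f176676 : Led Lsl_ct (LP (LK LD1_c2 LD2_c50 LD3_c41)) = (LP (LK LD1_c1 LD2_c21 LD3_c20)) :=
  Lre_c IH (LK LD1_c2 LD2_c50 LD3_c41) (LK LD1_c1 LD2_c21 LD3_c20) Lrfl Lrfl
theorem f450167 : Led Lsl_ff (LP (LK LD1_c1 LD2_c28 LD3_c51)) = (LP (LK LD1_c1 LD2_c21 LD3_c20)) :=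
  Lgr Lrot25 (Lpr_bt (K37.f210309 IH) (Lpr_ft (K37.f450163 IH) (Lpr_bt (f176631 IH) (Lpn (LP (LK LD1_c1 LD2_c21 LD3_c20))))))
theorem f503079 : Led Lsl_ct (LP (LK LD1_c1 LD2_c28 LD3_c51)) = K37.v1816 :=
  Lgr Lrot40 (Lpr_ff (f450167 IH) (Lpe (f176676 IH) (Lpr_ff (f503078 IH) (Lpn K37.v1816))))
theorem f547086 : (LP (LK LD1_c3 LD2_c4 LD3_c17)) = K37.v1816 :=
  (Llr Lrot129 (Lpr_gt (f179938 IH) (Lpe (K37.f179937 IH) (Lpr_bt (f179934 IH) (Lpe (K14.f179930 IH) (Lpe (f179940 IH) (Lpr_ct (K37.f179941 IH) (Lpr_gt (f179942 IH) (Lpr_cf (f547077 IH) (Lpr_bt (f80636 IH) (Lpqs (K37.f546836 IH) (Lpe (K37.f503197 IH) (Lpr_ct (f503079 IH) (Lpn K37.v1816)))))))))))))).symm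
theorem f59093 : Led Lsl_gt (LP (LK LD1_c1 LD2_c28 LD3_c10)) = (LP (LK LD1_c3 LD2_c4 LD3_c16)) :=
  Lre_g IH (LK LD1_c1 LD2_c28 LD3_c10) (LK LD1_c3 LD2_c4 LD3_c16) Lrfl Lrfl
theorem f547094 : Led Lsl_at (LP (LK LD1_c2 LD2_c50 LD3_c41)) = (LP (LK LD1_c3 LD2_c4 LD3_c16)) :=
  Lgr Lrot26 (Lpr_ff (f503078 IH) (Lpq (f547086 IH) (Lpr_gt (f179938 IH) (Lpr_gt (f59093 IH) (Lpn (LP (LK LD1_c3 LD2_c4 LD3_c16)))))))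
theorem f176693 : Led Lsl_et (LP (LK LD1_c5 LD2_c49 LD3_c12)) = (LP (LK LD1_c2 LD2_c50 LD3_c41)) :=
  Lre_e IH (LK LD1_c5 LD2_c49 LD3_c12) (LK LD1_c2 LD2_c50 LD3_c41) Lrfl Lrfl
theorem f547103 : Led Lsl_et (LP (LK LD1_c3 LD2_c4 LD3_c16)) = (LP (LK LD1_c6 LD2_c14 LD3_c47)) :=
  Lre_e IH (LK LD1_c3 LD2_c4 LD3_c16) (LK LD1_c6 LD2_c14 LD3_c47) Lrfl Lrfl
theorem f547104 : Led Lsl_af (LP (LK LD1_c5 LD2_c49 LD3_c12)) = (LP (LK LD1_c6 LD2_c14 LD3_c47)) :=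
  Lgr Lrot50 (Lpr_et (f176693 IH) (Lpr_at (f547094 IH) (Lpr_et (f547103 IH) (Lpn (LP (LK LD1_c6 LD2_c14 LD3_c47))))))
theorem f176621 : Led Lsl_ct (LP (LK LD1_c5 LD2_c49 LD3_c12)) = (LP (LK LD1_c2 LD2_c50 LD3_c43)) :=
  Lre_c IH (LK LD1_c5 LD2_c49 LD3_c12) (LK LD1_c2 LD2_c50 LD3_c43) Lrfl Lrfl
theorem f450370 : Led Lsl_at (LP (LK LD1_c2 LD2_c50 LD3_c43)) = (LP (LK LD1_c5 LD2_c49 LD3_c11)) :=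
  Lre_a IH (LK LD1_c2 LD2_c50 LD3_c43) (LK LD1_c5 LD2_c49 LD3_c11) Lrfl Lrfl
theorem f547108 : Led Lsl_ct (LP (LK LD1_c5 LD2_c49 LD3_c11)) = (LP (LK LD1_c6 LD2_c14 LD3_c47)) :=
  Lgr Lrot111 (Lpe (f450370 IH) (Lpe (f176621 IH) (Lpr_af (f547104 IH) (Lpn (LP (LK LD1_c6 LD2_c14 LD3_c47))))))
theorem f450371 : Led Lsl_dt (LP (LK LD1_c11 LD2_c27 LD3_c33)) = (LP (LK LD1_c5 LD2_c49 LD3_c11)) :=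
  Lre_d IH (LK LD1_c11 LD2_c27 LD3_c33) (LK LD1_c5 LD2_c49 LD3_c11) Lrfl Lrfl
theorem f149220 : Led Lsl_et (LP (LK LD1_c1 LD2_c28 LD3_c25)) = (LP (LK LD1_c3 LD2_c4 LD3_c45)) :=
  Lre_e IH (LK LD1_c1 LD2_c28 LD3_c25) (LK LD1_c3 LD2_c4 LD3_c45) Lrfl Lrfl
theorem f99565 : Led Lsl_dt (LP (LK LD1_c3 LD2_c3 LD3_c28)) = (LP (LK LD1_c6 LD2_c13 LD3_c21)) :=
  Lre_d IH (LK LD1_c3 LD2_c3 LD3_c28) (LK LD1_c6 LD2_c13 LD3_c21) Lrfl Lrfl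
theorem f450247 : Led Lsl_et (LP (LK LD1_c5 LD2_c49 LD3_c11)) = (LP (LK LD1_c2 LD2_c50 LD3_c40)) :=
  Lre_e IH (LK LD1_c5 LD2_c49 LD3_c11) (LK LD1_c2 LD2_c50 LD3_c40) Lrfl Lrfl
theorem f450365 : Led Lsl_dt (LP (LK LD1_c5 LD2_c49 LD3_c11)) = (LP (LK LD1_c11 LD2_c27 LD3_c33)) :=
  Lre_d IH (LK LD1_c5 LD2_c49 LD3_c11) (LK LD1_c11 LD2_c27 LD3_c33) Lrfl Lrfl
theorem f546839 : Led Lsl_gt (LP (LK LD1_c6 LD2_c13 LD3_c21)) = (LP (LK LD1_c11 LD2_c27 LD3_c33)) :=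
  Lgr Lrot139 (Lpe (f99565 IH) (Lpe (K37.f99564 IH) (Lpe (f99562 IH) (Lpe (K4.f99540 IH) (Lpe (K8.f40334 IH) (Lpe (K8.f149211 IH) (Lpr_et (f149220 IH) (Lpqs (K37.f546836 IH) (Lpe (K37.f503198 IH) (Lpe (f450247 IH) (Lpr_dt (f450365 IH) (Lpn (LP (LK LD1_c11 LD2_c27 LD3_c33))))))))))))))
theorem f172130 : Led Lsl_ct (LP (LK LD1_c3 LD2_c3 LD3_c17)) = (LP (LK LD1_c1 LD2_c27 LD3_c39)) :=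
  Lre_c IH (LK LD1_c3 LD2_c3 LD3_c17) (LK LD1_c1 LD2_c27 LD3_c39) Lrfl Lrfl
theorem f424557 : Led Lsl_dt (LP (LK LD1_c12 LD2_c7 LD3_c49)) = (LP (LK LD1_c6 LD2_c14 LD3_c47)) :=
  Lre_d IH (LK LD1_c12 LD2_c7 LD3_c49) (LK LD1_c6 LD2_c14 LD3_c47) Lrfl Lrfl
theorem f163322 : Led Lsl_gt (LP (LK LD1_c2 LD2_c15 LD3_c11)) = (LP (LK LD1_c1 LD2_c22 LD3_c48)) :=
  Lgr Lrot46 (Lpr_gf (K6.f70856 IH) (Lpr_ft (K8.f163316 IH) (Lpe (K8.f163288 IH) (Lpn (LP (LK LD1_c1 LD2_c22 LD3_c48))))))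
theorem f71086 : Led Lsl_et (LP (LK LD1_c4 LD2_c35 LD3_c61)) = (LP (LK LD1_c2 LD2_c15 LD3_c11)) :=
  Lre_e IH (LK LD1_c4 LD2_c35 LD3_c61) (LK LD1_c2 LD2_c15 LD3_c11) Lrfl Lrfl
theorem f418487 : Led Lsl_dt (LP (LK LD1_c4 LD2_c35 LD3_c61)) = (LP (LK LD1_c9 LD2_c8 LD3_c12)) :=
  Lre_d IH (LK LD1_c4 LD2_c35 LD3_c61) (LK LD1_c9 LD2_c8 LD3_c12) Lrfl Lrfl
theorem f137501 : Led Lsl_et (LP (LK LD1_c0 LD2_c40 LD3_c45)) = (LP (LK LD1_c1 LD2_c28 LD3_c10)) :=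
  Lre_e IH (LK LD1_c0 LD2_c40 LD3_c45) (LK LD1_c1 LD2_c28 LD3_c10) Lrfl Lrfl
theorem f137502 : Led Lsl_et (LP (LK LD1_c6 LD2_c14 LD3_c47)) = (LP (LK LD1_c3 LD2_c4 LD3_c16)) :=
  Lre_e IH (LK LD1_c6 LD2_c14 LD3_c47) (LK LD1_c3 LD2_c4 LD3_c16) Lrfl Lrfl
theorem f137503 : Led Lsl_dt (LP (LK LD1_c6 LD2_c14 LD3_c47)) = (LP (LK LD1_c12 LD2_c7 LD3_c49)) :=
  Lre_d IH (LK LD1_c6 LD2_c14 LD3_c47) (LK LD1_c12 LD2_c7 LD3_c49) Lrfl Lrfl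
theorem f424550 : Led Lsl_gf (LP (LK LD1_c9 LD2_c8 LD3_c12)) = (LP (LK LD1_c12 LD2_c7 LD3_c49)) :=
  Lgr Lrot145 (Lpe (f418487 IH) (Lpr_et (f71086 IH) (Lpr_gt (f163322 IH) (Lpr_dt (K11.f137494 IH) (Lpr_gt (K11.f137495 IH) (Lpe (K6.f80263 IH) (Lpr_et (f137501 IH) (Lpr_gt (f59093 IH) (Lpe (f137502 IH) (Lpr_dt (f137503 IH) (Lpn (LP (LK LD1_c12 LD2_c7 LD3_c49)))))))))))))
theorem f420798 : Led Lsl_at (LP (LK LD1_c4 LD2_c36 LD3_c12)) = (LP (LK LD1_c9 LD2_c8 LD3_c12)) :=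
  Lre_a IH (LK LD1_c4 LD2_c36 LD3_c12) (LK LD1_c9 LD2_c8 LD3_c12) Lrfl Lrfl
theorem f420773 : Led Lsl_ft (LP (LK LD1_c9 LD2_c8 LD3_c37)) = (LP (LK LD1_c4 LD2_c36 LD3_c12)) :=
  Lre_f IH (LK LD1_c9 LD2_c8 LD3_c37) (LK LD1_c4 LD2_c36 LD3_c12) Lrfl Lrfl
theorem f424552 : Led Lsl_gt (LP (LK LD1_c9 LD2_c8 LD3_c37)) = (LP (LK LD1_c12 LD2_c7 LD3_c49)) :=
  Lgr Lrot5 (Lpr_ft (f420773 IH) (Lpr_at (f420798 IH) (Lpr_gf (f424550 IH) (Lpn (LP (LK LD1_c12 LD2_c7 LD3_c49))))))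
theorem f418481 : Led Lsl_dt (LP (LK LD1_c4 LD2_c36 LD3_c13)) = (LP (LK LD1_c9 LD2_c8 LD3_c37)) :=
  Lre_d IH (LK LD1_c4 LD2_c36 LD3_c13) (LK LD1_c9 LD2_c8 LD3_c37) Lrfl Lrfl
theorem f547116 : Led Lsl_gt (LP (LK LD1_c3 LD2_c3 LD3_c17)) = (LP (LK LD1_c4 LD2_c36 LD3_c13)) :=
  Lgr Lrot180 (Lpr_ct (f172130 IH) (Lpr_gt (K37.f99564 IH) (Lpr_dt (f99565 IH) (Lpr_gt (f546839 IH) (Lpr_dt (f450371 IH) (Lpr_ct (f547108 IH) (Lpe (f424557 IH) (Lpe (f424552 IH) (Lpe (f418481 IH) (Lpn (LP (LK LD1_c4 LD2_c36 LD3_c13))))))))))))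
theorem f101275 : Led Lsl_bt (LP (LK LD1_c1 LD2_c27 LD3_c33)) = (LP (LK LD1_c3 LD2_c3 LD3_c17)) :=
  Lre_b IH (LK LD1_c1 LD2_c27 LD3_c33) (LK LD1_c3 LD2_c3 LD3_c17) Lrfl Lrfl
theorem f71290 : Led Lsl_bt (LP (LK LD1_c2 LD2_c15 LD3_c23)) = (LP (LK LD1_c1 LD2_c4 LD3_c48)) :=
  Lre_b IH (LK LD1_c2 LD2_c15 LD3_c23) (LK LD1_c1 LD2_c4 LD3_c48) Lrfl Lrfl
theorem f71227 : Led Lsl_ct (LP (LK LD1_c4 LD2_c36 LD3_c13)) = (LP (LK LD1_c2 LD2_c15 LD3_c23)) :=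
  Lre_c IH (LK LD1_c4 LD2_c36 LD3_c13) (LK LD1_c2 LD2_c15 LD3_c23) Lrfl Lrfl
theorem f71475 : Led Lsl_bf (LP (LK LD1_c4 LD2_c36 LD3_c13)) = (LP (LK LD1_c3 LD2_c0 LD3_c61)) :=
  Lgr Lrot90 (Lpr_ct (f71227 IH) (Lpr_bt (f71290 IH) (Lpr_ct (K2.f71465 IH) (Lpr_bt (K1.f27248 IH) (Lpr_ct (K1.f27251 IH) (Lpn (LP (LK LD1_c3 LD2_c0 LD3_c61))))))))
theorem f547129 : Led Lsl_bf (LP (LK LD1_c3 LD2_c3 LD3_c40)) = (LP (LK LD1_c2 LD2_c26 LD3_c53)) :=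
  Lgr Lrot165 (Lpe (K10.f196236 IH) (Lpr_ct (K13.f175809 IH) (Lpe (K9.f175814 IH) (Lpe (K9.f69380 IH) (Lpr_bt (f101275 IH) (Lpr_gt (f547116 IH) (Lpr_bf (f71475 IH) (Lpr_ct (K1.f27253 IH) (Lpe (K11.f211040 IH) (Lpr_cf (K11.f211049 IH) (Lpn (LP (LK LD1_c2 LD2_c26 LD3_c53)))))))))))))
theorem f29305 : Led Lsl_bt (LP (LK LD1_c1 LD2_c56 LD3_c48)) = (LP (LK LD1_c4 LD2_c0 LD3_c2)) :=
  Lre_b IH (LK LD1_c1 LD2_c56 LD3_c48) (LK LD1_c4 LD2_c0 LD3_c2) Lrfl Lrfl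
theorem f547137 : Led Lsl_et (LP (LK LD1_c4 LD2_c0 LD3_c2)) = (LP (LK LD1_c2 LD2_c26 LD3_c53)) :=
  Lgr Lrot74 (Lpe (f29305 IH) (Lpe (K1.f36715 IH) (Lpr_bf (f547129 IH) (Lpn (LP (LK LD1_c2 LD2_c26 LD3_c53))))))
theorem f30812 : Led Lsl_dt (LP (LK LD1_c4 LD2_c0 LD3_c2)) = (LP (LK LD1_c8 LD2_c1 LD3_c7)) :=
  Lre_d IH (LK LD1_c4 LD2_c0 LD3_c2) (LK LD1_c8 LD2_c1 LD3_c7) Lrfl Lrfl
theorem f60702 : Led Lsl_dt (LP (LK LD1_c3 LD2_c4 LD3_c41)) = (LP (LK LD1_c6 LD2_c15 LD3_c16)) :=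
  Lre_d IH (LK LD1_c3 LD2_c4 LD3_c41) (LK LD1_c6 LD2_c15 LD3_c16) Lrfl Lrfl
theorem f547146 : Led Lsl_gt (LP (LK LD1_c8 LD2_c1 LD3_c7)) = (LP (LK LD1_c6 LD2_c15 LD3_c16)) :=
  Lgr Lrot112 (Lpe (f30812 IH) (Lpr_et (f547137 IH) (Lpe (K11.f211056 IH) (Lpe (K1.f35801 IH) (Lpr_dt (K0.f31710 IH) (Lpe (K12.f225020 IH) (Lpr_df (K12.f225010 IH) (Lpr_gf (K10.f189869 IH) (Lpr_ef (K16.f212042 IH) (Lpr_dt (f60702 IH) (Lpn (LP (LK LD1_c6 LD2_c15 LD3_c16)))))))))))))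
theorem f29251 : Led Lsl_bt (LP (LK LD1_c4 LD2_c0 LD3_c5)) = (LP (LK LD1_c8 LD2_c1 LD3_c7)) :=
  Lre_b IH (LK LD1_c4 LD2_c0 LD3_c5) (LK LD1_c8 LD2_c1 LD3_c7) Lrfl Lrfl
theorem f29255 : Led Lsl_cf (LP (LK LD1_c4 LD2_c0 LD3_c19)) = (LP (LK LD1_c4 LD2_c0 LD3_c5)) :=
  Lgr Lrot11 (Lpr_ct (K1.f29247 IH) (Lpn (LP (LK LD1_c4 LD2_c0 LD3_c5))))
theorem f39883 : Led Lsl_bt (LP (LK LD1_c2 LD2_c9 LD3_c9)) = (LP (LK LD1_c1 LD2_c1 LD3_c45)) :=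
  Lre_b IH (LK LD1_c2 LD2_c9 LD3_c9) (LK LD1_c1 LD2_c1 LD3_c45) Lrfl Lrfl
theorem f216600 : Led Lsl_ct (LP (LK LD1_c2 LD2_c9 LD3_c9)) = (LP (LK LD1_c4 LD2_c23 LD3_c30)) :=
  Lre_c IH (LK LD1_c2 LD2_c9 LD3_c9) (LK LD1_c4 LD2_c23 LD3_c30) Lrfl Lrfl
theorem f216601 : Led Lsl_gt (LP (LK LD1_c8 LD2_c44 LD3_c42)) = (LP (LK LD1_c4 LD2_c23 LD3_c30)) :=
  Lre_g IH (LK LD1_c8 LD2_c44 LD3_c42) (LK LD1_c4 LD2_c23 LD3_c30) Lrfl Lrfl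
theorem f212087 : Led Lsl_et (LP (LK LD1_c6 LD2_c9 LD3_c5)) = (LP (LK LD1_c5 LD2_c12 LD3_c27)) :=
  Lgr Lrot87 (Lpr_ef (f212082 IH) (Lpn (LP (LK LD1_c5 LD2_c12 LD3_c27))))
theorem f212089 : Led Lsl_bf (LP (LK LD1_c6 LD2_c9 LD3_c5)) = (LP (LK LD1_c3 LD2_c4 LD3_c41)) :=
  Lgr Lrot96 (Lpr_et (f212087 IH) (Lpe (K36.f212013 IH) (Lpr_et (K13.f212017 IH) (Lpn (LP (LK LD1_c3 LD2_c4 LD3_c41))))))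
theorem f212086 : Led Lsl_dt (LP (LK LD1_c6 LD2_c9 LD3_c5)) = (LP (LK LD1_c11 LD2_c59 LD3_c16)) :=
  Lre_d IH (LK LD1_c6 LD2_c9 LD3_c5) (LK LD1_c11 LD2_c59 LD3_c16) Lrfl Lrfl
theorem f212092 : Led Lsl_bt (LP (LK LD1_c11 LD2_c59 LD3_c16)) = (LP (LK LD1_c6 LD2_c15 LD3_c16)) :=
  Lgr Lrot95 (Lpe (f212086 IH) (Lpr_bf (f212089 IH) (Lpe (K16.f60704 IH) (Lpn (LP (LK LD1_c6 LD2_c15 LD3_c16))))))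
theorem f547152 : Led Lsl_cf (LP (LK LD1_c8 LD2_c44 LD3_c42)) = (LP (LK LD1_c11 LD2_c59 LD3_c16)) :=
  Lgr Lrot160 (Lpr_gt (f216601 IH) (Lpe (f216600 IH) (Lpr_bt (f39883 IH) (Lpr_gt (K12.f29617 IH) (Lpe (K12.f216590 IH) (Lpr_gt (K12.f216424 IH) (Lpr_cf (f29255 IH) (Lpr_bt (f29251 IH) (Lpr_gt (f547146 IH) (Lpe (f212092 IH) (Lpn (LP (LK LD1_c11 LD2_c59 LD3_c16)))))))))))))
theorem f412629 : Led Lsl_ct (LP (LK LD1_c4 LD2_c23 LD3_c30)) = (LP (LK LD1_c2 LD2_c9 LD3_c9)) :=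
  Lre_c IH (LK LD1_c4 LD2_c23 LD3_c30) (LK LD1_c2 LD2_c9 LD3_c9) Lrfl Lrfl
theorem f174450 : Led Lsl_dt (LP (LK LD1_c2 LD2_c9 LD3_c9)) = (LP (LK LD1_c1 LD2_c1 LD3_c44)) :=
  Lre_d IH (LK LD1_c2 LD2_c9 LD3_c9) (LK LD1_c1 LD2_c1 LD3_c44) Lrfl Lrfl
theorem f174845 : Led Lsl_dt (LP (LK LD1_c4 LD2_c32 LD3_c53)) = (LP (LK LD1_c9 LD2_c3 LD3_c2)) :=
  Lre_d IH (LK LD1_c4 LD2_c32 LD3_c53) (LK LD1_c9 LD2_c3 LD3_c2) Lrfl Lrfl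
theorem f547158 : Led Lsl_gt (LP (LK LD1_c9 LD2_c3 LD3_c2)) = (LP (LK LD1_c11 LD2_c59 LD3_c16)) :=
  Lgr Lrot9 (Lpe (f174845 IH) (Lpr_gt (K10.f181554 IH) (Lpr_ct (K10.f181561 IH) (Lpr_gt (K10.f80213 IH) (Lpr_ct (K31.f181752 IH) (Lpe (f174450 IH) (Lpe (f412629 IH) (Lpe (f216601 IH) (Lpr_cf (f547152 IH) (Lpn (LP (LK LD1_c11 LD2_c59 LD3_c16))))))))))))
theorem f403145 : Led Lsl_ct (LP (LK LD1_c2 LD2_c13 LD3_c26)) = (LP (LK LD1_c1 LD2_c3 LD3_c45)) :=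
  Lre_c IH (LK LD1_c2 LD2_c13 LD3_c26) (LK LD1_c1 LD2_c3 LD3_c45) Lrfl Lrfl
theorem f211918 : Led Lsl_gt (LP (LK LD1_c4 LD2_c32 LD3_c48)) = (LP (LK LD1_c2 LD2_c13 LD3_c34)) :=
  Lre_g IH (LK LD1_c4 LD2_c32 LD3_c48) (LK LD1_c2 LD2_c13 LD3_c34) Lrfl Lrfl
theorem f212091 : Led Lsl_dt (LP (LK LD1_c11 LD2_c59 LD3_c16)) = (LP (LK LD1_c6 LD2_c9 LD3_c5)) :=
  Lre_d IH (LK LD1_c11 LD2_c59 LD3_c16) (LK LD1_c6 LD2_c9 LD3_c5) Lrfl Lrfl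
theorem f547160 : Led Lsl_dt (LP (LK LD1_c2 LD2_c13 LD3_c34)) = (LP (LK LD1_c3 LD2_c0 LD3_c55)) :=
  Lgr Lrot105 (Lpe (f211918 IH) (Lpe (K37.f382038 IH) (Lpe (K30.f494130 IH) (Lpe (f403145 IH) (Lpr_gt (K31.f174811 IH) (Lpr_dt (f174845 IH) (Lpr_gt (f547158 IH) (Lpr_dt (f212091 IH) (Lpe (f60137 IH) (Lpn (LP (LK LD1_c3 LD2_c0 LD3_c55))))))))))))
theorem f547166 : Led Lsl_df (LP (LK LD1_c2 LD2_c13 LD3_c34)) = (LP (LK LD1_c3 LD2_c0 LD3_c55)) :=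
  Lgr Lrot38 (Lpr_dt (f547160 IH) (Lpn (LP (LK LD1_c3 LD2_c0 LD3_c55))))
theorem f100416 : Led Lsl_gt (LP (LK LD1_c2 LD2_c13 LD3_c34)) = (LP (LK LD1_c1 LD2_c3 LD3_c48)) :=
  Lre_g IH (LK LD1_c2 LD2_c13 LD3_c34) (LK LD1_c1 LD2_c3 LD3_c48) Lrfl Lrfl
theorem f100415 : Led Lsl_dt (LP (LK LD1_c0 LD2_c29 LD3_c6)) = (LP (LK LD1_c1 LD2_c3 LD3_c48)) :=
  Lre_d IH (LK LD1_c0 LD2_c29 LD3_c6) (LK LD1_c1 LD2_c3 LD3_c48) Lrfl Lrfl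
theorem f100414 : Led Lsl_et (LP (LK LD1_c0 LD2_c29 LD3_c6)) = (LP (LK LD1_c0 LD2_c13 LD3_c2)) :=
  Lre_e IH (LK LD1_c0 LD2_c29 LD3_c6) (LK LD1_c0 LD2_c13 LD3_c2) Lrfl Lrfl
theorem f547177 : Led Lsl_gt (LP (LK LD1_c2 LD2_c16 LD3_c55)) = (LP (LK LD1_c2 LD2_c33 LD3_c3)) :=
  Lgr Lrot131 (Lpe (K28.f56258 IH) (Lpr_dt (K6.f99642 IH) (Lpe (K4.f99613 IH) (Lpe (K8.f25136 IH) (Lpe (K5.f25135 IH) (Lpe (f100414 IH) (Lpr_dt (f100415 IH) (Lpe (f100416 IH) (Lpr_df (f547166 IH) (Lpe (K36.f194017 IH) (Lpn (LP (LK LD1_c2 LD2_c33 LD3_c3)))))))))))))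
theorem f542653 : Led Lsl_at (LP (LK LD1_c2 LD2_c16 LD3_c54)) = (LP (LK LD1_c4 LD2_c39 LD3_c45)) :=
  Lre_a IH (LK LD1_c2 LD2_c16 LD3_c54) (LK LD1_c4 LD2_c39 LD3_c45) Lrfl Lrfl
theorem f542656 : Led Lsl_ft (LP (LK LD1_c4 LD2_c39 LD3_c45)) = (LP (LK LD1_c2 LD2_c16 LD3_c53)) :=
  Lre_f IH (LK LD1_c4 LD2_c39 LD3_c45) (LK LD1_c2 LD2_c16 LD3_c53) Lrfl Lrfl
theorem f542657 : Led Lsl_af (LP (LK LD1_c2 LD2_c33 LD3_c3)) = (LP (LK LD1_c2 LD2_c16 LD3_c53)) :=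
  Lgr Lrot45 (Lpr_ft (K36.f495324 IH) (Lpqs (K36.f542648 IH) (Lpr_at (f542653 IH) (Lpr_ft (f542656 IH) (Lpn (LP (LK LD1_c2 LD2_c16 LD3_c53)))))))
theorem f547179 : Led Lsl_gf (LP (LK LD1_c2 LD2_c16 LD3_c55)) = (LP (LK LD1_c4 LD2_c39 LD3_c45)) :=
  Lgr Lrot47 (Lpr_gt (f547177 IH) (Lpr_af (f542657 IH) (Lpe (f542656 IH) (Lpn (LP (LK LD1_c4 LD2_c39 LD3_c45))))))
theorem f542665 : Led Lsl_ct (LP (LK LD1_c9 LD2_c14 LD3_c61)) = (LP (LK LD1_c4 LD2_c39 LD3_c45)) :=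
  Lre_c IH (LK LD1_c9 LD2_c14 LD3_c61) (LK LD1_c4 LD2_c39 LD3_c45) Lrfl Lrfl
theorem f547946 : Led Lsl_gf (LP (LK LD1_c5 LD2_c47 LD3_c54)) = (LP (LK LD1_c9 LD2_c14 LD3_c61)) :=
  Lgr Lrot144 (Lpe (K36.f540448 IH) (Lpr_gt (K36.f34876 IH) (Lpr_dt (K2.f34847 IH) (Lpe (K2.f34871 IH) (Lpe (K36.f34889 IH) (Lpe (K36.f34907 IH) (Lpr_df (K36.f547930 IH) (Lpr_gf (f547179 IH) (Lpe (f542665 IH) (Lpn (LP (LK LD1_c9 LD2_c14 LD3_c61))))))))))))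
theorem f547948 : Led Lsl_gt (LP (LK LD1_c5 LD2_c47 LD3_c54)) = (LP (LK LD1_c5 LD2_c12 LD3_c27)) :=
  Lgr Lrot46 (Lpr_gf (f547946 IH) (Lpr_ft (K36.f542806 IH) (Lpe (K36.f542797 IH) (Lpn (LP (LK LD1_c5 LD2_c12 LD3_c27))))))
theorem f132818 : Led Lsl_ct (LP (LK LD1_c2 LD2_c49 LD3_c61)) = (LP (LK LD1_c5 LD2_c47 LD3_c54)) :=
  Lre_c IH (LK LD1_c2 LD2_c49 LD3_c61) (LK LD1_c5 LD2_c47 LD3_c54) Lrfl Lrfl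
theorem f547956 : K35.v1523 = (LP (LK LD1_c2 LD2_c33 LD3_c1)) :=
  (Llr Lrot124 (Lpe (K35.f496044 IH) (Lpe (K8.f132339 IH) (Lpr_ct (f132818 IH) (Lpr_gt (f547948 IH) (Lpe (K36.f193997 IH) (Lpr_bt (K36.f193996 IH) (Lpr_gt (K10.f185133 IH) (Lpr_ct (K10.f185088 IH) (Lpr_gt (K10.f22103 IH) (Lpe (K10.f186813 IH) (Lpr_bt (K36.f186826 IH) (Lpn (LP (LK LD1_c2 LD2_c33 LD3_c1))))))))))))))).symm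
theorem f537970 : K35.v1456 = (LP (LK LD1_c2 LD2_c33 LD3_c1)) :=
  Lefun (Lecon (Lfl_ff (K35.f501276 IH)) (f537804 IH)) (K36.f313833 IH)
theorem f547957 : (LP (LK LD1_c1 LD2_c21 LD3_c5)) = K35.v1750 :=
  Lefun (Lecon (Lfl_gf (K35.f496044 IH)) ((f547956 IH).trans (f537970 IH).symm)) (K35.f501280 IH)
theorem f542791 : Led Lsl_ct (LP (LK LD1_c4 LD2_c39 LD3_c45)) = (LP (LK LD1_c9 LD2_c14 LD3_c61)) :=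
  Lre_c IH (LK LD1_c4 LD2_c39 LD3_c45) (LK LD1_c9 LD2_c14 LD3_c61) Lrfl Lrfl
theorem f547964 : Led Lsl_gt (LP (LK LD1_c2 LD2_c16 LD3_c57)) = (LP (LK LD1_c4 LD2_c39 LD3_c45)) :=
  Lgr Lrot82 (Lpe (K35.f56230 IH) (Lpr_ct (K9.f9022 IH) (Lpe (K0.f9082 IH) (Lpe (K10.f169093 IH) (Lpr_bt (K35.f169107 IH) (Lpr_gf (K35.f501270 IH) (Lpq (f547957 IH) (Lpe (K8.f132339 IH) (Lpr_ct (f132818 IH) (Lpr_gf (f547946 IH) (Lpe (f542791 IH) (Lpn (LP (LK LD1_c4 LD2_c39 LD3_c45))))))))))))))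
theorem f34959 : Led Lsl_ct (LP (LK LD1_c9 LD2_c7 LD3_c23)) = (LP (LK LD1_c16 LD2_c59 LD3_c34)) :=
  Lre_c IH (LK LD1_c9 LD2_c7 LD3_c23) (LK LD1_c16 LD2_c59 LD3_c34) Lrfl Lrfl
theorem f442705 : Led Lsl_gt (LP (LK LD1_c16 LD2_c59 LD3_c34)) = (LP (LK LD1_c9 LD2_c7 LD3_c47)) :=
  Lre_g IH (LK LD1_c16 LD2_c59 LD3_c34) (LK LD1_c9 LD2_c7 LD3_c47) Lrfl Lrfl
theorem f132811 : Led Lsl_ct (LP (LK LD1_c5 LD2_c47 LD3_c54)) = (LP (LK LD1_c2 LD2_c49 LD3_c61)) :=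
  Lre_c IH (LK LD1_c5 LD2_c47 LD3_c54) (LK LD1_c2 LD2_c49 LD3_c61) Lrfl Lrfl
theorem f439084 : Led Lsl_dt (LP (LK LD1_c5 LD2_c47 LD3_c59)) = (LP (LK LD1_c2 LD2_c49 LD3_c61)) :=
  Lre_d IH (LK LD1_c5 LD2_c47 LD3_c59) (LK LD1_c2 LD2_c49 LD3_c61) Lrfl Lrfl
theorem f547969 : Led Lsl_ct (LP (LK LD1_c9 LD2_c7 LD3_c47)) = (LP (LK LD1_c5 LD2_c47 LD3_c59)) :=
  Lgr Lrot110 (Lpe (f442705 IH) (Lpe (f34959 IH) (Lpe (K36.f34975 IH) (Lpr_df (K36.f547821 IH) (Lpr_gt (f547964 IH) (Lpr_ct (f542791 IH) (Lpe (f547946 IH) (Lpr_ct (f132811 IH) (Lpe (f439084 IH) (Lpn (LP (LK LD1_c5 LD2_c47 LD3_c59))))))))))))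
theorem f547981 : Led Lsl_cf (LP (LK LD1_c9 LD2_c7 LD3_c47)) = (LP (LK LD1_c5 LD2_c47 LD3_c59)) :=
  Lgr Lrot11 (Lpr_ct (f547969 IH) (Lpn (LP (LK LD1_c5 LD2_c47 LD3_c59))))
theorem f71788 : Led Lsl_bf (LP (LK LD1_c5 LD2_c54 LD3_c2)) = (LP (LK LD1_c9 LD2_c7 LD3_c23)) :=
  Lgr Lrot24 (Lpr_bt (K2.f71786 IH) (Lpn (LP (LK LD1_c9 LD2_c7 LD3_c23))))
theorem f442704 : Led Lsl_gt (LP (LK LD1_c2 LD2_c53 LD3_c52)) = (LP (LK LD1_c5 LD2_c54 LD3_c2)) :=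
  Lre_g IH (LK LD1_c2 LD2_c53 LD3_c52) (LK LD1_c5 LD2_c54 LD3_c2) Lrfl Lrfl
theorem f180593 : Led Lsl_bt (LP (LK LD1_c5 LD2_c55 LD3_c1)) = (LP (LK LD1_c2 LD2_c53 LD3_c52)) :=
  Lre_b IH (LK LD1_c5 LD2_c55 LD3_c1) (LK LD1_c2 LD2_c53 LD3_c52) Lrfl Lrfl
theorem f545060 : Led Lsl_bt (LP (LK LD1_c5 LD2_c47 LD3_c59)) = (LP (LK LD1_c2 LD2_c50 LD3_c4)) :=
  Lre_b IH (LK LD1_c5 LD2_c47 LD3_c59) (LK LD1_c2 LD2_c50 LD3_c4) Lrfl Lrfl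
theorem f198640 : Led Lsl_ft (LP (LK LD1_c1 LD2_c5 LD3_c24)) = (LP (LK LD1_c2 LD2_c16 LD3_c60)) :=
  Lre_f IH (LK LD1_c1 LD2_c5 LD3_c24) (LK LD1_c2 LD2_c16 LD3_c60) Lrfl Lrfl
theorem f547882 : Led Lsl_bf (LP (LK LD1_c4 LD2_c35 LD3_c37)) = (LP (LK LD1_c2 LD2_c16 LD3_c60)) :=
  Lgr Lrot61 (Lpr_ft (K36.f547831 IH) (Lpr_bt (K37.f183086 IH) (Lpr_ft (f198640 IH) (Lpn (LP (LK LD1_c2 LD2_c16 LD3_c60))))))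
def v1748 : LQ := Led Lsl_bt (LP (LK LD1_c1 LD2_c25 LD3_c34))
theorem f501260 : Led Lsl_bt (LP (LK LD1_c1 LD2_c25 LD3_c34)) = v1748 :=
  Lrfl
theorem f547997 : Led Lsl_gf v1748 = (LP (LK LD1_c2 LD2_c50 LD3_c4)) :=
  Lgr Lrot124 (Lpe (f501260 IH) (Lpe (K10.f177393 IH) (Lpr_gt (K10.f9061 IH) (Lpe (K9.f9064 IH) (Lpe (f547882 IH) (Lpr_gt (K36.f34975 IH) (Lpr_ct (f34959 IH) (Lpr_gt (f442705 IH) (Lpr_cf (f547981 IH) (Lpr_bt (f545060 IH) (Lpn (LP (LK LD1_c2 LD2_c50 LD3_c4)))))))))))))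
theorem f334623 : Led Lsl_ff (LP (LK LD1_c1 LD2_c25 LD3_c34)) = (LP (LK LD1_c2 LD2_c1 LD3_c1)) :=
  Lgr Lrot19 (Lpr_dt (K10.f177158 IH) (Lpr_ft (K22.f334621 IH) (Lpr_dt (K9.f172064 IH) (Lpn (LP (LK LD1_c2 LD2_c1 LD3_c1))))))
theorem f501263 : Led Lsl_ff (LP (LK LD1_c4 LD2_c7 LD3_c21)) = v1748 :=
  Lgr Lrot25 (Lpr_bt (f55814 IH) (Lpe (f334623 IH) (Lpr_bt (f501260 IH) (Lpn v1748))))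
theorem f172084 : Led Lsl_bt (LP (LK LD1_c2 LD2_c58 LD3_c8)) = (LP (LK LD1_c6 LD2_c4 LD3_c3)) :=
  Lre_b IH (LK LD1_c2 LD2_c58 LD3_c8) (LK LD1_c6 LD2_c4 LD3_c3) Lrfl Lrfl
theorem f172085 : Led Lsl_bt (LP (LK LD1_c8 LD2_c14 LD3_c54)) = (LP (LK LD1_c4 LD2_c7 LD3_c22)) :=
  Lre_b IH (LK LD1_c8 LD2_c14 LD3_c54) (LK LD1_c4 LD2_c7 LD3_c22) Lrfl Lrfl
theorem f172086 : Led Lsl_dt (LP (LK LD1_c6 LD2_c4 LD3_c3)) = (LP (LK LD1_c8 LD2_c14 LD3_c54)) :=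
  Lgr Lrot79 (Lpe (f172084 IH) (Lpr_df (K35.f172076 IH) (Lpe (f172085 IH) (Lpn (LP (LK LD1_c8 LD2_c14 LD3_c54))))))
theorem f22441 : Led Lsl_et (LP (LK LD1_c2 LD2_c58 LD3_c6)) = (LP (LK LD1_c6 LD2_c4 LD3_c3)) :=
  Lre_e IH (LK LD1_c2 LD2_c58 LD3_c6) (LK LD1_c6 LD2_c4 LD3_c3) Lrfl Lrfl
theorem f22438 : Led Lsl_dt (LP (LK LD1_c1 LD2_c24 LD3_c43)) = (LP (LK LD1_c2 LD2_c58 LD3_c6)) :=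
  Lre_d IH (LK LD1_c1 LD2_c24 LD3_c43) (LK LD1_c2 LD2_c58 LD3_c6) Lrfl Lrfl
theorem f172095 : Led Lsl_et (LP (LK LD1_c8 LD2_c14 LD3_c54)) = (LP (LK LD1_c4 LD2_c7 LD3_c21)) :=
  Lre_e IH (LK LD1_c8 LD2_c14 LD3_c54) (LK LD1_c4 LD2_c7 LD3_c21) Lrfl Lrfl
theorem f172096 : Led Lsl_df (LP (LK LD1_c2 LD2_c16 LD3_c52)) = (LP (LK LD1_c4 LD2_c7 LD3_c21)) :=
  Lgr Lrot70 (Lpr_et (f22436 IH) (Lpr_dt (f22438 IH) (Lpr_et (f22441 IH) (Lpr_dt (f172086 IH) (Lpr_et (f172095 IH) (Lpn (LP (LK LD1_c4 LD2_c7 LD3_c21))))))))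
def v451 : LQ := Led Lsl_bt (LP (LK LD1_c0 LD2_c39 LD3_c26))
theorem f452927 : Led Lsl_bt (LP (LK LD1_c0 LD2_c39 LD3_c26)) = v451 :=
  Lrfl
theorem f452930 : Led Lsl_ff (LP (LK LD1_c2 LD2_c16 LD3_c52)) = v451 :=
  Lgr Lrot25 (Lpr_bt (f22428 IH) (Lpe (K22.f334625 IH) (Lpr_bt (f452927 IH) (Lpn v451))))
theorem f175884 : Led Lsl_bf (LP (LK LD1_c0 LD2_c29 LD3_c53)) = (LP (LK LD1_c0 LD2_c29 LD3_c53)) :=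
  Lgr Lrot96 (Lpr_et (K9.f21220 IH) (Lpr_bt (K9.f175825 IH) (Lpe (K9.f22389 IH) (Lpn (LP (LK LD1_c0 LD2_c29 LD3_c53))))))
theorem f422798 : Led Lsl_ct (LP (LK LD1_c2 LD2_c16 LD3_c52)) = (LP (LK LD1_c2 LD2_c16 LD3_c52)) :=
  Lgr Lrot83 (Lpe (f22439 IH) (Lpe (K9.f22397 IH) (Lpr_bf (f175884 IH) (Lpe (K22.f22386 IH) (Lpe (f22428 IH) (Lpn (LP (LK LD1_c2 LD2_c16 LD3_c52))))))))
theorem f452928 : Led Lsl_bf (LP (LK LD1_c0 LD2_c39 LD3_c26)) = v451 :=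
  Lgr Lrot24 (Lpr_bt (f452927 IH) (Lpn v451))
theorem f452929 : Led Lsl_cf v451 = v451 :=
  Lgr Lrot97 (Lpe (f452928 IH) (Lpr_ct (K10.f169002 IH) (Lpr_bt (K10.f181435 IH) (Lpr_ct (K10.f177156 IH) (Lpr_bt (f452927 IH) (Lpn v451))))))
theorem f452931 : Led Lsl_ft (LP (LK LD1_c2 LD2_c16 LD3_c52)) = v451 :=
  Lgr Lrot4 (Lpe (f422798 IH) (Lpr_ff (f452930 IH) (Lpr_cf (f452929 IH) (Lpn v451))))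
theorem f501264 : Led Lsl_dt v451 = v1748 :=
  Lgr Lrot60 (Lpe (f452931 IH) (Lpr_df (f172096 IH) (Lpr_ff (f501263 IH) (Lpn v1748))))
theorem f3194 : Led Lsl_dt (LP (LK LD1_c1 LD2_c12 LD3_c35)) = (LP (LK LD1_c2 LD2_c31 LD3_c11)) :=
  Lre_d IH (LK LD1_c1 LD2_c12 LD3_c35) (LK LD1_c2 LD2_c31 LD3_c11) Lrfl Lrfl
def v369 : LQ := Led Lsl_at (LP (LK LD1_c0 LD2_c34 LD3_c18))
theorem f452459 : Led Lsl_at (LP (LK LD1_c0 LD2_c34 LD3_c18)) = v369 :=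
  Lrfl
theorem f163628 : Led Lsl_at (LP (LK LD1_c0 LD2_c15 LD3_c4)) = (LP (LK LD1_c0 LD2_c15 LD3_c23)) :=
  Lgr Lrot100 (Lpr_af (K8.f163626 IH) (Lpn (LP (LK LD1_c0 LD2_c15 LD3_c23))))
theorem f3271 : Led Lsl_at (LP (LK LD1_c1 LD2_c12 LD3_c35)) = (LP (LK LD1_c0 LD2_c33 LD3_c36)) :=
  Lre_a IH (LK LD1_c1 LD2_c12 LD3_c35) (LK LD1_c0 LD2_c33 LD3_c36) Lrfl Lrfl
theorem f452461 : Led Lsl_bf (LP (LK LD1_c1 LD2_c12 LD3_c35)) = v369 :=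
  Lgr Lrot81 (Lpr_at (f3271 IH) (Lpr_bt (K7.f3272 IH) (Lpr_at (f163628 IH) (Lpr_bt (K36.f164412 IH) (Lpr_at (f452459 IH) (Lpn v369))))))
def v2853 : LQ := Led Lsl_at K37.v365
theorem f535953 : Led Lsl_at K37.v365 = v2853 :=
  Lrfl
theorem f452460 : Led Lsl_af (LP (LK LD1_c0 LD2_c34 LD3_c18)) = v369 :=
  Lgr Lrot0 (Lpr_at (f452459 IH) (Lpn v369))
theorem f535956 : Led Lsl_cf v369 = v2853 :=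
  Lgr Lrot1 (Lpe (f452460 IH) (Lpr_ct (f452446 IH) (Lpr_at (f535953 IH) (Lpn v2853))))
theorem f313795 : Led Lsl_af (LP (LK LD1_c0 LD2_c17 LD3_c39)) = (LP (LK LD1_c0 LD2_c29 LD3_c52)) :=
  Lgr Lrot117 (Lpr_dt (K9.f20636 IH) (Lpr_at (K19.f313789 IH) (Lpr_dt (K9.f8385 IH) (Lpn (LP (LK LD1_c0 LD2_c29 LD3_c52))))))
theorem f537076 : v2853 = (LP (LK LD1_c0 LD2_c17 LD3_c39)) :=
  Lefun (Lecon (f535953 IH) (K37.f536866 IH).symm) (Lfl_af (f313795 IH))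
theorem f537211 : v369 = (LP (LK LD1_c0 LD2_c39 LD3_c26)) :=
  Lefun (Lecon (Lfl_cf (f535956 IH)) (f537076 IH)) (K10.f177156 IH)
theorem f537495 : (LP (LK LD1_c1 LD2_c12 LD3_c35)) = v451 :=
  Lefun (Lecon (Lfl_bf (f452461 IH)) (f537211 IH)) (f452927 IH)
theorem f537816 : v1748 = (LP (LK LD1_c2 LD2_c31 LD3_c11)) :=
  Lefun (Lecon (f501264 IH) (f537495 IH).symm) (f3194 IH)
theorem f3193 : Led Lsl_ct (LP (LK LD1_c2 LD2_c31 LD3_c11)) = (LP (LK LD1_c5 LD2_c7 LD3_c50)) :=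
  Lre_c IH (LK LD1_c2 LD2_c31 LD3_c11) (LK LD1_c5 LD2_c7 LD3_c50) Lrfl Lrfl
theorem f495480 : Led Lsl_gt (LP (LK LD1_c5 LD2_c7 LD3_c50)) = (LP (LK LD1_c10 LD2_c5 LD3_c55)) :=
  Lre_g IH (LK LD1_c5 LD2_c7 LD3_c50) (LK LD1_c10 LD2_c5 LD3_c55) Lrfl Lrfl
theorem f547999 : Led Lsl_ct (LP (LK LD1_c5 LD2_c55 LD3_c1)) = (LP (LK LD1_c10 LD2_c5 LD3_c55)) :=
  Lgr Lrot63 (Lpr_bt (f180593 IH) (Lpr_gt (f442704 IH) (Lpr_bf (f71788 IH) (Lpr_ct (f34959 IH) (Lpr_gt (f442705 IH) (Lpr_cf (f547981 IH) (Lpr_bt (f545060 IH) (Lpe (f547997 IH) (Lpqs (f537816 IH) (Lpr_ct (f3193 IH) (Lpr_gt (f495480 IH) (Lpn (LP (LK LD1_c10 LD2_c5 LD3_c55))))))))))))))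
def v1423 : LQ := Led Lsl_at (LP (LK LD1_c1 LD2_c14 LD3_c0))
theorem f495473 : Led Lsl_at (LP (LK LD1_c1 LD2_c14 LD3_c0)) = v1423 :=
  Lrfl
theorem f164415 : Led Lsl_dt (LP (LK LD1_c0 LD2_c34 LD3_c18)) = (LP (LK LD1_c1 LD2_c14 LD3_c0)) :=
  Lre_d IH (LK LD1_c0 LD2_c34 LD3_c18) (LK LD1_c1 LD2_c14 LD3_c0) Lrfl Lrfl
theorem f495476 : Led Lsl_df v369 = v1423 :=
  Lgr Lrot18 (Lpe (f452460 IH) (Lpr_dt (f164415 IH) (Lpr_at (f495473 IH) (Lpn v1423))))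
theorem f495477 : Led Lsl_bt (LP (LK LD1_c2 LD2_c31 LD3_c11)) = v1423 :=
  Lgr Lrot95 (Lpe (f3194 IH) (Lpr_bf (f452461 IH) (Lpr_df (f495476 IH) (Lpn v1423))))
theorem f495478 : Led Lsl_dt v369 = v1423 :=
  Lgr Lrot42 (Lpr_df (f495476 IH) (Lpn v1423))
theorem f537500 : v1423 = (LP (LK LD1_c1 LD2_c25 LD3_c34)) :=
  Lefun (Lecon (f495478 IH) (f537211 IH)) (K10.f177159 IH)
theorem f169101 : Led Lsl_ct (LP (LK LD1_c2 LD2_c0 LD3_c16)) = (LP (LK LD1_c4 LD2_c5 LD3_c61)) :=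
  Lre_c IH (LK LD1_c2 LD2_c0 LD3_c16) (LK LD1_c4 LD2_c5 LD3_c61) Lrfl Lrfl
theorem f177399 : Led Lsl_gt (LP (LK LD1_c8 LD2_c12 LD3_c42)) = (LP (LK LD1_c4 LD2_c5 LD3_c61)) :=
  Lre_g IH (LK LD1_c8 LD2_c12 LD3_c42) (LK LD1_c4 LD2_c5 LD3_c61) Lrfl Lrfl
theorem f548010 : Led Lsl_ct (LP (LK LD1_c5 LD2_c54 LD3_c2)) = (LP (LK LD1_c8 LD2_c12 LD3_c42)) :=
  Lgr Lrot91 (Lpe (f442704 IH) (Lpe (f180593 IH) (Lpr_ct (f547999 IH) (Lpe (f495480 IH) (Lpe (f3193 IH) (Lpr_bt (f495477 IH) (Lpqs (f537500 IH) (Lpe (K10.f177388 IH) (Lpe (K10.f55805 IH) (Lpr_ct (f169101 IH) (Lpe (f177399 IH) (Lpn (LP (LK LD1_c8 LD2_c12 LD3_c42))))))))))))))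
theorem f500573 : Led Lsl_ef (LP (LK LD1_c1 LD2_c23 LD3_c18)) = K37.v1653 :=
  Lgr Lrot88 (Lpr_et (K37.f500571 IH) (Lpn K37.v1653))
def v1293 : LQ := Led Lsl_et (LP (LK LD1_c1 LD2_c5 LD3_c47))
theorem f494669 : Led Lsl_et (LP (LK LD1_c1 LD2_c5 LD3_c47)) = v1293 :=
  Lrfl
theorem f452710 : Led Lsl_ef (LP (LK LD1_c2 LD2_c12 LD3_c29)) = K36.v410 :=
  Lgr Lrot29 (Lpr_bt (K32.f174624 IH) (Lpe (K12.f226010 IH) (Lpr_bt (K36.f452708 IH) (Lpn K36.v410))))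
theorem f537573 : (LP (LK LD1_c2 LD2_c12 LD3_c29)) = v1293 :=
  Lefun (Lecon (Lfl_ef (f452710 IH)) (K36.f537236 IH).symm) (f494669 IH)
theorem f174632 : Led Lsl_gt (LP (LK LD1_c2 LD2_c12 LD3_c29)) = (LP (LK LD1_c4 LD2_c31 LD3_c2)) :=
  Lre_g IH (LK LD1_c2 LD2_c12 LD3_c29) (LK LD1_c4 LD2_c31 LD3_c2) Lrfl Lrfl
theorem f546380 : Led Lsl_dt (LP (LK LD1_c4 LD2_c31 LD3_c2)) = (LP (LK LD1_c2 LD2_c13 LD3_c33)) :=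
  Lgr Lrot171 (Lpe (f174632 IH) (Lpqs (f537573 IH) (Lpe (f494669 IH) (Lpe (K8.f141833 IH) (Lpe (K7.f59559 IH) (Lpe (K6.f24072 IH) (Lpr_et (K37.f141857 IH) (Lpe (K37.f82182 IH) (Lpr_ef (f500573 IH) (Lpq (K37.f545959 IH) (Lpr_dt (K37.f382038 IH) (Lpe (K9.f174665 IH) (Lpn (LP (LK LD1_c2 LD2_c13 LD3_c33)))))))))))))))
theorem f164839 : Led Lsl_at (LP (LK LD1_c1 LD2_c18 LD3_c37)) = (LP (LK LD1_c2 LD2_c44 LD3_c32)) :=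
  Lre_a IH (LK LD1_c1 LD2_c18 LD3_c37) (LK LD1_c2 LD2_c44 LD3_c32) Lrfl Lrfl
theorem f407822 : Led Lsl_gt (LP (LK LD1_c4 LD2_c31 LD3_c2)) = (LP (LK LD1_c2 LD2_c44 LD3_c32)) :=
  Lgr Lrot46 (Lpe (f174632 IH) (Lpr_ft (K32.f407818 IH) (Lpr_at (f164839 IH) (Lpn (LP (LK LD1_c2 LD2_c44 LD3_c32))))))
theorem f174653 : Led Lsl_ct (LP (LK LD1_c4 LD2_c33 LD3_c16)) = (LP (LK LD1_c9 LD2_c3 LD3_c58)) :=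
  Lre_c IH (LK LD1_c4 LD2_c33 LD3_c16) (LK LD1_c9 LD2_c3 LD3_c58) Lrfl Lrfl
theorem f165162 : Led Lsl_bt (LP (LK LD1_c5 LD2_c37 LD3_c26)) = (LP (LK LD1_c2 LD2_c44 LD3_c40)) :=
  Lre_b IH (LK LD1_c5 LD2_c37 LD3_c26) (LK LD1_c2 LD2_c44 LD3_c40) Lrfl Lrfl
theorem f174651 : Led Lsl_bt (LP (LK LD1_c4 LD2_c57 LD3_c27)) = (LP (LK LD1_c9 LD2_c3 LD3_c58)) :=
  Lgr Lrot127 (Lpr_bf (K9.f174647 IH) (Lpn (LP (LK LD1_c9 LD2_c3 LD3_c58))))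
theorem f427520 : Led Lsl_df (LP (LK LD1_c5 LD2_c37 LD3_c26)) = (LP (LK LD1_c9 LD2_c3 LD3_c58)) :=
  Lgr Lrot12 (Lpr_bt (f165162 IH) (Lpr_dt (K32.f427517 IH) (Lpr_bt (f174651 IH) (Lpn (LP (LK LD1_c9 LD2_c3 LD3_c58))))))
theorem f210369 : Led Lsl_gt (LP (LK LD1_c8 LD2_c42 LD3_c48)) = (LP (LK LD1_c4 LD2_c22 LD3_c26)) :=
  Lre_g IH (LK LD1_c8 LD2_c42 LD3_c48) (LK LD1_c4 LD2_c22 LD3_c26) Lrfl Lrfl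
theorem f210370 : Led Lsl_cf (LP (LK LD1_c8 LD2_c42 LD3_c48)) = (LP (LK LD1_c5 LD2_c37 LD3_c26)) :=
  Lgr Lrot160 (Lpr_gt (f210369 IH) (Lpr_cf (K32.f210362 IH) (Lpr_bt (K32.f174624 IH) (Lpe (K9.f174621 IH) (Lpr_ct (K9.f165143 IH) (Lpr_gt (K9.f40819 IH) (Lpe (K9.f165067 IH) (Lpr_bt (K35.f165064 IH) (Lpr_gt (K32.f165144 IH) (Lpe (f165162 IH) (Lpn (LP (LK LD1_c5 LD2_c37 LD3_c26)))))))))))))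
theorem f210374 : Led Lsl_ct (LP (LK LD1_c8 LD2_c42 LD3_c48)) = (LP (LK LD1_c5 LD2_c37 LD3_c26)) :=
  Lgr Lrot59 (Lpr_cf (f210370 IH) (Lpn (LP (LK LD1_c5 LD2_c37 LD3_c26))))
theorem f546391 : Led Lsl_gt (LP (LK LD1_c5 LD2_c37 LD3_c7)) = (LP (LK LD1_c8 LD2_c42 LD3_c48)) :=
  Lgr Lrot187 (Lpe (K18.f164965 IH) (Lpe (f407822 IH) (Lpr_dt (f546380 IH) (Lpr_gt (K9.f174665 IH) (Lpr_ct (K9.f174660 IH) (Lpr_gt (K9.f174659 IH) (Lpr_ct (f174653 IH) (Lpe (f427520 IH) (Lpe (f210374 IH) (Lpn (LP (LK LD1_c8 LD2_c42 LD3_c48))))))))))))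
theorem f164849 : Led Lsl_at (LP (LK LD1_c5 LD2_c37 LD3_c7)) = (LP (LK LD1_c2 LD2_c44 LD3_c28)) :=
  Lre_a IH (LK LD1_c5 LD2_c37 LD3_c7) (LK LD1_c2 LD2_c44 LD3_c28) Lrfl Lrfl
theorem f164850 : Led Lsl_at (LP (LK LD1_c2 LD2_c29 LD3_c55)) = (LP (LK LD1_c5 LD2_c5 LD3_c13)) :=
  Lre_a IH (LK LD1_c2 LD2_c29 LD3_c55) (LK LD1_c5 LD2_c5 LD3_c13) Lrfl Lrfl
theorem f164851 : Led Lsl_ef (LP (LK LD1_c5 LD2_c37 LD3_c7)) = (LP (LK LD1_c5 LD2_c5 LD3_c13)) :=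
  Lgr Lrot20 (Lpr_at (f164849 IH) (Lpr_et (K11.f164845 IH) (Lpr_at (f164850 IH) (Lpn (LP (LK LD1_c5 LD2_c5 LD3_c13))))))
theorem f210372 : Led Lsl_bt (LP (LK LD1_c2 LD2_c44 LD3_c40)) = (LP (LK LD1_c5 LD2_c37 LD3_c26)) :=
  Lre_b IH (LK LD1_c2 LD2_c44 LD3_c40) (LK LD1_c5 LD2_c37 LD3_c26) Lrfl Lrfl
theorem f55869 : Led Lsl_bt (LP (LK LD1_c4 LD2_c7 LD3_c8)) = (LP (LK LD1_c2 LD2_c0 LD3_c58)) :=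
  Lre_b IH (LK LD1_c4 LD2_c7 LD3_c8) (LK LD1_c2 LD2_c0 LD3_c58) Lrfl Lrfl
theorem f427538 : Led Lsl_et (LP (LK LD1_c5 LD2_c37 LD3_c26)) = (LP (LK LD1_c4 LD2_c7 LD3_c8)) :=
  Lgr Lrot74 (Lpe (f210372 IH) (Lpr_ef (K36.f427534 IH) (Lpe (f55869 IH) (Lpn (LP (LK LD1_c4 LD2_c7 LD3_c8))))))
theorem f55870 : Led Lsl_ct (LP (LK LD1_c4 LD2_c7 LD3_c8)) = (LP (LK LD1_c8 LD2_c14 LD3_c47)) :=
  Lre_c IH (LK LD1_c4 LD2_c7 LD3_c8) (LK LD1_c8 LD2_c14 LD3_c47) Lrfl Lrfl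
theorem f427548 : Led Lsl_ef (LP (LK LD1_c8 LD2_c42 LD3_c48)) = (LP (LK LD1_c8 LD2_c14 LD3_c47)) :=
  Lgr Lrot28 (Lpr_ct (f210374 IH) (Lpr_et (f427538 IH) (Lpr_ct (f55870 IH) (Lpn (LP (LK LD1_c8 LD2_c14 LD3_c47))))))
theorem f427550 : Led Lsl_et (LP (LK LD1_c8 LD2_c42 LD3_c48)) = (LP (LK LD1_c8 LD2_c14 LD3_c47)) :=
  Lgr Lrot87 (Lpr_ef (f427548 IH) (Lpn (LP (LK LD1_c8 LD2_c14 LD3_c47))))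
theorem f56221 : Led Lsl_bt (LP (LK LD1_c2 LD2_c16 LD3_c57)) = (LP (LK LD1_c1 LD2_c5 LD3_c25)) :=
  Lre_b IH (LK LD1_c2 LD2_c16 LD3_c57) (LK LD1_c1 LD2_c5 LD3_c25) Lrfl Lrfl
theorem f422751 : Led Lsl_gt (LP (LK LD1_c8 LD2_c14 LD3_c47)) = (LP (LK LD1_c4 LD2_c13 LD3_c32)) :=
  Lgr Lrot65 (Lpe (f55870 IH) (Lpr_bt (f55869 IH) (Lpe (K36.f55979 IH) (Lpe (K9.f55877 IH) (Lpr_ct (K10.f55578 IH) (Lpe (K9.f53167 IH) (Lpr_cf (K10.f177793 IH) (Lpe (K9.f20756 IH) (Lpe (f56221 IH) (Lpe (K28.f56222 IH) (Lpn (LP (LK LD1_c4 LD2_c13 LD3_c32)))))))))))))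
theorem f46858 : Led Lsl_at (LP (LK LD1_c8 LD2_c25 LD3_c52)) = (LP (LK LD1_c4 LD2_c13 LD3_c32)) :=
  Lre_a IH (LK LD1_c8 LD2_c25 LD3_c52) (LK LD1_c4 LD2_c13 LD3_c32) Lrfl Lrfl
theorem f422753 : Led Lsl_gf (LP (LK LD1_c8 LD2_c14 LD3_c47)) = (LP (LK LD1_c4 LD2_c13 LD3_c30)) :=
  Lgr Lrot47 (Lpr_gt (f422751 IH) (Lpe (f46858 IH) (Lpe (K28.f56234 IH) (Lpn (LP (LK LD1_c4 LD2_c13 LD3_c30))))))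
theorem f99816 : Led Lsl_gt (LP (LK LD1_c2 LD2_c10 LD3_c14)) = (LP (LK LD1_c4 LD2_c25 LD3_c51)) :=
  Lre_g IH (LK LD1_c2 LD2_c10 LD3_c14) (LK LD1_c4 LD2_c25 LD3_c51) Lrfl Lrfl
theorem f99828 : Led Lsl_et (LP (LK LD1_c1 LD2_c1 LD3_c44)) = (LP (LK LD1_c0 LD2_c28 LD3_c23)) :=
  Lre_e IH (LK LD1_c1 LD2_c1 LD3_c44) (LK LD1_c0 LD2_c28 LD3_c23) Lrfl Lrfl
theorem f99829 : Led Lsl_dt (LP (LK LD1_c1 LD2_c1 LD3_c44)) = (LP (LK LD1_c2 LD2_c9 LD3_c9)) :=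
  Lre_d IH (LK LD1_c1 LD2_c1 LD3_c44) (LK LD1_c2 LD2_c9 LD3_c9) Lrfl Lrfl
theorem f39305 : Led Lsl_gt (LP (LK LD1_c4 LD2_c23 LD3_c29)) = (LP (LK LD1_c2 LD2_c9 LD3_c9)) :=
  Lre_g IH (LK LD1_c4 LD2_c23 LD3_c29) (LK LD1_c2 LD2_c9 LD3_c9) Lrfl Lrfl
theorem f427552 : Led Lsl_dt (LP (LK LD1_c8 LD2_c42 LD3_c48)) = (LP (LK LD1_c4 LD2_c23 LD3_c29)) :=
  Lgr Lrot136 (Lpr_et (f427550 IH) (Lpr_gf (f422753 IH) (Lpr_ef (K2.f56181 IH) (Lpr_dt (K5.f99811 IH) (Lpe (f99816 IH) (Lpe (K6.f80845 IH) (Lpe (K6.f35893 IH) (Lpe (f99828 IH) (Lpr_dt (f99829 IH) (Lpe (f39305 IH) (Lpn (LP (LK LD1_c4 LD2_c23 LD3_c29)))))))))))))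
theorem f80165 : Led Lsl_et (LP (LK LD1_c2 LD2_c10 LD3_c15)) = (LP (LK LD1_c1 LD2_c2 LD3_c11)) :=
  Lre_e IH (LK LD1_c2 LD2_c10 LD3_c15) (LK LD1_c1 LD2_c2 LD3_c11) Lrfl Lrfl
theorem f427573 : Led Lsl_gt (LP (LK LD1_c4 LD2_c25 LD3_c56)) = (LP (LK LD1_c8 LD2_c49 LD3_c13)) :=
  Lre_g IH (LK LD1_c4 LD2_c25 LD3_c56) (LK LD1_c8 LD2_c49 LD3_c13) Lrfl Lrfl
theorem f546398 : Led Lsl_dt (LP (LK LD1_c5 LD2_c5 LD3_c13)) = (LP (LK LD1_c8 LD2_c49 LD3_c13)) :=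
  Lgr Lrot37 (Lpe (f164851 IH) (Lpr_gt (f546391 IH) (Lpr_dt (f427552 IH) (Lpr_gt (f39305 IH) (Lpe (f99829 IH) (Lpr_et (f99828 IH) (Lpr_gt (K6.f35893 IH) (Lpe (f80165 IH) (Lpr_dt (K36.f80166 IH) (Lpr_gt (f427573 IH) (Lpn (LP (LK LD1_c8 LD2_c49 LD3_c13)))))))))))))
theorem f546402 : Led Lsl_df (LP (LK LD1_c5 LD2_c5 LD3_c13)) = (LP (LK LD1_c8 LD2_c49 LD3_c13)) :=
  Lgr Lrot38 (Lpr_dt (f546398 IH) (Lpn (LP (LK LD1_c8 LD2_c49 LD3_c13))))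
theorem f452295 : Led Lsl_dt (LP (LK LD1_c1 LD2_c4 LD3_c54)) = (LP (LK LD1_c2 LD2_c15 LD3_c50)) :=
  Lre_d IH (LK LD1_c1 LD2_c4 LD3_c54) (LK LD1_c2 LD2_c15 LD3_c50) Lrfl Lrfl
theorem f494449 : Led Lsl_gt (LP (LK LD1_c2 LD2_c15 LD3_c50)) = (LP (LK LD1_c4 LD2_c37 LD3_c19)) :=
  Lre_g IH (LK LD1_c2 LD2_c15 LD3_c50) (LK LD1_c4 LD2_c37 LD3_c19) Lrfl Lrfl
theorem f546412 : Led Lsl_df (LP (LK LD1_c2 LD2_c30 LD3_c17)) = (LP (LK LD1_c4 LD2_c37 LD3_c19)) :=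
  Lgr Lrot84 (Lpe (K18.f164966 IH) (Lpr_df (f546402 IH) (Lpe (f427573 IH) (Lpe (K36.f80166 IH) (Lpe (K36.f427889 IH) (Lpe (K36.f185092 IH) (Lpr_gt (K37.f495440 IH) (Lpqs (K37.f542405 IH) (Lpr_dt (f452295 IH) (Lpr_gt (f494449 IH) (Lpn (LP (LK LD1_c4 LD2_c37 LD3_c19)))))))))))))
theorem f495423 : Led Lsl_ff (LP (LK LD1_c2 LD2_c30 LD3_c17)) = K37.v1412 :=
  Lgr Lrot30 (Lpr_at (K18.f164840 IH) (Lpe (K18.f302391 IH) (Lpr_at (K37.f495420 IH) (Lpn K37.v1412))))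
theorem f495429 : Led Lsl_ft (LP (LK LD1_c2 LD2_c30 LD3_c17)) = K37.v1412 :=
  Lgr Lrot48 (Lpr_ff (f495423 IH) (Lpn K37.v1412))
theorem f26876 : Led Lsl_dt (LP (LK LD1_c2 LD2_c17 LD3_c46)) = (LP (LK LD1_c4 LD2_c41 LD3_c23)) :=
  Lre_d IH (LK LD1_c2 LD2_c17 LD3_c46) (LK LD1_c4 LD2_c41 LD3_c23) Lrfl Lrfl
theorem f546428 : Led Lsl_ft (LP (LK LD1_c4 LD2_c41 LD3_c23)) = (LP (LK LD1_c4 LD2_c37 LD3_c19)) :=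
  Lgr Lrot54 (Lpe (f26876 IH) (Lpqs (K37.f537888 IH) (Lpe (f495429 IH) (Lpr_df (f546412 IH) (Lpn (LP (LK LD1_c4 LD2_c37 LD3_c19)))))))
theorem f546442 : Led Lsl_ff (LP (LK LD1_c4 LD2_c41 LD3_c23)) = (LP (LK LD1_c4 LD2_c37 LD3_c19)) :=
  Lgr Lrot3 (Lpr_ft (f546428 IH) (Lpn (LP (LK LD1_c4 LD2_c37 LD3_c19))))
theorem f164803 : Led Lsl_dt (LP (LK LD1_c1 LD2_c12 LD3_c9)) = (LP (LK LD1_c2 LD2_c30 LD3_c18)) :=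
  Lre_d IH (LK LD1_c1 LD2_c12 LD3_c9) (LK LD1_c2 LD2_c30 LD3_c18) Lrfl Lrfl
theorem f546418 : Led Lsl_at (LP (LK LD1_c2 LD2_c30 LD3_c18)) = (LP (LK LD1_c4 LD2_c37 LD3_c19)) :=
  Lgr Lrot51 (Lpe (f164803 IH) (Lpe (K18.f164840 IH) (Lpr_df (f546412 IH) (Lpn (LP (LK LD1_c4 LD2_c37 LD3_c19))))))
theorem f546444 : Led Lsl_at (LP (LK LD1_c4 LD2_c41 LD3_c23)) = (LP (LK LD1_c2 LD2_c33 LD3_c36)) :=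
  Lgr Lrot66 (Lpr_ff (f546442 IH) (Lpe (f546418 IH) (Lpe (K18.f302386 IH) (Lpn (LP (LK LD1_c2 LD2_c33 LD3_c36))))))
theorem f185161 : Led Lsl_ct (LP (LK LD1_c5 LD2_c13 LD3_c28)) = (LP (LK LD1_c2 LD2_c33 LD3_c36)) :=
  Lre_c IH (LK LD1_c5 LD2_c13 LD3_c28) (LK LD1_c2 LD2_c33 LD3_c36) Lrfl Lrfl
theorem f185162 : Led Lsl_dt (LP (LK LD1_c10 LD2_c17 LD3_c12)) = (LP (LK LD1_c5 LD2_c13 LD3_c28)) :=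
  Lre_d IH (LK LD1_c10 LD2_c17 LD3_c12) (LK LD1_c5 LD2_c13 LD3_c28) Lrfl Lrfl
theorem f406441 : Led Lsl_ct (LP (LK LD1_c18 LD2_c42 LD3_c5)) = (LP (LK LD1_c10 LD2_c17 LD3_c12)) :=
  Lre_c IH (LK LD1_c18 LD2_c42 LD3_c5) (LK LD1_c10 LD2_c17 LD3_c12) Lrfl Lrfl
theorem f164982 : Led Lsl_ct (LP (LK LD1_c2 LD2_c30 LD3_c17)) = (LP (LK LD1_c5 LD2_c5 LD3_c13)) :=
  Lre_c IH (LK LD1_c2 LD2_c30 LD3_c17) (LK LD1_c5 LD2_c5 LD3_c13) Lrfl Lrfl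
theorem f495336 : Led Lsl_ct (LP (LK LD1_c8 LD2_c49 LD3_c13)) = (LP (LK LD1_c16 LD2_c29 LD3_c39)) :=
  Lre_c IH (LK LD1_c8 LD2_c49 LD3_c13) (LK LD1_c16 LD2_c29 LD3_c39) Lrfl Lrfl
theorem f546453 : Led Lsl_df (LP (LK LD1_c18 LD2_c42 LD3_c5)) = (LP (LK LD1_c16 LD2_c29 LD3_c39)) :=
  Lgr Lrot13 (Lpr_ct (f406441 IH) (Lpr_dt (f185162 IH) (Lpr_ct (f185161 IH) (Lpe (f546444 IH) (Lpr_ff (f546442 IH) (Lpe (f546412 IH) (Lpr_ct (f164982 IH) (Lpr_dt (f546398 IH) (Lpr_ct (f495336 IH) (Lpn (LP (LK LD1_c16 LD2_c29 LD3_c39))))))))))))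
theorem f211533 : Led Lsl_dt (LP (LK LD1_c2 LD2_c33 LD3_c36)) = (LP (LK LD1_c1 LD2_c13 LD3_c44)) :=
  Lre_d IH (LK LD1_c2 LD2_c33 LD3_c36) (LK LD1_c1 LD2_c13 LD3_c44) Lrfl Lrfl
theorem f185155 : Led Lsl_ct (LP (LK LD1_c1 LD2_c13 LD3_c44)) = (LP (LK LD1_c2 LD2_c33 LD3_c21)) :=
  Lre_c IH (LK LD1_c1 LD2_c13 LD3_c44) (LK LD1_c2 LD2_c33 LD3_c21) Lrfl Lrfl
def v1901 : LQ := Led Lsl_et (LP (LK LD1_c1 LD2_c31 LD3_c15))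
theorem f506318 : Led Lsl_et (LP (LK LD1_c1 LD2_c31 LD3_c15)) = v1901 :=
  Lrfl
theorem f506321 : Led Lsl_ef (LP (LK LD1_c1 LD2_c31 LD3_c15)) = v1901 :=
  Lgr Lrot88 (Lpr_et (f506318 IH) (Lpn v1901))
theorem f506323 : Led Lsl_ct K37.v475 = v1901 :=
  Lgr Lrot15 (Lpe (K37.f453534 IH) (Lpe (K4.f80354 IH) (Lpr_ef (f506321 IH) (Lpn v1901))))
theorem f537896 : v1901 = (LP (LK LD1_c2 LD2_c33 LD3_c21)) :=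
  Lefun (Lecon (f506323 IH) (K37.f537698 IH).symm) (f185155 IH)
theorem f496966 : Led Lsl_af (LP (LK LD1_c2 LD2_c17 LD3_c43)) = (LP (LK LD1_c1 LD2_c31 LD3_c18)) :=
  Lgr Lrot0 (Lpr_at (K32.f496964 IH) (Lpn (LP (LK LD1_c1 LD2_c31 LD3_c18))))
theorem f496759 : Led Lsl_ff (LP (LK LD1_c1 LD2_c31 LD3_c15)) = (LP (LK LD1_c2 LD2_c17 LD3_c43)) :=
  Lgr Lrot23 (Lpr_ct (K4.f80354 IH) (Lpqs (K32.f496747 IH) (Lpe (K32.f494673 IH) (Lpr_ct (K8.f26871 IH) (Lpn (LP (LK LD1_c2 LD2_c17 LD3_c43)))))))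
theorem f496978 : Led Lsl_af (LP (LK LD1_c2 LD2_c17 LD3_c45)) = (LP (LK LD1_c1 LD2_c31 LD3_c15)) :=
  Lgr Lrot45 (Lpr_ft (K32.f496976 IH) (Lpe (f496966 IH) (Lpe (f496759 IH) (Lpn (LP (LK LD1_c1 LD2_c31 LD3_c15))))))
theorem f59228 : Led Lsl_et (LP (LK LD1_c2 LD2_c17 LD3_c45)) = (LP (LK LD1_c4 LD2_c41 LD3_c22)) :=
  Lre_e IH (LK LD1_c2 LD2_c17 LD3_c45) (LK LD1_c4 LD2_c41 LD3_c22) Lrfl Lrfl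
theorem f506322 : Led Lsl_at (LP (LK LD1_c4 LD2_c41 LD3_c22)) = v1901 :=
  Lgr Lrot80 (Lpe (f59228 IH) (Lpr_af (f496978 IH) (Lpr_ef (f506321 IH) (Lpn v1901))))
theorem f546459 : Led Lsl_ff (LP (LK LD1_c4 LD2_c41 LD3_c22)) = (LP (LK LD1_c5 LD2_c5 LD3_c13)) :=
  Lgr Lrot103 (Lpr_at (f506322 IH) (Lpqs (f537896 IH) (Lpe (f185155 IH) (Lpe (f211533 IH) (Lpe (f185161 IH) (Lpe (f185162 IH) (Lpe (f406441 IH) (Lpr_df (f546453 IH) (Lpe (f495336 IH) (Lpe (f546398 IH) (Lpn (LP (LK LD1_c5 LD2_c5 LD3_c13)))))))))))))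
theorem f546466 : Led Lsl_ft (LP (LK LD1_c4 LD2_c41 LD3_c22)) = (LP (LK LD1_c5 LD2_c5 LD3_c13)) :=
  Lgr Lrot48 (Lpr_ff (f546459 IH) (Lpn (LP (LK LD1_c5 LD2_c5 LD3_c13))))
theorem f59217 : Led Lsl_ct (LP (LK LD1_c9 LD2_c17 LD3_c46)) = (LP (LK LD1_c17 LD2_c12 LD3_c51)) :=
  Lre_c IH (LK LD1_c9 LD2_c17 LD3_c46) (LK LD1_c17 LD2_c12 LD3_c51) Lrfl Lrfl
theorem f164879 : Led Lsl_ct (LP (LK LD1_c1 LD2_c12 LD3_c9)) = (LP (LK LD1_c2 LD2_c29 LD3_c55)) :=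
  Lre_c IH (LK LD1_c1 LD2_c12 LD3_c9) (LK LD1_c2 LD2_c29 LD3_c55) Lrfl Lrfl
theorem f166201 : Led Lsl_ct (LP (LK LD1_c5 LD2_c5 LD3_c60)) = (LP (LK LD1_c2 LD2_c30 LD3_c18)) :=
  Lre_c IH (LK LD1_c5 LD2_c5 LD3_c60) (LK LD1_c2 LD2_c30 LD3_c18) Lrfl Lrfl
theorem f166202 : Led Lsl_dt (LP (LK LD1_c10 LD2_c2 LD3_c56)) = (LP (LK LD1_c5 LD2_c5 LD3_c60)) :=
  Lre_d IH (LK LD1_c10 LD2_c2 LD3_c56) (LK LD1_c5 LD2_c5 LD3_c60) Lrfl Lrfl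
theorem f166328 : Led Lsl_ct (LP (LK LD1_c18 LD2_c21 LD3_c16)) = (LP (LK LD1_c10 LD2_c2 LD3_c56)) :=
  Lre_c IH (LK LD1_c18 LD2_c21 LD3_c16) (LK LD1_c10 LD2_c2 LD3_c56) Lrfl Lrfl
theorem f546477 : Led Lsl_dt (LP (LK LD1_c17 LD2_c12 LD3_c51)) = (LP (LK LD1_c18 LD2_c21 LD3_c16)) :=
  Lgr Lrot32 (Lpe (f59217 IH) (Lpe (K8.f59205 IH) (Lpr_ft (f546466 IH) (Lpr_at (K18.f164871 IH) (Lpe (f164879 IH) (Lpe (K18.f164831 IH) (Lpe (f166201 IH) (Lpe (f166202 IH) (Lpe (f166328 IH) (Lpn (LP (LK LD1_c18 LD2_c21 LD3_c16))))))))))))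
theorem f59226 : Led Lsl_ct (LP (LK LD1_c2 LD2_c17 LD3_c46)) = (LP (LK LD1_c4 LD2_c41 LD3_c22)) :=
  Lre_c IH (LK LD1_c2 LD2_c17 LD3_c46) (LK LD1_c4 LD2_c41 LD3_c22) Lrfl Lrfl
theorem f59229 : Led Lsl_dt (LP (LK LD1_c4 LD2_c41 LD3_c23)) = (LP (LK LD1_c2 LD2_c17 LD3_c46)) :=
  Lre_d IH (LK LD1_c4 LD2_c41 LD3_c23) (LK LD1_c2 LD2_c17 LD3_c46) Lrfl Lrfl
theorem f546488 : Led Lsl_at (LP (LK LD1_c4 LD2_c37 LD3_c19)) = (LP (LK LD1_c2 LD2_c30 LD3_c18)) :=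
  Lgr Lrot33 (Lpe (f546428 IH) (Lpr_dt (f59229 IH) (Lpr_ct (f59226 IH) (Lpr_dt (K8.f59205 IH) (Lpr_ct (f59217 IH) (Lpr_dt (f546477 IH) (Lpr_ct (f166328 IH) (Lpr_dt (f166202 IH) (Lpr_ct (f166201 IH) (Lpn (LP (LK LD1_c2 LD2_c30 LD3_c18))))))))))))
theorem f545116 : Led Lsl_gf (LP (LK LD1_c4 LD2_c5 LD3_c36)) = (LP (LK LD1_c4 LD2_c41 LD3_c23)) :=
  Lgr Lrot143 (Lpr_dt (K35.f211641 IH) (Lpe (K16.f198666 IH) (Lpe (K16.f211599 IH) (Lpr_gf (K35.f538611 IH) (Lpe (K35.f36555 IH) (Lpr_gf (f545112 IH) (Lpe (f495425 IH) (Lpr_gt (K37.f495424 IH) (Lpq (K37.f537888 IH) (Lpr_dt (f26876 IH) (Lpn (LP (LK LD1_c4 LD2_c41 LD3_c23)))))))))))))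
theorem f546497 : Led Lsl_gt (LP (LK LD1_c4 LD2_c5 LD3_c36)) = (LP (LK LD1_c2 LD2_c30 LD3_c18)) :=
  Lgr Lrot46 (Lpr_gf (f545116 IH) (Lpr_ft (f546428 IH) (Lpr_at (f546488 IH) (Lpn (LP (LK LD1_c2 LD2_c30 LD3_c18))))))
theorem f211644 : Led Lsl_dt (LP (LK LD1_c2 LD2_c0 LD3_c3)) = (LP (LK LD1_c4 LD2_c5 LD3_c36)) :=
  Lre_d IH (LK LD1_c2 LD2_c0 LD3_c3) (LK LD1_c4 LD2_c5 LD3_c36) Lrfl Lrfl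
theorem f142122 : Led Lsl_et (LP (LK LD1_c1 LD2_c3 LD3_c47)) = (LP (LK LD1_c0 LD2_c29 LD3_c41)) :=
  Lre_e IH (LK LD1_c1 LD2_c3 LD3_c47) (LK LD1_c0 LD2_c29 LD3_c41) Lrfl Lrfl
theorem f142123 : Led Lsl_dt (LP (LK LD1_c1 LD2_c3 LD3_c47)) = (LP (LK LD1_c2 LD2_c13 LD3_c32)) :=
  Lre_d IH (LK LD1_c1 LD2_c3 LD3_c47) (LK LD1_c2 LD2_c13 LD3_c32) Lrfl Lrfl
theorem f164847 : Led Lsl_gt (LP (LK LD1_c1 LD2_c18 LD3_c37)) = (LP (LK LD1_c2 LD2_c44 LD3_c30)) :=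
  Lre_g IH (LK LD1_c1 LD2_c18 LD3_c37) (LK LD1_c2 LD2_c44 LD3_c30) Lrfl Lrfl
theorem f546507 : Led Lsl_df (LP (LK LD1_c4 LD2_c33 LD3_c7)) = (LP (LK LD1_c2 LD2_c44 LD3_c30)) :=
  Lgr Lrot135 (Lpr_gt (K9.f142124 IH) (Lpe (f142123 IH) (Lpr_et (f142122 IH) (Lpe (K6.f141984 IH) (Lpr_ef (K35.f494430 IH) (Lpqs (K35.f538315 IH) (Lpr_dt (f211644 IH) (Lpr_gt (f546497 IH) (Lpe (f164803 IH) (Lpe (K11.f164743 IH) (Lpr_gt (f164847 IH) (Lpn (LP (LK LD1_c2 LD2_c44 LD3_c30))))))))))))))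
theorem f172354 : Led Lsl_dt (LP (LK LD1_c1 LD2_c3 LD3_c49)) = (LP (LK LD1_c2 LD2_c13 LD3_c37)) :=
  Lre_d IH (LK LD1_c1 LD2_c3 LD3_c49) (LK LD1_c2 LD2_c13 LD3_c37) Lrfl Lrfl
theorem f494185 : Led Lsl_et (LP (LK LD1_c1 LD2_c3 LD3_c49)) = (LP (LK LD1_c2 LD2_c13 LD3_c38)) :=
  Lre_e IH (LK LD1_c1 LD2_c3 LD3_c49) (LK LD1_c2 LD2_c13 LD3_c38) Lrfl Lrfl
theorem f34937 : Led Lsl_gt (LP (LK LD1_c9 LD2_c7 LD3_c21)) = (LP (LK LD1_c4 LD2_c35 LD3_c40)) :=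
  Lre_g IH (LK LD1_c9 LD2_c7 LD3_c21) (LK LD1_c4 LD2_c35 LD3_c40) Lrfl Lrfl
theorem f8405 : Led Lsl_gt (LP (LK LD1_c1 LD2_c5 LD3_c23)) = (LP (LK LD1_c2 LD2_c16 LD3_c53)) :=
  Lre_g IH (LK LD1_c1 LD2_c5 LD3_c23) (LK LD1_c2 LD2_c16 LD3_c53) Lrfl Lrfl
theorem f546515 : Led Lsl_ef (LP (LK LD1_c2 LD2_c16 LD3_c53)) = (LP (LK LD1_c2 LD2_c44 LD3_c30)) :=
  Lgr Lrot17 (Lpe (f8405 IH) (Lpe (K28.f56184 IH) (Lpr_dt (K8.f60956 IH) (Lpe (K8.f157164 IH) (Lpe (K6.f141300 IH) (Lpr_gf (K6.f141984 IH) (Lpe (f142122 IH) (Lpr_dt (f142123 IH) (Lpe (K9.f142124 IH) (Lpr_df (f546507 IH) (Lpn (LP (LK LD1_c2 LD2_c44 LD3_c30)))))))))))))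
theorem f56253 : Led Lsl_gt (LP (LK LD1_c2 LD2_c16 LD3_c53)) = (LP (LK LD1_c4 LD2_c39 LD3_c41)) :=
  Lre_g IH (LK LD1_c2 LD2_c16 LD3_c53) (LK LD1_c4 LD2_c39 LD3_c41) Lrfl Lrfl
theorem f546517 : Led Lsl_df (LP (LK LD1_c9 LD2_c7 LD3_c21)) = (LP (LK LD1_c4 LD2_c39 LD3_c41)) :=
  Lgr Lrot135 (Lpr_gt (f34937 IH) (Lpe (K37.f34924 IH) (Lpr_et (K37.f82072 IH) (Lpr_gt (K37.f500527 IH) (Lpqs (K37.f542326 IH) (Lpe (f494185 IH) (Lpr_dt (f172354 IH) (Lpr_gt (K9.f172341 IH) (Lpr_df (f546507 IH) (Lpe (f546515 IH) (Lpr_gt (f56253 IH) (Lpn (LP (LK LD1_c4 LD2_c39 LD3_c41))))))))))))))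
theorem f34936 : Led Lsl_dt (LP (LK LD1_c4 LD2_c35 LD3_c40)) = (LP (LK LD1_c2 LD2_c14 LD3_c60)) :=
  Lre_d IH (LK LD1_c4 LD2_c35 LD3_c40) (LK LD1_c2 LD2_c14 LD3_c60) Lrfl Lrfl
theorem f34927 : Led Lsl_dt (LP (LK LD1_c8 LD2_c38 LD3_c22)) = (LP (LK LD1_c4 LD2_c20 LD3_c14)) :=
  Lre_d IH (LK LD1_c8 LD2_c38 LD3_c22) (LK LD1_c4 LD2_c20 LD3_c14) Lrfl Lrfl
theorem f34938 : Led Lsl_gt (LP (LK LD1_c16 LD2_c10 LD3_c35)) = (LP (LK LD1_c8 LD2_c38 LD3_c22)) :=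
  Lre_g IH (LK LD1_c16 LD2_c10 LD3_c35) (LK LD1_c8 LD2_c38 LD3_c22) Lrfl Lrfl
theorem f56254 : Led Lsl_ct (LP (LK LD1_c4 LD2_c39 LD3_c43)) = (LP (LK LD1_c2 LD2_c16 LD3_c53)) :=
  Lre_c IH (LK LD1_c4 LD2_c39 LD3_c43) (LK LD1_c2 LD2_c16 LD3_c53) Lrfl Lrfl
theorem f8409 : Led Lsl_gt (LP (LK LD1_c4 LD2_c39 LD3_c43)) = (LP (LK LD1_c9 LD2_c14 LD3_c58)) :=
  Lre_g IH (LK LD1_c4 LD2_c39 LD3_c43) (LK LD1_c9 LD2_c14 LD3_c58) Lrfl Lrfl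
theorem f546521 : Led Lsl_df (LP (LK LD1_c16 LD2_c10 LD3_c35)) = (LP (LK LD1_c9 LD2_c14 LD3_c58)) :=
  Lgr Lrot153 (Lpr_gt (f34938 IH) (Lpr_dt (f34927 IH) (Lpe (K20.f34922 IH) (Lpe (f34936 IH) (Lpe (f34937 IH) (Lpr_df (f546517 IH) (Lpe (f56253 IH) (Lpe (f56254 IH) (Lpr_gt (f8409 IH) (Lpn (LP (LK LD1_c9 LD2_c14 LD3_c58))))))))))))
theorem f56213 : Led Lsl_gt (LP (LK LD1_c9 LD2_c14 LD3_c58)) = (LP (LK LD1_c4 LD2_c39 LD3_c46)) :=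
  Lre_g IH (LK LD1_c9 LD2_c14 LD3_c58) (LK LD1_c4 LD2_c39 LD3_c46) Lrfl Lrfl
theorem f56212 : Led Lsl_ct (LP (LK LD1_c4 LD2_c39 LD3_c46)) = (LP (LK LD1_c2 LD2_c16 LD3_c54)) :=
  Lre_c IH (LK LD1_c4 LD2_c39 LD3_c46) (LK LD1_c2 LD2_c16 LD3_c54) Lrfl Lrfl
theorem f56210 : Led Lsl_ct (LP (LK LD1_c8 LD2_c25 LD3_c61)) = (LP (LK LD1_c4 LD2_c13 LD3_c31)) :=
  Lre_c IH (LK LD1_c8 LD2_c25 LD3_c61) (LK LD1_c4 LD2_c13 LD3_c31) Lrfl Lrfl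
theorem f56211 : Led Lsl_gt (LP (LK LD1_c15 LD2_c50 LD3_c19)) = (LP (LK LD1_c8 LD2_c25 LD3_c61)) :=
  Lre_g IH (LK LD1_c15 LD2_c50 LD3_c19) (LK LD1_c8 LD2_c25 LD3_c61) Lrfl Lrfl
theorem f546527 : Led Lsl_ct (LP (LK LD1_c8 LD2_c38 LD3_c22)) = (LP (LK LD1_c15 LD2_c50 LD3_c19)) :=
  Lgr Lrot152 (Lpe (f34938 IH) (Lpr_df (f546521 IH) (Lpr_gt (f56213 IH) (Lpr_ct (f56212 IH) (Lpr_gt (K36.f22420 IH) (Lpe (K28.f56185 IH) (Lpe (K2.f56159 IH) (Lpe (f56210 IH) (Lpe (f56211 IH) (Lpn (LP (LK LD1_c15 LD2_c50 LD3_c19))))))))))))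
theorem f239284 : Led Lsl_bt (LP (LK LD1_c8 LD2_c38 LD3_c22)) = (LP (LK LD1_c4 LD2_c20 LD3_c18)) :=
  Lre_b IH (LK LD1_c8 LD2_c38 LD3_c22) (LK LD1_c4 LD2_c20 LD3_c18) Lrfl Lrfl
theorem f56196 : Led Lsl_ct (LP (LK LD1_c4 LD2_c13 LD3_c31)) = (LP (LK LD1_c8 LD2_c25 LD3_c61)) :=
  Lre_c IH (LK LD1_c4 LD2_c13 LD3_c31) (LK LD1_c8 LD2_c25 LD3_c61) Lrfl Lrfl
theorem f546543 : Led Lsl_bf (LP (LK LD1_c4 LD2_c20 LD3_c41)) = (LP (LK LD1_c4 LD2_c1 LD3_c38)) :=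
  Lgr Lrot156 (Lpe (K13.f31791 IH) (Lpe (f239284 IH) (Lpr_ct (f546527 IH) (Lpr_gt (f56211 IH) (Lpe (f56196 IH) (Lpr_bt (K10.f46834 IH) (Lpr_gt (K13.f242126 IH) (Lpr_ct (K13.f242117 IH) (Lpr_gt (K13.f33705 IH) (Lpr_cf (K0.f33678 IH) (Lpn (LP (LK LD1_c4 LD2_c1 LD3_c38)))))))))))))
theorem f241285 : Led Lsl_gt (LP (LK LD1_c2 LD2_c24 LD3_c45)) = (LP (LK LD1_c2 LD2_c29 LD3_c52)) :=
  Lgr Lrot94 (Lpe (K13.f31572 IH) (Lpe (K13.f225567 IH) (Lpr_dt (K12.f28993 IH) (Lpr_gt (K12.f28785 IH) (Lpr_dt (K10.f28166 IH) (Lpe (K13.f28788 IH) (Lpe (K15.f31580 IH) (Lpr_gf (K13.f241283 IH) (Lpe (K13.f240681 IH) (Lpn (LP (LK LD1_c2 LD2_c29 LD3_c52))))))))))))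
theorem f266519 : Led Lsl_gt (LP (LK LD1_c4 LD2_c20 LD3_c27)) = (LP (LK LD1_c5 LD2_c4 LD3_c61)) :=
  Lgr Lrot180 (Lpe (K0.f31793 IH) (Lpe (K15.f239252 IH) (Lpe (K19.f239307 IH) (Lpr_gt (f241285 IH) (Lpr_dt (K13.f240681 IH) (Lpr_ct (K15.f266510 IH) (Lpe (K15.f192633 IH) (Lpe (K15.f192632 IH) (Lpe (K14.f31644 IH) (Lpn (LP (LK LD1_c5 LD2_c4 LD3_c61))))))))))))
theorem f159186 : Led Lsl_dt (LP (LK LD1_c7 LD2_c57 LD3_c6)) = (LP (LK LD1_c3 LD2_c57 LD3_c53)) :=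
  Lre_d IH (LK LD1_c7 LD2_c57 LD3_c6) (LK LD1_c3 LD2_c57 LD3_c53) Lrfl Lrfl
theorem f544458 : Led Lsl_bt (LP (LK LD1_c4 LD2_c2 LD3_c3)) = (LP (LK LD1_c7 LD2_c57 LD3_c6)) :=
  Lgr Lrot95 (Lpe (K13.f229121 IH) (Lpr_bf (K37.f544454 IH) (Lpe (f159186 IH) (Lpn (LP (LK LD1_c7 LD2_c57 LD3_c6))))))
theorem f546557 : Led Lsl_gt (LP (LK LD1_c6 LD2_c14 LD3_c36)) = (LP (LK LD1_c7 LD2_c57 LD3_c6)) :=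
  Lgr Lrot164 (Lpr_bf (K36.f541227 IH) (Lpr_ct (K14.f255258 IH) (Lpe (f266519 IH) (Lpe (K16.f31799 IH) (Lpr_gf (K13.f31791 IH) (Lpr_bf (f546543 IH) (Lpe (K0.f33678 IH) (Lpe (K13.f33705 IH) (Lpe (K13.f242117 IH) (Lpr_bt (f544458 IH) (Lpn (LP (LK LD1_c7 LD2_c57 LD3_c6)))))))))))))
theorem f205772 : Led Lsl_dt (LP (LK LD1_c3 LD2_c4 LD3_c11)) = (LP (LK LD1_c6 LD2_c14 LD3_c36)) :=
  Lre_d IH (LK LD1_c3 LD2_c4 LD3_c11) (LK LD1_c6 LD2_c14 LD3_c36) Lrfl Lrfl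
theorem f205771 : Led Lsl_et (LP (LK LD1_c3 LD2_c4 LD3_c11)) = (LP (LK LD1_c1 LD2_c28 LD3_c7)) :=
  Lre_e IH (LK LD1_c3 LD2_c4 LD3_c11) (LK LD1_c1 LD2_c28 LD3_c7) Lrfl Lrfl
theorem f101679 : Led Lsl_dt (LP (LK LD1_c3 LD2_c57 LD3_c53)) = (LP (LK LD1_c7 LD2_c57 LD3_c6)) :=
  Lre_d IH (LK LD1_c3 LD2_c57 LD3_c53) (LK LD1_c7 LD2_c57 LD3_c6) Lrfl Lrfl
theorem f36300 : Led Lsl_dt (LP (LK LD1_c1 LD2_c55 LD3_c42)) = (LP (LK LD1_c3 LD2_c57 LD3_c52)) :=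
  Lre_d IH (LK LD1_c1 LD2_c55 LD3_c42) (LK LD1_c3 LD2_c57 LD3_c52) Lrfl Lrfl
theorem f158982 : Led Lsl_gt (LP (LK LD1_c7 LD2_c57 LD3_c17)) = (LP (LK LD1_c11 LD2_c33 LD3_c19)) :=
  Lgr Lrot94 (Lpe (K24.f157839 IH) (Lpr_gt (K8.f35528 IH) (Lpr_dt (K1.f35527 IH) (Lpr_gt (K8.f36299 IH) (Lpr_dt (f36300 IH) (Lpr_cf (K8.f158967 IH) (Lpr_df (K8.f125623 IH) (Lpe (K8.f125634 IH) (Lpr_df (K32.f156737 IH) (Lpn (LP (LK LD1_c11 LD2_c33 LD3_c19))))))))))))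
theorem f158984 : Led Lsl_gf (LP (LK LD1_c3 LD2_c57 LD3_c59)) = (LP (LK LD1_c4 LD2_c26 LD3_c37)) :=
  Lgr Lrot147 (Lpr_ct (K24.f157839 IH) (Lpr_gt (f158982 IH) (Lpr_ct (K8.f99537 IH) (Lpe (K8.f99535 IH) (Lpe (K4.f81851 IH) (Lpe (K35.f157873 IH) (Lpr_cf (K28.f148979 IH) (Lpr_gf (K5.f100435 IH) (Lpe (K7.f100433 IH) (Lpn (LP (LK LD1_c4 LD2_c26 LD3_c37))))))))))))
theorem f546565 : Led Lsl_ef (LP (LK LD1_c2 LD2_c18 LD3_c45)) = (LP (LK LD1_c2 LD2_c49 LD3_c40)) :=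
  Lgr Lrot114 (Lpr_gt (K11.f205764 IH) (Lpe (f205771 IH) (Lpr_dt (f205772 IH) (Lpr_gt (f546557 IH) (Lpe (f101679 IH) (Lpr_et (K37.f101678 IH) (Lpr_gt (K8.f101675 IH) (Lpe (K8.f100424 IH) (Lpe (f158984 IH) (Lpr_df (K8.f157824 IH) (Lpn (LP (LK LD1_c2 LD2_c49 LD3_c40)))))))))))))
theorem f70848 : Led Lsl_et (LP (LK LD1_c1 LD2_c4 LD3_c43)) = (LP (LK LD1_c2 LD2_c15 LD3_c17)) :=
  Lre_e IH (LK LD1_c1 LD2_c4 LD3_c43) (LK LD1_c2 LD2_c15 LD3_c17) Lrfl Lrfl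
theorem f112748 : Led Lsl_gt (LP (LK LD1_c2 LD2_c15 LD3_c17)) = (LP (LK LD1_c4 LD2_c36 LD3_c10)) :=
  Lre_g IH (LK LD1_c2 LD2_c15 LD3_c17) (LK LD1_c4 LD2_c36 LD3_c10) Lrfl Lrfl
theorem f546575 : Led Lsl_ef (LP (LK LD1_c4 LD2_c36 LD3_c10)) = (LP (LK LD1_c3 LD2_c3 LD3_c16)) :=
  Lgr Lrot17 (Lpe (f112748 IH) (Lpe (f70848 IH) (Lpr_dt (K4.f37812 IH) (Lpe (K6.f112710 IH) (Lpe (K36.f112721 IH) (Lpe (K11.f205764 IH) (Lpr_ef (f546565 IH) (Lpe (K8.f157824 IH) (Lpr_gf (f158984 IH) (Lpr_df (K8.f100424 IH) (Lpn (LP (LK LD1_c3 LD2_c3 LD3_c16)))))))))))))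
theorem f71091 : Led Lsl_gt (LP (LK LD1_c4 LD2_c36 LD3_c10)) = (LP (LK LD1_c9 LD2_c8 LD3_c13)) :=
  Lre_g IH (LK LD1_c4 LD2_c36 LD3_c10) (LK LD1_c9 LD2_c8 LD3_c13) Lrfl Lrfl
theorem f73364 : Led Lsl_dt (LP (LK LD1_c1 LD2_c59 LD3_c33)) = (LP (LK LD1_c4 LD2_c4 LD3_c55)) :=
  Lre_d IH (LK LD1_c1 LD2_c59 LD3_c33) (LK LD1_c4 LD2_c4 LD3_c55) Lrfl Lrfl
theorem f73372 : Led Lsl_gt (LP (LK LD1_c8 LD2_c10 LD3_c36)) = (LP (LK LD1_c4 LD2_c4 LD3_c55)) :=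
  Lre_g IH (LK LD1_c8 LD2_c10 LD3_c36) (LK LD1_c4 LD2_c4 LD3_c55) Lrfl Lrfl
theorem f546587 : Led Lsl_dt (LP (LK LD1_c5 LD2_c53 LD3_c55)) = (LP (LK LD1_c8 LD2_c10 LD3_c36)) :=
  Lgr Lrot136 (Lpe (K2.f71070 IH) (Lpe (f71091 IH) (Lpr_ef (f546575 IH) (Lpe (K8.f100424 IH) (Lpe (K7.f40033 IH) (Lpr_df (K7.f156747 IH) (Lpe (K7.f59430 IH) (Lpe (K2.f73378 IH) (Lpr_dt (f73364 IH) (Lpe (f73372 IH) (Lpn (LP (LK LD1_c8 LD2_c10 LD3_c36)))))))))))))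
theorem f546592 : Led Lsl_df (LP (LK LD1_c5 LD2_c53 LD3_c55)) = (LP (LK LD1_c8 LD2_c10 LD3_c36)) :=
  Lgr Lrot38 (Lpr_dt (f546587 IH) (Lpn (LP (LK LD1_c8 LD2_c10 LD3_c36))))
theorem f546603 : Led Lsl_ct (LP (LK LD1_c15 LD2_c23 LD3_c44)) = (LP (LK LD1_c8 LD2_c10 LD3_c36)) :=
  Lre_c IH (LK LD1_c15 LD2_c23 LD3_c44) (LK LD1_c8 LD2_c10 LD3_c36) Lrfl Lrfl
theorem f420730 : Led Lsl_at (LP (LK LD1_c2 LD2_c53 LD3_c18)) = (LP (LK LD1_c1 LD2_c22 LD3_c50)) :=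
  Lre_a IH (LK LD1_c2 LD2_c53 LD3_c18) (LK LD1_c1 LD2_c22 LD3_c50) Lrfl Lrfl
theorem f186708 : Led Lsl_dt (LP (LK LD1_c1 LD2_c22 LD3_c56)) = (LP (LK LD1_c0 LD2_c38 LD3_c23)) :=
  Lre_d IH (LK LD1_c1 LD2_c22 LD3_c56) (LK LD1_c0 LD2_c38 LD3_c23) Lrfl Lrfl
theorem f166173 : Led Lsl_ct (LP (LK LD1_c2 LD2_c53 LD3_c54)) = (LP (LK LD1_c1 LD2_c22 LD3_c56)) :=
  Lre_c IH (LK LD1_c2 LD2_c53 LD3_c54) (LK LD1_c1 LD2_c22 LD3_c56) Lrfl Lrfl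
theorem f166174 : Led Lsl_dt (LP (LK LD1_c5 LD2_c55 LD3_c8)) = (LP (LK LD1_c2 LD2_c53 LD3_c54)) :=
  Lre_d IH (LK LD1_c5 LD2_c55 LD3_c8) (LK LD1_c2 LD2_c53 LD3_c54) Lrfl Lrfl
theorem f545687 : Led Lsl_ct (LP (LK LD1_c11 LD2_c35 LD3_c49)) = (LP (LK LD1_c5 LD2_c55 LD3_c8)) :=
  Lre_c IH (LK LD1_c11 LD2_c35 LD3_c49) (LK LD1_c5 LD2_c55 LD3_c8) Lrfl Lrfl
theorem f546591 : Led Lsl_ct (LP (LK LD1_c8 LD2_c10 LD3_c36)) = (LP (LK LD1_c15 LD2_c23 LD3_c44)) :=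
  Lre_c IH (LK LD1_c8 LD2_c10 LD3_c36) (LK LD1_c15 LD2_c23 LD3_c44) Lrfl Lrfl
theorem f546599 : Led Lsl_df (LP (LK LD1_c11 LD2_c35 LD3_c49)) = (LP (LK LD1_c15 LD2_c23 LD3_c44)) :=
  Lgr Lrot106 (Lpr_ct (f545687 IH) (Lpr_dt (f166174 IH) (Lpr_ct (f166173 IH) (Lpr_dt (f186708 IH) (Lpr_ct (K35.f166165 IH) (Lpe (f420730 IH) (Lpe (K2.f71044 IH) (Lpr_dt (f546587 IH) (Lpr_ct (f546591 IH) (Lpn (LP (LK LD1_c15 LD2_c23 LD3_c44))))))))))))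
theorem f546610 : Led Lsl_dt (LP (LK LD1_c11 LD2_c35 LD3_c49)) = (LP (LK LD1_c15 LD2_c23 LD3_c44)) :=
  Lgr Lrot42 (Lpr_df (f546599 IH) (Lpn (LP (LK LD1_c15 LD2_c23 LD3_c44))))
theorem f546621 : Led Lsl_ct (LP (LK LD1_c5 LD2_c55 LD3_c8)) = (LP (LK LD1_c11 LD2_c35 LD3_c49)) :=
  Lre_c IH (LK LD1_c5 LD2_c55 LD3_c8) (LK LD1_c11 LD2_c35 LD3_c49) Lrfl Lrfl
theorem f545689 : Led Lsl_dt (LP (LK LD1_c2 LD2_c53 LD3_c54)) = (LP (LK LD1_c5 LD2_c55 LD3_c8)) :=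
  Lre_d IH (LK LD1_c2 LD2_c53 LD3_c54) (LK LD1_c5 LD2_c55 LD3_c8) Lrfl Lrfl
theorem f71747 : Led Lsl_ft (LP (LK LD1_c2 LD2_c53 LD3_c54)) = (LP (LK LD1_c5 LD2_c55 LD3_c9)) :=
  Lre_f IH (LK LD1_c2 LD2_c53 LD3_c54) (LK LD1_c5 LD2_c55 LD3_c9) Lrfl Lrfl
theorem f548025 : Led Lsl_at (LP (LK LD1_c5 LD2_c55 LD3_c9)) = (LP (LK LD1_c8 LD2_c12 LD3_c42)) :=
  Lgr Lrot33 (Lpe (f71747 IH) (Lpr_dt (f545689 IH) (Lpr_ct (f546621 IH) (Lpr_dt (f546610 IH) (Lpr_ct (f546603 IH) (Lpe (f546592 IH) (Lpr_ct (K35.f71066 IH) (Lpr_dt (K35.f71098 IH) (Lpr_ct (f548010 IH) (Lpn (LP (LK LD1_c8 LD2_c12 LD3_c42))))))))))))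
theorem f71600 : Led Lsl_gt (LP (LK LD1_c2 LD2_c53 LD3_c54)) = (LP (LK LD1_c5 LD2_c55 LD3_c6)) :=
  Lre_g IH (LK LD1_c2 LD2_c53 LD3_c54) (LK LD1_c5 LD2_c55 LD3_c6) Lrfl Lrfl
theorem f548038 : Led Lsl_gt (LP (LK LD1_c5 LD2_c55 LD3_c6)) = (LP (LK LD1_c8 LD2_c12 LD3_c42)) :=
  Lgr Lrot46 (Lpe (f71600 IH) (Lpr_ft (f71747 IH) (Lpr_at (f548025 IH) (Lpn (LP (LK LD1_c8 LD2_c12 LD3_c42))))))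
theorem f548040 : Led Lsl_at (LP (LK LD1_c8 LD2_c12 LD3_c36)) = (LP (LK LD1_c4 LD2_c5 LD3_c61)) :=
  Lre_a IH (LK LD1_c8 LD2_c12 LD3_c36) (LK LD1_c4 LD2_c5 LD3_c61) Lrfl Lrfl
theorem f548041 : Led Lsl_ft (LP (LK LD1_c5 LD2_c55 LD3_c6)) = (LP (LK LD1_c8 LD2_c12 LD3_c36)) :=
  Lgr Lrot2 (Lpr_gt (f548038 IH) (Lpr_gt (f177399 IH) (Lpe (f548040 IH) (Lpn (LP (LK LD1_c8 LD2_c12 LD3_c36))))))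
theorem f71601 : Led Lsl_dt (LP (LK LD1_c5 LD2_c55 LD3_c6)) = (LP (LK LD1_c11 LD2_c35 LD3_c41)) :=
  Lre_d IH (LK LD1_c5 LD2_c55 LD3_c6) (LK LD1_c11 LD2_c35 LD3_c41) Lrfl Lrfl
theorem f73284 : Led Lsl_dt (LP (LK LD1_c0 LD2_c57 LD3_c6)) = (LP (LK LD1_c2 LD2_c0 LD3_c16)) :=
  Lre_d IH (LK LD1_c0 LD2_c57 LD3_c6) (LK LD1_c2 LD2_c0 LD3_c16) Lrfl Lrfl
theorem f73279 : Led Lsl_ct (LP (LK LD1_c1 LD2_c59 LD3_c33)) = (LP (LK LD1_c0 LD2_c57 LD3_c6)) :=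
  Lre_c IH (LK LD1_c1 LD2_c59 LD3_c33) (LK LD1_c0 LD2_c57 LD3_c6) Lrfl Lrfl
theorem f193098 : Led Lsl_ct (LP (LK LD1_c8 LD2_c10 LD3_c37)) = (LP (LK LD1_c4 LD2_c4 LD3_c55)) :=
  Lre_c IH (LK LD1_c8 LD2_c10 LD3_c37) (LK LD1_c4 LD2_c4 LD3_c55) Lrfl Lrfl
theorem f193099 : Led Lsl_dt (LP (LK LD1_c15 LD2_c23 LD3_c48)) = (LP (LK LD1_c8 LD2_c10 LD3_c37)) :=
  Lre_d IH (LK LD1_c15 LD2_c23 LD3_c48) (LK LD1_c8 LD2_c10 LD3_c37) Lrfl Lrfl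
theorem f548060 : Led Lsl_ct (LP (LK LD1_c11 LD2_c35 LD3_c41)) = (LP (LK LD1_c15 LD2_c23 LD3_c48)) :=
  Lgr Lrot133 (Lpe (f71601 IH) (Lpr_ft (f548041 IH) (Lpr_at (f548040 IH) (Lpe (f169101 IH) (Lpe (f73284 IH) (Lpe (f73279 IH) (Lpe (K2.f73377 IH) (Lpe (f193098 IH) (Lpe (f193099 IH) (Lpn (LP (LK LD1_c15 LD2_c23 LD3_c48))))))))))))
theorem f548062 : Led Lsl_cf (LP (LK LD1_c11 LD2_c35 LD3_c41)) = (LP (LK LD1_c15 LD2_c23 LD3_c48)) :=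
  Lgr Lrot11 (Lpr_ct (f548060 IH) (Lpn (LP (LK LD1_c15 LD2_c23 LD3_c48))))
theorem f548043 : Led Lsl_dt (LP (LK LD1_c11 LD2_c35 LD3_c41)) = (LP (LK LD1_c5 LD2_c55 LD3_c6)) :=
  Lre_d IH (LK LD1_c11 LD2_c35 LD3_c41) (LK LD1_c5 LD2_c55 LD3_c6) Lrfl Lrfl
theorem f548069 : Led Lsl_dt (LP (LK LD1_c8 LD2_c10 LD3_c37)) = (LP (LK LD1_c15 LD2_c23 LD3_c48)) :=
  Lre_d IH (LK LD1_c8 LD2_c10 LD3_c37) (LK LD1_c15 LD2_c23 LD3_c48) Lrfl Lrfl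
theorem f196134 : Led Lsl_ct (LP (LK LD1_c4 LD2_c4 LD3_c55)) = (LP (LK LD1_c8 LD2_c10 LD3_c37)) :=
  Lre_c IH (LK LD1_c4 LD2_c4 LD3_c55) (LK LD1_c8 LD2_c10 LD3_c37) Lrfl Lrfl
theorem f73383 : Led Lsl_ct (LP (LK LD1_c0 LD2_c57 LD3_c6)) = (LP (LK LD1_c1 LD2_c59 LD3_c33)) :=
  Lre_c IH (LK LD1_c0 LD2_c57 LD3_c6) (LK LD1_c1 LD2_c59 LD3_c33) Lrfl Lrfl
theorem f548078 : Led Lsl_ft (LP (LK LD1_c2 LD2_c0 LD3_c16)) = (LP (LK LD1_c4 LD2_c6 LD3_c1)) :=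
  Lre_f IH (LK LD1_c2 LD2_c0 LD3_c16) (LK LD1_c4 LD2_c6 LD3_c1) Lrfl Lrfl
theorem f55831 : Led Lsl_at (LP (LK LD1_c4 LD2_c6 LD3_c1)) = (LP (LK LD1_c8 LD2_c12 LD3_c15)) :=
  Lre_a IH (LK LD1_c4 LD2_c6 LD3_c1) (LK LD1_c8 LD2_c12 LD3_c15) Lrfl Lrfl
theorem f548079 : Led Lsl_ct (LP (LK LD1_c5 LD2_c55 LD3_c6)) = (LP (LK LD1_c8 LD2_c12 LD3_c15)) :=
  Lgr Lrot98 (Lpe (f548043 IH) (Lpr_cf (f548062 IH) (Lpe (f548069 IH) (Lpe (f196134 IH) (Lpe (f73364 IH) (Lpe (f73383 IH) (Lpe (K2.f73256 IH) (Lpr_ft (f548078 IH) (Lpr_at (f55831 IH) (Lpn (LP (LK LD1_c8 LD2_c12 LD3_c15))))))))))))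
theorem f548045 : Led Lsl_et (LP (LK LD1_c11 LD2_c35 LD3_c42)) = (LP (LK LD1_c5 LD2_c55 LD3_c6)) :=
  Lre_e IH (LK LD1_c11 LD2_c35 LD3_c42) (LK LD1_c5 LD2_c55 LD3_c6) Lrfl Lrfl
theorem f55886 : Led Lsl_et (LP (LK LD1_c8 LD2_c12 LD3_c15)) = (LP (LK LD1_c15 LD2_c26 LD3_c17)) :=
  Lre_e IH (LK LD1_c8 LD2_c12 LD3_c15) (LK LD1_c15 LD2_c26 LD3_c17) Lrfl Lrfl
theorem f548083 : Led Lsl_cf (LP (LK LD1_c11 LD2_c35 LD3_c42)) = (LP (LK LD1_c15 LD2_c26 LD3_c17)) :=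
  Lgr Lrot39 (Lpr_et (f548045 IH) (Lpr_ct (f548079 IH) (Lpr_et (f55886 IH) (Lpn (LP (LK LD1_c15 LD2_c26 LD3_c17))))))
theorem f548096 : Led Lsl_ct (LP (LK LD1_c11 LD2_c35 LD3_c42)) = (LP (LK LD1_c15 LD2_c26 LD3_c17)) :=
  Lgr Lrot59 (Lpr_cf (f548083 IH) (Lpn (LP (LK LD1_c15 LD2_c26 LD3_c17))))
theorem f55731 : Led Lsl_at (LP (LK LD1_c15 LD2_c26 LD3_c17)) = (LP (LK LD1_c8 LD2_c12 LD3_c50)) :=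
  Lre_a IH (LK LD1_c15 LD2_c26 LD3_c17) (LK LD1_c8 LD2_c12 LD3_c50) Lrfl Lrfl
theorem f55573 : Led Lsl_ct (LP (LK LD1_c8 LD2_c12 LD3_c50)) = (LP (LK LD1_c15 LD2_c27 LD3_c4)) :=
  Lre_c IH (LK LD1_c8 LD2_c12 LD3_c50) (LK LD1_c15 LD2_c27 LD3_c4) Lrfl Lrfl
theorem f548100 : Led Lsl_af (LP (LK LD1_c11 LD2_c35 LD3_c42)) = (LP (LK LD1_c15 LD2_c27 LD3_c4)) :=
  Lgr Lrot68 (Lpr_ct (f548096 IH) (Lpr_at (f55731 IH) (Lpr_ct (f55573 IH) (Lpn (LP (LK LD1_c15 LD2_c27 LD3_c4))))))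
theorem f55576 : Led Lsl_et (LP (LK LD1_c8 LD2_c12 LD3_c46)) = (LP (LK LD1_c15 LD2_c27 LD3_c4)) :=
  Lre_e IH (LK LD1_c8 LD2_c12 LD3_c46) (LK LD1_c15 LD2_c27 LD3_c4) Lrfl Lrfl
theorem f548105 : Led Lsl_at (LP (LK LD1_c5 LD2_c55 LD3_c6)) = (LP (LK LD1_c8 LD2_c12 LD3_c46)) :=
  Lgr Lrot80 (Lpe (f548045 IH) (Lpr_af (f548100 IH) (Lpe (f55576 IH) (Lpn (LP (LK LD1_c8 LD2_c12 LD3_c46))))))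
theorem f548058 : Led Lsl_ff (LP (LK LD1_c5 LD2_c55 LD3_c6)) = (LP (LK LD1_c8 LD2_c12 LD3_c36)) :=
  Lgr Lrot3 (Lpr_ft (f548041 IH) (Lpn (LP (LK LD1_c8 LD2_c12 LD3_c36))))
theorem f427502 : Led Lsl_bt (LP (LK LD1_c0 LD2_c38 LD3_c41)) = (LP (LK LD1_c1 LD2_c23 LD3_c33)) :=
  Lre_b IH (LK LD1_c0 LD2_c38 LD3_c41) (LK LD1_c1 LD2_c23 LD3_c33) Lrfl Lrfl
theorem f387243 : Led Lsl_ct (LP (LK LD1_c2 LD2_c27 LD3_c15)) = (LP (LK LD1_c4 LD2_c58 LD3_c34)) :=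
  Lre_c IH (LK LD1_c2 LD2_c27 LD3_c15) (LK LD1_c4 LD2_c58 LD3_c34) Lrfl Lrfl
theorem f421181 : Led Lsl_af (LP (LK LD1_c5 LD2_c13 LD3_c52)) = (LP (LK LD1_c4 LD2_c58 LD3_c34)) :=
  Lgr Lrot68 (Lpr_ct (K32.f421179 IH) (Lpe (K32.f387196 IH) (Lpr_ct (f387243 IH) (Lpn (LP (LK LD1_c4 LD2_c58 LD3_c34))))))
theorem f161223 : Led Lsl_ft (LP (LK LD1_c2 LD2_c27 LD3_c7)) = (LP (LK LD1_c4 LD2_c58 LD3_c34)) :=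
  Lre_f IH (LK LD1_c2 LD2_c27 LD3_c7) (LK LD1_c4 LD2_c58 LD3_c34) Lrfl Lrfl
theorem f421461 : Led Lsl_gf (LP (LK LD1_c5 LD2_c13 LD3_c52)) = (LP (LK LD1_c4 LD2_c58 LD3_c33)) :=
  Lgr Lrot76 (Lpr_af (f421181 IH) (Lpe (f161223 IH) (Lpr_gt (K36.f387093 IH) (Lpn (LP (LK LD1_c4 LD2_c58 LD3_c33))))))
theorem f421185 : Led Lsl_cf (LP (LK LD1_c5 LD2_c13 LD3_c52)) = (LP (LK LD1_c2 LD2_c33 LD3_c58)) :=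
  Lgr Lrot11 (Lpr_ct (K32.f421179 IH) (Lpn (LP (LK LD1_c2 LD2_c33 LD3_c58))))
theorem f539728 : Led Lsl_gt (LP (LK LD1_c5 LD2_c14 LD3_c10)) = (LP (LK LD1_c5 LD2_c7 LD3_c17)) :=
  Lgr Lrot164 (Lpe (K35.f186697 IH) (Lpe (f421185 IH) (Lpr_gf (f421461 IH) (Lpr_cf (K36.f427793 IH) (Lpe (K36.f426213 IH) (Lpe (f427502 IH) (Lpr_ct (K36.f386671 IH) (Lpe (K36.f387298 IH) (Lpr_cf (K36.f539725 IH) (Lpr_bt (K36.f301855 IH) (Lpn (LP (LK LD1_c5 LD2_c7 LD3_c17)))))))))))))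
theorem f539750 : Led Lsl_cf (LP (LK LD1_c5 LD2_c53 LD3_c53)) = (LP (LK LD1_c5 LD2_c7 LD3_c17)) :=
  Lgr Lrot166 (Lpr_gt (K37.f71822 IH) (Lpr_dt (K37.f71057 IH) (Lpe (K37.f539748 IH) (Lpr_dt (K37.f56478 IH) (Lpr_ct (K2.f56484 IH) (Lpe (K37.f60819 IH) (Lpe (K36.f55532 IH) (Lpr_df (K36.f539742 IH) (Lpr_gf (K36.f539730 IH) (Lpn (LP (LK LD1_c5 LD2_c7 LD3_c17))))))))))))
theorem f442695 : Led Lsl_ct (LP (LK LD1_c5 LD2_c54 LD3_c1)) = (LP (LK LD1_c2 LD2_c53 LD3_c22)) :=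
  Lre_c IH (LK LD1_c5 LD2_c54 LD3_c1) (LK LD1_c2 LD2_c53 LD3_c22) Lrfl Lrfl
theorem f55819 : Led Lsl_ct (LP (LK LD1_c4 LD2_c5 LD3_c58)) = (LP (LK LD1_c8 LD2_c12 LD3_c36)) :=
  Lre_c IH (LK LD1_c4 LD2_c5 LD3_c58) (LK LD1_c8 LD2_c12 LD3_c36) Lrfl Lrfl
theorem f545722 : Led Lsl_gf (LP (LK LD1_c5 LD2_c54 LD3_c1)) = (LP (LK LD1_c8 LD2_c12 LD3_c36)) :=
  Lgr Lrot172 (Lpr_ct (f442695 IH) (Lpr_dt (K2.f71805 IH) (Lpe (K37.f71813 IH) (Lpe (K37.f71822 IH) (Lpr_cf (f539750 IH) (Lpe (f539728 IH) (Lpr_dt (f545711 IH) (Lpr_gt (f55830 IH) (Lpr_ct (f55819 IH) (Lpn (LP (LK LD1_c8 LD2_c12 LD3_c36))))))))))))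
theorem f548114 : Led Lsl_gt (LP (LK LD1_c5 LD2_c54 LD3_c1)) = (LP (LK LD1_c8 LD2_c12 LD3_c46)) :=
  Lgr Lrot46 (Lpr_gf (f545722 IH) (Lpe (f548058 IH) (Lpr_at (f548105 IH) (Lpn (LP (LK LD1_c8 LD2_c12 LD3_c46))))))
theorem f71800 : Led Lsl_ct (LP (LK LD1_c2 LD2_c53 LD3_c22)) = (LP (LK LD1_c5 LD2_c54 LD3_c1)) :=
  Lre_c IH (LK LD1_c2 LD2_c53 LD3_c22) (LK LD1_c5 LD2_c54 LD3_c1) Lrfl Lrfl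
theorem f55813 : Led Lsl_bt (LP (LK LD1_c4 LD2_c6 LD3_c1)) = (LP (LK LD1_c2 LD2_c0 LD3_c20)) :=
  Lre_b IH (LK LD1_c4 LD2_c6 LD3_c1) (LK LD1_c2 LD2_c0 LD3_c20) Lrfl Lrfl
theorem f55815 : Led Lsl_ct (LP (LK LD1_c4 LD2_c7 LD3_c21)) = (LP (LK LD1_c8 LD2_c14 LD3_c53)) :=
  Lre_c IH (LK LD1_c4 LD2_c7 LD3_c21) (LK LD1_c8 LD2_c14 LD3_c53) Lrfl Lrfl
theorem f548118 : Led Lsl_gf (LP (LK LD1_c5 LD2_c7 LD3_c59)) = (LP (LK LD1_c8 LD2_c14 LD3_c53)) :=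
  Lgr Lrot126 (Lpr_cf (f545585 IH) (Lpe (f545597 IH) (Lpr_gt (f71126 IH) (Lpr_ct (f71800 IH) (Lpr_gt (f548114 IH) (Lpe (K1.f55520 IH) (Lpr_bt (f55813 IH) (Lpr_gt (K9.f55811 IH) (Lpe (f55814 IH) (Lpr_ct (f55815 IH) (Lpn (LP (LK LD1_c8 LD2_c14 LD3_c53)))))))))))))
theorem f34931 : Led Lsl_ct (LP (LK LD1_c4 LD2_c35 LD3_c24)) = (LP (LK LD1_c9 LD2_c7 LD3_c22)) :=
  Lre_c IH (LK LD1_c4 LD2_c35 LD3_c24) (LK LD1_c9 LD2_c7 LD3_c22) Lrfl Lrfl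
theorem f34925 : Led Lsl_ct (LP (LK LD1_c4 LD2_c35 LD3_c40)) = (LP (LK LD1_c9 LD2_c7 LD3_c50)) :=
  Lre_c IH (LK LD1_c4 LD2_c35 LD3_c40) (LK LD1_c9 LD2_c7 LD3_c50) Lrfl Lrfl
theorem f165422 : Led Lsl_bt (LP (LK LD1_c5 LD2_c7 LD3_c52)) = (LP (LK LD1_c2 LD2_c31 LD3_c12)) :=
  Lre_b IH (LK LD1_c5 LD2_c7 LD3_c52) (LK LD1_c2 LD2_c31 LD3_c12) Lrfl Lrfl
theorem f165423 : Led Lsl_ct (LP (LK LD1_c5 LD2_c7 LD3_c52)) = (LP (LK LD1_c10 LD2_c6 LD3_c2)) :=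
  Lre_c IH (LK LD1_c5 LD2_c7 LD3_c52) (LK LD1_c10 LD2_c6 LD3_c2) Lrfl Lrfl
theorem f169685 : Led Lsl_gf (LP (LK LD1_c9 LD2_c7 LD3_c50)) = (LP (LK LD1_c10 LD2_c6 LD3_c2)) :=
  Lgr Lrot126 (Lpe (f34925 IH) (Lpr_bt (K2.f35147 IH) (Lpe (K14.f166408 IH) (Lpr_ct (K9.f169580 IH) (Lpr_gt (K9.f165420 IH) (Lpe (K9.f53212 IH) (Lpr_bt (K27.f163811 IH) (Lpr_gt (K27.f22371 IH) (Lpe (f165422 IH) (Lpr_ct (f165423 IH) (Lpn (LP (LK LD1_c10 LD2_c6 LD3_c2)))))))))))))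
theorem f34933 : Led Lsl_at (LP (LK LD1_c16 LD2_c59 LD3_c34)) = (LP (LK LD1_c9 LD2_c7 LD3_c50)) :=
  Lre_a IH (LK LD1_c16 LD2_c59 LD3_c34) (LK LD1_c9 LD2_c7 LD3_c50) Lrfl Lrfl
theorem f34934 : Led Lsl_ft (LP (LK LD1_c9 LD2_c7 LD3_c22)) = (LP (LK LD1_c16 LD2_c59 LD3_c34)) :=
  Lre_f IH (LK LD1_c9 LD2_c7 LD3_c22) (LK LD1_c16 LD2_c59 LD3_c34) Lrfl Lrfl
theorem f169719 : Led Lsl_gt (LP (LK LD1_c9 LD2_c7 LD3_c22)) = (LP (LK LD1_c10 LD2_c6 LD3_c2)) :=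
  Lgr Lrot5 (Lpr_ft (f34934 IH) (Lpr_at (f34933 IH) (Lpr_gf (f169685 IH) (Lpn (LP (LK LD1_c10 LD2_c6 LD3_c2))))))
theorem f548122 : Led Lsl_gt (LP (LK LD1_c2 LD2_c31 LD3_c12)) = (LP (LK LD1_c4 LD2_c7 LD3_c21)) :=
  Lgr Lrot82 (Lpe (f165422 IH) (Lpr_ct (f165423 IH) (Lpe (f169719 IH) (Lpe (f34931 IH) (Lpe (K2.f71794 IH) (Lpe (f71126 IH) (Lpr_bf (f545597 IH) (Lpe (f545585 IH) (Lpr_gf (f548118 IH) (Lpe (f55815 IH) (Lpn (LP (LK LD1_c4 LD2_c7 LD3_c21)))))))))))))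
theorem f545590 : Led Lsl_ct (LP (LK LD1_c5 LD2_c7 LD3_c59)) = (LP (LK LD1_c9 LD2_c5 LD3_c48)) :=
  Lgr Lrot59 (Lpr_cf (f545585 IH) (Lpn (LP (LK LD1_c9 LD2_c5 LD3_c48))))
def v1455 : LQ := Led Lsl_gf (LP (LK LD1_c1 LD2_c18 LD3_c59))
theorem f495659 : Led Lsl_gf (LP (LK LD1_c1 LD2_c18 LD3_c59)) = v1455 :=
  Lrfl
theorem f548134 : Led Lsl_df (LP (LK LD1_c2 LD2_c31 LD3_c12)) = v1455 :=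
  Lgr Lrot155 (Lpr_gt (f548122 IH) (Lpr_ct (f55815 IH) (Lpe (f548118 IH) (Lpr_ct (f545590 IH) (Lpr_dt (K5.f132347 IH) (Lpe (K5.f36547 IH) (Lpqs (f544988 IH) (Lpe (f495658 IH) (Lpe (K35.f177830 IH) (Lpr_gf (f495659 IH) (Lpn v1455)))))))))))
theorem f501279 : Led Lsl_gf v1455 = K35.v1751 :=
  Lgr Lrot47 (Lpe (f495659 IH) (Lpr_af (K35.f495661 IH) (Lpr_ff (K35.f501276 IH) (Lpn K35.v1751))))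
def v2878 : LQ := Led Lsl_bt K37.v377
theorem f536037 : Led Lsl_bt K37.v377 = v2878 :=
  Lrfl
theorem f536040 : Led Lsl_ef (LP (LK LD1_c2 LD2_c30 LD3_c10)) = v2878 :=
  Lgr Lrot29 (Lpr_bt (K36.f164100 IH) (Lpr_et (K37.f452519 IH) (Lpr_bt (f536037 IH) (Lpn v2878))))
def v1216 : LQ := Led Lsl_gt (LP (LK LD1_c1 LD2_c3 LD3_c15))
theorem f494060 : Led Lsl_gt (LP (LK LD1_c1 LD2_c3 LD3_c15)) = v1216 :=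
  Lrfl
theorem f319406 : Led Lsl_ft (LP (LK LD1_c1 LD2_c3 LD3_c15)) = (LP (LK LD1_c0 LD2_c36 LD3_c38)) :=
  Lgr Lrot75 (Lpe (f225162 IH) (Lpr_ff (K20.f319404 IH) (Lpe (K30.f172037 IH) (Lpn (LP (LK LD1_c0 LD2_c36 LD3_c38))))))
theorem f494061 : Led Lsl_gf (LP (LK LD1_c1 LD2_c19 LD3_c21)) = v1216 :=
  Lgr Lrot76 (Lpe (K35.f319395 IH) (Lpe (f319406 IH) (Lpr_gt (f494060 IH) (Lpn v1216))))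
theorem f22413 : Led Lsl_ct (LP (LK LD1_c0 LD2_c36 LD3_c43)) = (LP (LK LD1_c0 LD2_c16 LD3_c25)) :=
  Lre_c IH (LK LD1_c0 LD2_c36 LD3_c43) (LK LD1_c0 LD2_c16 LD3_c25) Lrfl Lrfl
theorem f452587 : Led Lsl_gf (LP (LK LD1_c1 LD2_c28 LD3_c29)) = K35.v389 :=
  Lgr Lrot148 (Lpr_dt (K9.f172153 IH) (Lpr_gt (K9.f22415 IH) (Lpr_dt (K37.f22414 IH) (Lpr_ct (f22413 IH) (Lpe (K9.f22411 IH) (Lpe (K9.f22409 IH) (Lpr_df (K0.f9509 IH) (Lpr_gf (K19.f60187 IH) (Lpr_ct (K35.f452583 IH) (Lpn K35.v389))))))))))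
theorem f537374 : (LP (LK LD1_c1 LD2_c28 LD3_c29)) = v1216 :=
  Lefun (Lecon (Lfl_gf (f452587 IH)) (K35.f537166 IH).symm) (f494060 IH)
theorem f537760 : (LP (LK LD1_c1 LD2_c19 LD3_c21)) = K37.v377 :=
  Lefun (Lecon (Lfl_gf (f494061 IH)) (f537374 IH).symm) (K37.f452517 IH)
theorem f537909 : v2878 = (LP (LK LD1_c2 LD2_c12 LD3_c51)) :=
  Lefun (Lecon (f536037 IH) (f537760 IH).symm) (Lfl_bf (K35.f319396 IH))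
theorem f319380 : Led Lsl_ff (LP (LK LD1_c2 LD2_c12 LD3_c52)) = (LP (LK LD1_c1 LD2_c18 LD3_c48)) :=
  Lgr Lrot25 (Lpr_bt (f168851 IH) (Lpr_ft (K20.f319378 IH) (Lpr_bt (K30.f172334 IH) (Lpn (LP (LK LD1_c1 LD2_c18 LD3_c48))))))
theorem f354445 : Led Lsl_at (LP (LK LD1_c2 LD2_c12 LD3_c52)) = (LP (LK LD1_c4 LD2_c31 LD3_c43)) :=
  Lre_a IH (LK LD1_c2 LD2_c12 LD3_c52) (LK LD1_c4 LD2_c31 LD3_c43) Lrfl Lrfl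
theorem f402629 : Led Lsl_gf (LP (LK LD1_c4 LD2_c31 LD3_c43)) = (LP (LK LD1_c2 LD2_c44 LD3_c60)) :=
  Lgr Lrot76 (Lpe (f354445 IH) (Lpr_ff (f319380 IH) (Lpr_gt (K30.f172335 IH) (Lpn (LP (LK LD1_c2 LD2_c44 LD3_c60))))))
theorem f423271 : Led Lsl_df (LP (LK LD1_c2 LD2_c44 LD3_c60)) = (LP (LK LD1_c1 LD2_c19 LD3_c25)) :=
  Lgr Lrot38 (Lpr_dt (K31.f423256 IH) (Lpn (LP (LK LD1_c1 LD2_c19 LD3_c25))))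
theorem f548135 : K36.v1467 = K35.v1738 :=
  (Llr Lrot122 (Lpe (K36.f495714 IH) (Lpe (f423271 IH) (Lpe (f402629 IH) (Lpe (K35.f354446 IH) (Lpq (f537909 IH) (Lpe (f536040 IH) (Lpq (f537804 IH) (Lpe (f501279 IH) (Lpe (f548134 IH) (Lpr_gt (f548122 IH) (Lpe (f172062 IH) (Lpr_et (f22436 IH) (Lpr_gt (K35.f501208 IH) (Lpn K35.v1738))))))))))))))).symm
theorem f208558 : Led Lsl_ct (LP (LK LD1_c2 LD2_c51 LD3_c45)) = (LP (LK LD1_c5 LD2_c51 LD3_c0)) :=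
  Lre_c IH (LK LD1_c2 LD2_c51 LD3_c45) (LK LD1_c5 LD2_c51 LD3_c0) Lrfl Lrfl
theorem f208554 : Led Lsl_dt (LP (LK LD1_c5 LD2_c51 LD3_c0)) = (LP (LK LD1_c11 LD2_c29 LD3_c35)) :=
  Lre_d IH (LK LD1_c5 LD2_c51 LD3_c0) (LK LD1_c11 LD2_c29 LD3_c35) Lrfl Lrfl
theorem f208567 : Led Lsl_ct (LP (LK LD1_c11 LD2_c29 LD3_c35)) = (LP (LK LD1_c20 LD2_c26 LD3_c44)) :=
  Lre_c IH (LK LD1_c11 LD2_c29 LD3_c35) (LK LD1_c20 LD2_c26 LD3_c44) Lrfl Lrfl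
theorem f181544 : Led Lsl_dt (LP (LK LD1_c11 LD2_c12 LD3_c53)) = (LP (LK LD1_c5 LD2_c41 LD3_c19)) :=
  Lre_d IH (LK LD1_c11 LD2_c12 LD3_c53) (LK LD1_c5 LD2_c41 LD3_c19) Lrfl Lrfl
theorem f136254 : Led Lsl_dt (LP (LK LD1_c2 LD2_c51 LD3_c45)) = (LP (LK LD1_c1 LD2_c21 LD3_c55)) :=
  Lre_d IH (LK LD1_c2 LD2_c51 LD3_c45) (LK LD1_c1 LD2_c21 LD3_c55) Lrfl Lrfl
theorem f181487 : Led Lsl_dt (LP (LK LD1_c5 LD2_c41 LD3_c19)) = (LP (LK LD1_c11 LD2_c12 LD3_c53)) :=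
  Lre_d IH (LK LD1_c5 LD2_c41 LD3_c19) (LK LD1_c11 LD2_c12 LD3_c53) Lrfl Lrfl
theorem f175793 : Led Lsl_gt (LP (LK LD1_c18 LD2_c2 LD3_c19)) = (LP (LK LD1_c9 LD2_c51 LD3_c11)) :=
  Lre_g IH (LK LD1_c18 LD2_c2 LD3_c19) (LK LD1_c9 LD2_c51 LD3_c11) Lrfl Lrfl
theorem f538997 : Led Lsl_gf (LP (LK LD1_c18 LD2_c2 LD3_c19)) = (LP (LK LD1_c11 LD2_c8 LD3_c14)) :=
  Lgr Lrot47 (Lpr_gt (f175793 IH) (Lpr_af (K36.f538978 IH) (Lpe (K36.f538994 IH) (Lpn (LP (LK LD1_c11 LD2_c8 LD3_c14))))))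
theorem f544982 : Led Lsl_cf (LP (LK LD1_c11 LD2_c12 LD3_c53)) = (LP (LK LD1_c18 LD2_c2 LD3_c19)) :=
  Lgr Lrot99 (Lpe (f181487 IH) (Lpr_cf (K37.f181536 IH) (Lpe (K36.f541427 IH) (Lpqs (K37.f539936 IH) (Lpe (K7.f20330 IH) (Lpq (K37.f539936 IH) (Lpe (K36.f500182 IH) (Lpe (f136254 IH) (Lpr_gt (f544937 IH) (Lpr_ct (K36.f380353 IH) (Lpe (f538997 IH) (Lpn (LP (LK LD1_c18 LD2_c2 LD3_c19))))))))))))))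
theorem f548146 : Led Lsl_dt (LP (LK LD1_c20 LD2_c26 LD3_c44)) = (LP (LK LD1_c18 LD2_c2 LD3_c19)) :=
  Lgr Lrot140 (Lpe (f208567 IH) (Lpe (f208554 IH) (Lpe (f208558 IH) (Lpe (f22384 IH) (Lpr_ft (K36.f500186 IH) (Lpqs (K36.f541426 IH) (Lpqs (f548135 IH) (Lpqs (K35.f541444 IH) (Lpq (K35.f541444 IH) (Lpq (f548135 IH) (Lpe (K36.f495715 IH) (Lpe (K37.f181541 IH) (Lpe (f181544 IH) (Lpr_cf (f544982 IH) (Lpn (LP (LK LD1_c18 LD2_c2 LD3_c19)))))))))))))))))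
theorem f548149 : Led Lsl_df (LP (LK LD1_c20 LD2_c26 LD3_c44)) = (LP (LK LD1_c18 LD2_c2 LD3_c19)) :=
  Lgr Lrot38 (Lpr_dt (f548146 IH) (Lpn (LP (LK LD1_c18 LD2_c2 LD3_c19))))
theorem f208563 : Led Lsl_ct (LP (LK LD1_c20 LD2_c26 LD3_c44)) = (LP (LK LD1_c11 LD2_c29 LD3_c35)) :=
  Lre_c IH (LK LD1_c20 LD2_c26 LD3_c44) (LK LD1_c11 LD2_c29 LD3_c35) Lrfl Lrfl
theorem f208568 : Led Lsl_dt (LP (LK LD1_c11 LD2_c29 LD3_c35)) = (LP (LK LD1_c5 LD2_c51 LD3_c0)) :=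
  Lre_d IH (LK LD1_c11 LD2_c29 LD3_c35) (LK LD1_c5 LD2_c51 LD3_c0) Lrfl Lrfl
theorem f208547 : Led Lsl_ct (LP (LK LD1_c5 LD2_c51 LD3_c0)) = (LP (LK LD1_c2 LD2_c51 LD3_c45)) :=
  Lre_c IH (LK LD1_c5 LD2_c51 LD3_c0) (LK LD1_c2 LD2_c51 LD3_c45) Lrfl Lrfl
theorem f208518 : Led Lsl_af (LP (LK LD1_c2 LD2_c51 LD3_c44)) = (LP (LK LD1_c2 LD2_c53 LD3_c3)) :=
  Lgr Lrot0 (Lpr_at (K36.f208516 IH) (Lpn (LP (LK LD1_c2 LD2_c53 LD3_c3))))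
theorem f181545 : Led Lsl_bt (LP (LK LD1_c2 LD2_c46 LD3_c45)) = (LP (LK LD1_c5 LD2_c41 LD3_c19)) :=
  Lre_b IH (LK LD1_c2 LD2_c46 LD3_c45) (LK LD1_c5 LD2_c41 LD3_c19) Lrfl Lrfl
theorem f541372 : Led Lsl_ff (LP (LK LD1_c2 LD2_c53 LD3_c3)) = (LP (LK LD1_c5 LD2_c41 LD3_c19)) :=
  Lgr Lrot25 (Lpr_bt (K36.f72381 IH) (Lpr_ft (K36.f500415 IH) (Lpq (K36.f541365 IH) (Lpr_bt (f181545 IH) (Lpn (LP (LK LD1_c5 LD2_c41 LD3_c19)))))))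
theorem f548156 : Led Lsl_ct (LP (LK LD1_c11 LD2_c12 LD3_c53)) = (LP (LK LD1_c18 LD2_c2 LD3_c19)) :=
  Lgr Lrot133 (Lpe (f181487 IH) (Lpe (f541372 IH) (Lpe (f208518 IH) (Lpe (K36.f208520 IH) (Lpe (f136254 IH) (Lpe (f208547 IH) (Lpe (f208568 IH) (Lpe (f208563 IH) (Lpr_df (f548149 IH) (Lpn (LP (LK LD1_c18 LD2_c2 LD3_c19))))))))))))
theorem f174843 : Led Lsl_dt (LP (LK LD1_c9 LD2_c1 LD3_c40)) = (LP (LK LD1_c4 LD2_c31 LD3_c58)) :=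
  Lre_d IH (LK LD1_c9 LD2_c1 LD3_c40) (LK LD1_c4 LD2_c31 LD3_c58) Lrfl Lrfl
theorem f72379 : Led Lsl_dt (LP (LK LD1_c4 LD2_c34 LD3_c48)) = (LP (LK LD1_c2 LD2_c14 LD3_c29)) :=
  Lre_d IH (LK LD1_c4 LD2_c34 LD3_c48) (LK LD1_c2 LD2_c14 LD3_c29) Lrfl Lrfl
theorem f208539 : Led Lsl_at (LP (LK LD1_c2 LD2_c51 LD3_c45)) = (LP (LK LD1_c4 LD2_c34 LD3_c48)) :=
  Lgr Lrot51 (Lpe (f22384 IH) (Lpr_af (K36.f208521 IH) (Lpe (f72379 IH) (Lpn (LP (LK LD1_c4 LD2_c34 LD3_c48))))))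
theorem f208542 : Led Lsl_af (LP (LK LD1_c2 LD2_c51 LD3_c45)) = (LP (LK LD1_c4 LD2_c34 LD3_c48)) :=
  Lgr Lrot0 (Lpr_at (f208539 IH) (Lpn (LP (LK LD1_c4 LD2_c34 LD3_c48))))
theorem f548160 : Led Lsl_ft (LP (LK LD1_c9 LD2_c1 LD3_c40)) = (LP (LK LD1_c4 LD2_c34 LD3_c48)) :=
  Lgr Lrot142 (Lpr_dt (f174843 IH) (Lpe (K37.f181536 IH) (Lpr_dt (f181487 IH) (Lpr_ct (f548156 IH) (Lpe (f548149 IH) (Lpr_ct (f208563 IH) (Lpr_dt (f208568 IH) (Lpr_ct (f208547 IH) (Lpr_af (f208542 IH) (Lpn (LP (LK LD1_c4 LD2_c34 LD3_c48))))))))))))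
theorem f548246 : Led Lsl_gt (LP (LK LD1_c9 LD2_c1 LD3_c40)) = (LP (LK LD1_c5 LD2_c0 LD3_c25)) :=
  Lgr Lrot5 (Lpr_ft (f548160 IH) (Lpe (f208542 IH) (Lpr_gf (f544935 IH) (Lpn (LP (LK LD1_c5 LD2_c0 LD3_c25))))))
theorem f174830 : Led Lsl_dt (LP (LK LD1_c4 LD2_c31 LD3_c58)) = (LP (LK LD1_c9 LD2_c1 LD3_c40)) :=
  Lre_d IH (LK LD1_c4 LD2_c31 LD3_c58) (LK LD1_c9 LD2_c1 LD3_c40) Lrfl Lrfl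
def v1469 : LQ := Led Lsl_et (LP (LK LD1_c1 LD2_c19 LD3_c27))
theorem f495720 : Led Lsl_et (LP (LK LD1_c1 LD2_c19 LD3_c27)) = v1469 :=
  Lrfl
theorem f495722 : Led Lsl_ef (LP (LK LD1_c1 LD2_c19 LD3_c27)) = v1469 :=
  Lgr Lrot88 (Lpr_et (f495720 IH) (Lpn v1469))
def v376 : LQ := Led Lsl_et (LP (LK LD1_c0 LD2_c36 LD3_c41))
theorem f452508 : Led Lsl_et (LP (LK LD1_c0 LD2_c36 LD3_c41)) = v376 :=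
  Lrfl
theorem f495723 : Led Lsl_at v376 = v1469 :=
  Lgr Lrot80 (Lpe (f452508 IH) (Lpe (K30.f380230 IH) (Lpr_ef (f495722 IH) (Lpn v1469))))
def v1474 : LQ := Led Lsl_bt (LP (LK LD1_c1 LD2_c19 LD3_c35))
theorem f495742 : Led Lsl_bt (LP (LK LD1_c1 LD2_c19 LD3_c35)) = v1474 :=
  Lrfl
theorem f452509 : Led Lsl_bf (LP (LK LD1_c0 LD2_c36 LD3_c43)) = v376 :=
  Lgr Lrot96 (Lpr_et (K9.f172151 IH) (Lpr_bt (K30.f174928 IH) (Lpr_et (f452508 IH) (Lpn v376))))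
theorem f495745 : Led Lsl_ff v376 = v1474 :=
  Lgr Lrot25 (Lpe (f452509 IH) (Lpr_ft (K30.f380107 IH) (Lpr_bt (f495742 IH) (Lpn v1474))))
def v1482 : LQ := Led Lsl_at (LP (LK LD1_c1 LD2_c19 LD3_c42))
theorem f495792 : Led Lsl_at (LP (LK LD1_c1 LD2_c19 LD3_c42)) = v1482 :=
  Lrfl
theorem f495795 : Led Lsl_ef K30.v384 = v1482 :=
  Lgr Lrot20 (Lpe (K30.f452548 IH) (Lpr_et (K36.f379946 IH) (Lpr_at (f495792 IH) (Lpn v1482))))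
theorem f452553 : Led Lsl_af (LP (LK LD1_c2 LD2_c13 LD3_c5)) = K36.v385 :=
  Lgr Lrot45 (Lpr_ft (K24.f379965 IH) (Lpr_at (K24.f379957 IH) (Lpr_ft (K36.f452552 IH) (Lpn K36.v385))))
theorem f536995 : (LP (LK LD1_c2 LD2_c13 LD3_c5)) = v1482 :=
  Lefun (Lecon (Lfl_af (f452553 IH)) ((K36.f536818 IH).symm.trans (K36.f536719 IH).symm)) (f495792 IH)
theorem f537172 : K30.v384 = (LP (LK LD1_c1 LD2_c19 LD3_c35)) :=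
  Lefun (Lecon (Lfl_ef (f495795 IH)) (f536995 IH).symm) (K24.f334594 IH)
theorem f537416 : (LP (LK LD1_c2 LD2_c13 LD3_c0)) = v1474 :=
  Lefun (Lecon (Lfl_bf (K36.f452549 IH)) (f537172 IH)) (f495742 IH)
theorem f537782 : v376 = (LP (LK LD1_c1 LD2_c19 LD3_c27)) :=
  Lefun (Lecon (Lfl_ff (f495745 IH)) (f537416 IH).symm) (Lfl_ff (K30.f380234 IH))
theorem f537951 : v1469 = (LP (LK LD1_c0 LD2_c36 LD3_c41)) :=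
  Lefun (Lecon (f495723 IH) (f537782 IH)) (K30.f380230 IH)
theorem f380595 : Led Lsl_gt (LP (LK LD1_c2 LD2_c46 LD3_c11)) = (LP (LK LD1_c1 LD2_c19 LD3_c28)) :=
  Lre_g IH (LK LD1_c2 LD2_c46 LD3_c11) (LK LD1_c1 LD2_c19 LD3_c28) Lrfl Lrfl
theorem f548254 : Led Lsl_df (LP (LK LD1_c2 LD2_c46 LD3_c11)) = (LP (LK LD1_c2 LD2_c12 LD3_c50)) :=
  Lgr Lrot135 (Lpr_gt (f380595 IH) (Lpe (K30.f380161 IH) (Lpq (f537951 IH) (Lpe (f495722 IH) (Lpr_gt (K31.f380259 IH) (Lpe (K36.f174842 IH) (Lpr_dt (f174830 IH) (Lpr_gt (f548246 IH) (Lpr_df (K36.f538942 IH) (Lpr_et (K36.f380435 IH) (Lpe (K35.f380436 IH) (Lpn (LP (LK LD1_c2 LD2_c12 LD3_c50))))))))))))))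
theorem f380154 : Led Lsl_at (LP (LK LD1_c2 LD2_c46 LD3_c9)) = (LP (LK LD1_c1 LD2_c19 LD3_c28)) :=
  Lre_a IH (LK LD1_c2 LD2_c46 LD3_c9) (LK LD1_c1 LD2_c19 LD3_c28) Lrfl Lrfl
theorem f380156 : Led Lsl_ff (LP (LK LD1_c2 LD2_c46 LD3_c9)) = (LP (LK LD1_c4 LD2_c31 LD3_c59)) :=
  Lgr Lrot30 (Lpr_at (f380154 IH) (Lpr_ft (K30.f380149 IH) (Lpr_at (K30.f380155 IH) (Lpn (LP (LK LD1_c4 LD2_c31 LD3_c59))))))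
theorem f380624 : Led Lsl_gf (LP (LK LD1_c2 LD2_c46 LD3_c11)) = (LP (LK LD1_c4 LD2_c31 LD3_c59)) :=
  Lgr Lrot47 (Lpr_gt (f380595 IH) (Lpe (f380154 IH) (Lpr_ff (f380156 IH) (Lpn (LP (LK LD1_c4 LD2_c31 LD3_c59))))))
theorem f495716 : Led Lsl_ef (LP (LK LD1_c1 LD2_c19 LD3_c25)) = K36.v1467 :=
  Lgr Lrot88 (Lpr_et (K36.f495714 IH) (Lpn K36.v1467))
theorem f20394 : Led Lsl_dt (LP (LK LD1_c2 LD2_c14 LD3_c34)) = (LP (LK LD1_c4 LD2_c34 LD3_c59)) :=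
  Lre_d IH (LK LD1_c2 LD2_c14 LD3_c34) (LK LD1_c4 LD2_c34 LD3_c59) Lrfl Lrfl
theorem f169123 : Led Lsl_gt (LP (LK LD1_c1 LD2_c25 LD3_c40)) = (LP (LK LD1_c2 LD2_c59 LD3_c53)) :=
  Lre_g IH (LK LD1_c1 LD2_c25 LD3_c40) (LK LD1_c2 LD2_c59 LD3_c53) Lrfl Lrfl
theorem f548267 : Led Lsl_ef (LP (LK LD1_c2 LD2_c59 LD3_c53)) = (LP (LK LD1_c2 LD2_c12 LD3_c50)) :=
  Lgr Lrot17 (Lpe (f169123 IH) (Lpe (K35.f169113 IH) (Lpr_dt (K31.f169111 IH) (Lpe (K31.f169122 IH) (Lpr_df (K31.f174826 IH) (Lpe (K31.f380259 IH) (Lpq (f537782 IH) (Lpe (f452508 IH) (Lpr_dt (K30.f380161 IH) (Lpe (f380595 IH) (Lpr_df (f548254 IH) (Lpn (LP (LK LD1_c2 LD2_c12 LD3_c50))))))))))))))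
theorem f495663 : Led Lsl_gt (LP (LK LD1_c2 LD2_c59 LD3_c53)) = K35.v1456 :=
  Lgr Lrot46 (Lpe (f169123 IH) (Lpe (K35.f334471 IH) (Lpr_at (K35.f495660 IH) (Lpn K35.v1456))))
theorem f548269 : Led Lsl_gf (LP (LK LD1_c4 LD2_c34 LD3_c59)) = (LP (LK LD1_c6 LD2_c4 LD3_c11)) :=
  Lgr Lrot145 (Lpe (f20394 IH) (Lpq (K35.f541444 IH) (Lpq (f548135 IH) (Lpe (f495716 IH) (Lpr_gt (K30.f380251 IH) (Lpr_dt (K30.f181697 IH) (Lpe (f380624 IH) (Lpr_df (f548254 IH) (Lpe (f548267 IH) (Lpr_gt (f495663 IH) (Lpqs (f537970 IH) (Lpe (K36.f334869 IH) (Lpr_dt (K36.f186446 IH) (Lpn (LP (LK LD1_c6 LD2_c4 LD3_c11))))))))))))))))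
theorem f186094 : Led Lsl_bt (LP (LK LD1_c2 LD2_c58 LD3_c13)) = (LP (LK LD1_c6 LD2_c4 LD3_c11)) :=
  Lre_b IH (LK LD1_c2 LD2_c58 LD3_c13) (LK LD1_c6 LD2_c4 LD3_c11) Lrfl Lrfl
theorem f334726 : Led Lsl_ff (LP (LK LD1_c5 LD2_c0 LD3_c25)) = (LP (LK LD1_c6 LD2_c4 LD3_c11)) :=
  Lgr Lrot25 (Lpr_bt (K36.f101579 IH) (Lpr_ft (K36.f334722 IH) (Lpr_bt (f186094 IH) (Lpn (LP (LK LD1_c6 LD2_c4 LD3_c11))))))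
theorem f380387 : Led Lsl_at (LP (LK LD1_c1 LD2_c18 LD3_c49)) = (LP (LK LD1_c2 LD2_c44 LD3_c59)) :=
  Lre_a IH (LK LD1_c1 LD2_c18 LD3_c49) (LK LD1_c2 LD2_c44 LD3_c59) Lrfl Lrfl
theorem f538944 : Led Lsl_at (LP (LK LD1_c5 LD2_c0 LD3_c25)) = (LP (LK LD1_c2 LD2_c45 LD3_c4)) :=
  Lgr Lrot51 (Lpr_df (K36.f538942 IH) (Lpe (f380387 IH) (Lpe (K35.f422722 IH) (Lpn (LP (LK LD1_c2 LD2_c45 LD3_c4))))))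
theorem f548271 : Led Lsl_gt (LP (LK LD1_c4 LD2_c34 LD3_c59)) = (LP (LK LD1_c2 LD2_c45 LD3_c4)) :=
  Lgr Lrot46 (Lpr_gf (f548269 IH) (Lpe (f334726 IH) (Lpr_at (f538944 IH) (Lpn (LP (LK LD1_c2 LD2_c45 LD3_c4))))))
theorem f548144 : Led Lsl_ff (LP (LK LD1_c2 LD2_c51 LD3_c45)) = (LP (LK LD1_c4 LD2_c34 LD3_c59)) :=
  Lgr Lrot19 (Lpr_dt (f136254 IH) (Lpr_ft (K36.f500186 IH) (Lpqs (K36.f541426 IH) (Lpqs (f548135 IH) (Lpqs (K35.f541444 IH) (Lpr_dt (f20394 IH) (Lpn (LP (LK LD1_c4 LD2_c34 LD3_c59)))))))))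
theorem f548358 : Led Lsl_gf (LP (LK LD1_c4 LD2_c34 LD3_c48)) = (LP (LK LD1_c2 LD2_c45 LD3_c4)) :=
  Lgr Lrot76 (Lpe (f208539 IH) (Lpr_ff (f548144 IH) (Lpr_gt (f548271 IH) (Lpn (LP (LK LD1_c2 LD2_c45 LD3_c4))))))
theorem f22434 : Led Lsl_dt (LP (LK LD1_c2 LD2_c58 LD3_c6)) = (LP (LK LD1_c1 LD2_c24 LD3_c43)) :=
  Lre_d IH (LK LD1_c2 LD2_c58 LD3_c6) (LK LD1_c1 LD2_c24 LD3_c43) Lrfl Lrfl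
theorem f172108 : Led Lsl_gt (LP (LK LD1_c6 LD2_c4 LD3_c3)) = (LP (LK LD1_c11 LD2_c51 LD3_c46)) :=
  Lre_g IH (LK LD1_c6 LD2_c4 LD3_c3) (LK LD1_c11 LD2_c51 LD3_c46) Lrfl Lrfl
theorem f638722 : Led Lsl_df (LP (LK LD1_c2 LD2_c45 LD3_c1)) = K35.v4732 :=
  Lgr Lrot38 (Lpr_dt (K35.f638719 IH) (Lpn K35.v4732))
theorem f418727 : Led Lsl_gt (LP (LK LD1_c5 LD2_c38 LD3_c19)) = (LP (LK LD1_c2 LD2_c45 LD3_c1)) :=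
  Lre_g IH (LK LD1_c5 LD2_c38 LD3_c19) (LK LD1_c2 LD2_c45 LD3_c1) Lrfl Lrfl
theorem f638725 : Led Lsl_dt (LP (LK LD1_c11 LD2_c7 LD3_c60)) = (LP (LK LD1_c5 LD2_c38 LD3_c19)) :=
  Lre_d IH (LK LD1_c11 LD2_c7 LD3_c60) (LK LD1_c5 LD2_c38 LD3_c19) Lrfl Lrfl
theorem f638731 : Led Lsl_ef (LP (LK LD1_c11 LD2_c51 LD3_c46)) = (LP (LK LD1_c11 LD2_c7 LD3_c60)) :=
  Lgr Lrot17 (Lpe (f172108 IH) (Lpe (f22441 IH) (Lpr_dt (f22434 IH) (Lpr_gf (K37.f501209 IH) (Lpq (K37.f539943 IH) (Lpq (K36.f539953 IH) (Lpe (f72379 IH) (Lpr_gf (f548358 IH) (Lpr_ef (K35.f638723 IH) (Lpe (f638722 IH) (Lpe (f418727 IH) (Lpe (f638725 IH) (Lpn (LP (LK LD1_c11 LD2_c7 LD3_c60)))))))))))))))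
theorem f638732 : Led Lsl_et (LP (LK LD1_c11 LD2_c7 LD3_c60)) = (LP (LK LD1_c11 LD2_c51 LD3_c46)) :=
  Leop (Lpr_ef (f638731 IH) (Lpn (LP (LK LD1_c11 LD2_c7 LD3_c60))))
theorem seed_281 : LEOK LG_e (LK LD1_c11 LD2_c7 LD3_c60) :=
  Leoe_e (LK LD1_c11 LD2_c7 LD3_c60) (f638732 IH)
def v4743 : LQ := Led Lsl_at (LP (LK LD1_c2 LD2_c45 LD3_c40))
theorem f638795 : Led Lsl_at (LP (LK LD1_c2 LD2_c45 LD3_c40)) = v4743 :=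
  Lrfl
theorem f638796 : Led Lsl_af (LP (LK LD1_c2 LD2_c45 LD3_c40)) = v4743 :=
  Lgr Lrot0 (Lpr_at (f638795 IH) (Lpn v4743))
theorem f199437 : Led Lsl_dt (LP (LK LD1_c25 LD2_c14 LD3_c38)) = (LP (LK LD1_c15 LD2_c22 LD3_c49)) :=
  Lre_d IH (LK LD1_c25 LD2_c14 LD3_c38) (LK LD1_c15 LD2_c22 LD3_c49) Lrfl Lrfl
theorem f638797 : Led Lsl_ft (LP (LK LD1_c2 LD2_c45 LD3_c41)) = v4743 :=
  Lgr Lrot2 (Lpr_gt (K20.f178122 IH) (Lpr_gt (K22.f171867 IH) (Lpr_af (f638796 IH) (Lpn v4743))))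
theorem f289602 : Led Lsl_dt (LP (LK LD1_c2 LD2_c45 LD3_c41)) = (LP (LK LD1_c5 LD2_c39 LD3_c29)) :=
  Lre_d IH (LK LD1_c2 LD2_c45 LD3_c41) (LK LD1_c5 LD2_c39 LD3_c29) Lrfl Lrfl
theorem f319822 : Led Lsl_dt (LP (LK LD1_c11 LD2_c10 LD3_c5)) = (LP (LK LD1_c20 LD2_c4 LD3_c46)) :=
  Lre_d IH (LK LD1_c11 LD2_c10 LD3_c5) (LK LD1_c20 LD2_c4 LD3_c46) Lrfl Lrfl
theorem f638798 : Led Lsl_cf (LP (LK LD1_c25 LD2_c14 LD3_c38)) = (LP (LK LD1_c20 LD2_c4 LD3_c46)) :=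
  Lgr Lrot116 (Lpr_dt (f199437 IH) (Lpe (K30.f244594 IH) (Lpr_dt (K30.f178094 IH) (Lpr_ct (K22.f179227 IH) (Lpr_af (f638796 IH) (Lpe (f638797 IH) (Lpr_dt (f289602 IH) (Lpr_ct (K30.f289603 IH) (Lpr_dt (f319822 IH) (Lpn (LP (LK LD1_c20 LD2_c4 LD3_c46))))))))))))
theorem f638799 : Led Lsl_ct (LP (LK LD1_c20 LD2_c4 LD3_c46)) = (LP (LK LD1_c25 LD2_c14 LD3_c38)) :=
  Leop (Lpr_cf (f638798 IH) (Lpn (LP (LK LD1_c20 LD2_c4 LD3_c46))))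
theorem seed_282 : LEOK LG_c (LK LD1_c20 LD2_c4 LD3_c46) :=
  Leoe_c (LK LD1_c20 LD2_c4 LD3_c46) (f638799 IH)
def v4819 : LQ := Led Lsl_ft (LP (LK LD1_c2 LD2_c48 LD3_c44))
theorem f639163 : Led Lsl_ft (LP (LK LD1_c2 LD2_c48 LD3_c44)) = v4819 :=
  Lrfl
theorem f639166 : Led Lsl_ff (LP (LK LD1_c2 LD2_c48 LD3_c44)) = v4819 :=
  Lgr Lrot3 (Lpr_ft (f639163 IH) (Lpn v4819))
def v4818 : LQ := Led Lsl_at (LP (LK LD1_c2 LD2_c48 LD3_c44))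
theorem f639155 : Led Lsl_at (LP (LK LD1_c2 LD2_c48 LD3_c44)) = v4818 :=
  Lrfl
theorem f140579 : Led Lsl_dt (LP (LK LD1_c1 LD2_c20 LD3_c29)) = (LP (LK LD1_c2 LD2_c48 LD3_c44)) :=
  Lre_d IH (LK LD1_c1 LD2_c20 LD3_c29) (LK LD1_c2 LD2_c48 LD3_c44) Lrfl Lrfl
theorem f639158 : Led Lsl_df K31.v1504 = v4818 :=
  Lgr Lrot18 (Lpe (K31.f495926 IH) (Lpr_dt (f140579 IH) (Lpr_at (f639155 IH) (Lpn v4818))))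
theorem f495940 : Led Lsl_ff (LP (LK LD1_c1 LD2_c20 LD3_c30)) = K31.v1504 :=
  Lgr Lrot3 (Lpr_ft (K31.f495929 IH) (Lpn K31.v1504))
theorem f639160 : Led Lsl_ft (LP (LK LD1_c2 LD2_c48 LD3_c48)) = v4818 :=
  Lgr Lrot54 (Lpe (K31.f140237 IH) (Lpr_ff (f495940 IH) (Lpr_df (f639158 IH) (Lpn v4818))))
theorem f639161 : Led Lsl_ff (LP (LK LD1_c2 LD2_c48 LD3_c48)) = v4818 :=
  Lgr Lrot3 (Lpr_ft (f639160 IH) (Lpn v4818))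
theorem f639167 : Led Lsl_at (LP (LK LD1_c2 LD2_c48 LD3_c48)) = v4819 :=
  Lgr Lrot66 (Lpr_ff (f639161 IH) (Lpe (f639155 IH) (Lpr_ff (f639166 IH) (Lpn v4819))))
theorem f140242 : Led Lsl_cf (LP (LK LD1_c2 LD2_c48 LD3_c48)) = (LP (LK LD1_c3 LD2_c6 LD3_c61)) :=
  Lgr Lrot14 (Lpe (K31.f140237 IH) (Lpe (K1.f27144 IH) (Lpe (K1.f27143 IH) (Lpe (K31.f27121 IH) (Lpr_ct (K9.f140230 IH) (Lpr_gt (K9.f140231 IH) (Lpr_dt (K31.f83264 IH) (Lpe (K31.f83555 IH) (Lpe (K31.f67059 IH) (Lpn (LP (LK LD1_c3 LD2_c6 LD3_c61))))))))))))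
theorem f140604 : Led Lsl_bt (LP (LK LD1_c2 LD2_c48 LD3_c48)) = (LP (LK LD1_c5 LD2_c46 LD3_c4)) :=
  Lre_b IH (LK LD1_c2 LD2_c48 LD3_c48) (LK LD1_c5 LD2_c46 LD3_c4) Lrfl Lrfl
theorem f140605 : Led Lsl_ct (LP (LK LD1_c5 LD2_c46 LD3_c4)) = (LP (LK LD1_c11 LD2_c22 LD3_c31)) :=
  Lre_c IH (LK LD1_c5 LD2_c46 LD3_c4) (LK LD1_c11 LD2_c22 LD3_c31) Lrfl Lrfl
theorem f67058 : Led Lsl_bt (LP (LK LD1_c6 LD2_c19 LD3_c8)) = (LP (LK LD1_c3 LD2_c6 LD3_c61)) :=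
  Lre_b IH (LK LD1_c6 LD2_c19 LD3_c8) (LK LD1_c3 LD2_c6 LD3_c61) Lrfl Lrfl
theorem f140606 : Led Lsl_ct (LP (LK LD1_c12 LD2_c13 LD3_c56)) = (LP (LK LD1_c6 LD2_c19 LD3_c8)) :=
  Lre_c IH (LK LD1_c12 LD2_c13 LD3_c56) (LK LD1_c6 LD2_c19 LD3_c8) Lrfl Lrfl
theorem f140607 : Led Lsl_bt (LP (LK LD1_c11 LD2_c22 LD3_c31)) = (LP (LK LD1_c12 LD2_c13 LD3_c56)) :=
  Lgr Lrot128 (Lpe (f140605 IH) (Lpe (f140604 IH) (Lpr_cf (f140242 IH) (Lpe (f67058 IH) (Lpe (f140606 IH) (Lpn (LP (LK LD1_c12 LD2_c13 LD3_c56))))))))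
theorem f140613 : Led Lsl_bf (LP (LK LD1_c11 LD2_c22 LD3_c31)) = (LP (LK LD1_c12 LD2_c13 LD3_c56)) :=
  Lgr Lrot24 (Lpr_bt (f140607 IH) (Lpn (LP (LK LD1_c12 LD2_c13 LD3_c56))))
theorem f140628 : Led Lsl_et (LP (LK LD1_c6 LD2_c19 LD3_c7)) = (LP (LK LD1_c12 LD2_c13 LD3_c56)) :=
  Lre_e IH (LK LD1_c6 LD2_c19 LD3_c7) (LK LD1_c12 LD2_c13 LD3_c56) Lrfl Lrfl
theorem f140026 : Led Lsl_bt (LP (LK LD1_c1 LD2_c27 LD3_c15)) = (LP (LK LD1_c3 LD2_c2 LD3_c34)) :=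
  Lre_b IH (LK LD1_c1 LD2_c27 LD3_c15) (LK LD1_c3 LD2_c2 LD3_c34) Lrfl Lrfl
theorem f140027 : Led Lsl_ct (LP (LK LD1_c3 LD2_c2 LD3_c34)) = (LP (LK LD1_c6 LD2_c12 LD3_c1)) :=
  Lre_c IH (LK LD1_c3 LD2_c2 LD3_c34) (LK LD1_c6 LD2_c12 LD3_c1) Lrfl Lrfl
theorem f66981 : Led Lsl_bt (LP (LK LD1_c3 LD2_c6 LD3_c59)) = (LP (LK LD1_c1 LD2_c29 LD3_c37)) :=
  Lre_b IH (LK LD1_c3 LD2_c6 LD3_c59) (LK LD1_c1 LD2_c29 LD3_c37) Lrfl Lrfl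
theorem f66982 : Led Lsl_ct (LP (LK LD1_c6 LD2_c19 LD3_c7)) = (LP (LK LD1_c3 LD2_c6 LD3_c59)) :=
  Lre_c IH (LK LD1_c6 LD2_c19 LD3_c7) (LK LD1_c3 LD2_c6 LD3_c59) Lrfl Lrfl
theorem f140028 : Led Lsl_bt (LP (LK LD1_c6 LD2_c12 LD3_c1)) = (LP (LK LD1_c6 LD2_c19 LD3_c7)) :=
  Lgr Lrot128 (Lpe (f140027 IH) (Lpe (f140026 IH) (Lpr_cf (K9.f140023 IH) (Lpe (f66981 IH) (Lpe (f66982 IH) (Lpn (LP (LK LD1_c6 LD2_c19 LD3_c7))))))))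
theorem f140629 : Led Lsl_et (LP (LK LD1_c11 LD2_c22 LD3_c31)) = (LP (LK LD1_c6 LD2_c12 LD3_c1)) :=
  Lgr Lrot74 (Lpr_bf (f140613 IH) (Lpe (f140628 IH) (Lpe (f140028 IH) (Lpn (LP (LK LD1_c6 LD2_c12 LD3_c1))))))
theorem f140636 : Led Lsl_ef (LP (LK LD1_c11 LD2_c22 LD3_c31)) = (LP (LK LD1_c6 LD2_c12 LD3_c1)) :=
  Lgr Lrot88 (Lpr_et (f140629 IH) (Lpn (LP (LK LD1_c6 LD2_c12 LD3_c1))))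
theorem f140619 : Led Lsl_ct (LP (LK LD1_c11 LD2_c22 LD3_c31)) = (LP (LK LD1_c5 LD2_c46 LD3_c4)) :=
  Lre_c IH (LK LD1_c11 LD2_c22 LD3_c31) (LK LD1_c5 LD2_c46 LD3_c4) Lrfl Lrfl
theorem f140640 : Led Lsl_et (LP (LK LD1_c5 LD2_c46 LD3_c4)) = (LP (LK LD1_c3 LD2_c2 LD3_c34)) :=
  Lgr Lrot158 (Lpe (f140619 IH) (Lpr_ef (f140636 IH) (Lpe (f140027 IH) (Lpn (LP (LK LD1_c3 LD2_c2 LD3_c34))))))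
theorem f140646 : Led Lsl_bt (LP (LK LD1_c3 LD2_c2 LD3_c34)) = (LP (LK LD1_c1 LD2_c27 LD3_c15)) :=
  Lre_b IH (LK LD1_c3 LD2_c2 LD3_c34) (LK LD1_c1 LD2_c27 LD3_c15) Lrfl Lrfl
theorem f140647 : Led Lsl_ef (LP (LK LD1_c2 LD2_c48 LD3_c48)) = (LP (LK LD1_c1 LD2_c27 LD3_c15)) :=
  Lgr Lrot29 (Lpr_bt (f140604 IH) (Lpr_et (f140640 IH) (Lpr_bt (f140646 IH) (Lpn (LP (LK LD1_c1 LD2_c27 LD3_c15))))))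
def v1790 : LQ := Led Lsl_at (LP (LK LD1_c1 LD2_c27 LD3_c15))
theorem f502924 : Led Lsl_at (LP (LK LD1_c1 LD2_c27 LD3_c15)) = v1790 :=
  Lrfl
theorem f502925 : Led Lsl_af (LP (LK LD1_c1 LD2_c27 LD3_c15)) = v1790 :=
  Lgr Lrot0 (Lpr_at (f502924 IH) (Lpn v1790))
theorem f639169 : Led Lsl_ef v1790 = v4819 :=
  Lgr Lrot20 (Lpe (f502925 IH) (Lpe (f140647 IH) (Lpr_at (f639167 IH) (Lpn v4819))))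
theorem f502926 : Led Lsl_ft (LP (LK LD1_c1 LD2_c27 LD3_c16)) = v1790 :=
  Lgr Lrot2 (Lpr_gt (K16.f59890 IH) (Lpr_gt (K1.f59815 IH) (Lpr_af (f502925 IH) (Lpn v1790))))
theorem f502927 : Led Lsl_ff (LP (LK LD1_c1 LD2_c27 LD3_c16)) = v1790 :=
  Lgr Lrot3 (Lpr_ft (f502926 IH) (Lpn v1790))
theorem f444648 : Led Lsl_et (LP (LK LD1_c5 LD2_c45 LD3_c59)) = (LP (LK LD1_c2 LD2_c48 LD3_c44)) :=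
  Lre_e IH (LK LD1_c5 LD2_c45 LD3_c59) (LK LD1_c2 LD2_c48 LD3_c44) Lrfl Lrfl
theorem f639171 : Led Lsl_ft (LP (LK LD1_c3 LD2_c2 LD3_c38)) = (LP (LK LD1_c5 LD2_c45 LD3_c59)) :=
  Lgr Lrot86 (Lpe (K32.f413437 IH) (Lpr_ff (f502927 IH) (Lpr_ef (f639169 IH) (Lpe (f639163 IH) (Lpe (f444648 IH) (Lpn (LP (LK LD1_c5 LD2_c45 LD3_c59))))))))
theorem f639172 : Led Lsl_ft (LP (LK LD1_c3 LD2_c2 LD3_c38)) = (LP (LK LD1_c5 LD2_c45 LD3_c59)) :=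
  Leop (Lpe (f639171 IH) (Lpn (LP (LK LD1_c3 LD2_c2 LD3_c38))))
theorem seed_283 : LEOK LG_f (LK LD1_c3 LD2_c2 LD3_c38) :=
  Leoe_f (LK LD1_c3 LD2_c2 LD3_c38) (f639172 IH)
def v4867 : LQ := Led Lsl_gf (LP (LK LD1_c2 LD2_c51 LD3_c10))
theorem f640641 : Led Lsl_gf (LP (LK LD1_c2 LD2_c51 LD3_c10)) = v4867 :=
  Lrfl
theorem f158373 : Led Lsl_dt (LP (LK LD1_c3 LD2_c59 LD3_c37)) = (LP (LK LD1_c1 LD2_c56 LD3_c29)) :=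
  Lre_d IH (LK LD1_c3 LD2_c59 LD3_c37) (LK LD1_c1 LD2_c56 LD3_c29) Lrfl Lrfl
theorem f132799 : Led Lsl_ft (LP (LK LD1_c3 LD2_c5 LD3_c11)) = (LP (LK LD1_c1 LD2_c28 LD3_c38)) :=
  Lre_f IH (LK LD1_c3 LD2_c5 LD3_c11) (LK LD1_c1 LD2_c28 LD3_c38) Lrfl Lrfl
theorem f132354 : Led Lsl_ct (LP (LK LD1_c1 LD2_c21 LD3_c5)) = (LP (LK LD1_c2 LD2_c50 LD3_c1)) :=
  Lre_c IH (LK LD1_c1 LD2_c21 LD3_c5) (LK LD1_c2 LD2_c50 LD3_c1) Lrfl Lrfl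
theorem f132625 : Led Lsl_ct (LP (LK LD1_c2 LD2_c18 LD3_c54)) = (LP (LK LD1_c4 LD2_c42 LD3_c49)) :=
  Lre_c IH (LK LD1_c2 LD2_c18 LD3_c54) (LK LD1_c4 LD2_c42 LD3_c49) Lrfl Lrfl
theorem f132812 : Led Lsl_bf (LP (LK LD1_c5 LD2_c47 LD3_c54)) = (LP (LK LD1_c4 LD2_c42 LD3_c49)) :=
  Lgr Lrot90 (Lpr_ct (f132811 IH) (Lpr_bt (K8.f132339 IH) (Lpr_ct (f132354 IH) (Lpr_bt (K8.f132806 IH) (Lpr_ct (f132625 IH) (Lpn (LP (LK LD1_c4 LD2_c42 LD3_c49))))))))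
theorem f56226 : Led Lsl_ft (LP (LK LD1_c2 LD2_c16 LD3_c55)) = (LP (LK LD1_c4 LD2_c39 LD3_c41)) :=
  Lre_f IH (LK LD1_c2 LD2_c16 LD3_c55) (LK LD1_c4 LD2_c39 LD3_c41) Lrfl Lrfl
theorem f547181 : Led Lsl_gf (LP (LK LD1_c2 LD2_c16 LD3_c57)) = (LP (LK LD1_c2 LD2_c33 LD3_c3)) :=
  Lgr Lrot76 (Lpe (K28.f56225 IH) (Lpe (f56226 IH) (Lpr_gt (f547177 IH) (Lpn (LP (LK LD1_c2 LD2_c33 LD3_c3))))))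
theorem f46859 : Led Lsl_bt (LP (LK LD1_c4 LD2_c13 LD3_c32)) = (LP (LK LD1_c2 LD2_c4 LD3_c7)) :=
  Lre_b IH (LK LD1_c4 LD2_c13 LD3_c32) (LK LD1_c2 LD2_c4 LD3_c7) Lrfl Lrfl
theorem f182440 : Led Lsl_bt (LP (LK LD1_c4 LD2_c1 LD3_c25)) = (LP (LK LD1_c1 LD2_c57 LD3_c40)) :=
  Lre_b IH (LK LD1_c4 LD2_c1 LD3_c25) (LK LD1_c1 LD2_c57 LD3_c40) Lrfl Lrfl
theorem f182372 : Led Lsl_bt (LP (LK LD1_c1 LD2_c57 LD3_c40)) = (LP (LK LD1_c4 LD2_c1 LD3_c25)) :=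
  Lre_b IH (LK LD1_c1 LD2_c57 LD3_c40) (LK LD1_c4 LD2_c1 LD3_c25) Lrfl Lrfl
theorem f182428 : Led Lsl_cf (LP (LK LD1_c2 LD2_c0 LD3_c10)) = (LP (LK LD1_c4 LD2_c1 LD3_c25)) :=
  Lgr Lrot97 (Lpr_bt (K30.f182427 IH) (Lpr_ct (K9.f179883 IH) (Lpr_bt (K35.f182425 IH) (Lpr_ct (K9.f182358 IH) (Lpr_bt (f182372 IH) (Lpn (LP (LK LD1_c4 LD2_c1 LD3_c25))))))))
theorem f547952 : Led Lsl_gf (LP (LK LD1_c2 LD2_c18 LD3_c54)) = (LP (LK LD1_c2 LD2_c0 LD3_c10)) :=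
  Lgr Lrot126 (Lpe (K6.f132618 IH) (Lpe (f132812 IH) (Lpr_gt (f547948 IH) (Lpr_ct (K36.f212068 IH) (Lpe (f547181 IH) (Lpe (K28.f56204 IH) (Lpr_bt (f46859 IH) (Lpr_gt (K9.f182449 IH) (Lpe (f182440 IH) (Lpe (f182428 IH) (Lpn (LP (LK LD1_c2 LD2_c0 LD3_c10)))))))))))))
theorem f563665 : Led Lsl_gt (LP (LK LD1_c3 LD2_c5 LD3_c11)) = (LP (LK LD1_c2 LD2_c0 LD3_c10)) :=
  Lgr Lrot5 (Lpr_ft (f132799 IH) (Lpr_at (K6.f132777 IH) (Lpr_gf (f547952 IH) (Lpn (LP (LK LD1_c2 LD2_c0 LD3_c10))))))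
theorem f132841 : Led Lsl_ef (LP (LK LD1_c3 LD2_c5 LD3_c11)) = (LP (LK LD1_c4 LD2_c42 LD3_c56)) :=
  Lgr Lrot21 (Lpr_ft (f132799 IH) (Lpr_et (K35.f132782 IH) (Lpr_ft (K5.f132831 IH) (Lpr_et (K36.f132839 IH) (Lpr_ft (K6.f132840 IH) (Lpn (LP (LK LD1_c4 LD2_c42 LD3_c56))))))))
theorem f551601 : Led Lsl_ft (LP (LK LD1_c2 LD2_c13 LD3_c25)) = (LP (LK LD1_c4 LD2_c32 LD3_c52)) :=
  Lre_f IH (LK LD1_c2 LD2_c13 LD3_c25) (LK LD1_c4 LD2_c32 LD3_c52) Lrfl Lrfl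
theorem f268853 : Led Lsl_et (LP (LK LD1_c1 LD2_c19 LD3_c61)) = (LP (LK LD1_c2 LD2_c47 LD3_c18)) :=
  Lre_e IH (LK LD1_c1 LD2_c19 LD3_c61) (LK LD1_c2 LD2_c47 LD3_c18) Lrfl Lrfl
theorem f541471 : Led Lsl_ef (LP (LK LD1_c4 LD2_c35 LD3_c11)) = (LP (LK LD1_c2 LD2_c15 LD3_c51)) :=
  Lgr Lrot29 (Lpr_bt (K36.f541463 IH) (Lpqs (K36.f539982 IH) (Lpe (K35.f501202 IH) (Lpe (K35.f538296 IH) (Lpn (LP (LK LD1_c2 LD2_c15 LD3_c51)))))))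
theorem f26875 : Led Lsl_et (LP (LK LD1_c2 LD2_c17 LD3_c46)) = (LP (LK LD1_c1 LD2_c5 LD3_c48)) :=
  Lre_e IH (LK LD1_c2 LD2_c17 LD3_c46) (LK LD1_c1 LD2_c5 LD3_c48) Lrfl Lrfl
theorem f549484 : Led Lsl_gt (LP (LK LD1_c4 LD2_c37 LD3_c21)) = (LP (LK LD1_c4 LD2_c41 LD3_c23)) :=
  Lgr Lrot112 (Lpe (K36.f494438 IH) (Lpe (f541471 IH) (Lpe (K36.f26717 IH) (Lpq (K36.f541541 IH) (Lpe (K36.f494394 IH) (Lpr_dt (K8.f35229 IH) (Lpe (K8.f161435 IH) (Lpr_df (K8.f26844 IH) (Lpe (K8.f26867 IH) (Lpe (f26875 IH) (Lpr_dt (f26876 IH) (Lpn (LP (LK LD1_c4 LD2_c41 LD3_c23))))))))))))))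
theorem f227933 : Led Lsl_bt (LP (LK LD1_c2 LD2_c33 LD3_c45)) = (LP (LK LD1_c5 LD2_c13 LD3_c41)) :=
  Lre_b IH (LK LD1_c2 LD2_c33 LD3_c45) (LK LD1_c5 LD2_c13 LD3_c41) Lrfl Lrfl
theorem f69471 : Led Lsl_gt (LP (LK LD1_c4 LD2_c0 LD3_c43)) = (LP (LK LD1_c8 LD2_c2 LD3_c15)) :=
  Lre_g IH (LK LD1_c4 LD2_c0 LD3_c43) (LK LD1_c8 LD2_c2 LD3_c15) Lrfl Lrfl
theorem f421330 : Led Lsl_at (LP (LK LD1_c4 LD2_c20 LD3_c7)) = (LP (LK LD1_c8 LD2_c2 LD3_c15)) :=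
  Lgr Lrot26 (Lpe (K32.f402897 IH) (Lpr_gt (K32.f421326 IH) (Lpr_gt (f69471 IH) (Lpn (LP (LK LD1_c8 LD2_c2 LD3_c15))))))
theorem f421335 : Led Lsl_af (LP (LK LD1_c4 LD2_c20 LD3_c7)) = (LP (LK LD1_c8 LD2_c2 LD3_c15)) :=
  Lgr Lrot0 (Lpr_at (f421330 IH) (Lpn (LP (LK LD1_c8 LD2_c2 LD3_c15))))
theorem f421337 : Led Lsl_cf (LP (LK LD1_c8 LD2_c2 LD3_c15)) = (LP (LK LD1_c8 LD2_c2 LD3_c15)) :=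
  Lgr Lrot1 (Lpe (f421335 IH) (Lpr_ct (K32.f402909 IH) (Lpr_at (f421330 IH) (Lpn (LP (LK LD1_c8 LD2_c2 LD3_c15))))))
theorem f542371 : Led Lsl_bf (LP (LK LD1_c4 LD2_c1 LD3_c14)) = (LP (LK LD1_c8 LD2_c2 LD3_c15)) :=
  Lgr Lrot165 (Lpe (K12.f190343 IH) (Lpr_ct (K12.f47085 IH) (Lpr_gt (K13.f240526 IH) (Lpe (K12.f164688 IH) (Lpr_bt (f227933 IH) (Lpr_gt (K37.f542365 IH) (Lpe (K36.f69463 IH) (Lpr_ct (K32.f69465 IH) (Lpr_gt (f69471 IH) (Lpr_cf (f421337 IH) (Lpn (LP (LK LD1_c8 LD2_c2 LD3_c15)))))))))))))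
theorem f421382 : Led Lsl_gt (LP (LK LD1_c8 LD2_c2 LD3_c15)) = (LP (LK LD1_c8 LD2_c38 LD3_c55)) :=
  Lgr Lrot149 (Lpr_cf (f421337 IH) (Lpe (f69471 IH) (Lpe (K32.f421294 IH) (Lpr_ct (K32.f201594 IH) (Lpr_gf (K32.f308589 IH) (Lpe (K32.f308074 IH) (Lpr_bt (K36.f308420 IH) (Lpr_gf (K32.f421368 IH) (Lpe (K32.f421362 IH) (Lpe (K32.f421346 IH) (Lpn (LP (LK LD1_c8 LD2_c38 LD3_c55)))))))))))))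
theorem f495338 : Led Lsl_ft (LP (LK LD1_c2 LD2_c33 LD3_c46)) = K36.v1398 :=
  Lgr Lrot48 (Lpr_ff (K37.f495334 IH) (Lpn K36.v1398))
theorem f495331 : Led Lsl_af (LP (LK LD1_c1 LD2_c12 LD3_c21)) = K36.v1398 :=
  Lgr Lrot0 (Lpr_at (K36.f495330 IH) (Lpn K36.v1398))
def v1397 : LQ := Led Lsl_gf (LP (LK LD1_c1 LD2_c12 LD3_c21))
theorem f495329 : Led Lsl_gf (LP (LK LD1_c1 LD2_c12 LD3_c21)) = v1397 :=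
  Lrfl
theorem f495339 : Led Lsl_gt (LP (LK LD1_c2 LD2_c33 LD3_c46)) = v1397 :=
  Lgr Lrot5 (Lpr_ft (f495338 IH) (Lpe (f495331 IH) (Lpr_gf (f495329 IH) (Lpn v1397))))
theorem f542384 : (LP (LK LD1_c2 LD2_c0 LD3_c3)) = v1397 :=
  (Llr Lrot63 (Lpe (K16.f198666 IH) (Lpr_bt (K16.f211596 IH) (Lpe (K12.f227925 IH) (Lpr_bf (f542371 IH) (Lpe (f421337 IH) (Lpr_gt (f421382 IH) (Lpr_cf (K32.f421346 IH) (Lpr_bt (K32.f421362 IH) (Lpe (K32.f421368 IH) (Lpr_ct (K19.f308138 IH) (Lpr_gt (f495339 IH) (Lpn v1397))))))))))))).symm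
def v1396 : LQ := Led Lsl_gt (LP (LK LD1_c1 LD2_c12 LD3_c21))
theorem f495326 : Led Lsl_gt (LP (LK LD1_c1 LD2_c12 LD3_c21)) = v1396 :=
  Lrfl
theorem f542387 : (LP (LK LD1_c2 LD2_c15 LD3_c51)) = v1396 :=
  (Llr Lrot26 (Lpr_af (K35.f538305 IH) (Lpr_ff (K16.f272030 IH) (Lpqs (f542384 IH) (Lpe (f495329 IH) (Lpr_gt (f495326 IH) (Lpn v1396))))))).symm
theorem f308152 : Led Lsl_et (LP (LK LD1_c2 LD2_c30 LD3_c42)) = (LP (LK LD1_c1 LD2_c12 LD3_c21)) :=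
  Lre_e IH (LK LD1_c2 LD2_c30 LD3_c42) (LK LD1_c1 LD2_c12 LD3_c21) Lrfl Lrfl
theorem f26922 : Led Lsl_dt (LP (LK LD1_c1 LD2_c5 LD3_c50)) = (LP (LK LD1_c2 LD2_c17 LD3_c49)) :=
  Lre_d IH (LK LD1_c1 LD2_c5 LD3_c50) (LK LD1_c2 LD2_c17 LD3_c49) Lrfl Lrfl
theorem f26854 : Led Lsl_gt (LP (LK LD1_c2 LD2_c17 LD3_c49)) = (LP (LK LD1_c4 LD2_c41 LD3_c28)) :=
  Lre_g IH (LK LD1_c2 LD2_c17 LD3_c49) (LK LD1_c4 LD2_c41 LD3_c28) Lrfl Lrfl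
theorem f549492 : Led Lsl_dt (LP (LK LD1_c2 LD2_c30 LD3_c42)) = (LP (LK LD1_c4 LD2_c41 LD3_c28)) :=
  Lgr Lrot37 (Lpr_et (f308152 IH) (Lpr_gt (f495326 IH) (Lpq (f542387 IH) (Lpr_dt (K36.f494438 IH) (Lpr_gt (f549484 IH) (Lpe (f26876 IH) (Lpr_et (f26875 IH) (Lpr_gt (K8.f26867 IH) (Lpe (K8.f26843 IH) (Lpr_dt (f26922 IH) (Lpr_gt (f26854 IH) (Lpn (LP (LK LD1_c4 LD2_c41 LD3_c28))))))))))))))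
theorem f99916 : Led Lsl_at (LP (LK LD1_c4 LD2_c37 LD3_c6)) = (LP (LK LD1_c2 LD2_c17 LD3_c2)) :=
  Lgr Lrot100 (Lpr_af (K6.f99913 IH) (Lpn (LP (LK LD1_c2 LD2_c17 LD3_c2))))
theorem f99640 : Led Lsl_ft (LP (LK LD1_c3 LD2_c2 LD3_c5)) = (LP (LK LD1_c4 LD2_c37 LD3_c6)) :=
  Lgr Lrot4 (Lpe (K8.f73007 IH) (Lpr_ff (K4.f99629 IH) (Lpe (K6.f99639 IH) (Lpn (LP (LK LD1_c4 LD2_c37 LD3_c6))))))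
theorem f100221 : Led Lsl_gt (LP (LK LD1_c3 LD2_c2 LD3_c5)) = (LP (LK LD1_c4 LD2_c39 LD3_c59)) :=
  Lgr Lrot5 (Lpr_ft (f99640 IH) (Lpr_at (f99916 IH) (Lpe (K8.f23911 IH) (Lpn (LP (LK LD1_c4 LD2_c39 LD3_c59))))))
theorem f157152 : Led Lsl_gf (LP (LK LD1_c2 LD2_c15 LD3_c32)) = (LP (LK LD1_c1 LD2_c27 LD3_c13)) :=
  Lgr Lrot144 (Lpr_dt (K7.f141256 IH) (Lpr_gt (K6.f142118 IH) (Lpr_dt (K7.f56832 IH) (Lpe (K6.f56861 IH) (Lpe (K6.f139612 IH) (Lpe (K8.f65995 IH) (Lpr_df (K8.f157039 IH) (Lpe (f100221 IH) (Lpe (K8.f73007 IH) (Lpn (LP (LK LD1_c1 LD2_c27 LD3_c13))))))))))))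
theorem f73424 : Led Lsl_et (LP (LK LD1_c2 LD2_c17 LD3_c1)) = (LP (LK LD1_c1 LD2_c5 LD3_c26)) :=
  Lre_e IH (LK LD1_c2 LD2_c17 LD3_c1) (LK LD1_c1 LD2_c5 LD3_c26) Lrfl Lrfl
theorem f549504 : Led Lsl_gf (LP (LK LD1_c4 LD2_c39 LD3_c57)) = (LP (LK LD1_c4 LD2_c41 LD3_c28)) :=
  Lgr Lrot145 (Lpe (K35.f73425 IH) (Lpr_et (f73424 IH) (Lpr_gt (K4.f73421 IH) (Lpr_dt (K4.f72996 IH) (Lpe (f157152 IH) (Lpe (K6.f141300 IH) (Lpr_et (K35.f494428 IH) (Lpqs (K35.f538315 IH) (Lpqs (f542384 IH) (Lpe (f495329 IH) (Lpe (f308152 IH) (Lpr_dt (f549492 IH) (Lpn (LP (LK LD1_c4 LD2_c41 LD3_c28)))))))))))))))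
theorem f72974 : Led Lsl_et (LP (LK LD1_c2 LD2_c49 LD3_c7)) = (LP (LK LD1_c1 LD2_c20 LD3_c42)) :=
  Lre_e IH (LK LD1_c2 LD2_c49 LD3_c7) (LK LD1_c1 LD2_c20 LD3_c42) Lrfl Lrfl
theorem f172500 : Led Lsl_dt (LP (LK LD1_c0 LD2_c37 LD3_c0)) = (LP (LK LD1_c1 LD2_c20 LD3_c1)) :=
  Lre_d IH (LK LD1_c0 LD2_c37 LD3_c0) (LK LD1_c1 LD2_c20 LD3_c1) Lrfl Lrfl
theorem f549518 : Led Lsl_dt (LP (LK LD1_c2 LD2_c49 LD3_c7)) = (LP (LK LD1_c2 LD2_c47 LD3_c24)) :=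
  Lgr Lrot136 (Lpr_et (f72974 IH) (Lpe (K4.f73421 IH) (Lpe (f73424 IH) (Lpr_dt (K35.f73425 IH) (Lpr_gf (f549504 IH) (Lpe (f549492 IH) (Lpqs (f546908 IH) (Lpe (f495844 IH) (Lpe (K37.f412034 IH) (Lpr_dt (f172500 IH) (Lpe (K36.f172746 IH) (Lpn (LP (LK LD1_c2 LD2_c47 LD3_c24))))))))))))))
theorem f72989 : Led Lsl_at (LP (LK LD1_c1 LD2_c5 LD3_c27)) = (LP (LK LD1_c0 LD2_c29 LD3_c57)) :=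
  Lre_a IH (LK LD1_c1 LD2_c5 LD3_c27) (LK LD1_c0 LD2_c29 LD3_c57) Lrfl Lrfl
theorem f452278 : Led Lsl_gt (LP (LK LD1_c1 LD2_c20 LD3_c42)) = K11.v342 :=
  Lgr Lrot5 (Lpr_ft (K6.f72982 IH) (Lpr_at (f72989 IH) (Lpr_gf (K11.f452277 IH) (Lpn K11.v342))))
theorem f80212 : Led Lsl_et (LP (LK LD1_c0 LD2_c13 LD3_c2)) = (LP (LK LD1_c0 LD2_c29 LD3_c6)) :=
  Lre_e IH (LK LD1_c0 LD2_c13 LD3_c2) (LK LD1_c0 LD2_c29 LD3_c6) Lrfl Lrfl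
def v1227 : LQ := Led Lsl_et (LP (LK LD1_c1 LD2_c3 LD3_c45))
theorem f494147 : Led Lsl_et (LP (LK LD1_c1 LD2_c3 LD3_c45)) = v1227 :=
  Lrfl
theorem f494149 : Led Lsl_ef (LP (LK LD1_c1 LD2_c3 LD3_c45)) = v1227 :=
  Lgr Lrot88 (Lpr_et (f494147 IH) (Lpn v1227))
theorem f280290 : Led Lsl_at (LP (LK LD1_c2 LD2_c47 LD3_c17)) = (LP (LK LD1_c1 LD2_c20 LD3_c1)) :=
  Lre_a IH (LK LD1_c2 LD2_c47 LD3_c17) (LK LD1_c1 LD2_c20 LD3_c1) Lrfl Lrfl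
theorem f280291 : Led Lsl_ff (LP (LK LD1_c2 LD2_c47 LD3_c17)) = (LP (LK LD1_c4 LD2_c32 LD3_c12)) :=
  Lgr Lrot30 (Lpr_at (f280290 IH) (Lpr_ft (K16.f280288 IH) (Lpr_at (K16.f280287 IH) (Lpn (LP (LK LD1_c4 LD2_c32 LD3_c12))))))
theorem f281966 : Led Lsl_gf (LP (LK LD1_c2 LD2_c47 LD3_c24)) = (LP (LK LD1_c4 LD2_c32 LD3_c12)) :=
  Lgr Lrot47 (Lpr_gt (K36.f172746 IH) (Lpe (f280290 IH) (Lpr_ff (f280291 IH) (Lpn (LP (LK LD1_c4 LD2_c32 LD3_c12))))))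
theorem f549527 : v1227 = (LP (LK LD1_c2 LD2_c13 LD3_c9)) :=
  (Llr Lrot17 (Lpe (f494149 IH) (Lpe (K31.f174809 IH) (Lpe (f80212 IH) (Lpr_dt (K5.f79956 IH) (Lpe (K7.f58856 IH) (Lpqs (K35.f537964 IH) (Lpe (K35.f453548 IH) (Lpq (K35.f537794 IH) (Lpe (f452278 IH) (Lpe (f72974 IH) (Lpr_dt (f549518 IH) (Lpr_gf (f281966 IH) (Lpe (K16.f181766 IH) (Lpn (LP (LK LD1_c2 LD2_c13 LD3_c9))))))))))))))))).symm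
theorem f494150 : Led Lsl_et (LP (LK LD1_c4 LD2_c32 LD3_c61)) = (LP (LK LD1_c2 LD2_c13 LD3_c28)) :=
  Lre_e IH (LK LD1_c4 LD2_c32 LD3_c61) (LK LD1_c2 LD2_c13 LD3_c28) Lrfl Lrfl
theorem f549530 : Led Lsl_ft (LP (LK LD1_c2 LD2_c47 LD3_c18)) = (LP (LK LD1_c4 LD2_c32 LD3_c61)) :=
  Lgr Lrot86 (Lpe (f268853 IH) (Lpr_ff (K20.f280511 IH) (Lpq (f549527 IH) (Lpe (f494147 IH) (Lpe (K37.f494134 IH) (Lpe (f494150 IH) (Lpn (LP (LK LD1_c4 LD2_c32 LD3_c61)))))))))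
theorem f268866 : Led Lsl_dt (LP (LK LD1_c2 LD2_c47 LD3_c18)) = (LP (LK LD1_c5 LD2_c42 LD3_c37)) :=
  Lre_d IH (LK LD1_c2 LD2_c47 LD3_c18) (LK LD1_c5 LD2_c42 LD3_c37) Lrfl Lrfl
theorem f549538 : Led Lsl_ct (LP (LK LD1_c5 LD2_c42 LD3_c37)) = (LP (LK LD1_c11 LD2_c15 LD3_c27)) :=
  Lre_c IH (LK LD1_c5 LD2_c42 LD3_c37) (LK LD1_c11 LD2_c15 LD3_c27) Lrfl Lrfl
theorem f540093 : Led Lsl_at (LP (LK LD1_c5 LD2_c43 LD3_c1)) = (LP (LK LD1_c11 LD2_c15 LD3_c27)) :=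
  Lre_a IH (LK LD1_c5 LD2_c43 LD3_c1) (LK LD1_c11 LD2_c15 LD3_c27) Lrfl Lrfl
theorem f540094 : Led Lsl_df (LP (LK LD1_c12 LD2_c32 LD3_c60)) = (LP (LK LD1_c11 LD2_c15 LD3_c27)) :=
  Lgr Lrot18 (Lpr_at (K5.f127664 IH) (Lpr_dt (K36.f540091 IH) (Lpr_at (f540093 IH) (Lpn (LP (LK LD1_c11 LD2_c15 LD3_c27))))))
theorem f546726 : Led Lsl_at (LP (LK LD1_c4 LD2_c32 LD3_c61)) = (LP (LK LD1_c2 LD2_c13 LD3_c31)) :=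
  Lre_a IH (LK LD1_c4 LD2_c32 LD3_c61) (LK LD1_c2 LD2_c13 LD3_c31) Lrfl Lrfl
theorem f538141 : Led Lsl_ct (LP (LK LD1_c4 LD2_c33 LD3_c1)) = (LP (LK LD1_c2 LD2_c13 LD3_c31)) :=
  Lre_c IH (LK LD1_c4 LD2_c33 LD3_c1) (LK LD1_c2 LD2_c13 LD3_c31) Lrfl Lrfl
theorem f549539 : Led Lsl_dt (LP (LK LD1_c3 LD2_c36 LD3_c45)) = (LP (LK LD1_c4 LD2_c33 LD3_c1)) :=
  Lgr Lrot120 (Lpr_cf (K5.f17407 IH) (Lpe (K5.f93026 IH) (Lpe (K5.f127666 IH) (Lpr_df (f540094 IH) (Lpe (f549538 IH) (Lpe (f268866 IH) (Lpr_ft (f549530 IH) (Lpr_at (f546726 IH) (Lpe (f538141 IH) (Lpn (LP (LK LD1_c4 LD2_c33 LD3_c1))))))))))))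
theorem f94891 : Led Lsl_dt (LP (LK LD1_c7 LD2_c1 LD3_c51)) = (LP (LK LD1_c13 LD2_c20 LD3_c8)) :=
  Lre_d IH (LK LD1_c7 LD2_c1 LD3_c51) (LK LD1_c13 LD2_c20 LD3_c8) Lrfl Lrfl
theorem f94892 : Led Lsl_et (LP (LK LD1_c3 LD2_c30 LD3_c3)) = (LP (LK LD1_c7 LD2_c1 LD3_c51)) :=
  Lre_e IH (LK LD1_c3 LD2_c30 LD3_c3) (LK LD1_c7 LD2_c1 LD3_c51) Lrfl Lrfl
theorem f94893 : Led Lsl_dt (LP (LK LD1_c13 LD2_c10 LD3_c47)) = (LP (LK LD1_c6 LD2_c56 LD3_c30)) :=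
  Lre_d IH (LK LD1_c13 LD2_c10 LD3_c47) (LK LD1_c6 LD2_c56 LD3_c30) Lrfl Lrfl
theorem f94895 : Led Lsl_df (LP (LK LD1_c3 LD2_c30 LD3_c3)) = (LP (LK LD1_c3 LD2_c27 LD3_c16)) :=
  Lgr Lrot70 (Lpr_et (f94892 IH) (Lpr_dt (f94891 IH) (Lpr_et (K4.f94849 IH) (Lpr_dt (f94893 IH) (Lpr_et (K4.f94894 IH) (Lpn (LP (LK LD1_c3 LD2_c27 LD3_c16))))))))
theorem f549551 : Led Lsl_gf (LP (LK LD1_c7 LD2_c7 LD3_c6)) = (LP (LK LD1_c4 LD2_c33 LD3_c1)) :=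
  Lgr Lrot143 (Lpe (K36.f441961 IH) (Lpe (K4.f109479 IH) (Lpr_df (f94895 IH) (Lpe (K36.f428978 IH) (Lpr_df (K36.f428975 IH) (Lpr_gf (K3.f97869 IH) (Lpe (K3.f97864 IH) (Lpr_gt (K5.f127900 IH) (Lpr_dt (f549539 IH) (Lpn (LP (LK LD1_c4 LD2_c33 LD3_c1))))))))))))
theorem f117634 : Led Lsl_dt (LP (LK LD1_c3 LD2_c9 LD3_c56)) = (LP (LK LD1_c6 LD2_c24 LD3_c35)) :=
  Lre_d IH (LK LD1_c3 LD2_c9 LD3_c56) (LK LD1_c6 LD2_c24 LD3_c35) Lrfl Lrfl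
theorem f549559 : Led Lsl_et (LP (LK LD1_c2 LD2_c13 LD3_c29)) = (LP (LK LD1_c4 LD2_c33 LD3_c1)) :=
  Lre_e IH (LK LD1_c2 LD2_c13 LD3_c29) (LK LD1_c4 LD2_c33 LD3_c1) Lrfl Lrfl
theorem f181555 : Led Lsl_dt (LP (LK LD1_c2 LD2_c13 LD3_c29)) = (LP (LK LD1_c4 LD2_c33 LD3_c0)) :=
  Lre_d IH (LK LD1_c2 LD2_c13 LD3_c29) (LK LD1_c4 LD2_c33 LD3_c0) Lrfl Lrfl
theorem f549560 : Led Lsl_gt (LP (LK LD1_c6 LD2_c24 LD3_c35)) = (LP (LK LD1_c4 LD2_c33 LD3_c0)) :=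
  Lgr Lrot112 (Lpe (f117634 IH) (Lpr_et (f117609 IH) (Lpe (K11.f205707 IH) (Lpr_ef (K36.f540430 IH) (Lpr_dt (K8.f17909 IH) (Lpr_gf (K3.f109485 IH) (Lpr_df (K36.f441961 IH) (Lpr_gf (f549551 IH) (Lpe (f549559 IH) (Lpr_dt (f181555 IH) (Lpn (LP (LK LD1_c4 LD2_c33 LD3_c0)))))))))))))
theorem f549562 : Led Lsl_at (LP (LK LD1_c9 LD2_c3 LD3_c7)) = (LP (LK LD1_c4 LD2_c33 LD3_c0)) :=
  Lre_a IH (LK LD1_c9 LD2_c3 LD3_c7) (LK LD1_c4 LD2_c33 LD3_c0) Lrfl Lrfl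
theorem f549563 : Led Lsl_ft (LP (LK LD1_c4 LD2_c32 LD3_c56)) = (LP (LK LD1_c9 LD2_c3 LD3_c7)) :=
  Lre_f IH (LK LD1_c4 LD2_c32 LD3_c56) (LK LD1_c9 LD2_c3 LD3_c7) Lrfl Lrfl
theorem f549564 : Led Lsl_gf (LP (LK LD1_c6 LD2_c24 LD3_c35)) = (LP (LK LD1_c4 LD2_c32 LD3_c56)) :=
  Lgr Lrot47 (Lpr_gt (f549560 IH) (Lpe (f549562 IH) (Lpe (f549563 IH) (Lpn (LP (LK LD1_c4 LD2_c32 LD3_c56))))))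
theorem f112479 : Led Lsl_dt (LP (LK LD1_c1 LD2_c31 LD3_c8)) = (LP (LK LD1_c3 LD2_c9 LD3_c61)) :=
  Lre_d IH (LK LD1_c1 LD2_c31 LD3_c8) (LK LD1_c3 LD2_c9 LD3_c61) Lrfl Lrfl
theorem f549571 : Led Lsl_dt (LP (LK LD1_c2 LD2_c13 LD3_c26)) = (LP (LK LD1_c4 LD2_c32 LD3_c56)) :=
  Lre_d IH (LK LD1_c2 LD2_c13 LD3_c26) (LK LD1_c4 LD2_c32 LD3_c56) Lrfl Lrfl
theorem f549572 : Led Lsl_gt (LP (LK LD1_c4 LD2_c32 LD3_c54)) = (LP (LK LD1_c2 LD2_c13 LD3_c26)) :=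
  Lre_g IH (LK LD1_c4 LD2_c32 LD3_c54) (LK LD1_c2 LD2_c13 LD3_c26) Lrfl Lrfl
theorem f549577 : Led Lsl_et (LP (LK LD1_c2 LD2_c15 LD3_c40)) = (LP (LK LD1_c4 LD2_c32 LD3_c54)) :=
  Lgr Lrot121 (Lpr_dt (K7.f79958 IH) (Lpe (K36.f542070 IH) (Lpe (f112479 IH) (Lpr_et (K36.f112478 IH) (Lpe (K4.f69211 IH) (Lpe (f117609 IH) (Lpr_dt (f117634 IH) (Lpr_gf (f549564 IH) (Lpe (f549571 IH) (Lpe (f549572 IH) (Lpn (LP (LK LD1_c4 LD2_c32 LD3_c54)))))))))))))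
def v1895 : LQ := Led Lsl_gf (LP (LK LD1_c1 LD2_c31 LD3_c8))
theorem f506292 : Led Lsl_gf (LP (LK LD1_c1 LD2_c31 LD3_c8)) = v1895 :=
  Lrfl
theorem f206864 : Led Lsl_ft (LP (LK LD1_c2 LD2_c17 LD3_c0)) = (LP (LK LD1_c2 LD2_c49 LD3_c5)) :=
  Lgr Lrot48 (Lpr_ff (K11.f206860 IH) (Lpn (LP (LK LD1_c2 LD2_c49 LD3_c5))))
theorem f535722 : Led Lsl_at (LP (LK LD1_c2 LD2_c49 LD3_c5)) = K35.v2808 :=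
  Lgr Lrot33 (Lpe (f206864 IH) (Lpr_dt (K7.f79949 IH) (Lpr_ct (K7.f80112 IH) (Lpr_dt (K11.f206849 IH) (Lpr_ct (K11.f206910 IH) (Lpr_dt (K11.f80054 IH) (Lpr_ct (K7.f93905 IH) (Lpr_dt (K11.f452280 IH) (Lpr_ct (K35.f535718 IH) (Lpn K35.v2808))))))))))
theorem f535723 : Led Lsl_gt (LP (LK LD1_c3 LD2_c4 LD3_c56)) = K35.v2808 :=
  Lgr Lrot46 (Lpe (K8.f132511 IH) (Lpr_ft (f206864 IH) (Lpr_at (f535722 IH) (Lpn K35.v2808))))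
theorem f537785 : (LP (LK LD1_c3 LD2_c4 LD3_c56)) = v1895 :=
  Lefun (Lecon (Lfl_gt (f535723 IH)) (K35.f537465 IH)) (f506292 IH)
theorem f424066 : Led Lsl_ft (LP (LK LD1_c4 LD2_c22 LD3_c51)) = (LP (LK LD1_c2 LD2_c47 LD3_c19)) :=
  Lgr Lrot54 (Lpe (K31.f398497 IH) (Lpr_ff (K31.f423857 IH) (Lpe (K31.f172851 IH) (Lpn (LP (LK LD1_c2 LD2_c47 LD3_c19))))))
theorem f281926 : Led Lsl_et (LP (LK LD1_c8 LD2_c43 LD3_c34)) = (LP (LK LD1_c4 LD2_c22 LD3_c51)) :=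
  Lre_e IH (LK LD1_c8 LD2_c43 LD3_c34) (LK LD1_c4 LD2_c22 LD3_c51) Lrfl Lrfl
theorem f46849 : Led Lsl_at (LP (LK LD1_c2 LD2_c4 LD3_c5)) = (LP (LK LD1_c4 LD2_c13 LD3_c30)) :=
  Lre_a IH (LK LD1_c2 LD2_c4 LD3_c5) (LK LD1_c4 LD2_c13 LD3_c30) Lrfl Lrfl
theorem f56191 : Led Lsl_at (LP (LK LD1_c2 LD2_c16 LD3_c55)) = (LP (LK LD1_c1 LD2_c5 LD3_c23)) :=
  Lre_a IH (LK LD1_c2 LD2_c16 LD3_c55) (LK LD1_c1 LD2_c5 LD3_c23) Lrfl Lrfl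
theorem f56192 : Led Lsl_ct (LP (LK LD1_c4 LD2_c13 LD3_c30)) = (LP (LK LD1_c2 LD2_c16 LD3_c55)) :=
  Lgr Lrot111 (Lpe (f46849 IH) (Lpr_cf (K28.f56185 IH) (Lpe (f56191 IH) (Lpn (LP (LK LD1_c2 LD2_c16 LD3_c55))))))
theorem f204923 : Led Lsl_bt (LP (LK LD1_c2 LD2_c29 LD3_c53)) = (LP (LK LD1_c5 LD2_c5 LD3_c7)) :=
  Lre_b IH (LK LD1_c2 LD2_c29 LD3_c53) (LK LD1_c5 LD2_c5 LD3_c7) Lrfl Lrfl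
theorem f547185 : Led Lsl_gf (LP (LK LD1_c4 LD2_c4 LD3_c54)) = (LP (LK LD1_c5 LD2_c5 LD3_c7)) :=
  Lgr Lrot124 (Lpe (K2.f46843 IH) (Lpr_ct (f56192 IH) (Lpr_gt (f547177 IH) (Lpe (K36.f212068 IH) (Lpe (K36.f212013 IH) (Lpe (K10.f189869 IH) (Lpr_ct (K10.f28789 IH) (Lpr_gt (K10.f192634 IH) (Lpe (K13.f204926 IH) (Lpr_bt (f204923 IH) (Lpn (LP (LK LD1_c5 LD2_c5 LD3_c7)))))))))))))
theorem f73394 : Led Lsl_dt (LP (LK LD1_c2 LD2_c49 LD3_c37)) = (LP (LK LD1_c5 LD2_c47 LD3_c19)) :=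
  Lre_d IH (LK LD1_c2 LD2_c49 LD3_c37) (LK LD1_c5 LD2_c47 LD3_c19) Lrfl Lrfl
theorem f112559 : Led Lsl_et (LP (LK LD1_c1 LD2_c55 LD3_c43)) = (LP (LK LD1_c3 LD2_c57 LD3_c56)) :=
  Lre_e IH (LK LD1_c1 LD2_c55 LD3_c43) (LK LD1_c3 LD2_c57 LD3_c56) Lrfl Lrfl
theorem f210675 : Led Lsl_gt (LP (LK LD1_c0 LD2_c38 LD3_c11)) = (LP (LK LD1_c1 LD2_c4 LD3_c29)) :=
  Lgr Lrot149 (Lpr_cf (K11.f210625 IH) (Lpe (K10.f27196 IH) (Lpe (K10.f27229 IH) (Lpr_ct (K10.f27261 IH) (Lpr_gf (K10.f198264 IH) (Lpe (K10.f24559 IH) (Lpr_bt (K10.f24431 IH) (Lpe (K9.f177140 IH) (Lpr_bf (K7.f20318 IH) (Lpr_ct (K7.f20326 IH) (Lpn (LP (LK LD1_c1 LD2_c4 LD3_c29)))))))))))))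
theorem f210666 : Led Lsl_ct (LP (LK LD1_c1 LD2_c22 LD3_c25)) = (LP (LK LD1_c2 LD2_c52 LD3_c46)) :=
  Lre_c IH (LK LD1_c1 LD2_c22 LD3_c25) (LK LD1_c2 LD2_c52 LD3_c46) Lrfl Lrfl
theorem f100442 : Led Lsl_et (LP (LK LD1_c3 LD2_c57 LD3_c56)) = (LP (LK LD1_c1 LD2_c55 LD3_c43)) :=
  Lre_e IH (LK LD1_c3 LD2_c57 LD3_c56) (LK LD1_c1 LD2_c55 LD3_c43) Lrfl Lrfl
theorem f538215 : Led Lsl_cf (LP (LK LD1_c3 LD2_c57 LD3_c56)) = (LP (LK LD1_c4 LD2_c35 LD3_c58)) :=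
  Lgr Lrot39 (Lpr_et (f100442 IH) (Lpe (K28.f148979 IH) (Lpr_et (K35.f538211 IH) (Lpn (LP (LK LD1_c4 LD2_c35 LD3_c58))))))
theorem f541435 : Led Lsl_gf (LP (LK LD1_c2 LD2_c52 LD3_c46)) = (LP (LK LD1_c3 LD2_c57 LD3_c56)) :=
  Lgr Lrot129 (Lpe (f210666 IH) (Lpr_bt (K36.f210677 IH) (Lpr_gt (f210675 IH) (Lpe (K7.f20329 IH) (Lpr_ct (K7.f20330 IH) (Lpq (K37.f539936 IH) (Lpr_gt (K36.f541427 IH) (Lpe (K37.f181541 IH) (Lpr_bt (K37.f181539 IH) (Lpqs (K36.f541365 IH) (Lpe (K36.f500417 IH) (Lpe (f538215 IH) (Lpn (LP (LK LD1_c3 LD2_c57 LD3_c56)))))))))))))))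
theorem f204932 : Led Lsl_bt (LP (LK LD1_c5 LD2_c5 LD3_c7)) = (LP (LK LD1_c2 LD2_c29 LD3_c53)) :=
  Lre_b IH (LK LD1_c5 LD2_c5 LD3_c7) (LK LD1_c2 LD2_c29 LD3_c53) Lrfl Lrfl
theorem f196245 : Led Lsl_bt (LP (LK LD1_c5 LD2_c0 LD3_c30)) = (LP (LK LD1_c9 LD2_c51 LD3_c20)) :=
  Lre_b IH (LK LD1_c5 LD2_c0 LD3_c30) (LK LD1_c9 LD2_c51 LD3_c20) Lrfl Lrfl
theorem f204936 : Led Lsl_ef (LP (LK LD1_c5 LD2_c5 LD3_c7)) = (LP (LK LD1_c9 LD2_c51 LD3_c20)) :=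
  Lgr Lrot29 (Lpr_bt (f204932 IH) (Lpr_et (K12.f204928 IH) (Lpr_bt (f196245 IH) (Lpn (LP (LK LD1_c9 LD2_c51 LD3_c20))))))
theorem f101047 : Led Lsl_bt (LP (LK LD1_c8 LD2_c51 LD3_c43)) = (LP (LK LD1_c4 LD2_c26 LD3_c59)) :=
  Lre_b IH (LK LD1_c8 LD2_c51 LD3_c43) (LK LD1_c4 LD2_c26 LD3_c59) Lrfl Lrfl
theorem f198008 : Led Lsl_df (LP (LK LD1_c8 LD2_c51 LD3_c43)) = (LP (LK LD1_c9 LD2_c51 LD3_c20)) :=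
  Lgr Lrot12 (Lpr_bt (f101047 IH) (Lpr_dt (K12.f198006 IH) (Lpr_bt (f196245 IH) (Lpn (LP (LK LD1_c9 LD2_c51 LD3_c20))))))
theorem f547189 : Led Lsl_gt (LP (LK LD1_c5 LD2_c52 LD3_c58)) = (LP (LK LD1_c8 LD2_c51 LD3_c43)) :=
  Lgr Lrot139 (Lpe (K36.f210684 IH) (Lpr_gf (f541435 IH) (Lpe (f112559 IH) (Lpr_dt (K5.f100437 IH) (Lpr_gf (K5.f112541 IH) (Lpe (f73394 IH) (Lpe (K2.f73381 IH) (Lpr_gf (f547185 IH) (Lpr_ef (f204936 IH) (Lpe (f198008 IH) (Lpn (LP (LK LD1_c8 LD2_c51 LD3_c43)))))))))))))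
theorem f538223 : Led Lsl_ct (LP (LK LD1_c3 LD2_c57 LD3_c56)) = (LP (LK LD1_c4 LD2_c35 LD3_c58)) :=
  Lgr Lrot15 (Lpe (f112559 IH) (Lpe (K7.f148966 IH) (Lpr_ef (K35.f538219 IH) (Lpn (LP (LK LD1_c4 LD2_c35 LD3_c58))))))
theorem f71129 : Led Lsl_dt (LP (LK LD1_c2 LD2_c15 LD3_c10)) = (LP (LK LD1_c4 LD2_c35 LD3_c59)) :=
  Lre_d IH (LK LD1_c2 LD2_c15 LD3_c10) (LK LD1_c4 LD2_c35 LD3_c59) Lrfl Lrfl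
theorem f198019 : Led Lsl_bt (LP (LK LD1_c4 LD2_c26 LD3_c59)) = (LP (LK LD1_c8 LD2_c51 LD3_c43)) :=
  Lre_b IH (LK LD1_c4 LD2_c26 LD3_c59) (LK LD1_c8 LD2_c51 LD3_c43) Lrfl Lrfl
theorem f175711 : Led Lsl_bt (LP (LK LD1_c9 LD2_c51 LD3_c20)) = (LP (LK LD1_c5 LD2_c0 LD3_c30)) :=
  Lre_b IH (LK LD1_c9 LD2_c51 LD3_c20) (LK LD1_c5 LD2_c0 LD3_c30) Lrfl Lrfl
theorem f198020 : Led Lsl_dt (LP (LK LD1_c8 LD2_c51 LD3_c43)) = (LP (LK LD1_c9 LD2_c51 LD3_c20)) :=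
  Lgr Lrot79 (Lpe (f198019 IH) (Lpr_df (K12.f198010 IH) (Lpe (f175711 IH) (Lpn (LP (LK LD1_c9 LD2_c51 LD3_c20))))))
theorem f175705 : Led Lsl_ct (LP (LK LD1_c5 LD2_c0 LD3_c31)) = (LP (LK LD1_c9 LD2_c51 LD3_c20)) :=
  Lre_c IH (LK LD1_c5 LD2_c0 LD3_c31) (LK LD1_c9 LD2_c51 LD3_c20) Lrfl Lrfl
theorem f175685 : Led Lsl_bt (LP (LK LD1_c1 LD2_c24 LD3_c40)) = (LP (LK LD1_c2 LD2_c57 LD3_c58)) :=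
  Lre_b IH (LK LD1_c1 LD2_c24 LD3_c40) (LK LD1_c2 LD2_c57 LD3_c58) Lrfl Lrfl
theorem f175698 : Led Lsl_bt (LP (LK LD1_c5 LD2_c0 LD3_c31)) = (LP (LK LD1_c2 LD2_c27 LD3_c60)) :=
  Lre_b IH (LK LD1_c5 LD2_c0 LD3_c31) (LK LD1_c2 LD2_c27 LD3_c60) Lrfl Lrfl
theorem f175699 : Led Lsl_dt (LP (LK LD1_c2 LD2_c57 LD3_c58)) = (LP (LK LD1_c5 LD2_c0 LD3_c31)) :=
  Lgr Lrot79 (Lpe (f175685 IH) (Lpr_df (K10.f175693 IH) (Lpe (f175698 IH) (Lpn (LP (LK LD1_c5 LD2_c0 LD3_c31))))))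
theorem f547191 : Led Lsl_gt (LP (LK LD1_c4 LD2_c35 LD3_c59)) = (LP (LK LD1_c2 LD2_c57 LD3_c58)) :=
  Lgr Lrot49 (Lpe (f71129 IH) (Lpe (K35.f37859 IH) (Lpe (f538223 IH) (Lpe (f541435 IH) (Lpr_dt (K36.f210684 IH) (Lpr_gt (f547189 IH) (Lpr_dt (f198020 IH) (Lpe (f175705 IH) (Lpe (f175699 IH) (Lpn (LP (LK LD1_c2 LD2_c57 LD3_c58))))))))))))
theorem f175706 : Led Lsl_df (LP (LK LD1_c2 LD2_c57 LD3_c58)) = (LP (LK LD1_c5 LD2_c0 LD3_c31)) :=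
  Lgr Lrot38 (Lpr_dt (f175699 IH) (Lpn (LP (LK LD1_c5 LD2_c0 LD3_c31))))
theorem f185144 : Led Lsl_bt (LP (LK LD1_c2 LD2_c33 LD3_c2)) = (LP (LK LD1_c1 LD2_c13 LD3_c28)) :=
  Lre_b IH (LK LD1_c2 LD2_c33 LD3_c2) (LK LD1_c1 LD2_c13 LD3_c28) Lrfl Lrfl
theorem f26042 : Led Lsl_bt (LP (LK LD1_c2 LD2_c27 LD3_c60)) = (LP (LK LD1_c5 LD2_c0 LD3_c31)) :=
  Lre_b IH (LK LD1_c2 LD2_c27 LD3_c60) (LK LD1_c5 LD2_c0 LD3_c31) Lrfl Lrfl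
theorem f185145 : Led Lsl_ef (LP (LK LD1_c2 LD2_c33 LD3_c2)) = (LP (LK LD1_c5 LD2_c0 LD3_c31)) :=
  Lgr Lrot29 (Lpr_bt (f185144 IH) (Lpr_et (K10.f185142 IH) (Lpr_bt (f26042 IH) (Lpn (LP (LK LD1_c5 LD2_c0 LD3_c31))))))
theorem f547193 : Led Lsl_gf (LP (LK LD1_c4 LD2_c42 LD3_c58)) = (LP (LK LD1_c2 LD2_c33 LD3_c2)) :=
  Lgr Lrot141 (Lpe (f436708 IH) (Lpr_dt (K35.f59112 IH) (Lpe (K35.f538207 IH) (Lpe (K8.f148988 IH) (Lpr_et (K35.f538211 IH) (Lpr_gt (K35.f37859 IH) (Lpr_dt (f71129 IH) (Lpr_gt (f547191 IH) (Lpr_df (f175706 IH) (Lpe (f185145 IH) (Lpn (LP (LK LD1_c2 LD2_c33 LD3_c2)))))))))))))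
theorem f71820 : Led Lsl_dt (LP (LK LD1_c5 LD2_c53 LD3_c54)) = (LP (LK LD1_c2 LD2_c53 LD3_c18)) :=
  Lre_d IH (LK LD1_c5 LD2_c53 LD3_c54) (LK LD1_c2 LD2_c53 LD3_c18) Lrfl Lrfl
theorem f204924 : Led Lsl_ct (LP (LK LD1_c5 LD2_c5 LD3_c7)) = (LP (LK LD1_c2 LD2_c33 LD3_c2)) :=
  Lgr Lrot83 (Lpe (f204923 IH) (Lpr_cf (K12.f204921 IH) (Lpe (K10.f192649 IH) (Lpe (K10.f185137 IH) (Lpe (f185144 IH) (Lpn (LP (LK LD1_c2 LD2_c33 LD3_c2))))))))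
theorem f547195 : Led Lsl_gf (LP (LK LD1_c5 LD2_c53 LD3_c54)) = (LP (LK LD1_c8 LD2_c10 LD3_c35)) :=
  Lgr Lrot143 (Lpr_dt (f71820 IH) (Lpe (f71821 IH) (Lpe (K2.f71805 IH) (Lpe (f71126 IH) (Lpe (f436704 IH) (Lpr_gf (f547193 IH) (Lpe (f204924 IH) (Lpe (f547185 IH) (Lpr_dt (K2.f46842 IH) (Lpn (LP (LK LD1_c8 LD2_c10 LD3_c35))))))))))))
theorem f547201 : Led Lsl_ef (LP (LK LD1_c2 LD2_c15 LD3_c15)) = (LP (LK LD1_c2 LD2_c52 LD3_c46)) :=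
  Lgr Lrot17 (Lpr_gf (K6.f71048 IH) (Lpe (K2.f71043 IH) (Lpr_dt (K37.f71057 IH) (Lpr_gf (f547195 IH) (Lpe (K2.f46842 IH) (Lpr_gf (f547185 IH) (Lpr_ef (f204936 IH) (Lpe (f198008 IH) (Lpe (f547189 IH) (Lpe (K36.f210684 IH) (Lpn (LP (LK LD1_c2 LD2_c52 LD3_c46)))))))))))))
def v1630 : LQ := Led Lsl_et (LP (LK LD1_c1 LD2_c22 LD3_c48))
theorem f500436 : Led Lsl_et (LP (LK LD1_c1 LD2_c22 LD3_c48)) = v1630 :=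
  Lrfl
theorem f547211 : Led Lsl_ft v1630 = (LP (LK LD1_c4 LD2_c32 LD3_c32)) :=
  Lgr Lrot86 (Lpe (f500436 IH) (Lpr_ff (K8.f163292 IH) (Lpr_ef (f547201 IH) (Lpr_ff (K36.f449407 IH) (Lpr_ef (K37.f542311 IH) (Lpn (LP (LK LD1_c4 LD2_c32 LD3_c32))))))))
theorem f500438 : Led Lsl_ef (LP (LK LD1_c1 LD2_c22 LD3_c48)) = v1630 :=
  Lgr Lrot88 (Lpr_et (f500436 IH) (Lpn v1630))
def v1598 : LQ := Led Lsl_et (LP (LK LD1_c1 LD2_c22 LD3_c13))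
theorem f500286 : Led Lsl_et (LP (LK LD1_c1 LD2_c22 LD3_c13)) = v1598 :=
  Lrfl
theorem f500439 : Led Lsl_ct v1598 = v1630 :=
  Lgr Lrot15 (Lpe (f500286 IH) (Lpe (K8.f138309 IH) (Lpr_ef (f500438 IH) (Lpn v1630))))
theorem f500288 : Led Lsl_ef (LP (LK LD1_c1 LD2_c22 LD3_c13)) = v1598 :=
  Lgr Lrot88 (Lpr_et (f500286 IH) (Lpn v1598))
theorem f152026 : Led Lsl_bt (LP (LK LD1_c1 LD2_c22 LD3_c13)) = (LP (LK LD1_c0 LD2_c38 LD3_c5)) :=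
  Lre_b IH (LK LD1_c1 LD2_c22 LD3_c13) (LK LD1_c0 LD2_c38 LD3_c5) Lrfl Lrfl
def v426 : LQ := Led Lsl_et (LP (LK LD1_c0 LD2_c38 LD3_c5))
theorem f452773 : Led Lsl_et (LP (LK LD1_c0 LD2_c38 LD3_c5)) = v426 :=
  Lrfl
theorem f500289 : Led Lsl_bt v426 = v1598 :=
  Lgr Lrot119 (Lpe (f452773 IH) (Lpe (f152026 IH) (Lpr_ef (f500288 IH) (Lpn v1598))))
theorem f194012 : Led Lsl_bt (LP (LK LD1_c1 LD2_c19 LD3_c33)) = (LP (LK LD1_c2 LD2_c46 LD3_c23)) :=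
  Lre_b IH (LK LD1_c1 LD2_c19 LD3_c33) (LK LD1_c2 LD2_c46 LD3_c23) Lrfl Lrfl
def v465 : LQ := Led Lsl_ct (LP (LK LD1_c0 LD2_c41 LD3_c3))
theorem f453478 : Led Lsl_ct (LP (LK LD1_c0 LD2_c41 LD3_c3)) = v465 :=
  Lrfl
theorem f194009 : Led Lsl_cf (LP (LK LD1_c1 LD2_c28 LD3_c54)) = (LP (LK LD1_c1 LD2_c19 LD3_c33)) :=
  Lgr Lrot166 (Lpr_gt (K35.f193998 IH) (Lpr_dt (K15.f193779 IH) (Lpr_gt (K10.f60907 IH) (Lpe (K1.f60901 IH) (Lpe (K17.f60921 IH) (Lpe (K17.f73149 IH) (Lpr_gf (K9.f172276 IH) (Lpe (K9.f172152 IH) (Lpe (K35.f172280 IH) (Lpn (LP (LK LD1_c1 LD2_c19 LD3_c33))))))))))))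
theorem f453480 : Led Lsl_ef (LP (LK LD1_c1 LD2_c19 LD3_c33)) = v465 :=
  Lgr Lrot28 (Lpe (f194009 IH) (Lpr_et (K10.f186463 IH) (Lpr_ct (f453478 IH) (Lpn v465))))
def v452 : LQ := Led Lsl_et (LP (LK LD1_c0 LD2_c39 LD3_c26))
theorem f452932 : Led Lsl_et (LP (LK LD1_c0 LD2_c39 LD3_c26)) = v452 :=
  Lrfl
theorem f452935 : Led Lsl_ef (LP (LK LD1_c0 LD2_c39 LD3_c26)) = v452 :=
  Lgr Lrot88 (Lpr_et (f452932 IH) (Lpn v452))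
theorem f452273 : Led Lsl_at (LP (LK LD1_c0 LD2_c39 LD3_c26)) = K36.v341 :=
  Lgr Lrot33 (Lpr_ff (K22.f334625 IH) (Lpr_dt (K9.f172064 IH) (Lpr_ct (K10.f195578 IH) (Lpr_dt (K12.f187522 IH) (Lpr_ct (K12.f21293 IH) (Lpr_dt (K10.f21295 IH) (Lpe (K9.f183871 IH) (Lpr_dt (K9.f8385 IH) (Lpr_ct (K36.f452269 IH) (Lpn K36.v341))))))))))
theorem f452563 : Led Lsl_et K36.v341 = K36.v386 :=
  Lgr Lrot87 (Lpr_ef (K36.f452562 IH) (Lpn K36.v386))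
theorem f452936 : Led Lsl_at K36.v386 = v452 :=
  Lgr Lrot80 (Lpe (f452563 IH) (Lpe (f452273 IH) (Lpr_ef (f452935 IH) (Lpn v452))))
theorem f452934 : Led Lsl_cf (LP (LK LD1_c0 LD2_c39 LD3_c27)) = v452 :=
  Lgr Lrot39 (Lpr_et (K9.f20637 IH) (Lpr_ct (K10.f177156 IH) (Lpr_et (f452932 IH) (Lpn v452))))
theorem f453482 : Led Lsl_gf v452 = v465 :=
  Lgr Lrot104 (Lpe (f452934 IH) (Lpe (K9.f20638 IH) (Lpe (K10.f20759 IH) (Lpe (K16.f210596 IH) (Lpr_cf (K16.f210592 IH) (Lpr_gf (K16.f269112 IH) (Lpr_df (K14.f205152 IH) (Lpr_gt (K14.f210475 IH) (Lpr_ct (f453478 IH) (Lpn v465))))))))))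
theorem f490713 : Led Lsl_gf v465 = K36.v952 :=
  Lgr Lrot47 (Lpe (f453482 IH) (Lpe (f452936 IH) (Lpr_ff (K36.f490710 IH) (Lpn K36.v952))))
theorem f537140 : v465 = (LP (LK LD1_c0 LD2_c38 LD3_c5)) :=
  Lefun (Lecon (Lfl_gf (f490713 IH)) (K36.f536953 IH)) (K8.f24408 IH)
theorem f537332 : (LP (LK LD1_c1 LD2_c19 LD3_c33)) = v426 :=
  Lefun (Lecon (Lfl_ef (f453480 IH)) (f537140 IH)) (f452773 IH)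
theorem f537713 : v1598 = (LP (LK LD1_c2 LD2_c46 LD3_c23)) :=
  Lefun (Lecon (f500289 IH) (f537332 IH).symm) (f194012 IH)
theorem f537430 : K36.v2887 = (LP (LK LD1_c2 LD2_c46 LD3_c23)) :=
  Lefun (Lecon (K36.f536074 IH) (K36.f537175 IH).symm) (f194012 IH)
theorem f537901 : v1630 = (LP (LK LD1_c2 LD2_c46 LD3_c52)) :=
  Lefun (Lecon (f500439 IH) ((f537713 IH).trans (f537430 IH).symm)) (Lfl_cf (K36.f536076 IH))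
theorem f547237 : Led Lsl_af (LP (LK LD1_c2 LD2_c46 LD3_c51)) = (LP (LK LD1_c4 LD2_c32 LD3_c32)) :=
  Lgr Lrot31 (Lpe (K31.f172508 IH) (Lpe (K31.f181559 IH) (Lpq (f537901 IH) (Lpr_ft (f547211 IH) (Lpn (LP (LK LD1_c4 LD2_c32 LD3_c32)))))))
theorem f172506 : Led Lsl_et (LP (LK LD1_c2 LD2_c46 LD3_c51)) = (LP (LK LD1_c5 LD2_c41 LD3_c37)) :=
  Lre_e IH (LK LD1_c2 LD2_c46 LD3_c51) (LK LD1_c5 LD2_c41 LD3_c37) Lrfl Lrfl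
theorem f542315 : Led Lsl_et (LP (LK LD1_c4 LD2_c25 LD3_c5)) = (LP (LK LD1_c4 LD2_c32 LD3_c32)) :=
  Lgr Lrot87 (Lpr_ef (K37.f542311 IH) (Lpn (LP (LK LD1_c4 LD2_c32 LD3_c32))))
theorem f547247 : Led Lsl_at (LP (LK LD1_c5 LD2_c41 LD3_c37)) = (LP (LK LD1_c4 LD2_c25 LD3_c5)) :=
  Lgr Lrot80 (Lpe (f172506 IH) (Lpr_af (f547237 IH) (Lpe (f542315 IH) (Lpn (LP (LK LD1_c4 LD2_c25 LD3_c5))))))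
theorem f547251 : Led Lsl_dt (LP (LK LD1_c11 LD2_c13 LD3_c25)) = (LP (LK LD1_c5 LD2_c41 LD3_c37)) :=
  Lre_d IH (LK LD1_c11 LD2_c13 LD3_c25) (LK LD1_c5 LD2_c41 LD3_c37) Lrfl Lrfl
theorem f418554 : Led Lsl_dt (LP (LK LD1_c4 LD2_c25 LD3_c5)) = (LP (LK LD1_c8 LD2_c47 LD3_c47)) :=
  Lre_d IH (LK LD1_c4 LD2_c25 LD3_c5) (LK LD1_c8 LD2_c47 LD3_c47) Lrfl Lrfl
theorem f547252 : Led Lsl_af (LP (LK LD1_c11 LD2_c13 LD3_c25)) = (LP (LK LD1_c8 LD2_c47 LD3_c47)) :=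
  Lgr Lrot117 (Lpr_dt (f547251 IH) (Lpr_at (f547247 IH) (Lpr_dt (f418554 IH) (Lpn (LP (LK LD1_c8 LD2_c47 LD3_c47))))))
theorem f547262 : Led Lsl_ct (LP (LK LD1_c20 LD2_c8 LD3_c0)) = (LP (LK LD1_c11 LD2_c13 LD3_c25)) :=
  Lre_c IH (LK LD1_c20 LD2_c8 LD3_c0) (LK LD1_c11 LD2_c13 LD3_c25) Lrfl Lrfl
theorem f210679 : Led Lsl_dt (LP (LK LD1_c5 LD2_c52 LD3_c58)) = (LP (LK LD1_c2 LD2_c52 LD3_c46)) :=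
  Lre_d IH (LK LD1_c5 LD2_c52 LD3_c58) (LK LD1_c2 LD2_c52 LD3_c46) Lrfl Lrfl
theorem f380391 : Led Lsl_ct (LP (LK LD1_c2 LD2_c52 LD3_c47)) = (LP (LK LD1_c5 LD2_c52 LD3_c61)) :=
  Lre_c IH (LK LD1_c2 LD2_c52 LD3_c47) (LK LD1_c5 LD2_c52 LD3_c61) Lrfl Lrfl
theorem f449409 : Led Lsl_dt (LP (LK LD1_c5 LD2_c52 LD3_c61)) = (LP (LK LD1_c11 LD2_c32 LD3_c13)) :=
  Lre_d IH (LK LD1_c5 LD2_c52 LD3_c61) (LK LD1_c11 LD2_c32 LD3_c13) Lrfl Lrfl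
theorem f449410 : Led Lsl_ct (LP (LK LD1_c11 LD2_c32 LD3_c13)) = (LP (LK LD1_c20 LD2_c28 LD3_c57)) :=
  Lre_c IH (LK LD1_c11 LD2_c32 LD3_c13) (LK LD1_c20 LD2_c28 LD3_c57) Lrfl Lrfl
theorem f547263 : Led Lsl_df (LP (LK LD1_c20 LD2_c8 LD3_c0)) = (LP (LK LD1_c20 LD2_c28 LD3_c57)) :=
  Lgr Lrot177 (Lpr_ct (f547262 IH) (Lpr_af (f547252 IH) (Lpe (K36.f449413 IH) (Lpr_dt (f210679 IH) (Lpr_ct (K36.f210678 IH) (Lpr_dt (K36.f449396 IH) (Lpr_ct (f380391 IH) (Lpr_dt (f449409 IH) (Lpr_ct (f449410 IH) (Lpn (LP (LK LD1_c20 LD2_c28 LD3_c57))))))))))))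
theorem f547265 : Led Lsl_dt (LP (LK LD1_c20 LD2_c8 LD3_c0)) = (LP (LK LD1_c20 LD2_c28 LD3_c57)) :=
  Lgr Lrot42 (Lpr_df (f547263 IH) (Lpn (LP (LK LD1_c20 LD2_c28 LD3_c57))))
theorem f547256 : Led Lsl_ct (LP (LK LD1_c11 LD2_c13 LD3_c25)) = (LP (LK LD1_c20 LD2_c8 LD3_c0)) :=
  Lre_c IH (LK LD1_c11 LD2_c13 LD3_c25) (LK LD1_c20 LD2_c8 LD3_c0) Lrfl Lrfl
theorem f411687 : Led Lsl_dt (LP (LK LD1_c5 LD2_c41 LD3_c37)) = (LP (LK LD1_c11 LD2_c13 LD3_c25)) :=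
  Lre_d IH (LK LD1_c5 LD2_c41 LD3_c37) (LK LD1_c11 LD2_c13 LD3_c25) Lrfl Lrfl
theorem f547267 : Led Lsl_ct (LP (LK LD1_c20 LD2_c28 LD3_c57)) = (LP (LK LD1_c11 LD2_c32 LD3_c13)) :=
  Lre_c IH (LK LD1_c20 LD2_c28 LD3_c57) (LK LD1_c11 LD2_c32 LD3_c13) Lrfl Lrfl
theorem f380365 : Led Lsl_dt (LP (LK LD1_c11 LD2_c32 LD3_c13)) = (LP (LK LD1_c5 LD2_c52 LD3_c61)) :=
  Lre_d IH (LK LD1_c11 LD2_c32 LD3_c13) (LK LD1_c5 LD2_c52 LD3_c61) Lrfl Lrfl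
theorem f210711 : Led Lsl_dt (LP (LK LD1_c2 LD2_c52 LD3_c47)) = (LP (LK LD1_c1 LD2_c22 LD3_c25)) :=
  Lre_d IH (LK LD1_c2 LD2_c52 LD3_c47) (LK LD1_c1 LD2_c22 LD3_c25) Lrfl Lrfl
theorem f547203 : Led Lsl_at (LP (LK LD1_c2 LD2_c53 LD3_c26)) = (LP (LK LD1_c2 LD2_c52 LD3_c46)) :=
  Lgr Lrot80 (Lpe (K6.f81841 IH) (Lpr_af (K8.f163310 IH) (Lpr_ef (f547201 IH) (Lpn (LP (LK LD1_c2 LD2_c52 LD3_c46))))))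
theorem f547268 : Led Lsl_ft (LP (LK LD1_c5 LD2_c41 LD3_c37)) = (LP (LK LD1_c2 LD2_c53 LD3_c26)) :=
  Lgr Lrot142 (Lpr_dt (f411687 IH) (Lpr_ct (f547256 IH) (Lpr_dt (f547265 IH) (Lpr_ct (f547267 IH) (Lpr_dt (f380365 IH) (Lpr_ct (K37.f380364 IH) (Lpr_dt (f210711 IH) (Lpr_ct (f210666 IH) (Lpe (f547203 IH) (Lpn (LP (LK LD1_c2 LD2_c53 LD3_c26))))))))))))
theorem f547274 : Led Lsl_gt (LP (LK LD1_c5 LD2_c41 LD3_c37)) = (LP (LK LD1_c3 LD2_c57 LD3_c56)) :=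
  Lgr Lrot5 (Lpr_ft (f547268 IH) (Lpr_at (f547203 IH) (Lpr_gf (f541435 IH) (Lpn (LP (LK LD1_c3 LD2_c57 LD3_c56))))))
theorem f172536 : Led Lsl_dt (LP (LK LD1_c5 LD2_c41 LD3_c36)) = (LP (LK LD1_c2 LD2_c46 LD3_c51)) :=
  Lre_d IH (LK LD1_c5 LD2_c41 LD3_c36) (LK LD1_c2 LD2_c46 LD3_c51) Lrfl Lrfl
theorem f269012 : Led Lsl_dt (LP (LK LD1_c4 LD2_c32 LD3_c28)) = (LP (LK LD1_c9 LD2_c2 LD3_c31)) :=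
  Lre_d IH (LK LD1_c4 LD2_c32 LD3_c28) (LK LD1_c9 LD2_c2 LD3_c31) Lrfl Lrfl
theorem f281810 : Led Lsl_dt (LP (LK LD1_c11 LD2_c12 LD3_c57)) = (LP (LK LD1_c20 LD2_c7 LD3_c26)) :=
  Lre_d IH (LK LD1_c11 LD2_c12 LD3_c57) (LK LD1_c20 LD2_c7 LD3_c26) Lrfl Lrfl
theorem f411683 : Led Lsl_gf (LP (LK LD1_c5 LD2_c41 LD3_c36)) = (LP (LK LD1_c4 LD2_c23 LD3_c34)) :=
  Lgr Lrot144 (Lpr_dt (f172536 IH) (Lpr_gt (K31.f411681 IH) (Lpr_dt (f269012 IH) (Lpe (K16.f268991 IH) (Lpe (K16.f268992 IH) (Lpe (K31.f385818 IH) (Lpe (f281810 IH) (Lpr_gf (K31.f281804 IH) (Lpe (K31.f210428 IH) (Lpn (LP (LK LD1_c4 LD2_c23 LD3_c34))))))))))))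
theorem f547276 : Led Lsl_gf (LP (LK LD1_c2 LD2_c26 LD3_c4)) = (LP (LK LD1_c3 LD2_c4 LD3_c3)) :=
  Lgr Lrot138 (Lpe (K30.f210417 IH) (Lpe (f411683 IH) (Lpe (K31.f172502 IH) (Lpr_et (f172506 IH) (Lpr_gt (f547274 IH) (Lpe (f112559 IH) (Lpr_dt (K5.f100437 IH) (Lpr_gt (K5.f112524 IH) (Lpe (K32.f37225 IH) (Lpr_et (K2.f56487 IH) (Lpn (LP (LK LD1_c3 LD2_c4 LD3_c3)))))))))))))
theorem f172608 : Led Lsl_ct (LP (LK LD1_c1 LD2_c10 LD3_c18)) = (LP (LK LD1_c2 LD2_c26 LD3_c4)) :=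
  Lre_c IH (LK LD1_c1 LD2_c10 LD3_c18) (LK LD1_c2 LD2_c26 LD3_c4) Lrfl Lrfl
theorem f172606 : Led Lsl_bt (LP (LK LD1_c1 LD2_c10 LD3_c18)) = (LP (LK LD1_c0 LD2_c32 LD3_c31)) :=
  Lre_b IH (LK LD1_c1 LD2_c10 LD3_c18) (LK LD1_c0 LD2_c32 LD3_c31) Lrfl Lrfl
theorem f164885 : Led Lsl_gt (LP (LK LD1_c2 LD2_c44 LD3_c28)) = (LP (LK LD1_c5 LD2_c37 LD3_c5)) :=
  Lre_g IH (LK LD1_c2 LD2_c44 LD3_c28) (LK LD1_c5 LD2_c37 LD3_c5) Lrfl Lrfl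
theorem f60806 : Led Lsl_gt (LP (LK LD1_c3 LD2_c4 LD3_c48)) = (LP (LK LD1_c1 LD2_c28 LD3_c27)) :=
  Lre_g IH (LK LD1_c3 LD2_c4 LD3_c48) (LK LD1_c1 LD2_c28 LD3_c27) Lrfl Lrfl
theorem f60882 : Led Lsl_bt (LP (LK LD1_c6 LD2_c15 LD3_c29)) = (LP (LK LD1_c3 LD2_c4 LD3_c48)) :=
  Lre_b IH (LK LD1_c6 LD2_c15 LD3_c29) (LK LD1_c3 LD2_c4 LD3_c48) Lrfl Lrfl
theorem f547291 : Led Lsl_cf (LP (LK LD1_c5 LD2_c37 LD3_c5)) = (LP (LK LD1_c6 LD2_c15 LD3_c29)) :=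
  Lgr Lrot58 (Lpe (f164885 IH) (Lpe (K11.f164843 IH) (Lpr_bt (K11.f164742 IH) (Lpr_gf (K10.f180278 IH) (Lpe (f172606 IH) (Lpr_ct (f172608 IH) (Lpr_gf (f547276 IH) (Lpr_cf (K35.f60444 IH) (Lpe (f60806 IH) (Lpe (f60882 IH) (Lpn (LP (LK LD1_c6 LD2_c15 LD3_c29)))))))))))))
theorem f164848 : Led Lsl_gt (LP (LK LD1_c2 LD2_c44 LD3_c31)) = (LP (LK LD1_c1 LD2_c18 LD3_c37)) :=
  Lre_g IH (LK LD1_c2 LD2_c44 LD3_c31) (LK LD1_c1 LD2_c18 LD3_c37) Lrfl Lrfl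
theorem f547308 : (LP (LK LD1_c2 LD2_c44 LD3_c31)) = K36.v1511 :=
  (Llr Lrot181 (Lpr_gt (f164848 IH) (Lpr_ct (K11.f164843 IH) (Lpr_gt (f164885 IH) (Lpr_cf (f547291 IH) (Lpr_bt (f60882 IH) (Lpr_gt (f60806 IH) (Lpe (K35.f60443 IH) (Lpr_ct (K2.f60468 IH) (Lpr_gt (K9.f60459 IH) (Lpr_cf (K10.f175423 IH) (Lpr_bt (K36.f495977 IH) (Lpn K36.v1511))))))))))))).symm
theorem f547364 : Led Lsl_at (LP (LK LD1_c3 LD2_c0 LD3_c55)) = (LP (LK LD1_c2 LD2_c44 LD3_c30)) :=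
  Lgr Lrot26 (Lpr_ff (K36.f495980 IH) (Lpq (f547308 IH) (Lpr_gt (f164848 IH) (Lpr_gt (f164847 IH) (Lpn (LP (LK LD1_c2 LD2_c44 LD3_c30)))))))
theorem f547371 : Led Lsl_af (LP (LK LD1_c2 LD2_c13 LD3_c34)) = (LP (LK LD1_c4 LD2_c33 LD3_c7)) :=
  Lgr Lrot117 (Lpr_dt (f547160 IH) (Lpr_at (f547364 IH) (Lpe (f546507 IH) (Lpn (LP (LK LD1_c4 LD2_c33 LD3_c7))))))
theorem f547381 : Led Lsl_ft (LP (LK LD1_c2 LD2_c13 LD3_c33)) = (LP (LK LD1_c4 LD2_c33 LD3_c7)) :=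
  Lgr Lrot2 (Lpr_gt (K9.f174665 IH) (Lpr_gt (f211918 IH) (Lpr_af (f547371 IH) (Lpn (LP (LK LD1_c4 LD2_c33 LD3_c7))))))
theorem f547390 : Led Lsl_ff (LP (LK LD1_c2 LD2_c13 LD3_c33)) = (LP (LK LD1_c4 LD2_c33 LD3_c7)) :=
  Lgr Lrot3 (Lpr_ft (f547381 IH) (Lpn (LP (LK LD1_c4 LD2_c33 LD3_c7))))
theorem f383986 : Led Lsl_gt (LP (LK LD1_c2 LD2_c13 LD3_c32)) = (LP (LK LD1_c4 LD2_c33 LD3_c6)) :=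
  Lre_g IH (LK LD1_c2 LD2_c13 LD3_c32) (LK LD1_c4 LD2_c33 LD3_c6) Lrfl Lrfl
theorem f547399 : Led Lsl_at (LP (LK LD1_c2 LD2_c13 LD3_c33)) = (LP (LK LD1_c4 LD2_c33 LD3_c6)) :=
  Lgr Lrot26 (Lpr_ff (f547390 IH) (Lpr_gt (K9.f142124 IH) (Lpr_gt (f383986 IH) (Lpn (LP (LK LD1_c4 LD2_c33 LD3_c6))))))
theorem f547373 : Led Lsl_at (LP (LK LD1_c2 LD2_c13 LD3_c34)) = (LP (LK LD1_c4 LD2_c33 LD3_c7)) :=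
  Lgr Lrot100 (Lpr_af (f547371 IH) (Lpn (LP (LK LD1_c4 LD2_c33 LD3_c7))))
theorem f547410 : Led Lsl_ff (LP (LK LD1_c2 LD2_c13 LD3_c34)) = (LP (LK LD1_c4 LD2_c33 LD3_c6)) :=
  Lgr Lrot30 (Lpr_at (f547373 IH) (Lpe (f547390 IH) (Lpr_at (f547399 IH) (Lpn (LP (LK LD1_c4 LD2_c33 LD3_c6))))))
theorem f547419 : Led Lsl_ft (LP (LK LD1_c2 LD2_c13 LD3_c34)) = (LP (LK LD1_c4 LD2_c33 LD3_c6)) :=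
  Lgr Lrot48 (Lpr_ff (f547410 IH) (Lpn (LP (LK LD1_c4 LD2_c33 LD3_c6))))
theorem f427586 : Led Lsl_dt (LP (LK LD1_c8 LD2_c44 LD3_c42)) = (LP (LK LD1_c16 LD2_c22 LD3_c9)) :=
  Lre_d IH (LK LD1_c8 LD2_c44 LD3_c42) (LK LD1_c16 LD2_c22 LD3_c9) Lrfl Lrfl
theorem f547403 : Led Lsl_af (LP (LK LD1_c2 LD2_c13 LD3_c33)) = (LP (LK LD1_c4 LD2_c33 LD3_c6)) :=
  Lgr Lrot0 (Lpr_at (f547399 IH) (Lpn (LP (LK LD1_c4 LD2_c33 LD3_c6))))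
theorem f546387 : Led Lsl_ct (LP (LK LD1_c4 LD2_c33 LD3_c11)) = (LP (LK LD1_c2 LD2_c13 LD3_c33)) :=
  Lre_c IH (LK LD1_c4 LD2_c33 LD3_c11) (LK LD1_c2 LD2_c13 LD3_c33) Lrfl Lrfl
theorem f174815 : Led Lsl_dt (LP (LK LD1_c9 LD2_c3 LD3_c43)) = (LP (LK LD1_c4 LD2_c33 LD3_c11)) :=
  Lre_d IH (LK LD1_c9 LD2_c3 LD3_c43) (LK LD1_c4 LD2_c33 LD3_c11) Lrfl Lrfl
theorem f547428 : Led Lsl_ct (LP (LK LD1_c16 LD2_c22 LD3_c9)) = (LP (LK LD1_c9 LD2_c3 LD3_c43)) :=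
  Lgr Lrot53 (Lpe (f427586 IH) (Lpr_cf (f547152 IH) (Lpe (f212086 IH) (Lpe (f60137 IH) (Lpe (f547160 IH) (Lpr_ft (f547419 IH) (Lpe (f547403 IH) (Lpe (f546387 IH) (Lpe (f174815 IH) (Lpn (LP (LK LD1_c9 LD2_c3 LD3_c43))))))))))))
theorem f495981 : Led Lsl_ft (LP (LK LD1_c3 LD2_c0 LD3_c55)) = K36.v1511 :=
  Lgr Lrot48 (Lpr_ff (K36.f495980 IH) (Lpn K36.v1511))
theorem f212085 : Led Lsl_ct (LP (LK LD1_c6 LD2_c9 LD3_c5)) = (LP (LK LD1_c3 LD2_c0 LD3_c55)) :=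
  Lre_c IH (LK LD1_c6 LD2_c9 LD3_c5) (LK LD1_c3 LD2_c0 LD3_c55) Lrfl Lrfl
theorem f547315 : Led Lsl_ct (LP (LK LD1_c2 LD2_c44 LD3_c31)) = (LP (LK LD1_c5 LD2_c37 LD3_c12)) :=
  Lre_c IH (LK LD1_c2 LD2_c44 LD3_c31) (LK LD1_c5 LD2_c37 LD3_c12) Lrfl Lrfl
theorem f547316 : Led Lsl_ff (LP (LK LD1_c6 LD2_c9 LD3_c5)) = (LP (LK LD1_c5 LD2_c37 LD3_c12)) :=
  Lgr Lrot23 (Lpr_ct (f212085 IH) (Lpr_ft (f495981 IH) (Lpq (f547308 IH) (Lpr_ct (f547315 IH) (Lpn (LP (LK LD1_c5 LD2_c37 LD3_c12)))))))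
theorem f547325 : Led Lsl_ft (LP (LK LD1_c6 LD2_c9 LD3_c5)) = (LP (LK LD1_c5 LD2_c37 LD3_c12)) :=
  Lgr Lrot48 (Lpr_ff (f547316 IH) (Lpn (LP (LK LD1_c5 LD2_c37 LD3_c12))))
theorem f112842 : Led Lsl_gt (LP (LK LD1_c4 LD2_c23 LD3_c55)) = (LP (LK LD1_c8 LD2_c45 LD3_c38)) :=
  Lre_g IH (LK LD1_c4 LD2_c23 LD3_c55) (LK LD1_c8 LD2_c45 LD3_c38) Lrfl Lrfl
theorem f547334 : Led Lsl_af (LP (LK LD1_c8 LD2_c45 LD3_c38)) = (LP (LK LD1_c5 LD2_c37 LD3_c12)) :=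
  Lgr Lrot31 (Lpe (f112842 IH) (Lpe (f544905 IH) (Lpr_ft (f547325 IH) (Lpn (LP (LK LD1_c5 LD2_c37 LD3_c12))))))
theorem f546382 : Led Lsl_df (LP (LK LD1_c4 LD2_c31 LD3_c2)) = (LP (LK LD1_c2 LD2_c13 LD3_c33)) :=
  Lgr Lrot38 (Lpr_dt (f546380 IH) (Lpn (LP (LK LD1_c2 LD2_c13 LD3_c33))))
theorem f547434 : Led Lsl_cf (LP (LK LD1_c8 LD2_c45 LD3_c38)) = (LP (LK LD1_c4 LD2_c31 LD3_c2)) :=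
  Lgr Lrot102 (Lpr_af (f547334 IH) (Lpe (f547325 IH) (Lpr_dt (f212086 IH) (Lpe (f547152 IH) (Lpr_dt (f427586 IH) (Lpr_ct (f547428 IH) (Lpr_dt (f174815 IH) (Lpr_ct (f546387 IH) (Lpe (f546382 IH) (Lpn (LP (LK LD1_c4 LD2_c31 LD3_c2))))))))))))
theorem f547449 : Led Lsl_gt (LP (LK LD1_c8 LD2_c45 LD3_c38)) = (LP (LK LD1_c6 LD2_c24 LD3_c36)) :=
  Lgr Lrot149 (Lpr_cf (f547434 IH) (Lpe (f174632 IH) (Lpe (K32.f174631 IH) (Lpr_ct (K9.f174620 IH) (Lpe (K9.f174629 IH) (Lpe (K9.f20590 IH) (Lpr_bt (K31.f169119 IH) (Lpe (K35.f169117 IH) (Lpe (f174633 IH) (Lpr_ct (f544910 IH) (Lpn (LP (LK LD1_c6 LD2_c24 LD3_c36)))))))))))))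
theorem f117889 : Led Lsl_et (LP (LK LD1_c1 LD2_c28 LD3_c31)) = (LP (LK LD1_c3 LD2_c4 LD3_c53)) :=
  Lre_e IH (LK LD1_c1 LD2_c28 LD3_c31) (LK LD1_c3 LD2_c4 LD3_c53) Lrfl Lrfl
theorem f494268 : Led Lsl_ct (LP (LK LD1_c3 LD2_c4 LD3_c53)) = v1243 :=
  Lgr Lrot15 (Lpe (f117889 IH) (Lpe (K5.f132493 IH) (Lpr_ef (f494266 IH) (Lpn v1243))))
theorem f132961 : Led Lsl_bt (LP (LK LD1_c3 LD2_c4 LD3_c53)) = (LP (LK LD1_c1 LD2_c28 LD3_c34)) :=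
  Lre_b IH (LK LD1_c3 LD2_c4 LD3_c53) (LK LD1_c1 LD2_c28 LD3_c34) Lrfl Lrfl
theorem f112363 : Led Lsl_gt (LP (LK LD1_c1 LD2_c28 LD3_c34)) = (LP (LK LD1_c3 LD2_c4 LD3_c61)) :=
  Lre_g IH (LK LD1_c1 LD2_c28 LD3_c34) (LK LD1_c3 LD2_c4 LD3_c61) Lrfl Lrfl
theorem f547451 : Led Lsl_bf (LP (LK LD1_c3 LD2_c4 LD3_c61)) = (LP (LK LD1_c4 LD2_c31 LD3_c2)) :=
  Lgr Lrot34 (Lpe (f112363 IH) (Lpe (f132961 IH) (Lpr_ct (f494268 IH) (Lpqs (f544926 IH) (Lpe (f169115 IH) (Lpe (K31.f380261 IH) (Lpe (K35.f169117 IH) (Lpe (f174633 IH) (Lpr_ct (f544910 IH) (Lpe (f547449 IH) (Lpr_cf (f547434 IH) (Lpn (LP (LK LD1_c4 LD2_c31 LD3_c2))))))))))))))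
theorem f547457 : Led Lsl_dt (LP (LK LD1_c3 LD2_c4 LD3_c61)) = (LP (LK LD1_c4 LD2_c33 LD3_c10)) :=
  Lgr Lrot79 (Lpr_bf (f547451 IH) (Lpr_df (f546382 IH) (Lpe (K9.f174666 IH) (Lpn (LP (LK LD1_c4 LD2_c33 LD3_c10))))))
theorem f547464 : Led Lsl_df (LP (LK LD1_c3 LD2_c4 LD3_c61)) = (LP (LK LD1_c4 LD2_c33 LD3_c10)) :=
  Lgr Lrot38 (Lpr_dt (f547457 IH) (Lpn (LP (LK LD1_c4 LD2_c33 LD3_c10))))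
theorem f547336 : Led Lsl_at (LP (LK LD1_c8 LD2_c45 LD3_c38)) = (LP (LK LD1_c5 LD2_c37 LD3_c12)) :=
  Lgr Lrot100 (Lpr_af (f547334 IH) (Lpn (LP (LK LD1_c5 LD2_c37 LD3_c12))))
theorem f201346 : Led Lsl_ct (LP (LK LD1_c5 LD2_c37 LD3_c12)) = (LP (LK LD1_c2 LD2_c44 LD3_c31)) :=
  Lre_c IH (LK LD1_c5 LD2_c37 LD3_c12) (LK LD1_c2 LD2_c44 LD3_c31) Lrfl Lrfl
theorem f547437 : Led Lsl_at (LP (LK LD1_c2 LD2_c44 LD3_c31)) = (LP (LK LD1_c4 LD2_c31 LD3_c2)) :=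
  Lgr Lrot107 (Lpe (f201346 IH) (Lpe (f547336 IH) (Lpr_cf (f547434 IH) (Lpn (LP (LK LD1_c4 LD2_c31 LD3_c2))))))
theorem f80295 : Led Lsl_bt (LP (LK LD1_c3 LD2_c0 LD3_c52)) = (LP (LK LD1_c1 LD2_c26 LD3_c14)) :=
  Lre_b IH (LK LD1_c3 LD2_c0 LD3_c52) (LK LD1_c1 LD2_c26 LD3_c14) Lrfl Lrfl
theorem f547453 : Led Lsl_at (LP (LK LD1_c3 LD2_c4 LD3_c61)) = (LP (LK LD1_c3 LD2_c0 LD3_c52)) :=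
  Lgr Lrot67 (Lpr_bf (f547451 IH) (Lpe (f547437 IH) (Lpqs (f547308 IH) (Lpe (K36.f495977 IH) (Lpr_af (K15.f268443 IH) (Lpe (f80295 IH) (Lpn (LP (LK LD1_c3 LD2_c0 LD3_c52)))))))))
theorem f24014 : Led Lsl_dt (LP (LK LD1_c3 LD2_c0 LD3_c52)) = (LP (LK LD1_c6 LD2_c9 LD3_c1)) :=
  Lre_d IH (LK LD1_c3 LD2_c0 LD3_c52) (LK LD1_c6 LD2_c9 LD3_c1) Lrfl Lrfl
theorem f547467 : Led Lsl_at (LP (LK LD1_c6 LD2_c9 LD3_c1)) = (LP (LK LD1_c4 LD2_c33 LD3_c10)) :=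
  Lgr Lrot51 (Lpe (f24014 IH) (Lpe (f547453 IH) (Lpr_df (f547464 IH) (Lpn (LP (LK LD1_c4 LD2_c33 LD3_c10))))))
theorem f180390 : Led Lsl_bt (LP (LK LD1_c5 LD2_c46 LD3_c53)) = (LP (LK LD1_c2 LD2_c49 LD3_c13)) :=
  Lre_b IH (LK LD1_c5 LD2_c46 LD3_c53) (LK LD1_c2 LD2_c49 LD3_c13) Lrfl Lrfl
theorem f268479 : Led Lsl_bt (LP (LK LD1_c3 LD2_c0 LD3_c53)) = (LP (LK LD1_c6 LD2_c9 LD3_c1)) :=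
  Lre_b IH (LK LD1_c3 LD2_c0 LD3_c53) (LK LD1_c6 LD2_c9 LD3_c1) Lrfl Lrfl
theorem f412354 : Led Lsl_ff (LP (LK LD1_c5 LD2_c46 LD3_c53)) = (LP (LK LD1_c6 LD2_c9 LD3_c1)) :=
  Lgr Lrot25 (Lpr_bt (f180390 IH) (Lpr_ft (K16.f268465 IH) (Lpr_bt (f268479 IH) (Lpn (LP (LK LD1_c6 LD2_c9 LD3_c1))))))
theorem f412356 : Led Lsl_ft (LP (LK LD1_c5 LD2_c46 LD3_c53)) = (LP (LK LD1_c6 LD2_c9 LD3_c1)) :=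
  Lgr Lrot48 (Lpr_ff (f412354 IH) (Lpn (LP (LK LD1_c6 LD2_c9 LD3_c1))))
theorem f39210 : Led Lsl_ct (LP (LK LD1_c3 LD2_c57 LD3_c31)) = (LP (LK LD1_c1 LD2_c56 LD3_c18)) :=
  Lre_c IH (LK LD1_c3 LD2_c57 LD3_c31) (LK LD1_c1 LD2_c56 LD3_c18) Lrfl Lrfl
theorem f101545 : Led Lsl_dt (LP (LK LD1_c1 LD2_c56 LD3_c18)) = (LP (LK LD1_c3 LD2_c59 LD3_c10)) :=
  Lre_d IH (LK LD1_c1 LD2_c56 LD3_c18) (LK LD1_c3 LD2_c59 LD3_c10) Lrfl Lrfl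
theorem f137997 : Led Lsl_ct (LP (LK LD1_c7 LD2_c59 LD3_c41)) = (LP (LK LD1_c3 LD2_c59 LD3_c10)) :=
  Lre_c IH (LK LD1_c7 LD2_c59 LD3_c41) (LK LD1_c3 LD2_c59 LD3_c10) Lrfl Lrfl
theorem f174902 : Led Lsl_dt (LP (LK LD1_c9 LD2_c2 LD3_c60)) = (LP (LK LD1_c4 LD2_c32 LD3_c49)) :=
  Lre_d IH (LK LD1_c9 LD2_c2 LD3_c60) (LK LD1_c4 LD2_c32 LD3_c49) Lrfl Lrfl
theorem f174903 : Led Lsl_gf (LP (LK LD1_c4 LD2_c33 LD3_c10)) = (LP (LK LD1_c9 LD2_c2 LD3_c60)) :=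
  Lgr Lrot147 (Lpr_ct (K9.f174667 IH) (Lpe (K9.f174672 IH) (Lpr_ct (f137997 IH) (Lpe (f101545 IH) (Lpe (f39210 IH) (Lpr_gf (K31.f174892 IH) (Lpe (K30.f174891 IH) (Lpe (K31.f174894 IH) (Lpe (f174902 IH) (Lpn (LP (LK LD1_c9 LD2_c2 LD3_c60))))))))))))
theorem f547473 : Led Lsl_gt (LP (LK LD1_c5 LD2_c46 LD3_c53)) = (LP (LK LD1_c9 LD2_c2 LD3_c60)) :=
  Lgr Lrot5 (Lpr_ft (f412356 IH) (Lpr_at (f547467 IH) (Lpr_gf (f174903 IH) (Lpn (LP (LK LD1_c9 LD2_c2 LD3_c60))))))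
theorem f423333 : Led Lsl_at (LP (LK LD1_c1 LD2_c19 LD3_c48)) = (LP (LK LD1_c2 LD2_c13 LD3_c16)) :=
  Lgr Lrot26 (Lpr_ff (K36.f423327 IH) (Lpe (K30.f269080 IH) (Lpr_gt (K30.f411656 IH) (Lpn (LP (LK LD1_c2 LD2_c13 LD3_c16))))))
theorem f174590 : Led Lsl_et (LP (LK LD1_c2 LD2_c13 LD3_c16)) = (LP (LK LD1_c4 LD2_c32 LD3_c27)) :=
  Lre_e IH (LK LD1_c2 LD2_c13 LD3_c16) (LK LD1_c4 LD2_c32 LD3_c27) Lrfl Lrfl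
theorem f423341 : Led Lsl_af (LP (LK LD1_c2 LD2_c46 LD3_c45)) = (LP (LK LD1_c4 LD2_c32 LD3_c27)) :=
  Lgr Lrot50 (Lpr_et (K36.f380616 IH) (Lpr_at (f423333 IH) (Lpr_et (f174590 IH) (Lpn (LP (LK LD1_c4 LD2_c32 LD3_c27))))))
theorem f380617 : Led Lsl_dt (LP (LK LD1_c2 LD2_c46 LD3_c45)) = (LP (LK LD1_c5 LD2_c41 LD3_c25)) :=
  Lre_d IH (LK LD1_c2 LD2_c46 LD3_c45) (LK LD1_c5 LD2_c41 LD3_c25) Lrfl Lrfl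
theorem f423345 : Led Lsl_dt (LP (LK LD1_c9 LD2_c2 LD3_c30)) = (LP (LK LD1_c4 LD2_c32 LD3_c27)) :=
  Lre_d IH (LK LD1_c9 LD2_c2 LD3_c30) (LK LD1_c4 LD2_c32 LD3_c27) Lrfl Lrfl
theorem f423346 : Led Lsl_at (LP (LK LD1_c5 LD2_c41 LD3_c25)) = (LP (LK LD1_c9 LD2_c2 LD3_c30)) :=
  Lgr Lrot51 (Lpe (f380617 IH) (Lpr_af (f423341 IH) (Lpe (f423345 IH) (Lpn (LP (LK LD1_c9 LD2_c2 LD3_c30))))))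
theorem f423357 : Led Lsl_et (LP (LK LD1_c11 LD2_c13 LD3_c1)) = (LP (LK LD1_c5 LD2_c41 LD3_c25)) :=
  Lre_e IH (LK LD1_c11 LD2_c13 LD3_c1) (LK LD1_c5 LD2_c41 LD3_c25) Lrfl Lrfl
theorem f423358 : Led Lsl_et (LP (LK LD1_c9 LD2_c2 LD3_c30)) = (LP (LK LD1_c16 LD2_c52 LD3_c47)) :=
  Lre_e IH (LK LD1_c9 LD2_c2 LD3_c30) (LK LD1_c16 LD2_c52 LD3_c47) Lrfl Lrfl
theorem f423359 : Led Lsl_af (LP (LK LD1_c11 LD2_c13 LD3_c1)) = (LP (LK LD1_c16 LD2_c52 LD3_c47)) :=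
  Lgr Lrot50 (Lpr_et (f423357 IH) (Lpr_at (f423346 IH) (Lpr_et (f423358 IH) (Lpn (LP (LK LD1_c16 LD2_c52 LD3_c47))))))
theorem f423369 : Led Lsl_dt (LP (LK LD1_c11 LD2_c13 LD3_c1)) = (LP (LK LD1_c5 LD2_c41 LD3_c24)) :=
  Lre_d IH (LK LD1_c11 LD2_c13 LD3_c1) (LK LD1_c5 LD2_c41 LD3_c24) Lrfl Lrfl
theorem f174589 : Led Lsl_dt (LP (LK LD1_c9 LD2_c2 LD3_c29)) = (LP (LK LD1_c16 LD2_c52 LD3_c47)) :=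
  Lre_d IH (LK LD1_c9 LD2_c2 LD3_c29) (LK LD1_c16 LD2_c52 LD3_c47) Lrfl Lrfl
theorem f423370 : Led Lsl_at (LP (LK LD1_c5 LD2_c41 LD3_c24)) = (LP (LK LD1_c9 LD2_c2 LD3_c29)) :=
  Lgr Lrot51 (Lpe (f423369 IH) (Lpr_af (f423359 IH) (Lpe (f174589 IH) (Lpn (LP (LK LD1_c9 LD2_c2 LD3_c29))))))
theorem f423377 : Led Lsl_ct (LP (LK LD1_c11 LD2_c12 LD3_c61)) = (LP (LK LD1_c5 LD2_c41 LD3_c24)) :=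
  Lre_c IH (LK LD1_c11 LD2_c12 LD3_c61) (LK LD1_c5 LD2_c41 LD3_c24) Lrfl Lrfl
theorem f423378 : Led Lsl_ct (LP (LK LD1_c9 LD2_c2 LD3_c29)) = (LP (LK LD1_c16 LD2_c52 LD3_c45)) :=
  Lre_c IH (LK LD1_c9 LD2_c2 LD3_c29) (LK LD1_c16 LD2_c52 LD3_c45) Lrfl Lrfl
theorem f423379 : Led Lsl_af (LP (LK LD1_c11 LD2_c12 LD3_c61)) = (LP (LK LD1_c16 LD2_c52 LD3_c45)) :=
  Lgr Lrot68 (Lpr_ct (f423377 IH) (Lpr_at (f423370 IH) (Lpr_ct (f423378 IH) (Lpn (LP (LK LD1_c16 LD2_c52 LD3_c45))))))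
theorem f411988 : Led Lsl_et (LP (LK LD1_c11 LD2_c12 LD3_c61)) = (LP (LK LD1_c5 LD2_c41 LD3_c23)) :=
  Lre_e IH (LK LD1_c11 LD2_c12 LD3_c61) (LK LD1_c5 LD2_c41 LD3_c23) Lrfl Lrfl
theorem f423409 : Led Lsl_et (LP (LK LD1_c9 LD2_c2 LD3_c28)) = (LP (LK LD1_c16 LD2_c52 LD3_c45)) :=
  Lre_e IH (LK LD1_c9 LD2_c2 LD3_c28) (LK LD1_c16 LD2_c52 LD3_c45) Lrfl Lrfl
theorem f423410 : Led Lsl_at (LP (LK LD1_c5 LD2_c41 LD3_c23)) = (LP (LK LD1_c9 LD2_c2 LD3_c28)) :=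
  Lgr Lrot80 (Lpe (f411988 IH) (Lpr_af (f423379 IH) (Lpe (f423409 IH) (Lpn (LP (LK LD1_c9 LD2_c2 LD3_c28))))))
theorem f385554 : Led Lsl_dt (LP (LK LD1_c9 LD2_c2 LD3_c28)) = (LP (LK LD1_c16 LD2_c52 LD3_c44)) :=
  Lre_d IH (LK LD1_c9 LD2_c2 LD3_c28) (LK LD1_c16 LD2_c52 LD3_c44) Lrfl Lrfl
theorem f423417 : Led Lsl_af (LP (LK LD1_c11 LD2_c12 LD3_c60)) = (LP (LK LD1_c16 LD2_c52 LD3_c44)) :=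
  Lgr Lrot117 (Lpr_dt (K31.f411943 IH) (Lpr_at (f423410 IH) (Lpr_dt (f385554 IH) (Lpn (LP (LK LD1_c16 LD2_c52 LD3_c44))))))
theorem f423425 : Led Lsl_ft (LP (LK LD1_c11 LD2_c13 LD3_c10)) = (LP (LK LD1_c16 LD2_c52 LD3_c44)) :=
  Lgr Lrot142 (Lpr_dt (K31.f280547 IH) (Lpr_ct (K31.f172616 IH) (Lpr_dt (K31.f237377 IH) (Lpr_ct (K31.f237375 IH) (Lpr_dt (K31.f237379 IH) (Lpr_ct (K31.f406936 IH) (Lpe (K31.f411938 IH) (Lpr_ct (K31.f411942 IH) (Lpr_af (f423417 IH) (Lpn (LP (LK LD1_c16 LD2_c52 LD3_c44))))))))))))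
theorem f423431 : Led Lsl_ff (LP (LK LD1_c11 LD2_c13 LD3_c10)) = (LP (LK LD1_c16 LD2_c52 LD3_c44)) :=
  Lgr Lrot3 (Lpr_ft (f423425 IH) (Lpn (LP (LK LD1_c16 LD2_c52 LD3_c44))))
theorem f423449 : Led Lsl_ft (LP (LK LD1_c5 LD2_c41 LD3_c29)) = (LP (LK LD1_c9 LD2_c2 LD3_c28)) :=
  Lgr Lrot54 (Lpe (K31.f280547 IH) (Lpr_ff (f423431 IH) (Lpe (f385554 IH) (Lpn (LP (LK LD1_c9 LD2_c2 LD3_c28))))))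
theorem f174576 : Led Lsl_ct (LP (LK LD1_c9 LD2_c2 LD3_c28)) = (LP (LK LD1_c4 LD2_c32 LD3_c26)) :=
  Lre_c IH (LK LD1_c9 LD2_c2 LD3_c28) (LK LD1_c4 LD2_c32 LD3_c26) Lrfl Lrfl
theorem f423452 : Led Lsl_ff (LP (LK LD1_c2 LD2_c46 LD3_c48)) = (LP (LK LD1_c4 LD2_c32 LD3_c26)) :=
  Lgr Lrot23 (Lpr_ct (K31.f172618 IH) (Lpr_ft (f423449 IH) (Lpr_ct (f174576 IH) (Lpn (LP (LK LD1_c4 LD2_c32 LD3_c26))))))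
theorem f423465 : Led Lsl_at (LP (LK LD1_c2 LD2_c46 LD3_c48)) = (LP (LK LD1_c4 LD2_c32 LD3_c23)) :=
  Lgr Lrot26 (Lpr_ff (f423452 IH) (Lpe (K30.f174578 IH) (Lpr_gt (K31.f411837 IH) (Lpn (LP (LK LD1_c4 LD2_c32 LD3_c23))))))
theorem f172625 : Led Lsl_et (LP (LK LD1_c5 LD2_c41 LD3_c30)) = (LP (LK LD1_c2 LD2_c46 LD3_c48)) :=
  Lre_e IH (LK LD1_c5 LD2_c41 LD3_c30) (LK LD1_c2 LD2_c46 LD3_c48) Lrfl Lrfl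
theorem f181289 : Led Lsl_et (LP (LK LD1_c4 LD2_c32 LD3_c23)) = (LP (LK LD1_c9 LD2_c2 LD3_c25)) :=
  Lre_e IH (LK LD1_c4 LD2_c32 LD3_c23) (LK LD1_c9 LD2_c2 LD3_c25) Lrfl Lrfl
theorem f423475 : Led Lsl_af (LP (LK LD1_c5 LD2_c41 LD3_c30)) = (LP (LK LD1_c9 LD2_c2 LD3_c25)) :=
  Lgr Lrot50 (Lpr_et (f172625 IH) (Lpr_at (f423465 IH) (Lpr_et (f181289 IH) (Lpn (LP (LK LD1_c9 LD2_c2 LD3_c25))))))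
theorem f423481 : Led Lsl_bt (LP (LK LD1_c5 LD2_c41 LD3_c30)) = (LP (LK LD1_c11 LD2_c13 LD3_c6)) :=
  Lre_b IH (LK LD1_c5 LD2_c41 LD3_c30) (LK LD1_c11 LD2_c13 LD3_c6) Lrfl Lrfl
theorem f181278 : Led Lsl_et (LP (LK LD1_c9 LD2_c2 LD3_c25)) = (LP (LK LD1_c4 LD2_c32 LD3_c23)) :=
  Lre_e IH (LK LD1_c9 LD2_c2 LD3_c25) (LK LD1_c4 LD2_c32 LD3_c23) Lrfl Lrfl
theorem f181279 : Led Lsl_et (LP (LK LD1_c5 LD2_c40 LD3_c20)) = (LP (LK LD1_c11 LD2_c11 LD3_c19)) :=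
  Lre_e IH (LK LD1_c5 LD2_c40 LD3_c20) (LK LD1_c11 LD2_c11 LD3_c19) Lrfl Lrfl
theorem f181280 : Led Lsl_bf (LP (LK LD1_c9 LD2_c2 LD3_c25)) = (LP (LK LD1_c11 LD2_c11 LD3_c19)) :=
  Lgr Lrot96 (Lpr_et (f181278 IH) (Lpr_bt (K31.f181273 IH) (Lpr_et (f181279 IH) (Lpn (LP (LK LD1_c11 LD2_c11 LD3_c19))))))
theorem f423245 : Led Lsl_at (LP (LK LD1_c2 LD2_c46 LD3_c8)) = (LP (LK LD1_c2 LD2_c47 LD3_c50)) :=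
  Lgr Lrot100 (Lpr_af (K31.f423243 IH) (Lpn (LP (LK LD1_c2 LD2_c47 LD3_c50))))
theorem f423314 : Led Lsl_ft (LP (LK LD1_c2 LD2_c47 LD3_c50)) = (LP (LK LD1_c2 LD2_c46 LD3_c6)) :=
  Lgr Lrot101 (Lpe (f423245 IH) (Lpe (K36.f423296 IH) (Lpr_af (K31.f423303 IH) (Lpn (LP (LK LD1_c2 LD2_c46 LD3_c6))))))
theorem f423316 : Led Lsl_ff (LP (LK LD1_c5 LD2_c43 LD3_c38)) = (LP (LK LD1_c5 LD2_c40 LD3_c18)) :=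
  Lgr Lrot19 (Lpr_dt (K31.f382045 IH) (Lpr_ft (f423314 IH) (Lpr_dt (K31.f382016 IH) (Lpn (LP (LK LD1_c5 LD2_c40 LD3_c18))))))
theorem f423318 : Led Lsl_at (LP (LK LD1_c5 LD2_c43 LD3_c38)) = (LP (LK LD1_c5 LD2_c40 LD3_c20)) :=
  Lgr Lrot66 (Lpr_ff (f423316 IH) (Lpe (K31.f423299 IH) (Lpr_ff (K31.f423292 IH) (Lpn (LP (LK LD1_c5 LD2_c40 LD3_c20))))))
theorem f382068 : Led Lsl_et (LP (LK LD1_c11 LD2_c17 LD3_c17)) = (LP (LK LD1_c5 LD2_c43 LD3_c38)) :=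
  Lre_e IH (LK LD1_c11 LD2_c17 LD3_c17) (LK LD1_c5 LD2_c43 LD3_c38) Lrfl Lrfl
theorem f423322 : Led Lsl_af (LP (LK LD1_c11 LD2_c17 LD3_c17)) = (LP (LK LD1_c11 LD2_c11 LD3_c19)) :=
  Lgr Lrot50 (Lpr_et (f382068 IH) (Lpr_at (f423318 IH) (Lpr_et (f181279 IH) (Lpn (LP (LK LD1_c11 LD2_c11 LD3_c19))))))
theorem f423324 : Led Lsl_at (LP (LK LD1_c11 LD2_c17 LD3_c17)) = (LP (LK LD1_c11 LD2_c11 LD3_c19)) :=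
  Lgr Lrot100 (Lpr_af (f423322 IH) (Lpn (LP (LK LD1_c11 LD2_c11 LD3_c19))))
theorem f174905 : Led Lsl_dt (LP (LK LD1_c4 LD2_c32 LD3_c49)) = (LP (LK LD1_c9 LD2_c2 LD3_c60)) :=
  Lre_d IH (LK LD1_c4 LD2_c32 LD3_c49) (LK LD1_c9 LD2_c2 LD3_c60) Lrfl Lrfl
theorem f382056 : Led Lsl_bf (LP (LK LD1_c5 LD2_c43 LD3_c38)) = (LP (LK LD1_c9 LD2_c2 LD3_c60)) :=
  Lgr Lrot93 (Lpr_dt (K31.f382045 IH) (Lpr_bt (K31.f382052 IH) (Lpr_dt (f174905 IH) (Lpn (LP (LK LD1_c9 LD2_c2 LD3_c60))))))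
theorem f382049 : Led Lsl_et (LP (LK LD1_c5 LD2_c43 LD3_c38)) = (LP (LK LD1_c11 LD2_c17 LD3_c17)) :=
  Lre_e IH (LK LD1_c5 LD2_c43 LD3_c38) (LK LD1_c11 LD2_c17 LD3_c17) Lrfl Lrfl
theorem f174910 : Led Lsl_et (LP (LK LD1_c16 LD2_c53 LD3_c41)) = (LP (LK LD1_c9 LD2_c2 LD3_c60)) :=
  Lre_e IH (LK LD1_c16 LD2_c53 LD3_c41) (LK LD1_c9 LD2_c2 LD3_c60) Lrfl Lrfl
theorem f382063 : Led Lsl_bt (LP (LK LD1_c11 LD2_c17 LD3_c17)) = (LP (LK LD1_c16 LD2_c53 LD3_c41)) :=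
  Lgr Lrot119 (Lpe (f382049 IH) (Lpr_bf (f382056 IH) (Lpe (f174910 IH) (Lpn (LP (LK LD1_c16 LD2_c53 LD3_c41))))))
theorem f382065 : Led Lsl_bf (LP (LK LD1_c11 LD2_c17 LD3_c17)) = (LP (LK LD1_c16 LD2_c53 LD3_c41)) :=
  Lgr Lrot24 (Lpr_bt (f382063 IH) (Lpn (LP (LK LD1_c16 LD2_c53 LD3_c41))))
theorem f423482 : Led Lsl_at (LP (LK LD1_c11 LD2_c13 LD3_c6)) = (LP (LK LD1_c16 LD2_c53 LD3_c41)) :=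
  Lgr Lrot67 (Lpe (f423481 IH) (Lpr_af (f423475 IH) (Lpr_bf (f181280 IH) (Lpe (f423324 IH) (Lpr_bf (f382065 IH) (Lpn (LP (LK LD1_c16 LD2_c53 LD3_c41))))))))
theorem f423516 : Led Lsl_af (LP (LK LD1_c11 LD2_c13 LD3_c6)) = (LP (LK LD1_c16 LD2_c53 LD3_c41)) :=
  Lgr Lrot0 (Lpr_at (f423482 IH) (Lpn (LP (LK LD1_c16 LD2_c53 LD3_c41))))
theorem f423522 : Led Lsl_et (LP (LK LD1_c11 LD2_c13 LD3_c6)) = (LP (LK LD1_c5 LD2_c41 LD3_c27)) :=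
  Lre_e IH (LK LD1_c11 LD2_c13 LD3_c6) (LK LD1_c5 LD2_c41 LD3_c27) Lrfl Lrfl
theorem f382069 : Led Lsl_et (LP (LK LD1_c9 LD2_c2 LD3_c60)) = (LP (LK LD1_c16 LD2_c53 LD3_c41)) :=
  Lre_e IH (LK LD1_c9 LD2_c2 LD3_c60) (LK LD1_c16 LD2_c53 LD3_c41) Lrfl Lrfl
theorem f423523 : Led Lsl_at (LP (LK LD1_c5 LD2_c41 LD3_c27)) = (LP (LK LD1_c9 LD2_c2 LD3_c60)) :=
  Lgr Lrot80 (Lpe (f423522 IH) (Lpr_af (f423516 IH) (Lpe (f382069 IH) (Lpn (LP (LK LD1_c9 LD2_c2 LD3_c60))))))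
theorem f174721 : Led Lsl_dt (LP (LK LD1_c2 LD2_c46 LD3_c46)) = (LP (LK LD1_c5 LD2_c41 LD3_c27)) :=
  Lre_d IH (LK LD1_c2 LD2_c46 LD3_c46) (LK LD1_c5 LD2_c41 LD3_c27) Lrfl Lrfl
theorem f423525 : Led Lsl_af (LP (LK LD1_c2 LD2_c46 LD3_c46)) = (LP (LK LD1_c4 LD2_c32 LD3_c49)) :=
  Lgr Lrot117 (Lpr_dt (f174721 IH) (Lpr_at (f423523 IH) (Lpr_dt (f174902 IH) (Lpn (LP (LK LD1_c4 LD2_c32 LD3_c49))))))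
theorem f175283 : Led Lsl_ct (LP (LK LD1_c2 LD2_c46 LD3_c46)) = (LP (LK LD1_c5 LD2_c41 LD3_c26)) :=
  Lre_c IH (LK LD1_c2 LD2_c46 LD3_c46) (LK LD1_c5 LD2_c41 LD3_c26) Lrfl Lrfl
theorem f382077 : Led Lsl_ct (LP (LK LD1_c7 LD2_c59 LD3_c13)) = (LP (LK LD1_c4 LD2_c32 LD3_c49)) :=
  Lgr Lrot59 (Lpr_cf (K31.f382072 IH) (Lpn (LP (LK LD1_c4 LD2_c32 LD3_c49))))
theorem f423531 : Led Lsl_at (LP (LK LD1_c5 LD2_c41 LD3_c26)) = (LP (LK LD1_c7 LD2_c59 LD3_c13)) :=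
  Lgr Lrot107 (Lpe (f175283 IH) (Lpr_af (f423525 IH) (Lpe (f382077 IH) (Lpn (LP (LK LD1_c7 LD2_c59 LD3_c13))))))
theorem f423538 : Led Lsl_ff (LP (LK LD1_c5 LD2_c41 LD3_c26)) = (LP (LK LD1_c7 LD2_c59 LD3_c12)) :=
  Lgr Lrot52 (Lpr_at (f423531 IH) (Lpe (K31.f382048 IH) (Lpe (K31.f174550 IH) (Lpn (LP (LK LD1_c7 LD2_c59 LD3_c12))))))
theorem f174341 : Led Lsl_ct (LP (LK LD1_c5 LD2_c41 LD3_c26)) = (LP (LK LD1_c2 LD2_c46 LD3_c46)) :=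
  Lre_c IH (LK LD1_c5 LD2_c41 LD3_c26) (LK LD1_c2 LD2_c46 LD3_c46) Lrfl Lrfl
theorem f423540 : Led Lsl_ft (LP (LK LD1_c2 LD2_c46 LD3_c46)) = (LP (LK LD1_c4 LD2_c32 LD3_c24)) :=
  Lgr Lrot4 (Lpe (f174341 IH) (Lpr_ff (f423538 IH) (Lpr_cf (K30.f174540 IH) (Lpn (LP (LK LD1_c4 LD2_c32 LD3_c24))))))
theorem f174722 : Led Lsl_dt (LP (LK LD1_c5 LD2_c41 LD3_c27)) = (LP (LK LD1_c2 LD2_c46 LD3_c46)) :=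
  Lre_d IH (LK LD1_c5 LD2_c41 LD3_c27) (LK LD1_c2 LD2_c46 LD3_c46) Lrfl Lrfl
theorem f174562 : Led Lsl_dt (LP (LK LD1_c4 LD2_c32 LD3_c24)) = (LP (LK LD1_c9 LD2_c2 LD3_c26)) :=
  Lre_d IH (LK LD1_c4 LD2_c32 LD3_c24) (LK LD1_c9 LD2_c2 LD3_c26) Lrfl Lrfl
theorem f423560 : Led Lsl_ff (LP (LK LD1_c5 LD2_c41 LD3_c27)) = (LP (LK LD1_c9 LD2_c2 LD3_c26)) :=
  Lgr Lrot19 (Lpr_dt (f174722 IH) (Lpr_ft (f423540 IH) (Lpr_dt (f174562 IH) (Lpn (LP (LK LD1_c9 LD2_c2 LD3_c26))))))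
theorem f547475 : Led Lsl_gf (LP (LK LD1_c5 LD2_c46 LD3_c53)) = (LP (LK LD1_c9 LD2_c2 LD3_c26)) :=
  Lgr Lrot47 (Lpr_gt (f547473 IH) (Lpe (f423523 IH) (Lpr_ff (f423560 IH) (Lpn (LP (LK LD1_c9 LD2_c2 LD3_c26))))))
theorem f174771 : Led Lsl_bt (LP (LK LD1_c2 LD2_c13 LD3_c33)) = (LP (LK LD1_c4 LD2_c33 LD3_c10)) :=
  Lre_b IH (LK LD1_c2 LD2_c13 LD3_c33) (LK LD1_c4 LD2_c33 LD3_c10) Lrfl Lrfl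
theorem f547392 : Led Lsl_ft (LP (LK LD1_c4 LD2_c33 LD3_c10)) = (LP (LK LD1_c9 LD2_c3 LD3_c28)) :=
  Lgr Lrot75 (Lpe (f174771 IH) (Lpr_ff (f547390 IH) (Lpe (K9.f172342 IH) (Lpn (LP (LK LD1_c9 LD2_c3 LD3_c28))))))
theorem f547471 : Led Lsl_af (LP (LK LD1_c5 LD2_c46 LD3_c53)) = (LP (LK LD1_c9 LD2_c3 LD3_c28)) :=
  Lgr Lrot45 (Lpr_ft (f412356 IH) (Lpr_at (f547467 IH) (Lpr_ft (f547392 IH) (Lpn (LP (LK LD1_c9 LD2_c3 LD3_c28))))))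
theorem f547481 : Led Lsl_gt (LP (LK LD1_c4 LD2_c33 LD3_c10)) = (LP (LK LD1_c9 LD2_c2 LD3_c26)) :=
  Lgr Lrot5 (Lpr_ft (f547392 IH) (Lpe (f547471 IH) (Lpr_gf (f547475 IH) (Lpn (LP (LK LD1_c9 LD2_c2 LD3_c26))))))
theorem f112362 : Led Lsl_et (LP (LK LD1_c0 LD2_c40 LD3_c57)) = (LP (LK LD1_c1 LD2_c28 LD3_c34)) :=
  Lre_e IH (LK LD1_c0 LD2_c40 LD3_c57) (LK LD1_c1 LD2_c28 LD3_c34) Lrfl Lrfl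
theorem f112370 : Led Lsl_gt (LP (LK LD1_c2 LD2_c15 LD3_c21)) = (LP (LK LD1_c1 LD2_c4 LD3_c45)) :=
  Lre_g IH (LK LD1_c2 LD2_c15 LD3_c21) (LK LD1_c1 LD2_c4 LD3_c45) Lrfl Lrfl
theorem f547484 : Led Lsl_ef (LP (LK LD1_c2 LD2_c15 LD3_c21)) = (LP (LK LD1_c4 LD2_c32 LD3_c24)) :=
  Lgr Lrot114 (Lpr_gt (f112370 IH) (Lpe (K2.f71200 IH) (Lpr_dt (K8.f59894 IH) (Lpr_gt (K4.f112350 IH) (Lpe (K4.f83762 IH) (Lpr_et (f112362 IH) (Lpr_gt (f112363 IH) (Lpr_dt (f547457 IH) (Lpr_gt (f547481 IH) (Lpe (f174562 IH) (Lpn (LP (LK LD1_c4 LD2_c32 LD3_c24)))))))))))))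
def v1627 : LQ := Led Lsl_et (LP (LK LD1_c1 LD2_c22 LD3_c41))
theorem f500421 : Led Lsl_et (LP (LK LD1_c1 LD2_c22 LD3_c41)) = v1627 :=
  Lrfl
theorem f500423 : Led Lsl_ef (LP (LK LD1_c1 LD2_c22 LD3_c41)) = v1627 :=
  Lgr Lrot88 (Lpr_et (f500421 IH) (Lpn v1627))
def v435 : LQ := Led Lsl_et (LP (LK LD1_c0 LD2_c38 LD3_c19))
theorem f452809 : Led Lsl_et (LP (LK LD1_c0 LD2_c38 LD3_c19)) = v435 :=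
  Lrfl
theorem f500424 : Led Lsl_bt v435 = v1627 :=
  Lgr Lrot119 (Lpe (f452809 IH) (Lpe (K4.f81850 IH) (Lpr_ef (f500423 IH) (Lpn v1627))))
theorem f237378 : Led Lsl_bt (LP (LK LD1_c1 LD2_c19 LD3_c49)) = (LP (LK LD1_c2 LD2_c46 LD3_c46)) :=
  Lre_b IH (LK LD1_c1 LD2_c19 LD3_c49) (LK LD1_c2 LD2_c46 LD3_c46) Lrfl Lrfl
theorem f452810 : Led Lsl_ef (LP (LK LD1_c0 LD2_c38 LD3_c19)) = v435 :=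
  Lgr Lrot88 (Lpr_et (f452809 IH) (Lpn v435))
theorem f494403 : Led Lsl_af v435 = K36.v1266 :=
  Lgr Lrot50 (Lpe (f452810 IH) (Lpe (K7.f149030 IH) (Lpr_et (K36.f494402 IH) (Lpn K36.v1266))))
theorem f423473 : Led Lsl_af (LP (LK LD1_c1 LD2_c19 LD3_c49)) = (LP (LK LD1_c2 LD2_c13 LD3_c15)) :=
  Lgr Lrot117 (Lpr_dt (K31.f172614 IH) (Lpr_at (f423465 IH) (Lpr_dt (K30.f181291 IH) (Lpn (LP (LK LD1_c2 LD2_c13 LD3_c15))))))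
theorem f541383 : v435 = (LP (LK LD1_c1 LD2_c19 LD3_c49)) :=
  Lefun (Lecon (Lfl_af (f494403 IH)) (K36.f541380 IH)) (Lfl_af (f423473 IH))
theorem f541389 : v1627 = (LP (LK LD1_c2 LD2_c46 LD3_c46)) :=
  Lefun (Lecon (f500424 IH) (f541383 IH)) (f237378 IH)
theorem f161367 : Led Lsl_ft (LP (LK LD1_c2 LD2_c15 LD3_c33)) = (LP (LK LD1_c2 LD2_c51 LD3_c42)) :=
  Lgr Lrot2 (Lpr_gt (K8.f20418 IH) (Lpr_gt (K8.f161360 IH) (Lpe (K36.f159047 IH) (Lpn (LP (LK LD1_c2 LD2_c51 LD3_c42))))))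
theorem f208725 : Led Lsl_ft (LP (LK LD1_c2 LD2_c15 LD3_c7)) = (LP (LK LD1_c1 LD2_c22 LD3_c41)) :=
  Lgr Lrot101 (Lpe (K36.f159047 IH) (Lpe (f161367 IH) (Lpr_af (K37.f208498 IH) (Lpn (LP (LK LD1_c1 LD2_c22 LD3_c41))))))
theorem f159049 : Led Lsl_et (LP (LK LD1_c4 LD2_c35 LD3_c53)) = (LP (LK LD1_c2 LD2_c15 LD3_c7)) :=
  Lre_e IH (LK LD1_c4 LD2_c35 LD3_c53) (LK LD1_c2 LD2_c15 LD3_c7) Lrfl Lrfl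
theorem f547495 : Led Lsl_ft (LP (LK LD1_c2 LD2_c15 LD3_c21)) = (LP (LK LD1_c4 LD2_c35 LD3_c53)) :=
  Lgr Lrot86 (Lpr_ef (f547484 IH) (Lpe (f423540 IH) (Lpq (f541389 IH) (Lpe (f500421 IH) (Lpe (f208725 IH) (Lpe (f159049 IH) (Lpn (LP (LK LD1_c4 LD2_c35 LD3_c53)))))))))
theorem f198304 : Led Lsl_ct (LP (LK LD1_c4 LD2_c36 LD3_c23)) = (LP (LK LD1_c2 LD2_c15 LD3_c21)) :=
  Lre_c IH (LK LD1_c4 LD2_c36 LD3_c23) (LK LD1_c2 LD2_c15 LD3_c21) Lrfl Lrfl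
theorem f157820 : Led Lsl_et (LP (LK LD1_c3 LD2_c59 LD3_c19)) = (LP (LK LD1_c7 LD2_c59 LD3_c54)) :=
  Lre_e IH (LK LD1_c3 LD2_c59 LD3_c19) (LK LD1_c7 LD2_c59 LD3_c54) Lrfl Lrfl
theorem f161352 : Led Lsl_cf (LP (LK LD1_c4 LD2_c35 LD3_c53)) = (LP (LK LD1_c7 LD2_c59 LD3_c54)) :=
  Lgr Lrot39 (Lpr_et (f159049 IH) (Lpr_ct (K8.f161344 IH) (Lpr_et (f157820 IH) (Lpn (LP (LK LD1_c7 LD2_c59 LD3_c54))))))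
theorem f425880 : Led Lsl_ct (LP (LK LD1_c4 LD2_c35 LD3_c53)) = (LP (LK LD1_c7 LD2_c59 LD3_c54)) :=
  Lgr Lrot59 (Lpr_cf (f161352 IH) (Lpn (LP (LK LD1_c7 LD2_c59 LD3_c54))))
theorem f547497 : Led Lsl_ff (LP (LK LD1_c4 LD2_c36 LD3_c23)) = (LP (LK LD1_c7 LD2_c59 LD3_c54)) :=
  Lgr Lrot23 (Lpr_ct (f198304 IH) (Lpr_ft (f547495 IH) (Lpr_ct (f425880 IH) (Lpn (LP (LK LD1_c7 LD2_c59 LD3_c54))))))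
theorem f210637 : Led Lsl_ct (LP (LK LD1_c2 LD2_c15 LD3_c21)) = (LP (LK LD1_c4 LD2_c36 LD3_c23)) :=
  Lre_c IH (LK LD1_c2 LD2_c15 LD3_c21) (LK LD1_c4 LD2_c36 LD3_c23) Lrfl Lrfl
theorem f547488 : Led Lsl_et (LP (LK LD1_c4 LD2_c36 LD3_c23)) = (LP (LK LD1_c7 LD2_c59 LD3_c12)) :=
  Lgr Lrot158 (Lpe (f210637 IH) (Lpr_ef (f547484 IH) (Lpe (K30.f174546 IH) (Lpn (LP (LK LD1_c7 LD2_c59 LD3_c12))))))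
theorem f208727 : Led Lsl_ff (LP (LK LD1_c3 LD2_c59 LD3_c19)) = (LP (LK LD1_c2 LD2_c53 LD3_c11)) :=
  Lgr Lrot23 (Lpe (K28.f161350 IH) (Lpr_ft (f208725 IH) (Lpr_ct (K4.f81851 IH) (Lpn (LP (LK LD1_c2 LD2_c53 LD3_c11))))))
theorem f547516 : Led Lsl_et (LP (LK LD1_c5 LD2_c41 LD3_c26)) = (LP (LK LD1_c2 LD2_c53 LD3_c11)) :=
  Lgr Lrot69 (Lpr_ff (f423538 IH) (Lpe (f547488 IH) (Lpr_ff (f547497 IH) (Lpe (f157820 IH) (Lpr_ff (f208727 IH) (Lpn (LP (LK LD1_c2 LD2_c53 LD3_c11))))))))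
theorem f547522 : Led Lsl_ef (LP (LK LD1_c5 LD2_c41 LD3_c26)) = (LP (LK LD1_c2 LD2_c53 LD3_c11)) :=
  Lgr Lrot88 (Lpr_et (f547516 IH) (Lpn (LP (LK LD1_c2 LD2_c53 LD3_c11))))
theorem f423542 : Led Lsl_dt (LP (LK LD1_c5 LD2_c41 LD3_c26)) = (LP (LK LD1_c11 LD2_c13 LD3_c4)) :=
  Lre_d IH (LK LD1_c5 LD2_c41 LD3_c26) (LK LD1_c11 LD2_c13 LD3_c4) Lrfl Lrfl
theorem f423552 : Led Lsl_et (LP (LK LD1_c11 LD2_c13 LD3_c4)) = (LP (LK LD1_c20 LD2_c7 LD3_c42)) :=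
  Lre_e IH (LK LD1_c11 LD2_c13 LD3_c4) (LK LD1_c20 LD2_c7 LD3_c42) Lrfl Lrfl
theorem f99544 : Led Lsl_dt (LP (LK LD1_c5 LD2_c53 LD3_c41)) = (LP (LK LD1_c2 LD2_c53 LD3_c11)) :=
  Lre_d IH (LK LD1_c5 LD2_c53 LD3_c41) (LK LD1_c2 LD2_c53 LD3_c11) Lrfl Lrfl
theorem f149270 : Led Lsl_et (LP (LK LD1_c11 LD2_c33 LD3_c20)) = (LP (LK LD1_c5 LD2_c53 LD3_c41)) :=
  Lre_e IH (LK LD1_c11 LD2_c33 LD3_c20) (LK LD1_c5 LD2_c53 LD3_c41) Lrfl Lrfl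
theorem f547526 : Led Lsl_dt (LP (LK LD1_c20 LD2_c7 LD3_c42)) = (LP (LK LD1_c11 LD2_c33 LD3_c20)) :=
  Lgr Lrot77 (Lpe (f423552 IH) (Lpe (f423542 IH) (Lpr_ef (f547522 IH) (Lpe (f99544 IH) (Lpe (f149270 IH) (Lpn (LP (LK LD1_c11 LD2_c33 LD3_c20))))))))
theorem f174342 : Led Lsl_dt (LP (LK LD1_c11 LD2_c13 LD3_c4)) = (LP (LK LD1_c5 LD2_c41 LD3_c26)) :=
  Lre_d IH (LK LD1_c11 LD2_c13 LD3_c4) (LK LD1_c5 LD2_c41 LD3_c26) Lrfl Lrfl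
theorem f382079 : Led Lsl_dt (LP (LK LD1_c7 LD2_c59 LD3_c13)) = (LP (LK LD1_c15 LD2_c3 LD3_c52)) :=
  Lre_d IH (LK LD1_c7 LD2_c59 LD3_c13) (LK LD1_c15 LD2_c3 LD3_c52) Lrfl Lrfl
theorem f423536 : Led Lsl_af (LP (LK LD1_c11 LD2_c13 LD3_c4)) = (LP (LK LD1_c15 LD2_c3 LD3_c52)) :=
  Lgr Lrot117 (Lpr_dt (f174342 IH) (Lpr_at (f423531 IH) (Lpr_dt (f382079 IH) (Lpn (LP (LK LD1_c15 LD2_c3 LD3_c52))))))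
theorem f398570 : Led Lsl_et (LP (LK LD1_c24 LD2_c52 LD3_c61)) = (LP (LK LD1_c15 LD2_c3 LD3_c52)) :=
  Lre_e IH (LK LD1_c24 LD2_c52 LD3_c61) (LK LD1_c15 LD2_c3 LD3_c52) Lrfl Lrfl
theorem f423665 : Led Lsl_at (LP (LK LD1_c20 LD2_c7 LD3_c42)) = (LP (LK LD1_c24 LD2_c52 LD3_c61)) :=
  Lgr Lrot80 (Lpe (f423552 IH) (Lpr_af (f423536 IH) (Lpe (f398570 IH) (Lpn (LP (LK LD1_c24 LD2_c52 LD3_c61))))))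
theorem f423667 : Led Lsl_af (LP (LK LD1_c20 LD2_c7 LD3_c42)) = (LP (LK LD1_c24 LD2_c52 LD3_c61)) :=
  Lgr Lrot0 (Lpr_at (f423665 IH) (Lpn (LP (LK LD1_c24 LD2_c52 LD3_c61))))
theorem f160959 : Led Lsl_et (LP (LK LD1_c7 LD2_c59 LD3_c55)) = (LP (LK LD1_c15 LD2_c4 LD3_c39)) :=
  Lre_e IH (LK LD1_c7 LD2_c59 LD3_c55) (LK LD1_c15 LD2_c4 LD3_c39) Lrfl Lrfl
theorem f208733 : Led Lsl_at (LP (LK LD1_c15 LD2_c4 LD3_c39)) = (LP (LK LD1_c11 LD2_c33 LD3_c20)) :=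
  Lgr Lrot80 (Lpe (f160959 IH) (Lpr_af (K37.f208731 IH) (Lpe (f149270 IH) (Lpn (LP (LK LD1_c11 LD2_c33 LD3_c20))))))
theorem f208737 : Led Lsl_af (LP (LK LD1_c15 LD2_c4 LD3_c39)) = (LP (LK LD1_c11 LD2_c33 LD3_c20)) :=
  Lgr Lrot0 (Lpr_at (f208733 IH) (Lpn (LP (LK LD1_c11 LD2_c33 LD3_c20))))
theorem f547534 : Led Lsl_df (LP (LK LD1_c24 LD2_c52 LD3_c61)) = (LP (LK LD1_c15 LD2_c4 LD3_c39)) :=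
  Lgr Lrot18 (Lpe (f423667 IH) (Lpr_dt (f547526 IH) (Lpe (f208737 IH) (Lpn (LP (LK LD1_c15 LD2_c4 LD3_c39))))))
theorem f547538 : Led Lsl_dt (LP (LK LD1_c24 LD2_c52 LD3_c61)) = (LP (LK LD1_c15 LD2_c4 LD3_c39)) :=
  Lgr Lrot42 (Lpr_df (f547534 IH) (Lpn (LP (LK LD1_c15 LD2_c4 LD3_c39))))
theorem f382093 : Led Lsl_bf (LP (LK LD1_c7 LD2_c59 LD3_c13)) = (LP (LK LD1_c4 LD2_c22 LD3_c52)) :=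
  Lgr Lrot90 (Lpr_ct (f382077 IH) (Lpe (K31.f382054 IH) (Lpr_ct (K31.f382050 IH) (Lpr_bt (K31.f181758 IH) (Lpe (K31.f181756 IH) (Lpn (LP (LK LD1_c4 LD2_c22 LD3_c52))))))))
theorem f398568 : Led Lsl_bf (LP (LK LD1_c8 LD2_c42 LD3_c57)) = (LP (LK LD1_c15 LD2_c3 LD3_c52)) :=
  Lgr Lrot93 (Lpr_dt (K31.f398548 IH) (Lpe (f382093 IH) (Lpr_dt (f382079 IH) (Lpn (LP (LK LD1_c15 LD2_c3 LD3_c52))))))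
theorem f398550 : Led Lsl_et (LP (LK LD1_c8 LD2_c42 LD3_c57)) = (LP (LK LD1_c16 LD2_c19 LD3_c32)) :=
  Lre_e IH (LK LD1_c8 LD2_c42 LD3_c57) (LK LD1_c16 LD2_c19 LD3_c32) Lrfl Lrfl
theorem f398571 : Led Lsl_bt (LP (LK LD1_c16 LD2_c19 LD3_c32)) = (LP (LK LD1_c24 LD2_c52 LD3_c61)) :=
  Lgr Lrot119 (Lpe (f398550 IH) (Lpr_bf (f398568 IH) (Lpe (f398570 IH) (Lpn (LP (LK LD1_c24 LD2_c52 LD3_c61))))))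
theorem f161403 : Led Lsl_et (LP (LK LD1_c15 LD2_c4 LD3_c39)) = (LP (LK LD1_c7 LD2_c59 LD3_c55)) :=
  Lre_e IH (LK LD1_c15 LD2_c4 LD3_c39) (LK LD1_c7 LD2_c59 LD3_c55) Lrfl Lrfl
theorem f161404 : Led Lsl_bt (LP (LK LD1_c8 LD2_c45 LD3_c45)) = (LP (LK LD1_c15 LD2_c4 LD3_c39)) :=
  Lgr Lrot119 (Lpe (K32.f161402 IH) (Lpr_bf (K8.f161392 IH) (Lpe (f161403 IH) (Lpn (LP (LK LD1_c15 LD2_c4 LD3_c39))))))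
theorem f161406 : Led Lsl_bf (LP (LK LD1_c8 LD2_c45 LD3_c45)) = (LP (LK LD1_c15 LD2_c4 LD3_c39)) :=
  Lgr Lrot24 (Lpr_bt (f161404 IH) (Lpn (LP (LK LD1_c15 LD2_c4 LD3_c39))))
theorem f547540 : Led Lsl_df (LP (LK LD1_c16 LD2_c19 LD3_c32)) = (LP (LK LD1_c8 LD2_c45 LD3_c45)) :=
  Lgr Lrot12 (Lpr_bt (f398571 IH) (Lpr_dt (f547538 IH) (Lpe (f161406 IH) (Lpn (LP (LK LD1_c8 LD2_c45 LD3_c45))))))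
theorem f385879 : Led Lsl_et (LP (LK LD1_c16 LD2_c19 LD3_c32)) = (LP (LK LD1_c8 LD2_c42 LD3_c57)) :=
  Lre_e IH (LK LD1_c16 LD2_c19 LD3_c32) (LK LD1_c8 LD2_c42 LD3_c57) Lrfl Lrfl
theorem f547544 : Led Lsl_et (LP (LK LD1_c4 LD2_c22 LD3_c52)) = (LP (LK LD1_c2 LD2_c9 LD3_c45)) :=
  Lgr Lrot71 (Lpe (K31.f398548 IH) (Lpe (f385879 IH) (Lpr_df (f547540 IH) (Lpe (K32.f161402 IH) (Lpr_df (K8.f161414 IH) (Lpn (LP (LK LD1_c2 LD2_c9 LD3_c45))))))))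
theorem f423853 : Led Lsl_af (LP (LK LD1_c4 LD2_c22 LD3_c52)) = (LP (LK LD1_c2 LD2_c47 LD3_c19)) :=
  Lgr Lrot117 (Lpe (K31.f398544 IH) (Lpr_at (K31.f423847 IH) (Lpr_dt (K31.f172477 IH) (Lpn (LP (LK LD1_c2 LD2_c47 LD3_c19))))))
theorem f208330 : Led Lsl_at (LP (LK LD1_c2 LD2_c9 LD3_c45)) = (LP (LK LD1_c1 LD2_c23 LD3_c10)) :=
  Lgr Lrot51 (Lpe (K8.f161400 IH) (Lpr_af (K32.f208325 IH) (Lpe (K6.f81823 IH) (Lpn (LP (LK LD1_c1 LD2_c23 LD3_c10))))))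
def v1649 : LQ := Led Lsl_et (LP (LK LD1_c1 LD2_c23 LD3_c10))
theorem f500558 : Led Lsl_et (LP (LK LD1_c1 LD2_c23 LD3_c10)) = v1649 :=
  Lrfl
theorem f547554 : (LP (LK LD1_c2 LD2_c47 LD3_c19)) = v1649 :=
  (Llr Lrot50 (Lpe (f423853 IH) (Lpr_et (f547544 IH) (Lpr_at (f208330 IH) (Lpr_et (f500558 IH) (Lpn v1649)))))).symm
theorem f500559 : Led Lsl_ef (LP (LK LD1_c1 LD2_c23 LD3_c10)) = v1649 :=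
  Lgr Lrot88 (Lpr_et (f500558 IH) (Lpn v1649))
theorem f547557 : Led Lsl_ff (LP (LK LD1_c8 LD2_c43 LD3_c34)) = (LP (LK LD1_c4 LD2_c24 LD3_c34)) :=
  Lgr Lrot72 (Lpr_et (f281926 IH) (Lpr_ft (f424066 IH) (Lpqs (f547554 IH) (Lpe (f500559 IH) (Lpe (K6.f137837 IH) (Lpr_et (K35.f137666 IH) (Lpn (LP (LK LD1_c4 LD2_c24 LD3_c34)))))))))
theorem f547563 : Led Lsl_ft (LP (LK LD1_c8 LD2_c43 LD3_c34)) = (LP (LK LD1_c4 LD2_c24 LD3_c34)) :=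
  Lgr Lrot48 (Lpr_ff (f547557 IH) (Lpn (LP (LK LD1_c4 LD2_c24 LD3_c34))))
theorem f547567 : Led Lsl_gt (LP (LK LD1_c8 LD2_c43 LD3_c34)) = (LP (LK LD1_c4 LD2_c37 LD3_c5)) :=
  Lgr Lrot5 (Lpr_ft (f547563 IH) (Lpr_at (K6.f137820 IH) (Lpr_gf (K37.f541431 IH) (Lpn (LP (LK LD1_c4 LD2_c37 LD3_c5))))))
theorem f398505 : Led Lsl_et (LP (LK LD1_c4 LD2_c22 LD3_c51)) = (LP (LK LD1_c8 LD2_c43 LD3_c34)) :=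
  Lre_e IH (LK LD1_c4 LD2_c22 LD3_c51) (LK LD1_c8 LD2_c43 LD3_c34) Lrfl Lrfl
theorem f547571 : Led Lsl_ef (LP (LK LD1_c4 LD2_c22 LD3_c30)) = (LP (LK LD1_c3 LD2_c4 LD3_c56)) :=
  Lgr Lrot167 (Lpr_gt (f173334 IH) (Lpr_dt (K18.f173337 IH) (Lpr_gt (K31.f178968 IH) (Lpr_df (K31.f398494 IH) (Lpr_et (f398505 IH) (Lpr_gt (f547567 IH) (Lpe (K35.f157224 IH) (Lpr_dt (K6.f141246 IH) (Lpe (K8.f157209 IH) (Lpe (K36.f132506 IH) (Lpn (LP (LK LD1_c3 LD2_c4 LD3_c56)))))))))))))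
theorem f547575 : Led Lsl_et (LP (LK LD1_c4 LD2_c22 LD3_c30)) = (LP (LK LD1_c3 LD2_c4 LD3_c56)) :=
  Lgr Lrot87 (Lpr_ef (f547571 IH) (Lpn (LP (LK LD1_c3 LD2_c4 LD3_c56))))
theorem f443858 : Led Lsl_ft (LP (LK LD1_c2 LD2_c49 LD3_c10)) = (LP (LK LD1_c1 LD2_c20 LD3_c43)) :=
  Lre_f IH (LK LD1_c2 LD2_c49 LD3_c10) (LK LD1_c1 LD2_c20 LD3_c43) Lrfl Lrfl
theorem f73122 : Led Lsl_at (LP (LK LD1_c1 LD2_c20 LD3_c43)) = (LP (LK LD1_c2 LD2_c49 LD3_c7)) :=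
  Lre_a IH (LK LD1_c1 LD2_c20 LD3_c43) (LK LD1_c2 LD2_c49 LD3_c7) Lrfl Lrfl
theorem f547819 : Led Lsl_gt (LP (LK LD1_c2 LD2_c26 LD3_c20)) = (LP (LK LD1_c2 LD2_c49 LD3_c7)) :=
  Lgr Lrot46 (Lpr_gf (K35.f547815 IH) (Lpr_ft (f443858 IH) (Lpr_at (f73122 IH) (Lpn (LP (LK LD1_c2 LD2_c49 LD3_c7))))))
theorem f172764 : Led Lsl_gt (LP (LK LD1_c5 LD2_c42 LD3_c43)) = (LP (LK LD1_c2 LD2_c47 LD3_c21)) :=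
  Lre_g IH (LK LD1_c5 LD2_c42 LD3_c43) (LK LD1_c2 LD2_c47 LD3_c21) Lrfl Lrfl
theorem f549525 : Led Lsl_dt (LP (LK LD1_c4 LD2_c22 LD3_c30)) = (LP (LK LD1_c5 LD2_c42 LD3_c43)) :=
  Lgr Lrot57 (Lpr_gf (f385860 IH) (Lpe (K18.f168271 IH) (Lpr_gt (f547819 IH) (Lpr_dt (f549518 IH) (Lpr_gt (K36.f172746 IH) (Lpr_dt (K16.f172745 IH) (Lpe (K36.f172415 IH) (Lpe (K16.f172742 IH) (Lpe (f172764 IH) (Lpn (LP (LK LD1_c5 LD2_c42 LD3_c43))))))))))))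
theorem f280479 : Led Lsl_ff (LP (LK LD1_c5 LD2_c42 LD3_c34)) = (LP (LK LD1_c8 LD2_c43 LD3_c35)) :=
  Lgr Lrot3 (Lpr_ft (K30.f280474 IH) (Lpn (LP (LK LD1_c8 LD2_c43 LD3_c35))))
theorem f172831 : Led Lsl_at (LP (LK LD1_c5 LD2_c42 LD3_c34)) = (LP (LK LD1_c2 LD2_c47 LD3_c21)) :=
  Lre_a IH (LK LD1_c5 LD2_c42 LD3_c34) (LK LD1_c2 LD2_c47 LD3_c21) Lrfl Lrfl
theorem f280486 : Led Lsl_gf (LP (LK LD1_c5 LD2_c42 LD3_c43)) = (LP (LK LD1_c8 LD2_c43 LD3_c35)) :=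
  Lgr Lrot47 (Lpr_gt (f172764 IH) (Lpe (f172831 IH) (Lpr_ff (f280479 IH) (Lpn (LP (LK LD1_c8 LD2_c43 LD3_c35))))))
theorem f549582 : Led Lsl_et (LP (LK LD1_c4 LD2_c22 LD3_c53)) = (LP (LK LD1_c2 LD2_c13 LD3_c26)) :=
  Lgr Lrot122 (Lpr_dt (K16.f181772 IH) (Lpe (f280486 IH) (Lpe (f549525 IH) (Lpr_et (f547575 IH) (Lpqs (f537785 IH) (Lpe (f506292 IH) (Lpr_dt (f112479 IH) (Lpr_gt (K36.f542070 IH) (Lpe (K7.f79958 IH) (Lpr_et (f549577 IH) (Lpr_gt (f549572 IH) (Lpn (LP (LK LD1_c2 LD2_c13 LD3_c26))))))))))))))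
theorem f237252 : Led Lsl_bt (LP (LK LD1_c4 LD2_c22 LD3_c54)) = (LP (LK LD1_c2 LD2_c8 LD3_c53)) :=
  Lre_b IH (LK LD1_c4 LD2_c22 LD3_c54) (LK LD1_c2 LD2_c8 LD3_c53) Lrfl Lrfl
theorem f241638 : Led Lsl_ft (LP (LK LD1_c2 LD2_c47 LD3_c21)) = (LP (LK LD1_c4 LD2_c22 LD3_c54)) :=
  Lgr Lrot75 (Lpe (K16.f172743 IH) (Lpr_ff (K13.f241636 IH) (Lpe (f237252 IH) (Lpn (LP (LK LD1_c4 LD2_c22 LD3_c54))))))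
theorem f172762 : Led Lsl_gt (LP (LK LD1_c2 LD2_c47 LD3_c21)) = (LP (LK LD1_c5 LD2_c42 LD3_c42)) :=
  Lre_g IH (LK LD1_c2 LD2_c47 LD3_c21) (LK LD1_c5 LD2_c42 LD3_c42) Lrfl Lrfl
theorem f241596 : Led Lsl_at (LP (LK LD1_c4 LD2_c22 LD3_c54)) = (LP (LK LD1_c8 LD2_c43 LD3_c35)) :=
  Lre_a IH (LK LD1_c4 LD2_c22 LD3_c54) (LK LD1_c8 LD2_c43 LD3_c35) Lrfl Lrfl
theorem f418018 : Led Lsl_gt (LP (LK LD1_c5 LD2_c42 LD3_c42)) = (LP (LK LD1_c8 LD2_c43 LD3_c35)) :=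
  Lgr Lrot46 (Lpe (f172762 IH) (Lpr_ft (f241638 IH) (Lpr_at (f241596 IH) (Lpn (LP (LK LD1_c8 LD2_c43 LD3_c35))))))
theorem f34974 : Led Lsl_dt (LP (LK LD1_c9 LD2_c7 LD3_c23)) = (LP (LK LD1_c4 LD2_c35 LD3_c25)) :=
  Lre_d IH (LK LD1_c9 LD2_c7 LD3_c23) (LK LD1_c4 LD2_c35 LD3_c25) Lrfl Lrfl
theorem f34915 : Led Lsl_at (LP (LK LD1_c2 LD2_c14 LD3_c60)) = (LP (LK LD1_c4 LD2_c35 LD3_c25)) :=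
  Lre_a IH (LK LD1_c2 LD2_c14 LD3_c60) (LK LD1_c4 LD2_c35 LD3_c25) Lrfl Lrfl
theorem f34916 : Led Lsl_ct (LP (LK LD1_c4 LD2_c35 LD3_c25)) = (LP (LK LD1_c8 LD2_c38 LD3_c13)) :=
  Lgr Lrot111 (Lpe (f34915 IH) (Lpr_cf (K2.f34895 IH) (Lpe (K37.f31764 IH) (Lpn (LP (LK LD1_c8 LD2_c38 LD3_c13))))))
theorem f34960 : Led Lsl_dt (LP (LK LD1_c16 LD2_c10 LD3_c30)) = (LP (LK LD1_c8 LD2_c38 LD3_c13)) :=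
  Lre_d IH (LK LD1_c16 LD2_c10 LD3_c30) (LK LD1_c8 LD2_c38 LD3_c13) Lrfl Lrfl
theorem f34976 : Led Lsl_gt (LP (LK LD1_c8 LD2_c38 LD3_c18)) = (LP (LK LD1_c16 LD2_c10 LD3_c30)) :=
  Lre_g IH (LK LD1_c8 LD2_c38 LD3_c18) (LK LD1_c16 LD2_c10 LD3_c30) Lrfl Lrfl
theorem f56555 : Led Lsl_ct (LP (LK LD1_c2 LD2_c26 LD3_c17)) = (LP (LK LD1_c1 LD2_c10 LD3_c25)) :=
  Lre_c IH (LK LD1_c2 LD2_c26 LD3_c17) (LK LD1_c1 LD2_c10 LD3_c25) Lrfl Lrfl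
theorem f297035 : Led Lsl_ft (LP (LK LD1_c2 LD2_c8 LD3_c42)) = (LP (LK LD1_c2 LD2_c26 LD3_c17)) :=
  Lgr Lrot4 (Lpe (K18.f173273 IH) (Lpr_ff (K18.f297033 IH) (Lpe (f56555 IH) (Lpn (LP (LK LD1_c2 LD2_c26 LD3_c17))))))
theorem f173332 : Led Lsl_gt (LP (LK LD1_c2 LD2_c8 LD3_c42)) = (LP (LK LD1_c4 LD2_c22 LD3_c29)) :=
  Lre_g IH (LK LD1_c2 LD2_c8 LD3_c42) (LK LD1_c4 LD2_c22 LD3_c29) Lrfl Lrfl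
theorem f168279 : Led Lsl_at (LP (LK LD1_c2 LD2_c26 LD3_c17)) = (LP (LK LD1_c4 LD2_c56 LD3_c53)) :=
  Lre_a IH (LK LD1_c2 LD2_c26 LD3_c17) (LK LD1_c4 LD2_c56 LD3_c53) Lrfl Lrfl
theorem f407096 : Led Lsl_gt (LP (LK LD1_c4 LD2_c22 LD3_c29)) = (LP (LK LD1_c4 LD2_c56 LD3_c53)) :=
  Lgr Lrot46 (Lpe (f173332 IH) (Lpr_ft (f297035 IH) (Lpr_at (f168279 IH) (Lpn (LP (LK LD1_c4 LD2_c56 LD3_c53))))))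
theorem f407098 : Led Lsl_et (LP (LK LD1_c8 LD2_c42 LD3_c53)) = (LP (LK LD1_c4 LD2_c22 LD3_c29)) :=
  Lre_e IH (LK LD1_c8 LD2_c42 LD3_c53) (LK LD1_c4 LD2_c22 LD3_c29) Lrfl Lrfl
theorem f34875 : Led Lsl_dt (LP (LK LD1_c2 LD2_c7 LD3_c34)) = (LP (LK LD1_c4 LD2_c20 LD3_c13)) :=
  Lre_d IH (LK LD1_c2 LD2_c7 LD3_c34) (LK LD1_c4 LD2_c20 LD3_c13) Lrfl Lrfl
theorem f32006 : Led Lsl_gt (LP (LK LD1_c4 LD2_c20 LD3_c13)) = (LP (LK LD1_c8 LD2_c38 LD3_c18)) :=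
  Lre_g IH (LK LD1_c4 LD2_c20 LD3_c13) (LK LD1_c8 LD2_c38 LD3_c18) Lrfl Lrfl
theorem f547552 : Led Lsl_dt (LP (LK LD1_c8 LD2_c42 LD3_c53)) = (LP (LK LD1_c8 LD2_c38 LD3_c18)) :=
  Lgr Lrot37 (Lpr_et (f407098 IH) (Lpr_gt (f407096 IH) (Lpr_dt (K18.f168272 IH) (Lpe (K31.f385872 IH) (Lpr_df (K31.f398544 IH) (Lpr_et (f547544 IH) (Lpr_gt (K6.f34880 IH) (Lpr_ef (K2.f34848 IH) (Lpr_dt (f34875 IH) (Lpr_gt (f32006 IH) (Lpn (LP (LK LD1_c8 LD2_c38 LD3_c18)))))))))))))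
theorem f547836 : Led Lsl_gf (LP (LK LD1_c8 LD2_c42 LD3_c53)) = (LP (LK LD1_c5 LD2_c12 LD3_c27)) :=
  Lgr Lrot144 (Lpr_dt (f547552 IH) (Lpr_gt (f34976 IH) (Lpr_dt (f34960 IH) (Lpe (f34916 IH) (Lpe (f34974 IH) (Lpe (K36.f34975 IH) (Lpr_df (K36.f547821 IH) (Lpr_gf (f547181 IH) (Lpe (K36.f212068 IH) (Lpn (LP (LK LD1_c5 LD2_c12 LD3_c27))))))))))))
theorem f547845 : Led Lsl_et (LP (LK LD1_c4 LD2_c22 LD3_c29)) = (LP (LK LD1_c8 LD2_c42 LD3_c53)) :=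
  Lre_e IH (LK LD1_c4 LD2_c22 LD3_c29) (LK LD1_c8 LD2_c42 LD3_c53) Lrfl Lrfl
theorem f549589 : Led Lsl_df (LP (LK LD1_c5 LD2_c42 LD3_c42)) = (LP (LK LD1_c4 LD2_c22 LD3_c29)) :=
  Lgr Lrot170 (Lpr_gt (f418018 IH) (Lpe (K16.f181772 IH) (Lpr_et (f549582 IH) (Lpr_gt (K31.f174811 IH) (Lpr_dt (f174845 IH) (Lpr_gt (f547158 IH) (Lpe (f212086 IH) (Lpr_et (f212087 IH) (Lpe (f547836 IH) (Lpe (f547845 IH) (Lpn (LP (LK LD1_c4 LD2_c22 LD3_c29)))))))))))))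
theorem f172836 : Led Lsl_et (LP (LK LD1_c1 LD2_c20 LD3_c0)) = (LP (LK LD1_c2 LD2_c47 LD3_c22)) :=
  Lre_e IH (LK LD1_c1 LD2_c20 LD3_c0) (LK LD1_c2 LD2_c47 LD3_c22) Lrfl Lrfl
theorem f547839 : Led Lsl_gt (LP (LK LD1_c8 LD2_c42 LD3_c53)) = (LP (LK LD1_c9 LD2_c14 LD3_c61)) :=
  Lgr Lrot46 (Lpr_gf (f547836 IH) (Lpr_ft (K36.f542808 IH) (Lpr_at (K36.f542807 IH) (Lpn (LP (LK LD1_c9 LD2_c14 LD3_c61))))))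
theorem f542792 : Led Lsl_dt (LP (LK LD1_c9 LD2_c14 LD3_c61)) = (LP (LK LD1_c17 LD2_c9 LD3_c23)) :=
  Lre_d IH (LK LD1_c9 LD2_c14 LD3_c61) (LK LD1_c17 LD2_c9 LD3_c23) Lrfl Lrfl
theorem f542823 : Led Lsl_at (LP (LK LD1_c9 LD2_c15 LD3_c3)) = (LP (LK LD1_c17 LD2_c9 LD3_c23)) :=
  Lre_a IH (LK LD1_c9 LD2_c15 LD3_c3) (LK LD1_c17 LD2_c9 LD3_c23) Lrfl Lrfl
theorem f542824 : Led Lsl_ft (LP (LK LD1_c17 LD2_c9 LD3_c23)) = (LP (LK LD1_c9 LD2_c14 LD3_c60)) :=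
  Lre_f IH (LK LD1_c17 LD2_c9 LD3_c23) (LK LD1_c9 LD2_c14 LD3_c60) Lrfl Lrfl
theorem f542825 : Led Lsl_af (LP (LK LD1_c10 LD2_c15 LD3_c23)) = (LP (LK LD1_c9 LD2_c14 LD3_c60)) :=
  Lgr Lrot45 (Lpr_ft (K36.f542821 IH) (Lpr_at (f542823 IH) (Lpr_ft (f542824 IH) (Lpn (LP (LK LD1_c9 LD2_c14 LD3_c60))))))
theorem f544901 : Led Lsl_gt (LP (LK LD1_c17 LD2_c9 LD3_c23)) = (LP (LK LD1_c10 LD2_c5 LD3_c25)) :=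
  Lgr Lrot5 (Lpr_ft (f542824 IH) (Lpe (f542825 IH) (Lpr_gf (f544899 IH) (Lpn (LP (LK LD1_c10 LD2_c5 LD3_c25))))))
theorem f549603 : Led Lsl_ef (LP (LK LD1_c5 LD2_c42 LD3_c47)) = (LP (LK LD1_c5 LD2_c7 LD3_c32)) :=
  Lgr Lrot114 (Lpr_gt (f172737 IH) (Lpe (f172836 IH) (Lpr_dt (K16.f172833 IH) (Lpr_gt (f172762 IH) (Lpr_df (f549589 IH) (Lpr_et (f547845 IH) (Lpr_gt (f547839 IH) (Lpr_dt (f542792 IH) (Lpr_gt (f544901 IH) (Lpe (f387112 IH) (Lpn (LP (LK LD1_c5 LD2_c7 LD3_c32)))))))))))))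
theorem f549613 : Led Lsl_et (LP (LK LD1_c5 LD2_c42 LD3_c47)) = (LP (LK LD1_c5 LD2_c7 LD3_c32)) :=
  Lgr Lrot87 (Lpr_ef (f549603 IH) (Lpn (LP (LK LD1_c5 LD2_c7 LD3_c32))))
theorem f546904 : Led Lsl_df (LP (LK LD1_c3 LD2_c32 LD3_c35)) = (LP (LK LD1_c5 LD2_c42 LD3_c47)) :=
  Lgr Lrot12 (Lpr_bt (K3.f109544 IH) (Lpr_dt (K37.f546867 IH) (Lpr_bt (f546896 IH) (Lpn (LP (LK LD1_c5 LD2_c42 LD3_c47))))))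
theorem f92447 : Led Lsl_dt (LP (LK LD1_c3 LD2_c32 LD3_c37)) = (LP (LK LD1_c1 LD2_c42 LD3_c61)) :=
  Lre_d IH (LK LD1_c3 LD2_c32 LD3_c37) (LK LD1_c1 LD2_c42 LD3_c61) Lrfl Lrfl
theorem f31983 : Led Lsl_at (LP (LK LD1_c4 LD2_c20 LD3_c13)) = (LP (LK LD1_c8 LD2_c38 LD3_c17)) :=
  Lre_a IH (LK LD1_c4 LD2_c20 LD3_c13) (LK LD1_c8 LD2_c38 LD3_c17) Lrfl Lrfl
theorem f34935 : Led Lsl_ft (LP (LK LD1_c8 LD2_c38 LD3_c22)) = (LP (LK LD1_c4 LD2_c20 LD3_c13)) :=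
  Lre_f IH (LK LD1_c8 LD2_c38 LD3_c22) (LK LD1_c4 LD2_c20 LD3_c13) Lrfl Lrfl
theorem f149597 : Led Lsl_gt (LP (LK LD1_c8 LD2_c38 LD3_c22)) = (LP (LK LD1_c12 LD2_c22 LD3_c26)) :=
  Lgr Lrot5 (Lpr_ft (f34935 IH) (Lpr_at (f31983 IH) (Lpr_gf (K37.f149594 IH) (Lpn (LP (LK LD1_c12 LD2_c22 LD3_c26))))))
theorem f542324 : Led Lsl_gt (LP (LK LD1_c3 LD2_c9 LD3_c60)) = (LP (LK LD1_c2 LD2_c17 LD3_c0)) :=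
  Lgr Lrot137 (Lpe (K37.f149592 IH) (Lpr_dt (K37.f149593 IH) (Lpe (f149597 IH) (Lpe (K2.f34946 IH) (Lpr_et (K2.f81815 IH) (Lpr_gf (K37.f542321 IH) (Lpe (K2.f72265 IH) (Lpr_dt (K7.f72261 IH) (Lpe (K36.f141195 IH) (Lpe (K7.f79949 IH) (Lpn (LP (LK LD1_c2 LD2_c17 LD3_c0)))))))))))))
theorem f549620 : Led Lsl_et (LP (LK LD1_c3 LD2_c32 LD3_c37)) = (LP (LK LD1_c2 LD2_c17 LD3_c0)) :=
  Lgr Lrot122 (Lpr_dt (f92447 IH) (Lpr_gt (K3.f10785 IH) (Lpr_df (f546904 IH) (Lpr_et (f549613 IH) (Lpe (K37.f387114 IH) (Lpr_dt (K2.f34946 IH) (Lpr_gt (f149597 IH) (Lpe (K37.f149593 IH) (Lpr_et (K37.f149592 IH) (Lpr_gt (f542324 IH) (Lpn (LP (LK LD1_c2 LD2_c17 LD3_c0)))))))))))))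
theorem f109230 : Led Lsl_bt (LP (LK LD1_c3 LD2_c45 LD3_c46)) = (LP (LK LD1_c7 LD2_c0 LD3_c18)) :=
  Lgr Lrot62 (Lpe (K4.f103792 IH) (Lpe (K4.f103619 IH) (Lpr_af (K3.f109226 IH) (Lpe (K2.f17787 IH) (Lpe (K7.f17902 IH) (Lpn (LP (LK LD1_c7 LD2_c0 LD3_c18))))))))
theorem f111489 : Led Lsl_ff (LP (LK LD1_c3 LD2_c45 LD3_c40)) = (LP (LK LD1_c7 LD2_c0 LD3_c18)) :=
  Lgr Lrot25 (Lpr_bt (K4.f111485 IH) (Lpr_ft (K4.f103781 IH) (Lpr_bt (f109230 IH) (Lpn (LP (LK LD1_c7 LD2_c0 LD3_c18))))))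
theorem f543975 : Led Lsl_ct (LP (LK LD1_c2 LD2_c17 LD3_c1)) = (LP (LK LD1_c3 LD2_c32 LD3_c37)) :=
  Lgr Lrot53 (Lpe (K35.f80180 IH) (Lpe (K35.f80173 IH) (Lpr_df (K37.f543969 IH) (Lpr_cf (K4.f111847 IH) (Lpe (K4.f89567 IH) (Lpe (f111489 IH) (Lpr_at (K8.f92448 IH) (Lpr_cf (K4.f92430 IH) (Lpe (f92447 IH) (Lpn (LP (LK LD1_c3 LD2_c32 LD3_c37))))))))))))
theorem f92479 : Led Lsl_dt (LP (LK LD1_c1 LD2_c42 LD3_c61)) = (LP (LK LD1_c3 LD2_c32 LD3_c37)) :=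
  Lre_d IH (LK LD1_c1 LD2_c42 LD3_c61) (LK LD1_c3 LD2_c32 LD3_c37) Lrfl Lrfl
theorem f172736 : Led Lsl_gt (LP (LK LD1_c2 LD2_c47 LD3_c22)) = (LP (LK LD1_c5 LD2_c42 LD3_c46)) :=
  Lre_g IH (LK LD1_c2 LD2_c47 LD3_c22) (LK LD1_c5 LD2_c42 LD3_c46) Lrfl Lrfl
theorem f549506 : Led Lsl_df (LP (LK LD1_c3 LD2_c32 LD3_c14)) = (LP (LK LD1_c5 LD2_c42 LD3_c46)) :=
  Lgr Lrot153 (Lpr_gt (K24.f116577 IH) (Lpr_dt (f92479 IH) (Lpe (f543975 IH) (Lpe (K35.f80180 IH) (Lpr_gf (f549504 IH) (Lpe (f549492 IH) (Lpqs (f546908 IH) (Lpe (f495844 IH) (Lpe (K16.f172723 IH) (Lpr_gt (f172736 IH) (Lpn (LP (LK LD1_c5 LD2_c42 LD3_c46)))))))))))))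
theorem f211643 : Led Lsl_gt (LP (LK LD1_c4 LD2_c5 LD3_c35)) = (LP (LK LD1_c8 LD2_c12 LD3_c1)) :=
  Lre_g IH (LK LD1_c4 LD2_c5 LD3_c35) (LK LD1_c8 LD2_c12 LD3_c1) Lrfl Lrfl
theorem f549624 : Led Lsl_et (LP (LK LD1_c5 LD2_c42 LD3_c46)) = (LP (LK LD1_c8 LD2_c12 LD3_c1)) :=
  Lgr Lrot122 (Lpe (f549506 IH) (Lpr_gt (K24.f116577 IH) (Lpe (f92447 IH) (Lpr_et (f549620 IH) (Lpr_gt (K8.f132511 IH) (Lpr_dt (K36.f132506 IH) (Lpr_gt (K8.f157218 IH) (Lpe (K7.f141258 IH) (Lpe (K35.f538619 IH) (Lpr_gt (f211643 IH) (Lpn (LP (LK LD1_c8 LD2_c12 LD3_c1)))))))))))))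
theorem f177119 : Led Lsl_ct (LP (LK LD1_c2 LD2_c30 LD3_c40)) = (LP (LK LD1_c1 LD2_c12 LD3_c20)) :=
  Lre_c IH (LK LD1_c2 LD2_c30 LD3_c40) (LK LD1_c1 LD2_c12 LD3_c20) Lrfl Lrfl
theorem f172694 : Led Lsl_ct (LP (LK LD1_c2 LD2_c26 LD3_c25)) = (LP (LK LD1_c1 LD2_c10 LD3_c31)) :=
  Lre_c IH (LK LD1_c2 LD2_c26 LD3_c25) (LK LD1_c1 LD2_c10 LD3_c31) Lrfl Lrfl
theorem f546921 : Led Lsl_bf (LP (LK LD1_c5 LD2_c42 LD3_c46)) = (LP (LK LD1_c3 LD2_c32 LD3_c15)) :=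
  Lgr Lrot34 (Lpe (f172736 IH) (Lpe (K16.f172724 IH) (Lpr_ct (f172694 IH) (Lpr_gf (K13.f241806 IH) (Lpe (f177119 IH) (Lpr_gf (f546913 IH) (Lpe (f98471 IH) (Lpr_ct (f98467 IH) (Lpe (K3.f11537 IH) (Lpr_cf (K3.f97149 IH) (Lpn (LP (LK LD1_c3 LD2_c32 LD3_c15)))))))))))))
theorem f549626 : Led Lsl_bf (LP (LK LD1_c7 LD2_c5 LD3_c34)) = (LP (LK LD1_c8 LD2_c12 LD3_c1)) :=
  Lgr Lrot96 (Lpr_et (K36.f94433 IH) (Lpe (f546921 IH) (Lpr_et (f549624 IH) (Lpn (LP (LK LD1_c8 LD2_c12 LD3_c1))))))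
theorem f34971 : Led Lsl_gt (LP (LK LD1_c4 LD2_c35 LD3_c25)) = (LP (LK LD1_c2 LD2_c14 LD3_c58)) :=
  Lre_g IH (LK LD1_c4 LD2_c35 LD3_c25) (LK LD1_c2 LD2_c14 LD3_c58) Lrfl Lrfl
theorem f34910 : Led Lsl_ct (LP (LK LD1_c4 LD2_c35 LD3_c35)) = (LP (LK LD1_c2 LD2_c14 LD3_c58)) :=
  Lre_c IH (LK LD1_c4 LD2_c35 LD3_c35) (LK LD1_c2 LD2_c14 LD3_c58) Lrfl Lrfl
theorem f34908 : Led Lsl_gt (LP (LK LD1_c2 LD2_c14 LD3_c58)) = (LP (LK LD1_c1 LD2_c4 LD3_c36)) :=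
  Lre_g IH (LK LD1_c2 LD2_c14 LD3_c58) (LK LD1_c1 LD2_c4 LD3_c36) Lrfl Lrfl
theorem f420740 : Led Lsl_bt (LP (LK LD1_c4 LD2_c35 LD3_c35)) = (LP (LK LD1_c5 LD2_c53 LD3_c53)) :=
  Lgr Lrot92 (Lpr_ct (f34910 IH) (Lpr_gt (f34908 IH) (Lpr_cf (K2.f34887 IH) (Lpr_bt (K2.f34781 IH) (Lpr_gt (K13.f31771 IH) (Lpe (K23.f239235 IH) (Lpe (K13.f31593 IH) (Lpe (K11.f201379 IH) (Lpr_bt (K35.f420733 IH) (Lpr_gt (K37.f185755 IH) (Lpn (LP (LK LD1_c5 LD2_c53 LD3_c53)))))))))))))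
theorem f540489 : Led Lsl_gt (LP (LK LD1_c4 LD2_c20 LD3_c38)) = (LP (LK LD1_c7 LD2_c5 LD3_c34)) :=
  Lgr Lrot65 (Lpr_cf (K37.f442672 IH) (Lpr_bt (K37.f71814 IH) (Lpe (K37.f71822 IH) (Lpe (f420740 IH) (Lpr_ct (f34910 IH) (Lpe (f34971 IH) (Lpr_cf (K37.f34942 IH) (Lpe (K36.f34978 IH) (Lpr_bf (K36.f540484 IH) (Lpr_ct (K36.f97156 IH) (Lpn (LP (LK LD1_c7 LD2_c5 LD3_c34)))))))))))))
theorem f421436 : Led Lsl_gt (LP (LK LD1_c4 LD2_c25 LD3_c49)) = (LP (LK LD1_c8 LD2_c49 LD3_c2)) :=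
  Lre_g IH (LK LD1_c4 LD2_c25 LD3_c49) (LK LD1_c8 LD2_c49 LD3_c2) Lrfl Lrfl
theorem f549632 : Led Lsl_cf (LP (LK LD1_c8 LD2_c49 LD3_c2)) = (LP (LK LD1_c8 LD2_c12 LD3_c1)) :=
  Lgr Lrot163 (Lpe (f421436 IH) (Lpe (K36.f421409 IH) (Lpe (K36.f427889 IH) (Lpe (K36.f193356 IH) (Lpr_ct (K11.f187927 IH) (Lpr_gf (K10.f193346 IH) (Lpe (K0.f28636 IH) (Lpr_bt (K36.f28633 IH) (Lpr_gf (K36.f540491 IH) (Lpr_bf (f549626 IH) (Lpn (LP (LK LD1_c8 LD2_c12 LD3_c1)))))))))))))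
theorem f421437 : Led Lsl_gt (LP (LK LD1_c8 LD2_c49 LD3_c2)) = (LP (LK LD1_c4 LD2_c58 LD3_c27)) :=
  Lgr Lrot46 (Lpe (f421436 IH) (Lpr_ft (K37.f421428 IH) (Lpr_at (K37.f421429 IH) (Lpn (LP (LK LD1_c4 LD2_c58 LD3_c27))))))
theorem f427811 : Led Lsl_bt (LP (LK LD1_c5 LD2_c13 LD3_c38)) = (LP (LK LD1_c10 LD2_c17 LD3_c28)) :=
  Lre_b IH (LK LD1_c5 LD2_c13 LD3_c38) (LK LD1_c10 LD2_c17 LD3_c28) Lrfl Lrfl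
theorem f427818 : Led Lsl_ft (LP (LK LD1_c5 LD2_c13 LD3_c38)) = (LP (LK LD1_c4 LD2_c25 LD3_c42)) :=
  Lgr Lrot4 (Lpr_cf (K36.f427807 IH) (Lpe (K37.f138911 IH) (Lpe (K36.f421412 IH) (Lpn (LP (LK LD1_c4 LD2_c25 LD3_c42))))))
theorem f428056 : Led Lsl_ff (LP (LK LD1_c5 LD2_c13 LD3_c38)) = (LP (LK LD1_c4 LD2_c25 LD3_c42)) :=
  Lgr Lrot3 (Lpr_ft (f427818 IH) (Lpn (LP (LK LD1_c4 LD2_c25 LD3_c42))))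
theorem f203352 : Led Lsl_bt (LP (LK LD1_c8 LD2_c48 LD3_c53)) = (LP (LK LD1_c4 LD2_c25 LD3_c42)) :=
  Lre_b IH (LK LD1_c8 LD2_c48 LD3_c53) (LK LD1_c4 LD2_c25 LD3_c42) Lrfl Lrfl
theorem f428058 : Led Lsl_ft (LP (LK LD1_c10 LD2_c17 LD3_c28)) = (LP (LK LD1_c8 LD2_c48 LD3_c53)) :=
  Lgr Lrot75 (Lpe (f427811 IH) (Lpr_ff (f428056 IH) (Lpe (f203352 IH) (Lpn (LP (LK LD1_c8 LD2_c48 LD3_c53))))))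
theorem f542367 : Led Lsl_gf (LP (LK LD1_c5 LD2_c13 LD3_c41)) = (LP (LK LD1_c10 LD2_c17 LD3_c28)) :=
  Lgr Lrot47 (Lpr_gt (K37.f542365 IH) (Lpr_af (K32.f203302 IH) (Lpe (f428058 IH) (Lpn (LP (LK LD1_c10 LD2_c17 LD3_c28))))))
theorem f549634 : Led Lsl_gf (LP (LK LD1_c2 LD2_c14 LD3_c54)) = (LP (LK LD1_c2 LD2_c33 LD3_c48)) :=
  Lgr Lrot129 (Lpr_cf (K37.f34882 IH) (Lpr_bt (K37.f31753 IH) (Lpr_gt (f540489 IH) (Lpr_bf (f549626 IH) (Lpe (f549632 IH) (Lpr_gt (f421437 IH) (Lpe (K36.f427814 IH) (Lpr_bt (f427811 IH) (Lpe (f542367 IH) (Lpr_ct (K37.f418131 IH) (Lpn (LP (LK LD1_c2 LD2_c33 LD3_c48)))))))))))))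
theorem f161078 : Led Lsl_gt (LP (LK LD1_c4 LD2_c35 LD3_c24)) = (LP (LK LD1_c9 LD2_c7 LD3_c21)) :=
  Lre_g IH (LK LD1_c4 LD2_c35 LD3_c24) (LK LD1_c9 LD2_c7 LD3_c21) Lrfl Lrfl
theorem f308151 : Led Lsl_et (LP (LK LD1_c1 LD2_c13 LD3_c52)) = (LP (LK LD1_c2 LD2_c33 LD3_c48)) :=
  Lre_e IH (LK LD1_c1 LD2_c13 LD3_c52) (LK LD1_c2 LD2_c33 LD3_c48) Lrfl Lrfl
theorem f308145 : Led Lsl_dt (LP (LK LD1_c1 LD2_c13 LD3_c52)) = (LP (LK LD1_c2 LD2_c33 LD3_c47)) :=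
  Lre_d IH (LK LD1_c1 LD2_c13 LD3_c52) (LK LD1_c2 LD2_c33 LD3_c47) Lrfl Lrfl
theorem f173318 : Led Lsl_dt (LP (LK LD1_c4 LD2_c22 LD3_c33)) = (LP (LK LD1_c8 LD2_c43 LD3_c0)) :=
  Lre_d IH (LK LD1_c4 LD2_c22 LD3_c33) (LK LD1_c8 LD2_c43 LD3_c0) Lrfl Lrfl
theorem f547577 : Led Lsl_gt (LP (LK LD1_c8 LD2_c43 LD3_c0)) = (LP (LK LD1_c5 LD2_c56 LD3_c22)) :=
  Lgr Lrot112 (Lpe (f173318 IH) (Lpr_et (K35.f173322 IH) (Lpe (f173334 IH) (Lpr_ef (f547571 IH) (Lpr_dt (K36.f132506 IH) (Lpr_gf (K8.f157209 IH) (Lpe (K6.f141246 IH) (Lpr_gf (K7.f142130 IH) (Lpe (f545133 IH) (Lpr_dt (f119836 IH) (Lpn (LP (LK LD1_c5 LD2_c56 LD3_c22)))))))))))))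
theorem f242180 : Led Lsl_bt (LP (LK LD1_c4 LD2_c22 LD3_c37)) = (LP (LK LD1_c8 LD2_c43 LD3_c0)) :=
  Lre_b IH (LK LD1_c4 LD2_c22 LD3_c37) (LK LD1_c8 LD2_c43 LD3_c0) Lrfl Lrfl
theorem f183225 : Led Lsl_bt (LP (LK LD1_c1 LD2_c25 LD3_c49)) = (LP (LK LD1_c3 LD2_c0 LD3_c2)) :=
  Lre_b IH (LK LD1_c1 LD2_c25 LD3_c49) (LK LD1_c3 LD2_c0 LD3_c2) Lrfl Lrfl
theorem f193828 : Led Lsl_ct (LP (LK LD1_c3 LD2_c0 LD3_c2)) = (LP (LK LD1_c6 LD2_c7 LD3_c42)) :=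
  Lre_c IH (LK LD1_c3 LD2_c0 LD3_c2) (LK LD1_c6 LD2_c7 LD3_c42) Lrfl Lrfl
theorem f193829 : Led Lsl_bt (LP (LK LD1_c6 LD2_c7 LD3_c42)) = (LP (LK LD1_c4 LD2_c2 LD3_c15)) :=
  Lgr Lrot128 (Lpe (f193828 IH) (Lpe (f183225 IH) (Lpr_cf (K11.f193820 IH) (Lpr_bf (K12.f177807 IH) (Lpe (K12.f193392 IH) (Lpn (LP (LK LD1_c4 LD2_c2 LD3_c15))))))))
theorem f193831 : Led Lsl_dt (LP (LK LD1_c11 LD2_c57 LD3_c48)) = (LP (LK LD1_c6 LD2_c7 LD3_c42)) :=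
  Lre_d IH (LK LD1_c11 LD2_c57 LD3_c48) (LK LD1_c6 LD2_c7 LD3_c42) Lrfl Lrfl
theorem f193832 : Led Lsl_bf (LP (LK LD1_c11 LD2_c57 LD3_c48)) = (LP (LK LD1_c8 LD2_c4 LD3_c59)) :=
  Lgr Lrot93 (Lpr_dt (f193831 IH) (Lpr_bt (f193829 IH) (Lpr_dt (K10.f33732 IH) (Lpn (LP (LK LD1_c8 LD2_c4 LD3_c59))))))
theorem f193836 : Led Lsl_bt (LP (LK LD1_c11 LD2_c57 LD3_c48)) = (LP (LK LD1_c8 LD2_c4 LD3_c59)) :=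
  Lgr Lrot127 (Lpr_bf (f193832 IH) (Lpn (LP (LK LD1_c8 LD2_c4 LD3_c59))))
theorem f297244 : Led Lsl_ft (LP (LK LD1_c8 LD2_c43 LD3_c0)) = (LP (LK LD1_c11 LD2_c57 LD3_c48)) :=
  Lgr Lrot75 (Lpe (f242180 IH) (Lpr_ff (K18.f297242 IH) (Lpe (f193836 IH) (Lpn (LP (LK LD1_c11 LD2_c57 LD3_c48))))))
theorem f547579 : Led Lsl_at (LP (LK LD1_c11 LD2_c57 LD3_c48)) = (LP (LK LD1_c11 LD2_c38 LD3_c0)) :=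
  Lgr Lrot26 (Lpe (f297244 IH) (Lpr_gt (f547577 IH) (Lpr_gt (f119837 IH) (Lpn (LP (LK LD1_c11 LD2_c38 LD3_c0))))))
theorem f193886 : Led Lsl_et (LP (LK LD1_c21 LD2_c2 LD3_c51)) = (LP (LK LD1_c11 LD2_c57 LD3_c48)) :=
  Lre_e IH (LK LD1_c21 LD2_c2 LD3_c51) (LK LD1_c11 LD2_c57 LD3_c48) Lrfl Lrfl
theorem f545128 : Led Lsl_et (LP (LK LD1_c11 LD2_c38 LD3_c0)) = (LP (LK LD1_c20 LD2_c36 LD3_c47)) :=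
  Lre_e IH (LK LD1_c11 LD2_c38 LD3_c0) (LK LD1_c20 LD2_c36 LD3_c47) Lrfl Lrfl
theorem f547589 : Led Lsl_af (LP (LK LD1_c21 LD2_c2 LD3_c51)) = (LP (LK LD1_c20 LD2_c36 LD3_c47)) :=
  Lgr Lrot50 (Lpr_et (f193886 IH) (Lpr_at (f547579 IH) (Lpr_et (f545128 IH) (Lpn (LP (LK LD1_c20 LD2_c36 LD3_c47))))))
theorem f547591 : Led Lsl_at (LP (LK LD1_c21 LD2_c2 LD3_c51)) = (LP (LK LD1_c20 LD2_c36 LD3_c47)) :=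
  Lgr Lrot100 (Lpr_af (f547589 IH) (Lpn (LP (LK LD1_c20 LD2_c36 LD3_c47))))
theorem f193846 : Led Lsl_dt (LP (LK LD1_c11 LD2_c57 LD3_c47)) = (LP (LK LD1_c21 LD2_c2 LD3_c51)) :=
  Lre_d IH (LK LD1_c11 LD2_c57 LD3_c47) (LK LD1_c21 LD2_c2 LD3_c51) Lrfl Lrfl
theorem f545129 : Led Lsl_et (LP (LK LD1_c5 LD2_c5 LD3_c57)) = (LP (LK LD1_c10 LD2_c2 LD3_c52)) :=
  Lre_e IH (LK LD1_c5 LD2_c5 LD3_c57) (LK LD1_c10 LD2_c2 LD3_c52) Lrfl Lrfl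
theorem f545118 : Led Lsl_dt (LP (LK LD1_c10 LD2_c2 LD3_c51)) = (LP (LK LD1_c5 LD2_c5 LD3_c57)) :=
  Lre_d IH (LK LD1_c10 LD2_c2 LD3_c51) (LK LD1_c5 LD2_c5 LD3_c57) Lrfl Lrfl
theorem f545130 : Led Lsl_et (LP (LK LD1_c18 LD2_c21 LD3_c8)) = (LP (LK LD1_c10 LD2_c2 LD3_c51)) :=
  Lre_e IH (LK LD1_c18 LD2_c21 LD3_c8) (LK LD1_c10 LD2_c2 LD3_c51) Lrfl Lrfl
theorem f545131 : Led Lsl_dt (LP (LK LD1_c20 LD2_c36 LD3_c47)) = (LP (LK LD1_c18 LD2_c21 LD3_c8)) :=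
  Lgr Lrot77 (Lpe (f545128 IH) (Lpr_df (f545123 IH) (Lpe (f545129 IH) (Lpe (f545118 IH) (Lpe (f545130 IH) (Lpn (LP (LK LD1_c18 LD2_c21 LD3_c8))))))))
theorem f547593 : Led Lsl_af (LP (LK LD1_c11 LD2_c57 LD3_c47)) = (LP (LK LD1_c18 LD2_c21 LD3_c8)) :=
  Lgr Lrot117 (Lpr_dt (f193846 IH) (Lpr_at (f547591 IH) (Lpr_dt (f545131 IH) (Lpn (LP (LK LD1_c18 LD2_c21 LD3_c8))))))
theorem f193854 : Led Lsl_et (LP (LK LD1_c11 LD2_c57 LD3_c47)) = (LP (LK LD1_c6 LD2_c7 LD3_c41)) :=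
  Lre_e IH (LK LD1_c11 LD2_c57 LD3_c47) (LK LD1_c6 LD2_c7 LD3_c41) Lrfl Lrfl
theorem f545121 : Led Lsl_et (LP (LK LD1_c10 LD2_c2 LD3_c51)) = (LP (LK LD1_c18 LD2_c21 LD3_c8)) :=
  Lre_e IH (LK LD1_c10 LD2_c2 LD3_c51) (LK LD1_c18 LD2_c21 LD3_c8) Lrfl Lrfl
theorem f547599 : Led Lsl_at (LP (LK LD1_c6 LD2_c7 LD3_c41)) = (LP (LK LD1_c10 LD2_c2 LD3_c51)) :=
  Lgr Lrot80 (Lpe (f193854 IH) (Lpr_af (f547593 IH) (Lpe (f545121 IH) (Lpn (LP (LK LD1_c10 LD2_c2 LD3_c51))))))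
theorem f240052 : Led Lsl_bt (LP (LK LD1_c4 LD2_c1 LD3_c29)) = (LP (LK LD1_c8 LD2_c3 LD3_c34)) :=
  Lre_b IH (LK LD1_c4 LD2_c1 LD3_c29) (LK LD1_c8 LD2_c3 LD3_c34) Lrfl Lrfl
theorem f193840 : Led Lsl_et (LP (LK LD1_c11 LD2_c57 LD3_c48)) = (LP (LK LD1_c21 LD2_c2 LD3_c51)) :=
  Lre_e IH (LK LD1_c11 LD2_c57 LD3_c48) (LK LD1_c21 LD2_c2 LD3_c51) Lrfl Lrfl
theorem f81217 : Led Lsl_et (LP (LK LD1_c15 LD2_c13 LD3_c10)) = (LP (LK LD1_c8 LD2_c4 LD3_c59)) :=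
  Lre_e IH (LK LD1_c15 LD2_c13 LD3_c10) (LK LD1_c8 LD2_c4 LD3_c59) Lrfl Lrfl
theorem f193841 : Led Lsl_bt (LP (LK LD1_c21 LD2_c2 LD3_c51)) = (LP (LK LD1_c15 LD2_c13 LD3_c10)) :=
  Lgr Lrot119 (Lpe (f193840 IH) (Lpr_bf (f193832 IH) (Lpe (f81217 IH) (Lpn (LP (LK LD1_c15 LD2_c13 LD3_c10))))))
theorem f81218 : Led Lsl_dt (LP (LK LD1_c15 LD2_c13 LD3_c10)) = (LP (LK LD1_c8 LD2_c4 LD3_c58)) :=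
  Lre_d IH (LK LD1_c15 LD2_c13 LD3_c10) (LK LD1_c8 LD2_c4 LD3_c58) Lrfl Lrfl
theorem f193847 : Led Lsl_bf (LP (LK LD1_c11 LD2_c57 LD3_c47)) = (LP (LK LD1_c8 LD2_c4 LD3_c58)) :=
  Lgr Lrot93 (Lpr_dt (f193846 IH) (Lpr_bt (f193841 IH) (Lpr_dt (f81218 IH) (Lpn (LP (LK LD1_c8 LD2_c4 LD3_c58))))))
theorem f33726 : Led Lsl_et (LP (LK LD1_c4 LD2_c2 LD3_c14)) = (LP (LK LD1_c8 LD2_c4 LD3_c58)) :=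
  Lre_e IH (LK LD1_c4 LD2_c2 LD3_c14) (LK LD1_c8 LD2_c4 LD3_c58) Lrfl Lrfl
theorem f193855 : Led Lsl_bt (LP (LK LD1_c6 LD2_c7 LD3_c41)) = (LP (LK LD1_c4 LD2_c2 LD3_c14)) :=
  Lgr Lrot119 (Lpe (f193854 IH) (Lpr_bf (f193847 IH) (Lpe (f33726 IH) (Lpn (LP (LK LD1_c4 LD2_c2 LD3_c14))))))
theorem f287332 : Led Lsl_ft (LP (LK LD1_c8 LD2_c3 LD3_c34)) = (LP (LK LD1_c6 LD2_c7 LD3_c41)) :=
  Lgr Lrot75 (Lpe (f240052 IH) (Lpr_ff (K17.f287330 IH) (Lpe (f193855 IH) (Lpn (LP (LK LD1_c6 LD2_c7 LD3_c41))))))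
theorem f197327 : Led Lsl_dt (LP (LK LD1_c8 LD2_c3 LD3_c34)) = (LP (LK LD1_c4 LD2_c1 LD3_c28)) :=
  Lre_d IH (LK LD1_c8 LD2_c3 LD3_c34) (LK LD1_c4 LD2_c1 LD3_c28) Lrfl Lrfl
theorem f56550 : Led Lsl_dt (LP (LK LD1_c2 LD2_c0 LD3_c8)) = (LP (LK LD1_c4 LD2_c5 LD3_c43)) :=
  Lre_d IH (LK LD1_c2 LD2_c0 LD3_c8) (LK LD1_c4 LD2_c5 LD3_c43) Lrfl Lrfl
theorem f168206 : Led Lsl_ct (LP (LK LD1_c4 LD2_c5 LD3_c43)) = (LP (LK LD1_c8 LD2_c12 LD3_c10)) :=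
  Lre_c IH (LK LD1_c4 LD2_c5 LD3_c43) (LK LD1_c8 LD2_c12 LD3_c10) Lrfl Lrfl
theorem f197348 : Led Lsl_dt (LP (LK LD1_c8 LD2_c12 LD3_c10)) = (LP (LK LD1_c15 LD2_c26 LD3_c15)) :=
  Lre_d IH (LK LD1_c8 LD2_c12 LD3_c10) (LK LD1_c15 LD2_c26 LD3_c15) Lrfl Lrfl
theorem f197349 : Led Lsl_ct (LP (LK LD1_c15 LD2_c26 LD3_c15)) = (LP (LK LD1_c25 LD2_c18 LD3_c9)) :=
  Lre_c IH (LK LD1_c15 LD2_c26 LD3_c15) (LK LD1_c25 LD2_c18 LD3_c9) Lrfl Lrfl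
theorem f547610 : Led Lsl_ct (LP (LK LD1_c18 LD2_c21 LD3_c7)) = (LP (LK LD1_c10 LD2_c2 LD3_c51)) :=
  Lre_c IH (LK LD1_c18 LD2_c21 LD3_c7) (LK LD1_c10 LD2_c2 LD3_c51) Lrfl Lrfl
theorem f547611 : Led Lsl_dt (LP (LK LD1_c25 LD2_c18 LD3_c9)) = (LP (LK LD1_c18 LD2_c21 LD3_c7)) :=
  Lgr Lrot120 (Lpe (f197349 IH) (Lpe (f197348 IH) (Lpe (f168206 IH) (Lpe (f56550 IH) (Lpe (K30.f197344 IH) (Lpe (f197327 IH) (Lpr_ft (f287332 IH) (Lpr_at (f547599 IH) (Lpe (f547610 IH) (Lpn (LP (LK LD1_c18 LD2_c21 LD3_c7))))))))))))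
theorem f56008 : Led Lsl_dt (LP (LK LD1_c1 LD2_c25 LD3_c47)) = (LP (LK LD1_c3 LD2_c0 LD3_c1)) :=
  Lre_d IH (LK LD1_c1 LD2_c25 LD3_c47) (LK LD1_c3 LD2_c0 LD3_c1) Lrfl Lrfl
theorem f385359 : Led Lsl_ff (LP (LK LD1_c4 LD2_c5 LD3_c43)) = (LP (LK LD1_c3 LD2_c0 LD3_c1)) :=
  Lgr Lrot19 (Lpr_dt (K18.f56547 IH) (Lpr_ft (K30.f385353 IH) (Lpr_dt (f56008 IH) (Lpn (LP (LK LD1_c3 LD2_c0 LD3_c1))))))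
theorem f56007 : Led Lsl_ct (LP (LK LD1_c6 LD2_c7 LD3_c43)) = (LP (LK LD1_c3 LD2_c0 LD3_c1)) :=
  Lre_c IH (LK LD1_c6 LD2_c7 LD3_c43) (LK LD1_c3 LD2_c0 LD3_c1) Lrfl Lrfl
theorem f385902 : Led Lsl_ft (LP (LK LD1_c8 LD2_c12 LD3_c10)) = (LP (LK LD1_c6 LD2_c7 LD3_c43)) :=
  Lgr Lrot4 (Lpe (f168206 IH) (Lpr_ff (f385359 IH) (Lpe (f56007 IH) (Lpn (LP (LK LD1_c6 LD2_c7 LD3_c43))))))
theorem f418116 : Led Lsl_ct (LP (LK LD1_c5 LD2_c5 LD3_c57)) = (LP (LK LD1_c2 LD2_c30 LD3_c16)) :=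
  Lre_c IH (LK LD1_c5 LD2_c5 LD3_c57) (LK LD1_c2 LD2_c30 LD3_c16) Lrfl Lrfl
theorem f3132 : Led Lsl_dt (LP (LK LD1_c2 LD2_c30 LD3_c16)) = (LP (LK LD1_c5 LD2_c5 LD3_c58)) :=
  Lre_d IH (LK LD1_c2 LD2_c30 LD3_c16) (LK LD1_c5 LD2_c5 LD3_c58) Lrfl Lrfl
theorem f3133 : Led Lsl_ct (LP (LK LD1_c5 LD2_c5 LD3_c58)) = (LP (LK LD1_c10 LD2_c2 LD3_c53)) :=
  Lre_c IH (LK LD1_c5 LD2_c5 LD3_c58) (LK LD1_c10 LD2_c2 LD3_c53) Lrfl Lrfl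
theorem f547618 : Led Lsl_at (LP (LK LD1_c6 LD2_c7 LD3_c43)) = (LP (LK LD1_c10 LD2_c2 LD3_c53)) :=
  Lgr Lrot33 (Lpe (f385902 IH) (Lpr_dt (f197348 IH) (Lpr_ct (f197349 IH) (Lpr_dt (f547611 IH) (Lpr_ct (f547610 IH) (Lpr_dt (f545118 IH) (Lpr_ct (f418116 IH) (Lpr_dt (f3132 IH) (Lpr_ct (f3133 IH) (Lpn (LP (LK LD1_c10 LD2_c2 LD3_c53))))))))))))
theorem f226058 : Led Lsl_dt (LP (LK LD1_c11 LD2_c57 LD3_c50)) = (LP (LK LD1_c6 LD2_c7 LD3_c43)) :=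
  Lre_d IH (LK LD1_c11 LD2_c57 LD3_c50) (LK LD1_c6 LD2_c7 LD3_c43) Lrfl Lrfl
theorem f547613 : Led Lsl_dt (LP (LK LD1_c10 LD2_c2 LD3_c53)) = (LP (LK LD1_c18 LD2_c21 LD3_c9)) :=
  Lre_d IH (LK LD1_c10 LD2_c2 LD3_c53) (LK LD1_c18 LD2_c21 LD3_c9) Lrfl Lrfl
theorem f547624 : Led Lsl_af (LP (LK LD1_c11 LD2_c57 LD3_c50)) = (LP (LK LD1_c18 LD2_c21 LD3_c9)) :=
  Lgr Lrot117 (Lpr_dt (f226058 IH) (Lpr_at (f547618 IH) (Lpr_dt (f547613 IH) (Lpn (LP (LK LD1_c18 LD2_c21 LD3_c9))))))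
theorem f385356 : Led Lsl_ct (LP (LK LD1_c11 LD2_c57 LD3_c50)) = (LP (LK LD1_c21 LD2_c2 LD3_c57)) :=
  Lre_c IH (LK LD1_c11 LD2_c57 LD3_c50) (LK LD1_c21 LD2_c2 LD3_c57) Lrfl Lrfl
theorem f197346 : Led Lsl_ct (LP (LK LD1_c15 LD2_c10 LD3_c17)) = (LP (LK LD1_c8 LD2_c3 LD3_c34)) :=
  Lre_c IH (LK LD1_c15 LD2_c10 LD3_c17) (LK LD1_c8 LD2_c3 LD3_c34) Lrfl Lrfl
theorem f193874 : Led Lsl_ct (LP (LK LD1_c6 LD2_c7 LD3_c41)) = (LP (LK LD1_c11 LD2_c57 LD3_c46)) :=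
  Lre_c IH (LK LD1_c6 LD2_c7 LD3_c41) (LK LD1_c11 LD2_c57 LD3_c46) Lrfl Lrfl
theorem f408515 : Led Lsl_ff (LP (LK LD1_c15 LD2_c10 LD3_c17)) = (LP (LK LD1_c11 LD2_c57 LD3_c46)) :=
  Lgr Lrot23 (Lpr_ct (f197346 IH) (Lpr_ft (f287332 IH) (Lpr_ct (f193874 IH) (Lpn (LP (LK LD1_c11 LD2_c57 LD3_c46))))))
theorem f408521 : Led Lsl_ft (LP (LK LD1_c15 LD2_c10 LD3_c17)) = (LP (LK LD1_c11 LD2_c57 LD3_c46)) :=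
  Lgr Lrot48 (Lpr_ff (f408515 IH) (Lpn (LP (LK LD1_c11 LD2_c57 LD3_c46))))
theorem f197347 : Led Lsl_dt (LP (LK LD1_c24 LD2_c59 LD3_c34)) = (LP (LK LD1_c15 LD2_c10 LD3_c17)) :=
  Lre_d IH (LK LD1_c24 LD2_c59 LD3_c34) (LK LD1_c15 LD2_c10 LD3_c17) Lrfl Lrfl
theorem f385906 : Led Lsl_dt (LP (LK LD1_c11 LD2_c57 LD3_c46)) = (LP (LK LD1_c21 LD2_c2 LD3_c49)) :=
  Lre_d IH (LK LD1_c11 LD2_c57 LD3_c46) (LK LD1_c21 LD2_c2 LD3_c49) Lrfl Lrfl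
theorem f408525 : Led Lsl_ff (LP (LK LD1_c24 LD2_c59 LD3_c34)) = (LP (LK LD1_c21 LD2_c2 LD3_c49)) :=
  Lgr Lrot19 (Lpr_dt (f197347 IH) (Lpr_ft (f408521 IH) (Lpr_dt (f385906 IH) (Lpn (LP (LK LD1_c21 LD2_c2 LD3_c49))))))
theorem f193873 : Led Lsl_dt (LP (LK LD1_c21 LD2_c2 LD3_c49)) = (LP (LK LD1_c11 LD2_c57 LD3_c46)) :=
  Lre_d IH (LK LD1_c21 LD2_c2 LD3_c49) (LK LD1_c11 LD2_c57 LD3_c46) Lrfl Lrfl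
theorem f193870 : Led Lsl_ct (LP (LK LD1_c11 LD2_c57 LD3_c46)) = (LP (LK LD1_c6 LD2_c7 LD3_c41)) :=
  Lre_c IH (LK LD1_c11 LD2_c57 LD3_c46) (LK LD1_c6 LD2_c7 LD3_c41) Lrfl Lrfl
theorem f193876 : Led Lsl_dt (LP (LK LD1_c6 LD2_c7 LD3_c41)) = (LP (LK LD1_c3 LD2_c0 LD3_c0)) :=
  Lre_d IH (LK LD1_c6 LD2_c7 LD3_c41) (LK LD1_c3 LD2_c0 LD3_c0) Lrfl Lrfl
theorem f56005 : Led Lsl_ct (LP (LK LD1_c3 LD2_c0 LD3_c0)) = (LP (LK LD1_c1 LD2_c25 LD3_c47)) :=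
  Lre_c IH (LK LD1_c3 LD2_c0 LD3_c0) (LK LD1_c1 LD2_c25 LD3_c47) Lrfl Lrfl
theorem f183463 : Led Lsl_ct (LP (LK LD1_c3 LD2_c0 LD3_c1)) = (LP (LK LD1_c6 LD2_c7 LD3_c43)) :=
  Lre_c IH (LK LD1_c3 LD2_c0 LD3_c1) (LK LD1_c6 LD2_c7 LD3_c43) Lrfl Lrfl
theorem f385355 : Led Lsl_dt (LP (LK LD1_c6 LD2_c7 LD3_c43)) = (LP (LK LD1_c11 LD2_c57 LD3_c50)) :=
  Lre_d IH (LK LD1_c6 LD2_c7 LD3_c43) (LK LD1_c11 LD2_c57 LD3_c50) Lrfl Lrfl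
theorem f408527 : Led Lsl_at (LP (LK LD1_c24 LD2_c59 LD3_c34)) = (LP (LK LD1_c21 LD2_c2 LD3_c57)) :=
  Lgr Lrot33 (Lpr_ff (f408525 IH) (Lpr_dt (f193873 IH) (Lpr_ct (f193870 IH) (Lpr_dt (f193876 IH) (Lpr_ct (f56005 IH) (Lpr_dt (f56008 IH) (Lpr_ct (f183463 IH) (Lpr_dt (f385355 IH) (Lpr_ct (f385356 IH) (Lpn (LP (LK LD1_c21 LD2_c2 LD3_c57))))))))))))
theorem f408529 : Led Lsl_af (LP (LK LD1_c24 LD2_c59 LD3_c34)) = (LP (LK LD1_c21 LD2_c2 LD3_c57)) :=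
  Lgr Lrot0 (Lpr_at (f408527 IH) (Lpn (LP (LK LD1_c21 LD2_c2 LD3_c57))))
theorem f547634 : Led Lsl_ct (LP (LK LD1_c24 LD2_c59 LD3_c34)) = (LP (LK LD1_c18 LD2_c21 LD3_c9)) :=
  Lgr Lrot111 (Lpr_af (f408529 IH) (Lpe (f385356 IH) (Lpr_af (f547624 IH) (Lpn (LP (LK LD1_c18 LD2_c21 LD3_c9))))))
theorem f240072 : Led Lsl_dt (LP (LK LD1_c15 LD2_c10 LD3_c17)) = (LP (LK LD1_c24 LD2_c59 LD3_c34)) :=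
  Lre_d IH (LK LD1_c15 LD2_c10 LD3_c17) (LK LD1_c24 LD2_c59 LD3_c34) Lrfl Lrfl
theorem f240080 : Led Lsl_ct (LP (LK LD1_c8 LD2_c3 LD3_c34)) = (LP (LK LD1_c15 LD2_c10 LD3_c17)) :=
  Lre_c IH (LK LD1_c8 LD2_c3 LD3_c34) (LK LD1_c15 LD2_c10 LD3_c17) Lrfl Lrfl
theorem f197341 : Led Lsl_dt (LP (LK LD1_c4 LD2_c1 LD3_c28)) = (LP (LK LD1_c8 LD2_c3 LD3_c34)) :=
  Lre_d IH (LK LD1_c4 LD2_c1 LD3_c28) (LK LD1_c8 LD2_c3 LD3_c34) Lrfl Lrfl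
theorem f197242 : Led Lsl_cf (LP (LK LD1_c4 LD2_c1 LD3_c28)) = (LP (LK LD1_c2 LD2_c0 LD3_c8)) :=
  Lgr Lrot97 (Lpr_bt (K30.f197241 IH) (Lpr_ct (K10.f197237 IH) (Lpr_bt (K9.f56531 IH) (Lpr_ct (K9.f56524 IH) (Lpr_bt (K18.f56540 IH) (Lpn (LP (LK LD1_c2 LD2_c0 LD3_c8))))))))
theorem f385348 : Led Lsl_ft (LP (LK LD1_c4 LD2_c1 LD3_c28)) = (LP (LK LD1_c3 LD2_c0 LD3_c0)) :=
  Lgr Lrot4 (Lpr_cf (f197242 IH) (Lpr_ff (K30.f385346 IH) (Lpe (f56005 IH) (Lpn (LP (LK LD1_c3 LD2_c0 LD3_c0))))))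
theorem f546502 : Led Lsl_dt (LP (LK LD1_c18 LD2_c21 LD3_c9)) = (LP (LK LD1_c10 LD2_c2 LD3_c53)) :=
  Lre_d IH (LK LD1_c18 LD2_c21 LD3_c9) (LK LD1_c10 LD2_c2 LD3_c53) Lrfl Lrfl
theorem f546501 : Led Lsl_ct (LP (LK LD1_c10 LD2_c2 LD3_c53)) = (LP (LK LD1_c5 LD2_c5 LD3_c58)) :=
  Lre_c IH (LK LD1_c10 LD2_c2 LD3_c53) (LK LD1_c5 LD2_c5 LD3_c58) Lrfl Lrfl
theorem f495426 : Led Lsl_dt (LP (LK LD1_c5 LD2_c5 LD3_c58)) = (LP (LK LD1_c2 LD2_c30 LD3_c16)) :=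
  Lre_d IH (LK LD1_c5 LD2_c5 LD3_c58) (LK LD1_c2 LD2_c30 LD3_c16) Lrfl Lrfl
theorem f547644 : Led Lsl_at (LP (LK LD1_c3 LD2_c0 LD3_c0)) = (LP (LK LD1_c5 LD2_c5 LD3_c57)) :=
  Lgr Lrot33 (Lpe (f385348 IH) (Lpr_dt (f197341 IH) (Lpr_ct (f240080 IH) (Lpr_dt (f240072 IH) (Lpr_ct (f547634 IH) (Lpr_dt (f546502 IH) (Lpr_ct (f546501 IH) (Lpr_dt (f495426 IH) (Lpr_ct (f495425 IH) (Lpn (LP (LK LD1_c5 LD2_c5 LD3_c57))))))))))))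
theorem f117562 : Led Lsl_at (LP (LK LD1_c3 LD2_c9 LD3_c53)) = (LP (LK LD1_c4 LD2_c23 LD3_c57)) :=
  Lgr Lrot100 (Lpr_af (K8.f117560 IH) (Lpn (LP (LK LD1_c4 LD2_c23 LD3_c57))))
theorem f117599 : Led Lsl_ft (LP (LK LD1_c6 LD2_c24 LD3_c30)) = (LP (LK LD1_c3 LD2_c9 LD3_c53)) :=
  Lre_f IH (LK LD1_c6 LD2_c24 LD3_c30) (LK LD1_c3 LD2_c9 LD3_c53) Lrfl Lrfl
theorem f545114 : Led Lsl_gt (LP (LK LD1_c6 LD2_c24 LD3_c30)) = (LP (LK LD1_c5 LD2_c5 LD3_c57)) :=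
  Lgr Lrot5 (Lpr_ft (f117599 IH) (Lpr_at (f117562 IH) (Lpr_gf (f545112 IH) (Lpn (LP (LK LD1_c5 LD2_c5 LD3_c57))))))
theorem f547679 : Led Lsl_gt (LP (LK LD1_c4 LD2_c1 LD3_c28)) = (LP (LK LD1_c6 LD2_c24 LD3_c30)) :=
  Lgr Lrot5 (Lpr_ft (f385348 IH) (Lpr_at (f547644 IH) (Lpe (f545114 IH) (Lpn (LP (LK LD1_c6 LD2_c24 LD3_c30))))))
theorem f168304 : Led Lsl_dt (LP (LK LD1_c2 LD2_c26 LD3_c17)) = (LP (LK LD1_c4 LD2_c56 LD3_c54)) :=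
  Lre_d IH (LK LD1_c2 LD2_c26 LD3_c17) (LK LD1_c4 LD2_c56 LD3_c54) Lrfl Lrfl
theorem f117600 : Led Lsl_dt (LP (LK LD1_c6 LD2_c24 LD3_c30)) = (LP (LK LD1_c12 LD2_c22 LD3_c1)) :=
  Lre_d IH (LK LD1_c6 LD2_c24 LD3_c30) (LK LD1_c12 LD2_c22 LD3_c1) Lrfl Lrfl
theorem f117568 : Led Lsl_dt (LP (LK LD1_c3 LD2_c9 LD3_c53)) = (LP (LK LD1_c6 LD2_c24 LD3_c29)) :=
  Lre_d IH (LK LD1_c3 LD2_c9 LD3_c53) (LK LD1_c6 LD2_c24 LD3_c29) Lrfl Lrfl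
theorem f36550 : Led Lsl_dt (LP (LK LD1_c8 LD2_c45 LD3_c39)) = (LP (LK LD1_c4 LD2_c23 LD3_c57)) :=
  Lre_d IH (LK LD1_c8 LD2_c45 LD3_c39) (LK LD1_c4 LD2_c23 LD3_c57) Lrfl Lrfl
theorem f117569 : Led Lsl_at (LP (LK LD1_c6 LD2_c24 LD3_c29)) = (LP (LK LD1_c8 LD2_c45 LD3_c39)) :=
  Lgr Lrot51 (Lpe (f117568 IH) (Lpr_af (K8.f117560 IH) (Lpe (f36550 IH) (Lpn (LP (LK LD1_c8 LD2_c45 LD3_c39))))))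
theorem f117578 : Led Lsl_ft (LP (LK LD1_c12 LD2_c22 LD3_c1)) = (LP (LK LD1_c6 LD2_c24 LD3_c29)) :=
  Lre_f IH (LK LD1_c12 LD2_c22 LD3_c1) (LK LD1_c6 LD2_c24 LD3_c29) Lrfl Lrfl
theorem f538608 : Led Lsl_gf (LP (LK LD1_c9 LD2_c9 LD3_c55)) = (LP (LK LD1_c12 LD2_c22 LD3_c1)) :=
  Lgr Lrot47 (Lpr_gt (K35.f538606 IH) (Lpe (f117569 IH) (Lpe (f117578 IH) (Lpn (LP (LK LD1_c12 LD2_c22 LD3_c1))))))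
theorem f547681 : Led Lsl_et (LP (LK LD1_c2 LD2_c47 LD3_c20)) = (LP (LK LD1_c4 LD2_c37 LD3_c28)) :=
  Lgr Lrot122 (Lpr_dt (K31.f280497 IH) (Lpr_gt (K36.f423859 IH) (Lpe (f168304 IH) (Lpe (K30.f197270 IH) (Lpr_gt (f547679 IH) (Lpr_dt (f117600 IH) (Lpe (f538608 IH) (Lpe (K35.f538351 IH) (Lpr_et (K35.f538594 IH) (Lpe (K36.f538598 IH) (Lpn (LP (LK LD1_c4 LD2_c37 LD3_c28)))))))))))))
theorem f168200 : Led Lsl_gt (LP (LK LD1_c2 LD2_c26 LD3_c17)) = (LP (LK LD1_c4 LD2_c56 LD3_c51)) :=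
  Lre_g IH (LK LD1_c2 LD2_c26 LD3_c17) (LK LD1_c4 LD2_c56 LD3_c51) Lrfl Lrfl
theorem f385374 : Led Lsl_gf (LP (LK LD1_c4 LD2_c22 LD3_c31)) = (LP (LK LD1_c4 LD2_c56 LD3_c51)) :=
  Lgr Lrot76 (Lpe (K30.f173336 IH) (Lpr_ff (K30.f385368 IH) (Lpr_gt (f168200 IH) (Lpn (LP (LK LD1_c4 LD2_c56 LD3_c51))))))
theorem f119047 : Led Lsl_et (LP (LK LD1_c1 LD2_c4 LD3_c57)) = (LP (LK LD1_c2 LD2_c15 LD3_c57)) :=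
  Lre_e IH (LK LD1_c1 LD2_c4 LD3_c57) (LK LD1_c2 LD2_c15 LD3_c57) Lrfl Lrfl
theorem f547689 : Led Lsl_ef (LP (LK LD1_c4 LD2_c56 LD3_c51)) = (LP (LK LD1_c4 LD2_c24 LD3_c14)) :=
  Lgr Lrot167 (Lpe (f385374 IH) (Lpr_dt (K30.f297109 IH) (Lpe (K36.f423861 IH) (Lpe (K31.f280497 IH) (Lpr_et (f547681 IH) (Lpr_gt (K36.f119048 IH) (Lpe (f119047 IH) (Lpr_dt (K8.f72269 IH) (Lpr_gt (K8.f99814 IH) (Lpe (K5.f119039 IH) (Lpn (LP (LK LD1_c4 LD2_c24 LD3_c14)))))))))))))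
theorem f119051 : Led Lsl_gt (LP (LK LD1_c2 LD2_c15 LD3_c43)) = (LP (LK LD1_c4 LD2_c37 LD3_c1)) :=
  Lre_g IH (LK LD1_c2 LD2_c15 LD3_c43) (LK LD1_c4 LD2_c37 LD3_c1) Lrfl Lrfl
theorem f119052 : Led Lsl_dt (LP (LK LD1_c4 LD2_c37 LD3_c1)) = (LP (LK LD1_c9 LD2_c9 LD3_c51)) :=
  Lre_d IH (LK LD1_c4 LD2_c37 LD3_c1) (LK LD1_c9 LD2_c9 LD3_c51) Lrfl Lrfl
theorem f547699 : Led Lsl_gf (LP (LK LD1_c8 LD2_c3 LD3_c34)) = (LP (LK LD1_c9 LD2_c9 LD3_c51)) :=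
  Lgr Lrot134 (Lpe (f197341 IH) (Lpr_et (K30.f197250 IH) (Lpr_gt (f168200 IH) (Lpr_ef (f547689 IH) (Lpr_dt (K5.f119039 IH) (Lpr_gt (K5.f99826 IH) (Lpe (K6.f99740 IH) (Lpr_et (K35.f119050 IH) (Lpr_gt (f119051 IH) (Lpr_dt (f119052 IH) (Lpn (LP (LK LD1_c9 LD2_c9 LD3_c51)))))))))))))
theorem f494442 : Led Lsl_ct (LP (LK LD1_c1 LD2_c4 LD3_c54)) = (LP (LK LD1_c2 LD2_c15 LD3_c43)) :=
  Lre_c IH (LK LD1_c1 LD2_c4 LD3_c54) (LK LD1_c2 LD2_c15 LD3_c43) Lrfl Lrfl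
theorem f100263 : Led Lsl_dt (LP (LK LD1_c2 LD2_c15 LD3_c49)) = (LP (LK LD1_c4 LD2_c37 LD3_c18)) :=
  Lre_d IH (LK LD1_c2 LD2_c15 LD3_c49) (LK LD1_c4 LD2_c37 LD3_c18) Lrfl Lrfl
theorem f547702 : Led Lsl_gf (LP (LK LD1_c4 LD2_c5 LD3_c43)) = (LP (LK LD1_c4 LD2_c37 LD3_c18)) :=
  Lgr Lrot143 (Lpr_dt (K18.f56547 IH) (Lpe (K30.f197344 IH) (Lpe (f197327 IH) (Lpr_gf (f547699 IH) (Lpe (f119052 IH) (Lpe (f119051 IH) (Lpe (f494442 IH) (Lpr_gt (K37.f100260 IH) (Lpr_dt (f100263 IH) (Lpn (LP (LK LD1_c4 LD2_c37 LD3_c18))))))))))))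
theorem f186534 : Led Lsl_ct (LP (LK LD1_c2 LD2_c33 LD3_c47)) = (LP (LK LD1_c5 LD2_c13 LD3_c46)) :=
  Lre_c IH (LK LD1_c2 LD2_c33 LD3_c47) (LK LD1_c5 LD2_c13 LD3_c46) Lrfl Lrfl
theorem f169799 : Led Lsl_ct (LP (LK LD1_c5 LD2_c6 LD3_c49)) = (LP (LK LD1_c2 LD2_c30 LD3_c41)) :=
  Lre_c IH (LK LD1_c5 LD2_c6 LD3_c49) (LK LD1_c2 LD2_c30 LD3_c41) Lrfl Lrfl
theorem f308128 : Led Lsl_ft (LP (LK LD1_c5 LD2_c13 LD3_c46)) = (LP (LK LD1_c5 LD2_c6 LD3_c49)) :=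
  Lgr Lrot4 (Lpe (f186534 IH) (Lpr_ff (K19.f308126 IH) (Lpe (f169799 IH) (Lpn (LP (LK LD1_c5 LD2_c6 LD3_c49))))))
theorem f405157 : Led Lsl_ff (LP (LK LD1_c5 LD2_c13 LD3_c46)) = (LP (LK LD1_c5 LD2_c6 LD3_c49)) :=
  Lgr Lrot3 (Lpr_ft (f308128 IH) (Lpn (LP (LK LD1_c5 LD2_c6 LD3_c49))))
theorem f308146 : Led Lsl_dt (LP (LK LD1_c5 LD2_c13 LD3_c46)) = (LP (LK LD1_c10 LD2_c17 LD3_c42)) :=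
  Lre_d IH (LK LD1_c5 LD2_c13 LD3_c46) (LK LD1_c10 LD2_c17 LD3_c42) Lrfl Lrfl
theorem f212041 : Led Lsl_dt (LP (LK LD1_c10 LD2_c4 LD3_c22)) = (LP (LK LD1_c5 LD2_c6 LD3_c49)) :=
  Lre_d IH (LK LD1_c10 LD2_c4 LD3_c22) (LK LD1_c5 LD2_c6 LD3_c49) Lrfl Lrfl
theorem f405159 : Led Lsl_ft (LP (LK LD1_c10 LD2_c17 LD3_c42)) = (LP (LK LD1_c10 LD2_c4 LD3_c22)) :=
  Lgr Lrot54 (Lpe (f308146 IH) (Lpr_ff (f405157 IH) (Lpe (f212041 IH) (Lpn (LP (LK LD1_c10 LD2_c4 LD3_c22))))))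
theorem f308159 : Led Lsl_dt (LP (LK LD1_c10 LD2_c17 LD3_c30)) = (LP (LK LD1_c18 LD2_c42 LD3_c22)) :=
  Lre_d IH (LK LD1_c10 LD2_c17 LD3_c30) (LK LD1_c18 LD2_c42 LD3_c22) Lrfl Lrfl
theorem f542392 : Led Lsl_dt (LP (LK LD1_c4 LD2_c37 LD3_c18)) = (LP (LK LD1_c2 LD2_c15 LD3_c49)) :=
  Lre_d IH (LK LD1_c4 LD2_c37 LD3_c18) (LK LD1_c2 LD2_c15 LD3_c49) Lrfl Lrfl
theorem f542413 : Led Lsl_ct (LP (LK LD1_c9 LD2_c10 LD3_c13)) = (LP (LK LD1_c4 LD2_c37 LD3_c18)) :=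
  Lre_c IH (LK LD1_c9 LD2_c10 LD3_c13) (LK LD1_c4 LD2_c37 LD3_c18) Lrfl Lrfl
theorem f542414 : Led Lsl_dt (LP (LK LD1_c17 LD2_c3 LD3_c20)) = (LP (LK LD1_c9 LD2_c10 LD3_c13)) :=
  Lre_d IH (LK LD1_c17 LD2_c3 LD3_c20) (LK LD1_c9 LD2_c10 LD3_c13) Lrfl Lrfl
theorem f542415 : Led Lsl_cf (LP (LK LD1_c17 LD2_c3 LD3_c20)) = (LP (LK LD1_c18 LD2_c42 LD3_c22)) :=
  Lgr Lrot55 (Lpr_dt (f542414 IH) (Lpr_ct (f542413 IH) (Lpr_dt (f542392 IH) (Lpqs (K37.f542395 IH) (Lpe (K36.f495333 IH) (Lpr_dt (K36.f100246 IH) (Lpr_ct (K36.f427836 IH) (Lpe (K36.f427837 IH) (Lpr_ct (K36.f405169 IH) (Lpr_dt (K36.f198581 IH) (Lpr_ct (K36.f186561 IH) (Lpr_dt (K19.f201440 IH) (Lpr_ct (K36.f185092 IH) (Lpr_dt (K36.f308199 IH) (Lpr_ct (K36.f308176 IH) (Lpr_dt (f308159 IH) (Lpn (LP (LK LD1_c18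 LD2_c42 LD3_c22)))))))))))))))))))
theorem f542419 : Led Lsl_at (LP (LK LD1_c10 LD2_c4 LD3_c22)) = (LP (LK LD1_c17 LD2_c3 LD3_c20)) :=
  Lgr Lrot33 (Lpe (f405159 IH) (Lpr_dt (K36.f198581 IH) (Lpr_ct (K36.f186561 IH) (Lpr_dt (K19.f201440 IH) (Lpr_ct (K36.f185092 IH) (Lpr_dt (K36.f308199 IH) (Lpr_ct (K36.f308176 IH) (Lpr_dt (f308159 IH) (Lpe (f542415 IH) (Lpn (LP (LK LD1_c17 LD2_c3 LD3_c20))))))))))))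
theorem f542425 : Led Lsl_af (LP (LK LD1_c5 LD2_c6 LD3_c49)) = (LP (LK LD1_c9 LD2_c10 LD3_c13)) :=
  Lgr Lrot117 (Lpr_dt (K19.f308154 IH) (Lpr_at (f542419 IH) (Lpr_dt (f542414 IH) (Lpn (LP (LK LD1_c9 LD2_c10 LD3_c13))))))
theorem f405156 : Led Lsl_et (LP (LK LD1_c5 LD2_c6 LD3_c49)) = (LP (LK LD1_c10 LD2_c4 LD3_c23)) :=
  Lre_e IH (LK LD1_c5 LD2_c6 LD3_c49) (LK LD1_c10 LD2_c4 LD3_c23) Lrfl Lrfl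
theorem f542436 : Led Lsl_et (LP (LK LD1_c17 LD2_c3 LD3_c21)) = (LP (LK LD1_c9 LD2_c10 LD3_c13)) :=
  Lre_e IH (LK LD1_c17 LD2_c3 LD3_c21) (LK LD1_c9 LD2_c10 LD3_c13) Lrfl Lrfl
theorem f542437 : Led Lsl_at (LP (LK LD1_c10 LD2_c4 LD3_c23)) = (LP (LK LD1_c17 LD2_c3 LD3_c21)) :=
  Lgr Lrot80 (Lpe (f405156 IH) (Lpr_af (f542425 IH) (Lpe (f542436 IH) (Lpn (LP (LK LD1_c17 LD2_c3 LD3_c21))))))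
theorem f169809 : Led Lsl_ct (LP (LK LD1_c5 LD2_c6 LD3_c50)) = (LP (LK LD1_c10 LD2_c4 LD3_c23)) :=
  Lre_c IH (LK LD1_c5 LD2_c6 LD3_c50) (LK LD1_c10 LD2_c4 LD3_c23) Lrfl Lrfl
theorem f542441 : Led Lsl_ct (LP (LK LD1_c17 LD2_c3 LD3_c21)) = (LP (LK LD1_c9 LD2_c10 LD3_c14)) :=
  Lre_c IH (LK LD1_c17 LD2_c3 LD3_c21) (LK LD1_c9 LD2_c10 LD3_c14) Lrfl Lrfl
theorem f542442 : Led Lsl_af (LP (LK LD1_c5 LD2_c6 LD3_c50)) = (LP (LK LD1_c9 LD2_c10 LD3_c14)) :=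
  Lgr Lrot68 (Lpr_ct (f169809 IH) (Lpr_at (f542437 IH) (Lpr_ct (f542441 IH) (Lpn (LP (LK LD1_c9 LD2_c10 LD3_c14))))))
theorem f166400 : Led Lsl_bt (LP (LK LD1_c5 LD2_c6 LD3_c50)) = (LP (LK LD1_c2 LD2_c30 LD3_c45)) :=
  Lre_b IH (LK LD1_c5 LD2_c6 LD3_c50) (LK LD1_c2 LD2_c30 LD3_c45) Lrfl Lrfl
theorem f166380 : Led Lsl_et (LP (LK LD1_c1 LD2_c12 LD3_c22)) = (LP (LK LD1_c2 LD2_c30 LD3_c45)) :=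
  Lre_e IH (LK LD1_c1 LD2_c12 LD3_c22) (LK LD1_c2 LD2_c30 LD3_c45) Lrfl Lrfl
theorem f307987 : Led Lsl_af (LP (LK LD1_c2 LD2_c33 LD3_c41)) = (LP (LK LD1_c2 LD2_c30 LD3_c45)) :=
  Lgr Lrot50 (Lpr_et (K36.f185781 IH) (Lpr_at (K19.f307983 IH) (Lpr_et (f166380 IH) (Lpn (LP (LK LD1_c2 LD2_c30 LD3_c45))))))
theorem f185786 : Led Lsl_bt (LP (LK LD1_c2 LD2_c33 LD3_c41)) = (LP (LK LD1_c5 LD2_c13 LD3_c34)) :=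
  Lre_b IH (LK LD1_c2 LD2_c33 LD3_c41) (LK LD1_c5 LD2_c13 LD3_c34) Lrfl Lrfl
theorem f74577 : Led Lsl_dt (LP (LK LD1_c1 LD2_c23 LD3_c44)) = (LP (LK LD1_c2 LD2_c55 LD3_c38)) :=
  Lre_d IH (LK LD1_c1 LD2_c23 LD3_c44) (LK LD1_c2 LD2_c55 LD3_c38) Lrfl Lrfl
theorem f386793 : Led Lsl_ft (LP (LK LD1_c2 LD2_c55 LD3_c38)) = (LP (LK LD1_c5 LD2_c6 LD3_c58)) :=
  Lgr Lrot54 (Lpe (f74577 IH) (Lpr_ff (K36.f386786 IH) (Lpe (K19.f308070 IH) (Lpn (LP (LK LD1_c5 LD2_c6 LD3_c58))))))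
theorem f308079 : Led Lsl_at (LP (LK LD1_c5 LD2_c6 LD3_c58)) = (LP (LK LD1_c2 LD2_c30 LD3_c48)) :=
  Lre_a IH (LK LD1_c5 LD2_c6 LD3_c58) (LK LD1_c2 LD2_c30 LD3_c48) Lrfl Lrfl
theorem f308018 : Led Lsl_ft (LP (LK LD1_c1 LD2_c13 LD3_c47)) = (LP (LK LD1_c1 LD2_c12 LD3_c24)) :=
  Lgr Lrot75 (Lpe (K27.f165468 IH) (Lpr_ff (K19.f308014 IH) (Lpe (K32.f166164 IH) (Lpn (LP (LK LD1_c1 LD2_c12 LD3_c24))))))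
theorem f169714 : Led Lsl_dt (LP (LK LD1_c1 LD2_c12 LD3_c24)) = (LP (LK LD1_c2 LD2_c30 LD3_c48)) :=
  Lre_d IH (LK LD1_c1 LD2_c12 LD3_c24) (LK LD1_c2 LD2_c30 LD3_c48) Lrfl Lrfl
theorem f308077 : Led Lsl_ff (LP (LK LD1_c2 LD2_c33 LD3_c39)) = (LP (LK LD1_c2 LD2_c30 LD3_c48)) :=
  Lgr Lrot19 (Lpr_dt (K36.f185801 IH) (Lpr_ft (f308018 IH) (Lpr_dt (f169714 IH) (Lpn (LP (LK LD1_c2 LD2_c30 LD3_c48))))))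
theorem f386795 : Led Lsl_af (LP (LK LD1_c2 LD2_c55 LD3_c38)) = (LP (LK LD1_c2 LD2_c33 LD3_c39)) :=
  Lgr Lrot45 (Lpr_ft (f386793 IH) (Lpr_at (f308079 IH) (Lpe (f308077 IH) (Lpn (LP (LK LD1_c2 LD2_c33 LD3_c39))))))
theorem f386682 : Led Lsl_et (LP (LK LD1_c2 LD2_c55 LD3_c38)) = (LP (LK LD1_c5 LD2_c58 LD3_c29)) :=
  Lre_e IH (LK LD1_c2 LD2_c55 LD3_c38) (LK LD1_c5 LD2_c58 LD3_c29) Lrfl Lrfl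
theorem f386798 : Led Lsl_at (LP (LK LD1_c5 LD2_c58 LD3_c29)) = (LP (LK LD1_c5 LD2_c13 LD3_c34)) :=
  Lgr Lrot80 (Lpe (f386682 IH) (Lpr_af (f386795 IH) (Lpe (K36.f185800 IH) (Lpn (LP (LK LD1_c5 LD2_c13 LD3_c34))))))
theorem f386800 : Led Lsl_af (LP (LK LD1_c5 LD2_c58 LD3_c29)) = (LP (LK LD1_c5 LD2_c13 LD3_c34)) :=
  Lgr Lrot0 (Lpr_at (f386798 IH) (Lpn (LP (LK LD1_c5 LD2_c13 LD3_c34))))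
theorem f542451 : Led Lsl_bt (LP (LK LD1_c5 LD2_c58 LD3_c29)) = (LP (LK LD1_c9 LD2_c10 LD3_c14)) :=
  Lgr Lrot62 (Lpr_af (f386800 IH) (Lpe (f185786 IH) (Lpr_af (f307987 IH) (Lpe (f166400 IH) (Lpr_af (f542442 IH) (Lpn (LP (LK LD1_c9 LD2_c10 LD3_c14))))))))
theorem f542455 : Led Lsl_et (LP (LK LD1_c9 LD2_c10 LD3_c14)) = (LP (LK LD1_c4 LD2_c37 LD3_c18)) :=
  Lre_e IH (LK LD1_c9 LD2_c10 LD3_c14) (LK LD1_c4 LD2_c37 LD3_c18) Lrfl Lrfl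
theorem f542456 : Led Lsl_bf (LP (LK LD1_c2 LD2_c55 LD3_c38)) = (LP (LK LD1_c4 LD2_c37 LD3_c18)) :=
  Lgr Lrot96 (Lpr_et (f386682 IH) (Lpr_bt (f542451 IH) (Lpr_et (f542455 IH) (Lpn (LP (LK LD1_c4 LD2_c37 LD3_c18))))))
theorem f542460 : Led Lsl_ft (LP (LK LD1_c5 LD2_c13 LD3_c45)) = (LP (LK LD1_c4 LD2_c37 LD3_c18)) :=
  Lgr Lrot75 (Lpr_bf (K19.f308092 IH) (Lpe (f386793 IH) (Lpr_bf (f542456 IH) (Lpn (LP (LK LD1_c4 LD2_c37 LD3_c18))))))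
theorem f542464 : Led Lsl_ff (LP (LK LD1_c5 LD2_c13 LD3_c45)) = (LP (LK LD1_c4 LD2_c37 LD3_c18)) :=
  Lgr Lrot3 (Lpr_ft (f542460 IH) (Lpn (LP (LK LD1_c4 LD2_c37 LD3_c18))))
theorem f547706 : Led Lsl_gt (LP (LK LD1_c4 LD2_c5 LD3_c43)) = (LP (LK LD1_c2 LD2_c33 LD3_c47)) :=
  Lgr Lrot46 (Lpr_gf (f547702 IH) (Lpe (f542464 IH) (Lpr_at (K19.f308095 IH) (Lpn (LP (LK LD1_c2 LD2_c33 LD3_c47))))))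
theorem f56551 : Led Lsl_gt (LP (LK LD1_c2 LD2_c26 LD3_c19)) = (LP (LK LD1_c1 LD2_c10 LD3_c25)) :=
  Lre_g IH (LK LD1_c2 LD2_c26 LD3_c19) (LK LD1_c1 LD2_c10 LD3_c25) Lrfl Lrfl
theorem f549637 : Led Lsl_et (LP (LK LD1_c4 LD2_c39 LD3_c41)) = (LP (LK LD1_c2 LD2_c26 LD3_c19)) :=
  Lgr Lrot185 (Lpe (f546517 IH) (Lpe (f161078 IH) (Lpe (K2.f34930 IH) (Lpr_gf (f549634 IH) (Lpe (f308151 IH) (Lpr_dt (f308145 IH) (Lpe (f547706 IH) (Lpe (f56550 IH) (Lpr_et (K18.f56542 IH) (Lpe (f56551 IH) (Lpn (LP (LK LD1_c2 LD2_c26 LD3_c19)))))))))))))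
theorem f99690 : Led Lsl_dt (LP (LK LD1_c2 LD2_c13 LD3_c38)) = (LP (LK LD1_c4 LD2_c33 LD3_c25)) :=
  Lre_d IH (LK LD1_c2 LD2_c13 LD3_c38) (LK LD1_c4 LD2_c33 LD3_c25) Lrfl Lrfl
theorem f9424 : Led Lsl_gt (LP (LK LD1_c4 LD2_c33 LD3_c25)) = (LP (LK LD1_c9 LD2_c4 LD3_c23)) :=
  Lre_g IH (LK LD1_c4 LD2_c33 LD3_c25) (LK LD1_c9 LD2_c4 LD3_c23) Lrfl Lrfl
theorem f73014 : Led Lsl_et (LP (LK LD1_c0 LD2_c37 LD3_c16)) = (LP (LK LD1_c1 LD2_c20 LD3_c43)) :=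
  Lre_e IH (LK LD1_c0 LD2_c37 LD3_c16) (LK LD1_c1 LD2_c20 LD3_c43) Lrfl Lrfl
theorem f60161 : Led Lsl_gt (LP (LK LD1_c1 LD2_c20 LD3_c43)) = (LP (LK LD1_c2 LD2_c49 LD3_c8)) :=
  Lre_g IH (LK LD1_c1 LD2_c20 LD3_c43) (LK LD1_c2 LD2_c49 LD3_c8) Lrfl Lrfl
theorem f99672 : Led Lsl_et (LP (LK LD1_c5 LD2_c46 LD3_c49)) = (LP (LK LD1_c2 LD2_c49 LD3_c8)) :=
  Lre_e IH (LK LD1_c5 LD2_c46 LD3_c49) (LK LD1_c2 LD2_c49 LD3_c8) Lrfl Lrfl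
theorem f99673 : Led Lsl_et (LP (LK LD1_c2 LD2_c15 LD3_c30)) = (LP (LK LD1_c1 LD2_c4 LD3_c49)) :=
  Lre_e IH (LK LD1_c2 LD2_c15 LD3_c30) (LK LD1_c1 LD2_c4 LD3_c49) Lrfl Lrfl
theorem f99674 : Led Lsl_dt (LP (LK LD1_c2 LD2_c15 LD3_c30)) = (LP (LK LD1_c4 LD2_c36 LD3_c37)) :=
  Lre_d IH (LK LD1_c2 LD2_c15 LD3_c30) (LK LD1_c4 LD2_c36 LD3_c37) Lrfl Lrfl
theorem f99675 : Led Lsl_gt (LP (LK LD1_c9 LD2_c4 LD3_c23)) = (LP (LK LD1_c4 LD2_c36 LD3_c37)) :=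
  Lre_g IH (LK LD1_c9 LD2_c4 LD3_c23) (LK LD1_c4 LD2_c36 LD3_c37) Lrfl Lrfl
theorem f99676 : Led Lsl_dt (LP (LK LD1_c5 LD2_c46 LD3_c49)) = (LP (LK LD1_c9 LD2_c4 LD3_c23)) :=
  Lgr Lrot136 (Lpr_et (f99672 IH) (Lpe (f60161 IH) (Lpe (f73014 IH) (Lpe (K5.f59875 IH) (Lpr_gf (K4.f99651 IH) (Lpe (K5.f57103 IH) (Lpe (K5.f57102 IH) (Lpe (f99673 IH) (Lpr_dt (f99674 IH) (Lpe (f99675 IH) (Lpn (LP (LK LD1_c9 LD2_c4 LD3_c23)))))))))))))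
theorem f549649 : Led Lsl_gt (LP (LK LD1_c2 LD2_c49 LD3_c8)) = (LP (LK LD1_c2 LD2_c26 LD3_c19)) :=
  Lgr Lrot131 (Lpe (f99672 IH) (Lpr_dt (f99676 IH) (Lpe (f9424 IH) (Lpe (f99690 IH) (Lpq (K37.f542326 IH) (Lpe (K37.f500527 IH) (Lpe (K37.f82072 IH) (Lpr_dt (K37.f34924 IH) (Lpe (f34937 IH) (Lpr_df (f546517 IH) (Lpr_et (f549637 IH) (Lpn (LP (LK LD1_c2 LD2_c26 LD3_c19))))))))))))))
theorem f99691 : Led Lsl_et (LP (LK LD1_c2 LD2_c13 LD3_c38)) = (LP (LK LD1_c1 LD2_c3 LD3_c49)) :=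
  Lre_e IH (LK LD1_c2 LD2_c13 LD3_c38) (LK LD1_c1 LD2_c3 LD3_c49) Lrfl Lrfl
theorem f174454 : Led Lsl_gt (LP (LK LD1_c4 LD2_c32 LD3_c13)) = (LP (LK LD1_c2 LD2_c13 LD3_c10)) :=
  Lre_g IH (LK LD1_c4 LD2_c32 LD3_c13) (LK LD1_c2 LD2_c13 LD3_c10) Lrfl Lrfl
theorem f549655 : Led Lsl_df (LP (LK LD1_c4 LD2_c32 LD3_c13)) = (LP (LK LD1_c2 LD2_c26 LD3_c19)) :=
  Lgr Lrot135 (Lpr_gt (f174454 IH) (Lpe (K31.f174473 IH) (Lpr_et (K37.f181724 IH) (Lpqs (K37.f542289 IH) (Lpe (K37.f494162 IH) (Lpe (f99691 IH) (Lpr_dt (f99690 IH) (Lpr_gt (f9424 IH) (Lpe (f99676 IH) (Lpr_et (f99672 IH) (Lpr_gt (f549649 IH) (Lpn (LP (LK LD1_c2 LD2_c26 LD3_c19))))))))))))))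
theorem f268907 : Led Lsl_at (LP (LK LD1_c4 LD2_c32 LD3_c12)) = (LP (LK LD1_c2 LD2_c13 LD3_c10)) :=
  Lre_a IH (LK LD1_c4 LD2_c32 LD3_c12) (LK LD1_c2 LD2_c13 LD3_c10) Lrfl Lrfl
theorem f280390 : Led Lsl_ft (LP (LK LD1_c2 LD2_c47 LD3_c17)) = (LP (LK LD1_c4 LD2_c32 LD3_c12)) :=
  Lgr Lrot142 (Lpr_dt (K16.f268874 IH) (Lpr_ct (K16.f268851 IH) (Lpr_dt (K16.f280381 IH) (Lpr_ct (K16.f280380 IH) (Lpr_dt (K16.f280377 IH) (Lpr_ct (K16.f174492 IH) (Lpr_dt (K20.f174468 IH) (Lpr_ct (K31.f174442 IH) (Lpe (f268907 IH) (Lpn (LP (LK LD1_c4 LD2_c32 LD3_c12))))))))))))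
theorem f281913 : Led Lsl_gt (LP (LK LD1_c2 LD2_c47 LD3_c17)) = (LP (LK LD1_c4 LD2_c32 LD3_c13)) :=
  Lgr Lrot5 (Lpr_ft (f280390 IH) (Lpr_at (f268907 IH) (Lpe (f174454 IH) (Lpn (LP (LK LD1_c4 LD2_c32 LD3_c13))))))
theorem f549645 : Led Lsl_ef (LP (LK LD1_c4 LD2_c39 LD3_c41)) = (LP (LK LD1_c2 LD2_c26 LD3_c19)) :=
  Lgr Lrot88 (Lpr_et (f549637 IH) (Lpn (LP (LK LD1_c2 LD2_c26 LD3_c19))))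
theorem f549666 : Led Lsl_gf (LP (LK LD1_c2 LD2_c52 LD3_c61)) = (LP (LK LD1_c4 LD2_c39 LD3_c20)) :=
  Lgr Lrot145 (Lpe (K36.f449869 IH) (Lpr_et (K36.f495750 IH) (Lpq (K35.f538892 IH) (Lpr_gt (K31.f407064 IH) (Lpr_dt (K16.f268839 IH) (Lpr_gt (f281913 IH) (Lpr_df (f549655 IH) (Lpe (f549645 IH) (Lpr_gt (K36.f56244 IH) (Lpe (K36.f157175 IH) (Lpe (K36.f542680 IH) (Lpn (LP (LK LD1_c4 LD2_c39 LD3_c20))))))))))))))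
theorem f186500 : Led Lsl_ct (LP (LK LD1_c2 LD2_c52 LD3_c61)) = (LP (LK LD1_c5 LD2_c53 LD3_c20)) :=
  Lre_c IH (LK LD1_c2 LD2_c52 LD3_c61) (LK LD1_c5 LD2_c53 LD3_c20) Lrfl Lrfl
theorem f198533 : Led Lsl_gt (LP (LK LD1_c5 LD2_c53 LD3_c20)) = (LP (LK LD1_c11 LD2_c32 LD3_c45)) :=
  Lre_g IH (LK LD1_c5 LD2_c53 LD3_c20) (LK LD1_c11 LD2_c32 LD3_c45) Lrfl Lrfl
theorem f100712 : Led Lsl_bt (LP (LK LD1_c1 LD2_c27 LD3_c40)) = (LP (LK LD1_c3 LD2_c3 LD3_c30)) :=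
  Lre_b IH (LK LD1_c1 LD2_c27 LD3_c40) (LK LD1_c3 LD2_c3 LD3_c30) Lrfl Lrfl
theorem f99511 : Led Lsl_gt (LP (LK LD1_c6 LD2_c13 LD3_c26)) = (LP (LK LD1_c3 LD2_c3 LD3_c30)) :=
  Lre_g IH (LK LD1_c6 LD2_c13 LD3_c26) (LK LD1_c3 LD2_c3 LD3_c30) Lrfl Lrfl
theorem f101571 : Led Lsl_bt (LP (LK LD1_c12 LD2_c5 LD3_c39)) = (LP (LK LD1_c6 LD2_c13 LD3_c26)) :=
  Lre_b IH (LK LD1_c12 LD2_c5 LD3_c39) (LK LD1_c6 LD2_c13 LD3_c26) Lrfl Lrfl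
theorem f549672 : Led Lsl_cf (LP (LK LD1_c11 LD2_c32 LD3_c45)) = (LP (LK LD1_c12 LD2_c5 LD3_c39)) :=
  Lgr Lrot163 (Lpe (f198533 IH) (Lpe (f186500 IH) (Lpr_gf (f549666 IH) (Lpe (K36.f176070 IH) (Lpr_ct (K9.f176054 IH) (Lpr_gf (K9.f176059 IH) (Lpe (K9.f100690 IH) (Lpr_bt (f100712 IH) (Lpe (f99511 IH) (Lpe (f101571 IH) (Lpn (LP (LK LD1_c12 LD2_c5 LD3_c39)))))))))))))
theorem f198529 : Led Lsl_bt (LP (LK LD1_c5 LD2_c53 LD3_c13)) = (LP (LK LD1_c2 LD2_c52 LD3_c57)) :=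
  Lre_b IH (LK LD1_c5 LD2_c53 LD3_c13) (LK LD1_c2 LD2_c52 LD3_c57) Lrfl Lrfl
theorem f198532 : Led Lsl_ct (LP (LK LD1_c5 LD2_c53 LD3_c13)) = (LP (LK LD1_c11 LD2_c32 LD3_c31)) :=
  Lre_c IH (LK LD1_c5 LD2_c53 LD3_c13) (LK LD1_c11 LD2_c32 LD3_c31) Lrfl Lrfl
theorem f101699 : Led Lsl_ct (LP (LK LD1_c3 LD2_c3 LD3_c30)) = (LP (LK LD1_c6 LD2_c13 LD3_c27)) :=
  Lre_c IH (LK LD1_c3 LD2_c3 LD3_c30) (LK LD1_c6 LD2_c13 LD3_c27) Lrfl Lrfl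
theorem f549679 : Led Lsl_gf (LP (LK LD1_c11 LD2_c32 LD3_c31)) = (LP (LK LD1_c6 LD2_c13 LD3_c27)) :=
  Lgr Lrot129 (Lpe (f198532 IH) (Lpr_bt (f198529 IH) (Lpr_gt (K16.f198527 IH) (Lpe (K36.f186497 IH) (Lpr_ct (f186500 IH) (Lpr_gt (f198533 IH) (Lpr_cf (f549672 IH) (Lpr_bt (f101571 IH) (Lpr_gt (f99511 IH) (Lpr_ct (f101699 IH) (Lpn (LP (LK LD1_c6 LD2_c13 LD3_c27)))))))))))))
theorem f385927 : Led Lsl_gt (LP (LK LD1_c11 LD2_c32 LD3_c31)) = (LP (LK LD1_c20 LD2_c29 LD3_c20)) :=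
  Lre_g IH (LK LD1_c11 LD2_c32 LD3_c31) (LK LD1_c20 LD2_c29 LD3_c20) Lrfl Lrfl
theorem f549681 : Led Lsl_af (LP (LK LD1_c20 LD2_c29 LD3_c20)) = (LP (LK LD1_c12 LD2_c5 LD3_c45)) :=
  Lgr Lrot31 (Lpe (f385927 IH) (Lpr_gf (f549679 IH) (Lpr_ft (K9.f100893 IH) (Lpn (LP (LK LD1_c12 LD2_c5 LD3_c45))))))
theorem f549029 : Led Lsl_dt (LP (LK LD1_c6 LD2_c13 LD3_c27)) = (LP (LK LD1_c12 LD2_c5 LD3_c44)) :=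
  Lre_d IH (LK LD1_c6 LD2_c13 LD3_c27) (LK LD1_c12 LD2_c5 LD3_c44) Lrfl Lrfl
theorem f549031 : Led Lsl_ct (LP (LK LD1_c12 LD2_c5 LD3_c44)) = (LP (LK LD1_c21 LD2_c11 LD3_c31)) :=
  Lre_c IH (LK LD1_c12 LD2_c5 LD3_c44) (LK LD1_c21 LD2_c11 LD3_c31) Lrfl Lrfl
theorem f149993 : Led Lsl_et (LP (LK LD1_c1 LD2_c20 LD3_c55)) = (LP (LK LD1_c2 LD2_c49 LD3_c33)) :=
  Lre_e IH (LK LD1_c1 LD2_c20 LD3_c55) (LK LD1_c2 LD2_c49 LD3_c33) Lrfl Lrfl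
theorem f100562 : Led Lsl_et (LP (LK LD1_c3 LD2_c59 LD3_c4)) = (LP (LK LD1_c1 LD2_c56 LD3_c15)) :=
  Lre_e IH (LK LD1_c3 LD2_c59 LD3_c4) (LK LD1_c1 LD2_c56 LD3_c15) Lrfl Lrfl
theorem f495992 : Led Lsl_af (LP (LK LD1_c1 LD2_c20 LD3_c49)) = K32.v1514 :=
  Lgr Lrot45 (Lpr_ft (K32.f495985 IH) (Lpe (K32.f495984 IH) (Lpr_ft (K32.f495991 IH) (Lpn K32.v1514))))
theorem f104894 : Led Lsl_et (LP (LK LD1_c1 LD2_c20 LD3_c49)) = (LP (LK LD1_c2 LD2_c49 LD3_c21)) :=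
  Lre_e IH (LK LD1_c1 LD2_c20 LD3_c49) (LK LD1_c2 LD2_c49 LD3_c21) Lrfl Lrfl
theorem f499335 : Led Lsl_af (LP (LK LD1_c2 LD2_c58 LD3_c17)) = (LP (LK LD1_c2 LD2_c49 LD3_c21)) :=
  Lgr Lrot50 (Lpr_et (K32.f56024 IH) (Lpqs (K32.f498261 IH) (Lpe (f495992 IH) (Lpr_et (f104894 IH) (Lpn (LP (LK LD1_c2 LD2_c49 LD3_c21)))))))
theorem f499337 : Led Lsl_at (LP (LK LD1_c2 LD2_c58 LD3_c17)) = (LP (LK LD1_c2 LD2_c49 LD3_c21)) :=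
  Lgr Lrot100 (Lpr_af (f499335 IH) (Lpn (LP (LK LD1_c2 LD2_c49 LD3_c21))))
theorem f495641 : Led Lsl_et (LP (LK LD1_c1 LD2_c18 LD3_c45)) = (LP (LK LD1_c2 LD2_c44 LD3_c54)) :=
  Lre_e IH (LK LD1_c1 LD2_c18 LD3_c45) (LK LD1_c2 LD2_c44 LD3_c54) Lrfl Lrfl
def v1451 : LQ := Led Lsl_ft (LP (LK LD1_c1 LD2_c18 LD3_c45))
theorem f495645 : Led Lsl_ft (LP (LK LD1_c1 LD2_c18 LD3_c45)) = v1451 :=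
  Lrfl
theorem f495647 : Led Lsl_ff (LP (LK LD1_c1 LD2_c18 LD3_c45)) = v1451 :=
  Lgr Lrot3 (Lpr_ft (f495645 IH) (Lpn v1451))
def v1450 : LQ := Led Lsl_at (LP (LK LD1_c1 LD2_c18 LD3_c45))
theorem f495639 : Led Lsl_at (LP (LK LD1_c1 LD2_c18 LD3_c45)) = v1450 :=
  Lrfl
theorem f495640 : Led Lsl_af (LP (LK LD1_c1 LD2_c18 LD3_c45)) = v1450 :=
  Lgr Lrot0 (Lpr_at (f495639 IH) (Lpn v1450))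
theorem f211848 : Led Lsl_gt (LP (LK LD1_c0 LD2_c36 LD3_c18)) = (LP (LK LD1_c1 LD2_c18 LD3_c45)) :=
  Lre_g IH (LK LD1_c0 LD2_c36 LD3_c18) (LK LD1_c1 LD2_c18 LD3_c45) Lrfl Lrfl
theorem f289411 : Led Lsl_gt (LP (LK LD1_c1 LD2_c18 LD3_c46)) = (LP (LK LD1_c0 LD2_c36 LD3_c18)) :=
  Lre_g IH (LK LD1_c1 LD2_c18 LD3_c46) (LK LD1_c0 LD2_c36 LD3_c18) Lrfl Lrfl
theorem f495642 : Led Lsl_ft (LP (LK LD1_c1 LD2_c18 LD3_c46)) = v1450 :=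
  Lgr Lrot2 (Lpr_gt (f289411 IH) (Lpr_gt (f211848 IH) (Lpr_af (f495640 IH) (Lpn v1450))))
theorem f495644 : Led Lsl_ff (LP (LK LD1_c1 LD2_c18 LD3_c46)) = v1450 :=
  Lgr Lrot3 (Lpr_ft (f495642 IH) (Lpn v1450))
theorem f495648 : Led Lsl_at (LP (LK LD1_c1 LD2_c18 LD3_c46)) = v1451 :=
  Lgr Lrot66 (Lpr_ff (f495644 IH) (Lpe (f495639 IH) (Lpr_ff (f495647 IH) (Lpn v1451))))
def v2904 : LQ := Led Lsl_gf v391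
theorem f536139 : Led Lsl_gf v391 = v2904 :=
  Lrfl
theorem f380444 : Led Lsl_gt (LP (LK LD1_c2 LD2_c12 LD3_c51)) = (LP (LK LD1_c1 LD2_c18 LD3_c46)) :=
  Lgr Lrot5 (Lpr_ft (K35.f380284 IH) (Lpr_at (K35.f380283 IH) (Lpe (f289411 IH) (Lpn (LP (LK LD1_c1 LD2_c18 LD3_c46))))))
def v1380 : LQ := Led Lsl_gt (LP (LK LD1_c1 LD2_c10 LD3_c25))
theorem f495223 : Led Lsl_gt (LP (LK LD1_c1 LD2_c10 LD3_c25)) = v1380 :=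
  Lrfl
theorem f547708 : v1380 = (LP (LK LD1_c1 LD2_c20 LD3_c43)) :=
  (Llr Lrot131 (Lpe (f495223 IH) (Lpe (K18.f56542 IH) (Lpr_dt (f56550 IH) (Lpr_gf (f547702 IH) (Lpe (f100263 IH) (Lpe (K37.f100260 IH) (Lpe (K35.f100259 IH) (Lpr_dt (K8.f25136 IH) (Lpe (K4.f99655 IH) (Lpr_df (K5.f59875 IH) (Lpr_et (f73014 IH) (Lpn (LP (LK LD1_c1 LD2_c20 LD3_c43))))))))))))))).symm
theorem f547711 : Led Lsl_at (LP (LK LD1_c1 LD2_c56 LD3_c9)) = (LP (LK LD1_c2 LD2_c49 LD3_c8)) :=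
  Lgr Lrot26 (Lpr_ff (K18.f297033 IH) (Lpr_gt (f495223 IH) (Lpqs (f547708 IH) (Lpr_gt (f60161 IH) (Lpn (LP (LK LD1_c2 LD2_c49 LD3_c8)))))))
theorem f168260 : Led Lsl_dt (LP (LK LD1_c2 LD2_c48 LD3_c29)) = (LP (LK LD1_c5 LD2_c45 LD3_c26)) :=
  Lre_d IH (LK LD1_c2 LD2_c48 LD3_c29) (LK LD1_c5 LD2_c45 LD3_c26) Lrfl Lrfl
theorem f547713 : Led Lsl_cf (LP (LK LD1_c2 LD2_c49 LD3_c8)) = (LP (LK LD1_c4 LD2_c22 LD3_c31)) :=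
  Lgr Lrot102 (Lpe (f547711 IH) (Lpr_ff (K18.f297033 IH) (Lpr_dt (K18.f168246 IH) (Lpr_ct (K30.f168259 IH) (Lpr_dt (f168260 IH) (Lpr_ct (K30.f168261 IH) (Lpe (K30.f385394 IH) (Lpr_ct (K36.f385376 IH) (Lpr_dt (K31.f385378 IH) (Lpn (LP (LK LD1_c4 LD2_c22 LD3_c31))))))))))))
theorem f197512 : Led Lsl_ct (LP (LK LD1_c2 LD2_c48 LD3_c59)) = (LP (LK LD1_c1 LD2_c20 LD3_c43)) :=
  Lre_c IH (LK LD1_c2 LD2_c48 LD3_c59) (LK LD1_c1 LD2_c20 LD3_c43) Lrfl Lrfl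
theorem f197464 : Led Lsl_bt (LP (LK LD1_c2 LD2_c49 LD3_c0)) = (LP (LK LD1_c5 LD2_c46 LD3_c38)) :=
  Lre_b IH (LK LD1_c2 LD2_c49 LD3_c0) (LK LD1_c5 LD2_c46 LD3_c38) Lrfl Lrfl
theorem f197465 : Led Lsl_cf (LP (LK LD1_c5 LD2_c46 LD3_c45)) = (LP (LK LD1_c5 LD2_c46 LD3_c38)) :=
  Lgr Lrot97 (Lpr_bt (K13.f197461 IH) (Lpr_ct (K13.f60642 IH) (Lpe (K16.f197457 IH) (Lpr_ct (K13.f197462 IH) (Lpr_bt (f197464 IH) (Lpn (LP (LK LD1_c5 LD2_c46 LD3_c38))))))))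
theorem f385882 : Led Lsl_bf (LP (LK LD1_c4 LD2_c22 LD3_c31)) = (LP (LK LD1_c7 LD2_c56 LD3_c14)) :=
  Lgr Lrot93 (Lpr_dt (K30.f297109 IH) (Lpr_bt (K31.f385869 IH) (Lpr_dt (K31.f331802 IH) (Lpn (LP (LK LD1_c7 LD2_c56 LD3_c14))))))
theorem f385886 : Led Lsl_bt (LP (LK LD1_c4 LD2_c22 LD3_c31)) = (LP (LK LD1_c7 LD2_c56 LD3_c14)) :=
  Lgr Lrot127 (Lpr_bf (f385882 IH) (Lpn (LP (LK LD1_c7 LD2_c56 LD3_c14))))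
theorem f331803 : Led Lsl_ff (LP (LK LD1_c4 LD2_c22 LD3_c48)) = (LP (LK LD1_c7 LD2_c56 LD3_c14)) :=
  Lgr Lrot19 (Lpr_dt (K22.f225127 IH) (Lpr_ft (K22.f331797 IH) (Lpr_dt (K31.f331802 IH) (Lpn (LP (LK LD1_c7 LD2_c56 LD3_c14))))))
theorem f225120 : Led Lsl_gt (LP (LK LD1_c4 LD2_c22 LD3_c47)) = (LP (LK LD1_c2 LD2_c8 LD3_c50)) :=
  Lre_g IH (LK LD1_c4 LD2_c22 LD3_c47) (LK LD1_c2 LD2_c8 LD3_c50) Lrfl Lrfl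
theorem f401406 : Led Lsl_gf (LP (LK LD1_c4 LD2_c22 LD3_c47)) = (LP (LK LD1_c7 LD2_c56 LD3_c14)) :=
  Lgr Lrot47 (Lpr_gt (f225120 IH) (Lpe (K22.f225129 IH) (Lpr_ff (f331803 IH) (Lpn (LP (LK LD1_c7 LD2_c56 LD3_c14))))))
theorem f173328 : Led Lsl_bt (LP (LK LD1_c1 LD2_c1 LD3_c30)) = (LP (LK LD1_c2 LD2_c8 LD3_c42)) :=
  Lre_b IH (LK LD1_c1 LD2_c1 LD3_c30) (LK LD1_c2 LD2_c8 LD3_c42) Lrfl Lrfl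
theorem f237411 : Led Lsl_bt (LP (LK LD1_c8 LD2_c42 LD3_c52)) = (LP (LK LD1_c4 LD2_c22 LD3_c29)) :=
  Lre_b IH (LK LD1_c8 LD2_c42 LD3_c52) (LK LD1_c4 LD2_c22 LD3_c29) Lrfl Lrfl
theorem f237452 : Led Lsl_cf (LP (LK LD1_c4 LD2_c22 LD3_c47)) = (LP (LK LD1_c8 LD2_c42 LD3_c52)) :=
  Lgr Lrot160 (Lpr_gt (f225120 IH) (Lpr_cf (K18.f237430 IH) (Lpr_bt (K18.f69723 IH) (Lpe (K13.f237407 IH) (Lpr_ct (K13.f181965 IH) (Lpr_gt (K12.f173342 IH) (Lpe (K13.f173271 IH) (Lpr_bt (f173328 IH) (Lpr_gt (f173332 IH) (Lpe (f237411 IH) (Lpn (LP (LK LD1_c8 LD2_c42 LD3_c52)))))))))))))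
theorem f237456 : Led Lsl_ct (LP (LK LD1_c4 LD2_c22 LD3_c47)) = (LP (LK LD1_c8 LD2_c42 LD3_c52)) :=
  Lgr Lrot59 (Lpr_cf (f237452 IH) (Lpn (LP (LK LD1_c8 LD2_c42 LD3_c52))))
theorem f547729 : Led Lsl_gf (LP (LK LD1_c5 LD2_c46 LD3_c45)) = (LP (LK LD1_c8 LD2_c42 LD3_c52)) :=
  Lgr Lrot129 (Lpr_cf (f197465 IH) (Lpr_bt (K13.f60760 IH) (Lpr_gt (K13.f60606 IH) (Lpe (K2.f60645 IH) (Lpr_ct (f197512 IH) (Lpr_gt (f60161 IH) (Lpr_cf (f547713 IH) (Lpr_bt (f385886 IH) (Lpe (f401406 IH) (Lpr_ct (f237456 IH) (Lpn (LP (LK LD1_c8 LD2_c42 LD3_c52)))))))))))))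
theorem f547318 : Led Lsl_bt (LP (LK LD1_c2 LD2_c49 LD3_c3)) = (LP (LK LD1_c5 LD2_c37 LD3_c12)) :=
  Lgr Lrot35 (Lpe (K16.f272371 IH) (Lpr_bf (f193975 IH) (Lpr_ff (f547316 IH) (Lpn (LP (LK LD1_c5 LD2_c37 LD3_c12))))))
theorem f237454 : Led Lsl_bt (LP (LK LD1_c4 LD2_c22 LD3_c47)) = (LP (LK LD1_c8 LD2_c43 LD3_c23)) :=
  Lre_b IH (LK LD1_c4 LD2_c22 LD3_c47) (LK LD1_c8 LD2_c43 LD3_c23) Lrfl Lrfl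
theorem f547731 : Led Lsl_gt (LP (LK LD1_c5 LD2_c37 LD3_c12)) = (LP (LK LD1_c8 LD2_c43 LD3_c23)) :=
  Lgr Lrot164 (Lpe (f547318 IH) (Lpr_ct (K13.f175838 IH) (Lpe (K10.f68603 IH) (Lpe (K1.f59282 IH) (Lpe (K13.f60606 IH) (Lpe (K13.f60760 IH) (Lpe (f197465 IH) (Lpr_gf (f547729 IH) (Lpe (f237456 IH) (Lpr_bt (f237454 IH) (Lpn (LP (LK LD1_c8 LD2_c43 LD3_c23)))))))))))))
theorem f542883 : Led Lsl_ef (LP (LK LD1_c8 LD2_c51 LD3_c56)) = (LP (LK LD1_c4 LD2_c39 LD3_c46)) :=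
  Lgr Lrot88 (Lpr_et (K37.f542881 IH) (Lpn (LP (LK LD1_c4 LD2_c39 LD3_c46))))
theorem f547323 : Led Lsl_et (LP (LK LD1_c9 LD2_c51 LD3_c26)) = (LP (LK LD1_c5 LD2_c37 LD3_c12)) :=
  Lgr Lrot69 (Lpr_ff (K36.f273157 IH) (Lpr_ef (f542883 IH) (Lpe (K36.f542808 IH) (Lpe (f212087 IH) (Lpr_ff (f547316 IH) (Lpn (LP (LK LD1_c5 LD2_c37 LD3_c12))))))))
theorem f175567 : Led Lsl_ct (LP (LK LD1_c5 LD2_c0 LD3_c34)) = (LP (LK LD1_c9 LD2_c51 LD3_c26)) :=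
  Lre_c IH (LK LD1_c5 LD2_c0 LD3_c34) (LK LD1_c9 LD2_c51 LD3_c26) Lrfl Lrfl
theorem f418446 : Led Lsl_df (LP (LK LD1_c9 LD2_c51 LD3_c26)) = (LP (LK LD1_c15 LD2_c8 LD3_c51)) :=
  Lgr Lrot38 (Lpr_dt (K37.f227875 IH) (Lpn (LP (LK LD1_c15 LD2_c8 LD3_c51))))
theorem f537982 : Led Lsl_dt (LP (LK LD1_c2 LD2_c15 LD3_c60)) = (LP (LK LD1_c4 LD2_c37 LD3_c36)) :=
  Lre_d IH (LK LD1_c2 LD2_c15 LD3_c60) (LK LD1_c4 LD2_c37 LD3_c36) Lrfl Lrfl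
theorem f538596 : Led Lsl_ft (LP (LK LD1_c4 LD2_c37 LD3_c5)) = (LP (LK LD1_c8 LD2_c46 LD3_c40)) :=
  Lgr Lrot48 (Lpr_ff (K35.f538588 IH) (Lpn (LP (LK LD1_c8 LD2_c46 LD3_c40))))
theorem f541483 : Led Lsl_cf (LP (LK LD1_c4 LD2_c35 LD3_c11)) = (LP (LK LD1_c8 LD2_c46 LD3_c40)) :=
  Lgr Lrot108 (Lpr_ft (K36.f541481 IH) (Lpr_ct (K37.f537985 IH) (Lpr_ft (f538596 IH) (Lpn (LP (LK LD1_c8 LD2_c46 LD3_c40))))))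
theorem f494484 : Led Lsl_dt (LP (LK LD1_c4 LD2_c37 LD3_c28)) = (LP (LK LD1_c9 LD2_c10 LD3_c33)) :=
  Lre_d IH (LK LD1_c4 LD2_c37 LD3_c28) (LK LD1_c9 LD2_c10 LD3_c33) Lrfl Lrfl
theorem f545295 : Led Lsl_gf (LP (LK LD1_c15 LD2_c8 LD3_c51)) = (LP (LK LD1_c9 LD2_c10 LD3_c33)) :=
  Lgr Lrot143 (Lpe (f418446 IH) (Lpe (f175567 IH) (Lpe (K36.f175411 IH) (Lpr_gf (f545293 IH) (Lpe (f537982 IH) (Lpq (K36.f541487 IH) (Lpe (K36.f500409 IH) (Lpr_cf (f541483 IH) (Lpe (K36.f538598 IH) (Lpr_dt (f494484 IH) (Lpn (LP (LK LD1_c9 LD2_c10 LD3_c33)))))))))))))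
theorem f547733 : Led Lsl_et (LP (LK LD1_c6 LD2_c24 LD3_c30)) = (LP (LK LD1_c8 LD2_c43 LD3_c23)) :=
  Lgr Lrot122 (Lpr_dt (f117600 IH) (Lpe (f538608 IH) (Lpe (K35.f538351 IH) (Lpr_et (K35.f538594 IH) (Lpe (K36.f538598 IH) (Lpr_dt (f494484 IH) (Lpe (f545295 IH) (Lpe (K37.f227875 IH) (Lpr_et (f547323 IH) (Lpr_gt (f547731 IH) (Lpn (LP (LK LD1_c8 LD2_c43 LD3_c23)))))))))))))
theorem f117551 : Led Lsl_ft (LP (LK LD1_c3 LD2_c9 LD3_c53)) = (LP (LK LD1_c6 LD2_c24 LD3_c30)) :=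
  Lre_f IH (LK LD1_c3 LD2_c9 LD3_c53) (LK LD1_c6 LD2_c24 LD3_c30) Lrfl Lrfl
theorem f112448 : Led Lsl_et (LP (LK LD1_c1 LD2_c31 LD3_c4)) = (LP (LK LD1_c3 LD2_c9 LD3_c53)) :=
  Lre_e IH (LK LD1_c1 LD2_c31 LD3_c4) (LK LD1_c3 LD2_c9 LD3_c53) Lrfl Lrfl
theorem f112836 : Led Lsl_et (LP (LK LD1_c4 LD2_c23 LD3_c55)) = (LP (LK LD1_c2 LD2_c9 LD3_c22)) :=
  Lre_e IH (LK LD1_c4 LD2_c23 LD3_c55) (LK LD1_c2 LD2_c9 LD3_c22) Lrfl Lrfl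
theorem f547739 : Led Lsl_ff (LP (LK LD1_c4 LD2_c23 LD3_c55)) = (LP (LK LD1_c8 LD2_c43 LD3_c23)) :=
  Lgr Lrot72 (Lpr_et (f112836 IH) (Lpe (K4.f117545 IH) (Lpr_et (f112448 IH) (Lpr_ft (f117551 IH) (Lpr_et (f547733 IH) (Lpn (LP (LK LD1_c8 LD2_c43 LD3_c23))))))))
theorem f117619 : Led Lsl_ft (LP (LK LD1_c3 LD2_c9 LD3_c56)) = (LP (LK LD1_c6 LD2_c24 LD3_c36)) :=
  Lre_f IH (LK LD1_c3 LD2_c9 LD3_c56) (LK LD1_c6 LD2_c24 LD3_c36) Lrfl Lrfl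
theorem f547741 : Led Lsl_at (LP (LK LD1_c6 LD2_c24 LD3_c36)) = (LP (LK LD1_c8 LD2_c43 LD3_c23)) :=
  Lgr Lrot66 (Lpe (f117619 IH) (Lpr_af (f117629 IH) (Lpr_ff (f547739 IH) (Lpn (LP (LK LD1_c8 LD2_c43 LD3_c23))))))
theorem f547751 : Led Lsl_gt (LP (LK LD1_c3 LD2_c9 LD3_c56)) = (LP (LK LD1_c5 LD2_c37 LD3_c12)) :=
  Lgr Lrot5 (Lpr_ft (f117619 IH) (Lpr_at (f547741 IH) (Lpe (f547731 IH) (Lpn (LP (LK LD1_c5 LD2_c37 LD3_c12))))))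
theorem f496031 : Led Lsl_cf (LP (LK LD1_c3 LD2_c9 LD3_c56)) = v1520 :=
  Lgr Lrot39 (Lpr_et (f117609 IH) (Lpr_ct (K5.f117813 IH) (Lpr_et (f496029 IH) (Lpn v1520))))
theorem f452602 : Led Lsl_ef (LP (LK LD1_c0 LD2_c37 LD3_c25)) = v391 :=
  Lgr Lrot88 (Lpr_et (f452601 IH) (Lpn v391))
theorem f496030 : Led Lsl_bf v391 = v1520 :=
  Lgr Lrot96 (Lpe (f452602 IH) (Lpr_bt (K32.f117820 IH) (Lpr_et (f496029 IH) (Lpn v1520))))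
theorem f495978 : Led Lsl_bf (LP (LK LD1_c1 LD2_c20 LD3_c44)) = K36.v1511 :=
  Lgr Lrot24 (Lpr_bt (K36.f495977 IH) (Lpn K36.v1511))
theorem f452514 : Led Lsl_cf (LP (LK LD1_c0 LD2_c36 LD3_c47)) = K37.v377 :=
  Lgr Lrot11 (Lpr_ct (K37.f452513 IH) (Lpn K37.v377))
theorem f547757 : v2904 = (LP (LK LD1_c2 LD2_c12 LD3_c51)) :=
  (Llr Lrot124 (Lpe (f536139 IH) (Lpr_bf (f496030 IH) (Lpe (f496031 IH) (Lpr_gt (f547751 IH) (Lpe (f547315 IH) (Lpqs (f547308 IH) (Lpe (f495978 IH) (Lpe (K10.f175419 IH) (Lpr_ct (K11.f9516 IH) (Lpr_gt (K9.f22409 IH) (Lpr_cf (f452514 IH) (Lpq (f537760 IH) (Lpe (K35.f319396 IH) (Lpn (LP (LK LD1_c2 LD2_c12 LD3_c51))))))))))))))))).symm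
theorem f547758 : v391 = (LP (LK LD1_c1 LD2_c18 LD3_c46)) :=
  Lefun (Lecon (Lfl_gf (f536139 IH)) (f547757 IH)) (f380444 IH)
theorem f547760 : v1243 = v1451 :=
  Lefun (Lecon (f494267 IH) (f547758 IH)) (f495648 IH)
theorem f132477 : Led Lsl_et (LP (LK LD1_c1 LD2_c21 LD3_c5)) = (LP (LK LD1_c0 LD2_c37 LD3_c26)) :=
  Lre_e IH (LK LD1_c1 LD2_c21 LD3_c5) (LK LD1_c0 LD2_c37 LD3_c26) Lrfl Lrfl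
def v1524 : LQ := Led Lsl_ft (LP (LK LD1_c1 LD2_c21 LD3_c5))
theorem f496048 : Led Lsl_ft (LP (LK LD1_c1 LD2_c21 LD3_c5)) = v1524 :=
  Lrfl
theorem f496049 : Led Lsl_ff (LP (LK LD1_c1 LD2_c21 LD3_c5)) = v1524 :=
  Lgr Lrot3 (Lpr_ft (f496048 IH) (Lpn v1524))
theorem f548382 : v1524 = (LP (LK LD1_c2 LD2_c44 LD3_c54)) :=
  (Llr Lrot72 (Lpe (f496049 IH) (Lpr_et (f132477 IH) (Lpe (K5.f132486 IH) (Lpr_et (f494263 IH) (Lpqs (f547760 IH) (Lpe (f495647 IH) (Lpr_et (f495641 IH) (Lpn (LP (LK LD1_c2 LD2_c44 LD3_c54))))))))))).symm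
def v1522 : LQ := Led Lsl_gt (LP (LK LD1_c1 LD2_c21 LD3_c5))
theorem f496042 : Led Lsl_gt (LP (LK LD1_c1 LD2_c21 LD3_c5)) = v1522 :=
  Lrfl
theorem f547959 : (LP (LK LD1_c1 LD2_c25 LD3_c40)) = v1522 :=
  Lefun (Lecon (Lfl_gf (K35.f501270 IH)) (f547957 IH).symm) (f496042 IH)
theorem f548389 : Led Lsl_af (LP (LK LD1_c2 LD2_c59 LD3_c53)) = (LP (LK LD1_c2 LD2_c44 LD3_c54)) :=
  Lgr Lrot31 (Lpe (f169123 IH) (Lpqs (f547959 IH) (Lpe (f496042 IH) (Lpr_ft (f496048 IH) (Lpqs (f548382 IH) (Lpn (LP (LK LD1_c2 LD2_c44 LD3_c54))))))))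
theorem f132337 : Led Lsl_at (LP (LK LD1_c2 LD2_c14 LD3_c9)) = (LP (LK LD1_c1 LD2_c21 LD3_c5)) :=
  Lgr Lrot100 (Lpr_af (K5.f132335 IH) (Lpn (LP (LK LD1_c1 LD2_c21 LD3_c5))))
theorem f548401 : Led Lsl_ft (LP (LK LD1_c2 LD2_c59 LD3_c53)) = (LP (LK LD1_c2 LD2_c14 LD3_c9)) :=
  Lgr Lrot101 (Lpr_af (f548389 IH) (Lpq (f548382 IH) (Lpe (f496048 IH) (Lpe (f132337 IH) (Lpn (LP (LK LD1_c2 LD2_c14 LD3_c9)))))))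
theorem f548407 : Led Lsl_ff (LP (LK LD1_c2 LD2_c59 LD3_c53)) = (LP (LK LD1_c2 LD2_c14 LD3_c9)) :=
  Lgr Lrot3 (Lpr_ft (f548401 IH) (Lpn (LP (LK LD1_c2 LD2_c14 LD3_c9))))
theorem f56011 : Led Lsl_ct (LP (LK LD1_c2 LD2_c59 LD3_c53)) = (LP (LK LD1_c6 LD2_c7 LD3_c27)) :=
  Lre_c IH (LK LD1_c2 LD2_c59 LD3_c53) (LK LD1_c6 LD2_c7 LD3_c27) Lrfl Lrfl
theorem f36554 : Led Lsl_ct (LP (LK LD1_c4 LD2_c34 LD3_c22)) = (LP (LK LD1_c2 LD2_c14 LD3_c9)) :=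
  Lre_c IH (LK LD1_c4 LD2_c34 LD3_c22) (LK LD1_c2 LD2_c14 LD3_c9) Lrfl Lrfl
theorem f548411 : Led Lsl_ft (LP (LK LD1_c6 LD2_c7 LD3_c27)) = (LP (LK LD1_c4 LD2_c34 LD3_c22)) :=
  Lgr Lrot4 (Lpe (f56011 IH) (Lpr_ff (f548407 IH) (Lpe (f36554 IH) (Lpn (LP (LK LD1_c4 LD2_c34 LD3_c22))))))
theorem f117847 : Led Lsl_et (LP (LK LD1_c4 LD2_c34 LD3_c22)) = (LP (LK LD1_c2 LD2_c14 LD3_c8)) :=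
  Lre_e IH (LK LD1_c4 LD2_c34 LD3_c22) (LK LD1_c2 LD2_c14 LD3_c8) Lrfl Lrfl
def v1521 : LQ := Led Lsl_et (LP (LK LD1_c1 LD2_c21 LD3_c0))
theorem f496036 : Led Lsl_et (LP (LK LD1_c1 LD2_c21 LD3_c0)) = v1521 :=
  Lrfl
theorem f496038 : Led Lsl_cf v391 = v1521 :=
  Lgr Lrot39 (Lpe (f452602 IH) (Lpr_ct (K8.f20561 IH) (Lpr_et (f496036 IH) (Lpn v1521))))
theorem f380275 : Led Lsl_ct (LP (LK LD1_c2 LD2_c12 LD3_c50)) = (LP (LK LD1_c4 LD2_c31 LD3_c42)) :=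
  Lre_c IH (LK LD1_c2 LD2_c12 LD3_c50) (LK LD1_c4 LD2_c31 LD3_c42) Lrfl Lrfl
theorem f544921 : Led Lsl_ff v1521 = (LP (LK LD1_c4 LD2_c31 LD3_c42)) :=
  Lgr Lrot23 (Lpe (f496038 IH) (Lpr_ft (f536142 IH) (Lpq (f544920 IH) (Lpr_ct (f380275 IH) (Lpn (LP (LK LD1_c4 LD2_c31 LD3_c42)))))))
theorem f544922 : Led Lsl_ft v1521 = (LP (LK LD1_c4 LD2_c31 LD3_c42)) :=
  Lgr Lrot48 (Lpr_ff (f544921 IH) (Lpn (LP (LK LD1_c4 LD2_c31 LD3_c42))))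
theorem f548413 : Led Lsl_ef (LP (LK LD1_c6 LD2_c7 LD3_c27)) = (LP (LK LD1_c4 LD2_c31 LD3_c42)) :=
  Lgr Lrot21 (Lpr_ft (f548411 IH) (Lpr_et (f117847 IH) (Lpr_ft (K5.f117827 IH) (Lpr_et (f496036 IH) (Lpr_ft (f544922 IH) (Lpn (LP (LK LD1_c4 LD2_c31 LD3_c42))))))))
theorem f548418 : Led Lsl_et (LP (LK LD1_c6 LD2_c7 LD3_c27)) = (LP (LK LD1_c4 LD2_c31 LD3_c42)) :=
  Lgr Lrot87 (Lpr_ef (f548413 IH) (Lpn (LP (LK LD1_c4 LD2_c31 LD3_c42))))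
theorem f211963 : Led Lsl_bt (LP (LK LD1_c5 LD2_c37 LD3_c20)) = (LP (LK LD1_c2 LD2_c44 LD3_c36)) :=
  Lre_b IH (LK LD1_c5 LD2_c37 LD3_c20) (LK LD1_c2 LD2_c44 LD3_c36) Lrfl Lrfl
theorem f384039 : Led Lsl_df (LP (LK LD1_c5 LD2_c37 LD3_c20)) = (LP (LK LD1_c2 LD2_c48 LD3_c6)) :=
  Lgr Lrot12 (Lpr_bt (f211963 IH) (Lpr_dt (K27.f384037 IH) (Lpr_bt (K31.f381550 IH) (Lpn (LP (LK LD1_c2 LD2_c48 LD3_c6))))))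
theorem f384044 : Led Lsl_dt (LP (LK LD1_c5 LD2_c37 LD3_c20)) = (LP (LK LD1_c2 LD2_c48 LD3_c6)) :=
  Lgr Lrot42 (Lpr_df (f384039 IH) (Lpn (LP (LK LD1_c2 LD2_c48 LD3_c6))))
theorem f423286 : Led Lsl_gf (LP (LK LD1_c5 LD2_c37 LD3_c20)) = (LP (LK LD1_c4 LD2_c31 LD3_c42)) :=
  Lgr Lrot144 (Lpr_dt (f384044 IH) (Lpr_gt (K31.f423282 IH) (Lpr_dt (K31.f382045 IH) (Lpr_cf (K31.f382046 IH) (Lpe (K31.f407077 IH) (Lpe (K31.f169121 IH) (Lpe (K31.f169111 IH) (Lpe (K35.f169117 IH) (Lpe (K35.f380270 IH) (Lpn (LP (LK LD1_c4 LD2_c31 LD3_c42))))))))))))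
def v1675 : LQ := Led Lsl_et (LP (LK LD1_c1 LD2_c23 LD3_c48))
theorem f500711 : Led Lsl_et (LP (LK LD1_c1 LD2_c23 LD3_c48)) = v1675 :=
  Lrfl
theorem f500714 : Led Lsl_ef (LP (LK LD1_c1 LD2_c23 LD3_c48)) = v1675 :=
  Lgr Lrot88 (Lpr_et (f500711 IH) (Lpn v1675))
theorem f208514 : Led Lsl_at (LP (LK LD1_c0 LD2_c37 LD3_c54)) = (LP (LK LD1_c1 LD2_c4 LD3_c21)) :=
  Lgr Lrot107 (Lpe (K6.f8371 IH) (Lpr_af (K36.f208510 IH) (Lpe (K5.f72259 IH) (Lpn (LP (LK LD1_c1 LD2_c4 LD3_c21))))))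
theorem f160988 : Led Lsl_af (LP (LK LD1_c1 LD2_c4 LD3_c20)) = (LP (LK LD1_c0 LD2_c37 LD3_c55)) :=
  Lgr Lrot109 (Lpr_cf (K8.f157617 IH) (Lpe (K8.f160965 IH) (Lpr_cf (K8.f160978 IH) (Lpr_df (K32.f130218 IH) (Lpe (K4.f65934 IH) (Lpr_df (K5.f65971 IH) (Lpe (K6.f130541 IH) (Lpr_df (K5.f130550 IH) (Lpr_ft (K36.f141941 IH) (Lpn (LP (LK LD1_c0 LD2_c37 LD3_c55))))))))))))
theorem f208578 : Led Lsl_ff (LP (LK LD1_c0 LD2_c37 LD3_c54)) = (LP (LK LD1_c1 LD2_c4 LD3_c20)) :=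
  Lgr Lrot30 (Lpr_at (f208514 IH) (Lpr_ft (K36.f141941 IH) (Lpe (f160988 IH) (Lpn (LP (LK LD1_c1 LD2_c4 LD3_c20))))))
theorem f208580 : Led Lsl_ft (LP (LK LD1_c1 LD2_c21 LD3_c54)) = (LP (LK LD1_c1 LD2_c23 LD3_c48)) :=
  Lgr Lrot4 (Lpe (K6.f8362 IH) (Lpr_ff (f208578 IH) (Lpr_cf (K8.f157617 IH) (Lpn (LP (LK LD1_c1 LD2_c23 LD3_c48))))))
theorem f208582 : Led Lsl_af (LP (LK LD1_c1 LD2_c21 LD3_c57)) = (LP (LK LD1_c1 LD2_c23 LD3_c48)) :=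
  Lgr Lrot45 (Lpr_ft (K36.f208508 IH) (Lpe (K36.f208510 IH) (Lpr_ft (f208580 IH) (Lpn (LP (LK LD1_c1 LD2_c23 LD3_c48))))))
theorem f500715 : Led Lsl_at K36.v1583 = v1675 :=
  Lgr Lrot80 (Lpe (K36.f500192 IH) (Lpr_af (f208582 IH) (Lpr_ef (f500714 IH) (Lpn v1675))))
theorem f541400 : v1675 = (LP (LK LD1_c2 LD2_c47 LD3_c50)) :=
  Lefun (Lecon (f500715 IH) (K36.f541384 IH)) (f423245 IH)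
theorem f72407 : Led Lsl_et (LP (LK LD1_c2 LD2_c55 LD3_c18)) = (LP (LK LD1_c1 LD2_c23 LD3_c36)) :=
  Lre_e IH (LK LD1_c2 LD2_c55 LD3_c18) (LK LD1_c1 LD2_c23 LD3_c36) Lrfl Lrfl
theorem f72408 : Led Lsl_dt (LP (LK LD1_c2 LD2_c55 LD3_c18)) = (LP (LK LD1_c5 LD2_c57 LD3_c54)) :=
  Lre_d IH (LK LD1_c2 LD2_c55 LD3_c18) (LK LD1_c5 LD2_c57 LD3_c54) Lrfl Lrfl
theorem f545703 : Led Lsl_bt (LP (LK LD1_c2 LD2_c53 LD3_c52)) = (LP (LK LD1_c5 LD2_c55 LD3_c1)) :=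
  Lre_b IH (LK LD1_c2 LD2_c53 LD3_c52) (LK LD1_c5 LD2_c55 LD3_c1) Lrfl Lrfl
theorem f386765 : Led Lsl_ct (LP (LK LD1_c5 LD2_c58 LD3_c3)) = (LP (LK LD1_c2 LD2_c55 LD3_c24)) :=
  Lre_c IH (LK LD1_c5 LD2_c58 LD3_c3) (LK LD1_c2 LD2_c55 LD3_c24) Lrfl Lrfl
theorem f387166 : Led Lsl_gt (LP (LK LD1_c5 LD2_c14 LD3_c38)) = (LP (LK LD1_c5 LD2_c58 LD3_c3)) :=
  Lgr Lrot150 (Lpe (K28.f163943 IH) (Lpr_gf (K32.f387158 IH) (Lpe (K32.f308063 IH) (Lpr_gt (K32.f186693 IH) (Lpe (K27.f308052 IH) (Lpe (K27.f386763 IH) (Lpr_ct (K36.f386671 IH) (Lpe (K24.f386672 IH) (Lpe (f386765 IH) (Lpn (LP (LK LD1_c5 LD2_c58 LD3_c3))))))))))))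
theorem f386723 : Led Lsl_ct (LP (LK LD1_c2 LD2_c55 LD3_c24)) = (LP (LK LD1_c5 LD2_c58 LD3_c3)) :=
  Lre_c IH (LK LD1_c2 LD2_c55 LD3_c24) (LK LD1_c5 LD2_c58 LD3_c3) Lrfl Lrfl
theorem f545704 : Led Lsl_gf (LP (LK LD1_c5 LD2_c55 LD3_c1)) = (LP (LK LD1_c5 LD2_c57 LD3_c54)) :=
  Lgr Lrot124 (Lpe (f545703 IH) (Lpr_ct (f180590 IH) (Lpr_gt (f180591 IH) (Lpr_cf (f545690 IH) (Lpe (f545701 IH) (Lpe (K32.f387158 IH) (Lpr_ct (K28.f163943 IH) (Lpr_gt (f387166 IH) (Lpe (f386723 IH) (Lpr_bt (f387168 IH) (Lpn (LP (LK LD1_c5 LD2_c57 LD3_c54)))))))))))))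
theorem f548422 : Led Lsl_dt (LP (LK LD1_c6 LD2_c7 LD3_c27)) = (LP (LK LD1_c5 LD2_c55 LD3_c1)) :=
  Lgr Lrot37 (Lpr_et (f548418 IH) (Lpe (f423286 IH) (Lpr_dt (f384044 IH) (Lpr_gt (K31.f423282 IH) (Lpe (K31.f381961 IH) (Lpq (f541400 IH) (Lpe (f500714 IH) (Lpr_gt (K8.f160957 IH) (Lpe (f72407 IH) (Lpr_dt (f72408 IH) (Lpe (f545704 IH) (Lpn (LP (LK LD1_c5 LD2_c55 LD3_c1))))))))))))))
theorem f132346 : Led Lsl_dt (LP (LK LD1_c2 LD2_c50 LD3_c4)) = (LP (LK LD1_c1 LD2_c21 LD3_c5)) :=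
  Lre_d IH (LK LD1_c2 LD2_c50 LD3_c4) (LK LD1_c1 LD2_c21 LD3_c5) Lrfl Lrfl
theorem f132355 : Led Lsl_ct (LP (LK LD1_c5 LD2_c48 LD3_c5)) = (LP (LK LD1_c2 LD2_c50 LD3_c4)) :=
  Lre_c IH (LK LD1_c5 LD2_c48 LD3_c5) (LK LD1_c2 LD2_c50 LD3_c4) Lrfl Lrfl
theorem f132356 : Led Lsl_dt (LP (LK LD1_c11 LD2_c25 LD3_c48)) = (LP (LK LD1_c5 LD2_c48 LD3_c5)) :=
  Lre_d IH (LK LD1_c11 LD2_c25 LD3_c48) (LK LD1_c5 LD2_c48 LD3_c5) Lrfl Lrfl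
theorem f548003 : Led Lsl_dt (LP (LK LD1_c10 LD2_c5 LD3_c55)) = (LP (LK LD1_c18 LD2_c24 LD3_c42)) :=
  Lre_d IH (LK LD1_c10 LD2_c5 LD3_c55) (LK LD1_c18 LD2_c24 LD3_c42) Lrfl Lrfl
theorem f548433 : Led Lsl_cf (LP (LK LD1_c11 LD2_c25 LD3_c48)) = (LP (LK LD1_c18 LD2_c24 LD3_c42)) :=
  Lgr Lrot116 (Lpr_dt (f132356 IH) (Lpr_ct (f132355 IH) (Lpr_dt (f132346 IH) (Lpr_ct (f132354 IH) (Lpe (K5.f132344 IH) (Lpe (f548411 IH) (Lpr_dt (f548422 IH) (Lpr_ct (f547999 IH) (Lpr_dt (f548003 IH) (Lpn (LP (LK LD1_c18 LD2_c24 LD3_c42))))))))))))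
theorem f175382 : Led Lsl_dt (LP (LK LD1_c2 LD2_c0 LD3_c6)) = (LP (LK LD1_c4 LD2_c5 LD3_c41)) :=
  Lre_d IH (LK LD1_c2 LD2_c0 LD3_c6) (LK LD1_c4 LD2_c5 LD3_c41) Lrfl Lrfl
theorem f538270 : Led Lsl_gf (LP (LK LD1_c4 LD2_c42 LD3_c50)) = (LP (LK LD1_c4 LD2_c5 LD3_c41)) :=
  Lgr Lrot145 (Lpe (K8.f132792 IH) (Lpr_et (K6.f132796 IH) (Lpr_gt (K36.f202243 IH) (Lpe (K11.f202209 IH) (Lpe (K35.f202354 IH) (Lpe (K7.f37814 IH) (Lpr_et (K35.f208722 IH) (Lpq (K35.f538268 IH) (Lpe (K35.f501199 IH) (Lpr_ef (K35.f175334 IH) (Lpr_dt (f175382 IH) (Lpn (LP (LK LD1_c4 LD2_c5 LD3_c41))))))))))))))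
theorem f132816 : Led Lsl_bt (LP (LK LD1_c5 LD2_c48 LD3_c0)) = (LP (LK LD1_c4 LD2_c42 LD3_c50)) :=
  Lgr Lrot127 (Lpr_bf (K8.f132814 IH) (Lpn (LP (LK LD1_c4 LD2_c42 LD3_c50))))
theorem f183035 : Led Lsl_bt (LP (LK LD1_c2 LD2_c0 LD3_c7)) = (LP (LK LD1_c4 LD2_c5 LD3_c41)) :=
  Lre_b IH (LK LD1_c2 LD2_c0 LD3_c7) (LK LD1_c4 LD2_c5 LD3_c41) Lrfl Lrfl
theorem f501261 : Led Lsl_bf (LP (LK LD1_c1 LD2_c25 LD3_c34)) = v1748 :=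
  Lgr Lrot24 (Lpr_bt (f501260 IH) (Lpn v1748))
theorem f3210 : Led Lsl_gt (LP (LK LD1_c10 LD2_c5 LD3_c56)) = (LP (LK LD1_c5 LD2_c7 LD3_c50)) :=
  Lre_g IH (LK LD1_c10 LD2_c5 LD3_c56) (LK LD1_c5 LD2_c7 LD3_c50) Lrfl Lrfl
theorem f538274 : Led Lsl_ct (LP (LK LD1_c5 LD2_c48 LD3_c0)) = (LP (LK LD1_c10 LD2_c5 LD3_c56)) :=
  Lgr Lrot64 (Lpr_bt (f132816 IH) (Lpr_gf (f538270 IH) (Lpe (f183035 IH) (Lpe (K9.f183033 IH) (Lpr_gf (K9.f182541 IH) (Lpe (K2.f55626 IH) (Lpr_gf (K11.f177391 IH) (Lpr_bf (f501261 IH) (Lpqs (f537816 IH) (Lpr_ct (f3193 IH) (Lpe (f3210 IH) (Lpn (LP (LK LD1_c10 LD2_c5 LD3_c56))))))))))))))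
theorem f538276 : Led Lsl_cf (LP (LK LD1_c5 LD2_c48 LD3_c0)) = (LP (LK LD1_c10 LD2_c5 LD3_c56)) :=
  Lgr Lrot11 (Lpr_ct (f538274 IH) (Lpn (LP (LK LD1_c10 LD2_c5 LD3_c56))))
theorem f545587 : Led Lsl_at (LP (LK LD1_c5 LD2_c7 LD3_c59)) = (LP (LK LD1_c10 LD2_c5 LD3_c56)) :=
  Lgr Lrot107 (Lpr_cf (f545585 IH) (Lpr_af (K5.f132351 IH) (Lpr_cf (f538276 IH) (Lpn (LP (LK LD1_c10 LD2_c5 LD3_c56))))))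
theorem f548437 : Led Lsl_ff (LP (LK LD1_c5 LD2_c7 LD3_c59)) = (LP (LK LD1_c10 LD2_c5 LD3_c55)) :=
  Lgr Lrot103 (Lpr_at (f545587 IH) (Lpe (f538274 IH) (Lpe (K5.f132350 IH) (Lpe (f132354 IH) (Lpe (f132346 IH) (Lpe (f132355 IH) (Lpe (f132356 IH) (Lpr_cf (f548433 IH) (Lpe (f548003 IH) (Lpn (LP (LK LD1_c10 LD2_c5 LD3_c55))))))))))))
theorem f548445 : Led Lsl_ft (LP (LK LD1_c5 LD2_c7 LD3_c59)) = (LP (LK LD1_c10 LD2_c5 LD3_c55)) :=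
  Lgr Lrot48 (Lpr_ff (f548437 IH) (Lpn (LP (LK LD1_c10 LD2_c5 LD3_c55))))
theorem f164600 : Led Lsl_gt (LP (LK LD1_c2 LD2_c31 LD3_c14)) = (LP (LK LD1_c5 LD2_c7 LD3_c58)) :=
  Lre_g IH (LK LD1_c2 LD2_c31 LD3_c14) (LK LD1_c5 LD2_c7 LD3_c58) Lrfl Lrfl
theorem f548449 : Led Lsl_af (LP (LK LD1_c5 LD2_c7 LD3_c58)) = (LP (LK LD1_c10 LD2_c5 LD3_c55)) :=
  Lgr Lrot31 (Lpe (f164600 IH) (Lpe (f3280 IH) (Lpr_ft (f548445 IH) (Lpn (LP (LK LD1_c10 LD2_c5 LD3_c55))))))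
theorem f548459 : Led Lsl_et (LP (LK LD1_c5 LD2_c7 LD3_c58)) = (LP (LK LD1_c10 LD2_c6 LD3_c21)) :=
  Lre_e IH (LK LD1_c5 LD2_c7 LD3_c58) (LK LD1_c10 LD2_c6 LD3_c21) Lrfl Lrfl
theorem f548444 : Led Lsl_et (LP (LK LD1_c18 LD2_c24 LD3_c43)) = (LP (LK LD1_c10 LD2_c5 LD3_c55)) :=
  Lre_e IH (LK LD1_c18 LD2_c24 LD3_c43) (LK LD1_c10 LD2_c5 LD3_c55) Lrfl Lrfl
theorem f548460 : Led Lsl_at (LP (LK LD1_c10 LD2_c6 LD3_c21)) = (LP (LK LD1_c18 LD2_c24 LD3_c43)) :=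
  Lgr Lrot80 (Lpe (f548459 IH) (Lpr_af (f548449 IH) (Lpe (f548444 IH) (Lpn (LP (LK LD1_c18 LD2_c24 LD3_c43))))))
theorem f548465 : Led Lsl_ct (LP (LK LD1_c18 LD2_c25 LD3_c21)) = (LP (LK LD1_c10 LD2_c6 LD3_c21)) :=
  Lre_c IH (LK LD1_c18 LD2_c25 LD3_c21) (LK LD1_c10 LD2_c6 LD3_c21) Lrfl Lrfl
theorem f545708 : Led Lsl_et (LP (LK LD1_c11 LD2_c35 LD3_c29)) = (LP (LK LD1_c5 LD2_c55 LD3_c1)) :=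
  Lre_e IH (LK LD1_c11 LD2_c35 LD3_c29) (LK LD1_c5 LD2_c55 LD3_c1) Lrfl Lrfl
theorem f548004 : Led Lsl_et (LP (LK LD1_c10 LD2_c5 LD3_c55)) = (LP (LK LD1_c18 LD2_c24 LD3_c43)) :=
  Lre_e IH (LK LD1_c10 LD2_c5 LD3_c55) (LK LD1_c18 LD2_c24 LD3_c43) Lrfl Lrfl
theorem f548005 : Led Lsl_cf (LP (LK LD1_c11 LD2_c35 LD3_c29)) = (LP (LK LD1_c18 LD2_c24 LD3_c43)) :=
  Lgr Lrot39 (Lpr_et (f545708 IH) (Lpr_ct (f547999 IH) (Lpr_et (f548004 IH) (Lpn (LP (LK LD1_c18 LD2_c24 LD3_c43))))))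
theorem f548466 : Led Lsl_af (LP (LK LD1_c18 LD2_c25 LD3_c21)) = (LP (LK LD1_c11 LD2_c35 LD3_c29)) :=
  Lgr Lrot68 (Lpr_ct (f548465 IH) (Lpr_at (f548460 IH) (Lpe (f548005 IH) (Lpn (LP (LK LD1_c11 LD2_c35 LD3_c29))))))
theorem f548470 : Led Lsl_at (LP (LK LD1_c18 LD2_c25 LD3_c21)) = (LP (LK LD1_c11 LD2_c35 LD3_c29)) :=
  Lgr Lrot100 (Lpr_af (f548466 IH) (Lpn (LP (LK LD1_c11 LD2_c35 LD3_c29))))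
theorem f548479 : Led Lsl_et (LP (LK LD1_c10 LD2_c6 LD3_c19)) = (LP (LK LD1_c18 LD2_c25 LD3_c21)) :=
  Lre_e IH (LK LD1_c10 LD2_c6 LD3_c19) (LK LD1_c18 LD2_c25 LD3_c21) Lrfl Lrfl
theorem f548480 : Led Lsl_af (LP (LK LD1_c10 LD2_c6 LD3_c19)) = (LP (LK LD1_c5 LD2_c55 LD3_c1)) :=
  Lgr Lrot50 (Lpr_et (f548479 IH) (Lpr_at (f548470 IH) (Lpr_et (f545708 IH) (Lpn (LP (LK LD1_c5 LD2_c55 LD3_c1))))))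
theorem f545056 : Led Lsl_ct (LP (LK LD1_c5 LD2_c7 LD3_c58)) = (LP (LK LD1_c10 LD2_c6 LD3_c19)) :=
  Lre_c IH (LK LD1_c5 LD2_c7 LD3_c58) (LK LD1_c10 LD2_c6 LD3_c19) Lrfl Lrfl
theorem f548486 : Led Lsl_dt (LP (LK LD1_c10 LD2_c6 LD3_c20)) = (LP (LK LD1_c5 LD2_c7 LD3_c58)) :=
  Lre_d IH (LK LD1_c10 LD2_c6 LD3_c20) (LK LD1_c5 LD2_c7 LD3_c58) Lrfl Lrfl
theorem f548440 : Led Lsl_ft (LP (LK LD1_c9 LD2_c5 LD3_c48)) = (LP (LK LD1_c5 LD2_c55 LD3_c1)) :=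
  Lgr Lrot4 (Lpe (f545590 IH) (Lpr_ff (f548437 IH) (Lpe (f547999 IH) (Lpn (LP (LK LD1_c5 LD2_c55 LD3_c1))))))
theorem f545062 : Led Lsl_ct (LP (LK LD1_c2 LD2_c31 LD3_c13)) = (LP (LK LD1_c5 LD2_c7 LD3_c56)) :=
  Lre_c IH (LK LD1_c2 LD2_c31 LD3_c13) (LK LD1_c5 LD2_c7 LD3_c56) Lrfl Lrfl
theorem f545087 : Led Lsl_dt (LP (LK LD1_c5 LD2_c7 LD3_c56)) = (LP (LK LD1_c10 LD2_c6 LD3_c14)) :=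
  Lre_d IH (LK LD1_c5 LD2_c7 LD3_c56) (LK LD1_c10 LD2_c6 LD3_c14) Lrfl Lrfl
theorem f548487 : Led Lsl_cf (LP (LK LD1_c10 LD2_c6 LD3_c20)) = (LP (LK LD1_c10 LD2_c6 LD3_c14)) :=
  Lgr Lrot161 (Lpr_dt (f548486 IH) (Lpr_ct (f545056 IH) (Lpr_af (f548480 IH) (Lpe (f548440 IH) (Lpr_dt (K5.f132347 IH) (Lpr_ct (f36554 IH) (Lpqs (f544988 IH) (Lpe (f544987 IH) (Lpr_ct (f545062 IH) (Lpr_dt (f545087 IH) (Lpn (LP (LK LD1_c10 LD2_c6 LD3_c14)))))))))))))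
theorem f548391 : Led Lsl_at (LP (LK LD1_c2 LD2_c59 LD3_c53)) = (LP (LK LD1_c2 LD2_c44 LD3_c54)) :=
  Lgr Lrot100 (Lpr_af (f548389 IH) (Lpn (LP (LK LD1_c2 LD2_c44 LD3_c54))))
theorem f548374 : Led Lsl_ct (LP (LK LD1_c5 LD2_c37 LD3_c57)) = (LP (LK LD1_c2 LD2_c44 LD3_c54)) :=
  Lre_c IH (LK LD1_c5 LD2_c37 LD3_c57) (LK LD1_c2 LD2_c44 LD3_c54) Lrfl Lrfl
theorem f548495 : Led Lsl_dt (LP (LK LD1_c10 LD2_c6 LD3_c19)) = (LP (LK LD1_c5 LD2_c37 LD3_c57)) :=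
  Lgr Lrot120 (Lpe (f545056 IH) (Lpe (f548486 IH) (Lpr_cf (f548487 IH) (Lpe (f545087 IH) (Lpe (f545062 IH) (Lpr_df (f544987 IH) (Lpq (f544988 IH) (Lpe (f548407 IH) (Lpr_at (f548391 IH) (Lpe (f548374 IH) (Lpn (LP (LK LD1_c5 LD2_c37 LD3_c57)))))))))))))
theorem f548373 : Led Lsl_ct (LP (LK LD1_c2 LD2_c44 LD3_c54)) = (LP (LK LD1_c5 LD2_c37 LD3_c57)) :=
  Lre_c IH (LK LD1_c2 LD2_c44 LD3_c54) (LK LD1_c5 LD2_c37 LD3_c57) Lrfl Lrfl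
theorem f380299 : Led Lsl_et (LP (LK LD1_c2 LD2_c44 LD3_c54)) = (LP (LK LD1_c1 LD2_c18 LD3_c45)) :=
  Lre_e IH (LK LD1_c2 LD2_c44 LD3_c54) (LK LD1_c1 LD2_c18 LD3_c45) Lrfl Lrfl
theorem f548366 : v1455 = (LP (LK LD1_c2 LD2_c44 LD3_c54)) :=
  (Llr Lrot170 (Lpe (f548134 IH) (Lpr_gt (f548122 IH) (Lpe (f172062 IH) (Lpr_et (f22436 IH) (Lpr_gt (K35.f501208 IH) (Lpqs (K35.f541444 IH) (Lpr_dt (f20394 IH) (Lpr_gt (f548271 IH) (Lpe (K36.f422724 IH) (Lpr_et (K35.f380288 IH) (Lpr_gt (f211848 IH) (Lpe (f380299 IH) (Lpn (LP (LK LD1_c2 LD2_c44 LD3_c54)))))))))))))))).symm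
theorem f132420 : Led Lsl_dt (LP (LK LD1_c4 LD2_c34 LD3_c22)) = (LP (LK LD1_c9 LD2_c5 LD3_c48)) :=
  Lre_d IH (LK LD1_c4 LD2_c34 LD3_c22) (LK LD1_c9 LD2_c5 LD3_c48) Lrfl Lrfl
theorem f548132 : Led Lsl_dt (LP (LK LD1_c2 LD2_c31 LD3_c12)) = v1455 :=
  Lgr Lrot6 (Lpr_gt (f548122 IH) (Lpr_ct (f55815 IH) (Lpe (f548118 IH) (Lpr_ct (f545590 IH) (Lpe (f132420 IH) (Lpe (K5.f36547 IH) (Lpqs (f544988 IH) (Lpe (f495658 IH) (Lpe (K35.f177830 IH) (Lpr_gf (f495659 IH) (Lpn v1455)))))))))))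
theorem f386840 : Led Lsl_et (LP (LK LD1_c2 LD2_c55 LD3_c3)) = (LP (LK LD1_c1 LD2_c23 LD3_c28)) :=
  Lre_e IH (LK LD1_c2 LD2_c55 LD3_c3) (LK LD1_c1 LD2_c23 LD3_c28) Lrfl Lrfl
theorem f386774 : Led Lsl_et (LP (LK LD1_c1 LD2_c23 LD3_c36)) = (LP (LK LD1_c2 LD2_c55 LD3_c18)) :=
  Lre_e IH (LK LD1_c1 LD2_c23 LD3_c36) (LK LD1_c2 LD2_c55 LD3_c18) Lrfl Lrfl
theorem f425940 : Led Lsl_af (LP (LK LD1_c2 LD2_c55 LD3_c3)) = (LP (LK LD1_c2 LD2_c55 LD3_c18)) :=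
  Lgr Lrot50 (Lpr_et (f386840 IH) (Lpr_at (K24.f160961 IH) (Lpr_et (f386774 IH) (Lpn (LP (LK LD1_c2 LD2_c55 LD3_c18))))))
theorem f427481 : Led Lsl_gf (LP (LK LD1_c2 LD2_c55 LD3_c3)) = (LP (LK LD1_c2 LD2_c31 LD3_c9)) :=
  Lgr Lrot76 (Lpr_af (f425940 IH) (Lpr_ff (K36.f427475 IH) (Lpr_gt (K36.f3283 IH) (Lpn (LP (LK LD1_c2 LD2_c31 LD3_c9))))))
theorem f386856 : Led Lsl_dt (LP (LK LD1_c2 LD2_c55 LD3_c3)) = (LP (LK LD1_c5 LD2_c57 LD3_c32)) :=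
  Lre_d IH (LK LD1_c2 LD2_c55 LD3_c3) (LK LD1_c5 LD2_c57 LD3_c32) Lrfl Lrfl
theorem f548508 : Led Lsl_gf (LP (LK LD1_c10 LD2_c6 LD3_c19)) = (LP (LK LD1_c5 LD2_c57 LD3_c32)) :=
  Lgr Lrot143 (Lpr_dt (f548495 IH) (Lpe (f548373 IH) (Lpq (f548366 IH) (Lpe (f548132 IH) (Lpe (K27.f22371 IH) (Lpe (f3251 IH) (Lpe (K36.f3281 IH) (Lpe (K36.f3282 IH) (Lpe (f427481 IH) (Lpr_dt (f386856 IH) (Lpn (LP (LK LD1_c5 LD2_c57 LD3_c32)))))))))))))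
theorem f548451 : Led Lsl_ct (LP (LK LD1_c10 LD2_c6 LD3_c19)) = (LP (LK LD1_c5 LD2_c7 LD3_c58)) :=
  Lre_c IH (LK LD1_c10 LD2_c6 LD3_c19) (LK LD1_c5 LD2_c7 LD3_c58) Lrfl Lrfl
theorem f427477 : Led Lsl_at (LP (LK LD1_c5 LD2_c6 LD3_c57)) = (LP (LK LD1_c5 LD2_c7 LD3_c36)) :=
  Lgr Lrot66 (Lpe (K36.f386754 IH) (Lpr_af (f425940 IH) (Lpr_ff (K36.f427475 IH) (Lpn (LP (LK LD1_c5 LD2_c7 LD3_c36))))))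
theorem f427491 : Led Lsl_gt (LP (LK LD1_c2 LD2_c55 LD3_c3)) = (LP (LK LD1_c2 LD2_c31 LD3_c4)) :=
  Lgr Lrot5 (Lpr_ft (K36.f386754 IH) (Lpr_at (f427477 IH) (Lpe (K27.f169697 IH) (Lpn (LP (LK LD1_c2 LD2_c31 LD3_c4))))))
theorem f172114 : Led Lsl_ct (LP (LK LD1_c8 LD2_c14 LD3_c53)) = (LP (LK LD1_c4 LD2_c7 LD3_c21)) :=
  Lre_c IH (LK LD1_c8 LD2_c14 LD3_c53) (LK LD1_c4 LD2_c7 LD3_c21) Lrfl Lrfl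
theorem f548514 : Led Lsl_gt (LP (LK LD1_c5 LD2_c7 LD3_c58)) = (LP (LK LD1_c8 LD2_c14 LD3_c53)) :=
  Lgr Lrot150 (Lpe (f548451 IH) (Lpr_gf (f548508 IH) (Lpe (f386856 IH) (Lpr_gt (f427491 IH) (Lpr_ct (f3295 IH) (Lpr_gt (K37.f495341 IH) (Lpqs (f537482 IH) (Lpr_ct (f422798 IH) (Lpr_df (f172096 IH) (Lpe (f172114 IH) (Lpn (LP (LK LD1_c8 LD2_c14 LD3_c53)))))))))))))
theorem f164506 : Led Lsl_ft (LP (LK LD1_c2 LD2_c31 LD3_c14)) = (LP (LK LD1_c5 LD2_c8 LD3_c1)) :=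
  Lre_f IH (LK LD1_c2 LD2_c31 LD3_c14) (LK LD1_c5 LD2_c8 LD3_c1) Lrfl Lrfl
theorem f548516 : Led Lsl_at (LP (LK LD1_c5 LD2_c8 LD3_c1)) = (LP (LK LD1_c8 LD2_c14 LD3_c53)) :=
  Lgr Lrot26 (Lpe (f164506 IH) (Lpr_gt (f164600 IH) (Lpr_gt (f548514 IH) (Lpn (LP (LK LD1_c8 LD2_c14 LD3_c53))))))
theorem f164588 : Led Lsl_et (LP (LK LD1_c10 LD2_c6 LD3_c38)) = (LP (LK LD1_c5 LD2_c8 LD3_c1)) :=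
  Lre_e IH (LK LD1_c10 LD2_c6 LD3_c38) (LK LD1_c5 LD2_c8 LD3_c1) Lrfl Lrfl
theorem f195747 : Led Lsl_et (LP (LK LD1_c8 LD2_c14 LD3_c53)) = (LP (LK LD1_c15 LD2_c30 LD3_c42)) :=
  Lre_e IH (LK LD1_c8 LD2_c14 LD3_c53) (LK LD1_c15 LD2_c30 LD3_c42) Lrfl Lrfl
theorem f548529 : Led Lsl_af (LP (LK LD1_c10 LD2_c6 LD3_c38)) = (LP (LK LD1_c15 LD2_c30 LD3_c42)) :=
  Lgr Lrot50 (Lpr_et (f164588 IH) (Lpr_at (f548516 IH) (Lpr_et (f195747 IH) (Lpn (LP (LK LD1_c15 LD2_c30 LD3_c42))))))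
theorem f151779 : Led Lsl_ct (LP (LK LD1_c10 LD2_c6 LD3_c38)) = (LP (LK LD1_c5 LD2_c8 LD3_c5)) :=
  Lre_c IH (LK LD1_c10 LD2_c6 LD3_c38) (LK LD1_c5 LD2_c8 LD3_c5) Lrfl Lrfl
theorem f172093 : Led Lsl_ct (LP (LK LD1_c8 LD2_c14 LD3_c54)) = (LP (LK LD1_c15 LD2_c30 LD3_c42)) :=
  Lre_c IH (LK LD1_c8 LD2_c14 LD3_c54) (LK LD1_c15 LD2_c30 LD3_c42) Lrfl Lrfl
theorem f548559 : Led Lsl_at (LP (LK LD1_c5 LD2_c8 LD3_c5)) = (LP (LK LD1_c8 LD2_c14 LD3_c54)) :=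
  Lgr Lrot107 (Lpe (f151779 IH) (Lpr_af (f548529 IH) (Lpe (f172093 IH) (Lpn (LP (LK LD1_c8 LD2_c14 LD3_c54))))))
theorem f172071 : Led Lsl_bt (LP (LK LD1_c6 LD2_c4 LD3_c3)) = (LP (LK LD1_c2 LD2_c58 LD3_c8)) :=
  Lre_b IH (LK LD1_c6 LD2_c4 LD3_c3) (LK LD1_c2 LD2_c58 LD3_c8) Lrfl Lrfl
theorem f172072 : Led Lsl_bt (LP (LK LD1_c4 LD2_c7 LD3_c22)) = (LP (LK LD1_c8 LD2_c14 LD3_c54)) :=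
  Lre_b IH (LK LD1_c4 LD2_c7 LD3_c22) (LK LD1_c8 LD2_c14 LD3_c54) Lrfl Lrfl
theorem f172073 : Led Lsl_df (LP (LK LD1_c6 LD2_c4 LD3_c3)) = (LP (LK LD1_c8 LD2_c14 LD3_c54)) :=
  Lgr Lrot12 (Lpr_bt (f172071 IH) (Lpr_dt (K35.f172066 IH) (Lpr_bt (f172072 IH) (Lpn (LP (LK LD1_c8 LD2_c14 LD3_c54))))))
theorem f548565 : Led Lsl_af (LP (LK LD1_c9 LD2_c6 LD3_c51)) = (LP (LK LD1_c6 LD2_c4 LD3_c3)) :=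
  Lgr Lrot117 (Lpr_dt (K7.f151759 IH) (Lpr_at (f548559 IH) (Lpe (f172073 IH) (Lpn (LP (LK LD1_c6 LD2_c4 LD3_c3))))))
theorem f151775 : Led Lsl_ft (LP (LK LD1_c9 LD2_c6 LD3_c51)) = (LP (LK LD1_c16 LD2_c58 LD3_c41)) :=
  Lre_f IH (LK LD1_c9 LD2_c6 LD3_c51) (LK LD1_c16 LD2_c58 LD3_c41) Lrfl Lrfl
theorem f172098 : Led Lsl_ft (LP (LK LD1_c11 LD2_c51 LD3_c48)) = (LP (LK LD1_c6 LD2_c4 LD3_c3)) :=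
  Lre_f IH (LK LD1_c11 LD2_c51 LD3_c48) (LK LD1_c6 LD2_c4 LD3_c3) Lrfl Lrfl
theorem f548577 : Led Lsl_at (LP (LK LD1_c16 LD2_c58 LD3_c41)) = (LP (LK LD1_c11 LD2_c51 LD3_c48)) :=
  Lgr Lrot66 (Lpe (f151775 IH) (Lpr_af (f548565 IH) (Lpe (f172098 IH) (Lpn (LP (LK LD1_c11 LD2_c51 LD3_c48))))))
theorem f151735 : Led Lsl_et (LP (LK LD1_c9 LD2_c6 LD3_c38)) = (LP (LK LD1_c16 LD2_c58 LD3_c41)) :=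
  Lre_e IH (LK LD1_c9 LD2_c6 LD3_c38) (LK LD1_c16 LD2_c58 LD3_c41) Lrfl Lrfl
theorem f151878 : Led Lsl_at (LP (LK LD1_c16 LD2_c58 LD3_c5)) = (LP (LK LD1_c9 LD2_c6 LD3_c38)) :=
  Lre_a IH (LK LD1_c16 LD2_c58 LD3_c5) (LK LD1_c9 LD2_c6 LD3_c38) Lrfl Lrfl
theorem f548589 : Led Lsl_ef (LP (LK LD1_c16 LD2_c58 LD3_c5)) = (LP (LK LD1_c11 LD2_c51 LD3_c48)) :=
  Lgr Lrot20 (Lpr_at (f151878 IH) (Lpr_et (f151735 IH) (Lpr_at (f548577 IH) (Lpn (LP (LK LD1_c11 LD2_c51 LD3_c48))))))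
theorem f548601 : Led Lsl_et (LP (LK LD1_c16 LD2_c58 LD3_c5)) = (LP (LK LD1_c11 LD2_c51 LD3_c48)) :=
  Lgr Lrot87 (Lpr_ef (f548589 IH) (Lpn (LP (LK LD1_c11 LD2_c51 LD3_c48))))
theorem f548609 : Led Lsl_ft (LP (LK LD1_c9 LD2_c6 LD3_c19)) = (LP (LK LD1_c16 LD2_c58 LD3_c5)) :=
  Lre_f IH (LK LD1_c9 LD2_c6 LD3_c19) (LK LD1_c16 LD2_c58 LD3_c5) Lrfl Lrfl
theorem f157956 : Led Lsl_et (LP (LK LD1_c4 LD2_c34 LD3_c51)) = (LP (LK LD1_c9 LD2_c6 LD3_c19)) :=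
  Lre_e IH (LK LD1_c4 LD2_c34 LD3_c51) (LK LD1_c9 LD2_c6 LD3_c19) Lrfl Lrfl
theorem f22435 : Led Lsl_et (LP (LK LD1_c6 LD2_c4 LD3_c3)) = (LP (LK LD1_c2 LD2_c58 LD3_c6)) :=
  Lre_e IH (LK LD1_c6 LD2_c4 LD3_c3) (LK LD1_c2 LD2_c58 LD3_c6) Lrfl Lrfl
theorem f548610 : Led Lsl_ff (LP (LK LD1_c4 LD2_c34 LD3_c51)) = (LP (LK LD1_c2 LD2_c58 LD3_c6)) :=
  Lgr Lrot72 (Lpr_et (f157956 IH) (Lpr_ft (f548609 IH) (Lpr_et (f548601 IH) (Lpr_ft (f172098 IH) (Lpr_et (f22435 IH) (Lpn (LP (LK LD1_c2 LD2_c58 LD3_c6))))))))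
theorem f422802 : Led Lsl_ct (LP (LK LD1_c6 LD2_c4 LD3_c2)) = (LP (LK LD1_c2 LD2_c58 LD3_c6)) :=
  Lre_c IH (LK LD1_c6 LD2_c4 LD3_c2) (LK LD1_c2 LD2_c58 LD3_c6) Lrfl Lrfl
theorem f548612 : Led Lsl_ft (LP (LK LD1_c9 LD2_c6 LD3_c21)) = (LP (LK LD1_c6 LD2_c4 LD3_c2)) :=
  Lgr Lrot4 (Lpe (K7.f20355 IH) (Lpr_ff (f548610 IH) (Lpe (f422802 IH) (Lpn (LP (LK LD1_c6 LD2_c4 LD3_c2))))))
theorem f500303 : Led Lsl_gt (LP (LK LD1_c9 LD2_c6 LD3_c21)) = (LP (LK LD1_c16 LD2_c58 LD3_c6)) :=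
  Lre_g IH (LK LD1_c9 LD2_c6 LD3_c21) (LK LD1_c16 LD2_c58 LD3_c6) Lrfl Lrfl
theorem f20362 : Led Lsl_at (LP (LK LD1_c4 LD2_c35 LD3_c0)) = (LP (LK LD1_c9 LD2_c6 LD3_c21)) :=
  Lre_a IH (LK LD1_c4 LD2_c35 LD3_c0) (LK LD1_c9 LD2_c6 LD3_c21) Lrfl Lrfl
theorem f20363 : Led Lsl_ft (LP (LK LD1_c9 LD2_c6 LD3_c50)) = (LP (LK LD1_c4 LD2_c35 LD3_c0)) :=
  Lre_f IH (LK LD1_c9 LD2_c6 LD3_c50) (LK LD1_c4 LD2_c35 LD3_c0) Lrfl Lrfl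
theorem f548619 : Led Lsl_af (LP (LK LD1_c9 LD2_c6 LD3_c50)) = (LP (LK LD1_c6 LD2_c4 LD3_c2)) :=
  Lgr Lrot45 (Lpr_ft (f20363 IH) (Lpr_at (f20362 IH) (Lpr_ft (f548612 IH) (Lpn (LP (LK LD1_c6 LD2_c4 LD3_c2))))))
theorem f548631 : Led Lsl_gt (LP (LK LD1_c16 LD2_c58 LD3_c6)) = (LP (LK LD1_c9 LD2_c6 LD3_c50)) :=
  Lgr Lrot46 (Lpe (f500303 IH) (Lpr_ft (f548612 IH) (Lpe (f548619 IH) (Lpn (LP (LK LD1_c9 LD2_c6 LD3_c50))))))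
theorem f151856 : Led Lsl_bt (LP (LK LD1_c4 LD2_c35 LD3_c1)) = (LP (LK LD1_c2 LD2_c14 LD3_c44)) :=
  Lre_b IH (LK LD1_c4 LD2_c35 LD3_c1) (LK LD1_c2 LD2_c14 LD3_c44) Lrfl Lrfl
theorem f24428 : Led Lsl_gt (LP (LK LD1_c1 LD2_c22 LD3_c30)) = (LP (LK LD1_c0 LD2_c38 LD3_c13)) :=
  Lre_g IH (LK LD1_c1 LD2_c22 LD3_c30) (LK LD1_c0 LD2_c38 LD3_c13) Lrfl Lrfl
theorem f24521 : Led Lsl_dt (LP (LK LD1_c1 LD2_c18 LD3_c51)) = (LP (LK LD1_c1 LD2_c22 LD3_c30)) :=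
  Lgr Lrot57 (Lpe (K12.f24251 IH) (Lpe (K9.f24250 IH) (Lpr_gt (K12.f9522 IH) (Lpr_dt (K9.f24440 IH) (Lpr_gt (K9.f24221 IH) (Lpr_dt (K9.f24415 IH) (Lpe (K36.f24249 IH) (Lpe (K35.f24420 IH) (Lpe (f24428 IH) (Lpn (LP (LK LD1_c1 LD2_c22 LD3_c30))))))))))))
theorem f24529 : Led Lsl_df (LP (LK LD1_c1 LD2_c18 LD3_c51)) = (LP (LK LD1_c1 LD2_c22 LD3_c30)) :=
  Lgr Lrot38 (Lpr_dt (f24521 IH) (Lpn (LP (LK LD1_c1 LD2_c22 LD3_c30))))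
theorem f210994 : Led Lsl_gt (LP (LK LD1_c2 LD2_c14 LD3_c44)) = (LP (LK LD1_c1 LD2_c22 LD3_c30)) :=
  Lgr Lrot189 (Lpe (K35.f151859 IH) (Lpe (f210675 IH) (Lpr_ct (K12.f210669 IH) (Lpe (K10.f37715 IH) (Lpr_dt (K10.f37531 IH) (Lpr_gt (K10.f37710 IH) (Lpe (K10.f175547 IH) (Lpr_ct (K12.f210988 IH) (Lpr_df (f24529 IH) (Lpn (LP (LK LD1_c1 LD2_c22 LD3_c30))))))))))))
def v1616 : LQ := Led Lsl_ct (LP (LK LD1_c1 LD2_c22 LD3_c30))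
theorem f500380 : Led Lsl_ct (LP (LK LD1_c1 LD2_c22 LD3_c30)) = v1616 :=
  Lrfl
def v1268 : LQ := Led Lsl_ct (LP (LK LD1_c1 LD2_c4 LD3_c47))
theorem f494416 : Led Lsl_ct (LP (LK LD1_c1 LD2_c4 LD3_c47)) = v1268 :=
  Lrfl
theorem f494418 : Led Lsl_cf (LP (LK LD1_c1 LD2_c4 LD3_c47)) = v1268 :=
  Lgr Lrot11 (Lpr_ct (f494416 IH) (Lpn v1268))
theorem f500383 : Led Lsl_gf v1268 = v1616 :=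
  Lgr Lrot104 (Lpe (f494418 IH) (Lpe (K10.f26790 IH) (Lpr_cf (K2.f71449 IH) (Lpe (K10.f27236 IH) (Lpe (K37.f211753 IH) (Lpr_gf (K12.f211765 IH) (Lpe (K7.f20332 IH) (Lpr_gt (f210994 IH) (Lpr_ct (f500380 IH) (Lpn v1616))))))))))
theorem f71433 : Led Lsl_bt (LP (LK LD1_c1 LD2_c4 LD3_c47)) = (LP (LK LD1_c2 LD2_c15 LD3_c22)) :=
  Lre_b IH (LK LD1_c1 LD2_c4 LD3_c47) (LK LD1_c2 LD2_c15 LD3_c22) Lrfl Lrfl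
theorem f112377 : Led Lsl_gt (LP (LK LD1_c2 LD2_c15 LD3_c22)) = (LP (LK LD1_c4 LD2_c36 LD3_c25)) :=
  Lre_g IH (LK LD1_c2 LD2_c15 LD3_c22) (LK LD1_c4 LD2_c36 LD3_c25) Lrfl Lrfl
theorem f494420 : Led Lsl_bt (LP (LK LD1_c9 LD2_c8 LD3_c58)) = (LP (LK LD1_c4 LD2_c36 LD3_c25)) :=
  Lre_b IH (LK LD1_c9 LD2_c8 LD3_c58) (LK LD1_c4 LD2_c36 LD3_c25) Lrfl Lrfl
theorem f548634 : Led Lsl_cf (LP (LK LD1_c16 LD2_c58 LD3_c6)) = (LP (LK LD1_c9 LD2_c8 LD3_c58)) :=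
  Lgr Lrot160 (Lpr_gt (f548631 IH) (Lpe (K7.f20337 IH) (Lpr_bt (f151856 IH) (Lpr_gt (f210994 IH) (Lpr_ct (f500380 IH) (Lpe (f500383 IH) (Lpe (f494416 IH) (Lpr_bt (f71433 IH) (Lpr_gt (f112377 IH) (Lpe (f494420 IH) (Lpn (LP (LK LD1_c9 LD2_c8 LD3_c58)))))))))))))
theorem f24537 : Led Lsl_bt (LP (LK LD1_c2 LD2_c52 LD3_c52)) = (LP (LK LD1_c1 LD2_c22 LD3_c30)) :=
  Lre_b IH (LK LD1_c2 LD2_c52 LD3_c52) (LK LD1_c1 LD2_c22 LD3_c30) Lrfl Lrfl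
theorem f24541 : Led Lsl_ct (LP (LK LD1_c2 LD2_c52 LD3_c52)) = (LP (LK LD1_c5 LD2_c53 LD3_c7)) :=
  Lre_c IH (LK LD1_c2 LD2_c52 LD3_c52) (LK LD1_c5 LD2_c53 LD3_c7) Lrfl Lrfl
theorem f426102 : Led Lsl_dt (LP (LK LD1_c2 LD2_c55 LD3_c45)) = (LP (LK LD1_c5 LD2_c58 LD3_c38)) :=
  Lre_d IH (LK LD1_c2 LD2_c55 LD3_c45) (LK LD1_c5 LD2_c58 LD3_c38) Lrfl Lrfl
theorem f548646 : Led Lsl_gt (LP (LK LD1_c5 LD2_c58 LD3_c38)) = (LP (LK LD1_c9 LD2_c8 LD3_c58)) :=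
  Lgr Lrot9 (Lpe (f426102 IH) (Lpqs (K36.f539248 IH) (Lpe (K37.f539931 IH) (Lpr_ct (K37.f208541 IH) (Lpr_gt (K36.f500182 IH) (Lpqs (K37.f539936 IH) (Lpr_ct (K7.f20330 IH) (Lpe (K7.f20333 IH) (Lpe (K7.f20334 IH) (Lpe (f548631 IH) (Lpr_cf (f548634 IH) (Lpn (LP (LK LD1_c9 LD2_c8 LD3_c58))))))))))))))
theorem f548649 : Led Lsl_gt (LP (LK LD1_c5 LD2_c53 LD3_c7)) = (LP (LK LD1_c6 LD2_c1 LD3_c29)) :=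
  Lgr Lrot65 (Lpe (f24541 IH) (Lpr_bt (f24537 IH) (Lpe (f210994 IH) (Lpe (f151856 IH) (Lpr_ct (K7.f20337 IH) (Lpe (f548631 IH) (Lpr_cf (f548634 IH) (Lpe (f548646 IH) (Lpr_bf (K36.f539443 IH) (Lpr_ct (K36.f500878 IH) (Lpn (LP (LK LD1_c6 LD2_c1 LD3_c29)))))))))))))
theorem f74521 : Led Lsl_ft (LP (LK LD1_c0 LD2_c32 LD3_c52)) = (LP (LK LD1_c1 LD2_c10 LD3_c47)) :=
  Lre_f IH (LK LD1_c0 LD2_c32 LD3_c52) (LK LD1_c1 LD2_c10 LD3_c47) Lrfl Lrfl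
theorem f72504 : Led Lsl_et (LP (LK LD1_c1 LD2_c10 LD3_c56)) = (LP (LK LD1_c0 LD2_c32 LD3_c52)) :=
  Lre_e IH (LK LD1_c1 LD2_c10 LD3_c56) (LK LD1_c0 LD2_c32 LD3_c52) Lrfl Lrfl
theorem f387200 : Led Lsl_ft (LP (LK LD1_c2 LD2_c27 LD3_c28)) = (LP (LK LD1_c1 LD2_c10 LD3_c56)) :=
  Lre_f IH (LK LD1_c2 LD2_c27 LD3_c28) (LK LD1_c1 LD2_c10 LD3_c56) Lrfl Lrfl
theorem f387201 : Led Lsl_ef (LP (LK LD1_c2 LD2_c27 LD3_c28)) = (LP (LK LD1_c2 LD2_c33 LD3_c58)) :=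
  Lgr Lrot21 (Lpr_ft (f387200 IH) (Lpr_et (f72504 IH) (Lpr_ft (f74521 IH) (Lpr_et (K32.f139346 IH) (Lpr_ft (K32.f387176 IH) (Lpn (LP (LK LD1_c2 LD2_c33 LD3_c58))))))))
theorem f387208 : Led Lsl_et (LP (LK LD1_c2 LD2_c27 LD3_c28)) = (LP (LK LD1_c2 LD2_c33 LD3_c58)) :=
  Lgr Lrot87 (Lpr_ef (f387201 IH) (Lpn (LP (LK LD1_c2 LD2_c33 LD3_c58))))
theorem f545736 : (LP (LK LD1_c2 LD2_c27 LD3_c28)) = K37.v1612 :=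
  (Llr Lrot29 (Lpr_et (f387208 IH) (Lpr_bt (K35.f186697 IH) (Lpr_et (f545726 IH) (Lpr_bt (K37.f539926 IH) (Lpn K37.v1612)))))).symm
theorem f387210 : Led Lsl_dt (LP (LK LD1_c4 LD2_c59 LD3_c9)) = (LP (LK LD1_c2 LD2_c27 LD3_c28)) :=
  Lre_d IH (LK LD1_c4 LD2_c59 LD3_c9) (LK LD1_c2 LD2_c27 LD3_c28) Lrfl Lrfl
theorem f548692 : Led Lsl_gf (LP (LK LD1_c2 LD2_c52 LD3_c52)) = (LP (LK LD1_c4 LD2_c59 LD3_c9)) :=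
  Lgr Lrot147 (Lpr_ct (f24541 IH) (Lpr_gt (f548649 IH) (Lpr_ct (K36.f500915 IH) (Lpe (K36.f383266 IH) (Lpr_cf (K31.f500914 IH) (Lpq (K36.f539251 IH) (Lpr_gf (K37.f500709 IH) (Lpq (K37.f539242 IH) (Lpe (K36.f211761 IH) (Lpr_gf (K37.f500362 IH) (Lpq (f545736 IH) (Lpe (f387210 IH) (Lpn (LP (LK LD1_c4 LD2_c59 LD3_c9)))))))))))))))
theorem f545745 : Led Lsl_ft (LP (LK LD1_c4 LD2_c59 LD3_c9)) = (LP (LK LD1_c2 LD2_c27 LD3_c27)) :=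
  Lre_f IH (LK LD1_c4 LD2_c59 LD3_c9) (LK LD1_c2 LD2_c27 LD3_c27) Lrfl Lrfl
theorem f139019 : Led Lsl_at (LP (LK LD1_c2 LD2_c27 LD3_c27)) = (LP (LK LD1_c4 LD2_c58 LD3_c51)) :=
  Lre_a IH (LK LD1_c2 LD2_c27 LD3_c27) (LK LD1_c4 LD2_c58 LD3_c51) Lrfl Lrfl
theorem f548695 : Led Lsl_gt (LP (LK LD1_c2 LD2_c52 LD3_c52)) = (LP (LK LD1_c4 LD2_c58 LD3_c51)) :=
  Lgr Lrot46 (Lpr_gf (f548692 IH) (Lpr_ft (f545745 IH) (Lpr_at (f139019 IH) (Lpn (LP (LK LD1_c4 LD2_c58 LD3_c51))))))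
theorem f24536 : Led Lsl_bt (LP (LK LD1_c1 LD2_c18 LD3_c51)) = (LP (LK LD1_c2 LD2_c45 LD3_c9)) :=
  Lre_b IH (LK LD1_c1 LD2_c18 LD3_c51) (LK LD1_c2 LD2_c45 LD3_c9) Lrfl Lrfl
theorem f24538 : Led Lsl_dt (LP (LK LD1_c2 LD2_c45 LD3_c9)) = (LP (LK LD1_c2 LD2_c52 LD3_c52)) :=
  Lgr Lrot79 (Lpe (f24536 IH) (Lpr_df (f24529 IH) (Lpe (f24537 IH) (Lpn (LP (LK LD1_c2 LD2_c52 LD3_c52))))))
theorem f171788 : Led Lsl_ef (LP (LK LD1_c1 LD2_c21 LD3_c18)) = (LP (LK LD1_c2 LD2_c45 LD3_c9)) :=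
  Lgr Lrot29 (Lpr_bt (K37.f171787 IH) (Lpr_et (K12.f171782 IH) (Lpr_bt (f24536 IH) (Lpn (LP (LK LD1_c2 LD2_c45 LD3_c9))))))
def v1536 : LQ := Led Lsl_gf (LP (LK LD1_c1 LD2_c21 LD3_c18))
theorem f496163 : Led Lsl_gf (LP (LK LD1_c1 LD2_c21 LD3_c18)) = v1536 :=
  Lrfl
theorem f139024 : Led Lsl_dt (LP (LK LD1_c2 LD2_c27 LD3_c16)) = (LP (LK LD1_c4 LD2_c58 LD3_c51)) :=
  Lre_d IH (LK LD1_c2 LD2_c27 LD3_c16) (LK LD1_c4 LD2_c58 LD3_c51) Lrfl Lrfl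
theorem f548703 : v1536 = (LP (LK LD1_c2 LD2_c49 LD3_c21)) :=
  (Llr Lrot141 (Lpe (f496163 IH) (Lpr_ef (f171788 IH) (Lpr_dt (f24538 IH) (Lpr_gt (f548695 IH) (Lpe (f139024 IH) (Lpr_et (K36.f138894 IH) (Lpe (K8.f161274 IH) (Lpr_dt (K8.f40318 IH) (Lpr_gt (K4.f26416 IH) (Lpe (K4.f104805 IH) (Lpr_et (f104894 IH) (Lpn (LP (LK LD1_c2 LD2_c49 LD3_c21))))))))))))))).symm
theorem f171796 : Led Lsl_at (LP (LK LD1_c2 LD2_c50 LD3_c36)) = (LP (LK LD1_c1 LD2_c21 LD3_c18)) :=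
  Lre_a IH (LK LD1_c2 LD2_c50 LD3_c36) (LK LD1_c1 LD2_c21 LD3_c18) Lrfl Lrfl
theorem f421022 : Led Lsl_at (LP (LK LD1_c1 LD2_c28 LD3_c55)) = (LP (LK LD1_c3 LD2_c5 LD3_c43)) :=
  Lre_a IH (LK LD1_c1 LD2_c28 LD3_c55) (LK LD1_c3 LD2_c5 LD3_c43) Lrfl Lrfl
theorem f450098 : Led Lsl_ft (LP (LK LD1_c3 LD2_c5 LD3_c43)) = (LP (LK LD1_c2 LD2_c50 LD3_c36)) :=
  Lgr Lrot101 (Lpe (f421022 IH) (Lpr_ff (K37.f450096 IH) (Lpe (f171796 IH) (Lpn (LP (LK LD1_c2 LD2_c50 LD3_c36))))))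
theorem f496164 : Led Lsl_gt (LP (LK LD1_c3 LD2_c5 LD3_c43)) = v1536 :=
  Lgr Lrot5 (Lpr_ft (f450098 IH) (Lpr_at (f171796 IH) (Lpr_gf (f496163 IH) (Lpn v1536))))
theorem f171808 : Led Lsl_gt (LP (LK LD1_c1 LD2_c21 LD3_c18)) = (LP (LK LD1_c2 LD2_c50 LD3_c35)) :=
  Lre_g IH (LK LD1_c1 LD2_c21 LD3_c18) (LK LD1_c2 LD2_c50 LD3_c35) Lrfl Lrfl
theorem f450106 : Led Lsl_gf (LP (LK LD1_c3 LD2_c5 LD3_c43)) = (LP (LK LD1_c2 LD2_c50 LD3_c35)) :=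
  Lgr Lrot76 (Lpe (f421022 IH) (Lpr_ff (K37.f450096 IH) (Lpr_gt (f171808 IH) (Lpn (LP (LK LD1_c2 LD2_c50 LD3_c35))))))
theorem f548706 : Led Lsl_ff (LP (LK LD1_c2 LD2_c58 LD3_c17)) = (LP (LK LD1_c2 LD2_c50 LD3_c35)) :=
  Lgr Lrot52 (Lpr_at (f499337 IH) (Lpq (f548703 IH) (Lpe (f496164 IH) (Lpr_gf (f450106 IH) (Lpn (LP (LK LD1_c2 LD2_c50 LD3_c35)))))))
theorem f548712 : Led Lsl_ft (LP (LK LD1_c2 LD2_c58 LD3_c17)) = (LP (LK LD1_c2 LD2_c50 LD3_c35)) :=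
  Lgr Lrot48 (Lpr_ff (f548706 IH) (Lpn (LP (LK LD1_c2 LD2_c50 LD3_c35))))
theorem f495988 : Led Lsl_ef (LP (LK LD1_c1 LD2_c20 LD3_c48)) = K36.v1513 :=
  Lgr Lrot88 (Lpr_et (K36.f495987 IH) (Lpn K36.v1513))
theorem f205117 : Led Lsl_at (LP (LK LD1_c1 LD2_c31 LD3_c25)) = (LP (LK LD1_c3 LD2_c10 LD3_c24)) :=
  Lre_a IH (LK LD1_c1 LD2_c31 LD3_c25) (LK LD1_c3 LD2_c10 LD3_c24) Lrfl Lrfl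
theorem f491537 : Led Lsl_ff (LP (LK LD1_c1 LD2_c31 LD3_c25)) = K37.v1106 :=
  Lgr Lrot25 (Lpr_bt (K11.f205095 IH) (Lpr_ft (K35.f451459 IH) (Lpr_bt (K37.f491533 IH) (Lpn K37.v1106))))
theorem f495990 : Led Lsl_gt K37.v1106 = K36.v1513 :=
  Lgr Lrot5 (Lpe (f491537 IH) (Lpr_at (f205117 IH) (Lpr_gf (K36.f495989 IH) (Lpn K36.v1513))))
theorem f537614 : K36.v1513 = (LP (LK LD1_c2 LD2_c49 LD3_c18)) :=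
  Lefun (Lecon (f495990 IH) (K37.f537252 IH)) (K37.f496616 IH)
theorem f548716 : Led Lsl_ef (LP (LK LD1_c2 LD2_c58 LD3_c16)) = (LP (LK LD1_c2 LD2_c50 LD3_c35)) :=
  Lgr Lrot21 (Lpe (K32.f498266 IH) (Lpq (f537614 IH) (Lpe (f495988 IH) (Lpr_ft (K32.f495991 IH) (Lpq (K32.f498261 IH) (Lpr_et (K8.f75445 IH) (Lpr_ft (f548712 IH) (Lpn (LP (LK LD1_c2 LD2_c50 LD3_c35))))))))))
theorem f75073 : Led Lsl_et (LP (LK LD1_c2 LD2_c56 LD3_c31)) = (LP (LK LD1_c6 LD2_c0 LD3_c32)) :=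
  Lre_e IH (LK LD1_c2 LD2_c56 LD3_c31) (LK LD1_c6 LD2_c0 LD3_c32) Lrfl Lrfl
theorem f450108 : Led Lsl_dt (LP (LK LD1_c5 LD2_c49 LD3_c2)) = (LP (LK LD1_c2 LD2_c50 LD3_c35)) :=
  Lre_d IH (LK LD1_c5 LD2_c49 LD3_c2) (LK LD1_c2 LD2_c50 LD3_c35) Lrfl Lrfl
theorem f548722 : Led Lsl_et (LP (LK LD1_c11 LD2_c27 LD3_c26)) = (LP (LK LD1_c5 LD2_c49 LD3_c2)) :=
  Lre_e IH (LK LD1_c11 LD2_c27 LD3_c26) (LK LD1_c5 LD2_c49 LD3_c2) Lrfl Lrfl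
theorem f548723 : Led Lsl_dt (LP (LK LD1_c6 LD2_c0 LD3_c32)) = (LP (LK LD1_c11 LD2_c27 LD3_c26)) :=
  Lgr Lrot77 (Lpe (f75073 IH) (Lpe (K6.f75054 IH) (Lpr_ef (f548716 IH) (Lpe (f450108 IH) (Lpe (f548722 IH) (Lpn (LP (LK LD1_c11 LD2_c27 LD3_c26))))))))
theorem f548727 : Led Lsl_df (LP (LK LD1_c6 LD2_c0 LD3_c32)) = (LP (LK LD1_c11 LD2_c27 LD3_c26)) :=
  Lgr Lrot38 (Lpr_dt (f548723 IH) (Lpn (LP (LK LD1_c11 LD2_c27 LD3_c26))))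
theorem f119856 : Led Lsl_bt (LP (LK LD1_c6 LD2_c0 LD3_c32)) = (LP (LK LD1_c11 LD2_c25 LD3_c10)) :=
  Lgr Lrot119 (Lpe (f75073 IH) (Lpr_bf (K6.f119845 IH) (Lpe (K36.f119855 IH) (Lpn (LP (LK LD1_c11 LD2_c25 LD3_c10))))))
theorem f119861 : Led Lsl_dt (LP (LK LD1_c11 LD2_c25 LD3_c10)) = (LP (LK LD1_c20 LD2_c22 LD3_c40)) :=
  Lre_d IH (LK LD1_c11 LD2_c25 LD3_c10) (LK LD1_c20 LD2_c22 LD3_c40) Lrfl Lrfl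
theorem f548730 : Led Lsl_bt (LP (LK LD1_c20 LD2_c22 LD3_c40)) = (LP (LK LD1_c11 LD2_c27 LD3_c26)) :=
  Lgr Lrot95 (Lpe (f119861 IH) (Lpe (f119856 IH) (Lpr_df (f548727 IH) (Lpn (LP (LK LD1_c11 LD2_c27 LD3_c26))))))
theorem f499333 : Led Lsl_et (LP (LK LD1_c11 LD2_c25 LD3_c12)) = (LP (LK LD1_c20 LD2_c22 LD3_c40)) :=
  Lre_e IH (LK LD1_c11 LD2_c25 LD3_c12) (LK LD1_c20 LD2_c22 LD3_c40) Lrfl Lrfl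
theorem f548732 : Led Lsl_bf (LP (LK LD1_c11 LD2_c25 LD3_c12)) = (LP (LK LD1_c5 LD2_c49 LD3_c2)) :=
  Lgr Lrot96 (Lpr_et (f499333 IH) (Lpr_bt (f548730 IH) (Lpr_et (f548722 IH) (Lpn (LP (LK LD1_c5 LD2_c49 LD3_c2))))))
theorem f548708 : Led Lsl_ft (LP (LK LD1_c6 LD2_c4 LD3_c15)) = (LP (LK LD1_c5 LD2_c49 LD3_c2)) :=
  Lgr Lrot54 (Lpe (K8.f56025 IH) (Lpr_ff (f548706 IH) (Lpe (f450108 IH) (Lpn (LP (LK LD1_c5 LD2_c49 LD3_c2))))))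
theorem f548737 : Led Lsl_ft (LP (LK LD1_c11 LD2_c25 LD3_c12)) = (LP (LK LD1_c11 LD2_c51 LD3_c59)) :=
  Lgr Lrot75 (Lpr_bf (f548732 IH) (Lpe (f548708 IH) (Lpe (K32.f75474 IH) (Lpn (LP (LK LD1_c11 LD2_c51 LD3_c59))))))
theorem f548743 : Led Lsl_ff (LP (LK LD1_c11 LD2_c25 LD3_c12)) = (LP (LK LD1_c11 LD2_c51 LD3_c59)) :=
  Lgr Lrot3 (Lpr_ft (f548737 IH) (Lpn (LP (LK LD1_c11 LD2_c51 LD3_c59))))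
theorem f75500 : Led Lsl_dt (LP (LK LD1_c11 LD2_c51 LD3_c59)) = (LP (LK LD1_c6 LD2_c4 LD3_c14)) :=
  Lre_d IH (LK LD1_c11 LD2_c51 LD3_c59) (LK LD1_c6 LD2_c4 LD3_c14) Lrfl Lrfl
theorem f161546 : Led Lsl_et (LP (LK LD1_c2 LD2_c48 LD3_c56)) = (LP (LK LD1_c5 LD2_c46 LD3_c23)) :=
  Lre_e IH (LK LD1_c2 LD2_c48 LD3_c56) (LK LD1_c5 LD2_c46 LD3_c23) Lrfl Lrfl
theorem f75503 : Led Lsl_et (LP (LK LD1_c6 LD2_c4 LD3_c14)) = (LP (LK LD1_c2 LD2_c58 LD3_c15)) :=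
  Lre_e IH (LK LD1_c6 LD2_c4 LD3_c14) (LK LD1_c2 LD2_c58 LD3_c15) Lrfl Lrfl
theorem f161557 : Led Lsl_ct (LP (LK LD1_c5 LD2_c46 LD3_c23)) = (LP (LK LD1_c6 LD2_c4 LD3_c14)) :=
  Lgr Lrot15 (Lpe (f161546 IH) (Lpr_cf (K8.f161554 IH) (Lpe (f75503 IH) (Lpn (LP (LK LD1_c6 LD2_c4 LD3_c14))))))
theorem f425837 : Led Lsl_cf (LP (LK LD1_c5 LD2_c46 LD3_c23)) = (LP (LK LD1_c6 LD2_c4 LD3_c14)) :=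
  Lgr Lrot11 (Lpr_ct (f161557 IH) (Lpn (LP (LK LD1_c6 LD2_c4 LD3_c14))))
theorem f100243 : Led Lsl_dt (LP (LK LD1_c5 LD2_c46 LD3_c23)) = (LP (LK LD1_c11 LD2_c23 LD3_c1)) :=
  Lre_d IH (LK LD1_c5 LD2_c46 LD3_c23) (LK LD1_c11 LD2_c23 LD3_c1) Lrfl Lrfl
theorem f548751 : Led Lsl_cf (LP (LK LD1_c6 LD2_c51 LD3_c51)) = (LP (LK LD1_c11 LD2_c23 LD3_c1)) :=
  Lgr Lrot116 (Lpe (K37.f209736 IH) (Lpr_ct (K37.f209732 IH) (Lpr_dt (f72562 IH) (Lpe (K37.f543983 IH) (Lpr_af (K36.f498347 IH) (Lpr_ff (f548743 IH) (Lpr_dt (f75500 IH) (Lpe (f425837 IH) (Lpr_dt (f100243 IH) (Lpn (LP (LK LD1_c11 LD2_c23 LD3_c1))))))))))))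
theorem f94904 : Led Lsl_at (LP (LK LD1_c3 LD2_c30 LD3_c3)) = (LP (LK LD1_c7 LD2_c1 LD3_c50)) :=
  Lre_a IH (LK LD1_c3 LD2_c30 LD3_c3) (LK LD1_c7 LD2_c1 LD3_c50) Lrfl Lrfl
theorem f116637 : Led Lsl_gt (LP (LK LD1_c6 LD2_c51 LD3_c51)) = (LP (LK LD1_c7 LD2_c1 LD3_c50)) :=
  Lgr Lrot46 (Lpe (K37.f95400 IH) (Lpr_ft (K24.f116633 IH) (Lpr_at (f94904 IH) (Lpn (LP (LK LD1_c7 LD2_c1 LD3_c50))))))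
theorem f427136 : Led Lsl_af (LP (LK LD1_c7 LD2_c1 LD3_c31)) = (LP (LK LD1_c13 LD2_c16 LD3_c27)) :=
  Lgr Lrot0 (Lpr_at (K37.f427134 IH) (Lpn (LP (LK LD1_c13 LD2_c16 LD3_c27))))
theorem f427156 : Led Lsl_gt (LP (LK LD1_c7 LD2_c17 LD3_c6)) = (LP (LK LD1_c7 LD2_c1 LD3_c31)) :=
  Lgr Lrot46 (Lpe (K32.f147310 IH) (Lpr_ft (K37.f427148 IH) (Lpe (f427136 IH) (Lpn (LP (LK LD1_c7 LD2_c1 LD3_c31))))))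
theorem f92299 : Led Lsl_gt (LP (LK LD1_c3 LD2_c46 LD3_c20)) = (LP (LK LD1_c1 LD2_c50 LD3_c15)) :=
  Lre_g IH (LK LD1_c3 LD2_c46 LD3_c20) (LK LD1_c1 LD2_c50 LD3_c15) Lrfl Lrfl
theorem f427158 : Led Lsl_cf (LP (LK LD1_c3 LD2_c46 LD3_c20)) = (LP (LK LD1_c7 LD2_c1 LD3_c31)) :=
  Lgr Lrot169 (Lpr_gt (f92299 IH) (Lpr_ct (K2.f93627 IH) (Lpe (K34.f94483 IH) (Lpe (K3.f88295 IH) (Lpe (K3.f109909 IH) (Lpe (K3.f103175 IH) (Lpe (K6.f130400 IH) (Lpe (K28.f109550 IH) (Lpr_gt (f427156 IH) (Lpn (LP (LK LD1_c7 LD2_c1 LD3_c31))))))))))))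
theorem f115848 : Led Lsl_bt (LP (LK LD1_c3 LD2_c29 LD3_c51)) = (LP (LK LD1_c6 LD2_c34 LD3_c55)) :=
  Lgr Lrot35 (Lpe (K6.f115824 IH) (Lpr_bf (K4.f115791 IH) (Lpr_ff (K4.f115844 IH) (Lpn (LP (LK LD1_c6 LD2_c34 LD3_c55))))))
theorem f109001 : Led Lsl_ct (LP (LK LD1_c3 LD2_c29 LD3_c39)) = (LP (LK LD1_c7 LD2_c0 LD3_c42)) :=
  Lre_c IH (LK LD1_c3 LD2_c29 LD3_c39) (LK LD1_c7 LD2_c0 LD3_c42) Lrfl Lrfl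
theorem f427169 : Led Lsl_gf (LP (LK LD1_c3 LD2_c46 LD3_c20)) = (LP (LK LD1_c7 LD2_c0 LD3_c42)) :=
  Lgr Lrot129 (Lpr_cf (f427158 IH) (Lpr_bt (K36.f426625 IH) (Lpe (K28.f426590 IH) (Lpe (f115848 IH) (Lpr_ct (K28.f137053 IH) (Lpr_gt (K28.f122152 IH) (Lpe (K28.f419421 IH) (Lpr_bt (K28.f62808 IH) (Lpr_gt (K28.f419435 IH) (Lpr_ct (f109001 IH) (Lpn (LP (LK LD1_c7 LD2_c0 LD3_c42)))))))))))))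
theorem f427164 : Led Lsl_ct (LP (LK LD1_c3 LD2_c46 LD3_c20)) = (LP (LK LD1_c7 LD2_c1 LD3_c31)) :=
  Lgr Lrot59 (Lpr_cf (f427158 IH) (Lpn (LP (LK LD1_c7 LD2_c1 LD3_c31))))
theorem f426602 : Led Lsl_dt (LP (LK LD1_c1 LD2_c23 LD3_c28)) = (LP (LK LD1_c2 LD2_c55 LD3_c2)) :=
  Lre_d IH (LK LD1_c1 LD2_c23 LD3_c28) (LK LD1_c2 LD2_c55 LD3_c2) Lrfl Lrfl
theorem f425931 : Led Lsl_af (LP (LK LD1_c1 LD2_c23 LD3_c28)) = (LP (LK LD1_c1 LD2_c23 LD3_c36)) :=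
  Lgr Lrot0 (Lpr_at (K24.f160961 IH) (Lpn (LP (LK LD1_c1 LD2_c23 LD3_c36))))
theorem f426110 : Led Lsl_cf (LP (LK LD1_c1 LD2_c23 LD3_c28)) = (LP (LK LD1_c1 LD2_c23 LD3_c36)) :=
  Lgr Lrot102 (Lpr_af (f425931 IH) (Lpe (K24.f425952 IH) (Lpr_dt (K24.f425948 IH) (Lpr_ct (K24.f426099 IH) (Lpr_dt (K36.f151605 IH) (Lpr_ct (K36.f136932 IH) (Lpe (K37.f206007 IH) (Lpr_ct (K37.f206010 IH) (Lpr_dt (K8.f72399 IH) (Lpn (LP (LK LD1_c1 LD2_c23 LD3_c36))))))))))))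
theorem f426081 : Led Lsl_cf (LP (LK LD1_c1 LD2_c23 LD3_c49)) = (LP (LK LD1_c0 LD2_c38 LD3_c43)) :=
  Lgr Lrot11 (Lpr_ct (K24.f426078 IH) (Lpn (LP (LK LD1_c0 LD2_c38 LD3_c43))))
theorem f426603 : Led Lsl_ct (LP (LK LD1_c3 LD2_c29 LD3_c57)) = (LP (LK LD1_c5 LD2_c58 LD3_c40)) :=
  Lgr Lrot176 (Lpr_df (K28.f426594 IH) (Lpe (K32.f426578 IH) (Lpe (f426602 IH) (Lpr_cf (f426110 IH) (Lpe (K8.f72399 IH) (Lpe (K37.f206010 IH) (Lpr_df (K37.f206007 IH) (Lpe (K36.f136932 IH) (Lpe (K36.f151605 IH) (Lpe (K24.f426099 IH) (Lpe (K24.f425948 IH) (Lpr_cf (f426081 IH) (Lpe (K24.f157605 IH) (Lpe (K8.f124067 IH) (Lpe (K8.f124068 IH) (Lpn (LP (LK LD1_c5 LD2_c58 LD3_c40))))))))))))))))))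
theorem f427178 : Led Lsl_bf (LP (LK LD1_c3 LD2_c46 LD3_c20)) = (LP (LK LD1_c7 LD2_c0 LD3_c41)) :=
  Lgr Lrot90 (Lpr_ct (f427164 IH) (Lpr_bt (K36.f426625 IH) (Lpr_ct (f426603 IH) (Lpr_bt (K28.f426549 IH) (Lpe (K28.f426619 IH) (Lpn (LP (LK LD1_c7 LD2_c0 LD3_c41))))))))
theorem f426626 : Led Lsl_ct (LP (LK LD1_c7 LD2_c0 LD3_c41)) = (LP (LK LD1_c11 LD2_c41 LD3_c45)) :=
  Lgr Lrot59 (Lpr_cf (K28.f426619 IH) (Lpn (LP (LK LD1_c11 LD2_c41 LD3_c45))))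
theorem f548761 : Led Lsl_gt (LP (LK LD1_c7 LD2_c18 LD3_c55)) = (LP (LK LD1_c11 LD2_c23 LD3_c1)) :=
  Lgr Lrot82 (Lpe (K2.f94499 IH) (Lpe (K33.f94521 IH) (Lpr_gf (K37.f426615 IH) (Lpe (f426626 IH) (Lpe (f427178 IH) (Lpr_gf (f427169 IH) (Lpe (K3.f109544 IH) (Lpr_ct (K4.f109600 IH) (Lpe (f116637 IH) (Lpr_cf (f548751 IH) (Lpn (LP (LK LD1_c11 LD2_c23 LD3_c1)))))))))))))
theorem f92458 : Led Lsl_dt (LP (LK LD1_c3 LD2_c45 LD3_c40)) = (LP (LK LD1_c7 LD2_c31 LD3_c59)) :=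
  Lre_d IH (LK LD1_c3 LD2_c45 LD3_c40) (LK LD1_c7 LD2_c31 LD3_c59) Lrfl Lrfl
theorem f425839 : Led Lsl_dt (LP (LK LD1_c11 LD2_c23 LD3_c1)) = (LP (LK LD1_c5 LD2_c46 LD3_c23)) :=
  Lre_d IH (LK LD1_c11 LD2_c23 LD3_c1) (LK LD1_c5 LD2_c46 LD3_c23) Lrfl Lrfl
theorem f548765 : Led Lsl_gf (LP (LK LD1_c2 LD2_c50 LD3_c56)) = (LP (LK LD1_c5 LD2_c46 LD3_c23)) :=
  Lgr Lrot143 (Lpr_dt (K37.f449967 IH) (Lpr_cf (f547056 IH) (Lpe (K8.f93028 IH) (Lpe (K8.f127429 IH) (Lpe (f92458 IH) (Lpr_gf (K4.f111497 IH) (Lpr_cf (K2.f94489 IH) (Lpr_gt (f548761 IH) (Lpr_dt (f425839 IH) (Lpn (LP (LK LD1_c5 LD2_c46 LD3_c23))))))))))))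
theorem f59028 : Led Lsl_bt (LP (LK LD1_c0 LD2_c41 LD3_c5)) = (LP (LK LD1_c1 LD2_c28 LD3_c55)) :=
  Lre_b IH (LK LD1_c0 LD2_c41 LD3_c5) (LK LD1_c1 LD2_c28 LD3_c55) Lrfl Lrfl
def v1832 : LQ := Led Lsl_gt (LP (LK LD1_c1 LD2_c28 LD3_c55))
theorem f503210 : Led Lsl_gt (LP (LK LD1_c1 LD2_c28 LD3_c55)) = v1832 :=
  Lrfl
theorem f425836 : Led Lsl_bt (LP (LK LD1_c6 LD2_c4 LD3_c14)) = (LP (LK LD1_c2 LD2_c58 LD3_c17)) :=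
  Lre_b IH (LK LD1_c6 LD2_c4 LD3_c14) (LK LD1_c2 LD2_c58 LD3_c17) Lrfl Lrfl
theorem f548772 : v1832 = (LP (LK LD1_c2 LD2_c58 LD3_c17)) :=
  (Llr Lrot164 (Lpe (f503210 IH) (Lpe (f59028 IH) (Lpr_ct (K16.f59022 IH) (Lpr_gf (K11.f210471 IH) (Lpe (K11.f25970 IH) (Lpr_gf (K36.f210557 IH) (Lpe (f179940 IH) (Lpr_ct (K37.f179941 IH) (Lpr_gf (f548765 IH) (Lpr_cf (f425837 IH) (Lpr_bt (f425836 IH) (Lpn (LP (LK LD1_c2 LD2_c58 LD3_c17))))))))))))))).symm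
theorem f171806 : Led Lsl_at (LP (LK LD1_c1 LD2_c21 LD3_c18)) = (LP (LK LD1_c2 LD2_c50 LD3_c36)) :=
  Lre_a IH (LK LD1_c1 LD2_c21 LD3_c18) (LK LD1_c2 LD2_c50 LD3_c36) Lrfl Lrfl
theorem f503211 : Led Lsl_gf (LP (LK LD1_c2 LD2_c50 LD3_c36)) = v1832 :=
  Lgr Lrot76 (Lpe (f171806 IH) (Lpe (K37.f450104 IH) (Lpr_gt (f503210 IH) (Lpn v1832))))
theorem f421030 : Led Lsl_at (LP (LK LD1_c3 LD2_c5 LD3_c43)) = (LP (LK LD1_c1 LD2_c28 LD3_c55)) :=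
  Lre_a IH (LK LD1_c3 LD2_c5 LD3_c43) (LK LD1_c1 LD2_c28 LD3_c55) Lrfl Lrfl
theorem f450111 : Led Lsl_ff (LP (LK LD1_c3 LD2_c5 LD3_c43)) = (LP (LK LD1_c2 LD2_c50 LD3_c36)) :=
  Lgr Lrot30 (Lpr_at (f421030 IH) (Lpr_ft (K37.f450104 IH) (Lpr_at (f171806 IH) (Lpn (LP (LK LD1_c2 LD2_c50 LD3_c36))))))
theorem f421035 : Led Lsl_gt (LP (LK LD1_c3 LD2_c5 LD3_c42)) = (LP (LK LD1_c1 LD2_c28 LD3_c55)) :=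
  Lre_g IH (LK LD1_c3 LD2_c5 LD3_c42) (LK LD1_c1 LD2_c28 LD3_c55) Lrfl Lrfl
theorem f450474 : Led Lsl_gf (LP (LK LD1_c3 LD2_c5 LD3_c42)) = (LP (LK LD1_c2 LD2_c50 LD3_c36)) :=
  Lgr Lrot47 (Lpr_gt (f421035 IH) (Lpe (f421030 IH) (Lpr_ff (f450111 IH) (Lpn (LP (LK LD1_c2 LD2_c50 LD3_c36))))))
theorem f548777 : Led Lsl_at (LP (LK LD1_c2 LD2_c50 LD3_c35)) = (LP (LK LD1_c3 LD2_c5 LD3_c42)) :=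
  Lgr Lrot26 (Lpe (f548712 IH) (Lpq (f548772 IH) (Lpe (f503211 IH) (Lpe (f450474 IH) (Lpn (LP (LK LD1_c3 LD2_c5 LD3_c42)))))))
theorem f548789 : Led Lsl_ff (LP (LK LD1_c2 LD2_c49 LD3_c21)) = (LP (LK LD1_c3 LD2_c5 LD3_c42)) :=
  Lgr Lrot30 (Lpe (f499335 IH) (Lpr_ft (f548712 IH) (Lpr_at (f548777 IH) (Lpn (LP (LK LD1_c3 LD2_c5 LD3_c42))))))
theorem f548795 : Led Lsl_ft (LP (LK LD1_c2 LD2_c49 LD3_c21)) = (LP (LK LD1_c3 LD2_c5 LD3_c42)) :=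
  Lgr Lrot48 (Lpr_ff (f548789 IH) (Lpn (LP (LK LD1_c3 LD2_c5 LD3_c42))))
theorem f72870 : Led Lsl_dt (LP (LK LD1_c2 LD2_c49 LD3_c21)) = (LP (LK LD1_c5 LD2_c46 LD3_c61)) :=
  Lre_d IH (LK LD1_c2 LD2_c49 LD3_c21) (LK LD1_c5 LD2_c46 LD3_c61) Lrfl Lrfl
theorem f104897 : Led Lsl_ct (LP (LK LD1_c5 LD2_c46 LD3_c61)) = (LP (LK LD1_c11 LD2_c24 LD3_c11)) :=
  Lre_c IH (LK LD1_c5 LD2_c46 LD3_c61) (LK LD1_c11 LD2_c24 LD3_c11) Lrfl Lrfl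
theorem f548779 : Led Lsl_af (LP (LK LD1_c2 LD2_c50 LD3_c35)) = (LP (LK LD1_c3 LD2_c5 LD3_c42)) :=
  Lgr Lrot0 (Lpr_at (f548777 IH) (Lpn (LP (LK LD1_c3 LD2_c5 LD3_c42))))
theorem f548720 : Led Lsl_ct (LP (LK LD1_c2 LD2_c58 LD3_c17)) = (LP (LK LD1_c2 LD2_c50 LD3_c35)) :=
  Lgr Lrot15 (Lpe (K8.f75445 IH) (Lpe (K5.f72846 IH) (Lpr_ef (f548716 IH) (Lpn (LP (LK LD1_c2 LD2_c50 LD3_c35))))))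
theorem f75484 : Led Lsl_dt (LP (LK LD1_c6 LD2_c4 LD3_c15)) = (LP (LK LD1_c2 LD2_c58 LD3_c17)) :=
  Lre_d IH (LK LD1_c6 LD2_c4 LD3_c15) (LK LD1_c2 LD2_c58 LD3_c17) Lrfl Lrfl
theorem f138775 : Led Lsl_dt (LP (LK LD1_c4 LD2_c25 LD3_c16)) = (LP (LK LD1_c8 LD2_c48 LD3_c4)) :=
  Lre_d IH (LK LD1_c4 LD2_c25 LD3_c16) (LK LD1_c8 LD2_c48 LD3_c4) Lrfl Lrfl
theorem f548799 : Led Lsl_dt (LP (LK LD1_c11 LD2_c24 LD3_c11)) = (LP (LK LD1_c8 LD2_c2 LD3_c11)) :=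
  Lgr Lrot32 (Lpe (f104897 IH) (Lpe (f72870 IH) (Lpr_ft (f548795 IH) (Lpe (f548779 IH) (Lpe (f548720 IH) (Lpe (f75484 IH) (Lpe (K36.f541834 IH) (Lpe (f138775 IH) (Lpe (K6.f138752 IH) (Lpn (LP (LK LD1_c8 LD2_c2 LD3_c11))))))))))))
theorem f118766 : Led Lsl_cf (LP (LK LD1_c12 LD2_c38 LD3_c39)) = (LP (LK LD1_c11 LD2_c36 LD3_c37)) :=
  Lgr Lrot1 (Lpr_at (K6.f79435 IH) (Lpe (K7.f118754 IH) (Lpr_at (K6.f118760 IH) (Lpn (LP (LK LD1_c11 LD2_c36 LD3_c37))))))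
theorem f499049 : Led Lsl_bf (LP (LK LD1_c8 LD2_c49 LD3_c43)) = (LP (LK LD1_c5 LD2_c55 LD3_c31)) :=
  Lgr Lrot24 (Lpr_bt (K36.f499024 IH) (Lpn (LP (LK LD1_c5 LD2_c55 LD3_c31))))
theorem f548813 : Led Lsl_gf (LP (LK LD1_c11 LD2_c24 LD3_c11)) = (LP (LK LD1_c8 LD2_c49 LD3_c43)) :=
  Lgr Lrot85 (Lpr_dt (f548799 IH) (Lpr_ct (K6.f138752 IH) (Lpr_bt (K6.f38535 IH) (Lpr_gt (K6.f38528 IH) (Lpr_dt (K6.f38508 IH) (Lpr_ct (K5.f38509 IH) (Lpr_bt (K6.f70374 IH) (Lpe (K4.f117670 IH) (Lpe (K5.f116801 IH) (Lpe (K8.f117716 IH) (Lpr_bt (K32.f498080 IH) (Lpe (K32.f498089 IH) (Lpe (K7.f151139 IH) (Lpe (f118766 IH) (Lpr_bt (K32.f79436 IH) (Lpr_gt (K32.f119641 IH) (Lpe (K32.f420036 IH) (Lpr_ct (K32.f149655 IH) (Lpe (f499049 IH) (Lpn (LP (LK LD1_c8 LD2_c49 LD3_c43))))))))))))))))))))))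
theorem f104904 : Led Lsl_ct (LP (LK LD1_c11 LD2_c24 LD3_c11)) = (LP (LK LD1_c5 LD2_c46 LD3_c61)) :=
  Lre_c IH (LK LD1_c11 LD2_c24 LD3_c11) (LK LD1_c5 LD2_c46 LD3_c61) Lrfl Lrfl
theorem f137774 : Led Lsl_af (LP (LK LD1_c8 LD2_c45 LD3_c42)) = (LP (LK LD1_c5 LD2_c56 LD3_c4)) :=
  Lgr Lrot68 (Lpr_ct (K6.f99259 IH) (Lpr_at (K6.f137768 IH) (Lpr_ct (K7.f137770 IH) (Lpn (LP (LK LD1_c5 LD2_c56 LD3_c4))))))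
theorem f161498 : Led Lsl_ff (LP (LK LD1_c5 LD2_c56 LD3_c4)) = (LP (LK LD1_c8 LD2_c45 LD3_c44)) :=
  Lgr Lrot103 (Lpe (f137774 IH) (Lpe (K6.f119879 IH) (Lpe (K6.f137653 IH) (Lpr_cf (K7.f137835 IH) (Lpr_df (K7.f149684 IH) (Lpe (K8.f149699 IH) (Lpr_df (K8.f149718 IH) (Lpe (K8.f137718 IH) (Lpr_df (K8.f161485 IH) (Lpn (LP (LK LD1_c8 LD2_c45 LD3_c44))))))))))))
theorem f420043 : Led Lsl_gf (LP (LK LD1_c11 LD2_c36 LD3_c18)) = (LP (LK LD1_c8 LD2_c45 LD3_c44)) :=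
  Lgr Lrot47 (Lpr_gt (K36.f420041 IH) (Lpr_af (f137774 IH) (Lpr_ff (f161498 IH) (Lpn (LP (LK LD1_c8 LD2_c45 LD3_c44))))))
theorem f176674 : Led Lsl_ct (LP (LK LD1_c2 LD2_c50 LD3_c46)) = (LP (LK LD1_c5 LD2_c49 LD3_c22)) :=
  Lre_c IH (LK LD1_c2 LD2_c50 LD3_c46) (LK LD1_c5 LD2_c49 LD3_c22) Lrfl Lrfl
theorem f544092 : Led Lsl_bf (LP (LK LD1_c5 LD2_c47 LD3_c18)) = (LP (LK LD1_c5 LD2_c49 LD3_c22)) :=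
  Lgr Lrot90 (Lpr_ct (K37.f544088 IH) (Lpr_bt (K37.f205167 IH) (Lpr_ct (K11.f176646 IH) (Lpr_bt (K36.f176655 IH) (Lpr_ct (f176674 IH) (Lpn (LP (LK LD1_c5 LD2_c49 LD3_c22))))))))
theorem f176664 : Led Lsl_ct (LP (LK LD1_c5 LD2_c49 LD3_c22)) = (LP (LK LD1_c2 LD2_c50 LD3_c46)) :=
  Lre_c IH (LK LD1_c5 LD2_c49 LD3_c22) (LK LD1_c2 LD2_c50 LD3_c46) Lrfl Lrfl
theorem f548819 : Led Lsl_gt (LP (LK LD1_c5 LD2_c46 LD3_c61)) = (LP (LK LD1_c2 LD2_c50 LD3_c46)) :=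
  Lgr Lrot149 (Lpe (f104904 IH) (Lpr_gf (f548813 IH) (Lpr_bf (f499049 IH) (Lpr_ct (K32.f59558 IH) (Lpr_gf (f420043 IH) (Lpe (K8.f112837 IH) (Lpr_bt (K8.f161396 IH) (Lpr_gf (K37.f208735 IH) (Lpr_bf (f544092 IH) (Lpr_ct (f176664 IH) (Lpn (LP (LK LD1_c2 LD2_c50 LD3_c46)))))))))))))
theorem f420640 : Led Lsl_ct (LP (LK LD1_c4 LD2_c0 LD3_c35)) = (LP (LK LD1_c6 LD2_c13 LD3_c42)) :=
  Lgr Lrot59 (Lpr_cf (K36.f420636 IH) (Lpn (LP (LK LD1_c6 LD2_c13 LD3_c42))))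
theorem f80753 : Led Lsl_ct (LP (LK LD1_c3 LD2_c3 LD3_c42)) = (LP (LK LD1_c6 LD2_c13 LD3_c43)) :=
  Lre_c IH (LK LD1_c3 LD2_c3 LD3_c42) (LK LD1_c6 LD2_c13 LD3_c43) Lrfl Lrfl
theorem f420642 : Led Lsl_cf (LP (LK LD1_c8 LD2_c2 LD3_c5)) = (LP (LK LD1_c11 LD2_c23 LD3_c0)) :=
  Lgr Lrot97 (Lpr_bt (K36.f80687 IH) (Lpr_ct (f420640 IH) (Lpr_bt (K36.f80755 IH) (Lpr_ct (f80753 IH) (Lpr_bt (K36.f202793 IH) (Lpn (LP (LK LD1_c11 LD2_c23 LD3_c0))))))))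
theorem f59193 : Led Lsl_ct (LP (LK LD1_c4 LD2_c23 LD3_c45)) = (LP (LK LD1_c8 LD2_c45 LD3_c24)) :=
  Lre_c IH (LK LD1_c4 LD2_c23 LD3_c45) (LK LD1_c8 LD2_c45 LD3_c24) Lrfl Lrfl
theorem f420657 : Led Lsl_gt (LP (LK LD1_c8 LD2_c2 LD3_c5)) = (LP (LK LD1_c8 LD2_c45 LD3_c24)) :=
  Lgr Lrot149 (Lpr_cf (f420642 IH) (Lpe (K36.f420646 IH) (Lpr_bf (K36.f420655 IH) (Lpe (K8.f161811 IH) (Lpe (K8.f161006 IH) (Lpr_cf (K4.f36539 IH) (Lpr_bt (K8.f36538 IH) (Lpr_gf (K28.f205713 IH) (Lpe (K36.f210906 IH) (Lpr_ct (f59193 IH) (Lpn (LP (LK LD1_c8 LD2_c45 LD3_c24)))))))))))))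
theorem f548825 : Led Lsl_df (LP (LK LD1_c4 LD2_c23 LD3_c45)) = (LP (LK LD1_c5 LD2_c49 LD3_c22)) :=
  Lgr Lrot162 (Lpe (K36.f70101 IH) (Lpe (f420657 IH) (Lpr_cf (f420642 IH) (Lpe (K36.f420646 IH) (Lpe (K36.f499051 IH) (Lpe (f548813 IH) (Lpr_ct (f104904 IH) (Lpr_gt (f548819 IH) (Lpr_ct (f176674 IH) (Lpn (LP (LK LD1_c5 LD2_c49 LD3_c22))))))))))))
theorem f425853 : Led Lsl_bt (LP (LK LD1_c8 LD2_c45 LD3_c24)) = (LP (LK LD1_c4 LD2_c41 LD3_c18)) :=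
  Lgr Lrot128 (Lpe (f59193 IH) (Lpr_bf (K36.f205265 IH) (Lpe (K28.f73472 IH) (Lpe (K8.f73476 IH) (Lpr_cf (K32.f425851 IH) (Lpn (LP (LK LD1_c4 LD2_c41 LD3_c18))))))))
theorem f548834 : Led Lsl_gt (LP (LK LD1_c4 LD2_c0 LD3_c52)) = (LP (LK LD1_c5 LD2_c49 LD3_c22)) :=
  Lgr Lrot190 (Lpr_bf (K36.f30707 IH) (Lpe (K4.f30706 IH) (Lpe (K1.f30093 IH) (Lpr_gf (K1.f37324 IH) (Lpr_bf (K8.f37921 IH) (Lpe (K2.f37920 IH) (Lpe (K2.f24081 IH) (Lpe (K8.f71856 IH) (Lpe (K8.f157045 IH) (Lpe (K28.f157053 IH) (Lpe (K8.f72474 IH) (Lpe (K32.f427437 IH) (Lpe (K6.f112612 IH) (Lpe (K8.f138257 IH) (Lpe (K8.f59231 IH) (Lpr_gf (K32.f425857 IH) (Lpe (f425853 IH) (Lpe (f59193 IH) (Lpr_df (f548825 IH) (Lpn (LP (LK LD1_c5 LD2_c49 LD3_c22))))))))))))))))))))))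
theorem f29496 : Led Lsl_ft (LP (LK LD1_c1 LD2_c57 LD3_c11)) = (LP (LK LD1_c4 LD2_c0 LD3_c52)) :=
  Lre_f IH (LK LD1_c1 LD2_c57 LD3_c11) (LK LD1_c4 LD2_c0 LD3_c52) Lrfl Lrfl
theorem f30720 : Led Lsl_bt (LP (LK LD1_c4 LD2_c0 LD3_c52)) = (LP (LK LD1_c1 LD2_c57 LD3_c13)) :=
  Lgr Lrot35 (Lpe (f29496 IH) (Lpe (K32.f30705 IH) (Lpr_ff (K1.f30716 IH) (Lpn (LP (LK LD1_c1 LD2_c57 LD3_c13))))))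
theorem f75813 : Led Lsl_bt (LP (LK LD1_c3 LD2_c0 LD3_c34)) = (LP (LK LD1_c6 LD2_c8 LD3_c33)) :=
  Lre_b IH (LK LD1_c3 LD2_c0 LD3_c34) (LK LD1_c6 LD2_c8 LD3_c33) Lrfl Lrfl
theorem f541794 : Led Lsl_cf (LP (LK LD1_c4 LD2_c0 LD3_c52)) = (LP (LK LD1_c6 LD2_c8 LD3_c33)) :=
  Lgr Lrot97 (Lpr_bt (f30720 IH) (Lpr_ct (K1.f29553 IH) (Lpr_bt (K32.f30705 IH) (Lpr_ct (K36.f541790 IH) (Lpr_bt (f75813 IH) (Lpn (LP (LK LD1_c6 LD2_c8 LD3_c33))))))))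
theorem f210293 : Led Lsl_gt (LP (LK LD1_c2 LD2_c50 LD3_c53)) = (LP (LK LD1_c1 LD2_c21 LD3_c25)) :=
  Lre_g IH (LK LD1_c2 LD2_c50 LD3_c53) (LK LD1_c1 LD2_c21 LD3_c25) Lrfl Lrfl
theorem f210294 : Led Lsl_cf (LP (LK LD1_c2 LD2_c50 LD3_c53)) = (LP (LK LD1_c1 LD2_c28 LD3_c45)) :=
  Lgr Lrot169 (Lpr_gt (f210293 IH) (Lpr_ct (K37.f146329 IH) (Lpe (K6.f61293 IH) (Lpe (K11.f61311 IH) (Lpe (K9.f146326 IH) (Lpe (K11.f146337 IH) (Lpr_gf (K11.f210291 IH) (Lpe (K11.f25971 IH) (Lpr_gt (K11.f210156 IH) (Lpn (LP (LK LD1_c1 LD2_c28 LD3_c45))))))))))))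
theorem f176643 : Led Lsl_bt (LP (LK LD1_c2 LD2_c50 LD3_c46)) = (LP (LK LD1_c1 LD2_c21 LD3_c23)) :=
  Lre_b IH (LK LD1_c2 LD2_c50 LD3_c46) (LK LD1_c1 LD2_c21 LD3_c23) Lrfl Lrfl
def v1242 : LQ := Led Lsl_ft (LP (LK LD1_c1 LD2_c4 LD3_c1))
theorem f494255 : Led Lsl_ft (LP (LK LD1_c1 LD2_c4 LD3_c1)) = v1242 :=
  Lrfl
theorem f494258 : Led Lsl_ff (LP (LK LD1_c1 LD2_c4 LD3_c1)) = v1242 :=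
  Lgr Lrot3 (Lpr_ft (f494255 IH) (Lpn v1242))
theorem f146385 : Led Lsl_at (LP (LK LD1_c1 LD2_c4 LD3_c1)) = (LP (LK LD1_c0 LD2_c37 LD3_c33)) :=
  Lgr Lrot100 (Lpr_af (K6.f146383 IH) (Lpn (LP (LK LD1_c0 LD2_c37 LD3_c33))))
theorem f494261 : Led Lsl_gf (LP (LK LD1_c1 LD2_c21 LD3_c24)) = v1242 :=
  Lgr Lrot47 (Lpr_gt (K18.f61294 IH) (Lpe (f146385 IH) (Lpr_ff (f494258 IH) (Lpn v1242))))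
theorem f301881 : Led Lsl_ft (LP (LK LD1_c1 LD2_c21 LD3_c23)) = (LP (LK LD1_c2 LD2_c13 LD3_c60)) :=
  Lgr Lrot54 (Lpe (K11.f176647 IH) (Lpr_ff (K18.f301875 IH) (Lpe (K18.f68546 IH) (Lpn (LP (LK LD1_c2 LD2_c13 LD3_c60))))))
theorem f301949 : Led Lsl_af (LP (LK LD1_c1 LD2_c21 LD3_c24)) = (LP (LK LD1_c2 LD2_c13 LD3_c60)) :=
  Lgr Lrot45 (Lpr_ft (K18.f301947 IH) (Lpe (K18.f301940 IH) (Lpr_ft (f301881 IH) (Lpn (LP (LK LD1_c2 LD2_c13 LD3_c60))))))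
theorem f494262 : Led Lsl_gt (LP (LK LD1_c1 LD2_c21 LD3_c23)) = v1242 :=
  Lgr Lrot5 (Lpr_ft (f301881 IH) (Lpe (f301949 IH) (Lpr_gf (f494261 IH) (Lpn v1242))))
theorem f494260 : Led Lsl_dt K36.v335 = v1242 :=
  Lgr Lrot60 (Lpe (K36.f452217 IH) (Lpe (K6.f68551 IH) (Lpr_ff (f494258 IH) (Lpn v1242))))
theorem f452210 : Led Lsl_dt (LP (LK LD1_c1 LD2_c3 LD3_c61)) = (LP (LK LD1_c2 LD2_c13 LD3_c56)) :=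
  Lre_d IH (LK LD1_c1 LD2_c3 LD3_c61) (LK LD1_c2 LD2_c13 LD3_c56) Lrfl Lrfl
theorem f536904 : v1242 = (LP (LK LD1_c2 LD2_c13 LD3_c56)) :=
  Lefun (Lecon (f494260 IH) (K36.f536763 IH).symm) (f452210 IH)
theorem f301935 : Led Lsl_ct (LP (LK LD1_c2 LD2_c13 LD3_c56)) = (LP (LK LD1_c4 LD2_c34 LD3_c5)) :=
  Lre_c IH (LK LD1_c2 LD2_c13 LD3_c56) (LK LD1_c4 LD2_c34 LD3_c5) Lrfl Lrfl
theorem f548849 : Led Lsl_gf (LP (LK LD1_c2 LD2_c50 LD3_c53)) = (LP (LK LD1_c4 LD2_c34 LD3_c5)) :=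
  Lgr Lrot129 (Lpr_cf (f210294 IH) (Lpr_bt (K36.f185772 IH) (Lpr_gt (K36.f428096 IH) (Lpe (K32.f75829 IH) (Lpe (f541794 IH) (Lpr_gt (f548834 IH) (Lpe (f176674 IH) (Lpr_bt (f176643 IH) (Lpr_gt (f494262 IH) (Lpqs (f536904 IH) (Lpr_ct (f301935 IH) (Lpn (LP (LK LD1_c4 LD2_c34 LD3_c5))))))))))))))
theorem f210530 : Led Lsl_ct (LP (LK LD1_c2 LD2_c50 LD3_c53)) = (LP (LK LD1_c1 LD2_c28 LD3_c45)) :=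
  Lgr Lrot59 (Lpr_cf (f210294 IH) (Lpn (LP (LK LD1_c1 LD2_c28 LD3_c45))))
def v1641 : LQ := Led Lsl_bt (LP (LK LD1_c1 LD2_c23 LD3_c2))
theorem f500504 : Led Lsl_bt (LP (LK LD1_c1 LD2_c23 LD3_c2)) = v1641 :=
  Lrfl
def v438 : LQ := Led Lsl_bt (LP (LK LD1_c0 LD2_c38 LD3_c27))
theorem f452827 : Led Lsl_bt (LP (LK LD1_c0 LD2_c38 LD3_c27)) = v438 :=
  Lrfl
theorem f452828 : Led Lsl_bf (LP (LK LD1_c0 LD2_c38 LD3_c27)) = v438 :=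
  Lgr Lrot24 (Lpr_bt (f452827 IH) (Lpn v438))
theorem f500507 : Led Lsl_df v438 = v1641 :=
  Lgr Lrot12 (Lpe (f452828 IH) (Lpr_dt (K8.f37937 IH) (Lpr_bt (f500504 IH) (Lpn v1641))))
theorem f500509 : Led Lsl_dt v438 = v1641 :=
  Lgr Lrot42 (Lpr_df (f500507 IH) (Lpn v1641))
def v2802 : LQ := Led Lsl_gf K35.v338
theorem f535682 : Led Lsl_gf K35.v338 = v2802 :=
  Lrfl
theorem f452245 : Led Lsl_ff (LP (LK LD1_c0 LD2_c37 LD3_c61)) = K35.v338 :=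
  Lgr Lrot25 (Lpr_bt (K36.f74765 IH) (Lpe (K12.f164330 IH) (Lpr_bt (K35.f452242 IH) (Lpn K35.v338))))
theorem f452246 : Led Lsl_ct (LP (LK LD1_c0 LD2_c29 LD3_c25)) = K35.v338 :=
  Lgr Lrot40 (Lpr_ff (K7.f152012 IH) (Lpe (K36.f80888 IH) (Lpr_ff (f452245 IH) (Lpn K35.v338))))
theorem f535685 : Led Lsl_ct v438 = v2802 :=
  Lgr Lrot64 (Lpe (f452828 IH) (Lpe (K6.f37936 IH) (Lpe (K6.f37919 IH) (Lpe (K1.f37923 IH) (Lpr_gf (K1.f59515 IH) (Lpe (K1.f58956 IH) (Lpe (K1.f59533 IH) (Lpe (K35.f59542 IH) (Lpr_ct (f452246 IH) (Lpr_gf (f535682 IH) (Lpn v2802)))))))))))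
theorem f535687 : Led Lsl_cf v438 = v2802 :=
  Lgr Lrot11 (Lpr_ct (f535685 IH) (Lpn v2802))
theorem f536964 : v2802 = (LP (LK LD1_c0 LD2_c37 LD3_c37)) :=
  Lefun (Lecon (f535682 IH) (K36.f536786 IH).symm) (Lfl_gt (K9.f22417 IH))
theorem f537153 : v438 = (LP (LK LD1_c1 LD2_c21 LD3_c31)) :=
  Lefun (Lecon (Lfl_cf (f535687 IH)) (f536964 IH)) (K11.f176879 IH)
theorem f537359 : v1641 = (LP (LK LD1_c2 LD2_c19 LD3_c0)) :=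
  Lefun (Lecon (f500509 IH) (f537153 IH)) (K11.f177073 IH)
theorem f161835 : Led Lsl_bt (LP (LK LD1_c3 LD2_c17 LD3_c51)) = (LP (LK LD1_c2 LD2_c54 LD3_c7)) :=
  Lgr Lrot130 (Lpr_ct (K11.f17124 IH) (Lpe (K8.f157037 IH) (Lpr_cf (K8.f149890 IH) (Lpe (K7.f151177 IH) (Lpe (K7.f149746 IH) (Lpe (K7.f124526 IH) (Lpr_ct (K8.f149699 IH) (Lpr_gf (K8.f161010 IH) (Lpr_cf (K8.f161821 IH) (Lpe (K8.f161254 IH) (Lpn (LP (LK LD1_c2 LD2_c54 LD3_c7)))))))))))))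
theorem f69266 : Led Lsl_gt (LP (LK LD1_c4 LD2_c33 LD3_c61)) = (LP (LK LD1_c2 LD2_c13 LD3_c54)) :=
  Lre_g IH (LK LD1_c4 LD2_c33 LD3_c61) (LK LD1_c2 LD2_c13 LD3_c54) Lrfl Lrfl
theorem f139737 : Led Lsl_bf (LP (LK LD1_c4 LD2_c33 LD3_c61)) = (LP (LK LD1_c6 LD2_c39 LD3_c14)) :=
  Lgr Lrot156 (Lpr_gt (f69266 IH) (Lpr_bf (K6.f58843 IH) (Lpr_ct (K5.f13618 IH) (Lpe (K5.f124230 IH) (Lpe (K4.f120805 IH) (Lpr_bt (K6.f13599 IH) (Lpr_gt (K7.f13600 IH) (Lpr_ct (K7.f139552 IH) (Lpr_gt (K8.f14097 IH) (Lpe (K8.f139736 IH) (Lpn (LP (LK LD1_c6 LD2_c39 LD3_c14)))))))))))))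
theorem f139739 : Led Lsl_bt (LP (LK LD1_c4 LD2_c33 LD3_c61)) = (LP (LK LD1_c6 LD2_c39 LD3_c14)) :=
  Lgr Lrot127 (Lpr_bf (f139737 IH) (Lpn (LP (LK LD1_c6 LD2_c39 LD3_c14))))
theorem f500506 : Led Lsl_cf (LP (LK LD1_c4 LD2_c33 LD3_c61)) = v1641 :=
  Lgr Lrot97 (Lpr_bt (f139739 IH) (Lpr_ct (K8.f139736 IH) (Lpr_bt (f161835 IH) (Lpr_ct (K8.f161083 IH) (Lpr_bt (f500504 IH) (Lpn v1641))))))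
theorem f500510 : Led Lsl_ct (LP (LK LD1_c4 LD2_c33 LD3_c61)) = v1641 :=
  Lgr Lrot59 (Lpr_cf (f500506 IH) (Lpn v1641))
def v1568 : LQ := Led Lsl_at (LP (LK LD1_c1 LD2_c21 LD3_c44))
theorem f499991 : Led Lsl_at (LP (LK LD1_c1 LD2_c21 LD3_c44)) = v1568 :=
  Lrfl
theorem f143160 : Led Lsl_at (LP (LK LD1_c4 LD2_c33 LD3_c56)) = (LP (LK LD1_c2 LD2_c13 LD3_c54)) :=
  Lre_a IH (LK LD1_c4 LD2_c33 LD3_c56) (LK LD1_c2 LD2_c13 LD3_c54) Lrfl Lrfl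
theorem f499994 : Led Lsl_ff (LP (LK LD1_c4 LD2_c33 LD3_c56)) = v1568 :=
  Lgr Lrot30 (Lpr_at (f143160 IH) (Lpe (K6.f143158 IH) (Lpr_at (f499991 IH) (Lpn v1568))))
theorem f499999 : Led Lsl_gf (LP (LK LD1_c4 LD2_c33 LD3_c61)) = v1568 :=
  Lgr Lrot47 (Lpr_gt (f69266 IH) (Lpe (f143160 IH) (Lpr_ff (f499994 IH) (Lpn v1568))))
theorem f548857 : Led Lsl_df v1568 = (LP (LK LD1_c4 LD2_c34 LD3_c5)) :=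
  Lgr Lrot155 (Lpe (f499999 IH) (Lpr_ct (f500510 IH) (Lpqs (f537359 IH) (Lpr_gt (K30.f396271 IH) (Lpr_ct (K11.f210158 IH) (Lpr_dt (K11.f59107 IH) (Lpe (K18.f58989 IH) (Lpe (K11.f59005 IH) (Lpe (f210530 IH) (Lpr_gf (f548849 IH) (Lpn (LP (LK LD1_c4 LD2_c34 LD3_c5)))))))))))))
theorem f406357 : Led Lsl_ff (LP (LK LD1_c4 LD2_c34 LD3_c12)) = (LP (LK LD1_c2 LD2_c50 LD3_c52)) :=
  Lgr Lrot23 (Lpr_ct (K18.f302621 IH) (Lpe (K18.f302555 IH) (Lpe (K18.f210605 IH) (Lpn (LP (LK LD1_c2 LD2_c50 LD3_c52))))))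
theorem f302604 : Led Lsl_af (LP (LK LD1_c2 LD2_c50 LD3_c52)) = (LP (LK LD1_c4 LD2_c34 LD3_c11)) :=
  Lgr Lrot0 (Lpr_at (K18.f302561 IH) (Lpn (LP (LK LD1_c4 LD2_c34 LD3_c11))))
theorem f302545 : Led Lsl_ft (LP (LK LD1_c2 LD2_c50 LD3_c53)) = (LP (LK LD1_c4 LD2_c34 LD3_c11)) :=
  Lgr Lrot4 (Lpr_cf (f210294 IH) (Lpr_ff (K18.f302541 IH) (Lpr_cf (K18.f225436 IH) (Lpn (LP (LK LD1_c4 LD2_c34 LD3_c11))))))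
theorem f406359 : Led Lsl_at (LP (LK LD1_c4 LD2_c34 LD3_c12)) = (LP (LK LD1_c2 LD2_c50 LD3_c53)) :=
  Lgr Lrot66 (Lpr_ff (f406357 IH) (Lpr_af (f302604 IH) (Lpe (f302545 IH) (Lpn (LP (LK LD1_c2 LD2_c50 LD3_c53))))))
theorem f548851 : Led Lsl_gt (LP (LK LD1_c2 LD2_c50 LD3_c52)) = (LP (LK LD1_c4 LD2_c34 LD3_c5)) :=
  Lgr Lrot5 (Lpe (f406357 IH) (Lpr_at (f406359 IH) (Lpr_gf (f548849 IH) (Lpn (LP (LK LD1_c4 LD2_c34 LD3_c5))))))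
theorem f146335 : Led Lsl_ct (LP (LK LD1_c2 LD2_c51 LD3_c3)) = (LP (LK LD1_c1 LD2_c21 LD3_c33)) :=
  Lre_c IH (LK LD1_c2 LD2_c51 LD3_c3) (LK LD1_c1 LD2_c21 LD3_c33) Lrfl Lrfl
theorem f548862 : Led Lsl_dt (LP (LK LD1_c4 LD2_c33 LD3_c61)) = (LP (LK LD1_c2 LD2_c51 LD3_c3)) :=
  Lgr Lrot105 (Lpr_gf (f499999 IH) (Lpr_df (f548857 IH) (Lpe (f548851 IH) (Lpr_cf (K18.f210605 IH) (Lpe (K32.f242728 IH) (Lpr_dt (K11.f25971 IH) (Lpe (K11.f210291 IH) (Lpr_dt (K11.f146336 IH) (Lpe (f146335 IH) (Lpn (LP (LK LD1_c2 LD2_c51 LD3_c3))))))))))))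
def v1246 : LQ := Led Lsl_gf (LP (LK LD1_c1 LD2_c4 LD3_c12))
theorem f494282 : Led Lsl_gf (LP (LK LD1_c1 LD2_c4 LD3_c12)) = v1246 :=
  Lrfl
theorem f143122 : Led Lsl_ff (LP (LK LD1_c0 LD2_c7 LD3_c31)) = (LP (LK LD1_c0 LD2_c12 LD3_c54)) :=
  Lgr Lrot19 (Lpr_dt (K2.f20288 IH) (Lpr_ft (K6.f143116 IH) (Lpr_dt (K2.f21213 IH) (Lpn (LP (LK LD1_c0 LD2_c12 LD3_c54))))))
theorem f146378 : Led Lsl_at (LP (LK LD1_c0 LD2_c7 LD3_c31)) = (LP (LK LD1_c0 LD2_c12 LD3_c56)) :=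
  Lgr Lrot66 (Lpr_ff (f143122 IH) (Lpr_af (K6.f146371 IH) (Lpe (K6.f146368 IH) (Lpn (LP (LK LD1_c0 LD2_c12 LD3_c56))))))
theorem f446803 : Led Lsl_at (LP (LK LD1_c0 LD2_c29 LD3_c20)) = K35.v80 :=
  Lgr Lrot80 (Lpe (K24.f58955 IH) (Lpe (f146378 IH) (Lpr_ef (K35.f446802 IH) (Lpn K35.v80))))
theorem f176831 : Led Lsl_dt (LP (LK LD1_c1 LD2_c4 LD3_c12)) = (LP (LK LD1_c0 LD2_c29 LD3_c20)) :=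
  Lre_d IH (LK LD1_c1 LD2_c4 LD3_c12) (LK LD1_c0 LD2_c29 LD3_c20) Lrfl Lrfl
theorem f451462 : Led Lsl_af (LP (LK LD1_c1 LD2_c4 LD3_c12)) = K35.v265 :=
  Lgr Lrot117 (Lpr_dt (f176831 IH) (Lpr_at (f446803 IH) (Lpr_dt (K35.f451461 IH) (Lpn K35.v265))))
def v947 : LQ := Led Lsl_dt K35.v117
theorem f490681 : Led Lsl_dt K35.v117 = v947 :=
  Lrfl
theorem f448961 : Led Lsl_ft K35.v80 = K35.v117 :=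
  Lgr Lrot48 (Lpr_ff (K36.f448959 IH) (Lpn K35.v117))
theorem f490683 : Led Lsl_ff K35.v265 = v947 :=
  Lgr Lrot19 (Lpe (K35.f451463 IH) (Lpr_ft (f448961 IH) (Lpr_dt (f490681 IH) (Lpn v947))))
theorem f494283 : Led Lsl_gt v947 = v1246 :=
  Lgr Lrot5 (Lpe (f490683 IH) (Lpe (f451462 IH) (Lpr_gf (f494282 IH) (Lpn v1246))))
theorem f163573 : Led Lsl_dt (LP (LK LD1_c0 LD2_c29 LD3_c12)) = (LP (LK LD1_c1 LD2_c3 LD3_c60)) :=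
  Lre_d IH (LK LD1_c0 LD2_c29 LD3_c12) (LK LD1_c1 LD2_c3 LD3_c60) Lrfl Lrfl
theorem f537128 : v947 = (LP (LK LD1_c1 LD2_c3 LD3_c60)) :=
  Lefun (Lecon (f490681 IH) (K36.f536912 IH)) (f163573 IH)
theorem f537294 : v1246 = (LP (LK LD1_c2 LD2_c13 LD3_c52)) :=
  Lefun (Lecon (f494283 IH) (f537128 IH)) (K8.f58855 IH)
def v1912 : LQ := Led Lsl_gf (LP (LK LD1_c1 LD2_c31 LD3_c23))
theorem f506358 : Led Lsl_gf (LP (LK LD1_c1 LD2_c31 LD3_c23)) = v1912 :=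
  Lrfl
theorem f506360 : Led Lsl_ct v1246 = v1912 :=
  Lgr Lrot152 (Lpe (f494283 IH) (Lpe (f490681 IH) (Lpe (K35.f448960 IH) (Lpr_ct (K35.f25989 IH) (Lpr_gt (K11.f25956 IH) (Lpr_ct (K11.f25923 IH) (Lpe (K11.f25938 IH) (Lpe (K11.f25979 IH) (Lpr_gf (f506358 IH) (Lpn v1912))))))))))
theorem f452801 : Led Lsl_cf (LP (LK LD1_c1 LD2_c5 LD3_c56)) = K35.v433 :=
  Lgr Lrot39 (Lpr_et (K11.f185948 IH) (Lpe (K11.f210625 IH) (Lpr_et (K35.f452800 IH) (Lpn K35.v433))))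
theorem f176635 : Led Lsl_cf (LP (LK LD1_c0 LD2_c30 LD3_c7)) = (LP (LK LD1_c0 LD2_c37 LD3_c32)) :=
  Lgr Lrot11 (Lpr_ct (K11.f176625 IH) (Lpn (LP (LK LD1_c0 LD2_c37 LD3_c32))))
theorem f452225 : Led Lsl_gf (LP (LK LD1_c0 LD2_c37 LD3_c32)) = K36.v335 :=
  Lgr Lrot47 (Lpr_gt (K10.f56687 IH) (Lpe (K6.f146376 IH) (Lpr_ff (K36.f452221 IH) (Lpn K36.v335))))
theorem f452804 : Led Lsl_gt K36.v386 = K35.v433 :=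
  Lgr Lrot150 (Lpe (K36.f452560 IH) (Lpe (K9.f22417 IH) (Lpe (K9.f24554 IH) (Lpe (K9.f146346 IH) (Lpr_ct (K36.f452223 IH) (Lpe (f452225 IH) (Lpe (f176635 IH) (Lpe (K10.f25941 IH) (Lpr_cf (f452801 IH) (Lpn K35.v433))))))))))
theorem f494284 : Led Lsl_dt K35.v433 = v1246 :=
  Lgr Lrot57 (Lpe (f452804 IH) (Lpe (K36.f452560 IH) (Lpe (K9.f176829 IH) (Lpr_dt (K9.f146339 IH) (Lpr_gt (K9.f146326 IH) (Lpr_dt (K6.f20442 IH) (Lpe (K11.f146298 IH) (Lpe (f176831 IH) (Lpr_gf (f494282 IH) (Lpn v1246))))))))))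
def v1540 : LQ := Led Lsl_ct (LP (LK LD1_c1 LD2_c21 LD3_c21))
theorem f496176 : Led Lsl_ct (LP (LK LD1_c1 LD2_c21 LD3_c21)) = v1540 :=
  Lrfl
theorem f496178 : Led Lsl_cf (LP (LK LD1_c1 LD2_c21 LD3_c21)) = v1540 :=
  Lgr Lrot11 (Lpr_ct (f496176 IH) (Lpn v1540))
theorem f494257 : Led Lsl_df K36.v335 = v1242 :=
  Lgr Lrot78 (Lpe (K36.f452221 IH) (Lpr_dt (K18.f37273 IH) (Lpr_ft (f494255 IH) (Lpn v1242))))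
theorem f68650 : Led Lsl_gt (LP (LK LD1_c1 LD2_c31 LD3_c23)) = (LP (LK LD1_c3 LD2_c10 LD3_c21)) :=
  Lre_g IH (LK LD1_c1 LD2_c31 LD3_c23) (LK LD1_c3 LD2_c10 LD3_c21) Lrfl Lrfl
theorem f496180 : Led Lsl_dt (LP (LK LD1_c3 LD2_c10 LD3_c21)) = v1540 :=
  Lgr Lrot113 (Lpe (f68650 IH) (Lpr_df (K37.f204353 IH) (Lpe (K11.f205161 IH) (Lpr_ct (K11.f176646 IH) (Lpr_gt (f494262 IH) (Lpe (f494257 IH) (Lpe (f452225 IH) (Lpr_dt (K37.f176637 IH) (Lpr_ct (f496176 IH) (Lpn v1540))))))))))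
def v1245 : LQ := Led Lsl_gt (LP (LK LD1_c1 LD2_c4 LD3_c12))
theorem f494277 : Led Lsl_gt (LP (LK LD1_c1 LD2_c4 LD3_c12)) = v1245 :=
  Lrfl
theorem f210204 : Led Lsl_gt (LP (LK LD1_c3 LD2_c10 LD3_c21)) = (LP (LK LD1_c4 LD2_c41 LD3_c36)) :=
  Lgr Lrot46 (Lpe (f68650 IH) (Lpr_ft (K11.f210197 IH) (Lpe (K11.f210160 IH) (Lpn (LP (LK LD1_c4 LD2_c41 LD3_c36))))))
theorem f494278 : Led Lsl_cf (LP (LK LD1_c3 LD2_c10 LD3_c21)) = v1245 :=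
  Lgr Lrot169 (Lpr_gt (f210204 IH) (Lpr_ct (K11.f204349 IH) (Lpe (K11.f59036 IH) (Lpe (K11.f59035 IH) (Lpe (K11.f204373 IH) (Lpe (K11.f68658 IH) (Lpr_gf (K24.f205145 IH) (Lpe (f176831 IH) (Lpr_gt (f494277 IH) (Lpn v1245))))))))))
def v1296 : LQ := Led Lsl_ct (LP (LK LD1_c1 LD2_c5 LD3_c53))
theorem f494678 : Led Lsl_ct (LP (LK LD1_c1 LD2_c5 LD3_c53)) = v1296 :=
  Lrfl
theorem f452910 : Led Lsl_cf (LP (LK LD1_c1 LD2_c11 LD3_c11)) = K35.v449 :=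
  Lgr Lrot39 (Lpr_et (K17.f100665 IH) (Lpe (K9.f175569 IH) (Lpr_et (K35.f452909 IH) (Lpn K35.v449))))
theorem f494280 : Led Lsl_ct (LP (LK LD1_c3 LD2_c10 LD3_c21)) = v1245 :=
  Lgr Lrot59 (Lpr_cf (f494278 IH) (Lpn v1245))
theorem f494684 : Led Lsl_df v1245 = v1296 :=
  Lgr Lrot162 (Lpe (f494280 IH) (Lpe (f68650 IH) (Lpe (K11.f25925 IH) (Lpe (K12.f25939 IH) (Lpr_dt (K36.f193816 IH) (Lpr_gt (K36.f452913 IH) (Lpe (f452910 IH) (Lpr_gt (K24.f205218 IH) (Lpr_ct (f494678 IH) (Lpn v1296))))))))))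
def v1537 : LQ := Led Lsl_ct (LP (LK LD1_c1 LD2_c21 LD3_c19))
theorem f496165 : Led Lsl_ct (LP (LK LD1_c1 LD2_c21 LD3_c19)) = v1537 :=
  Lrfl
theorem f496166 : Led Lsl_cf (LP (LK LD1_c1 LD2_c21 LD3_c19)) = v1537 :=
  Lgr Lrot11 (Lpr_ct (f496165 IH) (Lpn v1537))
theorem f506362 : Led Lsl_df v1537 = v1912 :=
  Lgr Lrot43 (Lpe (f496166 IH) (Lpr_dt (K24.f61334 IH) (Lpe (K11.f205222 IH) (Lpr_dt (K10.f25987 IH) (Lpr_ct (f494678 IH) (Lpe (f494684 IH) (Lpe (f494278 IH) (Lpr_dt (f496180 IH) (Lpe (f496178 IH) (Lpr_dt (K37.f176640 IH) (Lpe (f176635 IH) (Lpr_dt (K11.f175534 IH) (Lpr_ct (K35.f452803 IH) (Lpr_dt (f494284 IH) (Lpr_ct (f506360 IH) (Lpn v1912))))))))))))))))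
theorem f506363 : Led Lsl_dt v1537 = v1912 :=
  Lgr Lrot42 (Lpr_df (f506362 IH) (Lpn v1912))
def v408 : LQ := Led Lsl_at (LP (LK LD1_c0 LD2_c37 LD3_c49))
theorem f452690 : Led Lsl_at (LP (LK LD1_c0 LD2_c37 LD3_c49)) = v408 :=
  Lrfl
theorem f143120 : Led Lsl_ff (LP (LK LD1_c0 LD2_c37 LD3_c49)) = (LP (LK LD1_c1 LD2_c3 LD3_c60)) :=
  Lgr Lrot25 (Lpr_bt (K6.f20426 IH) (Lpr_ft (K6.f143116 IH) (Lpr_bt (K8.f58854 IH) (Lpn (LP (LK LD1_c1 LD2_c3 LD3_c60))))))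
theorem f437283 : Led Lsl_at (LP (LK LD1_c2 LD2_c13 LD3_c51)) = (LP (LK LD1_c1 LD2_c3 LD3_c60)) :=
  Lre_a IH (LK LD1_c2 LD2_c13 LD3_c51) (LK LD1_c1 LD2_c3 LD3_c60) Lrfl Lrfl
theorem f452694 : Led Lsl_ff (LP (LK LD1_c2 LD2_c13 LD3_c51)) = v408 :=
  Lgr Lrot30 (Lpr_at (f437283 IH) (Lpe (f143120 IH) (Lpr_at (f452690 IH) (Lpn v408))))
theorem f452699 : Led Lsl_ft (LP (LK LD1_c2 LD2_c13 LD3_c51)) = v408 :=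
  Lgr Lrot48 (Lpr_ff (f452694 IH) (Lpn v408))
theorem f499995 : Led Lsl_ct v408 = v1568 :=
  Lgr Lrot40 (Lpe (f452699 IH) (Lpe (K32.f143172 IH) (Lpr_ff (f499994 IH) (Lpn v1568))))
theorem f146349 : Led Lsl_ct (LP (LK LD1_c1 LD2_c4 LD3_c12)) = (LP (LK LD1_c2 LD2_c14 LD3_c18)) :=
  Lre_c IH (LK LD1_c1 LD2_c4 LD3_c12) (LK LD1_c2 LD2_c14 LD3_c18) Lrfl Lrfl
theorem f143173 : Led Lsl_dt (LP (LK LD1_c2 LD2_c13 LD3_c51)) = (LP (LK LD1_c1 LD2_c3 LD3_c59)) :=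
  Lre_d IH (LK LD1_c2 LD2_c13 LD3_c51) (LK LD1_c1 LD2_c3 LD3_c59) Lrfl Lrfl
theorem f452698 : Led Lsl_dt K11.v114 = v408 :=
  Lgr Lrot60 (Lpe (K11.f448940 IH) (Lpe (f143173 IH) (Lpr_ff (f452694 IH) (Lpn v408))))
theorem f20245 : Led Lsl_dt (LP (LK LD1_c0 LD2_c29 LD3_c20)) = (LP (LK LD1_c1 LD2_c4 LD3_c12)) :=
  Lre_d IH (LK LD1_c0 LD2_c29 LD3_c20) (LK LD1_c1 LD2_c4 LD3_c12) Lrfl Lrfl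
theorem f537243 : v408 = (LP (LK LD1_c1 LD2_c4 LD3_c12)) :=
  Lefun (Lecon (f452698 IH) (K36.f537095 IH)) (f20245 IH)
theorem f537593 : v1568 = (LP (LK LD1_c2 LD2_c14 LD3_c18)) :=
  Lefun (Lecon (f499995 IH) (f537243 IH)) (f146349 IH)
theorem f176875 : Led Lsl_ct (LP (LK LD1_c2 LD2_c14 LD3_c18)) = (LP (LK LD1_c1 LD2_c4 LD3_c12)) :=
  Lre_c IH (LK LD1_c2 LD2_c14 LD3_c18) (LK LD1_c1 LD2_c4 LD3_c12) Lrfl Lrfl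
theorem f198240 : Led Lsl_dt (LP (LK LD1_c2 LD2_c8 LD3_c56)) = (LP (LK LD1_c1 LD2_c19 LD3_c37)) :=
  Lgr Lrot79 (Lpr_bf (K10.f198236 IH) (Lpe (K9.f176899 IH) (Lpe (K12.f176989 IH) (Lpn (LP (LK LD1_c1 LD2_c19 LD3_c37))))))
theorem f449526 : Led Lsl_af (LP (LK LD1_c2 LD2_c8 LD3_c56)) = (LP (LK LD1_c3 LD2_c5 LD3_c37)) :=
  Lgr Lrot117 (Lpr_dt (f198240 IH) (Lpr_at (K36.f449522 IH) (Lpr_dt (K12.f227692 IH) (Lpn (LP (LK LD1_c3 LD2_c5 LD3_c37))))))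
theorem f449530 : Led Lsl_ff (LP (LK LD1_c3 LD2_c5 LD3_c37)) = (LP (LK LD1_c2 LD2_c8 LD3_c55)) :=
  Lgr Lrot30 (Lpe (f449526 IH) (Lpe (K36.f449491 IH) (Lpr_at (K36.f449522 IH) (Lpn (LP (LK LD1_c2 LD2_c8 LD3_c55))))))
theorem f449534 : Led Lsl_ft (LP (LK LD1_c3 LD2_c5 LD3_c37)) = (LP (LK LD1_c2 LD2_c8 LD3_c55)) :=
  Lgr Lrot48 (Lpr_ff (f449530 IH) (Lpn (LP (LK LD1_c2 LD2_c8 LD3_c55))))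
theorem f198234 : Led Lsl_bf (LP (LK LD1_c1 LD2_c10 LD3_c27)) = (LP (LK LD1_c2 LD2_c8 LD3_c55)) :=
  Lgr Lrot34 (Lpe (K10.f161782 IH) (Lpe (K10.f161775 IH) (Lpr_ct (K10.f181581 IH) (Lpe (K10.f80968 IH) (Lpe (K10.f80967 IH) (Lpe (K10.f197842 IH) (Lpr_bf (K10.f198232 IH) (Lpr_ct (K10.f37181 IH) (Lpe (K10.f197911 IH) (Lpe (K10.f80972 IH) (Lpn (LP (LK LD1_c2 LD2_c8 LD3_c55)))))))))))))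
theorem f449538 : Led Lsl_ff (LP (LK LD1_c1 LD2_c28 LD3_c54)) = (LP (LK LD1_c1 LD2_c10 LD3_c27)) :=
  Lgr Lrot25 (Lpr_bt (K36.f194015 IH) (Lpr_ft (f449534 IH) (Lpe (f198234 IH) (Lpn (LP (LK LD1_c1 LD2_c10 LD3_c27))))))
theorem f449542 : Led Lsl_ft (LP (LK LD1_c0 LD2_c41 LD3_c3)) = (LP (LK LD1_c1 LD2_c5 LD3_c56)) :=
  Lgr Lrot86 (Lpe (K10.f186463 IH) (Lpr_ff (f449538 IH) (Lpr_ef (K10.f186483 IH) (Lpr_ff (K36.f449118 IH) (Lpe (K11.f185948 IH) (Lpn (LP (LK LD1_c1 LD2_c5 LD3_c56))))))))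
theorem f449546 : Led Lsl_ff (LP (LK LD1_c0 LD2_c41 LD3_c3)) = (LP (LK LD1_c1 LD2_c5 LD3_c56)) :=
  Lgr Lrot3 (Lpr_ft (f449542 IH) (Lpn (LP (LK LD1_c1 LD2_c5 LD3_c56))))
theorem f453481 : Led Lsl_ff K35.v433 = v465 :=
  Lgr Lrot23 (Lpe (f452801 IH) (Lpe (f449546 IH) (Lpr_ct (f453478 IH) (Lpn v465))))
def v1108 : LQ := Led Lsl_gt K35.v265
theorem f491547 : Led Lsl_gt K35.v265 = v1108 :=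
  Lrfl
theorem f451456 : Led Lsl_cf (LP (LK LD1_c0 LD2_c30 LD3_c28)) = K35.v264 :=
  Lgr Lrot39 (Lpr_et (K17.f242638 IH) (Lpe (K12.f211807 IH) (Lpr_et (K35.f451454 IH) (Lpn K35.v264))))
theorem f491548 : Led Lsl_df v465 = v1108 :=
  Lgr Lrot84 (Lpe (f453478 IH) (Lpe (K10.f59001 IH) (Lpe (K10.f59000 IH) (Lpe (K9.f58979 IH) (Lpe (K13.f58999 IH) (Lpr_cf (f451456 IH) (Lpe (K35.f451451 IH) (Lpr_dt (K35.f451461 IH) (Lpr_gt (f491547 IH) (Lpn v1108))))))))))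
theorem f494287 : Led Lsl_ff v1108 = v1246 :=
  Lgr Lrot19 (Lpe (f491548 IH) (Lpe (f453481 IH) (Lpr_dt (f494284 IH) (Lpn v1246))))
theorem f494289 : Led Lsl_at v1108 = v1245 :=
  Lgr Lrot26 (Lpr_ff (f494287 IH) (Lpe (f494282 IH) (Lpr_gt (f494277 IH) (Lpn v1245))))
theorem f494290 : Led Lsl_af v1108 = v1245 :=
  Lgr Lrot0 (Lpr_at (f494289 IH) (Lpn v1245))
theorem f494288 : Led Lsl_ft v1108 = v1246 :=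
  Lgr Lrot48 (Lpr_ff (f494287 IH) (Lpn v1246))
theorem f449100 : Led Lsl_af (LP (LK LD1_c0 LD2_c41 LD3_c6)) = (LP (LK LD1_c1 LD2_c5 LD3_c56)) :=
  Lgr Lrot0 (Lpr_at (K36.f449098 IH) (Lpn (LP (LK LD1_c1 LD2_c5 LD3_c56))))
theorem f453486 : Led Lsl_af K35.v433 = K36.v466 :=
  Lgr Lrot68 (Lpe (f452801 IH) (Lpe (f449100 IH) (Lpr_ct (K36.f453485 IH) (Lpn K36.v466))))
def v1109 : LQ := Led Lsl_gf K35.v265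
theorem f491550 : Led Lsl_gf K35.v265 = v1109 :=
  Lrfl
theorem f452937 : Led Lsl_ct (LP (LK LD1_c0 LD2_c39 LD3_c27)) = v452 :=
  Lgr Lrot15 (Lpe (K9.f20730 IH) (Lpe (K10.f169002 IH) (Lpr_ef (f452935 IH) (Lpn v452))))
theorem f453490 : Led Lsl_et (LP (LK LD1_c1 LD2_c4 LD3_c26)) = K36.v466 :=
  Lgr Lrot87 (Lpr_ef (K36.f453488 IH) (Lpn K36.v466))
theorem f26643 : Led Lsl_et (LP (LK LD1_c1 LD2_c25 LD3_c44)) = (LP (LK LD1_c0 LD2_c39 LD3_c36)) :=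
  Lre_e IH (LK LD1_c1 LD2_c25 LD3_c44) (LK LD1_c0 LD2_c39 LD3_c36) Lrfl Lrfl
theorem f453491 : Led Lsl_gt v452 = K36.v466 :=
  Lgr Lrot131 (Lpe (f452932 IH) (Lpr_dt (K10.f177159 IH) (Lpe (K10.f177388 IH) (Lpe (K9.f55410 IH) (Lpr_gf (K9.f177381 IH) (Lpe (f26643 IH) (Lpr_dt (K12.f20736 IH) (Lpr_gf (K12.f26635 IH) (Lpe (K12.f20395 IH) (Lpr_et (f453490 IH) (Lpn K36.v466)))))))))))
theorem f491551 : Led Lsl_dt K36.v466 = v1109 :=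
  Lgr Lrot57 (Lpe (f453491 IH) (Lpe (f452937 IH) (Lpr_gt (K9.f26674 IH) (Lpr_dt (K9.f26622 IH) (Lpr_gt (K9.f22427 IH) (Lpr_dt (K9.f176871 IH) (Lpr_cf (K36.f446801 IH) (Lpr_df (K35.f451463 IH) (Lpr_gf (f491550 IH) (Lpn v1109))))))))))
theorem f491552 : Led Lsl_df K36.v466 = v1109 :=
  Lgr Lrot38 (Lpr_dt (f491551 IH) (Lpn v1109))
theorem f494285 : Led Lsl_af v1109 = v1246 :=
  Lgr Lrot117 (Lpe (f491552 IH) (Lpe (f453486 IH) (Lpr_dt (f494284 IH) (Lpn v1246))))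
theorem f494291 : Led Lsl_ft v1109 = v1245 :=
  Lgr Lrot101 (Lpr_af (f494285 IH) (Lpe (f494288 IH) (Lpr_af (f494290 IH) (Lpn v1245))))
theorem f494292 : Led Lsl_ff v1109 = v1245 :=
  Lgr Lrot3 (Lpr_ft (f494291 IH) (Lpn v1245))
theorem f494293 : Led Lsl_at v1109 = v1246 :=
  Lgr Lrot66 (Lpr_ff (f494292 IH) (Lpe (f494289 IH) (Lpr_ff (f494287 IH) (Lpn v1246))))
theorem f494294 : Led Lsl_gf v947 = v1245 :=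
  Lgr Lrot47 (Lpr_gt (f494283 IH) (Lpe (f494293 IH) (Lpr_ff (f494292 IH) (Lpn v1245))))
theorem f537296 : v1245 = (LP (LK LD1_c2 LD2_c13 LD3_c53)) :=
  Lefun (Lecon (f494294 IH) (f537128 IH)) (Lfl_gt (K28.f58862 IH))
theorem f203175 : Led Lsl_ff (LP (LK LD1_c2 LD2_c13 LD3_c53)) = (LP (LK LD1_c1 LD2_c21 LD3_c43)) :=
  Lgr Lrot3 (Lpr_ft (K35.f203170 IH) (Lpn (LP (LK LD1_c1 LD2_c21 LD3_c43))))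
theorem f424521 : Led Lsl_dt (LP (LK LD1_c2 LD2_c13 LD3_c53)) = (LP (LK LD1_c1 LD2_c4 LD3_c16)) :=
  Lgr Lrot60 (Lpr_ff (f203175 IH) (Lpe (K8.f26551 IH) (Lpr_ff (K35.f424515 IH) (Lpn (LP (LK LD1_c1 LD2_c4 LD3_c16))))))
def v2566 : LQ := Led Lsl_dt (LP (LK LD1_c1 LD2_c48 LD3_c46))
theorem f527519 : Led Lsl_dt (LP (LK LD1_c1 LD2_c48 LD3_c46)) = v2566 :=
  Lrfl
theorem f527521 : Led Lsl_df (LP (LK LD1_c1 LD2_c48 LD3_c46)) = v2566 :=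
  Lgr Lrot38 (Lpr_dt (f527519 IH) (Lpn v2566))
theorem f548869 : Led Lsl_gf v2566 = (LP (LK LD1_c2 LD2_c51 LD3_c3)) :=
  Lgr Lrot143 (Lpe (f527521 IH) (Lpe (K24.f206492 IH) (Lpe (K7.f152014 IH) (Lpe (K35.f164416 IH) (Lpe (f424521 IH) (Lpq (f537296 IH) (Lpe (f494277 IH) (Lpe (f176875 IH) (Lpq (f537593 IH) (Lpe (f499999 IH) (Lpr_dt (f548862 IH) (Lpn (LP (LK LD1_c2 LD2_c51 LD3_c3))))))))))))))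
theorem f548870 : Led Lsl_cf (LP (LK LD1_c2 LD2_c50 LD3_c38)) = v2566 :=
  Lgr Lrot188 (Lpr_gt (K24.f171792 IH) (Lpr_ct (f496165 IH) (Lpr_dt (f506363 IH) (Lpe (f506360 IH) (Lpqs (f537294 IH) (Lpe (K8.f58855 IH) (Lpe (K6.f58840 IH) (Lpe (f69266 IH) (Lpr_dt (f548862 IH) (Lpe (f548869 IH) (Lpn v2566)))))))))))
theorem f22665 : Led Lsl_dt (LP (LK LD1_c2 LD2_c52 LD3_c28)) = (LP (LK LD1_c1 LD2_c22 LD3_c18)) :=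
  Lre_d IH (LK LD1_c2 LD2_c52 LD3_c28) (LK LD1_c1 LD2_c22 LD3_c18) Lrfl Lrfl
theorem f527522 : Led Lsl_ff (LP (LK LD1_c2 LD2_c52 LD3_c28)) = v2566 :=
  Lgr Lrot19 (Lpr_dt (f22665 IH) (Lpe (K36.f148419 IH) (Lpr_dt (f527519 IH) (Lpn v2566))))
theorem f527524 : Led Lsl_ft (LP (LK LD1_c2 LD2_c52 LD3_c28)) = v2566 :=
  Lgr Lrot48 (Lpr_ff (f527522 IH) (Lpn v2566))
theorem f548873 : Led Lsl_ct (LP (LK LD1_c2 LD2_c13 LD3_c4)) = (LP (LK LD1_c2 LD2_c52 LD3_c28)) :=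
  Lgr Lrot40 (Lpr_ff (K24.f380084 IH) (Lpr_cf (f548870 IH) (Lpe (f527524 IH) (Lpn (LP (LK LD1_c2 LD2_c52 LD3_c28))))))
theorem f61297 : Led Lsl_bt (LP (LK LD1_c2 LD2_c33 LD3_c56)) = (LP (LK LD1_c1 LD2_c13 LD3_c57)) :=
  Lre_b IH (LK LD1_c2 LD2_c33 LD3_c56) (LK LD1_c1 LD2_c13 LD3_c57) Lrfl Lrfl
theorem f61374 : Led Lsl_ct (LP (LK LD1_c5 LD2_c14 LD3_c0)) = (LP (LK LD1_c2 LD2_c33 LD3_c56)) :=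
  Lre_c IH (LK LD1_c5 LD2_c14 LD3_c0) (LK LD1_c2 LD2_c33 LD3_c56) Lrfl Lrfl
theorem f22617 : Led Lsl_dt (LP (LK LD1_c1 LD2_c22 LD3_c18)) = (LP (LK LD1_c2 LD2_c52 LD3_c28)) :=
  Lre_d IH (LK LD1_c1 LD2_c22 LD3_c18) (LK LD1_c2 LD2_c52 LD3_c28) Lrfl Lrfl
theorem f22618 : Led Lsl_bf (LP (LK LD1_c1 LD2_c33 LD3_c38)) = (LP (LK LD1_c2 LD2_c52 LD3_c28)) :=
  Lgr Lrot93 (Lpr_dt (K6.f22616 IH) (Lpr_bt (K8.f22593 IH) (Lpr_dt (f22617 IH) (Lpn (LP (LK LD1_c2 LD2_c52 LD3_c28))))))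
theorem f548884 : Led Lsl_df (LP (LK LD1_c5 LD2_c14 LD3_c0)) = (LP (LK LD1_c3 LD2_c38 LD3_c24)) :=
  Lgr Lrot183 (Lpr_ct (f61374 IH) (Lpr_bt (f61297 IH) (Lpr_gt (K16.f210596 IH) (Lpr_dt (K12.f20805 IH) (Lpr_ct (f548873 IH) (Lpe (f22618 IH) (Lpr_gt (K5.f22637 IH) (Lpr_dt (K5.f129129 IH) (Lpe (K1.f66462 IH) (Lpr_bt (K1.f12484 IH) (Lpr_gt (K1.f66432 IH) (Lpr_dt (K1.f19357 IH) (Lpr_ct (K1.f19356 IH) (Lpr_bt (K2.f10769 IH) (Lpr_gt (K2.f19350 IH) (Lpr_dt (K1.f17644 IH) (Lpr_ct (K1.f18018 IH) (Lpr_bt (K6.f18023 IH) (Lpr_gt (K6.f18026 IH) (Lpn (LP (LK LD1_c3 LD2_c38 LD3_c24))))))))))))))))))))))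
theorem f61376 : Led Lsl_gt (LP (LK LD1_c5 LD2_c14 LD3_c6)) = (LP (LK LD1_c2 LD2_c33 LD3_c56)) :=
  Lre_g IH (LK LD1_c5 LD2_c14 LD3_c6) (LK LD1_c2 LD2_c33 LD3_c56) Lrfl Lrfl
theorem f98530 : Led Lsl_gt (LP (LK LD1_c3 LD2_c46 LD3_c22)) = (LP (LK LD1_c7 LD2_c33 LD3_c46)) :=
  Lre_g IH (LK LD1_c3 LD2_c46 LD3_c22) (LK LD1_c7 LD2_c33 LD3_c46) Lrfl Lrfl
theorem f548900 : Led Lsl_cf (LP (LK LD1_c5 LD2_c14 LD3_c6)) = (LP (LK LD1_c7 LD2_c33 LD3_c46)) :=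
  Lgr Lrot169 (Lpr_gt (f61376 IH) (Lpr_ct (K16.f61419 IH) (Lpr_df (f548884 IH) (Lpe (K6.f108909 IH) (Lpe (K32.f147310 IH) (Lpe (K28.f94454 IH) (Lpe (K3.f92365 IH) (Lpe (K37.f93628 IH) (Lpr_gt (f98530 IH) (Lpn (LP (LK LD1_c7 LD2_c33 LD3_c46))))))))))))
theorem f61380 : Led Lsl_et (LP (LK LD1_c2 LD2_c33 LD3_c56)) = (LP (LK LD1_c1 LD2_c13 LD3_c55)) :=
  Lre_e IH (LK LD1_c2 LD2_c33 LD3_c56) (LK LD1_c1 LD2_c13 LD3_c55) Lrfl Lrfl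
theorem f421283 : Led Lsl_gt (LP (LK LD1_c2 LD2_c50 LD3_c49)) = (LP (LK LD1_c5 LD2_c47 LD3_c17)) :=
  Lgr Lrot112 (Lpe (K36.f61353 IH) (Lpr_et (f61380 IH) (Lpe (K32.f61383 IH) (Lpr_ef (K32.f421277 IH) (Lpr_dt (K6.f137963 IH) (Lpr_gf (K8.f74176 IH) (Lpe (K8.f73831 IH) (Lpr_gf (K8.f73295 IH) (Lpe (K32.f73288 IH) (Lpr_dt (K32.f73289 IH) (Lpn (LP (LK LD1_c5 LD2_c47 LD3_c17)))))))))))))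
theorem f546891 : Led Lsl_gf (LP (LK LD1_c9 LD2_c2 LD3_c50)) = (LP (LK LD1_c7 LD2_c33 LD3_c46)) :=
  Lgr Lrot76 (Lpr_af (f546889 IH) (Lpe (K3.f109053 IH) (Lpr_gt (f98530 IH) (Lpn (LP (LK LD1_c7 LD2_c33 LD3_c46))))))
theorem f546873 : Led Lsl_df (LP (LK LD1_c7 LD2_c0 LD3_c42)) = (LP (LK LD1_c9 LD2_c2 LD3_c50)) :=
  Lgr Lrot38 (Lpr_dt (K37.f546867 IH) (Lpn (LP (LK LD1_c9 LD2_c2 LD3_c50))))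
theorem f548921 : Led Lsl_df (LP (LK LD1_c5 LD2_c47 LD3_c16)) = (LP (LK LD1_c3 LD2_c46 LD3_c20)) :=
  Lgr Lrot84 (Lpe (K32.f421288 IH) (Lpe (K32.f149987 IH) (Lpe (f421283 IH) (Lpe (K36.f61353 IH) (Lpe (f61376 IH) (Lpr_cf (f548900 IH) (Lpe (f546891 IH) (Lpe (f546873 IH) (Lpe (f427169 IH) (Lpn (LP (LK LD1_c3 LD2_c46 LD3_c20))))))))))))
theorem f210466 : Led Lsl_ct (LP (LK LD1_c3 LD2_c5 LD3_c20)) = (LP (LK LD1_c1 LD2_c28 LD3_c41)) :=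
  Lre_c IH (LK LD1_c3 LD2_c5 LD3_c20) (LK LD1_c1 LD2_c28 LD3_c41) Lrfl Lrfl
theorem f548929 : Led Lsl_gt (LP (LK LD1_c5 LD2_c47 LD3_c16)) = (LP (LK LD1_c3 LD2_c5 LD3_c20)) :=
  Lgr Lrot9 (Lpr_df (f548921 IH) (Lpr_gt (f92299 IH) (Lpr_ct (K2.f93627 IH) (Lpr_gt (K28.f14696 IH) (Lpr_ct (K33.f522541 IH) (Lpqs (K37.f540358 IH) (Lpe (K37.f112399 IH) (Lpe (K37.f179937 IH) (Lpe (K36.f202625 IH) (Lpe (f210466 IH) (Lpn (LP (LK LD1_c3 LD2_c5 LD3_c20)))))))))))))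
theorem f503141 : Led Lsl_ct (LP (LK LD1_c1 LD2_c28 LD3_c41)) = (LP (LK LD1_c3 LD2_c5 LD3_c20)) :=
  Lre_c IH (LK LD1_c1 LD2_c28 LD3_c41) (LK LD1_c3 LD2_c5 LD3_c20) Lrfl Lrfl
theorem f59055 : Led Lsl_bt (LP (LK LD1_c0 LD2_c41 LD3_c0)) = (LP (LK LD1_c1 LD2_c28 LD3_c43)) :=
  Lre_b IH (LK LD1_c0 LD2_c41 LD3_c0) (LK LD1_c1 LD2_c28 LD3_c43) Lrfl Lrfl
def v1539 : LQ := Led Lsl_gt (LP (LK LD1_c1 LD2_c21 LD3_c20))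
theorem f496173 : Led Lsl_gt (LP (LK LD1_c1 LD2_c21 LD3_c20)) = v1539 :=
  Lrfl
theorem f548944 : (LP (LK LD1_c2 LD2_c49 LD3_c33)) = v1539 :=
  (Llr Lrot125 (Lpr_ct (K32.f421288 IH) (Lpr_gt (f548929 IH) (Lpe (f503141 IH) (Lpr_bt (K37.f503151 IH) (Lpq (K37.f546804 IH) (Lpr_gt (K37.f202278 IH) (Lpe (f59055 IH) (Lpr_ct (K11.f59037 IH) (Lpe (K11.f205210 IH) (Lpr_cf (f176635 IH) (Lpr_bt (f176631 IH) (Lpr_gt (f496173 IH) (Lpn v1539)))))))))))))).symm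
theorem f450231 : Led Lsl_at (LP (LK LD1_c1 LD2_c28 LD3_c51)) = (LP (LK LD1_c3 LD2_c5 LD3_c39)) :=
  Lre_a IH (LK LD1_c1 LD2_c28 LD3_c51) (LK LD1_c3 LD2_c5 LD3_c39) Lrfl Lrfl
theorem f496174 : Led Lsl_gf (LP (LK LD1_c3 LD2_c5 LD3_c39)) = v1539 :=
  Lgr Lrot76 (Lpe (f450231 IH) (Lpr_ff (f450167 IH) (Lpr_gt (f496173 IH) (Lpn v1539))))
theorem f450204 : Led Lsl_dt (LP (LK LD1_c3 LD2_c5 LD3_c39)) = (LP (LK LD1_c6 LD2_c17 LD3_c0)) :=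
  Lre_d IH (LK LD1_c3 LD2_c5 LD3_c39) (LK LD1_c6 LD2_c17 LD3_c0) Lrfl Lrfl
theorem f450183 : Led Lsl_at (LP (LK LD1_c3 LD2_c5 LD3_c40)) = (LP (LK LD1_c6 LD2_c17 LD3_c0)) :=
  Lre_a IH (LK LD1_c3 LD2_c5 LD3_c40) (LK LD1_c6 LD2_c17 LD3_c0) Lrfl Lrfl
theorem f450184 : Led Lsl_at (LP (LK LD1_c5 LD2_c49 LD3_c10)) = (LP (LK LD1_c2 LD2_c50 LD3_c42)) :=
  Lre_a IH (LK LD1_c5 LD2_c49 LD3_c10) (LK LD1_c2 LD2_c50 LD3_c42) Lrfl Lrfl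
theorem f450185 : Led Lsl_ft (LP (LK LD1_c6 LD2_c17 LD3_c0)) = (LP (LK LD1_c5 LD2_c49 LD3_c10)) :=
  Lgr Lrot101 (Lpe (f450183 IH) (Lpr_ff (K37.f450181 IH) (Lpe (f450184 IH) (Lpn (LP (LK LD1_c5 LD2_c49 LD3_c10))))))
theorem f176695 : Led Lsl_gt (LP (LK LD1_c5 LD2_c49 LD3_c14)) = (LP (LK LD1_c2 LD2_c50 LD3_c42)) :=
  Lre_g IH (LK LD1_c5 LD2_c49 LD3_c14) (LK LD1_c2 LD2_c50 LD3_c42) Lrfl Lrfl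
theorem f450460 : Led Lsl_gt (LP (LK LD1_c6 LD2_c17 LD3_c0)) = (LP (LK LD1_c5 LD2_c49 LD3_c14)) :=
  Lgr Lrot5 (Lpr_ft (f450185 IH) (Lpr_at (f450184 IH) (Lpe (f176695 IH) (Lpn (LP (LK LD1_c5 LD2_c49 LD3_c14))))))
theorem f548951 : Led Lsl_dt (LP (LK LD1_c3 LD2_c59 LD3_c4)) = (LP (LK LD1_c5 LD2_c49 LD3_c14)) :=
  Lgr Lrot56 (Lpr_et (f100562 IH) (Lpr_gt (K36.f149994 IH) (Lpe (K37.f99576 IH) (Lpr_dt (K1.f40035 IH) (Lpr_gt (K7.f36254 IH) (Lpe (K7.f149982 IH) (Lpr_et (f149993 IH) (Lpqs (f548944 IH) (Lpe (f496174 IH) (Lpr_dt (f450204 IH) (Lpr_gt (f450460 IH) (Lpn (LP (LK LD1_c5 LD2_c49 LD3_c14))))))))))))))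
theorem f427509 : Led Lsl_df (LP (LK LD1_c3 LD2_c0 LD3_c8)) = (LP (LK LD1_c2 LD2_c48 LD3_c0)) :=
  Lgr Lrot38 (Lpr_dt (K32.f427505 IH) (Lpn (LP (LK LD1_c2 LD2_c48 LD3_c0))))
theorem f172372 : Led Lsl_ct (LP (LK LD1_c1 LD2_c20 LD3_c16)) = (LP (LK LD1_c2 LD2_c48 LD3_c1)) :=
  Lre_c IH (LK LD1_c1 LD2_c20 LD3_c16) (LK LD1_c2 LD2_c48 LD3_c1) Lrfl Lrfl
theorem f172373 : Led Lsl_gt (LP (LK LD1_c2 LD2_c48 LD3_c1)) = (LP (LK LD1_c5 LD2_c44 LD3_c2)) :=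
  Lre_g IH (LK LD1_c2 LD2_c48 LD3_c1) (LK LD1_c5 LD2_c44 LD3_c2) Lrfl Lrfl
theorem f40205 : Led Lsl_gt (LP (LK LD1_c3 LD2_c59 LD3_c6)) = (LP (LK LD1_c7 LD2_c59 LD3_c8)) :=
  Lre_g IH (LK LD1_c3 LD2_c59 LD3_c6) (LK LD1_c7 LD2_c59 LD3_c8) Lrfl Lrfl
theorem f40206 : Led Lsl_bt (LP (LK LD1_c7 LD2_c59 LD3_c33)) = (LP (LK LD1_c3 LD2_c59 LD3_c6)) :=
  Lre_b IH (LK LD1_c7 LD2_c59 LD3_c33) (LK LD1_c3 LD2_c59 LD3_c6) Lrfl Lrfl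
theorem f172371 : Led Lsl_bt (LP (LK LD1_c1 LD2_c20 LD3_c16)) = (LP (LK LD1_c2 LD2_c13 LD3_c32)) :=
  Lre_b IH (LK LD1_c1 LD2_c20 LD3_c16) (LK LD1_c2 LD2_c13 LD3_c32) Lrfl Lrfl
theorem f172374 : Led Lsl_ct (LP (LK LD1_c7 LD2_c59 LD3_c33)) = (LP (LK LD1_c5 LD2_c44 LD3_c2)) :=
  Lgr Lrot10 (Lpr_bt (f40206 IH) (Lpr_gt (f40205 IH) (Lpr_ct (K9.f40194 IH) (Lpr_gt (K9.f172370 IH) (Lpr_cf (K9.f172343 IH) (Lpr_bt (K9.f172342 IH) (Lpr_gt (K9.f142124 IH) (Lpe (f172371 IH) (Lpr_ct (f172372 IH) (Lpr_gt (f172373 IH) (Lpn (LP (LK LD1_c5 LD2_c44 LD3_c2)))))))))))))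
theorem f422841 : Led Lsl_cf (LP (LK LD1_c7 LD2_c59 LD3_c33)) = (LP (LK LD1_c5 LD2_c44 LD3_c2)) :=
  Lgr Lrot11 (Lpr_ct (f172374 IH) (Lpn (LP (LK LD1_c5 LD2_c44 LD3_c2))))
theorem f211940 : Led Lsl_at (LP (LK LD1_c4 LD2_c31 LD3_c5)) = (LP (LK LD1_c2 LD2_c12 LD3_c30)) :=
  Lre_a IH (LK LD1_c4 LD2_c31 LD3_c5) (LK LD1_c2 LD2_c12 LD3_c30) Lrfl Lrfl
theorem f211941 : Led Lsl_ct (LP (LK LD1_c2 LD2_c44 LD3_c37)) = (LP (LK LD1_c4 LD2_c31 LD3_c5)) :=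
  Lgr Lrot111 (Lpe (K27.f211939 IH) (Lpr_cf (K17.f211844 IH) (Lpe (f211940 IH) (Lpn (LP (LK LD1_c4 LD2_c31 LD3_c5))))))
theorem f174658 : Led Lsl_ct (LP (LK LD1_c2 LD2_c26 LD3_c37)) = (LP (LK LD1_c4 LD2_c57 LD3_c28)) :=
  Lre_c IH (LK LD1_c2 LD2_c26 LD3_c37) (LK LD1_c4 LD2_c57 LD3_c28) Lrfl Lrfl
theorem f174661 : Led Lsl_bt (LP (LK LD1_c4 LD2_c32 LD3_c48)) = (LP (LK LD1_c2 LD2_c47 LD3_c35)) :=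
  Lre_b IH (LK LD1_c4 LD2_c32 LD3_c48) (LK LD1_c2 LD2_c47 LD3_c35) Lrfl Lrfl
theorem f172143 : Led Lsl_ct (LP (LK LD1_c2 LD2_c48 LD3_c3)) = (LP (LK LD1_c5 LD2_c44 LD3_c11)) :=
  Lre_c IH (LK LD1_c2 LD2_c48 LD3_c3) (LK LD1_c5 LD2_c44 LD3_c11) Lrfl Lrfl
theorem f174663 : Led Lsl_gt (LP (LK LD1_c4 LD2_c57 LD3_c28)) = (LP (LK LD1_c5 LD2_c44 LD3_c11)) :=
  Lgr Lrot149 (Lpe (f174658 IH) (Lpe (K9.f174655 IH) (Lpr_bf (K9.f174647 IH) (Lpr_ct (K9.f174646 IH) (Lpe (K9.f174659 IH) (Lpe (K9.f174660 IH) (Lpr_bt (f174661 IH) (Lpe (K27.f174662 IH) (Lpe (K27.f172142 IH) (Lpr_ct (f172143 IH) (Lpn (LP (LK LD1_c5 LD2_c44 LD3_c11)))))))))))))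
theorem f161282 : Led Lsl_gt (LP (LK LD1_c2 LD2_c26 LD3_c37)) = (LP (LK LD1_c4 LD2_c57 LD3_c26)) :=
  Lre_g IH (LK LD1_c2 LD2_c26 LD3_c37) (LK LD1_c4 LD2_c57 LD3_c26) Lrfl Lrfl
theorem f384140 : Led Lsl_df (LP (LK LD1_c2 LD2_c44 LD3_c41)) = (LP (LK LD1_c4 LD2_c57 LD3_c26)) :=
  Lgr Lrot153 (Lpr_gt (K35.f165148 IH) (Lpr_dt (K27.f165140 IH) (Lpe (K20.f164991 IH) (Lpe (K20.f164992 IH) (Lpe (K20.f258320 IH) (Lpr_df (K27.f384132 IH) (Lpe (f174663 IH) (Lpe (f174658 IH) (Lpr_gt (f161282 IH) (Lpn (LP (LK LD1_c4 LD2_c57 LD3_c26))))))))))))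
theorem f384143 : Led Lsl_dt (LP (LK LD1_c2 LD2_c44 LD3_c41)) = (LP (LK LD1_c4 LD2_c57 LD3_c26)) :=
  Lgr Lrot42 (Lpr_df (f384140 IH) (Lpn (LP (LK LD1_c4 LD2_c57 LD3_c26))))
theorem f40771 : Led Lsl_gt (LP (LK LD1_c4 LD2_c57 LD3_c26)) = (LP (LK LD1_c2 LD2_c26 LD3_c42)) :=
  Lre_g IH (LK LD1_c4 LD2_c57 LD3_c26) (LK LD1_c2 LD2_c26 LD3_c42) Lrfl Lrfl
theorem f381982 : Led Lsl_dt (LP (LK LD1_c2 LD2_c26 LD3_c42)) = (LP (LK LD1_c1 LD2_c10 LD3_c37)) :=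
  Lre_d IH (LK LD1_c2 LD2_c26 LD3_c42) (LK LD1_c1 LD2_c10 LD3_c37) Lrfl Lrfl
theorem f171853 : Led Lsl_ct (LP (LK LD1_c0 LD2_c37 LD3_c7)) = (LP (LK LD1_c1 LD2_c10 LD3_c37)) :=
  Lre_c IH (LK LD1_c0 LD2_c37 LD3_c7) (LK LD1_c1 LD2_c10 LD3_c37) Lrfl Lrfl
theorem f384159 : Led Lsl_gf (LP (LK LD1_c2 LD2_c44 LD3_c41)) = (LP (LK LD1_c4 LD2_c31 LD3_c5)) :=
  Lgr Lrot144 (Lpr_dt (f384143 IH) (Lpr_gt (f40771 IH) (Lpr_dt (f381982 IH) (Lpe (f171853 IH) (Lpe (K30.f171854 IH) (Lpe (K27.f171855 IH) (Lpr_df (K27.f383963 IH) (Lpe (K27.f289385 IH) (Lpr_cf (K27.f211959 IH) (Lpn (LP (LK LD1_c4 LD2_c31 LD3_c5))))))))))))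
theorem f381407 : Led Lsl_ct (LP (LK LD1_c2 LD2_c44 LD3_c41)) = (LP (LK LD1_c5 LD2_c37 LD3_c28)) :=
  Lre_c IH (LK LD1_c2 LD2_c44 LD3_c41) (LK LD1_c5 LD2_c37 LD3_c28) Lrfl Lrfl
theorem f427671 : Led Lsl_df (LP (LK LD1_c7 LD2_c59 LD3_c33)) = (LP (LK LD1_c5 LD2_c37 LD3_c28)) :=
  Lgr Lrot162 (Lpr_cf (f422841 IH) (Lpe (f172373 IH) (Lpe (f172372 IH) (Lpe (K27.f40157 IH) (Lpe (f427509 IH) (Lpr_gt (K36.f427663 IH) (Lpr_ct (f211941 IH) (Lpe (f384159 IH) (Lpr_ct (f381407 IH) (Lpn (LP (LK LD1_c5 LD2_c37 LD3_c28))))))))))))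
theorem f319424 : Led Lsl_ct (LP (LK LD1_c0 LD2_c36 LD3_c17)) = (LP (LK LD1_c0 LD2_c42 LD3_c17)) :=
  Lgr Lrot152 (Lpr_gf (K20.f319414 IH) (Lpe (K9.f165210 IH) (Lpr_gt (K9.f172033 IH) (Lpr_ct (K9.f40747 IH) (Lpr_gt (K12.f173163 IH) (Lpr_ct (K12.f174595 IH) (Lpe (K9.f174597 IH) (Lpe (K9.f173180 IH) (Lpr_gf (K14.f253576 IH) (Lpn (LP (LK LD1_c0 LD2_c42 LD3_c17))))))))))))
theorem f319450 : Led Lsl_gt (LP (LK LD1_c1 LD2_c18 LD3_c43)) = (LP (LK LD1_c2 LD2_c44 LD3_c45)) :=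
  Lre_g IH (LK LD1_c1 LD2_c18 LD3_c43) (LK LD1_c2 LD2_c44 LD3_c45) Lrfl Lrfl
theorem f253574 : Led Lsl_gt (LP (LK LD1_c0 LD2_c24 LD3_c49)) = (LP (LK LD1_c0 LD2_c42 LD3_c17)) :=
  Lgr Lrot94 (Lpe (K9.f40793 IH) (Lpe (K12.f225153 IH) (Lpe (K12.f225933 IH) (Lpe (K12.f226018 IH) (Lpr_dt (K9.f172420 IH) (Lpe (K9.f172418 IH) (Lpe (K31.f183233 IH) (Lpr_gf (K14.f253570 IH) (Lpe (K14.f253558 IH) (Lpn (LP (LK LD1_c0 LD2_c42 LD3_c17))))))))))))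
theorem f402569 : Led Lsl_bf (LP (LK LD1_c2 LD2_c44 LD3_c45)) = (LP (LK LD1_c5 LD2_c37 LD3_c28)) :=
  Lgr Lrot34 (Lpe (f319450 IH) (Lpe (K36.f319441 IH) (Lpr_ct (f319424 IH) (Lpe (f253574 IH) (Lpe (K9.f40793 IH) (Lpr_gf (K10.f167784 IH) (Lpe (K18.f169329 IH) (Lpe (K17.f211990 IH) (Lpe (K35.f165148 IH) (Lpe (K35.f289410 IH) (Lpn (LP (LK LD1_c5 LD2_c37 LD3_c28)))))))))))))
theorem f402571 : Led Lsl_bt (LP (LK LD1_c2 LD2_c44 LD3_c45)) = (LP (LK LD1_c5 LD2_c37 LD3_c28)) :=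
  Lgr Lrot127 (Lpr_bf (f402569 IH) (Lpn (LP (LK LD1_c5 LD2_c37 LD3_c28))))
theorem f427676 : Led Lsl_dt (LP (LK LD1_c3 LD2_c59 LD3_c6)) = (LP (LK LD1_c2 LD2_c44 LD3_c45)) :=
  Lgr Lrot79 (Lpe (f40206 IH) (Lpr_df (f427671 IH) (Lpe (f402571 IH) (Lpn (LP (LK LD1_c2 LD2_c44 LD3_c45))))))
theorem f427679 : Led Lsl_df (LP (LK LD1_c3 LD2_c59 LD3_c6)) = (LP (LK LD1_c2 LD2_c44 LD3_c45)) :=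
  Lgr Lrot38 (Lpr_dt (f427676 IH) (Lpn (LP (LK LD1_c2 LD2_c44 LD3_c45))))
theorem f402573 : Led Lsl_et (LP (LK LD1_c2 LD2_c44 LD3_c45)) = (LP (LK LD1_c5 LD2_c37 LD3_c37)) :=
  Lre_e IH (LK LD1_c2 LD2_c44 LD3_c45) (LK LD1_c5 LD2_c37 LD3_c37) Lrfl Lrfl
theorem f450205 : Led Lsl_et (LP (LK LD1_c3 LD2_c5 LD3_c39)) = (LP (LK LD1_c6 LD2_c17 LD3_c1)) :=
  Lre_e IH (LK LD1_c3 LD2_c5 LD3_c39) (LK LD1_c6 LD2_c17 LD3_c1) Lrfl Lrfl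
theorem f548962 : Led Lsl_gt (LP (LK LD1_c5 LD2_c37 LD3_c37)) = (LP (LK LD1_c6 LD2_c17 LD3_c1)) :=
  Lgr Lrot131 (Lpe (f402573 IH) (Lpe (f427679 IH) (Lpe (K30.f41052 IH) (Lpe (K30.f172368 IH) (Lpe (K36.f149994 IH) (Lpe (f100562 IH) (Lpr_dt (f548951 IH) (Lpe (f450460 IH) (Lpe (f450204 IH) (Lpr_et (f450205 IH) (Lpn (LP (LK LD1_c6 LD2_c17 LD3_c1)))))))))))))
theorem f450259 : Led Lsl_at (LP (LK LD1_c3 LD2_c5 LD3_c41)) = (LP (LK LD1_c6 LD2_c17 LD3_c1)) :=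
  Lre_a IH (LK LD1_c3 LD2_c5 LD3_c41) (LK LD1_c6 LD2_c17 LD3_c1) Lrfl Lrfl
theorem f176675 : Led Lsl_bt (LP (LK LD1_c1 LD2_c21 LD3_c20)) = (LP (LK LD1_c0 LD2_c37 LD3_c32)) :=
  Lre_b IH (LK LD1_c1 LD2_c21 LD3_c20) (LK LD1_c0 LD2_c37 LD3_c32) Lrfl Lrfl
theorem f450156 : Led Lsl_at (LP (LK LD1_c2 LD2_c50 LD3_c40)) = (LP (LK LD1_c1 LD2_c21 LD3_c20)) :=
  Lre_a IH (LK LD1_c2 LD2_c50 LD3_c40) (LK LD1_c1 LD2_c21 LD3_c20) Lrfl Lrfl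
theorem f450157 : Led Lsl_bt (LP (LK LD1_c3 LD2_c5 LD3_c43)) = (LP (LK LD1_c2 LD2_c50 LD3_c40)) :=
  Lgr Lrot62 (Lpe (f421022 IH) (Lpe (f59028 IH) (Lpr_af (K37.f450141 IH) (Lpe (f176675 IH) (Lpe (f450156 IH) (Lpn (LP (LK LD1_c2 LD2_c50 LD3_c40))))))))
theorem f450245 : Led Lsl_bt (LP (LK LD1_c3 LD2_c5 LD3_c39)) = (LP (LK LD1_c2 LD2_c50 LD3_c36)) :=
  Lgr Lrot35 (Lpr_ff (K37.f450233 IH) (Lpe (f450157 IH) (Lpr_ff (f450111 IH) (Lpn (LP (LK LD1_c2 LD2_c50 LD3_c36))))))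
theorem f450232 : Led Lsl_et (LP (LK LD1_c6 LD2_c17 LD3_c1)) = (LP (LK LD1_c3 LD2_c5 LD3_c39)) :=
  Lre_e IH (LK LD1_c6 LD2_c17 LD3_c1) (LK LD1_c3 LD2_c5 LD3_c39) Lrfl Lrfl
theorem f171793 : Led Lsl_bt (LP (LK LD1_c0 LD2_c37 LD3_c31)) = (LP (LK LD1_c1 LD2_c21 LD3_c18)) :=
  Lre_b IH (LK LD1_c0 LD2_c37 LD3_c31) (LK LD1_c1 LD2_c21 LD3_c18) Lrfl Lrfl
theorem f24525 : Led Lsl_bt (LP (LK LD1_c2 LD2_c45 LD3_c9)) = (LP (LK LD1_c1 LD2_c18 LD3_c51)) :=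
  Lre_b IH (LK LD1_c2 LD2_c45 LD3_c9) (LK LD1_c1 LD2_c18 LD3_c51) Lrfl Lrfl
theorem f171794 : Led Lsl_et (LP (LK LD1_c1 LD2_c21 LD3_c18)) = (LP (LK LD1_c2 LD2_c45 LD3_c9)) :=
  Lgr Lrot74 (Lpe (f171793 IH) (Lpr_ef (K12.f171790 IH) (Lpe (f24525 IH) (Lpn (LP (LK LD1_c2 LD2_c45 LD3_c9))))))
theorem f24547 : Led Lsl_at (LP (LK LD1_c2 LD2_c45 LD3_c9)) = (LP (LK LD1_c5 LD2_c38 LD3_c35)) :=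
  Lre_a IH (LK LD1_c2 LD2_c45 LD3_c9) (LK LD1_c5 LD2_c38 LD3_c35) Lrfl Lrfl
theorem f171797 : Led Lsl_ef (LP (LK LD1_c2 LD2_c50 LD3_c36)) = (LP (LK LD1_c5 LD2_c38 LD3_c35)) :=
  Lgr Lrot20 (Lpr_at (f171796 IH) (Lpr_et (f171794 IH) (Lpr_at (f24547 IH) (Lpn (LP (LK LD1_c5 LD2_c38 LD3_c35))))))
theorem f171804 : Led Lsl_et (LP (LK LD1_c2 LD2_c50 LD3_c36)) = (LP (LK LD1_c5 LD2_c38 LD3_c35)) :=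
  Lgr Lrot87 (Lpr_ef (f171797 IH) (Lpn (LP (LK LD1_c5 LD2_c38 LD3_c35))))
theorem f450252 : Led Lsl_bf (LP (LK LD1_c6 LD2_c17 LD3_c1)) = (LP (LK LD1_c5 LD2_c38 LD3_c35)) :=
  Lgr Lrot96 (Lpr_et (f450232 IH) (Lpr_bt (f450245 IH) (Lpr_et (f171804 IH) (Lpn (LP (LK LD1_c5 LD2_c38 LD3_c35))))))
theorem f450257 : Led Lsl_bt (LP (LK LD1_c6 LD2_c17 LD3_c1)) = (LP (LK LD1_c5 LD2_c38 LD3_c35)) :=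
  Lgr Lrot127 (Lpr_bf (f450252 IH) (Lpn (LP (LK LD1_c5 LD2_c38 LD3_c35))))
theorem f186471 : Led Lsl_bt (LP (LK LD1_c1 LD2_c28 LD3_c53)) = (LP (LK LD1_c3 LD2_c5 LD3_c41)) :=
  Lre_b IH (LK LD1_c1 LD2_c28 LD3_c53) (LK LD1_c3 LD2_c5 LD3_c41) Lrfl Lrfl
theorem f24540 : Led Lsl_at (LP (LK LD1_c5 LD2_c38 LD3_c35)) = (LP (LK LD1_c2 LD2_c45 LD3_c9)) :=
  Lre_a IH (LK LD1_c5 LD2_c38 LD3_c35) (LK LD1_c2 LD2_c45 LD3_c9) Lrfl Lrfl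
theorem f450260 : Led Lsl_af (LP (LK LD1_c1 LD2_c28 LD3_c53)) = (LP (LK LD1_c1 LD2_c18 LD3_c51)) :=
  Lgr Lrot36 (Lpr_bt (f186471 IH) (Lpr_at (f450259 IH) (Lpr_bt (f450257 IH) (Lpr_at (f24540 IH) (Lpr_bt (f24525 IH) (Lpn (LP (LK LD1_c1 LD2_c18 LD3_c51))))))))
theorem f450264 : Led Lsl_ft (LP (LK LD1_c2 LD2_c12 LD3_c33)) = (LP (LK LD1_c1 LD2_c18 LD3_c51)) :=
  Lgr Lrot2 (Lpr_gt (K12.f20727 IH) (Lpe (K12.f227770 IH) (Lpr_af (f450260 IH) (Lpn (LP (LK LD1_c1 LD2_c18 LD3_c51))))))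
theorem f450274 : Led Lsl_ff (LP (LK LD1_c2 LD2_c12 LD3_c33)) = (LP (LK LD1_c1 LD2_c18 LD3_c51)) :=
  Lgr Lrot3 (Lpr_ft (f450264 IH) (Lpn (LP (LK LD1_c1 LD2_c18 LD3_c51))))
theorem f450282 : Led Lsl_at (LP (LK LD1_c2 LD2_c12 LD3_c33)) = (LP (LK LD1_c1 LD2_c18 LD3_c52)) :=
  Lgr Lrot26 (Lpr_ff (f450274 IH) (Lpe (K12.f211682 IH) (Lpr_gt (K12.f211742 IH) (Lpn (LP (LK LD1_c1 LD2_c18 LD3_c52))))))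
theorem f450254 : Led Lsl_at (LP (LK LD1_c6 LD2_c17 LD3_c1)) = (LP (LK LD1_c3 LD2_c5 LD3_c41)) :=
  Lre_a IH (LK LD1_c6 LD2_c17 LD3_c1) (LK LD1_c3 LD2_c5 LD3_c41) Lrfl Lrfl
theorem f210319 : Led Lsl_bt (LP (LK LD1_c3 LD2_c5 LD3_c41)) = (LP (LK LD1_c1 LD2_c28 LD3_c53)) :=
  Lre_b IH (LK LD1_c3 LD2_c5 LD3_c41) (LK LD1_c1 LD2_c28 LD3_c53) Lrfl Lrfl
theorem f450255 : Led Lsl_at (LP (LK LD1_c1 LD2_c28 LD3_c53)) = (LP (LK LD1_c1 LD2_c18 LD3_c51)) :=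
  Lgr Lrot67 (Lpe (f210319 IH) (Lpe (f450254 IH) (Lpr_bf (f450252 IH) (Lpe (f24547 IH) (Lpe (f24536 IH) (Lpn (LP (LK LD1_c1 LD2_c18 LD3_c51))))))))
theorem f450292 : Led Lsl_ff (LP (LK LD1_c1 LD2_c28 LD3_c53)) = (LP (LK LD1_c1 LD2_c18 LD3_c52)) :=
  Lgr Lrot30 (Lpr_at (f450255 IH) (Lpe (f450274 IH) (Lpr_at (f450282 IH) (Lpn (LP (LK LD1_c1 LD2_c18 LD3_c52))))))
theorem f450298 : Led Lsl_ft (LP (LK LD1_c1 LD2_c28 LD3_c53)) = (LP (LK LD1_c1 LD2_c18 LD3_c52)) :=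
  Lgr Lrot48 (Lpr_ff (f450292 IH) (Lpn (LP (LK LD1_c1 LD2_c18 LD3_c52))))
theorem f211726 : Led Lsl_bt (LP (LK LD1_c1 LD2_c18 LD3_c52)) = (LP (LK LD1_c2 LD2_c45 LD3_c10)) :=
  Lre_b IH (LK LD1_c1 LD2_c18 LD3_c52) (LK LD1_c2 LD2_c45 LD3_c10) Lrfl Lrfl
theorem f450300 : Led Lsl_ff (LP (LK LD1_c3 LD2_c5 LD3_c41)) = (LP (LK LD1_c2 LD2_c45 LD3_c10)) :=
  Lgr Lrot25 (Lpr_bt (f210319 IH) (Lpr_ft (f450298 IH) (Lpr_bt (f211726 IH) (Lpn (LP (LK LD1_c2 LD2_c45 LD3_c10))))))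
theorem f548970 : Led Lsl_gf (LP (LK LD1_c5 LD2_c37 LD3_c37)) = (LP (LK LD1_c2 LD2_c45 LD3_c10)) :=
  Lgr Lrot47 (Lpr_gt (f548962 IH) (Lpe (f450259 IH) (Lpr_ff (f450300 IH) (Lpn (LP (LK LD1_c2 LD2_c45 LD3_c10))))))
theorem f100551 : Led Lsl_dt (LP (LK LD1_c3 LD2_c58 LD3_c56)) = (LP (LK LD1_c7 LD2_c59 LD3_c8)) :=
  Lre_d IH (LK LD1_c3 LD2_c58 LD3_c56) (LK LD1_c7 LD2_c59 LD3_c8) Lrfl Lrfl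
theorem f100553 : Led Lsl_gt (LP (LK LD1_c6 LD2_c13 LD3_c19)) = (LP (LK LD1_c3 LD2_c3 LD3_c29)) :=
  Lre_g IH (LK LD1_c6 LD2_c13 LD3_c19) (LK LD1_c3 LD2_c3 LD3_c29) Lrfl Lrfl
theorem f100554 : Led Lsl_dt (LP (LK LD1_c3 LD2_c3 LD3_c29)) = (LP (LK LD1_c6 LD2_c13 LD3_c24)) :=
  Lre_d IH (LK LD1_c3 LD2_c3 LD3_c29) (LK LD1_c6 LD2_c13 LD3_c24) Lrfl Lrfl
theorem f172131 : Led Lsl_ct (LP (LK LD1_c1 LD2_c27 LD3_c39)) = (LP (LK LD1_c3 LD2_c3 LD3_c17)) :=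
  Lre_c IH (LK LD1_c1 LD2_c27 LD3_c39) (LK LD1_c3 LD2_c3 LD3_c17) Lrfl Lrfl
theorem f99563 : Led Lsl_gt (LP (LK LD1_c3 LD2_c3 LD3_c29)) = (LP (LK LD1_c1 LD2_c27 LD3_c39)) :=
  Lre_g IH (LK LD1_c3 LD2_c3 LD3_c29) (LK LD1_c1 LD2_c27 LD3_c39) Lrfl Lrfl
theorem f202655 : Led Lsl_ct (LP (LK LD1_c9 LD2_c9 LD3_c3)) = (LP (LK LD1_c4 LD2_c36 LD3_c28)) :=
  Lre_c IH (LK LD1_c9 LD2_c9 LD3_c3) (LK LD1_c4 LD2_c36 LD3_c28) Lrfl Lrfl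
theorem f547124 : Led Lsl_gt (LP (LK LD1_c6 LD2_c13 LD3_c24)) = (LP (LK LD1_c5 LD2_c52 LD3_c35)) :=
  Lgr Lrot9 (Lpe (f100554 IH) (Lpr_gt (f99563 IH) (Lpr_ct (f172131 IH) (Lpr_gt (f547116 IH) (Lpr_ct (f71227 IH) (Lpe (K11.f71229 IH) (Lpe (f202655 IH) (Lpe (K35.f536426 IH) (Lpe (K35.f452808 IH) (Lpn (LP (LK LD1_c5 LD2_c52 LD3_c35))))))))))))
theorem f418984 : Led Lsl_et (LP (LK LD1_c5 LD2_c38 LD3_c38)) = (LP (LK LD1_c2 LD2_c45 LD3_c10)) :=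
  Lre_e IH (LK LD1_c5 LD2_c38 LD3_c38) (LK LD1_c2 LD2_c45 LD3_c10) Lrfl Lrfl
theorem f548974 : Led Lsl_df (LP (LK LD1_c5 LD2_c52 LD3_c35)) = (LP (LK LD1_c5 LD2_c38 LD3_c38)) :=
  Lgr Lrot132 (Lpe (f547124 IH) (Lpe (f100554 IH) (Lpe (f100553 IH) (Lpe (K7.f100533 IH) (Lpr_dt (f100551 IH) (Lpe (f40205 IH) (Lpr_df (f427679 IH) (Lpr_et (f402573 IH) (Lpr_gf (f548970 IH) (Lpe (f418984 IH) (Lpn (LP (LK LD1_c5 LD2_c38 LD3_c38)))))))))))))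
theorem f450302 : Led Lsl_ff (LP (LK LD1_c1 LD2_c21 LD3_c22)) = (LP (LK LD1_c2 LD2_c45 LD3_c11)) :=
  Lgr Lrot72 (Lpr_et (K10.f56688 IH) (Lpe (K37.f450171 IH) (Lpr_et (K12.f227769 IH) (Lpr_ft (f450298 IH) (Lpr_et (K12.f211733 IH) (Lpn (LP (LK LD1_c2 LD2_c45 LD3_c11))))))))
theorem f176627 : Led Lsl_bt (LP (LK LD1_c1 LD2_c21 LD3_c22)) = (LP (LK LD1_c2 LD2_c50 LD3_c43)) :=
  Lre_b IH (LK LD1_c1 LD2_c21 LD3_c22) (LK LD1_c2 LD2_c50 LD3_c43) Lrfl Lrfl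
theorem f211732 : Led Lsl_bt (LP (LK LD1_c5 LD2_c38 LD3_c38)) = (LP (LK LD1_c2 LD2_c45 LD3_c11)) :=
  Lre_b IH (LK LD1_c5 LD2_c38 LD3_c38) (LK LD1_c2 LD2_c45 LD3_c11) Lrfl Lrfl
theorem f450304 : Led Lsl_ft (LP (LK LD1_c2 LD2_c50 LD3_c43)) = (LP (LK LD1_c5 LD2_c38 LD3_c38)) :=
  Lgr Lrot75 (Lpe (f176627 IH) (Lpr_ff (f450302 IH) (Lpe (f211732 IH) (Lpn (LP (LK LD1_c5 LD2_c38 LD3_c38))))))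
theorem f176689 : Led Lsl_dt (LP (LK LD1_c5 LD2_c49 LD3_c19)) = (LP (LK LD1_c2 LD2_c50 LD3_c43)) :=
  Lre_d IH (LK LD1_c5 LD2_c49 LD3_c19) (LK LD1_c2 LD2_c50 LD3_c43) Lrfl Lrfl
theorem f548981 : Led Lsl_ft (LP (LK LD1_c5 LD2_c52 LD3_c35)) = (LP (LK LD1_c5 LD2_c49 LD3_c19)) :=
  Lgr Lrot54 (Lpr_df (f548974 IH) (Lpe (f450304 IH) (Lpe (f176689 IH) (Lpn (LP (LK LD1_c5 LD2_c49 LD3_c19))))))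
theorem f548993 : Led Lsl_ff (LP (LK LD1_c5 LD2_c52 LD3_c35)) = (LP (LK LD1_c5 LD2_c49 LD3_c19)) :=
  Lgr Lrot3 (Lpr_ft (f548981 IH) (Lpn (LP (LK LD1_c5 LD2_c49 LD3_c19))))
def v1600 : LQ := Led Lsl_at (LP (LK LD1_c1 LD2_c22 LD3_c20))
theorem f500294 : Led Lsl_at (LP (LK LD1_c1 LD2_c22 LD3_c20)) = v1600 :=
  Lrfl
theorem f437294 : Led Lsl_dt (LP (LK LD1_c0 LD2_c38 LD3_c9)) = (LP (LK LD1_c1 LD2_c22 LD3_c20)) :=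
  Lre_d IH (LK LD1_c0 LD2_c38 LD3_c9) (LK LD1_c1 LD2_c22 LD3_c20) Lrfl Lrfl
theorem f152022 : Led Lsl_et (LP (LK LD1_c0 LD2_c38 LD3_c9)) = (LP (LK LD1_c0 LD2_c16 LD3_c61)) :=
  Lre_e IH (LK LD1_c0 LD2_c38 LD3_c9) (LK LD1_c0 LD2_c16 LD3_c61) Lrfl Lrfl
theorem f452781 : Led Lsl_af (LP (LK LD1_c0 LD2_c38 LD3_c9)) = K35.v429 :=
  Lgr Lrot50 (Lpr_et (f152022 IH) (Lpr_at (K7.f151811 IH) (Lpr_et (K35.f452780 IH) (Lpn K35.v429))))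
theorem f500297 : Led Lsl_df K35.v429 = v1600 :=
  Lgr Lrot18 (Lpe (f452781 IH) (Lpr_dt (f437294 IH) (Lpr_at (f500294 IH) (Lpn v1600))))
theorem f500299 : Led Lsl_bt (LP (LK LD1_c4 LD2_c34 LD3_c51)) = v1600 :=
  Lgr Lrot95 (Lpe (K7.f20356 IH) (Lpr_bf (K35.f452782 IH) (Lpr_df (f500297 IH) (Lpn v1600))))
theorem f500300 : Led Lsl_dt K35.v429 = v1600 :=
  Lgr Lrot42 (Lpr_df (f500297 IH) (Lpn v1600))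
theorem f537706 : v1600 = (LP (LK LD1_c2 LD2_c16 LD3_c45)) :=
  Lefun (Lecon (f500300 IH) (K35.f537327 IH).symm) (K10.f176617 IH)
theorem f176608 : Led Lsl_bt (LP (LK LD1_c5 LD2_c49 LD3_c19)) = (LP (LK LD1_c2 LD2_c50 LD3_c45)) :=
  Lre_b IH (LK LD1_c5 LD2_c49 LD3_c19) (LK LD1_c2 LD2_c50 LD3_c45) Lrfl Lrfl
theorem f71113 : Led Lsl_gt (LP (LK LD1_c4 LD2_c36 LD3_c25)) = (LP (LK LD1_c9 LD2_c8 LD3_c22)) :=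
  Lre_g IH (LK LD1_c4 LD2_c36 LD3_c25) (LK LD1_c9 LD2_c8 LD3_c22) Lrfl Lrfl
theorem f202301 : Led Lsl_ct (LP (LK LD1_c9 LD2_c8 LD3_c22)) = (LP (LK LD1_c17 LD2_c0 LD3_c54)) :=
  Lre_c IH (LK LD1_c9 LD2_c8 LD3_c22) (LK LD1_c17 LD2_c0 LD3_c54) Lrfl Lrfl
theorem f202302 : Led Lsl_gt (LP (LK LD1_c17 LD2_c0 LD3_c54)) = (LP (LK LD1_c9 LD2_c9 LD3_c1)) :=
  Lre_g IH (LK LD1_c17 LD2_c0 LD3_c54) (LK LD1_c9 LD2_c9 LD3_c1) Lrfl Lrfl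
theorem f548651 : Led Lsl_ct (LP (LK LD1_c5 LD2_c49 LD3_c19)) = (LP (LK LD1_c9 LD2_c9 LD3_c1)) :=
  Lgr Lrot63 (Lpr_bt (f176608 IH) (Lpe (K10.f176609 IH) (Lpq (f537706 IH) (Lpe (f500299 IH) (Lpr_ct (K7.f20355 IH) (Lpr_gt (f500303 IH) (Lpr_cf (f548634 IH) (Lpr_bt (f494420 IH) (Lpr_gt (f71113 IH) (Lpr_ct (f202301 IH) (Lpr_gt (f202302 IH) (Lpn (LP (LK LD1_c9 LD2_c9 LD3_c1))))))))))))))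
theorem f548656 : Led Lsl_cf (LP (LK LD1_c5 LD2_c49 LD3_c19)) = (LP (LK LD1_c9 LD2_c9 LD3_c1)) :=
  Lgr Lrot11 (Lpr_ct (f548651 IH) (Lpn (LP (LK LD1_c9 LD2_c9 LD3_c1))))
theorem f549000 : Led Lsl_ft (LP (LK LD1_c11 LD2_c31 LD3_c39)) = (LP (LK LD1_c9 LD2_c9 LD3_c1)) :=
  Lgr Lrot4 (Lpe (K35.f452808 IH) (Lpr_ff (f548993 IH) (Lpr_cf (f548656 IH) (Lpn (LP (LK LD1_c9 LD2_c9 LD3_c1))))))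
theorem f536437 : Led Lsl_dt (LP (LK LD1_c11 LD2_c31 LD3_c39)) = (LP (LK LD1_c20 LD2_c28 LD3_c14)) :=
  Lre_d IH (LK LD1_c11 LD2_c31 LD3_c39) (LK LD1_c20 LD2_c28 LD3_c14) Lrfl Lrfl
theorem f536445 : Led Lsl_ct (LP (LK LD1_c20 LD2_c28 LD3_c14)) = (LP (LK LD1_c29 LD2_c27 LD3_c50)) :=
  Lre_c IH (LK LD1_c20 LD2_c28 LD3_c14) (LK LD1_c29 LD2_c27 LD3_c50) Lrfl Lrfl
theorem f450376 : Led Lsl_ff (LP (LK LD1_c2 LD2_c50 LD3_c43)) = (LP (LK LD1_c5 LD2_c38 LD3_c38)) :=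
  Lgr Lrot3 (Lpr_ft (f450304 IH) (Lpn (LP (LK LD1_c5 LD2_c38 LD3_c38))))
theorem f547111 : Led Lsl_cf (LP (LK LD1_c5 LD2_c49 LD3_c11)) = (LP (LK LD1_c6 LD2_c14 LD3_c47)) :=
  Lgr Lrot11 (Lpr_ct (f547108 IH) (Lpn (LP (LK LD1_c6 LD2_c14 LD3_c47))))
theorem f424554 : Led Lsl_ct (LP (LK LD1_c21 LD2_c14 LD3_c12)) = (LP (LK LD1_c12 LD2_c7 LD3_c49)) :=
  Lre_c IH (LK LD1_c21 LD2_c14 LD3_c12) (LK LD1_c12 LD2_c7 LD3_c49) Lrfl Lrfl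
theorem f548983 : Led Lsl_dt (LP (LK LD1_c29 LD2_c27 LD3_c50)) = (LP (LK LD1_c21 LD2_c14 LD3_c12)) :=
  Lgr Lrot140 (Lpe (f536445 IH) (Lpe (f536437 IH) (Lpe (K35.f452808 IH) (Lpr_df (f548974 IH) (Lpe (f450376 IH) (Lpr_at (f450370 IH) (Lpr_cf (f547111 IH) (Lpe (f424557 IH) (Lpe (f424554 IH) (Lpn (LP (LK LD1_c21 LD2_c14 LD3_c12))))))))))))
theorem f202656 : Led Lsl_gt (LP (LK LD1_c9 LD2_c9 LD3_c3)) = (LP (LK LD1_c17 LD2_c0 LD3_c51)) :=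
  Lre_g IH (LK LD1_c9 LD2_c9 LD3_c3) (LK LD1_c17 LD2_c0 LD3_c51) Lrfl Lrfl
theorem f549006 : Led Lsl_af (LP (LK LD1_c17 LD2_c0 LD3_c51)) = (LP (LK LD1_c9 LD2_c9 LD3_c1)) :=
  Lgr Lrot31 (Lpe (f202656 IH) (Lpe (K35.f536426 IH) (Lpr_ft (f549000 IH) (Lpn (LP (LK LD1_c9 LD2_c9 LD3_c1))))))
theorem f549008 : Led Lsl_ct (LP (LK LD1_c11 LD2_c27 LD3_c33)) = (LP (LK LD1_c17 LD2_c0 LD3_c51)) :=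
  Lgr Lrot98 (Lpe (f450365 IH) (Lpr_cf (f547111 IH) (Lpe (f424557 IH) (Lpe (f424554 IH) (Lpe (f548983 IH) (Lpe (f536445 IH) (Lpe (f536437 IH) (Lpr_ft (f549000 IH) (Lpe (f549006 IH) (Lpn (LP (LK LD1_c17 LD2_c0 LD3_c51))))))))))))
theorem f101592 : Led Lsl_dt (LP (LK LD1_c6 LD2_c13 LD3_c21)) = (LP (LK LD1_c3 LD2_c3 LD3_c28)) :=
  Lre_d IH (LK LD1_c6 LD2_c13 LD3_c21) (LK LD1_c3 LD2_c3 LD3_c28) Lrfl Lrfl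
theorem f100552 : Led Lsl_gt (LP (LK LD1_c3 LD2_c3 LD3_c28)) = (LP (LK LD1_c6 LD2_c13 LD3_c19)) :=
  Lre_g IH (LK LD1_c3 LD2_c3 LD3_c28) (LK LD1_c6 LD2_c13 LD3_c19) Lrfl Lrfl
theorem f72069 : Led Lsl_gt (LP (LK LD1_c17 LD2_c0 LD3_c51)) = (LP (LK LD1_c9 LD2_c8 LD3_c21)) :=
  Lre_g IH (LK LD1_c17 LD2_c0 LD3_c51) (LK LD1_c9 LD2_c8 LD3_c21) Lrfl Lrfl
theorem f72072 : Led Lsl_ct (LP (LK LD1_c9 LD2_c8 LD3_c21)) = (LP (LK LD1_c4 LD2_c36 LD3_c3)) :=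
  Lre_c IH (LK LD1_c9 LD2_c8 LD3_c21) (LK LD1_c4 LD2_c36 LD3_c3) Lrfl Lrfl
theorem f71219 : Led Lsl_dt (LP (LK LD1_c2 LD2_c15 LD3_c13)) = (LP (LK LD1_c4 LD2_c36 LD3_c3)) :=
  Lre_d IH (LK LD1_c2 LD2_c15 LD3_c13) (LK LD1_c4 LD2_c36 LD3_c3) Lrfl Lrfl
theorem f71978 : Led Lsl_ct (LP (LK LD1_c4 LD2_c35 LD3_c61)) = (LP (LK LD1_c2 LD2_c15 LD3_c13)) :=
  Lre_c IH (LK LD1_c4 LD2_c35 LD3_c61) (LK LD1_c2 LD2_c15 LD3_c13) Lrfl Lrfl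
theorem f82181 : Led Lsl_ct (LP (LK LD1_c1 LD2_c23 LD3_c13)) = (LP (LK LD1_c0 LD2_c38 LD3_c32)) :=
  Lre_c IH (LK LD1_c1 LD2_c23 LD3_c13) (LK LD1_c0 LD2_c38 LD3_c32) Lrfl Lrfl
theorem f82184 : Led Lsl_bt (LP (LK LD1_c2 LD2_c54 LD3_c47)) = (LP (LK LD1_c5 LD2_c56 LD3_c61)) :=
  Lre_b IH (LK LD1_c2 LD2_c54 LD3_c47) (LK LD1_c5 LD2_c56 LD3_c61) Lrfl Lrfl
theorem f418472 : Led Lsl_gf (LP (LK LD1_c5 LD2_c56 LD3_c61)) = (LP (LK LD1_c4 LD2_c36 LD3_c13)) :=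
  Lgr Lrot124 (Lpe (f82184 IH) (Lpr_ct (K37.f82183 IH) (Lpr_gt (K37.f82182 IH) (Lpe (f82181 IH) (Lpe (K2.f82146 IH) (Lpr_gt (K18.f56075 IH) (Lpr_ct (K18.f227828 IH) (Lpr_gt (K11.f35655 IH) (Lpe (K1.f27253 IH) (Lpe (f71475 IH) (Lpn (LP (LK LD1_c4 LD2_c36 LD3_c13)))))))))))))
theorem f418474 : Led Lsl_ft (LP (LK LD1_c4 LD2_c36 LD3_c13)) = (LP (LK LD1_c2 LD2_c15 LD3_c17)) :=
  Lre_f IH (LK LD1_c4 LD2_c36 LD3_c13) (LK LD1_c2 LD2_c15 LD3_c17) Lrfl Lrfl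
theorem f418475 : Led Lsl_at (LP (LK LD1_c2 LD2_c15 LD3_c17)) = (LP (LK LD1_c4 LD2_c35 LD3_c61)) :=
  Lre_a IH (LK LD1_c2 LD2_c15 LD3_c17) (LK LD1_c4 LD2_c35 LD3_c61) Lrfl Lrfl
theorem f418476 : Led Lsl_gt (LP (LK LD1_c5 LD2_c56 LD3_c61)) = (LP (LK LD1_c4 LD2_c35 LD3_c61)) :=
  Lgr Lrot46 (Lpr_gf (f418472 IH) (Lpr_ft (f418474 IH) (Lpr_at (f418475 IH) (Lpn (LP (LK LD1_c4 LD2_c35 LD3_c61))))))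
theorem f549014 : Led Lsl_ct (LP (LK LD1_c6 LD2_c13 LD3_c19)) = (LP (LK LD1_c5 LD2_c56 LD3_c61)) :=
  Lgr Lrot152 (Lpe (f100552 IH) (Lpe (f101592 IH) (Lpr_gt (f546839 IH) (Lpr_ct (f549008 IH) (Lpr_gt (f72069 IH) (Lpr_ct (f72072 IH) (Lpe (f71219 IH) (Lpe (f71978 IH) (Lpe (f418476 IH) (Lpn (LP (LK LD1_c5 LD2_c56 LD3_c61))))))))))))
theorem f100557 : Led Lsl_dt (LP (LK LD1_c12 LD2_c5 LD3_c30)) = (LP (LK LD1_c6 LD2_c13 LD3_c19)) :=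
  Lre_d IH (LK LD1_c12 LD2_c5 LD3_c30) (LK LD1_c6 LD2_c13 LD3_c19) Lrfl Lrfl
theorem f100481 : Led Lsl_ft (LP (LK LD1_c12 LD2_c5 LD3_c30)) = (LP (LK LD1_c6 LD2_c13 LD3_c18)) :=
  Lre_f IH (LK LD1_c12 LD2_c5 LD3_c30) (LK LD1_c6 LD2_c13 LD3_c18) Lrfl Lrfl
theorem f101584 : Led Lsl_ct (LP (LK LD1_c6 LD2_c13 LD3_c27)) = (LP (LK LD1_c3 LD2_c3 LD3_c30)) :=
  Lre_c IH (LK LD1_c6 LD2_c13 LD3_c27) (LK LD1_c3 LD2_c3 LD3_c30) Lrfl Lrfl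
theorem f186451 : Led Lsl_dt (LP (LK LD1_c12 LD2_c5 LD3_c44)) = (LP (LK LD1_c6 LD2_c13 LD3_c27)) :=
  Lre_d IH (LK LD1_c12 LD2_c5 LD3_c44) (LK LD1_c6 LD2_c13 LD3_c27) Lrfl Lrfl
theorem f549020 : Led Lsl_ct (LP (LK LD1_c21 LD2_c11 LD3_c31)) = (LP (LK LD1_c12 LD2_c5 LD3_c44)) :=
  Lre_c IH (LK LD1_c21 LD2_c11 LD3_c31) (LK LD1_c12 LD2_c5 LD3_c44) Lrfl Lrfl
theorem f418478 : Led Lsl_dt (LP (LK LD1_c5 LD2_c56 LD3_c61)) = (LP (LK LD1_c11 LD2_c39 LD3_c18)) :=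
  Lre_d IH (LK LD1_c5 LD2_c56 LD3_c61) (LK LD1_c11 LD2_c39 LD3_c18) Lrfl Lrfl
theorem f418479 : Led Lsl_ct (LP (LK LD1_c11 LD2_c39 LD3_c18)) = (LP (LK LD1_c20 LD2_c38 LD3_c49)) :=
  Lre_c IH (LK LD1_c11 LD2_c39 LD3_c18) (LK LD1_c20 LD2_c38 LD3_c49) Lrfl Lrfl
theorem f549021 : Led Lsl_df (LP (LK LD1_c21 LD2_c11 LD3_c31)) = (LP (LK LD1_c20 LD2_c38 LD3_c49)) :=
  Lgr Lrot13 (Lpr_ct (f549020 IH) (Lpr_dt (f186451 IH) (Lpr_ct (f101584 IH) (Lpe (K9.f100458 IH) (Lpe (f100481 IH) (Lpr_dt (f100557 IH) (Lpr_ct (f549014 IH) (Lpr_dt (f418478 IH) (Lpr_ct (f418479 IH) (Lpn (LP (LK LD1_c20 LD2_c38 LD3_c49))))))))))))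
theorem f549026 : Led Lsl_dt (LP (LK LD1_c21 LD2_c11 LD3_c31)) = (LP (LK LD1_c20 LD2_c38 LD3_c49)) :=
  Lgr Lrot42 (Lpr_df (f549021 IH) (Lpn (LP (LK LD1_c20 LD2_c38 LD3_c49))))
theorem f418480 : Led Lsl_ct (LP (LK LD1_c20 LD2_c38 LD3_c49)) = (LP (LK LD1_c11 LD2_c39 LD3_c18)) :=
  Lre_c IH (LK LD1_c20 LD2_c38 LD3_c49) (LK LD1_c11 LD2_c39 LD3_c18) Lrfl Lrfl
theorem f418483 : Led Lsl_dt (LP (LK LD1_c11 LD2_c39 LD3_c18)) = (LP (LK LD1_c5 LD2_c56 LD3_c61)) :=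
  Lre_d IH (LK LD1_c11 LD2_c39 LD3_c18) (LK LD1_c5 LD2_c56 LD3_c61) Lrfl Lrfl
theorem f549016 : Led Lsl_cf (LP (LK LD1_c6 LD2_c13 LD3_c19)) = (LP (LK LD1_c5 LD2_c56 LD3_c61)) :=
  Lgr Lrot11 (Lpr_ct (f549014 IH) (Lpn (LP (LK LD1_c5 LD2_c56 LD3_c61))))
theorem f549695 : Led Lsl_cf (LP (LK LD1_c20 LD2_c29 LD3_c20)) = (LP (LK LD1_c12 LD2_c5 LD3_c30)) :=
  Lgr Lrot102 (Lpr_af (f549681 IH) (Lpe (K9.f100893 IH) (Lpr_dt (f549029 IH) (Lpr_ct (f549031 IH) (Lpr_dt (f549026 IH) (Lpr_ct (f418480 IH) (Lpr_dt (f418483 IH) (Lpe (f549016 IH) (Lpr_dt (K7.f100505 IH) (Lpn (LP (LK LD1_c12 LD2_c5 LD3_c30))))))))))))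
theorem f501222 : Led Lsl_at (LP (LK LD1_c5 LD2_c49 LD3_c19)) = (LP (LK LD1_c11 LD2_c27 LD3_c33)) :=
  Lre_a IH (LK LD1_c5 LD2_c49 LD3_c19) (LK LD1_c11 LD2_c27 LD3_c33) Lrfl Lrfl
theorem f548995 : Led Lsl_gt (LP (LK LD1_c5 LD2_c52 LD3_c35)) = (LP (LK LD1_c6 LD2_c13 LD3_c21)) :=
  Lgr Lrot5 (Lpr_ft (f548981 IH) (Lpr_at (f501222 IH) (Lpe (f546839 IH) (Lpn (LP (LK LD1_c6 LD2_c13 LD3_c21))))))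
theorem f536432 : Led Lsl_ct (LP (LK LD1_c11 LD2_c31 LD3_c39)) = (LP (LK LD1_c5 LD2_c52 LD3_c35)) :=
  Lre_c IH (LK LD1_c11 LD2_c31 LD3_c39) (LK LD1_c5 LD2_c52 LD3_c35) Lrfl Lrfl
theorem f536433 : Led Lsl_dt (LP (LK LD1_c9 LD2_c9 LD3_c3)) = (LP (LK LD1_c17 LD2_c2 LD3_c5)) :=
  Lre_d IH (LK LD1_c9 LD2_c9 LD3_c3) (LK LD1_c17 LD2_c2 LD3_c5) Lrfl Lrfl
theorem f536434 : Led Lsl_gt (LP (LK LD1_c17 LD2_c2 LD3_c5)) = (LP (LK LD1_c26 LD2_c55 LD3_c57)) :=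
  Lre_g IH (LK LD1_c17 LD2_c2 LD3_c5) (LK LD1_c26 LD2_c55 LD3_c57) Lrfl Lrfl
theorem f549697 : Led Lsl_df (LP (LK LD1_c20 LD2_c29 LD3_c20)) = (LP (LK LD1_c26 LD2_c55 LD3_c57)) :=
  Lgr Lrot84 (Lpr_cf (f549695 IH) (Lpe (K7.f100505 IH) (Lpe (f100552 IH) (Lpe (f101592 IH) (Lpe (f548995 IH) (Lpe (f536432 IH) (Lpr_gt (K35.f536426 IH) (Lpr_dt (f536433 IH) (Lpr_gt (f536434 IH) (Lpn (LP (LK LD1_c26 LD2_c55 LD3_c57))))))))))))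
theorem f549715 : Led Lsl_dt (LP (LK LD1_c20 LD2_c29 LD3_c20)) = (LP (LK LD1_c26 LD2_c55 LD3_c57)) :=
  Lgr Lrot42 (Lpr_df (f549697 IH) (Lpn (LP (LK LD1_c26 LD2_c55 LD3_c57))))
theorem f198530 : Led Lsl_ct (LP (LK LD1_c11 LD2_c32 LD3_c31)) = (LP (LK LD1_c5 LD2_c53 LD3_c13)) :=
  Lre_c IH (LK LD1_c11 LD2_c32 LD3_c31) (LK LD1_c5 LD2_c53 LD3_c13) Lrfl Lrfl
theorem f442799 : Led Lsl_gt (LP (LK LD1_c26 LD2_c55 LD3_c57)) = (LP (LK LD1_c17 LD2_c0 LD3_c53)) :=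
  Lre_g IH (LK LD1_c26 LD2_c55 LD3_c57) (LK LD1_c17 LD2_c0 LD3_c53) Lrfl Lrfl
theorem f202650 : Led Lsl_dt (LP (LK LD1_c17 LD2_c0 LD3_c53)) = (LP (LK LD1_c9 LD2_c8 LD3_c21)) :=
  Lre_d IH (LK LD1_c17 LD2_c0 LD3_c53) (LK LD1_c9 LD2_c8 LD3_c21) Lrfl Lrfl
theorem f71992 : Led Lsl_ct (LP (LK LD1_c4 LD2_c36 LD3_c3)) = (LP (LK LD1_c9 LD2_c8 LD3_c21)) :=
  Lre_c IH (LK LD1_c4 LD2_c36 LD3_c3) (LK LD1_c9 LD2_c8 LD3_c21) Lrfl Lrfl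
theorem f71146 : Led Lsl_gt (LP (LK LD1_c4 LD2_c36 LD3_c2)) = (LP (LK LD1_c2 LD2_c15 LD3_c13)) :=
  Lre_g IH (LK LD1_c4 LD2_c36 LD3_c2) (LK LD1_c2 LD2_c15 LD3_c13) Lrfl Lrfl
theorem f549758 : Led Lsl_dt (LP (LK LD1_c9 LD2_c8 LD3_c19)) = (LP (LK LD1_c4 LD2_c36 LD3_c2)) :=
  Lre_d IH (LK LD1_c9 LD2_c8 LD3_c19) (LK LD1_c4 LD2_c36 LD3_c2) Lrfl Lrfl
theorem f549759 : Led Lsl_gt (LP (LK LD1_c5 LD2_c53 LD3_c13)) = (LP (LK LD1_c9 LD2_c8 LD3_c19)) :=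
  Lgr Lrot94 (Lpe (f198530 IH) (Lpr_gt (f385927 IH) (Lpr_dt (f549715 IH) (Lpr_gt (f442799 IH) (Lpr_dt (f202650 IH) (Lpe (f71992 IH) (Lpe (f71219 IH) (Lpe (f71146 IH) (Lpe (f549758 IH) (Lpn (LP (LK LD1_c9 LD2_c8 LD3_c19))))))))))))
theorem f172665 : Led Lsl_at (LP (LK LD1_c4 LD2_c56 LD3_c44)) = (LP (LK LD1_c9 LD2_c44 LD3_c45)) :=
  Lre_a IH (LK LD1_c4 LD2_c56 LD3_c44) (LK LD1_c9 LD2_c44 LD3_c45) Lrfl Lrfl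
theorem f549764 : Led Lsl_gf (LP (LK LD1_c9 LD2_c44 LD3_c45)) = (LP (LK LD1_c9 LD2_c8 LD3_c19)) :=
  Lgr Lrot76 (Lpe (f172665 IH) (Lpe (K30.f385282 IH) (Lpr_gt (f549759 IH) (Lpn (LP (LK LD1_c9 LD2_c8 LD3_c19))))))
theorem f198498 : Led Lsl_dt (LP (LK LD1_c4 LD2_c36 LD3_c2)) = (LP (LK LD1_c9 LD2_c8 LD3_c19)) :=
  Lre_d IH (LK LD1_c4 LD2_c36 LD3_c2) (LK LD1_c9 LD2_c8 LD3_c19) Lrfl Lrfl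
theorem f71985 : Led Lsl_ct (LP (LK LD1_c2 LD2_c15 LD3_c13)) = (LP (LK LD1_c4 LD2_c35 LD3_c61)) :=
  Lre_c IH (LK LD1_c2 LD2_c15 LD3_c13) (LK LD1_c4 LD2_c35 LD3_c61) Lrfl Lrfl
theorem f71079 : Led Lsl_at (LP (LK LD1_c9 LD2_c8 LD3_c13)) = (LP (LK LD1_c4 LD2_c36 LD3_c13)) :=
  Lre_a IH (LK LD1_c9 LD2_c8 LD3_c13) (LK LD1_c4 LD2_c36 LD3_c13) Lrfl Lrfl
theorem f547118 : Led Lsl_gf (LP (LK LD1_c3 LD2_c3 LD3_c17)) = (LP (LK LD1_c4 LD2_c35 LD3_c61)) :=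
  Lgr Lrot47 (Lpr_gt (f547116 IH) (Lpe (f71079 IH) (Lpe (K2.f71042 IH) (Lpn (LP (LK LD1_c4 LD2_c35 LD3_c61))))))
theorem f99550 : Led Lsl_dt (LP (LK LD1_c3 LD2_c3 LD3_c30)) = (LP (LK LD1_c1 LD2_c27 LD3_c39)) :=
  Lre_d IH (LK LD1_c3 LD2_c3 LD3_c30) (LK LD1_c1 LD2_c27 LD3_c39) Lrfl Lrfl
theorem f186442 : Led Lsl_gt (LP (LK LD1_c12 LD2_c5 LD3_c42)) = (LP (LK LD1_c6 LD2_c13 LD3_c27)) :=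
  Lre_g IH (LK LD1_c12 LD2_c5 LD3_c42) (LK LD1_c6 LD2_c13 LD3_c27) Lrfl Lrfl
theorem f549769 : Led Lsl_ct (LP (LK LD1_c9 LD2_c44 LD3_c45)) = (LP (LK LD1_c12 LD2_c5 LD3_c42)) :=
  Lgr Lrot152 (Lpr_gf (f549764 IH) (Lpe (f198498 IH) (Lpr_gt (f71146 IH) (Lpr_ct (f71985 IH) (Lpe (f547118 IH) (Lpr_ct (f172130 IH) (Lpe (f99550 IH) (Lpe (f101584 IH) (Lpe (f186442 IH) (Lpn (LP (LK LD1_c12 LD2_c5 LD3_c42))))))))))))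
theorem f186438 : Led Lsl_gf (LP (LK LD1_c2 LD2_c58 LD3_c5)) = (LP (LK LD1_c2 LD2_c58 LD3_c2)) :=
  Lgr Lrot104 (Lpr_ct (K0.f9378 IH) (Lpe (K0.f9363 IH) (Lpe (K0.f9364 IH) (Lpe (K9.f9421 IH) (Lpe (K9.f9422 IH) (Lpr_gf (K9.f172121 IH) (Lpe (K9.f100595 IH) (Lpe (K10.f186046 IH) (Lpr_ct (K36.f186099 IH) (Lpn (LP (LK LD1_c2 LD2_c58 LD3_c2))))))))))))
theorem f549778 : Led Lsl_bt (LP (LK LD1_c9 LD2_c44 LD3_c45)) = (LP (LK LD1_c9 LD2_c4 LD3_c23)) :=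
  Lgr Lrot92 (Lpr_ct (f549769 IH) (Lpr_gt (f186442 IH) (Lpe (f101699 IH) (Lpr_bt (K9.f100485 IH) (Lpe (K10.f186046 IH) (Lpr_ct (K36.f186099 IH) (Lpe (f186438 IH) (Lpe (K0.f9337 IH) (Lpr_bt (K37.f9405 IH) (Lpr_gt (f9424 IH) (Lpn (LP (LK LD1_c9 LD2_c4 LD3_c23)))))))))))))
theorem f172653 : Led Lsl_dt (LP (LK LD1_c4 LD2_c56 LD3_c42)) = (LP (LK LD1_c9 LD2_c44 LD3_c45)) :=
  Lre_d IH (LK LD1_c4 LD2_c56 LD3_c42) (LK LD1_c9 LD2_c44 LD3_c45) Lrfl Lrfl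
theorem f99679 : Led Lsl_df (LP (LK LD1_c5 LD2_c46 LD3_c49)) = (LP (LK LD1_c9 LD2_c4 LD3_c23)) :=
  Lgr Lrot38 (Lpr_dt (f99676 IH) (Lpn (LP (LK LD1_c9 LD2_c4 LD3_c23))))
theorem f549787 : Led Lsl_bf (LP (LK LD1_c4 LD2_c56 LD3_c42)) = (LP (LK LD1_c5 LD2_c46 LD3_c49)) :=
  Lgr Lrot93 (Lpr_dt (f172653 IH) (Lpr_bt (f549778 IH) (Lpe (f99679 IH) (Lpn (LP (LK LD1_c5 LD2_c46 LD3_c49))))))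
theorem f172639 : Led Lsl_et (LP (LK LD1_c4 LD2_c56 LD3_c42)) = (LP (LK LD1_c2 LD2_c26 LD3_c10)) :=
  Lre_e IH (LK LD1_c4 LD2_c56 LD3_c42) (LK LD1_c2 LD2_c26 LD3_c10) Lrfl Lrfl
theorem f99681 : Led Lsl_et (LP (LK LD1_c2 LD2_c49 LD3_c8)) = (LP (LK LD1_c5 LD2_c46 LD3_c49)) :=
  Lre_e IH (LK LD1_c2 LD2_c49 LD3_c8) (LK LD1_c5 LD2_c46 LD3_c49) Lrfl Lrfl
theorem f549803 : Led Lsl_bt (LP (LK LD1_c2 LD2_c26 LD3_c10)) = (LP (LK LD1_c2 LD2_c49 LD3_c8)) :=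
  Lgr Lrot119 (Lpe (f172639 IH) (Lpr_bf (f549787 IH) (Lpe (f99681 IH) (Lpn (LP (LK LD1_c2 LD2_c49 LD3_c8))))))
theorem f60160 : Led Lsl_bt (LP (LK LD1_c0 LD2_c37 LD3_c17)) = (LP (LK LD1_c1 LD2_c20 LD3_c43)) :=
  Lre_b IH (LK LD1_c0 LD2_c37 LD3_c17) (LK LD1_c1 LD2_c20 LD3_c43) Lrfl Lrfl
theorem f549805 : Led Lsl_gt (LP (LK LD1_c4 LD2_c56 LD3_c35)) = (LP (LK LD1_c6 LD2_c14 LD3_c21)) :=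
  Lgr Lrot65 (Lpe (K30.f172651 IH) (Lpr_bt (f549803 IH) (Lpe (f60161 IH) (Lpe (f60160 IH) (Lpr_ct (K36.f60153 IH) (Lpe (K9.f60151 IH) (Lpr_cf (f452514 IH) (Lpq (f537760 IH) (Lpr_gf (f494061 IH) (Lpq (f537374 IH) (Lpe (K2.f60435 IH) (Lpe (K2.f60796 IH) (Lpn (LP (LK LD1_c6 LD2_c14 LD3_c21)))))))))))))))
theorem f40796 : Led Lsl_gt (LP (LK LD1_c1 LD2_c56 LD3_c12)) = (LP (LK LD1_c3 LD2_c58 LD3_c53)) :=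
  Lre_g IH (LK LD1_c1 LD2_c56 LD3_c12) (LK LD1_c3 LD2_c58 LD3_c53) Lrfl Lrfl
theorem f385260 : Led Lsl_gt (LP (LK LD1_c3 LD2_c58 LD3_c53)) = (LP (LK LD1_c2 LD2_c26 LD3_c10)) :=
  Lgr Lrot46 (Lpe (f40796 IH) (Lpr_ft (K30.f385250 IH) (Lpr_at (K30.f172602 IH) (Lpn (LP (LK LD1_c2 LD2_c26 LD3_c10))))))
theorem f60436 : Led Lsl_ct (LP (LK LD1_c6 LD2_c14 LD3_c21)) = (LP (LK LD1_c3 LD2_c4 LD3_c50)) :=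
  Lgr Lrot83 (Lpe (K2.f56465 IH) (Lpr_cf (K1.f60429 IH) (Lpe (K1.f60417 IH) (Lpe (K24.f60434 IH) (Lpe (K2.f60435 IH) (Lpn (LP (LK LD1_c3 LD2_c4 LD3_c50))))))))
theorem f174716 : Led Lsl_ct (LP (LK LD1_c11 LD2_c13 LD3_c21)) = (LP (LK LD1_c5 LD2_c45 LD3_c9)) :=
  Lre_c IH (LK LD1_c11 LD2_c13 LD3_c21) (LK LD1_c5 LD2_c45 LD3_c9) Lrfl Lrfl
theorem f542230 : Led Lsl_ct (LP (LK LD1_c5 LD2_c41 LD3_c53)) = (LP (LK LD1_c5 LD2_c40 LD3_c54)) :=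
  Lgr Lrot8 (Lpr_gt (K37.f174386 IH) (Lpr_dt (K16.f174362 IH) (Lpr_gt (K37.f174355 IH) (Lpe (K37.f411970 IH) (Lpe (f174716 IH) (Lpe (K37.f412004 IH) (Lpr_gf (K37.f542228 IH) (Lpe (K37.f157832 IH) (Lpr_gf (K37.f172239 IH) (Lpn (LP (LK LD1_c5 LD2_c40 LD3_c54))))))))))))
theorem f549811 : Led Lsl_df (LP (LK LD1_c3 LD2_c58 LD3_c53)) = (LP (LK LD1_c2 LD2_c46 LD3_c55)) :=
  Lgr Lrot155 (Lpr_gt (f385260 IH) (Lpr_ct (K30.f172651 IH) (Lpr_gt (f549805 IH) (Lpr_ct (f60436 IH) (Lpr_dt (K37.f172225 IH) (Lpe (f542230 IH) (Lpr_gf (K37.f411904 IH) (Lpe (K16.f268835 IH) (Lpe (K31.f411916 IH) (Lpn (LP (LK LD1_c2 LD2_c46 LD3_c55))))))))))))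
theorem f117635 : Led Lsl_bt (LP (LK LD1_c6 LD2_c24 LD3_c32)) = (LP (LK LD1_c3 LD2_c9 LD3_c56)) :=
  Lre_b IH (LK LD1_c6 LD2_c24 LD3_c32) (LK LD1_c3 LD2_c9 LD3_c56) Lrfl Lrfl
theorem f164878 : Led Lsl_ct (LP (LK LD1_c2 LD2_c44 LD3_c28)) = (LP (LK LD1_c1 LD2_c18 LD3_c37)) :=
  Lre_c IH (LK LD1_c2 LD2_c44 LD3_c28) (LK LD1_c1 LD2_c18 LD3_c37) Lrfl Lrfl
theorem f547753 : Led Lsl_ct (LP (LK LD1_c6 LD2_c24 LD3_c32)) = (LP (LK LD1_c3 LD2_c58 LD3_c53)) :=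
  Lgr Lrot10 (Lpr_bt (f117635 IH) (Lpr_gt (f547751 IH) (Lpr_ct (f201346 IH) (Lpr_gt (f164848 IH) (Lpe (f164878 IH) (Lpr_bt (K13.f164874 IH) (Lpr_gt (K11.f201326 IH) (Lpe (K30.f175986 IH) (Lpr_ct (K30.f175984 IH) (Lpr_gt (f40796 IH) (Lpn (LP (LK LD1_c3 LD2_c58 LD3_c53)))))))))))))
theorem f549817 : Led Lsl_dt (LP (LK LD1_c12 LD2_c22 LD3_c4)) = (LP (LK LD1_c6 LD2_c24 LD3_c32)) :=
  Lre_d IH (LK LD1_c12 LD2_c22 LD3_c4) (LK LD1_c6 LD2_c24 LD3_c32) Lrfl Lrfl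
theorem f423558 : Led Lsl_ff (LP (LK LD1_c1 LD2_c19 LD3_c49)) = (LP (LK LD1_c2 LD2_c13 LD3_c16)) :=
  Lgr Lrot25 (Lpr_bt (f237378 IH) (Lpr_ft (f423540 IH) (Lpr_bt (K30.f174539 IH) (Lpn (LP (LK LD1_c2 LD2_c13 LD3_c16))))))
theorem f174545 : Led Lsl_ct (LP (LK LD1_c4 LD2_c32 LD3_c25)) = (LP (LK LD1_c2 LD2_c13 LD3_c16)) :=
  Lre_c IH (LK LD1_c4 LD2_c32 LD3_c25) (LK LD1_c2 LD2_c13 LD3_c16) Lrfl Lrfl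
theorem f423568 : Led Lsl_ft (LP (LK LD1_c2 LD2_c46 LD3_c47)) = (LP (LK LD1_c4 LD2_c32 LD3_c25)) :=
  Lgr Lrot4 (Lpe (K31.f237375 IH) (Lpr_ff (f423558 IH) (Lpe (f174545 IH) (Lpn (LP (LK LD1_c4 LD2_c32 LD3_c25))))))
theorem f174561 : Led Lsl_ct (LP (LK LD1_c2 LD2_c13 LD3_c16)) = (LP (LK LD1_c4 LD2_c32 LD3_c25)) :=
  Lre_c IH (LK LD1_c2 LD2_c13 LD3_c16) (LK LD1_c4 LD2_c32 LD3_c25) Lrfl Lrfl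
theorem f423337 : Led Lsl_af (LP (LK LD1_c2 LD2_c46 LD3_c43)) = (LP (LK LD1_c4 LD2_c32 LD3_c25)) :=
  Lgr Lrot68 (Lpr_ct (K10.f181497 IH) (Lpr_at (f423333 IH) (Lpr_ct (f174561 IH) (Lpn (LP (LK LD1_c4 LD2_c32 LD3_c25))))))
theorem f181488 : Led Lsl_gt (LP (LK LD1_c5 LD2_c41 LD3_c20)) = (LP (LK LD1_c2 LD2_c46 LD3_c43)) :=
  Lre_g IH (LK LD1_c5 LD2_c41 LD3_c20) (LK LD1_c2 LD2_c46 LD3_c43) Lrfl Lrfl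
theorem f423576 : Led Lsl_gt (LP (LK LD1_c2 LD2_c46 LD3_c47)) = (LP (LK LD1_c5 LD2_c41 LD3_c20)) :=
  Lgr Lrot5 (Lpr_ft (f423568 IH) (Lpe (f423337 IH) (Lpe (f181488 IH) (Lpn (LP (LK LD1_c5 LD2_c41 LD3_c20))))))
theorem f380614 : Led Lsl_dt (LP (LK LD1_c5 LD2_c41 LD3_c20)) = (LP (LK LD1_c11 LD2_c12 LD3_c54)) :=
  Lre_d IH (LK LD1_c5 LD2_c41 LD3_c20) (LK LD1_c11 LD2_c12 LD3_c54) Lrfl Lrfl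
theorem f549818 : Led Lsl_gf (LP (LK LD1_c12 LD2_c22 LD3_c4)) = (LP (LK LD1_c11 LD2_c12 LD3_c54)) :=
  Lgr Lrot154 (Lpr_dt (f549817 IH) (Lpr_ct (f547753 IH) (Lpr_df (f549811 IH) (Lpe (K31.f174115 IH) (Lpe (K16.f174338 IH) (Lpe (K31.f174339 IH) (Lpr_ct (K31.f237375 IH) (Lpr_gt (f423576 IH) (Lpr_dt (f380614 IH) (Lpn (LP (LK LD1_c11 LD2_c12 LD3_c54))))))))))))
theorem f119080 : Led Lsl_dt (LP (LK LD1_c6 LD2_c24 LD3_c32)) = (LP (LK LD1_c12 LD2_c22 LD3_c4)) :=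
  Lre_d IH (LK LD1_c6 LD2_c24 LD3_c32) (LK LD1_c12 LD2_c22 LD3_c4) Lrfl Lrfl
theorem f117621 : Led Lsl_et (LP (LK LD1_c6 LD2_c24 LD3_c32)) = (LP (LK LD1_c3 LD2_c9 LD3_c54)) :=
  Lre_e IH (LK LD1_c6 LD2_c24 LD3_c32) (LK LD1_c3 LD2_c9 LD3_c54) Lrfl Lrfl
theorem f119077 : Led Lsl_gf (LP (LK LD1_c3 LD2_c4 LD3_c42)) = (LP (LK LD1_c3 LD2_c9 LD3_c54)) :=
  Lgr Lrot47 (Lpr_gt (K8.f73836 IH) (Lpr_af (K8.f119075 IH) (Lpe (K8.f117616 IH) (Lpn (LP (LK LD1_c3 LD2_c9 LD3_c54))))))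
def v1628 : LQ := Led Lsl_et (LP (LK LD1_c1 LD2_c22 LD3_c42))
theorem f500425 : Led Lsl_et (LP (LK LD1_c1 LD2_c22 LD3_c42)) = v1628 :=
  Lrfl
theorem f500427 : Led Lsl_ef (LP (LK LD1_c1 LD2_c22 LD3_c42)) = v1628 :=
  Lgr Lrot88 (Lpr_et (f500425 IH) (Lpn v1628))
theorem f500428 : Led Lsl_ct v435 = v1628 :=
  Lgr Lrot15 (Lpe (f452809 IH) (Lpe (K6.f72248 IH) (Lpr_ef (f500427 IH) (Lpn v1628))))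
theorem f541392 : v1628 = (LP (LK LD1_c2 LD2_c46 LD3_c47)) :=
  Lefun (Lecon (f500428 IH) (f541383 IH)) (K31.f237375 IH)
theorem f549826 : Led Lsl_ef (LP (LK LD1_c3 LD2_c4 LD3_c42)) = (LP (LK LD1_c3 LD2_c4 LD3_c54)) :=
  Lgr Lrot17 (Lpr_gf (f119077 IH) (Lpe (f117621 IH) (Lpr_dt (f119080 IH) (Lpr_gf (f549818 IH) (Lpe (f380614 IH) (Lpe (f423576 IH) (Lpq (f541392 IH) (Lpe (f500425 IH) (Lpr_dt (K6.f81849 IH) (Lpr_gf (K8.f149171 IH) (Lpe (K11.f149173 IH) (Lpn (LP (LK LD1_c3 LD2_c4 LD3_c54))))))))))))))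
theorem f149285 : Led Lsl_et (LP (LK LD1_c1 LD2_c22 LD3_c38)) = (LP (LK LD1_c2 LD2_c53 LD3_c6)) :=
  Lre_e IH (LK LD1_c1 LD2_c22 LD3_c38) (LK LD1_c2 LD2_c53 LD3_c6) Lrfl Lrfl
theorem f549834 : Led Lsl_gt (LP (LK LD1_c3 LD2_c59 LD3_c33)) = (LP (LK LD1_c2 LD2_c53 LD3_c6)) :=
  Lgr Lrot131 (Lpe (K36.f112573 IH) (Lpr_dt (K8.f101604 IH) (Lpr_gf (K8.f112567 IH) (Lpe (K8.f79924 IH) (Lpe (K8.f73836 IH) (Lpr_ef (f549826 IH) (Lpr_dt (K11.f149173 IH) (Lpe (K8.f72420 IH) (Lpe (K6.f72358 IH) (Lpr_et (f149285 IH) (Lpn (LP (LK LD1_c2 LD2_c53 LD3_c6)))))))))))))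
theorem f158372 : Led Lsl_ct (LP (LK LD1_c1 LD2_c56 LD3_c29)) = (LP (LK LD1_c3 LD2_c59 LD3_c33)) :=
  Lre_c IH (LK LD1_c1 LD2_c56 LD3_c29) (LK LD1_c3 LD2_c59 LD3_c33) Lrfl Lrfl
theorem f112531 : Led Lsl_gt (LP (LK LD1_c3 LD2_c59 LD3_c36)) = (LP (LK LD1_c1 LD2_c56 LD3_c29)) :=
  Lre_g IH (LK LD1_c3 LD2_c59 LD3_c36) (LK LD1_c1 LD2_c56 LD3_c29) Lrfl Lrfl
theorem f72385 : Led Lsl_ct (LP (LK LD1_c1 LD2_c22 LD3_c40)) = (LP (LK LD1_c2 LD2_c53 LD3_c6)) :=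
  Lre_c IH (LK LD1_c1 LD2_c22 LD3_c40) (LK LD1_c2 LD2_c53 LD3_c6) Lrfl Lrfl
theorem f428155 : Led Lsl_bt (LP (LK LD1_c0 LD2_c38 LD3_c46)) = (LP (LK LD1_c1 LD2_c23 LD3_c51)) :=
  Lre_b IH (LK LD1_c0 LD2_c38 LD3_c46) (LK LD1_c1 LD2_c23 LD3_c51) Lrfl Lrfl
def v1676 : LQ := Led Lsl_gt (LP (LK LD1_c1 LD2_c23 LD3_c51))
theorem f500717 : Led Lsl_gt (LP (LK LD1_c1 LD2_c23 LD3_c51)) = v1676 :=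
  Lrfl
theorem f539327 : Led Lsl_cf K37.v1739 = v1676 :=
  Lgr Lrot125 (Lpe (K37.f501209 IH) (Lpr_cf (K35.f175880 IH) (Lpr_bt (K35.f22440 IH) (Lpr_gt (K9.f172123 IH) (Lpe (K10.f100567 IH) (Lpr_ct (K36.f172134 IH) (Lpr_gt (K31.f495908 IH) (Lpqs (K36.f539257 IH) (Lpe (K36.f383272 IH) (Lpr_bt (f428155 IH) (Lpr_gt (f500717 IH) (Lpn v1676))))))))))))
theorem f539328 : Led Lsl_ct K37.v1739 = v1676 :=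
  Lgr Lrot59 (Lpr_cf (f539327 IH) (Lpn v1676))
theorem f539956 : v1676 = (LP (LK LD1_c2 LD2_c53 LD3_c3)) :=
  Lefun (Lecon (f539328 IH) ((K37.f539943 IH).symm.trans (K36.f539953 IH).symm)) (K2.f72371 IH)
theorem f386802 : Led Lsl_bt (LP (LK LD1_c2 LD2_c55 LD3_c50)) = (LP (LK LD1_c1 LD2_c23 LD3_c58)) :=
  Lre_b IH (LK LD1_c2 LD2_c55 LD3_c50) (LK LD1_c1 LD2_c23 LD3_c58) Lrfl Lrfl
theorem f539593 : Led Lsl_ct (LP (LK LD1_c2 LD2_c55 LD3_c50)) = (LP (LK LD1_c5 LD2_c45 LD3_c2)) :=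
  Lgr Lrot59 (Lpr_cf (K36.f539591 IH) (Lpn (LP (LK LD1_c5 LD2_c45 LD3_c2))))
theorem f539944 : Led Lsl_gt v1676 = (LP (LK LD1_c5 LD2_c45 LD3_c2)) :=
  Lgr Lrot149 (Lpe (f539328 IH) (Lpq (K37.f539943 IH) (Lpe (K36.f494354 IH) (Lpe (K36.f20313 IH) (Lpr_ct (K12.f20310 IH) (Lpe (K9.f20323 IH) (Lpe (K10.f164263 IH) (Lpr_bt (K36.f164275 IH) (Lpe (K36.f539077 IH) (Lpq (K36.f539233 IH) (Lpe (f386802 IH) (Lpr_ct (f539593 IH) (Lpn (LP (LK LD1_c5 LD2_c45 LD3_c2)))))))))))))))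
theorem f500887 : Led Lsl_ct (LP (LK LD1_c2 LD2_c48 LD3_c19)) = K36.v1696 :=
  Lgr Lrot59 (Lpr_cf (K36.f500885 IH) (Lpn K36.v1696))
theorem f549840 : Led Lsl_bf (LP (LK LD1_c3 LD2_c59 LD3_c36)) = K36.v1683 :=
  Lgr Lrot165 (Lpr_gt (f112531 IH) (Lpr_ct (f158372 IH) (Lpr_gt (f549834 IH) (Lpe (f72385 IH) (Lpr_bt (K2.f72280 IH) (Lpq (f539956 IH) (Lpr_gt (f539944 IH) (Lpe (K36.f500886 IH) (Lpr_ct (f500887 IH) (Lpqs (K36.f539086 IH) (Lpq (K36.f539211 IH) (Lpe (K36.f500691 IH) (Lpr_cf (K36.f500756 IH) (Lpn K36.v1683))))))))))))))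
theorem f158393 : Led Lsl_bt (LP (LK LD1_c3 LD2_c59 LD3_c30)) = (LP (LK LD1_c1 LD2_c56 LD3_c29)) :=
  Lre_b IH (LK LD1_c3 LD2_c59 LD3_c30) (LK LD1_c1 LD2_c56 LD3_c29) Lrfl Lrfl
theorem f424931 : Led Lsl_ct (LP (LK LD1_c3 LD2_c59 LD3_c30)) = (LP (LK LD1_c8 LD2_c0 LD3_c6)) :=
  Lre_c IH (LK LD1_c3 LD2_c59 LD3_c30) (LK LD1_c8 LD2_c0 LD3_c6) Lrfl Lrfl
theorem f549851 : Led Lsl_gt (LP (LK LD1_c8 LD2_c0 LD3_c6)) = (LP (LK LD1_c4 LD2_c25 LD3_c39)) :=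
  Lgr Lrot65 (Lpe (f424931 IH) (Lpr_bt (f158393 IH) (Lpe (f112531 IH) (Lpr_bf (f549840 IH) (Lpqs (K36.f539836 IH) (Lpq (K36.f539836 IH) (Lpe (K36.f500756 IH) (Lpr_gf (K36.f500691 IH) (Lpqs (K36.f539211 IH) (Lpq (K36.f539086 IH) (Lpe (f500887 IH) (Lpe (K36.f75541 IH) (Lpe (K31.f100584 IH) (Lpr_ct (K31.f99687 IH) (Lpn (LP (LK LD1_c4 LD2_c25 LD3_c39)))))))))))))))))
theorem f163021 : Led Lsl_et (LP (LK LD1_c3 LD2_c59 LD3_c28)) = (LP (LK LD1_c8 LD2_c0 LD3_c6)) :=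
  Lre_e IH (LK LD1_c3 LD2_c59 LD3_c28) (LK LD1_c8 LD2_c0 LD3_c6) Lrfl Lrfl
theorem f80164 : Led Lsl_et (LP (LK LD1_c2 LD2_c10 LD3_c10)) = (LP (LK LD1_c4 LD2_c25 LD3_c39)) :=
  Lre_e IH (LK LD1_c2 LD2_c10 LD3_c10) (LK LD1_c4 LD2_c25 LD3_c39) Lrfl Lrfl
theorem f549861 : Led Lsl_ef (LP (LK LD1_c3 LD2_c10 LD3_c11)) = (LP (LK LD1_c2 LD2_c16 LD3_c48)) :=
  Lgr Lrot167 (Lpr_gt (K11.f116807 IH) (Lpr_dt (K4.f116806 IH) (Lpr_gt (K8.f117678 IH) (Lpr_df (K8.f163017 IH) (Lpr_et (f163021 IH) (Lpr_gt (f549851 IH) (Lpe (f80164 IH) (Lpr_dt (K6.f16612 IH) (Lpr_gt (K8.f16154 IH) (Lpe (K36.f80126 IH) (Lpn (LP (LK LD1_c2 LD2_c16 LD3_c48)))))))))))))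
theorem f117792 : Led Lsl_et (LP (LK LD1_c3 LD2_c10 LD3_c16)) = (LP (LK LD1_c1 LD2_c31 LD3_c18)) :=
  Lre_e IH (LK LD1_c3 LD2_c10 LD3_c16) (LK LD1_c1 LD2_c31 LD3_c18) Lrfl Lrfl
theorem f117788 : Led Lsl_dt (LP (LK LD1_c3 LD2_c10 LD3_c16)) = (LP (LK LD1_c6 LD2_c25 LD3_c14)) :=
  Lre_d IH (LK LD1_c3 LD2_c10 LD3_c16) (LK LD1_c6 LD2_c25 LD3_c14) Lrfl Lrfl
theorem f80167 : Led Lsl_et (LP (LK LD1_c0 LD2_c28 LD3_c23)) = (LP (LK LD1_c1 LD2_c1 LD3_c44)) :=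
  Lre_e IH (LK LD1_c0 LD2_c28 LD3_c23) (LK LD1_c1 LD2_c1 LD3_c44) Lrfl Lrfl
theorem f80168 : Led Lsl_gt (LP (LK LD1_c1 LD2_c1 LD3_c44)) = (LP (LK LD1_c2 LD2_c9 LD3_c6)) :=
  Lre_g IH (LK LD1_c1 LD2_c1 LD3_c44) (LK LD1_c2 LD2_c9 LD3_c6) Lrfl Lrfl
theorem f80171 : Led Lsl_dt (LP (LK LD1_c2 LD2_c9 LD3_c6)) = (LP (LK LD1_c4 LD2_c23 LD3_c20)) :=
  Lre_d IH (LK LD1_c2 LD2_c9 LD3_c6) (LK LD1_c4 LD2_c23 LD3_c20) Lrfl Lrfl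
theorem f549873 : Led Lsl_gf (LP (LK LD1_c6 LD2_c25 LD3_c14)) = (LP (LK LD1_c4 LD2_c23 LD3_c20)) :=
  Lgr Lrot134 (Lpe (f117788 IH) (Lpr_et (f117792 IH) (Lpr_gt (K11.f205729 IH) (Lpr_ef (f549861 IH) (Lpr_dt (K36.f80126 IH) (Lpr_gt (K7.f27176 IH) (Lpe (K6.f70484 IH) (Lpr_et (f80167 IH) (Lpr_gt (f80168 IH) (Lpr_dt (f80171 IH) (Lpn (LP (LK LD1_c4 LD2_c23 LD3_c20)))))))))))))
theorem f549885 : Led Lsl_et (LP (LK LD1_c2 LD2_c9 LD3_c6)) = (LP (LK LD1_c4 LD2_c23 LD3_c21)) :=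
  Lre_e IH (LK LD1_c2 LD2_c9 LD3_c6) (LK LD1_c4 LD2_c23 LD3_c21) Lrfl Lrfl
theorem f549886 : Led Lsl_gt K36.v1640 = (LP (LK LD1_c4 LD2_c23 LD3_c21)) :=
  Lgr Lrot131 (Lpe (K36.f500500 IH) (Lpr_dt (K8.f59556 IH) (Lpr_gf (K11.f161502 IH) (Lpr_df (K11.f205723 IH) (Lpe (K11.f205729 IH) (Lpe (f117792 IH) (Lpr_dt (f117788 IH) (Lpr_gf (f549873 IH) (Lpe (f80171 IH) (Lpr_et (f549885 IH) (Lpn (LP (LK LD1_c4 LD2_c23 LD3_c21)))))))))))))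
theorem f549869 : Led Lsl_et (LP (LK LD1_c3 LD2_c10 LD3_c11)) = (LP (LK LD1_c2 LD2_c16 LD3_c48)) :=
  Lgr Lrot87 (Lpr_ef (f549861 IH) (Lpn (LP (LK LD1_c2 LD2_c16 LD3_c48))))
theorem f80170 : Led Lsl_dt (LP (LK LD1_c4 LD2_c23 LD3_c21)) = (LP (LK LD1_c8 LD2_c44 LD3_c23)) :=
  Lre_d IH (LK LD1_c4 LD2_c23 LD3_c21) (LK LD1_c8 LD2_c44 LD3_c23) Lrfl Lrfl
theorem f546581 : Led Lsl_ct (LP (LK LD1_c4 LD2_c36 LD3_c10)) = (LP (LK LD1_c3 LD2_c3 LD3_c27)) :=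
  Lgr Lrot15 (Lpr_ef (f546575 IH) (Lpe (K5.f100432 IH) (Lpe (K7.f100451 IH) (Lpn (LP (LK LD1_c3 LD2_c3 LD3_c27))))))
theorem f549018 : Led Lsl_ff (LP (LK LD1_c4 LD2_c36 LD3_c10)) = (LP (LK LD1_c5 LD2_c56 LD3_c61)) :=
  Lgr Lrot23 (Lpr_ct (f546581 IH) (Lpr_ft (K7.f100559 IH) (Lpr_ct (f549014 IH) (Lpn (LP (LK LD1_c5 LD2_c56 LD3_c61))))))
theorem f549037 : Led Lsl_ft (LP (LK LD1_c4 LD2_c36 LD3_c10)) = (LP (LK LD1_c5 LD2_c56 LD3_c61)) :=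
  Lgr Lrot48 (Lpr_ff (f549018 IH) (Lpn (LP (LK LD1_c5 LD2_c56 LD3_c61))))
theorem f71089 : Led Lsl_gt (LP (LK LD1_c9 LD2_c8 LD3_c13)) = (LP (LK LD1_c4 LD2_c36 LD3_c11)) :=
  Lre_g IH (LK LD1_c9 LD2_c8 LD3_c13) (LK LD1_c4 LD2_c36 LD3_c11) Lrfl Lrfl
theorem f549045 : Led Lsl_af (LP (LK LD1_c4 LD2_c36 LD3_c11)) = (LP (LK LD1_c5 LD2_c56 LD3_c61)) :=
  Lgr Lrot31 (Lpe (f71089 IH) (Lpe (f71091 IH) (Lpr_ft (f549037 IH) (Lpn (LP (LK LD1_c5 LD2_c56 LD3_c61))))))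
theorem f71090 : Led Lsl_dt (LP (LK LD1_c4 LD2_c36 LD3_c11)) = (LP (LK LD1_c9 LD2_c8 LD3_c33)) :=
  Lre_d IH (LK LD1_c4 LD2_c36 LD3_c11) (LK LD1_c9 LD2_c8 LD3_c33) Lrfl Lrfl
theorem f549053 : Led Lsl_at (LP (LK LD1_c9 LD2_c8 LD3_c33)) = (LP (LK LD1_c11 LD2_c39 LD3_c18)) :=
  Lgr Lrot51 (Lpe (f71090 IH) (Lpr_af (f549045 IH) (Lpe (f418483 IH) (Lpn (LP (LK LD1_c11 LD2_c39 LD3_c18))))))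
theorem f99510 : Led Lsl_dt (LP (LK LD1_c1 LD2_c27 LD3_c39)) = (LP (LK LD1_c3 LD2_c3 LD3_c30)) :=
  Lre_d IH (LK LD1_c1 LD2_c27 LD3_c39) (LK LD1_c3 LD2_c3 LD3_c30) Lrfl Lrfl
theorem f101243 : Led Lsl_dt (LP (LK LD1_c6 LD2_c13 LD3_c4)) = (LP (LK LD1_c3 LD2_c3 LD3_c17)) :=
  Lre_d IH (LK LD1_c6 LD2_c13 LD3_c4) (LK LD1_c3 LD2_c3 LD3_c17) Lrfl Lrfl
theorem f549065 : Led Lsl_ff (LP (LK LD1_c9 LD2_c8 LD3_c33)) = (LP (LK LD1_c6 LD2_c13 LD3_c4)) :=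
  Lgr Lrot103 (Lpr_at (f549053 IH) (Lpe (f418480 IH) (Lpe (f549026 IH) (Lpe (f549031 IH) (Lpe (f549029 IH) (Lpe (f101699 IH) (Lpe (f99510 IH) (Lpe (f172130 IH) (Lpe (f101243 IH) (Lpn (LP (LK LD1_c6 LD2_c13 LD3_c4))))))))))))
theorem f549080 : Led Lsl_ft (LP (LK LD1_c9 LD2_c8 LD3_c33)) = (LP (LK LD1_c6 LD2_c13 LD3_c4)) :=
  Lgr Lrot48 (Lpr_ff (f549065 IH) (Lpn (LP (LK LD1_c6 LD2_c13 LD3_c4))))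
theorem f549055 : Led Lsl_af (LP (LK LD1_c9 LD2_c8 LD3_c33)) = (LP (LK LD1_c11 LD2_c39 LD3_c18)) :=
  Lgr Lrot0 (Lpr_at (f549053 IH) (Lpn (LP (LK LD1_c11 LD2_c39 LD3_c18))))
theorem f112751 : Led Lsl_dt (LP (LK LD1_c4 LD2_c36 LD3_c10)) = (LP (LK LD1_c9 LD2_c8 LD3_c32)) :=
  Lre_d IH (LK LD1_c4 LD2_c36 LD3_c10) (LK LD1_c9 LD2_c8 LD3_c32) Lrfl Lrfl
theorem f549035 : Led Lsl_ft (LP (LK LD1_c9 LD2_c8 LD3_c32)) = (LP (LK LD1_c11 LD2_c39 LD3_c18)) :=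
  Lgr Lrot54 (Lpe (f112751 IH) (Lpr_ff (f549018 IH) (Lpe (f418483 IH) (Lpn (LP (LK LD1_c11 LD2_c39 LD3_c18))))))
theorem f549086 : Led Lsl_af (LP (LK LD1_c9 LD2_c8 LD3_c32)) = (LP (LK LD1_c6 LD2_c13 LD3_c4)) :=
  Lgr Lrot45 (Lpr_ft (f549035 IH) (Lpe (f549055 IH) (Lpr_ft (f549080 IH) (Lpn (LP (LK LD1_c6 LD2_c13 LD3_c4))))))
theorem f210450 : Led Lsl_dt (LP (LK LD1_c4 LD2_c56 LD3_c36)) = (LP (LK LD1_c9 LD2_c44 LD3_c37)) :=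
  Lre_d IH (LK LD1_c4 LD2_c56 LD3_c36) (LK LD1_c9 LD2_c44 LD3_c37) Lrfl Lrfl
theorem f546585 : Led Lsl_et (LP (LK LD1_c4 LD2_c36 LD3_c10)) = (LP (LK LD1_c3 LD2_c3 LD3_c16)) :=
  Lgr Lrot87 (Lpr_ef (f546575 IH) (Lpn (LP (LK LD1_c3 LD2_c3 LD3_c16))))
theorem f547294 : Led Lsl_gt (LP (LK LD1_c9 LD2_c44 LD3_c37)) = (LP (LK LD1_c9 LD2_c8 LD3_c32)) :=
  Lgr Lrot112 (Lpe (f210450 IH) (Lpr_et (K30.f210416 IH) (Lpr_gf (f547276 IH) (Lpe (K2.f56487 IH) (Lpr_dt (K32.f37225 IH) (Lpe (K5.f112524 IH) (Lpe (K5.f100437 IH) (Lpr_gf (K5.f100435 IH) (Lpe (f546585 IH) (Lpr_dt (f112751 IH) (Lpn (LP (LK LD1_c9 LD2_c8 LD3_c32)))))))))))))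
theorem f549094 : Led Lsl_gt (LP (LK LD1_c9 LD2_c8 LD3_c33)) = (LP (LK LD1_c9 LD2_c44 LD3_c37)) :=
  Lgr Lrot5 (Lpr_ft (f549080 IH) (Lpe (f549086 IH) (Lpe (f547294 IH) (Lpn (LP (LK LD1_c9 LD2_c44 LD3_c37))))))
theorem f545894 : Led Lsl_bt (LP (LK LD1_c11 LD2_c39 LD3_c18)) = (LP (LK LD1_c5 LD2_c57 LD3_c0)) :=
  Lre_b IH (LK LD1_c11 LD2_c39 LD3_c18) (LK LD1_c5 LD2_c57 LD3_c0) Lrfl Lrfl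
theorem f545880 : Led Lsl_af (LP (LK LD1_c8 LD2_c44 LD3_c51)) = (LP (LK LD1_c5 LD2_c57 LD3_c0)) :=
  Lgr Lrot0 (Lpr_at (K37.f545876 IH) (Lpn (LP (LK LD1_c5 LD2_c57 LD3_c0))))
theorem f101036 : Led Lsl_bt (LP (LK LD1_c8 LD2_c44 LD3_c51)) = (LP (LK LD1_c4 LD2_c23 LD3_c44)) :=
  Lre_b IH (LK LD1_c8 LD2_c44 LD3_c51) (LK LD1_c4 LD2_c23 LD3_c44) Lrfl Lrfl
theorem f549057 : Led Lsl_bf (LP (LK LD1_c9 LD2_c8 LD3_c33)) = (LP (LK LD1_c6 LD2_c13 LD3_c11)) :=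
  Lgr Lrot81 (Lpr_at (f549053 IH) (Lpr_bt (f545894 IH) (Lpe (f545880 IH) (Lpr_bt (f101036 IH) (Lpe (K9.f101027 IH) (Lpn (LP (LK LD1_c6 LD2_c13 LD3_c11))))))))
theorem f210378 : Led Lsl_bt (LP (LK LD1_c4 LD2_c56 LD3_c37)) = (LP (LK LD1_c9 LD2_c44 LD3_c37)) :=
  Lre_b IH (LK LD1_c4 LD2_c56 LD3_c37) (LK LD1_c9 LD2_c44 LD3_c37) Lrfl Lrfl
theorem f549103 : Led Lsl_bf (LP (LK LD1_c3 LD2_c3 LD3_c39)) = (LP (LK LD1_c4 LD2_c24 LD3_c58)) :=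
  Lgr Lrot165 (Lpr_gt (K13.f198443 IH) (Lpr_ct (K13.f241516 IH) (Lpe (K13.f43024 IH) (Lpe (K9.f101017 IH) (Lpe (f549057 IH) (Lpr_gt (f549094 IH) (Lpe (f210378 IH) (Lpr_ct (K12.f182387 IH) (Lpr_gt (K12.f227480 IH) (Lpe (K12.f38499 IH) (Lpn (LP (LK LD1_c4 LD2_c24 LD3_c58)))))))))))))
theorem f59767 : Led Lsl_et (LP (LK LD1_c3 LD2_c3 LD3_c39)) = (LP (LK LD1_c6 LD2_c13 LD3_c36)) :=
  Lre_e IH (LK LD1_c3 LD2_c3 LD3_c39) (LK LD1_c6 LD2_c13 LD3_c36) Lrfl Lrfl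
theorem f81216 : Led Lsl_et (LP (LK LD1_c8 LD2_c47 LD3_c27)) = (LP (LK LD1_c4 LD2_c24 LD3_c58)) :=
  Lre_e IH (LK LD1_c8 LD2_c47 LD3_c27) (LK LD1_c4 LD2_c24 LD3_c58) Lrfl Lrfl
theorem f549111 : Led Lsl_bt (LP (LK LD1_c6 LD2_c13 LD3_c36)) = (LP (LK LD1_c8 LD2_c47 LD3_c27)) :=
  Lgr Lrot119 (Lpe (f59767 IH) (Lpr_bf (f549103 IH) (Lpe (f81216 IH) (Lpn (LP (LK LD1_c8 LD2_c47 LD3_c27))))))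
theorem f444994 : Led Lsl_ft (LP (LK LD1_c12 LD2_c6 LD3_c1)) = (LP (LK LD1_c6 LD2_c13 LD3_c36)) :=
  Lre_f IH (LK LD1_c12 LD2_c6 LD3_c1) (LK LD1_c6 LD2_c13 LD3_c36) Lrfl Lrfl
theorem f453243 : Led Lsl_ft (LP (LK LD1_c8 LD2_c47 LD3_c27)) = (LP (LK LD1_c16 LD2_c27 LD3_c3)) :=
  Lre_f IH (LK LD1_c8 LD2_c47 LD3_c27) (LK LD1_c16 LD2_c27 LD3_c3) Lrfl Lrfl
theorem f549119 : Led Lsl_bf (LP (LK LD1_c12 LD2_c6 LD3_c1)) = (LP (LK LD1_c16 LD2_c27 LD3_c3)) :=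
  Lgr Lrot61 (Lpr_ft (f444994 IH) (Lpr_bt (f549111 IH) (Lpr_ft (f453243 IH) (Lpn (LP (LK LD1_c16 LD2_c27 LD3_c3))))))
theorem f101853 : Led Lsl_et (LP (LK LD1_c12 LD2_c6 LD3_c1)) = (LP (LK LD1_c21 LD2_c11 LD3_c60)) :=
  Lre_e IH (LK LD1_c12 LD2_c6 LD3_c1) (LK LD1_c21 LD2_c11 LD3_c60) Lrfl Lrfl
theorem f80393 : Led Lsl_et (LP (LK LD1_c4 LD2_c24 LD3_c58)) = (LP (LK LD1_c8 LD2_c47 LD3_c27)) :=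
  Lre_e IH (LK LD1_c4 LD2_c24 LD3_c58) (LK LD1_c8 LD2_c47 LD3_c27) Lrfl Lrfl
theorem f229351 : Led Lsl_et (LP (LK LD1_c9 LD2_c47 LD3_c8)) = (LP (LK LD1_c4 LD2_c58 LD3_c6)) :=
  Lre_e IH (LK LD1_c9 LD2_c47 LD3_c8) (LK LD1_c4 LD2_c58 LD3_c6) Lrfl Lrfl
theorem f453244 : Led Lsl_ft (LP (LK LD1_c17 LD2_c57 LD3_c27)) = (LP (LK LD1_c9 LD2_c47 LD3_c8)) :=
  Lre_f IH (LK LD1_c17 LD2_c57 LD3_c27) (LK LD1_c9 LD2_c47 LD3_c8) Lrfl Lrfl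
theorem f453245 : Led Lsl_et (LP (LK LD1_c16 LD2_c27 LD3_c3)) = (LP (LK LD1_c17 LD2_c57 LD3_c27)) :=
  Lgr Lrot69 (Lpe (f453243 IH) (Lpe (f80393 IH) (Lpr_ff (K31.f453239 IH) (Lpe (f229351 IH) (Lpe (f453244 IH) (Lpn (LP (LK LD1_c17 LD2_c57 LD3_c27))))))))
theorem f453247 : Led Lsl_ef (LP (LK LD1_c16 LD2_c27 LD3_c3)) = (LP (LK LD1_c17 LD2_c57 LD3_c27)) :=
  Lgr Lrot88 (Lpr_et (f453245 IH) (Lpn (LP (LK LD1_c17 LD2_c57 LD3_c27))))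
theorem f549127 : Led Lsl_bt (LP (LK LD1_c21 LD2_c11 LD3_c60)) = (LP (LK LD1_c17 LD2_c57 LD3_c27)) :=
  Lgr Lrot119 (Lpe (f101853 IH) (Lpr_bf (f549119 IH) (Lpr_ef (f453247 IH) (Lpn (LP (LK LD1_c17 LD2_c57 LD3_c27))))))
theorem f36706 : Led Lsl_ft (LP (LK LD1_c12 LD2_c6 LD3_c8)) = (LP (LK LD1_c21 LD2_c11 LD3_c60)) :=
  Lre_f IH (LK LD1_c12 LD2_c6 LD3_c8) (LK LD1_c21 LD2_c11 LD3_c60) Lrfl Lrfl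
theorem f549133 : Led Lsl_bf (LP (LK LD1_c12 LD2_c6 LD3_c8)) = (LP (LK LD1_c9 LD2_c47 LD3_c8)) :=
  Lgr Lrot61 (Lpr_ft (f36706 IH) (Lpr_bt (f549127 IH) (Lpr_ft (f453244 IH) (Lpn (LP (LK LD1_c9 LD2_c47 LD3_c8))))))
theorem f30191 : Led Lsl_bt (LP (LK LD1_c8 LD2_c1 LD3_c13)) = (LP (LK LD1_c15 LD2_c5 LD3_c52)) :=
  Lre_b IH (LK LD1_c8 LD2_c1 LD3_c13) (LK LD1_c15 LD2_c5 LD3_c52) Lrfl Lrfl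
theorem f549139 : Led Lsl_dt (LP (LK LD1_c15 LD2_c5 LD3_c52)) = (LP (LK LD1_c9 LD2_c47 LD3_c8)) :=
  Lgr Lrot79 (Lpe (f30191 IH) (Lpe (K1.f36695 IH) (Lpr_bf (f549133 IH) (Lpn (LP (LK LD1_c9 LD2_c47 LD3_c8))))))
theorem f272517 : Led Lsl_et (LP (LK LD1_c8 LD2_c47 LD3_c30)) = (LP (LK LD1_c4 LD2_c24 LD3_c60)) :=
  Lre_e IH (LK LD1_c8 LD2_c47 LD3_c30) (LK LD1_c4 LD2_c24 LD3_c60) Lrfl Lrfl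
theorem f211104 : Led Lsl_et (LP (LK LD1_c4 LD2_c58 LD3_c6)) = (LP (LK LD1_c9 LD2_c47 LD3_c8)) :=
  Lre_e IH (LK LD1_c4 LD2_c58 LD3_c6) (LK LD1_c9 LD2_c47 LD3_c8) Lrfl Lrfl
theorem f453237 : Led Lsl_af (LP (LK LD1_c8 LD2_c47 LD3_c30)) = (LP (LK LD1_c9 LD2_c47 LD3_c8)) :=
  Lgr Lrot50 (Lpr_et (f272517 IH) (Lpr_at (K31.f453231 IH) (Lpr_et (f211104 IH) (Lpn (LP (LK LD1_c9 LD2_c47 LD3_c8))))))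
theorem f272399 : Led Lsl_et (LP (LK LD1_c4 LD2_c24 LD3_c60)) = (LP (LK LD1_c8 LD2_c47 LD3_c30)) :=
  Lre_e IH (LK LD1_c4 LD2_c24 LD3_c60) (LK LD1_c8 LD2_c47 LD3_c30) Lrfl Lrfl
theorem f240786 : Led Lsl_et (LP (LK LD1_c16 LD2_c20 LD3_c59)) = (LP (LK LD1_c8 LD2_c43 LD3_c49)) :=
  Lre_e IH (LK LD1_c16 LD2_c20 LD3_c59) (LK LD1_c8 LD2_c43 LD3_c49) Lrfl Lrfl
theorem f272400 : Led Lsl_dt (LP (LK LD1_c8 LD2_c47 LD3_c30)) = (LP (LK LD1_c16 LD2_c20 LD3_c59)) :=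
  Lgr Lrot77 (Lpe (f272399 IH) (Lpe (K18.f272398 IH) (Lpr_ef (K18.f272393 IH) (Lpe (K18.f193710 IH) (Lpe (f240786 IH) (Lpn (LP (LK LD1_c16 LD2_c20 LD3_c59))))))))
theorem f549141 : Led Lsl_af (LP (LK LD1_c15 LD2_c5 LD3_c52)) = (LP (LK LD1_c16 LD2_c20 LD3_c59)) :=
  Lgr Lrot117 (Lpr_dt (f549139 IH) (Lpe (f453237 IH) (Lpr_dt (f272400 IH) (Lpn (LP (LK LD1_c16 LD2_c20 LD3_c59))))))
theorem f549145 : Led Lsl_ft (LP (LK LD1_c15 LD2_c5 LD3_c52)) = (LP (LK LD1_c24 LD2_c53 LD3_c57)) :=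
  Lre_f IH (LK LD1_c15 LD2_c5 LD3_c52) (LK LD1_c24 LD2_c53 LD3_c57) Lrfl Lrfl
theorem f272959 : Led Lsl_ft (LP (LK LD1_c26 LD2_c18 LD3_c61)) = (LP (LK LD1_c16 LD2_c20 LD3_c59)) :=
  Lre_f IH (LK LD1_c26 LD2_c18 LD3_c61) (LK LD1_c16 LD2_c20 LD3_c59) Lrfl Lrfl
theorem f549159 : Led Lsl_at (LP (LK LD1_c24 LD2_c53 LD3_c57)) = (LP (LK LD1_c26 LD2_c18 LD3_c61)) :=
  Lgr Lrot66 (Lpe (f549145 IH) (Lpr_af (f549141 IH) (Lpe (f272959 IH) (Lpn (LP (LK LD1_c26 LD2_c18 LD3_c61))))))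
theorem f445770 : Led Lsl_et (LP (LK LD1_c15 LD2_c5 LD3_c51)) = (LP (LK LD1_c24 LD2_c53 LD3_c57)) :=
  Lre_e IH (LK LD1_c15 LD2_c5 LD3_c51) (LK LD1_c24 LD2_c53 LD3_c57) Lrfl Lrfl
theorem f549165 : Led Lsl_ef (LP (LK LD1_c21 LD2_c29 LD3_c59)) = (LP (LK LD1_c26 LD2_c18 LD3_c61)) :=
  Lgr Lrot20 (Lpe (K35.f538706 IH) (Lpr_et (f445770 IH) (Lpr_at (f549159 IH) (Lpn (LP (LK LD1_c26 LD2_c18 LD3_c61))))))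
theorem f538792 : Led Lsl_ft (LP (LK LD1_c21 LD2_c29 LD3_c59)) = (LP (LK LD1_c12 LD2_c22 LD3_c60)) :=
  Lre_f IH (LK LD1_c21 LD2_c29 LD3_c59) (LK LD1_c12 LD2_c22 LD3_c60) Lrfl Lrfl
theorem f272962 : Led Lsl_ft (LP (LK LD1_c16 LD2_c20 LD3_c59)) = (LP (LK LD1_c26 LD2_c18 LD3_c61)) :=
  Lre_f IH (LK LD1_c16 LD2_c20 LD3_c59) (LK LD1_c26 LD2_c18 LD3_c61) Lrfl Lrfl
theorem f193711 : Led Lsl_et (LP (LK LD1_c8 LD2_c43 LD3_c49)) = (LP (LK LD1_c16 LD2_c20 LD3_c59)) :=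
  Lre_e IH (LK LD1_c8 LD2_c43 LD3_c49) (LK LD1_c16 LD2_c20 LD3_c59) Lrfl Lrfl
theorem f549173 : Led Lsl_ft (LP (LK LD1_c8 LD2_c1 LD3_c4)) = (LP (LK LD1_c8 LD2_c43 LD3_c49)) :=
  Lgr Lrot86 (Lpr_ef (K35.f538758 IH) (Lpe (f538792 IH) (Lpr_ef (f549165 IH) (Lpe (f272962 IH) (Lpe (f193711 IH) (Lpn (LP (LK LD1_c8 LD2_c43 LD3_c49))))))))
theorem f30023 : Led Lsl_bt (LP (LK LD1_c4 LD2_c0 LD3_c0)) = (LP (LK LD1_c4 LD2_c0 LD3_c27)) :=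
  Lgr Lrot95 (Lpe (K35.f30022 IH) (Lpr_bf (K35.f30013 IH) (Lpe (K7.f29373 IH) (Lpn (LP (LK LD1_c4 LD2_c0 LD3_c27))))))
theorem f3005 : Led Lsl_at (LP (LK LD1_c4 LD2_c0 LD3_c0)) = (LP (LK LD1_c1 LD2_c56 LD3_c46)) :=
  Lre_a IH (LK LD1_c4 LD2_c0 LD3_c0) (LK LD1_c1 LD2_c56 LD3_c46) Lrfl Lrfl
theorem f29509 : Led Lsl_bt (LP (LK LD1_c0 LD2_c55 LD3_c19)) = (LP (LK LD1_c1 LD2_c56 LD3_c60)) :=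
  Lre_b IH (LK LD1_c0 LD2_c55 LD3_c19) (LK LD1_c1 LD2_c56 LD3_c60) Lrfl Lrfl
theorem f29401 : Led Lsl_at (LP (LK LD1_c1 LD2_c56 LD3_c60)) = (LP (LK LD1_c4 LD2_c0 LD3_c27)) :=
  Lre_a IH (LK LD1_c1 LD2_c56 LD3_c60) (LK LD1_c4 LD2_c0 LD3_c27) Lrfl Lrfl
theorem f29570 : Led Lsl_bf (LP (LK LD1_c4 LD2_c0 LD3_c0)) = (LP (LK LD1_c4 LD2_c0 LD3_c27)) :=
  Lgr Lrot81 (Lpr_at (f3005 IH) (Lpr_bt (K8.f2969 IH) (Lpr_at (K1.f29568 IH) (Lpr_bt (f29509 IH) (Lpr_at (f29401 IH) (Lpn (LP (LK LD1_c4 LD2_c0 LD3_c27))))))))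
theorem f538860 : Led Lsl_ct (LP (LK LD1_c4 LD2_c0 LD3_c0)) = (LP (LK LD1_c2 LD2_c26 LD3_c22)) :=
  Lgr Lrot83 (Lpr_bf (f29570 IH) (Lpe (K7.f29394 IH) (Lpe (f30023 IH) (Lpr_cf (K35.f538856 IH) (Lpr_bf (K35.f272450 IH) (Lpn (LP (LK LD1_c2 LD2_c26 LD3_c22))))))))
theorem f181727 : Led Lsl_ct (LP (LK LD1_c8 LD2_c43 LD3_c49)) = (LP (LK LD1_c16 LD2_c20 LD3_c58)) :=
  Lre_c IH (LK LD1_c8 LD2_c43 LD3_c49) (LK LD1_c16 LD2_c20 LD3_c58) Lrfl Lrfl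
theorem f30036 : Led Lsl_at (LP (LK LD1_c4 LD2_c0 LD3_c1)) = (LP (LK LD1_c8 LD2_c1 LD3_c4)) :=
  Lre_a IH (LK LD1_c4 LD2_c0 LD3_c1) (LK LD1_c8 LD2_c1 LD3_c4) Lrfl Lrfl
theorem f30401 : Led Lsl_ft (LP (LK LD1_c8 LD2_c1 LD3_c7)) = (LP (LK LD1_c4 LD2_c0 LD3_c1)) :=
  Lre_f IH (LK LD1_c8 LD2_c1 LD3_c7) (LK LD1_c4 LD2_c0 LD3_c1) Lrfl Lrfl
theorem f549175 : Led Lsl_af (LP (LK LD1_c8 LD2_c1 LD3_c7)) = (LP (LK LD1_c8 LD2_c43 LD3_c49)) :=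
  Lgr Lrot45 (Lpr_ft (f30401 IH) (Lpr_at (f30036 IH) (Lpr_ft (f549173 IH) (Lpn (LP (LK LD1_c8 LD2_c43 LD3_c49))))))
theorem f30444 : Led Lsl_ct (LP (LK LD1_c15 LD2_c5 LD3_c48)) = (LP (LK LD1_c8 LD2_c1 LD3_c7)) :=
  Lre_c IH (LK LD1_c15 LD2_c5 LD3_c48) (LK LD1_c8 LD2_c1 LD3_c7) Lrfl Lrfl
theorem f549183 : Led Lsl_dt (LP (LK LD1_c16 LD2_c20 LD3_c58)) = (LP (LK LD1_c15 LD2_c5 LD3_c48)) :=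
  Lgr Lrot120 (Lpe (f181727 IH) (Lpe (K13.f181726 IH) (Lpe (K18.f272389 IH) (Lpe (K18.f225581 IH) (Lpe (f538860 IH) (Lpe (K35.f30022 IH) (Lpr_ft (f549173 IH) (Lpe (f549175 IH) (Lpe (f30444 IH) (Lpn (LP (LK LD1_c15 LD2_c5 LD3_c48))))))))))))
theorem f30400 : Led Lsl_ft (LP (LK LD1_c15 LD2_c5 LD3_c48)) = (LP (LK LD1_c8 LD2_c1 LD3_c5)) :=
  Lre_f IH (LK LD1_c15 LD2_c5 LD3_c48) (LK LD1_c8 LD2_c1 LD3_c5) Lrfl Lrfl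
theorem f30392 : Led Lsl_df (LP (LK LD1_c15 LD2_c5 LD3_c45)) = (LP (LK LD1_c8 LD2_c1 LD3_c5)) :=
  Lgr Lrot38 (Lpr_dt (K35.f30382 IH) (Lpn (LP (LK LD1_c8 LD2_c1 LD3_c5))))
theorem f549187 : Led Lsl_ff (LP (LK LD1_c16 LD2_c20 LD3_c58)) = (LP (LK LD1_c15 LD2_c5 LD3_c45)) :=
  Lgr Lrot19 (Lpr_dt (f549183 IH) (Lpr_ft (f30400 IH) (Lpe (f30392 IH) (Lpn (LP (LK LD1_c15 LD2_c5 LD3_c45))))))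
theorem f549198 : Led Lsl_at (LP (LK LD1_c16 LD2_c20 LD3_c58)) = (LP (LK LD1_c15 LD2_c5 LD3_c48)) :=
  Lgr Lrot66 (Lpr_ff (f549187 IH) (Lpe (K35.f30391 IH) (Lpe (f30400 IH) (Lpn (LP (LK LD1_c15 LD2_c5 LD3_c48))))))
theorem f60456 : Led Lsl_dt (LP (LK LD1_c6 LD2_c15 LD3_c15)) = (LP (LK LD1_c3 LD2_c4 LD3_c39)) :=
  Lre_d IH (LK LD1_c6 LD2_c15 LD3_c15) (LK LD1_c3 LD2_c4 LD3_c39) Lrfl Lrfl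
theorem f193971 : Led Lsl_ct (LP (LK LD1_c11 LD2_c23 LD3_c24)) = (LP (LK LD1_c5 LD2_c46 LD3_c36)) :=
  Lre_c IH (LK LD1_c11 LD2_c23 LD3_c24) (LK LD1_c5 LD2_c46 LD3_c36) Lrfl Lrfl
theorem f197476 : Led Lsl_dt (LP (LK LD1_c11 LD2_c23 LD3_c33)) = (LP (LK LD1_c11 LD2_c23 LD3_c24)) :=
  Lgr Lrot105 (Lpe (K13.f197474 IH) (Lpr_df (K2.f69947 IH) (Lpr_gf (K13.f197471 IH) (Lpe (K13.f59272 IH) (Lpr_gt (K11.f56606 IH) (Lpr_dt (K1.f59281 IH) (Lpr_gt (K10.f59293 IH) (Lpr_dt (K13.f60774 IH) (Lpe (f193971 IH) (Lpn (LP (LK LD1_c11 LD2_c23 LD3_c24))))))))))))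
theorem f197479 : Led Lsl_df (LP (LK LD1_c11 LD2_c23 LD3_c33)) = (LP (LK LD1_c11 LD2_c23 LD3_c24)) :=
  Lgr Lrot38 (Lpr_dt (f197476 IH) (Lpn (LP (LK LD1_c11 LD2_c23 LD3_c24))))
theorem f538844 : Led Lsl_gt (LP (LK LD1_c15 LD2_c5 LD3_c45)) = (LP (LK LD1_c11 LD2_c23 LD3_c24)) :=
  Lgr Lrot94 (Lpe (K35.f30017 IH) (Lpr_gt (K35.f538842 IH) (Lpr_dt (f60456 IH) (Lpe (K10.f193708 IH) (Lpr_dt (K2.f37244 IH) (Lpe (K2.f37248 IH) (Lpr_df (K2.f69947 IH) (Lpr_gf (K13.f197471 IH) (Lpr_df (f197479 IH) (Lpn (LP (LK LD1_c11 LD2_c23 LD3_c24))))))))))))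
theorem f549202 : Led Lsl_gf (LP (LK LD1_c15 LD2_c5 LD3_c48)) = (LP (LK LD1_c11 LD2_c23 LD3_c24)) :=
  Lgr Lrot76 (Lpe (f549198 IH) (Lpr_ff (f549187 IH) (Lpr_gt (f538844 IH) (Lpn (LP (LK LD1_c11 LD2_c23 LD3_c24))))))
theorem f29252 : Led Lsl_ct (LP (LK LD1_c8 LD2_c1 LD3_c7)) = (LP (LK LD1_c15 LD2_c5 LD3_c48)) :=
  Lre_c IH (LK LD1_c8 LD2_c1 LD3_c7) (LK LD1_c15 LD2_c5 LD3_c48) Lrfl Lrfl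
theorem f30443 : Led Lsl_bt (LP (LK LD1_c8 LD2_c1 LD3_c7)) = (LP (LK LD1_c4 LD2_c0 LD3_c5)) :=
  Lre_b IH (LK LD1_c8 LD2_c1 LD3_c7) (LK LD1_c4 LD2_c0 LD3_c5) Lrfl Lrfl
theorem f193968 : Led Lsl_ct (LP (LK LD1_c5 LD2_c46 LD3_c36)) = (LP (LK LD1_c11 LD2_c23 LD3_c24)) :=
  Lre_c IH (LK LD1_c5 LD2_c46 LD3_c36) (LK LD1_c11 LD2_c23 LD3_c24) Lrfl Lrfl
theorem f549209 : Led Lsl_bt (LP (LK LD1_c5 LD2_c42 LD3_c27)) = (LP (LK LD1_c8 LD2_c43 LD3_c52)) :=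
  Lgr Lrot130 (Lpr_ct (K36.f423869 IH) (Lpr_gf (K36.f423867 IH) (Lpe (K31.f168305 IH) (Lpr_bt (K31.f197261 IH) (Lpe (K13.f196300 IH) (Lpe (f30443 IH) (Lpr_ct (f29252 IH) (Lpr_gf (f549202 IH) (Lpe (f193968 IH) (Lpe (K37.f241332 IH) (Lpn (LP (LK LD1_c8 LD2_c43 LD3_c52)))))))))))))
theorem f449493 : Led Lsl_ff (LP (LK LD1_c5 LD2_c40 LD3_c60)) = (LP (LK LD1_c8 LD2_c43 LD3_c52)) :=
  Lgr Lrot19 (Lpr_dt (K36.f177027 IH) (Lpr_ft (K36.f449489 IH) (Lpr_dt (K37.f80974 IH) (Lpn (LP (LK LD1_c8 LD2_c43 LD3_c52))))))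
theorem f538886 : Led Lsl_bf (LP (LK LD1_c9 LD2_c1 LD3_c57)) = (LP (LK LD1_c5 LD2_c40 LD3_c60)) :=
  Lgr Lrot93 (Lpr_dt (K31.f181778 IH) (Lpr_bt (K35.f538882 IH) (Lpr_dt (K13.f177019 IH) (Lpn (LP (LK LD1_c5 LD2_c40 LD3_c60))))))
theorem f549217 : Led Lsl_ff (LP (LK LD1_c5 LD2_c42 LD3_c27)) = (LP (LK LD1_c9 LD2_c1 LD3_c57)) :=
  Lgr Lrot25 (Lpr_bt (f549209 IH) (Lpe (f449493 IH) (Lpe (f538886 IH) (Lpn (LP (LK LD1_c9 LD2_c1 LD3_c57))))))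
theorem f422920 : Led Lsl_dt (LP (LK LD1_c5 LD2_c42 LD3_c27)) = (LP (LK LD1_c2 LD2_c47 LD3_c11)) :=
  Lre_d IH (LK LD1_c5 LD2_c42 LD3_c27) (LK LD1_c2 LD2_c47 LD3_c11) Lrfl Lrfl
theorem f181779 : Led Lsl_dt (LP (LK LD1_c4 LD2_c32 LD3_c8)) = (LP (LK LD1_c9 LD2_c1 LD3_c57)) :=
  Lre_d IH (LK LD1_c4 LD2_c32 LD3_c8) (LK LD1_c9 LD2_c1 LD3_c57) Lrfl Lrfl
theorem f542131 : Led Lsl_ff (LP (LK LD1_c4 LD2_c32 LD3_c8)) = K36.v1640 :=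
  Lgr Lrot3 (Lpr_ft (K36.f542129 IH) (Lpn K36.v1640))
theorem f549225 : (LP (LK LD1_c2 LD2_c47 LD3_c11)) = K36.v1640 :=
  (Llr Lrot60 (Lpe (f422920 IH) (Lpr_ff (f549217 IH) (Lpe (f181779 IH) (Lpr_ff (f542131 IH) (Lpn K36.v1640)))))).symm
theorem f172748 : Led Lsl_ct (LP (LK LD1_c2 LD2_c47 LD3_c11)) = (LP (LK LD1_c1 LD2_c19 LD3_c59)) :=
  Lre_c IH (LK LD1_c2 LD2_c47 LD3_c11) (LK LD1_c1 LD2_c19 LD3_c59) Lrfl Lrfl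
theorem f73120 : Led Lsl_bt (LP (LK LD1_c2 LD2_c49 LD3_c7)) = (LP (LK LD1_c3 LD2_c0 LD3_c29)) :=
  Lgr Lrot119 (Lpe (K35.f72981 IH) (Lpr_bf (K4.f72969 IH) (Lpe (K36.f72954 IH) (Lpn (LP (LK LD1_c3 LD2_c0 LD3_c29))))))
theorem f542626 : Led Lsl_dt (LP (LK LD1_c2 LD2_c47 LD3_c24)) = (LP (LK LD1_c2 LD2_c49 LD3_c7)) :=
  Lgr Lrot79 (Lpe (K36.f172747 IH) (Lpr_df (K36.f542622 IH) (Lpe (f73120 IH) (Lpn (LP (LK LD1_c2 LD2_c49 LD3_c7))))))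
theorem f172817 : Led Lsl_gt (LP (LK LD1_c11 LD2_c15 LD3_c40)) = (LP (LK LD1_c5 LD2_c42 LD3_c44)) :=
  Lre_g IH (LK LD1_c11 LD2_c15 LD3_c40) (LK LD1_c5 LD2_c42 LD3_c44) Lrfl Lrfl
theorem f281997 : Led Lsl_gf (LP (LK LD1_c11 LD2_c15 LD3_c40)) = (LP (LK LD1_c16 LD2_c20 LD3_c35)) :=
  Lgr Lrot47 (Lpr_gt (f172817 IH) (Lpe (K16.f280260 IH) (Lpr_ff (K16.f280261 IH) (Lpn (LP (LK LD1_c16 LD2_c20 LD3_c35))))))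
theorem f225151 : Led Lsl_ct (LP (LK LD1_c4 LD2_c4 LD3_c49)) = (LP (LK LD1_c8 LD2_c10 LD3_c28)) :=
  Lre_c IH (LK LD1_c4 LD2_c4 LD3_c49) (LK LD1_c8 LD2_c10 LD3_c28) Lrfl Lrfl
theorem f227227 : Led Lsl_ct (LP (LK LD1_c1 LD2_c58 LD3_c53)) = (LP (LK LD1_c0 LD2_c56 LD3_c32)) :=
  Lgr Lrot15 (Lpr_ef (K13.f227225 IH) (Lpe (K13.f28960 IH) (Lpe (K12.f211500 IH) (Lpn (LP (LK LD1_c0 LD2_c56 LD3_c32))))))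
theorem f237714 : Led Lsl_ct (LP (LK LD1_c2 LD2_c9 LD3_c1)) = (LP (LK LD1_c4 LD2_c21 LD3_c57)) :=
  Lgr Lrot176 (Lpe (K13.f39207 IH) (Lpr_cf (K13.f175281 IH) (Lpe (K12.f211493 IH) (Lpe (f227227 IH) (Lpr_df (K19.f227211 IH) (Lpe (K13.f39190 IH) (Lpe (K13.f227216 IH) (Lpr_cf (K13.f237707 IH) (Lpe (K13.f29612 IH) (Lpe (K13.f29605 IH) (Lpr_df (K12.f192837 IH) (Lpe (K12.f192839 IH) (Lpr_df (K12.f216737 IH) (Lpe (K12.f216700 IH) (Lpe (K13.f216725 IH) (Lpn (LP (LK LD1_c4 LD2_c21 LD3_c57))))))))))))))))))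
theorem f181682 : Led Lsl_gt (LP (LK LD1_c2 LD2_c46 LD3_c53)) = (LP (LK LD1_c5 LD2_c41 LD3_c40)) :=
  Lre_g IH (LK LD1_c2 LD2_c46 LD3_c53) (LK LD1_c5 LD2_c41 LD3_c40) Lrfl Lrfl
theorem f181685 : Led Lsl_bt (LP (LK LD1_c11 LD2_c13 LD3_c29)) = (LP (LK LD1_c5 LD2_c41 LD3_c40)) :=
  Lre_b IH (LK LD1_c11 LD2_c13 LD3_c29) (LK LD1_c5 LD2_c41 LD3_c40) Lrfl Lrfl
theorem f269648 : Led Lsl_cf (LP (LK LD1_c11 LD2_c15 LD3_c40)) = (LP (LK LD1_c11 LD2_c13 LD3_c29)) :=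
  Lgr Lrot160 (Lpr_gt (f172817 IH) (Lpe (K16.f172754 IH) (Lpe (K36.f172750 IH) (Lpe (K36.f238911 IH) (Lpr_ct (f225151 IH) (Lpr_gt (K21.f269643 IH) (Lpe (f237714 IH) (Lpe (K16.f181571 IH) (Lpr_gt (f181682 IH) (Lpe (f181685 IH) (Lpn (LP (LK LD1_c11 LD2_c13 LD3_c29)))))))))))))
theorem f269669 : Led Lsl_ct (LP (LK LD1_c11 LD2_c15 LD3_c40)) = (LP (LK LD1_c11 LD2_c13 LD3_c29)) :=
  Lgr Lrot59 (Lpr_cf (f269648 IH) (Lpn (LP (LK LD1_c11 LD2_c13 LD3_c29))))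
theorem f549601 : Led Lsl_dt (LP (LK LD1_c11 LD2_c13 LD3_c29)) = (LP (LK LD1_c5 LD2_c46 LD3_c25)) :=
  Lgr Lrot27 (Lpe (f269669 IH) (Lpr_gf (f281997 IH) (Lpe (K16.f181773 IH) (Lpe (f418018 IH) (Lpr_df (f549589 IH) (Lpr_gt (f407096 IH) (Lpr_ct (K30.f168282 IH) (Lpr_gt (f547819 IH) (Lpr_ct (K2.f60698 IH) (Lpn (LP (LK LD1_c5 LD2_c46 LD3_c25))))))))))))
theorem f549888 : Led Lsl_gf (LP (LK LD1_c11 LD2_c13 LD3_c29)) = (LP (LK LD1_c8 LD2_c44 LD3_c23)) :=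
  Lgr Lrot143 (Lpr_dt (f549601 IH) (Lpe (K2.f60698 IH) (Lpe (f542626 IH) (Lpr_gf (f281966 IH) (Lpe (K16.f181766 IH) (Lpe (K31.f412030 IH) (Lpe (f172748 IH) (Lpqs (f549225 IH) (Lpr_gt (f549886 IH) (Lpr_dt (f80170 IH) (Lpn (LP (LK LD1_c8 LD2_c44 LD3_c23)))))))))))))
theorem f549890 : Led Lsl_dt (LP (LK LD1_c5 LD2_c46 LD3_c25)) = (LP (LK LD1_c11 LD2_c13 LD3_c29)) :=
  Lgr Lrot56 (Lpr_et (K4.f60653 IH) (Lpr_gt (K4.f72990 IH) (Lpe (f549869 IH) (Lpe (K11.f205723 IH) (Lpe (K11.f161502 IH) (Lpe (K8.f59556 IH) (Lpr_et (K36.f500500 IH) (Lpr_gt (f549886 IH) (Lpr_dt (f80170 IH) (Lpe (f549888 IH) (Lpn (LP (LK LD1_c11 LD2_c13 LD3_c29)))))))))))))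
theorem f549894 : Led Lsl_df (LP (LK LD1_c6 LD2_c14 LD3_c16)) = (LP (LK LD1_c5 LD2_c41 LD3_c40)) :=
  Lgr Lrot12 (Lpr_bt (K2.f60647 IH) (Lpr_dt (f549890 IH) (Lpr_bt (f181685 IH) (Lpn (LP (LK LD1_c5 LD2_c41 LD3_c40))))))
theorem f385252 : Led Lsl_ff (LP (LK LD1_c3 LD2_c58 LD3_c55)) = (LP (LK LD1_c2 LD2_c26 LD3_c10)) :=
  Lgr Lrot30 (Lpr_at (K18.f176001 IH) (Lpr_ft (K30.f385250 IH) (Lpr_at (K30.f172602 IH) (Lpn (LP (LK LD1_c2 LD2_c26 LD3_c10))))))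
theorem f175988 : Led Lsl_gt (LP (LK LD1_c3 LD2_c58 LD3_c54)) = (LP (LK LD1_c1 LD2_c56 LD3_c12)) :=
  Lre_g IH (LK LD1_c3 LD2_c58 LD3_c54) (LK LD1_c1 LD2_c56 LD3_c12) Lrfl Lrfl
theorem f386172 : Led Lsl_gf (LP (LK LD1_c3 LD2_c58 LD3_c54)) = (LP (LK LD1_c2 LD2_c26 LD3_c10)) :=
  Lgr Lrot47 (Lpr_gt (f175988 IH) (Lpe (K18.f176001 IH) (Lpr_ff (f385252 IH) (Lpn (LP (LK LD1_c2 LD2_c26 LD3_c10))))))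
theorem f255117 : Led Lsl_ct (LP (LK LD1_c3 LD2_c58 LD3_c54)) = (LP (LK LD1_c7 LD2_c59 LD3_c7)) :=
  Lre_c IH (LK LD1_c3 LD2_c58 LD3_c54) (LK LD1_c7 LD2_c59 LD3_c7) Lrfl Lrfl
theorem f255119 : Led Lsl_dt (LP (LK LD1_c7 LD2_c59 LD3_c7)) = (LP (LK LD1_c15 LD2_c3 LD3_c48)) :=
  Lre_d IH (LK LD1_c7 LD2_c59 LD3_c7) (LK LD1_c15 LD2_c3 LD3_c48) Lrfl Lrfl
theorem f269026 : Led Lsl_gt (LP (LK LD1_c5 LD2_c41 LD3_c40)) = (LP (LK LD1_c9 LD2_c2 LD3_c31)) :=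
  Lgr Lrot46 (Lpe (f181682 IH) (Lpr_ft (K16.f269009 IH) (Lpr_at (K16.f181365 IH) (Lpn (LP (LK LD1_c9 LD2_c2 LD3_c31))))))
theorem f269011 : Led Lsl_ct (LP (LK LD1_c9 LD2_c2 LD3_c31)) = (LP (LK LD1_c16 LD2_c52 LD3_c50)) :=
  Lre_c IH (LK LD1_c9 LD2_c2 LD3_c31) (LK LD1_c16 LD2_c52 LD3_c50) Lrfl Lrfl
theorem f269004 : Led Lsl_df (LP (LK LD1_c11 LD2_c14 LD3_c3)) = (LP (LK LD1_c16 LD2_c52 LD3_c50)) :=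
  Lgr Lrot38 (Lpr_dt (K16.f268992 IH) (Lpn (LP (LK LD1_c16 LD2_c52 LD3_c50))))
theorem f281756 : Led Lsl_ft (LP (LK LD1_c11 LD2_c13 LD3_c13)) = (LP (LK LD1_c16 LD2_c52 LD3_c50)) :=
  Lgr Lrot54 (Lpr_df (K16.f269047 IH) (Lpr_ff (K31.f281749 IH) (Lpr_df (f269004 IH) (Lpn (LP (LK LD1_c16 LD2_c52 LD3_c50))))))
theorem f281761 : Led Lsl_ff (LP (LK LD1_c11 LD2_c13 LD3_c13)) = (LP (LK LD1_c16 LD2_c52 LD3_c50)) :=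
  Lgr Lrot3 (Lpr_ft (f281756 IH) (Lpn (LP (LK LD1_c16 LD2_c52 LD3_c50))))
theorem f181661 : Led Lsl_gt (LP (LK LD1_c11 LD2_c13 LD3_c34)) = (LP (LK LD1_c5 LD2_c41 LD3_c42)) :=
  Lre_g IH (LK LD1_c11 LD2_c13 LD3_c34) (LK LD1_c5 LD2_c41 LD3_c42) Lrfl Lrfl
theorem f281768 : Led Lsl_gf (LP (LK LD1_c11 LD2_c13 LD3_c34)) = (LP (LK LD1_c16 LD2_c52 LD3_c50)) :=
  Lgr Lrot47 (Lpr_gt (f181661 IH) (Lpe (K30.f269049 IH) (Lpr_ff (f281761 IH) (Lpn (LP (LK LD1_c16 LD2_c52 LD3_c50))))))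
theorem f549909 : Led Lsl_cf (LP (LK LD1_c15 LD2_c3 LD3_c48)) = (LP (LK LD1_c11 LD2_c13 LD3_c34)) :=
  Lgr Lrot99 (Lpe (f255119 IH) (Lpe (f255117 IH) (Lpr_gf (f386172 IH) (Lpe (K30.f172633 IH) (Lpe (K37.f541657 IH) (Lpr_df (f549894 IH) (Lpr_gt (f269026 IH) (Lpr_ct (f269011 IH) (Lpe (f281768 IH) (Lpn (LP (LK LD1_c11 LD2_c13 LD3_c34))))))))))))
theorem f549912 : Led Lsl_ct (LP (LK LD1_c15 LD2_c3 LD3_c48)) = (LP (LK LD1_c11 LD2_c13 LD3_c34)) :=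
  Lgr Lrot59 (Lpr_cf (f549909 IH) (Lpn (LP (LK LD1_c11 LD2_c13 LD3_c34))))
theorem f237627 : Led Lsl_gt (LP (LK LD1_c4 LD2_c23 LD3_c4)) = (LP (LK LD1_c8 LD2_c43 LD3_c54)) :=
  Lre_g IH (LK LD1_c4 LD2_c23 LD3_c4) (LK LD1_c8 LD2_c43 LD3_c54) Lrfl Lrfl
theorem f549933 : Led Lsl_bt (LP (LK LD1_c15 LD2_c3 LD3_c48)) = (LP (LK LD1_c8 LD2_c43 LD3_c54)) :=
  Lgr Lrot92 (Lpr_ct (f549912 IH) (Lpr_gt (f181661 IH) (Lpe (K30.f181660 IH) (Lpr_bt (K16.f181651 IH) (Lpr_gt (K13.f39206 IH) (Lpr_ct (K13.f237694 IH) (Lpe (K13.f237206 IH) (Lpe (K13.f237477 IH) (Lpr_bt (K16.f237626 IH) (Lpr_gt (f237627 IH) (Lpn (LP (LK LD1_c8 LD2_c43 LD3_c54)))))))))))))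
theorem f244349 : Led Lsl_bt (LP (LK LD1_c1 LD2_c55 LD3_c24)) = (LP (LK LD1_c3 LD2_c57 LD3_c17)) :=
  Lre_b IH (LK LD1_c1 LD2_c55 LD3_c24) (LK LD1_c3 LD2_c57 LD3_c17) Lrfl Lrfl
theorem f244350 : Led Lsl_gt (LP (LK LD1_c3 LD2_c57 LD3_c17)) = (LP (LK LD1_c7 LD2_c56 LD3_c12)) :=
  Lre_g IH (LK LD1_c3 LD2_c57 LD3_c17) (LK LD1_c7 LD2_c56 LD3_c12) Lrfl Lrfl
theorem f193576 : Led Lsl_ct (LP (LK LD1_c7 LD2_c59 LD3_c7)) = (LP (LK LD1_c3 LD2_c58 LD3_c54)) :=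
  Lre_c IH (LK LD1_c7 LD2_c59 LD3_c7) (LK LD1_c3 LD2_c58 LD3_c54) Lrfl Lrfl
theorem f255111 : Led Lsl_bf (LP (LK LD1_c7 LD2_c56 LD3_c12)) = (LP (LK LD1_c7 LD2_c59 LD3_c7)) :=
  Lgr Lrot34 (Lpe (f244350 IH) (Lpe (f244349 IH) (Lpr_ct (K11.f174948 IH) (Lpe (K14.f255109 IH) (Lpe (K14.f182338 IH) (Lpr_gf (K14.f255107 IH) (Lpe (K30.f175986 IH) (Lpr_ct (K30.f175984 IH) (Lpe (f175988 IH) (Lpe (f193576 IH) (Lpn (LP (LK LD1_c7 LD2_c59 LD3_c7)))))))))))))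
theorem f255115 : Led Lsl_bt (LP (LK LD1_c7 LD2_c56 LD3_c12)) = (LP (LK LD1_c7 LD2_c59 LD3_c7)) :=
  Lgr Lrot127 (Lpr_bf (f255111 IH) (Lpn (LP (LK LD1_c7 LD2_c59 LD3_c7))))
theorem f549937 : Led Lsl_df (LP (LK LD1_c7 LD2_c56 LD3_c12)) = (LP (LK LD1_c8 LD2_c43 LD3_c54)) :=
  Lgr Lrot12 (Lpr_bt (f255115 IH) (Lpr_dt (f255119 IH) (Lpr_bt (f549933 IH) (Lpn (LP (LK LD1_c8 LD2_c43 LD3_c54))))))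
theorem f331820 : Led Lsl_gf (LP (LK LD1_c4 LD2_c22 LD3_c48)) = (LP (LK LD1_c7 LD2_c56 LD3_c12)) :=
  Lgr Lrot76 (Lpe (K18.f225114 IH) (Lpr_ff (K22.f331816 IH) (Lpr_gt (f244350 IH) (Lpn (LP (LK LD1_c7 LD2_c56 LD3_c12))))))
theorem f238973 : Led Lsl_gt (LP (LK LD1_c8 LD2_c43 LD3_c56)) = (LP (LK LD1_c16 LD2_c21 LD3_c5)) :=
  Lre_g IH (LK LD1_c8 LD2_c43 LD3_c56) (LK LD1_c16 LD2_c21 LD3_c5) Lrfl Lrfl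
theorem f549947 : Led Lsl_df (LP (LK LD1_c10 LD2_c38 LD3_c45)) = (LP (LK LD1_c16 LD2_c21 LD3_c5)) :=
  Lgr Lrot153 (Lpe (K22.f331743 IH) (Lpe (K18.f297418 IH) (Lpe (K22.f237459 IH) (Lpe (K22.f225127 IH) (Lpr_gf (f331820 IH) (Lpr_df (f549937 IH) (Lpe (f237627 IH) (Lpe (K16.f237614 IH) (Lpr_gt (f238973 IH) (Lpn (LP (LK LD1_c16 LD2_c21 LD3_c5))))))))))))
theorem f331721 : Led Lsl_ct (LP (LK LD1_c10 LD2_c38 LD3_c45)) = (LP (LK LD1_c5 LD2_c24 LD3_c12)) :=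
  Lre_c IH (LK LD1_c10 LD2_c38 LD3_c45) (LK LD1_c5 LD2_c24 LD3_c12) Lrfl Lrfl
theorem f331720 : Led Lsl_dt (LP (LK LD1_c10 LD2_c39 LD3_c9)) = (LP (LK LD1_c5 LD2_c24 LD3_c12)) :=
  Lre_d IH (LK LD1_c10 LD2_c39 LD3_c9) (LK LD1_c5 LD2_c24 LD3_c12) Lrfl Lrfl
theorem f197795 : Led Lsl_gt (LP (LK LD1_c2 LD2_c38 LD3_c0)) = (LP (LK LD1_c5 LD2_c22 LD3_c61)) :=
  Lre_g IH (LK LD1_c2 LD2_c38 LD3_c0) (LK LD1_c5 LD2_c22 LD3_c61) Lrfl Lrfl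
theorem f197796 : Led Lsl_dt (LP (LK LD1_c5 LD2_c22 LD3_c61)) = (LP (LK LD1_c10 LD2_c36 LD3_c23)) :=
  Lre_d IH (LK LD1_c5 LD2_c22 LD3_c61) (LK LD1_c10 LD2_c36 LD3_c23) Lrfl Lrfl
theorem f549957 : Led Lsl_gf (LP (LK LD1_c10 LD2_c39 LD3_c9)) = (LP (LK LD1_c10 LD2_c36 LD3_c23)) :=
  Lgr Lrot143 (Lpr_dt (f331720 IH) (Lpe (f331721 IH) (Lpr_df (f549947 IH) (Lpe (f238973 IH) (Lpr_df (f403062 IH) (Lpe (K31.f182173 IH) (Lpe (K31.f228409 IH) (Lpr_gt (f197795 IH) (Lpr_dt (f197796 IH) (Lpn (LP (LK LD1_c10 LD2_c36 LD3_c23))))))))))))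
theorem f312862 : Led Lsl_bt (LP (LK LD1_c19 LD2_c14 LD3_c28)) = (LP (LK LD1_c10 LD2_c37 LD3_c25)) :=
  Lre_b IH (LK LD1_c19 LD2_c14 LD3_c28) (LK LD1_c10 LD2_c37 LD3_c25) Lrfl Lrfl
theorem f224760 : Led Lsl_at (LP (LK LD1_c19 LD2_c3 LD3_c61)) = (LP (LK LD1_c10 LD2_c31 LD3_c11)) :=
  Lre_a IH (LK LD1_c19 LD2_c3 LD3_c61) (LK LD1_c10 LD2_c31 LD3_c11) Lrfl Lrfl
theorem f169223 : Led Lsl_at (LP (LK LD1_c5 LD2_c23 LD3_c33)) = (LP (LK LD1_c10 LD2_c37 LD3_c37)) :=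
  Lre_a IH (LK LD1_c5 LD2_c23 LD3_c33) (LK LD1_c10 LD2_c37 LD3_c37) Lrfl Lrfl
theorem f310900 : Led Lsl_bf (LP (LK LD1_c19 LD2_c3 LD3_c61)) = (LP (LK LD1_c10 LD2_c37 LD3_c37)) :=
  Lgr Lrot81 (Lpr_at (f224760 IH) (Lpr_bt (K19.f224748 IH) (Lpr_at (K19.f310896 IH) (Lpr_bt (K16.f169162 IH) (Lpr_at (f169223 IH) (Lpn (LP (LK LD1_c10 LD2_c37 LD3_c37))))))))
theorem f169224 : Led Lsl_at (LP (LK LD1_c10 LD2_c31 LD3_c16)) = (LP (LK LD1_c5 LD2_c20 LD3_c37)) :=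
  Lre_a IH (LK LD1_c10 LD2_c31 LD3_c16) (LK LD1_c5 LD2_c20 LD3_c37) Lrfl Lrfl
theorem f169225 : Led Lsl_ct (LP (LK LD1_c10 LD2_c37 LD3_c37)) = (LP (LK LD1_c10 LD2_c31 LD3_c16)) :=
  Lgr Lrot111 (Lpe (f169223 IH) (Lpr_cf (f169219 IH) (Lpe (f169224 IH) (Lpn (LP (LK LD1_c10 LD2_c31 LD3_c16))))))
theorem f169241 : Led Lsl_cf (LP (LK LD1_c10 LD2_c37 LD3_c37)) = (LP (LK LD1_c10 LD2_c31 LD3_c16)) :=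
  Lgr Lrot11 (Lpr_ct (f169225 IH) (Lpn (LP (LK LD1_c10 LD2_c31 LD3_c16))))
theorem f312895 : Led Lsl_bt (LP (LK LD1_c5 LD2_c23 LD3_c42)) = (LP (LK LD1_c10 LD2_c31 LD3_c16)) :=
  Lgr Lrot128 (Lpe (K19.f303291 IH) (Lpe (f312862 IH) (Lpr_cf (K19.f312892 IH) (Lpr_bf (f310900 IH) (Lpr_cf (f169241 IH) (Lpn (LP (LK LD1_c10 LD2_c31 LD3_c16))))))))
theorem f312901 : Led Lsl_bf (LP (LK LD1_c5 LD2_c23 LD3_c42)) = (LP (LK LD1_c10 LD2_c31 LD3_c16)) :=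
  Lgr Lrot24 (Lpr_bt (f312895 IH) (Lpn (LP (LK LD1_c10 LD2_c31 LD3_c16))))
theorem f312755 : Led Lsl_ct (LP (LK LD1_c5 LD2_c23 LD3_c42)) = (LP (LK LD1_c10 LD2_c37 LD3_c25)) :=
  Lre_c IH (LK LD1_c5 LD2_c23 LD3_c42) (LK LD1_c10 LD2_c37 LD3_c25) Lrfl Lrfl
theorem f312903 : Led Lsl_bt (LP (LK LD1_c19 LD2_c3 LD3_c61)) = (LP (LK LD1_c10 LD2_c37 LD3_c37)) :=
  Lgr Lrot128 (Lpe (K19.f312897 IH) (Lpe (K19.f303290 IH) (Lpe (f312755 IH) (Lpr_bf (f312901 IH) (Lpe (f169225 IH) (Lpn (LP (LK LD1_c10 LD2_c37 LD3_c37))))))))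
theorem f196734 : Led Lsl_at (LP (LK LD1_c5 LD2_c22 LD3_c36)) = (LP (LK LD1_c10 LD2_c35 LD3_c33)) :=
  Lre_a IH (LK LD1_c5 LD2_c22 LD3_c36) (LK LD1_c10 LD2_c35 LD3_c33) Lrfl Lrfl
theorem f312704 : Led Lsl_ft (LP (LK LD1_c10 LD2_c35 LD3_c33)) = (LP (LK LD1_c19 LD2_c3 LD3_c61)) :=
  Lgr Lrot101 (Lpe (f196734 IH) (Lpr_ff (K19.f312699 IH) (Lpe (f224760 IH) (Lpn (LP (LK LD1_c19 LD2_c3 LD3_c61))))))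
theorem f196725 : Led Lsl_bt (LP (LK LD1_c5 LD2_c22 LD3_c36)) = (LP (LK LD1_c2 LD2_c37 LD3_c51)) :=
  Lre_b IH (LK LD1_c5 LD2_c22 LD3_c36) (LK LD1_c2 LD2_c37 LD3_c51) Lrfl Lrfl
theorem f312684 : Led Lsl_at (LP (LK LD1_c5 LD2_c22 LD3_c19)) = (LP (LK LD1_c10 LD2_c35 LD3_c5)) :=
  Lre_a IH (LK LD1_c5 LD2_c22 LD3_c19) (LK LD1_c10 LD2_c35 LD3_c5) Lrfl Lrfl
theorem f312685 : Led Lsl_bf (LP (LK LD1_c10 LD2_c35 LD3_c33)) = (LP (LK LD1_c10 LD2_c35 LD3_c5)) :=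
  Lgr Lrot81 (Lpr_at (K19.f196755 IH) (Lpr_bt (f196725 IH) (Lpr_at (K19.f312681 IH) (Lpr_bt (f182172 IH) (Lpr_at (f312684 IH) (Lpn (LP (LK LD1_c10 LD2_c35 LD3_c5))))))))
theorem f312905 : Led Lsl_ff (LP (LK LD1_c10 LD2_c35 LD3_c5)) = (LP (LK LD1_c10 LD2_c37 LD3_c37)) :=
  Lgr Lrot25 (Lpe (f312685 IH) (Lpr_ft (f312704 IH) (Lpr_bt (f312903 IH) (Lpn (LP (LK LD1_c10 LD2_c37 LD3_c37))))))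
theorem f312911 : Led Lsl_ft (LP (LK LD1_c10 LD2_c35 LD3_c5)) = (LP (LK LD1_c10 LD2_c37 LD3_c37)) :=
  Lgr Lrot48 (Lpr_ff (f312905 IH) (Lpn (LP (LK LD1_c10 LD2_c37 LD3_c37))))
theorem f312918 : Led Lsl_ct (LP (LK LD1_c5 LD2_c23 LD3_c1)) = (LP (LK LD1_c10 LD2_c35 LD3_c5)) :=
  Lre_c IH (LK LD1_c5 LD2_c23 LD3_c1) (LK LD1_c10 LD2_c35 LD3_c5) Lrfl Lrfl
theorem f312919 : Led Lsl_ff (LP (LK LD1_c5 LD2_c23 LD3_c1)) = (LP (LK LD1_c10 LD2_c31 LD3_c16)) :=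
  Lgr Lrot23 (Lpr_ct (f312918 IH) (Lpr_ft (f312911 IH) (Lpr_ct (f169225 IH) (Lpn (LP (LK LD1_c10 LD2_c31 LD3_c16))))))
theorem f312925 : Led Lsl_at (LP (LK LD1_c5 LD2_c23 LD3_c1)) = (LP (LK LD1_c2 LD2_c38 LD3_c0)) :=
  Lre_a IH (LK LD1_c5 LD2_c23 LD3_c1) (LK LD1_c2 LD2_c38 LD3_c0) Lrfl Lrfl
theorem f169243 : Led Lsl_at (LP (LK LD1_c5 LD2_c20 LD3_c37)) = (LP (LK LD1_c10 LD2_c31 LD3_c16)) :=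
  Lre_a IH (LK LD1_c5 LD2_c20 LD3_c37) (LK LD1_c10 LD2_c31 LD3_c16) Lrfl Lrfl
theorem f312926 : Led Lsl_ft (LP (LK LD1_c2 LD2_c38 LD3_c0)) = (LP (LK LD1_c5 LD2_c20 LD3_c37)) :=
  Lgr Lrot101 (Lpe (f312925 IH) (Lpr_ff (f312919 IH) (Lpe (f169243 IH) (Lpn (LP (LK LD1_c5 LD2_c20 LD3_c37))))))
theorem f312963 : Led Lsl_gt (LP (LK LD1_c5 LD2_c22 LD3_c61)) = (LP (LK LD1_c10 LD2_c31 LD3_c16)) :=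
  Lgr Lrot46 (Lpe (f197795 IH) (Lpr_ft (f312926 IH) (Lpr_at (f169243 IH) (Lpn (LP (LK LD1_c10 LD2_c31 LD3_c16))))))
theorem f312907 : Led Lsl_at (LP (LK LD1_c10 LD2_c35 LD3_c5)) = (LP (LK LD1_c5 LD2_c22 LD3_c19)) :=
  Lre_a IH (LK LD1_c10 LD2_c35 LD3_c5) (LK LD1_c5 LD2_c22 LD3_c19) Lrfl Lrfl
theorem f312913 : Led Lsl_gf (LP (LK LD1_c10 LD2_c35 LD3_c4)) = (LP (LK LD1_c10 LD2_c37 LD3_c37)) :=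
  Lgr Lrot47 (Lpr_gt (K31.f228410 IH) (Lpe (f312907 IH) (Lpr_ff (f312905 IH) (Lpn (LP (LK LD1_c10 LD2_c37 LD3_c37))))))
theorem f237722 : Led Lsl_gt (LP (LK LD1_c8 LD2_c44 LD3_c10)) = (LP (LK LD1_c4 LD2_c23 LD3_c14)) :=
  Lre_g IH (LK LD1_c8 LD2_c44 LD3_c10) (LK LD1_c4 LD2_c23 LD3_c14) Lrfl Lrfl
theorem f549961 : Led Lsl_ct (LP (LK LD1_c10 LD2_c39 LD3_c9)) = (LP (LK LD1_c8 LD2_c44 LD3_c10)) :=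
  Lgr Lrot152 (Lpr_gf (f549957 IH) (Lpe (f197796 IH) (Lpr_gt (f312963 IH) (Lpe (f169241 IH) (Lpe (f312913 IH) (Lpr_ct (f388746 IH) (Lpe (f388748 IH) (Lpe (f237286 IH) (Lpe (f237722 IH) (Lpn (LP (LK LD1_c8 LD2_c44 LD3_c10))))))))))))
theorem f312965 : Led Lsl_dt (LP (LK LD1_c2 LD2_c38 LD3_c0)) = (LP (LK LD1_c5 LD2_c23 LD3_c2)) :=
  Lre_d IH (LK LD1_c2 LD2_c38 LD3_c0) (LK LD1_c5 LD2_c23 LD3_c2) Lrfl Lrfl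
theorem f228689 : Led Lsl_gt (LP (LK LD1_c5 LD2_c23 LD3_c0)) = (LP (LK LD1_c2 LD2_c38 LD3_c0)) :=
  Lre_g IH (LK LD1_c5 LD2_c23 LD3_c0) (LK LD1_c2 LD2_c38 LD3_c0) Lrfl Lrfl
theorem f228712 : Led Lsl_dt (LP (LK LD1_c10 LD2_c36 LD3_c27)) = (LP (LK LD1_c5 LD2_c23 LD3_c0)) :=
  Lre_d IH (LK LD1_c10 LD2_c36 LD3_c27) (LK LD1_c5 LD2_c23 LD3_c0) Lrfl Lrfl
theorem f549972 : Led Lsl_gt (LP (LK LD1_c10 LD2_c39 LD3_c9)) = (LP (LK LD1_c10 LD2_c36 LD3_c27)) :=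
  Lgr Lrot180 (Lpr_ct (f549961 IH) (Lpr_gt (f237722 IH) (Lpr_dt (f388759 IH) (Lpr_gt (K31.f29619 IH) (Lpr_dt (K31.f29620 IH) (Lpe (K31.f403270 IH) (Lpe (f312965 IH) (Lpe (f228689 IH) (Lpe (f228712 IH) (Lpn (LP (LK LD1_c10 LD2_c36 LD3_c27))))))))))))
theorem f331658 : Led Lsl_at (LP (LK LD1_c19 LD2_c4 LD3_c39)) = (LP (LK LD1_c10 LD2_c31 LD3_c47)) :=
  Lre_a IH (LK LD1_c19 LD2_c4 LD3_c39) (LK LD1_c10 LD2_c31 LD3_c47) Lrfl Lrfl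
theorem f549974 : Led Lsl_gf (LP (LK LD1_c10 LD2_c31 LD3_c47)) = (LP (LK LD1_c10 LD2_c36 LD3_c27)) :=
  Lgr Lrot76 (Lpe (f331658 IH) (Lpr_ff (K22.f331751 IH) (Lpr_gt (f549972 IH) (Lpn (LP (LK LD1_c10 LD2_c36 LD3_c27))))))
theorem f168706 : Led Lsl_dt (LP (LK LD1_c10 LD2_c31 LD3_c47)) = (LP (LK LD1_c5 LD2_c20 LD3_c50)) :=
  Lre_d IH (LK LD1_c10 LD2_c31 LD3_c47) (LK LD1_c5 LD2_c20 LD3_c50) Lrfl Lrfl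
theorem f168708 : Led Lsl_dt (LP (LK LD1_c9 LD2_c42 LD3_c59)) = (LP (LK LD1_c4 LD2_c55 LD3_c37)) :=
  Lre_d IH (LK LD1_c9 LD2_c42 LD3_c59) (LK LD1_c4 LD2_c55 LD3_c37) Lrfl Lrfl
theorem f168709 : Led Lsl_gt (LP (LK LD1_c17 LD2_c52 LD3_c6)) = (LP (LK LD1_c9 LD2_c42 LD3_c59)) :=
  Lre_g IH (LK LD1_c17 LD2_c52 LD3_c6) (LK LD1_c9 LD2_c42 LD3_c59) Lrfl Lrfl
theorem f312935 : Led Lsl_dt (LP (LK LD1_c5 LD2_c23 LD3_c0)) = (LP (LK LD1_c10 LD2_c36 LD3_c27)) :=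
  Lre_d IH (LK LD1_c5 LD2_c23 LD3_c0) (LK LD1_c10 LD2_c36 LD3_c27) Lrfl Lrfl
theorem f312932 : Led Lsl_gf (LP (LK LD1_c5 LD2_c23 LD3_c0)) = (LP (LK LD1_c10 LD2_c31 LD3_c16)) :=
  Lgr Lrot47 (Lpr_gt (f228689 IH) (Lpe (f312925 IH) (Lpr_ff (f312919 IH) (Lpn (LP (LK LD1_c10 LD2_c31 LD3_c16))))))
theorem f549978 : Led Lsl_df (LP (LK LD1_c17 LD2_c52 LD3_c6)) = (LP (LK LD1_c10 LD2_c35 LD3_c4)) :=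
  Lgr Lrot153 (Lpr_gt (f168709 IH) (Lpr_dt (f168708 IH) (Lpr_cf (K18.f168698 IH) (Lpe (f168706 IH) (Lpr_gf (f549974 IH) (Lpe (f312935 IH) (Lpr_gf (f312932 IH) (Lpe (f169225 IH) (Lpe (f312913 IH) (Lpn (LP (LK LD1_c10 LD2_c35 LD3_c4))))))))))))
theorem f549982 : Led Lsl_dt (LP (LK LD1_c17 LD2_c52 LD3_c6)) = (LP (LK LD1_c10 LD2_c35 LD3_c4)) :=
  Lgr Lrot42 (Lpr_df (f549978 IH) (Lpn (LP (LK LD1_c10 LD2_c35 LD3_c4))))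
theorem f403135 : Led Lsl_af (LP (LK LD1_c10 LD2_c37 LD3_c35)) = (LP (LK LD1_c10 LD2_c35 LD3_c4)) :=
  Lgr Lrot45 (Lpr_ft (f403069 IH) (Lpe (f403097 IH) (Lpr_ft (f403133 IH) (Lpn (LP (LK LD1_c10 LD2_c35 LD3_c4))))))
theorem f549984 : Led Lsl_af (LP (LK LD1_c17 LD2_c52 LD3_c6)) = (LP (LK LD1_c14 LD2_c58 LD3_c29)) :=
  Lgr Lrot117 (Lpr_dt (f549982 IH) (Lpe (f403135 IH) (Lpe (K16.f238825 IH) (Lpn (LP (LK LD1_c14 LD2_c58 LD3_c29))))))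
theorem f549986 : Led Lsl_gf (LP (LK LD1_c17 LD2_c52 LD3_c6)) = (LP (LK LD1_c16 LD2_c21 LD3_c5)) :=
  Lgr Lrot76 (Lpr_af (f549984 IH) (Lpr_ff (K16.f280023 IH) (Lpr_gt (f238973 IH) (Lpn (LP (LK LD1_c16 LD2_c21 LD3_c5))))))
theorem f237287 : Led Lsl_gt (LP (LK LD1_c16 LD2_c21 LD3_c30)) = (LP (LK LD1_c8 LD2_c44 LD3_c11)) :=
  Lre_g IH (LK LD1_c16 LD2_c21 LD3_c30) (LK LD1_c8 LD2_c44 LD3_c11) Lrfl Lrfl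
theorem f549953 : Led Lsl_dt (LP (LK LD1_c10 LD2_c38 LD3_c45)) = (LP (LK LD1_c16 LD2_c21 LD3_c5)) :=
  Lgr Lrot42 (Lpr_df (f549947 IH) (Lpn (LP (LK LD1_c16 LD2_c21 LD3_c5))))
theorem f549990 : Led Lsl_df (LP (LK LD1_c16 LD2_c21 LD3_c30)) = (LP (LK LD1_c19 LD2_c19 LD3_c29)) :=
  Lgr Lrot153 (Lpr_gt (f237287 IH) (Lpr_dt (f388748 IH) (Lpe (f388746 IH) (Lpe (f549982 IH) (Lpr_gf (f549986 IH) (Lpe (f549953 IH) (Lpe (K22.f331745 IH) (Lpe (K22.f331788 IH) (Lpe (K22.f331831 IH) (Lpn (LP (LK LD1_c19 LD2_c19 LD3_c29))))))))))))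
theorem f237724 : Led Lsl_gt (LP (LK LD1_c4 LD2_c23 LD3_c14)) = (LP (LK LD1_c8 LD2_c44 LD3_c9)) :=
  Lre_g IH (LK LD1_c4 LD2_c23 LD3_c14) (LK LD1_c8 LD2_c44 LD3_c9) Lrfl Lrfl
theorem f167930 : Led Lsl_ct (LP (LK LD1_c4 LD2_c55 LD3_c37)) = (LP (LK LD1_c5 LD2_c20 LD3_c50)) :=
  Lgr Lrot83 (Lpe (K18.f167928 IH) (Lpr_cf (K9.f167926 IH) (Lpe (K12.f42162 IH) (Lpe (K12.f42175 IH) (Lpe (K18.f167929 IH) (Lpn (LP (LK LD1_c5 LD2_c20 LD3_c50))))))))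
theorem f550001 : Led Lsl_ct (LP (LK LD1_c8 LD2_c44 LD3_c9)) = (LP (LK LD1_c10 LD2_c31 LD3_c47)) :=
  Lgr Lrot110 (Lpe (f237724 IH) (Lpe (K31.f237282 IH) (Lpe (f237287 IH) (Lpr_df (f549990 IH) (Lpr_gt (K22.f223759 IH) (Lpe (K18.f223757 IH) (Lpr_gt (K18.f168714 IH) (Lpr_ct (f167930 IH) (Lpe (f168706 IH) (Lpn (LP (LK LD1_c10 LD2_c31 LD3_c47))))))))))))
theorem f224794 : Led Lsl_bt (LP (LK LD1_c10 LD2_c31 LD3_c47)) = (LP (LK LD1_c5 LD2_c20 LD3_c51)) :=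
  Lre_b IH (LK LD1_c10 LD2_c31 LD3_c47) (LK LD1_c5 LD2_c20 LD3_c51) Lrfl Lrfl
theorem f2986 : Led Lsl_bt (LP (LK LD1_c1 LD2_c56 LD3_c41)) = (LP (LK LD1_c3 LD2_c59 LD3_c59)) :=
  Lre_b IH (LK LD1_c1 LD2_c56 LD3_c41) (LK LD1_c3 LD2_c59 LD3_c59) Lrfl Lrfl
theorem f2987 : Led Lsl_gt (LP (LK LD1_c3 LD2_c59 LD3_c59)) = (LP (LK LD1_c8 LD2_c0 LD3_c61)) :=
  Lre_g IH (LK LD1_c3 LD2_c59 LD3_c59) (LK LD1_c8 LD2_c0 LD3_c61) Lrfl Lrfl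
theorem f550011 : Led Lsl_df (LP (LK LD1_c8 LD2_c44 LD3_c9)) = (LP (LK LD1_c8 LD2_c0 LD3_c61)) :=
  Lgr Lrot183 (Lpr_ct (f550001 IH) (Lpr_bt (f224794 IH) (Lpe (K15.f264026 IH) (Lpr_dt (K15.f218686 IH) (Lpe (K12.f228406 IH) (Lpr_bt (K12.f179309 IH) (Lpr_gt (K12.f179308 IH) (Lpr_dt (K12.f182182 IH) (Lpr_ct (K9.f182174 IH) (Lpe (K20.f196946 IH) (Lpr_gt (K10.f2913 IH) (Lpe (K0.f2909 IH) (Lpr_ct (K0.f6890 IH) (Lpr_bt (K0.f2974 IH) (Lpr_gt (K10.f2983 IH) (Lpr_dt (K10.f2984 IH) (Lpr_ct (K12.f2985 IH) (Lpr_bt (f2986 IH) (Lpr_gt (f2987 IH) (Lpn (LP (LK LD1_c8 LD2_c0 LD3_c61))))))))))))))))))))))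
theorem f550013 : Led Lsl_dt (LP (LK LD1_c8 LD2_c44 LD3_c9)) = (LP (LK LD1_c8 LD2_c0 LD3_c61)) :=
  Lgr Lrot42 (Lpr_df (f550011 IH) (Lpn (LP (LK LD1_c8 LD2_c0 LD3_c61))))
theorem f297416 : Led Lsl_gf (LP (LK LD1_c8 LD2_c1 LD3_c43)) = (LP (LK LD1_c8 LD2_c0 LD3_c61)) :=
  Lgr Lrot76 (Lpe (K18.f69729 IH) (Lpr_ff (K18.f297410 IH) (Lpr_gt (f2987 IH) (Lpn (LP (LK LD1_c8 LD2_c0 LD3_c61))))))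
theorem f331801 : Led Lsl_dt (LP (LK LD1_c10 LD2_c41 LD3_c34)) = (LP (LK LD1_c5 LD2_c25 LD3_c18)) :=
  Lre_d IH (LK LD1_c10 LD2_c41 LD3_c34) (LK LD1_c5 LD2_c25 LD3_c18) Lrfl Lrfl
theorem f550019 : Led Lsl_gt (LP (LK LD1_c8 LD2_c44 LD3_c11)) = (LP (LK LD1_c10 LD2_c41 LD3_c34)) :=
  Lgr Lrot94 (Lpe (f237286 IH) (Lpr_gt (f237724 IH) (Lpr_dt (f550013 IH) (Lpe (f297416 IH) (Lpe (K22.f201536 IH) (Lpe (K22.f201535 IH) (Lpr_df (K22.f331822 IH) (Lpe (K22.f331787 IH) (Lpe (f331801 IH) (Lpn (LP (LK LD1_c10 LD2_c41 LD3_c34))))))))))))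
theorem f331800 : Led Lsl_gt (LP (LK LD1_c10 LD2_c41 LD3_c34)) = (LP (LK LD1_c19 LD2_c21 LD3_c18)) :=
  Lre_g IH (LK LD1_c10 LD2_c41 LD3_c34) (LK LD1_c19 LD2_c21 LD3_c18) Lrfl Lrfl
theorem f550023 : Led Lsl_at (LP (LK LD1_c14 LD2_c58 LD3_c33)) = (LP (LK LD1_c19 LD2_c21 LD3_c18)) :=
  Lgr Lrot26 (Lpr_ff (f403147 IH) (Lpr_gt (f550019 IH) (Lpr_gt (f331800 IH) (Lpn (LP (LK LD1_c19 LD2_c21 LD3_c18))))))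
theorem f403103 : Led Lsl_et (LP (LK LD1_c10 LD2_c37 LD3_c36)) = (LP (LK LD1_c19 LD2_c14 LD3_c61)) :=
  Lre_e IH (LK LD1_c10 LD2_c37 LD3_c36) (LK LD1_c19 LD2_c14 LD3_c61) Lrfl Lrfl
theorem f403068 : Led Lsl_et (LP (LK LD1_c19 LD2_c10 LD3_c36)) = (LP (LK LD1_c10 LD2_c35 LD3_c3)) :=
  Lre_e IH (LK LD1_c19 LD2_c10 LD3_c36) (LK LD1_c10 LD2_c35 LD3_c3) Lrfl Lrfl
theorem f403104 : Led Lsl_at (LP (LK LD1_c19 LD2_c14 LD3_c61)) = (LP (LK LD1_c19 LD2_c10 LD3_c36)) :=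
  Lgr Lrot80 (Lpe (f403103 IH) (Lpr_af (f403097 IH) (Lpe (f403068 IH) (Lpn (LP (LK LD1_c19 LD2_c10 LD3_c36))))))
theorem f257021 : Led Lsl_ct (LP (LK LD1_c28 LD2_c41 LD3_c27)) = (LP (LK LD1_c19 LD2_c14 LD3_c61)) :=
  Lre_c IH (LK LD1_c28 LD2_c41 LD3_c27) (LK LD1_c19 LD2_c14 LD3_c61) Lrfl Lrfl
theorem f403110 : Led Lsl_ct (LP (LK LD1_c19 LD2_c10 LD3_c36)) = (LP (LK LD1_c28 LD2_c36 LD3_c41)) :=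
  Lre_c IH (LK LD1_c19 LD2_c10 LD3_c36) (LK LD1_c28 LD2_c36 LD3_c41) Lrfl Lrfl
theorem f403111 : Led Lsl_af (LP (LK LD1_c28 LD2_c41 LD3_c27)) = (LP (LK LD1_c28 LD2_c36 LD3_c41)) :=
  Lgr Lrot68 (Lpr_ct (f257021 IH) (Lpr_at (f403104 IH) (Lpr_ct (f403110 IH) (Lpn (LP (LK LD1_c28 LD2_c36 LD3_c41))))))
theorem f403114 : Led Lsl_at (LP (LK LD1_c28 LD2_c41 LD3_c27)) = (LP (LK LD1_c28 LD2_c36 LD3_c41)) :=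
  Lgr Lrot100 (Lpr_af (f403111 IH) (Lpn (LP (LK LD1_c28 LD2_c36 LD3_c41))))
theorem f257023 : Led Lsl_et (LP (LK LD1_c19 LD2_c14 LD3_c60)) = (LP (LK LD1_c28 LD2_c41 LD3_c27)) :=
  Lre_e IH (LK LD1_c19 LD2_c14 LD3_c60) (LK LD1_c28 LD2_c41 LD3_c27) Lrfl Lrfl
theorem f403118 : Led Lsl_et (LP (LK LD1_c28 LD2_c36 LD3_c41)) = (LP (LK LD1_c19 LD2_c10 LD3_c35)) :=
  Lre_e IH (LK LD1_c28 LD2_c36 LD3_c41) (LK LD1_c19 LD2_c10 LD3_c35) Lrfl Lrfl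
theorem f403119 : Led Lsl_af (LP (LK LD1_c19 LD2_c14 LD3_c60)) = (LP (LK LD1_c19 LD2_c10 LD3_c35)) :=
  Lgr Lrot50 (Lpr_et (f257023 IH) (Lpr_at (f403114 IH) (Lpr_et (f403118 IH) (Lpn (LP (LK LD1_c19 LD2_c10 LD3_c35))))))
theorem f550031 : Led Lsl_df (LP (LK LD1_c19 LD2_c10 LD3_c35)) = (LP (LK LD1_c19 LD2_c21 LD3_c18)) :=
  Lgr Lrot18 (Lpe (f403119 IH) (Lpr_dt (f257025 IH) (Lpr_at (f550023 IH) (Lpn (LP (LK LD1_c19 LD2_c21 LD3_c18))))))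
theorem f403066 : Led Lsl_dt (LP (LK LD1_c8 LD2_c43 LD3_c56)) = (LP (LK LD1_c10 LD2_c35 LD3_c3)) :=
  Lgr Lrot42 (Lpr_df (f403062 IH) (Lpn (LP (LK LD1_c10 LD2_c35 LD3_c3))))
theorem f331799 : Led Lsl_dt (LP (LK LD1_c5 LD2_c25 LD3_c18)) = (LP (LK LD1_c10 LD2_c41 LD3_c34)) :=
  Lre_d IH (LK LD1_c5 LD2_c25 LD3_c18) (LK LD1_c10 LD2_c41 LD3_c34) Lrfl Lrfl
theorem f331847 : Led Lsl_at (LP (LK LD1_c10 LD2_c41 LD3_c33)) = (LP (LK LD1_c5 LD2_c25 LD3_c18)) :=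
  Lre_a IH (LK LD1_c10 LD2_c41 LD3_c33) (LK LD1_c5 LD2_c25 LD3_c18) Lrfl Lrfl
theorem f331848 : Led Lsl_ft (LP (LK LD1_c19 LD2_c19 LD3_c29)) = (LP (LK LD1_c10 LD2_c41 LD3_c33)) :=
  Lgr Lrot101 (Lpr_af (K22.f331834 IH) (Lpe (K22.f331833 IH) (Lpe (f331847 IH) (Lpn (LP (LK LD1_c10 LD2_c41 LD3_c33))))))
theorem f331854 : Led Lsl_gt (LP (LK LD1_c10 LD2_c40 LD3_c19)) = (LP (LK LD1_c5 LD2_c25 LD3_c18)) :=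
  Lgr Lrot46 (Lpe (K22.f223759 IH) (Lpr_ft (f331848 IH) (Lpr_at (f331847 IH) (Lpn (LP (LK LD1_c5 LD2_c25 LD3_c18))))))
theorem f168705 : Led Lsl_dt (LP (LK LD1_c4 LD2_c55 LD3_c37)) = (LP (LK LD1_c9 LD2_c42 LD3_c59)) :=
  Lre_d IH (LK LD1_c4 LD2_c55 LD3_c37) (LK LD1_c9 LD2_c42 LD3_c59) Lrfl Lrfl
theorem f550035 : Led Lsl_gf (LP (LK LD1_c8 LD2_c43 LD3_c56)) = (LP (LK LD1_c9 LD2_c42 LD3_c59)) :=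
  Lgr Lrot143 (Lpr_dt (f403066 IH) (Lpe (K31.f263746 IH) (Lpr_df (f550031 IH) (Lpe (f331800 IH) (Lpe (f331799 IH) (Lpe (f331854 IH) (Lpe (K22.f223769 IH) (Lpr_gt (K18.f168714 IH) (Lpr_dt (f168705 IH) (Lpn (LP (LK LD1_c9 LD2_c42 LD3_c59))))))))))))
theorem f237625 : Led Lsl_gt (LP (LK LD1_c8 LD2_c41 LD3_c48)) = (LP (LK LD1_c16 LD2_c17 LD3_c13)) :=
  Lre_g IH (LK LD1_c8 LD2_c41 LD3_c48) (LK LD1_c16 LD2_c17 LD3_c13) Lrfl Lrfl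
theorem f218498 : Led Lsl_bt (LP (LK LD1_c4 LD2_c55 LD3_c38)) = (LP (LK LD1_c9 LD2_c42 LD3_c59)) :=
  Lre_b IH (LK LD1_c4 LD2_c55 LD3_c38) (LK LD1_c9 LD2_c42 LD3_c59) Lrfl Lrfl
theorem f286854 : Led Lsl_ct (LP (LK LD1_c9 LD2_c41 LD3_c23)) = (LP (LK LD1_c5 LD2_c24 LD3_c16)) :=
  Lgr Lrot59 (Lpr_cf (K17.f286850 IH) (Lpn (LP (LK LD1_c5 LD2_c24 LD3_c16))))
theorem f286848 : Led Lsl_gf (LP (LK LD1_c9 LD2_c41 LD3_c23)) = (LP (LK LD1_c9 LD2_c40 LD3_c43)) :=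
  Lgr Lrot76 (Lpe (K17.f286843 IH) (Lpr_ff (K17.f286841 IH) (Lpe (K27.f277555 IH) (Lpn (LP (LK LD1_c9 LD2_c40 LD3_c43))))))
theorem f550043 : Led Lsl_cf (LP (LK LD1_c16 LD2_c17 LD3_c13)) = (LP (LK LD1_c17 LD2_c48 LD3_c16)) :=
  Lgr Lrot58 (Lpe (f237625 IH) (Lpe (K16.f237691 IH) (Lpe (K16.f237616 IH) (Lpr_gf (f550035 IH) (Lpe (f218498 IH) (Lpe (K14.f218390 IH) (Lpe (K17.f196821 IH) (Lpe (f286854 IH) (Lpr_gf (f286848 IH) (Lpe (K27.f218857 IH) (Lpn (LP (LK LD1_c17 LD2_c48 LD3_c16)))))))))))))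
theorem f280012 : Led Lsl_at (LP (LK LD1_c14 LD2_c57 LD3_c43)) = (LP (LK LD1_c24 LD2_c45 LD3_c5)) :=
  Lre_a IH (LK LD1_c14 LD2_c57 LD3_c43) (LK LD1_c24 LD2_c45 LD3_c5) Lrfl Lrfl
theorem f280020 : Led Lsl_gf (LP (LK LD1_c24 LD2_c45 LD3_c5)) = (LP (LK LD1_c16 LD2_c17 LD3_c13)) :=
  Lgr Lrot76 (Lpe (f280012 IH) (Lpr_ff (K16.f280010 IH) (Lpr_gt (f237625 IH) (Lpn (LP (LK LD1_c16 LD2_c17 LD3_c13))))))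
theorem f279922 : Led Lsl_dt (LP (LK LD1_c8 LD2_c41 LD3_c46)) = (LP (LK LD1_c16 LD2_c17 LD3_c11)) :=
  Lre_d IH (LK LD1_c8 LD2_c41 LD3_c46) (LK LD1_c16 LD2_c17 LD3_c11) Lrfl Lrfl
theorem f280101 : Led Lsl_ct (LP (LK LD1_c16 LD2_c17 LD3_c11)) = (LP (LK LD1_c26 LD2_c15 LD3_c4)) :=
  Lre_c IH (LK LD1_c16 LD2_c17 LD3_c11) (LK LD1_c26 LD2_c15 LD3_c4) Lrfl Lrfl
theorem f397105 : Led Lsl_ft (LP (LK LD1_c14 LD2_c57 LD3_c41)) = (LP (LK LD1_c8 LD2_c41 LD3_c46)) :=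
  Lgr Lrot48 (Lpr_ff (K30.f397099 IH) (Lpn (LP (LK LD1_c8 LD2_c41 LD3_c46))))
theorem f279980 : Led Lsl_ct (LP (LK LD1_c8 LD2_c41 LD3_c46)) = (LP (LK LD1_c16 LD2_c17 LD3_c10)) :=
  Lre_c IH (LK LD1_c8 LD2_c41 LD3_c46) (LK LD1_c16 LD2_c17 LD3_c10) Lrfl Lrfl
theorem f397109 : Led Lsl_ff (LP (LK LD1_c15 LD2_c37 LD3_c54)) = (LP (LK LD1_c16 LD2_c17 LD3_c10)) :=
  Lgr Lrot23 (Lpr_ct (K30.f236747 IH) (Lpr_ft (f397105 IH) (Lpr_ct (f279980 IH) (Lpn (LP (LK LD1_c16 LD2_c17 LD3_c10))))))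
theorem f397093 : Led Lsl_at (LP (LK LD1_c15 LD2_c37 LD3_c54)) = (LP (LK LD1_c16 LD2_c17 LD3_c6)) :=
  Lgr Lrot100 (Lpr_af (K30.f397091 IH) (Lpn (LP (LK LD1_c16 LD2_c17 LD3_c6))))
theorem f263784 : Led Lsl_dt (LP (LK LD1_c16 LD2_c17 LD3_c7)) = (LP (LK LD1_c8 LD2_c41 LD3_c45)) :=
  Lre_d IH (LK LD1_c16 LD2_c17 LD3_c7) (LK LD1_c8 LD2_c41 LD3_c45) Lrfl Lrfl
theorem f263755 : Led Lsl_dt (LP (LK LD1_c4 LD2_c55 LD3_c11)) = (LP (LK LD1_c9 LD2_c41 LD3_c56)) :=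
  Lre_d IH (LK LD1_c4 LD2_c55 LD3_c11) (LK LD1_c9 LD2_c41 LD3_c56) Lrfl Lrfl
theorem f235784 : Led Lsl_ct (LP (LK LD1_c9 LD2_c41 LD3_c44)) = (LP (LK LD1_c4 LD2_c55 LD3_c11)) :=
  Lre_c IH (LK LD1_c9 LD2_c41 LD3_c44) (LK LD1_c4 LD2_c55 LD3_c11) Lrfl Lrfl
theorem f263731 : Led Lsl_dt (LP (LK LD1_c17 LD2_c50 LD3_c7)) = (LP (LK LD1_c9 LD2_c41 LD3_c44)) :=
  Lre_d IH (LK LD1_c17 LD2_c50 LD3_c7) (LK LD1_c9 LD2_c41 LD3_c44) Lrfl Lrfl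
theorem f279984 : Led Lsl_dt (LP (LK LD1_c16 LD2_c17 LD3_c10)) = (LP (LK LD1_c26 LD2_c15 LD3_c3)) :=
  Lre_d IH (LK LD1_c16 LD2_c17 LD3_c10) (LK LD1_c26 LD2_c15 LD3_c3) Lrfl Lrfl
theorem f397115 : Led Lsl_cf (LP (LK LD1_c17 LD2_c50 LD3_c7)) = (LP (LK LD1_c26 LD2_c15 LD3_c3)) :=
  Lgr Lrot118 (Lpr_dt (f263731 IH) (Lpr_ct (f235784 IH) (Lpr_dt (f263755 IH) (Lpe (K15.f263773 IH) (Lpr_dt (f263784 IH) (Lpr_ct (K30.f229795 IH) (Lpe (f397093 IH) (Lpr_ff (f397109 IH) (Lpr_dt (f279984 IH) (Lpn (LP (LK LD1_c26 LD2_c15 LD3_c3))))))))))))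
theorem f349197 : Led Lsl_at (LP (LK LD1_c9 LD2_c41 LD3_c55)) = (LP (LK LD1_c4 LD2_c55 LD3_c11)) :=
  Lre_a IH (LK LD1_c9 LD2_c41 LD3_c55) (LK LD1_c4 LD2_c55 LD3_c11) Lrfl Lrfl
theorem f188714 : Led Lsl_at (LP (LK LD1_c9 LD2_c40 LD3_c36)) = (LP (LK LD1_c17 LD2_c48 LD3_c4)) :=
  Lre_a IH (LK LD1_c9 LD2_c40 LD3_c36) (LK LD1_c17 LD2_c48 LD3_c4) Lrfl Lrfl
theorem f349198 : Led Lsl_ft (LP (LK LD1_c17 LD2_c48 LD3_c4)) = (LP (LK LD1_c9 LD2_c41 LD3_c55)) :=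
  Lgr Lrot101 (Lpe (f188714 IH) (Lpr_ff (K26.f349188 IH) (Lpe (f349197 IH) (Lpn (LP (LK LD1_c9 LD2_c41 LD3_c55))))))
theorem f279924 : Led Lsl_dt (LP (LK LD1_c16 LD2_c17 LD3_c11)) = (LP (LK LD1_c8 LD2_c41 LD3_c46)) :=
  Lre_d IH (LK LD1_c16 LD2_c17 LD3_c11) (LK LD1_c8 LD2_c41 LD3_c46) Lrfl Lrfl
theorem f280102 : Led Lsl_ct (LP (LK LD1_c26 LD2_c15 LD3_c4)) = (LP (LK LD1_c16 LD2_c17 LD3_c11)) :=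
  Lre_c IH (LK LD1_c26 LD2_c15 LD3_c4) (LK LD1_c16 LD2_c17 LD3_c11) Lrfl Lrfl
theorem f397119 : Led Lsl_dt (LP (LK LD1_c17 LD2_c48 LD3_c4)) = (LP (LK LD1_c26 LD2_c15 LD3_c4)) :=
  Lgr Lrot159 (Lpr_ft (f349198 IH) (Lpr_at (f349197 IH) (Lpe (f235784 IH) (Lpe (f263731 IH) (Lpr_cf (f397115 IH) (Lpe (f279984 IH) (Lpe (f279980 IH) (Lpe (f279924 IH) (Lpe (f280102 IH) (Lpn (LP (LK LD1_c26 LD2_c15 LD3_c4))))))))))))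
theorem f218576 : Led Lsl_gt (LP (LK LD1_c4 LD2_c55 LD3_c11)) = (LP (LK LD1_c9 LD2_c41 LD3_c53)) :=
  Lre_g IH (LK LD1_c4 LD2_c55 LD3_c11) (LK LD1_c9 LD2_c41 LD3_c53) Lrfl Lrfl
theorem f349205 : Led Lsl_gf (LP (LK LD1_c17 LD2_c48 LD3_c4)) = (LP (LK LD1_c9 LD2_c41 LD3_c53)) :=
  Lgr Lrot76 (Lpe (f188714 IH) (Lpr_ff (K26.f349188 IH) (Lpr_gt (f218576 IH) (Lpn (LP (LK LD1_c9 LD2_c41 LD3_c53))))))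
theorem f349207 : Led Lsl_dt (LP (LK LD1_c17 LD2_c50 LD3_c16)) = (LP (LK LD1_c9 LD2_c41 LD3_c53)) :=
  Lre_d IH (LK LD1_c17 LD2_c50 LD3_c16) (LK LD1_c9 LD2_c41 LD3_c53) Lrfl Lrfl
theorem f550051 : Led Lsl_gf (LP (LK LD1_c17 LD2_c50 LD3_c16)) = (LP (LK LD1_c17 LD2_c48 LD3_c16)) :=
  Lgr Lrot144 (Lpr_dt (f349207 IH) (Lpe (f349205 IH) (Lpr_dt (f397119 IH) (Lpe (f280101 IH) (Lpe (f279922 IH) (Lpr_gf (K30.f280099 IH) (Lpe (K17.f236723 IH) (Lpr_gf (f280020 IH) (Lpr_cf (f550043 IH) (Lpn (LP (LK LD1_c17 LD2_c48 LD3_c16))))))))))))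
theorem f369152 : Led Lsl_ft (LP (LK LD1_c17 LD2_c48 LD3_c16)) = (LP (LK LD1_c9 LD2_c42 LD3_c33)) :=
  Lgr Lrot48 (Lpr_ff (K27.f369148 IH) (Lpn (LP (LK LD1_c9 LD2_c42 LD3_c33))))
theorem f263947 : Led Lsl_at (LP (LK LD1_c9 LD2_c42 LD3_c33)) = (LP (LK LD1_c17 LD2_c51 LD3_c17)) :=
  Lre_a IH (LK LD1_c9 LD2_c42 LD3_c33) (LK LD1_c17 LD2_c51 LD3_c17) Lrfl Lrfl
theorem f550053 : Led Lsl_gt (LP (LK LD1_c17 LD2_c50 LD3_c16)) = (LP (LK LD1_c17 LD2_c51 LD3_c17)) :=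
  Lgr Lrot46 (Lpr_gf (f550051 IH) (Lpr_ft (f369152 IH) (Lpr_at (f263947 IH) (Lpn (LP (LK LD1_c17 LD2_c51 LD3_c17))))))
theorem f219279 : Led Lsl_dt (LP (LK LD1_c9 LD2_c41 LD3_c53)) = (LP (LK LD1_c17 LD2_c50 LD3_c16)) :=
  Lre_d IH (LK LD1_c9 LD2_c41 LD3_c53) (LK LD1_c17 LD2_c50 LD3_c16) Lrfl Lrfl
theorem f219091 : Led Lsl_gt (LP (LK LD1_c9 LD2_c41 LD3_c44)) = (LP (LK LD1_c17 LD2_c50 LD3_c4)) :=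
  Lre_g IH (LK LD1_c9 LD2_c41 LD3_c44) (LK LD1_c17 LD2_c50 LD3_c4) Lrfl Lrfl
theorem f218589 : Led Lsl_ct (LP (LK LD1_c10 LD2_c37 LD3_c36)) = (LP (LK LD1_c19 LD2_c14 LD3_c60)) :=
  Lre_c IH (LK LD1_c10 LD2_c37 LD3_c36) (LK LD1_c19 LD2_c14 LD3_c60) Lrfl Lrfl
theorem f403101 : Led Lsl_at (LP (LK LD1_c19 LD2_c14 LD3_c60)) = (LP (LK LD1_c19 LD2_c10 LD3_c35)) :=
  Lgr Lrot107 (Lpe (f218589 IH) (Lpr_af (f403097 IH) (Lpe (K31.f263746 IH) (Lpn (LP (LK LD1_c19 LD2_c10 LD3_c35))))))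
theorem f169237 : Led Lsl_ct (LP (LK LD1_c19 LD2_c14 LD3_c58)) = (LP (LK LD1_c10 LD2_c37 LD3_c35)) :=
  Lre_c IH (LK LD1_c19 LD2_c14 LD3_c58) (LK LD1_c10 LD2_c37 LD3_c35) Lrfl Lrfl
theorem f263756 : Led Lsl_ct (LP (LK LD1_c10 LD2_c35 LD3_c3)) = (LP (LK LD1_c19 LD2_c10 LD3_c35)) :=
  Lre_c IH (LK LD1_c10 LD2_c35 LD3_c3) (LK LD1_c19 LD2_c10 LD3_c35) Lrfl Lrfl
theorem f403092 : Led Lsl_ff (LP (LK LD1_c19 LD2_c14 LD3_c58)) = (LP (LK LD1_c19 LD2_c10 LD3_c35)) :=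
  Lgr Lrot23 (Lpr_ct (f169237 IH) (Lpr_ft (f403069 IH) (Lpr_ct (f263756 IH) (Lpn (LP (LK LD1_c19 LD2_c10 LD3_c35))))))
theorem f403139 : Led Lsl_at (LP (LK LD1_c19 LD2_c14 LD3_c58)) = (LP (LK LD1_c16 LD2_c21 LD3_c31)) :=
  Lgr Lrot66 (Lpr_ff (f403092 IH) (Lpe (f403101 IH) (Lpr_ff (f403137 IH) (Lpn (LP (LK LD1_c16 LD2_c21 LD3_c31))))))
theorem f403164 : Led Lsl_af (LP (LK LD1_c19 LD2_c14 LD3_c58)) = (LP (LK LD1_c16 LD2_c21 LD3_c31)) :=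
  Lgr Lrot0 (Lpr_at (f403139 IH) (Lpn (LP (LK LD1_c16 LD2_c21 LD3_c31))))
theorem f403131 : Led Lsl_ft (LP (LK LD1_c19 LD2_c14 LD3_c60)) = (LP (LK LD1_c16 LD2_c21 LD3_c31)) :=
  Lgr Lrot4 (Lpe (f218589 IH) (Lpr_ff (f403127 IH) (Lpr_cf (K31.f388741 IH) (Lpn (LP (LK LD1_c16 LD2_c21 LD3_c31))))))
theorem f403193 : Led Lsl_ft (LP (LK LD1_c19 LD2_c14 LD3_c58)) = (LP (LK LD1_c19 LD2_c10 LD3_c35)) :=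
  Lgr Lrot101 (Lpr_af (f403164 IH) (Lpe (f403131 IH) (Lpr_af (f403119 IH) (Lpn (LP (LK LD1_c19 LD2_c10 LD3_c35))))))
theorem f221560 : Led Lsl_bt (LP (LK LD1_c28 LD2_c41 LD3_c25)) = (LP (LK LD1_c19 LD2_c14 LD3_c58)) :=
  Lre_b IH (LK LD1_c28 LD2_c41 LD3_c25) (LK LD1_c19 LD2_c14 LD3_c58) Lrfl Lrfl
theorem f403195 : Led Lsl_ff (LP (LK LD1_c28 LD2_c41 LD3_c25)) = (LP (LK LD1_c28 LD2_c36 LD3_c40)) :=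
  Lgr Lrot25 (Lpr_bt (f221560 IH) (Lpr_ft (f403193 IH) (Lpr_bt (K31.f263757 IH) (Lpn (LP (LK LD1_c28 LD2_c36 LD3_c40))))))
theorem f403199 : Led Lsl_ft (LP (LK LD1_c28 LD2_c41 LD3_c25)) = (LP (LK LD1_c28 LD2_c36 LD3_c40)) :=
  Lgr Lrot48 (Lpr_ff (f403195 IH) (Lpn (LP (LK LD1_c28 LD2_c36 LD3_c40))))
theorem f221561 : Led Lsl_bt (LP (LK LD1_c15 LD2_c51 LD3_c24)) = (LP (LK LD1_c25 LD2_c47 LD3_c14)) :=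
  Lre_b IH (LK LD1_c15 LD2_c51 LD3_c24) (LK LD1_c25 LD2_c47 LD3_c14) Lrfl Lrfl
theorem f221562 : Led Lsl_cf (LP (LK LD1_c28 LD2_c41 LD3_c25)) = (LP (LK LD1_c25 LD2_c47 LD3_c14)) :=
  Lgr Lrot97 (Lpr_bt (f221560 IH) (Lpr_ct (f169237 IH) (Lpr_bt (K16.f221559 IH) (Lpr_ct (K16.f221556 IH) (Lpr_bt (f221561 IH) (Lpn (LP (LK LD1_c25 LD2_c47 LD3_c14))))))))
theorem f263732 : Led Lsl_bt (LP (LK LD1_c19 LD2_c10 LD3_c34)) = (LP (LK LD1_c10 LD2_c35 LD3_c3)) :=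
  Lre_b IH (LK LD1_c19 LD2_c10 LD3_c34) (LK LD1_c10 LD2_c35 LD3_c3) Lrfl Lrfl
theorem f263730 : Led Lsl_bt (LP (LK LD1_c4 LD2_c55 LD3_c11)) = (LP (LK LD1_c2 LD2_c25 LD3_c30)) :=
  Lre_b IH (LK LD1_c4 LD2_c55 LD3_c11) (LK LD1_c2 LD2_c25 LD3_c30) Lrfl Lrfl
theorem f263734 : Led Lsl_gt (LP (LK LD1_c17 LD2_c50 LD3_c5)) = (LP (LK LD1_c9 LD2_c41 LD3_c44)) :=
  Lre_g IH (LK LD1_c17 LD2_c50 LD3_c5) (LK LD1_c9 LD2_c41 LD3_c44) Lrfl Lrfl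
theorem f263735 : Led Lsl_ct (LP (LK LD1_c19 LD2_c10 LD3_c34)) = (LP (LK LD1_c17 LD2_c50 LD3_c5)) :=
  Lgr Lrot64 (Lpr_bt (f263732 IH) (Lpe (K31.f182173 IH) (Lpe (f182172 IH) (Lpr_ct (K12.f171886 IH) (Lpe (K13.f171895 IH) (Lpr_cf (K15.f246399 IH) (Lpr_gf (K15.f263708 IH) (Lpe (f263730 IH) (Lpr_ct (K26.f263733 IH) (Lpe (f263734 IH) (Lpn (LP (LK LD1_c17 LD2_c50 LD3_c5)))))))))))))
theorem f263751 : Led Lsl_cf (LP (LK LD1_c19 LD2_c10 LD3_c34)) = (LP (LK LD1_c17 LD2_c50 LD3_c5)) :=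
  Lgr Lrot11 (Lpr_ct (f263735 IH) (Lpn (LP (LK LD1_c17 LD2_c50 LD3_c5))))
theorem f263758 : Led Lsl_bt (LP (LK LD1_c27 LD2_c37 LD3_c14)) = (LP (LK LD1_c17 LD2_c50 LD3_c5)) :=
  Lre_b IH (LK LD1_c27 LD2_c37 LD3_c14) (LK LD1_c17 LD2_c50 LD3_c5) Lrfl Lrfl
theorem f263759 : Led Lsl_ct (LP (LK LD1_c28 LD2_c36 LD3_c40)) = (LP (LK LD1_c27 LD2_c37 LD3_c14)) :=
  Lgr Lrot83 (Lpe (K31.f263757 IH) (Lpe (f263756 IH) (Lpe (f263732 IH) (Lpr_cf (f263751 IH) (Lpe (f263758 IH) (Lpn (LP (LK LD1_c27 LD2_c37 LD3_c14))))))))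
theorem f403201 : Led Lsl_ff (LP (LK LD1_c25 LD2_c47 LD3_c14)) = (LP (LK LD1_c27 LD2_c37 LD3_c14)) :=
  Lgr Lrot23 (Lpe (f221562 IH) (Lpr_ft (f403199 IH) (Lpr_ct (f263759 IH) (Lpn (LP (LK LD1_c27 LD2_c37 LD3_c14))))))
theorem f188719 : Led Lsl_bt (LP (LK LD1_c25 LD2_c47 LD3_c14)) = (LP (LK LD1_c15 LD2_c51 LD3_c24)) :=
  Lre_b IH (LK LD1_c25 LD2_c47 LD3_c14) (LK LD1_c15 LD2_c51 LD3_c24) Lrfl Lrfl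
theorem f263748 : Led Lsl_bt (LP (LK LD1_c17 LD2_c50 LD3_c5)) = (LP (LK LD1_c27 LD2_c37 LD3_c14)) :=
  Lre_b IH (LK LD1_c17 LD2_c50 LD3_c5) (LK LD1_c27 LD2_c37 LD3_c14) Lrfl Lrfl
theorem f403203 : Led Lsl_ft (LP (LK LD1_c15 LD2_c51 LD3_c24)) = (LP (LK LD1_c17 LD2_c50 LD3_c5)) :=
  Lgr Lrot75 (Lpe (f188719 IH) (Lpr_ff (f403201 IH) (Lpe (f263748 IH) (Lpn (LP (LK LD1_c17 LD2_c50 LD3_c5))))))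
theorem f403207 : Led Lsl_ff (LP (LK LD1_c15 LD2_c51 LD3_c24)) = (LP (LK LD1_c17 LD2_c50 LD3_c5)) :=
  Lgr Lrot3 (Lpr_ft (f403203 IH) (Lpn (LP (LK LD1_c17 LD2_c50 LD3_c5))))
theorem f403236 : Led Lsl_at (LP (LK LD1_c15 LD2_c51 LD3_c24)) = (LP (LK LD1_c17 LD2_c50 LD3_c4)) :=
  Lgr Lrot26 (Lpr_ff (f403207 IH) (Lpr_gt (f263734 IH) (Lpr_gt (f219091 IH) (Lpn (LP (LK LD1_c17 LD2_c50 LD3_c4))))))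
theorem f403209 : Led Lsl_af (LP (LK LD1_c15 LD2_c51 LD3_c23)) = (LP (LK LD1_c17 LD2_c50 LD3_c5)) :=
  Lgr Lrot31 (Lpe (K16.f188708 IH) (Lpe (K16.f188712 IH) (Lpr_ft (f403203 IH) (Lpn (LP (LK LD1_c17 LD2_c50 LD3_c5))))))
theorem f213215 : Led Lsl_at (LP (LK LD1_c15 LD2_c39 LD3_c57)) = (LP (LK LD1_c25 LD2_c35 LD3_c12)) :=
  Lre_a IH (LK LD1_c15 LD2_c39 LD3_c57) (LK LD1_c25 LD2_c35 LD3_c12) Lrfl Lrfl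
theorem f403215 : Led Lsl_dt (LP (LK LD1_c25 LD2_c35 LD3_c12)) = (LP (LK LD1_c17 LD2_c50 LD3_c5)) :=
  Lgr Lrot44 (Lpe (f213215 IH) (Lpr_df (K16.f261985 IH) (Lpr_af (f403209 IH) (Lpn (LP (LK LD1_c17 LD2_c50 LD3_c5))))))
theorem f236725 : Led Lsl_ct (LP (LK LD1_c15 LD2_c39 LD3_c53)) = (LP (LK LD1_c25 LD2_c35 LD3_c12)) :=
  Lre_c IH (LK LD1_c15 LD2_c39 LD3_c53) (LK LD1_c25 LD2_c35 LD3_c12) Lrfl Lrfl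
theorem f236724 : Led Lsl_dt (LP (LK LD1_c8 LD2_c19 LD3_c34)) = (LP (LK LD1_c15 LD2_c39 LD3_c53)) :=
  Lre_d IH (LK LD1_c8 LD2_c19 LD3_c34) (LK LD1_c15 LD2_c39 LD3_c53) Lrfl Lrfl
theorem f263778 : Led Lsl_dt (LP (LK LD1_c8 LD2_c41 LD3_c48)) = (LP (LK LD1_c4 LD2_c22 LD3_c0)) :=
  Lre_d IH (LK LD1_c8 LD2_c41 LD3_c48) (LK LD1_c4 LD2_c22 LD3_c0) Lrfl Lrfl
theorem f403217 : Led Lsl_df (LP (LK LD1_c16 LD2_c17 LD3_c15)) = (LP (LK LD1_c19 LD2_c10 LD3_c34)) :=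
  Lgr Lrot13 (Lpr_ct (K16.f237691 IH) (Lpr_dt (f263778 IH) (Lpr_ct (K16.f279909 IH) (Lpe (K16.f279919 IH) (Lpr_ff (K16.f280083 IH) (Lpr_dt (f236724 IH) (Lpr_ct (f236725 IH) (Lpr_dt (f403215 IH) (Lpe (f263751 IH) (Lpn (LP (LK LD1_c19 LD2_c10 LD3_c34))))))))))))
theorem f279918 : Led Lsl_dt (LP (LK LD1_c8 LD2_c16 LD3_c48)) = (LP (LK LD1_c15 LD2_c34 LD3_c11)) :=
  Lre_d IH (LK LD1_c8 LD2_c16 LD3_c48) (LK LD1_c15 LD2_c34 LD3_c11) Lrfl Lrfl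
theorem f234185 : Led Lsl_ct (LP (LK LD1_c15 LD2_c34 LD3_c11)) = (LP (LK LD1_c25 LD2_c27 LD3_c56)) :=
  Lre_c IH (LK LD1_c15 LD2_c34 LD3_c11) (LK LD1_c25 LD2_c27 LD3_c56) Lrfl Lrfl
theorem f280074 : Led Lsl_ff (LP (LK LD1_c25 LD2_c47 LD3_c15)) = (LP (LK LD1_c25 LD2_c35 LD3_c12)) :=
  Lgr Lrot3 (Lpr_ft (K16.f280036 IH) (Lpn (LP (LK LD1_c25 LD2_c35 LD3_c12))))
theorem f403222 : Led Lsl_af (LP (LK LD1_c25 LD2_c27 LD3_c56)) = (LP (LK LD1_c25 LD2_c47 LD3_c15)) :=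
  Lgr Lrot109 (Lpe (f234185 IH) (Lpe (f279918 IH) (Lpe (K16.f279909 IH) (Lpe (f263778 IH) (Lpe (K16.f237691 IH) (Lpr_df (f403217 IH) (Lpr_cf (f263751 IH) (Lpe (f403215 IH) (Lpe (f280074 IH) (Lpn (LP (LK LD1_c25 LD2_c47 LD3_c15))))))))))))
theorem f403224 : Led Lsl_at (LP (LK LD1_c25 LD2_c27 LD3_c56)) = (LP (LK LD1_c25 LD2_c47 LD3_c15)) :=
  Lgr Lrot100 (Lpr_af (f403222 IH) (Lpn (LP (LK LD1_c25 LD2_c47 LD3_c15))))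
theorem f403240 : Led Lsl_df (LP (LK LD1_c25 LD2_c27 LD3_c56)) = (LP (LK LD1_c17 LD2_c50 LD3_c4)) :=
  Lgr Lrot18 (Lpr_at (f403224 IH) (Lpr_dt (K16.f188717 IH) (Lpr_at (f403236 IH) (Lpn (LP (LK LD1_c17 LD2_c50 LD3_c4))))))
theorem f369171 : Led Lsl_dt (LP (LK LD1_c17 LD2_c51 LD3_c17)) = (LP (LK LD1_c9 LD2_c42 LD3_c32)) :=
  Lre_d IH (LK LD1_c17 LD2_c51 LD3_c17) (LK LD1_c9 LD2_c42 LD3_c32) Lrfl Lrfl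
theorem f369164 : Led Lsl_dt (LP (LK LD1_c27 LD2_c38 LD3_c2)) = (LP (LK LD1_c17 LD2_c51 LD3_c9)) :=
  Lre_d IH (LK LD1_c27 LD2_c38 LD3_c2) (LK LD1_c17 LD2_c51 LD3_c9) Lrfl Lrfl
theorem f550056 : Led Lsl_gt (LP (LK LD1_c25 LD2_c27 LD3_c56)) = (LP (LK LD1_c27 LD2_c38 LD3_c2)) :=
  Lgr Lrot49 (Lpr_df (f403240 IH) (Lpe (f219091 IH) (Lpe (K26.f263733 IH) (Lpr_gt (f218576 IH) (Lpr_dt (f219279 IH) (Lpr_gt (f550053 IH) (Lpr_dt (f369171 IH) (Lpe (K27.f369163 IH) (Lpe (f369164 IH) (Lpn (LP (LK LD1_c27 LD2_c38 LD3_c2))))))))))))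
theorem f550059 : Led Lsl_gf (LP (LK LD1_c25 LD2_c27 LD3_c56)) = (LP (LK LD1_c15 LD2_c51 LD3_c37)) :=
  Lgr Lrot47 (Lpr_gt (f550056 IH) (Lpe (K27.f369273 IH) (Lpe (K27.f369271 IH) (Lpn (LP (LK LD1_c15 LD2_c51 LD3_c37))))))
theorem f234184 : Led Lsl_bt (LP (LK LD1_c15 LD2_c34 LD3_c11)) = (LP (LK LD1_c8 LD2_c16 LD3_c49)) :=
  Lre_b IH (LK LD1_c15 LD2_c34 LD3_c11) (LK LD1_c8 LD2_c16 LD3_c49) Lrfl Lrfl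
theorem f258597 : Led Lsl_ct (LP (LK LD1_c25 LD2_c27 LD3_c56)) = (LP (LK LD1_c15 LD2_c34 LD3_c11)) :=
  Lre_c IH (LK LD1_c25 LD2_c27 LD3_c56) (LK LD1_c15 LD2_c34 LD3_c11) Lrfl Lrfl
theorem f213312 : Led Lsl_ct (LP (LK LD1_c10 LD2_c55 LD3_c58)) = (LP (LK LD1_c19 LD2_c44 LD3_c28)) :=
  Lre_c IH (LK LD1_c10 LD2_c55 LD3_c58) (LK LD1_c19 LD2_c44 LD3_c28) Lrfl Lrfl
theorem f258598 : Led Lsl_bf (LP (LK LD1_c25 LD2_c27 LD3_c56)) = (LP (LK LD1_c19 LD2_c44 LD3_c28)) :=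
  Lgr Lrot90 (Lpr_ct (f258597 IH) (Lpr_bt (f234184 IH) (Lpr_ct (K15.f258593 IH) (Lpr_bt (K24.f213276 IH) (Lpr_ct (f213312 IH) (Lpn (LP (LK LD1_c19 LD2_c44 LD3_c28))))))))
theorem f213291 : Led Lsl_ct (LP (LK LD1_c19 LD2_c44 LD3_c28)) = (LP (LK LD1_c10 LD2_c55 LD3_c58)) :=
  Lre_c IH (LK LD1_c19 LD2_c44 LD3_c28) (LK LD1_c10 LD2_c55 LD3_c58) Lrfl Lrfl
theorem f213301 : Led Lsl_gt (LP (LK LD1_c10 LD2_c55 LD3_c58)) = (LP (LK LD1_c19 LD2_c44 LD3_c26)) :=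
  Lre_g IH (LK LD1_c10 LD2_c55 LD3_c58) (LK LD1_c19 LD2_c44 LD3_c26) Lrfl Lrfl
theorem f221366 : Led Lsl_bt (LP (LK LD1_c15 LD2_c51 LD3_c61)) = (LP (LK LD1_c8 LD2_c27 LD3_c3)) :=
  Lre_b IH (LK LD1_c15 LD2_c51 LD3_c61) (LK LD1_c8 LD2_c27 LD3_c3) Lrfl Lrfl
theorem f550077 : Led Lsl_cf (LP (LK LD1_c19 LD2_c44 LD3_c26)) = (LP (LK LD1_c15 LD2_c51 LD3_c61)) :=
  Lgr Lrot58 (Lpe (f213301 IH) (Lpe (f213291 IH) (Lpe (f258598 IH) (Lpr_gf (f550059 IH) (Lpe (K27.f218183 IH) (Lpe (K16.f218174 IH) (Lpr_gf (K17.f271665 IH) (Lpe (K17.f271659 IH) (Lpe (K17.f221372 IH) (Lpe (f221366 IH) (Lpn (LP (LK LD1_c15 LD2_c51 LD3_c61)))))))))))))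
theorem f221367 : Led Lsl_bt (LP (LK LD1_c5 LD2_c30 LD3_c61)) = (LP (LK LD1_c10 LD2_c53 LD3_c28)) :=
  Lre_b IH (LK LD1_c5 LD2_c30 LD3_c61) (LK LD1_c10 LD2_c53 LD3_c28) Lrfl Lrfl
theorem f221368 : Led Lsl_ff (LP (LK LD1_c15 LD2_c51 LD3_c61)) = (LP (LK LD1_c10 LD2_c53 LD3_c28)) :=
  Lgr Lrot25 (Lpr_bt (f221366 IH) (Lpr_ft (K17.f221333 IH) (Lpr_bt (f221367 IH) (Lpn (LP (LK LD1_c10 LD2_c53 LD3_c28))))))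
theorem f222669 : Led Lsl_dt (LP (LK LD1_c10 LD2_c50 LD3_c7)) = (LP (LK LD1_c19 LD2_c35 LD3_c12)) :=
  Lre_d IH (LK LD1_c10 LD2_c50 LD3_c7) (LK LD1_c19 LD2_c35 LD3_c12) Lrfl Lrfl
theorem f243641 : Led Lsl_bt (LP (LK LD1_c2 LD2_c45 LD3_c23)) = (LP (LK LD1_c1 LD2_c19 LD3_c5)) :=
  Lre_b IH (LK LD1_c2 LD2_c45 LD3_c23) (LK LD1_c1 LD2_c19 LD3_c5) Lrfl Lrfl
theorem f221386 : Led Lsl_bt (LP (LK LD1_c10 LD2_c53 LD3_c28)) = (LP (LK LD1_c5 LD2_c30 LD3_c61)) :=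
  Lre_b IH (LK LD1_c10 LD2_c53 LD3_c28) (LK LD1_c5 LD2_c30 LD3_c61) Lrfl Lrfl
theorem f263165 : Led Lsl_ct (LP (LK LD1_c19 LD2_c35 LD3_c12)) = (LP (LK LD1_c10 LD2_c53 LD3_c28)) :=
  Lgr Lrot191 (Lpe (f222669 IH) (Lpe (K31.f222663 IH) (Lpe (K31.f222539 IH) (Lpe (K15.f222561 IH) (Lpe (K15.f222645 IH) (Lpr_gf (K15.f263155 IH) (Lpe (K12.f27962 IH) (Lpe (K1.f27950 IH) (Lpe (K10.f51605 IH) (Lpe (K12.f27953 IH) (Lpr_bf (K12.f216399 IH) (Lpe (K12.f216369 IH) (Lpe (K24.f189160 IH) (Lpe (K23.f243656 IH) (Lpe (f243641 IH) (Lpe (K13.f243637 IH) (Lpe (K16.f243642 IH) (Lpr_gf (K16.f261472 IH) (Lpe (f221386 IH) (Lpn (LP (LK LD1_c10 LD2_c53 LD3_c28))))))))))))))))))))))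
theorem f550083 : Led Lsl_ft (LP (LK LD1_c19 LD2_c44 LD3_c26)) = (LP (LK LD1_c19 LD2_c35 LD3_c12)) :=
  Lgr Lrot4 (Lpr_cf (f550077 IH) (Lpr_ff (f221368 IH) (Lpe (f263165 IH) (Lpn (LP (LK LD1_c19 LD2_c35 LD3_c12))))))
theorem f247341 : Led Lsl_bf (LP (LK LD1_c0 LD2_c27 LD3_c32)) = (LP (LK LD1_c0 LD2_c28 LD3_c32)) :=
  Lgr Lrot93 (Lpr_dt (K12.f180101 IH) (Lpr_bt (K14.f247335 IH) (Lpr_dt (K15.f191904 IH) (Lpn (LP (LK LD1_c0 LD2_c28 LD3_c32))))))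
theorem f229782 : Led Lsl_ct (LP (LK LD1_c25 LD2_c53 LD3_c42)) = (LP (LK LD1_c15 LD2_c57 LD3_c21)) :=
  Lre_c IH (LK LD1_c25 LD2_c53 LD3_c42) (LK LD1_c15 LD2_c57 LD3_c21) Lrfl Lrfl
theorem f395689 : Led Lsl_dt (LP (LK LD1_c19 LD2_c35 LD3_c10)) = (LP (LK LD1_c25 LD2_c53 LD3_c42)) :=
  Lgr Lrot182 (Lpe (K31.f395675 IH) (Lpr_bf (K31.f395676 IH) (Lpr_cf (K31.f390036 IH) (Lpe (K31.f296628 IH) (Lpe (K18.f52543 IH) (Lpe (K18.f52277 IH) (Lpe (K10.f52246 IH) (Lpe (K10.f28151 IH) (Lpe (K12.f193364 IH) (Lpr_bf (f247341 IH) (Lpe (K16.f216824 IH) (Lpe (K15.f189113 IH) (Lpe (K15.f179570 IH) (Lpe (K15.f179571 IH) (Lpe (K15.f243398 IH) (Lpe (K16.f243404 IH) (Lpe (K16.f262904 IH) (Lpe (K16.f262892 IH) (Lpe (f229782 IH) (Lpn (LP (LK LD1_c25 LD2_c53 LD3_c42))))))))))))))))))))))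
theorem f395693 : Led Lsl_df (LP (LK LD1_c19 LD2_c35 LD3_c10)) = (LP (LK LD1_c25 LD2_c53 LD3_c42)) :=
  Lgr Lrot38 (Lpr_dt (f395689 IH) (Lpn (LP (LK LD1_c25 LD2_c53 LD3_c42))))
theorem f395697 : Led Lsl_bt (LP (LK LD1_c19 LD2_c35 LD3_c12)) = (LP (LK LD1_c25 LD2_c53 LD3_c42)) :=
  Lgr Lrot95 (Lpe (f222669 IH) (Lpe (K31.f222670 IH) (Lpr_df (f395693 IH) (Lpn (LP (LK LD1_c25 LD2_c53 LD3_c42))))))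
theorem f229773 : Led Lsl_ct (LP (LK LD1_c15 LD2_c57 LD3_c21)) = (LP (LK LD1_c25 LD2_c53 LD3_c42)) :=
  Lre_c IH (LK LD1_c15 LD2_c57 LD3_c21) (LK LD1_c25 LD2_c53 LD3_c42) Lrfl Lrfl
theorem f260553 : Led Lsl_ct (LP (LK LD1_c15 LD2_c59 LD3_c49)) = (LP (LK LD1_c8 LD2_c31 LD3_c15)) :=
  Lre_c IH (LK LD1_c15 LD2_c59 LD3_c49) (LK LD1_c8 LD2_c31 LD3_c15) Lrfl Lrfl
theorem f270459 : Led Lsl_ft (LP (LK LD1_c25 LD2_c53 LD3_c42)) = (LP (LK LD1_c15 LD2_c59 LD3_c49)) :=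
  Lgr Lrot4 (Lpe (f229773 IH) (Lpr_ff (K16.f270450 IH) (Lpe (f260553 IH) (Lpn (LP (LK LD1_c15 LD2_c59 LD3_c49))))))
theorem f550087 : Led Lsl_bf (LP (LK LD1_c19 LD2_c44 LD3_c26)) = (LP (LK LD1_c15 LD2_c59 LD3_c49)) :=
  Lgr Lrot61 (Lpr_ft (f550083 IH) (Lpr_bt (f395697 IH) (Lpr_ft (f270459 IH) (Lpn (LP (LK LD1_c15 LD2_c59 LD3_c49))))))
theorem f258600 : Led Lsl_cf (LP (LK LD1_c8 LD2_c16 LD3_c49)) = (LP (LK LD1_c5 LD2_c32 LD3_c9)) :=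
  Lgr Lrot11 (Lpr_ct (K15.f258593 IH) (Lpn (LP (LK LD1_c5 LD2_c32 LD3_c9))))
theorem f270463 : Led Lsl_gt (LP (LK LD1_c8 LD2_c31 LD3_c15)) = (LP (LK LD1_c15 LD2_c59 LD3_c47)) :=
  Lre_g IH (LK LD1_c8 LD2_c31 LD3_c15) (LK LD1_c15 LD2_c59 LD3_c47) Lrfl Lrfl
theorem f550366 : Led Lsl_ct (LP (LK LD1_c10 LD2_c40 LD3_c31)) = (LP (LK LD1_c15 LD2_c59 LD3_c47)) :=
  Lgr Lrot10 (Lpe (K27.f373680 IH) (Lpe (K15.f258610 IH) (Lpr_ct (K13.f233923 IH) (Lpe (K13.f234178 IH) (Lpr_cf (f258600 IH) (Lpr_bt (K24.f213276 IH) (Lpr_gt (f213301 IH) (Lpr_bf (f550087 IH) (Lpr_ct (f260553 IH) (Lpr_gt (f270463 IH) (Lpn (LP (LK LD1_c15 LD2_c59 LD3_c47)))))))))))))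
theorem f373697 : Led Lsl_gt (LP (LK LD1_c10 LD2_c40 LD3_c31)) = (LP (LK LD1_c19 LD2_c19 LD3_c47)) :=
  Lre_g IH (LK LD1_c10 LD2_c40 LD3_c31) (LK LD1_c19 LD2_c19 LD3_c47) Lrfl Lrfl
theorem f270452 : Led Lsl_at (LP (LK LD1_c15 LD2_c57 LD3_c21)) = (LP (LK LD1_c25 LD2_c53 LD3_c41)) :=
  Lre_a IH (LK LD1_c15 LD2_c57 LD3_c21) (LK LD1_c25 LD2_c53 LD3_c41) Lrfl Lrfl
theorem f270464 : Led Lsl_gf (LP (LK LD1_c25 LD2_c53 LD3_c41)) = (LP (LK LD1_c15 LD2_c59 LD3_c47)) :=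
  Lgr Lrot76 (Lpe (f270452 IH) (Lpr_ff (K16.f270450 IH) (Lpr_gt (f270463 IH) (Lpn (LP (LK LD1_c15 LD2_c59 LD3_c47))))))
theorem f229851 : Led Lsl_dt (LP (LK LD1_c25 LD2_c53 LD3_c41)) = (LP (LK LD1_c15 LD2_c57 LD3_c20)) :=
  Lre_d IH (LK LD1_c25 LD2_c53 LD3_c41) (LK LD1_c15 LD2_c57 LD3_c20) Lrfl Lrfl
theorem f397081 : Led Lsl_dt (LP (LK LD1_c15 LD2_c59 LD3_c44)) = (LP (LK LD1_c19 LD2_c5 LD3_c20)) :=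
  Lgr Lrot42 (Lpr_df (K31.f397079 IH) (Lpn (LP (LK LD1_c19 LD2_c5 LD3_c20))))
theorem f399085 : Led Lsl_dt (LP (LK LD1_c15 LD2_c58 LD3_c41)) = (LP (LK LD1_c8 LD2_c31 LD3_c13)) :=
  Lgr Lrot6 (Lpr_gt (K31.f243201 IH) (Lpr_ct (K27.f243225 IH) (Lpr_gt (K31.f373752 IH) (Lpr_ct (K31.f398964 IH) (Lpe (K31.f397929 IH) (Lpe (K31.f270421 IH) (Lpe (K31.f227218 IH) (Lpr_cf (K30.f237766 IH) (Lpe (K30.f260561 IH) (Lpn (LP (LK LD1_c8 LD2_c31 LD3_c13))))))))))))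
theorem f398396 : Led Lsl_dt (LP (LK LD1_c15 LD2_c58 LD3_c40)) = (LP (LK LD1_c8 LD2_c31 LD3_c12)) :=
  Lgr Lrot6 (Lpr_gt (K31.f373863 IH) (Lpr_ct (K31.f374517 IH) (Lpe (K31.f374602 IH) (Lpr_ct (K31.f398392 IH) (Lpe (K30.f374030 IH) (Lpe (K31.f374020 IH) (Lpe (K31.f397448 IH) (Lpe (K31.f229768 IH) (Lpr_gf (K30.f397441 IH) (Lpn (LP (LK LD1_c8 LD2_c31 LD3_c12))))))))))))
theorem f260557 : Led Lsl_ct (LP (LK LD1_c8 LD2_c31 LD3_c12)) = (LP (LK LD1_c15 LD2_c59 LD3_c41)) :=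
  Lre_c IH (LK LD1_c8 LD2_c31 LD3_c12) (LK LD1_c15 LD2_c59 LD3_c41) Lrfl Lrfl
theorem f224135 : Led Lsl_ct (LP (LK LD1_c19 LD2_c22 LD3_c22)) = (LP (LK LD1_c10 LD2_c42 LD3_c3)) :=
  Lre_c IH (LK LD1_c19 LD2_c22 LD3_c22) (LK LD1_c10 LD2_c42 LD3_c3) Lrfl Lrfl
theorem f224130 : Led Lsl_dt (LP (LK LD1_c10 LD2_c42 LD3_c3)) = (LP (LK LD1_c17 LD2_c48 LD3_c58)) :=
  Lgr Lrot42 (Lpr_df (K31.f224121 IH) (Lpn (LP (LK LD1_c17 LD2_c48 LD3_c58))))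
theorem f221637 : Led Lsl_at (LP (LK LD1_c15 LD2_c1 LD3_c14)) = (LP (LK LD1_c24 LD2_c49 LD3_c7)) :=
  Lre_a IH (LK LD1_c15 LD2_c1 LD3_c14) (LK LD1_c24 LD2_c49 LD3_c7) Lrfl Lrfl
theorem f171966 : Led Lsl_at (LP (LK LD1_c17 LD2_c50 LD3_c11)) = (LP (LK LD1_c9 LD2_c41 LD3_c49)) :=
  Lre_a IH (LK LD1_c17 LD2_c50 LD3_c11) (LK LD1_c9 LD2_c41 LD3_c49) Lrfl Lrfl
theorem f351652 : Led Lsl_ft (LP (LK LD1_c24 LD2_c49 LD3_c7)) = (LP (LK LD1_c17 LD2_c50 LD3_c11)) :=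
  Lgr Lrot101 (Lpe (f221637 IH) (Lpr_ff (K30.f351648 IH) (Lpe (f171966 IH) (Lpn (LP (LK LD1_c17 LD2_c50 LD3_c11))))))
theorem f171971 : Led Lsl_gt (LP (LK LD1_c17 LD2_c50 LD3_c10)) = (LP (LK LD1_c9 LD2_c41 LD3_c49)) :=
  Lre_g IH (LK LD1_c17 LD2_c50 LD3_c10) (LK LD1_c9 LD2_c41 LD3_c49) Lrfl Lrfl
theorem f351741 : Led Lsl_gt (LP (LK LD1_c24 LD2_c49 LD3_c7)) = (LP (LK LD1_c17 LD2_c50 LD3_c10)) :=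
  Lgr Lrot5 (Lpr_ft (f351652 IH) (Lpr_at (f171966 IH) (Lpe (f171971 IH) (Lpn (LP (LK LD1_c17 LD2_c50 LD3_c10))))))
theorem f221651 : Led Lsl_ct (LP (LK LD1_c15 LD2_c1 LD3_c35)) = (LP (LK LD1_c24 LD2_c49 LD3_c7)) :=
  Lre_c IH (LK LD1_c15 LD2_c1 LD3_c35) (LK LD1_c24 LD2_c49 LD3_c7) Lrfl Lrfl
theorem f171920 : Led Lsl_bt (LP (LK LD1_c15 LD2_c0 LD3_c57)) = (LP (LK LD1_c7 LD2_c57 LD3_c39)) :=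
  Lre_b IH (LK LD1_c15 LD2_c0 LD3_c57) (LK LD1_c7 LD2_c57 LD3_c39) Lrfl Lrfl
theorem f170794 : Led Lsl_gt (LP (LK LD1_c8 LD2_c20 LD3_c25)) = (LP (LK LD1_c15 LD2_c41 LD3_c53)) :=
  Lre_g IH (LK LD1_c8 LD2_c20 LD3_c25) (LK LD1_c15 LD2_c41 LD3_c53) Lrfl Lrfl
theorem f284572 : Led Lsl_bt (LP (LK LD1_c25 LD2_c37 LD3_c28)) = (LP (LK LD1_c15 LD2_c41 LD3_c53)) :=
  Lre_b IH (LK LD1_c25 LD2_c37 LD3_c28) (LK LD1_c15 LD2_c41 LD3_c53) Lrfl Lrfl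
theorem f284573 : Led Lsl_cf (LP (LK LD1_c17 LD2_c50 LD3_c10)) = (LP (LK LD1_c25 LD2_c37 LD3_c28)) :=
  Lgr Lrot160 (Lpr_gt (f171971 IH) (Lpr_cf (K30.f171960 IH) (Lpr_bt (f171920 IH) (Lpr_gt (K18.f252137 IH) (Lpr_ct (K20.f197008 IH) (Lpr_gt (K18.f284566 IH) (Lpe (K12.f170791 IH) (Lpr_bt (K30.f170700 IH) (Lpr_gt (f170794 IH) (Lpe (f284572 IH) (Lpn (LP (LK LD1_c25 LD2_c37 LD3_c28)))))))))))))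
theorem f227179 : Led Lsl_at (LP (LK LD1_c8 LD2_c7 LD3_c49)) = (LP (LK LD1_c15 LD2_c18 LD3_c34)) :=
  Lre_a IH (LK LD1_c8 LD2_c7 LD3_c49) (LK LD1_c15 LD2_c18 LD3_c34) Lrfl Lrfl
theorem f292302 : Led Lsl_gf (LP (LK LD1_c15 LD2_c18 LD3_c34)) = (LP (LK LD1_c15 LD2_c41 LD3_c53)) :=
  Lgr Lrot76 (Lpe (f227179 IH) (Lpr_ff (K31.f292288 IH) (Lpr_gt (f170794 IH) (Lpn (LP (LK LD1_c15 LD2_c41 LD3_c53))))))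
theorem f170796 : Led Lsl_gt (LP (LK LD1_c9 LD2_c37 LD3_c33)) = (LP (LK LD1_c4 LD2_c52 LD3_c46)) :=
  Lre_g IH (LK LD1_c9 LD2_c37 LD3_c33) (LK LD1_c4 LD2_c52 LD3_c46) Lrfl Lrfl
theorem f292266 : Led Lsl_gt (LP (LK LD1_c8 LD2_c7 LD3_c58)) = (LP (LK LD1_c9 LD2_c37 LD3_c33)) :=
  Lgr Lrot5 (Lpr_ft (K31.f292260 IH) (Lpr_at (K16.f170787 IH) (Lpe (f170796 IH) (Lpn (LP (LK LD1_c9 LD2_c37 LD3_c33))))))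
theorem f170797 : Led Lsl_ct (LP (LK LD1_c17 LD2_c43 LD3_c9)) = (LP (LK LD1_c9 LD2_c37 LD3_c33)) :=
  Lre_c IH (LK LD1_c17 LD2_c43 LD3_c9) (LK LD1_c9 LD2_c37 LD3_c33) Lrfl Lrfl
theorem f228032 : Led Lsl_gt (LP (LK LD1_c7 LD2_c58 LD3_c5)) = (LP (LK LD1_c15 LD2_c1 LD3_c52)) :=
  Lre_g IH (LK LD1_c7 LD2_c58 LD3_c5) (LK LD1_c15 LD2_c1 LD3_c52) Lrfl Lrfl
theorem f261277 : Led Lsl_bf (LP (LK LD1_c15 LD2_c1 LD3_c52)) = (LP (LK LD1_c17 LD2_c43 LD3_c9)) :=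
  Lgr Lrot34 (Lpe (f228032 IH) (Lpe (K23.f228021 IH) (Lpr_ct (K16.f228017 IH) (Lpr_gf (K15.f261265 IH) (Lpe (K16.f221737 IH) (Lpe (K16.f261273 IH) (Lpe (K30.f170790 IH) (Lpr_ct (K30.f170703 IH) (Lpe (f170796 IH) (Lpe (f170797 IH) (Lpn (LP (LK LD1_c17 LD2_c43 LD3_c9)))))))))))))
theorem f199748 : Led Lsl_at (LP (LK LD1_c15 LD2_c0 LD3_c54)) = (LP (LK LD1_c24 LD2_c48 LD3_c33)) :=
  Lre_a IH (LK LD1_c15 LD2_c0 LD3_c54) (LK LD1_c24 LD2_c48 LD3_c33) Lrfl Lrfl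
theorem f347448 : Led Lsl_gt (LP (LK LD1_c15 LD2_c1 LD3_c52)) = (LP (LK LD1_c24 LD2_c48 LD3_c33)) :=
  Lgr Lrot46 (Lpe (f228032 IH) (Lpr_ft (K23.f347438 IH) (Lpr_at (f199748 IH) (Lpn (LP (LK LD1_c24 LD2_c48 LD3_c33))))))
theorem f351743 : Led Lsl_bt (LP (LK LD1_c15 LD2_c1 LD3_c35)) = (LP (LK LD1_c24 LD2_c48 LD3_c33)) :=
  Lgr Lrot92 (Lpr_ct (f221651 IH) (Lpr_gt (f351741 IH) (Lpr_cf (f284573 IH) (Lpr_bt (f284572 IH) (Lpe (f292302 IH) (Lpr_ct (K17.f227180 IH) (Lpr_gt (f292266 IH) (Lpe (f170797 IH) (Lpe (f261277 IH) (Lpr_gt (f347448 IH) (Lpn (LP (LK LD1_c24 LD2_c48 LD3_c33)))))))))))))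
theorem f221659 : Led Lsl_ct (LP (LK LD1_c24 LD2_c49 LD3_c7)) = (LP (LK LD1_c15 LD2_c1 LD3_c35)) :=
  Lre_c IH (LK LD1_c24 LD2_c49 LD3_c7) (LK LD1_c15 LD2_c1 LD3_c35) Lrfl Lrfl
theorem f171962 : Led Lsl_at (LP (LK LD1_c9 LD2_c41 LD3_c49)) = (LP (LK LD1_c17 LD2_c50 LD3_c11)) :=
  Lre_a IH (LK LD1_c9 LD2_c41 LD3_c49) (LK LD1_c17 LD2_c50 LD3_c11) Lrfl Lrfl
theorem f224323 : Led Lsl_df (LP (LK LD1_c10 LD2_c42 LD3_c9)) = (LP (LK LD1_c17 LD2_c50 LD3_c11)) :=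
  Lgr Lrot18 (Lpr_at (K30.f224322 IH) (Lpr_dt (K30.f224317 IH) (Lpr_at (f171962 IH) (Lpn (LP (LK LD1_c17 LD2_c50 LD3_c11))))))
theorem f224330 : Led Lsl_dt (LP (LK LD1_c10 LD2_c42 LD3_c9)) = (LP (LK LD1_c17 LD2_c50 LD3_c11)) :=
  Lgr Lrot42 (Lpr_df (f224323 IH) (Lpn (LP (LK LD1_c17 LD2_c50 LD3_c11))))
theorem f351716 : Led Lsl_bf (LP (LK LD1_c25 LD2_c31 LD3_c15)) = (LP (LK LD1_c17 LD2_c50 LD3_c11)) :=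
  Lgr Lrot93 (Lpe (K30.f221778 IH) (Lpr_bt (K30.f351712 IH) (Lpr_dt (f224330 IH) (Lpn (LP (LK LD1_c17 LD2_c50 LD3_c11))))))
theorem f351723 : Led Lsl_bt (LP (LK LD1_c17 LD2_c48 LD3_c58)) = (LP (LK LD1_c24 LD2_c49 LD3_c7)) :=
  Lgr Lrot35 (Lpe (K30.f339377 IH) (Lpr_bf (f351716 IH) (Lpe (f351652 IH) (Lpn (LP (LK LD1_c24 LD2_c49 LD3_c7))))))
theorem f199732 : Led Lsl_at (LP (LK LD1_c24 LD2_c48 LD3_c33)) = (LP (LK LD1_c15 LD2_c0 LD3_c54)) :=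
  Lre_a IH (LK LD1_c24 LD2_c48 LD3_c33) (LK LD1_c15 LD2_c0 LD3_c54) Lrfl Lrfl
theorem f199734 : Led Lsl_cf (LP (LK LD1_c24 LD2_c48 LD3_c33)) = (LP (LK LD1_c15 LD2_c34 LD3_c60)) :=
  Lgr Lrot1 (Lpr_at (f199732 IH) (Lpr_ct (K30.f199730 IH) (Lpr_at (K23.f199733 IH) (Lpn (LP (LK LD1_c15 LD2_c34 LD3_c60))))))
theorem f199746 : Led Lsl_ct (LP (LK LD1_c24 LD2_c48 LD3_c33)) = (LP (LK LD1_c15 LD2_c34 LD3_c60)) :=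
  Lgr Lrot59 (Lpr_cf (f199734 IH) (Lpn (LP (LK LD1_c15 LD2_c34 LD3_c60))))
theorem f339371 : Led Lsl_bt (LP (LK LD1_c15 LD2_c36 LD3_c45)) = (LP (LK LD1_c24 LD2_c50 LD3_c3)) :=
  Lgr Lrot127 (Lpr_bf (K23.f339367 IH) (Lpn (LP (LK LD1_c24 LD2_c50 LD3_c3))))
theorem f221786 : Led Lsl_at (LP (LK LD1_c15 LD2_c36 LD3_c45)) = (LP (LK LD1_c8 LD2_c18 LD3_c7)) :=
  Lre_a IH (LK LD1_c15 LD2_c36 LD3_c45) (LK LD1_c8 LD2_c18 LD3_c7) Lrfl Lrfl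
theorem f339354 : Led Lsl_ff (LP (LK LD1_c15 LD2_c36 LD3_c45)) = (LP (LK LD1_c25 LD2_c26 LD3_c53)) :=
  Lgr Lrot30 (Lpr_at (f221786 IH) (Lpr_ft (K22.f339348 IH) (Lpr_at (K23.f234854 IH) (Lpn (LP (LK LD1_c25 LD2_c26 LD3_c53))))))
theorem f347478 : Led Lsl_bf (LP (LK LD1_c25 LD2_c26 LD3_c53)) = (LP (LK LD1_c15 LD2_c34 LD3_c60)) :=
  Lgr Lrot61 (Lpe (f339354 IH) (Lpr_bt (f339371 IH) (Lpr_ft (K30.f347474 IH) (Lpn (LP (LK LD1_c15 LD2_c34 LD3_c60))))))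
theorem f351747 : Led Lsl_cf (LP (LK LD1_c17 LD2_c48 LD3_c58)) = (LP (LK LD1_c25 LD2_c26 LD3_c53)) :=
  Lgr Lrot97 (Lpr_bt (f351723 IH) (Lpr_ct (f221659 IH) (Lpr_bt (f351743 IH) (Lpr_ct (f199746 IH) (Lpe (f347478 IH) (Lpn (LP (LK LD1_c25 LD2_c26 LD3_c53))))))))
theorem f351749 : Led Lsl_ct (LP (LK LD1_c17 LD2_c48 LD3_c58)) = (LP (LK LD1_c25 LD2_c26 LD3_c53)) :=
  Lgr Lrot59 (Lpr_cf (f351747 IH) (Lpn (LP (LK LD1_c25 LD2_c26 LD3_c53))))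
theorem f399130 : Led Lsl_df (LP (LK LD1_c25 LD2_c55 LD3_c53)) = (LP (LK LD1_c25 LD2_c26 LD3_c53)) :=
  Lgr Lrot43 (Lpr_ct (K31.f373753 IH) (Lpr_dt (f399085 IH) (Lpr_ct (K30.f260567 IH) (Lpr_dt (f397081 IH) (Lpr_ct (K31.f218807 IH) (Lpr_dt (K22.f221763 IH) (Lpr_ct (K22.f221780 IH) (Lpr_dt (K22.f233913 IH) (Lpr_ct (K31.f399128 IH) (Lpr_dt (f398396 IH) (Lpr_ct (f260557 IH) (Lpr_dt (K30.f397058 IH) (Lpr_ct (f224135 IH) (Lpr_dt (f224130 IH) (Lpr_ct (f351749 IH) (Lpn (LP (LK LD1_c25 LD2_c26 LD3_c53))))))))))))))))))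
theorem f226949 : Led Lsl_gt (LP (LK LD1_c8 LD2_c18 LD3_c7)) = (LP (LK LD1_c15 LD2_c36 LD3_c43)) :=
  Lre_g IH (LK LD1_c8 LD2_c18 LD3_c7) (LK LD1_c15 LD2_c36 LD3_c43) Lrfl Lrfl
theorem f339361 : Led Lsl_gt (LP (LK LD1_c15 LD2_c36 LD3_c43)) = (LP (LK LD1_c25 LD2_c26 LD3_c53)) :=
  Lgr Lrot46 (Lpe (f226949 IH) (Lpr_ft (K22.f339348 IH) (Lpr_at (K23.f234854 IH) (Lpn (LP (LK LD1_c25 LD2_c26 LD3_c53))))))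
theorem f550376 : Led Lsl_dt (LP (LK LD1_c19 LD2_c19 LD3_c47)) = (LP (LK LD1_c15 LD2_c36 LD3_c43)) :=
  Lgr Lrot115 (Lpe (f373697 IH) (Lpr_ct (f550366 IH) (Lpe (f270464 IH) (Lpr_dt (f229851 IH) (Lpr_gt (K30.f397439 IH) (Lpe (K31.f399087 IH) (Lpr_ct (K31.f373985 IH) (Lpr_df (f399130 IH) (Lpe (f339361 IH) (Lpn (LP (LK LD1_c15 LD2_c36 LD3_c43))))))))))))
theorem f550380 : Led Lsl_df (LP (LK LD1_c19 LD2_c19 LD3_c47)) = (LP (LK LD1_c15 LD2_c36 LD3_c43)) :=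
  Lgr Lrot38 (Lpr_dt (f550376 IH) (Lpn (LP (LK LD1_c15 LD2_c36 LD3_c43))))
theorem f235092 : Led Lsl_gt (LP (LK LD1_c15 LD2_c15 LD3_c34)) = (LP (LK LD1_c8 LD2_c6 LD3_c17)) :=
  Lre_g IH (LK LD1_c15 LD2_c15 LD3_c34) (LK LD1_c8 LD2_c6 LD3_c17) Lrfl Lrfl
theorem f373717 : Led Lsl_dt (LP (LK LD1_c25 LD2_c4 LD3_c57)) = (LP (LK LD1_c15 LD2_c15 LD3_c34)) :=
  Lre_d IH (LK LD1_c25 LD2_c4 LD3_c57) (LK LD1_c15 LD2_c15 LD3_c34) Lrfl Lrfl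
theorem f399136 : Led Lsl_gf (LP (LK LD1_c15 LD2_c15 LD3_c55)) = (LP (LK LD1_c25 LD2_c4 LD3_c57)) :=
  Lgr Lrot147 (Lpr_ct (K31.f399128 IH) (Lpr_gt (K31.f373863 IH) (Lpr_ct (K31.f374517 IH) (Lpe (K31.f220794 IH) (Lpe (K31.f220771 IH) (Lpe (K31.f220770 IH) (Lpe (K27.f373703 IH) (Lpe (f235092 IH) (Lpe (f373717 IH) (Lpn (LP (LK LD1_c25 LD2_c4 LD3_c57))))))))))))
theorem f373716 : Led Lsl_ct (LP (LK LD1_c25 LD2_c4 LD3_c57)) = (LP (LK LD1_c31 LD2_c45 LD3_c39)) :=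
  Lre_c IH (LK LD1_c25 LD2_c4 LD3_c57) (LK LD1_c31 LD2_c45 LD3_c39) Lrfl Lrfl
theorem f373718 : Led Lsl_ct (LP (LK LD1_c31 LD2_c45 LD3_c39)) = (LP (LK LD1_c25 LD2_c4 LD3_c57)) :=
  Lre_c IH (LK LD1_c31 LD2_c45 LD3_c39) (LK LD1_c25 LD2_c4 LD3_c57) Lrfl Lrfl
theorem f399138 : Led Lsl_gf (LP (LK LD1_c31 LD2_c45 LD3_c39)) = (LP (LK LD1_c25 LD2_c59 LD3_c10)) :=
  Lgr Lrot147 (Lpr_ct (f373718 IH) (Lpe (f399136 IH) (Lpr_ct (K31.f399128 IH) (Lpr_df (K31.f398398 IH) (Lpe (K30.f260558 IH) (Lpe (K30.f397791 IH) (Lpr_cf (K31.f397613 IH) (Lpr_gf (K31.f397834 IH) (Lpe (K31.f397837 IH) (Lpn (LP (LK LD1_c25 LD2_c59 LD3_c10))))))))))))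
theorem f399156 : Led Lsl_gt (LP (LK LD1_c31 LD2_c45 LD3_c39)) = (LP (LK LD1_c25 LD2_c58 LD3_c5)) :=
  Lgr Lrot46 (Lpr_gf (f399138 IH) (Lpr_ft (K31.f398779 IH) (Lpe (K31.f398784 IH) (Lpn (LP (LK LD1_c25 LD2_c58 LD3_c5))))))
theorem f250561 : Led Lsl_dt (LP (LK LD1_c25 LD2_c58 LD3_c5)) = (LP (LK LD1_c16 LD2_c0 LD3_c46)) :=
  Lre_d IH (LK LD1_c25 LD2_c58 LD3_c5) (LK LD1_c16 LD2_c0 LD3_c46) Lrfl Lrfl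
theorem f398263 : Led Lsl_gt (LP (LK LD1_c16 LD2_c0 LD3_c46)) = (LP (LK LD1_c8 LD2_c32 LD3_c13)) :=
  Lgr Lrot46 (Lpr_gf (K31.f398261 IH) (Lpr_ft (K31.f397827 IH) (Lpr_at (K31.f397826 IH) (Lpn (LP (LK LD1_c8 LD2_c32 LD3_c13))))))
theorem f397836 : Led Lsl_dt (LP (LK LD1_c8 LD2_c32 LD3_c13)) = (LP (LK LD1_c16 LD2_c1 LD3_c46)) :=
  Lre_d IH (LK LD1_c8 LD2_c32 LD3_c13) (LK LD1_c16 LD2_c1 LD3_c46) Lrfl Lrfl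
theorem f550388 : Led Lsl_cf (LP (LK LD1_c19 LD2_c19 LD3_c47)) = (LP (LK LD1_c16 LD2_c1 LD3_c46)) :=
  Lgr Lrot14 (Lpr_df (f550380 IH) (Lpe (f226949 IH) (Lpr_df (K23.f339358 IH) (Lpr_gf (f399136 IH) (Lpr_ct (f373716 IH) (Lpr_gt (f399156 IH) (Lpr_dt (f250561 IH) (Lpr_gt (f398263 IH) (Lpr_dt (f397836 IH) (Lpn (LP (LK LD1_c16 LD2_c1 LD3_c46))))))))))))
theorem f397889 : Led Lsl_at (LP (LK LD1_c8 LD2_c23 LD3_c39)) = (LP (LK LD1_c4 LD2_c16 LD3_c30)) :=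
  Lgr Lrot66 (Lpr_ff (K30.f397887 IH) (Lpe (K30.f397866 IH) (Lpr_ff (K30.f397864 IH) (Lpn (LP (LK LD1_c4 LD2_c16 LD3_c30))))))
theorem f52093 : Led Lsl_dt (LP (LK LD1_c15 LD2_c47 LD3_c6)) = (LP (LK LD1_c8 LD2_c23 LD3_c39)) :=
  Lre_d IH (LK LD1_c15 LD2_c47 LD3_c6) (LK LD1_c8 LD2_c23 LD3_c39) Lrfl Lrfl
theorem f52100 : Led Lsl_dt (LP (LK LD1_c4 LD2_c16 LD3_c30)) = (LP (LK LD1_c8 LD2_c32 LD3_c14)) :=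
  Lre_d IH (LK LD1_c4 LD2_c16 LD3_c30) (LK LD1_c8 LD2_c32 LD3_c14) Lrfl Lrfl
theorem f398267 : Led Lsl_af (LP (LK LD1_c15 LD2_c47 LD3_c6)) = (LP (LK LD1_c8 LD2_c32 LD3_c14)) :=
  Lgr Lrot117 (Lpr_dt (f52093 IH) (Lpr_at (f397889 IH) (Lpr_dt (f52100 IH) (Lpn (LP (LK LD1_c8 LD2_c32 LD3_c14))))))
theorem f1212 : Led Lsl_gt (LP (LK LD1_c2 LD2_c3 LD3_c8)) = (LP (LK LD1_c4 LD2_c11 LD3_c58)) :=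
  Lre_g IH (LK LD1_c2 LD2_c3 LD3_c8) (LK LD1_c4 LD2_c11 LD3_c58) Lrfl Lrfl
theorem f51700 : Led Lsl_ct (LP (LK LD1_c8 LD2_c23 LD3_c35)) = (LP (LK LD1_c4 LD2_c11 LD3_c58)) :=
  Lre_c IH (LK LD1_c8 LD2_c23 LD3_c35) (LK LD1_c4 LD2_c11 LD3_c58) Lrfl Lrfl
theorem f51702 : Led Lsl_bt (LP (LK LD1_c8 LD2_c23 LD3_c35)) = (LP (LK LD1_c15 LD2_c47 LD3_c1)) :=
  Lre_b IH (LK LD1_c8 LD2_c23 LD3_c35) (LK LD1_c15 LD2_c47 LD3_c1) Lrfl Lrfl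
theorem f171146 : Led Lsl_gt (LP (LK LD1_c15 LD2_c47 LD3_c1)) = (LP (LK LD1_c17 LD2_c39 LD3_c5)) :=
  Lgr Lrot82 (Lpe (f51702 IH) (Lpr_ct (f51700 IH) (Lpe (f1212 IH) (Lpe (K30.f51694 IH) (Lpr_bt (K30.f51548 IH) (Lpe (K11.f53363 IH) (Lpe (K27.f52201 IH) (Lpr_ct (K30.f171043 IH) (Lpe (K30.f171111 IH) (Lpe (K30.f171112 IH) (Lpn (LP (LK LD1_c17 LD2_c39 LD3_c5)))))))))))))
theorem f51701 : Led Lsl_ct (LP (LK LD1_c4 LD2_c11 LD3_c58)) = (LP (LK LD1_c8 LD2_c23 LD3_c35)) :=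
  Lre_c IH (LK LD1_c4 LD2_c11 LD3_c58) (LK LD1_c8 LD2_c23 LD3_c35) Lrfl Lrfl
theorem f222267 : Led Lsl_bt (LP (LK LD1_c15 LD2_c33 LD3_c39)) = (LP (LK LD1_c8 LD2_c16 LD3_c33)) :=
  Lre_b IH (LK LD1_c15 LD2_c33 LD3_c39) (LK LD1_c8 LD2_c16 LD3_c33) Lrfl Lrfl
theorem f167218 : Led Lsl_bt (LP (LK LD1_c2 LD2_c2 LD3_c25)) = (LP (LK LD1_c4 LD2_c10 LD3_c23)) :=
  Lre_b IH (LK LD1_c2 LD2_c2 LD3_c25) (LK LD1_c4 LD2_c10 LD3_c23) Lrfl Lrfl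
theorem f167219 : Led Lsl_gt (LP (LK LD1_c4 LD2_c10 LD3_c23)) = (LP (LK LD1_c8 LD2_c21 LD3_c0)) :=
  Lre_g IH (LK LD1_c4 LD2_c10 LD3_c23) (LK LD1_c8 LD2_c21 LD3_c0) Lrfl Lrfl
theorem f396944 : Led Lsl_df (LP (LK LD1_c4 LD2_c11 LD3_c58)) = (LP (LK LD1_c8 LD2_c21 LD3_c0)) :=
  Lgr Lrot183 (Lpr_ct (f51701 IH) (Lpr_bt (f51702 IH) (Lpr_gt (f171146 IH) (Lpr_dt (K30.f396937 IH) (Lpr_ct (K30.f222976 IH) (Lpr_bt (f222267 IH) (Lpr_gt (K12.f222970 IH) (Lpr_dt (K12.f44942 IH) (Lpr_ct (K12.f44941 IH) (Lpr_bt (K10.f53734 IH) (Lpe (K14.f222089 IH) (Lpr_dt (K16.f222102 IH) (Lpe (K14.f200387 IH) (Lpr_bt (K14.f7927 IH) (Lpe (K9.f179031 IH) (Lpr_dt (K9.f179021 IH) (Lpr_ct (K9.f53441 IH) (Lpr_bt (f167218 IH) (Lpr_gt (f167219 IH) (Lpn (LP (LK LD1_c8 LD2_c21 LD3_c0))))))))))))))))))))))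
theorem f396946 : Led Lsl_dt (LP (LK LD1_c4 LD2_c11 LD3_c58)) = (LP (LK LD1_c8 LD2_c21 LD3_c0)) :=
  Lgr Lrot42 (Lpr_df (f396944 IH) (Lpn (LP (LK LD1_c8 LD2_c21 LD3_c0))))
theorem f52029 : Led Lsl_dt (LP (LK LD1_c8 LD2_c23 LD3_c39)) = (LP (LK LD1_c15 LD2_c47 LD3_c6)) :=
  Lre_d IH (LK LD1_c8 LD2_c23 LD3_c39) (LK LD1_c15 LD2_c47 LD3_c6) Lrfl Lrfl
theorem f260717 : Led Lsl_ff (LP (LK LD1_c4 LD2_c17 LD3_c1)) = (LP (LK LD1_c4 LD2_c10 LD3_c23)) :=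
  Lgr Lrot3 (Lpr_ft (K15.f260710 IH) (Lpn (LP (LK LD1_c4 LD2_c10 LD3_c23))))
theorem f260719 : Led Lsl_at (LP (LK LD1_c4 LD2_c17 LD3_c1)) = (LP (LK LD1_c8 LD2_c33 LD3_c26)) :=
  Lre_a IH (LK LD1_c4 LD2_c17 LD3_c1) (LK LD1_c8 LD2_c33 LD3_c26) Lrfl Lrfl
theorem f260722 : Led Lsl_gf (LP (LK LD1_c8 LD2_c33 LD3_c26)) = (LP (LK LD1_c8 LD2_c21 LD3_c0)) :=
  Lgr Lrot76 (Lpe (f260719 IH) (Lpr_ff (f260717 IH) (Lpr_gt (f167219 IH) (Lpn (LP (LK LD1_c8 LD2_c21 LD3_c0))))))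
theorem f295420 : Led Lsl_af (LP (LK LD1_c8 LD2_c31 LD3_c59)) = (LP (LK LD1_c8 LD2_c30 LD3_c18)) :=
  Lgr Lrot0 (Lpr_at (K18.f295418 IH) (Lpn (LP (LK LD1_c8 LD2_c30 LD3_c18))))
theorem f295629 : Led Lsl_ft (LP (LK LD1_c5 LD2_c30 LD3_c20)) = (LP (LK LD1_c8 LD2_c30 LD3_c18)) :=
  Lgr Lrot101 (Lpr_af (K18.f295616 IH) (Lpe (K18.f295605 IH) (Lpr_af (f295420 IH) (Lpn (LP (LK LD1_c8 LD2_c30 LD3_c18))))))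
theorem f295637 : Led Lsl_ff (LP (LK LD1_c5 LD2_c30 LD3_c20)) = (LP (LK LD1_c8 LD2_c30 LD3_c18)) :=
  Lgr Lrot3 (Lpr_ft (f295629 IH) (Lpn (LP (LK LD1_c8 LD2_c30 LD3_c18))))
theorem f275107 : Led Lsl_bt (LP (LK LD1_c5 LD2_c30 LD3_c20)) = (LP (LK LD1_c10 LD2_c52 LD3_c5)) :=
  Lre_b IH (LK LD1_c5 LD2_c30 LD3_c20) (LK LD1_c10 LD2_c52 LD3_c5) Lrfl Lrfl
theorem f244769 : Led Lsl_bt (LP (LK LD1_c15 LD2_c58 LD3_c13)) = (LP (LK LD1_c8 LD2_c30 LD3_c18)) :=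
  Lre_b IH (LK LD1_c15 LD2_c58 LD3_c13) (LK LD1_c8 LD2_c30 LD3_c18) Lrfl Lrfl
theorem f295639 : Led Lsl_ft (LP (LK LD1_c10 LD2_c52 LD3_c5)) = (LP (LK LD1_c15 LD2_c58 LD3_c13)) :=
  Lgr Lrot75 (Lpe (f275107 IH) (Lpr_ff (f295637 IH) (Lpe (f244769 IH) (Lpn (LP (LK LD1_c15 LD2_c58 LD3_c13))))))
theorem f295646 : Led Lsl_dt (LP (LK LD1_c5 LD2_c30 LD3_c19)) = (LP (LK LD1_c10 LD2_c52 LD3_c5)) :=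
  Lre_d IH (LK LD1_c5 LD2_c30 LD3_c19) (LK LD1_c10 LD2_c52 LD3_c5) Lrfl Lrfl
theorem f243496 : Led Lsl_dt (LP (LK LD1_c15 LD2_c58 LD3_c13)) = (LP (LK LD1_c8 LD2_c30 LD3_c17)) :=
  Lre_d IH (LK LD1_c15 LD2_c58 LD3_c13) (LK LD1_c8 LD2_c30 LD3_c17) Lrfl Lrfl
theorem f295647 : Led Lsl_ff (LP (LK LD1_c5 LD2_c30 LD3_c19)) = (LP (LK LD1_c8 LD2_c30 LD3_c17)) :=
  Lgr Lrot19 (Lpr_dt (f295646 IH) (Lpr_ft (f295639 IH) (Lpr_dt (f243496 IH) (Lpn (LP (LK LD1_c8 LD2_c30 LD3_c17))))))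
theorem f295654 : Led Lsl_ft (LP (LK LD1_c5 LD2_c30 LD3_c19)) = (LP (LK LD1_c8 LD2_c30 LD3_c17)) :=
  Lgr Lrot48 (Lpr_ff (f295647 IH) (Lpn (LP (LK LD1_c8 LD2_c30 LD3_c17))))
theorem f178835 : Led Lsl_ct (LP (LK LD1_c2 LD2_c41 LD3_c45)) = (LP (LK LD1_c5 LD2_c30 LD3_c19)) :=
  Lre_c IH (LK LD1_c2 LD2_c41 LD3_c45) (LK LD1_c5 LD2_c30 LD3_c19) Lrfl Lrfl
theorem f243266 : Led Lsl_bt (LP (LK LD1_c4 LD2_c15 LD3_c39)) = (LP (LK LD1_c8 LD2_c30 LD3_c17)) :=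
  Lre_b IH (LK LD1_c4 LD2_c15 LD3_c39) (LK LD1_c8 LD2_c30 LD3_c17) Lrfl Lrfl
theorem f179569 : Led Lsl_bt (LP (LK LD1_c4 LD2_c17 LD3_c5)) = (LP (LK LD1_c2 LD2_c5 LD3_c51)) :=
  Lre_b IH (LK LD1_c4 LD2_c17 LD3_c5) (LK LD1_c2 LD2_c5 LD3_c51) Lrfl Lrfl
theorem f243267 : Led Lsl_ct (LP (LK LD1_c8 LD2_c30 LD3_c17)) = (LP (LK LD1_c4 LD2_c17 LD3_c5)) :=
  Lgr Lrot83 (Lpe (f243266 IH) (Lpe (K13.f243265 IH) (Lpr_bf (K13.f243261 IH) (Lpe (K9.f53386 IH) (Lpe (f179569 IH) (Lpn (LP (LK LD1_c4 LD2_c17 LD3_c5))))))))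
theorem f295658 : Led Lsl_ff (LP (LK LD1_c2 LD2_c41 LD3_c45)) = (LP (LK LD1_c4 LD2_c17 LD3_c5)) :=
  Lgr Lrot23 (Lpr_ct (f178835 IH) (Lpr_ft (f295654 IH) (Lpr_ct (f243267 IH) (Lpn (LP (LK LD1_c4 LD2_c17 LD3_c5))))))
theorem f179575 : Led Lsl_dt (LP (LK LD1_c4 LD2_c10 LD3_c23)) = (LP (LK LD1_c4 LD2_c17 LD3_c5)) :=
  Lgr Lrot79 (Lpe (f167218 IH) (Lpr_df (K9.f179563 IH) (Lpe (f179569 IH) (Lpn (LP (LK LD1_c4 LD2_c17 LD3_c5))))))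
theorem f295661 : Led Lsl_dt (LP (LK LD1_c2 LD2_c41 LD3_c45)) = (LP (LK LD1_c4 LD2_c17 LD3_c1)) :=
  Lgr Lrot60 (Lpr_ff (f295658 IH) (Lpe (f179575 IH) (Lpe (K15.f260710 IH) (Lpn (LP (LK LD1_c4 LD2_c17 LD3_c1))))))
theorem f295666 : Led Lsl_at (LP (LK LD1_c5 LD2_c30 LD3_c59)) = (LP (LK LD1_c2 LD2_c41 LD3_c45)) :=
  Lre_a IH (LK LD1_c5 LD2_c30 LD3_c59) (LK LD1_c2 LD2_c41 LD3_c45) Lrfl Lrfl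
theorem f295667 : Led Lsl_df (LP (LK LD1_c5 LD2_c30 LD3_c59)) = (LP (LK LD1_c8 LD2_c33 LD3_c26)) :=
  Lgr Lrot18 (Lpr_at (f295666 IH) (Lpr_dt (f295661 IH) (Lpr_at (f260719 IH) (Lpn (LP (LK LD1_c8 LD2_c33 LD3_c26))))))
theorem f295664 : Led Lsl_ct (LP (LK LD1_c10 LD2_c52 LD3_c4)) = (LP (LK LD1_c5 LD2_c30 LD3_c59)) :=
  Lre_c IH (LK LD1_c10 LD2_c52 LD3_c4) (LK LD1_c5 LD2_c30 LD3_c59) Lrfl Lrfl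
theorem f295665 : Led Lsl_dt (LP (LK LD1_c19 LD2_c38 LD3_c56)) = (LP (LK LD1_c10 LD2_c52 LD3_c4)) :=
  Lre_d IH (LK LD1_c19 LD2_c38 LD3_c56) (LK LD1_c10 LD2_c52 LD3_c4) Lrfl Lrfl
theorem f396950 : Led Lsl_gt (LP (LK LD1_c15 LD2_c47 LD3_c6)) = (LP (LK LD1_c19 LD2_c38 LD3_c56)) :=
  Lgr Lrot49 (Lpe (f52029 IH) (Lpe (K30.f52028 IH) (Lpe (K30.f51547 IH) (Lpr_gt (f1212 IH) (Lpr_dt (f396946 IH) (Lpe (f260722 IH) (Lpe (f295667 IH) (Lpe (f295664 IH) (Lpe (f295665 IH) (Lpn (LP (LK LD1_c19 LD2_c38 LD3_c56))))))))))))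
theorem f295620 : Led Lsl_at (LP (LK LD1_c10 LD2_c52 LD3_c5)) = (LP (LK LD1_c19 LD2_c38 LD3_c56)) :=
  Lre_a IH (LK LD1_c10 LD2_c52 LD3_c5) (LK LD1_c19 LD2_c38 LD3_c56) Lrfl Lrfl
theorem f295120 : Led Lsl_bt (LP (LK LD1_c10 LD2_c52 LD3_c5)) = (LP (LK LD1_c5 LD2_c30 LD3_c20)) :=
  Lre_b IH (LK LD1_c10 LD2_c52 LD3_c5) (LK LD1_c5 LD2_c30 LD3_c20) Lrfl Lrfl
theorem f244774 : Led Lsl_bt (LP (LK LD1_c8 LD2_c30 LD3_c18)) = (LP (LK LD1_c15 LD2_c58 LD3_c13)) :=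
  Lre_b IH (LK LD1_c8 LD2_c30 LD3_c18) (LK LD1_c15 LD2_c58 LD3_c13) Lrfl Lrfl
theorem f295631 : Led Lsl_ff (LP (LK LD1_c10 LD2_c52 LD3_c5)) = (LP (LK LD1_c15 LD2_c58 LD3_c13)) :=
  Lgr Lrot25 (Lpr_bt (f295120 IH) (Lpr_ft (f295629 IH) (Lpr_bt (f244774 IH) (Lpn (LP (LK LD1_c15 LD2_c58 LD3_c13))))))
theorem f396990 : Led Lsl_gf (LP (LK LD1_c15 LD2_c47 LD3_c6)) = (LP (LK LD1_c15 LD2_c58 LD3_c13)) :=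
  Lgr Lrot47 (Lpr_gt (f396950 IH) (Lpe (f295620 IH) (Lpr_ff (f295631 IH) (Lpn (LP (LK LD1_c15 LD2_c58 LD3_c13))))))
theorem f398272 : Led Lsl_gf (LP (LK LD1_c15 LD2_c58 LD3_c13)) = (LP (LK LD1_c15 LD2_c47 LD3_c8)) :=
  Lgr Lrot47 (Lpe (f396990 IH) (Lpr_af (f398267 IH) (Lpe (K30.f397862 IH) (Lpn (LP (LK LD1_c15 LD2_c47 LD3_c8))))))
theorem f179597 : Led Lsl_dt (LP (LK LD1_c1 LD2_c0 LD3_c21)) = (LP (LK LD1_c1 LD2_c0 LD3_c13)) :=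
  Lgr Lrot57 (Lpr_gf (K9.f179581 IH) (Lpe (K9.f53387 IH) (Lpr_gt (K9.f53385 IH) (Lpr_dt (K9.f1393 IH) (Lpe (K9.f53383 IH) (Lpr_dt (K0.f27321 IH) (Lpe (K9.f47729 IH) (Lpe (K9.f51609 IH) (Lpe (K13.f1126 IH) (Lpn (LP (LK LD1_c1 LD2_c0 LD3_c13))))))))))))
theorem f237777 : Led Lsl_cf (LP (LK LD1_c0 LD2_c31 LD3_c32)) = (LP (LK LD1_c1 LD2_c0 LD3_c13)) :=
  Lgr Lrot11 (Lpr_ct (K13.f237772 IH) (Lpn (LP (LK LD1_c1 LD2_c0 LD3_c13))))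
theorem f234791 : Led Lsl_dt (LP (LK LD1_c10 LD2_c52 LD3_c24)) = (LP (LK LD1_c19 LD2_c39 LD3_c32)) :=
  Lre_d IH (LK LD1_c10 LD2_c52 LD3_c24) (LK LD1_c19 LD2_c39 LD3_c32) Lrfl Lrfl
theorem f398276 : Led Lsl_ct (LP (LK LD1_c19 LD2_c39 LD3_c32)) = (LP (LK LD1_c25 LD2_c43 LD3_c53)) :=
  Lgr Lrot191 (Lpe (f234791 IH) (Lpe (K30.f234789 IH) (Lpe (K22.f189688 IH) (Lpe (K14.f189687 IH) (Lpe (K12.f51415 IH) (Lpe (K12.f189685 IH) (Lpr_bf (K9.f47468 IH) (Lpe (K10.f44490 IH) (Lpe (K16.f53650 IH) (Lpe (K16.f270906 IH) (Lpe (K16.f237785 IH) (Lpr_cf (f237777 IH) (Lpe (f179597 IH) (Lpr_gf (K9.f179581 IH) (Lpe (f179569 IH) (Lpe (f243267 IH) (Lpe (f243496 IH) (Lpr_gf (f398272 IH) (Lpe (K30.f397860 IH) (Lpn (LP (LK LD1_c25 LD2_c43 LD3_c53))))))))))))))))))))))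
theorem f550408 : Led Lsl_ft (LP (LK LD1_c19 LD2_c19 LD3_c47)) = (LP (LK LD1_c19 LD2_c39 LD3_c32)) :=
  Lgr Lrot4 (Lpr_cf (f550388 IH) (Lpe (K30.f397832 IH) (Lpe (f398276 IH) (Lpn (LP (LK LD1_c19 LD2_c39 LD3_c32))))))
theorem f550414 : Led Lsl_ff (LP (LK LD1_c19 LD2_c19 LD3_c47)) = (LP (LK LD1_c19 LD2_c39 LD3_c32)) :=
  Lgr Lrot3 (Lpr_ft (f550408 IH) (Lpn (LP (LK LD1_c19 LD2_c39 LD3_c32))))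
theorem f550418 : Led Lsl_ft (LP (LK LD1_c15 LD2_c36 LD3_c43)) = (LP (LK LD1_c10 LD2_c52 LD3_c24)) :=
  Lgr Lrot54 (Lpe (f550376 IH) (Lpr_ff (f550414 IH) (Lpe (f234791 IH) (Lpn (LP (LK LD1_c10 LD2_c52 LD3_c24))))))
theorem f550386 : Led Lsl_ct (LP (LK LD1_c19 LD2_c19 LD3_c47)) = (LP (LK LD1_c16 LD2_c1 LD3_c46)) :=
  Lgr Lrot7 (Lpr_df (f550380 IH) (Lpe (f226949 IH) (Lpr_df (K23.f339358 IH) (Lpr_gf (f399136 IH) (Lpe (f373718 IH) (Lpr_gt (f399156 IH) (Lpr_dt (f250561 IH) (Lpr_gt (f398263 IH) (Lpr_dt (f397836 IH) (Lpn (LP (LK LD1_c16 LD2_c1 LD3_c46))))))))))))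
theorem f171967 : Led Lsl_gt (LP (LK LD1_c9 LD2_c41 LD3_c49)) = (LP (LK LD1_c17 LD2_c50 LD3_c9)) :=
  Lre_g IH (LK LD1_c9 LD2_c41 LD3_c49) (LK LD1_c17 LD2_c50 LD3_c9) Lrfl Lrfl
theorem f351656 : Led Lsl_gf (LP (LK LD1_c24 LD2_c49 LD3_c7)) = (LP (LK LD1_c17 LD2_c50 LD3_c9)) :=
  Lgr Lrot76 (Lpe (f221637 IH) (Lpr_ff (K30.f351648 IH) (Lpr_gt (f171967 IH) (Lpn (LP (LK LD1_c17 LD2_c50 LD3_c9))))))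
theorem f252139 : Led Lsl_bt (LP (LK LD1_c27 LD2_c37 LD3_c15)) = (LP (LK LD1_c17 LD2_c50 LD3_c9)) :=
  Lre_b IH (LK LD1_c27 LD2_c37 LD3_c15) (LK LD1_c17 LD2_c50 LD3_c9) Lrfl Lrfl
theorem f171918 : Led Lsl_bt (LP (LK LD1_c4 LD2_c55 LD3_c9)) = (LP (LK LD1_c9 LD2_c41 LD3_c49)) :=
  Lre_b IH (LK LD1_c4 LD2_c55 LD3_c9) (LK LD1_c9 LD2_c41 LD3_c49) Lrfl Lrfl
theorem f199334 : Led Lsl_gt (LP (LK LD1_c19 LD2_c3 LD3_c22)) = (LP (LK LD1_c10 LD2_c30 LD3_c53)) :=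
  Lre_g IH (LK LD1_c19 LD2_c3 LD3_c22) (LK LD1_c10 LD2_c30 LD3_c53) Lrfl Lrfl
theorem f252140 : Led Lsl_ct (LP (LK LD1_c27 LD2_c37 LD3_c15)) = (LP (LK LD1_c19 LD2_c3 LD3_c22)) :=
  Lgr Lrot64 (Lpr_bt (f252139 IH) (Lpe (f171967 IH) (Lpe (f171918 IH) (Lpr_ct (K15.f171964 IH) (Lpr_gf (K14.f252101 IH) (Lpe (K15.f252131 IH) (Lpe (K15.f187027 IH) (Lpe (K30.f235664 IH) (Lpr_ct (K30.f235657 IH) (Lpe (f199334 IH) (Lpn (LP (LK LD1_c19 LD2_c3 LD3_c22)))))))))))))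
theorem f312846 : Led Lsl_ft (LP (LK LD1_c10 LD2_c37 LD3_c25)) = (LP (LK LD1_c19 LD2_c3 LD3_c23)) :=
  Lgr Lrot4 (Lpe (f312755 IH) (Lpr_ff (K22.f312787 IH) (Lpe (K22.f312784 IH) (Lpn (LP (LK LD1_c19 LD2_c3 LD3_c23))))))
theorem f235656 : Led Lsl_at (LP (LK LD1_c19 LD2_c3 LD3_c23)) = (LP (LK LD1_c10 LD2_c30 LD3_c53)) :=
  Lre_a IH (LK LD1_c19 LD2_c3 LD3_c23) (LK LD1_c10 LD2_c30 LD3_c53) Lrfl Lrfl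
theorem f312864 : Led Lsl_gt (LP (LK LD1_c10 LD2_c37 LD3_c25)) = (LP (LK LD1_c19 LD2_c3 LD3_c22)) :=
  Lgr Lrot5 (Lpr_ft (f312846 IH) (Lpr_at (f235656 IH) (Lpe (f199334 IH) (Lpn (LP (LK LD1_c19 LD2_c3 LD3_c22))))))
theorem f187048 : Led Lsl_gt (LP (LK LD1_c5 LD2_c20 LD3_c30)) = (LP (LK LD1_c10 LD2_c30 LD3_c61)) :=
  Lre_g IH (LK LD1_c5 LD2_c20 LD3_c30) (LK LD1_c10 LD2_c30 LD3_c61) Lrfl Lrfl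
theorem f312751 : Led Lsl_gf (LP (LK LD1_c5 LD2_c23 LD3_c42)) = (LP (LK LD1_c10 LD2_c30 LD3_c61)) :=
  Lgr Lrot76 (Lpe (K19.f312741 IH) (Lpr_ff (K19.f312742 IH) (Lpr_gt (f187048 IH) (Lpn (LP (LK LD1_c10 LD2_c30 LD3_c61))))))
theorem f224821 : Led Lsl_bt (LP (LK LD1_c19 LD2_c3 LD3_c38)) = (LP (LK LD1_c10 LD2_c30 LD3_c61)) :=
  Lre_b IH (LK LD1_c19 LD2_c3 LD3_c38) (LK LD1_c10 LD2_c30 LD3_c61) Lrfl Lrfl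
theorem f187031 : Led Lsl_bt (LP (LK LD1_c2 LD2_c36 LD3_c54)) = (LP (LK LD1_c5 LD2_c20 LD3_c30)) :=
  Lre_b IH (LK LD1_c2 LD2_c36 LD3_c54) (LK LD1_c5 LD2_c20 LD3_c30) Lrfl Lrfl
theorem f221788 : Led Lsl_gt (LP (LK LD1_c15 LD2_c36 LD3_c44)) = (LP (LK LD1_c8 LD2_c18 LD3_c7)) :=
  Lre_g IH (LK LD1_c15 LD2_c36 LD3_c44) (LK LD1_c8 LD2_c18 LD3_c7) Lrfl Lrfl
theorem f224822 : Led Lsl_ct (LP (LK LD1_c19 LD2_c3 LD3_c38)) = (LP (LK LD1_c15 LD2_c36 LD3_c44)) :=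
  Lgr Lrot64 (Lpr_bt (f224821 IH) (Lpe (f187048 IH) (Lpe (f187031 IH) (Lpr_ct (K12.f171896 IH) (Lpe (K12.f42471 IH) (Lpe (K12.f221667 IH) (Lpr_gf (K12.f224819 IH) (Lpe (K22.f221762 IH) (Lpr_ct (K22.f221780 IH) (Lpe (f221788 IH) (Lpn (LP (LK LD1_c15 LD2_c36 LD3_c44)))))))))))))
theorem f351751 : Led Lsl_gf (LP (LK LD1_c15 LD2_c36 LD3_c44)) = (LP (LK LD1_c25 LD2_c26 LD3_c53)) :=
  Lgr Lrot126 (Lpe (f224822 IH) (Lpr_bt (f224821 IH) (Lpe (f312751 IH) (Lpr_ct (f312755 IH) (Lpr_gt (f312864 IH) (Lpe (f252140 IH) (Lpr_bt (f252139 IH) (Lpe (f351656 IH) (Lpe (f351723 IH) (Lpr_ct (f351749 IH) (Lpn (LP (LK LD1_c25 LD2_c26 LD3_c53)))))))))))))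
theorem f550425 : Led Lsl_af (LP (LK LD1_c15 LD2_c36 LD3_c44)) = (LP (LK LD1_c10 LD2_c52 LD3_c24)) :=
  Lgr Lrot31 (Lpr_gf (f351751 IH) (Lpe (f339361 IH) (Lpr_ft (f550418 IH) (Lpn (LP (LK LD1_c10 LD2_c52 LD3_c24))))))
theorem f338109 : Led Lsl_at (LP (LK LD1_c10 LD2_c31 LD3_c34)) = (LP (LK LD1_c19 LD2_c4 LD3_c29)) :=
  Lre_a IH (LK LD1_c10 LD2_c31 LD3_c34) (LK LD1_c19 LD2_c4 LD3_c29) Lrfl Lrfl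
theorem f338110 : Led Lsl_ft (LP (LK LD1_c5 LD2_c24 LD3_c39)) = (LP (LK LD1_c10 LD2_c31 LD3_c34)) :=
  Lgr Lrot101 (Lpe (K22.f331639 IH) (Lpr_ff (K22.f338107 IH) (Lpe (f338109 IH) (Lpn (LP (LK LD1_c10 LD2_c31 LD3_c34))))))
theorem f218625 : Led Lsl_gt (LP (LK LD1_c5 LD2_c24 LD3_c39)) = (LP (LK LD1_c10 LD2_c39 LD3_c56)) :=
  Lre_g IH (LK LD1_c5 LD2_c24 LD3_c39) (LK LD1_c10 LD2_c39 LD3_c56) Lrfl Lrfl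
theorem f395835 : Led Lsl_gt (LP (LK LD1_c10 LD2_c39 LD3_c56)) = (LP (LK LD1_c19 LD2_c4 LD3_c29)) :=
  Lgr Lrot46 (Lpe (f218625 IH) (Lpr_ft (f338110 IH) (Lpr_at (f338109 IH) (Lpn (LP (LK LD1_c19 LD2_c4 LD3_c29))))))
theorem f235184 : Led Lsl_dt (LP (LK LD1_c27 LD2_c44 LD3_c27)) = (LP (LK LD1_c18 LD2_c2 LD3_c41)) :=
  Lre_d IH (LK LD1_c27 LD2_c44 LD3_c27) (LK LD1_c18 LD2_c2 LD3_c41) Lrfl Lrfl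
theorem f279638 : Led Lsl_gt (LP (LK LD1_c10 LD2_c39 LD3_c43)) = (LP (LK LD1_c19 LD2_c18 LD3_c24)) :=
  Lre_g IH (LK LD1_c10 LD2_c39 LD3_c43) (LK LD1_c19 LD2_c18 LD3_c24) Lrfl Lrfl
theorem f338100 : Led Lsl_at (LP (LK LD1_c18 LD2_c2 LD3_c42)) = (LP (LK LD1_c27 LD2_c44 LD3_c27)) :=
  Lre_a IH (LK LD1_c18 LD2_c2 LD3_c42) (LK LD1_c27 LD2_c44 LD3_c27) Lrfl Lrfl
theorem f338226 : Led Lsl_gt (LP (LK LD1_c19 LD2_c18 LD3_c24)) = (LP (LK LD1_c27 LD2_c44 LD3_c27)) :=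
  Lgr Lrot46 (Lpe (f279638 IH) (Lpr_ft (K22.f338217 IH) (Lpr_at (f338100 IH) (Lpn (LP (LK LD1_c27 LD2_c44 LD3_c27))))))
theorem f174501 : Led Lsl_at (LP (LK LD1_c16 LD2_c47 LD3_c0)) = (LP (LK LD1_c8 LD2_c58 LD3_c6)) :=
  Lre_a IH (LK LD1_c16 LD2_c47 LD3_c0) (LK LD1_c8 LD2_c58 LD3_c6) Lrfl Lrfl
theorem f280834 : Led Lsl_ft (LP (LK LD1_c10 LD2_c54 LD3_c59)) = (LP (LK LD1_c16 LD2_c47 LD3_c0)) :=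
  Lgr Lrot101 (Lpe (K31.f280833 IH) (Lpr_ff (K20.f280804 IH) (Lpe (f174501 IH) (Lpn (LP (LK LD1_c16 LD2_c47 LD3_c0))))))
theorem f281572 : Led Lsl_gt (LP (LK LD1_c10 LD2_c54 LD3_c59)) = (LP (LK LD1_c16 LD2_c47 LD3_c2)) :=
  Lgr Lrot5 (Lpr_ft (f280834 IH) (Lpr_at (f174501 IH) (Lpe (K31.f174477 IH) (Lpn (LP (LK LD1_c16 LD2_c47 LD3_c2))))))
theorem f280790 : Led Lsl_ct (LP (LK LD1_c5 LD2_c31 LD3_c38)) = (LP (LK LD1_c10 LD2_c54 LD3_c59)) :=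
  Lre_c IH (LK LD1_c5 LD2_c31 LD3_c38) (LK LD1_c10 LD2_c54 LD3_c59) Lrfl Lrfl
theorem f387644 : Led Lsl_bt (LP (LK LD1_c11 LD2_c9 LD3_c48)) = (LP (LK LD1_c5 LD2_c39 LD3_c25)) :=
  Lre_b IH (LK LD1_c11 LD2_c9 LD3_c48) (LK LD1_c5 LD2_c39 LD3_c25) Lrfl Lrfl
theorem f168135 : Led Lsl_gt (LP (LK LD1_c10 LD2_c57 LD3_c12)) = (LP (LK LD1_c5 LD2_c32 LD3_c43)) :=
  Lre_g IH (LK LD1_c10 LD2_c57 LD3_c12) (LK LD1_c5 LD2_c32 LD3_c43) Lrfl Lrfl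
theorem f387645 : Led Lsl_ct (LP (LK LD1_c11 LD2_c9 LD3_c48)) = (LP (LK LD1_c10 LD2_c57 LD3_c12)) :=
  Lgr Lrot64 (Lpr_bt (f387644 IH) (Lpr_gf (K31.f387636 IH) (Lpe (K20.f289595 IH) (Lpr_ct (K20.f226535 IH) (Lpe (K31.f319418 IH) (Lpr_cf (K31.f319422 IH) (Lpr_gf (K12.f225924 IH) (Lpe (K20.f174330 IH) (Lpr_ct (K20.f174118 IH) (Lpe (f168135 IH) (Lpn (LP (LK LD1_c10 LD2_c57 LD3_c12)))))))))))))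
theorem f281192 : Led Lsl_gf (LP (LK LD1_c10 LD2_c57 LD3_c12)) = (LP (LK LD1_c16 LD2_c46 LD3_c4)) :=
  Lgr Lrot47 (Lpr_gt (f168135 IH) (Lpe (K20.f174369 IH) (Lpr_ff (K20.f281181 IH) (Lpn (LP (LK LD1_c16 LD2_c46 LD3_c4))))))
theorem f387741 : Led Lsl_gt (LP (LK LD1_c5 LD2_c29 LD3_c4)) = (LP (LK LD1_c5 LD2_c31 LD3_c38)) :=
  Lgr Lrot164 (Lpe (K31.f387734 IH) (Lpr_ct (K31.f387735 IH) (Lpr_gf (K31.f319810 IH) (Lpe (K22.f238482 IH) (Lpe (K31.f387638 IH) (Lpe (f387644 IH) (Lpr_ct (f387645 IH) (Lpr_gf (f281192 IH) (Lpe (K31.f281125 IH) (Lpe (K31.f280963 IH) (Lpn (LP (LK LD1_c5 LD2_c31 LD3_c38)))))))))))))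
theorem f390248 : Led Lsl_df (LP (LK LD1_c9 LD2_c0 LD3_c61)) = (LP (LK LD1_c10 LD2_c58 LD3_c7)) :=
  Lgr Lrot162 (Lpe (K31.f332081 IH) (Lpr_gf (K30.f245411 IH) (Lpe (K30.f245272 IH) (Lpe (K30.f245266 IH) (Lpr_dt (K31.f245271 IH) (Lpr_gt (f387741 IH) (Lpr_ct (f280790 IH) (Lpr_gt (f281572 IH) (Lpr_ct (K31.f390174 IH) (Lpn (LP (LK LD1_c10 LD2_c58 LD3_c7))))))))))))
theorem f390250 : Led Lsl_dt (LP (LK LD1_c4 LD2_c31 LD3_c31)) = (LP (LK LD1_c5 LD2_c33 LD3_c6)) :=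
  Lgr Lrot79 (Lpe (K30.f332088 IH) (Lpr_df (f390248 IH) (Lpe (K31.f380868 IH) (Lpn (LP (LK LD1_c5 LD2_c33 LD3_c6))))))
theorem f379857 : Led Lsl_dt (LP (LK LD1_c8 LD2_c58 LD3_c42)) = (LP (LK LD1_c4 LD2_c30 LD3_c14)) :=
  Lre_d IH (LK LD1_c8 LD2_c58 LD3_c42) (LK LD1_c4 LD2_c30 LD3_c14) Lrfl Lrfl
theorem f379858 : Led Lsl_bf (LP (LK LD1_c8 LD2_c58 LD3_c42)) = (LP (LK LD1_c5 LD2_c33 LD3_c33)) :=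
  Lgr Lrot93 (Lpr_dt (f379857 IH) (Lpr_bt (K24.f379850 IH) (Lpr_dt (K22.f238481 IH) (Lpn (LP (LK LD1_c5 LD2_c33 LD3_c33))))))
theorem f390178 : Led Lsl_bt (LP (LK LD1_c10 LD2_c58 LD3_c7)) = (LP (LK LD1_c5 LD2_c33 LD3_c6)) :=
  Lre_b IH (LK LD1_c10 LD2_c58 LD3_c7) (LK LD1_c5 LD2_c33 LD3_c6) Lrfl Lrfl
theorem f390179 : Led Lsl_gf (LP (LK LD1_c8 LD2_c58 LD3_c42)) = (LP (LK LD1_c5 LD2_c33 LD3_c6)) :=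
  Lgr Lrot124 (Lpr_bf (f379858 IH) (Lpr_ct (K22.f238482 IH) (Lpe (K31.f319810 IH) (Lpe (K31.f387735 IH) (Lpr_bt (K31.f387734 IH) (Lpr_gt (f387741 IH) (Lpr_ct (f280790 IH) (Lpr_gt (f281572 IH) (Lpr_cf (K31.f390169 IH) (Lpr_bt (f390178 IH) (Lpn (LP (LK LD1_c5 LD2_c33 LD3_c6)))))))))))))
theorem f379824 : Led Lsl_ct (LP (LK LD1_c8 LD2_c58 LD3_c41)) = (LP (LK LD1_c4 LD2_c30 LD3_c14)) :=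
  Lre_c IH (LK LD1_c8 LD2_c58 LD3_c41) (LK LD1_c4 LD2_c30 LD3_c14) Lrfl Lrfl
theorem f379840 : Led Lsl_dt (LP (LK LD1_c16 LD2_c47 LD3_c50)) = (LP (LK LD1_c8 LD2_c58 LD3_c41)) :=
  Lre_d IH (LK LD1_c16 LD2_c47 LD3_c50) (LK LD1_c8 LD2_c58 LD3_c41) Lrfl Lrfl
theorem f388545 : Led Lsl_bf (LP (LK LD1_c8 LD2_c28 LD3_c24)) = (LP (LK LD1_c10 LD2_c45 LD3_c55)) :=
  Lgr Lrot24 (Lpr_bt (K31.f388539 IH) (Lpn (LP (LK LD1_c10 LD2_c45 LD3_c55))))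
theorem f220908 : Led Lsl_bt (LP (LK LD1_c10 LD2_c53 LD3_c47)) = (LP (LK LD1_c5 LD2_c31 LD3_c7)) :=
  Lre_b IH (LK LD1_c10 LD2_c53 LD3_c47) (LK LD1_c5 LD2_c31 LD3_c7) Lrfl Lrfl
theorem f225215 : Led Lsl_bt (LP (LK LD1_c5 LD2_c31 LD3_c7)) = (LP (LK LD1_c10 LD2_c53 LD3_c47)) :=
  Lre_b IH (LK LD1_c5 LD2_c31 LD3_c7) (LK LD1_c10 LD2_c53 LD3_c47) Lrfl Lrfl
theorem f225214 : Led Lsl_bt (LP (LK LD1_c16 LD2_c47 LD3_c40)) = (LP (LK LD1_c8 LD2_c58 LD3_c36)) :=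
  Lre_b IH (LK LD1_c16 LD2_c47 LD3_c40) (LK LD1_c8 LD2_c58 LD3_c36) Lrfl Lrfl
theorem f225217 : Led Lsl_ct (LP (LK LD1_c10 LD2_c53 LD3_c47)) = (LP (LK LD1_c16 LD2_c47 LD3_c40)) :=
  Lgr Lrot83 (Lpe (f225215 IH) (Lpr_cf (K24.f225195 IH) (Lpe (K31.f225206 IH) (Lpe (K30.f225216 IH) (Lpe (f225214 IH) (Lpn (LP (LK LD1_c16 LD2_c47 LD3_c40))))))))
theorem f388599 : Led Lsl_gf (LP (LK LD1_c16 LD2_c47 LD3_c40)) = (LP (LK LD1_c19 LD2_c27 LD3_c61)) :=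
  Lgr Lrot126 (Lpe (f225217 IH) (Lpr_bt (f220908 IH) (Lpr_gt (K24.f220907 IH) (Lpr_ct (K20.f220883 IH) (Lpr_gt (K20.f178873 IH) (Lpe (K20.f220884 IH) (Lpr_bt (K20.f220885 IH) (Lpe (K20.f220886 IH) (Lpr_bf (f388545 IH) (Lpr_ct (K31.f242689 IH) (Lpn (LP (LK LD1_c19 LD2_c27 LD3_c61)))))))))))))
theorem f389409 : Led Lsl_gf (LP (LK LD1_c18 LD2_c2 LD3_c52)) = (LP (LK LD1_c16 LD2_c47 LD3_c40)) :=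
  Lgr Lrot76 (Lpr_af (K31.f389390 IH) (Lpe (K31.f389407 IH) (Lpe (f388599 IH) (Lpn (LP (LK LD1_c16 LD2_c47 LD3_c40))))))
theorem f225225 : Led Lsl_bt (LP (LK LD1_c8 LD2_c58 LD3_c36)) = (LP (LK LD1_c16 LD2_c47 LD3_c40)) :=
  Lre_b IH (LK LD1_c8 LD2_c58 LD3_c36) (LK LD1_c16 LD2_c47 LD3_c40) Lrfl Lrfl
theorem f225180 : Led Lsl_ct (LP (LK LD1_c4 LD2_c30 LD3_c15)) = (LP (LK LD1_c2 LD2_c12 LD3_c7)) :=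
  Lre_c IH (LK LD1_c4 LD2_c30 LD3_c15) (LK LD1_c2 LD2_c12 LD3_c7) Lrfl Lrfl
theorem f389411 : Led Lsl_bf (LP (LK LD1_c2 LD2_c25 LD3_c50)) = (LP (LK LD1_c4 LD2_c30 LD3_c15)) :=
  Lgr Lrot34 (Lpe (K13.f168969 IH) (Lpe (K21.f235112 IH) (Lpr_ct (K31.f295184 IH) (Lpe (K31.f278119 IH) (Lpr_cf (K31.f389343 IH) (Lpr_gf (f389409 IH) (Lpe (f225225 IH) (Lpr_ct (K30.f225216 IH) (Lpe (K24.f225193 IH) (Lpe (f225180 IH) (Lpn (LP (LK LD1_c4 LD2_c30 LD3_c15)))))))))))))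
theorem f389413 : Led Lsl_dt (LP (LK LD1_c8 LD2_c58 LD3_c46)) = (LP (LK LD1_c4 LD2_c30 LD3_c15)) :=
  Lre_d IH (LK LD1_c8 LD2_c58 LD3_c46) (LK LD1_c4 LD2_c30 LD3_c15) Lrfl Lrfl
theorem f389414 : Led Lsl_bt (LP (LK LD1_c4 LD2_c56 LD3_c3)) = (LP (LK LD1_c8 LD2_c58 LD3_c46)) :=
  Lgr Lrot95 (Lpe (K19.f169141 IH) (Lpr_bf (f389411 IH) (Lpe (f389413 IH) (Lpn (LP (LK LD1_c8 LD2_c58 LD3_c46))))))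
theorem f314393 : Led Lsl_ff (LP (LK LD1_c4 LD2_c56 LD3_c3)) = (LP (LK LD1_c7 LD2_c58 LD3_c44)) :=
  Lgr Lrot23 (Lpr_ct (K19.f235281 IH) (Lpe (K19.f235308 IH) (Lpr_ct (K19.f314389 IH) (Lpn (LP (LK LD1_c7 LD2_c58 LD3_c44))))))
theorem f213547 : Led Lsl_dt (LP (LK LD1_c2 LD2_c42 LD3_c43)) = (LP (LK LD1_c5 LD2_c33 LD3_c4)) :=
  Lre_d IH (LK LD1_c2 LD2_c42 LD3_c43) (LK LD1_c5 LD2_c33 LD3_c4) Lrfl Lrfl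
theorem f213548 : Led Lsl_bt (LP (LK LD1_c5 LD2_c33 LD3_c4)) = (LP (LK LD1_c7 LD2_c58 LD3_c44)) :=
  Lgr Lrot95 (Lpe (f213547 IH) (Lpr_bf (K20.f213482 IH) (Lpe (K19.f171305 IH) (Lpn (LP (LK LD1_c7 LD2_c58 LD3_c44))))))
theorem f389443 : Led Lsl_ff (LP (LK LD1_c5 LD2_c33 LD3_c4)) = (LP (LK LD1_c8 LD2_c58 LD3_c46)) :=
  Lgr Lrot25 (Lpr_bt (f213548 IH) (Lpe (f314393 IH) (Lpr_bt (f389414 IH) (Lpn (LP (LK LD1_c8 LD2_c58 LD3_c46))))))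
theorem f389446 : Led Lsl_ft (LP (LK LD1_c5 LD2_c33 LD3_c4)) = (LP (LK LD1_c8 LD2_c58 LD3_c46)) :=
  Lgr Lrot48 (Lpr_ff (f389443 IH) (Lpn (LP (LK LD1_c8 LD2_c58 LD3_c46))))
theorem f213701 : Led Lsl_gt (LP (LK LD1_c5 LD2_c33 LD3_c4)) = (LP (LK LD1_c10 LD2_c57 LD3_c61)) :=
  Lre_g IH (LK LD1_c5 LD2_c33 LD3_c4) (LK LD1_c10 LD2_c57 LD3_c61) Lrfl Lrfl
theorem f389440 : Led Lsl_at (LP (LK LD1_c8 LD2_c58 LD3_c46)) = (LP (LK LD1_c16 LD2_c47 LD3_c50)) :=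
  Lre_a IH (LK LD1_c8 LD2_c58 LD3_c46) (LK LD1_c16 LD2_c47 LD3_c50) Lrfl Lrfl
theorem f389452 : Led Lsl_gt (LP (LK LD1_c10 LD2_c57 LD3_c61)) = (LP (LK LD1_c16 LD2_c47 LD3_c50)) :=
  Lgr Lrot46 (Lpe (f213701 IH) (Lpr_ft (f389446 IH) (Lpr_at (f389440 IH) (Lpn (LP (LK LD1_c16 LD2_c47 LD3_c50))))))
theorem f390258 : Led Lsl_dt (LP (LK LD1_c9 LD2_c0 LD3_c47)) = (LP (LK LD1_c10 LD2_c57 LD3_c61)) :=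
  Lgr Lrot57 (Lpe (K19.f293430 IH) (Lpe (K30.f276226 IH) (Lpr_gt (K30.f181956 IH) (Lpr_dt (f390250 IH) (Lpe (f390179 IH) (Lpr_dt (f379857 IH) (Lpe (f379824 IH) (Lpe (f379840 IH) (Lpe (f389452 IH) (Lpn (LP (LK LD1_c10 LD2_c57 LD3_c61))))))))))))
theorem f390265 : Led Lsl_df (LP (LK LD1_c9 LD2_c0 LD3_c47)) = (LP (LK LD1_c10 LD2_c57 LD3_c61)) :=
  Lgr Lrot38 (Lpr_dt (f390258 IH) (Lpn (LP (LK LD1_c10 LD2_c57 LD3_c61))))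
theorem f293451 : Led Lsl_bt (LP (LK LD1_c9 LD2_c0 LD3_c47)) = (LP (LK LD1_c16 LD2_c50 LD3_c31)) :=
  Lre_b IH (LK LD1_c9 LD2_c0 LD3_c47) (LK LD1_c16 LD2_c50 LD3_c31) Lrfl Lrfl
theorem f213703 : Led Lsl_bt (LP (LK LD1_c19 LD2_c48 LD3_c13)) = (LP (LK LD1_c10 LD2_c57 LD3_c61)) :=
  Lre_b IH (LK LD1_c19 LD2_c48 LD3_c13) (LK LD1_c10 LD2_c57 LD3_c61) Lrfl Lrfl
theorem f390277 : Led Lsl_dt (LP (LK LD1_c16 LD2_c50 LD3_c31)) = (LP (LK LD1_c19 LD2_c48 LD3_c13)) :=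
  Lgr Lrot79 (Lpe (f293451 IH) (Lpr_df (f390265 IH) (Lpe (f213703 IH) (Lpn (LP (LK LD1_c19 LD2_c48 LD3_c13))))))
theorem f293457 : Led Lsl_cf (LP (LK LD1_c16 LD2_c50 LD3_c31)) = (LP (LK LD1_c10 LD2_c31 LD3_c0)) :=
  Lgr Lrot11 (Lpr_ct (K19.f293432 IH) (Lpn (LP (LK LD1_c10 LD2_c31 LD3_c0))))
theorem f312765 : Led Lsl_ff (LP (LK LD1_c5 LD2_c23 LD3_c27)) = (LP (LK LD1_c10 LD2_c30 LD3_c53)) :=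
  Lgr Lrot3 (Lpr_ft (K22.f312748 IH) (Lpn (LP (LK LD1_c10 LD2_c30 LD3_c53))))
theorem f312831 : Led Lsl_at (LP (LK LD1_c5 LD2_c23 LD3_c27)) = (LP (LK LD1_c10 LD2_c37 LD3_c25)) :=
  Lre_a IH (LK LD1_c5 LD2_c23 LD3_c27) (LK LD1_c10 LD2_c37 LD3_c25) Lrfl Lrfl
theorem f312870 : Led Lsl_gf (LP (LK LD1_c10 LD2_c37 LD3_c25)) = (LP (LK LD1_c19 LD2_c3 LD3_c21)) :=
  Lgr Lrot76 (Lpe (f312831 IH) (Lpr_ff (f312765 IH) (Lpr_gt (K30.f199325 IH) (Lpn (LP (LK LD1_c19 LD2_c3 LD3_c21))))))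
theorem f279665 : Led Lsl_bt (LP (LK LD1_c10 LD2_c39 LD3_c43)) = (LP (LK LD1_c5 LD2_c24 LD3_c31)) :=
  Lre_b IH (LK LD1_c10 LD2_c39 LD3_c43) (LK LD1_c5 LD2_c24 LD3_c31) Lrfl Lrfl
theorem f279677 : Led Lsl_gt (LP (LK LD1_c28 LD2_c43 LD3_c48)) = (LP (LK LD1_c19 LD2_c18 LD3_c26)) :=
  Lre_g IH (LK LD1_c28 LD2_c43 LD3_c48) (LK LD1_c19 LD2_c18 LD3_c26) Lrfl Lrfl
theorem f213580 : Led Lsl_dt (LP (LK LD1_c10 LD2_c58 LD3_c5)) = (LP (LK LD1_c5 LD2_c33 LD3_c5)) :=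
  Lre_d IH (LK LD1_c10 LD2_c58 LD3_c5) (LK LD1_c5 LD2_c33 LD3_c5) Lrfl Lrfl
theorem f213581 : Led Lsl_dt (LP (LK LD1_c7 LD2_c58 LD3_c45)) = (LP (LK LD1_c15 LD2_c3 LD3_c17)) :=
  Lre_d IH (LK LD1_c7 LD2_c58 LD3_c45) (LK LD1_c15 LD2_c3 LD3_c17) Lrfl Lrfl
theorem f213582 : Led Lsl_bf (LP (LK LD1_c10 LD2_c58 LD3_c5)) = (LP (LK LD1_c15 LD2_c3 LD3_c17)) :=
  Lgr Lrot93 (Lpr_dt (f213580 IH) (Lpr_bt (K20.f213552 IH) (Lpr_dt (f213581 IH) (Lpn (LP (LK LD1_c15 LD2_c3 LD3_c17))))))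
theorem f213652 : Led Lsl_et (LP (LK LD1_c10 LD2_c58 LD3_c5)) = (LP (LK LD1_c19 LD2_c48 LD3_c26)) :=
  Lre_e IH (LK LD1_c10 LD2_c58 LD3_c5) (LK LD1_c19 LD2_c48 LD3_c26) Lrfl Lrfl
theorem f213653 : Led Lsl_et (LP (LK LD1_c24 LD2_c52 LD3_c23)) = (LP (LK LD1_c15 LD2_c3 LD3_c17)) :=
  Lre_e IH (LK LD1_c24 LD2_c52 LD3_c23) (LK LD1_c15 LD2_c3 LD3_c17) Lrfl Lrfl
theorem f213654 : Led Lsl_bt (LP (LK LD1_c19 LD2_c48 LD3_c26)) = (LP (LK LD1_c24 LD2_c52 LD3_c23)) :=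
  Lgr Lrot119 (Lpe (f213652 IH) (Lpr_bf (f213582 IH) (Lpe (f213653 IH) (Lpn (LP (LK LD1_c24 LD2_c52 LD3_c23))))))
theorem f213661 : Led Lsl_dt (LP (LK LD1_c10 LD2_c58 LD3_c2)) = (LP (LK LD1_c19 LD2_c48 LD3_c26)) :=
  Lre_d IH (LK LD1_c10 LD2_c58 LD3_c2) (LK LD1_c19 LD2_c48 LD3_c26) Lrfl Lrfl
theorem f213662 : Led Lsl_dt (LP (LK LD1_c24 LD2_c52 LD3_c23)) = (LP (LK LD1_c15 LD2_c3 LD3_c14)) :=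
  Lre_d IH (LK LD1_c24 LD2_c52 LD3_c23) (LK LD1_c15 LD2_c3 LD3_c14) Lrfl Lrfl
theorem f213663 : Led Lsl_bf (LP (LK LD1_c10 LD2_c58 LD3_c2)) = (LP (LK LD1_c15 LD2_c3 LD3_c14)) :=
  Lgr Lrot93 (Lpr_dt (f213661 IH) (Lpr_bt (f213654 IH) (Lpr_dt (f213662 IH) (Lpn (LP (LK LD1_c15 LD2_c3 LD3_c14))))))
theorem f213667 : Led Lsl_bt (LP (LK LD1_c10 LD2_c58 LD3_c2)) = (LP (LK LD1_c15 LD2_c3 LD3_c14)) :=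
  Lgr Lrot127 (Lpr_bf (f213663 IH) (Lpn (LP (LK LD1_c15 LD2_c3 LD3_c14))))
theorem f213690 : Led Lsl_et (LP (LK LD1_c5 LD2_c33 LD3_c4)) = (LP (LK LD1_c10 LD2_c58 LD3_c2)) :=
  Lre_e IH (LK LD1_c5 LD2_c33 LD3_c4) (LK LD1_c10 LD2_c58 LD3_c2) Lrfl Lrfl
theorem f213691 : Led Lsl_et (LP (LK LD1_c15 LD2_c3 LD3_c14)) = (LP (LK LD1_c7 LD2_c58 LD3_c44)) :=
  Lre_e IH (LK LD1_c15 LD2_c3 LD3_c14) (LK LD1_c7 LD2_c58 LD3_c44) Lrfl Lrfl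
theorem f213692 : Led Lsl_bf (LP (LK LD1_c5 LD2_c33 LD3_c4)) = (LP (LK LD1_c7 LD2_c58 LD3_c44)) :=
  Lgr Lrot96 (Lpr_et (f213690 IH) (Lpr_bt (f213667 IH) (Lpr_et (f213691 IH) (Lpn (LP (LK LD1_c7 LD2_c58 LD3_c44))))))
theorem f316816 : Led Lsl_cf (LP (LK LD1_c28 LD2_c43 LD3_c48)) = (LP (LK LD1_c19 LD2_c48 LD3_c13)) :=
  Lgr Lrot160 (Lpr_gt (f279677 IH) (Lpe (K22.f279629 IH) (Lpr_bt (f279665 IH) (Lpr_gt (K20.f316706 IH) (Lpr_ct (K20.f293424 IH) (Lpe (K20.f316812 IH) (Lpr_cf (K20.f314391 IH) (Lpe (f213692 IH) (Lpr_gt (f213701 IH) (Lpe (f213703 IH) (Lpn (LP (LK LD1_c19 LD2_c48 LD3_c13)))))))))))))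
theorem f316821 : Led Lsl_ct (LP (LK LD1_c28 LD2_c43 LD3_c48)) = (LP (LK LD1_c19 LD2_c48 LD3_c13)) :=
  Lgr Lrot59 (Lpr_cf (f316816 IH) (Lpn (LP (LK LD1_c19 LD2_c48 LD3_c13))))
theorem f338136 : Led Lsl_gf (LP (LK LD1_c28 LD2_c43 LD3_c48)) = (LP (LK LD1_c32 LD2_c28 LD3_c9)) :=
  Lgr Lrot47 (Lpr_gt (f279677 IH) (Lpe (K22.f279683 IH) (Lpr_ff (K22.f338125 IH) (Lpn (LP (LK LD1_c32 LD2_c28 LD3_c9))))))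
theorem f390284 : Led Lsl_df (LP (LK LD1_c19 LD2_c3 LD3_c21)) = (LP (LK LD1_c19 LD2_c18 LD3_c24)) :=
  Lgr Lrot155 (Lpe (f312870 IH) (Lpr_ct (K19.f303291 IH) (Lpr_gt (K19.f312884 IH) (Lpe (f293457 IH) (Lpr_dt (f390277 IH) (Lpe (f316821 IH) (Lpr_gf (f338136 IH) (Lpe (K22.f235192 IH) (Lpe (f338226 IH) (Lpn (LP (LK LD1_c19 LD2_c18 LD3_c24))))))))))))
theorem f390288 : Led Lsl_dt (LP (LK LD1_c19 LD2_c3 LD3_c21)) = (LP (LK LD1_c19 LD2_c18 LD3_c24)) :=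
  Lgr Lrot42 (Lpr_df (f390284 IH) (Lpn (LP (LK LD1_c19 LD2_c18 LD3_c24))))
theorem f395837 : Led Lsl_df (LP (LK LD1_c10 LD2_c39 LD3_c56)) = (LP (LK LD1_c10 LD2_c30 LD3_c61)) :=
  Lgr Lrot153 (Lpr_gt (f395835 IH) (Lpr_dt (K22.f235189 IH) (Lpe (K22.f235169 IH) (Lpe (f235184 IH) (Lpe (f338226 IH) (Lpe (f390288 IH) (Lpe (K30.f199325 IH) (Lpe (K30.f235657 IH) (Lpr_gt (f187048 IH) (Lpn (LP (LK LD1_c10 LD2_c30 LD3_c61))))))))))))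
theorem f286866 : Led Lsl_bt (LP (LK LD1_c10 LD2_c39 LD3_c56)) = (LP (LK LD1_c19 LD2_c18 LD3_c46)) :=
  Lre_b IH (LK LD1_c10 LD2_c39 LD3_c56) (LK LD1_c19 LD2_c18 LD3_c46) Lrfl Lrfl
theorem f395839 : Led Lsl_dt (LP (LK LD1_c19 LD2_c18 LD3_c46)) = (LP (LK LD1_c19 LD2_c3 LD3_c38)) :=
  Lgr Lrot79 (Lpe (f286866 IH) (Lpr_df (f395837 IH) (Lpe (f224821 IH) (Lpn (LP (LK LD1_c19 LD2_c3 LD3_c38))))))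
theorem f218227 : Led Lsl_ct (LP (LK LD1_c4 LD2_c55 LD3_c35)) = (LP (LK LD1_c2 LD2_c38 LD3_c52)) :=
  Lgr Lrot7 (Lpe (K20.f55172 IH) (Lpe (K20.f55169 IH) (Lpe (K14.f55216 IH) (Lpe (K12.f55192 IH) (Lpr_cf (K12.f217660 IH) (Lpr_gt (K12.f217674 IH) (Lpe (K12.f217735 IH) (Lpr_gt (K12.f217930 IH) (Lpr_dt (K20.f194615 IH) (Lpn (LP (LK LD1_c2 LD2_c38 LD3_c52))))))))))))
theorem f286860 : Led Lsl_gt (LP (LK LD1_c5 LD2_c36 LD3_c13)) = (LP (LK LD1_c4 LD2_c55 LD3_c35)) :=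
  Lgr Lrot146 (Lpr_dt (K17.f178072 IH) (Lpr_gt (K12.f228733 IH) (Lpr_ct (K12.f223869 IH) (Lpe (K14.f246386 IH) (Lpr_ct (K14.f246391 IH) (Lpr_dt (K16.f246393 IH) (Lpr_cf (K17.f286850 IH) (Lpe (K25.f286858 IH) (Lpe (f218227 IH) (Lpn (LP (LK LD1_c4 LD2_c55 LD3_c35))))))))))))
theorem f253928 : Led Lsl_dt (LP (LK LD1_c9 LD2_c42 LD3_c52)) = (LP (LK LD1_c5 LD2_c22 LD3_c18)) :=
  Lgr Lrot42 (Lpr_df (K14.f253926 IH) (Lpn (LP (LK LD1_c5 LD2_c22 LD3_c18))))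
theorem f263997 : Led Lsl_ct (LP (LK LD1_c5 LD2_c24 LD3_c59)) = (LP (LK LD1_c5 LD2_c36 LD3_c13)) :=
  Lgr Lrot176 (Lpr_df (K15.f263981 IH) (Lpe (K12.f221670 IH) (Lpe (K15.f257027 IH) (Lpr_cf (K15.f258255 IH) (Lpr_df (K15.f250412 IH) (Lpe (K14.f253915 IH) (Lpe (f253928 IH) (Lpe (K14.f246501 IH) (Lpe (K14.f246551 IH) (Lpe (K13.f179763 IH) (Lpe (K12.f187022 IH) (Lpe (K22.f228806 IH) (Lpe (K12.f178288 IH) (Lpe (K12.f178071 IH) (Lpe (K17.f178072 IH) (Lpn (LP (LK LD1_c5 LD2_c36 LD3_c13))))))))))))))))))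
theorem f246493 : Led Lsl_bt (LP (LK LD1_c5 LD2_c24 LD3_c55)) = (LP (LK LD1_c2 LD2_c38 LD3_c61)) :=
  Lre_b IH (LK LD1_c5 LD2_c24 LD3_c55) (LK LD1_c2 LD2_c38 LD3_c61) Lrfl Lrfl
theorem f246464 : Led Lsl_ct (LP (LK LD1_c5 LD2_c24 LD3_c55)) = (LP (LK LD1_c10 LD2_c40 LD3_c35)) :=
  Lre_c IH (LK LD1_c5 LD2_c24 LD3_c55) (LK LD1_c10 LD2_c40 LD3_c35) Lrfl Lrfl
theorem f263963 : Led Lsl_gt (LP (LK LD1_c19 LD2_c19 LD3_c57)) = (LP (LK LD1_c10 LD2_c40 LD3_c35)) :=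
  Lre_g IH (LK LD1_c19 LD2_c19 LD3_c57) (LK LD1_c10 LD2_c40 LD3_c35) Lrfl Lrfl
theorem f218624 : Led Lsl_bt (LP (LK LD1_c2 LD2_c38 LD3_c52)) = (LP (LK LD1_c5 LD2_c24 LD3_c39)) :=
  Lre_b IH (LK LD1_c2 LD2_c38 LD3_c52) (LK LD1_c5 LD2_c24 LD3_c39) Lrfl Lrfl
theorem f218626 : Led Lsl_bt (LP (LK LD1_c19 LD2_c18 LD3_c46)) = (LP (LK LD1_c10 LD2_c39 LD3_c56)) :=
  Lre_b IH (LK LD1_c19 LD2_c18 LD3_c46) (LK LD1_c10 LD2_c39 LD3_c56) Lrfl Lrfl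
theorem f286863 : Led Lsl_cf (LP (LK LD1_c19 LD2_c19 LD3_c57)) = (LP (LK LD1_c19 LD2_c18 LD3_c46)) :=
  Lgr Lrot160 (Lpr_gt (f263963 IH) (Lpe (f246464 IH) (Lpr_bt (f246493 IH) (Lpr_gt (K15.f195891 IH) (Lpr_ct (f263997 IH) (Lpr_gt (f286860 IH) (Lpr_cf (K20.f218229 IH) (Lpr_bt (f218624 IH) (Lpr_gt (f218625 IH) (Lpe (f218626 IH) (Lpn (LP (LK LD1_c19 LD2_c18 LD3_c46)))))))))))))
theorem f286867 : Led Lsl_ct (LP (LK LD1_c19 LD2_c19 LD3_c57)) = (LP (LK LD1_c19 LD2_c18 LD3_c46)) :=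
  Lgr Lrot59 (Lpr_cf (f286863 IH) (Lpn (LP (LK LD1_c19 LD2_c18 LD3_c46))))
theorem f550427 : Led Lsl_dt (LP (LK LD1_c16 LD2_c1 LD3_c45)) = (LP (LK LD1_c19 LD2_c19 LD3_c57)) :=
  Lgr Lrot140 (Lpe (K31.f52104 IH) (Lpe (K30.f397807 IH) (Lpe (f550386 IH) (Lpr_df (f550380 IH) (Lpr_ft (f550418 IH) (Lpe (f550425 IH) (Lpe (f224822 IH) (Lpe (f395839 IH) (Lpe (f286867 IH) (Lpn (LP (LK LD1_c19 LD2_c19 LD3_c57))))))))))))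
theorem f397793 : Led Lsl_gf (LP (LK LD1_c16 LD2_c17 LD3_c50)) = (LP (LK LD1_c15 LD2_c59 LD3_c44)) :=
  Lgr Lrot47 (Lpr_gt (K30.f397791 IH) (Lpr_af (K30.f397054 IH) (Lpe (K30.f397075 IH) (Lpn (LP (LK LD1_c15 LD2_c59 LD3_c44))))))
theorem f397814 : Led Lsl_gf (LP (LK LD1_c15 LD2_c59 LD3_c44)) = (LP (LK LD1_c16 LD2_c1 LD3_c45)) :=
  Lgr Lrot47 (Lpe (f397793 IH) (Lpr_af (K30.f397607 IH) (Lpr_ff (K30.f397805 IH) (Lpn (LP (LK LD1_c16 LD2_c1 LD3_c45))))))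
theorem f260546 : Led Lsl_dt (LP (LK LD1_c8 LD2_c41 LD3_c11)) = (LP (LK LD1_c4 LD2_c21 LD3_c47)) :=
  Lre_d IH (LK LD1_c8 LD2_c41 LD3_c11) (LK LD1_c4 LD2_c21 LD3_c47) Lrfl Lrfl
theorem f246494 : Led Lsl_ct (LP (LK LD1_c10 LD2_c40 LD3_c35)) = (LP (LK LD1_c5 LD2_c24 LD3_c55)) :=
  Lre_c IH (LK LD1_c10 LD2_c40 LD3_c35) (LK LD1_c5 LD2_c24 LD3_c55) Lrfl Lrfl
theorem f246472 : Led Lsl_gt (LP (LK LD1_c5 LD2_c24 LD3_c55)) = (LP (LK LD1_c10 LD2_c40 LD3_c33)) :=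
  Lre_g IH (LK LD1_c5 LD2_c24 LD3_c55) (LK LD1_c10 LD2_c40 LD3_c33) Lrfl Lrfl
theorem f550439 : Led Lsl_cf (LP (LK LD1_c8 LD2_c41 LD3_c11)) = (LP (LK LD1_c10 LD2_c40 LD3_c33)) :=
  Lgr Lrot175 (Lpr_dt (f260546 IH) (Lpr_cf (K30.f237766 IH) (Lpe (K30.f260561 IH) (Lpe (K30.f260562 IH) (Lpr_gf (f397814 IH) (Lpr_dt (f550427 IH) (Lpr_gt (f263963 IH) (Lpr_ct (f246494 IH) (Lpr_gt (f246472 IH) (Lpn (LP (LK LD1_c10 LD2_c40 LD3_c33))))))))))))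
theorem f270419 : Led Lsl_dt (LP (LK LD1_c4 LD2_c21 LD3_c47)) = (LP (LK LD1_c8 LD2_c41 LD3_c11)) :=
  Lre_d IH (LK LD1_c4 LD2_c21 LD3_c47) (LK LD1_c8 LD2_c41 LD3_c11) Lrfl Lrfl
theorem f373754 : Led Lsl_at (LP (LK LD1_c16 LD2_c15 LD3_c6)) = (LP (LK LD1_c8 LD2_c40 LD3_c41)) :=
  Lre_a IH (LK LD1_c16 LD2_c15 LD3_c6) (LK LD1_c8 LD2_c40 LD3_c41) Lrfl Lrfl
theorem f373755 : Led Lsl_ff (LP (LK LD1_c16 LD2_c15 LD3_c6)) = (LP (LK LD1_c17 LD2_c44 LD3_c38)) :=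
  Lgr Lrot30 (Lpr_at (f373754 IH) (Lpr_ft (K27.f373750 IH) (Lpr_at (K27.f224970 IH) (Lpn (LP (LK LD1_c17 LD2_c44 LD3_c38))))))
theorem f373998 : Led Lsl_gf (LP (LK LD1_c16 LD2_c15 LD3_c9)) = (LP (LK LD1_c17 LD2_c44 LD3_c38)) :=
  Lgr Lrot47 (Lpr_gt (K31.f243203 IH) (Lpe (f373754 IH) (Lpr_ff (f373755 IH) (Lpn (LP (LK LD1_c17 LD2_c44 LD3_c38))))))
theorem f550445 : Led Lsl_dt (LP (LK LD1_c19 LD2_c19 LD3_c52)) = (LP (LK LD1_c10 LD2_c40 LD3_c33)) :=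
  Lre_d IH (LK LD1_c19 LD2_c19 LD3_c52) (LK LD1_c10 LD2_c40 LD3_c33) Lrfl Lrfl
theorem f550448 : Led Lsl_gt (LP (LK LD1_c15 LD2_c36 LD3_c41)) = (LP (LK LD1_c19 LD2_c19 LD3_c52)) :=
  Lgr Lrot49 (Lpe (K22.f221763 IH) (Lpe (K31.f398417 IH) (Lpe (K27.f373740 IH) (Lpe (f373998 IH) (Lpe (K31.f398811 IH) (Lpr_gt (K30.f260555 IH) (Lpr_dt (f270419 IH) (Lpr_cf (f550439 IH) (Lpe (f550445 IH) (Lpn (LP (LK LD1_c19 LD2_c19 LD3_c52))))))))))))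
theorem f550450 : Led Lsl_gf (LP (LK LD1_c17 LD2_c48 LD3_c58)) = (LP (LK LD1_c19 LD2_c19 LD3_c52)) :=
  Lgr Lrot76 (Lpe (K31.f224120 IH) (Lpe (K22.f339383 IH) (Lpr_gt (f550448 IH) (Lpn (LP (LK LD1_c19 LD2_c19 LD3_c52))))))
theorem f246473 : Led Lsl_dt (LP (LK LD1_c10 LD2_c40 LD3_c33)) = (LP (LK LD1_c19 LD2_c19 LD3_c52)) :=
  Lre_d IH (LK LD1_c10 LD2_c40 LD3_c33) (LK LD1_c19 LD2_c19 LD3_c52) Lrfl Lrfl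
theorem f263958 : Led Lsl_gt (LP (LK LD1_c10 LD2_c40 LD3_c35)) = (LP (LK LD1_c19 LD2_c19 LD3_c56)) :=
  Lre_g IH (LK LD1_c10 LD2_c40 LD3_c35) (LK LD1_c19 LD2_c19 LD3_c56) Lrfl Lrfl
theorem f550510 : Led Lsl_df (LP (LK LD1_c16 LD2_c17 LD3_c50)) = (LP (LK LD1_c19 LD2_c19 LD3_c56)) :=
  Lgr Lrot153 (Lpr_gt (K30.f397791 IH) (Lpr_dt (K30.f397058 IH) (Lpe (K30.f224129 IH) (Lpr_df (K31.f224121 IH) (Lpr_gf (f550450 IH) (Lpe (f246473 IH) (Lpe (f246472 IH) (Lpe (f246494 IH) (Lpr_gt (f263958 IH) (Lpn (LP (LK LD1_c19 LD2_c19 LD3_c56))))))))))))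
theorem f550516 : Led Lsl_dt (LP (LK LD1_c16 LD2_c17 LD3_c50)) = (LP (LK LD1_c19 LD2_c19 LD3_c56)) :=
  Lgr Lrot42 (Lpr_df (f550510 IH) (Lpn (LP (LK LD1_c19 LD2_c19 LD3_c56))))
theorem f382939 : Led Lsl_at (LP (LK LD1_c19 LD2_c15 LD3_c8)) = (LP (LK LD1_c10 LD2_c37 LD3_c48)) :=
  Lre_a IH (LK LD1_c19 LD2_c15 LD3_c8) (LK LD1_c10 LD2_c37 LD3_c48) Lrfl Lrfl
theorem f382940 : Led Lsl_ff (LP (LK LD1_c19 LD2_c15 LD3_c8)) = (LP (LK LD1_c19 LD2_c39 LD3_c25)) :=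
  Lgr Lrot52 (Lpr_at (f382939 IH) (Lpe (K30.f224423 IH) (Lpr_gf (K30.f382936 IH) (Lpn (LP (LK LD1_c19 LD2_c39 LD3_c25))))))
theorem f550422 : Led Lsl_cf (LP (LK LD1_c15 LD2_c36 LD3_c43)) = (LP (LK LD1_c19 LD2_c15 LD3_c8)) :=
  Lgr Lrot108 (Lpr_ft (f550418 IH) (Lpr_ct (K30.f234792 IH) (Lpe (f382940 IH) (Lpn (LP (LK LD1_c19 LD2_c15 LD3_c8))))))
theorem f226301 : Led Lsl_at (LP (LK LD1_c19 LD2_c50 LD3_c17)) = (LP (LK LD1_c11 LD2_c0 LD3_c3)) :=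
  Lre_a IH (LK LD1_c19 LD2_c50 LD3_c17) (LK LD1_c11 LD2_c0 LD3_c3) Lrfl Lrfl
theorem f246524 : Led Lsl_ft (LP (LK LD1_c11 LD2_c0 LD3_c40)) = (LP (LK LD1_c19 LD2_c50 LD3_c17)) :=
  Lre_f IH (LK LD1_c11 LD2_c0 LD3_c40) (LK LD1_c19 LD2_c50 LD3_c17) Lrfl Lrfl
theorem f246525 : Led Lsl_gt (LP (LK LD1_c11 LD2_c0 LD3_c40)) = (LP (LK LD1_c19 LD2_c20 LD3_c7)) :=
  Lgr Lrot5 (Lpr_ft (f246524 IH) (Lpr_at (f226301 IH) (Lpr_gf (K14.f246522 IH) (Lpn (LP (LK LD1_c19 LD2_c20 LD3_c7))))))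
theorem f386572 : Led Lsl_bt (LP (LK LD1_c19 LD2_c50 LD3_c56)) = (LP (LK LD1_c11 LD2_c0 LD3_c1)) :=
  Lre_b IH (LK LD1_c19 LD2_c50 LD3_c56) (LK LD1_c11 LD2_c0 LD3_c1) Lrfl Lrfl
theorem f417758 : Led Lsl_ct (LP (LK LD1_c19 LD2_c50 LD3_c56)) = (LP (LK LD1_c19 LD2_c19 LD3_c56)) :=
  Lgr Lrot10 (Lpr_bt (f386572 IH) (Lpr_gt (K31.f246560 IH) (Lpr_ct (K30.f226306 IH) (Lpr_gt (f246525 IH) (Lpe (K14.f246497 IH) (Lpr_bt (K14.f213038 IH) (Lpr_gt (K14.f213037 IH) (Lpe (f246493 IH) (Lpr_ct (f246464 IH) (Lpr_gt (f263958 IH) (Lpn (LP (LK LD1_c19 LD2_c19 LD3_c56)))))))))))))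
theorem f417760 : Led Lsl_cf (LP (LK LD1_c19 LD2_c50 LD3_c56)) = (LP (LK LD1_c19 LD2_c19 LD3_c56)) :=
  Lgr Lrot11 (Lpr_ct (f417758 IH) (Lpn (LP (LK LD1_c19 LD2_c19 LD3_c56))))
theorem f550530 : Led Lsl_df (LP (LK LD1_c19 LD2_c15 LD3_c8)) = (LP (LK LD1_c19 LD2_c50 LD3_c56)) :=
  Lgr Lrot106 (Lpe (f550422 IH) (Lpe (f550380 IH) (Lpr_ct (f550386 IH) (Lpr_dt (K30.f397807 IH) (Lpr_ct (K31.f52104 IH) (Lpe (K30.f397795 IH) (Lpe (K30.f397632 IH) (Lpr_dt (f550516 IH) (Lpe (f417760 IH) (Lpn (LP (LK LD1_c19 LD2_c50 LD3_c56))))))))))))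
theorem f550536 : Led Lsl_dt (LP (LK LD1_c19 LD2_c15 LD3_c8)) = (LP (LK LD1_c19 LD2_c50 LD3_c56)) :=
  Lgr Lrot42 (Lpr_df (f550530 IH) (Lpn (LP (LK LD1_c19 LD2_c50 LD3_c56))))
theorem f550542 : Led Lsl_cf (LP (LK LD1_c19 LD2_c15 LD3_c8)) = (LP (LK LD1_c15 LD2_c36 LD3_c43)) :=
  Lgr Lrot116 (Lpr_dt (f550536 IH) (Lpr_ct (f417758 IH) (Lpe (f550510 IH) (Lpr_ct (K31.f397630 IH) (Lpe (K31.f167061 IH) (Lpr_ff (K30.f397821 IH) (Lpr_dt (f397836 IH) (Lpe (f550388 IH) (Lpr_dt (f550376 IH) (Lpn (LP (LK LD1_c15 LD2_c36 LD3_c43))))))))))))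
theorem f246498 : Led Lsl_gt (LP (LK LD1_c10 LD2_c40 LD3_c34)) = (LP (LK LD1_c5 LD2_c24 LD3_c55)) :=
  Lre_g IH (LK LD1_c10 LD2_c40 LD3_c34) (LK LD1_c5 LD2_c24 LD3_c55) Lrfl Lrfl
theorem f417765 : Led Lsl_dt (LP (LK LD1_c10 LD2_c40 LD3_c34)) = (LP (LK LD1_c19 LD2_c19 LD3_c54)) :=
  Lre_d IH (LK LD1_c10 LD2_c40 LD3_c34) (LK LD1_c19 LD2_c19 LD3_c54) Lrfl Lrfl
theorem f550544 : Led Lsl_gf (LP (LK LD1_c15 LD2_c36 LD3_c41)) = (LP (LK LD1_c19 LD2_c19 LD3_c54)) :=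
  Lgr Lrot179 (Lpr_ct (K22.f221780 IH) (Lpr_gt (f226949 IH) (Lpe (f550542 IH) (Lpr_dt (f550536 IH) (Lpr_cf (f417760 IH) (Lpe (f263958 IH) (Lpe (f246464 IH) (Lpe (f246498 IH) (Lpr_dt (f417765 IH) (Lpn (LP (LK LD1_c19 LD2_c19 LD3_c54))))))))))))
theorem f221789 : Led Lsl_bt (LP (LK LD1_c8 LD2_c18 LD3_c7)) = (LP (LK LD1_c4 LD2_c9 LD3_c2)) :=
  Lre_b IH (LK LD1_c8 LD2_c18 LD3_c7) (LK LD1_c4 LD2_c9 LD3_c2) Lrfl Lrfl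
theorem f220286 : Led Lsl_bt (LP (LK LD1_c5 LD2_c29 LD3_c45)) = (LP (LK LD1_c2 LD2_c41 LD3_c11)) :=
  Lre_b IH (LK LD1_c5 LD2_c29 LD3_c45) (LK LD1_c2 LD2_c41 LD3_c11) Lrfl Lrfl
theorem f53088 : Led Lsl_gt (LP (LK LD1_c8 LD2_c6 LD3_c4)) = (LP (LK LD1_c15 LD2_c15 LD3_c5)) :=
  Lre_g IH (LK LD1_c8 LD2_c6 LD3_c4) (LK LD1_c15 LD2_c15 LD3_c5) Lrfl Lrfl
theorem f222578 : Led Lsl_bt (LP (LK LD1_c25 LD2_c4 LD3_c8)) = (LP (LK LD1_c15 LD2_c15 LD3_c5)) :=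
  Lre_b IH (LK LD1_c25 LD2_c4 LD3_c8) (LK LD1_c15 LD2_c15 LD3_c5) Lrfl Lrfl
theorem f550551 : Led Lsl_ct (LP (LK LD1_c25 LD2_c4 LD3_c8)) = (LP (LK LD1_c19 LD2_c19 LD3_c54)) :=
  Lgr Lrot64 (Lpr_bt (f222578 IH) (Lpe (f53088 IH) (Lpe (K31.f53087 IH) (Lpr_ct (K14.f196394 IH) (Lpe (K13.f233927 IH) (Lpe (K13.f220215 IH) (Lpe (K13.f228401 IH) (Lpe (f221789 IH) (Lpr_ct (K30.f221787 IH) (Lpr_gf (f550544 IH) (Lpn (LP (LK LD1_c19 LD2_c19 LD3_c54)))))))))))))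
theorem f550553 : Led Lsl_gt (LP (LK LD1_c28 LD2_c37 LD3_c61)) = (LP (LK LD1_c25 LD2_c4 LD3_c8)) :=
  Lgr Lrot82 (Lpe (K31.f391214 IH) (Lpr_ct (K31.f220319 IH) (Lpe (K22.f211439 IH) (Lpe (K30.f220224 IH) (Lpr_bt (f220286 IH) (Lpe (K13.f228401 IH) (Lpe (f221789 IH) (Lpr_ct (K30.f221787 IH) (Lpr_gf (f550544 IH) (Lpe (f550551 IH) (Lpn (LP (LK LD1_c25 LD2_c4 LD3_c8)))))))))))))
theorem f374521 : Led Lsl_cf (LP (LK LD1_c25 LD2_c53 LD3_c28)) = (LP (LK LD1_c28 LD2_c30 LD3_c57)) :=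
  Lgr Lrot11 (Lpr_ct (K31.f374517 IH) (Lpn (LP (LK LD1_c28 LD2_c30 LD3_c57))))
theorem f373833 : Led Lsl_ff (LP (LK LD1_c15 LD2_c58 LD3_c38)) = (LP (LK LD1_c25 LD2_c53 LD3_c28)) :=
  Lgr Lrot19 (Lpr_dt (K30.f243243 IH) (Lpr_ft (K30.f373830 IH) (Lpr_dt (K31.f197699 IH) (Lpn (LP (LK LD1_c25 LD2_c53 LD3_c28))))))
theorem f373983 : Led Lsl_gf (LP (LK LD1_c15 LD2_c58 LD3_c41)) = (LP (LK LD1_c25 LD2_c53 LD3_c28)) :=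
  Lgr Lrot47 (Lpr_gt (K31.f243201 IH) (Lpe (K27.f373860 IH) (Lpr_ff (f373833 IH) (Lpn (LP (LK LD1_c25 LD2_c53 LD3_c28))))))
theorem f260544 : Led Lsl_dt (LP (LK LD1_c4 LD2_c16 LD3_c5)) = (LP (LK LD1_c8 LD2_c31 LD3_c15)) :=
  Lre_d IH (LK LD1_c4 LD2_c16 LD3_c5) (LK LD1_c8 LD2_c31 LD3_c15) Lrfl Lrfl
theorem f260545 : Led Lsl_ct (LP (LK LD1_c8 LD2_c31 LD3_c15)) = (LP (LK LD1_c15 LD2_c59 LD3_c49)) :=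
  Lre_c IH (LK LD1_c8 LD2_c31 LD3_c15) (LK LD1_c15 LD2_c59 LD3_c49) Lrfl Lrfl
theorem f550562 : Led Lsl_df (LP (LK LD1_c15 LD2_c59 LD3_c49)) = (LP (LK LD1_c25 LD2_c4 LD3_c8)) :=
  Lgr Lrot84 (Lpe (f260545 IH) (Lpe (f260544 IH) (Lpe (K30.f260561 IH) (Lpe (f399085 IH) (Lpr_gf (f373983 IH) (Lpr_cf (f374521 IH) (Lpe (K31.f374602 IH) (Lpr_dt (K31.f398805 IH) (Lpr_gt (f550553 IH) (Lpn (LP (LK LD1_c25 LD2_c4 LD3_c8))))))))))))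
theorem f260550 : Led Lsl_dt (LP (LK LD1_c8 LD2_c31 LD3_c15)) = (LP (LK LD1_c4 LD2_c16 LD3_c5)) :=
  Lre_d IH (LK LD1_c8 LD2_c31 LD3_c15) (LK LD1_c4 LD2_c16 LD3_c5) Lrfl Lrfl
theorem f550443 : Led Lsl_ct (LP (LK LD1_c8 LD2_c41 LD3_c11)) = (LP (LK LD1_c10 LD2_c40 LD3_c33)) :=
  Lgr Lrot59 (Lpr_cf (f550439 IH) (Lpn (LP (LK LD1_c10 LD2_c40 LD3_c33))))
theorem f246474 : Led Lsl_ct (LP (LK LD1_c19 LD2_c19 LD3_c52)) = (LP (LK LD1_c28 LD2_c44 LD3_c51)) :=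
  Lre_c IH (LK LD1_c19 LD2_c19 LD3_c52) (LK LD1_c28 LD2_c44 LD3_c51) Lrfl Lrfl
theorem f220743 : Led Lsl_bt (LP (LK LD1_c8 LD2_c18 LD3_c5)) = (LP (LK LD1_c15 LD2_c36 LD3_c41)) :=
  Lre_b IH (LK LD1_c8 LD2_c18 LD3_c5) (LK LD1_c15 LD2_c36 LD3_c41) Lrfl Lrfl
theorem f550454 : Led Lsl_bt (LP (LK LD1_c16 LD2_c21 LD3_c31)) = (LP (LK LD1_c19 LD2_c19 LD3_c52)) :=
  Lgr Lrot92 (Lpe (K31.f388741 IH) (Lpr_gt (K31.f228410 IH) (Lpe (K31.f228409 IH) (Lpr_bt (K31.f228408 IH) (Lpr_gt (K12.f217729 IH) (Lpe (K12.f228406 IH) (Lpr_gt (K12.f228398 IH) (Lpe (K12.f218832 IH) (Lpr_bt (f220743 IH) (Lpr_gt (f550448 IH) (Lpn (LP (LK LD1_c19 LD2_c19 LD3_c52)))))))))))))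
theorem f257012 : Led Lsl_bf (LP (LK LD1_c19 LD2_c14 LD3_c60)) = (LP (LK LD1_c17 LD2_c48 LD3_c56)) :=
  Lgr Lrot24 (Lpr_bt (f257009 IH) (Lpn (LP (LK LD1_c17 LD2_c48 LD3_c56))))
theorem f550464 : Led Lsl_ff (LP (LK LD1_c17 LD2_c48 LD3_c56)) = (LP (LK LD1_c19 LD2_c19 LD3_c52)) :=
  Lgr Lrot25 (Lpe (f257012 IH) (Lpr_ft (f403131 IH) (Lpr_bt (f550454 IH) (Lpn (LP (LK LD1_c19 LD2_c19 LD3_c52))))))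
theorem f550468 : Led Lsl_ft (LP (LK LD1_c17 LD2_c48 LD3_c56)) = (LP (LK LD1_c19 LD2_c19 LD3_c52)) :=
  Lgr Lrot48 (Lpr_ff (f550464 IH) (Lpn (LP (LK LD1_c19 LD2_c19 LD3_c52))))
theorem f339385 : Led Lsl_gf (LP (LK LD1_c25 LD2_c31 LD3_c15)) = (LP (LK LD1_c17 LD2_c48 LD3_c56)) :=
  Lgr Lrot76 (Lpe (K30.f221777 IH) (Lpr_ff (K22.f339356 IH) (Lpr_gt (K16.f216308 IH) (Lpn (LP (LK LD1_c17 LD2_c48 LD3_c56))))))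
theorem f550474 : Led Lsl_af (LP (LK LD1_c17 LD2_c48 LD3_c57)) = (LP (LK LD1_c19 LD2_c19 LD3_c52)) :=
  Lgr Lrot31 (Lpe (K31.f395663 IH) (Lpr_gf (f339385 IH) (Lpr_ft (f550468 IH) (Lpn (LP (LK LD1_c19 LD2_c19 LD3_c52))))))
theorem f395669 : Led Lsl_cf (LP (LK LD1_c19 LD2_c35 LD3_c10)) = (LP (LK LD1_c17 LD2_c48 LD3_c57)) :=
  Lgr Lrot11 (Lpr_ct (K31.f395665 IH) (Lpn (LP (LK LD1_c17 LD2_c48 LD3_c57))))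
theorem f374510 : Led Lsl_ct (LP (LK LD1_c28 LD2_c44 LD3_c51)) = (LP (LK LD1_c19 LD2_c19 LD3_c52)) :=
  Lre_c IH (LK LD1_c28 LD2_c44 LD3_c51) (LK LD1_c19 LD2_c19 LD3_c52) Lrfl Lrfl
theorem f550480 : Led Lsl_at (LP (LK LD1_c19 LD2_c35 LD3_c10)) = (LP (LK LD1_c28 LD2_c44 LD3_c51)) :=
  Lgr Lrot107 (Lpr_cf (f395669 IH) (Lpr_af (f550474 IH) (Lpe (f374510 IH) (Lpn (LP (LK LD1_c28 LD2_c44 LD3_c51))))))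
theorem f550572 : Led Lsl_ff (LP (LK LD1_c19 LD2_c35 LD3_c10)) = (LP (LK LD1_c25 LD2_c4 LD3_c8)) :=
  Lgr Lrot103 (Lpr_at (f550480 IH) (Lpe (f246474 IH) (Lpe (f246473 IH) (Lpe (f550443 IH) (Lpe (f270419 IH) (Lpr_cf (K30.f237766 IH) (Lpe (f260550 IH) (Lpe (f260553 IH) (Lpr_df (f550562 IH) (Lpn (LP (LK LD1_c25 LD2_c4 LD3_c8))))))))))))
theorem f550564 : Led Lsl_bt (LP (LK LD1_c15 LD2_c15 LD3_c5)) = (LP (LK LD1_c25 LD2_c4 LD3_c8)) :=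
  Lre_b IH (LK LD1_c15 LD2_c15 LD3_c5) (LK LD1_c25 LD2_c4 LD3_c8) Lrfl Lrfl
theorem f550575 : Led Lsl_ft (LP (LK LD1_c10 LD2_c50 LD3_c7)) = (LP (LK LD1_c15 LD2_c15 LD3_c5)) :=
  Lgr Lrot75 (Lpe (K31.f222670 IH) (Lpr_ff (f550572 IH) (Lpe (f550564 IH) (Lpn (LP (LK LD1_c15 LD2_c15 LD3_c5))))))
theorem f222667 : Led Lsl_dt (LP (LK LD1_c19 LD2_c35 LD3_c12)) = (LP (LK LD1_c10 LD2_c50 LD3_c7)) :=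
  Lre_d IH (LK LD1_c19 LD2_c35 LD3_c12) (LK LD1_c10 LD2_c50 LD3_c7) Lrfl Lrfl
theorem f550577 : Led Lsl_df (LP (LK LD1_c19 LD2_c44 LD3_c26)) = (LP (LK LD1_c15 LD2_c15 LD3_c5)) :=
  Lgr Lrot78 (Lpr_ft (f550083 IH) (Lpr_dt (f222667 IH) (Lpr_ft (f550575 IH) (Lpn (LP (LK LD1_c15 LD2_c15 LD3_c5))))))
theorem f213287 : Led Lsl_at (LP (LK LD1_c15 LD2_c15 LD3_c14)) = (LP (LK LD1_c25 LD2_c4 LD3_c19)) :=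
  Lre_a IH (LK LD1_c15 LD2_c15 LD3_c14) (LK LD1_c25 LD2_c4 LD3_c19) Lrfl Lrfl
theorem f213302 : Led Lsl_gf (LP (LK LD1_c25 LD2_c4 LD3_c19)) = (LP (LK LD1_c19 LD2_c44 LD3_c26)) :=
  Lgr Lrot76 (Lpe (f213287 IH) (Lpr_ff (K24.f213277 IH) (Lpr_gt (f213301 IH) (Lpn (LP (LK LD1_c19 LD2_c44 LD3_c26))))))
theorem f221399 : Led Lsl_dt (LP (LK LD1_c19 LD2_c40 LD3_c56)) = (LP (LK LD1_c10 LD2_c53 LD3_c27)) :=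
  Lre_d IH (LK LD1_c19 LD2_c40 LD3_c56) (LK LD1_c10 LD2_c53 LD3_c27) Lrfl Lrfl
theorem f386404 : Led Lsl_cf (LP (LK LD1_c10 LD2_c46 LD3_c7)) = (LP (LK LD1_c15 LD2_c15 LD3_c7)) :=
  Lgr Lrot11 (Lpr_ct (K31.f386400 IH) (Lpn (LP (LK LD1_c15 LD2_c15 LD3_c7))))
theorem f386406 : Led Lsl_ct (LP (LK LD1_c5 LD2_c27 LD3_c30)) = (LP (LK LD1_c8 LD2_c6 LD3_c4)) :=
  Lgr Lrot111 (Lpe (K31.f244986 IH) (Lpr_cf (f386404 IH) (Lpe (K31.f222616 IH) (Lpn (LP (LK LD1_c8 LD2_c6 LD3_c4))))))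
theorem f245014 : Led Lsl_dt (LP (LK LD1_c10 LD2_c46 LD3_c5)) = (LP (LK LD1_c19 LD2_c28 LD3_c28)) :=
  Lre_d IH (LK LD1_c10 LD2_c46 LD3_c5) (LK LD1_c19 LD2_c28 LD3_c28) Lrfl Lrfl
theorem f550629 : Led Lsl_gf (LP (LK LD1_c19 LD2_c40 LD3_c56)) = (LP (LK LD1_c19 LD2_c28 LD3_c28)) :=
  Lgr Lrot143 (Lpr_dt (f221399 IH) (Lpe (K31.f261656 IH) (Lpe (K24.f213305 IH) (Lpr_gf (f213302 IH) (Lpr_df (f550577 IH) (Lpe (f53088 IH) (Lpe (f386406 IH) (Lpr_gt (K30.f245008 IH) (Lpr_dt (f245014 IH) (Lpn (LP (LK LD1_c19 LD2_c28 LD3_c28))))))))))))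
theorem f221384 : Led Lsl_at (LP (LK LD1_c10 LD2_c53 LD3_c28)) = (LP (LK LD1_c19 LD2_c40 LD3_c56)) :=
  Lre_a IH (LK LD1_c10 LD2_c53 LD3_c28) (LK LD1_c19 LD2_c40 LD3_c56) Lrfl Lrfl
theorem f221380 : Led Lsl_ft (LP (LK LD1_c15 LD2_c51 LD3_c61)) = (LP (LK LD1_c10 LD2_c53 LD3_c28)) :=
  Lgr Lrot48 (Lpr_ff (f221368 IH) (Lpn (LP (LK LD1_c10 LD2_c53 LD3_c28))))
theorem f550632 : Led Lsl_gt (LP (LK LD1_c15 LD2_c51 LD3_c61)) = (LP (LK LD1_c19 LD2_c28 LD3_c28)) :=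
  Lgr Lrot5 (Lpr_ft (f221380 IH) (Lpr_at (f221384 IH) (Lpr_gf (f550629 IH) (Lpn (LP (LK LD1_c19 LD2_c28 LD3_c28))))))
theorem f221387 : Led Lsl_dt (LP (LK LD1_c8 LD2_c27 LD3_c2)) = (LP (LK LD1_c15 LD2_c51 LD3_c61)) :=
  Lre_d IH (LK LD1_c8 LD2_c27 LD3_c2) (LK LD1_c15 LD2_c51 LD3_c61) Lrfl Lrfl
theorem f388668 : Led Lsl_dt (LP (LK LD1_c15 LD2_c15 LD3_c45)) = (LP (LK LD1_c25 LD2_c5 LD3_c19)) :=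
  Lre_d IH (LK LD1_c15 LD2_c15 LD3_c45) (LK LD1_c25 LD2_c5 LD3_c19) Lrfl Lrfl
theorem f245012 : Led Lsl_dt (LP (LK LD1_c19 LD2_c28 LD3_c28)) = (LP (LK LD1_c10 LD2_c46 LD3_c5)) :=
  Lre_d IH (LK LD1_c19 LD2_c28 LD3_c28) (LK LD1_c10 LD2_c46 LD3_c5) Lrfl Lrfl
theorem f386413 : Led Lsl_dt (LP (LK LD1_c28 LD2_c50 LD3_c36)) = (LP (LK LD1_c19 LD2_c28 LD3_c27)) :=
  Lre_d IH (LK LD1_c28 LD2_c50 LD3_c36) (LK LD1_c19 LD2_c28 LD3_c27) Lrfl Lrfl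
theorem f550635 : Led Lsl_gt (LP (LK LD1_c25 LD2_c5 LD3_c19)) = (LP (LK LD1_c28 LD2_c50 LD3_c36)) :=
  Lgr Lrot49 (Lpe (f388668 IH) (Lpr_gf (K31.f389032 IH) (Lpr_cf (K31.f261679 IH) (Lpr_gt (K31.f221404 IH) (Lpr_dt (f221387 IH) (Lpr_gt (f550632 IH) (Lpr_dt (f245012 IH) (Lpe (K30.f245013 IH) (Lpe (f386413 IH) (Lpn (LP (LK LD1_c28 LD2_c50 LD3_c36))))))))))))
theorem f314405 : Led Lsl_bf (LP (LK LD1_c2 LD2_c25 LD3_c49)) = (LP (LK LD1_c1 LD2_c59 LD3_c26)) :=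
  Lgr Lrot24 (Lpr_bt (K19.f314401 IH) (Lpn (LP (LK LD1_c1 LD2_c59 LD3_c26))))
theorem f403001 : Led Lsl_ct (LP (LK LD1_c19 LD2_c28 LD3_c28)) = (LP (LK LD1_c28 LD2_c50 LD3_c38)) :=
  Lre_c IH (LK LD1_c19 LD2_c28 LD3_c28) (LK LD1_c28 LD2_c50 LD3_c38) Lrfl Lrfl
theorem f403002 : Led Lsl_bt (LP (LK LD1_c28 LD2_c50 LD3_c38)) = (LP (LK LD1_c19 LD2_c36 LD3_c20)) :=
  Lgr Lrot178 (Lpe (f403001 IH) (Lpe (f245014 IH) (Lpe (K30.f245008 IH) (Lpe (K30.f243622 IH) (Lpe (K13.f244841 IH) (Lpe (K13.f243601 IH) (Lpe (K21.f262813 IH) (Lpe (K8.f33510 IH) (Lpr_cf (K12.f53655 IH) (Lpe (K13.f53958 IH) (Lpe (K22.f314399 IH) (Lpr_bf (f314405 IH) (Lpr_cf (K11.f200730 IH) (Lpe (K12.f226778 IH) (Lpr_gf (K12.f226776 IH) (Lpe (K22.f220223 IH) (Lpe (K30.f220224 IH) (Lpe (K31.f220292 IH)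 (Lpe (K31.f220293 IH) (Lpn (LP (LK LD1_c19 LD2_c36 LD3_c20))))))))))))))))))))))
theorem f388814 : Led Lsl_bt (LP (LK LD1_c15 LD2_c15 LD3_c47)) = (LP (LK LD1_c25 LD2_c5 LD3_c19)) :=
  Lre_b IH (LK LD1_c15 LD2_c15 LD3_c47) (LK LD1_c25 LD2_c5 LD3_c19) Lrfl Lrfl
theorem f403009 : Led Lsl_ff (LP (LK LD1_c28 LD2_c50 LD3_c38)) = (LP (LK LD1_c25 LD2_c5 LD3_c19)) :=
  Lgr Lrot25 (Lpr_bt (f403002 IH) (Lpr_ft (K31.f388809 IH) (Lpr_bt (f388814 IH) (Lpn (LP (LK LD1_c25 LD2_c5 LD3_c19))))))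
theorem f388996 : Led Lsl_ft (LP (LK LD1_c25 LD2_c5 LD3_c6)) = (LP (LK LD1_c15 LD2_c15 LD3_c45)) :=
  Lre_f IH (LK LD1_c25 LD2_c5 LD3_c6) (LK LD1_c15 LD2_c15 LD3_c45) Lrfl Lrfl
theorem f403012 : Led Lsl_dt (LP (LK LD1_c28 LD2_c50 LD3_c38)) = (LP (LK LD1_c25 LD2_c5 LD3_c6)) :=
  Lgr Lrot60 (Lpr_ff (f403009 IH) (Lpe (f388668 IH) (Lpe (f388996 IH) (Lpn (LP (LK LD1_c25 LD2_c5 LD3_c6))))))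
theorem f389353 : Led Lsl_at (LP (LK LD1_c19 LD2_c28 LD3_c2)) = (LP (LK LD1_c15 LD2_c54 LD3_c21)) :=
  Lgr Lrot66 (Lpr_ff (K31.f389348 IH) (Lpr_af (K30.f388994 IH) (Lpe (K30.f389002 IH) (Lpn (LP (LK LD1_c15 LD2_c54 LD3_c21))))))
theorem f388986 : Led Lsl_dt (LP (LK LD1_c18 LD2_c44 LD3_c4)) = (LP (LK LD1_c28 LD2_c14 LD3_c5)) :=
  Lre_d IH (LK LD1_c18 LD2_c44 LD3_c4) (LK LD1_c28 LD2_c14 LD3_c5) Lrfl Lrfl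
theorem f403016 : Led Lsl_cf (LP (LK LD1_c28 LD2_c50 LD3_c36)) = (LP (LK LD1_c28 LD2_c14 LD3_c5)) :=
  Lgr Lrot118 (Lpr_dt (f386413 IH) (Lpr_ct (K30.f245013 IH) (Lpr_dt (f245014 IH) (Lpr_ct (f403001 IH) (Lpr_dt (f403012 IH) (Lpe (K31.f389007 IH) (Lpe (f389353 IH) (Lpr_ff (K31.f389348 IH) (Lpr_dt (f388986 IH) (Lpn (LP (LK LD1_c28 LD2_c14 LD3_c5))))))))))))
theorem f403018 : Led Lsl_ct (LP (LK LD1_c28 LD2_c50 LD3_c36)) = (LP (LK LD1_c28 LD2_c14 LD3_c5)) :=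
  Lgr Lrot59 (Lpr_cf (f403016 IH) (Lpn (LP (LK LD1_c28 LD2_c14 LD3_c5))))
theorem f221431 : Led Lsl_ct (LP (LK LD1_c10 LD2_c53 LD3_c25)) = (LP (LK LD1_c19 LD2_c40 LD3_c52)) :=
  Lre_c IH (LK LD1_c10 LD2_c53 LD3_c25) (LK LD1_c19 LD2_c40 LD3_c52) Lrfl Lrfl
theorem f388997 : Led Lsl_gt (LP (LK LD1_c19 LD2_c40 LD3_c52)) = (LP (LK LD1_c25 LD2_c5 LD3_c17)) :=
  Lgr Lrot149 (Lpe (f221431 IH) (Lpe (K31.f221427 IH) (Lpe (K31.f221312 IH) (Lpr_ct (K15.f221315 IH) (Lpe (K15.f262978 IH) (Lpe (K11.f33437 IH) (Lpr_bt (K10.f33497 IH) (Lpe (K30.f33531 IH) (Lpe (K30.f33535 IH) (Lpr_ct (K30.f388984 IH) (Lpn (LP (LK LD1_c25 LD2_c5 LD3_c17)))))))))))))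
theorem f221383 : Led Lsl_dt (LP (LK LD1_c10 LD2_c53 LD3_c28)) = (LP (LK LD1_c5 LD2_c30 LD3_c60)) :=
  Lre_d IH (LK LD1_c10 LD2_c53 LD3_c28) (LK LD1_c5 LD2_c30 LD3_c60) Lrfl Lrfl
theorem f221382 : Led Lsl_gt (LP (LK LD1_c10 LD2_c53 LD3_c28)) = (LP (LK LD1_c19 LD2_c40 LD3_c58)) :=
  Lre_g IH (LK LD1_c10 LD2_c53 LD3_c28) (LK LD1_c19 LD2_c40 LD3_c58) Lrfl Lrfl
theorem f550637 : Led Lsl_cf (LP (LK LD1_c25 LD2_c5 LD3_c19)) = (LP (LK LD1_c19 LD2_c40 LD3_c58)) :=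
  Lgr Lrot169 (Lpr_gt (f550635 IH) (Lpr_ct (f403018 IH) (Lpe (f388986 IH) (Lpr_cf (K30.f388977 IH) (Lpe (f388997 IH) (Lpe (f221431 IH) (Lpe (K31.f221427 IH) (Lpe (f221383 IH) (Lpr_gt (f221382 IH) (Lpn (LP (LK LD1_c19 LD2_c40 LD3_c58))))))))))))
theorem f271465 : Led Lsl_bt (LP (LK LD1_c5 LD2_c27 LD3_c38)) = (LP (LK LD1_c10 LD2_c46 LD3_c20)) :=
  Lre_b IH (LK LD1_c5 LD2_c27 LD3_c38) (LK LD1_c10 LD2_c46 LD3_c20) Lrfl Lrfl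
theorem f389377 : Led Lsl_bt (LP (LK LD1_c28 LD2_c14 LD3_c5)) = (LP (LK LD1_c18 LD2_c44 LD3_c6)) :=
  Lre_b IH (LK LD1_c28 LD2_c14 LD3_c5) (LK LD1_c18 LD2_c44 LD3_c6) Lrfl Lrfl
theorem f550639 : Led Lsl_gf (LP (LK LD1_c10 LD2_c46 LD3_c20)) = (LP (LK LD1_c18 LD2_c44 LD3_c6)) :=
  Lgr Lrot124 (Lpe (f271465 IH) (Lpe (K18.f271468 IH) (Lpr_gt (K16.f261412 IH) (Lpr_cf (K17.f262893 IH) (Lpr_bt (f221367 IH) (Lpr_gt (f221382 IH) (Lpe (f550637 IH) (Lpr_gt (f550635 IH) (Lpr_cf (f403016 IH) (Lpr_bt (f389377 IH) (Lpn (LP (LK LD1_c18 LD2_c44 LD3_c6)))))))))))))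
theorem f389347 : Led Lsl_dt (LP (LK LD1_c28 LD2_c50 LD3_c21)) = (LP (LK LD1_c19 LD2_c28 LD3_c2)) :=
  Lre_d IH (LK LD1_c28 LD2_c50 LD3_c21) (LK LD1_c19 LD2_c28 LD3_c2) Lrfl Lrfl
theorem f389364 : Led Lsl_ff (LP (LK LD1_c28 LD2_c50 LD3_c21)) = (LP (LK LD1_c28 LD2_c14 LD3_c5)) :=
  Lgr Lrot19 (Lpr_dt (f389347 IH) (Lpr_ft (K31.f389360 IH) (Lpr_dt (f388986 IH) (Lpn (LP (LK LD1_c28 LD2_c14 LD3_c5))))))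
theorem f389370 : Led Lsl_bt (LP (LK LD1_c28 LD2_c50 LD3_c21)) = (LP (LK LD1_c19 LD2_c28 LD3_c3)) :=
  Lre_b IH (LK LD1_c28 LD2_c50 LD3_c21) (LK LD1_c19 LD2_c28 LD3_c3) Lrfl Lrfl
theorem f389371 : Led Lsl_bt (LP (LK LD1_c18 LD2_c44 LD3_c6)) = (LP (LK LD1_c28 LD2_c14 LD3_c5)) :=
  Lre_b IH (LK LD1_c18 LD2_c44 LD3_c6) (LK LD1_c28 LD2_c14 LD3_c5) Lrfl Lrfl
theorem f389372 : Led Lsl_ft (LP (LK LD1_c19 LD2_c28 LD3_c3)) = (LP (LK LD1_c18 LD2_c44 LD3_c6)) :=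
  Lgr Lrot75 (Lpe (f389370 IH) (Lpr_ff (f389364 IH) (Lpe (f389371 IH) (Lpn (LP (LK LD1_c18 LD2_c44 LD3_c6))))))
theorem f389374 : Led Lsl_ff (LP (LK LD1_c19 LD2_c28 LD3_c3)) = (LP (LK LD1_c18 LD2_c44 LD3_c6)) :=
  Lgr Lrot3 (Lpr_ft (f389372 IH) (Lpn (LP (LK LD1_c18 LD2_c44 LD3_c6))))
theorem f389402 : Led Lsl_at (LP (LK LD1_c19 LD2_c28 LD3_c3)) = (LP (LK LD1_c18 LD2_c44 LD3_c2)) :=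
  Lgr Lrot100 (Lpr_af (K31.f389392 IH) (Lpn (LP (LK LD1_c18 LD2_c44 LD3_c2))))
theorem f550646 : Led Lsl_gt (LP (LK LD1_c10 LD2_c46 LD3_c20)) = (LP (LK LD1_c18 LD2_c44 LD3_c2)) :=
  Lgr Lrot46 (Lpr_gf (f550639 IH) (Lpe (f389374 IH) (Lpr_at (f389402 IH) (Lpn (LP (LK LD1_c18 LD2_c44 LD3_c2))))))
theorem f235836 : Led Lsl_ct (LP (LK LD1_c19 LD2_c28 LD3_c53)) = (LP (LK LD1_c10 LD2_c46 LD3_c20)) :=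
  Lre_c IH (LK LD1_c19 LD2_c28 LD3_c53) (LK LD1_c10 LD2_c46 LD3_c20) Lrfl Lrfl
theorem f271464 : Led Lsl_ct (LP (LK LD1_c25 LD2_c55 LD3_c29)) = (LP (LK LD1_c15 LD2_c58 LD3_c26)) :=
  Lre_c IH (LK LD1_c25 LD2_c55 LD3_c29) (LK LD1_c15 LD2_c58 LD3_c26) Lrfl Lrfl
theorem f235824 : Led Lsl_ct (LP (LK LD1_c10 LD2_c46 LD3_c20)) = (LP (LK LD1_c19 LD2_c28 LD3_c53)) :=
  Lre_c IH (LK LD1_c10 LD2_c46 LD3_c20) (LK LD1_c19 LD2_c28 LD3_c53) Lrfl Lrfl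
theorem f271466 : Led Lsl_bf (LP (LK LD1_c25 LD2_c55 LD3_c29)) = (LP (LK LD1_c19 LD2_c28 LD3_c53)) :=
  Lgr Lrot90 (Lpr_ct (f271464 IH) (Lpr_bt (K27.f262907 IH) (Lpr_ct (K16.f271460 IH) (Lpr_bt (f271465 IH) (Lpr_ct (f235824 IH) (Lpn (LP (LK LD1_c19 LD2_c28 LD3_c53))))))))
theorem f418932 : Led Lsl_cf (LP (LK LD1_c18 LD2_c44 LD3_c2)) = (LP (LK LD1_c20 LD2_c11 LD3_c59)) :=
  Lgr Lrot11 (Lpr_ct (K31.f418930 IH) (Lpn (LP (LK LD1_c20 LD2_c11 LD3_c59))))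
theorem f423913 : Led Lsl_gt (LP (LK LD1_c11 LD2_c16 LD3_c5)) = (LP (LK LD1_c20 LD2_c10 LD3_c13)) :=
  Lgr Lrot5 (Lpr_ft (K16.f280369 IH) (Lpe (K16.f280272 IH) (Lpr_gf (K36.f423903 IH) (Lpn (LP (LK LD1_c20 LD2_c10 LD3_c13))))))
theorem f423905 : Led Lsl_ct (LP (LK LD1_c11 LD2_c15 LD3_c10)) = (LP (LK LD1_c20 LD2_c10 LD3_c13)) :=
  Lre_c IH (LK LD1_c11 LD2_c15 LD3_c10) (LK LD1_c20 LD2_c10 LD3_c13) Lrfl Lrfl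
theorem f550655 : Led Lsl_gf (LP (LK LD1_c25 LD2_c55 LD3_c29)) = (LP (LK LD1_c20 LD2_c10 LD3_c9)) :=
  Lgr Lrot124 (Lpr_bf (f271466 IH) (Lpr_ct (f235836 IH) (Lpr_gt (f550646 IH) (Lpr_cf (f418932 IH) (Lpr_bt (K31.f174236 IH) (Lpr_gt (K31.f174235 IH) (Lpr_ct (K16.f280363 IH) (Lpr_gt (f423913 IH) (Lpe (f423905 IH) (Lpr_bt (K36.f423909 IH) (Lpn (LP (LK LD1_c20 LD2_c10 LD3_c9)))))))))))))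
theorem f262908 : Led Lsl_ct (LP (LK LD1_c15 LD2_c58 LD3_c26)) = (LP (LK LD1_c25 LD2_c55 LD3_c29)) :=
  Lre_c IH (LK LD1_c15 LD2_c58 LD3_c26) (LK LD1_c25 LD2_c55 LD3_c29) Lrfl Lrfl
theorem f550663 : Led Lsl_gt (LP (LK LD1_c15 LD2_c58 LD3_c5)) = (LP (LK LD1_c15 LD2_c57 LD3_c45)) :=
  Lgr Lrot164 (Lpe (K18.f244727 IH) (Lpr_ct (K16.f244708 IH) (Lpr_gf (K16.f261472 IH) (Lpe (K15.f262890 IH) (Lpe (K16.f261412 IH) (Lpe (K27.f262907 IH) (Lpr_ct (f262908 IH) (Lpr_gf (f550655 IH) (Lpe (K36.f423946 IH) (Lpr_bt (K36.f423924 IH) (Lpn (LP (LK LD1_c15 LD2_c57 LD3_c45)))))))))))))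
theorem f295610 : Led Lsl_dt (LP (LK LD1_c15 LD2_c58 LD3_c5)) = (LP (LK LD1_c8 LD2_c30 LD3_c11)) :=
  Lre_d IH (LK LD1_c15 LD2_c58 LD3_c5) (LK LD1_c8 LD2_c30 LD3_c11) Lrfl Lrfl
theorem f263154 : Led Lsl_gt (LP (LK LD1_c8 LD2_c30 LD3_c11)) = (LP (LK LD1_c15 LD2_c58 LD3_c2)) :=
  Lre_g IH (LK LD1_c8 LD2_c30 LD3_c11) (LK LD1_c15 LD2_c58 LD3_c2) Lrfl Lrfl
theorem f400708 : Led Lsl_ct (LP (LK LD1_c15 LD2_c58 LD3_c2)) = (LP (LK LD1_c25 LD2_c54 LD3_c53)) :=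
  Lre_c IH (LK LD1_c15 LD2_c58 LD3_c2) (LK LD1_c25 LD2_c54 LD3_c53) Lrfl Lrfl
theorem f222987 : Led Lsl_gt (LP (LK LD1_c15 LD2_c33 LD3_c39)) = (LP (LK LD1_c25 LD2_c27 LD3_c16)) :=
  Lre_g IH (LK LD1_c15 LD2_c33 LD3_c39) (LK LD1_c25 LD2_c27 LD3_c16) Lrfl Lrfl
theorem f51933 : Led Lsl_bt (LP (LK LD1_c15 LD2_c57 LD3_c57)) = (LP (LK LD1_c8 LD2_c30 LD3_c7)) :=
  Lre_b IH (LK LD1_c15 LD2_c57 LD3_c57) (LK LD1_c8 LD2_c30 LD3_c7) Lrfl Lrfl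
theorem f400334 : Led Lsl_cf (LP (LK LD1_c25 LD2_c27 LD3_c16)) = (LP (LK LD1_c15 LD2_c57 LD3_c57)) :=
  Lgr Lrot58 (Lpe (f222987 IH) (Lpe (K30.f222976 IH) (Lpr_bt (K30.f396909 IH) (Lpe (K30.f245043 IH) (Lpe (K30.f245034 IH) (Lpe (K15.f245035 IH) (Lpe (K18.f261474 IH) (Lpe (K18.f51916 IH) (Lpe (K18.f51932 IH) (Lpe (f51933 IH) (Lpn (LP (LK LD1_c15 LD2_c57 LD3_c57)))))))))))))
theorem f394402 : Led Lsl_ft (LP (LK LD1_c15 LD2_c35 LD3_c40)) = (LP (LK LD1_c25 LD2_c27 LD3_c17)) :=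
  Lgr Lrot48 (Lpr_ff (K30.f394397 IH) (Lpn (LP (LK LD1_c25 LD2_c27 LD3_c17))))
theorem f394406 : Led Lsl_ff (LP (LK LD1_c8 LD2_c17 LD3_c35)) = (LP (LK LD1_c15 LD2_c33 LD3_c39)) :=
  Lgr Lrot23 (Lpr_ct (K30.f222688 IH) (Lpr_ft (f394402 IH) (Lpr_ct (K30.f222976 IH) (Lpn (LP (LK LD1_c15 LD2_c33 LD3_c39))))))
theorem f394266 : Led Lsl_at (LP (LK LD1_c8 LD2_c17 LD3_c35)) = (LP (LK LD1_c15 LD2_c35 LD3_c36)) :=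
  Lre_a IH (LK LD1_c8 LD2_c17 LD3_c35) (LK LD1_c15 LD2_c35 LD3_c36) Lrfl Lrfl
theorem f394412 : Led Lsl_gf (LP (LK LD1_c15 LD2_c35 LD3_c36)) = (LP (LK LD1_c25 LD2_c27 LD3_c16)) :=
  Lgr Lrot76 (Lpe (f394266 IH) (Lpr_ff (f394406 IH) (Lpr_gt (f222987 IH) (Lpn (LP (LK LD1_c25 LD2_c27 LD3_c16))))))
theorem f394257 : Led Lsl_ct (LP (LK LD1_c15 LD2_c35 LD3_c36)) = (LP (LK LD1_c25 LD2_c29 LD3_c58)) :=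
  Lre_c IH (LK LD1_c15 LD2_c35 LD3_c36) (LK LD1_c25 LD2_c29 LD3_c58) Lrfl Lrfl
theorem f394391 : Led Lsl_at (LP (LK LD1_c25 LD2_c29 LD3_c58)) = (LP (LK LD1_c15 LD2_c35 LD3_c40)) :=
  Lre_a IH (LK LD1_c25 LD2_c29 LD3_c58) (LK LD1_c15 LD2_c35 LD3_c40) Lrfl Lrfl
theorem f394404 : Led Lsl_af (LP (LK LD1_c26 LD2_c3 LD3_c46)) = (LP (LK LD1_c25 LD2_c27 LD3_c17)) :=
  Lgr Lrot45 (Lpe (K30.f394389 IH) (Lpr_at (f394391 IH) (Lpr_ft (f394402 IH) (Lpn (LP (LK LD1_c25 LD2_c27 LD3_c17))))))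
theorem f396940 : Led Lsl_af (LP (LK LD1_c17 LD2_c39 LD3_c5)) = (LP (LK LD1_c16 LD2_c6 LD3_c60)) :=
  Lgr Lrot117 (Lpr_dt (K30.f396937 IH) (Lpe (f394404 IH) (Lpr_dt (K30.f170133 IH) (Lpn (LP (LK LD1_c16 LD2_c6 LD3_c60))))))
theorem f171142 : Led Lsl_ct (LP (LK LD1_c9 LD2_c35 LD3_c8)) = (LP (LK LD1_c17 LD2_c39 LD3_c2)) :=
  Lre_c IH (LK LD1_c9 LD2_c35 LD3_c8) (LK LD1_c17 LD2_c39 LD3_c2) Lrfl Lrfl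
theorem f397013 : Led Lsl_ft (LP (LK LD1_c17 LD2_c39 LD3_c2)) = (LP (LK LD1_c16 LD2_c6 LD3_c60)) :=
  Lgr Lrot4 (Lpe (f171142 IH) (Lpr_ff (K30.f397009 IH) (Lpe (K30.f170130 IH) (Lpn (LP (LK LD1_c16 LD2_c6 LD3_c60))))))
theorem f397036 : Led Lsl_at (LP (LK LD1_c15 LD2_c59 LD3_c40)) = (LP (LK LD1_c17 LD2_c39 LD3_c2)) :=
  Lgr Lrot66 (Lpr_ff (K30.f397034 IH) (Lpr_af (f396940 IH) (Lpe (f397013 IH) (Lpn (LP (LK LD1_c17 LD2_c39 LD3_c2))))))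
theorem f397043 : Led Lsl_df (LP (LK LD1_c25 LD2_c29 LD3_c58)) = (LP (LK LD1_c17 LD2_c39 LD3_c2)) :=
  Lgr Lrot18 (Lpr_at (f394391 IH) (Lpe (K30.f397018 IH) (Lpr_at (f397036 IH) (Lpn (LP (LK LD1_c17 LD2_c39 LD3_c2))))))
theorem f397045 : Led Lsl_dt (LP (LK LD1_c25 LD2_c29 LD3_c58)) = (LP (LK LD1_c17 LD2_c39 LD3_c2)) :=
  Lgr Lrot42 (Lpr_df (f397043 IH) (Lpn (LP (LK LD1_c17 LD2_c39 LD3_c2))))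
theorem f171141 : Led Lsl_dt (LP (LK LD1_c15 LD2_c57 LD3_c30)) = (LP (LK LD1_c25 LD2_c53 LD3_c58)) :=
  Lre_d IH (LK LD1_c15 LD2_c57 LD3_c30) (LK LD1_c25 LD2_c53 LD3_c58) Lrfl Lrfl
theorem f400346 : Led Lsl_gt (LP (LK LD1_c25 LD2_c53 LD3_c58)) = (LP (LK LD1_c15 LD2_c57 LD3_c57)) :=
  Lgr Lrot9 (Lpe (f171141 IH) (Lpr_gt (K30.f171116 IH) (Lpr_ct (K30.f171043 IH) (Lpr_gt (K30.f171107 IH) (Lpr_ct (f171142 IH) (Lpe (f397045 IH) (Lpe (f394257 IH) (Lpr_gf (f394412 IH) (Lpr_cf (f400334 IH) (Lpn (LP (LK LD1_c15 LD2_c57 LD3_c57))))))))))))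
theorem f349123 : Led Lsl_ff (LP (LK LD1_c4 LD2_c16 LD3_c34)) = (LP (LK LD1_c8 LD2_c30 LD3_c7)) :=
  Lgr Lrot3 (Lpr_ft (K26.f349117 IH) (Lpn (LP (LK LD1_c8 LD2_c30 LD3_c7))))
theorem f349482 : Led Lsl_ft (LP (LK LD1_c8 LD2_c32 LD3_c22)) = (LP (LK LD1_c15 LD2_c57 LD3_c57)) :=
  Lgr Lrot75 (Lpe (K31.f221075 IH) (Lpr_ff (f349123 IH) (Lpe (f51933 IH) (Lpn (LP (LK LD1_c15 LD2_c57 LD3_c57))))))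
theorem f243313 : Led Lsl_dt (LP (LK LD1_c15 LD2_c51 LD3_c28)) = (LP (LK LD1_c8 LD2_c32 LD3_c22)) :=
  Lgr Lrot79 (Lpe (K26.f167372 IH) (Lpr_df (K13.f243311 IH) (Lpe (K31.f7920 IH) (Lpn (LP (LK LD1_c8 LD2_c32 LD3_c22))))))
theorem f349484 : Led Lsl_df (LP (LK LD1_c9 LD2_c34 LD3_c5)) = (LP (LK LD1_c15 LD2_c57 LD3_c57)) :=
  Lgr Lrot78 (Lpe (K26.f349083 IH) (Lpr_dt (f243313 IH) (Lpr_ft (f349482 IH) (Lpn (LP (LK LD1_c15 LD2_c57 LD3_c57))))))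
theorem f255659 : Led Lsl_dt (LP (LK LD1_c9 LD2_c34 LD3_c30)) = (LP (LK LD1_c4 LD2_c51 LD3_c12)) :=
  Lre_d IH (LK LD1_c9 LD2_c34 LD3_c30) (LK LD1_c4 LD2_c51 LD3_c12) Lrfl Lrfl
theorem f232952 : Led Lsl_gt (LP (LK LD1_c17 LD2_c37 LD3_c57)) = (LP (LK LD1_c9 LD2_c34 LD3_c30)) :=
  Lre_g IH (LK LD1_c17 LD2_c37 LD3_c57) (LK LD1_c9 LD2_c34 LD3_c30) Lrfl Lrfl
theorem f400351 : Led Lsl_dt (LP (LK LD1_c9 LD2_c35 LD3_c9)) = (LP (LK LD1_c17 LD2_c37 LD3_c57)) :=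
  Lgr Lrot57 (Lpe (K30.f372974 IH) (Lpe (K30.f369323 IH) (Lpr_gt (K30.f373003 IH) (Lpr_dt (f171141 IH) (Lpr_gt (f400346 IH) (Lpe (f349484 IH) (Lpe (K26.f255627 IH) (Lpe (f255659 IH) (Lpe (f232952 IH) (Lpn (LP (LK LD1_c17 LD2_c37 LD3_c57))))))))))))
theorem f397040 : Led Lsl_ft (LP (LK LD1_c16 LD2_c1 LD3_c23)) = (LP (LK LD1_c9 LD2_c35 LD3_c9)) :=
  Lgr Lrot4 (Lpe (K30.f372986 IH) (Lpr_ff (K30.f397034 IH) (Lpe (K30.f171149 IH) (Lpn (LP (LK LD1_c9 LD2_c35 LD3_c9))))))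
theorem f263846 : Led Lsl_dt (LP (LK LD1_c25 LD2_c58 LD3_c53)) = (LP (LK LD1_c16 LD2_c1 LD3_c23)) :=
  Lre_d IH (LK LD1_c25 LD2_c58 LD3_c53) (LK LD1_c16 LD2_c1 LD3_c23) Lrfl Lrfl
theorem f400361 : Led Lsl_ff (LP (LK LD1_c25 LD2_c58 LD3_c53)) = (LP (LK LD1_c17 LD2_c37 LD3_c57)) :=
  Lgr Lrot19 (Lpr_dt (f263846 IH) (Lpr_ft (f397040 IH) (Lpr_dt (f400351 IH) (Lpn (LP (LK LD1_c17 LD2_c37 LD3_c57))))))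
theorem f232954 : Led Lsl_gt (LP (LK LD1_c9 LD2_c34 LD3_c30)) = (LP (LK LD1_c17 LD2_c37 LD3_c56)) :=
  Lre_g IH (LK LD1_c9 LD2_c34 LD3_c30) (LK LD1_c17 LD2_c37 LD3_c56) Lrfl Lrfl
theorem f400381 : Led Lsl_at (LP (LK LD1_c25 LD2_c58 LD3_c53)) = (LP (LK LD1_c17 LD2_c37 LD3_c56)) :=
  Lgr Lrot26 (Lpr_ff (f400361 IH) (Lpr_gt (f232952 IH) (Lpr_gt (f232954 IH) (Lpn (LP (LK LD1_c17 LD2_c37 LD3_c56))))))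
theorem f400358 : Led Lsl_df (LP (LK LD1_c9 LD2_c35 LD3_c9)) = (LP (LK LD1_c17 LD2_c37 LD3_c57)) :=
  Lgr Lrot38 (Lpr_dt (f400351 IH) (Lpn (LP (LK LD1_c17 LD2_c37 LD3_c57))))
theorem f236060 : Led Lsl_dt (LP (LK LD1_c15 LD2_c33 LD3_c39)) = (LP (LK LD1_c8 LD2_c16 LD3_c32)) :=
  Lre_d IH (LK LD1_c15 LD2_c33 LD3_c39) (LK LD1_c8 LD2_c16 LD3_c32) Lrfl Lrfl
theorem f236045 : Led Lsl_bt (LP (LK LD1_c2 LD2_c23 LD3_c32)) = (LP (LK LD1_c2 LD2_c1 LD3_c30)) :=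
  Lgr Lrot119 (Lpe (K14.f235678 IH) (Lpr_bf (K21.f236033 IH) (Lpe (K18.f809 IH) (Lpn (LP (LK LD1_c2 LD2_c1 LD3_c30))))))
theorem f2098 : Led Lsl_bt (LP (LK LD1_c9 LD2_c34 LD3_c51)) = (LP (LK LD1_c4 LD2_c51 LD3_c24)) :=
  Lre_b IH (LK LD1_c9 LD2_c34 LD3_c51) (LK LD1_c4 LD2_c51 LD3_c24) Lrfl Lrfl
theorem f51617 : Led Lsl_bt (LP (LK LD1_c4 LD2_c8 LD3_c15)) = (LP (LK LD1_c8 LD2_c16 LD3_c32)) :=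
  Lre_b IH (LK LD1_c4 LD2_c8 LD3_c15) (LK LD1_c8 LD2_c16 LD3_c32) Lrfl Lrfl
theorem f236052 : Led Lsl_cf (LP (LK LD1_c9 LD2_c34 LD3_c51)) = (LP (LK LD1_c8 LD2_c16 LD3_c32)) :=
  Lgr Lrot97 (Lpr_bt (f2098 IH) (Lpr_ct (K13.f2083 IH) (Lpr_bt (f236045 IH) (Lpr_ct (K14.f51616 IH) (Lpr_bt (f51617 IH) (Lpn (LP (LK LD1_c8 LD2_c16 LD3_c32))))))))
theorem f1806 : Led Lsl_bt (LP (LK LD1_c9 LD2_c36 LD3_c17)) = (LP (LK LD1_c4 LD2_c51 LD3_c61)) :=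
  Lre_b IH (LK LD1_c9 LD2_c36 LD3_c17) (LK LD1_c4 LD2_c51 LD3_c61) Lrfl Lrfl
theorem f232203 : Led Lsl_bt (LP (LK LD1_c4 LD2_c51 LD3_c24)) = (LP (LK LD1_c9 LD2_c34 LD3_c51)) :=
  Lre_b IH (LK LD1_c4 LD2_c51 LD3_c24) (LK LD1_c9 LD2_c34 LD3_c51) Lrfl Lrfl
theorem f233203 : Led Lsl_df (LP (LK LD1_c9 LD2_c36 LD3_c17)) = (LP (LK LD1_c9 LD2_c34 LD3_c51)) :=
  Lgr Lrot12 (Lpr_bt (f1806 IH) (Lpr_dt (K13.f233169 IH) (Lpr_bt (f232203 IH) (Lpn (LP (LK LD1_c9 LD2_c34 LD3_c51))))))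
theorem f400383 : Led Lsl_cf (LP (LK LD1_c17 LD2_c37 LD3_c56)) = (LP (LK LD1_c9 LD2_c36 LD3_c17)) :=
  Lgr Lrot102 (Lpe (f400381 IH) (Lpr_ff (f400361 IH) (Lpe (f400358 IH) (Lpr_ct (K30.f171149 IH) (Lpr_dt (K30.f396937 IH) (Lpr_ct (K30.f222976 IH) (Lpr_dt (f236060 IH) (Lpe (f236052 IH) (Lpe (f233203 IH) (Lpn (LP (LK LD1_c9 LD2_c36 LD3_c17))))))))))))
theorem f233374 : Led Lsl_bt (LP (LK LD1_c8 LD2_c17 LD3_c3)) = (LP (LK LD1_c15 LD2_c34 LD3_c47)) :=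
  Lre_b IH (LK LD1_c8 LD2_c17 LD3_c3) (LK LD1_c15 LD2_c34 LD3_c47) Lrfl Lrfl
theorem f327860 : Led Lsl_ff (LP (LK LD1_c9 LD2_c36 LD3_c17)) = (LP (LK LD1_c15 LD2_c34 LD3_c47)) :=
  Lgr Lrot25 (Lpr_bt (f1806 IH) (Lpr_ft (K21.f327856 IH) (Lpr_bt (f233374 IH) (Lpn (LP (LK LD1_c15 LD2_c34 LD3_c47))))))
theorem f400391 : Led Lsl_ft (LP (LK LD1_c17 LD2_c37 LD3_c56)) = (LP (LK LD1_c25 LD2_c28 LD3_c54)) :=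
  Lgr Lrot4 (Lpr_cf (f400383 IH) (Lpr_ff (f327860 IH) (Lpe (K30.f233389 IH) (Lpn (LP (LK LD1_c25 LD2_c28 LD3_c54))))))
theorem f400397 : Led Lsl_ff (LP (LK LD1_c17 LD2_c37 LD3_c56)) = (LP (LK LD1_c25 LD2_c28 LD3_c54)) :=
  Lgr Lrot3 (Lpr_ft (f400391 IH) (Lpn (LP (LK LD1_c25 LD2_c28 LD3_c54))))
theorem f400387 : Led Lsl_ct (LP (LK LD1_c17 LD2_c37 LD3_c56)) = (LP (LK LD1_c9 LD2_c36 LD3_c17)) :=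
  Lgr Lrot59 (Lpr_cf (f400383 IH) (Lpn (LP (LK LD1_c9 LD2_c36 LD3_c17))))
theorem f233375 : Led Lsl_ct (LP (LK LD1_c15 LD2_c34 LD3_c47)) = (LP (LK LD1_c25 LD2_c28 LD3_c54)) :=
  Lre_c IH (LK LD1_c15 LD2_c34 LD3_c47) (LK LD1_c25 LD2_c28 LD3_c54) Lrfl Lrfl
theorem f400447 : Led Lsl_ft (LP (LK LD1_c9 LD2_c36 LD3_c17)) = (LP (LK LD1_c15 LD2_c34 LD3_c47)) :=
  Lgr Lrot4 (Lpe (f400387 IH) (Lpr_ff (f400397 IH) (Lpe (f233375 IH) (Lpn (LP (LK LD1_c15 LD2_c34 LD3_c47))))))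
theorem f349617 : Led Lsl_at (LP (LK LD1_c15 LD2_c34 LD3_c47)) = (LP (LK LD1_c25 LD2_c28 LD3_c51)) :=
  Lre_a IH (LK LD1_c15 LD2_c34 LD3_c47) (LK LD1_c25 LD2_c28 LD3_c51) Lrfl Lrfl
theorem f170145 : Led Lsl_ct (LP (LK LD1_c16 LD2_c1 LD3_c23)) = (LP (LK LD1_c15 LD2_c59 LD3_c40)) :=
  Lre_c IH (LK LD1_c16 LD2_c1 LD3_c23) (LK LD1_c15 LD2_c59 LD3_c40) Lrfl Lrfl
theorem f397032 : Led Lsl_ff (LP (LK LD1_c16 LD2_c1 LD3_c23)) = (LP (LK LD1_c9 LD2_c35 LD3_c9)) :=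
  Lgr Lrot23 (Lpr_ct (f170145 IH) (Lpr_ft (K30.f397022 IH) (Lpr_ct (K30.f171112 IH) (Lpn (LP (LK LD1_c9 LD2_c35 LD3_c9))))))
theorem f397047 : Led Lsl_at (LP (LK LD1_c16 LD2_c1 LD3_c23)) = (LP (LK LD1_c9 LD2_c35 LD3_c8)) :=
  Lgr Lrot66 (Lpr_ff (f397032 IH) (Lpr_af (K30.f396999 IH) (Lpe (K30.f397003 IH) (Lpn (LP (LK LD1_c9 LD2_c35 LD3_c8))))))
theorem f171148 : Led Lsl_ct (LP (LK LD1_c17 LD2_c39 LD3_c2)) = (LP (LK LD1_c9 LD2_c35 LD3_c8)) :=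
  Lre_c IH (LK LD1_c17 LD2_c39 LD3_c2) (LK LD1_c9 LD2_c35 LD3_c8) Lrfl Lrfl
theorem f349626 : Led Lsl_ct (LP (LK LD1_c15 LD2_c34 LD3_c46)) = (LP (LK LD1_c8 LD2_c17 LD3_c34)) :=
  Lre_c IH (LK LD1_c15 LD2_c34 LD3_c46) (LK LD1_c8 LD2_c17 LD3_c34) Lrfl Lrfl
theorem f349628 : Led Lsl_dt (LP (LK LD1_c25 LD2_c28 LD3_c51)) = (LP (LK LD1_c15 LD2_c34 LD3_c46)) :=
  Lre_d IH (LK LD1_c25 LD2_c28 LD3_c51) (LK LD1_c15 LD2_c34 LD3_c46) Lrfl Lrfl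
theorem f400363 : Led Lsl_cf (LP (LK LD1_c25 LD2_c28 LD3_c51)) = (LP (LK LD1_c17 LD2_c37 LD3_c57)) :=
  Lgr Lrot118 (Lpr_dt (f349628 IH) (Lpr_ct (f349626 IH) (Lpr_dt (K30.f394269 IH) (Lpr_ct (f394257 IH) (Lpr_dt (f397045 IH) (Lpr_ct (f171148 IH) (Lpe (f397047 IH) (Lpr_ff (f397032 IH) (Lpr_dt (f400351 IH) (Lpn (LP (LK LD1_c17 LD2_c37 LD3_c57))))))))))))
theorem f400367 : Led Lsl_ct (LP (LK LD1_c25 LD2_c28 LD3_c51)) = (LP (LK LD1_c17 LD2_c37 LD3_c57)) :=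
  Lgr Lrot59 (Lpr_cf (f400363 IH) (Lpn (LP (LK LD1_c17 LD2_c37 LD3_c57))))
theorem f232928 : Led Lsl_ct (LP (LK LD1_c9 LD2_c34 LD3_c30)) = (LP (LK LD1_c17 LD2_c37 LD3_c58)) :=
  Lre_c IH (LK LD1_c9 LD2_c34 LD3_c30) (LK LD1_c17 LD2_c37 LD3_c58) Lrfl Lrfl
theorem f279923 : Led Lsl_ct (LP (LK LD1_c16 LD2_c17 LD3_c10)) = (LP (LK LD1_c8 LD2_c41 LD3_c46)) :=
  Lre_c IH (LK LD1_c16 LD2_c17 LD3_c10) (LK LD1_c8 LD2_c41 LD3_c46) Lrfl Lrfl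
theorem f50431 : Led Lsl_bt (LP (LK LD1_c8 LD2_c16 LD3_c48)) = (LP (LK LD1_c4 LD2_c8 LD3_c22)) :=
  Lre_b IH (LK LD1_c8 LD2_c16 LD3_c48) (LK LD1_c4 LD2_c8 LD3_c22) Lrfl Lrfl
theorem f47552 : Led Lsl_bt (LP (LK LD1_c4 LD2_c8 LD3_c20)) = (LP (LK LD1_c8 LD2_c16 LD3_c43)) :=
  Lre_b IH (LK LD1_c4 LD2_c8 LD3_c20) (LK LD1_c8 LD2_c16 LD3_c43) Lrfl Lrfl
theorem f47553 : Led Lsl_gt (LP (LK LD1_c8 LD2_c16 LD3_c43)) = (LP (LK LD1_c15 LD2_c33 LD3_c58)) :=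
  Lre_g IH (LK LD1_c8 LD2_c16 LD3_c43) (LK LD1_c15 LD2_c33 LD3_c58) Lrfl Lrfl
theorem f279976 : Led Lsl_bt (LP (LK LD1_c16 LD2_c17 LD3_c10)) = (LP (LK LD1_c15 LD2_c33 LD3_c58)) :=
  Lgr Lrot92 (Lpr_ct (f279923 IH) (Lpr_gt (K30.f279921 IH) (Lpr_cf (K16.f279916 IH) (Lpr_bt (f50431 IH) (Lpr_gt (K13.f50428 IH) (Lpr_ct (K14.f47723 IH) (Lpr_gt (K10.f47554 IH) (Lpe (K13.f47549 IH) (Lpr_bt (f47552 IH) (Lpr_gt (f47553 IH) (Lpn (LP (LK LD1_c15 LD2_c33 LD3_c58)))))))))))))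
theorem f279978 : Led Lsl_bf (LP (LK LD1_c16 LD2_c17 LD3_c10)) = (LP (LK LD1_c15 LD2_c33 LD3_c58)) :=
  Lgr Lrot24 (Lpr_bt (f279976 IH) (Lpn (LP (LK LD1_c15 LD2_c33 LD3_c58))))
theorem f397113 : Led Lsl_ft (LP (LK LD1_c8 LD2_c18 LD3_c40)) = (LP (LK LD1_c15 LD2_c33 LD3_c58)) :=
  Lgr Lrot75 (Lpe (K30.f236746 IH) (Lpr_ff (f397109 IH) (Lpr_bf (f279978 IH) (Lpn (LP (LK LD1_c15 LD2_c33 LD3_c58))))))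
theorem f234480 : Led Lsl_et (LP (LK LD1_c15 LD2_c38 LD3_c11)) = (LP (LK LD1_c8 LD2_c18 LD3_c50)) :=
  Lre_e IH (LK LD1_c15 LD2_c38 LD3_c11) (LK LD1_c8 LD2_c18 LD3_c50) Lrfl Lrfl
theorem f366284 : Led Lsl_et (LP (LK LD1_c15 LD2_c33 LD3_c54)) = (LP (LK LD1_c25 LD2_c27 LD3_c31)) :=
  Lre_e IH (LK LD1_c15 LD2_c33 LD3_c54) (LK LD1_c25 LD2_c27 LD3_c31) Lrfl Lrfl
theorem f366285 : Led Lsl_af (LP (LK LD1_c15 LD2_c38 LD3_c11)) = (LP (LK LD1_c25 LD2_c27 LD3_c31)) :=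
  Lgr Lrot50 (Lpr_et (f234480 IH) (Lpr_at (K27.f366277 IH) (Lpr_et (f366284 IH) (Lpn (LP (LK LD1_c25 LD2_c27 LD3_c31))))))
theorem f234381 : Led Lsl_dt (LP (LK LD1_c15 LD2_c38 LD3_c11)) = (LP (LK LD1_c8 LD2_c18 LD3_c47)) :=
  Lre_d IH (LK LD1_c15 LD2_c38 LD3_c11) (LK LD1_c8 LD2_c18 LD3_c47) Lrfl Lrfl
theorem f223000 : Led Lsl_dt (LP (LK LD1_c15 LD2_c33 LD3_c51)) = (LP (LK LD1_c25 LD2_c27 LD3_c31)) :=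
  Lre_d IH (LK LD1_c15 LD2_c33 LD3_c51) (LK LD1_c25 LD2_c27 LD3_c31) Lrfl Lrfl
theorem f366290 : Led Lsl_at (LP (LK LD1_c8 LD2_c18 LD3_c47)) = (LP (LK LD1_c15 LD2_c33 LD3_c51)) :=
  Lgr Lrot51 (Lpe (f234381 IH) (Lpr_af (f366285 IH) (Lpe (f223000 IH) (Lpn (LP (LK LD1_c15 LD2_c33 LD3_c51))))))
theorem f222757 : Led Lsl_et (LP (LK LD1_c4 LD2_c9 LD3_c21)) = (LP (LK LD1_c8 LD2_c18 LD3_c47)) :=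
  Lre_e IH (LK LD1_c4 LD2_c9 LD3_c21) (LK LD1_c8 LD2_c18 LD3_c47) Lrfl Lrfl
theorem f222992 : Led Lsl_et (LP (LK LD1_c15 LD2_c33 LD3_c51)) = (LP (LK LD1_c8 LD2_c16 LD3_c39)) :=
  Lre_e IH (LK LD1_c15 LD2_c33 LD3_c51) (LK LD1_c8 LD2_c16 LD3_c39) Lrfl Lrfl
theorem f366297 : Led Lsl_af (LP (LK LD1_c4 LD2_c9 LD3_c21)) = (LP (LK LD1_c8 LD2_c16 LD3_c39)) :=
  Lgr Lrot50 (Lpr_et (f222757 IH) (Lpr_at (f366290 IH) (Lpr_et (f222992 IH) (Lpn (LP (LK LD1_c8 LD2_c16 LD3_c39))))))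
theorem f234365 : Led Lsl_bt (LP (LK LD1_c4 LD2_c9 LD3_c21)) = (LP (LK LD1_c8 LD2_c18 LD3_c43)) :=
  Lre_b IH (LK LD1_c4 LD2_c9 LD3_c21) (LK LD1_c8 LD2_c18 LD3_c43) Lrfl Lrfl
theorem f366319 : Led Lsl_at (LP (LK LD1_c8 LD2_c18 LD3_c43)) = (LP (LK LD1_c15 LD2_c37 LD3_c59)) :=
  Lre_a IH (LK LD1_c8 LD2_c18 LD3_c43) (LK LD1_c15 LD2_c37 LD3_c59) Lrfl Lrfl
theorem f222988 : Led Lsl_bt (LP (LK LD1_c15 LD2_c33 LD3_c49)) = (LP (LK LD1_c8 LD2_c16 LD3_c39)) :=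
  Lre_b IH (LK LD1_c15 LD2_c33 LD3_c49) (LK LD1_c8 LD2_c16 LD3_c39) Lrfl Lrfl
theorem f366320 : Led Lsl_at (LP (LK LD1_c25 LD2_c27 LD3_c28)) = (LP (LK LD1_c15 LD2_c33 LD3_c49)) :=
  Lre_a IH (LK LD1_c25 LD2_c27 LD3_c28) (LK LD1_c15 LD2_c33 LD3_c49) Lrfl Lrfl
theorem f366321 : Led Lsl_bt (LP (LK LD1_c15 LD2_c37 LD3_c59)) = (LP (LK LD1_c25 LD2_c27 LD3_c28)) :=
  Lgr Lrot62 (Lpe (f366319 IH) (Lpe (f234365 IH) (Lpr_af (f366297 IH) (Lpe (f222988 IH) (Lpe (f366320 IH) (Lpn (LP (LK LD1_c25 LD2_c27 LD3_c28))))))))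
theorem f366326 : Led Lsl_dt (LP (LK LD1_c8 LD2_c18 LD3_c42)) = (LP (LK LD1_c15 LD2_c37 LD3_c59)) :=
  Lre_d IH (LK LD1_c8 LD2_c18 LD3_c42) (LK LD1_c15 LD2_c37 LD3_c59) Lrfl Lrfl
theorem f270985 : Led Lsl_dt (LP (LK LD1_c25 LD2_c27 LD3_c28)) = (LP (LK LD1_c15 LD2_c33 LD3_c48)) :=
  Lre_d IH (LK LD1_c25 LD2_c27 LD3_c28) (LK LD1_c15 LD2_c33 LD3_c48) Lrfl Lrfl
theorem f366327 : Led Lsl_bf (LP (LK LD1_c8 LD2_c18 LD3_c42)) = (LP (LK LD1_c15 LD2_c33 LD3_c48)) :=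
  Lgr Lrot93 (Lpr_dt (f366326 IH) (Lpr_bt (f366321 IH) (Lpr_dt (f270985 IH) (Lpn (LP (LK LD1_c15 LD2_c33 LD3_c48))))))
theorem f232659 : Led Lsl_at (LP (LK LD1_c8 LD2_c16 LD3_c43)) = (LP (LK LD1_c15 LD2_c33 LD3_c60)) :=
  Lre_a IH (LK LD1_c8 LD2_c16 LD3_c43) (LK LD1_c15 LD2_c33 LD3_c60) Lrfl Lrfl
theorem f222789 : Led Lsl_bt (LP (LK LD1_c4 LD2_c9 LD3_c32)) = (LP (LK LD1_c2 LD2_c2 LD3_c3)) :=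
  Lre_b IH (LK LD1_c4 LD2_c9 LD3_c32) (LK LD1_c2 LD2_c2 LD3_c3) Lrfl Lrfl
theorem f361942 : Led Lsl_at (LP (LK LD1_c8 LD2_c19 LD3_c6)) = (LP (LK LD1_c4 LD2_c9 LD3_c32)) :=
  Lre_a IH (LK LD1_c8 LD2_c19 LD3_c6) (LK LD1_c4 LD2_c9 LD3_c32) Lrfl Lrfl
theorem f361943 : Led Lsl_bt (LP (LK LD1_c15 LD2_c33 LD3_c60)) = (LP (LK LD1_c8 LD2_c19 LD3_c6)) :=
  Lgr Lrot62 (Lpe (f232659 IH) (Lpe (f47552 IH) (Lpr_af (K26.f361924 IH) (Lpe (f222789 IH) (Lpe (f361942 IH) (Lpn (LP (LK LD1_c8 LD2_c19 LD3_c6))))))))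
theorem f372611 : Led Lsl_ff (LP (LK LD1_c15 LD2_c33 LD3_c48)) = (LP (LK LD1_c8 LD2_c19 LD3_c6)) :=
  Lgr Lrot25 (Lpe (f366327 IH) (Lpr_ft (K30.f372607 IH) (Lpr_bt (f361943 IH) (Lpn (LP (LK LD1_c8 LD2_c19 LD3_c6))))))
theorem f372276 : Led Lsl_ct (LP (LK LD1_c15 LD2_c38 LD3_c32)) = (LP (LK LD1_c8 LD2_c19 LD3_c6)) :=
  Lre_c IH (LK LD1_c15 LD2_c38 LD3_c32) (LK LD1_c8 LD2_c19 LD3_c6) Lrfl Lrfl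
theorem f372672 : Led Lsl_ft (LP (LK LD1_c25 LD2_c16 LD3_c34)) = (LP (LK LD1_c15 LD2_c38 LD3_c32)) :=
  Lgr Lrot4 (Lpr_cf (K31.f270977 IH) (Lpr_ff (f372611 IH) (Lpe (f372276 IH) (Lpn (LP (LK LD1_c15 LD2_c38 LD3_c32))))))
theorem f372679 : Led Lsl_ff (LP (LK LD1_c25 LD2_c16 LD3_c34)) = (LP (LK LD1_c15 LD2_c38 LD3_c32)) :=
  Lgr Lrot3 (Lpr_ft (f372672 IH) (Lpn (LP (LK LD1_c15 LD2_c38 LD3_c32))))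
theorem f270940 : Led Lsl_gt (LP (LK LD1_c25 LD2_c16 LD3_c33)) = (LP (LK LD1_c15 LD2_c23 LD3_c61)) :=
  Lre_g IH (LK LD1_c25 LD2_c16 LD3_c33) (LK LD1_c15 LD2_c23 LD3_c61) Lrfl Lrfl
theorem f372689 : Led Lsl_gf (LP (LK LD1_c25 LD2_c16 LD3_c33)) = (LP (LK LD1_c15 LD2_c38 LD3_c32)) :=
  Lgr Lrot47 (Lpr_gt (f270940 IH) (Lpe (K31.f270975 IH) (Lpr_ff (f372679 IH) (Lpn (LP (LK LD1_c15 LD2_c38 LD3_c32))))))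
theorem f236117 : Led Lsl_bt (LP (LK LD1_c4 LD2_c8 LD3_c18)) = (LP (LK LD1_c8 LD2_c16 LD3_c38)) :=
  Lre_b IH (LK LD1_c4 LD2_c8 LD3_c18) (LK LD1_c8 LD2_c16 LD3_c38) Lrfl Lrfl
theorem f270928 : Led Lsl_cf (LP (LK LD1_c15 LD2_c23 LD3_c61)) = (LP (LK LD1_c8 LD2_c16 LD3_c38)) :=
  Lgr Lrot97 (Lpr_bt (K31.f270927 IH) (Lpr_ct (K16.f270925 IH) (Lpr_bt (K16.f53371 IH) (Lpr_ct (K12.f53450 IH) (Lpr_bt (f236117 IH) (Lpn (LP (LK LD1_c8 LD2_c16 LD3_c38))))))))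
theorem f170585 : Led Lsl_gt (LP (LK LD1_c4 LD2_c9 LD3_c44)) = (LP (LK LD1_c8 LD2_c19 LD3_c32)) :=
  Lre_g IH (LK LD1_c4 LD2_c9 LD3_c44) (LK LD1_c8 LD2_c19 LD3_c32) Lrfl Lrfl
theorem f219932 : Led Lsl_bt (LP (LK LD1_c15 LD2_c39 LD3_c46)) = (LP (LK LD1_c8 LD2_c19 LD3_c32)) :=
  Lre_b IH (LK LD1_c15 LD2_c39 LD3_c46) (LK LD1_c8 LD2_c19 LD3_c32) Lrfl Lrfl
theorem f270991 : Led Lsl_cf (LP (LK LD1_c25 LD2_c16 LD3_c33)) = (LP (LK LD1_c15 LD2_c39 LD3_c46)) :=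
  Lgr Lrot160 (Lpr_gt (f270940 IH) (Lpr_cf (f270928 IH) (Lpr_bt (K31.f222256 IH) (Lpe (K12.f222246 IH) (Lpr_ct (K12.f213051 IH) (Lpe (K12.f219928 IH) (Lpe (K12.f170579 IH) (Lpr_bt (K30.f170578 IH) (Lpr_gt (f170585 IH) (Lpe (f219932 IH) (Lpn (LP (LK LD1_c15 LD2_c39 LD3_c46)))))))))))))
theorem f279989 : Led Lsl_gt (LP (LK LD1_c8 LD2_c19 LD3_c32)) = (LP (LK LD1_c15 LD2_c34 LD3_c10)) :=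
  Lgr Lrot46 (Lpe (f170585 IH) (Lpr_ft (K16.f279973 IH) (Lpr_at (K16.f279913 IH) (Lpn (LP (LK LD1_c15 LD2_c34 LD3_c10))))))
theorem f280094 : Led Lsl_gt (LP (LK LD1_c8 LD2_c41 LD3_c47)) = (LP (LK LD1_c14 LD2_c57 LD3_c41)) :=
  Lgr Lrot5 (Lpr_ft (K16.f280088 IH) (Lpr_at (K16.f236676 IH) (Lpe (K30.f236608 IH) (Lpn (LP (LK LD1_c14 LD2_c57 LD3_c41))))))
theorem f372280 : Led Lsl_ct (LP (LK LD1_c8 LD2_c19 LD3_c6)) = (LP (LK LD1_c15 LD2_c38 LD3_c32)) :=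
  Lre_c IH (LK LD1_c8 LD2_c19 LD3_c6) (LK LD1_c15 LD2_c38 LD3_c32) Lrfl Lrfl
theorem f171451 : Led Lsl_ct (LP (LK LD1_c10 LD2_c12 LD3_c35)) = (LP (LK LD1_c5 LD2_c10 LD3_c57)) :=
  Lre_c IH (LK LD1_c10 LD2_c12 LD3_c35) (LK LD1_c5 LD2_c10 LD3_c57) Lrfl Lrfl
theorem f305958 : Led Lsl_ct (LP (LK LD1_c9 LD2_c37 LD3_c9)) = (LP (LK LD1_c4 LD2_c52 LD3_c25)) :=
  Lre_c IH (LK LD1_c9 LD2_c37 LD3_c9) (LK LD1_c4 LD2_c52 LD3_c25) Lrfl Lrfl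
theorem f305956 : Led Lsl_ct (LP (LK LD1_c4 LD2_c52 LD3_c25)) = (LP (LK LD1_c9 LD2_c37 LD3_c9)) :=
  Lre_c IH (LK LD1_c4 LD2_c52 LD3_c25) (LK LD1_c9 LD2_c37 LD3_c9) Lrfl Lrfl
theorem f365105 : Led Lsl_bt (LP (LK LD1_c8 LD2_c19 LD3_c3)) = (LP (LK LD1_c4 LD2_c9 LD3_c39)) :=
  Lre_b IH (LK LD1_c8 LD2_c19 LD3_c3) (LK LD1_c4 LD2_c9 LD3_c39) Lrfl Lrfl
theorem f365190 : Led Lsl_ct (LP (LK LD1_c8 LD2_c19 LD3_c3)) = (LP (LK LD1_c15 LD2_c38 LD3_c37)) :=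
  Lre_c IH (LK LD1_c8 LD2_c19 LD3_c3) (LK LD1_c15 LD2_c38 LD3_c37) Lrfl Lrfl
theorem f371096 : Led Lsl_gf (LP (LK LD1_c9 LD2_c37 LD3_c9)) = (LP (LK LD1_c15 LD2_c38 LD3_c37)) :=
  Lgr Lrot126 (Lpe (f305956 IH) (Lpr_bt (K30.f307194 IH) (Lpr_gt (K27.f371086 IH) (Lpe (K30.f365456 IH) (Lpe (K30.f369389 IH) (Lpe (K30.f49052 IH) (Lpr_bt (K30.f341722 IH) (Lpe (K26.f365227 IH) (Lpe (f365105 IH) (Lpr_ct (f365190 IH) (Lpn (LP (LK LD1_c15 LD2_c38 LD3_c37)))))))))))))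
theorem f371310 : Led Lsl_gf (LP (LK LD1_c8 LD2_c19 LD3_c3)) = (LP (LK LD1_c8 LD2_c35 LD3_c7)) :=
  Lgr Lrot147 (Lpr_ct (f365190 IH) (Lpe (f371096 IH) (Lpr_ct (f305958 IH) (Lpe (K21.f307181 IH) (Lpe (f171451 IH) (Lpe (K30.f362862 IH) (Lpr_cf (K30.f294337 IH) (Lpr_gf (K30.f371106 IH) (Lpr_df (K26.f302890 IH) (Lpn (LP (LK LD1_c8 LD2_c35 LD3_c7))))))))))))
theorem f365203 : Led Lsl_ct (LP (LK LD1_c4 LD2_c9 LD3_c39)) = (LP (LK LD1_c8 LD2_c19 LD3_c13)) :=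
  Lre_c IH (LK LD1_c4 LD2_c9 LD3_c39) (LK LD1_c8 LD2_c19 LD3_c13) Lrfl Lrfl
theorem f167516 : Led Lsl_ct (LP (LK LD1_c4 LD2_c18 LD3_c5)) = (LP (LK LD1_c8 LD2_c35 LD3_c8)) :=
  Lre_c IH (LK LD1_c4 LD2_c18 LD3_c5) (LK LD1_c8 LD2_c35 LD3_c8) Lrfl Lrfl
theorem f359456 : Led Lsl_ct (LP (LK LD1_c9 LD2_c35 LD3_c24)) = (LP (LK LD1_c10 LD2_c32 LD3_c37)) :=
  Lgr Lrot15 (Lpe (K26.f359399 IH) (Lpr_cf (K26.f359448 IH) (Lpe (K26.f199802 IH) (Lpn (LP (LK LD1_c10 LD2_c32 LD3_c37))))))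
theorem f302859 : Led Lsl_ct (LP (LK LD1_c8 LD2_c35 LD3_c8)) = (LP (LK LD1_c4 LD2_c18 LD3_c5)) :=
  Lre_c IH (LK LD1_c8 LD2_c35 LD3_c8) (LK LD1_c4 LD2_c18 LD3_c5) Lrfl Lrfl
theorem f361021 : Led Lsl_gt (LP (LK LD1_c10 LD2_c32 LD3_c37)) = (LP (LK LD1_c8 LD2_c35 LD3_c8)) :=
  Lgr Lrot150 (Lpe (f359456 IH) (Lpe (K26.f360992 IH) (Lpr_df (K26.f361019 IH) (Lpr_gt (K26.f230094 IH) (Lpe (K26.f230083 IH) (Lpr_gt (K30.f321776 IH) (Lpr_ct (K20.f166075 IH) (Lpr_df (K20.f302852 IH) (Lpe (f302859 IH) (Lpn (LP (LK LD1_c8 LD2_c35 LD3_c8))))))))))))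
theorem f301139 : Led Lsl_et (LP (LK LD1_c15 LD2_c6 LD3_c44)) = (LP (LK LD1_c16 LD2_c1 LD3_c7)) :=
  Lgr Lrot122 (Lpr_dt (K26.f301135 IH) (Lpr_gt (K26.f191557 IH) (Lpr_df (K10.f191692 IH) (Lpr_et (K26.f191694 IH) (Lpe (K17.f283201 IH) (Lpr_dt (K18.f283212 IH) (Lpe (K15.f261463 IH) (Lpe (K14.f250527 IH) (Lpr_et (K26.f250544 IH) (Lpr_gt (K20.f250547 IH) (Lpn (LP (LK LD1_c16 LD2_c1 LD3_c7)))))))))))))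
theorem f301141 : Led Lsl_ef (LP (LK LD1_c15 LD2_c6 LD3_c44)) = (LP (LK LD1_c16 LD2_c1 LD3_c7)) :=
  Lgr Lrot88 (Lpr_et (f301139 IH) (Lpn (LP (LK LD1_c16 LD2_c1 LD3_c7))))
theorem f361002 : Led Lsl_bf (LP (LK LD1_c17 LD2_c39 LD3_c34)) = (LP (LK LD1_c15 LD2_c6 LD3_c44)) :=
  Lgr Lrot96 (Lpr_et (K26.f360998 IH) (Lpr_bt (K20.f321058 IH) (Lpe (f301141 IH) (Lpn (LP (LK LD1_c15 LD2_c6 LD3_c44))))))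
theorem f371660 : Led Lsl_gt (LP (LK LD1_c8 LD2_c19 LD3_c13)) = (LP (LK LD1_c15 LD2_c34 LD3_c3)) :=
  Lgr Lrot65 (Lpe (f365203 IH) (Lpr_bt (K27.f365180 IH) (Lpr_gf (f371310 IH) (Lpe (K26.f302889 IH) (Lpr_ct (f167516 IH) (Lpe (f361021 IH) (Lpe (f359456 IH) (Lpe (K26.f360992 IH) (Lpr_bf (f361002 IH) (Lpe (K21.f325895 IH) (Lpn (LP (LK LD1_c15 LD2_c34 LD3_c3)))))))))))))
theorem f361972 : Led Lsl_ft (LP (LK LD1_c8 LD2_c19 LD3_c13)) = (LP (LK LD1_c4 LD2_c9 LD3_c34)) :=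
  Lre_f IH (LK LD1_c8 LD2_c19 LD3_c13) (LK LD1_c4 LD2_c9 LD3_c34) Lrfl Lrfl
theorem f371662 : Led Lsl_at (LP (LK LD1_c4 LD2_c9 LD3_c34)) = (LP (LK LD1_c8 LD2_c16 LD3_c45)) :=
  Lgr Lrot26 (Lpe (f361972 IH) (Lpr_gt (f371660 IH) (Lpr_gt (K21.f47703 IH) (Lpn (LP (LK LD1_c8 LD2_c16 LD3_c45))))))
theorem f361620 : Led Lsl_bt (LP (LK LD1_c8 LD2_c19 LD3_c8)) = (LP (LK LD1_c4 LD2_c9 LD3_c34)) :=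
  Lre_b IH (LK LD1_c8 LD2_c19 LD3_c8) (LK LD1_c4 LD2_c9 LD3_c34) Lrfl Lrfl
theorem f372261 : Led Lsl_at (LP (LK LD1_c15 LD2_c38 LD3_c48)) = (LP (LK LD1_c8 LD2_c19 LD3_c8)) :=
  Lre_a IH (LK LD1_c15 LD2_c38 LD3_c48) (LK LD1_c8 LD2_c19 LD3_c8) Lrfl Lrfl
theorem f47717 : Led Lsl_bt (LP (LK LD1_c8 LD2_c16 LD3_c45)) = (LP (LK LD1_c15 LD2_c34 LD3_c0)) :=
  Lre_b IH (LK LD1_c8 LD2_c16 LD3_c45) (LK LD1_c15 LD2_c34 LD3_c0) Lrfl Lrfl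
theorem f232595 : Led Lsl_at (LP (LK LD1_c15 LD2_c34 LD3_c0)) = (LP (LK LD1_c25 LD2_c27 LD3_c40)) :=
  Lre_a IH (LK LD1_c15 LD2_c34 LD3_c0) (LK LD1_c25 LD2_c27 LD3_c40) Lrfl Lrfl
theorem f372262 : Led Lsl_bf (LP (LK LD1_c15 LD2_c38 LD3_c48)) = (LP (LK LD1_c25 LD2_c27 LD3_c40)) :=
  Lgr Lrot81 (Lpr_at (f372261 IH) (Lpr_bt (f361620 IH) (Lpr_at (f371662 IH) (Lpr_bt (f47717 IH) (Lpr_at (f232595 IH) (Lpn (LP (LK LD1_c25 LD2_c27 LD3_c40))))))))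
theorem f372272 : Led Lsl_et (LP (LK LD1_c15 LD2_c38 LD3_c48)) = (LP (LK LD1_c8 LD2_c19 LD3_c6)) :=
  Lre_e IH (LK LD1_c15 LD2_c38 LD3_c48) (LK LD1_c8 LD2_c19 LD3_c6) Lrfl Lrfl
theorem f232657 : Led Lsl_et (LP (LK LD1_c15 LD2_c33 LD3_c60)) = (LP (LK LD1_c25 LD2_c27 LD3_c40)) :=
  Lre_e IH (LK LD1_c15 LD2_c33 LD3_c60) (LK LD1_c25 LD2_c27 LD3_c40) Lrfl Lrfl
theorem f372273 : Led Lsl_bt (LP (LK LD1_c8 LD2_c19 LD3_c6)) = (LP (LK LD1_c15 LD2_c33 LD3_c60)) :=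
  Lgr Lrot119 (Lpe (f372272 IH) (Lpr_bf (f372262 IH) (Lpe (f232657 IH) (Lpn (LP (LK LD1_c15 LD2_c33 LD3_c60))))))
theorem f372691 : Led Lsl_gt (LP (LK LD1_c8 LD2_c18 LD3_c40)) = (LP (LK LD1_c15 LD2_c33 LD3_c60)) :=
  Lgr Lrot164 (Lpe (K30.f236746 IH) (Lpr_ct (K30.f236747 IH) (Lpe (f280094 IH) (Lpr_cf (K16.f279914 IH) (Lpe (f279989 IH) (Lpe (f219932 IH) (Lpe (f270991 IH) (Lpr_gf (f372689 IH) (Lpe (f372280 IH) (Lpr_bt (f372273 IH) (Lpn (LP (LK LD1_c15 LD2_c33 LD3_c60)))))))))))))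
theorem f397144 : Led Lsl_af (LP (LK LD1_c8 LD2_c18 LD3_c41)) = (LP (LK LD1_c15 LD2_c33 LD3_c58)) :=
  Lgr Lrot31 (Lpr_gf (K30.f372609 IH) (Lpe (f372691 IH) (Lpr_ft (f397113 IH) (Lpn (LP (LK LD1_c15 LD2_c33 LD3_c58))))))
theorem f397146 : Led Lsl_at (LP (LK LD1_c8 LD2_c18 LD3_c41)) = (LP (LK LD1_c15 LD2_c33 LD3_c58)) :=
  Lgr Lrot100 (Lpr_af (f397144 IH) (Lpn (LP (LK LD1_c15 LD2_c33 LD3_c58))))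
theorem f397148 : Led Lsl_ff (LP (LK LD1_c8 LD2_c18 LD3_c41)) = (LP (LK LD1_c15 LD2_c33 LD3_c59)) :=
  Lgr Lrot52 (Lpr_at (f397146 IH) (Lpe (f47553 IH) (Lpe (K30.f232620 IH) (Lpn (LP (LK LD1_c15 LD2_c33 LD3_c59))))))
theorem f397152 : Led Lsl_ft (LP (LK LD1_c8 LD2_c18 LD3_c41)) = (LP (LK LD1_c15 LD2_c33 LD3_c59)) :=
  Lgr Lrot48 (Lpr_ff (f397148 IH) (Lpn (LP (LK LD1_c15 LD2_c33 LD3_c59))))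
theorem f397154 : Led Lsl_af (LP (LK LD1_c8 LD2_c18 LD3_c40)) = (LP (LK LD1_c15 LD2_c33 LD3_c59)) :=
  Lgr Lrot45 (Lpr_ft (f397113 IH) (Lpe (f397144 IH) (Lpr_ft (f397152 IH) (Lpn (LP (LK LD1_c15 LD2_c33 LD3_c59))))))
theorem f236753 : Led Lsl_ct (LP (LK LD1_c8 LD2_c18 LD3_c40)) = (LP (LK LD1_c15 LD2_c37 LD3_c55)) :=
  Lre_c IH (LK LD1_c8 LD2_c18 LD3_c40) (LK LD1_c15 LD2_c37 LD3_c55) Lrfl Lrfl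
theorem f397157 : Led Lsl_at (LP (LK LD1_c15 LD2_c37 LD3_c55)) = (LP (LK LD1_c17 LD2_c39 LD3_c1)) :=
  Lgr Lrot107 (Lpe (f236753 IH) (Lpr_af (f397154 IH) (Lpr_cf (K30.f232691 IH) (Lpn (LP (LK LD1_c17 LD2_c39 LD3_c1))))))
theorem f2752 : Led Lsl_gt (LP (LK LD1_c1 LD2_c9 LD3_c1)) = (LP (LK LD1_c2 LD2_c23 LD3_c61)) :=
  Lre_g IH (LK LD1_c1 LD2_c9 LD3_c1) (LK LD1_c2 LD2_c23 LD3_c61) Lrfl Lrfl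
theorem f2363 : Led Lsl_ct (LP (LK LD1_c4 LD2_c52 LD3_c32)) = (LP (LK LD1_c2 LD2_c23 LD3_c61)) :=
  Lre_c IH (LK LD1_c4 LD2_c52 LD3_c32) (LK LD1_c2 LD2_c23 LD3_c61) Lrfl Lrfl
theorem f232689 : Led Lsl_bt (LP (LK LD1_c4 LD2_c52 LD3_c32)) = (LP (LK LD1_c9 LD2_c37 LD3_c14)) :=
  Lre_b IH (LK LD1_c4 LD2_c52 LD3_c32) (LK LD1_c9 LD2_c37 LD3_c14) Lrfl Lrfl
theorem f232696 : Led Lsl_gt (LP (LK LD1_c9 LD2_c37 LD3_c14)) = (LP (LK LD1_c17 LD2_c39 LD3_c1)) :=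
  Lgr Lrot82 (Lpe (f232689 IH) (Lpr_ct (f2363 IH) (Lpe (f2752 IH) (Lpe (K13.f2356 IH) (Lpr_bt (K13.f2487 IH) (Lpe (K13.f1928 IH) (Lpe (K30.f29912 IH) (Lpe (K30.f232510 IH) (Lpe (K30.f232620 IH) (Lpr_cf (K30.f232691 IH) (Lpn (LP (LK LD1_c17 LD2_c39 LD3_c1)))))))))))))
theorem f232698 : Led Lsl_gt (LP (LK LD1_c17 LD2_c42 LD3_c46)) = (LP (LK LD1_c9 LD2_c37 LD3_c14)) :=
  Lre_g IH (LK LD1_c17 LD2_c42 LD3_c46) (LK LD1_c9 LD2_c37 LD3_c14) Lrfl Lrfl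
theorem f397162 : Led Lsl_ff (LP (LK LD1_c15 LD2_c37 LD3_c55)) = (LP (LK LD1_c17 LD2_c42 LD3_c46)) :=
  Lgr Lrot52 (Lpr_at (f397157 IH) (Lpe (f232696 IH) (Lpe (f232698 IH) (Lpn (LP (LK LD1_c17 LD2_c42 LD3_c46))))))
theorem f397173 : Led Lsl_ft (LP (LK LD1_c15 LD2_c37 LD3_c55)) = (LP (LK LD1_c17 LD2_c42 LD3_c46)) :=
  Lgr Lrot48 (Lpr_ff (f397162 IH) (Lpn (LP (LK LD1_c17 LD2_c42 LD3_c46))))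
theorem f397160 : Led Lsl_af (LP (LK LD1_c15 LD2_c37 LD3_c55)) = (LP (LK LD1_c17 LD2_c39 LD3_c1)) :=
  Lgr Lrot0 (Lpr_at (f397157 IH) (Lpn (LP (LK LD1_c17 LD2_c39 LD3_c1))))
theorem f170555 : Led Lsl_bt (LP (LK LD1_c16 LD2_c1 LD3_c22)) = (LP (LK LD1_c15 LD2_c37 LD3_c58)) :=
  Lgr Lrot127 (Lpr_bf (K30.f170552 IH) (Lpn (LP (LK LD1_c15 LD2_c37 LD3_c58))))
theorem f397005 : Led Lsl_ff (LP (LK LD1_c17 LD2_c39 LD3_c1)) = (LP (LK LD1_c15 LD2_c37 LD3_c58)) :=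
  Lgr Lrot25 (Lpr_bt (K30.f232690 IH) (Lpr_ft (K30.f397003 IH) (Lpr_bt (f170555 IH) (Lpn (LP (LK LD1_c15 LD2_c37 LD3_c58))))))
theorem f397175 : Led Lsl_af (LP (LK LD1_c15 LD2_c37 LD3_c58)) = (LP (LK LD1_c17 LD2_c42 LD3_c46)) :=
  Lgr Lrot45 (Lpe (f397005 IH) (Lpe (f397160 IH) (Lpr_ft (f397173 IH) (Lpn (LP (LK LD1_c17 LD2_c42 LD3_c46))))))
theorem f170577 : Led Lsl_dt (LP (LK LD1_c15 LD2_c37 LD3_c58)) = (LP (LK LD1_c25 LD2_c32 LD3_c61)) :=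
  Lre_d IH (LK LD1_c15 LD2_c37 LD3_c58) (LK LD1_c25 LD2_c32 LD3_c61) Lrfl Lrfl
theorem f397170 : Led Lsl_dt (LP (LK LD1_c27 LD2_c29 LD3_c53)) = (LP (LK LD1_c17 LD2_c42 LD3_c46)) :=
  Lre_d IH (LK LD1_c27 LD2_c29 LD3_c53) (LK LD1_c17 LD2_c42 LD3_c46) Lrfl Lrfl
theorem f397204 : Led Lsl_at (LP (LK LD1_c25 LD2_c32 LD3_c61)) = (LP (LK LD1_c27 LD2_c29 LD3_c53)) :=
  Lgr Lrot51 (Lpe (f170577 IH) (Lpr_af (f397175 IH) (Lpe (f397170 IH) (Lpn (LP (LK LD1_c27 LD2_c29 LD3_c53))))))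
theorem f220074 : Led Lsl_dt (LP (LK LD1_c8 LD2_c17 LD3_c35)) = (LP (LK LD1_c4 LD2_c8 LD3_c44)) :=
  Lre_d IH (LK LD1_c8 LD2_c17 LD3_c35) (LK LD1_c4 LD2_c8 LD3_c44) Lrfl Lrfl
theorem f220073 : Led Lsl_ct (LP (LK LD1_c4 LD2_c8 LD3_c44)) = (LP (LK LD1_c8 LD2_c17 LD3_c2)) :=
  Lre_c IH (LK LD1_c4 LD2_c8 LD3_c44) (LK LD1_c8 LD2_c17 LD3_c2) Lrfl Lrfl
theorem f263837 : Led Lsl_dt (LP (LK LD1_c8 LD2_c17 LD3_c2)) = (LP (LK LD1_c15 LD2_c34 LD3_c47)) :=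
  Lre_d IH (LK LD1_c8 LD2_c17 LD3_c2) (LK LD1_c15 LD2_c34 LD3_c47) Lrfl Lrfl
theorem f394387 : Led Lsl_cf (LP (LK LD1_c25 LD2_c27 LD3_c14)) = (LP (LK LD1_c26 LD2_c3 LD3_c46)) :=
  Lgr Lrot11 (Lpr_ct (K30.f394379 IH) (Lpn (LP (LK LD1_c26 LD2_c3 LD3_c46))))
theorem f394421 : Led Lsl_dt (LP (LK LD1_c25 LD2_c28 LD3_c54)) = (LP (LK LD1_c16 LD2_c1 LD3_c22)) :=
  Lgr Lrot140 (Lpe (f233375 IH) (Lpe (f263837 IH) (Lpe (f220073 IH) (Lpe (f220074 IH) (Lpr_ft (K31.f394399 IH) (Lpr_at (K30.f394381 IH) (Lpr_cf (f394387 IH) (Lpe (K30.f170132 IH) (Lpr_cf (K30.f170127 IH) (Lpn (LP (LK LD1_c16 LD2_c1 LD3_c22))))))))))))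
theorem f394423 : Led Lsl_bf (LP (LK LD1_c25 LD2_c28 LD3_c54)) = (LP (LK LD1_c25 LD2_c32 LD3_c61)) :=
  Lgr Lrot93 (Lpr_dt (f394421 IH) (Lpr_bt (f170555 IH) (Lpr_dt (f170577 IH) (Lpn (LP (LK LD1_c25 LD2_c32 LD3_c61))))))
theorem f394427 : Led Lsl_et (LP (LK LD1_c25 LD2_c28 LD3_c54)) = (LP (LK LD1_c31 LD2_c54 LD3_c29)) :=
  Lre_e IH (LK LD1_c25 LD2_c28 LD3_c54) (LK LD1_c31 LD2_c54 LD3_c29) Lrfl Lrfl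
theorem f394432 : Led Lsl_et (LP (LK LD1_c31 LD2_c55 LD3_c55)) = (LP (LK LD1_c25 LD2_c32 LD3_c61)) :=
  Lre_e IH (LK LD1_c31 LD2_c55 LD3_c55) (LK LD1_c25 LD2_c32 LD3_c61) Lrfl Lrfl
theorem f394433 : Led Lsl_bt (LP (LK LD1_c31 LD2_c54 LD3_c29)) = (LP (LK LD1_c31 LD2_c55 LD3_c55)) :=
  Lgr Lrot119 (Lpe (f394427 IH) (Lpr_bf (f394423 IH) (Lpe (f394432 IH) (Lpn (LP (LK LD1_c31 LD2_c55 LD3_c55))))))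
theorem f349608 : Led Lsl_ct (LP (LK LD1_c25 LD2_c28 LD3_c55)) = (LP (LK LD1_c31 LD2_c54 LD3_c29)) :=
  Lre_c IH (LK LD1_c25 LD2_c28 LD3_c55) (LK LD1_c31 LD2_c54 LD3_c29) Lrfl Lrfl
theorem f349590 : Led Lsl_bt (LP (LK LD1_c15 LD2_c34 LD3_c49)) = (LP (LK LD1_c25 LD2_c28 LD3_c55)) :=
  Lre_b IH (LK LD1_c15 LD2_c34 LD3_c49) (LK LD1_c25 LD2_c28 LD3_c55) Lrfl Lrfl
theorem f349105 : Led Lsl_at (LP (LK LD1_c9 LD2_c34 LD3_c5)) = (LP (LK LD1_c17 LD2_c37 LD3_c12)) :=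
  Lre_a IH (LK LD1_c9 LD2_c34 LD3_c5) (LK LD1_c17 LD2_c37 LD3_c12) Lrfl Lrfl
theorem f349106 : Led Lsl_ff (LP (LK LD1_c25 LD2_c47 LD3_c18)) = (LP (LK LD1_c17 LD2_c37 LD3_c12)) :=
  Lgr Lrot30 (Lpr_at (K26.f167393 IH) (Lpr_ft (K26.f349101 IH) (Lpr_at (f349105 IH) (Lpn (LP (LK LD1_c17 LD2_c37 LD3_c12))))))
theorem f349089 : Led Lsl_ct (LP (LK LD1_c9 LD2_c34 LD3_c29)) = (LP (LK LD1_c17 LD2_c37 LD3_c12)) :=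
  Lre_c IH (LK LD1_c9 LD2_c34 LD3_c29) (LK LD1_c17 LD2_c37 LD3_c12) Lrfl Lrfl
theorem f349494 : Led Lsl_ft (LP (LK LD1_c17 LD2_c36 LD3_c36)) = (LP (LK LD1_c9 LD2_c34 LD3_c29)) :=
  Lgr Lrot4 (Lpe (K26.f167411 IH) (Lpr_ff (f349106 IH) (Lpe (f349089 IH) (Lpn (LP (LK LD1_c9 LD2_c34 LD3_c29))))))
theorem f167418 : Led Lsl_dt (LP (LK LD1_c27 LD2_c24 LD3_c47)) = (LP (LK LD1_c17 LD2_c36 LD3_c36)) :=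
  Lre_d IH (LK LD1_c27 LD2_c24 LD3_c47) (LK LD1_c17 LD2_c36 LD3_c36) Lrfl Lrfl
theorem f349088 : Led Lsl_dt (LP (LK LD1_c9 LD2_c34 LD3_c29)) = (LP (LK LD1_c17 LD2_c37 LD3_c54)) :=
  Lre_d IH (LK LD1_c9 LD2_c34 LD3_c29) (LK LD1_c17 LD2_c37 LD3_c54) Lrfl Lrfl
theorem f349498 : Led Lsl_ff (LP (LK LD1_c27 LD2_c24 LD3_c47)) = (LP (LK LD1_c17 LD2_c37 LD3_c54)) :=
  Lgr Lrot19 (Lpr_dt (f167418 IH) (Lpr_ft (f349494 IH) (Lpr_dt (f349088 IH) (Lpn (LP (LK LD1_c17 LD2_c37 LD3_c54))))))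
theorem f349001 : Led Lsl_dt (LP (LK LD1_c17 LD2_c38 LD3_c38)) = (LP (LK LD1_c9 LD2_c34 LD3_c57)) :=
  Lre_d IH (LK LD1_c17 LD2_c38 LD3_c38) (LK LD1_c9 LD2_c34 LD3_c57) Lrfl Lrfl
theorem f167416 : Led Lsl_dt (LP (LK LD1_c17 LD2_c36 LD3_c36)) = (LP (LK LD1_c27 LD2_c24 LD3_c47)) :=
  Lre_d IH (LK LD1_c17 LD2_c36 LD3_c36) (LK LD1_c27 LD2_c24 LD3_c47) Lrfl Lrfl
theorem f349034 : Led Lsl_bf (LP (LK LD1_c17 LD2_c38 LD3_c38)) = (LP (LK LD1_c27 LD2_c24 LD3_c47)) :=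
  Lgr Lrot93 (Lpr_dt (f349001 IH) (Lpr_bt (K26.f349031 IH) (Lpr_dt (f167416 IH) (Lpn (LP (LK LD1_c27 LD2_c24 LD3_c47))))))
theorem f232927 : Led Lsl_bt (LP (LK LD1_c9 LD2_c34 LD3_c30)) = (LP (LK LD1_c4 LD2_c51 LD3_c13)) :=
  Lre_b IH (LK LD1_c9 LD2_c34 LD3_c30) (LK LD1_c4 LD2_c51 LD3_c13) Lrfl Lrfl
theorem f327878 : Led Lsl_at (LP (LK LD1_c17 LD2_c37 LD3_c54)) = (LP (LK LD1_c9 LD2_c34 LD3_c30)) :=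
  Lre_a IH (LK LD1_c17 LD2_c37 LD3_c54) (LK LD1_c9 LD2_c34 LD3_c30) Lrfl Lrfl
theorem f233327 : Led Lsl_bt (LP (LK LD1_c9 LD2_c33 LD3_c46)) = (LP (LK LD1_c17 LD2_c36 LD3_c29)) :=
  Lre_b IH (LK LD1_c9 LD2_c33 LD3_c46) (LK LD1_c17 LD2_c36 LD3_c29) Lrfl Lrfl
theorem f327879 : Led Lsl_at (LP (LK LD1_c17 LD2_c36 LD3_c29)) = (LP (LK LD1_c27 LD2_c24 LD3_c38)) :=
  Lre_a IH (LK LD1_c17 LD2_c36 LD3_c29) (LK LD1_c27 LD2_c24 LD3_c38) Lrfl Lrfl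
theorem f327880 : Led Lsl_bf (LP (LK LD1_c17 LD2_c37 LD3_c54)) = (LP (LK LD1_c27 LD2_c24 LD3_c38)) :=
  Lgr Lrot81 (Lpr_at (f327878 IH) (Lpr_bt (f232927 IH) (Lpr_at (K21.f327874 IH) (Lpr_bt (f233327 IH) (Lpr_at (f327879 IH) (Lpn (LP (LK LD1_c27 LD2_c24 LD3_c38))))))))
theorem f349516 : Led Lsl_ft (LP (LK LD1_c17 LD2_c38 LD3_c38)) = (LP (LK LD1_c27 LD2_c24 LD3_c38)) :=
  Lgr Lrot75 (Lpr_bf (f349034 IH) (Lpr_ff (f349498 IH) (Lpr_bf (f327880 IH) (Lpn (LP (LK LD1_c27 LD2_c24 LD3_c38))))))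
theorem f349531 : Led Lsl_ff (LP (LK LD1_c17 LD2_c38 LD3_c38)) = (LP (LK LD1_c27 LD2_c24 LD3_c38)) :=
  Lgr Lrot3 (Lpr_ft (f349516 IH) (Lpn (LP (LK LD1_c27 LD2_c24 LD3_c38))))
theorem f349539 : Led Lsl_dt (LP (LK LD1_c17 LD2_c36 LD3_c28)) = (LP (LK LD1_c27 LD2_c24 LD3_c38)) :=
  Lre_d IH (LK LD1_c17 LD2_c36 LD3_c28) (LK LD1_c27 LD2_c24 LD3_c38) Lrfl Lrfl
theorem f349540 : Led Lsl_ft (LP (LK LD1_c9 LD2_c34 LD3_c57)) = (LP (LK LD1_c17 LD2_c36 LD3_c28)) :=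
  Lgr Lrot54 (Lpe (f349001 IH) (Lpr_ff (f349531 IH) (Lpe (f349539 IH) (Lpn (LP (LK LD1_c17 LD2_c36 LD3_c28))))))
theorem f327914 : Led Lsl_at (LP (LK LD1_c4 LD2_c51 LD3_c12)) = (LP (LK LD1_c9 LD2_c34 LD3_c29)) :=
  Lre_a IH (LK LD1_c4 LD2_c51 LD3_c12) (LK LD1_c9 LD2_c34 LD3_c29) Lrfl Lrfl
theorem f349081 : Led Lsl_ff (LP (LK LD1_c17 LD2_c36 LD3_c36)) = (LP (LK LD1_c9 LD2_c34 LD3_c29)) :=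
  Lgr Lrot30 (Lpr_at (K26.f167401 IH) (Lpr_ft (K26.f349079 IH) (Lpr_at (f327914 IH) (Lpn (LP (LK LD1_c9 LD2_c34 LD3_c29))))))
theorem f349545 : Led Lsl_bf (LP (LK LD1_c9 LD2_c34 LD3_c29)) = (LP (LK LD1_c17 LD2_c36 LD3_c28)) :=
  Lgr Lrot61 (Lpe (f349081 IH) (Lpe (K26.f327942 IH) (Lpr_ft (f349540 IH) (Lpn (LP (LK LD1_c17 LD2_c36 LD3_c28))))))
theorem f349529 : Led Lsl_dt (LP (LK LD1_c27 LD2_c24 LD3_c38)) = (LP (LK LD1_c17 LD2_c36 LD3_c28)) :=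
  Lre_d IH (LK LD1_c27 LD2_c24 LD3_c38) (LK LD1_c17 LD2_c36 LD3_c28) Lrfl Lrfl
theorem f349549 : Led Lsl_bt (LP (LK LD1_c17 LD2_c37 LD3_c54)) = (LP (LK LD1_c27 LD2_c24 LD3_c38)) :=
  Lgr Lrot95 (Lpe (f349088 IH) (Lpr_bf (f349545 IH) (Lpe (f349529 IH) (Lpn (LP (LK LD1_c27 LD2_c24 LD3_c38))))))
theorem f349519 : Led Lsl_ft (LP (LK LD1_c27 LD2_c24 LD3_c47)) = (LP (LK LD1_c17 LD2_c37 LD3_c54)) :=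
  Lgr Lrot48 (Lpr_ff (f349498 IH) (Lpn (LP (LK LD1_c17 LD2_c37 LD3_c54))))
theorem f349551 : Led Lsl_bf (LP (LK LD1_c27 LD2_c24 LD3_c47)) = (LP (LK LD1_c17 LD2_c38 LD3_c38)) :=
  Lgr Lrot61 (Lpr_ft (f349519 IH) (Lpr_bt (f349549 IH) (Lpe (f349531 IH) (Lpn (LP (LK LD1_c17 LD2_c38 LD3_c38))))))
theorem f349511 : Led Lsl_et (LP (LK LD1_c27 LD2_c24 LD3_c47)) = (LP (LK LD1_c32 LD2_c24 LD3_c52)) :=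
  Lre_e IH (LK LD1_c27 LD2_c24 LD3_c47) (LK LD1_c32 LD2_c24 LD3_c52) Lrfl Lrfl
theorem f349530 : Led Lsl_et (LP (LK LD1_c27 LD2_c26 LD3_c43)) = (LP (LK LD1_c17 LD2_c38 LD3_c38)) :=
  Lre_e IH (LK LD1_c27 LD2_c26 LD3_c43) (LK LD1_c17 LD2_c38 LD3_c38) Lrfl Lrfl
theorem f349553 : Led Lsl_bt (LP (LK LD1_c32 LD2_c24 LD3_c52)) = (LP (LK LD1_c27 LD2_c26 LD3_c43)) :=
  Lgr Lrot119 (Lpe (f349511 IH) (Lpr_bf (f349551 IH) (Lpe (f349530 IH) (Lpn (LP (LK LD1_c27 LD2_c26 LD3_c43))))))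
theorem f349560 : Led Lsl_bf (LP (LK LD1_c32 LD2_c24 LD3_c52)) = (LP (LK LD1_c27 LD2_c26 LD3_c43)) :=
  Lgr Lrot24 (Lpr_bt (f349553 IH) (Lpn (LP (LK LD1_c27 LD2_c26 LD3_c43))))
theorem f349562 : Led Lsl_at (LP (LK LD1_c32 LD2_c24 LD3_c52)) = (LP (LK LD1_c27 LD2_c24 LD3_c49)) :=
  Lre_a IH (LK LD1_c32 LD2_c24 LD3_c52) (LK LD1_c27 LD2_c24 LD3_c49) Lrfl Lrfl
theorem f349563 : Led Lsl_bt (LP (LK LD1_c27 LD2_c24 LD3_c49)) = (LP (LK LD1_c17 LD2_c36 LD3_c39)) :=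
  Lre_b IH (LK LD1_c27 LD2_c24 LD3_c49) (LK LD1_c17 LD2_c36 LD3_c39) Lrfl Lrfl
theorem f349564 : Led Lsl_at (LP (LK LD1_c17 LD2_c38 LD3_c43)) = (LP (LK LD1_c27 LD2_c26 LD3_c43)) :=
  Lre_a IH (LK LD1_c17 LD2_c38 LD3_c43) (LK LD1_c27 LD2_c26 LD3_c43) Lrfl Lrfl
theorem f233181 : Led Lsl_bt (LP (LK LD1_c9 LD2_c34 LD3_c60)) = (LP (LK LD1_c17 LD2_c38 LD3_c43)) :=
  Lre_b IH (LK LD1_c9 LD2_c34 LD3_c60) (LK LD1_c17 LD2_c38 LD3_c43) Lrfl Lrfl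
theorem f349565 : Led Lsl_at (LP (LK LD1_c17 LD2_c36 LD3_c39)) = (LP (LK LD1_c9 LD2_c34 LD3_c60)) :=
  Lgr Lrot67 (Lpe (f349563 IH) (Lpe (f349562 IH) (Lpr_bf (f349560 IH) (Lpe (f349564 IH) (Lpe (f233181 IH) (Lpn (LP (LK LD1_c9 LD2_c34 LD3_c60))))))))
theorem f220084 : Led Lsl_et (LP (LK LD1_c8 LD2_c17 LD3_c3)) = (LP (LK LD1_c15 LD2_c34 LD3_c49)) :=
  Lre_e IH (LK LD1_c8 LD2_c17 LD3_c3) (LK LD1_c15 LD2_c34 LD3_c49) Lrfl Lrfl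
theorem f232337 : Led Lsl_et (LP (LK LD1_c17 LD2_c36 LD3_c39)) = (LP (LK LD1_c9 LD2_c33 LD3_c49)) :=
  Lre_e IH (LK LD1_c17 LD2_c36 LD3_c39) (LK LD1_c9 LD2_c33 LD3_c49) Lrfl Lrfl
theorem f233378 : Led Lsl_ct (LP (LK LD1_c15 LD2_c34 LD3_c49)) = (LP (LK LD1_c17 LD2_c36 LD3_c39)) :=
  Lgr Lrot15 (Lpe (f220084 IH) (Lpr_cf (K13.f233333 IH) (Lpe (f232337 IH) (Lpn (LP (LK LD1_c17 LD2_c36 LD3_c39))))))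
theorem f232530 : Led Lsl_et (LP (LK LD1_c4 LD2_c51 LD3_c60)) = (LP (LK LD1_c9 LD2_c36 LD3_c16)) :=
  Lre_e IH (LK LD1_c4 LD2_c51 LD3_c60) (LK LD1_c9 LD2_c36 LD3_c16) Lrfl Lrfl
theorem f233171 : Led Lsl_et (LP (LK LD1_c9 LD2_c34 LD3_c60)) = (LP (LK LD1_c4 LD2_c51 LD3_c27)) :=
  Lre_e IH (LK LD1_c9 LD2_c34 LD3_c60) (LK LD1_c4 LD2_c51 LD3_c27) Lrfl Lrfl
theorem f233172 : Led Lsl_ct (LP (LK LD1_c9 LD2_c36 LD3_c16)) = (LP (LK LD1_c9 LD2_c34 LD3_c60)) :=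
  Lgr Lrot15 (Lpe (f232530 IH) (Lpr_cf (K13.f233154 IH) (Lpe (f233171 IH) (Lpn (LP (LK LD1_c9 LD2_c34 LD3_c60))))))
theorem f233182 : Led Lsl_cf (LP (LK LD1_c9 LD2_c36 LD3_c16)) = (LP (LK LD1_c9 LD2_c34 LD3_c60)) :=
  Lgr Lrot11 (Lpr_ct (f233172 IH) (Lpn (LP (LK LD1_c9 LD2_c34 LD3_c60))))
theorem f349567 : Led Lsl_af (LP (LK LD1_c15 LD2_c34 LD3_c49)) = (LP (LK LD1_c9 LD2_c36 LD3_c16)) :=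
  Lgr Lrot68 (Lpr_ct (f233378 IH) (Lpr_at (f349565 IH) (Lpe (f233182 IH) (Lpn (LP (LK LD1_c9 LD2_c36 LD3_c16))))))
theorem f327864 : Led Lsl_ft (LP (LK LD1_c15 LD2_c34 LD3_c49)) = (LP (LK LD1_c25 LD2_c28 LD3_c60)) :=
  Lre_f IH (LK LD1_c15 LD2_c34 LD3_c49) (LK LD1_c25 LD2_c28 LD3_c60) Lrfl Lrfl
theorem f233184 : Led Lsl_ft (LP (LK LD1_c17 LD2_c41 LD3_c14)) = (LP (LK LD1_c9 LD2_c36 LD3_c16)) :=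
  Lre_f IH (LK LD1_c17 LD2_c41 LD3_c14) (LK LD1_c9 LD2_c36 LD3_c16) Lrfl Lrfl
theorem f349592 : Led Lsl_at (LP (LK LD1_c25 LD2_c28 LD3_c60)) = (LP (LK LD1_c17 LD2_c41 LD3_c14)) :=
  Lgr Lrot66 (Lpe (f327864 IH) (Lpr_af (f349567 IH) (Lpe (f233184 IH) (Lpn (LP (LK LD1_c17 LD2_c41 LD3_c14))))))
theorem f233185 : Led Lsl_ft (LP (LK LD1_c9 LD2_c34 LD3_c60)) = (LP (LK LD1_c17 LD2_c38 LD3_c49)) :=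
  Lre_f IH (LK LD1_c9 LD2_c34 LD3_c60) (LK LD1_c17 LD2_c38 LD3_c49) Lrfl Lrfl
theorem f233186 : Led Lsl_cf (LP (LK LD1_c17 LD2_c41 LD3_c14)) = (LP (LK LD1_c17 LD2_c38 LD3_c49)) :=
  Lgr Lrot108 (Lpr_ft (f233184 IH) (Lpr_ct (f233172 IH) (Lpr_ft (f233185 IH) (Lpn (LP (LK LD1_c17 LD2_c38 LD3_c49))))))
theorem f233193 : Led Lsl_ct (LP (LK LD1_c17 LD2_c41 LD3_c14)) = (LP (LK LD1_c17 LD2_c38 LD3_c49)) :=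
  Lgr Lrot59 (Lpr_cf (f233186 IH) (Lpn (LP (LK LD1_c17 LD2_c38 LD3_c49))))
theorem f327869 : Led Lsl_ft (LP (LK LD1_c27 LD2_c24 LD3_c51)) = (LP (LK LD1_c17 LD2_c36 LD3_c39)) :=
  Lre_f IH (LK LD1_c27 LD2_c24 LD3_c51) (LK LD1_c17 LD2_c36 LD3_c39) Lrfl Lrfl
theorem f349571 : Led Lsl_af (LP (LK LD1_c27 LD2_c24 LD3_c51)) = (LP (LK LD1_c17 LD2_c38 LD3_c49)) :=
  Lgr Lrot45 (Lpr_ft (f327869 IH) (Lpr_at (f349565 IH) (Lpr_ft (f233185 IH) (Lpn (LP (LK LD1_c17 LD2_c38 LD3_c49))))))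
theorem f349598 : Led Lsl_cf (LP (LK LD1_c25 LD2_c28 LD3_c60)) = (LP (LK LD1_c27 LD2_c24 LD3_c51)) :=
  Lgr Lrot1 (Lpr_at (f349592 IH) (Lpr_ct (f233193 IH) (Lpe (f349571 IH) (Lpn (LP (LK LD1_c27 LD2_c24 LD3_c51))))))
theorem f349603 : Led Lsl_ct (LP (LK LD1_c25 LD2_c28 LD3_c60)) = (LP (LK LD1_c27 LD2_c24 LD3_c51)) :=
  Lgr Lrot59 (Lpr_cf (f349598 IH) (Lpn (LP (LK LD1_c27 LD2_c24 LD3_c51))))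
theorem f349606 : Led Lsl_cf (LP (LK LD1_c15 LD2_c34 LD3_c49)) = (LP (LK LD1_c17 LD2_c36 LD3_c39)) :=
  Lgr Lrot108 (Lpr_ft (f327864 IH) (Lpr_ct (f349603 IH) (Lpr_ft (f327869 IH) (Lpn (LP (LK LD1_c17 LD2_c36 LD3_c39))))))
theorem f394437 : Led Lsl_cf (LP (LK LD1_c27 LD2_c24 LD3_c49)) = (LP (LK LD1_c31 LD2_c55 LD3_c55)) :=
  Lgr Lrot97 (Lpr_bt (f349563 IH) (Lpe (f349606 IH) (Lpr_bt (f349590 IH) (Lpr_ct (f349608 IH) (Lpr_bt (f394433 IH) (Lpn (LP (LK LD1_c31 LD2_c55 LD3_c55))))))))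
theorem f394440 : Led Lsl_ct (LP (LK LD1_c27 LD2_c24 LD3_c49)) = (LP (LK LD1_c31 LD2_c55 LD3_c55)) :=
  Lgr Lrot59 (Lpr_cf (f394437 IH) (Lpn (LP (LK LD1_c31 LD2_c55 LD3_c55))))
theorem f394443 : Led Lsl_et (LP (LK LD1_c17 LD2_c36 LD3_c37)) = (LP (LK LD1_c27 LD2_c24 LD3_c49)) :=
  Lre_e IH (LK LD1_c17 LD2_c36 LD3_c37) (LK LD1_c27 LD2_c24 LD3_c49) Lrfl Lrfl
theorem f394444 : Led Lsl_cf (LP (LK LD1_c17 LD2_c36 LD3_c37)) = (LP (LK LD1_c25 LD2_c32 LD3_c61)) :=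
  Lgr Lrot39 (Lpr_et (f394443 IH) (Lpr_ct (f394440 IH) (Lpr_et (f394432 IH) (Lpn (LP (LK LD1_c25 LD2_c32 LD3_c61))))))
theorem f349512 : Led Lsl_at (LP (LK LD1_c27 LD2_c24 LD3_c47)) = (LP (LK LD1_c17 LD2_c36 LD3_c37)) :=
  Lre_a IH (LK LD1_c27 LD2_c24 LD3_c47) (LK LD1_c17 LD2_c36 LD3_c37) Lrfl Lrfl
theorem f349513 : Led Lsl_at (LP (LK LD1_c9 LD2_c34 LD3_c30)) = (LP (LK LD1_c17 LD2_c37 LD3_c54)) :=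
  Lre_a IH (LK LD1_c9 LD2_c34 LD3_c30) (LK LD1_c17 LD2_c37 LD3_c54) Lrfl Lrfl
theorem f349514 : Led Lsl_ft (LP (LK LD1_c17 LD2_c36 LD3_c37)) = (LP (LK LD1_c9 LD2_c34 LD3_c30)) :=
  Lgr Lrot101 (Lpe (f349512 IH) (Lpr_ff (f349498 IH) (Lpe (f349513 IH) (Lpn (LP (LK LD1_c9 LD2_c34 LD3_c30))))))
theorem f394446 : Led Lsl_ft (LP (LK LD1_c17 LD2_c37 LD3_c58)) = (LP (LK LD1_c25 LD2_c32 LD3_c61)) :=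
  Lgr Lrot4 (Lpe (f232928 IH) (Lpe (f349514 IH) (Lpr_cf (f394444 IH) (Lpn (LP (LK LD1_c25 LD2_c32 LD3_c61))))))
theorem f397156 : Led Lsl_dt (LP (LK LD1_c25 LD2_c32 LD3_c59)) = (LP (LK LD1_c15 LD2_c37 LD3_c55)) :=
  Lre_d IH (LK LD1_c25 LD2_c32 LD3_c59) (LK LD1_c15 LD2_c37 LD3_c55) Lrfl Lrfl
theorem f397164 : Led Lsl_dt (LP (LK LD1_c17 LD2_c42 LD3_c46)) = (LP (LK LD1_c27 LD2_c29 LD3_c53)) :=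
  Lre_d IH (LK LD1_c17 LD2_c42 LD3_c46) (LK LD1_c27 LD2_c29 LD3_c53) Lrfl Lrfl
theorem f397179 : Led Lsl_ff (LP (LK LD1_c25 LD2_c32 LD3_c59)) = (LP (LK LD1_c27 LD2_c29 LD3_c53)) :=
  Lgr Lrot19 (Lpr_dt (f397156 IH) (Lpr_ft (f397173 IH) (Lpr_dt (f397164 IH) (Lpn (LP (LK LD1_c27 LD2_c29 LD3_c53))))))
theorem f397210 : Led Lsl_af (LP (LK LD1_c17 LD2_c37 LD3_c58)) = (LP (LK LD1_c25 LD2_c32 LD3_c59)) :=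
  Lgr Lrot45 (Lpr_ft (f394446 IH) (Lpr_at (f397204 IH) (Lpe (f397179 IH) (Lpn (LP (LK LD1_c25 LD2_c32 LD3_c59))))))
theorem f397169 : Led Lsl_dt (LP (LK LD1_c15 LD2_c37 LD3_c55)) = (LP (LK LD1_c25 LD2_c32 LD3_c59)) :=
  Lre_d IH (LK LD1_c15 LD2_c37 LD3_c55) (LK LD1_c25 LD2_c32 LD3_c59) Lrfl Lrfl
theorem f397216 : Led Lsl_dt (LP (LK LD1_c17 LD2_c37 LD3_c58)) = (LP (LK LD1_c17 LD2_c39 LD3_c1)) :=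
  Lgr Lrot44 (Lpr_af (f397210 IH) (Lpe (f397169 IH) (Lpr_af (f397160 IH) (Lpn (LP (LK LD1_c17 LD2_c39 LD3_c1))))))
theorem f397220 : Led Lsl_df (LP (LK LD1_c17 LD2_c37 LD3_c58)) = (LP (LK LD1_c17 LD2_c39 LD3_c1)) :=
  Lgr Lrot38 (Lpr_dt (f397216 IH) (Lpn (LP (LK LD1_c17 LD2_c39 LD3_c1))))
theorem f232694 : Led Lsl_ct (LP (LK LD1_c15 LD2_c33 LD3_c59)) = (LP (LK LD1_c17 LD2_c39 LD3_c1)) :=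
  Lgr Lrot59 (Lpr_cf (K30.f232691 IH) (Lpn (LP (LK LD1_c17 LD2_c39 LD3_c1))))
theorem f219778 : Led Lsl_ct (LP (LK LD1_c9 LD2_c35 LD3_c25)) = (LP (LK LD1_c4 LD2_c51 LD3_c42)) :=
  Lre_c IH (LK LD1_c9 LD2_c35 LD3_c25) (LK LD1_c4 LD2_c51 LD3_c42) Lrfl Lrfl
theorem f372880 : Led Lsl_ft (LP (LK LD1_c10 LD2_c32 LD3_c32)) = (LP (LK LD1_c9 LD2_c35 LD3_c25)) :=
  Lgr Lrot4 (Lpr_cf (K27.f192423 IH) (Lpr_ff (K27.f372872 IH) (Lpe (f219778 IH) (Lpn (LP (LK LD1_c9 LD2_c35 LD3_c25))))))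
theorem f372889 : Led Lsl_ff (LP (LK LD1_c10 LD2_c32 LD3_c32)) = (LP (LK LD1_c9 LD2_c35 LD3_c25)) :=
  Lgr Lrot3 (Lpr_ft (f372880 IH) (Lpn (LP (LK LD1_c9 LD2_c35 LD3_c25))))
theorem f372893 : Led Lsl_at (LP (LK LD1_c17 LD2_c39 LD3_c37)) = (LP (LK LD1_c9 LD2_c35 LD3_c25)) :=
  Lre_a IH (LK LD1_c17 LD2_c39 LD3_c37) (LK LD1_c9 LD2_c35 LD3_c25) Lrfl Lrfl
theorem f372894 : Led Lsl_ft (LP (LK LD1_c19 LD2_c5 LD3_c39)) = (LP (LK LD1_c17 LD2_c39 LD3_c37)) :=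
  Lgr Lrot101 (Lpe (K27.f192429 IH) (Lpr_ff (f372889 IH) (Lpe (f372893 IH) (Lpn (LP (LK LD1_c17 LD2_c39 LD3_c37))))))
theorem f192437 : Led Lsl_cf (LP (LK LD1_c19 LD2_c5 LD3_c39)) = (LP (LK LD1_c17 LD2_c36 LD3_c44)) :=
  Lgr Lrot11 (Lpr_ct (K27.f192431 IH) (Lpn (LP (LK LD1_c17 LD2_c36 LD3_c44))))
theorem f372899 : Led Lsl_ct (LP (LK LD1_c17 LD2_c39 LD3_c37)) = (LP (LK LD1_c9 LD2_c35 LD3_c34)) :=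
  Lre_c IH (LK LD1_c17 LD2_c39 LD3_c37) (LK LD1_c9 LD2_c35 LD3_c34) Lrfl Lrfl
theorem f372900 : Led Lsl_ff (LP (LK LD1_c17 LD2_c36 LD3_c44)) = (LP (LK LD1_c9 LD2_c35 LD3_c34)) :=
  Lgr Lrot23 (Lpe (f192437 IH) (Lpr_ft (f372894 IH) (Lpr_ct (f372899 IH) (Lpn (LP (LK LD1_c9 LD2_c35 LD3_c34))))))
theorem f372977 : Led Lsl_bt (LP (LK LD1_c16 LD2_c1 LD3_c19)) = (LP (LK LD1_c9 LD2_c35 LD3_c34)) :=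
  Lgr Lrot35 (Lpr_ff (K27.f372972 IH) (Lpe (K27.f372959 IH) (Lpr_ff (f372900 IH) (Lpn (LP (LK LD1_c9 LD2_c35 LD3_c34))))))
theorem f189250 : Led Lsl_bt (LP (LK LD1_c4 LD2_c50 LD3_c54)) = (LP (LK LD1_c9 LD2_c33 LD3_c52)) :=
  Lre_b IH (LK LD1_c4 LD2_c50 LD3_c54) (LK LD1_c9 LD2_c33 LD3_c52) Lrfl Lrfl
theorem f232909 : Led Lsl_bt (LP (LK LD1_c4 LD2_c51 LD3_c42)) = (LP (LK LD1_c2 LD2_c23 LD3_c41)) :=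
  Lre_b IH (LK LD1_c4 LD2_c51 LD3_c42) (LK LD1_c2 LD2_c23 LD3_c41) Lrfl Lrfl
theorem f372459 : Led Lsl_ft (LP (LK LD1_c9 LD2_c33 LD3_c52)) = (LP (LK LD1_c4 LD2_c51 LD3_c42)) :=
  Lgr Lrot75 (Lpe (f189250 IH) (Lpr_ff (K27.f372455 IH) (Lpe (f232909 IH) (Lpn (LP (LK LD1_c4 LD2_c51 LD3_c42))))))
theorem f189251 : Led Lsl_gt (LP (LK LD1_c9 LD2_c33 LD3_c52)) = (LP (LK LD1_c17 LD2_c36 LD3_c42)) :=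
  Lre_g IH (LK LD1_c9 LD2_c33 LD3_c52) (LK LD1_c17 LD2_c36 LD3_c42) Lrfl Lrfl
theorem f372954 : Led Lsl_gt (LP (LK LD1_c17 LD2_c36 LD3_c42)) = (LP (LK LD1_c9 LD2_c35 LD3_c34)) :=
  Lgr Lrot46 (Lpe (f189251 IH) (Lpr_ft (f372459 IH) (Lpr_at (K27.f369483 IH) (Lpn (LP (LK LD1_c9 LD2_c35 LD3_c34))))))
theorem f233409 : Led Lsl_bt (LP (LK LD1_c27 LD2_c24 LD3_c54)) = (LP (LK LD1_c17 LD2_c36 LD3_c42)) :=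
  Lre_b IH (LK LD1_c27 LD2_c24 LD3_c54) (LK LD1_c17 LD2_c36 LD3_c42) Lrfl Lrfl
theorem f365139 : Led Lsl_gf (LP (LK LD1_c8 LD2_c24 LD3_c11)) = (LP (LK LD1_c15 LD2_c24 LD3_c3)) :=
  Lgr Lrot143 (Lpr_dt (K16.f219669 IH) (Lpe (K12.f167091 IH) (Lpe (K14.f246733 IH) (Lpe (K14.f170291 IH) (Lpe (K16.f270917 IH) (Lpr_gf (K16.f279196 IH) (Lpe (K17.f279255 IH) (Lpr_gt (K26.f365133 IH) (Lpr_dt (K26.f365138 IH) (Lpn (LP (LK LD1_c15 LD2_c24 LD3_c3))))))))))))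
theorem f372739 : Led Lsl_ft (LP (LK LD1_c15 LD2_c24 LD3_c3)) = (LP (LK LD1_c8 LD2_c39 LD3_c60)) :=
  Lgr Lrot2 (Lpe (f365139 IH) (Lpe (K16.f270933 IH) (Lpr_af (K31.f372727 IH) (Lpn (LP (LK LD1_c8 LD2_c39 LD3_c60))))))
theorem f372745 : Led Lsl_ff (LP (LK LD1_c15 LD2_c24 LD3_c3)) = (LP (LK LD1_c8 LD2_c39 LD3_c60)) :=
  Lgr Lrot3 (Lpr_ft (f372739 IH) (Lpn (LP (LK LD1_c8 LD2_c39 LD3_c60))))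
theorem f372749 : Led Lsl_ft (LP (LK LD1_c8 LD2_c10 LD3_c47)) = (LP (LK LD1_c4 LD2_c21 LD3_c11)) :=
  Lgr Lrot54 (Lpe (K26.f365146 IH) (Lpr_ff (f372745 IH) (Lpe (K17.f219465 IH) (Lpn (LP (LK LD1_c4 LD2_c21 LD3_c11))))))
theorem f292725 : Led Lsl_bt (LP (LK LD1_c15 LD2_c24 LD3_c2)) = (LP (LK LD1_c8 LD2_c10 LD3_c47)) :=
  Lre_b IH (LK LD1_c15 LD2_c24 LD3_c2) (LK LD1_c8 LD2_c10 LD3_c47) Lrfl Lrfl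
theorem f372798 : Led Lsl_ff (LP (LK LD1_c15 LD2_c24 LD3_c2)) = (LP (LK LD1_c8 LD2_c39 LD3_c59)) :=
  Lgr Lrot25 (Lpr_bt (f292725 IH) (Lpr_ft (f372749 IH) (Lpr_bt (K31.f219521 IH) (Lpn (LP (LK LD1_c8 LD2_c39 LD3_c59))))))
theorem f372803 : Led Lsl_ft (LP (LK LD1_c15 LD2_c24 LD3_c2)) = (LP (LK LD1_c8 LD2_c39 LD3_c59)) :=
  Lgr Lrot48 (Lpr_ff (f372798 IH) (Lpn (LP (LK LD1_c8 LD2_c39 LD3_c59))))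
theorem f219492 : Led Lsl_ct (LP (LK LD1_c8 LD2_c39 LD3_c59)) = (LP (LK LD1_c4 LD2_c51 LD3_c49)) :=
  Lgr Lrot59 (Lpr_cf (K31.f219474 IH) (Lpn (LP (LK LD1_c4 LD2_c51 LD3_c49))))
theorem f372805 : Led Lsl_cf (LP (LK LD1_c15 LD2_c24 LD3_c2)) = (LP (LK LD1_c8 LD2_c40 LD3_c20)) :=
  Lgr Lrot108 (Lpr_ft (f372803 IH) (Lpr_ct (f219492 IH) (Lpe (K30.f372506 IH) (Lpn (LP (LK LD1_c8 LD2_c40 LD3_c20))))))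
theorem f365136 : Led Lsl_gt (LP (LK LD1_c25 LD2_c16 LD3_c36)) = (LP (LK LD1_c15 LD2_c24 LD3_c2)) :=
  Lre_g IH (LK LD1_c25 LD2_c16 LD3_c36) (LK LD1_c15 LD2_c24 LD3_c2) Lrfl Lrfl
theorem f233408 : Led Lsl_bt (LP (LK LD1_c8 LD2_c40 LD3_c20)) = (LP (LK LD1_c4 LD2_c21 LD3_c23)) :=
  Lre_b IH (LK LD1_c8 LD2_c40 LD3_c20) (LK LD1_c4 LD2_c21 LD3_c23) Lrfl Lrfl
theorem f372808 : Led Lsl_cf (LP (LK LD1_c25 LD2_c16 LD3_c36)) = (LP (LK LD1_c27 LD2_c24 LD3_c54)) :=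
  Lgr Lrot160 (Lpr_gt (f365136 IH) (Lpr_cf (f372805 IH) (Lpr_bt (f233408 IH) (Lpr_gt (K13.f233393 IH) (Lpr_ct (K0.f1730 IH) (Lpr_gt (K13.f8103 IH) (Lpe (K13.f2078 IH) (Lpr_bt (f189250 IH) (Lpr_gt (f189251 IH) (Lpe (f233409 IH) (Lpn (LP (LK LD1_c27 LD2_c24 LD3_c54)))))))))))))
theorem f219498 : Led Lsl_at (LP (LK LD1_c16 LD2_c13 LD3_c45)) = (LP (LK LD1_c8 LD2_c39 LD3_c59)) :=
  Lre_a IH (LK LD1_c16 LD2_c13 LD3_c45) (LK LD1_c8 LD2_c39 LD3_c59) Lrfl Lrfl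
theorem f219519 : Led Lsl_cf (LP (LK LD1_c16 LD2_c13 LD3_c45)) = (LP (LK LD1_c9 LD2_c35 LD3_c48)) :=
  Lgr Lrot1 (Lpr_at (f219498 IH) (Lpr_ct (f219492 IH) (Lpr_at (K30.f219518 IH) (Lpn (LP (LK LD1_c9 LD2_c35 LD3_c48))))))
theorem f373007 : Led Lsl_gf (LP (LK LD1_c25 LD2_c16 LD3_c36)) = (LP (LK LD1_c16 LD2_c13 LD3_c45)) :=
  Lgr Lrot129 (Lpr_cf (f372808 IH) (Lpr_bt (f233409 IH) (Lpr_gt (f372954 IH) (Lpe (f372977 IH) (Lpr_ct (K27.f369317 IH) (Lpr_gt (K30.f373003 IH) (Lpe (K30.f171117 IH) (Lpe (K30.f233411 IH) (Lpr_gt (K30.f372539 IH) (Lpe (f219519 IH) (Lpn (LP (LK LD1_c16 LD2_c13 LD3_c45)))))))))))))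
theorem f372891 : Led Lsl_ct (LP (LK LD1_c9 LD2_c35 LD3_c34)) = (LP (LK LD1_c17 LD2_c39 LD3_c37)) :=
  Lre_c IH (LK LD1_c9 LD2_c35 LD3_c34) (LK LD1_c17 LD2_c39 LD3_c37) Lrfl Lrfl
theorem f372885 : Led Lsl_at (LP (LK LD1_c9 LD2_c35 LD3_c25)) = (LP (LK LD1_c17 LD2_c39 LD3_c37)) :=
  Lre_a IH (LK LD1_c9 LD2_c35 LD3_c25) (LK LD1_c17 LD2_c39 LD3_c37) Lrfl Lrfl
theorem f372886 : Led Lsl_ff (LP (LK LD1_c19 LD2_c5 LD3_c39)) = (LP (LK LD1_c17 LD2_c39 LD3_c37)) :=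
  Lgr Lrot30 (Lpr_at (K27.f192434 IH) (Lpr_ft (f372880 IH) (Lpr_at (f372885 IH) (Lpn (LP (LK LD1_c17 LD2_c39 LD3_c37))))))
theorem f192436 : Led Lsl_gt (LP (LK LD1_c19 LD2_c5 LD3_c38)) = (LP (LK LD1_c10 LD2_c32 LD3_c32)) :=
  Lre_g IH (LK LD1_c19 LD2_c5 LD3_c38) (LK LD1_c10 LD2_c32 LD3_c32) Lrfl Lrfl
theorem f372906 : Led Lsl_gf (LP (LK LD1_c19 LD2_c5 LD3_c38)) = (LP (LK LD1_c17 LD2_c39 LD3_c37)) :=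
  Lgr Lrot47 (Lpr_gt (f192436 IH) (Lpe (K27.f192434 IH) (Lpr_ff (f372886 IH) (Lpn (LP (LK LD1_c17 LD2_c39 LD3_c37))))))
theorem f232519 : Led Lsl_gt (LP (LK LD1_c4 LD2_c51 LD3_c52)) = (LP (LK LD1_c9 LD2_c35 LD3_c55)) :=
  Lre_g IH (LK LD1_c4 LD2_c51 LD3_c52) (LK LD1_c9 LD2_c35 LD3_c55) Lrfl Lrfl
theorem f232678 : Led Lsl_bt (LP (LK LD1_c17 LD2_c40 LD3_c16)) = (LP (LK LD1_c9 LD2_c35 LD3_c55)) :=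
  Lre_b IH (LK LD1_c17 LD2_c40 LD3_c16) (LK LD1_c9 LD2_c35 LD3_c55) Lrfl Lrfl
theorem f232679 : Led Lsl_cf (LP (LK LD1_c19 LD2_c5 LD3_c38)) = (LP (LK LD1_c17 LD2_c40 LD3_c16)) :=
  Lgr Lrot160 (Lpr_gt (f192436 IH) (Lpr_cf (K27.f192423 IH) (Lpr_bt (K27.f192386 IH) (Lpe (K13.f232308 IH) (Lpr_ct (K13.f29141 IH) (Lpe (K13.f232392 IH) (Lpr_cf (K13.f232512 IH) (Lpr_bt (K30.f232509 IH) (Lpr_gt (f232519 IH) (Lpe (f232678 IH) (Lpn (LP (LK LD1_c17 LD2_c40 LD3_c16)))))))))))))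
theorem f373009 : Led Lsl_gt (LP (LK LD1_c9 LD2_c35 LD3_c55)) = (LP (LK LD1_c15 LD2_c37 LD3_c41)) :=
  Lgr Lrot164 (Lpe (f232678 IH) (Lpe (f232679 IH) (Lpr_gf (f372906 IH) (Lpe (f372891 IH) (Lpe (f372954 IH) (Lpe (f233409 IH) (Lpe (f372808 IH) (Lpr_gf (f373007 IH) (Lpr_cf (f219519 IH) (Lpe (K30.f372590 IH) (Lpn (LP (LK LD1_c15 LD2_c37 LD3_c41)))))))))))))
theorem f373011 : Led Lsl_dt (LP (LK LD1_c17 LD2_c40 LD3_c17)) = (LP (LK LD1_c9 LD2_c35 LD3_c55)) :=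
  Lre_d IH (LK LD1_c17 LD2_c40 LD3_c17) (LK LD1_c9 LD2_c35 LD3_c55) Lrfl Lrfl
theorem f400369 : Led Lsl_gf (LP (LK LD1_c25 LD2_c28 LD3_c51)) = (LP (LK LD1_c17 LD2_c40 LD3_c17)) :=
  Lgr Lrot147 (Lpr_ct (f400367 IH) (Lpr_gt (f232952 IH) (Lpr_ct (f232928 IH) (Lpr_df (f397220 IH) (Lpe (f232694 IH) (Lpe (K30.f372616 IH) (Lpe (K30.f372580 IH) (Lpe (f373009 IH) (Lpe (f373011 IH) (Lpn (LP (LK LD1_c17 LD2_c40 LD3_c17))))))))))))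
theorem f400450 : Led Lsl_gt (LP (LK LD1_c9 LD2_c36 LD3_c17)) = (LP (LK LD1_c17 LD2_c40 LD3_c17)) :=
  Lgr Lrot5 (Lpr_ft (f400447 IH) (Lpr_at (f349617 IH) (Lpr_gf (f400369 IH) (Lpn (LP (LK LD1_c17 LD2_c40 LD3_c17))))))
theorem f349627 : Led Lsl_at (LP (LK LD1_c25 LD2_c28 LD3_c51)) = (LP (LK LD1_c15 LD2_c34 LD3_c47)) :=
  Lre_a IH (LK LD1_c25 LD2_c28 LD3_c51) (LK LD1_c15 LD2_c34 LD3_c47) Lrfl Lrfl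
theorem f400365 : Led Lsl_at (LP (LK LD1_c25 LD2_c28 LD3_c54)) = (LP (LK LD1_c17 LD2_c37 LD3_c57)) :=
  Lgr Lrot107 (Lpe (f233375 IH) (Lpe (f349627 IH) (Lpr_cf (f400363 IH) (Lpn (LP (LK LD1_c17 LD2_c37 LD3_c57))))))
theorem f349522 : Led Lsl_gt (LP (LK LD1_c27 LD2_c24 LD3_c47)) = (LP (LK LD1_c17 LD2_c37 LD3_c57)) :=
  Lgr Lrot5 (Lpr_ft (f349519 IH) (Lpr_at (f327878 IH) (Lpe (f232952 IH) (Lpn (LP (LK LD1_c17 LD2_c37 LD3_c57))))))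
theorem f400399 : Led Lsl_gt (LP (LK LD1_c17 LD2_c37 LD3_c56)) = (LP (LK LD1_c27 LD2_c24 LD3_c47)) :=
  Lgr Lrot5 (Lpr_ft (f400391 IH) (Lpr_at (f400365 IH) (Lpe (f349522 IH) (Lpn (LP (LK LD1_c27 LD2_c24 LD3_c47))))))
theorem f349491 : Led Lsl_at (LP (LK LD1_c9 LD2_c34 LD3_c29)) = (LP (LK LD1_c4 LD2_c51 LD3_c12)) :=
  Lre_a IH (LK LD1_c9 LD2_c34 LD3_c29) (LK LD1_c4 LD2_c51 LD3_c12) Lrfl Lrfl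
theorem f295086 : Led Lsl_gt (LP (LK LD1_c9 LD2_c34 LD3_c28)) = (LP (LK LD1_c4 LD2_c51 LD3_c12)) :=
  Lre_g IH (LK LD1_c9 LD2_c34 LD3_c28) (LK LD1_c4 LD2_c51 LD3_c12) Lrfl Lrfl
theorem f349502 : Led Lsl_gt (LP (LK LD1_c17 LD2_c36 LD3_c36)) = (LP (LK LD1_c9 LD2_c34 LD3_c28)) :=
  Lgr Lrot5 (Lpr_ft (f349494 IH) (Lpr_at (f349491 IH) (Lpe (f295086 IH) (Lpn (LP (LK LD1_c9 LD2_c34 LD3_c28))))))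
theorem f349504 : Led Lsl_dt (LP (LK LD1_c9 LD2_c34 LD3_c28)) = (LP (LK LD1_c17 LD2_c37 LD3_c52)) :=
  Lre_d IH (LK LD1_c9 LD2_c34 LD3_c28) (LK LD1_c17 LD2_c37 LD3_c52) Lrfl Lrfl
theorem f372572 : Led Lsl_dt (LP (LK LD1_c15 LD2_c37 LD3_c41)) = (LP (LK LD1_c25 LD2_c32 LD3_c42)) :=
  Lre_d IH (LK LD1_c15 LD2_c37 LD3_c41) (LK LD1_c25 LD2_c32 LD3_c42) Lrfl Lrfl
theorem f400456 : Led Lsl_cf (LP (LK LD1_c17 LD2_c37 LD3_c52)) = (LP (LK LD1_c25 LD2_c32 LD3_c42)) :=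
  Lgr Lrot14 (Lpe (f349504 IH) (Lpe (f349502 IH) (Lpe (f167418 IH) (Lpe (f400399 IH) (Lpr_ct (f400387 IH) (Lpr_gt (f400450 IH) (Lpr_dt (f373011 IH) (Lpr_gt (f373009 IH) (Lpr_dt (f372572 IH) (Lpn (LP (LK LD1_c25 LD2_c32 LD3_c42))))))))))))
theorem f349507 : Led Lsl_dt (LP (LK LD1_c17 LD2_c37 LD3_c52)) = (LP (LK LD1_c9 LD2_c34 LD3_c28)) :=
  Lre_d IH (LK LD1_c17 LD2_c37 LD3_c52) (LK LD1_c9 LD2_c34 LD3_c28) Lrfl Lrfl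
theorem f349505 : Led Lsl_ct (LP (LK LD1_c9 LD2_c34 LD3_c28)) = (LP (LK LD1_c17 LD2_c37 LD3_c51)) :=
  Lre_c IH (LK LD1_c9 LD2_c34 LD3_c28) (LK LD1_c17 LD2_c37 LD3_c51) Lrfl Lrfl
theorem f366336 : Led Lsl_dt (LP (LK LD1_c15 LD2_c37 LD3_c59)) = (LP (LK LD1_c8 LD2_c18 LD3_c42)) :=
  Lre_d IH (LK LD1_c15 LD2_c37 LD3_c59) (LK LD1_c8 LD2_c18 LD3_c42) Lrfl Lrfl
theorem f232661 : Led Lsl_dt (LP (LK LD1_c25 LD2_c27 LD3_c39)) = (LP (LK LD1_c15 LD2_c33 LD3_c60)) :=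
  Lre_d IH (LK LD1_c25 LD2_c27 LD3_c39) (LK LD1_c15 LD2_c33 LD3_c60) Lrfl Lrfl
theorem f372604 : Led Lsl_ft (LP (LK LD1_c15 LD2_c37 LD3_c59)) = (LP (LK LD1_c25 LD2_c27 LD3_c39)) :=
  Lgr Lrot54 (Lpe (f366326 IH) (Lpr_ff (K30.f372592 IH) (Lpe (f232661 IH) (Lpn (LP (LK LD1_c25 LD2_c27 LD3_c39))))))
theorem f361920 : Led Lsl_at (LP (LK LD1_c25 LD2_c27 LD3_c39)) = (LP (LK LD1_c15 LD2_c33 LD3_c61)) :=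
  Lre_a IH (LK LD1_c25 LD2_c27 LD3_c39) (LK LD1_c15 LD2_c33 LD3_c61) Lrfl Lrfl
theorem f232615 : Led Lsl_ct (LP (LK LD1_c25 LD2_c27 LD3_c41)) = (LP (LK LD1_c15 LD2_c33 LD3_c61)) :=
  Lre_c IH (LK LD1_c25 LD2_c27 LD3_c41) (LK LD1_c15 LD2_c33 LD3_c61) Lrfl Lrfl
theorem f400490 : Led Lsl_dt (LP (LK LD1_c17 LD2_c37 LD3_c51)) = (LP (LK LD1_c25 LD2_c27 LD3_c41)) :=
  Lgr Lrot120 (Lpe (f349505 IH) (Lpe (f349507 IH) (Lpr_cf (f400456 IH) (Lpe (f372572 IH) (Lpe (K30.f366332 IH) (Lpe (f366336 IH) (Lpr_ft (f372604 IH) (Lpr_at (f361920 IH) (Lpe (f232615 IH) (Lpn (LP (LK LD1_c25 LD2_c27 LD3_c41))))))))))))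
theorem f232654 : Led Lsl_dt (LP (LK LD1_c15 LD2_c33 LD3_c60)) = (LP (LK LD1_c25 LD2_c27 LD3_c39)) :=
  Lre_d IH (LK LD1_c15 LD2_c33 LD3_c60) (LK LD1_c25 LD2_c27 LD3_c39) Lrfl Lrfl
theorem f372613 : Led Lsl_ff (LP (LK LD1_c15 LD2_c37 LD3_c59)) = (LP (LK LD1_c25 LD2_c27 LD3_c39)) :=
  Lgr Lrot19 (Lpr_dt (f366336 IH) (Lpr_ft (K30.f372607 IH) (Lpr_dt (f232654 IH) (Lpn (LP (LK LD1_c25 LD2_c27 LD3_c39))))))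
theorem f366330 : Led Lsl_ct (LP (LK LD1_c15 LD2_c37 LD3_c59)) = (LP (LK LD1_c25 LD2_c33 LD3_c0)) :=
  Lre_c IH (LK LD1_c15 LD2_c37 LD3_c59) (LK LD1_c25 LD2_c33 LD3_c0) Lrfl Lrfl
theorem f232662 : Led Lsl_ct (LP (LK LD1_c31 LD2_c54 LD3_c13)) = (LP (LK LD1_c25 LD2_c27 LD3_c39)) :=
  Lre_c IH (LK LD1_c31 LD2_c54 LD3_c13) (LK LD1_c25 LD2_c27 LD3_c39) Lrfl Lrfl
theorem f372622 : Led Lsl_ft (LP (LK LD1_c25 LD2_c33 LD3_c0)) = (LP (LK LD1_c31 LD2_c54 LD3_c13)) :=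
  Lgr Lrot4 (Lpe (f366330 IH) (Lpr_ff (f372613 IH) (Lpe (f232662 IH) (Lpn (LP (LK LD1_c31 LD2_c54 LD3_c13))))))
theorem f372627 : Led Lsl_at (LP (LK LD1_c15 LD2_c38 LD3_c1)) = (LP (LK LD1_c25 LD2_c33 LD3_c0)) :=
  Lre_a IH (LK LD1_c15 LD2_c38 LD3_c1) (LK LD1_c25 LD2_c33 LD3_c0) Lrfl Lrfl
theorem f232687 : Led Lsl_at (LP (LK LD1_c31 LD2_c54 LD3_c13)) = (LP (LK LD1_c25 LD2_c27 LD3_c41)) :=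
  Lre_a IH (LK LD1_c31 LD2_c54 LD3_c13) (LK LD1_c25 LD2_c27 LD3_c41) Lrfl Lrfl
theorem f372628 : Led Lsl_ff (LP (LK LD1_c15 LD2_c38 LD3_c1)) = (LP (LK LD1_c25 LD2_c27 LD3_c41)) :=
  Lgr Lrot30 (Lpr_at (f372627 IH) (Lpr_ft (f372622 IH) (Lpr_at (f232687 IH) (Lpn (LP (LK LD1_c25 LD2_c27 LD3_c41))))))
theorem f399107 : Led Lsl_ft (LP (LK LD1_c25 LD2_c55 LD3_c53)) = (LP (LK LD1_c25 LD2_c5 LD3_c38)) :=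
  Lgr Lrot101 (Lpr_af (K31.f399098 IH) (Lpe (K22.f339337 IH) (Lpe (K23.f339341 IH) (Lpn (LP (LK LD1_c25 LD2_c5 LD3_c38))))))
theorem f399162 : Led Lsl_gt (LP (LK LD1_c25 LD2_c55 LD3_c53)) = (LP (LK LD1_c25 LD2_c4 LD3_c57)) :=
  Lgr Lrot5 (Lpr_ft (f399107 IH) (Lpr_at (K23.f339341 IH) (Lpr_gf (f399136 IH) (Lpn (LP (LK LD1_c25 LD2_c4 LD3_c57))))))
theorem f243196 : Led Lsl_dt (LP (LK LD1_c8 LD2_c30 LD3_c29)) = (LP (LK LD1_c4 LD2_c15 LD3_c43)) :=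
  Lre_d IH (LK LD1_c8 LD2_c30 LD3_c29) (LK LD1_c4 LD2_c15 LD3_c43) Lrfl Lrfl
theorem f8013 : Led Lsl_gt (LP (LK LD1_c4 LD2_c15 LD3_c43)) = (LP (LK LD1_c8 LD2_c30 LD3_c26)) :=
  Lre_g IH (LK LD1_c4 LD2_c15 LD3_c43) (LK LD1_c8 LD2_c30 LD3_c26) Lrfl Lrfl
theorem f8014 : Led Lsl_dt (LP (LK LD1_c8 LD2_c30 LD3_c26)) = (LP (LK LD1_c15 LD2_c58 LD3_c32)) :=
  Lre_d IH (LK LD1_c8 LD2_c30 LD3_c26) (LK LD1_c15 LD2_c58 LD3_c32) Lrfl Lrfl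
theorem f373688 : Led Lsl_dt (LP (LK LD1_c8 LD2_c6 LD3_c17)) = (LP (LK LD1_c15 LD2_c15 LD3_c35)) :=
  Lre_d IH (LK LD1_c8 LD2_c6 LD3_c17) (LK LD1_c15 LD2_c15 LD3_c35) Lrfl Lrfl
theorem f399170 : Led Lsl_cf (LP (LK LD1_c15 LD2_c58 LD3_c32)) = (LP (LK LD1_c15 LD2_c15 LD3_c35)) :=
  Lgr Lrot14 (Lpe (f8014 IH) (Lpe (f8013 IH) (Lpe (f243196 IH) (Lpe (K31.f243201 IH) (Lpr_ct (K31.f373985 IH) (Lpr_gt (f399162 IH) (Lpr_dt (f373717 IH) (Lpr_gt (f235092 IH) (Lpr_dt (f373688 IH) (Lpn (LP (LK LD1_c15 LD2_c15 LD3_c35))))))))))))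
theorem f373997 : Led Lsl_et (LP (LK LD1_c15 LD2_c58 LD3_c32)) = (LP (LK LD1_c25 LD2_c55 LD3_c41)) :=
  Lre_e IH (LK LD1_c15 LD2_c58 LD3_c32) (LK LD1_c25 LD2_c55 LD3_c41) Lrfl Lrfl
theorem f373689 : Led Lsl_et (LP (LK LD1_c25 LD2_c4 LD3_c59)) = (LP (LK LD1_c15 LD2_c15 LD3_c35)) :=
  Lre_e IH (LK LD1_c25 LD2_c4 LD3_c59) (LK LD1_c15 LD2_c15 LD3_c35) Lrfl Lrfl
theorem f399176 : Led Lsl_ct (LP (LK LD1_c25 LD2_c55 LD3_c41)) = (LP (LK LD1_c25 LD2_c4 LD3_c59)) :=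
  Lgr Lrot15 (Lpe (f373997 IH) (Lpr_cf (f399170 IH) (Lpe (f373689 IH) (Lpn (LP (LK LD1_c25 LD2_c4 LD3_c59))))))
theorem f399198 : Led Lsl_cf (LP (LK LD1_c25 LD2_c55 LD3_c41)) = (LP (LK LD1_c25 LD2_c4 LD3_c59)) :=
  Lgr Lrot11 (Lpr_ct (f399176 IH) (Lpn (LP (LK LD1_c25 LD2_c4 LD3_c59))))
theorem f234386 : Led Lsl_bt (LP (LK LD1_c15 LD2_c15 LD3_c36)) = (LP (LK LD1_c25 LD2_c4 LD3_c59)) :=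
  Lre_b IH (LK LD1_c15 LD2_c15 LD3_c36) (LK LD1_c25 LD2_c4 LD3_c59) Lrfl Lrfl
theorem f216899 : Led Lsl_et (LP (LK LD1_c8 LD2_c6 LD3_c18)) = (LP (LK LD1_c15 LD2_c15 LD3_c36)) :=
  Lre_e IH (LK LD1_c8 LD2_c6 LD3_c18) (LK LD1_c15 LD2_c15 LD3_c36) Lrfl Lrfl
theorem f234362 : Led Lsl_et (LP (LK LD1_c8 LD2_c18 LD3_c47)) = (LP (LK LD1_c4 LD2_c9 LD3_c21)) :=
  Lre_e IH (LK LD1_c8 LD2_c18 LD3_c47) (LK LD1_c4 LD2_c9 LD3_c21) Lrfl Lrfl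
theorem f234363 : Led Lsl_ct (LP (LK LD1_c15 LD2_c15 LD3_c36)) = (LP (LK LD1_c8 LD2_c18 LD3_c47)) :=
  Lgr Lrot15 (Lpe (f216899 IH) (Lpr_cf (K14.f234340 IH) (Lpe (f234362 IH) (Lpn (LP (LK LD1_c8 LD2_c18 LD3_c47))))))
theorem f234370 : Led Lsl_cf (LP (LK LD1_c15 LD2_c15 LD3_c36)) = (LP (LK LD1_c8 LD2_c18 LD3_c47)) :=
  Lgr Lrot11 (Lpr_ct (f234363 IH) (Lpn (LP (LK LD1_c8 LD2_c18 LD3_c47))))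
theorem f234399 : Led Lsl_bt (LP (LK LD1_c15 LD2_c38 LD3_c2)) = (LP (LK LD1_c8 LD2_c18 LD3_c47)) :=
  Lre_b IH (LK LD1_c15 LD2_c38 LD3_c2) (LK LD1_c8 LD2_c18 LD3_c47) Lrfl Lrfl
theorem f234400 : Led Lsl_ct (LP (LK LD1_c25 LD2_c33 LD3_c9)) = (LP (LK LD1_c15 LD2_c38 LD3_c2)) :=
  Lre_c IH (LK LD1_c25 LD2_c33 LD3_c9) (LK LD1_c15 LD2_c38 LD3_c2) Lrfl Lrfl
theorem f399200 : Led Lsl_bt (LP (LK LD1_c25 LD2_c55 LD3_c41)) = (LP (LK LD1_c25 LD2_c33 LD3_c9)) :=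
  Lgr Lrot128 (Lpr_cf (f399198 IH) (Lpe (f234386 IH) (Lpr_cf (f234370 IH) (Lpe (f234399 IH) (Lpe (f234400 IH) (Lpn (LP (LK LD1_c25 LD2_c33 LD3_c9))))))))
theorem f372637 : Led Lsl_et (LP (LK LD1_c25 LD2_c33 LD3_c9)) = (LP (LK LD1_c15 LD2_c38 LD3_c1)) :=
  Lre_e IH (LK LD1_c25 LD2_c33 LD3_c9) (LK LD1_c15 LD2_c38 LD3_c1) Lrfl Lrfl
theorem f399203 : Led Lsl_bf (LP (LK LD1_c15 LD2_c58 LD3_c32)) = (LP (LK LD1_c15 LD2_c38 LD3_c1)) :=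
  Lgr Lrot96 (Lpr_et (f373997 IH) (Lpr_bt (f399200 IH) (Lpr_et (f372637 IH) (Lpn (LP (LK LD1_c15 LD2_c38 LD3_c1))))))
theorem f373995 : Led Lsl_dt (LP (LK LD1_c15 LD2_c58 LD3_c32)) = (LP (LK LD1_c8 LD2_c30 LD3_c26)) :=
  Lre_d IH (LK LD1_c15 LD2_c58 LD3_c32) (LK LD1_c8 LD2_c30 LD3_c26) Lrfl Lrfl
theorem f243508 : Led Lsl_bt (LP (LK LD1_c8 LD2_c30 LD3_c26)) = (LP (LK LD1_c15 LD2_c58 LD3_c30)) :=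
  Lre_b IH (LK LD1_c8 LD2_c30 LD3_c26) (LK LD1_c15 LD2_c58 LD3_c30) Lrfl Lrfl
theorem f399205 : Led Lsl_dt (LP (LK LD1_c15 LD2_c58 LD3_c30)) = (LP (LK LD1_c15 LD2_c38 LD3_c1)) :=
  Lgr Lrot79 (Lpe (f243508 IH) (Lpe (f373995 IH) (Lpr_bf (f399203 IH) (Lpn (LP (LK LD1_c15 LD2_c38 LD3_c1))))))
theorem f399207 : Led Lsl_df (LP (LK LD1_c15 LD2_c58 LD3_c30)) = (LP (LK LD1_c15 LD2_c38 LD3_c1)) :=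
  Lgr Lrot38 (Lpr_dt (f399205 IH) (Lpn (LP (LK LD1_c15 LD2_c38 LD3_c1))))
theorem f400495 : Led Lsl_ff (LP (LK LD1_c17 LD2_c37 LD3_c51)) = (LP (LK LD1_c15 LD2_c58 LD3_c30)) :=
  Lgr Lrot19 (Lpr_dt (f400490 IH) (Lpe (f372628 IH) (Lpe (f399207 IH) (Lpn (LP (LK LD1_c15 LD2_c58 LD3_c30))))))
theorem f400781 : Led Lsl_ft (LP (LK LD1_c17 LD2_c37 LD3_c51)) = (LP (LK LD1_c15 LD2_c58 LD3_c30)) :=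
  Lgr Lrot48 (Lpr_ff (f400495 IH) (Lpn (LP (LK LD1_c15 LD2_c58 LD3_c30))))
theorem f232614 : Led Lsl_dt (LP (LK LD1_c15 LD2_c33 LD3_c61)) = (LP (LK LD1_c8 LD2_c16 LD3_c43)) :=
  Lre_d IH (LK LD1_c15 LD2_c33 LD3_c61) (LK LD1_c8 LD2_c16 LD3_c43) Lrfl Lrfl
theorem f232616 : Led Lsl_dt (LP (LK LD1_c4 LD2_c51 LD3_c52)) = (LP (LK LD1_c9 LD2_c35 LD3_c58)) :=
  Lre_d IH (LK LD1_c4 LD2_c51 LD3_c52) (LK LD1_c9 LD2_c35 LD3_c58) Lrfl Lrfl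
theorem f234665 : Led Lsl_bt (LP (LK LD1_c15 LD2_c33 LD3_c61)) = (LP (LK LD1_c8 LD2_c16 LD3_c44)) :=
  Lre_b IH (LK LD1_c15 LD2_c33 LD3_c61) (LK LD1_c8 LD2_c16 LD3_c44) Lrfl Lrfl
theorem f254814 : Led Lsl_gt (LP (LK LD1_c8 LD2_c16 LD3_c44)) = (LP (LK LD1_c8 LD2_c17 LD3_c27)) :=
  Lgr Lrot49 (Lpe (K15.f47541 IH) (Lpe (K13.f223028 IH) (Lpe (K13.f212871 IH) (Lpe (K12.f219928 IH) (Lpr_dt (K12.f33199 IH) (Lpr_gt (K14.f254795 IH) (Lpe (K14.f246701 IH) (Lpe (K14.f220092 IH) (Lpe (K14.f220099 IH) (Lpn (LP (LK LD1_c8 LD2_c17 LD3_c27))))))))))))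
theorem f53465 : Led Lsl_bt (LP (LK LD1_c0 LD2_c26 LD3_c25)) = (LP (LK LD1_c0 LD2_c11 LD3_c44)) :=
  Lre_b IH (LK LD1_c0 LD2_c26 LD3_c25) (LK LD1_c0 LD2_c11 LD3_c44) Lrfl Lrfl
theorem f1114 : Led Lsl_dt (LP (LK LD1_c2 LD2_c3 LD3_c5)) = (LP (LK LD1_c4 LD2_c11 LD3_c50)) :=
  Lre_d IH (LK LD1_c2 LD2_c3 LD3_c5) (LK LD1_c4 LD2_c11 LD3_c50) Lrfl Lrfl
theorem f228926 : Led Lsl_ct (LP (LK LD1_c4 LD2_c11 LD3_c50)) = (LP (LK LD1_c8 LD2_c23 LD3_c22)) :=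
  Lre_c IH (LK LD1_c4 LD2_c11 LD3_c50) (LK LD1_c8 LD2_c23 LD3_c22) Lrfl Lrfl
theorem f228927 : Led Lsl_bt (LP (LK LD1_c8 LD2_c23 LD3_c22)) = (LP (LK LD1_c15 LD2_c46 LD3_c48)) :=
  Lre_b IH (LK LD1_c8 LD2_c23 LD3_c22) (LK LD1_c15 LD2_c46 LD3_c48) Lrfl Lrfl
theorem f400497 : Led Lsl_gf (LP (LK LD1_c17 LD2_c37 LD3_c51)) = (LP (LK LD1_c15 LD2_c46 LD3_c48)) :=
  Lgr Lrot85 (Lpr_dt (f400490 IH) (Lpr_ct (f232615 IH) (Lpr_bt (f234665 IH) (Lpr_gt (f254814 IH) (Lpr_dt (K14.f220099 IH) (Lpr_ct (K14.f220092 IH) (Lpr_bt (K14.f178352 IH) (Lpr_gt (K14.f178351 IH) (Lpr_dt (K15.f184317 IH) (Lpr_ct (K12.f228891 IH) (Lpr_bt (f53465 IH) (Lpr_gt (K9.f524 IH) (Lpr_dt (K0.f483 IH) (Lpr_ct (K9.f1119 IH) (Lpr_bt (K30.f1206 IH) (Lpr_gt (K30.f1113 IH) (Lpr_dt (f1114 IH) (Lpr_ct (f228926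 IH) (Lpr_bt (f228927 IH) (Lpn (LP (LK LD1_c15 LD2_c46 LD3_c48))))))))))))))))))))))
theorem f295087 : Led Lsl_ct (LP (LK LD1_c17 LD2_c37 LD3_c51)) = (LP (LK LD1_c9 LD2_c34 LD3_c28)) :=
  Lre_c IH (LK LD1_c17 LD2_c37 LD3_c51) (LK LD1_c9 LD2_c34 LD3_c28) Lrfl Lrfl
theorem f234006 : Led Lsl_ct (LP (LK LD1_c9 LD2_c34 LD3_c5)) = (LP (LK LD1_c4 LD2_c51 LD3_c12)) :=
  Lre_c IH (LK LD1_c9 LD2_c34 LD3_c5) (LK LD1_c4 LD2_c51 LD3_c12) Lrfl Lrfl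
theorem f219105 : Led Lsl_bt (LP (LK LD1_c5 LD2_c30 LD3_c19)) = (LP (LK LD1_c2 LD2_c41 LD3_c26)) :=
  Lre_b IH (LK LD1_c5 LD2_c30 LD3_c19) (LK LD1_c2 LD2_c41 LD3_c26) Lrfl Lrfl
theorem f178833 : Led Lsl_ct (LP (LK LD1_c5 LD2_c30 LD3_c19)) = (LP (LK LD1_c2 LD2_c41 LD3_c45)) :=
  Lre_c IH (LK LD1_c5 LD2_c30 LD3_c19) (LK LD1_c2 LD2_c41 LD3_c45) Lrfl Lrfl
theorem f400505 : Led Lsl_ct (LP (LK LD1_c8 LD2_c23 LD3_c22)) = (LP (LK LD1_c4 LD2_c11 LD3_c50)) :=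
  Lre_c IH (LK LD1_c8 LD2_c23 LD3_c22) (LK LD1_c4 LD2_c11 LD3_c50) Lrfl Lrfl
theorem f400506 : Led Lsl_gt (LP (LK LD1_c2 LD2_c41 LD3_c45)) = (LP (LK LD1_c4 LD2_c11 LD3_c50)) :=
  Lgr Lrot65 (Lpe (f178833 IH) (Lpr_bt (f219105 IH) (Lpe (K18.f295077 IH) (Lpe (K26.f295085 IH) (Lpr_ct (f234006 IH) (Lpe (f295086 IH) (Lpe (f295087 IH) (Lpr_gf (f400497 IH) (Lpe (f228927 IH) (Lpr_ct (f400505 IH) (Lpn (LP (LK LD1_c4 LD2_c11 LD3_c50)))))))))))))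
theorem f178513 : Led Lsl_bt (LP (LK LD1_c1 LD2_c17 LD3_c32)) = (LP (LK LD1_c2 LD2_c41 LD3_c45)) :=
  Lre_b IH (LK LD1_c1 LD2_c17 LD3_c32) (LK LD1_c2 LD2_c41 LD3_c45) Lrfl Lrfl
theorem f170981 : Led Lsl_bt (LP (LK LD1_c4 LD2_c10 LD3_c25)) = (LP (LK LD1_c2 LD2_c2 LD3_c27)) :=
  Lre_b IH (LK LD1_c4 LD2_c10 LD3_c25) (LK LD1_c2 LD2_c2 LD3_c27) Lrfl Lrfl
theorem f178511 : Led Lsl_ct (LP (LK LD1_c4 LD2_c10 LD3_c25)) = (LP (LK LD1_c8 LD2_c21 LD3_c5)) :=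
  Lre_c IH (LK LD1_c4 LD2_c10 LD3_c25) (LK LD1_c8 LD2_c21 LD3_c5) Lrfl Lrfl
theorem f178512 : Led Lsl_gt (LP (LK LD1_c15 LD2_c43 LD3_c9)) = (LP (LK LD1_c8 LD2_c21 LD3_c5)) :=
  Lre_g IH (LK LD1_c15 LD2_c43 LD3_c9) (LK LD1_c8 LD2_c21 LD3_c5) Lrfl Lrfl
theorem f400521 : Led Lsl_bt (LP (LK LD1_c8 LD2_c23 LD3_c14)) = (LP (LK LD1_c4 LD2_c11 LD3_c50)) :=
  Lre_b IH (LK LD1_c8 LD2_c23 LD3_c14) (LK LD1_c4 LD2_c11 LD3_c50) Lrfl Lrfl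
theorem f400522 : Led Lsl_cf (LP (LK LD1_c15 LD2_c43 LD3_c9)) = (LP (LK LD1_c8 LD2_c23 LD3_c14)) :=
  Lgr Lrot160 (Lpr_gt (f178512 IH) (Lpe (f178511 IH) (Lpr_bt (f170981 IH) (Lpr_gt (K15.f170849 IH) (Lpr_ct (K9.f170610 IH) (Lpr_gt (K9.f178496 IH) (Lpe (K15.f168326 IH) (Lpr_bt (f178513 IH) (Lpr_gt (f400506 IH) (Lpe (f400521 IH) (Lpn (LP (LK LD1_c8 LD2_c23 LD3_c14)))))))))))))
theorem f400527 : Led Lsl_bt (LP (LK LD1_c15 LD2_c43 LD3_c9)) = (LP (LK LD1_c25 LD2_c39 LD3_c22)) :=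
  Lre_b IH (LK LD1_c15 LD2_c43 LD3_c9) (LK LD1_c25 LD2_c39 LD3_c22) Lrfl Lrfl
theorem f400528 : Led Lsl_bt (LP (LK LD1_c4 LD2_c11 LD3_c50)) = (LP (LK LD1_c8 LD2_c23 LD3_c14)) :=
  Lre_b IH (LK LD1_c4 LD2_c11 LD3_c50) (LK LD1_c8 LD2_c23 LD3_c14) Lrfl Lrfl
theorem f400529 : Led Lsl_bt (LP (LK LD1_c15 LD2_c46 LD3_c48)) = (LP (LK LD1_c8 LD2_c23 LD3_c22)) :=
  Lre_b IH (LK LD1_c15 LD2_c46 LD3_c48) (LK LD1_c8 LD2_c23 LD3_c22) Lrfl Lrfl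
theorem f400530 : Led Lsl_ct (LP (LK LD1_c25 LD2_c39 LD3_c22)) = (LP (LK LD1_c15 LD2_c46 LD3_c48)) :=
  Lgr Lrot83 (Lpe (f400527 IH) (Lpr_cf (f400522 IH) (Lpe (f400528 IH) (Lpe (f400505 IH) (Lpe (f400529 IH) (Lpn (LP (LK LD1_c15 LD2_c46 LD3_c48))))))))
theorem f357115 : Led Lsl_bt (LP (LK LD1_c25 LD2_c39 LD3_c22)) = (LP (LK LD1_c15 LD2_c43 LD3_c9)) :=
  Lre_b IH (LK LD1_c25 LD2_c39 LD3_c22) (LK LD1_c15 LD2_c43 LD3_c9) Lrfl Lrfl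
theorem f357027 : Led Lsl_ff (LP (LK LD1_c4 LD2_c12 LD3_c35)) = (LP (LK LD1_c4 LD2_c18 LD3_c60)) :=
  Lgr Lrot52 (Lpr_at (K25.f357013 IH) (Lpr_gf (K14.f246781 IH) (Lpe (K15.f255675 IH) (Lpn (LP (LK LD1_c4 LD2_c18 LD3_c60))))))
theorem f357035 : Led Lsl_ft (LP (LK LD1_c4 LD2_c12 LD3_c35)) = (LP (LK LD1_c4 LD2_c18 LD3_c60)) :=
  Lgr Lrot48 (Lpr_ff (f357027 IH) (Lpn (LP (LK LD1_c4 LD2_c18 LD3_c60))))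
theorem f357019 : Led Lsl_af (LP (LK LD1_c4 LD2_c12 LD3_c35)) = (LP (LK LD1_c4 LD2_c51 LD3_c8)) :=
  Lgr Lrot0 (Lpr_at (K25.f357013 IH) (Lpn (LP (LK LD1_c4 LD2_c51 LD3_c8))))
theorem f349682 : Led Lsl_et (LP (LK LD1_c16 LD2_c15 LD3_c55)) = (LP (LK LD1_c8 LD2_c41 LD3_c1)) :=
  Lre_e IH (LK LD1_c16 LD2_c15 LD3_c55) (LK LD1_c8 LD2_c41 LD3_c1) Lrfl Lrfl
theorem f349669 : Led Lsl_ft (LP (LK LD1_c8 LD2_c41 LD3_c1)) = (LP (LK LD1_c8 LD2_c43 LD3_c21)) :=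
  Lgr Lrot4 (Lpr_cf (K23.f348964 IH) (Lpe (K20.f315441 IH) (Lpe (K20.f200481 IH) (Lpn (LP (LK LD1_c8 LD2_c43 LD3_c21))))))
theorem f315389 : Led Lsl_ef (LP (LK LD1_c16 LD2_c20 LD3_c13)) = (LP (LK LD1_c15 LD2_c34 LD3_c43)) :=
  Lgr Lrot88 (Lpr_et (K20.f315366 IH) (Lpn (LP (LK LD1_c15 LD2_c34 LD3_c43))))
theorem f315393 : Led Lsl_et (LP (LK LD1_c8 LD2_c43 LD3_c21)) = (LP (LK LD1_c8 LD2_c17 LD3_c1)) :=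
  Lgr Lrot74 (Lpe (K20.f238143 IH) (Lpr_ef (f315389 IH) (Lpe (K20.f315334 IH) (Lpn (LP (LK LD1_c8 LD2_c17 LD3_c1))))))
theorem f356951 : Led Lsl_ft (LP (LK LD1_c8 LD2_c17 LD3_c1)) = (LP (LK LD1_c4 LD2_c51 LD3_c8)) :=
  Lgr Lrot86 (Lpe (f315393 IH) (Lpe (f349669 IH) (Lpe (f349682 IH) (Lpr_ff (K25.f356947 IH) (Lpe (K25.f233960 IH) (Lpn (LP (LK LD1_c4 LD2_c51 LD3_c8))))))))
theorem f357037 : Led Lsl_af (LP (LK LD1_c8 LD2_c17 LD3_c1)) = (LP (LK LD1_c4 LD2_c18 LD3_c60)) :=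
  Lgr Lrot45 (Lpr_ft (f356951 IH) (Lpe (f357019 IH) (Lpr_ft (f357035 IH) (Lpn (LP (LK LD1_c4 LD2_c18 LD3_c60))))))
theorem f315384 : Led Lsl_at (LP (LK LD1_c15 LD2_c34 LD3_c43)) = (LP (LK LD1_c25 LD2_c28 LD3_c47)) :=
  Lre_a IH (LK LD1_c15 LD2_c34 LD3_c43) (LK LD1_c25 LD2_c28 LD3_c47) Lrfl Lrfl
theorem f199676 : Led Lsl_bt (LP (LK LD1_c4 LD2_c12 LD3_c35)) = (LP (LK LD1_c8 LD2_c24 LD3_c46)) :=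
  Lre_b IH (LK LD1_c4 LD2_c12 LD3_c35) (LK LD1_c8 LD2_c24 LD3_c46) Lrfl Lrfl
theorem f170982 : Led Lsl_ct (LP (LK LD1_c8 LD2_c21 LD3_c5)) = (LP (LK LD1_c4 LD2_c10 LD3_c25)) :=
  Lre_c IH (LK LD1_c8 LD2_c21 LD3_c5) (LK LD1_c4 LD2_c10 LD3_c25) Lrfl Lrfl
theorem f166485 : Led Lsl_ct (LP (LK LD1_c4 LD2_c12 LD3_c37)) = (LP (LK LD1_c8 LD2_c24 LD3_c46)) :=
  Lre_c IH (LK LD1_c4 LD2_c12 LD3_c37) (LK LD1_c8 LD2_c24 LD3_c46) Lrfl Lrfl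
theorem f337221 : Led Lsl_ff (LP (LK LD1_c8 LD2_c21 LD3_c5)) = (LP (LK LD1_c8 LD2_c24 LD3_c46)) :=
  Lgr Lrot23 (Lpr_ct (f170982 IH) (Lpr_ft (K22.f337216 IH) (Lpr_ct (f166485 IH) (Lpn (LP (LK LD1_c8 LD2_c24 LD3_c46))))))
theorem f357031 : Led Lsl_bt (LP (LK LD1_c8 LD2_c21 LD3_c5)) = (LP (LK LD1_c4 LD2_c18 LD3_c60)) :=
  Lgr Lrot35 (Lpr_ff (f337221 IH) (Lpe (f199676 IH) (Lpr_ff (f357027 IH) (Lpn (LP (LK LD1_c4 LD2_c18 LD3_c60))))))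
theorem f357100 : Led Lsl_at (LP (LK LD1_c15 LD2_c43 LD3_c8)) = (LP (LK LD1_c8 LD2_c21 LD3_c5)) :=
  Lre_a IH (LK LD1_c15 LD2_c43 LD3_c8) (LK LD1_c8 LD2_c21 LD3_c5) Lrfl Lrfl
theorem f357101 : Led Lsl_bt (LP (LK LD1_c25 LD2_c28 LD3_c47)) = (LP (LK LD1_c15 LD2_c43 LD3_c8)) :=
  Lgr Lrot62 (Lpe (f315384 IH) (Lpe (K20.f315334 IH) (Lpr_af (f357037 IH) (Lpe (f357031 IH) (Lpe (f357100 IH) (Lpn (LP (LK LD1_c15 LD2_c43 LD3_c8))))))))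
theorem f357103 : Led Lsl_bf (LP (LK LD1_c25 LD2_c28 LD3_c47)) = (LP (LK LD1_c15 LD2_c43 LD3_c8)) :=
  Lgr Lrot24 (Lpr_bt (f357101 IH) (Lpn (LP (LK LD1_c15 LD2_c43 LD3_c8))))
theorem f315361 : Led Lsl_at (LP (LK LD1_c25 LD2_c28 LD3_c47)) = (LP (LK LD1_c15 LD2_c34 LD3_c43)) :=
  Lre_a IH (LK LD1_c25 LD2_c28 LD3_c47) (LK LD1_c15 LD2_c34 LD3_c43) Lrfl Lrfl
theorem f354096 : Led Lsl_ft (LP (LK LD1_c8 LD2_c43 LD3_c21)) = (LP (LK LD1_c8 LD2_c41 LD3_c1)) :=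
  Lgr Lrot54 (Lpe (K25.f200482 IH) (Lpr_ff (K25.f354092 IH) (Lpe (K23.f237236 IH) (Lpn (LP (LK LD1_c8 LD2_c41 LD3_c1))))))
theorem f2099 : Led Lsl_et (LP (LK LD1_c9 LD2_c34 LD3_c17)) = (LP (LK LD1_c4 LD2_c51 LD3_c8)) :=
  Lre_e IH (LK LD1_c9 LD2_c34 LD3_c17) (LK LD1_c4 LD2_c51 LD3_c8) Lrfl Lrfl
theorem f356945 : Led Lsl_ff (LP (LK LD1_c8 LD2_c17 LD3_c1)) = (LP (LK LD1_c4 LD2_c51 LD3_c8)) :=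
  Lgr Lrot72 (Lpe (K20.f315387 IH) (Lpr_ft (f354096 IH) (Lpr_et (K25.f349666 IH) (Lpr_ft (K25.f356941 IH) (Lpr_et (f2099 IH) (Lpn (LP (LK LD1_c4 LD2_c51 LD3_c8))))))))
theorem f357029 : Led Lsl_at (LP (LK LD1_c8 LD2_c17 LD3_c1)) = (LP (LK LD1_c4 LD2_c18 LD3_c60)) :=
  Lgr Lrot66 (Lpr_ff (f356945 IH) (Lpe (K25.f357013 IH) (Lpr_ff (f357027 IH) (Lpn (LP (LK LD1_c4 LD2_c18 LD3_c60))))))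
theorem f357106 : Led Lsl_at (LP (LK LD1_c8 LD2_c21 LD3_c5)) = (LP (LK LD1_c15 LD2_c43 LD3_c8)) :=
  Lre_a IH (LK LD1_c8 LD2_c21 LD3_c5) (LK LD1_c15 LD2_c43 LD3_c8) Lrfl Lrfl
theorem f357107 : Led Lsl_bt (LP (LK LD1_c4 LD2_c18 LD3_c60)) = (LP (LK LD1_c8 LD2_c21 LD3_c5)) :=
  Lgr Lrot62 (Lpe (f357029 IH) (Lpe (K20.f235598 IH) (Lpe (f315361 IH) (Lpr_bf (f357103 IH) (Lpe (f357106 IH) (Lpn (LP (LK LD1_c8 LD2_c21 LD3_c5))))))))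
theorem f274 : Led Lsl_gt (LP (LK LD1_c4 LD2_c51 LD3_c12)) = (LP (LK LD1_c9 LD2_c34 LD3_c27)) :=
  Lre_g IH (LK LD1_c4 LD2_c51 LD3_c12) (LK LD1_c9 LD2_c34 LD3_c27) Lrfl Lrfl
theorem f299311 : Led Lsl_ct (LP (LK LD1_c9 LD2_c34 LD3_c27)) = (LP (LK LD1_c17 LD2_c37 LD3_c47)) :=
  Lre_c IH (LK LD1_c9 LD2_c34 LD3_c27) (LK LD1_c17 LD2_c37 LD3_c47) Lrfl Lrfl
theorem f400540 : Led Lsl_gt (LP (LK LD1_c17 LD2_c37 LD3_c47)) = (LP (LK LD1_c15 LD2_c46 LD3_c48)) :=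
  Lgr Lrot149 (Lpe (f299311 IH) (Lpe (f274 IH) (Lpe (K26.f273 IH) (Lpr_ct (K13.f186925 IH) (Lpe (K18.f299283 IH) (Lpe (K13.f200382 IH) (Lpr_bt (f357107 IH) (Lpe (f178512 IH) (Lpe (f357115 IH) (Lpr_ct (f400530 IH) (Lpn (LP (LK LD1_c15 LD2_c46 LD3_c48)))))))))))))
theorem f400545 : Led Lsl_gt (LP (LK LD1_c27 LD2_c25 LD3_c54)) = (LP (LK LD1_c17 LD2_c37 LD3_c47)) :=
  Lre_g IH (LK LD1_c27 LD2_c25 LD3_c54) (LK LD1_c17 LD2_c37 LD3_c47) Lrfl Lrfl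
theorem f400537 : Led Lsl_at (LP (LK LD1_c25 LD2_c43 LD3_c29)) = (LP (LK LD1_c15 LD2_c46 LD3_c48)) :=
  Lre_a IH (LK LD1_c25 LD2_c43 LD3_c29) (LK LD1_c15 LD2_c46 LD3_c48) Lrfl Lrfl
theorem f400546 : Led Lsl_ft (LP (LK LD1_c27 LD2_c25 LD3_c54)) = (LP (LK LD1_c25 LD2_c43 LD3_c29)) :=
  Lgr Lrot2 (Lpr_gt (f400545 IH) (Lpr_gt (f400540 IH) (Lpe (f400537 IH) (Lpn (LP (LK LD1_c25 LD2_c43 LD3_c29))))))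
theorem f400500 : Led Lsl_ft (LP (LK LD1_c15 LD2_c46 LD3_c48)) = (LP (LK LD1_c25 LD2_c43 LD3_c31)) :=
  Lre_f IH (LK LD1_c15 LD2_c46 LD3_c48) (LK LD1_c25 LD2_c43 LD3_c31) Lrfl Lrfl
theorem f400571 : Led Lsl_af (LP (LK LD1_c27 LD2_c25 LD3_c54)) = (LP (LK LD1_c25 LD2_c43 LD3_c31)) :=
  Lgr Lrot45 (Lpr_ft (f400546 IH) (Lpr_at (f400537 IH) (Lpr_ft (f400500 IH) (Lpn (LP (LK LD1_c25 LD2_c43 LD3_c31))))))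
theorem f400582 : Led Lsl_gf (LP (LK LD1_c27 LD2_c25 LD3_c54)) = (LP (LK LD1_c17 LD2_c37 LD3_c51)) :=
  Lgr Lrot76 (Lpr_af (f400571 IH) (Lpe (f400500 IH) (Lpe (f400497 IH) (Lpn (LP (LK LD1_c17 LD2_c37 LD3_c51))))))
theorem f400785 : Led Lsl_af (LP (LK LD1_c17 LD2_c37 LD3_c47)) = (LP (LK LD1_c15 LD2_c58 LD3_c30)) :=
  Lgr Lrot31 (Lpe (f400545 IH) (Lpr_gf (f400582 IH) (Lpr_ft (f400781 IH) (Lpn (LP (LK LD1_c15 LD2_c58 LD3_c30))))))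
theorem f400566 : Led Lsl_dt (LP (LK LD1_c17 LD2_c37 LD3_c48)) = (LP (LK LD1_c9 LD2_c34 LD3_c27)) :=
  Lre_d IH (LK LD1_c17 LD2_c37 LD3_c48) (LK LD1_c9 LD2_c34 LD3_c27) Lrfl Lrfl
theorem f400787 : Led Lsl_ct (LP (LK LD1_c9 LD2_c35 LD3_c58)) = (LP (LK LD1_c17 LD2_c37 LD3_c48)) :=
  Lgr Lrot53 (Lpe (f232616 IH) (Lpe (K30.f232604 IH) (Lpe (f232614 IH) (Lpe (f232615 IH) (Lpe (f400490 IH) (Lpr_ft (f400781 IH) (Lpe (f400785 IH) (Lpe (f299311 IH) (Lpe (f400566 IH) (Lpn (LP (LK LD1_c17 LD2_c37 LD3_c48))))))))))))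
theorem f400791 : Led Lsl_cf (LP (LK LD1_c9 LD2_c35 LD3_c58)) = (LP (LK LD1_c17 LD2_c37 LD3_c48)) :=
  Lgr Lrot11 (Lpr_ct (f400787 IH) (Lpn (LP (LK LD1_c17 LD2_c37 LD3_c48))))
theorem f372910 : Led Lsl_bt (LP (LK LD1_c4 LD2_c51 LD3_c34)) = (LP (LK LD1_c9 LD2_c35 LD3_c11)) :=
  Lre_b IH (LK LD1_c4 LD2_c51 LD3_c34) (LK LD1_c9 LD2_c35 LD3_c11) Lrfl Lrfl
theorem f171140 : Led Lsl_ct (LP (LK LD1_c9 LD2_c35 LD3_c11)) = (LP (LK LD1_c17 LD2_c39 LD3_c10)) :=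
  Lre_c IH (LK LD1_c9 LD2_c35 LD3_c11) (LK LD1_c17 LD2_c39 LD3_c10) Lrfl Lrfl
theorem f400840 : Led Lsl_bt (LP (LK LD1_c17 LD2_c39 LD3_c10)) = (LP (LK LD1_c17 LD2_c37 LD3_c48)) :=
  Lgr Lrot128 (Lpe (f171140 IH) (Lpe (f372910 IH) (Lpr_cf (K30.f238211 IH) (Lpe (K30.f235713 IH) (Lpr_cf (f400791 IH) (Lpn (LP (LK LD1_c17 LD2_c37 LD3_c48))))))))
theorem f299351 : Led Lsl_bt (LP (LK LD1_c9 LD2_c34 LD3_c27)) = (LP (LK LD1_c17 LD2_c37 LD3_c46)) :=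
  Lre_b IH (LK LD1_c9 LD2_c34 LD3_c27) (LK LD1_c17 LD2_c37 LD3_c46) Lrfl Lrfl
theorem f400842 : Led Lsl_df (LP (LK LD1_c17 LD2_c39 LD3_c10)) = (LP (LK LD1_c17 LD2_c37 LD3_c46)) :=
  Lgr Lrot12 (Lpr_bt (f400840 IH) (Lpr_dt (f400566 IH) (Lpr_bt (f299351 IH) (Lpn (LP (LK LD1_c17 LD2_c37 LD3_c46))))))
theorem f372976 : Led Lsl_dt (LP (LK LD1_c16 LD2_c1 LD3_c19)) = (LP (LK LD1_c25 LD2_c58 LD3_c47)) :=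
  Lre_d IH (LK LD1_c16 LD2_c1 LD3_c19) (LK LD1_c25 LD2_c58 LD3_c47) Lrfl Lrfl
theorem f372981 : Led Lsl_ft (LP (LK LD1_c25 LD2_c58 LD3_c47)) = (LP (LK LD1_c17 LD2_c39 LD3_c6)) :=
  Lgr Lrot54 (Lpe (f372976 IH) (Lpr_ff (K27.f372972 IH) (Lpe (K27.f171125 IH) (Lpn (LP (LK LD1_c17 LD2_c39 LD3_c6))))))
theorem f170480 : Led Lsl_at (LP (LK LD1_c16 LD2_c1 LD3_c24)) = (LP (LK LD1_c25 LD2_c58 LD3_c47)) :=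
  Lre_a IH (LK LD1_c16 LD2_c1 LD3_c24) (LK LD1_c25 LD2_c58 LD3_c47) Lrfl Lrfl
theorem f372952 : Led Lsl_at (LP (LK LD1_c17 LD2_c39 LD3_c6)) = (LP (LK LD1_c9 LD2_c35 LD3_c11)) :=
  Lre_a IH (LK LD1_c17 LD2_c39 LD3_c6) (LK LD1_c9 LD2_c35 LD3_c11) Lrfl Lrfl
theorem f372988 : Led Lsl_ff (LP (LK LD1_c16 LD2_c1 LD3_c24)) = (LP (LK LD1_c9 LD2_c35 LD3_c11)) :=
  Lgr Lrot30 (Lpr_at (f170480 IH) (Lpr_ft (f372981 IH) (Lpr_at (f372952 IH) (Lpn (LP (LK LD1_c9 LD2_c35 LD3_c11))))))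
theorem f263842 : Led Lsl_ct (LP (LK LD1_c16 LD2_c1 LD3_c24)) = (LP (LK LD1_c25 LD2_c29 LD3_c52)) :=
  Lgr Lrot59 (Lpr_cf (K27.f263838 IH) (Lpn (LP (LK LD1_c25 LD2_c29 LD3_c52))))
theorem f171105 : Led Lsl_ct (LP (LK LD1_c17 LD2_c39 LD3_c10)) = (LP (LK LD1_c9 LD2_c35 LD3_c11)) :=
  Lre_c IH (LK LD1_c17 LD2_c39 LD3_c10) (LK LD1_c9 LD2_c35 LD3_c11) Lrfl Lrfl
theorem f372993 : Led Lsl_ft (LP (LK LD1_c25 LD2_c29 LD3_c52)) = (LP (LK LD1_c17 LD2_c39 LD3_c10)) :=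
  Lgr Lrot4 (Lpe (f263842 IH) (Lpr_ff (f372988 IH) (Lpe (f171105 IH) (Lpn (LP (LK LD1_c17 LD2_c39 LD3_c10))))))
theorem f373000 : Led Lsl_ff (LP (LK LD1_c25 LD2_c29 LD3_c52)) = (LP (LK LD1_c17 LD2_c39 LD3_c10)) :=
  Lgr Lrot3 (Lpr_ft (f372993 IH) (Lpn (LP (LK LD1_c17 LD2_c39 LD3_c10))))
theorem f263840 : Led Lsl_dt (LP (LK LD1_c25 LD2_c29 LD3_c52)) = (LP (LK LD1_c15 LD2_c35 LD3_c33)) :=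
  Lre_d IH (LK LD1_c25 LD2_c29 LD3_c52) (LK LD1_c15 LD2_c35 LD3_c33) Lrfl Lrfl
theorem f400848 : Led Lsl_ft (LP (LK LD1_c15 LD2_c35 LD3_c33)) = (LP (LK LD1_c17 LD2_c37 LD3_c46)) :=
  Lgr Lrot54 (Lpe (f263840 IH) (Lpr_ff (f373000 IH) (Lpr_df (f400842 IH) (Lpn (LP (LK LD1_c17 LD2_c37 LD3_c46))))))
theorem f53408 : Led Lsl_ct (LP (LK LD1_c4 LD2_c16 LD3_c25)) = (LP (LK LD1_c8 LD2_c32 LD3_c4)) :=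
  Lre_c IH (LK LD1_c4 LD2_c16 LD3_c25) (LK LD1_c8 LD2_c32 LD3_c4) Lrfl Lrfl
theorem f170138 : Led Lsl_dt (LP (LK LD1_c8 LD2_c32 LD3_c2)) = (LP (LK LD1_c16 LD2_c1 LD3_c17)) :=
  Lre_d IH (LK LD1_c8 LD2_c32 LD3_c2) (LK LD1_c16 LD2_c1 LD3_c17) Lrfl Lrfl
theorem f399269 : Led Lsl_gt (LP (LK LD1_c16 LD2_c1 LD3_c17)) = (LP (LK LD1_c8 LD2_c32 LD3_c22)) :=
  Lgr Lrot9 (Lpe (f170138 IH) (Lpr_gt (K30.f170134 IH) (Lpr_ct (f53408 IH) (Lpr_gt (K30.f53409 IH) (Lpe (K30.f170127 IH) (Lpe (K30.f170133 IH) (Lpe (K30.f394379 IH) (Lpe (K31.f394419 IH) (Lpr_cf (K31.f399253 IH) (Lpn (LP (LK LD1_c8 LD2_c32 LD3_c22))))))))))))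
theorem f372985 : Led Lsl_dt (LP (LK LD1_c16 LD2_c1 LD3_c23)) = (LP (LK LD1_c25 LD2_c58 LD3_c53)) :=
  Lre_d IH (LK LD1_c16 LD2_c1 LD3_c23) (LK LD1_c25 LD2_c58 LD3_c53) Lrfl Lrfl
theorem f243333 : Led Lsl_df (LP (LK LD1_c15 LD2_c51 LD3_c28)) = (LP (LK LD1_c8 LD2_c32 LD3_c22)) :=
  Lgr Lrot38 (Lpr_dt (f243313 IH) (Lpn (LP (LK LD1_c8 LD2_c32 LD3_c22))))
theorem f167403 : Led Lsl_dt (LP (LK LD1_c17 LD2_c36 LD3_c37)) = (LP (LK LD1_c9 LD2_c33 LD3_c48)) :=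
  Lre_d IH (LK LD1_c17 LD2_c36 LD3_c37) (LK LD1_c9 LD2_c33 LD3_c48) Lrfl Lrfl
theorem f399273 : Led Lsl_gt (LP (LK LD1_c25 LD2_c58 LD3_c53)) = (LP (LK LD1_c17 LD2_c36 LD3_c37)) :=
  Lgr Lrot49 (Lpe (f372985 IH) (Lpr_gf (K30.f372983 IH) (Lpe (K27.f171100 IH) (Lpe (K30.f374789 IH) (Lpr_dt (f170138 IH) (Lpr_gt (f399269 IH) (Lpe (f243333 IH) (Lpr_cf (K26.f167397 IH) (Lpe (f167403 IH) (Lpn (LP (LK LD1_c17 LD2_c36 LD3_c37))))))))))))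
theorem f399275 : Led Lsl_gf (LP (LK LD1_c25 LD2_c58 LD3_c53)) = (LP (LK LD1_c17 LD2_c37 LD3_c54)) :=
  Lgr Lrot47 (Lpr_gt (f399273 IH) (Lpe (f349512 IH) (Lpr_ff (f349498 IH) (Lpn (LP (LK LD1_c17 LD2_c37 LD3_c54))))))
theorem f170140 : Led Lsl_dt (LP (LK LD1_c8 LD2_c32 LD3_c4)) = (LP (LK LD1_c16 LD2_c1 LD3_c24)) :=
  Lre_d IH (LK LD1_c8 LD2_c32 LD3_c4) (LK LD1_c16 LD2_c1 LD3_c24) Lrfl Lrfl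
theorem f263819 : Led Lsl_dt (LP (LK LD1_c27 LD2_c31 LD3_c53)) = (LP (LK LD1_c17 LD2_c45 LD3_c28)) :=
  Lre_d IH (LK LD1_c27 LD2_c31 LD3_c53) (LK LD1_c17 LD2_c45 LD3_c28) Lrfl Lrfl
theorem f232943 : Led Lsl_ct (LP (LK LD1_c17 LD2_c37 LD3_c58)) = (LP (LK LD1_c9 LD2_c34 LD3_c30)) :=
  Lre_c IH (LK LD1_c17 LD2_c37 LD3_c58) (LK LD1_c9 LD2_c34 LD3_c30) Lrfl Lrfl
theorem f397214 : Led Lsl_ct (LP (LK LD1_c17 LD2_c37 LD3_c54)) = (LP (LK LD1_c25 LD2_c32 LD3_c59)) :=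
  Lgr Lrot111 (Lpe (f349513 IH) (Lpe (f232943 IH) (Lpr_af (f397210 IH) (Lpn (LP (LK LD1_c25 LD2_c32 LD3_c59))))))
theorem f397250 : Led Lsl_cf (LP (LK LD1_c17 LD2_c37 LD3_c54)) = (LP (LK LD1_c25 LD2_c32 LD3_c59)) :=
  Lgr Lrot11 (Lpr_ct (f397214 IH) (Lpn (LP (LK LD1_c25 LD2_c32 LD3_c59))))
theorem f399277 : Led Lsl_gf (LP (LK LD1_c27 LD2_c31 LD3_c53)) = (LP (LK LD1_c25 LD2_c32 LD3_c59)) :=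
  Lgr Lrot144 (Lpr_dt (f263819 IH) (Lpr_gt (K27.f263804 IH) (Lpr_dt (K27.f263820 IH) (Lpe (f263842 IH) (Lpe (f170140 IH) (Lpe (K30.f170554 IH) (Lpe (f263846 IH) (Lpr_gf (f399275 IH) (Lpr_cf (f397250 IH) (Lpn (LP (LK LD1_c25 LD2_c32 LD3_c59))))))))))))
theorem f397171 : Led Lsl_ft (LP (LK LD1_c25 LD2_c32 LD3_c59)) = (LP (LK LD1_c27 LD2_c29 LD3_c53)) :=
  Lgr Lrot54 (Lpe (f397169 IH) (Lpr_ff (f397162 IH) (Lpe (f397170 IH) (Lpn (LP (LK LD1_c27 LD2_c29 LD3_c53))))))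
theorem f397206 : Led Lsl_af (LP (LK LD1_c25 LD2_c32 LD3_c61)) = (LP (LK LD1_c27 LD2_c29 LD3_c53)) :=
  Lgr Lrot0 (Lpr_at (f397204 IH) (Lpn (LP (LK LD1_c27 LD2_c29 LD3_c53))))
theorem f399279 : Led Lsl_gt (LP (LK LD1_c27 LD2_c31 LD3_c53)) = (LP (LK LD1_c25 LD2_c32 LD3_c61)) :=
  Lgr Lrot46 (Lpr_gf (f399277 IH) (Lpr_ft (f397171 IH) (Lpe (f397206 IH) (Lpn (LP (LK LD1_c25 LD2_c32 LD3_c61))))))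
theorem f399282 : Led Lsl_gf (LP (LK LD1_c25 LD2_c28 LD3_c54)) = (LP (LK LD1_c17 LD2_c36 LD3_c37)) :=
  Lgr Lrot104 (Lpr_ct (K30.f233389 IH) (Lpe (f263837 IH) (Lpe (f220073 IH) (Lpe (K27.f220079 IH) (Lpe (K27.f220080 IH) (Lpe (K27.f263804 IH) (Lpe (f263819 IH) (Lpr_gt (f399279 IH) (Lpe (f394444 IH) (Lpn (LP (LK LD1_c17 LD2_c36 LD3_c37))))))))))))
theorem f218178 : Led Lsl_bt (LP (LK LD1_c15 LD2_c51 LD3_c37)) = (LP (LK LD1_c8 LD2_c26 LD3_c50)) :=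
  Lre_b IH (LK LD1_c15 LD2_c51 LD3_c37) (LK LD1_c8 LD2_c26 LD3_c50) Lrfl Lrfl
theorem f167220 : Led Lsl_ct (LP (LK LD1_c8 LD2_c21 LD3_c0)) = (LP (LK LD1_c15 LD2_c43 LD3_c5)) :=
  Lre_c IH (LK LD1_c8 LD2_c21 LD3_c0) (LK LD1_c15 LD2_c43 LD3_c5) Lrfl Lrfl
theorem f220043 : Led Lsl_bt (LP (LK LD1_c8 LD2_c17 LD3_c23)) = (LP (LK LD1_c4 LD2_c8 LD3_c40)) :=
  Lre_b IH (LK LD1_c8 LD2_c17 LD3_c23) (LK LD1_c4 LD2_c8 LD3_c40) Lrfl Lrfl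
theorem f167230 : Led Lsl_ct (LP (LK LD1_c15 LD2_c43 LD3_c5)) = (LP (LK LD1_c8 LD2_c21 LD3_c0)) :=
  Lre_c IH (LK LD1_c15 LD2_c43 LD3_c5) (LK LD1_c8 LD2_c21 LD3_c0) Lrfl Lrfl
theorem f168457 : Led Lsl_bt (LP (LK LD1_c5 LD2_c29 LD3_c38)) = (LP (LK LD1_c2 LD2_c41 LD3_c5)) :=
  Lre_b IH (LK LD1_c5 LD2_c29 LD3_c38) (LK LD1_c2 LD2_c41 LD3_c5) Lrfl Lrfl
theorem f168465 : Led Lsl_gt (LP (LK LD1_c9 LD2_c44 LD3_c50)) = (LP (LK LD1_c4 LD2_c56 LD3_c46)) :=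
  Lre_g IH (LK LD1_c9 LD2_c44 LD3_c50) (LK LD1_c4 LD2_c56 LD3_c46) Lrfl Lrfl
theorem f53158 : Led Lsl_bt (LP (LK LD1_c2 LD2_c1 LD3_c43)) = (LP (LK LD1_c4 LD2_c8 LD3_c44)) :=
  Lre_b IH (LK LD1_c2 LD2_c1 LD3_c43) (LK LD1_c4 LD2_c8 LD3_c44) Lrfl Lrfl
theorem f53159 : Led Lsl_gt (LP (LK LD1_c4 LD2_c8 LD3_c44)) = (LP (LK LD1_c8 LD2_c17 LD3_c32)) :=
  Lre_g IH (LK LD1_c4 LD2_c8 LD3_c44) (LK LD1_c8 LD2_c17 LD3_c32) Lrfl Lrfl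
theorem f220341 : Led Lsl_bt (LP (LK LD1_c15 LD2_c35 LD3_c28)) = (LP (LK LD1_c8 LD2_c17 LD3_c32)) :=
  Lre_b IH (LK LD1_c15 LD2_c35 LD3_c28) (LK LD1_c8 LD2_c17 LD3_c32) Lrfl Lrfl
theorem f220342 : Led Lsl_ct (LP (LK LD1_c15 LD2_c35 LD3_c28)) = (LP (LK LD1_c9 LD2_c44 LD3_c50)) :=
  Lgr Lrot64 (Lpr_bt (f220341 IH) (Lpe (f53159 IH) (Lpe (f53158 IH) (Lpr_ct (K14.f220340 IH) (Lpe (K12.f1363 IH) (Lpe (K12.f220042 IH) (Lpr_gf (K12.f220338 IH) (Lpe (f168457 IH) (Lpe (K18.f168363 IH) (Lpe (f168465 IH) (Lpn (LP (LK LD1_c9 LD2_c44 LD3_c50)))))))))))))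
theorem f220344 : Led Lsl_gt (LP (LK LD1_c25 LD2_c29 LD3_c37)) = (LP (LK LD1_c15 LD2_c35 LD3_c28)) :=
  Lre_g IH (LK LD1_c25 LD2_c29 LD3_c37) (LK LD1_c15 LD2_c35 LD3_c28) Lrfl Lrfl
theorem f220345 : Led Lsl_bt (LP (LK LD1_c15 LD2_c43 LD3_c5)) = (LP (LK LD1_c25 LD2_c29 LD3_c37)) :=
  Lgr Lrot130 (Lpr_ct (f167230 IH) (Lpe (f167219 IH) (Lpe (K15.f220060 IH) (Lpr_bt (f220043 IH) (Lpr_gf (K12.f220338 IH) (Lpe (f168457 IH) (Lpe (K18.f168363 IH) (Lpe (f168465 IH) (Lpe (f220342 IH) (Lpe (f220344 IH) (Lpn (LP (LK LD1_c25 LD2_c29 LD3_c37)))))))))))))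
theorem f220443 : Led Lsl_dt (LP (LK LD1_c15 LD2_c35 LD3_c28)) = (LP (LK LD1_c25 LD2_c29 LD3_c38)) :=
  Lre_d IH (LK LD1_c15 LD2_c35 LD3_c28) (LK LD1_c25 LD2_c29 LD3_c38) Lrfl Lrfl
theorem f396954 : Led Lsl_cf (LP (LK LD1_c15 LD2_c51 LD3_c37)) = (LP (LK LD1_c25 LD2_c29 LD3_c38)) :=
  Lgr Lrot89 (Lpr_bt (f218178 IH) (Lpe (K17.f282833 IH) (Lpr_dt (K17.f244853 IH) (Lpr_ct (K18.f244829 IH) (Lpr_bt (K18.f282845 IH) (Lpr_gt (K18.f284566 IH) (Lpr_dt (K10.f53445 IH) (Lpr_ct (K9.f53444 IH) (Lpr_bt (K12.f53443 IH) (Lpr_gt (K9.f53438 IH) (Lpr_dt (K0.f27338 IH) (Lpe (K9.f51542 IH) (Lpr_bt (K30.f51546 IH) (Lpr_gt (f1212 IH) (Lpr_dt (f396946 IH) (Lpr_ct (f167220 IH) (Lpr_bt (f220345 IH) (Lpr_gt (f220344 IH) (Lpr_dt (f220443 IH) (Lpn (LP (LK LD1_c25 LD2_c29 LD3_c38))))))))))))))))))))))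
theorem f396959 : Led Lsl_ct (LP (LK LD1_c15 LD2_c51 LD3_c37)) = (LP (LK LD1_c25 LD2_c29 LD3_c38)) :=
  Lgr Lrot59 (Lpr_cf (f396954 IH) (Lpn (LP (LK LD1_c25 LD2_c29 LD3_c38))))
theorem f218199 : Led Lsl_bt (LP (LK LD1_c8 LD2_c32 LD3_c5)) = (LP (LK LD1_c4 LD2_c16 LD3_c27)) :=
  Lre_b IH (LK LD1_c8 LD2_c32 LD3_c5) (LK LD1_c4 LD2_c16 LD3_c27) Lrfl Lrfl
theorem f396961 : Led Lsl_bt (LP (LK LD1_c25 LD2_c29 LD3_c38)) = (LP (LK LD1_c15 LD2_c35 LD3_c30)) :=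
  Lre_b IH (LK LD1_c25 LD2_c29 LD3_c38) (LK LD1_c15 LD2_c35 LD3_c30) Lrfl Lrfl
theorem f396962 : Led Lsl_cf (LP (LK LD1_c8 LD2_c32 LD3_c5)) = (LP (LK LD1_c15 LD2_c35 LD3_c30)) :=
  Lgr Lrot97 (Lpr_bt (f218199 IH) (Lpr_ct (K17.f218172 IH) (Lpr_bt (K27.f218183 IH) (Lpr_ct (f396959 IH) (Lpr_bt (f396961 IH) (Lpn (LP (LK LD1_c15 LD2_c35 LD3_c30))))))))
theorem f170474 : Led Lsl_dt (LP (LK LD1_c8 LD2_c32 LD3_c5)) = (LP (LK LD1_c4 LD2_c16 LD3_c25)) :=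
  Lre_d IH (LK LD1_c8 LD2_c32 LD3_c5) (LK LD1_c4 LD2_c16 LD3_c25) Lrfl Lrfl
theorem f373022 : Led Lsl_dt (LP (LK LD1_c25 LD2_c29 LD3_c54)) = (LP (LK LD1_c15 LD2_c57 LD3_c31)) :=
  Lgr Lrot42 (Lpr_df (K27.f373015 IH) (Lpn (LP (LK LD1_c15 LD2_c57 LD3_c31))))
theorem f53160 : Led Lsl_dt (LP (LK LD1_c8 LD2_c17 LD3_c32)) = (LP (LK LD1_c15 LD2_c35 LD3_c30)) :=
  Lre_d IH (LK LD1_c8 LD2_c17 LD3_c32) (LK LD1_c15 LD2_c35 LD3_c30) Lrfl Lrfl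
theorem f220446 : Led Lsl_ct (LP (LK LD1_c15 LD2_c35 LD3_c29)) = (LP (LK LD1_c8 LD2_c17 LD3_c32)) :=
  Lre_c IH (LK LD1_c15 LD2_c35 LD3_c29) (LK LD1_c8 LD2_c17 LD3_c32) Lrfl Lrfl
theorem f263831 : Led Lsl_dt (LP (LK LD1_c25 LD2_c29 LD3_c42)) = (LP (LK LD1_c15 LD2_c35 LD3_c29)) :=
  Lre_d IH (LK LD1_c25 LD2_c29 LD3_c42) (LK LD1_c15 LD2_c35 LD3_c29) Lrfl Lrfl
theorem f396965 : Led Lsl_ct (LP (LK LD1_c17 LD2_c39 LD3_c6)) = (LP (LK LD1_c25 LD2_c29 LD3_c42)) :=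
  Lgr Lrot176 (Lpe (K27.f171121 IH) (Lpe (K27.f171100 IH) (Lpe (f373022 IH) (Lpe (K31.f263847 IH) (Lpe (K31.f263823 IH) (Lpe (K27.f220080 IH) (Lpe (f263840 IH) (Lpe (f263842 IH) (Lpe (f170140 IH) (Lpe (f53408 IH) (Lpe (f170474 IH) (Lpr_cf (f396962 IH) (Lpe (f53160 IH) (Lpe (f220446 IH) (Lpe (f263831 IH) (Lpn (LP (LK LD1_c25 LD2_c29 LD3_c42))))))))))))))))))
theorem f263833 : Led Lsl_dt (LP (LK LD1_c15 LD2_c35 LD3_c29)) = (LP (LK LD1_c25 LD2_c29 LD3_c42)) :=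
  Lre_d IH (LK LD1_c15 LD2_c35 LD3_c29) (LK LD1_c25 LD2_c29 LD3_c42) Lrfl Lrfl
theorem f220481 : Led Lsl_gt (LP (LK LD1_c25 LD2_c29 LD3_c40)) = (LP (LK LD1_c15 LD2_c35 LD3_c29)) :=
  Lre_g IH (LK LD1_c25 LD2_c29 LD3_c40) (LK LD1_c15 LD2_c35 LD3_c29) Lrfl Lrfl
theorem f396988 : Led Lsl_dt (LP (LK LD1_c31 LD2_c54 LD3_c39)) = (LP (LK LD1_c25 LD2_c29 LD3_c40)) :=
  Lre_d IH (LK LD1_c31 LD2_c54 LD3_c39) (LK LD1_c25 LD2_c29 LD3_c40) Lrfl Lrfl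
theorem f399385 : Led Lsl_gf (LP (LK LD1_c31 LD2_c54 LD3_c39)) = (LP (LK LD1_c25 LD2_c32 LD3_c61)) :=
  Lgr Lrot144 (Lpr_dt (f396988 IH) (Lpr_gt (f220481 IH) (Lpr_dt (f263833 IH) (Lpe (f396965 IH) (Lpe (K27.f171121 IH) (Lpe (K30.f374793 IH) (Lpe (f394421 IH) (Lpr_gf (f399282 IH) (Lpr_cf (f394444 IH) (Lpn (LP (LK LD1_c25 LD2_c32 LD3_c61))))))))))))
theorem f394449 : Led Lsl_ff (LP (LK LD1_c17 LD2_c37 LD3_c58)) = (LP (LK LD1_c25 LD2_c32 LD3_c61)) :=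
  Lgr Lrot3 (Lpr_ft (f394446 IH) (Lpn (LP (LK LD1_c25 LD2_c32 LD3_c61))))
theorem f397212 : Led Lsl_at (LP (LK LD1_c17 LD2_c37 LD3_c58)) = (LP (LK LD1_c25 LD2_c32 LD3_c59)) :=
  Lgr Lrot100 (Lpr_af (f397210 IH) (Lpn (LP (LK LD1_c25 LD2_c32 LD3_c59))))
theorem f399387 : Led Lsl_gt (LP (LK LD1_c31 LD2_c54 LD3_c39)) = (LP (LK LD1_c25 LD2_c32 LD3_c59)) :=
  Lgr Lrot46 (Lpr_gf (f399385 IH) (Lpe (f394449 IH) (Lpr_at (f397212 IH) (Lpn (LP (LK LD1_c25 LD2_c32 LD3_c59))))))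
theorem f399376 : Led Lsl_dt (LP (LK LD1_c25 LD2_c29 LD3_c40)) = (LP (LK LD1_c31 LD2_c54 LD3_c39)) :=
  Lre_d IH (LK LD1_c25 LD2_c29 LD3_c40) (LK LD1_c31 LD2_c54 LD3_c39) Lrfl Lrfl
theorem f399265 : Led Lsl_dt (LP (LK LD1_c15 LD2_c35 LD3_c38)) = (LP (LK LD1_c8 LD2_c18 LD3_c40)) :=
  Lgr Lrot120 (Lpr_cf (K31.f399253 IH) (Lpe (f243313 IH) (Lpr_cf (K26.f167397 IH) (Lpe (f167403 IH) (Lpr_cf (f394444 IH) (Lpe (f170577 IH) (Lpe (f397005 IH) (Lpe (f397160 IH) (Lpe (f236753 IH) (Lpn (LP (LK LD1_c8 LD2_c18 LD3_c40))))))))))))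
theorem f399393 : Led Lsl_gf (LP (LK LD1_c25 LD2_c29 LD3_c40)) = (LP (LK LD1_c15 LD2_c35 LD3_c33)) :=
  Lgr Lrot144 (Lpr_dt (f399376 IH) (Lpr_gt (f399387 IH) (Lpr_dt (f397156 IH) (Lpe (f236753 IH) (Lpe (f399265 IH) (Lpe (K31.f222696 IH) (Lpe (K30.f263832 IH) (Lpe (K27.f220079 IH) (Lpe (K27.f220080 IH) (Lpn (LP (LK LD1_c15 LD2_c35 LD3_c33))))))))))))
theorem f400856 : Led Lsl_af (LP (LK LD1_c15 LD2_c35 LD3_c29)) = (LP (LK LD1_c17 LD2_c37 LD3_c46)) :=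
  Lgr Lrot31 (Lpe (f220481 IH) (Lpr_gf (f399393 IH) (Lpr_ft (f400848 IH) (Lpn (LP (LK LD1_c17 LD2_c37 LD3_c46))))))
theorem f220478 : Led Lsl_bt (LP (LK LD1_c15 LD2_c35 LD3_c29)) = (LP (LK LD1_c25 LD2_c29 LD3_c41)) :=
  Lre_b IH (LK LD1_c15 LD2_c35 LD3_c29) (LK LD1_c25 LD2_c29 LD3_c41) Lrfl Lrfl
theorem f366325 : Led Lsl_ct (LP (LK LD1_c25 LD2_c33 LD3_c0)) = (LP (LK LD1_c15 LD2_c37 LD3_c59)) :=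
  Lre_c IH (LK LD1_c25 LD2_c33 LD3_c0) (LK LD1_c15 LD2_c37 LD3_c59) Lrfl Lrfl
theorem f400793 : Led Lsl_df (LP (LK LD1_c25 LD2_c33 LD3_c0)) = (LP (LK LD1_c17 LD2_c37 LD3_c47)) :=
  Lgr Lrot43 (Lpr_ct (f366325 IH) (Lpr_dt (f366336 IH) (Lpr_ct (K30.f366332 IH) (Lpr_dt (f372572 IH) (Lpe (f400456 IH) (Lpr_dt (f349507 IH) (Lpr_ct (f349505 IH) (Lpr_dt (f400490 IH) (Lpr_ct (f232615 IH) (Lpr_dt (f232614 IH) (Lpr_ct (K30.f232604 IH) (Lpr_dt (f232616 IH) (Lpr_ct (f400787 IH) (Lpr_dt (f400566 IH) (Lpr_ct (f299311 IH) (Lpn (LP (LK LD1_c17 LD2_c37 LD3_c47))))))))))))))))))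
theorem f400797 : Led Lsl_dt (LP (LK LD1_c25 LD2_c33 LD3_c0)) = (LP (LK LD1_c17 LD2_c37 LD3_c47)) :=
  Lgr Lrot42 (Lpr_df (f400793 IH) (Lpn (LP (LK LD1_c17 LD2_c37 LD3_c47))))
theorem f400454 : Led Lsl_ct (LP (LK LD1_c17 LD2_c37 LD3_c52)) = (LP (LK LD1_c25 LD2_c32 LD3_c42)) :=
  Lgr Lrot7 (Lpe (f349504 IH) (Lpe (f349502 IH) (Lpe (f167418 IH) (Lpe (f400399 IH) (Lpr_cf (f400383 IH) (Lpr_gt (f400450 IH) (Lpr_dt (f373011 IH) (Lpr_gt (f373009 IH) (Lpr_dt (f372572 IH) (Lpn (LP (LK LD1_c25 LD2_c32 LD3_c42))))))))))))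
theorem f243504 : Led Lsl_bt (LP (LK LD1_c15 LD2_c58 LD3_c30)) = (LP (LK LD1_c8 LD2_c30 LD3_c26)) :=
  Lre_b IH (LK LD1_c15 LD2_c58 LD3_c30) (LK LD1_c8 LD2_c30 LD3_c26) Lrfl Lrfl
theorem f167405 : Led Lsl_bt (LP (LK LD1_c15 LD2_c51 LD3_c28)) = (LP (LK LD1_c8 LD2_c26 LD3_c42)) :=
  Lre_b IH (LK LD1_c15 LD2_c51 LD3_c28) (LK LD1_c8 LD2_c26 LD3_c42) Lrfl Lrfl
theorem f167406 : Led Lsl_gt (LP (LK LD1_c17 LD2_c36 LD3_c35)) = (LP (LK LD1_c9 LD2_c33 LD3_c48)) :=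
  Lre_g IH (LK LD1_c17 LD2_c36 LD3_c35) (LK LD1_c9 LD2_c33 LD3_c48) Lrfl Lrfl
theorem f243505 : Led Lsl_ct (LP (LK LD1_c15 LD2_c58 LD3_c30)) = (LP (LK LD1_c17 LD2_c36 LD3_c35)) :=
  Lgr Lrot64 (Lpr_bt (f243504 IH) (Lpe (f8013 IH) (Lpe (K13.f8012 IH) (Lpr_ct (K13.f197005 IH) (Lpe (K13.f839 IH) (Lpe (K13.f243282 IH) (Lpr_gf (K13.f243500 IH) (Lpe (f167405 IH) (Lpr_ct (K26.f167375 IH) (Lpe (f167406 IH) (Lpn (LP (LK LD1_c17 LD2_c36 LD3_c35)))))))))))))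
theorem f243513 : Led Lsl_cf (LP (LK LD1_c15 LD2_c58 LD3_c30)) = (LP (LK LD1_c17 LD2_c36 LD3_c35)) :=
  Lgr Lrot11 (Lpr_ct (f243505 IH) (Lpn (LP (LK LD1_c17 LD2_c36 LD3_c35))))
theorem f400779 : Led Lsl_ft (LP (LK LD1_c9 LD2_c34 LD3_c28)) = (LP (LK LD1_c17 LD2_c36 LD3_c35)) :=
  Lgr Lrot4 (Lpe (f295087 IH) (Lpr_ff (f400495 IH) (Lpr_cf (f243513 IH) (Lpn (LP (LK LD1_c17 LD2_c36 LD3_c35))))))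
theorem f299352 : Led Lsl_ct (LP (LK LD1_c17 LD2_c37 LD3_c47)) = (LP (LK LD1_c9 LD2_c34 LD3_c27)) :=
  Lre_c IH (LK LD1_c17 LD2_c37 LD3_c47) (LK LD1_c9 LD2_c34 LD3_c27) Lrfl Lrfl
theorem f400801 : Led Lsl_at (LP (LK LD1_c17 LD2_c36 LD3_c35)) = (LP (LK LD1_c9 LD2_c34 LD3_c27)) :=
  Lgr Lrot33 (Lpe (f400779 IH) (Lpr_dt (f349504 IH) (Lpr_ct (f400454 IH) (Lpr_dt (K30.f372579 IH) (Lpr_ct (K30.f372580 IH) (Lpr_dt (f366326 IH) (Lpr_ct (f366330 IH) (Lpr_dt (f400797 IH) (Lpr_ct (f299352 IH) (Lpn (LP (LK LD1_c9 LD2_c34 LD3_c27))))))))))))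
theorem f167415 : Led Lsl_bt (LP (LK LD1_c27 LD2_c24 LD3_c46)) = (LP (LK LD1_c17 LD2_c36 LD3_c35)) :=
  Lre_b IH (LK LD1_c27 LD2_c24 LD3_c46) (LK LD1_c17 LD2_c36 LD3_c35) Lrfl Lrfl
theorem f400858 : Led Lsl_at (LP (LK LD1_c25 LD2_c29 LD3_c41)) = (LP (LK LD1_c27 LD2_c24 LD3_c46)) :=
  Lgr Lrot67 (Lpe (f220478 IH) (Lpr_af (f400856 IH) (Lpe (f299351 IH) (Lpe (f400801 IH) (Lpe (f167415 IH) (Lpn (LP (LK LD1_c27 LD2_c24 LD3_c46))))))))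
theorem f220444 : Led Lsl_bt (LP (LK LD1_c8 LD2_c17 LD3_c32)) = (LP (LK LD1_c15 LD2_c35 LD3_c28)) :=
  Lre_b IH (LK LD1_c8 LD2_c17 LD3_c32) (LK LD1_c15 LD2_c35 LD3_c28) Lrfl Lrfl
theorem f220447 : Led Lsl_bt (LP (LK LD1_c25 LD2_c29 LD3_c41)) = (LP (LK LD1_c15 LD2_c35 LD3_c29)) :=
  Lre_b IH (LK LD1_c25 LD2_c29 LD3_c41) (LK LD1_c15 LD2_c35 LD3_c29) Lrfl Lrfl
theorem f220448 : Led Lsl_bt (LP (LK LD1_c9 LD2_c44 LD3_c50)) = (LP (LK LD1_c17 LD2_c53 LD3_c61)) :=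
  Lre_b IH (LK LD1_c9 LD2_c44 LD3_c50) (LK LD1_c17 LD2_c53 LD3_c61) Lrfl Lrfl
theorem f220449 : Led Lsl_cf (LP (LK LD1_c25 LD2_c29 LD3_c41)) = (LP (LK LD1_c17 LD2_c53 LD3_c61)) :=
  Lgr Lrot97 (Lpr_bt (f220447 IH) (Lpr_ct (f220446 IH) (Lpr_bt (f220444 IH) (Lpr_ct (f220342 IH) (Lpr_bt (f220448 IH) (Lpn (LP (LK LD1_c17 LD2_c53 LD3_c61))))))))
theorem f243231 : Led Lsl_ct (LP (LK LD1_c15 LD2_c58 LD3_c31)) = (LP (LK LD1_c8 LD2_c30 LD3_c26)) :=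
  Lre_c IH (LK LD1_c15 LD2_c58 LD3_c31) (LK LD1_c8 LD2_c30 LD3_c26) Lrfl Lrfl
theorem f243509 : Led Lsl_bt (LP (LK LD1_c25 LD2_c55 LD3_c39)) = (LP (LK LD1_c15 LD2_c58 LD3_c31)) :=
  Lre_b IH (LK LD1_c25 LD2_c55 LD3_c39) (LK LD1_c15 LD2_c58 LD3_c31) Lrfl Lrfl
theorem f243510 : Led Lsl_bt (LP (LK LD1_c17 LD2_c36 LD3_c35)) = (LP (LK LD1_c27 LD2_c24 LD3_c46)) :=
  Lre_b IH (LK LD1_c17 LD2_c36 LD3_c35) (LK LD1_c27 LD2_c24 LD3_c46) Lrfl Lrfl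
theorem f243511 : Led Lsl_cf (LP (LK LD1_c25 LD2_c55 LD3_c39)) = (LP (LK LD1_c27 LD2_c24 LD3_c46)) :=
  Lgr Lrot97 (Lpr_bt (f243509 IH) (Lpr_ct (f243231 IH) (Lpr_bt (f243508 IH) (Lpr_ct (f243505 IH) (Lpr_bt (f243510 IH) (Lpn (LP (LK LD1_c27 LD2_c24 LD3_c46))))))))
theorem f400892 : Led Lsl_af (LP (LK LD1_c17 LD2_c53 LD3_c61)) = (LP (LK LD1_c25 LD2_c55 LD3_c39)) :=
  Lgr Lrot68 (Lpe (f220449 IH) (Lpr_at (f400858 IH) (Lpe (f243511 IH) (Lpn (LP (LK LD1_c25 LD2_c55 LD3_c39))))))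
theorem f168471 : Led Lsl_bt (LP (LK LD1_c17 LD2_c53 LD3_c61)) = (LP (LK LD1_c9 LD2_c44 LD3_c50)) :=
  Lre_b IH (LK LD1_c17 LD2_c53 LD3_c61) (LK LD1_c9 LD2_c44 LD3_c50) Lrfl Lrfl
theorem f243232 : Led Lsl_bt (LP (LK LD1_c15 LD2_c58 LD3_c31)) = (LP (LK LD1_c25 LD2_c55 LD3_c39)) :=
  Lre_b IH (LK LD1_c15 LD2_c58 LD3_c31) (LK LD1_c25 LD2_c55 LD3_c39) Lrfl Lrfl
theorem f243229 : Led Lsl_ct (LP (LK LD1_c8 LD2_c30 LD3_c26)) = (LP (LK LD1_c15 LD2_c58 LD3_c31)) :=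
  Lre_c IH (LK LD1_c8 LD2_c30 LD3_c26) (LK LD1_c15 LD2_c58 LD3_c31) Lrfl Lrfl
theorem f220792 : Led Lsl_dt (LP (LK LD1_c10 LD2_c32 LD3_c1)) = (LP (LK LD1_c5 LD2_c20 LD3_c58)) :=
  Lre_d IH (LK LD1_c10 LD2_c32 LD3_c1) (LK LD1_c5 LD2_c20 LD3_c58) Lrfl Lrfl
theorem f218850 : Led Lsl_bt (LP (LK LD1_c5 LD2_c20 LD3_c60)) = (LP (LK LD1_c10 LD2_c32 LD3_c1)) :=
  Lre_b IH (LK LD1_c5 LD2_c20 LD3_c60) (LK LD1_c10 LD2_c32 LD3_c1) Lrfl Lrfl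
theorem f369142 : Led Lsl_ft (LP (LK LD1_c10 LD2_c32 LD3_c1)) = (LP (LK LD1_c5 LD2_c24 LD3_c55)) :=
  Lgr Lrot75 (Lpe (f218850 IH) (Lpr_ff (K27.f369138 IH) (Lpe (f246493 IH) (Lpn (LP (LK LD1_c5 LD2_c24 LD3_c55))))))
theorem f373308 : Led Lsl_at (LP (LK LD1_c5 LD2_c24 LD3_c55)) = (LP (LK LD1_c10 LD2_c40 LD3_c27)) :=
  Lre_a IH (LK LD1_c5 LD2_c24 LD3_c55) (LK LD1_c10 LD2_c40 LD3_c27) Lrfl Lrfl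
theorem f373311 : Led Lsl_ct (LP (LK LD1_c19 LD2_c19 LD3_c44)) = (LP (LK LD1_c10 LD2_c40 LD3_c27)) :=
  Lre_c IH (LK LD1_c19 LD2_c19 LD3_c44) (LK LD1_c10 LD2_c40 LD3_c27) Lrfl Lrfl
theorem f399178 : Led Lsl_dt (LP (LK LD1_c15 LD2_c58 LD3_c31)) = (LP (LK LD1_c19 LD2_c19 LD3_c44)) :=
  Lgr Lrot120 (Lpe (f243229 IH) (Lpe (f373995 IH) (Lpr_cf (f399170 IH) (Lpe (f373688 IH) (Lpr_cf (K27.f373698 IH) (Lpe (f220792 IH) (Lpr_ft (f369142 IH) (Lpr_at (f373308 IH) (Lpe (f373311 IH) (Lpn (LP (LK LD1_c19 LD2_c19 LD3_c44))))))))))))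
theorem f263964 : Led Lsl_at (LP (LK LD1_c19 LD2_c19 LD3_c44)) = (LP (LK LD1_c10 LD2_c40 LD3_c35)) :=
  Lre_a IH (LK LD1_c19 LD2_c19 LD3_c44) (LK LD1_c10 LD2_c40 LD3_c35) Lrfl Lrfl
theorem f246465 : Led Lsl_bt (LP (LK LD1_c9 LD2_c42 LD3_c33)) = (LP (LK LD1_c4 LD2_c55 LD3_c28)) :=
  Lre_b IH (LK LD1_c9 LD2_c42 LD3_c33) (LK LD1_c4 LD2_c55 LD3_c28) Lrfl Lrfl
theorem f193276 : Led Lsl_bt (LP (LK LD1_c2 LD2_c8 LD3_c37)) = (LP (LK LD1_c4 LD2_c22 LD3_c22)) :=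
  Lre_b IH (LK LD1_c2 LD2_c8 LD3_c37) (LK LD1_c4 LD2_c22 LD3_c22) Lrfl Lrfl
theorem f193277 : Led Lsl_gt (LP (LK LD1_c4 LD2_c22 LD3_c22)) = (LP (LK LD1_c8 LD2_c42 LD3_c39)) :=
  Lre_g IH (LK LD1_c4 LD2_c22 LD3_c22) (LK LD1_c8 LD2_c42 LD3_c39) Lrfl Lrfl
theorem f193278 : Led Lsl_dt (LP (LK LD1_c8 LD2_c42 LD3_c39)) = (LP (LK LD1_c16 LD2_c19 LD3_c5)) :=
  Lre_d IH (LK LD1_c8 LD2_c42 LD3_c39) (LK LD1_c16 LD2_c19 LD3_c5) Lrfl Lrfl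
theorem f263942 : Led Lsl_cf (LP (LK LD1_c9 LD2_c42 LD3_c33)) = (LP (LK LD1_c16 LD2_c19 LD3_c5)) :=
  Lgr Lrot89 (Lpr_bt (f246465 IH) (Lpe (K15.f263938 IH) (Lpr_dt (K15.f263928 IH) (Lpr_ct (K13.f196623 IH) (Lpr_bt (K13.f196613 IH) (Lpe (K12.f226899 IH) (Lpr_dt (K11.f53072 IH) (Lpe (K11.f201045 IH) (Lpe (K11.f201258 IH) (Lpr_gt (K0.f3063 IH) (Lpr_dt (K0.f2133 IH) (Lpr_ct (K0.f2200 IH) (Lpr_bt (K0.f3067 IH) (Lpe (K10.f193264 IH) (Lpr_dt (K10.f193191 IH) (Lpr_ct (K13.f193270 IH) (Lpr_bt (f193276 IH) (Lpr_gt (f193277 IH) (Lpr_dt (f193278 IH) (Lpn (LP (LK LD1_c16 LD2_c19 LD3_c5))))))))))))))))))))))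
theorem f263950 : Led Lsl_ct (LP (LK LD1_c9 LD2_c42 LD3_c33)) = (LP (LK LD1_c16 LD2_c19 LD3_c5)) :=
  Lgr Lrot59 (Lpr_cf (f263942 IH) (Lpn (LP (LK LD1_c16 LD2_c19 LD3_c5))))
theorem f263954 : Led Lsl_bf (LP (LK LD1_c10 LD2_c40 LD3_c35)) = (LP (LK LD1_c16 LD2_c19 LD3_c5)) :=
  Lgr Lrot90 (Lpr_ct (f246494 IH) (Lpr_bt (f246493 IH) (Lpr_ct (K14.f246466 IH) (Lpr_bt (K27.f246475 IH) (Lpr_ct (f263950 IH) (Lpn (LP (LK LD1_c16 LD2_c19 LD3_c5))))))))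
theorem f232281 : Led Lsl_bt (LP (LK LD1_c16 LD2_c19 LD3_c3)) = (LP (LK LD1_c8 LD2_c42 LD3_c39)) :=
  Lre_b IH (LK LD1_c16 LD2_c19 LD3_c3) (LK LD1_c8 LD2_c42 LD3_c39) Lrfl Lrfl
theorem f263960 : Led Lsl_dt (LP (LK LD1_c10 LD2_c40 LD3_c35)) = (LP (LK LD1_c16 LD2_c19 LD3_c3)) :=
  Lgr Lrot79 (Lpr_bf (f263954 IH) (Lpe (f193278 IH) (Lpe (f232281 IH) (Lpn (LP (LK LD1_c16 LD2_c19 LD3_c3))))))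
theorem f399180 : Led Lsl_af (LP (LK LD1_c15 LD2_c58 LD3_c31)) = (LP (LK LD1_c16 LD2_c19 LD3_c3)) :=
  Lgr Lrot117 (Lpr_dt (f399178 IH) (Lpr_at (f263964 IH) (Lpr_dt (f263960 IH) (Lpn (LP (LK LD1_c16 LD2_c19 LD3_c3))))))
theorem f263971 : Led Lsl_bt (LP (LK LD1_c8 LD2_c42 LD3_c39)) = (LP (LK LD1_c16 LD2_c19 LD3_c3)) :=
  Lre_b IH (LK LD1_c8 LD2_c42 LD3_c39) (LK LD1_c16 LD2_c19 LD3_c3) Lrfl Lrfl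
theorem f400896 : Led Lsl_at (LP (LK LD1_c9 LD2_c44 LD3_c50)) = (LP (LK LD1_c8 LD2_c42 LD3_c39)) :=
  Lgr Lrot67 (Lpe (f168471 IH) (Lpr_af (f400892 IH) (Lpe (f243232 IH) (Lpr_af (f399180 IH) (Lpe (f263971 IH) (Lpn (LP (LK LD1_c8 LD2_c42 LD3_c39))))))))
theorem f232286 : Led Lsl_gt (LP (LK LD1_c8 LD2_c42 LD3_c40)) = (LP (LK LD1_c4 LD2_c22 LD3_c22)) :=
  Lre_g IH (LK LD1_c8 LD2_c42 LD3_c40) (LK LD1_c4 LD2_c22 LD3_c22) Lrfl Lrfl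
theorem f400905 : Led Lsl_ff (LP (LK LD1_c9 LD2_c44 LD3_c50)) = (LP (LK LD1_c8 LD2_c42 LD3_c40)) :=
  Lgr Lrot52 (Lpr_at (f400896 IH) (Lpe (f193277 IH) (Lpe (f232286 IH) (Lpn (LP (LK LD1_c8 LD2_c42 LD3_c40))))))
theorem f400914 : Led Lsl_ft (LP (LK LD1_c9 LD2_c44 LD3_c50)) = (LP (LK LD1_c8 LD2_c42 LD3_c40)) :=
  Lgr Lrot48 (Lpr_ff (f400905 IH) (Lpn (LP (LK LD1_c8 LD2_c42 LD3_c40))))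
theorem f168461 : Led Lsl_gt (LP (LK LD1_c4 LD2_c56 LD3_c46)) = (LP (LK LD1_c9 LD2_c44 LD3_c49)) :=
  Lre_g IH (LK LD1_c4 LD2_c56 LD3_c46) (LK LD1_c9 LD2_c44 LD3_c49) Lrfl Lrfl
theorem f400924 : Led Lsl_af (LP (LK LD1_c9 LD2_c44 LD3_c49)) = (LP (LK LD1_c8 LD2_c42 LD3_c40)) :=
  Lgr Lrot31 (Lpe (f168461 IH) (Lpe (f168465 IH) (Lpr_ft (f400914 IH) (Lpn (LP (LK LD1_c8 LD2_c42 LD3_c40))))))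
theorem f400898 : Led Lsl_af (LP (LK LD1_c9 LD2_c44 LD3_c50)) = (LP (LK LD1_c8 LD2_c42 LD3_c39)) :=
  Lgr Lrot0 (Lpr_at (f400896 IH) (Lpn (LP (LK LD1_c8 LD2_c42 LD3_c39))))
theorem f400933 : Led Lsl_ft (LP (LK LD1_c9 LD2_c44 LD3_c49)) = (LP (LK LD1_c8 LD2_c42 LD3_c39)) :=
  Lgr Lrot101 (Lpr_af (f400924 IH) (Lpe (f400914 IH) (Lpr_af (f400898 IH) (Lpn (LP (LK LD1_c8 LD2_c42 LD3_c39))))))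
theorem f168522 : Led Lsl_ct (LP (LK LD1_c17 LD2_c53 LD3_c59)) = (LP (LK LD1_c9 LD2_c44 LD3_c49)) :=
  Lre_c IH (LK LD1_c17 LD2_c53 LD3_c59) (LK LD1_c9 LD2_c44 LD3_c49) Lrfl Lrfl
theorem f232276 : Led Lsl_ct (LP (LK LD1_c8 LD2_c42 LD3_c39)) = (LP (LK LD1_c16 LD2_c19 LD3_c4)) :=
  Lre_c IH (LK LD1_c8 LD2_c42 LD3_c39) (LK LD1_c16 LD2_c19 LD3_c4) Lrfl Lrfl
theorem f400937 : Led Lsl_ff (LP (LK LD1_c17 LD2_c53 LD3_c59)) = (LP (LK LD1_c16 LD2_c19 LD3_c4)) :=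
  Lgr Lrot23 (Lpr_ct (f168522 IH) (Lpr_ft (f400933 IH) (Lpr_ct (f232276 IH) (Lpn (LP (LK LD1_c16 LD2_c19 LD3_c4))))))
theorem f168519 : Led Lsl_ct (LP (LK LD1_c9 LD2_c44 LD3_c49)) = (LP (LK LD1_c17 LD2_c53 LD3_c59)) :=
  Lre_c IH (LK LD1_c9 LD2_c44 LD3_c49) (LK LD1_c17 LD2_c53 LD3_c59) Lrfl Lrfl
theorem f232287 : Led Lsl_ct (LP (LK LD1_c16 LD2_c19 LD3_c8)) = (LP (LK LD1_c8 LD2_c42 LD3_c40)) :=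
  Lre_c IH (LK LD1_c16 LD2_c19 LD3_c8) (LK LD1_c8 LD2_c42 LD3_c40) Lrfl Lrfl
theorem f400929 : Led Lsl_at (LP (LK LD1_c17 LD2_c53 LD3_c59)) = (LP (LK LD1_c16 LD2_c19 LD3_c8)) :=
  Lgr Lrot107 (Lpe (f168519 IH) (Lpr_af (f400924 IH) (Lpe (f232287 IH) (Lpn (LP (LK LD1_c16 LD2_c19 LD3_c8))))))
theorem f250752 : Led Lsl_ct (LP (LK LD1_c8 LD2_c42 LD3_c40)) = (LP (LK LD1_c16 LD2_c19 LD3_c8)) :=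
  Lre_c IH (LK LD1_c8 LD2_c42 LD3_c40) (LK LD1_c16 LD2_c19 LD3_c8) Lrfl Lrfl
theorem f400918 : Led Lsl_ff (LP (LK LD1_c15 LD2_c35 LD3_c28)) = (LP (LK LD1_c16 LD2_c19 LD3_c8)) :=
  Lgr Lrot23 (Lpr_ct (f220342 IH) (Lpr_ft (f400914 IH) (Lpr_ct (f250752 IH) (Lpn (LP (LK LD1_c16 LD2_c19 LD3_c8))))))
theorem f400965 : Led Lsl_at (LP (LK LD1_c15 LD2_c35 LD3_c28)) = (LP (LK LD1_c16 LD2_c19 LD3_c4)) :=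
  Lgr Lrot66 (Lpr_ff (f400918 IH) (Lpe (f400929 IH) (Lpr_ff (f400937 IH) (Lpn (LP (LK LD1_c16 LD2_c19 LD3_c4))))))
theorem f400862 : Led Lsl_et (LP (LK LD1_c15 LD2_c35 LD3_c29)) = (LP (LK LD1_c25 LD2_c29 LD3_c43)) :=
  Lre_e IH (LK LD1_c15 LD2_c35 LD3_c29) (LK LD1_c25 LD2_c29 LD3_c43) Lrfl Lrfl
theorem f299356 : Led Lsl_et (LP (LK LD1_c27 LD2_c25 LD3_c53)) = (LP (LK LD1_c17 LD2_c37 LD3_c46)) :=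
  Lre_e IH (LK LD1_c27 LD2_c25 LD3_c53) (LK LD1_c17 LD2_c37 LD3_c46) Lrfl Lrfl
theorem f400863 : Led Lsl_at (LP (LK LD1_c25 LD2_c29 LD3_c43)) = (LP (LK LD1_c27 LD2_c25 LD3_c53)) :=
  Lgr Lrot80 (Lpe (f400862 IH) (Lpr_af (f400856 IH) (Lpe (f299356 IH) (Lpn (LP (LK LD1_c27 LD2_c25 LD3_c53))))))
theorem f220460 : Led Lsl_ct (LP (LK LD1_c15 LD2_c35 LD3_c31)) = (LP (LK LD1_c25 LD2_c29 LD3_c43)) :=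
  Lre_c IH (LK LD1_c15 LD2_c35 LD3_c31) (LK LD1_c25 LD2_c29 LD3_c43) Lrfl Lrfl
theorem f236058 : Led Lsl_ct (LP (LK LD1_c9 LD2_c34 LD3_c51)) = (LP (LK LD1_c8 LD2_c16 LD3_c32)) :=
  Lgr Lrot59 (Lpr_cf (f236052 IH) (Lpn (LP (LK LD1_c8 LD2_c16 LD3_c32))))
theorem f236064 : Led Lsl_gt (LP (LK LD1_c15 LD2_c33 LD3_c37)) = (LP (LK LD1_c8 LD2_c16 LD3_c32)) :=
  Lre_g IH (LK LD1_c15 LD2_c33 LD3_c37) (LK LD1_c8 LD2_c16 LD3_c32) Lrfl Lrfl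
theorem f299308 : Led Lsl_bt (LP (LK LD1_c17 LD2_c37 LD3_c46)) = (LP (LK LD1_c9 LD2_c34 LD3_c27)) :=
  Lre_b IH (LK LD1_c17 LD2_c37 LD3_c46) (LK LD1_c9 LD2_c34 LD3_c27) Lrfl Lrfl
theorem f299309 : Led Lsl_cf (LP (LK LD1_c15 LD2_c33 LD3_c37)) = (LP (LK LD1_c17 LD2_c37 LD3_c46)) :=
  Lgr Lrot160 (Lpr_gt (f236064 IH) (Lpe (f236058 IH) (Lpr_bt (f2098 IH) (Lpe (K19.f246784 IH) (Lpr_ct (K13.f200382 IH) (Lpr_gt (K18.f299283 IH) (Lpe (K13.f186925 IH) (Lpr_bt (K26.f273 IH) (Lpr_gt (f274 IH) (Lpe (f299308 IH) (Lpn (LP (LK LD1_c17 LD2_c37 LD3_c46)))))))))))))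
theorem f299355 : Led Lsl_et (LP (LK LD1_c15 LD2_c33 LD3_c37)) = (LP (LK LD1_c25 LD2_c27 LD3_c13)) :=
  Lre_e IH (LK LD1_c15 LD2_c33 LD3_c37) (LK LD1_c25 LD2_c27 LD3_c13) Lrfl Lrfl
theorem f299357 : Led Lsl_ct (LP (LK LD1_c25 LD2_c27 LD3_c13)) = (LP (LK LD1_c27 LD2_c25 LD3_c53)) :=
  Lgr Lrot15 (Lpe (f299355 IH) (Lpr_cf (f299309 IH) (Lpe (f299356 IH) (Lpn (LP (LK LD1_c27 LD2_c25 LD3_c53))))))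
theorem f299360 : Led Lsl_cf (LP (LK LD1_c25 LD2_c27 LD3_c13)) = (LP (LK LD1_c27 LD2_c25 LD3_c53)) :=
  Lgr Lrot11 (Lpr_ct (f299357 IH) (Lpn (LP (LK LD1_c27 LD2_c25 LD3_c53))))
theorem f400867 : Led Lsl_af (LP (LK LD1_c15 LD2_c35 LD3_c31)) = (LP (LK LD1_c25 LD2_c27 LD3_c13)) :=
  Lgr Lrot68 (Lpr_ct (f220460 IH) (Lpr_at (f400863 IH) (Lpe (f299360 IH) (Lpn (LP (LK LD1_c25 LD2_c27 LD3_c13))))))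
theorem f400869 : Led Lsl_at (LP (LK LD1_c15 LD2_c35 LD3_c31)) = (LP (LK LD1_c25 LD2_c27 LD3_c13)) :=
  Lgr Lrot100 (Lpr_af (f400867 IH) (Lpn (LP (LK LD1_c25 LD2_c27 LD3_c13))))
theorem f400873 : Led Lsl_et (LP (LK LD1_c8 LD2_c17 LD3_c32)) = (LP (LK LD1_c15 LD2_c35 LD3_c31)) :=
  Lre_e IH (LK LD1_c8 LD2_c17 LD3_c32) (LK LD1_c15 LD2_c35 LD3_c31) Lrfl Lrfl
theorem f299364 : Led Lsl_et (LP (LK LD1_c25 LD2_c27 LD3_c13)) = (LP (LK LD1_c15 LD2_c33 LD3_c37)) :=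
  Lre_e IH (LK LD1_c25 LD2_c27 LD3_c13) (LK LD1_c15 LD2_c33 LD3_c37) Lrfl Lrfl
theorem f400874 : Led Lsl_af (LP (LK LD1_c8 LD2_c17 LD3_c32)) = (LP (LK LD1_c15 LD2_c33 LD3_c37)) :=
  Lgr Lrot50 (Lpr_et (f400873 IH) (Lpr_at (f400869 IH) (Lpr_et (f299364 IH) (Lpn (LP (LK LD1_c15 LD2_c33 LD3_c37))))))
theorem f236067 : Led Lsl_bt (LP (LK LD1_c25 LD2_c27 LD3_c12)) = (LP (LK LD1_c15 LD2_c33 LD3_c37)) :=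
  Lre_b IH (LK LD1_c25 LD2_c27 LD3_c12) (LK LD1_c15 LD2_c33 LD3_c37) Lrfl Lrfl
theorem f250713 : Led Lsl_bt (LP (LK LD1_c16 LD2_c19 LD3_c4)) = (LP (LK LD1_c26 LD2_c16 LD3_c55)) :=
  Lre_b IH (LK LD1_c16 LD2_c19 LD3_c4) (LK LD1_c26 LD2_c16 LD3_c55) Lrfl Lrfl
theorem f400967 : Led Lsl_af (LP (LK LD1_c25 LD2_c27 LD3_c12)) = (LP (LK LD1_c26 LD2_c16 LD3_c55)) :=
  Lgr Lrot36 (Lpr_bt (f236067 IH) (Lpe (f400874 IH) (Lpr_bt (f220444 IH) (Lpr_at (f400965 IH) (Lpr_bt (f250713 IH) (Lpn (LP (LK LD1_c26 LD2_c16 LD3_c55))))))))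
theorem f400879 : Led Lsl_ft (LP (LK LD1_c8 LD2_c17 LD3_c33)) = (LP (LK LD1_c15 LD2_c33 LD3_c37)) :=
  Lgr Lrot2 (Lpr_gt (K27.f220079 IH) (Lpr_gt (f53159 IH) (Lpr_af (f400874 IH) (Lpn (LP (LK LD1_c15 LD2_c33 LD3_c37))))))
theorem f394461 : Led Lsl_bt (LP (LK LD1_c15 LD2_c35 LD3_c32)) = (LP (LK LD1_c8 LD2_c17 LD3_c33)) :=
  Lre_b IH (LK LD1_c15 LD2_c35 LD3_c32) (LK LD1_c8 LD2_c17 LD3_c33) Lrfl Lrfl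
theorem f299350 : Led Lsl_bt (LP (LK LD1_c15 LD2_c33 LD3_c37)) = (LP (LK LD1_c25 LD2_c27 LD3_c12)) :=
  Lre_b IH (LK LD1_c15 LD2_c33 LD3_c37) (LK LD1_c25 LD2_c27 LD3_c12) Lrfl Lrfl
theorem f400881 : Led Lsl_ff (LP (LK LD1_c15 LD2_c35 LD3_c32)) = (LP (LK LD1_c25 LD2_c27 LD3_c12)) :=
  Lgr Lrot25 (Lpr_bt (f394461 IH) (Lpr_ft (f400879 IH) (Lpr_bt (f299350 IH) (Lpn (LP (LK LD1_c25 LD2_c27 LD3_c12))))))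
theorem f400884 : Led Lsl_at (LP (LK LD1_c15 LD2_c35 LD3_c32)) = (LP (LK LD1_c25 LD2_c29 LD3_c49)) :=
  Lre_a IH (LK LD1_c15 LD2_c35 LD3_c32) (LK LD1_c25 LD2_c29 LD3_c49) Lrfl Lrfl
theorem f400989 : Led Lsl_ft (LP (LK LD1_c25 LD2_c29 LD3_c49)) = (LP (LK LD1_c26 LD2_c16 LD3_c55)) :=
  Lgr Lrot101 (Lpe (f400884 IH) (Lpr_ff (f400881 IH) (Lpr_af (f400967 IH) (Lpn (LP (LK LD1_c26 LD2_c16 LD3_c55))))))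
theorem f400994 : Led Lsl_ff (LP (LK LD1_c25 LD2_c29 LD3_c49)) = (LP (LK LD1_c26 LD2_c16 LD3_c55)) :=
  Lgr Lrot3 (Lpr_ft (f400989 IH) (Lpn (LP (LK LD1_c26 LD2_c16 LD3_c55))))
theorem f400940 : Led Lsl_ff (LP (LK LD1_c9 LD2_c44 LD3_c49)) = (LP (LK LD1_c8 LD2_c42 LD3_c39)) :=
  Lgr Lrot3 (Lpr_ft (f400933 IH) (Lpn (LP (LK LD1_c8 LD2_c42 LD3_c39))))
theorem f250712 : Led Lsl_ct (LP (LK LD1_c16 LD2_c19 LD3_c4)) = (LP (LK LD1_c8 LD2_c42 LD3_c39)) :=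
  Lre_c IH (LK LD1_c16 LD2_c19 LD3_c4) (LK LD1_c8 LD2_c42 LD3_c39) Lrfl Lrfl
theorem f400951 : Led Lsl_ft (LP (LK LD1_c17 LD2_c53 LD3_c59)) = (LP (LK LD1_c16 LD2_c19 LD3_c4)) :=
  Lgr Lrot4 (Lpe (f168519 IH) (Lpr_ff (f400940 IH) (Lpe (f250712 IH) (Lpn (LP (LK LD1_c16 LD2_c19 LD3_c4))))))
theorem f400996 : Led Lsl_bt (LP (LK LD1_c25 LD2_c29 LD3_c49)) = (LP (LK LD1_c17 LD2_c53 LD3_c59)) :=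
  Lgr Lrot35 (Lpr_ff (f400994 IH) (Lpe (f250713 IH) (Lpe (f400951 IH) (Lpn (LP (LK LD1_c17 LD2_c53 LD3_c59))))))
theorem f243207 : Led Lsl_ct (LP (LK LD1_c15 LD2_c58 LD3_c35)) = (LP (LK LD1_c8 LD2_c30 LD3_c27)) :=
  Lre_c IH (LK LD1_c15 LD2_c58 LD3_c35) (LK LD1_c8 LD2_c30 LD3_c27) Lrfl Lrfl
theorem f243235 : Led Lsl_bt (LP (LK LD1_c15 LD2_c58 LD3_c35)) = (LP (LK LD1_c9 LD2_c44 LD3_c49)) :=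
  Lgr Lrot92 (Lpr_ct (f243207 IH) (Lpr_gt (K31.f243204 IH) (Lpr_cf (K27.f243194 IH) (Lpr_bt (K13.f243191 IH) (Lpe (K13.f238917 IH) (Lpr_ct (K16.f179540 IH) (Lpr_gt (K12.f216419 IH) (Lpe (K13.f168359 IH) (Lpr_bt (K19.f168455 IH) (Lpr_gt (f168461 IH) (Lpn (LP (LK LD1_c9 LD2_c44 LD3_c49)))))))))))))
theorem f243237 : Led Lsl_bf (LP (LK LD1_c15 LD2_c58 LD3_c35)) = (LP (LK LD1_c9 LD2_c44 LD3_c49)) :=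
  Lgr Lrot24 (Lpr_bt (f243235 IH) (Lpn (LP (LK LD1_c9 LD2_c44 LD3_c49))))
theorem f243241 : Led Lsl_bt (LP (LK LD1_c8 LD2_c30 LD3_c27)) = (LP (LK LD1_c15 LD2_c58 LD3_c34)) :=
  Lre_b IH (LK LD1_c8 LD2_c30 LD3_c27) (LK LD1_c15 LD2_c58 LD3_c34) Lrfl Lrfl
theorem f401004 : Led Lsl_cf (LP (LK LD1_c25 LD2_c29 LD3_c49)) = (LP (LK LD1_c15 LD2_c58 LD3_c34)) :=
  Lgr Lrot97 (Lpr_bt (f400996 IH) (Lpr_ct (f168522 IH) (Lpe (f243237 IH) (Lpr_ct (f243207 IH) (Lpr_bt (f243241 IH) (Lpn (LP (LK LD1_c15 LD2_c58 LD3_c34))))))))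
theorem f243217 : Led Lsl_bt (LP (LK LD1_c15 LD2_c58 LD3_c34)) = (LP (LK LD1_c8 LD2_c30 LD3_c27)) :=
  Lre_b IH (LK LD1_c15 LD2_c58 LD3_c34) (LK LD1_c8 LD2_c30 LD3_c27) Lrfl Lrfl
theorem f243383 : Led Lsl_bt (LP (LK LD1_c4 LD2_c15 LD3_c37)) = (LP (LK LD1_c8 LD2_c30 LD3_c11)) :=
  Lre_b IH (LK LD1_c4 LD2_c15 LD3_c37) (LK LD1_c8 LD2_c30 LD3_c11) Lrfl Lrfl
theorem f401014 : Led Lsl_gf (LP (LK LD1_c25 LD2_c29 LD3_c49)) = (LP (LK LD1_c25 LD2_c54 LD3_c53)) :=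
  Lgr Lrot129 (Lpr_cf (f401004 IH) (Lpr_bt (f243217 IH) (Lpr_gt (K31.f243204 IH) (Lpe (K13.f8012 IH) (Lpr_ct (K13.f197005 IH) (Lpr_gt (K15.f761 IH) (Lpe (K15.f243354 IH) (Lpr_bt (f243383 IH) (Lpr_gt (f263154 IH) (Lpr_ct (f400708 IH) (Lpn (LP (LK LD1_c25 LD2_c54 LD3_c53)))))))))))))
theorem f401009 : Led Lsl_ct (LP (LK LD1_c25 LD2_c29 LD3_c49)) = (LP (LK LD1_c15 LD2_c58 LD3_c34)) :=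
  Lgr Lrot59 (Lpr_cf (f401004 IH) (Lpn (LP (LK LD1_c15 LD2_c58 LD3_c34))))
theorem f401021 : Led Lsl_dt (LP (LK LD1_c15 LD2_c58 LD3_c34)) = (LP (LK LD1_c25 LD2_c55 LD3_c44)) :=
  Lre_d IH (LK LD1_c15 LD2_c58 LD3_c34) (LK LD1_c25 LD2_c55 LD3_c44) Lrfl Lrfl
theorem f423939 : Led Lsl_gt (LP (LK LD1_c25 LD2_c54 LD3_c26)) = (LP (LK LD1_c32 LD2_c1 LD3_c33)) :=
  Lre_g IH (LK LD1_c25 LD2_c54 LD3_c26) (LK LD1_c32 LD2_c1 LD3_c33) Lrfl Lrfl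
theorem f550671 : Led Lsl_cf (LP (LK LD1_c25 LD2_c55 LD3_c44)) = (LP (LK LD1_c32 LD2_c1 LD3_c33)) :=
  Lgr Lrot99 (Lpe (f401021 IH) (Lpe (f401009 IH) (Lpr_gf (f401014 IH) (Lpe (f400708 IH) (Lpe (f263154 IH) (Lpe (f295610 IH) (Lpr_gt (f550663 IH) (Lpr_ct (K36.f197631 IH) (Lpr_gt (f423939 IH) (Lpn (LP (LK LD1_c32 LD2_c1 LD3_c33))))))))))))
theorem f550674 : Led Lsl_ct (LP (LK LD1_c25 LD2_c55 LD3_c44)) = (LP (LK LD1_c32 LD2_c1 LD3_c33)) :=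
  Lgr Lrot59 (Lpr_cf (f550671 IH) (Lpn (LP (LK LD1_c32 LD2_c1 LD3_c33))))
theorem f399127 : Led Lsl_bt (LP (LK LD1_c25 LD2_c55 LD3_c44)) = (LP (LK LD1_c15 LD2_c58 LD3_c36)) :=
  Lre_b IH (LK LD1_c25 LD2_c55 LD3_c44) (LK LD1_c15 LD2_c58 LD3_c36) Lrfl Lrfl
theorem f262906 : Led Lsl_bt (LP (LK LD1_c8 LD2_c29 LD3_c54)) = (LP (LK LD1_c15 LD2_c57 LD3_c21)) :=
  Lre_b IH (LK LD1_c8 LD2_c29 LD3_c54) (LK LD1_c15 LD2_c57 LD3_c21) Lrfl Lrfl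
theorem f550677 : Led Lsl_gt (LP (LK LD1_c15 LD2_c58 LD3_c36)) = (LP (LK LD1_c15 LD2_c57 LD3_c21)) :=
  Lgr Lrot164 (Lpe (f399127 IH) (Lpr_ct (f550674 IH) (Lpe (f423939 IH) (Lpe (K36.f197631 IH) (Lpe (f550663 IH) (Lpe (K18.f244727 IH) (Lpr_ct (K16.f244708 IH) (Lpr_gf (K16.f261472 IH) (Lpe (K15.f262890 IH) (Lpr_bt (f262906 IH) (Lpn (LP (LK LD1_c15 LD2_c57 LD3_c21)))))))))))))
theorem f234795 : Led Lsl_dt (LP (LK LD1_c19 LD2_c39 LD3_c32)) = (LP (LK LD1_c10 LD2_c52 LD3_c24)) :=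
  Lre_d IH (LK LD1_c19 LD2_c39 LD3_c32) (LK LD1_c10 LD2_c52 LD3_c24) Lrfl Lrfl
theorem f550682 : Led Lsl_gf (LP (LK LD1_c19 LD2_c19 LD3_c42)) = (LP (LK LD1_c19 LD2_c39 LD3_c32)) :=
  Lgr Lrot147 (Lpr_ct (K31.f399111 IH) (Lpr_gt (f550677 IH) (Lpr_ct (f229773 IH) (Lpe (f395689 IH) (Lpr_cf (f395669 IH) (Lpe (K31.f395663 IH) (Lpe (K31.f221799 IH) (Lpr_gf (K31.f339350 IH) (Lpe (f234795 IH) (Lpn (LP (LK LD1_c19 LD2_c39 LD3_c32))))))))))))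
theorem f373682 : Led Lsl_dt (LP (LK LD1_c19 LD2_c19 LD3_c42)) = (LP (LK LD1_c10 LD2_c40 LD3_c26)) :=
  Lre_d IH (LK LD1_c19 LD2_c19 LD3_c42) (LK LD1_c10 LD2_c40 LD3_c26) Lrfl Lrfl
theorem f373314 : Led Lsl_dt (LP (LK LD1_c10 LD2_c40 LD3_c27)) = (LP (LK LD1_c5 LD2_c24 LD3_c53)) :=
  Lre_d IH (LK LD1_c10 LD2_c40 LD3_c27) (LK LD1_c5 LD2_c24 LD3_c53) Lrfl Lrfl
theorem f550686 : Led Lsl_gf (LP (LK LD1_c10 LD2_c40 LD3_c27)) = (LP (LK LD1_c17 LD2_c44 LD3_c4)) :=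
  Lgr Lrot143 (Lpr_dt (f373314 IH) (Lpe (K27.f373275 IH) (Lpe (f373682 IH) (Lpr_gf (f550682 IH) (Lpe (f234791 IH) (Lpe (K30.f234789 IH) (Lpr_cf (K30.f339391 IH) (Lpr_gt (K16.f216308 IH) (Lpe (K16.f238977 IH) (Lpn (LP (LK LD1_c17 LD2_c44 LD3_c4))))))))))))
theorem f224975 : Led Lsl_dt (LP (LK LD1_c14 LD2_c57 LD3_c19)) = (LP (LK LD1_c17 LD2_c44 LD3_c38)) :=
  Lgr Lrot42 (Lpr_df (K27.f224971 IH) (Lpn (LP (LK LD1_c17 LD2_c44 LD3_c38))))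
theorem f223583 : Led Lsl_bt (LP (LK LD1_c2 LD2_c8 LD3_c16)) = (LP (LK LD1_c4 LD2_c21 LD3_c32)) :=
  Lre_b IH (LK LD1_c2 LD2_c8 LD3_c16) (LK LD1_c4 LD2_c21 LD3_c32) Lrfl Lrfl
theorem f262587 : Led Lsl_ft (LP (LK LD1_c4 LD2_c21 LD3_c32)) = (LP (LK LD1_c7 LD2_c55 LD3_c38)) :=
  Lgr Lrot75 (Lpe (f223583 IH) (Lpr_ff (K15.f262585 IH) (Lpe (K15.f197688 IH) (Lpn (LP (LK LD1_c7 LD2_c55 LD3_c38))))))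
theorem f223584 : Led Lsl_gt (LP (LK LD1_c4 LD2_c21 LD3_c32)) = (LP (LK LD1_c8 LD2_c40 LD3_c38)) :=
  Lre_g IH (LK LD1_c4 LD2_c21 LD3_c32) (LK LD1_c8 LD2_c40 LD3_c38) Lrfl Lrfl
theorem f413103 : Led Lsl_gt (LP (LK LD1_c8 LD2_c40 LD3_c38)) = (LP (LK LD1_c14 LD2_c57 LD3_c19)) :=
  Lgr Lrot46 (Lpe (f223584 IH) (Lpr_ft (f262587 IH) (Lpr_at (K15.f197684 IH) (Lpn (LP (LK LD1_c14 LD2_c57 LD3_c19))))))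
theorem f401018 : Led Lsl_dt (LP (LK LD1_c16 LD2_c15 LD3_c2)) = (LP (LK LD1_c8 LD2_c40 LD3_c38)) :=
  Lre_d IH (LK LD1_c16 LD2_c15 LD3_c2) (LK LD1_c8 LD2_c40 LD3_c38) Lrfl Lrfl
theorem f550690 : Led Lsl_gf (LP (LK LD1_c16 LD2_c15 LD3_c2)) = (LP (LK LD1_c9 LD2_c38 LD3_c11)) :=
  Lgr Lrot144 (Lpr_dt (f401018 IH) (Lpr_gt (f413103 IH) (Lpr_dt (f224975 IH) (Lpr_cf (K27.f373742 IH) (Lpe (K27.f373707 IH) (Lpe (K31.f374645 IH) (Lpe (f373314 IH) (Lpr_gf (f550686 IH) (Lpe (K16.f229455 IH) (Lpn (LP (LK LD1_c9 LD2_c38 LD3_c11))))))))))))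
theorem f269631 : Led Lsl_bt (LP (LK LD1_c8 LD2_c41 LD3_c11)) = (LP (LK LD1_c4 LD2_c21 LD3_c48)) :=
  Lre_b IH (LK LD1_c8 LD2_c41 LD3_c11) (LK LD1_c4 LD2_c21 LD3_c48) Lrfl Lrfl
theorem f229867 : Led Lsl_bt (LP (LK LD1_c4 LD2_c53 LD3_c7)) = (LP (LK LD1_c9 LD2_c38 LD3_c11)) :=
  Lre_b IH (LK LD1_c4 LD2_c53 LD3_c7) (LK LD1_c9 LD2_c38 LD3_c11) Lrfl Lrfl
theorem f270050 : Led Lsl_ff (LP (LK LD1_c8 LD2_c41 LD3_c11)) = (LP (LK LD1_c9 LD2_c38 LD3_c11)) :=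
  Lgr Lrot25 (Lpr_bt (f269631 IH) (Lpr_ft (K16.f270046 IH) (Lpr_bt (f229867 IH) (Lpn (LP (LK LD1_c9 LD2_c38 LD3_c11))))))
theorem f326240 : Led Lsl_at (LP (LK LD1_c8 LD2_c41 LD3_c11)) = (LP (LK LD1_c16 LD2_c16 LD3_c9)) :=
  Lre_a IH (LK LD1_c8 LD2_c41 LD3_c11) (LK LD1_c16 LD2_c16 LD3_c9) Lrfl Lrfl
theorem f550692 : Led Lsl_gt (LP (LK LD1_c16 LD2_c15 LD3_c2)) = (LP (LK LD1_c16 LD2_c16 LD3_c9)) :=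
  Lgr Lrot46 (Lpr_gf (f550690 IH) (Lpe (f270050 IH) (Lpr_at (f326240 IH) (Lpn (LP (LK LD1_c16 LD2_c16 LD3_c9))))))
theorem f223585 : Led Lsl_dt (LP (LK LD1_c8 LD2_c40 LD3_c38)) = (LP (LK LD1_c16 LD2_c15 LD3_c2)) :=
  Lre_d IH (LK LD1_c8 LD2_c40 LD3_c38) (LK LD1_c16 LD2_c15 LD3_c2) Lrfl Lrfl
theorem f260532 : Led Lsl_dt (LP (LK LD1_c16 LD2_c16 LD3_c9)) = (LP (LK LD1_c8 LD2_c41 LD3_c10)) :=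
  Lre_d IH (LK LD1_c16 LD2_c16 LD3_c9) (LK LD1_c8 LD2_c41 LD3_c10) Lrfl Lrfl
theorem f550716 : Led Lsl_gt (LP (LK LD1_c15 LD2_c58 LD3_c32)) = (LP (LK LD1_c15 LD2_c59 LD3_c45)) :=
  Lgr Lrot49 (Lpe (f8014 IH) (Lpe (f8013 IH) (Lpr_cf (K27.f243194 IH) (Lpr_gt (f223584 IH) (Lpr_dt (f223585 IH) (Lpr_gt (f550692 IH) (Lpr_dt (f260532 IH) (Lpe (K16.f260528 IH) (Lpe (K16.f260535 IH) (Lpn (LP (LK LD1_c15 LD2_c59 LD3_c45))))))))))))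
theorem f234737 : Led Lsl_gt (LP (LK LD1_c25 LD2_c4 LD3_c58)) = (LP (LK LD1_c15 LD2_c15 LD3_c35)) :=
  Lre_g IH (LK LD1_c25 LD2_c4 LD3_c58) (LK LD1_c15 LD2_c15 LD3_c35) Lrfl Lrfl
theorem f260531 : Led Lsl_ct (LP (LK LD1_c15 LD2_c59 LD3_c45)) = (LP (LK LD1_c25 LD2_c56 LD3_c58)) :=
  Lre_c IH (LK LD1_c15 LD2_c59 LD3_c45) (LK LD1_c25 LD2_c56 LD3_c58) Lrfl Lrfl
theorem f270437 : Led Lsl_df (LP (LK LD1_c27 LD2_c35 LD3_c59)) = (LP (LK LD1_c25 LD2_c56 LD3_c58)) :=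
  Lgr Lrot38 (Lpr_dt (K16.f270435 IH) (Lpn (LP (LK LD1_c25 LD2_c56 LD3_c58))))
theorem f224412 : Led Lsl_ct (LP (LK LD1_c10 LD2_c37 LD3_c48)) = (LP (LK LD1_c19 LD2_c15 LD3_c9)) :=
  Lre_c IH (LK LD1_c10 LD2_c37 LD3_c48) (LK LD1_c19 LD2_c15 LD3_c9) Lrfl Lrfl
theorem f395647 : Led Lsl_gf (LP (LK LD1_c15 LD2_c33 LD3_c19)) = (LP (LK LD1_c19 LD2_c15 LD3_c9)) :=
  Lgr Lrot129 (Lpr_cf (K30.f339391 IH) (Lpr_bt (K22.f214019 IH) (Lpr_gt (K15.f224403 IH) (Lpe (K17.f171978 IH) (Lpe (K17.f289075 IH) (Lpr_gt (K30.f289088 IH) (Lpe (K30.f289091 IH) (Lpr_bt (K30.f289092 IH) (Lpr_gt (K30.f224423 IH) (Lpr_ct (f224412 IH) (Lpn (LP (LK LD1_c19 LD2_c15 LD3_c9)))))))))))))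
theorem f550724 : Led Lsl_df (LP (LK LD1_c25 LD2_c4 LD3_c58)) = (LP (LK LD1_c19 LD2_c15 LD3_c9)) :=
  Lgr Lrot155 (Lpr_gt (f234737 IH) (Lpe (f399170 IH) (Lpr_gt (f550716 IH) (Lpr_ct (f260531 IH) (Lpe (f270437 IH) (Lpe (K16.f224124 IH) (Lpe (K16.f216308 IH) (Lpe (K22.f214020 IH) (Lpr_gf (f395647 IH) (Lpn (LP (LK LD1_c19 LD2_c15 LD3_c9))))))))))))
theorem f395649 : Led Lsl_gt (LP (LK LD1_c15 LD2_c36 LD3_c45)) = (LP (LK LD1_c19 LD2_c15 LD3_c9)) :=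
  Lgr Lrot5 (Lpr_ft (K23.f339345 IH) (Lpr_at (K23.f234853 IH) (Lpr_gf (f395647 IH) (Lpn (LP (LK LD1_c19 LD2_c15 LD3_c9))))))
theorem f339369 : Led Lsl_df (LP (LK LD1_c15 LD2_c36 LD3_c45)) = (LP (LK LD1_c25 LD2_c5 LD3_c38)) :=
  Lgr Lrot38 (Lpr_dt (K23.f339364 IH) (Lpn (LP (LK LD1_c25 LD2_c5 LD3_c38))))
theorem f398954 : Led Lsl_ff (LP (LK LD1_c25 LD2_c58 LD3_c5)) = (LP (LK LD1_c26 LD2_c13 LD3_c58)) :=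
  Lgr Lrot3 (Lpr_ft (K31.f398948 IH) (Lpn (LP (LK LD1_c26 LD2_c13 LD3_c58))))
theorem f398956 : Led Lsl_gf (LP (LK LD1_c26 LD2_c13 LD3_c55)) = (LP (LK LD1_c25 LD2_c43 LD3_c56)) :=
  Lgr Lrot76 (Lpe (K31.f398767 IH) (Lpr_ff (f398954 IH) (Lpe (K30.f398390 IH) (Lpn (LP (LK LD1_c25 LD2_c43 LD3_c56))))))
theorem f397914 : Led Lsl_dt (LP (LK LD1_c16 LD2_c1 LD3_c44)) = (LP (LK LD1_c25 LD2_c59 LD3_c11)) :=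
  Lre_d IH (LK LD1_c16 LD2_c1 LD3_c44) (LK LD1_c25 LD2_c59 LD3_c11) Lrfl Lrfl
theorem f550731 : Led Lsl_cf (LP (LK LD1_c25 LD2_c4 LD3_c58)) = (LP (LK LD1_c25 LD2_c59 LD3_c11)) :=
  Lgr Lrot14 (Lpr_df (f550724 IH) (Lpe (f395649 IH) (Lpr_df (f339369 IH) (Lpr_gf (K30.f396903 IH) (Lpr_ct (K30.f254797 IH) (Lpe (f398956 IH) (Lpr_dt (K31.f397928 IH) (Lpr_gt (K31.f397924 IH) (Lpr_dt (f397914 IH) (Lpn (LP (LK LD1_c25 LD2_c59 LD3_c11))))))))))))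
theorem f550722 : Led Lsl_dt (LP (LK LD1_c25 LD2_c4 LD3_c58)) = (LP (LK LD1_c19 LD2_c15 LD3_c9)) :=
  Lgr Lrot6 (Lpr_gt (f234737 IH) (Lpe (f399170 IH) (Lpr_gt (f550716 IH) (Lpr_ct (f260531 IH) (Lpe (K16.f270435 IH) (Lpe (K16.f224124 IH) (Lpe (K16.f216308 IH) (Lpe (K22.f214020 IH) (Lpr_gf (f395647 IH) (Lpn (LP (LK LD1_c19 LD2_c15 LD3_c9))))))))))))
theorem f382935 : Led Lsl_ct (LP (LK LD1_c19 LD2_c15 LD3_c9)) = (LP (LK LD1_c10 LD2_c37 LD3_c48)) :=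
  Lre_c IH (LK LD1_c19 LD2_c15 LD3_c9) (LK LD1_c10 LD2_c37 LD3_c48) Lrfl Lrfl
theorem f289106 : Led Lsl_dt (LP (LK LD1_c10 LD2_c37 LD3_c48)) = (LP (LK LD1_c19 LD2_c15 LD3_c10)) :=
  Lre_d IH (LK LD1_c10 LD2_c37 LD3_c48) (LK LD1_c19 LD2_c15 LD3_c10) Lrfl Lrfl
theorem f397562 : Led Lsl_dt (LP (LK LD1_c16 LD2_c18 LD3_c4)) = (LP (LK LD1_c8 LD2_c42 LD3_c7)) :=
  Lre_d IH (LK LD1_c16 LD2_c18 LD3_c4) (LK LD1_c8 LD2_c42 LD3_c7) Lrfl Lrfl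
theorem f397563 : Led Lsl_dt (LP (LK LD1_c8 LD2_c42 LD3_c7)) = (LP (LK LD1_c16 LD2_c18 LD3_c4)) :=
  Lre_d IH (LK LD1_c8 LD2_c42 LD3_c7) (LK LD1_c16 LD2_c18 LD3_c4) Lrfl Lrfl
theorem f550518 : Led Lsl_ft (LP (LK LD1_c16 LD2_c18 LD3_c4)) = (LP (LK LD1_c19 LD2_c19 LD3_c56)) :=
  Lgr Lrot54 (Lpe (f397563 IH) (Lpe (K30.f397632 IH) (Lpr_df (f550510 IH) (Lpn (LP (LK LD1_c19 LD2_c19 LD3_c56))))))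
theorem f167063 : Led Lsl_dt (LP (LK LD1_c17 LD2_c45 LD3_c21)) = (LP (LK LD1_c9 LD2_c39 LD3_c8)) :=
  Lre_d IH (LK LD1_c17 LD2_c45 LD3_c21) (LK LD1_c9 LD2_c39 LD3_c8) Lrfl Lrfl
theorem f550528 : Led Lsl_af (LP (LK LD1_c17 LD2_c45 LD3_c21)) = (LP (LK LD1_c19 LD2_c19 LD3_c56)) :=
  Lgr Lrot117 (Lpr_dt (f167063 IH) (Lpe (K30.f397607 IH) (Lpr_dt (f550516 IH) (Lpn (LP (LK LD1_c19 LD2_c19 LD3_c56))))))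
theorem f550735 : Led Lsl_ct (LP (LK LD1_c19 LD2_c15 LD3_c10)) = (LP (LK LD1_c17 LD2_c45 LD3_c21)) :=
  Lgr Lrot98 (Lpe (f289106 IH) (Lpe (f382935 IH) (Lpe (f550722 IH) (Lpr_cf (f550731 IH) (Lpe (f397914 IH) (Lpe (K31.f397919 IH) (Lpe (f397562 IH) (Lpr_ft (f550518 IH) (Lpe (f550528 IH) (Lpn (LP (LK LD1_c17 LD2_c45 LD3_c21))))))))))))
theorem f550740 : Led Lsl_cf (LP (LK LD1_c19 LD2_c15 LD3_c10)) = (LP (LK LD1_c17 LD2_c45 LD3_c21)) :=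
  Lgr Lrot11 (Lpr_ct (f550735 IH) (Lpn (LP (LK LD1_c17 LD2_c45 LD3_c21))))
theorem f395651 : Led Lsl_dt (LP (LK LD1_c19 LD2_c15 LD3_c10)) = (LP (LK LD1_c10 LD2_c37 LD3_c48)) :=
  Lre_d IH (LK LD1_c19 LD2_c15 LD3_c10) (LK LD1_c10 LD2_c37 LD3_c48) Lrfl Lrfl
theorem f167068 : Led Lsl_dt (LP (LK LD1_c9 LD2_c39 LD3_c8)) = (LP (LK LD1_c17 LD2_c45 LD3_c21)) :=
  Lre_d IH (LK LD1_c9 LD2_c39 LD3_c8) (LK LD1_c17 LD2_c45 LD3_c21) Lrfl Lrfl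
theorem f167066 : Led Lsl_dt (LP (LK LD1_c25 LD2_c43 LD3_c53)) = (LP (LK LD1_c15 LD2_c47 LD3_c7)) :=
  Lre_d IH (LK LD1_c25 LD2_c43 LD3_c53) (LK LD1_c15 LD2_c47 LD3_c7) Lrfl Lrfl
theorem f550412 : Led Lsl_ff (LP (LK LD1_c15 LD2_c36 LD3_c43)) = (LP (LK LD1_c10 LD2_c52 LD3_c24)) :=
  Lgr Lrot19 (Lpe (f550380 IH) (Lpr_ft (f550408 IH) (Lpr_dt (f234795 IH) (Lpn (LP (LK LD1_c10 LD2_c52 LD3_c24))))))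
theorem f550747 : Led Lsl_af (LP (LK LD1_c19 LD2_c15 LD3_c9)) = (LP (LK LD1_c15 LD2_c36 LD3_c43)) :=
  Lgr Lrot109 (Lpe (f224412 IH) (Lpe (f395651 IH) (Lpr_cf (f550740 IH) (Lpe (f167068 IH) (Lpe (K30.f167053 IH) (Lpe (f167066 IH) (Lpe (f398276 IH) (Lpe (f234791 IH) (Lpe (f550412 IH) (Lpn (LP (LK LD1_c15 LD2_c36 LD3_c43))))))))))))
theorem f550753 : Led Lsl_at (LP (LK LD1_c19 LD2_c15 LD3_c9)) = (LP (LK LD1_c15 LD2_c36 LD3_c43)) :=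
  Lgr Lrot100 (Lpr_af (f550747 IH) (Lpn (LP (LK LD1_c15 LD2_c36 LD3_c43))))
theorem f550757 : Led Lsl_ff (LP (LK LD1_c19 LD2_c15 LD3_c9)) = (LP (LK LD1_c15 LD2_c36 LD3_c44)) :=
  Lgr Lrot30 (Lpr_at (f550753 IH) (Lpr_ft (f550418 IH) (Lpe (f550425 IH) (Lpn (LP (LK LD1_c15 LD2_c36 LD3_c44))))))
theorem f550761 : Led Lsl_ft (LP (LK LD1_c19 LD2_c15 LD3_c9)) = (LP (LK LD1_c15 LD2_c36 LD3_c44)) :=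
  Lgr Lrot48 (Lpr_ff (f550757 IH) (Lpn (LP (LK LD1_c15 LD2_c36 LD3_c44))))
theorem f224826 : Led Lsl_cf (LP (LK LD1_c19 LD2_c3 LD3_c38)) = (LP (LK LD1_c15 LD2_c36 LD3_c44)) :=
  Lgr Lrot11 (Lpr_ct (f224822 IH) (Lpn (LP (LK LD1_c15 LD2_c36 LD3_c44))))
theorem f550765 : Led Lsl_ff (LP (LK LD1_c10 LD2_c37 LD3_c48)) = (LP (LK LD1_c19 LD2_c3 LD3_c38)) :=
  Lgr Lrot23 (Lpr_ct (f224412 IH) (Lpr_ft (f550761 IH) (Lpe (f224826 IH) (Lpn (LP (LK LD1_c19 LD2_c3 LD3_c38))))))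
theorem f382947 : Led Lsl_at (LP (LK LD1_c10 LD2_c37 LD3_c48)) = (LP (LK LD1_c19 LD2_c15 LD3_c8)) :=
  Lre_a IH (LK LD1_c10 LD2_c37 LD3_c48) (LK LD1_c19 LD2_c15 LD3_c8) Lrfl Lrfl
theorem f399093 : Led Lsl_dt (LP (LK LD1_c25 LD2_c55 LD3_c53)) = (LP (LK LD1_c25 LD2_c26 LD3_c53)) :=
  Lgr Lrot173 (Lpe (K31.f373985 IH) (Lpr_df (K31.f399087 IH) (Lpe (K30.f260562 IH) (Lpr_df (K31.f397079 IH) (Lpe (K31.f218769 IH) (Lpr_df (K30.f221781 IH) (Lpe (K30.f221787 IH) (Lpr_df (K23.f339358 IH) (Lpe (K31.f398407 IH) (Lpr_df (K31.f398398 IH) (Lpe (K30.f260558 IH) (Lpr_df (K31.f397060 IH) (Lpe (K30.f224129 IH) (Lpr_df (K31.f224121 IH) (Lpr_cf (f351747 IH) (Lpn (LP (LK LD1_c25 LD2_c26 LD3_c53))))))))))))))))))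
theorem f398376 : Led Lsl_ct (LP (LK LD1_c25 LD2_c58 LD3_c5)) = (LP (LK LD1_c28 LD2_c44 LD3_c44)) :=
  Lgr Lrot59 (Lpr_cf (K31.f398373 IH) (Lpn (LP (LK LD1_c28 LD2_c44 LD3_c44))))
theorem f399172 : Led Lsl_gt (LP (LK LD1_c19 LD2_c3 LD3_c38)) = (LP (LK LD1_c28 LD2_c29 LD3_c47)) :=
  Lgr Lrot150 (Lpr_cf (f224826 IH) (Lpr_gf (f351751 IH) (Lpe (f399093 IH) (Lpr_gt (f399162 IH) (Lpr_ct (f373716 IH) (Lpr_gt (f399156 IH) (Lpr_ct (f398376 IH) (Lpe (K31.f396913 IH) (Lpr_cf (K31.f395714 IH) (Lpn (LP (LK LD1_c28 LD2_c29 LD3_c47))))))))))))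
theorem f550771 : Led Lsl_gf (LP (LK LD1_c19 LD2_c15 LD3_c8)) = (LP (LK LD1_c28 LD2_c29 LD3_c47)) :=
  Lgr Lrot76 (Lpe (f382947 IH) (Lpr_ff (f550765 IH) (Lpr_gt (f399172 IH) (Lpn (LP (LK LD1_c28 LD2_c29 LD3_c47))))))
theorem f398348 : Led Lsl_bt (LP (LK LD1_c8 LD2_c42 LD3_c9)) = (LP (LK LD1_c16 LD2_c18 LD3_c4)) :=
  Lre_b IH (LK LD1_c8 LD2_c42 LD3_c9) (LK LD1_c16 LD2_c18 LD3_c4) Lrfl Lrfl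
theorem f550520 : Led Lsl_ft (LP (LK LD1_c16 LD2_c17 LD3_c52)) = (LP (LK LD1_c8 LD2_c42 LD3_c9)) :=
  Lre_f IH (LK LD1_c16 LD2_c17 LD3_c52) (LK LD1_c8 LD2_c42 LD3_c9) Lrfl Lrfl
theorem f550521 : Led Lsl_bf (LP (LK LD1_c16 LD2_c17 LD3_c52)) = (LP (LK LD1_c19 LD2_c19 LD3_c56)) :=
  Lgr Lrot61 (Lpr_ft (f550520 IH) (Lpr_bt (f398348 IH) (Lpr_ft (f550518 IH) (Lpn (LP (LK LD1_c19 LD2_c19 LD3_c56))))))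
theorem f256992 : Led Lsl_bt (LP (LK LD1_c19 LD2_c3 LD3_c34)) = (LP (LK LD1_c28 LD2_c29 LD3_c47)) :=
  Lre_b IH (LK LD1_c19 LD2_c3 LD3_c34) (LK LD1_c28 LD2_c29 LD3_c47) Lrfl Lrfl
theorem f292274 : Led Lsl_gf (LP (LK LD1_c15 LD2_c18 LD3_c33)) = (LP (LK LD1_c15 LD2_c41 LD3_c55)) :=
  Lgr Lrot47 (Lpr_gt (K30.f227120 IH) (Lpe (K31.f227110 IH) (Lpr_ff (K31.f292264 IH) (Lpn (LP (LK LD1_c15 LD2_c41 LD3_c55))))))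
theorem f319225 : Led Lsl_bt (LP (LK LD1_c9 LD2_c0 LD3_c0)) = (LP (LK LD1_c8 LD2_c7 LD3_c56)) :=
  Lgr Lrot127 (Lpr_bf (K30.f319221 IH) (Lpn (LP (LK LD1_c8 LD2_c7 LD3_c56))))
theorem f396735 : Led Lsl_gf (LP (LK LD1_c9 LD2_c37 LD3_c34)) = (LP (LK LD1_c8 LD2_c7 LD3_c56)) :=
  Lgr Lrot181 (Lpe (K31.f170800 IH) (Lpe (f292274 IH) (Lpe (K30.f243663 IH) (Lpr_bt (K30.f243662 IH) (Lpr_gt (K30.f396727 IH) (Lpr_bf (K30.f354533 IH) (Lpr_ct (K30.f179490 IH) (Lpe (K30.f354515 IH) (Lpe (K30.f319145 IH) (Lpr_bt (f319225 IH) (Lpn (LP (LK LD1_c8 LD2_c7 LD3_c56)))))))))))))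
theorem f293004 : Led Lsl_ff (LP (LK LD1_c8 LD2_c53 LD3_c59)) = (LP (LK LD1_c15 LD2_c17 LD3_c37)) :=
  Lgr Lrot23 (Lpe (K17.f292888 IH) (Lpr_ft (K17.f292996 IH) (Lpr_ct (K16.f200989 IH) (Lpn (LP (LK LD1_c15 LD2_c17 LD3_c37))))))
theorem f293011 : Led Lsl_at (LP (LK LD1_c8 LD2_c53 LD3_c59)) = (LP (LK LD1_c4 LD2_c27 LD3_c60)) :=
  Lre_a IH (LK LD1_c8 LD2_c53 LD3_c59) (LK LD1_c4 LD2_c27 LD3_c60) Lrfl Lrfl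
theorem f191923 : Led Lsl_gt (LP (LK LD1_c8 LD2_c53 LD3_c58)) = (LP (LK LD1_c4 LD2_c27 LD3_c60)) :=
  Lre_g IH (LK LD1_c8 LD2_c53 LD3_c58) (LK LD1_c4 LD2_c27 LD3_c60) Lrfl Lrfl
theorem f293013 : Led Lsl_gf (LP (LK LD1_c8 LD2_c53 LD3_c58)) = (LP (LK LD1_c15 LD2_c17 LD3_c37)) :=
  Lgr Lrot47 (Lpr_gt (f191923 IH) (Lpe (f293011 IH) (Lpr_ff (f293004 IH) (Lpn (LP (LK LD1_c15 LD2_c17 LD3_c37))))))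
theorem f223738 : Led Lsl_gt (LP (LK LD1_c4 LD2_c4 LD3_c25)) = (LP (LK LD1_c8 LD2_c9 LD3_c45)) :=
  Lre_g IH (LK LD1_c4 LD2_c4 LD3_c25) (LK LD1_c8 LD2_c9 LD3_c45) Lrfl Lrfl
theorem f314870 : Led Lsl_gt (LP (LK LD1_c8 LD2_c9 LD3_c45)) = (LP (LK LD1_c5 LD2_c39 LD3_c6)) :=
  Lgr Lrot46 (Lpe (f223738 IH) (Lpr_ft (K19.f314860 IH) (Lpr_at (K30.f179489 IH) (Lpn (LP (LK LD1_c5 LD2_c39 LD3_c6))))))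
theorem f244106 : Led Lsl_bt (LP (LK LD1_c15 LD2_c22 LD3_c28)) = (LP (LK LD1_c8 LD2_c9 LD3_c45)) :=
  Lre_b IH (LK LD1_c15 LD2_c22 LD3_c28) (LK LD1_c8 LD2_c9 LD3_c45) Lrfl Lrfl
theorem f401188 : Led Lsl_cf (LP (LK LD1_c8 LD2_c53 LD3_c58)) = (LP (LK LD1_c15 LD2_c22 LD3_c28)) :=
  Lgr Lrot58 (Lpr_gf (f293013 IH) (Lpe (K16.f200989 IH) (Lpe (K17.f293002 IH) (Lpr_gf (f396735 IH) (Lpe (f319225 IH) (Lpr_ct (K30.f319145 IH) (Lpr_gf (K30.f354515 IH) (Lpe (K30.f179490 IH) (Lpe (f314870 IH) (Lpe (f244106 IH) (Lpn (LP (LK LD1_c15 LD2_c22 LD3_c28)))))))))))))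
theorem f401199 : Led Lsl_gt (LP (LK LD1_c25 LD2_c14 LD3_c15)) = (LP (LK LD1_c15 LD2_c22 LD3_c28)) :=
  Lre_g IH (LK LD1_c25 LD2_c14 LD3_c15) (LK LD1_c15 LD2_c22 LD3_c28) Lrfl Lrfl
theorem f401206 : Led Lsl_bt (LP (LK LD1_c25 LD2_c49 LD3_c16)) = (LP (LK LD1_c25 LD2_c14 LD3_c15)) :=
  Lgr Lrot130 (Lpr_ct (K31.f391243 IH) (Lpe (K31.f256930 IH) (Lpe (K31.f256931 IH) (Lpr_bt (K31.f244044 IH) (Lpe (K15.f243958 IH) (Lpe (K17.f200715 IH) (Lpr_ct (K17.f292893 IH) (Lpe (f191923 IH) (Lpr_cf (f401188 IH) (Lpe (f401199 IH) (Lpn (LP (LK LD1_c25 LD2_c14 LD3_c15)))))))))))))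
theorem f391253 : Led Lsl_ff (LP (LK LD1_c25 LD2_c49 LD3_c16)) = (LP (LK LD1_c19 LD2_c11 LD3_c57)) :=
  Lgr Lrot3 (Lpr_ft (K31.f391247 IH) (Lpn (LP (LK LD1_c19 LD2_c11 LD3_c57))))
theorem f388132 : Led Lsl_bt (LP (LK LD1_c20 LD2_c3 LD3_c6)) = (LP (LK LD1_c19 LD2_c11 LD3_c57)) :=
  Lgr Lrot127 (Lpr_bf (K31.f388129 IH) (Lpn (LP (LK LD1_c19 LD2_c11 LD3_c57))))
theorem f401214 : Led Lsl_ff (LP (LK LD1_c20 LD2_c3 LD3_c6)) = (LP (LK LD1_c25 LD2_c14 LD3_c15)) :=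
  Lgr Lrot25 (Lpr_bt (f388132 IH) (Lpe (f391253 IH) (Lpr_bt (f401206 IH) (Lpn (LP (LK LD1_c25 LD2_c14 LD3_c15))))))
theorem f401222 : Led Lsl_gf (LP (LK LD1_c25 LD2_c8 LD3_c34)) = (LP (LK LD1_c15 LD2_c22 LD3_c28)) :=
  Lgr Lrot76 (Lpe (K31.f391144 IH) (Lpr_ff (f401214 IH) (Lpr_gt (f401199 IH) (Lpn (LP (LK LD1_c15 LD2_c22 LD3_c28))))))
theorem f389640 : Led Lsl_ft (LP (LK LD1_c15 LD2_c21 LD3_c33)) = (LP (LK LD1_c15 LD2_c9 LD3_c33)) :=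
  Lgr Lrot75 (Lpe (K22.f53040 IH) (Lpr_ff (K31.f389638 IH) (Lpe (K31.f52501 IH) (Lpn (LP (LK LD1_c15 LD2_c9 LD3_c33))))))
theorem f390952 : Led Lsl_gt (LP (LK LD1_c15 LD2_c21 LD3_c33)) = (LP (LK LD1_c24 LD2_c51 LD3_c14)) :=
  Lgr Lrot5 (Lpr_ft (f389640 IH) (Lpr_at (K31.f238428 IH) (Lpr_gf (K31.f390950 IH) (Lpn (LP (LK LD1_c24 LD2_c51 LD3_c14))))))
theorem f401192 : Led Lsl_ct (LP (LK LD1_c8 LD2_c53 LD3_c58)) = (LP (LK LD1_c15 LD2_c22 LD3_c28)) :=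
  Lgr Lrot59 (Lpr_cf (f401188 IH) (Lpn (LP (LK LD1_c15 LD2_c22 LD3_c28))))
theorem f267132 : Led Lsl_gt (LP (LK LD1_c8 LD2_c53 LD3_c60)) = (LP (LK LD1_c16 LD2_c38 LD3_c48)) :=
  Lre_g IH (LK LD1_c8 LD2_c53 LD3_c60) (LK LD1_c16 LD2_c38 LD3_c48) Lrfl Lrfl
theorem f401224 : Led Lsl_df (LP (LK LD1_c8 LD2_c54 LD3_c35)) = (LP (LK LD1_c16 LD2_c38 LD3_c48)) :=
  Lgr Lrot84 (Lpr_cf (K31.f374735 IH) (Lpr_df (K31.f390971 IH) (Lpe (f390952 IH) (Lpe (K22.f200951 IH) (Lpr_gf (f401222 IH) (Lpe (f401192 IH) (Lpr_gt (f191923 IH) (Lpr_dt (K17.f292854 IH) (Lpr_gt (f267132 IH) (Lpn (LP (LK LD1_c16 LD2_c38 LD3_c48))))))))))))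
theorem f267130 : Led Lsl_bt (LP (LK LD1_c8 LD2_c37 LD3_c20)) = (LP (LK LD1_c4 LD2_c19 LD3_c33)) :=
  Lre_b IH (LK LD1_c8 LD2_c37 LD3_c20) (LK LD1_c4 LD2_c19 LD3_c33) Lrfl Lrfl
theorem f238739 : Led Lsl_bt (LP (LK LD1_c4 LD2_c21 LD3_c29)) = (LP (LK LD1_c8 LD2_c40 LD3_c33)) :=
  Lre_b IH (LK LD1_c4 LD2_c21 LD3_c29) (LK LD1_c8 LD2_c40 LD3_c33) Lrfl Lrfl
theorem f267173 : Led Lsl_ct (LP (LK LD1_c8 LD2_c40 LD3_c33)) = (LP (LK LD1_c8 LD2_c37 LD3_c20)) :=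
  Lgr Lrot83 (Lpe (f238739 IH) (Lpe (K13.f238724 IH) (Lpe (K15.f267136 IH) (Lpr_cf (K15.f267166 IH) (Lpe (f267130 IH) (Lpn (LP (LK LD1_c8 LD2_c37 LD3_c20))))))))
theorem f211162 : Led Lsl_bt (LP (LK LD1_c8 LD2_c37 LD3_c1)) = (LP (LK LD1_c16 LD2_c8 LD3_c35)) :=
  Lre_b IH (LK LD1_c8 LD2_c37 LD3_c1) (LK LD1_c16 LD2_c8 LD3_c35) Lrfl Lrfl
theorem f237209 : Led Lsl_bt (LP (LK LD1_c15 LD2_c19 LD3_c6)) = (LP (LK LD1_c8 LD2_c8 LD3_c9)) :=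
  Lre_b IH (LK LD1_c15 LD2_c19 LD3_c6) (LK LD1_c8 LD2_c8 LD3_c9) Lrfl Lrfl
theorem f269587 : Led Lsl_ft (LP (LK LD1_c16 LD2_c8 LD3_c35)) = (LP (LK LD1_c15 LD2_c19 LD3_c6)) :=
  Lgr Lrot75 (Lpe (f211162 IH) (Lpr_ff (K16.f269583 IH) (Lpe (f237209 IH) (Lpn (LP (LK LD1_c15 LD2_c19 LD3_c6))))))
theorem f411568 : Led Lsl_ff (LP (LK LD1_c16 LD2_c8 LD3_c35)) = (LP (LK LD1_c15 LD2_c19 LD3_c6)) :=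
  Lgr Lrot3 (Lpr_ft (f269587 IH) (Lpn (LP (LK LD1_c15 LD2_c19 LD3_c6))))
theorem f237203 : Led Lsl_dt (LP (LK LD1_c8 LD2_c8 LD3_c8)) = (LP (LK LD1_c15 LD2_c19 LD3_c6)) :=
  Lre_d IH (LK LD1_c8 LD2_c8 LD3_c8) (LK LD1_c15 LD2_c19 LD3_c6) Lrfl Lrfl
theorem f229906 : Led Lsl_bt (LP (LK LD1_c8 LD2_c8 LD3_c8)) = (LP (LK LD1_c4 LD2_c3 LD3_c52)) :=
  Lre_b IH (LK LD1_c8 LD2_c8 LD3_c8) (LK LD1_c4 LD2_c3 LD3_c52) Lrfl Lrfl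
theorem f269486 : Led Lsl_ft (LP (LK LD1_c8 LD2_c40 LD3_c33)) = (LP (LK LD1_c8 LD2_c8 LD3_c8)) :=
  Lgr Lrot75 (Lpe (f238739 IH) (Lpr_ff (K16.f269484 IH) (Lpe (f229906 IH) (Lpn (LP (LK LD1_c8 LD2_c8 LD3_c8))))))
theorem f411570 : Led Lsl_dt (LP (LK LD1_c16 LD2_c8 LD3_c35)) = (LP (LK LD1_c8 LD2_c40 LD3_c33)) :=
  Lgr Lrot60 (Lpr_ff (f411568 IH) (Lpe (f237203 IH) (Lpe (f269486 IH) (Lpn (LP (LK LD1_c8 LD2_c40 LD3_c33))))))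
theorem f550773 : Led Lsl_gt (LP (LK LD1_c16 LD2_c17 LD3_c52)) = (LP (LK LD1_c16 LD2_c8 LD3_c35)) :=
  Lgr Lrot190 (Lpr_bf (f550521 IH) (Lpe (f417758 IH) (Lpe (f550536 IH) (Lpr_gf (f550771 IH) (Lpe (f256992 IH) (Lpe (K31.f256989 IH) (Lpe (K31.f296680 IH) (Lpe (K31.f223582 IH) (Lpr_bf (K31.f374741 IH) (Lpe (K31.f374737 IH) (Lpr_df (f401224 IH) (Lpe (f267132 IH) (Lpe (K17.f267131 IH) (Lpr_cf (K16.f267100 IH) (Lpe (K16.f267099 IH) (Lpe (K15.f267123 IH) (Lpe (f267130 IH) (Lpe (f267173 IH) (Lpe (f411570 IH) (Lpn (LP (LK LD1_c16 LD2_c8 LD3_c35))))))))))))))))))))))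
theorem f397789 : Led Lsl_dt (LP (LK LD1_c8 LD2_c42 LD3_c1)) = (LP (LK LD1_c16 LD2_c17 LD3_c52)) :=
  Lre_d IH (LK LD1_c8 LD2_c42 LD3_c1) (LK LD1_c16 LD2_c17 LD3_c52) Lrfl Lrfl
theorem f38984 : Led Lsl_at (LP (LK LD1_c8 LD2_c42 LD3_c0)) = (LP (LK LD1_c4 LD2_c22 LD3_c10)) :=
  Lre_a IH (LK LD1_c8 LD2_c42 LD3_c0) (LK LD1_c4 LD2_c22 LD3_c10) Lrfl Lrfl
theorem f39702 : Led Lsl_ft (LP (LK LD1_c4 LD2_c22 LD3_c8)) = (LP (LK LD1_c8 LD2_c42 LD3_c0)) :=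
  Lre_f IH (LK LD1_c4 LD2_c22 LD3_c8) (LK LD1_c8 LD2_c42 LD3_c0) Lrfl Lrfl
theorem f398334 : Led Lsl_gf (LP (LK LD1_c8 LD2_c42 LD3_c1)) = (LP (LK LD1_c4 LD2_c22 LD3_c8)) :=
  Lgr Lrot47 (Lpr_gt (K31.f397773 IH) (Lpe (f38984 IH) (Lpe (f39702 IH) (Lpn (LP (LK LD1_c4 LD2_c22 LD3_c8))))))
theorem f39467 : Led Lsl_ct (LP (LK LD1_c4 LD2_c22 LD3_c8)) = (LP (LK LD1_c8 LD2_c40 LD3_c7)) :=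
  Lre_c IH (LK LD1_c4 LD2_c22 LD3_c8) (LK LD1_c8 LD2_c40 LD3_c7) Lrfl Lrfl
theorem f397568 : Led Lsl_bt (LP (LK LD1_c24 LD2_c45 LD3_c16)) = (LP (LK LD1_c16 LD2_c18 LD3_c3)) :=
  Lgr Lrot127 (Lpr_bf (K30.f397564 IH) (Lpn (LP (LK LD1_c16 LD2_c18 LD3_c3))))
theorem f171115 : Led Lsl_bt (LP (LK LD1_c17 LD2_c39 LD3_c4)) = (LP (LK LD1_c9 LD2_c35 LD3_c9)) :=
  Lre_b IH (LK LD1_c17 LD2_c39 LD3_c4) (LK LD1_c9 LD2_c35 LD3_c9) Lrfl Lrfl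
theorem f397570 : Led Lsl_ct (LP (LK LD1_c24 LD2_c45 LD3_c16)) = (LP (LK LD1_c17 LD2_c39 LD3_c4)) :=
  Lgr Lrot83 (Lpr_bf (K30.f397564 IH) (Lpe (K30.f397553 IH) (Lpr_bf (K30.f171144 IH) (Lpe (K30.f171149 IH) (Lpe (f171115 IH) (Lpn (LP (LK LD1_c17 LD2_c39 LD3_c4))))))))
theorem f2268 : Led Lsl_at (LP (LK LD1_c2 LD2_c24 LD3_c2)) = (LP (LK LD1_c4 LD2_c52 LD3_c37)) :=
  Lre_a IH (LK LD1_c2 LD2_c24 LD3_c2) (LK LD1_c4 LD2_c52 LD3_c37) Lrfl Lrfl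
theorem f2281 : Led Lsl_gf (LP (LK LD1_c4 LD2_c52 LD3_c37)) = (LP (LK LD1_c2 LD2_c24 LD3_c38)) :=
  Lgr Lrot76 (Lpe (f2268 IH) (Lpr_ff (K0.f2266 IH) (Lpr_gt (K27.f2280 IH) (Lpn (LP (LK LD1_c2 LD2_c24 LD3_c38))))))
theorem f2283 : Led Lsl_ct (LP (LK LD1_c9 LD2_c37 LD3_c21)) = (LP (LK LD1_c4 LD2_c52 LD3_c37)) :=
  Lre_c IH (LK LD1_c9 LD2_c37 LD3_c21) (LK LD1_c4 LD2_c52 LD3_c37) Lrfl Lrfl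
theorem f29864 : Led Lsl_ct (LP (LK LD1_c15 LD2_c6 LD3_c46)) = (LP (LK LD1_c17 LD2_c36 LD3_c53)) :=
  Lgr Lrot59 (Lpr_cf (K13.f29856 IH) (Lpn (LP (LK LD1_c17 LD2_c36 LD3_c53))))
theorem f2239 : Led Lsl_bt (LP (LK LD1_c2 LD2_c24 LD3_c1)) = (LP (LK LD1_c2 LD2_c24 LD3_c40)) :=
  Lgr Lrot127 (Lpr_bf (K0.f2237 IH) (Lpn (LP (LK LD1_c2 LD2_c24 LD3_c40))))
theorem f2254 : Led Lsl_dt (LP (LK LD1_c4 LD2_c52 LD3_c37)) = (LP (LK LD1_c2 LD2_c24 LD3_c1)) :=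
  Lre_d IH (LK LD1_c4 LD2_c52 LD3_c37) (LK LD1_c2 LD2_c24 LD3_c1) Lrfl Lrfl
theorem f2338 : Led Lsl_bt (LP (LK LD1_c4 LD2_c52 LD3_c29)) = (LP (LK LD1_c4 LD2_c52 LD3_c37)) :=
  Lgr Lrot95 (Lpr_df (K0.f2328 IH) (Lpe (f2239 IH) (Lpe (f2254 IH) (Lpn (LP (LK LD1_c4 LD2_c52 LD3_c37))))))
theorem f2290 : Led Lsl_ct (LP (LK LD1_c4 LD2_c52 LD3_c37)) = (LP (LK LD1_c9 LD2_c37 LD3_c21)) :=
  Lre_c IH (LK LD1_c4 LD2_c52 LD3_c37) (LK LD1_c9 LD2_c37 LD3_c21) Lrfl Lrfl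
theorem f29874 : Led Lsl_bf (LP (LK LD1_c15 LD2_c6 LD3_c46)) = (LP (LK LD1_c9 LD2_c37 LD3_c21)) :=
  Lgr Lrot90 (Lpr_ct (f29864 IH) (Lpr_bt (K13.f1961 IH) (Lpr_ct (K13.f2344 IH) (Lpr_bt (f2338 IH) (Lpr_ct (f2290 IH) (Lpn (LP (LK LD1_c9 LD2_c37 LD3_c21))))))))
theorem f29868 : Led Lsl_ct (LP (LK LD1_c8 LD2_c1 LD3_c35)) = (LP (LK LD1_c15 LD2_c6 LD3_c54)) :=
  Lre_c IH (LK LD1_c8 LD2_c1 LD3_c35) (LK LD1_c15 LD2_c6 LD3_c54) Lrfl Lrfl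
theorem f397604 : Led Lsl_gf (LP (LK LD1_c17 LD2_c39 LD3_c4)) = (LP (LK LD1_c15 LD2_c6 LD3_c54)) :=
  Lgr Lrot129 (Lpe (f397570 IH) (Lpr_bt (f397568 IH) (Lpr_gt (K30.f397599 IH) (Lpe (K27.f2296 IH) (Lpr_ct (K27.f2285 IH) (Lpe (f2281 IH) (Lpe (f2283 IH) (Lpe (f29874 IH) (Lpr_gt (K13.f29867 IH) (Lpr_ct (f29868 IH) (Lpn (LP (LK LD1_c15 LD2_c6 LD3_c54)))))))))))))
theorem f397606 : Led Lsl_bt (LP (LK LD1_c8 LD2_c1 LD3_c35)) = (LP (LK LD1_c15 LD2_c6 LD3_c53)) :=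
  Lre_b IH (LK LD1_c8 LD2_c1 LD3_c35) (LK LD1_c15 LD2_c6 LD3_c53) Lrfl Lrfl
theorem f397933 : Led Lsl_gt (LP (LK LD1_c16 LD2_c16 LD3_c4)) = (LP (LK LD1_c15 LD2_c6 LD3_c53)) :=
  Lgr Lrot164 (Lpe (K31.f397923 IH) (Lpr_ct (K31.f270421 IH) (Lpr_gf (K31.f397926 IH) (Lpr_cf (K31.f167058 IH) (Lpe (K30.f397599 IH) (Lpe (f397568 IH) (Lpr_ct (f397570 IH) (Lpr_gf (f397604 IH) (Lpe (f29868 IH) (Lpr_bt (f397606 IH) (Lpn (LP (LK LD1_c15 LD2_c6 LD3_c53)))))))))))))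
theorem f397935 : Led Lsl_at (LP (LK LD1_c24 LD2_c54 LD3_c59)) = (LP (LK LD1_c15 LD2_c6 LD3_c53)) :=
  Lre_a IH (LK LD1_c24 LD2_c54 LD3_c59) (LK LD1_c15 LD2_c6 LD3_c53) Lrfl Lrfl
theorem f397936 : Led Lsl_ft (LP (LK LD1_c26 LD2_c10 LD3_c48)) = (LP (LK LD1_c24 LD2_c54 LD3_c59)) :=
  Lgr Lrot2 (Lpr_gt (K31.f392587 IH) (Lpr_gt (f397933 IH) (Lpe (f397935 IH) (Lpn (LP (LK LD1_c24 LD2_c54 LD3_c59))))))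
theorem f397950 : Led Lsl_ff (LP (LK LD1_c26 LD2_c10 LD3_c48)) = (LP (LK LD1_c24 LD2_c54 LD3_c59)) :=
  Lgr Lrot3 (Lpr_ft (f397936 IH) (Lpn (LP (LK LD1_c24 LD2_c54 LD3_c59))))
theorem f279939 : Led Lsl_bt (LP (LK LD1_c26 LD2_c10 LD3_c48)) = (LP (LK LD1_c16 LD2_c13 LD3_c60)) :=
  Lre_b IH (LK LD1_c26 LD2_c10 LD3_c48) (LK LD1_c16 LD2_c13 LD3_c60) Lrfl Lrfl
theorem f397956 : Led Lsl_ft (LP (LK LD1_c16 LD2_c13 LD3_c60)) = (LP (LK LD1_c26 LD2_c10 LD3_c51)) :=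
  Lre_f IH (LK LD1_c16 LD2_c13 LD3_c60) (LK LD1_c26 LD2_c10 LD3_c51) Lrfl Lrfl
theorem f397957 : Led Lsl_bt (LP (LK LD1_c26 LD2_c10 LD3_c51)) = (LP (LK LD1_c24 LD2_c54 LD3_c59)) :=
  Lgr Lrot35 (Lpe (f397956 IH) (Lpe (f279939 IH) (Lpr_ff (f397950 IH) (Lpn (LP (LK LD1_c24 LD2_c54 LD3_c59))))))
theorem f397959 : Led Lsl_at (LP (LK LD1_c16 LD2_c14 LD3_c3)) = (LP (LK LD1_c26 LD2_c10 LD3_c51)) :=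
  Lre_a IH (LK LD1_c16 LD2_c14 LD3_c3) (LK LD1_c26 LD2_c10 LD3_c51) Lrfl Lrfl
theorem f29838 : Led Lsl_bt (LP (LK LD1_c15 LD2_c6 LD3_c53)) = (LP (LK LD1_c8 LD2_c1 LD3_c35)) :=
  Lre_b IH (LK LD1_c15 LD2_c6 LD3_c53) (LK LD1_c8 LD2_c1 LD3_c35) Lrfl Lrfl
theorem f397960 : Led Lsl_at (LP (LK LD1_c8 LD2_c1 LD3_c35)) = (LP (LK LD1_c15 LD2_c6 LD3_c52)) :=
  Lre_a IH (LK LD1_c8 LD2_c1 LD3_c35) (LK LD1_c15 LD2_c6 LD3_c52) Lrfl Lrfl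
theorem f397961 : Led Lsl_bf (LP (LK LD1_c16 LD2_c14 LD3_c3)) = (LP (LK LD1_c15 LD2_c6 LD3_c52)) :=
  Lgr Lrot81 (Lpr_at (f397959 IH) (Lpr_bt (f397957 IH) (Lpr_at (f397935 IH) (Lpr_bt (f29838 IH) (Lpr_at (f397960 IH) (Lpn (LP (LK LD1_c15 LD2_c6 LD3_c52))))))))
theorem f279932 : Led Lsl_gt (LP (LK LD1_c26 LD2_c10 LD3_c47)) = (LP (LK LD1_c16 LD2_c14 LD3_c3)) :=
  Lre_g IH (LK LD1_c26 LD2_c10 LD3_c47) (LK LD1_c16 LD2_c14 LD3_c3) Lrfl Lrfl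
theorem f39747 : Led Lsl_bt (LP (LK LD1_c2 LD2_c8 LD3_c31)) = (LP (LK LD1_c1 LD2_c1 LD3_c24)) :=
  Lre_b IH (LK LD1_c2 LD2_c8 LD3_c31) (LK LD1_c1 LD2_c1 LD3_c24) Lrfl Lrfl
theorem f279214 : Led Lsl_gt (LP (LK LD1_c8 LD2_c40 LD3_c6)) = (LP (LK LD1_c4 LD2_c21 LD3_c14)) :=
  Lre_g IH (LK LD1_c8 LD2_c40 LD3_c6) (LK LD1_c4 LD2_c21 LD3_c14) Lrfl Lrfl
theorem f39744 : Led Lsl_ct (LP (LK LD1_c16 LD2_c14 LD3_c3)) = (LP (LK LD1_c8 LD2_c40 LD3_c6)) :=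
  Lre_c IH (LK LD1_c16 LD2_c14 LD3_c3) (LK LD1_c8 LD2_c40 LD3_c6) Lrfl Lrfl
theorem f170342 : Led Lsl_gt (LP (LK LD1_c8 LD2_c16 LD3_c48)) = (LP (LK LD1_c15 LD2_c34 LD3_c8)) :=
  Lre_g IH (LK LD1_c8 LD2_c16 LD3_c48) (LK LD1_c15 LD2_c34 LD3_c8) Lrfl Lrfl
theorem f279931 : Led Lsl_ct (LP (LK LD1_c25 LD2_c27 LD3_c52)) = (LP (LK LD1_c15 LD2_c34 LD3_c8)) :=
  Lre_c IH (LK LD1_c25 LD2_c27 LD3_c52) (LK LD1_c15 LD2_c34 LD3_c8) Lrfl Lrfl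
theorem f279933 : Led Lsl_bf (LP (LK LD1_c26 LD2_c10 LD3_c47)) = (LP (LK LD1_c25 LD2_c27 LD3_c52)) :=
  Lgr Lrot165 (Lpr_gt (f279932 IH) (Lpr_ct (f39744 IH) (Lpr_gt (f279214 IH) (Lpe (K31.f39494 IH) (Lpr_bt (f39747 IH) (Lpr_gt (K13.f39000 IH) (Lpe (K30.f39009 IH) (Lpr_ct (K16.f279909 IH) (Lpr_gt (f170342 IH) (Lpe (f279931 IH) (Lpn (LP (LK LD1_c25 LD2_c27 LD3_c52)))))))))))))
theorem f279929 : Led Lsl_bt (LP (LK LD1_c16 LD2_c17 LD3_c9)) = (LP (LK LD1_c8 LD2_c41 LD3_c46)) :=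
  Lre_b IH (LK LD1_c16 LD2_c17 LD3_c9) (LK LD1_c8 LD2_c41 LD3_c46) Lrfl Lrfl
theorem f279930 : Led Lsl_ct (LP (LK LD1_c16 LD2_c17 LD3_c9)) = (LP (LK LD1_c26 LD2_c15 LD3_c1)) :=
  Lre_c IH (LK LD1_c16 LD2_c17 LD3_c9) (LK LD1_c26 LD2_c15 LD3_c1) Lrfl Lrfl
theorem f397978 : Led Lsl_ct (LP (LK LD1_c15 LD2_c6 LD3_c52)) = (LP (LK LD1_c24 LD2_c54 LD3_c53)) :=
  Lre_c IH (LK LD1_c15 LD2_c6 LD3_c52) (LK LD1_c24 LD2_c54 LD3_c53) Lrfl Lrfl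
theorem f397979 : Led Lsl_gf (LP (LK LD1_c26 LD2_c15 LD3_c1)) = (LP (LK LD1_c24 LD2_c54 LD3_c53)) :=
  Lgr Lrot126 (Lpe (f279930 IH) (Lpr_bt (f279929 IH) (Lpr_gt (K30.f279921 IH) (Lpr_ct (K16.f279909 IH) (Lpr_gt (f170342 IH) (Lpe (f279931 IH) (Lpe (f279933 IH) (Lpr_gt (f279932 IH) (Lpr_bf (f397961 IH) (Lpr_ct (f397978 IH) (Lpn (LP (LK LD1_c24 LD2_c54 LD3_c53)))))))))))))
theorem f279981 : Led Lsl_ct (LP (LK LD1_c26 LD2_c15 LD3_c1)) = (LP (LK LD1_c16 LD2_c17 LD3_c9)) :=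
  Lre_c IH (LK LD1_c26 LD2_c15 LD3_c1) (LK LD1_c16 LD2_c17 LD3_c9) Lrfl Lrfl
theorem f397199 : Led Lsl_dt (LP (LK LD1_c16 LD2_c17 LD3_c9)) = (LP (LK LD1_c26 LD2_c15 LD3_c2)) :=
  Lre_d IH (LK LD1_c16 LD2_c17 LD3_c9) (LK LD1_c26 LD2_c15 LD3_c2) Lrfl Lrfl
theorem f216643 : Led Lsl_bt (LP (LK LD1_c4 LD2_c21 LD3_c42)) = (LP (LK LD1_c8 LD2_c40 LD3_c60)) :=
  Lre_b IH (LK LD1_c4 LD2_c21 LD3_c42) (LK LD1_c8 LD2_c40 LD3_c60) Lrfl Lrfl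
theorem f216595 : Led Lsl_ct (LP (LK LD1_c8 LD2_c40 LD3_c60)) = (LP (LK LD1_c16 LD2_c15 LD3_c43)) :=
  Lre_c IH (LK LD1_c8 LD2_c40 LD3_c60) (LK LD1_c16 LD2_c15 LD3_c43) Lrfl Lrfl
theorem f216644 : Led Lsl_bt (LP (LK LD1_c16 LD2_c15 LD3_c43)) = (LP (LK LD1_c8 LD2_c44 LD3_c53)) :=
  Lgr Lrot128 (Lpe (f216595 IH) (Lpe (f216643 IH) (Lpr_cf (K12.f216590 IH) (Lpe (K30.f183245 IH) (Lpe (K30.f183246 IH) (Lpn (LP (LK LD1_c8 LD2_c44 LD3_c53))))))))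
theorem f30679 : Led Lsl_bt (LP (LK LD1_c9 LD2_c38 LD3_c26)) = (LP (LK LD1_c4 LD2_c53 LD3_c13)) :=
  Lre_b IH (LK LD1_c9 LD2_c38 LD3_c26) (LK LD1_c4 LD2_c53 LD3_c13) Lrfl Lrfl
theorem f30680 : Led Lsl_ct (LP (LK LD1_c17 LD2_c44 LD3_c35)) = (LP (LK LD1_c9 LD2_c38 LD3_c26)) :=
  Lre_c IH (LK LD1_c17 LD2_c44 LD3_c35) (LK LD1_c9 LD2_c38 LD3_c26) Lrfl Lrfl
theorem f229281 : Led Lsl_bt (LP (LK LD1_c14 LD2_c59 LD3_c3)) = (LP (LK LD1_c17 LD2_c44 LD3_c35)) :=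
  Lgr Lrot128 (Lpe (K30.f39896 IH) (Lpe (K30.f193482 IH) (Lpr_cf (K12.f229274 IH) (Lpe (f30679 IH) (Lpe (f30680 IH) (Lpn (LP (LK LD1_c17 LD2_c44 LD3_c35))))))))
theorem f385603 : Led Lsl_ff (LP (LK LD1_c16 LD2_c15 LD3_c43)) = (LP (LK LD1_c17 LD2_c44 LD3_c35)) :=
  Lgr Lrot25 (Lpr_bt (f216644 IH) (Lpr_ft (K31.f385597 IH) (Lpr_bt (f229281 IH) (Lpn (LP (LK LD1_c17 LD2_c44 LD3_c35))))))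
theorem f385640 : Led Lsl_ft (LP (LK LD1_c16 LD2_c15 LD3_c43)) = (LP (LK LD1_c17 LD2_c44 LD3_c35)) :=
  Lgr Lrot48 (Lpr_ff (f385603 IH) (Lpn (LP (LK LD1_c17 LD2_c44 LD3_c35))))
theorem f385647 : Led Lsl_ff (LP (LK LD1_c8 LD2_c40 LD3_c60)) = (LP (LK LD1_c9 LD2_c38 LD3_c26)) :=
  Lgr Lrot23 (Lpr_ct (f216595 IH) (Lpr_ft (f385640 IH) (Lpr_ct (f30680 IH) (Lpn (LP (LK LD1_c9 LD2_c38 LD3_c26))))))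
theorem f385656 : Led Lsl_et (LP (LK LD1_c8 LD2_c40 LD3_c60)) = (LP (LK LD1_c16 LD2_c15 LD3_c44)) :=
  Lre_e IH (LK LD1_c8 LD2_c40 LD3_c60) (LK LD1_c16 LD2_c15 LD3_c44) Lrfl Lrfl
theorem f385657 : Led Lsl_ft (LP (LK LD1_c16 LD2_c15 LD3_c44)) = (LP (LK LD1_c26 LD2_c13 LD3_c24)) :=
  Lre_f IH (LK LD1_c16 LD2_c15 LD3_c44) (LK LD1_c26 LD2_c13 LD3_c24) Lrfl Lrfl
theorem f385658 : Led Lsl_et (LP (LK LD1_c17 LD2_c44 LD3_c36)) = (LP (LK LD1_c9 LD2_c38 LD3_c26)) :=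
  Lre_e IH (LK LD1_c17 LD2_c44 LD3_c36) (LK LD1_c9 LD2_c38 LD3_c26) Lrfl Lrfl
theorem f385659 : Led Lsl_ft (LP (LK LD1_c27 LD2_c31 LD3_c18)) = (LP (LK LD1_c17 LD2_c44 LD3_c36)) :=
  Lre_f IH (LK LD1_c27 LD2_c31 LD3_c18) (LK LD1_c17 LD2_c44 LD3_c36) Lrfl Lrfl
theorem f385660 : Led Lsl_et (LP (LK LD1_c26 LD2_c13 LD3_c24)) = (LP (LK LD1_c27 LD2_c31 LD3_c18)) :=
  Lgr Lrot69 (Lpe (f385657 IH) (Lpe (f385656 IH) (Lpr_ff (f385647 IH) (Lpe (f385658 IH) (Lpe (f385659 IH) (Lpn (LP (LK LD1_c27 LD2_c31 LD3_c18))))))))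
theorem f385665 : Led Lsl_ef (LP (LK LD1_c26 LD2_c13 LD3_c24)) = (LP (LK LD1_c27 LD2_c31 LD3_c18)) :=
  Lgr Lrot88 (Lpr_et (f385660 IH) (Lpn (LP (LK LD1_c27 LD2_c31 LD3_c18))))
theorem f216681 : Led Lsl_bt (LP (LK LD1_c26 LD2_c13 LD3_c24)) = (LP (LK LD1_c16 LD2_c15 LD3_c52)) :=
  Lre_b IH (LK LD1_c26 LD2_c13 LD3_c24) (LK LD1_c16 LD2_c15 LD3_c52) Lrfl Lrfl
theorem f385667 : Led Lsl_bt (LP (LK LD1_c17 LD2_c44 LD3_c37)) = (LP (LK LD1_c27 LD2_c31 LD3_c18)) :=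
  Lre_b IH (LK LD1_c17 LD2_c44 LD3_c37) (LK LD1_c27 LD2_c31 LD3_c18) Lrfl Lrfl
theorem f385668 : Led Lsl_et (LP (LK LD1_c16 LD2_c15 LD3_c52)) = (LP (LK LD1_c17 LD2_c44 LD3_c37)) :=
  Lgr Lrot74 (Lpe (f216681 IH) (Lpr_ef (f385665 IH) (Lpe (f385667 IH) (Lpn (LP (LK LD1_c17 LD2_c44 LD3_c37))))))
theorem f385676 : Led Lsl_cf (LP (LK LD1_c14 LD2_c59 LD3_c7)) = (LP (LK LD1_c17 LD2_c44 LD3_c37)) :=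
  Lgr Lrot39 (Lpe (K15.f262330 IH) (Lpe (K15.f216661 IH) (Lpr_et (f385668 IH) (Lpn (LP (LK LD1_c17 LD2_c44 LD3_c37))))))
theorem f385681 : Led Lsl_ct (LP (LK LD1_c14 LD2_c59 LD3_c7)) = (LP (LK LD1_c17 LD2_c44 LD3_c37)) :=
  Lgr Lrot59 (Lpr_cf (f385676 IH) (Lpn (LP (LK LD1_c17 LD2_c44 LD3_c37))))
theorem f385678 : Led Lsl_ft (LP (LK LD1_c17 LD2_c44 LD3_c37)) = (LP (LK LD1_c9 LD2_c38 LD3_c27)) :=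
  Lre_f IH (LK LD1_c17 LD2_c44 LD3_c37) (LK LD1_c9 LD2_c38 LD3_c27) Lrfl Lrfl
theorem f385684 : Led Lsl_cf (LP (LK LD1_c7 LD2_c56 LD3_c33)) = (LP (LK LD1_c9 LD2_c38 LD3_c27)) :=
  Lgr Lrot108 (Lpr_ft (K15.f193552 IH) (Lpr_ct (f385681 IH) (Lpr_ft (f385678 IH) (Lpn (LP (LK LD1_c9 LD2_c38 LD3_c27))))))
theorem f262310 : Led Lsl_af (LP (LK LD1_c4 LD2_c23 LD3_c37)) = (LP (LK LD1_c7 LD2_c56 LD3_c33)) :=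
  Lgr Lrot50 (Lpr_et (K15.f201473 IH) (Lpr_at (K15.f262302 IH) (Lpr_et (K15.f193487 IH) (Lpn (LP (LK LD1_c7 LD2_c56 LD3_c33))))))
theorem f373782 : Led Lsl_et (LP (LK LD1_c16 LD2_c15 LD3_c10)) = (LP (LK LD1_c26 LD2_c12 LD3_c44)) :=
  Lre_e IH (LK LD1_c16 LD2_c15 LD3_c10) (LK LD1_c26 LD2_c12 LD3_c44) Lrfl Lrfl
theorem f373783 : Led Lsl_et (LP (LK LD1_c16 LD2_c22 LD3_c44)) = (LP (LK LD1_c8 LD2_c44 LD3_c60)) :=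
  Lre_e IH (LK LD1_c16 LD2_c22 LD3_c44) (LK LD1_c8 LD2_c44 LD3_c60) Lrfl Lrfl
theorem f373784 : Led Lsl_bt (LP (LK LD1_c26 LD2_c12 LD3_c44)) = (LP (LK LD1_c16 LD2_c22 LD3_c44)) :=
  Lgr Lrot119 (Lpe (f373782 IH) (Lpr_bf (K31.f373777 IH) (Lpe (f373783 IH) (Lpn (LP (LK LD1_c16 LD2_c22 LD3_c44))))))
theorem f373788 : Led Lsl_ct (LP (LK LD1_c16 LD2_c15 LD3_c11)) = (LP (LK LD1_c26 LD2_c12 LD3_c44)) :=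
  Lre_c IH (LK LD1_c16 LD2_c15 LD3_c11) (LK LD1_c26 LD2_c12 LD3_c44) Lrfl Lrfl
theorem f373789 : Led Lsl_bt (LP (LK LD1_c8 LD2_c40 LD3_c43)) = (LP (LK LD1_c16 LD2_c15 LD3_c11)) :=
  Lre_b IH (LK LD1_c8 LD2_c40 LD3_c43) (LK LD1_c16 LD2_c15 LD3_c11) Lrfl Lrfl
theorem f201519 : Led Lsl_ct (LP (LK LD1_c16 LD2_c22 LD3_c44)) = (LP (LK LD1_c8 LD2_c44 LD3_c61)) :=
  Lre_c IH (LK LD1_c16 LD2_c22 LD3_c44) (LK LD1_c8 LD2_c44 LD3_c61) Lrfl Lrfl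
theorem f201474 : Led Lsl_bt (LP (LK LD1_c8 LD2_c44 LD3_c61)) = (LP (LK LD1_c4 LD2_c23 LD3_c37)) :=
  Lre_b IH (LK LD1_c8 LD2_c44 LD3_c61) (LK LD1_c4 LD2_c23 LD3_c37) Lrfl Lrfl
theorem f373790 : Led Lsl_cf (LP (LK LD1_c8 LD2_c40 LD3_c43)) = (LP (LK LD1_c4 LD2_c23 LD3_c37)) :=
  Lgr Lrot97 (Lpr_bt (f373789 IH) (Lpr_ct (f373788 IH) (Lpr_bt (f373784 IH) (Lpr_ct (f201519 IH) (Lpr_bt (f201474 IH) (Lpn (LP (LK LD1_c4 LD2_c23 LD3_c37))))))))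
theorem f385686 : Led Lsl_at (LP (LK LD1_c8 LD2_c40 LD3_c43)) = (LP (LK LD1_c9 LD2_c38 LD3_c27)) :=
  Lgr Lrot107 (Lpr_cf (f373790 IH) (Lpr_af (f262310 IH) (Lpr_cf (f385684 IH) (Lpn (LP (LK LD1_c9 LD2_c38 LD3_c27))))))
theorem f373815 : Led Lsl_bt (LP (LK LD1_c16 LD2_c15 LD3_c11)) = (LP (LK LD1_c8 LD2_c40 LD3_c43)) :=
  Lre_b IH (LK LD1_c16 LD2_c15 LD3_c11) (LK LD1_c8 LD2_c40 LD3_c43) Lrfl Lrfl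
theorem f374570 : Led Lsl_at (LP (LK LD1_c26 LD2_c12 LD3_c37)) = (LP (LK LD1_c16 LD2_c15 LD3_c11)) :=
  Lre_a IH (LK LD1_c26 LD2_c12 LD3_c37) (LK LD1_c16 LD2_c15 LD3_c11) Lrfl Lrfl
theorem f385692 : Led Lsl_bt (LP (LK LD1_c9 LD2_c38 LD3_c27)) = (LP (LK LD1_c17 LD2_c44 LD3_c36)) :=
  Lre_b IH (LK LD1_c9 LD2_c38 LD3_c27) (LK LD1_c17 LD2_c44 LD3_c36) Lrfl Lrfl
theorem f385699 : Led Lsl_at (LP (LK LD1_c17 LD2_c44 LD3_c36)) = (LP (LK LD1_c27 LD2_c31 LD3_c14)) :=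
  Lre_a IH (LK LD1_c17 LD2_c44 LD3_c36) (LK LD1_c27 LD2_c31 LD3_c14) Lrfl Lrfl
theorem f385700 : Led Lsl_bf (LP (LK LD1_c26 LD2_c12 LD3_c37)) = (LP (LK LD1_c27 LD2_c31 LD3_c14)) :=
  Lgr Lrot81 (Lpr_at (f374570 IH) (Lpr_bt (f373815 IH) (Lpr_at (f385686 IH) (Lpr_bt (f385692 IH) (Lpr_at (f385699 IH) (Lpn (LP (LK LD1_c27 LD2_c31 LD3_c14))))))))
theorem f373821 : Led Lsl_et (LP (LK LD1_c26 LD2_c12 LD3_c37)) = (LP (LK LD1_c16 LD2_c15 LD3_c6)) :=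
  Lre_e IH (LK LD1_c26 LD2_c12 LD3_c37) (LK LD1_c16 LD2_c15 LD3_c6) Lrfl Lrfl
theorem f385704 : Led Lsl_et (LP (LK LD1_c17 LD2_c44 LD3_c34)) = (LP (LK LD1_c27 LD2_c31 LD3_c14)) :=
  Lre_e IH (LK LD1_c17 LD2_c44 LD3_c34) (LK LD1_c27 LD2_c31 LD3_c14) Lrfl Lrfl
theorem f385705 : Led Lsl_bt (LP (LK LD1_c16 LD2_c15 LD3_c6)) = (LP (LK LD1_c17 LD2_c44 LD3_c34)) :=
  Lgr Lrot119 (Lpe (f373821 IH) (Lpr_bf (f385700 IH) (Lpe (f385704 IH) (Lpn (LP (LK LD1_c17 LD2_c44 LD3_c34))))))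
theorem f216593 : Led Lsl_ct (LP (LK LD1_c16 LD2_c15 LD3_c43)) = (LP (LK LD1_c8 LD2_c40 LD3_c60)) :=
  Lre_c IH (LK LD1_c16 LD2_c15 LD3_c43) (LK LD1_c8 LD2_c40 LD3_c60) Lrfl Lrfl
theorem f30682 : Led Lsl_ct (LP (LK LD1_c9 LD2_c38 LD3_c26)) = (LP (LK LD1_c17 LD2_c44 LD3_c35)) :=
  Lre_c IH (LK LD1_c9 LD2_c38 LD3_c26) (LK LD1_c17 LD2_c44 LD3_c35) Lrfl Lrfl
theorem f385635 : Led Lsl_ft (LP (LK LD1_c8 LD2_c40 LD3_c60)) = (LP (LK LD1_c9 LD2_c38 LD3_c26)) :=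
  Lgr Lrot4 (Lpe (f216593 IH) (Lpr_ff (f385603 IH) (Lpe (f30682 IH) (Lpn (LP (LK LD1_c9 LD2_c38 LD3_c26))))))
theorem f216650 : Led Lsl_gt (LP (LK LD1_c8 LD2_c40 LD3_c60)) = (LP (LK LD1_c16 LD2_c15 LD3_c41)) :=
  Lre_g IH (LK LD1_c8 LD2_c40 LD3_c60) (LK LD1_c16 LD2_c15 LD3_c41) Lrfl Lrfl
theorem f385712 : Led Lsl_at (LP (LK LD1_c9 LD2_c38 LD3_c26)) = (LP (LK LD1_c17 LD2_c44 LD3_c34)) :=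
  Lre_a IH (LK LD1_c9 LD2_c38 LD3_c26) (LK LD1_c17 LD2_c44 LD3_c34) Lrfl Lrfl
theorem f385799 : Led Lsl_gt (LP (LK LD1_c16 LD2_c15 LD3_c41)) = (LP (LK LD1_c17 LD2_c44 LD3_c34)) :=
  Lgr Lrot46 (Lpe (f216650 IH) (Lpr_ft (f385635 IH) (Lpr_at (f385712 IH) (Lpn (LP (LK LD1_c17 LD2_c44 LD3_c34))))))
theorem f216704 : Led Lsl_bt (LP (LK LD1_c26 LD2_c13 LD3_c15)) = (LP (LK LD1_c16 LD2_c15 LD3_c41)) :=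
  Lre_b IH (LK LD1_c26 LD2_c13 LD3_c15) (LK LD1_c16 LD2_c15 LD3_c41) Lrfl Lrfl
theorem f39435 : Led Lsl_ct (LP (LK LD1_c8 LD2_c42 LD3_c17)) = (LP (LK LD1_c16 LD2_c18 LD3_c27)) :=
  Lre_c IH (LK LD1_c8 LD2_c42 LD3_c17) (LK LD1_c16 LD2_c18 LD3_c27) Lrfl Lrfl
theorem f39436 : Led Lsl_gt (LP (LK LD1_c26 LD2_c16 LD3_c12)) = (LP (LK LD1_c16 LD2_c18 LD3_c27)) :=
  Lre_g IH (LK LD1_c26 LD2_c16 LD3_c12) (LK LD1_c16 LD2_c18 LD3_c27) Lrfl Lrfl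
theorem f216705 : Led Lsl_ct (LP (LK LD1_c26 LD2_c13 LD3_c15)) = (LP (LK LD1_c26 LD2_c16 LD3_c12)) :=
  Lgr Lrot64 (Lpr_bt (f216704 IH) (Lpe (f216650 IH) (Lpe (f216643 IH) (Lpr_ct (K12.f216646 IH) (Lpe (K12.f29617 IH) (Lpe (K1.f38945 IH) (Lpr_gf (K13.f39429 IH) (Lpe (K18.f39433 IH) (Lpr_ct (f39435 IH) (Lpe (f39436 IH) (Lpn (LP (LK LD1_c26 LD2_c16 LD3_c12)))))))))))))
theorem f297566 : Led Lsl_ff (LP (LK LD1_c26 LD2_c16 LD3_c9)) = (LP (LK LD1_c27 LD2_c39 LD3_c29)) :=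
  Lgr Lrot3 (Lpr_ft (K19.f297563 IH) (Lpn (LP (LK LD1_c27 LD2_c39 LD3_c29))))
theorem f297599 : Led Lsl_gf (LP (LK LD1_c26 LD2_c16 LD3_c12)) = (LP (LK LD1_c27 LD2_c39 LD3_c29)) :=
  Lgr Lrot47 (Lpr_gt (f39436 IH) (Lpe (K18.f296695 IH) (Lpr_ff (f297566 IH) (Lpn (LP (LK LD1_c27 LD2_c39 LD3_c29))))))
theorem f168477 : Led Lsl_ct (LP (LK LD1_c17 LD2_c54 LD3_c1)) = (LP (LK LD1_c27 LD2_c39 LD3_c29)) :=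
  Lre_c IH (LK LD1_c17 LD2_c54 LD3_c1) (LK LD1_c27 LD2_c39 LD3_c29) Lrfl Lrfl
theorem f397276 : Led Lsl_gt (LP (LK LD1_c16 LD2_c17 LD3_c7)) = (LP (LK LD1_c17 LD2_c54 LD3_c1)) :=
  Lgr Lrot82 (Lpr_bf (K15.f263785 IH) (Lpr_ct (K15.f218477 IH) (Lpr_gf (K30.f397268 IH) (Lpe (K30.f374480 IH) (Lpr_bt (f385705 IH) (Lpe (f385799 IH) (Lpe (f216704 IH) (Lpr_ct (f216705 IH) (Lpr_gf (f297599 IH) (Lpe (f168477 IH) (Lpn (LP (LK LD1_c17 LD2_c54 LD3_c1)))))))))))))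
theorem f263779 : Led Lsl_gt (LP (LK LD1_c17 LD2_c50 LD3_c21)) = (LP (LK LD1_c9 LD2_c41 LD3_c56)) :=
  Lre_g IH (LK LD1_c17 LD2_c50 LD3_c21) (LK LD1_c9 LD2_c41 LD3_c56) Lrfl Lrfl
theorem f389608 : Led Lsl_dt (LP (LK LD1_c27 LD2_c35 LD3_c47)) = (LP (LK LD1_c27 LD2_c39 LD3_c29)) :=
  Lgr Lrot44 (Lpr_af (K31.f389601 IH) (Lpe (K31.f297454 IH) (Lpe (K19.f168517 IH) (Lpn (LP (LK LD1_c27 LD2_c39 LD3_c29))))))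
theorem f388981 : Led Lsl_at (LP (LK LD1_c15 LD2_c15 LD3_c45)) = (LP (LK LD1_c25 LD2_c5 LD3_c17)) :=
  Lre_a IH (LK LD1_c15 LD2_c15 LD3_c45) (LK LD1_c25 LD2_c5 LD3_c17) Lrfl Lrfl
theorem f388982 : Led Lsl_at (LP (LK LD1_c18 LD2_c44 LD3_c4)) = (LP (LK LD1_c25 LD2_c5 LD3_c18)) :=
  Lgr Lrot107 (Lpr_cf (K30.f388977 IH) (Lpe (f388981 IH) (Lpe (K30.f369244 IH) (Lpn (LP (LK LD1_c25 LD2_c5 LD3_c18))))))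
theorem f389366 : Led Lsl_gt (LP (LK LD1_c19 LD2_c28 LD3_c2)) = (LP (LK LD1_c25 LD2_c4 LD3_c15)) :=
  Lgr Lrot5 (Lpr_ft (K31.f389360 IH) (Lpr_at (f388982 IH) (Lpe (K27.f213365 IH) (Lpn (LP (LK LD1_c25 LD2_c4 LD3_c15))))))
theorem f389368 : Led Lsl_gf (LP (LK LD1_c19 LD2_c28 LD3_c2)) = (LP (LK LD1_c25 LD2_c4 LD3_c18)) :=
  Lgr Lrot47 (Lpr_gt (f389366 IH) (Lpe (K31.f369240 IH) (Lpr_ff (K27.f369195 IH) (Lpn (LP (LK LD1_c25 LD2_c4 LD3_c18))))))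
theorem f389597 : Led Lsl_cf (LP (LK LD1_c27 LD2_c35 LD3_c47)) = (LP (LK LD1_c17 LD2_c51 LD3_c7)) :=
  Lgr Lrot58 (Lpe (K31.f389595 IH) (Lpr_cf (K31.f389589 IH) (Lpe (K31.f389587 IH) (Lpr_gf (K31.f389350 IH) (Lpe (K31.f261678 IH) (Lpe (K31.f261679 IH) (Lpe (K31.f261674 IH) (Lpe (K31.f389335 IH) (Lpr_gf (f389368 IH) (Lpr_bf (K27.f261663 IH) (Lpn (LP (LK LD1_c17 LD2_c51 LD3_c7)))))))))))))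
theorem f397282 : Led Lsl_dt (LP (LK LD1_c17 LD2_c50 LD3_c21)) = (LP (LK LD1_c9 LD2_c42 LD3_c31)) :=
  Lgr Lrot6 (Lpr_gt (f263779 IH) (Lpe (K15.f263773 IH) (Lpr_gt (f397276 IH) (Lpr_ct (f168477 IH) (Lpe (f389608 IH) (Lpr_cf (f389597 IH) (Lpe (K27.f217454 IH) (Lpe (K18.f217453 IH) (Lpe (K27.f222184 IH) (Lpn (LP (LK LD1_c9 LD2_c42 LD3_c31))))))))))))
theorem f188704 : Led Lsl_at (LP (LK LD1_c17 LD2_c48 LD3_c4)) = (LP (LK LD1_c9 LD2_c40 LD3_c36)) :=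
  Lre_a IH (LK LD1_c17 LD2_c48 LD3_c4) (LK LD1_c9 LD2_c40 LD3_c36) Lrfl Lrfl
theorem f349180 : Led Lsl_at (LP (LK LD1_c4 LD2_c55 LD3_c11)) = (LP (LK LD1_c9 LD2_c41 LD3_c55)) :=
  Lre_a IH (LK LD1_c4 LD2_c55 LD3_c11) (LK LD1_c9 LD2_c41 LD3_c55) Lrfl Lrfl
theorem f349181 : Led Lsl_ff (LP (LK LD1_c17 LD2_c48 LD3_c4)) = (LP (LK LD1_c9 LD2_c41 LD3_c55)) :=
  Lgr Lrot30 (Lpr_at (f188704 IH) (Lpr_ft (K26.f349178 IH) (Lpr_at (f349180 IH) (Lpn (LP (LK LD1_c9 LD2_c41 LD3_c55))))))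
theorem f349195 : Led Lsl_dt (LP (LK LD1_c17 LD2_c50 LD3_c18)) = (LP (LK LD1_c9 LD2_c41 LD3_c55)) :=
  Lre_d IH (LK LD1_c17 LD2_c50 LD3_c18) (LK LD1_c9 LD2_c41 LD3_c55) Lrfl Lrfl
theorem f397127 : Led Lsl_ff (LP (LK LD1_c17 LD2_c50 LD3_c18)) = (LP (LK LD1_c26 LD2_c15 LD3_c4)) :=
  Lgr Lrot19 (Lpr_dt (f349195 IH) (Lpe (f349181 IH) (Lpr_dt (f397119 IH) (Lpn (LP (LK LD1_c26 LD2_c15 LD3_c4))))))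
theorem f263775 : Led Lsl_at (LP (LK LD1_c17 LD2_c50 LD3_c18)) = (LP (LK LD1_c9 LD2_c41 LD3_c56)) :=
  Lre_a IH (LK LD1_c17 LD2_c50 LD3_c18) (LK LD1_c9 LD2_c41 LD3_c56) Lrfl Lrfl
theorem f397136 : Led Lsl_gf (LP (LK LD1_c17 LD2_c50 LD3_c21)) = (LP (LK LD1_c26 LD2_c15 LD3_c4)) :=
  Lgr Lrot47 (Lpr_gt (f263779 IH) (Lpe (f263775 IH) (Lpr_ff (f397127 IH) (Lpn (LP (LK LD1_c26 LD2_c15 LD3_c4))))))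
theorem f397297 : Led Lsl_gt (LP (LK LD1_c16 LD2_c17 LD3_c11)) = (LP (LK LD1_c8 LD2_c42 LD3_c17)) :=
  Lgr Lrot94 (Lpe (f280102 IH) (Lpe (f397136 IH) (Lpr_dt (f397282 IH) (Lpr_gt (K27.f222184 IH) (Lpr_dt (K27.f218693 IH) (Lpr_cf (f263942 IH) (Lpe (f193278 IH) (Lpe (f193277 IH) (Lpe (K18.f238720 IH) (Lpn (LP (LK LD1_c8 LD2_c42 LD3_c17))))))))))))
theorem f397141 : Led Lsl_bt (LP (LK LD1_c26 LD2_c15 LD3_c2)) = (LP (LK LD1_c16 LD2_c17 LD3_c11)) :=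
  Lre_b IH (LK LD1_c26 LD2_c15 LD3_c2) (LK LD1_c16 LD2_c17 LD3_c11) Lrfl Lrfl
theorem f30491 : Led Lsl_gt (LP (LK LD1_c8 LD2_c1 LD3_c8)) = (LP (LK LD1_c15 LD2_c5 LD3_c53)) :=
  Lre_g IH (LK LD1_c8 LD2_c1 LD3_c8) (LK LD1_c15 LD2_c5 LD3_c53) Lrfl Lrfl
theorem f30496 : Led Lsl_ct (LP (LK LD1_c15 LD2_c5 LD3_c53)) = (LP (LK LD1_c24 LD2_c53 LD3_c61)) :=
  Lre_c IH (LK LD1_c15 LD2_c5 LD3_c53) (LK LD1_c24 LD2_c53 LD3_c61) Lrfl Lrfl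
theorem f30495 : Led Lsl_gt (LP (LK LD1_c24 LD2_c53 LD3_c61)) = (LP (LK LD1_c31 LD2_c42 LD3_c19)) :=
  Lre_g IH (LK LD1_c24 LD2_c53 LD3_c61) (LK LD1_c31 LD2_c42 LD3_c19) Lrfl Lrfl
theorem f397307 : Led Lsl_ct (LP (LK LD1_c26 LD2_c15 LD3_c2)) = (LP (LK LD1_c31 LD2_c42 LD3_c19)) :=
  Lgr Lrot63 (Lpr_bt (f397141 IH) (Lpr_gt (f397297 IH) (Lpe (K18.f225003 IH) (Lpe (K13.f211160 IH) (Lpe (K12.f224992 IH) (Lpe (K1.f6955 IH) (Lpr_bt (K35.f29674 IH) (Lpr_gt (f30491 IH) (Lpr_ct (f30496 IH) (Lpr_gt (f30495 IH) (Lpn (LP (LK LD1_c31 LD2_c42 LD3_c19)))))))))))))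
theorem f397313 : Led Lsl_cf (LP (LK LD1_c26 LD2_c15 LD3_c2)) = (LP (LK LD1_c31 LD2_c42 LD3_c19)) :=
  Lgr Lrot11 (Lpr_ct (f397307 IH) (Lpn (LP (LK LD1_c31 LD2_c42 LD3_c19))))
theorem f397984 : Led Lsl_gt (LP (LK LD1_c8 LD2_c1 LD3_c38)) = (LP (LK LD1_c15 LD2_c6 LD3_c52)) :=
  Lgr Lrot9 (Lpe (K35.f29676 IH) (Lpr_gt (f30491 IH) (Lpr_ct (f30496 IH) (Lpr_gt (f30495 IH) (Lpe (f397313 IH) (Lpe (f397199 IH) (Lpe (f279981 IH) (Lpr_gf (f397979 IH) (Lpe (f397978 IH) (Lpn (LP (LK LD1_c15 LD2_c6 LD3_c52))))))))))))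
theorem f397994 : Led Lsl_ft (LP (LK LD1_c15 LD2_c6 LD3_c47)) = (LP (LK LD1_c8 LD2_c1 LD3_c35)) :=
  Lre_f IH (LK LD1_c15 LD2_c6 LD3_c47) (LK LD1_c8 LD2_c1 LD3_c35) Lrfl Lrfl
theorem f397995 : Led Lsl_gf (LP (LK LD1_c8 LD2_c1 LD3_c38)) = (LP (LK LD1_c15 LD2_c6 LD3_c47)) :=
  Lgr Lrot47 (Lpr_gt (f397984 IH) (Lpe (f397960 IH) (Lpe (f397994 IH) (Lpn (LP (LK LD1_c15 LD2_c6 LD3_c47))))))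
theorem f1954 : Led Lsl_bt (LP (LK LD1_c4 LD2_c50 LD3_c60)) = (LP (LK LD1_c9 LD2_c34 LD3_c2)) :=
  Lre_b IH (LK LD1_c4 LD2_c50 LD3_c60) (LK LD1_c9 LD2_c34 LD3_c2) Lrfl Lrfl
theorem f29807 : Led Lsl_cf (LP (LK LD1_c8 LD2_c1 LD3_c38)) = (LP (LK LD1_c9 LD2_c34 LD3_c2)) :=
  Lgr Lrot97 (Lpr_bt (K35.f29675 IH) (Lpr_ct (K1.f29636 IH) (Lpr_bt (K9.f29805 IH) (Lpr_ct (K12.f1798 IH) (Lpr_bt (f1954 IH) (Lpn (LP (LK LD1_c9 LD2_c34 LD3_c2))))))))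
theorem f1914 : Led Lsl_bt (LP (LK LD1_c9 LD2_c34 LD3_c2)) = (LP (LK LD1_c4 LD2_c50 LD3_c60)) :=
  Lre_b IH (LK LD1_c9 LD2_c34 LD3_c2) (LK LD1_c4 LD2_c50 LD3_c60) Lrfl Lrfl
theorem f29097 : Led Lsl_gt (LP (LK LD1_c7 LD2_c55 LD3_c27)) = (LP (LK LD1_c14 LD2_c56 LD3_c60)) :=
  Lre_g IH (LK LD1_c7 LD2_c55 LD3_c27) (LK LD1_c14 LD2_c56 LD3_c60) Lrfl Lrfl
theorem f200043 : Led Lsl_bt (LP (LK LD1_c24 LD2_c44 LD3_c28)) = (LP (LK LD1_c14 LD2_c56 LD3_c60)) :=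
  Lre_b IH (LK LD1_c24 LD2_c44 LD3_c28) (LK LD1_c14 LD2_c56 LD3_c60) Lrfl Lrfl
theorem f398011 : Led Lsl_ct (LP (LK LD1_c24 LD2_c44 LD3_c28)) = (LP (LK LD1_c15 LD2_c6 LD3_c47)) :=
  Lgr Lrot64 (Lpr_bt (f200043 IH) (Lpe (f29097 IH) (Lpe (K11.f29079 IH) (Lpr_ct (K1.f29111 IH) (Lpe (K13.f28795 IH) (Lpr_cf (K13.f232512 IH) (Lpe (K13.f1801 IH) (Lpe (f1914 IH) (Lpe (f29807 IH) (Lpr_gf (f397995 IH) (Lpn (LP (LK LD1_c15 LD2_c6 LD3_c47)))))))))))))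
theorem f232651 : Led Lsl_bt (LP (LK LD1_c14 LD2_c56 LD3_c60)) = (LP (LK LD1_c24 LD2_c44 LD3_c28)) :=
  Lre_b IH (LK LD1_c14 LD2_c56 LD3_c60) (LK LD1_c24 LD2_c44 LD3_c28) Lrfl Lrfl
theorem f29115 : Led Lsl_ct (LP (LK LD1_c24 LD2_c44 LD3_c29)) = (LP (LK LD1_c14 LD2_c56 LD3_c60)) :=
  Lre_c IH (LK LD1_c24 LD2_c44 LD3_c29) (LK LD1_c14 LD2_c56 LD3_c60) Lrfl Lrfl
theorem f237539 : Led Lsl_bt (LP (LK LD1_c8 LD2_c41 LD3_c58)) = (LP (LK LD1_c4 LD2_c22 LD3_c5)) :=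
  Lre_b IH (LK LD1_c8 LD2_c41 LD3_c58) (LK LD1_c4 LD2_c22 LD3_c5) Lrfl Lrfl
theorem f237540 : Led Lsl_ct (LP (LK LD1_c16 LD2_c17 LD3_c38)) = (LP (LK LD1_c8 LD2_c41 LD3_c58)) :=
  Lre_c IH (LK LD1_c16 LD2_c17 LD3_c38) (LK LD1_c8 LD2_c41 LD3_c58) Lrfl Lrfl
theorem f237541 : Led Lsl_bt (LP (LK LD1_c9 LD2_c37 LD3_c54)) = (LP (LK LD1_c16 LD2_c17 LD3_c38)) :=
  Lgr Lrot128 (Lpe (K24.f237538 IH) (Lpe (K17.f237523 IH) (Lpr_cf (K23.f237512 IH) (Lpe (f237539 IH) (Lpe (f237540 IH) (Lpn (LP (LK LD1_c16 LD2_c17 LD3_c38))))))))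
theorem f237556 : Led Lsl_et (LP (LK LD1_c16 LD2_c17 LD3_c38)) = (LP (LK LD1_c8 LD2_c41 LD3_c56)) :=
  Lre_e IH (LK LD1_c16 LD2_c17 LD3_c38) (LK LD1_c8 LD2_c41 LD3_c56) Lrfl Lrfl
theorem f237557 : Led Lsl_bf (LP (LK LD1_c4 LD2_c52 LD3_c60)) = (LP (LK LD1_c8 LD2_c41 LD3_c56)) :=
  Lgr Lrot96 (Lpr_et (K26.f237555 IH) (Lpr_bt (f237541 IH) (Lpr_et (f237556 IH) (Lpn (LP (LK LD1_c8 LD2_c41 LD3_c56))))))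
theorem f237483 : Led Lsl_gt (LP (LK LD1_c8 LD2_c41 LD3_c54)) = (LP (LK LD1_c4 LD2_c22 LD3_c3)) :=
  Lre_g IH (LK LD1_c8 LD2_c41 LD3_c54) (LK LD1_c4 LD2_c22 LD3_c3) Lrfl Lrfl
theorem f7989 : Led Lsl_bt (LP (LK LD1_c2 LD2_c6 LD3_c11)) = (LP (LK LD1_c4 LD2_c17 LD3_c41)) :=
  Lre_b IH (LK LD1_c2 LD2_c6 LD3_c11) (LK LD1_c4 LD2_c17 LD3_c41) Lrfl Lrfl
theorem f7990 : Led Lsl_gt (LP (LK LD1_c4 LD2_c17 LD3_c41)) = (LP (LK LD1_c8 LD2_c34 LD3_c21)) :=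
  Lre_g IH (LK LD1_c4 LD2_c17 LD3_c41) (LK LD1_c8 LD2_c34 LD3_c21) Lrfl Lrfl
theorem f184384 : Led Lsl_bt (LP (LK LD1_c16 LD2_c5 LD3_c20)) = (LP (LK LD1_c8 LD2_c34 LD3_c21)) :=
  Lre_b IH (LK LD1_c16 LD2_c5 LD3_c20) (LK LD1_c8 LD2_c34 LD3_c21) Lrfl Lrfl
theorem f237564 : Led Lsl_ct (LP (LK LD1_c16 LD2_c5 LD3_c20)) = (LP (LK LD1_c8 LD2_c41 LD3_c54)) :=
  Lgr Lrot64 (Lpr_bt (f184384 IH) (Lpe (f7990 IH) (Lpe (f7989 IH) (Lpr_ct (K16.f7957 IH) (Lpr_gf (K14.f184378 IH) (Lpe (K9.f29051 IH) (Lpe (K12.f186941 IH) (Lpr_bf (f237557 IH) (Lpr_ct (K17.f38970 IH) (Lpe (f237483 IH) (Lpn (LP (LK LD1_c8 LD2_c41 LD3_c54)))))))))))))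
theorem f237566 : Led Lsl_gt (LP (LK LD1_c26 LD2_c2 LD3_c22)) = (LP (LK LD1_c16 LD2_c5 LD3_c20)) :=
  Lre_g IH (LK LD1_c26 LD2_c2 LD3_c22) (LK LD1_c16 LD2_c5 LD3_c20) Lrfl Lrfl
theorem f237567 : Led Lsl_bt (LP (LK LD1_c24 LD2_c44 LD3_c29)) = (LP (LK LD1_c26 LD2_c2 LD3_c22)) :=
  Lgr Lrot130 (Lpr_ct (f29115 IH) (Lpe (f29097 IH) (Lpe (K13.f29090 IH) (Lpr_bt (K11.f29077 IH) (Lpe (K12.f186941 IH) (Lpr_bf (f237557 IH) (Lpr_ct (K17.f38970 IH) (Lpe (f237483 IH) (Lpe (f237564 IH) (Lpe (f237566 IH) (Lpn (LP (LK LD1_c26 LD2_c2 LD3_c22)))))))))))))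
theorem f237569 : Led Lsl_bf (LP (LK LD1_c24 LD2_c44 LD3_c29)) = (LP (LK LD1_c26 LD2_c2 LD3_c22)) :=
  Lgr Lrot24 (Lpr_bt (f237567 IH) (Lpn (LP (LK LD1_c26 LD2_c2 LD3_c22))))
theorem f398014 : Led Lsl_bt (LP (LK LD1_c15 LD2_c6 LD3_c47)) = (LP (LK LD1_c24 LD2_c54 LD3_c48)) :=
  Lre_b IH (LK LD1_c15 LD2_c6 LD3_c47) (LK LD1_c24 LD2_c54 LD3_c48) Lrfl Lrfl
theorem f398015 : Led Lsl_cf (LP (LK LD1_c26 LD2_c2 LD3_c22)) = (LP (LK LD1_c24 LD2_c54 LD3_c48)) :=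
  Lgr Lrot97 (Lpe (f237569 IH) (Lpr_ct (f29115 IH) (Lpr_bt (f232651 IH) (Lpr_ct (f398011 IH) (Lpr_bt (f398014 IH) (Lpn (LP (LK LD1_c24 LD2_c54 LD3_c48))))))))
theorem f237573 : Led Lsl_cf (LP (LK LD1_c16 LD2_c5 LD3_c20)) = (LP (LK LD1_c8 LD2_c41 LD3_c54)) :=
  Lgr Lrot11 (Lpr_ct (f237564 IH) (Lpn (LP (LK LD1_c8 LD2_c41 LD3_c54))))
theorem f237572 : Led Lsl_bt (LP (LK LD1_c8 LD2_c41 LD3_c54)) = (LP (LK LD1_c16 LD2_c17 LD3_c29)) :=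
  Lre_b IH (LK LD1_c8 LD2_c41 LD3_c54) (LK LD1_c16 LD2_c17 LD3_c29) Lrfl Lrfl
theorem f398008 : Led Lsl_bt (LP (LK LD1_c24 LD2_c54 LD3_c48)) = (LP (LK LD1_c15 LD2_c6 LD3_c47)) :=
  Lre_b IH (LK LD1_c24 LD2_c54 LD3_c48) (LK LD1_c15 LD2_c6 LD3_c47) Lrfl Lrfl
theorem f29823 : Led Lsl_ft (LP (LK LD1_c8 LD2_c1 LD3_c38)) = (LP (LK LD1_c4 LD2_c0 LD3_c18)) :=
  Lre_f IH (LK LD1_c8 LD2_c1 LD3_c38) (LK LD1_c4 LD2_c0 LD3_c18) Lrfl Lrfl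
theorem f397997 : Led Lsl_gf (LP (LK LD1_c8 LD2_c1 LD3_c36)) = (LP (LK LD1_c15 LD2_c6 LD3_c52)) :=
  Lgr Lrot76 (Lpe (K35.f29840 IH) (Lpe (f29823 IH) (Lpr_gt (f397984 IH) (Lpn (LP (LK LD1_c15 LD2_c6 LD3_c52))))))
theorem f398003 : Led Lsl_ft (LP (LK LD1_c15 LD2_c6 LD3_c52)) = (LP (LK LD1_c8 LD2_c1 LD3_c34)) :=
  Lre_f IH (LK LD1_c15 LD2_c6 LD3_c52) (LK LD1_c8 LD2_c1 LD3_c34) Lrfl Lrfl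
theorem f398004 : Led Lsl_at (LP (LK LD1_c8 LD2_c1 LD3_c34)) = (LP (LK LD1_c15 LD2_c6 LD3_c47)) :=
  Lre_a IH (LK LD1_c8 LD2_c1 LD3_c34) (LK LD1_c15 LD2_c6 LD3_c47) Lrfl Lrfl
theorem f398005 : Led Lsl_gt (LP (LK LD1_c8 LD2_c1 LD3_c36)) = (LP (LK LD1_c15 LD2_c6 LD3_c47)) :=
  Lgr Lrot46 (Lpr_gf (f397997 IH) (Lpr_ft (f398003 IH) (Lpr_at (f398004 IH) (Lpn (LP (LK LD1_c15 LD2_c6 LD3_c47))))))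
theorem f2488 : Led Lsl_bt (LP (LK LD1_c1 LD2_c9 LD3_c20)) = (LP (LK LD1_c2 LD2_c24 LD3_c23)) :=
  Lre_b IH (LK LD1_c1 LD2_c9 LD3_c20) (LK LD1_c2 LD2_c24 LD3_c23) Lrfl Lrfl
theorem f2359 : Led Lsl_at (LP (LK LD1_c2 LD2_c24 LD3_c23)) = (LP (LK LD1_c4 LD2_c53 LD3_c11)) :=
  Lre_a IH (LK LD1_c2 LD2_c24 LD3_c23) (LK LD1_c4 LD2_c53 LD3_c11) Lrfl Lrfl
theorem f29659 : Led Lsl_bt (LP (LK LD1_c4 LD2_c0 LD3_c18)) = (LP (LK LD1_c1 LD2_c56 LD3_c56)) :=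
  Lre_b IH (LK LD1_c4 LD2_c0 LD3_c18) (LK LD1_c1 LD2_c56 LD3_c56) Lrfl Lrfl
theorem f29660 : Led Lsl_at (LP (LK LD1_c8 LD2_c1 LD3_c36)) = (LP (LK LD1_c4 LD2_c0 LD3_c18)) :=
  Lre_a IH (LK LD1_c8 LD2_c1 LD3_c36) (LK LD1_c4 LD2_c0 LD3_c18) Lrfl Lrfl
theorem f29661 : Led Lsl_bt (LP (LK LD1_c4 LD2_c53 LD3_c11)) = (LP (LK LD1_c8 LD2_c1 LD3_c36)) :=
  Lgr Lrot62 (Lpe (f2359 IH) (Lpe (f2488 IH) (Lpr_af (K1.f29650 IH) (Lpe (f29659 IH) (Lpe (f29660 IH) (Lpn (LP (LK LD1_c8 LD2_c1 LD3_c36))))))))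
theorem f2308 : Led Lsl_gt (LP (LK LD1_c4 LD2_c52 LD3_c38)) = (LP (LK LD1_c2 LD2_c24 LD3_c40)) :=
  Lgr Lrot46 (Lpe (K30.f2189 IH) (Lpr_ft (K0.f2278 IH) (Lpr_at (K0.f2236 IH) (Lpn (LP (LK LD1_c2 LD2_c24 LD3_c40))))))
theorem f2333 : Led Lsl_ct (LP (LK LD1_c9 LD2_c37 LD3_c23)) = (LP (LK LD1_c4 LD2_c52 LD3_c38)) :=
  Lre_c IH (LK LD1_c9 LD2_c37 LD3_c23) (LK LD1_c4 LD2_c52 LD3_c38) Lrfl Lrfl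
theorem f398075 : Led Lsl_gt (LP (LK LD1_c16 LD2_c17 LD3_c29)) = (LP (LK LD1_c9 LD2_c37 LD3_c23)) :=
  Lgr Lrot82 (Lpe (f237572 IH) (Lpe (f237573 IH) (Lpe (f237566 IH) (Lpr_cf (f398015 IH) (Lpr_bt (f398008 IH) (Lpe (f398005 IH) (Lpe (f29661 IH) (Lpr_ct (K0.f2243 IH) (Lpe (f2308 IH) (Lpe (f2333 IH) (Lpn (LP (LK LD1_c9 LD2_c37 LD3_c23)))))))))))))
theorem f397760 : Led Lsl_at (LP (LK LD1_c8 LD2_c42 LD3_c6)) = (LP (LK LD1_c4 LD2_c22 LD3_c7)) :=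
  Lre_a IH (LK LD1_c8 LD2_c42 LD3_c6) (LK LD1_c4 LD2_c22 LD3_c7) Lrfl Lrfl
theorem f397799 : Led Lsl_bf (LP (LK LD1_c9 LD2_c37 LD3_c23)) = (LP (LK LD1_c16 LD2_c1 LD3_c45)) :=
  Lgr Lrot81 (Lpr_at (K30.f397694 IH) (Lpe (K30.f397756 IH) (Lpr_at (f397760 IH) (Lpr_bt (K30.f292739 IH) (Lpr_at (K30.f397795 IH) (Lpn (LP (LK LD1_c16 LD2_c1 LD3_c45))))))))
theorem f397842 : Led Lsl_bt (LP (LK LD1_c9 LD2_c38 LD3_c8)) = (LP (LK LD1_c17 LD2_c43 LD3_c59)) :=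
  Lre_b IH (LK LD1_c9 LD2_c38 LD3_c8) (LK LD1_c17 LD2_c43 LD3_c59) Lrfl Lrfl
theorem f398081 : Led Lsl_gf (LP (LK LD1_c24 LD2_c54 LD3_c48)) = (LP (LK LD1_c17 LD2_c43 LD3_c59)) :=
  Lgr Lrot181 (Lpe (f398015 IH) (Lpr_gt (f237566 IH) (Lpr_cf (f237573 IH) (Lpr_bt (f237572 IH) (Lpr_gt (f398075 IH) (Lpr_bf (f397799 IH) (Lpr_ct (K30.f397063 IH) (Lpr_gt (K31.f397064 IH) (Lpe (K31.f397838 IH) (Lpr_bt (f397842 IH) (Lpn (LP (LK LD1_c17 LD2_c43 LD3_c59)))))))))))))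
theorem f397952 : Led Lsl_at (LP (LK LD1_c15 LD2_c6 LD3_c53)) = (LP (LK LD1_c24 LD2_c54 LD3_c59)) :=
  Lre_a IH (LK LD1_c15 LD2_c6 LD3_c53) (LK LD1_c24 LD2_c54 LD3_c59) Lrfl Lrfl
theorem f397953 : Led Lsl_ft (LP (LK LD1_c24 LD2_c54 LD3_c48)) = (LP (LK LD1_c15 LD2_c6 LD3_c53)) :=
  Lre_f IH (LK LD1_c24 LD2_c54 LD3_c48) (LK LD1_c15 LD2_c6 LD3_c53) Lrfl Lrfl
theorem f397954 : Led Lsl_at (LP (LK LD1_c26 LD2_c10 LD3_c48)) = (LP (LK LD1_c24 LD2_c54 LD3_c48)) :=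
  Lgr Lrot66 (Lpr_ff (f397950 IH) (Lpe (f397952 IH) (Lpe (f397953 IH) (Lpn (LP (LK LD1_c24 LD2_c54 LD3_c48))))))
theorem f398084 : Led Lsl_gt (LP (LK LD1_c24 LD2_c54 LD3_c59)) = (LP (LK LD1_c17 LD2_c43 LD3_c59)) :=
  Lgr Lrot5 (Lpe (f397950 IH) (Lpr_at (f397954 IH) (Lpr_gf (f398081 IH) (Lpn (LP (LK LD1_c17 LD2_c43 LD3_c59))))))
theorem f397965 : Led Lsl_ct (LP (LK LD1_c26 LD2_c10 LD3_c51)) = (LP (LK LD1_c16 LD2_c14 LD3_c1)) :=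
  Lre_c IH (LK LD1_c26 LD2_c10 LD3_c51) (LK LD1_c16 LD2_c14 LD3_c1) Lrfl Lrfl
theorem f39506 : Led Lsl_ct (LP (LK LD1_c4 LD2_c22 LD3_c10)) = (LP (LK LD1_c8 LD2_c40 LD3_c9)) :=
  Lre_c IH (LK LD1_c4 LD2_c22 LD3_c10) (LK LD1_c8 LD2_c40 LD3_c9) Lrfl Lrfl
theorem f398086 : Led Lsl_gf (LP (LK LD1_c16 LD2_c14 LD3_c1)) = (LP (LK LD1_c8 LD2_c40 LD3_c9)) :=
  Lgr Lrot129 (Lpe (f397965 IH) (Lpr_bt (f397957 IH) (Lpr_gt (f398084 IH) (Lpe (f397842 IH) (Lpr_ct (K31.f397838 IH) (Lpe (K31.f397834 IH) (Lpe (K31.f397630 IH) (Lpr_bt (K31.f397628 IH) (Lpr_gt (K31.f397773 IH) (Lpr_ct (f39506 IH) (Lpn (LP (LK LD1_c8 LD2_c40 LD3_c9)))))))))))))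
theorem f232445 : Led Lsl_ft (LP (LK LD1_c8 LD2_c40 LD3_c9)) = (LP (LK LD1_c4 LD2_c21 LD3_c14)) :=
  Lre_f IH (LK LD1_c8 LD2_c40 LD3_c9) (LK LD1_c4 LD2_c21 LD3_c14) Lrfl Lrfl
theorem f267414 : Led Lsl_at (LP (LK LD1_c4 LD2_c21 LD3_c14)) = (LP (LK LD1_c8 LD2_c40 LD3_c7)) :=
  Lre_a IH (LK LD1_c4 LD2_c21 LD3_c14) (LK LD1_c8 LD2_c40 LD3_c7) Lrfl Lrfl
theorem f398092 : Led Lsl_gt (LP (LK LD1_c16 LD2_c14 LD3_c1)) = (LP (LK LD1_c8 LD2_c40 LD3_c7)) :=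
  Lgr Lrot46 (Lpr_gf (f398086 IH) (Lpr_ft (f232445 IH) (Lpr_at (f267414 IH) (Lpn (LP (LK LD1_c8 LD2_c40 LD3_c7))))))
theorem f398101 : Led Lsl_ft (LP (LK LD1_c16 LD2_c14 LD3_c1)) = (LP (LK LD1_c8 LD2_c40 LD3_c5)) :=
  Lre_f IH (LK LD1_c16 LD2_c14 LD3_c1) (LK LD1_c8 LD2_c40 LD3_c5) Lrfl Lrfl
theorem f398102 : Led Lsl_at (LP (LK LD1_c8 LD2_c40 LD3_c5)) = (LP (LK LD1_c16 LD2_c13 LD3_c58)) :=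
  Lre_a IH (LK LD1_c8 LD2_c40 LD3_c5) (LK LD1_c16 LD2_c13 LD3_c58) Lrfl Lrfl
theorem f398103 : Led Lsl_gf (LP (LK LD1_c16 LD2_c13 LD3_c58)) = (LP (LK LD1_c8 LD2_c40 LD3_c7)) :=
  Lgr Lrot76 (Lpe (f398102 IH) (Lpe (f398101 IH) (Lpr_gt (f398092 IH) (Lpn (LP (LK LD1_c8 LD2_c40 LD3_c7))))))
theorem f238902 : Led Lsl_bt (LP (LK LD1_c16 LD2_c8 LD3_c35)) = (LP (LK LD1_c8 LD2_c37 LD3_c1)) :=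
  Lre_b IH (LK LD1_c16 LD2_c8 LD3_c35) (LK LD1_c8 LD2_c37 LD3_c1) Lrfl Lrfl
theorem f238904 : Led Lsl_dt (LP (LK LD1_c8 LD2_c40 LD3_c33)) = (LP (LK LD1_c16 LD2_c8 LD3_c35)) :=
  Lgr Lrot79 (Lpe (f238739 IH) (Lpr_df (K13.f238900 IH) (Lpe (f238902 IH) (Lpn (LP (LK LD1_c16 LD2_c8 LD3_c35))))))
theorem f237187 : Led Lsl_dt (LP (LK LD1_c15 LD2_c19 LD3_c6)) = (LP (LK LD1_c8 LD2_c8 LD3_c8)) :=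
  Lre_d IH (LK LD1_c15 LD2_c19 LD3_c6) (LK LD1_c8 LD2_c8 LD3_c8) Lrfl Lrfl
theorem f411566 : Led Lsl_ff (LP (LK LD1_c8 LD2_c40 LD3_c33)) = (LP (LK LD1_c8 LD2_c8 LD3_c8)) :=
  Lgr Lrot19 (Lpr_dt (f238904 IH) (Lpr_ft (f269587 IH) (Lpr_dt (f237187 IH) (Lpn (LP (LK LD1_c8 LD2_c8 LD3_c8))))))
theorem f237116 : Led Lsl_bt (LP (LK LD1_c4 LD2_c12 LD3_c24)) = (LP (LK LD1_c8 LD2_c24 LD3_c23)) :=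
  Lre_b IH (LK LD1_c4 LD2_c12 LD3_c24) (LK LD1_c8 LD2_c24 LD3_c23) Lrfl Lrfl
theorem f229907 : Led Lsl_bt (LP (LK LD1_c1 LD2_c58 LD3_c54)) = (LP (LK LD1_c4 LD2_c3 LD3_c44)) :=
  Lre_b IH (LK LD1_c1 LD2_c58 LD3_c54) (LK LD1_c4 LD2_c3 LD3_c44) Lrfl Lrfl
theorem f237117 : Led Lsl_ct (LP (LK LD1_c8 LD2_c24 LD3_c23)) = (LP (LK LD1_c8 LD2_c8 LD3_c8)) :=
  Lgr Lrot83 (Lpe (f237116 IH) (Lpr_cf (K15.f236996 IH) (Lpe (f229907 IH) (Lpe (K13.f201276 IH) (Lpe (f229906 IH) (Lpn (LP (LK LD1_c8 LD2_c8 LD3_c8))))))))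
theorem f411578 : Led Lsl_ft (LP (LK LD1_c8 LD2_c37 LD3_c20)) = (LP (LK LD1_c8 LD2_c24 LD3_c23)) :=
  Lgr Lrot4 (Lpe (f267173 IH) (Lpr_ff (f411566 IH) (Lpe (f237117 IH) (Lpn (LP (LK LD1_c8 LD2_c24 LD3_c23))))))
theorem f411582 : Led Lsl_ff (LP (LK LD1_c8 LD2_c37 LD3_c20)) = (LP (LK LD1_c8 LD2_c24 LD3_c23)) :=
  Lgr Lrot3 (Lpr_ft (f411578 IH) (Lpn (LP (LK LD1_c8 LD2_c24 LD3_c23))))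
theorem f237133 : Led Lsl_cf (LP (LK LD1_c8 LD2_c24 LD3_c25)) = (LP (LK LD1_c8 LD2_c7 LD3_c54)) :=
  Lgr Lrot11 (Lpr_ct (K20.f237124 IH) (Lpn (LP (LK LD1_c8 LD2_c7 LD3_c54))))
theorem f237146 : Led Lsl_bt (LP (LK LD1_c8 LD2_c24 LD3_c25)) = (LP (LK LD1_c15 LD2_c48 LD3_c19)) :=
  Lre_b IH (LK LD1_c8 LD2_c24 LD3_c25) (LK LD1_c15 LD2_c48 LD3_c19) Lrfl Lrfl
theorem f237161 : Led Lsl_bt (LP (LK LD1_c15 LD2_c19 LD3_c0)) = (LP (LK LD1_c8 LD2_c8 LD3_c6)) :=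
  Lre_b IH (LK LD1_c15 LD2_c19 LD3_c0) (LK LD1_c8 LD2_c8 LD3_c6) Lrfl Lrfl
theorem f237162 : Led Lsl_ct (LP (LK LD1_c15 LD2_c48 LD3_c19)) = (LP (LK LD1_c15 LD2_c19 LD3_c0)) :=
  Lgr Lrot83 (Lpe (f237146 IH) (Lpr_cf (f237133 IH) (Lpe (K25.f236904 IH) (Lpe (K16.f227004 IH) (Lpe (f237161 IH) (Lpn (LP (LK LD1_c15 LD2_c19 LD3_c0))))))))
theorem f237175 : Led Lsl_et (LP (LK LD1_c8 LD2_c24 LD3_c23)) = (LP (LK LD1_c15 LD2_c48 LD3_c19)) :=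
  Lre_e IH (LK LD1_c8 LD2_c24 LD3_c23) (LK LD1_c15 LD2_c48 LD3_c19) Lrfl Lrfl
theorem f237176 : Led Lsl_et (LP (LK LD1_c15 LD2_c19 LD3_c0)) = (LP (LK LD1_c8 LD2_c8 LD3_c8)) :=
  Lre_e IH (LK LD1_c15 LD2_c19 LD3_c0) (LK LD1_c8 LD2_c8 LD3_c8) Lrfl Lrfl
theorem f237177 : Led Lsl_cf (LP (LK LD1_c8 LD2_c24 LD3_c23)) = (LP (LK LD1_c8 LD2_c8 LD3_c8)) :=
  Lgr Lrot39 (Lpr_et (f237175 IH) (Lpr_ct (f237162 IH) (Lpr_et (f237176 IH) (Lpn (LP (LK LD1_c8 LD2_c8 LD3_c8))))))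
theorem f411586 : Led Lsl_ct (LP (LK LD1_c8 LD2_c37 LD3_c20)) = (LP (LK LD1_c8 LD2_c40 LD3_c33)) :=
  Lgr Lrot40 (Lpr_ff (f411582 IH) (Lpr_cf (f237177 IH) (Lpe (f269486 IH) (Lpn (LP (LK LD1_c8 LD2_c40 LD3_c33))))))
theorem f411574 : Led Lsl_dt (LP (LK LD1_c16 LD2_c9 LD3_c9)) = (LP (LK LD1_c8 LD2_c37 LD3_c20)) :=
  Lre_d IH (LK LD1_c16 LD2_c9 LD3_c9) (LK LD1_c8 LD2_c37 LD3_c20) Lrfl Lrfl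
theorem f365151 : Led Lsl_gt (LP (LK LD1_c26 LD2_c5 LD3_c53)) = (LP (LK LD1_c16 LD2_c9 LD3_c9)) :=
  Lre_g IH (LK LD1_c26 LD2_c5 LD3_c53) (LK LD1_c16 LD2_c9 LD3_c9) Lrfl Lrfl
theorem f550777 : Led Lsl_dt (LP (LK LD1_c16 LD2_c13 LD3_c58)) = (LP (LK LD1_c26 LD2_c5 LD3_c53)) :=
  Lgr Lrot57 (Lpr_gf (f398103 IH) (Lpe (f39467 IH) (Lpe (f398334 IH) (Lpr_dt (f397789 IH) (Lpr_gt (f550773 IH) (Lpr_dt (f411570 IH) (Lpe (f411586 IH) (Lpe (f411574 IH) (Lpe (f365151 IH) (Lpn (LP (LK LD1_c26 LD2_c5 LD3_c53))))))))))))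
theorem f398124 : Led Lsl_ft (LP (LK LD1_c8 LD2_c40 LD3_c6)) = (LP (LK LD1_c16 LD2_c13 LD3_c58)) :=
  Lre_f IH (LK LD1_c8 LD2_c40 LD3_c6) (LK LD1_c16 LD2_c13 LD3_c58) Lrfl Lrfl
theorem f279947 : Led Lsl_dt (LP (LK LD1_c16 LD2_c14 LD3_c4)) = (LP (LK LD1_c8 LD2_c40 LD3_c6)) :=
  Lre_d IH (LK LD1_c16 LD2_c14 LD3_c4) (LK LD1_c8 LD2_c40 LD3_c6) Lrfl Lrfl
theorem f550784 : Led Lsl_ff (LP (LK LD1_c16 LD2_c14 LD3_c4)) = (LP (LK LD1_c26 LD2_c5 LD3_c53)) :=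
  Lgr Lrot19 (Lpr_dt (f279947 IH) (Lpr_ft (f398124 IH) (Lpr_dt (f550777 IH) (Lpn (LP (LK LD1_c26 LD2_c5 LD3_c53))))))
theorem f550787 : Led Lsl_ft (LP (LK LD1_c16 LD2_c14 LD3_c4)) = (LP (LK LD1_c26 LD2_c5 LD3_c53)) :=
  Lgr Lrot48 (Lpr_ff (f550784 IH) (Lpn (LP (LK LD1_c26 LD2_c5 LD3_c53))))
theorem f392586 : Led Lsl_dt (LP (LK LD1_c16 LD2_c13 LD3_c61)) = (LP (LK LD1_c8 LD2_c40 LD3_c5)) :=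
  Lre_d IH (LK LD1_c16 LD2_c13 LD3_c61) (LK LD1_c8 LD2_c40 LD3_c5) Lrfl Lrfl
theorem f550780 : Led Lsl_af (LP (LK LD1_c16 LD2_c13 LD3_c61)) = (LP (LK LD1_c26 LD2_c5 LD3_c53)) :=
  Lgr Lrot117 (Lpr_dt (f392586 IH) (Lpr_at (f398102 IH) (Lpr_dt (f550777 IH) (Lpn (LP (LK LD1_c26 LD2_c5 LD3_c53))))))
theorem f384341 : Led Lsl_dt (LP (LK LD1_c10 LD2_c59 LD3_c15)) = (LP (LK LD1_c8 LD2_c59 LD3_c61)) :=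
  Lgr Lrot27 (Lpe (K30.f221040 IH) (Lpe (K30.f381109 IH) (Lpe (K17.f171760 IH) (Lpr_gf (K27.f380873 IH) (Lpe (K30.f253858 IH) (Lpr_gt (K30.f226773 IH) (Lpr_ct (K30.f276259 IH) (Lpr_gt (K30.f384327 IH) (Lpr_ct (K30.f319270 IH) (Lpn (LP (LK LD1_c8 LD2_c59 LD3_c61))))))))))))
theorem f281656 : Led Lsl_ct (LP (LK LD1_c10 LD2_c59 LD3_c38)) = (LP (LK LD1_c5 LD2_c33 LD3_c50)) :=
  Lre_c IH (LK LD1_c10 LD2_c59 LD3_c38) (LK LD1_c5 LD2_c33 LD3_c50) Lrfl Lrfl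
theorem f392387 : Led Lsl_gf (LP (LK LD1_c7 LD2_c58 LD3_c55)) = (LP (LK LD1_c10 LD2_c59 LD3_c38)) :=
  Lgr Lrot144 (Lpr_dt (K20.f318457 IH) (Lpr_gt (K30.f318497 IH) (Lpr_dt (K30.f380910 IH) (Lpe (K30.f179860 IH) (Lpe (f384341 IH) (Lpr_gf (K31.f392158 IH) (Lpe (K20.f174082 IH) (Lpe (K31.f174095 IH) (Lpe (f281656 IH) (Lpn (LP (LK LD1_c10 LD2_c59 LD3_c38))))))))))))
theorem f318476 : Led Lsl_at (LP (LK LD1_c10 LD2_c54 LD3_c33)) = (LP (LK LD1_c7 LD2_c58 LD3_c55)) :=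
  Lgr Lrot107 (Lpe (K30.f173661 IH) (Lpr_af (K20.f318464 IH) (Lpe (K30.f173635 IH) (Lpn (LP (LK LD1_c7 LD2_c58 LD3_c55))))))
theorem f392530 : Led Lsl_gt (LP (LK LD1_c7 LD2_c58 LD3_c59)) = (LP (LK LD1_c10 LD2_c59 LD3_c38)) :=
  Lgr Lrot5 (Lpr_ft (K20.f318431 IH) (Lpr_at (f318476 IH) (Lpr_gf (f392387 IH) (Lpn (LP (LK LD1_c10 LD2_c59 LD3_c38))))))
theorem f140428 : Led Lsl_ct (LP (LK LD1_c7 LD2_c59 LD3_c1)) = (LP (LK LD1_c15 LD2_c3 LD3_c42)) :=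
  Lre_c IH (LK LD1_c7 LD2_c59 LD3_c1) (LK LD1_c15 LD2_c3 LD3_c42) Lrfl Lrfl
theorem f175233 : Led Lsl_ct (LP (LK LD1_c19 LD2_c50 LD3_c24)) = (LP (LK LD1_c10 LD2_c59 LD3_c39)) :=
  Lre_c IH (LK LD1_c19 LD2_c50 LD3_c24) (LK LD1_c10 LD2_c59 LD3_c39) Lrfl Lrfl
theorem f392562 : Led Lsl_gt (LP (LK LD1_c15 LD2_c3 LD3_c42)) = (LP (LK LD1_c19 LD2_c50 LD3_c24)) :=
  Lgr Lrot150 (Lpe (f140428 IH) (Lpe (K30.f140426 IH) (Lpr_df (K9.f173692 IH) (Lpe (K16.f174020 IH) (Lpr_ct (K20.f174025 IH) (Lpr_gt (f392530 IH) (Lpr_ct (f281656 IH) (Lpe (K31.f174098 IH) (Lpe (f175233 IH) (Lpn (LP (LK LD1_c19 LD2_c50 LD3_c24))))))))))))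
theorem f319029 : Led Lsl_gt (LP (LK LD1_c15 LD2_c45 LD3_c46)) = (LP (LK LD1_c8 LD2_c22 LD3_c37)) :=
  Lre_g IH (LK LD1_c15 LD2_c45 LD3_c46) (LK LD1_c8 LD2_c22 LD3_c37) Lrfl Lrfl
theorem f392564 : Led Lsl_df (LP (LK LD1_c15 LD2_c45 LD3_c46)) = (LP (LK LD1_c19 LD2_c50 LD3_c24)) :=
  Lgr Lrot153 (Lpr_gt (f319029 IH) (Lpe (K31.f319033 IH) (Lpe (K17.f171760 IH) (Lpe (K17.f54799 IH) (Lpe (K17.f54798 IH) (Lpe (K9.f54825 IH) (Lpe (K30.f54819 IH) (Lpe (K30.f140429 IH) (Lpr_gt (f392562 IH) (Lpn (LP (LK LD1_c19 LD2_c50 LD3_c24))))))))))))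
theorem f392567 : Led Lsl_dt (LP (LK LD1_c15 LD2_c45 LD3_c46)) = (LP (LK LD1_c19 LD2_c50 LD3_c24)) :=
  Lgr Lrot42 (Lpr_df (f392564 IH) (Lpn (LP (LK LD1_c19 LD2_c50 LD3_c24))))
theorem f175235 : Led Lsl_ct (LP (LK LD1_c10 LD2_c59 LD3_c39)) = (LP (LK LD1_c19 LD2_c50 LD3_c24)) :=
  Lre_c IH (LK LD1_c10 LD2_c59 LD3_c39) (LK LD1_c19 LD2_c50 LD3_c24) Lrfl Lrfl
theorem f392570 : Led Lsl_gf (LP (LK LD1_c15 LD2_c45 LD3_c46)) = (LP (LK LD1_c16 LD2_c5 LD3_c19)) :=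
  Lgr Lrot143 (Lpr_dt (f392567 IH) (Lpe (f175235 IH) (Lpe (K31.f174096 IH) (Lpe (K31.f390379 IH) (Lpe (K31.f390344 IH) (Lpe (K31.f392155 IH) (Lpe (K30.f221040 IH) (Lpr_gt (K31.f384539 IH) (Lpe (K30.f318876 IH) (Lpn (LP (LK LD1_c16 LD2_c5 LD3_c19))))))))))))
theorem f54032 : Led Lsl_bt (LP (LK LD1_c15 LD2_c24 LD3_c7)) = (LP (LK LD1_c15 LD2_c24 LD3_c14)) :=
  Lgr Lrot127 (Lpr_bf (K30.f54030 IH) (Lpn (LP (LK LD1_c15 LD2_c24 LD3_c14))))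
theorem f374396 : Led Lsl_gt (LP (LK LD1_c16 LD2_c8 LD3_c40)) = (LP (LK LD1_c15 LD2_c24 LD3_c14)) :=
  Lgr Lrot46 (Lpe (K30.f292727 IH) (Lpr_ft (K30.f374385 IH) (Lpr_at (K30.f54008 IH) (Lpn (LP (LK LD1_c15 LD2_c24 LD3_c14))))))
theorem f39713 : Led Lsl_gt (LP (LK LD1_c8 LD2_c42 LD3_c0)) = (LP (LK LD1_c4 LD2_c22 LD3_c7)) :=
  Lre_g IH (LK LD1_c8 LD2_c42 LD3_c0) (LK LD1_c4 LD2_c22 LD3_c7) Lrfl Lrfl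
theorem f39697 : Led Lsl_ct (LP (LK LD1_c16 LD2_c13 LD3_c57)) = (LP (LK LD1_c8 LD2_c42 LD3_c0)) :=
  Lre_c IH (LK LD1_c16 LD2_c13 LD3_c57) (LK LD1_c8 LD2_c42 LD3_c0) Lrfl Lrfl
theorem f39716 : Led Lsl_gt (LP (LK LD1_c8 LD2_c40 LD3_c5)) = (LP (LK LD1_c16 LD2_c13 LD3_c57)) :=
  Lre_g IH (LK LD1_c8 LD2_c40 LD3_c5) (LK LD1_c16 LD2_c13 LD3_c57) Lrfl Lrfl
theorem f256055 : Led Lsl_bt (LP (LK LD1_c16 LD2_c13 LD3_c59)) = (LP (LK LD1_c8 LD2_c40 LD3_c5)) :=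
  Lre_b IH (LK LD1_c16 LD2_c13 LD3_c59) (LK LD1_c8 LD2_c40 LD3_c5) Lrfl Lrfl
theorem f392572 : Led Lsl_cf (LP (LK LD1_c15 LD2_c45 LD3_c46)) = (LP (LK LD1_c16 LD2_c13 LD3_c59)) :=
  Lgr Lrot58 (Lpr_gf (f392570 IH) (Lpe (K30.f318890 IH) (Lpr_bt (f54032 IH) (Lpe (f374396 IH) (Lpe (K30.f292728 IH) (Lpr_ct (K30.f292726 IH) (Lpe (f39713 IH) (Lpe (f39697 IH) (Lpe (f39716 IH) (Lpe (f256055 IH) (Lpn (LP (LK LD1_c16 LD2_c13 LD3_c59)))))))))))))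
theorem f392574 : Led Lsl_ct (LP (LK LD1_c15 LD2_c45 LD3_c46)) = (LP (LK LD1_c16 LD2_c13 LD3_c59)) :=
  Lgr Lrot59 (Lpr_cf (f392572 IH) (Lpn (LP (LK LD1_c16 LD2_c13 LD3_c59))))
theorem f392394 : Led Lsl_at (LP (LK LD1_c10 LD2_c58 LD3_c54)) = (LP (LK LD1_c5 LD2_c33 LD3_c28)) :=
  Lre_a IH (LK LD1_c10 LD2_c58 LD3_c54) (LK LD1_c5 LD2_c33 LD3_c28) Lrfl Lrfl
theorem f392395 : Led Lsl_ff (LP (LK LD1_c10 LD2_c58 LD3_c54)) = (LP (LK LD1_c5 LD2_c33 LD3_c50)) :=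
  Lgr Lrot52 (Lpr_at (f392394 IH) (Lpr_gf (K31.f392389 IH) (Lpe (K31.f174095 IH) (Lpn (LP (LK LD1_c5 LD2_c33 LD3_c50))))))
theorem f238392 : Led Lsl_ct (LP (LK LD1_c10 LD2_c58 LD3_c55)) = (LP (LK LD1_c5 LD2_c33 LD3_c28)) :=
  Lre_c IH (LK LD1_c10 LD2_c58 LD3_c55) (LK LD1_c5 LD2_c33 LD3_c28) Lrfl Lrfl
theorem f238395 : Led Lsl_dt (LP (LK LD1_c19 LD2_c49 LD3_c21)) = (LP (LK LD1_c10 LD2_c58 LD3_c55)) :=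
  Lre_d IH (LK LD1_c19 LD2_c49 LD3_c21) (LK LD1_c10 LD2_c58 LD3_c55) Lrfl Lrfl
theorem f279955 : Led Lsl_dt (LP (LK LD1_c16 LD2_c13 LD3_c59)) = (LP (LK LD1_c26 LD2_c10 LD3_c46)) :=
  Lre_d IH (LK LD1_c16 LD2_c13 LD3_c59) (LK LD1_c26 LD2_c10 LD3_c46) Lrfl Lrfl
theorem f392576 : Led Lsl_cf (LP (LK LD1_c19 LD2_c49 LD3_c21)) = (LP (LK LD1_c26 LD2_c10 LD3_c46)) :=
  Lgr Lrot161 (Lpr_dt (f238395 IH) (Lpr_ct (f238392 IH) (Lpe (f392394 IH) (Lpr_ff (f392395 IH) (Lpr_dt (K31.f174096 IH) (Lpr_ct (f175235 IH) (Lpe (f392564 IH) (Lpr_ct (f392574 IH) (Lpr_dt (f279955 IH) (Lpn (LP (LK LD1_c26 LD2_c10 LD3_c46))))))))))))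
theorem f267518 : Led Lsl_bt (LP (LK LD1_c8 LD2_c24 LD3_c24)) = (LP (LK LD1_c15 LD2_c48 LD3_c18)) :=
  Lre_b IH (LK LD1_c8 LD2_c24 LD3_c24) (LK LD1_c15 LD2_c48 LD3_c18) Lrfl Lrfl
theorem f392580 : Led Lsl_bt (LP (LK LD1_c26 LD2_c10 LD3_c46)) = (LP (LK LD1_c16 LD2_c13 LD3_c61)) :=
  Lre_b IH (LK LD1_c26 LD2_c10 LD3_c46) (LK LD1_c16 LD2_c13 LD3_c61) Lrfl Lrfl
theorem f392584 : Led Lsl_gt (LP (LK LD1_c15 LD2_c48 LD3_c18)) = (LP (LK LD1_c16 LD2_c13 LD3_c61)) :=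
  Lgr Lrot164 (Lpe (f267518 IH) (Lpe (K17.f278718 IH) (Lpe (K16.f278709 IH) (Lpr_cf (K16.f278704 IH) (Lpr_gf (K16.f278702 IH) (Lpe (K30.f278714 IH) (Lpe (K30.f332622 IH) (Lpe (K30.f384638 IH) (Lpr_cf (f392576 IH) (Lpr_bt (f392580 IH) (Lpn (LP (LK LD1_c16 LD2_c13 LD3_c61)))))))))))))
theorem f550790 : Led Lsl_gt (LP (LK LD1_c16 LD2_c14 LD3_c4)) = (LP (LK LD1_c15 LD2_c48 LD3_c18)) :=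
  Lgr Lrot5 (Lpr_ft (f550787 IH) (Lpe (f550780 IH) (Lpe (f392584 IH) (Lpn (LP (LK LD1_c15 LD2_c48 LD3_c18))))))
theorem f279946 : Led Lsl_dt (LP (LK LD1_c8 LD2_c40 LD3_c6)) = (LP (LK LD1_c16 LD2_c14 LD3_c4)) :=
  Lre_d IH (LK LD1_c8 LD2_c40 LD3_c6) (LK LD1_c16 LD2_c14 LD3_c4) Lrfl Lrfl
theorem f39743 : Led Lsl_gt (LP (LK LD1_c16 LD2_c13 LD3_c57)) = (LP (LK LD1_c8 LD2_c40 LD3_c6)) :=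
  Lre_g IH (LK LD1_c16 LD2_c13 LD3_c57) (LK LD1_c8 LD2_c40 LD3_c6) Lrfl Lrfl
theorem f39730 : Led Lsl_dt (LP (LK LD1_c4 LD2_c22 LD3_c7)) = (LP (LK LD1_c8 LD2_c42 LD3_c9)) :=
  Lre_d IH (LK LD1_c4 LD2_c22 LD3_c7) (LK LD1_c8 LD2_c42 LD3_c9) Lrfl Lrfl
theorem f237189 : Led Lsl_dt (LP (LK LD1_c15 LD2_c48 LD3_c18)) = (LP (LK LD1_c8 LD2_c24 LD3_c23)) :=
  Lre_d IH (LK LD1_c15 LD2_c48 LD3_c18) (LK LD1_c8 LD2_c24 LD3_c23) Lrfl Lrfl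
theorem f550792 : Led Lsl_gt (LP (LK LD1_c8 LD2_c42 LD3_c9)) = (LP (LK LD1_c15 LD2_c19 LD3_c6)) :=
  Lgr Lrot49 (Lpe (f39730 IH) (Lpe (f39713 IH) (Lpe (f39697 IH) (Lpr_gt (f39743 IH) (Lpr_dt (f279946 IH) (Lpr_gt (f550790 IH) (Lpr_dt (f237189 IH) (Lpr_cf (f237177 IH) (Lpe (f237187 IH) (Lpn (LP (LK LD1_c15 LD2_c19 LD3_c6))))))))))))
theorem f550527 : Led Lsl_ft (LP (LK LD1_c8 LD2_c42 LD3_c9)) = (LP (LK LD1_c16 LD2_c17 LD3_c52)) :=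
  Lre_f IH (LK LD1_c8 LD2_c42 LD3_c9) (LK LD1_c16 LD2_c17 LD3_c52) Lrfl Lrfl
theorem f397645 : Led Lsl_at (LP (LK LD1_c16 LD2_c17 LD3_c52)) = (LP (LK LD1_c8 LD2_c42 LD3_c4)) :=
  Lre_a IH (LK LD1_c16 LD2_c17 LD3_c52) (LK LD1_c8 LD2_c42 LD3_c4) Lrfl Lrfl
theorem f550798 : Led Lsl_gf (LP (LK LD1_c8 LD2_c42 LD3_c4)) = (LP (LK LD1_c15 LD2_c19 LD3_c6)) :=
  Lgr Lrot76 (Lpe (f397645 IH) (Lpe (f550527 IH) (Lpr_gt (f550792 IH) (Lpn (LP (LK LD1_c15 LD2_c19 LD3_c6))))))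
theorem f397676 : Led Lsl_bt (LP (LK LD1_c16 LD2_c17 LD3_c54)) = (LP (LK LD1_c8 LD2_c42 LD3_c4)) :=
  Lre_b IH (LK LD1_c16 LD2_c17 LD3_c54) (LK LD1_c8 LD2_c42 LD3_c4) Lrfl Lrfl
theorem f397673 : Led Lsl_ct (LP (LK LD1_c16 LD2_c17 LD3_c54)) = (LP (LK LD1_c26 LD2_c15 LD3_c46)) :=
  Lre_c IH (LK LD1_c16 LD2_c17 LD3_c54) (LK LD1_c26 LD2_c15 LD3_c46) Lrfl Lrfl
theorem f237701 : Led Lsl_bt (LP (LK LD1_c8 LD2_c8 LD3_c9)) = (LP (LK LD1_c15 LD2_c19 LD3_c6)) :=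
  Lre_b IH (LK LD1_c8 LD2_c8 LD3_c9) (LK LD1_c15 LD2_c19 LD3_c6) Lrfl Lrfl
theorem f550805 : Led Lsl_gt (LP (LK LD1_c26 LD2_c15 LD3_c46)) = (LP (LK LD1_c25 LD2_c15 LD3_c50)) :=
  Lgr Lrot65 (Lpe (f397673 IH) (Lpr_bt (f397676 IH) (Lpr_gf (f550798 IH) (Lpe (f237701 IH) (Lpe (K13.f237702 IH) (Lpe (K13.f39206 IH) (Lpe (K16.f269612 IH) (Lpe (K21.f269643 IH) (Lpe (K22.f269633 IH) (Lpr_ct (K22.f269634 IH) (Lpn (LP (LK LD1_c25 LD2_c15 LD3_c50)))))))))))))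
theorem f2841 : Led Lsl_ct (LP (LK LD1_c17 LD2_c45 LD3_c30)) = (LP (LK LD1_c9 LD2_c39 LD3_c13)) :=
  Lre_c IH (LK LD1_c17 LD2_c45 LD3_c30) (LK LD1_c9 LD2_c39 LD3_c13) Lrfl Lrfl
theorem f397743 : Led Lsl_ft (LP (LK LD1_c26 LD2_c15 LD3_c46)) = (LP (LK LD1_c17 LD2_c45 LD3_c30)) :=
  Lgr Lrot4 (Lpe (f397673 IH) (Lpr_ff (K30.f397738 IH) (Lpe (f2841 IH) (Lpn (LP (LK LD1_c17 LD2_c45 LD3_c30))))))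
theorem f232951 : Led Lsl_bt (LP (LK LD1_c4 LD2_c51 LD3_c13)) = (LP (LK LD1_c9 LD2_c34 LD3_c30)) :=
  Lre_b IH (LK LD1_c4 LD2_c51 LD3_c13) (LK LD1_c9 LD2_c34 LD3_c30) Lrfl Lrfl
theorem f1807 : Led Lsl_bt (LP (LK LD1_c2 LD2_c23 LD3_c46)) = (LP (LK LD1_c4 LD2_c51 LD3_c58)) :=
  Lre_b IH (LK LD1_c2 LD2_c23 LD3_c46) (LK LD1_c4 LD2_c51 LD3_c58) Lrfl Lrfl
theorem f1808 : Led Lsl_gt (LP (LK LD1_c9 LD2_c36 LD3_c10)) = (LP (LK LD1_c4 LD2_c51 LD3_c58)) :=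
  Lre_g IH (LK LD1_c9 LD2_c36 LD3_c10) (LK LD1_c4 LD2_c51 LD3_c58) Lrfl Lrfl
theorem f1809 : Led Lsl_bt (LP (LK LD1_c17 LD2_c40 LD3_c54)) = (LP (LK LD1_c9 LD2_c36 LD3_c10)) :=
  Lre_b IH (LK LD1_c17 LD2_c40 LD3_c54) (LK LD1_c9 LD2_c36 LD3_c10) Lrfl Lrfl
theorem f400458 : Led Lsl_ct (LP (LK LD1_c17 LD2_c40 LD3_c54)) = (LP (LK LD1_c17 LD2_c40 LD3_c17)) :=
  Lgr Lrot63 (Lpr_bt (f1809 IH) (Lpr_gt (f1808 IH) (Lpe (f1807 IH) (Lpr_ct (K13.f1738 IH) (Lpr_gt (K13.f1795 IH) (Lpr_cf (K13.f232919 IH) (Lpr_bt (f232951 IH) (Lpr_gt (f232954 IH) (Lpr_ct (f400387 IH) (Lpr_gt (f400450 IH) (Lpn (LP (LK LD1_c17 LD2_c40 LD3_c17)))))))))))))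
theorem f400462 : Led Lsl_cf (LP (LK LD1_c17 LD2_c40 LD3_c54)) = (LP (LK LD1_c17 LD2_c40 LD3_c17)) :=
  Lgr Lrot11 (Lpr_ct (f400458 IH) (Lpn (LP (LK LD1_c17 LD2_c40 LD3_c17))))
theorem f400532 : Led Lsl_ct (LP (LK LD1_c15 LD2_c43 LD3_c9)) = (LP (LK LD1_c8 LD2_c23 LD3_c14)) :=
  Lgr Lrot59 (Lpr_cf (f400522 IH) (Lpn (LP (LK LD1_c8 LD2_c23 LD3_c14))))
theorem f400535 : Led Lsl_cf (LP (LK LD1_c25 LD2_c39 LD3_c22)) = (LP (LK LD1_c15 LD2_c46 LD3_c48)) :=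
  Lgr Lrot97 (Lpr_bt (f357115 IH) (Lpr_ct (f400532 IH) (Lpr_bt (f400521 IH) (Lpr_ct (f228926 IH) (Lpr_bt (f228927 IH) (Lpn (LP (LK LD1_c15 LD2_c46 LD3_c48))))))))
theorem f400552 : Led Lsl_df (LP (LK LD1_c17 LD2_c40 LD3_c54)) = (LP (LK LD1_c25 LD2_c39 LD3_c22)) :=
  Lgr Lrot162 (Lpr_cf (f400462 IH) (Lpe (f400450 IH) (Lpe (f400387 IH) (Lpe (f232954 IH) (Lpr_dt (f255659 IH) (Lpr_gt (f274 IH) (Lpr_ct (f299311 IH) (Lpr_gt (f400540 IH) (Lpe (f400535 IH) (Lpn (LP (LK LD1_c25 LD2_c39 LD3_c22))))))))))))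
theorem f400556 : Led Lsl_dt (LP (LK LD1_c9 LD2_c36 LD3_c10)) = (LP (LK LD1_c15 LD2_c43 LD3_c9)) :=
  Lgr Lrot79 (Lpe (f1809 IH) (Lpr_df (f400552 IH) (Lpe (f400527 IH) (Lpn (LP (LK LD1_c15 LD2_c43 LD3_c9))))))
theorem f2007 : Led Lsl_gt (LP (LK LD1_c17 LD2_c40 LD3_c32)) = (LP (LK LD1_c9 LD2_c36 LD3_c10)) :=
  Lre_g IH (LK LD1_c17 LD2_c40 LD3_c32) (LK LD1_c9 LD2_c36 LD3_c10) Lrfl Lrfl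
theorem f1991 : Led Lsl_ft (LP (LK LD1_c9 LD2_c36 LD3_c8)) = (LP (LK LD1_c17 LD2_c40 LD3_c32)) :=
  Lre_f IH (LK LD1_c9 LD2_c36 LD3_c8) (LK LD1_c17 LD2_c40 LD3_c32) Lrfl Lrfl
theorem f1987 : Led Lsl_ct (LP (LK LD1_c17 LD2_c40 LD3_c49)) = (LP (LK LD1_c9 LD2_c36 LD3_c8)) :=
  Lre_c IH (LK LD1_c17 LD2_c40 LD3_c49) (LK LD1_c9 LD2_c36 LD3_c8) Lrfl Lrfl
theorem f30290 : Led Lsl_ff (LP (LK LD1_c17 LD2_c40 LD3_c49)) = (LP (LK LD1_c24 LD2_c56 LD3_c5)) :=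
  Lgr Lrot23 (Lpr_ct (f1987 IH) (Lpr_ft (f1991 IH) (Lpr_ct (K35.f30285 IH) (Lpn (LP (LK LD1_c24 LD2_c56 LD3_c5))))))
theorem f2806 : Led Lsl_at (LP (LK LD1_c17 LD2_c40 LD3_c49)) = (LP (LK LD1_c9 LD2_c36 LD3_c11)) :=
  Lre_a IH (LK LD1_c17 LD2_c40 LD3_c49) (LK LD1_c9 LD2_c36 LD3_c11) Lrfl Lrfl
theorem f2330 : Led Lsl_gt (LP (LK LD1_c17 LD2_c40 LD3_c58)) = (LP (LK LD1_c9 LD2_c36 LD3_c11)) :=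
  Lre_g IH (LK LD1_c17 LD2_c40 LD3_c58) (LK LD1_c9 LD2_c36 LD3_c11) Lrfl Lrfl
theorem f30525 : Led Lsl_gf (LP (LK LD1_c17 LD2_c40 LD3_c58)) = (LP (LK LD1_c24 LD2_c56 LD3_c5)) :=
  Lgr Lrot47 (Lpr_gt (f2330 IH) (Lpe (f2806 IH) (Lpr_ff (f30290 IH) (Lpn (LP (LK LD1_c24 LD2_c56 LD3_c5))))))
theorem f30527 : Led Lsl_dt (LP (LK LD1_c17 LD2_c40 LD3_c58)) = (LP (LK LD1_c27 LD2_c28 LD3_c28)) :=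
  Lre_d IH (LK LD1_c17 LD2_c40 LD3_c58) (LK LD1_c27 LD2_c28 LD3_c28) Lrfl Lrfl
theorem f357110 : Led Lsl_dt (LP (LK LD1_c8 LD2_c21 LD3_c5)) = (LP (LK LD1_c15 LD2_c43 LD3_c10)) :=
  Lre_d IH (LK LD1_c8 LD2_c21 LD3_c5) (LK LD1_c15 LD2_c43 LD3_c10) Lrfl Lrfl
theorem f269694 : Led Lsl_ct (LP (LK LD1_c25 LD2_c39 LD3_c23)) = (LP (LK LD1_c15 LD2_c43 LD3_c10)) :=
  Lre_c IH (LK LD1_c25 LD2_c39 LD3_c23) (LK LD1_c15 LD2_c43 LD3_c10) Lrfl Lrfl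
theorem f170983 : Led Lsl_dt (LP (LK LD1_c15 LD2_c43 LD3_c10)) = (LP (LK LD1_c8 LD2_c21 LD3_c5)) :=
  Lre_d IH (LK LD1_c15 LD2_c43 LD3_c10) (LK LD1_c8 LD2_c21 LD3_c5) Lrfl Lrfl
theorem f178438 : Led Lsl_dt (LP (LK LD1_c11 LD2_c9 LD3_c45)) = (LP (LK LD1_c20 LD2_c4 LD3_c13)) :=
  Lre_d IH (LK LD1_c11 LD2_c9 LD3_c45) (LK LD1_c20 LD2_c4 LD3_c13) Lrfl Lrfl
theorem f178439 : Led Lsl_ct (LP (LK LD1_c20 LD2_c4 LD3_c13)) = (LP (LK LD1_c29 LD2_c17 LD3_c29)) :=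
  Lre_c IH (LK LD1_c20 LD2_c4 LD3_c13) (LK LD1_c29 LD2_c17 LD3_c29) Lrfl Lrfl
theorem f337233 : Led Lsl_df (LP (LK LD1_c25 LD2_c39 LD3_c23)) = (LP (LK LD1_c29 LD2_c17 LD3_c29)) :=
  Lgr Lrot43 (Lpr_ct (f269694 IH) (Lpr_dt (f170983 IH) (Lpr_ct (f170982 IH) (Lpe (K22.f260753 IH) (Lpr_ct (K22.f170169 IH) (Lpe (K22.f269638 IH) (Lpr_ct (K22.f269634 IH) (Lpr_dt (K22.f269693 IH) (Lpr_ct (K22.f337225 IH) (Lpr_dt (K22.f178433 IH) (Lpr_ct (K22.f178434 IH) (Lpr_dt (K22.f178430 IH) (Lpr_ct (K22.f178437 IH) (Lpr_dt (f178438 IH) (Lpr_ct (f178439 IH) (Lpn (LP (LK LD1_c29 LD2_c17 LD3_c29))))))))))))))))))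
theorem f400560 : Led Lsl_gt (LP (LK LD1_c27 LD2_c28 LD3_c28)) = (LP (LK LD1_c29 LD2_c17 LD3_c29)) :=
  Lgr Lrot49 (Lpe (f30527 IH) (Lpr_gf (f30525 IH) (Lpe (K35.f30285 IH) (Lpr_gt (f2007 IH) (Lpr_dt (f400556 IH) (Lpr_gt (f178512 IH) (Lpr_dt (f357110 IH) (Lpe (f269694 IH) (Lpr_df (f337233 IH) (Lpn (LP (LK LD1_c29 LD2_c17 LD3_c29))))))))))))
theorem f178440 : Led Lsl_at (LP (LK LD1_c20 LD2_c4 LD3_c14)) = (LP (LK LD1_c29 LD2_c17 LD3_c29)) :=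
  Lre_a IH (LK LD1_c20 LD2_c4 LD3_c14) (LK LD1_c29 LD2_c17 LD3_c29) Lrfl Lrfl
theorem f337238 : Led Lsl_ft (LP (LK LD1_c25 LD2_c15 LD3_c50)) = (LP (LK LD1_c20 LD2_c4 LD3_c14)) :=
  Lgr Lrot142 (Lpr_dt (K22.f269693 IH) (Lpr_ct (K22.f337225 IH) (Lpr_dt (K22.f178433 IH) (Lpr_ct (K22.f178434 IH) (Lpr_dt (K22.f178430 IH) (Lpr_ct (K22.f178437 IH) (Lpr_dt (f178438 IH) (Lpr_ct (f178439 IH) (Lpe (f178440 IH) (Lpn (LP (LK LD1_c20 LD2_c4 LD3_c14))))))))))))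
theorem f400563 : Led Lsl_gf (LP (LK LD1_c27 LD2_c28 LD3_c28)) = (LP (LK LD1_c25 LD2_c15 LD3_c50)) :=
  Lgr Lrot47 (Lpr_gt (f400560 IH) (Lpe (f178440 IH) (Lpe (f337238 IH) (Lpn (LP (LK LD1_c25 LD2_c15 LD3_c50))))))
theorem f550811 : Led Lsl_at (LP (LK LD1_c17 LD2_c45 LD3_c30)) = (LP (LK LD1_c27 LD2_c28 LD3_c28)) :=
  Lgr Lrot26 (Lpe (f397743 IH) (Lpr_gt (f550805 IH) (Lpe (f400563 IH) (Lpn (LP (LK LD1_c27 LD2_c28 LD3_c28))))))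
theorem f397647 : Led Lsl_ct (LP (LK LD1_c26 LD2_c15 LD3_c46)) = (LP (LK LD1_c16 LD2_c17 LD3_c54)) :=
  Lre_c IH (LK LD1_c26 LD2_c15 LD3_c46) (LK LD1_c16 LD2_c17 LD3_c54) Lrfl Lrfl
theorem f397648 : Led Lsl_ct (LP (LK LD1_c9 LD2_c39 LD3_c9)) = (LP (LK LD1_c17 LD2_c45 LD3_c25)) :=
  Lre_c IH (LK LD1_c9 LD2_c39 LD3_c9) (LK LD1_c17 LD2_c45 LD3_c25) Lrfl Lrfl
theorem f397649 : Led Lsl_af (LP (LK LD1_c26 LD2_c15 LD3_c46)) = (LP (LK LD1_c17 LD2_c45 LD3_c25)) :=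
  Lgr Lrot68 (Lpr_ct (f397647 IH) (Lpr_at (K30.f397639 IH) (Lpr_ct (f397648 IH) (Lpn (LP (LK LD1_c17 LD2_c45 LD3_c25))))))
theorem f550819 : Led Lsl_ff (LP (LK LD1_c17 LD2_c45 LD3_c25)) = (LP (LK LD1_c27 LD2_c28 LD3_c28)) :=
  Lgr Lrot30 (Lpe (f397649 IH) (Lpr_ft (f397743 IH) (Lpr_at (f550811 IH) (Lpn (LP (LK LD1_c27 LD2_c28 LD3_c28))))))
theorem f397655 : Led Lsl_ct (LP (LK LD1_c17 LD2_c45 LD3_c25)) = (LP (LK LD1_c9 LD2_c39 LD3_c9)) :=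
  Lre_c IH (LK LD1_c17 LD2_c45 LD3_c25) (LK LD1_c9 LD2_c39 LD3_c9) Lrfl Lrfl
theorem f550821 : Led Lsl_ct (LP (LK LD1_c17 LD2_c42 LD3_c61)) = (LP (LK LD1_c27 LD2_c28 LD3_c28)) :=
  Lgr Lrot40 (Lpr_ff (K30.f397704 IH) (Lpe (f397655 IH) (Lpr_ff (f550819 IH) (Lpn (LP (LK LD1_c27 LD2_c28 LD3_c28))))))
theorem f551518 : Led Lsl_bt (LP (LK LD1_c17 LD2_c42 LD3_c61)) = (LP (LK LD1_c19 LD2_c19 LD3_c57)) :=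
  Lgr Lrot130 (Lpr_ct (f550821 IH) (Lpr_gf (f400563 IH) (Lpe (K22.f269634 IH) (Lpr_bt (K22.f269633 IH) (Lpr_gf (K21.f269614 IH) (Lpe (f269631 IH) (Lpr_ct (f550443 IH) (Lpe (f246472 IH) (Lpe (f246494 IH) (Lpe (f263963 IH) (Lpn (LP (LK LD1_c19 LD2_c19 LD3_c57)))))))))))))
theorem f246476 : Led Lsl_gt (LP (LK LD1_c9 LD2_c42 LD3_c33)) = (LP (LK LD1_c17 LD2_c51 LD3_c19)) :=
  Lre_g IH (LK LD1_c9 LD2_c42 LD3_c33) (LK LD1_c17 LD2_c51 LD3_c19) Lrfl Lrfl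
theorem f550823 : Led Lsl_ft (LP (LK LD1_c17 LD2_c45 LD3_c25)) = (LP (LK LD1_c27 LD2_c28 LD3_c28)) :=
  Lgr Lrot48 (Lpr_ff (f550819 IH) (Lpn (LP (LK LD1_c27 LD2_c28 LD3_c28))))
theorem f550813 : Led Lsl_af (LP (LK LD1_c17 LD2_c45 LD3_c30)) = (LP (LK LD1_c27 LD2_c28 LD3_c28)) :=
  Lgr Lrot0 (Lpr_at (f550811 IH) (Lpn (LP (LK LD1_c27 LD2_c28 LD3_c28))))
theorem f2251 : Led Lsl_at (LP (LK LD1_c2 LD2_c24 LD3_c40)) = (LP (LK LD1_c1 LD2_c9 LD3_c26)) :=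
  Lre_a IH (LK LD1_c2 LD2_c24 LD3_c40) (LK LD1_c1 LD2_c9 LD3_c26) Lrfl Lrfl
theorem f2269 : Led Lsl_ft (LP (LK LD1_c4 LD2_c52 LD3_c37)) = (LP (LK LD1_c2 LD2_c24 LD3_c40)) :=
  Lgr Lrot101 (Lpe (f2268 IH) (Lpr_ff (K0.f2266 IH) (Lpe (f2251 IH) (Lpn (LP (LK LD1_c2 LD2_c24 LD3_c40))))))
theorem f2833 : Led Lsl_gt (LP (LK LD1_c4 LD2_c52 LD3_c37)) = (LP (LK LD1_c2 LD2_c24 LD3_c39)) :=
  Lgr Lrot5 (Lpr_ft (f2269 IH) (Lpr_at (f2251 IH) (Lpe (K30.f2665 IH) (Lpn (LP (LK LD1_c2 LD2_c24 LD3_c39))))))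
theorem f2707 : Led Lsl_at (LP (LK LD1_c4 LD2_c52 LD3_c40)) = (LP (LK LD1_c9 LD2_c37 LD3_c21)) :=
  Lre_a IH (LK LD1_c4 LD2_c52 LD3_c40) (LK LD1_c9 LD2_c37 LD3_c21) Lrfl Lrfl
theorem f2585 : Led Lsl_gt (LP (LK LD1_c2 LD2_c24 LD3_c23)) = (LP (LK LD1_c4 LD2_c53 LD3_c9)) :=
  Lre_g IH (LK LD1_c2 LD2_c24 LD3_c23) (LK LD1_c4 LD2_c53 LD3_c9) Lrfl Lrfl
theorem f2822 : Led Lsl_gf (LP (LK LD1_c9 LD2_c37 LD3_c21)) = (LP (LK LD1_c4 LD2_c53 LD3_c9)) :=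
  Lgr Lrot76 (Lpe (f2707 IH) (Lpr_ff (K20.f2303 IH) (Lpr_gt (f2585 IH) (Lpn (LP (LK LD1_c4 LD2_c53 LD3_c9))))))
theorem f2588 : Led Lsl_dt (LP (LK LD1_c4 LD2_c53 LD3_c9)) = (LP (LK LD1_c9 LD2_c38 LD3_c17)) :=
  Lre_d IH (LK LD1_c4 LD2_c53 LD3_c9) (LK LD1_c9 LD2_c38 LD3_c17) Lrfl Lrfl
theorem f2589 : Led Lsl_gt (LP (LK LD1_c9 LD2_c38 LD3_c17)) = (LP (LK LD1_c17 LD2_c44 LD3_c15)) :=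
  Lre_g IH (LK LD1_c9 LD2_c38 LD3_c17) (LK LD1_c17 LD2_c44 LD3_c15) Lrfl Lrfl
theorem f2825 : Led Lsl_ct (LP (LK LD1_c17 LD2_c44 LD3_c15)) = (LP (LK LD1_c27 LD2_c30 LD3_c60)) :=
  Lre_c IH (LK LD1_c17 LD2_c44 LD3_c15) (LK LD1_c27 LD2_c30 LD3_c60) Lrfl Lrfl
theorem f2839 : Led Lsl_ct (LP (LK LD1_c2 LD2_c24 LD3_c39)) = (LP (LK LD1_c4 LD2_c53 LD3_c42)) :=
  Lre_c IH (LK LD1_c2 LD2_c24 LD3_c39) (LK LD1_c4 LD2_c53 LD3_c42) Lrfl Lrfl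
theorem f2840 : Led Lsl_dt (LP (LK LD1_c9 LD2_c39 LD3_c13)) = (LP (LK LD1_c4 LD2_c53 LD3_c42)) :=
  Lre_d IH (LK LD1_c9 LD2_c39 LD3_c13) (LK LD1_c4 LD2_c53 LD3_c42) Lrfl Lrfl
theorem f2842 : Led Lsl_gt (LP (LK LD1_c27 LD2_c30 LD3_c60)) = (LP (LK LD1_c17 LD2_c45 LD3_c30)) :=
  Lgr Lrot150 (Lpe (f2825 IH) (Lpe (f2589 IH) (Lpe (f2588 IH) (Lpe (f2822 IH) (Lpr_ct (f2283 IH) (Lpr_gt (f2833 IH) (Lpr_ct (f2839 IH) (Lpe (f2840 IH) (Lpe (f2841 IH) (Lpn (LP (LK LD1_c17 LD2_c45 LD3_c30))))))))))))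
theorem f550827 : Led Lsl_gt (LP (LK LD1_c17 LD2_c45 LD3_c25)) = (LP (LK LD1_c27 LD2_c30 LD3_c60)) :=
  Lgr Lrot5 (Lpr_ft (f550823 IH) (Lpe (f550813 IH) (Lpe (f2842 IH) (Lpn (LP (LK LD1_c27 LD2_c30 LD3_c60))))))
theorem f409956 : Led Lsl_bt (LP (LK LD1_c19 LD2_c15 LD3_c10)) = (LP (LK LD1_c10 LD2_c37 LD3_c50)) :=
  Lre_b IH (LK LD1_c19 LD2_c15 LD3_c10) (LK LD1_c10 LD2_c37 LD3_c50) Lrfl Lrfl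
theorem f219768 : Led Lsl_ct (LP (LK LD1_c10 LD2_c37 LD3_c50)) = (LP (LK LD1_c19 LD2_c15 LD3_c15)) :=
  Lre_c IH (LK LD1_c10 LD2_c37 LD3_c50) (LK LD1_c19 LD2_c15 LD3_c15) Lrfl Lrfl
theorem f397646 : Led Lsl_bt (LP (LK LD1_c9 LD2_c39 LD3_c9)) = (LP (LK LD1_c17 LD2_c45 LD3_c21)) :=
  Lre_b IH (LK LD1_c9 LD2_c39 LD3_c9) (LK LD1_c17 LD2_c45 LD3_c21) Lrfl Lrfl
theorem f550742 : Led Lsl_bt (LP (LK LD1_c19 LD2_c15 LD3_c15)) = (LP (LK LD1_c17 LD2_c45 LD3_c25)) :=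
  Lgr Lrot128 (Lpe (f219768 IH) (Lpe (f409956 IH) (Lpr_cf (f550740 IH) (Lpe (f397646 IH) (Lpe (f397655 IH) (Lpn (LP (LK LD1_c17 LD2_c45 LD3_c25))))))))
theorem f219767 : Led Lsl_dt (LP (LK LD1_c5 LD2_c23 LD3_c40)) = (LP (LK LD1_c10 LD2_c37 LD3_c50)) :=
  Lre_d IH (LK LD1_c5 LD2_c23 LD3_c40) (LK LD1_c10 LD2_c37 LD3_c50) Lrfl Lrfl
theorem f235700 : Led Lsl_bt (LP (LK LD1_c15 LD2_c48 LD3_c55)) = (LP (LK LD1_c8 LD2_c24 LD3_c47)) :=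
  Lre_b IH (LK LD1_c15 LD2_c48 LD3_c55) (LK LD1_c8 LD2_c24 LD3_c47) Lrfl Lrfl
theorem f178412 : Led Lsl_ct (LP (LK LD1_c25 LD2_c45 LD3_c21)) = (LP (LK LD1_c15 LD2_c48 LD3_c55)) :=
  Lre_c IH (LK LD1_c25 LD2_c45 LD3_c21) (LK LD1_c15 LD2_c48 LD3_c55) Lrfl Lrfl
theorem f550829 : Led Lsl_df (LP (LK LD1_c25 LD2_c45 LD3_c21)) = (LP (LK LD1_c27 LD2_c30 LD3_c60)) :=
  Lgr Lrot183 (Lpr_ct (f178412 IH) (Lpr_bt (f235700 IH) (Lpr_gt (K24.f235692 IH) (Lpr_dt (K15.f1930 IH) (Lpr_ct (K13.f186932 IH) (Lpe (K12.f219472 IH) (Lpr_gt (K12.f219761 IH) (Lpr_dt (K15.f219293 IH) (Lpe (K15.f219616 IH) (Lpr_bt (K12.f41416 IH) (Lpr_gt (K9.f41437 IH) (Lpr_dt (K13.f41441 IH) (Lpr_ct (K13.f217743 IH) (Lpr_bt (K30.f219765 IH) (Lpr_gt (K30.f219766 IH) (Lpr_dt (f219767 IH) (Lpr_ct (f219768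 IH) (Lpr_bt (f550742 IH) (Lpr_gt (f550827 IH) (Lpn (LP (LK LD1_c27 LD2_c30 LD3_c60))))))))))))))))))))))
theorem f166484 : Led Lsl_dt (LP (LK LD1_c15 LD2_c48 LD3_c55)) = (LP (LK LD1_c8 LD2_c24 LD3_c46)) :=
  Lre_d IH (LK LD1_c15 LD2_c48 LD3_c55) (LK LD1_c8 LD2_c24 LD3_c46) Lrfl Lrfl
theorem f178413 : Led Lsl_ct (LP (LK LD1_c2 LD2_c45 LD3_c55)) = (LP (LK LD1_c5 LD2_c39 LD3_c21)) :=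
  Lre_c IH (LK LD1_c2 LD2_c45 LD3_c55) (LK LD1_c5 LD2_c39 LD3_c21) Lrfl Lrfl
theorem f178414 : Led Lsl_dt (LP (LK LD1_c5 LD2_c39 LD3_c21)) = (LP (LK LD1_c11 LD2_c9 LD3_c46)) :=
  Lre_d IH (LK LD1_c5 LD2_c39 LD3_c21) (LK LD1_c11 LD2_c9 LD3_c46) Lrfl Lrfl
theorem f178415 : Led Lsl_ct (LP (LK LD1_c11 LD2_c9 LD3_c46)) = (LP (LK LD1_c20 LD2_c4 LD3_c14)) :=
  Lre_c IH (LK LD1_c11 LD2_c9 LD3_c46) (LK LD1_c20 LD2_c4 LD3_c14) Lrfl Lrfl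
theorem f178418 : Led Lsl_at (LP (LK LD1_c29 LD2_c17 LD3_c29)) = (LP (LK LD1_c20 LD2_c4 LD3_c14)) :=
  Lre_a IH (LK LD1_c29 LD2_c17 LD3_c29) (LK LD1_c20 LD2_c4 LD3_c14) Lrfl Lrfl
theorem f550839 : Led Lsl_ff (LP (LK LD1_c29 LD2_c17 LD3_c29)) = (LP (LK LD1_c27 LD2_c30 LD3_c60)) :=
  Lgr Lrot103 (Lpr_at (f178418 IH) (Lpe (f178415 IH) (Lpe (f178414 IH) (Lpe (f178413 IH) (Lpe (K22.f178405 IH) (Lpe (K27.f166483 IH) (Lpe (f166484 IH) (Lpe (f178412 IH) (Lpr_df (f550829 IH) (Lpn (LP (LK LD1_c27 LD2_c30 LD3_c60))))))))))))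
theorem f550845 : Led Lsl_gf (LP (LK LD1_c20 LD2_c4 LD3_c14)) = (LP (LK LD1_c17 LD2_c45 LD3_c30)) :=
  Lgr Lrot76 (Lpe (f178418 IH) (Lpr_ff (f550839 IH) (Lpr_gt (f2842 IH) (Lpn (LP (LK LD1_c17 LD2_c45 LD3_c30))))))
theorem f2850 : Led Lsl_ct (LP (LK LD1_c9 LD2_c39 LD3_c13)) = (LP (LK LD1_c17 LD2_c45 LD3_c30)) :=
  Lre_c IH (LK LD1_c9 LD2_c39 LD3_c13) (LK LD1_c17 LD2_c45 LD3_c30) Lrfl Lrfl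
theorem f397736 : Led Lsl_ff (LP (LK LD1_c26 LD2_c15 LD3_c46)) = (LP (LK LD1_c17 LD2_c45 LD3_c30)) :=
  Lgr Lrot23 (Lpr_ct (f397647 IH) (Lpr_ft (K30.f397731 IH) (Lpr_ct (f2850 IH) (Lpn (LP (LK LD1_c17 LD2_c45 LD3_c30))))))
theorem f397670 : Led Lsl_at (LP (LK LD1_c26 LD2_c15 LD3_c46)) = (LP (LK LD1_c17 LD2_c45 LD3_c25)) :=
  Lgr Lrot100 (Lpr_af (f397649 IH) (Lpn (LP (LK LD1_c17 LD2_c45 LD3_c25))))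
theorem f550847 : Led Lsl_gt (LP (LK LD1_c20 LD2_c4 LD3_c14)) = (LP (LK LD1_c17 LD2_c45 LD3_c25)) :=
  Lgr Lrot46 (Lpr_gf (f550845 IH) (Lpe (f397736 IH) (Lpr_at (f397670 IH) (Lpn (LP (LK LD1_c17 LD2_c45 LD3_c25))))))
theorem f2584 : Led Lsl_gt (LP (LK LD1_c4 LD2_c53 LD3_c10)) = (LP (LK LD1_c2 LD2_c24 LD3_c23)) :=
  Lre_g IH (LK LD1_c4 LD2_c53 LD3_c10) (LK LD1_c2 LD2_c24 LD3_c23) Lrfl Lrfl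
theorem f2719 : Led Lsl_dt (LP (LK LD1_c9 LD2_c38 LD3_c20)) = (LP (LK LD1_c4 LD2_c53 LD3_c10)) :=
  Lre_d IH (LK LD1_c9 LD2_c38 LD3_c20) (LK LD1_c4 LD2_c53 LD3_c10) Lrfl Lrfl
theorem f550854 : Led Lsl_gf (LP (LK LD1_c11 LD2_c9 LD3_c46)) = (LP (LK LD1_c9 LD2_c38 LD3_c20)) :=
  Lgr Lrot147 (Lpr_ct (f178415 IH) (Lpr_gt (f550847 IH) (Lpr_ct (f397655 IH) (Lpe (K30.f397675 IH) (Lpe (K27.f2289 IH) (Lpe (K27.f2280 IH) (Lpe (K27.f2272 IH) (Lpe (f2584 IH) (Lpe (f2719 IH) (Lpn (LP (LK LD1_c9 LD2_c38 LD3_c20))))))))))))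
theorem f178420 : Led Lsl_ct (LP (LK LD1_c5 LD2_c39 LD3_c21)) = (LP (LK LD1_c2 LD2_c45 LD3_c55)) :=
  Lre_c IH (LK LD1_c5 LD2_c39 LD3_c21) (LK LD1_c2 LD2_c45 LD3_c55) Lrfl Lrfl
theorem f2714 : Led Lsl_dt (LP (LK LD1_c4 LD2_c53 LD3_c10)) = (LP (LK LD1_c9 LD2_c38 LD3_c20)) :=
  Lre_d IH (LK LD1_c4 LD2_c53 LD3_c10) (LK LD1_c9 LD2_c38 LD3_c20) Lrfl Lrfl
theorem f2658 : Led Lsl_ef (LP (LK LD1_c2 LD2_c24 LD3_c1)) = (LP (LK LD1_c2 LD2_c24 LD3_c40)) :=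
  Lgr Lrot20 (Lpr_at (K0.f2235 IH) (Lpr_et (K20.f2652 IH) (Lpr_at (K0.f2236 IH) (Lpn (LP (LK LD1_c2 LD2_c24 LD3_c40))))))
theorem f2241 : Led Lsl_ct (LP (LK LD1_c2 LD2_c24 LD3_c1)) = (LP (LK LD1_c4 LD2_c51 LD3_c57)) :=
  Lre_c IH (LK LD1_c2 LD2_c24 LD3_c1) (LK LD1_c4 LD2_c51 LD3_c57) Lrfl Lrfl
theorem f2692 : Led Lsl_et (LP (LK LD1_c4 LD2_c51 LD3_c57)) = (LP (LK LD1_c4 LD2_c53 LD3_c11)) :=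
  Lgr Lrot158 (Lpe (f2241 IH) (Lpr_ef (f2658 IH) (Lpe (K0.f2243 IH) (Lpn (LP (LK LD1_c4 LD2_c53 LD3_c11))))))
theorem f2699 : Led Lsl_ft (LP (LK LD1_c9 LD2_c36 LD3_c1)) = (LP (LK LD1_c4 LD2_c51 LD3_c57)) :=
  Lre_f IH (LK LD1_c9 LD2_c36 LD3_c1) (LK LD1_c4 LD2_c51 LD3_c57) Lrfl Lrfl
theorem f2700 : Led Lsl_et (LP (LK LD1_c17 LD2_c40 LD3_c33)) = (LP (LK LD1_c9 LD2_c36 LD3_c1)) :=
  Lre_e IH (LK LD1_c17 LD2_c40 LD3_c33) (LK LD1_c9 LD2_c36 LD3_c1) Lrfl Lrfl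
theorem f2613 : Led Lsl_at (LP (LK LD1_c17 LD2_c40 LD3_c33)) = (LP (LK LD1_c9 LD2_c36 LD3_c14)) :=
  Lre_a IH (LK LD1_c17 LD2_c40 LD3_c33) (LK LD1_c9 LD2_c36 LD3_c14) Lrfl Lrfl
theorem f2614 : Led Lsl_at (LP (LK LD1_c9 LD2_c37 LD3_c25)) = (LP (LK LD1_c17 LD2_c42 LD3_c60)) :=
  Lre_a IH (LK LD1_c9 LD2_c37 LD3_c25) (LK LD1_c17 LD2_c42 LD3_c60) Lrfl Lrfl
theorem f2615 : Led Lsl_ff (LP (LK LD1_c17 LD2_c40 LD3_c33)) = (LP (LK LD1_c17 LD2_c42 LD3_c60)) :=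
  Lgr Lrot30 (Lpr_at (f2613 IH) (Lpr_ft (K20.f2605 IH) (Lpr_at (f2614 IH) (Lpn (LP (LK LD1_c17 LD2_c42 LD3_c60))))))
theorem f2631 : Led Lsl_et (LP (LK LD1_c9 LD2_c37 LD3_c21)) = (LP (LK LD1_c17 LD2_c42 LD3_c60)) :=
  Lre_e IH (LK LD1_c9 LD2_c37 LD3_c21) (LK LD1_c17 LD2_c42 LD3_c60) Lrfl Lrfl
theorem f2701 : Led Lsl_ff (LP (LK LD1_c9 LD2_c37 LD3_c21)) = (LP (LK LD1_c4 LD2_c53 LD3_c11)) :=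
  Lgr Lrot72 (Lpr_et (f2631 IH) (Lpe (f2615 IH) (Lpr_et (f2700 IH) (Lpr_ft (f2699 IH) (Lpr_et (f2692 IH) (Lpn (LP (LK LD1_c4 LD2_c53 LD3_c11))))))))
theorem f2705 : Led Lsl_ft (LP (LK LD1_c9 LD2_c37 LD3_c21)) = (LP (LK LD1_c4 LD2_c53 LD3_c11)) :=
  Lgr Lrot48 (Lpr_ff (f2701 IH) (Lpn (LP (LK LD1_c4 LD2_c53 LD3_c11))))
theorem f2695 : Led Lsl_at (LP (LK LD1_c4 LD2_c53 LD3_c11)) = (LP (LK LD1_c2 LD2_c24 LD3_c23)) :=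
  Lre_a IH (LK LD1_c4 LD2_c53 LD3_c11) (LK LD1_c2 LD2_c24 LD3_c23) Lrfl Lrfl
theorem f2710 : Led Lsl_gt (LP (LK LD1_c9 LD2_c37 LD3_c21)) = (LP (LK LD1_c4 LD2_c53 LD3_c10)) :=
  Lgr Lrot5 (Lpr_ft (f2705 IH) (Lpr_at (f2695 IH) (Lpe (f2584 IH) (Lpn (LP (LK LD1_c4 LD2_c53 LD3_c10))))))
theorem f2835 : Led Lsl_dt (LP (LK LD1_c2 LD2_c24 LD3_c39)) = (LP (LK LD1_c4 LD2_c53 LD3_c43)) :=
  Lre_d IH (LK LD1_c2 LD2_c24 LD3_c39) (LK LD1_c4 LD2_c53 LD3_c43) Lrfl Lrfl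
theorem f550858 : Led Lsl_gf (LP (LK LD1_c4 LD2_c12 LD3_c37)) = (LP (LK LD1_c4 LD2_c53 LD3_c43)) :=
  Lgr Lrot143 (Lpr_dt (K22.f178405 IH) (Lpe (f178420 IH) (Lpe (K22.f178421 IH) (Lpr_gf (f550854 IH) (Lpe (f2714 IH) (Lpe (f2710 IH) (Lpe (f2290 IH) (Lpr_gt (f2833 IH) (Lpr_dt (f2835 IH) (Lpn (LP (LK LD1_c4 LD2_c53 LD3_c43))))))))))))
theorem f357113 : Led Lsl_ff (LP (LK LD1_c8 LD2_c24 LD3_c46)) = (LP (LK LD1_c8 LD2_c21 LD3_c5)) :=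
  Lgr Lrot25 (Lpr_bt (K27.f178447 IH) (Lpr_ft (f357035 IH) (Lpr_bt (f357107 IH) (Lpn (LP (LK LD1_c8 LD2_c21 LD3_c5))))))
theorem f178432 : Led Lsl_at (LP (LK LD1_c8 LD2_c24 LD3_c46)) = (LP (LK LD1_c15 LD2_c48 LD3_c54)) :=
  Lre_a IH (LK LD1_c8 LD2_c24 LD3_c46) (LK LD1_c15 LD2_c48 LD3_c54) Lrfl Lrfl
theorem f357116 : Led Lsl_ft (LP (LK LD1_c15 LD2_c48 LD3_c54)) = (LP (LK LD1_c15 LD2_c43 LD3_c8)) :=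
  Lgr Lrot101 (Lpe (f178432 IH) (Lpr_ff (f357113 IH) (Lpe (f357100 IH) (Lpn (LP (LK LD1_c15 LD2_c43 LD3_c8))))))

end

end K38

end

end Cfsg.Agent.Helper28.S1692
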