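import Cfsg.Agent.Lib.Helper28.S1692.Seeds38

set_option autoImplicit false
set_option maxRecDepth 100000
set_option linter.all false

namespace Cfsg.Agent.Helper28.S1692

open Cfsg.Agent.Helper28
open Cfsg.Spor.ON (Gen)

noncomputable section

namespace K39
abbrev LD1_c0 := D1.c0
abbrev LD1_c1 := D1.c1
abbrev LD1_c2 := D1.c2
abbrev LD1_c3 := D1.c3
abbrev LD1_c4 := D1.c4
abbrev LD1_c5 := D1.c5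
abbrev LD1_c6 := D1.c6
abbrev LD1_c7 := D1.c7
abbrev LD1_c8 := D1.c8
abbrev LD1_c9 := D1.c9
abbrev LD1_c10 := D1.c10
abbrev LD1_c11 := D1.c11
abbrev LD1_c12 := D1.c12
abbrev LD1_c13 := D1.c13
abbrev LD1_c14 := D1.c14
abbrev LD1_c15 := D1.c15
abbrev LD1_c16 := D1.c16
abbrev LD1_c17 := D1.c17
abbrev LD1_c18 := D1.c18
abbrev LD1_c19 := D1.c19
abbrev LD1_c20 := D1.c20
abbrev LD1_c21 := D1.c21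
abbrev LD1_c22 := D1.c22
abbrev LD1_c23 := D1.c23
abbrev LD1_c24 := D1.c24
abbrev LD1_c25 := D1.c25
abbrev LD1_c26 := D1.c26
abbrev LD1_c27 := D1.c27
abbrev LD1_c28 := D1.c28
abbrev LD1_c29 := D1.c29
abbrev LD1_c30 := D1.c30
abbrev LD1_c31 := D1.c31
abbrev LD1_c32 := D1.c32
abbrev LD2_c0 := D2.c0
abbrev LD2_c1 := D2.c1
abbrev LD2_c2 := D2.c2
abbrev LD2_c3 := D2.c3
abbrev LD2_c4 := D2.c4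
abbrev LD2_c5 := D2.c5
abbrev LD2_c6 := D2.c6
abbrev LD2_c7 := D2.c7
abbrev LD2_c8 := D2.c8
abbrev LD2_c9 := D2.c9
abbrev LD2_c10 := D2.c10
abbrev LD2_c11 := D2.c11
abbrev LD2_c12 := D2.c12
abbrev LD2_c13 := D2.c13
abbrev LD2_c14 := D2.c14
abbrev LD2_c15 := D2.c15
abbrev LD2_c16 := D2.c16
abbrev LD2_c17 := D2.c17
abbrev LD2_c18 := D2.c18
abbrev LD2_c19 := D2.c19
abbrev LD2_c20 := D2.c20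
abbrev LD2_c21 := D2.c21
abbrev LD2_c22 := D2.c22
abbrev LD2_c23 := D2.c23
abbrev LD2_c24 := D2.c24
abbrev LD2_c25 := D2.c25
abbrev LD2_c26 := D2.c26
abbrev LD2_c27 := D2.c27
abbrev LD2_c28 := D2.c28
abbrev LD2_c29 := D2.c29
abbrev LD2_c30 := D2.c30
abbrev LD2_c31 := D2.c31
abbrev LD2_c32 := D2.c32
abbrev LD2_c33 := D2.c33
abbrev LD2_c34 := D2.c34
abbrev LD2_c35 := D2.c35
abbrev LD2_c36 := D2.c36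
abbrev LD2_c37 := D2.c37
abbrev LD2_c38 := D2.c38
abbrev LD2_c39 := D2.c39
abbrev LD2_c40 := D2.c40
abbrev LD2_c41 := D2.c41
abbrev LD2_c42 := D2.c42
abbrev LD2_c43 := D2.c43
abbrev LD2_c44 := D2.c44
abbrev LD2_c45 := D2.c45
abbrev LD2_c46 := D2.c46
abbrev LD2_c47 := D2.c47
abbrev LD2_c48 := D2.c48
abbrev LD2_c49 := D2.c49
abbrev LD2_c50 := D2.c50
abbrev LD2_c51 := D2.c51
abbrev LD2_c52 := D2.c52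
abbrev LD2_c53 := D2.c53
abbrev LD2_c54 := D2.c54
abbrev LD2_c55 := D2.c55
abbrev LD2_c56 := D2.c56
abbrev LD2_c57 := D2.c57
abbrev LD2_c58 := D2.c58
abbrev LD2_c59 := D2.c59
abbrev LD3_c0 := D3.c0
abbrev LD3_c1 := D3.c1
abbrev LD3_c2 := D3.c2
abbrev LD3_c3 := D3.c3
abbrev LD3_c4 := D3.c4
abbrev LD3_c5 := D3.c5
abbrev LD3_c6 := D3.c6
abbrev LD3_c7 := D3.c7
abbrev LD3_c8 := D3.c8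
abbrev LD3_c9 := D3.c9
abbrev LD3_c10 := D3.c10
abbrev LD3_c11 := D3.c11
abbrev LD3_c12 := D3.c12
abbrev LD3_c13 := D3.c13
abbrev LD3_c14 := D3.c14
abbrev LD3_c15 := D3.c15
abbrev LD3_c16 := D3.c16
abbrev LD3_c17 := D3.c17
abbrev LD3_c18 := D3.c18
abbrev LD3_c19 := D3.c19
abbrev LD3_c20 := D3.c20
abbrev LD3_c21 := D3.c21
abbrev LD3_c22 := D3.c22
abbrev LD3_c23 := D3.c23
abbrev LD3_c24 := D3.c24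
abbrev LD3_c25 := D3.c25
abbrev LD3_c26 := D3.c26
abbrev LD3_c27 := D3.c27
abbrev LD3_c28 := D3.c28
abbrev LD3_c29 := D3.c29
abbrev LD3_c30 := D3.c30
abbrev LD3_c31 := D3.c31
abbrev LD3_c32 := D3.c32
abbrev LD3_c33 := D3.c33
abbrev LD3_c34 := D3.c34
abbrev LD3_c35 := D3.c35
abbrev LD3_c36 := D3.c36
abbrev LD3_c37 := D3.c37
abbrev LD3_c38 := D3.c38
abbrev LD3_c39 := D3.c39
abbrev LD3_c40 := D3.c40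
abbrev LD3_c41 := D3.c41
abbrev LD3_c42 := D3.c42
abbrev LD3_c43 := D3.c43
abbrev LD3_c44 := D3.c44
abbrev LD3_c45 := D3.c45
abbrev LD3_c46 := D3.c46
abbrev LD3_c47 := D3.c47
abbrev LD3_c48 := D3.c48
abbrev LD3_c49 := D3.c49
abbrev LD3_c50 := D3.c50
abbrev LD3_c51 := D3.c51
abbrev LD3_c52 := D3.c52
abbrev LD3_c53 := D3.c53
abbrev LD3_c54 := D3.c54
abbrev LD3_c55 := D3.c55
abbrev LD3_c56 := D3.c56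
abbrev LD3_c57 := D3.c57
abbrev LD3_c58 := D3.c58
abbrev LD3_c59 := D3.c59
abbrev LD3_c60 := D3.c60
abbrev LD3_c61 := D3.c61
abbrev LG_g := Gen.g
abbrev Lsl_gt : Gen × Bool := sl_gt
alias Lfl_gt := fl_gt
alias Lpr_gt := pr_gt
abbrev Lsl_gf : Gen × Bool := sl_gf
alias Lfl_gf := fl_gf
alias Lpr_gf := pr_gf
alias Lre_g := re_g
alias Leoe_g := eoe_g
abbrev LG_a := Gen.a
abbrev Lsl_at : Gen × Bool := sl_at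
alias Lfl_at := fl_at
alias Lpr_at := pr_at
abbrev Lsl_af : Gen × Bool := sl_af
alias Lfl_af := fl_af
alias Lpr_af := pr_af
alias Lre_a := re_a
alias Leoe_a := eoe_a
abbrev LG_b := Gen.b
abbrev Lsl_bt : Gen × Bool := sl_bt
alias Lfl_bt := fl_bt
alias Lpr_bt := pr_bt
abbrev Lsl_bf : Gen × Bool := sl_bf
alias Lfl_bf := fl_bf
alias Lpr_bf := pr_bf
alias Lre_b := re_b
alias Leoe_b := eoe_b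
abbrev LG_c := Gen.c
abbrev Lsl_ct : Gen × Bool := sl_ct
alias Lfl_ct := fl_ct
alias Lpr_ct := pr_ct
abbrev Lsl_cf : Gen × Bool := sl_cf
alias Lfl_cf := fl_cf
alias Lpr_cf := pr_cf
alias Lre_c := re_c
alias Leoe_c := eoe_c
abbrev LG_d := Gen.d
abbrev Lsl_dt : Gen × Bool := sl_dt
alias Lfl_dt := fl_dt
alias Lpr_dt := pr_dt
abbrev Lsl_df : Gen × Bool := sl_df
alias Lfl_df := fl_df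
alias Lpr_df := pr_df
alias Lre_d := re_d
alias Leoe_d := eoe_d
abbrev LG_e := Gen.e
abbrev Lsl_et : Gen × Bool := sl_et
alias Lfl_et := fl_et
alias Lpr_et := pr_et
abbrev Lsl_ef : Gen × Bool := sl_ef
alias Lfl_ef := fl_ef
alias Lpr_ef := pr_ef
alias Lre_e := re_e
alias Leoe_e := eoe_e
abbrev LG_f := Gen.f
abbrev Lsl_ft : Gen × Bool := sl_ft
alias Lfl_ft := fl_ft
alias Lpr_ft := pr_ft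
abbrev Lsl_ff : Gen × Bool := sl_ff
alias Lfl_ff := fl_ff
alias Lpr_ff := pr_ff
alias Lre_f := re_f
alias Leoe_f := eoe_f
abbrev LK := Pt.mk
abbrev LQ : Type := Qt rels S
abbrev LP (p : Pt) : LQ := P p
abbrev Led (l : Gen × Bool) (c : LQ) : LQ := ed l c
abbrev LEOK (x : Gen) (p : Pt) : Prop := EntryOK rels S fwd inv o plet idx x p
alias Lpe := pe
alias Lpn := pn
alias Lgr := gr
alias Lpq := pq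
alias Lpqs := pqs
alias Llr := lr
alias Leop := eop
alias Lefun := efun
alias Lecon := econ
theorem Lrfl {α : Sort _} {a : α} : a = a := rfl
alias Lrot0 := rot0
alias Lrot1 := rot1
alias Lrot2 := rot2
alias Lrot3 := rot3
alias Lrot4 := rot4
alias Lrot5 := rot5
alias Lrot6 := rot6
alias Lrot7 := rot7
alias Lrot8 := rot8
alias Lrot9 := rot9
alias Lrot10 := rot10
alias Lrot11 := rot11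
alias Lrot12 := rot12
alias Lrot13 := rot13
alias Lrot14 := rot14
alias Lrot15 := rot15
alias Lrot17 := rot17
alias Lrot18 := rot18
alias Lrot19 := rot19
alias Lrot20 := rot20
alias Lrot21 := rot21
alias Lrot22 := rot22
alias Lrot23 := rot23
alias Lrot24 := rot24
alias Lrot25 := rot25
alias Lrot26 := rot26
alias Lrot27 := rot27
alias Lrot28 := rot28
alias Lrot29 := rot29
alias Lrot30 := rot30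
alias Lrot31 := rot31
alias Lrot33 := rot33
alias Lrot34 := rot34
alias Lrot35 := rot35
alias Lrot36 := rot36
alias Lrot37 := rot37
alias Lrot38 := rot38
alias Lrot39 := rot39
alias Lrot40 := rot40
alias Lrot41 := rot41
alias Lrot42 := rot42
alias Lrot43 := rot43
alias Lrot44 := rot44
alias Lrot45 := rot45
alias Lrot46 := rot46
alias Lrot47 := rot47
alias Lrot48 := rot48
alias Lrot49 := rot49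
alias Lrot50 := rot50
alias Lrot51 := rot51
alias Lrot52 := rot52
alias Lrot54 := rot54
alias Lrot55 := rot55
alias Lrot56 := rot56
alias Lrot57 := rot57
alias Lrot58 := rot58
alias Lrot59 := rot59
alias Lrot60 := rot60
alias Lrot61 := rot61
alias Lrot62 := rot62
alias Lrot63 := rot63
alias Lrot64 := rot64
alias Lrot65 := rot65
alias Lrot66 := rot66
alias Lrot67 := rot67
alias Lrot68 := rot68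
alias Lrot69 := rot69
alias Lrot70 := rot70
alias Lrot71 := rot71
alias Lrot72 := rot72
alias Lrot73 := rot73
alias Lrot74 := rot74
alias Lrot75 := rot75
alias Lrot76 := rot76
alias Lrot77 := rot77
alias Lrot78 := rot78
alias Lrot79 := rot79
alias Lrot80 := rot80
alias Lrot81 := rot81
alias Lrot82 := rot82
alias Lrot83 := rot83
alias Lrot84 := rot84
alias Lrot85 := rot85
alias Lrot86 := rot86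
alias Lrot87 := rot87
alias Lrot88 := rot88
alias Lrot89 := rot89
alias Lrot90 := rot90
alias Lrot91 := rot91
alias Lrot92 := rot92
alias Lrot93 := rot93
alias Lrot94 := rot94
alias Lrot95 := rot95
alias Lrot96 := rot96
alias Lrot97 := rot97
alias Lrot98 := rot98
alias Lrot99 := rot99
alias Lrot100 := rot100
alias Lrot101 := rot101
alias Lrot102 := rot102
alias Lrot103 := rot103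
alias Lrot104 := rot104
alias Lrot105 := rot105
alias Lrot107 := rot107
alias Lrot108 := rot108
alias Lrot109 := rot109
alias Lrot110 := rot110
alias Lrot111 := rot111
alias Lrot112 := rot112
alias Lrot113 := rot113
alias Lrot114 := rot114
alias Lrot117 := rot117
alias Lrot118 := rot118
alias Lrot119 := rot119
alias Lrot120 := rot120
alias Lrot121 := rot121
alias Lrot122 := rot122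
alias Lrot123 := rot123
alias Lrot124 := rot124
alias Lrot125 := rot125
alias Lrot126 := rot126
alias Lrot127 := rot127
alias Lrot128 := rot128
alias Lrot129 := rot129
alias Lrot130 := rot130
alias Lrot131 := rot131
alias Lrot132 := rot132
alias Lrot133 := rot133
alias Lrot134 := rot134
alias Lrot135 := rot135
alias Lrot136 := rot136
alias Lrot137 := rot137
alias Lrot138 := rot138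
alias Lrot139 := rot139
alias Lrot140 := rot140
alias Lrot141 := rot141
alias Lrot142 := rot142
alias Lrot143 := rot143
alias Lrot144 := rot144
alias Lrot145 := rot145
alias Lrot146 := rot146
alias Lrot147 := rot147
alias Lrot148 := rot148
alias Lrot149 := rot149
alias Lrot150 := rot150
alias Lrot152 := rot152
alias Lrot153 := rot153
alias Lrot154 := rot154
alias Lrot155 := rot155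
alias Lrot156 := rot156
alias Lrot158 := rot158
alias Lrot160 := rot160
alias Lrot161 := rot161
alias Lrot162 := rot162
alias Lrot163 := rot163
alias Lrot164 := rot164
alias Lrot165 := rot165
alias Lrot166 := rot166
alias Lrot167 := rot167
alias Lrot168 := rot168
alias Lrot169 := rot169
alias Lrot170 := rot170
alias Lrot171 := rot171
alias Lrot172 := rot172
alias Lrot173 := rot173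
alias Lrot174 := rot174
alias Lrot175 := rot175
alias Lrot176 := rot176
alias Lrot178 := rot178
alias Lrot179 := rot179
alias Lrot180 := rot180
alias Lrot181 := rot181
alias Lrot182 := rot182
alias Lrot183 := rot183
alias Lrot185 := rot185
alias Lrot187 := rot187
alias Lrot188 := rot188
alias Lrot190 := rot190

section
variable (IH : IHT)
include IH

theorem f178425 : Led Lsl_ct (LP (LK LD1_c8 LD2_c24 LD3_c52)) = (LP (LK LD1_c15 LD2_c48 LD3_c54)) :=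
  Lre_c IH (LK LD1_c8 LD2_c24 LD3_c52) (LK LD1_c15 LD2_c48 LD3_c54) Lrfl Lrfl
theorem f357105 : Led Lsl_ct (LP (LK LD1_c15 LD2_c43 LD3_c8)) = (LP (LK LD1_c8 LD2_c21 LD3_c4)) :=
  Lre_c IH (LK LD1_c15 LD2_c43 LD3_c8) (LK LD1_c8 LD2_c21 LD3_c4) Lrfl Lrfl
theorem f357139 : Led Lsl_ff (LP (LK LD1_c8 LD2_c24 LD3_c52)) = (LP (LK LD1_c8 LD2_c21 LD3_c4)) :=
  Lgr Lrot23 (Lpr_ct (f178425 IH) (Lpr_ft (K38.f357116 IH) (Lpr_ct (f357105 IH) (Lpn (LP (LK LD1_c8 LD2_c21 LD3_c4))))))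
theorem f550869 : Led Lsl_gt (LP (LK LD1_c8 LD2_c21 LD3_c4)) = (LP (LK LD1_c4 LD2_c53 LD3_c43)) :=
  Lgr Lrot5 (Lpe (f357139 IH) (Lpr_at (K22.f178408 IH) (Lpr_gf (K38.f550858 IH) (Lpn (LP (LK LD1_c4 LD2_c53 LD3_c43))))))
theorem f178338 : Led Lsl_gt (LP (LK LD1_c8 LD2_c24 LD3_c46)) = (LP (LK LD1_c15 LD2_c48 LD3_c53)) :=
  Lre_g IH (LK LD1_c8 LD2_c24 LD3_c46) (LK LD1_c15 LD2_c48 LD3_c53) Lrfl Lrfl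
theorem f396016 : Led Lsl_gf (LP (LK LD1_c15 LD2_c43 LD3_c8)) = (LP (LK LD1_c15 LD2_c48 LD3_c53)) :=
  Lgr Lrot76 (Lpe (K38.f357106 IH) (Lpr_ff (K38.f337221 IH) (Lpr_gt (f178338 IH) (Lpn (LP (LK LD1_c15 LD2_c48 LD3_c53))))))
theorem f2256 : Led Lsl_dt (LP (LK LD1_c9 LD2_c36 LD3_c8)) = (LP (LK LD1_c4 LD2_c51 LD3_c57)) :=
  Lre_d IH (LK LD1_c9 LD2_c36 LD3_c8) (LK LD1_c4 LD2_c51 LD3_c57) Lrfl Lrfl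
theorem f2257 : Led Lsl_gt (LP (LK LD1_c17 LD2_c40 LD3_c48)) = (LP (LK LD1_c9 LD2_c36 LD3_c8)) :=
  Lre_g IH (LK LD1_c17 LD2_c40 LD3_c48) (LK LD1_c9 LD2_c36 LD3_c8) Lrfl Lrfl
theorem f263795 : Led Lsl_df (LP (LK LD1_c17 LD2_c40 LD3_c48)) = (LP (LK LD1_c15 LD2_c48 LD3_c53)) :=
  Lgr Lrot153 (Lpr_gt (f2257 IH) (Lpr_dt (f2256 IH) (Lpe (K38.f2241 IH) (Lpe (K38.f2254 IH) (Lpr_gf (K38.f2281 IH) (Lpe (K27.f2288 IH) (Lpr_gf (K27.f263793 IH) (Lpe (K27.f166483 IH) (Lpr_gt (f178338 IH) (Lpn (LP (LK LD1_c15 LD2_c48 LD3_c53))))))))))))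
theorem f1988 : Led Lsl_ct (LP (LK LD1_c9 LD2_c36 LD3_c8)) = (LP (LK LD1_c17 LD2_c40 LD3_c49)) :=
  Lre_c IH (LK LD1_c9 LD2_c36 LD3_c8) (LK LD1_c17 LD2_c40 LD3_c49) Lrfl Lrfl
theorem f2063 : Led Lsl_gt (LP (LK LD1_c17 LD2_c40 LD3_c49)) = (LP (LK LD1_c27 LD2_c28 LD3_c19)) :=
  Lre_g IH (LK LD1_c17 LD2_c40 LD3_c49) (LK LD1_c27 LD2_c28 LD3_c19) Lrfl Lrfl
theorem f2838 : Led Lsl_ct (LP (LK LD1_c4 LD2_c53 LD3_c43)) = (LP (LK LD1_c9 LD2_c39 LD3_c14)) :=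
  Lre_c IH (LK LD1_c4 LD2_c53 LD3_c43) (LK LD1_c9 LD2_c39 LD3_c14) Lrfl Lrfl
theorem f2837 : Led Lsl_dt (LP (LK LD1_c17 LD2_c45 LD3_c32)) = (LP (LK LD1_c9 LD2_c39 LD3_c14)) :=
  Lre_d IH (LK LD1_c17 LD2_c45 LD3_c32) (LK LD1_c9 LD2_c39 LD3_c14) Lrfl Lrfl
theorem f550875 : Led Lsl_ct (LP (LK LD1_c27 LD2_c28 LD3_c19)) = (LP (LK LD1_c17 LD2_c45 LD3_c32)) :=
  Lgr Lrot110 (Lpe (f2063 IH) (Lpe (f1988 IH) (Lpe (f2257 IH) (Lpr_df (f263795 IH) (Lpe (f396016 IH) (Lpr_ct (f357105 IH) (Lpr_gt (f550869 IH) (Lpr_ct (f2838 IH) (Lpe (f2837 IH) (Lpn (LP (LK LD1_c17 LD2_c45 LD3_c32))))))))))))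
theorem f2836 : Led Lsl_ct (LP (LK LD1_c9 LD2_c39 LD3_c14)) = (LP (LK LD1_c4 LD2_c53 LD3_c43)) :=
  Lre_c IH (LK LD1_c9 LD2_c39 LD3_c14) (LK LD1_c4 LD2_c53 LD3_c43) Lrfl Lrfl
theorem f2848 : Led Lsl_dt (LP (LK LD1_c4 LD2_c53 LD3_c43)) = (LP (LK LD1_c2 LD2_c24 LD3_c39)) :=
  Lre_d IH (LK LD1_c4 LD2_c53 LD3_c43) (LK LD1_c2 LD2_c24 LD3_c39) Lrfl Lrfl
theorem f399281 : Led Lsl_bt (LP (LK LD1_c17 LD2_c45 LD3_c29)) = (LP (LK LD1_c27 LD2_c31 LD3_c53)) :=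
  Lre_b IH (LK LD1_c17 LD2_c45 LD3_c29) (LK LD1_c27 LD2_c31 LD3_c53) Lrfl Lrfl
theorem f2075 : Led Lsl_gt (LP (LK LD1_c17 LD2_c41 LD3_c0)) = (LP (LK LD1_c27 LD2_c28 LD3_c20)) :=
  Lre_g IH (LK LD1_c17 LD2_c41 LD3_c0) (LK LD1_c27 LD2_c28 LD3_c20) Lrfl Lrfl
theorem f399284 : Led Lsl_ct (LP (LK LD1_c17 LD2_c45 LD3_c29)) = (LP (LK LD1_c27 LD2_c28 LD3_c20)) :=
  Lgr Lrot10 (Lpr_bt (f399281 IH) (Lpr_gt (K38.f399279 IH) (Lpe (K38.f394444 IH) (Lpe (K38.f399282 IH) (Lpe (K38.f233375 IH) (Lpr_bt (K30.f233388 IH) (Lpr_gt (K13.f233382 IH) (Lpe (K35.f1741 IH) (Lpr_ct (K35.f2035 IH) (Lpr_gt (f2075 IH) (Lpn (LP (LK LD1_c27 LD2_c28 LD3_c20)))))))))))))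
theorem f263799 : Led Lsl_dt (LP (LK LD1_c9 LD2_c39 LD3_c11)) = (LP (LK LD1_c17 LD2_c45 LD3_c29)) :=
  Lre_d IH (LK LD1_c9 LD2_c39 LD3_c11) (LK LD1_c17 LD2_c45 LD3_c29) Lrfl Lrfl
theorem f397692 : Led Lsl_at (LP (LK LD1_c4 LD2_c52 LD3_c38)) = (LP (LK LD1_c2 LD2_c24 LD3_c39)) :=
  Lgr Lrot100 (Lpr_af (K30.f397690 IH) (Lpn (LP (LK LD1_c2 LD2_c24 LD3_c39))))
theorem f399303 : Led Lsl_df (LP (LK LD1_c17 LD2_c45 LD3_c30)) = (LP (LK LD1_c27 LD2_c28 LD3_c20)) :=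
  Lgr Lrot13 (Lpr_ct (K38.f2841 IH) (Lpr_dt (K38.f2840 IH) (Lpr_ct (K30.f2845 IH) (Lpe (f397692 IH) (Lpr_ff (K30.f397700 IH) (Lpr_dt (K27.f2294 IH) (Lpr_ct (K27.f2855 IH) (Lpr_dt (f263799 IH) (Lpr_ct (f399284 IH) (Lpn (LP (LK LD1_c27 LD2_c28 LD3_c20))))))))))))
theorem f399307 : Led Lsl_dt (LP (LK LD1_c17 LD2_c45 LD3_c30)) = (LP (LK LD1_c27 LD2_c28 LD3_c20)) :=
  Lgr Lrot42 (Lpr_df (f399303 IH) (Lpn (LP (LK LD1_c27 LD2_c28 LD3_c20))))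
theorem f399301 : Led Lsl_cf (LP (LK LD1_c17 LD2_c45 LD3_c29)) = (LP (LK LD1_c27 LD2_c28 LD3_c20)) :=
  Lgr Lrot11 (Lpr_ct (f399284 IH) (Lpn (LP (LK LD1_c27 LD2_c28 LD3_c20))))
theorem f2854 : Led Lsl_dt (LP (LK LD1_c17 LD2_c45 LD3_c29)) = (LP (LK LD1_c9 LD2_c39 LD3_c11)) :=
  Lre_d IH (LK LD1_c17 LD2_c45 LD3_c29) (LK LD1_c9 LD2_c39 LD3_c11) Lrfl Lrfl
theorem f550879 : Led Lsl_df (LP (LK LD1_c27 LD2_c28 LD3_c19)) = (LP (LK LD1_c17 LD2_c45 LD3_c25)) :=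
  Lgr Lrot43 (Lpr_ct (f550875 IH) (Lpr_dt (f2837 IH) (Lpr_ct (f2836 IH) (Lpr_dt (f2848 IH) (Lpr_ct (K38.f2839 IH) (Lpr_dt (K30.f2844 IH) (Lpr_ct (K38.f2850 IH) (Lpr_dt (f399307 IH) (Lpe (f399301 IH) (Lpr_dt (f2854 IH) (Lpr_ct (K27.f2853 IH) (Lpr_dt (K27.f2288 IH) (Lpr_ct (K27.f2289 IH) (Lpr_dt (K30.f397675 IH) (Lpr_ct (K38.f397648 IH) (Lpn (LP (LK LD1_c17 LD2_c45 LD3_c25))))))))))))))))))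
theorem f550890 : Led Lsl_ft (LP (LK LD1_c27 LD2_c28 LD3_c19)) = (LP (LK LD1_c17 LD2_c40 LD3_c58)) :=
  Lgr Lrot54 (Lpr_df (f550879 IH) (Lpr_ff (K38.f550819 IH) (Lpe (K38.f30527 IH) (Lpn (LP (LK LD1_c17 LD2_c40 LD3_c58))))))
theorem f550910 : Led Lsl_ff (LP (LK LD1_c27 LD2_c28 LD3_c19)) = (LP (LK LD1_c17 LD2_c40 LD3_c58)) :=
  Lgr Lrot3 (Lpr_ft (f550890 IH) (Lpn (LP (LK LD1_c17 LD2_c40 LD3_c58))))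
theorem f1960 : Led Lsl_gt (LP (LK LD1_c9 LD2_c36 LD3_c11)) = (LP (LK LD1_c17 LD2_c40 LD3_c57)) :=
  Lre_g IH (LK LD1_c9 LD2_c36 LD3_c11) (LK LD1_c17 LD2_c40 LD3_c57) Lrfl Lrfl
theorem f550912 : Led Lsl_at (LP (LK LD1_c27 LD2_c28 LD3_c19)) = (LP (LK LD1_c17 LD2_c40 LD3_c57)) :=
  Lgr Lrot26 (Lpr_ff (f550910 IH) (Lpr_gt (K38.f2330 IH) (Lpr_gt (f1960 IH) (Lpn (LP (LK LD1_c17 LD2_c40 LD3_c57))))))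
theorem f550916 : Led Lsl_df (LP (LK LD1_c26 LD2_c15 LD3_c46)) = (LP (LK LD1_c17 LD2_c40 LD3_c57)) :=
  Lgr Lrot18 (Lpr_at (K38.f397670 IH) (Lpe (f550879 IH) (Lpr_at (f550912 IH) (Lpn (LP (LK LD1_c17 LD2_c40 LD3_c57))))))
theorem f550923 : Led Lsl_dt (LP (LK LD1_c26 LD2_c15 LD3_c46)) = (LP (LK LD1_c17 LD2_c40 LD3_c57)) :=
  Lgr Lrot42 (Lpr_df (f550916 IH) (Lpn (LP (LK LD1_c17 LD2_c40 LD3_c57))))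
theorem f550825 : Led Lsl_gf (LP (LK LD1_c26 LD2_c15 LD3_c46)) = (LP (LK LD1_c29 LD2_c17 LD3_c29)) :=
  Lgr Lrot76 (Lpr_af (K38.f397649 IH) (Lpr_ff (K38.f550819 IH) (Lpr_gt (K38.f400560 IH) (Lpn (LP (LK LD1_c29 LD2_c17 LD3_c29))))))
theorem f178429 : Led Lsl_ct (LP (LK LD1_c29 LD2_c17 LD3_c29)) = (LP (LK LD1_c20 LD2_c4 LD3_c13)) :=
  Lre_c IH (LK LD1_c29 LD2_c17 LD3_c29) (LK LD1_c20 LD2_c4 LD3_c13) Lrfl Lrfl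
theorem f30299 : Led Lsl_gt (LP (LK LD1_c17 LD2_c40 LD3_c57)) = (LP (LK LD1_c24 LD2_c56 LD3_c5)) :=
  Lgr Lrot46 (Lpe (f1960 IH) (Lpr_ft (K35.f2032 IH) (Lpr_at (K35.f30292 IH) (Lpn (LP (LK LD1_c24 LD2_c56 LD3_c5))))))
theorem f30242 : Led Lsl_ct (LP (LK LD1_c8 LD2_c1 LD3_c59)) = (LP (LK LD1_c15 LD2_c7 LD3_c25)) :=
  Lre_c IH (LK LD1_c8 LD2_c1 LD3_c59) (LK LD1_c15 LD2_c7 LD3_c25) Lrfl Lrfl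
theorem f29587 : Led Lsl_dt (LP (LK LD1_c4 LD2_c52 LD3_c40)) = (LP (LK LD1_c8 LD2_c1 LD3_c59)) :=
  Lgr Lrot79 (Lpr_bf (K30.f2168 IH) (Lpr_df (K1.f29584 IH) (Lpe (K35.f29586 IH) (Lpn (LP (LK LD1_c8 LD2_c1 LD3_c59))))))
theorem f51799 : Led Lsl_dt (LP (LK LD1_c15 LD2_c46 LD3_c30)) = (LP (LK LD1_c8 LD2_c23 LD3_c13)) :=
  Lre_d IH (LK LD1_c15 LD2_c46 LD3_c30) (LK LD1_c8 LD2_c23 LD3_c13) Lrfl Lrfl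
theorem f551353 : Led Lsl_gt (LP (LK LD1_c20 LD2_c4 LD3_c13)) = (LP (LK LD1_c15 LD2_c46 LD3_c30)) :=
  Lgr Lrot94 (Lpe (f178429 IH) (Lpe (f550825 IH) (Lpr_dt (f550923 IH) (Lpr_gt (f30299 IH) (Lpr_dt (K35.f30284 IH) (Lpe (f30242 IH) (Lpe (f29587 IH) (Lpe (K30.f170945 IH) (Lpe (f51799 IH) (Lpn (LP (LK LD1_c15 LD2_c46 LD3_c30))))))))))))
theorem f550843 : Led Lsl_ft (LP (LK LD1_c20 LD2_c4 LD3_c13)) = (LP (LK LD1_c17 LD2_c44 LD3_c15)) :=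
  Lgr Lrot4 (Lpe (f178429 IH) (Lpr_ff (K38.f550839 IH) (Lpe (K38.f2825 IH) (Lpn (LP (LK LD1_c17 LD2_c44 LD3_c15))))))
theorem f1944 : Led Lsl_ct (LP (LK LD1_c27 LD2_c25 LD3_c16)) = (LP (LK LD1_c17 LD2_c37 LD3_c2)) :=
  Lre_c IH (LK LD1_c27 LD2_c25 LD3_c16) (LK LD1_c17 LD2_c37 LD3_c2) Lrfl Lrfl
theorem f1992 : Led Lsl_bt (LP (LK LD1_c17 LD2_c37 LD3_c2)) = (LP (LK LD1_c9 LD2_c36 LD3_c8)) :=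
  Lre_b IH (LK LD1_c17 LD2_c37 LD3_c2) (LK LD1_c9 LD2_c36 LD3_c8) Lrfl Lrfl
theorem f30308 : Led Lsl_bt (LP (LK LD1_c17 LD2_c40 LD3_c49)) = (LP (LK LD1_c24 LD2_c56 LD3_c10)) :=
  Lgr Lrot128 (Lpe (f1988 IH) (Lpe (f1992 IH) (Lpe (f1944 IH) (Lpr_bf (K35.f30297 IH) (Lpr_cf (K7.f29382 IH) (Lpn (LP (LK LD1_c24 LD2_c56 LD3_c10))))))))
theorem f30501 : Led Lsl_bf (LP (LK LD1_c17 LD2_c40 LD3_c49)) = (LP (LK LD1_c24 LD2_c56 LD3_c10)) :=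
  Lgr Lrot24 (Lpr_bt (f30308 IH) (Lpn (LP (LK LD1_c24 LD2_c56 LD3_c10))))
theorem f29397 : Led Lsl_ft (LP (LK LD1_c15 LD2_c7 LD3_c26)) = (LP (LK LD1_c24 LD2_c56 LD3_c10)) :=
  Lre_f IH (LK LD1_c15 LD2_c7 LD3_c26) (LK LD1_c24 LD2_c56 LD3_c10) Lrfl Lrfl
theorem f30520 : Led Lsl_ft (LP (LK LD1_c17 LD2_c40 LD3_c49)) = (LP (LK LD1_c24 LD2_c56 LD3_c5)) :=
  Lgr Lrot75 (Lpr_bf (f30501 IH) (Lpe (f29397 IH) (Lpe (K35.f30287 IH) (Lpn (LP (LK LD1_c24 LD2_c56 LD3_c5))))))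
theorem f30256 : Led Lsl_at (LP (LK LD1_c24 LD2_c56 LD3_c4)) = (LP (LK LD1_c15 LD2_c7 LD3_c25)) :=
  Lre_a IH (LK LD1_c24 LD2_c56 LD3_c4) (LK LD1_c15 LD2_c7 LD3_c25) Lrfl Lrfl
theorem f30257 : Led Lsl_dt (LP (LK LD1_c15 LD2_c7 LD3_c25)) = (LP (LK LD1_c24 LD2_c56 LD3_c5)) :=
  Lre_d IH (LK LD1_c15 LD2_c7 LD3_c25) (LK LD1_c24 LD2_c56 LD3_c5) Lrfl Lrfl
theorem f30258 : Led Lsl_af (LP (LK LD1_c17 LD2_c41 LD3_c0)) = (LP (LK LD1_c24 LD2_c56 LD3_c5)) :=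
  Lgr Lrot117 (Lpr_dt (K35.f30254 IH) (Lpr_at (f30256 IH) (Lpr_dt (f30257 IH) (Lpn (LP (LK LD1_c24 LD2_c56 LD3_c5))))))
theorem f30522 : Led Lsl_gt (LP (LK LD1_c27 LD2_c28 LD3_c19)) = (LP (LK LD1_c17 LD2_c41 LD3_c0)) :=
  Lgr Lrot46 (Lpe (f2063 IH) (Lpr_ft (f30520 IH) (Lpe (f30258 IH) (Lpn (LP (LK LD1_c17 LD2_c41 LD3_c0))))))
theorem f1767 : Led Lsl_bt (LP (LK LD1_c4 LD2_c52 LD3_c0)) = (LP (LK LD1_c9 LD2_c36 LD3_c19)) :=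
  Lre_b IH (LK LD1_c4 LD2_c52 LD3_c0) (LK LD1_c9 LD2_c36 LD3_c19) Lrfl Lrfl
theorem f1915 : Led Lsl_dt (LP (LK LD1_c9 LD2_c36 LD3_c19)) = (LP (LK LD1_c9 LD2_c34 LD3_c2)) :=
  Lgr Lrot79 (Lpe (f1767 IH) (Lpr_df (K13.f1787 IH) (Lpe (K38.f1914 IH) (Lpn (LP (LK LD1_c9 LD2_c34 LD3_c2))))))
theorem f1938 : Led Lsl_df (LP (LK LD1_c9 LD2_c36 LD3_c19)) = (LP (LK LD1_c9 LD2_c34 LD3_c2)) :=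
  Lgr Lrot38 (Lpr_dt (f1915 IH) (Lpn (LP (LK LD1_c9 LD2_c34 LD3_c2))))
theorem f1804 : Led Lsl_ct (LP (LK LD1_c9 LD2_c36 LD3_c19)) = (LP (LK LD1_c17 LD2_c40 LD3_c59)) :=
  Lre_c IH (LK LD1_c9 LD2_c36 LD3_c19) (LK LD1_c17 LD2_c40 LD3_c59) Lrfl Lrfl
theorem f1955 : Led Lsl_dt (LP (LK LD1_c17 LD2_c40 LD3_c59)) = (LP (LK LD1_c27 LD2_c28 LD3_c32)) :=
  Lre_d IH (LK LD1_c17 LD2_c40 LD3_c59) (LK LD1_c27 LD2_c28 LD3_c32) Lrfl Lrfl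
theorem f30370 : Led Lsl_cf (LP (LK LD1_c31 LD2_c42 LD3_c46)) = (LP (LK LD1_c27 LD2_c28 LD3_c32)) :=
  Lgr Lrot55 (Lpr_dt (K35.f30366 IH) (Lpr_ct (K35.f29908 IH) (Lpr_dt (K35.f29884 IH) (Lpr_ct (K35.f29841 IH) (Lpr_dt (K35.f1966 IH) (Lpr_ct (K35.f1986 IH) (Lpr_dt (K35.f30310 IH) (Lpe (K35.f30029 IH) (Lpe (K35.f30314 IH) (Lpr_ct (K35.f29722 IH) (Lpr_dt (K35.f29676 IH) (Lpr_ct (K13.f29847 IH) (Lpe (f1938 IH) (Lpr_ct (f1804 IH) (Lpr_dt (f1955 IH) (Lpn (LP (LK LD1_c27 LD2_c28 LD3_c32))))))))))))))))))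
theorem f2336 : Led Lsl_bt (LP (LK LD1_c17 LD2_c40 LD3_c60)) = (LP (LK LD1_c27 LD2_c28 LD3_c32)) :=
  Lre_b IH (LK LD1_c17 LD2_c40 LD3_c60) (LK LD1_c27 LD2_c28 LD3_c32) Lrfl Lrfl
theorem f2321 : Led Lsl_cf (LP (LK LD1_c17 LD2_c40 LD3_c60)) = (LP (LK LD1_c9 LD2_c38 LD3_c21)) :=
  Lgr Lrot11 (Lpr_ct (K0.f2314 IH) (Lpn (LP (LK LD1_c9 LD2_c38 LD3_c21))))
theorem f30421 : Led Lsl_bt (LP (LK LD1_c15 LD2_c6 LD3_c57)) = (LP (LK LD1_c9 LD2_c38 LD3_c21)) :=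
  Lgr Lrot128 (Lpe (K35.f29908 IH) (Lpe (K35.f30357 IH) (Lpr_cf (f30370 IH) (Lpe (f2336 IH) (Lpr_cf (f2321 IH) (Lpn (LP (LK LD1_c9 LD2_c38 LD3_c21))))))))
theorem f30425 : Led Lsl_bf (LP (LK LD1_c15 LD2_c5 LD3_c55)) = (LP (LK LD1_c15 LD2_c7 LD3_c36)) :=
  Lgr Lrot61 (Lpe (K35.f30329 IH) (Lpr_bt (f30421 IH) (Lpr_ft (K35.f30271 IH) (Lpn (LP (LK LD1_c15 LD2_c7 LD3_c36))))))
theorem f29889 : Led Lsl_dt (LP (LK LD1_c8 LD2_c1 LD3_c36)) = (LP (LK LD1_c15 LD2_c6 LD3_c57)) :=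
  Lre_d IH (LK LD1_c8 LD2_c1 LD3_c36) (LK LD1_c15 LD2_c6 LD3_c57) Lrfl Lrfl
theorem f29849 : Led Lsl_ft (LP (LK LD1_c15 LD2_c6 LD3_c46)) = (LP (LK LD1_c8 LD2_c1 LD3_c36)) :=
  Lre_f IH (LK LD1_c15 LD2_c6 LD3_c46) (LK LD1_c8 LD2_c1 LD3_c36) Lrfl Lrfl
theorem f30327 : Led Lsl_df (LP (LK LD1_c15 LD2_c6 LD3_c46)) = (LP (LK LD1_c15 LD2_c5 LD3_c55)) :=
  Lgr Lrot78 (Lpr_ft (f29849 IH) (Lpr_dt (f29889 IH) (Lpr_ft (K35.f30317 IH) (Lpn (LP (LK LD1_c15 LD2_c5 LD3_c55))))))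
theorem f2005 : Led Lsl_bt (LP (LK LD1_c9 LD2_c36 LD3_c1)) = (LP (LK LD1_c17 LD2_c36 LD3_c53)) :=
  Lre_b IH (LK LD1_c9 LD2_c36 LD3_c1) (LK LD1_c17 LD2_c36 LD3_c53) Lrfl Lrfl
theorem f29862 : Led Lsl_bt (LP (LK LD1_c15 LD2_c6 LD3_c46)) = (LP (LK LD1_c9 LD2_c37 LD3_c21)) :=
  Lgr Lrot128 (Lpr_cf (K13.f29856 IH) (Lpe (f2005 IH) (Lpe (K0.f2327 IH) (Lpr_bf (K0.f2351 IH) (Lpe (K38.f2283 IH) (Lpn (LP (LK LD1_c9 LD2_c37 LD3_c21))))))))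
theorem f30430 : Led Lsl_dt (LP (LK LD1_c9 LD2_c37 LD3_c21)) = (LP (LK LD1_c15 LD2_c7 LD3_c36)) :=
  Lgr Lrot79 (Lpe (f29862 IH) (Lpr_df (f30327 IH) (Lpr_bf (f30425 IH) (Lpn (LP (LK LD1_c15 LD2_c7 LD3_c36))))))
theorem f2824 : Led Lsl_dt (LP (LK LD1_c9 LD2_c38 LD3_c17)) = (LP (LK LD1_c4 LD2_c53 LD3_c9)) :=
  Lre_d IH (LK LD1_c9 LD2_c38 LD3_c17) (LK LD1_c4 LD2_c53 LD3_c9) Lrfl Lrfl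
theorem f550892 : Led Lsl_gf (LP (LK LD1_c9 LD2_c38 LD3_c17)) = (LP (LK LD1_c11 LD2_c9 LD3_c46)) :=
  Lgr Lrot144 (Lpr_dt (f2824 IH) (Lpe (K38.f2822 IH) (Lpr_dt (f30430 IH) (Lpe (K35.f30253 IH) (Lpe (K35.f30254 IH) (Lpe (f30522 IH) (Lpr_df (f550879 IH) (Lpe (K38.f550847 IH) (Lpe (K38.f178415 IH) (Lpn (LP (LK LD1_c11 LD2_c9 LD3_c46))))))))))))
theorem f232272 : Led Lsl_bt (LP (LK LD1_c8 LD2_c24 LD3_c58)) = (LP (LK LD1_c4 LD2_c12 LD3_c42)) :=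
  Lre_b IH (LK LD1_c8 LD2_c24 LD3_c58) (LK LD1_c4 LD2_c12 LD3_c42) Lrfl Lrfl
theorem f269682 : Led Lsl_dt (LP (LK LD1_c15 LD2_c23 LD3_c34)) = (LP (LK LD1_c8 LD2_c24 LD3_c58)) :=
  Lgr Lrot79 (Lpe (K22.f225152 IH) (Lpr_df (K21.f269640 IH) (Lpe (f232272 IH) (Lpn (LP (LK LD1_c8 LD2_c24 LD3_c58))))))
theorem f337245 : Led Lsl_ff (LP (LK LD1_c15 LD2_c23 LD3_c34)) = (LP (LK LD1_c11 LD2_c9 LD3_c46)) :=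
  Lgr Lrot19 (Lpr_dt (f269682 IH) (Lpr_ft (K22.f337240 IH) (Lpr_dt (K38.f178414 IH) (Lpn (LP (LK LD1_c11 LD2_c9 LD3_c46))))))
theorem f550894 : Led Lsl_af (LP (LK LD1_c17 LD2_c44 LD3_c15)) = (LP (LK LD1_c15 LD2_c23 LD3_c34)) :=
  Lgr Lrot31 (Lpe (K38.f2589 IH) (Lpr_gf (f550892 IH) (Lpe (f337245 IH) (Lpn (LP (LK LD1_c15 LD2_c23 LD3_c34))))))
theorem f550905 : Led Lsl_at (LP (LK LD1_c17 LD2_c44 LD3_c15)) = (LP (LK LD1_c15 LD2_c23 LD3_c34)) :=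
  Lgr Lrot100 (Lpr_af (f550894 IH) (Lpn (LP (LK LD1_c15 LD2_c23 LD3_c34))))
theorem f551355 : Led Lsl_gf (LP (LK LD1_c15 LD2_c23 LD3_c34)) = (LP (LK LD1_c15 LD2_c46 LD3_c30)) :=
  Lgr Lrot76 (Lpe (f550905 IH) (Lpe (f550843 IH) (Lpr_gt (f551353 IH) (Lpn (LP (LK LD1_c15 LD2_c46 LD3_c30))))))
theorem f551361 : Led Lsl_bt (LP (LK LD1_c25 LD2_c43 LD3_c9)) = (LP (LK LD1_c15 LD2_c46 LD3_c30)) :=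
  Lre_b IH (LK LD1_c25 LD2_c43 LD3_c9) (LK LD1_c15 LD2_c46 LD3_c30) Lrfl Lrfl
theorem f551520 : Led Lsl_cf (LP (LK LD1_c17 LD2_c51 LD3_c19)) = (LP (LK LD1_c25 LD2_c43 LD3_c9)) :=
  Lgr Lrot58 (Lpe (K38.f246476 IH) (Lpr_cf (K38.f263942 IH) (Lpe (K38.f263954 IH) (Lpe (K38.f263963 IH) (Lpe (K38.f551518 IH) (Lpr_ct (K38.f550821 IH) (Lpr_gf (K38.f400563 IH) (Lpe (K22.f269634 IH) (Lpr_gf (f551355 IH) (Lpe (f551361 IH) (Lpn (LP (LK LD1_c25 LD2_c43 LD3_c9)))))))))))))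
theorem f225148 : Led Lsl_gf (LP (LK LD1_c3 LD2_c57 LD3_c21)) = (LP (LK LD1_c4 LD2_c4 LD3_c49)) :=
  Lgr Lrot143 (Lpr_dt (K13.f196302 IH) (Lpe (K10.f171777 IH) (Lpr_df (K12.f211466 IH) (Lpe (K12.f179857 IH) (Lpe (K11.f180115 IH) (Lpr_gf (K9.f180108 IH) (Lpe (K13.f173271 IH) (Lpr_gt (K12.f225024 IH) (Lpr_dt (K21.f53114 IH) (Lpn (LP (LK LD1_c4 LD2_c4 LD3_c49))))))))))))
theorem f238903 : Led Lsl_bt (LP (LK LD1_c7 LD2_c55 LD3_c54)) = (LP (LK LD1_c14 LD2_c57 LD3_c43)) :=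
  Lre_b IH (LK LD1_c7 LD2_c55 LD3_c54) (LK LD1_c14 LD2_c57 LD3_c43) Lrfl Lrfl
theorem f551524 : Led Lsl_gf (LP (LK LD1_c16 LD2_c19 LD3_c5)) = (LP (LK LD1_c14 LD2_c57 LD3_c43)) :=
  Lgr Lrot181 (Lpe (K38.f263942 IH) (Lpr_gt (K38.f246476 IH) (Lpr_cf (f551520 IH) (Lpr_bt (f551361 IH) (Lpe (f551355 IH) (Lpe (K22.f225152 IH) (Lpr_ct (K21.f225150 IH) (Lpe (f225148 IH) (Lpr_cf (K13.f238885 IH) (Lpr_bt (f238903 IH) (Lpn (LP (LK LD1_c14 LD2_c57 LD3_c43)))))))))))))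
theorem f224681 : Led Lsl_bt (LP (LK LD1_c5 LD2_c24 LD3_c1)) = (LP (LK LD1_c10 LD2_c38 LD3_c46)) :=
  Lre_b IH (LK LD1_c5 LD2_c24 LD3_c1) (LK LD1_c10 LD2_c38 LD3_c46) Lrfl Lrfl
theorem f551532 : Led Lsl_gt (LP (LK LD1_c10 LD2_c38 LD3_c46)) = (LP (LK LD1_c14 LD2_c58 LD3_c29)) :=
  Lgr Lrot164 (Lpe (f224681 IH) (Lpe (K12.f224656 IH) (Lpe (K26.f277640 IH) (Lpr_cf (K16.f277631 IH) (Lpr_gf (K15.f263938 IH) (Lpe (K38.f246465 IH) (Lpr_ct (K38.f263950 IH) (Lpr_gf (f551524 IH) (Lpe (K16.f236679 IH) (Lpe (K16.f280028 IH) (Lpn (LP (LK LD1_c14 LD2_c58 LD3_c29)))))))))))))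
theorem f338063 : Led Lsl_ff (LP (LK LD1_c4 LD2_c55 LD3_c38)) = (LP (LK LD1_c5 LD2_c24 LD3_c1)) :=
  Lgr Lrot30 (Lpr_at (K27.f338058 IH) (Lpr_ft (K22.f331608 IH) (Lpe (K22.f331614 IH) (Lpn (LP (LK LD1_c5 LD2_c24 LD3_c1))))))
theorem f224673 : Led Lsl_bt (LP (LK LD1_c10 LD2_c38 LD3_c46)) = (LP (LK LD1_c5 LD2_c24 LD3_c1)) :=
  Lre_b IH (LK LD1_c10 LD2_c38 LD3_c46) (LK LD1_c5 LD2_c24 LD3_c1) Lrfl Lrfl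
theorem f338065 : Led Lsl_ft (LP (LK LD1_c9 LD2_c42 LD3_c59)) = (LP (LK LD1_c10 LD2_c38 LD3_c46)) :=
  Lgr Lrot75 (Lpe (K38.f218498 IH) (Lpr_ff (f338063 IH) (Lpe (f224673 IH) (Lpn (LP (LK LD1_c10 LD2_c38 LD3_c46))))))
theorem f338067 : Led Lsl_ff (LP (LK LD1_c9 LD2_c42 LD3_c59)) = (LP (LK LD1_c10 LD2_c38 LD3_c46)) :=
  Lgr Lrot3 (Lpr_ft (f338065 IH) (Lpn (LP (LK LD1_c10 LD2_c38 LD3_c46))))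
theorem f338069 : Led Lsl_at (LP (LK LD1_c9 LD2_c42 LD3_c59)) = (LP (LK LD1_c17 LD2_c52 LD3_c5)) :=
  Lre_a IH (LK LD1_c9 LD2_c42 LD3_c59) (LK LD1_c17 LD2_c52 LD3_c5) Lrfl Lrfl
theorem f551534 : Led Lsl_gf (LP (LK LD1_c17 LD2_c52 LD3_c5)) = (LP (LK LD1_c14 LD2_c58 LD3_c29)) :=
  Lgr Lrot76 (Lpe (f338069 IH) (Lpr_ff (f338067 IH) (Lpr_gt (f551532 IH) (Lpn (LP (LK LD1_c14 LD2_c58 LD3_c29))))))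
theorem f277542 : Led Lsl_at (LP (LK LD1_c10 LD2_c38 LD3_c45)) = (LP (LK LD1_c5 LD2_c24 LD3_c0)) :=
  Lre_a IH (LK LD1_c10 LD2_c38 LD3_c45) (LK LD1_c5 LD2_c24 LD3_c0) Lrfl Lrfl
theorem f173145 : Led Lsl_gt (LP (LK LD1_c10 LD2_c38 LD3_c44)) = (LP (LK LD1_c5 LD2_c24 LD3_c0)) :=
  Lre_g IH (LK LD1_c10 LD2_c38 LD3_c44) (LK LD1_c5 LD2_c24 LD3_c0) Lrfl Lrfl
theorem f331736 : Led Lsl_gt (LP (LK LD1_c9 LD2_c42 LD3_c58)) = (LP (LK LD1_c10 LD2_c38 LD3_c44)) :=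
  Lgr Lrot5 (Lpr_ft (K22.f331708 IH) (Lpr_at (f277542 IH) (Lpe (f173145 IH) (Lpn (LP (LK LD1_c10 LD2_c38 LD3_c44))))))
theorem f297562 : Led Lsl_at (LP (LK LD1_c9 LD2_c44 LD3_c52)) = (LP (LK LD1_c17 LD2_c54 LD3_c1)) :=
  Lre_a IH (LK LD1_c9 LD2_c44 LD3_c52) (LK LD1_c17 LD2_c54 LD3_c1) Lrfl Lrfl
theorem f397278 : Led Lsl_gf (LP (LK LD1_c16 LD2_c17 LD3_c7)) = (LP (LK LD1_c8 LD2_c42 LD3_c17)) :=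
  Lgr Lrot47 (Lpr_gt (K38.f397276 IH) (Lpe (f297562 IH) (Lpe (K19.f297327 IH) (Lpn (LP (LK LD1_c8 LD2_c42 LD3_c17))))))
theorem f224727 : Led Lsl_bt (LP (LK LD1_c5 LD2_c22 LD3_c20)) = (LP (LK LD1_c10 LD2_c35 LD3_c6)) :=
  Lre_b IH (LK LD1_c5 LD2_c22 LD3_c20) (LK LD1_c10 LD2_c35 LD3_c6) Lrfl Lrfl
theorem f397349 : Led Lsl_gt (LP (LK LD1_c10 LD2_c35 LD3_c6)) = (LP (LK LD1_c8 LD2_c43 LD3_c29)) :=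
  Lgr Lrot164 (Lpe (f224727 IH) (Lpe (K12.f224706 IH) (Lpe (K12.f224553 IH) (Lpr_cf (K12.f223818 IH) (Lpr_gf (K15.f263728 IH) (Lpe (K15.f263766 IH) (Lpe (K15.f263773 IH) (Lpr_gf (f397278 IH) (Lpe (K18.f39434 IH) (Lpr_bt (K18.f297366 IH) (Lpn (LP (LK LD1_c8 LD2_c43 LD3_c29)))))))))))))
theorem f224728 : Led Lsl_gt (LP (LK LD1_c19 LD2_c10 LD3_c39)) = (LP (LK LD1_c10 LD2_c35 LD3_c6)) :=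
  Lre_g IH (LK LD1_c19 LD2_c10 LD3_c39) (LK LD1_c10 LD2_c35 LD3_c6) Lrfl Lrfl
theorem f397352 : Led Lsl_ft (LP (LK LD1_c19 LD2_c10 LD3_c39)) = (LP (LK LD1_c16 LD2_c20 LD3_c16)) :=
  Lgr Lrot2 (Lpr_gt (f224728 IH) (Lpr_gt (f397349 IH) (Lpe (K18.f237451 IH) (Lpn (LP (LK LD1_c16 LD2_c20 LD3_c16))))))
theorem f223786 : Led Lsl_ct (LP (LK LD1_c5 LD2_c24 LD3_c51)) = (LP (LK LD1_c10 LD2_c40 LD3_c20)) :=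
  Lre_c IH (LK LD1_c5 LD2_c24 LD3_c51) (LK LD1_c10 LD2_c40 LD3_c20) Lrfl Lrfl
theorem f374539 : Led Lsl_ff (LP (LK LD1_c5 LD2_c24 LD3_c51)) = (LP (LK LD1_c10 LD2_c31 LD3_c61)) :=
  Lgr Lrot23 (Lpr_ct (f223786 IH) (Lpr_ft (K31.f374535 IH) (Lpr_ct (K31.f220791 IH) (Lpn (LP (LK LD1_c10 LD2_c31 LD3_c61))))))
theorem f201532 : Led Lsl_dt (LP (LK LD1_c8 LD2_c44 LD3_c60)) = (LP (LK LD1_c16 LD2_c22 LD3_c43)) :=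
  Lre_d IH (LK LD1_c8 LD2_c44 LD3_c60) (LK LD1_c16 LD2_c22 LD3_c43) Lrfl Lrfl
theorem f331824 : Led Lsl_at (LP (LK LD1_c16 LD2_c22 LD3_c43)) = (LP (LK LD1_c10 LD2_c41 LD3_c32)) :=
  Lgr Lrot51 (Lpe (f201532 IH) (Lpe (K18.f201533 IH) (Lpr_df (K22.f331822 IH) (Lpn (LP (LK LD1_c10 LD2_c41 LD3_c32))))))
theorem f331829 : Led Lsl_ft (LP (LK LD1_c10 LD2_c40 LD3_c19)) = (LP (LK LD1_c16 LD2_c22 LD3_c43)) :=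
  Lgr Lrot101 (Lpe (K22.f297388 IH) (Lpr_ff (K22.f331826 IH) (Lpe (f331824 IH) (Lpn (LP (LK LD1_c16 LD2_c22 LD3_c43))))))
theorem f374552 : Led Lsl_bt (LP (LK LD1_c16 LD2_c22 LD3_c43)) = (LP (LK LD1_c10 LD2_c31 LD3_c61)) :=
  Lgr Lrot35 (Lpe (f331829 IH) (Lpe (K27.f223764 IH) (Lpr_ff (f374539 IH) (Lpn (LP (LK LD1_c10 LD2_c31 LD3_c61))))))
theorem f217730 : Led Lsl_bt (LP (LK LD1_c2 LD2_c38 LD3_c38)) = (LP (LK LD1_c1 LD2_c16 LD3_c13)) :=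
  Lre_b IH (LK LD1_c2 LD2_c38 LD3_c38) (LK LD1_c1 LD2_c16 LD3_c13) Lrfl Lrfl
theorem f218691 : Led Lsl_ct (LP (LK LD1_c2 LD2_c38 LD3_c38)) = (LP (LK LD1_c5 LD2_c24 LD3_c0)) :=
  Lre_c IH (LK LD1_c2 LD2_c38 LD3_c38) (LK LD1_c5 LD2_c24 LD3_c0) Lrfl Lrfl
theorem f374575 : Led Lsl_ct (LP (LK LD1_c16 LD2_c22 LD3_c43)) = (LP (LK LD1_c10 LD2_c38 LD3_c44)) :=
  Lgr Lrot64 (Lpr_bt (f374552 IH) (Lpe (K31.f220770 IH) (Lpe (K31.f220769 IH) (Lpr_ct (K12.f218808 IH) (Lpe (K12.f220753 IH) (Lpe (K10.f196594 IH) (Lpe (K13.f217728 IH) (Lpe (f217730 IH) (Lpr_ct (f218691 IH) (Lpe (f173145 IH) (Lpn (LP (LK LD1_c10 LD2_c38 LD3_c44)))))))))))))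
theorem f374581 : Led Lsl_ff (LP (LK LD1_c9 LD2_c42 LD3_c57)) = (LP (LK LD1_c10 LD2_c38 LD3_c44)) :=
  Lgr Lrot23 (Lpr_ct (K22.f223769 IH) (Lpr_ft (f331829 IH) (Lpr_ct (f374575 IH) (Lpn (LP (LK LD1_c10 LD2_c38 LD3_c44))))))
theorem f374600 : Led Lsl_ft (LP (LK LD1_c9 LD2_c42 LD3_c57)) = (LP (LK LD1_c10 LD2_c38 LD3_c44)) :=
  Lgr Lrot48 (Lpr_ff (f374581 IH) (Lpn (LP (LK LD1_c10 LD2_c38 LD3_c44))))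
theorem f397362 : Led Lsl_df (LP (LK LD1_c19 LD2_c10 LD3_c39)) = (LP (LK LD1_c10 LD2_c38 LD3_c44)) :=
  Lgr Lrot78 (Lpr_ft (f397352 IH) (Lpr_dt (K22.f297422 IH) (Lpr_ft (f374600 IH) (Lpn (LP (LK LD1_c10 LD2_c38 LD3_c44))))))
theorem f397364 : Led Lsl_ff (LP (LK LD1_c19 LD2_c10 LD3_c39)) = (LP (LK LD1_c16 LD2_c20 LD3_c16)) :=
  Lgr Lrot3 (Lpr_ft (f397352 IH) (Lpn (LP (LK LD1_c16 LD2_c20 LD3_c16))))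
theorem f397371 : Led Lsl_ct (LP (LK LD1_c19 LD2_c10 LD3_c39)) = (LP (LK LD1_c14 LD2_c58 LD3_c21)) :=
  Lgr Lrot40 (Lpr_ff (f397364 IH) (Lpe (K22.f237459 IH) (Lpr_ff (K22.f331805 IH) (Lpn (LP (LK LD1_c14 LD2_c58 LD3_c21))))))
theorem f297429 : Led Lsl_ff (LP (LK LD1_c3 LD2_c57 LD3_c17)) = (LP (LK LD1_c2 LD2_c8 LD3_c50)) :=
  Lgr Lrot23 (Lpr_ct (K18.f297425 IH) (Lpe (K18.f297410 IH) (Lpe (K18.f237430 IH) (Lpn (LP (LK LD1_c2 LD2_c8 LD3_c50))))))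
theorem f331814 : Led Lsl_at (LP (LK LD1_c3 LD2_c57 LD3_c17)) = (LP (LK LD1_c7 LD2_c56 LD3_c14)) :=
  Lre_a IH (LK LD1_c3 LD2_c57 LD3_c17) (LK LD1_c7 LD2_c56 LD3_c14) Lrfl Lrfl
theorem f180218 : Led Lsl_gt (LP (LK LD1_c2 LD2_c8 LD3_c50)) = (LP (LK LD1_c4 LD2_c22 LD3_c46)) :=
  Lre_g IH (LK LD1_c2 LD2_c8 LD3_c50) (LK LD1_c4 LD2_c22 LD3_c46) Lrfl Lrfl
theorem f406895 : Led Lsl_gf (LP (LK LD1_c7 LD2_c56 LD3_c14)) = (LP (LK LD1_c4 LD2_c22 LD3_c46)) :=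
  Lgr Lrot76 (Lpe (f331814 IH) (Lpr_ff (f297429 IH) (Lpr_gt (f180218 IH) (Lpn (LP (LK LD1_c4 LD2_c22 LD3_c46))))))
theorem f406897 : Led Lsl_dt (LP (LK LD1_c8 LD2_c43 LD3_c22)) = (LP (LK LD1_c4 LD2_c22 LD3_c46)) :=
  Lre_d IH (LK LD1_c8 LD2_c43 LD3_c22) (LK LD1_c4 LD2_c22 LD3_c46) Lrfl Lrfl
theorem f551536 : Led Lsl_gf (LP (LK LD1_c8 LD2_c43 LD3_c22)) = (LP (LK LD1_c7 LD2_c56 LD3_c18)) :=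
  Lgr Lrot144 (Lpr_dt (f406897 IH) (Lpe (f406895 IH) (Lpr_dt (K22.f297451 IH) (Lpe (f397371 IH) (Lpr_df (f397362 IH) (Lpe (f331736 IH) (Lpe (K27.f168717 IH) (Lpr_gf (f551534 IH) (Lpe (K16.f197791 IH) (Lpn (LP (LK LD1_c7 LD2_c56 LD3_c18))))))))))))
theorem f172692 : Led Lsl_ct (LP (LK LD1_c4 LD2_c56 LD3_c41)) = (LP (LK LD1_c2 LD2_c26 LD3_c9)) :=
  Lre_c IH (LK LD1_c4 LD2_c56 LD3_c41) (LK LD1_c2 LD2_c26 LD3_c9) Lrfl Lrfl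
theorem f211163 : Led Lsl_bf (LP (LK LD1_c4 LD2_c22 LD3_c46)) = (LP (LK LD1_c4 LD2_c56 LD3_c41)) :=
  Lgr Lrot34 (Lpe (f180218 IH) (Lpe (K18.f180217 IH) (Lpr_ct (K11.f180216 IH) (Lpe (K11.f180207 IH) (Lpe (K11.f180126 IH) (Lpr_gf (K11.f211155 IH) (Lpe (K30.f172622 IH) (Lpr_ct (K30.f172617 IH) (Lpe (K36.f172629 IH) (Lpe (f172692 IH) (Lpn (LP (LK LD1_c4 LD2_c56 LD3_c41)))))))))))))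
theorem f181984 : Led Lsl_dt (LP (LK LD1_c4 LD2_c22 LD3_c46)) = (LP (LK LD1_c8 LD2_c43 LD3_c22)) :=
  Lre_d IH (LK LD1_c4 LD2_c22 LD3_c46) (LK LD1_c8 LD2_c43 LD3_c22) Lrfl Lrfl
theorem f386170 : Led Lsl_dt (LP (LK LD1_c9 LD2_c44 LD3_c44)) = (LP (LK LD1_c4 LD2_c56 LD3_c41)) :=
  Lre_d IH (LK LD1_c9 LD2_c44 LD3_c44) (LK LD1_c4 LD2_c56 LD3_c41) Lrfl Lrfl
theorem f419017 : Led Lsl_bt (LP (LK LD1_c8 LD2_c43 LD3_c22)) = (LP (LK LD1_c9 LD2_c44 LD3_c44)) :=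
  Lgr Lrot95 (Lpe (f181984 IH) (Lpr_bf (f211163 IH) (Lpe (f386170 IH) (Lpn (LP (LK LD1_c9 LD2_c44 LD3_c44))))))
theorem f419019 : Led Lsl_bf (LP (LK LD1_c8 LD2_c43 LD3_c22)) = (LP (LK LD1_c9 LD2_c44 LD3_c44)) :=
  Lgr Lrot24 (Lpr_bt (f419017 IH) (Lpn (LP (LK LD1_c9 LD2_c44 LD3_c44))))
theorem f238856 : Led Lsl_ct (LP (LK LD1_c3 LD2_c57 LD3_c21)) = (LP (LK LD1_c7 LD2_c55 LD3_c54)) :=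
  Lgr Lrot176 (Lpe (K13.f196305 IH) (Lpe (K10.f171777 IH) (Lpr_df (K12.f211466 IH) (Lpe (K12.f211472 IH) (Lpr_df (K12.f211481 IH) (Lpe (K13.f236477 IH) (Lpr_df (K13.f238844 IH) (Lpe (K13.f172763 IH) (Lpe (K13.f172741 IH) (Lpe (K13.f168872 IH) (Lpe (K12.f196372 IH) (Lpr_cf (K12.f196362 IH) (Lpe (K12.f33201 IH) (Lpr_cf (K14.f236600 IH) (Lpe (K13.f39272 IH) (Lpn (LP (LK LD1_c7 LD2_c55 LD3_c54))))))))))))))))))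
theorem f181368 : Led Lsl_ct (LP (LK LD1_c4 LD2_c32 LD3_c33)) = (LP (LK LD1_c9 LD2_c2 LD3_c37)) :=
  Lre_c IH (LK LD1_c4 LD2_c32 LD3_c33) (LK LD1_c9 LD2_c2 LD3_c37) Lrfl Lrfl
theorem f181361 : Led Lsl_gt (LP (LK LD1_c16 LD2_c53 LD3_c0)) = (LP (LK LD1_c9 LD2_c2 LD3_c37)) :=
  Lre_g IH (LK LD1_c16 LD2_c53 LD3_c0) (LK LD1_c9 LD2_c2 LD3_c37) Lrfl Lrfl
theorem f551550 : Led Lsl_ct (LP (LK LD1_c9 LD2_c44 LD3_c44)) = (LP (LK LD1_c16 LD2_c53 LD3_c0)) :=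
  Lgr Lrot64 (Lpe (f419019 IH) (Lpr_gf (f551536 IH) (Lpe (K16.f238887 IH) (Lpr_ct (f238856 IH) (Lpe (K13.f238896 IH) (Lpe (K13.f211159 IH) (Lpe (K13.f227938 IH) (Lpe (K16.f181366 IH) (Lpr_ct (f181368 IH) (Lpe (f181361 IH) (Lpn (LP (LK LD1_c16 LD2_c53 LD3_c0)))))))))))))
theorem f181349 : Led Lsl_bt (LP (LK LD1_c1 LD2_c55 LD3_c31)) = (LP (LK LD1_c0 LD2_c54 LD3_c29)) :=
  Lre_b IH (LK LD1_c1 LD2_c55 LD3_c31) (LK LD1_c0 LD2_c54 LD3_c29) Lrfl Lrfl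
theorem f172303 : Led Lsl_ct (LP (LK LD1_c1 LD2_c55 LD3_c31)) = (LP (LK LD1_c0 LD2_c54 LD3_c58)) :=
  Lre_c IH (LK LD1_c1 LD2_c55 LD3_c31) (LK LD1_c0 LD2_c54 LD3_c58) Lrfl Lrfl
theorem f181350 : Led Lsl_ct (LP (LK LD1_c3 LD2_c58 LD3_c59)) = (LP (LK LD1_c1 LD2_c56 LD3_c14)) :=
  Lre_c IH (LK LD1_c3 LD2_c58 LD3_c59) (LK LD1_c1 LD2_c56 LD3_c14) Lrfl Lrfl
theorem f181351 : Led Lsl_bt (LP (LK LD1_c3 LD2_c58 LD3_c59)) = (LP (LK LD1_c7 LD2_c59 LD3_c14)) :=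
  Lre_b IH (LK LD1_c3 LD2_c58 LD3_c59) (LK LD1_c7 LD2_c59 LD3_c14) Lrfl Lrfl
theorem f181352 : Led Lsl_gf (LP (LK LD1_c4 LD2_c32 LD3_c25)) = (LP (LK LD1_c7 LD2_c59 LD3_c14)) :=
  Lgr Lrot181 (Lpr_ct (K38.f174545 IH) (Lpr_gt (K30.f174538 IH) (Lpe (K16.f174523 IH) (Lpr_bt (K16.f181341 IH) (Lpr_gt (K12.f173355 IH) (Lpe (f181349 IH) (Lpr_ct (f172303 IH) (Lpr_gt (K30.f157826 IH) (Lpe (f181350 IH) (Lpr_bt (f181351 IH) (Lpn (LP (LK LD1_c7 LD2_c59 LD3_c14)))))))))))))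
theorem f181357 : Led Lsl_dt (LP (LK LD1_c15 LD2_c3 LD3_c53)) = (LP (LK LD1_c7 LD2_c59 LD3_c14)) :=
  Lre_d IH (LK LD1_c15 LD2_c3 LD3_c53) (LK LD1_c7 LD2_c59 LD3_c14) Lrfl Lrfl
theorem f551556 : Led Lsl_gf (LP (LK LD1_c9 LD2_c44 LD3_c44)) = (LP (LK LD1_c15 LD2_c3 LD3_c53)) :=
  Lgr Lrot147 (Lpr_ct (f551550 IH) (Lpr_gt (f181361 IH) (Lpr_ct (K30.f181360 IH) (Lpe (K31.f181359 IH) (Lpe (K30.f174559 IH) (Lpe (K30.f174538 IH) (Lpe (K38.f174545 IH) (Lpr_gf (f181352 IH) (Lpe (f181357 IH) (Lpn (LP (LK LD1_c15 LD2_c3 LD3_c53))))))))))))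
theorem f386171 : Led Lsl_dt (LP (LK LD1_c4 LD2_c56 LD3_c41)) = (LP (LK LD1_c9 LD2_c44 LD3_c44)) :=
  Lre_d IH (LK LD1_c4 LD2_c56 LD3_c41) (LK LD1_c9 LD2_c44 LD3_c44) Lrfl Lrfl
theorem f172690 : Led Lsl_ct (LP (LK LD1_c2 LD2_c26 LD3_c9)) = (LP (LK LD1_c4 LD2_c56 LD3_c41)) :=
  Lre_c IH (LK LD1_c2 LD2_c26 LD3_c9) (LK LD1_c4 LD2_c56 LD3_c41) Lrfl Lrfl
theorem f541359 : Led Lsl_et (LP (LK LD1_c4 LD2_c56 LD3_c41)) = (LP (LK LD1_c4 LD2_c42 LD3_c51)) :=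
  Lgr Lrot158 (Lpe (f172690 IH) (Lpr_ef (K36.f541357 IH) (Lpe (K8.f59401 IH) (Lpn (LP (LK LD1_c4 LD2_c42 LD3_c51))))))
theorem f539770 : Led Lsl_ef (LP (LK LD1_c2 LD2_c49 LD3_c35)) = (LP (LK LD1_c4 LD2_c42 LD3_c47)) :=
  Lgr Lrot28 (Lpr_ct (K28.f73475 IH) (Lpr_et (K36.f157812 IH) (Lpqs (K36.f539757 IH) (Lpe (K32.f496264 IH) (Lpn (LP (LK LD1_c4 LD2_c42 LD3_c47)))))))
theorem f438209 : Led Lsl_gt (LP (LK LD1_c8 LD2_c2 LD3_c25)) = (LP (LK LD1_c4 LD2_c35 LD3_c48)) :=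
  Lgr Lrot49 (Lpr_df (K32.f438200 IH) (Lpr_gf (K32.f132858 IH) (Lpe (K5.f59399 IH) (Lpr_gt (K5.f59334 IH) (Lpr_dt (K11.f104807 IH) (Lpe (K4.f104727 IH) (Lpr_dt (K7.f104776 IH) (Lpe (K7.f35551 IH) (Lpe (K7.f104778 IH) (Lpn (LP (LK LD1_c4 LD2_c35 LD3_c48))))))))))))
theorem f181362 : Led Lsl_dt (LP (LK LD1_c7 LD2_c59 LD3_c14)) = (LP (LK LD1_c15 LD2_c3 LD3_c53)) :=
  Lre_d IH (LK LD1_c7 LD2_c59 LD3_c14) (LK LD1_c15 LD2_c3 LD3_c53) Lrfl Lrfl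
theorem f423574 : Led Lsl_ff (LP (LK LD1_c2 LD2_c46 LD3_c47)) = (LP (LK LD1_c4 LD2_c32 LD3_c25)) :=
  Lgr Lrot3 (Lpr_ft (K38.f423568 IH) (Lpn (LP (LK LD1_c4 LD2_c32 LD3_c25))))
theorem f181364 : Led Lsl_dt (LP (LK LD1_c9 LD2_c2 LD3_c27)) = (LP (LK LD1_c4 LD2_c32 LD3_c25)) :=
  Lre_d IH (LK LD1_c9 LD2_c2 LD3_c27) (LK LD1_c4 LD2_c32 LD3_c25) Lrfl Lrfl
theorem f423580 : Led Lsl_ft (LP (LK LD1_c5 LD2_c41 LD3_c28)) = (LP (LK LD1_c9 LD2_c2 LD3_c27)) :=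
  Lgr Lrot54 (Lpe (K31.f237379 IH) (Lpr_ff (f423574 IH) (Lpe (f181364 IH) (Lpn (LP (LK LD1_c9 LD2_c2 LD3_c27))))))
theorem f423584 : Led Lsl_af (LP (LK LD1_c5 LD2_c41 LD3_c21)) = (LP (LK LD1_c9 LD2_c2 LD3_c27)) :=
  Lgr Lrot109 (Lpe (K31.f181693 IH) (Lpe (K31.f181694 IH) (Lpr_cf (K31.f411922 IH) (Lpe (K31.f385548 IH) (Lpe (K31.f172618 IH) (Lpe (K31.f172614 IH) (Lpe (K31.f181577 IH) (Lpe (K31.f237376 IH) (Lpr_ft (f423580 IH) (Lpn (LP (LK LD1_c9 LD2_c2 LD3_c27))))))))))))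
theorem f181355 : Led Lsl_dt (LP (LK LD1_c4 LD2_c32 LD3_c25)) = (LP (LK LD1_c9 LD2_c2 LD3_c27)) :=
  Lre_d IH (LK LD1_c4 LD2_c32 LD3_c25) (LK LD1_c9 LD2_c2 LD3_c27) Lrfl Lrfl
theorem f423590 : Led Lsl_at (LP (LK LD1_c2 LD2_c46 LD3_c43)) = (LP (LK LD1_c4 LD2_c32 LD3_c25)) :=
  Lgr Lrot51 (Lpe (K31.f181492 IH) (Lpr_af (f423584 IH) (Lpe (f181355 IH) (Lpn (LP (LK LD1_c4 LD2_c32 LD3_c25))))))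
theorem f385553 : Led Lsl_dt (LP (LK LD1_c16 LD2_c52 LD3_c44)) = (LP (LK LD1_c9 LD2_c2 LD3_c28)) :=
  Lre_d IH (LK LD1_c16 LD2_c52 LD3_c44) (LK LD1_c9 LD2_c2 LD3_c28) Lrfl Lrfl
theorem f268985 : Led Lsl_ff (LP (LK LD1_c5 LD2_c41 LD3_c54)) = (LP (LK LD1_c9 LD2_c2 LD3_c44)) :=
  Lgr Lrot19 (Lpr_dt (K30.f174333 IH) (Lpr_ft (K16.f268976 IH) (Lpr_dt (K16.f268984 IH) (Lpn (LP (LK LD1_c9 LD2_c2 LD3_c44))))))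
theorem f174348 : Led Lsl_at (LP (LK LD1_c5 LD2_c41 LD3_c54)) = (LP (LK LD1_c11 LD2_c13 LD3_c16)) :=
  Lre_a IH (LK LD1_c5 LD2_c41 LD3_c54) (LK LD1_c11 LD2_c13 LD3_c16) Lrfl Lrfl
theorem f281291 : Led Lsl_gt (LP (LK LD1_c9 LD2_c2 LD3_c44)) = (LP (LK LD1_c16 LD2_c53 LD3_c14)) :=
  Lre_g IH (LK LD1_c9 LD2_c2 LD3_c44) (LK LD1_c16 LD2_c53 LD3_c14) Lrfl Lrfl
theorem f411889 : Led Lsl_gf (LP (LK LD1_c11 LD2_c13 LD3_c16)) = (LP (LK LD1_c16 LD2_c53 LD3_c14)) :=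
  Lgr Lrot76 (Lpe (f174348 IH) (Lpr_ff (f268985 IH) (Lpr_gt (f281291 IH) (Lpn (LP (LK LD1_c16 LD2_c53 LD3_c14))))))
theorem f269083 : Led Lsl_ct (LP (LK LD1_c5 LD2_c41 LD3_c33)) = (LP (LK LD1_c2 LD2_c46 LD3_c50)) :=
  Lre_c IH (LK LD1_c5 LD2_c41 LD3_c33) (LK LD1_c2 LD2_c46 LD3_c50) Lrfl Lrfl
theorem f174581 : Led Lsl_gt (LP (LK LD1_c4 LD2_c33 LD3_c33)) = (LP (LK LD1_c9 LD2_c4 LD3_c41)) :=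
  Lre_g IH (LK LD1_c4 LD2_c33 LD3_c33) (LK LD1_c9 LD2_c4 LD3_c41) Lrfl Lrfl
theorem f411891 : Led Lsl_dt (LP (LK LD1_c9 LD2_c4 LD3_c41)) = (LP (LK LD1_c16 LD2_c53 LD3_c14)) :=
  Lgr Lrot57 (Lpe (f174581 IH) (Lpe (K30.f173394 IH) (Lpr_gt (K31.f411837 IH) (Lpr_dt (K30.f181291 IH) (Lpe (K30.f269080 IH) (Lpr_dt (K20.f269059 IH) (Lpe (f269083 IH) (Lpe (K20.f269082 IH) (Lpr_gf (f411889 IH) (Lpn (LP (LK LD1_c16 LD2_c53 LD3_c14))))))))))))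
theorem f385235 : Led Lsl_gt (LP (LK LD1_c9 LD2_c4 LD3_c41)) = (LP (LK LD1_c5 LD2_c45 LD3_c7)) :=
  Lgr Lrot46 (Lpe (f174581 IH) (Lpr_ft (K30.f385214 IH) (Lpr_at (K30.f172643 IH) (Lpn (LP (LK LD1_c5 LD2_c45 LD3_c7))))))
theorem f174571 : Led Lsl_ct (LP (LK LD1_c4 LD2_c32 LD3_c26)) = (LP (LK LD1_c9 LD2_c2 LD3_c28)) :=
  Lre_c IH (LK LD1_c4 LD2_c32 LD3_c26) (LK LD1_c9 LD2_c2 LD3_c28) Lrfl Lrfl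
theorem f411893 : Led Lsl_ct (LP (LK LD1_c26 LD2_c49 LD3_c36)) = (LP (LK LD1_c16 LD2_c52 LD3_c44)) :=
  Lgr Lrot110 (Lpr_gf (K30.f411673 IH) (Lpe (K30.f269062 IH) (Lpr_gf (f411889 IH) (Lpe (f411891 IH) (Lpr_gt (f385235 IH) (Lpr_ct (K30.f172644 IH) (Lpr_gt (K30.f385551 IH) (Lpr_ct (f174571 IH) (Lpe (f385553 IH) (Lpn (LP (LK LD1_c16 LD2_c52 LD3_c44))))))))))))
theorem f181303 : Led Lsl_ct (LP (LK LD1_c9 LD2_c2 LD3_c23)) = (LP (LK LD1_c16 LD2_c52 LD3_c38)) :=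
  Lre_c IH (LK LD1_c9 LD2_c2 LD3_c23) (LK LD1_c16 LD2_c52 LD3_c38) Lrfl Lrfl
theorem f423594 : Led Lsl_ff (LP (LK LD1_c2 LD2_c46 LD3_c43)) = (LP (LK LD1_c4 LD2_c32 LD3_c22)) :=
  Lgr Lrot103 (Lpr_at (f423590 IH) (Lpe (K38.f174561 IH) (Lpe (K30.f174587 IH) (Lpe (K38.f174576 IH) (Lpe (f385553 IH) (Lpe (f411893 IH) (Lpe (K30.f411672 IH) (Lpe (f181303 IH) (Lpe (K30.f181306 IH) (Lpn (LP (LK LD1_c4 LD2_c32 LD3_c22))))))))))))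
theorem f423602 : Led Lsl_gf (LP (LK LD1_c7 LD2_c59 LD3_c14)) = (LP (LK LD1_c4 LD2_c32 LD3_c22)) :=
  Lgr Lrot47 (Lpe (f181352 IH) (Lpe (f423590 IH) (Lpr_ff (f423594 IH) (Lpn (LP (LK LD1_c4 LD2_c32 LD3_c22))))))
theorem f551573 : Led Lsl_et (LP (LK LD1_c2 LD2_c15 LD3_c5)) = (LP (LK LD1_c4 LD2_c32 LD3_c22)) :=
  Lgr Lrot121 (Lpr_dt (K7.f149021 IH) (Lpe (f438209 IH) (Lpr_df (K32.f438200 IH) (Lpe (f539770 IH) (Lpe (K28.f205711 IH) (Lpe (f541359 IH) (Lpr_dt (f386171 IH) (Lpr_gf (f551556 IH) (Lpe (f181362 IH) (Lpr_gf (f423602 IH) (Lpn (LP (LK LD1_c4 LD2_c32 LD3_c22)))))))))))))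
theorem f59410 : Led Lsl_dt (LP (LK LD1_c4 LD2_c42 LD3_c53)) = (LP (LK LD1_c9 LD2_c19 LD3_c48)) :=
  Lre_d IH (LK LD1_c4 LD2_c42 LD3_c53) (LK LD1_c9 LD2_c19 LD3_c48) Lrfl Lrfl
theorem f542193 : Led Lsl_et K35.v1383 = (LP (LK LD1_c3 LD2_c58 LD3_c58)) :=
  Lgr Lrot87 (Lpr_ef (K37.f542190 IH) (Lpn (LP (LK LD1_c3 LD2_c58 LD3_c58))))
theorem f542194 : Led Lsl_et (LP (LK LD1_c1 LD2_c56 LD3_c14)) = (LP (LK LD1_c3 LD2_c58 LD3_c61)) :=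
  Lre_e IH (LK LD1_c1 LD2_c56 LD3_c14) (LK LD1_c3 LD2_c58 LD3_c61) Lrfl Lrfl
theorem f542195 : Led Lsl_bf K35.v1383 = (LP (LK LD1_c3 LD2_c58 LD3_c61)) :=
  Lgr Lrot96 (Lpr_et (f542193 IH) (Lpr_bt (K35.f174533 IH) (Lpr_et (f542194 IH) (Lpn (LP (LK LD1_c3 LD2_c58 LD3_c61))))))
theorem f542199 : Led Lsl_cf (LP (LK LD1_c7 LD2_c59 LD3_c14)) = (LP (LK LD1_c3 LD2_c58 LD3_c61)) :=
  Lgr Lrot58 (Lpr_gf (f423602 IH) (Lpe (K30.f174543 IH) (Lpr_bt (K36.f181264 IH) (Lpe (K31.f381957 IH) (Lpr_bf (K27.f381816 IH) (Lpr_ct (K31.f381686 IH) (Lpr_gf (K27.f381668 IH) (Lpe (K31.f171859 IH) (Lpr_gf (K35.f495248 IH) (Lpr_bf (f542195 IH) (Lpn (LP (LK LD1_c3 LD2_c58 LD3_c61)))))))))))))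
theorem f542201 : Led Lsl_et (LP (LK LD1_c7 LD2_c59 LD3_c14)) = (LP (LK LD1_c3 LD2_c58 LD3_c59)) :=
  Lgr Lrot158 (Lpr_cf (f542199 IH) (Lpe (f542194 IH) (Lpe (f181350 IH) (Lpn (LP (LK LD1_c3 LD2_c58 LD3_c59))))))
theorem f542205 : Led Lsl_ef (LP (LK LD1_c7 LD2_c59 LD3_c14)) = (LP (LK LD1_c3 LD2_c58 LD3_c59)) :=
  Lgr Lrot88 (Lpr_et (f542201 IH) (Lpn (LP (LK LD1_c3 LD2_c58 LD3_c59))))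
theorem f174563 : Led Lsl_dt (LP (LK LD1_c3 LD2_c58 LD3_c59)) = (LP (LK LD1_c7 LD2_c59 LD3_c15)) :=
  Lre_d IH (LK LD1_c3 LD2_c58 LD3_c59) (LK LD1_c7 LD2_c59 LD3_c15) Lrfl Lrfl
theorem f551581 : Led Lsl_gf (LP (LK LD1_c9 LD2_c19 LD3_c48)) = (LP (LK LD1_c7 LD2_c59 LD3_c15)) :=
  Lgr Lrot145 (Lpe (f59410 IH) (Lpr_et (K6.f59403 IH) (Lpe (K32.f132858 IH) (Lpe (K32.f438200 IH) (Lpr_gt (f438209 IH) (Lpe (K7.f149021 IH) (Lpr_et (f551573 IH) (Lpe (f423602 IH) (Lpr_ef (f542205 IH) (Lpr_dt (f174563 IH) (Lpn (LP (LK LD1_c7 LD2_c59 LD3_c15)))))))))))))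
theorem f59413 : Led Lsl_dt (LP (LK LD1_c9 LD2_c19 LD3_c48)) = (LP (LK LD1_c4 LD2_c42 LD3_c53)) :=
  Lre_d IH (LK LD1_c9 LD2_c19 LD3_c48) (LK LD1_c4 LD2_c42 LD3_c53) Lrfl Lrfl
theorem f382058 : Led Lsl_dt (LP (LK LD1_c2 LD2_c13 LD3_c25)) = (LP (LK LD1_c4 LD2_c32 LD3_c51)) :=
  Lre_d IH (LK LD1_c2 LD2_c13 LD3_c25) (LK LD1_c4 LD2_c32 LD3_c51) Lrfl Lrfl
theorem f551585 : Led Lsl_gf (LP (LK LD1_c4 LD2_c42 LD3_c55)) = (LP (LK LD1_c4 LD2_c32 LD3_c51)) :=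
  Lgr Lrot143 (Lpr_dt (K6.f59417 IH) (Lpe (K6.f59409 IH) (Lpe (f59413 IH) (Lpr_gf (f551581 IH) (Lpe (f174563 IH) (Lpe (K35.f382074 IH) (Lpr_cf (K31.f382072 IH) (Lpr_gt (K31.f174894 IH) (Lpr_dt (f382058 IH) (Lpn (LP (LK LD1_c4 LD2_c32 LD3_c51))))))))))))
def v1488 : LQ := Led Lsl_et (LP (LK LD1_c1 LD2_c19 LD3_c50))
theorem f495822 : Led Lsl_et (LP (LK LD1_c1 LD2_c19 LD3_c50)) = v1488 :=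
  Lrfl
theorem f495824 : Led Lsl_ef (LP (LK LD1_c1 LD2_c19 LD3_c50)) = v1488 :=
  Lgr Lrot88 (Lpr_et (f495822 IH) (Lpn v1488))
theorem f551596 : v1488 = (LP (LK LD1_c2 LD2_c13 LD3_c25)) :=
  (Llr Lrot17 (Lpe (f495824 IH) (Lpr_gf (K30.f269080 IH) (Lpq (K36.f541380 IH) (Lpe (K36.f494402 IH) (Lpr_dt (K4.f34733 IH) (Lpr_gf (K4.f104727 IH) (Lpe (K11.f104807 IH) (Lpe (K5.f59334 IH) (Lpe (K6.f104820 IH) (Lpr_dt (K6.f104821 IH) (Lpr_gf (f551585 IH) (Lpe (f382058 IH) (Lpn (LP (LK LD1_c2 LD2_c13 LD3_c25)))))))))))))))).symm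
theorem f268854 : Led Lsl_et (LP (LK LD1_c4 LD2_c32 LD3_c30)) = (LP (LK LD1_c2 LD2_c13 LD3_c17)) :=
  Lre_e IH (LK LD1_c4 LD2_c32 LD3_c30) (LK LD1_c2 LD2_c13 LD3_c17) Lrfl Lrfl
theorem f268855 : Led Lsl_bt (LP (LK LD1_c2 LD2_c47 LD3_c18)) = (LP (LK LD1_c4 LD2_c32 LD3_c30)) :=
  Lgr Lrot119 (Lpe (K38.f268853 IH) (Lpr_bf (K16.f268841 IH) (Lpe (f268854 IH) (Lpn (LP (LK LD1_c4 LD2_c32 LD3_c30))))))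
theorem f268861 : Led Lsl_bf (LP (LK LD1_c2 LD2_c47 LD3_c18)) = (LP (LK LD1_c4 LD2_c32 LD3_c30)) :=
  Lgr Lrot24 (Lpr_bt (f268855 IH) (Lpn (LP (LK LD1_c4 LD2_c32 LD3_c30))))
theorem f549532 : Led Lsl_ff (LP (LK LD1_c4 LD2_c32 LD3_c30)) = (LP (LK LD1_c7 LD2_c14 LD3_c8)) :=
  Lgr Lrot25 (Lpe (f268861 IH) (Lpr_ft (K38.f549530 IH) (Lpe (K37.f546738 IH) (Lpn (LP (LK LD1_c7 LD2_c14 LD3_c8))))))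
theorem f551616 : Led Lsl_et (LP (LK LD1_c4 LD2_c32 LD3_c52)) = (LP (LK LD1_c7 LD2_c14 LD3_c8)) :=
  Lgr Lrot69 (Lpe (K38.f551601 IH) (Lpq (f551596 IH) (Lpe (f495822 IH) (Lpr_ff (K20.f280539 IH) (Lpe (f268854 IH) (Lpr_ff (f549532 IH) (Lpn (LP (LK LD1_c7 LD2_c14 LD3_c8)))))))))
theorem f132804 : Led Lsl_et (LP (LK LD1_c1 LD2_c28 LD3_c34)) = (LP (LK LD1_c0 LD2_c40 LD3_c57)) :=
  Lre_e IH (LK LD1_c1 LD2_c28 LD3_c34) (LK LD1_c0 LD2_c40 LD3_c57) Lrfl Lrfl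
theorem f132989 : Led Lsl_dt (LP (LK LD1_c1 LD2_c28 LD3_c34)) = (LP (LK LD1_c3 LD2_c5 LD3_c0)) :=
  Lre_d IH (LK LD1_c1 LD2_c28 LD3_c34) (LK LD1_c3 LD2_c5 LD3_c0) Lrfl Lrfl
theorem f503110 : Led Lsl_gt (LP (LK LD1_c3 LD2_c5 LD3_c0)) = (LP (LK LD1_c6 LD2_c15 LD3_c52)) :=
  Lre_g IH (LK LD1_c3 LD2_c5 LD3_c0) (LK LD1_c6 LD2_c15 LD3_c52) Lrfl Lrfl
theorem f551624 : Led Lsl_dt (LP (LK LD1_c4 LD2_c32 LD3_c52)) = (LP (LK LD1_c6 LD2_c15 LD3_c52)) :=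
  Lgr Lrot37 (Lpr_et (f551616 IH) (Lpe (K37.f543967 IH) (Lpe (K37.f543900 IH) (Lpr_gt (K37.f112392 IH) (Lpe (K37.f112391 IH) (Lpr_et (K37.f112390 IH) (Lpr_gt (K4.f58961 IH) (Lpe (f132804 IH) (Lpr_dt (f132989 IH) (Lpr_gt (f503110 IH) (Lpn (LP (LK LD1_c6 LD2_c15 LD3_c52)))))))))))))
theorem f495260 : Led Lsl_dt (LP (LK LD1_c4 LD2_c32 LD3_c51)) = (LP (LK LD1_c2 LD2_c13 LD3_c25)) :=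
  Lre_d IH (LK LD1_c4 LD2_c32 LD3_c51) (LK LD1_c2 LD2_c13 LD3_c25) Lrfl Lrfl
theorem f551634 : Led Lsl_ff (LP (LK LD1_c4 LD2_c32 LD3_c51)) = (LP (LK LD1_c6 LD2_c15 LD3_c52)) :=
  Lgr Lrot19 (Lpr_dt (f495260 IH) (Lpr_ft (K38.f551601 IH) (Lpr_dt (f551624 IH) (Lpn (LP (LK LD1_c6 LD2_c15 LD3_c52))))))
theorem f551642 : Led Lsl_ft (LP (LK LD1_c4 LD2_c32 LD3_c51)) = (LP (LK LD1_c6 LD2_c15 LD3_c52)) :=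
  Lgr Lrot48 (Lpr_ff (f551634 IH) (Lpn (LP (LK LD1_c6 LD2_c15 LD3_c52))))
theorem f551602 : Led Lsl_ft (LP (LK LD1_c4 LD2_c32 LD3_c52)) = (LP (LK LD1_c2 LD2_c13 LD3_c25)) :=
  Lre_f IH (LK LD1_c4 LD2_c32 LD3_c52) (LK LD1_c2 LD2_c13 LD3_c25) Lrfl Lrfl
theorem f269101 : Led Lsl_et (LP (LK LD1_c1 LD2_c19 LD3_c53)) = (LP (LK LD1_c0 LD2_c36 LD3_c59)) :=
  Lre_e IH (LK LD1_c1 LD2_c19 LD3_c53) (LK LD1_c0 LD2_c36 LD3_c59) Lrfl Lrfl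
theorem f495823 : Led Lsl_af (LP (LK LD1_c1 LD2_c19 LD3_c53)) = v1488 :=
  Lgr Lrot50 (Lpr_et (f269101 IH) (Lpr_at (K16.f269066 IH) (Lpr_et (f495822 IH) (Lpn v1488))))
theorem f551603 : Led Lsl_af (LP (LK LD1_c4 LD2_c32 LD3_c52)) = (LP (LK LD1_c2 LD2_c46 LD3_c61)) :=
  Lgr Lrot45 (Lpr_ft (f551602 IH) (Lpq (f551596 IH) (Lpe (f495823 IH) (Lpr_ft (K16.f269075 IH) (Lpn (LP (LK LD1_c2 LD2_c46 LD3_c61)))))))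
theorem f181596 : Led Lsl_dt (LP (LK LD1_c5 LD2_c42 LD3_c1)) = (LP (LK LD1_c2 LD2_c46 LD3_c61)) :=
  Lre_d IH (LK LD1_c5 LD2_c42 LD3_c1) (LK LD1_c2 LD2_c46 LD3_c61) Lrfl Lrfl
theorem f551626 : Led Lsl_af (LP (LK LD1_c5 LD2_c42 LD3_c1)) = (LP (LK LD1_c6 LD2_c15 LD3_c52)) :=
  Lgr Lrot117 (Lpr_dt (f181596 IH) (Lpe (f551603 IH) (Lpr_dt (f551624 IH) (Lpn (LP (LK LD1_c6 LD2_c15 LD3_c52))))))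
theorem f551649 : Led Lsl_gt (LP (LK LD1_c4 LD2_c42 LD3_c55)) = (LP (LK LD1_c5 LD2_c42 LD3_c1)) :=
  Lgr Lrot46 (Lpr_gf (f551585 IH) (Lpr_ft (f551642 IH) (Lpe (f551626 IH) (Lpn (LP (LK LD1_c5 LD2_c42 LD3_c1))))))
theorem f269095 : Led Lsl_dt (LP (LK LD1_c2 LD2_c46 LD3_c61)) = (LP (LK LD1_c5 LD2_c42 LD3_c1)) :=
  Lre_d IH (LK LD1_c2 LD2_c46 LD3_c61) (LK LD1_c5 LD2_c42 LD3_c1) Lrfl Lrfl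
theorem f551653 : Led Lsl_gf (LP (LK LD1_c2 LD2_c53 LD3_c48)) = (LP (LK LD1_c4 LD2_c32 LD3_c42)) :=
  Lgr Lrot138 (Lpr_dt (K37.f71112 IH) (Lpr_gt (K37.f202252 IH) (Lpe (K11.f202251 IH) (Lpr_et (K11.f202218 IH) (Lpe (K11.f202241 IH) (Lpe (K6.f104820 IH) (Lpr_dt (K6.f104821 IH) (Lpr_gt (f551649 IH) (Lpe (f269095 IH) (Lpr_et (K16.f269078 IH) (Lpn (LP (LK LD1_c4 LD2_c32 LD3_c42)))))))))))))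
theorem f202276 : Led Lsl_ct (LP (LK LD1_c2 LD2_c53 LD3_c48)) = (LP (LK LD1_c5 LD2_c54 LD3_c52)) :=
  Lre_c IH (LK LD1_c2 LD2_c53 LD3_c48) (LK LD1_c5 LD2_c54 LD3_c52) Lrfl Lrfl
theorem f120638 : Led Lsl_dt (LP (LK LD1_c6 LD2_c43 LD3_c20)) = (LP (LK LD1_c3 LD2_c46 LD3_c61)) :=
  Lgr Lrot42 (Lpr_df (K8.f120634 IH) (Lpn (LP (LK LD1_c3 LD2_c46 LD3_c61))))
theorem f160383 : Led Lsl_dt (LP (LK LD1_c7 LD2_c14 LD3_c5)) = (LP (LK LD1_c3 LD2_c36 LD3_c56)) :=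
  Lre_d IH (LK LD1_c7 LD2_c14 LD3_c5) (LK LD1_c3 LD2_c36 LD3_c56) Lrfl Lrfl
theorem f548898 : Led Lsl_gt (LP (LK LD1_c5 LD2_c14 LD3_c0)) = (LP (LK LD1_c7 LD2_c14 LD3_c5)) :=
  Lgr Lrot49 (Lpr_df (K38.f548884 IH) (Lpe (K6.f18026 IH) (Lpe (K6.f97502 IH) (Lpr_gt (K3.f95330 IH) (Lpr_dt (K3.f97508 IH) (Lpe (K7.f136004 IH) (Lpr_dt (f120638 IH) (Lpr_cf (K8.f162821 IH) (Lpe (f160383 IH) (Lpn (LP (LK LD1_c7 LD2_c14 LD3_c5))))))))))))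
theorem f551657 : Led Lsl_ct (LP (LK LD1_c7 LD2_c14 LD3_c5)) = (LP (LK LD1_c4 LD2_c32 LD3_c42)) :=
  Lgr Lrot152 (Lpe (f548898 IH) (Lpr_df (K38.f548884 IH) (Lpe (K8.f121850 IH) (Lpr_ct (K28.f121887 IH) (Lpr_gt (K28.f136970 IH) (Lpr_ct (K28.f109059 IH) (Lpr_df (K38.f546834 IH) (Lpe (f202276 IH) (Lpr_gf (f551653 IH) (Lpn (LP (LK LD1_c4 LD2_c32 LD3_c42))))))))))))
theorem f551668 : Led Lsl_ff (LP (LK LD1_c7 LD2_c14 LD3_c5)) = (LP (LK LD1_c4 LD2_c32 LD3_c34)) :=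
  Lgr Lrot23 (Lpr_ct (f551657 IH) (Lpr_ft (K16.f269077 IH) (Lpr_ct (K37.f181332 IH) (Lpn (LP (LK LD1_c4 LD2_c32 LD3_c34))))))
theorem f128235 : Led Lsl_at (LP (LK LD1_c7 LD2_c14 LD3_c5)) = (LP (LK LD1_c3 LD2_c36 LD3_c57)) :=
  Lre_a IH (LK LD1_c7 LD2_c14 LD3_c5) (LK LD1_c3 LD2_c36 LD3_c57) Lrfl Lrfl
theorem f551676 : Led Lsl_gf (LP (LK LD1_c7 LD2_c14 LD3_c7)) = (LP (LK LD1_c4 LD2_c32 LD3_c34)) :=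
  Lgr Lrot47 (Lpr_gt (K33.f93111 IH) (Lpe (f128235 IH) (Lpr_ff (f551668 IH) (Lpn (LP (LK LD1_c4 LD2_c32 LD3_c34))))))
theorem f202198 : Led Lsl_ft (LP (LK LD1_c2 LD2_c18 LD3_c45)) = (LP (LK LD1_c1 LD2_c28 LD3_c8)) :=
  Lgr Lrot54 (Lpe (K11.f104878 IH) (Lpr_ff (K11.f202192 IH) (Lpe (K32.f202189 IH) (Lpn (LP (LK LD1_c1 LD2_c28 LD3_c8))))))
theorem f157840 : Led Lsl_dt (LP (LK LD1_c3 LD2_c57 LD3_c59)) = (LP (LK LD1_c2 LD2_c49 LD3_c40)) :=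
  Lgr Lrot42 (Lpr_df (K8.f157824 IH) (Lpn (LP (LK LD1_c2 LD2_c49 LD3_c40))))
theorem f207734 : Led Lsl_ft (LP (LK LD1_c2 LD2_c49 LD3_c40)) = (LP (LK LD1_c3 LD2_c4 LD3_c0)) :=
  Lgr Lrot54 (Lpe (f157840 IH) (Lpr_ff (K24.f207732 IH) (Lpe (K8.f149207 IH) (Lpn (LP (LK LD1_c3 LD2_c4 LD3_c0))))))
theorem f209188 : Led Lsl_ff (LP (LK LD1_c2 LD2_c49 LD3_c40)) = (LP (LK LD1_c3 LD2_c4 LD3_c0)) :=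
  Lgr Lrot3 (Lpr_ft (f207734 IH) (Lpn (LP (LK LD1_c3 LD2_c4 LD3_c0))))
theorem f546573 : Led Lsl_et (LP (LK LD1_c3 LD2_c33 LD3_c41)) = (LP (LK LD1_c3 LD2_c4 LD3_c0)) :=
  Lgr Lrot69 (Lpr_ff (K37.f519731 IH) (Lpq (K37.f543803 IH) (Lpe (K37.f202190 IH) (Lpe (f202198 IH) (Lpr_ef (K38.f546565 IH) (Lpr_ff (f209188 IH) (Lpn (LP (LK LD1_c3 LD2_c4 LD3_c0)))))))))
theorem f56481 : Led Lsl_et (LP (LK LD1_c3 LD2_c4 LD3_c3)) = (LP (LK LD1_c1 LD2_c28 LD3_c3)) :=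
  Lre_e IH (LK LD1_c3 LD2_c4 LD3_c3) (LK LD1_c1 LD2_c28 LD3_c3) Lrfl Lrfl
theorem f60879 : Led Lsl_dt (LP (LK LD1_c3 LD2_c4 LD3_c3)) = (LP (LK LD1_c6 LD2_c14 LD3_c20)) :=
  Lre_d IH (LK LD1_c3 LD2_c4 LD3_c3) (LK LD1_c6 LD2_c14 LD3_c20) Lrfl Lrfl
theorem f181398 : Led Lsl_et (LP (LK LD1_c2 LD2_c13 LD3_c18)) = (LP (LK LD1_c4 LD2_c32 LD3_c34)) :=
  Lre_e IH (LK LD1_c2 LD2_c13 LD3_c18) (LK LD1_c4 LD2_c32 LD3_c34) Lrfl Lrfl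
theorem f551681 : Led Lsl_gt (LP (LK LD1_c6 LD2_c14 LD3_c20)) = (LP (LK LD1_c4 LD2_c32 LD3_c33)) :=
  Lgr Lrot112 (Lpe (f60879 IH) (Lpr_et (f56481 IH) (Lpe (K4.f37226 IH) (Lpe (f546573 IH) (Lpe (K37.f441965 IH) (Lpe (K2.f92340 IH) (Lpe (K37.f522544 IH) (Lpr_gf (f551676 IH) (Lpe (f181398 IH) (Lpr_dt (K31.f181359 IH) (Lpn (LP (LK LD1_c4 LD2_c32 LD3_c33)))))))))))))
theorem f60509 : Led Lsl_bt (LP (LK LD1_c3 LD2_c4 LD3_c5)) = (LP (LK LD1_c6 LD2_c14 LD3_c20)) :=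
  Lre_b IH (LK LD1_c3 LD2_c4 LD3_c5) (LK LD1_c6 LD2_c14 LD3_c20) Lrfl Lrfl
theorem f551695 : Led Lsl_bf (LP (LK LD1_c6 LD2_c14 LD3_c2)) = (LP (LK LD1_c4 LD2_c22 LD3_c57)) :=
  Lgr Lrot165 (Lpr_gt (K10.f193700 IH) (Lpr_ct (K13.f80982 IH) (Lpe (K13.f193770 IH) (Lpe (K1.f60450 IH) (Lpr_bt (f60509 IH) (Lpr_gt (f551681 IH) (Lpr_bf (K16.f181345 IH) (Lpr_ct (K13.f229410 IH) (Lpr_gt (K13.f239114 IH) (Lpe (K13.f239093 IH) (Lpn (LP (LK LD1_c4 LD2_c22 LD3_c57)))))))))))))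
theorem f346668 : Led Lsl_ff (LP (LK LD1_c4 LD2_c22 LD3_c57)) = (LP (LK LD1_c4 LD2_c22 LD3_c28)) :=
  Lgr Lrot23 (Lpr_ct (K13.f239093 IH) (Lpr_ft (K23.f346662 IH) (Lpr_ct (K13.f238803 IH) (Lpn (LP (LK LD1_c4 LD2_c22 LD3_c28))))))
theorem f551708 : Led Lsl_bt (LP (LK LD1_c3 LD2_c3 LD3_c51)) = (LP (LK LD1_c4 LD2_c22 LD3_c28)) :=
  Lgr Lrot35 (Lpe (K2.f37249 IH) (Lpr_bf (f551695 IH) (Lpr_ff (f346668 IH) (Lpn (LP (LK LD1_c4 LD2_c22 LD3_c28))))))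
theorem f181606 : Led Lsl_bf (LP (LK LD1_c5 LD2_c41 LD3_c45)) = (LP (LK LD1_c4 LD2_c23 LD3_c10)) :=
  Lgr Lrot24 (Lpr_bt (K16.f181584 IH) (Lpn (LP (LK LD1_c4 LD2_c23 LD3_c10))))
theorem f238840 : Led Lsl_bt (LP (LK LD1_c4 LD2_c19 LD3_c20)) = (LP (LK LD1_c8 LD2_c37 LD3_c0)) :=
  Lre_b IH (LK LD1_c4 LD2_c19 LD3_c20) (LK LD1_c8 LD2_c37 LD3_c0) Lrfl Lrfl
theorem f551743 : Led Lsl_gf (LP (LK LD1_c5 LD2_c41 LD3_c45)) = (LP (LK LD1_c8 LD2_c37 LD3_c0)) :=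
  Lgr Lrot124 (Lpr_bf (f181606 IH) (Lpr_ct (K10.f80607 IH) (Lpr_gt (K10.f197840 IH) (Lpe (K13.f37235 IH) (Lpr_bt (f551708 IH) (Lpe (K13.f238820 IH) (Lpr_ct (K13.f172763 IH) (Lpr_gt (K13.f238834 IH) (Lpe (K13.f211159 IH) (Lpr_bt (f238840 IH) (Lpn (LP (LK LD1_c8 LD2_c37 LD3_c0)))))))))))))
theorem f175999 : Led Lsl_ct (LP (LK LD1_c9 LD2_c4 LD3_c39)) = (LP (LK LD1_c4 LD2_c33 LD3_c32)) :=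
  Lre_c IH (LK LD1_c9 LD2_c4 LD3_c39) (LK LD1_c4 LD2_c33 LD3_c32) Lrfl Lrfl
theorem f176000 : Led Lsl_dt (LP (LK LD1_c16 LD2_c56 LD3_c21)) = (LP (LK LD1_c9 LD2_c4 LD3_c39)) :=
  Lre_d IH (LK LD1_c16 LD2_c56 LD3_c21) (LK LD1_c9 LD2_c4 LD3_c39) Lrfl Lrfl
theorem f172610 : Led Lsl_dt (LP (LK LD1_c5 LD2_c45 LD3_c11)) = (LP (LK LD1_c2 LD2_c48 LD3_c22)) :=
  Lre_d IH (LK LD1_c5 LD2_c45 LD3_c11) (LK LD1_c2 LD2_c48 LD3_c22) Lrfl Lrfl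
theorem f172611 : Led Lsl_ct (LP (LK LD1_c11 LD2_c20 LD3_c53)) = (LP (LK LD1_c5 LD2_c45 LD3_c11)) :=
  Lre_c IH (LK LD1_c11 LD2_c20 LD3_c53) (LK LD1_c5 LD2_c45 LD3_c11) Lrfl Lrfl
theorem f547803 : Led Lsl_df (LP (LK LD1_c11 LD2_c13 LD3_c22)) = (LP (LK LD1_c6 LD2_c14 LD3_c19)) :=
  Lgr Lrot43 (Lpr_ct (K31.f411685 IH) (Lpr_dt (K31.f385610 IH) (Lpr_ct (f172611 IH) (Lpr_dt (f172610 IH) (Lpr_ct (K31.f172609 IH) (Lpe (K30.f172598 IH) (Lpr_ct (K38.f172608 IH) (Lpe (K30.f210417 IH) (Lpr_ct (K31.f210428 IH) (Lpr_dt (K37.f210429 IH) (Lpr_ct (K30.f385563 IH) (Lpr_dt (f176000 IH) (Lpr_ct (f175999 IH) (Lpe (K18.f175991 IH) (Lpr_ct (K35.f547795 IH) (Lpn (LP (LK LD1_c6 LD2_c14 LD3_c19))))))))))))))))))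
theorem f175965 : Led Lsl_at (LP (LK LD1_c11 LD2_c57 LD3_c38)) = (LP (LK LD1_c6 LD2_c7 LD3_c39)) :=
  Lre_a IH (LK LD1_c11 LD2_c57 LD3_c38) (LK LD1_c6 LD2_c7 LD3_c39) Lrfl Lrfl
theorem f175967 : Led Lsl_df (LP (LK LD1_c11 LD2_c57 LD3_c38)) = (LP (LK LD1_c9 LD2_c4 LD3_c40)) :=
  Lgr Lrot18 (Lpr_at (f175965 IH) (Lpr_dt (K18.f175962 IH) (Lpr_at (K18.f175966 IH) (Lpn (LP (LK LD1_c9 LD2_c4 LD3_c40))))))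
theorem f175994 : Led Lsl_et (LP (LK LD1_c11 LD2_c57 LD3_c38)) = (LP (LK LD1_c6 LD2_c7 LD3_c33)) :=
  Lre_e IH (LK LD1_c11 LD2_c57 LD3_c38) (LK LD1_c6 LD2_c7 LD3_c33) Lrfl Lrfl
theorem f175995 : Led Lsl_dt (LP (LK LD1_c6 LD2_c7 LD3_c33)) = (LP (LK LD1_c2 LD2_c59 LD3_c58)) :=
  Lre_d IH (LK LD1_c6 LD2_c7 LD3_c33) (LK LD1_c2 LD2_c59 LD3_c58) Lrfl Lrfl
theorem f175996 : Led Lsl_ef (LP (LK LD1_c3 LD2_c58 LD3_c55)) = (LP (LK LD1_c2 LD2_c59 LD3_c58)) :=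
  Lgr Lrot73 (Lpr_dt (K18.f175982 IH) (Lpr_et (K18.f175993 IH) (Lpe (f175967 IH) (Lpr_et (f175994 IH) (Lpr_dt (f175995 IH) (Lpn (LP (LK LD1_c2 LD2_c59 LD3_c58))))))))
theorem f176003 : Led Lsl_ct (LP (LK LD1_c6 LD2_c7 LD3_c32)) = (LP (LK LD1_c2 LD2_c59 LD3_c58)) :=
  Lre_c IH (LK LD1_c6 LD2_c7 LD3_c32) (LK LD1_c2 LD2_c59 LD3_c58) Lrfl Lrfl
theorem f547805 : Led Lsl_ef (LP (LK LD1_c6 LD2_c7 LD3_c32)) = (LP (LK LD1_c6 LD2_c14 LD3_c19)) :=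
  Lgr Lrot28 (Lpr_ct (f176003 IH) (Lpe (f175996 IH) (Lpr_ct (K35.f547795 IH) (Lpn (LP (LK LD1_c6 LD2_c14 LD3_c19))))))
theorem f180198 : Led Lsl_dt (LP (LK LD1_c4 LD2_c19 LD3_c19)) = (LP (LK LD1_c8 LD2_c37 LD3_c0)) :=
  Lre_d IH (LK LD1_c4 LD2_c19 LD3_c19) (LK LD1_c8 LD2_c37 LD3_c0) Lrfl Lrfl
theorem f551751 : Led Lsl_gt (LP (LK LD1_c6 LD2_c7 LD3_c32)) = (LP (LK LD1_c4 LD2_c20 LD3_c4)) :=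
  Lgr Lrot131 (Lpr_ef (f547805 IH) (Lpe (f547803 IH) (Lpe (K31.f172538 IH) (Lpe (K31.f172502 IH) (Lpe (K31.f172508 IH) (Lpe (K10.f181573 IH) (Lpr_dt (K16.f181583 IH) (Lpr_gf (f551743 IH) (Lpe (f180198 IH) (Lpr_et (K12.f180131 IH) (Lpn (LP (LK LD1_c4 LD2_c20 LD3_c4)))))))))))))
theorem f176008 : Led Lsl_ct (LP (LK LD1_c2 LD2_c59 LD3_c58)) = (LP (LK LD1_c6 LD2_c7 LD3_c32)) :=
  Lre_c IH (LK LD1_c2 LD2_c59 LD3_c58) (LK LD1_c6 LD2_c7 LD3_c32) Lrfl Lrfl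
theorem f20522 : Led Lsl_bt (LP (LK LD1_c0 LD2_c34 LD3_c9)) = (LP (LK LD1_c1 LD2_c13 LD3_c44)) :=
  Lre_b IH (LK LD1_c0 LD2_c34 LD3_c9) (LK LD1_c1 LD2_c13 LD3_c44) Lrfl Lrfl
theorem f165514 : Led Lsl_gt (LP (LK LD1_c1 LD2_c13 LD3_c44)) = (LP (LK LD1_c2 LD2_c33 LD3_c35)) :=
  Lre_g IH (LK LD1_c1 LD2_c13 LD3_c44) (LK LD1_c2 LD2_c33 LD3_c35) Lrfl Lrfl
theorem f551755 : Led Lsl_bt (LP (LK LD1_c2 LD2_c59 LD3_c58)) = (LP (LK LD1_c2 LD2_c33 LD3_c35)) :=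
  Lgr Lrot92 (Lpr_ct (f176008 IH) (Lpr_gt (f551751 IH) (Lpe (K12.f225556 IH) (Lpr_bt (K12.f181089 IH) (Lpr_gt (K12.f186818 IH) (Lpr_ct (K10.f186813 IH) (Lpe (K12.f186833 IH) (Lpe (K10.f20481 IH) (Lpr_bt (f20522 IH) (Lpr_gt (f165514 IH) (Lpn (LP (LK LD1_c2 LD2_c33 LD3_c35)))))))))))))
theorem f176004 : Led Lsl_et (LP (LK LD1_c3 LD2_c58 LD3_c55)) = (LP (LK LD1_c2 LD2_c59 LD3_c58)) :=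
  Lgr Lrot87 (Lpr_ef (f175996 IH) (Lpn (LP (LK LD1_c2 LD2_c59 LD3_c58))))
theorem f551763 : Led Lsl_ef (LP (LK LD1_c2 LD2_c26 LD3_c20)) = (LP (LK LD1_c2 LD2_c33 LD3_c35)) :=
  Lgr Lrot29 (Lpe (K18.f297017 IH) (Lpr_et (f176004 IH) (Lpr_bt (f551755 IH) (Lpn (LP (LK LD1_c2 LD2_c33 LD3_c35))))))
theorem f308142 : Led Lsl_et (LP (LK LD1_c1 LD2_c12 LD3_c21)) = (LP (LK LD1_c2 LD2_c30 LD3_c42)) :=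
  Lre_e IH (LK LD1_c1 LD2_c12 LD3_c21) (LK LD1_c2 LD2_c30 LD3_c42) Lrfl Lrfl
theorem f169806 : Led Lsl_gt (LP (LK LD1_c2 LD2_c30 LD3_c41)) = (LP (LK LD1_c5 LD2_c6 LD3_c48)) :=
  Lre_g IH (LK LD1_c2 LD2_c30 LD3_c41) (LK LD1_c5 LD2_c6 LD3_c48) Lrfl Lrfl
theorem f551771 : Led Lsl_df (LP (LK LD1_c5 LD2_c6 LD3_c48)) = (LP (LK LD1_c2 LD2_c33 LD3_c35)) :=
  Lgr Lrot168 (Lpe (f169806 IH) (Lpe (K19.f308130 IH) (Lpr_et (f308142 IH) (Lpqs (K38.f546908 IH) (Lpe (K38.f495844 IH) (Lpe (K37.f412034 IH) (Lpr_dt (K38.f172500 IH) (Lpe (K36.f172746 IH) (Lpe (K38.f549518 IH) (Lpe (K38.f547819 IH) (Lpr_ef (f551763 IH) (Lpn (LP (LK LD1_c2 LD2_c33 LD3_c35))))))))))))))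
theorem f308091 : Led Lsl_at (LP (LK LD1_c2 LD2_c33 LD3_c47)) = (LP (LK LD1_c5 LD2_c13 LD3_c45)) :=
  Lre_a IH (LK LD1_c2 LD2_c33 LD3_c47) (LK LD1_c5 LD2_c13 LD3_c45) Lrfl Lrfl
theorem f308133 : Led Lsl_gf (LP (LK LD1_c5 LD2_c13 LD3_c45)) = (LP (LK LD1_c5 LD2_c6 LD3_c48)) :=
  Lgr Lrot76 (Lpe (f308091 IH) (Lpr_ff (K19.f308126 IH) (Lpr_gt (f169806 IH) (Lpn (LP (LK LD1_c5 LD2_c6 LD3_c48))))))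
theorem f551773 : Led Lsl_ef (LP (LK LD1_c2 LD2_c14 LD3_c58)) = (LP (LK LD1_c2 LD2_c33 LD3_c46)) :=
  Lgr Lrot167 (Lpr_gt (K38.f34908 IH) (Lpr_dt (K36.f34964 IH) (Lpr_gt (K36.f35189 IH) (Lpr_df (K36.f547821 IH) (Lpr_et (K36.f59925 IH) (Lpe (K35.f547815 IH) (Lpr_ef (f551763 IH) (Lpe (f551771 IH) (Lpe (f308133 IH) (Lpe (K19.f308088 IH) (Lpn (LP (LK LD1_c2 LD2_c33 LD3_c46)))))))))))))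
theorem f551784 : Led Lsl_et (LP (LK LD1_c2 LD2_c14 LD3_c58)) = (LP (LK LD1_c2 LD2_c33 LD3_c46)) :=
  Lgr Lrot87 (Lpr_ef (f551773 IH) (Lpn (LP (LK LD1_c2 LD2_c33 LD3_c46))))
theorem f34909 : Led Lsl_dt (LP (LK LD1_c2 LD2_c14 LD3_c58)) = (LP (LK LD1_c4 LD2_c35 LD3_c36)) :=
  Lre_d IH (LK LD1_c2 LD2_c14 LD3_c58) (LK LD1_c4 LD2_c35 LD3_c36) Lrfl Lrfl
theorem f551795 : Led Lsl_gf (LP (LK LD1_c4 LD2_c35 LD3_c36)) = (LP (LK LD1_c4 LD2_c39 LD3_c44)) :=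
  Lgr Lrot134 (Lpe (f34909 IH) (Lpr_et (f551784 IH) (Lpr_gt (K38.f495339 IH) (Lpq (K38.f542384 IH) (Lpq (K35.f538315 IH) (Lpe (K35.f494428 IH) (Lpr_dt (K6.f141300 IH) (Lpr_gt (K8.f157164 IH) (Lpe (K8.f60956 IH) (Lpr_et (K28.f56184 IH) (Lpr_gt (K38.f8405 IH) (Lpr_dt (K36.f56209 IH) (Lpn (LP (LK LD1_c4 LD2_c39 LD3_c44)))))))))))))))
theorem f551797 : Led Lsl_et (LP (LK LD1_c2 LD2_c16 LD3_c53)) = (LP (LK LD1_c2 LD2_c44 LD3_c30)) :=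
  Lgr Lrot122 (Lpr_dt (K36.f56209 IH) (Lpe (f551795 IH) (Lpe (f34909 IH) (Lpr_et (f551784 IH) (Lpr_gt (K38.f495339 IH) (Lpq (K38.f542384 IH) (Lpr_dt (K38.f211644 IH) (Lpr_gt (K38.f546497 IH) (Lpe (K38.f164803 IH) (Lpe (K11.f164743 IH) (Lpr_gt (K38.f164847 IH) (Lpn (LP (LK LD1_c2 LD2_c44 LD3_c30))))))))))))))
theorem f547368 : Led Lsl_ct (LP (LK LD1_c2 LD2_c44 LD3_c30)) = (LP (LK LD1_c5 LD2_c37 LD3_c11)) :=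
  Lre_c IH (LK LD1_c2 LD2_c44 LD3_c30) (LK LD1_c5 LD2_c37 LD3_c11) Lrfl Lrfl
theorem f551799 : Led Lsl_ef (LP (LK LD1_c4 LD2_c39 LD3_c43)) = (LP (LK LD1_c5 LD2_c37 LD3_c11)) :=
  Lgr Lrot28 (Lpr_ct (K38.f56254 IH) (Lpr_et (f551797 IH) (Lpr_ct (f547368 IH) (Lpn (LP (LK LD1_c5 LD2_c37 LD3_c11))))))
theorem f551808 : Led Lsl_at (LP (LK LD1_c6 LD2_c9 LD3_c5)) = (LP (LK LD1_c5 LD2_c37 LD3_c11)) :=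
  Lgr Lrot80 (Lpr_ef (K38.f212082 IH) (Lpr_af (K36.f542797 IH) (Lpr_ef (f551799 IH) (Lpn (LP (LK LD1_c5 LD2_c37 LD3_c11))))))
theorem f551819 : Led Lsl_gt (LP (LK LD1_c8 LD2_c43 LD3_c23)) = (LP (LK LD1_c5 LD2_c37 LD3_c11)) :=
  Lgr Lrot46 (Lpe (K38.f547731 IH) (Lpe (K38.f547316 IH) (Lpr_at (f551808 IH) (Lpn (LP (LK LD1_c5 LD2_c37 LD3_c11))))))
theorem f547743 : Led Lsl_ft (LP (LK LD1_c4 LD2_c23 LD3_c55)) = (LP (LK LD1_c8 LD2_c43 LD3_c23)) :=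
  Lgr Lrot48 (Lpr_ff (K38.f547739 IH) (Lpn (LP (LK LD1_c8 LD2_c43 LD3_c23))))
theorem f547745 : Led Lsl_af (LP (LK LD1_c6 LD2_c24 LD3_c36)) = (LP (LK LD1_c8 LD2_c43 LD3_c23)) :=
  Lgr Lrot45 (Lpr_ft (K38.f117610 IH) (Lpr_at (K38.f117631 IH) (Lpr_ft (f547743 IH) (Lpn (LP (LK LD1_c8 LD2_c43 LD3_c23))))))
theorem f544915 : Led Lsl_cf (LP (LK LD1_c4 LD2_c31 LD3_c41)) = (LP (LK LD1_c6 LD2_c24 LD3_c36)) :=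
  Lgr Lrot11 (Lpr_ct (K38.f544910 IH) (Lpn (LP (LK LD1_c6 LD2_c24 LD3_c36))))
theorem f544918 : Led Lsl_at (LP (LK LD1_c4 LD2_c31 LD3_c41)) = (LP (LK LD1_c9 LD2_c1 LD3_c20)) :=
  Lre_a IH (LK LD1_c4 LD2_c31 LD3_c41) (LK LD1_c9 LD2_c1 LD3_c20) Lrfl Lrfl
theorem f547747 : Led Lsl_ct (LP (LK LD1_c9 LD2_c1 LD3_c20)) = (LP (LK LD1_c8 LD2_c43 LD3_c23)) :=
  Lgr Lrot111 (Lpe (f544918 IH) (Lpr_cf (f544915 IH) (Lpr_af (f547745 IH) (Lpn (LP (LK LD1_c8 LD2_c43 LD3_c23))))))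
theorem f547749 : Led Lsl_cf (LP (LK LD1_c9 LD2_c1 LD3_c20)) = (LP (LK LD1_c8 LD2_c43 LD3_c23)) :=
  Lgr Lrot11 (Lpr_ct (f547747 IH) (Lpn (LP (LK LD1_c8 LD2_c43 LD3_c23))))
theorem f547402 : Led Lsl_dt (LP (LK LD1_c5 LD2_c37 LD3_c11)) = (LP (LK LD1_c11 LD2_c6 LD3_c17)) :=
  Lre_d IH (LK LD1_c5 LD2_c37 LD3_c11) (LK LD1_c11 LD2_c6 LD3_c17) Lrfl Lrfl
theorem f56245 : Led Lsl_ct (LP (LK LD1_c2 LD2_c16 LD3_c54)) = (LP (LK LD1_c4 LD2_c39 LD3_c46)) :=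
  Lre_c IH (LK LD1_c2 LD2_c16 LD3_c54) (LK LD1_c4 LD2_c39 LD3_c46) Lrfl Lrfl
theorem f542659 : Led Lsl_ff (LP (LK LD1_c5 LD2_c12 LD3_c27)) = (LP (LK LD1_c4 LD2_c39 LD3_c46)) :=
  Lgr Lrot23 (Lpr_ct (K36.f212068 IH) (Lpr_ft (K36.f495324 IH) (Lpqs (K36.f542648 IH) (Lpr_ct (f56245 IH) (Lpn (LP (LK LD1_c4 LD2_c39 LD3_c46)))))))
theorem f542800 : Led Lsl_at (LP (LK LD1_c5 LD2_c12 LD3_c27)) = (LP (LK LD1_c4 LD2_c39 LD3_c43)) :=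
  Lgr Lrot100 (Lpr_af (K36.f542797 IH) (Lpn (LP (LK LD1_c4 LD2_c39 LD3_c43))))
theorem f542887 : Led Lsl_gt (LP (LK LD1_c6 LD2_c24 LD3_c46)) = (LP (LK LD1_c4 LD2_c39 LD3_c43)) :=
  Lgr Lrot46 (Lpr_gf (K37.f542885 IH) (Lpe (f542659 IH) (Lpr_at (f542800 IH) (Lpn (LP (LK LD1_c4 LD2_c39 LD3_c43))))))
theorem f551575 : Led Lsl_ef (LP (LK LD1_c2 LD2_c51 LD3_c46)) = (LP (LK LD1_c5 LD2_c40 LD3_c19)) :=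
  Lgr Lrot29 (Lpe (K8.f149011 IH) (Lpr_et (f551573 IH) (Lpr_bt (K37.f181269 IH) (Lpn (LP (LK LD1_c5 LD2_c40 LD3_c19))))))
theorem f181296 : Led Lsl_dt (LP (LK LD1_c5 LD2_c40 LD3_c19)) = (LP (LK LD1_c11 LD2_c11 LD3_c18)) :=
  Lre_d IH (LK LD1_c5 LD2_c40 LD3_c19) (LK LD1_c11 LD2_c11 LD3_c18) Lrfl Lrfl
theorem f551813 : Led Lsl_gf (LP (LK LD1_c11 LD2_c11 LD3_c18)) = (LP (LK LD1_c11 LD2_c6 LD3_c17)) :=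
  Lgr Lrot145 (Lpe (f181296 IH) (Lpe (f551575 IH) (Lpe (K7.f149001 IH) (Lpr_dt (K7.f141258 IH) (Lpe (K37.f542893 IH) (Lpe (K37.f149622 IH) (Lpr_et (K37.f542890 IH) (Lpr_gt (f542887 IH) (Lpr_ef (f551799 IH) (Lpr_dt (f547402 IH) (Lpn (LP (LK LD1_c11 LD2_c6 LD3_c17)))))))))))))
theorem f181307 : Led Lsl_dt (LP (LK LD1_c11 LD2_c11 LD3_c18)) = (LP (LK LD1_c5 LD2_c40 LD3_c19)) :=
  Lre_d IH (LK LD1_c11 LD2_c11 LD3_c18) (LK LD1_c5 LD2_c40 LD3_c19) Lrfl Lrfl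
theorem f181311 : Led Lsl_ct (LP (LK LD1_c2 LD2_c46 LD3_c7)) = (LP (LK LD1_c5 LD2_c40 LD3_c19)) :=
  Lre_c IH (LK LD1_c2 LD2_c46 LD3_c7) (LK LD1_c5 LD2_c40 LD3_c19) Lrfl Lrfl
theorem f423068 : Led Lsl_bt (LP (LK LD1_c2 LD2_c44 LD3_c61)) = (LP (LK LD1_c5 LD2_c38 LD3_c11)) :=
  Lre_b IH (LK LD1_c2 LD2_c44 LD3_c61) (LK LD1_c5 LD2_c38 LD3_c11) Lrfl Lrfl
theorem f423194 : Led Lsl_df (LP (LK LD1_c2 LD2_c46 LD3_c7)) = (LP (LK LD1_c5 LD2_c38 LD3_c11)) :=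
  Lgr Lrot12 (Lpr_bt (K37.f181267 IH) (Lpr_dt (K31.f423188 IH) (Lpr_bt (f423068 IH) (Lpn (LP (LK LD1_c5 LD2_c38 LD3_c11))))))
theorem f424130 : Led Lsl_dt (LP (LK LD1_c8 LD2_c44 LD3_c19)) = (LP (LK LD1_c16 LD2_c21 LD3_c40)) :=
  Lre_d IH (LK LD1_c8 LD2_c44 LD3_c19) (LK LD1_c16 LD2_c21 LD3_c40) Lrfl Lrfl
theorem f424131 : Led Lsl_bf (LP (LK LD1_c11 LD2_c7 LD3_c31)) = (LP (LK LD1_c16 LD2_c21 LD3_c40)) :=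
  Lgr Lrot93 (Lpr_dt (K31.f424092 IH) (Lpr_bt (K31.f424124 IH) (Lpr_dt (f424130 IH) (Lpn (LP (LK LD1_c16 LD2_c21 LD3_c40))))))
theorem f424094 : Led Lsl_et (LP (LK LD1_c11 LD2_c7 LD3_c31)) = (LP (LK LD1_c20 LD2_c0 LD3_c55)) :=
  Lre_e IH (LK LD1_c11 LD2_c7 LD3_c31) (LK LD1_c20 LD2_c0 LD3_c55) Lrfl Lrfl
theorem f424154 : Led Lsl_et (LP (LK LD1_c26 LD2_c19 LD3_c43)) = (LP (LK LD1_c16 LD2_c21 LD3_c40)) :=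
  Lre_e IH (LK LD1_c26 LD2_c19 LD3_c43) (LK LD1_c16 LD2_c21 LD3_c40) Lrfl Lrfl
theorem f424160 : Led Lsl_bt (LP (LK LD1_c20 LD2_c0 LD3_c55)) = (LP (LK LD1_c26 LD2_c19 LD3_c43)) :=
  Lgr Lrot119 (Lpe (f424094 IH) (Lpr_bf (f424131 IH) (Lpe (f424154 IH) (Lpn (LP (LK LD1_c26 LD2_c19 LD3_c43))))))
theorem f424164 : Led Lsl_bf (LP (LK LD1_c20 LD2_c0 LD3_c55)) = (LP (LK LD1_c26 LD2_c19 LD3_c43)) :=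
  Lgr Lrot24 (Lpr_bt (f424160 IH) (Lpn (LP (LK LD1_c26 LD2_c19 LD3_c43))))
theorem f422882 : Led Lsl_at (LP (LK LD1_c20 LD2_c0 LD3_c55)) = (LP (LK LD1_c11 LD2_c7 LD3_c32)) :=
  Lre_a IH (LK LD1_c20 LD2_c0 LD3_c55) (LK LD1_c11 LD2_c7 LD3_c32) Lrfl Lrfl
theorem f422873 : Led Lsl_bt (LP (LK LD1_c11 LD2_c7 LD3_c32)) = (LP (LK LD1_c5 LD2_c38 LD3_c10)) :=
  Lre_b IH (LK LD1_c11 LD2_c7 LD3_c32) (LK LD1_c5 LD2_c38 LD3_c10) Lrfl Lrfl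
theorem f423001 : Led Lsl_af (LP (LK LD1_c9 LD2_c1 LD3_c27)) = (LP (LK LD1_c5 LD2_c38 LD3_c10)) :=
  Lgr Lrot0 (Lpr_at (K31.f422999 IH) (Lpn (LP (LK LD1_c5 LD2_c38 LD3_c10))))
theorem f174786 : Led Lsl_bt (LP (LK LD1_c9 LD2_c1 LD3_c27)) = (LP (LK LD1_c16 LD2_c51 LD3_c23)) :=
  Lre_b IH (LK LD1_c9 LD2_c1 LD3_c27) (LK LD1_c16 LD2_c51 LD3_c23) Lrfl Lrfl
theorem f424166 : Led Lsl_at (LP (LK LD1_c16 LD2_c51 LD3_c23)) = (LP (LK LD1_c26 LD2_c19 LD3_c43)) :=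
  Lgr Lrot67 (Lpe (f174786 IH) (Lpr_af (f423001 IH) (Lpe (f422873 IH) (Lpe (f422882 IH) (Lpr_bf (f424164 IH) (Lpn (LP (LK LD1_c26 LD2_c19 LD3_c43))))))))
theorem f174793 : Led Lsl_et (LP (LK LD1_c9 LD2_c1 LD3_c25)) = (LP (LK LD1_c16 LD2_c51 LD3_c23)) :=
  Lre_e IH (LK LD1_c9 LD2_c1 LD3_c25) (LK LD1_c16 LD2_c51 LD3_c23) Lrfl Lrfl
theorem f424168 : Led Lsl_af (LP (LK LD1_c9 LD2_c1 LD3_c25)) = (LP (LK LD1_c16 LD2_c21 LD3_c40)) :=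
  Lgr Lrot50 (Lpr_et (f174793 IH) (Lpr_at (f424166 IH) (Lpr_et (f424154 IH) (Lpn (LP (LK LD1_c16 LD2_c21 LD3_c40))))))
theorem f174759 : Led Lsl_bt (LP (LK LD1_c4 LD2_c31 LD3_c45)) = (LP (LK LD1_c9 LD2_c1 LD3_c25)) :=
  Lre_b IH (LK LD1_c4 LD2_c31 LD3_c45) (LK LD1_c9 LD2_c1 LD3_c25) Lrfl Lrfl
theorem f172346 : Led Lsl_bt (LP (LK LD1_c5 LD2_c38 LD3_c11)) = (LP (LK LD1_c2 LD2_c44 LD3_c61)) :=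
  Lre_b IH (LK LD1_c5 LD2_c38 LD3_c11) (LK LD1_c2 LD2_c44 LD3_c61) Lrfl Lrfl
theorem f423060 : Led Lsl_ft (LP (LK LD1_c9 LD2_c1 LD3_c25)) = (LP (LK LD1_c5 LD2_c38 LD3_c11)) :=
  Lgr Lrot75 (Lpe (f174759 IH) (Lpr_ff (K31.f423056 IH) (Lpe (f172346 IH) (Lpn (LP (LK LD1_c5 LD2_c38 LD3_c11))))))
theorem f172471 : Led Lsl_dt (LP (LK LD1_c4 LD2_c57 LD3_c4)) = (LP (LK LD1_c9 LD2_c45 LD3_c14)) :=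
  Lre_d IH (LK LD1_c4 LD2_c57 LD3_c4) (LK LD1_c9 LD2_c45 LD3_c14) Lrfl Lrfl
theorem f424136 : Led Lsl_dt (LP (LK LD1_c16 LD2_c21 LD3_c40)) = (LP (LK LD1_c8 LD2_c44 LD3_c19)) :=
  Lre_d IH (LK LD1_c16 LD2_c21 LD3_c40) (LK LD1_c8 LD2_c44 LD3_c19) Lrfl Lrfl
theorem f424137 : Led Lsl_ft (LP (LK LD1_c9 LD2_c45 LD3_c14)) = (LP (LK LD1_c16 LD2_c21 LD3_c40)) :=
  Lgr Lrot54 (Lpe (f172471 IH) (Lpr_ff (K31.f424133 IH) (Lpe (f424136 IH) (Lpn (LP (LK LD1_c16 LD2_c21 LD3_c40))))))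
theorem f424172 : Led Lsl_at (LP (LK LD1_c5 LD2_c38 LD3_c11)) = (LP (LK LD1_c9 LD2_c45 LD3_c14)) :=
  Lgr Lrot66 (Lpe (f423060 IH) (Lpr_af (f424168 IH) (Lpe (f424137 IH) (Lpn (LP (LK LD1_c9 LD2_c45 LD3_c14))))))
theorem f424176 : Led Lsl_af (LP (LK LD1_c5 LD2_c38 LD3_c11)) = (LP (LK LD1_c9 LD2_c45 LD3_c14)) :=
  Lgr Lrot0 (Lpr_at (f424172 IH) (Lpn (LP (LK LD1_c9 LD2_c45 LD3_c14))))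
theorem f172488 : Led Lsl_dt (LP (LK LD1_c9 LD2_c45 LD3_c14)) = (LP (LK LD1_c4 LD2_c57 LD3_c4)) :=
  Lre_d IH (LK LD1_c9 LD2_c45 LD3_c14) (LK LD1_c4 LD2_c57 LD3_c4) Lrfl Lrfl
theorem f424141 : Led Lsl_ff (LP (LK LD1_c9 LD2_c45 LD3_c14)) = (LP (LK LD1_c16 LD2_c21 LD3_c40)) :=
  Lgr Lrot19 (Lpr_dt (f172488 IH) (Lpr_ft (K31.f424139 IH) (Lpr_dt (f424130 IH) (Lpn (LP (LK LD1_c16 LD2_c21 LD3_c40))))))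
theorem f422813 : Led Lsl_gt (LP (LK LD1_c16 LD2_c21 LD3_c40)) = (LP (LK LD1_c9 LD2_c3 LD3_c58)) :=
  Lre_g IH (LK LD1_c16 LD2_c21 LD3_c40) (LK LD1_c9 LD2_c3 LD3_c58) Lrfl Lrfl
theorem f424204 : Led Lsl_gf (LP (LK LD1_c5 LD2_c38 LD3_c11)) = (LP (LK LD1_c9 LD2_c3 LD3_c58)) :=
  Lgr Lrot76 (Lpr_af (f424176 IH) (Lpr_ff (f424141 IH) (Lpr_gt (f422813 IH) (Lpn (LP (LK LD1_c9 LD2_c3 LD3_c58))))))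
theorem f427660 : Led Lsl_dt (LP (LK LD1_c5 LD2_c37 LD3_c26)) = (LP (LK LD1_c9 LD2_c3 LD3_c58)) :=
  Lgr Lrot79 (Lpe (K38.f210372 IH) (Lpr_df (K35.f427522 IH) (Lpr_bf (K9.f174647 IH) (Lpn (LP (LK LD1_c9 LD2_c3 LD3_c58))))))
theorem f551823 : Led Lsl_gt (LP (LK LD1_c9 LD2_c1 LD3_c20)) = (LP (LK LD1_c5 LD2_c37 LD3_c26)) :=
  Lgr Lrot94 (Lpr_cf (f547749 IH) (Lpr_gt (f551819 IH) (Lpr_dt (f547402 IH) (Lpe (f551813 IH) (Lpr_dt (f181307 IH) (Lpe (f181311 IH) (Lpr_df (f423194 IH) (Lpr_gf (f424204 IH) (Lpe (f427660 IH) (Lpn (LP (LK LD1_c5 LD2_c37 LD3_c26))))))))))))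
theorem f60696 : Led Lsl_bt (LP (LK LD1_c1 LD2_c20 LD3_c36)) = (LP (LK LD1_c2 LD2_c48 LD3_c59)) :=
  Lre_b IH (LK LD1_c1 LD2_c20 LD3_c36) (LK LD1_c2 LD2_c48 LD3_c59) Lrfl Lrfl
theorem f100245 : Led Lsl_gt (LP (LK LD1_c5 LD2_c46 LD3_c29)) = (LP (LK LD1_c2 LD2_c48 LD3_c59)) :=
  Lre_g IH (LK LD1_c5 LD2_c46 LD3_c29) (LK LD1_c2 LD2_c48 LD3_c59) Lrfl Lrfl
theorem f551837 : Led Lsl_bf (LP (LK LD1_c5 LD2_c46 LD3_c29)) = (LP (LK LD1_c8 LD2_c42 LD3_c48)) :=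
  Lgr Lrot156 (Lpr_gt (f100245 IH) (Lpe (f60696 IH) (Lpr_ct (K1.f59282 IH) (Lpr_gt (K10.f68603 IH) (Lpe (K13.f175838 IH) (Lpr_bt (K38.f547318 IH) (Lpr_gt (K38.f547731 IH) (Lpe (f547749 IH) (Lpr_gt (f551823 IH) (Lpe (K38.f210374 IH) (Lpn (LP (LK LD1_c8 LD2_c42 LD3_c48)))))))))))))
theorem f427564 : Led Lsl_df (LP (LK LD1_c8 LD2_c42 LD3_c48)) = (LP (LK LD1_c4 LD2_c23 LD3_c29)) :=
  Lgr Lrot38 (Lpr_dt (K38.f427552 IH) (Lpn (LP (LK LD1_c4 LD2_c23 LD3_c29))))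
theorem f39306 : Led Lsl_bt (LP (LK LD1_c8 LD2_c44 LD3_c38)) = (LP (LK LD1_c4 LD2_c23 LD3_c29)) :=
  Lre_b IH (LK LD1_c8 LD2_c44 LD3_c38) (LK LD1_c4 LD2_c23 LD3_c29) Lrfl Lrfl
theorem f551844 : Led Lsl_dt (LP (LK LD1_c5 LD2_c46 LD3_c29)) = (LP (LK LD1_c8 LD2_c44 LD3_c38)) :=
  Lgr Lrot79 (Lpr_bf (f551837 IH) (Lpr_df (f427564 IH) (Lpe (f39306 IH) (Lpn (LP (LK LD1_c8 LD2_c44 LD3_c38))))))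
theorem f547719 : Led Lsl_ct (LP (LK LD1_c2 LD2_c49 LD3_c8)) = (LP (LK LD1_c4 LD2_c22 LD3_c31)) :=
  Lgr Lrot59 (Lpr_cf (K38.f547713 IH) (Lpn (LP (LK LD1_c4 LD2_c22 LD3_c31))))
theorem f423871 : Led Lsl_gt (LP (LK LD1_c11 LD2_c15 LD3_c6)) = (LP (LK LD1_c16 LD2_c19 LD3_c26)) :=
  Lgr Lrot46 (Lpr_gf (K36.f423867 IH) (Lpe (K18.f297082 IH) (Lpr_at (K30.f297092 IH) (Lpn (LP (LK LD1_c16 LD2_c19 LD3_c26))))))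
theorem f551852 : Led Lsl_gf (LP (LK LD1_c5 LD2_c42 LD3_c27)) = (LP (LK LD1_c8 LD2_c44 LD3_c38)) :=
  Lgr Lrot179 (Lpr_ct (K36.f423869 IH) (Lpr_gt (f423871 IH) (Lpr_ct (K36.f385376 IH) (Lpr_dt (K31.f385378 IH) (Lpe (f547719 IH) (Lpe (K38.f60161 IH) (Lpe (K38.f197512 IH) (Lpe (f100245 IH) (Lpr_dt (f551844 IH) (Lpn (LP (LK LD1_c8 LD2_c44 LD3_c38))))))))))))
theorem f164866 : Led Lsl_gt (LP (LK LD1_c5 LD2_c5 LD3_c12)) = (LP (LK LD1_c2 LD2_c29 LD3_c55)) :=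
  Lre_g IH (LK LD1_c5 LD2_c5 LD3_c12) (LK LD1_c2 LD2_c29 LD3_c55) Lrfl Lrfl
theorem f546475 : Led Lsl_gt (LP (LK LD1_c4 LD2_c41 LD3_c22)) = (LP (LK LD1_c5 LD2_c5 LD3_c12)) :=
  Lgr Lrot5 (Lpr_ft (K38.f546466 IH) (Lpr_at (K18.f164871 IH) (Lpe (f164866 IH) (Lpn (LP (LK LD1_c5 LD2_c5 LD3_c12))))))
theorem f551855 : Led Lsl_et (LP (LK LD1_c5 LD2_c46 LD3_c29)) = (LP (LK LD1_c5 LD2_c5 LD3_c12)) :=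
  Lgr Lrot122 (Lpr_dt (f551844 IH) (Lpe (f551852 IH) (Lpe (K36.f423865 IH) (Lpqs (K38.f549225 IH) (Lpe (K36.f500502 IH) (Lpr_gt (K6.f59537 IH) (Lpr_dt (K8.f59547 IH) (Lpe (K8.f138261 IH) (Lpe (K8.f59231 IH) (Lpr_et (K38.f59228 IH) (Lpr_gt (f546475 IH) (Lpn (LP (LK LD1_c5 LD2_c5 LD3_c12))))))))))))))
theorem f551864 : Led Lsl_ef (LP (LK LD1_c5 LD2_c46 LD3_c29)) = (LP (LK LD1_c5 LD2_c5 LD3_c12)) :=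
  Lgr Lrot88 (Lpr_et (f551855 IH) (Lpn (LP (LK LD1_c5 LD2_c5 LD3_c12))))
theorem f60282 : Led Lsl_et (LP (LK LD1_c1 LD2_c20 LD3_c34)) = (LP (LK LD1_c2 LD2_c48 LD3_c59)) :=
  Lre_e IH (LK LD1_c1 LD2_c20 LD3_c34) (LK LD1_c2 LD2_c48 LD3_c59) Lrfl Lrfl
theorem f99827 : Led Lsl_et (LP (LK LD1_c1 LD2_c2 LD3_c11)) = (LP (LK LD1_c2 LD2_c10 LD3_c15)) :=
  Lre_e IH (LK LD1_c1 LD2_c2 LD3_c11) (LK LD1_c2 LD2_c10 LD3_c15) Lrfl Lrfl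
theorem f551860 : Led Lsl_dt (LP (LK LD1_c5 LD2_c5 LD3_c12)) = (LP (LK LD1_c10 LD2_c1 LD3_c30)) :=
  Lre_d IH (LK LD1_c5 LD2_c5 LD3_c12) (LK LD1_c10 LD2_c1 LD3_c30) Lrfl Lrfl
theorem f551871 : Led Lsl_gt (LP (LK LD1_c8 LD2_c49 LD3_c12)) = (LP (LK LD1_c10 LD2_c1 LD3_c30)) :=
  Lgr Lrot139 (Lpe (K36.f100246 IH) (Lpe (K36.f100244 IH) (Lpe (f99827 IH) (Lpr_dt (K6.f80845 IH) (Lpe (K6.f99733 IH) (Lpe (K5.f60263 IH) (Lpr_et (f60282 IH) (Lpe (f100245 IH) (Lpr_ef (f551864 IH) (Lpr_dt (f551860 IH) (Lpn (LP (LK LD1_c10 LD2_c1 LD3_c30)))))))))))))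
theorem f551832 : Led Lsl_dt (LP (LK LD1_c10 LD2_c1 LD3_c30)) = (LP (LK LD1_c5 LD2_c5 LD3_c12)) :=
  Lre_d IH (LK LD1_c10 LD2_c1 LD3_c30) (LK LD1_c5 LD2_c5 LD3_c12) Lrfl Lrfl
theorem f164859 : Led Lsl_dt (LP (LK LD1_c2 LD2_c29 LD3_c55)) = (LP (LK LD1_c5 LD2_c5 LD3_c14)) :=
  Lre_d IH (LK LD1_c2 LD2_c29 LD3_c55) (LK LD1_c5 LD2_c5 LD3_c14) Lrfl Lrfl
theorem f201910 : Led Lsl_ct (LP (LK LD1_c10 LD2_c1 LD3_c31)) = (LP (LK LD1_c5 LD2_c5 LD3_c14)) :=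
  Lre_c IH (LK LD1_c10 LD2_c1 LD3_c31) (LK LD1_c5 LD2_c5 LD3_c14) Lrfl Lrfl
theorem f201911 : Led Lsl_dt (LP (LK LD1_c18 LD2_c19 LD3_c8)) = (LP (LK LD1_c10 LD2_c1 LD3_c31)) :=
  Lre_d IH (LK LD1_c18 LD2_c19 LD3_c8) (LK LD1_c10 LD2_c1 LD3_c31) Lrfl Lrfl
theorem f551825 : Led Lsl_gf (LP (LK LD1_c12 LD2_c22 LD3_c1)) = (LP (LK LD1_c8 LD2_c3 LD3_c46)) :=
  Lgr Lrot145 (Lpe (K38.f117600 IH) (Lpr_et (K38.f547733 IH) (Lpr_gt (f551819 IH) (Lpr_dt (f547402 IH) (Lpe (f551813 IH) (Lpe (f181296 IH) (Lpe (f551575 IH) (Lpe (K7.f149001 IH) (Lpe (K35.f538613 IH) (Lpe (K35.f211606 IH) (Lpn (LP (LK LD1_c8 LD2_c3 LD3_c46)))))))))))))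
theorem f117579 : Led Lsl_dt (LP (LK LD1_c12 LD2_c22 LD3_c1)) = (LP (LK LD1_c6 LD2_c24 LD3_c30)) :=
  Lre_d IH (LK LD1_c12 LD2_c22 LD3_c1) (LK LD1_c6 LD2_c24 LD3_c30) Lrfl Lrfl
theorem f545119 : Led Lsl_dt (LP (LK LD1_c5 LD2_c5 LD3_c57)) = (LP (LK LD1_c10 LD2_c2 LD3_c51)) :=
  Lre_d IH (LK LD1_c5 LD2_c5 LD3_c57) (LK LD1_c10 LD2_c2 LD3_c51) Lrfl Lrfl
theorem f547605 : Led Lsl_ct (LP (LK LD1_c10 LD2_c2 LD3_c51)) = (LP (LK LD1_c18 LD2_c21 LD3_c7)) :=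
  Lre_c IH (LK LD1_c10 LD2_c2 LD3_c51) (LK LD1_c18 LD2_c21 LD3_c7) Lrfl Lrfl
theorem f69773 : Led Lsl_ct (LP (LK LD1_c15 LD2_c10 LD3_c37)) = (LP (LK LD1_c8 LD2_c3 LD3_c46)) :=
  Lre_c IH (LK LD1_c15 LD2_c10 LD3_c37) (LK LD1_c8 LD2_c3 LD3_c46) Lrfl Lrfl
theorem f202072 : Led Lsl_dt (LP (LK LD1_c1 LD2_c22 LD3_c50)) = (LP (LK LD1_c2 LD2_c53 LD3_c35)) :=
  Lre_d IH (LK LD1_c1 LD2_c22 LD3_c50) (LK LD1_c2 LD2_c53 LD3_c35) Lrfl Lrfl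
theorem f546618 : Led Lsl_at (LP (LK LD1_c11 LD2_c33 LD3_c41)) = (LP (LK LD1_c5 LD2_c54 LD3_c25)) :=
  Lre_a IH (LK LD1_c11 LD2_c33 LD3_c41) (LK LD1_c5 LD2_c54 LD3_c25) Lrfl Lrfl
theorem f546619 : Led Lsl_ff (LP (LK LD1_c11 LD2_c33 LD3_c41)) = (LP (LK LD1_c15 LD2_c23 LD3_c44)) :=
  Lgr Lrot103 (Lpr_at (f546618 IH) (Lpe (K35.f420930 IH) (Lpe (f202072 IH) (Lpe (K35.f166165 IH) (Lpe (K38.f186708 IH) (Lpe (K38.f166173 IH) (Lpe (K38.f166174 IH) (Lpe (K38.f545687 IH) (Lpr_df (K38.f546599 IH) (Lpn (LP (LK LD1_c15 LD2_c23 LD3_c44))))))))))))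
theorem f546625 : Led Lsl_ct (LP (LK LD1_c11 LD2_c33 LD3_c41)) = (LP (LK LD1_c5 LD2_c53 LD3_c54)) :=
  Lre_c IH (LK LD1_c11 LD2_c33 LD3_c41) (LK LD1_c5 LD2_c53 LD3_c54) Lrfl Lrfl
theorem f546626 : Led Lsl_ft (LP (LK LD1_c5 LD2_c53 LD3_c54)) = (LP (LK LD1_c8 LD2_c10 LD3_c36)) :=
  Lgr Lrot4 (Lpe (f546625 IH) (Lpr_ff (f546619 IH) (Lpe (K38.f546591 IH) (Lpn (LP (LK LD1_c8 LD2_c10 LD3_c36))))))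
theorem f71080 : Led Lsl_at (LP (LK LD1_c2 LD2_c53 LD3_c36)) = (LP (LK LD1_c5 LD2_c53 LD3_c55)) :=
  Lre_a IH (LK LD1_c2 LD2_c53 LD3_c36) (LK LD1_c5 LD2_c53 LD3_c55) Lrfl Lrfl
theorem f186568 : Led Lsl_dt (LP (LK LD1_c5 LD2_c54 LD3_c26)) = (LP (LK LD1_c2 LD2_c53 LD3_c36)) :=
  Lre_d IH (LK LD1_c5 LD2_c54 LD3_c26) (LK LD1_c2 LD2_c53 LD3_c36) Lrfl Lrfl
theorem f546589 : Led Lsl_af (LP (LK LD1_c5 LD2_c54 LD3_c26)) = (LP (LK LD1_c8 LD2_c10 LD3_c36)) :=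
  Lgr Lrot117 (Lpr_dt (f186568 IH) (Lpr_at (f71080 IH) (Lpr_dt (K38.f546587 IH) (Lpn (LP (LK LD1_c8 LD2_c10 LD3_c36))))))
theorem f546643 : Led Lsl_gt (LP (LK LD1_c8 LD2_c10 LD3_c39)) = (LP (LK LD1_c5 LD2_c54 LD3_c26)) :=
  Lgr Lrot46 (Lpr_gf (K37.f539748 IH) (Lpr_ft (f546626 IH) (Lpe (f546589 IH) (Lpn (LP (LK LD1_c5 LD2_c54 LD3_c26))))))
theorem f197239 : Led Lsl_bt (LP (LK LD1_c4 LD2_c1 LD3_c33)) = (LP (LK LD1_c1 LD2_c57 LD3_c45)) :=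
  Lre_b IH (LK LD1_c4 LD2_c1 LD3_c33) (LK LD1_c1 LD2_c57 LD3_c45) Lrfl Lrfl
theorem f197240 : Led Lsl_ct (LP (LK LD1_c4 LD2_c1 LD3_c33)) = (LP (LK LD1_c8 LD2_c3 LD3_c44)) :=
  Lre_c IH (LK LD1_c4 LD2_c1 LD3_c33) (LK LD1_c8 LD2_c3 LD3_c44) Lrfl Lrfl
theorem f420838 : Led Lsl_bt (LP (LK LD1_c4 LD2_c25 LD3_c12)) = (LP (LK LD1_c5 LD2_c54 LD3_c26)) :=
  Lgr Lrot127 (Lpr_bf (K35.f420735 IH) (Lpn (LP (LK LD1_c5 LD2_c54 LD3_c26))))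
theorem f546646 : Led Lsl_gf (LP (LK LD1_c8 LD2_c3 LD3_c44)) = (LP (LK LD1_c4 LD2_c20 LD3_c59)) :=
  Lgr Lrot126 (Lpe (f197240 IH) (Lpr_bt (f197239 IH) (Lpr_gt (K10.f33761 IH) (Lpr_ct (K10.f197215 IH) (Lpe (K10.f197205 IH) (Lpe (K10.f46652 IH) (Lpr_bt (K37.f46641 IH) (Lpr_gt (f546643 IH) (Lpe (f420838 IH) (Lpe (K35.f201863 IH) (Lpn (LP (LK LD1_c4 LD2_c20 LD3_c59)))))))))))))
theorem f201355 : Led Lsl_bt (LP (LK LD1_c5 LD2_c5 LD3_c14)) = (LP (LK LD1_c2 LD2_c29 LD3_c56)) :=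
  Lre_b IH (LK LD1_c5 LD2_c5 LD3_c14) (LK LD1_c2 LD2_c29 LD3_c56) Lrfl Lrfl
theorem f201356 : Led Lsl_ct (LP (LK LD1_c5 LD2_c5 LD3_c14)) = (LP (LK LD1_c10 LD2_c1 LD3_c31)) :=
  Lre_c IH (LK LD1_c5 LD2_c5 LD3_c14) (LK LD1_c10 LD2_c1 LD3_c31) Lrfl Lrfl
theorem f546658 : Led Lsl_gt (LP (LK LD1_c15 LD2_c10 LD3_c37)) = (LP (LK LD1_c10 LD2_c1 LD3_c31)) :=
  Lgr Lrot65 (Lpe (K35.f196167 IH) (Lpr_bt (K16.f69772 IH) (Lpe (K10.f33761 IH) (Lpe (f197239 IH) (Lpr_ct (f197240 IH) (Lpr_gf (f546646 IH) (Lpr_cf (K35.f201863 IH) (Lpe (K13.f201908 IH) (Lpe (f201355 IH) (Lpr_ct (f201356 IH) (Lpn (LP (LK LD1_c10 LD2_c1 LD3_c31)))))))))))))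
theorem f302388 : Led Lsl_dt (LP (LK LD1_c10 LD2_c1 LD3_c31)) = (LP (LK LD1_c18 LD2_c19 LD3_c8)) :=
  Lre_d IH (LK LD1_c10 LD2_c1 LD3_c31) (LK LD1_c18 LD2_c19 LD3_c8) Lrfl Lrfl
theorem f551827 : Led Lsl_gf (LP (LK LD1_c25 LD2_c18 LD3_c9)) = (LP (LK LD1_c18 LD2_c19 LD3_c8)) :=
  Lgr Lrot143 (Lpr_dt (K38.f547611 IH) (Lpe (f547605 IH) (Lpe (f545119 IH) (Lpe (K38.f545114 IH) (Lpe (f117579 IH) (Lpr_gf (f551825 IH) (Lpe (f69773 IH) (Lpr_gt (f546658 IH) (Lpr_dt (f302388 IH) (Lpn (LP (LK LD1_c18 LD2_c19 LD3_c8))))))))))))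
theorem f385909 : Led Lsl_ff (LP (LK LD1_c8 LD2_c12 LD3_c10)) = (LP (LK LD1_c6 LD2_c7 LD3_c43)) :=
  Lgr Lrot3 (Lpr_ft (K38.f385902 IH) (Lpn (LP (LK LD1_c6 LD2_c7 LD3_c43))))
theorem f385911 : Led Lsl_ft (LP (LK LD1_c15 LD2_c26 LD3_c15)) = (LP (LK LD1_c11 LD2_c57 LD3_c50)) :=
  Lgr Lrot54 (Lpe (K38.f197348 IH) (Lpr_ff (f385909 IH) (Lpe (K38.f226058 IH) (Lpn (LP (LK LD1_c11 LD2_c57 LD3_c50))))))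
theorem f385914 : Led Lsl_ct (LP (LK LD1_c25 LD2_c18 LD3_c9)) = (LP (LK LD1_c15 LD2_c26 LD3_c15)) :=
  Lre_c IH (LK LD1_c25 LD2_c18 LD3_c9) (LK LD1_c15 LD2_c26 LD3_c15) Lrfl Lrfl
theorem f385915 : Led Lsl_ff (LP (LK LD1_c25 LD2_c18 LD3_c9)) = (LP (LK LD1_c21 LD2_c2 LD3_c57)) :=
  Lgr Lrot23 (Lpr_ct (f385914 IH) (Lpr_ft (f385911 IH) (Lpr_ct (K38.f385356 IH) (Lpn (LP (LK LD1_c21 LD2_c2 LD3_c57))))))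
theorem f408531 : Led Lsl_af (LP (LK LD1_c21 LD2_c2 LD3_c49)) = (LP (LK LD1_c25 LD2_c18 LD3_c9)) :=
  Lgr Lrot45 (Lpe (K38.f408525 IH) (Lpr_at (K38.f408527 IH) (Lpe (f385915 IH) (Lpn (LP (LK LD1_c25 LD2_c18 LD3_c9))))))
theorem f408533 : Led Lsl_at (LP (LK LD1_c21 LD2_c2 LD3_c49)) = (LP (LK LD1_c25 LD2_c18 LD3_c9)) :=
  Lgr Lrot100 (Lpr_af (f408531 IH) (Lpn (LP (LK LD1_c25 LD2_c18 LD3_c9))))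
theorem f408519 : Led Lsl_ft (LP (LK LD1_c24 LD2_c59 LD3_c34)) = (LP (LK LD1_c21 LD2_c2 LD3_c49)) :=
  Lgr Lrot54 (Lpe (K38.f240072 IH) (Lpr_ff (K38.f408515 IH) (Lpe (K38.f193873 IH) (Lpn (LP (LK LD1_c21 LD2_c2 LD3_c49))))))
theorem f551829 : Led Lsl_gt (LP (LK LD1_c24 LD2_c59 LD3_c34)) = (LP (LK LD1_c18 LD2_c19 LD3_c8)) :=
  Lgr Lrot5 (Lpr_ft (f408519 IH) (Lpr_at (f408533 IH) (Lpr_gf (f551827 IH) (Lpn (LP (LK LD1_c18 LD2_c19 LD3_c8))))))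
theorem f551875 : Led Lsl_gt (LP (LK LD1_c16 LD2_c29 LD3_c37)) = (LP (LK LD1_c15 LD2_c10 LD3_c17)) :=
  Lgr Lrot94 (Lpe (K36.f427836 IH) (Lpr_gt (f551871 IH) (Lpr_dt (f551832 IH) (Lpr_gt (f164866 IH) (Lpr_dt (f164859 IH) (Lpe (f201910 IH) (Lpe (f201911 IH) (Lpe (f551829 IH) (Lpe (K38.f240072 IH) (Lpn (LP (LK LD1_c15 LD2_c10 LD3_c17))))))))))))
theorem f239497 : Led Lsl_bt (LP (LK LD1_c2 LD2_c30 LD3_c39)) = (LP (LK LD1_c5 LD2_c6 LD3_c42)) :=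
  Lre_b IH (LK LD1_c2 LD2_c30 LD3_c39) (LK LD1_c5 LD2_c6 LD3_c42) Lrfl Lrfl
theorem f201597 : Led Lsl_bf (LP (LK LD1_c4 LD2_c20 LD3_c6)) = (LP (LK LD1_c5 LD2_c13 LD3_c61)) :=
  Lgr Lrot24 (Lpr_bt (K32.f201591 IH) (Lpn (LP (LK LD1_c5 LD2_c13 LD3_c61))))
theorem f201611 : Led Lsl_at (LP (LK LD1_c10 LD2_c17 LD3_c58)) = (LP (LK LD1_c5 LD2_c13 LD3_c61)) :=
  Lre_a IH (LK LD1_c10 LD2_c17 LD3_c58) (LK LD1_c5 LD2_c13 LD3_c61) Lrfl Lrfl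
theorem f427877 : Led Lsl_bf (LP (LK LD1_c10 LD2_c17 LD3_c58)) = (LP (LK LD1_c8 LD2_c49 LD3_c12)) :=
  Lgr Lrot81 (Lpr_at (f201611 IH) (Lpe (f201597 IH) (Lpr_at (K36.f308341 IH) (Lpr_bt (f239497 IH) (Lpr_at (K36.f427875 IH) (Lpn (LP (LK LD1_c8 LD2_c49 LD3_c12))))))))
theorem f240044 : Led Lsl_bt (LP (LK LD1_c8 LD2_c3 LD3_c34)) = (LP (LK LD1_c4 LD2_c1 LD3_c29)) :=
  Lre_b IH (LK LD1_c8 LD2_c3 LD3_c34) (LK LD1_c4 LD2_c1 LD3_c29) Lrfl Lrfl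
theorem f242830 : Led Lsl_bt (LP (LK LD1_c4 LD2_c1 LD3_c26)) = (LP (LK LD1_c8 LD2_c3 LD3_c30)) :=
  Lre_b IH (LK LD1_c4 LD2_c1 LD3_c26) (LK LD1_c8 LD2_c3 LD3_c30) Lrfl Lrfl
theorem f551891 : Led Lsl_gf (LP (LK LD1_c10 LD2_c17 LD3_c58)) = (LP (LK LD1_c8 LD2_c3 LD3_c30)) :=
  Lgr Lrot124 (Lpr_bf (f427877 IH) (Lpr_ct (K36.f427836 IH) (Lpr_gt (f551875 IH) (Lpe (K38.f240080 IH) (Lpr_bt (f240044 IH) (Lpr_gt (K13.f80332 IH) (Lpr_ct (K13.f242825 IH) (Lpe (K15.f242827 IH) (Lpr_cf (K15.f240519 IH) (Lpr_bt (f242830 IH) (Lpn (LP (LK LD1_c8 LD2_c3 LD3_c30)))))))))))))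
theorem f308559 : Led Lsl_ft (LP (LK LD1_c10 LD2_c17 LD3_c58)) = (LP (LK LD1_c10 LD2_c5 LD3_c3)) :=
  Lgr Lrot54 (Lpe (K32.f308508 IH) (Lpr_ff (K36.f308543 IH) (Lpe (K32.f308419 IH) (Lpn (LP (LK LD1_c10 LD2_c5 LD3_c3))))))
theorem f53249 : Led Lsl_at (LP (LK LD1_c10 LD2_c5 LD3_c3)) = (LP (LK LD1_c5 LD2_c7 LD3_c19)) :=
  Lre_a IH (LK LD1_c10 LD2_c5 LD3_c3) (LK LD1_c5 LD2_c7 LD3_c19) Lrfl Lrfl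
theorem f53303 : Led Lsl_gt (LP (LK LD1_c10 LD2_c5 LD3_c6)) = (LP (LK LD1_c5 LD2_c7 LD3_c19)) :=
  Lre_g IH (LK LD1_c10 LD2_c5 LD3_c6) (LK LD1_c5 LD2_c7 LD3_c19) Lrfl Lrfl
theorem f308563 : Led Lsl_gt (LP (LK LD1_c10 LD2_c17 LD3_c58)) = (LP (LK LD1_c10 LD2_c5 LD3_c6)) :=
  Lgr Lrot5 (Lpr_ft (f308559 IH) (Lpr_at (f53249 IH) (Lpe (f53303 IH) (Lpn (LP (LK LD1_c10 LD2_c5 LD3_c6))))))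
theorem f262379 : Led Lsl_ft (LP (LK LD1_c8 LD2_c3 LD3_c30)) = (LP (LK LD1_c6 LD2_c7 LD3_c35)) :=
  Lgr Lrot75 (Lpe (f242830 IH) (Lpr_ff (K15.f262377 IH) (Lpr_bf (K37.f193603 IH) (Lpn (LP (LK LD1_c6 LD2_c7 LD3_c35))))))
theorem f551893 : Led Lsl_af (LP (LK LD1_c10 LD2_c5 LD3_c6)) = (LP (LK LD1_c6 LD2_c7 LD3_c35)) :=
  Lgr Lrot31 (Lpe (f308563 IH) (Lpr_gf (f551891 IH) (Lpr_ft (f262379 IH) (Lpn (LP (LK LD1_c6 LD2_c7 LD3_c35))))))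
theorem f551901 : Led Lsl_et (LP (LK LD1_c10 LD2_c5 LD3_c6)) = (LP (LK LD1_c18 LD2_c23 LD3_c47)) :=
  Lre_e IH (LK LD1_c10 LD2_c5 LD3_c6) (LK LD1_c18 LD2_c23 LD3_c47) Lrfl Lrfl
theorem f551902 : Led Lsl_at (LP (LK LD1_c18 LD2_c23 LD3_c47)) = (LP (LK LD1_c11 LD2_c57 LD3_c41)) :=
  Lgr Lrot80 (Lpe (f551901 IH) (Lpr_af (f551893 IH) (Lpe (K37.f176026 IH) (Lpn (LP (LK LD1_c11 LD2_c57 LD3_c41))))))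
theorem f193582 : Led Lsl_df (LP (LK LD1_c14 LD2_c59 LD3_c4)) = (LP (LK LD1_c11 LD2_c57 LD3_c41)) :=
  Lgr Lrot38 (Lpr_dt (K37.f193574 IH) (Lpn (LP (LK LD1_c11 LD2_c57 LD3_c41))))
theorem f411736 : Led Lsl_et (LP (LK LD1_c11 LD2_c13 LD3_c22)) = (LP (LK LD1_c20 LD2_c7 LD3_c59)) :=
  Lre_e IH (LK LD1_c11 LD2_c13 LD3_c22) (LK LD1_c20 LD2_c7 LD3_c59) Lrfl Lrfl
theorem f201538 : Led Lsl_et (LP (LK LD1_c16 LD2_c22 LD3_c40)) = (LP (LK LD1_c8 LD2_c44 LD3_c59)) :=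
  Lre_e IH (LK LD1_c16 LD2_c22 LD3_c40) (LK LD1_c8 LD2_c44 LD3_c59) Lrfl Lrfl
theorem f411737 : Led Lsl_bt (LP (LK LD1_c20 LD2_c7 LD3_c59)) = (LP (LK LD1_c16 LD2_c22 LD3_c40)) :=
  Lgr Lrot119 (Lpe (f411736 IH) (Lpr_bf (K31.f411730 IH) (Lpe (f201538 IH) (Lpn (LP (LK LD1_c16 LD2_c22 LD3_c40))))))
theorem f201518 : Led Lsl_at (LP (LK LD1_c16 LD2_c22 LD3_c40)) = (LP (LK LD1_c8 LD2_c44 LD3_c61)) :=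
  Lre_a IH (LK LD1_c16 LD2_c22 LD3_c40) (LK LD1_c8 LD2_c44 LD3_c61) Lrfl Lrfl
theorem f385697 : Led Lsl_af (LP (LK LD1_c8 LD2_c40 LD3_c43)) = (LP (LK LD1_c9 LD2_c38 LD3_c27)) :=
  Lgr Lrot0 (Lpr_at (K38.f385686 IH) (Lpn (LP (LK LD1_c9 LD2_c38 LD3_c27))))
theorem f373796 : Led Lsl_ct (LP (LK LD1_c8 LD2_c40 LD3_c43)) = (LP (LK LD1_c4 LD2_c23 LD3_c37)) :=
  Lgr Lrot59 (Lpr_cf (K38.f373790 IH) (Lpn (LP (LK LD1_c4 LD2_c23 LD3_c37))))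
theorem f2528 : Led Lsl_et (LP (LK LD1_c9 LD2_c38 LD3_c27)) = (LP (LK LD1_c4 LD2_c53 LD3_c13)) :=
  Lre_e IH (LK LD1_c9 LD2_c38 LD3_c27) (LK LD1_c4 LD2_c53 LD3_c13) Lrfl Lrfl
theorem f229283 : Led Lsl_ct (LP (LK LD1_c7 LD2_c56 LD3_c33)) = (LP (LK LD1_c9 LD2_c38 LD3_c27)) :=
  Lgr Lrot15 (Lpe (K15.f193487 IH) (Lpr_cf (K12.f229274 IH) (Lpe (f2528 IH) (Lpn (LP (LK LD1_c9 LD2_c38 LD3_c27))))))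
theorem f385783 : Led Lsl_at (LP (LK LD1_c4 LD2_c23 LD3_c37)) = (LP (LK LD1_c7 LD2_c56 LD3_c33)) :=
  Lgr Lrot107 (Lpe (f373796 IH) (Lpr_af (f385697 IH) (Lpe (f229283 IH) (Lpn (LP (LK LD1_c7 LD2_c56 LD3_c33))))))
theorem f193570 : Led Lsl_bt (LP (LK LD1_c7 LD2_c56 LD3_c33)) = (LP (LK LD1_c14 LD2_c59 LD3_c4)) :=
  Lre_b IH (LK LD1_c7 LD2_c56 LD3_c33) (LK LD1_c14 LD2_c59 LD3_c4) Lrfl Lrfl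
theorem f411749 : Led Lsl_af (LP (LK LD1_c20 LD2_c7 LD3_c59)) = (LP (LK LD1_c14 LD2_c59 LD3_c4)) :=
  Lgr Lrot36 (Lpr_bt (f411737 IH) (Lpr_at (f201518 IH) (Lpr_bt (K38.f201474 IH) (Lpr_at (f385783 IH) (Lpr_bt (f193570 IH) (Lpn (LP (LK LD1_c14 LD2_c59 LD3_c4))))))))
theorem f551906 : Led Lsl_df (LP (LK LD1_c18 LD2_c23 LD3_c47)) = (LP (LK LD1_c20 LD2_c7 LD3_c59)) :=
  Lgr Lrot18 (Lpr_at (f551902 IH) (Lpe (f193582 IH) (Lpe (f411749 IH) (Lpn (LP (LK LD1_c20 LD2_c7 LD3_c59))))))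
theorem f308567 : Led Lsl_et (LP (LK LD1_c18 LD2_c23 LD3_c47)) = (LP (LK LD1_c10 LD2_c5 LD3_c6)) :=
  Lre_e IH (LK LD1_c18 LD2_c23 LD3_c47) (LK LD1_c10 LD2_c5 LD3_c6) Lrfl Lrfl
theorem f176024 : Led Lsl_at (LP (LK LD1_c6 LD2_c7 LD3_c32)) = (LP (LK LD1_c2 LD2_c59 LD3_c59)) :=
  Lre_a IH (LK LD1_c6 LD2_c7 LD3_c32) (LK LD1_c2 LD2_c59 LD3_c59) Lrfl Lrfl
theorem f551899 : Led Lsl_dt (LP (LK LD1_c10 LD2_c5 LD3_c6)) = (LP (LK LD1_c6 LD2_c7 LD3_c32)) :=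
  Lgr Lrot44 (Lpr_af (f551893 IH) (Lpe (K37.f176029 IH) (Lpe (f176024 IH) (Lpn (LP (LK LD1_c6 LD2_c7 LD3_c32))))))
theorem f551910 : Led Lsl_et (LP (LK LD1_c6 LD2_c7 LD3_c32)) = (LP (LK LD1_c6 LD2_c14 LD3_c19)) :=
  Lgr Lrot71 (Lpe (f551899 IH) (Lpe (f308567 IH) (Lpr_df (f551906 IH) (Lpe (f411736 IH) (Lpr_df (f547803 IH) (Lpn (LP (LK LD1_c6 LD2_c14 LD3_c19))))))))
theorem f387145 : Led Lsl_bf (LP (LK LD1_c2 LD2_c27 LD3_c13)) = (LP (LK LD1_c2 LD2_c33 LD3_c53)) :=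
  Lgr Lrot61 (Lpr_ft (K32.f387143 IH) (Lpe (K36.f308426 IH) (Lpe (K32.f308523 IH) (Lpn (LP (LK LD1_c2 LD2_c33 LD3_c53))))))
theorem f159188 : Led Lsl_ct (LP (LK LD1_c4 LD2_c36 LD3_c45)) = (LP (LK LD1_c2 LD2_c15 LD3_c37)) :=
  Lre_c IH (LK LD1_c4 LD2_c36 LD3_c45) (LK LD1_c2 LD2_c15 LD3_c37) Lrfl Lrfl
theorem f538397 : Led Lsl_ct (LP (LK LD1_c2 LD2_c0 LD3_c55)) = (LP (LK LD1_c3 LD2_c57 LD3_c53)) :=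
  Lgr Lrot111 (Lpr_af (K35.f538392 IH) (Lpe (f159188 IH) (Lpe (K37.f159168 IH) (Lpn (LP (LK LD1_c3 LD2_c57 LD3_c53))))))
theorem f544452 : Led Lsl_gf (LP (LK LD1_c5 LD2_c13 LD3_c58)) = (LP (LK LD1_c3 LD2_c57 LD3_c53)) :=
  Lgr Lrot129 (Lpe (K32.f308514 IH) (Lpe (f387145 IH) (Lpr_gt (K32.f387153 IH) (Lpe (K35.f186694 IH) (Lpe (K35.f186695 IH) (Lpe (K35.f421244 IH) (Lpe (K37.f239274 IH) (Lpr_bt (K37.f421253 IH) (Lpr_gt (K37.f544444 IH) (Lpr_ct (f538397 IH) (Lpn (LP (LK LD1_c3 LD2_c57 LD3_c53)))))))))))))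
theorem f551913 : Led Lsl_dt (LP (LK LD1_c6 LD2_c7 LD3_c32)) = (LP (LK LD1_c10 LD2_c5 LD3_c6)) :=
  Lgr Lrot56 (Lpr_et (f551910 IH) (Lpr_gt (K35.f60466 IH) (Lpe (K2.f56487 IH) (Lpr_dt (K32.f37225 IH) (Lpe (K8.f158963 IH) (Lpe (K38.f36300 IH) (Lpr_et (K37.f158969 IH) (Lpe (f544452 IH) (Lpr_dt (K32.f308508 IH) (Lpr_gt (f308563 IH) (Lpn (LP (LK LD1_c10 LD2_c5 LD3_c6)))))))))))))
theorem f551915 : Led Lsl_et (LP (LK LD1_c5 LD2_c13 LD3_c58)) = (LP (LK LD1_c7 LD2_c14 LD3_c7)) :=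
  Lgr Lrot122 (Lpr_dt (K32.f308508 IH) (Lpr_gt (f308563 IH) (Lpe (f551913 IH) (Lpr_et (f551910 IH) (Lpr_gt (K35.f60466 IH) (Lpr_dt (f60879 IH) (Lpr_gt (f551681 IH) (Lpe (K31.f181359 IH) (Lpr_et (f181398 IH) (Lpe (f551676 IH) (Lpn (LP (LK LD1_c7 LD2_c14 LD3_c7)))))))))))))
theorem f182441 : Led Lsl_dt (LP (LK LD1_c4 LD2_c1 LD3_c25)) = (LP (LK LD1_c8 LD2_c3 LD3_c30)) :=
  Lre_d IH (LK LD1_c4 LD2_c1 LD3_c25) (LK LD1_c8 LD2_c3 LD3_c30) Lrfl Lrfl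
theorem f32072 : Led Lsl_bt (LP (LK LD1_c2 LD2_c7 LD3_c31)) = (LP (LK LD1_c4 LD2_c20 LD3_c4)) :=
  Lre_b IH (LK LD1_c2 LD2_c7 LD3_c31) (LK LD1_c4 LD2_c20 LD3_c4) Lrfl Lrfl
theorem f547954 : Led Lsl_gf (LP (LK LD1_c4 LD2_c1 LD3_c25)) = (LP (LK LD1_c4 LD2_c20 LD3_c4)) :=
  Lgr Lrot181 (Lpe (K38.f182428 IH) (Lpe (K38.f547952 IH) (Lpe (K6.f132618 IH) (Lpe (K38.f132812 IH) (Lpr_gt (K38.f547948 IH) (Lpe (K38.f212063 IH) (Lpr_ct (K16.f212012 IH) (Lpr_gt (K12.f212021 IH) (Lpe (K11.f180145 IH) (Lpr_bt (f32072 IH) (Lpn (LP (LK LD1_c4 LD2_c20 LD3_c4)))))))))))))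
theorem f551558 : Led Lsl_bt (LP (LK LD1_c7 LD2_c59 LD3_c15)) = (LP (LK LD1_c15 LD2_c3 LD3_c53)) :=
  Lre_b IH (LK LD1_c7 LD2_c59 LD3_c15) (LK LD1_c15 LD2_c3 LD3_c53) Lrfl Lrfl
theorem f382098 : Led Lsl_ct (LP (LK LD1_c7 LD2_c59 LD3_c15)) = (LP (LK LD1_c15 LD2_c3 LD3_c54)) :=
  Lre_c IH (LK LD1_c7 LD2_c59 LD3_c15) (LK LD1_c15 LD2_c3 LD3_c54) Lrfl Lrfl
theorem f238979 : Led Lsl_bt (LP (LK LD1_c8 LD2_c37 LD3_c0)) = (LP (LK LD1_c4 LD2_c19 LD3_c20)) :=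
  Lre_b IH (LK LD1_c8 LD2_c37 LD3_c0) (LK LD1_c4 LD2_c19 LD3_c20) Lrfl Lrfl
theorem f225668 : Led Lsl_ct (LP (LK LD1_c8 LD2_c37 LD3_c0)) = (LP (LK LD1_c16 LD2_c8 LD3_c33)) :=
  Lre_c IH (LK LD1_c8 LD2_c37 LD3_c0) (LK LD1_c16 LD2_c8 LD3_c33) Lrfl Lrfl
theorem f551559 : Led Lsl_gf (LP (LK LD1_c15 LD2_c3 LD3_c54)) = (LP (LK LD1_c16 LD2_c8 LD3_c33)) :=
  Lgr Lrot126 (Lpe (f382098 IH) (Lpr_bt (f551558 IH) (Lpe (f551556 IH) (Lpr_ct (f551550 IH) (Lpr_gt (f181361 IH) (Lpe (f181368 IH) (Lpr_bt (K16.f181366 IH) (Lpr_gt (K13.f227938 IH) (Lpe (f238979 IH) (Lpr_ct (f225668 IH) (Lpn (LP (LK LD1_c16 LD2_c8 LD3_c33)))))))))))))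
theorem f551561 : Led Lsl_ct (LP (LK LD1_c15 LD2_c3 LD3_c54)) = (LP (LK LD1_c7 LD2_c59 LD3_c15)) :=
  Lre_c IH (LK LD1_c15 LD2_c3 LD3_c54) (LK LD1_c7 LD2_c59 LD3_c15) Lrfl Lrfl
theorem f174566 : Led Lsl_dt (LP (LK LD1_c7 LD2_c59 LD3_c15)) = (LP (LK LD1_c3 LD2_c58 LD3_c59)) :=
  Lre_d IH (LK LD1_c7 LD2_c59 LD3_c15) (LK LD1_c3 LD2_c58 LD3_c59) Lrfl Lrfl
theorem f156753 : Led Lsl_gt (LP (LK LD1_c3 LD2_c57 LD3_c28)) = (LP (LK LD1_c1 LD2_c55 LD3_c31)) :=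
  Lre_g IH (LK LD1_c3 LD2_c57 LD3_c28) (LK LD1_c1 LD2_c55 LD3_c31) Lrfl Lrfl
theorem f551562 : Led Lsl_dt (LP (LK LD1_c3 LD2_c57 LD3_c28)) = (LP (LK LD1_c7 LD2_c56 LD3_c23)) :=
  Lre_d IH (LK LD1_c3 LD2_c57 LD3_c28) (LK LD1_c7 LD2_c56 LD3_c23) Lrfl Lrfl
theorem f551563 : Led Lsl_gt (LP (LK LD1_c7 LD2_c56 LD3_c23)) = (LP (LK LD1_c8 LD2_c37 LD3_c0)) :=
  Lgr Lrot9 (Lpe (f551562 IH) (Lpr_gt (f156753 IH) (Lpr_ct (f172303 IH) (Lpr_gt (K30.f157826 IH) (Lpr_ct (K30.f174535 IH) (Lpe (f174566 IH) (Lpe (f551561 IH) (Lpr_gf (f551559 IH) (Lpe (f225668 IH) (Lpn (LP (LK LD1_c8 LD2_c37 LD3_c0))))))))))))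
theorem f551925 : Led Lsl_et (LP (LK LD1_c3 LD2_c57 LD3_c28)) = (LP (LK LD1_c3 LD2_c36 LD3_c57)) :=
  Lgr Lrot122 (Lpr_dt (f551562 IH) (Lpr_gt (f551563 IH) (Lpe (f180198 IH) (Lpr_et (K12.f180131 IH) (Lpe (f547954 IH) (Lpr_dt (f182441 IH) (Lpe (f551891 IH) (Lpe (K32.f308508 IH) (Lpr_et (f551915 IH) (Lpr_gt (K33.f93111 IH) (Lpn (LP (LK LD1_c3 LD2_c36 LD3_c57)))))))))))))
theorem f93082 : Led Lsl_bt (LP (LK LD1_c1 LD2_c45 LD3_c19)) = (LP (LK LD1_c3 LD2_c36 LD3_c57)) :=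
  Lre_b IH (LK LD1_c1 LD2_c45 LD3_c19) (LK LD1_c3 LD2_c36 LD3_c57) Lrfl Lrfl
theorem f164151 : Led Lsl_bt (LP (LK LD1_c1 LD2_c6 LD3_c35)) = (LP (LK LD1_c1 LD2_c31 LD3_c14)) :=
  Lgr Lrot127 (Lpr_bf (K13.f164149 IH) (Lpn (LP (LK LD1_c1 LD2_c31 LD3_c14))))
theorem f301894 : Led Lsl_ct (LP (LK LD1_c5 LD2_c41 LD3_c16)) = (LP (LK LD1_c2 LD2_c46 LD3_c40)) :=
  Lre_c IH (LK LD1_c5 LD2_c41 LD3_c16) (LK LD1_c2 LD2_c46 LD3_c40) Lrfl Lrfl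
theorem f301895 : Led Lsl_bt (LP (LK LD1_c3 LD2_c10 LD3_c9)) = (LP (LK LD1_c5 LD2_c41 LD3_c16)) :=
  Lgr Lrot128 (Lpe (K13.f164154 IH) (Lpe (f164151 IH) (Lpr_cf (K18.f301891 IH) (Lpe (K35.f301893 IH) (Lpe (f301894 IH) (Lpn (LP (LK LD1_c5 LD2_c41 LD3_c16))))))))
theorem f542935 : Led Lsl_gt (LP (LK LD1_c3 LD2_c36 LD3_c57)) = (LP (LK LD1_c5 LD2_c41 LD3_c16)) :=
  Lgr Lrot164 (Lpe (f93082 IH) (Lpr_ct (K3.f92516 IH) (Lpe (K3.f97461 IH) (Lpe (K7.f98506 IH) (Lpr_gf (K5.f96968 IH) (Lpe (K37.f96993 IH) (Lpr_ct (K37.f542925 IH) (Lpr_gf (K37.f243011 IH) (Lpe (K16.f164153 IH) (Lpr_bt (f301895 IH) (Lpn (LP (LK LD1_c5 LD2_c41 LD3_c16)))))))))))))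
theorem f302045 : Led Lsl_ft (LP (LK LD1_c5 LD2_c14 LD3_c0)) = (LP (LK LD1_c5 LD2_c41 LD3_c16)) :=
  Lgr Lrot4 (Lpe (K16.f61419 IH) (Lpr_ff (K36.f302038 IH) (Lpe (f301894 IH) (Lpn (LP (LK LD1_c5 LD2_c41 LD3_c16))))))
theorem f548894 : Led Lsl_dt (LP (LK LD1_c5 LD2_c41 LD3_c16)) = (LP (LK LD1_c3 LD2_c39 LD3_c20)) :=
  Lgr Lrot60 (Lpe (f302045 IH) (Lpr_df (K38.f548884 IH) (Lpe (K32.f497686 IH) (Lpn (LP (LK LD1_c3 LD2_c39 LD3_c20))))))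
theorem f112398 : Led Lsl_et (LP (LK LD1_c1 LD2_c28 LD3_c10)) = (LP (LK LD1_c0 LD2_c40 LD3_c45)) :=
  Lre_e IH (LK LD1_c1 LD2_c28 LD3_c10) (LK LD1_c0 LD2_c40 LD3_c45) Lrfl Lrfl
theorem f117768 : Led Lsl_et (LP (LK LD1_c3 LD2_c4 LD3_c9)) = (LP (LK LD1_c1 LD2_c28 LD3_c6)) :=
  Lre_e IH (LK LD1_c3 LD2_c4 LD3_c9) (LK LD1_c1 LD2_c28 LD3_c6) Lrfl Lrfl
theorem f117775 : Led Lsl_dt (LP (LK LD1_c3 LD2_c4 LD3_c9)) = (LP (LK LD1_c6 LD2_c14 LD3_c31)) :=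
  Lre_d IH (LK LD1_c3 LD2_c4 LD3_c9) (LK LD1_c6 LD2_c14 LD3_c31) Lrfl Lrfl
theorem f551937 : Led Lsl_gf (LP (LK LD1_c7 LD2_c56 LD3_c23)) = (LP (LK LD1_c6 LD2_c14 LD3_c31)) :=
  Lgr Lrot145 (Lpe (f551562 IH) (Lpr_et (f551925 IH) (Lpr_gt (f542935 IH) (Lpr_dt (f548894 IH) (Lpr_gt (K33.f522539 IH) (Lpqs (K37.f540358 IH) (Lpe (K37.f112399 IH) (Lpr_et (f112398 IH) (Lpr_gt (K4.f59713 IH) (Lpe (f117768 IH) (Lpr_dt (f117775 IH) (Lpn (LP (LK LD1_c6 LD2_c14 LD3_c31))))))))))))))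
theorem f117791 : Led Lsl_ft (LP (LK LD1_c6 LD2_c14 LD3_c31)) = (LP (LK LD1_c12 LD2_c7 LD3_c21)) :=
  Lre_f IH (LK LD1_c6 LD2_c14 LD3_c31) (LK LD1_c12 LD2_c7 LD3_c21) Lrfl Lrfl
theorem f551939 : Led Lsl_af (LP (LK LD1_c8 LD2_c37 LD3_c0)) = (LP (LK LD1_c12 LD2_c7 LD3_c21)) :=
  Lgr Lrot31 (Lpe (f551563 IH) (Lpr_gf (f551937 IH) (Lpr_ft (f117791 IH) (Lpn (LP (LK LD1_c12 LD2_c7 LD3_c21))))))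
theorem f180200 : Led Lsl_ct (LP (LK LD1_c4 LD2_c19 LD3_c19)) = (LP (LK LD1_c2 LD2_c7 LD3_c25)) :=
  Lre_c IH (LK LD1_c4 LD2_c19 LD3_c19) (LK LD1_c2 LD2_c7 LD3_c25) Lrfl Lrfl
theorem f387001 : Led Lsl_ft (LP (LK LD1_c2 LD2_c44 LD3_c48)) = (LP (LK LD1_c4 LD2_c19 LD3_c19)) :=
  Lgr Lrot4 (Lpe (K36.f319428 IH) (Lpr_ff (K36.f386978 IH) (Lpe (f180200 IH) (Lpn (LP (LK LD1_c4 LD2_c19 LD3_c19))))))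
theorem f172333 : Led Lsl_dt (LP (LK LD1_c5 LD2_c37 LD3_c43)) = (LP (LK LD1_c2 LD2_c44 LD3_c48)) :=
  Lre_d IH (LK LD1_c5 LD2_c37 LD3_c43) (LK LD1_c2 LD2_c44 LD3_c48) Lrfl Lrfl
theorem f387006 : Led Lsl_ff (LP (LK LD1_c5 LD2_c37 LD3_c43)) = (LP (LK LD1_c8 LD2_c37 LD3_c0)) :=
  Lgr Lrot19 (Lpr_dt (f172333 IH) (Lpr_ft (f387001 IH) (Lpr_dt (f180198 IH) (Lpn (LP (LK LD1_c8 LD2_c37 LD3_c0))))))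
theorem f551950 : Led Lsl_at (LP (LK LD1_c5 LD2_c37 LD3_c43)) = (LP (LK LD1_c6 LD2_c14 LD3_c31)) :=
  Lgr Lrot66 (Lpr_ff (f387006 IH) (Lpr_af (f551939 IH) (Lpe (f117791 IH) (Lpn (LP (LK LD1_c6 LD2_c14 LD3_c31))))))
theorem f551962 : Led Lsl_gt (LP (LK LD1_c5 LD2_c41 LD3_c45)) = (LP (LK LD1_c6 LD2_c14 LD3_c31)) :=
  Lgr Lrot46 (Lpr_gf (f551743 IH) (Lpe (f387006 IH) (Lpr_at (f551950 IH) (Lpn (LP (LK LD1_c6 LD2_c14 LD3_c31))))))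
theorem f101648 : Led Lsl_et (LP (LK LD1_c0 LD2_c54 LD3_c35)) = (LP (LK LD1_c1 LD2_c55 LD3_c31)) :=
  Lre_e IH (LK LD1_c0 LD2_c54 LD3_c35) (LK LD1_c1 LD2_c55 LD3_c31) Lrfl Lrfl
theorem f551965 : Led Lsl_gf (LP (LK LD1_c2 LD2_c46 LD3_c54)) = (LP (LK LD1_c1 LD2_c55 LD3_c31)) :=
  Lgr Lrot138 (Lpr_dt (K16.f181583 IH) (Lpr_gt (f551962 IH) (Lpe (f117775 IH) (Lpr_et (f117768 IH) (Lpr_gt (K32.f205709 IH) (Lpr_ef (K38.f546565 IH) (Lpe (K8.f157824 IH) (Lpr_gt (K8.f35528 IH) (Lpe (K1.f40026 IH) (Lpr_et (f101648 IH) (Lpn (LP (LK LD1_c1 LD2_c55 LD3_c31)))))))))))))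
theorem f175482 : Led Lsl_gt (LP (LK LD1_c1 LD2_c19 LD3_c53)) = (LP (LK LD1_c2 LD2_c46 LD3_c59)) :=
  Lre_g IH (LK LD1_c1 LD2_c19 LD3_c53) (LK LD1_c2 LD2_c46 LD3_c59) Lrfl Lrfl
theorem f181678 : Led Lsl_ct (LP (LK LD1_c5 LD2_c41 LD3_c60)) = (LP (LK LD1_c2 LD2_c46 LD3_c59)) :=
  Lre_c IH (LK LD1_c5 LD2_c41 LD3_c60) (LK LD1_c2 LD2_c46 LD3_c59) Lrfl Lrfl
theorem f40105 : Led Lsl_bt (LP (LK LD1_c0 LD2_c54 LD3_c29)) = (LP (LK LD1_c1 LD2_c55 LD3_c31)) :=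
  Lre_b IH (LK LD1_c0 LD2_c54 LD3_c29) (LK LD1_c1 LD2_c55 LD3_c31) Lrfl Lrfl
theorem f172416 : Led Lsl_bt (LP (LK LD1_c1 LD2_c10 LD3_c30)) = (LP (LK LD1_c1 LD2_c20 LD3_c0)) :=
  Lgr Lrot128 (Lpe (K13.f168872 IH) (Lpe (K9.f172413 IH) (Lpr_cf (K9.f172410 IH) (Lpe (K37.f172414 IH) (Lpe (K36.f172415 IH) (Lpn (LP (LK LD1_c1 LD2_c20 LD3_c0))))))))
theorem f551978 : Led Lsl_bt (LP (LK LD1_c5 LD2_c41 LD3_c60)) = (LP (LK LD1_c2 LD2_c47 LD3_c20)) :=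
  Lgr Lrot22 (Lpr_ct (f181678 IH) (Lpe (f175482 IH) (Lpe (K10.f181580 IH) (Lpr_gf (f551965 IH) (Lpe (f40105 IH) (Lpr_ct (K11.f39255 IH) (Lpe (K9.f174944 IH) (Lpe (K35.f172740 IH) (Lpr_bt (f172416 IH) (Lpe (K30.f172854 IH) (Lpn (LP (LK LD1_c2 LD2_c47 LD3_c20)))))))))))))
theorem f551987 : Led Lsl_ff (LP (LK LD1_c5 LD2_c41 LD3_c60)) = (LP (LK LD1_c7 LD2_c59 LD3_c13)) :=
  Lgr Lrot25 (Lpr_bt (f551978 IH) (Lpe (K31.f423841 IH) (Lpe (K38.f382093 IH) (Lpn (LP (LK LD1_c7 LD2_c59 LD3_c13))))))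
theorem f551995 : Led Lsl_ft (LP (LK LD1_c5 LD2_c41 LD3_c60)) = (LP (LK LD1_c7 LD2_c59 LD3_c13)) :=
  Lgr Lrot48 (Lpr_ff (f551987 IH) (Lpn (LP (LK LD1_c7 LD2_c59 LD3_c13))))
theorem f551977 : Led Lsl_dt (LP (LK LD1_c11 LD2_c14 LD3_c17)) = (LP (LK LD1_c5 LD2_c41 LD3_c60)) :=
  Lre_d IH (LK LD1_c11 LD2_c14 LD3_c17) (LK LD1_c5 LD2_c41 LD3_c60) Lrfl Lrfl
theorem f552001 : Led Lsl_ff (LP (LK LD1_c11 LD2_c14 LD3_c17)) = (LP (LK LD1_c15 LD2_c3 LD3_c52)) :=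
  Lgr Lrot19 (Lpr_dt (f551977 IH) (Lpr_ft (f551995 IH) (Lpr_dt (K38.f382079 IH) (Lpn (LP (LK LD1_c15 LD2_c3 LD3_c52))))))
theorem f423661 : Led Lsl_at (LP (LK LD1_c11 LD2_c13 LD3_c4)) = (LP (LK LD1_c15 LD2_c3 LD3_c52)) :=
  Lgr Lrot100 (Lpr_af (K38.f423536 IH) (Lpn (LP (LK LD1_c15 LD2_c3 LD3_c52))))
theorem f423545 : Led Lsl_ft (LP (LK LD1_c5 LD2_c41 LD3_c26)) = (LP (LK LD1_c7 LD2_c59 LD3_c12)) :=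
  Lgr Lrot48 (Lpr_ff (K38.f423538 IH) (Lpn (LP (LK LD1_c7 LD2_c59 LD3_c12))))
theorem f174548 : Led Lsl_dt (LP (LK LD1_c7 LD2_c59 LD3_c12)) = (LP (LK LD1_c15 LD2_c3 LD3_c51)) :=
  Lre_d IH (LK LD1_c7 LD2_c59 LD3_c12) (LK LD1_c15 LD2_c3 LD3_c51) Lrfl Lrfl
theorem f423549 : Led Lsl_ff (LP (LK LD1_c11 LD2_c13 LD3_c4)) = (LP (LK LD1_c15 LD2_c3 LD3_c51)) :=
  Lgr Lrot19 (Lpr_dt (K38.f174342 IH) (Lpr_ft (f423545 IH) (Lpr_dt (f174548 IH) (Lpn (LP (LK LD1_c15 LD2_c3 LD3_c51))))))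
theorem f552004 : Led Lsl_at (LP (LK LD1_c11 LD2_c14 LD3_c17)) = (LP (LK LD1_c15 LD2_c3 LD3_c51)) :=
  Lgr Lrot66 (Lpr_ff (f552001 IH) (Lpe (f423661 IH) (Lpr_ff (f423549 IH) (Lpn (LP (LK LD1_c15 LD2_c3 LD3_c51))))))
theorem f387058 : Led Lsl_ct (LP (LK LD1_c5 LD2_c37 LD3_c36)) = (LP (LK LD1_c2 LD2_c44 LD3_c45)) :=
  Lre_c IH (LK LD1_c5 LD2_c37 LD3_c36) (LK LD1_c2 LD2_c44 LD3_c45) Lrfl Lrfl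
theorem f402574 : Led Lsl_dt (LP (LK LD1_c11 LD2_c6 LD3_c44)) = (LP (LK LD1_c5 LD2_c37 LD3_c36)) :=
  Lre_d IH (LK LD1_c11 LD2_c6 LD3_c44) (LK LD1_c5 LD2_c37 LD3_c36) Lrfl Lrfl
theorem f427681 : Led Lsl_gt (LP (LK LD1_c15 LD2_c3 LD3_c52)) = (LP (LK LD1_c11 LD2_c6 LD3_c44)) :=
  Lgr Lrot49 (Lpe (K38.f382079 IH) (Lpe (K31.f382048 IH) (Lpe (K31.f174556 IH) (Lpr_gt (K36.f149994 IH) (Lpr_dt (K30.f172368 IH) (Lpr_gt (K30.f41052 IH) (Lpr_dt (K38.f427676 IH) (Lpe (f387058 IH) (Lpe (f402574 IH) (Lpn (LP (LK LD1_c11 LD2_c6 LD3_c44))))))))))))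
theorem f552012 : Led Lsl_gf (LP (LK LD1_c15 LD2_c3 LD3_c51)) = (LP (LK LD1_c11 LD2_c6 LD3_c44)) :=
  Lgr Lrot76 (Lpe (f552004 IH) (Lpr_ff (f552001 IH) (Lpr_gt (f427681 IH) (Lpn (LP (LK LD1_c11 LD2_c6 LD3_c44))))))
theorem f174552 : Led Lsl_dt (LP (LK LD1_c15 LD2_c3 LD3_c51)) = (LP (LK LD1_c7 LD2_c59 LD3_c12)) :=
  Lre_d IH (LK LD1_c15 LD2_c3 LD3_c51) (LK LD1_c7 LD2_c59 LD3_c12) Lrfl Lrfl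
theorem f427678 : Led Lsl_dt (LP (LK LD1_c5 LD2_c37 LD3_c36)) = (LP (LK LD1_c11 LD2_c6 LD3_c44)) :=
  Lre_d IH (LK LD1_c5 LD2_c37 LD3_c36) (LK LD1_c11 LD2_c6 LD3_c44) Lrfl Lrfl
theorem f552015 : Led Lsl_gt (LP (LK LD1_c3 LD2_c4 LD3_c58)) = (LP (LK LD1_c5 LD2_c37 LD3_c36)) :=
  Lgr Lrot94 (Lpe (K6.f132997 IH) (Lpr_gt (K38.f112363 IH) (Lpr_dt (K38.f547457 IH) (Lpr_gt (K38.f547481 IH) (Lpr_dt (K30.f174549 IH) (Lpe (K30.f174546 IH) (Lpe (f174552 IH) (Lpr_gf (f552012 IH) (Lpe (f427678 IH) (Lpn (LP (LK LD1_c5 LD2_c37 LD3_c36))))))))))))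
theorem f132952 : Led Lsl_ft (LP (LK LD1_c3 LD2_c4 LD3_c58)) = (LP (LK LD1_c6 LD2_c15 LD3_c44)) :=
  Lre_f IH (LK LD1_c3 LD2_c4 LD3_c58) (LK LD1_c6 LD2_c15 LD3_c44) Lrfl Lrfl
theorem f552019 : Led Lsl_gf (LP (LK LD1_c9 LD2_c19 LD3_c49)) = (LP (LK LD1_c5 LD2_c37 LD3_c36)) :=
  Lgr Lrot76 (Lpe (K6.f132941 IH) (Lpe (f132952 IH) (Lpr_gt (f552015 IH) (Lpn (LP (LK LD1_c5 LD2_c37 LD3_c36))))))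
theorem f387057 : Led Lsl_ct (LP (LK LD1_c2 LD2_c44 LD3_c45)) = (LP (LK LD1_c5 LD2_c37 LD3_c36)) :=
  Lre_c IH (LK LD1_c2 LD2_c44 LD3_c45) (LK LD1_c5 LD2_c37 LD3_c36) Lrfl Lrfl
theorem f381218 : Led Lsl_gt (LP (LK LD1_c2 LD2_c44 LD3_c49)) = (LP (LK LD1_c5 LD2_c37 LD3_c44)) :=
  Lre_g IH (LK LD1_c2 LD2_c44 LD3_c49) (LK LD1_c5 LD2_c37 LD3_c44) Lrfl Lrfl
theorem f381225 : Led Lsl_ct (LP (LK LD1_c5 LD2_c37 LD3_c44)) = (LP (LK LD1_c11 LD2_c6 LD3_c53)) :=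
  Lre_c IH (LK LD1_c5 LD2_c37 LD3_c44) (LK LD1_c11 LD2_c6 LD3_c53) Lrfl Lrfl
theorem f174139 : Led Lsl_bt (LP (LK LD1_c5 LD2_c41 LD3_c49)) = (LP (LK LD1_c2 LD2_c46 LD3_c56)) :=
  Lre_b IH (LK LD1_c5 LD2_c41 LD3_c49) (LK LD1_c2 LD2_c46 LD3_c56) Lrfl Lrfl
theorem f174140 : Led Lsl_ct (LP (LK LD1_c5 LD2_c41 LD3_c49)) = (LP (LK LD1_c11 LD2_c13 LD3_c49)) :=
  Lre_c IH (LK LD1_c5 LD2_c41 LD3_c49) (LK LD1_c11 LD2_c13 LD3_c49) Lrfl Lrfl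
theorem f402597 : Led Lsl_gt (LP (LK LD1_c11 LD2_c6 LD3_c53)) = (LP (LK LD1_c11 LD2_c13 LD3_c49)) :=
  Lgr Lrot149 (Lpe (f381225 IH) (Lpe (f381218 IH) (Lpe (K36.f319458 IH) (Lpr_ct (K36.f319420 IH) (Lpr_gf (K12.f225924 IH) (Lpr_cf (K9.f174110 IH) (Lpr_bt (K31.f174114 IH) (Lpe (K31.f174138 IH) (Lpe (f174139 IH) (Lpr_ct (f174140 IH) (Lpn (LP (LK LD1_c11 LD2_c13 LD3_c49)))))))))))))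
theorem f181576 : Led Lsl_ct (LP (LK LD1_c11 LD2_c13 LD3_c49)) = (LP (LK LD1_c5 LD2_c41 LD3_c49)) :=
  Lre_c IH (LK LD1_c11 LD2_c13 LD3_c49) (LK LD1_c5 LD2_c41 LD3_c49) Lrfl Lrfl
theorem f552033 : Led Lsl_dt (LP (LK LD1_c4 LD2_c42 LD3_c56)) = (LP (LK LD1_c5 LD2_c41 LD3_c49)) :=
  Lgr Lrot27 (Lpe (K6.f132843 IH) (Lpr_gf (f552019 IH) (Lpe (f387057 IH) (Lpe (K38.f319450 IH) (Lpe (K36.f387054 IH) (Lpr_gt (f381218 IH) (Lpr_ct (f381225 IH) (Lpr_gt (f402597 IH) (Lpr_ct (f181576 IH) (Lpn (LP (LK LD1_c5 LD2_c41 LD3_c49))))))))))))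
theorem f182433 : Led Lsl_dt (LP (LK LD1_c2 LD2_c0 LD3_c10)) = (LP (LK LD1_c4 LD2_c5 LD3_c44)) :=
  Lre_d IH (LK LD1_c2 LD2_c0 LD3_c10) (LK LD1_c4 LD2_c5 LD3_c44) Lrfl Lrfl
theorem f198557 : Led Lsl_gt (LP (LK LD1_c4 LD2_c5 LD3_c44)) = (LP (LK LD1_c8 LD2_c12 LD3_c11)) :=
  Lre_g IH (LK LD1_c4 LD2_c5 LD3_c44) (LK LD1_c8 LD2_c12 LD3_c11) Lrfl Lrfl
theorem f172649 : Led Lsl_at (LP (LK LD1_c2 LD2_c26 LD3_c10)) = (LP (LK LD1_c1 LD2_c10 LD3_c18)) :=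
  Lre_a IH (LK LD1_c2 LD2_c26 LD3_c10) (LK LD1_c1 LD2_c10 LD3_c18) Lrfl Lrfl
theorem f385262 : Led Lsl_ft (LP (LK LD1_c3 LD2_c58 LD3_c55)) = (LP (LK LD1_c2 LD2_c26 LD3_c10)) :=
  Lgr Lrot101 (Lpe (K18.f175981 IH) (Lpr_ff (K30.f385258 IH) (Lpe (f172649 IH) (Lpn (LP (LK LD1_c2 LD2_c26 LD3_c10))))))
theorem f386168 : Led Lsl_gt (LP (LK LD1_c3 LD2_c58 LD3_c55)) = (LP (LK LD1_c2 LD2_c26 LD3_c9)) :=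
  Lgr Lrot5 (Lpr_ft (f385262 IH) (Lpr_at (f172649 IH) (Lpe (K36.f172629 IH) (Lpn (LP (LK LD1_c2 LD2_c26 LD3_c9))))))
theorem f176006 : Led Lsl_dt (LP (LK LD1_c2 LD2_c59 LD3_c58)) = (LP (LK LD1_c6 LD2_c7 LD3_c33)) :=
  Lre_d IH (LK LD1_c2 LD2_c59 LD3_c58) (LK LD1_c6 LD2_c7 LD3_c33) Lrfl Lrfl
theorem f176018 : Led Lsl_dt (LP (LK LD1_c2 LD2_c59 LD3_c60)) = (LP (LK LD1_c1 LD2_c25 LD3_c45)) :=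
  Lre_d IH (LK LD1_c2 LD2_c59 LD3_c60) (LK LD1_c1 LD2_c25 LD3_c45) Lrfl Lrfl
theorem f407102 : Led Lsl_ff (LP (LK LD1_c2 LD2_c59 LD3_c60)) = (LP (LK LD1_c4 LD2_c5 LD3_c44)) :=
  Lgr Lrot19 (Lpr_dt (f176018 IH) (Lpr_ft (K30.f296980 IH) (Lpr_dt (f182433 IH) (Lpn (LP (LK LD1_c4 LD2_c5 LD3_c44))))))
theorem f296986 : Led Lsl_at (LP (LK LD1_c2 LD2_c59 LD3_c60)) = (LP (LK LD1_c6 LD2_c7 LD3_c33)) :=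
  Lre_a IH (LK LD1_c2 LD2_c59 LD3_c60) (LK LD1_c6 LD2_c7 LD3_c33) Lrfl Lrfl
theorem f407109 : Led Lsl_gf (LP (LK LD1_c6 LD2_c7 LD3_c33)) = (LP (LK LD1_c8 LD2_c12 LD3_c11)) :=
  Lgr Lrot76 (Lpe (f296986 IH) (Lpr_ff (f407102 IH) (Lpr_gt (f198557 IH) (Lpn (LP (LK LD1_c8 LD2_c12 LD3_c11))))))
theorem f541363 : Led Lsl_df (LP (LK LD1_c8 LD2_c12 LD3_c11)) = (LP (LK LD1_c4 LD2_c7 LD3_c4)) :=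
  Lgr Lrot135 (Lpe (f407109 IH) (Lpe (f176006 IH) (Lpe (f175996 IH) (Lpr_gt (f386168 IH) (Lpr_ef (K36.f541357 IH) (Lpr_dt (K8.f138519 IH) (Lpe (K8.f157868 IH) (Lpe (K8.f157866 IH) (Lpe (K36.f538405 IH) (Lpr_gt (K37.f55918 IH) (Lpn (LP (LK LD1_c4 LD2_c7 LD3_c4)))))))))))))
theorem f204814 : Led Lsl_ct (LP (LK LD1_c2 LD2_c9 LD3_c29)) = (LP (LK LD1_c1 LD2_c27 LD3_c55)) :=
  Lgr Lrot59 (Lpr_cf (K13.f204812 IH) (Lpn (LP (LK LD1_c1 LD2_c27 LD3_c55))))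
theorem f453045 : Led Lsl_ff (LP (LK LD1_c2 LD2_c9 LD3_c29)) = (LP (LK LD1_c1 LD2_c28 LD3_c16)) :=
  Lgr Lrot23 (Lpr_ct (f204814 IH) (Lpr_ft (K31.f453041 IH) (Lpr_ct (K11.f59091 IH) (Lpn (LP (LK LD1_c1 LD2_c28 LD3_c16))))))
theorem f210526 : Led Lsl_dt (LP (LK LD1_c1 LD2_c28 LD3_c16)) = (LP (LK LD1_c3 LD2_c4 LD3_c33)) :=
  Lre_d IH (LK LD1_c1 LD2_c28 LD3_c16) (LK LD1_c3 LD2_c4 LD3_c33) Lrfl Lrfl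
def v2353 : LQ := Led Lsl_gt (LP (LK LD1_c1 LD2_c43 LD3_c17))
theorem f514920 : Led Lsl_gt (LP (LK LD1_c1 LD2_c43 LD3_c17)) = v2353 :=
  Lrfl
theorem f203667 : Led Lsl_gt (LP (LK LD1_c7 LD2_c20 LD3_c19)) = (LP (LK LD1_c7 LD2_c49 LD3_c21)) :=
  Lgr Lrot149 (Lpe (K36.f203655 IH) (Lpr_gf (K28.f203663 IH) (Lpe (K28.f203646 IH) (Lpr_ct (K7.f123481 IH) (Lpe (K8.f145038 IH) (Lpe (K6.f129564 IH) (Lpr_bt (K5.f123449 IH) (Lpr_gf (K7.f145258 IH) (Lpe (K36.f142481 IH) (Lpr_ct (K6.f142476 IH) (Lpn (LP (LK LD1_c7 LD2_c49 LD3_c21)))))))))))))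
theorem f203654 : Led Lsl_bt (LP (LK LD1_c3 LD2_c40 LD3_c6)) = (LP (LK LD1_c7 LD2_c20 LD3_c19)) :=
  Lre_b IH (LK LD1_c3 LD2_c40 LD3_c6) (LK LD1_c7 LD2_c20 LD3_c19) Lrfl Lrfl
theorem f514923 : Led Lsl_ct (LP (LK LD1_c3 LD2_c40 LD3_c6)) = v2353 :=
  Lgr Lrot63 (Lpr_bt (f203654 IH) (Lpr_gt (f203667 IH) (Lpr_bf (K36.f142507 IH) (Lpe (K6.f114438 IH) (Lpr_gt (K8.f155642 IH) (Lpe (K6.f95899 IH) (Lpe (K8.f155648 IH) (Lpr_gt (K8.f11771 IH) (Lpr_ct (K8.f11646 IH) (Lpr_gt (f514920 IH) (Lpn v2353)))))))))))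
theorem f445778 : Led Lsl_ff (LP (LK LD1_c6 LD2_c13 LD3_c32)) = (LP (LK LD1_c4 LD2_c0 LD3_c9)) :=
  Lgr Lrot3 (Lpr_ft (K37.f445774 IH) (Lpn (LP (LK LD1_c4 LD2_c0 LD3_c9))))
theorem f445780 : Led Lsl_ft (LP (LK LD1_c3 LD2_c42 LD3_c13)) = (LP (LK LD1_c3 LD2_c40 LD3_c5)) :=
  Lgr Lrot54 (Lpr_df (K37.f443863 IH) (Lpr_ff (f445778 IH) (Lpe (K37.f36495 IH) (Lpn (LP (LK LD1_c3 LD2_c40 LD3_c5))))))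
theorem f445782 : Led Lsl_af (LP (LK LD1_c3 LD2_c42 LD3_c14)) = (LP (LK LD1_c3 LD2_c40 LD3_c5)) :=
  Lgr Lrot31 (Lpr_gf (K28.f159470 IH) (Lpr_gf (K36.f425493 IH) (Lpr_ft (f445780 IH) (Lpn (LP (LK LD1_c3 LD2_c40 LD3_c5))))))
theorem f445784 : Led Lsl_at (LP (LK LD1_c3 LD2_c42 LD3_c14)) = (LP (LK LD1_c3 LD2_c40 LD3_c5)) :=
  Lgr Lrot100 (Lpr_af (f445782 IH) (Lpn (LP (LK LD1_c3 LD2_c40 LD3_c5))))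
theorem f445790 : Led Lsl_ff (LP (LK LD1_c3 LD2_c42 LD3_c14)) = (LP (LK LD1_c3 LD2_c40 LD3_c6)) :=
  Lgr Lrot52 (Lpr_at (f445784 IH) (Lpe (K8.f36494 IH) (Lpe (K28.f142731 IH) (Lpn (LP (LK LD1_c3 LD2_c40 LD3_c6))))))
theorem f445792 : Led Lsl_at (LP (LK LD1_c3 LD2_c42 LD3_c13)) = (LP (LK LD1_c3 LD2_c40 LD3_c6)) :=
  Lgr Lrot66 (Lpr_ff (K37.f445776 IH) (Lpe (f445784 IH) (Lpr_ff (f445790 IH) (Lpn (LP (LK LD1_c3 LD2_c40 LD3_c6))))))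
theorem f514926 : Led Lsl_af (LP (LK LD1_c3 LD2_c36 LD3_c36)) = v2353 :=
  Lgr Lrot68 (Lpe (K36.f160586 IH) (Lpr_at (f445792 IH) (Lpr_ct (f514923 IH) (Lpn v2353))))
theorem f514929 : Led Lsl_at (LP (LK LD1_c3 LD2_c36 LD3_c36)) = v2353 :=
  Lgr Lrot100 (Lpr_af (f514926 IH) (Lpn v2353))
theorem f453284 : Led Lsl_af (LP (LK LD1_c1 LD2_c28 LD3_c17)) = (LP (LK LD1_c3 LD2_c1 LD3_c0)) :=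
  Lgr Lrot0 (Lpr_at (K35.f453282 IH) (Lpn (LP (LK LD1_c3 LD2_c1 LD3_c0))))
theorem f453321 : Led Lsl_at (LP (LK LD1_c3 LD2_c4 LD3_c34)) = (LP (LK LD1_c4 LD2_c22 LD3_c35)) :=
  Lgr Lrot107 (Lpe (K12.f211035 IH) (Lpr_af (f453284 IH) (Lpe (K18.f229344 IH) (Lpn (LP (LK LD1_c4 LD2_c22 LD3_c35))))))
theorem f211113 : Led Lsl_et (LP (LK LD1_c1 LD2_c28 LD3_c16)) = (LP (LK LD1_c3 LD2_c4 LD3_c34)) :=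
  Lre_e IH (LK LD1_c1 LD2_c28 LD3_c16) (LK LD1_c3 LD2_c4 LD3_c34) Lrfl Lrfl
theorem f453323 : Led Lsl_af (LP (LK LD1_c1 LD2_c28 LD3_c16)) = (LP (LK LD1_c2 LD2_c9 LD3_c28)) :=
  Lgr Lrot50 (Lpr_et (f211113 IH) (Lpr_at (f453321 IH) (Lpr_et (K31.f229331 IH) (Lpn (LP (LK LD1_c2 LD2_c9 LD3_c28))))))
theorem f453325 : Led Lsl_at (LP (LK LD1_c1 LD2_c28 LD3_c16)) = (LP (LK LD1_c2 LD2_c9 LD3_c28)) :=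
  Lgr Lrot100 (Lpr_af (f453323 IH) (Lpn (LP (LK LD1_c2 LD2_c9 LD3_c28))))
theorem f210525 : Led Lsl_dt (LP (LK LD1_c3 LD2_c4 LD3_c33)) = (LP (LK LD1_c1 LD2_c28 LD3_c16)) :=
  Lre_d IH (LK LD1_c3 LD2_c4 LD3_c33) (LK LD1_c1 LD2_c28 LD3_c16) Lrfl Lrfl
theorem f542981 : v2353 = (LP (LK LD1_c3 LD2_c4 LD3_c33)) :=
  (Llr Lrot51 (Lpe (f514929 IH) (Lpr_df (K37.f542960 IH) (Lpe (f453325 IH) (Lpe (f210525 IH) (Lpn (LP (LK LD1_c3 LD2_c4 LD3_c33)))))))).symm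
theorem f12360 : Led Lsl_bt (LP (LK LD1_c1 LD2_c47 LD3_c1)) = (LP (LK LD1_c0 LD2_c50 LD3_c18)) :=
  Lre_b IH (LK LD1_c1 LD2_c47 LD3_c1) (LK LD1_c0 LD2_c50 LD3_c18) Lrfl Lrfl
theorem f90067 : Led Lsl_ct (LP (LK LD1_c1 LD2_c45 LD3_c21)) = (LP (LK LD1_c1 LD2_c47 LD3_c1)) :=
  Lgr Lrot83 (Lpe (K36.f90066 IH) (Lpr_cf (K2.f90064 IH) (Lpe (K4.f12354 IH) (Lpe (K4.f12359 IH) (Lpe (f12360 IH) (Lpn (LP (LK LD1_c1 LD2_c47 LD3_c1))))))))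
theorem f514922 : Led Lsl_cf (LP (LK LD1_c3 LD2_c40 LD3_c6)) = v2353 :=
  Lgr Lrot125 (Lpr_gt (K28.f142731 IH) (Lpe (f90067 IH) (Lpr_bt (K38.f6682 IH) (Lpr_gt (K2.f6681 IH) (Lpr_bf (K3.f5890 IH) (Lpr_ct (K3.f6095 IH) (Lpr_gt (K2.f5898 IH) (Lpe (K3.f6683 IH) (Lpr_bt (K8.f6684 IH) (Lpr_gt (f514920 IH) (Lpn v2353)))))))))))
theorem f159461 : Led Lsl_dt (LP (LK LD1_c3 LD2_c40 LD3_c6)) = (LP (LK LD1_c7 LD2_c20 LD3_c20)) :=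
  Lre_d IH (LK LD1_c3 LD2_c40 LD3_c6) (LK LD1_c7 LD2_c20 LD3_c20) Lrfl Lrfl
theorem f453062 : Led Lsl_af (LP (LK LD1_c1 LD2_c28 LD3_c18)) = (LP (LK LD1_c2 LD2_c9 LD3_c29)) :=
  Lgr Lrot0 (Lpr_at (K31.f453060 IH) (Lpn (LP (LK LD1_c2 LD2_c9 LD3_c29))))
theorem f503084 : Led Lsl_cf (LP (LK LD1_c1 LD2_c28 LD3_c19)) = K32.v1818 :=
  Lgr Lrot11 (Lpr_ct (K32.f503083 IH) (Lpn K32.v1818))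
theorem f560142 : Led Lsl_ct (LP (LK LD1_c7 LD2_c20 LD3_c20)) = (LP (LK LD1_c4 LD2_c24 LD3_c29)) :=
  Lgr Lrot41 (Lpe (f159461 IH) (Lpr_cf (f514922 IH) (Lpqs (f542981 IH) (Lpe (f210526 IH) (Lpe (f453045 IH) (Lpe (f453062 IH) (Lpe (K13.f59145 IH) (Lpe (K11.f59096 IH) (Lpr_cf (f503084 IH) (Lpe (K32.f503086 IH) (Lpn (LP (LK LD1_c4 LD2_c24 LD3_c29)))))))))))))
theorem f503087 : Led Lsl_df (LP (LK LD1_c4 LD2_c24 LD3_c29)) = K32.v1818 :=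
  Lgr Lrot38 (Lpr_dt (K32.f503086 IH) (Lpn K32.v1818))
def v1552 : LQ := Led Lsl_at (LP (LK LD1_c1 LD2_c21 LD3_c36))
theorem f496229 : Led Lsl_at (LP (LK LD1_c1 LD2_c21 LD3_c36)) = v1552 :=
  Lrfl
theorem f496232 : Led Lsl_cf (LP (LK LD1_c3 LD2_c3 LD3_c36)) = v1552 :=
  Lgr Lrot1 (Lpr_at (K8.f80879 IH) (Lpr_ct (K8.f37977 IH) (Lpr_at (f496229 IH) (Lpn v1552))))
theorem f453290 : Led Lsl_ft (LP (LK LD1_c1 LD2_c57 LD3_c6)) = (LP (LK LD1_c1 LD2_c26 LD3_c20)) :=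
  Lgr Lrot2 (Lpr_gt (K11.f35655 IH) (Lpe (K11.f211040 IH) (Lpr_af (K35.f453286 IH) (Lpn (LP (LK LD1_c1 LD2_c26 LD3_c20))))))
theorem f227836 : Led Lsl_bt (LP (LK LD1_c1 LD2_c57 LD3_c6)) = (LP (LK LD1_c1 LD2_c57 LD3_c6)) :=
  Lgr Lrot95 (Lpe (K12.f182407 IH) (Lpr_bf (K12.f227830 IH) (Lpr_df (K12.f182396 IH) (Lpn (LP (LK LD1_c1 LD2_c57 LD3_c6))))))
theorem f453294 : Led Lsl_ff (LP (LK LD1_c1 LD2_c57 LD3_c6)) = (LP (LK LD1_c1 LD2_c26 LD3_c20)) :=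
  Lgr Lrot25 (Lpr_bt (f227836 IH) (Lpr_ft (f453290 IH) (Lpe (K31.f272442 IH) (Lpn (LP (LK LD1_c1 LD2_c26 LD3_c20))))))
theorem f453263 : Led Lsl_af (LP (LK LD1_c1 LD2_c26 LD3_c20)) = (LP (LK LD1_c1 LD2_c22 LD3_c11)) :=
  Lgr Lrot31 (Lpe (K11.f35651 IH) (Lpr_gf (K12.f227477 IH) (Lpr_ft (K31.f453259 IH) (Lpn (LP (LK LD1_c1 LD2_c22 LD3_c11))))))
theorem f453312 : Led Lsl_at (LP (LK LD1_c1 LD2_c57 LD3_c6)) = (LP (LK LD1_c1 LD2_c22 LD3_c9)) :=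
  Lgr Lrot66 (Lpr_ff (f453294 IH) (Lpr_af (f453263 IH) (Lpe (K31.f453259 IH) (Lpn (LP (LK LD1_c1 LD2_c22 LD3_c9))))))
theorem f500244 : Led Lsl_af (LP (LK LD1_c1 LD2_c28 LD3_c19)) = K35.v1594 :=
  Lgr Lrot50 (Lpe (K11.f69680 IH) (Lpr_at (f453312 IH) (Lpr_et (K35.f500243 IH) (Lpn K35.v1594))))
theorem f536773 : (LP (LK LD1_c1 LD2_c28 LD3_c19)) = v1552 :=
  Lefun (Lecon (Lfl_af (f500244 IH)) (K35.f536683 IH).symm) (f496229 IH)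
theorem f536938 : (LP (LK LD1_c3 LD2_c3 LD3_c36)) = K32.v1818 :=
  Lefun (Lecon (Lfl_cf (f496232 IH)) (f536773 IH).symm) (K32.f503083 IH)
theorem f182402 : Led Lsl_ct (LP (LK LD1_c4 LD2_c1 LD3_c18)) = (LP (LK LD1_c1 LD2_c57 LD3_c34)) :=
  Lre_c IH (LK LD1_c4 LD2_c1 LD3_c18) (LK LD1_c1 LD2_c57 LD3_c34) Lrfl Lrfl
theorem f255509 : Led Lsl_gf (LP (LK LD1_c5 LD2_c50 LD3_c48)) = (LP (LK LD1_c4 LD2_c42 LD3_c43)) :=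
  Lgr Lrot76 (Lpr_af (K14.f255503 IH) (Lpe (K14.f59083 IH) (Lpr_gt (K32.f56618 IH) (Lpn (LP (LK LD1_c4 LD2_c42 LD3_c43))))))
theorem f560150 : Led Lsl_gf (LP (LK LD1_c7 LD2_c20 LD3_c20)) = (LP (LK LD1_c6 LD2_c15 LD3_c6)) :=
  Lgr Lrot104 (Lpr_ct (f560142 IH) (Lpr_df (f503087 IH) (Lpq (f536938 IH) (Lpr_cf (f496232 IH) (Lpq (f536773 IH) (Lpr_gf (K12.f182400 IH) (Lpe (f182402 IH) (Lpr_gf (K32.f503175 IH) (Lpe (K32.f503176 IH) (Lpe (f255509 IH) (Lpr_ct (K14.f255497 IH) (Lpn (LP (LK LD1_c6 LD2_c15 LD3_c6))))))))))))))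
theorem f523749 : Led Lsl_ct K37.v2487 = K37.v2519 :=
  Lgr Lrot63 (Lpe (K37.f522753 IH) (Lpe (K33.f522540 IH) (Lpe (K2.f92341 IH) (Lpe (K2.f94489 IH) (Lpe (K4.f111497 IH) (Lpr_cf (K4.f92452 IH) (Lpe (K37.f116466 IH) (Lpe (K37.f439390 IH) (Lpe (K24.f439365 IH) (Lpr_gt (K37.f523747 IH) (Lpn K37.v2519)))))))))))
theorem f540369 : K37.v2519 = (LP (LK LD1_c3 LD2_c4 LD3_c31)) :=
  Lefun (Lecon (f523749 IH) (K37.f540328 IH)) (K14.f59080 IH)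
theorem f439292 : Led Lsl_at (LP (LK LD1_c3 LD2_c40 LD3_c47)) = (LP (LK LD1_c3 LD2_c43 LD3_c34)) :=
  Lgr Lrot66 (Lpr_ff (K24.f159672 IH) (Lpe (K24.f439274 IH) (Lpr_ff (K24.f439290 IH) (Lpn (LP (LK LD1_c3 LD2_c43 LD3_c34))))))
theorem f523748 : Led Lsl_gf (LP (LK LD1_c3 LD2_c43 LD3_c34)) = K37.v2519 :=
  Lgr Lrot76 (Lpe (f439292 IH) (Lpr_ff (K24.f159672 IH) (Lpr_gt (K37.f523747 IH) (Lpn K37.v2519))))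
theorem f560156 : Led Lsl_df (LP (LK LD1_c4 LD2_c24 LD3_c30)) = (LP (LK LD1_c3 LD2_c44 LD3_c2)) :=
  Lgr Lrot162 (Lpe (K36.f59383 IH) (Lpe (K32.f59387 IH) (Lpe (f560142 IH) (Lpr_gf (f560150 IH) (Lpr_dt (K14.f59138 IH) (Lpq (f540369 IH) (Lpe (f523748 IH) (Lpe (K24.f439225 IH) (Lpe (K24.f108283 IH) (Lpr_ct (K4.f116188 IH) (Lpn (LP (LK LD1_c3 LD2_c44 LD3_c2)))))))))))))
theorem f205551 : Led Lsl_dt (LP (LK LD1_c8 LD2_c46 LD3_c34)) = (LP (LK LD1_c16 LD2_c25 LD3_c10)) :=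
  Lre_d IH (LK LD1_c8 LD2_c46 LD3_c34) (LK LD1_c16 LD2_c25 LD3_c10) Lrfl Lrfl
theorem f560160 : Led Lsl_et (LP (LK LD1_c16 LD2_c25 LD3_c10)) = (LP (LK LD1_c14 LD2_c7 LD3_c22)) :=
  Lgr Lrot71 (Lpe (f205551 IH) (Lpe (K11.f205578 IH) (Lpr_df (f560156 IH) (Lpe (K33.f116241 IH) (Lpe (K4.f116249 IH) (Lpn (LP (LK LD1_c14 LD2_c7 LD3_c22))))))))
theorem f560166 : Led Lsl_ef (LP (LK LD1_c16 LD2_c25 LD3_c10)) = (LP (LK LD1_c14 LD2_c7 LD3_c22)) :=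
  Lgr Lrot88 (Lpr_et (f560160 IH) (Lpn (LP (LK LD1_c14 LD2_c7 LD3_c22))))
theorem f116442 : Led Lsl_et (LP (LK LD1_c23 LD2_c28 LD3_c56)) = (LP (LK LD1_c13 LD2_c57 LD3_c10)) :=
  Lre_e IH (LK LD1_c23 LD2_c28 LD3_c56) (LK LD1_c13 LD2_c57 LD3_c10) Lrfl Lrfl
theorem f560184 : Led Lsl_bt (LP (LK LD1_c16 LD2_c25 LD3_c10)) = (LP (LK LD1_c23 LD2_c28 LD3_c56)) :=
  Lgr Lrot119 (Lpr_ef (f560166 IH) (Lpe (K4.f116429 IH) (Lpe (f116442 IH) (Lpn (LP (LK LD1_c23 LD2_c28 LD3_c56))))))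
theorem f469501 : Led Lsl_dt (LP (LK LD1_c23 LD2_c28 LD3_c56)) = (LP (LK LD1_c13 LD2_c57 LD3_c9)) :=
  Lre_d IH (LK LD1_c23 LD2_c28 LD3_c56) (LK LD1_c13 LD2_c57 LD3_c9) Lrfl Lrfl
theorem f560188 : Led Lsl_bf (LP (LK LD1_c8 LD2_c46 LD3_c34)) = (LP (LK LD1_c13 LD2_c57 LD3_c9)) :=
  Lgr Lrot93 (Lpr_dt (f205551 IH) (Lpr_bt (f560184 IH) (Lpr_dt (f469501 IH) (Lpn (LP (LK LD1_c13 LD2_c57 LD3_c9))))))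
theorem f205556 : Led Lsl_ft (LP (LK LD1_c8 LD2_c46 LD3_c34)) = (LP (LK LD1_c16 LD2_c25 LD3_c11)) :=
  Lre_f IH (LK LD1_c8 LD2_c46 LD3_c34) (LK LD1_c16 LD2_c25 LD3_c11) Lrfl Lrfl
theorem f560194 : Led Lsl_bt (LP (LK LD1_c16 LD2_c25 LD3_c11)) = (LP (LK LD1_c23 LD2_c28 LD3_c57)) :=
  Lgr Lrot35 (Lpe (f205556 IH) (Lpr_bf (f560188 IH) (Lpe (K5.f123879 IH) (Lpn (LP (LK LD1_c23 LD2_c28 LD3_c57))))))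
theorem f75734 : Led Lsl_ct (LP (LK LD1_c16 LD2_c25 LD3_c11)) = (LP (LK LD1_c8 LD2_c46 LD3_c35)) :=
  Lre_c IH (LK LD1_c16 LD2_c25 LD3_c11) (LK LD1_c8 LD2_c46 LD3_c35) Lrfl Lrfl
theorem f159688 : Led Lsl_dt (LP (LK LD1_c3 LD2_c40 LD3_c50)) = (LP (LK LD1_c7 LD2_c21 LD3_c54)) :=
  Lre_d IH (LK LD1_c3 LD2_c40 LD3_c50) (LK LD1_c7 LD2_c21 LD3_c54) Lrfl Lrfl
theorem f440147 : Led Lsl_ct (LP (LK LD1_c7 LD2_c21 LD3_c54)) = (LP (LK LD1_c13 LD2_c55 LD3_c31)) :=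
  Lre_c IH (LK LD1_c7 LD2_c21 LD3_c54) (LK LD1_c13 LD2_c55 LD3_c31) Lrfl Lrfl
theorem f543416 : Led Lsl_df (LP (LK LD1_c16 LD2_c25 LD3_c11)) = (LP (LK LD1_c13 LD2_c55 LD3_c31)) :=
  Lgr Lrot43 (Lpr_ct (f75734 IH) (Lpr_dt (K11.f75733 IH) (Lpr_ct (K11.f75720 IH) (Lpr_dt (K11.f75743 IH) (Lpr_ct (K11.f75744 IH) (Lpr_dt (K11.f75745 IH) (Lpr_ct (K11.f205496 IH) (Lpr_dt (K11.f205495 IH) (Lpr_ct (K11.f205494 IH) (Lpr_dt (K11.f205493 IH) (Lpe (K11.f205486 IH) (Lpr_dt (K37.f543410 IH) (Lpe (K37.f128306 IH) (Lpr_dt (f159688 IH) (Lpr_ct (f440147 IH) (Lpn (LP (LK LD1_c13 LD2_c55 LD3_c31))))))))))))))))))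
theorem f462381 : Led Lsl_bt (LP (LK LD1_c23 LD2_c26 LD3_c15)) = (LP (LK LD1_c13 LD2_c55 LD3_c31)) :=
  Lre_b IH (LK LD1_c23 LD2_c26 LD3_c15) (LK LD1_c13 LD2_c55 LD3_c31) Lrfl Lrfl
theorem f560200 : Led Lsl_df (LP (LK LD1_c23 LD2_c26 LD3_c15)) = (LP (LK LD1_c23 LD2_c28 LD3_c57)) :=
  Lgr Lrot12 (Lpr_bt (f462381 IH) (Lpe (f543416 IH) (Lpr_bt (f560194 IH) (Lpn (LP (LK LD1_c23 LD2_c28 LD3_c57))))))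
theorem f123917 : Led Lsl_ft (LP (LK LD1_c13 LD2_c57 LD3_c9)) = (LP (LK LD1_c23 LD2_c28 LD3_c57)) :=
  Lre_f IH (LK LD1_c13 LD2_c57 LD3_c9) (LK LD1_c23 LD2_c28 LD3_c57) Lrfl Lrfl
theorem f560210 : Led Lsl_ft (LP (LK LD1_c23 LD2_c26 LD3_c15)) = (LP (LK LD1_c23 LD2_c28 LD3_c56)) :=
  Lgr Lrot54 (Lpr_df (f560200 IH) (Lpe (f123917 IH) (Lpe (f469501 IH) (Lpn (LP (LK LD1_c23 LD2_c28 LD3_c56))))))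
theorem f560224 : Led Lsl_ff (LP (LK LD1_c23 LD2_c26 LD3_c15)) = (LP (LK LD1_c23 LD2_c28 LD3_c56)) :=
  Lgr Lrot3 (Lpr_ft (f560210 IH) (Lpn (LP (LK LD1_c23 LD2_c28 LD3_c56))))
theorem f560209 : Led Lsl_et (LP (LK LD1_c23 LD2_c26 LD3_c15)) = (LP (LK LD1_c31 LD2_c2 LD3_c61)) :=
  Lre_e IH (LK LD1_c23 LD2_c26 LD3_c15) (LK LD1_c31 LD2_c2 LD3_c61) Lrfl Lrfl
theorem f116433 : Led Lsl_et (LP (LK LD1_c13 LD2_c57 LD3_c10)) = (LP (LK LD1_c23 LD2_c28 LD3_c56)) :=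
  Lre_e IH (LK LD1_c13 LD2_c57 LD3_c10) (LK LD1_c23 LD2_c28 LD3_c56) Lrfl Lrfl
theorem f466359 : Led Lsl_at (LP (LK LD1_c13 LD2_c24 LD3_c49)) = (LP (LK LD1_c22 LD2_c43 LD3_c6)) :=
  Lre_a IH (LK LD1_c13 LD2_c24 LD3_c49) (LK LD1_c22 LD2_c43 LD3_c6) Lrfl Lrfl
theorem f466360 : Led Lsl_ff (LP (LK LD1_c13 LD2_c57 LD3_c10)) = (LP (LK LD1_c22 LD2_c43 LD3_c6)) :=
  Lgr Lrot30 (Lpr_at (K4.f116292 IH) (Lpr_ft (K28.f466352 IH) (Lpr_at (f466359 IH) (Lpn (LP (LK LD1_c22 LD2_c43 LD3_c6))))))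
theorem f466378 : Led Lsl_et (LP (LK LD1_c30 LD2_c40 LD3_c25)) = (LP (LK LD1_c22 LD2_c43 LD3_c6)) :=
  Lre_e IH (LK LD1_c30 LD2_c40 LD3_c25) (LK LD1_c22 LD2_c43 LD3_c6) Lrfl Lrfl
theorem f560234 : Led Lsl_ft (LP (LK LD1_c31 LD2_c2 LD3_c61)) = (LP (LK LD1_c30 LD2_c40 LD3_c25)) :=
  Lgr Lrot86 (Lpe (f560209 IH) (Lpr_ff (f560224 IH) (Lpe (f116433 IH) (Lpr_ff (f466360 IH) (Lpe (f466378 IH) (Lpn (LP (LK LD1_c30 LD2_c40 LD3_c25))))))))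
theorem f560239 : Led Lsl_ct (LP (LK LD1_c23 LD2_c26 LD3_c47)) = (LP (LK LD1_c31 LD2_c2 LD3_c61)) :=
  Lre_c IH (LK LD1_c23 LD2_c26 LD3_c47) (LK LD1_c31 LD2_c2 LD3_c61) Lrfl Lrfl
theorem f463381 : Led Lsl_ft (LP (LK LD1_c31 LD2_c3 LD3_c23)) = (LP (LK LD1_c23 LD2_c26 LD3_c47)) :=
  Lre_f IH (LK LD1_c31 LD2_c3 LD3_c23) (LK LD1_c23 LD2_c26 LD3_c47) Lrfl Lrfl
theorem f560240 : Led Lsl_cf (LP (LK LD1_c31 LD2_c3 LD3_c23)) = (LP (LK LD1_c30 LD2_c40 LD3_c25)) :=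
  Lgr Lrot108 (Lpr_ft (f463381 IH) (Lpr_ct (f560239 IH) (Lpr_ft (f560234 IH) (Lpn (LP (LK LD1_c30 LD2_c40 LD3_c25))))))
theorem f560251 : Led Lsl_ct (LP (LK LD1_c31 LD2_c3 LD3_c23)) = (LP (LK LD1_c30 LD2_c40 LD3_c25)) :=
  Lgr Lrot59 (Lpr_cf (f560240 IH) (Lpn (LP (LK LD1_c30 LD2_c40 LD3_c25))))
theorem f466419 : Led Lsl_at (LP (LK LD1_c30 LD2_c40 LD3_c25)) = (LP (LK LD1_c22 LD2_c43 LD3_c10)) :=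
  Lre_a IH (LK LD1_c30 LD2_c40 LD3_c25) (LK LD1_c22 LD2_c43 LD3_c10) Lrfl Lrfl
theorem f466406 : Led Lsl_ct (LP (LK LD1_c22 LD2_c43 LD3_c10)) = (LP (LK LD1_c30 LD2_c40 LD3_c26)) :=
  Lre_c IH (LK LD1_c22 LD2_c43 LD3_c10) (LK LD1_c30 LD2_c40 LD3_c26) Lrfl Lrfl
theorem f560253 : Led Lsl_af (LP (LK LD1_c31 LD2_c3 LD3_c23)) = (LP (LK LD1_c30 LD2_c40 LD3_c26)) :=
  Lgr Lrot68 (Lpr_ct (f560251 IH) (Lpr_at (f466419 IH) (Lpr_ct (f466406 IH) (Lpn (LP (LK LD1_c30 LD2_c40 LD3_c26))))))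
theorem f440392 : Led Lsl_at (LP (LK LD1_c23 LD2_c26 LD3_c47)) = (LP (LK LD1_c31 LD2_c3 LD3_c22)) :=
  Lre_a IH (LK LD1_c23 LD2_c26 LD3_c47) (LK LD1_c31 LD2_c3 LD3_c22) Lrfl Lrfl
theorem f560255 : Led Lsl_ft (LP (LK LD1_c31 LD2_c3 LD3_c22)) = (LP (LK LD1_c30 LD2_c40 LD3_c26)) :=
  Lgr Lrot101 (Lpe (f440392 IH) (Lpe (f463381 IH) (Lpr_af (f560253 IH) (Lpn (LP (LK LD1_c30 LD2_c40 LD3_c26))))))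
theorem f560261 : Led Lsl_ff (LP (LK LD1_c31 LD2_c3 LD3_c22)) = (LP (LK LD1_c30 LD2_c40 LD3_c26)) :=
  Lgr Lrot3 (Lpr_ft (f560255 IH) (Lpn (LP (LK LD1_c30 LD2_c40 LD3_c26))))
theorem f440418 : Led Lsl_et (LP (LK LD1_c31 LD2_c3 LD3_c22)) = (LP (LK LD1_c23 LD2_c27 LD3_c16)) :=
  Lre_e IH (LK LD1_c31 LD2_c3 LD3_c22) (LK LD1_c23 LD2_c27 LD3_c16) Lrfl Lrfl
theorem f488777 : Led Lsl_et (LP (LK LD1_c22 LD2_c43 LD3_c9)) = (LP (LK LD1_c30 LD2_c40 LD3_c26)) :=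
  Lre_e IH (LK LD1_c22 LD2_c43 LD3_c9) (LK LD1_c30 LD2_c40 LD3_c26) Lrfl Lrfl
theorem f488774 : Led Lsl_ft (LP (LK LD1_c13 LD2_c57 LD3_c27)) = (LP (LK LD1_c22 LD2_c43 LD3_c9)) :=
  Lgr Lrot48 (Lpr_ff (K37.f466365 IH) (Lpn (LP (LK LD1_c22 LD2_c43 LD3_c9))))
theorem f488776 : Led Lsl_et (LP (LK LD1_c23 LD2_c29 LD3_c6)) = (LP (LK LD1_c13 LD2_c57 LD3_c27)) :=
  Lre_e IH (LK LD1_c23 LD2_c29 LD3_c6) (LK LD1_c13 LD2_c57 LD3_c27) Lrfl Lrfl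
theorem f560265 : Led Lsl_ft (LP (LK LD1_c23 LD2_c27 LD3_c16)) = (LP (LK LD1_c23 LD2_c29 LD3_c6)) :=
  Lgr Lrot86 (Lpe (f440418 IH) (Lpr_ff (f560261 IH) (Lpe (f488777 IH) (Lpe (f488774 IH) (Lpe (f488776 IH) (Lpn (LP (LK LD1_c23 LD2_c29 LD3_c6))))))))
theorem f440414 : Led Lsl_at (LP (LK LD1_c13 LD2_c56 LD3_c10)) = (LP (LK LD1_c23 LD2_c27 LD3_c16)) :=
  Lre_a IH (LK LD1_c13 LD2_c56 LD3_c10) (LK LD1_c23 LD2_c27 LD3_c16) Lrfl Lrfl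
theorem f440415 : Led Lsl_bt (LP (LK LD1_c7 LD2_c22 LD3_c8)) = (LP (LK LD1_c13 LD2_c56 LD3_c10)) :=
  Lre_b IH (LK LD1_c7 LD2_c22 LD3_c8) (LK LD1_c13 LD2_c56 LD3_c10) Lrfl Lrfl
theorem f463281 : Led Lsl_bt (LP (LK LD1_c22 LD2_c42 LD3_c51)) = (LP (LK LD1_c13 LD2_c24 LD3_c37)) :=
  Lre_b IH (LK LD1_c22 LD2_c42 LD3_c51) (LK LD1_c13 LD2_c24 LD3_c37) Lrfl Lrfl
theorem f463295 : Led Lsl_ft (LP (LK LD1_c13 LD2_c56 LD3_c10)) = (LP (LK LD1_c22 LD2_c42 LD3_c51)) :=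
  Lgr Lrot75 (Lpe (f440415 IH) (Lpr_ff (K28.f463292 IH) (Lpe (f463281 IH) (Lpn (LP (LK LD1_c22 LD2_c42 LD3_c51))))))
theorem f463382 : Led Lsl_ff (LP (LK LD1_c13 LD2_c56 LD3_c10)) = (LP (LK LD1_c22 LD2_c42 LD3_c51)) :=
  Lgr Lrot3 (Lpr_ft (f463295 IH) (Lpn (LP (LK LD1_c22 LD2_c42 LD3_c51))))
theorem f560269 : Led Lsl_af (LP (LK LD1_c22 LD2_c42 LD3_c51)) = (LP (LK LD1_c23 LD2_c29 LD3_c6)) :=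
  Lgr Lrot45 (Lpe (f463382 IH) (Lpr_at (f440414 IH) (Lpr_ft (f560265 IH) (Lpn (LP (LK LD1_c23 LD2_c29 LD3_c6))))))
theorem f488772 : Led Lsl_et (LP (LK LD1_c13 LD2_c57 LD3_c27)) = (LP (LK LD1_c23 LD2_c29 LD3_c6)) :=
  Lre_e IH (LK LD1_c13 LD2_c57 LD3_c27) (LK LD1_c23 LD2_c29 LD3_c6) Lrfl Lrfl
theorem f116496 : Led Lsl_at (LP (LK LD1_c23 LD2_c28 LD3_c58)) = (LP (LK LD1_c13 LD2_c57 LD3_c27)) :=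
  Lre_a IH (LK LD1_c23 LD2_c28 LD3_c58) (LK LD1_c13 LD2_c57 LD3_c27) Lrfl Lrfl
theorem f560280 : Led Lsl_et (LP (LK LD1_c22 LD2_c42 LD3_c51)) = (LP (LK LD1_c23 LD2_c28 LD3_c58)) :=
  Lgr Lrot123 (Lpr_af (f560269 IH) (Lpe (f488772 IH) (Lpe (f116496 IH) (Lpn (LP (LK LD1_c23 LD2_c28 LD3_c58))))))
theorem f560284 : Led Lsl_ef (LP (LK LD1_c22 LD2_c42 LD3_c51)) = (LP (LK LD1_c23 LD2_c28 LD3_c58)) :=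
  Lgr Lrot88 (Lpr_et (f560280 IH) (Lpn (LP (LK LD1_c23 LD2_c28 LD3_c58))))
theorem f463294 : Led Lsl_et (LP (LK LD1_c13 LD2_c24 LD3_c37)) = (LP (LK LD1_c22 LD2_c42 LD3_c52)) :=
  Lre_e IH (LK LD1_c13 LD2_c24 LD3_c37) (LK LD1_c22 LD2_c42 LD3_c52) Lrfl Lrfl
theorem f560286 : Led Lsl_bt (LP (LK LD1_c22 LD2_c42 LD3_c52)) = (LP (LK LD1_c23 LD2_c28 LD3_c58)) :=
  Lgr Lrot119 (Lpe (f463294 IH) (Lpe (f463281 IH) (Lpr_ef (f560284 IH) (Lpn (LP (LK LD1_c23 LD2_c28 LD3_c58))))))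
theorem f463339 : Led Lsl_ct (LP (LK LD1_c13 LD2_c24 LD3_c38)) = (LP (LK LD1_c22 LD2_c42 LD3_c52)) :=
  Lre_c IH (LK LD1_c13 LD2_c24 LD3_c38) (LK LD1_c22 LD2_c42 LD3_c52) Lrfl Lrfl
theorem f116438 : Led Lsl_ct (LP (LK LD1_c23 LD2_c28 LD3_c58)) = (LP (LK LD1_c13 LD2_c57 LD3_c10)) :=
  Lre_c IH (LK LD1_c23 LD2_c28 LD3_c58) (LK LD1_c13 LD2_c57 LD3_c10) Lrfl Lrfl
theorem f560288 : Led Lsl_cf (LP (LK LD1_c22 LD2_c42 LD3_c50)) = (LP (LK LD1_c14 LD2_c7 LD3_c22)) :=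
  Lgr Lrot97 (Lpr_bt (K29.f463347 IH) (Lpr_ct (f463339 IH) (Lpr_bt (f560286 IH) (Lpr_ct (f116438 IH) (Lpr_bt (K4.f116429 IH) (Lpn (LP (LK LD1_c14 LD2_c7 LD3_c22))))))))
theorem f469442 : Led Lsl_ft (LP (LK LD1_c22 LD2_c44 LD3_c32)) = (LP (LK LD1_c14 LD2_c7 LD3_c30)) :=
  Lgr Lrot4 (Lpe (K33.f469157 IH) (Lpr_ff (K34.f469423 IH) (Lpe (K36.f116180 IH) (Lpn (LP (LK LD1_c14 LD2_c7 LD3_c30))))))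
theorem f560300 : Led Lsl_af (LP (LK LD1_c22 LD2_c42 LD3_c50)) = (LP (LK LD1_c14 LD2_c7 LD3_c30)) :=
  Lgr Lrot109 (Lpr_cf (f560288 IH) (Lpe (K34.f116245 IH) (Lpe (K33.f116242 IH) (Lpr_df (K36.f540308 IH) (Lpe (K36.f541981 IH) (Lpe (K36.f541980 IH) (Lpe (K36.f541963 IH) (Lpr_df (K36.f541975 IH) (Lpr_ft (f469442 IH) (Lpn (LP (LK LD1_c14 LD2_c7 LD3_c30))))))))))))
theorem f463357 : Led Lsl_ft (LP (LK LD1_c22 LD2_c42 LD3_c50)) = (LP (LK LD1_c30 LD2_c40 LD3_c3)) :=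
  Lre_f IH (LK LD1_c22 LD2_c42 LD3_c50) (LK LD1_c30 LD2_c40 LD3_c3) Lrfl Lrfl
theorem f560308 : Led Lsl_at (LP (LK LD1_c30 LD2_c40 LD3_c3)) = (LP (LK LD1_c22 LD2_c44 LD3_c32)) :=
  Lgr Lrot66 (Lpe (f463357 IH) (Lpr_af (f560300 IH) (Lpe (f469442 IH) (Lpn (LP (LK LD1_c22 LD2_c44 LD3_c32))))))
theorem f560316 : Led Lsl_df (LP (LK LD1_c30 LD2_c40 LD3_c3)) = (LP (LK LD1_c30 LD2_c52 LD3_c49)) :=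
  Lgr Lrot18 (Lpr_at (f560308 IH) (Lpe (K36.f541975 IH) (Lpr_at (K36.f541954 IH) (Lpn (LP (LK LD1_c30 LD2_c52 LD3_c49))))))
theorem f560298 : Led Lsl_ct (LP (LK LD1_c30 LD2_c40 LD3_c3)) = (LP (LK LD1_c22 LD2_c44 LD3_c29)) :=
  Lgr Lrot40 (Lpe (f463357 IH) (Lpr_cf (f560288 IH) (Lpe (K34.f469380 IH) (Lpn (LP (LK LD1_c22 LD2_c44 LD3_c29))))))
theorem f99294 : Led Lsl_dt (LP (LK LD1_c4 LD2_c24 LD3_c7)) = (LP (LK LD1_c8 LD2_c46 LD3_c0)) :=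
  Lre_d IH (LK LD1_c4 LD2_c24 LD3_c7) (LK LD1_c8 LD2_c46 LD3_c0) Lrfl Lrfl
theorem f205479 : Led Lsl_dt (LP (LK LD1_c6 LD2_c24 LD3_c55)) = (LP (LK LD1_c3 LD2_c10 LD3_c3)) :=
  Lre_d IH (LK LD1_c6 LD2_c24 LD3_c55) (LK LD1_c3 LD2_c10 LD3_c3) Lrfl Lrfl
theorem f205480 : Led Lsl_et (LP (LK LD1_c12 LD2_c22 LD3_c51)) = (LP (LK LD1_c6 LD2_c24 LD3_c55)) :=
  Lre_e IH (LK LD1_c12 LD2_c22 LD3_c51) (LK LD1_c6 LD2_c24 LD3_c55) Lrfl Lrfl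
theorem f540288 : Led Lsl_dt (LP (LK LD1_c13 LD2_c38 LD3_c14)) = (LP (LK LD1_c12 LD2_c22 LD3_c51)) :=
  Lgr Lrot77 (Lpr_ef (K36.f540280 IH) (Lpe (f99294 IH) (Lpr_ef (K11.f205472 IH) (Lpe (f205479 IH) (Lpe (f205480 IH) (Lpn (LP (LK LD1_c12 LD2_c22 LD3_c51))))))))
theorem f542004 : Led Lsl_dt (LP (LK LD1_c13 LD2_c57 LD3_c53)) = (LP (LK LD1_c23 LD2_c29 LD3_c49)) :=
  Lre_d IH (LK LD1_c13 LD2_c57 LD3_c53) (LK LD1_c23 LD2_c29 LD3_c49) Lrfl Lrfl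
theorem f541964 : Led Lsl_ft (LP (LK LD1_c13 LD2_c57 LD3_c52)) = (LP (LK LD1_c23 LD2_c29 LD3_c49)) :=
  Lre_f IH (LK LD1_c13 LD2_c57 LD3_c52) (LK LD1_c23 LD2_c29 LD3_c49) Lrfl Lrfl
theorem f541965 : Led Lsl_ct (LP (LK LD1_c23 LD2_c29 LD3_c49)) = (LP (LK LD1_c23 LD2_c41 LD3_c60)) :=
  Lgr Lrot40 (Lpe (f541964 IH) (Lpe (K36.f541963 IH) (Lpr_ff (K36.f541960 IH) (Lpn (LP (LK LD1_c23 LD2_c41 LD3_c60))))))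
theorem f131881 : Led Lsl_bt (LP (LK LD1_c23 LD2_c38 LD3_c44)) = (LP (LK LD1_c14 LD2_c5 LD3_c55)) :=
  Lre_b IH (LK LD1_c23 LD2_c38 LD3_c44) (LK LD1_c14 LD2_c5 LD3_c55) Lrfl Lrfl
theorem f463336 : Led Lsl_bt (LP (LK LD1_c13 LD2_c24 LD3_c38)) = (LP (LK LD1_c22 LD2_c42 LD3_c50)) :=
  Lre_b IH (LK LD1_c13 LD2_c24 LD3_c38) (LK LD1_c22 LD2_c42 LD3_c50) Lrfl Lrfl
theorem f463337 : Led Lsl_df (LP (LK LD1_c23 LD2_c38 LD3_c44)) = (LP (LK LD1_c22 LD2_c42 LD3_c50)) :=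
  Lgr Lrot12 (Lpr_bt (f131881 IH) (Lpr_dt (K29.f463334 IH) (Lpr_bt (f463336 IH) (Lpn (LP (LK LD1_c22 LD2_c42 LD3_c50))))))
theorem f560306 : Led Lsl_at (LP (LK LD1_c23 LD2_c38 LD3_c44)) = (LP (LK LD1_c23 LD2_c41 LD3_c60)) :=
  Lgr Lrot51 (Lpr_df (f463337 IH) (Lpr_af (f560300 IH) (Lpe (K36.f116258 IH) (Lpn (LP (LK LD1_c23 LD2_c41 LD3_c60))))))
theorem f560330 : Led Lsl_ff (LP (LK LD1_c23 LD2_c38 LD3_c44)) = (LP (LK LD1_c30 LD2_c52 LD3_c49)) :=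
  Lgr Lrot103 (Lpr_at (f560306 IH) (Lpe (f541965 IH) (Lpe (f542004 IH) (Lpr_cf (K36.f541998 IH) (Lpe (f540288 IH) (Lpe (K37.f469257 IH) (Lpe (K28.f469363 IH) (Lpe (f560298 IH) (Lpr_df (f560316 IH) (Lpn (LP (LK LD1_c30 LD2_c52 LD3_c49))))))))))))
theorem f463358 : Led Lsl_et (LP (LK LD1_c23 LD2_c38 LD3_c44)) = (LP (LK LD1_c14 LD2_c5 LD3_c25)) :=
  Lre_e IH (LK LD1_c23 LD2_c38 LD3_c44) (LK LD1_c14 LD2_c5 LD3_c25) Lrfl Lrfl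
theorem f439565 : Led Lsl_ft (LP (LK LD1_c14 LD2_c5 LD3_c25)) = (LP (LK LD1_c7 LD2_c27 LD3_c49)) :=
  Lre_f IH (LK LD1_c14 LD2_c5 LD3_c25) (LK LD1_c7 LD2_c27 LD3_c49) Lrfl Lrfl
theorem f560336 : Led Lsl_et (LP (LK LD1_c7 LD2_c27 LD3_c49)) = (LP (LK LD1_c14 LD2_c5 LD3_c15)) :=
  Lre_e IH (LK LD1_c7 LD2_c27 LD3_c49) (LK LD1_c14 LD2_c5 LD3_c15) Lrfl Lrfl
theorem f147158 : Led Lsl_ct (LP (LK LD1_c13 LD2_c57 LD3_c45)) = (LP (LK LD1_c23 LD2_c29 LD3_c40)) :=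
  Lre_c IH (LK LD1_c13 LD2_c57 LD3_c45) (LK LD1_c23 LD2_c29 LD3_c40) Lrfl Lrfl
theorem f116163 : Led Lsl_ct (LP (LK LD1_c30 LD2_c52 LD3_c49)) = (LP (LK LD1_c23 LD2_c3 LD3_c34)) :=
  Lre_c IH (LK LD1_c30 LD2_c52 LD3_c49) (LK LD1_c23 LD2_c3 LD3_c34) Lrfl Lrfl
theorem f541943 : Led Lsl_et (LP (LK LD1_c23 LD2_c29 LD3_c40)) = (LP (LK LD1_c30 LD2_c52 LD3_c49)) :=
  Lgr Lrot158 (Lpe (f147158 IH) (Lpr_ef (K36.f541937 IH) (Lpe (f116163 IH) (Lpn (LP (LK LD1_c30 LD2_c52 LD3_c49))))))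
theorem f560337 : Led Lsl_ft (LP (LK LD1_c14 LD2_c5 LD3_c15)) = (LP (LK LD1_c23 LD2_c29 LD3_c40)) :=
  Lgr Lrot86 (Lpe (f560336 IH) (Lpe (f439565 IH) (Lpe (f463358 IH) (Lpr_ff (f560330 IH) (Lpe (f541943 IH) (Lpn (LP (LK LD1_c23 LD2_c29 LD3_c40))))))))
theorem f560350 : Led Lsl_dt (LP (LK LD1_c14 LD2_c5 LD3_c15)) = (LP (LK LD1_c7 LD2_c27 LD3_c46)) :=
  Lre_d IH (LK LD1_c14 LD2_c5 LD3_c15) (LK LD1_c7 LD2_c27 LD3_c46) Lrfl Lrfl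
theorem f147300 : Led Lsl_ct (LP (LK LD1_c7 LD2_c23 LD3_c10)) = (LP (LK LD1_c13 LD2_c57 LD3_c60)) :=
  Lre_c IH (LK LD1_c7 LD2_c23 LD3_c10) (LK LD1_c13 LD2_c57 LD3_c60) Lrfl Lrfl
theorem f147299 : Led Lsl_dt (LP (LK LD1_c3 LD2_c41 LD3_c21)) = (LP (LK LD1_c7 LD2_c23 LD3_c10)) :=
  Lre_d IH (LK LD1_c3 LD2_c41 LD3_c21) (LK LD1_c7 LD2_c23 LD3_c10) Lrfl Lrfl
theorem f210845 : Led Lsl_ft (LP (LK LD1_c7 LD2_c56 LD3_c47)) = (LP (LK LD1_c3 LD2_c57 LD3_c40)) :=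
  Lre_f IH (LK LD1_c7 LD2_c56 LD3_c47) (LK LD1_c3 LD2_c57 LD3_c40) Lrfl Lrfl
theorem f544191 : Led Lsl_dt (LP (LK LD1_c3 LD2_c57 LD3_c40)) = (LP (LK LD1_c3 LD2_c32 LD3_c19)) :=
  Lgr Lrot60 (Lpe (f210845 IH) (Lpr_df (K37.f544189 IH) (Lpe (K24.f108267 IH) (Lpn (LP (LK LD1_c3 LD2_c32 LD3_c19))))))
theorem f59242 : Led Lsl_ct (LP (LK LD1_c2 LD2_c18 LD3_c48)) = (LP (LK LD1_c3 LD2_c57 LD3_c40)) :=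
  Lgr Lrot15 (Lpe (K11.f56607 IH) (Lpr_cf (K1.f59186 IH) (Lpe (K37.f59241 IH) (Lpn (LP (LK LD1_c3 LD2_c57 LD3_c40))))))
theorem f560351 : Led Lsl_ct (LP (LK LD1_c7 LD2_c27 LD3_c46)) = (LP (LK LD1_c4 LD2_c42 LD3_c41)) :=
  Lgr Lrot133 (Lpe (f560350 IH) (Lpr_ft (f560337 IH) (Lpr_at (K36.f147302 IH) (Lpe (f147300 IH) (Lpe (f147299 IH) (Lpe (K37.f147270 IH) (Lpe (f544191 IH) (Lpe (f59242 IH) (Lpe (K32.f59316 IH) (Lpn (LP (LK LD1_c4 LD2_c42 LD3_c41))))))))))))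
theorem f208990 : Led Lsl_ft (LP (LK LD1_c14 LD2_c5 LD3_c16)) = (LP (LK LD1_c7 LD2_c27 LD3_c46)) :=
  Lre_f IH (LK LD1_c14 LD2_c5 LD3_c16) (LK LD1_c7 LD2_c27 LD3_c46) Lrfl Lrfl
theorem f420713 : Led Lsl_ft (LP (LK LD1_c4 LD2_c42 LD3_c41)) = (LP (LK LD1_c9 LD2_c19 LD3_c40)) :=
  Lre_f IH (LK LD1_c4 LD2_c42 LD3_c41) (LK LD1_c9 LD2_c19 LD3_c40) Lrfl Lrfl
theorem f560363 : Led Lsl_cf (LP (LK LD1_c14 LD2_c5 LD3_c16)) = (LP (LK LD1_c9 LD2_c19 LD3_c40)) :=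
  Lgr Lrot108 (Lpr_ft (f208990 IH) (Lpr_ct (f560351 IH) (Lpr_ft (f420713 IH) (Lpn (LP (LK LD1_c9 LD2_c19 LD3_c40))))))
theorem f122408 : Led Lsl_bt (LP (LK LD1_c23 LD2_c26 LD3_c7)) = (LP (LK LD1_c13 LD2_c55 LD3_c54)) :=
  Lre_b IH (LK LD1_c23 LD2_c26 LD3_c7) (LK LD1_c13 LD2_c55 LD3_c54) Lrfl Lrfl
theorem f463309 : Led Lsl_bt (LP (LK LD1_c22 LD2_c42 LD3_c55)) = (LP (LK LD1_c30 LD2_c40 LD3_c3)) :=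
  Lre_b IH (LK LD1_c22 LD2_c42 LD3_c55) (LK LD1_c30 LD2_c40 LD3_c3) Lrfl Lrfl
theorem f463310 : Led Lsl_ef (LP (LK LD1_c23 LD2_c26 LD3_c7)) = (LP (LK LD1_c30 LD2_c40 LD3_c3)) :=
  Lgr Lrot29 (Lpr_bt (f122408 IH) (Lpr_et (K28.f463306 IH) (Lpr_bt (f463309 IH) (Lpn (LP (LK LD1_c30 LD2_c40 LD3_c3))))))
theorem f208993 : Led Lsl_dt (LP (LK LD1_c23 LD2_c26 LD3_c7)) = (LP (LK LD1_c13 LD2_c55 LD3_c23)) :=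
  Lre_d IH (LK LD1_c23 LD2_c26 LD3_c7) (LK LD1_c13 LD2_c55 LD3_c23) Lrfl Lrfl
theorem f116221 : Led Lsl_dt (LP (LK LD1_c3 LD2_c40 LD3_c49)) = (LP (LK LD1_c1 LD2_c47 LD3_c22)) :=
  Lre_d IH (LK LD1_c3 LD2_c40 LD3_c49) (LK LD1_c1 LD2_c47 LD3_c22) Lrfl Lrfl
theorem f208936 : Led Lsl_dt (LP (LK LD1_c1 LD2_c48 LD3_c52)) = (LP (LK LD1_c3 LD2_c43 LD3_c36)) :=
  Lre_d IH (LK LD1_c1 LD2_c48 LD3_c52) (LK LD1_c3 LD2_c43 LD3_c36) Lrfl Lrfl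
theorem f208937 : Led Lsl_ff (LP (LK LD1_c3 LD2_c40 LD3_c49)) = (LP (LK LD1_c3 LD2_c43 LD3_c36)) :=
  Lgr Lrot19 (Lpr_dt (f116221 IH) (Lpr_ft (K24.f208931 IH) (Lpr_dt (f208936 IH) (Lpn (LP (LK LD1_c3 LD2_c43 LD3_c36))))))
theorem f159762 : Led Lsl_et (LP (LK LD1_c3 LD2_c40 LD3_c49)) = (LP (LK LD1_c7 LD2_c21 LD3_c51)) :=
  Lre_e IH (LK LD1_c3 LD2_c40 LD3_c49) (LK LD1_c7 LD2_c21 LD3_c51) Lrfl Lrfl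
theorem f208988 : Led Lsl_ft (LP (LK LD1_c7 LD2_c21 LD3_c51)) = (LP (LK LD1_c13 LD2_c55 LD3_c23)) :=
  Lre_f IH (LK LD1_c7 LD2_c21 LD3_c51) (LK LD1_c13 LD2_c55 LD3_c23) Lrfl Lrfl
theorem f208989 : Led Lsl_et (LP (LK LD1_c7 LD2_c27 LD3_c46)) = (LP (LK LD1_c3 LD2_c43 LD3_c36)) :=
  Lre_e IH (LK LD1_c7 LD2_c27 LD3_c46) (LK LD1_c3 LD2_c43 LD3_c36) Lrfl Lrfl
theorem f208991 : Led Lsl_et (LP (LK LD1_c13 LD2_c55 LD3_c23)) = (LP (LK LD1_c14 LD2_c5 LD3_c16)) :=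
  Lgr Lrot69 (Lpe (f208988 IH) (Lpe (f159762 IH) (Lpr_ff (f208937 IH) (Lpe (f208989 IH) (Lpe (f208990 IH) (Lpn (LP (LK LD1_c14 LD2_c5 LD3_c16))))))))
theorem f560324 : Led Lsl_dt (LP (LK LD1_c14 LD2_c5 LD3_c16)) = (LP (LK LD1_c23 LD2_c29 LD3_c40)) :=
  Lgr Lrot77 (Lpe (f208991 IH) (Lpe (f208993 IH) (Lpr_ef (f463310 IH) (Lpr_df (f560316 IH) (Lpe (f541943 IH) (Lpn (LP (LK LD1_c23 LD2_c29 LD3_c40))))))))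
theorem f211919 : Led Lsl_ct (LP (LK LD1_c2 LD2_c13 LD3_c34)) = (LP (LK LD1_c4 LD2_c33 LD3_c13)) :=
  Lre_c IH (LK LD1_c2 LD2_c13 LD3_c34) (LK LD1_c4 LD2_c33 LD3_c13) Lrfl Lrfl
theorem f547172 : Led Lsl_dt (LP (LK LD1_c4 LD2_c33 LD3_c13)) = (LP (LK LD1_c9 LD2_c3 LD3_c49)) :=
  Lre_d IH (LK LD1_c4 LD2_c33 LD3_c13) (LK LD1_c9 LD2_c3 LD3_c49) Lrfl Lrfl
theorem f547439 : Led Lsl_ct (LP (LK LD1_c8 LD2_c45 LD3_c38)) = (LP (LK LD1_c4 LD2_c31 LD3_c2)) :=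
  Lgr Lrot59 (Lpr_cf (K38.f547434 IH) (Lpn (LP (LK LD1_c4 LD2_c31 LD3_c2))))
theorem f418416 : Led Lsl_gt (LP (LK LD1_c4 LD2_c23 LD3_c30)) = (LP (LK LD1_c8 LD2_c44 LD3_c41)) :=
  Lre_g IH (LK LD1_c4 LD2_c23 LD3_c30) (LK LD1_c8 LD2_c44 LD3_c41) Lrfl Lrfl
theorem f427571 : Led Lsl_ct (LP (LK LD1_c8 LD2_c44 LD3_c41)) = (LP (LK LD1_c16 LD2_c22 LD3_c6)) :=
  Lre_c IH (LK LD1_c8 LD2_c44 LD3_c41) (LK LD1_c16 LD2_c22 LD3_c6) Lrfl Lrfl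
theorem f547447 : Led Lsl_df (LP (LK LD1_c8 LD2_c45 LD3_c38)) = (LP (LK LD1_c16 LD2_c22 LD3_c6)) :=
  Lgr Lrot162 (Lpr_cf (K38.f547434 IH) (Lpe (K38.f174632 IH) (Lpe (K32.f210364 IH) (Lpe (K38.f210369 IH) (Lpr_dt (K38.f427552 IH) (Lpr_gt (K38.f39305 IH) (Lpr_ct (K38.f216600 IH) (Lpr_gt (f418416 IH) (Lpr_ct (f427571 IH) (Lpn (LP (LK LD1_c16 LD2_c22 LD3_c6))))))))))))
theorem f552534 : Led Lsl_dt (LP (LK LD1_c16 LD2_c22 LD3_c7)) = (LP (LK LD1_c8 LD2_c44 LD3_c41)) :=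
  Lre_d IH (LK LD1_c16 LD2_c22 LD3_c7) (LK LD1_c8 LD2_c44 LD3_c41) Lrfl Lrfl
theorem f552535 : Led Lsl_ct (LP (LK LD1_c9 LD2_c3 LD3_c49)) = (LP (LK LD1_c16 LD2_c22 LD3_c7)) :=
  Lgr Lrot41 (Lpe (f547172 IH) (Lpe (f211919 IH) (Lpr_df (K38.f547166 IH) (Lpr_ft (K38.f495981 IH) (Lpq (K38.f547308 IH) (Lpr_at (K38.f547437 IH) (Lpe (f547439 IH) (Lpr_df (f547447 IH) (Lpe (f427571 IH) (Lpe (f552534 IH) (Lpn (LP (LK LD1_c16 LD2_c22 LD3_c7)))))))))))))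
theorem f547320 : Led Lsl_dt (LP (LK LD1_c11 LD2_c6 LD3_c18)) = (LP (LK LD1_c5 LD2_c37 LD3_c12)) :=
  Lre_d IH (LK LD1_c11 LD2_c6 LD3_c18) (LK LD1_c5 LD2_c37 LD3_c12) Lrfl Lrfl
theorem f547321 : Led Lsl_ft (LP (LK LD1_c11 LD2_c59 LD3_c16)) = (LP (LK LD1_c11 LD2_c6 LD3_c18)) :=
  Lgr Lrot54 (Lpe (K38.f212086 IH) (Lpr_ff (K38.f547316 IH) (Lpe (f547320 IH) (Lpn (LP (LK LD1_c11 LD2_c6 LD3_c18))))))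
theorem f552542 : Led Lsl_at (LP (LK LD1_c11 LD2_c6 LD3_c18)) = (LP (LK LD1_c16 LD2_c22 LD3_c6)) :=
  Lgr Lrot33 (Lpe (f547321 IH) (Lpr_dt (K38.f212091 IH) (Lpr_ct (K38.f212085 IH) (Lpe (K38.f547166 IH) (Lpr_ct (f211919 IH) (Lpr_dt (f547172 IH) (Lpr_ct (f552535 IH) (Lpr_dt (f552534 IH) (Lpr_ct (f427571 IH) (Lpn (LP (LK LD1_c16 LD2_c22 LD3_c6))))))))))))
theorem f547461 : Led Lsl_gt (LP (LK LD1_c9 LD2_c3 LD3_c3)) = (LP (LK LD1_c16 LD2_c22 LD3_c6)) :=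
  Lre_g IH (LK LD1_c9 LD2_c3 LD3_c3) (LK LD1_c16 LD2_c22 LD3_c6) Lrfl Lrfl
theorem f552553 : Led Lsl_gt (LP (LK LD1_c11 LD2_c59 LD3_c16)) = (LP (LK LD1_c9 LD2_c3 LD3_c3)) :=
  Lgr Lrot5 (Lpr_ft (f547321 IH) (Lpr_at (f552542 IH) (Lpe (f547461 IH) (Lpn (LP (LK LD1_c9 LD2_c3 LD3_c3))))))
theorem f181295 : Led Lsl_dt (LP (LK LD1_c9 LD2_c2 LD3_c23)) = (LP (LK LD1_c4 LD2_c32 LD3_c22)) :=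
  Lre_d IH (LK LD1_c9 LD2_c2 LD3_c23) (LK LD1_c4 LD2_c32 LD3_c22) Lrfl Lrfl
theorem f423600 : Led Lsl_ft (LP (LK LD1_c5 LD2_c41 LD3_c21)) = (LP (LK LD1_c9 LD2_c2 LD3_c23)) :=
  Lgr Lrot54 (Lpe (K31.f181507 IH) (Lpr_ff (f423594 IH) (Lpe (f181295 IH) (Lpn (LP (LK LD1_c9 LD2_c2 LD3_c23))))))
theorem f423610 : Led Lsl_ff (LP (LK LD1_c5 LD2_c41 LD3_c21)) = (LP (LK LD1_c9 LD2_c2 LD3_c23)) :=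
  Lgr Lrot3 (Lpr_ft (f423600 IH) (Lpn (LP (LK LD1_c9 LD2_c2 LD3_c23))))
theorem f181551 : Led Lsl_bf (LP (LK LD1_c5 LD2_c41 LD3_c21)) = (LP (LK LD1_c9 LD2_c3 LD3_c2)) :=
  Lgr Lrot93 (Lpr_dt (K31.f181492 IH) (Lpr_bt (K10.f181549 IH) (Lpr_dt (K38.f174845 IH) (Lpn (LP (LK LD1_c9 LD2_c3 LD3_c2))))))
theorem f181690 : Led Lsl_bt (LP (LK LD1_c5 LD2_c41 LD3_c21)) = (LP (LK LD1_c9 LD2_c3 LD3_c2)) :=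
  Lgr Lrot127 (Lpr_bf (f181551 IH) (Lpn (LP (LK LD1_c9 LD2_c3 LD3_c2))))
theorem f181297 : Led Lsl_bf (LP (LK LD1_c9 LD2_c2 LD3_c23)) = (LP (LK LD1_c11 LD2_c11 LD3_c18)) :=
  Lgr Lrot93 (Lpr_dt (f181295 IH) (Lpr_bt (K37.f181269 IH) (Lpr_dt (f181296 IH) (Lpn (LP (LK LD1_c11 LD2_c11 LD3_c18))))))
theorem f423627 : Led Lsl_ft (LP (LK LD1_c9 LD2_c3 LD3_c2)) = (LP (LK LD1_c11 LD2_c11 LD3_c18)) :=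
  Lgr Lrot75 (Lpe (f181690 IH) (Lpr_ff (f423610 IH) (Lpr_bf (f181297 IH) (Lpn (LP (LK LD1_c11 LD2_c11 LD3_c18))))))
theorem f552555 : Led Lsl_at (LP (LK LD1_c11 LD2_c11 LD3_c18)) = (LP (LK LD1_c9 LD2_c3 LD3_c3)) :=
  Lgr Lrot26 (Lpe (f423627 IH) (Lpr_gt (K38.f547158 IH) (Lpr_gt (f552553 IH) (Lpn (LP (LK LD1_c9 LD2_c3 LD3_c3))))))
theorem f552557 : Led Lsl_dt (LP (LK LD1_c9 LD2_c3 LD3_c3)) = (LP (LK LD1_c4 LD2_c32 LD3_c54)) :=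
  Lre_d IH (LK LD1_c9 LD2_c3 LD3_c3) (LK LD1_c4 LD2_c32 LD3_c54) Lrfl Lrfl
theorem f552560 : Led Lsl_af (LP (LK LD1_c5 LD2_c40 LD3_c19)) = (LP (LK LD1_c4 LD2_c32 LD3_c54)) :=
  Lgr Lrot117 (Lpr_dt (f181296 IH) (Lpr_at (f552555 IH) (Lpr_dt (f552557 IH) (Lpn (LP (LK LD1_c4 LD2_c32 LD3_c54))))))
theorem f423637 : Led Lsl_ff (LP (LK LD1_c4 LD2_c32 LD3_c53)) = (LP (LK LD1_c5 LD2_c40 LD3_c19)) :=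
  Lgr Lrot19 (Lpr_dt (K38.f174845 IH) (Lpr_ft (f423627 IH) (Lpr_dt (f181307 IH) (Lpn (LP (LK LD1_c5 LD2_c40 LD3_c19))))))
theorem f80984 : Led Lsl_gt (LP (LK LD1_c4 LD2_c22 LD3_c55)) = (LP (LK LD1_c8 LD2_c43 LD3_c40)) :=
  Lre_g IH (LK LD1_c4 LD2_c22 LD3_c55) (LK LD1_c8 LD2_c43 LD3_c40) Lrfl Lrfl
theorem f542303 : Led Lsl_af (LP (LK LD1_c8 LD2_c43 LD3_c40)) = (LP (LK LD1_c4 LD2_c32 LD3_c53)) :=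
  Lgr Lrot31 (Lpe (f80984 IH) (Lpr_gf (K37.f542301 IH) (Lpe (f423637 IH) (Lpn (LP (LK LD1_c4 LD2_c32 LD3_c53))))))
theorem f552566 : Led Lsl_ft (LP (LK LD1_c8 LD2_c43 LD3_c40)) = (LP (LK LD1_c4 LD2_c32 LD3_c54)) :=
  Lgr Lrot101 (Lpr_af (f542303 IH) (Lpr_ff (f423637 IH) (Lpr_af (f552560 IH) (Lpn (LP (LK LD1_c4 LD2_c32 LD3_c54))))))
theorem f552568 : Led Lsl_ff (LP (LK LD1_c8 LD2_c43 LD3_c40)) = (LP (LK LD1_c4 LD2_c32 LD3_c54)) :=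
  Lgr Lrot3 (Lpr_ft (f552566 IH) (Lpn (LP (LK LD1_c4 LD2_c32 LD3_c54))))
theorem f423066 : Led Lsl_af (LP (LK LD1_c4 LD2_c31 LD3_c44)) = (LP (LK LD1_c2 LD2_c44 LD3_c61)) :=
  Lgr Lrot45 (Lpr_ft (K31.f422985 IH) (Lpe (K31.f422993 IH) (Lpr_ft (K31.f423064 IH) (Lpn (LP (LK LD1_c2 LD2_c44 LD3_c61))))))
theorem f423192 : Led Lsl_af (LP (LK LD1_c1 LD2_c19 LD3_c26)) = (LP (LK LD1_c2 LD2_c12 LD3_c60)) :=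
  Lgr Lrot117 (Lpr_dt (K31.f423188 IH) (Lpe (f423066 IH) (Lpr_dt (K31.f407077 IH) (Lpn (LP (LK LD1_c2 LD2_c12 LD3_c60))))))
theorem f181310 : Led Lsl_bt (LP (LK LD1_c1 LD2_c19 LD3_c26)) = (LP (LK LD1_c2 LD2_c46 LD3_c7)) :=
  Lre_b IH (LK LD1_c1 LD2_c19 LD3_c26) (LK LD1_c2 LD2_c46 LD3_c7) Lrfl Lrfl
theorem f424084 : Led Lsl_at (LP (LK LD1_c2 LD2_c46 LD3_c7)) = (LP (LK LD1_c4 LD2_c57 LD3_c4)) :=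
  Lgr Lrot67 (Lpe (f181310 IH) (Lpr_af (f423192 IH) (Lpe (K31.f181755 IH) (Lpr_af (K31.f424082 IH) (Lpe (K31.f172467 IH) (Lpn (LP (LK LD1_c4 LD2_c57 LD3_c4))))))))
theorem f552564 : Led Lsl_ct (LP (LK LD1_c4 LD2_c57 LD3_c4)) = (LP (LK LD1_c4 LD2_c32 LD3_c54)) :=
  Lgr Lrot111 (Lpe (f424084 IH) (Lpe (K37.f181268 IH) (Lpr_af (f552560 IH) (Lpn (LP (LK LD1_c4 LD2_c32 LD3_c54))))))
theorem f552572 : Led Lsl_ct (LP (LK LD1_c8 LD2_c43 LD3_c40)) = (LP (LK LD1_c8 LD2_c44 LD3_c19)) :=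
  Lgr Lrot40 (Lpr_ff (f552568 IH) (Lpe (f552564 IH) (Lpr_ff (K31.f424133 IH) (Lpn (LP (LK LD1_c8 LD2_c44 LD3_c19))))))
theorem f549215 : Led Lsl_bf (LP (LK LD1_c2 LD2_c47 LD3_c11)) = (LP (LK LD1_c4 LD2_c23 LD3_c1)) :=
  Lgr Lrot93 (Lpr_dt (K36.f423865 IH) (Lpr_bt (K38.f549209 IH) (Lpr_dt (K37.f80973 IH) (Lpn (LP (LK LD1_c4 LD2_c23 LD3_c1))))))
theorem f424195 : Led Lsl_ct (LP (LK LD1_c2 LD2_c9 LD3_c7)) = (LP (LK LD1_c4 LD2_c23 LD3_c24)) :=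
  Lre_c IH (LK LD1_c2 LD2_c9 LD3_c7) (LK LD1_c4 LD2_c23 LD3_c24) Lrfl Lrfl
theorem f424201 : Led Lsl_bt (LP (LK LD1_c2 LD2_c9 LD3_c7)) = (LP (LK LD1_c4 LD2_c23 LD3_c23)) :=
  Lre_b IH (LK LD1_c2 LD2_c9 LD3_c7) (LK LD1_c4 LD2_c23 LD3_c23) Lrfl Lrfl
theorem f552581 : Led Lsl_gf (LP (LK LD1_c2 LD2_c47 LD3_c11)) = (LP (LK LD1_c4 LD2_c23 LD3_c23)) :=
  Lgr Lrot124 (Lpr_bf (f549215 IH) (Lpr_ct (K36.f80970 IH) (Lpr_gt (K10.f80922 IH) (Lpe (K13.f80958 IH) (Lpr_bt (K37.f80983 IH) (Lpr_gt (f80984 IH) (Lpr_ct (f552572 IH) (Lpr_gt (K31.f181754 IH) (Lpe (f424195 IH) (Lpr_bt (f424201 IH) (Lpn (LP (LK LD1_c4 LD2_c23 LD3_c23)))))))))))))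
theorem f172819 : Led Lsl_gt (LP (LK LD1_c5 LD2_c42 LD3_c44)) = (LP (LK LD1_c11 LD2_c15 LD3_c39)) :=
  Lre_g IH (LK LD1_c5 LD2_c42 LD3_c44) (LK LD1_c11 LD2_c15 LD3_c39) Lrfl Lrfl
theorem f280268 : Led Lsl_gt (LP (LK LD1_c11 LD2_c15 LD3_c39)) = (LP (LK LD1_c16 LD2_c20 LD3_c35)) :=
  Lgr Lrot46 (Lpe (f172819 IH) (Lpr_ft (K16.f280146 IH) (Lpr_at (K16.f181775 IH) (Lpn (LP (LK LD1_c16 LD2_c20 LD3_c35))))))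
theorem f60506 : Led Lsl_bt (LP (LK LD1_c11 LD2_c23 LD3_c13)) = (LP (LK LD1_c5 LD2_c46 LD3_c43)) :=
  Lre_b IH (LK LD1_c11 LD2_c23 LD3_c13) (LK LD1_c5 LD2_c46 LD3_c43) Lrfl Lrfl
theorem f551741 : Led Lsl_ct (LP (LK LD1_c11 LD2_c23 LD3_c13)) = (LP (LK LD1_c11 LD2_c15 LD3_c39)) :=
  Lgr Lrot10 (Lpr_bt (f60506 IH) (Lpe (K10.f80605 IH) (Lpr_ct (K10.f80607 IH) (Lpr_gt (K10.f197840 IH) (Lpe (K13.f37235 IH) (Lpr_bt (f551708 IH) (Lpe (K13.f238820 IH) (Lpr_bf (K36.f172750 IH) (Lpr_ct (K16.f172754 IH) (Lpr_gt (f172819 IH) (Lpn (LP (LK LD1_c11 LD2_c15 LD3_c39)))))))))))))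
theorem f542241 : Led Lsl_dt (LP (LK LD1_c8 LD2_c44 LD3_c25)) = (LP (LK LD1_c4 LD2_c23 LD3_c23)) :=
  Lre_d IH (LK LD1_c8 LD2_c44 LD3_c25) (LK LD1_c4 LD2_c23 LD3_c23) Lrfl Lrfl
theorem f552590 : Led Lsl_gf (LP (LK LD1_c11 LD2_c23 LD3_c13)) = (LP (LK LD1_c8 LD2_c44 LD3_c25)) :=
  Lgr Lrot147 (Lpr_ct (f551741 IH) (Lpr_gt (f280268 IH) (Lpr_ct (K16.f181765 IH) (Lpe (K16.f181772 IH) (Lpr_cf (K16.f181762 IH) (Lpe (K31.f412030 IH) (Lpe (K38.f172748 IH) (Lpr_gf (f552581 IH) (Lpe (f542241 IH) (Lpn (LP (LK LD1_c8 LD2_c44 LD3_c25))))))))))))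
theorem f60132 : Led Lsl_ct (LP (LK LD1_c5 LD2_c46 LD3_c31)) = (LP (LK LD1_c2 LD2_c49 LD3_c10)) :=
  Lre_c IH (LK LD1_c5 LD2_c46 LD3_c31) (LK LD1_c2 LD2_c49 LD3_c10) Lrfl Lrfl
theorem f542237 : Led Lsl_dt (LP (LK LD1_c4 LD2_c23 LD3_c23)) = (LP (LK LD1_c8 LD2_c44 LD3_c25)) :=
  Lre_d IH (LK LD1_c4 LD2_c23 LD3_c23) (LK LD1_c8 LD2_c44 LD3_c25) Lrfl Lrfl
theorem f172441 : Led Lsl_ct (LP (LK LD1_c5 LD2_c41 LD3_c35)) = (LP (LK LD1_c2 LD2_c46 LD3_c51)) :=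
  Lre_c IH (LK LD1_c5 LD2_c41 LD3_c35) (LK LD1_c2 LD2_c46 LD3_c51) Lrfl Lrfl
theorem f172442 : Led Lsl_bt (LP (LK LD1_c1 LD2_c19 LD3_c60)) = (LP (LK LD1_c2 LD2_c47 LD3_c13)) :=
  Lre_b IH (LK LD1_c1 LD2_c19 LD3_c60) (LK LD1_c2 LD2_c47 LD3_c13) Lrfl Lrfl
theorem f172443 : Led Lsl_ct (LP (LK LD1_c2 LD2_c47 LD3_c14)) = (LP (LK LD1_c1 LD2_c19 LD3_c60)) :=
  Lre_c IH (LK LD1_c2 LD2_c47 LD3_c14) (LK LD1_c1 LD2_c19 LD3_c60) Lrfl Lrfl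
theorem f172444 : Led Lsl_bt (LP (LK LD1_c2 LD2_c46 LD3_c51)) = (LP (LK LD1_c2 LD2_c47 LD3_c14)) :=
  Lgr Lrot128 (Lpe (f172441 IH) (Lpe (K37.f172440 IH) (Lpr_cf (K31.f172436 IH) (Lpe (f172442 IH) (Lpe (f172443 IH) (Lpn (LP (LK LD1_c2 LD2_c47 LD3_c14))))))))
theorem f542197 : Led Lsl_ct (LP (LK LD1_c7 LD2_c59 LD3_c14)) = (LP (LK LD1_c3 LD2_c58 LD3_c61)) :=
  Lgr Lrot83 (Lpe (f181351 IH) (Lpe (K30.f174535 IH) (Lpe (K35.f174533 IH) (Lpr_cf (K35.f495250 IH) (Lpr_bf (f542195 IH) (Lpn (LP (LK LD1_c3 LD2_c58 LD3_c61))))))))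
theorem f181293 : Led Lsl_bf (LP (LK LD1_c4 LD2_c32 LD3_c22)) = (LP (LK LD1_c5 LD2_c40 LD3_c19)) :=
  Lgr Lrot24 (Lpr_bt (K37.f181269 IH) (Lpn (LP (LK LD1_c5 LD2_c40 LD3_c19))))
theorem f423639 : Led Lsl_ft (LP (LK LD1_c4 LD2_c31 LD3_c57)) = (LP (LK LD1_c2 LD2_c46 LD3_c7)) :=
  Lgr Lrot4 (Lpe (K10.f174812 IH) (Lpr_ff (f423637 IH) (Lpe (f181311 IH) (Lpn (LP (LK LD1_c2 LD2_c46 LD3_c7))))))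
theorem f174813 : Led Lsl_dt (LP (LK LD1_c9 LD2_c1 LD3_c25)) = (LP (LK LD1_c4 LD2_c31 LD3_c57)) :=
  Lgr Lrot27 (Lpr_cf (K31.f174765 IH) (Lpe (K31.f174756 IH) (Lpe (K31.f174755 IH) (Lpe (K9.f174733 IH) (Lpe (K38.f100415 IH) (Lpr_gt (K31.f174809 IH) (Lpr_ct (K31.f174810 IH) (Lpr_gt (K31.f174811 IH) (Lpr_ct (K10.f174812 IH) (Lpn (LP (LK LD1_c4 LD2_c31 LD3_c57))))))))))))
theorem f423069 : Led Lsl_ff (LP (LK LD1_c9 LD2_c1 LD3_c25)) = (LP (LK LD1_c5 LD2_c38 LD3_c11)) :=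
  Lgr Lrot25 (Lpr_bt (K31.f174754 IH) (Lpr_ft (K31.f423064 IH) (Lpr_bt (f423068 IH) (Lpn (LP (LK LD1_c5 LD2_c38 LD3_c11))))))
theorem f423641 : Led Lsl_df (LP (LK LD1_c5 LD2_c38 LD3_c11)) = (LP (LK LD1_c2 LD2_c46 LD3_c7)) :=
  Lgr Lrot78 (Lpe (f423069 IH) (Lpr_dt (f174813 IH) (Lpr_ft (f423639 IH) (Lpn (LP (LK LD1_c2 LD2_c46 LD3_c7))))))
theorem f424178 : Led Lsl_af (LP (LK LD1_c2 LD2_c46 LD3_c7)) = (LP (LK LD1_c4 LD2_c57 LD3_c4)) :=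
  Lgr Lrot117 (Lpe (f423641 IH) (Lpr_at (f424172 IH) (Lpr_dt (f172488 IH) (Lpn (LP (LK LD1_c4 LD2_c57 LD3_c4))))))
theorem f424193 : Led Lsl_gf (LP (LK LD1_c2 LD2_c46 LD3_c7)) = (LP (LK LD1_c4 LD2_c23 LD3_c24)) :=
  Lgr Lrot76 (Lpr_af (f424178 IH) (Lpr_ff (K31.f424133 IH) (Lpr_gt (K31.f181754 IH) (Lpn (LP (LK LD1_c4 LD2_c23 LD3_c24))))))
theorem f542234 : Led Lsl_gt (LP (LK LD1_c2 LD2_c47 LD3_c14)) = (LP (LK LD1_c4 LD2_c23 LD3_c23)) :=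
  Lgr Lrot164 (Lpe (f172444 IH) (Lpr_ct (K31.f172492 IH) (Lpr_gf (K37.f542228 IH) (Lpe (f542197 IH) (Lpr_gf (f423602 IH) (Lpr_bf (f181293 IH) (Lpr_ct (K37.f181268 IH) (Lpr_gf (f424193 IH) (Lpe (f424195 IH) (Lpr_bt (f424201 IH) (Lpn (LP (LK LD1_c4 LD2_c23 LD3_c23)))))))))))))
theorem f552594 : Led Lsl_df (LP (LK LD1_c2 LD2_c49 LD3_c10)) = (LP (LK LD1_c2 LD2_c47 LD3_c23)) :=
  Lgr Lrot84 (Lpe (f60132 IH) (Lpe (K1.f60133 IH) (Lpr_gf (f552590 IH) (Lpe (f542237 IH) (Lpe (f542234 IH) (Lpe (K31.f172493 IH) (Lpr_gt (K31.f172434 IH) (Lpr_dt (K38.f172500 IH) (Lpr_gt (K36.f280301 IH) (Lpn (LP (LK LD1_c2 LD2_c47 LD3_c23))))))))))))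
theorem f178966 : Led Lsl_cf (LP (LK LD1_c4 LD2_c31 LD3_c40)) = (LP (LK LD1_c4 LD2_c22 LD3_c30)) :=
  Lgr Lrot11 (Lpr_ct (K38.f178957 IH) (Lpn (LP (LK LD1_c4 LD2_c22 LD3_c30))))
theorem f280356 : Led Lsl_ff (LP (LK LD1_c5 LD2_c42 LD3_c35)) = (LP (LK LD1_c9 LD2_c2 LD3_c1)) :=
  Lgr Lrot30 (Lpr_at (K31.f280355 IH) (Lpr_ft (K16.f280352 IH) (Lpr_at (K16.f174502 IH) (Lpn (LP (LK LD1_c9 LD2_c2 LD3_c1))))))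
theorem f174223 : Led Lsl_gt (LP (LK LD1_c5 LD2_c42 LD3_c54)) = (LP (LK LD1_c2 LD2_c47 LD3_c25)) :=
  Lre_g IH (LK LD1_c5 LD2_c42 LD3_c54) (LK LD1_c2 LD2_c47 LD3_c25) Lrfl Lrfl
theorem f281947 : Led Lsl_gf (LP (LK LD1_c5 LD2_c42 LD3_c54)) = (LP (LK LD1_c9 LD2_c2 LD3_c1)) :=
  Lgr Lrot47 (Lpr_gt (f174223 IH) (Lpe (K31.f280355 IH) (Lpr_ff (f280356 IH) (Lpn (LP (LK LD1_c9 LD2_c2 LD3_c1))))))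
theorem f226008 : Led Lsl_cf (LP (LK LD1_c1 LD2_c17 LD3_c58)) = (LP (LK LD1_c0 LD2_c36 LD3_c42)) :=
  Lgr Lrot169 (Lpr_gt (K17.f225356 IH) (Lpe (K14.f226006 IH) (Lpr_df (K12.f225933 IH) (Lpe (K9.f174623 IH) (Lpe (K9.f174629 IH) (Lpe (K9.f20590 IH) (Lpe (K9.f180225 IH) (Lpr_df (K12.f225425 IH) (Lpr_gt (K12.f174941 IH) (Lpn (LP (LK LD1_c0 LD2_c36 LD3_c42))))))))))))
theorem f380158 : Led Lsl_bt (LP (LK LD1_c0 LD2_c36 LD3_c42)) = (LP (LK LD1_c1 LD2_c19 LD3_c28)) :=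
  Lre_b IH (LK LD1_c0 LD2_c36 LD3_c42) (LK LD1_c1 LD2_c19 LD3_c28) Lrfl Lrfl
theorem f380602 : Led Lsl_bt (LP (LK LD1_c5 LD2_c40 LD3_c23)) = (LP (LK LD1_c2 LD2_c46 LD3_c10)) :=
  Lre_b IH (LK LD1_c5 LD2_c40 LD3_c23) (LK LD1_c2 LD2_c46 LD3_c10) Lrfl Lrfl
theorem f418619 : Led Lsl_cf (LP (LK LD1_c5 LD2_c42 LD3_c54)) = (LP (LK LD1_c5 LD2_c40 LD3_c23)) :=
  Lgr Lrot160 (Lpr_gt (f174223 IH) (Lpe (K36.f172501 IH) (Lpr_bt (K31.f174222 IH) (Lpe (K9.f174220 IH) (Lpe (K9.f174147 IH) (Lpr_gt (K9.f174155 IH) (Lpr_cf (f226008 IH) (Lpr_bt (f380158 IH) (Lpr_gt (K31.f380164 IH) (Lpe (f380602 IH) (Lpn (LP (LK LD1_c5 LD2_c40 LD3_c23)))))))))))))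
theorem f418625 : Led Lsl_ct (LP (LK LD1_c5 LD2_c42 LD3_c54)) = (LP (LK LD1_c5 LD2_c40 LD3_c23)) :=
  Lgr Lrot59 (Lpr_cf (f418619 IH) (Lpn (LP (LK LD1_c5 LD2_c40 LD3_c23))))
theorem f552611 : Led Lsl_dt (LP (LK LD1_c4 LD2_c31 LD3_c40)) = (LP (LK LD1_c5 LD2_c40 LD3_c23)) :=
  Lgr Lrot27 (Lpr_cf (f178966 IH) (Lpr_gf (K38.f385860 IH) (Lpe (K18.f168271 IH) (Lpr_gf (K35.f547815 IH) (Lpr_df (f552594 IH) (Lpr_gt (K36.f280302 IH) (Lpr_ct (K16.f181767 IH) (Lpe (f281947 IH) (Lpr_ct (f418625 IH) (Lpn (LP (LK LD1_c5 LD2_c40 LD3_c23))))))))))))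
theorem f178959 : Led Lsl_gt (LP (LK LD1_c9 LD2_c1 LD3_c18)) = (LP (LK LD1_c4 LD2_c31 LD3_c40)) :=
  Lre_g IH (LK LD1_c9 LD2_c1 LD3_c18) (LK LD1_c4 LD2_c31 LD3_c40) Lrfl Lrfl
theorem f175850 : Led Lsl_bt (LP (LK LD1_c1 LD2_c20 LD3_c45)) = (LP (LK LD1_c2 LD2_c49 LD3_c12)) :=
  Lre_b IH (LK LD1_c1 LD2_c20 LD3_c45) (LK LD1_c2 LD2_c49 LD3_c12) Lrfl Lrfl
theorem f268461 : Led Lsl_ft (LP (LK LD1_c2 LD2_c49 LD3_c12)) = (LP (LK LD1_c3 LD2_c0 LD3_c52)) :=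
  Lgr Lrot75 (Lpe (f175850 IH) (Lpr_ff (K15.f268459 IH) (Lpe (K38.f80295 IH) (Lpn (LP (LK LD1_c3 LD2_c0 LD3_c52))))))
def v425 : LQ := Led Lsl_ct (LP (LK LD1_c0 LD2_c38 LD3_c5))
def v2972 : LQ := Led Lsl_bt v425
theorem f536360 : Led Lsl_bt v425 = v2972 :=
  Lrfl
theorem f452771 : Led Lsl_ct (LP (LK LD1_c0 LD2_c38 LD3_c5)) = v425 :=
  Lrfl
theorem f72272 : Led Lsl_bt (LP (LK LD1_c2 LD2_c53 LD3_c27)) = (LP (LK LD1_c1 LD2_c22 LD3_c48)) :=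
  Lre_b IH (LK LD1_c2 LD2_c53 LD3_c27) (LK LD1_c1 LD2_c22 LD3_c48) Lrfl Lrfl
theorem f536362 : Led Lsl_cf (LP (LK LD1_c2 LD2_c53 LD3_c27)) = v2972 :=
  Lgr Lrot97 (Lpr_bt (f72272 IH) (Lpr_ct (K8.f138309 IH) (Lpr_bt (K38.f152026 IH) (Lpr_ct (f452771 IH) (Lpr_bt (f536360 IH) (Lpn v2972))))))
theorem f227697 : Led Lsl_bt (LP (LK LD1_c0 LD2_c41 LD3_c3)) = (LP (LK LD1_c1 LD2_c28 LD3_c49)) :=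
  Lre_b IH (LK LD1_c0 LD2_c41 LD3_c3) (LK LD1_c1 LD2_c28 LD3_c49) Lrfl Lrfl
theorem f424517 : Led Lsl_at (LP (LK LD1_c0 LD2_c38 LD3_c5)) = (LP (LK LD1_c1 LD2_c4 LD3_c16)) :=
  Lgr Lrot66 (Lpe (K8.f163558 IH) (Lpe (K35.f163577 IH) (Lpr_ff (K35.f424515 IH) (Lpn (LP (LK LD1_c1 LD2_c4 LD3_c16))))))
theorem f452772 : Led Lsl_cf (LP (LK LD1_c0 LD2_c38 LD3_c5)) = v425 :=
  Lgr Lrot11 (Lpr_ct (f452771 IH) (Lpn v425))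
theorem f494324 : Led Lsl_af v425 = K35.v1252 :=
  Lgr Lrot68 (Lpe (f452772 IH) (Lpr_at (f424517 IH) (Lpr_ct (K35.f494323 IH) (Lpn K35.v1252))))
theorem f449096 : Led Lsl_ft (LP (LK LD1_c0 LD2_c41 LD3_c6)) = (LP (LK LD1_c1 LD2_c5 LD3_c53)) :=
  Lgr Lrot48 (Lpr_ff (K36.f449092 IH) (Lpn (LP (LK LD1_c1 LD2_c5 LD3_c53))))
theorem f449544 : Led Lsl_af (LP (LK LD1_c0 LD2_c41 LD3_c3)) = (LP (LK LD1_c1 LD2_c5 LD3_c53)) :=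
  Lgr Lrot45 (Lpr_ft (K38.f449542 IH) (Lpe (K38.f449100 IH) (Lpr_ft (f449096 IH) (Lpn (LP (LK LD1_c1 LD2_c5 LD3_c53))))))
theorem f494330 : Led Lsl_bt K35.v412 = K35.v1252 :=
  Lgr Lrot127 (Lpr_bf (K35.f494329 IH) (Lpn K35.v1252))
theorem f198321 : Led Lsl_bt (LP (LK LD1_c1 LD2_c4 LD3_c3)) = (LP (LK LD1_c1 LD2_c5 LD3_c53)) :=
  Lgr Lrot127 (Lpr_bf (K10.f198319 IH) (Lpn (LP (LK LD1_c1 LD2_c5 LD3_c53))))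
theorem f537083 : K35.v1252 = (LP (LK LD1_c1 LD2_c5 LD3_c53)) :=
  Lefun (Lecon (f494330 IH) (K35.f536878 IH)) (f198321 IH)
theorem f537225 : v425 = (LP (LK LD1_c0 LD2_c41 LD3_c3)) :=
  Lefun (Lecon (Lfl_af (f494324 IH)) (f537083 IH)) (Lfl_af (f449544 IH))
theorem f537545 : v2972 = (LP (LK LD1_c1 LD2_c28 LD3_c49)) :=
  Lefun (Lecon (f536360 IH) (f537225 IH)) (f227697 IH)
theorem f537824 : (LP (LK LD1_c2 LD2_c53 LD3_c27)) = K32.v1828 :=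
  Lefun (Lecon (Lfl_cf (f536362 IH)) (f537545 IH)) (K32.f503172 IH)
theorem f423547 : Led Lsl_ff (LP (LK LD1_c2 LD2_c46 LD3_c46)) = (LP (LK LD1_c4 LD2_c32 LD3_c24)) :=
  Lgr Lrot23 (Lpr_ct (K38.f175283 IH) (Lpr_ft (f423545 IH) (Lpr_ct (K30.f174546 IH) (Lpn (LP (LK LD1_c4 LD2_c32 LD3_c24))))))
theorem f423527 : Led Lsl_at (LP (LK LD1_c2 LD2_c46 LD3_c46)) = (LP (LK LD1_c4 LD2_c32 LD3_c49)) :=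
  Lgr Lrot100 (Lpr_af (K38.f423525 IH) (Lpn (LP (LK LD1_c4 LD2_c32 LD3_c49))))
theorem f382075 : Led Lsl_bt (LP (LK LD1_c7 LD2_c59 LD3_c13)) = (LP (LK LD1_c4 LD2_c22 LD3_c52)) :=
  Lgr Lrot128 (Lpr_cf (K31.f382072 IH) (Lpe (K31.f382052 IH) (Lpr_cf (K31.f382046 IH) (Lpe (K31.f181755 IH) (Lpe (K31.f181759 IH) (Lpn (LP (LK LD1_c4 LD2_c22 LD3_c52))))))))
theorem f175489 : Led Lsl_ct (LP (LK LD1_c5 LD2_c41 LD3_c46)) = (LP (LK LD1_c2 LD2_c46 LD3_c61)) :=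
  Lre_c IH (LK LD1_c5 LD2_c41 LD3_c46) (LK LD1_c2 LD2_c46 LD3_c61) Lrfl Lrfl
theorem f538890 : Led Lsl_gf (LP (LK LD1_c4 LD2_c32 LD3_c49)) = (LP (LK LD1_c2 LD2_c46 LD3_c61)) :=
  Lgr Lrot126 (Lpe (K38.f382077 IH) (Lpr_bt (f382075 IH) (Lpr_gt (K31.f181417 IH) (Lpr_ct (K16.f181410 IH) (Lpr_gt (K31.f173368 IH) (Lpe (K31.f181781 IH) (Lpr_bt (K35.f538882 IH) (Lpr_gt (K35.f268639 IH) (Lpe (K10.f181588 IH) (Lpr_ct (f175489 IH) (Lpn (LP (LK LD1_c2 LD2_c46 LD3_c61)))))))))))))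
theorem f552070 : Led Lsl_gt (LP (LK LD1_c4 LD2_c32 LD3_c24)) = (LP (LK LD1_c2 LD2_c46 LD3_c61)) :=
  Lgr Lrot5 (Lpe (f423547 IH) (Lpr_at (f423527 IH) (Lpr_gf (f538890 IH) (Lpn (LP (LK LD1_c2 LD2_c46 LD3_c61))))))
theorem f174569 : Led Lsl_bt (LP (LK LD1_c7 LD2_c59 LD3_c14)) = (LP (LK LD1_c3 LD2_c58 LD3_c59)) :=
  Lre_b IH (LK LD1_c7 LD2_c59 LD3_c14) (LK LD1_c3 LD2_c58 LD3_c59) Lrfl Lrfl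
theorem f549907 : Led Lsl_gf (LP (LK LD1_c3 LD2_c58 LD3_c61)) = K36.v2887 :=
  Lgr Lrot144 (Lpr_dt (K37.f100565 IH) (Lpr_gt (K37.f157827 IH) (Lpr_dt (K2.f60877 IH) (Lpe (K2.f60872 IH) (Lpr_df (K38.f549894 IH) (Lpe (K38.f181682 IH) (Lpe (K30.f181658 IH) (Lpe (K31.f181559 IH) (Lpr_cf (K36.f536076 IH) (Lpn K36.v2887))))))))))
theorem f536077 : Led Lsl_bt (LP (LK LD1_c2 LD2_c46 LD3_c52)) = (LP (LK LD1_c5 LD2_c41 LD3_c38)) :=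
  Lre_b IH (LK LD1_c2 LD2_c46 LD3_c52) (LK LD1_c5 LD2_c41 LD3_c38) Lrfl Lrfl
theorem f552076 : Led Lsl_gf (LP (LK LD1_c5 LD2_c41 LD3_c38)) = (LP (LK LD1_c4 LD2_c23 LD3_c11)) :=
  Lgr Lrot124 (Lpe (f536077 IH) (Lpr_ct (K36.f536078 IH) (Lpe (f549907 IH) (Lpe (f542197 IH) (Lpr_bt (f174569 IH) (Lpr_gt (K30.f174536 IH) (Lpr_ct (K30.f174546 IH) (Lpr_gt (f552070 IH) (Lpe (f175489 IH) (Lpr_bt (K10.f181588 IH) (Lpn (LP (LK LD1_c4 LD2_c23 LD3_c11)))))))))))))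
theorem f410984 : Led Lsl_ft (LP (LK LD1_c1 LD2_c1 LD3_c42)) = (LP (LK LD1_c1 LD2_c55 LD3_c30)) :=
  Lgr Lrot48 (Lpr_ff (K38.f410980 IH) (Lpn (LP (LK LD1_c1 LD2_c55 LD3_c30))))
theorem f410986 : Led Lsl_ef (LP (LK LD1_c4 LD2_c23 LD3_c11)) = (LP (LK LD1_c6 LD2_c25 LD3_c29)) :=
  Lgr Lrot21 (Lpr_ft (K10.f181587 IH) (Lpr_et (K10.f39211 IH) (Lpr_ft (f410984 IH) (Lpr_et (K13.f181318 IH) (Lpr_ft (K38.f242613 IH) (Lpn (LP (LK LD1_c6 LD2_c25 LD3_c29))))))))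
theorem f128277 : Led Lsl_ft (LP (LK LD1_c1 LD2_c45 LD3_c21)) = (LP (LK LD1_c1 LD2_c43 LD3_c31)) :=
  Lgr Lrot75 (Lpe (K36.f90066 IH) (Lpr_ff (K5.f128273 IH) (Lpe (K8.f6109 IH) (Lpn (LP (LK LD1_c1 LD2_c43 LD3_c31))))))
theorem f108126 : Led Lsl_at (LP (LK LD1_c1 LD2_c43 LD3_c31)) = (LP (LK LD1_c3 LD2_c33 LD3_c36)) :=
  Lre_a IH (LK LD1_c1 LD2_c43 LD3_c31) (LK LD1_c3 LD2_c33 LD3_c36) Lrfl Lrfl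
theorem f519699 : Led Lsl_gf (LP (LK LD1_c3 LD2_c33 LD3_c36)) = K36.v2431 :=
  Lgr Lrot76 (Lpe (f108126 IH) (Lpe (f128277 IH) (Lpr_gt (K36.f519698 IH) (Lpn K36.v2431))))
theorem f227750 : Led Lsl_dt (LP (LK LD1_c1 LD2_c28 LD3_c13)) = (LP (LK LD1_c3 LD2_c4 LD3_c27)) :=
  Lre_d IH (LK LD1_c1 LD2_c28 LD3_c13) (LK LD1_c3 LD2_c4 LD3_c27) Lrfl Lrfl
theorem f59141 : Led Lsl_ct (LP (LK LD1_c3 LD2_c3 LD3_c47)) = (LP (LK LD1_c1 LD2_c27 LD3_c56)) :=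
  Lre_c IH (LK LD1_c3 LD2_c3 LD3_c47) (LK LD1_c1 LD2_c27 LD3_c56) Lrfl Lrfl
theorem f255493 : Led Lsl_et (LP (LK LD1_c2 LD2_c51 LD3_c36)) = (LP (LK LD1_c3 LD2_c3 LD3_c47)) :=
  Lgr Lrot158 (Lpr_cf (K14.f255489 IH) (Lpe (K13.f80810 IH) (Lpe (f59141 IH) (Lpn (LP (LK LD1_c3 LD2_c3 LD3_c47))))))
theorem f503177 : Led Lsl_df (LP (LK LD1_c4 LD2_c42 LD3_c43)) = K32.v1828 :=
  Lgr Lrot38 (Lpr_dt (K32.f503176 IH) (Lpn K32.v1828))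
theorem f552092 : Led Lsl_ef (LP (LK LD1_c5 LD2_c41 LD3_c38)) = K32.v1828 :=
  Lgr Lrot17 (Lpr_gf (f552076 IH) (Lpr_ef (f410986 IH) (Lpe (K38.f547022 IH) (Lpr_gf (f519699 IH) (Lpqs (K37.f542992 IH) (Lpe (f227750 IH) (Lpe (K12.f211028 IH) (Lpe (f255493 IH) (Lpr_dt (K14.f205194 IH) (Lpr_gf (f255509 IH) (Lpr_df (f503177 IH) (Lpn K32.v1828))))))))))))
theorem f552098 : Led Lsl_et (LP (LK LD1_c5 LD2_c41 LD3_c38)) = (LP (LK LD1_c2 LD2_c53 LD3_c27)) :=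
  Lgr Lrot87 (Lpr_ef (f552092 IH) (Lpq (f537824 IH) (Lpn (LP (LK LD1_c2 LD2_c53 LD3_c27)))))
theorem f552082 : Led Lsl_dt (LP (LK LD1_c5 LD2_c41 LD3_c38)) = (LP (LK LD1_c11 LD2_c13 LD3_c26)) :=
  Lre_d IH (LK LD1_c5 LD2_c41 LD3_c38) (LK LD1_c11 LD2_c13 LD3_c26) Lrfl Lrfl
theorem f60225 : Led Lsl_et (LP (LK LD1_c2 LD2_c4 LD3_c7)) = (LP (LK LD1_c2 LD2_c49 LD3_c2)) :=
  Lgr Lrot158 (Lpe (K1.f27864 IH) (Lpr_ef (K1.f60222 IH) (Lpe (K1.f60203 IH) (Lpn (LP (LK LD1_c2 LD2_c49 LD3_c2))))))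
theorem f552104 : Led Lsl_gf (LP (LK LD1_c11 LD2_c13 LD3_c26)) = (LP (LK LD1_c6 LD2_c14 LD3_c7)) :=
  Lgr Lrot134 (Lpe (f552082 IH) (Lpr_et (f552098 IH) (Lpqs (f537824 IH) (Lpe (K32.f503175 IH) (Lpe (K37.f182466 IH) (Lpr_dt (K13.f182465 IH) (Lpe (K13.f227325 IH) (Lpe (K1.f27865 IH) (Lpr_et (f60225 IH) (Lpr_gt (K10.f197825 IH) (Lpr_dt (K10.f197809 IH) (Lpn (LP (LK LD1_c6 LD2_c14 LD3_c7))))))))))))))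
theorem f281808 : Led Lsl_ct (LP (LK LD1_c11 LD2_c13 LD3_c26)) = (LP (LK LD1_c20 LD2_c8 LD3_c1)) :=
  Lre_c IH (LK LD1_c11 LD2_c13 LD3_c26) (LK LD1_c20 LD2_c8 LD3_c1) Lrfl Lrfl
def v1457 : LQ := Led Lsl_bt (LP (LK LD1_c1 LD2_c18 LD3_c61))
theorem f495665 : Led Lsl_bt (LP (LK LD1_c1 LD2_c18 LD3_c61)) = v1457 :=
  Lrfl
theorem f3009 : Led Lsl_bt (LP (LK LD1_c2 LD2_c24 LD3_c14)) = (LP (LK LD1_c1 LD2_c9 LD3_c12)) :=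
  Lre_b IH (LK LD1_c2 LD2_c24 LD3_c14) (LK LD1_c1 LD2_c9 LD3_c12) Lrfl Lrfl
theorem f495668 : Led Lsl_df (LP (LK LD1_c2 LD2_c24 LD3_c14)) = v1457 :=
  Lgr Lrot12 (Lpr_bt (f3009 IH) (Lpr_dt (K13.f197389 IH) (Lpr_bt (f495665 IH) (Lpn v1457))))
theorem f495672 : Led Lsl_dt (LP (LK LD1_c2 LD2_c24 LD3_c14)) = v1457 :=
  Lgr Lrot42 (Lpr_df (f495668 IH) (Lpn v1457))
theorem f30805 : Led Lsl_bt (LP (LK LD1_c4 LD2_c0 LD3_c2)) = (LP (LK LD1_c1 LD2_c56 LD3_c48)) :=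
  Lre_b IH (LK LD1_c4 LD2_c0 LD3_c2) (LK LD1_c1 LD2_c56 LD3_c48) Lrfl Lrfl
theorem f495667 : Led Lsl_cf (LP (LK LD1_c4 LD2_c0 LD3_c2)) = v1457 :=
  Lgr Lrot97 (Lpr_bt (f30805 IH) (Lpr_ct (K1.f6938 IH) (Lpe (K10.f196267 IH) (Lpr_ct (K10.f196275 IH) (Lpr_bt (f495665 IH) (Lpn v1457))))))
theorem f272391 : Led Lsl_cf (LP (LK LD1_c3 LD2_c1 LD3_c1)) = (LP (LK LD1_c4 LD2_c22 LD3_c59)) :=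
  Lgr Lrot14 (Lpe (K18.f225581 IH) (Lpr_gf (K18.f225583 IH) (Lpe (K10.f37180 IH) (Lpe (K10.f37179 IH) (Lpr_ct (K10.f37176 IH) (Lpe (K13.f197821 IH) (Lpr_dt (K13.f175845 IH) (Lpr_gt (K18.f272387 IH) (Lpr_dt (K18.f193710 IH) (Lpn (LP (LK LD1_c4 LD2_c22 LD3_c59))))))))))))
theorem f538862 : Led Lsl_dt (LP (LK LD1_c15 LD2_c5 LD3_c48)) = (LP (LK LD1_c16 LD2_c20 LD3_c58)) :=
  Lgr Lrot173 (Lpe (K38.f29252 IH) (Lpe (K38.f30812 IH) (Lpr_cf (f495667 IH) (Lpe (f495672 IH) (Lpr_cf (K8.f2998 IH) (Lpe (K35.f3007 IH) (Lpe (K35.f3008 IH) (Lpe (K35.f30382 IH) (Lpe (K35.f30017 IH) (Lpe (K35.f30038 IH) (Lpr_cf (K35.f538856 IH) (Lpr_df (K18.f225573 IH) (Lpr_cf (f272391 IH) (Lpe (K18.f193710 IH) (Lpe (K16.f193707 IH) (Lpn (LP (LK LD1_c16 LD2_c20 LD3_c58))))))))))))))))))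
theorem f538850 : Led Lsl_gt (LP (LK LD1_c15 LD2_c5 LD3_c48)) = (LP (LK LD1_c11 LD2_c23 LD3_c28)) :=
  Lgr Lrot5 (Lpr_ft (K38.f30400 IH) (Lpr_at (K35.f30391 IH) (Lpr_gf (K35.f538848 IH) (Lpn (LP (LK LD1_c11 LD2_c23 LD3_c28))))))
theorem f552110 : Led Lsl_dt (LP (LK LD1_c20 LD2_c8 LD3_c1)) = (LP (LK LD1_c16 LD2_c21 LD3_c0)) :=
  Lgr Lrot27 (Lpe (f281808 IH) (Lpr_gf (f552104 IH) (Lpe (K10.f197816 IH) (Lpr_gf (K16.f241361 IH) (Lpe (f538862 IH) (Lpr_gt (f538850 IH) (Lpr_ct (K37.f60756 IH) (Lpr_gt (K37.f212025 IH) (Lpr_ct (K37.f212028 IH) (Lpn (LP (LK LD1_c16 LD2_c21 LD3_c0))))))))))))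
theorem f449481 : Led Lsl_af (LP (LK LD1_c2 LD2_c46 LD3_c29)) = (LP (LK LD1_c4 LD2_c23 LD3_c0)) :=
  Lgr Lrot0 (Lpr_at (K36.f449479 IH) (Lpn (LP (LK LD1_c4 LD2_c23 LD3_c0))))
theorem f552118 : Led Lsl_ft (LP (LK LD1_c5 LD2_c41 LD3_c38)) = (LP (LK LD1_c4 LD2_c23 LD3_c0)) :=
  Lgr Lrot142 (Lpr_dt (f552082 IH) (Lpr_ct (f281808 IH) (Lpr_dt (f552110 IH) (Lpr_ct (K37.f197846 IH) (Lpr_dt (K37.f80973 IH) (Lpr_ct (K36.f80970 IH) (Lpr_dt (K38.f198240 IH) (Lpr_ct (K35.f177026 IH) (Lpr_af (f449481 IH) (Lpn (LP (LK LD1_c4 LD2_c23 LD3_c0))))))))))))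
theorem f138832 : Led Lsl_bt (LP (LK LD1_c2 LD2_c15 LD3_c15)) = (LP (LK LD1_c4 LD2_c36 LD3_c6)) :=
  Lre_b IH (LK LD1_c2 LD2_c15 LD3_c15) (LK LD1_c4 LD2_c36 LD3_c6) Lrfl Lrfl
theorem f163304 : Led Lsl_ff (LP (LK LD1_c2 LD2_c53 LD3_c27)) = (LP (LK LD1_c4 LD2_c36 LD3_c6)) :=
  Lgr Lrot25 (Lpr_bt (f72272 IH) (Lpr_ft (K8.f163302 IH) (Lpr_bt (f138832 IH) (Lpn (LP (LK LD1_c4 LD2_c36 LD3_c6))))))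
theorem f449435 : Led Lsl_ff (LP (LK LD1_c2 LD2_c26 LD3_c56)) = (LP (LK LD1_c2 LD2_c9 LD3_c60)) :=
  Lgr Lrot19 (Lpr_dt (K18.f198083 IH) (Lpr_ft (K36.f449423 IH) (Lpr_dt (K18.f227657 IH) (Lpn (LP (LK LD1_c2 LD2_c9 LD3_c60))))))
theorem f552122 : Led Lsl_ef (LP (LK LD1_c4 LD2_c36 LD3_c6)) = (LP (LK LD1_c2 LD2_c26 LD3_c56)) :=
  Lgr Lrot21 (Lpe (f163304 IH) (Lpqs (f537824 IH) (Lpe (f552092 IH) (Lpr_ft (f552118 IH) (Lpr_et (K13.f227679 IH) (Lpe (f449435 IH) (Lpn (LP (LK LD1_c2 LD2_c26 LD3_c56)))))))))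
theorem f552128 : Led Lsl_gt (LP (LK LD1_c4 LD2_c36 LD3_c6)) = (LP (LK LD1_c4 LD2_c26 LD3_c58)) :=
  Lgr Lrot137 (Lpr_ef (f552122 IH) (Lpr_dt (K18.f198083 IH) (Lpe (K12.f227536 IH) (Lpe (K11.f182386 IH) (Lpr_et (K11.f210332 IH) (Lpe (K12.f210335 IH) (Lpe (K14.f238995 IH) (Lpr_dt (K36.f177126 IH) (Lpe (K36.f177131 IH) (Lpr_df (K36.f239003 IH) (Lpn (LP (LK LD1_c4 LD2_c26 LD3_c58)))))))))))))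
theorem f35894 : Led Lsl_bt (LP (LK LD1_c2 LD2_c10 LD3_c12)) = (LP (LK LD1_c1 LD2_c2 LD3_c11)) :=
  Lre_b IH (LK LD1_c2 LD2_c10 LD3_c12) (LK LD1_c1 LD2_c2 LD3_c11) Lrfl Lrfl
theorem f29469 : Led Lsl_ft (LP (LK LD1_c1 LD2_c57 LD3_c12)) = (LP (LK LD1_c0 LD2_c55 LD3_c24)) :=
  Lre_f IH (LK LD1_c1 LD2_c57 LD3_c12) (LK LD1_c0 LD2_c55 LD3_c24) Lrfl Lrfl
theorem f37051 : Led Lsl_gf (LP (LK LD1_c1 LD2_c57 LD3_c10)) = (LP (LK LD1_c3 LD2_c59 LD3_c31)) :=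
  Lgr Lrot76 (Lpe (K7.f29460 IH) (Lpe (f29469 IH) (Lpr_gt (K7.f37045 IH) (Lpn (LP (LK LD1_c3 LD2_c59 LD3_c31))))))
theorem f158210 : Led Lsl_gt (LP (LK LD1_c1 LD2_c57 LD3_c10)) = (LP (LK LD1_c4 LD2_c0 LD3_c40)) :=
  Lgr Lrot149 (Lpr_cf (K7.f29455 IH) (Lpr_gf (f37051 IH) (Lpe (K7.f37044 IH) (Lpr_ct (K7.f37043 IH) (Lpr_gf (K5.f101598 IH) (Lpe (K5.f100421 IH) (Lpe (K8.f100419 IH) (Lpe (K6.f80134 IH) (Lpe (f35894 IH) (Lpr_ct (K8.f158194 IH) (Lpn (LP (LK LD1_c4 LD2_c0 LD3_c40)))))))))))))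
theorem f29562 : Led Lsl_bt (LP (LK LD1_c1 LD2_c56 LD3_c51)) = (LP (LK LD1_c1 LD2_c57 LD3_c10)) :=
  Lgr Lrot62 (Lpe (K8.f3022 IH) (Lpe (K6.f2955 IH) (Lpr_af (K1.f29557 IH) (Lpe (K7.f29492 IH) (Lpe (K7.f29459 IH) (Lpn (LP (LK LD1_c1 LD2_c57 LD3_c10))))))))
theorem f3021 : Led Lsl_at (LP (LK LD1_c2 LD2_c24 LD3_c16)) = (LP (LK LD1_c1 LD2_c9 LD3_c13)) :=
  Lre_a IH (LK LD1_c2 LD2_c24 LD3_c16) (LK LD1_c1 LD2_c9 LD3_c13) Lrfl Lrfl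
theorem f3023 : Led Lsl_cf (LP (LK LD1_c2 LD2_c24 LD3_c16)) = (LP (LK LD1_c1 LD2_c56 LD3_c51)) :=
  Lgr Lrot1 (Lpr_at (f3021 IH) (Lpr_ct (K8.f3015 IH) (Lpr_at (K8.f3022 IH) (Lpn (LP (LK LD1_c1 LD2_c56 LD3_c51))))))
theorem f3041 : Led Lsl_at (LP (LK LD1_c1 LD2_c9 LD3_c13)) = (LP (LK LD1_c2 LD2_c24 LD3_c16)) :=
  Lre_a IH (LK LD1_c1 LD2_c9 LD3_c13) (LK LD1_c2 LD2_c24 LD3_c16) Lrfl Lrfl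
theorem f80867 : Led Lsl_gf (LP (LK LD1_c2 LD2_c24 LD3_c16)) = (LP (LK LD1_c2 LD2_c51 LD3_c6)) :=
  Lgr Lrot76 (Lpe (f3041 IH) (Lpr_ff (K8.f80857 IH) (Lpr_gt (K31.f37317 IH) (Lpn (LP (LK LD1_c2 LD2_c51 LD3_c6))))))
theorem f552134 : Led Lsl_cf (LP (LK LD1_c2 LD2_c51 LD3_c6)) = (LP (LK LD1_c4 LD2_c26 LD3_c58)) :=
  Lgr Lrot125 (Lpe (f80867 IH) (Lpr_cf (f3023 IH) (Lpr_bt (f29562 IH) (Lpr_gt (f158210 IH) (Lpe (K8.f158260 IH) (Lpr_ct (K8.f158262 IH) (Lpr_gt (K6.f100241 IH) (Lpe (K6.f71053 IH) (Lpr_bt (f138832 IH) (Lpr_gt (f552128 IH) (Lpn (LP (LK LD1_c4 LD2_c26 LD3_c58)))))))))))))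
theorem f239006 : Led Lsl_dt (LP (LK LD1_c5 LD2_c50 LD3_c50)) = (LP (LK LD1_c4 LD2_c26 LD3_c58)) :=
  Lgr Lrot42 (Lpr_df (K36.f239003 IH) (Lpn (LP (LK LD1_c4 LD2_c26 LD3_c58))))
theorem f101280 : Led Lsl_et (LP (LK LD1_c0 LD2_c28 LD3_c25)) = (LP (LK LD1_c1 LD2_c2 LD3_c20)) :=
  Lre_e IH (LK LD1_c0 LD2_c28 LD3_c25) (LK LD1_c1 LD2_c2 LD3_c20) Lrfl Lrfl
theorem f239011 : Led Lsl_gf (LP (LK LD1_c5 LD2_c50 LD3_c50)) = (LP (LK LD1_c3 LD2_c10 LD3_c8)) :=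
  Lgr Lrot134 (Lpr_df (K36.f239003 IH) (Lpr_et (K36.f101322 IH) (Lpr_gt (K10.f43027 IH) (Lpe (f101280 IH) (Lpr_dt (K1.f16616 IH) (Lpr_gt (K1.f38621 IH) (Lpe (K1.f38631 IH) (Lpr_et (K14.f38632 IH) (Lpe (K14.f204961 IH) (Lpr_dt (K32.f36349 IH) (Lpn (LP (LK LD1_c3 LD2_c10 LD3_c8)))))))))))))
theorem f552148 : Led Lsl_df (LP (LK LD1_c2 LD2_c51 LD3_c6)) = (LP (LK LD1_c4 LD2_c0 LD3_c24)) :=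
  Lgr Lrot84 (Lpr_cf (f552134 IH) (Lpe (f239006 IH) (Lpr_gf (f239011 IH) (Lpe (K32.f36349 IH) (Lpr_gf (K14.f204961 IH) (Lpe (K14.f59136 IH) (Lpr_gt (K13.f59090 IH) (Lpr_dt (K16.f59143 IH) (Lpr_gt (K13.f242597 IH) (Lpn (LP (LK LD1_c4 LD2_c0 LD3_c24))))))))))))
theorem f552140 : Led Lsl_ct (LP (LK LD1_c2 LD2_c51 LD3_c6)) = (LP (LK LD1_c4 LD2_c26 LD3_c58)) :=
  Lgr Lrot59 (Lpr_cf (f552134 IH) (Lpn (LP (LK LD1_c4 LD2_c26 LD3_c58))))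
theorem f315701 : Led Lsl_at (LP (LK LD1_c8 LD2_c27 LD3_c50)) = (LP (LK LD1_c8 LD2_c9 LD3_c60)) :=
  Lgr Lrot100 (Lpr_af (K20.f315699 IH) (Lpn (LP (LK LD1_c8 LD2_c9 LD3_c60))))
theorem f315727 : Led Lsl_ff (LP (LK LD1_c8 LD2_c27 LD3_c50)) = (LP (LK LD1_c8 LD2_c9 LD3_c61)) :=
  Lgr Lrot30 (Lpr_at (f315701 IH) (Lpe (K20.f315711 IH) (Lpr_at (K20.f315717 IH) (Lpn (LP (LK LD1_c8 LD2_c9 LD3_c61))))))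
theorem f315731 : Led Lsl_ft (LP (LK LD1_c8 LD2_c27 LD3_c50)) = (LP (LK LD1_c8 LD2_c9 LD3_c61)) :=
  Lgr Lrot48 (Lpr_ff (f315727 IH) (Lpn (LP (LK LD1_c8 LD2_c9 LD3_c61))))
theorem f315733 : Led Lsl_ff (LP (LK LD1_c4 LD2_c20 LD3_c33)) = (LP (LK LD1_c4 LD2_c4 LD3_c35)) :=
  Lgr Lrot23 (Lpe (K13.f231546 IH) (Lpr_ft (f315731 IH) (Lpr_ct (K20.f31581 IH) (Lpn (LP (LK LD1_c4 LD2_c4 LD3_c35))))))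
theorem f315737 : Led Lsl_ft (LP (LK LD1_c2 LD2_c7 LD3_c46)) = (LP (LK LD1_c1 LD2_c59 LD3_c17)) :=
  Lgr Lrot54 (Lpe (K16.f212061 IH) (Lpr_ff (f315733 IH) (Lpe (K13.f31582 IH) (Lpn (LP (LK LD1_c1 LD2_c59 LD3_c17))))))
theorem f315739 : Led Lsl_af (LP (LK LD1_c2 LD2_c7 LD3_c47)) = (LP (LK LD1_c1 LD2_c59 LD3_c17)) :=
  Lgr Lrot31 (Lpr_gf (K13.f239250 IH) (Lpr_gf (K16.f240619 IH) (Lpr_ft (f315737 IH) (Lpn (LP (LK LD1_c1 LD2_c59 LD3_c17))))))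
theorem f315250 : Led Lsl_ft (LP (LK LD1_c2 LD2_c7 LD3_c47)) = (LP (LK LD1_c2 LD2_c7 LD3_c33)) :=
  Lgr Lrot4 (Lpr_cf (K13.f239240 IH) (Lpr_ff (K20.f315244 IH) (Lpr_cf (K23.f239235 IH) (Lpn (LP (LK LD1_c2 LD2_c7 LD3_c33))))))
theorem f315741 : Led Lsl_at (LP (LK LD1_c2 LD2_c7 LD3_c33)) = (LP (LK LD1_c2 LD2_c7 LD3_c46)) :=
  Lgr Lrot66 (Lpe (f315250 IH) (Lpr_af (f315739 IH) (Lpe (f315737 IH) (Lpn (LP (LK LD1_c2 LD2_c7 LD3_c46))))))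
theorem f212060 : Led Lsl_et (LP (LK LD1_c2 LD2_c7 LD3_c46)) = (LP (LK LD1_c4 LD2_c20 LD3_c34)) :=
  Lre_e IH (LK LD1_c2 LD2_c7 LD3_c46) (LK LD1_c4 LD2_c20 LD3_c34) Lrfl Lrfl
theorem f315743 : Led Lsl_af (LP (LK LD1_c4 LD2_c20 LD3_c9)) = (LP (LK LD1_c4 LD2_c20 LD3_c34)) :=
  Lgr Lrot50 (Lpr_et (K32.f31777 IH) (Lpr_at (f315741 IH) (Lpr_et (f212060 IH) (Lpn (LP (LK LD1_c4 LD2_c20 LD3_c34))))))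
theorem f315745 : Led Lsl_at (LP (LK LD1_c4 LD2_c20 LD3_c9)) = (LP (LK LD1_c4 LD2_c20 LD3_c34)) :=
  Lgr Lrot100 (Lpr_af (f315743 IH) (Lpn (LP (LK LD1_c4 LD2_c20 LD3_c34))))
theorem f35783 : Led Lsl_et (LP (LK LD1_c4 LD2_c20 LD3_c34)) = (LP (LK LD1_c2 LD2_c7 LD3_c46)) :=
  Lre_e IH (LK LD1_c4 LD2_c20 LD3_c34) (LK LD1_c2 LD2_c7 LD3_c46) Lrfl Lrfl
theorem f240635 : Led Lsl_ct (LP (LK LD1_c2 LD2_c24 LD3_c46)) = (LP (LK LD1_c4 LD2_c20 LD3_c34)) :=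
  Lgr Lrot15 (Lpe (K19.f240634 IH) (Lpr_cf (K19.f240623 IH) (Lpe (f35783 IH) (Lpn (LP (LK LD1_c4 LD2_c20 LD3_c34))))))
theorem f240637 : Led Lsl_cf (LP (LK LD1_c2 LD2_c24 LD3_c46)) = (LP (LK LD1_c4 LD2_c20 LD3_c34)) :=
  Lgr Lrot11 (Lpr_ct (f240635 IH) (Lpn (LP (LK LD1_c4 LD2_c20 LD3_c34))))
theorem f315748 : Led Lsl_af (LP (LK LD1_c2 LD2_c18 LD3_c52)) = (LP (LK LD1_c2 LD2_c24 LD3_c46)) :=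
  Lgr Lrot68 (Lpe (K32.f242761 IH) (Lpr_at (f315745 IH) (Lpe (f240637 IH) (Lpn (LP (LK LD1_c2 LD2_c24 LD3_c46))))))
theorem f315218 : Led Lsl_ff (LP (LK LD1_c2 LD2_c24 LD3_c46)) = (LP (LK LD1_c2 LD2_c18 LD3_c51)) :=
  Lgr Lrot3 (Lpr_ft (K20.f315216 IH) (Lpn (LP (LK LD1_c2 LD2_c18 LD3_c51))))
theorem f315750 : Led Lsl_gf (LP (LK LD1_c2 LD2_c18 LD3_c52)) = (LP (LK LD1_c4 LD2_c0 LD3_c24)) :=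
  Lgr Lrot76 (Lpr_af (f315748 IH) (Lpr_ff (f315218 IH) (Lpr_gt (K13.f242597 IH) (Lpn (LP (LK LD1_c4 LD2_c0 LD3_c24))))))
theorem f546917 : Led Lsl_cf (LP (LK LD1_c4 LD2_c0 LD3_c24)) = (LP (LK LD1_c3 LD2_c33 LD3_c37)) :=
  Lgr Lrot166 (Lpe (f315750 IH) (Lpr_dt (K13.f59087 IH) (Lpr_gt (K13.f37092 IH) (Lpr_dt (K11.f59065 IH) (Lpr_ct (K12.f59079 IH) (Lpe (K14.f59089 IH) (Lpe (K37.f37217 IH) (Lpe (K37.f424464 IH) (Lpr_gf (K38.f546913 IH) (Lpn (LP (LK LD1_c3 LD2_c33 LD3_c37))))))))))))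
theorem f144678 : Led Lsl_bt (LP (LK LD1_c3 LD2_c42 LD3_c16)) = (LP (LK LD1_c1 LD2_c48 LD3_c7)) :=
  Lre_b IH (LK LD1_c3 LD2_c42 LD3_c16) (LK LD1_c1 LD2_c48 LD3_c7) Lrfl Lrfl
def v1639 : LQ := Led Lsl_bt (LP (LK LD1_c1 LD2_c23 LD3_c1))
theorem f500495 : Led Lsl_bt (LP (LK LD1_c1 LD2_c23 LD3_c1)) = v1639 :=
  Lrfl
theorem f500498 : Led Lsl_gf (LP (LK LD1_c3 LD2_c57 LD3_c51)) = v1639 :=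
  Lgr Lrot124 (Lpe (K31.f159000 IH) (Lpr_ct (K8.f158980 IH) (Lpe (K8.f159001 IH) (Lpe (K8.f148989 IH) (Lpr_bt (K8.f118947 IH) (Lpr_gt (K6.f24074 IH) (Lpr_ct (K6.f24073 IH) (Lpr_gt (K6.f37936 IH) (Lpe (K8.f138263 IH) (Lpr_bt (f500495 IH) (Lpn v1639)))))))))))
theorem f541136 : Led Lsl_dt (LP (LK LD1_c3 LD2_c57 LD3_c51)) = (LP (LK LD1_c5 LD2_c50 LD3_c49)) :=
  Lgr Lrot182 (Lpr_gf (f500498 IH) (Lpe (f500495 IH) (Lpe (K6.f59536 IH) (Lpe (K8.f161073 IH) (Lpr_gf (K8.f161794 IH) (Lpe (K6.f61830 IH) (Lpe (K1.f61823 IH) (Lpe (K1.f7148 IH) (Lpe (K1.f25179 IH) (Lpe (K3.f61872 IH) (Lpr_cf (K2.f66801 IH) (Lpe (K1.f12844 IH) (Lpe (K2.f11076 IH) (Lpe (K3.f11077 IH) (Lpe (K3.f12774 IH) (Lpr_df (K6.f142696 IH) (Lpe (K6.f124066 IH) (Lpe (f144678 IH) (Lpr_cf (K36.f541126 IH)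 (Lpn (LP (LK LD1_c5 LD2_c50 LD3_c49))))))))))))))))))))))
theorem f496217 : Led Lsl_cf (LP (LK LD1_c3 LD2_c57 LD3_c51)) = K31.v1551 :=
  Lgr Lrot11 (Lpr_ct (K31.f496216 IH) (Lpn K31.v1551))
theorem f536769 : (LP (LK LD1_c1 LD2_c57 LD3_c60)) = K31.v1551 :=
  Lefun (Lecon (Lfl_gt (K35.f500248 IH)) (K35.f536683 IH).symm) (K31.f496215 IH)
theorem f425468 : Led Lsl_cf (LP (LK LD1_c3 LD2_c36 LD3_c61)) = (LP (LK LD1_c3 LD2_c40 LD3_c7)) :=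
  Lgr Lrot11 (Lpr_ct (K29.f425463 IH) (Lpn (LP (LK LD1_c3 LD2_c40 LD3_c7))))
theorem f552150 : Led Lsl_ct (LP (LK LD1_c5 LD2_c50 LD3_c50)) = (LP (LK LD1_c7 LD2_c20 LD3_c22)) :=
  Lgr Lrot176 (Lpr_df (K36.f239003 IH) (Lpe (f552140 IH) (Lpr_df (f552148 IH) (Lpr_cf (f546917 IH) (Lpe (K38.f108103 IH) (Lpr_cf (K8.f108023 IH) (Lpe (K8.f108090 IH) (Lpr_cf (K36.f541126 IH) (Lpe (f541136 IH) (Lpr_cf (f496217 IH) (Lpq (f536769 IH) (Lpr_df (K35.f193661 IH) (Lpr_cf (K13.f181319 IH) (Lpe (K38.f547048 IH) (Lpr_cf (f425468 IH) (Lpe (K28.f159429 IH) (Lpn (LP (LK LD1_c7 LD2_c20 LD3_c22)))))))))))))))))))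
theorem f204965 : Led Lsl_ct (LP (LK LD1_c6 LD2_c25 LD3_c1)) = (LP (LK LD1_c3 LD2_c10 LD3_c8)) :=
  Lre_c IH (LK LD1_c6 LD2_c25 LD3_c1) (LK LD1_c3 LD2_c10 LD3_c8) Lrfl Lrfl
theorem f552162 : Led Lsl_gf (LP (LK LD1_c6 LD2_c25 LD3_c1)) = (LP (LK LD1_c3 LD2_c44 LD3_c8)) :=
  Lgr Lrot147 (Lpr_ct (f204965 IH) (Lpe (f239011 IH) (Lpr_ct (f552150 IH) (Lpe (K28.f159439 IH) (Lpe (K29.f425463 IH) (Lpr_gf (K38.f514955 IH) (Lpe (K36.f514957 IH) (Lpe (K8.f11656 IH) (Lpr_df (K8.f142277 IH) (Lpn (LP (LK LD1_c3 LD2_c44 LD3_c8))))))))))))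
theorem f552172 : Led Lsl_bt (LP (LK LD1_c3 LD2_c10 LD3_c8)) = (LP (LK LD1_c3 LD2_c4 LD3_c10)) :=
  Lgr Lrot130 (Lpr_ct (K36.f204964 IH) (Lpr_gf (f552162 IH) (Lpe (K6.f37085 IH) (Lpe (K8.f142152 IH) (Lpe (K8.f157218 IH) (Lpe (K8.f112744 IH) (Lpr_ct (K6.f83790 IH) (Lpr_gf (K6.f112742 IH) (Lpe (K6.f70913 IH) (Lpe (K6.f112710 IH) (Lpn (LP (LK LD1_c3 LD2_c4 LD3_c10)))))))))))))
theorem f113976 : Led Lsl_dt (LP (LK LD1_c0 LD2_c44 LD3_c8)) = (LP (LK LD1_c0 LD2_c40 LD3_c12)) :=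
  Lgr Lrot42 (Lpr_df (K4.f113970 IH) (Lpn (LP (LK LD1_c0 LD2_c40 LD3_c12))))
theorem f552175 : Led Lsl_df (LP (LK LD1_c6 LD2_c25 LD3_c1)) = (LP (LK LD1_c3 LD2_c44 LD3_c0)) :=
  Lgr Lrot183 (Lpr_ct (f204965 IH) (Lpr_bt (f552172 IH) (Lpr_gt (K6.f112710 IH) (Lpr_dt (K8.f37817 IH) (Lpr_ct (K7.f35550 IH) (Lpr_bt (K2.f71197 IH) (Lpr_gt (K0.f23000 IH) (Lpr_dt (K0.f23009 IH) (Lpr_ct (K3.f23011 IH) (Lpr_bt (K3.f60968 IH) (Lpr_gt (K3.f60969 IH) (Lpr_dt (f113976 IH) (Lpr_ct (K4.f114416 IH) (Lpr_bt (K6.f144163 IH) (Lpr_gt (K6.f21159 IH) (Lpr_dt (K3.f21171 IH) (Lpe (K4.f97284 IH) (Lpr_bt (K8.f116131 IH) (Lpr_gt (K32.f116133 IH) (Lpn (LP (LK LD1_c3 LD2_c44 LD3_c0))))))))))))))))))))))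
theorem f159766 : Led Lsl_at (LP (LK LD1_c3 LD2_c41 LD3_c27)) = (LP (LK LD1_c7 LD2_c23 LD3_c24)) :=
  Lre_a IH (LK LD1_c3 LD2_c41 LD3_c27) (LK LD1_c7 LD2_c23 LD3_c24) Lrfl Lrfl
theorem f552166 : Led Lsl_gt (LP (LK LD1_c6 LD2_c25 LD3_c1)) = (LP (LK LD1_c7 LD2_c23 LD3_c24)) :=
  Lgr Lrot46 (Lpr_gf (f552162 IH) (Lpe (K8.f159642 IH) (Lpr_at (f159766 IH) (Lpn (LP (LK LD1_c7 LD2_c23 LD3_c24))))))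
theorem f546919 : Led Lsl_dt (LP (LK LD1_c2 LD2_c26 LD3_c25)) = (LP (LK LD1_c3 LD2_c36 LD3_c37)) :=
  Lgr Lrot27 (Lpe (K13.f172721 IH) (Lpr_gf (K13.f241806 IH) (Lpe (K38.f177119 IH) (Lpr_gf (K38.f546913 IH) (Lpe (K38.f108103 IH) (Lpr_gt (K36.f514954 IH) (Lpe (K36.f514956 IH) (Lpe (K8.f159786 IH) (Lpr_ct (K36.f159802 IH) (Lpn (LP (LK LD1_c3 LD2_c36 LD3_c37))))))))))))
theorem f313481 : Led Lsl_gt (LP (LK LD1_c4 LD2_c20 LD3_c34)) = (LP (LK LD1_c2 LD2_c26 LD3_c25)) :=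
  Lgr Lrot149 (Lpe (f240635 IH) (Lpr_gf (K19.f313479 IH) (Lpe (K13.f205175 IH) (Lpe (K16.f242617 IH) (Lpe (K24.f269108 IH) (Lpe (K13.f176833 IH) (Lpe (K13.f205098 IH) (Lpr_gf (K11.f205154 IH) (Lpe (K13.f172693 IH) (Lpr_ct (K13.f172721 IH) (Lpn (LP (LK LD1_c2 LD2_c26 LD3_c25)))))))))))))
theorem f116124 : Led Lsl_ct (LP (LK LD1_c1 LD2_c44 LD3_c43)) = (LP (LK LD1_c1 LD2_c49 LD3_c3)) :=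
  Lgr Lrot83 (Lpe (K4.f5859 IH) (Lpe (K3.f5858 IH) (Lpe (K3.f97283 IH) (Lpr_cf (K4.f116119 IH) (Lpe (K24.f116123 IH) (Lpn (LP (LK LD1_c1 LD2_c49 LD3_c3))))))))
theorem f552183 : Led Lsl_df (LP (LK LD1_c4 LD2_c20 LD3_c34)) = (LP (LK LD1_c3 LD2_c35 LD3_c41)) :=
  Lgr Lrot153 (Lpr_gt (f313481 IH) (Lpr_dt (f546919 IH) (Lpe (K36.f159802 IH) (Lpr_df (K8.f159860 IH) (Lpe (f552166 IH) (Lpr_df (f552175 IH) (Lpe (K32.f116133 IH) (Lpe (f116124 IH) (Lpr_gt (K24.f5860 IH) (Lpn (LP (LK LD1_c3 LD2_c35 LD3_c41))))))))))))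
def v2476 : LQ := Led Lsl_at (LP (LK LD1_c1 LD2_c46 LD3_c13))
theorem f522563 : Led Lsl_at (LP (LK LD1_c1 LD2_c46 LD3_c13)) = v2476 :=
  Lrfl
theorem f439218 : Led Lsl_cf (LP (LK LD1_c1 LD2_c46 LD3_c13)) = (LP (LK LD1_c1 LD2_c48 LD3_c52)) :=
  Lgr Lrot11 (Lpr_ct (K24.f131701 IH) (Lpn (LP (LK LD1_c1 LD2_c48 LD3_c52))))
theorem f208950 : Led Lsl_at (LP (LK LD1_c3 LD2_c43 LD3_c35)) = (LP (LK LD1_c1 LD2_c48 LD3_c52)) :=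
  Lre_a IH (LK LD1_c3 LD2_c43 LD3_c35) (LK LD1_c1 LD2_c48 LD3_c52) Lrfl Lrfl
theorem f522566 : Led Lsl_cf (LP (LK LD1_c3 LD2_c43 LD3_c35)) = v2476 :=
  Lgr Lrot1 (Lpr_at (f208950 IH) (Lpe (f439218 IH) (Lpr_at (f522563 IH) (Lpn v2476))))
theorem f522567 : Led Lsl_gt (LP (LK LD1_c3 LD2_c39 LD3_c26)) = v2476 :=
  Lgr Lrot46 (Lpe (K8.f94456 IH) (Lpr_ft (K28.f208951 IH) (Lpr_at (f522563 IH) (Lpn v2476))))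
theorem f552197 : Led Lsl_dt (LP (LK LD1_c4 LD2_c23 LD3_c7)) = (LP (LK LD1_c3 LD2_c39 LD3_c26)) :=
  Lgr Lrot6 (Lpr_gt (K16.f269118 IH) (Lpr_ct (K38.f205108 IH) (Lpe (K19.f313479 IH) (Lpr_ct (f240635 IH) (Lpr_df (f552183 IH) (Lpr_cf (K24.f439306 IH) (Lpr_gf (K24.f439268 IH) (Lpr_cf (f522566 IH) (Lpe (f522567 IH) (Lpn (LP (LK LD1_c3 LD2_c39 LD3_c26))))))))))))
theorem f552209 : Led Lsl_df (LP (LK LD1_c4 LD2_c20 LD3_c9)) = (LP (LK LD1_c3 LD2_c32 LD3_c18)) :=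
  Lgr Lrot155 (Lpr_gt (K13.f241376 IH) (Lpr_ct (K13.f237334 IH) (Lpr_gt (K13.f237339 IH) (Lpr_ct (K16.f237340 IH) (Lpr_dt (f552197 IH) (Lpe (K8.f147321 IH) (Lpe (K8.f124037 IH) (Lpe (K28.f147263 IH) (Lpe (K24.f94426 IH) (Lpn (LP (LK LD1_c3 LD2_c32 LD3_c18))))))))))))
theorem f439355 : Led Lsl_ct (LP (LK LD1_c3 LD2_c43 LD3_c33)) = (LP (LK LD1_c3 LD2_c32 LD3_c18)) :=
  Lgr Lrot40 (Lpe (K24.f159679 IH) (Lpe (K28.f116216 IH) (Lpr_ff (K24.f439349 IH) (Lpn (LP (LK LD1_c3 LD2_c32 LD3_c18))))))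
theorem f159705 : Led Lsl_ft (LP (LK LD1_c12 LD2_c6 LD3_c25)) = (LP (LK LD1_c21 LD2_c12 LD3_c28)) :=
  Lre_f IH (LK LD1_c12 LD2_c6 LD3_c25) (LK LD1_c21 LD2_c12 LD3_c28) Lrfl Lrfl
theorem f159706 : Led Lsl_ft (LP (LK LD1_c23 LD2_c34 LD3_c45)) = (LP (LK LD1_c14 LD2_c1 LD3_c54)) :=
  Lre_f IH (LK LD1_c23 LD2_c34 LD3_c45) (LK LD1_c14 LD2_c1 LD3_c54) Lrfl Lrfl
theorem f159707 : Led Lsl_bt (LP (LK LD1_c21 LD2_c12 LD3_c28)) = (LP (LK LD1_c23 LD2_c34 LD3_c45)) :=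
  Lgr Lrot35 (Lpe (f159705 IH) (Lpr_bf (K36.f159701 IH) (Lpe (f159706 IH) (Lpn (LP (LK LD1_c23 LD2_c34 LD3_c45))))))
theorem f70148 : Led Lsl_ct (LP (LK LD1_c12 LD2_c6 LD3_c28)) = (LP (LK LD1_c21 LD2_c12 LD3_c28)) :=
  Lre_c IH (LK LD1_c12 LD2_c6 LD3_c28) (LK LD1_c21 LD2_c12 LD3_c28) Lrfl Lrfl
theorem f70141 : Led Lsl_bt (LP (LK LD1_c6 LD2_c13 LD3_c60)) = (LP (LK LD1_c12 LD2_c6 LD3_c28)) :=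
  Lre_b IH (LK LD1_c6 LD2_c13 LD3_c60) (LK LD1_c12 LD2_c6 LD3_c28) Lrfl Lrfl
theorem f81125 : Led Lsl_bt (LP (LK LD1_c16 LD2_c23 LD3_c46)) = (LP (LK LD1_c8 LD2_c45 LD3_c37)) :=
  Lre_b IH (LK LD1_c16 LD2_c23 LD3_c46) (LK LD1_c8 LD2_c45 LD3_c37) Lrfl Lrfl
theorem f159711 : Led Lsl_cf (LP (LK LD1_c16 LD2_c23 LD3_c46)) = (LP (LK LD1_c23 LD2_c34 LD3_c45)) :=
  Lgr Lrot97 (Lpr_bt (f81125 IH) (Lpr_ct (K10.f81137 IH) (Lpr_bt (f70141 IH) (Lpr_ct (f70148 IH) (Lpr_bt (f159707 IH) (Lpn (LP (LK LD1_c23 LD2_c34 LD3_c45))))))))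
theorem f81126 : Led Lsl_ef (LP (LK LD1_c16 LD2_c23 LD3_c46)) = (LP (LK LD1_c12 LD2_c6 LD3_c28)) :=
  Lgr Lrot29 (Lpr_bt (f81125 IH) (Lpr_et (K10.f81123 IH) (Lpr_bt (f70141 IH) (Lpn (LP (LK LD1_c12 LD2_c6 LD3_c28))))))
theorem f81578 : Led Lsl_et (LP (LK LD1_c16 LD2_c23 LD3_c46)) = (LP (LK LD1_c12 LD2_c6 LD3_c28)) :=
  Lgr Lrot87 (Lpr_ef (f81126 IH) (Lpn (LP (LK LD1_c12 LD2_c6 LD3_c28))))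
theorem f159715 : Led Lsl_et (LP (LK LD1_c21 LD2_c12 LD3_c28)) = (LP (LK LD1_c23 LD2_c34 LD3_c45)) :=
  Lgr Lrot158 (Lpe (f70148 IH) (Lpe (f81578 IH) (Lpr_cf (f159711 IH) (Lpn (LP (LK LD1_c23 LD2_c34 LD3_c45))))))
theorem f159720 : Led Lsl_ff (LP (LK LD1_c6 LD2_c13 LD3_c55)) = (LP (LK LD1_c7 LD2_c25 LD3_c12)) :=
  Lgr Lrot72 (Lpr_et (K36.f159683 IH) (Lpr_ft (f159705 IH) (Lpr_et (f159715 IH) (Lpr_ft (f159706 IH) (Lpr_et (K36.f159485 IH) (Lpn (LP (LK LD1_c7 LD2_c25 LD3_c12))))))))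
theorem f159483 : Led Lsl_gt (LP (LK LD1_c7 LD2_c25 LD3_c12)) = (LP (LK LD1_c7 LD2_c20 LD3_c22)) :=
  Lgr Lrot46 (Lpe (K8.f108102 IH) (Lpr_ft (K37.f159390 IH) (Lpr_at (K28.f146822 IH) (Lpn (LP (LK LD1_c7 LD2_c20 LD3_c22))))))
theorem f159438 : Led Lsl_at (LP (LK LD1_c7 LD2_c25 LD3_c10)) = (LP (LK LD1_c3 LD2_c42 LD3_c16)) :=
  Lre_a IH (LK LD1_c7 LD2_c25 LD3_c10) (LK LD1_c3 LD2_c42 LD3_c16) Lrfl Lrfl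
theorem f108091 : Led Lsl_gt (LP (LK LD1_c7 LD2_c25 LD3_c13)) = (LP (LK LD1_c3 LD2_c42 LD3_c16)) :=
  Lre_g IH (LK LD1_c7 LD2_c25 LD3_c13) (LK LD1_c3 LD2_c42 LD3_c16) Lrfl Lrfl
theorem f159448 : Led Lsl_gf (LP (LK LD1_c7 LD2_c25 LD3_c13)) = (LP (LK LD1_c7 LD2_c20 LD3_c22)) :=
  Lgr Lrot47 (Lpr_gt (f108091 IH) (Lpe (f159438 IH) (Lpr_ff (K28.f159436 IH) (Lpn (LP (LK LD1_c7 LD2_c20 LD3_c22))))))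
theorem f159722 : Led Lsl_at (LP (LK LD1_c6 LD2_c13 LD3_c55)) = (LP (LK LD1_c7 LD2_c25 LD3_c13)) :=
  Lgr Lrot26 (Lpr_ff (f159720 IH) (Lpr_gt (f159483 IH) (Lpe (f159448 IH) (Lpn (LP (LK LD1_c7 LD2_c25 LD3_c13))))))
theorem f552217 : Led Lsl_ct (LP (LK LD1_c4 LD2_c24 LD3_c28)) = (LP (LK LD1_c7 LD2_c25 LD3_c13)) :=
  Lgr Lrot98 (Lpe (K37.f210863 IH) (Lpe (K13.f239174 IH) (Lpe (K13.f59087 IH) (Lpr_cf (K13.f239238 IH) (Lpr_df (f552209 IH) (Lpe (f439355 IH) (Lpe (K24.f159657 IH) (Lpe (f159720 IH) (Lpr_at (f159722 IH) (Lpn (LP (LK LD1_c7 LD2_c25 LD3_c13))))))))))))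
theorem f75106 : Led Lsl_ft (LP (LK LD1_c6 LD2_c14 LD3_c29)) = (LP (LK LD1_c12 LD2_c7 LD3_c17)) :=
  Lre_f IH (LK LD1_c6 LD2_c14 LD3_c29) (LK LD1_c12 LD2_c7 LD3_c17) Lrfl Lrfl
theorem f75107 : Led Lsl_ft (LP (LK LD1_c20 LD2_c46 LD3_c61)) = (LP (LK LD1_c11 LD2_c45 LD3_c40)) :=
  Lre_f IH (LK LD1_c20 LD2_c46 LD3_c61) (LK LD1_c11 LD2_c45 LD3_c40) Lrfl Lrfl
theorem f75108 : Led Lsl_ct (LP (LK LD1_c12 LD2_c7 LD3_c17)) = (LP (LK LD1_c20 LD2_c46 LD3_c61)) :=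
  Lgr Lrot40 (Lpe (f75106 IH) (Lpr_cf (K36.f75097 IH) (Lpe (f75107 IH) (Lpn (LP (LK LD1_c20 LD2_c46 LD3_c61))))))
theorem f138279 : Led Lsl_ct (LP (LK LD1_c20 LD2_c31 LD3_c35)) = (LP (LK LD1_c11 LD2_c34 LD3_c10)) :=
  Lre_c IH (LK LD1_c20 LD2_c31 LD3_c35) (LK LD1_c11 LD2_c34 LD3_c10) Lrfl Lrfl
theorem f498691 : Led Lsl_ef (LP (LK LD1_c12 LD2_c7 LD3_c17)) = (LP (LK LD1_c11 LD2_c34 LD3_c10)) :=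
  Lgr Lrot28 (Lpr_ct (f75108 IH) (Lpr_et (K36.f498684 IH) (Lpr_ct (f138279 IH) (Lpn (LP (LK LD1_c11 LD2_c34 LD3_c10))))))
theorem f498695 : Led Lsl_et (LP (LK LD1_c12 LD2_c7 LD3_c17)) = (LP (LK LD1_c11 LD2_c34 LD3_c10)) :=
  Lgr Lrot87 (Lpr_ef (f498691 IH) (Lpn (LP (LK LD1_c11 LD2_c34 LD3_c10))))
theorem f498655 : Led Lsl_af (LP (LK LD1_c12 LD2_c7 LD3_c25)) = (LP (LK LD1_c11 LD2_c34 LD3_c10)) :=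
  Lgr Lrot0 (Lpr_at (K36.f498650 IH) (Lpn (LP (LK LD1_c11 LD2_c34 LD3_c10))))
theorem f498697 : Led Lsl_af (LP (LK LD1_c12 LD2_c7 LD3_c17)) = (LP (LK LD1_c11 LD2_c34 LD3_c14)) :=
  Lgr Lrot50 (Lpr_et (f498695 IH) (Lpe (f498655 IH) (Lpe (K36.f498600 IH) (Lpn (LP (LK LD1_c11 LD2_c34 LD3_c14))))))
theorem f75124 : Led Lsl_ft (LP (LK LD1_c12 LD2_c7 LD3_c17)) = (LP (LK LD1_c6 LD2_c14 LD3_c29)) :=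
  Lre_f IH (LK LD1_c12 LD2_c7 LD3_c17) (LK LD1_c6 LD2_c14 LD3_c29) Lrfl Lrfl
theorem f498701 : Led Lsl_ft (LP (LK LD1_c5 LD2_c54 LD3_c12)) = (LP (LK LD1_c11 LD2_c34 LD3_c14)) :=
  Lre_f IH (LK LD1_c5 LD2_c54 LD3_c12) (LK LD1_c11 LD2_c34 LD3_c14) Lrfl Lrfl
theorem f498702 : Led Lsl_at (LP (LK LD1_c6 LD2_c14 LD3_c29)) = (LP (LK LD1_c5 LD2_c54 LD3_c12)) :=
  Lgr Lrot66 (Lpe (f75124 IH) (Lpr_af (f498697 IH) (Lpe (f498701 IH) (Lpn (LP (LK LD1_c5 LD2_c54 LD3_c12))))))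
theorem f498709 : Led Lsl_af (LP (LK LD1_c3 LD2_c4 LD3_c8)) = (LP (LK LD1_c2 LD2_c53 LD3_c30)) :=
  Lgr Lrot50 (Lpr_et (K36.f75129 IH) (Lpr_at (f498702 IH) (Lpr_et (K36.f71035 IH) (Lpn (LP (LK LD1_c2 LD2_c53 LD3_c30))))))
theorem f498682 : Led Lsl_ft (LP (LK LD1_c3 LD2_c4 LD3_c8)) = (LP (LK LD1_c2 LD2_c53 LD3_c29)) :=
  Lgr Lrot4 (Lpr_cf (K4.f75092 IH) (Lpr_ff (K36.f498678 IH) (Lpe (K8.f72243 IH) (Lpn (LP (LK LD1_c2 LD2_c53 LD3_c29))))))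
theorem f498585 : Led Lsl_ff (LP (LK LD1_c2 LD2_c53 LD3_c30)) = (LP (LK LD1_c3 LD2_c4 LD3_c10)) :=
  Lgr Lrot23 (Lpr_ct (K36.f71026 IH) (Lpr_ft (K36.f498583 IH) (Lpr_ct (K11.f112715 IH) (Lpn (LP (LK LD1_c3 LD2_c4 LD3_c10))))))
theorem f498715 : Led Lsl_at (LP (LK LD1_c2 LD2_c53 LD3_c29)) = (LP (LK LD1_c3 LD2_c4 LD3_c10)) :=
  Lgr Lrot66 (Lpe (f498682 IH) (Lpr_af (f498709 IH) (Lpr_ff (f498585 IH) (Lpn (LP (LK LD1_c3 LD2_c4 LD3_c10))))))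
theorem f541112 : Led Lsl_bt (LP (LK LD1_c3 LD2_c4 LD3_c10)) = (LP (LK LD1_c3 LD2_c10 LD3_c8)) :=
  Lgr Lrot62 (Lpe (f498715 IH) (Lpe (K8.f138246 IH) (Lpr_af (K32.f496955 IH) (Lpr_bf (K36.f541110 IH) (Lpr_af (K32.f255413 IH) (Lpn (LP (LK LD1_c3 LD2_c10 LD3_c8))))))))
theorem f158283 : Led Lsl_af (LP (LK LD1_c4 LD2_c58 LD3_c54)) = (LP (LK LD1_c6 LD2_c15 LD3_c40)) :=
  Lgr Lrot0 (Lpr_at (K8.f158281 IH) (Lpn (LP (LK LD1_c6 LD2_c15 LD3_c40))))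
theorem f158309 : Led Lsl_ft (LP (LK LD1_c5 LD2_c53 LD3_c27)) = (LP (LK LD1_c6 LD2_c15 LD3_c40)) :=
  Lgr Lrot101 (Lpr_af (K8.f158303 IH) (Lpe (K8.f158297 IH) (Lpr_af (f158283 IH) (Lpn (LP (LK LD1_c6 LD2_c15 LD3_c40))))))
theorem f72244 : Led Lsl_gt (LP (LK LD1_c5 LD2_c54 LD3_c9)) = (LP (LK LD1_c11 LD2_c34 LD3_c4)) :=
  Lre_g IH (LK LD1_c5 LD2_c54 LD3_c9) (LK LD1_c11 LD2_c34 LD3_c4) Lrfl Lrfl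
theorem f156799 : Led Lsl_cf (LP (LK LD1_c6 LD2_c15 LD3_c40)) = (LP (LK LD1_c11 LD2_c34 LD3_c4)) :=
  Lgr Lrot169 (Lpr_gt (K7.f112354 IH) (Lpr_ct (K6.f83790 IH) (Lpr_df (K5.f133138 IH) (Lpe (K6.f133142 IH) (Lpr_gf (K6.f137474 IH) (Lpr_cf (K32.f156792 IH) (Lpe (K32.f138305 IH) (Lpe (K32.f138301 IH) (Lpr_gt (f72244 IH) (Lpn (LP (LK LD1_c11 LD2_c34 LD3_c4))))))))))))
theorem f156801 : Led Lsl_ct (LP (LK LD1_c6 LD2_c15 LD3_c40)) = (LP (LK LD1_c11 LD2_c34 LD3_c4)) :=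
  Lgr Lrot59 (Lpr_cf (f156799 IH) (Lpn (LP (LK LD1_c11 LD2_c34 LD3_c4))))
theorem f158311 : Led Lsl_ff (LP (LK LD1_c11 LD2_c32 LD3_c56)) = (LP (LK LD1_c11 LD2_c34 LD3_c4)) :=
  Lgr Lrot23 (Lpr_ct (K8.f138140 IH) (Lpr_ft (f158309 IH) (Lpr_ct (f156801 IH) (Lpn (LP (LK LD1_c11 LD2_c34 LD3_c4))))))
theorem f158314 : Led Lsl_ft (LP (LK LD1_c11 LD2_c32 LD3_c56)) = (LP (LK LD1_c11 LD2_c34 LD3_c4)) :=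
  Lgr Lrot48 (Lpr_ff (f158311 IH) (Lpn (LP (LK LD1_c11 LD2_c34 LD3_c4))))
theorem f158285 : Led Lsl_af (LP (LK LD1_c9 LD2_c48 LD3_c9)) = (LP (LK LD1_c11 LD2_c34 LD3_c4)) :=
  Lgr Lrot68 (Lpr_ct (K11.f72416 IH) (Lpr_at (K8.f158281 IH) (Lpr_ct (f156801 IH) (Lpn (LP (LK LD1_c11 LD2_c34 LD3_c4))))))
theorem f158316 : Led Lsl_gt (LP (LK LD1_c11 LD2_c32 LD3_c56)) = (LP (LK LD1_c6 LD2_c14 LD3_c33)) :=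
  Lgr Lrot5 (Lpr_ft (f158314 IH) (Lpe (f158285 IH) (Lpe (K11.f138829 IH) (Lpn (LP (LK LD1_c6 LD2_c14 LD3_c33))))))
theorem f502101 : Led Lsl_ff (LP (LK LD1_c2 LD2_c27 LD3_c39)) = (LP (LK LD1_c4 LD2_c59 LD3_c15)) :=
  Lgr Lrot19 (Lpr_dt (K4.f72653 IH) (Lpr_ft (K37.f502097 IH) (Lpe (K4.f105018 IH) (Lpn (LP (LK LD1_c4 LD2_c59 LD3_c15))))))
theorem f502105 : Led Lsl_ft (LP (LK LD1_c4 LD2_c59 LD3_c39)) = (LP (LK LD1_c9 LD2_c48 LD3_c54)) :=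
  Lgr Lrot75 (Lpe (K36.f136406 IH) (Lpr_ff (f502101 IH) (Lpe (K36.f40539 IH) (Lpn (LP (LK LD1_c9 LD2_c48 LD3_c54))))))
theorem f502110 : Led Lsl_ff (LP (LK LD1_c4 LD2_c59 LD3_c39)) = (LP (LK LD1_c9 LD2_c48 LD3_c54)) :=
  Lgr Lrot3 (Lpr_ft (f502105 IH) (Lpn (LP (LK LD1_c9 LD2_c48 LD3_c54))))
theorem f136433 : Led Lsl_at (LP (LK LD1_c4 LD2_c59 LD3_c39)) = (LP (LK LD1_c9 LD2_c49 LD3_c43)) :=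
  Lre_a IH (LK LD1_c4 LD2_c59 LD3_c39) (LK LD1_c9 LD2_c49 LD3_c43) Lrfl Lrfl
theorem f205905 : Led Lsl_ct (LP (LK LD1_c9 LD2_c49 LD3_c42)) = (LP (LK LD1_c12 LD2_c51 LD3_c14)) :=
  Lgr Lrot59 (Lpr_cf (K32.f205901 IH) (Lpn (LP (LK LD1_c12 LD2_c51 LD3_c14))))
theorem f497770 : Led Lsl_ff (LP (LK LD1_c9 LD2_c49 LD3_c42)) = (LP (LK LD1_c14 LD2_c12 LD3_c22)) :=
  Lgr Lrot23 (Lpr_ct (f205905 IH) (Lpr_ft (K32.f497766 IH) (Lpr_ct (K36.f92359 IH) (Lpn (LP (LK LD1_c14 LD2_c12 LD3_c22))))))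
theorem f497762 : Led Lsl_at (LP (LK LD1_c9 LD2_c49 LD3_c42)) = (LP (LK LD1_c14 LD2_c12 LD3_c25)) :=
  Lgr Lrot107 (Lpr_cf (K32.f205901 IH) (Lpr_af (K32.f497760 IH) (Lpe (K32.f419811 IH) (Lpn (LP (LK LD1_c14 LD2_c12 LD3_c25))))))
theorem f497776 : Led Lsl_gf (LP (LK LD1_c14 LD2_c12 LD3_c25)) = (LP (LK LD1_c9 LD2_c48 LD3_c54)) :=
  Lgr Lrot76 (Lpe (f497762 IH) (Lpr_ff (f497770 IH) (Lpe (K36.f136914 IH) (Lpn (LP (LK LD1_c9 LD2_c48 LD3_c54))))))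
theorem f502114 : Led Lsl_gf (LP (LK LD1_c9 LD2_c49 LD3_c43)) = (LP (LK LD1_c14 LD2_c12 LD3_c25)) :=
  Lgr Lrot76 (Lpe (f136433 IH) (Lpr_ff (f502110 IH) (Lpe (f497776 IH) (Lpn (LP (LK LD1_c14 LD2_c12 LD3_c25))))))
theorem f419863 : Led Lsl_bt (LP (LK LD1_c12 LD2_c36 LD3_c53)) = (LP (LK LD1_c14 LD2_c12 LD3_c25)) :=
  Lgr Lrot127 (Lpr_bf (K32.f419847 IH) (Lpn (LP (LK LD1_c14 LD2_c12 LD3_c25))))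
theorem f502118 : Led Lsl_gt (LP (LK LD1_c5 LD2_c59 LD3_c48)) = (LP (LK LD1_c9 LD2_c29 LD3_c61)) :=
  Lgr Lrot65 (Lpe (K36.f501503 IH) (Lpr_bt (K36.f501495 IH) (Lpr_gf (f502114 IH) (Lpe (f419863 IH) (Lpr_ct (K32.f419865 IH) (Lpe (K32.f420032 IH) (Lpr_cf (K8.f117716 IH) (Lpr_gf (K8.f117679 IH) (Lpe (K7.f78428 IH) (Lpr_ct (K7.f78419 IH) (Lpn (LP (LK LD1_c9 LD2_c29 LD3_c61)))))))))))))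
theorem f502120 : Led Lsl_gf (LP (LK LD1_c5 LD2_c59 LD3_c48)) = (LP (LK LD1_c9 LD2_c23 LD3_c56)) :=
  Lgr Lrot47 (Lpr_gt (f502118 IH) (Lpr_af (K11.f202762 IH) (Lpr_ff (K11.f202692 IH) (Lpn (LP (LK LD1_c9 LD2_c23 LD3_c56))))))
theorem f202792 : Led Lsl_dt (LP (LK LD1_c12 LD2_c6 LD3_c9)) = (LP (LK LD1_c6 LD2_c13 LD3_c43)) :=
  Lre_d IH (LK LD1_c12 LD2_c6 LD3_c9) (LK LD1_c6 LD2_c13 LD3_c43) Lrfl Lrfl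
theorem f420380 : Led Lsl_gf (LP (LK LD1_c12 LD2_c6 LD3_c9)) = (LP (LK LD1_c7 LD2_c57 LD3_c8)) :=
  Lgr Lrot143 (Lpr_dt (f202792 IH) (Lpe (K38.f80753 IH) (Lpr_df (K36.f420374 IH) (Lpe (K4.f38244 IH) (Lpe (K6.f38508 IH) (Lpe (K6.f38528 IH) (Lpe (K6.f38529 IH) (Lpr_gt (K8.f159209 IH) (Lpr_dt (K28.f112561 IH) (Lpn (LP (LK LD1_c7 LD2_c57 LD3_c8))))))))))))
theorem f202789 : Led Lsl_dt (LP (LK LD1_c6 LD2_c13 LD3_c43)) = (LP (LK LD1_c12 LD2_c6 LD3_c9)) :=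
  Lre_d IH (LK LD1_c6 LD2_c13 LD3_c43) (LK LD1_c12 LD2_c6 LD3_c9) Lrfl Lrfl
theorem f35974 : Led Lsl_gt (LP (LK LD1_c4 LD2_c24 LD3_c48)) = (LP (LK LD1_c8 LD2_c47 LD3_c3)) :=
  Lre_g IH (LK LD1_c4 LD2_c24 LD3_c48) (LK LD1_c8 LD2_c47 LD3_c3) Lrfl Lrfl
theorem f202790 : Led Lsl_cf (LP (LK LD1_c12 LD2_c6 LD3_c9)) = (LP (LK LD1_c8 LD2_c47 LD3_c3)) :=
  Lgr Lrot99 (Lpe (f202789 IH) (Lpe (K38.f80753 IH) (Lpe (K36.f80750 IH) (Lpr_cf (K11.f202772 IH) (Lpe (K6.f78334 IH) (Lpe (K6.f137910 IH) (Lpr_gt (K6.f36028 IH) (Lpr_ct (K5.f35969 IH) (Lpr_gt (f35974 IH) (Lpn (LP (LK LD1_c8 LD2_c47 LD3_c3))))))))))))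
theorem f420420 : Led Lsl_ct (LP (LK LD1_c12 LD2_c6 LD3_c9)) = (LP (LK LD1_c8 LD2_c47 LD3_c3)) :=
  Lgr Lrot59 (Lpr_cf (f202790 IH) (Lpn (LP (LK LD1_c8 LD2_c47 LD3_c3))))
theorem f501523 : Led Lsl_dt (LP (LK LD1_c5 LD2_c59 LD3_c48)) = (LP (LK LD1_c8 LD2_c47 LD3_c3)) :=
  Lgr Lrot27 (Lpe (K36.f501503 IH) (Lpr_gf (K36.f501521 IH) (Lpe (K36.f424706 IH) (Lpe (K36.f99184 IH) (Lpr_df (K4.f102103 IH) (Lpe (K5.f112554 IH) (Lpr_ct (K28.f112549 IH) (Lpe (f420380 IH) (Lpr_ct (f420420 IH) (Lpn (LP (LK LD1_c8 LD2_c47 LD3_c3))))))))))))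
theorem f149423 : Led Lsl_dt (LP (LK LD1_c4 LD2_c25 LD3_c44)) = (LP (LK LD1_c2 LD2_c10 LD3_c12)) :=
  Lre_d IH (LK LD1_c4 LD2_c25 LD3_c44) (LK LD1_c2 LD2_c10 LD3_c12) Lrfl Lrfl
theorem f149424 : Led Lsl_gt (LP (LK LD1_c8 LD2_c48 LD3_c58)) = (LP (LK LD1_c4 LD2_c25 LD3_c44)) :=
  Lre_g IH (LK LD1_c8 LD2_c48 LD3_c58) (LK LD1_c4 LD2_c25 LD3_c44) Lrfl Lrfl
theorem f502126 : Led Lsl_bt (LP (LK LD1_c12 LD2_c6 LD3_c9)) = (LP (LK LD1_c8 LD2_c48 LD3_c58)) :=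
  Lgr Lrot178 (Lpr_cf (f202790 IH) (Lpe (f501523 IH) (Lpr_gf (f502120 IH) (Lpe (K8.f78318 IH) (Lpr_cf (K11.f202117 IH) (Lpe (K11.f202207 IH) (Lpe (K11.f202346 IH) (Lpe (K8.f61144 IH) (Lpe (K8.f124444 IH) (Lpr_df (K28.f150438 IH) (Lpe (K28.f104540 IH) (Lpe (K24.f104377 IH) (Lpe (K6.f72359 IH) (Lpe (K6.f72358 IH) (Lpe (K8.f71211 IH) (Lpr_bf (K8.f158258 IH) (Lpe (K8.f158194 IH) (Lpe (f149423 IH) (Lpe (f149424 IH) (Lpn (LP (LK LD1_c8 LD2_c48 LD3_c58))))))))))))))))))))))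
theorem f502131 : Led Lsl_df (LP (LK LD1_c11 LD2_c23 LD3_c0)) = (LP (LK LD1_c8 LD2_c48 LD3_c58)) :=
  Lgr Lrot12 (Lpe (K36.f420418 IH) (Lpr_dt (f202789 IH) (Lpr_bt (f502126 IH) (Lpn (LP (LK LD1_c8 LD2_c48 LD3_c58))))))
theorem f502138 : Led Lsl_dt (LP (LK LD1_c11 LD2_c23 LD3_c0)) = (LP (LK LD1_c8 LD2_c48 LD3_c58)) :=
  Lgr Lrot42 (Lpr_df (f502131 IH) (Lpn (LP (LK LD1_c8 LD2_c48 LD3_c58))))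
theorem f80640 : Led Lsl_ct (LP (LK LD1_c6 LD2_c14 LD3_c8)) = (LP (LK LD1_c3 LD2_c3 LD3_c57)) :=
  Lre_c IH (LK LD1_c6 LD2_c14 LD3_c8) (LK LD1_c3 LD2_c3 LD3_c57) Lrfl Lrfl
theorem f502140 : Led Lsl_gt (LP (LK LD1_c8 LD2_c45 LD3_c26)) = (LP (LK LD1_c6 LD2_c14 LD3_c10)) :=
  Lgr Lrot49 (Lpe (K36.f70102 IH) (Lpe (K36.f81389 IH) (Lpe (f80640 IH) (Lpr_gt (K36.f420646 IH) (Lpr_dt (f502138 IH) (Lpr_gt (f149424 IH) (Lpr_dt (f149423 IH) (Lpr_cf (K8.f158184 IH) (Lpe (K8.f158601 IH) (Lpn (LP (LK LD1_c6 LD2_c14 LD3_c10))))))))))))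
theorem f552233 : Led Lsl_bt (LP (LK LD1_c4 LD2_c24 LD3_c28)) = (LP (LK LD1_c8 LD2_c45 LD3_c26)) :=
  Lgr Lrot22 (Lpr_ct (f552217 IH) (Lpr_gf (f159448 IH) (Lpe (f552150 IH) (Lpr_gf (f239011 IH) (Lpe (f541112 IH) (Lpr_ct (K11.f112714 IH) (Lpe (f158316 IH) (Lpe (K8.f138147 IH) (Lpe (K8.f158592 IH) (Lpe (f502140 IH) (Lpn (LP (LK LD1_c8 LD2_c45 LD3_c26)))))))))))))
theorem f552237 : Led Lsl_bf (LP (LK LD1_c8 LD2_c46 LD3_c36)) = (LP (LK LD1_c16 LD2_c23 LD3_c32)) :=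
  Lgr Lrot96 (Lpr_et (K37.f239209 IH) (Lpr_bt (f552233 IH) (Lpr_et (K36.f81391 IH) (Lpn (LP (LK LD1_c16 LD2_c23 LD3_c32))))))
theorem f239217 : Led Lsl_bt (LP (LK LD1_c8 LD2_c43 LD3_c43)) = (LP (LK LD1_c16 LD2_c20 LD3_c43)) :=
  Lre_b IH (LK LD1_c8 LD2_c43 LD3_c43) (LK LD1_c16 LD2_c20 LD3_c43) Lrfl Lrfl
theorem f552243 : Led Lsl_dt (LP (LK LD1_c16 LD2_c20 LD3_c43)) = (LP (LK LD1_c16 LD2_c23 LD3_c32)) :=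
  Lgr Lrot79 (Lpe (f239217 IH) (Lpr_df (K37.f239214 IH) (Lpr_bf (f552237 IH) (Lpn (LP (LK LD1_c16 LD2_c23 LD3_c32))))))
theorem f394683 : Led Lsl_et (LP (LK LD1_c8 LD2_c43 LD3_c42)) = (LP (LK LD1_c16 LD2_c20 LD3_c43)) :=
  Lre_e IH (LK LD1_c8 LD2_c43 LD3_c42) (LK LD1_c16 LD2_c20 LD3_c43) Lrfl Lrfl
theorem f237244 : Led Lsl_bt (LP (LK LD1_c8 LD2_c43 LD3_c42)) = (LP (LK LD1_c4 LD2_c22 LD3_c56)) :=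
  Lre_b IH (LK LD1_c8 LD2_c43 LD3_c42) (LK LD1_c4 LD2_c22 LD3_c56) Lrfl Lrfl
theorem f211150 : Led Lsl_bt (LP (LK LD1_c2 LD2_c26 LD3_c3)) = (LP (LK LD1_c4 LD2_c56 LD3_c33)) :=
  Lre_b IH (LK LD1_c2 LD2_c26 LD3_c3) (LK LD1_c4 LD2_c56 LD3_c33) Lrfl Lrfl
theorem f237245 : Led Lsl_df (LP (LK LD1_c8 LD2_c43 LD3_c42)) = (LP (LK LD1_c4 LD2_c56 LD3_c33)) :=
  Lgr Lrot12 (Lpr_bt (f237244 IH) (Lpr_dt (K13.f237239 IH) (Lpr_bt (f211150 IH) (Lpn (LP (LK LD1_c4 LD2_c56 LD3_c33))))))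
theorem f502142 : Led Lsl_et (LP (LK LD1_c16 LD2_c23 LD3_c32)) = (LP (LK LD1_c8 LD2_c45 LD3_c26)) :=
  Lre_e IH (LK LD1_c16 LD2_c23 LD3_c32) (LK LD1_c8 LD2_c45 LD3_c26) Lrfl Lrfl
theorem f552249 : Led Lsl_ef (LP (LK LD1_c4 LD2_c56 LD3_c33)) = (LP (LK LD1_c4 LD2_c23 LD3_c47)) :=
  Lgr Lrot73 (Lpe (f237245 IH) (Lpr_et (f394683 IH) (Lpr_dt (f552243 IH) (Lpr_et (f502142 IH) (Lpr_dt (K36.f70103 IH) (Lpn (LP (LK LD1_c4 LD2_c23 LD3_c47))))))))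
theorem f53118 : Led Lsl_bt (LP (LK LD1_c4 LD2_c4 LD3_c48)) = (LP (LK LD1_c1 LD2_c59 LD3_c27)) :=
  Lre_b IH (LK LD1_c4 LD2_c4 LD3_c48) (LK LD1_c1 LD2_c59 LD3_c27) Lrfl Lrfl
theorem f346756 : Led Lsl_ff (LP (LK LD1_c4 LD2_c4 LD3_c48)) = (LP (LK LD1_c4 LD2_c56 LD3_c33)) :=
  Lgr Lrot25 (Lpr_bt (f53118 IH) (Lpr_ft (K23.f346752 IH) (Lpr_bt (f211150 IH) (Lpn (LP (LK LD1_c4 LD2_c56 LD3_c33))))))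
theorem f53110 : Led Lsl_bt (LP (LK LD1_c1 LD2_c59 LD3_c27)) = (LP (LK LD1_c4 LD2_c4 LD3_c48)) :=
  Lre_b IH (LK LD1_c1 LD2_c59 LD3_c27) (LK LD1_c4 LD2_c4 LD3_c48) Lrfl Lrfl
theorem f53111 : Led Lsl_bt (LP (LK LD1_c8 LD2_c0 LD3_c60)) = (LP (LK LD1_c3 LD2_c59 LD3_c58)) :=
  Lre_b IH (LK LD1_c8 LD2_c0 LD3_c60) (LK LD1_c3 LD2_c59 LD3_c58) Lrfl Lrfl
theorem f53112 : Led Lsl_et (LP (LK LD1_c4 LD2_c4 LD3_c48)) = (LP (LK LD1_c8 LD2_c0 LD3_c60)) :=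
  Lgr Lrot74 (Lpe (f53110 IH) (Lpr_ef (K12.f53107 IH) (Lpe (f53111 IH) (Lpn (LP (LK LD1_c8 LD2_c0 LD3_c60))))))
theorem f33708 : Led Lsl_bt (LP (LK LD1_c0 LD2_c55 LD3_c58)) = (LP (LK LD1_c1 LD2_c58 LD3_c8)) :=
  Lre_b IH (LK LD1_c0 LD2_c55 LD3_c58) (LK LD1_c1 LD2_c58 LD3_c8) Lrfl Lrfl
theorem f81204 : Led Lsl_ef (LP (LK LD1_c1 LD2_c28 LD3_c1)) = (LP (LK LD1_c1 LD2_c58 LD3_c8)) :=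
  Lgr Lrot29 (Lpr_bt (K32.f59722 IH) (Lpr_et (K10.f81202 IH) (Lpr_bt (f33708 IH) (Lpn (LP (LK LD1_c1 LD2_c58 LD3_c8))))))
theorem f69755 : Led Lsl_bt (LP (LK LD1_c1 LD2_c58 LD3_c8)) = (LP (LK LD1_c0 LD2_c55 LD3_c58)) :=
  Lre_b IH (LK LD1_c1 LD2_c58 LD3_c8) (LK LD1_c0 LD2_c55 LD3_c58) Lrfl Lrfl
theorem f69756 : Led Lsl_cf (LP (LK LD1_c1 LD2_c58 LD3_c8)) = (LP (LK LD1_c1 LD2_c58 LD3_c8)) :=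
  Lgr Lrot97 (Lpr_bt (f69755 IH) (Lpr_ct (K0.f33711 IH) (Lpr_bt (K2.f69749 IH) (Lpr_ct (K0.f33684 IH) (Lpr_bt (f33708 IH) (Lpn (LP (LK LD1_c1 LD2_c58 LD3_c8))))))))
theorem f81395 : Led Lsl_et (LP (LK LD1_c1 LD2_c28 LD3_c1)) = (LP (LK LD1_c1 LD2_c58 LD3_c8)) :=
  Lgr Lrot158 (Lpr_cf (K32.f81387 IH) (Lpr_ef (f81204 IH) (Lpr_cf (f69756 IH) (Lpn (LP (LK LD1_c1 LD2_c58 LD3_c8))))))
theorem f33709 : Led Lsl_at (LP (LK LD1_c1 LD2_c58 LD3_c8)) = (LP (LK LD1_c4 LD2_c2 LD3_c18)) :=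
  Lre_a IH (LK LD1_c1 LD2_c58 LD3_c8) (LK LD1_c4 LD2_c2 LD3_c18) Lrfl Lrfl
theorem f81406 : Led Lsl_ef (LP (LK LD1_c3 LD2_c3 LD3_c59)) = (LP (LK LD1_c4 LD2_c2 LD3_c18)) :=
  Lgr Lrot20 (Lpr_at (K36.f81384 IH) (Lpr_et (f81395 IH) (Lpr_at (f33709 IH) (Lpn (LP (LK LD1_c4 LD2_c2 LD3_c18))))))
theorem f552255 : Led Lsl_ft (LP (LK LD1_c8 LD2_c0 LD3_c60)) = (LP (LK LD1_c4 LD2_c2 LD3_c18)) :=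
  Lgr Lrot86 (Lpe (f53112 IH) (Lpr_ff (f346756 IH) (Lpr_ef (f552249 IH) (Lpr_ff (K36.f81445 IH) (Lpr_ef (f81406 IH) (Lpn (LP (LK LD1_c4 LD2_c2 LD3_c18))))))))
theorem f81438 : Led Lsl_at (LP (LK LD1_c4 LD2_c2 LD3_c18)) = (LP (LK LD1_c1 LD2_c58 LD3_c8)) :=
  Lre_a IH (LK LD1_c4 LD2_c2 LD3_c18) (LK LD1_c1 LD2_c58 LD3_c8) Lrfl Lrfl
theorem f81412 : Led Lsl_gt (LP (LK LD1_c4 LD2_c2 LD3_c17)) = (LP (LK LD1_c1 LD2_c58 LD3_c8)) :=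
  Lre_g IH (LK LD1_c4 LD2_c2 LD3_c17) (LK LD1_c1 LD2_c58 LD3_c8) Lrfl Lrfl
theorem f552265 : Led Lsl_gt (LP (LK LD1_c8 LD2_c0 LD3_c60)) = (LP (LK LD1_c4 LD2_c2 LD3_c17)) :=
  Lgr Lrot5 (Lpr_ft (f552255 IH) (Lpr_at (f81438 IH) (Lpe (f81412 IH) (Lpn (LP (LK LD1_c4 LD2_c2 LD3_c17))))))
theorem f28729 : Led Lsl_bt (LP (LK LD1_c3 LD2_c59 LD3_c58)) = (LP (LK LD1_c8 LD2_c0 LD3_c60)) :=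
  Lre_b IH (LK LD1_c3 LD2_c59 LD3_c58) (LK LD1_c8 LD2_c0 LD3_c60) Lrfl Lrfl
theorem f541235 : Led Lsl_bt (LP (LK LD1_c3 LD2_c4 LD3_c11)) = (LP (LK LD1_c2 LD2_c7 LD3_c45)) :=
  Lgr Lrot95 (Lpe (K36.f496273 IH) (Lpr_bf (K36.f541227 IH) (Lpe (K12.f36355 IH) (Lpn (LP (LK LD1_c2 LD2_c7 LD3_c45))))))
theorem f496270 : Led Lsl_ef (LP (LK LD1_c1 LD2_c21 LD3_c38)) = K36.v1561 :=
  Lgr Lrot88 (Lpr_et (K36.f496267 IH) (Lpn K36.v1561))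
theorem f496272 : Led Lsl_ct (LP (LK LD1_c3 LD2_c4 LD3_c11)) = K36.v1561 :=
  Lgr Lrot15 (Lpe (K36.f112722 IH) (Lpr_cf (K11.f59806 IH) (Lpr_ef (f496270 IH) (Lpn K36.v1561))))
theorem f177297 : Led Lsl_gt (LP (LK LD1_c4 LD2_c53 LD3_c54)) = (LP (LK LD1_c2 LD2_c24 LD3_c50)) :=
  Lre_g IH (LK LD1_c4 LD2_c53 LD3_c54) (LK LD1_c2 LD2_c24 LD3_c50) Lrfl Lrfl
theorem f193616 : Led Lsl_bt (LP (LK LD1_c8 LD2_c5 LD3_c4)) = (LP (LK LD1_c4 LD2_c2 LD3_c17)) :=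
  Lre_b IH (LK LD1_c8 LD2_c5 LD3_c4) (LK LD1_c4 LD2_c2 LD3_c17) Lrfl Lrfl
theorem f552279 : Led Lsl_cf (LP (LK LD1_c4 LD2_c53 LD3_c54)) = (LP (LK LD1_c8 LD2_c5 LD3_c4)) :=
  Lgr Lrot160 (Lpr_gt (f177297 IH) (Lpqs (K36.f537605 IH) (Lpe (f496272 IH) (Lpr_bt (f541235 IH) (Lpe (K13.f240708 IH) (Lpr_ct (K13.f240699 IH) (Lpe (K13.f240702 IH) (Lpe (K10.f28789 IH) (Lpr_bt (f28729 IH) (Lpr_gt (f552265 IH) (Lpe (f193616 IH) (Lpn (LP (LK LD1_c8 LD2_c5 LD3_c4))))))))))))))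
theorem f288156 : Led Lsl_ft (LP (LK LD1_c4 LD2_c53 LD3_c49)) = (LP (LK LD1_c4 LD2_c53 LD3_c55)) :=
  Lgr Lrot54 (Lpr_df (K36.f225674 IH) (Lpr_ff (K36.f288150 IH) (Lpe (K36.f177301 IH) (Lpn (LP (LK LD1_c4 LD2_c53 LD3_c55))))))
theorem f288194 : Led Lsl_gt (LP (LK LD1_c4 LD2_c53 LD3_c49)) = (LP (LK LD1_c4 LD2_c53 LD3_c54)) :=
  Lgr Lrot5 (Lpr_ft (f288156 IH) (Lpr_at (K36.f177289 IH) (Lpe (f177297 IH) (Lpn (LP (LK LD1_c4 LD2_c53 LD3_c54))))))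
theorem f193478 : Led Lsl_bt (LP (LK LD1_c1 LD2_c58 LD3_c3)) = (LP (LK LD1_c2 LD2_c59 LD3_c59)) :=
  Lgr Lrot119 (Lpr_ef (K11.f193476 IH) (Lpe (K30.f175986 IH) (Lpe (K37.f176022 IH) (Lpn (LP (LK LD1_c2 LD2_c59 LD3_c59))))))
theorem f56003 : Led Lsl_gt (LP (LK LD1_c2 LD2_c59 LD3_c59)) = (LP (LK LD1_c6 LD2_c7 LD3_c34)) :=
  Lre_g IH (LK LD1_c2 LD2_c59 LD3_c59) (LK LD1_c6 LD2_c7 LD3_c34) Lrfl Lrfl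
theorem f552288 : Led Lsl_cf (LP (LK LD1_c4 LD2_c53 LD3_c49)) = (LP (LK LD1_c6 LD2_c7 LD3_c34)) :=
  Lgr Lrot125 (Lpr_gt (f288194 IH) (Lpr_cf (f552279 IH) (Lpr_bt (f193616 IH) (Lpr_gt (f81412 IH) (Lpe (f33708 IH) (Lpr_ct (K0.f33711 IH) (Lpr_gt (K10.f28752 IH) (Lpe (K11.f34067 IH) (Lpr_bt (f193478 IH) (Lpr_gt (f56003 IH) (Lpn (LP (LK LD1_c6 LD2_c7 LD3_c34)))))))))))))
theorem f552284 : Led Lsl_ct (LP (LK LD1_c4 LD2_c53 LD3_c54)) = (LP (LK LD1_c8 LD2_c5 LD3_c4)) :=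
  Lgr Lrot59 (Lpr_cf (f552279 IH) (Lpn (LP (LK LD1_c8 LD2_c5 LD3_c4))))
theorem f552300 : Led Lsl_dt (LP (LK LD1_c8 LD2_c5 LD3_c4)) = (LP (LK LD1_c15 LD2_c13 LD3_c22)) :=
  Lre_d IH (LK LD1_c8 LD2_c5 LD3_c4) (LK LD1_c15 LD2_c13 LD3_c22) Lrfl Lrfl
theorem f544504 : Led Lsl_gf (LP (LK LD1_c10 LD2_c5 LD3_c3)) = (LP (LK LD1_c6 LD2_c7 LD3_c35)) :=
  Lgr Lrot76 (Lpe (K32.f53300 IH) (Lpe (K32.f308339 IH) (Lpr_gt (K37.f544502 IH) (Lpn (LP (LK LD1_c6 LD2_c7 LD3_c35))))))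
theorem f308417 : Led Lsl_ct (LP (LK LD1_c10 LD2_c5 LD3_c3)) = (LP (LK LD1_c18 LD2_c23 LD3_c42)) :=
  Lre_c IH (LK LD1_c10 LD2_c5 LD3_c3) (LK LD1_c18 LD2_c23 LD3_c42) Lrfl Lrfl
theorem f308561 : Led Lsl_ff (LP (LK LD1_c18 LD2_c43 LD3_c1)) = (LP (LK LD1_c18 LD2_c23 LD3_c42)) :=
  Lgr Lrot23 (Lpr_ct (K32.f308495 IH) (Lpr_ft (f308559 IH) (Lpr_ct (f308417 IH) (Lpn (LP (LK LD1_c18 LD2_c23 LD3_c42))))))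
theorem f308499 : Led Lsl_at (LP (LK LD1_c18 LD2_c43 LD3_c1)) = (LP (LK LD1_c10 LD2_c18 LD3_c0)) :=
  Lre_a IH (LK LD1_c18 LD2_c43 LD3_c1) (LK LD1_c10 LD2_c18 LD3_c0) Lrfl Lrfl
theorem f201615 : Led Lsl_gt (LP (LK LD1_c18 LD2_c43 LD3_c6)) = (LP (LK LD1_c10 LD2_c18 LD3_c0)) :=
  Lre_g IH (LK LD1_c18 LD2_c43 LD3_c6) (LK LD1_c10 LD2_c18 LD3_c0) Lrfl Lrfl
theorem f308574 : Led Lsl_gf (LP (LK LD1_c18 LD2_c43 LD3_c6)) = (LP (LK LD1_c18 LD2_c23 LD3_c42)) :=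
  Lgr Lrot47 (Lpr_gt (f201615 IH) (Lpe (f308499 IH) (Lpr_ff (f308561 IH) (Lpn (LP (LK LD1_c18 LD2_c23 LD3_c42))))))
theorem f552301 : Led Lsl_cf (LP (LK LD1_c15 LD2_c13 LD3_c22)) = (LP (LK LD1_c18 LD2_c43 LD3_c6)) :=
  Lgr Lrot99 (Lpe (f552300 IH) (Lpe (f552284 IH) (Lpe (f288194 IH) (Lpr_cf (f552288 IH) (Lpe (f56003 IH) (Lpe (K37.f176025 IH) (Lpe (f544504 IH) (Lpr_ct (f308417 IH) (Lpe (f308574 IH) (Lpn (LP (LK LD1_c18 LD2_c43 LD3_c6))))))))))))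
theorem f552304 : Led Lsl_ct (LP (LK LD1_c15 LD2_c13 LD3_c22)) = (LP (LK LD1_c18 LD2_c43 LD3_c6)) :=
  Lgr Lrot59 (Lpr_cf (f552301 IH) (Lpn (LP (LK LD1_c18 LD2_c43 LD3_c6))))
theorem f552303 : Led Lsl_bt (LP (LK LD1_c15 LD2_c13 LD3_c22)) = (LP (LK LD1_c8 LD2_c5 LD3_c6)) :=
  Lre_b IH (LK LD1_c15 LD2_c13 LD3_c22) (LK LD1_c8 LD2_c5 LD3_c6) Lrfl Lrfl
theorem f421341 : Led Lsl_dt (LP (LK LD1_c15 LD2_c7 LD3_c57)) = (LP (LK LD1_c8 LD2_c2 LD3_c15)) :=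
  Lre_d IH (LK LD1_c15 LD2_c7 LD3_c57) (LK LD1_c8 LD2_c2 LD3_c15) Lrfl Lrfl
theorem f542378 : Led Lsl_bt (LP (LK LD1_c8 LD2_c3 LD3_c14)) = (LP (LK LD1_c15 LD2_c7 LD3_c57)) :=
  Lgr Lrot95 (Lpe (K13.f190440 IH) (Lpr_bf (K38.f542371 IH) (Lpe (f421341 IH) (Lpn (LP (LK LD1_c15 LD2_c7 LD3_c57))))))
theorem f552310 : Led Lsl_gt (LP (LK LD1_c8 LD2_c5 LD3_c6)) = (LP (LK LD1_c15 LD2_c7 LD3_c57)) :=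
  Lgr Lrot164 (Lpe (f552303 IH) (Lpr_ct (f552304 IH) (Lpr_gf (f308574 IH) (Lpe (f308417 IH) (Lpr_gf (f544504 IH) (Lpe (K37.f193605 IH) (Lpe (K13.f242269 IH) (Lpr_gf (K13.f242335 IH) (Lpe (K13.f242337 IH) (Lpr_bt (f542378 IH) (Lpn (LP (LK LD1_c15 LD2_c7 LD3_c57)))))))))))))
theorem f552333 : Led Lsl_ft (LP (LK LD1_c8 LD2_c5 LD3_c6)) = (LP (LK LD1_c15 LD2_c13 LD3_c13)) :=
  Lre_f IH (LK LD1_c8 LD2_c5 LD3_c6) (LK LD1_c15 LD2_c13 LD3_c13) Lrfl Lrfl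
theorem f552334 : Led Lsl_at (LP (LK LD1_c15 LD2_c13 LD3_c13)) = (LP (LK LD1_c8 LD2_c5 LD3_c1)) :=
  Lre_a IH (LK LD1_c15 LD2_c13 LD3_c13) (LK LD1_c8 LD2_c5 LD3_c1) Lrfl Lrfl
theorem f552335 : Led Lsl_gf (LP (LK LD1_c8 LD2_c5 LD3_c1)) = (LP (LK LD1_c15 LD2_c7 LD3_c57)) :=
  Lgr Lrot76 (Lpe (f552334 IH) (Lpe (f552333 IH) (Lpr_gt (f552310 IH) (Lpn (LP (LK LD1_c15 LD2_c7 LD3_c57))))))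
theorem f81416 : Led Lsl_dt (LP (LK LD1_c4 LD2_c2 LD3_c16)) = (LP (LK LD1_c8 LD2_c5 LD3_c1)) :=
  Lre_d IH (LK LD1_c4 LD2_c2 LD3_c16) (LK LD1_c8 LD2_c5 LD3_c1) Lrfl Lrfl
theorem f158618 : Led Lsl_et (LP (LK LD1_c4 LD2_c2 LD3_c16)) = (LP (LK LD1_c8 LD2_c5 LD3_c2)) :=
  Lre_e IH (LK LD1_c4 LD2_c2 LD3_c16) (LK LD1_c8 LD2_c5 LD3_c2) Lrfl Lrfl
theorem f94970 : Led Lsl_dt (LP (LK LD1_c8 LD2_c2 LD3_c15)) = (LP (LK LD1_c15 LD2_c7 LD3_c57)) :=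
  Lre_d IH (LK LD1_c8 LD2_c2 LD3_c15) (LK LD1_c15 LD2_c7 LD3_c57) Lrfl Lrfl
theorem f81912 : Led Lsl_bf (LP (LK LD1_c4 LD2_c58 LD3_c40)) = (LP (LK LD1_c5 LD2_c55 LD3_c39)) :=
  Lgr Lrot24 (Lpr_bt (K6.f81910 IH) (Lpn (LP (LK LD1_c5 LD2_c55 LD3_c39))))
theorem f29488 : Led Lsl_dt (LP (LK LD1_c4 LD2_c0 LD3_c42)) = (LP (LK LD1_c1 LD2_c57 LD3_c8)) :=
  Lre_d IH (LK LD1_c4 LD2_c0 LD3_c42) (LK LD1_c1 LD2_c57 LD3_c8) Lrfl Lrfl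
theorem f59709 : Led Lsl_bt (LP (LK LD1_c2 LD2_c9 LD3_c18)) = (LP (LK LD1_c4 LD2_c23 LD3_c48)) :=
  Lre_b IH (LK LD1_c2 LD2_c9 LD3_c18) (LK LD1_c4 LD2_c23 LD3_c48) Lrfl Lrfl
theorem f94964 : Led Lsl_gf (LP (LK LD1_c4 LD2_c0 LD3_c42)) = (LP (LK LD1_c4 LD2_c23 LD3_c48)) :=
  Lgr Lrot85 (Lpr_dt (f29488 IH) (Lpr_ct (K6.f29501 IH) (Lpr_bt (K6.f69421 IH) (Lpe (K8.f69441 IH) (Lpr_dt (K8.f69443 IH) (Lpr_ct (K8.f69444 IH) (Lpe (f81912 IH) (Lpr_gt (K28.f74320 IH) (Lpr_dt (K28.f94941 IH) (Lpr_ct (K6.f81953 IH) (Lpr_bt (K6.f81957 IH) (Lpe (K6.f81997 IH) (Lpr_dt (K6.f68568 IH) (Lpr_ct (K4.f59711 IH) (Lpr_bt (K32.f59710 IH) (Lpe (K1.f59701 IH) (Lpr_dt (K2.f59181 IH) (Lpr_ct (K2.f59182 IH) (Lpr_bt (f59709 IH) (Lpn (LP (LK LD1_c4 LD2_c23 LD3_c48))))))))))))))))))))))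
theorem f552339 : Led Lsl_gt (LP (LK LD1_c8 LD2_c5 LD3_c2)) = (LP (LK LD1_c4 LD2_c23 LD3_c49)) :=
  Lgr Lrot131 (Lpe (f158618 IH) (Lpr_dt (f81416 IH) (Lpr_gf (f552335 IH) (Lpe (f94970 IH) (Lpe (K38.f69471 IH) (Lpe (K32.f69426 IH) (Lpr_dt (K8.f29485 IH) (Lpr_gf (f94964 IH) (Lpe (K32.f70100 IH) (Lpr_et (K9.f70025 IH) (Lpn (LP (LK LD1_c4 LD2_c23 LD3_c49)))))))))))))
theorem f552251 : Led Lsl_at (LP (LK LD1_c4 LD2_c56 LD3_c33)) = (LP (LK LD1_c4 LD2_c23 LD3_c49)) :=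
  Lgr Lrot80 (Lpr_ef (f552249 IH) (Lpe (K36.f70094 IH) (Lpe (K9.f70035 IH) (Lpn (LP (LK LD1_c4 LD2_c23 LD3_c49))))))
theorem f211130 : Led Lsl_bt (LP (LK LD1_c4 LD2_c56 LD3_c33)) = (LP (LK LD1_c2 LD2_c26 LD3_c3)) :=
  Lre_b IH (LK LD1_c4 LD2_c56 LD3_c33) (LK LD1_c2 LD2_c26 LD3_c3) Lrfl Lrfl
theorem f346762 : Led Lsl_ft (LP (LK LD1_c4 LD2_c4 LD3_c48)) = (LP (LK LD1_c4 LD2_c56 LD3_c33)) :=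
  Lgr Lrot75 (Lpe (f53110 IH) (Lpr_ff (K23.f346760 IH) (Lpe (f211130 IH) (Lpn (LP (LK LD1_c4 LD2_c56 LD3_c33))))))
theorem f552341 : Led Lsl_gf (LP (LK LD1_c8 LD2_c5 LD3_c2)) = (LP (LK LD1_c4 LD2_c4 LD3_c48)) :=
  Lgr Lrot47 (Lpr_gt (f552339 IH) (Lpe (f552251 IH) (Lpe (f346762 IH) (Lpn (LP (LK LD1_c4 LD2_c4 LD3_c48))))))
theorem f172332 : Led Lsl_ct (LP (LK LD1_c2 LD2_c44 LD3_c48)) = (LP (LK LD1_c1 LD2_c18 LD3_c43)) :=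
  Lre_c IH (LK LD1_c2 LD2_c44 LD3_c48) (LK LD1_c1 LD2_c18 LD3_c43) Lrfl Lrfl
theorem f386969 : Led Lsl_gt (LP (LK LD1_c2 LD2_c44 LD3_c46)) = (LP (LK LD1_c1 LD2_c18 LD3_c43)) :=
  Lre_g IH (LK LD1_c2 LD2_c44 LD3_c46) (LK LD1_c1 LD2_c18 LD3_c43) Lrfl Lrfl
theorem f386976 : Led Lsl_ct (LP (LK LD1_c5 LD2_c37 LD3_c39)) = (LP (LK LD1_c2 LD2_c44 LD3_c46)) :=
  Lre_c IH (LK LD1_c5 LD2_c37 LD3_c39) (LK LD1_c2 LD2_c44 LD3_c46) Lrfl Lrfl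
theorem f552345 : Led Lsl_bf (LP (LK LD1_c8 LD2_c5 LD3_c2)) = (LP (LK LD1_c5 LD2_c37 LD3_c39)) :=
  Lgr Lrot34 (Lpr_gf (f552341 IH) (Lpe (f53110 IH) (Lpr_ct (K12.f53106 IH) (Lpe (K10.f6928 IH) (Lpe (K12.f193669 IH) (Lpe (K16.f255122 IH) (Lpe (K36.f319442 IH) (Lpr_ct (f172332 IH) (Lpe (f386969 IH) (Lpe (f386976 IH) (Lpn (LP (LK LD1_c5 LD2_c37 LD3_c39)))))))))))))
theorem f81415 : Led Lsl_et (LP (LK LD1_c8 LD2_c5 LD3_c2)) = (LP (LK LD1_c4 LD2_c2 LD3_c16)) :=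
  Lre_e IH (LK LD1_c8 LD2_c5 LD3_c2) (LK LD1_c4 LD2_c2 LD3_c16) Lrfl Lrfl
theorem f242257 : Led Lsl_bt (LP (LK LD1_c4 LD2_c2 LD3_c16)) = (LP (LK LD1_c8 LD2_c4 LD3_c61)) :=
  Lre_b IH (LK LD1_c4 LD2_c2 LD3_c16) (LK LD1_c8 LD2_c4 LD3_c61) Lrfl Lrfl
theorem f552351 : Led Lsl_et (LP (LK LD1_c8 LD2_c4 LD3_c61)) = (LP (LK LD1_c5 LD2_c37 LD3_c39)) :=
  Lgr Lrot74 (Lpe (f242257 IH) (Lpe (f81415 IH) (Lpr_bf (f552345 IH) (Lpn (LP (LK LD1_c5 LD2_c37 LD3_c39))))))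
theorem f552358 : Led Lsl_ef (LP (LK LD1_c8 LD2_c4 LD3_c61)) = (LP (LK LD1_c5 LD2_c37 LD3_c39)) :=
  Lgr Lrot88 (Lpr_et (f552351 IH) (Lpn (LP (LK LD1_c5 LD2_c37 LD3_c39))))
theorem f552360 : Led Lsl_dt (LP (LK LD1_c8 LD2_c4 LD3_c61)) = (LP (LK LD1_c15 LD2_c13 LD3_c14)) :=
  Lre_d IH (LK LD1_c8 LD2_c4 LD3_c61) (LK LD1_c15 LD2_c13 LD3_c14) Lrfl Lrfl
theorem f552361 : Led Lsl_et (LP (LK LD1_c15 LD2_c13 LD3_c14)) = (LP (LK LD1_c25 LD2_c2 LD3_c13)) :=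
  Lre_e IH (LK LD1_c15 LD2_c13 LD3_c14) (LK LD1_c25 LD2_c2 LD3_c13) Lrfl Lrfl
theorem f386975 : Led Lsl_dt (LP (LK LD1_c11 LD2_c6 LD3_c46)) = (LP (LK LD1_c5 LD2_c37 LD3_c39)) :=
  Lre_d IH (LK LD1_c11 LD2_c6 LD3_c46) (LK LD1_c5 LD2_c37 LD3_c39) Lrfl Lrfl
theorem f552362 : Led Lsl_et (LP (LK LD1_c20 LD2_c0 LD3_c5)) = (LP (LK LD1_c11 LD2_c6 LD3_c46)) :=
  Lre_e IH (LK LD1_c20 LD2_c0 LD3_c5) (LK LD1_c11 LD2_c6 LD3_c46) Lrfl Lrfl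
theorem f552363 : Led Lsl_dt (LP (LK LD1_c25 LD2_c2 LD3_c13)) = (LP (LK LD1_c20 LD2_c0 LD3_c5)) :=
  Lgr Lrot77 (Lpe (f552361 IH) (Lpe (f552360 IH) (Lpr_ef (f552358 IH) (Lpe (f386975 IH) (Lpe (f552362 IH) (Lpn (LP (LK LD1_c20 LD2_c0 LD3_c5))))))))
theorem f158624 : Led Lsl_bt (LP (LK LD1_c15 LD2_c13 LD3_c19)) = (LP (LK LD1_c25 LD2_c2 LD3_c13)) :=
  Lre_b IH (LK LD1_c15 LD2_c13 LD3_c19) (LK LD1_c25 LD2_c2 LD3_c13) Lrfl Lrfl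
theorem f29503 : Led Lsl_dt (LP (LK LD1_c4 LD2_c0 LD3_c46)) = (LP (LK LD1_c1 LD2_c57 LD3_c9)) :=
  Lre_d IH (LK LD1_c4 LD2_c0 LD3_c46) (LK LD1_c1 LD2_c57 LD3_c9) Lrfl Lrfl
theorem f149431 : Led Lsl_bt (LP (LK LD1_c6 LD2_c15 LD3_c40)) = (LP (LK LD1_c4 LD2_c0 LD3_c46)) :=
  Lgr Lrot95 (Lpr_df (K8.f149412 IH) (Lpe (K7.f138821 IH) (Lpe (f29503 IH) (Lpn (LP (LK LD1_c4 LD2_c0 LD3_c46))))))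
theorem f149433 : Led Lsl_bf (LP (LK LD1_c6 LD2_c15 LD3_c40)) = (LP (LK LD1_c4 LD2_c0 LD3_c46)) :=
  Lgr Lrot24 (Lpr_bt (f149431 IH) (Lpn (LP (LK LD1_c4 LD2_c0 LD3_c46))))
theorem f158606 : Led Lsl_ft (LP (LK LD1_c6 LD2_c14 LD3_c10)) = (LP (LK LD1_c4 LD2_c0 LD3_c46)) :=
  Lgr Lrot75 (Lpr_bf (K8.f158592 IH) (Lpr_ff (K8.f158271 IH) (Lpr_bf (f149433 IH) (Lpn (LP (LK LD1_c4 LD2_c0 LD3_c46))))))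
theorem f158608 : Led Lsl_df (LP (LK LD1_c6 LD2_c14 LD3_c10)) = (LP (LK LD1_c4 LD2_c0 LD3_c40)) :=
  Lgr Lrot78 (Lpr_ft (f158606 IH) (Lpr_dt (f29503 IH) (Lpr_ft (K8.f158183 IH) (Lpn (LP (LK LD1_c4 LD2_c0 LD3_c40))))))
theorem f81414 : Led Lsl_gt (LP (LK LD1_c1 LD2_c58 LD3_c8)) = (LP (LK LD1_c4 LD2_c2 LD3_c16)) :=
  Lre_g IH (LK LD1_c1 LD2_c58 LD3_c8) (LK LD1_c4 LD2_c2 LD3_c16) Lrfl Lrfl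
theorem f29406 : Led Lsl_gt (LP (LK LD1_c15 LD2_c7 LD3_c15)) = (LP (LK LD1_c8 LD2_c1 LD3_c52)) :=
  Lre_g IH (LK LD1_c15 LD2_c7 LD3_c15) (LK LD1_c8 LD2_c1 LD3_c52) Lrfl Lrfl
theorem f158612 : Led Lsl_dt (LP (LK LD1_c8 LD2_c5 LD3_c2)) = (LP (LK LD1_c15 LD2_c7 LD3_c15)) :=
  Lgr Lrot136 (Lpr_et (f81415 IH) (Lpe (f81414 IH) (Lpe (f81395 IH) (Lpr_dt (K36.f81379 IH) (Lpe (K8.f70220 IH) (Lpr_df (f158608 IH) (Lpe (f158210 IH) (Lpe (K7.f29454 IH) (Lpr_dt (K7.f29373 IH) (Lpe (f29406 IH) (Lpn (LP (LK LD1_c15 LD2_c7 LD3_c15)))))))))))))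
theorem f158619 : Led Lsl_dt (LP (LK LD1_c8 LD2_c5 LD3_c1)) = (LP (LK LD1_c4 LD2_c2 LD3_c16)) :=
  Lre_d IH (LK LD1_c8 LD2_c5 LD3_c1) (LK LD1_c4 LD2_c2 LD3_c16) Lrfl Lrfl
theorem f158620 : Led Lsl_et (LP (LK LD1_c15 LD2_c13 LD3_c19)) = (LP (LK LD1_c8 LD2_c5 LD3_c1)) :=
  Lre_e IH (LK LD1_c15 LD2_c13 LD3_c19) (LK LD1_c8 LD2_c5 LD3_c1) Lrfl Lrfl
theorem f158621 : Led Lsl_et (LP (LK LD1_c15 LD2_c7 LD3_c15)) = (LP (LK LD1_c24 LD2_c55 LD3_c37)) :=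
  Lre_e IH (LK LD1_c15 LD2_c7 LD3_c15) (LK LD1_c24 LD2_c55 LD3_c37) Lrfl Lrfl
theorem f158622 : Led Lsl_df (LP (LK LD1_c15 LD2_c13 LD3_c19)) = (LP (LK LD1_c24 LD2_c55 LD3_c37)) :=
  Lgr Lrot70 (Lpr_et (f158620 IH) (Lpr_dt (f158619 IH) (Lpr_et (f158618 IH) (Lpr_dt (f158612 IH) (Lpr_et (f158621 IH) (Lpn (LP (LK LD1_c24 LD2_c55 LD3_c37))))))))
theorem f552365 : Led Lsl_bf (LP (LK LD1_c24 LD2_c55 LD3_c37)) = (LP (LK LD1_c20 LD2_c0 LD3_c5)) :=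
  Lgr Lrot93 (Lpe (f158622 IH) (Lpr_bt (f158624 IH) (Lpr_dt (f552363 IH) (Lpn (LP (LK LD1_c20 LD2_c0 LD3_c5))))))
theorem f552369 : Led Lsl_bt (LP (LK LD1_c24 LD2_c55 LD3_c37)) = (LP (LK LD1_c20 LD2_c0 LD3_c5)) :=
  Lgr Lrot127 (Lpr_bf (f552365 IH) (Lpn (LP (LK LD1_c20 LD2_c0 LD3_c5))))
theorem f552371 : Led Lsl_bf (LP (LK LD1_c15 LD2_c7 LD3_c15)) = (LP (LK LD1_c11 LD2_c6 LD3_c46)) :=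
  Lgr Lrot96 (Lpr_et (f158621 IH) (Lpr_bt (f552369 IH) (Lpr_et (f552362 IH) (Lpn (LP (LK LD1_c11 LD2_c6 LD3_c46))))))
theorem f30512 : Led Lsl_gt (LP (LK LD1_c8 LD2_c1 LD3_c57)) = (LP (LK LD1_c15 LD2_c7 LD3_c15)) :=
  Lre_g IH (LK LD1_c8 LD2_c1 LD3_c57) (LK LD1_c15 LD2_c7 LD3_c15) Lrfl Lrfl
theorem f30507 : Led Lsl_bt (LP (LK LD1_c4 LD2_c0 LD3_c32)) = (LP (LK LD1_c8 LD2_c1 LD3_c57)) :=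
  Lre_b IH (LK LD1_c4 LD2_c0 LD3_c32) (LK LD1_c8 LD2_c1 LD3_c57) Lrfl Lrfl
theorem f40127 : Led Lsl_bt (LP (LK LD1_c3 LD2_c57 LD3_c30)) = (LP (LK LD1_c1 LD2_c55 LD3_c32)) :=
  Lre_b IH (LK LD1_c3 LD2_c57 LD3_c30) (LK LD1_c1 LD2_c55 LD3_c32) Lrfl Lrfl
theorem f197745 : Led Lsl_ct (LP (LK LD1_c3 LD2_c57 LD3_c30)) = (LP (LK LD1_c7 LD2_c56 LD3_c27)) :=
  Lre_c IH (LK LD1_c3 LD2_c57 LD3_c30) (LK LD1_c7 LD2_c56 LD3_c27) Lrfl Lrfl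
theorem f197746 : Led Lsl_gt (LP (LK LD1_c14 LD2_c58 LD3_c50)) = (LP (LK LD1_c7 LD2_c56 LD3_c27)) :=
  Lre_g IH (LK LD1_c14 LD2_c58 LD3_c50) (LK LD1_c7 LD2_c56 LD3_c27) Lrfl Lrfl
theorem f552373 : Led Lsl_cf (LP (LK LD1_c14 LD2_c58 LD3_c50)) = (LP (LK LD1_c11 LD2_c6 LD3_c46)) :=
  Lgr Lrot160 (Lpr_gt (f197746 IH) (Lpe (f197745 IH) (Lpr_bt (f40127 IH) (Lpr_gt (K12.f37779 IH) (Lpr_ct (K12.f197721 IH) (Lpr_gt (K12.f2522 IH) (Lpr_cf (K1.f29704 IH) (Lpr_bt (f30507 IH) (Lpr_gt (f30512 IH) (Lpr_bf (f552371 IH) (Lpn (LP (LK LD1_c11 LD2_c6 LD3_c46)))))))))))))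
theorem f279211 : Led Lsl_ct (LP (LK LD1_c7 LD2_c56 LD3_c27)) = (LP (LK LD1_c3 LD2_c57 LD3_c30)) :=
  Lre_c IH (LK LD1_c7 LD2_c56 LD3_c27) (LK LD1_c3 LD2_c57 LD3_c30) Lrfl Lrfl
theorem f172304 : Led Lsl_dt (LP (LK LD1_c3 LD2_c57 LD3_c30)) = (LP (LK LD1_c1 LD2_c55 LD3_c31)) :=
  Lre_d IH (LK LD1_c3 LD2_c57 LD3_c30) (LK LD1_c1 LD2_c55 LD3_c31) Lrfl Lrfl
theorem f171775 : Led Lsl_ct (LP (LK LD1_c0 LD2_c54 LD3_c58)) = (LP (LK LD1_c1 LD2_c55 LD3_c31)) :=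
  Lre_c IH (LK LD1_c0 LD2_c54 LD3_c58) (LK LD1_c1 LD2_c55 LD3_c31) Lrfl Lrfl
theorem f174553 : Led Lsl_ct (LP (LK LD1_c3 LD2_c59 LD3_c2)) = (LP (LK LD1_c1 LD2_c56 LD3_c15)) :=
  Lre_c IH (LK LD1_c3 LD2_c59 LD3_c2) (LK LD1_c1 LD2_c56 LD3_c15) Lrfl Lrfl
theorem f552378 : Led Lsl_gt (LP (LK LD1_c15 LD2_c3 LD3_c51)) = (LP (LK LD1_c11 LD2_c6 LD3_c46)) :=
  Lgr Lrot9 (Lpe (f174548 IH) (Lpr_gt (K31.f174550 IH) (Lpr_ct (f174553 IH) (Lpr_gt (K36.f149994 IH) (Lpr_ct (f171775 IH) (Lpe (f172304 IH) (Lpe (f279211 IH) (Lpe (f197746 IH) (Lpr_cf (f552373 IH) (Lpn (LP (LK LD1_c11 LD2_c6 LD3_c46))))))))))))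
theorem f40201 : Led Lsl_gt (LP (LK LD1_c7 LD2_c59 LD3_c8)) = (LP (LK LD1_c3 LD2_c59 LD3_c7)) :=
  Lre_g IH (LK LD1_c7 LD2_c59 LD3_c8) (LK LD1_c3 LD2_c59 LD3_c7) Lrfl Lrfl
theorem f386973 : Led Lsl_ct (LP (LK LD1_c2 LD2_c44 LD3_c46)) = (LP (LK LD1_c5 LD2_c37 LD3_c39)) :=
  Lre_c IH (LK LD1_c2 LD2_c44 LD3_c46) (LK LD1_c5 LD2_c37 LD3_c39) Lrfl Lrfl
theorem f552382 : Led Lsl_dt (LP (LK LD1_c3 LD2_c59 LD3_c7)) = (LP (LK LD1_c2 LD2_c44 LD3_c46)) :=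
  Lgr Lrot105 (Lpe (f40201 IH) (Lpe (K38.f100551 IH) (Lpe (K35.f100563 IH) (Lpe (f181350 IH) (Lpr_gt (K30.f174536 IH) (Lpr_dt (f174548 IH) (Lpr_gt (f552378 IH) (Lpr_dt (f386975 IH) (Lpe (f386973 IH) (Lpn (LP (LK LD1_c2 LD2_c44 LD3_c46))))))))))))
theorem f549315 : Led Lsl_ct (LP (LK LD1_c7 LD2_c59 LD3_c37)) = (LP (LK LD1_c3 LD2_c59 LD3_c7)) :=
  Lre_c IH (LK LD1_c7 LD2_c59 LD3_c37) (LK LD1_c3 LD2_c59 LD3_c7) Lrfl Lrfl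
theorem f494396 : Led Lsl_ef (LP (LK LD1_c1 LD2_c4 LD3_c32)) = K36.v1264 :=
  Lgr Lrot88 (Lpr_et (K36.f494394 IH) (Lpn K36.v1264))
def v3012 : LQ := Led Lsl_ft K36.v439
theorem f536483 : Led Lsl_ft K36.v439 = v3012 :=
  Lrfl
theorem f541552 : K35.v1475 = v3012 :=
  (Llr Lrot21 (Lpe (K35.f495749 IH) (Lpe (K36.f449858 IH) (Lpq (K36.f541541 IH) (Lpe (f494396 IH) (Lpe (K8.f163140 IH) (Lpr_et (K36.f452830 IH) (Lpr_ft (f536483 IH) (Lpn v3012))))))))).symm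
theorem f500501 : Led Lsl_cf K36.v439 = K36.v1640 :=
  Lgr Lrot39 (Lpe (K36.f452831 IH) (Lpr_ct (K6.f59536 IH) (Lpr_et (K36.f500500 IH) (Lpn K36.v1640))))
theorem f549233 : K36.v439 = (LP (LK LD1_c1 LD2_c19 LD3_c59)) :=
  Lefun (Lecon (Lfl_cf (f500501 IH)) (K38.f549225 IH).symm) (K38.f172748 IH)
theorem f549253 : Led Lsl_ff (LP (LK LD1_c2 LD2_c47 LD3_c12)) = (LP (LK LD1_c4 LD2_c32 LD3_c9)) :=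
  Lgr Lrot19 (Lpr_dt (K31.f412032 IH) (Lpq (f549233 IH) (Lpr_ft (f536483 IH) (Lpq (f541552 IH) (Lpq (K35.f538892 IH) (Lpr_dt (K31.f173369 IH) (Lpn (LP (LK LD1_c4 LD2_c32 LD3_c9)))))))))
theorem f549261 : Led Lsl_at (LP (LK LD1_c2 LD2_c47 LD3_c12)) = (LP (LK LD1_c4 LD2_c32 LD3_c11)) :=
  Lgr Lrot26 (Lpr_ff (f549253 IH) (Lpr_gt (K31.f407038 IH) (Lpr_gt (K31.f398537 IH) (Lpn (LP (LK LD1_c4 LD2_c32 LD3_c11))))))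
theorem f422927 : Led Lsl_et (LP (LK LD1_c5 LD2_c42 LD3_c29)) = (LP (LK LD1_c2 LD2_c47 LD3_c12)) :=
  Lre_e IH (LK LD1_c5 LD2_c42 LD3_c29) (LK LD1_c2 LD2_c47 LD3_c12) Lrfl Lrfl
theorem f280522 : Led Lsl_et (LP (LK LD1_c4 LD2_c32 LD3_c11)) = (LP (LK LD1_c9 LD2_c2 LD3_c0)) :=
  Lre_e IH (LK LD1_c4 LD2_c32 LD3_c11) (LK LD1_c9 LD2_c2 LD3_c0) Lrfl Lrfl
theorem f549267 : Led Lsl_af (LP (LK LD1_c5 LD2_c42 LD3_c29)) = (LP (LK LD1_c9 LD2_c2 LD3_c0)) :=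
  Lgr Lrot50 (Lpr_et (f422927 IH) (Lpr_at (f549261 IH) (Lpr_et (f280522 IH) (Lpn (LP (LK LD1_c9 LD2_c2 LD3_c0))))))
theorem f549271 : Led Lsl_ct (LP (LK LD1_c5 LD2_c42 LD3_c29)) = (LP (LK LD1_c11 LD2_c15 LD3_c11)) :=
  Lre_c IH (LK LD1_c5 LD2_c42 LD3_c29) (LK LD1_c11 LD2_c15 LD3_c11) Lrfl Lrfl
theorem f424024 : Led Lsl_ct (LP (LK LD1_c16 LD2_c52 LD3_c0)) = (LP (LK LD1_c9 LD2_c2 LD3_c0)) :=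
  Lre_c IH (LK LD1_c16 LD2_c52 LD3_c0) (LK LD1_c9 LD2_c2 LD3_c0) Lrfl Lrfl
theorem f549272 : Led Lsl_at (LP (LK LD1_c11 LD2_c15 LD3_c11)) = (LP (LK LD1_c16 LD2_c52 LD3_c0)) :=
  Lgr Lrot107 (Lpe (f549271 IH) (Lpr_af (f549267 IH) (Lpe (f424024 IH) (Lpn (LP (LK LD1_c16 LD2_c52 LD3_c0))))))
theorem f549276 : Led Lsl_af (LP (LK LD1_c11 LD2_c15 LD3_c11)) = (LP (LK LD1_c16 LD2_c52 LD3_c0)) :=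
  Lgr Lrot0 (Lpr_at (f549272 IH) (Lpn (LP (LK LD1_c16 LD2_c52 LD3_c0))))
theorem f549293 : Led Lsl_et (LP (LK LD1_c11 LD2_c15 LD3_c11)) = (LP (LK LD1_c5 LD2_c42 LD3_c28)) :=
  Lre_e IH (LK LD1_c11 LD2_c15 LD3_c11) (LK LD1_c5 LD2_c42 LD3_c28) Lrfl Lrfl
theorem f542280 : Led Lsl_et (LP (LK LD1_c9 LD2_c1 LD3_c61)) = (LP (LK LD1_c16 LD2_c52 LD3_c0)) :=
  Lre_e IH (LK LD1_c9 LD2_c1 LD3_c61) (LK LD1_c16 LD2_c52 LD3_c0) Lrfl Lrfl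
theorem f549294 : Led Lsl_at (LP (LK LD1_c5 LD2_c42 LD3_c28)) = (LP (LK LD1_c9 LD2_c1 LD3_c61)) :=
  Lgr Lrot80 (Lpe (f549293 IH) (Lpr_af (f549276 IH) (Lpe (f542280 IH) (Lpn (LP (LK LD1_c9 LD2_c1 LD3_c61))))))
theorem f549299 : Led Lsl_ff (LP (LK LD1_c5 LD2_c42 LD3_c28)) = (LP (LK LD1_c9 LD2_c1 LD3_c58)) :=
  Lgr Lrot103 (Lpr_at (f549294 IH) (Lpe (K31.f280517 IH) (Lpe (K31.f181751 IH) (Lpe (K31.f181749 IH) (Lpe (K31.f280519 IH) (Lpr_cf (K31.f407040 IH) (Lpe (K31.f297067 IH) (Lpe (K31.f407044 IH) (Lpe (K31.f398555 IH) (Lpn (LP (LK LD1_c9 LD2_c1 LD3_c58))))))))))))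
theorem f174650 : Led Lsl_gt (LP (LK LD1_c3 LD2_c59 LD3_c7)) = (LP (LK LD1_c1 LD2_c56 LD3_c17)) :=
  Lre_g IH (LK LD1_c3 LD2_c59 LD3_c7) (LK LD1_c1 LD2_c56 LD3_c17) Lrfl Lrfl
theorem f40203 : Led Lsl_bt (LP (LK LD1_c7 LD2_c59 LD3_c36)) = (LP (LK LD1_c3 LD2_c59 LD3_c7)) :=
  Lre_b IH (LK LD1_c7 LD2_c59 LD3_c36) (LK LD1_c3 LD2_c59 LD3_c7) Lrfl Lrfl
theorem f40204 : Led Lsl_ct (LP (LK LD1_c7 LD2_c59 LD3_c36)) = (LP (LK LD1_c15 LD2_c4 LD3_c16)) :=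
  Lre_c IH (LK LD1_c7 LD2_c59 LD3_c36) (LK LD1_c15 LD2_c4 LD3_c16) Lrfl Lrfl
theorem f407066 : Led Lsl_gt (LP (LK LD1_c9 LD2_c1 LD3_c58)) = (LP (LK LD1_c15 LD2_c4 LD3_c16)) :=
  Lgr Lrot149 (Lpe (K31.f173370 IH) (Lpr_gf (K31.f407062 IH) (Lpe (K18.f174614 IH) (Lpe (K9.f174617 IH) (Lpe (K12.f173163 IH) (Lpe (K9.f40747 IH) (Lpr_bt (K30.f41051 IH) (Lpe (f174650 IH) (Lpe (f40203 IH) (Lpr_ct (f40204 IH) (Lpn (LP (LK LD1_c15 LD2_c4 LD3_c16)))))))))))))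
theorem f549305 : Led Lsl_gf (LP (LK LD1_c9 LD2_c1 LD3_c61)) = (LP (LK LD1_c15 LD2_c4 LD3_c16)) :=
  Lgr Lrot76 (Lpe (f549294 IH) (Lpr_ff (f549299 IH) (Lpr_gt (f407066 IH) (Lpn (LP (LK LD1_c15 LD2_c4 LD3_c16))))))
theorem f280515 : Led Lsl_ct (LP (LK LD1_c9 LD2_c1 LD3_c61)) = (LP (LK LD1_c4 LD2_c32 LD3_c11)) :=
  Lre_c IH (LK LD1_c9 LD2_c1 LD3_c61) (LK LD1_c4 LD2_c32 LD3_c11) Lrfl Lrfl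
theorem f549307 : Led Lsl_gt (LP (LK LD1_c5 LD2_c38 LD3_c8)) = (LP (LK LD1_c7 LD2_c59 LD3_c36)) :=
  Lgr Lrot9 (Lpr_df (K31.f423269 IH) (Lpe (K31.f382084 IH) (Lpr_ct (K36.f382088 IH) (Lpr_gt (K36.f424016 IH) (Lpr_ct (K31.f181749 IH) (Lpe (K31.f181750 IH) (Lpe (f280515 IH) (Lpr_gf (f549305 IH) (Lpe (f40204 IH) (Lpn (LP (LK LD1_c7 LD2_c59 LD3_c36))))))))))))
theorem f422948 : Led Lsl_af (LP (LK LD1_c9 LD2_c4 LD3_c28)) = (LP (LK LD1_c5 LD2_c45 LD3_c24)) :=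
  Lgr Lrot31 (Lpr_gf (K31.f385452 IH) (Lpe (K31.f385437 IH) (Lpr_ft (K31.f422942 IH) (Lpn (LP (LK LD1_c5 LD2_c45 LD3_c24))))))
theorem f423747 : Led Lsl_af (LP (LK LD1_c11 LD2_c15 LD3_c29)) = (LP (LK LD1_c9 LD2_c1 LD3_c22)) :=
  Lgr Lrot68 (Lpr_ct (K31.f423741 IH) (Lpe (f422948 IH) (Lpe (K31.f174853 IH) (Lpn (LP (LK LD1_c9 LD2_c1 LD3_c22))))))
theorem f549312 : Led Lsl_gf (LP (LK LD1_c11 LD2_c15 LD3_c29)) = (LP (LK LD1_c7 LD2_c59 LD3_c36)) :=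
  Lgr Lrot76 (Lpr_af (f423747 IH) (Lpr_ff (K31.f422983 IH) (Lpr_gt (f549307 IH) (Lpn (LP (LK LD1_c7 LD2_c59 LD3_c36))))))
theorem f245647 : Led Lsl_ct (LP (LK LD1_c4 LD2_c33 LD3_c26)) = (LP (LK LD1_c9 LD2_c4 LD3_c25)) :=
  Lre_c IH (LK LD1_c4 LD2_c33 LD3_c26) (LK LD1_c9 LD2_c4 LD3_c25) Lrfl Lrfl
theorem f245577 : Led Lsl_at (LP (LK LD1_c2 LD2_c13 LD3_c39)) = (LP (LK LD1_c4 LD2_c33 LD3_c26)) :=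
  Lre_a IH (LK LD1_c2 LD2_c13 LD3_c39) (LK LD1_c4 LD2_c33 LD3_c26) Lrfl Lrfl
theorem f245578 : Led Lsl_bf (LP (LK LD1_c2 LD2_c48 LD3_c21)) = (LP (LK LD1_c4 LD2_c33 LD3_c26)) :=
  Lgr Lrot81 (Lpr_at (K30.f172603 IH) (Lpr_bt (K30.f172542 IH) (Lpr_at (K13.f245573 IH) (Lpr_bt (K18.f174614 IH) (Lpr_at (f245577 IH) (Lpn (LP (LK LD1_c4 LD2_c33 LD3_c26))))))))
theorem f549314 : Led Lsl_bt (LP (LK LD1_c3 LD2_c59 LD3_c7)) = (LP (LK LD1_c7 LD2_c59 LD3_c36)) :=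
  Lre_b IH (LK LD1_c3 LD2_c59 LD3_c7) (LK LD1_c7 LD2_c59 LD3_c36) Lrfl Lrfl
theorem f40202 : Led Lsl_ct (LP (LK LD1_c3 LD2_c59 LD3_c7)) = (LP (LK LD1_c7 LD2_c59 LD3_c37)) :=
  Lre_c IH (LK LD1_c3 LD2_c59 LD3_c7) (LK LD1_c7 LD2_c59 LD3_c37) Lrfl Lrfl
theorem f549317 : Led Lsl_gt (LP (LK LD1_c15 LD2_c4 LD3_c14)) = (LP (LK LD1_c7 LD2_c59 LD3_c37)) :=
  Lgr Lrot65 (Lpr_cf (K30.f174572 IH) (Lpr_bt (K30.f174570 IH) (Lpe (K30.f385551 IH) (Lpr_bf (f245578 IH) (Lpr_ct (f245647 IH) (Lpr_gf (K31.f407092 IH) (Lpe (K31.f423741 IH) (Lpr_gf (f549312 IH) (Lpe (f549314 IH) (Lpr_ct (f40202 IH) (Lpn (LP (LK LD1_c7 LD2_c59 LD3_c37)))))))))))))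
theorem f132955 : Led Lsl_at (LP (LK LD1_c3 LD2_c5 LD3_c1)) = (LP (LK LD1_c4 LD2_c42 LD3_c56)) :=
  Lgr Lrot100 (Lpr_af (K6.f132950 IH) (Lpn (LP (LK LD1_c4 LD2_c42 LD3_c56))))
theorem f133000 : Led Lsl_ft (LP (LK LD1_c1 LD2_c28 LD3_c34)) = (LP (LK LD1_c3 LD2_c5 LD3_c1)) :=
  Lre_f IH (LK LD1_c1 LD2_c28 LD3_c34) (LK LD1_c3 LD2_c5 LD3_c1) Lrfl Lrfl
theorem f133045 : Led Lsl_gt (LP (LK LD1_c3 LD2_c4 LD3_c61)) = (LP (LK LD1_c4 LD2_c42 LD3_c56)) :=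
  Lgr Lrot46 (Lpe (K38.f112363 IH) (Lpr_ft (f133000 IH) (Lpr_at (f132955 IH) (Lpn (LP (LK LD1_c4 LD2_c42 LD3_c56))))))
theorem f132850 : Led Lsl_ct (LP (LK LD1_c4 LD2_c42 LD3_c56)) = (LP (LK LD1_c9 LD2_c19 LD3_c49)) :=
  Lre_c IH (LK LD1_c4 LD2_c42 LD3_c56) (LK LD1_c9 LD2_c19 LD3_c49) Lrfl Lrfl
theorem f552389 : Led Lsl_gt (LP (LK LD1_c9 LD2_c19 LD3_c49)) = (LP (LK LD1_c5 LD2_c37 LD3_c39)) :=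
  Lgr Lrot187 (Lpe (f132850 IH) (Lpe (f133045 IH) (Lpr_dt (K38.f547457 IH) (Lpr_gt (K38.f547481 IH) (Lpe (K30.f174572 IH) (Lpr_gt (f549317 IH) (Lpr_ct (f549315 IH) (Lpr_dt (f552382 IH) (Lpe (f386976 IH) (Lpn (LP (LK LD1_c5 LD2_c37 LD3_c39))))))))))))
def v1820 : LQ := Led Lsl_gf (LP (LK LD1_c1 LD2_c28 LD3_c34))
theorem f503108 : Led Lsl_gf (LP (LK LD1_c1 LD2_c28 LD3_c34)) = v1820 :=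
  Lrfl
theorem f132828 : Led Lsl_ft (LP (LK LD1_c4 LD2_c42 LD3_c56)) = (LP (LK LD1_c2 LD2_c18 LD3_c57)) :=
  Lre_f IH (LK LD1_c4 LD2_c42 LD3_c56) (LK LD1_c2 LD2_c18 LD3_c57) Lrfl Lrfl
theorem f503109 : Led Lsl_gt (LP (LK LD1_c4 LD2_c42 LD3_c56)) = v1820 :=
  Lgr Lrot5 (Lpr_ft (f132828 IH) (Lpe (K6.f132959 IH) (Lpr_gf (f503108 IH) (Lpn v1820))))
theorem f386974 : Led Lsl_dt (LP (LK LD1_c5 LD2_c37 LD3_c39)) = (LP (LK LD1_c11 LD2_c6 LD3_c46)) :=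
  Lre_d IH (LK LD1_c5 LD2_c37 LD3_c39) (LK LD1_c11 LD2_c6 LD3_c46) Lrfl Lrfl
theorem f552380 : Led Lsl_gf (LP (LK LD1_c15 LD2_c3 LD3_c52)) = (LP (LK LD1_c11 LD2_c6 LD3_c46)) :=
  Lgr Lrot76 (Lpe (f423661 IH) (Lpr_ff (f423549 IH) (Lpr_gt (f552378 IH) (Lpn (LP (LK LD1_c11 LD2_c6 LD3_c46))))))
theorem f382081 : Led Lsl_dt (LP (LK LD1_c15 LD2_c3 LD3_c52)) = (LP (LK LD1_c7 LD2_c59 LD3_c13)) :=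
  Lre_d IH (LK LD1_c15 LD2_c3 LD3_c52) (LK LD1_c7 LD2_c59 LD3_c13) Lrfl Lrfl
theorem f180385 : Led Lsl_dt (LP (LK LD1_c2 LD2_c49 LD3_c12)) = (LP (LK LD1_c5 LD2_c46 LD3_c53)) :=
  Lre_d IH (LK LD1_c2 LD2_c49 LD3_c12) (LK LD1_c5 LD2_c46 LD3_c53) Lrfl Lrfl
theorem f552396 : v1820 = (LP (LK LD1_c2 LD2_c49 LD3_c12)) :=
  (Llr Lrot94 (Lpe (f503109 IH) (Lpe (K6.f132843 IH) (Lpr_gt (f552389 IH) (Lpr_dt (f386974 IH) (Lpe (f552380 IH) (Lpr_dt (f382081 IH) (Lpr_cf (K31.f382072 IH) (Lpe (K38.f174902 IH) (Lpe (K38.f547473 IH) (Lpe (f180385 IH) (Lpn (LP (LK LD1_c2 LD2_c49 LD3_c12)))))))))))))).symm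
theorem f552399 : Led Lsl_at (LP (LK LD1_c3 LD2_c0 LD3_c52)) = (LP (LK LD1_c3 LD2_c4 LD3_c61)) :=
  Lgr Lrot26 (Lpe (f268461 IH) (Lpq (f552396 IH) (Lpe (f503108 IH) (Lpr_gt (K38.f112363 IH) (Lpn (LP (LK LD1_c3 LD2_c4 LD3_c61)))))))
theorem f24012 : Led Lsl_et (LP (LK LD1_c6 LD2_c9 LD3_c2)) = (LP (LK LD1_c3 LD2_c0 LD3_c52)) :=
  Lre_e IH (LK LD1_c6 LD2_c9 LD3_c2) (LK LD1_c3 LD2_c0 LD3_c52) Lrfl Lrfl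
theorem f112373 : Led Lsl_et (LP (LK LD1_c3 LD2_c4 LD3_c61)) = (LP (LK LD1_c6 LD2_c15 LD3_c51)) :=
  Lre_e IH (LK LD1_c3 LD2_c4 LD3_c61) (LK LD1_c6 LD2_c15 LD3_c51) Lrfl Lrfl
theorem f552403 : Led Lsl_af (LP (LK LD1_c6 LD2_c9 LD3_c2)) = (LP (LK LD1_c6 LD2_c15 LD3_c51)) :=
  Lgr Lrot50 (Lpr_et (f24012 IH) (Lpr_at (f552399 IH) (Lpr_et (f112373 IH) (Lpn (LP (LK LD1_c6 LD2_c15 LD3_c51))))))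
theorem f23999 : Led Lsl_bt (LP (LK LD1_c3 LD2_c0 LD3_c54)) = (LP (LK LD1_c6 LD2_c9 LD3_c2)) :=
  Lre_b IH (LK LD1_c3 LD2_c0 LD3_c54) (LK LD1_c6 LD2_c9 LD3_c2) Lrfl Lrfl
theorem f24000 : Led Lsl_df (LP (LK LD1_c4 LD2_c39 LD3_c23)) = (LP (LK LD1_c6 LD2_c9 LD3_c2)) :=
  Lgr Lrot12 (Lpr_bt (K37.f23998 IH) (Lpr_dt (K9.f23939 IH) (Lpr_bt (f23999 IH) (Lpn (LP (LK LD1_c6 LD2_c9 LD3_c2))))))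
theorem f37858 : Led Lsl_gt (LP (LK LD1_c9 LD2_c8 LD3_c8)) = (LP (LK LD1_c4 LD2_c35 LD3_c59)) :=
  Lre_g IH (LK LD1_c9 LD2_c8 LD3_c8) (LK LD1_c4 LD2_c35 LD3_c59) Lrfl Lrfl
theorem f112364 : Led Lsl_et (LP (LK LD1_c6 LD2_c15 LD3_c51)) = (LP (LK LD1_c3 LD2_c4 LD3_c61)) :=
  Lre_e IH (LK LD1_c6 LD2_c15 LD3_c51) (LK LD1_c3 LD2_c4 LD3_c61) Lrfl Lrfl
theorem f112365 : Led Lsl_df (LP (LK LD1_c9 LD2_c8 LD3_c8)) = (LP (LK LD1_c6 LD2_c15 LD3_c51)) :=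
  Lgr Lrot170 (Lpr_gt (f37858 IH) (Lpe (K38.f71129 IH) (Lpr_et (K36.f71128 IH) (Lpr_gt (K7.f37767 IH) (Lpr_dt (K8.f59894 IH) (Lpr_gt (K4.f112350 IH) (Lpe (K4.f83762 IH) (Lpr_et (K38.f112362 IH) (Lpr_gt (K38.f112363 IH) (Lpe (f112364 IH) (Lpn (LP (LK LD1_c6 LD2_c15 LD3_c51)))))))))))))
theorem f112371 : Led Lsl_dt (LP (LK LD1_c9 LD2_c8 LD3_c8)) = (LP (LK LD1_c6 LD2_c15 LD3_c51)) :=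
  Lgr Lrot42 (Lpr_df (f112365 IH) (Lpn (LP (LK LD1_c6 LD2_c15 LD3_c51))))
theorem f552409 : Led Lsl_at (LP (LK LD1_c4 LD2_c39 LD3_c23)) = (LP (LK LD1_c9 LD2_c8 LD3_c8)) :=
  Lgr Lrot51 (Lpr_df (f24000 IH) (Lpr_af (f552403 IH) (Lpe (f112371 IH) (Lpn (LP (LK LD1_c9 LD2_c8 LD3_c8))))))
theorem f552415 : Led Lsl_af (LP (LK LD1_c4 LD2_c39 LD3_c23)) = (LP (LK LD1_c9 LD2_c8 LD3_c8)) :=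
  Lgr Lrot0 (Lpr_at (f552409 IH) (Lpn (LP (LK LD1_c9 LD2_c8 LD3_c8))))
theorem f268375 : Led Lsl_af (LP (LK LD1_c1 LD2_c24 LD3_c40)) = (LP (LK LD1_c2 LD2_c16 LD3_c39)) :=
  Lgr Lrot68 (Lpr_ct (K10.f175684 IH) (Lpr_at (K15.f268326 IH) (Lpr_ct (K9.f176061 IH) (Lpn (LP (LK LD1_c2 LD2_c16 LD3_c39))))))
theorem f268385 : Led Lsl_ft (LP (LK LD1_c1 LD2_c24 LD3_c40)) = (LP (LK LD1_c2 LD2_c16 LD3_c40)) :=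
  Lgr Lrot4 (Lpe (K10.f9428 IH) (Lpr_ff (K15.f268379 IH) (Lpe (K10.f23938 IH) (Lpn (LP (LK LD1_c2 LD2_c16 LD3_c40))))))
theorem f268426 : Led Lsl_af (LP (LK LD1_c1 LD2_c24 LD3_c41)) = (LP (LK LD1_c2 LD2_c16 LD3_c40)) :=
  Lgr Lrot45 (Lpr_ft (K15.f268424 IH) (Lpe (f268375 IH) (Lpr_ft (f268385 IH) (Lpn (LP (LK LD1_c2 LD2_c16 LD3_c40))))))
theorem f449885 : Led Lsl_gt (LP (LK LD1_c2 LD2_c52 LD3_c61)) = (LP (LK LD1_c5 LD2_c53 LD3_c19)) :=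
  Lre_g IH (LK LD1_c2 LD2_c52 LD3_c61) (LK LD1_c5 LD2_c53 LD3_c19) Lrfl Lrfl
theorem f549670 : Led Lsl_af (LP (LK LD1_c5 LD2_c53 LD3_c19)) = (LP (LK LD1_c2 LD2_c57 LD3_c61)) :=
  Lgr Lrot31 (Lpe (f449885 IH) (Lpr_gf (K38.f549666 IH) (Lpe (K36.f268428 IH) (Lpn (LP (LK LD1_c2 LD2_c57 LD3_c61))))))
theorem f552426 : Led Lsl_bt (LP (LK LD1_c5 LD2_c53 LD3_c19)) = (LP (LK LD1_c9 LD2_c8 LD3_c8)) :=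
  Lgr Lrot62 (Lpr_af (f549670 IH) (Lpe (K36.f175409 IH) (Lpr_af (f268426 IH) (Lpe (K37.f23998 IH) (Lpr_af (f552415 IH) (Lpn (LP (LK LD1_c9 LD2_c8 LD3_c8))))))))
theorem f407824 : Led Lsl_et (LP (LK LD1_c9 LD2_c0 LD3_c7)) = (LP (LK LD1_c4 LD2_c31 LD3_c2)) :=
  Lre_e IH (LK LD1_c9 LD2_c0 LD3_c7) (LK LD1_c4 LD2_c31 LD3_c2) Lrfl Lrfl
theorem f547459 : Led Lsl_bt (LP (LK LD1_c6 LD2_c15 LD3_c51)) = (LP (LK LD1_c9 LD2_c0 LD3_c7)) :=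
  Lgr Lrot119 (Lpe (f112373 IH) (Lpr_bf (K38.f547451 IH) (Lpe (f407824 IH) (Lpn (LP (LK LD1_c9 LD2_c0 LD3_c7))))))
theorem f552431 : Led Lsl_df (LP (LK LD1_c5 LD2_c53 LD3_c19)) = (LP (LK LD1_c9 LD2_c0 LD3_c7)) :=
  Lgr Lrot12 (Lpr_bt (f552426 IH) (Lpr_dt (f112371 IH) (Lpr_bt (f547459 IH) (Lpn (LP (LK LD1_c9 LD2_c0 LD3_c7))))))
theorem f181728 : Led Lsl_dt (LP (LK LD1_c2 LD2_c13 LD3_c11)) = (LP (LK LD1_c4 LD2_c32 LD3_c16)) :=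
  Lre_d IH (LK LD1_c2 LD2_c13 LD3_c11) (LK LD1_c4 LD2_c32 LD3_c16) Lrfl Lrfl
theorem f164971 : Led Lsl_dt (LP (LK LD1_c2 LD2_c44 LD3_c32)) = (LP (LK LD1_c5 LD2_c37 LD3_c13)) :=
  Lre_d IH (LK LD1_c2 LD2_c44 LD3_c32) (LK LD1_c5 LD2_c37 LD3_c13) Lrfl Lrfl
theorem f552445 : Led Lsl_gf (LP (LK LD1_c4 LD2_c32 LD3_c16)) = (LP (LK LD1_c5 LD2_c37 LD3_c13)) :=
  Lgr Lrot134 (Lpe (f181728 IH) (Lpr_et (K16.f181730 IH) (Lpr_gt (K31.f173368 IH) (Lpqs (K35.f538892 IH) (Lpe (K36.f495750 IH) (Lpr_dt (K36.f449869 IH) (Lpr_gt (f449885 IH) (Lpr_df (f552431 IH) (Lpr_et (f407824 IH) (Lpr_gt (K38.f407822 IH) (Lpr_dt (f164971 IH) (Lpn (LP (LK LD1_c5 LD2_c37 LD3_c13))))))))))))))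
theorem f268473 : Led Lsl_bt (LP (LK LD1_c2 LD2_c13 LD3_c13)) = (LP (LK LD1_c4 LD2_c32 LD3_c16)) :=
  Lre_b IH (LK LD1_c2 LD2_c13 LD3_c13) (LK LD1_c4 LD2_c32 LD3_c16) Lrfl Lrfl
theorem f412327 : Led Lsl_gf (LP (LK LD1_c5 LD2_c40 LD3_c55)) = (LP (LK LD1_c5 LD2_c42 LD3_c25)) :=
  Lgr Lrot104 (Lpr_ct (K24.f172168 IH) (Lpe (K9.f172153 IH) (Lpe (K24.f60641 IH) (Lpr_gf (K9.f80283 IH) (Lpe (K10.f175910 IH) (Lpe (K9.f20229 IH) (Lpe (K1.f9524 IH) (Lpr_gt (K16.f268653 IH) (Lpr_ct (K16.f68780 IH) (Lpn (LP (LK LD1_c5 LD2_c42 LD3_c25))))))))))))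
theorem f412338 : Led Lsl_gt (LP (LK LD1_c2 LD2_c49 LD3_c31)) = (LP (LK LD1_c5 LD2_c42 LD3_c25)) :=
  Lgr Lrot49 (Lpr_df (K17.f172166 IH) (Lpr_gf (f412327 IH) (Lpe (K16.f68780 IH) (Lpe (K16.f268657 IH) (Lpr_dt (K1.f59931 IH) (Lpe (K10.f60126 IH) (Lpr_dt (K10.f60128 IH) (Lpe (K16.f60130 IH) (Lpr_df (K16.f268645 IH) (Lpn (LP (LK LD1_c5 LD2_c42 LD3_c25))))))))))))
theorem f68730 : Led Lsl_af (LP (LK LD1_c5 LD2_c42 LD3_c25)) = (LP (LK LD1_c5 LD2_c46 LD3_c56)) :=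
  Lgr Lrot68 (Lpr_ct (K16.f68728 IH) (Lpr_at (K16.f68592 IH) (Lpr_ct (K37.f68729 IH) (Lpn (LP (LK LD1_c5 LD2_c46 LD3_c56))))))
theorem f268649 : Led Lsl_ft (LP (LK LD1_c4 LD2_c32 LD3_c21)) = (LP (LK LD1_c5 LD2_c46 LD3_c56)) :=
  Lgr Lrot142 (Lpr_dt (K16.f268471 IH) (Lpr_ct (K16.f26949 IH) (Lpr_dt (K16.f22900 IH) (Lpr_ct (K10.f175910 IH) (Lpr_dt (K16.f268641 IH) (Lpr_ct (K10.f175490 IH) (Lpr_dt (K16.f68732 IH) (Lpr_ct (K16.f68780 IH) (Lpr_af (f68730 IH) (Lpn (LP (LK LD1_c5 LD2_c46 LD3_c56))))))))))))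
theorem f412342 : Led Lsl_gf (LP (LK LD1_c2 LD2_c49 LD3_c31)) = (LP (LK LD1_c4 LD2_c32 LD3_c21)) :=
  Lgr Lrot47 (Lpr_gt (f412338 IH) (Lpr_af (f68730 IH) (Lpe (f268649 IH) (Lpn (LP (LK LD1_c4 LD2_c32 LD3_c21))))))
theorem f172180 : Led Lsl_gt (LP (LK LD1_c2 LD2_c49 LD3_c28)) = (LP (LK LD1_c5 LD2_c47 LD3_c10)) :=
  Lre_g IH (LK LD1_c2 LD2_c49 LD3_c28) (LK LD1_c5 LD2_c47 LD3_c10) Lrfl Lrfl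
theorem f173387 : Led Lsl_gt (LP (LK LD1_c11 LD2_c18 LD3_c12)) = (LP (LK LD1_c5 LD2_c44 LD3_c46)) :=
  Lre_g IH (LK LD1_c11 LD2_c18 LD3_c12) (LK LD1_c5 LD2_c44 LD3_c46) Lrfl Lrfl
theorem f211952 : Led Lsl_gt (LP (LK LD1_c11 LD2_c6 LD3_c27)) = (LP (LK LD1_c5 LD2_c37 LD3_c21)) :=
  Lre_g IH (LK LD1_c11 LD2_c6 LD3_c27) (LK LD1_c5 LD2_c37 LD3_c21) Lrfl Lrfl
theorem f382459 : Led Lsl_df (LP (LK LD1_c11 LD2_c18 LD3_c12)) = (LP (LK LD1_c11 LD2_c6 LD3_c27)) :=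
  Lgr Lrot155 (Lpr_gt (f173387 IH) (Lpr_ct (K20.f270607 IH) (Lpe (K20.f270608 IH) (Lpr_ct (K20.f270600 IH) (Lpe (K27.f381601 IH) (Lpe (K27.f381651 IH) (Lpr_gf (K27.f382449 IH) (Lpe (K27.f211951 IH) (Lpe (f211952 IH) (Lpn (LP (LK LD1_c11 LD2_c6 LD3_c27))))))))))))
theorem f381683 : Led Lsl_dt (LP (LK LD1_c0 LD2_c37 LD3_c7)) = (LP (LK LD1_c1 LD2_c20 LD3_c21)) :=
  Lre_d IH (LK LD1_c0 LD2_c37 LD3_c7) (LK LD1_c1 LD2_c20 LD3_c21) Lrfl Lrfl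
theorem f381213 : Led Lsl_ff (LP (LK LD1_c5 LD2_c43 LD3_c26)) = (LP (LK LD1_c11 LD2_c14 LD3_c29)) :=
  Lgr Lrot3 (Lpr_ft (K27.f381195 IH) (Lpn (LP (LK LD1_c11 LD2_c14 LD3_c29))))
theorem f381145 : Led Lsl_at (LP (LK LD1_c5 LD2_c43 LD3_c26)) = (LP (LK LD1_c5 LD2_c37 LD3_c21)) :=
  Lgr Lrot107 (Lpe (K27.f381144 IH) (Lpr_af (K27.f381122 IH) (Lpe (K27.f211951 IH) (Lpn (LP (LK LD1_c5 LD2_c37 LD3_c21))))))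
theorem f381244 : Led Lsl_gf (LP (LK LD1_c11 LD2_c6 LD3_c27)) = (LP (LK LD1_c11 LD2_c14 LD3_c29)) :=
  Lgr Lrot47 (Lpr_gt (f211952 IH) (Lpe (f381145 IH) (Lpr_ff (f381213 IH) (Lpn (LP (LK LD1_c11 LD2_c14 LD3_c29))))))
theorem f386617 : Led Lsl_gf (LP (LK LD1_c2 LD2_c47 LD3_c38)) = (LP (LK LD1_c5 LD2_c42 LD3_c7)) :=
  Lgr Lrot144 (Lpr_dt (K27.f381648 IH) (Lpr_gt (K31.f381672 IH) (Lpr_dt (f381683 IH) (Lpe (K27.f173385 IH) (Lpe (K27.f173386 IH) (Lpe (f173387 IH) (Lpr_df (f382459 IH) (Lpr_gf (f381244 IH) (Lpe (K36.f302419 IH) (Lpn (LP (LK LD1_c5 LD2_c42 LD3_c7))))))))))))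
theorem f140393 : Led Lsl_ct (LP (LK LD1_c5 LD2_c44 LD3_c5)) = (LP (LK LD1_c9 LD2_c46 LD3_c5)) :=
  Lre_c IH (LK LD1_c5 LD2_c44 LD3_c5) (LK LD1_c9 LD2_c46 LD3_c5) Lrfl Lrfl
theorem f140406 : Led Lsl_gt (LP (LK LD1_c11 LD2_c18 LD3_c13)) = (LP (LK LD1_c5 LD2_c44 LD3_c5)) :=
  Lre_g IH (LK LD1_c11 LD2_c18 LD3_c13) (LK LD1_c5 LD2_c44 LD3_c5) Lrfl Lrfl
theorem f270618 : Led Lsl_dt (LP (LK LD1_c5 LD2_c44 LD3_c5)) = (LP (LK LD1_c2 LD2_c48 LD3_c1)) :=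
  Lre_d IH (LK LD1_c5 LD2_c44 LD3_c5) (LK LD1_c2 LD2_c48 LD3_c1) Lrfl Lrfl
theorem f242672 : Led Lsl_gt (LP (LK LD1_c5 LD2_c37 LD3_c21)) = (LP (LK LD1_c11 LD2_c6 LD3_c26)) :=
  Lre_g IH (LK LD1_c5 LD2_c37 LD3_c21) (LK LD1_c11 LD2_c6 LD3_c26) Lrfl Lrfl
theorem f382455 : Led Lsl_df (LP (LK LD1_c11 LD2_c18 LD3_c13)) = (LP (LK LD1_c11 LD2_c6 LD3_c26)) :=
  Lgr Lrot153 (Lpr_gt (f140406 IH) (Lpr_dt (f270618 IH) (Lpe (K38.f172372 IH) (Lpe (K32.f381718 IH) (Lpe (K27.f381676 IH) (Lpe (K27.f381642 IH) (Lpr_gf (K27.f382449 IH) (Lpe (K27.f211951 IH) (Lpr_gt (f242672 IH) (Lpn (LP (LK LD1_c11 LD2_c6 LD3_c26))))))))))))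
theorem f386625 : Led Lsl_gt (LP (LK LD1_c11 LD2_c6 LD3_c26)) = (LP (LK LD1_c11 LD2_c14 LD3_c29)) :=
  Lgr Lrot146 (Lpe (f382455 IH) (Lpr_gt (f140406 IH) (Lpr_ct (f140393 IH) (Lpe (K27.f270616 IH) (Lpe (K27.f381498 IH) (Lpr_dt (K27.f381588 IH) (Lpe (K27.f381592 IH) (Lpr_gf (f386617 IH) (Lpe (K27.f289473 IH) (Lpn (LP (LK LD1_c11 LD2_c14 LD3_c29))))))))))))
theorem f552449 : Led Lsl_ct (LP (LK LD1_c5 LD2_c47 LD3_c10)) = (LP (LK LD1_c11 LD2_c6 LD3_c26)) :=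
  Lgr Lrot91 (Lpe (f172180 IH) (Lpe (K9.f73127 IH) (Lpr_ct (K17.f73150 IH) (Lpr_gf (f412342 IH) (Lpe (K16.f26950 IH) (Lpr_bt (f268473 IH) (Lpr_gf (f552445 IH) (Lpe (K27.f289311 IH) (Lpr_ct (K36.f302419 IH) (Lpe (f386625 IH) (Lpn (LP (LK LD1_c11 LD2_c6 LD3_c26)))))))))))))
theorem f72486 : Led Lsl_gt (LP (LK LD1_c1 LD2_c20 LD3_c52)) = (LP (LK LD1_c2 LD2_c49 LD3_c26)) :=
  Lre_g IH (LK LD1_c1 LD2_c20 LD3_c52) (LK LD1_c2 LD2_c49 LD3_c26) Lrfl Lrfl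
theorem f211836 : Led Lsl_gt (LP (LK LD1_c2 LD2_c12 LD3_c30)) = (LP (LK LD1_c4 LD2_c31 LD3_c3)) :=
  Lre_g IH (LK LD1_c2 LD2_c12 LD3_c30) (LK LD1_c4 LD2_c31 LD3_c3) Lrfl Lrfl
theorem f289401 : Led Lsl_gt (LP (LK LD1_c4 LD2_c31 LD3_c3)) = (LP (LK LD1_c2 LD2_c44 LD3_c42)) :=
  Lgr Lrot46 (Lpe (f211836 IH) (Lpr_ft (K17.f289391 IH) (Lpr_at (K18.f165145 IH) (Lpn (LP (LK LD1_c2 LD2_c44 LD3_c42))))))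
theorem f552473 : Led Lsl_ct (LP (LK LD1_c2 LD2_c49 LD3_c26)) = (LP (LK LD1_c4 LD2_c31 LD3_c3)) :=
  Lgr Lrot152 (Lpe (f72486 IH) (Lpe (K37.f73173 IH) (Lpr_gt (f172180 IH) (Lpr_ct (f552449 IH) (Lpr_gt (f386625 IH) (Lpr_ct (K27.f289473 IH) (Lpe (K27.f302417 IH) (Lpe (K28.f289426 IH) (Lpe (f289401 IH) (Lpn (LP (LK LD1_c4 LD2_c31 LD3_c3))))))))))))
theorem f168268 : Led Lsl_gt (LP (LK LD1_c4 LD2_c56 LD3_c52)) = (LP (LK LD1_c2 LD2_c26 LD3_c17)) :=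
  Lre_g IH (LK LD1_c4 LD2_c56 LD3_c52) (LK LD1_c2 LD2_c26 LD3_c17) Lrfl Lrfl
theorem f211849 : Led Lsl_bt (LP (LK LD1_c2 LD2_c44 LD3_c51)) = (LP (LK LD1_c1 LD2_c18 LD3_c45)) :=
  Lre_b IH (LK LD1_c2 LD2_c44 LD3_c51) (LK LD1_c1 LD2_c18 LD3_c45) Lrfl Lrfl
theorem f211850 : Led Lsl_ct (LP (LK LD1_c2 LD2_c44 LD3_c51)) = (LP (LK LD1_c4 LD2_c56 LD3_c52)) :=
  Lgr Lrot64 (Lpr_bt (f211849 IH) (Lpe (K38.f211848 IH) (Lpe (K31.f177842 IH) (Lpr_ct (K31.f164716 IH) (Lpe (K12.f164307 IH) (Lpe (K12.f172672 IH) (Lpr_gf (K12.f211846 IH) (Lpe (K18.f56541 IH) (Lpr_ct (K30.f56546 IH) (Lpe (f168268 IH) (Lpn (LP (LK LD1_c4 LD2_c56 LD3_c52)))))))))))))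
theorem f211852 : Led Lsl_gt (LP (LK LD1_c5 LD2_c37 LD3_c50)) = (LP (LK LD1_c2 LD2_c44 LD3_c51)) :=
  Lre_g IH (LK LD1_c5 LD2_c37 LD3_c50) (LK LD1_c2 LD2_c44 LD3_c51) Lrfl Lrfl
theorem f552479 : Led Lsl_bt (LP (LK LD1_c2 LD2_c49 LD3_c26)) = (LP (LK LD1_c5 LD2_c37 LD3_c50)) :=
  Lgr Lrot130 (Lpr_ct (f552473 IH) (Lpe (f211836 IH) (Lpe (K18.f211943 IH) (Lpr_bt (K17.f172677 IH) (Lpr_gf (K12.f211846 IH) (Lpe (K18.f56541 IH) (Lpr_ct (K30.f56546 IH) (Lpe (f168268 IH) (Lpe (f211850 IH) (Lpe (f211852 IH) (Lpn (LP (LK LD1_c5 LD2_c37 LD3_c50)))))))))))))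
theorem f211894 : Led Lsl_dt (LP (LK LD1_c5 LD2_c37 LD3_c50)) = (LP (LK LD1_c11 LD2_c7 LD3_c1)) :=
  Lre_d IH (LK LD1_c5 LD2_c37 LD3_c50) (LK LD1_c11 LD2_c7 LD3_c1) Lrfl Lrfl
theorem f211895 : Led Lsl_gt (LP (LK LD1_c11 LD2_c7 LD3_c1)) = (LP (LK LD1_c5 LD2_c38 LD3_c8)) :=
  Lgr Lrot9 (Lpe (f211894 IH) (Lpr_gt (f211852 IH) (Lpr_ct (f211850 IH) (Lpr_gt (f168268 IH) (Lpr_ct (K38.f56555 IH) (Lpr_df (K18.f168221 IH) (Lpe (K30.f168264 IH) (Lpe (K30.f168269 IH) (Lpe (K30.f172338 IH) (Lpn (LP (LK LD1_c5 LD2_c38 LD3_c8))))))))))))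
theorem f172559 : Led Lsl_bt (LP (LK LD1_c0 LD2_c37 LD3_c6)) = (LP (LK LD1_c0 LD2_c16 LD3_c33)) :=
  Lre_b IH (LK LD1_c0 LD2_c37 LD3_c6) (LK LD1_c0 LD2_c16 LD3_c33) Lrfl Lrfl
theorem f211900 : Led Lsl_ct (LP (LK LD1_c5 LD2_c44 LD3_c30)) = (LP (LK LD1_c2 LD2_c48 LD3_c9)) :=
  Lre_c IH (LK LD1_c5 LD2_c44 LD3_c30) (LK LD1_c2 LD2_c48 LD3_c9) Lrfl Lrfl
theorem f211901 : Led Lsl_bf (LP (LK LD1_c11 LD2_c7 LD3_c1)) = (LP (LK LD1_c5 LD2_c44 LD3_c30)) :=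
  Lgr Lrot165 (Lpr_gt (f211895 IH) (Lpr_ct (K30.f172338 IH) (Lpr_gt (K30.f168269 IH) (Lpe (K30.f168259 IH) (Lpr_bt (K30.f168255 IH) (Lpr_gt (K9.f22481 IH) (Lpe (f172559 IH) (Lpr_ct (K27.f174699 IH) (Lpr_gt (K36.f211899 IH) (Lpe (f211900 IH) (Lpn (LP (LK LD1_c5 LD2_c44 LD3_c30)))))))))))))
theorem f211907 : Led Lsl_bt (LP (LK LD1_c11 LD2_c7 LD3_c1)) = (LP (LK LD1_c5 LD2_c44 LD3_c30)) :=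
  Lgr Lrot127 (Lpr_bf (f211901 IH) (Lpn (LP (LK LD1_c5 LD2_c44 LD3_c30))))
theorem f552485 : Led Lsl_df (LP (LK LD1_c2 LD2_c49 LD3_c26)) = (LP (LK LD1_c5 LD2_c44 LD3_c30)) :=
  Lgr Lrot12 (Lpr_bt (f552479 IH) (Lpr_dt (f211894 IH) (Lpr_bt (f211907 IH) (Lpn (LP (LK LD1_c5 LD2_c44 LD3_c30))))))
theorem f381412 : Led Lsl_dt (LP (LK LD1_c4 LD2_c57 LD3_c1)) = (LP (LK LD1_c2 LD2_c26 LD3_c27)) :=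
  Lre_d IH (LK LD1_c4 LD2_c57 LD3_c1) (LK LD1_c2 LD2_c26 LD3_c27) Lrfl Lrfl
theorem f383258 : Led Lsl_dt (LP (LK LD1_c4 LD2_c31 LD3_c3)) = (LP (LK LD1_c2 LD2_c26 LD3_c38)) :=
  Lgr Lrot57 (Lpe (f211836 IH) (Lpe (K18.f211943 IH) (Lpr_gt (K27.f211949 IH) (Lpr_dt (K27.f383251 IH) (Lpr_gt (K27.f174662 IH) (Lpr_dt (K27.f381137 IH) (Lpe (K31.f40168 IH) (Lpe (f381412 IH) (Lpe (K9.f172376 IH) (Lpn (LP (LK LD1_c2 LD2_c26 LD3_c38))))))))))))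
theorem f383289 : Led Lsl_df (LP (LK LD1_c4 LD2_c31 LD3_c3)) = (LP (LK LD1_c2 LD2_c26 LD3_c38)) :=
  Lgr Lrot38 (Lpr_dt (f383258 IH) (Lpn (LP (LK LD1_c2 LD2_c26 LD3_c38))))
theorem f40181 : Led Lsl_gt (LP (LK LD1_c1 LD2_c10 LD3_c33)) = (LP (LK LD1_c2 LD2_c26 LD3_c27)) :=
  Lre_g IH (LK LD1_c1 LD2_c10 LD3_c33) (LK LD1_c2 LD2_c26 LD3_c27) Lrfl Lrfl
theorem f381129 : Led Lsl_ct (LP (LK LD1_c5 LD2_c43 LD3_c10)) = (LP (LK LD1_c2 LD2_c47 LD3_c35)) :=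
  Lre_c IH (LK LD1_c5 LD2_c43 LD3_c10) (LK LD1_c2 LD2_c47 LD3_c35) Lrfl Lrfl
theorem f211917 : Led Lsl_gt (LP (LK LD1_c2 LD2_c48 LD3_c9)) = (LP (LK LD1_c5 LD2_c43 LD3_c10)) :=
  Lre_g IH (LK LD1_c2 LD2_c48 LD3_c9) (LK LD1_c5 LD2_c43 LD3_c10) Lrfl Lrfl
theorem f495874 : Led Lsl_gt (LP (LK LD1_c9 LD2_c0 LD3_c13)) = (LP (LK LD1_c5 LD2_c44 LD3_c30)) :=
  Lgr Lrot9 (Lpe (K30.f495866 IH) (Lpr_gt (K31.f495870 IH) (Lpr_ct (K36.f381406 IH) (Lpr_gt (f40181 IH) (Lpr_ct (K31.f40168 IH) (Lpe (K27.f381137 IH) (Lpe (f381129 IH) (Lpe (f211917 IH) (Lpe (f211900 IH) (Lpn (LP (LK LD1_c5 LD2_c44 LD3_c30))))))))))))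
theorem f552496 : Led Lsl_gt (LP (LK LD1_c2 LD2_c26 LD3_c34)) = (LP (LK LD1_c4 LD2_c31 LD3_c48)) :=
  Lgr Lrot94 (Lpe (K36.f40185 IH) (Lpr_gt (K27.f75515 IH) (Lpr_dt (K28.f79680 IH) (Lpr_gt (K9.f168557 IH) (Lpe (f383289 IH) (Lpe (f552473 IH) (Lpr_df (f552485 IH) (Lpe (f495874 IH) (Lpe (K30.f495866 IH) (Lpn (LP (LK LD1_c4 LD2_c31 LD3_c48))))))))))))
def v1515 : LQ := Led Lsl_ft (LP (LK LD1_c1 LD2_c20 LD3_c52))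
theorem f495995 : Led Lsl_ft (LP (LK LD1_c1 LD2_c20 LD3_c52)) = v1515 :=
  Lrfl
theorem f495999 : Led Lsl_ff (LP (LK LD1_c1 LD2_c20 LD3_c52)) = v1515 :=
  Lgr Lrot3 (Lpr_ft (f495995 IH) (Lpn v1515))
theorem f72944 : Led Lsl_at (LP (LK LD1_c2 LD2_c49 LD3_c23)) = (LP (LK LD1_c1 LD2_c20 LD3_c52)) :=
  Lre_a IH (LK LD1_c2 LD2_c49 LD3_c23) (LK LD1_c1 LD2_c20 LD3_c52) Lrfl Lrfl
theorem f72945 : Led Lsl_cf (LP (LK LD1_c1 LD2_c26 LD3_c10)) = (LP (LK LD1_c1 LD2_c20 LD3_c52)) :=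
  Lgr Lrot1 (Lpr_at (K2.f60114 IH) (Lpr_ct (K2.f72874 IH) (Lpr_at (f72944 IH) (Lpn (LP (LK LD1_c1 LD2_c20 LD3_c52))))))
theorem f68884 : Led Lsl_ft (LP (LK LD1_c1 LD2_c26 LD3_c10)) = (LP (LK LD1_c3 LD2_c0 LD3_c18)) :=
  Lre_f IH (LK LD1_c1 LD2_c26 LD3_c10) (LK LD1_c3 LD2_c0 LD3_c18) Lrfl Lrfl
theorem f496001 : Led Lsl_ct (LP (LK LD1_c3 LD2_c0 LD3_c18)) = v1515 :=
  Lgr Lrot40 (Lpe (f68884 IH) (Lpr_cf (f72945 IH) (Lpr_ff (f495999 IH) (Lpn v1515))))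
theorem f72955 : Led Lsl_bt (LP (LK LD1_c1 LD2_c20 LD3_c52)) = (LP (LK LD1_c0 LD2_c37 LD3_c22)) :=
  Lre_b IH (LK LD1_c1 LD2_c20 LD3_c52) (LK LD1_c0 LD2_c37 LD3_c22) Lrfl Lrfl
def v390 : LQ := Led Lsl_ft (LP (LK LD1_c0 LD2_c37 LD3_c22))
theorem f452592 : Led Lsl_ft (LP (LK LD1_c0 LD2_c37 LD3_c22)) = v390 :=
  Lrfl
theorem f496000 : Led Lsl_bt v390 = v1515 :=
  Lgr Lrot35 (Lpe (f452592 IH) (Lpe (f72955 IH) (Lpr_ff (f495999 IH) (Lpn v1515))))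
theorem f495688 : Led Lsl_bt (LP (LK LD1_c1 LD2_c19 LD3_c20)) = (LP (LK LD1_c2 LD2_c45 LD3_c56)) :=
  Lre_b IH (LK LD1_c1 LD2_c19 LD3_c20) (LK LD1_c2 LD2_c45 LD3_c56) Lrfl Lrfl
theorem f226697 : Led Lsl_gt (LP (LK LD1_c1 LD2_c19 LD3_c20)) = (LP (LK LD1_c0 LD2_c36 LD3_c38)) :=
  Lre_g IH (LK LD1_c1 LD2_c19 LD3_c20) (LK LD1_c0 LD2_c36 LD3_c38) Lrfl Lrfl
theorem f494073 : Led Lsl_gf (LP (LK LD1_c1 LD2_c19 LD3_c20)) = K35.v1218 :=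
  Lgr Lrot47 (Lpr_gt (f226697 IH) (Lpe (K35.f354426 IH) (Lpr_ff (K35.f494069 IH) (Lpn K35.v1218))))
theorem f452596 : Led Lsl_ff (LP (LK LD1_c0 LD2_c37 LD3_c22)) = v390 :=
  Lgr Lrot3 (Lpr_ft (f452592 IH) (Lpn v390))
theorem f452599 : Led Lsl_et (LP (LK LD1_c0 LD2_c57 LD3_c35)) = v390 :=
  Lgr Lrot69 (Lpe (K9.f55452 IH) (Lpr_ef (K9.f56015 IH) (Lpr_ff (K2.f72835 IH) (Lpe (K9.f60920 IH) (Lpr_ff (f452596 IH) (Lpn v390))))))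
theorem f452600 : Led Lsl_gt (LP (LK LD1_c1 LD2_c26 LD3_c17)) = v390 :=
  Lgr Lrot131 (Lpe (K19.f24231 IH) (Lpr_dt (K12.f176731 IH) (Lpr_gf (K9.f101577 IH) (Lpe (K9.f100603 IH) (Lpe (K10.f176558 IH) (Lpr_ef (K35.f176576 IH) (Lpr_dt (K9.f169096 IH) (Lpe (K9.f169090 IH) (Lpe (K2.f55625 IH) (Lpr_et (f452599 IH) (Lpn v390)))))))))))
theorem f537769 : (LP (LK LD1_c1 LD2_c19 LD3_c20)) = v390 :=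
  Lefun (Lecon (Lfl_gf (f494073 IH)) (K35.f537378 IH).symm) (f452600 IH)
theorem f537918 : v1515 = (LP (LK LD1_c2 LD2_c45 LD3_c56)) :=
  Lefun (Lecon (f496000 IH) (f537769 IH).symm) (f495688 IH)
theorem f537926 : Led Lsl_dt (LP (LK LD1_c5 LD2_c39 LD3_c58)) = (LP (LK LD1_c2 LD2_c45 LD3_c56)) :=
  Lre_d IH (LK LD1_c5 LD2_c39 LD3_c58) (LK LD1_c2 LD2_c45 LD3_c56) Lrfl Lrfl
theorem f541728 : Led Lsl_gf (LP (LK LD1_c5 LD2_c39 LD3_c58)) = (LP (LK LD1_c4 LD2_c57 LD3_c20)) :=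
  Lgr Lrot143 (Lpr_dt (f537926 IH) (Lpq (f537918 IH) (Lpe (f496001 IH) (Lpe (K36.f68868 IH) (Lpr_gf (K36.f541726 IH) (Lpe (K36.f381644 IH) (Lpr_gf (K37.f423995 IH) (Lpe (K31.f172446 IH) (Lpr_gt (K36.f172450 IH) (Lpr_dt (K35.f172451 IH) (Lpn (LP (LK LD1_c4 LD2_c57 LD3_c20)))))))))))))
theorem f552503 : Led Lsl_ct (LP (LK LD1_c5 LD2_c39 LD3_c58)) = (LP (LK LD1_c11 LD2_c10 LD3_c49)) :=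
  Lre_c IH (LK LD1_c5 LD2_c39 LD3_c58) (LK LD1_c11 LD2_c10 LD3_c49) Lrfl Lrfl
theorem f552504 : Led Lsl_gt (LP (LK LD1_c11 LD2_c10 LD3_c49)) = (LP (LK LD1_c5 LD2_c43 LD3_c14)) :=
  Lgr Lrot150 (Lpe (f552503 IH) (Lpr_gf (f541728 IH) (Lpe (K35.f172451 IH) (Lpr_gt (f552496 IH) (Lpr_ct (K30.f495861 IH) (Lpe (K30.f495859 IH) (Lpr_ct (K27.f381973 IH) (Lpe (K27.f381648 IH) (Lpe (K27.f381590 IH) (Lpn (LP (LK LD1_c5 LD2_c43 LD3_c14))))))))))))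
theorem f541723 : Led Lsl_ct (LP (LK LD1_c11 LD2_c10 LD3_c49)) = (LP (LK LD1_c5 LD2_c39 LD3_c58)) :=
  Lre_c IH (LK LD1_c11 LD2_c10 LD3_c49) (LK LD1_c5 LD2_c39 LD3_c58) Lrfl Lrfl
theorem f270606 : Led Lsl_gt (LP (LK LD1_c17 LD2_c41 LD3_c59)) = (LP (LK LD1_c9 LD2_c36 LD3_c41)) :=
  Lre_g IH (LK LD1_c17 LD2_c41 LD3_c59) (LK LD1_c9 LD2_c36 LD3_c41) Lrfl Lrfl
theorem f381678 : Led Lsl_gt (LP (LK LD1_c5 LD2_c43 LD3_c59)) = (LP (LK LD1_c11 LD2_c17 LD3_c54)) :=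
  Lre_g IH (LK LD1_c5 LD2_c43 LD3_c59) (LK LD1_c11 LD2_c17 LD3_c54) Lrfl Lrfl
theorem f381679 : Led Lsl_df (LP (LK LD1_c17 LD2_c41 LD3_c59)) = (LP (LK LD1_c11 LD2_c17 LD3_c54)) :=
  Lgr Lrot153 (Lpr_gt (f270606 IH) (Lpe (K27.f381601 IH) (Lpe (K27.f381651 IH) (Lpe (K27.f381650 IH) (Lpr_gf (K27.f381668 IH) (Lpe (K30.f171854 IH) (Lpe (K27.f171855 IH) (Lpe (K27.f270640 IH) (Lpr_gt (f381678 IH) (Lpn (LP (LK LD1_c11 LD2_c17 LD3_c54))))))))))))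
theorem f382400 : Led Lsl_gf (LP (LK LD1_c5 LD2_c44 LD3_c0)) = (LP (LK LD1_c11 LD2_c17 LD3_c54)) :=
  Lgr Lrot147 (Lpr_ct (K27.f255977 IH) (Lpr_gt (K27.f40157 IH) (Lpr_ct (K38.f172372 IH) (Lpe (f270618 IH) (Lpe (K20.f140404 IH) (Lpe (K20.f270611 IH) (Lpr_cf (K20.f270603 IH) (Lpe (f270606 IH) (Lpr_df (f381679 IH) (Lpn (LP (LK LD1_c11 LD2_c17 LD3_c54))))))))))))
theorem f382397 : Led Lsl_dt (LP (LK LD1_c17 LD2_c41 LD3_c59)) = (LP (LK LD1_c11 LD2_c17 LD3_c54)) :=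
  Lgr Lrot42 (Lpr_df (f381679 IH) (Lpn (LP (LK LD1_c11 LD2_c17 LD3_c54))))
theorem f174706 : Led Lsl_dt (LP (LK LD1_c9 LD2_c45 LD3_c47)) = (LP (LK LD1_c4 LD2_c57 LD3_c28)) :=
  Lre_d IH (LK LD1_c9 LD2_c45 LD3_c47) (LK LD1_c4 LD2_c57 LD3_c28) Lrfl Lrfl
theorem f384138 : Led Lsl_gf (LP (LK LD1_c17 LD2_c41 LD3_c59)) = (LP (LK LD1_c11 LD2_c16 LD3_c42)) :=
  Lgr Lrot144 (Lpr_dt (f382397 IH) (Lpe (f382400 IH) (Lpr_dt (K27.f310103 IH) (Lpr_cf (K27.f184349 IH) (Lpr_df (K27.f384132 IH) (Lpe (K38.f174663 IH) (Lpe (f174706 IH) (Lpe (K27.f270637 IH) (Lpr_cf (K27.f381979 IH) (Lpn (LP (LK LD1_c11 LD2_c16 LD3_c42))))))))))))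
theorem f382408 : Led Lsl_gt (LP (LK LD1_c1 LD2_c20 LD3_c16)) = (LP (LK LD1_c2 LD2_c47 LD3_c61)) :=
  Lre_g IH (LK LD1_c1 LD2_c20 LD3_c16) (LK LD1_c2 LD2_c47 LD3_c61) Lrfl Lrfl
theorem f381681 : Led Lsl_ct (LP (LK LD1_c2 LD2_c47 LD3_c61)) = (LP (LK LD1_c5 LD2_c43 LD3_c59)) :=
  Lre_c IH (LK LD1_c2 LD2_c47 LD3_c61) (LK LD1_c5 LD2_c43 LD3_c59) Lrfl Lrfl
theorem f172452 : Led Lsl_dt (LP (LK LD1_c9 LD2_c45 LD3_c19)) = (LP (LK LD1_c4 LD2_c57 LD3_c7)) :=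
  Lre_d IH (LK LD1_c9 LD2_c45 LD3_c19) (LK LD1_c4 LD2_c57 LD3_c7) Lrfl Lrfl
theorem f423997 : Led Lsl_ct (LP (LK LD1_c11 LD2_c17 LD3_c54)) = (LP (LK LD1_c9 LD2_c45 LD3_c19)) :=
  Lgr Lrot110 (Lpe (f381678 IH) (Lpe (f381681 IH) (Lpe (f382408 IH) (Lpe (K32.f381718 IH) (Lpe (K27.f382406 IH) (Lpe (K27.f381724 IH) (Lpr_gt (K36.f423993 IH) (Lpe (K31.f172436 IH) (Lpe (f172452 IH) (Lpn (LP (LK LD1_c9 LD2_c45 LD3_c19))))))))))))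
theorem f424032 : Led Lsl_cf (LP (LK LD1_c11 LD2_c17 LD3_c54)) = (LP (LK LD1_c9 LD2_c45 LD3_c19)) :=
  Lgr Lrot11 (Lpr_ct (f423997 IH) (Lpn (LP (LK LD1_c9 LD2_c45 LD3_c19))))
theorem f172448 : Led Lsl_dt (LP (LK LD1_c4 LD2_c57 LD3_c7)) = (LP (LK LD1_c9 LD2_c45 LD3_c19)) :=
  Lre_d IH (LK LD1_c4 LD2_c57 LD3_c7) (LK LD1_c9 LD2_c45 LD3_c19) Lrfl Lrfl
theorem f172498 : Led Lsl_dt (LP (LK LD1_c4 LD2_c57 LD3_c8)) = (LP (LK LD1_c2 LD2_c26 LD3_c30)) :=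
  Lre_d IH (LK LD1_c4 LD2_c57 LD3_c8) (LK LD1_c2 LD2_c26 LD3_c30) Lrfl Lrfl
theorem f552508 : Led Lsl_gt (LP (LK LD1_c5 LD2_c39 LD3_c58)) = (LP (LK LD1_c4 LD2_c57 LD3_c8)) :=
  Lgr Lrot94 (Lpe (f541723 IH) (Lpr_gt (f552504 IH) (Lpr_dt (K27.f381594 IH) (Lpe (f384138 IH) (Lpr_dt (f382397 IH) (Lpr_cf (f424032 IH) (Lpe (f172448 IH) (Lpe (K31.f172432 IH) (Lpe (f172498 IH) (Lpn (LP (LK LD1_c4 LD2_c57 LD3_c8))))))))))))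
theorem f383872 : Led Lsl_ct (LP (LK LD1_c4 LD2_c57 LD3_c8)) = (LP (LK LD1_c9 LD2_c45 LD3_c20)) :=
  Lre_c IH (LK LD1_c4 LD2_c57 LD3_c8) (LK LD1_c9 LD2_c45 LD3_c20) Lrfl Lrfl
theorem f381494 : Led Lsl_ft (LP (LK LD1_c2 LD2_c47 LD3_c46)) = (LP (LK LD1_c5 LD2_c43 LD3_c33)) :=
  Lre_f IH (LK LD1_c2 LD2_c47 LD3_c46) (LK LD1_c5 LD2_c43 LD3_c33) Lrfl Lrfl
theorem f381581 : Led Lsl_dt (LP (LK LD1_c5 LD2_c43 LD3_c33)) = (LP (LK LD1_c9 LD2_c36 LD3_c41)) :=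
  Lgr Lrot60 (Lpe (f381494 IH) (Lpe (K36.f381132 IH) (Lpr_ff (K27.f381507 IH) (Lpn (LP (LK LD1_c9 LD2_c36 LD3_c41))))))
theorem f382132 : Led Lsl_cf (LP (LK LD1_c5 LD2_c43 LD3_c25)) = (LP (LK LD1_c11 LD2_c11 LD3_c54)) :=
  Lgr Lrot55 (Lpr_dt (K36.f381682 IH) (Lpr_ct (K31.f381686 IH) (Lpr_dt (K27.f381650 IH) (Lpr_ct (K27.f381651 IH) (Lpr_dt (f381581 IH) (Lpe (K20.f270603 IH) (Lpe (K27.f381735 IH) (Lpr_ct (K27.f381141 IH) (Lpr_dt (K27.f381455 IH) (Lpr_ct (K27.f381973 IH) (Lpr_dt (K27.f381591 IH) (Lpr_ct (K27.f381592 IH) (Lpr_dt (K27.f381594 IH) (Lpe (K27.f381979 IH) (Lpr_dt (K27.f382123 IH) (Lpn (LP (LK LD1_c11 LD2_c11 LD3_c54))))))))))))))))))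
theorem f381396 : Led Lsl_ct (LP (LK LD1_c2 LD2_c47 LD3_c43)) = (LP (LK LD1_c5 LD2_c43 LD3_c23)) :=
  Lre_c IH (LK LD1_c2 LD2_c47 LD3_c43) (LK LD1_c5 LD2_c43 LD3_c23) Lrfl Lrfl
theorem f382136 : Led Lsl_ft (LP (LK LD1_c5 LD2_c43 LD3_c23)) = (LP (LK LD1_c11 LD2_c11 LD3_c54)) :=
  Lgr Lrot4 (Lpe (f381396 IH) (Lpe (K36.f381767 IH) (Lpr_cf (f382132 IH) (Lpn (LP (LK LD1_c11 LD2_c11 LD3_c54))))))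
theorem f318756 : Led Lsl_dt (LP (LK LD1_c9 LD2_c45 LD3_c27)) = (LP (LK LD1_c4 LD2_c57 LD3_c11)) :=
  Lre_d IH (LK LD1_c9 LD2_c45 LD3_c27) (LK LD1_c4 LD2_c57 LD3_c11) Lrfl Lrfl
theorem f381465 : Led Lsl_dt (LP (LK LD1_c5 LD2_c43 LD3_c45)) = (LP (LK LD1_c8 LD2_c32 LD3_c41)) :=
  Lgr Lrot6 (Lpr_gt (K27.f381461 IH) (Lpr_ct (K20.f164991 IH) (Lpe (K27.f381388 IH) (Lpr_ct (K27.f216427 IH) (Lpe (f318756 IH) (Lpe (K27.f318743 IH) (Lpe (K27.f318731 IH) (Lpe (K27.f318730 IH) (Lpe (K27.f313555 IH) (Lpn (LP (LK LD1_c8 LD2_c32 LD3_c41))))))))))))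
theorem f382127 : Led Lsl_af (LP (LK LD1_c5 LD2_c43 LD3_c45)) = (LP (LK LD1_c11 LD2_c11 LD3_c54)) :=
  Lgr Lrot117 (Lpr_dt (f381465 IH) (Lpr_at (K27.f232820 IH) (Lpr_dt (K27.f382123 IH) (Lpn (LP (LK LD1_c11 LD2_c11 LD3_c54))))))
theorem f382140 : Led Lsl_gt (LP (LK LD1_c5 LD2_c43 LD3_c23)) = (LP (LK LD1_c9 LD2_c45 LD3_c22)) :=
  Lgr Lrot5 (Lpr_ft (f382136 IH) (Lpe (f382127 IH) (Lpe (K27.f381460 IH) (Lpn (LP (LK LD1_c9 LD2_c45 LD3_c22))))))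
theorem f382142 : Led Lsl_dt (LP (LK LD1_c9 LD2_c45 LD3_c41)) = (LP (LK LD1_c4 LD2_c57 LD3_c22)) :=
  Lre_d IH (LK LD1_c9 LD2_c45 LD3_c41) (LK LD1_c4 LD2_c57 LD3_c22) Lrfl Lrfl
theorem f383855 : Led Lsl_gt (LP (LK LD1_c2 LD2_c48 LD3_c12)) = (LP (LK LD1_c5 LD2_c44 LD3_c42)) :=
  Lre_g IH (LK LD1_c2 LD2_c48 LD3_c12) (LK LD1_c5 LD2_c44 LD3_c42) Lrfl Lrfl
theorem f383863 : Led Lsl_cf (LP (LK LD1_c9 LD2_c45 LD3_c41)) = (LP (LK LD1_c5 LD2_c44 LD3_c42)) :=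
  Lgr Lrot175 (Lpr_dt (f382142 IH) (Lpe (K36.f40178 IH) (Lpe (K27.f381374 IH) (Lpe (K27.f381365 IH) (Lpe (f382140 IH) (Lpr_dt (K27.f383847 IH) (Lpr_gt (K27.f243905 IH) (Lpr_ct (K27.f318751 IH) (Lpr_gt (f383855 IH) (Lpn (LP (LK LD1_c5 LD2_c44 LD3_c42))))))))))))
theorem f318748 : Led Lsl_dt (LP (LK LD1_c9 LD2_c45 LD3_c38)) = (LP (LK LD1_c5 LD2_c44 LD3_c43)) :=
  Lre_d IH (LK LD1_c9 LD2_c45 LD3_c38) (LK LD1_c5 LD2_c44 LD3_c43) Lrfl Lrfl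
theorem f381404 : Led Lsl_dt (LP (LK LD1_c2 LD2_c26 LD3_c31)) = (LP (LK LD1_c1 LD2_c10 LD3_c33)) :=
  Lre_d IH (LK LD1_c2 LD2_c26 LD3_c31) (LK LD1_c1 LD2_c10 LD3_c33) Lrfl Lrfl
theorem f172497 : Led Lsl_dt (LP (LK LD1_c2 LD2_c26 LD3_c30)) = (LP (LK LD1_c4 LD2_c57 LD3_c8)) :=
  Lre_d IH (LK LD1_c2 LD2_c26 LD3_c30) (LK LD1_c4 LD2_c57 LD3_c8) Lrfl Lrfl
theorem f383873 : Led Lsl_dt (LP (LK LD1_c9 LD2_c45 LD3_c20)) = (LP (LK LD1_c5 LD2_c44 LD3_c42)) :=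
  Lgr Lrot173 (Lpe (f383872 IH) (Lpe (f172497 IH) (Lpe (K31.f172431 IH) (Lpe (f381404 IH) (Lpe (K27.f216585 IH) (Lpe (f318756 IH) (Lpe (K27.f318743 IH) (Lpe (f318748 IH) (Lpe (K35.f381217 IH) (Lpe (K35.f172451 IH) (Lpe (K36.f40185 IH) (Lpe (K27.f172457 IH) (Lpe (K31.f172455 IH) (Lpe (f382142 IH) (Lpr_cf (f383863 IH) (Lpn (LP (LK LD1_c5 LD2_c44 LD3_c42))))))))))))))))))
theorem f318931 : Led Lsl_gt (LP (LK LD1_c5 LD2_c44 LD3_c42)) = (LP (LK LD1_c9 LD2_c46 LD3_c3)) :=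
  Lre_g IH (LK LD1_c5 LD2_c44 LD3_c42) (LK LD1_c9 LD2_c46 LD3_c3) Lrfl Lrfl
theorem f318713 : Led Lsl_ct (LP (LK LD1_c9 LD2_c46 LD3_c3)) = (LP (LK LD1_c4 LD2_c57 LD3_c36)) :=
  Lre_c IH (LK LD1_c9 LD2_c46 LD3_c3) (LK LD1_c4 LD2_c57 LD3_c36) Lrfl Lrfl
theorem f318724 : Led Lsl_gt (LP (LK LD1_c4 LD2_c57 LD3_c36)) = (LP (LK LD1_c9 LD2_c46 LD3_c2)) :=
  Lre_g IH (LK LD1_c4 LD2_c57 LD3_c36) (LK LD1_c9 LD2_c46 LD3_c2) Lrfl Lrfl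
theorem f383818 : Led Lsl_cf (LP (LK LD1_c5 LD2_c43 LD3_c49)) = (LP (LK LD1_c9 LD2_c46 LD3_c2)) :=
  Lgr Lrot11 (Lpr_ct (K27.f383810 IH) (Lpn (LP (LK LD1_c9 LD2_c46 LD3_c2))))
theorem f383904 : Led Lsl_gt (LP (LK LD1_c9 LD2_c45 LD3_c20)) = (LP (LK LD1_c5 LD2_c43 LD3_c26)) :=
  Lgr Lrot146 (Lpr_dt (f383873 IH) (Lpr_gt (f318931 IH) (Lpr_ct (f318713 IH) (Lpr_gt (f318724 IH) (Lpe (f383818 IH) (Lpr_dt (K27.f381605 IH) (Lpe (K27.f381174 IH) (Lpe (K36.f381199 IH) (Lpe (K27.f381154 IH) (Lpn (LP (LK LD1_c5 LD2_c43 LD3_c26))))))))))))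
theorem f289393 : Led Lsl_gf (LP (LK LD1_c4 LD2_c31 LD3_c5)) = (LP (LK LD1_c2 LD2_c44 LD3_c40)) :=
  Lgr Lrot76 (Lpe (K27.f211958 IH) (Lpr_ff (K17.f289376 IH) (Lpr_gt (K32.f165144 IH) (Lpn (LP (LK LD1_c2 LD2_c44 LD3_c40))))))
theorem f552518 : Led Lsl_gt (LP (LK LD1_c2 LD2_c45 LD3_c56)) = (LP (LK LD1_c5 LD2_c37 LD3_c27)) :=
  Lgr Lrot9 (Lpe (f537926 IH) (Lpr_gt (f552508 IH) (Lpr_ct (f383872 IH) (Lpr_gt (f383904 IH) (Lpr_ct (K27.f381154 IH) (Lpr_df (K27.f381197 IH) (Lpr_cf (K27.f211959 IH) (Lpr_gf (f289393 IH) (Lpe (K35.f210373 IH) (Lpn (LP (LK LD1_c5 LD2_c37 LD3_c27))))))))))))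
def v1461 : LQ := Led Lsl_ct (LP (LK LD1_c1 LD2_c19 LD3_c20))
theorem f495692 : Led Lsl_ct (LP (LK LD1_c1 LD2_c19 LD3_c20)) = v1461 :=
  Lrfl
theorem f452594 : Led Lsl_cf (LP (LK LD1_c0 LD2_c57 LD3_c36)) = v390 :=
  Lgr Lrot108 (Lpr_ft (K9.f80281 IH) (Lpe (K17.f60921 IH) (Lpr_ft (f452592 IH) (Lpn v390))))
theorem f537927 : (LP (LK LD1_c0 LD2_c57 LD3_c36)) = v1461 :=
  Lefun (Lecon (Lfl_cf (f452594 IH)) (f537769 IH).symm) (f495692 IH)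
theorem f175477 : Led Lsl_ct (LP (LK LD1_c1 LD2_c20 LD3_c43)) = (LP (LK LD1_c2 LD2_c48 LD3_c59)) :=
  Lre_c IH (LK LD1_c1 LD2_c20 LD3_c43) (LK LD1_c2 LD2_c48 LD3_c59) Lrfl Lrfl
theorem f418926 : Led Lsl_bt (LP (LK LD1_c5 LD2_c37 LD3_c27)) = (LP (LK LD1_c9 LD2_c1 LD3_c18)) :=
  Lgr Lrot130 (Lpr_ct (K35.f210373 IH) (Lpe (K32.f165144 IH) (Lpr_cf (K17.f211990 IH) (Lpr_bt (K18.f169329 IH) (Lpr_gf (K9.f178952 IH) (Lpe (K18.f173327 IH) (Lpr_ct (K18.f173273 IH) (Lpe (K38.f173334 IH) (Lpe (K38.f178957 IH) (Lpe (f178959 IH) (Lpn (LP (LK LD1_c9 LD2_c1 LD3_c18)))))))))))))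
theorem f418928 : Led Lsl_bf (LP (LK LD1_c5 LD2_c37 LD3_c27)) = (LP (LK LD1_c9 LD2_c1 LD3_c18)) :=
  Lgr Lrot24 (Lpr_bt (f418926 IH) (Lpn (LP (LK LD1_c9 LD2_c1 LD3_c18))))
theorem f552525 : Led Lsl_cf (LP (LK LD1_c5 LD2_c46 LD3_c29)) = (LP (LK LD1_c9 LD2_c1 LD3_c18)) :=
  Lgr Lrot160 (Lpr_gt (f100245 IH) (Lpe (f175477 IH) (Lpr_bt (K2.f60115 IH) (Lpr_gt (K10.f60159 IH) (Lpe (K10.f175423 IH) (Lpe (K9.f80290 IH) (Lpqs (f537927 IH) (Lpe (f495692 IH) (Lpr_bt (f495688 IH) (Lpr_gt (f552518 IH) (Lpr_bf (f418928 IH) (Lpn (LP (LK LD1_c9 LD2_c1 LD3_c18))))))))))))))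
theorem f206806 : Led Lsl_dt (LP (LK LD1_c2 LD2_c48 LD3_c59)) = (LP (LK LD1_c5 LD2_c46 LD3_c30)) :=
  Lre_d IH (LK LD1_c2 LD2_c48 LD3_c59) (LK LD1_c5 LD2_c46 LD3_c30) Lrfl Lrfl
theorem f60609 : Led Lsl_gt (LP (LK LD1_c5 LD2_c46 LD3_c30)) = (LP (LK LD1_c11 LD2_c23 LD3_c11)) :=
  Lre_g IH (LK LD1_c5 LD2_c46 LD3_c30) (LK LD1_c11 LD2_c23 LD3_c11) Lrfl Lrfl
theorem f382090 : Led Lsl_dt (LP (LK LD1_c7 LD2_c59 LD3_c22)) = (LP (LK LD1_c3 LD2_c59 LD3_c1)) :=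
  Lre_d IH (LK LD1_c7 LD2_c59 LD3_c22) (LK LD1_c3 LD2_c59 LD3_c1) Lrfl Lrfl
theorem f423759 : Led Lsl_gf (LP (LK LD1_c7 LD2_c59 LD3_c22)) = (LP (LK LD1_c5 LD2_c40 LD3_c23)) :=
  Lgr Lrot148 (Lpr_dt (f382090 IH) (Lpe (K31.f411660 IH) (Lpr_dt (K31.f172489 IH) (Lpr_ct (K31.f423741 IH) (Lpe (K36.f422937 IH) (Lpe (K31.f280881 IH) (Lpe (K16.f280362 IH) (Lpe (f174223 IH) (Lpr_ct (f418625 IH) (Lpn (LP (LK LD1_c5 LD2_c40 LD3_c23))))))))))))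
theorem f382089 : Led Lsl_ct (LP (LK LD1_c7 LD2_c59 LD3_c21)) = (LP (LK LD1_c3 LD2_c59 LD3_c1)) :=
  Lre_c IH (LK LD1_c7 LD2_c59 LD3_c21) (LK LD1_c3 LD2_c59 LD3_c1) Lrfl Lrfl
theorem f552652 : Led Lsl_dt (LP (LK LD1_c11 LD2_c23 LD3_c11)) = (LP (LK LD1_c7 LD2_c59 LD3_c21)) :=
  Lgr Lrot105 (Lpe (f60609 IH) (Lpe (f206806 IH) (Lpe (f100245 IH) (Lpr_cf (f552525 IH) (Lpr_gt (f178959 IH) (Lpr_dt (f552611 IH) (Lpe (f423759 IH) (Lpr_dt (f382090 IH) (Lpe (f382089 IH) (Lpn (LP (LK LD1_c7 LD2_c59 LD3_c21))))))))))))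
theorem f197507 : Led Lsl_ct (LP (LK LD1_c5 LD2_c46 LD3_c30)) = (LP (LK LD1_c11 LD2_c23 LD3_c12)) :=
  Lre_c IH (LK LD1_c5 LD2_c46 LD3_c30) (LK LD1_c11 LD2_c23 LD3_c12) Lrfl Lrfl
theorem f552657 : Led Lsl_gt (LP (LK LD1_c11 LD2_c23 LD3_c12)) = (LP (LK LD1_c11 LD2_c15 LD3_c19)) :=
  Lgr Lrot94 (Lpe (f197507 IH) (Lpr_gt (f60609 IH) (Lpr_dt (f552652 IH) (Lpr_gt (K36.f424016 IH) (Lpr_dt (K31.f280520 IH) (Lpr_cf (K31.f407040 IH) (Lpe (K31.f297067 IH) (Lpr_gf (K31.f398603 IH) (Lpe (K16.f280377 IH) (Lpn (LP (LK LD1_c11 LD2_c15 LD3_c19))))))))))))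
theorem f280379 : Led Lsl_at (LP (LK LD1_c5 LD2_c42 LD3_c44)) = (LP (LK LD1_c11 LD2_c15 LD3_c19)) :=
  Lre_a IH (LK LD1_c5 LD2_c42 LD3_c44) (LK LD1_c11 LD2_c15 LD3_c19) Lrfl Lrfl
theorem f280266 : Led Lsl_ff (LP (LK LD1_c5 LD2_c42 LD3_c44)) = (LP (LK LD1_c8 LD2_c43 LD3_c38)) :=
  Lgr Lrot3 (Lpr_ft (K16.f280146 IH) (Lpn (LP (LK LD1_c8 LD2_c43 LD3_c38))))
theorem f552672 : Led Lsl_gf (LP (LK LD1_c11 LD2_c23 LD3_c12)) = (LP (LK LD1_c8 LD2_c43 LD3_c38)) :=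
  Lgr Lrot47 (Lpr_gt (f552657 IH) (Lpe (f280379 IH) (Lpr_ff (f280266 IH) (Lpn (LP (LK LD1_c8 LD2_c43 LD3_c38))))))
theorem f411485 : Led Lsl_ct (LP (LK LD1_c11 LD2_c23 LD3_c12)) = (LP (LK LD1_c5 LD2_c46 LD3_c30)) :=
  Lre_c IH (LK LD1_c11 LD2_c23 LD3_c12) (LK LD1_c5 LD2_c46 LD3_c30) Lrfl Lrfl
def v1510 : LQ := Led Lsl_gf (LP (LK LD1_c1 LD2_c20 LD3_c43))
theorem f495976 : Led Lsl_gf (LP (LK LD1_c1 LD2_c20 LD3_c43)) = v1510 :=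
  Lrfl
theorem f547709 : (LP (LK LD1_c1 LD2_c10 LD3_c25)) = v1510 :=
  Lefun (Lecon (Lfl_gt (K38.f495223 IH)) (K38.f547708 IH)) (f495976 IH)
theorem f181746 : Led Lsl_gt (LP (LK LD1_c8 LD2_c43 LD3_c37)) = (LP (LK LD1_c4 LD2_c22 LD3_c54)) :=
  Lre_g IH (LK LD1_c8 LD2_c43 LD3_c37) (LK LD1_c4 LD2_c22 LD3_c54) Lrfl Lrfl
theorem f552677 : Led Lsl_df (LP (LK LD1_c4 LD2_c56 LD3_c52)) = (LP (LK LD1_c8 LD2_c43 LD3_c37)) :=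
  Lgr Lrot155 (Lpr_gt (f168268 IH) (Lpr_ct (K38.f56555 IH) (Lpqs (f547709 IH) (Lpe (f495976 IH) (Lpr_ct (f175477 IH) (Lpr_dt (f206806 IH) (Lpe (f411485 IH) (Lpr_gf (f552672 IH) (Lpe (K16.f181739 IH) (Lpe (f181746 IH) (Lpn (LP (LK LD1_c8 LD2_c43 LD3_c37)))))))))))))
theorem f168258 : Led Lsl_dt (LP (LK LD1_c17 LD2_c54 LD3_c22)) = (LP (LK LD1_c9 LD2_c44 LD3_c59)) :=
  Lre_d IH (LK LD1_c17 LD2_c54 LD3_c22) (LK LD1_c9 LD2_c44 LD3_c59) Lrfl Lrfl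
theorem f385446 : Led Lsl_dt (LP (LK LD1_c9 LD2_c4 LD3_c25)) = (LP (LK LD1_c16 LD2_c56 LD3_c0)) :=
  Lre_d IH (LK LD1_c9 LD2_c4 LD3_c25) (LK LD1_c16 LD2_c56 LD3_c0) Lrfl Lrfl
theorem f385463 : Led Lsl_ct (LP (LK LD1_c16 LD2_c56 LD3_c0)) = (LP (LK LD1_c17 LD2_c54 LD3_c22)) :=
  Lgr Lrot133 (Lpe (f385446 IH) (Lpr_ft (K31.f385450 IH) (Lpr_at (K31.f168262 IH) (Lpe (K30.f168259 IH) (Lpe (K18.f168246 IH) (Lpe (K38.f56555 IH) (Lpe (K36.f168256 IH) (Lpe (K31.f168257 IH) (Lpe (f168258 IH) (Lpn (LP (LK LD1_c17 LD2_c54 LD3_c22))))))))))))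
theorem f385469 : Led Lsl_et (LP (LK LD1_c26 LD2_c52 LD3_c31)) = (LP (LK LD1_c16 LD2_c56 LD3_c0)) :=
  Lre_e IH (LK LD1_c26 LD2_c52 LD3_c31) (LK LD1_c16 LD2_c56 LD3_c0) Lrfl Lrfl
theorem f385470 : Led Lsl_et (LP (LK LD1_c17 LD2_c54 LD3_c22)) = (LP (LK LD1_c27 LD2_c39 LD3_c60)) :=
  Lre_e IH (LK LD1_c17 LD2_c54 LD3_c22) (LK LD1_c27 LD2_c39 LD3_c60) Lrfl Lrfl
theorem f385471 : Led Lsl_cf (LP (LK LD1_c26 LD2_c52 LD3_c31)) = (LP (LK LD1_c27 LD2_c39 LD3_c60)) :=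
  Lgr Lrot39 (Lpr_et (f385469 IH) (Lpr_ct (f385463 IH) (Lpr_et (f385470 IH) (Lpn (LP (LK LD1_c27 LD2_c39 LD3_c60))))))
theorem f385478 : Led Lsl_ct (LP (LK LD1_c26 LD2_c52 LD3_c31)) = (LP (LK LD1_c27 LD2_c39 LD3_c60)) :=
  Lgr Lrot59 (Lpr_cf (f385471 IH) (Lpn (LP (LK LD1_c27 LD2_c39 LD3_c60))))
theorem f385481 : Led Lsl_at (LP (LK LD1_c16 LD2_c56 LD3_c10)) = (LP (LK LD1_c26 LD2_c52 LD3_c31)) :=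
  Lre_a IH (LK LD1_c16 LD2_c56 LD3_c10) (LK LD1_c26 LD2_c52 LD3_c31) Lrfl Lrfl
theorem f385486 : Led Lsl_ct (LP (LK LD1_c26 LD2_c52 LD3_c38)) = (LP (LK LD1_c16 LD2_c56 LD3_c10)) :=
  Lre_c IH (LK LD1_c26 LD2_c52 LD3_c38) (LK LD1_c16 LD2_c56 LD3_c10) Lrfl Lrfl
theorem f385487 : Led Lsl_af (LP (LK LD1_c26 LD2_c52 LD3_c38)) = (LP (LK LD1_c27 LD2_c39 LD3_c60)) :=
  Lgr Lrot68 (Lpr_ct (f385486 IH) (Lpr_at (f385481 IH) (Lpr_ct (f385478 IH) (Lpn (LP (LK LD1_c27 LD2_c39 LD3_c60))))))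
theorem f385417 : Led Lsl_et (LP (LK LD1_c26 LD2_c52 LD3_c38)) = (LP (LK LD1_c16 LD2_c56 LD3_c9)) :=
  Lre_e IH (LK LD1_c26 LD2_c52 LD3_c38) (LK LD1_c16 LD2_c56 LD3_c9) Lrfl Lrfl
theorem f385493 : Led Lsl_at (LP (LK LD1_c16 LD2_c56 LD3_c9)) = (LP (LK LD1_c17 LD2_c54 LD3_c22)) :=
  Lgr Lrot80 (Lpe (f385417 IH) (Lpr_af (f385487 IH) (Lpe (f385470 IH) (Lpn (LP (LK LD1_c17 LD2_c54 LD3_c22))))))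
theorem f385418 : Led Lsl_ff (LP (LK LD1_c16 LD2_c56 LD3_c9)) = (LP (LK LD1_c11 LD2_c21 LD3_c22)) :=
  Lgr Lrot3 (Lpr_ft (K30.f385405 IH) (Lpn (LP (LK LD1_c11 LD2_c21 LD3_c22))))
theorem f385397 : Led Lsl_gt (LP (LK LD1_c11 LD2_c21 LD3_c22)) = (LP (LK LD1_c20 LD2_c19 LD3_c5)) :=
  Lre_g IH (LK LD1_c11 LD2_c21 LD3_c22) (LK LD1_c20 LD2_c19 LD3_c5) Lrfl Lrfl
theorem f385497 : Led Lsl_gt (LP (LK LD1_c20 LD2_c19 LD3_c5)) = (LP (LK LD1_c17 LD2_c54 LD3_c22)) :=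
  Lgr Lrot46 (Lpe (f385397 IH) (Lpe (f385418 IH) (Lpr_at (f385493 IH) (Lpn (LP (LK LD1_c17 LD2_c54 LD3_c22))))))
theorem f280481 : Led Lsl_gt (LP (LK LD1_c5 LD2_c42 LD3_c34)) = (LP (LK LD1_c8 LD2_c43 LD3_c37)) :=
  Lgr Lrot5 (Lpr_ft (K30.f280474 IH) (Lpr_at (K30.f280473 IH) (Lpe (f181746 IH) (Lpn (LP (LK LD1_c8 LD2_c43 LD3_c37))))))
theorem f280386 : Led Lsl_ft (LP (LK LD1_c11 LD2_c15 LD3_c19)) = (LP (LK LD1_c16 LD2_c20 LD3_c35)) :=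
  Lgr Lrot142 (Lpr_dt (K16.f280377 IH) (Lpr_ct (K16.f174492 IH) (Lpr_dt (K20.f174468 IH) (Lpr_ct (K31.f174442 IH) (Lpr_dt (K31.f181741 IH) (Lpe (K16.f181731 IH) (Lpr_dt (K31.f181738 IH) (Lpr_ct (K16.f181739 IH) (Lpe (K31.f181743 IH) (Lpn (LP (LK LD1_c16 LD2_c20 LD3_c35))))))))))))
theorem f181748 : Led Lsl_gt (LP (LK LD1_c16 LD2_c20 LD3_c40)) = (LP (LK LD1_c8 LD2_c43 LD3_c38)) :=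
  Lre_g IH (LK LD1_c16 LD2_c20 LD3_c40) (LK LD1_c8 LD2_c43 LD3_c38) Lrfl Lrfl
theorem f281928 : Led Lsl_gt (LP (LK LD1_c11 LD2_c15 LD3_c19)) = (LP (LK LD1_c16 LD2_c20 LD3_c40)) :=
  Lgr Lrot5 (Lpr_ft (f280386 IH) (Lpr_at (K31.f181743 IH) (Lpe (f181748 IH) (Lpn (LP (LK LD1_c16 LD2_c20 LD3_c40))))))
theorem f552679 : Led Lsl_df (LP (LK LD1_c20 LD2_c19 LD3_c5)) = (LP (LK LD1_c16 LD2_c20 LD3_c40)) :=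
  Lgr Lrot153 (Lpr_gt (f385497 IH) (Lpr_dt (f168258 IH) (Lpe (K31.f168305 IH) (Lpe (K38.f168304 IH) (Lpe (f168268 IH) (Lpr_df (f552677 IH) (Lpe (f280481 IH) (Lpe (K31.f280468 IH) (Lpr_gt (f281928 IH) (Lpn (LP (LK LD1_c16 LD2_c20 LD3_c40))))))))))))
theorem f385467 : Led Lsl_cf (LP (LK LD1_c16 LD2_c56 LD3_c0)) = (LP (LK LD1_c17 LD2_c54 LD3_c22)) :=
  Lgr Lrot11 (Lpr_ct (f385463 IH) (Lpn (LP (LK LD1_c17 LD2_c54 LD3_c22))))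
theorem f385447 : Led Lsl_ft (LP (LK LD1_c16 LD2_c56 LD3_c0)) = (LP (LK LD1_c11 LD2_c21 LD3_c12)) :=
  Lgr Lrot54 (Lpe (f385446 IH) (Lpr_ff (K30.f385431 IH) (Lpe (K18.f168275 IH) (Lpn (LP (LK LD1_c11 LD2_c21 LD3_c12))))))
theorem f168266 : Led Lsl_gt (LP (LK LD1_c11 LD2_c21 LD3_c21)) = (LP (LK LD1_c5 LD2_c45 LD3_c26)) :=
  Lre_g IH (LK LD1_c11 LD2_c21 LD3_c21) (LK LD1_c5 LD2_c45 LD3_c26) Lrfl Lrfl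
theorem f385511 : Led Lsl_gt (LP (LK LD1_c16 LD2_c56 LD3_c0)) = (LP (LK LD1_c11 LD2_c21 LD3_c21)) :=
  Lgr Lrot5 (Lpr_ft (f385447 IH) (Lpr_at (K30.f297052 IH) (Lpe (f168266 IH) (Lpn (LP (LK LD1_c11 LD2_c21 LD3_c21))))))
theorem f385513 : Led Lsl_ct (LP (LK LD1_c11 LD2_c21 LD3_c21)) = (LP (LK LD1_c20 LD2_c19 LD3_c3)) :=
  Lre_c IH (LK LD1_c11 LD2_c21 LD3_c21) (LK LD1_c20 LD2_c19 LD3_c3) Lrfl Lrfl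
theorem f181761 : Led Lsl_gt (LP (LK LD1_c4 LD2_c22 LD3_c54)) = (LP (LK LD1_c8 LD2_c43 LD3_c36)) :=
  Lre_g IH (LK LD1_c4 LD2_c22 LD3_c54) (LK LD1_c8 LD2_c43 LD3_c36) Lrfl Lrfl
theorem f236583 : Led Lsl_ct (LP (LK LD1_c8 LD2_c43 LD3_c36)) = (LP (LK LD1_c16 LD2_c20 LD3_c36)) :=
  Lre_c IH (LK LD1_c8 LD2_c43 LD3_c36) (LK LD1_c16 LD2_c20 LD3_c36) Lrfl Lrfl
theorem f552685 : Led Lsl_dt (LP (LK LD1_c20 LD2_c19 LD3_c3)) = (LP (LK LD1_c16 LD2_c20 LD3_c36)) :=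
  Lgr Lrot27 (Lpe (f385513 IH) (Lpe (f385511 IH) (Lpr_cf (f385467 IH) (Lpe (f385497 IH) (Lpr_df (f552679 IH) (Lpr_gt (f181748 IH) (Lpr_ct (K16.f181747 IH) (Lpr_gt (f181761 IH) (Lpr_ct (f236583 IH) (Lpn (LP (LK LD1_c16 LD2_c20 LD3_c36))))))))))))
theorem f411667 : Led Lsl_gt (LP (LK LD1_c20 LD2_c10 LD3_c39)) = (LP (LK LD1_c11 LD2_c15 LD3_c30)) :=
  Lre_g IH (LK LD1_c20 LD2_c10 LD3_c39) (LK LD1_c11 LD2_c15 LD3_c30) Lrfl Lrfl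
theorem f411707 : Led Lsl_dt (LP (LK LD1_c20 LD2_c10 LD3_c39)) = (LP (LK LD1_c29 LD2_c20 LD3_c24)) :=
  Lre_d IH (LK LD1_c20 LD2_c10 LD3_c39) (LK LD1_c29 LD2_c20 LD3_c24) Lrfl Lrfl
theorem f385398 : Led Lsl_ct (LP (LK LD1_c20 LD2_c19 LD3_c3)) = (LP (LK LD1_c11 LD2_c21 LD3_c21)) :=
  Lre_c IH (LK LD1_c20 LD2_c19 LD3_c3) (LK LD1_c11 LD2_c21 LD3_c21) Lrfl Lrfl
theorem f411708 : Led Lsl_gt (LP (LK LD1_c29 LD2_c20 LD3_c24)) = (LP (LK LD1_c20 LD2_c19 LD3_c3)) :=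
  Lgr Lrot9 (Lpe (f411707 IH) (Lpr_gt (f411667 IH) (Lpr_ct (K31.f411666 IH) (Lpr_gt (K31.f411699 IH) (Lpr_ct (K30.f297108 IH) (Lpr_df (K30.f385394 IH) (Lpe (K30.f168261 IH) (Lpe (f168266 IH) (Lpe (f385398 IH) (Lpn (LP (LK LD1_c20 LD2_c19 LD3_c3))))))))))))
theorem f172852 : Led Lsl_ct (LP (LK LD1_c5 LD2_c42 LD3_c40)) = (LP (LK LD1_c11 LD2_c15 LD3_c30)) :=
  Lre_c IH (LK LD1_c5 LD2_c42 LD3_c40) (LK LD1_c11 LD2_c15 LD3_c30) Lrfl Lrfl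
theorem f424073 : Led Lsl_ff (LP (LK LD1_c16 LD2_c19 LD3_c29)) = (LP (LK LD1_c11 LD2_c15 LD3_c30)) :=
  Lgr Lrot23 (Lpr_ct (K31.f398481 IH) (Lpr_ft (K31.f424071 IH) (Lpr_ct (f172852 IH) (Lpn (LP (LK LD1_c11 LD2_c15 LD3_c30))))))
theorem f423786 : Led Lsl_at (LP (LK LD1_c16 LD2_c19 LD3_c29)) = (LP (LK LD1_c11 LD2_c15 LD3_c32)) :=
  Lgr Lrot100 (Lpr_af (K31.f423773 IH) (Lpn (LP (LK LD1_c11 LD2_c15 LD3_c32))))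
theorem f423839 : Led Lsl_ff (LP (LK LD1_c16 LD2_c19 LD3_c31)) = (LP (LK LD1_c11 LD2_c15 LD3_c32)) :=
  Lgr Lrot23 (Lpr_ct (K31.f385877 IH) (Lpr_ft (K31.f423837 IH) (Lpr_ct (K31.f280498 IH) (Lpn (LP (LK LD1_c11 LD2_c15 LD3_c32))))))
theorem f424226 : Led Lsl_at (LP (LK LD1_c16 LD2_c19 LD3_c31)) = (LP (LK LD1_c11 LD2_c15 LD3_c30)) :=
  Lgr Lrot66 (Lpr_ff (f423839 IH) (Lpe (f423786 IH) (Lpr_ff (f424073 IH) (Lpn (LP (LK LD1_c11 LD2_c15 LD3_c30))))))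
theorem f424309 : Led Lsl_gt (LP (LK LD1_c11 LD2_c15 LD3_c32)) = (LP (LK LD1_c20 LD2_c10 LD3_c39)) :=
  Lgr Lrot5 (Lpe (f423839 IH) (Lpr_at (f424226 IH) (Lpe (f411667 IH) (Lpn (LP (LK LD1_c20 LD2_c10 LD3_c39))))))
theorem f552690 : Led Lsl_dt (LP (LK LD1_c4 LD2_c56 LD3_c51)) = (LP (LK LD1_c8 LD2_c43 LD3_c36)) :=
  Lgr Lrot105 (Lpe (K38.f168200 IH) (Lpe (K36.f168256 IH) (Lpe (K36.f423859 IH) (Lpe (K31.f280500 IH) (Lpr_gt (f424309 IH) (Lpr_dt (f411707 IH) (Lpr_gt (f411708 IH) (Lpr_dt (f552685 IH) (Lpe (f236583 IH) (Lpn (LP (LK LD1_c8 LD2_c43 LD3_c36))))))))))))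
theorem f547695 : Led Lsl_et (LP (LK LD1_c4 LD2_c56 LD3_c51)) = (LP (LK LD1_c4 LD2_c24 LD3_c14)) :=
  Lgr Lrot87 (Lpr_ef (K38.f547689 IH) (Lpn (LP (LK LD1_c4 LD2_c24 LD3_c14))))
theorem f127340 : Led Lsl_df (LP (LK LD1_c3 LD2_c14 LD3_c52)) = (LP (LK LD1_c3 LD2_c44 LD3_c55)) :=
  Lgr Lrot38 (Lpr_dt (K5.f127327 IH) (Lpn (LP (LK LD1_c3 LD2_c44 LD3_c55))))
theorem f89718 : Led Lsl_gt (LP (LK LD1_c3 LD2_c33 LD3_c21)) = (LP (LK LD1_c7 LD2_c7 LD3_c35)) :=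
  Lre_g IH (LK LD1_c3 LD2_c33 LD3_c21) (LK LD1_c7 LD2_c7 LD3_c35) Lrfl Lrfl
theorem f127354 : Led Lsl_df (LP (LK LD1_c3 LD2_c36 LD3_c3)) = (LP (LK LD1_c7 LD2_c7 LD3_c35)) :=
  Lgr Lrot183 (Lpr_ct (K8.f120457 IH) (Lpr_bt (K4.f120470 IH) (Lpe (K4.f120481 IH) (Lpe (f127340 IH) (Lpr_ct (K5.f127350 IH) (Lpr_bt (K2.f95542 IH) (Lpe (K3.f95733 IH) (Lpr_dt (K3.f17736 IH) (Lpe (K0.f17771 IH) (Lpr_bt (K0.f6102 IH) (Lpr_gt (K0.f6101 IH) (Lpr_dt (K0.f6100 IH) (Lpr_ct (K0.f6093 IH) (Lpr_bt (K3.f6013 IH) (Lpr_gt (K3.f6103 IH) (Lpr_dt (K3.f6104 IH) (Lpr_ct (K3.f98087 IH) (Lpr_bt (K8.f98091 IH) (Lpr_gt (f89718 IH) (Lpn (LP (LK LD1_c7 LD2_c7 LD3_c35))))))))))))))))))))))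
theorem f241629 : Led Lsl_ff (LP (LK LD1_c2 LD2_c47 LD3_c21)) = (LP (LK LD1_c4 LD2_c22 LD3_c54)) :=
  Lgr Lrot25 (Lpe (K36.f172750 IH) (Lpr_ft (K13.f241627 IH) (Lpr_bt (K16.f236582 IH) (Lpn (LP (LK LD1_c4 LD2_c22 LD3_c54))))))
theorem f172749 : Led Lsl_at (LP (LK LD1_c2 LD2_c47 LD3_c21)) = (LP (LK LD1_c5 LD2_c42 LD3_c34)) :=
  Lre_a IH (LK LD1_c2 LD2_c47 LD3_c21) (LK LD1_c5 LD2_c42 LD3_c34) Lrfl Lrfl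
theorem f418023 : Led Lsl_gf (LP (LK LD1_c5 LD2_c42 LD3_c34)) = (LP (LK LD1_c8 LD2_c43 LD3_c36)) :=
  Lgr Lrot76 (Lpe (f172749 IH) (Lpr_ff (f241629 IH) (Lpr_gt (f181761 IH) (Lpn (LP (LK LD1_c8 LD2_c43 LD3_c36))))))
theorem f552702 : Led Lsl_ef (LP (LK LD1_c3 LD2_c33 LD3_c21)) = (LP (LK LD1_c2 LD2_c47 LD3_c16)) :=
  Lgr Lrot167 (Lpr_gt (f89718 IH) (Lpe (f127354 IH) (Lpe (K4.f111493 IH) (Lpr_df (K36.f540257 IH) (Lpr_et (K36.f506303 IH) (Lpq (K36.f537797 IH) (Lpe (K5.f119045 IH) (Lpe (f547695 IH) (Lpr_dt (f552690 IH) (Lpe (f418023 IH) (Lpe (K16.f280381 IH) (Lpn (LP (LK LD1_c2 LD2_c47 LD3_c16))))))))))))))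
theorem f128229 : Led Lsl_ft (LP (LK LD1_c1 LD2_c45 LD3_c14)) = (LP (LK LD1_c1 LD2_c43 LD3_c26)) :=
  Lgr Lrot4 (Lpe (K3.f92516 IH) (Lpr_ff (K5.f128225 IH) (Lpr_cf (K3.f98081 IH) (Lpn (LP (LK LD1_c1 LD2_c43 LD3_c26))))))
theorem f440151 : Led Lsl_ff (LP (LK LD1_c3 LD2_c36 LD3_c46)) = (LP (LK LD1_c3 LD2_c33 LD3_c21)) :=
  Lgr Lrot25 (Lpr_bt (K38.f93083 IH) (Lpr_ft (f128229 IH) (Lpr_bt (K8.f98091 IH) (Lpn (LP (LK LD1_c3 LD2_c33 LD3_c21))))))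
theorem f549575 : Led Lsl_ef (LP (LK LD1_c4 LD2_c22 LD3_c53)) = (LP (LK LD1_c2 LD2_c13 LD3_c26)) :=
  Lgr Lrot17 (Lpe (K31.f281973 IH) (Lpqs (K38.f547554 IH) (Lpe (K38.f500558 IH) (Lpr_dt (K6.f81823 IH) (Lpr_gf (K11.f161625 IH) (Lpe (K8.f69196 IH) (Lpe (K4.f69211 IH) (Lpe (K38.f117609 IH) (Lpr_dt (K38.f117634 IH) (Lpr_gf (K38.f549564 IH) (Lpe (K38.f549571 IH) (Lpn (LP (LK LD1_c2 LD2_c13 LD3_c26))))))))))))))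
theorem f552708 : Led Lsl_ft (LP (LK LD1_c4 LD2_c32 LD3_c57)) = (LP (LK LD1_c2 LD2_c13 LD3_c26)) :=
  Lre_f IH (LK LD1_c4 LD2_c32 LD3_c57) (LK LD1_c2 LD2_c13 LD3_c26) Lrfl Lrfl
theorem f552709 : Led Lsl_et (LP (LK LD1_c3 LD2_c36 LD3_c46)) = (LP (LK LD1_c4 LD2_c32 LD3_c57)) :=
  Lgr Lrot69 (Lpr_ff (f440151 IH) (Lpr_ef (f552702 IH) (Lpr_ff (K30.f280477 IH) (Lpr_ef (f549575 IH) (Lpe (f552708 IH) (Lpn (LP (LK LD1_c4 LD2_c32 LD3_c57))))))))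
theorem f17395 : Led Lsl_dt (LP (LK LD1_c7 LD2_c13 LD3_c47)) = (LP (LK LD1_c3 LD2_c36 LD3_c47)) :=
  Lre_d IH (LK LD1_c7 LD2_c13 LD3_c47) (LK LD1_c3 LD2_c36 LD3_c47) Lrfl Lrfl
theorem f552726 : Led Lsl_dt (LP (LK LD1_c4 LD2_c32 LD3_c57)) = (LP (LK LD1_c9 LD2_c3 LD3_c7)) :=
  Lre_d IH (LK LD1_c4 LD2_c32 LD3_c57) (LK LD1_c9 LD2_c3 LD3_c7) Lrfl Lrfl
theorem f552727 : Led Lsl_ef (LP (LK LD1_c7 LD2_c13 LD3_c47)) = (LP (LK LD1_c9 LD2_c3 LD3_c7)) :=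
  Lgr Lrot73 (Lpr_dt (f17395 IH) (Lpr_et (K3.f17385 IH) (Lpr_dt (K37.f93069 IH) (Lpr_et (f552709 IH) (Lpr_dt (f552726 IH) (Lpn (LP (LK LD1_c9 LD2_c3 LD3_c7))))))))
theorem f552734 : Led Lsl_et (LP (LK LD1_c7 LD2_c13 LD3_c47)) = (LP (LK LD1_c9 LD2_c3 LD3_c7)) :=
  Lgr Lrot87 (Lpr_ef (f552727 IH) (Lpn (LP (LK LD1_c9 LD2_c3 LD3_c7))))
theorem f160439 : Led Lsl_bt (LP (LK LD1_c3 LD2_c36 LD3_c51)) = (LP (LK LD1_c7 LD2_c13 LD3_c47)) :=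
  Lre_b IH (LK LD1_c3 LD2_c36 LD3_c51) (LK LD1_c7 LD2_c13 LD3_c47) Lrfl Lrfl
theorem f552738 : Led Lsl_bf (LP (LK LD1_c7 LD2_c13 LD3_c50)) = (LP (LK LD1_c9 LD2_c3 LD3_c7)) :=
  Lgr Lrot96 (Lpr_et (K8.f160235 IH) (Lpr_bt (f160439 IH) (Lpr_et (f552734 IH) (Lpn (LP (LK LD1_c9 LD2_c3 LD3_c7))))))
theorem f549574 : Led Lsl_bt (LP (LK LD1_c9 LD2_c3 LD3_c4)) = (LP (LK LD1_c4 LD2_c32 LD3_c56)) :=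
  Lre_b IH (LK LD1_c9 LD2_c3 LD3_c4) (LK LD1_c4 LD2_c32 LD3_c56) Lrfl Lrfl
theorem f552743 : Led Lsl_ft (LP (LK LD1_c7 LD2_c13 LD3_c50)) = (LP (LK LD1_c9 LD2_c3 LD3_c4)) :=
  Lgr Lrot75 (Lpr_bf (f552738 IH) (Lpe (K38.f549563 IH) (Lpe (f549574 IH) (Lpn (LP (LK LD1_c9 LD2_c3 LD3_c4))))))
theorem f552748 : Led Lsl_ff (LP (LK LD1_c7 LD2_c13 LD3_c50)) = (LP (LK LD1_c9 LD2_c3 LD3_c4)) :=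
  Lgr Lrot3 (Lpr_ft (f552743 IH) (Lpn (LP (LK LD1_c9 LD2_c3 LD3_c4))))
theorem f552751 : Led Lsl_dt (LP (LK LD1_c4 LD2_c32 LD3_c55)) = (LP (LK LD1_c9 LD2_c3 LD3_c4)) :=
  Lre_d IH (LK LD1_c4 LD2_c32 LD3_c55) (LK LD1_c9 LD2_c3 LD3_c4) Lrfl Lrfl
theorem f552752 : Led Lsl_ft (LP (LK LD1_c3 LD2_c36 LD3_c48)) = (LP (LK LD1_c4 LD2_c32 LD3_c55)) :=
  Lgr Lrot54 (Lpe (K8.f93097 IH) (Lpr_ff (f552748 IH) (Lpe (f552751 IH) (Lpn (LP (LK LD1_c4 LD2_c32 LD3_c55))))))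
theorem f93103 : Led Lsl_et (LP (LK LD1_c1 LD2_c45 LD3_c14)) = (LP (LK LD1_c3 LD2_c36 LD3_c48)) :=
  Lre_e IH (LK LD1_c1 LD2_c45 LD3_c14) (LK LD1_c3 LD2_c36 LD3_c48) Lrfl Lrfl
theorem f128221 : Led Lsl_ff (LP (LK LD1_c1 LD2_c45 LD3_c14)) = (LP (LK LD1_c1 LD2_c43 LD3_c26)) :=
  Lgr Lrot23 (Lpe (K3.f93079 IH) (Lpr_ft (K5.f128215 IH) (Lpr_ct (K3.f98087 IH) (Lpn (LP (LK LD1_c1 LD2_c43 LD3_c26))))))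
theorem f97383 : Led Lsl_et (LP (LK LD1_c3 LD2_c33 LD3_c23)) = (LP (LK LD1_c1 LD2_c43 LD3_c26)) :=
  Lre_e IH (LK LD1_c3 LD2_c33 LD3_c23) (LK LD1_c1 LD2_c43 LD3_c26) Lrfl Lrfl
theorem f98107 : Led Lsl_ft (LP (LK LD1_c7 LD2_c7 LD3_c41)) = (LP (LK LD1_c3 LD2_c33 LD3_c23)) :=
  Lre_f IH (LK LD1_c7 LD2_c7 LD3_c41) (LK LD1_c3 LD2_c33 LD3_c23) Lrfl Lrfl
theorem f552758 : Led Lsl_ef (LP (LK LD1_c7 LD2_c7 LD3_c41)) = (LP (LK LD1_c4 LD2_c32 LD3_c55)) :=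
  Lgr Lrot21 (Lpr_ft (f98107 IH) (Lpr_et (f97383 IH) (Lpe (f128221 IH) (Lpr_et (f93103 IH) (Lpr_ft (f552752 IH) (Lpn (LP (LK LD1_c4 LD2_c32 LD3_c55))))))))
theorem f552762 : Led Lsl_et (LP (LK LD1_c7 LD2_c7 LD3_c41)) = (LP (LK LD1_c4 LD2_c32 LD3_c55)) :=
  Lgr Lrot87 (Lpr_ef (f552758 IH) (Lpn (LP (LK LD1_c4 LD2_c32 LD3_c55))))
theorem f181557 : Led Lsl_bt (LP (LK LD1_c4 LD2_c32 LD3_c55)) = (LP (LK LD1_c2 LD2_c13 LD3_c26)) :=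
  Lre_b IH (LK LD1_c4 LD2_c32 LD3_c55) (LK LD1_c2 LD2_c13 LD3_c26) Lrfl Lrfl
theorem f552764 : Led Lsl_bf (LP (LK LD1_c7 LD2_c7 LD3_c41)) = (LP (LK LD1_c4 LD2_c22 LD3_c53)) :=
  Lgr Lrot96 (Lpr_et (f552762 IH) (Lpr_bt (f181557 IH) (Lpe (f549575 IH) (Lpn (LP (LK LD1_c4 LD2_c22 LD3_c53))))))
theorem f552775 : Led Lsl_gf (LP (LK LD1_c7 LD2_c7 LD3_c41)) = (LP (LK LD1_c4 LD2_c23 LD3_c2)) :=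
  Lgr Lrot124 (Lpr_bf (f552764 IH) (Lpr_ct (K16.f181735 IH) (Lpe (K31.f280524 IH) (Lpe (f172443 IH) (Lpe (K31.f172494 IH) (Lpr_gt (K31.f411681 IH) (Lpr_ct (K16.f268852 IH) (Lpe (K31.f280545 IH) (Lpe (K31.f181577 IH) (Lpr_bt (K31.f237325 IH) (Lpn (LP (LK LD1_c4 LD2_c23 LD3_c2)))))))))))))
theorem f519649 : Led Lsl_dt (LP (LK LD1_c7 LD2_c7 LD3_c41)) = (LP (LK LD1_c13 LD2_c30 LD3_c9)) :=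
  Lre_d IH (LK LD1_c7 LD2_c7 LD3_c41) (LK LD1_c13 LD2_c30 LD3_c9) Lrfl Lrfl
theorem f297372 : Led Lsl_gt (LP (LK LD1_c8 LD2_c43 LD3_c29)) = (LP (LK LD1_c16 LD2_c20 LD3_c23)) :=
  Lre_g IH (LK LD1_c8 LD2_c43 LD3_c29) (LK LD1_c16 LD2_c20 LD3_c23) Lrfl Lrfl
theorem f397358 : Led Lsl_af (LP (LK LD1_c19 LD2_c10 LD3_c39)) = (LP (LK LD1_c14 LD2_c58 LD3_c22)) :=
  Lgr Lrot45 (Lpr_ft (f397352 IH) (Lpr_at (K18.f237451 IH) (Lpe (K18.f297445 IH) (Lpn (LP (LK LD1_c14 LD2_c58 LD3_c22))))))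
theorem f397377 : Led Lsl_gf (LP (LK LD1_c19 LD2_c10 LD3_c39)) = (LP (LK LD1_c16 LD2_c20 LD3_c23)) :=
  Lgr Lrot76 (Lpr_af (f397358 IH) (Lpr_ff (K18.f297445 IH) (Lpr_gt (f297372 IH) (Lpn (LP (LK LD1_c16 LD2_c20 LD3_c23))))))
theorem f312984 : Led Lsl_at (LP (LK LD1_c19 LD2_c10 LD3_c38)) = (LP (LK LD1_c10 LD2_c35 LD3_c6)) :=
  Lre_a IH (LK LD1_c19 LD2_c10 LD3_c38) (LK LD1_c10 LD2_c35 LD3_c6) Lrfl Lrfl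
theorem f397379 : Led Lsl_ff (LP (LK LD1_c19 LD2_c10 LD3_c38)) = (LP (LK LD1_c16 LD2_c20 LD3_c23)) :=
  Lgr Lrot52 (Lpr_at (f312984 IH) (Lpe (f224728 IH) (Lpr_gf (f397377 IH) (Lpn (LP (LK LD1_c16 LD2_c20 LD3_c23))))))
theorem f397385 : Led Lsl_ft (LP (LK LD1_c19 LD2_c10 LD3_c38)) = (LP (LK LD1_c16 LD2_c20 LD3_c23)) :=
  Lgr Lrot48 (Lpr_ff (f397379 IH) (Lpn (LP (LK LD1_c16 LD2_c20 LD3_c23))))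
theorem f312910 : Led Lsl_dt (LP (LK LD1_c10 LD2_c35 LD3_c5)) = (LP (LK LD1_c19 LD2_c10 LD3_c38)) :=
  Lre_d IH (LK LD1_c10 LD2_c35 LD3_c5) (LK LD1_c19 LD2_c10 LD3_c38) Lrfl Lrfl
theorem f397390 : Led Lsl_df (LP (LK LD1_c10 LD2_c37 LD3_c37)) = (LP (LK LD1_c16 LD2_c20 LD3_c23)) :=
  Lgr Lrot78 (Lpe (K38.f312905 IH) (Lpr_dt (f312910 IH) (Lpr_ft (f397385 IH) (Lpn (LP (LK LD1_c16 LD2_c20 LD3_c23))))))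
theorem f552781 : Led Lsl_cf (LP (LK LD1_c13 LD2_c30 LD3_c9)) = (LP (LK LD1_c17 LD2_c52 LD3_c6)) :=
  Lgr Lrot14 (Lpe (f519649 IH) (Lpr_gf (f552775 IH) (Lpe (K31.f406927 IH) (Lpe (K31.f225111 IH) (Lpr_ct (K18.f225002 IH) (Lpr_gt (f297372 IH) (Lpe (f397390 IH) (Lpe (K38.f312913 IH) (Lpe (K38.f549978 IH) (Lpn (LP (LK LD1_c17 LD2_c52 LD3_c6))))))))))))
theorem f388749 : Led Lsl_dt (LP (LK LD1_c2 LD2_c9 LD3_c3)) = (LP (LK LD1_c4 LD2_c23 LD3_c14)) :=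
  Lre_d IH (LK LD1_c2 LD2_c9 LD3_c3) (LK LD1_c4 LD2_c23 LD3_c14) Lrfl Lrfl
theorem f388750 : Led Lsl_dt (LP (LK LD1_c4 LD2_c23 LD3_c4)) = (LP (LK LD1_c2 LD2_c8 LD3_c58)) :=
  Lre_d IH (LK LD1_c4 LD2_c23 LD3_c4) (LK LD1_c2 LD2_c8 LD3_c58) Lrfl Lrfl
theorem f241611 : Led Lsl_ff (LP (LK LD1_c7 LD2_c56 LD3_c18)) = (LP (LK LD1_c4 LD2_c23 LD3_c4)) :=
  Lgr Lrot25 (Lpr_bt (K16.f238824 IH) (Lpr_ft (K13.f241609 IH) (Lpr_bt (K16.f237626 IH) (Lpn (LP (LK LD1_c4 LD2_c23 LD3_c4))))))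
theorem f552788 : Led Lsl_af (LP (LK LD1_c13 LD2_c30 LD3_c9)) = (LP (LK LD1_c7 LD2_c56 LD3_c18)) :=
  Lgr Lrot109 (Lpr_cf (f552781 IH) (Lpr_df (K38.f549978 IH) (Lpr_cf (K31.f388741 IH) (Lpe (K38.f388748 IH) (Lpe (K38.f237286 IH) (Lpe (f388749 IH) (Lpr_cf (K31.f237311 IH) (Lpe (f388750 IH) (Lpe (f241611 IH) (Lpn (LP (LK LD1_c7 LD2_c56 LD3_c18))))))))))))
theorem f552792 : Led Lsl_gf (LP (LK LD1_c13 LD2_c30 LD3_c9)) = (LP (LK LD1_c8 LD2_c43 LD3_c54)) :=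
  Lgr Lrot76 (Lpr_af (f552788 IH) (Lpr_ff (f241611 IH) (Lpr_gt (K38.f237627 IH) (Lpn (LP (LK LD1_c8 LD2_c43 LD3_c54))))))
theorem f552796 : Led Lsl_bf (LP (LK LD1_c13 LD2_c30 LD3_c9)) = (LP (LK LD1_c8 LD2_c43 LD3_c35)) :=
  Lgr Lrot34 (Lpr_gf (f552792 IH) (Lpe (K38.f549933 IH) (Lpr_ct (K38.f549912 IH) (Lpr_gf (K38.f281768 IH) (Lpe (K38.f269011 IH) (Lpe (K38.f269026 IH) (Lpe (K38.f181685 IH) (Lpe (K38.f269648 IH) (Lpr_gf (K38.f281997 IH) (Lpe (K16.f181773 IH) (Lpn (LP (LK LD1_c8 LD2_c43 LD3_c35)))))))))))))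
theorem f463818 : Led Lsl_ft (LP (LK LD1_c13 LD2_c30 LD3_c9)) = (LP (LK LD1_c7 LD2_c7 LD3_c40)) :=
  Lre_f IH (LK LD1_c13 LD2_c30 LD3_c9) (LK LD1_c7 LD2_c7 LD3_c40) Lrfl Lrfl
theorem f552798 : Led Lsl_bt (LP (LK LD1_c7 LD2_c7 LD3_c40)) = (LP (LK LD1_c5 LD2_c42 LD3_c34)) :=
  Lgr Lrot35 (Lpe (f463818 IH) (Lpr_bf (f552796 IH) (Lpe (K30.f280474 IH) (Lpn (LP (LK LD1_c5 LD2_c42 LD3_c34))))))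
theorem f440161 : Led Lsl_et (LP (LK LD1_c3 LD2_c33 LD3_c25)) = (LP (LK LD1_c7 LD2_c7 LD3_c40)) :=
  Lre_e IH (LK LD1_c3 LD2_c33 LD3_c25) (LK LD1_c7 LD2_c7 LD3_c40) Lrfl Lrfl
theorem f440175 : Led Lsl_bt (LP (LK LD1_c7 LD2_c7 LD3_c37)) = (LP (LK LD1_c3 LD2_c33 LD3_c25)) :=
  Lre_b IH (LK LD1_c7 LD2_c7 LD3_c37) (LK LD1_c3 LD2_c33 LD3_c25) Lrfl Lrfl
theorem f552806 : Led Lsl_ef (LP (LK LD1_c7 LD2_c7 LD3_c37)) = (LP (LK LD1_c5 LD2_c42 LD3_c34)) :=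
  Lgr Lrot29 (Lpr_bt (f440175 IH) (Lpr_et (f440161 IH) (Lpr_bt (f552798 IH) (Lpn (LP (LK LD1_c5 LD2_c42 LD3_c34))))))
theorem f552810 : Led Lsl_et (LP (LK LD1_c13 LD2_c30 LD3_c5)) = (LP (LK LD1_c11 LD2_c15 LD3_c19)) :=
  Lgr Lrot158 (Lpe (K29.f460342 IH) (Lpr_ef (f552806 IH) (Lpe (K31.f280468 IH) (Lpn (LP (LK LD1_c11 LD2_c15 LD3_c19))))))
theorem f552817 : Led Lsl_ef (LP (LK LD1_c13 LD2_c30 LD3_c5)) = (LP (LK LD1_c11 LD2_c15 LD3_c19)) :=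
  Lgr Lrot88 (Lpr_et (f552810 IH) (Lpn (LP (LK LD1_c11 LD2_c15 LD3_c19))))
theorem f280265 : Led Lsl_et (LP (LK LD1_c11 LD2_c15 LD3_c43)) = (LP (LK LD1_c5 LD2_c42 LD3_c44)) :=
  Lre_e IH (LK LD1_c11 LD2_c15 LD3_c43) (LK LD1_c5 LD2_c42 LD3_c44) Lrfl Lrfl
theorem f552823 : Led Lsl_at (LP (LK LD1_c13 LD2_c30 LD3_c5)) = (LP (LK LD1_c11 LD2_c15 LD3_c43)) :=
  Lgr Lrot80 (Lpr_ef (f552817 IH) (Lpe (f280379 IH) (Lpe (f280265 IH) (Lpn (LP (LK LD1_c11 LD2_c15 LD3_c43))))))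
theorem f552831 : Led Lsl_dt (LP (LK LD1_c11 LD2_c15 LD3_c43)) = (LP (LK LD1_c20 LD2_c11 LD3_c14)) :=
  Lre_d IH (LK LD1_c11 LD2_c15 LD3_c43) (LK LD1_c20 LD2_c11 LD3_c14) Lrfl Lrfl
theorem f552832 : Led Lsl_af (LP (LK LD1_c22 LD2_c50 LD3_c60)) = (LP (LK LD1_c20 LD2_c11 LD3_c14)) :=
  Lgr Lrot117 (Lpr_dt (K29.f460322 IH) (Lpr_at (f552823 IH) (Lpr_dt (f552831 IH) (Lpn (LP (LK LD1_c20 LD2_c11 LD3_c14))))))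
theorem f460328 : Led Lsl_at (LP (LK LD1_c30 LD2_c45 LD3_c31)) = (LP (LK LD1_c24 LD2_c26 LD3_c12)) :=
  Lgr Lrot51 (Lpr_df (K29.f460324 IH) (Lpe (K29.f460326 IH) (Lpe (K35.f460327 IH) (Lpn (LP (LK LD1_c24 LD2_c26 LD3_c12))))))
theorem f552837 : Led Lsl_ct (LP (LK LD1_c24 LD2_c26 LD3_c12)) = (LP (LK LD1_c20 LD2_c11 LD3_c14)) :=
  Lgr Lrot111 (Lpe (f460328 IH) (Lpe (K29.f460336 IH) (Lpr_af (f552832 IH) (Lpn (LP (LK LD1_c20 LD2_c11 LD3_c14))))))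
theorem f460309 : Led Lsl_ct (LP (LK LD1_c24 LD2_c26 LD3_c6)) = (LP (LK LD1_c14 LD2_c41 LD3_c30)) :=
  Lre_c IH (LK LD1_c24 LD2_c26 LD3_c6) (LK LD1_c14 LD2_c41 LD3_c30) Lrfl Lrfl
theorem f460460 : Led Lsl_cf (LP (LK LD1_c24 LD2_c16 LD3_c48)) = (LP (LK LD1_c22 LD2_c50 LD3_c45)) :=
  Lgr Lrot108 (Lpr_ft (K29.f460448 IH) (Lpr_ct (f460309 IH) (Lpe (K29.f460366 IH) (Lpn (LP (LK LD1_c22 LD2_c50 LD3_c45))))))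
theorem f172778 : Led Lsl_dt (LP (LK LD1_c20 LD2_c11 LD3_c14)) = (LP (LK LD1_c11 LD2_c15 LD3_c43)) :=
  Lre_d IH (LK LD1_c20 LD2_c11 LD3_c14) (LK LD1_c11 LD2_c15 LD3_c43) Lrfl Lrfl
theorem f172770 : Led Lsl_ct (LP (LK LD1_c11 LD2_c15 LD3_c43)) = (LP (LK LD1_c5 LD2_c42 LD3_c45)) :=
  Lre_c IH (LK LD1_c11 LD2_c15 LD3_c43) (LK LD1_c5 LD2_c42 LD3_c45) Lrfl Lrfl
theorem f552848 : Led Lsl_df (LP (LK LD1_c7 LD2_c7 LD3_c34)) = (LP (LK LD1_c5 LD2_c42 LD3_c45)) :=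
  Lgr Lrot13 (Lpr_ct (K29.f160483 IH) (Lpr_dt (K29.f104071 IH) (Lpe (f460460 IH) (Lpr_af (K35.f460458 IH) (Lpr_ff (K35.f460347 IH) (Lpr_dt (K29.f460300 IH) (Lpr_ct (f552837 IH) (Lpr_dt (f172778 IH) (Lpr_ct (f172770 IH) (Lpn (LP (LK LD1_c5 LD2_c42 LD3_c45))))))))))))
theorem f172773 : Led Lsl_ft (LP (LK LD1_c11 LD2_c15 LD3_c46)) = (LP (LK LD1_c5 LD2_c42 LD3_c45)) :=
  Lre_f IH (LK LD1_c11 LD2_c15 LD3_c46) (LK LD1_c5 LD2_c42 LD3_c45) Lrfl Lrfl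
theorem f552859 : Led Lsl_dt (LP (LK LD1_c13 LD2_c14 LD3_c23)) = (LP (LK LD1_c11 LD2_c15 LD3_c46)) :=
  Lgr Lrot60 (Lpr_ff (K28.f463798 IH) (Lpr_df (f552848 IH) (Lpe (f172773 IH) (Lpn (LP (LK LD1_c11 LD2_c15 LD3_c46))))))
theorem f552871 : Led Lsl_df (LP (LK LD1_c13 LD2_c14 LD3_c23)) = (LP (LK LD1_c11 LD2_c15 LD3_c46)) :=
  Lgr Lrot38 (Lpr_dt (f552859 IH) (Lpn (LP (LK LD1_c11 LD2_c15 LD3_c46))))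
theorem f172758 : Led Lsl_et (LP (LK LD1_c4 LD2_c56 LD3_c60)) = (LP (LK LD1_c2 LD2_c26 LD3_c24)) :=
  Lre_e IH (LK LD1_c4 LD2_c56 LD3_c60) (LK LD1_c2 LD2_c26 LD3_c24) Lrfl Lrfl
theorem f172759 : Led Lsl_et (LP (LK LD1_c2 LD2_c47 LD3_c21)) = (LP (LK LD1_c5 LD2_c42 LD3_c45)) :=
  Lre_e IH (LK LD1_c2 LD2_c47 LD3_c21) (LK LD1_c5 LD2_c42 LD3_c45) Lrfl Lrfl
theorem f172760 : Led Lsl_bf (LP (LK LD1_c4 LD2_c56 LD3_c60)) = (LP (LK LD1_c5 LD2_c42 LD3_c45)) :=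
  Lgr Lrot96 (Lpr_et (f172758 IH) (Lpr_bt (K16.f172743 IH) (Lpr_et (f172759 IH) (Lpn (LP (LK LD1_c5 LD2_c42 LD3_c45))))))
theorem f172774 : Led Lsl_bt (LP (LK LD1_c9 LD2_c45 LD3_c9)) = (LP (LK LD1_c11 LD2_c15 LD3_c46)) :=
  Lgr Lrot35 (Lpe (K13.f172772 IH) (Lpr_bf (f172760 IH) (Lpe (f172773 IH) (Lpn (LP (LK LD1_c11 LD2_c15 LD3_c46))))))
theorem f552875 : Led Lsl_dt (LP (LK LD1_c13 LD2_c13 LD3_c58)) = (LP (LK LD1_c9 LD2_c45 LD3_c9)) :=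
  Lgr Lrot79 (Lpe (K28.f464972 IH) (Lpr_df (f552871 IH) (Lpe (f172774 IH) (Lpn (LP (LK LD1_c9 LD2_c45 LD3_c9))))))
theorem f160509 : Led Lsl_gt (LP (LK LD1_c7 LD2_c13 LD3_c34)) = (LP (LK LD1_c3 LD2_c36 LD3_c38)) :=
  Lre_g IH (LK LD1_c7 LD2_c13 LD3_c34) (LK LD1_c3 LD2_c36 LD3_c38) Lrfl Lrfl
theorem f464983 : Led Lsl_gf (LP (LK LD1_c7 LD2_c13 LD3_c34)) = (LP (LK LD1_c13 LD2_c13 LD3_c58)) :=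
  Lgr Lrot47 (Lpr_gt (f160509 IH) (Lpe (K29.f160480 IH) (Lpr_ff (K28.f464976 IH) (Lpn (LP (LK LD1_c13 LD2_c13 LD3_c58))))))
theorem f462933 : Led Lsl_ct (LP (LK LD1_c7 LD2_c13 LD3_c34)) = (LP (LK LD1_c13 LD2_c40 LD3_c40)) :=
  Lre_c IH (LK LD1_c7 LD2_c13 LD3_c34) (LK LD1_c13 LD2_c40 LD3_c40) Lrfl Lrfl
theorem f159985 : Led Lsl_bt (LP (LK LD1_c3 LD2_c54 LD3_c11)) = (LP (LK LD1_c1 LD2_c53 LD3_c43)) :=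
  Lre_b IH (LK LD1_c3 LD2_c54 LD3_c11) (LK LD1_c1 LD2_c53 LD3_c43) Lrfl Lrfl
theorem f160511 : Led Lsl_ct (LP (LK LD1_c13 LD2_c40 LD3_c40)) = (LP (LK LD1_c7 LD2_c13 LD3_c34)) :=
  Lre_c IH (LK LD1_c13 LD2_c40 LD3_c40) (LK LD1_c7 LD2_c13 LD3_c34) Lrfl Lrfl
theorem f462870 : Led Lsl_bf (LP (LK LD1_c7 LD2_c53 LD3_c56)) = (LP (LK LD1_c13 LD2_c40 LD3_c40)) :=
  Lgr Lrot34 (Lpe (K28.f452022 IH) (Lpe (K28.f452016 IH) (Lpr_ct (K28.f452015 IH) (Lpe (K24.f11356 IH) (Lpe (K28.f11203 IH) (Lpr_gf (K28.f462866 IH) (Lpe (f159985 IH) (Lpr_ct (K28.f159805 IH) (Lpe (f160509 IH) (Lpe (f160511 IH) (Lpn (LP (LK LD1_c13 LD2_c40 LD3_c40)))))))))))))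
theorem f462931 : Led Lsl_bt (LP (LK LD1_c7 LD2_c53 LD3_c56)) = (LP (LK LD1_c13 LD2_c40 LD3_c40)) :=
  Lgr Lrot127 (Lpr_bf (f462870 IH) (Lpn (LP (LK LD1_c13 LD2_c40 LD3_c40))))
theorem f471158 : Led Lsl_gf (LP (LK LD1_c13 LD2_c40 LD3_c40)) = (LP (LK LD1_c7 LD2_c20 LD3_c28)) :=
  Lgr Lrot124 (Lpe (f462931 IH) (Lpr_ct (K28.f470358 IH) (Lpr_gt (K28.f11760 IH) (Lpe (K8.f11715 IH) (Lpr_bt (K28.f11657 IH) (Lpe (K28.f470369 IH) (Lpr_ct (K29.f451274 IH) (Lpq (K29.f470839 IH) (Lpe (K29.f459402 IH) (Lpe (K28.f12384 IH) (Lpr_bt (K29.f12388 IH) (Lpn (LP (LK LD1_c7 LD2_c20 LD3_c28))))))))))))))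
theorem f159504 : Led Lsl_ft (LP (LK LD1_c7 LD2_c20 LD3_c28)) = (LP (LK LD1_c3 LD2_c40 LD3_c9)) :=
  Lre_f IH (LK LD1_c7 LD2_c20 LD3_c28) (LK LD1_c3 LD2_c40 LD3_c9) Lrfl Lrfl
theorem f471160 : Led Lsl_gt (LP (LK LD1_c13 LD2_c40 LD3_c40)) = (LP (LK LD1_c7 LD2_c20 LD3_c23)) :=
  Lgr Lrot46 (Lpr_gf (f471158 IH) (Lpr_ft (f159504 IH) (Lpr_at (K34.f203918 IH) (Lpn (LP (LK LD1_c7 LD2_c20 LD3_c23))))))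
theorem f181328 : Led Lsl_et (LP (LK LD1_c3 LD2_c57 LD3_c26)) = (LP (LK LD1_c7 LD2_c56 LD3_c22)) :=
  Lre_e IH (LK LD1_c3 LD2_c57 LD3_c26) (LK LD1_c7 LD2_c56 LD3_c22) Lrfl Lrfl
theorem f547052 : Led Lsl_df (LP (LK LD1_c7 LD2_c14 LD3_c19)) = (LP (LK LD1_c7 LD2_c56 LD3_c22)) :=
  Lgr Lrot70 (Lpr_et (K29.f425470 IH) (Lpr_dt (K38.f547048 IH) (Lpr_et (K38.f181331 IH) (Lpr_dt (K13.f181316 IH) (Lpr_et (f181328 IH) (Lpn (LP (LK LD1_c7 LD2_c56 LD3_c22))))))))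
theorem f237288 : Led Lsl_et (LP (LK LD1_c4 LD2_c23 LD3_c15)) = (LP (LK LD1_c2 LD2_c9 LD3_c4)) :=
  Lre_e IH (LK LD1_c4 LD2_c23 LD3_c15) (LK LD1_c2 LD2_c9 LD3_c4) Lrfl Lrfl
theorem f270067 : Led Lsl_af (LP (LK LD1_c4 LD2_c23 LD3_c15)) = (LP (LK LD1_c7 LD2_c56 LD3_c22)) :=
  Lgr Lrot50 (Lpr_et (f237288 IH) (Lpr_at (K16.f270061 IH) (Lpr_et (f181328 IH) (Lpn (LP (LK LD1_c7 LD2_c56 LD3_c22))))))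
theorem f270058 : Led Lsl_ft (LP (LK LD1_c4 LD2_c23 LD3_c15)) = (LP (LK LD1_c8 LD2_c44 LD3_c14)) :=
  Lre_f IH (LK LD1_c4 LD2_c23 LD3_c15) (LK LD1_c8 LD2_c44 LD3_c14) Lrfl Lrfl
theorem f181389 : Led Lsl_ft (LP (LK LD1_c14 LD2_c58 LD3_c40)) = (LP (LK LD1_c7 LD2_c56 LD3_c22)) :=
  Lre_f IH (LK LD1_c14 LD2_c58 LD3_c40) (LK LD1_c7 LD2_c56 LD3_c22) Lrfl Lrfl
theorem f411502 : Led Lsl_at (LP (LK LD1_c8 LD2_c44 LD3_c14)) = (LP (LK LD1_c14 LD2_c58 LD3_c40)) :=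
  Lgr Lrot66 (Lpe (f270058 IH) (Lpr_af (f270067 IH) (Lpe (f181389 IH) (Lpn (LP (LK LD1_c14 LD2_c58 LD3_c40))))))
theorem f411509 : Led Lsl_af (LP (LK LD1_c8 LD2_c44 LD3_c14)) = (LP (LK LD1_c14 LD2_c58 LD3_c40)) :=
  Lgr Lrot0 (Lpr_at (f411502 IH) (Lpn (LP (LK LD1_c14 LD2_c58 LD3_c40))))
theorem f59304 : Led Lsl_ft (LP (LK LD1_c14 LD2_c58 LD3_c37)) = (LP (LK LD1_c7 LD2_c56 LD3_c21)) :=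
  Lre_f IH (LK LD1_c14 LD2_c58 LD3_c37) (LK LD1_c7 LD2_c56 LD3_c21) Lrfl Lrfl
theorem f270059 : Led Lsl_et (LP (LK LD1_c8 LD2_c44 LD3_c14)) = (LP (LK LD1_c14 LD2_c58 LD3_c37)) :=
  Lgr Lrot69 (Lpe (f270058 IH) (Lpe (K37.f237295 IH) (Lpr_ff (K16.f270052 IH) (Lpe (K16.f59278 IH) (Lpe (f59304 IH) (Lpn (LP (LK LD1_c14 LD2_c58 LD3_c37))))))))
theorem f181639 : Led Lsl_ft (LP (LK LD1_c4 LD2_c23 LD3_c9)) = (LP (LK LD1_c8 LD2_c44 LD3_c3)) :=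
  Lre_f IH (LK LD1_c4 LD2_c23 LD3_c9) (LK LD1_c8 LD2_c44 LD3_c3) Lrfl Lrfl
theorem f270081 : Led Lsl_af (LP (LK LD1_c14 LD2_c58 LD3_c37)) = (LP (LK LD1_c8 LD2_c44 LD3_c3)) :=
  Lgr Lrot45 (Lpr_ft (f59304 IH) (Lpr_at (K16.f270075 IH) (Lpr_ft (f181639 IH) (Lpn (LP (LK LD1_c8 LD2_c44 LD3_c3))))))
theorem f270085 : Led Lsl_at (LP (LK LD1_c14 LD2_c58 LD3_c37)) = (LP (LK LD1_c8 LD2_c44 LD3_c3)) :=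
  Lgr Lrot100 (Lpr_af (f270081 IH) (Lpn (LP (LK LD1_c8 LD2_c44 LD3_c3))))
theorem f411514 : Led Lsl_et (LP (LK LD1_c8 LD2_c44 LD3_c3)) = (LP (LK LD1_c14 LD2_c58 LD3_c40)) :=
  Lgr Lrot123 (Lpe (f270085 IH) (Lpe (f270059 IH) (Lpr_af (f411509 IH) (Lpn (LP (LK LD1_c14 LD2_c58 LD3_c40))))))
theorem f411521 : Led Lsl_ef (LP (LK LD1_c8 LD2_c44 LD3_c3)) = (LP (LK LD1_c14 LD2_c58 LD3_c40)) :=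
  Lgr Lrot88 (Lpr_et (f411514 IH) (Lpn (LP (LK LD1_c14 LD2_c58 LD3_c40))))
theorem f229863 : Led Lsl_ct (LP (LK LD1_c7 LD2_c56 LD3_c21)) = (LP (LK LD1_c9 LD2_c38 LD3_c13)) :=
  Lgr Lrot15 (Lpe (K16.f59303 IH) (Lpr_cf (K13.f229714 IH) (Lpe (K16.f229862 IH) (Lpn (LP (LK LD1_c9 LD2_c38 LD3_c13))))))
theorem f229872 : Led Lsl_ft (LP (LK LD1_c9 LD2_c38 LD3_c13)) = (LP (LK LD1_c17 LD2_c44 LD3_c10)) :=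
  Lre_f IH (LK LD1_c9 LD2_c38 LD3_c13) (LK LD1_c17 LD2_c44 LD3_c10) Lrfl Lrfl
theorem f229873 : Led Lsl_cf (LP (LK LD1_c14 LD2_c58 LD3_c37)) = (LP (LK LD1_c17 LD2_c44 LD3_c10)) :=
  Lgr Lrot108 (Lpr_ft (f59304 IH) (Lpr_ct (f229863 IH) (Lpr_ft (f229872 IH) (Lpn (LP (LK LD1_c17 LD2_c44 LD3_c10))))))
theorem f229876 : Led Lsl_ct (LP (LK LD1_c14 LD2_c58 LD3_c37)) = (LP (LK LD1_c17 LD2_c44 LD3_c10)) :=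
  Lgr Lrot59 (Lpr_cf (f229873 IH) (Lpn (LP (LK LD1_c17 LD2_c44 LD3_c10))))
theorem f270087 : Led Lsl_ct (LP (LK LD1_c16 LD2_c16 LD3_c56)) = (LP (LK LD1_c8 LD2_c44 LD3_c3)) :=
  Lgr Lrot111 (Lpr_af (K16.f269747 IH) (Lpe (f229876 IH) (Lpr_af (f270081 IH) (Lpn (LP (LK LD1_c8 LD2_c44 LD3_c3))))))
theorem f270091 : Led Lsl_cf (LP (LK LD1_c16 LD2_c16 LD3_c56)) = (LP (LK LD1_c8 LD2_c44 LD3_c3)) :=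
  Lgr Lrot11 (Lpr_ct (f270087 IH) (Lpn (LP (LK LD1_c8 LD2_c44 LD3_c3))))
theorem f411525 : Led Lsl_ct (LP (LK LD1_c17 LD2_c43 LD3_c55)) = (LP (LK LD1_c14 LD2_c58 LD3_c40)) :=
  Lgr Lrot15 (Lpe (K16.f269718 IH) (Lpr_cf (f270091 IH) (Lpr_ef (f411521 IH) (Lpn (LP (LK LD1_c14 LD2_c58 LD3_c40))))))
theorem f270037 : Led Lsl_ft (LP (LK LD1_c9 LD2_c38 LD3_c5)) = (LP (LK LD1_c17 LD2_c43 LD3_c55)) :=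
  Lre_f IH (LK LD1_c9 LD2_c38 LD3_c5) (LK LD1_c17 LD2_c43 LD3_c55) Lrfl Lrfl
theorem f411529 : Led Lsl_cf (LP (LK LD1_c9 LD2_c38 LD3_c5)) = (LP (LK LD1_c7 LD2_c56 LD3_c22)) :=
  Lgr Lrot108 (Lpr_ft (f270037 IH) (Lpr_ct (f411525 IH) (Lpr_ft (f181389 IH) (Lpn (LP (LK LD1_c7 LD2_c56 LD3_c22))))))
theorem f411532 : Led Lsl_ct (LP (LK LD1_c9 LD2_c38 LD3_c5)) = (LP (LK LD1_c7 LD2_c56 LD3_c22)) :=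
  Lgr Lrot59 (Lpr_cf (f411529 IH) (Lpn (LP (LK LD1_c7 LD2_c56 LD3_c22))))
theorem f241625 : Led Lsl_at (LP (LK LD1_c4 LD2_c56 LD3_c60)) = (LP (LK LD1_c4 LD2_c23 LD3_c5)) :=
  Lgr Lrot80 (Lpe (K13.f172795 IH) (Lpr_af (K13.f241617 IH) (Lpe (K13.f237620 IH) (Lpn (LP (LK LD1_c4 LD2_c23 LD3_c5))))))
theorem f172791 : Led Lsl_ft (LP (LK LD1_c9 LD2_c45 LD3_c9)) = (LP (LK LD1_c4 LD2_c56 LD3_c60)) :=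
  Lre_f IH (LK LD1_c9 LD2_c45 LD3_c9) (LK LD1_c4 LD2_c56 LD3_c60) Lrfl Lrfl
theorem f237679 : Led Lsl_gt (LP (LK LD1_c8 LD2_c43 LD3_c58)) = (LP (LK LD1_c4 LD2_c23 LD3_c5)) :=
  Lre_g IH (LK LD1_c8 LD2_c43 LD3_c58) (LK LD1_c4 LD2_c23 LD3_c5) Lrfl Lrfl
theorem f418028 : Led Lsl_gt (LP (LK LD1_c9 LD2_c45 LD3_c9)) = (LP (LK LD1_c8 LD2_c43 LD3_c58)) :=
  Lgr Lrot5 (Lpr_ft (f172791 IH) (Lpr_at (f241625 IH) (Lpe (f237679 IH) (Lpn (LP (LK LD1_c8 LD2_c43 LD3_c58))))))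
theorem f418030 : Led Lsl_ct (LP (LK LD1_c8 LD2_c43 LD3_c58)) = (LP (LK LD1_c16 LD2_c21 LD3_c10)) :=
  Lre_c IH (LK LD1_c8 LD2_c43 LD3_c58) (LK LD1_c16 LD2_c21 LD3_c10) Lrfl Lrfl
theorem f552881 : Led Lsl_gf (LP (LK LD1_c9 LD2_c38 LD3_c5)) = (LP (LK LD1_c16 LD2_c21 LD3_c10)) :=
  Lgr Lrot172 (Lpr_ct (f411532 IH) (Lpe (f547052 IH) (Lpr_cf (K34.f425441 IH) (Lpe (f471160 IH) (Lpe (f462933 IH) (Lpr_gf (f464983 IH) (Lpr_dt (f552875 IH) (Lpr_gt (f418028 IH) (Lpr_ct (f418030 IH) (Lpn (LP (LK LD1_c16 LD2_c21 LD3_c10))))))))))))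
theorem f172787 : Led Lsl_bf (LP (LK LD1_c9 LD2_c45 LD3_c9)) = (LP (LK LD1_c11 LD2_c15 LD3_c46)) :=
  Lgr Lrot24 (Lpr_bt (f172774 IH) (Lpn (LP (LK LD1_c11 LD2_c15 LD3_c46))))
theorem f552869 : Led Lsl_df (LP (LK LD1_c13 LD2_c13 LD3_c58)) = (LP (LK LD1_c9 LD2_c45 LD3_c9)) :=
  Lgr Lrot12 (Lpe (K35.f464974 IH) (Lpr_dt (f552859 IH) (Lpe (f172787 IH) (Lpn (LP (LK LD1_c9 LD2_c45 LD3_c9))))))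
theorem f552885 : Led Lsl_df (LP (LK LD1_c7 LD2_c56 LD3_c22)) = (LP (LK LD1_c7 LD2_c14 LD3_c19)) :=
  Lgr Lrot162 (Lpe (f411532 IH) (Lpr_gf (f552881 IH) (Lpe (f418030 IH) (Lpe (f418028 IH) (Lpe (f552869 IH) (Lpe (f464983 IH) (Lpr_ct (f462933 IH) (Lpr_gt (f471160 IH) (Lpe (K34.f425441 IH) (Lpn (LP (LK LD1_c7 LD2_c14 LD3_c19))))))))))))
theorem f181329 : Led Lsl_gt (LP (LK LD1_c7 LD2_c56 LD3_c22)) = (LP (LK LD1_c14 LD2_c58 LD3_c38)) :=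
  Lre_g IH (LK LD1_c7 LD2_c56 LD3_c22) (LK LD1_c14 LD2_c58 LD3_c38) Lrfl Lrfl
theorem f464892 : Led Lsl_ft (LP (LK LD1_c3 LD2_c36 LD3_c38)) = (LP (LK LD1_c6 LD2_c58 LD3_c8)) :=
  Lgr Lrot75 (Lpe (K28.f128167 IH) (Lpr_ff (K28.f464864 IH) (Lpe (K28.f458604 IH) (Lpn (LP (LK LD1_c6 LD2_c58 LD3_c8))))))
theorem f465025 : Led Lsl_ct (LP (LK LD1_c6 LD2_c58 LD3_c8)) = (LP (LK LD1_c3 LD2_c56 LD3_c34)) :=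
  Lgr Lrot40 (Lpe (f464892 IH) (Lpe (K28.f159805 IH) (Lpr_ff (K28.f465016 IH) (Lpn (LP (LK LD1_c3 LD2_c56 LD3_c34))))))
theorem f465018 : Led Lsl_gt (LP (LK LD1_c7 LD2_c54 LD3_c51)) = (LP (LK LD1_c3 LD2_c56 LD3_c34)) :=
  Lre_g IH (LK LD1_c7 LD2_c54 LD3_c51) (LK LD1_c3 LD2_c56 LD3_c34) Lrfl Lrfl
theorem f17489 : Led Lsl_gt (LP (LK LD1_c3 LD2_c36 LD3_c58)) = (LP (LK LD1_c7 LD2_c14 LD3_c9)) :=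
  Lre_g IH (LK LD1_c3 LD2_c36 LD3_c58) (LK LD1_c7 LD2_c14 LD3_c9) Lrfl Lrfl
theorem f17495 : Led Lsl_bt (LP (LK LD1_c13 LD2_c41 LD3_c31)) = (LP (LK LD1_c7 LD2_c14 LD3_c9)) :=
  Lre_b IH (LK LD1_c13 LD2_c41 LD3_c31) (LK LD1_c7 LD2_c14 LD3_c9) Lrfl Lrfl
theorem f468095 : Led Lsl_ct (LP (LK LD1_c13 LD2_c41 LD3_c31)) = (LP (LK LD1_c7 LD2_c54 LD3_c51)) :=
  Lgr Lrot64 (Lpr_bt (f17495 IH) (Lpe (f17489 IH) (Lpe (K28.f17482 IH) (Lpr_ct (K28.f17483 IH) (Lpr_gf (K28.f468084 IH) (Lpe (K28.f458599 IH) (Lpr_gf (K28.f458592 IH) (Lpe (K28.f458604 IH) (Lpr_ct (f465025 IH) (Lpe (f465018 IH) (Lpn (LP (LK LD1_c7 LD2_c54 LD3_c51)))))))))))))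
theorem f471494 : Led Lsl_gf (LP (LK LD1_c13 LD2_c41 LD3_c31)) = (LP (LK LD1_c7 LD2_c14 LD3_c19)) :=
  Lgr Lrot181 (Lpr_ct (f468095 IH) (Lpr_gt (f465018 IH) (Lpe (f465025 IH) (Lpr_bt (K28.f458604 IH) (Lpe (K28.f458592 IH) (Lpe (K29.f458605 IH) (Lpr_ct (K34.f88009 IH) (Lpr_gt (K34.f471482 IH) (Lpe (K29.f425131 IH) (Lpe (K29.f425491 IH) (Lpn (LP (LK LD1_c7 LD2_c14 LD3_c19)))))))))))))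
theorem f241709 : Led Lsl_at (LP (LK LD1_c9 LD2_c45 LD3_c9)) = (LP (LK LD1_c8 LD2_c43 LD3_c59)) :=
  Lgr Lrot100 (Lpr_af (K13.f241705 IH) (Lpn (LP (LK LD1_c8 LD2_c43 LD3_c59))))
theorem f552877 : Led Lsl_df (LP (LK LD1_c6 LD2_c58 LD3_c8)) = (LP (LK LD1_c8 LD2_c43 LD3_c59)) :=
  Lgr Lrot18 (Lpr_at (K28.f464978 IH) (Lpr_dt (f552875 IH) (Lpr_at (f241709 IH) (Lpn (LP (LK LD1_c8 LD2_c43 LD3_c59))))))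
theorem f172799 : Led Lsl_gt (LP (LK LD1_c9 LD2_c45 LD3_c6)) = (LP (LK LD1_c17 LD2_c54 LD3_c39)) :=
  Lre_g IH (LK LD1_c9 LD2_c45 LD3_c6) (LK LD1_c17 LD2_c54 LD3_c39) Lrfl Lrfl
theorem f241707 : Led Lsl_gt (LP (LK LD1_c17 LD2_c54 LD3_c39)) = (LP (LK LD1_c16 LD2_c17 LD3_c22)) :=
  Lgr Lrot46 (Lpe (f172799 IH) (Lpr_ft (K13.f241698 IH) (Lpr_at (K13.f241699 IH) (Lpn (LP (LK LD1_c16 LD2_c17 LD3_c22))))))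
theorem f552895 : Led Lsl_ct (LP (LK LD1_c14 LD2_c58 LD3_c38)) = (LP (LK LD1_c17 LD2_c54 LD3_c39)) :=
  Lgr Lrot152 (Lpe (f181329 IH) (Lpr_df (f552885 IH) (Lpe (f471494 IH) (Lpr_ct (f468095 IH) (Lpr_gt (f465018 IH) (Lpe (K28.f464696 IH) (Lpr_df (f552877 IH) (Lpr_cf (K13.f237682 IH) (Lpe (f241707 IH) (Lpn (LP (LK LD1_c17 LD2_c54 LD3_c39))))))))))))
theorem f552901 : Led Lsl_dt (LP (LK LD1_c6 LD2_c58 LD3_c8)) = (LP (LK LD1_c8 LD2_c43 LD3_c59)) :=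
  Lgr Lrot27 (Lpr_cf (K28.f464696 IH) (Lpe (f465018 IH) (Lpe (f468095 IH) (Lpr_gf (f471494 IH) (Lpr_df (f547052 IH) (Lpr_gt (f181329 IH) (Lpr_ct (f552895 IH) (Lpr_gt (f241707 IH) (Lpe (K13.f237682 IH) (Lpn (LP (LK LD1_c8 LD2_c43 LD3_c59))))))))))))
theorem f552889 : Led Lsl_dt (LP (LK LD1_c4 LD2_c23 LD3_c15)) = (LP (LK LD1_c3 LD2_c37 LD3_c0)) :=
  Lgr Lrot44 (Lpr_af (f270067 IH) (Lpr_df (f552885 IH) (Lpe (K29.f425294 IH) (Lpn (LP (LK LD1_c3 LD2_c37 LD3_c0))))))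
theorem f237717 : Led Lsl_ct (LP (LK LD1_c8 LD2_c41 LD3_c13)) = (LP (LK LD1_c4 LD2_c23 LD3_c15)) :=
  Lgr Lrot15 (Lpe (K16.f237716 IH) (Lpr_cf (K13.f237707 IH) (Lpe (f237288 IH) (Lpn (LP (LK LD1_c4 LD2_c23 LD3_c15))))))
theorem f237761 : Led Lsl_gt (LP (LK LD1_c16 LD2_c16 LD3_c18)) = (LP (LK LD1_c8 LD2_c41 LD3_c13)) :=
  Lre_g IH (LK LD1_c16 LD2_c16 LD3_c18) (LK LD1_c8 LD2_c41 LD3_c13) Lrfl Lrfl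
theorem f417977 : Led Lsl_af (LP (LK LD1_c4 LD2_c56 LD3_c60)) = (LP (LK LD1_c4 LD2_c23 LD3_c5)) :=
  Lgr Lrot45 (Lpr_ft (K13.f172772 IH) (Lpr_at (f241709 IH) (Lpr_ft (K13.f237684 IH) (Lpn (LP (LK LD1_c4 LD2_c23 LD3_c5))))))
theorem f172784 : Led Lsl_gt (LP (LK LD1_c9 LD2_c45 LD3_c8)) = (LP (LK LD1_c4 LD2_c56 LD3_c60)) :=
  Lre_g IH (LK LD1_c9 LD2_c45 LD3_c8) (LK LD1_c4 LD2_c56 LD3_c60) Lrfl Lrfl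
theorem f417983 : Led Lsl_gf (LP (LK LD1_c9 LD2_c45 LD3_c8)) = (LP (LK LD1_c8 LD2_c43 LD3_c59)) :=
  Lgr Lrot47 (Lpr_gt (f172784 IH) (Lpr_af (f417977 IH) (Lpe (K13.f237684 IH) (Lpn (LP (LK LD1_c8 LD2_c43 LD3_c59))))))
theorem f552909 : Led Lsl_cf (LP (LK LD1_c16 LD2_c16 LD3_c18)) = (LP (LK LD1_c9 LD2_c45 LD3_c8)) :=
  Lgr Lrot188 (Lpr_gt (f237761 IH) (Lpr_ct (f237717 IH) (Lpr_dt (f552889 IH) (Lpr_cf (K29.f425443 IH) (Lpe (K35.f159760 IH) (Lpe (K35.f471390 IH) (Lpe (K35.f458567 IH) (Lpr_dt (f552901 IH) (Lpe (f417983 IH) (Lpn (LP (LK LD1_c9 LD2_c45 LD3_c8))))))))))))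
theorem f552914 : Led Lsl_df (LP (LK LD1_c4 LD2_c23 LD3_c15)) = (LP (LK LD1_c3 LD2_c37 LD3_c0)) :=
  Lgr Lrot162 (Lpe (f237717 IH) (Lpe (f237761 IH) (Lpr_cf (f552909 IH) (Lpr_gf (f417983 IH) (Lpe (f552877 IH) (Lpr_gt (K35.f458567 IH) (Lpr_ct (K35.f471390 IH) (Lpr_gt (K35.f159760 IH) (Lpe (K29.f425443 IH) (Lpn (LP (LK LD1_c3 LD2_c37 LD3_c0))))))))))))
theorem f411504 : Led Lsl_gt (LP (LK LD1_c8 LD2_c44 LD3_c13)) = (LP (LK LD1_c4 LD2_c23 LD3_c15)) :=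
  Lre_g IH (LK LD1_c8 LD2_c44 LD3_c13) (LK LD1_c4 LD2_c23 LD3_c15) Lrfl Lrfl
theorem f425524 : Led Lsl_et (LP (LK LD1_c3 LD2_c37 LD3_c0)) = (LP (LK LD1_c1 LD2_c45 LD3_c21)) :=
  Lre_e IH (LK LD1_c3 LD2_c37 LD3_c0) (LK LD1_c1 LD2_c45 LD3_c21) Lrfl Lrfl
theorem f70740 : Led Lsl_et (LP (LK LD1_c1 LD2_c28 LD3_c14)) = (LP (LK LD1_c3 LD2_c4 LD3_c22)) :=
  Lre_e IH (LK LD1_c1 LD2_c28 LD3_c14) (LK LD1_c3 LD2_c4 LD3_c22) Lrfl Lrfl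
theorem f544208 : Led Lsl_et (LP (LK LD1_c12 LD2_c8 LD3_c10)) = (LP (LK LD1_c6 LD2_c14 LD3_c55)) :=
  Lre_e IH (LK LD1_c12 LD2_c8 LD3_c10) (LK LD1_c6 LD2_c14 LD3_c55) Lrfl Lrfl
theorem f552925 : Led Lsl_df (LP (LK LD1_c8 LD2_c44 LD3_c13)) = (LP (LK LD1_c12 LD2_c8 LD3_c10)) :=
  Lgr Lrot170 (Lpr_gt (f411504 IH) (Lpr_df (f552914 IH) (Lpr_et (f425524 IH) (Lpr_gt (K36.f519698 IH) (Lpqs (K37.f542992 IH) (Lpr_dt (K37.f227756 IH) (Lpr_gt (K12.f38106 IH) (Lpe (K14.f59089 IH) (Lpr_et (f70740 IH) (Lpr_gt (K37.f38043 IH) (Lpe (f544208 IH) (Lpn (LP (LK LD1_c12 LD2_c8 LD3_c10))))))))))))))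
theorem f411505 : Led Lsl_gf (LP (LK LD1_c8 LD2_c44 LD3_c13)) = (LP (LK LD1_c14 LD2_c58 LD3_c40)) :=
  Lgr Lrot47 (Lpr_gt (f411504 IH) (Lpr_af (f270067 IH) (Lpe (f181389 IH) (Lpn (LP (LK LD1_c14 LD2_c58 LD3_c40))))))
theorem f270172 : Led Lsl_ft (LP (LK LD1_c20 LD2_c21 LD3_c19)) = (LP (LK LD1_c11 LD2_c23 LD3_c31)) :=
  Lre_f IH (LK LD1_c20 LD2_c21 LD3_c19) (LK LD1_c11 LD2_c23 LD3_c31) Lrfl Lrfl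
theorem f181664 : Led Lsl_ft (LP (LK LD1_c8 LD2_c44 LD3_c2)) = (LP (LK LD1_c16 LD2_c21 LD3_c21)) :=
  Lre_f IH (LK LD1_c8 LD2_c44 LD3_c2) (LK LD1_c16 LD2_c21 LD3_c21) Lrfl Lrfl
theorem f270173 : Led Lsl_ef (LP (LK LD1_c20 LD2_c21 LD3_c19)) = (LP (LK LD1_c16 LD2_c21 LD3_c21)) :=
  Lgr Lrot21 (Lpr_ft (f270172 IH) (Lpr_et (K38.f60783 IH) (Lpr_ft (K16.f270166 IH) (Lpr_et (K16.f80975 IH) (Lpr_ft (f181664 IH) (Lpn (LP (LK LD1_c16 LD2_c21 LD3_c21))))))))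
theorem f181641 : Led Lsl_dt (LP (LK LD1_c8 LD2_c44 LD3_c3)) = (LP (LK LD1_c16 LD2_c21 LD3_c21)) :=
  Lre_d IH (LK LD1_c8 LD2_c44 LD3_c3) (LK LD1_c16 LD2_c21 LD3_c21) Lrfl Lrfl
theorem f547014 : Led Lsl_dt (LP (LK LD1_c13 LD2_c41 LD3_c52)) = (LP (LK LD1_c14 LD2_c58 LD3_c40)) :=
  Lgr Lrot77 (Lpe (K29.f470536 IH) (Lpr_df (K38.f547006 IH) (Lpr_ef (f270173 IH) (Lpe (f181641 IH) (Lpr_ef (f411521 IH) (Lpn (LP (LK LD1_c14 LD2_c58 LD3_c40))))))))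
theorem f470529 : Led Lsl_ef (LP (LK LD1_c13 LD2_c14 LD3_c33)) = (LP (LK LD1_c13 LD2_c41 LD3_c52)) :=
  Lgr Lrot28 (Lpr_ct (K28.f470523 IH) (Lpe (K35.f462565 IH) (Lpe (K29.f425508 IH) (Lpn (LP (LK LD1_c13 LD2_c41 LD3_c52))))))
theorem f488738 : Led Lsl_gt (LP (LK LD1_c7 LD2_c54 LD3_c42)) = (LP (LK LD1_c7 LD2_c20 LD3_c38)) :=
  Lgr Lrot5 (Lpe (K28.f462279 IH) (Lpr_at (K8.f159359 IH) (Lpr_gf (K34.f488734 IH) (Lpn (LP (LK LD1_c7 LD2_c20 LD3_c38))))))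
theorem f462563 : Led Lsl_bf (LP (LK LD1_c7 LD2_c54 LD3_c42)) = (LP (LK LD1_c7 LD2_c53 LD3_c58)) :=
  Lgr Lrot61 (Lpe (K28.f462279 IH) (Lpr_bt (K28.f425557 IH) (Lpr_ft (K28.f462551 IH) (Lpn (LP (LK LD1_c7 LD2_c53 LD3_c58))))))
theorem f470527 : Led Lsl_cf (LP (LK LD1_c13 LD2_c14 LD3_c33)) = (LP (LK LD1_c7 LD2_c53 LD3_c58)) :=
  Lgr Lrot11 (Lpr_ct (K28.f470523 IH) (Lpn (LP (LK LD1_c7 LD2_c53 LD3_c58))))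
theorem f11678 : Led Lsl_bt (LP (LK LD1_c1 LD2_c54 LD3_c8)) = (LP (LK LD1_c3 LD2_c55 LD3_c4)) :=
  Lre_b IH (LK LD1_c1 LD2_c54 LD3_c8) (LK LD1_c3 LD2_c55 LD3_c4) Lrfl Lrfl
theorem f11679 : Led Lsl_gt (LP (LK LD1_c3 LD2_c55 LD3_c4)) = (LP (LK LD1_c7 LD2_c51 LD3_c47)) :=
  Lre_g IH (LK LD1_c3 LD2_c55 LD3_c4) (LK LD1_c7 LD2_c51 LD3_c47) Lrfl Lrfl
theorem f11807 : Led Lsl_gt (LP (LK LD1_c7 LD2_c51 LD3_c47)) = (LP (LK LD1_c14 LD2_c49 LD3_c47)) :=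
  Lre_g IH (LK LD1_c7 LD2_c51 LD3_c47) (LK LD1_c14 LD2_c49 LD3_c47) Lrfl Lrfl
theorem f108039 : Led Lsl_gt (LP (LK LD1_c3 LD2_c33 LD3_c38)) = (LP (LK LD1_c7 LD2_c8 LD3_c4)) :=
  Lre_g IH (LK LD1_c3 LD2_c33 LD3_c38) (LK LD1_c7 LD2_c8 LD3_c4) Lrfl Lrfl
theorem f475838 : Led Lsl_cf (LP (LK LD1_c7 LD2_c51 LD3_c47)) = (LP (LK LD1_c7 LD2_c8 LD3_c4)) :=
  Lgr Lrot125 (Lpr_gt (f11807 IH) (Lpr_cf (K29.f11785 IH) (Lpr_bt (K34.f475828 IH) (Lpr_gt (K34.f475821 IH) (Lpe (K32.f475097 IH) (Lpr_ct (K34.f475102 IH) (Lpe (K29.f473567 IH) (Lpe (K8.f108032 IH) (Lpr_bt (K8.f108029 IH) (Lpr_gt (f108039 IH) (Lpn (LP (LK LD1_c7 LD2_c8 LD3_c4)))))))))))))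
theorem f475841 : Led Lsl_ct (LP (LK LD1_c7 LD2_c51 LD3_c47)) = (LP (LK LD1_c7 LD2_c8 LD3_c4)) :=
  Lgr Lrot59 (Lpr_cf (f475838 IH) (Lpn (LP (LK LD1_c7 LD2_c8 LD3_c4))))
theorem f488747 : Led Lsl_gf (LP (LK LD1_c13 LD2_c14 LD3_c33)) = (LP (LK LD1_c7 LD2_c8 LD3_c4)) :=
  Lgr Lrot129 (Lpr_cf (f470527 IH) (Lpe (f462563 IH) (Lpr_gt (f488738 IH) (Lpe (K34.f488733 IH) (Lpe (K34.f488729 IH) (Lpr_gt (K34.f11680 IH) (Lpe (K8.f11652 IH) (Lpr_bt (f11678 IH) (Lpr_gt (f11679 IH) (Lpr_ct (f475841 IH) (Lpn (LP (LK LD1_c7 LD2_c8 LD3_c4)))))))))))))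
theorem f463363 : Led Lsl_cf (LP (LK LD1_c7 LD2_c19 LD3_c9)) = (LP (LK LD1_c7 LD2_c4 LD3_c25)) :=
  Lgr Lrot11 (Lpr_ct (K29.f463360 IH) (Lpn (LP (LK LD1_c7 LD2_c4 LD3_c25))))
theorem f544221 : Led Lsl_gt (LP (LK LD1_c6 LD2_c14 LD3_c55)) = (LP (LK LD1_c7 LD2_c19 LD3_c9)) :=
  Lgr Lrot65 (Lpe (K37.f80509 IH) (Lpr_bt (K37.f544216 IH) (Lpe (K37.f116484 IH) (Lpe (K28.f116280 IH) (Lpr_ct (K28.f116284 IH) (Lpe (K28.f464585 IH) (Lpe (K28.f463399 IH) (Lpr_gf (K28.f463276 IH) (Lpe (K29.f463267 IH) (Lpe (f463363 IH) (Lpn (LP (LK LD1_c7 LD2_c19 LD3_c9)))))))))))))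
theorem f543420 : Led Lsl_df (LP (LK LD1_c6 LD2_c13 LD3_c54)) = (LP (LK LD1_c7 LD2_c19 LD3_c9)) :=
  Lgr Lrot78 (Lpr_ft (K11.f38131 IH) (Lpr_dt (K37.f543410 IH) (Lpr_ft (K28.f208964 IH) (Lpn (LP (LK LD1_c7 LD2_c19 LD3_c9))))))
theorem f38143 : Led Lsl_gt (LP (LK LD1_c6 LD2_c13 LD3_c54)) = (LP (LK LD1_c3 LD2_c4 LD3_c21)) :=
  Lre_g IH (LK LD1_c6 LD2_c13 LD3_c54) (LK LD1_c3 LD2_c4 LD3_c21) Lrfl Lrfl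
theorem f80492 : Led Lsl_dt (LP (LK LD1_c6 LD2_c14 LD3_c53)) = (LP (LK LD1_c3 LD2_c4 LD3_c21)) :=
  Lre_d IH (LK LD1_c6 LD2_c14 LD3_c53) (LK LD1_c3 LD2_c4 LD3_c21) Lrfl Lrfl
theorem f552932 : Led Lsl_ef (LP (LK LD1_c7 LD2_c8 LD3_c4)) = (LP (LK LD1_c6 LD2_c14 LD3_c53)) :=
  Lgr Lrot114 (Lpe (f488747 IH) (Lpr_ef (f470529 IH) (Lpr_dt (f547014 IH) (Lpe (f411505 IH) (Lpr_df (f552925 IH) (Lpr_et (f544208 IH) (Lpr_gt (f544221 IH) (Lpe (f543420 IH) (Lpr_gt (f38143 IH) (Lpe (f80492 IH) (Lpn (LP (LK LD1_c6 LD2_c14 LD3_c53)))))))))))))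
theorem f552941 : Led Lsl_et (LP (LK LD1_c7 LD2_c8 LD3_c4)) = (LP (LK LD1_c6 LD2_c14 LD3_c53)) :=
  Lgr Lrot87 (Lpr_ef (f552932 IH) (Lpn (LP (LK LD1_c6 LD2_c14 LD3_c53))))
theorem f80519 : Led Lsl_ct (LP (LK LD1_c6 LD2_c14 LD3_c53)) = (LP (LK LD1_c12 LD2_c8 LD3_c4)) :=
  Lre_c IH (LK LD1_c6 LD2_c14 LD3_c53) (LK LD1_c12 LD2_c8 LD3_c4) Lrfl Lrfl
theorem f552946 : Led Lsl_ef (LP (LK LD1_c7 LD2_c51 LD3_c47)) = (LP (LK LD1_c12 LD2_c8 LD3_c4)) :=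
  Lgr Lrot28 (Lpr_ct (f475841 IH) (Lpr_et (f552941 IH) (Lpr_ct (f80519 IH) (Lpn (LP (LK LD1_c12 LD2_c8 LD3_c4))))))
theorem f59370 : Led Lsl_gt (LP (LK LD1_c1 LD2_c28 LD3_c14)) = (LP (LK LD1_c3 LD2_c4 LD3_c29)) :=
  Lre_g IH (LK LD1_c1 LD2_c28 LD3_c14) (LK LD1_c3 LD2_c4 LD3_c29) Lrfl Lrfl
theorem f227754 : Led Lsl_dt (LP (LK LD1_c3 LD2_c4 LD3_c29)) = (LP (LK LD1_c3 LD2_c10 LD3_c9)) :=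
  Lgr Lrot105 (Lpe (f59370 IH) (Lpe (K14.f37216 IH) (Lpe (K12.f38106 IH) (Lpr_cf (K12.f227743 IH) (Lpr_gt (K10.f36443 IH) (Lpe (K13.f36412 IH) (Lpr_gt (K12.f36328 IH) (Lpr_dt (K13.f36329 IH) (Lpe (K16.f164153 IH) (Lpn (LP (LK LD1_c3 LD2_c10 LD3_c9))))))))))))
theorem f242772 : Led Lsl_et (LP (LK LD1_c6 LD2_c15 LD3_c3)) = (LP (LK LD1_c3 LD2_c4 LD3_c29)) :=
  Lre_e IH (LK LD1_c6 LD2_c15 LD3_c3) (LK LD1_c3 LD2_c4 LD3_c29) Lrfl Lrfl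
theorem f242773 : Led Lsl_dt (LP (LK LD1_c12 LD2_c8 LD3_c27)) = (LP (LK LD1_c6 LD2_c15 LD3_c3)) :=
  Lre_d IH (LK LD1_c12 LD2_c8 LD3_c27) (LK LD1_c6 LD2_c15 LD3_c3) Lrfl Lrfl
theorem f242774 : Led Lsl_ef (LP (LK LD1_c12 LD2_c8 LD3_c27)) = (LP (LK LD1_c8 LD2_c3 LD3_c28)) :=
  Lgr Lrot73 (Lpr_dt (f242773 IH) (Lpr_et (f242772 IH) (Lpr_dt (f227754 IH) (Lpr_et (K13.f242768 IH) (Lpe (K13.f242133 IH) (Lpn (LP (LK LD1_c8 LD2_c3 LD3_c28))))))))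
theorem f242778 : Led Lsl_et (LP (LK LD1_c12 LD2_c8 LD3_c27)) = (LP (LK LD1_c8 LD2_c3 LD3_c28)) :=
  Lgr Lrot87 (Lpr_ef (f242774 IH) (Lpn (LP (LK LD1_c8 LD2_c3 LD3_c28))))
theorem f242782 : Led Lsl_dt (LP (LK LD1_c6 LD2_c15 LD3_c3)) = (LP (LK LD1_c12 LD2_c8 LD3_c27)) :=
  Lre_d IH (LK LD1_c6 LD2_c15 LD3_c3) (LK LD1_c12 LD2_c8 LD3_c27) Lrfl Lrfl
theorem f242763 : Led Lsl_et (LP (LK LD1_c3 LD2_c4 LD3_c29)) = (LP (LK LD1_c6 LD2_c15 LD3_c3)) :=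
  Lre_e IH (LK LD1_c3 LD2_c4 LD3_c29) (LK LD1_c6 LD2_c15 LD3_c3) Lrfl Lrfl
theorem f242793 : Led Lsl_dt (LP (LK LD1_c3 LD2_c10 LD3_c9)) = (LP (LK LD1_c3 LD2_c4 LD3_c29)) :=
  Lgr Lrot77 (Lpr_ef (K13.f242764 IH) (Lpr_df (K13.f242791 IH) (Lpe (f242778 IH) (Lpe (f242782 IH) (Lpe (f242763 IH) (Lpn (LP (LK LD1_c3 LD2_c4 LD3_c29))))))))
def v2474 : LQ := Led Lsl_gt (LP (LK LD1_c1 LD2_c46 LD3_c13))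
theorem f522547 : Led Lsl_gt (LP (LK LD1_c1 LD2_c46 LD3_c13)) = v2474 :=
  Lrfl
theorem f522755 : Led Lsl_gt v2474 = K37.v2487 :=
  Lgr Lrot46 (Lpe (f522547 IH) (Lpe (K28.f208961 IH) (Lpr_at (K37.f522751 IH) (Lpn K37.v2487))))
theorem f439260 : Led Lsl_cf (LP (LK LD1_c7 LD2_c21 LD3_c49)) = (LP (LK LD1_c7 LD2_c27 LD3_c42)) :=
  Lgr Lrot11 (Lpr_ct (K24.f439255 IH) (Lpn (LP (LK LD1_c7 LD2_c27 LD3_c42))))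
theorem f148302 : Led Lsl_bf (LP (LK LD1_c7 LD2_c1 LD3_c16)) = (LP (LK LD1_c3 LD2_c40 LD3_c36)) :=
  Lgr Lrot24 (Lpr_bt (K7.f148294 IH) (Lpn (LP (LK LD1_c3 LD2_c40 LD3_c36))))
theorem f522549 : Led Lsl_ct (LP (LK LD1_c3 LD2_c44 LD3_c0)) = v2474 :=
  Lgr Lrot63 (Lpr_bt (K32.f419784 IH) (Lpr_gt (K32.f419793 IH) (Lpr_bf (f148302 IH) (Lpr_ct (K34.f148298 IH) (Lpe (K24.f439266 IH) (Lpr_cf (f439260 IH) (Lpr_bt (K24.f148297 IH) (Lpr_gt (K24.f148296 IH) (Lpe (f439218 IH) (Lpr_gt (f522547 IH) (Lpn v2474)))))))))))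
theorem f147314 : Led Lsl_bt (LP (LK LD1_c7 LD2_c22 LD3_c61)) = (LP (LK LD1_c3 LD2_c41 LD3_c17)) :=
  Lre_b IH (LK LD1_c7 LD2_c22 LD3_c61) (LK LD1_c3 LD2_c41 LD3_c17) Lrfl Lrfl
theorem f497858 : Led Lsl_ft (LP (LK LD1_c3 LD2_c41 LD3_c17)) = (LP (LK LD1_c3 LD2_c44 LD3_c0)) :=
  Lgr Lrot75 (Lpe (f147314 IH) (Lpr_ff (K32.f497856 IH) (Lpe (K32.f419784 IH) (Lpn (LP (LK LD1_c3 LD2_c44 LD3_c0))))))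
theorem f522551 : Led Lsl_ff (LP (LK LD1_c3 LD2_c39 LD3_c26)) = v2474 :=
  Lgr Lrot23 (Lpe (K8.f147315 IH) (Lpr_ft (f497858 IH) (Lpr_ct (f522549 IH) (Lpn v2474))))
def v2475 : LQ := Led Lsl_gf (LP (LK LD1_c1 LD2_c46 LD3_c13))
theorem f522554 : Led Lsl_gf (LP (LK LD1_c1 LD2_c46 LD3_c13)) = v2475 :=
  Lrfl
theorem f155579 : Led Lsl_bf (LP (LK LD1_c3 LD2_c41 LD3_c10)) = (LP (LK LD1_c3 LD2_c44 LD3_c1)) :=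
  Lgr Lrot24 (Lpr_bt (K24.f155576 IH) (Lpn (LP (LK LD1_c3 LD2_c44 LD3_c1))))
theorem f522557 : Led Lsl_ct (LP (LK LD1_c3 LD2_c44 LD3_c1)) = v2475 :=
  Lgr Lrot64 (Lpe (f155579 IH) (Lpe (K7.f116504 IH) (Lpe (K4.f116451 IH) (Lpr_ct (K3.f109392 IH) (Lpr_gf (K3.f109120 IH) (Lpe (K3.f12774 IH) (Lpe (K3.f12763 IH) (Lpe (K24.f12845 IH) (Lpe (f439218 IH) (Lpr_gf (f522554 IH) (Lpn v2475)))))))))))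
theorem f522560 : Led Lsl_cf (LP (LK LD1_c3 LD2_c44 LD3_c1)) = v2475 :=
  Lgr Lrot11 (Lpr_ct (f522557 IH) (Lpn v2475))
theorem f522561 : Led Lsl_at (LP (LK LD1_c3 LD2_c39 LD3_c26)) = v2475 :=
  Lgr Lrot107 (Lpe (K8.f147321 IH) (Lpr_af (K32.f497864 IH) (Lpr_cf (f522560 IH) (Lpn v2475))))
theorem f522756 : Led Lsl_gf v2475 = K37.v2487 :=
  Lgr Lrot76 (Lpe (f522561 IH) (Lpr_ff (f522551 IH) (Lpr_gt (f522755 IH) (Lpn K37.v2487))))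
theorem f540335 : v2475 = (LP (LK LD1_c3 LD2_c4 LD3_c29)) :=
  Lefun (Lecon (Lfl_gf (f522756 IH)) (K37.f540328 IH)) (f59370 IH)
theorem f109101 : Led Lsl_bt (LP (LK LD1_c1 LD2_c42 LD3_c50)) = (LP (LK LD1_c3 LD2_c32 LD3_c14)) :=
  Lre_b IH (LK LD1_c1 LD2_c42 LD3_c50) (LK LD1_c3 LD2_c32 LD3_c14) Lrfl Lrfl
theorem f514720 : Led Lsl_cf (LP (LK LD1_c3 LD2_c41 LD3_c19)) = K36.v2338 :=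
  Lgr Lrot1 (Lpr_at (K8.f147185 IH) (Lpr_ct (K24.f124026 IH) (Lpr_at (K36.f514717 IH) (Lpn K36.v2338))))
theorem f522548 : Led Lsl_cf (LP (LK LD1_c3 LD2_c44 LD3_c0)) = v2474 :=
  Lgr Lrot125 (Lpe (K32.f147345 IH) (Lpr_cf (f514720 IH) (Lpe (K36.f514719 IH) (Lpr_gt (K7.f136754 IH) (Lpe (f109101 IH) (Lpr_ct (K7.f109102 IH) (Lpe (K4.f109112 IH) (Lpr_cf (K36.f97192 IH) (Lpr_bt (K24.f131700 IH) (Lpr_gt (f522547 IH) (Lpn v2474)))))))))))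
theorem f540345 : v2474 = (LP (LK LD1_c3 LD2_c4 LD3_c30)) :=
  Lefun (Lecon (Lfl_gt (f522755 IH)) (K37.f540328 IH)) (Lfl_gt (K37.f37217 IH))
theorem f177120 : Led Lsl_ct (LP (LK LD1_c1 LD2_c12 LD3_c20)) = (LP (LK LD1_c2 LD2_c30 LD3_c40)) :=
  Lre_c IH (LK LD1_c1 LD2_c12 LD3_c20) (LK LD1_c2 LD2_c30 LD3_c40) Lrfl Lrfl
theorem f177134 : Led Lsl_ct (LP (LK LD1_c5 LD2_c50 LD3_c51)) = (LP (LK LD1_c2 LD2_c51 LD3_c37)) :=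
  Lre_c IH (LK LD1_c5 LD2_c50 LD3_c51) (LK LD1_c2 LD2_c51 LD3_c37) Lrfl Lrfl
theorem f552179 : Led Lsl_dt (LP (LK LD1_c3 LD2_c44 LD3_c1)) = (LP (LK LD1_c5 LD2_c50 LD3_c51)) :=
  Lgr Lrot173 (Lpr_cf (f522560 IH) (Lpqs (f540335 IH) (Lpe (f242793 IH) (Lpe (K13.f164154 IH) (Lpe (K13.f36329 IH) (Lpe (K14.f36343 IH) (Lpe (K37.f36387 IH) (Lpe (f204965 IH) (Lpr_df (f552175 IH) (Lpr_cf (f522548 IH) (Lpqs (f540345 IH) (Lpe (K37.f424464 IH) (Lpe (f177120 IH) (Lpr_df (K13.f177104 IH) (Lpe (K32.f177129 IH) (Lpe (K32.f177130 IH) (Lpe (f177134 IH) (Lpn (LP (LK LD1_c5 LD2_c50 LD3_c51))))))))))))))))))))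
theorem f147197 : Led Lsl_dt (LP (LK LD1_c7 LD2_c23 LD3_c4)) = (LP (LK LD1_c13 LD2_c57 LD3_c45)) :=
  Lre_d IH (LK LD1_c7 LD2_c23 LD3_c4) (LK LD1_c13 LD2_c57 LD3_c45) Lrfl Lrfl
theorem f80520 : Led Lsl_dt (LP (LK LD1_c12 LD2_c8 LD3_c4)) = (LP (LK LD1_c21 LD2_c14 LD3_c21)) :=
  Lre_d IH (LK LD1_c12 LD2_c8 LD3_c4) (LK LD1_c21 LD2_c14 LD3_c21) Lrfl Lrfl
theorem f552952 : Led Lsl_gf (LP (LK LD1_c13 LD2_c57 LD3_c45)) = (LP (LK LD1_c21 LD2_c14 LD3_c21)) :=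
  Lgr Lrot145 (Lpe (f147197 IH) (Lpr_et (K34.f147192 IH) (Lpr_gt (K24.f147195 IH) (Lpr_dt (f552179 IH) (Lpe (K37.f542915 IH) (Lpe (K8.f159816 IH) (Lpr_et (K8.f11739 IH) (Lpr_gt (f11679 IH) (Lpr_ef (f552946 IH) (Lpr_dt (f80520 IH) (Lpn (LP (LK LD1_c21 LD2_c14 LD3_c21)))))))))))))
theorem f40017 : Led Lsl_dt (LP (LK LD1_c2 LD2_c10 LD3_c29)) = (LP (LK LD1_c4 LD2_c26 LD3_c33)) :=
  Lre_d IH (LK LD1_c2 LD2_c10 LD3_c29) (LK LD1_c4 LD2_c26 LD3_c33) Lrfl Lrfl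
theorem f205558 : Led Lsl_gt (LP (LK LD1_c8 LD2_c46 LD3_c34)) = (LP (LK LD1_c16 LD2_c25 LD3_c8)) :=
  Lre_g IH (LK LD1_c8 LD2_c46 LD3_c34) (LK LD1_c16 LD2_c25 LD3_c8) Lrfl Lrfl
theorem f205559 : Led Lsl_gt (LP (LK LD1_c16 LD2_c25 LD3_c8)) = (LP (LK LD1_c12 LD2_c22 LD3_c50)) :=
  Lgr Lrot46 (Lpe (f205558 IH) (Lpr_ft (f205556 IH) (Lpr_at (K11.f205540 IH) (Lpn (LP (LK LD1_c12 LD2_c22 LD3_c50))))))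
theorem f543473 : Led Lsl_ct (LP (LK LD1_c8 LD2_c50 LD3_c40)) = (LP (LK LD1_c16 LD2_c25 LD3_c8)) :=
  Lgr Lrot152 (Lpe (K37.f40018 IH) (Lpe (f40017 IH) (Lpr_gt (K37.f80465 IH) (Lpr_ct (K37.f543452 IH) (Lpr_gt (K11.f38140 IH) (Lpr_ct (K11.f205477 IH) (Lpe (f205479 IH) (Lpe (K11.f205488 IH) (Lpe (f205559 IH) (Lpn (LP (LK LD1_c16 LD2_c25 LD3_c8))))))))))))
theorem f543477 : Led Lsl_cf (LP (LK LD1_c8 LD2_c50 LD3_c40)) = (LP (LK LD1_c16 LD2_c25 LD3_c8)) :=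
  Lgr Lrot11 (Lpr_ct (f543473 IH) (Lpn (LP (LK LD1_c16 LD2_c25 LD3_c8))))
theorem f75763 : Led Lsl_dt (LP (LK LD1_c16 LD2_c25 LD3_c10)) = (LP (LK LD1_c8 LD2_c46 LD3_c34)) :=
  Lre_d IH (LK LD1_c16 LD2_c25 LD3_c10) (LK LD1_c8 LD2_c46 LD3_c34) Lrfl Lrfl
theorem f420687 : Led Lsl_gt (LP (LK LD1_c16 LD2_c25 LD3_c10)) = (LP (LK LD1_c26 LD2_c22 LD3_c48)) :=
  Lre_g IH (LK LD1_c16 LD2_c25 LD3_c10) (LK LD1_c26 LD2_c22 LD3_c48) Lrfl Lrfl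
theorem f560401 : Led Lsl_cf (LP (LK LD1_c21 LD2_c14 LD3_c21)) = (LP (LK LD1_c26 LD2_c22 LD3_c48)) :=
  Lgr Lrot169 (Lpe (f552952 IH) (Lpr_ct (f147158 IH) (Lpe (f560324 IH) (Lpr_cf (f560363 IH) (Lpr_gf (K37.f420703 IH) (Lpr_cf (f543477 IH) (Lpe (f205558 IH) (Lpe (f75763 IH) (Lpr_gt (f420687 IH) (Lpn (LP (LK LD1_c26 LD2_c22 LD3_c48))))))))))))
theorem f80494 : Led Lsl_dt (LP (LK LD1_c21 LD2_c14 LD3_c21)) = (LP (LK LD1_c12 LD2_c8 LD3_c4)) :=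
  Lre_d IH (LK LD1_c21 LD2_c14 LD3_c21) (LK LD1_c12 LD2_c8 LD3_c4) Lrfl Lrfl
theorem f80493 : Led Lsl_ct (LP (LK LD1_c12 LD2_c8 LD3_c4)) = (LP (LK LD1_c6 LD2_c14 LD3_c53)) :=
  Lre_c IH (LK LD1_c12 LD2_c8 LD3_c4) (LK LD1_c6 LD2_c14 LD3_c53) Lrfl Lrfl
theorem f56298 : Led Lsl_dt (LP (LK LD1_c4 LD2_c39 LD3_c38)) = (LP (LK LD1_c9 LD2_c14 LD3_c53)) :=
  Lre_d IH (LK LD1_c4 LD2_c39 LD3_c38) (LK LD1_c9 LD2_c14 LD3_c53) Lrfl Lrfl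
theorem f80463 : Led Lsl_gt (LP (LK LD1_c9 LD2_c14 LD3_c53)) = (LP (LK LD1_c16 LD2_c31 LD3_c52)) :=
  Lgr Lrot139 (Lpe (f56298 IH) (Lpe (K2.f56095 IH) (Lpe (K1.f56081 IH) (Lpr_dt (K1.f13644 IH) (Lpe (K5.f80438 IH) (Lpr_df (K4.f80442 IH) (Lpr_et (K11.f38128 IH) (Lpe (K37.f80460 IH) (Lpe (K37.f80461 IH) (Lpr_dt (K37.f80462 IH) (Lpn (LP (LK LD1_c16 LD2_c31 LD3_c52)))))))))))))
theorem f56346 : Led Lsl_at (LP (LK LD1_c2 LD2_c16 LD3_c51)) = (LP (LK LD1_c3 LD2_c9 LD3_c49)) :=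
  Lgr Lrot51 (Lpe (K37.f56087 IH) (Lpr_af (K2.f46705 IH) (Lpr_df (K1.f56343 IH) (Lpn (LP (LK LD1_c3 LD2_c9 LD3_c49))))))
theorem f60381 : Led Lsl_af (LP (LK LD1_c3 LD2_c4 LD3_c4)) = (LP (LK LD1_c2 LD2_c48 LD3_c60)) :=
  Lgr Lrot0 (Lpr_at (K1.f60372 IH) (Lpn (LP (LK LD1_c2 LD2_c48 LD3_c60))))
theorem f69544 : Led Lsl_cf (LP (LK LD1_c2 LD2_c16 LD3_c51)) = (LP (LK LD1_c3 LD2_c4 LD3_c4)) :=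
  Lgr Lrot1 (Lpr_at (f56346 IH) (Lpr_ct (K8.f69540 IH) (Lpe (f60381 IH) (Lpn (LP (LK LD1_c3 LD2_c4 LD3_c4))))))
theorem f38074 : Led Lsl_dt (LP (LK LD1_c6 LD2_c14 LD3_c22)) = (LP (LK LD1_c12 LD2_c7 LD3_c5)) :=
  Lre_d IH (LK LD1_c6 LD2_c14 LD3_c22) (LK LD1_c12 LD2_c7 LD3_c5) Lrfl Lrfl
theorem f38086 : Led Lsl_gt (LP (LK LD1_c12 LD2_c7 LD3_c5)) = (LP (LK LD1_c12 LD2_c8 LD3_c6)) :=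
  Lre_g IH (LK LD1_c12 LD2_c7 LD3_c5) (LK LD1_c12 LD2_c8 LD3_c6) Lrfl Lrfl
theorem f38090 : Led Lsl_dt (LP (LK LD1_c12 LD2_c8 LD3_c6)) = (LP (LK LD1_c6 LD2_c14 LD3_c54)) :=
  Lre_d IH (LK LD1_c12 LD2_c8 LD3_c6) (LK LD1_c6 LD2_c14 LD3_c54) Lrfl Lrfl
theorem f80472 : Led Lsl_cf (LP (LK LD1_c6 LD2_c14 LD3_c54)) = (LP (LK LD1_c8 LD2_c50 LD3_c39)) :=
  Lgr Lrot14 (Lpe (f38090 IH) (Lpe (f38086 IH) (Lpe (f38074 IH) (Lpe (K37.f38030 IH) (Lpe (f69544 IH) (Lpr_gt (K2.f56095 IH) (Lpr_dt (f56298 IH) (Lpr_gt (f80463 IH) (Lpr_dt (K37.f80469 IH) (Lpn (LP (LK LD1_c8 LD2_c50 LD3_c39))))))))))))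
theorem f38088 : Led Lsl_et (LP (LK LD1_c6 LD2_c14 LD3_c54)) = (LP (LK LD1_c3 LD2_c4 LD3_c21)) :=
  Lre_e IH (LK LD1_c6 LD2_c14 LD3_c54) (LK LD1_c3 LD2_c4 LD3_c21) Lrfl Lrfl
theorem f80479 : Led Lsl_et (LP (LK LD1_c4 LD2_c26 LD3_c32)) = (LP (LK LD1_c8 LD2_c50 LD3_c39)) :=
  Lre_e IH (LK LD1_c4 LD2_c26 LD3_c32) (LK LD1_c8 LD2_c50 LD3_c39) Lrfl Lrfl
theorem f80480 : Led Lsl_ct (LP (LK LD1_c3 LD2_c4 LD3_c21)) = (LP (LK LD1_c4 LD2_c26 LD3_c32)) :=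
  Lgr Lrot15 (Lpe (f38088 IH) (Lpr_cf (f80472 IH) (Lpe (f80479 IH) (Lpn (LP (LK LD1_c4 LD2_c26 LD3_c32))))))
theorem f80495 : Led Lsl_dt (LP (LK LD1_c4 LD2_c26 LD3_c32)) = (LP (LK LD1_c8 LD2_c50 LD3_c38)) :=
  Lre_d IH (LK LD1_c4 LD2_c26 LD3_c32) (LK LD1_c8 LD2_c50 LD3_c38) Lrfl Lrfl
theorem f80496 : Led Lsl_ct (LP (LK LD1_c8 LD2_c50 LD3_c38)) = (LP (LK LD1_c16 LD2_c31 LD3_c50)) :=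
  Lre_c IH (LK LD1_c8 LD2_c50 LD3_c38) (LK LD1_c16 LD2_c31 LD3_c50) Lrfl Lrfl
theorem f80502 : Led Lsl_ct (LP (LK LD1_c16 LD2_c31 LD3_c50)) = (LP (LK LD1_c8 LD2_c50 LD3_c38)) :=
  Lre_c IH (LK LD1_c16 LD2_c31 LD3_c50) (LK LD1_c8 LD2_c50 LD3_c38) Lrfl Lrfl
theorem f205537 : Led Lsl_at (LP (LK LD1_c8 LD2_c46 LD3_c35)) = (LP (LK LD1_c6 LD2_c24 LD3_c55)) :=
  Lgr Lrot100 (Lpr_af (K11.f205535 IH) (Lpn (LP (LK LD1_c6 LD2_c24 LD3_c55))))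
theorem f75767 : Led Lsl_ft (LP (LK LD1_c4 LD2_c24 LD3_c26)) = (LP (LK LD1_c8 LD2_c46 LD3_c35)) :=
  Lre_f IH (LK LD1_c4 LD2_c24 LD3_c26) (LK LD1_c8 LD2_c46 LD3_c35) Lrfl Lrfl
theorem f70724 : Led Lsl_dt (LP (LK LD1_c4 LD2_c24 LD3_c26)) = (LP (LK LD1_c2 LD2_c9 LD3_c39)) :=
  Lre_d IH (LK LD1_c4 LD2_c24 LD3_c26) (LK LD1_c2 LD2_c9 LD3_c39) Lrfl Lrfl
theorem f75764 : Led Lsl_dt (LP (LK LD1_c6 LD2_c14 LD3_c57)) = (LP (LK LD1_c12 LD2_c8 LD3_c16)) :=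
  Lre_d IH (LK LD1_c6 LD2_c14 LD3_c57) (LK LD1_c12 LD2_c8 LD3_c16) Lrfl Lrfl
theorem f75765 : Led Lsl_ct (LP (LK LD1_c12 LD2_c8 LD3_c16)) = (LP (LK LD1_c21 LD2_c14 LD3_c35)) :=
  Lre_c IH (LK LD1_c12 LD2_c8 LD3_c16) (LK LD1_c21 LD2_c14 LD3_c35) Lrfl Lrfl
theorem f205635 : Led Lsl_dt (LP (LK LD1_c21 LD2_c14 LD3_c35)) = (LP (LK LD1_c12 LD2_c22 LD3_c50)) :=
  Lgr Lrot120 (Lpe (f75765 IH) (Lpe (f75764 IH) (Lpe (K37.f70727 IH) (Lpe (K37.f38042 IH) (Lpe (K37.f75658 IH) (Lpe (f70724 IH) (Lpr_ft (f75767 IH) (Lpr_at (f205537 IH) (Lpe (K11.f205488 IH) (Lpn (LP (LK LD1_c12 LD2_c22 LD3_c50))))))))))))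
theorem f205637 : Led Lsl_df (LP (LK LD1_c21 LD2_c14 LD3_c35)) = (LP (LK LD1_c12 LD2_c22 LD3_c50)) :=
  Lgr Lrot38 (Lpr_dt (f205635 IH) (Lpn (LP (LK LD1_c12 LD2_c22 LD3_c50))))
theorem f205644 : Led Lsl_ft (LP (LK LD1_c21 LD2_c14 LD3_c35)) = (LP (LK LD1_c12 LD2_c22 LD3_c49)) :=
  Lgr Lrot54 (Lpr_df (f205637 IH) (Lpe (K11.f205565 IH) (Lpe (K11.f205495 IH) (Lpn (LP (LK LD1_c12 LD2_c22 LD3_c49))))))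
theorem f205517 : Led Lsl_dt (LP (LK LD1_c6 LD2_c24 LD3_c54)) = (LP (LK LD1_c12 LD2_c22 LD3_c49)) :=
  Lre_d IH (LK LD1_c6 LD2_c24 LD3_c54) (LK LD1_c12 LD2_c22 LD3_c49) Lrfl Lrfl
theorem f205576 : Led Lsl_af (LP (LK LD1_c16 LD2_c25 LD3_c10)) = (LP (LK LD1_c12 LD2_c22 LD3_c49)) :=
  Lgr Lrot117 (Lpr_dt (f75763 IH) (Lpr_at (K11.f205566 IH) (Lpr_dt (f205517 IH) (Lpn (LP (LK LD1_c12 LD2_c22 LD3_c49))))))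
theorem f205633 : Led Lsl_gt (LP (LK LD1_c26 LD2_c22 LD3_c49)) = (LP (LK LD1_c16 LD2_c25 LD3_c10)) :=
  Lre_g IH (LK LD1_c26 LD2_c22 LD3_c49) (LK LD1_c16 LD2_c25 LD3_c10) Lrfl Lrfl
theorem f205647 : Led Lsl_gt (LP (LK LD1_c21 LD2_c14 LD3_c35)) = (LP (LK LD1_c26 LD2_c22 LD3_c49)) :=
  Lgr Lrot5 (Lpr_ft (f205644 IH) (Lpe (f205576 IH) (Lpe (f205633 IH) (Lpn (LP (LK LD1_c26 LD2_c22 LD3_c49))))))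
theorem f543479 : Led Lsl_df (LP (LK LD1_c16 LD2_c31 LD3_c50)) = (LP (LK LD1_c26 LD2_c22 LD3_c49)) :=
  Lgr Lrot174 (Lpr_ct (f80502 IH) (Lpe (f80495 IH) (Lpe (K37.f420669 IH) (Lpe (K37.f201955 IH) (Lpr_gf (K37.f420703 IH) (Lpr_ct (f543473 IH) (Lpr_gt (f205559 IH) (Lpe (f205637 IH) (Lpr_gt (f205647 IH) (Lpn (LP (LK LD1_c26 LD2_c22 LD3_c49))))))))))))
theorem f543481 : Led Lsl_dt (LP (LK LD1_c16 LD2_c31 LD3_c50)) = (LP (LK LD1_c26 LD2_c22 LD3_c49)) :=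
  Lgr Lrot42 (Lpr_df (f543479 IH) (Lpn (LP (LK LD1_c26 LD2_c22 LD3_c49))))
theorem f80490 : Led Lsl_cf (LP (LK LD1_c3 LD2_c4 LD3_c21)) = (LP (LK LD1_c4 LD2_c26 LD3_c32)) :=
  Lgr Lrot11 (Lpr_ct (f80480 IH) (Lpn (LP (LK LD1_c4 LD2_c26 LD3_c32))))
theorem f38089 : Led Lsl_gt (LP (LK LD1_c3 LD2_c4 LD3_c21)) = (LP (LK LD1_c1 LD2_c28 LD3_c11)) :=
  Lre_g IH (LK LD1_c3 LD2_c4 LD3_c21) (LK LD1_c1 LD2_c28 LD3_c11) Lrfl Lrfl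
theorem f75762 : Led Lsl_ct (LP (LK LD1_c8 LD2_c46 LD3_c34)) = (LP (LK LD1_c4 LD2_c24 LD3_c26)) :=
  Lre_c IH (LK LD1_c8 LD2_c46 LD3_c34) (LK LD1_c4 LD2_c24 LD3_c26) Lrfl Lrfl
theorem f80523 : Led Lsl_gt (LP (LK LD1_c16 LD2_c25 LD3_c9)) = (LP (LK LD1_c8 LD2_c46 LD3_c34)) :=
  Lre_g IH (LK LD1_c16 LD2_c25 LD3_c9) (LK LD1_c8 LD2_c46 LD3_c34) Lrfl Lrfl
theorem f420671 : Led Lsl_ct (LP (LK LD1_c8 LD2_c50 LD3_c41)) = (LP (LK LD1_c16 LD2_c25 LD3_c9)) :=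
  Lgr Lrot152 (Lpe (K37.f420662 IH) (Lpe (K37.f210848 IH) (Lpr_gt (K37.f420669 IH) (Lpe (f80490 IH) (Lpr_gt (f38089 IH) (Lpr_ct (K37.f70434 IH) (Lpe (f70724 IH) (Lpe (f75762 IH) (Lpe (f80523 IH) (Lpn (LP (LK LD1_c16 LD2_c25 LD3_c9))))))))))))
theorem f80602 : Led Lsl_ct (LP (LK LD1_c16 LD2_c31 LD3_c44)) = (LP (LK LD1_c8 LD2_c50 LD3_c35)) :=
  Lre_c IH (LK LD1_c16 LD2_c31 LD3_c44) (LK LD1_c8 LD2_c50 LD3_c35) Lrfl Lrfl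
theorem f420688 : Led Lsl_df (LP (LK LD1_c16 LD2_c31 LD3_c44)) = (LP (LK LD1_c26 LD2_c22 LD3_c48)) :=
  Lgr Lrot174 (Lpr_ct (f80602 IH) (Lpe (K37.f80467 IH) (Lpe (K37.f80465 IH) (Lpe (K4.f80453 IH) (Lpe (K4.f80906 IH) (Lpr_ct (f420671 IH) (Lpr_gt (f80523 IH) (Lpr_dt (f205551 IH) (Lpr_gt (f420687 IH) (Lpn (LP (LK LD1_c26 LD2_c22 LD3_c48))))))))))))
theorem f420692 : Led Lsl_dt (LP (LK LD1_c16 LD2_c31 LD3_c44)) = (LP (LK LD1_c26 LD2_c22 LD3_c48)) :=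
  Lgr Lrot42 (Lpr_df (f420688 IH) (Lpn (LP (LK LD1_c26 LD2_c22 LD3_c48))))
theorem f80601 : Led Lsl_ct (LP (LK LD1_c8 LD2_c50 LD3_c35)) = (LP (LK LD1_c16 LD2_c31 LD3_c44)) :=
  Lre_c IH (LK LD1_c8 LD2_c50 LD3_c35) (LK LD1_c16 LD2_c31 LD3_c44) Lrfl Lrfl
theorem f70738 : Led Lsl_dt (LP (LK LD1_c6 LD2_c14 LD3_c50)) = (LP (LK LD1_c3 LD2_c4 LD3_c20)) :=
  Lre_d IH (LK LD1_c6 LD2_c14 LD3_c50) (LK LD1_c3 LD2_c4 LD3_c20) Lrfl Lrfl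
theorem f543475 : Led Lsl_ct (LP (LK LD1_c12 LD2_c7 LD3_c56)) = (LP (LK LD1_c6 LD2_c14 LD3_c50)) :=
  Lre_c IH (LK LD1_c12 LD2_c7 LD3_c56) (LK LD1_c6 LD2_c14 LD3_c50) Lrfl Lrfl
theorem f543484 : Led Lsl_dt (LP (LK LD1_c21 LD2_c14 LD3_c15)) = (LP (LK LD1_c12 LD2_c7 LD3_c56)) :=
  Lre_d IH (LK LD1_c21 LD2_c14 LD3_c15) (LK LD1_c12 LD2_c7 LD3_c56) Lrfl Lrfl
theorem f560405 : Led Lsl_ct (LP (LK LD1_c26 LD2_c22 LD3_c49)) = (LP (LK LD1_c21 LD2_c14 LD3_c15)) :=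
  Lgr Lrot176 (Lpe (f543481 IH) (Lpe (f80496 IH) (Lpe (f80495 IH) (Lpe (f80480 IH) (Lpe (f80492 IH) (Lpe (f80493 IH) (Lpe (f80494 IH) (Lpr_cf (f560401 IH) (Lpe (f420692 IH) (Lpe (f80601 IH) (Lpe (K37.f80467 IH) (Lpr_cf (K37.f543470 IH) (Lpe (f70738 IH) (Lpe (f543475 IH) (Lpe (f543484 IH) (Lpn (LP (LK LD1_c21 LD2_c14 LD3_c15))))))))))))))))))
theorem f560407 : Led Lsl_cf (LP (LK LD1_c26 LD2_c22 LD3_c49)) = (LP (LK LD1_c21 LD2_c14 LD3_c15)) :=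
  Lgr Lrot11 (Lpr_ct (f560405 IH) (Lpn (LP (LK LD1_c21 LD2_c14 LD3_c15))))
theorem f560296 : Led Lsl_ct (LP (LK LD1_c13 LD2_c24 LD3_c36)) = (LP (LK LD1_c16 LD2_c25 LD3_c10)) :=
  Lgr Lrot15 (Lpe (K29.f463353 IH) (Lpr_cf (f560288 IH) (Lpe (f560160 IH) (Lpn (LP (LK LD1_c16 LD2_c25 LD3_c10))))))
theorem f463318 : Led Lsl_bt (LP (LK LD1_c13 LD2_c24 LD3_c36)) = (LP (LK LD1_c7 LD2_c4 LD3_c26)) :=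
  Lre_b IH (LK LD1_c13 LD2_c24 LD3_c36) (LK LD1_c7 LD2_c4 LD3_c26) Lrfl Lrfl
theorem f462860 : Led Lsl_ct (LP (LK LD1_c14 LD2_c6 LD3_c31)) = (LP (LK LD1_c23 LD2_c40 LD3_c31)) :=
  Lre_c IH (LK LD1_c14 LD2_c6 LD3_c31) (LK LD1_c23 LD2_c40 LD3_c31) Lrfl Lrfl
theorem f123747 : Led Lsl_ct (LP (LK LD1_c23 LD2_c40 LD3_c50)) = (LP (LK LD1_c14 LD2_c6 LD3_c45)) :=
  Lre_c IH (LK LD1_c23 LD2_c40 LD3_c50) (LK LD1_c14 LD2_c6 LD3_c45) Lrfl Lrfl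
theorem f533266 : Led Lsl_gf (LP (LK LD1_c23 LD2_c40 LD3_c50)) = (LP (LK LD1_c23 LD2_c40 LD3_c31)) :=
  Lgr Lrot104 (Lpr_ct (f123747 IH) (Lpe (K8.f123681 IH) (Lpe (K24.f123728 IH) (Lpr_gf (K28.f463453 IH) (Lpe (K28.f463397 IH) (Lpe (K34.f463437 IH) (Lpe (K34.f463445 IH) (Lpr_gt (K37.f533262 IH) (Lpr_ct (f462860 IH) (Lpn (LP (LK LD1_c23 LD2_c40 LD3_c31))))))))))))
theorem f123735 : Led Lsl_ct (LP (LK LD1_c14 LD2_c6 LD3_c45)) = (LP (LK LD1_c23 LD2_c40 LD3_c50)) :=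
  Lre_c IH (LK LD1_c14 LD2_c6 LD3_c45) (LK LD1_c23 LD2_c40 LD3_c50) Lrfl Lrfl
theorem f560409 : Led Lsl_gt (LP (LK LD1_c13 LD2_c57 LD3_c45)) = (LP (LK LD1_c21 LD2_c14 LD3_c15)) :=
  Lgr Lrot82 (Lpr_bf (K8.f147146 IH) (Lpr_ct (f123735 IH) (Lpr_gf (f533266 IH) (Lpe (f462860 IH) (Lpr_bt (K34.f462853 IH) (Lpr_gf (K28.f463321 IH) (Lpe (f463318 IH) (Lpr_ct (f560296 IH) (Lpe (f205633 IH) (Lpr_cf (f560407 IH) (Lpn (LP (LK LD1_c21 LD2_c14 LD3_c15)))))))))))))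
theorem f147173 : Led Lsl_at (LP (LK LD1_c13 LD2_c57 LD3_c46)) = (LP (LK LD1_c7 LD2_c23 LD3_c11)) :=
  Lre_a IH (LK LD1_c13 LD2_c57 LD3_c46) (LK LD1_c7 LD2_c23 LD3_c11) Lrfl Lrfl
theorem f147202 : Led Lsl_ft (LP (LK LD1_c7 LD2_c23 LD3_c4)) = (LP (LK LD1_c13 LD2_c57 LD3_c46)) :=
  Lre_f IH (LK LD1_c7 LD2_c23 LD3_c4) (LK LD1_c13 LD2_c57 LD3_c46) Lrfl Lrfl
theorem f544198 : Led Lsl_gf (LP (LK LD1_c12 LD2_c8 LD3_c8)) = (LP (LK LD1_c7 LD2_c23 LD3_c4)) :=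
  Lgr Lrot47 (Lpr_gt (K37.f544196 IH) (Lpe (f147173 IH) (Lpe (f147202 IH) (Lpn (LP (LK LD1_c7 LD2_c23 LD3_c4))))))
theorem f463362 : Led Lsl_dt (LP (LK LD1_c7 LD2_c4 LD3_c25)) = (LP (LK LD1_c13 LD2_c24 LD3_c36)) :=
  Lre_d IH (LK LD1_c7 LD2_c4 LD3_c25) (LK LD1_c13 LD2_c24 LD3_c36) Lrfl Lrfl
theorem f560415 : Led Lsl_cf (LP (LK LD1_c13 LD2_c24 LD3_c36)) = (LP (LK LD1_c16 LD2_c25 LD3_c10)) :=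
  Lgr Lrot99 (Lpe (f463362 IH) (Lpe (K29.f463360 IH) (Lpe (f544221 IH) (Lpe (K37.f80509 IH) (Lpr_gf (f544198 IH) (Lpe (K8.f147159 IH) (Lpr_gt (f560409 IH) (Lpe (f560407 IH) (Lpr_gt (f205633 IH) (Lpn (LP (LK LD1_c16 LD2_c25 LD3_c10))))))))))))
theorem f560418 : Led Lsl_at (LP (LK LD1_c13 LD2_c24 LD3_c36)) = (LP (LK LD1_c21 LD2_c14 LD3_c37)) :=
  Lgr Lrot107 (Lpr_cf (f560415 IH) (Lpr_af (f205576 IH) (Lpe (K11.f205496 IH) (Lpn (LP (LK LD1_c21 LD2_c14 LD3_c37))))))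
theorem f440455 : Led Lsl_bt (LP (LK LD1_c3 LD2_c40 LD3_c56)) = (LP (LK LD1_c7 LD2_c21 LD3_c54)) :=
  Lre_b IH (LK LD1_c3 LD2_c40 LD3_c56) (LK LD1_c7 LD2_c21 LD3_c54) Lrfl Lrfl
theorem f463319 : Led Lsl_ft (LP (LK LD1_c7 LD2_c21 LD3_c54)) = (LP (LK LD1_c13 LD2_c24 LD3_c36)) :=
  Lgr Lrot75 (Lpe (f440455 IH) (Lpr_ff (K28.f463316 IH) (Lpe (f463318 IH) (Lpn (LP (LK LD1_c13 LD2_c24 LD3_c36))))))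
theorem f75729 : Led Lsl_ft (LP (LK LD1_c21 LD2_c14 LD3_c37)) = (LP (LK LD1_c12 LD2_c8 LD3_c16)) :=
  Lre_f IH (LK LD1_c21 LD2_c14 LD3_c37) (LK LD1_c12 LD2_c8 LD3_c16) Lrfl Lrfl
theorem f560424 : Led Lsl_af (LP (LK LD1_c7 LD2_c21 LD3_c54)) = (LP (LK LD1_c12 LD2_c8 LD3_c16)) :=
  Lgr Lrot45 (Lpr_ft (f463319 IH) (Lpr_at (f560418 IH) (Lpr_ft (f75729 IH) (Lpn (LP (LK LD1_c12 LD2_c8 LD3_c16))))))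
theorem f463374 : Led Lsl_et (LP (LK LD1_c7 LD2_c21 LD3_c54)) = (LP (LK LD1_c13 LD2_c55 LD3_c22)) :=
  Lre_e IH (LK LD1_c7 LD2_c21 LD3_c54) (LK LD1_c13 LD2_c55 LD3_c22) Lrfl Lrfl
theorem f559044 : Led Lsl_et (LP (LK LD1_c21 LD2_c14 LD3_c36)) = (LP (LK LD1_c12 LD2_c8 LD3_c16)) :=
  Lre_e IH (LK LD1_c21 LD2_c14 LD3_c36) (LK LD1_c12 LD2_c8 LD3_c16) Lrfl Lrfl
theorem f560433 : Led Lsl_at (LP (LK LD1_c13 LD2_c55 LD3_c22)) = (LP (LK LD1_c21 LD2_c14 LD3_c36)) :=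
  Lgr Lrot80 (Lpe (f463374 IH) (Lpr_af (f560424 IH) (Lpe (f559044 IH) (Lpn (LP (LK LD1_c21 LD2_c14 LD3_c36))))))
theorem f463370 : Led Lsl_ft (LP (LK LD1_c23 LD2_c26 LD3_c7)) = (LP (LK LD1_c13 LD2_c55 LD3_c22)) :=
  Lre_f IH (LK LD1_c23 LD2_c26 LD3_c7) (LK LD1_c13 LD2_c55 LD3_c22) Lrfl Lrfl
theorem f560446 : Led Lsl_ft (LP (LK LD1_c21 LD2_c14 LD3_c36)) = (LP (LK LD1_c29 LD2_c55 LD3_c25)) :=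
  Lre_f IH (LK LD1_c21 LD2_c14 LD3_c36) (LK LD1_c29 LD2_c55 LD3_c25) Lrfl Lrfl
theorem f560447 : Led Lsl_af (LP (LK LD1_c23 LD2_c26 LD3_c7)) = (LP (LK LD1_c29 LD2_c55 LD3_c25)) :=
  Lgr Lrot45 (Lpr_ft (f463370 IH) (Lpr_at (f560433 IH) (Lpr_ft (f560446 IH) (Lpn (LP (LK LD1_c29 LD2_c55 LD3_c25))))))
theorem f554059 : Led Lsl_dt (LP (LK LD1_c21 LD2_c14 LD3_c36)) = (LP (LK LD1_c12 LD2_c8 LD3_c31)) :=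
  Lre_d IH (LK LD1_c21 LD2_c14 LD3_c36) (LK LD1_c12 LD2_c8 LD3_c31) Lrfl Lrfl
theorem f546510 : Led Lsl_dt (LP (LK LD1_c4 LD2_c33 LD3_c7)) = (LP (LK LD1_c2 LD2_c44 LD3_c30)) :=
  Lgr Lrot42 (Lpr_df (K38.f546507 IH) (Lpn (LP (LK LD1_c2 LD2_c44 LD3_c30))))
theorem f172387 : Led Lsl_cf (LP (LK LD1_c4 LD2_c57 LD3_c30)) = (LP (LK LD1_c9 LD2_c3 LD3_c31)) :=
  Lgr Lrot11 (Lpr_ct (K9.f172379 IH) (Lpn (LP (LK LD1_c9 LD2_c3 LD3_c31))))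
theorem f211970 : Led Lsl_bt (LP (LK LD1_c4 LD2_c31 LD3_c3)) = (LP (LK LD1_c9 LD2_c0 LD3_c8)) :=
  Lre_b IH (LK LD1_c4 LD2_c31 LD3_c3) (LK LD1_c9 LD2_c0 LD3_c8) Lrfl Lrfl
theorem f383303 : Led Lsl_dt (LP (LK LD1_c9 LD2_c0 LD3_c8)) = (LP (LK LD1_c4 LD2_c57 LD3_c30)) :=
  Lgr Lrot79 (Lpe (f211970 IH) (Lpr_df (f383289 IH) (Lpe (K9.f168559 IH) (Lpn (LP (LK LD1_c4 LD2_c57 LD3_c30))))))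
theorem f164886 : Led Lsl_gt (LP (LK LD1_c5 LD2_c37 LD3_c6)) = (LP (LK LD1_c2 LD2_c44 LD3_c28)) :=
  Lre_g IH (LK LD1_c5 LD2_c37 LD3_c6) (LK LD1_c2 LD2_c44 LD3_c28) Lrfl Lrfl
theorem f211837 : Led Lsl_bt (LP (LK LD1_c9 LD2_c0 LD3_c8)) = (LP (LK LD1_c4 LD2_c31 LD3_c3)) :=
  Lre_b IH (LK LD1_c9 LD2_c0 LD3_c8) (LK LD1_c4 LD2_c31 LD3_c3) Lrfl Lrfl
theorem f211838 : Led Lsl_cf (LP (LK LD1_c5 LD2_c37 LD3_c6)) = (LP (LK LD1_c9 LD2_c0 LD3_c8)) :=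
  Lgr Lrot160 (Lpr_gt (f164886 IH) (Lpe (K11.f164843 IH) (Lpr_bt (K11.f164742 IH) (Lpe (K9.f168189 IH) (Lpr_ct (K9.f56525 IH) (Lpr_gt (K12.f211834 IH) (Lpe (K12.f211805 IH) (Lpr_bt (K17.f211833 IH) (Lpr_gt (f211836 IH) (Lpe (f211837 IH) (Lpn (LP (LK LD1_c9 LD2_c0 LD3_c8)))))))))))))
theorem f211971 : Led Lsl_ct (LP (LK LD1_c5 LD2_c37 LD3_c6)) = (LP (LK LD1_c9 LD2_c0 LD3_c8)) :=
  Lgr Lrot59 (Lpr_cf (f211838 IH) (Lpn (LP (LK LD1_c9 LD2_c0 LD3_c8))))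
theorem f403158 : Led Lsl_ft (LP (LK LD1_c3 LD2_c57 LD3_c23)) = (LP (LK LD1_c2 LD2_c9 LD3_c3)) :=
  Lgr Lrot48 (Lpr_ff (K38.f403151 IH) (Lpn (LP (LK LD1_c2 LD2_c9 LD3_c3))))
def v2434 : LQ := Led Lsl_et (LP (LK LD1_c1 LD2_c45 LD3_c22))
theorem f519722 : Led Lsl_et (LP (LK LD1_c1 LD2_c45 LD3_c22)) = v2434 :=
  Lrfl
theorem f519725 : Led Lsl_ef (LP (LK LD1_c1 LD2_c45 LD3_c22)) = v2434 :=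
  Lgr Lrot88 (Lpr_et (f519722 IH) (Lpn v2434))
def v2427 : LQ := Led Lsl_et (LP (LK LD1_c1 LD2_c45 LD3_c10))
theorem f519645 : Led Lsl_et (LP (LK LD1_c1 LD2_c45 LD3_c10)) = v2427 :=
  Lrfl
theorem f519727 : Led Lsl_ct v2427 = v2434 :=
  Lgr Lrot15 (Lpe (f519645 IH) (Lpr_cf (K3.f17504 IH) (Lpr_ef (f519725 IH) (Lpn v2434))))
theorem f425450 : Led Lsl_ft (LP (LK LD1_c7 LD2_c14 LD3_c22)) = (LP (LK LD1_c3 LD2_c37 LD3_c0)) :=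
  Lre_f IH (LK LD1_c7 LD2_c14 LD3_c22) (LK LD1_c3 LD2_c37 LD3_c0) Lrfl Lrfl
theorem f552919 : Led Lsl_dt (LP (LK LD1_c8 LD2_c44 LD3_c14)) = (LP (LK LD1_c7 LD2_c14 LD3_c22)) :=
  Lgr Lrot60 (Lpe (f270058 IH) (Lpr_df (f552914 IH) (Lpe (f425450 IH) (Lpn (LP (LK LD1_c7 LD2_c14 LD3_c22))))))
theorem f553011 : Led Lsl_df (LP (LK LD1_c8 LD2_c44 LD3_c14)) = (LP (LK LD1_c7 LD2_c14 LD3_c22)) :=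
  Lgr Lrot38 (Lpr_dt (f552919 IH) (Lpn (LP (LK LD1_c7 LD2_c14 LD3_c22))))
theorem f270005 : Led Lsl_at (LP (LK LD1_c8 LD2_c41 LD3_c13)) = (LP (LK LD1_c9 LD2_c38 LD3_c5)) :=
  Lgr Lrot100 (Lpr_af (K16.f270002 IH) (Lpn (LP (LK LD1_c9 LD2_c38 LD3_c5))))
theorem f411534 : Led Lsl_cf (LP (LK LD1_c8 LD2_c41 LD3_c13)) = (LP (LK LD1_c4 LD2_c23 LD3_c15)) :=
  Lgr Lrot1 (Lpr_at (f270005 IH) (Lpr_ct (f411532 IH) (Lpe (f270067 IH) (Lpn (LP (LK LD1_c4 LD2_c23 LD3_c15))))))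
theorem f411516 : Led Lsl_ft (LP (LK LD1_c8 LD2_c44 LD3_c14)) = (LP (LK LD1_c4 LD2_c23 LD3_c15)) :=
  Lre_f IH (LK LD1_c8 LD2_c44 LD3_c14) (LK LD1_c4 LD2_c23 LD3_c15) Lrfl Lrfl
theorem f411537 : Led Lsl_ct (LP (LK LD1_c16 LD2_c16 LD3_c20)) = (LP (LK LD1_c8 LD2_c44 LD3_c14)) :=
  Lgr Lrot40 (Lpe (K16.f270015 IH) (Lpr_cf (f411534 IH) (Lpe (f411516 IH) (Lpn (LP (LK LD1_c8 LD2_c44 LD3_c14))))))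
theorem f552905 : Led Lsl_df (LP (LK LD1_c3 LD2_c36 LD3_c38)) = (LP (LK LD1_c4 LD2_c23 LD3_c5)) :=
  Lgr Lrot78 (Lpr_ft (f464892 IH) (Lpr_dt (f552901 IH) (Lpr_ft (K13.f237684 IH) (Lpn (LP (LK LD1_c4 LD2_c23 LD3_c5))))))
theorem f237633 : Led Lsl_gt (LP (LK LD1_c4 LD2_c23 LD3_c5)) = (LP (LK LD1_c8 LD2_c43 LD3_c57)) :=
  Lre_g IH (LK LD1_c4 LD2_c23 LD3_c5) (LK LD1_c8 LD2_c43 LD3_c57) Lrfl Lrfl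
theorem f237672 : Led Lsl_ct (LP (LK LD1_c8 LD2_c43 LD3_c57)) = (LP (LK LD1_c16 LD2_c21 LD3_c6)) :=
  Lre_c IH (LK LD1_c8 LD2_c43 LD3_c57) (LK LD1_c16 LD2_c21 LD3_c6) Lrfl Lrfl
theorem f553265 : Led Lsl_gf (LP (LK LD1_c16 LD2_c16 LD3_c20)) = (LP (LK LD1_c16 LD2_c21 LD3_c6)) :=
  Lgr Lrot104 (Lpr_ct (f411537 IH) (Lpr_df (f553011 IH) (Lpr_cf (K29.f425432 IH) (Lpr_gf (K29.f470837 IH) (Lpe (K29.f160611 IH) (Lpe (K29.f160502 IH) (Lpr_df (f552905 IH) (Lpr_gt (f237633 IH) (Lpr_ct (f237672 IH) (Lpn (LP (LK LD1_c16 LD2_c21 LD3_c6))))))))))))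
theorem f411527 : Led Lsl_cf (LP (LK LD1_c16 LD2_c16 LD3_c20)) = (LP (LK LD1_c8 LD2_c44 LD3_c14)) :=
  Lgr Lrot1 (Lpr_at (K16.f270016 IH) (Lpr_ct (f411525 IH) (Lpe (f411509 IH) (Lpn (LP (LK LD1_c8 LD2_c44 LD3_c14))))))
theorem f553263 : Led Lsl_bt (LP (LK LD1_c8 LD2_c44 LD3_c14)) = (LP (LK LD1_c7 LD2_c14 LD3_c26)) :=
  Lgr Lrot95 (Lpr_df (f553011 IH) (Lpe (K29.f425426 IH) (Lpe (K29.f425311 IH) (Lpn (LP (LK LD1_c7 LD2_c14 LD3_c26))))))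
theorem f553290 : Led Lsl_bt (LP (LK LD1_c3 LD2_c36 LD3_c41)) = (LP (LK LD1_c4 LD2_c23 LD3_c5)) :=
  Lgr Lrot130 (Lpr_ct (K28.f440169 IH) (Lpe (K32.f440168 IH) (Lpr_cf (K32.f470791 IH) (Lpe (K29.f470817 IH) (Lpe (K28.f425533 IH) (Lpe (f553263 IH) (Lpe (f411527 IH) (Lpr_gf (f553265 IH) (Lpe (f237672 IH) (Lpe (f237633 IH) (Lpn (LP (LK LD1_c4 LD2_c23 LD3_c5)))))))))))))
theorem f553297 : Led Lsl_ef (LP (LK LD1_c3 LD2_c36 LD3_c41)) = (LP (LK LD1_c4 LD2_c23 LD3_c4)) :=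
  Lgr Lrot29 (Lpr_bt (f553290 IH) (Lpr_et (K13.f237620 IH) (Lpr_bt (K16.f237626 IH) (Lpn (LP (LK LD1_c4 LD2_c23 LD3_c4))))))
theorem f403071 : Led Lsl_dt (LP (LK LD1_c2 LD2_c8 LD3_c58)) = (LP (LK LD1_c4 LD2_c23 LD3_c4)) :=
  Lre_d IH (LK LD1_c2 LD2_c8 LD3_c58) (LK LD1_c4 LD2_c23 LD3_c4) Lrfl Lrfl
theorem f553324 : v2427 = (LP (LK LD1_c2 LD2_c8 LD3_c58)) :=
  (Llr Lrot71 (Lpe (f519645 IH) (Lpe (K3.f17503 IH) (Lpe (K5.f128176 IH) (Lpe (K28.f106219 IH) (Lpr_ef (f553297 IH) (Lpe (f403071 IH) (Lpn (LP (LK LD1_c2 LD2_c8 LD3_c58)))))))))).symm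
theorem f553329 : v2434 = (LP (LK LD1_c2 LD2_c9 LD3_c3)) :=
  Lefun (Lecon (f519727 IH) (f553324 IH)) (Lfl_cf (K31.f237311 IH))
theorem f98106 : Led Lsl_et (LP (LK LD1_c3 LD2_c33 LD3_c32)) = (LP (LK LD1_c1 LD2_c43 LD3_c29)) :=
  Lre_e IH (LK LD1_c3 LD2_c33 LD3_c32) (LK LD1_c1 LD2_c43 LD3_c29) Lrfl Lrfl
theorem f519723 : Led Lsl_af (LP (LK LD1_c3 LD2_c33 LD3_c32)) = v2434 :=
  Lgr Lrot50 (Lpr_et (f98106 IH) (Lpe (K5.f128209 IH) (Lpr_et (f519722 IH) (Lpn v2434))))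
theorem f10798 : Led Lsl_et (LP (LK LD1_c1 LD2_c43 LD3_c29)) = (LP (LK LD1_c3 LD2_c33 LD3_c32)) :=
  Lre_e IH (LK LD1_c1 LD2_c43 LD3_c29) (LK LD1_c3 LD2_c33 LD3_c32) Lrfl Lrfl
theorem f98089 : Led Lsl_ct (LP (LK LD1_c3 LD2_c33 LD3_c32)) = (LP (LK LD1_c3 LD2_c33 LD3_c23)) :=
  Lgr Lrot15 (Lpe (f10798 IH) (Lpr_cf (K3.f98081 IH) (Lpe (f97383 IH) (Lpn (LP (LK LD1_c3 LD2_c33 LD3_c23))))))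
theorem f98092 : Led Lsl_cf (LP (LK LD1_c3 LD2_c33 LD3_c32)) = (LP (LK LD1_c3 LD2_c33 LD3_c23)) :=
  Lgr Lrot11 (Lpr_ct (f98089 IH) (Lpn (LP (LK LD1_c3 LD2_c33 LD3_c23))))
theorem f98100 : Led Lsl_dt (LP (LK LD1_c7 LD2_c7 LD3_c40)) = (LP (LK LD1_c3 LD2_c33 LD3_c23)) :=
  Lre_d IH (LK LD1_c7 LD2_c7 LD3_c40) (LK LD1_c3 LD2_c33 LD3_c23) Lrfl Lrfl
theorem f98102 : Led Lsl_ct (LP (LK LD1_c13 LD2_c30 LD3_c8)) = (LP (LK LD1_c7 LD2_c7 LD3_c40)) :=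
  Lre_c IH (LK LD1_c13 LD2_c30 LD3_c8) (LK LD1_c7 LD2_c7 LD3_c40) Lrfl Lrfl
theorem f553340 : Led Lsl_dt (LP (LK LD1_c10 LD2_c37 LD3_c36)) = (LP (LK LD1_c13 LD2_c30 LD3_c8)) :=
  Lgr Lrot140 (Lpe (K38.f169240 IH) (Lpr_df (K38.f257014 IH) (Lpe (K38.f197441 IH) (Lpe (K38.f197440 IH) (Lpr_ft (f403158 IH) (Lpq (f553329 IH) (Lpe (f519723 IH) (Lpr_cf (f98092 IH) (Lpe (f98100 IH) (Lpe (f98102 IH) (Lpn (LP (LK LD1_c13 LD2_c30 LD3_c8)))))))))))))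
theorem f169231 : Led Lsl_at (LP (LK LD1_c10 LD2_c37 LD3_c37)) = (LP (LK LD1_c5 LD2_c23 LD3_c33)) :=
  Lre_a IH (LK LD1_c10 LD2_c37 LD3_c37) (LK LD1_c5 LD2_c23 LD3_c33) Lrfl Lrfl
theorem f312922 : Led Lsl_gt (LP (LK LD1_c10 LD2_c35 LD3_c5)) = (LP (LK LD1_c10 LD2_c37 LD3_c36)) :=
  Lgr Lrot5 (Lpr_ft (K38.f312911 IH) (Lpr_at (f169231 IH) (Lpe (K38.f169239 IH) (Lpn (LP (LK LD1_c10 LD2_c37 LD3_c36))))))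
theorem f312921 : Led Lsl_dt (LP (LK LD1_c19 LD2_c10 LD3_c38)) = (LP (LK LD1_c10 LD2_c35 LD3_c5)) :=
  Lre_d IH (LK LD1_c19 LD2_c10 LD3_c38) (LK LD1_c10 LD2_c35 LD3_c5) Lrfl Lrfl
theorem f398445 : Led Lsl_ft (LP (LK LD1_c17 LD2_c54 LD3_c3)) = (LP (LK LD1_c16 LD2_c17 LD3_c7)) :=
  Lgr Lrot75 (Lpr_bf (K31.f398434 IH) (Lpr_ff (K31.f339402 IH) (Lpe (K15.f263782 IH) (Lpn (LP (LK LD1_c16 LD2_c17 LD3_c7))))))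
theorem f188707 : Led Lsl_dt (LP (LK LD1_c17 LD2_c48 LD3_c5)) = (LP (LK LD1_c9 LD2_c40 LD3_c36)) :=
  Lre_d IH (LK LD1_c17 LD2_c48 LD3_c5) (LK LD1_c9 LD2_c40 LD3_c36) Lrfl Lrfl
theorem f349185 : Led Lsl_ff (LP (LK LD1_c17 LD2_c48 LD3_c5)) = (LP (LK LD1_c9 LD2_c41 LD3_c56)) :=
  Lgr Lrot19 (Lpr_dt (f188707 IH) (Lpr_ft (K26.f349178 IH) (Lpr_dt (K38.f263755 IH) (Lpn (LP (LK LD1_c9 LD2_c41 LD3_c56))))))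
theorem f400142 : Led Lsl_cf (LP (LK LD1_c17 LD2_c54 LD3_c3)) = (LP (LK LD1_c17 LD2_c48 LD3_c5)) :=
  Lgr Lrot108 (Lpr_ft (f398445 IH) (Lpr_ct (K15.f263767 IH) (Lpe (f349185 IH) (Lpn (LP (LK LD1_c17 LD2_c48 LD3_c5))))))
theorem f218765 : Led Lsl_bt (LP (LK LD1_c17 LD2_c48 LD3_c5)) = (LP (LK LD1_c9 LD2_c40 LD3_c37)) :=
  Lre_b IH (LK LD1_c17 LD2_c48 LD3_c5) (LK LD1_c9 LD2_c40 LD3_c37) Lrfl Lrfl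
theorem f217666 : Led Lsl_bt (LP (LK LD1_c4 LD2_c55 LD3_c46)) = (LP (LK LD1_c9 LD2_c43 LD3_c13)) :=
  Lre_b IH (LK LD1_c4 LD2_c55 LD3_c46) (LK LD1_c9 LD2_c43 LD3_c13) Lrfl Lrfl
theorem f400167 : Led Lsl_gf (LP (LK LD1_c14 LD2_c58 LD3_c22)) = (LP (LK LD1_c9 LD2_c43 LD3_c13)) :=
  Lgr Lrot124 (Lpr_bf (K18.f236829 IH) (Lpr_ct (K18.f168459 IH) (Lpr_gt (K31.f220458 IH) (Lpr_cf (f400142 IH) (Lpr_bt (f218765 IH) (Lpe (K13.f221545 IH) (Lpr_ct (K12.f217820 IH) (Lpr_gt (K12.f199070 IH) (Lpe (K12.f217668 IH) (Lpr_bt (f217666 IH) (Lpn (LP (LK LD1_c9 LD2_c43 LD3_c13)))))))))))))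
theorem f297373 : Led Lsl_bt (LP (LK LD1_c26 LD2_c18 LD3_c24)) = (LP (LK LD1_c16 LD2_c20 LD3_c23)) :=
  Lre_b IH (LK LD1_c26 LD2_c18 LD3_c24) (LK LD1_c16 LD2_c20 LD3_c23) Lrfl Lrfl
theorem f397394 : Led Lsl_dt (LP (LK LD1_c19 LD2_c3 LD3_c61)) = (LP (LK LD1_c26 LD2_c18 LD3_c24)) :=
  Lgr Lrot79 (Lpr_bf (K38.f310900 IH) (Lpr_df (f397390 IH) (Lpe (f297373 IH) (Lpn (LP (LK LD1_c26 LD2_c18 LD3_c24))))))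
theorem f397398 : Led Lsl_df (LP (LK LD1_c19 LD2_c3 LD3_c61)) = (LP (LK LD1_c26 LD2_c18 LD3_c24)) :=
  Lgr Lrot38 (Lpr_dt (f397394 IH) (Lpn (LP (LK LD1_c26 LD2_c18 LD3_c24))))
theorem f224756 : Led Lsl_dt (LP (LK LD1_c10 LD2_c31 LD3_c11)) = (LP (LK LD1_c17 LD2_c48 LD3_c45)) :=
  Lgr Lrot42 (Lpr_df (K19.f224749 IH) (Lpn (LP (LK LD1_c17 LD2_c48 LD3_c45))))
theorem f397400 : Led Lsl_at (LP (LK LD1_c17 LD2_c48 LD3_c45)) = (LP (LK LD1_c26 LD2_c18 LD3_c24)) :=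
  Lgr Lrot51 (Lpe (f224756 IH) (Lpe (K38.f224760 IH) (Lpr_df (f397398 IH) (Lpn (LP (LK LD1_c26 LD2_c18 LD3_c24))))))
theorem f310904 : Led Lsl_af (LP (LK LD1_c9 LD2_c40 LD3_c59)) = (LP (LK LD1_c4 LD2_c55 LD3_c46)) :=
  Lgr Lrot117 (Lpe (K12.f223867 IH) (Lpr_at (K19.f310896 IH) (Lpr_dt (K14.f218548 IH) (Lpn (LP (LK LD1_c4 LD2_c55 LD3_c46))))))
theorem f181883 : Led Lsl_bt (LP (LK LD1_c9 LD2_c43 LD3_c13)) = (LP (LK LD1_c4 LD2_c55 LD3_c46)) :=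
  Lre_b IH (LK LD1_c9 LD2_c43 LD3_c13) (LK LD1_c4 LD2_c55 LD3_c46) Lrfl Lrfl
theorem f397402 : Led Lsl_af (LP (LK LD1_c9 LD2_c43 LD3_c13)) = (LP (LK LD1_c16 LD2_c20 LD3_c23)) :=
  Lgr Lrot36 (Lpr_bt (f181883 IH) (Lpe (f310904 IH) (Lpr_bt (K19.f224649 IH) (Lpr_at (f397400 IH) (Lpr_bt (f297373 IH) (Lpn (LP (LK LD1_c16 LD2_c20 LD3_c23))))))))
theorem f312980 : Led Lsl_at (LP (LK LD1_c10 LD2_c35 LD3_c6)) = (LP (LK LD1_c19 LD2_c10 LD3_c38)) :=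
  Lre_a IH (LK LD1_c10 LD2_c35 LD3_c6) (LK LD1_c19 LD2_c10 LD3_c38) Lrfl Lrfl
theorem f397404 : Led Lsl_ft (LP (LK LD1_c9 LD2_c43 LD3_c13)) = (LP (LK LD1_c10 LD2_c35 LD3_c6)) :=
  Lgr Lrot101 (Lpr_af (f397402 IH) (Lpe (f397385 IH) (Lpe (f312980 IH) (Lpn (LP (LK LD1_c10 LD2_c35 LD3_c6))))))
theorem f400171 : Led Lsl_gt (LP (LK LD1_c14 LD2_c58 LD3_c22)) = (LP (LK LD1_c19 LD2_c10 LD3_c38)) :=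
  Lgr Lrot46 (Lpr_gf (f400167 IH) (Lpr_ft (f397404 IH) (Lpr_at (f312980 IH) (Lpn (LP (LK LD1_c19 LD2_c10 LD3_c38))))))
theorem f98096 : Led Lsl_ct (LP (LK LD1_c7 LD2_c7 LD3_c40)) = (LP (LK LD1_c13 LD2_c30 LD3_c8)) :=
  Lre_c IH (LK LD1_c7 LD2_c7 LD3_c40) (LK LD1_c13 LD2_c30 LD3_c8) Lrfl Lrfl
theorem f97384 : Led Lsl_dt (LP (LK LD1_c3 LD2_c33 LD3_c23)) = (LP (LK LD1_c7 LD2_c7 LD3_c40)) :=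
  Lre_d IH (LK LD1_c3 LD2_c33 LD3_c23) (LK LD1_c7 LD2_c7 LD3_c40) Lrfl Lrfl
theorem f97381 : Led Lsl_gt (LP (LK LD1_c7 LD2_c7 LD3_c39)) = (LP (LK LD1_c3 LD2_c33 LD3_c23)) :=
  Lre_g IH (LK LD1_c7 LD2_c7 LD3_c39) (LK LD1_c3 LD2_c33 LD3_c23) Lrfl Lrfl
theorem f98109 : Led Lsl_dt (LP (LK LD1_c13 LD2_c30 LD3_c7)) = (LP (LK LD1_c7 LD2_c7 LD3_c39)) :=
  Lre_d IH (LK LD1_c13 LD2_c30 LD3_c7) (LK LD1_c7 LD2_c7 LD3_c39) Lrfl Lrfl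
theorem f553350 : Led Lsl_gt (LP (LK LD1_c7 LD2_c56 LD3_c15)) = (LP (LK LD1_c13 LD2_c30 LD3_c7)) :=
  Lgr Lrot94 (Lpe (K18.f211125 IH) (Lpr_gt (f400171 IH) (Lpr_dt (f312921 IH) (Lpr_gt (f312922 IH) (Lpr_dt (f553340 IH) (Lpe (f98096 IH) (Lpe (f97384 IH) (Lpe (f97381 IH) (Lpe (f98109 IH) (Lpn (LP (LK LD1_c13 LD2_c30 LD3_c7))))))))))))
theorem f181358 : Led Lsl_ct (LP (LK LD1_c16 LD2_c52 LD3_c43)) = (LP (LK LD1_c9 LD2_c2 LD3_c27)) :=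
  Lre_c IH (LK LD1_c16 LD2_c52 LD3_c43) (LK LD1_c9 LD2_c2 LD3_c27) Lrfl Lrfl
theorem f411833 : Led Lsl_gt (LP (LK LD1_c16 LD2_c22 LD3_c24)) = (LP (LK LD1_c16 LD2_c52 LD3_c43)) :=
  Lgr Lrot150 (Lpe (K30.f210441 IH) (Lpr_gf (K30.f411820 IH) (Lpe (K30.f181322 IH) (Lpe (K30.f411800 IH) (Lpr_ct (K16.f269058 IH) (Lpr_gt (K30.f411656 IH) (Lpr_ct (K38.f174561 IH) (Lpe (f181364 IH) (Lpe (f181358 IH) (Lpn (LP (LK LD1_c16 LD2_c52 LD3_c43))))))))))))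
theorem f385619 : Led Lsl_ff (LP (LK LD1_c20 LD2_c7 LD3_c25)) = (LP (LK LD1_c16 LD2_c22 LD3_c24)) :=
  Lgr Lrot3 (Lpr_ft (K31.f385612 IH) (Lpn (LP (LK LD1_c16 LD2_c22 LD3_c24))))
theorem f385607 : Led Lsl_at (LP (LK LD1_c20 LD2_c7 LD3_c25)) = (LP (LK LD1_c14 LD2_c59 LD3_c3)) :=
  Lgr Lrot100 (Lpr_af (K31.f385605 IH) (Lpn (LP (LK LD1_c14 LD2_c59 LD3_c3))))
theorem f411835 : Led Lsl_gf (LP (LK LD1_c14 LD2_c59 LD3_c3)) = (LP (LK LD1_c16 LD2_c52 LD3_c43)) :=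
  Lgr Lrot76 (Lpe (f385607 IH) (Lpr_ff (f385619 IH) (Lpr_gt (f411833 IH) (Lpn (LP (LK LD1_c16 LD2_c52 LD3_c43))))))
theorem f181356 : Led Lsl_ct (LP (LK LD1_c9 LD2_c2 LD3_c27)) = (LP (LK LD1_c16 LD2_c52 LD3_c43)) :=
  Lre_c IH (LK LD1_c9 LD2_c2 LD3_c27) (LK LD1_c16 LD2_c52 LD3_c43) Lrfl Lrfl
theorem f553358 : Led Lsl_bt (LP (LK LD1_c9 LD2_c2 LD3_c27)) = (LP (LK LD1_c13 LD2_c30 LD3_c7)) :=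
  Lgr Lrot92 (Lpr_ct (f181356 IH) (Lpe (f411835 IH) (Lpe (K30.f39896 IH) (Lpr_bt (K30.f39895 IH) (Lpr_gt (K11.f35667 IH) (Lpr_ct (K1.f38951 IH) (Lpr_gt (K14.f236888 IH) (Lpe (K13.f236594 IH) (Lpr_bt (K18.f236764 IH) (Lpr_gt (f553350 IH) (Lpn (LP (LK LD1_c13 LD2_c30 LD3_c7)))))))))))))
theorem f406925 : Led Lsl_bt (LP (LK LD1_c8 LD2_c43 LD3_c27)) = (LP (LK LD1_c5 LD2_c41 LD3_c28)) :=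
  Lgr Lrot95 (Lpr_df (K31.f406923 IH) (Lpe (K31.f237325 IH) (Lpe (K31.f237376 IH) (Lpn (LP (LK LD1_c5 LD2_c41 LD3_c28))))))
theorem f553365 : Led Lsl_ff (LP (LK LD1_c8 LD2_c43 LD3_c27)) = (LP (LK LD1_c13 LD2_c30 LD3_c7)) :=
  Lgr Lrot25 (Lpr_bt (f406925 IH) (Lpr_ft (f423580 IH) (Lpr_bt (f553358 IH) (Lpn (LP (LK LD1_c13 LD2_c30 LD3_c7))))))
theorem f553371 : Led Lsl_ft (LP (LK LD1_c8 LD2_c43 LD3_c27)) = (LP (LK LD1_c13 LD2_c30 LD3_c7)) :=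
  Lgr Lrot48 (Lpr_ff (f553365 IH) (Lpn (LP (LK LD1_c13 LD2_c30 LD3_c7))))
theorem f297390 : Led Lsl_at (LP (LK LD1_c8 LD2_c43 LD3_c26)) = (LP (LK LD1_c4 LD2_c22 LD3_c49)) :=
  Lre_a IH (LK LD1_c8 LD2_c43 LD3_c26) (LK LD1_c4 LD2_c22 LD3_c49) Lrfl Lrfl
theorem f225108 : Led Lsl_gt (LP (LK LD1_c8 LD2_c43 LD3_c28)) = (LP (LK LD1_c4 LD2_c22 LD3_c49)) :=
  Lre_g IH (LK LD1_c8 LD2_c43 LD3_c28) (LK LD1_c4 LD2_c22 LD3_c49) Lrfl Lrfl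
theorem f331810 : Led Lsl_gf (LP (LK LD1_c8 LD2_c43 LD3_c28)) = (LP (LK LD1_c14 LD2_c58 LD3_c21)) :=
  Lgr Lrot47 (Lpr_gt (f225108 IH) (Lpe (f297390 IH) (Lpr_ff (K22.f331805 IH) (Lpn (LP (LK LD1_c14 LD2_c58 LD3_c21))))))
theorem f553377 : Led Lsl_af (LP (LK LD1_c8 LD2_c43 LD3_c28)) = (LP (LK LD1_c13 LD2_c30 LD3_c7)) :=
  Lgr Lrot31 (Lpr_gf (f331810 IH) (Lpe (K31.f406921 IH) (Lpr_ft (f553371 IH) (Lpn (LP (LK LD1_c13 LD2_c30 LD3_c7))))))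
theorem f403089 : Led Lsl_bt (LP (LK LD1_c8 LD2_c43 LD3_c28)) = (LP (LK LD1_c16 LD2_c20 LD3_c20)) :=
  Lre_b IH (LK LD1_c8 LD2_c43 LD3_c28) (LK LD1_c16 LD2_c20 LD3_c20) Lrfl Lrfl
theorem f423586 : Led Lsl_at (LP (LK LD1_c5 LD2_c41 LD3_c21)) = (LP (LK LD1_c9 LD2_c2 LD3_c27)) :=
  Lgr Lrot100 (Lpr_af (f423584 IH) (Lpn (LP (LK LD1_c9 LD2_c2 LD3_c27))))
theorem f553381 : Led Lsl_at (LP (LK LD1_c16 LD2_c20 LD3_c20)) = (LP (LK LD1_c9 LD2_c3 LD3_c2)) :=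
  Lgr Lrot67 (Lpe (f403089 IH) (Lpr_af (f553377 IH) (Lpe (f553358 IH) (Lpe (f423586 IH) (Lpr_bf (f181551 IH) (Lpn (LP (LK LD1_c9 LD2_c3 LD3_c2))))))))
theorem f553414 : Led Lsl_ff (LP (LK LD1_c16 LD2_c20 LD3_c20)) = (LP (LK LD1_c9 LD2_c3 LD3_c3)) :=
  Lgr Lrot30 (Lpr_at (f553381 IH) (Lpr_ft (f423627 IH) (Lpr_at (f552555 IH) (Lpn (LP (LK LD1_c9 LD2_c3 LD3_c3))))))
theorem f553416 : Led Lsl_gt (LP (LK LD1_c16 LD2_c22 LD3_c6)) = (LP (LK LD1_c9 LD2_c3 LD3_c2)) :=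
  Lgr Lrot46 (Lpe (f547461 IH) (Lpe (f553414 IH) (Lpr_at (f553381 IH) (Lpn (LP (LK LD1_c9 LD2_c3 LD3_c2))))))
theorem f547445 : Led Lsl_dt (LP (LK LD1_c8 LD2_c45 LD3_c38)) = (LP (LK LD1_c16 LD2_c22 LD3_c6)) :=
  Lgr Lrot27 (Lpr_cf (K38.f547434 IH) (Lpe (K38.f174632 IH) (Lpe (K32.f210364 IH) (Lpe (K38.f210369 IH) (Lpr_df (f427564 IH) (Lpr_gt (K38.f39305 IH) (Lpr_ct (K38.f216600 IH) (Lpr_gt (f418416 IH) (Lpr_ct (f427571 IH) (Lpn (LP (LK LD1_c16 LD2_c22 LD3_c6))))))))))))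
theorem f112846 : Led Lsl_gt (LP (LK LD1_c2 LD2_c54 LD3_c31)) = (LP (LK LD1_c1 LD2_c23 LD3_c13)) :=
  Lre_g IH (LK LD1_c2 LD2_c54 LD3_c31) (LK LD1_c1 LD2_c23 LD3_c13) Lrfl Lrfl
theorem f553419 : Led Lsl_ef (LP (LK LD1_c2 LD2_c54 LD3_c31)) = (LP (LK LD1_c4 LD2_c32 LD3_c53)) :=
  Lgr Lrot114 (Lpr_gt (f112846 IH) (Lpe (K38.f82079 IH) (Lpr_dt (K2.f69446 IH) (Lpr_gt (K4.f81782 IH) (Lpr_df (K4.f112626 IH) (Lpr_et (K38.f112838 IH) (Lpr_gt (K38.f112842 IH) (Lpr_dt (f547445 IH) (Lpr_gt (f553416 IH) (Lpe (K38.f174845 IH) (Lpn (LP (LK LD1_c4 LD2_c32 LD3_c53)))))))))))))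
theorem f552700 : Led Lsl_et (LP (LK LD1_c2 LD2_c51 LD3_c46)) = (LP (LK LD1_c5 LD2_c40 LD3_c19)) :=
  Lgr Lrot185 (Lpr_dt (K7.f141927 IH) (Lpe (K8.f161527 IH) (Lpe (K8.f142085 IH) (Lpr_gf (K35.f161533 IH) (Lpe (f547695 IH) (Lpr_dt (f552690 IH) (Lpe (f181761 IH) (Lpe (K31.f181738 IH) (Lpr_et (K16.f181729 IH) (Lpr_gf (K37.f542301 IH) (Lpn (LP (LK LD1_c5 LD2_c40 LD3_c19)))))))))))))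
theorem f119049 : Led Lsl_et (LP (LK LD1_c4 LD2_c36 LD3_c52)) = (LP (LK LD1_c2 LD2_c15 LD3_c39)) :=
  Lre_e IH (LK LD1_c4 LD2_c36 LD3_c52) (LK LD1_c2 LD2_c15 LD3_c39) Lrfl Lrfl
theorem f553429 : Led Lsl_ft (LP (LK LD1_c2 LD2_c54 LD3_c31)) = (LP (LK LD1_c4 LD2_c36 LD3_c52)) :=
  Lgr Lrot86 (Lpr_ef (f553419 IH) (Lpr_ff (f423637 IH) (Lpe (f552700 IH) (Lpe (K7.f141943 IH) (Lpe (f119049 IH) (Lpn (LP (LK LD1_c4 LD2_c36 LD3_c52))))))))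
theorem f553435 : Led Lsl_ff (LP (LK LD1_c2 LD2_c54 LD3_c31)) = (LP (LK LD1_c4 LD2_c36 LD3_c52)) :=
  Lgr Lrot3 (Lpr_ft (f553429 IH) (Lpn (LP (LK LD1_c4 LD2_c36 LD3_c52))))
theorem f82067 : Led Lsl_gt (LP (LK LD1_c2 LD2_c54 LD3_c33)) = (LP (LK LD1_c5 LD2_c55 LD3_c49)) :=
  Lre_g IH (LK LD1_c2 LD2_c54 LD3_c33) (LK LD1_c5 LD2_c55 LD3_c49) Lrfl Lrfl
theorem f553443 : Led Lsl_at (LP (LK LD1_c2 LD2_c54 LD3_c31)) = (LP (LK LD1_c5 LD2_c55 LD3_c49)) :=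
  Lgr Lrot26 (Lpr_ff (f553435 IH) (Lpe (K37.f542321 IH) (Lpr_gt (f82067 IH) (Lpn (LP (LK LD1_c5 LD2_c55 LD3_c49))))))
theorem f149007 : Led Lsl_af (LP (LK LD1_c4 LD2_c24 LD3_c42)) = (LP (LK LD1_c2 LD2_c15 LD3_c39)) :=
  Lgr Lrot31 (Lpe (K7.f142120 IH) (Lpr_gf (K7.f149001 IH) (Lpe (K7.f141949 IH) (Lpn (LP (LK LD1_c2 LD2_c15 LD3_c39))))))
theorem f545147 : Led Lsl_at (LP (LK LD1_c2 LD2_c54 LD3_c30)) = (LP (LK LD1_c4 LD2_c36 LD3_c52)) :=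
  Lgr Lrot80 (Lpr_ef (K38.f545145 IH) (Lpr_af (f149007 IH) (Lpe (f119049 IH) (Lpn (LP (LK LD1_c4 LD2_c36 LD3_c52))))))
theorem f553453 : Led Lsl_ff (LP (LK LD1_c2 LD2_c54 LD3_c30)) = (LP (LK LD1_c5 LD2_c55 LD3_c49)) :=
  Lgr Lrot30 (Lpr_at (f545147 IH) (Lpe (f553435 IH) (Lpr_at (f553443 IH) (Lpn (LP (LK LD1_c5 LD2_c55 LD3_c49))))))
theorem f553461 : Led Lsl_ft (LP (LK LD1_c2 LD2_c54 LD3_c30)) = (LP (LK LD1_c5 LD2_c55 LD3_c49)) :=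
  Lgr Lrot48 (Lpr_ff (f553453 IH) (Lpn (LP (LK LD1_c5 LD2_c55 LD3_c49))))
theorem f545141 : Led Lsl_dt (LP (LK LD1_c5 LD2_c56 LD3_c22)) = (LP (LK LD1_c2 LD2_c54 LD3_c30)) :=
  Lre_d IH (LK LD1_c5 LD2_c56 LD3_c22) (LK LD1_c2 LD2_c54 LD3_c30) Lrfl Lrfl
theorem f82068 : Led Lsl_dt (LP (LK LD1_c5 LD2_c55 LD3_c49)) = (LP (LK LD1_c11 LD2_c36 LD3_c51)) :=
  Lre_d IH (LK LD1_c5 LD2_c55 LD3_c49) (LK LD1_c11 LD2_c36 LD3_c51) Lrfl Lrfl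
theorem f553468 : Led Lsl_ff (LP (LK LD1_c5 LD2_c56 LD3_c22)) = (LP (LK LD1_c11 LD2_c36 LD3_c51)) :=
  Lgr Lrot19 (Lpr_dt (f545141 IH) (Lpr_ft (f553461 IH) (Lpr_dt (f82068 IH) (Lpn (LP (LK LD1_c11 LD2_c36 LD3_c51))))))
theorem f545153 : Led Lsl_et (LP (LK LD1_c5 LD2_c56 LD3_c22)) = (LP (LK LD1_c11 LD2_c38 LD3_c2)) :=
  Lre_e IH (LK LD1_c5 LD2_c56 LD3_c22) (LK LD1_c11 LD2_c38 LD3_c2) Lrfl Lrfl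
theorem f70457 : Led Lsl_et (LP (LK LD1_c16 LD2_c24 LD3_c35)) = (LP (LK LD1_c8 LD2_c46 LD3_c16)) :=
  Lre_e IH (LK LD1_c16 LD2_c24 LD3_c35) (LK LD1_c8 LD2_c46 LD3_c16) Lrfl Lrfl
theorem f545154 : Led Lsl_dt (LP (LK LD1_c11 LD2_c38 LD3_c2)) = (LP (LK LD1_c16 LD2_c24 LD3_c35)) :=
  Lgr Lrot77 (Lpe (f545153 IH) (Lpe (K38.f119836 IH) (Lpr_ef (K38.f545145 IH) (Lpr_df (K6.f70485 IH) (Lpe (f70457 IH) (Lpn (LP (LK LD1_c16 LD2_c24 LD3_c35))))))))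
theorem f70464 : Led Lsl_bt (LP (LK LD1_c16 LD2_c24 LD3_c35)) = (LP (LK LD1_c8 LD2_c46 LD3_c18)) :=
  Lre_b IH (LK LD1_c16 LD2_c24 LD3_c35) (LK LD1_c8 LD2_c46 LD3_c18) Lrfl Lrfl
theorem f70494 : Led Lsl_dt (LP (LK LD1_c8 LD2_c46 LD3_c18)) = (LP (LK LD1_c16 LD2_c24 LD3_c38)) :=
  Lre_d IH (LK LD1_c8 LD2_c46 LD3_c18) (LK LD1_c16 LD2_c24 LD3_c38) Lrfl Lrfl
theorem f545158 : Led Lsl_bf (LP (LK LD1_c11 LD2_c38 LD3_c2)) = (LP (LK LD1_c16 LD2_c24 LD3_c38)) :=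
  Lgr Lrot93 (Lpr_dt (f545154 IH) (Lpr_bt (f70464 IH) (Lpr_dt (f70494 IH) (Lpn (LP (LK LD1_c16 LD2_c24 LD3_c38))))))
theorem f545142 : Led Lsl_et (LP (LK LD1_c11 LD2_c38 LD3_c2)) = (LP (LK LD1_c5 LD2_c56 LD3_c22)) :=
  Lre_e IH (LK LD1_c11 LD2_c38 LD3_c2) (LK LD1_c5 LD2_c56 LD3_c22) Lrfl Lrfl
theorem f36011 : Led Lsl_et (LP (LK LD1_c4 LD2_c24 LD3_c43)) = (LP (LK LD1_c2 LD2_c9 LD3_c50)) :=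
  Lre_e IH (LK LD1_c4 LD2_c24 LD3_c43) (LK LD1_c2 LD2_c9 LD3_c50) Lrfl Lrfl
theorem f70492 : Led Lsl_dt (LP (LK LD1_c8 LD2_c46 LD3_c56)) = (LP (LK LD1_c4 LD2_c24 LD3_c43)) :=
  Lre_d IH (LK LD1_c8 LD2_c46 LD3_c56) (LK LD1_c4 LD2_c24 LD3_c43) Lrfl Lrfl
theorem f70493 : Led Lsl_et (LP (LK LD1_c4 LD2_c24 LD3_c20)) = (LP (LK LD1_c8 LD2_c46 LD3_c18)) :=
  Lre_e IH (LK LD1_c4 LD2_c24 LD3_c20) (LK LD1_c8 LD2_c46 LD3_c18) Lrfl Lrfl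
theorem f70495 : Led Lsl_ef (LP (LK LD1_c8 LD2_c46 LD3_c56)) = (LP (LK LD1_c16 LD2_c24 LD3_c38)) :=
  Lgr Lrot73 (Lpr_dt (f70492 IH) (Lpr_et (f36011 IH) (Lpr_dt (K6.f70488 IH) (Lpr_et (f70493 IH) (Lpr_dt (f70494 IH) (Lpn (LP (LK LD1_c16 LD2_c24 LD3_c38))))))))
theorem f70517 : Led Lsl_et (LP (LK LD1_c8 LD2_c46 LD3_c56)) = (LP (LK LD1_c16 LD2_c24 LD3_c38)) :=
  Lgr Lrot87 (Lpr_ef (f70495 IH) (Lpn (LP (LK LD1_c16 LD2_c24 LD3_c38))))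
theorem f545180 : Led Lsl_bt (LP (LK LD1_c5 LD2_c56 LD3_c22)) = (LP (LK LD1_c8 LD2_c46 LD3_c56)) :=
  Lgr Lrot119 (Lpe (f545142 IH) (Lpr_bf (f545158 IH) (Lpe (f70517 IH) (Lpn (LP (LK LD1_c8 LD2_c46 LD3_c56))))))
theorem f545184 : Led Lsl_bf (LP (LK LD1_c5 LD2_c56 LD3_c22)) = (LP (LK LD1_c8 LD2_c46 LD3_c56)) :=
  Lgr Lrot24 (Lpr_bt (f545180 IH) (Lpn (LP (LK LD1_c8 LD2_c46 LD3_c56))))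
theorem f36053 : Led Lsl_et (LP (LK LD1_c7 LD2_c56 LD3_c49)) = (LP (LK LD1_c3 LD2_c57 LD3_c41)) :=
  Lre_e IH (LK LD1_c7 LD2_c56 LD3_c49) (LK LD1_c3 LD2_c57 LD3_c41) Lrfl Lrfl
theorem f150080 : Led Lsl_at (LP (LK LD1_c4 LD2_c24 LD3_c43)) = (LP (LK LD1_c7 LD2_c56 LD3_c49)) :=
  Lgr Lrot80 (Lpe (K35.f70499 IH) (Lpr_af (K7.f150059 IH) (Lpe (f36053 IH) (Lpn (LP (LK LD1_c7 LD2_c56 LD3_c49))))))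
theorem f36054 : Led Lsl_dt (LP (LK LD1_c7 LD2_c56 LD3_c49)) = (LP (LK LD1_c14 LD2_c59 LD3_c34)) :=
  Lre_d IH (LK LD1_c7 LD2_c56 LD3_c49) (LK LD1_c14 LD2_c59 LD3_c34) Lrfl Lrfl
theorem f150084 : Led Lsl_af (LP (LK LD1_c8 LD2_c46 LD3_c56)) = (LP (LK LD1_c14 LD2_c59 LD3_c34)) :=
  Lgr Lrot117 (Lpr_dt (f70492 IH) (Lpr_at (f150080 IH) (Lpr_dt (f36054 IH) (Lpn (LP (LK LD1_c14 LD2_c59 LD3_c34))))))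
theorem f37831 : Led Lsl_dt (LP (LK LD1_c4 LD2_c35 LD3_c55)) = (LP (LK LD1_c9 LD2_c8 LD3_c4)) :=
  Lre_d IH (LK LD1_c4 LD2_c35 LD3_c55) (LK LD1_c9 LD2_c8 LD3_c4) Lrfl Lrfl
theorem f37843 : Led Lsl_dt (LP (LK LD1_c14 LD2_c59 LD3_c34)) = (LP (LK LD1_c7 LD2_c56 LD3_c49)) :=
  Lre_d IH (LK LD1_c14 LD2_c59 LD3_c34) (LK LD1_c7 LD2_c56 LD3_c49) Lrfl Lrfl
theorem f37844 : Led Lsl_bt (LP (LK LD1_c9 LD2_c8 LD3_c4)) = (LP (LK LD1_c14 LD2_c59 LD3_c34)) :=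
  Lgr Lrot95 (Lpe (f37831 IH) (Lpr_bf (K36.f37837 IH) (Lpe (f37843 IH) (Lpn (LP (LK LD1_c14 LD2_c59 LD3_c34))))))
theorem f37854 : Led Lsl_ct (LP (LK LD1_c2 LD2_c15 LD3_c10)) = (LP (LK LD1_c4 LD2_c35 LD3_c55)) :=
  Lre_c IH (LK LD1_c2 LD2_c15 LD3_c10) (LK LD1_c4 LD2_c35 LD3_c55) Lrfl Lrfl
theorem f208588 : Led Lsl_at (LP (LK LD1_c4 LD2_c35 LD3_c55)) = (LP (LK LD1_c2 LD2_c53 LD3_c6)) :=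
  Lgr Lrot107 (Lpe (f37854 IH) (Lpr_af (K36.f208584 IH) (Lpe (K2.f72279 IH) (Lpn (LP (LK LD1_c2 LD2_c53 LD3_c6))))))
theorem f37851 : Led Lsl_dt (LP (LK LD1_c9 LD2_c8 LD3_c4)) = (LP (LK LD1_c4 LD2_c35 LD3_c55)) :=
  Lre_d IH (LK LD1_c9 LD2_c8 LD3_c4) (LK LD1_c4 LD2_c35 LD3_c55) Lrfl Lrfl
theorem f72284 : Led Lsl_dt (LP (LK LD1_c2 LD2_c53 LD3_c6)) = (LP (LK LD1_c5 LD2_c53 LD3_c33)) :=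
  Lre_d IH (LK LD1_c2 LD2_c53 LD3_c6) (LK LD1_c5 LD2_c53 LD3_c33) Lrfl Lrfl
theorem f208626 : Led Lsl_af (LP (LK LD1_c9 LD2_c8 LD3_c4)) = (LP (LK LD1_c5 LD2_c53 LD3_c33)) :=
  Lgr Lrot117 (Lpr_dt (f37851 IH) (Lpr_at (f208588 IH) (Lpr_dt (f72284 IH) (Lpn (LP (LK LD1_c5 LD2_c53 LD3_c33))))))
theorem f72283 : Led Lsl_dt (LP (LK LD1_c9 LD2_c9 LD3_c34)) = (LP (LK LD1_c4 LD2_c36 LD3_c52)) :=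
  Lre_d IH (LK LD1_c9 LD2_c9 LD3_c34) (LK LD1_c4 LD2_c36 LD3_c52) Lrfl Lrfl
theorem f72285 : Led Lsl_bf (LP (LK LD1_c9 LD2_c9 LD3_c34)) = (LP (LK LD1_c5 LD2_c53 LD3_c33)) :=
  Lgr Lrot93 (Lpr_dt (f72283 IH) (Lpr_bt (K2.f72267 IH) (Lpr_dt (f72284 IH) (Lpn (LP (LK LD1_c5 LD2_c53 LD3_c33))))))
theorem f72290 : Led Lsl_bt (LP (LK LD1_c9 LD2_c9 LD3_c34)) = (LP (LK LD1_c5 LD2_c53 LD3_c33)) :=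
  Lgr Lrot127 (Lpr_bf (f72285 IH) (Lpn (LP (LK LD1_c5 LD2_c53 LD3_c33))))
theorem f545206 : Led Lsl_at (LP (LK LD1_c5 LD2_c56 LD3_c22)) = (LP (LK LD1_c9 LD2_c9 LD3_c34)) :=
  Lgr Lrot67 (Lpr_bf (f545184 IH) (Lpr_af (f150084 IH) (Lpe (f37844 IH) (Lpr_af (f208626 IH) (Lpe (f72290 IH) (Lpn (LP (LK LD1_c9 LD2_c9 LD3_c34))))))))
theorem f385380 : Led Lsl_et (LP (LK LD1_c8 LD2_c42 LD3_c55)) = (LP (LK LD1_c4 LD2_c22 LD3_c31)) :=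
  Lre_e IH (LK LD1_c8 LD2_c42 LD3_c55) (LK LD1_c4 LD2_c22 LD3_c31) Lrfl Lrfl
theorem f385381 : Led Lsl_dt (LP (LK LD1_c8 LD2_c42 LD3_c55)) = (LP (LK LD1_c16 LD2_c19 LD3_c28)) :=
  Lre_d IH (LK LD1_c8 LD2_c42 LD3_c55) (LK LD1_c16 LD2_c19 LD3_c28) Lrfl Lrfl
theorem f72366 : Led Lsl_dt (LP (LK LD1_c4 LD2_c36 LD3_c52)) = (LP (LK LD1_c9 LD2_c9 LD3_c34)) :=
  Lre_d IH (LK LD1_c4 LD2_c36 LD3_c52) (LK LD1_c9 LD2_c9 LD3_c34) Lrfl Lrfl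
theorem f547697 : Led Lsl_gt (LP (LK LD1_c16 LD2_c19 LD3_c28)) = (LP (LK LD1_c9 LD2_c9 LD3_c34)) :=
  Lgr Lrot112 (Lpe (f385381 IH) (Lpr_et (f385380 IH) (Lpr_gf (K38.f385374 IH) (Lpr_ef (K38.f547689 IH) (Lpr_dt (K5.f119039 IH) (Lpe (K8.f99814 IH) (Lpe (K8.f72269 IH) (Lpe (K2.f72254 IH) (Lpe (f119049 IH) (Lpr_dt (f72366 IH) (Lpn (LP (LK LD1_c9 LD2_c9 LD3_c34)))))))))))))
theorem f553476 : Led Lsl_gf (LP (LK LD1_c16 LD2_c19 LD3_c28)) = (LP (LK LD1_c11 LD2_c36 LD3_c51)) :=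
  Lgr Lrot47 (Lpr_gt (f547697 IH) (Lpe (f545206 IH) (Lpr_ff (f553468 IH) (Lpn (LP (LK LD1_c11 LD2_c36 LD3_c51))))))
theorem f385386 : Led Lsl_gt (LP (LK LD1_c4 LD2_c22 LD3_c31)) = (LP (LK LD1_c4 LD2_c56 LD3_c52)) :=
  Lgr Lrot5 (Lpr_ft (K30.f385372 IH) (Lpr_at (K30.f168308 IH) (Lpe (f168268 IH) (Lpn (LP (LK LD1_c4 LD2_c56 LD3_c52))))))
theorem f553485 : Led Lsl_ef (LP (LK LD1_c4 LD2_c56 LD3_c52)) = (LP (LK LD1_c9 LD2_c14 LD3_c58)) :=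
  Lgr Lrot17 (Lpe (f385386 IH) (Lpe (f385380 IH) (Lpr_dt (f385381 IH) (Lpr_gf (f553476 IH) (Lpe (f82068 IH) (Lpe (f82067 IH) (Lpe (K2.f81815 IH) (Lpr_dt (K2.f34946 IH) (Lpe (K38.f34938 IH) (Lpr_df (K38.f546521 IH) (Lpn (LP (LK LD1_c9 LD2_c14 LD3_c58)))))))))))))
theorem f553489 : Led Lsl_et (LP (LK LD1_c4 LD2_c56 LD3_c52)) = (LP (LK LD1_c9 LD2_c14 LD3_c58)) :=
  Lgr Lrot87 (Lpr_ef (f553485 IH) (Lpn (LP (LK LD1_c9 LD2_c14 LD3_c58))))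
theorem f549664 : Led Lsl_df (LP (LK LD1_c8 LD2_c43 LD3_c37)) = (LP (LK LD1_c4 LD2_c56 LD3_c52)) :=
  Lgr Lrot153 (Lpr_gt (f181746 IH) (Lpr_dt (K16.f181745 IH) (Lpr_cf (K16.f181731 IH) (Lpe (K31.f181741 IH) (Lpe (K38.f174454 IH) (Lpr_df (K38.f549655 IH) (Lpe (K38.f549649 IH) (Lpr_cf (K38.f547713 IH) (Lpr_gt (f385386 IH) (Lpn (LP (LK LD1_c4 LD2_c56 LD3_c52))))))))))))
theorem f34906 : Led Lsl_dt (LP (LK LD1_c4 LD2_c20 LD3_c10)) = (LP (LK LD1_c8 LD2_c38 LD3_c14)) :=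
  Lre_d IH (LK LD1_c4 LD2_c20 LD3_c10) (LK LD1_c8 LD2_c38 LD3_c14) Lrfl Lrfl
theorem f553497 : Led Lsl_gf (LP (LK LD1_c8 LD2_c38 LD3_c14)) = (LP (LK LD1_c9 LD2_c15 LD3_c3)) :=
  Lgr Lrot134 (Lpe (f34906 IH) (Lpr_et (K36.f540444 IH) (Lpr_gt (K8.f98500 IH) (Lpr_ef (f552702 IH) (Lpr_dt (K16.f280381 IH) (Lpr_gt (f280481 IH) (Lpr_df (f549664 IH) (Lpr_et (f553489 IH) (Lpr_gt (K38.f56213 IH) (Lpr_dt (K36.f56249 IH) (Lpn (LP (LK LD1_c9 LD2_c15 LD3_c3)))))))))))))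
theorem f56291 : Led Lsl_dt (LP (LK LD1_c9 LD2_c14 LD3_c60)) = (LP (LK LD1_c4 LD2_c39 LD3_c43)) :=
  Lre_d IH (LK LD1_c9 LD2_c14 LD3_c60) (LK LD1_c4 LD2_c39 LD3_c43) Lrfl Lrfl
theorem f542804 : Led Lsl_at (LP (LK LD1_c10 LD2_c15 LD3_c23)) = (LP (LK LD1_c9 LD2_c14 LD3_c60)) :=
  Lgr Lrot51 (Lpe (K38.f212081 IH) (Lpr_af (K36.f542797 IH) (Lpe (f56291 IH) (Lpn (LP (LK LD1_c9 LD2_c14 LD3_c60))))))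
theorem f553499 : Led Lsl_gt (LP (LK LD1_c8 LD2_c38 LD3_c14)) = (LP (LK LD1_c9 LD2_c14 LD3_c60)) :=
  Lgr Lrot46 (Lpr_gf (f553497 IH) (Lpe (K36.f542812 IH) (Lpr_at (f542804 IH) (Lpn (LP (LK LD1_c9 LD2_c14 LD3_c60))))))
theorem f34903 : Led Lsl_gt (LP (LK LD1_c1 LD2_c4 LD3_c36)) = (LP (LK LD1_c2 LD2_c14 LD3_c57)) :=
  Lre_g IH (LK LD1_c1 LD2_c4 LD3_c36) (LK LD1_c2 LD2_c14 LD3_c57) Lrfl Lrfl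
theorem f34904 : Led Lsl_dt (LP (LK LD1_c2 LD2_c14 LD3_c57)) = (LP (LK LD1_c4 LD2_c35 LD3_c34)) :=
  Lre_d IH (LK LD1_c2 LD2_c14 LD3_c57) (LK LD1_c4 LD2_c35 LD3_c34) Lrfl Lrfl
theorem f56269 : Led Lsl_dt (LP (LK LD1_c4 LD2_c39 LD3_c44)) = (LP (LK LD1_c2 LD2_c16 LD3_c53)) :=
  Lre_d IH (LK LD1_c4 LD2_c39 LD3_c44) (LK LD1_c2 LD2_c16 LD3_c53) Lrfl Lrfl
theorem f553506 : Led Lsl_gt (LP (LK LD1_c4 LD2_c35 LD3_c34)) = (LP (LK LD1_c4 LD2_c39 LD3_c44)) :=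
  Lgr Lrot49 (Lpe (f34904 IH) (Lpe (f34903 IH) (Lpr_cf (K2.f34887 IH) (Lpr_gt (K36.f34905 IH) (Lpr_dt (f34906 IH) (Lpr_gt (f553499 IH) (Lpr_dt (f56291 IH) (Lpe (K36.f8408 IH) (Lpe (f56269 IH) (Lpn (LP (LK LD1_c4 LD2_c39 LD3_c44))))))))))))
theorem f116989 : Led Lsl_et (LP (LK LD1_c0 LD2_c42 LD3_c7)) = (LP (LK LD1_c1 LD2_c31 LD3_c20)) :=
  Lre_e IH (LK LD1_c0 LD2_c42 LD3_c7) (LK LD1_c1 LD2_c31 LD3_c20) Lrfl Lrfl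
def v1905 : LQ := Led Lsl_gf (LP (LK LD1_c1 LD2_c31 LD3_c20))
theorem f506338 : Led Lsl_gf (LP (LK LD1_c1 LD2_c31 LD3_c20)) = v1905 :=
  Lrfl
theorem f553512 : v1905 = (LP (LK LD1_c2 LD2_c44 LD3_c30)) :=
  (Llr Lrot141 (Lpe (f506338 IH) (Lpe (f116989 IH) (Lpr_dt (K32.f116988 IH) (Lpr_gt (K8.f116978 IH) (Lpe (K32.f35243 IH) (Lpr_et (K2.f34870 IH) (Lpr_gt (f34903 IH) (Lpr_dt (f34904 IH) (Lpr_gt (f553506 IH) (Lpe (K36.f56209 IH) (Lpr_et (f551797 IH) (Lpn (LP (LK LD1_c2 LD2_c44 LD3_c30))))))))))))))).symm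
theorem f117773 : Led Lsl_ct (LP (LK LD1_c1 LD2_c31 LD3_c20)) = (LP (LK LD1_c3 LD2_c10 LD3_c16)) :=
  Lre_c IH (LK LD1_c1 LD2_c31 LD3_c20) (LK LD1_c3 LD2_c10 LD3_c16) Lrfl Lrfl
theorem f553516 : Led Lsl_gf (LP (LK LD1_c5 LD2_c37 LD3_c6)) = (LP (LK LD1_c3 LD2_c10 LD3_c16)) :=
  Lgr Lrot172 (Lpr_ct (f211971 IH) (Lpr_dt (f383303 IH) (Lpr_cf (f172387 IH) (Lpe (K9.f172378 IH) (Lpe (K9.f172377 IH) (Lpe (K9.f142124 IH) (Lpr_dt (f546510 IH) (Lpq (f553512 IH) (Lpe (f506338 IH) (Lpr_ct (f117773 IH) (Lpn (LP (LK LD1_c3 LD2_c10 LD3_c16)))))))))))))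
theorem f117767 : Led Lsl_et (LP (LK LD1_c1 LD2_c31 LD3_c18)) = (LP (LK LD1_c3 LD2_c10 LD3_c16)) :=
  Lre_e IH (LK LD1_c1 LD2_c31 LD3_c18) (LK LD1_c3 LD2_c10 LD3_c16) Lrfl Lrfl
theorem f117769 : Led Lsl_bt (LP (LK LD1_c3 LD2_c10 LD3_c16)) = (LP (LK LD1_c3 LD2_c4 LD3_c9)) :=
  Lgr Lrot119 (Lpe (f117767 IH) (Lpr_bf (K11.f117749 IH) (Lpe (f117768 IH) (Lpn (LP (LK LD1_c3 LD2_c4 LD3_c9))))))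
theorem f117771 : Led Lsl_bf (LP (LK LD1_c3 LD2_c10 LD3_c16)) = (LP (LK LD1_c3 LD2_c4 LD3_c9)) :=
  Lgr Lrot24 (Lpr_bt (f117769 IH) (Lpn (LP (LK LD1_c3 LD2_c4 LD3_c9))))
theorem f117789 : Led Lsl_dt (LP (LK LD1_c6 LD2_c14 LD3_c31)) = (LP (LK LD1_c3 LD2_c4 LD3_c9)) :=
  Lre_d IH (LK LD1_c6 LD2_c14 LD3_c31) (LK LD1_c3 LD2_c4 LD3_c9) Lrfl Lrfl
theorem f157829 : Led Lsl_dt (LP (LK LD1_c1 LD2_c56 LD3_c14)) = (LP (LK LD1_c3 LD2_c58 LD3_c60)) :=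
  Lre_d IH (LK LD1_c1 LD2_c56 LD3_c14) (LK LD1_c3 LD2_c58 LD3_c60) Lrfl Lrfl
theorem f506390 : Led Lsl_et (LP (LK LD1_c2 LD2_c44 LD3_c47)) = K36.v1918 :=
  Lgr Lrot87 (Lpr_ef (K36.f506389 IH) (Lpn K36.v1918))
theorem f383418 : Led Lsl_dt (LP (LK LD1_c2 LD2_c44 LD3_c47)) = (LP (LK LD1_c5 LD2_c37 LD3_c40)) :=
  Lre_d IH (LK LD1_c2 LD2_c44 LD3_c47) (LK LD1_c5 LD2_c37 LD3_c40) Lrfl Lrfl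
theorem f539774 : Led Lsl_gt (LP (LK LD1_c3 LD2_c58 LD3_c60)) = (LP (LK LD1_c5 LD2_c37 LD3_c40)) :=
  Lgr Lrot139 (Lpe (f157829 IH) (Lpe (K30.f157826 IH) (Lpe (K37.f99576 IH) (Lpr_dt (K1.f40035 IH) (Lpe (K8.f36251 IH) (Lpr_df (K8.f157809 IH) (Lpr_et (K36.f157812 IH) (Lpqs (K36.f539757 IH) (Lpe (K32.f496262 IH) (Lpqs (K36.f537668 IH) (Lpe (f506390 IH) (Lpr_dt (f383418 IH) (Lpn (LP (LK LD1_c5 LD2_c37 LD3_c40)))))))))))))))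
theorem f551969 : Led Lsl_ct (LP (LK LD1_c3 LD2_c4 LD3_c9)) = (LP (LK LD1_c2 LD2_c44 LD3_c47)) :=
  Lgr Lrot7 (Lpe (f117789 IH) (Lpe (f551962 IH) (Lpe (K16.f181583 IH) (Lpr_gf (f551965 IH) (Lpe (f171775 IH) (Lpr_gt (K30.f157826 IH) (Lpr_dt (f157829 IH) (Lpr_gt (f539774 IH) (Lpr_dt (K36.f383411 IH) (Lpn (LP (LK LD1_c2 LD2_c44 LD3_c47))))))))))))
theorem f137987 : Led Lsl_ct (LP (LK LD1_c8 LD2_c12 LD3_c22)) = (LP (LK LD1_c4 LD2_c5 LD3_c52)) :=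
  Lre_c IH (LK LD1_c8 LD2_c12 LD3_c22) (LK LD1_c4 LD2_c5 LD3_c52) Lrfl Lrfl
theorem f180142 : Led Lsl_bt (LP (LK LD1_c4 LD2_c19 LD3_c19)) = (LP (LK LD1_c2 LD2_c7 LD3_c4)) :=
  Lre_b IH (LK LD1_c4 LD2_c19 LD3_c19) (LK LD1_c2 LD2_c7 LD3_c4) Lrfl Lrfl
theorem f181499 : Led Lsl_gt (LP (LK LD1_c5 LD2_c41 LD3_c21)) = (LP (LK LD1_c11 LD2_c12 LD3_c55)) :=
  Lre_g IH (LK LD1_c5 LD2_c41 LD3_c21) (LK LD1_c11 LD2_c12 LD3_c55) Lrfl Lrfl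
theorem f423604 : Led Lsl_af (LP (LK LD1_c5 LD2_c41 LD3_c28)) = (LP (LK LD1_c9 LD2_c2 LD3_c23)) :=
  Lgr Lrot45 (Lpr_ft (f423580 IH) (Lpe (f423584 IH) (Lpr_ft (f423600 IH) (Lpn (LP (LK LD1_c9 LD2_c2 LD3_c23))))))
theorem f423612 : Led Lsl_gt (LP (LK LD1_c11 LD2_c12 LD3_c55)) = (LP (LK LD1_c5 LD2_c41 LD3_c28)) :=
  Lgr Lrot46 (Lpe (f181499 IH) (Lpr_ft (f423600 IH) (Lpe (f423604 IH) (Lpn (LP (LK LD1_c5 LD2_c41 LD3_c28))))))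
theorem f210340 : Led Lsl_ct (LP (LK LD1_c4 LD2_c56 LD3_c39)) = (LP (LK LD1_c2 LD2_c26 LD3_c8)) :=
  Lre_c IH (LK LD1_c4 LD2_c56 LD3_c39) (LK LD1_c2 LD2_c26 LD3_c8) Lrfl Lrfl
theorem f172620 : Led Lsl_gt (LP (LK LD1_c4 LD2_c56 LD3_c39)) = (LP (LK LD1_c9 LD2_c44 LD3_c40)) :=
  Lre_g IH (LK LD1_c4 LD2_c56 LD3_c39) (LK LD1_c9 LD2_c44 LD3_c40) Lrfl Lrfl
theorem f423614 : Led Lsl_df (LP (LK LD1_c11 LD2_c12 LD3_c55)) = (LP (LK LD1_c9 LD2_c44 LD3_c40)) :=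
  Lgr Lrot153 (Lpr_gt (f423612 IH) (Lpr_dt (K31.f237376 IH) (Lpe (K31.f237375 IH) (Lpe (K31.f237377 IH) (Lpr_gf (K31.f385546 IH) (Lpe (K18.f175982 IH) (Lpr_gf (K35.f385270 IH) (Lpe (f210340 IH) (Lpr_gt (f172620 IH) (Lpn (LP (LK LD1_c9 LD2_c44 LD3_c40))))))))))))
theorem f423616 : Led Lsl_gt (LP (LK LD1_c9 LD2_c44 LD3_c40)) = (LP (LK LD1_c4 LD2_c56 LD3_c41)) :=
  Lgr Lrot146 (Lpe (f423614 IH) (Lpr_gt (f423612 IH) (Lpr_ct (K31.f406936 IH) (Lpe (K31.f406937 IH) (Lpr_ct (K30.f183246 IH) (Lpr_dt (K30.f210329 IH) (Lpe (K38.f172608 IH) (Lpe (K36.f172629 IH) (Lpe (f172692 IH) (Lpn (LP (LK LD1_c4 LD2_c56 LD3_c41))))))))))))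
theorem f541279 : Led Lsl_bt (LP (LK LD1_c8 LD2_c12 LD3_c22)) = (LP (LK LD1_c9 LD2_c44 LD3_c40)) :=
  Lgr Lrot130 (Lpr_ct (f137987 IH) (Lpr_gf (K36.f541275 IH) (Lpe (f180200 IH) (Lpr_bt (f180142 IH) (Lpr_gf (K11.f211155 IH) (Lpe (K30.f172622 IH) (Lpr_ct (K30.f172617 IH) (Lpe (K36.f172629 IH) (Lpe (f172692 IH) (Lpe (f423616 IH) (Lpn (LP (LK LD1_c9 LD2_c44 LD3_c40)))))))))))))
theorem f380278 : Led Lsl_bt (LP (LK LD1_c2 LD2_c12 LD3_c50)) = (LP (LK LD1_c4 LD2_c31 LD3_c41)) :=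
  Lre_b IH (LK LD1_c2 LD2_c12 LD3_c50) (LK LD1_c4 LD2_c31 LD3_c41) Lrfl Lrfl
theorem f380273 : Led Lsl_bt (LP (LK LD1_c2 LD2_c26 LD3_c8)) = (LP (LK LD1_c4 LD2_c31 LD3_c42)) :=
  Lgr Lrot127 (Lpr_bf (K35.f380271 IH) (Lpn (LP (LK LD1_c4 LD2_c31 LD3_c42))))
theorem f544913 : Led Lsl_bf (LP (LK LD1_c4 LD2_c56 LD3_c39)) = (LP (LK LD1_c6 LD2_c24 LD3_c36)) :=
  Lgr Lrot90 (Lpr_ct (f210340 IH) (Lpr_bt (f380273 IH) (Lpr_ct (K35.f380270 IH) (Lpr_bt (f380278 IH) (Lpr_ct (K38.f544910 IH) (Lpn (LP (LK LD1_c6 LD2_c24 LD3_c36))))))))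
theorem f553520 : Led Lsl_gt (LP (LK LD1_c9 LD2_c0 LD3_c8)) = (LP (LK LD1_c4 LD2_c31 LD3_c41)) :=
  Lgr Lrot149 (Lpe (f211971 IH) (Lpr_gf (f553516 IH) (Lpr_bf (f117771 IH) (Lpr_ct (f551969 IH) (Lpe (K36.f541277 IH) (Lpe (f137987 IH) (Lpr_bt (f541279 IH) (Lpe (f172620 IH) (Lpr_bf (f544913 IH) (Lpe (f544915 IH) (Lpn (LP (LK LD1_c4 LD2_c31 LD3_c41)))))))))))))
theorem f172472 : Led Lsl_dt (LP (LK LD1_c11 LD2_c15 LD3_c29)) = (LP (LK LD1_c5 LD2_c42 LD3_c39)) :=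
  Lre_d IH (LK LD1_c11 LD2_c15 LD3_c29) (LK LD1_c5 LD2_c42 LD3_c39) Lrfl Lrfl
theorem f172473 : Led Lsl_bt (LP (LK LD1_c9 LD2_c45 LD3_c14)) = (LP (LK LD1_c11 LD2_c15 LD3_c29)) :=
  Lgr Lrot95 (Lpe (f172471 IH) (Lpr_bf (K31.f172465 IH) (Lpe (f172472 IH) (Lpn (LP (LK LD1_c11 LD2_c15 LD3_c29))))))
theorem f172478 : Led Lsl_bf (LP (LK LD1_c9 LD2_c45 LD3_c14)) = (LP (LK LD1_c11 LD2_c15 LD3_c29)) :=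
  Lgr Lrot24 (Lpr_bt (f172473 IH) (Lpn (LP (LK LD1_c11 LD2_c15 LD3_c29))))
theorem f423761 : Led Lsl_gt (LP (LK LD1_c9 LD2_c45 LD3_c14)) = (LP (LK LD1_c4 LD2_c57 LD3_c30)) :=
  Lgr Lrot82 (Lpr_bf (f172478 IH) (Lpr_ct (K31.f423741 IH) (Lpe (K31.f172398 IH) (Lpe (K30.f168259 IH) (Lpr_bt (K30.f168255 IH) (Lpe (K9.f68913 IH) (Lpe (K9.f168299 IH) (Lpr_ct (K9.f172397 IH) (Lpe (K9.f172394 IH) (Lpe (K9.f172379 IH) (Lpn (LP (LK LD1_c4 LD2_c57 LD3_c30)))))))))))))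
theorem f424174 : Led Lsl_gf (LP (LK LD1_c9 LD2_c1 LD3_c25)) = (LP (LK LD1_c4 LD2_c57 LD3_c30)) :=
  Lgr Lrot76 (Lpr_af (f424168 IH) (Lpe (f424137 IH) (Lpr_gt (f423761 IH) (Lpn (LP (LK LD1_c4 LD2_c57 LD3_c30))))))
theorem f547164 : Led Lsl_ct (LP (LK LD1_c4 LD2_c33 LD3_c13)) = (LP (LK LD1_c2 LD2_c13 LD3_c34)) :=
  Lre_c IH (LK LD1_c4 LD2_c33 LD3_c13) (LK LD1_c2 LD2_c13 LD3_c34) Lrfl Lrfl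
theorem f553526 : Led Lsl_gt (LP (LK LD1_c9 LD2_c3 LD3_c40)) = (LP (LK LD1_c4 LD2_c33 LD3_c13)) :=
  Lgr Lrot150 (Lpe (K31.f174757 IH) (Lpr_gf (f424174 IH) (Lpe (f383303 IH) (Lpr_gt (f553520 IH) (Lpr_ct (K38.f544910 IH) (Lpe (K38.f544907 IH) (Lpr_ct (K38.f212085 IH) (Lpe (K38.f547160 IH) (Lpe (f547164 IH) (Lpn (LP (LK LD1_c4 LD2_c33 LD3_c13))))))))))))
theorem f547170 : Led Lsl_bt (LP (LK LD1_c2 LD2_c13 LD3_c34)) = (LP (LK LD1_c3 LD2_c0 LD3_c56)) :=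
  Lgr Lrot95 (Lpr_df (K38.f547166 IH) (Lpe (K36.f193974 IH) (Lpe (K16.f60110 IH) (Lpn (LP (LK LD1_c3 LD2_c0 LD3_c56))))))
theorem f546393 : Led Lsl_gt (LP (LK LD1_c9 LD2_c3 LD3_c41)) = (LP (LK LD1_c4 LD2_c33 LD3_c11)) :=
  Lre_g IH (LK LD1_c9 LD2_c3 LD3_c41) (LK LD1_c4 LD2_c33 LD3_c11) Lrfl Lrfl
theorem f549319 : Led Lsl_ct (LP (LK LD1_c9 LD2_c45 LD3_c14)) = (LP (LK LD1_c9 LD2_c3 LD3_c41)) :=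
  Lgr Lrot64 (Lpr_bt (f172473 IH) (Lpr_gf (f549312 IH) (Lpe (f549314 IH) (Lpr_ct (f40202 IH) (Lpe (f549317 IH) (Lpr_cf (K30.f174572 IH) (Lpe (K38.f547481 IH) (Lpe (K38.f174771 IH) (Lpr_ct (K31.f174755 IH) (Lpe (f546393 IH) (Lpn (LP (LK LD1_c9 LD2_c3 LD3_c41)))))))))))))
theorem f424158 : Led Lsl_bt (LP (LK LD1_c11 LD2_c7 LD3_c31)) = (LP (LK LD1_c16 LD2_c21 LD3_c40)) :=
  Lgr Lrot127 (Lpr_bf (f424131 IH) (Lpn (LP (LK LD1_c16 LD2_c21 LD3_c40))))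
theorem f424207 : Led Lsl_ff (LP (LK LD1_c11 LD2_c7 LD3_c31)) = (LP (LK LD1_c11 LD2_c15 LD3_c29)) :=
  Lgr Lrot25 (Lpr_bt (f424158 IH) (Lpe (f424141 IH) (Lpr_bt (f172473 IH) (Lpn (LP (LK LD1_c11 LD2_c15 LD3_c29))))))
theorem f211898 : Led Lsl_at (LP (LK LD1_c11 LD2_c7 LD3_c31)) = (LP (LK LD1_c5 LD2_c38 LD3_c8)) :=
  Lre_a IH (LK LD1_c11 LD2_c7 LD3_c31) (LK LD1_c5 LD2_c38 LD3_c8) Lrfl Lrfl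
theorem f424209 : Led Lsl_gf (LP (LK LD1_c11 LD2_c7 LD3_c1)) = (LP (LK LD1_c11 LD2_c15 LD3_c29)) :=
  Lgr Lrot47 (Lpr_gt (f211895 IH) (Lpe (f211898 IH) (Lpr_ff (f424207 IH) (Lpn (LP (LK LD1_c11 LD2_c15 LD3_c29))))))
theorem f174677 : Led Lsl_bt (LP (LK LD1_c2 LD2_c47 LD3_c35)) = (LP (LK LD1_c4 LD2_c32 LD3_c48)) :=
  Lre_b IH (LK LD1_c2 LD2_c47 LD3_c35) (LK LD1_c4 LD2_c32 LD3_c48) Lrfl Lrfl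
theorem f549329 : Led Lsl_gt (LP (LK LD1_c4 LD2_c33 LD3_c13)) = (LP (LK LD1_c9 LD2_c3 LD3_c41)) :=
  Lgr Lrot149 (Lpe (f211919 IH) (Lpe (K38.f211918 IH) (Lpe (f174677 IH) (Lpr_ct (K36.f174678 IH) (Lpe (f211917 IH) (Lpe (f211900 IH) (Lpe (f211901 IH) (Lpr_gf (f424209 IH) (Lpe (f172473 IH) (Lpr_ct (f549319 IH) (Lpn (LP (LK LD1_c9 LD2_c3 LD3_c41)))))))))))))
theorem f538919 : Led Lsl_bf (LP (LK LD1_c2 LD2_c46 LD3_c30)) = (LP (LK LD1_c4 LD2_c32 LD3_c9)) :=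
  Lgr Lrot24 (Lpr_bt (K36.f538917 IH) (Lpn (LP (LK LD1_c4 LD2_c32 LD3_c9))))
theorem f407050 : Led Lsl_gt (LP (LK LD1_c16 LD2_c51 LD3_c55)) = (LP (LK LD1_c9 LD2_c1 LD3_c58)) :=
  Lre_g IH (LK LD1_c16 LD2_c51 LD3_c55) (LK LD1_c9 LD2_c1 LD3_c58) Lrfl Lrfl
theorem f549335 : Led Lsl_cf (LP (LK LD1_c16 LD2_c51 LD3_c55)) = (LP (LK LD1_c11 LD2_c7 LD3_c1)) :=
  Lgr Lrot125 (Lpr_gt (f407050 IH) (Lpe (K31.f173370 IH) (Lpe (f538919 IH) (Lpr_gt (K35.f193988 IH) (Lpe (f547170 IH) (Lpr_ct (f211919 IH) (Lpr_gt (f549329 IH) (Lpe (f549319 IH) (Lpr_bt (f172473 IH) (Lpe (f424209 IH) (Lpn (LP (LK LD1_c11 LD2_c7 LD3_c1)))))))))))))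
theorem f382424 : Led Lsl_bt (LP (LK LD1_c4 LD2_c31 LD3_c7)) = (LP (LK LD1_c9 LD2_c0 LD3_c13)) :=
  Lre_b IH (LK LD1_c4 LD2_c31 LD3_c7) (LK LD1_c9 LD2_c0 LD3_c13) Lrfl Lrfl
theorem f382442 : Led Lsl_ct (LP (LK LD1_c4 LD2_c31 LD3_c7)) = (LP (LK LD1_c9 LD2_c0 LD3_c14)) :=
  Lre_c IH (LK LD1_c4 LD2_c31 LD3_c7) (LK LD1_c9 LD2_c0 LD3_c14) Lrfl Lrfl
theorem f549347 : Led Lsl_gt (LP (LK LD1_c6 LD2_c9 LD3_c6)) = (LP (LK LD1_c9 LD2_c0 LD3_c14)) :=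
  Lgr Lrot149 (Lpe (K16.f60129 IH) (Lpe (K35.f193988 IH) (Lpr_bf (f538919 IH) (Lpr_ct (K31.f173370 IH) (Lpe (f407050 IH) (Lpr_cf (f549335 IH) (Lpr_bt (f211907 IH) (Lpe (f495874 IH) (Lpe (f382424 IH) (Lpr_ct (f382442 IH) (Lpn (LP (LK LD1_c9 LD2_c0 LD3_c14)))))))))))))
theorem f382425 : Led Lsl_ct (LP (LK LD1_c9 LD2_c0 LD3_c14)) = (LP (LK LD1_c4 LD2_c31 LD3_c7)) :=
  Lre_c IH (LK LD1_c9 LD2_c0 LD3_c14) (LK LD1_c4 LD2_c31 LD3_c7) Lrfl Lrfl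
theorem f549360 : Led Lsl_df (LP (LK LD1_c2 LD2_c46 LD3_c25)) = (LP (LK LD1_c4 LD2_c31 LD3_c8)) :=
  Lgr Lrot162 (Lpe (K37.f172169 IH) (Lpe (K9.f22415 IH) (Lpe (K24.f172168 IH) (Lpr_gf (f412327 IH) (Lpe (K16.f268645 IH) (Lpr_gt (f549347 IH) (Lpr_ct (f382425 IH) (Lpr_gt (K30.f382420 IH) (Lpr_ct (K30.f211811 IH) (Lpn (LP (LK LD1_c4 LD2_c31 LD3_c8))))))))))))
theorem f60002 : Led Lsl_ct (LP (LK LD1_c2 LD2_c49 LD3_c15)) = (LP (LK LD1_c1 LD2_c20 LD3_c46)) :=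
  Lre_c IH (LK LD1_c2 LD2_c49 LD3_c15) (LK LD1_c1 LD2_c20 LD3_c46) Lrfl Lrfl
theorem f175863 : Led Lsl_df (LP (LK LD1_c5 LD2_c46 LD3_c54)) = (LP (LK LD1_c5 LD2_c46 LD3_c56)) :=
  Lgr Lrot38 (Lpr_dt (K16.f175856 IH) (Lpn (LP (LK LD1_c5 LD2_c46 LD3_c56))))
theorem f549375 : Led Lsl_cf (LP (LK LD1_c4 LD2_c31 LD3_c54)) = (LP (LK LD1_c9 LD2_c0 LD3_c16)) :=
  Lgr Lrot169 (Lpe (K10.f180348 IH) (Lpr_ct (K16.f175855 IH) (Lpr_df (f175863 IH) (Lpe (K37.f68729 IH) (Lpe (K16.f59821 IH) (Lpe (f60002 IH) (Lpe (K37.f412291 IH) (Lpr_df (f549360 IH) (Lpr_gt (K30.f354396 IH) (Lpn (LP (LK LD1_c9 LD2_c0 LD3_c16))))))))))))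
theorem f495775 : Led Lsl_df (LP (LK LD1_c9 LD2_c0 LD3_c16)) = (LP (LK LD1_c5 LD2_c40 LD3_c8)) :=
  Lgr Lrot38 (Lpr_dt (K30.f495770 IH) (Lpn (LP (LK LD1_c5 LD2_c40 LD3_c8))))
theorem f412104 : Led Lsl_dt (LP (LK LD1_c5 LD2_c40 LD3_c57)) = (LP (LK LD1_c2 LD2_c49 LD3_c15)) :=
  Lgr Lrot120 (Lpr_cf (K37.f412092 IH) (Lpr_df (K10.f68801 IH) (Lpe (K10.f9515 IH) (Lpr_df (K0.f9509 IH) (Lpe (K11.f9516 IH) (Lpe (K36.f68815 IH) (Lpr_ft (K10.f68589 IH) (Lpr_at (K10.f60123 IH) (Lpe (f60002 IH) (Lpn (LP (LK LD1_c2 LD2_c49 LD3_c15))))))))))))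
theorem f412097 : Led Lsl_ct (LP (LK LD1_c5 LD2_c40 LD3_c57)) = (LP (LK LD1_c2 LD2_c47 LD3_c8)) :=
  Lgr Lrot59 (Lpr_cf (K37.f412092 IH) (Lpn (LP (LK LD1_c2 LD2_c47 LD3_c8))))
theorem f412111 : Led Lsl_df (LP (LK LD1_c5 LD2_c40 LD3_c57)) = (LP (LK LD1_c2 LD2_c49 LD3_c15)) :=
  Lgr Lrot43 (Lpr_ct (f412097 IH) (Lpr_dt (K36.f68815 IH) (Lpr_ct (K11.f9516 IH) (Lpe (K0.f9509 IH) (Lpr_ct (K10.f9515 IH) (Lpe (K10.f68801 IH) (Lpe (K37.f412092 IH) (Lpr_dt (f412104 IH) (Lpr_ct (f60002 IH) (Lpr_dt (K10.f60122 IH) (Lpr_ct (K36.f60153 IH) (Lpe (K9.f60143 IH) (Lpr_ct (K1.f60119 IH) (Lpr_dt (K10.f59820 IH) (Lpr_ct (K37.f60017 IH) (Lpn (LP (LK LD1_c2 LD2_c49 LD3_c15))))))))))))))))))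
theorem f211812 : Led Lsl_gt (LP (LK LD1_c9 LD2_c0 LD3_c17)) = (LP (LK LD1_c4 LD2_c31 LD3_c8)) :=
  Lre_g IH (LK LD1_c9 LD2_c0 LD3_c17) (LK LD1_c4 LD2_c31 LD3_c8) Lrfl Lrfl
theorem f549373 : Led Lsl_cf (LP (LK LD1_c4 LD2_c31 LD3_c55)) = (LP (LK LD1_c9 LD2_c0 LD3_c17)) :=
  Lgr Lrot166 (Lpe (K24.f268506 IH) (Lpr_dt (K16.f68621 IH) (Lpe (K10.f175419 IH) (Lpe (K10.f68801 IH) (Lpe (K37.f412092 IH) (Lpr_df (f412111 IH) (Lpe (K37.f412291 IH) (Lpr_df (f549360 IH) (Lpe (f211812 IH) (Lpn (LP (LK LD1_c9 LD2_c0 LD3_c17))))))))))))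
theorem f495730 : Led Lsl_df (LP (LK LD1_c1 LD2_c19 LD3_c33)) = K36.v1471 :=
  Lgr Lrot38 (Lpr_dt (K36.f495729 IH) (Lpn K36.v1471))
theorem f172148 : Led Lsl_gt (LP (LK LD1_c2 LD2_c45 LD3_c61)) = (LP (LK LD1_c5 LD2_c40 LD3_c7)) :=
  Lre_g IH (LK LD1_c2 LD2_c45 LD3_c61) (LK LD1_c5 LD2_c40 LD3_c7) Lrfl Lrfl
theorem f549369 : Led Lsl_dt (LP (LK LD1_c5 LD2_c40 LD3_c7)) = (LP (LK LD1_c9 LD2_c0 LD3_c17)) :=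
  Lgr Lrot57 (Lpe (f172148 IH) (Lpe (K30.f172147 IH) (Lpr_gt (K36.f226540 IH) (Lpqs (K36.f537436 IH) (Lpe (f495730 IH) (Lpr_gt (K35.f172280 IH) (Lpr_dt (K9.f172152 IH) (Lpe (K37.f172279 IH) (Lpr_df (f549360 IH) (Lpe (f211812 IH) (Lpn (LP (LK LD1_c9 LD2_c0 LD3_c17)))))))))))))
theorem f549382 : Led Lsl_ct (LP (LK LD1_c2 LD2_c46 LD3_c32)) = (LP (LK LD1_c5 LD2_c40 LD3_c7)) :=
  Lgr Lrot176 (Lpe (K10.f60178 IH) (Lpe (K10.f60156 IH) (Lpe (K9.f60208 IH) (Lpe (K10.f60211 IH) (Lpe (K36.f60210 IH) (Lpr_cf (f549375 IH) (Lpr_df (f495775 IH) (Lpe (K36.f538921 IH) (Lpe (K35.f176898 IH) (Lpe (K16.f60158 IH) (Lpr_df (K9.f176895 IH) (Lpe (K11.f20226 IH) (Lpe (K11.f27010 IH) (Lpr_cf (f549373 IH) (Lpe (f549369 IH) (Lpn (LP (LK LD1_c5 LD2_c40 LD3_c7))))))))))))))))))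
theorem f553538 : Led Lsl_gf (LP (LK LD1_c6 LD2_c9 LD3_c9)) = (LP (LK LD1_c5 LD2_c40 LD3_c7)) :=
  Lgr Lrot129 (Lpe (K36.f176757 IH) (Lpr_bt (K36.f538925 IH) (Lpe (K31.f380417 IH) (Lpe (K31.f174754 IH) (Lpr_ct (K31.f174757 IH) (Lpr_gt (f553526 IH) (Lpe (f211919 IH) (Lpr_bt (f547170 IH) (Lpr_gt (K10.f60213 IH) (Lpr_ct (f549382 IH) (Lpn (LP (LK LD1_c5 LD2_c40 LD3_c7)))))))))))))
theorem f60215 : Led Lsl_ct (LP (LK LD1_c6 LD2_c9 LD3_c9)) = (LP (LK LD1_c3 LD2_c0 LD3_c58)) :=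
  Lre_c IH (LK LD1_c6 LD2_c9 LD3_c9) (LK LD1_c3 LD2_c0 LD3_c58) Lrfl Lrfl
def v1470 : LQ := Led Lsl_dt (LP (LK LD1_c1 LD2_c19 LD3_c32))
theorem f495725 : Led Lsl_dt (LP (LK LD1_c1 LD2_c19 LD3_c32)) = v1470 :=
  Lrfl
theorem f60212 : Led Lsl_gt (LP (LK LD1_c0 LD2_c36 LD3_c43)) = (LP (LK LD1_c1 LD2_c19 LD3_c32)) :=
  Lre_g IH (LK LD1_c0 LD2_c36 LD3_c43) (LK LD1_c1 LD2_c19 LD3_c32) Lrfl Lrfl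
theorem f211781 : Led Lsl_et (LP (LK LD1_c0 LD2_c38 LD3_c12)) = (LP (LK LD1_c1 LD2_c19 LD3_c32)) :=
  Lgr Lrot122 (Lpr_dt (K12.f211763 IH) (Lpr_gt (K12.f211767 IH) (Lpe (K12.f20718 IH) (Lpr_et (K12.f211770 IH) (Lpr_gt (K12.f211771 IH) (Lpe (K12.f211774 IH) (Lpr_gt (K12.f174941 IH) (Lpe (K9.f171300 IH) (Lpr_et (K30.f211780 IH) (Lpr_gt (f60212 IH) (Lpn (LP (LK LD1_c1 LD2_c19 LD3_c32)))))))))))))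
theorem f211792 : Led Lsl_ef (LP (LK LD1_c0 LD2_c38 LD3_c12)) = (LP (LK LD1_c1 LD2_c19 LD3_c32)) :=
  Lgr Lrot88 (Lpr_et (f211781 IH) (Lpn (LP (LK LD1_c1 LD2_c19 LD3_c32))))
theorem f24223 : Led Lsl_ef (LP (LK LD1_c2 LD2_c16 LD3_c46)) = (LP (LK LD1_c1 LD2_c26 LD3_c17)) :=
  Lgr Lrot28 (Lpr_ct (K10.f24222 IH) (Lpr_et (K9.f24219 IH) (Lpr_ct (K19.f9537 IH) (Lpn (LP (LK LD1_c1 LD2_c26 LD3_c17))))))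
theorem f495727 : Led Lsl_gt (LP (LK LD1_c3 LD2_c0 LD3_c58)) = v1470 :=
  Lgr Lrot112 (Lpe (K36.f24234 IH) (Lpe (f24223 IH) (Lpr_gf (K12.f211730 IH) (Lpe (K12.f211733 IH) (Lpe (K12.f211734 IH) (Lpe (K12.f26579 IH) (Lpe (K12.f24421 IH) (Lpe (K12.f24430 IH) (Lpr_ef (f211792 IH) (Lpr_dt (f495725 IH) (Lpn v1470)))))))))))
theorem f536100 : Led Lsl_dt (LP (LK LD1_c2 LD2_c45 LD3_c60)) = K35.v383 :=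
  Lgr Lrot79 (Lpe (K35.f424388 IH) (Lpr_df (K35.f536099 IH) (Lpe (K35.f536093 IH) (Lpn K35.v383))))
theorem f536105 : Led Lsl_df (LP (LK LD1_c2 LD2_c45 LD3_c60)) = K35.v383 :=
  Lgr Lrot38 (Lpr_dt (f536100 IH) (Lpn K35.v383))
theorem f494126 : Led Lsl_at (LP (LK LD1_c1 LD2_c19 LD3_c35)) = K36.v1225 :=
  Lgr Lrot66 (Lpe (K30.f380107 IH) (Lpr_af (K37.f452174 IH) (Lpr_ff (K36.f494124 IH) (Lpn K36.v1225))))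
theorem f494129 : Led Lsl_gt (LP (LK LD1_c1 LD2_c19 LD3_c32)) = K36.v1225 :=
  Lgr Lrot46 (Lpe (f60212 IH) (Lpr_ft (K30.f380107 IH) (Lpr_at (f494126 IH) (Lpn K36.v1225))))
theorem f537179 : (LP (LK LD1_c1 LD2_c19 LD3_c32)) = K35.v383 :=
  Lefun (Lecon (Lfl_gt (f494129 IH)) (K36.f537011 IH)) (K35.f452546 IH)
theorem f537449 : (LP (LK LD1_c2 LD2_c45 LD3_c60)) = v1470 :=
  Lefun (Lecon (Lfl_df (f536105 IH)) (f537179 IH).symm) (f495725 IH)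
theorem f424423 : Led Lsl_ct (LP (LK LD1_c2 LD2_c45 LD3_c60)) = (LP (LK LD1_c5 LD2_c40 LD3_c5)) :=
  Lre_c IH (LK LD1_c2 LD2_c45 LD3_c60) (LK LD1_c5 LD2_c40 LD3_c5) Lrfl Lrfl
theorem f172149 : Led Lsl_et (LP (LK LD1_c1 LD2_c19 LD3_c23)) = (LP (LK LD1_c0 LD2_c36 LD3_c39)) :=
  Lre_e IH (LK LD1_c1 LD2_c19 LD3_c23) (LK LD1_c0 LD2_c36 LD3_c39) Lrfl Lrfl
theorem f354364 : Led Lsl_ft (LP (LK LD1_c2 LD2_c46 LD3_c4)) = (LP (LK LD1_c1 LD2_c19 LD3_c23)) :=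
  Lre_f IH (LK LD1_c2 LD2_c46 LD3_c4) (LK LD1_c1 LD2_c19 LD3_c23) Lrfl Lrfl
theorem f319340 : Led Lsl_ft (LP (LK LD1_c2 LD2_c12 LD3_c32)) = (LP (LK LD1_c4 LD2_c31 LD3_c12)) :=
  Lre_f IH (LK LD1_c2 LD2_c12 LD3_c32) (LK LD1_c4 LD2_c31 LD3_c12) Lrfl Lrfl
theorem f354365 : Led Lsl_ef (LP (LK LD1_c2 LD2_c46 LD3_c4)) = (LP (LK LD1_c4 LD2_c31 LD3_c12)) :=
  Lgr Lrot21 (Lpr_ft (f354364 IH) (Lpr_et (f172149 IH) (Lpr_ft (K30.f354358 IH) (Lpr_et (K20.f211783 IH) (Lpr_ft (f319340 IH) (Lpn (LP (LK LD1_c4 LD2_c31 LD3_c12))))))))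
theorem f354370 : Led Lsl_et (LP (LK LD1_c2 LD2_c46 LD3_c4)) = (LP (LK LD1_c4 LD2_c31 LD3_c12)) :=
  Lgr Lrot87 (Lpr_ef (f354365 IH) (Lpn (LP (LK LD1_c4 LD2_c31 LD3_c12))))
theorem f354372 : Led Lsl_bt (LP (LK LD1_c5 LD2_c40 LD3_c13)) = (LP (LK LD1_c2 LD2_c46 LD3_c4)) :=
  Lre_b IH (LK LD1_c5 LD2_c40 LD3_c13) (LK LD1_c2 LD2_c46 LD3_c4) Lrfl Lrfl
theorem f319356 : Led Lsl_bt (LP (LK LD1_c4 LD2_c31 LD3_c12)) = (LP (LK LD1_c9 LD2_c0 LD3_c21)) :=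
  Lre_b IH (LK LD1_c4 LD2_c31 LD3_c12) (LK LD1_c9 LD2_c0 LD3_c21) Lrfl Lrfl
theorem f354373 : Led Lsl_ef (LP (LK LD1_c5 LD2_c40 LD3_c13)) = (LP (LK LD1_c9 LD2_c0 LD3_c21)) :=
  Lgr Lrot29 (Lpr_bt (f354372 IH) (Lpr_et (f354370 IH) (Lpr_bt (f319356 IH) (Lpn (LP (LK LD1_c9 LD2_c0 LD3_c21))))))
theorem f354377 : Led Lsl_ft (LP (LK LD1_c5 LD2_c40 LD3_c13)) = (LP (LK LD1_c2 LD2_c46 LD3_c0)) :=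
  Lre_f IH (LK LD1_c5 LD2_c40 LD3_c13) (LK LD1_c2 LD2_c46 LD3_c0) Lrfl Lrfl
theorem f354378 : Led Lsl_et (LP (LK LD1_c2 LD2_c46 LD3_c0)) = (LP (LK LD1_c1 LD2_c19 LD3_c22)) :=
  Lre_e IH (LK LD1_c2 LD2_c46 LD3_c0) (LK LD1_c1 LD2_c19 LD3_c22) Lrfl Lrfl
theorem f354379 : Led Lsl_ft (LP (LK LD1_c4 LD2_c31 LD3_c9)) = (LP (LK LD1_c9 LD2_c0 LD3_c21)) :=
  Lre_f IH (LK LD1_c4 LD2_c31 LD3_c9) (LK LD1_c9 LD2_c0 LD3_c21) Lrfl Lrfl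
theorem f354380 : Led Lsl_et (LP (LK LD1_c2 LD2_c12 LD3_c31)) = (LP (LK LD1_c4 LD2_c31 LD3_c9)) :=
  Lre_e IH (LK LD1_c2 LD2_c12 LD3_c31) (LK LD1_c4 LD2_c31 LD3_c9) Lrfl Lrfl
theorem f354381 : Led Lsl_ft (LP (LK LD1_c1 LD2_c19 LD3_c22)) = (LP (LK LD1_c2 LD2_c12 LD3_c31)) :=
  Lgr Lrot86 (Lpe (f354378 IH) (Lpe (f354377 IH) (Lpr_ef (f354373 IH) (Lpe (f354379 IH) (Lpe (f354380 IH) (Lpn (LP (LK LD1_c2 LD2_c12 LD3_c31))))))))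
theorem f258921 : Led Lsl_ct (LP (LK LD1_c2 LD2_c45 LD3_c61)) = (LP (LK LD1_c1 LD2_c19 LD3_c22)) :=
  Lre_c IH (LK LD1_c2 LD2_c45 LD3_c61) (LK LD1_c1 LD2_c19 LD3_c22) Lrfl Lrfl
theorem f354384 : Led Lsl_ff (LP (LK LD1_c2 LD2_c45 LD3_c61)) = (LP (LK LD1_c4 LD2_c31 LD3_c8)) :=
  Lgr Lrot23 (Lpr_ct (f258921 IH) (Lpr_ft (f354381 IH) (Lpr_ct (K30.f211811 IH) (Lpn (LP (LK LD1_c4 LD2_c31 LD3_c8))))))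
theorem f354389 : Led Lsl_at (LP (LK LD1_c2 LD2_c45 LD3_c61)) = (LP (LK LD1_c5 LD2_c39 LD3_c61)) :=
  Lre_a IH (LK LD1_c2 LD2_c45 LD3_c61) (LK LD1_c5 LD2_c39 LD3_c61) Lrfl Lrfl
theorem f354397 : Led Lsl_gf (LP (LK LD1_c5 LD2_c39 LD3_c61)) = (LP (LK LD1_c9 LD2_c0 LD3_c16)) :=
  Lgr Lrot76 (Lpe (f354389 IH) (Lpr_ff (f354384 IH) (Lpr_gt (K30.f354396 IH) (Lpn (LP (LK LD1_c9 LD2_c0 LD3_c16))))))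
theorem f494027 : Led Lsl_dt (LP (LK LD1_c5 LD2_c39 LD3_c61)) = (LP (LK LD1_c2 LD2_c46 LD3_c33)) :=
  Lgr Lrot42 (Lpr_df (K30.f494021 IH) (Lpn (LP (LK LD1_c2 LD2_c46 LD3_c33))))
theorem f549386 : Led Lsl_gf (LP (LK LD1_c5 LD2_c40 LD3_c57)) = (LP (LK LD1_c2 LD2_c46 LD3_c33)) :=
  Lgr Lrot143 (Lpr_dt (f412104 IH) (Lpe (K37.f60017 IH) (Lpe (K10.f59820 IH) (Lpe (K10.f175847 IH) (Lpe (K10.f175858 IH) (Lpr_gf (K10.f180348 IH) (Lpr_cf (f549375 IH) (Lpe (f354397 IH) (Lpr_dt (f494027 IH) (Lpn (LP (LK LD1_c2 LD2_c46 LD3_c33))))))))))))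
theorem f549390 : Led Lsl_gf (LP (LK LD1_c9 LD2_c0 LD3_c17)) = (LP (LK LD1_c5 LD2_c39 LD3_c61)) :=
  Lgr Lrot147 (Lpe (f549373 IH) (Lpe (K24.f268506 IH) (Lpr_ct (K16.f268513 IH) (Lpe (K16.f68782 IH) (Lpe (K16.f68594 IH) (Lpe (K10.f68588 IH) (Lpe (f412097 IH) (Lpr_gf (f549386 IH) (Lpe (f494027 IH) (Lpn (LP (LK LD1_c5 LD2_c39 LD3_c61))))))))))))
theorem f225344 : Led Lsl_bt (LP (LK LD1_c1 LD2_c19 LD3_c41)) = (LP (LK LD1_c0 LD2_c36 LD3_c53)) :=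
  Lre_b IH (LK LD1_c1 LD2_c19 LD3_c41) (LK LD1_c0 LD2_c36 LD3_c53) Lrfl Lrfl
theorem f542285 : Led Lsl_gf (LP (LK LD1_c2 LD2_c46 LD3_c33)) = (LP (LK LD1_c2 LD2_c49 LD3_c15)) :=
  Lgr Lrot126 (Lpe (K30.f225345 IH) (Lpr_bt (f225344 IH) (Lpr_gt (K12.f225340 IH) (Lpe (K12.f225252 IH) (Lpr_gt (K12.f225338 IH) (Lpr_cf (K12.f173400 IH) (Lpr_bt (K20.f174453 IH) (Lpr_gt (K37.f542256 IH) (Lpe (K37.f60141 IH) (Lpr_ct (K37.f60017 IH) (Lpn (LP (LK LD1_c2 LD2_c49 LD3_c15)))))))))))))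
theorem f549416 : Led Lsl_dt (LP (LK LD1_c9 LD2_c0 LD3_c17)) = (LP (LK LD1_c5 LD2_c40 LD3_c7)) :=
  Lgr Lrot113 (Lpr_gf (f549390 IH) (Lpr_df (K30.f494021 IH) (Lpr_gf (f542285 IH) (Lpr_ct (f60002 IH) (Lpr_gt (K16.f59821 IH) (Lpe (K16.f268679 IH) (Lpr_gt (K32.f268715 IH) (Lpr_dt (K10.f60178 IH) (Lpr_ct (f549382 IH) (Lpn (LP (LK LD1_c5 LD2_c40 LD3_c7))))))))))))
theorem f211810 : Led Lsl_ct (LP (LK LD1_c4 LD2_c31 LD3_c8)) = (LP (LK LD1_c2 LD2_c12 LD3_c31)) :=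
  Lre_c IH (LK LD1_c4 LD2_c31 LD3_c8) (LK LD1_c2 LD2_c12 LD3_c31) Lrfl Lrfl
theorem f354421 : Led Lsl_ct (LP (LK LD1_c4 LD2_c31 LD3_c6)) = (LP (LK LD1_c9 LD2_c0 LD3_c11)) :=
  Lre_c IH (LK LD1_c4 LD2_c31 LD3_c6) (LK LD1_c9 LD2_c0 LD3_c11) Lrfl Lrfl
theorem f553544 : Led Lsl_dt (LP (LK LD1_c5 LD2_c40 LD3_c5)) = (LP (LK LD1_c9 LD2_c0 LD3_c11)) :=
  Lgr Lrot27 (Lpe (f424423 IH) (Lpqs (f537449 IH) (Lpe (f495727 IH) (Lpe (f60215 IH) (Lpr_gf (f553538 IH) (Lpe (f549416 IH) (Lpr_gt (f211812 IH) (Lpr_ct (f211810 IH) (Lpr_gt (K30.f225174 IH) (Lpr_ct (f354421 IH) (Lpn (LP (LK LD1_c9 LD2_c0 LD3_c11)))))))))))))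
theorem f211797 : Led Lsl_ct (LP (LK LD1_c1 LD2_c26 LD3_c23)) = (LP (LK LD1_c1 LD2_c19 LD3_c32)) :=
  Lgr Lrot15 (Lpe (K10.f175549 IH) (Lpe (K37.f211753 IH) (Lpr_ef (f211792 IH) (Lpn (LP (LK LD1_c1 LD2_c19 LD3_c32))))))
def v1381 : LQ := Led Lsl_ct (LP (LK LD1_c1 LD2_c10 LD3_c28))
theorem f495224 : Led Lsl_ct (LP (LK LD1_c1 LD2_c10 LD3_c28)) = v1381 :=
  Lrfl
theorem f495226 : Led Lsl_cf (LP (LK LD1_c1 LD2_c10 LD3_c28)) = v1381 :=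
  Lgr Lrot11 (Lpr_ct (f495224 IH) (Lpn v1381))
theorem f198317 : Led Lsl_bf (LP (LK LD1_c0 LD2_c36 LD3_c46)) = (LP (LK LD1_c1 LD2_c10 LD3_c28)) :=
  Lgr Lrot24 (Lpr_bt (K10.f198315 IH) (Lpn (LP (LK LD1_c1 LD2_c10 LD3_c28))))
theorem f334598 : Led Lsl_et (LP (LK LD1_c1 LD2_c3 LD3_c38)) = (LP (LK LD1_c0 LD2_c36 LD3_c48)) :=
  Lgr Lrot87 (Lpr_ef (K22.f334592 IH) (Lpn (LP (LK LD1_c0 LD2_c36 LD3_c48))))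
theorem f20764 : Led Lsl_ft (LP (LK LD1_c0 LD2_c29 LD3_c3)) = (LP (LK LD1_c1 LD2_c3 LD3_c38)) :=
  Lre_f IH (LK LD1_c0 LD2_c29 LD3_c3) (LK LD1_c1 LD2_c3 LD3_c38) Lrfl Lrfl
theorem f181448 : Led Lsl_bf (LP (LK LD1_c1 LD2_c3 LD3_c38)) = (LP (LK LD1_c1 LD2_c3 LD3_c38)) :=
  Lgr Lrot61 (Lpr_ft (K22.f20763 IH) (Lpr_bt (K10.f181443 IH) (Lpr_ft (f20764 IH) (Lpn (LP (LK LD1_c1 LD2_c3 LD3_c38))))))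
theorem f396350 : Led Lsl_bf (LP (LK LD1_c0 LD2_c36 LD3_c48)) = (LP (LK LD1_c0 LD2_c36 LD3_c48)) :=
  Lgr Lrot96 (Lpe (K22.f334592 IH) (Lpe (f181448 IH) (Lpr_et (f334598 IH) (Lpn (LP (LK LD1_c0 LD2_c36 LD3_c48))))))
theorem f313682 : Led Lsl_ct (LP (LK LD1_c0 LD2_c36 LD3_c48)) = (LP (LK LD1_c1 LD2_c19 LD3_c35)) :=
  Lre_c IH (LK LD1_c0 LD2_c36 LD3_c48) (LK LD1_c1 LD2_c19 LD3_c35) Lrfl Lrfl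
theorem f495230 : Led Lsl_gt (LP (LK LD1_c1 LD2_c19 LD3_c35)) = v1381 :=
  Lgr Lrot65 (Lpe (f313682 IH) (Lpe (f396350 IH) (Lpe (K36.f313676 IH) (Lpr_bf (K10.f198311 IH) (Lpr_ct (f211797 IH) (Lpe (f60212 IH) (Lpe (K35.f22416 IH) (Lpe (K9.f60155 IH) (Lpr_bf (f198317 IH) (Lpr_ct (f495224 IH) (Lpn v1381)))))))))))
theorem f537396 : (LP (LK LD1_c2 LD2_c12 LD3_c55)) = v1381 :=
  Lefun (Lecon (K30.f494105 IH) (K38.f537172 IH)) (f495230 IH)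
theorem f495868 : Led Lsl_df (LP (LK LD1_c4 LD2_c31 LD3_c48)) = (LP (LK LD1_c9 LD2_c0 LD3_c13)) :=
  Lgr Lrot162 (Lpr_cf (K30.f495865 IH) (Lpe (K30.f495860 IH) (Lpe (K27.f381643 IH) (Lpr_gf (K27.f381668 IH) (Lpr_dt (f381683 IH) (Lpr_gt (K27.f255976 IH) (Lpr_ct (K30.f310095 IH) (Lpe (K27.f382416 IH) (Lpr_ct (K30.f382427 IH) (Lpn (LP (LK LD1_c9 LD2_c0 LD3_c13))))))))))))
theorem f495878 : Led Lsl_dt (LP (LK LD1_c2 LD2_c12 LD3_c55)) = (LP (LK LD1_c4 LD2_c31 LD3_c7)) :=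
  Lgr Lrot79 (Lpe (K30.f381685 IH) (Lpr_df (f495868 IH) (Lpe (f382424 IH) (Lpn (LP (LK LD1_c4 LD2_c31 LD3_c7))))))
theorem f495880 : Led Lsl_df (LP (LK LD1_c2 LD2_c12 LD3_c55)) = (LP (LK LD1_c4 LD2_c31 LD3_c7)) :=
  Lgr Lrot38 (Lpr_dt (f495878 IH) (Lpn (LP (LK LD1_c4 LD2_c31 LD3_c7))))
theorem f354420 : Led Lsl_ct (LP (LK LD1_c9 LD2_c0 LD3_c11)) = (LP (LK LD1_c4 LD2_c31 LD3_c6)) :=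
  Lre_c IH (LK LD1_c9 LD2_c0 LD3_c11) (LK LD1_c4 LD2_c31 LD3_c6) Lrfl Lrfl
theorem f494366 : Led Lsl_gf (LP (LK LD1_c1 LD2_c19 LD3_c35)) = K37.v1260 :=
  Lgr Lrot141 (Lpe (K24.f334594 IH) (Lpr_dt (K24.f380086 IH) (Lpr_gt (K24.f171792 IH) (Lpe (K12.f171781 IH) (Lpr_et (K12.f171782 IH) (Lpe (K12.f211682 IH) (Lpr_dt (K12.f20736 IH) (Lpe (K36.f227461 IH) (Lpe (K9.f151832 IH) (Lpr_et (K37.f494360 IH) (Lpn K37.v1260)))))))))))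
theorem f537406 : (LP (LK LD1_c2 LD2_c12 LD3_c54)) = K37.v1260 :=
  Lefun (Lecon (Lfl_gt (K30.f452550 IH)) (K38.f537172 IH)) (f494366 IH)
theorem f424384 : Led Lsl_ct (LP (LK LD1_c2 LD2_c45 LD3_c59)) = (LP (LK LD1_c5 LD2_c40 LD3_c2)) :=
  Lre_c IH (LK LD1_c2 LD2_c45 LD3_c59) (LK LD1_c5 LD2_c40 LD3_c2) Lrfl Lrfl
theorem f553710 : Led Lsl_df (LP (LK LD1_c9 LD2_c0 LD3_c14)) = (LP (LK LD1_c5 LD2_c40 LD3_c2)) :=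
  Lgr Lrot43 (Lpr_ct (f382425 IH) (Lpe (f495880 IH) (Lpqs (f537396 IH) (Lpe (f495226 IH) (Lpr_dt (K10.f175552 IH) (Lpr_ct (f211797 IH) (Lpqs (f537179 IH) (Lpe (f536105 IH) (Lpr_ct (f424423 IH) (Lpr_dt (f553544 IH) (Lpr_ct (f354420 IH) (Lpr_dt (K30.f418801 IH) (Lpqs (f537406 IH) (Lpe (K37.f494362 IH) (Lpr_dt (K16.f186485 IH) (Lpr_ct (K35.f194007 IH) (Lpr_dt (K36.f495729 IH) (Lpq (K36.f537436 IH) (Lpr_ct (f424384 IH) (Lpn (LP (LK LD1_c5 LD2_c40 LD3_c2))))))))))))))))))))))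
theorem f553717 : Led Lsl_gf (LP (LK LD1_c4 LD2_c31 LD3_c7)) = (LP (LK LD1_c2 LD2_c45 LD3_c58)) :=
  Lgr Lrot104 (Lpr_ct (f382442 IH) (Lpr_df (f553710 IH) (Lpe (f424384 IH) (Lpe (K36.f226540 IH) (Lpe (f258921 IH) (Lpe (K30.f174649 IH) (Lpe (K30.f495770 IH) (Lpe (f354397 IH) (Lpr_ct (K30.f354401 IH) (Lpn (LP (LK LD1_c2 LD2_c45 LD3_c58))))))))))))
theorem f164996 : Led Lsl_ct (LP (LK LD1_c2 LD2_c12 LD3_c56)) = (LP (LK LD1_c4 LD2_c31 LD3_c49)) :=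
  Lre_c IH (LK LD1_c2 LD2_c12 LD3_c56) (LK LD1_c4 LD2_c31 LD3_c49) Lrfl Lrfl
theorem f553720 : Led Lsl_df (LP (LK LD1_c4 LD2_c31 LD3_c49)) = (LP (LK LD1_c6 LD2_c9 LD3_c9)) :=
  Lgr Lrot84 (Lpe (f164996 IH) (Lpe (K24.f379936 IH) (Lpe (K30.f381684 IH) (Lpr_df (f495880 IH) (Lpr_gf (f553717 IH) (Lpe (K30.f354401 IH) (Lpe (f549390 IH) (Lpr_dt (f549416 IH) (Lpe (f553538 IH) (Lpn (LP (LK LD1_c6 LD2_c9 LD3_c9))))))))))))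
theorem f553730 : Led Lsl_gt (LP (LK LD1_c4 LD2_c31 LD3_c49)) = (LP (LK LD1_c3 LD2_c0 LD3_c57)) :=
  Lgr Lrot49 (Lpr_df (f553720 IH) (Lpr_gf (f553538 IH) (Lpe (f549382 IH) (Lpr_gt (K32.f268489 IH) (Lpr_dt (K16.f22900 IH) (Lpe (K10.f175930 IH) (Lpr_dt (K1.f59935 IH) (Lpe (K9.f60098 IH) (Lpe (K9.f60073 IH) (Lpn (LP (LK LD1_c3 LD2_c0 LD3_c57))))))))))))
theorem f553734 : Led Lsl_cf (LP (LK LD1_c2 LD2_c46 LD3_c30)) = (LP (LK LD1_c5 LD2_c40 LD3_c8)) :=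
  Lgr Lrot169 (Lpr_gt (K35.f193988 IH) (Lpr_ct (K16.f60129 IH) (Lpr_df (K16.f268645 IH) (Lpe (K16.f68780 IH) (Lpe (K16.f268653 IH) (Lpe (K1.f9525 IH) (Lpe (f553730 IH) (Lpr_df (f553720 IH) (Lpe (K36.f538923 IH) (Lpn (LP (LK LD1_c5 LD2_c40 LD3_c8))))))))))))
theorem f553743 : Led Lsl_gf (LP (LK LD1_c5 LD2_c46 LD3_c59)) = (LP (LK LD1_c5 LD2_c40 LD3_c9)) :=
  Lgr Lrot143 (Lpe (K1.f60090 IH) (Lpe (K9.f9528 IH) (Lpe (K9.f9527 IH) (Lpe (K10.f9538 IH) (Lpe (K16.f60110 IH) (Lpe (K35.f193988 IH) (Lpr_cf (f553734 IH) (Lpr_gt (K30.f174649 IH) (Lpr_dt (K30.f354390 IH) (Lpn (LP (LK LD1_c5 LD2_c40 LD3_c9))))))))))))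
theorem f552601 : Led Lsl_bt (LP (LK LD1_c2 LD2_c49 LD3_c16)) = (LP (LK LD1_c2 LD2_c47 LD3_c23)) :=
  Lgr Lrot95 (Lpe (K1.f59935 IH) (Lpe (K36.f59924 IH) (Lpr_df (f552594 IH) (Lpn (LP (LK LD1_c2 LD2_c47 LD3_c23))))))
theorem f268906 : Led Lsl_at (LP (LK LD1_c1 LD2_c19 LD3_c52)) = (LP (LK LD1_c2 LD2_c46 LD3_c50)) :=
  Lre_a IH (LK LD1_c1 LD2_c19 LD3_c52) (LK LD1_c2 LD2_c46 LD3_c50) Lrfl Lrfl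
theorem f268908 : Led Lsl_bt (LP (LK LD1_c2 LD2_c46 LD3_c50)) = (LP (LK LD1_c4 LD2_c32 LD3_c12)) :=
  Lgr Lrot62 (Lpe (f268906 IH) (Lpe (K31.f174114 IH) (Lpr_af (K16.f268902 IH) (Lpe (K31.f174441 IH) (Lpe (K38.f268907 IH) (Lpn (LP (LK LD1_c4 LD2_c32 LD3_c12))))))))
theorem f225427 : Led Lsl_ct (LP (LK LD1_c2 LD2_c46 LD3_c33)) = (LP (LK LD1_c1 LD2_c19 LD3_c41)) :=
  Lre_c IH (LK LD1_c2 LD2_c46 LD3_c33) (LK LD1_c1 LD2_c19 LD3_c41) Lrfl Lrfl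
theorem f354405 : Led Lsl_at (LP (LK LD1_c5 LD2_c39 LD3_c61)) = (LP (LK LD1_c2 LD2_c45 LD3_c61)) :=
  Lre_a IH (LK LD1_c5 LD2_c39 LD3_c61) (LK LD1_c2 LD2_c45 LD3_c61) Lrfl Lrfl
theorem f494023 : Led Lsl_at (LP (LK LD1_c5 LD2_c40 LD3_c9)) = (LP (LK LD1_c2 LD2_c46 LD3_c33)) :=
  Lgr Lrot51 (Lpe (K30.f354390 IH) (Lpe (f354405 IH) (Lpr_df (K30.f494021 IH) (Lpn (LP (LK LD1_c2 LD2_c46 LD3_c33))))))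
theorem f495765 : Led Lsl_cf (LP (LK LD1_c5 LD2_c40 LD3_c9)) = K30.v1479 :=
  Lgr Lrot1 (Lpr_at (f494023 IH) (Lpr_ct (f225427 IH) (Lpr_at (K30.f495762 IH) (Lpn K30.v1479))))
theorem f537419 : K30.v1479 = (LP (LK LD1_c2 LD2_c46 LD3_c26)) :=
  Lefun (Lecon (K30.f495769 IH) (K38.f537172 IH)) (K24.f380094 IH)
theorem f553747 : Led Lsl_gt (LP (LK LD1_c5 LD2_c41 LD3_c33)) = (LP (LK LD1_c6 LD2_c15 LD3_c33)) :=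
  Lgr Lrot65 (Lpe (K20.f269060 IH) (Lpr_bt (f268908 IH) (Lpe (K36.f280302 IH) (Lpe (f552601 IH) (Lpr_ct (K1.f60100 IH) (Lpr_gf (f553743 IH) (Lpr_cf (f495765 IH) (Lpqs (f537419 IH) (Lpr_gf (K24.f380110 IH) (Lpe (K9.f73125 IH) (Lpr_ct (K17.f60791 IH) (Lpn (LP (LK LD1_c6 LD2_c15 LD3_c33))))))))))))))
theorem f174119 : Led Lsl_bt (LP (LK LD1_c1 LD2_c19 LD3_c52)) = (LP (LK LD1_c0 LD2_c36 LD3_c60)) :=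
  Lre_b IH (LK LD1_c1 LD2_c19 LD3_c52) (LK LD1_c0 LD2_c36 LD3_c60) Lrfl Lrfl
theorem f226712 : Led Lsl_bt (LP (LK LD1_c1 LD2_c3 LD3_c43)) = (LP (LK LD1_c2 LD2_c13 LD3_c19)) :=
  Lre_b IH (LK LD1_c1 LD2_c3 LD3_c43) (LK LD1_c2 LD2_c13 LD3_c19) Lrfl Lrfl
theorem f268916 : Led Lsl_ff (LP (LK LD1_c1 LD2_c19 LD3_c52)) = (LP (LK LD1_c2 LD2_c13 LD3_c19)) :=
  Lgr Lrot25 (Lpr_bt (f174119 IH) (Lpr_ft (K16.f268914 IH) (Lpr_bt (f226712 IH) (Lpn (LP (LK LD1_c2 LD2_c13 LD3_c19))))))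
theorem f226738 : Led Lsl_gt (LP (LK LD1_c2 LD2_c13 LD3_c19)) = (LP (LK LD1_c4 LD2_c32 LD3_c35)) :=
  Lre_g IH (LK LD1_c2 LD2_c13 LD3_c19) (LK LD1_c4 LD2_c32 LD3_c35) Lrfl Lrfl
theorem f412020 : Led Lsl_gf (LP (LK LD1_c2 LD2_c46 LD3_c50)) = (LP (LK LD1_c4 LD2_c32 LD3_c35)) :=
  Lgr Lrot76 (Lpe (f268906 IH) (Lpr_ff (f268916 IH) (Lpr_gt (f226738 IH) (Lpn (LP (LK LD1_c4 LD2_c32 LD3_c35))))))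
theorem f60804 : Led Lsl_ct (LP (LK LD1_c6 LD2_c15 LD3_c33)) = (LP (LK LD1_c3 LD2_c4 LD3_c49)) :=
  Lre_c IH (LK LD1_c6 LD2_c15 LD3_c33) (LK LD1_c3 LD2_c4 LD3_c49) Lrfl Lrfl
theorem f553764 : Led Lsl_df (LP (LK LD1_c4 LD2_c32 LD3_c35)) = (LP (LK LD1_c2 LD2_c26 LD3_c8)) :=
  Lgr Lrot155 (Lpe (f412020 IH) (Lpr_ct (K20.f269060 IH) (Lpr_gt (f553747 IH) (Lpr_ct (f60804 IH) (Lpr_dt (K37.f60800 IH) (Lpe (K2.f60470 IH) (Lpe (K35.f60466 IH) (Lpe (K35.f547795 IH) (Lpr_gf (K35.f385270 IH) (Lpn (LP (LK LD1_c2 LD2_c26 LD3_c8))))))))))))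
theorem f551606 : Led Lsl_at (LP (LK LD1_c4 LD2_c32 LD3_c52)) = (LP (LK LD1_c2 LD2_c46 LD3_c61)) :=
  Lgr Lrot100 (Lpr_af (f551603 IH) (Lpn (LP (LK LD1_c2 LD2_c46 LD3_c61))))
theorem f552072 : Led Lsl_gf (LP (LK LD1_c4 LD2_c32 LD3_c24)) = (LP (LK LD1_c2 LD2_c13 LD3_c25)) :=
  Lgr Lrot47 (Lpr_gt (f552070 IH) (Lpe (f551606 IH) (Lpe (K38.f551601 IH) (Lpn (LP (LK LD1_c2 LD2_c13 LD3_c25))))))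
theorem f166369 : Led Lsl_bt (LP (LK LD1_c2 LD2_c30 LD3_c14)) = (LP (LK LD1_c1 LD2_c12 LD3_c8)) :=
  Lre_b IH (LK LD1_c2 LD2_c30 LD3_c14) (LK LD1_c1 LD2_c12 LD3_c8) Lrfl Lrfl
theorem f180362 : Led Lsl_ef (LP (LK LD1_c2 LD2_c30 LD3_c14)) = (LP (LK LD1_c2 LD2_c49 LD3_c12)) :=
  Lgr Lrot29 (Lpr_bt (f166369 IH) (Lpr_et (K10.f180360 IH) (Lpr_bt (f175850 IH) (Lpn (LP (LK LD1_c2 LD2_c49 LD3_c12))))))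
theorem f380277 : Led Lsl_et (LP (LK LD1_c2 LD2_c26 LD3_c8)) = (LP (LK LD1_c4 LD2_c56 LD3_c40)) :=
  Lre_e IH (LK LD1_c2 LD2_c26 LD3_c8) (LK LD1_c4 LD2_c56 LD3_c40) Lrfl Lrfl
theorem f553775 : Led Lsl_gt (LP (LK LD1_c2 LD2_c30 LD3_c14)) = (LP (LK LD1_c4 LD2_c56 LD3_c40)) :=
  Lgr Lrot131 (Lpr_ef (f180362 IH) (Lpr_dt (f180385 IH) (Lpr_gf (K38.f547475 IH) (Lpe (K38.f174562 IH) (Lpr_gf (f552072 IH) (Lpq (f551596 IH) (Lpe (f495822 IH) (Lpr_dt (K20.f269059 IH) (Lpr_gf (f412020 IH) (Lpr_df (f553764 IH) (Lpr_et (f380277 IH) (Lpn (LP (LK LD1_c4 LD2_c56 LD3_c40))))))))))))))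
theorem f210643 : Led Lsl_gt (LP (LK LD1_c4 LD2_c36 LD3_c4)) = (LP (LK LD1_c2 LD2_c15 LD3_c21)) :=
  Lre_g IH (LK LD1_c4 LD2_c36 LD3_c4) (LK LD1_c2 LD2_c15 LD3_c21) Lrfl Lrfl
theorem f553781 : Led Lsl_df (LP (LK LD1_c2 LD2_c53 LD3_c52)) = (LP (LK LD1_c4 LD2_c56 LD3_c40)) :=
  Lgr Lrot135 (Lpr_gt (K38.f442704 IH) (Lpe (K35.f71098 IH) (Lpe (K35.f71067 IH) (Lpr_gt (f210643 IH) (Lpr_ef (K38.f547484 IH) (Lpr_dt (K38.f174562 IH) (Lpe (K38.f547475 IH) (Lpe (f180385 IH) (Lpe (f180362 IH) (Lpr_gt (f553775 IH) (Lpn (LP (LK LD1_c4 LD2_c56 LD3_c40)))))))))))))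
theorem f177395 : Led Lsl_ct (LP (LK LD1_c4 LD2_c5 LD3_c61)) = (LP (LK LD1_c2 LD2_c0 LD3_c16)) :=
  Lre_c IH (LK LD1_c4 LD2_c5 LD3_c61) (LK LD1_c2 LD2_c0 LD3_c16) Lrfl Lrfl
theorem f73479 : Led Lsl_gt (LP (LK LD1_c4 LD2_c4 LD3_c53)) = (LP (LK LD1_c1 LD2_c59 LD3_c33)) :=
  Lre_g IH (LK LD1_c4 LD2_c4 LD3_c53) (LK LD1_c1 LD2_c59 LD3_c33) Lrfl Lrfl
theorem f285108 : Led Lsl_ft (LP (LK LD1_c1 LD2_c12 LD3_c7)) = (LP (LK LD1_c1 LD2_c13 LD3_c29)) :=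
  Lgr Lrot48 (Lpr_ff (K36.f285104 IH) (Lpn (LP (LK LD1_c1 LD2_c13 LD3_c29))))
theorem f285112 : Led Lsl_ff (LP (LK LD1_c2 LD2_c30 LD3_c12)) = (LP (LK LD1_c2 LD2_c30 LD3_c43)) :=
  Lgr Lrot19 (Lpr_dt (K11.f166187 IH) (Lpr_ft (f285108 IH) (Lpr_dt (K10.f194019 IH) (Lpn (LP (LK LD1_c2 LD2_c30 LD3_c43))))))
theorem f285118 : Led Lsl_at (LP (LK LD1_c2 LD2_c30 LD3_c12)) = (LP (LK LD1_c2 LD2_c30 LD3_c44)) :=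
  Lgr Lrot26 (Lpr_ff (f285112 IH) (Lpe (K10.f194029 IH) (Lpr_gt (K14.f186166 IH) (Lpn (LP (LK LD1_c2 LD2_c30 LD3_c44))))))
theorem f185139 : Led Lsl_et (LP (LK LD1_c2 LD2_c30 LD3_c44)) = (LP (LK LD1_c5 LD2_c6 LD3_c54)) :=
  Lre_e IH (LK LD1_c2 LD2_c30 LD3_c44) (LK LD1_c5 LD2_c6 LD3_c54) Lrfl Lrfl
theorem f285124 : Led Lsl_af (LP (LK LD1_c5 LD2_c5 LD3_c54)) = (LP (LK LD1_c5 LD2_c6 LD3_c54)) :=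
  Lgr Lrot50 (Lpr_et (K36.f177749 IH) (Lpr_at (f285118 IH) (Lpr_et (f185139 IH) (Lpn (LP (LK LD1_c5 LD2_c6 LD3_c54))))))
theorem f285126 : Led Lsl_at (LP (LK LD1_c5 LD2_c5 LD3_c54)) = (LP (LK LD1_c5 LD2_c6 LD3_c54)) :=
  Lgr Lrot100 (Lpr_af (f285124 IH) (Lpn (LP (LK LD1_c5 LD2_c6 LD3_c54))))
theorem f175801 : Led Lsl_et (LP (LK LD1_c2 LD2_c57 LD3_c60)) = (LP (LK LD1_c1 LD2_c24 LD3_c40)) :=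
  Lre_e IH (LK LD1_c2 LD2_c57 LD3_c60) (LK LD1_c1 LD2_c24 LD3_c40) Lrfl Lrfl
theorem f185140 : Led Lsl_dt (LP (LK LD1_c5 LD2_c6 LD3_c54)) = (LP (LK LD1_c2 LD2_c57 LD3_c60)) :=
  Lgr Lrot77 (Lpe (f185139 IH) (Lpe (K14.f185129 IH) (Lpr_ef (K10.f185131 IH) (Lpe (K10.f175574 IH) (Lpe (f175801 IH) (Lpn (LP (LK LD1_c2 LD2_c57 LD3_c60))))))))
theorem f285138 : Led Lsl_af (LP (LK LD1_c4 LD2_c39 LD3_c22)) = (LP (LK LD1_c2 LD2_c57 LD3_c60)) :=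
  Lgr Lrot117 (Lpe (K36.f177751 IH) (Lpr_at (f285126 IH) (Lpr_dt (f185140 IH) (Lpn (LP (LK LD1_c2 LD2_c57 LD3_c60))))))
theorem f268432 : Led Lsl_ft (LP (LK LD1_c4 LD2_c39 LD3_c22)) = (LP (LK LD1_c9 LD2_c14 LD3_c25)) :=
  Lre_f IH (LK LD1_c4 LD2_c39 LD3_c22) (LK LD1_c9 LD2_c14 LD3_c25) Lrfl Lrfl
theorem f186198 : Led Lsl_ft (LP (LK LD1_c6 LD2_c3 LD3_c47)) = (LP (LK LD1_c2 LD2_c57 LD3_c60)) :=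
  Lre_f IH (LK LD1_c6 LD2_c3 LD3_c47) (LK LD1_c2 LD2_c57 LD3_c60) Lrfl Lrfl
theorem f285146 : Led Lsl_at (LP (LK LD1_c9 LD2_c14 LD3_c25)) = (LP (LK LD1_c6 LD2_c3 LD3_c47)) :=
  Lgr Lrot66 (Lpe (f268432 IH) (Lpr_af (f285138 IH) (Lpe (f186198 IH) (Lpn (LP (LK LD1_c6 LD2_c3 LD3_c47))))))
theorem f175701 : Led Lsl_et (LP (LK LD1_c1 LD2_c24 LD3_c40)) = (LP (LK LD1_c2 LD2_c57 LD3_c60)) :=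
  Lre_e IH (LK LD1_c1 LD2_c24 LD3_c40) (LK LD1_c2 LD2_c57 LD3_c60) Lrfl Lrfl
theorem f166404 : Led Lsl_et (LP (LK LD1_c5 LD2_c6 LD3_c54)) = (LP (LK LD1_c2 LD2_c30 LD3_c44)) :=
  Lre_e IH (LK LD1_c5 LD2_c6 LD3_c54) (LK LD1_c2 LD2_c30 LD3_c44) Lrfl Lrfl
theorem f186188 : Led Lsl_dt (LP (LK LD1_c2 LD2_c57 LD3_c60)) = (LP (LK LD1_c5 LD2_c6 LD3_c54)) :=
  Lgr Lrot77 (Lpe (f175701 IH) (Lpr_df (K10.f175693 IH) (Lpe (K10.f185142 IH) (Lpr_df (K15.f186168 IH) (Lpe (f166404 IH) (Lpn (LP (LK LD1_c5 LD2_c6 LD3_c54))))))))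
theorem f186199 : Led Lsl_ft (LP (LK LD1_c5 LD2_c6 LD3_c54)) = (LP (LK LD1_c10 LD2_c4 LD3_c34)) :=
  Lre_f IH (LK LD1_c5 LD2_c6 LD3_c54) (LK LD1_c10 LD2_c4 LD3_c34) Lrfl Lrfl
theorem f186200 : Led Lsl_df (LP (LK LD1_c6 LD2_c3 LD3_c47)) = (LP (LK LD1_c10 LD2_c4 LD3_c34)) :=
  Lgr Lrot78 (Lpr_ft (f186198 IH) (Lpr_dt (f186188 IH) (Lpr_ft (f186199 IH) (Lpn (LP (LK LD1_c10 LD2_c4 LD3_c34))))))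
theorem f186224 : Led Lsl_dt (LP (LK LD1_c6 LD2_c3 LD3_c47)) = (LP (LK LD1_c10 LD2_c4 LD3_c34)) :=
  Lgr Lrot42 (Lpr_df (f186200 IH) (Lpn (LP (LK LD1_c10 LD2_c4 LD3_c34))))
theorem f166192 : Led Lsl_ft (LP (LK LD1_c5 LD2_c5 LD3_c54)) = (LP (LK LD1_c10 LD2_c2 LD3_c47)) :=
  Lre_f IH (LK LD1_c5 LD2_c5 LD3_c54) (LK LD1_c10 LD2_c2 LD3_c47) Lrfl Lrfl
theorem f186226 : Led Lsl_ft (LP (LK LD1_c10 LD2_c4 LD3_c34)) = (LP (LK LD1_c5 LD2_c6 LD3_c54)) :=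
  Lre_f IH (LK LD1_c10 LD2_c4 LD3_c34) (LK LD1_c5 LD2_c6 LD3_c54) Lrfl Lrfl
theorem f285128 : Led Lsl_at (LP (LK LD1_c10 LD2_c2 LD3_c47)) = (LP (LK LD1_c10 LD2_c4 LD3_c34)) :=
  Lgr Lrot66 (Lpe (f166192 IH) (Lpr_af (f285124 IH) (Lpe (f186226 IH) (Lpn (LP (LK LD1_c10 LD2_c4 LD3_c34))))))
theorem f285133 : Led Lsl_af (LP (LK LD1_c10 LD2_c2 LD3_c47)) = (LP (LK LD1_c10 LD2_c4 LD3_c34)) :=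
  Lgr Lrot0 (Lpr_at (f285128 IH) (Lpn (LP (LK LD1_c10 LD2_c4 LD3_c34))))
theorem f285153 : Led Lsl_df (LP (LK LD1_c9 LD2_c14 LD3_c25)) = (LP (LK LD1_c10 LD2_c2 LD3_c47)) :=
  Lgr Lrot18 (Lpr_at (f285146 IH) (Lpr_dt (f186224 IH) (Lpe (f285133 IH) (Lpn (LP (LK LD1_c10 LD2_c2 LD3_c47))))))
theorem f285162 : Led Lsl_dt (LP (LK LD1_c9 LD2_c14 LD3_c25)) = (LP (LK LD1_c10 LD2_c2 LD3_c47)) :=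
  Lgr Lrot42 (Lpr_df (f285153 IH) (Lpn (LP (LK LD1_c10 LD2_c2 LD3_c47))))
theorem f175400 : Led Lsl_et (LP (LK LD1_c1 LD2_c24 LD3_c41)) = (LP (LK LD1_c2 LD2_c58 LD3_c1)) :=
  Lre_e IH (LK LD1_c1 LD2_c24 LD3_c41) (LK LD1_c2 LD2_c58 LD3_c1) Lrfl Lrfl
theorem f175437 : Led Lsl_ft (LP (LK LD1_c2 LD2_c58 LD3_c1)) = (LP (LK LD1_c6 LD2_c3 LD3_c54)) :=
  Lre_f IH (LK LD1_c2 LD2_c58 LD3_c1) (LK LD1_c6 LD2_c3 LD3_c54) Lrfl Lrfl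
theorem f268420 : Led Lsl_et (LP (LK LD1_c4 LD2_c39 LD3_c22)) = (LP (LK LD1_c2 LD2_c16 LD3_c39)) :=
  Lre_e IH (LK LD1_c4 LD2_c39 LD3_c22) (LK LD1_c2 LD2_c16 LD3_c39) Lrfl Lrfl
theorem f268421 : Led Lsl_ft (LP (LK LD1_c9 LD2_c14 LD3_c25)) = (LP (LK LD1_c4 LD2_c39 LD3_c22)) :=
  Lre_f IH (LK LD1_c9 LD2_c14 LD3_c25) (LK LD1_c4 LD2_c39 LD3_c22) Lrfl Lrfl
theorem f268422 : Led Lsl_et (LP (LK LD1_c6 LD2_c3 LD3_c54)) = (LP (LK LD1_c9 LD2_c14 LD3_c25)) :=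
  Lgr Lrot69 (Lpe (f175437 IH) (Lpe (f175400 IH) (Lpr_ff (K15.f268411 IH) (Lpe (f268420 IH) (Lpe (f268421 IH) (Lpn (LP (LK LD1_c9 LD2_c14 LD3_c25))))))))
theorem f175427 : Led Lsl_et (LP (LK LD1_c5 LD2_c46 LD3_c51)) = (LP (LK LD1_c2 LD2_c49 LD3_c11)) :=
  Lre_e IH (LK LD1_c5 LD2_c46 LD3_c51) (LK LD1_c2 LD2_c49 LD3_c11) Lrfl Lrfl
theorem f175428 : Led Lsl_dt (LP (LK LD1_c2 LD2_c58 LD3_c1)) = (LP (LK LD1_c5 LD2_c46 LD3_c51)) :=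
  Lgr Lrot77 (Lpe (f175400 IH) (Lpr_df (K9.f175393 IH) (Lpr_ef (K15.f175425 IH) (Lpe (K16.f68621 IH) (Lpe (f175427 IH) (Lpn (LP (LK LD1_c5 LD2_c46 LD3_c51))))))))
theorem f175434 : Led Lsl_ft (LP (LK LD1_c6 LD2_c3 LD3_c54)) = (LP (LK LD1_c2 LD2_c58 LD3_c1)) :=
  Lre_f IH (LK LD1_c6 LD2_c3 LD3_c54) (LK LD1_c2 LD2_c58 LD3_c1) Lrfl Lrfl
theorem f68666 : Led Lsl_ft (LP (LK LD1_c5 LD2_c46 LD3_c51)) = (LP (LK LD1_c11 LD2_c23 LD3_c53)) :=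
  Lre_f IH (LK LD1_c5 LD2_c46 LD3_c51) (LK LD1_c11 LD2_c23 LD3_c53) Lrfl Lrfl
theorem f175435 : Led Lsl_df (LP (LK LD1_c6 LD2_c3 LD3_c54)) = (LP (LK LD1_c11 LD2_c23 LD3_c53)) :=
  Lgr Lrot78 (Lpr_ft (f175434 IH) (Lpr_dt (f175428 IH) (Lpr_ft (f68666 IH) (Lpn (LP (LK LD1_c11 LD2_c23 LD3_c53))))))
theorem f268493 : Led Lsl_ft (LP (LK LD1_c6 LD2_c9 LD3_c7)) = (LP (LK LD1_c11 LD2_c59 LD3_c20)) :=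
  Lre_f IH (LK LD1_c6 LD2_c9 LD3_c7) (LK LD1_c11 LD2_c59 LD3_c20) Lrfl Lrfl
theorem f175469 : Led Lsl_ft (LP (LK LD1_c11 LD2_c23 LD3_c53)) = (LP (LK LD1_c5 LD2_c46 LD3_c51)) :=
  Lre_f IH (LK LD1_c11 LD2_c23 LD3_c53) (LK LD1_c5 LD2_c46 LD3_c51) Lrfl Lrfl
theorem f268494 : Led Lsl_et (LP (LK LD1_c11 LD2_c59 LD3_c20)) = (LP (LK LD1_c11 LD2_c23 LD3_c53)) :=
  Lgr Lrot69 (Lpe (f268493 IH) (Lpe (K35.f60138 IH) (Lpr_ff (K16.f268487 IH) (Lpe (f175427 IH) (Lpe (f175469 IH) (Lpn (LP (LK LD1_c11 LD2_c23 LD3_c53))))))))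
theorem f285115 : Led Lsl_ft (LP (LK LD1_c10 LD2_c4 LD3_c29)) = (LP (LK LD1_c5 LD2_c6 LD3_c52)) :=
  Lre_f IH (LK LD1_c10 LD2_c4 LD3_c29) (LK LD1_c5 LD2_c6 LD3_c52) Lrfl Lrfl
theorem f285116 : Led Lsl_et (LP (LK LD1_c10 LD2_c2 LD3_c47)) = (LP (LK LD1_c10 LD2_c4 LD3_c29)) :=
  Lgr Lrot69 (Lpe (f166192 IH) (Lpe (K36.f166188 IH) (Lpr_ff (f285112 IH) (Lpe (K35.f166402 IH) (Lpe (f285115 IH) (Lpn (LP (LK LD1_c10 LD2_c4 LD3_c29))))))))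
theorem f285164 : Led Lsl_df (LP (LK LD1_c11 LD2_c59 LD3_c20)) = (LP (LK LD1_c10 LD2_c4 LD3_c29)) :=
  Lgr Lrot70 (Lpr_et (f268494 IH) (Lpe (f175435 IH) (Lpr_et (f268422 IH) (Lpr_dt (f285162 IH) (Lpr_et (f285116 IH) (Lpn (LP (LK LD1_c10 LD2_c4 LD3_c29))))))))
theorem f268484 : Led Lsl_ft (LP (LK LD1_c11 LD2_c59 LD3_c20)) = (LP (LK LD1_c6 LD2_c9 LD3_c7)) :=
  Lre_f IH (LK LD1_c11 LD2_c59 LD3_c20) (LK LD1_c6 LD2_c9 LD3_c7) Lrfl Lrfl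
theorem f285178 : Led Lsl_ft (LP (LK LD1_c5 LD2_c6 LD3_c52)) = (LP (LK LD1_c10 LD2_c4 LD3_c29)) :=
  Lre_f IH (LK LD1_c5 LD2_c6 LD3_c52) (LK LD1_c10 LD2_c4 LD3_c29) Lrfl Lrfl
theorem f285179 : Led Lsl_dt (LP (LK LD1_c6 LD2_c9 LD3_c7)) = (LP (LK LD1_c5 LD2_c6 LD3_c52)) :=
  Lgr Lrot60 (Lpe (f268484 IH) (Lpr_df (f285164 IH) (Lpe (f285178 IH) (Lpn (LP (LK LD1_c5 LD2_c6 LD3_c52))))))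
theorem f268500 : Led Lsl_af (LP (LK LD1_c6 LD2_c9 LD3_c7)) = (LP (LK LD1_c5 LD2_c46 LD3_c55)) :=
  Lgr Lrot50 (Lpr_et (K35.f60217 IH) (Lpr_at (K16.f268496 IH) (Lpr_et (K32.f180365 IH) (Lpn (LP (LK LD1_c5 LD2_c46 LD3_c55))))))
theorem f180356 : Led Lsl_et (LP (LK LD1_c2 LD2_c30 LD3_c15)) = (LP (LK LD1_c5 LD2_c5 LD3_c56)) :=
  Lre_e IH (LK LD1_c2 LD2_c30 LD3_c15) (LK LD1_c5 LD2_c5 LD3_c56) Lrfl Lrfl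
theorem f180357 : Led Lsl_et (LP (LK LD1_c5 LD2_c46 LD3_c55)) = (LP (LK LD1_c2 LD2_c49 LD3_c13)) :=
  Lre_e IH (LK LD1_c5 LD2_c46 LD3_c55) (LK LD1_c2 LD2_c49 LD3_c13) Lrfl Lrfl
theorem f180358 : Led Lsl_dt (LP (LK LD1_c5 LD2_c5 LD3_c56)) = (LP (LK LD1_c5 LD2_c46 LD3_c55)) :=
  Lgr Lrot77 (Lpe (f180356 IH) (Lpe (K10.f177193 IH) (Lpr_ef (K10.f180352 IH) (Lpe (K10.f175858 IH) (Lpe (f180357 IH) (Lpn (LP (LK LD1_c5 LD2_c46 LD3_c55))))))))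
theorem f285181 : Led Lsl_af (LP (LK LD1_c5 LD2_c5 LD3_c56)) = (LP (LK LD1_c5 LD2_c6 LD3_c52)) :=
  Lgr Lrot117 (Lpr_dt (f180358 IH) (Lpe (f268500 IH) (Lpr_dt (f285179 IH) (Lpn (LP (LK LD1_c5 LD2_c6 LD3_c52))))))
theorem f180370 : Led Lsl_ft (LP (LK LD1_c5 LD2_c5 LD3_c56)) = (LP (LK LD1_c10 LD2_c2 LD3_c50)) :=
  Lre_f IH (LK LD1_c5 LD2_c5 LD3_c56) (LK LD1_c10 LD2_c2 LD3_c50) Lrfl Lrfl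
theorem f285196 : Led Lsl_at (LP (LK LD1_c10 LD2_c2 LD3_c50)) = (LP (LK LD1_c10 LD2_c4 LD3_c29)) :=
  Lgr Lrot66 (Lpe (f180370 IH) (Lpr_af (f285181 IH) (Lpe (f285115 IH) (Lpn (LP (LK LD1_c10 LD2_c4 LD3_c29))))))
theorem f285198 : Led Lsl_af (LP (LK LD1_c10 LD2_c2 LD3_c50)) = (LP (LK LD1_c10 LD2_c4 LD3_c29)) :=
  Lgr Lrot0 (Lpr_at (f285196 IH) (Lpn (LP (LK LD1_c10 LD2_c4 LD3_c29))))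
theorem f285216 : Led Lsl_et (LP (LK LD1_c10 LD2_c2 LD3_c50)) = (LP (LK LD1_c10 LD2_c4 LD3_c34)) :=
  Lgr Lrot123 (Lpr_af (f285198 IH) (Lpe (f285116 IH) (Lpr_af (f285133 IH) (Lpn (LP (LK LD1_c10 LD2_c4 LD3_c34))))))
theorem f285220 : Led Lsl_ff (LP (LK LD1_c2 LD2_c30 LD3_c15)) = (LP (LK LD1_c2 LD2_c30 LD3_c44)) :=
  Lgr Lrot72 (Lpr_et (f180356 IH) (Lpr_ft (f180370 IH) (Lpr_et (f285216 IH) (Lpr_ft (f186226 IH) (Lpr_et (f166404 IH) (Lpn (LP (LK LD1_c2 LD2_c30 LD3_c44))))))))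
theorem f285226 : Led Lsl_ft (LP (LK LD1_c2 LD2_c30 LD3_c15)) = (LP (LK LD1_c2 LD2_c30 LD3_c44)) :=
  Lgr Lrot48 (Lpr_ff (f285220 IH) (Lpn (LP (LK LD1_c2 LD2_c30 LD3_c44))))
theorem f185821 : Led Lsl_bt (LP (LK LD1_c5 LD2_c5 LD3_c55)) = (LP (LK LD1_c2 LD2_c30 LD3_c15)) :=
  Lre_b IH (LK LD1_c5 LD2_c5 LD3_c55) (LK LD1_c2 LD2_c30 LD3_c15) Lrfl Lrfl
theorem f186262 : Led Lsl_bt (LP (LK LD1_c2 LD2_c30 LD3_c44)) = (LP (LK LD1_c5 LD2_c6 LD3_c53)) :=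
  Lre_b IH (LK LD1_c2 LD2_c30 LD3_c44) (LK LD1_c5 LD2_c6 LD3_c53) Lrfl Lrfl
theorem f285228 : Led Lsl_ff (LP (LK LD1_c5 LD2_c5 LD3_c55)) = (LP (LK LD1_c5 LD2_c6 LD3_c53)) :=
  Lgr Lrot25 (Lpr_bt (f185821 IH) (Lpr_ft (f285226 IH) (Lpr_bt (f186262 IH) (Lpn (LP (LK LD1_c5 LD2_c6 LD3_c53))))))
theorem f180388 : Led Lsl_dt (LP (LK LD1_c5 LD2_c5 LD3_c55)) = (LP (LK LD1_c2 LD2_c30 LD3_c14)) :=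
  Lre_d IH (LK LD1_c5 LD2_c5 LD3_c55) (LK LD1_c2 LD2_c30 LD3_c14) Lrfl Lrfl
theorem f185134 : Led Lsl_bt (LP (LK LD1_c1 LD2_c13 LD3_c28)) = (LP (LK LD1_c2 LD2_c33 LD3_c2)) :=
  Lre_b IH (LK LD1_c1 LD2_c13 LD3_c28) (LK LD1_c2 LD2_c33 LD3_c2) Lrfl Lrfl
theorem f169803 : Led Lsl_bt (LP (LK LD1_c5 LD2_c6 LD3_c53)) = (LP (LK LD1_c2 LD2_c30 LD3_c44)) :=
  Lre_b IH (LK LD1_c5 LD2_c6 LD3_c53) (LK LD1_c2 LD2_c30 LD3_c44) Lrfl Lrfl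
theorem f186186 : Led Lsl_dt (LP (LK LD1_c2 LD2_c33 LD3_c2)) = (LP (LK LD1_c5 LD2_c6 LD3_c53)) :=
  Lgr Lrot79 (Lpe (f185134 IH) (Lpr_df (K15.f186168 IH) (Lpe (f169803 IH) (Lpn (LP (LK LD1_c5 LD2_c6 LD3_c53))))))
theorem f285258 : Led Lsl_ft (LP (LK LD1_c2 LD2_c30 LD3_c14)) = (LP (LK LD1_c2 LD2_c33 LD3_c2)) :=
  Lgr Lrot54 (Lpe (f180388 IH) (Lpr_ff (f285228 IH) (Lpe (f186186 IH) (Lpn (LP (LK LD1_c2 LD2_c33 LD3_c2))))))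
theorem f186258 : Led Lsl_at (LP (LK LD1_c2 LD2_c33 LD3_c2)) = (LP (LK LD1_c5 LD2_c12 LD3_c26)) :=
  Lre_a IH (LK LD1_c2 LD2_c33 LD3_c2) (LK LD1_c5 LD2_c12 LD3_c26) Lrfl Lrfl
theorem f553777 : Led Lsl_gf (LP (LK LD1_c5 LD2_c12 LD3_c26)) = (LP (LK LD1_c4 LD2_c56 LD3_c40)) :=
  Lgr Lrot76 (Lpe (f186258 IH) (Lpe (f285258 IH) (Lpr_gt (f553775 IH) (Lpn (LP (LK LD1_c4 LD2_c56 LD3_c40))))))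
theorem f553790 : Led Lsl_cf (LP (LK LD1_c4 LD2_c4 LD3_c53)) = (LP (LK LD1_c5 LD2_c12 LD3_c26)) :=
  Lgr Lrot169 (Lpr_gt (f73479 IH) (Lpr_ct (K38.f73279 IH) (Lpe (K2.f73256 IH) (Lpe (f177395 IH) (Lpe (K38.f177399 IH) (Lpe (K38.f548010 IH) (Lpe (K38.f442704 IH) (Lpr_df (f553781 IH) (Lpe (f553777 IH) (Lpn (LP (LK LD1_c5 LD2_c12 LD3_c26))))))))))))
theorem f553801 : Led Lsl_bf (LP (LK LD1_c4 LD2_c39 LD3_c45)) = (LP (LK LD1_c5 LD2_c12 LD3_c26)) :=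
  Lgr Lrot34 (Lpe (K38.f547964 IH) (Lpe (K35.f56230 IH) (Lpr_ct (K9.f9022 IH) (Lpe (K0.f9082 IH) (Lpe (K10.f169093 IH) (Lpe (K9.f169087 IH) (Lpe (K10.f55875 IH) (Lpr_ct (K38.f73383 IH) (Lpe (f73479 IH) (Lpr_cf (f553790 IH) (Lpn (LP (LK LD1_c5 LD2_c12 LD3_c26)))))))))))))
theorem f542794 : Led Lsl_bt (LP (LK LD1_c2 LD2_c16 LD3_c53)) = (LP (LK LD1_c4 LD2_c39 LD3_c42)) :=
  Lre_b IH (LK LD1_c2 LD2_c16 LD3_c53) (LK LD1_c4 LD2_c39 LD3_c42) Lrfl Lrfl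
theorem f553807 : Led Lsl_ft (LP (LK LD1_c4 LD2_c39 LD3_c42)) = (LP (LK LD1_c5 LD2_c12 LD3_c26)) :=
  Lgr Lrot75 (Lpe (f542794 IH) (Lpe (K38.f542656 IH) (Lpr_bf (f553801 IH) (Lpn (LP (LK LD1_c5 LD2_c12 LD3_c26))))))
theorem f553813 : Led Lsl_ff (LP (LK LD1_c4 LD2_c39 LD3_c42)) = (LP (LK LD1_c5 LD2_c12 LD3_c26)) :=
  Lgr Lrot3 (Lpr_ft (f553807 IH) (Lpn (LP (LK LD1_c5 LD2_c12 LD3_c26))))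
theorem f553795 : Led Lsl_ct (LP (LK LD1_c4 LD2_c4 LD3_c53)) = (LP (LK LD1_c5 LD2_c12 LD3_c26)) :=
  Lgr Lrot59 (Lpr_cf (f553790 IH) (Lpn (LP (LK LD1_c5 LD2_c12 LD3_c26))))
theorem f553817 : Led Lsl_ft (LP (LK LD1_c8 LD2_c10 LD3_c32)) = (LP (LK LD1_c4 LD2_c4 LD3_c53)) :=
  Lre_f IH (LK LD1_c8 LD2_c10 LD3_c32) (LK LD1_c4 LD2_c4 LD3_c53) Lrfl Lrfl
theorem f553818 : Led Lsl_ct (LP (LK LD1_c4 LD2_c39 LD3_c42)) = (LP (LK LD1_c8 LD2_c10 LD3_c32)) :=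
  Lgr Lrot40 (Lpr_ff (f553813 IH) (Lpe (f553795 IH) (Lpe (f553817 IH) (Lpn (LP (LK LD1_c8 LD2_c10 LD3_c32))))))
theorem f8406 : Led Lsl_bt (LP (LK LD1_c4 LD2_c39 LD3_c42)) = (LP (LK LD1_c2 LD2_c16 LD3_c53)) :=
  Lre_b IH (LK LD1_c4 LD2_c39 LD3_c42) (LK LD1_c2 LD2_c16 LD3_c53) Lrfl Lrfl
theorem f8404 : Led Lsl_bt (LP (LK LD1_c0 LD2_c29 LD3_c55)) = (LP (LK LD1_c1 LD2_c5 LD3_c23)) :=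
  Lre_b IH (LK LD1_c0 LD2_c29 LD3_c55) (LK LD1_c1 LD2_c5 LD3_c23) Lrfl Lrfl
theorem f55844 : Led Lsl_bt (LP (LK LD1_c2 LD2_c0 LD3_c17)) = (LP (LK LD1_c0 LD2_c57 LD3_c8)) :=
  Lre_b IH (LK LD1_c2 LD2_c0 LD3_c17) (LK LD1_c0 LD2_c57 LD3_c8) Lrfl Lrfl
theorem f553824 : Led Lsl_gf (LP (LK LD1_c4 LD2_c4 LD3_c56)) = (LP (LK LD1_c8 LD2_c10 LD3_c32)) :=
  Lgr Lrot126 (Lpe (K37.f56477 IH) (Lpr_bt (f55844 IH) (Lpr_gt (K10.f177819 IH) (Lpr_ct (K10.f8386 IH) (Lpr_gt (K0.f8302 IH) (Lpe (K9.f8403 IH) (Lpr_bt (f8404 IH) (Lpr_gt (K38.f8405 IH) (Lpe (f8406 IH) (Lpr_ct (f553818 IH) (Lpn (LP (LK LD1_c8 LD2_c10 LD3_c32)))))))))))))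
theorem f56483 : Led Lsl_dt (LP (LK LD1_c4 LD2_c4 LD3_c56)) = (LP (LK LD1_c8 LD2_c10 LD3_c39)) :=
  Lre_d IH (LK LD1_c4 LD2_c4 LD3_c56) (LK LD1_c8 LD2_c10 LD3_c39) Lrfl Lrfl
theorem f186567 : Led Lsl_ct (LP (LK LD1_c2 LD2_c53 LD3_c36)) = (LP (LK LD1_c1 LD2_c22 LD3_c57)) :=
  Lre_c IH (LK LD1_c2 LD2_c53 LD3_c36) (LK LD1_c1 LD2_c22 LD3_c57) Lrfl Lrfl
theorem f71276 : Led Lsl_dt (LP (LK LD1_c2 LD2_c53 LD3_c55)) = (LP (LK LD1_c1 LD2_c22 LD3_c57)) :=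
  Lre_d IH (LK LD1_c2 LD2_c53 LD3_c55) (LK LD1_c1 LD2_c22 LD3_c57) Lrfl Lrfl
theorem f186271 : Led Lsl_at (LP (LK LD1_c5 LD2_c12 LD3_c26)) = (LP (LK LD1_c2 LD2_c33 LD3_c2)) :=
  Lre_a IH (LK LD1_c5 LD2_c12 LD3_c26) (LK LD1_c2 LD2_c33 LD3_c2) Lrfl Lrfl
theorem f186267 : Led Lsl_gt (LP (LK LD1_c5 LD2_c12 LD3_c25)) = (LP (LK LD1_c2 LD2_c33 LD3_c2)) :=
  Lre_g IH (LK LD1_c5 LD2_c12 LD3_c25) (LK LD1_c2 LD2_c33 LD3_c2) Lrfl Lrfl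
theorem f553815 : Led Lsl_gt (LP (LK LD1_c4 LD2_c39 LD3_c42)) = (LP (LK LD1_c5 LD2_c12 LD3_c25)) :=
  Lgr Lrot5 (Lpr_ft (f553807 IH) (Lpr_at (f186271 IH) (Lpe (f186267 IH) (Lpn (LP (LK LD1_c5 LD2_c12 LD3_c25))))))
theorem f553828 : Led Lsl_df (LP (LK LD1_c5 LD2_c53 LD3_c61)) = (LP (LK LD1_c5 LD2_c12 LD3_c25)) :=
  Lgr Lrot153 (Lpr_gt (K38.f71263 IH) (Lpr_dt (f71276 IH) (Lpe (f186567 IH) (Lpe (f186568 IH) (Lpe (f546643 IH) (Lpe (f56483 IH) (Lpr_gf (f553824 IH) (Lpe (f553818 IH) (Lpr_gt (f553815 IH) (Lpn (LP (LK LD1_c5 LD2_c12 LD3_c25))))))))))))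
theorem f71092 : Led Lsl_at (LP (LK LD1_c2 LD2_c15 LD3_c23)) = (LP (LK LD1_c4 LD2_c36 LD3_c4)) :=
  Lre_a IH (LK LD1_c2 LD2_c15 LD3_c23) (LK LD1_c4 LD2_c36 LD3_c4) Lrfl Lrfl
theorem f71093 : Led Lsl_at (LP (LK LD1_c2 LD2_c53 LD3_c23)) = (LP (LK LD1_c1 LD2_c22 LD3_c57)) :=
  Lre_a IH (LK LD1_c2 LD2_c53 LD3_c23) (LK LD1_c1 LD2_c22 LD3_c57) Lrfl Lrfl
theorem f71094 : Led Lsl_ef (LP (LK LD1_c2 LD2_c15 LD3_c23)) = (LP (LK LD1_c1 LD2_c22 LD3_c57)) :=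
  Lgr Lrot20 (Lpr_at (f71092 IH) (Lpr_et (K2.f71083 IH) (Lpr_at (f71093 IH) (Lpn (LP (LK LD1_c1 LD2_c22 LD3_c57))))))
theorem f71482 : Led Lsl_gt (LP (LK LD1_c2 LD2_c15 LD3_c23)) = (LP (LK LD1_c4 LD2_c36 LD3_c2)) :=
  Lre_g IH (LK LD1_c2 LD2_c15 LD3_c23) (LK LD1_c4 LD2_c36 LD3_c2) Lrfl Lrfl
theorem f553844 : Led Lsl_ef (LP (LK LD1_c3 LD2_c58 LD3_c54)) = (LP (LK LD1_c5 LD2_c12 LD3_c25)) :=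
  Lgr Lrot17 (Lpr_gf (K38.f386172 IH) (Lpe (K38.f172639 IH) (Lpr_dt (K38.f172653 IH) (Lpr_gf (K38.f549764 IH) (Lpe (K38.f198498 IH) (Lpe (f71482 IH) (Lpr_ef (f71094 IH) (Lpr_dt (K11.f71231 IH) (Lpe (K38.f71263 IH) (Lpr_df (f553828 IH) (Lpn (LP (LK LD1_c5 LD2_c12 LD3_c25)))))))))))))
theorem f553851 : Led Lsl_et (LP (LK LD1_c3 LD2_c58 LD3_c54)) = (LP (LK LD1_c5 LD2_c12 LD3_c25)) :=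
  Lgr Lrot87 (Lpr_ef (f553844 IH) (Lpn (LP (LK LD1_c5 LD2_c12 LD3_c25))))
theorem f552037 : Led Lsl_bt (LP (LK LD1_c4 LD2_c42 LD3_c56)) = (LP (LK LD1_c3 LD2_c58 LD3_c54)) :=
  Lgr Lrot130 (Lpr_ct (f132850 IH) (Lpr_gf (f552019 IH) (Lpe (f387057 IH) (Lpr_bt (K38.f402571 IH) (Lpe (K35.f541659 IH) (Lpe (K2.f72952 IH) (Lpe (K35.f60786 IH) (Lpr_gf (K35.f541561 IH) (Lpe (K30.f169331 IH) (Lpe (K38.f175988 IH) (Lpn (LP (LK LD1_c3 LD2_c58 LD3_c54)))))))))))))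
theorem f387003 : Led Lsl_dt (LP (LK LD1_c1 LD2_c18 LD3_c43)) = (LP (LK LD1_c2 LD2_c44 LD3_c49)) :=
  Lre_d IH (LK LD1_c1 LD2_c18 LD3_c43) (LK LD1_c2 LD2_c44 LD3_c49) Lrfl Lrfl
theorem f552035 : Led Lsl_df (LP (LK LD1_c4 LD2_c42 LD3_c56)) = (LP (LK LD1_c5 LD2_c41 LD3_c49)) :=
  Lgr Lrot162 (Lpe (K6.f132843 IH) (Lpr_gf (f552019 IH) (Lpe (f387057 IH) (Lpe (K38.f319450 IH) (Lpr_dt (f387003 IH) (Lpr_gt (f381218 IH) (Lpr_ct (f381225 IH) (Lpr_gt (f402597 IH) (Lpr_ct (f181576 IH) (Lpn (LP (LK LD1_c5 LD2_c41 LD3_c49))))))))))))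
theorem f392345 : Led Lsl_bt (LP (LK LD1_c2 LD2_c46 LD3_c56)) = (LP (LK LD1_c5 LD2_c41 LD3_c49)) :=
  Lre_b IH (LK LD1_c2 LD2_c46 LD3_c56) (LK LD1_c5 LD2_c41 LD3_c49) Lrfl Lrfl
theorem f552041 : Led Lsl_df (LP (LK LD1_c2 LD2_c46 LD3_c56)) = (LP (LK LD1_c3 LD2_c58 LD3_c54)) :=
  Lgr Lrot12 (Lpr_bt (f392345 IH) (Lpe (f552035 IH) (Lpr_bt (f552037 IH) (Lpn (LP (LK LD1_c3 LD2_c58 LD3_c54))))))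
theorem f280566 : Led Lsl_at (LP (LK LD1_c2 LD2_c46 LD3_c50)) = (LP (LK LD1_c1 LD2_c19 LD3_c52)) :=
  Lre_a IH (LK LD1_c2 LD2_c46 LD3_c50) (LK LD1_c1 LD2_c19 LD3_c52) Lrfl Lrfl
theorem f280573 : Led Lsl_gf (LP (LK LD1_c2 LD2_c46 LD3_c56)) = (LP (LK LD1_c4 LD2_c32 LD3_c29)) :=
  Lgr Lrot47 (Lpr_gt (K31.f174138 IH) (Lpe (f280566 IH) (Lpr_ff (K20.f280555 IH) (Lpn (LP (LK LD1_c4 LD2_c32 LD3_c29))))))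
theorem f268868 : Led Lsl_et (LP (LK LD1_c2 LD2_c13 LD3_c17)) = (LP (LK LD1_c4 LD2_c32 LD3_c30)) :=
  Lre_e IH (LK LD1_c2 LD2_c13 LD3_c17) (LK LD1_c4 LD2_c32 LD3_c30) Lrfl Lrfl
theorem f268865 : Led Lsl_at (LP (LK LD1_c2 LD2_c13 LD3_c20)) = (LP (LK LD1_c4 LD2_c32 LD3_c30)) :=
  Lre_a IH (LK LD1_c2 LD2_c13 LD3_c20) (LK LD1_c4 LD2_c32 LD3_c30) Lrfl Lrfl
theorem f551655 : Led Lsl_gt (LP (LK LD1_c2 LD2_c53 LD3_c48)) = (LP (LK LD1_c4 LD2_c32 LD3_c30)) :=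
  Lgr Lrot46 (Lpr_gf (f551653 IH) (Lpr_ft (K16.f269077 IH) (Lpr_at (f268865 IH) (Lpn (LP (LK LD1_c4 LD2_c32 LD3_c30))))))
theorem f500448 : Led Lsl_et (LP (LK LD1_c1 LD2_c22 LD3_c54)) = (LP (LK LD1_c2 LD2_c53 LD3_c48)) :=
  Lre_e IH (LK LD1_c1 LD2_c22 LD3_c54) (LK LD1_c2 LD2_c53 LD3_c48) Lrfl Lrfl
theorem f137410 : Led Lsl_dt (LP (LK LD1_c1 LD2_c22 LD3_c54)) = (LP (LK LD1_c2 LD2_c53 LD3_c47)) :=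
  Lre_d IH (LK LD1_c1 LD2_c22 LD3_c54) (LK LD1_c2 LD2_c53 LD3_c47) Lrfl Lrfl
theorem f553857 : Led Lsl_gf (LP (LK LD1_c2 LD2_c53 LD3_c47)) = (LP (LK LD1_c5 LD2_c6 LD3_c53)) :=
  Lgr Lrot134 (Lpe (f137410 IH) (Lpr_et (f500448 IH) (Lpr_gt (f551655 IH) (Lpe (f268868 IH) (Lpr_dt (K16.f268875 IH) (Lpe (f280573 IH) (Lpr_df (f552041 IH) (Lpr_et (f553851 IH) (Lpr_gt (f186267 IH) (Lpr_dt (f186186 IH) (Lpn (LP (LK LD1_c5 LD2_c6 LD3_c53)))))))))))))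
theorem f137411 : Led Lsl_gt (LP (LK LD1_c2 LD2_c53 LD3_c47)) = (LP (LK LD1_c5 LD2_c54 LD3_c53)) :=
  Lre_g IH (LK LD1_c2 LD2_c53 LD3_c47) (LK LD1_c5 LD2_c54 LD3_c53) Lrfl Lrfl
theorem f553859 : Led Lsl_af (LP (LK LD1_c5 LD2_c54 LD3_c53)) = (LP (LK LD1_c5 LD2_c5 LD3_c55)) :=
  Lgr Lrot31 (Lpe (f137411 IH) (Lpr_gf (f553857 IH) (Lpe (f285228 IH) (Lpn (LP (LK LD1_c5 LD2_c5 LD3_c55))))))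
theorem f553877 : Led Lsl_ct (LP (LK LD1_c11 LD2_c35 LD3_c13)) = (LP (LK LD1_c5 LD2_c54 LD3_c53)) :=
  Lre_c IH (LK LD1_c11 LD2_c35 LD3_c13) (LK LD1_c5 LD2_c54 LD3_c53) Lrfl Lrfl
theorem f553878 : Led Lsl_dt (LP (LK LD1_c20 LD2_c33 LD3_c13)) = (LP (LK LD1_c11 LD2_c35 LD3_c13)) :=
  Lre_d IH (LK LD1_c20 LD2_c33 LD3_c13) (LK LD1_c11 LD2_c35 LD3_c13) Lrfl Lrfl
theorem f186229 : Led Lsl_bt (LP (LK LD1_c11 LD2_c50 LD3_c56)) = (LP (LK LD1_c6 LD2_c3 LD3_c47)) :=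
  Lre_b IH (LK LD1_c11 LD2_c50 LD3_c56) (LK LD1_c6 LD2_c3 LD3_c47) Lrfl Lrfl
theorem f186230 : Led Lsl_bt (LP (LK LD1_c10 LD2_c4 LD3_c34)) = (LP (LK LD1_c18 LD2_c23 LD3_c20)) :=
  Lre_b IH (LK LD1_c10 LD2_c4 LD3_c34) (LK LD1_c18 LD2_c23 LD3_c20) Lrfl Lrfl
theorem f186231 : Led Lsl_df (LP (LK LD1_c11 LD2_c50 LD3_c56)) = (LP (LK LD1_c18 LD2_c23 LD3_c20)) :=
  Lgr Lrot12 (Lpr_bt (f186229 IH) (Lpr_dt (f186224 IH) (Lpr_bt (f186230 IH) (Lpn (LP (LK LD1_c18 LD2_c23 LD3_c20))))))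
theorem f186235 : Led Lsl_ft (LP (LK LD1_c11 LD2_c50 LD3_c56)) = (LP (LK LD1_c6 LD2_c3 LD3_c42)) :=
  Lre_f IH (LK LD1_c11 LD2_c50 LD3_c56) (LK LD1_c6 LD2_c3 LD3_c42) Lrfl Lrfl
theorem f186236 : Led Lsl_ft (LP (LK LD1_c10 LD2_c4 LD3_c32)) = (LP (LK LD1_c18 LD2_c23 LD3_c20)) :=
  Lre_f IH (LK LD1_c10 LD2_c4 LD3_c32) (LK LD1_c18 LD2_c23 LD3_c20) Lrfl Lrfl
theorem f186237 : Led Lsl_dt (LP (LK LD1_c6 LD2_c3 LD3_c42)) = (LP (LK LD1_c10 LD2_c4 LD3_c32)) :=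
  Lgr Lrot60 (Lpe (f186235 IH) (Lpr_df (f186231 IH) (Lpe (f186236 IH) (Lpn (LP (LK LD1_c10 LD2_c4 LD3_c32))))))
theorem f175712 : Led Lsl_et (LP (LK LD1_c2 LD2_c57 LD3_c58)) = (LP (LK LD1_c6 LD2_c3 LD3_c42)) :=
  Lre_e IH (LK LD1_c2 LD2_c57 LD3_c58) (LK LD1_c6 LD2_c3 LD3_c42) Lrfl Lrfl
theorem f185135 : Led Lsl_et (LP (LK LD1_c2 LD2_c33 LD3_c2)) = (LP (LK LD1_c5 LD2_c0 LD3_c31)) :=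
  Lgr Lrot74 (Lpe (f185134 IH) (Lpr_ef (K10.f185131 IH) (Lpe (K38.f175698 IH) (Lpn (LP (LK LD1_c5 LD2_c0 LD3_c31))))))
theorem f186248 : Led Lsl_et (LP (LK LD1_c10 LD2_c4 LD3_c32)) = (LP (LK LD1_c5 LD2_c6 LD3_c53)) :=
  Lre_e IH (LK LD1_c10 LD2_c4 LD3_c32) (LK LD1_c5 LD2_c6 LD3_c53) Lrfl Lrfl
theorem f186249 : Led Lsl_df (LP (LK LD1_c2 LD2_c33 LD3_c2)) = (LP (LK LD1_c5 LD2_c6 LD3_c53)) :=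
  Lgr Lrot70 (Lpr_et (f185135 IH) (Lpe (K38.f175706 IH) (Lpr_et (f175712 IH) (Lpr_dt (f186237 IH) (Lpr_et (f186248 IH) (Lpn (LP (LK LD1_c5 LD2_c6 LD3_c53))))))))
theorem f204943 : Led Lsl_et (LP (LK LD1_c5 LD2_c5 LD3_c7)) = (LP (LK LD1_c9 LD2_c51 LD3_c20)) :=
  Lgr Lrot74 (Lpe (K38.f204923 IH) (Lpr_ef (K12.f204941 IH) (Lpe (K38.f175711 IH) (Lpn (LP (LK LD1_c9 LD2_c51 LD3_c20))))))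
theorem f175710 : Led Lsl_ct (LP (LK LD1_c9 LD2_c51 LD3_c20)) = (LP (LK LD1_c5 LD2_c0 LD3_c31)) :=
  Lre_c IH (LK LD1_c9 LD2_c51 LD3_c20) (LK LD1_c5 LD2_c0 LD3_c31) Lrfl Lrfl
theorem f205038 : Led Lsl_cf (LP (LK LD1_c5 LD2_c5 LD3_c7)) = (LP (LK LD1_c2 LD2_c33 LD3_c2)) :=
  Lgr Lrot39 (Lpr_et (f204943 IH) (Lpr_ct (f175710 IH) (Lpe (K38.f185145 IH) (Lpn (LP (LK LD1_c2 LD2_c33 LD3_c2))))))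
theorem f205032 : Led Lsl_dt (LP (LK LD1_c5 LD2_c5 LD3_c7)) = (LP (LK LD1_c10 LD2_c1 LD3_c20)) :=
  Lre_d IH (LK LD1_c5 LD2_c5 LD3_c7) (LK LD1_c10 LD2_c1 LD3_c20) Lrfl Lrfl
theorem f205040 : Led Lsl_ct (LP (LK LD1_c10 LD2_c1 LD3_c20)) = (LP (LK LD1_c18 LD2_c18 LD3_c54)) :=
  Lre_c IH (LK LD1_c10 LD2_c1 LD3_c20) (LK LD1_c18 LD2_c18 LD3_c54) Lrfl Lrfl
theorem f205041 : Led Lsl_dt (LP (LK LD1_c18 LD2_c18 LD3_c54)) = (LP (LK LD1_c27 LD2_c57 LD3_c35)) :=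
  Lre_d IH (LK LD1_c18 LD2_c18 LD3_c54) (LK LD1_c27 LD2_c57 LD3_c35) Lrfl Lrfl
theorem f553879 : Led Lsl_cf (LP (LK LD1_c20 LD2_c33 LD3_c13)) = (LP (LK LD1_c27 LD2_c57 LD3_c35)) :=
  Lgr Lrot161 (Lpr_dt (f553878 IH) (Lpr_ct (f553877 IH) (Lpr_af (f553859 IH) (Lpr_ff (f285228 IH) (Lpe (f186249 IH) (Lpe (f205038 IH) (Lpr_dt (f205032 IH) (Lpr_ct (f205040 IH) (Lpr_dt (f205041 IH) (Lpn (LP (LK LD1_c27 LD2_c57 LD3_c35))))))))))))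
theorem f180382 : Led Lsl_dt (LP (LK LD1_c2 LD2_c30 LD3_c14)) = (LP (LK LD1_c5 LD2_c5 LD3_c55)) :=
  Lre_d IH (LK LD1_c2 LD2_c30 LD3_c14) (LK LD1_c5 LD2_c5 LD3_c55) Lrfl Lrfl
theorem f542795 : Led Lsl_af (LP (LK LD1_c2 LD2_c30 LD3_c14)) = (LP (LK LD1_c4 LD2_c39 LD3_c42)) :=
  Lgr Lrot36 (Lpr_bt (f166369 IH) (Lpr_at (K36.f285096 IH) (Lpr_bt (K36.f193983 IH) (Lpr_at (K36.f542787 IH) (Lpr_bt (f542794 IH) (Lpn (LP (LK LD1_c4 LD2_c39 LD3_c42))))))))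
theorem f553872 : Led Lsl_dt (LP (LK LD1_c5 LD2_c54 LD3_c53)) = (LP (LK LD1_c4 LD2_c39 LD3_c42)) :=
  Lgr Lrot44 (Lpr_af (f553859 IH) (Lpe (f180382 IH) (Lpr_af (f542795 IH) (Lpn (LP (LK LD1_c4 LD2_c39 LD3_c42))))))
theorem f553823 : Led Lsl_at (LP (LK LD1_c4 LD2_c4 LD3_c52)) = (LP (LK LD1_c8 LD2_c10 LD3_c32)) :=
  Lre_a IH (LK LD1_c4 LD2_c4 LD3_c52) (LK LD1_c8 LD2_c10 LD3_c32) Lrfl Lrfl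
theorem f553883 : Led Lsl_ff (LP (LK LD1_c4 LD2_c4 LD3_c52)) = (LP (LK LD1_c5 LD2_c5 LD3_c7)) :=
  Lgr Lrot103 (Lpr_at (f553823 IH) (Lpe (f553818 IH) (Lpe (f553872 IH) (Lpe (f553877 IH) (Lpe (f553878 IH) (Lpr_cf (f553879 IH) (Lpe (f205041 IH) (Lpe (f205040 IH) (Lpe (f205032 IH) (Lpn (LP (LK LD1_c5 LD2_c5 LD3_c7))))))))))))
theorem f553890 : Led Lsl_ft (LP (LK LD1_c4 LD2_c4 LD3_c52)) = (LP (LK LD1_c5 LD2_c5 LD3_c7)) :=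
  Lgr Lrot48 (Lpr_ff (f553883 IH) (Lpn (LP (LK LD1_c5 LD2_c5 LD3_c7))))
theorem f553898 : Led Lsl_dt (LP (LK LD1_c8 LD2_c10 LD3_c33)) = (LP (LK LD1_c4 LD2_c4 LD3_c52)) :=
  Lre_d IH (LK LD1_c8 LD2_c10 LD3_c33) (LK LD1_c4 LD2_c4 LD3_c52) Lrfl Lrfl
theorem f553899 : Led Lsl_ff (LP (LK LD1_c8 LD2_c10 LD3_c33)) = (LP (LK LD1_c10 LD2_c1 LD3_c20)) :=
  Lgr Lrot19 (Lpr_dt (f553898 IH) (Lpr_ft (f553890 IH) (Lpr_dt (f205032 IH) (Lpn (LP (LK LD1_c10 LD2_c1 LD3_c20))))))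
theorem f553905 : Led Lsl_et (LP (LK LD1_c8 LD2_c10 LD3_c33)) = (LP (LK LD1_c15 LD2_c23 LD3_c39)) :=
  Lre_e IH (LK LD1_c8 LD2_c10 LD3_c33) (LK LD1_c15 LD2_c23 LD3_c39) Lrfl Lrfl
theorem f553906 : Led Lsl_ft (LP (LK LD1_c15 LD2_c23 LD3_c39)) = (LP (LK LD1_c25 LD2_c16 LD3_c1)) :=
  Lre_f IH (LK LD1_c15 LD2_c23 LD3_c39) (LK LD1_c25 LD2_c16 LD3_c1) Lrfl Lrfl
theorem f205035 : Led Lsl_et (LP (LK LD1_c18 LD2_c18 LD3_c55)) = (LP (LK LD1_c10 LD2_c1 LD3_c20)) :=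
  Lre_e IH (LK LD1_c18 LD2_c18 LD3_c55) (LK LD1_c10 LD2_c1 LD3_c20) Lrfl Lrfl
theorem f205024 : Led Lsl_ft (LP (LK LD1_c27 LD2_c57 LD3_c38)) = (LP (LK LD1_c18 LD2_c18 LD3_c55)) :=
  Lre_f IH (LK LD1_c27 LD2_c57 LD3_c38) (LK LD1_c18 LD2_c18 LD3_c55) Lrfl Lrfl
theorem f553907 : Led Lsl_et (LP (LK LD1_c25 LD2_c16 LD3_c1)) = (LP (LK LD1_c27 LD2_c57 LD3_c38)) :=
  Lgr Lrot69 (Lpe (f553906 IH) (Lpe (f553905 IH) (Lpr_ff (f553899 IH) (Lpe (f205035 IH) (Lpe (f205024 IH) (Lpn (LP (LK LD1_c27 LD2_c57 LD3_c38))))))))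
theorem f553911 : Led Lsl_ef (LP (LK LD1_c25 LD2_c16 LD3_c1)) = (LP (LK LD1_c27 LD2_c57 LD3_c38)) :=
  Lgr Lrot88 (Lpr_et (f553907 IH) (Lpn (LP (LK LD1_c27 LD2_c57 LD3_c38))))
theorem f205011 : Led Lsl_bt (LP (LK LD1_c18 LD2_c18 LD3_c58)) = (LP (LK LD1_c27 LD2_c57 LD3_c38)) :=
  Lre_b IH (LK LD1_c18 LD2_c18 LD3_c58) (LK LD1_c27 LD2_c57 LD3_c38) Lrfl Lrfl
theorem f201388 : Led Lsl_et (LP (LK LD1_c10 LD2_c4 LD3_c14)) = (LP (LK LD1_c5 LD2_c6 LD3_c45)) :=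
  Lre_e IH (LK LD1_c10 LD2_c4 LD3_c14) (LK LD1_c5 LD2_c6 LD3_c45) Lrfl Lrfl
theorem f241045 : Led Lsl_dt (LP (LK LD1_c12 LD2_c5 LD3_c13)) = (LP (LK LD1_c10 LD2_c4 LD3_c14)) :=
  Lgr Lrot77 (Lpe (K37.f241044 IH) (Lpr_df (K13.f241039 IH) (Lpe (K13.f239507 IH) (Lpr_df (K13.f239504 IH) (Lpe (f201388 IH) (Lpn (LP (LK LD1_c10 LD2_c4 LD3_c14))))))))
theorem f241051 : Led Lsl_ft (LP (LK LD1_c21 LD2_c10 LD3_c44)) = (LP (LK LD1_c12 LD2_c5 LD3_c13)) :=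
  Lre_f IH (LK LD1_c21 LD2_c10 LD3_c44) (LK LD1_c12 LD2_c5 LD3_c13) Lrfl Lrfl
theorem f241052 : Led Lsl_ft (LP (LK LD1_c10 LD2_c4 LD3_c14)) = (LP (LK LD1_c18 LD2_c22 LD3_c59)) :=
  Lre_f IH (LK LD1_c10 LD2_c4 LD3_c14) (LK LD1_c18 LD2_c22 LD3_c59) Lrfl Lrfl
theorem f241053 : Led Lsl_df (LP (LK LD1_c21 LD2_c10 LD3_c44)) = (LP (LK LD1_c18 LD2_c22 LD3_c59)) :=
  Lgr Lrot78 (Lpr_ft (f241051 IH) (Lpr_dt (f241045 IH) (Lpr_ft (f241052 IH) (Lpn (LP (LK LD1_c18 LD2_c22 LD3_c59))))))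
theorem f241064 : Led Lsl_dt (LP (LK LD1_c21 LD2_c10 LD3_c44)) = (LP (LK LD1_c18 LD2_c22 LD3_c59)) :=
  Lgr Lrot42 (Lpr_df (f241053 IH) (Lpn (LP (LK LD1_c18 LD2_c22 LD3_c59))))
theorem f201358 : Led Lsl_et (LP (LK LD1_c5 LD2_c5 LD3_c8)) = (LP (LK LD1_c10 LD2_c1 LD3_c21)) :=
  Lre_e IH (LK LD1_c5 LD2_c5 LD3_c8) (LK LD1_c10 LD2_c1 LD3_c21) Lrfl Lrfl
theorem f204945 : Led Lsl_dt (LP (LK LD1_c10 LD2_c1 LD3_c21)) = (LP (LK LD1_c8 LD2_c51 LD3_c45)) :=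
  Lgr Lrot77 (Lpe (f201358 IH) (Lpe (K14.f164964 IH) (Lpr_ef (K12.f204941 IH) (Lpe (K12.f198006 IH) (Lpe (K37.f101049 IH) (Lpn (LP (LK LD1_c8 LD2_c51 LD3_c45))))))))
theorem f205000 : Led Lsl_ft (LP (LK LD1_c18 LD2_c18 LD3_c58)) = (LP (LK LD1_c10 LD2_c1 LD3_c21)) :=
  Lre_f IH (LK LD1_c18 LD2_c18 LD3_c58) (LK LD1_c10 LD2_c1 LD3_c21) Lrfl Lrfl
theorem f205001 : Led Lsl_ft (LP (LK LD1_c8 LD2_c51 LD3_c45)) = (LP (LK LD1_c16 LD2_c34 LD3_c11)) :=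
  Lre_f IH (LK LD1_c8 LD2_c51 LD3_c45) (LK LD1_c16 LD2_c34 LD3_c11) Lrfl Lrfl
theorem f205002 : Led Lsl_df (LP (LK LD1_c18 LD2_c18 LD3_c58)) = (LP (LK LD1_c16 LD2_c34 LD3_c11)) :=
  Lgr Lrot78 (Lpr_ft (f205000 IH) (Lpr_dt (f204945 IH) (Lpr_ft (f205001 IH) (Lpn (LP (LK LD1_c16 LD2_c34 LD3_c11))))))
theorem f205016 : Led Lsl_dt (LP (LK LD1_c18 LD2_c18 LD3_c58)) = (LP (LK LD1_c16 LD2_c34 LD3_c11)) :=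
  Lgr Lrot42 (Lpr_df (f205002 IH) (Lpn (LP (LK LD1_c16 LD2_c34 LD3_c11))))
theorem f410746 : Led Lsl_at (LP (LK LD1_c18 LD2_c22 LD3_c59)) = (LP (LK LD1_c18 LD2_c18 LD3_c58)) :=
  Lgr Lrot51 (Lpe (f241064 IH) (Lpr_af (K37.f410728 IH) (Lpe (f205016 IH) (Lpn (LP (LK LD1_c18 LD2_c18 LD3_c58))))))
theorem f197962 : Led Lsl_dt (LP (LK LD1_c16 LD2_c34 LD3_c16)) = (LP (LK LD1_c21 LD2_c12 LD3_c52)) :=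
  Lgr Lrot42 (Lpr_df (K37.f197935 IH) (Lpn (LP (LK LD1_c21 LD2_c12 LD3_c52))))
theorem f69411 : Led Lsl_ft (LP (LK LD1_c20 LD2_c21 LD3_c9)) = (LP (LK LD1_c11 LD2_c23 LD3_c25)) :=
  Lre_f IH (LK LD1_c20 LD2_c21 LD3_c9) (LK LD1_c11 LD2_c23 LD3_c25) Lrfl Lrfl
theorem f197829 : Led Lsl_et (LP (LK LD1_c6 LD2_c14 LD3_c7)) = (LP (LK LD1_c12 LD2_c6 LD3_c48)) :=
  Lre_e IH (LK LD1_c6 LD2_c14 LD3_c7) (LK LD1_c12 LD2_c6 LD3_c48) Lrfl Lrfl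
theorem f410527 : Led Lsl_ef (LP (LK LD1_c20 LD2_c21 LD3_c9)) = (LP (LK LD1_c21 LD2_c12 LD3_c57)) :=
  Lgr Lrot21 (Lpr_ft (f69411 IH) (Lpr_et (K37.f69373 IH) (Lpr_ft (K37.f410521 IH) (Lpr_et (f197829 IH) (Lpr_ft (K16.f211539 IH) (Lpn (LP (LK LD1_c21 LD2_c12 LD3_c57))))))))
theorem f270226 : Led Lsl_at (LP (LK LD1_c20 LD2_c21 LD3_c14)) = (LP (LK LD1_c21 LD2_c12 LD3_c57)) :=
  Lgr Lrot100 (Lpr_af (K16.f270222 IH) (Lpn (LP (LK LD1_c21 LD2_c12 LD3_c57))))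
theorem f410561 : Led Lsl_ef (LP (LK LD1_c20 LD2_c21 LD3_c14)) = (LP (LK LD1_c21 LD2_c12 LD3_c52)) :=
  Lgr Lrot20 (Lpr_at (f270226 IH) (Lpe (f410527 IH) (Lpr_at (K37.f410551 IH) (Lpn (LP (LK LD1_c21 LD2_c12 LD3_c52))))))
theorem f410732 : Led Lsl_ef (LP (LK LD1_c18 LD2_c22 LD3_c59)) = (LP (LK LD1_c18 LD2_c19 LD3_c1)) :=
  Lgr Lrot73 (Lpe (f241053 IH) (Lpr_et (K37.f410726 IH) (Lpr_dt (f197962 IH) (Lpe (f410561 IH) (Lpr_dt (K16.f240866 IH) (Lpn (LP (LK LD1_c18 LD2_c19 LD3_c1))))))))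
theorem f410757 : Led Lsl_ef (LP (LK LD1_c18 LD2_c22 LD3_c55)) = (LP (LK LD1_c18 LD2_c18 LD3_c58)) :=
  Lgr Lrot20 (Lpe (K16.f270232 IH) (Lpe (f410732 IH) (Lpr_at (f410746 IH) (Lpn (LP (LK LD1_c18 LD2_c18 LD3_c58))))))
theorem f410773 : Led Lsl_et (LP (LK LD1_c18 LD2_c22 LD3_c55)) = (LP (LK LD1_c18 LD2_c18 LD3_c58)) :=
  Lgr Lrot87 (Lpr_ef (f410757 IH) (Lpn (LP (LK LD1_c18 LD2_c18 LD3_c58))))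
theorem f553913 : Led Lsl_bt (LP (LK LD1_c25 LD2_c16 LD3_c1)) = (LP (LK LD1_c18 LD2_c22 LD3_c55)) :=
  Lgr Lrot119 (Lpr_ef (f553911 IH) (Lpe (f205011 IH) (Lpe (f410773 IH) (Lpn (LP (LK LD1_c18 LD2_c22 LD3_c55))))))
theorem f553917 : Led Lsl_bf (LP (LK LD1_c15 LD2_c23 LD3_c39)) = (LP (LK LD1_c10 LD2_c4 LD3_c12)) :=
  Lgr Lrot61 (Lpr_ft (f553906 IH) (Lpr_bt (f553913 IH) (Lpr_ft (K16.f211540 IH) (Lpn (LP (LK LD1_c10 LD2_c4 LD3_c12))))))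
theorem f211537 : Led Lsl_dt (LP (LK LD1_c12 LD2_c6 LD3_c48)) = (LP (LK LD1_c10 LD2_c4 LD3_c12)) :=
  Lgr Lrot42 (Lpr_df (K16.f211531 IH) (Lpn (LP (LK LD1_c10 LD2_c4 LD3_c12))))
theorem f175876 : Led Lsl_bt (LP (LK LD1_c2 LD2_c49 LD3_c12)) = (LP (LK LD1_c1 LD2_c20 LD3_c45)) :=
  Lre_b IH (LK LD1_c2 LD2_c49 LD3_c12) (LK LD1_c1 LD2_c20 LD3_c45) Lrfl Lrfl
theorem f175877 : Led Lsl_ct (LP (LK LD1_c5 LD2_c46 LD3_c52)) = (LP (LK LD1_c2 LD2_c49 LD3_c12)) :=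
  Lre_c IH (LK LD1_c5 LD2_c46 LD3_c52) (LK LD1_c2 LD2_c49 LD3_c12) Lrfl Lrfl
theorem f197817 : Led Lsl_bf (LP (LK LD1_c5 LD2_c46 LD3_c52)) = (LP (LK LD1_c3 LD2_c3 LD3_c56)) :=
  Lgr Lrot90 (Lpr_ct (f175877 IH) (Lpr_bt (f175876 IH) (Lpr_ct (K10.f175852 IH) (Lpr_bt (K10.f197814 IH) (Lpr_ct (K10.f37240 IH) (Lpn (LP (LK LD1_c3 LD2_c3 LD3_c56))))))))
theorem f412358 : Led Lsl_dt (LP (LK LD1_c5 LD2_c46 LD3_c52)) = (LP (LK LD1_c11 LD2_c23 LD3_c54)) :=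
  Lre_d IH (LK LD1_c5 LD2_c46 LD3_c52) (LK LD1_c11 LD2_c23 LD3_c54) Lrfl Lrfl
theorem f421114 : Led Lsl_bt (LP (LK LD1_c11 LD2_c23 LD3_c54)) = (LP (LK LD1_c6 LD2_c14 LD3_c7)) :=
  Lgr Lrot95 (Lpe (f412358 IH) (Lpr_bf (f197817 IH) (Lpe (K10.f197813 IH) (Lpn (LP (LK LD1_c6 LD2_c14 LD3_c7))))))
theorem f421119 : Led Lsl_et (LP (LK LD1_c20 LD2_c21 LD3_c49)) = (LP (LK LD1_c11 LD2_c23 LD3_c54)) :=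
  Lre_e IH (LK LD1_c20 LD2_c21 LD3_c49) (LK LD1_c11 LD2_c23 LD3_c54) Lrfl Lrfl
theorem f421120 : Led Lsl_bf (LP (LK LD1_c20 LD2_c21 LD3_c49)) = (LP (LK LD1_c12 LD2_c6 LD3_c48)) :=
  Lgr Lrot96 (Lpr_et (f421119 IH) (Lpr_bt (f421114 IH) (Lpr_et (f197829 IH) (Lpn (LP (LK LD1_c12 LD2_c6 LD3_c48))))))
theorem f421122 : Led Lsl_bt (LP (LK LD1_c20 LD2_c21 LD3_c49)) = (LP (LK LD1_c12 LD2_c6 LD3_c48)) :=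
  Lgr Lrot127 (Lpr_bf (f421120 IH) (Lpn (LP (LK LD1_c12 LD2_c6 LD3_c48))))
theorem f553922 : Led Lsl_dt (LP (LK LD1_c15 LD2_c23 LD3_c39)) = (LP (LK LD1_c20 LD2_c21 LD3_c49)) :=
  Lgr Lrot79 (Lpr_bf (f553917 IH) (Lpe (f211537 IH) (Lpe (f421122 IH) (Lpn (LP (LK LD1_c20 LD2_c21 LD3_c49))))))
theorem f73478 : Led Lsl_dt (LP (LK LD1_c4 LD2_c4 LD3_c52)) = (LP (LK LD1_c8 LD2_c10 LD3_c33)) :=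
  Lre_d IH (LK LD1_c4 LD2_c4 LD3_c52) (LK LD1_c8 LD2_c10 LD3_c33) Lrfl Lrfl
theorem f421125 : Led Lsl_dt (LP (LK LD1_c11 LD2_c23 LD3_c54)) = (LP (LK LD1_c5 LD2_c46 LD3_c52)) :=
  Lre_d IH (LK LD1_c11 LD2_c23 LD3_c54) (LK LD1_c5 LD2_c46 LD3_c52) Lrfl Lrfl
theorem f553928 : Led Lsl_ef (LP (LK LD1_c4 LD2_c4 LD3_c52)) = (LP (LK LD1_c5 LD2_c46 LD3_c52)) :=
  Lgr Lrot73 (Lpr_dt (f73478 IH) (Lpr_et (f553905 IH) (Lpr_dt (f553922 IH) (Lpr_et (f421119 IH) (Lpr_dt (f421125 IH) (Lpn (LP (LK LD1_c5 LD2_c46 LD3_c52))))))))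
theorem f73477 : Led Lsl_gt (LP (LK LD1_c1 LD2_c59 LD3_c33)) = (LP (LK LD1_c4 LD2_c4 LD3_c52)) :=
  Lre_g IH (LK LD1_c1 LD2_c59 LD3_c33) (LK LD1_c4 LD2_c4 LD3_c52) Lrfl Lrfl
theorem f73280 : Led Lsl_ef (LP (LK LD1_c1 LD2_c59 LD3_c33)) = (LP (LK LD1_c1 LD2_c20 LD3_c58)) :=
  Lgr Lrot28 (Lpr_ct (K38.f73279 IH) (Lpr_et (K2.f73258 IH) (Lpr_ct (K6.f56574 IH) (Lpn (LP (LK LD1_c1 LD2_c20 LD3_c58))))))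
theorem f99602 : Led Lsl_et (LP (LK LD1_c3 LD2_c57 LD3_c29)) = (LP (LK LD1_c1 LD2_c55 LD3_c44)) :=
  Lre_e IH (LK LD1_c3 LD2_c57 LD3_c29) (LK LD1_c1 LD2_c55 LD3_c44) Lrfl Lrfl
theorem f99603 : Led Lsl_dt (LP (LK LD1_c3 LD2_c57 LD3_c29)) = (LP (LK LD1_c7 LD2_c56 LD3_c24)) :=
  Lre_d IH (LK LD1_c3 LD2_c57 LD3_c29) (LK LD1_c7 LD2_c56 LD3_c24) Lrfl Lrfl
theorem f553932 : Led Lsl_gf (LP (LK LD1_c7 LD2_c56 LD3_c24)) = (LP (LK LD1_c11 LD2_c23 LD3_c54)) :=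
  Lgr Lrot145 (Lpe (f99603 IH) (Lpr_et (f99602 IH) (Lpr_gt (K4.f99583 IH) (Lpr_dt (K6.f99590 IH) (Lpr_gt (K6.f137959 IH) (Lpe (K2.f73317 IH) (Lpe (f73280 IH) (Lpr_gt (f73477 IH) (Lpr_ef (f553928 IH) (Lpr_dt (f412358 IH) (Lpn (LP (LK LD1_c11 LD2_c23 LD3_c54)))))))))))))
theorem f40118 : Led Lsl_dt (LP (LK LD1_c7 LD2_c56 LD3_c24)) = (LP (LK LD1_c3 LD2_c57 LD3_c29)) :=
  Lre_d IH (LK LD1_c7 LD2_c56 LD3_c24) (LK LD1_c3 LD2_c57 LD3_c29) Lrfl Lrfl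
theorem f40119 : Led Lsl_dt (LP (LK LD1_c2 LD2_c9 LD3_c8)) = (LP (LK LD1_c4 LD2_c23 LD3_c27)) :=
  Lre_d IH (LK LD1_c2 LD2_c9 LD3_c8) (LK LD1_c4 LD2_c23 LD3_c27) Lrfl Lrfl
theorem f40120 : Led Lsl_bf (LP (LK LD1_c7 LD2_c56 LD3_c24)) = (LP (LK LD1_c4 LD2_c23 LD3_c27)) :=
  Lgr Lrot93 (Lpr_dt (f40118 IH) (Lpr_bt (K1.f40096 IH) (Lpr_dt (f40119 IH) (Lpn (LP (LK LD1_c4 LD2_c23 LD3_c27))))))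
theorem f40135 : Led Lsl_ct (LP (LK LD1_c4 LD2_c23 LD3_c27)) = (LP (LK LD1_c8 LD2_c44 LD3_c33)) :=
  Lre_c IH (LK LD1_c4 LD2_c23 LD3_c27) (LK LD1_c8 LD2_c44 LD3_c33) Lrfl Lrfl
theorem f40137 : Led Lsl_gt (LP (LK LD1_c8 LD2_c44 LD3_c33)) = (LP (LK LD1_c16 LD2_c21 LD3_c51)) :=
  Lre_g IH (LK LD1_c8 LD2_c44 LD3_c33) (LK LD1_c16 LD2_c21 LD3_c51) Lrfl Lrfl
theorem f421116 : Led Lsl_bf (LP (LK LD1_c11 LD2_c23 LD3_c54)) = (LP (LK LD1_c6 LD2_c14 LD3_c7)) :=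
  Lgr Lrot24 (Lpr_bt (f421114 IH) (Lpn (LP (LK LD1_c6 LD2_c14 LD3_c7))))
theorem f547327 : Led Lsl_dt (LP (LK LD1_c5 LD2_c37 LD3_c12)) = (LP (LK LD1_c11 LD2_c6 LD3_c18)) :=
  Lre_d IH (LK LD1_c5 LD2_c37 LD3_c12) (LK LD1_c11 LD2_c6 LD3_c18) Lrfl Lrfl
theorem f547330 : Led Lsl_ff (LP (LK LD1_c11 LD2_c59 LD3_c16)) = (LP (LK LD1_c11 LD2_c6 LD3_c18)) :=
  Lgr Lrot19 (Lpr_dt (K38.f212091 IH) (Lpr_ft (K38.f547325 IH) (Lpr_dt (f547327 IH) (Lpn (LP (LK LD1_c11 LD2_c6 LD3_c18))))))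
theorem f272367 : Led Lsl_ft (LP (LK LD1_c6 LD2_c15 LD3_c16)) = (LP (LK LD1_c5 LD2_c46 LD3_c44)) :=
  Lgr Lrot54 (Lpe (K38.f60702 IH) (Lpr_ff (K16.f272365 IH) (Lpe (K16.f175878 IH) (Lpn (LP (LK LD1_c5 LD2_c46 LD3_c44))))))
theorem f547360 : Led Lsl_bt (LP (LK LD1_c5 LD2_c46 LD3_c44)) = (LP (LK LD1_c11 LD2_c6 LD3_c18)) :=
  Lgr Lrot35 (Lpe (f272367 IH) (Lpe (K38.f212092 IH) (Lpr_ff (f547330 IH) (Lpn (LP (LK LD1_c11 LD2_c6 LD3_c18))))))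
theorem f547362 : Led Lsl_bf (LP (LK LD1_c5 LD2_c46 LD3_c44)) = (LP (LK LD1_c11 LD2_c6 LD3_c18)) :=
  Lgr Lrot24 (Lpr_bt (f547360 IH) (Lpn (LP (LK LD1_c11 LD2_c6 LD3_c18))))
theorem f553939 : Led Lsl_cf (LP (LK LD1_c16 LD2_c21 LD3_c51)) = (LP (LK LD1_c11 LD2_c6 LD3_c18)) :=
  Lgr Lrot58 (Lpe (f40137 IH) (Lpe (f40135 IH) (Lpe (f40120 IH) (Lpr_gf (f553932 IH) (Lpr_bf (f421116 IH) (Lpr_ct (K10.f197810 IH) (Lpr_gf (K16.f241361 IH) (Lpe (K38.f181727 IH) (Lpe (K18.f272387 IH) (Lpr_bf (f547362 IH) (Lpn (LP (LK LD1_c11 LD2_c6 LD3_c18)))))))))))))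
theorem f148969 : Led Lsl_gt (LP (LK LD1_c8 LD2_c44 LD3_c32)) = (LP (LK LD1_c4 LD2_c23 LD3_c27)) :=
  Lre_g IH (LK LD1_c8 LD2_c44 LD3_c32) (LK LD1_c4 LD2_c23 LD3_c27) Lrfl Lrfl
theorem f236857 : Led Lsl_bt (LP (LK LD1_c16 LD2_c21 LD3_c49)) = (LP (LK LD1_c8 LD2_c44 LD3_c32)) :=
  Lre_b IH (LK LD1_c16 LD2_c21 LD3_c49) (LK LD1_c8 LD2_c44 LD3_c32) Lrfl Lrfl
theorem f30037 : Led Lsl_bt (LP (LK LD1_c4 LD2_c0 LD3_c28)) = (LP (LK LD1_c1 LD2_c56 LD3_c61)) :=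
  Lre_b IH (LK LD1_c4 LD2_c0 LD3_c28) (LK LD1_c1 LD2_c56 LD3_c61) Lrfl Lrfl
theorem f29430 : Led Lsl_ct (LP (LK LD1_c4 LD2_c0 LD3_c28)) = (LP (LK LD1_c8 LD2_c1 LD3_c55)) :=
  Lre_c IH (LK LD1_c4 LD2_c0 LD3_c28) (LK LD1_c8 LD2_c1 LD3_c55) Lrfl Lrfl
theorem f29441 : Led Lsl_gt (LP (LK LD1_c15 LD2_c7 LD3_c24)) = (LP (LK LD1_c8 LD2_c1 LD3_c55)) :=
  Lre_g IH (LK LD1_c15 LD2_c7 LD3_c24) (LK LD1_c8 LD2_c1 LD3_c55) Lrfl Lrfl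
theorem f39251 : Led Lsl_bt (LP (LK LD1_c2 LD2_c9 LD3_c15)) = (LP (LK LD1_c4 LD2_c23 LD3_c32)) :=
  Lre_b IH (LK LD1_c2 LD2_c9 LD3_c15) (LK LD1_c4 LD2_c23 LD3_c32) Lrfl Lrfl
theorem f39275 : Led Lsl_gt (LP (LK LD1_c4 LD2_c23 LD3_c32)) = (LP (LK LD1_c8 LD2_c44 LD3_c32)) :=
  Lre_g IH (LK LD1_c4 LD2_c23 LD3_c32) (LK LD1_c8 LD2_c44 LD3_c32) Lrfl Lrfl
theorem f236858 : Led Lsl_cf (LP (LK LD1_c15 LD2_c7 LD3_c24)) = (LP (LK LD1_c16 LD2_c21 LD3_c49)) :=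
  Lgr Lrot160 (Lpr_gt (f29441 IH) (Lpe (f29430 IH) (Lpr_bt (f30037 IH) (Lpe (K11.f211111 IH) (Lpr_ct (K13.f236594 IH) (Lpe (K13.f236855 IH) (Lpr_cf (K12.f39253 IH) (Lpr_bt (f39251 IH) (Lpr_gt (f39275 IH) (Lpe (f236857 IH) (Lpn (LP (LK LD1_c16 LD2_c21 LD3_c49)))))))))))))
theorem f29425 : Led Lsl_gt (LP (LK LD1_c24 LD2_c55 LD3_c21)) = (LP (LK LD1_c15 LD2_c7 LD3_c24)) :=
  Lre_g IH (LK LD1_c24 LD2_c55 LD3_c21) (LK LD1_c15 LD2_c7 LD3_c24) Lrfl Lrfl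
theorem f29420 : Led Lsl_ct (LP (LK LD1_c15 LD2_c7 LD3_c5)) = (LP (LK LD1_c24 LD2_c55 LD3_c21)) :=
  Lre_c IH (LK LD1_c15 LD2_c7 LD3_c5) (LK LD1_c24 LD2_c55 LD3_c21) Lrfl Lrfl
theorem f553949 : Led Lsl_bt (LP (LK LD1_c15 LD2_c7 LD3_c5)) = (LP (LK LD1_c8 LD2_c43 LD3_c49)) :=
  Lgr Lrot92 (Lpr_ct (f29420 IH) (Lpr_gt (f29425 IH) (Lpr_cf (f236858 IH) (Lpr_bt (f236857 IH) (Lpr_gt (f148969 IH) (Lpr_ct (f40135 IH) (Lpr_gt (f40137 IH) (Lpr_cf (f553939 IH) (Lpe (f547362 IH) (Lpr_gt (K18.f272387 IH) (Lpn (LP (LK LD1_c8 LD2_c43 LD3_c49)))))))))))))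
theorem f553953 : Led Lsl_et (LP (LK LD1_c24 LD2_c55 LD3_c22)) = (LP (LK LD1_c15 LD2_c7 LD3_c5)) :=
  Lre_e IH (LK LD1_c24 LD2_c55 LD3_c22) (LK LD1_c15 LD2_c7 LD3_c5) Lrfl Lrfl
theorem f553954 : Led Lsl_bf (LP (LK LD1_c24 LD2_c55 LD3_c22)) = (LP (LK LD1_c16 LD2_c20 LD3_c59)) :=
  Lgr Lrot96 (Lpr_et (f553953 IH) (Lpr_bt (f553949 IH) (Lpr_et (K38.f193711 IH) (Lpn (LP (LK LD1_c16 LD2_c20 LD3_c59))))))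
theorem f272972 : Led Lsl_bt (LP (LK LD1_c16 LD2_c27 LD3_c5)) = (LP (LK LD1_c8 LD2_c47 LD3_c30)) :=
  Lre_b IH (LK LD1_c16 LD2_c27 LD3_c5) (LK LD1_c8 LD2_c47 LD3_c30) Lrfl Lrfl
theorem f553956 : Led Lsl_dt (LP (LK LD1_c24 LD2_c55 LD3_c22)) = (LP (LK LD1_c16 LD2_c27 LD3_c5)) :=
  Lgr Lrot79 (Lpr_bf (f553954 IH) (Lpe (K38.f272400 IH) (Lpe (f272972 IH) (Lpn (LP (LK LD1_c16 LD2_c27 LD3_c5))))))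
theorem f553962 : Led Lsl_et (LP (LK LD1_c15 LD2_c7 LD3_c5)) = (LP (LK LD1_c24 LD2_c55 LD3_c22)) :=
  Lre_e IH (LK LD1_c15 LD2_c7 LD3_c5) (LK LD1_c24 LD2_c55 LD3_c22) Lrfl Lrfl
theorem f29421 : Led Lsl_dt (LP (LK LD1_c8 LD2_c1 LD3_c44)) = (LP (LK LD1_c15 LD2_c7 LD3_c5)) :=
  Lre_d IH (LK LD1_c8 LD2_c1 LD3_c44) (LK LD1_c15 LD2_c7 LD3_c5) Lrfl Lrfl
theorem f453367 : Led Lsl_et (LP (LK LD1_c16 LD2_c27 LD3_c5)) = (LP (LK LD1_c8 LD2_c47 LD3_c28)) :=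
  Lre_e IH (LK LD1_c16 LD2_c27 LD3_c5) (LK LD1_c8 LD2_c47 LD3_c28) Lrfl Lrfl
theorem f272503 : Led Lsl_dt (LP (LK LD1_c8 LD2_c47 LD3_c28)) = (LP (LK LD1_c4 LD2_c24 LD3_c59)) :=
  Lre_d IH (LK LD1_c8 LD2_c47 LD3_c28) (LK LD1_c4 LD2_c24 LD3_c59) Lrfl Lrfl
theorem f553963 : Led Lsl_ef (LP (LK LD1_c8 LD2_c1 LD3_c44)) = (LP (LK LD1_c4 LD2_c24 LD3_c59)) :=
  Lgr Lrot73 (Lpr_dt (f29421 IH) (Lpr_et (f553962 IH) (Lpr_dt (f553956 IH) (Lpr_et (f453367 IH) (Lpr_dt (f272503 IH) (Lpn (LP (LK LD1_c4 LD2_c24 LD3_c59))))))))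
theorem f29436 : Led Lsl_ft (LP (LK LD1_c8 LD2_c1 LD3_c44)) = (LP (LK LD1_c4 LD2_c0 LD3_c27)) :=
  Lre_f IH (LK LD1_c8 LD2_c1 LD3_c44) (LK LD1_c4 LD2_c0 LD3_c27) Lrfl Lrfl
theorem f29465 : Led Lsl_ft (LP (LK LD1_c1 LD2_c57 LD3_c10)) = (LP (LK LD1_c4 LD2_c0 LD3_c39)) :=
  Lre_f IH (LK LD1_c1 LD2_c57 LD3_c10) (LK LD1_c4 LD2_c0 LD3_c39) Lrfl Lrfl
theorem f453226 : Led Lsl_ft (LP (LK LD1_c2 LD2_c9 LD3_c56)) = (LP (LK LD1_c2 LD2_c26 LD3_c52)) :=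
  Lgr Lrot54 (Lpe (K18.f272415 IH) (Lpr_ff (K31.f453220 IH) (Lpe (K18.f56076 IH) (Lpn (LP (LK LD1_c2 LD2_c26 LD3_c52))))))
theorem f272414 : Led Lsl_bt (LP (LK LD1_c4 LD2_c24 LD3_c59)) = (LP (LK LD1_c2 LD2_c9 LD3_c56)) :=
  Lre_b IH (LK LD1_c4 LD2_c24 LD3_c59) (LK LD1_c2 LD2_c9 LD3_c56) Lrfl Lrfl
theorem f272865 : Led Lsl_bt (LP (LK LD1_c2 LD2_c26 LD3_c52)) = (LP (LK LD1_c4 LD2_c58 LD3_c4)) :=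
  Lre_b IH (LK LD1_c2 LD2_c26 LD3_c52) (LK LD1_c4 LD2_c58 LD3_c4) Lrfl Lrfl
theorem f453374 : Led Lsl_ff (LP (LK LD1_c4 LD2_c24 LD3_c59)) = (LP (LK LD1_c4 LD2_c58 LD3_c4)) :=
  Lgr Lrot25 (Lpr_bt (f272414 IH) (Lpr_ft (f453226 IH) (Lpr_bt (f272865 IH) (Lpn (LP (LK LD1_c4 LD2_c58 LD3_c4))))))
theorem f553974 : Led Lsl_et (LP (LK LD1_c4 LD2_c0 LD3_c39)) = (LP (LK LD1_c4 LD2_c58 LD3_c4)) :=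
  Lgr Lrot69 (Lpe (f29465 IH) (Lpe (K7.f29454 IH) (Lpe (f29436 IH) (Lpr_ef (f553963 IH) (Lpr_ff (f453374 IH) (Lpn (LP (LK LD1_c4 LD2_c58 LD3_c4))))))))
theorem f29475 : Led Lsl_dt (LP (LK LD1_c8 LD2_c2 LD3_c9)) = (LP (LK LD1_c4 LD2_c0 LD3_c39)) :=
  Lre_d IH (LK LD1_c8 LD2_c2 LD3_c9) (LK LD1_c4 LD2_c0 LD3_c39) Lrfl Lrfl
theorem f438217 : Led Lsl_et (LP (LK LD1_c15 LD2_c7 LD3_c52)) = (LP (LK LD1_c8 LD2_c2 LD3_c9)) :=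
  Lre_e IH (LK LD1_c15 LD2_c7 LD3_c52) (LK LD1_c8 LD2_c2 LD3_c9) Lrfl Lrfl
theorem f272773 : Led Lsl_dt (LP (LK LD1_c4 LD2_c58 LD3_c4)) = (LP (LK LD1_c9 LD2_c47 LD3_c4)) :=
  Lre_d IH (LK LD1_c4 LD2_c58 LD3_c4) (LK LD1_c9 LD2_c47 LD3_c4) Lrfl Lrfl
theorem f453368 : Led Lsl_et (LP (LK LD1_c9 LD2_c47 LD3_c4)) = (LP (LK LD1_c17 LD2_c57 LD3_c19)) :=
  Lre_e IH (LK LD1_c9 LD2_c47 LD3_c4) (LK LD1_c17 LD2_c57 LD3_c19) Lrfl Lrfl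
theorem f553980 : Led Lsl_df (LP (LK LD1_c15 LD2_c7 LD3_c52)) = (LP (LK LD1_c17 LD2_c57 LD3_c19)) :=
  Lgr Lrot70 (Lpr_et (f438217 IH) (Lpr_dt (f29475 IH) (Lpr_et (f553974 IH) (Lpr_dt (f272773 IH) (Lpr_et (f453368 IH) (Lpn (LP (LK LD1_c17 LD2_c57 LD3_c19))))))))
theorem f553987 : Led Lsl_dt (LP (LK LD1_c15 LD2_c7 LD3_c52)) = (LP (LK LD1_c17 LD2_c57 LD3_c19)) :=
  Lgr Lrot42 (Lpr_df (f553980 IH) (Lpn (LP (LK LD1_c17 LD2_c57 LD3_c19))))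
theorem f453350 : Led Lsl_bt (LP (LK LD1_c17 LD2_c57 LD3_c19)) = (LP (LK LD1_c9 LD2_c47 LD3_c6)) :=
  Lre_b IH (LK LD1_c17 LD2_c57 LD3_c19) (LK LD1_c9 LD2_c47 LD3_c6) Lrfl Lrfl
theorem f553992 : Led Lsl_bf (LP (LK LD1_c15 LD2_c7 LD3_c52)) = (LP (LK LD1_c8 LD2_c46 LD3_c37)) :=
  Lgr Lrot93 (Lpr_dt (f553987 IH) (Lpr_bt (f453350 IH) (Lpe (K32.f503088 IH) (Lpn (LP (LK LD1_c8 LD2_c46 LD3_c37))))))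
theorem f503090 : Led Lsl_et (LP (LK LD1_c4 LD2_c24 LD3_c29)) = (LP (LK LD1_c8 LD2_c46 LD3_c37)) :=
  Lre_e IH (LK LD1_c4 LD2_c24 LD3_c29) (LK LD1_c8 LD2_c46 LD3_c37) Lrfl Lrfl
theorem f553997 : Led Lsl_bt (LP (LK LD1_c8 LD2_c2 LD3_c9)) = (LP (LK LD1_c4 LD2_c24 LD3_c29)) :=
  Lgr Lrot119 (Lpe (f438217 IH) (Lpr_bf (f553992 IH) (Lpe (f503090 IH) (Lpn (LP (LK LD1_c4 LD2_c24 LD3_c29))))))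
theorem f29471 : Led Lsl_ft (LP (LK LD1_c4 LD2_c0 LD3_c48)) = (LP (LK LD1_c8 LD2_c2 LD3_c9)) :=
  Lre_f IH (LK LD1_c4 LD2_c0 LD3_c48) (LK LD1_c8 LD2_c2 LD3_c9) Lrfl Lrfl
theorem f30092 : Led Lsl_bt (LP (LK LD1_c1 LD2_c57 LD3_c11)) = (LP (LK LD1_c0 LD2_c55 LD3_c25)) :=
  Lre_b IH (LK LD1_c1 LD2_c57 LD3_c11) (LK LD1_c0 LD2_c55 LD3_c25) Lrfl Lrfl
theorem f29480 : Led Lsl_at (LP (LK LD1_c4 LD2_c0 LD3_c48)) = (LP (LK LD1_c1 LD2_c57 LD3_c11)) :=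
  Lre_a IH (LK LD1_c4 LD2_c0 LD3_c48) (LK LD1_c1 LD2_c57 LD3_c11) Lrfl Lrfl
theorem f538662 : Led Lsl_bf (LP (LK LD1_c4 LD2_c0 LD3_c48)) = (LP (LK LD1_c3 LD2_c10 LD3_c5)) :=
  Lgr Lrot81 (Lpr_at (f29480 IH) (Lpr_bt (f30092 IH) (Lpe (K1.f30049 IH) (Lpr_bt (K37.f30091 IH) (Lpr_at (K35.f538658 IH) (Lpn (LP (LK LD1_c3 LD2_c10 LD3_c5))))))))
theorem f554001 : Led Lsl_ff (LP (LK LD1_c3 LD2_c10 LD3_c5)) = (LP (LK LD1_c4 LD2_c24 LD3_c29)) :=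
  Lgr Lrot25 (Lpe (f538662 IH) (Lpr_ft (f29471 IH) (Lpr_bt (f553997 IH) (Lpn (LP (LK LD1_c4 LD2_c24 LD3_c29))))))
theorem f538660 : Led Lsl_af (LP (LK LD1_c1 LD2_c56 LD3_c52)) = (LP (LK LD1_c3 LD2_c10 LD3_c5)) :=
  Lgr Lrot0 (Lpr_at (K35.f538658 IH) (Lpn (LP (LK LD1_c3 LD2_c10 LD3_c5))))
theorem f554006 : Led Lsl_gf (LP (LK LD1_c1 LD2_c56 LD3_c52)) = (LP (LK LD1_c2 LD2_c9 LD3_c41)) :=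
  Lgr Lrot76 (Lpr_af (f538660 IH) (Lpr_ff (f554001 IH) (Lpr_gt (K32.f59387 IH) (Lpn (LP (LK LD1_c2 LD2_c9 LD3_c41))))))
theorem f205593 : Led Lsl_bt (LP (LK LD1_c4 LD2_c24 LD3_c23)) = (LP (LK LD1_c2 LD2_c9 LD3_c41)) :=
  Lre_b IH (LK LD1_c4 LD2_c24 LD3_c23) (LK LD1_c2 LD2_c9 LD3_c41) Lrfl Lrfl
theorem f80663 : Led Lsl_ct (LP (LK LD1_c4 LD2_c24 LD3_c23)) = (LP (LK LD1_c8 LD2_c46 LD3_c26)) :=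
  Lre_c IH (LK LD1_c4 LD2_c24 LD3_c23) (LK LD1_c8 LD2_c46 LD3_c26) Lrfl Lrfl
theorem f554012 : Led Lsl_gt (LP (LK LD1_c9 LD2_c49 LD3_c58)) = (LP (LK LD1_c8 LD2_c46 LD3_c26)) :=
  Lgr Lrot149 (Lpe (K28.f202952 IH) (Lpe (K28.f38225 IH) (Lpe (K28.f38110 IH) (Lpe (K36.f202021 IH) (Lpe (K4.f59705 IH) (Lpr_cf (K2.f36627 IH) (Lpr_bt (K37.f30091 IH) (Lpr_gf (f554006 IH) (Lpe (f205593 IH) (Lpr_ct (f80663 IH) (Lpn (LP (LK LD1_c8 LD2_c46 LD3_c26)))))))))))))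
theorem f420609 : Led Lsl_bf (LP (LK LD1_c8 LD2_c48 LD3_c6)) = (LP (LK LD1_c6 LD2_c13 LD3_c49)) :=
  Lgr Lrot24 (Lpr_bt (K28.f420607 IH) (Lpn (LP (LK LD1_c6 LD2_c13 LD3_c49))))
theorem f137957 : Led Lsl_bt (LP (LK LD1_c4 LD2_c36 LD3_c44)) = (LP (LK LD1_c9 LD2_c9 LD3_c25)) :=
  Lre_b IH (LK LD1_c4 LD2_c36 LD3_c44) (LK LD1_c9 LD2_c9 LD3_c25) Lrfl Lrfl
theorem f160715 : Led Lsl_gt (LP (LK LD1_c8 LD2_c48 LD3_c14)) = (LP (LK LD1_c9 LD2_c9 LD3_c25)) :=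
  Lgr Lrot164 (Lpe (K32.f112420 IH) (Lpr_ct (K4.f38245 IH) (Lpe (K28.f112581 IH) (Lpr_cf (K28.f160709 IH) (Lpr_gf (K24.f158686 IH) (Lpr_bf (K24.f81083 IH) (Lpr_ct (K8.f80254 IH) (Lpr_gf (K8.f157704 IH) (Lpe (K8.f99592 IH) (Lpr_bt (f137957 IH) (Lpn (LP (LK LD1_c9 LD2_c9 LD3_c25)))))))))))))
theorem f542493 : Led Lsl_gt (LP (LK LD1_c3 LD2_c37 LD3_c3)) = (LP (LK LD1_c6 LD2_c13 LD3_c42)) :=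
  Lgr Lrot94 (Lpe (K36.f441600 IH) (Lpr_gt (K37.f98493 IH) (Lpr_dt (K37.f542483 IH) (Lpr_gt (K24.f100225 IH) (Lpr_dt (K36.f112463 IH) (Lpe (K6.f99600 IH) (Lpe (K36.f137912 IH) (Lpe (f160715 IH) (Lpe (K36.f420377 IH) (Lpn (LP (LK LD1_c6 LD2_c13 LD3_c42))))))))))))
theorem f542501 : Led Lsl_gt (LP (LK LD1_c7 LD2_c14 LD3_c28)) = (LP (LK LD1_c8 LD2_c48 LD3_c6)) :=
  Lgr Lrot9 (Lpe (K36.f97203 IH) (Lpr_gt (f542493 IH) (Lpe (K36.f420636 IH) (Lpr_gt (K5.f80681 IH) (Lpr_ct (K4.f80674 IH) (Lpe (K6.f70487 IH) (Lpe (K6.f70430 IH) (Lpe (K6.f137547 IH) (Lpe (K36.f420615 IH) (Lpn (LP (LK LD1_c8 LD2_c48 LD3_c6))))))))))))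
theorem f36473 : Led Lsl_dt (LP (LK LD1_c3 LD2_c10 LD3_c7)) = (LP (LK LD1_c1 LD2_c31 LD3_c12)) :=
  Lre_d IH (LK LD1_c3 LD2_c10 LD3_c7) (LK LD1_c1 LD2_c31 LD3_c12) Lrfl Lrfl
theorem f542047 : Led Lsl_gf (LP (LK LD1_c3 LD2_c10 LD3_c7)) = (LP (LK LD1_c1 LD2_c56 LD3_c52)) :=
  Lgr Lrot181 (Lpe (K36.f540315 IH) (Lpr_gt (K36.f147262 IH) (Lpr_cf (K36.f542028 IH) (Lpr_bt (K36.f542032 IH) (Lpr_gt (K11.f149932 IH) (Lpe (K6.f59232 IH) (Lpr_ct (K1.f59238 IH) (Lpr_gt (K4.f59250 IH) (Lpr_cf (K2.f36627 IH) (Lpr_bt (K37.f30091 IH) (Lpn (LP (LK LD1_c1 LD2_c56 LD3_c52)))))))))))))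
theorem f439298 : Led Lsl_af (LP (LK LD1_c3 LD2_c40 LD3_c47)) = (LP (LK LD1_c3 LD2_c43 LD3_c34)) :=
  Lgr Lrot45 (Lpr_ft (K24.f159679 IH) (Lpe (K24.f439270 IH) (Lpr_ft (K24.f439296 IH) (Lpn (LP (LK LD1_c3 LD2_c43 LD3_c34))))))
theorem f439627 : Led Lsl_dt (LP (LK LD1_c7 LD2_c25 LD3_c13)) = (LP (LK LD1_c3 LD2_c43 LD3_c34)) :=
  Lgr Lrot44 (Lpe (f159722 IH) (Lpr_df (K24.f159670 IH) (Lpr_af (f439298 IH) (Lpn (LP (LK LD1_c3 LD2_c43 LD3_c34))))))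
theorem f439631 : Led Lsl_df (LP (LK LD1_c7 LD2_c25 LD3_c13)) = (LP (LK LD1_c3 LD2_c43 LD3_c34)) :=
  Lgr Lrot38 (Lpr_dt (f439627 IH) (Lpn (LP (LK LD1_c3 LD2_c43 LD3_c34))))
theorem f552229 : Led Lsl_gt (LP (LK LD1_c4 LD2_c0 LD3_c9)) = (LP (LK LD1_c6 LD2_c15 LD3_c6)) :=
  Lgr Lrot180 (Lpr_ct (K37.f3036 IH) (Lpe (f542047 IH) (Lpr_dt (f36473 IH) (Lpe (K13.f210861 IH) (Lpr_dt (K37.f210863 IH) (Lpr_ct (f552217 IH) (Lpr_df (f439631 IH) (Lpr_gf (f523748 IH) (Lpqs (f540369 IH) (Lpe (K14.f59138 IH) (Lpn (LP (LK LD1_c6 LD2_c15 LD3_c6)))))))))))))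
theorem f554038 : Led Lsl_bf (LP (LK LD1_c7 LD2_c14 LD3_c28)) = (LP (LK LD1_c5 LD2_c50 LD3_c48)) :=
  Lgr Lrot156 (Lpr_gt (f542501 IH) (Lpr_bf (f420609 IH) (Lpr_ct (K28.f202952 IH) (Lpr_gt (f554012 IH) (Lpe (f80663 IH) (Lpr_bt (f205593 IH) (Lpe (f554006 IH) (Lpr_ct (K37.f3029 IH) (Lpr_gt (f552229 IH) (Lpe (K14.f255497 IH) (Lpn (LP (LK LD1_c5 LD2_c50 LD3_c48)))))))))))))
theorem f97261 : Led Lsl_bt (LP (LK LD1_c3 LD2_c38 LD3_c30)) = (LP (LK LD1_c7 LD2_c17 LD3_c19)) :=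
  Lre_b IH (LK LD1_c3 LD2_c38 LD3_c30) (LK LD1_c7 LD2_c17 LD3_c19) Lrfl Lrfl
theorem f554047 : Led Lsl_et (LP (LK LD1_c7 LD2_c17 LD3_c19)) = (LP (LK LD1_c5 LD2_c50 LD3_c48)) :=
  Lgr Lrot74 (Lpe (f97261 IH) (Lpe (K36.f97258 IH) (Lpr_bf (f554038 IH) (Lpn (LP (LK LD1_c5 LD2_c50 LD3_c48))))))
theorem f255501 : Led Lsl_et (LP (LK LD1_c6 LD2_c15 LD3_c6)) = (LP (LK LD1_c12 LD2_c8 LD3_c31)) :=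
  Lre_e IH (LK LD1_c6 LD2_c15 LD3_c6) (LK LD1_c12 LD2_c8 LD3_c31) Lrfl Lrfl
theorem f554049 : Led Lsl_cf (LP (LK LD1_c7 LD2_c17 LD3_c19)) = (LP (LK LD1_c12 LD2_c8 LD3_c31)) :=
  Lgr Lrot39 (Lpr_et (f554047 IH) (Lpr_ct (K14.f255497 IH) (Lpr_et (f255501 IH) (Lpn (LP (LK LD1_c12 LD2_c8 LD3_c31))))))
theorem f439566 : Led Lsl_dt (LP (LK LD1_c7 LD2_c17 LD3_c19)) = (LP (LK LD1_c3 LD2_c38 LD3_c29)) :=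
  Lre_d IH (LK LD1_c7 LD2_c17 LD3_c19) (LK LD1_c3 LD2_c38 LD3_c29) Lrfl Lrfl
theorem f439546 : Led Lsl_ct (LP (LK LD1_c3 LD2_c38 LD3_c29)) = (LP (LK LD1_c3 LD2_c43 LD3_c37)) :=
  Lgr Lrot83 (Lpe (K35.f439545 IH) (Lpr_cf (K28.f439458 IH) (Lpr_bf (K28.f131707 IH) (Lpe (K5.f131744 IH) (Lpe (K34.f209119 IH) (Lpn (LP (LK LD1_c3 LD2_c43 LD3_c37))))))))
theorem f439567 : Led Lsl_ct (LP (LK LD1_c7 LD2_c27 LD3_c49)) = (LP (LK LD1_c14 LD2_c5 LD3_c24)) :=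
  Lre_c IH (LK LD1_c7 LD2_c27 LD3_c49) (LK LD1_c14 LD2_c5 LD3_c24) Lrfl Lrfl
theorem f439568 : Led Lsl_dt (LP (LK LD1_c14 LD2_c5 LD3_c24)) = (LP (LK LD1_c23 LD2_c38 LD3_c42)) :=
  Lre_d IH (LK LD1_c14 LD2_c5 LD3_c24) (LK LD1_c23 LD2_c38 LD3_c42) Lrfl Lrfl
theorem f560460 : Led Lsl_cf (LP (LK LD1_c23 LD2_c26 LD3_c7)) = (LP (LK LD1_c23 LD2_c38 LD3_c42)) :=
  Lgr Lrot102 (Lpr_af (f560447 IH) (Lpe (f560446 IH) (Lpr_dt (f554059 IH) (Lpe (f554049 IH) (Lpr_dt (f439566 IH) (Lpr_ct (f439546 IH) (Lpr_dt (K33.f159664 IH) (Lpr_ct (f439567 IH) (Lpr_dt (f439568 IH) (Lpn (LP (LK LD1_c23 LD2_c38 LD3_c42))))))))))))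
theorem f560245 : Led Lsl_ct (LP (LK LD1_c13 LD2_c55 LD3_c22)) = (LP (LK LD1_c23 LD2_c26 LD3_c6)) :=
  Lre_c IH (LK LD1_c13 LD2_c55 LD3_c22) (LK LD1_c23 LD2_c26 LD3_c6) Lrfl Lrfl
theorem f560468 : Led Lsl_ft (LP (LK LD1_c23 LD2_c26 LD3_c6)) = (LP (LK LD1_c23 LD2_c38 LD3_c42)) :=
  Lgr Lrot4 (Lpe (f560245 IH) (Lpe (f463370 IH) (Lpr_cf (f560460 IH) (Lpn (LP (LK LD1_c23 LD2_c38 LD3_c42))))))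
theorem f560479 : Led Lsl_ff (LP (LK LD1_c23 LD2_c26 LD3_c6)) = (LP (LK LD1_c23 LD2_c38 LD3_c42)) :=
  Lgr Lrot3 (Lpr_ft (f560468 IH) (Lpn (LP (LK LD1_c23 LD2_c38 LD3_c42))))
theorem f560481 : Led Lsl_ft (LP (LK LD1_c23 LD2_c38 LD3_c43)) = (LP (LK LD1_c14 LD2_c5 LD3_c24)) :=
  Lre_f IH (LK LD1_c23 LD2_c38 LD3_c43) (LK LD1_c14 LD2_c5 LD3_c24) Lrfl Lrfl
theorem f560482 : Led Lsl_dt (LP (LK LD1_c23 LD2_c26 LD3_c6)) = (LP (LK LD1_c23 LD2_c38 LD3_c43)) :=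
  Lgr Lrot60 (Lpr_ff (f560479 IH) (Lpe (f439568 IH) (Lpe (f560481 IH) (Lpn (LP (LK LD1_c23 LD2_c38 LD3_c43))))))
theorem f560247 : Led Lsl_gt (LP (LK LD1_c23 LD2_c26 LD3_c5)) = (LP (LK LD1_c13 LD2_c55 LD3_c22)) :=
  Lre_g IH (LK LD1_c23 LD2_c26 LD3_c5) (LK LD1_c13 LD2_c55 LD3_c22) Lrfl Lrfl
theorem f560248 : Led Lsl_ct (LP (LK LD1_c31 LD2_c2 LD3_c60)) = (LP (LK LD1_c23 LD2_c26 LD3_c5)) :=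
  Lre_c IH (LK LD1_c31 LD2_c2 LD3_c60) (LK LD1_c23 LD2_c26 LD3_c5) Lrfl Lrfl
theorem f439564 : Led Lsl_gt (LP (LK LD1_c23 LD2_c38 LD3_c22)) = (LP (LK LD1_c14 LD2_c5 LD3_c25)) :=
  Lre_g IH (LK LD1_c23 LD2_c38 LD3_c22) (LK LD1_c14 LD2_c5 LD3_c25) Lrfl Lrfl
theorem f420080 : Led Lsl_ct (LP (LK LD1_c14 LD2_c6 LD3_c10)) = (LP (LK LD1_c7 LD2_c28 LD3_c14)) :=
  Lre_c IH (LK LD1_c14 LD2_c6 LD3_c10) (LK LD1_c7 LD2_c28 LD3_c14) Lrfl Lrfl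
theorem f122131 : Led Lsl_et (LP (LK LD1_c3 LD2_c25 LD3_c34)) = (LP (LK LD1_c6 LD2_c53 LD3_c8)) :=
  Lre_e IH (LK LD1_c3 LD2_c25 LD3_c34) (LK LD1_c6 LD2_c53 LD3_c8) Lrfl Lrfl
theorem f122133 : Led Lsl_ct (LP (LK LD1_c6 LD2_c53 LD3_c8)) = (LP (LK LD1_c3 LD2_c43 LD3_c49)) :=
  Lgr Lrot15 (Lpe (f122131 IH) (Lpr_cf (K4.f122125 IH) (Lpe (K34.f122132 IH) (Lpn (LP (LK LD1_c3 LD2_c43 LD3_c49))))))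
theorem f122295 : Led Lsl_gt (LP (LK LD1_c13 LD2_c5 LD3_c16)) = (LP (LK LD1_c6 LD2_c53 LD3_c8)) :=
  Lre_g IH (LK LD1_c13 LD2_c5 LD3_c16) (LK LD1_c6 LD2_c53 LD3_c8) Lrfl Lrfl
theorem f419643 : Led Lsl_ct (LP (LK LD1_c22 LD2_c15 LD3_c60)) = (LP (LK LD1_c13 LD2_c5 LD3_c16)) :=
  Lre_c IH (LK LD1_c22 LD2_c15 LD3_c60) (LK LD1_c13 LD2_c5 LD3_c16) Lrfl Lrfl
theorem f533464 : Led Lsl_gf (LP (LK LD1_c22 LD2_c15 LD3_c60)) = (LP (LK LD1_c22 LD2_c35 LD3_c23)) :=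
  Lgr Lrot147 (Lpr_ct (f419643 IH) (Lpr_gt (f122295 IH) (Lpr_ct (f122133 IH) (Lpe (K35.f420079 IH) (Lpe (f420080 IH) (Lpe (K34.f440461 IH) (Lpe (K34.f469929 IH) (Lpr_gf (K34.f533462 IH) (Lpe (K35.f111264 IH) (Lpn (LP (LK LD1_c22 LD2_c35 LD3_c23))))))))))))
theorem f111161 : Led Lsl_ft (LP (LK LD1_c22 LD2_c35 LD3_c23)) = (LP (LK LD1_c13 LD2_c19 LD3_c0)) :=
  Lre_f IH (LK LD1_c22 LD2_c35 LD3_c23) (LK LD1_c13 LD2_c19 LD3_c0) Lrfl Lrfl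
theorem f535074 : Led Lsl_gt (LP (LK LD1_c22 LD2_c15 LD3_c60)) = (LP (LK LD1_c14 LD2_c3 LD3_c55)) :=
  Lgr Lrot46 (Lpr_gf (f533464 IH) (Lpr_ft (f111161 IH) (Lpr_at (K7.f147821 IH) (Lpn (LP (LK LD1_c14 LD2_c3 LD3_c55))))))
theorem f469263 : Led Lsl_gt (LP (LK LD1_c7 LD2_c4 LD3_c57)) = (LP (LK LD1_c13 LD2_c25 LD3_c29)) :=
  Lre_g IH (LK LD1_c7 LD2_c4 LD3_c57) (LK LD1_c13 LD2_c25 LD3_c29) Lrfl Lrfl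
theorem f122357 : Led Lsl_bt (LP (LK LD1_c3 LD2_c43 LD3_c49)) = (LP (LK LD1_c1 LD2_c48 LD3_c61)) :=
  Lre_b IH (LK LD1_c3 LD2_c43 LD3_c49) (LK LD1_c1 LD2_c48 LD3_c61) Lrfl Lrfl
theorem f470255 : Led Lsl_bf (LP (LK LD1_c13 LD2_c25 LD3_c29)) = (LP (LK LD1_c22 LD2_c15 LD3_c60)) :=
  Lgr Lrot34 (Lpe (f469263 IH) (Lpe (K37.f469172 IH) (Lpr_ct (K33.f469175 IH) (Lpe (K28.f466458 IH) (Lpr_cf (K33.f466460 IH) (Lpe (K28.f132011 IH) (Lpe (f122357 IH) (Lpe (K28.f420071 IH) (Lpe (f122295 IH) (Lpe (f419643 IH) (Lpn (LP (LK LD1_c22 LD2_c15 LD3_c60)))))))))))))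
theorem f470257 : Led Lsl_bt (LP (LK LD1_c13 LD2_c25 LD3_c29)) = (LP (LK LD1_c22 LD2_c15 LD3_c60)) :=
  Lgr Lrot127 (Lpr_bf (f470255 IH) (Lpn (LP (LK LD1_c22 LD2_c15 LD3_c60))))
theorem f543612 : Led Lsl_cf (LP (LK LD1_c12 LD2_c8 LD3_c33)) = (LP (LK LD1_c13 LD2_c25 LD3_c29)) :=
  Lgr Lrot58 (Lpr_gf (K37.f543607 IH) (Lpr_cf (K29.f439559 IH) (Lpr_bt (K29.f131725 IH) (Lpe (K28.f439188 IH) (Lpe (K34.f439191 IH) (Lpr_ct (K34.f464543 IH) (Lpr_gf (K34.f533135 IH) (Lpr_cf (K7.f147813 IH) (Lpe (f535074 IH) (Lpe (f470257 IH) (Lpn (LP (LK LD1_c13 LD2_c25 LD3_c29)))))))))))))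
theorem f543648 : Led Lsl_cf (LP (LK LD1_c21 LD2_c14 LD3_c29)) = (LP (LK LD1_c23 LD2_c3 LD3_c21)) :=
  Lgr Lrot58 (Lpr_gf (K37.f543639 IH) (Lpe (K24.f436333 IH) (Lpr_bt (K7.f147812 IH) (Lpe (f535074 IH) (Lpe (f470257 IH) (Lpe (f543612 IH) (Lpr_gf (K37.f543607 IH) (Lpr_cf (K29.f439559 IH) (Lpe (K37.f489386 IH) (Lpe (K37.f489390 IH) (Lpn (LP (LK LD1_c23 LD2_c3 LD3_c21)))))))))))))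
theorem f532981 : Led Lsl_ft (LP (LK LD1_c14 LD2_c3 LD3_c56)) = (LP (LK LD1_c22 LD2_c44 LD3_c14)) :=
  Lgr Lrot75 (Lpe (K7.f147807 IH) (Lpr_ff (K34.f532969 IH) (Lpr_bf (K34.f473475 IH) (Lpn (LP (LK LD1_c22 LD2_c44 LD3_c14))))))
theorem f108271 : Led Lsl_gt (LP (LK LD1_c7 LD2_c12 LD3_c6)) = (LP (LK LD1_c13 LD2_c38 LD3_c13)) :=
  Lre_g IH (LK LD1_c7 LD2_c12 LD3_c6) (LK LD1_c13 LD2_c38 LD3_c13) Lrfl Lrfl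
theorem f439457 : Led Lsl_bt (LP (LK LD1_c3 LD2_c38 LD3_c29)) = (LP (LK LD1_c1 LD2_c46 LD3_c14)) :=
  Lre_b IH (LK LD1_c3 LD2_c38 LD3_c29) (LK LD1_c1 LD2_c46 LD3_c14) Lrfl Lrfl
theorem f439581 : Led Lsl_gt (LP (LK LD1_c7 LD2_c27 LD3_c48)) = (LP (LK LD1_c3 LD2_c43 LD3_c37)) :=
  Lre_g IH (LK LD1_c7 LD2_c27 LD3_c48) (LK LD1_c3 LD2_c43 LD3_c37) Lrfl Lrfl
theorem f464326 : Led Lsl_cf (LP (LK LD1_c7 LD2_c27 LD3_c48)) = (LP (LK LD1_c13 LD2_c38 LD3_c13)) :=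
  Lgr Lrot125 (Lpr_gt (f439581 IH) (Lpe (f439546 IH) (Lpr_bt (f439457 IH) (Lpr_gt (K28.f464322 IH) (Lpr_bf (K28.f458529 IH) (Lpr_ct (K28.f16706 IH) (Lpq (K28.f464172 IH) (Lpe (K28.f455823 IH) (Lpe (K3.f108237 IH) (Lpr_bt (K37.f108241 IH) (Lpr_gt (f108271 IH) (Lpn (LP (LK LD1_c13 LD2_c38 LD3_c13))))))))))))))
theorem f489714 : Led Lsl_ct (LP (LK LD1_c7 LD2_c27 LD3_c48)) = (LP (LK LD1_c13 LD2_c38 LD3_c13)) :=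
  Lgr Lrot59 (Lpr_cf (f464326 IH) (Lpn (LP (LK LD1_c13 LD2_c38 LD3_c13))))
theorem f489713 : Led Lsl_bt (LP (LK LD1_c7 LD2_c27 LD3_c48)) = (LP (LK LD1_c14 LD2_c5 LD3_c19)) :=
  Lre_b IH (LK LD1_c7 LD2_c27 LD3_c48) (LK LD1_c14 LD2_c5 LD3_c19) Lrfl Lrfl
theorem f533927 : Led Lsl_gf (LP (LK LD1_c14 LD2_c3 LD3_c56)) = (LP (LK LD1_c14 LD2_c5 LD3_c19)) :=
  Lgr Lrot124 (Lpe (K7.f147807 IH) (Lpr_ct (K4.f111335 IH) (Lpe (K37.f533917 IH) (Lpe (K37.f130741 IH) (Lpr_bt (K37.f533919 IH) (Lpr_gt (K37.f469266 IH) (Lpr_ct (K28.f469259 IH) (Lpr_gt (f108271 IH) (Lpe (f489714 IH) (Lpr_bt (f489713 IH) (Lpn (LP (LK LD1_c14 LD2_c5 LD3_c19)))))))))))))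
theorem f436376 : Led Lsl_af (LP (LK LD1_c14 LD2_c3 LD3_c56)) = (LP (LK LD1_c13 LD2_c54 LD3_c27)) :=
  Lgr Lrot0 (Lpr_at (K24.f436335 IH) (Lpn (LP (LK LD1_c13 LD2_c54 LD3_c27))))
theorem f489443 : Led Lsl_bt (LP (LK LD1_c14 LD2_c5 LD3_c35)) = (LP (LK LD1_c22 LD2_c42 LD3_c56)) :=
  Lgr Lrot127 (Lpr_bf (K34.f489441 IH) (Lpn (LP (LK LD1_c22 LD2_c42 LD3_c56))))
theorem f533098 : Led Lsl_ft (LP (LK LD1_c22 LD2_c42 LD3_c56)) = (LP (LK LD1_c13 LD2_c54 LD3_c27)) :=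
  Lgr Lrot75 (Lpe (f489443 IH) (Lpr_ff (K34.f533096 IH) (Lpr_bf (K24.f436378 IH) (Lpn (LP (LK LD1_c13 LD2_c54 LD3_c27))))))
theorem f533929 : Led Lsl_gt (LP (LK LD1_c22 LD2_c42 LD3_c56)) = (LP (LK LD1_c14 LD2_c5 LD3_c19)) :=
  Lgr Lrot5 (Lpr_ft (f533098 IH) (Lpe (f436376 IH) (Lpr_gf (f533927 IH) (Lpn (LP (LK LD1_c14 LD2_c5 LD3_c19))))))
theorem f116250 : Led Lsl_gt (LP (LK LD1_c13 LD2_c38 LD3_c13)) = (LP (LK LD1_c7 LD2_c12 LD3_c2)) :=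
  Lre_g IH (LK LD1_c13 LD2_c38 LD3_c13) (LK LD1_c7 LD2_c12 LD3_c2) Lrfl Lrfl
theorem f18705 : Led Lsl_bt (LP (LK LD1_c13 LD2_c16 LD3_c39)) = (LP (LK LD1_c6 LD2_c59 LD3_c51)) :=
  Lre_b IH (LK LD1_c13 LD2_c16 LD3_c39) (LK LD1_c6 LD2_c59 LD3_c51) Lrfl Lrfl
theorem f488782 : Led Lsl_ct (LP (LK LD1_c13 LD2_c16 LD3_c39)) = (LP (LK LD1_c13 LD2_c24 LD3_c47)) :=
  Lgr Lrot63 (Lpr_bt (f18705 IH) (Lpr_gt (K8.f18682 IH) (Lpe (K24.f18687 IH) (Lpr_ct (K24.f18689 IH) (Lpr_gt (K28.f18945 IH) (Lpe (K28.f455580 IH) (Lpr_bt (K28.f466291 IH) (Lpe (K28.f466292 IH) (Lpe (K28.f116468 IH) (Lpr_gt (K33.f488778 IH) (Lpn (LP (LK LD1_c13 LD2_c24 LD3_c47)))))))))))))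
theorem f489346 : Led Lsl_cf (LP (LK LD1_c13 LD2_c16 LD3_c39)) = (LP (LK LD1_c13 LD2_c24 LD3_c47)) :=
  Lgr Lrot11 (Lpr_ct (f488782 IH) (Lpn (LP (LK LD1_c13 LD2_c24 LD3_c47))))
theorem f425679 : Led Lsl_gt (LP (LK LD1_c13 LD2_c16 LD3_c39)) = (LP (LK LD1_c22 LD2_c32 LD3_c9)) :=
  Lre_g IH (LK LD1_c13 LD2_c16 LD3_c39) (LK LD1_c22 LD2_c32 LD3_c9) Lrfl Lrfl
theorem f533963 : Led Lsl_ct (LP (LK LD1_c14 LD2_c5 LD3_c35)) = (LP (LK LD1_c22 LD2_c32 LD3_c9)) :=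
  Lgr Lrot63 (Lpr_bt (f489443 IH) (Lpr_gt (f533929 IH) (Lpe (f489713 IH) (Lpr_ct (f489714 IH) (Lpr_gt (f116250 IH) (Lpr_cf (K28.f116158 IH) (Lpe (K4.f116440 IH) (Lpr_gt (K33.f488778 IH) (Lpe (f489346 IH) (Lpr_gt (f425679 IH) (Lpn (LP (LK LD1_c22 LD2_c32 LD3_c9)))))))))))))
theorem f533973 : Led Lsl_ff (LP (LK LD1_c13 LD2_c19 LD3_c4)) = (LP (LK LD1_c22 LD2_c32 LD3_c9)) :=
  Lgr Lrot23 (Lpr_ct (K4.f103636 IH) (Lpe (K34.f533096 IH) (Lpr_ct (f533963 IH) (Lpn (LP (LK LD1_c22 LD2_c32 LD3_c9))))))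
theorem f533979 : Led Lsl_et (LP (LK LD1_c23 LD2_c26 LD3_c50)) = (LP (LK LD1_c22 LD2_c32 LD3_c9)) :=
  Lgr Lrot69 (Lpe (K34.f532965 IH) (Lpe (K37.f111282 IH) (Lpr_ff (K5.f111125 IH) (Lpe (K4.f103630 IH) (Lpr_ff (f533973 IH) (Lpn (LP (LK LD1_c22 LD2_c32 LD3_c9))))))))
theorem f533965 : Led Lsl_af (LP (LK LD1_c23 LD2_c28 LD3_c12)) = (LP (LK LD1_c22 LD2_c32 LD3_c9)) :=
  Lgr Lrot68 (Lpr_ct (K37.f489376 IH) (Lpe (K34.f533082 IH) (Lpr_ct (f533963 IH) (Lpn (LP (LK LD1_c22 LD2_c32 LD3_c9))))))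
theorem f533244 : Led Lsl_ef (LP (LK LD1_c22 LD2_c40 LD3_c4)) = (LP (LK LD1_c23 LD2_c28 LD3_c12)) :=
  Lgr Lrot28 (Lpr_ct (K37.f468926 IH) (Lpr_et (K34.f533197 IH) (Lpr_ct (K37.f533077 IH) (Lpn (LP (LK LD1_c23 LD2_c28 LD3_c12))))))
theorem f533983 : Led Lsl_af (LP (LK LD1_c23 LD2_c26 LD3_c50)) = (LP (LK LD1_c22 LD2_c40 LD3_c4)) :=
  Lgr Lrot50 (Lpr_et (f533979 IH) (Lpe (f533965 IH) (Lpe (f533244 IH) (Lpn (LP (LK LD1_c22 LD2_c40 LD3_c4))))))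
theorem f473495 : Led Lsl_dt (LP (LK LD1_c23 LD2_c26 LD3_c50)) = (LP (LK LD1_c31 LD2_c3 LD3_c24)) :=
  Lre_d IH (LK LD1_c23 LD2_c26 LD3_c50) (LK LD1_c31 LD2_c3 LD3_c24) Lrfl Lrfl
theorem f468952 : Led Lsl_dt (LP (LK LD1_c30 LD2_c38 LD3_c39)) = (LP (LK LD1_c22 LD2_c40 LD3_c4)) :=
  Lre_d IH (LK LD1_c30 LD2_c38 LD3_c39) (LK LD1_c22 LD2_c40 LD3_c4) Lrfl Lrfl
theorem f533993 : Led Lsl_at (LP (LK LD1_c31 LD2_c3 LD3_c24)) = (LP (LK LD1_c30 LD2_c38 LD3_c39)) :=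
  Lgr Lrot51 (Lpe (f473495 IH) (Lpr_af (f533983 IH) (Lpe (f468952 IH) (Lpn (LP (LK LD1_c30 LD2_c38 LD3_c39))))))
theorem f473490 : Led Lsl_dt (LP (LK LD1_c31 LD2_c3 LD3_c24)) = (LP (LK LD1_c23 LD2_c26 LD3_c50)) :=
  Lre_d IH (LK LD1_c31 LD2_c3 LD3_c24) (LK LD1_c23 LD2_c26 LD3_c50) Lrfl Lrfl
theorem f532963 : Led Lsl_ft (LP (LK LD1_c30 LD2_c7 LD3_c28)) = (LP (LK LD1_c31 LD2_c3 LD3_c24)) :=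
  Lgr Lrot54 (Lpe (K34.f111283 IH) (Lpr_ff (K34.f532945 IH) (Lpe (f473490 IH) (Lpn (LP (LK LD1_c31 LD2_c3 LD3_c24))))))
theorem f111300 : Led Lsl_at (LP (LK LD1_c23 LD2_c46 LD3_c29)) = (LP (LK LD1_c30 LD2_c7 LD3_c28)) :=
  Lgr Lrot100 (Lpr_af (K34.f111298 IH) (Lpn (LP (LK LD1_c30 LD2_c7 LD3_c28))))
theorem f534010 : Led Lsl_ff (LP (LK LD1_c23 LD2_c46 LD3_c29)) = (LP (LK LD1_c30 LD2_c38 LD3_c39)) :=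
  Lgr Lrot30 (Lpr_at (f111300 IH) (Lpr_ft (f532963 IH) (Lpr_at (f533993 IH) (Lpn (LP (LK LD1_c30 LD2_c38 LD3_c39))))))
theorem f534015 : Led Lsl_ft (LP (LK LD1_c23 LD2_c46 LD3_c29)) = (LP (LK LD1_c30 LD2_c38 LD3_c39)) :=
  Lgr Lrot48 (Lpr_ff (f534010 IH) (Lpn (LP (LK LD1_c30 LD2_c38 LD3_c39))))
theorem f111316 : Led Lsl_bt (LP (LK LD1_c14 LD2_c10 LD3_c58)) = (LP (LK LD1_c23 LD2_c46 LD3_c29)) :=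
  Lre_b IH (LK LD1_c14 LD2_c10 LD3_c58) (LK LD1_c23 LD2_c46 LD3_c29) Lrfl Lrfl
theorem f534007 : Led Lsl_bt (LP (LK LD1_c30 LD2_c38 LD3_c39)) = (LP (LK LD1_c22 LD2_c40 LD3_c5)) :=
  Lre_b IH (LK LD1_c30 LD2_c38 LD3_c39) (LK LD1_c22 LD2_c40 LD3_c5) Lrfl Lrfl
theorem f534024 : Led Lsl_ff (LP (LK LD1_c14 LD2_c10 LD3_c58)) = (LP (LK LD1_c22 LD2_c40 LD3_c5)) :=
  Lgr Lrot25 (Lpr_bt (f111316 IH) (Lpr_ft (f534015 IH) (Lpr_bt (f534007 IH) (Lpn (LP (LK LD1_c22 LD2_c40 LD3_c5))))))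
theorem f457611 : Led Lsl_dt (LP (LK LD1_c13 LD2_c22 LD3_c36)) = (LP (LK LD1_c22 LD2_c40 LD3_c5)) :=
  Lre_d IH (LK LD1_c13 LD2_c22 LD3_c36) (LK LD1_c22 LD2_c40 LD3_c5) Lrfl Lrfl
theorem f534028 : Led Lsl_ft (LP (LK LD1_c7 LD2_c30 LD3_c44)) = (LP (LK LD1_c13 LD2_c22 LD3_c36)) :=
  Lgr Lrot54 (Lpe (K34.f93204 IH) (Lpr_ff (f534024 IH) (Lpe (f457611 IH) (Lpn (LP (LK LD1_c13 LD2_c22 LD3_c36))))))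
theorem f534046 : Led Lsl_ff (LP (LK LD1_c7 LD2_c30 LD3_c44)) = (LP (LK LD1_c13 LD2_c22 LD3_c36)) :=
  Lgr Lrot3 (Lpr_ft (f534028 IH) (Lpn (LP (LK LD1_c13 LD2_c22 LD3_c36))))
theorem f93203 : Led Lsl_et (LP (LK LD1_c7 LD2_c30 LD3_c44)) = (LP (LK LD1_c3 LD2_c44 LD3_c54)) :=
  Lre_e IH (LK LD1_c7 LD2_c30 LD3_c44) (LK LD1_c3 LD2_c44 LD3_c54) Lrfl Lrfl
theorem f91975 : Led Lsl_et (LP (LK LD1_c6 LD2_c49 LD3_c26)) = (LP (LK LD1_c13 LD2_c0 LD3_c54)) :=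
  Lre_e IH (LK LD1_c6 LD2_c49 LD3_c26) (LK LD1_c13 LD2_c0 LD3_c54) Lrfl Lrfl
theorem f441300 : Led Lsl_ft (LP (LK LD1_c13 LD2_c0 LD3_c54)) = (LP (LK LD1_c22 LD2_c11 LD3_c6)) :=
  Lre_f IH (LK LD1_c13 LD2_c0 LD3_c54) (LK LD1_c22 LD2_c11 LD3_c6) Lrfl Lrfl
theorem f534050 : Led Lsl_et (LP (LK LD1_c22 LD2_c11 LD3_c6)) = (LP (LK LD1_c13 LD2_c22 LD3_c36)) :=
  Lgr Lrot69 (Lpe (f441300 IH) (Lpe (f91975 IH) (Lpr_ff (K4.f95613 IH) (Lpe (f93203 IH) (Lpr_ff (f534046 IH) (Lpn (LP (LK LD1_c13 LD2_c22 LD3_c36))))))))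
theorem f468949 : Led Lsl_bt (LP (LK LD1_c13 LD2_c22 LD3_c36)) = (LP (LK LD1_c22 LD2_c40 LD3_c4)) :=
  Lre_b IH (LK LD1_c13 LD2_c22 LD3_c36) (LK LD1_c22 LD2_c40 LD3_c4) Lrfl Lrfl
theorem f533254 : Led Lsl_et (LP (LK LD1_c22 LD2_c40 LD3_c4)) = (LP (LK LD1_c23 LD2_c28 LD3_c12)) :=
  Lgr Lrot87 (Lpr_ef (f533244 IH) (Lpn (LP (LK LD1_c23 LD2_c28 LD3_c12))))
theorem f534054 : Led Lsl_bf (LP (LK LD1_c22 LD2_c11 LD3_c6)) = (LP (LK LD1_c23 LD2_c28 LD3_c12)) :=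
  Lgr Lrot96 (Lpr_et (f534050 IH) (Lpr_bt (f468949 IH) (Lpr_et (f533254 IH) (Lpn (LP (LK LD1_c23 LD2_c28 LD3_c12))))))
theorem f534056 : Led Lsl_bt (LP (LK LD1_c22 LD2_c11 LD3_c6)) = (LP (LK LD1_c23 LD2_c28 LD3_c12)) :=
  Lgr Lrot127 (Lpr_bf (f534054 IH) (Lpn (LP (LK LD1_c23 LD2_c28 LD3_c12))))
theorem f534048 : Led Lsl_ct (LP (LK LD1_c22 LD2_c11 LD3_c6)) = (LP (LK LD1_c13 LD2_c22 LD3_c36)) :=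
  Lgr Lrot40 (Lpe (f441300 IH) (Lpr_cf (K24.f95587 IH) (Lpr_ff (f534046 IH) (Lpn (LP (LK LD1_c13 LD2_c22 LD3_c36))))))
theorem f116487 : Led Lsl_gt (LP (LK LD1_c7 LD2_c22 LD3_c53)) = (LP (LK LD1_c3 LD2_c41 LD3_c14)) :=
  Lre_g IH (LK LD1_c7 LD2_c22 LD3_c53) (LK LD1_c3 LD2_c41 LD3_c14) Lrfl Lrfl
theorem f116489 : Led Lsl_ct (LP (LK LD1_c13 LD2_c57 LD3_c22)) = (LP (LK LD1_c7 LD2_c22 LD3_c53)) :=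
  Lre_c IH (LK LD1_c13 LD2_c57 LD3_c22) (LK LD1_c7 LD2_c22 LD3_c53) Lrfl Lrfl
theorem f534074 : Led Lsl_gf (LP (LK LD1_c13 LD2_c57 LD3_c22)) = (LP (LK LD1_c23 LD2_c28 LD3_c12)) :=
  Lgr Lrot181 (Lpr_ct (f116489 IH) (Lpr_gt (f116487 IH) (Lpr_cf (K28.f116479 IH) (Lpr_bt (K28.f64668 IH) (Lpr_gt (K29.f460585 IH) (Lpe (K35.f461022 IH) (Lpr_ct (K35.f457484 IH) (Lpr_gt (K37.f457610 IH) (Lpe (f534048 IH) (Lpr_bt (f534056 IH) (Lpn (LP (LK LD1_c23 LD2_c28 LD3_c12)))))))))))))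
theorem f533078 : Led Lsl_ff (LP (LK LD1_c22 LD2_c11 LD3_c5)) = (LP (LK LD1_c23 LD2_c28 LD3_c12)) :=
  Lgr Lrot23 (Lpe (K24.f108964 IH) (Lpr_ft (K34.f533075 IH) (Lpr_ct (K37.f533077 IH) (Lpn (LP (LK LD1_c23 LD2_c28 LD3_c12))))))
theorem f534076 : Led Lsl_gt (LP (LK LD1_c13 LD2_c57 LD3_c22)) = (LP (LK LD1_c13 LD2_c19 LD3_c4)) :=
  Lgr Lrot46 (Lpr_gf (f534074 IH) (Lpe (f533078 IH) (Lpe (K4.f108957 IH) (Lpn (LP (LK LD1_c13 LD2_c19 LD3_c4))))))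
theorem f461769 : Led Lsl_ct (LP (LK LD1_c7 LD2_c22 LD3_c53)) = (LP (LK LD1_c13 LD2_c57 LD3_c22)) :=
  Lre_c IH (LK LD1_c7 LD2_c22 LD3_c53) (LK LD1_c13 LD2_c57 LD3_c22) Lrfl Lrfl
theorem f18802 : Led Lsl_bt (LP (LK LD1_c6 LD2_c59 LD3_c54)) = (LP (LK LD1_c3 LD2_c29 LD3_c9)) :=
  Lre_b IH (LK LD1_c6 LD2_c59 LD3_c54) (LK LD1_c3 LD2_c29 LD3_c9) Lrfl Lrfl
theorem f18684 : Led Lsl_at (LP (LK LD1_c6 LD2_c59 LD3_c54)) = (LP (LK LD1_c13 LD2_c16 LD3_c34)) :=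
  Lre_a IH (LK LD1_c6 LD2_c59 LD3_c54) (LK LD1_c13 LD2_c16 LD3_c34) Lrfl Lrfl
theorem f18685 : Led Lsl_cf (LP (LK LD1_c6 LD2_c59 LD3_c54)) = (LP (LK LD1_c6 LD2_c59 LD3_c54)) :=
  Lgr Lrot1 (Lpr_at (f18684 IH) (Lpr_ct (K2.f18677 IH) (Lpr_at (K8.f18670 IH) (Lpn (LP (LK LD1_c6 LD2_c59 LD3_c54))))))
theorem f92410 : Led Lsl_bt (LP (LK LD1_c14 LD2_c12 LD3_c34)) = (LP (LK LD1_c7 LD2_c32 LD3_c3)) :=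
  Lre_b IH (LK LD1_c14 LD2_c12 LD3_c34) (LK LD1_c7 LD2_c32 LD3_c3) Lrfl Lrfl
theorem f468360 : Led Lsl_cf (LP (LK LD1_c13 LD2_c16 LD3_c31)) = (LP (LK LD1_c14 LD2_c12 LD3_c34)) :=
  Lgr Lrot160 (Lpr_gt (K7.f18970 IH) (Lpr_cf (f18685 IH) (Lpr_bt (f18802 IH) (Lpr_gt (K24.f18821 IH) (Lpr_ct (K29.f18979 IH) (Lpr_gt (K29.f468356 IH) (Lpe (K4.f92355 IH) (Lpr_bt (K4.f92407 IH) (Lpr_gt (K33.f92408 IH) (Lpe (f92410 IH) (Lpn (LP (LK LD1_c14 LD2_c12 LD3_c34)))))))))))))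
theorem f468368 : Led Lsl_gf (LP (LK LD1_c13 LD2_c22 LD3_c45)) = (LP (LK LD1_c7 LD2_c32 LD3_c3)) :=
  Lgr Lrot181 (Lpe (K34.f466516 IH) (Lpr_gt (K34.f466503 IH) (Lpr_cf (K33.f466509 IH) (Lpr_bt (K33.f18731 IH) (Lpr_gt (K28.f18730 IH) (Lpe (K28.f18713 IH) (Lpe (K2.f18692 IH) (Lpr_gt (K7.f18722 IH) (Lpr_cf (f468360 IH) (Lpr_bt (f92410 IH) (Lpn (LP (LK LD1_c7 LD2_c32 LD3_c3)))))))))))))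
theorem f466307 : Led Lsl_ct (LP (LK LD1_c13 LD2_c6 LD3_c39)) = (LP (LK LD1_c13 LD2_c24 LD3_c48)) :=
  Lgr Lrot111 (Lpr_af (K28.f460995 IH) (Lpr_cf (K28.f466304 IH) (Lpe (K33.f466306 IH) (Lpn (LP (LK LD1_c13 LD2_c24 LD3_c48))))))
theorem f18724 : Led Lsl_gt (LP (LK LD1_c13 LD2_c16 LD3_c32)) = (LP (LK LD1_c6 LD2_c59 LD3_c48)) :=
  Lre_g IH (LK LD1_c13 LD2_c16 LD3_c32) (LK LD1_c6 LD2_c59 LD3_c48) Lrfl Lrfl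
theorem f18803 : Led Lsl_bt (LP (LK LD1_c3 LD2_c29 LD3_c9)) = (LP (LK LD1_c6 LD2_c59 LD3_c54)) :=
  Lre_b IH (LK LD1_c3 LD2_c29 LD3_c9) (LK LD1_c6 LD2_c59 LD3_c54) Lrfl Lrfl
theorem f18969 : Led Lsl_gt (LP (LK LD1_c6 LD2_c59 LD3_c54)) = (LP (LK LD1_c13 LD2_c16 LD3_c32)) :=
  Lre_g IH (LK LD1_c6 LD2_c59 LD3_c54) (LK LD1_c13 LD2_c16 LD3_c32) Lrfl Lrfl
theorem f461579 : Led Lsl_bt (LP (LK LD1_c13 LD2_c57 LD3_c22)) = (LP (LK LD1_c13 LD2_c16 LD3_c32)) :=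
  Lgr Lrot92 (Lpr_ct (f116489 IH) (Lpr_gt (f116487 IH) (Lpr_cf (K28.f116479 IH) (Lpr_bt (K28.f64668 IH) (Lpr_gt (K29.f460585 IH) (Lpr_ct (K24.f455538 IH) (Lpr_gt (K24.f18823 IH) (Lpe (K28.f18801 IH) (Lpr_bt (f18803 IH) (Lpr_gt (f18969 IH) (Lpn (LP (LK LD1_c13 LD2_c16 LD3_c32)))))))))))))
theorem f468370 : Led Lsl_gt (LP (LK LD1_c13 LD2_c24 LD3_c48)) = (LP (LK LD1_c7 LD2_c22 LD3_c53)) :=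
  Lgr Lrot65 (Lpe (f466307 IH) (Lpr_bt (K29.f460973 IH) (Lpr_gf (f468368 IH) (Lpe (f92410 IH) (Lpe (f468360 IH) (Lpe (K7.f18722 IH) (Lpr_cf (K2.f18692 IH) (Lpe (f18724 IH) (Lpe (f461579 IH) (Lpr_ct (f116489 IH) (Lpn (LP (LK LD1_c7 LD2_c22 LD3_c53)))))))))))))
theorem f103639 : Led Lsl_dt (LP (LK LD1_c22 LD2_c17 LD3_c43)) = (LP (LK LD1_c13 LD2_c6 LD3_c18)) :=
  Lre_d IH (LK LD1_c22 LD2_c17 LD3_c43) (LK LD1_c13 LD2_c6 LD3_c18) Lrfl Lrfl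
theorem f436396 : Led Lsl_bt (LP (LK LD1_c13 LD2_c6 LD3_c18)) = (LP (LK LD1_c13 LD2_c54 LD3_c27)) :=
  Lgr Lrot95 (Lpe (f103639 IH) (Lpr_bf (K35.f436390 IH) (Lpe (K35.f436380 IH) (Lpn (LP (LK LD1_c13 LD2_c54 LD3_c27))))))
theorem f534078 : Led Lsl_gf (LP (LK LD1_c23 LD2_c3 LD3_c21)) = (LP (LK LD1_c13 LD2_c54 LD3_c27)) :=
  Lgr Lrot124 (Lpe (K37.f116266 IH) (Lpr_ct (K37.f116265 IH) (Lpr_gt (K37.f466532 IH) (Lpe (K37.f469257 IH) (Lpr_bt (K28.f469378 IH) (Lpr_gt (f468370 IH) (Lpr_ct (f461769 IH) (Lpr_gt (f534076 IH) (Lpr_cf (K4.f103632 IH) (Lpr_bt (f436396 IH) (Lpn (LP (LK LD1_c13 LD2_c54 LD3_c27)))))))))))))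
theorem f533090 : Led Lsl_ff (LP (LK LD1_c22 LD2_c42 LD3_c56)) = (LP (LK LD1_c13 LD2_c54 LD3_c27)) :=
  Lgr Lrot25 (Lpe (K34.f489441 IH) (Lpr_ft (K34.f533088 IH) (Lpr_bt (f436396 IH) (Lpn (LP (LK LD1_c13 LD2_c54 LD3_c27))))))
theorem f534080 : Led Lsl_af (LP (LK LD1_c22 LD2_c44 LD3_c14)) = (LP (LK LD1_c22 LD2_c42 LD3_c56)) :=
  Lgr Lrot31 (Lpe (K37.f473491 IH) (Lpr_gf (f534078 IH) (Lpe (f533090 IH) (Lpn (LP (LK LD1_c22 LD2_c42 LD3_c56))))))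
theorem f534082 : Led Lsl_at (LP (LK LD1_c22 LD2_c44 LD3_c14)) = (LP (LK LD1_c22 LD2_c42 LD3_c56)) :=
  Lgr Lrot100 (Lpr_af (f534080 IH) (Lpn (LP (LK LD1_c22 LD2_c42 LD3_c56))))
theorem f543641 : Led Lsl_gt (LP (LK LD1_c21 LD2_c14 LD3_c29)) = (LP (LK LD1_c22 LD2_c42 LD3_c56)) :=
  Lgr Lrot46 (Lpr_gf (K37.f543639 IH) (Lpr_ft (f532981 IH) (Lpr_at (f534082 IH) (Lpn (LP (LK LD1_c22 LD2_c42 LD3_c56))))))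
theorem f533321 : Led Lsl_gt (LP (LK LD1_c23 LD2_c37 LD3_c6)) = (LP (LK LD1_c31 LD2_c7 LD3_c49)) :=
  Lre_g IH (LK LD1_c23 LD2_c37 LD3_c6) (LK LD1_c31 LD2_c7 LD3_c49) Lrfl Lrfl
theorem f533705 : Led Lsl_gt (LP (LK LD1_c31 LD2_c7 LD3_c49)) = (LP (LK LD1_c30 LD2_c40 LD3_c10)) :=
  Lgr Lrot46 (Lpe (f533321 IH) (Lpe (K37.f533703 IH) (Lpr_at (K37.f533695 IH) (Lpn (LP (LK LD1_c30 LD2_c40 LD3_c10))))))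
theorem f436394 : Led Lsl_gt (LP (LK LD1_c23 LD2_c24 LD3_c35)) = (LP (LK LD1_c31 LD2_c1 LD3_c59)) :=
  Lre_g IH (LK LD1_c23 LD2_c24 LD3_c35) (LK LD1_c31 LD2_c1 LD3_c59) Lrfl Lrfl
theorem f543656 : Led Lsl_cf (LP (LK LD1_c31 LD2_c7 LD3_c49)) = (LP (LK LD1_c31 LD2_c1 LD3_c59)) :=
  Lgr Lrot169 (Lpr_gt (f533705 IH) (Lpr_ct (K37.f469860 IH) (Lpe (K34.f459209 IH) (Lpe (K34.f459323 IH) (Lpe (f543641 IH) (Lpr_cf (f543648 IH) (Lpr_gf (f534078 IH) (Lpe (K35.f436371 IH) (Lpr_gt (f436394 IH) (Lpn (LP (LK LD1_c31 LD2_c1 LD3_c59))))))))))))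
theorem f459210 : Led Lsl_ct (LP (LK LD1_c22 LD2_c42 LD3_c57)) = (LP (LK LD1_c30 LD2_c40 LD3_c10)) :=
  Lre_c IH (LK LD1_c22 LD2_c42 LD3_c57) (LK LD1_c30 LD2_c40 LD3_c10) Lrfl Lrfl
theorem f460855 : Led Lsl_bt (LP (LK LD1_c6 LD2_c58 LD3_c45)) = (LP (LK LD1_c13 LD2_c14 LD3_c58)) :=
  Lre_b IH (LK LD1_c6 LD2_c58 LD3_c45) (LK LD1_c13 LD2_c14 LD3_c58) Lrfl Lrfl
theorem f129744 : Led Lsl_bt (LP (LK LD1_c7 LD2_c3 LD3_c59)) = (LP (LK LD1_c3 LD2_c30 LD3_c61)) :=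
  Lre_b IH (LK LD1_c7 LD2_c3 LD3_c59) (LK LD1_c3 LD2_c30 LD3_c61) Lrfl Lrfl
theorem f91873 : Led Lsl_bt (LP (LK LD1_c6 LD2_c57 LD3_c8)) = (LP (LK LD1_c13 LD2_c12 LD3_c6)) :=
  Lre_b IH (LK LD1_c6 LD2_c57 LD3_c8) (LK LD1_c13 LD2_c12 LD3_c6) Lrfl Lrfl
theorem f129698 : Led Lsl_bt (LP (LK LD1_c13 LD2_c17 LD3_c19)) = (LP (LK LD1_c7 LD2_c0 LD3_c14)) :=
  Lre_b IH (LK LD1_c13 LD2_c17 LD3_c19) (LK LD1_c7 LD2_c0 LD3_c14) Lrfl Lrfl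
theorem f457444 : Led Lsl_ct (LP (LK LD1_c13 LD2_c12 LD3_c6)) = (LP (LK LD1_c13 LD2_c17 LD3_c19)) :=
  Lgr Lrot83 (Lpe (f91873 IH) (Lpr_cf (K29.f457441 IH) (Lpe (K28.f129691 IH) (Lpe (K33.f129683 IH) (Lpe (f129698 IH) (Lpn (LP (LK LD1_c13 LD2_c17 LD3_c19))))))))
theorem f90923 : Led Lsl_bt (LP (LK LD1_c7 LD2_c1 LD3_c53)) = (LP (LK LD1_c13 LD2_c20 LD3_c10)) :=
  Lre_b IH (LK LD1_c7 LD2_c1 LD3_c53) (LK LD1_c13 LD2_c20 LD3_c10) Lrfl Lrfl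
theorem f90924 : Led Lsl_bt (LP (LK LD1_c13 LD2_c12 LD3_c6)) = (LP (LK LD1_c6 LD2_c57 LD3_c8)) :=
  Lre_b IH (LK LD1_c13 LD2_c12 LD3_c6) (LK LD1_c6 LD2_c57 LD3_c8) Lrfl Lrfl
theorem f90925 : Led Lsl_et (LP (LK LD1_c13 LD2_c20 LD3_c10)) = (LP (LK LD1_c13 LD2_c12 LD3_c6)) :=
  Lgr Lrot74 (Lpe (f90923 IH) (Lpr_ef (K2.f90921 IH) (Lpe (f90924 IH) (Lpn (LP (LK LD1_c13 LD2_c12 LD3_c6))))))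
theorem f18606 : Led Lsl_bt (LP (LK LD1_c3 LD2_c30 LD3_c61)) = (LP (LK LD1_c7 LD2_c3 LD3_c59)) :=
  Lre_b IH (LK LD1_c3 LD2_c30 LD3_c61) (LK LD1_c7 LD2_c3 LD3_c59) Lrfl Lrfl
theorem f129699 : Led Lsl_et (LP (LK LD1_c7 LD2_c3 LD3_c59)) = (LP (LK LD1_c13 LD2_c17 LD3_c19)) :=
  Lgr Lrot74 (Lpe (f18606 IH) (Lpr_ef (K24.f129695 IH) (Lpe (f129698 IH) (Lpn (LP (LK LD1_c13 LD2_c17 LD3_c19))))))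
theorem f129739 : Led Lsl_ef (LP (LK LD1_c7 LD2_c3 LD3_c59)) = (LP (LK LD1_c13 LD2_c17 LD3_c19)) :=
  Lgr Lrot88 (Lpr_et (f129699 IH) (Lpn (LP (LK LD1_c13 LD2_c17 LD3_c19))))
theorem f457447 : Led Lsl_cf (LP (LK LD1_c13 LD2_c20 LD3_c10)) = (LP (LK LD1_c7 LD2_c3 LD3_c59)) :=
  Lgr Lrot39 (Lpr_et (f90925 IH) (Lpr_ct (f457444 IH) (Lpe (f129739 IH) (Lpn (LP (LK LD1_c7 LD2_c3 LD3_c59))))))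
theorem f533528 : Led Lsl_gf (LP (LK LD1_c13 LD2_c20 LD3_c10)) = (LP (LK LD1_c7 LD2_c30 LD3_c45)) :=
  Lgr Lrot126 (Lpr_cf (f457447 IH) (Lpr_bt (f129744 IH) (Lpe (K28.f460707 IH) (Lpe (K4.f17816 IH) (Lpr_gt (K28.f130755 IH) (Lpr_cf (K28.f460850 IH) (Lpr_bt (f460855 IH) (Lpr_gt (K35.f533523 IH) (Lpe (K4.f111169 IH) (Lpe (K34.f111319 IH) (Lpn (LP (LK LD1_c7 LD2_c30 LD3_c45)))))))))))))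
theorem f457435 : Led Lsl_ct (LP (LK LD1_c7 LD2_c1 LD3_c53)) = (LP (LK LD1_c3 LD2_c30 LD3_c60)) :=
  Lgr Lrot59 (Lpr_cf (K28.f457431 IH) (Lpn (LP (LK LD1_c3 LD2_c30 LD3_c60))))
theorem f464374 : Led Lsl_ct (LP (LK LD1_c7 LD2_c4 LD3_c15)) = (LP (LK LD1_c3 LD2_c40 LD3_c61)) :=
  Lgr Lrot59 (Lpr_cf (K28.f464368 IH) (Lpn (LP (LK LD1_c3 LD2_c40 LD3_c61))))
theorem f116492 : Led Lsl_bt (LP (LK LD1_c13 LD2_c57 LD3_c21)) = (LP (LK LD1_c7 LD2_c22 LD3_c53)) :=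
  Lre_b IH (LK LD1_c13 LD2_c57 LD3_c21) (LK LD1_c7 LD2_c22 LD3_c53) Lrfl Lrfl
theorem f121890 : Led Lsl_gt (LP (LK LD1_c22 LD2_c34 LD3_c8)) = (LP (LK LD1_c13 LD2_c18 LD3_c10)) :=
  Lre_g IH (LK LD1_c22 LD2_c34 LD3_c8) (LK LD1_c13 LD2_c18 LD3_c10) Lrfl Lrfl
theorem f489413 : Led Lsl_ct (LP (LK LD1_c13 LD2_c57 LD3_c21)) = (LP (LK LD1_c22 LD2_c34 LD3_c8)) :=
  Lgr Lrot64 (Lpr_bt (f116492 IH) (Lpe (f468370 IH) (Lpe (K28.f469378 IH) (Lpr_ct (K37.f469257 IH) (Lpe (K37.f466532 IH) (Lpe (K37.f116265 IH) (Lpr_gf (K37.f489388 IH) (Lpe (K28.f209116 IH) (Lpr_ct (K35.f122069 IH) (Lpe (f121890 IH) (Lpn (LP (LK LD1_c22 LD2_c34 LD3_c8)))))))))))))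
theorem f489419 : Led Lsl_gt (LP (LK LD1_c13 LD2_c24 LD3_c16)) = (LP (LK LD1_c22 LD2_c34 LD3_c8)) :=
  Lgr Lrot65 (Lpr_cf (K35.f469789 IH) (Lpr_bt (K28.f209154 IH) (Lpr_gf (K28.f209165 IH) (Lpe (K28.f209167 IH) (Lpe (K28.f464338 IH) (Lpe (K28.f64826 IH) (Lpe (K28.f116470 IH) (Lpe (f116487 IH) (Lpe (f116492 IH) (Lpr_ct (f489413 IH) (Lpn (LP (LK LD1_c22 LD2_c34 LD3_c8)))))))))))))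
theorem f489415 : Led Lsl_cf (LP (LK LD1_c13 LD2_c57 LD3_c21)) = (LP (LK LD1_c22 LD2_c34 LD3_c8)) :=
  Lgr Lrot11 (Lpr_ct (f489413 IH) (Lpn (LP (LK LD1_c22 LD2_c34 LD3_c8))))
theorem f535032 : Led Lsl_gt (LP (LK LD1_c13 LD2_c57 LD3_c21)) = (LP (LK LD1_c21 LD2_c41 LD3_c12)) :=
  Lgr Lrot149 (Lpr_cf (f489415 IH) (Lpe (f489419 IH) (Lpe (K28.f98764 IH) (Lpr_ct (f464374 IH) (Lpr_gf (K28.f463578 IH) (Lpe (f457435 IH) (Lpr_bt (f90923 IH) (Lpr_gf (f533528 IH) (Lpe (K4.f111086 IH) (Lpr_ct (K4.f111096 IH) (Lpn (LP (LK LD1_c21 LD2_c41 LD3_c12)))))))))))))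
theorem f111104 : Led Lsl_af (LP (LK LD1_c21 LD2_c41 LD3_c12)) = (LP (LK LD1_c13 LD2_c19 LD3_c6)) :=
  Lgr Lrot0 (Lpr_at (K4.f111100 IH) (Lpn (LP (LK LD1_c13 LD2_c19 LD3_c6))))
theorem f535034 : Led Lsl_gf (LP (LK LD1_c13 LD2_c57 LD3_c21)) = (LP (LK LD1_c22 LD2_c32 LD3_c35)) :=
  Lgr Lrot47 (Lpr_gt (f535032 IH) (Lpr_af (f111104 IH) (Lpr_ff (K34.f533373 IH) (Lpn (LP (LK LD1_c22 LD2_c32 LD3_c35))))))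
theorem f122084 : Led Lsl_ct (LP (LK LD1_c23 LD2_c27 LD3_c24)) = (LP (LK LD1_c13 LD2_c56 LD3_c17)) :=
  Lre_c IH (LK LD1_c23 LD2_c27 LD3_c24) (LK LD1_c13 LD2_c56 LD3_c17) Lrfl Lrfl
theorem f209141 : Led Lsl_gt (LP (LK LD1_c31 LD2_c3 LD3_c47)) = (LP (LK LD1_c23 LD2_c27 LD3_c24)) :=
  Lre_g IH (LK LD1_c31 LD2_c3 LD3_c47) (LK LD1_c23 LD2_c27 LD3_c24) Lrfl Lrfl
theorem f116494 : Led Lsl_ct (LP (LK LD1_c7 LD2_c22 LD3_c54)) = (LP (LK LD1_c13 LD2_c57 LD3_c27)) :=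
  Lre_c IH (LK LD1_c7 LD2_c22 LD3_c54) (LK LD1_c13 LD2_c57 LD3_c27) Lrfl Lrfl
theorem f462881 : Led Lsl_gt (LP (LK LD1_c13 LD2_c57 LD3_c27)) = (LP (LK LD1_c23 LD2_c29 LD3_c19)) :=
  Lre_g IH (LK LD1_c13 LD2_c57 LD3_c27) (LK LD1_c23 LD2_c29 LD3_c19) Lrfl Lrfl
theorem f469328 : Led Lsl_ct (LP (LK LD1_c14 LD2_c5 LD3_c46)) = (LP (LK LD1_c23 LD2_c29 LD3_c19)) :=
  Lgr Lrot10 (Lpr_bt (K35.f131776 IH) (Lpe (K34.f131774 IH) (Lpr_ct (K34.f131756 IH) (Lpr_gt (K34.f131932 IH) (Lpe (K33.f464336 IH) (Lpr_bt (K33.f469319 IH) (Lpr_gt (K28.f462873 IH) (Lpe (K4.f116291 IH) (Lpr_ct (f116494 IH) (Lpr_gt (f462881 IH) (Lpn (LP (LK LD1_c23 LD2_c29 LD3_c19)))))))))))))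
theorem f131777 : Led Lsl_bt (LP (LK LD1_c13 LD2_c56 LD3_c28)) = (LP (LK LD1_c7 LD2_c22 LD3_c36)) :=
  Lre_b IH (LK LD1_c13 LD2_c56 LD3_c28) (LK LD1_c7 LD2_c22 LD3_c36) Lrfl Lrfl
theorem f131779 : Led Lsl_gt (LP (LK LD1_c23 LD2_c27 LD3_c40)) = (LP (LK LD1_c31 LD2_c3 LD3_c47)) :=
  Lre_g IH (LK LD1_c23 LD2_c27 LD3_c40) (LK LD1_c31 LD2_c3 LD3_c47) Lrfl Lrfl
theorem f116486 : Led Lsl_gt (LP (LK LD1_c13 LD2_c57 LD3_c26)) = (LP (LK LD1_c7 LD2_c22 LD3_c54)) :=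
  Lre_g IH (LK LD1_c13 LD2_c57 LD3_c26) (LK LD1_c7 LD2_c22 LD3_c54) Lrfl Lrfl
theorem f116491 : Led Lsl_bt (LP (LK LD1_c23 LD2_c29 LD3_c17)) = (LP (LK LD1_c13 LD2_c57 LD3_c26)) :=
  Lre_b IH (LK LD1_c23 LD2_c29 LD3_c17) (LK LD1_c13 LD2_c57 LD3_c26) Lrfl Lrfl
theorem f469335 : Led Lsl_cf (LP (LK LD1_c31 LD2_c3 LD3_c47)) = (LP (LK LD1_c23 LD2_c29 LD3_c17)) :=
  Lgr Lrot58 (Lpe (f131779 IH) (Lpe (K34.f131778 IH) (Lpr_bt (f131777 IH) (Lpr_gf (K34.f131774 IH) (Lpe (K35.f131776 IH) (Lpr_ct (f469328 IH) (Lpe (f462881 IH) (Lpe (f116494 IH) (Lpe (f116486 IH) (Lpe (f116491 IH) (Lpn (LP (LK LD1_c23 LD2_c29 LD3_c17)))))))))))))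
theorem f535037 : Led Lsl_gf (LP (LK LD1_c23 LD2_c29 LD3_c17)) = (LP (LK LD1_c30 LD2_c34 LD3_c2)) :=
  Lgr Lrot147 (Lpe (f469335 IH) (Lpr_gt (f209141 IH) (Lpr_ct (f122084 IH) (Lpe (K34.f122076 IH) (Lpr_cf (K34.f122047 IH) (Lpe (f121890 IH) (Lpe (f489413 IH) (Lpr_gf (f535034 IH) (Lpe (K34.f469855 IH) (Lpn (LP (LK LD1_c30 LD2_c34 LD3_c2))))))))))))
theorem f208949 : Led Lsl_gt (LP (LK LD1_c14 LD2_c5 LD3_c11)) = (LP (LK LD1_c23 LD2_c38 LD3_c22)) :=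
  Lre_g IH (LK LD1_c14 LD2_c5 LD3_c11) (LK LD1_c23 LD2_c38 LD3_c22) Lrfl Lrfl
theorem f543660 : Led Lsl_bf (LP (LK LD1_c23 LD2_c38 LD3_c22)) = (LP (LK LD1_c31 LD2_c1 LD3_c59)) :=
  Lgr Lrot34 (Lpe (f208949 IH) (Lpe (K37.f209129 IH) (Lpr_ct (K34.f209139 IH) (Lpe (f209141 IH) (Lpr_cf (f469335 IH) (Lpr_gf (f535037 IH) (Lpe (K34.f469856 IH) (Lpr_ct (f459210 IH) (Lpe (f533705 IH) (Lpr_cf (f543656 IH) (Lpn (LP (LK LD1_c31 LD2_c1 LD3_c59)))))))))))))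
theorem f543662 : Led Lsl_bt (LP (LK LD1_c23 LD2_c38 LD3_c22)) = (LP (LK LD1_c31 LD2_c1 LD3_c59)) :=
  Lgr Lrot127 (Lpr_bf (f543660 IH) (Lpn (LP (LK LD1_c31 LD2_c1 LD3_c59))))
theorem f533606 : Led Lsl_ft (LP (LK LD1_c31 LD2_c1 LD3_c60)) = (LP (LK LD1_c31 LD2_c5 LD3_c9)) :=
  Lgr Lrot2 (Lpr_gt (K35.f533602 IH) (Lpr_gt (K34.f471688 IH) (Lpe (K34.f533308 IH) (Lpn (LP (LK LD1_c31 LD2_c5 LD3_c9))))))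
theorem f533614 : Led Lsl_ff (LP (LK LD1_c31 LD2_c1 LD3_c60)) = (LP (LK LD1_c31 LD2_c5 LD3_c9)) :=
  Lgr Lrot3 (Lpr_ft (f533606 IH) (Lpn (LP (LK LD1_c31 LD2_c5 LD3_c9))))
theorem f533618 : Led Lsl_ft (LP (LK LD1_c23 LD2_c24 LD3_c35)) = (LP (LK LD1_c30 LD2_c40 LD3_c9)) :=
  Lgr Lrot4 (Lpe (K35.f436372 IH) (Lpr_ff (f533614 IH) (Lpr_cf (K34.f533306 IH) (Lpn (LP (LK LD1_c30 LD2_c40 LD3_c9))))))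
theorem f533336 : Led Lsl_at (LP (LK LD1_c30 LD2_c40 LD3_c9)) = (LP (LK LD1_c30 LD2_c41 LD3_c22)) :=
  Lgr Lrot107 (Lpe (K34.f533313 IH) (Lpr_af (K34.f533334 IH) (Lpr_cf (K34.f492847 IH) (Lpn (LP (LK LD1_c30 LD2_c41 LD3_c22))))))
theorem f533620 : Led Lsl_gt (LP (LK LD1_c31 LD2_c1 LD3_c59)) = (LP (LK LD1_c30 LD2_c41 LD3_c22)) :=
  Lgr Lrot46 (Lpe (f436394 IH) (Lpr_ft (f533618 IH) (Lpr_at (f533336 IH) (Lpn (LP (LK LD1_c30 LD2_c41 LD3_c22))))))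
theorem f116176 : Led Lsl_gt (LP (LK LD1_c14 LD2_c7 LD3_c29)) = (LP (LK LD1_c7 LD2_c28 LD3_c57)) :=
  Lre_g IH (LK LD1_c14 LD2_c7 LD3_c29) (LK LD1_c7 LD2_c28 LD3_c57) Lrfl Lrfl
theorem f209135 : Led Lsl_bt (LP (LK LD1_c7 LD2_c27 LD3_c49)) = (LP (LK LD1_c3 LD2_c43 LD3_c41)) :=
  Lre_b IH (LK LD1_c7 LD2_c27 LD3_c49) (LK LD1_c3 LD2_c43 LD3_c41) Lrfl Lrfl
theorem f439577 : Led Lsl_gt (LP (LK LD1_c23 LD2_c38 LD3_c40)) = (LP (LK LD1_c14 LD2_c5 LD3_c24)) :=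
  Lre_g IH (LK LD1_c23 LD2_c38 LD3_c40) (LK LD1_c14 LD2_c5 LD3_c24) Lrfl Lrfl
theorem f469425 : Led Lsl_gt (LP (LK LD1_c22 LD2_c44 LD3_c29)) = (LP (LK LD1_c14 LD2_c7 LD3_c29)) :=
  Lgr Lrot5 (Lpr_ft (K34.f469380 IH) (Lpr_at (K34.f116437 IH) (Lpe (f116176 IH) (Lpn (LP (LK LD1_c14 LD2_c7 LD3_c29))))))
theorem f439576 : Led Lsl_ct (LP (LK LD1_c14 LD2_c5 LD3_c24)) = (LP (LK LD1_c7 LD2_c27 LD3_c49)) :=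
  Lre_c IH (LK LD1_c14 LD2_c5 LD3_c24) (LK LD1_c7 LD2_c27 LD3_c49) Lrfl Lrfl
theorem f469427 : Led Lsl_cf (LP (LK LD1_c23 LD2_c38 LD3_c40)) = (LP (LK LD1_c14 LD2_c7 LD3_c29)) :=
  Lgr Lrot169 (Lpr_gt (f439577 IH) (Lpr_ct (f439576 IH) (Lpe (K33.f159664 IH) (Lpe (f439546 IH) (Lpe (K34.f439556 IH) (Lpe (K34.f469397 IH) (Lpe (K34.f469371 IH) (Lpe (K28.f469363 IH) (Lpr_gt (f469425 IH) (Lpn (LP (LK LD1_c14 LD2_c7 LD3_c29))))))))))))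
theorem f489631 : Led Lsl_bt (LP (LK LD1_c14 LD2_c7 LD3_c29)) = (LP (LK LD1_c23 LD2_c40 LD3_c49)) :=
  Lgr Lrot92 (Lpe (f469427 IH) (Lpr_gt (f439577 IH) (Lpe (f439567 IH) (Lpr_bt (f209135 IH) (Lpr_gt (K34.f131773 IH) (Lpr_ct (K34.f489623 IH) (Lpr_gt (K34.f147119 IH) (Lpe (K34.f130745 IH) (Lpr_bt (K34.f144717 IH) (Lpr_gt (K34.f144714 IH) (Lpn (LP (LK LD1_c23 LD2_c40 LD3_c49)))))))))))))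
theorem f489633 : Led Lsl_bf (LP (LK LD1_c14 LD2_c7 LD3_c29)) = (LP (LK LD1_c23 LD2_c40 LD3_c49)) :=
  Lgr Lrot24 (Lpr_bt (f489631 IH) (Lpn (LP (LK LD1_c23 LD2_c40 LD3_c49))))
theorem f492845 : Led Lsl_gf (LP (LK LD1_c31 LD2_c10 LD3_c37)) = (LP (LK LD1_c31 LD2_c3 LD3_c25)) :=
  Lgr Lrot129 (Lpe (K34.f144706 IH) (Lpe (f489633 IH) (Lpr_gt (f116176 IH) (Lpe (K4.f116293 IH) (Lpr_ct (K28.f116141 IH) (Lpe (K33.f469975 IH) (Lpe (K33.f469620 IH) (Lpr_bt (K34.f469629 IH) (Lpr_gt (K34.f492843 IH) (Lpr_ct (K34.f473485 IH) (Lpn (LP (LK LD1_c31 LD2_c3 LD3_c25)))))))))))))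
theorem f463240 : Led Lsl_gt (LP (LK LD1_c14 LD2_c7 LD3_c30)) = (LP (LK LD1_c23 LD2_c41 LD3_c57)) :=
  Lre_g IH (LK LD1_c14 LD2_c7 LD3_c30) (LK LD1_c23 LD2_c41 LD3_c57) Lrfl Lrfl
theorem f543670 : Led Lsl_ct (LP (LK LD1_c23 LD2_c38 LD3_c22)) = (LP (LK LD1_c23 LD2_c41 LD3_c57)) :=
  Lgr Lrot63 (Lpr_bt (f543662 IH) (Lpr_gt (f533620 IH) (Lpe (K34.f473479 IH) (Lpr_ct (K34.f473485 IH) (Lpe (f492845 IH) (Lpe (K34.f144706 IH) (Lpe (f489633 IH) (Lpr_gt (f116176 IH) (Lpr_ct (K36.f116165 IH) (Lpr_gt (f463240 IH) (Lpn (LP (LK LD1_c23 LD2_c41 LD3_c57)))))))))))))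
theorem f543673 : Led Lsl_cf (LP (LK LD1_c23 LD2_c38 LD3_c22)) = (LP (LK LD1_c23 LD2_c41 LD3_c57)) :=
  Lgr Lrot11 (Lpr_ct (f543670 IH) (Lpn (LP (LK LD1_c23 LD2_c41 LD3_c57))))
theorem f116166 : Led Lsl_dt (LP (LK LD1_c14 LD2_c7 LD3_c30)) = (LP (LK LD1_c23 LD2_c41 LD3_c60)) :=
  Lre_d IH (LK LD1_c14 LD2_c7 LD3_c30) (LK LD1_c23 LD2_c41 LD3_c60) Lrfl Lrfl
theorem f560493 : Led Lsl_gf (LP (LK LD1_c31 LD2_c2 LD3_c60)) = (LP (LK LD1_c23 LD2_c41 LD3_c60)) :=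
  Lgr Lrot179 (Lpr_ct (f560248 IH) (Lpr_gt (f560247 IH) (Lpr_ct (f560245 IH) (Lpr_dt (f560482 IH) (Lpe (K37.f439164 IH) (Lpe (f439564 IH) (Lpr_cf (f543673 IH) (Lpe (f463240 IH) (Lpr_dt (f116166 IH) (Lpn (LP (LK LD1_c23 LD2_c41 LD3_c60))))))))))))
theorem f116181 : Led Lsl_gt (LP (LK LD1_c23 LD2_c41 LD3_c58)) = (LP (LK LD1_c14 LD2_c7 LD3_c30)) :=
  Lre_g IH (LK LD1_c23 LD2_c41 LD3_c58) (LK LD1_c14 LD2_c7 LD3_c30) Lrfl Lrfl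
def v1772 : LQ := Led Lsl_ft (LP (LK LD1_c1 LD2_c26 LD3_c3))
theorem f502797 : Led Lsl_ft (LP (LK LD1_c1 LD2_c26 LD3_c3)) = v1772 :=
  Lrfl
theorem f502798 : Led Lsl_ff (LP (LK LD1_c1 LD2_c26 LD3_c3)) = v1772 :=
  Lgr Lrot3 (Lpr_ft (f502797 IH) (Lpn v1772))
theorem f502820 : Led Lsl_at (LP (LK LD1_c2 LD2_c14 LD3_c20)) = K36.v1776 :=
  Lgr Lrot80 (Lpr_ef (K37.f242710 IH) (Lpe (K27.f211948 IH) (Lpr_ef (K36.f502819 IH) (Lpn K36.v1776))))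
theorem f302647 : Led Lsl_ff (LP (LK LD1_c2 LD2_c14 LD3_c20)) = (LP (LK LD1_c1 LD2_c21 LD3_c49)) :=
  Lgr Lrot72 (Lpr_et (K36.f242663 IH) (Lpr_ft (K17.f289369 IH) (Lpe (K18.f185115 IH) (Lpr_ft (K27.f302639 IH) (Lpe (K11.f22191 IH) (Lpn (LP (LK LD1_c1 LD2_c21 LD3_c49))))))))
def v1575 : LQ := Led Lsl_gt (LP (LK LD1_c1 LD2_c21 LD3_c49))
theorem f500165 : Led Lsl_gt (LP (LK LD1_c1 LD2_c21 LD3_c49)) = v1575 :=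
  Lrfl
theorem f502822 : Led Lsl_gt v1575 = K36.v1776 :=
  Lgr Lrot46 (Lpe (f500165 IH) (Lpe (f302647 IH) (Lpr_at (f502820 IH) (Lpn K36.v1776))))
theorem f76136 : Led Lsl_et (LP (LK LD1_c1 LD2_c26 LD3_c7)) = (LP (LK LD1_c0 LD2_c39 LD3_c45)) :=
  Lre_e IH (LK LD1_c1 LD2_c26 LD3_c7) (LK LD1_c0 LD2_c39 LD3_c45) Lrfl Lrfl
theorem f502800 : Led Lsl_af (LP (LK LD1_c1 LD2_c26 LD3_c7)) = K37.v1773 :=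
  Lgr Lrot50 (Lpr_et (f76136 IH) (Lpr_at (K37.f75038 IH) (Lpr_et (K37.f502799 IH) (Lpn K37.v1773))))
theorem f502823 : Led Lsl_ft v1575 = K37.v1773 :=
  Lgr Lrot2 (Lpr_gt (f502822 IH) (Lpe (K36.f502815 IH) (Lpr_af (f502800 IH) (Lpn K37.v1773))))
theorem f502825 : Led Lsl_ff v1575 = K37.v1773 :=
  Lgr Lrot3 (Lpr_ft (f502823 IH) (Lpn K37.v1773))
theorem f502826 : Led Lsl_et v1575 = v1772 :=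
  Lgr Lrot69 (Lpr_ff (f502825 IH) (Lpe (K37.f502799 IH) (Lpe (K37.f75536 IH) (Lpe (K32.f75530 IH) (Lpr_ff (f502798 IH) (Lpn v1772))))))
theorem f75851 : Led Lsl_et (LP (LK LD1_c1 LD2_c26 LD3_c1)) = (LP (LK LD1_c3 LD2_c0 LD3_c31)) :=
  Lre_e IH (LK LD1_c1 LD2_c26 LD3_c1) (LK LD1_c3 LD2_c0 LD3_c31) Lrfl Lrfl
theorem f537854 : (LP (LK LD1_c1 LD2_c26 LD3_c1)) = v1575 :=
  Lefun (Lecon (Lfl_gf (K32.f502766 IH)) (K36.f537689 IH)) (f500165 IH)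
theorem f538027 : v1772 = (LP (LK LD1_c3 LD2_c0 LD3_c31)) :=
  Lefun (Lecon (f502826 IH) (f537854 IH).symm) (f75851 IH)
def v1769 : LQ := Led Lsl_et (LP (LK LD1_c1 LD2_c26 LD3_c2))
theorem f502780 : Led Lsl_et (LP (LK LD1_c1 LD2_c26 LD3_c2)) = v1769 :=
  Lrfl
theorem f501359 : Led Lsl_af (LP (LK LD1_c1 LD2_c26 LD3_c2)) = (LP (LK LD1_c1 LD2_c26 LD3_c1)) :=
  Lgr Lrot0 (Lpr_at (K32.f501357 IH) (Lpn (LP (LK LD1_c1 LD2_c26 LD3_c1))))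
theorem f502781 : Led Lsl_af (LP (LK LD1_c3 LD2_c0 LD3_c31)) = v1769 :=
  Lgr Lrot50 (Lpr_et (K32.f75840 IH) (Lpe (f501359 IH) (Lpr_et (f502780 IH) (Lpn v1769))))
theorem f502626 : Led Lsl_at (LP (LK LD1_c1 LD2_c26 LD3_c3)) = (LP (LK LD1_c3 LD2_c0 LD3_c30)) :=
  Lre_a IH (LK LD1_c1 LD2_c26 LD3_c3) (LK LD1_c3 LD2_c0 LD3_c30) Lrfl Lrfl
theorem f558698 : Led Lsl_ff v1769 = (LP (LK LD1_c3 LD2_c0 LD3_c30)) :=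
  Lgr Lrot30 (Lpe (f502781 IH) (Lpq (f538027 IH) (Lpe (f502798 IH) (Lpr_at (f502626 IH) (Lpn (LP (LK LD1_c3 LD2_c0 LD3_c30)))))))
theorem f24465 : Led Lsl_bt (LP (LK LD1_c2 LD2_c54 LD3_c61)) = (LP (LK LD1_c1 LD2_c23 LD3_c25)) :=
  Lre_b IH (LK LD1_c2 LD2_c54 LD3_c61) (LK LD1_c1 LD2_c23 LD3_c25) Lrfl Lrfl
theorem f24256 : Led Lsl_bt (LP (LK LD1_c1 LD2_c18 LD3_c57)) = (LP (LK LD1_c2 LD2_c45 LD3_c16)) :=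
  Lre_b IH (LK LD1_c1 LD2_c18 LD3_c57) (LK LD1_c2 LD2_c45 LD3_c16) Lrfl Lrfl
theorem f24466 : Led Lsl_df (LP (LK LD1_c2 LD2_c54 LD3_c61)) = (LP (LK LD1_c2 LD2_c45 LD3_c16)) :=
  Lgr Lrot12 (Lpr_bt (f24465 IH) (Lpr_dt (K10.f24462 IH) (Lpr_bt (f24256 IH) (Lpn (LP (LK LD1_c2 LD2_c45 LD3_c16))))))
theorem f24504 : Led Lsl_et (LP (LK LD1_c2 LD2_c45 LD3_c16)) = (LP (LK LD1_c5 LD2_c38 LD3_c45)) :=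
  Lre_e IH (LK LD1_c2 LD2_c45 LD3_c16) (LK LD1_c5 LD2_c38 LD3_c45) Lrfl Lrfl
theorem f139017 : Led Lsl_et (LP (LK LD1_c1 LD2_c10 LD3_c52)) = (LP (LK LD1_c2 LD2_c27 LD3_c16)) :=
  Lre_e IH (LK LD1_c1 LD2_c10 LD3_c52) (LK LD1_c2 LD2_c27 LD3_c16) Lrfl Lrfl
theorem f55999 : Led Lsl_gt (LP (LK LD1_c2 LD2_c0 LD3_c59)) = (LP (LK LD1_c0 LD2_c57 LD3_c33)) :=
  Lre_g IH (LK LD1_c2 LD2_c0 LD3_c59) (LK LD1_c0 LD2_c57 LD3_c33) Lrfl Lrfl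
theorem f56034 : Led Lsl_et (LP (LK LD1_c4 LD2_c7 LD3_c14)) = (LP (LK LD1_c2 LD2_c0 LD3_c59)) :=
  Lre_e IH (LK LD1_c4 LD2_c7 LD3_c14) (LK LD1_c2 LD2_c0 LD3_c59) Lrfl Lrfl
theorem f549371 : Led Lsl_ct (LP (LK LD1_c4 LD2_c31 LD3_c55)) = (LP (LK LD1_c9 LD2_c0 LD3_c17)) :=
  Lgr Lrot8 (Lpe (K24.f268506 IH) (Lpr_dt (K16.f68621 IH) (Lpe (K10.f175419 IH) (Lpe (K10.f68801 IH) (Lpe (f412097 IH) (Lpr_df (f412111 IH) (Lpe (K37.f412291 IH) (Lpr_df (f549360 IH) (Lpe (f211812 IH) (Lpn (LP (LK LD1_c9 LD2_c0 LD3_c17))))))))))))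
theorem f354399 : Led Lsl_ct (LP (LK LD1_c2 LD2_c45 LD3_c58)) = (LP (LK LD1_c5 LD2_c39 LD3_c61)) :=
  Lre_c IH (LK LD1_c2 LD2_c45 LD3_c58) (LK LD1_c5 LD2_c39 LD3_c61) Lrfl Lrfl
theorem f297048 : Led Lsl_ff (LP (LK LD1_c2 LD2_c13 LD3_c39)) = (LP (LK LD1_c1 LD2_c20 LD3_c25)) :=
  Lgr Lrot3 (Lpr_ft (K18.f297037 IH) (Lpn (LP (LK LD1_c1 LD2_c20 LD3_c25))))
theorem f422916 : Led Lsl_gt (LP (LK LD1_c2 LD2_c47 LD3_c12)) = (LP (LK LD1_c4 LD2_c33 LD3_c26)) :=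
  Lgr Lrot46 (Lpr_gf (K31.f422914 IH) (Lpe (f297048 IH) (Lpr_at (f245577 IH) (Lpn (LP (LK LD1_c4 LD2_c33 LD3_c26))))))
theorem f549418 : Led Lsl_bt (LP (LK LD1_c4 LD2_c31 LD3_c55)) = (LP (LK LD1_c2 LD2_c47 LD3_c12)) :=
  Lgr Lrot130 (Lpr_ct (f549371 IH) (Lpr_gf (f549390 IH) (Lpe (f354399 IH) (Lpr_bt (K38.f354428 IH) (Lpr_gf (K38.f402629 IH) (Lpe (K30.f172337 IH) (Lpr_ct (K30.f172338 IH) (Lpe (K31.f385461 IH) (Lpe (f245647 IH) (Lpe (f422916 IH) (Lpn (LP (LK LD1_c2 LD2_c47 LD3_c12)))))))))))))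
theorem f412033 : Led Lsl_et (LP (LK LD1_c2 LD2_c47 LD3_c12)) = (LP (LK LD1_c5 LD2_c42 LD3_c29)) :=
  Lre_e IH (LK LD1_c2 LD2_c47 LD3_c12) (LK LD1_c5 LD2_c42 LD3_c29) Lrfl Lrfl
theorem f549425 : Led Lsl_bf (LP (LK LD1_c9 LD2_c1 LD3_c39)) = (LP (LK LD1_c5 LD2_c42 LD3_c29)) :=
  Lgr Lrot96 (Lpr_et (K35.f177078 IH) (Lpr_bt (f549418 IH) (Lpr_et (f412033 IH) (Lpn (LP (LK LD1_c5 LD2_c42 LD3_c29))))))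
theorem f549429 : Led Lsl_bt (LP (LK LD1_c9 LD2_c1 LD3_c39)) = (LP (LK LD1_c5 LD2_c42 LD3_c29)) :=
  Lgr Lrot127 (Lpr_bf (f549425 IH) (Lpn (LP (LK LD1_c5 LD2_c42 LD3_c29))))
theorem f449224 : Led Lsl_af (LP (LK LD1_c3 LD2_c10 LD3_c20)) = (LP (LK LD1_c4 LD2_c42 LD3_c59)) :=
  Lgr Lrot50 (Lpr_et (K32.f68639 IH) (Lpr_at (K36.f449220 IH) (Lpr_et (K35.f177079 IH) (Lpn (LP (LK LD1_c4 LD2_c42 LD3_c59))))))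
theorem f177082 : Led Lsl_dt (LP (LK LD1_c9 LD2_c1 LD3_c39)) = (LP (LK LD1_c4 LD2_c42 LD3_c59)) :=
  Lgr Lrot42 (Lpr_df (K35.f177080 IH) (Lpn (LP (LK LD1_c4 LD2_c42 LD3_c59))))
theorem f450576 : Led Lsl_at (LP (LK LD1_c5 LD2_c41 LD3_c1)) = (LP (LK LD1_c9 LD2_c1 LD3_c39)) :=
  Lgr Lrot51 (Lpr_df (K32.f68631 IH) (Lpr_af (f449224 IH) (Lpe (f177082 IH) (Lpn (LP (LK LD1_c9 LD2_c1 LD3_c39))))))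
theorem f68643 : Led Lsl_bt (LP (LK LD1_c11 LD2_c12 LD3_c35)) = (LP (LK LD1_c5 LD2_c41 LD3_c1)) :=
  Lre_b IH (LK LD1_c11 LD2_c12 LD3_c35) (LK LD1_c5 LD2_c41 LD3_c1) Lrfl Lrfl
theorem f549269 : Led Lsl_at (LP (LK LD1_c5 LD2_c42 LD3_c29)) = (LP (LK LD1_c9 LD2_c2 LD3_c0)) :=
  Lgr Lrot100 (Lpr_af (f549267 IH) (Lpn (LP (LK LD1_c9 LD2_c2 LD3_c0))))
theorem f381790 : Led Lsl_dt (LP (LK LD1_c2 LD2_c47 LD3_c41)) = (LP (LK LD1_c5 LD2_c43 LD3_c20)) :=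
  Lre_d IH (LK LD1_c2 LD2_c47 LD3_c41) (LK LD1_c5 LD2_c43 LD3_c20) Lrfl Lrfl
theorem f424014 : Led Lsl_bt (LP (LK LD1_c5 LD2_c43 LD3_c20)) = (LP (LK LD1_c4 LD2_c32 LD3_c11)) :=
  Lgr Lrot95 (Lpe (f381790 IH) (Lpr_bf (K36.f424004 IH) (Lpe (K31.f181750 IH) (Lpn (LP (LK LD1_c4 LD2_c32 LD3_c11))))))
theorem f384184 : Led Lsl_et (LP (LK LD1_c11 LD2_c16 LD3_c47)) = (LP (LK LD1_c5 LD2_c43 LD3_c20)) :=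
  Lre_e IH (LK LD1_c11 LD2_c16 LD3_c47) (LK LD1_c5 LD2_c43 LD3_c20) Lrfl Lrfl
theorem f424020 : Led Lsl_bf (LP (LK LD1_c11 LD2_c16 LD3_c47)) = (LP (LK LD1_c9 LD2_c2 LD3_c0)) :=
  Lgr Lrot96 (Lpr_et (f384184 IH) (Lpr_bt (f424014 IH) (Lpr_et (f280522 IH) (Lpn (LP (LK LD1_c9 LD2_c2 LD3_c0))))))
theorem f549431 : Led Lsl_af (LP (LK LD1_c11 LD2_c12 LD3_c35)) = (LP (LK LD1_c11 LD2_c16 LD3_c47)) :=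
  Lgr Lrot36 (Lpr_bt (f68643 IH) (Lpr_at (f450576 IH) (Lpr_bt (f549429 IH) (Lpr_at (f549269 IH) (Lpe (f424020 IH) (Lpn (LP (LK LD1_c11 LD2_c16 LD3_c47))))))))
theorem f549433 : Led Lsl_et (LP (LK LD1_c11 LD2_c12 LD3_c35)) = (LP (LK LD1_c5 LD2_c41 LD3_c0)) :=
  Lre_e IH (LK LD1_c11 LD2_c12 LD3_c35) (LK LD1_c5 LD2_c41 LD3_c0) Lrfl Lrfl
theorem f381802 : Led Lsl_et (LP (LK LD1_c5 LD2_c43 LD3_c20)) = (LP (LK LD1_c11 LD2_c16 LD3_c47)) :=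
  Lre_e IH (LK LD1_c5 LD2_c43 LD3_c20) (LK LD1_c11 LD2_c16 LD3_c47) Lrfl Lrfl
theorem f549434 : Led Lsl_at (LP (LK LD1_c5 LD2_c41 LD3_c0)) = (LP (LK LD1_c5 LD2_c43 LD3_c20)) :=
  Lgr Lrot80 (Lpe (f549433 IH) (Lpr_af (f549431 IH) (Lpe (f381802 IH) (Lpn (LP (LK LD1_c5 LD2_c43 LD3_c20))))))
theorem f549438 : Led Lsl_dt (LP (LK LD1_c2 LD2_c46 LD3_c31)) = (LP (LK LD1_c5 LD2_c41 LD3_c0)) :=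
  Lre_d IH (LK LD1_c2 LD2_c46 LD3_c31) (LK LD1_c5 LD2_c41 LD3_c0) Lrfl Lrfl
theorem f381801 : Led Lsl_dt (LP (LK LD1_c5 LD2_c43 LD3_c20)) = (LP (LK LD1_c2 LD2_c47 LD3_c41)) :=
  Lre_d IH (LK LD1_c5 LD2_c43 LD3_c20) (LK LD1_c2 LD2_c47 LD3_c41) Lrfl Lrfl
theorem f203076 : Led Lsl_af (LP (LK LD1_c4 LD2_c33 LD3_c59)) = (LP (LK LD1_c5 LD2_c57 LD3_c50)) :=
  Lgr Lrot68 (Lpr_ct (K28.f58864 IH) (Lpr_at (K28.f203071 IH) (Lpr_ct (K8.f150374 IH) (Lpn (LP (LK LD1_c5 LD2_c57 LD3_c50))))))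
theorem f424535 : Led Lsl_af (LP (LK LD1_c2 LD2_c55 LD3_c15)) = (LP (LK LD1_c2 LD2_c14 LD3_c23)) :=
  Lgr Lrot117 (Lpr_dt (K8.f72610 IH) (Lpe (f203076 IH) (Lpr_dt (K35.f424532 IH) (Lpn (LP (LK LD1_c2 LD2_c14 LD3_c23))))))
theorem f424631 : Led Lsl_at (LP (LK LD1_c1 LD2_c23 LD3_c35)) = (LP (LK LD1_c1 LD2_c23 LD3_c31)) :=
  Lgr Lrot107 (Lpe (K8.f72587 IH) (Lpr_af (f424535 IH) (Lpr_cf (K35.f424629 IH) (Lpn (LP (LK LD1_c1 LD2_c23 LD3_c31))))))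
theorem f424633 : Led Lsl_af (LP (LK LD1_c1 LD2_c23 LD3_c35)) = (LP (LK LD1_c1 LD2_c23 LD3_c31)) :=
  Lgr Lrot0 (Lpr_at (f424631 IH) (Lpn (LP (LK LD1_c1 LD2_c23 LD3_c31))))
def v1662 : LQ := Led Lsl_et (LP (LK LD1_c1 LD2_c23 LD3_c31))
theorem f500622 : Led Lsl_et (LP (LK LD1_c1 LD2_c23 LD3_c31)) = v1662 :=
  Lrfl
theorem f500623 : Led Lsl_ef (LP (LK LD1_c1 LD2_c23 LD3_c31)) = v1662 :=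
  Lgr Lrot88 (Lpr_et (f500622 IH) (Lpn v1662))
theorem f500642 : Led Lsl_af v1662 = K36.v1666 :=
  Lgr Lrot50 (Lpe (f500623 IH) (Lpe (f424633 IH) (Lpr_et (K36.f500641 IH) (Lpn K36.v1666))))
theorem f549439 : (LP (LK LD1_c2 LD2_c46 LD3_c31)) = v1662 :=
  (Llr Lrot18 (Lpr_dt (f549438 IH) (Lpr_at (f549434 IH) (Lpr_dt (f381801 IH) (Lpq (K36.f542139 IH) (Lpe (f500642 IH) (Lpn v1662))))))).symm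
theorem f211087 : Led Lsl_dt (LP (LK LD1_c2 LD2_c52 LD3_c55)) = (LP (LK LD1_c5 LD2_c53 LD3_c9)) :=
  Lre_d IH (LK LD1_c2 LD2_c52 LD3_c55) (LK LD1_c5 LD2_c53 LD3_c9) Lrfl Lrfl
theorem f555898 : Led Lsl_ff (LP (LK LD1_c2 LD2_c55 LD3_c60)) = (LP (LK LD1_c5 LD2_c53 LD3_c9)) :=
  Lgr Lrot19 (Lpr_dt (K36.f500697 IH) (Lpr_ft (K36.f500761 IH) (Lpqs (K36.f539223 IH) (Lpr_dt (f211087 IH) (Lpn (LP (LK LD1_c5 LD2_c53 LD3_c9)))))))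
theorem f555907 : Led Lsl_ft (LP (LK LD1_c2 LD2_c55 LD3_c60)) = (LP (LK LD1_c5 LD2_c53 LD3_c9)) :=
  Lgr Lrot48 (Lpr_ff (f555898 IH) (Lpn (LP (LK LD1_c5 LD2_c53 LD3_c9))))
theorem f450565 : Led Lsl_at (LP (LK LD1_c5 LD2_c53 LD3_c9)) = (LP (LK LD1_c2 LD2_c52 LD3_c56)) :=
  Lre_a IH (LK LD1_c5 LD2_c53 LD3_c9) (LK LD1_c2 LD2_c52 LD3_c56) Lrfl Lrfl
theorem f211082 : Led Lsl_gt (LP (LK LD1_c5 LD2_c53 LD3_c11)) = (LP (LK LD1_c2 LD2_c52 LD3_c56)) :=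
  Lre_g IH (LK LD1_c5 LD2_c53 LD3_c11) (LK LD1_c2 LD2_c52 LD3_c56) Lrfl Lrfl
theorem f555914 : Led Lsl_gt (LP (LK LD1_c2 LD2_c55 LD3_c60)) = (LP (LK LD1_c5 LD2_c53 LD3_c11)) :=
  Lgr Lrot5 (Lpr_ft (f555907 IH) (Lpr_at (f450565 IH) (Lpe (f211082 IH) (Lpn (LP (LK LD1_c5 LD2_c53 LD3_c11))))))
def v1684 : LQ := Led Lsl_et (LP (LK LD1_c1 LD2_c23 LD3_c56))
theorem f500758 : Led Lsl_et (LP (LK LD1_c1 LD2_c23 LD3_c56)) = v1684 :=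
  Lrfl
theorem f185123 : Led Lsl_et (LP (LK LD1_c1 LD2_c13 LD3_c30)) = (LP (LK LD1_c2 LD2_c12 LD3_c28)) :=
  Lgr Lrot74 (Lpe (K18.f185122 IH) (Lpr_ef (K10.f185120 IH) (Lpe (K18.f169329 IH) (Lpn (LP (LK LD1_c2 LD2_c12 LD3_c28))))))
theorem f555921 : Led Lsl_dt (LP (LK LD1_c6 LD2_c7 LD3_c59)) = (LP (LK LD1_c5 LD2_c53 LD3_c11)) :=
  Lgr Lrot56 (Lpr_et (K36.f427723 IH) (Lpr_gt (K27.f178970 IH) (Lpe (f185123 IH) (Lpr_dt (K28.f302651 IH) (Lpr_gt (K28.f426240 IH) (Lpe (K27.f386717 IH) (Lpr_et (K36.f500685 IH) (Lpe (K36.f500691 IH) (Lpr_dt (K36.f500692 IH) (Lpr_gt (f555914 IH) (Lpn (LP (LK LD1_c5 LD2_c53 LD3_c11)))))))))))))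
theorem f555923 : v1684 = (LP (LK LD1_c2 LD2_c47 LD3_c13)) :=
  (Llr Lrot122 (Lpe (f500758 IH) (Lpr_dt (K36.f500692 IH) (Lpr_gt (f555914 IH) (Lpe (f555921 IH) (Lpr_et (K36.f427723 IH) (Lpr_gt (K27.f178970 IH) (Lpr_dt (K17.f178880 IH) (Lpe (K27.f381116 IH) (Lpe (K27.f76148 IH) (Lpr_et (K35.f452564 IH) (Lpqs (K36.f541734 IH) (Lpr_gt (K36.f423993 IH) (Lpn (LP (LK LD1_c2 LD2_c47 LD3_c13)))))))))))))))).symm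
theorem f500760 : Led Lsl_ef (LP (LK LD1_c1 LD2_c23 LD3_c56)) = v1684 :=
  Lgr Lrot88 (Lpr_et (f500758 IH) (Lpn v1684))
theorem f542146 : Led Lsl_ff v1684 = (LP (LK LD1_c2 LD2_c47 LD3_c41)) :=
  Lgr Lrot72 (Lpe (f500760 IH) (Lpr_ft (K36.f500761 IH) (Lpqs (K36.f539223 IH) (Lpq (K36.f537904 IH) (Lpe (K36.f500513 IH) (Lpr_ft (K8.f163148 IH) (Lpr_et (K36.f500641 IH) (Lpqs (K36.f542139 IH) (Lpn (LP (LK LD1_c2 LD2_c47 LD3_c41)))))))))))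
theorem f555933 : Led Lsl_af (LP (LK LD1_c2 LD2_c47 LD3_c40)) = (LP (LK LD1_c2 LD2_c47 LD3_c13)) :=
  Lgr Lrot31 (Lpe (K35.f381977 IH) (Lpe (K36.f381787 IH) (Lpe (f542146 IH) (Lpqs (f555923 IH) (Lpn (LP (LK LD1_c2 LD2_c47 LD3_c13)))))))
theorem f500645 : Led Lsl_at v1662 = K36.v1666 :=
  Lgr Lrot80 (Lpe (f500622 IH) (Lpe (f424631 IH) (Lpr_ef (K36.f500644 IH) (Lpn K36.v1666))))
theorem f555945 : Led Lsl_ft (LP (LK LD1_c2 LD2_c47 LD3_c40)) = v1662 :=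
  Lgr Lrot101 (Lpr_af (f555933 IH) (Lpq (f555923 IH) (Lpr_ff (f542146 IH) (Lpq (K36.f542139 IH) (Lpe (f500645 IH) (Lpn v1662))))))
theorem f555953 : Led Lsl_ff (LP (LK LD1_c2 LD2_c47 LD3_c40)) = (LP (LK LD1_c2 LD2_c46 LD3_c31)) :=
  Lgr Lrot3 (Lpr_ft (f555945 IH) (Lpq (f549439 IH) (Lpn (LP (LK LD1_c2 LD2_c46 LD3_c31)))))
theorem f555935 : Led Lsl_at (LP (LK LD1_c2 LD2_c47 LD3_c40)) = (LP (LK LD1_c2 LD2_c47 LD3_c13)) :=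
  Lgr Lrot100 (Lpr_af (f555933 IH) (Lpn (LP (LK LD1_c2 LD2_c47 LD3_c13))))
theorem f555957 : K30.v1498 = (LP (LK LD1_c2 LD2_c46 LD3_c31)) :=
  (Llr Lrot47 (Lpe (K30.f495859 IH) (Lpr_gt (K36.f423993 IH) (Lpe (f555935 IH) (Lpr_ff (f555953 IH) (Lpn (LP (LK LD1_c2 LD2_c46 LD3_c31)))))))).symm
theorem f555962 : Led Lsl_ff K35.v2891 = (LP (LK LD1_c4 LD2_c31 LD3_c48)) :=
  Lgr Lrot23 (Lpe (K35.f536095 IH) (Lpr_ft (f555945 IH) (Lpq (f549439 IH) (Lpq (f555957 IH) (Lpe (K30.f495865 IH) (Lpn (LP (LK LD1_c4 LD2_c31 LD3_c48))))))))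
theorem f555970 : Led Lsl_ft K35.v2891 = (LP (LK LD1_c4 LD2_c31 LD3_c48)) :=
  Lgr Lrot48 (Lpr_ff (f555962 IH) (Lpn (LP (LK LD1_c4 LD2_c31 LD3_c48))))
theorem f536098 : Led Lsl_dt (LP (LK LD1_c5 LD2_c40 LD3_c4)) = K35.v2891 :=
  Lgr Lrot27 (Lpr_cf (K35.f424395 IH) (Lpe (K27.f381606 IH) (Lpe (K27.f381609 IH) (Lpe (K27.f75568 IH) (Lpe (K27.f75567 IH) (Lpr_gt (K27.f76147 IH) (Lpr_ct (K27.f181477 IH) (Lpr_gt (K35.f381977 IH) (Lpr_ct (K35.f536096 IH) (Lpn K35.v2891))))))))))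
theorem f555972 : Led Lsl_ff (LP (LK LD1_c5 LD2_c40 LD3_c4)) = (LP (LK LD1_c9 LD2_c0 LD3_c13)) :=
  Lgr Lrot19 (Lpr_dt (f536098 IH) (Lpr_ft (f555970 IH) (Lpr_dt (K30.f495866 IH) (Lpn (LP (LK LD1_c9 LD2_c0 LD3_c13))))))
theorem f172453 : Led Lsl_gt (LP (LK LD1_c5 LD2_c44 LD3_c30)) = (LP (LK LD1_c9 LD2_c45 LD3_c19)) :=
  Lre_g IH (LK LD1_c5 LD2_c44 LD3_c30) (LK LD1_c9 LD2_c45 LD3_c19) Lrfl Lrfl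
theorem f555988 : Led Lsl_at (LP (LK LD1_c5 LD2_c40 LD3_c4)) = (LP (LK LD1_c9 LD2_c45 LD3_c19)) :=
  Lgr Lrot26 (Lpr_ff (f555972 IH) (Lpr_gt (f495874 IH) (Lpr_gt (f172453 IH) (Lpn (LP (LK LD1_c9 LD2_c45 LD3_c19))))))
theorem f424397 : Led Lsl_et (LP (LK LD1_c11 LD2_c10 LD3_c60)) = (LP (LK LD1_c5 LD2_c40 LD3_c4)) :=
  Lre_e IH (LK LD1_c11 LD2_c10 LD3_c60) (LK LD1_c5 LD2_c40 LD3_c4) Lrfl Lrfl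
theorem f424034 : Led Lsl_et (LP (LK LD1_c9 LD2_c45 LD3_c19)) = (LP (LK LD1_c17 LD2_c54 LD3_c58)) :=
  Lre_e IH (LK LD1_c9 LD2_c45 LD3_c19) (LK LD1_c17 LD2_c54 LD3_c58) Lrfl Lrfl
theorem f555996 : Led Lsl_af (LP (LK LD1_c11 LD2_c10 LD3_c60)) = (LP (LK LD1_c17 LD2_c54 LD3_c58)) :=
  Lgr Lrot50 (Lpr_et (f424397 IH) (Lpr_at (f555988 IH) (Lpr_et (f424034 IH) (Lpn (LP (LK LD1_c17 LD2_c54 LD3_c58))))))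
theorem f381617 : Led Lsl_et (LP (LK LD1_c5 LD2_c44 LD3_c13)) = (LP (LK LD1_c11 LD2_c18 LD3_c31)) :=
  Lre_e IH (LK LD1_c5 LD2_c44 LD3_c13) (LK LD1_c11 LD2_c18 LD3_c31) Lrfl Lrfl
theorem f424398 : Led Lsl_cf (LP (LK LD1_c11 LD2_c10 LD3_c60)) = (LP (LK LD1_c11 LD2_c18 LD3_c31)) :=
  Lgr Lrot39 (Lpr_et (f424397 IH) (Lpr_ct (K35.f424389 IH) (Lpr_et (f381617 IH) (Lpn (LP (LK LD1_c11 LD2_c18 LD3_c31))))))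
theorem f424406 : Led Lsl_ct (LP (LK LD1_c11 LD2_c10 LD3_c60)) = (LP (LK LD1_c11 LD2_c18 LD3_c31)) :=
  Lgr Lrot59 (Lpr_cf (f424398 IH) (Lpn (LP (LK LD1_c11 LD2_c18 LD3_c31))))
theorem f382399 : Led Lsl_et (LP (LK LD1_c20 LD2_c14 LD3_c2)) = (LP (LK LD1_c11 LD2_c17 LD3_c54)) :=
  Lre_e IH (LK LD1_c20 LD2_c14 LD3_c2) (LK LD1_c11 LD2_c17 LD3_c54) Lrfl Lrfl
theorem f424035 : Led Lsl_cf (LP (LK LD1_c20 LD2_c14 LD3_c2)) = (LP (LK LD1_c17 LD2_c54 LD3_c58)) :=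
  Lgr Lrot39 (Lpr_et (f382399 IH) (Lpr_ct (f423997 IH) (Lpr_et (f424034 IH) (Lpn (LP (LK LD1_c17 LD2_c54 LD3_c58))))))
theorem f424038 : Led Lsl_ct (LP (LK LD1_c20 LD2_c14 LD3_c2)) = (LP (LK LD1_c17 LD2_c54 LD3_c58)) :=
  Lgr Lrot59 (Lpr_cf (f424035 IH) (Lpn (LP (LK LD1_c17 LD2_c54 LD3_c58))))
theorem f556000 : Led Lsl_at (LP (LK LD1_c11 LD2_c18 LD3_c31)) = (LP (LK LD1_c20 LD2_c14 LD3_c2)) :=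
  Lgr Lrot107 (Lpe (f424406 IH) (Lpr_af (f555996 IH) (Lpe (f424038 IH) (Lpn (LP (LK LD1_c20 LD2_c14 LD3_c2))))))
theorem f556002 : Led Lsl_af (LP (LK LD1_c11 LD2_c18 LD3_c31)) = (LP (LK LD1_c20 LD2_c14 LD3_c2)) :=
  Lgr Lrot0 (Lpr_at (f556000 IH) (Lpn (LP (LK LD1_c20 LD2_c14 LD3_c2))))
theorem f381625 : Led Lsl_et (LP (LK LD1_c11 LD2_c18 LD3_c31)) = (LP (LK LD1_c5 LD2_c44 LD3_c13)) :=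
  Lre_e IH (LK LD1_c11 LD2_c18 LD3_c31) (LK LD1_c5 LD2_c44 LD3_c13) Lrfl Lrfl
theorem f382405 : Led Lsl_et (LP (LK LD1_c11 LD2_c17 LD3_c54)) = (LP (LK LD1_c20 LD2_c14 LD3_c2)) :=
  Lre_e IH (LK LD1_c11 LD2_c17 LD3_c54) (LK LD1_c20 LD2_c14 LD3_c2) Lrfl Lrfl
theorem f556005 : Led Lsl_at (LP (LK LD1_c5 LD2_c44 LD3_c13)) = (LP (LK LD1_c11 LD2_c17 LD3_c54)) :=
  Lgr Lrot80 (Lpe (f381625 IH) (Lpr_af (f556002 IH) (Lpe (f382405 IH) (Lpn (LP (LK LD1_c11 LD2_c17 LD3_c54))))))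
theorem f556009 : Led Lsl_ff (LP (LK LD1_c5 LD2_c44 LD3_c13)) = (LP (LK LD1_c11 LD2_c17 LD3_c55)) :=
  Lgr Lrot52 (Lpr_at (f556005 IH) (Lpe (f381678 IH) (Lpe (K27.f270641 IH) (Lpn (LP (LK LD1_c11 LD2_c17 LD3_c55))))))
theorem f270639 : Led Lsl_dt (LP (LK LD1_c2 LD2_c48 LD3_c14)) = (LP (LK LD1_c5 LD2_c44 LD3_c46)) :=
  Lre_d IH (LK LD1_c2 LD2_c48 LD3_c14) (LK LD1_c5 LD2_c44 LD3_c46) Lrfl Lrfl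
theorem f381987 : Led Lsl_df (LP (LK LD1_c11 LD2_c17 LD3_c55)) = (LP (LK LD1_c17 LD2_c41 LD3_c58)) :=
  Lgr Lrot155 (Lpr_gt (K27.f270641 IH) (Lpr_ct (K27.f270640 IH) (Lpr_gt (K27.f171855 IH) (Lpr_ct (K27.f174521 IH) (Lpr_dt (f270639 IH) (Lpe (K27.f270614 IH) (Lpe (K27.f270637 IH) (Lpr_cf (K27.f381979 IH) (Lpr_gf (K27.f381586 IH) (Lpn (LP (LK LD1_c17 LD2_c41 LD3_c58))))))))))))
theorem f556011 : Led Lsl_ft (LP (LK LD1_c11 LD2_c17 LD3_c6)) = (LP (LK LD1_c17 LD2_c41 LD3_c58)) :=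
  Lgr Lrot54 (Lpr_df (K27.f381607 IH) (Lpr_ff (f556009 IH) (Lpr_df (f381987 IH) (Lpn (LP (LK LD1_c17 LD2_c41 LD3_c58))))))
theorem f381540 : Led Lsl_gt (LP (LK LD1_c5 LD2_c43 LD3_c49)) = (LP (LK LD1_c11 LD2_c17 LD3_c7)) :=
  Lre_g IH (LK LD1_c5 LD2_c43 LD3_c49) (LK LD1_c11 LD2_c17 LD3_c7) Lrfl Lrfl
theorem f556015 : Led Lsl_af (LP (LK LD1_c11 LD2_c17 LD3_c7)) = (LP (LK LD1_c17 LD2_c41 LD3_c58)) :=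
  Lgr Lrot31 (Lpe (f381540 IH) (Lpe (K27.f381603 IH) (Lpr_ft (f556011 IH) (Lpn (LP (LK LD1_c17 LD2_c41 LD3_c58))))))
theorem f556007 : Led Lsl_af (LP (LK LD1_c11 LD2_c17 LD3_c6)) = (LP (LK LD1_c17 LD2_c41 LD3_c59)) :=
  Lgr Lrot117 (Lpr_dt (K27.f381622 IH) (Lpr_at (f556005 IH) (Lpe (f381679 IH) (Lpn (LP (LK LD1_c17 LD2_c41 LD3_c59))))))
theorem f556023 : Led Lsl_ft (LP (LK LD1_c11 LD2_c17 LD3_c7)) = (LP (LK LD1_c17 LD2_c41 LD3_c59)) :=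
  Lgr Lrot101 (Lpr_af (f556015 IH) (Lpe (f556011 IH) (Lpr_af (f556007 IH) (Lpn (LP (LK LD1_c17 LD2_c41 LD3_c59))))))
theorem f556027 : Led Lsl_ff (LP (LK LD1_c11 LD2_c17 LD3_c7)) = (LP (LK LD1_c17 LD2_c41 LD3_c59)) :=
  Lgr Lrot3 (Lpr_ft (f556023 IH) (Lpn (LP (LK LD1_c17 LD2_c41 LD3_c59))))
theorem f381510 : Led Lsl_dt (LP (LK LD1_c5 LD2_c43 LD3_c10)) = (LP (LK LD1_c9 LD2_c46 LD3_c3)) :=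
  Lre_d IH (LK LD1_c5 LD2_c43 LD3_c10) (LK LD1_c9 LD2_c46 LD3_c3) Lrfl Lrfl
theorem f381513 : Led Lsl_dt (LP (LK LD1_c11 LD2_c17 LD3_c7)) = (LP (LK LD1_c5 LD2_c44 LD3_c14)) :=
  Lgr Lrot6 (Lpr_gt (K36.f381496 IH) (Lpr_ct (K27.f381489 IH) (Lpr_gt (K27.f313555 IH) (Lpr_ct (K27.f318730 IH) (Lpe (f381510 IH) (Lpe (K36.f174678 IH) (Lpe (K27.f174662 IH) (Lpe (K27.f381511 IH) (Lpe (K36.f381512 IH) (Lpn (LP (LK LD1_c5 LD2_c44 LD3_c14))))))))))))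
theorem f556031 : Led Lsl_ft (LP (LK LD1_c5 LD2_c44 LD3_c14)) = (LP (LK LD1_c11 LD2_c17 LD3_c54)) :=
  Lgr Lrot54 (Lpe (f381513 IH) (Lpr_ff (f556027 IH) (Lpr_df (f381679 IH) (Lpn (LP (LK LD1_c11 LD2_c17 LD3_c54))))))
theorem f556035 : Led Lsl_ff (LP (LK LD1_c11 LD2_c16 LD3_c46)) = (LP (LK LD1_c9 LD2_c45 LD3_c19)) :=
  Lgr Lrot23 (Lpe (K36.f381804 IH) (Lpr_ft (f556031 IH) (Lpr_ct (f423997 IH) (Lpn (LP (LK LD1_c9 LD2_c45 LD3_c19))))))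
theorem f556043 : Led Lsl_ft (LP (LK LD1_c11 LD2_c16 LD3_c46)) = (LP (LK LD1_c9 LD2_c45 LD3_c19)) :=
  Lgr Lrot48 (Lpr_ff (f556035 IH) (Lpn (LP (LK LD1_c9 LD2_c45 LD3_c19))))
theorem f411814 : Led Lsl_dt (LP (LK LD1_c4 LD2_c57 LD3_c15)) = (LP (LK LD1_c9 LD2_c45 LD3_c31)) :=
  Lre_d IH (LK LD1_c4 LD2_c57 LD3_c15) (LK LD1_c9 LD2_c45 LD3_c31) Lrfl Lrfl
theorem f424006 : Led Lsl_bf (LP (LK LD1_c11 LD2_c16 LD3_c46)) = (LP (LK LD1_c9 LD2_c45 LD3_c31)) :=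
  Lgr Lrot93 (Lpr_dt (K36.f381792 IH) (Lpr_bt (K36.f423999 IH) (Lpr_dt (f411814 IH) (Lpn (LP (LK LD1_c9 LD2_c45 LD3_c31))))))
theorem f411808 : Led Lsl_cf (LP (LK LD1_c4 LD2_c57 LD3_c15)) = (LP (LK LD1_c4 LD2_c32 LD3_c31)) :=
  Lgr Lrot11 (Lpr_ct (K36.f411805 IH) (Lpn (LP (LK LD1_c4 LD2_c32 LD3_c31))))
theorem f411815 : Led Lsl_cf (LP (LK LD1_c9 LD2_c45 LD3_c31)) = (LP (LK LD1_c9 LD2_c4 LD3_c41)) :=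
  Lgr Lrot99 (Lpe (f411814 IH) (Lpr_cf (f411808 IH) (Lpe (K30.f174560 IH) (Lpe (K30.f174559 IH) (Lpe (K30.f174538 IH) (Lpe (K30.f174587 IH) (Lpe (K30.f174578 IH) (Lpr_ct (K30.f173394 IH) (Lpr_gt (f174581 IH) (Lpn (LP (LK LD1_c9 LD2_c4 LD3_c41))))))))))))
theorem f411817 : Led Lsl_ct (LP (LK LD1_c9 LD2_c45 LD3_c31)) = (LP (LK LD1_c9 LD2_c4 LD3_c41)) :=
  Lgr Lrot59 (Lpr_cf (f411815 IH) (Lpn (LP (LK LD1_c9 LD2_c4 LD3_c41))))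
theorem f173384 : Led Lsl_bt (LP (LK LD1_c1 LD2_c20 LD3_c21)) = (LP (LK LD1_c0 LD2_c37 LD3_c12)) :=
  Lre_b IH (LK LD1_c1 LD2_c20 LD3_c21) (LK LD1_c0 LD2_c37 LD3_c12) Lrfl Lrfl
theorem f174520 : Led Lsl_gt (LP (LK LD1_c5 LD2_c44 LD3_c2)) = (LP (LK LD1_c2 LD2_c48 LD3_c14)) :=
  Lre_g IH (LK LD1_c5 LD2_c44 LD3_c2) (LK LD1_c2 LD2_c48 LD3_c14) Lrfl Lrfl
theorem f424010 : Led Lsl_gt (LP (LK LD1_c11 LD2_c16 LD3_c46)) = (LP (LK LD1_c7 LD2_c59 LD3_c33)) :=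
  Lgr Lrot82 (Lpr_bf (f424006 IH) (Lpr_ct (f411817 IH) (Lpe (f174581 IH) (Lpe (K30.f173394 IH) (Lpr_bt (K30.f173374 IH) (Lpe (K9.f173364 IH) (Lpe (f173384 IH) (Lpr_ct (K27.f174521 IH) (Lpe (f174520 IH) (Lpe (K38.f172374 IH) (Lpn (LP (LK LD1_c7 LD2_c59 LD3_c33)))))))))))))
theorem f555990 : Led Lsl_af (LP (LK LD1_c5 LD2_c40 LD3_c4)) = (LP (LK LD1_c9 LD2_c45 LD3_c19)) :=
  Lgr Lrot0 (Lpr_at (f555988 IH) (Lpn (LP (LK LD1_c9 LD2_c45 LD3_c19))))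
theorem f556049 : Led Lsl_gt (LP (LK LD1_c7 LD2_c59 LD3_c33)) = (LP (LK LD1_c5 LD2_c40 LD3_c4)) :=
  Lgr Lrot46 (Lpe (f424010 IH) (Lpr_ft (f556043 IH) (Lpe (f555990 IH) (Lpn (LP (LK LD1_c5 LD2_c40 LD3_c4))))))
theorem f72865 : Led Lsl_et (LP (LK LD1_c1 LD2_c20 LD3_c50)) = (LP (LK LD1_c2 LD2_c49 LD3_c23)) :=
  Lre_e IH (LK LD1_c1 LD2_c20 LD3_c50) (LK LD1_c2 LD2_c49 LD3_c23) Lrfl Lrfl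
theorem f139067 : Led Lsl_gf (LP (LK LD1_c2 LD2_c49 LD3_c22)) = (LP (LK LD1_c2 LD2_c27 LD3_c12)) :=
  Lgr Lrot76 (Lpe (K2.f72899 IH) (Lpr_ff (K2.f74440 IH) (Lpr_gt (K6.f139062 IH) (Lpn (LP (LK LD1_c2 LD2_c27 LD3_c12))))))
theorem f211786 : Led Lsl_bt (LP (LK LD1_c1 LD2_c19 LD3_c32)) = (LP (LK LD1_c2 LD2_c46 LD3_c22)) :=
  Lre_b IH (LK LD1_c1 LD2_c19 LD3_c32) (LK LD1_c2 LD2_c46 LD3_c22) Lrfl Lrfl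
theorem f537442 : K35.v2891 = (LP (LK LD1_c2 LD2_c46 LD3_c22)) :=
  Lefun (Lecon (K35.f536093 IH) (f537179 IH).symm) (f211786 IH)
theorem f211787 : Led Lsl_ef (LP (LK LD1_c1 LD2_c22 LD3_c27)) = (LP (LK LD1_c2 LD2_c46 LD3_c22)) :=
  Lgr Lrot29 (Lpr_bt (K36.f211769 IH) (Lpr_et (f211781 IH) (Lpr_bt (f211786 IH) (Lpn (LP (LK LD1_c2 LD2_c46 LD3_c22))))))
def v1611 : LQ := Led Lsl_gt (LP (LK LD1_c1 LD2_c22 LD3_c27))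
theorem f500360 : Led Lsl_gt (LP (LK LD1_c1 LD2_c22 LD3_c27)) = v1611 :=
  Lrfl
theorem f556053 : (LP (LK LD1_c2 LD2_c27 LD3_c16)) = v1611 :=
  (Llr Lrot122 (Lpe (f139017 IH) (Lpr_dt (K6.f138976 IH) (Lpe (f139067 IH) (Lpe (K4.f72844 IH) (Lpr_et (f72865 IH) (Lpr_gt (K35.f541659 IH) (Lpe (K38.f427671 IH) (Lpr_gt (f556049 IH) (Lpr_df (K35.f536099 IH) (Lpqs (f537442 IH) (Lpe (f211787 IH) (Lpr_gt (f500360 IH) (Lpn v1611)))))))))))))).symm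
theorem f500361 : Led Lsl_gf (LP (LK LD1_c4 LD2_c35 LD3_c5)) = v1611 :=
  Lgr Lrot76 (Lpe (K36.f211070 IH) (Lpe (K36.f449309 IH) (Lpr_gt (f500360 IH) (Lpn v1611))))
theorem f556058 : Led Lsl_dt (LP (LK LD1_c4 LD2_c7 LD3_c14)) = (LP (LK LD1_c5 LD2_c53 LD3_c1)) :=
  Lgr Lrot56 (Lpr_et (f56034 IH) (Lpr_gt (f55999 IH) (Lpr_ef (K1.f56018 IH) (Lpe (K2.f74257 IH) (Lpr_gt (K6.f139062 IH) (Lpe (K6.f138976 IH) (Lpr_et (f139017 IH) (Lpqs (f556053 IH) (Lpe (f500361 IH) (Lpr_dt (K37.f211093 IH) (Lpr_gt (K37.f539895 IH) (Lpn (LP (LK LD1_c5 LD2_c53 LD3_c1))))))))))))))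
theorem f556063 : Led Lsl_df (LP (LK LD1_c4 LD2_c7 LD3_c14)) = (LP (LK LD1_c5 LD2_c53 LD3_c1)) :=
  Lgr Lrot38 (Lpr_dt (f556058 IH) (Lpn (LP (LK LD1_c5 LD2_c53 LD3_c1))))
theorem f100713 : Led Lsl_gt (LP (LK LD1_c3 LD2_c3 LD3_c30)) = (LP (LK LD1_c6 LD2_c13 LD3_c25)) :=
  Lre_g IH (LK LD1_c3 LD2_c3 LD3_c30) (LK LD1_c6 LD2_c13 LD3_c25) Lrfl Lrfl
theorem f539905 : Led Lsl_bf (LP (LK LD1_c6 LD2_c13 LD3_c25)) = (LP (LK LD1_c5 LD2_c53 LD3_c1)) :=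
  Lgr Lrot34 (Lpe (f100713 IH) (Lpe (K38.f100712 IH) (Lpr_ct (K9.f100690 IH) (Lpe (K15.f176808 IH) (Lpe (K10.f23938 IH) (Lpe (K9.f23956 IH) (Lpe (K37.f24004 IH) (Lpr_ct (K37.f386657 IH) (Lpe (K37.f422787 IH) (Lpr_cf (K37.f539897 IH) (Lpn (LP (LK LD1_c5 LD2_c53 LD3_c1)))))))))))))
theorem f539907 : Led Lsl_bt (LP (LK LD1_c6 LD2_c13 LD3_c25)) = (LP (LK LD1_c5 LD2_c53 LD3_c1)) :=
  Lgr Lrot127 (Lpr_bf (f539905 IH) (Lpn (LP (LK LD1_c5 LD2_c53 LD3_c1))))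
theorem f100548 : Led Lsl_ef (LP (LK LD1_c3 LD2_c58 LD3_c56)) = (LP (LK LD1_c6 LD2_c13 LD3_c19)) :=
  Lgr Lrot88 (Lpr_et (K7.f100533 IH) (Lpn (LP (LK LD1_c6 LD2_c13 LD3_c19))))
theorem f100538 : Led Lsl_gt (LP (LK LD1_c6 LD2_c13 LD3_c25)) = (LP (LK LD1_c12 LD2_c5 LD3_c30)) :=
  Lre_g IH (LK LD1_c6 LD2_c13 LD3_c25) (LK LD1_c12 LD2_c5 LD3_c30) Lrfl Lrfl
theorem f450191 : Led Lsl_dt (LP (LK LD1_c1 LD2_c21 LD3_c20)) = (LP (LK LD1_c2 LD2_c50 LD3_c42)) :=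
  Lre_d IH (LK LD1_c1 LD2_c21 LD3_c20) (LK LD1_c2 LD2_c50 LD3_c42) Lrfl Lrfl
theorem f450374 : Led Lsl_et (LP (LK LD1_c1 LD2_c21 LD3_c20)) = (LP (LK LD1_c2 LD2_c50 LD3_c43)) :=
  Lre_e IH (LK LD1_c1 LD2_c21 LD3_c20) (LK LD1_c2 LD2_c50 LD3_c43) Lrfl Lrfl
theorem f176629 : Led Lsl_gt (LP (LK LD1_c2 LD2_c50 LD3_c43)) = (LP (LK LD1_c5 LD2_c49 LD3_c17)) :=
  Lre_g IH (LK LD1_c2 LD2_c50 LD3_c43) (LK LD1_c5 LD2_c49 LD3_c17) Lrfl Lrfl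
theorem f548964 : Led Lsl_df (LP (LK LD1_c6 LD2_c13 LD3_c25)) = (LP (LK LD1_c5 LD2_c49 LD3_c17)) :=
  Lgr Lrot135 (Lpr_gt (f100538 IH) (Lpe (K7.f100505 IH) (Lpe (f100548 IH) (Lpr_gt (K31.f100560 IH) (Lpe (K38.f100562 IH) (Lpr_dt (K38.f548951 IH) (Lpr_gt (K38.f176695 IH) (Lpe (f450191 IH) (Lpr_et (f450374 IH) (Lpr_gt (f176629 IH) (Lpn (LP (LK LD1_c5 LD2_c49 LD3_c17)))))))))))))
theorem f556066 : Led Lsl_bt (LP (LK LD1_c4 LD2_c7 LD3_c14)) = (LP (LK LD1_c5 LD2_c49 LD3_c17)) :=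
  Lgr Lrot95 (Lpr_df (f556063 IH) (Lpe (f539907 IH) (Lpr_df (f548964 IH) (Lpn (LP (LK LD1_c5 LD2_c49 LD3_c17))))))
theorem f556068 : Led Lsl_ct (LP (LK LD1_c4 LD2_c7 LD3_c14)) = (LP (LK LD1_c8 LD2_c14 LD3_c49)) :=
  Lre_c IH (LK LD1_c4 LD2_c7 LD3_c14) (LK LD1_c8 LD2_c14 LD3_c49) Lrfl Lrfl
theorem f24454 : Led Lsl_bt (LP (LK LD1_c5 LD2_c38 LD3_c45)) = (LP (LK LD1_c2 LD2_c45 LD3_c17)) :=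
  Lre_b IH (LK LD1_c5 LD2_c38 LD3_c45) (LK LD1_c2 LD2_c45 LD3_c17) Lrfl Lrfl
theorem f26704 : Led Lsl_bt (LP (LK LD1_c2 LD2_c58 LD3_c11)) = (LP (LK LD1_c6 LD2_c4 LD3_c10)) :=
  Lre_b IH (LK LD1_c2 LD2_c58 LD3_c11) (LK LD1_c6 LD2_c4 LD3_c10) Lrfl Lrfl
theorem f198493 : Led Lsl_cf (LP (LK LD1_c5 LD2_c38 LD3_c45)) = (LP (LK LD1_c6 LD2_c4 LD3_c10)) :=
  Lgr Lrot97 (Lpr_bt (f24454 IH) (Lpr_ct (K9.f24446 IH) (Lpr_bt (K12.f198491 IH) (Lpe (K10.f186015 IH) (Lpr_bt (f26704 IH) (Lpn (LP (LK LD1_c6 LD2_c4 LD3_c10))))))))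
theorem f198495 : Led Lsl_ct (LP (LK LD1_c5 LD2_c38 LD3_c45)) = (LP (LK LD1_c6 LD2_c4 LD3_c10)) :=
  Lgr Lrot59 (Lpr_cf (f198493 IH) (Lpn (LP (LK LD1_c6 LD2_c4 LD3_c10))))
theorem f556071 : Led Lsl_gt (LP (LK LD1_c8 LD2_c14 LD3_c49)) = (LP (LK LD1_c6 LD2_c4 LD3_c10)) :=
  Lgr Lrot65 (Lpe (f556068 IH) (Lpr_bt (f556066 IH) (Lpe (f176629 IH) (Lpe (K38.f176627 IH) (Lpe (K10.f176600 IH) (Lpr_gf (K10.f185956 IH) (Lpe (K9.f175901 IH) (Lpr_gf (K9.f24447 IH) (Lpe (f24454 IH) (Lpr_ct (f198495 IH) (Lpn (LP (LK LD1_c6 LD2_c4 LD3_c10)))))))))))))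
theorem f26709 : Led Lsl_at (LP (LK LD1_c11 LD2_c51 LD3_c53)) = (LP (LK LD1_c6 LD2_c4 LD3_c10)) :=
  Lre_a IH (LK LD1_c11 LD2_c51 LD3_c53) (LK LD1_c6 LD2_c4 LD3_c10) Lrfl Lrfl
theorem f450362 : Led Lsl_at (LP (LK LD1_c11 LD2_c8 LD3_c21)) = (LP (LK LD1_c5 LD2_c38 LD3_c38)) :=
  Lre_a IH (LK LD1_c11 LD2_c8 LD3_c21) (LK LD1_c5 LD2_c38 LD3_c38) Lrfl Lrfl
theorem f450381 : Led Lsl_ft (LP (LK LD1_c5 LD2_c49 LD3_c11)) = (LP (LK LD1_c11 LD2_c8 LD3_c21)) :=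
  Lgr Lrot101 (Lpe (K38.f450370 IH) (Lpr_ff (K38.f450376 IH) (Lpe (f450362 IH) (Lpn (LP (LK LD1_c11 LD2_c8 LD3_c21))))))
theorem f450220 : Led Lsl_et (LP (LK LD1_c2 LD2_c50 LD3_c40)) = (LP (LK LD1_c5 LD2_c49 LD3_c11)) :=
  Lre_e IH (LK LD1_c2 LD2_c50 LD3_c40) (LK LD1_c5 LD2_c49 LD3_c11) Lrfl Lrfl
theorem f418996 : Led Lsl_et (LP (LK LD1_c11 LD2_c8 LD3_c21)) = (LP (LK LD1_c5 LD2_c38 LD3_c36)) :=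
  Lre_e IH (LK LD1_c11 LD2_c8 LD3_c21) (LK LD1_c5 LD2_c38 LD3_c36) Lrfl Lrfl
theorem f450387 : Led Lsl_ff (LP (LK LD1_c6 LD2_c17 LD3_c1)) = (LP (LK LD1_c5 LD2_c38 LD3_c36)) :=
  Lgr Lrot72 (Lpr_et (K38.f450232 IH) (Lpr_ft (K37.f450224 IH) (Lpr_et (f450220 IH) (Lpr_ft (f450381 IH) (Lpr_et (f418996 IH) (Lpn (LP (LK LD1_c5 LD2_c38 LD3_c36))))))))
theorem f450391 : Led Lsl_ft (LP (LK LD1_c6 LD2_c17 LD3_c1)) = (LP (LK LD1_c5 LD2_c38 LD3_c36)) :=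
  Lgr Lrot48 (Lpr_ff (f450387 IH) (Lpn (LP (LK LD1_c5 LD2_c38 LD3_c36))))
theorem f211828 : Led Lsl_bt (LP (LK LD1_c4 LD2_c31 LD3_c13)) = (LP (LK LD1_c2 LD2_c12 LD3_c33)) :=
  Lre_b IH (LK LD1_c4 LD2_c31 LD3_c13) (LK LD1_c2 LD2_c12 LD3_c33) Lrfl Lrfl
theorem f211818 : Led Lsl_at (LP (LK LD1_c9 LD2_c0 LD3_c27)) = (LP (LK LD1_c4 LD2_c31 LD3_c13)) :=
  Lre_a IH (LK LD1_c9 LD2_c0 LD3_c27) (LK LD1_c4 LD2_c31 LD3_c13) Lrfl Lrfl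
theorem f418995 : Led Lsl_at (LP (LK LD1_c2 LD2_c45 LD3_c10)) = (LP (LK LD1_c5 LD2_c38 LD3_c36)) :=
  Lre_a IH (LK LD1_c2 LD2_c45 LD3_c10) (LK LD1_c5 LD2_c38 LD3_c36) Lrfl Lrfl
theorem f450286 : Led Lsl_bf (LP (LK LD1_c9 LD2_c0 LD3_c27)) = (LP (LK LD1_c5 LD2_c38 LD3_c36)) :=
  Lgr Lrot81 (Lpr_at (f211818 IH) (Lpr_bt (f211828 IH) (Lpr_at (K38.f450282 IH) (Lpr_bt (K38.f211726 IH) (Lpr_at (f418995 IH) (Lpn (LP (LK LD1_c5 LD2_c38 LD3_c36))))))))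
theorem f450397 : Led Lsl_ff (LP (LK LD1_c5 LD2_c38 LD3_c35)) = (LP (LK LD1_c9 LD2_c0 LD3_c27)) :=
  Lgr Lrot25 (Lpe (K38.f450252 IH) (Lpr_ft (f450391 IH) (Lpe (f450286 IH) (Lpn (LP (LK LD1_c9 LD2_c0 LD3_c27))))))
theorem f421057 : Led Lsl_et (LP (LK LD1_c3 LD2_c5 LD3_c43)) = (LP (LK LD1_c6 LD2_c17 LD3_c9)) :=
  Lre_e IH (LK LD1_c3 LD2_c5 LD3_c43) (LK LD1_c6 LD2_c17 LD3_c9) Lrfl Lrfl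
theorem f211673 : Led Lsl_bt (LP (LK LD1_c2 LD2_c12 LD3_c33)) = (LP (LK LD1_c4 LD2_c31 LD3_c13)) :=
  Lre_b IH (LK LD1_c2 LD2_c12 LD3_c33) (LK LD1_c4 LD2_c31 LD3_c13) Lrfl Lrfl
theorem f26695 : Led Lsl_bt (LP (LK LD1_c6 LD2_c4 LD3_c10)) = (LP (LK LD1_c2 LD2_c58 LD3_c11)) :=
  Lre_b IH (LK LD1_c6 LD2_c4 LD3_c10) (LK LD1_c2 LD2_c58 LD3_c11) Lrfl Lrfl
theorem f211816 : Led Lsl_et (LP (LK LD1_c4 LD2_c31 LD3_c13)) = (LP (LK LD1_c6 LD2_c4 LD3_c10)) :=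
  Lgr Lrot74 (Lpe (f211673 IH) (Lpr_ef (K35.f211814 IH) (Lpe (f26695 IH) (Lpn (LP (LK LD1_c6 LD2_c4 LD3_c10))))))
theorem f26710 : Led Lsl_at (LP (LK LD1_c6 LD2_c4 LD3_c10)) = (LP (LK LD1_c11 LD2_c51 LD3_c53)) :=
  Lre_a IH (LK LD1_c6 LD2_c4 LD3_c10) (LK LD1_c11 LD2_c51 LD3_c53) Lrfl Lrfl
theorem f211819 : Led Lsl_ef (LP (LK LD1_c9 LD2_c0 LD3_c27)) = (LP (LK LD1_c11 LD2_c51 LD3_c53)) :=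
  Lgr Lrot20 (Lpr_at (f211818 IH) (Lpr_et (f211816 IH) (Lpr_at (f26710 IH) (Lpn (LP (LK LD1_c11 LD2_c51 LD3_c53))))))
theorem f450399 : Led Lsl_ft (LP (LK LD1_c6 LD2_c17 LD3_c9)) = (LP (LK LD1_c11 LD2_c51 LD3_c53)) :=
  Lgr Lrot86 (Lpe (f421057 IH) (Lpr_ff (K38.f450111 IH) (Lpr_ef (K38.f171797 IH) (Lpr_ff (f450397 IH) (Lpr_ef (f211819 IH) (Lpn (LP (LK LD1_c11 LD2_c51 LD3_c53))))))))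
theorem f556073 : Led Lsl_gf (LP (LK LD1_c8 LD2_c14 LD3_c49)) = (LP (LK LD1_c6 LD2_c17 LD3_c9)) :=
  Lgr Lrot47 (Lpr_gt (f556071 IH) (Lpe (f26709 IH) (Lpe (f450399 IH) (Lpn (LP (LK LD1_c6 LD2_c17 LD3_c9))))))
theorem f556062 : Led Lsl_ct (LP (LK LD1_c8 LD2_c14 LD3_c49)) = (LP (LK LD1_c4 LD2_c7 LD3_c14)) :=
  Lre_c IH (LK LD1_c8 LD2_c14 LD3_c49) (LK LD1_c4 LD2_c7 LD3_c14) Lrfl Lrfl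
theorem f539900 : Led Lsl_ct (LP (LK LD1_c11 LD2_c20 LD3_c39)) = (LP (LK LD1_c5 LD2_c53 LD3_c1)) :=
  Lgr Lrot59 (Lpr_cf (K37.f539897 IH) (Lpn (LP (LK LD1_c5 LD2_c53 LD3_c1))))
theorem f387414 : Led Lsl_gt (LP (LK LD1_c5 LD2_c57 LD3_c30)) = (LP (LK LD1_c11 LD2_c20 LD3_c39)) :=
  Lre_g IH (LK LD1_c5 LD2_c57 LD3_c30) (LK LD1_c11 LD2_c20 LD3_c39) Lrfl Lrfl
theorem f387413 : Led Lsl_ct (LP (LK LD1_c2 LD2_c55 LD3_c1)) = (LP (LK LD1_c5 LD2_c57 LD3_c30)) :=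
  Lre_c IH (LK LD1_c2 LD2_c55 LD3_c1) (LK LD1_c5 LD2_c57 LD3_c30) Lrfl Lrfl
theorem f72501 : Led Lsl_gt (LP (LK LD1_c5 LD2_c45 LD3_c4)) = (LP (LK LD1_c2 LD2_c55 LD3_c1)) :=
  Lre_g IH (LK LD1_c5 LD2_c45 LD3_c4) (LK LD1_c2 LD2_c55 LD3_c1) Lrfl Lrfl
theorem f9540 : Led Lsl_gt (LP (LK LD1_c1 LD2_c26 LD3_c10)) = (LP (LK LD1_c3 LD2_c0 LD3_c43)) :=
  Lre_g IH (LK LD1_c1 LD2_c26 LD3_c10) (LK LD1_c3 LD2_c0 LD3_c43) Lrfl Lrfl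
theorem f442632 : Led Lsl_et (LP (LK LD1_c6 LD2_c8 LD3_c51)) = (LP (LK LD1_c3 LD2_c0 LD3_c43)) :=
  Lre_e IH (LK LD1_c6 LD2_c8 LD3_c51) (LK LD1_c3 LD2_c0 LD3_c43) Lrfl Lrfl
theorem f442633 : Led Lsl_df (LP (LK LD1_c5 LD2_c45 LD3_c4)) = (LP (LK LD1_c6 LD2_c8 LD3_c51)) :=
  Lgr Lrot170 (Lpr_gt (f72501 IH) (Lpe (K27.f386661 IH) (Lpr_et (K27.f386662 IH) (Lpr_gt (K2.f72457 IH) (Lpr_dt (K2.f72458 IH) (Lpr_gt (K2.f72460 IH) (Lpe (K2.f72819 IH) (Lpr_et (K37.f72822 IH) (Lpr_gt (f9540 IH) (Lpe (f442632 IH) (Lpn (LP (LK LD1_c6 LD2_c8 LD3_c51)))))))))))))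
theorem f442636 : Led Lsl_dt (LP (LK LD1_c5 LD2_c45 LD3_c4)) = (LP (LK LD1_c6 LD2_c8 LD3_c51)) :=
  Lgr Lrot42 (Lpr_df (f442633 IH) (Lpn (LP (LK LD1_c6 LD2_c8 LD3_c51))))
theorem f421041 : Led Lsl_et (LP (LK LD1_c1 LD2_c21 LD3_c32)) = (LP (LK LD1_c2 LD2_c51 LD3_c2)) :=
  Lre_e IH (LK LD1_c1 LD2_c21 LD3_c32) (LK LD1_c2 LD2_c51 LD3_c2) Lrfl Lrfl
theorem f421042 : Led Lsl_et (LP (LK LD1_c3 LD2_c5 LD3_c45)) = (LP (LK LD1_c1 LD2_c28 LD3_c55)) :=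
  Lre_e IH (LK LD1_c3 LD2_c5 LD3_c45) (LK LD1_c1 LD2_c28 LD3_c55) Lrfl Lrfl
theorem f421043 : Led Lsl_ct (LP (LK LD1_c2 LD2_c51 LD3_c2)) = (LP (LK LD1_c3 LD2_c5 LD3_c45)) :=
  Lgr Lrot15 (Lpe (f421041 IH) (Lpr_cf (K37.f421025 IH) (Lpe (f421042 IH) (Lpn (LP (LK LD1_c3 LD2_c5 LD3_c45))))))
theorem f421048 : Led Lsl_at (LP (LK LD1_c5 LD2_c49 LD3_c49)) = (LP (LK LD1_c2 LD2_c51 LD3_c2)) :=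
  Lre_a IH (LK LD1_c5 LD2_c49 LD3_c49) (LK LD1_c2 LD2_c51 LD3_c2) Lrfl Lrfl
theorem f421049 : Led Lsl_at (LP (LK LD1_c3 LD2_c5 LD3_c45)) = (LP (LK LD1_c6 LD2_c17 LD3_c9)) :=
  Lre_a IH (LK LD1_c3 LD2_c5 LD3_c45) (LK LD1_c6 LD2_c17 LD3_c9) Lrfl Lrfl
theorem f421050 : Led Lsl_cf (LP (LK LD1_c5 LD2_c49 LD3_c49)) = (LP (LK LD1_c6 LD2_c17 LD3_c9)) :=
  Lgr Lrot1 (Lpr_at (f421048 IH) (Lpr_ct (f421043 IH) (Lpr_at (f421049 IH) (Lpn (LP (LK LD1_c6 LD2_c17 LD3_c9))))))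
theorem f421054 : Led Lsl_ct (LP (LK LD1_c5 LD2_c49 LD3_c49)) = (LP (LK LD1_c6 LD2_c17 LD3_c9)) :=
  Lgr Lrot59 (Lpr_cf (f421050 IH) (Lpn (LP (LK LD1_c6 LD2_c17 LD3_c9))))
theorem f556076 : Led Lsl_gt (LP (LK LD1_c6 LD2_c8 LD3_c51)) = (LP (LK LD1_c5 LD2_c49 LD3_c49)) :=
  Lgr Lrot9 (Lpe (f442636 IH) (Lpr_gt (f72501 IH) (Lpr_ct (f387413 IH) (Lpr_gt (f387414 IH) (Lpr_ct (f539900 IH) (Lpe (f556058 IH) (Lpe (f556062 IH) (Lpr_gf (f556073 IH) (Lpe (f421054 IH) (Lpn (LP (LK LD1_c5 LD2_c49 LD3_c49))))))))))))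
theorem f421058 : Led Lsl_at (LP (LK LD1_c2 LD2_c51 LD3_c2)) = (LP (LK LD1_c5 LD2_c49 LD3_c49)) :=
  Lre_a IH (LK LD1_c2 LD2_c51 LD3_c2) (LK LD1_c5 LD2_c49 LD3_c49) Lrfl Lrfl
theorem f450401 : Led Lsl_ff (LP (LK LD1_c3 LD2_c5 LD3_c45)) = (LP (LK LD1_c6 LD2_c4 LD3_c10)) :=
  Lgr Lrot30 (Lpr_at (f421049 IH) (Lpr_ft (f450399 IH) (Lpr_at (f26709 IH) (Lpn (LP (LK LD1_c6 LD2_c4 LD3_c10))))))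
theorem f450405 : Led Lsl_ft (LP (LK LD1_c3 LD2_c5 LD3_c45)) = (LP (LK LD1_c6 LD2_c4 LD3_c10)) :=
  Lgr Lrot48 (Lpr_ff (f450401 IH) (Lpn (LP (LK LD1_c6 LD2_c4 LD3_c10))))
theorem f450407 : Led Lsl_ff (LP (LK LD1_c2 LD2_c51 LD3_c2)) = (LP (LK LD1_c5 LD2_c38 LD3_c45)) :=
  Lgr Lrot23 (Lpr_ct (f421043 IH) (Lpr_ft (f450405 IH) (Lpe (f198493 IH) (Lpn (LP (LK LD1_c5 LD2_c38 LD3_c45))))))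
theorem f556078 : Led Lsl_gf (LP (LK LD1_c6 LD2_c8 LD3_c51)) = (LP (LK LD1_c5 LD2_c38 LD3_c45)) :=
  Lgr Lrot47 (Lpr_gt (f556076 IH) (Lpe (f421058 IH) (Lpr_ff (f450407 IH) (Lpn (LP (LK LD1_c5 LD2_c38 LD3_c45))))))
theorem f442638 : Led Lsl_et (LP (LK LD1_c3 LD2_c0 LD3_c43)) = (LP (LK LD1_c6 LD2_c8 LD3_c51)) :=
  Lre_e IH (LK LD1_c3 LD2_c0 LD3_c43) (LK LD1_c6 LD2_c8 LD3_c51) Lrfl Lrfl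
theorem f75544 : Led Lsl_et (LP (LK LD1_c0 LD2_c38 LD3_c46)) = (LP (LK LD1_c0 LD2_c17 LD3_c12)) :=
  Lre_e IH (LK LD1_c0 LD2_c38 LD3_c46) (LK LD1_c0 LD2_c17 LD3_c12) Lrfl Lrfl
def v1686 : LQ := Led Lsl_gt (LP (LK LD1_c1 LD2_c23 LD3_c57))
theorem f500765 : Led Lsl_gt (LP (LK LD1_c1 LD2_c23 LD3_c57)) = v1686 :=
  Lrfl
theorem f556084 : v1686 = (LP (LK LD1_c2 LD2_c54 LD3_c61)) :=
  (Llr Lrot112 (Lpe (f500765 IH) (Lpe (K36.f75545 IH) (Lpr_et (f75544 IH) (Lpe (K2.f72457 IH) (Lpe (K27.f386662 IH) (Lpr_dt (K27.f386661 IH) (Lpe (f72501 IH) (Lpr_df (f442633 IH) (Lpr_gf (f556078 IH) (Lpe (f24504 IH) (Lpe (f24466 IH) (Lpn (LP (LK LD1_c2 LD2_c54 LD3_c61))))))))))))))).symm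
theorem f172496 : Led Lsl_dt (LP (LK LD1_c2 LD2_c47 LD3_c13)) = (LP (LK LD1_c5 LD2_c42 LD3_c30)) :=
  Lre_d IH (LK LD1_c2 LD2_c47 LD3_c13) (LK LD1_c5 LD2_c42 LD3_c30) Lrfl Lrfl
theorem f140396 : Led Lsl_dt (LP (LK LD1_c4 LD2_c57 LD3_c38)) = (LP (LK LD1_c9 LD2_c46 LD3_c5)) :=
  Lre_d IH (LK LD1_c4 LD2_c57 LD3_c38) (LK LD1_c9 LD2_c46 LD3_c5) Lrfl Lrfl
theorem f40741 : Led Lsl_bt (LP (LK LD1_c2 LD2_c26 LD3_c42)) = (LP (LK LD1_c1 LD2_c10 LD3_c40)) :=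
  Lre_b IH (LK LD1_c2 LD2_c26 LD3_c42) (LK LD1_c1 LD2_c10 LD3_c40) Lrfl Lrfl
theorem f140336 : Led Lsl_ct (LP (LK LD1_c2 LD2_c26 LD3_c42)) = (LP (LK LD1_c4 LD2_c57 LD3_c38)) :=
  Lre_c IH (LK LD1_c2 LD2_c26 LD3_c42) (LK LD1_c4 LD2_c57 LD3_c38) Lrfl Lrfl
theorem f172144 : Led Lsl_gt (LP (LK LD1_c5 LD2_c44 LD3_c11)) = (LP (LK LD1_c4 LD2_c57 LD3_c38)) :=
  Lgr Lrot65 (Lpe (K38.f172143 IH) (Lpr_bt (K27.f172142 IH) (Lpe (K27.f75568 IH) (Lpe (K35.f172141 IH) (Lpr_ct (K9.f168229 IH) (Lpe (K9.f44741 IH) (Lpe (K9.f172139 IH) (Lpr_gf (K9.f172135 IH) (Lpe (f40741 IH) (Lpr_ct (f140336 IH) (Lpn (LP (LK LD1_c4 LD2_c57 LD3_c38)))))))))))))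
theorem f172449 : Led Lsl_dt (LP (LK LD1_c5 LD2_c42 LD3_c30)) = (LP (LK LD1_c2 LD2_c47 LD3_c13)) :=
  Lre_d IH (LK LD1_c5 LD2_c42 LD3_c30) (LK LD1_c2 LD2_c47 LD3_c13) Lrfl Lrfl
theorem f424042 : Led Lsl_gt (LP (LK LD1_c2 LD2_c48 LD3_c3)) = (LP (LK LD1_c5 LD2_c42 LD3_c30)) :=
  Lgr Lrot94 (Lpe (K27.f270615 IH) (Lpr_gt (f172144 IH) (Lpr_dt (f140396 IH) (Lpe (K27.f270616 IH) (Lpr_dt (K27.f382123 IH) (Lpe (K36.f382121 IH) (Lpe (K36.f381644 IH) (Lpr_gf (K37.f423995 IH) (Lpe (f172449 IH) (Lpn (LP (LK LD1_c5 LD2_c42 LD3_c30))))))))))))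
theorem f556086 : Led Lsl_dt (LP (LK LD1_c3 LD2_c0 LD3_c43)) = (LP (LK LD1_c2 LD2_c48 LD3_c3)) :=
  Lgr Lrot136 (Lpr_et (f442638 IH) (Lpr_gf (f556078 IH) (Lpe (f24504 IH) (Lpe (f24466 IH) (Lpq (f556084 IH) (Lpe (f500765 IH) (Lpe (K36.f75545 IH) (Lpe (K36.f428177 IH) (Lpr_ef (f500760 IH) (Lpqs (f555923 IH) (Lpr_dt (f172496 IH) (Lpe (f424042 IH) (Lpn (LP (LK LD1_c2 LD2_c48 LD3_c3)))))))))))))))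
theorem f383451 : Led Lsl_ft (LP (LK LD1_c2 LD2_c48 LD3_c0)) = (LP (LK LD1_c1 LD2_c20 LD3_c17)) :=
  Lgr Lrot4 (Lpe (K27.f255977 IH) (Lpr_ff (K27.f383449 IH) (Lpe (K27.f381609 IH) (Lpn (LP (LK LD1_c1 LD2_c20 LD3_c17))))))
theorem f383648 : Led Lsl_af (LP (LK LD1_c2 LD2_c48 LD3_c0)) = (LP (LK LD1_c1 LD2_c20 LD3_c18)) :=
  Lgr Lrot45 (Lpr_ft (f383451 IH) (Lpe (K27.f383543 IH) (Lpr_ft (K27.f383646 IH) (Lpn (LP (LK LD1_c1 LD2_c20 LD3_c18))))))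
theorem f556096 : Led Lsl_cf (LP (LK LD1_c3 LD2_c0 LD3_c43)) = (LP (LK LD1_c4 LD2_c31 LD3_c0)) :=
  Lgr Lrot118 (Lpr_dt (f556086 IH) (Lpr_ct (K38.f172143 IH) (Lpe (K27.f384132 IH) (Lpe (K27.f184349 IH) (Lpe (K27.f310096 IH) (Lpr_ct (K27.f255977 IH) (Lpr_af (f383648 IH) (Lpe (K27.f383646 IH) (Lpr_dt (K27.f383970 IH) (Lpn (LP (LK LD1_c4 LD2_c31 LD3_c0))))))))))))
theorem f380292 : Led Lsl_gf (LP (LK LD1_c2 LD2_c12 LD3_c51)) = (LP (LK LD1_c1 LD2_c18 LD3_c45)) :=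
  Lgr Lrot76 (Lpe (K35.f169110 IH) (Lpr_ff (K31.f380268 IH) (Lpr_gt (K38.f211848 IH) (Lpn (LP (LK LD1_c1 LD2_c18 LD3_c45))))))
theorem f211888 : Led Lsl_ct (LP (LK LD1_c2 LD2_c44 LD3_c52)) = (LP (LK LD1_c1 LD2_c18 LD3_c45)) :=
  Lre_c IH (LK LD1_c2 LD2_c44 LD3_c52) (LK LD1_c1 LD2_c18 LD3_c45) Lrfl Lrfl
theorem f380298 : Led Lsl_gt (LP (LK LD1_c5 LD2_c37 LD3_c55)) = (LP (LK LD1_c2 LD2_c44 LD3_c52)) :=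
  Lre_g IH (LK LD1_c5 LD2_c37 LD3_c55) (LK LD1_c2 LD2_c44 LD3_c52) Lrfl Lrfl
theorem f556106 : Led Lsl_bf (LP (LK LD1_c5 LD2_c37 LD3_c55)) = (LP (LK LD1_c4 LD2_c31 LD3_c0)) :=
  Lgr Lrot165 (Lpr_gt (f380298 IH) (Lpr_ct (f211888 IH) (Lpe (f380292 IH) (Lpr_cf (K35.f380266 IH) (Lpe (K38.f354443 IH) (Lpqs (K38.f537760 IH) (Lpe (K37.f452518 IH) (Lpe (f72955 IH) (Lpe (f72945 IH) (Lpr_gt (f9540 IH) (Lpr_cf (f556096 IH) (Lpn (LP (LK LD1_c4 LD2_c31 LD3_c0))))))))))))))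
theorem f556115 : Led Lsl_ft (LP (LK LD1_c5 LD2_c37 LD3_c55)) = (LP (LK LD1_c5 LD2_c37 LD3_c20)) :=
  Lgr Lrot75 (Lpr_bf (f556106 IH) (Lpe (K27.f384030 IH) (Lpe (K38.f211963 IH) (Lpn (LP (LK LD1_c5 LD2_c37 LD3_c20))))))
theorem f211965 : Led Lsl_gt (LP (LK LD1_c2 LD2_c44 LD3_c52)) = (LP (LK LD1_c5 LD2_c37 LD3_c54)) :=
  Lre_g IH (LK LD1_c2 LD2_c44 LD3_c52) (LK LD1_c5 LD2_c37 LD3_c54) Lrfl Lrfl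
theorem f556122 : Led Lsl_af (LP (LK LD1_c5 LD2_c37 LD3_c54)) = (LP (LK LD1_c5 LD2_c37 LD3_c20)) :=
  Lgr Lrot31 (Lpe (f211965 IH) (Lpe (f380298 IH) (Lpr_ft (f556115 IH) (Lpn (LP (LK LD1_c5 LD2_c37 LD3_c20))))))
theorem f556126 : Led Lsl_dt (LP (LK LD1_c5 LD2_c37 LD3_c54)) = (LP (LK LD1_c5 LD2_c44 LD3_c22)) :=
  Lgr Lrot44 (Lpr_af (f556122 IH) (Lpr_df (K38.f384039 IH) (Lpe (K31.f384043 IH) (Lpn (LP (LK LD1_c5 LD2_c44 LD3_c22))))))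
theorem f319375 : Led Lsl_at (LP (LK LD1_c2 LD2_c44 LD3_c58)) = (LP (LK LD1_c1 LD2_c18 LD3_c48)) :=
  Lre_a IH (LK LD1_c2 LD2_c44 LD3_c58) (LK LD1_c1 LD2_c18 LD3_c48) Lrfl Lrfl
theorem f380422 : Led Lsl_gt (LP (LK LD1_c4 LD2_c31 LD3_c43)) = (LP (LK LD1_c2 LD2_c44 LD3_c61)) :=
  Lgr Lrot5 (Lpr_ft (K35.f380415 IH) (Lpr_at (f319375 IH) (Lpe (K31.f172345 IH) (Lpn (LP (LK LD1_c2 LD2_c44 LD3_c61))))))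
theorem f556132 : Led Lsl_gf (LP (LK LD1_c5 LD2_c40 LD3_c20)) = (LP (LK LD1_c5 LD2_c44 LD3_c22)) :=
  Lgr Lrot143 (Lpr_dt (K31.f181272 IH) (Lpe (K31.f181266 IH) (Lpr_df (K31.f423196 IH) (Lpe (f380422 IH) (Lpe (K35.f354446 IH) (Lpr_gf (f380292 IH) (Lpe (f211888 IH) (Lpr_gt (f211965 IH) (Lpr_dt (f556126 IH) (Lpn (LP (LK LD1_c5 LD2_c44 LD3_c22))))))))))))
theorem f171844 : Led Lsl_ct (LP (LK LD1_c2 LD2_c45 LD3_c0)) = (LP (LK LD1_c1 LD2_c18 LD3_c48)) :=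
  Lre_c IH (LK LD1_c2 LD2_c45 LD3_c0) (LK LD1_c1 LD2_c18 LD3_c48) Lrfl Lrfl
theorem f289412 : Led Lsl_ct (LP (LK LD1_c2 LD2_c44 LD3_c56)) = (LP (LK LD1_c1 LD2_c18 LD3_c46)) :=
  Lre_c IH (LK LD1_c2 LD2_c44 LD3_c56) (LK LD1_c1 LD2_c18 LD3_c46) Lrfl Lrfl
theorem f556134 : Led Lsl_gt (LP (LK LD1_c5 LD2_c37 LD3_c54)) = (LP (LK LD1_c2 LD2_c44 LD3_c56)) :=
  Lgr Lrot146 (Lpr_dt (f556126 IH) (Lpe (f556132 IH) (Lpe (K31.f411840 IH) (Lpr_gt (K31.f171847 IH) (Lpr_ct (f171844 IH) (Lpr_dt (K31.f289594 IH) (Lpr_cf (K31.f177843 IH) (Lpe (K38.f289411 IH) (Lpe (f289412 IH) (Lpn (LP (LK LD1_c2 LD2_c44 LD3_c56))))))))))))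
theorem f211964 : Led Lsl_ct (LP (LK LD1_c5 LD2_c37 LD3_c20)) = (LP (LK LD1_c5 LD2_c37 LD3_c54)) :=
  Lre_c IH (LK LD1_c5 LD2_c37 LD3_c20) (LK LD1_c5 LD2_c37 LD3_c54) Lrfl Lrfl
theorem f210376 : Led Lsl_bt (LP (LK LD1_c2 LD2_c8 LD3_c40)) = (LP (LK LD1_c4 LD2_c22 LD3_c26)) :=
  Lre_b IH (LK LD1_c2 LD2_c8 LD3_c40) (LK LD1_c4 LD2_c22 LD3_c26) Lrfl Lrfl
theorem f255463 : Led Lsl_ft (LP (LK LD1_c4 LD2_c22 LD3_c26)) = (LP (LK LD1_c2 LD2_c44 LD3_c28)) :=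
  Lgr Lrot75 (Lpe (f210376 IH) (Lpr_ff (K14.f255461 IH) (Lpe (K13.f164874 IH) (Lpn (LP (LK LD1_c2 LD2_c44 LD3_c28))))))
theorem f210367 : Led Lsl_gt (LP (LK LD1_c4 LD2_c22 LD3_c26)) = (LP (LK LD1_c8 LD2_c42 LD3_c47)) :=
  Lre_g IH (LK LD1_c4 LD2_c22 LD3_c26) (LK LD1_c8 LD2_c42 LD3_c47) Lrfl Lrfl
theorem f413412 : Led Lsl_gt (LP (LK LD1_c8 LD2_c42 LD3_c47)) = (LP (LK LD1_c5 LD2_c37 LD3_c7)) :=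
  Lgr Lrot46 (Lpe (f210367 IH) (Lpr_ft (f255463 IH) (Lpr_at (K18.f164870 IH) (Lpn (LP (LK LD1_c5 LD2_c37 LD3_c7))))))
theorem f380450 : Led Lsl_ct (LP (LK LD1_c1 LD2_c18 LD3_c46)) = (LP (LK LD1_c2 LD2_c44 LD3_c56)) :=
  Lre_c IH (LK LD1_c1 LD2_c18 LD3_c46) (LK LD1_c2 LD2_c44 LD3_c56) Lrfl Lrfl
theorem f422721 : Led Lsl_bt (LP (LK LD1_c1 LD2_c18 LD3_c46)) = (LP (LK LD1_c2 LD2_c44 LD3_c55)) :=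
  Lre_b IH (LK LD1_c1 LD2_c18 LD3_c46) (LK LD1_c2 LD2_c44 LD3_c55) Lrfl Lrfl
theorem f547772 : Led Lsl_gt (LP (LK LD1_c2 LD2_c44 LD3_c55)) = (LP (LK LD1_c5 LD2_c37 LD3_c60)) :=
  Lre_g IH (LK LD1_c2 LD2_c44 LD3_c55) (LK LD1_c5 LD2_c37 LD3_c60) Lrfl Lrfl
theorem f556140 : Led Lsl_cf (LP (LK LD1_c8 LD2_c42 LD3_c47)) = (LP (LK LD1_c5 LD2_c37 LD3_c60)) :=
  Lgr Lrot125 (Lpr_gt (f413412 IH) (Lpe (K18.f164965 IH) (Lpe (K18.f302413 IH) (Lpe (K27.f386864 IH) (Lpe (K38.f211963 IH) (Lpr_ct (f211964 IH) (Lpr_gt (f556134 IH) (Lpe (f380450 IH) (Lpr_bt (f422721 IH) (Lpr_gt (f547772 IH) (Lpn (LP (LK LD1_c5 LD2_c37 LD3_c60)))))))))))))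
theorem f552532 : Led Lsl_gt (LP (LK LD1_c3 LD2_c0 LD3_c55)) = (LP (LK LD1_c2 LD2_c12 LD3_c29)) :=
  Lgr Lrot5 (Lpr_ft (K38.f495981 IH) (Lpq (K38.f547308 IH) (Lpr_at (K38.f547437 IH) (Lpe (K38.f174632 IH) (Lpn (LP (LK LD1_c2 LD2_c12 LD3_c29)))))))
theorem f60723 : Led Lsl_bt (LP (LK LD1_c1 LD2_c28 LD3_c29)) = (LP (LK LD1_c3 LD2_c4 LD3_c50)) :=
  Lre_b IH (LK LD1_c1 LD2_c28 LD3_c29) (LK LD1_c3 LD2_c4 LD3_c50) Lrfl Lrfl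
theorem f60759 : Led Lsl_gt (LP (LK LD1_c6 LD2_c15 LD3_c22)) = (LP (LK LD1_c3 LD2_c4 LD3_c50)) :=
  Lre_g IH (LK LD1_c6 LD2_c15 LD3_c22) (LK LD1_c3 LD2_c4 LD3_c50) Lrfl Lrfl
theorem f556151 : Led Lsl_bf (LP (LK LD1_c6 LD2_c15 LD3_c22)) = (LP (LK LD1_c5 LD2_c37 LD3_c60)) :=
  Lgr Lrot156 (Lpr_gt (f60759 IH) (Lpe (f60723 IH) (Lpr_ct (K24.f60434 IH) (Lpr_gt (K10.f193783 IH) (Lpr_cf (K16.f193977 IH) (Lpr_bt (K36.f193974 IH) (Lpr_gt (f552532 IH) (Lpe (K32.f210362 IH) (Lpr_gt (f210367 IH) (Lpr_cf (f556140 IH) (Lpn (LP (LK LD1_c5 LD2_c37 LD3_c60)))))))))))))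
theorem f60813 : Led Lsl_dt (LP (LK LD1_c6 LD2_c15 LD3_c22)) = (LP (LK LD1_c12 LD2_c8 LD3_c51)) :=
  Lre_d IH (LK LD1_c6 LD2_c15 LD3_c22) (LK LD1_c12 LD2_c8 LD3_c51) Lrfl Lrfl
theorem f439562 : Led Lsl_ft (LP (LK LD1_c13 LD2_c47 LD3_c23)) = (LP (LK LD1_c7 LD2_c17 LD3_c19)) :=
  Lre_f IH (LK LD1_c13 LD2_c47 LD3_c23) (LK LD1_c7 LD2_c17 LD3_c19) Lrfl Lrfl
theorem f554053 : Led Lsl_ef (LP (LK LD1_c13 LD2_c47 LD3_c23)) = (LP (LK LD1_c8 LD2_c50 LD3_c43)) :=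
  Lgr Lrot21 (Lpr_ft (f439562 IH) (Lpr_et (f554047 IH) (Lpr_ft (K14.f255507 IH) (Lpr_et (K37.f80454 IH) (Lpr_ft (K37.f80905 IH) (Lpn (LP (LK LD1_c8 LD2_c50 LD3_c43))))))))
theorem f554063 : Led Lsl_et (LP (LK LD1_c13 LD2_c47 LD3_c23)) = (LP (LK LD1_c8 LD2_c50 LD3_c43)) :=
  Lgr Lrot87 (Lpr_ef (f554053 IH) (Lpn (LP (LK LD1_c8 LD2_c50 LD3_c43))))
theorem f208986 : Led Lsl_dt (LP (LK LD1_c13 LD2_c47 LD3_c23)) = (LP (LK LD1_c7 LD2_c17 LD3_c20)) :=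
  Lre_d IH (LK LD1_c13 LD2_c47 LD3_c23) (LK LD1_c7 LD2_c17 LD3_c20) Lrfl Lrfl
theorem f210895 : Led Lsl_dt (LP (LK LD1_c21 LD2_c14 LD3_c51)) = (LP (LK LD1_c12 LD2_c8 LD3_c32)) :=
  Lre_d IH (LK LD1_c21 LD2_c14 LD3_c51) (LK LD1_c12 LD2_c8 LD3_c32) Lrfl Lrfl
theorem f204977 : Led Lsl_dt (LP (LK LD1_c12 LD2_c23 LD3_c7)) = (LP (LK LD1_c18 LD2_c23 LD3_c6)) :=
  Lgr Lrot42 (Lpr_df (K37.f204957 IH) (Lpn (LP (LK LD1_c18 LD2_c23 LD3_c6))))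
theorem f204979 : Led Lsl_et (LP (LK LD1_c12 LD2_c23 LD3_c7)) = (LP (LK LD1_c21 LD2_c30 LD3_c6)) :=
  Lre_e IH (LK LD1_c12 LD2_c23 LD3_c7) (LK LD1_c21 LD2_c30 LD3_c6) Lrfl Lrfl
theorem f554165 : Led Lsl_gf (LP (LK LD1_c21 LD2_c14 LD3_c51)) = (LP (LK LD1_c21 LD2_c30 LD3_c6)) :=
  Lgr Lrot138 (Lpr_dt (f210895 IH) (Lpr_gt (K37.f543597 IH) (Lpe (f208986 IH) (Lpr_et (f554063 IH) (Lpe (K11.f201941 IH) (Lpe (K37.f59321 IH) (Lpr_dt (K37.f59314 IH) (Lpe (K37.f204959 IH) (Lpe (f204977 IH) (Lpr_et (f204979 IH) (Lpn (LP (LK LD1_c21 LD2_c30 LD3_c6)))))))))))))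
theorem f515992 : Led Lsl_et (LP (LK LD1_c7 LD2_c8 LD3_c48)) = (LP (LK LD1_c3 LD2_c33 LD3_c53)) :=
  Lre_e IH (LK LD1_c7 LD2_c8 LD3_c48) (LK LD1_c3 LD2_c33 LD3_c53) Lrfl Lrfl
theorem f515993 : Led Lsl_dt (LP (LK LD1_c7 LD2_c8 LD3_c48)) = (LP (LK LD1_c13 LD2_c32 LD3_c9)) :=
  Lre_d IH (LK LD1_c7 LD2_c8 LD3_c48) (LK LD1_c13 LD2_c32 LD3_c9) Lrfl Lrfl
theorem f146354 : Led Lsl_dt (LP (LK LD1_c2 LD2_c50 LD3_c57)) = (LP (LK LD1_c1 LD2_c21 LD3_c27)) :=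
  Lre_d IH (LK LD1_c2 LD2_c50 LD3_c57) (LK LD1_c1 LD2_c21 LD3_c27) Lrfl Lrfl
theorem f59062 : Led Lsl_dt (LP (LK LD1_c3 LD2_c4 LD3_c32)) = (LP (LK LD1_c1 LD2_c28 LD3_c15)) :=
  Lre_d IH (LK LD1_c3 LD2_c4 LD3_c32) (LK LD1_c1 LD2_c28 LD3_c15) Lrfl Lrfl
theorem f205235 : Led Lsl_et (LP (LK LD1_c3 LD2_c4 LD3_c32)) = (LP (LK LD1_c6 LD2_c15 LD3_c7)) :=
  Lre_e IH (LK LD1_c3 LD2_c4 LD3_c32) (LK LD1_c6 LD2_c15 LD3_c7) Lrfl Lrfl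
theorem f210894 : Led Lsl_dt (LP (LK LD1_c12 LD2_c8 LD3_c32)) = (LP (LK LD1_c21 LD2_c14 LD3_c51)) :=
  Lre_d IH (LK LD1_c12 LD2_c8 LD3_c32) (LK LD1_c21 LD2_c14 LD3_c51) Lrfl Lrfl
theorem f543047 : Led Lsl_gf (LP (LK LD1_c13 LD2_c32 LD3_c9)) = (LP (LK LD1_c21 LD2_c14 LD3_c51)) :=
  Lgr Lrot134 (Lpe (f515993 IH) (Lpr_et (f515992 IH) (Lpr_gt (K37.f543035 IH) (Lpe (K36.f210738 IH) (Lpr_dt (f146354 IH) (Lpr_gt (K11.f205214 IH) (Lpe (f59062 IH) (Lpr_et (f205235 IH) (Lpr_gt (K37.f210893 IH) (Lpr_dt (f210894 IH) (Lpn (LP (LK LD1_c21 LD2_c14 LD3_c51)))))))))))))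
theorem f526892 : Led Lsl_at (LP (LK LD1_c22 LD2_c53 LD3_c49)) = (LP (LK LD1_c13 LD2_c32 LD3_c9)) :=
  Lre_a IH (LK LD1_c22 LD2_c53 LD3_c49) (LK LD1_c13 LD2_c32 LD3_c9) Lrfl Lrfl
theorem f554167 : Led Lsl_ff (LP (LK LD1_c22 LD2_c53 LD3_c49)) = (LP (LK LD1_c21 LD2_c30 LD3_c6)) :=
  Lgr Lrot52 (Lpr_at (f526892 IH) (Lpr_gf (f543047 IH) (Lpr_gf (f554165 IH) (Lpn (LP (LK LD1_c21 LD2_c30 LD3_c6))))))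
theorem f554173 : Led Lsl_ft (LP (LK LD1_c22 LD2_c53 LD3_c49)) = (LP (LK LD1_c21 LD2_c30 LD3_c6)) :=
  Lgr Lrot48 (Lpr_ff (f554167 IH) (Lpn (LP (LK LD1_c21 LD2_c30 LD3_c6))))
theorem f535507 : Led Lsl_dt (LP (LK LD1_c13 LD2_c32 LD3_c1)) = (LP (LK LD1_c22 LD2_c53 LD3_c49)) :=
  Lre_d IH (LK LD1_c13 LD2_c32 LD3_c1) (LK LD1_c22 LD2_c53 LD3_c49) Lrfl Lrfl
theorem f535515 : Led Lsl_ft (LP (LK LD1_c22 LD2_c53 LD3_c50)) = (LP (LK LD1_c13 LD2_c32 LD3_c1)) :=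
  Lre_f IH (LK LD1_c22 LD2_c53 LD3_c50) (LK LD1_c13 LD2_c32 LD3_c1) Lrfl Lrfl
theorem f554177 : Led Lsl_df (LP (LK LD1_c22 LD2_c53 LD3_c50)) = (LP (LK LD1_c21 LD2_c30 LD3_c6)) :=
  Lgr Lrot78 (Lpr_ft (f535515 IH) (Lpr_dt (f535507 IH) (Lpr_ft (f554173 IH) (Lpn (LP (LK LD1_c21 LD2_c30 LD3_c6))))))
theorem f554182 : Led Lsl_gt (LP (LK LD1_c13 LD2_c32 LD3_c7)) = (LP (LK LD1_c22 LD2_c53 LD3_c50)) :=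
  Lre_g IH (LK LD1_c13 LD2_c32 LD3_c7) (LK LD1_c22 LD2_c53 LD3_c50) Lrfl Lrfl
theorem f36374 : Led Lsl_et (LP (LK LD1_c21 LD2_c30 LD3_c6)) = (LP (LK LD1_c12 LD2_c23 LD3_c7)) :=
  Lre_e IH (LK LD1_c21 LD2_c30 LD3_c6) (LK LD1_c12 LD2_c23 LD3_c7) Lrfl Lrfl
theorem f554051 : Led Lsl_ef (LP (LK LD1_c7 LD2_c17 LD3_c19)) = (LP (LK LD1_c5 LD2_c50 LD3_c48)) :=
  Lgr Lrot88 (Lpr_et (f554047 IH) (Lpn (LP (LK LD1_c5 LD2_c50 LD3_c48))))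
theorem f469405 : Led Lsl_gt (LP (LK LD1_c7 LD2_c17 LD3_c19)) = (LP (LK LD1_c13 LD2_c47 LD3_c22)) :=
  Lre_g IH (LK LD1_c7 LD2_c17 LD3_c19) (LK LD1_c13 LD2_c47 LD3_c22) Lrfl Lrfl
theorem f554183 : Led Lsl_df (LP (LK LD1_c13 LD2_c32 LD3_c7)) = (LP (LK LD1_c13 LD2_c47 LD3_c22)) :=
  Lgr Lrot135 (Lpr_gt (f554182 IH) (Lpr_df (f554177 IH) (Lpr_et (f36374 IH) (Lpr_gt (K37.f36366 IH) (Lpe (K32.f36350 IH) (Lpr_dt (K37.f36387 IH) (Lpe (K14.f255481 IH) (Lpe (K36.f205196 IH) (Lpe (f554051 IH) (Lpr_gt (f469405 IH) (Lpn (LP (LK LD1_c13 LD2_c47 LD3_c22)))))))))))))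
theorem f439638 : Led Lsl_dt (LP (LK LD1_c3 LD2_c38 LD3_c29)) = (LP (LK LD1_c7 LD2_c17 LD3_c19)) :=
  Lre_d IH (LK LD1_c3 LD2_c38 LD3_c29) (LK LD1_c7 LD2_c17 LD3_c19) Lrfl Lrfl
theorem f116164 : Led Lsl_dt (LP (LK LD1_c3 LD2_c44 LD3_c3)) = (LP (LK LD1_c7 LD2_c28 LD3_c57)) :=
  Lre_d IH (LK LD1_c3 LD2_c44 LD3_c3) (LK LD1_c7 LD2_c28 LD3_c57) Lrfl Lrfl
theorem f463032 : Led Lsl_gt (LP (LK LD1_c7 LD2_c28 LD3_c57)) = (LP (LK LD1_c14 LD2_c7 LD3_c28)) :=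
  Lre_g IH (LK LD1_c7 LD2_c28 LD3_c57) (LK LD1_c14 LD2_c7 LD3_c28) Lrfl Lrfl
theorem f533504 : Led Lsl_at (LP (LK LD1_c22 LD2_c35 LD3_c23)) = (LP (LK LD1_c22 LD2_c44 LD3_c13)) :=
  Lgr Lrot100 (Lpr_af (K35.f533495 IH) (Lpn (LP (LK LD1_c22 LD2_c44 LD3_c13))))
theorem f111328 : Led Lsl_ft (LP (LK LD1_c13 LD2_c19 LD3_c0)) = (LP (LK LD1_c22 LD2_c35 LD3_c23)) :=
  Lre_f IH (LK LD1_c13 LD2_c19 LD3_c0) (LK LD1_c22 LD2_c35 LD3_c23) Lrfl Lrfl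
theorem f533517 : Led Lsl_gf (LP (LK LD1_c14 LD2_c7 LD3_c23)) = (LP (LK LD1_c13 LD2_c19 LD3_c0)) :=
  Lgr Lrot47 (Lpr_gt (K35.f533515 IH) (Lpe (f533504 IH) (Lpe (f111328 IH) (Lpn (LP (LK LD1_c13 LD2_c19 LD3_c0))))))
theorem f466134 : Led Lsl_ct (LP (LK LD1_c22 LD2_c44 LD3_c6)) = (LP (LK LD1_c13 LD2_c25 LD3_c20)) :=
  Lre_c IH (LK LD1_c22 LD2_c44 LD3_c6) (LK LD1_c13 LD2_c25 LD3_c20) Lrfl Lrfl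
theorem f468300 : Led Lsl_gt (LP (LK LD1_c30 LD2_c41 LD3_c13)) = (LP (LK LD1_c22 LD2_c44 LD3_c6)) :=
  Lre_g IH (LK LD1_c30 LD2_c41 LD3_c13) (LK LD1_c22 LD2_c44 LD3_c6) Lrfl Lrfl
theorem f468222 : Led Lsl_bt (LP (LK LD1_c13 LD2_c25 LD3_c20)) = (LP (LK LD1_c7 LD2_c4 LD3_c52)) :=
  Lre_b IH (LK LD1_c13 LD2_c25 LD3_c20) (LK LD1_c7 LD2_c4 LD3_c52) Lrfl Lrfl
theorem f466135 : Led Lsl_ct (LP (LK LD1_c13 LD2_c25 LD3_c20)) = (LP (LK LD1_c22 LD2_c44 LD3_c6)) :=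
  Lre_c IH (LK LD1_c13 LD2_c25 LD3_c20) (LK LD1_c22 LD2_c44 LD3_c6) Lrfl Lrfl
theorem f469449 : Led Lsl_bt (LP (LK LD1_c23 LD2_c41 LD3_c55)) = (LP (LK LD1_c14 LD2_c7 LD3_c28)) :=
  Lre_b IH (LK LD1_c23 LD2_c41 LD3_c55) (LK LD1_c14 LD2_c7 LD3_c28) Lrfl Lrfl
theorem f469829 : Led Lsl_cf (LP (LK LD1_c30 LD2_c41 LD3_c13)) = (LP (LK LD1_c23 LD2_c41 LD3_c55)) :=
  Lgr Lrot160 (Lpr_gt (f468300 IH) (Lpe (f466135 IH) (Lpr_bt (f468222 IH) (Lpr_gt (K28.f468296 IH) (Lpr_ct (K28.f129176 IH) (Lpr_gt (K28.f469644 IH) (Lpe (K28.f116141 IH) (Lpr_bt (K4.f116293 IH) (Lpr_gt (f463032 IH) (Lpe (f469449 IH) (Lpn (LP (LK LD1_c23 LD2_c41 LD3_c55)))))))))))))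
theorem f535045 : Led Lsl_gf (LP (LK LD1_c23 LD2_c41 LD3_c55)) = (LP (LK LD1_c22 LD2_c35 LD3_c22)) :=
  Lgr Lrot147 (Lpe (f469829 IH) (Lpr_gt (f468300 IH) (Lpr_ct (f466134 IH) (Lpe (K28.f466130 IH) (Lpe (K34.f469126 IH) (Lpr_gf (K35.f489682 IH) (Lpe (K35.f489684 IH) (Lpr_gf (f533517 IH) (Lpe (K35.f111258 IH) (Lpn (LP (LK LD1_c22 LD2_c35 LD3_c22))))))))))))
theorem f419746 : Led Lsl_dt (LP (LK LD1_c7 LD2_c33 LD3_c58)) = (LP (LK LD1_c14 LD2_c15 LD3_c61)) :=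
  Lre_d IH (LK LD1_c7 LD2_c33 LD3_c58) (LK LD1_c14 LD2_c15 LD3_c61) Lrfl Lrfl
theorem f420067 : Led Lsl_gt (LP (LK LD1_c14 LD2_c15 LD3_c61)) = (LP (LK LD1_c23 LD2_c52 LD3_c42)) :=
  Lre_g IH (LK LD1_c14 LD2_c15 LD3_c61) (LK LD1_c23 LD2_c52 LD3_c42) Lrfl Lrfl
theorem f532115 : Led Lsl_gf (LP (LK LD1_c13 LD2_c25 LD3_c20)) = (LP (LK LD1_c13 LD2_c56 LD3_c51)) :=
  Lgr Lrot47 (Lpr_gt (K34.f466131 IH) (Lpr_af (K34.f532103 IH) (Lpe (K34.f531958 IH) (Lpn (LP (LK LD1_c13 LD2_c56 LD3_c51))))))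
theorem f468220 : Led Lsl_gt (LP (LK LD1_c22 LD2_c44 LD3_c6)) = (LP (LK LD1_c30 LD2_c41 LD3_c12)) :=
  Lre_g IH (LK LD1_c22 LD2_c44 LD3_c6) (LK LD1_c30 LD2_c41 LD3_c12) Lrfl Lrfl
theorem f439175 : Led Lsl_ct (LP (LK LD1_c7 LD2_c22 LD3_c33)) = (LP (LK LD1_c13 LD2_c56 LD3_c52)) :=
  Lre_c IH (LK LD1_c7 LD2_c22 LD3_c33) (LK LD1_c13 LD2_c56 LD3_c52) Lrfl Lrfl
theorem f147153 : Led Lsl_dt (LP (LK LD1_c7 LD2_c23 LD3_c18)) = (LP (LK LD1_c3 LD2_c41 LD3_c24)) :=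
  Lre_d IH (LK LD1_c7 LD2_c23 LD3_c18) (LK LD1_c3 LD2_c41 LD3_c24) Lrfl Lrfl
theorem f146954 : Led Lsl_ct (LP (LK LD1_c13 LD2_c58 LD3_c13)) = (LP (LK LD1_c7 LD2_c23 LD3_c18)) :=
  Lre_c IH (LK LD1_c13 LD2_c58 LD3_c13) (LK LD1_c7 LD2_c23 LD3_c18) Lrfl Lrfl
theorem f489672 : Led Lsl_gt (LP (LK LD1_c13 LD2_c56 LD3_c52)) = (LP (LK LD1_c13 LD2_c58 LD3_c13)) :=
  Lgr Lrot150 (Lpe (f439175 IH) (Lpe (K34.f439172 IH) (Lpe (K28.f122487 IH) (Lpr_gt (K28.f122535 IH) (Lpr_ct (K28.f464545 IH) (Lpr_gt (K28.f116045 IH) (Lpr_ct (K28.f147293 IH) (Lpe (f147153 IH) (Lpe (f146954 IH) (Lpn (LP (LK LD1_c13 LD2_c58 LD3_c13))))))))))))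
theorem f146955 : Led Lsl_af (LP (LK LD1_c13 LD2_c58 LD3_c13)) = (LP (LK LD1_c14 LD2_c7 LD3_c17)) :=
  Lgr Lrot68 (Lpr_ct (f146954 IH) (Lpr_at (K8.f146944 IH) (Lpr_ct (K34.f130745 IH) (Lpn (LP (LK LD1_c14 LD2_c7 LD3_c17))))))
theorem f147086 : Led Lsl_ft (LP (LK LD1_c7 LD2_c28 LD3_c49)) = (LP (LK LD1_c14 LD2_c7 LD3_c17)) :=
  Lre_f IH (LK LD1_c7 LD2_c28 LD3_c49) (LK LD1_c14 LD2_c7 LD3_c17) Lrfl Lrfl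
theorem f489674 : Led Lsl_gf (LP (LK LD1_c13 LD2_c56 LD3_c52)) = (LP (LK LD1_c7 LD2_c28 LD3_c49)) :=
  Lgr Lrot47 (Lpr_gt (f489672 IH) (Lpr_af (f146955 IH) (Lpe (f147086 IH) (Lpn (LP (LK LD1_c7 LD2_c28 LD3_c49))))))
theorem f123829 : Led Lsl_bt (LP (LK LD1_c23 LD2_c41 LD3_c14)) = (LP (LK LD1_c14 LD2_c7 LD3_c1)) :=
  Lre_b IH (LK LD1_c23 LD2_c41 LD3_c14) (LK LD1_c14 LD2_c7 LD3_c1) Lrfl Lrfl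
theorem f532119 : Led Lsl_cf (LP (LK LD1_c30 LD2_c41 LD3_c12)) = (LP (LK LD1_c23 LD2_c41 LD3_c14)) :=
  Lgr Lrot163 (Lpe (f468220 IH) (Lpe (f466135 IH) (Lpr_gf (f532115 IH) (Lpe (K34.f489677 IH) (Lpr_ct (f439175 IH) (Lpr_gf (f489674 IH) (Lpe (K8.f146946 IH) (Lpr_bt (K8.f147145 IH) (Lpe (K28.f123824 IH) (Lpe (f123829 IH) (Lpn (LP (LK LD1_c23 LD2_c41 LD3_c14)))))))))))))
theorem f469624 : Led Lsl_bt (LP (LK LD1_c13 LD2_c56 LD3_c4)) = (LP (LK LD1_c7 LD2_c22 LD3_c6)) :=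
  Lre_b IH (LK LD1_c13 LD2_c56 LD3_c4) (LK LD1_c7 LD2_c22 LD3_c6) Lrfl Lrfl
theorem f469626 : Led Lsl_ct (LP (LK LD1_c13 LD2_c56 LD3_c4)) = (LP (LK LD1_c23 LD2_c27 LD3_c8)) :=
  Lre_c IH (LK LD1_c13 LD2_c56 LD3_c4) (LK LD1_c23 LD2_c27 LD3_c8) Lrfl Lrfl
theorem f123777 : Led Lsl_ct (LP (LK LD1_c7 LD2_c28 LD3_c41)) = (LP (LK LD1_c14 LD2_c7 LD3_c2)) :=
  Lre_c IH (LK LD1_c7 LD2_c28 LD3_c41) (LK LD1_c14 LD2_c7 LD3_c2) Lrfl Lrfl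
theorem f532125 : Led Lsl_gf (LP (LK LD1_c23 LD2_c27 LD3_c8)) = (LP (LK LD1_c14 LD2_c7 LD3_c2)) :=
  Lgr Lrot129 (Lpe (f469626 IH) (Lpr_bt (f469624 IH) (Lpr_gt (K28.f469618 IH) (Lpe (f468222 IH) (Lpr_ct (f466135 IH) (Lpr_gt (f468220 IH) (Lpr_cf (f532119 IH) (Lpr_bt (f123829 IH) (Lpr_gt (K28.f123824 IH) (Lpr_ct (f123777 IH) (Lpn (LP (LK LD1_c14 LD2_c7 LD3_c2)))))))))))))
theorem f469625 : Led Lsl_ct (LP (LK LD1_c23 LD2_c27 LD3_c8)) = (LP (LK LD1_c13 LD2_c56 LD3_c4)) :=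
  Lre_c IH (LK LD1_c23 LD2_c27 LD3_c8) (LK LD1_c13 LD2_c56 LD3_c4) Lrfl Lrfl
theorem f462833 : Led Lsl_bt (LP (LK LD1_c14 LD2_c55 LD3_c14)) = (LP (LK LD1_c7 LD2_c54 LD3_c36)) :=
  Lre_b IH (LK LD1_c14 LD2_c55 LD3_c14) (LK LD1_c7 LD2_c54 LD3_c36) Lrfl Lrfl
theorem f469630 : Led Lsl_dt (LP (LK LD1_c13 LD2_c56 LD3_c4)) = (LP (LK LD1_c14 LD2_c55 LD3_c14)) :=
  Lgr Lrot79 (Lpe (K34.f469629 IH) (Lpr_df (K28.f469621 IH) (Lpe (f462833 IH) (Lpn (LP (LK LD1_c14 LD2_c55 LD3_c14))))))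
theorem f462834 : Led Lsl_ct (LP (LK LD1_c13 LD2_c7 LD3_c47)) = (LP (LK LD1_c14 LD2_c55 LD3_c14)) :=
  Lgr Lrot83 (Lpe (K34.f15895 IH) (Lpe (K29.f15894 IH) (Lpe (K34.f462832 IH) (Lpr_cf (K28.f462830 IH) (Lpe (f462833 IH) (Lpn (LP (LK LD1_c14 LD2_c55 LD3_c14))))))))
theorem f103783 : Led Lsl_et (LP (LK LD1_c6 LD2_c53 LD3_c58)) = (LP (LK LD1_c3 LD2_c26 LD3_c2)) :=
  Lre_e IH (LK LD1_c6 LD2_c53 LD3_c58) (LK LD1_c3 LD2_c26 LD3_c2) Lrfl Lrfl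
theorem f103788 : Led Lsl_ef (LP (LK LD1_c13 LD2_c6 LD3_c39)) = (LP (LK LD1_c14 LD2_c12 LD3_c49)) :=
  Lgr Lrot21 (Lpr_ft (K34.f103785 IH) (Lpr_et (f103783 IH) (Lpr_ft (K4.f103781 IH) (Lpr_et (K4.f103786 IH) (Lpr_ft (K4.f103787 IH) (Lpn (LP (LK LD1_c14 LD2_c12 LD3_c49))))))))
theorem f64824 : Led Lsl_gt (LP (LK LD1_c13 LD2_c17 LD3_c31)) = (LP (LK LD1_c7 LD2_c0 LD3_c22)) :=
  Lre_g IH (LK LD1_c13 LD2_c17 LD3_c31) (LK LD1_c7 LD2_c0 LD3_c22) Lrfl Lrfl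
theorem f111473 : Led Lsl_gf (LP (LK LD1_c13 LD2_c17 LD3_c31)) = (LP (LK LD1_c13 LD2_c6 LD3_c39)) :=
  Lgr Lrot47 (Lpr_gt (f64824 IH) (Lpr_af (K4.f111464 IH) (Lpe (K34.f103785 IH) (Lpn (LP (LK LD1_c13 LD2_c6 LD3_c39))))))
theorem f64825 : Led Lsl_et (LP (LK LD1_c22 LD2_c33 LD3_c23)) = (LP (LK LD1_c13 LD2_c17 LD3_c31)) :=
  Lre_e IH (LK LD1_c22 LD2_c33 LD3_c23) (LK LD1_c13 LD2_c17 LD3_c31) Lrfl Lrfl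
theorem f484910 : Led Lsl_at (LP (LK LD1_c14 LD2_c24 LD3_c40)) = (LP (LK LD1_c7 LD2_c38 LD3_c48)) :=
  Lre_a IH (LK LD1_c14 LD2_c24 LD3_c40) (LK LD1_c7 LD2_c38 LD3_c48) Lrfl Lrfl
theorem f484769 : Led Lsl_gt (LP (LK LD1_c14 LD2_c24 LD3_c45)) = (LP (LK LD1_c7 LD2_c38 LD3_c48)) :=
  Lre_g IH (LK LD1_c14 LD2_c24 LD3_c45) (LK LD1_c7 LD2_c38 LD3_c48) Lrfl Lrfl
theorem f484917 : Led Lsl_gt (LP (LK LD1_c13 LD2_c9 LD3_c5)) = (LP (LK LD1_c14 LD2_c24 LD3_c45)) :=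
  Lgr Lrot5 (Lpr_ft (K33.f484906 IH) (Lpr_at (f484910 IH) (Lpe (f484769 IH) (Lpn (LP (LK LD1_c14 LD2_c24 LD3_c45))))))
theorem f64805 : Led Lsl_bt (LP (LK LD1_c7 LD2_c38 LD3_c24)) = (LP (LK LD1_c14 LD2_c23 LD3_c46)) :=
  Lre_b IH (LK LD1_c7 LD2_c38 LD3_c24) (LK LD1_c14 LD2_c23 LD3_c46) Lrfl Lrfl
theorem f64689 : Led Lsl_bt (LP (LK LD1_c13 LD2_c17 LD3_c32)) = (LP (LK LD1_c7 LD2_c0 LD3_c23)) :=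
  Lre_b IH (LK LD1_c13 LD2_c17 LD3_c32) (LK LD1_c7 LD2_c0 LD3_c23) Lrfl Lrfl
theorem f64806 : Led Lsl_et (LP (LK LD1_c14 LD2_c23 LD3_c46)) = (LP (LK LD1_c13 LD2_c17 LD3_c32)) :=
  Lgr Lrot74 (Lpe (f64805 IH) (Lpr_ef (K4.f64803 IH) (Lpe (f64689 IH) (Lpn (LP (LK LD1_c13 LD2_c17 LD3_c32))))))
theorem f64811 : Led Lsl_dt (LP (LK LD1_c7 LD2_c38 LD3_c23)) = (LP (LK LD1_c14 LD2_c23 LD3_c46)) :=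
  Lre_d IH (LK LD1_c7 LD2_c38 LD3_c23) (LK LD1_c14 LD2_c23 LD3_c46) Lrfl Lrfl
theorem f64812 : Led Lsl_et (LP (LK LD1_c3 LD2_c48 LD3_c40)) = (LP (LK LD1_c7 LD2_c38 LD3_c23)) :=
  Lre_e IH (LK LD1_c3 LD2_c48 LD3_c40) (LK LD1_c7 LD2_c38 LD3_c23) Lrfl Lrfl
theorem f64813 : Led Lsl_dt (LP (LK LD1_c13 LD2_c17 LD3_c32)) = (LP (LK LD1_c7 LD2_c0 LD3_c22)) :=
  Lre_d IH (LK LD1_c13 LD2_c17 LD3_c32) (LK LD1_c7 LD2_c0 LD3_c22) Lrfl Lrfl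
theorem f64815 : Led Lsl_df (LP (LK LD1_c3 LD2_c48 LD3_c40)) = (LP (LK LD1_c3 LD2_c29 LD3_c22)) :=
  Lgr Lrot70 (Lpr_et (f64812 IH) (Lpr_dt (f64811 IH) (Lpr_et (f64806 IH) (Lpr_dt (f64813 IH) (Lpr_et (K4.f64814 IH) (Lpn (LP (LK LD1_c3 LD2_c29 LD3_c22))))))))
theorem f64823 : Led Lsl_et (LP (LK LD1_c3 LD2_c29 LD3_c22)) = (LP (LK LD1_c7 LD2_c0 LD3_c22)) :=
  Lre_e IH (LK LD1_c3 LD2_c29 LD3_c22) (LK LD1_c7 LD2_c0 LD3_c22) Lrfl Lrfl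
theorem f484925 : Led Lsl_dt (LP (LK LD1_c22 LD2_c33 LD3_c23)) = (LP (LK LD1_c14 LD2_c24 LD3_c45)) :=
  Lgr Lrot56 (Lpr_et (f64825 IH) (Lpr_gt (f64824 IH) (Lpe (f64823 IH) (Lpe (f64815 IH) (Lpe (K4.f108736 IH) (Lpe (K5.f108738 IH) (Lpr_et (K33.f108739 IH) (Lpr_gt (K33.f108740 IH) (Lpr_dt (K33.f108741 IH) (Lpr_gt (f484917 IH) (Lpn (LP (LK LD1_c14 LD2_c24 LD3_c45)))))))))))))
theorem f484932 : Led Lsl_et (LP (LK LD1_c3 LD2_c48 LD3_c49)) = (LP (LK LD1_c7 LD2_c38 LD3_c49)) :=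
  Lre_e IH (LK LD1_c3 LD2_c48 LD3_c49) (LK LD1_c7 LD2_c38 LD3_c49) Lrfl Lrfl
theorem f492922 : Led Lsl_gf (LP (LK LD1_c13 LD2_c7 LD3_c47)) = (LP (LK LD1_c7 LD2_c38 LD3_c49)) :=
  Lgr Lrot138 (Lpr_dt (K37.f492871 IH) (Lpr_gt (K34.f103810 IH) (Lpe (K34.f103801 IH) (Lpe (f103788 IH) (Lpe (f111473 IH) (Lpe (f64825 IH) (Lpr_dt (f484925 IH) (Lpr_gt (f484769 IH) (Lpe (K33.f484780 IH) (Lpr_et (f484932 IH) (Lpn (LP (LK LD1_c7 LD2_c38 LD3_c49)))))))))))))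
theorem f484748 : Led Lsl_ct (LP (LK LD1_c14 LD2_c24 LD3_c43)) = (LP (LK LD1_c7 LD2_c38 LD3_c49)) :=
  Lre_c IH (LK LD1_c14 LD2_c24 LD3_c43) (LK LD1_c7 LD2_c38 LD3_c49) Lrfl Lrfl
theorem f532128 : Led Lsl_gf (LP (LK LD1_c14 LD2_c24 LD3_c43)) = (LP (LK LD1_c23 LD2_c41 LD3_c16)) :=
  Lgr Lrot147 (Lpr_ct (f484748 IH) (Lpe (f492922 IH) (Lpr_ct (f462834 IH) (Lpe (f469630 IH) (Lpe (f469625 IH) (Lpr_gf (f532125 IH) (Lpe (f123777 IH) (Lpe (K28.f123824 IH) (Lpe (K28.f123825 IH) (Lpn (LP (LK LD1_c23 LD2_c41 LD3_c16))))))))))))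
theorem f462841 : Led Lsl_bt (LP (LK LD1_c7 LD2_c54 LD3_c36)) = (LP (LK LD1_c14 LD2_c55 LD3_c14)) :=
  Lre_b IH (LK LD1_c7 LD2_c54 LD3_c36) (LK LD1_c14 LD2_c55 LD3_c14) Lrfl Lrfl
theorem f462846 : Led Lsl_cf (LP (LK LD1_c13 LD2_c7 LD3_c47)) = (LP (LK LD1_c14 LD2_c55 LD3_c14)) :=
  Lgr Lrot97 (Lpr_bt (K34.f462845 IH) (Lpr_ct (K29.f462844 IH) (Lpr_bt (K32.f462843 IH) (Lpr_ct (K28.f462836 IH) (Lpr_bt (f462841 IH) (Lpn (LP (LK LD1_c14 LD2_c55 LD3_c14))))))))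
theorem f483784 : Led Lsl_bt (LP (LK LD1_c7 LD2_c54 LD3_c39)) = (LP (LK LD1_c3 LD2_c56 LD3_c28)) :=
  Lre_b IH (LK LD1_c7 LD2_c54 LD3_c39) (LK LD1_c3 LD2_c56 LD3_c28) Lrfl Lrfl
theorem f483826 : Led Lsl_gt (LP (LK LD1_c13 LD2_c12 LD3_c52)) = (LP (LK LD1_c22 LD2_c26 LD3_c48)) :=
  Lre_g IH (LK LD1_c13 LD2_c12 LD3_c52) (LK LD1_c22 LD2_c26 LD3_c48) Lrfl Lrfl
theorem f483837 : Led Lsl_ct (LP (LK LD1_c30 LD2_c30 LD3_c36)) = (LP (LK LD1_c22 LD2_c26 LD3_c48)) :=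
  Lre_c IH (LK LD1_c30 LD2_c30 LD3_c36) (LK LD1_c22 LD2_c26 LD3_c48) Lrfl Lrfl
theorem f532135 : Led Lsl_bt (LP (LK LD1_c30 LD2_c30 LD3_c36)) = (LP (LK LD1_c23 LD2_c41 LD3_c16)) :=
  Lgr Lrot130 (Lpr_ct (f483837 IH) (Lpe (f483826 IH) (Lpe (K35.f483820 IH) (Lpr_bt (f483784 IH) (Lpr_gf (K34.f483777 IH) (Lpe (f462833 IH) (Lpe (f462846 IH) (Lpr_gf (f492922 IH) (Lpe (f484748 IH) (Lpr_gf (f532128 IH) (Lpn (LP (LK LD1_c23 LD2_c41 LD3_c16)))))))))))))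
theorem f532143 : Led Lsl_ef (LP (LK LD1_c30 LD2_c30 LD3_c36)) = (LP (LK LD1_c23 LD2_c24 LD3_c5)) :=
  Lgr Lrot29 (Lpr_bt (f532135 IH) (Lpe (K28.f129487 IH) (Lpr_bt (K37.f465451 IH) (Lpn (LP (LK LD1_c23 LD2_c24 LD3_c5))))))
theorem f532145 : Led Lsl_et (LP (LK LD1_c22 LD2_c26 LD3_c48)) = (LP (LK LD1_c13 LD2_c53 LD3_c55)) :=
  Lgr Lrot158 (Lpe (f483837 IH) (Lpr_ef (f532143 IH) (Lpe (K35.f464234 IH) (Lpn (LP (LK LD1_c13 LD2_c53 LD3_c55))))))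
theorem f123478 : Led Lsl_et (LP (LK LD1_c3 LD2_c40 LD3_c24)) = (LP (LK LD1_c7 LD2_c21 LD3_c3)) :=
  Lre_e IH (LK LD1_c3 LD2_c40 LD3_c24) (LK LD1_c7 LD2_c21 LD3_c3) Lrfl Lrfl
theorem f419627 : Led Lsl_gt (LP (LK LD1_c23 LD2_c52 LD3_c43)) = (LP (LK LD1_c14 LD2_c15 LD3_c61)) :=
  Lre_g IH (LK LD1_c23 LD2_c52 LD3_c43) (LK LD1_c14 LD2_c15 LD3_c61) Lrfl Lrfl
theorem f532153 : Led Lsl_dt (LP (LK LD1_c22 LD2_c26 LD3_c48)) = (LP (LK LD1_c23 LD2_c52 LD3_c43)) :=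
  Lgr Lrot136 (Lpr_et (f532145 IH) (Lpe (K35.f419901 IH) (Lpe (f123478 IH) (Lpr_dt (K32.f122733 IH) (Lpr_gf (K32.f419881 IH) (Lpe (K32.f419795 IH) (Lpe (K32.f419778 IH) (Lpe (K28.f419428 IH) (Lpr_dt (f419746 IH) (Lpe (f419627 IH) (Lpn (LP (LK LD1_c23 LD2_c52 LD3_c43)))))))))))))
theorem f483832 : Led Lsl_cf (LP (LK LD1_c7 LD2_c54 LD3_c39)) = (LP (LK LD1_c13 LD2_c12 LD3_c52)) :=
  Lgr Lrot11 (Lpr_ct (K35.f483820 IH) (Lpn (LP (LK LD1_c13 LD2_c12 LD3_c52))))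
theorem f532159 : Led Lsl_gt (LP (LK LD1_c7 LD2_c54 LD3_c39)) = (LP (LK LD1_c13 LD2_c54 LD3_c8)) :=
  Lgr Lrot94 (Lpr_cf (f483832 IH) (Lpr_gt (f483826 IH) (Lpr_dt (f532153 IH) (Lpr_gt (f419627 IH) (Lpr_dt (K28.f419623 IH) (Lpr_cf (K28.f419429 IH) (Lpe (K35.f419751 IH) (Lpe (K34.f468201 IH) (Lpr_df (K34.f468207 IH) (Lpn (LP (LK LD1_c13 LD2_c54 LD3_c8))))))))))))
theorem f532099 : Led Lsl_af (LP (LK LD1_c13 LD2_c54 LD3_c8)) = (LP (LK LD1_c14 LD2_c3 LD3_c7)) :=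
  Lgr Lrot0 (Lpr_at (K34.f532097 IH) (Lpn (LP (LK LD1_c14 LD2_c3 LD3_c7))))
theorem f485155 : Led Lsl_gt (LP (LK LD1_c3 LD2_c54 LD3_c32)) = (LP (LK LD1_c7 LD2_c50 LD3_c46)) :=
  Lre_g IH (LK LD1_c3 LD2_c54 LD3_c32) (LK LD1_c7 LD2_c50 LD3_c46) Lrfl Lrfl
theorem f524089 : Led Lsl_gf (LP (LK LD1_c3 LD2_c54 LD3_c40)) = (LP (LK LD1_c7 LD2_c50 LD3_c46)) :=
  Lgr Lrot76 (Lpr_af (K34.f523924 IH) (Lpr_ff (K34.f524083 IH) (Lpr_gt (f485155 IH) (Lpn (LP (LK LD1_c7 LD2_c50 LD3_c46))))))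
theorem f523914 : Led Lsl_et (LP (LK LD1_c1 LD2_c53 LD3_c55)) = (LP (LK LD1_c3 LD2_c54 LD3_c41)) :=
  Lre_e IH (LK LD1_c1 LD2_c53 LD3_c55) (LK LD1_c3 LD2_c54 LD3_c41) Lrfl Lrfl
theorem f488118 : Led Lsl_gt (LP (LK LD1_c3 LD2_c54 LD3_c41)) = (LP (LK LD1_c7 LD2_c51 LD3_c4)) :=
  Lre_g IH (LK LD1_c3 LD2_c54 LD3_c41) (LK LD1_c7 LD2_c51 LD3_c4) Lrfl Lrfl
theorem f485154 : Led Lsl_dt (LP (LK LD1_c1 LD2_c53 LD3_c51)) = (LP (LK LD1_c3 LD2_c54 LD3_c32)) :=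
  Lre_d IH (LK LD1_c1 LD2_c53 LD3_c51) (LK LD1_c3 LD2_c54 LD3_c32) Lrfl Lrfl
theorem f440984 : Led Lsl_et (LP (LK LD1_c7 LD2_c28 LD3_c23)) = (LP (LK LD1_c3 LD2_c43 LD3_c52)) :=
  Lre_e IH (LK LD1_c7 LD2_c28 LD3_c23) (LK LD1_c3 LD2_c43 LD3_c52) Lrfl Lrfl
theorem f485160 : Led Lsl_df (LP (LK LD1_c7 LD2_c50 LD3_c46)) = (LP (LK LD1_c7 LD2_c28 LD3_c23)) :=
  Lgr Lrot132 (Lpe (f485155 IH) (Lpe (f485154 IH) (Lpr_gf (K33.f485150 IH) (Lpe (K5.f96341 IH) (Lpr_dt (K7.f96340 IH) (Lpe (K5.f116534 IH) (Lpe (K5.f116533 IH) (Lpr_et (K28.f122246 IH) (Lpe (K28.f159497 IH) (Lpe (f440984 IH) (Lpn (LP (LK LD1_c7 LD2_c28 LD3_c23)))))))))))))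
theorem f132001 : Led Lsl_ft (LP (LK LD1_c0 LD2_c50 LD3_c28)) = (LP (LK LD1_c0 LD2_c51 LD3_c13)) :=
  Lgr Lrot54 (Lpe (K6.f12584 IH) (Lpr_ff (K5.f131993 IH) (Lpe (K5.f12837 IH) (Lpn (LP (LK LD1_c0 LD2_c51 LD3_c13))))))
theorem f463272 : Led Lsl_et (LP (LK LD1_c3 LD2_c43 LD3_c42)) = (LP (LK LD1_c3 LD2_c31 LD3_c22)) :=
  Lgr Lrot69 (Lpe (K28.f209144 IH) (Lpe (K28.f132078 IH) (Lpe (f132001 IH) (Lpe (K28.f12597 IH) (Lpr_ff (K28.f463265 IH) (Lpn (LP (LK LD1_c3 LD2_c31 LD3_c22))))))))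
theorem f131758 : Led Lsl_at (LP (LK LD1_c7 LD2_c22 LD3_c36)) = (LP (LK LD1_c7 LD2_c28 LD3_c2)) :=
  Lgr Lrot100 (Lpr_af (K5.f131753 IH) (Lpn (LP (LK LD1_c7 LD2_c28 LD3_c2))))
theorem f439159 : Led Lsl_ft (LP (LK LD1_c3 LD2_c41 LD3_c7)) = (LP (LK LD1_c7 LD2_c22 LD3_c36)) :=
  Lre_f IH (LK LD1_c3 LD2_c41 LD3_c7) (LK LD1_c7 LD2_c22 LD3_c36) Lrfl Lrfl
theorem f439173 : Led Lsl_gt (LP (LK LD1_c7 LD2_c22 LD3_c33)) = (LP (LK LD1_c7 LD2_c28 LD3_c2)) :=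
  Lgr Lrot46 (Lpe (K34.f439172 IH) (Lpr_ft (f439159 IH) (Lpr_at (f131758 IH) (Lpn (LP (LK LD1_c7 LD2_c28 LD3_c2))))))
theorem f524092 : Led Lsl_dt (LP (LK LD1_c7 LD2_c51 LD3_c4)) = (LP (LK LD1_c7 LD2_c22 LD3_c33)) :=
  Lgr Lrot171 (Lpe (f488118 IH) (Lpe (f523914 IH) (Lpr_dt (K34.f488022 IH) (Lpr_gf (f524089 IH) (Lpr_df (f485160 IH) (Lpr_et (f440984 IH) (Lpr_gf (K28.f463276 IH) (Lpe (f463272 IH) (Lpr_dt (K28.f131765 IH) (Lpe (f439173 IH) (Lpn (LP (LK LD1_c7 LD2_c22 LD3_c33)))))))))))))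
theorem f524100 : Led Lsl_df (LP (LK LD1_c7 LD2_c51 LD3_c4)) = (LP (LK LD1_c7 LD2_c22 LD3_c33)) :=
  Lgr Lrot38 (Lpr_dt (f524092 IH) (Lpn (LP (LK LD1_c7 LD2_c22 LD3_c33))))
theorem f531962 : Led Lsl_ft (LP (LK LD1_c7 LD2_c51 LD3_c4)) = (LP (LK LD1_c7 LD2_c26 LD3_c1)) :=
  Lgr Lrot54 (Lpr_df (f524100 IH) (Lpr_ff (K34.f531956 IH) (Lpe (K28.f437717 IH) (Lpn (LP (LK LD1_c7 LD2_c26 LD3_c1))))))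
theorem f524097 : Led Lsl_bt (LP (LK LD1_c14 LD2_c48 LD3_c42)) = (LP (LK LD1_c7 LD2_c51 LD3_c4)) :=
  Lre_b IH (LK LD1_c14 LD2_c48 LD3_c42) (LK LD1_c7 LD2_c51 LD3_c4) Lrfl Lrfl
theorem f531994 : Led Lsl_ff (LP (LK LD1_c14 LD2_c48 LD3_c42)) = (LP (LK LD1_c14 LD2_c3 LD3_c7)) :=
  Lgr Lrot25 (Lpr_bt (f524097 IH) (Lpr_ft (f531962 IH) (Lpr_bt (K34.f437753 IH) (Lpn (LP (LK LD1_c14 LD2_c3 LD3_c7))))))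
theorem f531996 : Led Lsl_ft (LP (LK LD1_c14 LD2_c48 LD3_c42)) = (LP (LK LD1_c14 LD2_c3 LD3_c7)) :=
  Lgr Lrot48 (Lpr_ff (f531994 IH) (Lpn (LP (LK LD1_c14 LD2_c3 LD3_c7))))
theorem f532161 : Led Lsl_gf (LP (LK LD1_c7 LD2_c54 LD3_c39)) = (LP (LK LD1_c14 LD2_c48 LD3_c42)) :=
  Lgr Lrot47 (Lpr_gt (f532159 IH) (Lpr_af (f532099 IH) (Lpe (f531996 IH) (Lpn (LP (LK LD1_c14 LD2_c48 LD3_c42))))))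
theorem f483828 : Led Lsl_at (LP (LK LD1_c14 LD2_c55 LD3_c19)) = (LP (LK LD1_c7 LD2_c54 LD3_c39)) :=
  Lre_a IH (LK LD1_c14 LD2_c55 LD3_c19) (LK LD1_c7 LD2_c54 LD3_c39) Lrfl Lrfl
theorem f483838 : Led Lsl_at (LP (LK LD1_c7 LD2_c54 LD3_c39)) = (LP (LK LD1_c14 LD2_c55 LD3_c19)) :=
  Lre_a IH (LK LD1_c7 LD2_c54 LD3_c39) (LK LD1_c14 LD2_c55 LD3_c19) Lrfl Lrfl
theorem f529024 : Led Lsl_ff (LP (LK LD1_c14 LD2_c29 LD3_c14)) = (LP (LK LD1_c14 LD2_c55 LD3_c19)) :=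
  Lgr Lrot30 (Lpr_at (K37.f529016 IH) (Lpr_ft (K35.f528867 IH) (Lpr_at (f483838 IH) (Lpn (LP (LK LD1_c14 LD2_c55 LD3_c19))))))
theorem f529026 : Led Lsl_ft (LP (LK LD1_c14 LD2_c29 LD3_c14)) = (LP (LK LD1_c14 LD2_c55 LD3_c19)) :=
  Lgr Lrot48 (Lpr_ff (f529024 IH) (Lpn (LP (LK LD1_c14 LD2_c55 LD3_c19))))
theorem f532169 : Led Lsl_gt (LP (LK LD1_c14 LD2_c29 LD3_c14)) = (LP (LK LD1_c14 LD2_c48 LD3_c42)) :=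
  Lgr Lrot5 (Lpr_ft (f529026 IH) (Lpr_at (f483828 IH) (Lpr_gf (f532161 IH) (Lpn (LP (LK LD1_c14 LD2_c48 LD3_c42))))))
theorem f487384 : Led Lsl_et (LP (LK LD1_c22 LD2_c21 LD3_c55)) = (LP (LK LD1_c13 LD2_c9 LD3_c17)) :=
  Lre_e IH (LK LD1_c22 LD2_c21 LD3_c55) (LK LD1_c13 LD2_c9 LD3_c17) Lrfl Lrfl
theorem f528998 : Led Lsl_cf (LP (LK LD1_c22 LD2_c21 LD3_c55)) = (LP (LK LD1_c14 LD2_c29 LD3_c14)) :=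
  Lgr Lrot39 (Lpr_et (f487384 IH) (Lpr_ct (K37.f528991 IH) (Lpr_et (K37.f528997 IH) (Lpn (LP (LK LD1_c14 LD2_c29 LD3_c14))))))
theorem f477148 : Led Lsl_at (LP (LK LD1_c13 LD2_c9 LD3_c19)) = (LP (LK LD1_c22 LD2_c21 LD3_c55)) :=
  Lre_a IH (LK LD1_c13 LD2_c9 LD3_c19) (LK LD1_c22 LD2_c21 LD3_c55) Lrfl Lrfl
theorem f483835 : Led Lsl_at (LP (LK LD1_c22 LD2_c26 LD3_c50)) = (LP (LK LD1_c13 LD2_c12 LD3_c52)) :=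
  Lre_a IH (LK LD1_c22 LD2_c26 LD3_c50) (LK LD1_c13 LD2_c12 LD3_c52) Lrfl Lrfl
theorem f528877 : Led Lsl_ft (LP (LK LD1_c22 LD2_c21 LD3_c55)) = (LP (LK LD1_c22 LD2_c26 LD3_c50)) :=
  Lgr Lrot101 (Lpe (f477148 IH) (Lpr_ff (K35.f528869 IH) (Lpe (f483835 IH) (Lpn (LP (LK LD1_c22 LD2_c26 LD3_c50))))))
theorem f483825 : Led Lsl_gt (LP (LK LD1_c22 LD2_c26 LD3_c49)) = (LP (LK LD1_c13 LD2_c12 LD3_c52)) :=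
  Lre_g IH (LK LD1_c22 LD2_c26 LD3_c49) (LK LD1_c13 LD2_c12 LD3_c52) Lrfl Lrfl
theorem f529582 : Led Lsl_gt (LP (LK LD1_c22 LD2_c21 LD3_c55)) = (LP (LK LD1_c22 LD2_c26 LD3_c49)) :=
  Lgr Lrot5 (Lpr_ft (f528877 IH) (Lpr_at (f483835 IH) (Lpe (f483825 IH) (Lpn (LP (LK LD1_c22 LD2_c26 LD3_c49))))))
theorem f524105 : Led Lsl_bt (LP (LK LD1_c7 LD2_c51 LD3_c4)) = (LP (LK LD1_c14 LD2_c48 LD3_c42)) :=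
  Lre_b IH (LK LD1_c7 LD2_c51 LD3_c4) (LK LD1_c14 LD2_c48 LD3_c42) Lrfl Lrfl
theorem f524106 : Led Lsl_dt (LP (LK LD1_c14 LD2_c48 LD3_c42)) = (LP (LK LD1_c13 LD2_c56 LD3_c51)) :=
  Lgr Lrot79 (Lpe (f524105 IH) (Lpr_df (f524100 IH) (Lpe (K34.f439177 IH) (Lpn (LP (LK LD1_c13 LD2_c56 LD3_c51))))))
theorem f466139 : Led Lsl_dt (LP (LK LD1_c13 LD2_c25 LD3_c20)) = (LP (LK LD1_c7 LD2_c4 LD3_c51)) :=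
  Lre_d IH (LK LD1_c13 LD2_c25 LD3_c20) (LK LD1_c7 LD2_c4 LD3_c51) Lrfl Lrfl
theorem f464495 : Led Lsl_gf (LP (LK LD1_c22 LD2_c13 LD3_c61)) = (LP (LK LD1_c23 LD2_c52 LD3_c42)) :=
  Lgr Lrot76 (Lpr_af (K28.f464486 IH) (Lpe (K28.f419626 IH) (Lpr_gt (f420067 IH) (Lpn (LP (LK LD1_c23 LD2_c52 LD3_c42))))))
theorem f532174 : Led Lsl_dt (LP (LK LD1_c22 LD2_c26 LD3_c49)) = (LP (LK LD1_c23 LD2_c52 LD3_c42)) :=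
  Lgr Lrot57 (Lpe (f529582 IH) (Lpr_cf (f528998 IH) (Lpr_gt (f532169 IH) (Lpr_dt (f524106 IH) (Lpe (f532115 IH) (Lpr_dt (f466139 IH) (Lpe (K34.f469126 IH) (Lpe (K28.f98776 IH) (Lpr_gf (f464495 IH) (Lpn (LP (LK LD1_c23 LD2_c52 LD3_c42))))))))))))
theorem f532176 : Led Lsl_df (LP (LK LD1_c22 LD2_c26 LD3_c49)) = (LP (LK LD1_c23 LD2_c52 LD3_c42)) :=
  Lgr Lrot38 (Lpr_dt (f532174 IH) (Lpn (LP (LK LD1_c23 LD2_c52 LD3_c42))))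
theorem f129179 : Led Lsl_et (LP (LK LD1_c3 LD2_c40 LD3_c34)) = (LP (LK LD1_c7 LD2_c21 LD3_c19)) :=
  Lre_e IH (LK LD1_c3 LD2_c40 LD3_c34) (LK LD1_c7 LD2_c21 LD3_c19) Lrfl Lrfl
theorem f491749 : Led Lsl_cf (LP (LK LD1_c6 LD2_c57 LD3_c37)) = (LP (LK LD1_c7 LD2_c21 LD3_c19)) :=
  Lgr Lrot39 (Lpr_et (K32.f491743 IH) (Lpe (K28.f464713 IH) (Lpr_et (f129179 IH) (Lpn (LP (LK LD1_c7 LD2_c21 LD3_c19))))))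
theorem f472685 : Led Lsl_gt (LP (LK LD1_c7 LD2_c52 LD3_c21)) = (LP (LK LD1_c14 LD2_c51 LD3_c0)) :=
  Lre_g IH (LK LD1_c7 LD2_c52 LD3_c21) (LK LD1_c14 LD2_c51 LD3_c0) Lrfl Lrfl
theorem f478616 : Led Lsl_bt (LP (LK LD1_c24 LD2_c37 LD3_c21)) = (LP (LK LD1_c14 LD2_c51 LD3_c0)) :=
  Lre_b IH (LK LD1_c24 LD2_c37 LD3_c21) (LK LD1_c14 LD2_c51 LD3_c0) Lrfl Lrfl
theorem f493303 : Led Lsl_cf (LP (LK LD1_c22 LD2_c26 LD3_c49)) = (LP (LK LD1_c24 LD2_c37 LD3_c21)) :=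
  Lgr Lrot160 (Lpr_gt (f483825 IH) (Lpe (K35.f483820 IH) (Lpr_bt (f483784 IH) (Lpr_gt (K33.f462394 IH) (Lpe (f491749 IH) (Lpr_gt (K34.f491759 IH) (Lpr_cf (K29.f478265 IH) (Lpr_bt (K33.f472673 IH) (Lpr_gt (f472685 IH) (Lpe (f478616 IH) (Lpn (LP (LK LD1_c24 LD2_c37 LD3_c21)))))))))))))
theorem f535049 : Led Lsl_dt (LP (LK LD1_c23 LD2_c41 LD3_c55)) = (LP (LK LD1_c24 LD2_c37 LD3_c21)) :=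
  Lgr Lrot105 (Lpr_gf (f535045 IH) (Lpe (K34.f111323 IH) (Lpr_gf (K37.f533564 IH) (Lpr_cf (K28.f468158 IH) (Lpr_gt (K28.f419420 IH) (Lpr_dt (f419746 IH) (Lpr_gt (f420067 IH) (Lpe (f532176 IH) (Lpr_cf (f493303 IH) (Lpn (LP (LK LD1_c24 LD2_c37 LD3_c21))))))))))))
theorem f535053 : Led Lsl_df (LP (LK LD1_c23 LD2_c41 LD3_c55)) = (LP (LK LD1_c24 LD2_c37 LD3_c21)) :=
  Lgr Lrot38 (Lpr_dt (f535049 IH) (Lpn (LP (LK LD1_c24 LD2_c37 LD3_c21))))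
theorem f493313 : Led Lsl_bt (LP (LK LD1_c14 LD2_c51 LD3_c0)) = (LP (LK LD1_c24 LD2_c37 LD3_c21)) :=
  Lre_b IH (LK LD1_c14 LD2_c51 LD3_c0) (LK LD1_c24 LD2_c37 LD3_c21) Lrfl Lrfl
theorem f535057 : Led Lsl_dt (LP (LK LD1_c14 LD2_c7 LD3_c28)) = (LP (LK LD1_c14 LD2_c51 LD3_c0)) :=
  Lgr Lrot79 (Lpe (f469449 IH) (Lpr_df (f535053 IH) (Lpe (f493313 IH) (Lpn (LP (LK LD1_c14 LD2_c51 LD3_c0))))))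
theorem f554190 : Led Lsl_ct (LP (LK LD1_c13 LD2_c32 LD3_c7)) = (LP (LK LD1_c14 LD2_c51 LD3_c0)) :=
  Lgr Lrot7 (Lpr_df (f554183 IH) (Lpe (f469405 IH) (Lpe (f439638 IH) (Lpe (K34.f439556 IH) (Lpe (K34.f469397 IH) (Lpr_gt (K34.f116155 IH) (Lpr_dt (f116164 IH) (Lpr_gt (f463032 IH) (Lpr_dt (f535057 IH) (Lpn (LP (LK LD1_c14 LD2_c51 LD3_c0))))))))))))
theorem f456582 : Led Lsl_gt (LP (LK LD1_c7 LD2_c8 LD3_c48)) = (LP (LK LD1_c13 LD2_c32 LD3_c7)) :=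
  Lre_g IH (LK LD1_c7 LD2_c8 LD3_c48) (LK LD1_c13 LD2_c32 LD3_c7) Lrfl Lrfl
theorem f456580 : Led Lsl_ct (LP (LK LD1_c13 LD2_c32 LD3_c3)) = (LP (LK LD1_c7 LD2_c8 LD3_c48)) :=
  Lre_c IH (LK LD1_c13 LD2_c32 LD3_c3) (LK LD1_c7 LD2_c8 LD3_c48) Lrfl Lrfl
theorem f456591 : Led Lsl_gt (LP (LK LD1_c22 LD2_c53 LD3_c51)) = (LP (LK LD1_c13 LD2_c32 LD3_c3)) :=
  Lre_g IH (LK LD1_c22 LD2_c53 LD3_c51) (LK LD1_c13 LD2_c32 LD3_c3) Lrfl Lrfl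
theorem f111334 : Led Lsl_ft (LP (LK LD1_c22 LD2_c35 LD3_c22)) = (LP (LK LD1_c30 LD2_c35 LD3_c55)) :=
  Lre_f IH (LK LD1_c22 LD2_c35 LD3_c22) (LK LD1_c30 LD2_c35 LD3_c55) Lrfl Lrfl
theorem f535047 : Led Lsl_gt (LP (LK LD1_c23 LD2_c41 LD3_c55)) = (LP (LK LD1_c30 LD2_c41 LD3_c21)) :=
  Lgr Lrot46 (Lpr_gf (f535045 IH) (Lpr_ft (f111334 IH) (Lpr_at (K35.f533485 IH) (Lpn (LP (LK LD1_c30 LD2_c41 LD3_c21))))))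
theorem f469831 : Led Lsl_bt (LP (LK LD1_c14 LD2_c7 LD3_c28)) = (LP (LK LD1_c23 LD2_c41 LD3_c55)) :=
  Lre_b IH (LK LD1_c14 LD2_c7 LD3_c28) (LK LD1_c23 LD2_c41 LD3_c55) Lrfl Lrfl
theorem f533631 : Led Lsl_gt (LP (LK LD1_c14 LD2_c5 LD3_c24)) = (LP (LK LD1_c23 LD2_c38 LD3_c39)) :=
  Lre_g IH (LK LD1_c14 LD2_c5 LD3_c24) (LK LD1_c23 LD2_c38 LD3_c39) Lrfl Lrfl
theorem f535060 : Led Lsl_ct (LP (LK LD1_c14 LD2_c7 LD3_c28)) = (LP (LK LD1_c23 LD2_c38 LD3_c39)) :=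
  Lgr Lrot10 (Lpr_bt (f469831 IH) (Lpr_gt (f535047 IH) (Lpe (K35.f533625 IH) (Lpr_gt (K35.f437755 IH) (Lpe (K34.f131804 IH) (Lpr_bt (K34.f131803 IH) (Lpr_gt (K28.f131799 IH) (Lpe (f209135 IH) (Lpr_ct (f439567 IH) (Lpr_gt (f533631 IH) (Lpn (LP (LK LD1_c23 LD2_c38 LD3_c39)))))))))))))
theorem f535062 : Led Lsl_cf (LP (LK LD1_c14 LD2_c7 LD3_c28)) = (LP (LK LD1_c23 LD2_c38 LD3_c39)) :=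
  Lgr Lrot11 (Lpr_ct (f535060 IH) (Lpn (LP (LK LD1_c23 LD2_c38 LD3_c39))))
theorem f554197 : Led Lsl_dt (LP (LK LD1_c22 LD2_c53 LD3_c51)) = (LP (LK LD1_c14 LD2_c5 LD3_c23)) :=
  Lgr Lrot6 (Lpr_gt (f456591 IH) (Lpr_ct (f456580 IH) (Lpr_gt (f456582 IH) (Lpr_ct (f554190 IH) (Lpe (f535057 IH) (Lpr_cf (f535062 IH) (Lpe (f533631 IH) (Lpe (f439567 IH) (Lpe (K37.f159665 IH) (Lpn (LP (LK LD1_c14 LD2_c5 LD3_c23))))))))))))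
theorem f159663 : Led Lsl_et (LP (LK LD1_c3 LD2_c43 LD3_c37)) = (LP (LK LD1_c1 LD2_c48 LD3_c52)) :=
  Lre_e IH (LK LD1_c3 LD2_c43 LD3_c37) (LK LD1_c1 LD2_c48 LD3_c52) Lrfl Lrfl
theorem f554206 : Led Lsl_et (LP (LK LD1_c22 LD2_c53 LD3_c51)) = (LP (LK LD1_c13 LD2_c40 LD3_c36)) :=
  Lgr Lrot122 (Lpr_dt (f554197 IH) (Lpr_gt (K37.f159665 IH) (Lpe (K33.f159664 IH) (Lpr_et (f159663 IH) (Lpr_gt (K24.f12903 IH) (Lpe (K24.f159655 IH) (Lpr_gt (f159483 IH) (Lpe (K28.f159439 IH) (Lpr_et (K29.f159450 IH) (Lpr_gt (K29.f472111 IH) (Lpn (LP (LK LD1_c13 LD2_c40 LD3_c36)))))))))))))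
theorem f439569 : Led Lsl_dt (LP (LK LD1_c14 LD2_c5 LD3_c12)) = (LP (LK LD1_c23 LD2_c38 LD3_c23)) :=
  Lre_d IH (LK LD1_c14 LD2_c5 LD3_c12) (LK LD1_c23 LD2_c38 LD3_c23) Lrfl Lrfl
theorem f466320 : Led Lsl_gt (LP (LK LD1_c7 LD2_c4 LD3_c31)) = (LP (LK LD1_c13 LD2_c24 LD3_c46)) :=
  Lre_g IH (LK LD1_c7 LD2_c4 LD3_c31) (LK LD1_c13 LD2_c24 LD3_c46) Lrfl Lrfl
theorem f488288 : Led Lsl_bt (LP (LK LD1_c7 LD2_c23 LD3_c9)) = (LP (LK LD1_c13 LD2_c24 LD3_c46)) :=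
  Lgr Lrot92 (Lpr_ct (K37.f488282 IH) (Lpr_gt (K37.f439422 IH) (Lpr_cf (K28.f439406 IH) (Lpr_bt (K35.f128305 IH) (Lpr_gt (K28.f128316 IH) (Lpr_ct (K33.f473464 IH) (Lpe (K33.f473462 IH) (Lpe (K28.f455624 IH) (Lpr_bt (K28.f466309 IH) (Lpr_gt (f466320 IH) (Lpn (LP (LK LD1_c13 LD2_c24 LD3_c46)))))))))))))
theorem f466354 : Led Lsl_gf (LP (LK LD1_c7 LD2_c22 LD3_c47)) = (LP (LK LD1_c13 LD2_c24 LD3_c46)) :=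
  Lgr Lrot76 (Lpe (K28.f116281 IH) (Lpr_ff (K28.f466338 IH) (Lpr_gt (f466320 IH) (Lpn (LP (LK LD1_c13 LD2_c24 LD3_c46))))))
theorem f439412 : Led Lsl_gt (LP (LK LD1_c3 LD2_c40 LD3_c50)) = (LP (LK LD1_c7 LD2_c21 LD3_c52)) :=
  Lre_g IH (LK LD1_c3 LD2_c40 LD3_c50) (LK LD1_c7 LD2_c21 LD3_c52) Lrfl Lrfl
theorem f469284 : Led Lsl_bt (LP (LK LD1_c7 LD2_c27 LD3_c47)) = (LP (LK LD1_c7 LD2_c21 LD3_c52)) :=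
  Lgr Lrot92 (Lpr_ct (K33.f469272 IH) (Lpr_gt (K33.f108272 IH) (Lpe (K28.f469259 IH) (Lpr_bt (K33.f455758 IH) (Lpr_gt (K28.f455599 IH) (Lpr_ct (K24.f455750 IH) (Lpr_gt (K24.f455746 IH) (Lpq (K28.f463621 IH) (Lpe (K4.f122347 IH) (Lpr_bt (K28.f122356 IH) (Lpr_gt (f439412 IH) (Lpn (LP (LK LD1_c7 LD2_c21 LD3_c52))))))))))))))
theorem f543404 : Led Lsl_gf (LP (LK LD1_c12 LD2_c8 LD3_c17)) = (LP (LK LD1_c7 LD2_c21 LD3_c52)) :=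
  Lgr Lrot181 (Lpr_ct (K37.f75725 IH) (Lpr_gt (K37.f543400 IH) (Lpe (K37.f488282 IH) (Lpr_bt (f488288 IH) (Lpe (f466354 IH) (Lpr_bf (K4.f116440 IH) (Lpe (K28.f116158 IH) (Lpr_gt (K37.f116247 IH) (Lpe (K33.f469272 IH) (Lpr_bt (f469284 IH) (Lpn (LP (LK LD1_c7 LD2_c21 LD3_c52)))))))))))))
theorem f469296 : Led Lsl_et (LP (LK LD1_c13 LD2_c55 LD3_c25)) = (LP (LK LD1_c7 LD2_c21 LD3_c52)) :=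
  Lre_e IH (LK LD1_c13 LD2_c55 LD3_c25) (LK LD1_c7 LD2_c21 LD3_c52) Lrfl Lrfl
theorem f425510 : Led Lsl_dt (LP (LK LD1_c7 LD2_c20 LD3_c28)) = (LP (LK LD1_c13 LD2_c52 LD3_c60)) :=
  Lre_d IH (LK LD1_c7 LD2_c20 LD3_c28) (LK LD1_c13 LD2_c52 LD3_c60) Lrfl Lrfl
theorem f462590 : Led Lsl_gt (LP (LK LD1_c13 LD2_c52 LD3_c60)) = (LP (LK LD1_c23 LD2_c22 LD3_c46)) :=
  Lre_g IH (LK LD1_c13 LD2_c52 LD3_c60) (LK LD1_c23 LD2_c22 LD3_c46) Lrfl Lrfl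
theorem f554214 : Led Lsl_dt (LP (LK LD1_c13 LD2_c55 LD3_c25)) = (LP (LK LD1_c23 LD2_c22 LD3_c46)) :=
  Lgr Lrot56 (Lpr_et (f469296 IH) (Lpe (f543404 IH) (Lpr_ef (K37.f543558 IH) (Lpr_dt (f439569 IH) (Lpr_gt (K37.f469281 IH) (Lpe (f554197 IH) (Lpr_et (f554206 IH) (Lpe (K29.f470837 IH) (Lpr_dt (f425510 IH) (Lpr_gt (f462590 IH) (Lpn (LP (LK LD1_c23 LD2_c22 LD3_c46)))))))))))))
theorem f116222 : Led Lsl_dt (LP (LK LD1_c1 LD2_c47 LD3_c22)) = (LP (LK LD1_c3 LD2_c40 LD3_c49)) :=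
  Lre_d IH (LK LD1_c1 LD2_c47 LD3_c22) (LK LD1_c3 LD2_c40 LD3_c49) Lrfl Lrfl
theorem f159473 : Led Lsl_gt (LP (LK LD1_c23 LD2_c22 LD3_c46)) = (LP (LK LD1_c13 LD2_c52 LD3_c47)) :=
  Lre_g IH (LK LD1_c23 LD2_c22 LD3_c46) (LK LD1_c13 LD2_c52 LD3_c47) Lrfl Lrfl
theorem f159472 : Led Lsl_dt (LP (LK LD1_c7 LD2_c20 LD3_c23)) = (LP (LK LD1_c13 LD2_c52 LD3_c47)) :=
  Lre_d IH (LK LD1_c7 LD2_c20 LD3_c23) (LK LD1_c13 LD2_c52 LD3_c47) Lrfl Lrfl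
theorem f538830 : Led Lsl_dt (LP (LK LD1_c3 LD2_c42 LD3_c14)) = (LP (LK LD1_c6 LD2_c24 LD3_c58)) :=
  Lgr Lrot105 (Lpr_gf (K28.f159470 IH) (Lpe (K28.f159429 IH) (Lpe (f159483 IH) (Lpr_cf (K36.f159649 IH) (Lpr_gt (K8.f100228 IH) (Lpr_dt (K6.f100231 IH) (Lpe (K8.f160633 IH) (Lpr_dt (K35.f538820 IH) (Lpe (K37.f205607 IH) (Lpn (LP (LK LD1_c6 LD2_c24 LD3_c58))))))))))))
theorem f554222 : Led Lsl_gf (LP (LK LD1_c3 LD2_c40 LD3_c49)) = (LP (LK LD1_c6 LD2_c24 LD3_c58)) :=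
  Lgr Lrot134 (Lpe (f116222 IH) (Lpr_et (K28.f208953 IH) (Lpr_gt (f439412 IH) (Lpe (f469296 IH) (Lpr_dt (f554214 IH) (Lpr_gt (f159473 IH) (Lpe (f159472 IH) (Lpr_et (K35.f159468 IH) (Lpe (K28.f159470 IH) (Lpr_dt (f538830 IH) (Lpn (LP (LK LD1_c6 LD2_c24 LD3_c58)))))))))))))
theorem f239028 : Led Lsl_gt (LP (LK LD1_c11 LD2_c29 LD3_c14)) = (LP (LK LD1_c20 LD2_c26 LD3_c21)) :=
  Lre_g IH (LK LD1_c11 LD2_c29 LD3_c14) (LK LD1_c20 LD2_c26 LD3_c21) Lrfl Lrfl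
theorem f205237 : Led Lsl_et (LP (LK LD1_c21 LD2_c14 LD3_c54)) = (LP (LK LD1_c12 LD2_c8 LD3_c33)) :=
  Lre_e IH (LK LD1_c21 LD2_c14 LD3_c54) (LK LD1_c12 LD2_c8 LD3_c33) Lrfl Lrfl
theorem f543360 : Led Lsl_ef (LP (LK LD1_c12 LD2_c7 LD3_c55)) = (LP (LK LD1_c7 LD2_c14 LD3_c47)) :=
  Lgr Lrot88 (Lpr_et (K37.f543353 IH) (Lpn (LP (LK LD1_c7 LD2_c14 LD3_c47))))
theorem f481294 : Led Lsl_dt (LP (LK LD1_c3 LD2_c37 LD3_c11)) = (LP (LK LD1_c1 LD2_c45 LD3_c28)) :=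
  Lre_d IH (LK LD1_c3 LD2_c37 LD3_c11) (LK LD1_c1 LD2_c45 LD3_c28) Lrfl Lrfl
theorem f10661 : Led Lsl_dt (LP (LK LD1_c3 LD2_c36 LD3_c19)) = (LP (LK LD1_c7 LD2_c13 LD3_c1)) :=
  Lre_d IH (LK LD1_c3 LD2_c36 LD3_c19) (LK LD1_c7 LD2_c13 LD3_c1) Lrfl Lrfl
theorem f528292 : Led Lsl_ff (LP (LK LD1_c3 LD2_c37 LD3_c11)) = (LP (LK LD1_c7 LD2_c13 LD3_c1)) :=
  Lgr Lrot19 (Lpr_dt (f481294 IH) (Lpr_ft (K35.f519750 IH) (Lpq (K35.f528285 IH) (Lpr_dt (f10661 IH) (Lpn (LP (LK LD1_c7 LD2_c13 LD3_c1)))))))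
theorem f528304 : Led Lsl_ft (LP (LK LD1_c3 LD2_c37 LD3_c11)) = (LP (LK LD1_c7 LD2_c13 LD3_c1)) :=
  Lgr Lrot48 (Lpr_ff (f528292 IH) (Lpn (LP (LK LD1_c7 LD2_c13 LD3_c1))))
theorem f6080 : Led Lsl_bt (LP (LK LD1_c7 LD2_c14 LD3_c49)) = (LP (LK LD1_c3 LD2_c37 LD3_c11)) :=
  Lre_b IH (LK LD1_c7 LD2_c14 LD3_c49) (LK LD1_c3 LD2_c37 LD3_c11) Lrfl Lrfl
theorem f514323 : Led Lsl_bt (LP (LK LD1_c7 LD2_c13 LD3_c1)) = (LP (LK LD1_c13 LD2_c39 LD3_c37)) :=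
  Lre_b IH (LK LD1_c7 LD2_c13 LD3_c1) (LK LD1_c13 LD2_c39 LD3_c37) Lrfl Lrfl
theorem f528306 : Led Lsl_ff (LP (LK LD1_c7 LD2_c14 LD3_c49)) = (LP (LK LD1_c13 LD2_c39 LD3_c37)) :=
  Lgr Lrot25 (Lpr_bt (f6080 IH) (Lpr_ft (f528304 IH) (Lpr_bt (f514323 IH) (Lpn (LP (LK LD1_c13 LD2_c39 LD3_c37))))))
theorem f528420 : Led Lsl_at (LP (LK LD1_c7 LD2_c14 LD3_c49)) = (LP (LK LD1_c13 LD2_c42 LD3_c37)) :=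
  Lre_a IH (LK LD1_c7 LD2_c14 LD3_c49) (LK LD1_c13 LD2_c42 LD3_c37) Lrfl Lrfl
theorem f488808 : Led Lsl_gt (LP (LK LD1_c13 LD2_c39 LD3_c37)) = (LP (LK LD1_c23 LD2_c4 LD3_c54)) :=
  Lre_g IH (LK LD1_c13 LD2_c39 LD3_c37) (LK LD1_c23 LD2_c4 LD3_c54) Lrfl Lrfl
theorem f528424 : Led Lsl_gf (LP (LK LD1_c13 LD2_c42 LD3_c37)) = (LP (LK LD1_c23 LD2_c4 LD3_c54)) :=
  Lgr Lrot76 (Lpe (f528420 IH) (Lpr_ff (f528306 IH) (Lpr_gt (f488808 IH) (Lpn (LP (LK LD1_c23 LD2_c4 LD3_c54))))))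
theorem f543616 : Led Lsl_dt (LP (LK LD1_c21 LD2_c14 LD3_c54)) = (LP (LK LD1_c23 LD2_c4 LD3_c54)) :=
  Lgr Lrot136 (Lpr_et (f205237 IH) (Lpr_gf (K37.f543607 IH) (Lpe (K28.f208967 IH) (Lpe (f543420 IH) (Lpe (K11.f38140 IH) (Lpe (f70738 IH) (Lpe (K37.f543348 IH) (Lpr_ef (f543360 IH) (Lpr_dt (K37.f528277 IH) (Lpr_gf (f528424 IH) (Lpn (LP (LK LD1_c23 LD2_c4 LD3_c54)))))))))))))
theorem f543621 : Led Lsl_et (LP (LK LD1_c12 LD2_c8 LD3_c33)) = (LP (LK LD1_c21 LD2_c14 LD3_c54)) :=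
  Lre_e IH (LK LD1_c12 LD2_c8 LD3_c33) (LK LD1_c21 LD2_c14 LD3_c54) Lrfl Lrfl
theorem f210897 : Led Lsl_dt (LP (LK LD1_c21 LD2_c14 LD3_c53)) = (LP (LK LD1_c12 LD2_c8 LD3_c33)) :=
  Lre_d IH (LK LD1_c21 LD2_c14 LD3_c53) (LK LD1_c12 LD2_c8 LD3_c33) Lrfl Lrfl
theorem f239055 : Led Lsl_dt (LP (LK LD1_c29 LD2_c27 LD3_c12)) = (LP (LK LD1_c20 LD2_c26 LD3_c21)) :=
  Lre_d IH (LK LD1_c29 LD2_c27 LD3_c12) (LK LD1_c20 LD2_c26 LD3_c21) Lrfl Lrfl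
theorem f543098 : Led Lsl_et (LP (LK LD1_c29 LD2_c27 LD3_c12)) = (LP (LK LD1_c23 LD2_c4 LD3_c54)) :=
  Lgr Lrot121 (Lpr_dt (f239055 IH) (Lpe (f239028 IH) (Lpr_df (K37.f239020 IH) (Lpr_et (K16.f198398 IH) (Lpr_gf (K13.f241478 IH) (Lpr_ef (K37.f543090 IH) (Lpr_dt (K37.f155677 IH) (Lpr_gf (K37.f529040 IH) (Lpe (K37.f528258 IH) (Lpr_gf (f528424 IH) (Lpn (LP (LK LD1_c23 LD2_c4 LD3_c54)))))))))))))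
theorem f543100 : Led Lsl_ef (LP (LK LD1_c29 LD2_c27 LD3_c12)) = (LP (LK LD1_c23 LD2_c4 LD3_c54)) :=
  Lgr Lrot88 (Lpr_et (f543098 IH) (Lpn (LP (LK LD1_c23 LD2_c4 LD3_c54))))
theorem f543622 : Led Lsl_ef (LP (LK LD1_c21 LD2_c14 LD3_c53)) = (LP (LK LD1_c20 LD2_c26 LD3_c21)) :=
  Lgr Lrot73 (Lpr_dt (f210897 IH) (Lpr_et (f543621 IH) (Lpr_dt (f543616 IH) (Lpe (f543100 IH) (Lpr_dt (f239055 IH) (Lpn (LP (LK LD1_c20 LD2_c26 LD3_c21))))))))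
theorem f543625 : Led Lsl_et (LP (LK LD1_c21 LD2_c14 LD3_c53)) = (LP (LK LD1_c20 LD2_c26 LD3_c21)) :=
  Lgr Lrot87 (Lpr_ef (f543622 IH) (Lpn (LP (LK LD1_c20 LD2_c26 LD3_c21))))
theorem f210883 : Led Lsl_et (LP (LK LD1_c1 LD2_c28 LD3_c15)) = (LP (LK LD1_c2 LD2_c18 LD3_c50)) :=
  Lgr Lrot87 (Lpr_ef (K37.f210879 IH) (Lpn (LP (LK LD1_c2 LD2_c18 LD3_c50))))
theorem f210885 : Led Lsl_et (LP (LK LD1_c6 LD2_c15 LD3_c7)) = (LP (LK LD1_c3 LD2_c4 LD3_c32)) :=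
  Lre_e IH (LK LD1_c6 LD2_c15 LD3_c7) (LK LD1_c3 LD2_c4 LD3_c32) Lrfl Lrfl
theorem f205192 : Led Lsl_et (LP (LK LD1_c4 LD2_c42 LD3_c45)) = (LP (LK LD1_c9 LD2_c19 LD3_c43)) :=
  Lre_e IH (LK LD1_c4 LD2_c42 LD3_c45) (LK LD1_c9 LD2_c19 LD3_c43) Lrfl Lrfl
theorem f210886 : Led Lsl_df (LP (LK LD1_c6 LD2_c15 LD3_c7)) = (LP (LK LD1_c9 LD2_c19 LD3_c43)) :=
  Lgr Lrot70 (Lpr_et (f210885 IH) (Lpr_dt (f59062 IH) (Lpr_et (f210883 IH) (Lpr_dt (K37.f59060 IH) (Lpr_et (f205192 IH) (Lpn (LP (LK LD1_c9 LD2_c19 LD3_c43))))))))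
theorem f205314 : Led Lsl_et (LP (LK LD1_c9 LD2_c19 LD3_c43)) = (LP (LK LD1_c4 LD2_c42 LD3_c45)) :=
  Lre_e IH (LK LD1_c9 LD2_c19 LD3_c43) (LK LD1_c4 LD2_c42 LD3_c45) Lrfl Lrfl
theorem f59100 : Led Lsl_ft (LP (LK LD1_c4 LD2_c42 LD3_c45)) = (LP (LK LD1_c2 LD2_c18 LD3_c49)) :=
  Lre_f IH (LK LD1_c4 LD2_c42 LD3_c45) (LK LD1_c2 LD2_c18 LD3_c49) Lrfl Lrfl
theorem f205312 : Led Lsl_gf (LP (LK LD1_c8 LD2_c2 LD3_c8)) = (LP (LK LD1_c4 LD2_c42 LD3_c45)) :=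
  Lgr Lrot47 (Lpr_gt (K36.f80708 IH) (Lpr_af (K14.f205306 IH) (Lpe (f59100 IH) (Lpn (LP (LK LD1_c4 LD2_c42 LD3_c45))))))
theorem f552136 : Led Lsl_df (LP (LK LD1_c4 LD2_c36 LD3_c6)) = (LP (LK LD1_c8 LD2_c2 LD3_c8)) :=
  Lgr Lrot135 (Lpr_gt (f552128 IH) (Lpe (f239006 IH) (Lpr_et (K36.f239008 IH) (Lpr_gt (f239028 IH) (Lpe (f543625 IH) (Lpr_dt (f210897 IH) (Lpr_gt (K37.f205236 IH) (Lpr_df (f210886 IH) (Lpr_et (f205314 IH) (Lpe (f205312 IH) (Lpn (LP (LK LD1_c8 LD2_c2 LD3_c8)))))))))))))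
theorem f36439 : Led Lsl_dt (LP (LK LD1_c2 LD2_c9 LD3_c30)) = (LP (LK LD1_c1 LD2_c1 LD3_c52)) :=
  Lre_d IH (LK LD1_c2 LD2_c9 LD3_c30) (LK LD1_c1 LD2_c1 LD3_c52) Lrfl Lrfl
theorem f514722 : Led Lsl_gt (LP (LK LD1_c3 LD2_c35 LD3_c41)) = K36.v2338 :=
  Lgr Lrot46 (Lpe (K24.f5860 IH) (Lpr_ft (K24.f108269 IH) (Lpr_at (K36.f514717 IH) (Lpn K36.v2338))))
theorem f542973 : Led Lsl_gf (LP (LK LD1_c6 LD2_c13 LD3_c32)) = (LP (LK LD1_c3 LD2_c40 LD3_c49)) :=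
  Lgr Lrot143 (Lpe (K37.f443863 IH) (Lpr_cf (K36.f160586 IH) (Lpr_df (K37.f542960 IH) (Lpe (K31.f35828 IH) (Lpe (f36439 IH) (Lpq (K36.f540265 IH) (Lpe (f514722 IH) (Lpr_cf (K24.f439306 IH) (Lpr_gt (K24.f147327 IH) (Lpr_dt (f116222 IH) (Lpn (LP (LK LD1_c3 LD2_c40 LD3_c49)))))))))))))
theorem f552158 : Led Lsl_cf (LP (LK LD1_c4 LD2_c42 LD3_c45)) = (LP (LK LD1_c3 LD2_c40 LD3_c49)) :=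
  Lgr Lrot166 (Lpe (f205312 IH) (Lpe (f552136 IH) (Lpr_gt (f552128 IH) (Lpe (K36.f239003 IH) (Lpr_ct (f552150 IH) (Lpe (K28.f159439 IH) (Lpr_gf (K36.f425493 IH) (Lpr_df (K37.f443863 IH) (Lpr_gf (f542973 IH) (Lpn (LP (LK LD1_c3 LD2_c40 LD3_c49))))))))))))
theorem f542026 : Led Lsl_ct (LP (LK LD1_c7 LD2_c23 LD3_c5)) = (LP (LK LD1_c8 LD2_c2 LD3_c8)) :=
  Lgr Lrot8 (Lpr_gt (K36.f542024 IH) (Lpe (K36.f540317 IH) (Lpe (K24.f147204 IH) (Lpr_dt (K34.f147206 IH) (Lpr_cf (K36.f541096 IH) (Lpe (K32.f205323 IH) (Lpr_gf (K14.f255526 IH) (Lpe (K14.f80707 IH) (Lpe (K36.f80708 IH) (Lpn (LP (LK LD1_c8 LD2_c2 LD3_c8))))))))))))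
theorem f542045 : Led Lsl_df (LP (LK LD1_c7 LD2_c23 LD3_c5)) = (LP (LK LD1_c3 LD2_c55 LD3_c1)) :=
  Lgr Lrot183 (Lpr_ct (f542026 IH) (Lpr_bt (K36.f542032 IH) (Lpr_gt (K11.f149932 IH) (Lpr_dt (K11.f27051 IH) (Lpr_ct (K5.f27050 IH) (Lpr_bt (K4.f26927 IH) (Lpr_gt (K0.f27020 IH) (Lpr_dt (K1.f20073 IH) (Lpr_ct (K1.f20072 IH) (Lpr_bt (K3.f22467 IH) (Lpe (K1.f65253 IH) (Lpr_dt (K1.f65252 IH) (Lpr_ct (K1.f23461 IH) (Lpr_bt (K3.f14707 IH) (Lpr_gt (K3.f65390 IH) (Lpr_dt (K4.f107564 IH) (Lpe (K2.f11524 IH) (Lpr_bt (K8.f11645 IH) (Lpr_gt (K8.f11656 IH) (Lpn (LP (LK LD1_c3 LD2_c55 LD3_c1))))))))))))))))))))))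
theorem f554226 : Led Lsl_df (LP (LK LD1_c3 LD2_c42 LD3_c14)) = (LP (LK LD1_c6 LD2_c24 LD3_c58)) :=
  Lgr Lrot155 (Lpr_gt (K28.f108092 IH) (Lpe (K8.f108023 IH) (Lpr_gt (K36.f514954 IH) (Lpe (K36.f514956 IH) (Lpe (f542045 IH) (Lpr_cf (K36.f542028 IH) (Lpr_gf (f205312 IH) (Lpr_cf (f552158 IH) (Lpr_gf (f554222 IH) (Lpn (LP (LK LD1_c6 LD2_c24 LD3_c58))))))))))))
theorem f554247 : Led Lsl_gt (LP (LK LD1_c7 LD2_c25 LD3_c14)) = (LP (LK LD1_c14 LD2_c1 LD3_c57)) :=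
  Lre_g IH (LK LD1_c7 LD2_c25 LD3_c14) (LK LD1_c14 LD2_c1 LD3_c57) Lrfl Lrfl
theorem f554248 : Led Lsl_dt (LP (LK LD1_c14 LD2_c1 LD3_c57)) = (LP (LK LD1_c23 LD2_c34 LD3_c48)) :=
  Lre_d IH (LK LD1_c14 LD2_c1 LD3_c57) (LK LD1_c23 LD2_c34 LD3_c48) Lrfl Lrfl
theorem f554249 : Led Lsl_gt (LP (LK LD1_c23 LD2_c34 LD3_c48)) = (LP (LK LD1_c31 LD2_c7 LD3_c7)) :=
  Lre_g IH (LK LD1_c23 LD2_c34 LD3_c48) (LK LD1_c31 LD2_c7 LD3_c7) Lrfl Lrfl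
theorem f554250 : Led Lsl_et (LP (LK LD1_c6 LD2_c24 LD3_c58)) = (LP (LK LD1_c12 LD2_c22 LD3_c57)) :=
  Lre_e IH (LK LD1_c6 LD2_c24 LD3_c58) (LK LD1_c12 LD2_c22 LD3_c57) Lrfl Lrfl
theorem f538809 : Led Lsl_gt (LP (LK LD1_c21 LD2_c29 LD3_c52)) = (LP (LK LD1_c12 LD2_c22 LD3_c57)) :=
  Lre_g IH (LK LD1_c21 LD2_c29 LD3_c52) (LK LD1_c12 LD2_c22 LD3_c57) Lrfl Lrfl
theorem f554251 : Led Lsl_et (LP (LK LD1_c30 LD2_c3 LD3_c4)) = (LP (LK LD1_c21 LD2_c29 LD3_c52)) :=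
  Lre_e IH (LK LD1_c30 LD2_c3 LD3_c4) (LK LD1_c21 LD2_c29 LD3_c52) Lrfl Lrfl
theorem f554252 : Led Lsl_df (LP (LK LD1_c31 LD2_c7 LD3_c7)) = (LP (LK LD1_c30 LD2_c3 LD3_c4)) :=
  Lgr Lrot132 (Lpe (f554249 IH) (Lpe (f554248 IH) (Lpe (f554247 IH) (Lpe (K28.f159417 IH) (Lpr_dt (K8.f108090 IH) (Lpe (K28.f108092 IH) (Lpr_df (f554226 IH) (Lpr_et (f554250 IH) (Lpe (f538809 IH) (Lpe (f554251 IH) (Lpn (LP (LK LD1_c30 LD2_c3 LD3_c4)))))))))))))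
theorem f554254 : Led Lsl_dt (LP (LK LD1_c31 LD2_c7 LD3_c7)) = (LP (LK LD1_c30 LD2_c3 LD3_c4)) :=
  Lgr Lrot42 (Lpr_df (f554252 IH) (Lpn (LP (LK LD1_c30 LD2_c3 LD3_c4))))
theorem f239090 : Led Lsl_et (LP (LK LD1_c11 LD2_c29 LD3_c12)) = (LP (LK LD1_c5 LD2_c50 LD3_c49)) :=
  Lre_e IH (LK LD1_c11 LD2_c29 LD3_c12) (LK LD1_c5 LD2_c50 LD3_c49) Lrfl Lrfl
theorem f541130 : Led Lsl_ct (LP (LK LD1_c7 LD2_c25 LD3_c14)) = (LP (LK LD1_c11 LD2_c29 LD3_c12)) :=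
  Lgr Lrot15 (Lpe (K28.f159417 IH) (Lpr_cf (K36.f541126 IH) (Lpe (f239090 IH) (Lpn (LP (LK LD1_c11 LD2_c29 LD3_c12))))))
theorem f56490 : Led Lsl_dt (LP (LK LD1_c21 LD2_c13 LD3_c26)) = (LP (LK LD1_c29 LD2_c54 LD3_c34)) :=
  Lre_d IH (LK LD1_c21 LD2_c13 LD3_c26) (LK LD1_c29 LD2_c54 LD3_c34) Lrfl Lrfl
theorem f421098 : Led Lsl_dt (LP (LK LD1_c20 LD2_c25 LD3_c42)) = (LP (LK LD1_c29 LD2_c27 LD3_c9)) :=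
  Lre_d IH (LK LD1_c20 LD2_c25 LD3_c42) (LK LD1_c29 LD2_c27 LD3_c9) Lrfl Lrfl
theorem f421099 : Led Lsl_dt (LP (LK LD1_c31 LD2_c44 LD3_c50)) = (LP (LK LD1_c29 LD2_c27 LD3_c10)) :=
  Lgr Lrot77 (Lpe (K37.f411255 IH) (Lpe (f56490 IH) (Lpr_ef (K37.f421096 IH) (Lpe (f421098 IH) (Lpe (K37.f421084 IH) (Lpn (LP (LK LD1_c29 LD2_c27 LD3_c10))))))))
theorem f554257 : Led Lsl_ct (LP (LK LD1_c29 LD2_c27 LD3_c10)) = (LP (LK LD1_c30 LD2_c3 LD3_c4)) :=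
  Lgr Lrot7 (Lpe (f421099 IH) (Lpr_gf (K37.f421106 IH) (Lpe (K37.f420709 IH) (Lpr_gf (K37.f420707 IH) (Lpe (f541130 IH) (Lpr_gt (f554247 IH) (Lpr_dt (f554248 IH) (Lpr_gt (f554249 IH) (Lpr_dt (f554254 IH) (Lpn (LP (LK LD1_c30 LD2_c3 LD3_c4))))))))))))
theorem f554259 : Led Lsl_cf (LP (LK LD1_c29 LD2_c27 LD3_c10)) = (LP (LK LD1_c30 LD2_c3 LD3_c4)) :=
  Lgr Lrot11 (Lpr_ct (f554257 IH) (Lpn (LP (LK LD1_c30 LD2_c3 LD3_c4))))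
theorem f554265 : Led Lsl_ct (LP (LK LD1_c11 LD2_c29 LD3_c12)) = (LP (LK LD1_c7 LD2_c25 LD3_c14)) :=
  Lgr Lrot8 (Lpe (K37.f420707 IH) (Lpr_dt (K37.f420709 IH) (Lpe (K37.f421106 IH) (Lpr_dt (f421099 IH) (Lpr_cf (f554259 IH) (Lpe (f554254 IH) (Lpe (f554249 IH) (Lpe (f554248 IH) (Lpe (f554247 IH) (Lpn (LP (LK LD1_c7 LD2_c25 LD3_c14))))))))))))
theorem f411234 : Led Lsl_af (LP (LK LD1_c11 LD2_c29 LD3_c12)) = (LP (LK LD1_c12 LD2_c23 LD3_c47)) :=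
  Lgr Lrot0 (Lpr_at (K37.f411232 IH) (Lpn (LP (LK LD1_c12 LD2_c23 LD3_c47))))
theorem f159272 : Led Lsl_at (LP (LK LD1_c7 LD2_c25 LD3_c14)) = (LP (LK LD1_c14 LD2_c1 LD3_c52)) :=
  Lre_a IH (LK LD1_c7 LD2_c25 LD3_c14) (LK LD1_c14 LD2_c1 LD3_c52) Lrfl Lrfl
theorem f554267 : Led Lsl_cf (LP (LK LD1_c12 LD2_c23 LD3_c47)) = (LP (LK LD1_c14 LD2_c1 LD3_c52)) :=
  Lgr Lrot1 (Lpe (f411234 IH) (Lpr_ct (f554265 IH) (Lpr_at (f159272 IH) (Lpn (LP (LK LD1_c14 LD2_c1 LD3_c52))))))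
theorem f159442 : Led Lsl_et (LP (LK LD1_c7 LD2_c25 LD3_c10)) = (LP (LK LD1_c14 LD2_c1 LD3_c52)) :=
  Lre_e IH (LK LD1_c7 LD2_c25 LD3_c10) (LK LD1_c14 LD2_c1 LD3_c52) Lrfl Lrfl
theorem f554307 : Led Lsl_ct (LP (LK LD1_c6 LD2_c25 LD3_c32)) = (LP (LK LD1_c7 LD2_c25 LD3_c10)) :=
  Lgr Lrot15 (Lpe (K37.f407952 IH) (Lpr_cf (f554267 IH) (Lpe (f159442 IH) (Lpn (LP (LK LD1_c7 LD2_c25 LD3_c10))))))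
theorem f202576 : Led Lsl_cf (LP (LK LD1_c6 LD2_c15 LD3_c39)) = (LP (LK LD1_c11 LD2_c34 LD3_c5)) :=
  Lgr Lrot166 (Lpr_gt (K8.f132687 IH) (Lpr_dt (K6.f80269 IH) (Lpe (K11.f133005 IH) (Lpr_dt (K11.f202566 IH) (Lpr_ct (K32.f72417 IH) (Lpr_df (K32.f163441 IH) (Lpe (K32.f138305 IH) (Lpe (K32.f138301 IH) (Lpe (K32.f138191 IH) (Lpn (LP (LK LD1_c11 LD2_c34 LD3_c5))))))))))))
theorem f202582 : Led Lsl_gt (LP (LK LD1_c5 LD2_c54 LD3_c11)) = (LP (LK LD1_c11 LD2_c34 LD3_c5)) :=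
  Lgr Lrot150 (Lpe (K36.f71026 IH) (Lpe (K36.f71020 IH) (Lpe (K2.f70869 IH) (Lpr_gt (K38.f163322 IH) (Lpr_ct (K8.f138309 IH) (Lpe (K8.f163328 IH) (Lpe (K8.f139370 IH) (Lpe (K8.f132689 IH) (Lpr_cf (f202576 IH) (Lpn (LP (LK LD1_c11 LD2_c34 LD3_c5))))))))))))
theorem f202578 : Led Lsl_at (LP (LK LD1_c11 LD2_c32 LD3_c56)) = (LP (LK LD1_c11 LD2_c34 LD3_c5)) :=
  Lgr Lrot107 (Lpe (K8.f138147 IH) (Lpr_af (K8.f158303 IH) (Lpr_cf (f202576 IH) (Lpn (LP (LK LD1_c11 LD2_c34 LD3_c5))))))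
theorem f202591 : Led Lsl_gf (LP (LK LD1_c5 LD2_c54 LD3_c11)) = (LP (LK LD1_c11 LD2_c34 LD3_c4)) :=
  Lgr Lrot47 (Lpr_gt (f202582 IH) (Lpe (f202578 IH) (Lpr_ff (f158311 IH) (Lpn (LP (LK LD1_c11 LD2_c34 LD3_c4))))))
theorem f541092 : Led Lsl_bt (LP (LK LD1_c2 LD2_c53 LD3_c30)) = (LP (LK LD1_c3 LD2_c10 LD3_c27)) :=
  Lgr Lrot22 (Lpr_ct (K36.f71026 IH) (Lpr_gf (f202591 IH) (Lpe (f156801 IH) (Lpe (K7.f132872 IH) (Lpe (K36.f80989 IH) (Lpr_ct (K4.f59629 IH) (Lpe (K36.f81101 IH) (Lpr_cf (K36.f541080 IH) (Lpr_bt (K36.f407951 IH) (Lpe (K32.f205185 IH) (Lpn (LP (LK LD1_c3 LD2_c10 LD3_c27)))))))))))))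
theorem f156803 : Led Lsl_gt (LP (LK LD1_c4 LD2_c0 LD3_c46)) = (LP (LK LD1_c4 LD2_c23 LD3_c48)) :=
  Lgr Lrot164 (Lpe (f149431 IH) (Lpr_ct (f156801 IH) (Lpe (f72244 IH) (Lpe (K8.f72243 IH) (Lpe (K8.f72242 IH) (Lpe (K2.f72223 IH) (Lpr_ct (K8.f69337 IH) (Lpe (K2.f59703 IH) (Lpr_cf (K2.f59699 IH) (Lpr_bt (f59709 IH) (Lpn (LP (LK LD1_c4 LD2_c23 LD3_c48)))))))))))))
theorem f542525 : Led Lsl_gt (LP (LK LD1_c5 LD2_c43 LD3_c56)) = (LP (LK LD1_c4 LD2_c0 LD3_c46)) :=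
  Lgr Lrot5 (Lpr_ft (K36.f542519 IH) (Lpr_at (K36.f81373 IH) (Lpe (f156803 IH) (Lpn (LP (LK LD1_c4 LD2_c0 LD3_c46))))))
theorem f315238 : Led Lsl_af (LP (LK LD1_c2 LD2_c24 LD3_c46)) = (LP (LK LD1_c2 LD2_c18 LD3_c52)) :=
  Lgr Lrot45 (Lpr_ft (K20.f315216 IH) (Lpe (K20.f315220 IH) (Lpr_ft (K20.f315236 IH) (Lpn (LP (LK LD1_c2 LD2_c18 LD3_c52))))))
theorem f239186 : Led Lsl_ct (LP (LK LD1_c3 LD2_c10 LD3_c4)) = (LP (LK LD1_c6 LD2_c24 LD3_c56)) :=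
  Lre_c IH (LK LD1_c3 LD2_c10 LD3_c4) (LK LD1_c6 LD2_c24 LD3_c56) Lrfl Lrfl
theorem f552193 : Led Lsl_dt (LP (LK LD1_c6 LD2_c24 LD3_c56)) = (LP (LK LD1_c3 LD2_c40 LD3_c48)) :=
  Lgr Lrot140 (Lpe (f239186 IH) (Lpe (K37.f198450 IH) (Lpr_cf (K13.f239182 IH) (Lpe (K13.f239356 IH) (Lpr_ft (K20.f315236 IH) (Lpe (f315238 IH) (Lpr_cf (f240637 IH) (Lpr_df (f552183 IH) (Lpr_cf (K24.f439306 IH) (Lpn (LP (LK LD1_c3 LD2_c40 LD3_c48))))))))))))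
theorem f554313 : Led Lsl_gf (LP (LK LD1_c6 LD2_c24 LD3_c56)) = (LP (LK LD1_c7 LD2_c25 LD3_c10)) :=
  Lgr Lrot148 (Lpr_dt (f552193 IH) (Lpr_gt (K24.f147327 IH) (Lpr_dt (f116222 IH) (Lpe (f552158 IH) (Lpe (K37.f59060 IH) (Lpe (K11.f205317 IH) (Lpe (K32.f205322 IH) (Lpr_gf (K32.f407949 IH) (Lpr_ct (f554307 IH) (Lpn (LP (LK LD1_c7 LD2_c25 LD3_c10))))))))))))
theorem f554317 : Led Lsl_bf (LP (LK LD1_c5 LD2_c43 LD3_c56)) = (LP (LK LD1_c3 LD2_c10 LD3_c4)) :=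
  Lgr Lrot156 (Lpr_gt (f542525 IH) (Lpe (f149431 IH) (Lpr_ct (f156801 IH) (Lpe (f202591 IH) (Lpe (K36.f71026 IH) (Lpr_bt (f541092 IH) (Lpr_gt (K32.f205185 IH) (Lpr_ct (f554307 IH) (Lpe (f554313 IH) (Lpe (f239186 IH) (Lpn (LP (LK LD1_c3 LD2_c10 LD3_c4)))))))))))))
theorem f554323 : Led Lsl_bt (LP (LK LD1_c11 LD2_c17 LD3_c48)) = (LP (LK LD1_c6 LD2_c24 LD3_c57)) :=
  Lgr Lrot119 (Lpe (K36.f542516 IH) (Lpr_bf (f554317 IH) (Lpe (K37.f239319 IH) (Lpn (LP (LK LD1_c6 LD2_c24 LD3_c57))))))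
theorem f542524 : Led Lsl_ft (LP (LK LD1_c20 LD2_c13 LD3_c61)) = (LP (LK LD1_c11 LD2_c17 LD3_c48)) :=
  Lre_f IH (LK LD1_c20 LD2_c13 LD3_c61) (LK LD1_c11 LD2_c17 LD3_c48) Lrfl Lrfl
theorem f554334 : Led Lsl_bf (LP (LK LD1_c20 LD2_c13 LD3_c61)) = (LP (LK LD1_c12 LD2_c22 LD3_c55)) :=
  Lgr Lrot61 (Lpr_ft (f542524 IH) (Lpr_bt (f554323 IH) (Lpr_ft (K37.f239324 IH) (Lpn (LP (LK LD1_c12 LD2_c22 LD3_c55))))))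
theorem f542542 : Led Lsl_af (LP (LK LD1_c20 LD2_c13 LD3_c61)) = (LP (LK LD1_c12 LD2_c6 LD3_c52)) :=
  Lgr Lrot45 (Lpr_ft (f542524 IH) (Lpr_at (K36.f542531 IH) (Lpr_ft (K32.f81367 IH) (Lpn (LP (LK LD1_c12 LD2_c6 LD3_c52))))))
theorem f81363 : Led Lsl_dt (LP (LK LD1_c16 LD2_c23 LD3_c35)) = (LP (LK LD1_c26 LD2_c21 LD3_c37)) :=
  Lre_d IH (LK LD1_c16 LD2_c23 LD3_c35) (LK LD1_c26 LD2_c21 LD3_c37) Lrfl Lrfl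
theorem f69888 : Led Lsl_bt (LP (LK LD1_c31 LD2_c45 LD3_c3)) = (LP (LK LD1_c25 LD2_c3 LD3_c10)) :=
  Lre_b IH (LK LD1_c31 LD2_c45 LD3_c3) (LK LD1_c25 LD2_c3 LD3_c10) Lrfl Lrfl
theorem f69990 : Led Lsl_bt (LP (LK LD1_c16 LD2_c23 LD3_c42)) = (LP (LK LD1_c26 LD2_c21 LD3_c37)) :=
  Lre_b IH (LK LD1_c16 LD2_c23 LD3_c42) (LK LD1_c26 LD2_c21 LD3_c37) Lrfl Lrfl
theorem f69993 : Led Lsl_ef (LP (LK LD1_c31 LD2_c45 LD3_c3)) = (LP (LK LD1_c26 LD2_c21 LD3_c37)) :=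
  Lgr Lrot29 (Lpr_bt (f69888 IH) (Lpr_et (K2.f69983 IH) (Lpr_bt (f69990 IH) (Lpn (LP (LK LD1_c26 LD2_c21 LD3_c37))))))
theorem f70050 : Led Lsl_dt (LP (LK LD1_c31 LD2_c45 LD3_c3)) = (LP (LK LD1_c25 LD2_c2 LD3_c45)) :=
  Lre_d IH (LK LD1_c31 LD2_c45 LD3_c3) (LK LD1_c25 LD2_c2 LD3_c45) Lrfl Lrfl
theorem f81364 : Led Lsl_et (LP (LK LD1_c25 LD2_c2 LD3_c45)) = (LP (LK LD1_c15 LD2_c13 LD3_c40)) :=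
  Lre_e IH (LK LD1_c25 LD2_c2 LD3_c45) (LK LD1_c15 LD2_c13 LD3_c40) Lrfl Lrfl
theorem f81365 : Led Lsl_df (LP (LK LD1_c12 LD2_c6 LD3_c52)) = (LP (LK LD1_c15 LD2_c13 LD3_c40)) :=
  Lgr Lrot70 (Lpr_et (K32.f81361 IH) (Lpr_dt (f81363 IH) (Lpe (f69993 IH) (Lpr_dt (f70050 IH) (Lpr_et (f81364 IH) (Lpn (LP (LK LD1_c15 LD2_c13 LD3_c40))))))))
theorem f34507 : Led Lsl_at (LP (LK LD1_c25 LD2_c2 LD3_c32)) = (LP (LK LD1_c15 LD2_c13 LD3_c40)) :=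
  Lre_a IH (LK LD1_c25 LD2_c2 LD3_c32) (LK LD1_c15 LD2_c13 LD3_c40) Lrfl Lrfl
theorem f542552 : Led Lsl_dt (LP (LK LD1_c20 LD2_c13 LD3_c61)) = (LP (LK LD1_c25 LD2_c2 LD3_c32)) :=
  Lgr Lrot44 (Lpr_af (f542542 IH) (Lpr_df (f81365 IH) (Lpe (f34507 IH) (Lpn (LP (LK LD1_c25 LD2_c2 LD3_c32))))))
theorem f554343 : Led Lsl_bt (LP (LK LD1_c25 LD2_c2 LD3_c32)) = (LP (LK LD1_c16 LD2_c12 LD3_c14)) :=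
  Lgr Lrot95 (Lpe (f542552 IH) (Lpr_bf (f554334 IH) (Lpe (K37.f239346 IH) (Lpn (LP (LK LD1_c16 LD2_c12 LD3_c14))))))
theorem f35317 : Led Lsl_et (LP (LK LD1_c8 LD2_c38 LD3_c24)) = (LP (LK LD1_c4 LD2_c20 LD3_c15)) :=
  Lre_e IH (LK LD1_c8 LD2_c38 LD3_c24) (LK LD1_c4 LD2_c20 LD3_c15) Lrfl Lrfl
theorem f231540 : Led Lsl_ft (LP (LK LD1_c8 LD2_c39 LD3_c4)) = (LP (LK LD1_c16 LD2_c12 LD3_c14)) :=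
  Lre_f IH (LK LD1_c8 LD2_c39 LD3_c4) (LK LD1_c16 LD2_c12 LD3_c14) Lrfl Lrfl
theorem f346801 : Led Lsl_ef (LP (LK LD1_c16 LD2_c10 LD3_c51)) = (LP (LK LD1_c16 LD2_c12 LD3_c14)) :=
  Lgr Lrot21 (Lpr_ft (K37.f346800 IH) (Lpr_et (f35317 IH) (Lpr_ft (K23.f346794 IH) (Lpr_et (K37.f231529 IH) (Lpr_ft (f231540 IH) (Lpn (LP (LK LD1_c16 LD2_c12 LD3_c14))))))))
theorem f346803 : Led Lsl_bt (LP (LK LD1_c16 LD2_c10 LD3_c51)) = (LP (LK LD1_c26 LD2_c7 LD3_c41)) :=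
  Lre_b IH (LK LD1_c16 LD2_c10 LD3_c51) (LK LD1_c26 LD2_c7 LD3_c41) Lrfl Lrfl
theorem f554349 : Led Lsl_ef (LP (LK LD1_c25 LD2_c2 LD3_c32)) = (LP (LK LD1_c26 LD2_c7 LD3_c41)) :=
  Lgr Lrot29 (Lpr_bt (f554343 IH) (Lpe (f346801 IH) (Lpr_bt (f346803 IH) (Lpn (LP (LK LD1_c26 LD2_c7 LD3_c41))))))
theorem f554353 : Led Lsl_et (LP (LK LD1_c25 LD2_c2 LD3_c32)) = (LP (LK LD1_c26 LD2_c7 LD3_c41)) :=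
  Lgr Lrot87 (Lpr_ef (f554349 IH) (Lpn (LP (LK LD1_c26 LD2_c7 LD3_c41))))
theorem f542567 : Led Lsl_ft (LP (LK LD1_c15 LD2_c13 LD3_c29)) = (LP (LK LD1_c25 LD2_c2 LD3_c32)) :=
  Lre_f IH (LK LD1_c15 LD2_c13 LD3_c29) (LK LD1_c25 LD2_c2 LD3_c32) Lrfl Lrfl
theorem f81441 : Led Lsl_et (LP (LK LD1_c8 LD2_c5 LD3_c8)) = (LP (LK LD1_c15 LD2_c13 LD3_c29)) :=
  Lre_e IH (LK LD1_c8 LD2_c5 LD3_c8) (LK LD1_c15 LD2_c13 LD3_c29) Lrfl Lrfl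
theorem f346853 : Led Lsl_ft (LP (LK LD1_c26 LD2_c7 LD3_c41)) = (LP (LK LD1_c16 LD2_c10 LD3_c48)) :=
  Lre_f IH (LK LD1_c26 LD2_c7 LD3_c41) (LK LD1_c16 LD2_c10 LD3_c48) Lrfl Lrfl
theorem f346859 : Led Lsl_et (LP (LK LD1_c16 LD2_c10 LD3_c48)) = (LP (LK LD1_c8 LD2_c38 LD3_c23)) :=
  Lre_e IH (LK LD1_c16 LD2_c10 LD3_c48) (LK LD1_c8 LD2_c38 LD3_c23) Lrfl Lrfl
theorem f554357 : Led Lsl_ff (LP (LK LD1_c8 LD2_c5 LD3_c8)) = (LP (LK LD1_c8 LD2_c38 LD3_c23)) :=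
  Lgr Lrot72 (Lpr_et (f81441 IH) (Lpr_ft (f542567 IH) (Lpr_et (f554353 IH) (Lpr_ft (f346853 IH) (Lpr_et (f346859 IH) (Lpn (LP (LK LD1_c8 LD2_c38 LD3_c23))))))))
theorem f81442 : Led Lsl_ct (LP (LK LD1_c8 LD2_c5 LD3_c8)) = (LP (LK LD1_c15 LD2_c13 LD3_c28)) :=
  Lre_c IH (LK LD1_c8 LD2_c5 LD3_c8) (LK LD1_c15 LD2_c13 LD3_c28) Lrfl Lrfl
theorem f346861 : Led Lsl_ct (LP (LK LD1_c16 LD2_c10 LD3_c47)) = (LP (LK LD1_c8 LD2_c38 LD3_c23)) :=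
  Lre_c IH (LK LD1_c16 LD2_c10 LD3_c47) (LK LD1_c8 LD2_c38 LD3_c23) Lrfl Lrfl
theorem f554363 : Led Lsl_ft (LP (LK LD1_c15 LD2_c13 LD3_c28)) = (LP (LK LD1_c16 LD2_c10 LD3_c47)) :=
  Lgr Lrot4 (Lpe (f81442 IH) (Lpr_ff (f554357 IH) (Lpe (f346861 IH) (Lpn (LP (LK LD1_c16 LD2_c10 LD3_c47))))))
theorem f554374 : Led Lsl_ff (LP (LK LD1_c15 LD2_c13 LD3_c28)) = (LP (LK LD1_c16 LD2_c10 LD3_c47)) :=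
  Lgr Lrot3 (Lpr_ft (f554363 IH) (Lpn (LP (LK LD1_c16 LD2_c10 LD3_c47))))
theorem f554378 : Led Lsl_bt (LP (LK LD1_c15 LD2_c13 LD3_c28)) = (LP (LK LD1_c25 LD2_c2 LD3_c30)) :=
  Lre_b IH (LK LD1_c15 LD2_c13 LD3_c28) (LK LD1_c25 LD2_c2 LD3_c30) Lrfl Lrfl
theorem f240727 : Led Lsl_ct (LP (LK LD1_c4 LD2_c20 LD3_c15)) = (LP (LK LD1_c6 LD2_c7 LD3_c13)) :=
  Lgr Lrot59 (Lpr_cf (K13.f240710 IH) (Lpn (LP (LK LD1_c6 LD2_c7 LD3_c13))))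
theorem f346782 : Led Lsl_bt (LP (LK LD1_c8 LD2_c38 LD3_c23)) = (LP (LK LD1_c4 LD2_c20 LD3_c15)) :=
  Lre_b IH (LK LD1_c8 LD2_c38 LD3_c23) (LK LD1_c4 LD2_c20 LD3_c15) Lrfl Lrfl
theorem f240736 : Led Lsl_bt (LP (LK LD1_c6 LD2_c7 LD3_c13)) = (LP (LK LD1_c11 LD2_c57 LD3_c16)) :=
  Lre_b IH (LK LD1_c6 LD2_c7 LD3_c13) (LK LD1_c11 LD2_c57 LD3_c16) Lrfl Lrfl
theorem f177523 : Led Lsl_ct (LP (LK LD1_c11 LD2_c57 LD3_c16)) = (LP (LK LD1_c21 LD2_c2 LD3_c17)) :=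
  Lre_c IH (LK LD1_c11 LD2_c57 LD3_c16) (LK LD1_c21 LD2_c2 LD3_c17) Lrfl Lrfl
theorem f418114 : Led Lsl_bf (LP (LK LD1_c16 LD2_c10 LD3_c47)) = (LP (LK LD1_c21 LD2_c2 LD3_c17)) :=
  Lgr Lrot90 (Lpr_ct (f346861 IH) (Lpr_bt (f346782 IH) (Lpr_ct (f240727 IH) (Lpr_bt (f240736 IH) (Lpr_ct (f177523 IH) (Lpn (LP (LK LD1_c21 LD2_c2 LD3_c17))))))))
theorem f554379 : Led Lsl_ft (LP (LK LD1_c25 LD2_c2 LD3_c30)) = (LP (LK LD1_c21 LD2_c2 LD3_c17)) :=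
  Lgr Lrot75 (Lpe (f554378 IH) (Lpr_ff (f554374 IH) (Lpr_bf (f418114 IH) (Lpn (LP (LK LD1_c21 LD2_c2 LD3_c17))))))
theorem f177535 : Led Lsl_ct (LP (LK LD1_c21 LD2_c2 LD3_c17)) = (LP (LK LD1_c11 LD2_c57 LD3_c16)) :=
  Lre_c IH (LK LD1_c21 LD2_c2 LD3_c17) (LK LD1_c11 LD2_c57 LD3_c16) Lrfl Lrfl
theorem f231477 : Led Lsl_bt (LP (LK LD1_c15 LD2_c29 LD3_c40)) = (LP (LK LD1_c8 LD2_c14 LD3_c7)) :=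
  Lre_b IH (LK LD1_c15 LD2_c29 LD3_c40) (LK LD1_c8 LD2_c14 LD3_c7) Lrfl Lrfl
theorem f346929 : Led Lsl_ft (LP (LK LD1_c11 LD2_c57 LD3_c16)) = (LP (LK LD1_c15 LD2_c29 LD3_c40)) :=
  Lgr Lrot75 (Lpe (f240736 IH) (Lpr_ff (K23.f346796 IH) (Lpe (f231477 IH) (Lpn (LP (LK LD1_c15 LD2_c29 LD3_c40))))))
theorem f554381 : Led Lsl_cf (LP (LK LD1_c25 LD2_c2 LD3_c30)) = (LP (LK LD1_c15 LD2_c29 LD3_c40)) :=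
  Lgr Lrot108 (Lpr_ft (f554379 IH) (Lpr_ct (f177535 IH) (Lpr_ft (f346929 IH) (Lpn (LP (LK LD1_c15 LD2_c29 LD3_c40))))))
theorem f554383 : Led Lsl_ct (LP (LK LD1_c25 LD2_c2 LD3_c30)) = (LP (LK LD1_c15 LD2_c29 LD3_c40)) :=
  Lgr Lrot59 (Lpr_cf (f554381 IH) (Lpn (LP (LK LD1_c15 LD2_c29 LD3_c40))))
theorem f554385 : Led Lsl_bf (LP (LK LD1_c8 LD2_c5 LD3_c8)) = (LP (LK LD1_c4 LD2_c20 LD3_c42)) :=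
  Lgr Lrot90 (Lpr_ct (f81442 IH) (Lpr_bt (f554378 IH) (Lpr_ct (f554383 IH) (Lpr_bt (f231477 IH) (Lpr_ct (K13.f231514 IH) (Lpn (LP (LK LD1_c4 LD2_c20 LD3_c42))))))))
theorem f201457 : Led Lsl_ct (LP (LK LD1_c8 LD2_c38 LD3_c7)) = (LP (LK LD1_c16 LD2_c10 LD3_c25)) :=
  Lre_c IH (LK LD1_c8 LD2_c38 LD3_c7) (LK LD1_c16 LD2_c10 LD3_c25) Lrfl Lrfl
theorem f171709 : Led Lsl_dt (LP (LK LD1_c5 LD2_c13 LD3_c53)) = (LP (LK LD1_c10 LD2_c17 LD3_c54)) :=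
  Lre_d IH (LK LD1_c5 LD2_c13 LD3_c53) (LK LD1_c10 LD2_c17 LD3_c54) Lrfl Lrfl
theorem f421213 : Led Lsl_dt (LP (LK LD1_c7 LD2_c59 LD3_c61)) = (LP (LK LD1_c3 LD2_c59 LD3_c23)) :=
  Lre_d IH (LK LD1_c7 LD2_c59 LD3_c61) (LK LD1_c3 LD2_c59 LD3_c23) Lrfl Lrfl
theorem f421214 : Led Lsl_ft (LP (LK LD1_c10 LD2_c17 LD3_c54)) = (LP (LK LD1_c7 LD2_c59 LD3_c61)) :=
  Lgr Lrot54 (Lpe (f171709 IH) (Lpr_ff (K35.f421209 IH) (Lpe (f421213 IH) (Lpn (LP (LK LD1_c7 LD2_c59 LD3_c61))))))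
theorem f132721 : Led Lsl_bt (LP (LK LD1_c7 LD2_c59 LD3_c61)) = (LP (LK LD1_c15 LD2_c4 LD3_c40)) :=
  Lre_b IH (LK LD1_c7 LD2_c59 LD3_c61) (LK LD1_c15 LD2_c4 LD3_c40) Lrfl Lrfl
theorem f37825 : Led Lsl_dt (LP (LK LD1_c7 LD2_c59 LD3_c56)) = (LP (LK LD1_c15 LD2_c4 LD3_c40)) :=
  Lre_d IH (LK LD1_c7 LD2_c59 LD3_c56) (LK LD1_c15 LD2_c4 LD3_c40) Lrfl Lrfl
theorem f186702 : Led Lsl_dt (LP (LK LD1_c11 LD2_c35 LD3_c10)) = (LP (LK LD1_c5 LD2_c54 LD3_c50)) :=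
  Lre_d IH (LK LD1_c11 LD2_c35 LD3_c10) (LK LD1_c5 LD2_c54 LD3_c50) Lrfl Lrfl
theorem f387234 : Led Lsl_ft (LP (LK LD1_c15 LD2_c4 LD3_c40)) = (LP (LK LD1_c11 LD2_c35 LD3_c10)) :=
  Lgr Lrot54 (Lpe (f37825 IH) (Lpr_ff (K35.f387232 IH) (Lpe (f186702 IH) (Lpn (LP (LK LD1_c11 LD2_c35 LD3_c10))))))
theorem f421216 : Led Lsl_bf (LP (LK LD1_c10 LD2_c17 LD3_c54)) = (LP (LK LD1_c11 LD2_c35 LD3_c10)) :=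
  Lgr Lrot61 (Lpr_ft (f421214 IH) (Lpr_bt (f132721 IH) (Lpr_ft (f387234 IH) (Lpn (LP (LK LD1_c11 LD2_c35 LD3_c10))))))
theorem f421230 : Led Lsl_bt (LP (LK LD1_c10 LD2_c17 LD3_c54)) = (LP (LK LD1_c11 LD2_c35 LD3_c10)) :=
  Lgr Lrot127 (Lpr_bf (f421216 IH) (Lpn (LP (LK LD1_c11 LD2_c35 LD3_c10))))
theorem f421205 : Led Lsl_ct (LP (LK LD1_c10 LD2_c17 LD3_c54)) = (LP (LK LD1_c18 LD2_c42 LD3_c58)) :=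
  Lre_c IH (LK LD1_c10 LD2_c17 LD3_c54) (LK LD1_c18 LD2_c42 LD3_c58) Lrfl Lrfl
theorem f538472 : Led Lsl_gt (LP (LK LD1_c16 LD2_c10 LD3_c25)) = (LP (LK LD1_c18 LD2_c42 LD3_c58)) :=
  Lgr Lrot65 (Lpe (f201457 IH) (Lpr_bt (K36.f201456 IH) (Lpe (K11.f201435 IH) (Lpr_bf (K35.f420947 IH) (Lpr_ct (K35.f420930 IH) (Lpe (K35.f420932 IH) (Lpe (K35.f538468 IH) (Lpr_gf (K35.f538464 IH) (Lpe (f421230 IH) (Lpr_ct (f421205 IH) (Lpn (LP (LK LD1_c18 LD2_c42 LD3_c58)))))))))))))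
theorem f308552 : Led Lsl_dt (LP (LK LD1_c10 LD2_c5 LD3_c0)) = (LP (LK LD1_c5 LD2_c7 LD3_c13)) :=
  Lre_d IH (LK LD1_c10 LD2_c5 LD3_c0) (LK LD1_c5 LD2_c7 LD3_c13) Lrfl Lrfl
theorem f308593 : Led Lsl_dt (LP (LK LD1_c5 LD2_c13 LD3_c56)) = (LP (LK LD1_c10 LD2_c17 LD3_c57)) :=
  Lre_d IH (LK LD1_c5 LD2_c13 LD3_c56) (LK LD1_c10 LD2_c17 LD3_c57) Lrfl Lrfl
theorem f427945 : Led Lsl_ff (LP (LK LD1_c10 LD2_c5 LD3_c0)) = (LP (LK LD1_c10 LD2_c17 LD3_c57)) :=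
  Lgr Lrot19 (Lpr_dt (f308552 IH) (Lpr_ft (K36.f427939 IH) (Lpr_dt (f308593 IH) (Lpn (LP (LK LD1_c10 LD2_c17 LD3_c57))))))
theorem f427951 : Led Lsl_ct (LP (LK LD1_c10 LD2_c5 LD3_c0)) = (LP (LK LD1_c18 LD2_c23 LD3_c39)) :=
  Lre_c IH (LK LD1_c10 LD2_c5 LD3_c0) (LK LD1_c18 LD2_c23 LD3_c39) Lrfl Lrfl
theorem f308594 : Led Lsl_ct (LP (LK LD1_c18 LD2_c42 LD3_c61)) = (LP (LK LD1_c10 LD2_c17 LD3_c57)) :=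
  Lre_c IH (LK LD1_c18 LD2_c42 LD3_c61) (LK LD1_c10 LD2_c17 LD3_c57) Lrfl Lrfl
theorem f428030 : Led Lsl_ft (LP (LK LD1_c18 LD2_c23 LD3_c39)) = (LP (LK LD1_c18 LD2_c42 LD3_c61)) :=
  Lgr Lrot4 (Lpe (f427951 IH) (Lpr_ff (f427945 IH) (Lpe (f308594 IH) (Lpn (LP (LK LD1_c18 LD2_c42 LD3_c61))))))
theorem f428034 : Led Lsl_ff (LP (LK LD1_c18 LD2_c23 LD3_c39)) = (LP (LK LD1_c18 LD2_c42 LD3_c61)) :=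
  Lgr Lrot3 (Lpr_ft (f428030 IH) (Lpn (LP (LK LD1_c18 LD2_c42 LD3_c61))))
theorem f421385 : Led Lsl_at (LP (LK LD1_c10 LD2_c17 LD3_c57)) = (LP (LK LD1_c7 LD2_c59 LD3_c61)) :=
  Lgr Lrot51 (Lpe (f308593 IH) (Lpr_af (K37.f421289 IH) (Lpe (f421213 IH) (Lpn (LP (LK LD1_c7 LD2_c59 LD3_c61))))))
theorem f421206 : Led Lsl_ct (LP (LK LD1_c7 LD2_c59 LD3_c61)) = (LP (LK LD1_c15 LD2_c4 LD3_c44)) :=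
  Lre_c IH (LK LD1_c7 LD2_c59 LD3_c61) (LK LD1_c15 LD2_c4 LD3_c44) Lrfl Lrfl
theorem f421391 : Led Lsl_af (LP (LK LD1_c18 LD2_c42 LD3_c61)) = (LP (LK LD1_c15 LD2_c4 LD3_c44)) :=
  Lgr Lrot68 (Lpr_ct (f308594 IH) (Lpr_at (f421385 IH) (Lpr_ct (f421206 IH) (Lpn (LP (LK LD1_c15 LD2_c4 LD3_c44))))))
theorem f421218 : Led Lsl_ct (LP (LK LD1_c18 LD2_c42 LD3_c58)) = (LP (LK LD1_c10 LD2_c17 LD3_c54)) :=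
  Lre_c IH (LK LD1_c18 LD2_c42 LD3_c58) (LK LD1_c10 LD2_c17 LD3_c54) Lrfl Lrfl
theorem f421219 : Led Lsl_ff (LP (LK LD1_c18 LD2_c42 LD3_c58)) = (LP (LK LD1_c15 LD2_c4 LD3_c44)) :=
  Lgr Lrot23 (Lpr_ct (f421218 IH) (Lpr_ft (f421214 IH) (Lpr_ct (f421206 IH) (Lpn (LP (LK LD1_c15 LD2_c4 LD3_c44))))))
theorem f421225 : Led Lsl_ft (LP (LK LD1_c18 LD2_c42 LD3_c58)) = (LP (LK LD1_c15 LD2_c4 LD3_c44)) :=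
  Lgr Lrot48 (Lpr_ff (f421219 IH) (Lpn (LP (LK LD1_c15 LD2_c4 LD3_c44))))
theorem f428036 : Led Lsl_at (LP (LK LD1_c18 LD2_c23 LD3_c39)) = (LP (LK LD1_c18 LD2_c42 LD3_c58)) :=
  Lgr Lrot66 (Lpr_ff (f428034 IH) (Lpr_af (f421391 IH) (Lpe (f421225 IH) (Lpn (LP (LK LD1_c18 LD2_c42 LD3_c58))))))
theorem f538474 : Led Lsl_gf (LP (LK LD1_c16 LD2_c10 LD3_c25)) = (LP (LK LD1_c18 LD2_c42 LD3_c61)) :=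
  Lgr Lrot47 (Lpr_gt (f538472 IH) (Lpe (f428036 IH) (Lpr_ff (f428034 IH) (Lpn (LP (LK LD1_c18 LD2_c42 LD3_c61))))))
theorem f421306 : Led Lsl_ct (LP (LK LD1_c10 LD2_c17 LD3_c57)) = (LP (LK LD1_c18 LD2_c42 LD3_c61)) :=
  Lre_c IH (LK LD1_c10 LD2_c17 LD3_c57) (LK LD1_c18 LD2_c42 LD3_c61) Lrfl Lrfl
theorem f69470 : Led Lsl_dt (LP (LK LD1_c8 LD2_c2 LD3_c16)) = (LP (LK LD1_c4 LD2_c0 LD3_c43)) :=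
  Lre_d IH (LK LD1_c8 LD2_c2 LD3_c16) (LK LD1_c4 LD2_c0 LD3_c43) Lrfl Lrfl
theorem f421298 : Led Lsl_bt (LP (LK LD1_c10 LD2_c17 LD3_c57)) = (LP (LK LD1_c8 LD2_c2 LD3_c16)) :=
  Lgr Lrot95 (Lpe (f308593 IH) (Lpr_bf (K32.f421291 IH) (Lpe (f69470 IH) (Lpn (LP (LK LD1_c8 LD2_c2 LD3_c16))))))
theorem f554391 : Led Lsl_gt (LP (LK LD1_c8 LD2_c5 LD3_c8)) = (LP (LK LD1_c8 LD2_c2 LD3_c16)) :=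
  Lgr Lrot164 (Lpr_bf (f554385 IH) (Lpe (K15.f231527 IH) (Lpr_gf (K13.f231480 IH) (Lpe (K11.f201631 IH) (Lpe (K11.f201741 IH) (Lpe (K36.f201456 IH) (Lpr_ct (f201457 IH) (Lpr_gf (f538474 IH) (Lpe (f421306 IH) (Lpr_bt (f421298 IH) (Lpn (LP (LK LD1_c8 LD2_c2 LD3_c16)))))))))))))
theorem f81436 : Led Lsl_dt (LP (LK LD1_c4 LD2_c2 LD3_c18)) = (LP (LK LD1_c8 LD2_c5 LD3_c8)) :=
  Lre_d IH (LK LD1_c4 LD2_c2 LD3_c18) (LK LD1_c8 LD2_c5 LD3_c8) Lrfl Lrfl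
theorem f421317 : Led Lsl_dt (LP (LK LD1_c4 LD2_c0 LD3_c43)) = (LP (LK LD1_c8 LD2_c2 LD3_c16)) :=
  Lre_d IH (LK LD1_c4 LD2_c0 LD3_c43) (LK LD1_c8 LD2_c2 LD3_c16) Lrfl Lrfl
theorem f69485 : Led Lsl_et (LP (LK LD1_c4 LD2_c0 LD3_c43)) = (LP (LK LD1_c1 LD2_c57 LD3_c8)) :=
  Lre_e IH (LK LD1_c4 LD2_c0 LD3_c43) (LK LD1_c1 LD2_c57 LD3_c8) Lrfl Lrfl
theorem f29484 : Led Lsl_gt (LP (LK LD1_c1 LD2_c57 LD3_c8)) = (LP (LK LD1_c4 LD2_c0 LD3_c39)) :=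
  Lre_g IH (LK LD1_c1 LD2_c57 LD3_c8) (LK LD1_c4 LD2_c0 LD3_c39) Lrfl Lrfl
theorem f29476 : Led Lsl_dt (LP (LK LD1_c4 LD2_c0 LD3_c39)) = (LP (LK LD1_c8 LD2_c2 LD3_c9)) :=
  Lre_d IH (LK LD1_c4 LD2_c0 LD3_c39) (LK LD1_c8 LD2_c2 LD3_c9) Lrfl Lrfl
theorem f158270 : Led Lsl_gt (LP (LK LD1_c8 LD2_c2 LD3_c9)) = (LP (LK LD1_c4 LD2_c0 LD3_c50)) :=
  Lre_g IH (LK LD1_c8 LD2_c2 LD3_c9) (LK LD1_c4 LD2_c0 LD3_c50) Lrfl Lrfl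
theorem f438206 : Led Lsl_dt (LP (LK LD1_c8 LD2_c2 LD3_c25)) = (LP (LK LD1_c4 LD2_c42 LD3_c47)) :=
  Lgr Lrot42 (Lpr_df (K32.f438200 IH) (Lpn (LP (LK LD1_c4 LD2_c42 LD3_c47))))
theorem f438187 : Led Lsl_bt (LP (LK LD1_c4 LD2_c0 LD3_c50)) = (LP (LK LD1_c8 LD2_c2 LD3_c25)) :=
  Lre_b IH (LK LD1_c4 LD2_c0 LD3_c50) (LK LD1_c8 LD2_c2 LD3_c25) Lrfl Lrfl
theorem f420650 : Led Lsl_bt (LP (LK LD1_c4 LD2_c42 LD3_c47)) = (LP (LK LD1_c3 LD2_c3 LD3_c58)) :=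
  Lgr Lrot127 (Lpr_bf (K36.f420648 IH) (Lpn (LP (LK LD1_c3 LD2_c3 LD3_c58))))
theorem f438211 : Led Lsl_df (LP (LK LD1_c4 LD2_c0 LD3_c50)) = (LP (LK LD1_c3 LD2_c3 LD3_c58)) :=
  Lgr Lrot12 (Lpr_bt (f438187 IH) (Lpr_dt (f438206 IH) (Lpr_bt (f420650 IH) (Lpn (LP (LK LD1_c3 LD2_c3 LD3_c58))))))
theorem f554395 : Led Lsl_ef (LP (LK LD1_c4 LD2_c23 LD3_c45)) = (LP (LK LD1_c3 LD2_c3 LD3_c58)) :=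
  Lgr Lrot114 (Lpr_gt (K36.f210908 IH) (Lpr_ef (f81406 IH) (Lpr_dt (f81436 IH) (Lpr_gt (f554391 IH) (Lpe (f421317 IH) (Lpr_et (f69485 IH) (Lpr_gt (f29484 IH) (Lpr_dt (f29476 IH) (Lpr_gt (f158270 IH) (Lpr_df (f438211 IH) (Lpn (LP (LK LD1_c3 LD2_c3 LD3_c58)))))))))))))
theorem f70028 : Led Lsl_dt (LP (LK LD1_c4 LD2_c23 LD3_c49)) = (LP (LK LD1_c8 LD2_c45 LD3_c28)) :=
  Lre_d IH (LK LD1_c4 LD2_c23 LD3_c49) (LK LD1_c8 LD2_c45 LD3_c28) Lrfl Lrfl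
theorem f29478 : Led Lsl_dt (LP (LK LD1_c0 LD2_c55 LD3_c24)) = (LP (LK LD1_c1 LD2_c57 LD3_c11)) :=
  Lre_d IH (LK LD1_c0 LD2_c55 LD3_c24) (LK LD1_c1 LD2_c57 LD3_c11) Lrfl Lrfl
theorem f29495 : Led Lsl_et (LP (LK LD1_c0 LD2_c55 LD3_c24)) = (LP (LK LD1_c1 LD2_c56 LD3_c60)) :=
  Lre_e IH (LK LD1_c0 LD2_c55 LD3_c24) (LK LD1_c1 LD2_c56 LD3_c60) Lrfl Lrfl
theorem f29510 : Led Lsl_gt (LP (LK LD1_c1 LD2_c56 LD3_c60)) = (LP (LK LD1_c4 LD2_c0 LD3_c25)) :=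
  Lre_g IH (LK LD1_c1 LD2_c56 LD3_c60) (LK LD1_c4 LD2_c0 LD3_c25) Lrfl Lrfl
theorem f29511 : Led Lsl_dt (LP (LK LD1_c4 LD2_c0 LD3_c25)) = (LP (LK LD1_c8 LD2_c1 LD3_c47)) :=
  Lre_d IH (LK LD1_c4 LD2_c0 LD3_c25) (LK LD1_c8 LD2_c1 LD3_c47) Lrfl Lrfl
theorem f554407 : Led Lsl_gf (LP (LK LD1_c8 LD2_c45 LD3_c28)) = (LP (LK LD1_c8 LD2_c1 LD3_c47)) :=
  Lgr Lrot134 (Lpe (f70028 IH) (Lpr_et (K9.f70035 IH) (Lpr_gt (K36.f59192 IH) (Lpr_ef (f554395 IH) (Lpe (f438211 IH) (Lpr_gt (K32.f29499 IH) (Lpe (f29478 IH) (Lpr_et (f29495 IH) (Lpr_gt (f29510 IH) (Lpr_dt (f29511 IH) (Lpn (LP (LK LD1_c8 LD2_c1 LD3_c47)))))))))))))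
theorem f70110 : Led Lsl_af (LP (LK LD1_c3 LD2_c3 LD3_c51)) = (LP (LK LD1_c4 LD2_c23 LD3_c51)) :=
  Lgr Lrot0 (Lpr_at (K2.f69999 IH) (Lpn (LP (LK LD1_c4 LD2_c23 LD3_c51))))
theorem f70001 : Led Lsl_bt (LP (LK LD1_c8 LD2_c45 LD3_c28)) = (LP (LK LD1_c4 LD2_c23 LD3_c51)) :=
  Lre_b IH (LK LD1_c8 LD2_c45 LD3_c28) (LK LD1_c4 LD2_c23 LD3_c51) Lrfl Lrfl
theorem f238923 : Led Lsl_bt (LP (LK LD1_c4 LD2_c22 LD3_c56)) = (LP (LK LD1_c8 LD2_c43 LD3_c42)) :=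
  Lre_b IH (LK LD1_c4 LD2_c22 LD3_c56) (LK LD1_c8 LD2_c43 LD3_c42) Lrfl Lrfl
theorem f551729 : Led Lsl_af (LP (LK LD1_c8 LD2_c45 LD3_c28)) = (LP (LK LD1_c8 LD2_c43 LD3_c42)) :=
  Lgr Lrot36 (Lpr_bt (f70001 IH) (Lpe (f70110 IH) (Lpr_bt (f551708 IH) (Lpe (K23.f346682 IH) (Lpr_bt (f238923 IH) (Lpn (LP (LK LD1_c8 LD2_c43 LD3_c42))))))))
theorem f269632 : Led Lsl_bt (LP (LK LD1_c4 LD2_c4 LD3_c49)) = (LP (LK LD1_c8 LD2_c10 LD3_c27)) :=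
  Lre_b IH (LK LD1_c4 LD2_c4 LD3_c49) (LK LD1_c8 LD2_c10 LD3_c27) Lrfl Lrfl
theorem f346750 : Led Lsl_ft (LP (LK LD1_c8 LD2_c10 LD3_c27)) = (LP (LK LD1_c8 LD2_c43 LD3_c42)) :=
  Lgr Lrot75 (Lpe (f269632 IH) (Lpr_ff (K23.f346746 IH) (Lpe (f237244 IH) (Lpn (LP (LK LD1_c8 LD2_c43 LD3_c42))))))
theorem f554409 : Led Lsl_gt (LP (LK LD1_c8 LD2_c10 LD3_c27)) = (LP (LK LD1_c8 LD2_c1 LD3_c47)) :=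
  Lgr Lrot5 (Lpr_ft (f346750 IH) (Lpe (f551729 IH) (Lpr_gf (f554407 IH) (Lpn (LP (LK LD1_c8 LD2_c1 LD3_c47))))))
theorem f554421 : Led Lsl_at (LP (LK LD1_c15 LD2_c7 LD3_c6)) = (LP (LK LD1_c8 LD2_c1 LD3_c47)) :=
  Lre_a IH (LK LD1_c15 LD2_c7 LD3_c6) (LK LD1_c8 LD2_c1 LD3_c47) Lrfl Lrfl
theorem f554422 : Led Lsl_ft (LP (LK LD1_c8 LD2_c1 LD3_c50)) = (LP (LK LD1_c15 LD2_c7 LD3_c6)) :=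
  Lre_f IH (LK LD1_c8 LD2_c1 LD3_c50) (LK LD1_c15 LD2_c7 LD3_c6) Lrfl Lrfl
theorem f554423 : Led Lsl_gf (LP (LK LD1_c8 LD2_c10 LD3_c27)) = (LP (LK LD1_c8 LD2_c1 LD3_c50)) :=
  Lgr Lrot47 (Lpr_gt (f554409 IH) (Lpe (f554421 IH) (Lpe (f554422 IH) (Lpn (LP (LK LD1_c8 LD2_c1 LD3_c50))))))
theorem f181683 : Led Lsl_ct (LP (LK LD1_c5 LD2_c41 LD3_c40)) = (LP (LK LD1_c11 LD2_c13 LD3_c30)) :=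
  Lre_c IH (LK LD1_c5 LD2_c41 LD3_c40) (LK LD1_c11 LD2_c13 LD3_c30) Lrfl Lrfl
theorem f181684 : Led Lsl_gt (LP (LK LD1_c11 LD2_c13 LD3_c30)) = (LP (LK LD1_c20 LD2_c8 LD3_c5)) :=
  Lre_g IH (LK LD1_c11 LD2_c13 LD3_c30) (LK LD1_c20 LD2_c8 LD3_c5) Lrfl Lrfl
theorem f554448 : Led Lsl_bt (LP (LK LD1_c15 LD2_c7 LD3_c10)) = (LP (LK LD1_c8 LD2_c1 LD3_c50)) :=
  Lre_b IH (LK LD1_c15 LD2_c7 LD3_c10) (LK LD1_c8 LD2_c1 LD3_c50) Lrfl Lrfl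
theorem f554450 : Led Lsl_cf (LP (LK LD1_c20 LD2_c8 LD3_c5)) = (LP (LK LD1_c15 LD2_c7 LD3_c10)) :=
  Lgr Lrot163 (Lpe (f181684 IH) (Lpe (f181683 IH) (Lpe (K38.f181682 IH) (Lpr_bf (K16.f181571 IH) (Lpr_ct (K38.f237714 IH) (Lpe (K21.f269643 IH) (Lpe (K38.f225151 IH) (Lpr_bt (f269632 IH) (Lpr_gf (f554423 IH) (Lpe (f554448 IH) (Lpn (LP (LK LD1_c15 LD2_c7 LD3_c10)))))))))))))
theorem f269665 : Led Lsl_bt (LP (LK LD1_c5 LD2_c41 LD3_c40)) = (LP (LK LD1_c11 LD2_c13 LD3_c29)) :=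
  Lre_b IH (LK LD1_c5 LD2_c41 LD3_c40) (LK LD1_c11 LD2_c13 LD3_c29) Lrfl Lrfl
theorem f192832 : Led Lsl_ct (LP (LK LD1_c8 LD2_c10 LD3_c27)) = (LP (LK LD1_c15 LD2_c23 LD3_c32)) :=
  Lre_c IH (LK LD1_c8 LD2_c10 LD3_c27) (LK LD1_c15 LD2_c23 LD3_c32) Lrfl Lrfl
theorem f29520 : Led Lsl_dt (LP (LK LD1_c4 LD2_c0 LD3_c26)) = (LP (LK LD1_c8 LD2_c1 LD3_c50)) :=
  Lre_d IH (LK LD1_c4 LD2_c0 LD3_c26) (LK LD1_c8 LD2_c1 LD3_c50) Lrfl Lrfl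
theorem f29513 : Led Lsl_gt (LP (LK LD1_c4 LD2_c0 LD3_c26)) = (LP (LK LD1_c1 LD2_c56 LD3_c60)) :=
  Lre_g IH (LK LD1_c4 LD2_c0 LD3_c26) (LK LD1_c1 LD2_c56 LD3_c60) Lrfl Lrfl
theorem f29368 : Led Lsl_ft (LP (LK LD1_c1 LD2_c56 LD3_c60)) = (LP (LK LD1_c4 LD2_c0 LD3_c29)) :=
  Lre_f IH (LK LD1_c1 LD2_c56 LD3_c60) (LK LD1_c4 LD2_c0 LD3_c29) Lrfl Lrfl
theorem f29369 : Led Lsl_ft (LP (LK LD1_c4 LD2_c0 LD3_c29)) = (LP (LK LD1_c1 LD2_c56 LD3_c60)) :=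
  Lre_f IH (LK LD1_c4 LD2_c0 LD3_c29) (LK LD1_c1 LD2_c56 LD3_c60) Lrfl Lrfl
theorem f29370 : Led Lsl_cf (LP (LK LD1_c1 LD2_c56 LD3_c60)) = (LP (LK LD1_c1 LD2_c56 LD3_c60)) :=
  Lgr Lrot108 (Lpr_ft (f29368 IH) (Lpr_ct (K7.f29352 IH) (Lpr_ft (f29369 IH) (Lpn (LP (LK LD1_c1 LD2_c56 LD3_c60))))))
theorem f29515 : Led Lsl_ct (LP (LK LD1_c4 LD2_c0 LD3_c25)) = (LP (LK LD1_c8 LD2_c1 LD3_c46)) :=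
  Lre_c IH (LK LD1_c4 LD2_c0 LD3_c25) (LK LD1_c8 LD2_c1 LD3_c46) Lrfl Lrfl
theorem f29519 : Led Lsl_dt (LP (LK LD1_c15 LD2_c7 LD3_c7)) = (LP (LK LD1_c8 LD2_c1 LD3_c46)) :=
  Lre_d IH (LK LD1_c15 LD2_c7 LD3_c7) (LK LD1_c8 LD2_c1 LD3_c46) Lrfl Lrfl
theorem f29517 : Led Lsl_ct (LP (LK LD1_c24 LD2_c55 LD3_c24)) = (LP (LK LD1_c15 LD2_c7 LD3_c7)) :=
  Lre_c IH (LK LD1_c24 LD2_c55 LD3_c24) (LK LD1_c15 LD2_c7 LD3_c7) Lrfl Lrfl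
theorem f554446 : Led Lsl_gt (LP (LK LD1_c15 LD2_c23 LD3_c32)) = (LP (LK LD1_c24 LD2_c55 LD3_c24)) :=
  Lgr Lrot150 (Lpe (f192832 IH) (Lpr_gf (f554423 IH) (Lpe (f29520 IH) (Lpr_gt (f29513 IH) (Lpe (f29370 IH) (Lpr_gt (f29510 IH) (Lpr_ct (f29515 IH) (Lpe (f29519 IH) (Lpe (f29517 IH) (Lpn (LP (LK LD1_c24 LD2_c55 LD3_c24))))))))))))
theorem f554449 : Led Lsl_ct (LP (LK LD1_c15 LD2_c7 LD3_c7)) = (LP (LK LD1_c24 LD2_c55 LD3_c24)) :=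
  Lre_c IH (LK LD1_c15 LD2_c7 LD3_c7) (LK LD1_c24 LD2_c55 LD3_c24) Lrfl Lrfl
theorem f554458 : Led Lsl_bf (LP (LK LD1_c8 LD2_c44 LD3_c23)) = (LP (LK LD1_c15 LD2_c7 LD3_c7)) :=
  Lgr Lrot156 (Lpe (K38.f549888 IH) (Lpe (f269665 IH) (Lpr_ct (f181683 IH) (Lpr_gt (f181684 IH) (Lpr_cf (f554450 IH) (Lpr_bt (f554448 IH) (Lpe (f554423 IH) (Lpr_ct (f192832 IH) (Lpr_gt (f554446 IH) (Lpe (f554449 IH) (Lpn (LP (LK LD1_c15 LD2_c7 LD3_c7)))))))))))))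
theorem f424198 : Led Lsl_gt (LP (LK LD1_c8 LD2_c44 LD3_c15)) = (LP (LK LD1_c4 LD2_c23 LD3_c29)) :=
  Lre_g IH (LK LD1_c8 LD2_c44 LD3_c15) (LK LD1_c4 LD2_c23 LD3_c29) Lrfl Lrfl
theorem f424200 : Led Lsl_dt (LP (LK LD1_c4 LD2_c23 LD3_c16)) = (LP (LK LD1_c8 LD2_c44 LD3_c15)) :=
  Lre_d IH (LK LD1_c4 LD2_c23 LD3_c16) (LK LD1_c8 LD2_c44 LD3_c15) Lrfl Lrfl
theorem f381797 : Led Lsl_gt (LP (LK LD1_c2 LD2_c9 LD3_c6)) = (LP (LK LD1_c4 LD2_c23 LD3_c16)) :=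
  Lre_g IH (LK LD1_c2 LD2_c9 LD3_c6) (LK LD1_c4 LD2_c23 LD3_c16) Lrfl Lrfl
theorem f80169 : Led Lsl_et (LP (LK LD1_c4 LD2_c23 LD3_c21)) = (LP (LK LD1_c2 LD2_c9 LD3_c6)) :=
  Lre_e IH (LK LD1_c4 LD2_c23 LD3_c21) (LK LD1_c2 LD2_c9 LD3_c6) Lrfl Lrfl
theorem f60271 : Led Lsl_dt (LP (LK LD1_c5 LD2_c46 LD3_c31)) = (LP (LK LD1_c11 LD2_c23 LD3_c13)) :=
  Lre_d IH (LK LD1_c5 LD2_c46 LD3_c31) (LK LD1_c11 LD2_c23 LD3_c13) Lrfl Lrfl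
theorem f427554 : Led Lsl_gf (LP (LK LD1_c8 LD2_c44 LD3_c23)) = (LP (LK LD1_c11 LD2_c23 LD3_c13)) :=
  Lgr Lrot145 (Lpe (K38.f80170 IH) (Lpr_et (f80169 IH) (Lpr_gt (f381797 IH) (Lpr_dt (f424200 IH) (Lpr_gt (f424198 IH) (Lpe (K38.f427552 IH) (Lpr_et (K38.f427550 IH) (Lpr_gt (K38.f422751 IH) (Lpr_ef (K1.f60275 IH) (Lpr_dt (f60271 IH) (Lpn (LP (LK LD1_c11 LD2_c23 LD3_c13)))))))))))))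
theorem f60492 : Led Lsl_bt (LP (LK LD1_c5 LD2_c46 LD3_c43)) = (LP (LK LD1_c11 LD2_c23 LD3_c13)) :=
  Lre_b IH (LK LD1_c5 LD2_c46 LD3_c43) (LK LD1_c11 LD2_c23 LD3_c13) Lrfl Lrfl
theorem f80961 : Led Lsl_ct (LP (LK LD1_c6 LD2_c15 LD3_c16)) = (LP (LK LD1_c12 LD2_c8 LD3_c47)) :=
  Lre_c IH (LK LD1_c6 LD2_c15 LD3_c16) (LK LD1_c12 LD2_c8 LD3_c47) Lrfl Lrfl
theorem f60481 : Led Lsl_df (LP (LK LD1_c6 LD2_c14 LD3_c27)) = (LP (LK LD1_c11 LD2_c23 LD3_c39)) :=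
  Lgr Lrot43 (Lpr_ct (K13.f60448 IH) (Lpr_dt (K1.f38658 IH) (Lpr_ct (K1.f60438 IH) (Lpr_dt (K1.f59675 IH) (Lpe (K1.f60446 IH) (Lpr_dt (K1.f60449 IH) (Lpr_ct (K1.f60450 IH) (Lpr_dt (K1.f60473 IH) (Lpr_ct (K1.f60472 IH) (Lpr_dt (K1.f60204 IH) (Lpr_ct (K1.f60203 IH) (Lpr_dt (K9.f60227 IH) (Lpr_ct (K10.f60200 IH) (Lpr_dt (K10.f60293 IH) (Lpr_ct (K1.f60480 IH) (Lpn (LP (LK LD1_c11 LD2_c23 LD3_c39))))))))))))))))))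
theorem f198280 : Led Lsl_gt (LP (LK LD1_c6 LD2_c14 LD3_c4)) = (LP (LK LD1_c5 LD2_c40 LD3_c60)) :=
  Lgr Lrot112 (Lpe (K10.f197833 IH) (Lpr_et (K37.f197923 IH) (Lpe (K10.f198030 IH) (Lpr_ef (K10.f198041 IH) (Lpe (K10.f198076 IH) (Lpe (K10.f35559 IH) (Lpe (K10.f27262 IH) (Lpr_gf (K10.f198264 IH) (Lpe (K13.f177024 IH) (Lpr_dt (K13.f177019 IH) (Lpn (LP (LK LD1_c5 LD2_c40 LD3_c60)))))))))))))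
theorem f56476 : Led Lsl_ft (LP (LK LD1_c1 LD2_c28 LD3_c5)) = (LP (LK LD1_c3 LD2_c4 LD3_c6)) :=
  Lre_f IH (LK LD1_c1 LD2_c28 LD3_c5) (LK LD1_c3 LD2_c4 LD3_c6) Lrfl Lrfl
theorem f60415 : Led Lsl_at (LP (LK LD1_c1 LD2_c20 LD3_c39)) = (LP (LK LD1_c1 LD2_c28 LD3_c23)) :=
  Lgr Lrot80 (Lpe (K1.f60218 IH) (Lpr_af (K1.f47058 IH) (Lpr_ef (K1.f60413 IH) (Lpn (LP (LK LD1_c1 LD2_c28 LD3_c23))))))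
theorem f60432 : Led Lsl_at (LP (LK LD1_c3 LD2_c4 LD3_c6)) = (LP (LK LD1_c2 LD2_c49 LD3_c2)) :=
  Lgr Lrot107 (Lpr_cf (K1.f60429 IH) (Lpe (f60415 IH) (Lpe (K1.f60203 IH) (Lpn (LP (LK LD1_c2 LD2_c49 LD3_c2))))))
theorem f197907 : Led Lsl_gf (LP (LK LD1_c2 LD2_c49 LD3_c2)) = (LP (LK LD1_c3 LD2_c3 LD3_c53)) :=
  Lgr Lrot76 (Lpe (f60432 IH) (Lpe (f56476 IH) (Lpr_gt (K10.f197903 IH) (Lpn (LP (LK LD1_c3 LD2_c3 LD3_c53))))))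
theorem f60703 : Led Lsl_ct (LP (LK LD1_c12 LD2_c8 LD3_c47)) = (LP (LK LD1_c6 LD2_c15 LD3_c16)) :=
  Lre_c IH (LK LD1_c12 LD2_c8 LD3_c47) (LK LD1_c6 LD2_c15 LD3_c16) Lrfl Lrfl
theorem f198283 : Led Lsl_gf (LP (LK LD1_c12 LD2_c8 LD3_c47)) = (LP (LK LD1_c11 LD2_c12 LD3_c33)) :=
  Lgr Lrot104 (Lpr_ct (f60703 IH) (Lpe (K38.f60702 IH) (Lpe (K10.f60701 IH) (Lpr_gf (K9.f60699 IH) (Lpe (K1.f60203 IH) (Lpr_gf (f197907 IH) (Lpe (K10.f197838 IH) (Lpr_gt (f198280 IH) (Lpr_ct (K13.f198282 IH) (Lpn (LP (LK LD1_c11 LD2_c12 LD3_c33))))))))))))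
theorem f225571 : Led Lsl_df (LP (LK LD1_c12 LD2_c7 LD3_c13)) = (LP (LK LD1_c12 LD2_c8 LD3_c47)) :=
  Lgr Lrot153 (Lpr_gt (K13.f60740 IH) (Lpe (f60481 IH) (Lpe (K1.f60450 IH) (Lpe (K1.f60449 IH) (Lpr_gf (K10.f197823 IH) (Lpe (K10.f197813 IH) (Lpr_gf (K13.f225569 IH) (Lpe (K13.f198286 IH) (Lpe (f198283 IH) (Lpn (LP (LK LD1_c12 LD2_c8 LD3_c47))))))))))))
theorem f3000 : Led Lsl_dt (LP (LK LD1_c1 LD2_c56 LD3_c46)) = (LP (LK LD1_c4 LD2_c0 LD3_c1)) :=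
  Lre_d IH (LK LD1_c1 LD2_c56 LD3_c46) (LK LD1_c4 LD2_c0 LD3_c1) Lrfl Lrfl
theorem f3010 : Led Lsl_gt (LP (LK LD1_c3 LD2_c59 LD3_c61)) = (LP (LK LD1_c1 LD2_c56 LD3_c46)) :=
  Lre_g IH (LK LD1_c3 LD2_c59 LD3_c61) (LK LD1_c1 LD2_c56 LD3_c46) Lrfl Lrfl
theorem f3019 : Led Lsl_dt (LP (LK LD1_c8 LD2_c1 LD3_c3)) = (LP (LK LD1_c3 LD2_c59 LD3_c61)) :=
  Lre_d IH (LK LD1_c8 LD2_c1 LD3_c3) (LK LD1_c3 LD2_c59 LD3_c61) Lrfl Lrfl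
theorem f538854 : Led Lsl_gf (LP (LK LD1_c8 LD2_c1 LD3_c3)) = (LP (LK LD1_c4 LD2_c23 LD3_c51)) :=
  Lgr Lrot144 (Lpr_dt (f3019 IH) (Lpr_gt (f3010 IH) (Lpr_dt (f3000 IH) (Lpe (K35.f3008 IH) (Lpe (K35.f30382 IH) (Lpr_gf (K35.f538848 IH) (Lpr_df (K13.f197490 IH) (Lpe (K13.f197484 IH) (Lpe (K2.f69946 IH) (Lpn (LP (LK LD1_c4 LD2_c23 LD3_c51))))))))))))
theorem f549204 : Led Lsl_cf (LP (LK LD1_c12 LD2_c7 LD3_c13)) = (LP (LK LD1_c8 LD2_c1 LD3_c3)) :=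
  Lgr Lrot99 (Lpr_df (f225571 IH) (Lpe (f80961 IH) (Lpe (K38.f547146 IH) (Lpe (K38.f30444 IH) (Lpr_gf (K38.f549202 IH) (Lpe (K38.f197476 IH) (Lpe (K13.f197471 IH) (Lpr_ct (K13.f70004 IH) (Lpe (f538854 IH) (Lpn (LP (LK LD1_c8 LD2_c1 LD3_c3))))))))))))
theorem f70029 : Led Lsl_ct (LP (LK LD1_c8 LD2_c45 LD3_c28)) = (LP (LK LD1_c16 LD2_c23 LD3_c36)) :=
  Lre_c IH (LK LD1_c8 LD2_c45 LD3_c28) (LK LD1_c16 LD2_c23 LD3_c36) Lrfl Lrfl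
theorem f554464 : Led Lsl_gf (LP (LK LD1_c16 LD2_c23 LD3_c36)) = (LP (LK LD1_c24 LD2_c55 LD3_c24)) :=
  Lgr Lrot126 (Lpe (f70029 IH) (Lpr_bt (f70001 IH) (Lpe (f538854 IH) (Lpe (f549204 IH) (Lpr_gt (K13.f60740 IH) (Lpe (K1.f60480 IH) (Lpr_bt (f60492 IH) (Lpe (f427554 IH) (Lpr_bf (f554458 IH) (Lpr_ct (f554449 IH) (Lpn (LP (LK LD1_c24 LD2_c55 LD3_c24)))))))))))))
theorem f53126 : Led Lsl_dt (LP (LK LD1_c8 LD2_c10 LD3_c27)) = (LP (LK LD1_c4 LD2_c4 LD3_c48)) :=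
  Lre_d IH (LK LD1_c8 LD2_c10 LD3_c27) (LK LD1_c4 LD2_c4 LD3_c48) Lrfl Lrfl
theorem f394658 : Led Lsl_ff (LP (LK LD1_c8 LD2_c10 LD3_c27)) = (LP (LK LD1_c8 LD2_c43 LD3_c42)) :=
  Lgr Lrot19 (Lpr_dt (f53126 IH) (Lpr_ft (f346762 IH) (Lpe (f237245 IH) (Lpn (LP (LK LD1_c8 LD2_c43 LD3_c42))))))
theorem f238935 : Led Lsl_ct (LP (LK LD1_c16 LD2_c20 LD3_c42)) = (LP (LK LD1_c8 LD2_c43 LD3_c42)) :=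
  Lre_c IH (LK LD1_c16 LD2_c20 LD3_c42) (LK LD1_c8 LD2_c43 LD3_c42) Lrfl Lrfl
theorem f394660 : Led Lsl_ft (LP (LK LD1_c15 LD2_c23 LD3_c32)) = (LP (LK LD1_c16 LD2_c20 LD3_c42)) :=
  Lgr Lrot4 (Lpe (f192832 IH) (Lpr_ff (f394658 IH) (Lpe (f238935 IH) (Lpn (LP (LK LD1_c16 LD2_c20 LD3_c42))))))
theorem f554466 : Led Lsl_af (LP (LK LD1_c16 LD2_c23 LD3_c36)) = (LP (LK LD1_c16 LD2_c20 LD3_c42)) :=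
  Lgr Lrot31 (Lpr_gf (f554464 IH) (Lpe (f554446 IH) (Lpr_ft (f394660 IH) (Lpn (LP (LK LD1_c16 LD2_c20 LD3_c42))))))
theorem f70024 : Led Lsl_dt (LP (LK LD1_c8 LD2_c45 LD3_c28)) = (LP (LK LD1_c4 LD2_c23 LD3_c49)) :=
  Lre_d IH (LK LD1_c8 LD2_c45 LD3_c28) (LK LD1_c4 LD2_c23 LD3_c49) Lrfl Lrfl
theorem f70037 : Led Lsl_ct (LP (LK LD1_c16 LD2_c23 LD3_c36)) = (LP (LK LD1_c8 LD2_c45 LD3_c28)) :=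
  Lre_c IH (LK LD1_c16 LD2_c23 LD3_c36) (LK LD1_c8 LD2_c45 LD3_c28) Lrfl Lrfl
theorem f70057 : Led Lsl_dt (LP (LK LD1_c26 LD2_c21 LD3_c39)) = (LP (LK LD1_c16 LD2_c23 LD3_c36)) :=
  Lre_d IH (LK LD1_c26 LD2_c21 LD3_c39) (LK LD1_c16 LD2_c23 LD3_c36) Lrfl Lrfl
theorem f192833 : Led Lsl_dt (LP (LK LD1_c15 LD2_c23 LD3_c32)) = (LP (LK LD1_c25 LD2_c15 LD3_c51)) :=
  Lre_d IH (LK LD1_c15 LD2_c23 LD3_c32) (LK LD1_c25 LD2_c15 LD3_c51) Lrfl Lrfl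
theorem f554476 : Led Lsl_cf (LP (LK LD1_c26 LD2_c21 LD3_c39)) = (LP (LK LD1_c25 LD2_c15 LD3_c51)) :=
  Lgr Lrot118 (Lpr_dt (f70057 IH) (Lpr_ct (f70037 IH) (Lpr_dt (f70024 IH) (Lpe (K9.f70031 IH) (Lpr_dt (f70028 IH) (Lpr_ct (f70029 IH) (Lpr_af (f554466 IH) (Lpe (f394660 IH) (Lpr_dt (f192833 IH) (Lpn (LP (LK LD1_c25 LD2_c15 LD3_c51))))))))))))
theorem f554478 : Led Lsl_ct (LP (LK LD1_c26 LD2_c21 LD3_c39)) = (LP (LK LD1_c25 LD2_c15 LD3_c51)) :=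
  Lgr Lrot59 (Lpr_cf (f554476 IH) (Lpn (LP (LK LD1_c25 LD2_c15 LD3_c51))))
theorem f70030 : Led Lsl_dt (LP (LK LD1_c16 LD2_c23 LD3_c36)) = (LP (LK LD1_c26 LD2_c21 LD3_c39)) :=
  Lre_d IH (LK LD1_c16 LD2_c23 LD3_c36) (LK LD1_c26 LD2_c21 LD3_c39) Lrfl Lrfl
theorem f192831 : Led Lsl_dt (LP (LK LD1_c25 LD2_c15 LD3_c51)) = (LP (LK LD1_c15 LD2_c23 LD3_c32)) :=
  Lre_d IH (LK LD1_c25 LD2_c15 LD3_c51) (LK LD1_c15 LD2_c23 LD3_c32) Lrfl Lrfl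
theorem f192830 : Led Lsl_ct (LP (LK LD1_c15 LD2_c23 LD3_c32)) = (LP (LK LD1_c8 LD2_c10 LD3_c27)) :=
  Lre_c IH (LK LD1_c15 LD2_c23 LD3_c32) (LK LD1_c8 LD2_c10 LD3_c27) Lrfl Lrfl
theorem f192793 : Led Lsl_ct (LP (LK LD1_c4 LD2_c4 LD3_c48)) = (LP (LK LD1_c4 LD2_c4 LD3_c48)) :=
  Lgr Lrot83 (Lpe (f53110 IH) (Lpe (K11.f30819 IH) (Lpr_bf (K10.f192791 IH) (Lpe (K12.f53106 IH) (Lpe (f53118 IH) (Lpn (LP (LK LD1_c4 LD2_c4 LD3_c48))))))))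
theorem f554487 : Led Lsl_at (LP (LK LD1_c8 LD2_c5 LD3_c14)) = (LP (LK LD1_c4 LD2_c4 LD3_c48)) :=
  Lgr Lrot33 (Lpr_ff (K9.f70022 IH) (Lpr_dt (f70028 IH) (Lpr_ct (f70029 IH) (Lpr_dt (f70030 IH) (Lpr_ct (f554478 IH) (Lpr_dt (f192831 IH) (Lpr_ct (f192830 IH) (Lpr_dt (f53126 IH) (Lpr_ct (f192793 IH) (Lpn (LP (LK LD1_c4 LD2_c4 LD3_c48))))))))))))
theorem f53125 : Led Lsl_gt (LP (LK LD1_c8 LD2_c10 LD3_c26)) = (LP (LK LD1_c4 LD2_c4 LD3_c48)) :=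
  Lre_g IH (LK LD1_c8 LD2_c10 LD3_c26) (LK LD1_c4 LD2_c4 LD3_c48) Lrfl Lrfl
theorem f554495 : Led Lsl_gt (LP (LK LD1_c4 LD2_c23 LD3_c49)) = (LP (LK LD1_c8 LD2_c10 LD3_c26)) :=
  Lgr Lrot5 (Lpe (K9.f70022 IH) (Lpr_at (f554487 IH) (Lpe (f53125 IH) (Lpn (LP (LK LD1_c8 LD2_c10 LD3_c26))))))
theorem f158616 : Led Lsl_df (LP (LK LD1_c8 LD2_c5 LD3_c2)) = (LP (LK LD1_c15 LD2_c7 LD3_c15)) :=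
  Lgr Lrot38 (Lpr_dt (f158612 IH) (Lpn (LP (LK LD1_c15 LD2_c7 LD3_c15))))
theorem f30514 : Led Lsl_bt (LP (LK LD1_c8 LD2_c1 LD3_c57)) = (LP (LK LD1_c4 LD2_c0 LD3_c32)) :=
  Lre_b IH (LK LD1_c8 LD2_c1 LD3_c57) (LK LD1_c4 LD2_c0 LD3_c32) Lrfl Lrfl
theorem f39007 : Led Lsl_bt (LP (LK LD1_c1 LD2_c1 LD3_c45)) = (LP (LK LD1_c2 LD2_c9 LD3_c9)) :=
  Lre_b IH (LK LD1_c1 LD2_c1 LD3_c45) (LK LD1_c2 LD2_c9 LD3_c9) Lrfl Lrfl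
theorem f39008 : Led Lsl_gt (LP (LK LD1_c2 LD2_c9 LD3_c9)) = (LP (LK LD1_c4 LD2_c23 LD3_c28)) :=
  Lre_g IH (LK LD1_c2 LD2_c9 LD3_c9) (LK LD1_c4 LD2_c23 LD3_c28) Lrfl Lrfl
theorem f39438 : Led Lsl_bt (LP (LK LD1_c8 LD2_c44 LD3_c35)) = (LP (LK LD1_c4 LD2_c23 LD3_c28)) :=
  Lre_b IH (LK LD1_c8 LD2_c44 LD3_c35) (LK LD1_c4 LD2_c23 LD3_c28) Lrfl Lrfl
theorem f39439 : Led Lsl_ct (LP (LK LD1_c8 LD2_c44 LD3_c35)) = (LP (LK LD1_c16 LD2_c21 LD3_c56)) :=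
  Lre_c IH (LK LD1_c8 LD2_c44 LD3_c35) (LK LD1_c16 LD2_c21 LD3_c56) Lrfl Lrfl
theorem f418219 : Led Lsl_gf (LP (LK LD1_c15 LD2_c7 LD3_c28)) = (LP (LK LD1_c16 LD2_c21 LD3_c56)) :=
  Lgr Lrot126 (Lpe (K7.f29364 IH) (Lpr_bt (f30514 IH) (Lpr_gt (K13.f224994 IH) (Lpr_ct (K19.f237270 IH) (Lpe (K13.f39429 IH) (Lpe (K1.f39004 IH) (Lpr_bt (f39007 IH) (Lpr_gt (f39008 IH) (Lpe (f39438 IH) (Lpr_ct (f39439 IH) (Lpn (LP (LK LD1_c16 LD2_c21 LD3_c56)))))))))))))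
theorem f29387 : Led Lsl_at (LP (LK LD1_c24 LD2_c55 LD3_c21)) = (LP (LK LD1_c15 LD2_c7 LD3_c28)) :=
  Lre_a IH (LK LD1_c24 LD2_c55 LD3_c21) (LK LD1_c15 LD2_c7 LD3_c28) Lrfl Lrfl
theorem f29386 : Led Lsl_ft (LP (LK LD1_c15 LD2_c7 LD3_c16)) = (LP (LK LD1_c24 LD2_c55 LD3_c21)) :=
  Lre_f IH (LK LD1_c15 LD2_c7 LD3_c16) (LK LD1_c24 LD2_c55 LD3_c21) Lrfl Lrfl
theorem f418221 : Led Lsl_gt (LP (LK LD1_c15 LD2_c7 LD3_c16)) = (LP (LK LD1_c16 LD2_c21 LD3_c56)) :=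
  Lgr Lrot5 (Lpr_ft (f29386 IH) (Lpr_at (f29387 IH) (Lpr_gf (f418219 IH) (Lpn (LP (LK LD1_c16 LD2_c21 LD3_c56))))))
theorem f418224 : Led Lsl_ct (LP (LK LD1_c16 LD2_c21 LD3_c56)) = (LP (LK LD1_c8 LD2_c44 LD3_c35)) :=
  Lre_c IH (LK LD1_c16 LD2_c21 LD3_c56) (LK LD1_c8 LD2_c44 LD3_c35) Lrfl Lrfl
theorem f418854 : Led Lsl_ct (LP (LK LD1_c8 LD2_c10 LD3_c26)) = (LP (LK LD1_c15 LD2_c23 LD3_c31)) :=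
  Lre_c IH (LK LD1_c8 LD2_c10 LD3_c26) (LK LD1_c15 LD2_c23 LD3_c31) Lrfl Lrfl
theorem f554499 : Led Lsl_df (LP (LK LD1_c8 LD2_c44 LD3_c35)) = (LP (LK LD1_c15 LD2_c23 LD3_c31)) :=
  Lgr Lrot162 (Lpe (f418224 IH) (Lpe (f418221 IH) (Lpe (K7.f29374 IH) (Lpe (f29406 IH) (Lpe (f158616 IH) (Lpr_gt (f552339 IH) (Lpe (K9.f70031 IH) (Lpr_gt (f554495 IH) (Lpr_ct (f418854 IH) (Lpn (LP (LK LD1_c15 LD2_c23 LD3_c31))))))))))))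
theorem f192834 : Led Lsl_ct (LP (LK LD1_c15 LD2_c23 LD3_c31)) = (LP (LK LD1_c8 LD2_c10 LD3_c26)) :=
  Lre_c IH (LK LD1_c15 LD2_c23 LD3_c31) (LK LD1_c8 LD2_c10 LD3_c26) Lrfl Lrfl
theorem f418850 : Led Lsl_bf (LP (LK LD1_c8 LD2_c42 LD3_c47)) = (LP (LK LD1_c15 LD2_c23 LD3_c31)) :=
  Lgr Lrot34 (Lpe (f210367 IH) (Lpe (f210376 IH) (Lpr_ct (K13.f181965 IH) (Lpr_gf (K14.f216820 IH) (Lpe (K11.f180216 IH) (Lpr_gf (K11.f187090 IH) (Lpe (f53118 IH) (Lpr_ct (f192793 IH) (Lpe (f53125 IH) (Lpe (f192834 IH) (Lpn (LP (LK LD1_c15 LD2_c23 LD3_c31)))))))))))))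
theorem f418852 : Led Lsl_bt (LP (LK LD1_c8 LD2_c42 LD3_c47)) = (LP (LK LD1_c15 LD2_c23 LD3_c31)) :=
  Lgr Lrot127 (Lpr_bf (f418850 IH) (Lpn (LP (LK LD1_c15 LD2_c23 LD3_c31))))
theorem f554503 : Led Lsl_dt (LP (LK LD1_c4 LD2_c23 LD3_c28)) = (LP (LK LD1_c8 LD2_c42 LD3_c47)) :=
  Lgr Lrot79 (Lpe (f39438 IH) (Lpr_df (f554499 IH) (Lpe (f418852 IH) (Lpn (LP (LK LD1_c8 LD2_c42 LD3_c47))))))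
theorem f381798 : Led Lsl_ct (LP (LK LD1_c4 LD2_c23 LD3_c19)) = (LP (LK LD1_c2 LD2_c9 LD3_c6)) :=
  Lre_c IH (LK LD1_c4 LD2_c23 LD3_c19) (LK LD1_c2 LD2_c9 LD3_c6) Lrfl Lrfl
theorem f382006 : Led Lsl_gt (LP (LK LD1_c2 LD2_c46 LD3_c7)) = (LP (LK LD1_c4 LD2_c23 LD3_c19)) :=
  Lgr Lrot82 (Lpe (f181310 IH) (Lpr_ct (K31.f181266 IH) (Lpe (K31.f381957 IH) (Lpr_cf (K30.f381964 IH) (Lpr_bt (K27.f381707 IH) (Lpe (K27.f381390 IH) (Lpe (K30.f381796 IH) (Lpr_ct (K30.f40170 IH) (Lpe (f381797 IH) (Lpe (f381798 IH) (Lpn (LP (LK LD1_c4 LD2_c23 LD3_c19)))))))))))))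
theorem f382034 : Led Lsl_ct (LP (LK LD1_c4 LD2_c23 LD3_c16)) = (LP (LK LD1_c2 LD2_c13 LD3_c24)) :=
  Lre_c IH (LK LD1_c4 LD2_c23 LD3_c16) (LK LD1_c2 LD2_c13 LD3_c24) Lrfl Lrfl
theorem f382035 : Led Lsl_dt (LP (LK LD1_c4 LD2_c32 LD3_c48)) = (LP (LK LD1_c2 LD2_c13 LD3_c24)) :=
  Lre_d IH (LK LD1_c4 LD2_c32 LD3_c48) (LK LD1_c2 LD2_c13 LD3_c24) Lrfl Lrfl
theorem f382036 : Led Lsl_ct (LP (LK LD1_c9 LD2_c2 LD3_c58)) = (LP (LK LD1_c4 LD2_c32 LD3_c48)) :=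
  Lre_c IH (LK LD1_c9 LD2_c2 LD3_c58) (LK LD1_c4 LD2_c32 LD3_c48) Lrfl Lrfl
theorem f381548 : Led Lsl_gt (LP (LK LD1_c4 LD2_c33 LD3_c15)) = (LP (LK LD1_c9 LD2_c2 LD3_c58)) :=
  Lre_g IH (LK LD1_c4 LD2_c33 LD3_c15) (LK LD1_c9 LD2_c2 LD3_c58) Lrfl Lrfl
theorem f381549 : Led Lsl_ct (LP (LK LD1_c9 LD2_c3 LD3_c54)) = (LP (LK LD1_c4 LD2_c33 LD3_c15)) :=
  Lre_c IH (LK LD1_c9 LD2_c3 LD3_c54) (LK LD1_c4 LD2_c33 LD3_c15) Lrfl Lrfl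
theorem f423644 : Led Lsl_gt (LP (LK LD1_c5 LD2_c38 LD3_c11)) = (LP (LK LD1_c9 LD2_c3 LD3_c54)) :=
  Lgr Lrot9 (Lpr_df (f423641 IH) (Lpr_gt (f382006 IH) (Lpr_ct (f381798 IH) (Lpr_gt (f381797 IH) (Lpr_ct (f382034 IH) (Lpe (f382035 IH) (Lpe (f382036 IH) (Lpe (f381548 IH) (Lpe (f381549 IH) (Lpn (LP (LK LD1_c9 LD2_c3 LD3_c54))))))))))))
theorem f556149 : Led Lsl_dt (LP (LK LD1_c9 LD2_c3 LD3_c54)) = (LP (LK LD1_c5 LD2_c37 LD3_c60)) :=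
  Lgr Lrot105 (Lpe (f423644 IH) (Lpr_df (f423641 IH) (Lpr_gf (f424193 IH) (Lpe (f424195 IH) (Lpr_gt (K31.f80230 IH) (Lpr_dt (K38.f99829 IH) (Lpr_gt (f39008 IH) (Lpr_dt (f554503 IH) (Lpr_cf (f556140 IH) (Lpn (LP (LK LD1_c5 LD2_c37 LD3_c60))))))))))))
theorem f556155 : Led Lsl_bt (LP (LK LD1_c12 LD2_c8 LD3_c51)) = (LP (LK LD1_c9 LD2_c3 LD3_c54)) :=
  Lgr Lrot95 (Lpe (f60813 IH) (Lpr_bf (f556151 IH) (Lpe (f556149 IH) (Lpn (LP (LK LD1_c9 LD2_c3 LD3_c54))))))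
theorem f424156 : Led Lsl_at (LP (LK LD1_c9 LD2_c1 LD3_c25)) = (LP (LK LD1_c16 LD2_c21 LD3_c40)) :=
  Lgr Lrot67 (Lpe (f174759 IH) (Lpr_af (K31.f422993 IH) (Lpe (K30.f172337 IH) (Lpe (f211898 IH) (Lpr_bf (f424131 IH) (Lpn (LP (LK LD1_c16 LD2_c21 LD3_c40))))))))
theorem f424213 : Led Lsl_gt (LP (LK LD1_c9 LD2_c3 LD3_c54)) = (LP (LK LD1_c16 LD2_c21 LD3_c40)) :=
  Lgr Lrot46 (Lpe (f423644 IH) (Lpe (f423069 IH) (Lpr_at (f424156 IH) (Lpn (LP (LK LD1_c16 LD2_c21 LD3_c40))))))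
theorem f423415 : Led Lsl_af (LP (LK LD1_c5 LD2_c41 LD3_c23)) = (LP (LK LD1_c9 LD2_c2 LD3_c28)) :=
  Lgr Lrot0 (Lpr_at (K38.f423410 IH) (Lpn (LP (LK LD1_c9 LD2_c2 LD3_c28))))
theorem f411945 : Led Lsl_gt (LP (LK LD1_c11 LD2_c12 LD3_c59)) = (LP (LK LD1_c5 LD2_c41 LD3_c23)) :=
  Lre_g IH (LK LD1_c11 LD2_c12 LD3_c59) (LK LD1_c5 LD2_c41 LD3_c23) Lrfl Lrfl
theorem f423455 : Led Lsl_gt (LP (LK LD1_c5 LD2_c41 LD3_c29)) = (LP (LK LD1_c11 LD2_c12 LD3_c59)) :=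
  Lgr Lrot5 (Lpr_ft (K38.f423449 IH) (Lpe (f423415 IH) (Lpe (f411945 IH) (Lpn (LP (LK LD1_c11 LD2_c12 LD3_c59))))))
theorem f556161 : Led Lsl_ct (LP (LK LD1_c12 LD2_c8 LD3_c51)) = (LP (LK LD1_c11 LD2_c12 LD3_c59)) :=
  Lgr Lrot63 (Lpr_bt (f556155 IH) (Lpr_gt (f424213 IH) (Lpe (f424158 IH) (Lpe (K31.f422965 IH) (Lpr_gt (K31.f385437 IH) (Lpe (K30.f168288 IH) (Lpe (K18.f297008 IH) (Lpe (K31.f385546 IH) (Lpr_ct (K31.f172618 IH) (Lpr_gt (f423455 IH) (Lpn (LP (LK LD1_c11 LD2_c12 LD3_c59)))))))))))))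
theorem f424008 : Led Lsl_bt (LP (LK LD1_c11 LD2_c16 LD3_c46)) = (LP (LK LD1_c9 LD2_c45 LD3_c31)) :=
  Lgr Lrot127 (Lpr_bf (f424006 IH) (Lpn (LP (LK LD1_c9 LD2_c45 LD3_c31))))
theorem f556171 : Led Lsl_gf (LP (LK LD1_c12 LD2_c8 LD3_c51)) = (LP (LK LD1_c9 LD2_c45 LD3_c31)) :=
  Lgr Lrot181 (Lpr_ct (f556161 IH) (Lpr_gt (f411945 IH) (Lpe (K31.f174965 IH) (Lpr_bt (K31.f411985 IH) (Lpr_gt (K31.f412000 IH) (Lpe (K31.f381550 IH) (Lpr_ct (K27.f381530 IH) (Lpr_gt (K36.f381531 IH) (Lpr_cf (K36.f381804 IH) (Lpr_bt (f424008 IH) (Lpn (LP (LK LD1_c9 LD2_c45 LD3_c31)))))))))))))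
theorem f60812 : Led Lsl_dt (LP (LK LD1_c12 LD2_c8 LD3_c51)) = (LP (LK LD1_c6 LD2_c15 LD3_c22)) :=
  Lre_d IH (LK LD1_c12 LD2_c8 LD3_c51) (LK LD1_c6 LD2_c15 LD3_c22) Lrfl Lrfl
theorem f423329 : Led Lsl_ft (LP (LK LD1_c2 LD2_c46 LD3_c43)) = (LP (LK LD1_c4 LD2_c32 LD3_c22)) :=
  Lgr Lrot4 (Lpe (K10.f181480 IH) (Lpr_ff (K36.f423327 IH) (Lpe (K37.f181299 IH) (Lpn (LP (LK LD1_c4 LD2_c32 LD3_c22))))))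
theorem f423570 : Led Lsl_af (LP (LK LD1_c2 LD2_c46 LD3_c47)) = (LP (LK LD1_c4 LD2_c32 LD3_c22)) :=
  Lgr Lrot45 (Lpr_ft (K38.f423568 IH) (Lpe (K38.f423337 IH) (Lpr_ft (f423329 IH) (Lpn (LP (LK LD1_c4 LD2_c32 LD3_c22))))))
theorem f423659 : Led Lsl_gf (LP (LK LD1_c2 LD2_c46 LD3_c47)) = (LP (LK LD1_c4 LD2_c57 LD3_c17)) :=
  Lgr Lrot76 (Lpr_af (f423570 IH) (Lpe (f423329 IH) (Lpe (K31.f181481 IH) (Lpn (LP (LK LD1_c4 LD2_c57 LD3_c17))))))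
theorem f181493 : Led Lsl_gt (LP (LK LD1_c11 LD2_c12 LD3_c56)) = (LP (LK LD1_c5 LD2_c41 LD3_c21)) :=
  Lre_g IH (LK LD1_c11 LD2_c12 LD3_c56) (LK LD1_c5 LD2_c41 LD3_c21) Lrfl Lrfl
theorem f423592 : Led Lsl_gf (LP (LK LD1_c11 LD2_c12 LD3_c56)) = (LP (LK LD1_c5 LD2_c41 LD3_c28)) :=
  Lgr Lrot47 (Lpr_gt (f181493 IH) (Lpr_af (f423584 IH) (Lpe (f423580 IH) (Lpn (LP (LK LD1_c5 LD2_c41 LD3_c28))))))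
theorem f380282 : Led Lsl_gt (LP (LK LD1_c9 LD2_c44 LD3_c41)) = (LP (LK LD1_c4 LD2_c56 LD3_c39)) :=
  Lre_g IH (LK LD1_c9 LD2_c44 LD3_c41) (LK LD1_c4 LD2_c56 LD3_c39) Lrfl Lrfl
theorem f411690 : Led Lsl_cf (LP (LK LD1_c11 LD2_c13 LD3_c22)) = (LP (LK LD1_c20 LD2_c7 LD3_c25)) :=
  Lgr Lrot11 (Lpr_ct (K31.f411685 IH) (Lpn (LP (LK LD1_c20 LD2_c7 LD3_c25))))
theorem f181692 : Led Lsl_ct (LP (LK LD1_c5 LD2_c41 LD3_c21)) = (LP (LK LD1_c11 LD2_c12 LD3_c57)) :=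
  Lre_c IH (LK LD1_c5 LD2_c41 LD3_c21) (LK LD1_c11 LD2_c12 LD3_c57) Lrfl Lrfl
theorem f547813 : Led Lsl_df (LP (LK LD1_c9 LD2_c44 LD3_c41)) = (LP (LK LD1_c11 LD2_c12 LD3_c56)) :=
  Lgr Lrot155 (Lpr_gt (f380282 IH) (Lpr_ct (f210340 IH) (Lpe (K35.f385270 IH) (Lpr_ct (K35.f547795 IH) (Lpe (f547803 IH) (Lpr_cf (f411690 IH) (Lpe (K31.f181695 IH) (Lpe (f181692 IH) (Lpe (f181493 IH) (Lpn (LP (LK LD1_c11 LD2_c12 LD3_c56))))))))))))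
theorem f556177 : Led Lsl_cf (LP (LK LD1_c6 LD2_c15 LD3_c22)) = (LP (LK LD1_c9 LD2_c44 LD3_c41)) :=
  Lgr Lrot14 (Lpe (f60812 IH) (Lpr_gf (f556171 IH) (Lpe (f411814 IH) (Lpe (K36.f172459 IH) (Lpr_ct (K31.f40184 IH) (Lpe (f423659 IH) (Lpr_dt (K31.f237379 IH) (Lpe (f423592 IH) (Lpe (f547813 IH) (Lpn (LP (LK LD1_c9 LD2_c44 LD3_c41))))))))))))
theorem f56472 : Led Lsl_bt (LP (LK LD1_c6 LD2_c14 LD3_c21)) = (LP (LK LD1_c3 LD2_c4 LD3_c6)) :=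
  Lre_b IH (LK LD1_c6 LD2_c14 LD3_c21) (LK LD1_c3 LD2_c4 LD3_c6) Lrfl Lrfl
theorem f556167 : Led Lsl_cf (LP (LK LD1_c12 LD2_c8 LD3_c51)) = (LP (LK LD1_c11 LD2_c12 LD3_c59)) :=
  Lgr Lrot11 (Lpr_ct (f556161 IH) (Lpn (LP (LK LD1_c11 LD2_c12 LD3_c59))))
theorem f556184 : Led Lsl_gt (LP (LK LD1_c4 LD2_c56 LD3_c41)) = (LP (LK LD1_c9 LD2_c44 LD3_c41)) :=
  Lgr Lrot150 (Lpe (f172690 IH) (Lpe (f386168 IH) (Lpr_df (K18.f175991 IH) (Lpe (K31.f385546 IH) (Lpr_ct (K31.f172618 IH) (Lpr_gt (f423455 IH) (Lpe (f556167 IH) (Lpe (f60813 IH) (Lpr_cf (f556177 IH) (Lpn (LP (LK LD1_c9 LD2_c44 LD3_c41))))))))))))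
theorem f419015 : Led Lsl_bt (LP (LK LD1_c4 LD2_c22 LD3_c46)) = (LP (LK LD1_c4 LD2_c56 LD3_c41)) :=
  Lgr Lrot127 (Lpr_bf (f211163 IH) (Lpn (LP (LK LD1_c4 LD2_c56 LD3_c41))))
theorem f59404 : Led Lsl_et (LP (LK LD1_c3 LD2_c57 LD3_c37)) = (LP (LK LD1_c7 LD2_c56 LD3_c40)) :=
  Lre_e IH (LK LD1_c3 LD2_c57 LD3_c37) (LK LD1_c7 LD2_c56 LD3_c40) Lrfl Lrfl
theorem f59405 : Led Lsl_bf (LP (LK LD1_c4 LD2_c42 LD3_c53)) = (LP (LK LD1_c7 LD2_c56 LD3_c40)) :=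
  Lgr Lrot96 (Lpr_et (K6.f59403 IH) (Lpr_bt (K6.f59338 IH) (Lpr_et (f59404 IH) (Lpn (LP (LK LD1_c7 LD2_c56 LD3_c40))))))
theorem f541351 : Led Lsl_ct (LP (LK LD1_c4 LD2_c22 LD3_c46)) = (LP (LK LD1_c7 LD2_c56 LD3_c40)) :=
  Lgr Lrot83 (Lpr_bf (f211163 IH) (Lpe (f172690 IH) (Lpr_bf (K36.f541347 IH) (Lpe (K6.f59409 IH) (Lpr_bf (f59405 IH) (Lpn (LP (LK LD1_c7 LD2_c56 LD3_c40))))))))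
theorem f556186 : Led Lsl_gt (LP (LK LD1_c5 LD2_c46 LD3_c45)) = (LP (LK LD1_c7 LD2_c56 LD3_c40)) :=
  Lgr Lrot65 (Lpr_cf (K38.f197465 IH) (Lpr_bt (K13.f60760 IH) (Lpe (K13.f60753 IH) (Lpe (f56472 IH) (Lpr_ct (K38.f60436 IH) (Lpe (f60759 IH) (Lpr_cf (f556177 IH) (Lpe (f556184 IH) (Lpe (f419015 IH) (Lpr_ct (f541351 IH) (Lpn (LP (LK LD1_c7 LD2_c56 LD3_c40)))))))))))))
theorem f240819 : Led Lsl_dt (LP (LK LD1_c5 LD2_c5 LD3_c5)) = (LP (LK LD1_c10 LD2_c1 LD3_c18)) :=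
  Lre_d IH (LK LD1_c5 LD2_c5 LD3_c5) (LK LD1_c10 LD2_c1 LD3_c18) Lrfl Lrfl
theorem f94434 : Led Lsl_dt (LP (LK LD1_c7 LD2_c5 LD3_c34)) = (LP (LK LD1_c13 LD2_c26 LD3_c37)) :=
  Lre_d IH (LK LD1_c7 LD2_c5 LD3_c34) (LK LD1_c13 LD2_c26 LD3_c37) Lrfl Lrfl
theorem f556196 : Led Lsl_gf (LP (LK LD1_c10 LD2_c1 LD3_c18)) = (LP (LK LD1_c13 LD2_c26 LD3_c37)) :=
  Lgr Lrot134 (Lpe (f240819 IH) (Lpe (K13.f240774 IH) (Lpr_gt (f556186 IH) (Lpe (f59404 IH) (Lpe (K8.f137947 IH) (Lpe (K28.f36040 IH) (Lpe (K2.f35995 IH) (Lpe (K35.f36123 IH) (Lpr_gt (K38.f540489 IH) (Lpr_dt (f94434 IH) (Lpn (LP (LK LD1_c13 LD2_c26 LD3_c37)))))))))))))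
theorem f93092 : Led Lsl_dt (LP (LK LD1_c3 LD2_c36 LD3_c48)) = (LP (LK LD1_c7 LD2_c13 LD3_c50)) :=
  Lre_d IH (LK LD1_c3 LD2_c36 LD3_c48) (LK LD1_c7 LD2_c13 LD3_c50) Lrfl Lrfl
theorem f93098 : Led Lsl_gt (LP (LK LD1_c13 LD2_c41 LD3_c0)) = (LP (LK LD1_c7 LD2_c13 LD3_c50)) :=
  Lre_g IH (LK LD1_c13 LD2_c41 LD3_c0) (LK LD1_c7 LD2_c13 LD3_c50) Lrfl Lrfl
theorem f556198 : Led Lsl_dt (LP (LK LD1_c7 LD2_c56 LD3_c40)) = (LP (LK LD1_c13 LD2_c41 LD3_c0)) :=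
  Lgr Lrot171 (Lpe (f556186 IH) (Lpr_ef (K13.f240774 IH) (Lpr_dt (f240819 IH) (Lpr_gf (f556196 IH) (Lpe (f94434 IH) (Lpr_et (K36.f94433 IH) (Lpe (K3.f98083 IH) (Lpe (K8.f93084 IH) (Lpr_dt (f93092 IH) (Lpe (f93098 IH) (Lpn (LP (LK LD1_c13 LD2_c41 LD3_c0)))))))))))))
theorem f389273 : Led Lsl_bt (LP (LK LD1_c19 LD2_c20 LD3_c43)) = (LP (LK LD1_c10 LD2_c41 LD3_c12)) :=
  Lre_b IH (LK LD1_c19 LD2_c20 LD3_c43) (LK LD1_c10 LD2_c41 LD3_c12) Lrfl Lrfl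
theorem f556208 : Led Lsl_cf (LP (LK LD1_c19 LD2_c20 LD3_c43)) = (LP (LK LD1_c13 LD2_c41 LD3_c0)) :=
  Lgr Lrot89 (Lpr_bt (f389273 IH) (Lpr_gt (K31.f389257 IH) (Lpr_dt (K31.f277039 IH) (Lpe (K30.f228675 IH) (Lpr_bt (K21.f179310 IH) (Lpe (K20.f226533 IH) (Lpr_dt (K12.f226409 IH) (Lpr_ct (K30.f179520 IH) (Lpr_bt (K35.f226539 IH) (Lpr_gt (K36.f226540 IH) (Lpqs (K36.f537436 IH) (Lpe (f495730 IH) (Lpe (K38.f194009 IH) (Lpr_bt (K36.f194015 IH) (Lpe (K13.f240783 IH) (Lpr_dt (K13.f175002 IH) (Lpr_ct (K13.f60637 IH) (Lpr_bt (K13.f60643 IH) (Lpr_gt (f556186 IH) (Lpr_dt (f556198 IH) (Lpn (LP (LK LD1_c13 LD2_c41 LD3_c0)))))))))))))))))))))))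
theorem f556210 : Led Lsl_ct (LP (LK LD1_c19 LD2_c20 LD3_c43)) = (LP (LK LD1_c13 LD2_c41 LD3_c0)) :=
  Lgr Lrot59 (Lpr_cf (f556208 IH) (Lpn (LP (LK LD1_c13 LD2_c41 LD3_c0))))
theorem f36042 : Led Lsl_et (LP (LK LD1_c8 LD2_c47 LD3_c0)) = (LP (LK LD1_c4 LD2_c24 LD3_c46)) :=
  Lre_e IH (LK LD1_c8 LD2_c47 LD3_c0) (LK LD1_c4 LD2_c24 LD3_c46) Lrfl Lrfl
theorem f138052 : Led Lsl_dt (LP (LK LD1_c16 LD2_c26 LD3_c5)) = (LP (LK LD1_c8 LD2_c47 LD3_c0)) :=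
  Lre_d IH (LK LD1_c16 LD2_c26 LD3_c5) (LK LD1_c8 LD2_c47 LD3_c0) Lrfl Lrfl
theorem f556206 : Led Lsl_ef (LP (LK LD1_c16 LD2_c26 LD3_c5)) = (LP (LK LD1_c13 LD2_c41 LD3_c0)) :=
  Lgr Lrot73 (Lpr_dt (f138052 IH) (Lpr_et (f36042 IH) (Lpr_dt (K28.f138023 IH) (Lpr_et (f59404 IH) (Lpr_dt (f556198 IH) (Lpn (LP (LK LD1_c13 LD2_c41 LD3_c0))))))))
theorem f138057 : Led Lsl_ct (LP (LK LD1_c16 LD2_c26 LD3_c5)) = (LP (LK LD1_c26 LD2_c23 LD3_c29)) :=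
  Lre_c IH (LK LD1_c16 LD2_c26 LD3_c5) (LK LD1_c26 LD2_c23 LD3_c29) Lrfl Lrfl
theorem f556216 : Led Lsl_ef (LP (LK LD1_c19 LD2_c20 LD3_c43)) = (LP (LK LD1_c26 LD2_c23 LD3_c29)) :=
  Lgr Lrot28 (Lpr_ct (f556210 IH) (Lpe (f556206 IH) (Lpr_ct (f138057 IH) (Lpn (LP (LK LD1_c26 LD2_c23 LD3_c29))))))
theorem f556219 : Led Lsl_et (LP (LK LD1_c19 LD2_c20 LD3_c43)) = (LP (LK LD1_c26 LD2_c23 LD3_c29)) :=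
  Lgr Lrot87 (Lpr_ef (f556216 IH) (Lpn (LP (LK LD1_c26 LD2_c23 LD3_c29))))
theorem f331842 : Led Lsl_dt (LP (LK LD1_c19 LD2_c20 LD3_c43)) = (LP (LK LD1_c10 LD2_c41 LD3_c11)) :=
  Lre_d IH (LK LD1_c19 LD2_c20 LD3_c43) (LK LD1_c10 LD2_c41 LD3_c11) Lrfl Lrfl
theorem f549992 : Led Lsl_at (LP (LK LD1_c16 LD2_c21 LD3_c30)) = (LP (LK LD1_c19 LD2_c20 LD3_c43)) :=
  Lgr Lrot51 (Lpr_df (K38.f549990 IH) (Lpr_af (K22.f331834 IH) (Lpe (f331842 IH) (Lpn (LP (LK LD1_c19 LD2_c20 LD3_c43))))))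
theorem f403183 : Led Lsl_et (LP (LK LD1_c26 LD2_c19 LD3_c36)) = (LP (LK LD1_c16 LD2_c21 LD3_c30)) :=
  Lre_e IH (LK LD1_c26 LD2_c19 LD3_c36) (LK LD1_c16 LD2_c21 LD3_c30) Lrfl Lrfl
theorem f556221 : Led Lsl_af (LP (LK LD1_c26 LD2_c19 LD3_c36)) = (LP (LK LD1_c26 LD2_c23 LD3_c29)) :=
  Lgr Lrot50 (Lpr_et (f403183 IH) (Lpr_at (f549992 IH) (Lpr_et (f556219 IH) (Lpn (LP (LK LD1_c26 LD2_c23 LD3_c29))))))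
theorem f556225 : Led Lsl_at (LP (LK LD1_c26 LD2_c19 LD3_c36)) = (LP (LK LD1_c26 LD2_c23 LD3_c29)) :=
  Lgr Lrot100 (Lpr_af (f556221 IH) (Lpn (LP (LK LD1_c26 LD2_c23 LD3_c29))))
theorem f549998 : Led Lsl_et (LP (LK LD1_c16 LD2_c21 LD3_c30)) = (LP (LK LD1_c26 LD2_c19 LD3_c36)) :=
  Lre_e IH (LK LD1_c16 LD2_c21 LD3_c30) (LK LD1_c26 LD2_c19 LD3_c36) Lrfl Lrfl
theorem f556234 : Led Lsl_af (LP (LK LD1_c16 LD2_c21 LD3_c30)) = (LP (LK LD1_c19 LD2_c20 LD3_c43)) :=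
  Lgr Lrot50 (Lpr_et (f549998 IH) (Lpr_at (f556225 IH) (Lpe (f556216 IH) (Lpn (LP (LK LD1_c19 LD2_c20 LD3_c43))))))
theorem f556218 : Led Lsl_ft (LP (LK LD1_c10 LD2_c41 LD3_c34)) = (LP (LK LD1_c19 LD2_c20 LD3_c43)) :=
  Lre_f IH (LK LD1_c10 LD2_c41 LD3_c34) (LK LD1_c19 LD2_c20 LD3_c43) Lrfl Lrfl
theorem f556238 : Led Lsl_gf (LP (LK LD1_c16 LD2_c21 LD3_c30)) = (LP (LK LD1_c19 LD2_c21 LD3_c18)) :=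
  Lgr Lrot76 (Lpr_af (f556234 IH) (Lpe (f556218 IH) (Lpr_gt (K38.f331800 IH) (Lpn (LP (LK LD1_c19 LD2_c21 LD3_c18))))))
theorem f132901 : Led Lsl_bt (LP (LK LD1_c12 LD2_c9 LD3_c5)) = (LP (LK LD1_c6 LD2_c15 LD3_c42)) :=
  Lre_b IH (LK LD1_c12 LD2_c9 LD3_c5) (LK LD1_c6 LD2_c15 LD3_c42) Lrfl Lrfl
theorem f119019 : Led Lsl_bt (LP (LK LD1_c8 LD2_c46 LD3_c8)) = (LP (LK LD1_c9 LD2_c9 LD3_c46)) :=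
  Lgr Lrot127 (Lpr_bf (K8.f119016 IH) (Lpn (LP (LK LD1_c9 LD2_c9 LD3_c46))))
theorem f138087 : Led Lsl_at (LP (LK LD1_c8 LD2_c47 LD3_c0)) = (LP (LK LD1_c8 LD2_c46 LD3_c8)) :=
  Lgr Lrot67 (Lpr_bf (K8.f138050 IH) (Lpe (K6.f132889 IH) (Lpe (f132901 IH) (Lpr_af (K8.f138083 IH) (Lpe (f119019 IH) (Lpn (LP (LK LD1_c8 LD2_c46 LD3_c8))))))))
theorem f112913 : Led Lsl_dt (LP (LK LD1_c8 LD2_c46 LD3_c8)) = (LP (LK LD1_c16 LD2_c24 LD3_c25)) :=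
  Lre_d IH (LK LD1_c8 LD2_c46 LD3_c8) (LK LD1_c16 LD2_c24 LD3_c25) Lrfl Lrfl
theorem f138623 : Led Lsl_af (LP (LK LD1_c16 LD2_c26 LD3_c5)) = (LP (LK LD1_c16 LD2_c24 LD3_c25)) :=
  Lgr Lrot117 (Lpr_dt (f138052 IH) (Lpr_at (f138087 IH) (Lpr_dt (f112913 IH) (Lpn (LP (LK LD1_c16 LD2_c24 LD3_c25))))))
theorem f556227 : Led Lsl_ct (LP (LK LD1_c26 LD2_c19 LD3_c36)) = (LP (LK LD1_c16 LD2_c24 LD3_c25)) :=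
  Lgr Lrot111 (Lpr_af (f556221 IH) (Lpe (f138057 IH) (Lpr_af (f138623 IH) (Lpn (LP (LK LD1_c16 LD2_c24 LD3_c25))))))
theorem f556229 : Led Lsl_cf (LP (LK LD1_c26 LD2_c19 LD3_c36)) = (LP (LK LD1_c16 LD2_c24 LD3_c25)) :=
  Lgr Lrot11 (Lpr_ct (f556227 IH) (Lpn (LP (LK LD1_c16 LD2_c24 LD3_c25))))
theorem f138630 : Led Lsl_et (LP (LK LD1_c8 LD2_c46 LD3_c10)) = (LP (LK LD1_c16 LD2_c24 LD3_c25)) :=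
  Lre_e IH (LK LD1_c8 LD2_c46 LD3_c10) (LK LD1_c16 LD2_c24 LD3_c25) Lrfl Lrfl
theorem f556231 : Led Lsl_ct (LP (LK LD1_c16 LD2_c21 LD3_c30)) = (LP (LK LD1_c8 LD2_c46 LD3_c10)) :=
  Lgr Lrot15 (Lpe (f403183 IH) (Lpr_cf (f556229 IH) (Lpe (f138630 IH) (Lpn (LP (LK LD1_c8 LD2_c46 LD3_c10))))))
theorem f133044 : Led Lsl_dt (LP (LK LD1_c8 LD2_c46 LD3_c10)) = (LP (LK LD1_c4 LD2_c24 LD3_c16)) :=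
  Lre_d IH (LK LD1_c8 LD2_c46 LD3_c10) (LK LD1_c4 LD2_c24 LD3_c16) Lrfl Lrfl
theorem f550003 : Led Lsl_cf (LP (LK LD1_c8 LD2_c44 LD3_c9)) = (LP (LK LD1_c10 LD2_c31 LD3_c47)) :=
  Lgr Lrot11 (Lpr_ct (K38.f550001 IH) (Lpn (LP (LK LD1_c10 LD2_c31 LD3_c47))))
theorem f181654 : Led Lsl_at (LP (LK LD1_c5 LD2_c41 LD3_c32)) = (LP (LK LD1_c2 LD2_c46 LD3_c53)) :=
  Lre_a IH (LK LD1_c5 LD2_c41 LD3_c32) (LK LD1_c2 LD2_c46 LD3_c53) Lrfl Lrfl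
theorem f181655 : Led Lsl_bt (LP (LK LD1_c11 LD2_c13 LD3_c12)) = (LP (LK LD1_c5 LD2_c41 LD3_c32)) :=
  Lre_b IH (LK LD1_c11 LD2_c13 LD3_c12) (LK LD1_c5 LD2_c41 LD3_c32) Lrfl Lrfl
theorem f270071 : Led Lsl_at (LP (LK LD1_c7 LD2_c56 LD3_c20)) = (LP (LK LD1_c11 LD2_c13 LD3_c12)) :=
  Lgr Lrot67 (Lpe (K38.f229858 IH) (Lpr_af (K16.f270069 IH) (Lpe (K16.f181651 IH) (Lpe (f181654 IH) (Lpe (f181655 IH) (Lpn (LP (LK LD1_c11 LD2_c13 LD3_c12))))))))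
theorem f237721 : Led Lsl_bt (LP (LK LD1_c2 LD2_c9 LD3_c4)) = (LP (LK LD1_c4 LD2_c23 LD3_c14)) :=
  Lre_b IH (LK LD1_c2 LD2_c9 LD3_c4) (LK LD1_c4 LD2_c23 LD3_c14) Lrfl Lrfl
theorem f229887 : Led Lsl_bt (LP (LK LD1_c7 LD2_c56 LD3_c20)) = (LP (LK LD1_c3 LD2_c57 LD3_c24)) :=
  Lre_b IH (LK LD1_c7 LD2_c56 LD3_c20) (LK LD1_c3 LD2_c57 LD3_c24) Lrfl Lrfl
theorem f270054 : Led Lsl_ft (LP (LK LD1_c4 LD2_c23 LD3_c14)) = (LP (LK LD1_c7 LD2_c56 LD3_c20)) :=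
  Lgr Lrot75 (Lpe (f237721 IH) (Lpr_ff (K16.f270052 IH) (Lpe (f229887 IH) (Lpn (LP (LK LD1_c7 LD2_c56 LD3_c20))))))
theorem f411497 : Led Lsl_gt (LP (LK LD1_c8 LD2_c44 LD3_c9)) = (LP (LK LD1_c11 LD2_c13 LD3_c12)) :=
  Lgr Lrot46 (Lpe (K38.f237724 IH) (Lpr_ft (f270054 IH) (Lpr_at (f270071 IH) (Lpn (LP (LK LD1_c11 LD2_c13 LD3_c12))))))
theorem f550037 : Led Lsl_ct (LP (LK LD1_c11 LD2_c13 LD3_c12)) = (LP (LK LD1_c19 LD2_c21 LD3_c18)) :=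
  Lgr Lrot110 (Lpe (f411497 IH) (Lpr_cf (f550003 IH) (Lpr_gf (K38.f549974 IH) (Lpe (K38.f312935 IH) (Lpr_gt (K38.f228689 IH) (Lpr_ct (K31.f228409 IH) (Lpr_gt (K31.f182173 IH) (Lpr_ct (K38.f263756 IH) (Lpr_df (K38.f550031 IH) (Lpn (LP (LK LD1_c19 LD2_c21 LD3_c18))))))))))))
theorem f236508 : Led Lsl_gt (LP (LK LD1_c7 LD2_c56 LD3_c13)) = (LP (LK LD1_c3 LD2_c57 LD3_c17)) :=
  Lre_g IH (LK LD1_c7 LD2_c56 LD3_c13) (LK LD1_c3 LD2_c57 LD3_c17) Lrfl Lrfl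
theorem f331818 : Led Lsl_gt (LP (LK LD1_c4 LD2_c22 LD3_c48)) = (LP (LK LD1_c7 LD2_c56 LD3_c13)) :=
  Lgr Lrot5 (Lpr_ft (K22.f331808 IH) (Lpr_at (K22.f246625 IH) (Lpe (f236508 IH) (Lpn (LP (LK LD1_c7 LD2_c56 LD3_c13))))))
theorem f556240 : Led Lsl_cf (LP (LK LD1_c4 LD2_c24 LD3_c16)) = (LP (LK LD1_c7 LD2_c56 LD3_c13)) :=
  Lgr Lrot99 (Lpe (f133044 IH) (Lpe (f556231 IH) (Lpr_gf (f556238 IH) (Lpe (f550037 IH) (Lpe (f411497 IH) (Lpr_df (K38.f550011 IH) (Lpe (K38.f297416 IH) (Lpe (K22.f237428 IH) (Lpr_gt (f331818 IH) (Lpn (LP (LK LD1_c7 LD2_c56 LD3_c13))))))))))))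
theorem f385888 : Led Lsl_bt (LP (LK LD1_c4 LD2_c56 LD3_c53)) = (LP (LK LD1_c4 LD2_c22 LD3_c48)) :=
  Lgr Lrot35 (Lpe (K30.f385372 IH) (Lpr_bf (K38.f385882 IH) (Lpe (K22.f331808 IH) (Lpn (LP (LK LD1_c4 LD2_c22 LD3_c48))))))
theorem f60267 : Led Lsl_bt (LP (LK LD1_c5 LD2_c46 LD3_c31)) = (LP (LK LD1_c2 LD2_c49 LD3_c2)) :=
  Lre_b IH (LK LD1_c5 LD2_c46 LD3_c31) (LK LD1_c2 LD2_c49 LD3_c2) Lrfl Lrfl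
theorem f197915 : Led Lsl_bt (LP (LK LD1_c6 LD2_c14 LD3_c3)) = (LP (LK LD1_c3 LD2_c3 LD3_c53)) :=
  Lre_b IH (LK LD1_c6 LD2_c14 LD3_c3) (LK LD1_c3 LD2_c3 LD3_c53) Lrfl Lrfl
theorem f410565 : Led Lsl_et (LP (LK LD1_c20 LD2_c21 LD3_c14)) = (LP (LK LD1_c21 LD2_c12 LD3_c52)) :=
  Lgr Lrot87 (Lpr_ef (f410561 IH) (Lpn (LP (LK LD1_c21 LD2_c12 LD3_c52))))
theorem f60761 : Led Lsl_et (LP (LK LD1_c5 LD2_c46 LD3_c39)) = (LP (LK LD1_c11 LD2_c23 LD3_c29)) :=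
  Lre_e IH (LK LD1_c5 LD2_c46 LD3_c39) (LK LD1_c11 LD2_c23 LD3_c29) Lrfl Lrfl
theorem f410567 : Led Lsl_ff (LP (LK LD1_c5 LD2_c46 LD3_c39)) = (LP (LK LD1_c6 LD2_c14 LD3_c4)) :=
  Lgr Lrot72 (Lpr_et (f60761 IH) (Lpr_ft (K16.f240864 IH) (Lpr_et (f410565 IH) (Lpr_ft (K37.f197964 IH) (Lpr_et (K37.f197924 IH) (Lpn (LP (LK LD1_c6 LD2_c14 LD3_c4))))))))
theorem f197492 : Led Lsl_bt (LP (LK LD1_c5 LD2_c46 LD3_c39)) = (LP (LK LD1_c11 LD2_c23 LD3_c27)) :=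
  Lre_b IH (LK LD1_c5 LD2_c46 LD3_c39) (LK LD1_c11 LD2_c23 LD3_c27) Lrfl Lrfl
theorem f198285 : Led Lsl_bt (LP (LK LD1_c12 LD2_c6 LD3_c44)) = (LP (LK LD1_c6 LD2_c14 LD3_c4)) :=
  Lre_b IH (LK LD1_c12 LD2_c6 LD3_c44) (LK LD1_c6 LD2_c14 LD3_c4) Lrfl Lrfl
theorem f410571 : Led Lsl_ft (LP (LK LD1_c11 LD2_c23 LD3_c27)) = (LP (LK LD1_c12 LD2_c6 LD3_c44)) :=
  Lgr Lrot75 (Lpe (f197492 IH) (Lpr_ff (f410567 IH) (Lpe (f198285 IH) (Lpn (LP (LK LD1_c12 LD2_c6 LD3_c44))))))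
theorem f197509 : Led Lsl_dt (LP (LK LD1_c5 LD2_c46 LD3_c38)) = (LP (LK LD1_c11 LD2_c23 LD3_c27)) :=
  Lre_d IH (LK LD1_c5 LD2_c46 LD3_c38) (LK LD1_c11 LD2_c23 LD3_c27) Lrfl Lrfl
theorem f410573 : Led Lsl_dt (LP (LK LD1_c12 LD2_c6 LD3_c44)) = (LP (LK LD1_c6 LD2_c14 LD3_c3)) :=
  Lre_d IH (LK LD1_c12 LD2_c6 LD3_c44) (LK LD1_c6 LD2_c14 LD3_c3) Lrfl Lrfl
theorem f410574 : Led Lsl_ff (LP (LK LD1_c5 LD2_c46 LD3_c38)) = (LP (LK LD1_c6 LD2_c14 LD3_c3)) :=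
  Lgr Lrot19 (Lpr_dt (f197509 IH) (Lpr_ft (f410571 IH) (Lpr_dt (f410573 IH) (Lpn (LP (LK LD1_c6 LD2_c14 LD3_c3))))))
theorem f60464 : Led Lsl_bt (LP (LK LD1_c3 LD2_c4 LD3_c39)) = (LP (LK LD1_c6 LD2_c15 LD3_c14)) :=
  Lre_b IH (LK LD1_c3 LD2_c4 LD3_c39) (LK LD1_c6 LD2_c15 LD3_c14) Lrfl Lrfl
theorem f197985 : Led Lsl_ct (LP (LK LD1_c6 LD2_c15 LD3_c14)) = (LP (LK LD1_c6 LD2_c14 LD3_c3)) :=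
  Lgr Lrot83 (Lpe (f60464 IH) (Lpe (K13.f60455 IH) (Lpr_bf (K10.f197913 IH) (Lpe (K10.f197837 IH) (Lpe (f197915 IH) (Lpn (LP (LK LD1_c6 LD2_c14 LD3_c3))))))))
theorem f410583 : Led Lsl_ft (LP (LK LD1_c5 LD2_c46 LD3_c45)) = (LP (LK LD1_c6 LD2_c15 LD3_c14)) :=
  Lgr Lrot4 (Lpr_cf (K38.f197465 IH) (Lpr_ff (f410574 IH) (Lpe (f197985 IH) (Lpn (LP (LK LD1_c6 LD2_c15 LD3_c14))))))
theorem f410589 : Led Lsl_ff (LP (LK LD1_c5 LD2_c46 LD3_c45)) = (LP (LK LD1_c6 LD2_c15 LD3_c14)) :=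
  Lgr Lrot3 (Lpr_ft (f410583 IH) (Lpn (LP (LK LD1_c6 LD2_c15 LD3_c14))))
theorem f410577 : Led Lsl_ff (LP (LK LD1_c11 LD2_c23 LD3_c27)) = (LP (LK LD1_c12 LD2_c6 LD3_c44)) :=
  Lgr Lrot3 (Lpr_ft (f410571 IH) (Lpn (LP (LK LD1_c12 LD2_c6 LD3_c44))))
theorem f197510 : Led Lsl_dt (LP (LK LD1_c11 LD2_c23 LD3_c27)) = (LP (LK LD1_c5 LD2_c46 LD3_c38)) :=
  Lre_d IH (LK LD1_c11 LD2_c23 LD3_c27) (LK LD1_c5 LD2_c46 LD3_c38) Lrfl Lrfl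
theorem f410579 : Led Lsl_dt (LP (LK LD1_c6 LD2_c14 LD3_c3)) = (LP (LK LD1_c12 LD2_c6 LD3_c44)) :=
  Lre_d IH (LK LD1_c6 LD2_c14 LD3_c3) (LK LD1_c12 LD2_c6 LD3_c44) Lrfl Lrfl
theorem f410580 : Led Lsl_ft (LP (LK LD1_c5 LD2_c46 LD3_c38)) = (LP (LK LD1_c6 LD2_c14 LD3_c3)) :=
  Lgr Lrot54 (Lpe (f197510 IH) (Lpr_ff (f410577 IH) (Lpe (f410579 IH) (Lpn (LP (LK LD1_c6 LD2_c14 LD3_c3))))))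
theorem f410591 : Led Lsl_ct (LP (LK LD1_c6 LD2_c14 LD3_c3)) = (LP (LK LD1_c6 LD2_c15 LD3_c14)) :=
  Lgr Lrot40 (Lpe (f410580 IH) (Lpe (K13.f197469 IH) (Lpr_ff (f410589 IH) (Lpn (LP (LK LD1_c6 LD2_c15 LD3_c14))))))
theorem f556248 : Led Lsl_gt (LP (LK LD1_c4 LD2_c24 LD3_c16)) = (LP (LK LD1_c6 LD2_c15 LD3_c14)) :=
  Lgr Lrot149 (Lpr_cf (f556240 IH) (Lpe (f331818 IH) (Lpe (f385888 IH) (Lpr_ct (K30.f168282 IH) (Lpr_gf (K35.f547815 IH) (Lpe (f60132 IH) (Lpr_bt (f60267 IH) (Lpr_gf (f197907 IH) (Lpe (f197915 IH) (Lpr_ct (f410591 IH) (Lpn (LP (LK LD1_c6 LD2_c15 LD3_c14)))))))))))))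
theorem f556250 : Led Lsl_bf (LP (LK LD1_c4 LD2_c23 LD3_c55)) = (LP (LK LD1_c7 LD2_c56 LD3_c13)) :=
  Lgr Lrot34 (Lpe (K38.f544905 IH) (Lpr_bf (K38.f212089 IH) (Lpr_ct (K13.f60462 IH) (Lpr_gf (K9.f60699 IH) (Lpe (K1.f60203 IH) (Lpr_gf (f197907 IH) (Lpe (f197915 IH) (Lpr_ct (f410591 IH) (Lpe (f556248 IH) (Lpr_cf (f556240 IH) (Lpn (LP (LK LD1_c7 LD2_c56 LD3_c13)))))))))))))
theorem f237437 : Led Lsl_bt (LP (LK LD1_c8 LD2_c43 LD3_c23)) = (LP (LK LD1_c4 LD2_c22 LD3_c47)) :=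
  Lre_b IH (LK LD1_c8 LD2_c43 LD3_c23) (LK LD1_c4 LD2_c22 LD3_c47) Lrfl Lrfl
theorem f556254 : Led Lsl_ft (LP (LK LD1_c4 LD2_c22 LD3_c47)) = (LP (LK LD1_c7 LD2_c56 LD3_c13)) :=
  Lgr Lrot75 (Lpe (f237437 IH) (Lpe (f547743 IH) (Lpr_bf (f556250 IH) (Lpn (LP (LK LD1_c7 LD2_c56 LD3_c13))))))
theorem f556260 : Led Lsl_af (LP (LK LD1_c4 LD2_c22 LD3_c46)) = (LP (LK LD1_c7 LD2_c56 LD3_c13)) :=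
  Lgr Lrot31 (Lpe (f180218 IH) (Lpe (K38.f225120 IH) (Lpr_ft (f556254 IH) (Lpn (LP (LK LD1_c7 LD2_c56 LD3_c13))))))
theorem f556252 : Led Lsl_bt (LP (LK LD1_c4 LD2_c23 LD3_c55)) = (LP (LK LD1_c7 LD2_c56 LD3_c13)) :=
  Lgr Lrot127 (Lpr_bf (f556250 IH) (Lpn (LP (LK LD1_c7 LD2_c56 LD3_c13))))
theorem f556262 : Led Lsl_at (LP (LK LD1_c4 LD2_c56 LD3_c41)) = (LP (LK LD1_c6 LD2_c24 LD3_c32)) :=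
  Lgr Lrot67 (Lpe (f419015 IH) (Lpr_af (f556260 IH) (Lpe (f556252 IH) (Lpe (K38.f117631 IH) (Lpe (K38.f117635 IH) (Lpn (LP (LK LD1_c6 LD2_c24 LD3_c32))))))))
theorem f549823 : Led Lsl_cf (LP (LK LD1_c6 LD2_c24 LD3_c32)) = (LP (LK LD1_c3 LD2_c58 LD3_c53)) :=
  Lgr Lrot14 (Lpe (K38.f549817 IH) (Lpr_gf (K38.f549818 IH) (Lpe (K38.f380614 IH) (Lpe (K38.f423576 IH) (Lpr_ct (K31.f181577 IH) (Lpr_gt (K31.f174339 IH) (Lpr_dt (K16.f174338 IH) (Lpr_gt (K31.f174115 IH) (Lpe (K38.f549811 IH) (Lpn (LP (LK LD1_c3 LD2_c58 LD3_c53))))))))))))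
theorem f174346 : Led Lsl_ct (LP (LK LD1_c5 LD2_c41 LD3_c47)) = (LP (LK LD1_c2 LD2_c46 LD3_c55)) :=
  Lre_c IH (LK LD1_c5 LD2_c41 LD3_c47) (LK LD1_c2 LD2_c46 LD3_c55) Lrfl Lrfl
theorem f181517 : Led Lsl_dt (LP (LK LD1_c11 LD2_c13 LD3_c45)) = (LP (LK LD1_c5 LD2_c41 LD3_c47)) :=
  Lre_d IH (LK LD1_c11 LD2_c13 LD3_c45) (LK LD1_c5 LD2_c41 LD3_c47) Lrfl Lrfl
theorem f411941 : Led Lsl_gt (LP (LK LD1_c20 LD2_c7 LD3_c29)) = (LP (LK LD1_c11 LD2_c12 LD3_c60)) :=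
  Lre_g IH (LK LD1_c20 LD2_c7 LD3_c29) (LK LD1_c11 LD2_c12 LD3_c60) Lrfl Lrfl
theorem f423433 : Led Lsl_gt (LP (LK LD1_c11 LD2_c13 LD3_c10)) = (LP (LK LD1_c20 LD2_c7 LD3_c29)) :=
  Lgr Lrot5 (Lpr_ft (K38.f423425 IH) (Lpe (K38.f423417 IH) (Lpe (f411941 IH) (Lpn (LP (LK LD1_c20 LD2_c7 LD3_c29))))))
theorem f281770 : Led Lsl_dt (LP (LK LD1_c11 LD2_c13 LD3_c34)) = (LP (LK LD1_c20 LD2_c8 LD3_c15)) :=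
  Lre_d IH (LK LD1_c11 LD2_c13 LD3_c34) (LK LD1_c20 LD2_c8 LD3_c15) Lrfl Lrfl
theorem f181514 : Led Lsl_gt (LP (LK LD1_c11 LD2_c13 LD3_c43)) = (LP (LK LD1_c5 LD2_c41 LD3_c47)) :=
  Lre_g IH (LK LD1_c11 LD2_c13 LD3_c43) (LK LD1_c5 LD2_c41 LD3_c47) Lrfl Lrfl
theorem f411951 : Led Lsl_dt (LP (LK LD1_c20 LD2_c7 LD3_c29)) = (LP (LK LD1_c11 LD2_c13 LD3_c43)) :=
  Lgr Lrot6 (Lpr_gt (f411941 IH) (Lpr_ct (K31.f411934 IH) (Lpr_gt (K31.f411947 IH) (Lpr_ct (K30.f281734 IH) (Lpe (K20.f269001 IH) (Lpe (K16.f268835 IH) (Lpe (K31.f411916 IH) (Lpe (f174346 IH) (Lpe (f181514 IH) (Lpn (LP (LK LD1_c11 LD2_c13 LD3_c43))))))))))))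
theorem f181521 : Led Lsl_dt (LP (LK LD1_c5 LD2_c41 LD3_c47)) = (LP (LK LD1_c11 LD2_c13 LD3_c45)) :=
  Lre_d IH (LK LD1_c5 LD2_c41 LD3_c47) (LK LD1_c11 LD2_c13 LD3_c45) Lrfl Lrfl
theorem f423435 : Led Lsl_ct (LP (LK LD1_c20 LD2_c8 LD3_c15)) = (LP (LK LD1_c11 LD2_c13 LD3_c45)) :=
  Lgr Lrot7 (Lpe (f281770 IH) (Lpr_gf (K38.f281768 IH) (Lpe (K16.f268992 IH) (Lpe (K31.f385818 IH) (Lpr_cf (K31.f411922 IH) (Lpr_gt (f423433 IH) (Lpr_dt (f411951 IH) (Lpr_gt (f181514 IH) (Lpr_dt (f181521 IH) (Lpn (LP (LK LD1_c11 LD2_c13 LD3_c45))))))))))))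
theorem f556268 : Led Lsl_ff (LP (LK LD1_c4 LD2_c56 LD3_c41)) = (LP (LK LD1_c7 LD2_c59 LD3_c7)) :=
  Lgr Lrot103 (Lpr_at (f556262 IH) (Lpr_cf (f549823 IH) (Lpr_df (K38.f549811 IH) (Lpe (f174346 IH) (Lpe (f181517 IH) (Lpe (f423435 IH) (Lpe (f281770 IH) (Lpe (K38.f549912 IH) (Lpe (K38.f255119 IH) (Lpn (LP (LK LD1_c7 LD2_c59 LD3_c7))))))))))))
theorem f255118 : Led Lsl_dt (LP (LK LD1_c15 LD2_c3 LD3_c48)) = (LP (LK LD1_c7 LD2_c59 LD3_c7)) :=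
  Lre_d IH (LK LD1_c15 LD2_c3 LD3_c48) (LK LD1_c7 LD2_c59 LD3_c7) Lrfl Lrfl
theorem f556272 : Led Lsl_ft (LP (LK LD1_c9 LD2_c44 LD3_c44)) = (LP (LK LD1_c15 LD2_c3 LD3_c48)) :=
  Lgr Lrot54 (Lpe (f386171 IH) (Lpr_ff (f556268 IH) (Lpe (f255118 IH) (Lpn (LP (LK LD1_c15 LD2_c3 LD3_c48))))))
theorem f556278 : Led Lsl_ff (LP (LK LD1_c9 LD2_c44 LD3_c44)) = (LP (LK LD1_c15 LD2_c3 LD3_c48)) :=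
  Lgr Lrot3 (Lpr_ft (f556272 IH) (Lpn (LP (LK LD1_c15 LD2_c3 LD3_c48))))
theorem f556282 : Led Lsl_ft (LP (LK LD1_c16 LD2_c53 LD3_c0)) = (LP (LK LD1_c11 LD2_c13 LD3_c34)) :=
  Lgr Lrot4 (Lpe (f551550 IH) (Lpr_ff (f556278 IH) (Lpr_cf (K38.f549909 IH) (Lpn (LP (LK LD1_c11 LD2_c13 LD3_c34))))))
theorem f181397 : Led Lsl_gt (LP (LK LD1_c9 LD2_c2 LD3_c37)) = (LP (LK LD1_c16 LD2_c52 LD3_c61)) :=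
  Lre_g IH (LK LD1_c9 LD2_c2 LD3_c37) (LK LD1_c16 LD2_c52 LD3_c61) Lrfl Lrfl
theorem f556288 : Led Lsl_af (LP (LK LD1_c16 LD2_c52 LD3_c61)) = (LP (LK LD1_c11 LD2_c13 LD3_c34)) :=
  Lgr Lrot31 (Lpe (f181397 IH) (Lpe (f181361 IH) (Lpr_ft (f556282 IH) (Lpn (LP (LK LD1_c11 LD2_c13 LD3_c34))))))
theorem f60788 : Led Lsl_dt (LP (LK LD1_c6 LD2_c14 LD3_c20)) = (LP (LK LD1_c3 LD2_c4 LD3_c3)) :=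
  Lre_d IH (LK LD1_c6 LD2_c14 LD3_c20) (LK LD1_c3 LD2_c4 LD3_c3) Lrfl Lrfl
theorem f172619 : Led Lsl_ct (LP (LK LD1_c2 LD2_c26 LD3_c8)) = (LP (LK LD1_c4 LD2_c56 LD3_c39)) :=
  Lre_c IH (LK LD1_c2 LD2_c26 LD3_c8) (LK LD1_c4 LD2_c56 LD3_c39) Lrfl Lrfl
theorem f547284 : Led Lsl_dt (LP (LK LD1_c4 LD2_c56 LD3_c39)) = (LP (LK LD1_c9 LD2_c44 LD3_c42)) :=
  Lre_d IH (LK LD1_c4 LD2_c56 LD3_c39) (LK LD1_c9 LD2_c44 LD3_c42) Lrfl Lrfl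
theorem f551691 : Led Lsl_cf (LP (LK LD1_c9 LD2_c44 LD3_c42)) = (LP (LK LD1_c16 LD2_c52 LD3_c61)) :=
  Lgr Lrot99 (Lpe (f547284 IH) (Lpe (f172619 IH) (Lpe (K35.f172615 IH) (Lpe (K30.f172617 IH) (Lpr_gf (K38.f547276 IH) (Lpe (f60788 IH) (Lpr_gt (f551681 IH) (Lpr_ct (f181368 IH) (Lpr_gt (f181397 IH) (Lpn (LP (LK LD1_c16 LD2_c52 LD3_c61))))))))))))
theorem f556292 : Led Lsl_at (LP (LK LD1_c9 LD2_c44 LD3_c42)) = (LP (LK LD1_c15 LD2_c3 LD3_c48)) :=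
  Lgr Lrot107 (Lpr_cf (f551691 IH) (Lpr_af (f556288 IH) (Lpe (K38.f549912 IH) (Lpn (LP (LK LD1_c15 LD2_c3 LD3_c48))))))
theorem f380615 : Led Lsl_dt (LP (LK LD1_c11 LD2_c12 LD3_c54)) = (LP (LK LD1_c5 LD2_c41 LD3_c20)) :=
  Lre_d IH (LK LD1_c11 LD2_c12 LD3_c54) (LK LD1_c5 LD2_c41 LD3_c20) Lrfl Lrfl
theorem f549917 : Led Lsl_gt (LP (LK LD1_c15 LD2_c3 LD3_c48)) = (LP (LK LD1_c11 LD2_c12 LD3_c54)) :=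
  Lgr Lrot94 (Lpr_cf (K38.f549909 IH) (Lpr_gt (K38.f181661 IH) (Lpr_dt (K30.f269050 IH) (Lpe (K31.f385814 IH) (Lpr_dt (K31.f181694 IH) (Lpe (f181692 IH) (Lpe (K31.f181507 IH) (Lpe (K38.f181488 IH) (Lpe (f380615 IH) (Lpn (LP (LK LD1_c11 LD2_c12 LD3_c54))))))))))))
theorem f556284 : Led Lsl_at (LP (LK LD1_c9 LD2_c44 LD3_c44)) = (LP (LK LD1_c12 LD2_c22 LD3_c4)) :=
  Lgr Lrot26 (Lpr_ff (f556278 IH) (Lpr_gt (f549917 IH) (Lpe (K38.f549818 IH) (Lpn (LP (LK LD1_c12 LD2_c22 LD3_c4))))))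
theorem f556301 : Led Lsl_ff (LP (LK LD1_c9 LD2_c44 LD3_c42)) = (LP (LK LD1_c12 LD2_c22 LD3_c4)) :=
  Lgr Lrot30 (Lpr_at (f556292 IH) (Lpe (f556278 IH) (Lpr_at (f556284 IH) (Lpn (LP (LK LD1_c12 LD2_c22 LD3_c4))))))
theorem f181511 : Led Lsl_dt (LP (LK LD1_c9 LD2_c45 LD3_c33)) = (LP (LK LD1_c4 LD2_c57 LD3_c17)) :=
  Lre_d IH (LK LD1_c9 LD2_c45 LD3_c33) (LK LD1_c4 LD2_c57 LD3_c17) Lrfl Lrfl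
theorem f549931 : Led Lsl_gf (LP (LK LD1_c15 LD2_c3 LD3_c48)) = (LP (LK LD1_c9 LD2_c45 LD3_c33)) :=
  Lgr Lrot147 (Lpr_ct (K38.f549912 IH) (Lpr_gt (K38.f181661 IH) (Lpr_ct (K30.f181656 IH) (Lpe (K30.f181658 IH) (Lpe (K12.f174956 IH) (Lpe (K31.f174339 IH) (Lpe (K31.f181577 IH) (Lpr_gf (f423659 IH) (Lpe (f181511 IH) (Lpn (LP (LK LD1_c9 LD2_c45 LD3_c33))))))))))))
theorem f556303 : Led Lsl_gt (LP (LK LD1_c12 LD2_c22 LD3_c4)) = (LP (LK LD1_c9 LD2_c45 LD3_c33)) :=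
  Lgr Lrot5 (Lpe (f556301 IH) (Lpr_at (f556292 IH) (Lpr_gf (f549931 IH) (Lpn (LP (LK LD1_c9 LD2_c45 LD3_c33))))))
theorem f181489 : Led Lsl_dt (LP (LK LD1_c4 LD2_c57 LD3_c17)) = (LP (LK LD1_c9 LD2_c45 LD3_c33)) :=
  Lre_d IH (LK LD1_c4 LD2_c57 LD3_c17) (LK LD1_c9 LD2_c45 LD3_c33) Lrfl Lrfl
theorem f556307 : Led Lsl_et (LP (LK LD1_c4 LD2_c57 LD3_c17)) = (LP (LK LD1_c9 LD2_c45 LD3_c34)) :=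
  Lre_e IH (LK LD1_c4 LD2_c57 LD3_c17) (LK LD1_c9 LD2_c45 LD3_c34) Lrfl Lrfl
theorem f556309 : Led Lsl_gf (LP (LK LD1_c7 LD2_c0 LD3_c43)) = (LP (LK LD1_c9 LD2_c45 LD3_c34)) :=
  Lgr Lrot138 (Lpr_dt (K3.f64641 IH) (Lpr_gt (K28.f89660 IH) (Lpe (K37.f546826 IH) (Lpr_et (K32.f80628 IH) (Lpr_gt (K8.f138553 IH) (Lpe (K38.f117621 IH) (Lpr_dt (K38.f119080 IH) (Lpr_gt (f556303 IH) (Lpe (f181489 IH) (Lpr_et (f556307 IH) (Lpn (LP (LK LD1_c9 LD2_c45 LD3_c34)))))))))))))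
theorem f98512 : Led Lsl_bt (LP (LK LD1_c3 LD2_c29 LD3_c32)) = (LP (LK LD1_c7 LD2_c0 LD3_c43)) :=
  Lre_b IH (LK LD1_c3 LD2_c29 LD3_c32) (LK LD1_c7 LD2_c0 LD3_c43) Lrfl Lrfl
theorem f98086 : Led Lsl_bt (LP (LK LD1_c1 LD2_c43 LD3_c29)) = (LP (LK LD1_c3 LD2_c33 LD3_c30)) :=
  Lre_b IH (LK LD1_c1 LD2_c43 LD3_c29) (LK LD1_c3 LD2_c33 LD3_c30) Lrfl Lrfl
theorem f66447 : Led Lsl_dt (LP (LK LD1_c6 LD2_c44 LD3_c32)) = (LP (LK LD1_c3 LD2_c20 LD3_c24)) :=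
  Lre_d IH (LK LD1_c6 LD2_c44 LD3_c32) (LK LD1_c3 LD2_c20 LD3_c24) Lrfl Lrfl
theorem f540197 : Led Lsl_ct (LP (LK LD1_c3 LD2_c20 LD3_c24)) = (LP (LK LD1_c6 LD2_c16 LD3_c54)) :=
  Lgr Lrot59 (Lpr_cf (K36.f540193 IH) (Lpn (LP (LK LD1_c6 LD2_c16 LD3_c54))))
theorem f198515 : Led Lsl_df (LP (LK LD1_c1 LD2_c21 LD3_c35)) = (LP (LK LD1_c2 LD2_c19 LD3_c1)) :=
  Lgr Lrot38 (Lpr_dt (K11.f198513 IH) (Lpn (LP (LK LD1_c2 LD2_c19 LD3_c1))))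
theorem f210561 : Led Lsl_gt (LP (LK LD1_c1 LD2_c31 LD3_c24)) = (LP (LK LD1_c2 LD2_c19 LD3_c1)) :=
  Lgr Lrot49 (Lpe (K11.f25975 IH) (Lpr_gf (K11.f210559 IH) (Lpe (K10.f20482 IH) (Lpe (K9.f146314 IH) (Lpe (K9.f177095 IH) (Lpr_gt (K9.f146327 IH) (Lpr_dt (K10.f146330 IH) (Lpe (K11.f146331 IH) (Lpr_df (f198515 IH) (Lpn (LP (LK LD1_c2 LD2_c19 LD3_c1))))))))))))
theorem f494534 : Led Lsl_gt (LP (LK LD1_c1 LD2_c21 LD3_c35)) = K30.v1282 :=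
  Lgr Lrot131 (Lpr_ef (K36.f198519 IH) (Lpr_dt (K16.f24258 IH) (Lpe (K10.f24260 IH) (Lpe (K10.f178995 IH) (Lpe (K10.f176716 IH) (Lpr_ef (K10.f26649 IH) (Lpr_dt (K10.f176714 IH) (Lpe (K10.f176705 IH) (Lpe (K10.f26664 IH) (Lpr_et (K30.f494529 IH) (Lpn K30.v1282)))))))))))
theorem f494538 : Led Lsl_df (LP (LK LD1_c2 LD2_c51 LD3_c32)) = K30.v1282 :=
  Lgr Lrot38 (Lpr_dt (K30.f494537 IH) (Lpn K30.v1282))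
def v1830 : LQ := Led Lsl_ct (LP (LK LD1_c1 LD2_c28 LD3_c52))
theorem f503199 : Led Lsl_ct (LP (LK LD1_c1 LD2_c28 LD3_c52)) = v1830 :=
  Lrfl
def v1486 : LQ := Led Lsl_ft (LP (LK LD1_c1 LD2_c19 LD3_c45))
theorem f495812 : Led Lsl_ft (LP (LK LD1_c1 LD2_c19 LD3_c45)) = v1486 :=
  Lrfl
theorem f495815 : Led Lsl_ff (LP (LK LD1_c1 LD2_c19 LD3_c45)) = v1486 :=
  Lgr Lrot3 (Lpr_ft (f495812 IH) (Lpn v1486))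
theorem f495818 : Led Lsl_gf (LP (LK LD1_c1 LD2_c28 LD3_c52)) = v1486 :=
  Lgr Lrot47 (Lpr_gt (K12.f227763 IH) (Lpr_af (K24.f379963 IH) (Lpr_ff (f495815 IH) (Lpn v1486))))
theorem f495814 : Led Lsl_df K36.v385 = v1486 :=
  Lgr Lrot78 (Lpe (K36.f452555 IH) (Lpr_dt (K12.f171779 IH) (Lpr_ft (f495812 IH) (Lpn v1486))))
theorem f210594 : Led Lsl_ct (LP (LK LD1_c1 LD2_c13 LD3_c57)) = (LP (LK LD1_c0 LD2_c42 LD3_c16)) :=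
  Lgr Lrot59 (Lpr_cf (K16.f210592 IH) (Lpn (LP (LK LD1_c0 LD2_c42 LD3_c16))))
theorem f503203 : Led Lsl_gf (LP (LK LD1_c2 LD2_c47 LD3_c33)) = v1830 :=
  Lgr Lrot104 (Lpr_ct (K36.f172708 IH) (Lpe (K11.f172678 IH) (Lpe (K11.f172423 IH) (Lpe (K11.f204839 IH) (Lpe (f210594 IH) (Lpr_gf (K36.f452558 IH) (Lpr_df (f495814 IH) (Lpe (f495818 IH) (Lpr_ct (f503199 IH) (Lpn v1830))))))))))
theorem f540192 : Led Lsl_dt K36.v1566 = v1830 :=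
  Lgr Lrot57 (Lpr_gf (K36.f540191 IH) (Lpe (K11.f210158 IH) (Lpr_gt (f210561 IH) (Lpe (f198515 IH) (Lpr_gt (f494534 IH) (Lpe (f494538 IH) (Lpr_cf (K30.f494541 IH) (Lpe (K30.f172702 IH) (Lpr_gf (f503203 IH) (Lpn v1830))))))))))
theorem f503201 : Led Lsl_cf (LP (LK LD1_c1 LD2_c28 LD3_c52)) = v1830 :=
  Lgr Lrot11 (Lpr_ct (f503199 IH) (Lpn v1830))
theorem f450209 : Led Lsl_bt (LP (LK LD1_c1 LD2_c28 LD3_c52)) = (LP (LK LD1_c3 LD2_c5 LD3_c40)) :=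
  Lre_b IH (LK LD1_c1 LD2_c28 LD3_c52) (LK LD1_c3 LD2_c5 LD3_c40) Lrfl Lrfl
theorem f546851 : Led Lsl_df (LP (LK LD1_c5 LD2_c14 LD3_c5)) = (LP (LK LD1_c6 LD2_c17 LD3_c2)) :=
  Lgr Lrot38 (Lpr_dt (K37.f546849 IH) (Lpn (LP (LK LD1_c6 LD2_c17 LD3_c2))))
theorem f556315 : Led Lsl_bt (LP (LK LD1_c7 LD2_c33 LD3_c47)) = (LP (LK LD1_c9 LD2_c45 LD3_c34)) :=
  Lgr Lrot178 (Lpe (K37.f546856 IH) (Lpr_df (f546851 IH) (Lpe (K37.f450214 IH) (Lpe (f450209 IH) (Lpr_cf (f503201 IH) (Lpe (f540192 IH) (Lpr_gf (K36.f540191 IH) (Lpe (K36.f210221 IH) (Lpe (f540197 IH) (Lpe (f66447 IH) (Lpe (K24.f141896 IH) (Lpe (K24.f128407 IH) (Lpr_cf (K4.f108681 IH) (Lpr_df (K3.f64620 IH) (Lpe (K3.f64636 IH) (Lpe (K28.f64639 IH) (Lpe (K3.f64640 IH) (Lpe (K3.f64641 IH) (Lpr_gf (f556309 IH) (Lpn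 (LP (LK LD1_c9 LD2_c45 LD3_c34))))))))))))))))))))))
theorem f556318 : Led Lsl_gt (LP (LK LD1_c3 LD2_c33 LD3_c30)) = (LP (LK LD1_c5 LD2_c14 LD3_c0)) :=
  Lgr Lrot82 (Lpe (f98086 IH) (Lpr_ct (K3.f98087 IH) (Lpe (K3.f98498 IH) (Lpr_cf (K3.f98508 IH) (Lpr_bt (f98512 IH) (Lpr_gf (f556309 IH) (Lpe (f556315 IH) (Lpe (K37.f546854 IH) (Lpe (K37.f61378 IH) (Lpe (K38.f61374 IH) (Lpn (LP (LK LD1_c5 LD2_c14 LD3_c0)))))))))))))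
theorem f549899 : Led Lsl_dt (LP (LK LD1_c6 LD2_c14 LD3_c16)) = (LP (LK LD1_c5 LD2_c41 LD3_c40)) :=
  Lgr Lrot42 (Lpr_df (K38.f549894 IH) (Lpn (LP (LK LD1_c5 LD2_c41 LD3_c40))))
theorem f556328 : Led Lsl_ef (LP (LK LD1_c3 LD2_c33 LD3_c30)) = (LP (LK LD1_c4 LD2_c32 LD3_c28)) :=
  Lgr Lrot114 (Lpr_gt (f556318 IH) (Lpe (K16.f201618 IH) (Lpr_dt (K37.f201613 IH) (Lpr_gt (K37.f544502 IH) (Lpe (K37.f176029 IH) (Lpr_et (K37.f176022 IH) (Lpe (K35.f541561 IH) (Lpr_dt (f549899 IH) (Lpr_gt (K38.f269026 IH) (Lpe (K38.f269012 IH) (Lpn (LP (LK LD1_c4 LD2_c32 LD3_c28)))))))))))))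
theorem f556336 : Led Lsl_et (LP (LK LD1_c3 LD2_c33 LD3_c30)) = (LP (LK LD1_c4 LD2_c32 LD3_c28)) :=
  Lgr Lrot87 (Lpr_ef (f556328 IH) (Lpn (LP (LK LD1_c4 LD2_c32 LD3_c28))))
theorem f96829 : Led Lsl_dt (LP (LK LD1_c3 LD2_c33 LD3_c30)) = (LP (LK LD1_c1 LD2_c43 LD3_c28)) :=
  Lre_d IH (LK LD1_c3 LD2_c33 LD3_c30) (LK LD1_c1 LD2_c43 LD3_c28) Lrfl Lrfl
theorem f556346 : Led Lsl_df (LP (LK LD1_c3 LD2_c33 LD3_c27)) = (LP (LK LD1_c3 LD2_c4 LD3_c16)) :=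
  Lgr Lrot135 (Lpr_gt (K3.f96769 IH) (Lpe (f96829 IH) (Lpr_et (f556336 IH) (Lpe (K31.f281794 IH) (Lpq (K38.f537901 IH) (Lpe (K38.f500436 IH) (Lpr_dt (K11.f137494 IH) (Lpr_gt (K11.f137495 IH) (Lpe (K6.f80263 IH) (Lpr_et (K38.f137501 IH) (Lpr_gt (K38.f59093 IH) (Lpn (LP (LK LD1_c3 LD2_c4 LD3_c16))))))))))))))
theorem f210431 : Led Lsl_et (LP (LK LD1_c2 LD2_c26 LD3_c4)) = (LP (LK LD1_c4 LD2_c56 LD3_c36)) :=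
  Lre_e IH (LK LD1_c2 LD2_c26 LD3_c4) (LK LD1_c4 LD2_c56 LD3_c36) Lrfl Lrfl
theorem f556348 : Led Lsl_gf (LP (LK LD1_c6 LD2_c14 LD3_c47)) = (LP (LK LD1_c4 LD2_c56 LD3_c36)) :=
  Lgr Lrot141 (Lpe (K38.f547103 IH) (Lpe (f556346 IH) (Lpr_gt (K3.f96769 IH) (Lpe (f96829 IH) (Lpr_et (f556336 IH) (Lpe (K31.f281794 IH) (Lpr_dt (K31.f281796 IH) (Lpr_gt (K31.f281797 IH) (Lpr_df (K30.f210417 IH) (Lpr_et (f210431 IH) (Lpn (LP (LK LD1_c4 LD2_c56 LD3_c36)))))))))))))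
theorem f71984 : Led Lsl_dt (LP (LK LD1_c9 LD2_c8 LD3_c12)) = (LP (LK LD1_c4 LD2_c35 LD3_c61)) :=
  Lre_d IH (LK LD1_c9 LD2_c8 LD3_c12) (LK LD1_c4 LD2_c35 LD3_c61) Lrfl Lrfl
theorem f71980 : Led Lsl_dt (LP (LK LD1_c4 LD2_c36 LD3_c3)) = (LP (LK LD1_c2 LD2_c15 LD3_c13)) :=
  Lre_d IH (LK LD1_c4 LD2_c36 LD3_c3) (LK LD1_c2 LD2_c15 LD3_c13) Lrfl Lrfl
theorem f202621 : Led Lsl_et (LP (LK LD1_c3 LD2_c5 LD3_c19)) = (LP (LK LD1_c1 LD2_c28 LD3_c40)) :=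
  Lre_e IH (LK LD1_c3 LD2_c5 LD3_c19) (LK LD1_c1 LD2_c28 LD3_c40) Lrfl Lrfl
theorem f202622 : Led Lsl_dt (LP (LK LD1_c3 LD2_c5 LD3_c19)) = (LP (LK LD1_c6 LD2_c16 LD3_c26)) :=
  Lre_d IH (LK LD1_c3 LD2_c5 LD3_c19) (LK LD1_c6 LD2_c16 LD3_c26) Lrfl Lrfl
theorem f71218 : Led Lsl_et (LP (LK LD1_c2 LD2_c15 LD3_c13)) = (LP (LK LD1_c1 LD2_c4 LD3_c42)) :=
  Lre_e IH (LK LD1_c2 LD2_c15 LD3_c13) (LK LD1_c1 LD2_c4 LD3_c42) Lrfl Lrfl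
theorem f202623 : Led Lsl_gt (LP (LK LD1_c6 LD2_c16 LD3_c26)) = (LP (LK LD1_c4 LD2_c36 LD3_c3)) :=
  Lgr Lrot112 (Lpe (f202622 IH) (Lpr_et (f202621 IH) (Lpe (K31.f59008 IH) (Lpe (K36.f202619 IH) (Lpr_dt (K11.f202572 IH) (Lpe (K4.f68997 IH) (Lpe (K6.f79353 IH) (Lpe (K6.f81844 IH) (Lpe (f71218 IH) (Lpr_dt (K38.f71219 IH) (Lpn (LP (LK LD1_c4 LD2_c36 LD3_c3)))))))))))))
theorem f179914 : Led Lsl_ct (LP (LK LD1_c2 LD2_c26 LD3_c11)) = (LP (LK LD1_c4 LD2_c56 LD3_c36)) :=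
  Lre_c IH (LK LD1_c2 LD2_c26 LD3_c11) (LK LD1_c4 LD2_c56 LD3_c36) Lrfl Lrfl
theorem f556352 : Led Lsl_gf (LP (LK LD1_c3 LD2_c5 LD3_c19)) = (LP (LK LD1_c2 LD2_c26 LD3_c11)) :=
  Lgr Lrot144 (Lpr_dt (f202622 IH) (Lpr_gt (f202623 IH) (Lpr_dt (f71980 IH) (Lpe (K38.f71978 IH) (Lpe (f71984 IH) (Lpr_gf (K38.f424550 IH) (Lpe (K38.f137503 IH) (Lpr_gf (f556348 IH) (Lpe (f179914 IH) (Lpn (LP (LK LD1_c2 LD2_c26 LD3_c11))))))))))))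
theorem f503135 : Led Lsl_et (LP (LK LD1_c1 LD2_c28 LD3_c40)) = (LP (LK LD1_c3 LD2_c5 LD3_c19)) :=
  Lre_e IH (LK LD1_c1 LD2_c28 LD3_c40) (LK LD1_c3 LD2_c5 LD3_c19) Lrfl Lrfl
theorem f59009 : Led Lsl_dt (LP (LK LD1_c1 LD2_c28 LD3_c40)) = (LP (LK LD1_c3 LD2_c5 LD3_c18)) :=
  Lre_d IH (LK LD1_c1 LD2_c28 LD3_c40) (LK LD1_c3 LD2_c5 LD3_c18) Lrfl Lrfl
theorem f202620 : Led Lsl_gt (LP (LK LD1_c3 LD2_c5 LD3_c18)) = (LP (LK LD1_c6 LD2_c16 LD3_c24)) :=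
  Lre_g IH (LK LD1_c3 LD2_c5 LD3_c18) (LK LD1_c6 LD2_c16 LD3_c24) Lrfl Lrfl
theorem f556397 : Led Lsl_df (LP (LK LD1_c6 LD2_c16 LD3_c24)) = (LP (LK LD1_c4 LD2_c32 LD3_c30)) :=
  Lgr Lrot168 (Lpe (f202620 IH) (Lpe (f59009 IH) (Lpr_et (f503135 IH) (Lpr_gf (f556352 IH) (Lpe (K30.f172595 IH) (Lpr_dt (K30.f172543 IH) (Lpe (K31.f172613 IH) (Lpe (K31.f172614 IH) (Lpr_gf (K31.f280545 IH) (Lpe (f268854 IH) (Lpn (LP (LK LD1_c4 LD2_c32 LD3_c30)))))))))))))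
theorem f556403 : Led Lsl_ct (LP (LK LD1_c6 LD2_c16 LD3_c24)) = (LP (LK LD1_c12 LD2_c9 LD3_c61)) :=
  Lre_c IH (LK LD1_c6 LD2_c16 LD3_c24) (LK LD1_c12 LD2_c9 LD3_c61) Lrfl Lrfl
theorem f556332 : Led Lsl_ct (LP (LK LD1_c3 LD2_c33 LD3_c30)) = (LP (LK LD1_c4 LD2_c32 LD3_c30)) :=
  Lgr Lrot15 (Lpr_ef (f556328 IH) (Lpe (K31.f268858 IH) (Lpe (f268854 IH) (Lpn (LP (LK LD1_c4 LD2_c32 LD3_c30))))))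
theorem f96815 : Led Lsl_dt (LP (LK LD1_c1 LD2_c43 LD3_c28)) = (LP (LK LD1_c3 LD2_c33 LD3_c30)) :=
  Lre_d IH (LK LD1_c1 LD2_c43 LD3_c28) (LK LD1_c3 LD2_c33 LD3_c30) Lrfl Lrfl
theorem f425037 : Led Lsl_ft (LP (LK LD1_c12 LD2_c51 LD3_c31)) = (LP (LK LD1_c7 LD2_c34 LD3_c7)) :=
  Lgr Lrot4 (Lpe (K28.f103538 IH) (Lpr_ff (K28.f425033 IH) (Lpe (K28.f120260 IH) (Lpn (LP (LK LD1_c7 LD2_c34 LD3_c7))))))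
theorem f268790 : Led Lsl_et (LP (LK LD1_c5 LD2_c43 LD3_c6)) = (LP (LK LD1_c11 LD2_c16 LD3_c29)) :=
  Lre_e IH (LK LD1_c5 LD2_c43 LD3_c6) (LK LD1_c11 LD2_c16 LD3_c29) Lrfl Lrfl
theorem f268762 : Led Lsl_af (LP (LK LD1_c5 LD2_c43 LD3_c6)) = (LP (LK LD1_c9 LD2_c2 LD3_c56)) :=
  Lgr Lrot0 (Lpr_at (K16.f268751 IH) (Lpn (LP (LK LD1_c9 LD2_c2 LD3_c56))))
theorem f396290 : Led Lsl_et (LP (LK LD1_c11 LD2_c28 LD3_c11)) = (LP (LK LD1_c9 LD2_c2 LD3_c56)) :=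
  Lgr Lrot123 (Lpr_af (K32.f396283 IH) (Lpe (f268790 IH) (Lpr_af (f268762 IH) (Lpn (LP (LK LD1_c9 LD2_c2 LD3_c56))))))
theorem f175524 : Led Lsl_et (LP (LK LD1_c4 LD2_c32 LD3_c45)) = (LP (LK LD1_c2 LD2_c13 LD3_c22)) :=
  Lre_e IH (LK LD1_c4 LD2_c32 LD3_c45) (LK LD1_c2 LD2_c13 LD3_c22) Lrfl Lrfl
theorem f396300 : Led Lsl_ff (LP (LK LD1_c2 LD2_c50 LD3_c60)) = (LP (LK LD1_c2 LD2_c13 LD3_c22)) :=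
  Lgr Lrot72 (Lpr_et (K24.f396260 IH) (Lpr_ft (K32.f396299 IH) (Lpr_et (f396290 IH) (Lpr_ft (K16.f268750 IH) (Lpr_et (f175524 IH) (Lpn (LP (LK LD1_c2 LD2_c13 LD3_c22))))))))
theorem f396255 : Led Lsl_bt (LP (LK LD1_c2 LD2_c50 LD3_c60)) = (LP (LK LD1_c5 LD2_c49 LD3_c44)) :=
  Lre_b IH (LK LD1_c2 LD2_c50 LD3_c60) (LK LD1_c5 LD2_c49 LD3_c44) Lrfl Lrfl
theorem f396302 : Led Lsl_ft (LP (LK LD1_c5 LD2_c49 LD3_c44)) = (LP (LK LD1_c4 LD2_c32 LD3_c41)) :=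
  Lgr Lrot75 (Lpe (f396255 IH) (Lpr_ff (f396300 IH) (Lpe (K37.f175522 IH) (Lpn (LP (LK LD1_c4 LD2_c32 LD3_c41))))))
theorem f210469 : Led Lsl_ct (LP (LK LD1_c11 LD2_c28 LD3_c9)) = (LP (LK LD1_c5 LD2_c49 LD3_c44)) :=
  Lre_c IH (LK LD1_c11 LD2_c28 LD3_c9) (LK LD1_c5 LD2_c49 LD3_c44) Lrfl Lrfl
theorem f396308 : Led Lsl_ff (LP (LK LD1_c11 LD2_c28 LD3_c9)) = (LP (LK LD1_c9 LD2_c2 LD3_c51)) :=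
  Lgr Lrot23 (Lpr_ct (f210469 IH) (Lpr_ft (f396302 IH) (Lpr_ct (K37.f175523 IH) (Lpn (LP (LK LD1_c9 LD2_c2 LD3_c51))))))
theorem f543892 : Led Lsl_df (LP (LK LD1_c12 LD2_c51 LD3_c31)) = (LP (LK LD1_c11 LD2_c28 LD3_c9)) :=
  Lgr Lrot78 (Lpr_ft (f425037 IH) (Lpr_dt (K37.f543888 IH) (Lpe (f396308 IH) (Lpn (LP (LK LD1_c11 LD2_c28 LD3_c9))))))
theorem f396270 : Led Lsl_ct (LP (LK LD1_c5 LD2_c49 LD3_c44)) = (LP (LK LD1_c11 LD2_c28 LD3_c9)) :=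
  Lre_c IH (LK LD1_c5 LD2_c49 LD3_c44) (LK LD1_c11 LD2_c28 LD3_c9) Lrfl Lrfl
theorem f181399 : Led Lsl_dt (LP (LK LD1_c4 LD2_c32 LD3_c41)) = (LP (LK LD1_c2 LD2_c13 LD3_c20)) :=
  Lre_d IH (LK LD1_c4 LD2_c32 LD3_c41) (LK LD1_c2 LD2_c13 LD3_c20) Lrfl Lrfl
theorem f269103 : Led Lsl_ft (LP (LK LD1_c2 LD2_c13 LD3_c20)) = (LP (LK LD1_c4 LD2_c32 LD3_c42)) :=
  Lre_f IH (LK LD1_c2 LD2_c13 LD3_c20) (LK LD1_c4 LD2_c32 LD3_c42) Lrfl Lrfl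
theorem f396310 : Led Lsl_df (LP (LK LD1_c5 LD2_c49 LD3_c44)) = (LP (LK LD1_c4 LD2_c32 LD3_c42)) :=
  Lgr Lrot78 (Lpr_ft (f396302 IH) (Lpr_dt (f181399 IH) (Lpr_ft (f269103 IH) (Lpn (LP (LK LD1_c4 LD2_c32 LD3_c42))))))
theorem f160384 : Led Lsl_dt (LP (LK LD1_c3 LD2_c36 LD3_c56)) = (LP (LK LD1_c7 LD2_c14 LD3_c5)) :=
  Lre_d IH (LK LD1_c3 LD2_c36 LD3_c56) (LK LD1_c7 LD2_c14 LD3_c5) Lrfl Lrfl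
theorem f556404 : Led Lsl_dt (LP (LK LD1_c12 LD2_c9 LD3_c61)) = (LP (LK LD1_c12 LD2_c51 LD3_c34)) :=
  Lgr Lrot173 (Lpe (f556403 IH) (Lpr_df (f556397 IH) (Lpe (f556332 IH) (Lpe (f96815 IH) (Lpe (K3.f10793 IH) (Lpr_df (K28.f158525 IH) (Lpe (K28.f120292 IH) (Lpr_df (f543892 IH) (Lpe (f396270 IH) (Lpr_df (f396310 IH) (Lpe (f551657 IH) (Lpe (f160384 IH) (Lpe (K8.f162825 IH) (Lpe (f120638 IH) (Lpe (K7.f120304 IH) (Lpn (LP (LK LD1_c12 LD2_c51 LD3_c34))))))))))))))))))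
theorem f551618 : Led Lsl_af (LP (LK LD1_c4 LD2_c32 LD3_c42)) = (LP (LK LD1_c7 LD2_c14 LD3_c8)) :=
  Lgr Lrot50 (Lpe (K16.f269093 IH) (Lpe (f551603 IH) (Lpr_et (f551616 IH) (Lpn (LP (LK LD1_c7 LD2_c14 LD3_c8))))))
theorem f556413 : Led Lsl_ff (LP (LK LD1_c7 LD2_c14 LD3_c8)) = (LP (LK LD1_c4 LD2_c32 LD3_c30)) :=
  Lgr Lrot103 (Lpe (f551618 IH) (Lpe (f551657 IH) (Lpe (f160384 IH) (Lpe (K8.f162825 IH) (Lpe (f120638 IH) (Lpe (K7.f120304 IH) (Lpe (f556404 IH) (Lpe (f556403 IH) (Lpr_df (f556397 IH) (Lpn (LP (LK LD1_c4 LD2_c32 LD3_c30))))))))))))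
theorem f541349 : Led Lsl_bt (LP (LK LD1_c2 LD2_c26 LD3_c9)) = (LP (LK LD1_c2 LD2_c18 LD3_c57)) :=
  Lgr Lrot127 (Lpr_bf (K36.f541347 IH) (Lpn (LP (LK LD1_c2 LD2_c18 LD3_c57))))
theorem f552043 : Led Lsl_ff (LP (LK LD1_c2 LD2_c26 LD3_c9)) = (LP (LK LD1_c3 LD2_c58 LD3_c54)) :=
  Lgr Lrot25 (Lpr_bt (f541349 IH) (Lpr_ft (K6.f132840 IH) (Lpr_bt (f552037 IH) (Lpn (LP (LK LD1_c3 LD2_c58 LD3_c54))))))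
theorem f552049 : Led Lsl_at (LP (LK LD1_c2 LD2_c26 LD3_c9)) = (LP (LK LD1_c3 LD2_c58 LD3_c53)) :=
  Lgr Lrot26 (Lpr_ff (f552043 IH) (Lpr_gt (K38.f175988 IH) (Lpr_gt (K38.f40796 IH) (Lpn (LP (LK LD1_c3 LD2_c58 LD3_c53))))))
theorem f552057 : Led Lsl_ef (LP (LK LD1_c2 LD2_c49 LD3_c54)) = (LP (LK LD1_c3 LD2_c58 LD3_c53)) :=
  Lgr Lrot20 (Lpe (K8.f138533 IH) (Lpe (K36.f541357 IH) (Lpr_at (f552049 IH) (Lpn (LP (LK LD1_c3 LD2_c58 LD3_c53))))))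
theorem f503113 : Led Lsl_gf (LP (LK LD1_c2 LD2_c49 LD3_c54)) = K35.v1821 :=
  Lgr Lrot76 (Lpe (K35.f138543 IH) (Lpe (K8.f132824 IH) (Lpr_gt (K35.f503111 IH) (Lpn K35.v1821))))
theorem f204444 : Led Lsl_bt (LP (LK LD1_c2 LD2_c18 LD3_c61)) = (LP (LK LD1_c1 LD2_c6 LD3_c34)) :=
  Lre_b IH (LK LD1_c2 LD2_c18 LD3_c61) (LK LD1_c1 LD2_c6 LD3_c34) Lrfl Lrfl
theorem f204445 : Led Lsl_et (LP (LK LD1_c1 LD2_c28 LD3_c43)) = (LP (LK LD1_c2 LD2_c18 LD3_c61)) :=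
  Lgr Lrot74 (Lpe (K38.f59055 IH) (Lpr_ef (K11.f204442 IH) (Lpe (f204444 IH) (Lpn (LP (LK LD1_c2 LD2_c18 LD3_c61))))))
theorem f202273 : Led Lsl_gt (LP (LK LD1_c6 LD2_c16 LD3_c18)) = (LP (LK LD1_c3 LD2_c5 LD3_c26)) :=
  Lre_g IH (LK LD1_c6 LD2_c16 LD3_c18) (LK LD1_c3 LD2_c5 LD3_c26) Lrfl Lrfl
theorem f192677 : Led Lsl_gt (LP (LK LD1_c4 LD2_c5 LD3_c39)) = (LP (LK LD1_c2 LD2_c0 LD3_c6)) :=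
  Lre_g IH (LK LD1_c4 LD2_c5 LD3_c39) (LK LD1_c2 LD2_c0 LD3_c6) Lrfl Lrfl
theorem f422806 : Led Lsl_et (LP (LK LD1_c8 LD2_c12 LD3_c5)) = (LP (LK LD1_c4 LD2_c5 LD3_c39)) :=
  Lre_e IH (LK LD1_c8 LD2_c12 LD3_c5) (LK LD1_c4 LD2_c5 LD3_c39) Lrfl Lrfl
theorem f202259 : Led Lsl_gt (LP (LK LD1_c3 LD2_c5 LD3_c14)) = (LP (LK LD1_c6 LD2_c16 LD3_c18)) :=
  Lre_g IH (LK LD1_c3 LD2_c5 LD3_c14) (LK LD1_c6 LD2_c16 LD3_c18) Lrfl Lrfl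
theorem f538266 : Led Lsl_dt (LP (LK LD1_c8 LD2_c12 LD3_c5)) = (LP (LK LD1_c6 LD2_c16 LD3_c18)) :=
  Lgr Lrot56 (Lpr_et (f422806 IH) (Lpr_gt (f192677 IH) (Lpe (K36.f175324 IH) (Lpr_dt (K35.f175361 IH) (Lpr_gt (K35.f175374 IH) (Lpr_df (K35.f538260 IH) (Lpr_et (K35.f202232 IH) (Lpr_gt (K35.f202231 IH) (Lpr_dt (K11.f202251 IH) (Lpr_gt (f202259 IH) (Lpn (LP (LK LD1_c6 LD2_c16 LD3_c18)))))))))))))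
theorem f172155 : Led Lsl_bt (LP (LK LD1_c2 LD2_c46 LD3_c24)) = (LP (LK LD1_c5 LD2_c40 LD3_c54)) :=
  Lre_b IH (LK LD1_c2 LD2_c46 LD3_c24) (LK LD1_c5 LD2_c40 LD3_c54) Lrfl Lrfl
theorem f172156 : Led Lsl_df (LP (LK LD1_c3 LD2_c4 LD3_c50)) = (LP (LK LD1_c5 LD2_c40 LD3_c54)) :=
  Lgr Lrot12 (Lpr_bt (K2.f60435 IH) (Lpr_dt (K9.f172153 IH) (Lpr_bt (f172155 IH) (Lpn (LP (LK LD1_c5 LD2_c40 LD3_c54))))))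
theorem f549809 : Led Lsl_dt (LP (LK LD1_c3 LD2_c58 LD3_c53)) = (LP (LK LD1_c2 LD2_c46 LD3_c55)) :=
  Lgr Lrot6 (Lpr_gt (K38.f385260 IH) (Lpr_ct (K30.f172651 IH) (Lpr_gt (K38.f549805 IH) (Lpr_ct (K38.f60436 IH) (Lpr_df (f172156 IH) (Lpe (K38.f542230 IH) (Lpr_gf (K37.f411904 IH) (Lpe (K16.f268835 IH) (Lpe (K31.f411916 IH) (Lpn (LP (LK LD1_c2 LD2_c46 LD3_c55))))))))))))
theorem f552063 : Led Lsl_gf (LP (LK LD1_c8 LD2_c12 LD3_c5)) = (LP (LK LD1_c4 LD2_c32 LD3_c30)) :=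
  Lgr Lrot138 (Lpr_dt (f538266 IH) (Lpr_gt (f202273 IH) (Lpe (K37.f202277 IH) (Lpr_et (f204445 IH) (Lpq (K35.f538159 IH) (Lpe (f503113 IH) (Lpr_ef (f552057 IH) (Lpr_dt (f549809 IH) (Lpr_gt (K31.f411916 IH) (Lpe (K16.f268875 IH) (Lpr_et (f268868 IH) (Lpn (LP (LK LD1_c4 LD2_c32 LD3_c30))))))))))))))
theorem f556416 : Led Lsl_gf (LP (LK LD1_c4 LD2_c32 LD3_c42)) = (LP (LK LD1_c8 LD2_c12 LD3_c5)) :=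
  Lgr Lrot76 (Lpr_af (f551618 IH) (Lpr_ff (f556413 IH) (Lpe (f552063 IH) (Lpn (LP (LK LD1_c8 LD2_c12 LD3_c5))))))
theorem f269106 : Led Lsl_cf (LP (LK LD1_c1 LD2_c31 LD3_c26)) = (LP (LK LD1_c2 LD2_c13 LD3_c23)) :=
  Lgr Lrot39 (Lpr_et (K16.f268623 IH) (Lpr_ct (K10.f175490 IH) (Lpr_et (K16.f269097 IH) (Lpn (LP (LK LD1_c2 LD2_c13 LD3_c23))))))
theorem f556424 : Led Lsl_bt (LP (LK LD1_c4 LD2_c32 LD3_c40)) = (LP (LK LD1_c8 LD2_c12 LD3_c5)) :=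
  Lgr Lrot22 (Lpr_ct (K37.f543942 IH) (Lpe (K37.f93629 IH) (Lpe (K37.f546856 IH) (Lpe (K37.f61378 IH) (Lpe (K16.f61372 IH) (Lpr_ct (f210594 IH) (Lpr_gf (K16.f269112 IH) (Lpr_cf (f269106 IH) (Lpr_bt (K16.f269096 IH) (Lpr_gf (f556416 IH) (Lpn (LP (LK LD1_c8 LD2_c12 LD3_c5)))))))))))))
theorem f556433 : Led Lsl_bf (LP (LK LD1_c2 LD2_c53 LD3_c20)) = (LP (LK LD1_c4 LD2_c5 LD3_c39)) :=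
  Lgr Lrot96 (Lpr_et (K37.f543914 IH) (Lpr_bt (f556424 IH) (Lpr_et (f422806 IH) (Lpn (LP (LK LD1_c4 LD2_c5 LD3_c39))))))
theorem f71236 : Led Lsl_gt (LP (LK LD1_c2 LD2_c53 LD3_c20)) = (LP (LK LD1_c1 LD2_c22 LD3_c57)) :=
  Lre_g IH (LK LD1_c2 LD2_c53 LD3_c20) (LK LD1_c1 LD2_c22 LD3_c57) Lrfl Lrfl
theorem f308076 : Led Lsl_et (LP (LK LD1_c5 LD2_c14 LD3_c13)) = (LP (LK LD1_c2 LD2_c33 LD3_c59)) :=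
  Lre_e IH (LK LD1_c5 LD2_c14 LD3_c13) (LK LD1_c2 LD2_c33 LD3_c59) Lrfl Lrfl
theorem f308434 : Led Lsl_bt (LP (LK LD1_c5 LD2_c7 LD3_c17)) = (LP (LK LD1_c5 LD2_c14 LD3_c13)) :=
  Lgr Lrot119 (Lpe (K36.f308433 IH) (Lpr_bf (K36.f308426 IH) (Lpe (f308076 IH) (Lpn (LP (LK LD1_c5 LD2_c14 LD3_c13))))))
def v1915 : LQ := Led Lsl_dt (LP (LK LD1_c1 LD2_c31 LD3_c25))
theorem f506371 : Led Lsl_dt (LP (LK LD1_c1 LD2_c31 LD3_c25)) = v1915 :=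
  Lrfl
theorem f537690 : (LP (LK LD1_c2 LD2_c52 LD3_c23)) = v1915 :=
  Lefun (Lecon (Lfl_df (K36.f499981 IH)) (K36.f537287 IH)) (f506371 IH)
theorem f150235 : Led Lsl_et (LP (LK LD1_c1 LD2_c56 LD3_c22)) = (LP (LK LD1_c3 LD2_c59 LD3_c18)) :=
  Lre_e IH (LK LD1_c1 LD2_c56 LD3_c22) (LK LD1_c3 LD2_c59 LD3_c18) Lrfl Lrfl
theorem f68560 : Led Lsl_et (LP (LK LD1_c1 LD2_c12 LD3_c27)) = (LP (LK LD1_c2 LD2_c30 LD3_c53)) :=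
  Lre_e IH (LK LD1_c1 LD2_c12 LD3_c27) (LK LD1_c2 LD2_c30 LD3_c53) Lrfl Lrfl
theorem f68565 : Led Lsl_dt (LP (LK LD1_c1 LD2_c12 LD3_c27)) = (LP (LK LD1_c2 LD2_c30 LD3_c52)) :=
  Lre_d IH (LK LD1_c1 LD2_c12 LD3_c27) (LK LD1_c2 LD2_c30 LD3_c52) Lrfl Lrfl
theorem f165668 : Led Lsl_gt (LP (LK LD1_c2 LD2_c30 LD3_c52)) = (LP (LK LD1_c5 LD2_c7 LD3_c3)) :=
  Lre_g IH (LK LD1_c2 LD2_c30 LD3_c52) (LK LD1_c5 LD2_c7 LD3_c3) Lrfl Lrfl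
theorem f55986 : Led Lsl_ct (LP (LK LD1_c2 LD2_c0 LD3_c58)) = (LP (LK LD1_c4 LD2_c7 LD3_c9)) :=
  Lre_c IH (LK LD1_c2 LD2_c0 LD3_c58) (LK LD1_c4 LD2_c7 LD3_c9) Lrfl Lrfl
theorem f427532 : Led Lsl_ef (LP (LK LD1_c5 LD2_c37 LD3_c27)) = (LP (LK LD1_c4 LD2_c7 LD3_c9)) :=
  Lgr Lrot28 (Lpr_ct (K35.f210373 IH) (Lpr_et (K36.f427526 IH) (Lpr_ct (f55986 IH) (Lpn (LP (LK LD1_c4 LD2_c7 LD3_c9))))))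
theorem f541678 : Led Lsl_df (LP (LK LD1_c5 LD2_c7 LD3_c3)) = (LP (LK LD1_c4 LD2_c7 LD3_c9)) :=
  Lgr Lrot168 (Lpe (f165668 IH) (Lpe (f68565 IH) (Lpr_et (f68560 IH) (Lpr_gf (K35.f541669 IH) (Lpe (K35.f541668 IH) (Lpr_dt (K35.f172451 IH) (Lpe (K35.f541663 IH) (Lpe (K2.f72853 IH) (Lpr_gf (K36.f541559 IH) (Lpr_ef (f427532 IH) (Lpn (LP (LK LD1_c4 LD2_c7 LD3_c9)))))))))))))
theorem f387077 : Led Lsl_dt (LP (LK LD1_c4 LD2_c58 LD3_c47)) = (LP (LK LD1_c2 LD2_c27 LD3_c13)) :=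
  Lre_d IH (LK LD1_c4 LD2_c58 LD3_c47) (LK LD1_c2 LD2_c27 LD3_c13) Lrfl Lrfl
theorem f308071 : Led Lsl_dt (LP (LK LD1_c2 LD2_c33 LD3_c59)) = (LP (LK LD1_c5 LD2_c14 LD3_c12)) :=
  Lre_d IH (LK LD1_c2 LD2_c33 LD3_c59) (LK LD1_c5 LD2_c14 LD3_c12) Lrfl Lrfl
theorem f387149 : Led Lsl_ff (LP (LK LD1_c4 LD2_c58 LD3_c47)) = (LP (LK LD1_c5 LD2_c14 LD3_c12)) :=
  Lgr Lrot19 (Lpr_dt (f387077 IH) (Lpr_ft (K32.f387143 IH) (Lpr_dt (f308071 IH) (Lpn (LP (LK LD1_c5 LD2_c14 LD3_c12))))))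
theorem f387070 : Led Lsl_dt (LP (LK LD1_c2 LD2_c27 LD3_c13)) = (LP (LK LD1_c4 LD2_c58 LD3_c47)) :=
  Lre_d IH (LK LD1_c2 LD2_c27 LD3_c13) (LK LD1_c4 LD2_c58 LD3_c47) Lrfl Lrfl
theorem f68561 : Led Lsl_dt (LP (LK LD1_c2 LD2_c30 LD3_c52)) = (LP (LK LD1_c1 LD2_c12 LD3_c27)) :=
  Lre_d IH (LK LD1_c2 LD2_c30 LD3_c52) (LK LD1_c1 LD2_c12 LD3_c27) Lrfl Lrfl
theorem f387141 : Led Lsl_at (LP (LK LD1_c4 LD2_c58 LD3_c47)) = (LP (LK LD1_c2 LD2_c30 LD3_c52)) :=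
  Lgr Lrot51 (Lpe (f387070 IH) (Lpr_af (K28.f387089 IH) (Lpe (f68561 IH) (Lpn (LP (LK LD1_c2 LD2_c30 LD3_c52))))))
theorem f308444 : Led Lsl_at (LP (LK LD1_c2 LD2_c33 LD3_c60)) = (LP (LK LD1_c5 LD2_c14 LD3_c12)) :=
  Lre_a IH (LK LD1_c2 LD2_c33 LD3_c60) (LK LD1_c5 LD2_c14 LD3_c12) Lrfl Lrfl
theorem f387285 : Led Lsl_ft (LP (LK LD1_c2 LD2_c30 LD3_c52)) = (LP (LK LD1_c2 LD2_c33 LD3_c60)) :=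
  Lgr Lrot101 (Lpe (f387141 IH) (Lpr_ff (f387149 IH) (Lpe (f308444 IH) (Lpn (LP (LK LD1_c2 LD2_c33 LD3_c60))))))
theorem f387292 : Led Lsl_gt (LP (LK LD1_c5 LD2_c7 LD3_c3)) = (LP (LK LD1_c5 LD2_c14 LD3_c12)) :=
  Lgr Lrot46 (Lpe (f165668 IH) (Lpr_ft (f387285 IH) (Lpr_at (f308444 IH) (Lpn (LP (LK LD1_c5 LD2_c14 LD3_c12))))))
theorem f308072 : Led Lsl_et (LP (LK LD1_c2 LD2_c33 LD3_c59)) = (LP (LK LD1_c5 LD2_c14 LD3_c13)) :=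
  Lre_e IH (LK LD1_c2 LD2_c33 LD3_c59) (LK LD1_c5 LD2_c14 LD3_c13) Lrfl Lrfl
theorem f542646 : Led Lsl_gf (LP (LK LD1_c3 LD2_c59 LD3_c18)) = (LP (LK LD1_c5 LD2_c14 LD3_c13)) :=
  Lgr Lrot141 (Lpe (f150235 IH) (Lpr_dt (K8.f139389 IH) (Lpr_gt (K7.f150227 IH) (Lpqs (f537690 IH) (Lpe (f506371 IH) (Lpr_et (K11.f205121 IH) (Lpr_gt (K36.f542640 IH) (Lpe (f541678 IH) (Lpr_gt (f387292 IH) (Lpe (f308071 IH) (Lpr_et (f308072 IH) (Lpn (LP (LK LD1_c5 LD2_c14 LD3_c13))))))))))))))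
theorem f161199 : Led Lsl_ct (LP (LK LD1_c1 LD2_c56 LD3_c25)) = (LP (LK LD1_c3 LD2_c59 LD3_c23)) :=
  Lre_c IH (LK LD1_c1 LD2_c56 LD3_c25) (LK LD1_c3 LD2_c59 LD3_c23) Lrfl Lrfl
theorem f161196 : Led Lsl_gt (LP (LK LD1_c3 LD2_c59 LD3_c23)) = (LP (LK LD1_c7 LD2_c59 LD3_c59)) :=
  Lre_g IH (LK LD1_c3 LD2_c59 LD3_c23) (LK LD1_c7 LD2_c59 LD3_c59) Lrfl Lrfl
theorem f556437 : Led Lsl_cf (LP (LK LD1_c7 LD2_c59 LD3_c59)) = (LP (LK LD1_c4 LD2_c5 LD3_c39)) :=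
  Lgr Lrot58 (Lpe (f161196 IH) (Lpe (f161199 IH) (Lpr_bt (K32.f161190 IH) (Lpr_gf (f542646 IH) (Lpe (f308434 IH) (Lpe (K38.f539750 IH) (Lpe (K37.f185755 IH) (Lpe (K36.f71228 IH) (Lpe (f71236 IH) (Lpr_bf (f556433 IH) (Lpn (LP (LK LD1_c4 LD2_c5 LD3_c39)))))))))))))
theorem f421267 : Led Lsl_at (LP (LK LD1_c5 LD2_c13 LD3_c56)) = (LP (LK LD1_c3 LD2_c59 LD3_c23)) :=
  Lgr Lrot107 (Lpe (K32.f308592 IH) (Lpr_af (K32.f421260 IH) (Lpe (K35.f161189 IH) (Lpn (LP (LK LD1_c3 LD2_c59 LD3_c23))))))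
theorem f427941 : Led Lsl_af (LP (LK LD1_c5 LD2_c7 LD3_c13)) = (LP (LK LD1_c5 LD2_c13 LD3_c53)) :=
  Lgr Lrot45 (Lpr_ft (K36.f427939 IH) (Lpr_at (f421267 IH) (Lpe (K35.f421209 IH) (Lpn (LP (LK LD1_c5 LD2_c13 LD3_c53))))))
theorem f428047 : Led Lsl_gf (LP (LK LD1_c5 LD2_c7 LD3_c13)) = (LP (LK LD1_c7 LD2_c59 LD3_c59)) :=
  Lgr Lrot76 (Lpr_af (f427941 IH) (Lpr_ff (K35.f421209 IH) (Lpr_gt (f161196 IH) (Lpn (LP (LK LD1_c7 LD2_c59 LD3_c59))))))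
theorem f308554 : Led Lsl_dt (LP (LK LD1_c5 LD2_c7 LD3_c13)) = (LP (LK LD1_c10 LD2_c5 LD3_c0)) :=
  Lre_d IH (LK LD1_c5 LD2_c7 LD3_c13) (LK LD1_c10 LD2_c5 LD3_c0) Lrfl Lrfl
theorem f132773 : Led Lsl_dt (LP (LK LD1_c9 LD2_c19 LD3_c45)) = (LP (LK LD1_c4 LD2_c42 LD3_c49)) :=
  Lre_d IH (LK LD1_c9 LD2_c19 LD3_c45) (LK LD1_c4 LD2_c42 LD3_c49) Lrfl Lrfl
theorem f556445 : Led Lsl_gt (LP (LK LD1_c10 LD2_c5 LD3_c0)) = (LP (LK LD1_c9 LD2_c19 LD3_c45)) :=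
  Lgr Lrot49 (Lpe (f308554 IH) (Lpr_gf (f428047 IH) (Lpr_cf (f556437 IH) (Lpr_gt (f192677 IH) (Lpr_dt (K38.f175382 IH) (Lpe (K38.f538270 IH) (Lpr_dt (K8.f132626 IH) (Lpe (K6.f132618 IH) (Lpe (f132773 IH) (Lpn (LP (LK LD1_c9 LD2_c19 LD3_c45))))))))))))
theorem f308595 : Led Lsl_dt (LP (LK LD1_c10 LD2_c17 LD3_c57)) = (LP (LK LD1_c5 LD2_c13 LD3_c56)) :=
  Lre_d IH (LK LD1_c10 LD2_c17 LD3_c57) (LK LD1_c5 LD2_c13 LD3_c56) Lrfl Lrfl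
theorem f427935 : Led Lsl_ft (LP (LK LD1_c10 LD2_c5 LD3_c0)) = (LP (LK LD1_c10 LD2_c17 LD3_c57)) :=
  Lgr Lrot54 (Lpe (f308554 IH) (Lpr_ff (K36.f427929 IH) (Lpe (f308595 IH) (Lpn (LP (LK LD1_c10 LD2_c17 LD3_c57))))))
theorem f556449 : Led Lsl_gf (LP (LK LD1_c7 LD2_c59 LD3_c61)) = (LP (LK LD1_c9 LD2_c19 LD3_c45)) :=
  Lgr Lrot76 (Lpe (f421385 IH) (Lpe (f427935 IH) (Lpr_gt (f556445 IH) (Lpn (LP (LK LD1_c9 LD2_c19 LD3_c45))))))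
theorem f101696 : Led Lsl_et (LP (LK LD1_c1 LD2_c56 LD3_c25)) = (LP (LK LD1_c0 LD2_c54 LD3_c61)) :=
  Lre_e IH (LK LD1_c1 LD2_c56 LD3_c25) (LK LD1_c0 LD2_c54 LD3_c61) Lrfl Lrfl
theorem f101697 : Led Lsl_dt (LP (LK LD1_c1 LD2_c56 LD3_c25)) = (LP (LK LD1_c3 LD2_c59 LD3_c26)) :=
  Lre_d IH (LK LD1_c1 LD2_c56 LD3_c25) (LK LD1_c3 LD2_c59 LD3_c26) Lrfl Lrfl
theorem f539776 : Led Lsl_gf (LP (LK LD1_c3 LD2_c59 LD3_c26)) = (LP (LK LD1_c2 LD2_c31 LD3_c19)) :=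
  Lgr Lrot145 (Lpe (f101697 IH) (Lpr_et (f101696 IH) (Lpr_gt (K7.f101688 IH) (Lpe (K7.f100445 IH) (Lpe (K8.f40679 IH) (Lpr_df (K8.f157809 IH) (Lpr_et (K36.f157812 IH) (Lpqs (K36.f539757 IH) (Lpe (K32.f496261 IH) (Lpr_ef (f496270 IH) (Lpq (K36.f537605 IH) (Lpr_dt (K36.f177204 IH) (Lpn (LP (LK LD1_c2 LD2_c31 LD3_c19)))))))))))))))
theorem f556453 : Led Lsl_gt (LP (LK LD1_c8 LD2_c5 LD3_c4)) = (LP (LK LD1_c4 LD2_c42 LD3_c49)) :=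
  Lgr Lrot94 (Lpe (f552284 IH) (Lpr_gt (f177297 IH) (Lpr_dt (K36.f177204 IH) (Lpe (f539776 IH) (Lpr_dt (K36.f421199 IH) (Lpe (K35.f161189 IH) (Lpe (f421213 IH) (Lpr_gf (f556449 IH) (Lpe (K6.f132621 IH) (Lpn (LP (LK LD1_c4 LD2_c42 LD3_c49))))))))))))
theorem f81096 : Led Lsl_ft (LP (LK LD1_c6 LD2_c16 LD3_c2)) = (LP (LK LD1_c3 LD2_c5 LD3_c6)) :=
  Lre_f IH (LK LD1_c6 LD2_c16 LD3_c2) (LK LD1_c3 LD2_c5 LD3_c6) Lrfl Lrfl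
theorem f556455 : Led Lsl_gf (LP (LK LD1_c8 LD2_c5 LD3_c4)) = (LP (LK LD1_c6 LD2_c16 LD3_c2)) :=
  Lgr Lrot47 (Lpr_gt (f556453 IH) (Lpe (K6.f132614 IH) (Lpe (f81096 IH) (Lpn (LP (LK LD1_c6 LD2_c16 LD3_c2))))))
theorem f496269 : Led Lsl_cf (LP (LK LD1_c3 LD2_c4 LD3_c11)) = K36.v1561 :=
  Lgr Lrot39 (Lpr_et (K38.f205771 IH) (Lpe (K11.f158473 IH) (Lpr_et (K36.f496267 IH) (Lpn K36.v1561))))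
theorem f496274 : Led Lsl_ct (LP (LK LD1_c12 LD2_c7 LD3_c26)) = (LP (LK LD1_c6 LD2_c14 LD3_c36)) :=
  Lre_c IH (LK LD1_c12 LD2_c7 LD3_c26) (LK LD1_c6 LD2_c14 LD3_c36) Lrfl Lrfl
theorem f132774 : Led Lsl_dt (LP (LK LD1_c12 LD2_c9 LD3_c42)) = (LP (LK LD1_c6 LD2_c16 LD3_c2)) :=
  Lre_d IH (LK LD1_c12 LD2_c9 LD3_c42) (LK LD1_c6 LD2_c16 LD3_c2) Lrfl Lrfl
theorem f132627 : Led Lsl_at (LP (LK LD1_c6 LD2_c16 LD3_c1)) = (LP (LK LD1_c9 LD2_c19 LD3_c45)) :=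
  Lgr Lrot100 (Lpr_af (K6.f132622 IH) (Lpn (LP (LK LD1_c9 LD2_c19 LD3_c45))))
theorem f81018 : Led Lsl_ft (LP (LK LD1_c12 LD2_c9 LD3_c42)) = (LP (LK LD1_c6 LD2_c16 LD3_c1)) :=
  Lre_f IH (LK LD1_c12 LD2_c9 LD3_c42) (LK LD1_c6 LD2_c16 LD3_c1) Lrfl Lrfl
theorem f556447 : Led Lsl_gf (LP (LK LD1_c10 LD2_c5 LD3_c0)) = (LP (LK LD1_c12 LD2_c9 LD3_c42)) :=
  Lgr Lrot47 (Lpr_gt (f556445 IH) (Lpe (f132627 IH) (Lpe (f81018 IH) (Lpn (LP (LK LD1_c12 LD2_c9 LD3_c42))))))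
theorem f556458 : Led Lsl_gf (LP (LK LD1_c12 LD2_c7 LD3_c26)) = (LP (LK LD1_c18 LD2_c23 LD3_c39)) :=
  Lgr Lrot104 (Lpr_ct (f496274 IH) (Lpe (K38.f205772 IH) (Lpr_cf (f496269 IH) (Lpq (K36.f537605 IH) (Lpe (f177297 IH) (Lpr_cf (f552279 IH) (Lpr_gf (f556455 IH) (Lpe (f132774 IH) (Lpe (f556447 IH) (Lpr_ct (f427951 IH) (Lpn (LP (LK LD1_c18 LD2_c23 LD3_c39)))))))))))))
theorem f496275 : Led Lsl_ct (LP (LK LD1_c6 LD2_c14 LD3_c36)) = (LP (LK LD1_c12 LD2_c7 LD3_c26)) :=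
  Lre_c IH (LK LD1_c6 LD2_c14 LD3_c36) (LK LD1_c12 LD2_c7 LD3_c26) Lrfl Lrfl
theorem f541231 : Led Lsl_bt (LP (LK LD1_c6 LD2_c14 LD3_c36)) = (LP (LK LD1_c4 LD2_c20 LD3_c32)) :=
  Lgr Lrot127 (Lpr_bf (K36.f541227 IH) (Lpn (LP (LK LD1_c4 LD2_c20 LD3_c32))))
theorem f225012 : Led Lsl_bt (LP (LK LD1_c4 LD2_c20 LD3_c15)) = (LP (LK LD1_c8 LD2_c38 LD3_c23)) :=
  Lre_b IH (LK LD1_c4 LD2_c20 LD3_c15) (LK LD1_c8 LD2_c38 LD3_c23) Lrfl Lrfl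
theorem f445832 : Led Lsl_at (LP (LK LD1_c8 LD2_c5 LD3_c8)) = (LP (LK LD1_c4 LD2_c2 LD3_c19)) :=
  Lre_a IH (LK LD1_c8 LD2_c5 LD3_c8) (LK LD1_c4 LD2_c2 LD3_c19) Lrfl Lrfl
theorem f81428 : Led Lsl_gt (LP (LK LD1_c8 LD2_c5 LD3_c10)) = (LP (LK LD1_c4 LD2_c2 LD3_c19)) :=
  Lre_g IH (LK LD1_c8 LD2_c5 LD3_c10) (LK LD1_c4 LD2_c2 LD3_c19) Lrfl Lrfl
theorem f554365 : Led Lsl_gf (LP (LK LD1_c8 LD2_c5 LD3_c10)) = (LP (LK LD1_c8 LD2_c38 LD3_c23)) :=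
  Lgr Lrot47 (Lpr_gt (f81428 IH) (Lpe (f445832 IH) (Lpr_ff (f554357 IH) (Lpn (LP (LK LD1_c8 LD2_c38 LD3_c23))))))
theorem f556462 : Led Lsl_bf (LP (LK LD1_c8 LD2_c5 LD3_c10)) = (LP (LK LD1_c10 LD2_c5 LD3_c0)) :=
  Lgr Lrot34 (Lpr_gf (f554365 IH) (Lpe (f225012 IH) (Lpr_ct (f240727 IH) (Lpr_gf (K13.f191287 IH) (Lpe (K13.f36958 IH) (Lpe (K12.f204947 IH) (Lpe (f541231 IH) (Lpr_ct (f496275 IH) (Lpr_gf (f556458 IH) (Lpe (f427951 IH) (Lpn (LP (LK LD1_c10 LD2_c5 LD3_c0)))))))))))))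
theorem f421300 : Led Lsl_bf (LP (LK LD1_c10 LD2_c17 LD3_c57)) = (LP (LK LD1_c8 LD2_c2 LD3_c16)) :=
  Lgr Lrot24 (Lpr_bt (f421298 IH) (Lpn (LP (LK LD1_c8 LD2_c2 LD3_c16))))
theorem f556471 : Led Lsl_ft (LP (LK LD1_c8 LD2_c5 LD3_c10)) = (LP (LK LD1_c8 LD2_c2 LD3_c16)) :=
  Lgr Lrot75 (Lpr_bf (f556462 IH) (Lpr_ff (f427945 IH) (Lpr_bf (f421300 IH) (Lpn (LP (LK LD1_c8 LD2_c2 LD3_c16))))))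
theorem f34043 : Led Lsl_gt (LP (LK LD1_c4 LD2_c2 LD3_c19)) = (LP (LK LD1_c8 LD2_c5 LD3_c9)) :=
  Lre_g IH (LK LD1_c4 LD2_c2 LD3_c19) (LK LD1_c8 LD2_c5 LD3_c9) Lrfl Lrfl
theorem f556479 : Led Lsl_af (LP (LK LD1_c8 LD2_c5 LD3_c9)) = (LP (LK LD1_c8 LD2_c2 LD3_c16)) :=
  Lgr Lrot31 (Lpe (f34043 IH) (Lpe (f81428 IH) (Lpr_ft (f556471 IH) (Lpn (LP (LK LD1_c8 LD2_c2 LD3_c16))))))
theorem f556490 : Led Lsl_et (LP (LK LD1_c8 LD2_c5 LD3_c9)) = (LP (LK LD1_c15 LD2_c13 LD3_c31)) :=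
  Lre_e IH (LK LD1_c8 LD2_c5 LD3_c9) (LK LD1_c15 LD2_c13 LD3_c31) Lrfl Lrfl
theorem f421316 : Led Lsl_et (LP (LK LD1_c15 LD2_c7 LD3_c56)) = (LP (LK LD1_c8 LD2_c2 LD3_c16)) :=
  Lre_e IH (LK LD1_c15 LD2_c7 LD3_c56) (LK LD1_c8 LD2_c2 LD3_c16) Lrfl Lrfl
theorem f556491 : Led Lsl_at (LP (LK LD1_c15 LD2_c13 LD3_c31)) = (LP (LK LD1_c15 LD2_c7 LD3_c56)) :=
  Lgr Lrot80 (Lpe (f556490 IH) (Lpr_af (f556479 IH) (Lpe (f421316 IH) (Lpn (LP (LK LD1_c15 LD2_c7 LD3_c56))))))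
theorem f158655 : Led Lsl_dt (LP (LK LD1_c15 LD2_c7 LD3_c56)) = (LP (LK LD1_c8 LD2_c2 LD3_c14)) :=
  Lre_d IH (LK LD1_c15 LD2_c7 LD3_c56) (LK LD1_c8 LD2_c2 LD3_c14) Lrfl Lrfl
theorem f158603 : Led Lsl_et (LP (LK LD1_c6 LD2_c14 LD3_c10)) = (LP (LK LD1_c12 LD2_c6 LD3_c49)) :=
  Lre_e IH (LK LD1_c6 LD2_c14 LD3_c10) (LK LD1_c12 LD2_c6 LD3_c49) Lrfl Lrfl
theorem f69429 : Led Lsl_et (LP (LK LD1_c8 LD2_c2 LD3_c14)) = (LP (LK LD1_c4 LD2_c0 LD3_c42)) :=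
  Lre_e IH (LK LD1_c8 LD2_c2 LD3_c14) (LK LD1_c4 LD2_c0 LD3_c42) Lrfl Lrfl
theorem f158651 : Led Lsl_at (LP (LK LD1_c12 LD2_c6 LD3_c49)) = (LP (LK LD1_c8 LD2_c2 LD3_c14)) :=
  Lgr Lrot80 (Lpe (f158603 IH) (Lpr_af (K8.f158646 IH) (Lpe (f69429 IH) (Lpn (LP (LK LD1_c8 LD2_c2 LD3_c14))))))
theorem f158653 : Led Lsl_af (LP (LK LD1_c12 LD2_c6 LD3_c49)) = (LP (LK LD1_c8 LD2_c2 LD3_c14)) :=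
  Lgr Lrot0 (Lpr_at (f158651 IH) (Lpn (LP (LK LD1_c8 LD2_c2 LD3_c14))))
theorem f556500 : Led Lsl_df (LP (LK LD1_c15 LD2_c13 LD3_c31)) = (LP (LK LD1_c12 LD2_c6 LD3_c49)) :=
  Lgr Lrot18 (Lpr_at (f556491 IH) (Lpr_dt (f158655 IH) (Lpe (f158653 IH) (Lpn (LP (LK LD1_c12 LD2_c6 LD3_c49))))))
theorem f556506 : Led Lsl_dt (LP (LK LD1_c15 LD2_c13 LD3_c31)) = (LP (LK LD1_c12 LD2_c6 LD3_c49)) :=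
  Lgr Lrot42 (Lpr_df (f556500 IH) (Lpn (LP (LK LD1_c12 LD2_c6 LD3_c49))))
theorem f81502 : Led Lsl_et (LP (LK LD1_c12 LD2_c6 LD3_c49)) = (LP (LK LD1_c6 LD2_c14 LD3_c10)) :=
  Lre_e IH (LK LD1_c12 LD2_c6 LD3_c49) (LK LD1_c6 LD2_c14 LD3_c10) Lrfl Lrfl
theorem f556509 : Led Lsl_df (LP (LK LD1_c8 LD2_c5 LD3_c9)) = (LP (LK LD1_c8 LD2_c2 LD3_c10)) :=
  Lgr Lrot70 (Lpr_et (f556490 IH) (Lpr_dt (f556506 IH) (Lpr_et (f81502 IH) (Lpr_dt (K8.f158601 IH) (Lpr_et (K32.f158207 IH) (Lpn (LP (LK LD1_c8 LD2_c2 LD3_c10))))))))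
theorem f81408 : Led Lsl_dt (LP (LK LD1_c1 LD2_c58 LD3_c8)) = (LP (LK LD1_c4 LD2_c2 LD3_c19)) :=
  Lre_d IH (LK LD1_c1 LD2_c58 LD3_c8) (LK LD1_c4 LD2_c2 LD3_c19) Lrfl Lrfl
theorem f81413 : Led Lsl_et (LP (LK LD1_c8 LD2_c5 LD3_c7)) = (LP (LK LD1_c4 LD2_c2 LD3_c17)) :=
  Lre_e IH (LK LD1_c8 LD2_c5 LD3_c7) (LK LD1_c4 LD2_c2 LD3_c17) Lrfl Lrfl
theorem f29543 : Led Lsl_et (LP (LK LD1_c4 LD2_c0 LD3_c53)) = (LP (LK LD1_c1 LD2_c57 LD3_c12)) :=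
  Lre_e IH (LK LD1_c4 LD2_c0 LD3_c53) (LK LD1_c1 LD2_c57 LD3_c12) Lrfl Lrfl
theorem f29539 : Led Lsl_dt (LP (LK LD1_c4 LD2_c0 LD3_c53)) = (LP (LK LD1_c8 LD2_c2 LD3_c31)) :=
  Lre_d IH (LK LD1_c4 LD2_c0 LD3_c53) (LK LD1_c8 LD2_c2 LD3_c31) Lrfl Lrfl
theorem f158217 : Led Lsl_gt (LP (LK LD1_c8 LD2_c2 LD3_c31)) = (LP (LK LD1_c15 LD2_c8 LD3_c21)) :=
  Lre_g IH (LK LD1_c8 LD2_c2 LD3_c31) (LK LD1_c15 LD2_c8 LD3_c21) Lrfl Lrfl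
theorem f556515 : Led Lsl_dt (LP (LK LD1_c8 LD2_c5 LD3_c7)) = (LP (LK LD1_c15 LD2_c8 LD3_c21)) :=
  Lgr Lrot37 (Lpr_et (f81413 IH) (Lpr_gt (f81412 IH) (Lpr_dt (f81408 IH) (Lpr_gt (f34043 IH) (Lpr_df (f556509 IH) (Lpr_et (K36.f158216 IH) (Lpe (K8.f158212 IH) (Lpe (f29543 IH) (Lpr_dt (f29539 IH) (Lpr_gt (f158217 IH) (Lpn (LP (LK LD1_c15 LD2_c8 LD3_c21)))))))))))))
theorem f53123 : Led Lsl_dt (LP (LK LD1_c4 LD2_c4 LD3_c48)) = (LP (LK LD1_c8 LD2_c10 LD3_c27)) :=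
  Lre_d IH (LK LD1_c4 LD2_c4 LD3_c48) (LK LD1_c8 LD2_c10 LD3_c27) Lrfl Lrfl
theorem f29523 : Led Lsl_gt (LP (LK LD1_c8 LD2_c1 LD3_c44)) = (LP (LK LD1_c4 LD2_c0 LD3_c26)) :=
  Lre_g IH (LK LD1_c8 LD2_c1 LD3_c44) (LK LD1_c4 LD2_c0 LD3_c26) Lrfl Lrfl
theorem f272504 : Led Lsl_dt (LP (LK LD1_c4 LD2_c24 LD3_c59)) = (LP (LK LD1_c8 LD2_c47 LD3_c28)) :=
  Lre_d IH (LK LD1_c4 LD2_c24 LD3_c59) (LK LD1_c8 LD2_c47 LD3_c28) Lrfl Lrfl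
theorem f556526 : Led Lsl_gf (LP (LK LD1_c8 LD2_c47 LD3_c28)) = (LP (LK LD1_c15 LD2_c8 LD3_c21)) :=
  Lgr Lrot145 (Lpe (f272504 IH) (Lpe (f553963 IH) (Lpr_gt (f29523 IH) (Lpr_dt (f29520 IH) (Lpe (f554423 IH) (Lpe (f53123 IH) (Lpr_et (f53112 IH) (Lpr_gt (f552265 IH) (Lpe (f81413 IH) (Lpr_dt (f556515 IH) (Lpn (LP (LK LD1_c15 LD2_c8 LD3_c21)))))))))))))
theorem f29544 : Led Lsl_ft (LP (LK LD1_c8 LD2_c2 LD3_c31)) = (LP (LK LD1_c15 LD2_c7 LD3_c33)) :=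
  Lre_f IH (LK LD1_c8 LD2_c2 LD3_c31) (LK LD1_c15 LD2_c7 LD3_c33) Lrfl Lrfl
theorem f556528 : Led Lsl_af (LP (LK LD1_c8 LD2_c47 LD3_c28)) = (LP (LK LD1_c15 LD2_c7 LD3_c33)) :=
  Lgr Lrot31 (Lpr_gf (f556526 IH) (Lpe (f158217 IH) (Lpr_ft (f29544 IH) (Lpn (LP (LK LD1_c15 LD2_c7 LD3_c33))))))
theorem f272423 : Led Lsl_bt (LP (LK LD1_c4 LD2_c24 LD3_c60)) = (LP (LK LD1_c8 LD2_c47 LD3_c28)) :=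
  Lre_b IH (LK LD1_c4 LD2_c24 LD3_c60) (LK LD1_c8 LD2_c47 LD3_c28) Lrfl Lrfl
theorem f211623 : Led Lsl_bt (LP (LK LD1_c9 LD2_c47 LD3_c4)) = (LP (LK LD1_c4 LD2_c58 LD3_c5)) :=
  Lre_b IH (LK LD1_c9 LD2_c47 LD3_c4) (LK LD1_c4 LD2_c58 LD3_c5) Lrfl Lrfl
theorem f453222 : Led Lsl_ft (LP (LK LD1_c8 LD2_c47 LD3_c28)) = (LP (LK LD1_c9 LD2_c47 LD3_c4)) :=
  Lgr Lrot75 (Lpe (f272423 IH) (Lpr_ff (K31.f453220 IH) (Lpe (f211623 IH) (Lpn (LP (LK LD1_c9 LD2_c47 LD3_c4))))))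
theorem f556541 : Led Lsl_at (LP (LK LD1_c9 LD2_c47 LD3_c4)) = (LP (LK LD1_c8 LD2_c2 LD3_c31)) :=
  Lgr Lrot66 (Lpe (f453222 IH) (Lpr_af (f556528 IH) (Lpe (f29544 IH) (Lpn (LP (LK LD1_c8 LD2_c2 LD3_c31))))))
theorem f29536 : Led Lsl_dt (LP (LK LD1_c8 LD2_c2 LD3_c31)) = (LP (LK LD1_c4 LD2_c0 LD3_c53)) :=
  Lre_d IH (LK LD1_c8 LD2_c2 LD3_c31) (LK LD1_c4 LD2_c0 LD3_c53) Lrfl Lrfl
theorem f556577 : Led Lsl_af (LP (LK LD1_c4 LD2_c58 LD3_c4)) = (LP (LK LD1_c4 LD2_c0 LD3_c53)) :=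
  Lgr Lrot117 (Lpr_dt (f272773 IH) (Lpr_at (f556541 IH) (Lpr_dt (f29536 IH) (Lpn (LP (LK LD1_c4 LD2_c0 LD3_c53))))))
theorem f29482 : Led Lsl_dt (LP (LK LD1_c1 LD2_c57 LD3_c9)) = (LP (LK LD1_c4 LD2_c0 LD3_c46)) :=
  Lre_d IH (LK LD1_c1 LD2_c57 LD3_c9) (LK LD1_c4 LD2_c0 LD3_c46) Lrfl Lrfl
theorem f156805 : Led Lsl_et (LP (LK LD1_c1 LD2_c57 LD3_c9)) = (LP (LK LD1_c4 LD2_c0 LD3_c47)) :=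
  Lre_e IH (LK LD1_c1 LD2_c57 LD3_c9) (LK LD1_c4 LD2_c0 LD3_c47) Lrfl Lrfl
theorem f554405 : Led Lsl_gt (LP (LK LD1_c4 LD2_c0 LD3_c47)) = (LP (LK LD1_c4 LD2_c58 LD3_c4)) :=
  Lgr Lrot131 (Lpe (f156805 IH) (Lpr_dt (f29482 IH) (Lpe (f542525 IH) (Lpr_df (K36.f542510 IH) (Lpe (K36.f210908 IH) (Lpr_ef (f554395 IH) (Lpe (f438211 IH) (Lpe (f158270 IH) (Lpe (f29476 IH) (Lpr_et (f553974 IH) (Lpn (LP (LK LD1_c4 LD2_c58 LD3_c4)))))))))))))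
theorem f29533 : Led Lsl_ft (LP (LK LD1_c8 LD2_c1 LD3_c58)) = (LP (LK LD1_c4 LD2_c0 LD3_c53)) :=
  Lre_f IH (LK LD1_c8 LD2_c1 LD3_c58) (LK LD1_c4 LD2_c0 LD3_c53) Lrfl Lrfl
theorem f556582 : Led Lsl_gf (LP (LK LD1_c4 LD2_c0 LD3_c47)) = (LP (LK LD1_c8 LD2_c1 LD3_c58)) :=
  Lgr Lrot47 (Lpr_gt (f554405 IH) (Lpr_af (f556577 IH) (Lpe (f29533 IH) (Lpn (LP (LK LD1_c8 LD2_c1 LD3_c58))))))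
theorem f29220 : Led Lsl_bt (LP (LK LD1_c4 LD2_c0 LD3_c33)) = (LP (LK LD1_c8 LD2_c1 LD3_c58)) :=
  Lre_b IH (LK LD1_c4 LD2_c0 LD3_c33) (LK LD1_c8 LD2_c1 LD3_c58) Lrfl Lrfl
theorem f101308 : Led Lsl_bt (LP (LK LD1_c3 LD2_c3 LD3_c17)) = (LP (LK LD1_c1 LD2_c27 LD3_c33)) :=
  Lre_b IH (LK LD1_c3 LD2_c3 LD3_c17) (LK LD1_c1 LD2_c27 LD3_c33) Lrfl Lrfl
theorem f193539 : Led Lsl_ct (LP (LK LD1_c6 LD2_c13 LD3_c23)) = (LP (LK LD1_c3 LD2_c3 LD3_c29)) :=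
  Lre_c IH (LK LD1_c6 LD2_c13 LD3_c23) (LK LD1_c3 LD2_c3 LD3_c29) Lrfl Lrfl
theorem f556587 : Led Lsl_bf (LP (LK LD1_c4 LD2_c0 LD3_c47)) = (LP (LK LD1_c6 LD2_c13 LD3_c23)) :=
  Lgr Lrot34 (Lpr_gf (f556582 IH) (Lpe (f29220 IH) (Lpr_ct (K1.f29213 IH) (Lpe (K13.f241273 IH) (Lpr_cf (K16.f241257 IH) (Lpe (K12.f69404 IH) (Lpe (f101308 IH) (Lpr_ct (K38.f172130 IH) (Lpe (K38.f99563 IH) (Lpe (f193539 IH) (Lpn (LP (LK LD1_c6 LD2_c13 LD3_c23)))))))))))))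
theorem f272562 : Led Lsl_cf (LP (LK LD1_c2 LD2_c26 LD3_c52)) = (LP (LK LD1_c1 LD2_c57 LD3_c6)) :=
  Lgr Lrot14 (Lpe (K18.f70409 IH) (Lpr_gf (K18.f272558 IH) (Lpe (K12.f193382 IH) (Lpe (K18.f173310 IH) (Lpe (K18.f272551 IH) (Lpe (K13.f227482 IH) (Lpr_dt (K12.f34718 IH) (Lpr_gt (K12.f211581 IH) (Lpr_dt (K12.f182407 IH) (Lpn (LP (LK LD1_c1 LD2_c57 LD3_c6))))))))))))
theorem f82185 : Led Lsl_bt (LP (LK LD1_c4 LD2_c58 LD3_c4)) = (LP (LK LD1_c2 LD2_c26 LD3_c52)) :=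
  Lre_b IH (LK LD1_c4 LD2_c58 LD3_c4) (LK LD1_c2 LD2_c26 LD3_c52) Lrfl Lrfl
theorem f272866 : Led Lsl_ct (LP (LK LD1_c4 LD2_c58 LD3_c4)) = (LP (LK LD1_c4 LD2_c58 LD3_c4)) :=
  Lgr Lrot83 (Lpe (f272865 IH) (Lpr_cf (f272562 IH) (Lpe (f227836 IH) (Lpe (K18.f227828 IH) (Lpe (f82185 IH) (Lpn (LP (LK LD1_c4 LD2_c58 LD3_c4))))))))
theorem f272868 : Led Lsl_gt (LP (LK LD1_c4 LD2_c58 LD3_c4)) = (LP (LK LD1_c9 LD2_c47 LD3_c3)) :=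
  Lre_g IH (LK LD1_c4 LD2_c58 LD3_c4) (LK LD1_c9 LD2_c47 LD3_c3) Lrfl Lrfl
theorem f500570 : Led Lsl_bt (LP (LK LD1_c5 LD2_c56 LD3_c61)) = (LP (LK LD1_c2 LD2_c54 LD3_c47)) :=
  Lre_b IH (LK LD1_c5 LD2_c56 LD3_c61) (LK LD1_c2 LD2_c54 LD3_c47) Lrfl Lrfl
theorem f46608 : Led Lsl_gt (LP (LK LD1_c8 LD2_c26 LD3_c1)) = (LP (LK LD1_c15 LD2_c50 LD3_c12)) :=
  Lre_g IH (LK LD1_c8 LD2_c26 LD3_c1) (LK LD1_c15 LD2_c50 LD3_c12) Lrfl Lrfl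
theorem f161542 : Led Lsl_dt (LP (LK LD1_c2 LD2_c48 LD3_c56)) = (LP (LK LD1_c4 LD2_c26 LD3_c6)) :=
  Lgr Lrot6 (Lpr_gt (K8.f73027 IH) (Lpr_ct (K5.f56598 IH) (Lpr_gt (K4.f73023 IH) (Lpr_ct (K4.f73024 IH) (Lpe (K11.f142086 IH) (Lpr_cf (K8.f161535 IH) (Lpe (K8.f139588 IH) (Lpe (K7.f139590 IH) (Lpe (K7.f37894 IH) (Lpn (LP (LK LD1_c4 LD2_c26 LD3_c6))))))))))))
theorem f206787 : Led Lsl_gt (LP (LK LD1_c2 LD2_c16 LD3_c49)) = (LP (LK LD1_c2 LD2_c48 LD3_c56)) :=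
  Lgr Lrot49 (Lpr_df (K6.f99820 IH) (Lpe (K38.f99816 IH) (Lpe (K8.f99720 IH) (Lpr_gt (K8.f99915 IH) (Lpe (K8.f161582 IH) (Lpr_gt (K8.f161584 IH) (Lpr_dt (K11.f206782 IH) (Lpe (K7.f40088 IH) (Lpe (f161542 IH) (Lpn (LP (LK LD1_c2 LD2_c48 LD3_c56))))))))))))
theorem f46828 : Led Lsl_dt (LP (LK LD1_c4 LD2_c13 LD3_c30)) = (LP (LK LD1_c8 LD2_c25 LD3_c58)) :=
  Lre_d IH (LK LD1_c4 LD2_c13 LD3_c30) (LK LD1_c8 LD2_c25 LD3_c58) Lrfl Lrfl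
theorem f46848 : Led Lsl_gt (LP (LK LD1_c15 LD2_c50 LD3_c12)) = (LP (LK LD1_c8 LD2_c25 LD3_c58)) :=
  Lre_g IH (LK LD1_c15 LD2_c50 LD3_c12) (LK LD1_c8 LD2_c25 LD3_c58) Lrfl Lrfl
theorem f139591 : Led Lsl_dt (LP (LK LD1_c1 LD2_c2 LD3_c15)) = (LP (LK LD1_c2 LD2_c10 LD3_c26)) :=
  Lre_d IH (LK LD1_c1 LD2_c2 LD3_c15) (LK LD1_c2 LD2_c10 LD3_c26) Lrfl Lrfl
theorem f206805 : Led Lsl_et (LP (LK LD1_c1 LD2_c2 LD3_c15)) = (LP (LK LD1_c2 LD2_c10 LD3_c27)) :=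
  Lre_e IH (LK LD1_c1 LD2_c2 LD3_c15) (LK LD1_c2 LD2_c10 LD3_c27) Lrfl Lrfl
theorem f101363 : Led Lsl_gt (LP (LK LD1_c2 LD2_c10 LD3_c27)) = (LP (LK LD1_c4 LD2_c26 LD3_c26)) :=
  Lre_g IH (LK LD1_c2 LD2_c10 LD3_c27) (LK LD1_c4 LD2_c26 LD3_c26) Lrfl Lrfl
theorem f209868 : Led Lsl_et (LP (LK LD1_c8 LD2_c50 LD3_c21)) = (LP (LK LD1_c4 LD2_c26 LD3_c26)) :=
  Lre_e IH (LK LD1_c8 LD2_c50 LD3_c21) (LK LD1_c4 LD2_c26 LD3_c26) Lrfl Lrfl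
theorem f209869 : Led Lsl_df (LP (LK LD1_c15 LD2_c50 LD3_c12)) = (LP (LK LD1_c8 LD2_c50 LD3_c21)) :=
  Lgr Lrot170 (Lpr_gt (f46848 IH) (Lpe (f46828 IH) (Lpr_et (K28.f56260 IH) (Lpr_gt (f206787 IH) (Lpr_dt (f161542 IH) (Lpr_gt (K7.f37894 IH) (Lpe (f139591 IH) (Lpr_et (f206805 IH) (Lpr_gt (f101363 IH) (Lpe (f209868 IH) (Lpn (LP (LK LD1_c8 LD2_c50 LD3_c21)))))))))))))
theorem f545957 : Led Lsl_gt (LP (LK LD1_c4 LD2_c26 LD3_c26)) = (LP (LK LD1_c2 LD2_c54 LD3_c47)) :=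
  Lgr Lrot131 (Lpe (f209868 IH) (Lpe (f209869 IH) (Lpe (f46608 IH) (Lpe (K1.f56231 IH) (Lpe (K38.f422751 IH) (Lpe (K38.f427550 IH) (Lpr_dt (K38.f427552 IH) (Lpe (f424198 IH) (Lpe (f424200 IH) (Lpr_et (K37.f545951 IH) (Lpn (LP (LK LD1_c2 LD2_c54 LD3_c47)))))))))))))
theorem f198441 : Led Lsl_bt (LP (LK LD1_c8 LD2_c50 LD3_c19)) = (LP (LK LD1_c4 LD2_c26 LD3_c26)) :=
  Lre_b IH (LK LD1_c8 LD2_c50 LD3_c19) (LK LD1_c4 LD2_c26 LD3_c26) Lrfl Lrfl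
theorem f556624 : Led Lsl_cf (LP (LK LD1_c9 LD2_c47 LD3_c3)) = (LP (LK LD1_c8 LD2_c50 LD3_c19)) :=
  Lgr Lrot163 (Lpe (f272868 IH) (Lpe (f272866 IH) (Lpe (f554405 IH) (Lpr_bf (f556587 IH) (Lpr_ct (f193539 IH) (Lpe (K38.f100553 IH) (Lpr_cf (K38.f549016 IH) (Lpr_bt (f500570 IH) (Lpe (f545957 IH) (Lpe (f198441 IH) (Lpn (LP (LK LD1_c8 LD2_c50 LD3_c19)))))))))))))
theorem f101309 : Led Lsl_bt (LP (LK LD1_c1 LD2_c2 LD3_c20)) = (LP (LK LD1_c2 LD2_c10 LD3_c27)) :=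
  Lre_b IH (LK LD1_c1 LD2_c2 LD3_c20) (LK LD1_c2 LD2_c10 LD3_c27) Lrfl Lrfl
theorem f29344 : Led Lsl_bt (LP (LK LD1_c8 LD2_c1 LD3_c58)) = (LP (LK LD1_c4 LD2_c0 LD3_c33)) :=
  Lre_b IH (LK LD1_c8 LD2_c1 LD3_c58) (LK LD1_c4 LD2_c0 LD3_c33) Lrfl Lrfl
theorem f29345 : Led Lsl_cf (LP (LK LD1_c8 LD2_c1 LD3_c58)) = (LP (LK LD1_c8 LD2_c1 LD3_c58)) :=
  Lgr Lrot97 (Lpr_bt (f29344 IH) (Lpr_ct (K1.f29213 IH) (Lpr_bt (K7.f29341 IH) (Lpr_ct (K1.f29211 IH) (Lpr_bt (f29220 IH) (Lpn (LP (LK LD1_c8 LD2_c1 LD3_c58))))))))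
theorem f556632 : Led Lsl_gt (LP (LK LD1_c9 LD2_c47 LD3_c3)) = (LP (LK LD1_c8 LD2_c1 LD3_c58)) :=
  Lgr Lrot65 (Lpr_cf (f556624 IH) (Lpr_bt (f198441 IH) (Lpe (f101363 IH) (Lpe (f101309 IH) (Lpr_ct (K9.f101020 IH) (Lpe (K9.f36331 IH) (Lpe (K13.f101305 IH) (Lpe (K13.f198430 IH) (Lpe (f29344 IH) (Lpe (f29345 IH) (Lpn (LP (LK LD1_c8 LD2_c1 LD3_c58)))))))))))))
theorem f29367 : Led Lsl_et (LP (LK LD1_c4 LD2_c0 LD3_c29)) = (LP (LK LD1_c8 LD2_c1 LD3_c58)) :=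
  Lre_e IH (LK LD1_c4 LD2_c0 LD3_c29) (LK LD1_c8 LD2_c1 LD3_c58) Lrfl Lrfl
theorem f552267 : Led Lsl_at (LP (LK LD1_c8 LD2_c5 LD3_c3)) = (LP (LK LD1_c4 LD2_c2 LD3_c17)) :=
  Lre_a IH (LK LD1_c8 LD2_c5 LD3_c3) (LK LD1_c4 LD2_c2 LD3_c17) Lrfl Lrfl
theorem f552268 : Led Lsl_ft (LP (LK LD1_c4 LD2_c2 LD3_c16)) = (LP (LK LD1_c8 LD2_c5 LD3_c3)) :=
  Lre_f IH (LK LD1_c4 LD2_c2 LD3_c16) (LK LD1_c8 LD2_c5 LD3_c3) Lrfl Lrfl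
theorem f552269 : Led Lsl_gf (LP (LK LD1_c8 LD2_c0 LD3_c60)) = (LP (LK LD1_c4 LD2_c2 LD3_c16)) :=
  Lgr Lrot47 (Lpr_gt (f552265 IH) (Lpe (f552267 IH) (Lpe (f552268 IH) (Lpn (LP (LK LD1_c4 LD2_c2 LD3_c16))))))
theorem f346729 : Led Lsl_bt (LP (LK LD1_c15 LD2_c23 LD3_c33)) = (LP (LK LD1_c8 LD2_c10 LD3_c29)) :=
  Lre_b IH (LK LD1_c15 LD2_c23 LD3_c33) (LK LD1_c8 LD2_c10 LD3_c29) Lrfl Lrfl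
theorem f346829 : Led Lsl_bt (LP (LK LD1_c8 LD2_c38 LD3_c24)) = (LP (LK LD1_c16 LD2_c10 LD3_c48)) :=
  Lre_b IH (LK LD1_c8 LD2_c38 LD3_c24) (LK LD1_c16 LD2_c10 LD3_c48) Lrfl Lrfl
theorem f346830 : Led Lsl_df (LP (LK LD1_c15 LD2_c23 LD3_c33)) = (LP (LK LD1_c16 LD2_c10 LD3_c48)) :=
  Lgr Lrot12 (Lpr_bt (f346729 IH) (Lpr_dt (K37.f346825 IH) (Lpr_bt (f346829 IH) (Lpn (LP (LK LD1_c16 LD2_c10 LD3_c48))))))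
theorem f53127 : Led Lsl_et (LP (LK LD1_c15 LD2_c23 LD3_c33)) = (LP (LK LD1_c8 LD2_c10 LD3_c27)) :=
  Lre_e IH (LK LD1_c15 LD2_c23 LD3_c33) (LK LD1_c8 LD2_c10 LD3_c27) Lrfl Lrfl
theorem f346849 : Led Lsl_et (LP (LK LD1_c8 LD2_c38 LD3_c23)) = (LP (LK LD1_c16 LD2_c10 LD3_c48)) :=
  Lre_e IH (LK LD1_c8 LD2_c38 LD3_c23) (LK LD1_c16 LD2_c10 LD3_c48) Lrfl Lrfl
theorem f346850 : Led Lsl_dt (LP (LK LD1_c8 LD2_c0 LD3_c60)) = (LP (LK LD1_c8 LD2_c38 LD3_c23)) :=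
  Lgr Lrot77 (Lpe (f53112 IH) (Lpe (f53126 IH) (Lpe (f53127 IH) (Lpr_df (f346830 IH) (Lpe (f346849 IH) (Lpn (LP (LK LD1_c8 LD2_c38 LD3_c23))))))))
theorem f158233 : Led Lsl_ft (LP (LK LD1_c4 LD2_c0 LD3_c43)) = (LP (LK LD1_c8 LD2_c2 LD3_c17)) :=
  Lre_f IH (LK LD1_c4 LD2_c0 LD3_c43) (LK LD1_c8 LD2_c2 LD3_c17) Lrfl Lrfl
theorem f556475 : Led Lsl_df (LP (LK LD1_c8 LD2_c5 LD3_c10)) = (LP (LK LD1_c8 LD2_c2 LD3_c17)) :=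
  Lgr Lrot78 (Lpr_ft (f556471 IH) (Lpr_dt (f69470 IH) (Lpr_ft (f158233 IH) (Lpn (LP (LK LD1_c8 LD2_c2 LD3_c17))))))
theorem f556636 : Led Lsl_ef (LP (LK LD1_c9 LD2_c47 LD3_c3)) = (LP (LK LD1_c8 LD2_c2 LD3_c17)) :=
  Lgr Lrot114 (Lpr_gt (f556632 IH) (Lpe (f29367 IH) (Lpr_dt (K7.f29363 IH) (Lpr_gt (f30512 IH) (Lpe (f158612 IH) (Lpr_et (f81415 IH) (Lpe (f552269 IH) (Lpr_dt (f346850 IH) (Lpe (f554365 IH) (Lpr_df (f556475 IH) (Lpn (LP (LK LD1_c8 LD2_c2 LD3_c17)))))))))))))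
theorem f556642 : Led Lsl_et (LP (LK LD1_c9 LD2_c47 LD3_c3)) = (LP (LK LD1_c8 LD2_c2 LD3_c17)) :=
  Lgr Lrot87 (Lpr_ef (f556636 IH) (Lpn (LP (LK LD1_c8 LD2_c2 LD3_c17))))
theorem f158223 : Led Lsl_et (LP (LK LD1_c3 LD2_c59 LD3_c31)) = (LP (LK LD1_c8 LD2_c0 LD3_c10)) :=
  Lre_e IH (LK LD1_c3 LD2_c59 LD3_c31) (LK LD1_c8 LD2_c0 LD3_c10) Lrfl Lrfl
theorem f556648 : Led Lsl_ff (LP (LK LD1_c9 LD2_c47 LD3_c3)) = (LP (LK LD1_c8 LD2_c0 LD3_c10)) :=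
  Lgr Lrot72 (Lpr_et (f556642 IH) (Lpr_ft (K36.f158240 IH) (Lpr_et (f69485 IH) (Lpe (K8.f158234 IH) (Lpr_et (f158223 IH) (Lpn (LP (LK LD1_c8 LD2_c0 LD3_c10))))))))
theorem f556627 : Led Lsl_ct (LP (LK LD1_c9 LD2_c47 LD3_c3)) = (LP (LK LD1_c8 LD2_c50 LD3_c19)) :=
  Lgr Lrot59 (Lpr_cf (f556624 IH) (Lpn (LP (LK LD1_c8 LD2_c50 LD3_c19))))
theorem f424935 : Led Lsl_ct (LP (LK LD1_c15 LD2_c4 LD3_c46)) = (LP (LK LD1_c8 LD2_c0 LD3_c10)) :=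
  Lre_c IH (LK LD1_c15 LD2_c4 LD3_c46) (LK LD1_c8 LD2_c0 LD3_c10) Lrfl Lrfl
theorem f556650 : Led Lsl_ft (LP (LK LD1_c8 LD2_c50 LD3_c19)) = (LP (LK LD1_c15 LD2_c4 LD3_c46)) :=
  Lgr Lrot4 (Lpe (f556627 IH) (Lpr_ff (f556648 IH) (Lpe (f424935 IH) (Lpn (LP (LK LD1_c15 LD2_c4 LD3_c46))))))
theorem f158742 : Led Lsl_et (LP (LK LD1_c6 LD2_c25 LD3_c3)) = (LP (LK LD1_c12 LD2_c23 LD3_c9)) :=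
  Lre_e IH (LK LD1_c6 LD2_c25 LD3_c3) (LK LD1_c12 LD2_c23 LD3_c9) Lrfl Lrfl
theorem f158796 : Led Lsl_dt (LP (LK LD1_c12 LD2_c23 LD3_c9)) = (LP (LK LD1_c21 LD2_c30 LD3_c8)) :=
  Lre_d IH (LK LD1_c12 LD2_c23 LD3_c9) (LK LD1_c21 LD2_c30 LD3_c8) Lrfl Lrfl
theorem f37066 : Led Lsl_et (LP (LK LD1_c8 LD2_c0 LD3_c6)) = (LP (LK LD1_c3 LD2_c59 LD3_c28)) :=
  Lre_e IH (LK LD1_c8 LD2_c0 LD3_c6) (LK LD1_c3 LD2_c59 LD3_c28) Lrfl Lrfl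
theorem f163024 : Led Lsl_dt (LP (LK LD1_c15 LD2_c4 LD3_c47)) = (LP (LK LD1_c8 LD2_c0 LD3_c6)) :=
  Lre_d IH (LK LD1_c15 LD2_c4 LD3_c47) (LK LD1_c8 LD2_c0 LD3_c6) Lrfl Lrfl
theorem f163025 : Led Lsl_et (LP (LK LD1_c21 LD2_c30 LD3_c8)) = (LP (LK LD1_c15 LD2_c4 LD3_c47)) :=
  Lgr Lrot71 (Lpe (f158796 IH) (Lpe (f158742 IH) (Lpr_df (K8.f163017 IH) (Lpe (f37066 IH) (Lpe (f163024 IH) (Lpn (LP (LK LD1_c15 LD2_c4 LD3_c47))))))))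
theorem f424917 : Led Lsl_ef (LP (LK LD1_c21 LD2_c30 LD3_c8)) = (LP (LK LD1_c15 LD2_c4 LD3_c47)) :=
  Lgr Lrot88 (Lpr_et (f163025 IH) (Lpn (LP (LK LD1_c15 LD2_c4 LD3_c47))))
theorem f158743 : Led Lsl_et (LP (LK LD1_c8 LD2_c49 LD3_c18)) = (LP (LK LD1_c4 LD2_c25 LD3_c59)) :=
  Lre_e IH (LK LD1_c8 LD2_c49 LD3_c18) (LK LD1_c4 LD2_c25 LD3_c59) Lrfl Lrfl
theorem f158744 : Led Lsl_at (LP (LK LD1_c12 LD2_c23 LD3_c9)) = (LP (LK LD1_c8 LD2_c49 LD3_c18)) :=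
  Lgr Lrot80 (Lpe (f158742 IH) (Lpr_af (K8.f158738 IH) (Lpe (f158743 IH) (Lpn (LP (LK LD1_c8 LD2_c49 LD3_c18))))))
theorem f158755 : Led Lsl_ft (LP (LK LD1_c21 LD2_c30 LD3_c9)) = (LP (LK LD1_c12 LD2_c23 LD3_c9)) :=
  Lre_f IH (LK LD1_c21 LD2_c30 LD3_c9) (LK LD1_c12 LD2_c23 LD3_c9) Lrfl Lrfl
theorem f158735 : Led Lsl_ft (LP (LK LD1_c8 LD2_c49 LD3_c18)) = (LP (LK LD1_c16 LD2_c29 LD3_c52)) :=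
  Lre_f IH (LK LD1_c8 LD2_c49 LD3_c18) (LK LD1_c16 LD2_c29 LD3_c52) Lrfl Lrfl
theorem f158756 : Led Lsl_af (LP (LK LD1_c21 LD2_c30 LD3_c9)) = (LP (LK LD1_c16 LD2_c29 LD3_c52)) :=
  Lgr Lrot45 (Lpr_ft (f158755 IH) (Lpr_at (f158744 IH) (Lpr_ft (f158735 IH) (Lpn (LP (LK LD1_c16 LD2_c29 LD3_c52))))))
theorem f158761 : Led Lsl_dt (LP (LK LD1_c21 LD2_c30 LD3_c9)) = (LP (LK LD1_c30 LD2_c3 LD3_c17)) :=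
  Lre_d IH (LK LD1_c21 LD2_c30 LD3_c9) (LK LD1_c30 LD2_c3 LD3_c17) Lrfl Lrfl
theorem f158769 : Led Lsl_dt (LP (LK LD1_c26 LD2_c26 LD3_c43)) = (LP (LK LD1_c16 LD2_c29 LD3_c52)) :=
  Lre_d IH (LK LD1_c26 LD2_c26 LD3_c43) (LK LD1_c16 LD2_c29 LD3_c52) Lrfl Lrfl
theorem f158770 : Led Lsl_at (LP (LK LD1_c30 LD2_c3 LD3_c17)) = (LP (LK LD1_c26 LD2_c26 LD3_c43)) :=
  Lgr Lrot51 (Lpe (f158761 IH) (Lpr_af (f158756 IH) (Lpe (f158769 IH) (Lpn (LP (LK LD1_c26 LD2_c26 LD3_c43))))))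
theorem f158779 : Led Lsl_af (LP (LK LD1_c30 LD2_c3 LD3_c17)) = (LP (LK LD1_c26 LD2_c26 LD3_c43)) :=
  Lgr Lrot0 (Lpr_at (f158770 IH) (Lpn (LP (LK LD1_c26 LD2_c26 LD3_c43))))
theorem f158786 : Led Lsl_ft (LP (LK LD1_c30 LD2_c3 LD3_c17)) = (LP (LK LD1_c21 LD2_c30 LD3_c8)) :=
  Lre_f IH (LK LD1_c30 LD2_c3 LD3_c17) (LK LD1_c21 LD2_c30 LD3_c8) Lrfl Lrfl
theorem f158787 : Led Lsl_ft (LP (LK LD1_c16 LD2_c29 LD3_c51)) = (LP (LK LD1_c26 LD2_c26 LD3_c43)) :=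
  Lre_f IH (LK LD1_c16 LD2_c29 LD3_c51) (LK LD1_c26 LD2_c26 LD3_c43) Lrfl Lrfl
theorem f158788 : Led Lsl_at (LP (LK LD1_c21 LD2_c30 LD3_c8)) = (LP (LK LD1_c16 LD2_c29 LD3_c51)) :=
  Lgr Lrot66 (Lpe (f158786 IH) (Lpr_af (f158779 IH) (Lpe (f158787 IH) (Lpn (LP (LK LD1_c16 LD2_c29 LD3_c51))))))
theorem f158797 : Led Lsl_et (LP (LK LD1_c16 LD2_c29 LD3_c51)) = (LP (LK LD1_c8 LD2_c49 LD3_c19)) :=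
  Lre_e IH (LK LD1_c16 LD2_c29 LD3_c51) (LK LD1_c8 LD2_c49 LD3_c19) Lrfl Lrfl
theorem f424919 : Led Lsl_at (LP (LK LD1_c8 LD2_c49 LD3_c19)) = (LP (LK LD1_c15 LD2_c4 LD3_c47)) :=
  Lgr Lrot80 (Lpe (f158797 IH) (Lpe (f158788 IH) (Lpr_ef (f424917 IH) (Lpn (LP (LK LD1_c15 LD2_c4 LD3_c47))))))
theorem f161087 : Led Lsl_dt (LP (LK LD1_c4 LD2_c25 LD3_c60)) = (LP (LK LD1_c8 LD2_c49 LD3_c19)) :=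
  Lre_d IH (LK LD1_c4 LD2_c25 LD3_c60) (LK LD1_c8 LD2_c49 LD3_c19) Lrfl Lrfl
theorem f424924 : Led Lsl_af (LP (LK LD1_c4 LD2_c25 LD3_c60)) = (LP (LK LD1_c8 LD2_c0 LD3_c6)) :=
  Lgr Lrot117 (Lpr_dt (f161087 IH) (Lpr_at (f424919 IH) (Lpr_dt (f163024 IH) (Lpn (LP (LK LD1_c8 LD2_c0 LD3_c6))))))
theorem f424926 : Led Lsl_bt (LP (LK LD1_c4 LD2_c25 LD3_c60)) = (LP (LK LD1_c2 LD2_c10 LD3_c20)) :=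
  Lre_b IH (LK LD1_c4 LD2_c25 LD3_c60) (LK LD1_c2 LD2_c10 LD3_c20) Lrfl Lrfl
theorem f424927 : Led Lsl_at (LP (LK LD1_c2 LD2_c10 LD3_c20)) = (LP (LK LD1_c4 LD2_c25 LD3_c58)) :=
  Lre_a IH (LK LD1_c2 LD2_c10 LD3_c20) (LK LD1_c4 LD2_c25 LD3_c58) Lrfl Lrfl
theorem f158178 : Led Lsl_et (LP (LK LD1_c2 LD2_c10 LD3_c16)) = (LP (LK LD1_c4 LD2_c25 LD3_c58)) :=
  Lre_e IH (LK LD1_c2 LD2_c10 LD3_c16) (LK LD1_c4 LD2_c25 LD3_c58) Lrfl Lrfl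
theorem f138822 : Led Lsl_et (LP (LK LD1_c8 LD2_c2 LD3_c18)) = (LP (LK LD1_c4 LD2_c0 LD3_c45)) :=
  Lre_e IH (LK LD1_c8 LD2_c2 LD3_c18) (LK LD1_c4 LD2_c0 LD3_c45) Lrfl Lrfl
theorem f158179 : Led Lsl_bt (LP (LK LD1_c4 LD2_c25 LD3_c58)) = (LP (LK LD1_c8 LD2_c2 LD3_c18)) :=
  Lgr Lrot119 (Lpe (f158178 IH) (Lpr_bf (K8.f158160 IH) (Lpe (f138822 IH) (Lpn (LP (LK LD1_c8 LD2_c2 LD3_c18))))))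
theorem f424928 : Led Lsl_bt (LP (LK LD1_c15 LD2_c4 LD3_c46)) = (LP (LK LD1_c8 LD2_c0 LD3_c6)) :=
  Lre_b IH (LK LD1_c15 LD2_c4 LD3_c46) (LK LD1_c8 LD2_c0 LD3_c6) Lrfl Lrfl
theorem f424929 : Led Lsl_at (LP (LK LD1_c8 LD2_c2 LD3_c18)) = (LP (LK LD1_c15 LD2_c4 LD3_c46)) :=
  Lgr Lrot67 (Lpe (f158179 IH) (Lpe (f424927 IH) (Lpe (f424926 IH) (Lpr_af (f424924 IH) (Lpe (f424928 IH) (Lpn (LP (LK LD1_c15 LD2_c4 LD3_c46))))))))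
theorem f424932 : Led Lsl_af (LP (LK LD1_c8 LD2_c2 LD3_c18)) = (LP (LK LD1_c15 LD2_c4 LD3_c46)) :=
  Lgr Lrot0 (Lpr_at (f424929 IH) (Lpn (LP (LK LD1_c15 LD2_c4 LD3_c46))))
theorem f424947 : Led Lsl_gt (LP (LK LD1_c15 LD2_c7 LD3_c59)) = (LP (LK LD1_c8 LD2_c2 LD3_c18)) :=
  Lre_g IH (LK LD1_c15 LD2_c7 LD3_c59) (LK LD1_c8 LD2_c2 LD3_c18) Lrfl Lrfl
theorem f556681 : Led Lsl_gt (LP (LK LD1_c8 LD2_c50 LD3_c19)) = (LP (LK LD1_c15 LD2_c7 LD3_c59)) :=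
  Lgr Lrot5 (Lpr_ft (f556650 IH) (Lpe (f424932 IH) (Lpe (f424947 IH) (Lpn (LP (LK LD1_c15 LD2_c7 LD3_c59))))))
theorem f556640 : Led Lsl_bt (LP (LK LD1_c9 LD2_c47 LD3_c3)) = (LP (LK LD1_c8 LD2_c0 LD3_c13)) :=
  Lgr Lrot119 (Lpr_ef (f556636 IH) (Lpe (K36.f427924 IH) (Lpr_ef (K36.f427947 IH) (Lpn (LP (LK LD1_c8 LD2_c0 LD3_c13))))))
theorem f421275 : Led Lsl_ef (LP (LK LD1_c5 LD2_c13 LD3_c56)) = (LP (LK LD1_c3 LD2_c3 LD3_c26)) :=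
  Lgr Lrot28 (Lpr_ct (K32.f201594 IH) (Lpr_et (K32.f421271 IH) (Lpr_ct (K6.f59554 IH) (Lpn (LP (LK LD1_c3 LD2_c3 LD3_c26))))))
theorem f158220 : Led Lsl_bt (LP (LK LD1_c3 LD2_c59 LD3_c31)) = (LP (LK LD1_c1 LD2_c56 LD3_c27)) :=
  Lre_b IH (LK LD1_c3 LD2_c59 LD3_c31) (LK LD1_c1 LD2_c56 LD3_c27) Lrfl Lrfl
theorem f158236 : Led Lsl_ft (LP (LK LD1_c1 LD2_c56 LD3_c27)) = (LP (LK LD1_c3 LD2_c3 LD3_c26)) :=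
  Lgr Lrot75 (Lpe (f158220 IH) (Lpr_ff (K8.f158234 IH) (Lpr_bf (K6.f69362 IH) (Lpn (LP (LK LD1_c3 LD2_c3 LD3_c26))))))
theorem f421453 : Led Lsl_ft (LP (LK LD1_c8 LD2_c0 LD3_c13)) = (LP (LK LD1_c3 LD2_c59 LD3_c33)) :=
  Lre_f IH (LK LD1_c8 LD2_c0 LD3_c13) (LK LD1_c3 LD2_c59 LD3_c33) Lrfl Lrfl
theorem f427937 : Led Lsl_et (LP (LK LD1_c5 LD2_c7 LD3_c13)) = (LP (LK LD1_c8 LD2_c0 LD3_c13)) :=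
  Lgr Lrot69 (Lpr_ff (K36.f427929 IH) (Lpr_ef (f421275 IH) (Lpe (f158236 IH) (Lpe (K8.f158359 IH) (Lpe (f421453 IH) (Lpn (LP (LK LD1_c8 LD2_c0 LD3_c13))))))))
theorem f205760 : Led Lsl_df (LP (LK LD1_c9 LD2_c7 LD3_c59)) = (LP (LK LD1_c4 LD2_c42 LD3_c46)) :=
  Lgr Lrot38 (Lpr_dt (K11.f205758 IH) (Lpn (LP (LK LD1_c4 LD2_c42 LD3_c46))))
theorem f37856 : Led Lsl_et (LP (LK LD1_c2 LD2_c15 LD3_c8)) = (LP (LK LD1_c4 LD2_c35 LD3_c55)) :=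
  Lre_e IH (LK LD1_c2 LD2_c15 LD3_c8) (LK LD1_c4 LD2_c35 LD3_c55) Lrfl Lrfl
theorem f556451 : Led Lsl_gf (LP (LK LD1_c8 LD2_c0 LD3_c13)) = (LP (LK LD1_c4 LD2_c35 LD3_c55)) :=
  Lgr Lrot141 (Lpe (f427937 IH) (Lpr_dt (f308554 IH) (Lpr_gt (f556445 IH) (Lpe (K6.f132621 IH) (Lpr_et (K6.f132592 IH) (Lpr_gt (K4.f60940 IH) (Lpe (f205760 IH) (Lpe (K8.f161177 IH) (Lpe (K7.f37811 IH) (Lpr_et (f37856 IH) (Lpn (LP (LK LD1_c4 LD2_c35 LD3_c55)))))))))))))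
theorem f38393 : Led Lsl_bt (LP (LK LD1_c1 LD2_c2 LD3_c10)) = (LP (LK LD1_c2 LD2_c10 LD3_c6)) :=
  Lre_b IH (LK LD1_c1 LD2_c2 LD3_c10) (LK LD1_c2 LD2_c10 LD3_c6) Lrfl Lrfl
theorem f38493 : Led Lsl_gt (LP (LK LD1_c4 LD2_c25 LD3_c27)) = (LP (LK LD1_c2 LD2_c10 LD3_c6)) :=
  Lre_g IH (LK LD1_c4 LD2_c25 LD3_c27) (LK LD1_c2 LD2_c10 LD3_c6) Lrfl Lrfl
theorem f38503 : Led Lsl_bt (LP (LK LD1_c8 LD2_c48 LD3_c27)) = (LP (LK LD1_c4 LD2_c25 LD3_c27)) :=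
  Lre_b IH (LK LD1_c8 LD2_c48 LD3_c27) (LK LD1_c4 LD2_c25 LD3_c27) Lrfl Lrfl
theorem f556683 : Led Lsl_ct (LP (LK LD1_c8 LD2_c48 LD3_c27)) = (LP (LK LD1_c15 LD2_c7 LD3_c59)) :=
  Lgr Lrot63 (Lpr_bt (f38503 IH) (Lpr_gt (f38493 IH) (Lpe (f38393 IH) (Lpr_ct (K1.f37998 IH) (Lpr_gt (K11.f35622 IH) (Lpe (K18.f227828 IH) (Lpr_bt (f272865 IH) (Lpr_gt (f272868 IH) (Lpr_ct (f556627 IH) (Lpr_gt (f556681 IH) (Lpn (LP (LK LD1_c15 LD2_c7 LD3_c59)))))))))))))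
theorem f35476 : Led Lsl_gt (LP (LK LD1_c2 LD2_c9 LD3_c53)) = (LP (LK LD1_c4 LD2_c24 LD3_c50)) :=
  Lre_g IH (LK LD1_c2 LD2_c9 LD3_c53) (LK LD1_c4 LD2_c24 LD3_c50) Lrfl Lrfl
theorem f556685 : Led Lsl_ct (LP (LK LD1_c7 LD2_c56 LD3_c49)) = (LP (LK LD1_c4 LD2_c24 LD3_c50)) :=
  Lgr Lrot63 (Lpe (K36.f37837 IH) (Lpe (f556451 IH) (Lpe (f556640 IH) (Lpr_ct (f556627 IH) (Lpr_gt (f556681 IH) (Lpe (f556683 IH) (Lpr_bt (f38503 IH) (Lpr_gt (f38493 IH) (Lpr_ct (K1.f38464 IH) (Lpr_gt (f35476 IH) (Lpn (LP (LK LD1_c4 LD2_c24 LD3_c50)))))))))))))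
theorem f158384 : Led Lsl_ct (LP (LK LD1_c8 LD2_c0 LD3_c13)) = (LP (LK LD1_c3 LD2_c59 LD3_c38)) :=
  Lre_c IH (LK LD1_c8 LD2_c0 LD3_c13) (LK LD1_c3 LD2_c59 LD3_c38) Lrfl Lrfl
theorem f38501 : Led Lsl_bt (LP (LK LD1_c2 LD2_c10 LD3_c6)) = (LP (LK LD1_c1 LD2_c2 LD3_c10)) :=
  Lre_b IH (LK LD1_c2 LD2_c10 LD3_c6) (LK LD1_c1 LD2_c2 LD3_c10) Lrfl Lrfl
theorem f418551 : Led Lsl_cf (LP (LK LD1_c2 LD2_c14 LD3_c41)) = (LP (LK LD1_c4 LD2_c25 LD3_c5)) :=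
  Lgr Lrot11 (Lpr_ct (K36.f418549 IH) (Lpn (LP (LK LD1_c4 LD2_c25 LD3_c5))))
theorem f556702 : Led Lsl_gt (LP (LK LD1_c3 LD2_c59 LD3_c38)) = (LP (LK LD1_c2 LD2_c14 LD3_c41)) :=
  Lgr Lrot149 (Lpe (f158384 IH) (Lpr_gf (f556451 IH) (Lpr_bf (K36.f37837 IH) (Lpr_ct (f556685 IH) (Lpe (f35476 IH) (Lpe (K1.f38464 IH) (Lpr_bt (f38501 IH) (Lpr_gf (K12.f227609 IH) (Lpe (K36.f227660 IH) (Lpe (f418551 IH) (Lpn (LP (LK LD1_c2 LD2_c14 LD3_c41)))))))))))))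
theorem f176057 : Led Lsl_bt (LP (LK LD1_c1 LD2_c5 LD3_c3)) = (LP (LK LD1_c0 LD2_c29 LD3_c47)) :=
  Lre_b IH (LK LD1_c1 LD2_c5 LD3_c3) (LK LD1_c0 LD2_c29 LD3_c47) Lrfl Lrfl
theorem f176058 : Led Lsl_ct (LP (LK LD1_c1 LD2_c5 LD3_c3)) = (LP (LK LD1_c2 LD2_c10 LD3_c27)) :=
  Lre_c IH (LK LD1_c1 LD2_c5 LD3_c3) (LK LD1_c2 LD2_c10 LD3_c27) Lrfl Lrfl
theorem f556706 : Led Lsl_ct (LP (LK LD1_c8 LD2_c0 LD3_c9)) = (LP (LK LD1_c4 LD2_c26 LD3_c26)) :=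
  Lgr Lrot10 (Lpr_bt (K36.f427968 IH) (Lpr_gt (f556702 IH) (Lpr_ct (K36.f418549 IH) (Lpr_gt (K37.f542317 IH) (Lpe (K37.f176798 IH) (Lpr_bt (K36.f176804 IH) (Lpr_gt (K9.f68587 IH) (Lpe (f176057 IH) (Lpr_ct (f176058 IH) (Lpr_gt (f101363 IH) (Lpn (LP (LK LD1_c4 LD2_c26 LD3_c26)))))))))))))
theorem f418492 : Led Lsl_ct (LP (LK LD1_c1 LD2_c23 LD3_c18)) = (LP (LK LD1_c2 LD2_c54 LD3_c47)) :=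
  Lre_c IH (LK LD1_c1 LD2_c23 LD3_c18) (LK LD1_c2 LD2_c54 LD3_c47) Lrfl Lrfl
def v1673 : LQ := Led Lsl_gt (LP (LK LD1_c1 LD2_c23 LD3_c47))
theorem f500704 : Led Lsl_gt (LP (LK LD1_c1 LD2_c23 LD3_c47)) = v1673 :=
  Lrfl
theorem f69784 : Led Lsl_dt (LP (LK LD1_c15 LD2_c13 LD3_c42)) = (LP (LK LD1_c8 LD2_c5 LD3_c14)) :=
  Lre_d IH (LK LD1_c15 LD2_c13 LD3_c42) (LK LD1_c8 LD2_c5 LD3_c14) Lrfl Lrfl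
theorem f554491 : Led Lsl_af (LP (LK LD1_c15 LD2_c13 LD3_c42)) = (LP (LK LD1_c8 LD2_c10 LD3_c27)) :=
  Lgr Lrot117 (Lpr_dt (f69784 IH) (Lpr_at (f554487 IH) (Lpr_dt (f53123 IH) (Lpn (LP (LK LD1_c8 LD2_c10 LD3_c27))))))
theorem f70040 : Led Lsl_et (LP (LK LD1_c15 LD2_c13 LD3_c42)) = (LP (LK LD1_c25 LD2_c2 LD3_c47)) :=
  Lre_e IH (LK LD1_c15 LD2_c13 LD3_c42) (LK LD1_c25 LD2_c2 LD3_c47) Lrfl Lrfl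
theorem f554521 : Led Lsl_at (LP (LK LD1_c25 LD2_c2 LD3_c47)) = (LP (LK LD1_c15 LD2_c23 LD3_c33)) :=
  Lgr Lrot80 (Lpe (f70040 IH) (Lpr_af (f554491 IH) (Lpe (f53127 IH) (Lpn (LP (LK LD1_c15 LD2_c23 LD3_c33))))))
theorem f70107 : Led Lsl_ft (LP (LK LD1_c31 LD2_c45 LD3_c3)) = (LP (LK LD1_c25 LD2_c2 LD3_c47)) :=
  Lre_f IH (LK LD1_c31 LD2_c45 LD3_c3) (LK LD1_c25 LD2_c2 LD3_c47) Lrfl Lrfl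
theorem f346852 : Led Lsl_ft (LP (LK LD1_c15 LD2_c23 LD3_c33)) = (LP (LK LD1_c25 LD2_c15 LD3_c55)) :=
  Lre_f IH (LK LD1_c15 LD2_c23 LD3_c33) (LK LD1_c25 LD2_c15 LD3_c55) Lrfl Lrfl
theorem f554530 : Led Lsl_af (LP (LK LD1_c31 LD2_c45 LD3_c3)) = (LP (LK LD1_c25 LD2_c15 LD3_c55)) :=
  Lgr Lrot45 (Lpr_ft (f70107 IH) (Lpr_at (f554521 IH) (Lpr_ft (f346852 IH) (Lpn (LP (LK LD1_c25 LD2_c15 LD3_c55))))))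
theorem f70033 : Led Lsl_ff (LP (LK LD1_c15 LD2_c13 LD3_c42)) = (LP (LK LD1_c8 LD2_c45 LD3_c28)) :=
  Lgr Lrot19 (Lpr_dt (f69784 IH) (Lpr_ft (K9.f70026 IH) (Lpr_dt (f70028 IH) (Lpn (LP (LK LD1_c8 LD2_c45 LD3_c28))))))
theorem f70041 : Led Lsl_ft (LP (LK LD1_c25 LD2_c2 LD3_c47)) = (LP (LK LD1_c31 LD2_c45 LD3_c3)) :=
  Lre_f IH (LK LD1_c25 LD2_c2 LD3_c47) (LK LD1_c31 LD2_c45 LD3_c3) Lrfl Lrfl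
theorem f70042 : Led Lsl_et (LP (LK LD1_c16 LD2_c23 LD3_c34)) = (LP (LK LD1_c8 LD2_c45 LD3_c28)) :=
  Lre_e IH (LK LD1_c16 LD2_c23 LD3_c34) (LK LD1_c8 LD2_c45 LD3_c28) Lrfl Lrfl
theorem f70043 : Led Lsl_ft (LP (LK LD1_c26 LD2_c21 LD3_c37)) = (LP (LK LD1_c16 LD2_c23 LD3_c34)) :=
  Lre_f IH (LK LD1_c26 LD2_c21 LD3_c37) (LK LD1_c16 LD2_c23 LD3_c34) Lrfl Lrfl
theorem f70044 : Led Lsl_et (LP (LK LD1_c31 LD2_c45 LD3_c3)) = (LP (LK LD1_c26 LD2_c21 LD3_c37)) :=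
  Lgr Lrot69 (Lpe (f70041 IH) (Lpe (f70040 IH) (Lpr_ff (f70033 IH) (Lpe (f70042 IH) (Lpe (f70043 IH) (Lpn (LP (LK LD1_c26 LD2_c21 LD3_c37))))))))
theorem f346735 : Led Lsl_bt (LP (LK LD1_c25 LD2_c15 LD3_c55)) = (LP (LK LD1_c15 LD2_c23 LD3_c37)) :=
  Lre_b IH (LK LD1_c25 LD2_c15 LD3_c55) (LK LD1_c15 LD2_c23 LD3_c37) Lrfl Lrfl
theorem f239227 : Led Lsl_bt (LP (LK LD1_c16 LD2_c20 LD3_c46)) = (LP (LK LD1_c26 LD2_c18 LD3_c42)) :=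
  Lre_b IH (LK LD1_c16 LD2_c20 LD3_c46) (LK LD1_c26 LD2_c18 LD3_c42) Lrfl Lrfl
theorem f346739 : Led Lsl_ef (LP (LK LD1_c25 LD2_c15 LD3_c55)) = (LP (LK LD1_c26 LD2_c18 LD3_c42)) :=
  Lgr Lrot29 (Lpr_bt (f346735 IH) (Lpr_et (K23.f346737 IH) (Lpr_bt (f239227 IH) (Lpn (LP (LK LD1_c26 LD2_c18 LD3_c42))))))
theorem f554538 : Led Lsl_at (LP (LK LD1_c26 LD2_c21 LD3_c37)) = (LP (LK LD1_c26 LD2_c18 LD3_c42)) :=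
  Lgr Lrot80 (Lpe (f70044 IH) (Lpr_af (f554530 IH) (Lpr_ef (f346739 IH) (Lpn (LP (LK LD1_c26 LD2_c18 LD3_c42))))))
theorem f70108 : Led Lsl_ft (LP (LK LD1_c16 LD2_c23 LD3_c34)) = (LP (LK LD1_c26 LD2_c21 LD3_c37)) :=
  Lre_f IH (LK LD1_c16 LD2_c23 LD3_c34) (LK LD1_c26 LD2_c21 LD3_c37) Lrfl Lrfl
theorem f394663 : Led Lsl_ft (LP (LK LD1_c26 LD2_c18 LD3_c42)) = (LP (LK LD1_c16 LD2_c20 LD3_c43)) :=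
  Lre_f IH (LK LD1_c26 LD2_c18 LD3_c42) (LK LD1_c16 LD2_c20 LD3_c43) Lrfl Lrfl
theorem f554546 : Led Lsl_af (LP (LK LD1_c16 LD2_c23 LD3_c34)) = (LP (LK LD1_c16 LD2_c20 LD3_c43)) :=
  Lgr Lrot45 (Lpr_ft (f70108 IH) (Lpr_at (f554538 IH) (Lpr_ft (f394663 IH) (Lpn (LP (LK LD1_c16 LD2_c20 LD3_c43))))))
theorem f70120 : Led Lsl_bt (LP (LK LD1_c16 LD2_c23 LD3_c34)) = (LP (LK LD1_c8 LD2_c45 LD3_c31)) :=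
  Lre_b IH (LK LD1_c16 LD2_c23 LD3_c34) (LK LD1_c8 LD2_c45 LD3_c31) Lrfl Lrfl
theorem f346690 : Led Lsl_af (LP (LK LD1_c8 LD2_c43 LD3_c43)) = (LP (LK LD1_c8 LD2_c42 LD3_c51)) :=
  Lgr Lrot0 (Lpr_at (K23.f346688 IH) (Lpn (LP (LK LD1_c8 LD2_c42 LD3_c51))))
theorem f554548 : Led Lsl_bt (LP (LK LD1_c6 LD2_c13 LD3_c59)) = (LP (LK LD1_c8 LD2_c42 LD3_c51)) :=
  Lgr Lrot62 (Lpr_af (K2.f70116 IH) (Lpe (f70120 IH) (Lpr_af (f554546 IH) (Lpe (f239217 IH) (Lpr_af (f346690 IH) (Lpn (LP (LK LD1_c8 LD2_c42 LD3_c51))))))))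
theorem f81144 : Led Lsl_bt (LP (LK LD1_c6 LD2_c13 LD3_c56)) = (LP (LK LD1_c3 LD2_c3 LD3_c50)) :=
  Lre_b IH (LK LD1_c6 LD2_c13 LD3_c56) (LK LD1_c3 LD2_c3 LD3_c50) Lrfl Lrfl
theorem f554552 : Led Lsl_df (LP (LK LD1_c6 LD2_c13 LD3_c56)) = (LP (LK LD1_c8 LD2_c42 LD3_c51)) :=
  Lgr Lrot12 (Lpr_bt (f81144 IH) (Lpr_dt (K37.f70157 IH) (Lpr_bt (f554548 IH) (Lpn (LP (LK LD1_c8 LD2_c42 LD3_c51))))))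
theorem f81581 : Led Lsl_ft (LP (LK LD1_c6 LD2_c13 LD3_c56)) = (LP (LK LD1_c12 LD2_c6 LD3_c28)) :=
  Lre_f IH (LK LD1_c6 LD2_c13 LD3_c56) (LK LD1_c12 LD2_c6 LD3_c28) Lrfl Lrfl
theorem f554558 : Led Lsl_dt (LP (LK LD1_c12 LD2_c6 LD3_c28)) = (LP (LK LD1_c16 LD2_c19 LD3_c25)) :=
  Lgr Lrot60 (Lpe (f81581 IH) (Lpr_df (f554552 IH) (Lpe (K23.f346705 IH) (Lpn (LP (LK LD1_c16 LD2_c19 LD3_c25))))))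
theorem f81183 : Led Lsl_ft (LP (LK LD1_c16 LD2_c23 LD3_c46)) = (LP (LK LD1_c8 LD2_c45 LD3_c34)) :=
  Lre_f IH (LK LD1_c16 LD2_c23 LD3_c46) (LK LD1_c8 LD2_c45 LD3_c34) Lrfl Lrfl
theorem f81184 : Led Lsl_ft (LP (LK LD1_c8 LD2_c3 LD3_c45)) = (LP (LK LD1_c15 LD2_c10 LD3_c36)) :=
  Lre_f IH (LK LD1_c8 LD2_c3 LD3_c45) (LK LD1_c15 LD2_c10 LD3_c36) Lrfl Lrfl
theorem f81185 : Led Lsl_df (LP (LK LD1_c16 LD2_c23 LD3_c46)) = (LP (LK LD1_c15 LD2_c10 LD3_c36)) :=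
  Lgr Lrot78 (Lpr_ft (f81183 IH) (Lpr_dt (K10.f81170 IH) (Lpr_ft (f81184 IH) (Lpn (LP (LK LD1_c15 LD2_c10 LD3_c36))))))
theorem f554579 : Led Lsl_ef (LP (LK LD1_c15 LD2_c10 LD3_c36)) = (LP (LK LD1_c16 LD2_c12 LD3_c11)) :=
  Lgr Lrot73 (Lpe (f81185 IH) (Lpr_et (f81578 IH) (Lpr_dt (f554558 IH) (Lpe (K23.f346680 IH) (Lpe (K37.f346873 IH) (Lpn (LP (LK LD1_c16 LD2_c12 LD3_c11))))))))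
theorem f81193 : Led Lsl_ft (LP (LK LD1_c15 LD2_c10 LD3_c36)) = (LP (LK LD1_c8 LD2_c3 LD3_c45)) :=
  Lre_f IH (LK LD1_c15 LD2_c10 LD3_c36) (LK LD1_c8 LD2_c3 LD3_c45) Lrfl Lrfl
theorem f554587 : Led Lsl_ft (LP (LK LD1_c4 LD2_c1 LD3_c33)) = (LP (LK LD1_c4 LD2_c20 LD3_c41)) :=
  Lgr Lrot86 (Lpe (K10.f81179 IH) (Lpe (f81193 IH) (Lpr_ef (f554579 IH) (Lpe (K37.f240678 IH) (Lpe (K37.f240653 IH) (Lpn (LP (LK LD1_c4 LD2_c20 LD3_c41))))))))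
theorem f211612 : Led Lsl_ct (LP (LK LD1_c8 LD2_c3 LD3_c44)) = (LP (LK LD1_c4 LD2_c1 LD3_c33)) :=
  Lre_c IH (LK LD1_c8 LD2_c3 LD3_c44) (LK LD1_c4 LD2_c1 LD3_c33) Lrfl Lrfl
theorem f554591 : Led Lsl_ff (LP (LK LD1_c8 LD2_c3 LD3_c44)) = (LP (LK LD1_c8 LD2_c38 LD3_c37)) :=
  Lgr Lrot23 (Lpr_ct (f211612 IH) (Lpr_ft (f554587 IH) (Lpe (K15.f240651 IH) (Lpn (LP (LK LD1_c8 LD2_c38 LD3_c37))))))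
theorem f554598 : Led Lsl_ft (LP (LK LD1_c8 LD2_c3 LD3_c44)) = (LP (LK LD1_c8 LD2_c38 LD3_c37)) :=
  Lgr Lrot48 (Lpr_ff (f554591 IH) (Lpn (LP (LK LD1_c8 LD2_c38 LD3_c37))))
theorem f554600 : Led Lsl_df (LP (LK LD1_c8 LD2_c3 LD3_c44)) = (LP (LK LD1_c4 LD2_c19 LD3_c54)) :=
  Lgr Lrot78 (Lpr_ft (f554598 IH) (Lpr_dt (K13.f239296 IH) (Lpr_ft (K25.f348872 IH) (Lpn (LP (LK LD1_c4 LD2_c19 LD3_c54))))))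
theorem f182577 : Led Lsl_cf (LP (LK LD1_c2 LD2_c37 LD3_c44)) = (LP (LK LD1_c4 LD2_c6 LD3_c39)) :=
  Lgr Lrot11 (Lpr_ct (K9.f182571 IH) (Lpn (LP (LK LD1_c4 LD2_c6 LD3_c39))))
theorem f321258 : Led Lsl_df (LP (LK LD1_c2 LD2_c0 LD3_c37)) = (LP (LK LD1_c2 LD2_c25 LD3_c24)) :=
  Lgr Lrot155 (Lpr_gt (K11.f47858 IH) (Lpr_ct (K9.f55048 IH) (Lpr_gt (K9.f55050 IH) (Lpe (f182577 IH) (Lpr_dt (K9.f171994 IH) (Lpr_cf (K9.f171891 IH) (Lpr_gf (K17.f284094 IH) (Lpr_cf (K17.f256229 IH) (Lpr_gf (K20.f321246 IH) (Lpn (LP (LK LD1_c2 LD2_c25 LD3_c24))))))))))))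
theorem f182698 : Led Lsl_bt (LP (LK LD1_c4 LD2_c6 LD3_c33)) = (LP (LK LD1_c8 LD2_c13 LD3_c38)) :=
  Lre_b IH (LK LD1_c4 LD2_c6 LD3_c33) (LK LD1_c8 LD2_c13 LD3_c38) Lrfl Lrfl
theorem f182703 : Led Lsl_gt (LP (LK LD1_c8 LD2_c13 LD3_c38)) = (LP (LK LD1_c15 LD2_c28 LD3_c30)) :=
  Lre_g IH (LK LD1_c8 LD2_c13 LD3_c38) (LK LD1_c15 LD2_c28 LD3_c30) Lrfl Lrfl
theorem f255287 : Led Lsl_bt (LP (LK LD1_c10 LD2_c0 LD3_c56)) = (LP (LK LD1_c5 LD2_c4 LD3_c56)) :=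
  Lre_b IH (LK LD1_c10 LD2_c0 LD3_c56) (LK LD1_c5 LD2_c4 LD3_c56) Lrfl Lrfl
theorem f266659 : Led Lsl_bt (LP (LK LD1_c8 LD2_c13 LD3_c21)) = (LP (LK LD1_c15 LD2_c27 LD3_c59)) :=
  Lre_b IH (LK LD1_c8 LD2_c13 LD3_c21) (LK LD1_c15 LD2_c27 LD3_c59) Lrfl Lrfl
theorem f266660 : Led Lsl_cf (LP (LK LD1_c10 LD2_c0 LD3_c56)) = (LP (LK LD1_c15 LD2_c27 LD3_c59)) :=
  Lgr Lrot97 (Lpr_bt (f255287 IH) (Lpr_ct (K14.f31630 IH) (Lpr_bt (K16.f255286 IH) (Lpr_ct (K15.f266650 IH) (Lpr_bt (f266659 IH) (Lpn (LP (LK LD1_c15 LD2_c27 LD3_c59))))))))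
theorem f554606 : Led Lsl_dt (LP (LK LD1_c15 LD2_c28 LD3_c30)) = (LP (LK LD1_c15 LD2_c27 LD3_c59)) :=
  Lgr Lrot182 (Lpe (f182703 IH) (Lpe (f182698 IH) (Lpe (K9.f182697 IH) (Lpr_df (f321258 IH) (Lpe (K26.f321244 IH) (Lpe (K11.f204876 IH) (Lpe (K11.f204874 IH) (Lpr_df (K11.f204868 IH) (Lpe (K11.f168999 IH) (Lpe (K12.f204877 IH) (Lpe (K12.f196361 IH) (Lpe (K13.f211601 IH) (Lpe (K10.f33761 IH) (Lpe (f197239 IH) (Lpe (f211612 IH) (Lpr_df (f554600 IH) (Lpe (K15.f266644 IH) (Lpe (f255287 IH) (Lpr_cf (f266660 IH) (Lpn (LP (LK LD1_c15 LD2_c27 LD3_c59))))))))))))))))))))))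
theorem f554608 : Led Lsl_bf (LP (LK LD1_c15 LD2_c28 LD3_c30)) = (LP (LK LD1_c15 LD2_c27 LD3_c60)) :=
  Lgr Lrot93 (Lpr_dt (f554606 IH) (Lpr_bt (K21.f266679 IH) (Lpr_dt (K15.f266664 IH) (Lpn (LP (LK LD1_c15 LD2_c27 LD3_c60))))))
theorem f182898 : Led Lsl_bt (LP (LK LD1_c8 LD2_c13 LD3_c53)) = (LP (LK LD1_c4 LD2_c6 LD3_c39)) :=
  Lre_b IH (LK LD1_c8 LD2_c13 LD3_c53) (LK LD1_c4 LD2_c6 LD3_c39) Lrfl Lrfl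
theorem f182573 : Led Lsl_bt (LP (LK LD1_c5 LD2_c23 LD3_c21)) = (LP (LK LD1_c2 LD2_c38 LD3_c8)) :=
  Lre_b IH (LK LD1_c5 LD2_c23 LD3_c21) (LK LD1_c2 LD2_c38 LD3_c8) Lrfl Lrfl
theorem f182574 : Led Lsl_bt (LP (LK LD1_c4 LD2_c6 LD3_c39)) = (LP (LK LD1_c8 LD2_c13 LD3_c53)) :=
  Lre_b IH (LK LD1_c4 LD2_c6 LD3_c39) (LK LD1_c8 LD2_c13 LD3_c53) Lrfl Lrfl
theorem f182575 : Led Lsl_cf (LP (LK LD1_c5 LD2_c23 LD3_c21)) = (LP (LK LD1_c8 LD2_c13 LD3_c53)) :=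
  Lgr Lrot97 (Lpr_bt (f182573 IH) (Lpr_ct (K15.f42502 IH) (Lpr_bt (K10.f182155 IH) (Lpr_ct (K9.f182571 IH) (Lpr_bt (f182574 IH) (Lpn (LP (LK LD1_c8 LD2_c13 LD3_c53))))))))
theorem f42519 : Led Lsl_gt (LP (LK LD1_c10 LD2_c37 LD3_c14)) = (LP (LK LD1_c5 LD2_c23 LD3_c21)) :=
  Lre_g IH (LK LD1_c10 LD2_c37 LD3_c14) (LK LD1_c5 LD2_c23 LD3_c21) Lrfl Lrfl
theorem f554620 : Led Lsl_cf (LP (LK LD1_c10 LD2_c37 LD3_c14)) = (LP (LK LD1_c15 LD2_c27 LD3_c60)) :=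
  Lgr Lrot160 (Lpr_gt (f42519 IH) (Lpr_cf (f182575 IH) (Lpr_bt (f182898 IH) (Lpr_gt (K9.f54961 IH) (Lpr_ct (K10.f54955 IH) (Lpr_gt (K9.f55009 IH) (Lpe (K16.f182604 IH) (Lpr_bt (f182698 IH) (Lpr_gt (f182703 IH) (Lpr_bf (f554608 IH) (Lpn (LP (LK LD1_c15 LD2_c27 LD3_c60)))))))))))))
theorem f54658 : Led Lsl_bt (LP (LK LD1_c4 LD2_c6 LD3_c40)) = (LP (LK LD1_c2 LD2_c0 LD3_c39)) :=
  Lre_b IH (LK LD1_c4 LD2_c6 LD3_c40) (LK LD1_c2 LD2_c0 LD3_c39) Lrfl Lrfl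
theorem f54789 : Led Lsl_ct (LP (LK LD1_c4 LD2_c6 LD3_c40)) = (LP (LK LD1_c2 LD2_c0 LD3_c51)) :=
  Lre_c IH (LK LD1_c4 LD2_c6 LD3_c40) (LK LD1_c2 LD2_c0 LD3_c51) Lrfl Lrfl
theorem f54890 : Led Lsl_gt (LP (LK LD1_c2 LD2_c0 LD3_c51)) = (LP (LK LD1_c4 LD2_c6 LD3_c59)) :=
  Lre_g IH (LK LD1_c2 LD2_c0 LD3_c51) (LK LD1_c4 LD2_c6 LD3_c59) Lrfl Lrfl
theorem f182925 : Led Lsl_ct (LP (LK LD1_c8 LD2_c14 LD3_c30)) = (LP (LK LD1_c4 LD2_c6 LD3_c59)) :=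
  Lre_c IH (LK LD1_c8 LD2_c14 LD3_c30) (LK LD1_c4 LD2_c6 LD3_c59) Lrfl Lrfl
theorem f554640 : Led Lsl_bt (LP (LK LD1_c8 LD2_c14 LD3_c30)) = (LP (LK LD1_c15 LD2_c27 LD3_c31)) :=
  Lgr Lrot130 (Lpr_ct (f182925 IH) (Lpe (f54890 IH) (Lpe (f54789 IH) (Lpr_bt (f54658 IH) (Lpe (K9.f54961 IH) (Lpe (f182898 IH) (Lpe (f182575 IH) (Lpe (f42519 IH) (Lpr_cf (f554620 IH) (Lpr_gf (K18.f274100 IH) (Lpn (LP (LK LD1_c15 LD2_c27 LD3_c31)))))))))))))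
theorem f554643 : Led Lsl_bf (LP (LK LD1_c8 LD2_c14 LD3_c30)) = (LP (LK LD1_c15 LD2_c27 LD3_c31)) :=
  Lgr Lrot24 (Lpr_bt (f554640 IH) (Lpn (LP (LK LD1_c15 LD2_c27 LD3_c31))))
theorem f178255 : Led Lsl_gt (LP (LK LD1_c8 LD2_c14 LD3_c30)) = (LP (LK LD1_c15 LD2_c30 LD3_c16)) :=
  Lre_g IH (LK LD1_c8 LD2_c14 LD3_c30) (LK LD1_c15 LD2_c30 LD3_c16) Lrfl Lrfl
theorem f187605 : Led Lsl_bt (LP (LK LD1_c25 LD2_c23 LD3_c31)) = (LP (LK LD1_c15 LD2_c30 LD3_c16)) :=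
  Lre_b IH (LK LD1_c25 LD2_c23 LD3_c31) (LK LD1_c15 LD2_c30 LD3_c16) Lrfl Lrfl
theorem f187515 : Led Lsl_bt (LP (LK LD1_c1 LD2_c16 LD3_c42)) = (LP (LK LD1_c2 LD2_c39 LD3_c56)) :=
  Lre_b IH (LK LD1_c1 LD2_c16 LD3_c42) (LK LD1_c2 LD2_c39 LD3_c56) Lrfl Lrfl
theorem f187516 : Led Lsl_ct (LP (LK LD1_c2 LD2_c39 LD3_c56)) = (LP (LK LD1_c5 LD2_c27 LD3_c1)) :=
  Lre_c IH (LK LD1_c2 LD2_c39 LD3_c56) (LK LD1_c5 LD2_c27 LD3_c1) Lrfl Lrfl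
theorem f187517 : Led Lsl_bt (LP (LK LD1_c5 LD2_c27 LD3_c1)) = (LP (LK LD1_c2 LD2_c43 LD3_c61)) :=
  Lgr Lrot128 (Lpe (f187516 IH) (Lpe (f187515 IH) (Lpr_cf (K10.f187513 IH) (Lpe (K10.f178248 IH) (Lpe (K15.f178249 IH) (Lpn (LP (LK LD1_c2 LD2_c43 LD3_c61))))))))
theorem f187576 : Led Lsl_ct (LP (LK LD1_c5 LD2_c27 LD3_c1)) = (LP (LK LD1_c2 LD2_c39 LD3_c56)) :=
  Lre_c IH (LK LD1_c5 LD2_c27 LD3_c1) (LK LD1_c2 LD2_c39 LD3_c56) Lrfl Lrfl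
theorem f187580 : Led Lsl_gt (LP (LK LD1_c5 LD2_c26 LD3_c61)) = (LP (LK LD1_c2 LD2_c39 LD3_c56)) :=
  Lre_g IH (LK LD1_c5 LD2_c26 LD3_c61) (LK LD1_c2 LD2_c39 LD3_c56) Lrfl Lrfl
theorem f187585 : Led Lsl_ct (LP (LK LD1_c10 LD2_c45 LD3_c3)) = (LP (LK LD1_c5 LD2_c26 LD3_c61)) :=
  Lre_c IH (LK LD1_c10 LD2_c45 LD3_c3) (LK LD1_c5 LD2_c26 LD3_c61) Lrfl Lrfl
theorem f216133 : Led Lsl_gt (LP (LK LD1_c9 LD2_c33 LD3_c28)) = (LP (LK LD1_c17 LD2_c35 LD3_c61)) :=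
  Lre_g IH (LK LD1_c9 LD2_c33 LD3_c28) (LK LD1_c17 LD2_c35 LD3_c61) Lrfl Lrfl
theorem f216256 : Led Lsl_bt (LP (LK LD1_c10 LD2_c45 LD3_c3)) = (LP (LK LD1_c17 LD2_c35 LD3_c61)) :=
  Lgr Lrot92 (Lpr_ct (f187585 IH) (Lpr_gt (f187580 IH) (Lpe (f187576 IH) (Lpr_bt (f187517 IH) (Lpe (K10.f188027 IH) (Lpr_ct (K10.f31012 IH) (Lpr_gt (K13.f28797 IH) (Lpr_cf (K14.f216126 IH) (Lpr_bt (K17.f216123 IH) (Lpr_gt (f216133 IH) (Lpn (LP (LK LD1_c17 LD2_c35 LD3_c61)))))))))))))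
theorem f187604 : Led Lsl_ct (LP (LK LD1_c5 LD2_c26 LD3_c61)) = (LP (LK LD1_c10 LD2_c45 LD3_c3)) :=
  Lre_c IH (LK LD1_c5 LD2_c26 LD3_c61) (LK LD1_c10 LD2_c45 LD3_c3) Lrfl Lrfl
theorem f187581 : Led Lsl_bt (LP (LK LD1_c10 LD2_c45 LD3_c2)) = (LP (LK LD1_c5 LD2_c26 LD3_c61)) :=
  Lre_b IH (LK LD1_c10 LD2_c45 LD3_c2) (LK LD1_c5 LD2_c26 LD3_c61) Lrfl Lrfl
theorem f187519 : Led Lsl_ct (LP (LK LD1_c1 LD2_c16 LD3_c42)) = (LP (LK LD1_c0 LD2_c36 LD3_c11)) :=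
  Lgr Lrot59 (Lpr_cf (K10.f187513 IH) (Lpn (LP (LK LD1_c0 LD2_c36 LD3_c11))))
theorem f178254 : Led Lsl_ct (LP (LK LD1_c4 LD2_c6 LD3_c59)) = (LP (LK LD1_c8 LD2_c14 LD3_c30)) :=
  Lre_c IH (LK LD1_c4 LD2_c6 LD3_c59) (LK LD1_c8 LD2_c14 LD3_c30) Lrfl Lrfl
theorem f187582 : Led Lsl_ct (LP (LK LD1_c10 LD2_c45 LD3_c2)) = (LP (LK LD1_c15 LD2_c30 LD3_c16)) :=
  Lgr Lrot63 (Lpr_bt (f187581 IH) (Lpr_gt (f187580 IH) (Lpe (f187515 IH) (Lpr_ct (f187519 IH) (Lpe (K9.f178181 IH) (Lpe (K1.f54853 IH) (Lpr_bt (K1.f54785 IH) (Lpr_gt (f54890 IH) (Lpr_ct (f178254 IH) (Lpr_gt (f178255 IH) (Lpn (LP (LK LD1_c15 LD2_c30 LD3_c16)))))))))))))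
theorem f187587 : Led Lsl_cf (LP (LK LD1_c10 LD2_c45 LD3_c2)) = (LP (LK LD1_c15 LD2_c30 LD3_c16)) :=
  Lgr Lrot11 (Lpr_ct (f187582 IH) (Lpn (LP (LK LD1_c15 LD2_c30 LD3_c16))))
theorem f216260 : Led Lsl_cf (LP (LK LD1_c25 LD2_c23 LD3_c31)) = (LP (LK LD1_c17 LD2_c35 LD3_c61)) :=
  Lgr Lrot97 (Lpr_bt (f187605 IH) (Lpe (f187587 IH) (Lpr_bt (f187581 IH) (Lpr_ct (f187604 IH) (Lpr_bt (f216256 IH) (Lpn (LP (LK LD1_c17 LD2_c35 LD3_c61))))))))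
theorem f216264 : Led Lsl_ct (LP (LK LD1_c25 LD2_c23 LD3_c31)) = (LP (LK LD1_c17 LD2_c35 LD3_c61)) :=
  Lgr Lrot59 (Lpr_cf (f216260 IH) (Lpn (LP (LK LD1_c17 LD2_c35 LD3_c61))))
theorem f283691 : Led Lsl_at (LP (LK LD1_c8 LD2_c6 LD3_c55)) = (LP (LK LD1_c15 LD2_c16 LD3_c50)) :=
  Lre_a IH (LK LD1_c8 LD2_c6 LD3_c55) (LK LD1_c15 LD2_c16 LD3_c50) Lrfl Lrfl
theorem f283697 : Led Lsl_gf (LP (LK LD1_c15 LD2_c16 LD3_c50)) = (LP (LK LD1_c17 LD2_c35 LD3_c61)) :=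
  Lgr Lrot76 (Lpe (f283691 IH) (Lpr_ff (K17.f283689 IH) (Lpr_gt (f216133 IH) (Lpn (LP (LK LD1_c17 LD2_c35 LD3_c61))))))
theorem f194262 : Led Lsl_bt (LP (LK LD1_c15 LD2_c29 LD3_c0)) = (LP (LK LD1_c8 LD2_c13 LD3_c52)) :=
  Lre_b IH (LK LD1_c15 LD2_c29 LD3_c0) (LK LD1_c8 LD2_c13 LD3_c52) Lrfl Lrfl
theorem f216220 : Led Lsl_cf (LP (LK LD1_c15 LD2_c29 LD3_c0)) = (LP (LK LD1_c17 LD2_c36 LD3_c1)) :=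
  Lgr Lrot97 (Lpr_bt (f194262 IH) (Lpr_ct (K17.f194246 IH) (Lpe (K22.f194258 IH) (Lpr_ct (K20.f216213 IH) (Lpr_bt (K18.f216217 IH) (Lpn (LP (LK LD1_c17 LD2_c36 LD3_c1))))))))
theorem f216226 : Led Lsl_et (LP (LK LD1_c15 LD2_c29 LD3_c0)) = (LP (LK LD1_c8 LD2_c13 LD3_c50)) :=
  Lre_e IH (LK LD1_c15 LD2_c29 LD3_c0) (LK LD1_c8 LD2_c13 LD3_c50) Lrfl Lrfl
theorem f216227 : Led Lsl_et (LP (LK LD1_c9 LD2_c33 LD3_c28)) = (LP (LK LD1_c17 LD2_c36 LD3_c1)) :=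
  Lre_e IH (LK LD1_c9 LD2_c33 LD3_c28) (LK LD1_c17 LD2_c36 LD3_c1) Lrfl Lrfl
theorem f216228 : Led Lsl_ct (LP (LK LD1_c8 LD2_c13 LD3_c50)) = (LP (LK LD1_c9 LD2_c33 LD3_c28)) :=
  Lgr Lrot15 (Lpe (f216226 IH) (Lpr_cf (f216220 IH) (Lpe (f216227 IH) (Lpn (LP (LK LD1_c9 LD2_c33 LD3_c28))))))
theorem f194640 : Led Lsl_bt (LP (LK LD1_c5 LD2_c22 LD3_c44)) = (LP (LK LD1_c10 LD2_c35 LD3_c45)) :=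
  Lre_b IH (LK LD1_c5 LD2_c22 LD3_c44) (LK LD1_c10 LD2_c35 LD3_c45) Lrfl Lrfl
theorem f194254 : Led Lsl_bt (LP (LK LD1_c8 LD2_c13 LD3_c50)) = (LP (LK LD1_c4 LD2_c6 LD3_c38)) :=
  Lre_b IH (LK LD1_c8 LD2_c13 LD3_c50) (LK LD1_c4 LD2_c6 LD3_c38) Lrfl Lrfl
theorem f283647 : Led Lsl_ft (LP (LK LD1_c10 LD2_c35 LD3_c45)) = (LP (LK LD1_c8 LD2_c13 LD3_c50)) :=
  Lgr Lrot75 (Lpe (f194640 IH) (Lpr_ff (K17.f283645 IH) (Lpe (f194254 IH) (Lpn (LP (LK LD1_c8 LD2_c13 LD3_c50))))))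
theorem f283694 : Led Lsl_ct (LP (LK LD1_c8 LD2_c6 LD3_c55)) = (LP (LK LD1_c10 LD2_c35 LD3_c45)) :=
  Lgr Lrot40 (Lpr_ff (K17.f283689 IH) (Lpe (f216228 IH) (Lpe (f283647 IH) (Lpn (LP (LK LD1_c10 LD2_c35 LD3_c45))))))
theorem f283700 : Led Lsl_at (LP (LK LD1_c15 LD2_c16 LD3_c50)) = (LP (LK LD1_c8 LD2_c6 LD3_c55)) :=
  Lre_a IH (LK LD1_c15 LD2_c16 LD3_c50) (LK LD1_c8 LD2_c6 LD3_c55) Lrfl Lrfl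
theorem f283701 : Led Lsl_at (LP (LK LD1_c10 LD2_c35 LD3_c45)) = (LP (LK LD1_c19 LD2_c11 LD3_c17)) :=
  Lre_a IH (LK LD1_c10 LD2_c35 LD3_c45) (LK LD1_c19 LD2_c11 LD3_c17) Lrfl Lrfl
theorem f283702 : Led Lsl_cf (LP (LK LD1_c15 LD2_c16 LD3_c50)) = (LP (LK LD1_c19 LD2_c11 LD3_c17)) :=
  Lgr Lrot1 (Lpr_at (f283700 IH) (Lpr_ct (f283694 IH) (Lpr_at (f283701 IH) (Lpn (LP (LK LD1_c19 LD2_c11 LD3_c17))))))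
theorem f554771 : Led Lsl_bt (LP (LK LD1_c19 LD2_c11 LD3_c17)) = (LP (LK LD1_c10 LD2_c35 LD3_c46)) :=
  Lgr Lrot130 (Lpe (f283702 IH) (Lpr_gf (f283697 IH) (Lpe (f216264 IH) (Lpr_bt (f187605 IH) (Lpe (f178255 IH) (Lpr_bf (f554643 IH) (Lpe (K17.f265114 IH) (Lpr_gf (K15.f265278 IH) (Lpe (K14.f256233 IH) (Lpe (K15.f265057 IH) (Lpn (LP (LK LD1_c10 LD2_c35 LD3_c46)))))))))))))
theorem f256128 : Led Lsl_bt (LP (LK LD1_c10 LD2_c35 LD3_c45)) = (LP (LK LD1_c5 LD2_c22 LD3_c44)) :=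
  Lre_b IH (LK LD1_c10 LD2_c35 LD3_c45) (LK LD1_c5 LD2_c22 LD3_c44) Lrfl Lrfl
theorem f194242 : Led Lsl_bt (LP (LK LD1_c4 LD2_c6 LD3_c38)) = (LP (LK LD1_c8 LD2_c13 LD3_c50)) :=
  Lre_b IH (LK LD1_c4 LD2_c6 LD3_c38) (LK LD1_c8 LD2_c13 LD3_c50) Lrfl Lrfl
theorem f283636 : Led Lsl_ff (LP (LK LD1_c10 LD2_c35 LD3_c45)) = (LP (LK LD1_c8 LD2_c13 LD3_c50)) :=
  Lgr Lrot25 (Lpr_bt (f256128 IH) (Lpr_ft (K17.f283634 IH) (Lpr_bt (f194242 IH) (Lpn (LP (LK LD1_c8 LD2_c13 LD3_c50))))))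
theorem f194249 : Led Lsl_gt (LP (LK LD1_c8 LD2_c13 LD3_c50)) = (LP (LK LD1_c15 LD2_c28 LD3_c59)) :=
  Lre_g IH (LK LD1_c8 LD2_c13 LD3_c50) (LK LD1_c15 LD2_c28 LD3_c59) Lrfl Lrfl
theorem f409341 : Led Lsl_gf (LP (LK LD1_c19 LD2_c11 LD3_c17)) = (LP (LK LD1_c15 LD2_c28 LD3_c59)) :=
  Lgr Lrot76 (Lpe (f283701 IH) (Lpr_ff (f283636 IH) (Lpr_gt (f194249 IH) (Lpn (LP (LK LD1_c15 LD2_c28 LD3_c59))))))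
theorem f215413 : Led Lsl_gt (LP (LK LD1_c10 LD2_c34 LD3_c25)) = (LP (LK LD1_c5 LD2_c22 LD3_c1)) :=
  Lre_g IH (LK LD1_c10 LD2_c34 LD3_c25) (LK LD1_c5 LD2_c22 LD3_c1) Lrfl Lrfl
theorem f216015 : Led Lsl_ct (LP (LK LD1_c19 LD2_c9 LD3_c11)) = (LP (LK LD1_c10 LD2_c34 LD3_c25)) :=
  Lre_c IH (LK LD1_c19 LD2_c9 LD3_c11) (LK LD1_c10 LD2_c34 LD3_c25) Lrfl Lrfl
theorem f216018 : Led Lsl_bt (LP (LK LD1_c19 LD2_c9 LD3_c11)) = (LP (LK LD1_c15 LD2_c28 LD3_c59)) :=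
  Lgr Lrot92 (Lpr_ct (f216015 IH) (Lpr_gt (f215413 IH) (Lpr_cf (K25.f215990 IH) (Lpr_bt (K25.f213975 IH) (Lpe (K13.f214077 IH) (Lpr_ct (K10.f54077 IH) (Lpr_gt (K13.f54288 IH) (Lpe (K16.f194243 IH) (Lpr_bt (f194242 IH) (Lpr_gt (f194249 IH) (Lpn (LP (LK LD1_c15 LD2_c28 LD3_c59)))))))))))))
theorem f216010 : Led Lsl_at (LP (LK LD1_c10 LD2_c34 LD3_c26)) = (LP (LK LD1_c5 LD2_c22 LD3_c1)) :=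
  Lre_a IH (LK LD1_c10 LD2_c34 LD3_c26) (LK LD1_c5 LD2_c22 LD3_c1) Lrfl Lrfl
theorem f342769 : Led Lsl_gt (LP (LK LD1_c19 LD2_c2 LD3_c49)) = (LP (LK LD1_c10 LD2_c34 LD3_c25)) :=
  Lgr Lrot5 (Lpr_ft (K25.f342760 IH) (Lpr_at (f216010 IH) (Lpe (f215413 IH) (Lpn (LP (LK LD1_c10 LD2_c34 LD3_c25))))))
theorem f194942 : Led Lsl_dt (LP (LK LD1_c10 LD2_c34 LD3_c17)) = (LP (LK LD1_c19 LD2_c8 LD3_c54)) :=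
  Lre_d IH (LK LD1_c10 LD2_c34 LD3_c17) (LK LD1_c19 LD2_c8 LD3_c54) Lrfl Lrfl
theorem f342740 : Led Lsl_bt (LP (LK LD1_c19 LD2_c2 LD3_c49)) = (LP (LK LD1_c10 LD2_c34 LD3_c17)) :=
  Lgr Lrot95 (Lpe (K25.f182717 IH) (Lpr_bf (K25.f342736 IH) (Lpe (f194942 IH) (Lpn (LP (LK LD1_c10 LD2_c34 LD3_c17))))))
theorem f51365 : Led Lsl_bt (LP (LK LD1_c8 LD2_c15 LD3_c22)) = (LP (LK LD1_c4 LD2_c7 LD3_c41)) :=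
  Lre_b IH (LK LD1_c8 LD2_c15 LD3_c22) (LK LD1_c4 LD2_c7 LD3_c41) Lrfl Lrfl
theorem f191440 : Led Lsl_at (LP (LK LD1_c15 LD2_c31 LD3_c31)) = (LP (LK LD1_c8 LD2_c15 LD3_c22)) :=
  Lre_a IH (LK LD1_c15 LD2_c31 LD3_c31) (LK LD1_c8 LD2_c15 LD3_c22) Lrfl Lrfl
theorem f184128 : Led Lsl_bt (LP (LK LD1_c4 LD2_c8 LD3_c2)) = (LP (LK LD1_c8 LD2_c16 LD3_c5)) :=
  Lre_b IH (LK LD1_c4 LD2_c8 LD3_c2) (LK LD1_c8 LD2_c16 LD3_c5) Lrfl Lrfl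
theorem f194786 : Led Lsl_at (LP (LK LD1_c8 LD2_c16 LD3_c5)) = (LP (LK LD1_c15 LD2_c32 LD3_c40)) :=
  Lre_a IH (LK LD1_c8 LD2_c16 LD3_c5) (LK LD1_c15 LD2_c32 LD3_c40) Lrfl Lrfl
theorem f325200 : Led Lsl_bf (LP (LK LD1_c15 LD2_c31 LD3_c31)) = (LP (LK LD1_c15 LD2_c32 LD3_c40)) :=
  Lgr Lrot81 (Lpr_at (f191440 IH) (Lpr_bt (f51365 IH) (Lpr_at (K21.f325196 IH) (Lpr_bt (f184128 IH) (Lpr_at (f194786 IH) (Lpn (LP (LK LD1_c15 LD2_c32 LD3_c40))))))))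
theorem f191430 : Led Lsl_et (LP (LK LD1_c8 LD2_c15 LD3_c22)) = (LP (LK LD1_c15 LD2_c31 LD3_c32)) :=
  Lre_e IH (LK LD1_c8 LD2_c15 LD3_c22) (LK LD1_c15 LD2_c31 LD3_c32) Lrfl Lrfl
theorem f191431 : Led Lsl_et (LP (LK LD1_c25 LD2_c19 LD3_c15)) = (LP (LK LD1_c15 LD2_c27 LD3_c30)) :=
  Lre_e IH (LK LD1_c25 LD2_c19 LD3_c15) (LK LD1_c15 LD2_c27 LD3_c30) Lrfl Lrfl
theorem f191432 : Led Lsl_cf (LP (LK LD1_c8 LD2_c15 LD3_c22)) = (LP (LK LD1_c15 LD2_c27 LD3_c30)) :=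
  Lgr Lrot39 (Lpr_et (f191430 IH) (Lpr_ct (K19.f191412 IH) (Lpr_et (f191431 IH) (Lpn (LP (LK LD1_c15 LD2_c27 LD3_c30))))))
theorem f191435 : Led Lsl_at (LP (LK LD1_c8 LD2_c15 LD3_c22)) = (LP (LK LD1_c15 LD2_c31 LD3_c31)) :=
  Lre_a IH (LK LD1_c8 LD2_c15 LD3_c22) (LK LD1_c15 LD2_c31 LD3_c31) Lrfl Lrfl
theorem f191436 : Led Lsl_at (LP (LK LD1_c25 LD2_c19 LD3_c14)) = (LP (LK LD1_c15 LD2_c27 LD3_c30)) :=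
  Lre_a IH (LK LD1_c25 LD2_c19 LD3_c14) (LK LD1_c15 LD2_c27 LD3_c30) Lrfl Lrfl
theorem f191437 : Led Lsl_ct (LP (LK LD1_c15 LD2_c31 LD3_c31)) = (LP (LK LD1_c25 LD2_c19 LD3_c14)) :=
  Lgr Lrot111 (Lpe (f191435 IH) (Lpr_cf (f191432 IH) (Lpe (f191436 IH) (Lpn (LP (LK LD1_c25 LD2_c19 LD3_c14))))))
theorem f342859 : Led Lsl_bf (LP (LK LD1_c15 LD2_c28 LD3_c32)) = (LP (LK LD1_c25 LD2_c19 LD3_c14)) :=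
  Lgr Lrot90 (Lpe (K25.f182715 IH) (Lpr_bt (f342740 IH) (Lpe (K25.f194920 IH) (Lpe (f325200 IH) (Lpr_ct (f191437 IH) (Lpn (LP (LK LD1_c25 LD2_c19 LD3_c14))))))))
theorem f342868 : Led Lsl_bt (LP (LK LD1_c15 LD2_c28 LD3_c32)) = (LP (LK LD1_c25 LD2_c19 LD3_c14)) :=
  Lgr Lrot127 (Lpr_bf (f342859 IH) (Lpn (LP (LK LD1_c25 LD2_c19 LD3_c14))))
theorem f187338 : Led Lsl_bt (LP (LK LD1_c4 LD2_c6 LD3_c36)) = (LP (LK LD1_c8 LD2_c13 LD3_c45)) :=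
  Lre_b IH (LK LD1_c4 LD2_c6 LD3_c36) (LK LD1_c8 LD2_c13 LD3_c45) Lrfl Lrfl
theorem f187988 : Led Lsl_bt (LP (LK LD1_c15 LD2_c27 LD3_c30)) = (LP (LK LD1_c8 LD2_c13 LD3_c4)) :=
  Lre_b IH (LK LD1_c15 LD2_c27 LD3_c30) (LK LD1_c8 LD2_c13 LD3_c4) Lrfl Lrfl
theorem f325127 : Led Lsl_ft (LP (LK LD1_c8 LD2_c13 LD3_c45)) = (LP (LK LD1_c15 LD2_c27 LD3_c30)) :=
  Lgr Lrot75 (Lpe (f187338 IH) (Lpr_ff (K21.f325124 IH) (Lpe (f187988 IH) (Lpn (LP (LK LD1_c15 LD2_c27 LD3_c30))))))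
theorem f187339 : Led Lsl_gt (LP (LK LD1_c8 LD2_c13 LD3_c45)) = (LP (LK LD1_c15 LD2_c28 LD3_c48)) :=
  Lre_g IH (LK LD1_c8 LD2_c13 LD3_c45) (LK LD1_c15 LD2_c28 LD3_c48) Lrfl Lrfl
theorem f191448 : Led Lsl_at (LP (LK LD1_c15 LD2_c27 LD3_c30)) = (LP (LK LD1_c25 LD2_c19 LD3_c14)) :=
  Lre_a IH (LK LD1_c15 LD2_c27 LD3_c30) (LK LD1_c25 LD2_c19 LD3_c14) Lrfl Lrfl
theorem f401833 : Led Lsl_gt (LP (LK LD1_c15 LD2_c28 LD3_c48)) = (LP (LK LD1_c25 LD2_c19 LD3_c14)) :=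
  Lgr Lrot46 (Lpe (f187339 IH) (Lpr_ft (f325127 IH) (Lpr_at (f191448 IH) (Lpn (LP (LK LD1_c25 LD2_c19 LD3_c14))))))
theorem f216240 : Led Lsl_bt (LP (LK LD1_c25 LD2_c21 LD3_c9)) = (LP (LK LD1_c15 LD2_c28 LD3_c48)) :=
  Lre_b IH (LK LD1_c25 LD2_c21 LD3_c9) (LK LD1_c15 LD2_c28 LD3_c48) Lrfl Lrfl
theorem f216241 : Led Lsl_gt (LP (LK LD1_c17 LD2_c36 LD3_c0)) = (LP (LK LD1_c9 LD2_c33 LD3_c28)) :=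
  Lre_g IH (LK LD1_c17 LD2_c36 LD3_c0) (LK LD1_c9 LD2_c33 LD3_c28) Lrfl Lrfl
theorem f216242 : Led Lsl_ct (LP (LK LD1_c25 LD2_c21 LD3_c9)) = (LP (LK LD1_c17 LD2_c36 LD3_c0)) :=
  Lgr Lrot64 (Lpr_bt (f216240 IH) (Lpe (f187339 IH) (Lpe (f187338 IH) (Lpr_ct (K16.f187303 IH) (Lpe (K10.f47855 IH) (Lpe (K16.f55040 IH) (Lpe (K13.f54982 IH) (Lpe (f194254 IH) (Lpr_ct (f216228 IH) (Lpe (f216241 IH) (Lpn (LP (LK LD1_c17 LD2_c36 LD3_c0)))))))))))))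
theorem f409343 : Led Lsl_gt (LP (LK LD1_c15 LD2_c16 LD3_c50)) = (LP (LK LD1_c17 LD2_c36 LD3_c0)) :=
  Lgr Lrot149 (Lpr_cf (f283702 IH) (Lpr_gf (f409341 IH) (Lpe (f216018 IH) (Lpr_ct (f216015 IH) (Lpe (f342769 IH) (Lpr_cf (K25.f182715 IH) (Lpr_bt (f342868 IH) (Lpe (f401833 IH) (Lpe (f216240 IH) (Lpr_ct (f216242 IH) (Lpn (LP (LK LD1_c17 LD2_c36 LD3_c0)))))))))))))
theorem f191444 : Led Lsl_cf (LP (LK LD1_c15 LD2_c31 LD3_c31)) = (LP (LK LD1_c25 LD2_c19 LD3_c14)) :=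
  Lgr Lrot11 (Lpr_ct (f191437 IH) (Lpn (LP (LK LD1_c25 LD2_c19 LD3_c14))))
theorem f188052 : Led Lsl_bt (LP (LK LD1_c8 LD2_c13 LD3_c45)) = (LP (LK LD1_c4 LD2_c6 LD3_c36)) :=
  Lre_b IH (LK LD1_c8 LD2_c13 LD3_c45) (LK LD1_c4 LD2_c6 LD3_c36) Lrfl Lrfl
theorem f188168 : Led Lsl_at (LP (LK LD1_c15 LD2_c28 LD3_c50)) = (LP (LK LD1_c8 LD2_c13 LD3_c45)) :=
  Lre_a IH (LK LD1_c15 LD2_c28 LD3_c50) (LK LD1_c8 LD2_c13 LD3_c45) Lrfl Lrfl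
theorem f213991 : Led Lsl_bt (LP (LK LD1_c4 LD2_c55 LD3_c2)) = (LP (LK LD1_c9 LD2_c41 LD3_c40)) :=
  Lre_b IH (LK LD1_c4 LD2_c55 LD3_c2) (LK LD1_c9 LD2_c41 LD3_c40) Lrfl Lrfl
theorem f216053 : Led Lsl_at (LP (LK LD1_c9 LD2_c41 LD3_c40)) = (LP (LK LD1_c17 LD2_c50 LD3_c2)) :=
  Lre_a IH (LK LD1_c9 LD2_c41 LD3_c40) (LK LD1_c17 LD2_c50 LD3_c2) Lrfl Lrfl
theorem f325136 : Led Lsl_bf (LP (LK LD1_c15 LD2_c28 LD3_c50)) = (LP (LK LD1_c17 LD2_c50 LD3_c2)) :=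
  Lgr Lrot81 (Lpr_at (f188168 IH) (Lpr_bt (f188052 IH) (Lpr_at (K21.f325134 IH) (Lpr_bt (f213991 IH) (Lpr_at (f216053 IH) (Lpn (LP (LK LD1_c17 LD2_c50 LD3_c2))))))))
theorem f342870 : Led Lsl_ft (LP (LK LD1_c15 LD2_c28 LD3_c50)) = (LP (LK LD1_c25 LD2_c19 LD3_c14)) :=
  Lgr Lrot75 (Lpr_bf (f325136 IH) (Lpe (K25.f342775 IH) (Lpr_bf (f342859 IH) (Lpn (LP (LK LD1_c25 LD2_c19 LD3_c14))))))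
theorem f188139 : Led Lsl_bt (LP (LK LD1_c25 LD2_c26 LD3_c9)) = (LP (LK LD1_c15 LD2_c32 LD3_c52)) :=
  Lre_b IH (LK LD1_c25 LD2_c26 LD3_c9) (LK LD1_c15 LD2_c32 LD3_c52) Lrfl Lrfl
theorem f188141 : Led Lsl_bt (LP (LK LD1_c15 LD2_c28 LD3_c57)) = (LP (LK LD1_c25 LD2_c21 LD3_c14)) :=
  Lre_b IH (LK LD1_c15 LD2_c28 LD3_c57) (LK LD1_c25 LD2_c21 LD3_c14) Lrfl Lrfl
theorem f188142 : Led Lsl_cf (LP (LK LD1_c25 LD2_c26 LD3_c9)) = (LP (LK LD1_c25 LD2_c21 LD3_c14)) :=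
  Lgr Lrot97 (Lpr_bt (f188139 IH) (Lpr_ct (K25.f188136 IH) (Lpr_bt (K25.f188138 IH) (Lpr_ct (K25.f188140 IH) (Lpr_bt (f188141 IH) (Lpn (LP (LK LD1_c25 LD2_c21 LD3_c14))))))))
theorem f188147 : Led Lsl_ft (LP (LK LD1_c25 LD2_c26 LD3_c9)) = (LP (LK LD1_c15 LD2_c32 LD3_c50)) :=
  Lre_f IH (LK LD1_c25 LD2_c26 LD3_c9) (LK LD1_c15 LD2_c32 LD3_c50) Lrfl Lrfl
theorem f188148 : Led Lsl_ft (LP (LK LD1_c15 LD2_c28 LD3_c52)) = (LP (LK LD1_c25 LD2_c21 LD3_c14)) :=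
  Lre_f IH (LK LD1_c15 LD2_c28 LD3_c52) (LK LD1_c25 LD2_c21 LD3_c14) Lrfl Lrfl
theorem f188149 : Led Lsl_ct (LP (LK LD1_c15 LD2_c32 LD3_c50)) = (LP (LK LD1_c15 LD2_c28 LD3_c52)) :=
  Lgr Lrot40 (Lpe (f188147 IH) (Lpr_cf (f188142 IH) (Lpe (f188148 IH) (Lpn (LP (LK LD1_c15 LD2_c28 LD3_c52))))))
theorem f188158 : Led Lsl_et (LP (LK LD1_c8 LD2_c16 LD3_c8)) = (LP (LK LD1_c15 LD2_c32 LD3_c50)) :=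
  Lre_e IH (LK LD1_c8 LD2_c16 LD3_c8) (LK LD1_c15 LD2_c32 LD3_c50) Lrfl Lrfl
theorem f188159 : Led Lsl_et (LP (LK LD1_c15 LD2_c28 LD3_c52)) = (LP (LK LD1_c8 LD2_c13 LD3_c45)) :=
  Lre_e IH (LK LD1_c15 LD2_c28 LD3_c52) (LK LD1_c8 LD2_c13 LD3_c45) Lrfl Lrfl
theorem f188160 : Led Lsl_cf (LP (LK LD1_c8 LD2_c16 LD3_c8)) = (LP (LK LD1_c8 LD2_c13 LD3_c45)) :=
  Lgr Lrot39 (Lpr_et (f188158 IH) (Lpr_ct (f188149 IH) (Lpr_et (f188159 IH) (Lpn (LP (LK LD1_c8 LD2_c13 LD3_c45))))))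
theorem f188167 : Led Lsl_at (LP (LK LD1_c8 LD2_c16 LD3_c8)) = (LP (LK LD1_c15 LD2_c32 LD3_c48)) :=
  Lre_a IH (LK LD1_c8 LD2_c16 LD3_c8) (LK LD1_c15 LD2_c32 LD3_c48) Lrfl Lrfl
theorem f188169 : Led Lsl_ct (LP (LK LD1_c15 LD2_c32 LD3_c48)) = (LP (LK LD1_c15 LD2_c28 LD3_c50)) :=
  Lgr Lrot111 (Lpe (f188167 IH) (Lpr_cf (f188160 IH) (Lpe (f188168 IH) (Lpn (LP (LK LD1_c15 LD2_c28 LD3_c50))))))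
theorem f342874 : Led Lsl_ff (LP (LK LD1_c15 LD2_c32 LD3_c48)) = (LP (LK LD1_c15 LD2_c31 LD3_c31)) :=
  Lgr Lrot23 (Lpr_ct (f188169 IH) (Lpr_ft (f342870 IH) (Lpe (f191444 IH) (Lpn (LP (LK LD1_c15 LD2_c31 LD3_c31))))))
theorem f188173 : Led Lsl_at (LP (LK LD1_c15 LD2_c32 LD3_c48)) = (LP (LK LD1_c8 LD2_c16 LD3_c8)) :=
  Lre_a IH (LK LD1_c15 LD2_c32 LD3_c48) (LK LD1_c8 LD2_c16 LD3_c8) Lrfl Lrfl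
theorem f188176 : Led Lsl_gt (LP (LK LD1_c15 LD2_c32 LD3_c47)) = (LP (LK LD1_c8 LD2_c16 LD3_c8)) :=
  Lre_g IH (LK LD1_c15 LD2_c32 LD3_c47) (LK LD1_c8 LD2_c16 LD3_c8) Lrfl Lrfl
theorem f342895 : Led Lsl_gf (LP (LK LD1_c15 LD2_c32 LD3_c47)) = (LP (LK LD1_c15 LD2_c31 LD3_c31)) :=
  Lgr Lrot47 (Lpr_gt (f188176 IH) (Lpe (f188173 IH) (Lpr_ff (f342874 IH) (Lpn (LP (LK LD1_c15 LD2_c31 LD3_c31))))))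
theorem f274401 : Led Lsl_gf (LP (LK LD1_c10 LD2_c35 LD3_c46)) = (LP (LK LD1_c15 LD2_c27 LD3_c55)) :=
  Lgr Lrot143 (Lpr_dt (K15.f194635 IH) (Lpe (K15.f194632 IH) (Lpe (K10.f194627 IH) (Lpe (K15.f172019 IH) (Lpe (K15.f256095 IH) (Lpr_gf (K16.f263510 IH) (Lpe (K16.f187842 IH) (Lpr_gt (K16.f274389 IH) (Lpr_dt (K15.f252109 IH) (Lpn (LP (LK LD1_c15 LD2_c27 LD3_c55))))))))))))
theorem f554783 : Led Lsl_cf (LP (LK LD1_c15 LD2_c32 LD3_c47)) = (LP (LK LD1_c20 LD2_c59 LD3_c23)) :=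
  Lgr Lrot163 (Lpr_gf (f342895 IH) (Lpr_cf (f191444 IH) (Lpe (f401833 IH) (Lpe (f216240 IH) (Lpr_ct (f216242 IH) (Lpe (f409343 IH) (Lpr_cf (f283702 IH) (Lpr_bt (f554771 IH) (Lpr_gf (f274401 IH) (Lpe (K17.f252124 IH) (Lpn (LP (LK LD1_c20 LD2_c59 LD3_c23)))))))))))))
theorem f177484 : Led Lsl_ct (LP (LK LD1_c6 LD2_c4 LD3_c56)) = (LP (LK LD1_c2 LD2_c58 LD3_c39)) :=
  Lre_c IH (LK LD1_c6 LD2_c4 LD3_c56) (LK LD1_c2 LD2_c58 LD3_c39) Lrfl Lrfl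
theorem f554787 : Led Lsl_bt (LP (LK LD1_c6 LD2_c4 LD3_c56)) = (LP (LK LD1_c10 LD2_c37 LD3_c18)) :=
  Lgr Lrot22 (Lpr_ct (f177484 IH) (Lpe (K10.f194189 IH) (Lpe (K12.f28675 IH) (Lpe (K10.f194222 IH) (Lpe (f188052 IH) (Lpe (f188160 IH) (Lpe (f188176 IH) (Lpr_cf (f554783 IH) (Lpr_bt (K17.f252124 IH) (Lpe (K15.f266710 IH) (Lpn (LP (LK LD1_c10 LD2_c37 LD3_c18)))))))))))))
theorem f48135 : Led Lsl_bt (LP (LK LD1_c4 LD2_c20 LD3_c53)) = (LP (LK LD1_c8 LD2_c39 LD3_c26)) :=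
  Lre_b IH (LK LD1_c4 LD2_c20 LD3_c53) (LK LD1_c8 LD2_c39 LD3_c26) Lrfl Lrfl
theorem f48115 : Led Lsl_gt (LP (LK LD1_c16 LD2_c12 LD3_c53)) = (LP (LK LD1_c8 LD2_c39 LD3_c26)) :=
  Lre_g IH (LK LD1_c16 LD2_c12 LD3_c53) (LK LD1_c8 LD2_c39 LD3_c26) Lrfl Lrfl
theorem f554797 : Led Lsl_bf (LP (LK LD1_c16 LD2_c12 LD3_c53)) = (LP (LK LD1_c9 LD2_c41 LD3_c41)) :=
  Lgr Lrot156 (Lpr_gt (f48115 IH) (Lpe (f48135 IH) (Lpr_ct (K12.f28675 IH) (Lpr_gt (K10.f194189 IH) (Lpe (f177484 IH) (Lpr_bt (f554787 IH) (Lpr_gt (K15.f266710 IH) (Lpe (K15.f256238 IH) (Lpe (K15.f265061 IH) (Lpe (K15.f265109 IH) (Lpn (LP (LK LD1_c9 LD2_c41 LD3_c41)))))))))))))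
theorem f324889 : Led Lsl_ff (LP (LK LD1_c9 LD2_c41 LD3_c41)) = (LP (LK LD1_c8 LD2_c13 LD3_c39)) :=
  Lgr Lrot3 (Lpr_ft (K21.f324870 IH) (Lpn (LP (LK LD1_c8 LD2_c13 LD3_c39))))
theorem f324895 : Led Lsl_bt (LP (LK LD1_c15 LD2_c28 LD3_c33)) = (LP (LK LD1_c8 LD2_c13 LD3_c39)) :=
  Lre_b IH (LK LD1_c15 LD2_c28 LD3_c33) (LK LD1_c8 LD2_c13 LD3_c39) Lrfl Lrfl
theorem f554805 : Led Lsl_ft (LP (LK LD1_c16 LD2_c12 LD3_c53)) = (LP (LK LD1_c15 LD2_c28 LD3_c33)) :=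
  Lgr Lrot75 (Lpr_bf (f554797 IH) (Lpr_ff (f324889 IH) (Lpe (f324895 IH) (Lpn (LP (LK LD1_c15 LD2_c28 LD3_c33))))))
theorem f48116 : Led Lsl_gt (LP (LK LD1_c8 LD2_c39 LD3_c26)) = (LP (LK LD1_c16 LD2_c12 LD3_c52)) :=
  Lre_g IH (LK LD1_c8 LD2_c39 LD3_c26) (LK LD1_c16 LD2_c12 LD3_c52) Lrfl Lrfl
theorem f554811 : Led Lsl_af (LP (LK LD1_c16 LD2_c12 LD3_c52)) = (LP (LK LD1_c15 LD2_c28 LD3_c33)) :=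
  Lgr Lrot31 (Lpe (f48116 IH) (Lpe (f48115 IH) (Lpr_ft (f554805 IH) (Lpn (LP (LK LD1_c15 LD2_c28 LD3_c33))))))
theorem f554819 : Led Lsl_et (LP (LK LD1_c16 LD2_c12 LD3_c52)) = (LP (LK LD1_c26 LD2_c9 LD3_c46)) :=
  Lre_e IH (LK LD1_c16 LD2_c12 LD3_c52) (LK LD1_c26 LD2_c9 LD3_c46) Lrfl Lrfl
theorem f554820 : Led Lsl_et (LP (LK LD1_c25 LD2_c20 LD3_c48)) = (LP (LK LD1_c15 LD2_c28 LD3_c33)) :=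
  Lre_e IH (LK LD1_c25 LD2_c20 LD3_c48) (LK LD1_c15 LD2_c28 LD3_c33) Lrfl Lrfl
theorem f554821 : Led Lsl_at (LP (LK LD1_c26 LD2_c9 LD3_c46)) = (LP (LK LD1_c25 LD2_c20 LD3_c48)) :=
  Lgr Lrot80 (Lpe (f554819 IH) (Lpr_af (f554811 IH) (Lpe (f554820 IH) (Lpn (LP (LK LD1_c25 LD2_c20 LD3_c48))))))
theorem f554827 : Led Lsl_dt (LP (LK LD1_c32 LD2_c5 LD3_c18)) = (LP (LK LD1_c26 LD2_c9 LD3_c46)) :=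
  Lre_d IH (LK LD1_c32 LD2_c5 LD3_c18) (LK LD1_c26 LD2_c9 LD3_c46) Lrfl Lrfl
theorem f554828 : Led Lsl_dt (LP (LK LD1_c25 LD2_c20 LD3_c48)) = (LP (LK LD1_c31 LD2_c51 LD3_c28)) :=
  Lre_d IH (LK LD1_c25 LD2_c20 LD3_c48) (LK LD1_c31 LD2_c51 LD3_c28) Lrfl Lrfl
theorem f554829 : Led Lsl_af (LP (LK LD1_c32 LD2_c5 LD3_c18)) = (LP (LK LD1_c31 LD2_c51 LD3_c28)) :=
  Lgr Lrot117 (Lpr_dt (f554827 IH) (Lpr_at (f554821 IH) (Lpr_dt (f554828 IH) (Lpn (LP (LK LD1_c31 LD2_c51 LD3_c28))))))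
theorem f554835 : Led Lsl_et (LP (LK LD1_c25 LD2_c20 LD3_c51)) = (LP (LK LD1_c31 LD2_c51 LD3_c28)) :=
  Lre_e IH (LK LD1_c25 LD2_c20 LD3_c51) (LK LD1_c31 LD2_c51 LD3_c28) Lrfl Lrfl
theorem f324952 : Led Lsl_at (LP (LK LD1_c31 LD2_c51 LD3_c25)) = (LP (LK LD1_c25 LD2_c20 LD3_c51)) :=
  Lre_a IH (LK LD1_c31 LD2_c51 LD3_c25) (LK LD1_c25 LD2_c20 LD3_c51) Lrfl Lrfl
theorem f554836 : Led Lsl_et (LP (LK LD1_c32 LD2_c5 LD3_c18)) = (LP (LK LD1_c31 LD2_c51 LD3_c25)) :=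
  Lgr Lrot123 (Lpr_af (f554829 IH) (Lpe (f554835 IH) (Lpe (f324952 IH) (Lpn (LP (LK LD1_c31 LD2_c51 LD3_c25))))))
theorem f48118 : Led Lsl_dt (LP (LK LD1_c26 LD2_c9 LD3_c46)) = (LP (LK LD1_c32 LD2_c5 LD3_c18)) :=
  Lre_d IH (LK LD1_c26 LD2_c9 LD3_c46) (LK LD1_c32 LD2_c5 LD3_c18) Lrfl Lrfl
theorem f182732 : Led Lsl_dt (LP (LK LD1_c31 LD2_c51 LD3_c25)) = (LP (LK LD1_c25 LD2_c20 LD3_c47)) :=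
  Lre_d IH (LK LD1_c31 LD2_c51 LD3_c25) (LK LD1_c25 LD2_c20 LD3_c47) Lrfl Lrfl
theorem f182723 : Led Lsl_et (LP (LK LD1_c25 LD2_c20 LD3_c47)) = (LP (LK LD1_c15 LD2_c28 LD3_c32)) :=
  Lre_e IH (LK LD1_c25 LD2_c20 LD3_c47) (LK LD1_c15 LD2_c28 LD3_c32) Lrfl Lrfl
theorem f554838 : Led Lsl_df (LP (LK LD1_c16 LD2_c12 LD3_c52)) = (LP (LK LD1_c15 LD2_c28 LD3_c32)) :=
  Lgr Lrot70 (Lpr_et (f554819 IH) (Lpr_dt (f48118 IH) (Lpr_et (f554836 IH) (Lpr_dt (f182732 IH) (Lpr_et (f182723 IH) (Lpn (LP (LK LD1_c15 LD2_c28 LD3_c32))))))))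
theorem f274339 : Led Lsl_bt (LP (LK LD1_c8 LD2_c13 LD3_c46)) = (LP (LK LD1_c15 LD2_c28 LD3_c51)) :=
  Lre_b IH (LK LD1_c8 LD2_c13 LD3_c46) (LK LD1_c15 LD2_c28 LD3_c51) Lrfl Lrfl
theorem f554650 : Led Lsl_ff (LP (LK LD1_c8 LD2_c14 LD3_c30)) = (LP (LK LD1_c15 LD2_c28 LD3_c51)) :=
  Lgr Lrot25 (Lpr_bt (f554640 IH) (Lpe (K21.f325116 IH) (Lpr_bt (f274339 IH) (Lpn (LP (LK LD1_c15 LD2_c28 LD3_c51))))))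
theorem f554665 : Led Lsl_ft (LP (LK LD1_c8 LD2_c14 LD3_c30)) = (LP (LK LD1_c15 LD2_c28 LD3_c51)) :=
  Lgr Lrot48 (Lpr_ff (f554650 IH) (Lpn (LP (LK LD1_c15 LD2_c28 LD3_c51))))
theorem f554642 : Led Lsl_at (LP (LK LD1_c15 LD2_c30 LD3_c12)) = (LP (LK LD1_c8 LD2_c14 LD3_c30)) :=
  Lre_a IH (LK LD1_c15 LD2_c30 LD3_c12) (LK LD1_c8 LD2_c14 LD3_c30) Lrfl Lrfl
theorem f554668 : Led Lsl_ft (LP (LK LD1_c8 LD2_c14 LD3_c34)) = (LP (LK LD1_c15 LD2_c30 LD3_c12)) :=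
  Lre_f IH (LK LD1_c8 LD2_c14 LD3_c34) (LK LD1_c15 LD2_c30 LD3_c12) Lrfl Lrfl
theorem f554669 : Led Lsl_af (LP (LK LD1_c8 LD2_c14 LD3_c34)) = (LP (LK LD1_c15 LD2_c28 LD3_c51)) :=
  Lgr Lrot45 (Lpr_ft (f554668 IH) (Lpr_at (f554642 IH) (Lpr_ft (f554665 IH) (Lpn (LP (LK LD1_c15 LD2_c28 LD3_c51))))))
theorem f188196 : Led Lsl_dt (LP (LK LD1_c8 LD2_c13 LD3_c45)) = (LP (LK LD1_c15 LD2_c28 LD3_c51)) :=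
  Lre_d IH (LK LD1_c8 LD2_c13 LD3_c45) (LK LD1_c15 LD2_c28 LD3_c51) Lrfl Lrfl
theorem f554678 : Led Lsl_dt (LP (LK LD1_c8 LD2_c14 LD3_c34)) = (LP (LK LD1_c15 LD2_c28 LD3_c50)) :=
  Lgr Lrot44 (Lpr_af (f554669 IH) (Lpe (f188196 IH) (Lpe (f188168 IH) (Lpn (LP (LK LD1_c15 LD2_c28 LD3_c50))))))
theorem f554682 : Led Lsl_df (LP (LK LD1_c8 LD2_c14 LD3_c34)) = (LP (LK LD1_c15 LD2_c28 LD3_c50)) :=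
  Lgr Lrot38 (Lpr_dt (f554678 IH) (Lpn (LP (LK LD1_c15 LD2_c28 LD3_c50))))
theorem f194282 : Led Lsl_bt (LP (LK LD1_c8 LD2_c14 LD3_c34)) = (LP (LK LD1_c15 LD2_c30 LD3_c24)) :=
  Lre_b IH (LK LD1_c8 LD2_c14 LD3_c34) (LK LD1_c15 LD2_c30 LD3_c24) Lrfl Lrfl
theorem f554696 : Led Lsl_dt (LP (LK LD1_c15 LD2_c30 LD3_c24)) = (LP (LK LD1_c17 LD2_c50 LD3_c2)) :=
  Lgr Lrot79 (Lpe (f194282 IH) (Lpr_df (f554682 IH) (Lpr_bf (f325136 IH) (Lpn (LP (LK LD1_c17 LD2_c50 LD3_c2))))))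
theorem f554844 : Led Lsl_ft (LP (LK LD1_c16 LD2_c12 LD3_c52)) = (LP (LK LD1_c15 LD2_c30 LD3_c24)) :=
  Lgr Lrot54 (Lpr_df (f554838 IH) (Lpr_ff (K25.f342767 IH) (Lpe (f554696 IH) (Lpn (LP (LK LD1_c15 LD2_c30 LD3_c24))))))
theorem f216270 : Led Lsl_bt (LP (LK LD1_c15 LD2_c30 LD3_c24)) = (LP (LK LD1_c8 LD2_c14 LD3_c34)) :=
  Lre_b IH (LK LD1_c15 LD2_c30 LD3_c24) (LK LD1_c8 LD2_c14 LD3_c34) Lrfl Lrfl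
theorem f554848 : Led Lsl_bf (LP (LK LD1_c16 LD2_c12 LD3_c52)) = (LP (LK LD1_c15 LD2_c30 LD3_c12)) :=
  Lgr Lrot61 (Lpr_ft (f554844 IH) (Lpr_bt (f216270 IH) (Lpr_ft (f554668 IH) (Lpn (LP (LK LD1_c15 LD2_c30 LD3_c12))))))
theorem f177485 : Led Lsl_bt (LP (LK LD1_c8 LD2_c13 LD3_c59)) = (LP (LK LD1_c4 LD2_c6 LD3_c42)) :=
  Lre_b IH (LK LD1_c8 LD2_c13 LD3_c59) (LK LD1_c4 LD2_c6 LD3_c42) Lrfl Lrfl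
theorem f177486 : Led Lsl_ct (LP (LK LD1_c8 LD2_c13 LD3_c59)) = (LP (LK LD1_c4 LD2_c7 LD3_c1)) :=
  Lre_c IH (LK LD1_c8 LD2_c13 LD3_c59) (LK LD1_c4 LD2_c7 LD3_c1) Lrfl Lrfl
theorem f554687 : Led Lsl_ct (LP (LK LD1_c15 LD2_c30 LD3_c12)) = (LP (LK LD1_c8 LD2_c14 LD3_c28)) :=
  Lre_c IH (LK LD1_c15 LD2_c30 LD3_c12) (LK LD1_c8 LD2_c14 LD3_c28) Lrfl Lrfl
theorem f554857 : Led Lsl_gf (LP (LK LD1_c4 LD2_c7 LD3_c1)) = (LP (LK LD1_c8 LD2_c14 LD3_c28)) :=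
  Lgr Lrot126 (Lpe (f177486 IH) (Lpr_bt (f177485 IH) (Lpr_gt (K15.f256122 IH) (Lpr_ct (K15.f194639 IH) (Lpe (K13.f194630 IH) (Lpe (K12.f28675 IH) (Lpr_bt (f48135 IH) (Lpr_gt (f48116 IH) (Lpr_bf (f554848 IH) (Lpr_ct (f554687 IH) (Lpn (LP (LK LD1_c8 LD2_c14 LD3_c28)))))))))))))
theorem f554677 : Led Lsl_ft (LP (LK LD1_c8 LD2_c14 LD3_c28)) = (LP (LK LD1_c4 LD2_c6 LD3_c60)) :=
  Lre_f IH (LK LD1_c8 LD2_c14 LD3_c28) (LK LD1_c4 LD2_c6 LD3_c60) Lrfl Lrfl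
theorem f554676 : Led Lsl_at (LP (LK LD1_c4 LD2_c6 LD3_c60)) = (LP (LK LD1_c8 LD2_c14 LD3_c32)) :=
  Lre_a IH (LK LD1_c4 LD2_c6 LD3_c60) (LK LD1_c8 LD2_c14 LD3_c32) Lrfl Lrfl
theorem f554861 : Led Lsl_gt (LP (LK LD1_c4 LD2_c7 LD3_c1)) = (LP (LK LD1_c8 LD2_c14 LD3_c32)) :=
  Lgr Lrot46 (Lpr_gf (f554857 IH) (Lpr_ft (f554677 IH) (Lpr_at (f554676 IH) (Lpn (LP (LK LD1_c8 LD2_c14 LD3_c32))))))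
theorem f172991 : Led Lsl_gt (LP (LK LD1_c1 LD2_c16 LD3_c43)) = (LP (LK LD1_c2 LD2_c39 LD3_c58)) :=
  Lre_g IH (LK LD1_c1 LD2_c16 LD3_c43) (LK LD1_c2 LD2_c39 LD3_c58) Lrfl Lrfl
theorem f195415 : Led Lsl_bt (LP (LK LD1_c5 LD2_c27 LD3_c5)) = (LP (LK LD1_c2 LD2_c39 LD3_c58)) :=
  Lre_b IH (LK LD1_c5 LD2_c27 LD3_c5) (LK LD1_c2 LD2_c39 LD3_c58) Lrfl Lrfl
theorem f195416 : Led Lsl_ct (LP (LK LD1_c5 LD2_c27 LD3_c5)) = (LP (LK LD1_c10 LD2_c45 LD3_c15)) :=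
  Lre_c IH (LK LD1_c5 LD2_c27 LD3_c5) (LK LD1_c10 LD2_c45 LD3_c15) Lrfl Lrfl
theorem f55386 : Led Lsl_bt (LP (LK LD1_c4 LD2_c7 LD3_c1)) = (LP (LK LD1_c2 LD2_c0 LD3_c53)) :=
  Lre_b IH (LK LD1_c4 LD2_c7 LD3_c1) (LK LD1_c2 LD2_c0 LD3_c53) Lrfl Lrfl
theorem f55476 : Led Lsl_ct (LP (LK LD1_c4 LD2_c7 LD3_c1)) = (LP (LK LD1_c8 LD2_c13 LD3_c59)) :=
  Lre_c IH (LK LD1_c4 LD2_c7 LD3_c1) (LK LD1_c8 LD2_c13 LD3_c59) Lrfl Lrfl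
theorem f421705 : Led Lsl_gt (LP (LK LD1_c10 LD2_c45 LD3_c15)) = (LP (LK LD1_c8 LD2_c13 LD3_c59)) :=
  Lgr Lrot65 (Lpe (f195416 IH) (Lpr_bt (f195415 IH) (Lpe (f172991 IH) (Lpe (K10.f192582 IH) (Lpr_ct (K10.f8454 IH) (Lpe (K0.f8388 IH) (Lpe (K9.f8431 IH) (Lpr_gf (K10.f182538 IH) (Lpe (f55386 IH) (Lpr_ct (f55476 IH) (Lpn (LP (LK LD1_c8 LD2_c13 LD3_c59)))))))))))))
theorem f421713 : Led Lsl_dt (LP (LK LD1_c10 LD2_c45 LD3_c15)) = (LP (LK LD1_c19 LD2_c26 LD3_c59)) :=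
  Lre_d IH (LK LD1_c10 LD2_c45 LD3_c15) (LK LD1_c19 LD2_c26 LD3_c59) Lrfl Lrfl
theorem f554658 : Led Lsl_ft (LP (LK LD1_c4 LD2_c6 LD3_c59)) = (LP (LK LD1_c8 LD2_c14 LD3_c32)) :=
  Lre_f IH (LK LD1_c4 LD2_c6 LD3_c59) (LK LD1_c8 LD2_c14 LD3_c32) Lrfl Lrfl
theorem f554659 : Led Lsl_ct (LP (LK LD1_c8 LD2_c14 LD3_c32)) = (LP (LK LD1_c15 LD2_c28 LD3_c51)) :=
  Lgr Lrot40 (Lpe (f554658 IH) (Lpe (f182925 IH) (Lpr_ff (f554650 IH) (Lpn (LP (LK LD1_c15 LD2_c28 LD3_c51))))))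
theorem f188051 : Led Lsl_bt (LP (LK LD1_c4 LD2_c8 LD3_c3)) = (LP (LK LD1_c8 LD2_c16 LD3_c8)) :=
  Lre_b IH (LK LD1_c4 LD2_c8 LD3_c3) (LK LD1_c8 LD2_c16 LD3_c8) Lrfl Lrfl
theorem f188053 : Led Lsl_ct (LP (LK LD1_c8 LD2_c16 LD3_c8)) = (LP (LK LD1_c8 LD2_c13 LD3_c45)) :=
  Lgr Lrot83 (Lpe (f188051 IH) (Lpr_cf (K10.f188047 IH) (Lpe (K10.f187335 IH) (Lpe (K16.f187303 IH) (Lpe (f188052 IH) (Lpn (LP (LK LD1_c8 LD2_c13 LD3_c45))))))))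
theorem f554870 : Led Lsl_gt (LP (LK LD1_c19 LD2_c26 LD3_c59)) = (LP (LK LD1_c20 LD2_c59 LD3_c23)) :=
  Lgr Lrot9 (Lpe (f421713 IH) (Lpr_gt (f421705 IH) (Lpr_ct (f177486 IH) (Lpr_gt (f554861 IH) (Lpr_ct (f554659 IH) (Lpe (f188196 IH) (Lpe (f188053 IH) (Lpe (f188176 IH) (Lpr_cf (f554783 IH) (Lpn (LP (LK LD1_c20 LD2_c59 LD3_c23))))))))))))
theorem f28968 : Led Lsl_gt (LP (LK LD1_c4 LD2_c20 LD3_c58)) = (LP (LK LD1_c8 LD2_c39 LD3_c36)) :=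
  Lre_g IH (LK LD1_c4 LD2_c20 LD3_c58) (LK LD1_c8 LD2_c39 LD3_c36) Lrfl Lrfl
theorem f194333 : Led Lsl_ct (LP (LK LD1_c16 LD2_c13 LD3_c7)) = (LP (LK LD1_c8 LD2_c39 LD3_c36)) :=
  Lre_c IH (LK LD1_c16 LD2_c13 LD3_c7) (LK LD1_c8 LD2_c39 LD3_c36) Lrfl Lrfl
theorem f555856 : Led Lsl_bf (LP (LK LD1_c19 LD2_c26 LD3_c59)) = (LP (LK LD1_c16 LD2_c13 LD3_c7)) :=
  Lgr Lrot165 (Lpr_gt (f554870 IH) (Lpe (f554783 IH) (Lpr_gt (f188176 IH) (Lpr_cf (f188160 IH) (Lpr_bt (f188052 IH) (Lpr_gt (K10.f194222 IH) (Lpe (K11.f48104 IH) (Lpr_ct (K10.f48107 IH) (Lpr_gt (f28968 IH) (Lpe (f194333 IH) (Lpn (LP (LK LD1_c16 LD2_c13 LD3_c7)))))))))))))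
theorem f183478 : Led Lsl_dt (LP (LK LD1_c20 LD2_c59 LD3_c23)) = (LP (LK LD1_c11 LD2_c54 LD3_c45)) :=
  Lre_d IH (LK LD1_c20 LD2_c59 LD3_c23) (LK LD1_c11 LD2_c54 LD3_c45) Lrfl Lrfl
theorem f183376 : Led Lsl_ct (LP (LK LD1_c2 LD2_c58 LD3_c55)) = (LP (LK LD1_c1 LD2_c25 LD3_c56)) :=
  Lgr Lrot59 (Lpr_cf (K10.f183373 IH) (Lpn (LP (LK LD1_c1 LD2_c25 LD3_c56))))
theorem f175919 : Led Lsl_bt (LP (LK LD1_c1 LD2_c25 LD3_c56)) = (LP (LK LD1_c3 LD2_c0 LD3_c21)) :=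
  Lre_b IH (LK LD1_c1 LD2_c25 LD3_c56) (LK LD1_c3 LD2_c0 LD3_c21) Lrfl Lrfl
theorem f28969 : Led Lsl_ct (LP (LK LD1_c8 LD2_c39 LD3_c36)) = (LP (LK LD1_c16 LD2_c13 LD3_c7)) :=
  Lre_c IH (LK LD1_c8 LD2_c39 LD3_c36) (LK LD1_c16 LD2_c13 LD3_c7) Lrfl Lrfl
theorem f418356 : Led Lsl_dt (LP (LK LD1_c16 LD2_c13 LD3_c8)) = (LP (LK LD1_c8 LD2_c39 LD3_c36)) :=
  Lre_d IH (LK LD1_c16 LD2_c13 LD3_c8) (LK LD1_c8 LD2_c39 LD3_c36) Lrfl Lrfl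
theorem f169086 : Led Lsl_bt (LP (LK LD1_c2 LD2_c0 LD3_c53)) = (LP (LK LD1_c4 LD2_c7 LD3_c1)) :=
  Lre_b IH (LK LD1_c2 LD2_c0 LD3_c53) (LK LD1_c4 LD2_c7 LD3_c1) Lrfl Lrfl
theorem f198846 : Led Lsl_cf (LP (LK LD1_c0 LD2_c56 LD3_c52)) = (LP (LK LD1_c1 LD2_c25 LD3_c23)) :=
  Lgr Lrot11 (Lpr_ct (K11.f198814 IH) (Lpn (LP (LK LD1_c1 LD2_c25 LD3_c23))))
theorem f195230 : Led Lsl_ct (LP (LK LD1_c1 LD2_c25 LD3_c25)) = (LP (LK LD1_c2 LD2_c58 LD3_c47)) :=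
  Lre_c IH (LK LD1_c1 LD2_c25 LD3_c25) (LK LD1_c2 LD2_c58 LD3_c47) Lrfl Lrfl
theorem f195222 : Led Lsl_gt (LP (LK LD1_c6 LD2_c5 LD3_c16)) = (LP (LK LD1_c2 LD2_c58 LD3_c47)) :=
  Lre_g IH (LK LD1_c6 LD2_c5 LD3_c16) (LK LD1_c2 LD2_c58 LD3_c47) Lrfl Lrfl
theorem f195414 : Led Lsl_ct (LP (LK LD1_c11 LD2_c54 LD3_c4)) = (LP (LK LD1_c6 LD2_c5 LD3_c16)) :=
  Lre_c IH (LK LD1_c11 LD2_c54 LD3_c4) (LK LD1_c6 LD2_c5 LD3_c16) Lrfl Lrfl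
theorem f554874 : Led Lsl_bt (LP (LK LD1_c11 LD2_c54 LD3_c4)) = (LP (LK LD1_c8 LD2_c14 LD3_c32)) :=
  Lgr Lrot92 (Lpr_ct (f195414 IH) (Lpr_gt (f195222 IH) (Lpe (f195230 IH) (Lpr_bt (K10.f177419 IH) (Lpr_gt (K11.f177409 IH) (Lpe (f198846 IH) (Lpr_gt (K15.f198851 IH) (Lpe (K2.f55427 IH) (Lpr_bt (f169086 IH) (Lpr_gt (f554861 IH) (Lpn (LP (LK LD1_c8 LD2_c14 LD3_c32)))))))))))))
theorem f554671 : Led Lsl_ft (LP (LK LD1_c8 LD2_c14 LD3_c32)) = (LP (LK LD1_c4 LD2_c6 LD3_c59)) :=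
  Lre_f IH (LK LD1_c8 LD2_c14 LD3_c32) (LK LD1_c4 LD2_c6 LD3_c59) Lrfl Lrfl
theorem f187594 : Led Lsl_bt (LP (LK LD1_c4 LD2_c6 LD3_c59)) = (LP (LK LD1_c8 LD2_c14 LD3_c29)) :=
  Lre_b IH (LK LD1_c4 LD2_c6 LD3_c59) (LK LD1_c8 LD2_c14 LD3_c29) Lrfl Lrfl
theorem f554881 : Led Lsl_ff (LP (LK LD1_c11 LD2_c54 LD3_c4)) = (LP (LK LD1_c8 LD2_c14 LD3_c29)) :=
  Lgr Lrot25 (Lpr_bt (f554874 IH) (Lpr_ft (f554671 IH) (Lpr_bt (f187594 IH) (Lpn (LP (LK LD1_c8 LD2_c14 LD3_c29))))))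
theorem f554887 : Led Lsl_ft (LP (LK LD1_c11 LD2_c54 LD3_c4)) = (LP (LK LD1_c8 LD2_c14 LD3_c29)) :=
  Lgr Lrot48 (Lpr_ff (f554881 IH) (Lpn (LP (LK LD1_c8 LD2_c14 LD3_c29))))
theorem f195367 : Led Lsl_ct (LP (LK LD1_c6 LD2_c5 LD3_c16)) = (LP (LK LD1_c11 LD2_c54 LD3_c4)) :=
  Lre_c IH (LK LD1_c6 LD2_c5 LD3_c16) (LK LD1_c11 LD2_c54 LD3_c4) Lrfl Lrfl
theorem f554889 : Led Lsl_ft (LP (LK LD1_c11 LD2_c53 LD3_c60)) = (LP (LK LD1_c6 LD2_c5 LD3_c16)) :=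
  Lre_f IH (LK LD1_c11 LD2_c53 LD3_c60) (LK LD1_c6 LD2_c5 LD3_c16) Lrfl Lrfl
theorem f554890 : Led Lsl_cf (LP (LK LD1_c11 LD2_c53 LD3_c60)) = (LP (LK LD1_c8 LD2_c14 LD3_c29)) :=
  Lgr Lrot108 (Lpr_ft (f554889 IH) (Lpr_ct (f195367 IH) (Lpr_ft (f554887 IH) (Lpn (LP (LK LD1_c8 LD2_c14 LD3_c29))))))
theorem f178256 : Led Lsl_bt (LP (LK LD1_c8 LD2_c14 LD3_c29)) = (LP (LK LD1_c4 LD2_c6 LD3_c59)) :=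
  Lre_b IH (LK LD1_c8 LD2_c14 LD3_c29) (LK LD1_c4 LD2_c6 LD3_c59) Lrfl Lrfl
theorem f195439 : Led Lsl_bt (LP (LK LD1_c2 LD2_c59 LD3_c31)) = (LP (LK LD1_c1 LD2_c25 LD3_c27)) :=
  Lre_b IH (LK LD1_c2 LD2_c59 LD3_c31) (LK LD1_c1 LD2_c25 LD3_c27) Lrfl Lrfl
theorem f195440 : Led Lsl_ct (LP (LK LD1_c2 LD2_c59 LD3_c31)) = (LP (LK LD1_c6 LD2_c5 LD3_c19)) :=
  Lre_c IH (LK LD1_c2 LD2_c59 LD3_c31) (LK LD1_c6 LD2_c5 LD3_c19) Lrfl Lrfl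
theorem f554903 : Led Lsl_gt (LP (LK LD1_c11 LD2_c53 LD3_c60)) = (LP (LK LD1_c6 LD2_c5 LD3_c19)) :=
  Lgr Lrot65 (Lpr_cf (f554890 IH) (Lpr_bt (f178256 IH) (Lpe (f54890 IH) (Lpe (K1.f54785 IH) (Lpr_ct (K1.f54853 IH) (Lpr_gf (K9.f178181 IH) (Lpe (f187519 IH) (Lpe (K10.f195786 IH) (Lpe (f195439 IH) (Lpr_ct (f195440 IH) (Lpn (LP (LK LD1_c6 LD2_c5 LD3_c19)))))))))))))
theorem f554910 : Led Lsl_at (LP (LK LD1_c6 LD2_c5 LD3_c16)) = (LP (LK LD1_c11 LD2_c54 LD3_c3)) :=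
  Lre_a IH (LK LD1_c6 LD2_c5 LD3_c16) (LK LD1_c11 LD2_c54 LD3_c3) Lrfl Lrfl
theorem f554911 : Led Lsl_gf (LP (LK LD1_c11 LD2_c54 LD3_c3)) = (LP (LK LD1_c6 LD2_c5 LD3_c19)) :=
  Lgr Lrot76 (Lpe (f554910 IH) (Lpe (f554889 IH) (Lpr_gt (f554903 IH) (Lpn (LP (LK LD1_c6 LD2_c5 LD3_c19))))))
theorem f42536 : Led Lsl_bt (LP (LK LD1_c2 LD2_c58 LD3_c49)) = (LP (LK LD1_c6 LD2_c5 LD3_c19)) :=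
  Lre_b IH (LK LD1_c2 LD2_c58 LD3_c49) (LK LD1_c6 LD2_c5 LD3_c19) Lrfl Lrfl
theorem f54120 : Led Lsl_ct (LP (LK LD1_c8 LD2_c38 LD3_c33)) = (LP (LK LD1_c4 LD2_c20 LD3_c26)) :=
  Lre_c IH (LK LD1_c8 LD2_c38 LD3_c33) (LK LD1_c4 LD2_c20 LD3_c26) Lrfl Lrfl
theorem f54172 : Led Lsl_gt (LP (LK LD1_c8 LD2_c38 LD3_c42)) = (LP (LK LD1_c4 LD2_c20 LD3_c26)) :=
  Lre_g IH (LK LD1_c8 LD2_c38 LD3_c42) (LK LD1_c4 LD2_c20 LD3_c26) Lrfl Lrfl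
theorem f182145 : Led Lsl_ct (LP (LK LD1_c16 LD2_c11 LD3_c33)) = (LP (LK LD1_c8 LD2_c38 LD3_c42)) :=
  Lre_c IH (LK LD1_c16 LD2_c11 LD3_c33) (LK LD1_c8 LD2_c38 LD3_c42) Lrfl Lrfl
theorem f554916 : Led Lsl_bf (LP (LK LD1_c11 LD2_c54 LD3_c3)) = (LP (LK LD1_c16 LD2_c11 LD3_c33)) :=
  Lgr Lrot34 (Lpr_gf (f554911 IH) (Lpe (f42536 IH) (Lpr_ct (K10.f8547 IH) (Lpe (K17.f41823 IH) (Lpe (K17.f190116 IH) (Lpr_gf (K10.f190148 IH) (Lpe (K12.f54094 IH) (Lpr_ct (f54120 IH) (Lpe (f54172 IH) (Lpe (f182145 IH) (Lpn (LP (LK LD1_c16 LD2_c11 LD3_c33)))))))))))))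
theorem f554902 : Led Lsl_ft (LP (LK LD1_c11 LD2_c54 LD3_c3)) = (LP (LK LD1_c6 LD2_c5 LD3_c15)) :=
  Lre_f IH (LK LD1_c11 LD2_c54 LD3_c3) (LK LD1_c6 LD2_c5 LD3_c15) Lrfl Lrfl
theorem f337880 : Led Lsl_bt (LP (LK LD1_c6 LD2_c5 LD3_c15)) = (LP (LK LD1_c11 LD2_c53 LD3_c61)) :=
  Lre_b IH (LK LD1_c6 LD2_c5 LD3_c15) (LK LD1_c11 LD2_c53 LD3_c61) Lrfl Lrfl
theorem f554922 : Led Lsl_ft (LP (LK LD1_c11 LD2_c53 LD3_c61)) = (LP (LK LD1_c16 LD2_c11 LD3_c33)) :=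
  Lgr Lrot75 (Lpe (f337880 IH) (Lpe (f554902 IH) (Lpr_bf (f554916 IH) (Lpn (LP (LK LD1_c16 LD2_c11 LD3_c33))))))
theorem f554931 : Led Lsl_ff (LP (LK LD1_c11 LD2_c53 LD3_c61)) = (LP (LK LD1_c16 LD2_c11 LD3_c33)) :=
  Lgr Lrot3 (Lpr_ft (f554922 IH) (Lpn (LP (LK LD1_c16 LD2_c11 LD3_c33))))
theorem f33080 : Led Lsl_ct (LP (LK LD1_c8 LD2_c38 LD3_c42)) = (LP (LK LD1_c16 LD2_c11 LD3_c33)) :=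
  Lre_c IH (LK LD1_c8 LD2_c38 LD3_c42) (LK LD1_c16 LD2_c11 LD3_c33) Lrfl Lrfl
theorem f554934 : Led Lsl_ft (LP (LK LD1_c16 LD2_c11 LD3_c27)) = (LP (LK LD1_c8 LD2_c38 LD3_c42)) :=
  Lre_f IH (LK LD1_c16 LD2_c11 LD3_c27) (LK LD1_c8 LD2_c38 LD3_c42) Lrfl Lrfl
theorem f554935 : Led Lsl_ct (LP (LK LD1_c11 LD2_c53 LD3_c61)) = (LP (LK LD1_c16 LD2_c11 LD3_c27)) :=
  Lgr Lrot40 (Lpr_ff (f554931 IH) (Lpe (f33080 IH) (Lpe (f554934 IH) (Lpn (LP (LK LD1_c16 LD2_c11 LD3_c27))))))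
theorem f194772 : Led Lsl_bt (LP (LK LD1_c11 LD2_c53 LD3_c61)) = (LP (LK LD1_c6 LD2_c5 LD3_c15)) :=
  Lre_b IH (LK LD1_c11 LD2_c53 LD3_c61) (LK LD1_c6 LD2_c5 LD3_c15) Lrfl Lrfl
theorem f192202 : Led Lsl_gt (LP (LK LD1_c2 LD2_c58 LD3_c47)) = (LP (LK LD1_c6 LD2_c5 LD3_c15)) :=
  Lre_g IH (LK LD1_c2 LD2_c58 LD3_c47) (LK LD1_c6 LD2_c5 LD3_c15) Lrfl Lrfl
theorem f192201 : Led Lsl_bt (LP (LK LD1_c1 LD2_c25 LD3_c6)) = (LP (LK LD1_c2 LD2_c58 LD3_c47)) :=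
  Lre_b IH (LK LD1_c1 LD2_c25 LD3_c6) (LK LD1_c2 LD2_c58 LD3_c47) Lrfl Lrfl
theorem f182104 : Led Lsl_bt (LP (LK LD1_c11 LD2_c53 LD3_c15)) = (LP (LK LD1_c6 LD2_c4 LD3_c58)) :=
  Lre_b IH (LK LD1_c11 LD2_c53 LD3_c15) (LK LD1_c6 LD2_c4 LD3_c58) Lrfl Lrfl
theorem f54139 : Led Lsl_bt (LP (LK LD1_c4 LD2_c20 LD3_c21)) = (LP (LK LD1_c8 LD2_c38 LD3_c33)) :=
  Lre_b IH (LK LD1_c4 LD2_c20 LD3_c21) (LK LD1_c8 LD2_c38 LD3_c33) Lrfl Lrfl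
theorem f182121 : Led Lsl_ff (LP (LK LD1_c11 LD2_c53 LD3_c15)) = (LP (LK LD1_c8 LD2_c38 LD3_c33)) :=
  Lgr Lrot25 (Lpr_bt (f182104 IH) (Lpr_ft (K14.f182119 IH) (Lpr_bt (f54139 IH) (Lpn (LP (LK LD1_c8 LD2_c38 LD3_c33))))))
theorem f54264 : Led Lsl_ft (LP (LK LD1_c8 LD2_c38 LD3_c45)) = (LP (LK LD1_c4 LD2_c20 LD3_c26)) :=
  Lre_f IH (LK LD1_c8 LD2_c38 LD3_c45) (LK LD1_c4 LD2_c20 LD3_c26) Lrfl Lrfl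
theorem f182126 : Led Lsl_ct (LP (LK LD1_c11 LD2_c53 LD3_c15)) = (LP (LK LD1_c8 LD2_c38 LD3_c45)) :=
  Lgr Lrot40 (Lpr_ff (f182121 IH) (Lpe (K12.f54141 IH) (Lpe (f54264 IH) (Lpn (LP (LK LD1_c8 LD2_c38 LD3_c45))))))
theorem f554951 : Led Lsl_gf (LP (LK LD1_c8 LD2_c38 LD3_c45)) = (LP (LK LD1_c16 LD2_c11 LD3_c27)) :=
  Lgr Lrot126 (Lpe (f182126 IH) (Lpr_bt (f182104 IH) (Lpr_gt (K14.f194766 IH) (Lpr_ct (K14.f42151 IH) (Lpr_gt (K9.f42114 IH) (Lpe (K10.f187488 IH) (Lpr_bt (f192201 IH) (Lpr_gt (f192202 IH) (Lpe (f194772 IH) (Lpr_ct (f554935 IH) (Lpn (LP (LK LD1_c16 LD2_c11 LD3_c27)))))))))))))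
theorem f554953 : Led Lsl_at (LP (LK LD1_c8 LD2_c38 LD3_c42)) = (LP (LK LD1_c16 LD2_c11 LD3_c31)) :=
  Lre_a IH (LK LD1_c8 LD2_c38 LD3_c42) (LK LD1_c16 LD2_c11 LD3_c31) Lrfl Lrfl
theorem f554954 : Led Lsl_gt (LP (LK LD1_c8 LD2_c38 LD3_c45)) = (LP (LK LD1_c16 LD2_c11 LD3_c31)) :=
  Lgr Lrot46 (Lpr_gf (f554951 IH) (Lpr_ft (f554934 IH) (Lpr_at (f554953 IH) (Lpn (LP (LK LD1_c16 LD2_c11 LD3_c31))))))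
theorem f554791 : Led Lsl_bf (LP (LK LD1_c2 LD2_c58 LD3_c40)) = (LP (LK LD1_c5 LD2_c23 LD3_c22)) :=
  Lgr Lrot90 (Lpr_ct (K17.f216292 IH) (Lpr_bt (K10.f182152 IH) (Lpr_ct (K10.f177475 IH) (Lpr_bt (f554787 IH) (Lpr_ct (K15.f42530 IH) (Lpn (LP (LK LD1_c5 LD2_c23 LD3_c22))))))))
theorem f265078 : Led Lsl_bt (LP (LK LD1_c20 LD2_c55 LD3_c17)) = (LP (LK LD1_c11 LD2_c52 LD3_c25)) :=
  Lre_b IH (LK LD1_c20 LD2_c55 LD3_c17) (LK LD1_c11 LD2_c52 LD3_c25) Lrfl Lrfl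
theorem f554963 : Led Lsl_ct (LP (LK LD1_c20 LD2_c55 LD3_c17)) = (LP (LK LD1_c16 LD2_c11 LD3_c31)) :=
  Lgr Lrot10 (Lpr_bt (f265078 IH) (Lpr_gt (K15.f266694 IH) (Lpe (K15.f256236 IH) (Lpe (K15.f266698 IH) (Lpe (K15.f190161 IH) (Lpe (f554791 IH) (Lpr_gt (K10.f177479 IH) (Lpe (f182104 IH) (Lpr_ct (f182126 IH) (Lpr_gt (f554954 IH) (Lpn (LP (LK LD1_c16 LD2_c11 LD3_c31)))))))))))))
theorem f265111 : Led Lsl_bt (LP (LK LD1_c11 LD2_c52 LD3_c25)) = (LP (LK LD1_c20 LD2_c55 LD3_c17)) :=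
  Lre_b IH (LK LD1_c11 LD2_c52 LD3_c25) (LK LD1_c20 LD2_c55 LD3_c17) Lrfl Lrfl
theorem f274279 : Led Lsl_bt (LP (LK LD1_c11 LD2_c53 LD3_c54)) = (LP (LK LD1_c6 LD2_c5 LD3_c13)) :=
  Lre_b IH (LK LD1_c11 LD2_c53 LD3_c54) (LK LD1_c6 LD2_c5 LD3_c13) Lrfl Lrfl
theorem f324868 : Led Lsl_ft (LP (LK LD1_c20 LD2_c55 LD3_c17)) = (LP (LK LD1_c11 LD2_c53 LD3_c54)) :=
  Lgr Lrot75 (Lpe (f265111 IH) (Lpr_ff (K21.f324839 IH) (Lpe (f274279 IH) (Lpn (LP (LK LD1_c11 LD2_c53 LD3_c54))))))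
theorem f401845 : Led Lsl_ff (LP (LK LD1_c20 LD2_c55 LD3_c17)) = (LP (LK LD1_c11 LD2_c53 LD3_c54)) :=
  Lgr Lrot3 (Lpr_ft (f324868 IH) (Lpn (LP (LK LD1_c11 LD2_c53 LD3_c54))))
theorem f554945 : Led Lsl_ft (LP (LK LD1_c16 LD2_c11 LD3_c31)) = (LP (LK LD1_c8 LD2_c38 LD3_c41)) :=
  Lre_f IH (LK LD1_c16 LD2_c11 LD3_c31) (LK LD1_c8 LD2_c38 LD3_c41) Lrfl Lrfl
theorem f554972 : Led Lsl_cf (LP (LK LD1_c11 LD2_c53 LD3_c54)) = (LP (LK LD1_c8 LD2_c38 LD3_c41)) :=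
  Lgr Lrot108 (Lpe (f401845 IH) (Lpr_ct (f554963 IH) (Lpr_ft (f554945 IH) (Lpn (LP (LK LD1_c8 LD2_c38 LD3_c41))))))
theorem f274240 : Led Lsl_gt (LP (LK LD1_c11 LD2_c53 LD3_c54)) = (LP (LK LD1_c20 LD2_c57 LD3_c48)) :=
  Lre_g IH (LK LD1_c11 LD2_c53 LD3_c54) (LK LD1_c20 LD2_c57 LD3_c48) Lrfl Lrfl
theorem f27898 : Led Lsl_gt (LP (LK LD1_c4 LD2_c20 LD3_c26)) = (LP (LK LD1_c8 LD2_c38 LD3_c41)) :=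
  Lre_g IH (LK LD1_c4 LD2_c20 LD3_c26) (LK LD1_c8 LD2_c38 LD3_c41) Lrfl Lrfl
theorem f27897 : Led Lsl_bt (LP (LK LD1_c2 LD2_c7 LD3_c41)) = (LP (LK LD1_c4 LD2_c20 LD3_c26)) :=
  Lre_b IH (LK LD1_c2 LD2_c7 LD3_c41) (LK LD1_c4 LD2_c20 LD3_c26) Lrfl Lrfl
theorem f27886 : Led Lsl_ct (LP (LK LD1_c4 LD2_c14 LD3_c33)) = (LP (LK LD1_c2 LD2_c4 LD3_c38)) :=
  Lre_c IH (LK LD1_c4 LD2_c14 LD3_c33) (LK LD1_c2 LD2_c4 LD3_c38) Lrfl Lrfl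
theorem f27899 : Led Lsl_bt (LP (LK LD1_c4 LD2_c14 LD3_c33)) = (LP (LK LD1_c8 LD2_c27 LD3_c49)) :=
  Lre_b IH (LK LD1_c4 LD2_c14 LD3_c33) (LK LD1_c8 LD2_c27 LD3_c49) Lrfl Lrfl
theorem f27900 : Led Lsl_gt (LP (LK LD1_c15 LD2_c53 LD3_c30)) = (LP (LK LD1_c8 LD2_c27 LD3_c49)) :=
  Lre_g IH (LK LD1_c15 LD2_c53 LD3_c30) (LK LD1_c8 LD2_c27 LD3_c49) Lrfl Lrfl
theorem f27901 : Led Lsl_bt (LP (LK LD1_c25 LD2_c49 LD3_c31)) = (LP (LK LD1_c15 LD2_c53 LD3_c30)) :=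
  Lre_b IH (LK LD1_c25 LD2_c49 LD3_c31) (LK LD1_c15 LD2_c53 LD3_c30) Lrfl Lrfl
theorem f554986 : Led Lsl_cf (LP (LK LD1_c20 LD2_c57 LD3_c48)) = (LP (LK LD1_c25 LD2_c49 LD3_c31)) :=
  Lgr Lrot163 (Lpe (f274240 IH) (Lpr_cf (f554972 IH) (Lpe (f27898 IH) (Lpe (f27897 IH) (Lpr_ct (K13.f27896 IH) (Lpr_gf (K12.f27883 IH) (Lpe (f27886 IH) (Lpr_bt (f27899 IH) (Lpe (f27900 IH) (Lpe (f27901 IH) (Lpn (LP (LK LD1_c25 LD2_c49 LD3_c31)))))))))))))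
theorem f554991 : Led Lsl_ct (LP (LK LD1_c20 LD2_c57 LD3_c48)) = (LP (LK LD1_c25 LD2_c49 LD3_c31)) :=
  Lgr Lrot59 (Lpr_cf (f554986 IH) (Lpn (LP (LK LD1_c25 LD2_c49 LD3_c31))))
theorem f30976 : Led Lsl_bt (LP (LK LD1_c8 LD2_c7 LD3_c1)) = (LP (LK LD1_c4 LD2_c3 LD3_c14)) :=
  Lre_b IH (LK LD1_c8 LD2_c7 LD3_c1) (LK LD1_c4 LD2_c3 LD3_c14) Lrfl Lrfl
theorem f291062 : Led Lsl_cf (LP (LK LD1_c8 LD2_c7 LD3_c1)) = (LP (LK LD1_c8 LD2_c27 LD3_c49)) :=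
  Lgr Lrot97 (Lpr_bt (f30976 IH) (Lpr_ct (K20.f291057 IH) (Lpe (K13.f231550 IH) (Lpr_ct (K13.f27890 IH) (Lpr_bt (f27899 IH) (Lpn (LP (LK LD1_c8 LD2_c27 LD3_c49))))))))
theorem f291100 : Led Lsl_ct (LP (LK LD1_c8 LD2_c7 LD3_c1)) = (LP (LK LD1_c8 LD2_c27 LD3_c49)) :=
  Lgr Lrot59 (Lpr_cf (f291062 IH) (Lpn (LP (LK LD1_c8 LD2_c27 LD3_c49))))
theorem f194362 : Led Lsl_bt (LP (LK LD1_c4 LD2_c3 LD3_c8)) = (LP (LK LD1_c8 LD2_c6 LD3_c49)) :=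
  Lre_b IH (LK LD1_c4 LD2_c3 LD3_c8) (LK LD1_c8 LD2_c6 LD3_c49) Lrfl Lrfl
theorem f259091 : Led Lsl_gt (LP (LK LD1_c8 LD2_c6 LD3_c49)) = (LP (LK LD1_c15 LD2_c16 LD3_c36)) :=
  Lre_g IH (LK LD1_c8 LD2_c6 LD3_c49) (LK LD1_c15 LD2_c16 LD3_c36) Lrfl Lrfl
theorem f291107 : Led Lsl_bt (LP (LK LD1_c25 LD2_c6 LD3_c35)) = (LP (LK LD1_c15 LD2_c16 LD3_c36)) :=
  Lre_b IH (LK LD1_c25 LD2_c6 LD3_c35) (LK LD1_c15 LD2_c16 LD3_c36) Lrfl Lrfl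
theorem f291108 : Led Lsl_ct (LP (LK LD1_c25 LD2_c6 LD3_c35)) = (LP (LK LD1_c15 LD2_c53 LD3_c30)) :=
  Lgr Lrot64 (Lpr_bt (f291107 IH) (Lpe (f259091 IH) (Lpe (f194362 IH) (Lpr_ct (K15.f51252 IH) (Lpe (K10.f28818 IH) (Lpe (K15.f50381 IH) (Lpe (K13.f50332 IH) (Lpe (f30976 IH) (Lpr_ct (f291100 IH) (Lpe (f27900 IH) (Lpn (LP (LK LD1_c15 LD2_c53 LD3_c30)))))))))))))
theorem f291112 : Led Lsl_cf (LP (LK LD1_c25 LD2_c6 LD3_c35)) = (LP (LK LD1_c15 LD2_c53 LD3_c30)) :=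
  Lgr Lrot11 (Lpr_ct (f291108 IH) (Lpn (LP (LK LD1_c15 LD2_c53 LD3_c30))))
theorem f50329 : Led Lsl_ct (LP (LK LD1_c15 LD2_c16 LD3_c36)) = (LP (LK LD1_c25 LD2_c6 LD3_c36)) :=
  Lre_c IH (LK LD1_c15 LD2_c16 LD3_c36) (LK LD1_c25 LD2_c6 LD3_c36) Lrfl Lrfl
theorem f554993 : Led Lsl_bf (LP (LK LD1_c20 LD2_c57 LD3_c48)) = (LP (LK LD1_c25 LD2_c6 LD3_c36)) :=
  Lgr Lrot90 (Lpr_ct (f554991 IH) (Lpr_bt (f27901 IH) (Lpe (f291112 IH) (Lpr_bt (f291107 IH) (Lpr_ct (f50329 IH) (Lpn (LP (LK LD1_c25 LD2_c6 LD3_c36))))))))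
theorem f291110 : Led Lsl_ct (LP (LK LD1_c25 LD2_c6 LD3_c36)) = (LP (LK LD1_c15 LD2_c16 LD3_c36)) :=
  Lre_c IH (LK LD1_c25 LD2_c6 LD3_c36) (LK LD1_c15 LD2_c16 LD3_c36) Lrfl Lrfl
theorem f310622 : Led Lsl_bt (LP (LK LD1_c6 LD2_c4 LD3_c27)) = (LP (LK LD1_c4 LD2_c3 LD3_c10)) :=
  Lgr Lrot35 (Lpe (K21.f283346 IH) (Lpr_bf (K22.f310616 IH) (Lpe (K19.f299185 IH) (Lpn (LP (LK LD1_c4 LD2_c3 LD3_c10))))))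
theorem f310626 : Led Lsl_bt (LP (LK LD1_c20 LD2_c55 LD3_c8)) = (LP (LK LD1_c11 LD2_c52 LD3_c21)) :=
  Lre_b IH (LK LD1_c20 LD2_c55 LD3_c8) (LK LD1_c11 LD2_c52 LD3_c21) Lrfl Lrfl
theorem f299170 : Led Lsl_bt (LP (LK LD1_c8 LD2_c6 LD3_c51)) = (LP (LK LD1_c15 LD2_c16 LD3_c38)) :=
  Lre_b IH (LK LD1_c8 LD2_c6 LD3_c51) (LK LD1_c15 LD2_c16 LD3_c38) Lrfl Lrfl
theorem f310627 : Led Lsl_cf (LP (LK LD1_c20 LD2_c55 LD3_c8)) = (LP (LK LD1_c15 LD2_c16 LD3_c38)) :=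
  Lgr Lrot97 (Lpr_bt (f310626 IH) (Lpr_ct (K22.f310625 IH) (Lpr_bt (f310622 IH) (Lpr_ct (K20.f227045 IH) (Lpr_bt (f299170 IH) (Lpn (LP (LK LD1_c15 LD2_c16 LD3_c38))))))))
theorem f310632 : Led Lsl_et (LP (LK LD1_c20 LD2_c55 LD3_c8)) = (LP (LK LD1_c11 LD2_c52 LD3_c20)) :=
  Lre_e IH (LK LD1_c20 LD2_c55 LD3_c8) (LK LD1_c11 LD2_c52 LD3_c20) Lrfl Lrfl
theorem f310633 : Led Lsl_et (LP (LK LD1_c8 LD2_c6 LD3_c49)) = (LP (LK LD1_c15 LD2_c16 LD3_c38)) :=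
  Lre_e IH (LK LD1_c8 LD2_c6 LD3_c49) (LK LD1_c15 LD2_c16 LD3_c38) Lrfl Lrfl
theorem f310634 : Led Lsl_ct (LP (LK LD1_c11 LD2_c52 LD3_c20)) = (LP (LK LD1_c8 LD2_c6 LD3_c49)) :=
  Lgr Lrot15 (Lpe (f310632 IH) (Lpr_cf (f310627 IH) (Lpe (f310633 IH) (Lpn (LP (LK LD1_c8 LD2_c6 LD3_c49))))))
theorem f190117 : Led Lsl_bt (LP (LK LD1_c11 LD2_c52 LD3_c20)) = (LP (LK LD1_c6 LD2_c4 LD3_c26)) :=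
  Lre_b IH (LK LD1_c11 LD2_c52 LD3_c20) (LK LD1_c6 LD2_c4 LD3_c26) Lrfl Lrfl
theorem f554995 : Led Lsl_gt (LP (LK LD1_c20 LD2_c57 LD3_c48)) = (LP (LK LD1_c16 LD2_c11 LD3_c33)) :=
  Lgr Lrot82 (Lpr_bf (f554993 IH) (Lpr_ct (f291110 IH) (Lpe (f259091 IH) (Lpe (f310634 IH) (Lpr_bt (f190117 IH) (Lpr_gf (K10.f190148 IH) (Lpe (K12.f54094 IH) (Lpr_ct (f54120 IH) (Lpe (f54172 IH) (Lpe (f182145 IH) (Lpn (LP (LK LD1_c16 LD2_c11 LD3_c33)))))))))))))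
theorem f554997 : Led Lsl_at (LP (LK LD1_c20 LD2_c55 LD3_c17)) = (LP (LK LD1_c16 LD2_c11 LD3_c33)) :=
  Lgr Lrot26 (Lpr_ff (f401845 IH) (Lpr_gt (f274240 IH) (Lpr_gt (f554995 IH) (Lpn (LP (LK LD1_c16 LD2_c11 LD3_c33))))))
theorem f555006 : Led Lsl_af (LP (LK LD1_c11 LD2_c53 LD3_c54)) = (LP (LK LD1_c11 LD2_c53 LD3_c61)) :=
  Lgr Lrot45 (Lpe (f401845 IH) (Lpr_at (f554997 IH) (Lpe (f554931 IH) (Lpn (LP (LK LD1_c11 LD2_c53 LD3_c61))))))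
theorem f247496 : Led Lsl_dt (LP (LK LD1_c11 LD2_c53 LD3_c54)) = (LP (LK LD1_c6 LD2_c5 LD3_c12)) :=
  Lre_d IH (LK LD1_c11 LD2_c53 LD3_c54) (LK LD1_c6 LD2_c5 LD3_c12) Lrfl Lrfl
theorem f324815 : Led Lsl_at (LP (LK LD1_c6 LD2_c5 LD3_c12)) = (LP (LK LD1_c11 LD2_c53 LD3_c52)) :=
  Lre_a IH (LK LD1_c6 LD2_c5 LD3_c12) (LK LD1_c11 LD2_c53 LD3_c52) Lrfl Lrfl
theorem f555010 : Led Lsl_dt (LP (LK LD1_c11 LD2_c53 LD3_c52)) = (LP (LK LD1_c11 LD2_c53 LD3_c61)) :=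
  Lgr Lrot44 (Lpe (f324815 IH) (Lpe (f247496 IH) (Lpr_af (f555006 IH) (Lpn (LP (LK LD1_c11 LD2_c53 LD3_c61))))))
theorem f555112 : Led Lsl_df (LP (LK LD1_c11 LD2_c53 LD3_c52)) = (LP (LK LD1_c11 LD2_c53 LD3_c61)) :=
  Lgr Lrot38 (Lpr_dt (f555010 IH) (Lpn (LP (LK LD1_c11 LD2_c53 LD3_c61))))
theorem f324864 : Led Lsl_bt (LP (LK LD1_c6 LD2_c5 LD3_c14)) = (LP (LK LD1_c11 LD2_c53 LD3_c55)) :=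
  Lre_b IH (LK LD1_c6 LD2_c5 LD3_c14) (LK LD1_c11 LD2_c53 LD3_c55) Lrfl Lrfl
theorem f345385 : Led Lsl_ct (LP (LK LD1_c11 LD2_c53 LD3_c55)) = (LP (LK LD1_c20 LD2_c57 LD3_c47)) :=
  Lre_c IH (LK LD1_c11 LD2_c53 LD3_c55) (LK LD1_c20 LD2_c57 LD3_c47) Lrfl Lrfl
theorem f187259 : Led Lsl_dt (LP (LK LD1_c3 LD2_c58 LD3_c18)) = (LP (LK LD1_c7 LD2_c58 LD3_c0)) :=
  Lre_d IH (LK LD1_c3 LD2_c58 LD3_c18) (LK LD1_c7 LD2_c58 LD3_c0) Lrfl Lrfl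
theorem f187260 : Led Lsl_bt (LP (LK LD1_c7 LD2_c58 LD3_c0)) = (LP (LK LD1_c8 LD2_c38 LD3_c32)) :=
  Lgr Lrot95 (Lpe (f187259 IH) (Lpe (K25.f187258 IH) (Lpr_df (K10.f187256 IH) (Lpn (LP (LK LD1_c8 LD2_c38 LD3_c32))))))
theorem f187297 : Led Lsl_ct (LP (LK LD1_c15 LD2_c1 LD3_c46)) = (LP (LK LD1_c7 LD2_c58 LD3_c0)) :=
  Lre_c IH (LK LD1_c15 LD2_c1 LD3_c46) (LK LD1_c7 LD2_c58 LD3_c0) Lrfl Lrfl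
theorem f351535 : Led Lsl_bt (LP (LK LD1_c20 LD2_c57 LD3_c47)) = (LP (LK LD1_c15 LD2_c1 LD3_c46)) :=
  Lgr Lrot128 (Lpe (f345385 IH) (Lpe (f324864 IH) (Lpr_cf (K25.f351533 IH) (Lpe (f187260 IH) (Lpe (f187297 IH) (Lpn (LP (LK LD1_c15 LD2_c1 LD3_c46))))))))
theorem f351539 : Led Lsl_et (LP (LK LD1_c11 LD2_c53 LD3_c53)) = (LP (LK LD1_c20 LD2_c57 LD3_c47)) :=
  Lre_e IH (LK LD1_c11 LD2_c53 LD3_c53) (LK LD1_c20 LD2_c57 LD3_c47) Lrfl Lrfl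
theorem f351540 : Led Lsl_bf (LP (LK LD1_c11 LD2_c53 LD3_c53)) = (LP (LK LD1_c7 LD2_c58 LD3_c2)) :=
  Lgr Lrot96 (Lpr_et (f351539 IH) (Lpr_bt (f351535 IH) (Lpr_et (K25.f194358 IH) (Lpn (LP (LK LD1_c7 LD2_c58 LD3_c2))))))
theorem f182559 : Led Lsl_bt (LP (LK LD1_c8 LD2_c11 LD3_c26)) = (LP (LK LD1_c4 LD2_c5 LD3_c18)) :=
  Lre_b IH (LK LD1_c8 LD2_c11 LD3_c26) (LK LD1_c4 LD2_c5 LD3_c18) Lrfl Lrfl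
theorem f351550 : Led Lsl_ft (LP (LK LD1_c11 LD2_c53 LD3_c53)) = (LP (LK LD1_c8 LD2_c11 LD3_c26)) :=
  Lgr Lrot75 (Lpr_bf (f351540 IH) (Lpr_ff (K20.f317402 IH) (Lpe (f182559 IH) (Lpn (LP (LK LD1_c8 LD2_c11 LD3_c26))))))
theorem f317414 : Led Lsl_at (LP (LK LD1_c20 LD2_c57 LD3_c42)) = (LP (LK LD1_c11 LD2_c53 LD3_c53)) :=
  Lre_a IH (LK LD1_c20 LD2_c57 LD3_c42) (LK LD1_c11 LD2_c53 LD3_c53) Lrfl Lrfl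
theorem f183001 : Led Lsl_at (LP (LK LD1_c8 LD2_c11 LD3_c26)) = (LP (LK LD1_c15 LD2_c25 LD3_c13)) :=
  Lre_a IH (LK LD1_c8 LD2_c11 LD3_c26) (LK LD1_c15 LD2_c25 LD3_c13) Lrfl Lrfl
theorem f351555 : Led Lsl_ff (LP (LK LD1_c20 LD2_c57 LD3_c42)) = (LP (LK LD1_c15 LD2_c25 LD3_c13)) :=
  Lgr Lrot30 (Lpr_at (f317414 IH) (Lpr_ft (f351550 IH) (Lpr_at (f183001 IH) (Lpn (LP (LK LD1_c15 LD2_c25 LD3_c13))))))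
theorem f351574 : Led Lsl_ct (LP (LK LD1_c20 LD2_c57 LD3_c42)) = (LP (LK LD1_c11 LD2_c53 LD3_c52)) :=
  Lre_c IH (LK LD1_c20 LD2_c57 LD3_c42) (LK LD1_c11 LD2_c53 LD3_c52) Lrfl Lrfl
theorem f182951 : Led Lsl_ct (LP (LK LD1_c20 LD2_c55 LD3_c20)) = (LP (LK LD1_c15 LD2_c25 LD3_c8)) :=
  Lgr Lrot59 (Lpr_cf (K21.f182936 IH) (Lpn (LP (LK LD1_c15 LD2_c25 LD3_c8))))
theorem f182954 : Led Lsl_bt (LP (LK LD1_c29 LD2_c44 LD3_c14)) = (LP (LK LD1_c20 LD2_c55 LD3_c20)) :=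
  Lre_b IH (LK LD1_c29 LD2_c44 LD3_c14) (LK LD1_c20 LD2_c55 LD3_c20) Lrfl Lrfl
theorem f182956 : Led Lsl_bt (LP (LK LD1_c15 LD2_c25 LD3_c22)) = (LP (LK LD1_c25 LD2_c17 LD3_c34)) :=
  Lre_b IH (LK LD1_c15 LD2_c25 LD3_c22) (LK LD1_c25 LD2_c17 LD3_c34) Lrfl Lrfl
theorem f182957 : Led Lsl_cf (LP (LK LD1_c29 LD2_c44 LD3_c14)) = (LP (LK LD1_c25 LD2_c17 LD3_c34)) :=
  Lgr Lrot97 (Lpr_bt (f182954 IH) (Lpr_ct (f182951 IH) (Lpr_bt (K23.f182953 IH) (Lpr_ct (K25.f182955 IH) (Lpr_bt (f182956 IH) (Lpn (LP (LK LD1_c25 LD2_c17 LD3_c34))))))))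
theorem f182961 : Led Lsl_ft (LP (LK LD1_c29 LD2_c44 LD3_c14)) = (LP (LK LD1_c20 LD2_c55 LD3_c18)) :=
  Lre_f IH (LK LD1_c29 LD2_c44 LD3_c14) (LK LD1_c20 LD2_c55 LD3_c18) Lrfl Lrfl
theorem f182962 : Led Lsl_ft (LP (LK LD1_c15 LD2_c25 LD3_c15)) = (LP (LK LD1_c25 LD2_c17 LD3_c34)) :=
  Lre_f IH (LK LD1_c15 LD2_c25 LD3_c15) (LK LD1_c25 LD2_c17 LD3_c34) Lrfl Lrfl
theorem f182963 : Led Lsl_ct (LP (LK LD1_c20 LD2_c55 LD3_c18)) = (LP (LK LD1_c15 LD2_c25 LD3_c15)) :=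
  Lgr Lrot40 (Lpe (f182961 IH) (Lpr_cf (f182957 IH) (Lpe (f182962 IH) (Lpn (LP (LK LD1_c15 LD2_c25 LD3_c15))))))
theorem f182973 : Led Lsl_et (LP (LK LD1_c11 LD2_c52 LD3_c24)) = (LP (LK LD1_c20 LD2_c55 LD3_c18)) :=
  Lre_e IH (LK LD1_c11 LD2_c52 LD3_c24) (LK LD1_c20 LD2_c55 LD3_c18) Lrfl Lrfl
theorem f182974 : Led Lsl_et (LP (LK LD1_c15 LD2_c25 LD3_c15)) = (LP (LK LD1_c8 LD2_c11 LD3_c26)) :=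
  Lre_e IH (LK LD1_c15 LD2_c25 LD3_c15) (LK LD1_c8 LD2_c11 LD3_c26) Lrfl Lrfl
theorem f182975 : Led Lsl_cf (LP (LK LD1_c11 LD2_c52 LD3_c24)) = (LP (LK LD1_c8 LD2_c11 LD3_c26)) :=
  Lgr Lrot39 (Lpr_et (f182973 IH) (Lpr_ct (f182963 IH) (Lpr_et (f182974 IH) (Lpn (LP (LK LD1_c8 LD2_c11 LD3_c26))))))
theorem f182981 : Led Lsl_at (LP (LK LD1_c11 LD2_c52 LD3_c24)) = (LP (LK LD1_c20 LD2_c55 LD3_c16)) :=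
  Lre_a IH (LK LD1_c11 LD2_c52 LD3_c24) (LK LD1_c20 LD2_c55 LD3_c16) Lrfl Lrfl
theorem f182982 : Led Lsl_at (LP (LK LD1_c15 LD2_c25 LD3_c13)) = (LP (LK LD1_c8 LD2_c11 LD3_c26)) :=
  Lre_a IH (LK LD1_c15 LD2_c25 LD3_c13) (LK LD1_c8 LD2_c11 LD3_c26) Lrfl Lrfl
theorem f182983 : Led Lsl_ct (LP (LK LD1_c20 LD2_c55 LD3_c16)) = (LP (LK LD1_c15 LD2_c25 LD3_c13)) :=
  Lgr Lrot111 (Lpe (f182981 IH) (Lpr_cf (f182975 IH) (Lpe (f182982 IH) (Lpn (LP (LK LD1_c15 LD2_c25 LD3_c13))))))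
theorem f351575 : Led Lsl_ft (LP (LK LD1_c11 LD2_c53 LD3_c52)) = (LP (LK LD1_c20 LD2_c55 LD3_c16)) :=
  Lgr Lrot4 (Lpe (f351574 IH) (Lpr_ff (f351555 IH) (Lpe (f182983 IH) (Lpn (LP (LK LD1_c20 LD2_c55 LD3_c16))))))
theorem f555116 : Led Lsl_dt (LP (LK LD1_c20 LD2_c55 LD3_c16)) = (LP (LK LD1_c16 LD2_c11 LD3_c33)) :=
  Lgr Lrot60 (Lpe (f351575 IH) (Lpr_df (f555112 IH) (Lpr_ff (f554931 IH) (Lpn (LP (LK LD1_c16 LD2_c11 LD3_c33))))))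
theorem f182557 : Led Lsl_bt (LP (LK LD1_c6 LD2_c4 LD3_c28)) = (LP (LK LD1_c11 LD2_c52 LD3_c24)) :=
  Lre_b IH (LK LD1_c6 LD2_c4 LD3_c28) (LK LD1_c11 LD2_c52 LD3_c24) Lrfl Lrfl
theorem f257244 : Led Lsl_at (LP (LK LD1_c11 LD2_c53 LD3_c44)) = (LP (LK LD1_c6 LD2_c5 LD3_c9)) :=
  Lre_a IH (LK LD1_c11 LD2_c53 LD3_c44) (LK LD1_c6 LD2_c5 LD3_c9) Lrfl Lrfl
theorem f324789 : Led Lsl_bt (LP (LK LD1_c20 LD2_c55 LD3_c16)) = (LP (LK LD1_c11 LD2_c53 LD3_c44)) :=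
  Lgr Lrot62 (Lpe (f182981 IH) (Lpe (f182557 IH) (Lpr_af (K21.f324783 IH) (Lpe (K17.f194970 IH) (Lpe (f257244 IH) (Lpn (LP (LK LD1_c11 LD2_c53 LD3_c44))))))))
theorem f401859 : Led Lsl_bf (LP (LK LD1_c20 LD2_c55 LD3_c16)) = (LP (LK LD1_c11 LD2_c53 LD3_c44)) :=
  Lgr Lrot24 (Lpr_bt (f324789 IH) (Lpn (LP (LK LD1_c11 LD2_c53 LD3_c44))))
theorem f555120 : Led Lsl_df (LP (LK LD1_c11 LD2_c53 LD3_c44)) = (LP (LK LD1_c11 LD2_c54 LD3_c3)) :=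
  Lgr Lrot12 (Lpe (f401859 IH) (Lpr_dt (f555116 IH) (Lpe (f554916 IH) (Lpn (LP (LK LD1_c11 LD2_c54 LD3_c3))))))
theorem f554933 : Led Lsl_ft (LP (LK LD1_c6 LD2_c5 LD3_c15)) = (LP (LK LD1_c11 LD2_c54 LD3_c3)) :=
  Lre_f IH (LK LD1_c6 LD2_c5 LD3_c15) (LK LD1_c11 LD2_c54 LD3_c3) Lrfl Lrfl
theorem f337878 : Led Lsl_dt (LP (LK LD1_c11 LD2_c54 LD3_c1)) = (LP (LK LD1_c6 LD2_c5 LD3_c15)) :=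
  Lre_d IH (LK LD1_c11 LD2_c54 LD3_c1) (LK LD1_c6 LD2_c5 LD3_c15) Lrfl Lrfl
theorem f555127 : Led Lsl_ft (LP (LK LD1_c11 LD2_c53 LD3_c44)) = (LP (LK LD1_c11 LD2_c54 LD3_c1)) :=
  Lgr Lrot54 (Lpr_df (f555120 IH) (Lpe (f554933 IH) (Lpe (f337878 IH) (Lpn (LP (LK LD1_c11 LD2_c54 LD3_c1))))))
theorem f555134 : Led Lsl_ff (LP (LK LD1_c11 LD2_c53 LD3_c44)) = (LP (LK LD1_c11 LD2_c54 LD3_c1)) :=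
  Lgr Lrot3 (Lpr_ft (f555127 IH) (Lpn (LP (LK LD1_c11 LD2_c54 LD3_c1))))
theorem f195391 : Led Lsl_bt (LP (LK LD1_c11 LD2_c52 LD3_c27)) = (LP (LK LD1_c6 LD2_c4 LD3_c29)) :=
  Lre_b IH (LK LD1_c11 LD2_c52 LD3_c27) (LK LD1_c6 LD2_c4 LD3_c29) Lrfl Lrfl
theorem f324795 : Led Lsl_ff (LP (LK LD1_c11 LD2_c52 LD3_c27)) = (LP (LK LD1_c6 LD2_c5 LD3_c9)) :=
  Lgr Lrot25 (Lpr_bt (f195391 IH) (Lpr_ft (K21.f324793 IH) (Lpr_bt (K17.f257207 IH) (Lpn (LP (LK LD1_c6 LD2_c5 LD3_c9))))))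
theorem f555136 : Led Lsl_at (LP (LK LD1_c11 LD2_c52 LD3_c27)) = (LP (LK LD1_c11 LD2_c54 LD3_c1)) :=
  Lgr Lrot66 (Lpr_ff (f324795 IH) (Lpe (f257244 IH) (Lpr_ff (f555134 IH) (Lpn (LP (LK LD1_c11 LD2_c54 LD3_c1))))))
theorem f554901 : Led Lsl_at (LP (LK LD1_c6 LD2_c5 LD3_c15)) = (LP (LK LD1_c11 LD2_c53 LD3_c60)) :=
  Lre_a IH (LK LD1_c6 LD2_c5 LD3_c15) (LK LD1_c11 LD2_c53 LD3_c60) Lrfl Lrfl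
theorem f555153 : Led Lsl_df (LP (LK LD1_c11 LD2_c52 LD3_c27)) = (LP (LK LD1_c11 LD2_c53 LD3_c60)) :=
  Lgr Lrot18 (Lpr_at (f555136 IH) (Lpr_dt (f337878 IH) (Lpr_at (f554901 IH) (Lpn (LP (LK LD1_c11 LD2_c53 LD3_c60))))))
theorem f555171 : Led Lsl_dt (LP (LK LD1_c11 LD2_c52 LD3_c27)) = (LP (LK LD1_c11 LD2_c53 LD3_c60)) :=
  Lgr Lrot42 (Lpr_df (f555153 IH) (Lpn (LP (LK LD1_c11 LD2_c53 LD3_c60))))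
theorem f555173 : Led Lsl_df (LP (LK LD1_c6 LD2_c5 LD3_c9)) = (LP (LK LD1_c6 LD2_c5 LD3_c16)) :=
  Lgr Lrot78 (Lpe (f324795 IH) (Lpr_dt (f555171 IH) (Lpr_ft (f554889 IH) (Lpn (LP (LK LD1_c6 LD2_c5 LD3_c16))))))
theorem f257256 : Led Lsl_gt (LP (LK LD1_c6 LD2_c5 LD3_c9)) = (LP (LK LD1_c11 LD2_c53 LD3_c42)) :=
  Lre_g IH (LK LD1_c6 LD2_c5 LD3_c9) (LK LD1_c11 LD2_c53 LD3_c42) Lrfl Lrfl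
theorem f257321 : Led Lsl_ct (LP (LK LD1_c11 LD2_c53 LD3_c42)) = (LP (LK LD1_c20 LD2_c57 LD3_c25)) :=
  Lre_c IH (LK LD1_c11 LD2_c53 LD3_c42) (LK LD1_c20 LD2_c57 LD3_c25) Lrfl Lrfl
theorem f177420 : Led Lsl_ct (LP (LK LD1_c2 LD2_c58 LD3_c47)) = (LP (LK LD1_c1 LD2_c25 LD3_c25)) :=
  Lre_c IH (LK LD1_c2 LD2_c58 LD3_c47) (LK LD1_c1 LD2_c25 LD3_c25) Lrfl Lrfl
theorem f183490 : Led Lsl_gt (LP (LK LD1_c1 LD2_c25 LD3_c25)) = (LP (LK LD1_c2 LD2_c59 LD3_c27)) :=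
  Lre_g IH (LK LD1_c1 LD2_c25 LD3_c25) (LK LD1_c2 LD2_c59 LD3_c27) Lrfl Lrfl
theorem f555176 : Led Lsl_ct (LP (LK LD1_c2 LD2_c59 LD3_c27)) = (LP (LK LD1_c6 LD2_c6 LD3_c42)) :=
  Lre_c IH (LK LD1_c2 LD2_c59 LD3_c27) (LK LD1_c6 LD2_c6 LD3_c42) Lrfl Lrfl
theorem f555177 : Led Lsl_dt (LP (LK LD1_c11 LD2_c56 LD3_c29)) = (LP (LK LD1_c6 LD2_c6 LD3_c42)) :=
  Lre_d IH (LK LD1_c11 LD2_c56 LD3_c29) (LK LD1_c6 LD2_c6 LD3_c42) Lrfl Lrfl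
theorem f555178 : Led Lsl_ct (LP (LK LD1_c21 LD2_c1 LD3_c24)) = (LP (LK LD1_c11 LD2_c56 LD3_c29)) :=
  Lre_c IH (LK LD1_c21 LD2_c1 LD3_c24) (LK LD1_c11 LD2_c56 LD3_c29) Lrfl Lrfl
theorem f555179 : Led Lsl_gt (LP (LK LD1_c20 LD2_c57 LD3_c25)) = (LP (LK LD1_c21 LD2_c1 LD3_c24)) :=
  Lgr Lrot150 (Lpe (f257321 IH) (Lpe (f257256 IH) (Lpr_df (f555173 IH) (Lpr_gt (f195222 IH) (Lpr_ct (f177420 IH) (Lpr_gt (f183490 IH) (Lpr_ct (f555176 IH) (Lpe (f555177 IH) (Lpe (f555178 IH) (Lpn (LP (LK LD1_c21 LD2_c1 LD3_c24))))))))))))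
theorem f555183 : Led Lsl_ct (LP (LK LD1_c11 LD2_c56 LD3_c29)) = (LP (LK LD1_c21 LD2_c1 LD3_c24)) :=
  Lre_c IH (LK LD1_c11 LD2_c56 LD3_c29) (LK LD1_c21 LD2_c1 LD3_c24) Lrfl Lrfl
theorem f54133 : Led Lsl_gt (LP (LK LD1_c16 LD2_c11 LD3_c10)) = (LP (LK LD1_c8 LD2_c38 LD3_c33)) :=
  Lre_g IH (LK LD1_c16 LD2_c11 LD3_c10) (LK LD1_c8 LD2_c38 LD3_c33) Lrfl Lrfl
theorem f555184 : Led Lsl_bf (LP (LK LD1_c16 LD2_c11 LD3_c10)) = (LP (LK LD1_c11 LD2_c56 LD3_c29)) :=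
  Lgr Lrot156 (Lpr_gt (f54133 IH) (Lpe (f54139 IH) (Lpr_ct (K16.f28661 IH) (Lpr_gt (K11.f54091 IH) (Lpe (K17.f257319 IH) (Lpr_bt (K17.f257207 IH) (Lpr_gt (f257256 IH) (Lpr_ct (f257321 IH) (Lpr_gt (f555179 IH) (Lpe (f555183 IH) (Lpn (LP (LK LD1_c11 LD2_c56 LD3_c29)))))))))))))
theorem f554978 : Led Lsl_ct (LP (LK LD1_c11 LD2_c53 LD3_c54)) = (LP (LK LD1_c8 LD2_c38 LD3_c41)) :=
  Lgr Lrot59 (Lpr_cf (f554972 IH) (Lpn (LP (LK LD1_c8 LD2_c38 LD3_c41))))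
theorem f555186 : Led Lsl_bt (LP (LK LD1_c11 LD2_c53 LD3_c42)) = (LP (LK LD1_c10 LD2_c3 LD3_c34)) :=
  Lgr Lrot92 (Lpr_ct (f257321 IH) (Lpr_gt (f555179 IH) (Lpe (f555183 IH) (Lpe (f555184 IH) (Lpr_gt (f54133 IH) (Lpr_ct (f54120 IH) (Lpr_gt (f27898 IH) (Lpe (f554978 IH) (Lpr_bt (f274279 IH) (Lpr_gt (K17.f264906 IH) (Lpn (LP (LK LD1_c10 LD2_c3 LD3_c34)))))))))))))
theorem f555189 : Led Lsl_bf (LP (LK LD1_c11 LD2_c53 LD3_c42)) = (LP (LK LD1_c10 LD2_c3 LD3_c34)) :=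
  Lgr Lrot24 (Lpr_bt (f555186 IH) (Lpn (LP (LK LD1_c10 LD2_c3 LD3_c34))))
theorem f182855 : Led Lsl_bt (LP (LK LD1_c10 LD2_c37 LD3_c8)) = (LP (LK LD1_c19 LD2_c14 LD3_c5)) :=
  Lre_b IH (LK LD1_c10 LD2_c37 LD3_c8) (LK LD1_c19 LD2_c14 LD3_c5) Lrfl Lrfl
theorem f182856 : Led Lsl_bt (LP (LK LD1_c25 LD2_c21 LD3_c47)) = (LP (LK LD1_c15 LD2_c29 LD3_c7)) :=
  Lre_b IH (LK LD1_c25 LD2_c21 LD3_c47) (LK LD1_c15 LD2_c29 LD3_c7) Lrfl Lrfl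
theorem f182857 : Led Lsl_ct (LP (LK LD1_c19 LD2_c14 LD3_c5)) = (LP (LK LD1_c25 LD2_c21 LD3_c47)) :=
  Lgr Lrot83 (Lpe (f182855 IH) (Lpe (K17.f182854 IH) (Lpe (K25.f182853 IH) (Lpr_cf (K19.f182846 IH) (Lpe (f182856 IH) (Lpn (LP (LK LD1_c25 LD2_c21 LD3_c47))))))))
theorem f182867 : Led Lsl_ft (LP (LK LD1_c10 LD2_c37 LD3_c6)) = (LP (LK LD1_c19 LD2_c14 LD3_c5)) :=
  Lre_f IH (LK LD1_c10 LD2_c37 LD3_c6) (LK LD1_c19 LD2_c14 LD3_c5) Lrfl Lrfl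
theorem f182868 : Led Lsl_ft (LP (LK LD1_c25 LD2_c21 LD3_c47)) = (LP (LK LD1_c15 LD2_c29 LD3_c5)) :=
  Lre_f IH (LK LD1_c25 LD2_c21 LD3_c47) (LK LD1_c15 LD2_c29 LD3_c5) Lrfl Lrfl
theorem f182869 : Led Lsl_cf (LP (LK LD1_c10 LD2_c37 LD3_c6)) = (LP (LK LD1_c15 LD2_c29 LD3_c5)) :=
  Lgr Lrot108 (Lpr_ft (f182867 IH) (Lpr_ct (f182857 IH) (Lpr_ft (f182868 IH) (Lpn (LP (LK LD1_c15 LD2_c29 LD3_c5))))))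
theorem f182881 : Led Lsl_et (LP (LK LD1_c10 LD2_c37 LD3_c6)) = (LP (LK LD1_c5 LD2_c23 LD3_c21)) :=
  Lre_e IH (LK LD1_c10 LD2_c37 LD3_c6) (LK LD1_c5 LD2_c23 LD3_c21) Lrfl Lrfl
theorem f182882 : Led Lsl_et (LP (LK LD1_c8 LD2_c13 LD3_c53)) = (LP (LK LD1_c15 LD2_c29 LD3_c5)) :=
  Lre_e IH (LK LD1_c8 LD2_c13 LD3_c53) (LK LD1_c15 LD2_c29 LD3_c5) Lrfl Lrfl
theorem f182883 : Led Lsl_ct (LP (LK LD1_c5 LD2_c23 LD3_c21)) = (LP (LK LD1_c8 LD2_c13 LD3_c53)) :=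
  Lgr Lrot15 (Lpe (f182881 IH) (Lpr_cf (f182869 IH) (Lpe (f182882 IH) (Lpn (LP (LK LD1_c8 LD2_c13 LD3_c53))))))
theorem f555205 : Led Lsl_gf (LP (LK LD1_c8 LD2_c13 LD3_c53)) = (LP (LK LD1_c15 LD2_c29 LD3_c1)) :=
  Lgr Lrot126 (Lpe (f182883 IH) (Lpr_bt (f182573 IH) (Lpr_gt (K10.f190208 IH) (Lpr_ct (K16.f28661 IH) (Lpr_gt (K11.f54091 IH) (Lpe (K17.f257319 IH) (Lpr_bt (K17.f257207 IH) (Lpr_gt (f257256 IH) (Lpr_bf (f555189 IH) (Lpe (K17.f274264 IH) (Lpn (LP (LK LD1_c15 LD2_c29 LD3_c1)))))))))))))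
theorem f187487 : Led Lsl_dt (LP (LK LD1_c6 LD2_c5 LD3_c13)) = (LP (LK LD1_c2 LD2_c58 LD3_c46)) :=
  Lre_d IH (LK LD1_c6 LD2_c5 LD3_c13) (LK LD1_c2 LD2_c58 LD3_c46) Lrfl Lrfl
theorem f555213 : Led Lsl_df (LP (LK LD1_c5 LD2_c23 LD3_c21)) = (LP (LK LD1_c2 LD2_c58 LD3_c40)) :=
  Lgr Lrot162 (Lpr_cf (f182575 IH) (Lpr_gf (f555205 IH) (Lpr_cf (K17.f274264 IH) (Lpe (K17.f264906 IH) (Lpr_dt (f187487 IH) (Lpr_gt (K10.f181242 IH) (Lpr_ct (K10.f187488 IH) (Lpr_gt (K10.f177473 IH) (Lpr_ct (K10.f177478 IH) (Lpn (LP (LK LD1_c2 LD2_c58 LD3_c40))))))))))))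
theorem f42535 : Led Lsl_gt (LP (LK LD1_c5 LD2_c23 LD3_c21)) = (LP (LK LD1_c10 LD2_c37 LD3_c13)) :=
  Lre_g IH (LK LD1_c5 LD2_c23 LD3_c21) (LK LD1_c10 LD2_c37 LD3_c13) Lrfl Lrfl
theorem f321407 : Led Lsl_et (LP (LK LD1_c11 LD2_c52 LD3_c13)) = (LP (LK LD1_c8 LD2_c54 LD3_c2)) :=
  Lgr Lrot158 (Lpe (K16.f265287 IH) (Lpe (K23.f247136 IH) (Lpr_cf (K20.f321397 IH) (Lpn (LP (LK LD1_c8 LD2_c54 LD3_c2))))))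
theorem f555224 : Led Lsl_df (LP (LK LD1_c10 LD2_c37 LD3_c13)) = (LP (LK LD1_c11 LD2_c52 LD3_c13)) :=
  Lgr Lrot132 (Lpe (f42535 IH) (Lpr_df (f555213 IH) (Lpe (K10.f190189 IH) (Lpe (K20.f223372 IH) (Lpr_dt (K17.f292454 IH) (Lpe (K17.f292649 IH) (Lpe (K16.f267126 IH) (Lpr_et (K20.f292670 IH) (Lpe (K20.f247362 IH) (Lpe (f321407 IH) (Lpn (LP (LK LD1_c11 LD2_c52 LD3_c13)))))))))))))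
theorem f555232 : Led Lsl_cf (LP (LK LD1_c10 LD2_c37 LD3_c13)) = (LP (LK LD1_c15 LD2_c27 LD3_c57)) :=
  Lgr Lrot99 (Lpr_df (f555224 IH) (Lpe (K16.f265287 IH) (Lpr_gf (K15.f265282 IH) (Lpe (K16.f187769 IH) (Lpr_gf (K16.f250437 IH) (Lpe (K15.f249337 IH) (Lpe (K15.f265061 IH) (Lpe (K15.f265112 IH) (Lpr_gt (K21.f260297 IH) (Lpn (LP (LK LD1_c15 LD2_c27 LD3_c57))))))))))))
theorem f264908 : Led Lsl_dt (LP (LK LD1_c2 LD2_c37 LD3_c43)) = (LP (LK LD1_c5 LD2_c4 LD3_c55)) :=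
  Lgr Lrot6 (Lpr_gt (K13.f171995 IH) (Lpr_ct (K10.f171990 IH) (Lpr_gt (K15.f264902 IH) (Lpe (K10.f189567 IH) (Lpe (K10.f189564 IH) (Lpe (K16.f189572 IH) (Lpe (K16.f256830 IH) (Lpe (K16.f194188 IH) (Lpr_gf (K16.f256833 IH) (Lpn (LP (LK LD1_c5 LD2_c4 LD3_c55))))))))))))
theorem f554632 : Led Lsl_dt (LP (LK LD1_c10 LD2_c37 LD3_c14)) = (LP (LK LD1_c11 LD2_c52 LD3_c12)) :=
  Lgr Lrot120 (Lpr_cf (f554620 IH) (Lpe (K15.f266664 IH) (Lpe (K15.f266650 IH) (Lpe (f264908 IH) (Lpr_cf (K13.f232871 IH) (Lpe (K15.f223728 IH) (Lpe (K14.f239461 IH) (Lpr_at (K14.f252144 IH) (Lpr_cf (K16.f273911 IH) (Lpn (LP (LK LD1_c11 LD2_c52 LD3_c12))))))))))))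
theorem f554630 : Led Lsl_ft (LP (LK LD1_c10 LD2_c37 LD3_c14)) = (LP (LK LD1_c10 LD2_c37 LD3_c17)) :=
  Lgr Lrot4 (Lpr_cf (f554620 IH) (Lpr_ff (K16.f274292 IH) (Lpe (K16.f274231 IH) (Lpn (LP (LK LD1_c10 LD2_c37 LD3_c17))))))
theorem f555234 : Led Lsl_af (LP (LK LD1_c10 LD2_c37 LD3_c13)) = (LP (LK LD1_c10 LD2_c37 LD3_c17)) :=
  Lgr Lrot109 (Lpr_cf (f555232 IH) (Lpe (K17.f191962 IH) (Lpe (K15.f260288 IH) (Lpe (K15.f184832 IH) (Lpe (K10.f184871 IH) (Lpe (K14.f192272 IH) (Lpr_cf (K16.f273911 IH) (Lpe (f554632 IH) (Lpr_ft (f554630 IH) (Lpn (LP (LK LD1_c10 LD2_c37 LD3_c17))))))))))))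
theorem f555228 : Led Lsl_ft (LP (LK LD1_c10 LD2_c37 LD3_c13)) = (LP (LK LD1_c10 LD2_c37 LD3_c16)) :=
  Lgr Lrot54 (Lpr_df (f555224 IH) (Lpe (K16.f273900 IH) (Lpr_df (K16.f256847 IH) (Lpn (LP (LK LD1_c10 LD2_c37 LD3_c16))))))
theorem f555236 : Led Lsl_at (LP (LK LD1_c10 LD2_c37 LD3_c16)) = (LP (LK LD1_c10 LD2_c37 LD3_c14)) :=
  Lgr Lrot66 (Lpe (f555228 IH) (Lpr_af (f555234 IH) (Lpe (f554630 IH) (Lpn (LP (LK LD1_c10 LD2_c37 LD3_c14))))))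
theorem f190115 : Led Lsl_ct (LP (LK LD1_c6 LD2_c4 LD3_c24)) = (LP (LK LD1_c2 LD2_c58 LD3_c24)) :=
  Lre_c IH (LK LD1_c6 LD2_c4 LD3_c24) (LK LD1_c2 LD2_c58 LD3_c24) Lrfl Lrfl
theorem f273931 : Led Lsl_gf (LP (LK LD1_c6 LD2_c4 LD3_c24)) = (LP (LK LD1_c11 LD2_c52 LD3_c12)) :=
  Lgr Lrot104 (Lpr_ct (f190115 IH) (Lpe (K15.f22403 IH) (Lpe (K15.f192215 IH) (Lpr_gf (K15.f192207 IH) (Lpe (K9.f183613 IH) (Lpe (K9.f183612 IH) (Lpe (K14.f183628 IH) (Lpr_gt (K14.f183627 IH) (Lpr_ct (K17.f273920 IH) (Lpn (LP (LK LD1_c11 LD2_c52 LD3_c12))))))))))))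
theorem f273933 : Led Lsl_gt (LP (LK LD1_c6 LD2_c4 LD3_c24)) = (LP (LK LD1_c11 LD2_c52 LD3_c13)) :=
  Lgr Lrot46 (Lpr_gf (f273931 IH) (Lpe (K16.f273916 IH) (Lpr_at (K16.f273897 IH) (Lpn (LP (LK LD1_c11 LD2_c52 LD3_c13))))))
theorem f555230 : Led Lsl_gt (LP (LK LD1_c10 LD2_c37 LD3_c13)) = (LP (LK LD1_c6 LD2_c5 LD3_c4)) :=
  Lgr Lrot49 (Lpr_df (f555224 IH) (Lpe (f273933 IH) (Lpe (K22.f22404 IH) (Lpr_gt (K17.f290037 IH) (Lpr_dt (K17.f274437 IH) (Lpe (K17.f284094 IH) (Lpr_dt (K9.f42135 IH) (Lpe (K14.f42151 IH) (Lpe (K17.f42152 IH) (Lpn (LP (LK LD1_c6 LD2_c5 LD3_c4))))))))))))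
theorem f555240 : Led Lsl_gt (LP (LK LD1_c6 LD2_c5 LD3_c4)) = (LP (LK LD1_c10 LD2_c37 LD3_c14)) :=
  Lgr Lrot46 (Lpe (f555230 IH) (Lpr_ft (f555228 IH) (Lpr_at (f555236 IH) (Lpn (LP (LK LD1_c10 LD2_c37 LD3_c14))))))
theorem f182897 : Led Lsl_at (LP (LK LD1_c10 LD2_c37 LD3_c15)) = (LP (LK LD1_c5 LD2_c23 LD3_c21)) :=
  Lre_a IH (LK LD1_c10 LD2_c37 LD3_c15) (LK LD1_c5 LD2_c23 LD3_c21) Lrfl Lrfl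
theorem f555242 : Led Lsl_ft (LP (LK LD1_c6 LD2_c5 LD3_c4)) = (LP (LK LD1_c10 LD2_c37 LD3_c15)) :=
  Lgr Lrot2 (Lpr_gt (f555240 IH) (Lpr_gt (f42519 IH) (Lpe (f182897 IH) (Lpn (LP (LK LD1_c10 LD2_c37 LD3_c15))))))
theorem f555314 : Led Lsl_ff (LP (LK LD1_c6 LD2_c5 LD3_c4)) = (LP (LK LD1_c10 LD2_c37 LD3_c15)) :=
  Lgr Lrot3 (Lpr_ft (f555242 IH) (Lpn (LP (LK LD1_c10 LD2_c37 LD3_c15))))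
theorem f555326 : Led Lsl_gf (LP (LK LD1_c10 LD2_c37 LD3_c17)) = (LP (LK LD1_c10 LD2_c37 LD3_c15)) :=
  Lgr Lrot47 (Lpr_gt (K15.f182161 IH) (Lpr_af (K17.f283617 IH) (Lpr_ff (f555314 IH) (Lpn (LP (LK LD1_c10 LD2_c37 LD3_c15))))))
theorem f283640 : Led Lsl_ff (LP (LK LD1_c10 LD2_c35 LD3_c46)) = (LP (LK LD1_c8 LD2_c13 LD3_c51)) :=
  Lgr Lrot19 (Lpr_dt (K15.f194635 IH) (Lpr_ft (K17.f283634 IH) (Lpr_dt (K17.f54967 IH) (Lpn (LP (LK LD1_c8 LD2_c13 LD3_c51))))))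
theorem f555320 : Led Lsl_ct (LP (LK LD1_c10 LD2_c35 LD3_c46)) = (LP (LK LD1_c10 LD2_c37 LD3_c15)) :=
  Lgr Lrot40 (Lpr_ff (f283640 IH) (Lpe (K17.f283386 IH) (Lpr_ff (f555314 IH) (Lpn (LP (LK LD1_c10 LD2_c37 LD3_c15))))))
theorem f554775 : Led Lsl_bf (LP (LK LD1_c19 LD2_c11 LD3_c17)) = (LP (LK LD1_c10 LD2_c35 LD3_c46)) :=
  Lgr Lrot24 (Lpr_bt (f554771 IH) (Lpn (LP (LK LD1_c10 LD2_c35 LD3_c46))))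
theorem f214080 : Led Lsl_gt (LP (LK LD1_c9 LD2_c41 LD3_c40)) = (LP (LK LD1_c17 LD2_c50 LD3_c0)) :=
  Lre_g IH (LK LD1_c9 LD2_c41 LD3_c40) (LK LD1_c17 LD2_c50 LD3_c0) Lrfl Lrfl
theorem f342790 : Led Lsl_gf (LP (LK LD1_c15 LD2_c28 LD3_c32)) = (LP (LK LD1_c17 LD2_c50 LD3_c0)) :=
  Lgr Lrot76 (Lpe (K25.f182720 IH) (Lpr_ff (K25.f342780 IH) (Lpr_gt (f214080 IH) (Lpn (LP (LK LD1_c17 LD2_c50 LD3_c0))))))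
theorem f555328 : Led Lsl_bt (LP (LK LD1_c15 LD2_c28 LD3_c36)) = (LP (LK LD1_c17 LD2_c50 LD3_c0)) :=
  Lgr Lrot130 (Lpe (K17.f274235 IH) (Lpr_gf (f555326 IH) (Lpe (f555320 IH) (Lpe (f554775 IH) (Lpr_gf (f409341 IH) (Lpe (f216018 IH) (Lpr_ct (f216015 IH) (Lpe (f342769 IH) (Lpr_cf (K25.f182715 IH) (Lpr_gf (f342790 IH) (Lpn (LP (LK LD1_c17 LD2_c50 LD3_c0)))))))))))))
theorem f554610 : Led Lsl_df (LP (LK LD1_c15 LD2_c28 LD3_c30)) = (LP (LK LD1_c15 LD2_c27 LD3_c59)) :=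
  Lgr Lrot38 (Lpr_dt (f554606 IH) (Lpn (LP (LK LD1_c15 LD2_c27 LD3_c59))))
theorem f554613 : Led Lsl_bt (LP (LK LD1_c15 LD2_c28 LD3_c30)) = (LP (LK LD1_c15 LD2_c27 LD3_c60)) :=
  Lgr Lrot95 (Lpr_df (f554610 IH) (Lpe (f266659 IH) (Lpe (K16.f266670 IH) (Lpn (LP (LK LD1_c15 LD2_c27 LD3_c60))))))
theorem f555330 : Led Lsl_ff (LP (LK LD1_c15 LD2_c28 LD3_c30)) = (LP (LK LD1_c17 LD2_c50 LD3_c0)) :=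
  Lgr Lrot25 (Lpr_bt (f554613 IH) (Lpr_ft (K21.f274295 IH) (Lpr_bt (f555328 IH) (Lpn (LP (LK LD1_c17 LD2_c50 LD3_c0))))))
theorem f216012 : Led Lsl_gt (LP (LK LD1_c17 LD2_c50 LD3_c1)) = (LP (LK LD1_c9 LD2_c41 LD3_c40)) :=
  Lre_g IH (LK LD1_c17 LD2_c50 LD3_c1) (LK LD1_c9 LD2_c41 LD3_c40) Lrfl Lrfl
theorem f342784 : Led Lsl_gt (LP (LK LD1_c15 LD2_c28 LD3_c32)) = (LP (LK LD1_c17 LD2_c50 LD3_c1)) :=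
  Lgr Lrot5 (Lpr_ft (K25.f342775 IH) (Lpr_at (K25.f216006 IH) (Lpe (f216012 IH) (Lpn (LP (LK LD1_c17 LD2_c50 LD3_c1))))))
theorem f555336 : Led Lsl_at (LP (LK LD1_c15 LD2_c28 LD3_c30)) = (LP (LK LD1_c17 LD2_c50 LD3_c1)) :=
  Lgr Lrot26 (Lpr_ff (f555330 IH) (Lpe (f342790 IH) (Lpr_gt (f342784 IH) (Lpn (LP (LK LD1_c17 LD2_c50 LD3_c1))))))
theorem f555344 : Led Lsl_df (LP (LK LD1_c25 LD2_c19 LD3_c48)) = (LP (LK LD1_c17 LD2_c50 LD3_c1)) :=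
  Lgr Lrot18 (Lpr_at (K21.f274372 IH) (Lpe (f554610 IH) (Lpr_at (f555336 IH) (Lpn (LP (LK LD1_c17 LD2_c50 LD3_c1))))))
theorem f182757 : Led Lsl_dt (LP (LK LD1_c8 LD2_c13 LD3_c38)) = (LP (LK LD1_c15 LD2_c28 LD3_c33)) :=
  Lre_d IH (LK LD1_c8 LD2_c13 LD3_c38) (LK LD1_c15 LD2_c28 LD3_c33) Lrfl Lrfl
theorem f554817 : Led Lsl_dt (LP (LK LD1_c16 LD2_c12 LD3_c52)) = (LP (LK LD1_c15 LD2_c28 LD3_c32)) :=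
  Lgr Lrot44 (Lpr_af (f554811 IH) (Lpe (f182757 IH) (Lpe (K25.f182694 IH) (Lpn (LP (LK LD1_c15 LD2_c28 LD3_c32))))))
theorem f48151 : Led Lsl_ct (LP (LK LD1_c4 LD2_c20 LD3_c58)) = (LP (LK LD1_c8 LD2_c39 LD3_c26)) :=
  Lre_c IH (LK LD1_c4 LD2_c20 LD3_c58) (LK LD1_c8 LD2_c39 LD3_c26) Lrfl Lrfl
theorem f194154 : Led Lsl_dt (LP (LK LD1_c8 LD2_c39 LD3_c36)) = (LP (LK LD1_c16 LD2_c13 LD3_c8)) :=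
  Lre_d IH (LK LD1_c8 LD2_c39 LD3_c36) (LK LD1_c16 LD2_c13 LD3_c8) Lrfl Lrfl
theorem f555354 : Led Lsl_gt (LP (LK LD1_c16 LD2_c13 LD3_c8)) = (LP (LK LD1_c26 LD2_c9 LD3_c60)) :=
  Lre_g IH (LK LD1_c16 LD2_c13 LD3_c8) (LK LD1_c26 LD2_c9 LD3_c60) Lrfl Lrfl
theorem f555355 : Led Lsl_df (LP (LK LD1_c18 LD2_c18 LD3_c3)) = (LP (LK LD1_c26 LD2_c9 LD3_c60)) :=
  Lgr Lrot84 (Lpr_cf (K21.f275818 IH) (Lpr_df (f555344 IH) (Lpe (f342784 IH) (Lpe (f554817 IH) (Lpe (f48116 IH) (Lpe (f48151 IH) (Lpr_gt (f28968 IH) (Lpr_dt (f194154 IH) (Lpr_gt (f555354 IH) (Lpn (LP (LK LD1_c26 LD2_c9 LD3_c60))))))))))))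
theorem f231489 : Led Lsl_bt (LP (LK LD1_c10 LD2_c15 LD3_c44)) = (LP (LK LD1_c5 LD2_c12 LD3_c41)) :=
  Lre_b IH (LK LD1_c10 LD2_c15 LD3_c44) (LK LD1_c5 LD2_c12 LD3_c41) Lrfl Lrfl
theorem f270291 : Led Lsl_ft (LP (LK LD1_c10 LD2_c0 LD3_c56)) = (LP (LK LD1_c10 LD2_c15 LD3_c44)) :=
  Lgr Lrot75 (Lpe (K21.f266648 IH) (Lpr_ff (K16.f270287 IH) (Lpe (f231489 IH) (Lpn (LP (LK LD1_c10 LD2_c15 LD3_c44))))))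
theorem f231511 : Led Lsl_at (LP (LK LD1_c10 LD2_c15 LD3_c44)) = (LP (LK LD1_c18 LD2_c39 LD3_c59)) :=
  Lre_a IH (LK LD1_c10 LD2_c15 LD3_c44) (LK LD1_c18 LD2_c39 LD3_c59) Lrfl Lrfl
theorem f411445 : Led Lsl_ff (LP (LK LD1_c18 LD2_c18 LD3_c3)) = (LP (LK LD1_c18 LD2_c39 LD3_c59)) :=
  Lgr Lrot30 (Lpr_at (K21.f275829 IH) (Lpr_ft (f270291 IH) (Lpr_at (f231511 IH) (Lpn (LP (LK LD1_c18 LD2_c39 LD3_c59))))))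
theorem f411451 : Led Lsl_ft (LP (LK LD1_c18 LD2_c18 LD3_c3)) = (LP (LK LD1_c18 LD2_c39 LD3_c59)) :=
  Lgr Lrot48 (Lpr_ff (f411445 IH) (Lpn (LP (LK LD1_c18 LD2_c39 LD3_c59))))
theorem f201390 : Led Lsl_bt (LP (LK LD1_c18 LD2_c22 LD3_c51)) = (LP (LK LD1_c10 LD2_c4 LD3_c11)) :=
  Lre_b IH (LK LD1_c18 LD2_c22 LD3_c51) (LK LD1_c10 LD2_c4 LD3_c11) Lrfl Lrfl
theorem f231499 : Led Lsl_bt (LP (LK LD1_c5 LD2_c12 LD3_c41)) = (LP (LK LD1_c10 LD2_c15 LD3_c44)) :=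
  Lre_b IH (LK LD1_c5 LD2_c12 LD3_c41) (LK LD1_c10 LD2_c15 LD3_c44) Lrfl Lrfl
theorem f231500 : Led Lsl_df (LP (LK LD1_c18 LD2_c22 LD3_c51)) = (LP (LK LD1_c10 LD2_c15 LD3_c44)) :=
  Lgr Lrot12 (Lpr_bt (f201390 IH) (Lpr_dt (K13.f231493 IH) (Lpr_bt (f231499 IH) (Lpn (LP (LK LD1_c10 LD2_c15 LD3_c44))))))
theorem f231502 : Led Lsl_at (LP (LK LD1_c18 LD2_c22 LD3_c51)) = (LP (LK LD1_c28 LD2_c0 LD3_c30)) :=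
  Lre_a IH (LK LD1_c18 LD2_c22 LD3_c51) (LK LD1_c28 LD2_c0 LD3_c30) Lrfl Lrfl
theorem f231503 : Led Lsl_at (LP (LK LD1_c18 LD2_c39 LD3_c59)) = (LP (LK LD1_c10 LD2_c15 LD3_c44)) :=
  Lre_a IH (LK LD1_c18 LD2_c39 LD3_c59) (LK LD1_c10 LD2_c15 LD3_c44) Lrfl Lrfl
theorem f231504 : Led Lsl_dt (LP (LK LD1_c28 LD2_c0 LD3_c30)) = (LP (LK LD1_c18 LD2_c39 LD3_c59)) :=
  Lgr Lrot44 (Lpe (f231502 IH) (Lpr_df (f231500 IH) (Lpe (f231503 IH) (Lpn (LP (LK LD1_c18 LD2_c39 LD3_c59))))))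
theorem f231508 : Led Lsl_df (LP (LK LD1_c28 LD2_c0 LD3_c30)) = (LP (LK LD1_c18 LD2_c39 LD3_c59)) :=
  Lgr Lrot38 (Lpr_dt (f231504 IH) (Lpn (LP (LK LD1_c18 LD2_c39 LD3_c59))))
theorem f555361 : Led Lsl_ft (LP (LK LD1_c28 LD2_c0 LD3_c30)) = (LP (LK LD1_c26 LD2_c9 LD3_c60)) :=
  Lgr Lrot54 (Lpr_df (f231508 IH) (Lpe (f411451 IH) (Lpr_df (f555355 IH) (Lpn (LP (LK LD1_c26 LD2_c9 LD3_c60))))))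
theorem f555370 : Led Lsl_ff (LP (LK LD1_c28 LD2_c0 LD3_c30)) = (LP (LK LD1_c26 LD2_c9 LD3_c60)) :=
  Lgr Lrot3 (Lpr_ft (f555361 IH) (Lpn (LP (LK LD1_c26 LD2_c9 LD3_c60))))
theorem f231510 : Led Lsl_at (LP (LK LD1_c28 LD2_c0 LD3_c30)) = (LP (LK LD1_c18 LD2_c22 LD3_c51)) :=
  Lre_a IH (LK LD1_c28 LD2_c0 LD3_c30) (LK LD1_c18 LD2_c22 LD3_c51) Lrfl Lrfl
theorem f555364 : Led Lsl_gt (LP (LK LD1_c26 LD2_c9 LD3_c60)) = (LP (LK LD1_c16 LD2_c13 LD3_c12)) :=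
  Lre_g IH (LK LD1_c26 LD2_c9 LD3_c60) (LK LD1_c16 LD2_c13 LD3_c12) Lrfl Lrfl
theorem f555372 : Led Lsl_gf (LP (LK LD1_c18 LD2_c22 LD3_c51)) = (LP (LK LD1_c16 LD2_c13 LD3_c12)) :=
  Lgr Lrot76 (Lpe (f231510 IH) (Lpr_ff (f555370 IH) (Lpr_gt (f555364 IH) (Lpn (LP (LK LD1_c16 LD2_c13 LD3_c12))))))
theorem f555374 : Led Lsl_ft (LP (LK LD1_c16 LD2_c13 LD3_c12)) = (LP (LK LD1_c26 LD2_c9 LD3_c53)) :=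
  Lre_f IH (LK LD1_c16 LD2_c13 LD3_c12) (LK LD1_c26 LD2_c9 LD3_c53) Lrfl Lrfl
theorem f555375 : Led Lsl_at (LP (LK LD1_c26 LD2_c9 LD3_c53)) = (LP (LK LD1_c16 LD2_c13 LD3_c8)) :=
  Lre_a IH (LK LD1_c26 LD2_c9 LD3_c53) (LK LD1_c16 LD2_c13 LD3_c8) Lrfl Lrfl
theorem f555376 : Led Lsl_gt (LP (LK LD1_c18 LD2_c22 LD3_c51)) = (LP (LK LD1_c16 LD2_c13 LD3_c8)) :=
  Lgr Lrot46 (Lpr_gf (f555372 IH) (Lpr_ft (f555374 IH) (Lpr_at (f555375 IH) (Lpn (LP (LK LD1_c16 LD2_c13 LD3_c8))))))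
theorem f211534 : Led Lsl_bt (LP (LK LD1_c10 LD2_c4 LD3_c11)) = (LP (LK LD1_c18 LD2_c22 LD3_c51)) :=
  Lre_b IH (LK LD1_c10 LD2_c4 LD3_c11) (LK LD1_c18 LD2_c22 LD3_c51) Lrfl Lrfl
theorem f205341 : Led Lsl_bt (LP (LK LD1_c2 LD2_c33 LD3_c21)) = (LP (LK LD1_c1 LD2_c13 LD3_c37)) :=
  Lre_b IH (LK LD1_c2 LD2_c33 LD3_c21) (LK LD1_c1 LD2_c13 LD3_c37) Lrfl Lrfl
theorem f555872 : Led Lsl_gt (LP (LK LD1_c3 LD2_c0 LD3_c21)) = (LP (LK LD1_c2 LD2_c33 LD3_c36)) :=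
  Lgr Lrot190 (Lpe (f175919 IH) (Lpe (f183376 IH) (Lpe (K14.f181191 IH) (Lpe (K14.f181192 IH) (Lpe (K17.f183476 IH) (Lpe (K17.f183477 IH) (Lpe (f183478 IH) (Lpe (f554870 IH) (Lpr_bf (f555856 IH) (Lpe (f28969 IH) (Lpe (f418356 IH) (Lpe (f555376 IH) (Lpe (f211534 IH) (Lpe (K13.f201378 IH) (Lpe (K13.f211524 IH) (Lpe (K12.f201869 IH) (Lpe (f205341 IH) (Lpe (K38.f185155 IH) (Lpe (K38.f211533 IH) (Lpn (LP (LK LD1_c2 LD2_c33 LD3_c36))))))))))))))))))))))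
theorem f193992 : Led Lsl_ct (LP (LK LD1_c2 LD2_c33 LD3_c21)) = (LP (LK LD1_c1 LD2_c13 LD3_c44)) :=
  Lre_c IH (LK LD1_c2 LD2_c33 LD3_c21) (LK LD1_c1 LD2_c13 LD3_c44) Lrfl Lrfl
theorem f193993 : Led Lsl_dt (LP (LK LD1_c5 LD2_c12 LD3_c60)) = (LP (LK LD1_c2 LD2_c33 LD3_c21)) :=
  Lre_d IH (LK LD1_c5 LD2_c12 LD3_c60) (LK LD1_c2 LD2_c33 LD3_c21) Lrfl Lrfl
theorem f193994 : Led Lsl_gt (LP (LK LD1_c10 LD2_c16 LD3_c14)) = (LP (LK LD1_c5 LD2_c12 LD3_c60)) :=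
  Lre_g IH (LK LD1_c10 LD2_c16 LD3_c14) (LK LD1_c5 LD2_c12 LD3_c60) Lrfl Lrfl
theorem f555877 : Led Lsl_dt (LP (LK LD1_c5 LD2_c13 LD3_c38)) = (LP (LK LD1_c10 LD2_c16 LD3_c14)) :=
  Lgr Lrot57 (Lpr_gf (K36.f427822 IH) (Lpr_cf (K36.f495333 IH) (Lpq (K37.f542395 IH) (Lpr_gt (K37.f542390 IH) (Lpe (K35.f176046 IH) (Lpr_gt (f555872 IH) (Lpr_dt (K38.f211533 IH) (Lpe (f193992 IH) (Lpe (f193993 IH) (Lpe (f193994 IH) (Lpn (LP (LK LD1_c10 LD2_c16 LD3_c14)))))))))))))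
theorem f132475 : Led Lsl_et (LP (LK LD1_c2 LD2_c10 LD3_c18)) = (LP (LK LD1_c4 LD2_c26 LD3_c0)) :=
  Lre_e IH (LK LD1_c2 LD2_c10 LD3_c18) (LK LD1_c4 LD2_c26 LD3_c0) Lrfl Lrfl
theorem f138924 : Led Lsl_ft (LP (LK LD1_c4 LD2_c26 LD3_c0)) = (LP (LK LD1_c8 LD2_c49 LD3_c23)) :=
  Lre_f IH (LK LD1_c4 LD2_c26 LD3_c0) (LK LD1_c8 LD2_c49 LD3_c23) Lrfl Lrfl
theorem f138925 : Led Lsl_et (LP (LK LD1_c2 LD2_c27 LD3_c3)) = (LP (LK LD1_c1 LD2_c10 LD3_c48)) :=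
  Lre_e IH (LK LD1_c2 LD2_c27 LD3_c3) (LK LD1_c1 LD2_c10 LD3_c48) Lrfl Lrfl
theorem f138927 : Led Lsl_et (LP (LK LD1_c8 LD2_c49 LD3_c23)) = (LP (LK LD1_c4 LD2_c58 LD3_c27)) :=
  Lgr Lrot69 (Lpe (f138924 IH) (Lpe (f132475 IH) (Lpr_ff (K6.f138914 IH) (Lpe (f138925 IH) (Lpe (K36.f138926 IH) (Lpn (LP (LK LD1_c4 LD2_c58 LD3_c27))))))))
theorem f138930 : Led Lsl_ct (LP (LK LD1_c4 LD2_c26 LD3_c5)) = (LP (LK LD1_c8 LD2_c49 LD3_c23)) :=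
  Lre_c IH (LK LD1_c4 LD2_c26 LD3_c5) (LK LD1_c8 LD2_c49 LD3_c23) Lrfl Lrfl
theorem f427816 : Led Lsl_et (LP (LK LD1_c5 LD2_c13 LD3_c38)) = (LP (LK LD1_c4 LD2_c26 LD3_c5)) :=
  Lgr Lrot158 (Lpr_cf (K36.f427807 IH) (Lpe (f138927 IH) (Lpe (f138930 IH) (Lpn (LP (LK LD1_c4 LD2_c26 LD3_c5))))))
theorem f302395 : Led Lsl_dt (LP (LK LD1_c2 LD2_c33 LD3_c21)) = (LP (LK LD1_c5 LD2_c12 LD3_c60)) :=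
  Lre_d IH (LK LD1_c2 LD2_c33 LD3_c21) (LK LD1_c5 LD2_c12 LD3_c60) Lrfl Lrfl
theorem f81946 : Led Lsl_et (LP (LK LD1_c1 LD2_c23 LD3_c4)) = (LP (LK LD1_c2 LD2_c54 LD3_c11)) :=
  Lre_e IH (LK LD1_c1 LD2_c23 LD3_c4) (LK LD1_c2 LD2_c54 LD3_c11) Lrfl Lrfl
theorem f555889 : Led Lsl_gf (LP (LK LD1_c4 LD2_c26 LD3_c5)) = (LP (LK LD1_c2 LD2_c54 LD3_c11)) :=
  Lgr Lrot141 (Lpe (f427816 IH) (Lpr_dt (f555877 IH) (Lpr_gt (f193994 IH) (Lpe (f302395 IH) (Lpq (K38.f537896 IH) (Lpe (K38.f506321 IH) (Lpr_gt (K8.f69210 IH) (Lpe (K32.f420039 IH) (Lpr_gt (K36.f420045 IH) (Lpe (K8.f69443 IH) (Lpr_et (f81946 IH) (Lpn (LP (LK LD1_c2 LD2_c54 LD3_c11))))))))))))))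
theorem f428063 : Led Lsl_ct (LP (LK LD1_c8 LD2_c49 LD3_c23)) = (LP (LK LD1_c4 LD2_c26 LD3_c5)) :=
  Lre_c IH (LK LD1_c8 LD2_c49 LD3_c23) (LK LD1_c4 LD2_c26 LD3_c5) Lrfl Lrfl
theorem f99980 : Led Lsl_dt (LP (LK LD1_c16 LD2_c29 LD3_c58)) = (LP (LK LD1_c8 LD2_c49 LD3_c20)) :=
  Lre_d IH (LK LD1_c16 LD2_c29 LD3_c58) (LK LD1_c8 LD2_c49 LD3_c20) Lrfl Lrfl
theorem f138990 : Led Lsl_dt (LP (LK LD1_c4 LD2_c58 LD3_c46)) = (LP (LK LD1_c9 LD2_c48 LD3_c0)) :=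
  Lre_d IH (LK LD1_c4 LD2_c58 LD3_c46) (LK LD1_c9 LD2_c48 LD3_c0) Lrfl Lrfl
theorem f138991 : Led Lsl_bf (LP (LK LD1_c16 LD2_c29 LD3_c58)) = (LP (LK LD1_c9 LD2_c48 LD3_c0)) :=
  Lgr Lrot93 (Lpr_dt (f99980 IH) (Lpr_bt (K8.f138978 IH) (Lpr_dt (f138990 IH) (Lpn (LP (LK LD1_c9 LD2_c48 LD3_c0))))))
theorem f138998 : Led Lsl_et (LP (LK LD1_c16 LD2_c29 LD3_c58)) = (LP (LK LD1_c8 LD2_c49 LD3_c22)) :=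
  Lre_e IH (LK LD1_c16 LD2_c29 LD3_c58) (LK LD1_c8 LD2_c49 LD3_c22) Lrfl Lrfl
theorem f138999 : Led Lsl_et (LP (LK LD1_c4 LD2_c58 LD3_c51)) = (LP (LK LD1_c9 LD2_c48 LD3_c0)) :=
  Lre_e IH (LK LD1_c4 LD2_c58 LD3_c51) (LK LD1_c9 LD2_c48 LD3_c0) Lrfl Lrfl
theorem f139000 : Led Lsl_bt (LP (LK LD1_c8 LD2_c49 LD3_c22)) = (LP (LK LD1_c4 LD2_c58 LD3_c51)) :=
  Lgr Lrot119 (Lpe (f138998 IH) (Lpr_bf (f138991 IH) (Lpe (f138999 IH) (Lpn (LP (LK LD1_c4 LD2_c58 LD3_c51))))))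
theorem f139009 : Led Lsl_dt (LP (LK LD1_c4 LD2_c26 LD3_c0)) = (LP (LK LD1_c8 LD2_c49 LD3_c22)) :=
  Lre_d IH (LK LD1_c4 LD2_c26 LD3_c0) (LK LD1_c8 LD2_c49 LD3_c22) Lrfl Lrfl
theorem f139010 : Led Lsl_dt (LP (LK LD1_c4 LD2_c58 LD3_c51)) = (LP (LK LD1_c2 LD2_c27 LD3_c16)) :=
  Lre_d IH (LK LD1_c4 LD2_c58 LD3_c51) (LK LD1_c2 LD2_c27 LD3_c16) Lrfl Lrfl
theorem f139011 : Led Lsl_bf (LP (LK LD1_c4 LD2_c26 LD3_c0)) = (LP (LK LD1_c2 LD2_c27 LD3_c16)) :=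
  Lgr Lrot93 (Lpr_dt (f139009 IH) (Lpr_bt (f139000 IH) (Lpr_dt (f139010 IH) (Lpn (LP (LK LD1_c2 LD2_c27 LD3_c16))))))
theorem f539818 : Led Lsl_bf (LP (LK LD1_c4 LD2_c35 LD3_c4)) = (LP (LK LD1_c8 LD2_c49 LD3_c23)) :=
  Lgr Lrot61 (Lpr_ft (K36.f539814 IH) (Lpe (f139011 IH) (Lpr_ft (f138924 IH) (Lpn (LP (LK LD1_c8 LD2_c49 LD3_c23))))))
theorem f81945 : Led Lsl_ct (LP (LK LD1_c1 LD2_c23 LD3_c6)) = (LP (LK LD1_c2 LD2_c54 LD3_c11)) :=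
  Lre_c IH (LK LD1_c1 LD2_c23 LD3_c6) (LK LD1_c2 LD2_c54 LD3_c11) Lrfl Lrfl
theorem f555895 : v1673 = K36.v1642 :=
  (Llr Lrot164 (Lpe (f500704 IH) (Lpr_bf (K36.f428253 IH) (Lpr_ct (K36.f383268 IH) (Lpe (K36.f428177 IH) (Lpr_cf (K36.f500756 IH) (Lpqs (K36.f539836 IH) (Lpq (K36.f539826 IH) (Lpe (K36.f500368 IH) (Lpr_bf (f539818 IH) (Lpr_ct (f428063 IH) (Lpr_gf (f555889 IH) (Lpe (f81945 IH) (Lpr_bt (K36.f500514 IH) (Lpn K36.v1642))))))))))))))).symm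
theorem f450549 : Led Lsl_dt (LP (LK LD1_c5 LD2_c52 LD3_c57)) = (LP (LK LD1_c2 LD2_c52 LD3_c45)) :=
  Lre_d IH (LK LD1_c5 LD2_c52 LD3_c57) (LK LD1_c2 LD2_c52 LD3_c45) Lrfl Lrfl
theorem f450550 : Led Lsl_bt (LP (LK LD1_c2 LD2_c52 LD3_c45)) = (LP (LK LD1_c4 LD2_c35 LD3_c5)) :=
  Lgr Lrot95 (Lpe (f450549 IH) (Lpr_bf (K37.f450545 IH) (Lpe (K37.f211093 IH) (Lpn (LP (LK LD1_c4 LD2_c35 LD3_c5))))))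
theorem f450552 : Led Lsl_bf (LP (LK LD1_c2 LD2_c52 LD3_c45)) = (LP (LK LD1_c4 LD2_c35 LD3_c5)) :=
  Lgr Lrot24 (Lpr_bt (f450550 IH) (Lpn (LP (LK LD1_c4 LD2_c35 LD3_c5))))
theorem f556719 : Led Lsl_gf (LP (LK LD1_c3 LD2_c59 LD3_c38)) = (LP (LK LD1_c2 LD2_c52 LD3_c45)) :=
  Lgr Lrot124 (Lpe (K36.f427968 IH) (Lpr_ct (f556706 IH) (Lpr_gt (f545957 IH) (Lpe (f418492 IH) (Lpr_bt (K37.f500568 IH) (Lpq (K37.f545826 IH) (Lpr_gt (K31.f101562 IH) (Lpr_ct (K31.f500913 IH) (Lpq (K36.f539251 IH) (Lpr_gt (f500704 IH) (Lpqs (f555895 IH) (Lpqs (K36.f537904 IH) (Lpe (K36.f211072 IH) (Lpe (f450552 IH) (Lpn (LP (LK LD1_c2 LD2_c52 LD3_c45)))))))))))))))))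
theorem f427927 : Led Lsl_bf (LP (LK LD1_c5 LD2_c7 LD3_c13)) = (LP (LK LD1_c8 LD2_c2 LD3_c17)) :=
  Lgr Lrot24 (Lpr_bt (K36.f427924 IH) (Lpn (LP (LK LD1_c8 LD2_c2 LD3_c17))))
theorem f556646 : Led Lsl_bf (LP (LK LD1_c9 LD2_c47 LD3_c3)) = (LP (LK LD1_c8 LD2_c0 LD3_c13)) :=
  Lgr Lrot96 (Lpr_et (f556642 IH) (Lpe (f427927 IH) (Lpr_et (f427937 IH) (Lpn (LP (LK LD1_c8 LD2_c0 LD3_c13))))))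
theorem f176806 : Led Lsl_bf (LP (LK LD1_c4 LD2_c39 LD3_c16)) = (LP (LK LD1_c3 LD2_c3 LD3_c19)) :=
  Lgr Lrot90 (Lpr_ct (K37.f176805 IH) (Lpr_bt (K36.f176804 IH) (Lpr_ct (K9.f176801 IH) (Lpr_bt (K10.f175890 IH) (Lpr_ct (K9.f175888 IH) (Lpn (LP (LK LD1_c3 LD2_c3 LD3_c19))))))))
theorem f424943 : Led Lsl_ct (LP (LK LD1_c8 LD2_c2 LD3_c18)) = (LP (LK LD1_c4 LD2_c0 LD3_c47)) :=
  Lre_c IH (LK LD1_c8 LD2_c2 LD3_c18) (LK LD1_c4 LD2_c0 LD3_c47) Lrfl Lrfl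
theorem f424939 : Led Lsl_bt (LP (LK LD1_c8 LD2_c0 LD3_c6)) = (LP (LK LD1_c15 LD2_c4 LD3_c46)) :=
  Lre_b IH (LK LD1_c8 LD2_c0 LD3_c6) (LK LD1_c15 LD2_c4 LD3_c46) Lrfl Lrfl
theorem f161097 : Led Lsl_et (LP (LK LD1_c2 LD2_c10 LD3_c17)) = (LP (LK LD1_c4 LD2_c25 LD3_c60)) :=
  Lre_e IH (LK LD1_c2 LD2_c10 LD3_c17) (LK LD1_c4 LD2_c25 LD3_c60) Lrfl Lrfl
theorem f161260 : Led Lsl_at (LP (LK LD1_c4 LD2_c25 LD3_c60)) = (LP (LK LD1_c8 LD2_c0 LD3_c6)) :=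
  Lgr Lrot80 (Lpe (f161097 IH) (Lpr_af (K8.f161098 IH) (Lpe (f37066 IH) (Lpn (LP (LK LD1_c8 LD2_c0 LD3_c6))))))
theorem f139016 : Led Lsl_bt (LP (LK LD1_c2 LD2_c10 LD3_c20)) = (LP (LK LD1_c4 LD2_c25 LD3_c60)) :=
  Lre_b IH (LK LD1_c2 LD2_c10 LD3_c20) (LK LD1_c4 LD2_c25 LD3_c60) Lrfl Lrfl
theorem f424940 : Led Lsl_at (LP (LK LD1_c4 LD2_c25 LD3_c58)) = (LP (LK LD1_c2 LD2_c10 LD3_c20)) :=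
  Lre_a IH (LK LD1_c4 LD2_c25 LD3_c58) (LK LD1_c2 LD2_c10 LD3_c20) Lrfl Lrfl
theorem f424941 : Led Lsl_bt (LP (LK LD1_c8 LD2_c2 LD3_c18)) = (LP (LK LD1_c4 LD2_c25 LD3_c58)) :=
  Lgr Lrot62 (Lpr_af (f424932 IH) (Lpe (f424939 IH) (Lpe (f161260 IH) (Lpe (f139016 IH) (Lpe (f424940 IH) (Lpn (LP (LK LD1_c4 LD2_c25 LD3_c58))))))))
def v1643 : LQ := Led Lsl_gt (LP (LK LD1_c1 LD2_c23 LD3_c6))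
theorem f500515 : Led Lsl_gt (LP (LK LD1_c1 LD2_c23 LD3_c6)) = v1643 :=
  Lrfl
theorem f541546 : v1643 = K35.v1623 :=
  (Llr Lrot5 (Lpe (f500515 IH) (Lpr_ft (K36.f500520 IH) (Lpqs (K36.f541536 IH) (Lpq (K36.f541487 IH) (Lpe (K36.f500408 IH) (Lpr_gf (K35.f500403 IH) (Lpn K35.v1623)))))))).symm
theorem f81855 : Led Lsl_ct (LP (LK LD1_c2 LD2_c54 LD3_c11)) = (LP (LK LD1_c1 LD2_c23 LD3_c6)) :=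
  Lre_c IH (LK LD1_c2 LD2_c54 LD3_c11) (LK LD1_c1 LD2_c23 LD3_c6) Lrfl Lrfl
theorem f556585 : Led Lsl_gt (LP (LK LD1_c4 LD2_c25 LD3_c58)) = (LP (LK LD1_c2 LD2_c54 LD3_c11)) :=
  Lgr Lrot82 (Lpe (f424941 IH) (Lpr_ct (f424943 IH) (Lpr_gf (f556582 IH) (Lpr_cf (f29345 IH) (Lpr_bt (f29344 IH) (Lpe (K10.f193741 IH) (Lpe (K35.f80954 IH) (Lpr_ct (K35.f494527 IH) (Lpqs (K35.f541547 IH) (Lpq (f541546 IH) (Lpe (f500515 IH) (Lpe (f81855 IH) (Lpn (LP (LK LD1_c2 LD2_c54 LD3_c11)))))))))))))))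
theorem f556725 : Led Lsl_ct (LP (LK LD1_c2 LD2_c53 LD3_c26)) = (LP (LK LD1_c2 LD2_c52 LD3_c45)) :=
  Lgr Lrot64 (Lpr_bt (K6.f81842 IH) (Lpe (f556585 IH) (Lpe (f424941 IH) (Lpr_ct (f424943 IH) (Lpr_gf (f556582 IH) (Lpr_cf (f29345 IH) (Lpe (f556632 IH) (Lpr_bf (f556646 IH) (Lpr_ct (f158384 IH) (Lpr_gf (f556719 IH) (Lpn (LP (LK LD1_c2 LD2_c52 LD3_c45)))))))))))))
theorem f556727 : Led Lsl_gt (LP (LK LD1_c4 LD2_c39 LD3_c16)) = (LP (LK LD1_c2 LD2_c53 LD3_c26)) :=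
  Lgr Lrot82 (Lpr_bf (f176806 IH) (Lpe (K13.f175891 IH) (Lpr_gf (K10.f193749 IH) (Lpe (K1.f29213 IH) (Lpr_bt (f29220 IH) (Lpe (f556632 IH) (Lpr_bf (f556646 IH) (Lpr_ct (f158384 IH) (Lpr_gf (f556719 IH) (Lpe (f556725 IH) (Lpn (LP (LK LD1_c2 LD2_c53 LD3_c26)))))))))))))
theorem f556731 : Led Lsl_ct (LP (LK LD1_c2 LD2_c52 LD3_c45)) = (LP (LK LD1_c2 LD2_c53 LD3_c26)) :=
  Lgr Lrot10 (Lpr_bt (f450550 IH) (Lpr_gt (K37.f500372 IH) (Lpe (K37.f539903 IH) (Lpr_gt (K37.f72508 IH) (Lpe (K37.f176813 IH) (Lpr_bt (K37.f176812 IH) (Lpr_gt (K9.f26663 IH) (Lpe (K36.f176804 IH) (Lpr_ct (K37.f176798 IH) (Lpr_gt (f556727 IH) (Lpn (LP (LK LD1_c2 LD2_c53 LD3_c26)))))))))))))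
theorem f539927 : Led Lsl_dt (LP (LK LD1_c12 LD2_c5 LD3_c31)) = (LP (LK LD1_c6 LD2_c13 LD3_c20)) :=
  Lre_d IH (LK LD1_c12 LD2_c5 LD3_c31) (LK LD1_c6 LD2_c13 LD3_c20) Lrfl Lrfl
theorem f82120 : Led Lsl_bt (LP (LK LD1_c4 LD2_c25 LD3_c2)) = (LP (LK LD1_c8 LD2_c47 LD3_c15)) :=
  Lre_b IH (LK LD1_c4 LD2_c25 LD3_c2) (LK LD1_c8 LD2_c47 LD3_c15) Lrfl Lrfl
theorem f272752 : Led Lsl_gf (LP (LK LD1_c8 LD2_c47 LD3_c41)) = (LP (LK LD1_c9 LD2_c47 LD3_c12)) :=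
  Lgr Lrot154 (Lpe (K1.f37671 IH) (Lpr_ct (K1.f37547 IH) (Lpe (K2.f37335 IH) (Lpe (K11.f37693 IH) (Lpe (K31.f37694 IH) (Lpr_gf (K18.f272640 IH) (Lpr_ct (K18.f272727 IH) (Lpr_gt (K18.f211208 IH) (Lpe (K36.f272719 IH) (Lpn (LP (LK LD1_c9 LD2_c47 LD3_c12))))))))))))
theorem f71061 : Led Lsl_at (LP (LK LD1_c4 LD2_c36 LD3_c13)) = (LP (LK LD1_c9 LD2_c8 LD3_c13)) :=
  Lre_a IH (LK LD1_c4 LD2_c36 LD3_c13) (LK LD1_c9 LD2_c8 LD3_c13) Lrfl Lrfl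
theorem f71063 : Led Lsl_ef (LP (LK LD1_c4 LD2_c36 LD3_c13)) = (LP (LK LD1_c2 LD2_c53 LD3_c36)) :=
  Lgr Lrot20 (Lpr_at (f71061 IH) (Lpr_et (K2.f71045 IH) (Lpr_at (K37.f71062 IH) (Lpn (LP (LK LD1_c2 LD2_c53 LD3_c36))))))
theorem f420737 : Led Lsl_bf (LP (LK LD1_c3 LD2_c0 LD3_c61)) = (LP (LK LD1_c4 LD2_c36 LD3_c13)) :=
  Lgr Lrot96 (Lpr_et (K13.f70831 IH) (Lpr_bt (K35.f420733 IH) (Lpe (f71063 IH) (Lpn (LP (LK LD1_c4 LD2_c36 LD3_c13))))))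
theorem f70849 : Led Lsl_ft (LP (LK LD1_c2 LD2_c15 LD3_c17)) = (LP (LK LD1_c4 LD2_c36 LD3_c13)) :=
  Lre_f IH (LK LD1_c2 LD2_c15 LD3_c17) (LK LD1_c4 LD2_c36 LD3_c13) Lrfl Lrfl
theorem f420754 : Led Lsl_bt (LP (LK LD1_c1 LD2_c26 LD3_c19)) = (LP (LK LD1_c2 LD2_c15 LD3_c17)) :=
  Lgr Lrot35 (Lpe (K1.f38389 IH) (Lpr_bf (f420737 IH) (Lpe (f70849 IH) (Lpn (LP (LK LD1_c2 LD2_c15 LD3_c17))))))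
theorem f202188 : Led Lsl_dt (LP (LK LD1_c2 LD2_c15 LD3_c17)) = (LP (LK LD1_c4 LD2_c36 LD3_c12)) :=
  Lre_d IH (LK LD1_c2 LD2_c15 LD3_c17) (LK LD1_c4 LD2_c36 LD3_c12) Lrfl Lrfl
theorem f420759 : Led Lsl_bf (LP (LK LD1_c3 LD2_c0 LD3_c60)) = (LP (LK LD1_c4 LD2_c36 LD3_c12)) :=
  Lgr Lrot93 (Lpr_dt (K12.f27259 IH) (Lpr_bt (f420754 IH) (Lpr_dt (f202188 IH) (Lpn (LP (LK LD1_c4 LD2_c36 LD3_c12))))))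
theorem f420776 : Led Lsl_ct (LP (LK LD1_c4 LD2_c36 LD3_c12)) = (LP (LK LD1_c9 LD2_c8 LD3_c36)) :=
  Lre_c IH (LK LD1_c4 LD2_c36 LD3_c12) (LK LD1_c9 LD2_c8 LD3_c36) Lrfl Lrfl
theorem f420777 : Led Lsl_gt (LP (LK LD1_c17 LD2_c1 LD3_c18)) = (LP (LK LD1_c9 LD2_c8 LD3_c36)) :=
  Lre_g IH (LK LD1_c17 LD2_c1 LD3_c18) (LK LD1_c9 LD2_c8 LD3_c36) Lrfl Lrfl
theorem f540500 : Led Lsl_bt (LP (LK LD1_c14 LD2_c25 LD3_c35)) = (LP (LK LD1_c7 LD2_c39 LD3_c18)) :=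
  Lre_b IH (LK LD1_c14 LD2_c25 LD3_c35) (LK LD1_c7 LD2_c39 LD3_c18) Lrfl Lrfl
theorem f540501 : Led Lsl_cf (LP (LK LD1_c17 LD2_c1 LD3_c18)) = (LP (LK LD1_c14 LD2_c25 LD3_c35)) :=
  Lgr Lrot160 (Lpr_gt (f420777 IH) (Lpe (f420776 IH) (Lpe (f420759 IH) (Lpr_gt (K10.f35559 IH) (Lpr_ct (K36.f272782 IH) (Lpe (f272752 IH) (Lpe (K1.f35485 IH) (Lpr_bt (f82120 IH) (Lpr_gt (K36.f540495 IH) (Lpe (f540500 IH) (Lpn (LP (LK LD1_c14 LD2_c25 LD3_c35)))))))))))))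
theorem f420766 : Led Lsl_ct (LP (LK LD1_c9 LD2_c8 LD3_c36)) = (LP (LK LD1_c4 LD2_c36 LD3_c12)) :=
  Lre_c IH (LK LD1_c9 LD2_c8 LD3_c36) (LK LD1_c4 LD2_c36 LD3_c12) Lrfl Lrfl
theorem f71462 : Led Lsl_ct (LP (LK LD1_c1 LD2_c4 LD3_c45)) = (LP (LK LD1_c2 LD2_c15 LD3_c17)) :=
  Lre_c IH (LK LD1_c1 LD2_c4 LD3_c45) (LK LD1_c2 LD2_c15 LD3_c17) Lrfl Lrfl
theorem f546820 : Led Lsl_gt (LP (LK LD1_c6 LD2_c13 LD3_c20)) = (LP (LK LD1_c4 LD2_c36 LD3_c23)) :=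
  Lgr Lrot9 (Lpe (f539927 IH) (Lpr_gt (K37.f546816 IH) (Lpe (f540501 IH) (Lpr_gt (f420777 IH) (Lpr_ct (f420766 IH) (Lpe (f202188 IH) (Lpe (f71462 IH) (Lpe (K38.f112370 IH) (Lpe (K38.f198304 IH) (Lpn (LP (LK LD1_c4 LD2_c36 LD3_c23))))))))))))
theorem f174544 : Led Lsl_bt (LP (LK LD1_c2 LD2_c13 LD3_c16)) = (LP (LK LD1_c4 LD2_c32 LD3_c24)) :=
  Lre_b IH (LK LD1_c2 LD2_c13 LD3_c16) (LK LD1_c4 LD2_c32 LD3_c24) Lrfl Lrfl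
theorem f411663 : Led Lsl_et (LP (LK LD1_c4 LD2_c32 LD3_c27)) = (LP (LK LD1_c2 LD2_c13 LD3_c16)) :=
  Lre_e IH (LK LD1_c4 LD2_c32 LD3_c27) (LK LD1_c2 LD2_c13 LD3_c16) Lrfl Lrfl
theorem f547486 : Led Lsl_bt (LP (LK LD1_c2 LD2_c15 LD3_c21)) = (LP (LK LD1_c4 LD2_c32 LD3_c27)) :=
  Lgr Lrot119 (Lpr_ef (K38.f547484 IH) (Lpe (f174544 IH) (Lpe (f411663 IH) (Lpn (LP (LK LD1_c4 LD2_c32 LD3_c27))))))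
theorem f556737 : Led Lsl_gt (LP (LK LD1_c4 LD2_c32 LD3_c27)) = (LP (LK LD1_c2 LD2_c16 LD3_c37)) :=
  Lgr Lrot82 (Lpe (f547486 IH) (Lpr_ct (K38.f210637 IH) (Lpe (f546820 IH) (Lpe (K37.f176814 IH) (Lpr_bt (K37.f539926 IH) (Lpe (K37.f500372 IH) (Lpe (f450550 IH) (Lpr_ct (f556731 IH) (Lpe (f556727 IH) (Lpe (K37.f176798 IH) (Lpn (LP (LK LD1_c2 LD2_c16 LD3_c37)))))))))))))
theorem f411664 : Led Lsl_dt (LP (LK LD1_c4 LD2_c32 LD3_c27)) = (LP (LK LD1_c9 LD2_c2 LD3_c30)) :=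
  Lre_d IH (LK LD1_c4 LD2_c32 LD3_c27) (LK LD1_c9 LD2_c2 LD3_c30) Lrfl Lrfl
theorem f450557 : Led Lsl_ct (LP (LK LD1_c11 LD2_c32 LD3_c4)) = (LP (LK LD1_c5 LD2_c52 LD3_c57)) :=
  Lre_c IH (LK LD1_c11 LD2_c32 LD3_c4) (LK LD1_c5 LD2_c52 LD3_c57) Lrfl Lrfl
theorem f556739 : Led Lsl_gt (LP (LK LD1_c9 LD2_c2 LD3_c30)) = (LP (LK LD1_c4 LD2_c39 LD3_c23)) :=
  Lgr Lrot9 (Lpe (f411664 IH) (Lpr_gt (f556737 IH) (Lpr_ct (K37.f176798 IH) (Lpr_gt (f556727 IH) (Lpr_ct (f556725 IH) (Lpe (f450549 IH) (Lpe (f450557 IH) (Lpe (K37.f539283 IH) (Lpe (K37.f24007 IH) (Lpn (LP (LK LD1_c4 LD2_c39 LD3_c23))))))))))))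
theorem f132994 : Led Lsl_ft (LP (LK LD1_c6 LD2_c15 LD3_c54)) = (LP (LK LD1_c3 LD2_c5 LD3_c0)) :=
  Lre_f IH (LK LD1_c6 LD2_c15 LD3_c54) (LK LD1_c3 LD2_c5 LD3_c0) Lrfl Lrfl
theorem f551588 : Led Lsl_gt (LP (LK LD1_c6 LD2_c15 LD3_c54)) = (LP (LK LD1_c4 LD2_c32 LD3_c51)) :=
  Lgr Lrot5 (Lpr_ft (f132994 IH) (Lpr_at (K6.f132970 IH) (Lpr_gf (f551585 IH) (Lpn (LP (LK LD1_c4 LD2_c32 LD3_c51))))))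
theorem f132935 : Led Lsl_dt (LP (LK LD1_c3 LD2_c5 LD3_c1)) = (LP (LK LD1_c6 LD2_c15 LD3_c54)) :=
  Lre_d IH (LK LD1_c3 LD2_c5 LD3_c1) (LK LD1_c6 LD2_c15 LD3_c54) Lrfl Lrfl
theorem f556747 : Led Lsl_gf (LP (LK LD1_c3 LD2_c5 LD3_c1)) = (LP (LK LD1_c3 LD2_c0 LD3_c52)) :=
  Lgr Lrot138 (Lpr_dt (f132935 IH) (Lpr_gt (f551588 IH) (Lpe (f382058 IH) (Lpq (f551596 IH) (Lpe (f495824 IH) (Lpr_gt (K30.f411656 IH) (Lpe (f411663 IH) (Lpr_dt (f411664 IH) (Lpr_gt (f556739 IH) (Lpr_df (f24000 IH) (Lpr_et (f24012 IH) (Lpn (LP (LK LD1_c3 LD2_c0 LD3_c52))))))))))))))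
theorem f175909 : Led Lsl_bt (LP (LK LD1_c1 LD2_c26 LD3_c14)) = (LP (LK LD1_c3 LD2_c0 LD3_c52)) :=
  Lre_b IH (LK LD1_c1 LD2_c26 LD3_c14) (LK LD1_c3 LD2_c0 LD3_c52) Lrfl Lrfl
theorem f556755 : Led Lsl_bf (LP (LK LD1_c3 LD2_c5 LD3_c1)) = (LP (LK LD1_c2 LD2_c44 LD3_c52)) :=
  Lgr Lrot34 (Lpr_gf (f556747 IH) (Lpe (f175909 IH) (Lpr_ct (K10.f175910 IH) (Lpe (K9.f59523 IH) (Lpr_cf (K17.f73147 IH) (Lpr_gf (K37.f452518 IH) (Lpq (K38.f537760 IH) (Lpr_bf (K38.f354443 IH) (Lpe (K35.f380266 IH) (Lpr_gf (f380292 IH) (Lpe (f211888 IH) (Lpn (LP (LK LD1_c2 LD2_c44 LD3_c52))))))))))))))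
theorem f59418 : Led Lsl_gt (LP (LK LD1_c4 LD2_c42 LD3_c54)) = (LP (LK LD1_c2 LD2_c18 LD3_c57)) :=
  Lre_g IH (LK LD1_c4 LD2_c42 LD3_c54) (LK LD1_c2 LD2_c18 LD3_c57) Lrfl Lrfl
theorem f132966 : Led Lsl_gt (LP (LK LD1_c3 LD2_c5 LD3_c1)) = (LP (LK LD1_c4 LD2_c42 LD3_c54)) :=
  Lgr Lrot5 (Lpr_ft (K6.f132805 IH) (Lpr_at (K6.f132957 IH) (Lpe (f59418 IH) (Lpn (LP (LK LD1_c4 LD2_c42 LD3_c54))))))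
theorem f380454 : Led Lsl_bt (LP (LK LD1_c2 LD2_c44 LD3_c55)) = (LP (LK LD1_c1 LD2_c18 LD3_c46)) :=
  Lre_b IH (LK LD1_c2 LD2_c44 LD3_c55) (LK LD1_c1 LD2_c18 LD3_c46) Lrfl Lrfl
theorem f547765 : K38.v1520 = (LP (LK LD1_c2 LD2_c44 LD3_c55)) :=
  Lefun (Lecon (K38.f496033 IH) (K38.f547758 IH)) (f422721 IH)
theorem f551821 : Led Lsl_gf (LP (LK LD1_c3 LD2_c9 LD3_c56)) = (LP (LK LD1_c5 LD2_c37 LD3_c11)) :=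
  Lgr Lrot76 (Lpr_af (K38.f117629 IH) (Lpr_ff (K38.f547739 IH) (Lpr_gt (f551819 IH) (Lpn (LP (LK LD1_c5 LD2_c37 LD3_c11))))))
theorem f556769 : Led Lsl_bf (LP (LK LD1_c4 LD2_c42 LD3_c54)) = (LP (LK LD1_c2 LD2_c44 LD3_c30)) :=
  Lgr Lrot34 (Lpe (f132966 IH) (Lpr_bf (f556755 IH) (Lpr_ct (f211888 IH) (Lpe (K38.f211848 IH) (Lpr_cf (K31.f177843 IH) (Lpe (K38.f289411 IH) (Lpe (f380454 IH) (Lpq (f547765 IH) (Lpe (K38.f496031 IH) (Lpr_gf (f551821 IH) (Lpe (f547368 IH) (Lpn (LP (LK LD1_c2 LD2_c44 LD3_c30))))))))))))))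
theorem f547396 : Led Lsl_ft (LP (LK LD1_c4 LD2_c31 LD3_c2)) = (LP (LK LD1_c2 LD2_c44 LD3_c30)) :=
  Lgr Lrot54 (Lpr_df (K38.f546382 IH) (Lpr_ff (K38.f547390 IH) (Lpr_df (K38.f546507 IH) (Lpn (LP (LK LD1_c2 LD2_c44 LD3_c30))))))
theorem f547455 : Led Lsl_bt (LP (LK LD1_c3 LD2_c4 LD3_c61)) = (LP (LK LD1_c4 LD2_c31 LD3_c2)) :=
  Lgr Lrot127 (Lpr_bf (K38.f547451 IH) (Lpn (LP (LK LD1_c4 LD2_c31 LD3_c2))))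
theorem f556780 : Led Lsl_ft (LP (LK LD1_c4 LD2_c42 LD3_c54)) = (LP (LK LD1_c3 LD2_c4 LD3_c61)) :=
  Lgr Lrot75 (Lpr_bf (f556769 IH) (Lpe (f547396 IH) (Lpe (f547455 IH) (Lpn (LP (LK LD1_c3 LD2_c4 LD3_c61))))))
theorem f285262 : Led Lsl_ff (LP (LK LD1_c2 LD2_c30 LD3_c14)) = (LP (LK LD1_c2 LD2_c33 LD3_c2)) :=
  Lgr Lrot3 (Lpr_ft (f285258 IH) (Lpn (LP (LK LD1_c2 LD2_c33 LD3_c2))))
theorem f180263 : Led Lsl_bt (LP (LK LD1_c1 LD2_c12 LD3_c8)) = (LP (LK LD1_c2 LD2_c30 LD3_c14)) :=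
  Lre_b IH (LK LD1_c1 LD2_c12 LD3_c8) (LK LD1_c2 LD2_c30 LD3_c14) Lrfl Lrfl
theorem f180354 : Led Lsl_et (LP (LK LD1_c2 LD2_c30 LD3_c14)) = (LP (LK LD1_c2 LD2_c49 LD3_c12)) :=
  Lgr Lrot74 (Lpe (f180263 IH) (Lpr_ef (K10.f180352 IH) (Lpe (f175876 IH) (Lpn (LP (LK LD1_c2 LD2_c49 LD3_c12))))))
theorem f24009 : Led Lsl_et (LP (LK LD1_c3 LD2_c0 LD3_c52)) = (LP (LK LD1_c6 LD2_c9 LD3_c2)) :=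
  Lre_e IH (LK LD1_c3 LD2_c0 LD3_c52) (LK LD1_c6 LD2_c9 LD3_c2) Lrfl Lrfl
theorem f285264 : Led Lsl_ft (LP (LK LD1_c6 LD2_c9 LD3_c2)) = (LP (LK LD1_c5 LD2_c0 LD3_c31)) :=
  Lgr Lrot86 (Lpe (f24009 IH) (Lpe (f268461 IH) (Lpe (f180354 IH) (Lpr_ff (f285262 IH) (Lpr_ef (K38.f185145 IH) (Lpn (LP (LK LD1_c5 LD2_c0 LD3_c31))))))))
theorem f175703 : Led Lsl_at (LP (LK LD1_c5 LD2_c0 LD3_c31)) = (LP (LK LD1_c9 LD2_c51 LD3_c22)) :=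
  Lre_a IH (LK LD1_c5 LD2_c0 LD3_c31) (LK LD1_c9 LD2_c51 LD3_c22) Lrfl Lrfl
theorem f552411 : Led Lsl_ft (LP (LK LD1_c9 LD2_c51 LD3_c22)) = (LP (LK LD1_c6 LD2_c15 LD3_c51)) :=
  Lgr Lrot101 (Lpe (f175703 IH) (Lpe (f285264 IH) (Lpr_af (f552403 IH) (Lpn (LP (LK LD1_c6 LD2_c15 LD3_c51))))))
theorem f552413 : Led Lsl_ff (LP (LK LD1_c9 LD2_c51 LD3_c22)) = (LP (LK LD1_c6 LD2_c15 LD3_c51)) :=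
  Lgr Lrot3 (Lpr_ft (f552411 IH) (Lpn (LP (LK LD1_c6 LD2_c15 LD3_c51))))
theorem f175717 : Led Lsl_at (LP (LK LD1_c9 LD2_c51 LD3_c22)) = (LP (LK LD1_c5 LD2_c0 LD3_c31)) :=
  Lre_a IH (LK LD1_c9 LD2_c51 LD3_c22) (LK LD1_c5 LD2_c0 LD3_c31) Lrfl Lrfl
theorem f421675 : Led Lsl_et (LP (LK LD1_c5 LD2_c12 LD3_c26)) = (LP (LK LD1_c9 LD2_c51 LD3_c22)) :=
  Lgr Lrot123 (Lpe (f186258 IH) (Lpr_ef (K38.f185145 IH) (Lpe (f175717 IH) (Lpn (LP (LK LD1_c9 LD2_c51 LD3_c22))))))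
theorem f421677 : Led Lsl_ef (LP (LK LD1_c5 LD2_c12 LD3_c26)) = (LP (LK LD1_c9 LD2_c51 LD3_c22)) :=
  Lgr Lrot88 (Lpr_et (f421675 IH) (Lpn (LP (LK LD1_c9 LD2_c51 LD3_c22))))
theorem f556786 : Led Lsl_ef (LP (LK LD1_c4 LD2_c42 LD3_c54)) = (LP (LK LD1_c4 LD2_c39 LD3_c42)) :=
  Lgr Lrot21 (Lpr_ft (f556780 IH) (Lpr_et (f112373 IH) (Lpe (f552413 IH) (Lpe (f421677 IH) (Lpe (f553813 IH) (Lpn (LP (LK LD1_c4 LD2_c39 LD3_c42))))))))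
theorem f172331 : Led Lsl_bt (LP (LK LD1_c1 LD2_c18 LD3_c43)) = (LP (LK LD1_c0 LD2_c36 LD3_c17)) :=
  Lre_b IH (LK LD1_c1 LD2_c18 LD3_c43) (LK LD1_c0 LD2_c36 LD3_c17) Lrfl Lrfl
theorem f387052 : Led Lsl_gt (LP (LK LD1_c5 LD2_c37 LD3_c42)) = (LP (LK LD1_c2 LD2_c44 LD3_c48)) :=
  Lre_g IH (LK LD1_c5 LD2_c37 LD3_c42) (LK LD1_c2 LD2_c44 LD3_c48) Lrfl Lrfl
theorem f556767 : Led Lsl_ct (LP (LK LD1_c4 LD2_c42 LD3_c54)) = (LP (LK LD1_c5 LD2_c37 LD3_c42)) :=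
  Lgr Lrot91 (Lpe (f132966 IH) (Lpr_bf (f556755 IH) (Lpr_ct (f211888 IH) (Lpe (K38.f211848 IH) (Lpr_cf (K31.f177843 IH) (Lpr_bt (K31.f165163 IH) (Lpe (K20.f171843 IH) (Lpe (f172331 IH) (Lpr_ct (K36.f319428 IH) (Lpe (f387052 IH) (Lpn (LP (LK LD1_c5 LD2_c37 LD3_c42)))))))))))))
theorem f553798 : Led Lsl_ft (LP (LK LD1_c4 LD2_c4 LD3_c53)) = (LP (LK LD1_c8 LD2_c10 LD3_c32)) :=
  Lre_f IH (LK LD1_c4 LD2_c4 LD3_c53) (LK LD1_c8 LD2_c10 LD3_c32) Lrfl Lrfl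
theorem f553811 : Led Lsl_cf (LP (LK LD1_c4 LD2_c39 LD3_c42)) = (LP (LK LD1_c8 LD2_c10 LD3_c32)) :=
  Lgr Lrot108 (Lpr_ft (f553807 IH) (Lpe (f553790 IH) (Lpr_ft (f553798 IH) (Lpn (LP (LK LD1_c8 LD2_c10 LD3_c32))))))
theorem f556790 : Led Lsl_et (LP (LK LD1_c5 LD2_c37 LD3_c42)) = (LP (LK LD1_c8 LD2_c10 LD3_c32)) :=
  Lgr Lrot158 (Lpe (f556767 IH) (Lpr_ef (f556786 IH) (Lpr_cf (f553811 IH) (Lpn (LP (LK LD1_c8 LD2_c10 LD3_c32))))))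
theorem f556800 : Led Lsl_ef (LP (LK LD1_c5 LD2_c37 LD3_c42)) = (LP (LK LD1_c8 LD2_c10 LD3_c32)) :=
  Lgr Lrot88 (Lpr_et (f556790 IH) (Lpn (LP (LK LD1_c8 LD2_c10 LD3_c32))))
theorem f556778 : Led Lsl_et (LP (LK LD1_c4 LD2_c42 LD3_c54)) = (LP (LK LD1_c4 LD2_c39 LD3_c42)) :=
  Lgr Lrot74 (Lpr_bf (f556769 IH) (Lpe (f551797 IH) (Lpe (f8406 IH) (Lpn (LP (LK LD1_c4 LD2_c39 LD3_c42))))))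
theorem f556880 : Led Lsl_ct (LP (LK LD1_c5 LD2_c37 LD3_c42)) = (LP (LK LD1_c4 LD2_c42 LD3_c54)) :=
  Lgr Lrot15 (Lpr_ef (f556800 IH) (Lpe (f553818 IH) (Lpe (f556778 IH) (Lpn (LP (LK LD1_c4 LD2_c42 LD3_c54))))))
theorem f387010 : Led Lsl_dt (LP (LK LD1_c2 LD2_c44 LD3_c48)) = (LP (LK LD1_c5 LD2_c37 LD3_c43)) :=
  Lre_d IH (LK LD1_c2 LD2_c44 LD3_c48) (LK LD1_c5 LD2_c37 LD3_c43) Lrfl Lrfl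
theorem f387022 : Led Lsl_gt (LP (LK LD1_c5 LD2_c37 LD3_c43)) = (LP (LK LD1_c11 LD2_c6 LD3_c50)) :=
  Lre_g IH (LK LD1_c5 LD2_c37 LD3_c43) (LK LD1_c11 LD2_c6 LD3_c50) Lrfl Lrfl
theorem f557037 : Led Lsl_dt (LP (LK LD1_c11 LD2_c6 LD3_c50)) = (LP (LK LD1_c5 LD2_c41 LD3_c46)) :=
  Lgr Lrot113 (Lpe (f387022 IH) (Lpe (f387010 IH) (Lpe (f387052 IH) (Lpr_ct (f556880 IH) (Lpr_gt (f59418 IH) (Lpr_dt (K6.f104821 IH) (Lpr_gt (f551649 IH) (Lpr_dt (f181596 IH) (Lpr_ct (K10.f175494 IH) (Lpn (LP (LK LD1_c5 LD2_c41 LD3_c46))))))))))))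
theorem f557043 : Led Lsl_ct (LP (LK LD1_c20 LD2_c0 LD3_c8)) = (LP (LK LD1_c11 LD2_c6 LD3_c50)) :=
  Lre_c IH (LK LD1_c20 LD2_c0 LD3_c8) (LK LD1_c11 LD2_c6 LD3_c50) Lrfl Lrfl
theorem f382059 : Led Lsl_ct (LP (LK LD1_c4 LD2_c32 LD3_c51)) = (LP (LK LD1_c9 LD2_c3 LD3_c0)) :=
  Lre_c IH (LK LD1_c4 LD2_c32 LD3_c51) (LK LD1_c9 LD2_c3 LD3_c0) Lrfl Lrfl
theorem f551614 : Led Lsl_dt (LP (LK LD1_c9 LD2_c3 LD3_c0)) = (LP (LK LD1_c16 LD2_c53 LD3_c45)) :=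
  Lre_d IH (LK LD1_c9 LD2_c3 LD3_c0) (LK LD1_c16 LD2_c53 LD3_c45) Lrfl Lrfl
theorem f551615 : Led Lsl_ct (LP (LK LD1_c16 LD2_c53 LD3_c45)) = (LP (LK LD1_c26 LD2_c50 LD3_c13)) :=
  Lre_c IH (LK LD1_c16 LD2_c53 LD3_c45) (LK LD1_c26 LD2_c50 LD3_c13) Lrfl Lrfl
theorem f557050 : Led Lsl_df (LP (LK LD1_c20 LD2_c0 LD3_c8)) = (LP (LK LD1_c26 LD2_c50 LD3_c13)) :=
  Lgr Lrot13 (Lpr_ct (f557043 IH) (Lpr_dt (f557037 IH) (Lpr_ct (f175489 IH) (Lpe (f551606 IH) (Lpe (K38.f551601 IH) (Lpr_dt (f382058 IH) (Lpr_ct (f382059 IH) (Lpr_dt (f551614 IH) (Lpr_ct (f551615 IH) (Lpn (LP (LK LD1_c26 LD2_c50 LD3_c13))))))))))))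
theorem f158550 : Led Lsl_at (LP (LK LD1_c3 LD2_c36 LD3_c57)) = (LP (LK LD1_c7 LD2_c14 LD3_c5)) :=
  Lre_a IH (LK LD1_c3 LD2_c36 LD3_c57) (LK LD1_c7 LD2_c14 LD3_c5) Lrfl Lrfl
theorem f181605 : Led Lsl_ft (LP (LK LD1_c5 LD2_c41 LD3_c46)) = (LP (LK LD1_c2 LD2_c46 LD3_c54)) :=
  Lre_f IH (LK LD1_c5 LD2_c41 LD3_c46) (LK LD1_c2 LD2_c46 LD3_c54) Lrfl Lrfl
theorem f551672 : Led Lsl_et (LP (LK LD1_c7 LD2_c14 LD3_c5)) = (LP (LK LD1_c5 LD2_c41 LD3_c46)) :=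
  Lgr Lrot69 (Lpr_ff (f551668 IH) (Lpe (f181398 IH) (Lpe (K31.f269039 IH) (Lpe (K10.f181573 IH) (Lpe (f181605 IH) (Lpn (LP (LK LD1_c5 LD2_c41 LD3_c46))))))))
theorem f551927 : Led Lsl_af (LP (LK LD1_c3 LD2_c57 LD3_c28)) = (LP (LK LD1_c5 LD2_c41 LD3_c46)) :=
  Lgr Lrot50 (Lpr_et (f551925 IH) (Lpr_at (f158550 IH) (Lpr_et (f551672 IH) (Lpn (LP (LK LD1_c5 LD2_c41 LD3_c46))))))
theorem f557039 : Led Lsl_af (LP (LK LD1_c11 LD2_c6 LD3_c50)) = (LP (LK LD1_c7 LD2_c56 LD3_c23)) :=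
  Lgr Lrot117 (Lpr_dt (f557037 IH) (Lpe (f551927 IH) (Lpr_dt (f551562 IH) (Lpn (LP (LK LD1_c7 LD2_c56 LD3_c23))))))
theorem f174901 : Led Lsl_ct (LP (LK LD1_c4 LD2_c32 LD3_c50)) = (LP (LK LD1_c2 LD2_c13 LD3_c25)) :=
  Lre_c IH (LK LD1_c4 LD2_c32 LD3_c50) (LK LD1_c2 LD2_c13 LD3_c25) Lrfl Lrfl
theorem f174900 : Led Lsl_dt (LP (LK LD1_c9 LD2_c2 LD3_c61)) = (LP (LK LD1_c4 LD2_c32 LD3_c50)) :=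
  Lre_d IH (LK LD1_c9 LD2_c2 LD3_c61) (LK LD1_c4 LD2_c32 LD3_c50) Lrfl Lrfl
theorem f557056 : Led Lsl_ff (LP (LK LD1_c7 LD2_c56 LD3_c23)) = (LP (LK LD1_c9 LD2_c2 LD3_c61)) :=
  Lgr Lrot103 (Lpe (f557039 IH) (Lpe (f557043 IH) (Lpr_df (f557050 IH) (Lpe (f551615 IH) (Lpe (f551614 IH) (Lpe (f382059 IH) (Lpe (f382058 IH) (Lpe (f174901 IH) (Lpe (f174900 IH) (Lpn (LP (LK LD1_c9 LD2_c2 LD3_c61))))))))))))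
theorem f557063 : Led Lsl_ft (LP (LK LD1_c7 LD2_c56 LD3_c23)) = (LP (LK LD1_c9 LD2_c2 LD3_c61)) :=
  Lgr Lrot48 (Lpr_ff (f557056 IH) (Lpn (LP (LK LD1_c9 LD2_c2 LD3_c61))))
theorem f557075 : Led Lsl_af (LP (LK LD1_c5 LD2_c41 LD3_c45)) = (LP (LK LD1_c9 LD2_c2 LD3_c61)) :=
  Lgr Lrot31 (Lpr_gf (f551743 IH) (Lpe (f551563 IH) (Lpr_ft (f557063 IH) (Lpn (LP (LK LD1_c9 LD2_c2 LD3_c61))))))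
theorem f557048 : Led Lsl_ff (LP (LK LD1_c11 LD2_c6 LD3_c50)) = (LP (LK LD1_c5 LD2_c41 LD3_c45)) :=
  Lgr Lrot19 (Lpr_dt (f557037 IH) (Lpr_ft (f181605 IH) (Lpr_dt (K16.f181583 IH) (Lpn (LP (LK LD1_c5 LD2_c41 LD3_c45))))))
theorem f557085 : Led Lsl_at (LP (LK LD1_c11 LD2_c6 LD3_c50)) = (LP (LK LD1_c7 LD2_c56 LD3_c23)) :=
  Lgr Lrot66 (Lpr_ff (f557048 IH) (Lpr_af (f557075 IH) (Lpe (f557063 IH) (Lpn (LP (LK LD1_c7 LD2_c56 LD3_c23))))))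
theorem f181674 : Led Lsl_dt (LP (LK LD1_c5 LD2_c41 LD3_c45)) = (LP (LK LD1_c2 LD2_c46 LD3_c54)) :=
  Lre_d IH (LK LD1_c5 LD2_c41 LD3_c45) (LK LD1_c2 LD2_c46 LD3_c54) Lrfl Lrfl
theorem f412018 : Led Lsl_dt (LP (LK LD1_c1 LD2_c19 LD3_c53)) = (LP (LK LD1_c2 LD2_c46 LD3_c60)) :=
  Lre_d IH (LK LD1_c1 LD2_c19 LD3_c53) (LK LD1_c2 LD2_c46 LD3_c60) Lrfl Lrfl
theorem f68604 : Led Lsl_ct (LP (LK LD1_c2 LD2_c46 LD3_c60)) = (LP (LK LD1_c5 LD2_c42 LD3_c0)) :=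
  Lre_c IH (LK LD1_c2 LD2_c46 LD3_c60) (LK LD1_c5 LD2_c42 LD3_c0) Lrfl Lrfl
theorem f551610 : Led Lsl_dt (LP (LK LD1_c5 LD2_c42 LD3_c0)) = (LP (LK LD1_c11 LD2_c14 LD3_c21)) :=
  Lre_d IH (LK LD1_c5 LD2_c42 LD3_c0) (LK LD1_c11 LD2_c14 LD3_c21) Lrfl Lrfl
theorem f551611 : Led Lsl_ct (LP (LK LD1_c11 LD2_c14 LD3_c21)) = (LP (LK LD1_c20 LD2_c9 LD3_c21)) :=
  Lre_c IH (LK LD1_c11 LD2_c14 LD3_c21) (LK LD1_c20 LD2_c9 LD3_c21) Lrfl Lrfl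
theorem f551569 : Led Lsl_ct (LP (LK LD1_c14 LD2_c58 LD3_c41)) = (LP (LK LD1_c7 LD2_c56 LD3_c23)) :=
  Lre_c IH (LK LD1_c14 LD2_c58 LD3_c41) (LK LD1_c7 LD2_c56 LD3_c23) Lrfl Lrfl
theorem f557095 : Led Lsl_dt (LP (LK LD1_c20 LD2_c9 LD3_c21)) = (LP (LK LD1_c14 LD2_c58 LD3_c41)) :=
  Lgr Lrot120 (Lpe (f551611 IH) (Lpe (f551610 IH) (Lpe (f68604 IH) (Lpe (f412018 IH) (Lpe (K10.f181580 IH) (Lpe (f181674 IH) (Lpe (f557048 IH) (Lpr_at (f557085 IH) (Lpe (f551569 IH) (Lpn (LP (LK LD1_c14 LD2_c58 LD3_c41))))))))))))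
theorem f551565 : Led Lsl_dt (LP (LK LD1_c7 LD2_c56 LD3_c23)) = (LP (LK LD1_c3 LD2_c57 LD3_c28)) :=
  Lre_d IH (LK LD1_c7 LD2_c56 LD3_c23) (LK LD1_c3 LD2_c57 LD3_c28) Lrfl Lrfl
theorem f557101 : Led Lsl_cf (LP (LK LD1_c4 LD2_c32 LD3_c52)) = (LP (LK LD1_c3 LD2_c57 LD3_c28)) :=
  Lgr Lrot102 (Lpr_af (f551603 IH) (Lpe (K16.f269075 IH) (Lpr_dt (f412018 IH) (Lpr_ct (f68604 IH) (Lpr_dt (f551610 IH) (Lpr_ct (f551611 IH) (Lpr_dt (f557095 IH) (Lpr_ct (f551569 IH) (Lpr_dt (f551565 IH) (Lpn (LP (LK LD1_c3 LD2_c57 LD3_c28))))))))))))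
theorem f551631 : Led Lsl_df (LP (LK LD1_c4 LD2_c32 LD3_c52)) = (LP (LK LD1_c6 LD2_c15 LD3_c52)) :=
  Lgr Lrot38 (Lpr_dt (f551624 IH) (Lpn (LP (LK LD1_c6 LD2_c15 LD3_c52))))
theorem f175851 : Led Lsl_ct (LP (LK LD1_c2 LD2_c49 LD3_c12)) = (LP (LK LD1_c5 LD2_c46 LD3_c52)) :=
  Lre_c IH (LK LD1_c2 LD2_c49 LD3_c12) (LK LD1_c5 LD2_c46 LD3_c52) Lrfl Lrfl
theorem f557103 : Led Lsl_gt (LP (LK LD1_c5 LD2_c46 LD3_c52)) = (LP (LK LD1_c3 LD2_c4 LD3_c9)) :=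
  Lgr Lrot94 (Lpe (f175851 IH) (Lpq (f552396 IH) (Lpe (f503108 IH) (Lpr_dt (f132989 IH) (Lpr_gt (f503110 IH) (Lpe (f551631 IH) (Lpr_cf (f557101 IH) (Lpe (f551565 IH) (Lpr_gf (f551937 IH) (Lpe (f117775 IH) (Lpn (LP (LK LD1_c3 LD2_c4 LD3_c9)))))))))))))
theorem f553930 : Led Lsl_et (LP (LK LD1_c4 LD2_c4 LD3_c52)) = (LP (LK LD1_c5 LD2_c46 LD3_c52)) :=
  Lgr Lrot87 (Lpr_ef (f553928 IH) (Lpn (LP (LK LD1_c5 LD2_c46 LD3_c52))))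
theorem f112395 : Led Lsl_et (LP (LK LD1_c1 LD2_c28 LD3_c6)) = (LP (LK LD1_c3 LD2_c4 LD3_c9)) :=
  Lre_e IH (LK LD1_c1 LD2_c28 LD3_c6) (LK LD1_c3 LD2_c4 LD3_c9) Lrfl Lrfl
theorem f71087 : Led Lsl_et (LP (LK LD1_c1 LD2_c22 LD3_c44)) = (LP (LK LD1_c2 LD2_c53 LD3_c18)) :=
  Lre_e IH (LK LD1_c1 LD2_c22 LD3_c44) (LK LD1_c2 LD2_c53 LD3_c18) Lrfl Lrfl
theorem f421688 : Led Lsl_dt (LP (LK LD1_c5 LD2_c14 LD3_c24)) = (LP (LK LD1_c10 LD2_c18 LD3_c24)) :=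
  Lre_d IH (LK LD1_c5 LD2_c14 LD3_c24) (LK LD1_c10 LD2_c18 LD3_c24) Lrfl Lrfl
theorem f557114 : Led Lsl_gf (LP (LK LD1_c8 LD2_c10 LD3_c33)) = (LP (LK LD1_c10 LD2_c18 LD3_c24)) :=
  Lgr Lrot134 (Lpe (f73478 IH) (Lpr_et (f553930 IH) (Lpr_gt (f557103 IH) (Lpe (f112395 IH) (Lpr_dt (K4.f75082 IH) (Lpe (K4.f112386 IH) (Lpe (K7.f70924 IH) (Lpr_et (f71087 IH) (Lpe (K37.f421684 IH) (Lpr_dt (f421688 IH) (Lpn (LP (LK LD1_c10 LD2_c18 LD3_c24)))))))))))))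
theorem f557122 : Led Lsl_ef (LP (LK LD1_c5 LD2_c41 LD3_c16)) = (LP (LK LD1_c5 LD2_c14 LD3_c24)) :=
  Lgr Lrot17 (Lpe (f542935 IH) (Lpe (f551925 IH) (Lpr_dt (f551562 IH) (Lpr_gf (f551937 IH) (Lpe (f117775 IH) (Lpe (f557103 IH) (Lpe (f553930 IH) (Lpr_dt (f73478 IH) (Lpr_gf (f557114 IH) (Lpe (f421688 IH) (Lpn (LP (LK LD1_c5 LD2_c14 LD3_c24)))))))))))))
theorem f240764 : Led Lsl_gt (LP (LK LD1_c1 LD2_c10 LD3_c31)) = (LP (LK LD1_c1 LD2_c31 LD3_c14)) :=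
  Lgr Lrot112 (Lpr_df (K13.f186456 IH) (Lpr_et (K13.f196376 IH) (Lpr_gf (K12.f227929 IH) (Lpe (K13.f210633 IH) (Lpr_dt (K12.f170691 IH) (Lpe (K13.f170659 IH) (Lpr_df (K13.f240748 IH) (Lpe (K13.f240679 IH) (Lpe (K13.f36341 IH) (Lpr_dt (K13.f36329 IH) (Lpn (LP (LK LD1_c1 LD2_c31 LD3_c14)))))))))))))
theorem f546906 : Led Lsl_gf (LP (LK LD1_c4 LD2_c32 LD3_c34)) = (LP (LK LD1_c5 LD2_c41 LD3_c16)) :=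
  Lgr Lrot181 (Lpr_ct (K16.f175536 IH) (Lpr_gt (K37.f175541 IH) (Lpe (K38.f181400 IH) (Lpr_bt (K38.f546896 IH) (Lpr_gt (K38.f172737 IH) (Lpe (K16.f172724 IH) (Lpr_ct (K38.f172694 IH) (Lpr_gt (f240764 IH) (Lpe (K16.f164153 IH) (Lpr_bt (f301895 IH) (Lpn (LP (LK LD1_c5 LD2_c41 LD3_c16)))))))))))))
theorem f181374 : Led Lsl_gt (LP (LK LD1_c4 LD2_c32 LD3_c33)) = (LP (LK LD1_c9 LD2_c2 LD3_c36)) :=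
  Lre_g IH (LK LD1_c4 LD2_c32 LD3_c33) (LK LD1_c9 LD2_c2 LD3_c36) Lrfl Lrfl
theorem f269043 : Led Lsl_gf (LP (LK LD1_c5 LD2_c41 LD3_c32)) = (LP (LK LD1_c9 LD2_c2 LD3_c36)) :=
  Lgr Lrot76 (Lpe (K16.f181679 IH) (Lpr_ff (K16.f269024 IH) (Lpr_gt (f181374 IH) (Lpn (LP (LK LD1_c9 LD2_c2 LD3_c36))))))
theorem f172682 : Led Lsl_gt (LP (LK LD1_c2 LD2_c26 LD3_c4)) = (LP (LK LD1_c4 LD2_c56 LD3_c34)) :=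
  Lre_g IH (LK LD1_c2 LD2_c26 LD3_c4) (LK LD1_c4 LD2_c56 LD3_c34) Lrfl Lrfl
theorem f553773 : Led Lsl_df (LP (LK LD1_c9 LD2_c2 LD3_c36)) = (LP (LK LD1_c4 LD2_c56 LD3_c34)) :=
  Lgr Lrot153 (Lpe (f269043 IH) (Lpr_dt (K16.f269057 IH) (Lpe (K30.f269084 IH) (Lpe (K16.f269086 IH) (Lpr_gf (f412020 IH) (Lpr_df (f553764 IH) (Lpe (K35.f172615 IH) (Lpe (K30.f172617 IH) (Lpr_gt (f172682 IH) (Lpn (LP (LK LD1_c4 LD2_c56 LD3_c34))))))))))))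
def v1916 : LQ := Led Lsl_bt (LP (LK LD1_c1 LD2_c31 LD3_c28))
theorem f506375 : Led Lsl_bt (LP (LK LD1_c1 LD2_c31 LD3_c28)) = v1916 :=
  Lrfl
theorem f506378 : Led Lsl_ef (LP (LK LD1_c2 LD2_c44 LD3_c48)) = v1916 :=
  Lgr Lrot29 (Lpr_bt (K36.f319442 IH) (Lpr_et (K14.f255154 IH) (Lpr_bt (f506375 IH) (Lpn v1916))))
theorem f210017 : Led Lsl_at (LP (LK LD1_c1 LD2_c21 LD3_c38)) = (LP (LK LD1_c2 LD2_c51 LD3_c7)) :=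
  Lre_a IH (LK LD1_c1 LD2_c21 LD3_c38) (LK LD1_c2 LD2_c51 LD3_c7) Lrfl Lrfl
theorem f496280 : Led Lsl_at (LP (LK LD1_c3 LD2_c4 LD3_c7)) = K31.v1562 :=
  Lgr Lrot66 (Lpr_ff (K36.f209996 IH) (Lpe (f210017 IH) (Lpr_ff (K31.f496279 IH) (Lpn K31.v1562))))
theorem f498621 : Led Lsl_cf (LP (LK LD1_c2 LD2_c18 LD3_c44)) = K31.v1562 :=
  Lgr Lrot1 (Lpr_at (K36.f498617 IH) (Lpr_ct (K8.f75133 IH) (Lpr_at (f496280 IH) (Lpn K31.v1562))))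
def v1899 : LQ := Led Lsl_bt (LP (LK LD1_c1 LD2_c31 LD3_c13))
theorem f506310 : Led Lsl_bt (LP (LK LD1_c1 LD2_c31 LD3_c13)) = v1899 :=
  Lrfl
theorem f506311 : Led Lsl_bf (LP (LK LD1_c1 LD2_c31 LD3_c13)) = v1899 :=
  Lgr Lrot24 (Lpr_bt (f506310 IH) (Lpn v1899))
theorem f506379 : Led Lsl_ff v1899 = v1916 :=
  Lgr Lrot25 (Lpe (f506311 IH) (Lpr_ft (K14.f255479 IH) (Lpr_bt (f506375 IH) (Lpn v1916))))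
theorem f451443 : Led Lsl_cf (LP (LK LD1_c0 LD2_c30 LD3_c27)) = K36.v263 :=
  Lgr Lrot99 (Lpe (K9.f35333 IH) (Lpr_cf (K18.f301891 IH) (Lpe (K18.f176986 IH) (Lpe (K36.f176987 IH) (Lpe (K11.f177114 IH) (Lpr_df (K11.f177107 IH) (Lpr_gt (K11.f60174 IH) (Lpr_ct (K35.f446804 IH) (Lpr_gt (K36.f451442 IH) (Lpn K36.v263))))))))))
theorem f491522 : Led Lsl_bf K36.v263 = K36.v1104 :=
  Lgr Lrot24 (Lpr_bt (K36.f491521 IH) (Lpn K36.v1104))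
theorem f506312 : Led Lsl_cf K36.v1104 = v1899 :=
  Lgr Lrot97 (Lpe (f491522 IH) (Lpe (f451443 IH) (Lpr_bt (K13.f164145 IH) (Lpr_ct (K14.f36335 IH) (Lpr_bt (f506310 IH) (Lpn v1899))))))
theorem f288121 : Led Lsl_ft (LP (LK LD1_c1 LD2_c9 LD3_c36)) = (LP (LK LD1_c1 LD2_c9 LD3_c39)) :=
  Lgr Lrot54 (Lpe (K14.f181099 IH) (Lpr_ff (K17.f288115 IH) (Lpe (K9.f177177 IH) (Lpn (LP (LK LD1_c1 LD2_c9 LD3_c39))))))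
theorem f319446 : Led Lsl_ft (LP (LK LD1_c0 LD2_c36 LD3_c17)) = (LP (LK LD1_c1 LD2_c0 LD3_c45)) :=
  Lgr Lrot4 (Lpr_cf (K20.f319426 IH) (Lpr_ff (K17.f289692 IH) (Lpe (K9.f179874 IH) (Lpn (LP (LK LD1_c1 LD2_c0 LD3_c45))))))
theorem f451448 : Led Lsl_ff (LP (LK LD1_c0 LD2_c42 LD3_c15)) = K36.v263 :=
  Lgr Lrot72 (Lpe (K35.f402561 IH) (Lpr_ft (f319446 IH) (Lpr_et (K12.f181092 IH) (Lpr_ft (f288121 IH) (Lpr_et (K36.f451445 IH) (Lpn K36.v263))))))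
theorem f451449 : Led Lsl_ft (LP (LK LD1_c0 LD2_c42 LD3_c15)) = K36.v263 :=
  Lgr Lrot48 (Lpr_ff (f451448 IH) (Lpn K36.v263))
theorem f491524 : Led Lsl_ff (LP (LK LD1_c1 LD2_c31 LD3_c30)) = K36.v1104 :=
  Lgr Lrot25 (Lpr_bt (K36.f402563 IH) (Lpr_ft (f451449 IH) (Lpr_bt (K36.f491521 IH) (Lpn K36.v1104))))
theorem f506380 : Led Lsl_ct (LP (LK LD1_c1 LD2_c31 LD3_c30)) = v1916 :=
  Lgr Lrot40 (Lpr_ff (f491524 IH) (Lpr_cf (f506312 IH) (Lpr_ff (f506379 IH) (Lpn v1916))))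
theorem f537673 : (LP (LK LD1_c2 LD2_c18 LD3_c44)) = v1916 :=
  Lefun (Lecon (Lfl_cf (f498621 IH)) (K36.f537279 IH)) (f506380 IH)
theorem f138192 : Led Lsl_et (LP (LK LD1_c0 LD2_c38 LD3_c21)) = (LP (LK LD1_c1 LD2_c22 LD3_c50)) :=
  Lre_e IH (LK LD1_c0 LD2_c38 LD3_c21) (LK LD1_c1 LD2_c22 LD3_c50) Lrfl Lrfl
theorem f138621 : Led Lsl_dt (LP (LK LD1_c2 LD2_c53 LD3_c33)) = (LP (LK LD1_c5 LD2_c54 LD3_c21)) :=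
  Lre_d IH (LK LD1_c2 LD2_c53 LD3_c33) (LK LD1_c5 LD2_c54 LD3_c21) Lrfl Lrfl
theorem f138622 : Led Lsl_gt (LP (LK LD1_c5 LD2_c54 LD3_c21)) = (LP (LK LD1_c11 LD2_c34 LD3_c34)) :=
  Lre_g IH (LK LD1_c5 LD2_c54 LD3_c21) (LK LD1_c11 LD2_c34 LD3_c34) Lrfl Lrfl
theorem f556882 : Led Lsl_df (LP (LK LD1_c11 LD2_c34 LD3_c34)) = (LP (LK LD1_c8 LD2_c10 LD3_c32)) :=
  Lgr Lrot132 (Lpe (f138622 IH) (Lpe (f138621 IH) (Lpe (K36.f138620 IH) (Lpe (f138192 IH) (Lpr_dt (K2.f70862 IH) (Lpe (K36.f71019 IH) (Lpe (K36.f138601 IH) (Lpqs (f537673 IH) (Lpe (f506378 IH) (Lpe (f387052 IH) (Lpr_ef (f556800 IH) (Lpn (LP (LK LD1_c8 LD2_c10 LD3_c32))))))))))))))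
theorem f556884 : Led Lsl_at (LP (LK LD1_c11 LD2_c34 LD3_c34)) = (LP (LK LD1_c8 LD2_c10 LD3_c33)) :=
  Lgr Lrot51 (Lpr_df (f556882 IH) (Lpe (f553823 IH) (Lpe (f553898 IH) (Lpn (LP (LK LD1_c8 LD2_c10 LD3_c33))))))
theorem f553799 : Led Lsl_dt (LP (LK LD1_c8 LD2_c10 LD3_c34)) = (LP (LK LD1_c4 LD2_c4 LD3_c53)) :=
  Lre_d IH (LK LD1_c8 LD2_c10 LD3_c34) (LK LD1_c4 LD2_c4 LD3_c53) Lrfl Lrfl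
theorem f556894 : Led Lsl_ft (LP (LK LD1_c11 LD2_c34 LD3_c34)) = (LP (LK LD1_c8 LD2_c10 LD3_c34)) :=
  Lgr Lrot54 (Lpr_df (f556882 IH) (Lpe (f553798 IH) (Lpe (f553799 IH) (Lpn (LP (LK LD1_c8 LD2_c10 LD3_c34))))))
theorem f556906 : Led Lsl_ff (LP (LK LD1_c11 LD2_c34 LD3_c34)) = (LP (LK LD1_c8 LD2_c10 LD3_c34)) :=
  Lgr Lrot3 (Lpr_ft (f556894 IH) (Lpn (LP (LK LD1_c8 LD2_c10 LD3_c34))))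
theorem f557116 : Led Lsl_gt (LP (LK LD1_c8 LD2_c10 LD3_c34)) = (LP (LK LD1_c10 LD2_c18 LD3_c24)) :=
  Lgr Lrot5 (Lpe (f556906 IH) (Lpr_at (f556884 IH) (Lpr_gf (f557114 IH) (Lpn (LP (LK LD1_c10 LD2_c18 LD3_c24))))))
theorem f56270 : Led Lsl_dt (LP (LK LD1_c4 LD2_c4 LD3_c53)) = (LP (LK LD1_c8 LD2_c10 LD3_c34)) :=
  Lre_d IH (LK LD1_c4 LD2_c4 LD3_c53) (LK LD1_c8 LD2_c10 LD3_c34) Lrfl Lrfl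
theorem f55867 : Led Lsl_gt (LP (LK LD1_c8 LD2_c10 LD3_c31)) = (LP (LK LD1_c4 LD2_c4 LD3_c53)) :=
  Lre_g IH (LK LD1_c8 LD2_c10 LD3_c31) (LK LD1_c4 LD2_c4 LD3_c53) Lrfl Lrfl
theorem f557128 : Led Lsl_et (LP (LK LD1_c4 LD2_c56 LD3_c34)) = (LP (LK LD1_c8 LD2_c10 LD3_c31)) :=
  Lgr Lrot121 (Lpe (f553773 IH) (Lpe (f181374 IH) (Lpe (K31.f181359 IH) (Lpr_et (f181398 IH) (Lpr_gf (f546906 IH) (Lpr_ef (f557122 IH) (Lpr_dt (f421688 IH) (Lpe (f557116 IH) (Lpe (f56270 IH) (Lpe (f55867 IH) (Lpn (LP (LK LD1_c8 LD2_c10 LD3_c31)))))))))))))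
theorem f55871 : Led Lsl_gt (LP (LK LD1_c4 LD2_c4 LD3_c52)) = (LP (LK LD1_c8 LD2_c10 LD3_c31)) :=
  Lre_g IH (LK LD1_c4 LD2_c4 LD3_c52) (LK LD1_c8 LD2_c10 LD3_c31) Lrfl Lrfl
theorem f39882 : Led Lsl_at (LP (LK LD1_c3 LD2_c57 LD3_c30)) = (LP (LK LD1_c7 LD2_c56 LD3_c24)) :=
  Lre_a IH (LK LD1_c3 LD2_c57 LD3_c30) (LK LD1_c7 LD2_c56 LD3_c24) Lrfl Lrfl
theorem f553934 : Led Lsl_ft (LP (LK LD1_c7 LD2_c56 LD3_c29)) = (LP (LK LD1_c3 LD2_c57 LD3_c30)) :=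
  Lre_f IH (LK LD1_c7 LD2_c56 LD3_c29) (LK LD1_c3 LD2_c57 LD3_c30) Lrfl Lrfl
theorem f553935 : Led Lsl_gt (LP (LK LD1_c7 LD2_c56 LD3_c29)) = (LP (LK LD1_c11 LD2_c23 LD3_c54)) :=
  Lgr Lrot5 (Lpr_ft (f553934 IH) (Lpr_at (f39882 IH) (Lpr_gf (f553932 IH) (Lpn (LP (LK LD1_c11 LD2_c23 LD3_c54))))))
theorem f174899 : Led Lsl_dt (LP (LK LD1_c3 LD2_c57 LD3_c31)) = (LP (LK LD1_c7 LD2_c56 LD3_c29)) :=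
  Lre_d IH (LK LD1_c3 LD2_c57 LD3_c31) (LK LD1_c7 LD2_c56 LD3_c29) Lrfl Lrfl
theorem f557138 : Led Lsl_et (LP (LK LD1_c2 LD2_c46 LD3_c49)) = (LP (LK LD1_c4 LD2_c32 LD3_c50)) :=
  Lgr Lrot121 (Lpr_dt (K30.f269069 IH) (Lpr_gf (f269043 IH) (Lpr_df (f553773 IH) (Lpr_et (f557128 IH) (Lpe (f55871 IH) (Lpr_ef (f553928 IH) (Lpr_dt (f412358 IH) (Lpe (f553935 IH) (Lpe (f174899 IH) (Lpr_gf (K31.f174892 IH) (Lpn (LP (LK LD1_c4 LD2_c32 LD3_c50)))))))))))))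
theorem f557146 : Led Lsl_et (LP (LK LD1_c4 LD2_c36 LD3_c11)) = (LP (LK LD1_c3 LD2_c57 LD3_c31)) :=
  Lgr Lrot122 (Lpr_dt (K38.f71090 IH) (Lpr_gt (K38.f549094 IH) (Lpe (K38.f210450 IH) (Lpr_et (K30.f210416 IH) (Lpr_gt (f172682 IH) (Lpe (f553773 IH) (Lpe (f269043 IH) (Lpe (K30.f269069 IH) (Lpr_et (f557138 IH) (Lpe (K31.f174892 IH) (Lpn (LP (LK LD1_c3 LD2_c57 LD3_c31)))))))))))))
theorem f557156 : Led Lsl_ef (LP (LK LD1_c4 LD2_c36 LD3_c11)) = (LP (LK LD1_c3 LD2_c57 LD3_c31)) :=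
  Lgr Lrot88 (Lpr_et (f557146 IH) (Lpn (LP (LK LD1_c3 LD2_c57 LD3_c31))))
theorem f112408 : Led Lsl_gt (LP (LK LD1_c4 LD2_c36 LD3_c11)) = (LP (LK LD1_c2 LD2_c15 LD3_c17)) :=
  Lre_g IH (LK LD1_c4 LD2_c36 LD3_c11) (LK LD1_c2 LD2_c15 LD3_c17) Lrfl Lrfl
theorem f112406 : Led Lsl_gt (LP (LK LD1_c3 LD2_c4 LD3_c9)) = (LP (LK LD1_c6 LD2_c14 LD3_c30)) :=
  Lre_g IH (LK LD1_c3 LD2_c4 LD3_c9) (LK LD1_c6 LD2_c14 LD3_c30) Lrfl Lrfl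
theorem f112409 : Led Lsl_dt (LP (LK LD1_c6 LD2_c14 LD3_c30)) = (LP (LK LD1_c12 LD2_c7 LD3_c18)) :=
  Lre_d IH (LK LD1_c6 LD2_c14 LD3_c30) (LK LD1_c12 LD2_c7 LD3_c18) Lrfl Lrfl
theorem f557160 : Led Lsl_gt (LP (LK LD1_c12 LD2_c7 LD3_c18)) = (LP (LK LD1_c7 LD2_c56 LD3_c29)) :=
  Lgr Lrot139 (Lpe (f112409 IH) (Lpe (f112406 IH) (Lpe (f112395 IH) (Lpr_dt (K4.f75082 IH) (Lpe (K4.f112393 IH) (Lpe (K4.f37812 IH) (Lpr_et (K38.f70848 IH) (Lpe (f112408 IH) (Lpr_ef (f557156 IH) (Lpr_dt (f174899 IH) (Lpn (LP (LK LD1_c7 LD2_c56 LD3_c29)))))))))))))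
theorem f547218 : Led Lsl_dt (LP (LK LD1_c12 LD2_c7 LD3_c18)) = (LP (LK LD1_c6 LD2_c14 LD3_c30)) :=
  Lre_d IH (LK LD1_c12 LD2_c7 LD3_c18) (LK LD1_c6 LD2_c14 LD3_c30) Lrfl Lrfl
theorem f38933 : Led Lsl_ct (LP (LK LD1_c7 LD2_c56 LD3_c29)) = (LP (LK LD1_c14 LD2_c58 LD3_c54)) :=
  Lre_c IH (LK LD1_c7 LD2_c56 LD3_c29) (LK LD1_c14 LD2_c58 LD3_c54) Lrfl Lrfl
theorem f39806 : Led Lsl_gt (LP (LK LD1_c14 LD2_c58 LD3_c54)) = (LP (LK LD1_c24 LD2_c46 LD3_c6)) :=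
  Lre_g IH (LK LD1_c14 LD2_c58 LD3_c54) (LK LD1_c24 LD2_c46 LD3_c6) Lrfl Lrfl
theorem f541286 : Led Lsl_bt (LP (LK LD1_c8 LD2_c12 LD3_c20)) = (LP (LK LD1_c4 LD2_c5 LD3_c50)) :=
  Lre_b IH (LK LD1_c8 LD2_c12 LD3_c20) (LK LD1_c4 LD2_c5 LD3_c50) Lrfl Lrfl
theorem f541287 : Led Lsl_ef (LP (LK LD1_c8 LD2_c12 LD3_c20)) = (LP (LK LD1_c9 LD2_c44 LD3_c40)) :=
  Lgr Lrot29 (Lpr_bt (f541286 IH) (Lpr_et (K36.f541285 IH) (Lpr_bt (f541279 IH) (Lpn (LP (LK LD1_c9 LD2_c44 LD3_c40))))))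
theorem f541293 : Led Lsl_et (LP (LK LD1_c8 LD2_c12 LD3_c20)) = (LP (LK LD1_c9 LD2_c44 LD3_c40)) :=
  Lgr Lrot87 (Lpr_ef (f541287 IH) (Lpn (LP (LK LD1_c9 LD2_c44 LD3_c40))))
theorem f541296 : Led Lsl_dt (LP (LK LD1_c15 LD2_c26 LD3_c21)) = (LP (LK LD1_c8 LD2_c12 LD3_c20)) :=
  Lre_d IH (LK LD1_c15 LD2_c26 LD3_c21) (LK LD1_c8 LD2_c12 LD3_c20) Lrfl Lrfl
theorem f541297 : Led Lsl_et (LP (LK LD1_c25 LD2_c18 LD3_c11)) = (LP (LK LD1_c15 LD2_c26 LD3_c21)) :=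
  Lre_e IH (LK LD1_c25 LD2_c18 LD3_c11) (LK LD1_c15 LD2_c26 LD3_c21) Lrfl Lrfl
theorem f423622 : Led Lsl_et (LP (LK LD1_c11 LD2_c12 LD3_c55)) = (LP (LK LD1_c20 LD2_c7 LD3_c23)) :=
  Lre_e IH (LK LD1_c11 LD2_c12 LD3_c55) (LK LD1_c20 LD2_c7 LD3_c23) Lrfl Lrfl
theorem f541298 : Led Lsl_df (LP (LK LD1_c25 LD2_c18 LD3_c11)) = (LP (LK LD1_c20 LD2_c7 LD3_c23)) :=
  Lgr Lrot70 (Lpr_et (f541297 IH) (Lpr_dt (f541296 IH) (Lpr_et (f541293 IH) (Lpe (f423614 IH) (Lpr_et (f423622 IH) (Lpn (LP (LK LD1_c20 LD2_c7 LD3_c23))))))))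
theorem f541300 : Led Lsl_bt (LP (LK LD1_c25 LD2_c18 LD3_c11)) = (LP (LK LD1_c15 LD2_c26 LD3_c23)) :=
  Lre_b IH (LK LD1_c25 LD2_c18 LD3_c11) (LK LD1_c15 LD2_c26 LD3_c23) Lrfl Lrfl
theorem f541301 : Led Lsl_dt (LP (LK LD1_c15 LD2_c26 LD3_c23)) = (LP (LK LD1_c25 LD2_c18 LD3_c14)) :=
  Lre_d IH (LK LD1_c15 LD2_c26 LD3_c23) (LK LD1_c25 LD2_c18 LD3_c14) Lrfl Lrfl
theorem f541302 : Led Lsl_bt (LP (LK LD1_c25 LD2_c18 LD3_c14)) = (LP (LK LD1_c20 LD2_c7 LD3_c23)) :=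
  Lgr Lrot95 (Lpe (f541301 IH) (Lpe (f541300 IH) (Lpr_df (f541298 IH) (Lpn (LP (LK LD1_c20 LD2_c7 LD3_c23))))))
theorem f541304 : Led Lsl_bf (LP (LK LD1_c25 LD2_c18 LD3_c14)) = (LP (LK LD1_c20 LD2_c7 LD3_c23)) :=
  Lgr Lrot24 (Lpr_bt (f541302 IH) (Lpn (LP (LK LD1_c20 LD2_c7 LD3_c23))))
theorem f541309 : Led Lsl_et (LP (LK LD1_c25 LD2_c18 LD3_c14)) = (LP (LK LD1_c15 LD2_c26 LD3_c25)) :=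
  Lre_e IH (LK LD1_c25 LD2_c18 LD3_c14) (LK LD1_c15 LD2_c26 LD3_c25) Lrfl Lrfl
theorem f541310 : Led Lsl_bt (LP (LK LD1_c15 LD2_c26 LD3_c25)) = (LP (LK LD1_c11 LD2_c12 LD3_c55)) :=
  Lgr Lrot119 (Lpe (f541309 IH) (Lpr_bf (f541304 IH) (Lpe (f423622 IH) (Lpn (LP (LK LD1_c11 LD2_c12 LD3_c55))))))
theorem f39801 : Led Lsl_bt (LP (LK LD1_c7 LD2_c56 LD3_c29)) = (LP (LK LD1_c3 LD2_c57 LD3_c36)) :=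
  Lre_b IH (LK LD1_c7 LD2_c56 LD3_c29) (LK LD1_c3 LD2_c57 LD3_c36) Lrfl Lrfl
theorem f541312 : Led Lsl_ct (LP (LK LD1_c15 LD2_c26 LD3_c25)) = (LP (LK LD1_c24 LD2_c46 LD3_c6)) :=
  Lgr Lrot10 (Lpr_bt (f541310 IH) (Lpr_gt (f423612 IH) (Lpr_ct (K31.f406936 IH) (Lpe (K31.f406937 IH) (Lpe (K31.f210428 IH) (Lpr_bt (K30.f183245 IH) (Lpe (K12.f38926 IH) (Lpe (f39801 IH) (Lpr_ct (f38933 IH) (Lpr_gt (f39806 IH) (Lpn (LP (LK LD1_c24 LD2_c46 LD3_c6)))))))))))))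
theorem f541314 : Led Lsl_cf (LP (LK LD1_c15 LD2_c26 LD3_c25)) = (LP (LK LD1_c24 LD2_c46 LD3_c6)) :=
  Lgr Lrot11 (Lpr_ct (f541312 IH) (Lpn (LP (LK LD1_c24 LD2_c46 LD3_c6))))
theorem f137996 : Led Lsl_dt (LP (LK LD1_c8 LD2_c12 LD3_c22)) = (LP (LK LD1_c15 LD2_c26 LD3_c25)) :=
  Lre_d IH (LK LD1_c8 LD2_c12 LD3_c22) (LK LD1_c15 LD2_c26 LD3_c25) Lrfl Lrfl
theorem f557166 : Led Lsl_gt (LP (LK LD1_c6 LD2_c14 LD3_c30)) = (LP (LK LD1_c4 LD2_c19 LD3_c19)) :=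
  Lgr Lrot9 (Lpe (f547218 IH) (Lpr_gt (f557160 IH) (Lpr_ct (f38933 IH) (Lpr_gt (f39806 IH) (Lpe (f541314 IH) (Lpe (f137996 IH) (Lpe (K36.f137995 IH) (Lpr_gf (K36.f541275 IH) (Lpe (f180200 IH) (Lpn (LP (LK LD1_c4 LD2_c19 LD3_c19))))))))))))
theorem f181677 : Led Lsl_dt (LP (LK LD1_c2 LD2_c46 LD3_c60)) = (LP (LK LD1_c1 LD2_c19 LD3_c53)) :=
  Lre_d IH (LK LD1_c2 LD2_c46 LD3_c60) (LK LD1_c1 LD2_c19 LD3_c53) Lrfl Lrfl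
theorem f412326 : Led Lsl_bt (LP (LK LD1_c1 LD2_c19 LD3_c57)) = (LP (LK LD1_c2 LD2_c46 LD3_c60)) :=
  Lre_b IH (LK LD1_c1 LD2_c19 LD3_c57) (LK LD1_c2 LD2_c46 LD3_c60) Lrfl Lrfl
theorem f181523 : Led Lsl_ct (LP (LK LD1_c4 LD2_c57 LD3_c18)) = (LP (LK LD1_c9 LD2_c45 LD3_c36)) :=
  Lre_c IH (LK LD1_c4 LD2_c57 LD3_c18) (LK LD1_c9 LD2_c45 LD3_c36) Lrfl Lrfl
theorem f280575 : Led Lsl_ct (LP (LK LD1_c2 LD2_c46 LD3_c56)) = (LP (LK LD1_c5 LD2_c41 LD3_c50)) :=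
  Lre_c IH (LK LD1_c2 LD2_c46 LD3_c56) (LK LD1_c5 LD2_c41 LD3_c50) Lrfl Lrfl
theorem f541713 : Led Lsl_gf (LP (LK LD1_c2 LD2_c46 LD3_c60)) = (LP (LK LD1_c5 LD2_c41 LD3_c49)) :=
  Lgr Lrot124 (Lpe (f412326 IH) (Lpr_ct (K16.f68594 IH) (Lpe (K36.f420991 IH) (Lpe (K17.f60725 IH) (Lpr_bt (K17.f73134 IH) (Lpr_gt (K36.f541703 IH) (Lpr_ct (f181523 IH) (Lpr_gt (K31.f392343 IH) (Lpe (f280575 IH) (Lpr_bt (f392345 IH) (Lpn (LP (LK LD1_c5 LD2_c41 LD3_c49)))))))))))))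
theorem f557174 : Led Lsl_cf (LP (LK LD1_c6 LD2_c14 LD3_c30)) = (LP (LK LD1_c3 LD2_c4 LD3_c61)) :=
  Lgr Lrot166 (Lpr_gt (f557166 IH) (Lpr_dt (f180198 IH) (Lpe (f551743 IH) (Lpr_dt (f181674 IH) (Lpr_ct (K10.f181580 IH) (Lpe (f181677 IH) (Lpr_gf (f541713 IH) (Lpe (f552033 IH) (Lpe (f133045 IH) (Lpn (LP (LK LD1_c3 LD2_c4 LD3_c61))))))))))))
theorem f174943 : Led Lsl_ct (LP (LK LD1_c5 LD2_c40 LD3_c42)) = (LP (LK LD1_c2 LD2_c46 LD3_c16)) :=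
  Lre_c IH (LK LD1_c5 LD2_c40 LD3_c42) (LK LD1_c2 LD2_c46 LD3_c16) Lrfl Lrfl
theorem f225664 : Led Lsl_gt (LP (LK LD1_c11 LD2_c12 LD3_c1)) = (LP (LK LD1_c5 LD2_c40 LD3_c42)) :=
  Lre_g IH (LK LD1_c11 LD2_c12 LD3_c1) (LK LD1_c5 LD2_c40 LD3_c42) Lrfl Lrfl
theorem f557176 : Led Lsl_ct (LP (LK LD1_c6 LD2_c15 LD3_c52)) = (LP (LK LD1_c11 LD2_c12 LD3_c1)) :=
  Lgr Lrot152 (Lpe (f503110 IH) (Lpe (f132989 IH) (Lpr_gt (K38.f112363 IH) (Lpe (f557174 IH) (Lpr_gt (f557166 IH) (Lpr_ct (f180200 IH) (Lpr_df (K36.f225659 IH) (Lpe (f174943 IH) (Lpe (f225664 IH) (Lpn (LP (LK LD1_c11 LD2_c12 LD3_c1))))))))))))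
theorem f494157 : Led Lsl_bt (LP (LK LD1_c2 LD2_c13 LD3_c28)) = (LP (LK LD1_c4 LD2_c32 LD3_c52)) :=
  Lre_b IH (LK LD1_c2 LD2_c13 LD3_c28) (LK LD1_c4 LD2_c32 LD3_c52) Lrfl Lrfl
theorem f551628 : Led Lsl_dt (LP (LK LD1_c4 LD2_c32 LD3_c60)) = (LP (LK LD1_c2 LD2_c13 LD3_c28)) :=
  Lre_d IH (LK LD1_c4 LD2_c32 LD3_c60) (LK LD1_c2 LD2_c13 LD3_c28) Lrfl Lrfl
theorem f551629 : Led Lsl_bf (LP (LK LD1_c4 LD2_c32 LD3_c60)) = (LP (LK LD1_c6 LD2_c15 LD3_c52)) :=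
  Lgr Lrot93 (Lpr_dt (f551628 IH) (Lpr_bt (f494157 IH) (Lpr_dt (f551624 IH) (Lpn (LP (LK LD1_c6 LD2_c15 LD3_c52))))))
theorem f225428 : Led Lsl_ct (LP (LK LD1_c2 LD2_c46 LD3_c16)) = (LP (LK LD1_c5 LD2_c40 LD3_c42)) :=
  Lre_c IH (LK LD1_c2 LD2_c46 LD3_c16) (LK LD1_c5 LD2_c40 LD3_c42) Lrfl Lrfl
theorem f226004 : Led Lsl_ct (LP (LK LD1_c1 LD2_c19 LD3_c54)) = (LP (LK LD1_c2 LD2_c42 LD3_c47)) :=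
  Lgr Lrot7 (Lpr_df (K12.f225933 IH) (Lpr_gf (K12.f225153 IH) (Lpr_df (K9.f173365 IH) (Lpe (K9.f173364 IH) (Lpe (K27.f168863 IH) (Lpr_gt (K9.f9232 IH) (Lpe (K12.f225187 IH) (Lpr_gt (K13.f225244 IH) (Lpr_dt (K14.f225348 IH) (Lpn (LP (LK LD1_c2 LD2_c42 LD3_c47))))))))))))
theorem f226001 : Led Lsl_bt (LP (LK LD1_c1 LD2_c19 LD3_c54)) = (LP (LK LD1_c2 LD2_c47 LD3_c0)) :=
  Lre_b IH (LK LD1_c1 LD2_c19 LD3_c54) (LK LD1_c2 LD2_c47 LD3_c0) Lrfl Lrfl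
theorem f557192 : Led Lsl_gf (LP (LK LD1_c4 LD2_c32 LD3_c60)) = (LP (LK LD1_c2 LD2_c47 LD3_c0)) :=
  Lgr Lrot124 (Lpr_bf (f551629 IH) (Lpr_ct (f557176 IH) (Lpr_gt (f225664 IH) (Lpe (f225428 IH) (Lpr_bt (K12.f174942 IH) (Lpr_gt (K12.f174941 IH) (Lpe (f226008 IH) (Lpr_gt (K17.f225356 IH) (Lpe (f226004 IH) (Lpr_bt (f226001 IH) (Lpn (LP (LK LD1_c2 LD2_c47 LD3_c0)))))))))))))
theorem f494138 : Led Lsl_ct (LP (LK LD1_c4 LD2_c32 LD3_c60)) = (LP (LK LD1_c9 LD2_c3 LD3_c13)) :=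
  Lre_c IH (LK LD1_c4 LD2_c32 LD3_c60) (LK LD1_c9 LD2_c3 LD3_c13) Lrfl Lrfl
theorem f225930 : Led Lsl_bt (LP (LK LD1_c2 LD2_c47 LD3_c0)) = (LP (LK LD1_c1 LD2_c19 LD3_c54)) :=
  Lre_b IH (LK LD1_c2 LD2_c47 LD3_c0) (LK LD1_c1 LD2_c19 LD3_c54) Lrfl Lrfl
theorem f225931 : Led Lsl_df (LP (LK LD1_c2 LD2_c47 LD3_c0)) = (LP (LK LD1_c2 LD2_c12 LD3_c29)) :=
  Lgr Lrot12 (Lpr_bt (f225930 IH) (Lpr_dt (K12.f225926 IH) (Lpr_bt (K32.f174631 IH) (Lpn (LP (LK LD1_c2 LD2_c12 LD3_c29))))))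
theorem f423707 : Led Lsl_bt (LP (LK LD1_c2 LD2_c46 LD3_c11)) = (LP (LK LD1_c5 LD2_c40 LD3_c26)) :=
  Lre_b IH (LK LD1_c2 LD2_c46 LD3_c11) (LK LD1_c5 LD2_c40 LD3_c26) Lrfl Lrfl
theorem f548258 : Led Lsl_dt (LP (LK LD1_c5 LD2_c40 LD3_c26)) = (LP (LK LD1_c4 LD2_c31 LD3_c41)) :=
  Lgr Lrot79 (Lpe (f423707 IH) (Lpr_df (K38.f548254 IH) (Lpe (K38.f174633 IH) (Lpn (LP (LK LD1_c4 LD2_c31 LD3_c41))))))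
theorem f422811 : Led Lsl_ct (LP (LK LD1_c11 LD2_c11 LD3_c33)) = (LP (LK LD1_c5 LD2_c40 LD3_c26)) :=
  Lre_c IH (LK LD1_c11 LD2_c11 LD3_c33) (LK LD1_c5 LD2_c40 LD3_c26) Lrfl Lrfl
theorem f557196 : Led Lsl_gt (LP (LK LD1_c9 LD2_c3 LD3_c13)) = (LP (LK LD1_c11 LD2_c11 LD3_c33)) :=
  Lgr Lrot150 (Lpe (f494138 IH) (Lpr_gf (f557192 IH) (Lpr_df (f225931 IH) (Lpr_gt (K38.f174632 IH) (Lpe (K38.f547434 IH) (Lpr_gt (K38.f547449 IH) (Lpe (f544915 IH) (Lpe (f548258 IH) (Lpe (f422811 IH) (Lpn (LP (LK LD1_c11 LD2_c11 LD3_c33))))))))))))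
theorem f226002 : Led Lsl_dt (LP (LK LD1_c2 LD2_c47 LD3_c0)) = (LP (LK LD1_c2 LD2_c12 LD3_c29)) :=
  Lgr Lrot79 (Lpe (f226001 IH) (Lpr_df (K12.f225933 IH) (Lpe (K32.f174624 IH) (Lpn (LP (LK LD1_c2 LD2_c12 LD3_c29))))))
theorem f557198 : Led Lsl_df (LP (LK LD1_c5 LD2_c40 LD3_c26)) = (LP (LK LD1_c4 LD2_c31 LD3_c41)) :=
  Lgr Lrot162 (Lpe (f422811 IH) (Lpe (f557196 IH) (Lpe (f494138 IH) (Lpr_gf (f557192 IH) (Lpr_dt (f226002 IH) (Lpr_gt (K38.f174632 IH) (Lpe (K38.f547434 IH) (Lpr_gt (K38.f547449 IH) (Lpe (f544915 IH) (Lpn (LP (LK LD1_c4 LD2_c31 LD3_c41))))))))))))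
theorem f547774 : Led Lsl_dt (LP (LK LD1_c5 LD2_c38 LD3_c0)) = (LP (LK LD1_c2 LD2_c44 LD3_c55)) :=
  Lre_d IH (LK LD1_c5 LD2_c38 LD3_c0) (LK LD1_c2 LD2_c44 LD3_c55) Lrfl Lrfl
theorem f557204 : Led Lsl_ft (LP (LK LD1_c5 LD2_c40 LD3_c26)) = (LP (LK LD1_c5 LD2_c38 LD3_c0)) :=
  Lgr Lrot54 (Lpr_df (f557198 IH) (Lpr_ff (K38.f544917 IH) (Lpqs (f547765 IH) (Lpe (f547774 IH) (Lpn (LP (LK LD1_c5 LD2_c38 LD3_c0)))))))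
theorem f557217 : Led Lsl_ff (LP (LK LD1_c5 LD2_c40 LD3_c26)) = (LP (LK LD1_c5 LD2_c38 LD3_c0)) :=
  Lgr Lrot3 (Lpr_ft (f557204 IH) (Lpn (LP (LK LD1_c5 LD2_c38 LD3_c0))))
theorem f544912 : Led Lsl_at (LP (LK LD1_c9 LD2_c1 LD3_c20)) = (LP (LK LD1_c4 LD2_c31 LD3_c41)) :=
  Lre_a IH (LK LD1_c9 LD2_c1 LD3_c20) (LK LD1_c4 LD2_c31 LD3_c41) Lrfl Lrfl
theorem f226022 : Led Lsl_ct (LP (LK LD1_c5 LD2_c42 LD3_c2)) = (LP (LK LD1_c2 LD2_c47 LD3_c0)) :=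
  Lre_c IH (LK LD1_c5 LD2_c42 LD3_c2) (LK LD1_c2 LD2_c47 LD3_c0) Lrfl Lrfl
theorem f381376 : Led Lsl_bt (LP (LK LD1_c4 LD2_c57 LD3_c5)) = (LP (LK LD1_c2 LD2_c26 LD3_c31)) :=
  Lre_b IH (LK LD1_c4 LD2_c57 LD3_c5) (LK LD1_c2 LD2_c26 LD3_c31) Lrfl Lrfl
theorem f172476 : Led Lsl_ct (LP (LK LD1_c4 LD2_c57 LD3_c5)) = (LP (LK LD1_c9 LD2_c45 LD3_c16)) :=
  Lre_c IH (LK LD1_c4 LD2_c57 LD3_c5) (LK LD1_c9 LD2_c45 LD3_c16) Lrfl Lrfl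
theorem f226023 : Led Lsl_ct (LP (LK LD1_c2 LD2_c47 LD3_c0)) = (LP (LK LD1_c5 LD2_c42 LD3_c2)) :=
  Lre_c IH (LK LD1_c2 LD2_c47 LD3_c0) (LK LD1_c5 LD2_c42 LD3_c2) Lrfl Lrfl
theorem f381410 : Led Lsl_gt (LP (LK LD1_c9 LD2_c45 LD3_c16)) = (LP (LK LD1_c5 LD2_c42 LD3_c2)) :=
  Lgr Lrot65 (Lpe (f172476 IH) (Lpr_bt (f381376 IH) (Lpr_gf (K27.f381388 IH) (Lpe (K20.f226392 IH) (Lpe (K20.f226395 IH) (Lpe (K12.f173037 IH) (Lpr_cf (K12.f175273 IH) (Lpr_gf (K12.f226018 IH) (Lpe (f225930 IH) (Lpr_ct (f226023 IH) (Lpn (LP (LK LD1_c5 LD2_c42 LD3_c2)))))))))))))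
theorem f381423 : Led Lsl_gt (LP (LK LD1_c9 LD2_c45 LD3_c15)) = (LP (LK LD1_c4 LD2_c57 LD3_c5)) :=
  Lre_g IH (LK LD1_c9 LD2_c45 LD3_c15) (LK LD1_c4 LD2_c57 LD3_c5) Lrfl Lrfl
theorem f551835 : Led Lsl_df (LP (LK LD1_c9 LD2_c1 LD3_c20)) = (LP (LK LD1_c9 LD2_c45 LD3_c15)) :=
  Lgr Lrot155 (Lpr_gt (f551823 IH) (Lpe (K38.f210370 IH) (Lpr_gt (K38.f210369 IH) (Lpr_ct (K32.f210364 IH) (Lpe (f225931 IH) (Lpe (f226022 IH) (Lpe (f381410 IH) (Lpe (f172476 IH) (Lpe (f381423 IH) (Lpn (LP (LK LD1_c9 LD2_c45 LD3_c15))))))))))))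
theorem f557202 : Led Lsl_at (LP (LK LD1_c5 LD2_c40 LD3_c26)) = (LP (LK LD1_c9 LD2_c45 LD3_c15)) :=
  Lgr Lrot51 (Lpr_df (f557198 IH) (Lpe (f544912 IH) (Lpr_df (f551835 IH) (Lpn (LP (LK LD1_c9 LD2_c45 LD3_c15))))))
theorem f557219 : Led Lsl_at (LP (LK LD1_c11 LD2_c7 LD3_c17)) = (LP (LK LD1_c5 LD2_c38 LD3_c0)) :=
  Lre_a IH (LK LD1_c11 LD2_c7 LD3_c17) (LK LD1_c5 LD2_c38 LD3_c0) Lrfl Lrfl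
theorem f557220 : Led Lsl_ft (LP (LK LD1_c9 LD2_c45 LD3_c15)) = (LP (LK LD1_c11 LD2_c7 LD3_c17)) :=
  Lgr Lrot101 (Lpe (f557202 IH) (Lpr_ff (f557217 IH) (Lpe (f557219 IH) (Lpn (LP (LK LD1_c11 LD2_c7 LD3_c17))))))
theorem f557316 : Led Lsl_gt (LP (LK LD1_c4 LD2_c57 LD3_c5)) = (LP (LK LD1_c5 LD2_c38 LD3_c0)) :=
  Lgr Lrot46 (Lpe (f381423 IH) (Lpr_ft (f557220 IH) (Lpr_at (f557219 IH) (Lpn (LP (LK LD1_c5 LD2_c38 LD3_c0))))))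
theorem f172475 : Led Lsl_dt (LP (LK LD1_c2 LD2_c26 LD3_c29)) = (LP (LK LD1_c4 LD2_c57 LD3_c5)) :=
  Lre_d IH (LK LD1_c2 LD2_c26 LD3_c29) (LK LD1_c4 LD2_c57 LD3_c5) Lrfl Lrfl
theorem f547773 : Led Lsl_dt (LP (LK LD1_c2 LD2_c44 LD3_c55)) = (LP (LK LD1_c5 LD2_c38 LD3_c0)) :=
  Lre_d IH (LK LD1_c2 LD2_c44 LD3_c55) (LK LD1_c5 LD2_c38 LD3_c0) Lrfl Lrfl
theorem f209987 : Led Lsl_bt (LP (LK LD1_c5 LD2_c50 LD3_c1)) = (LP (LK LD1_c2 LD2_c51 LD3_c9)) :=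
  Lre_b IH (LK LD1_c5 LD2_c50 LD3_c1) (LK LD1_c2 LD2_c51 LD3_c9) Lrfl Lrfl
theorem f210028 : Led Lsl_ct (LP (LK LD1_c6 LD2_c50 LD3_c60)) = (LP (LK LD1_c5 LD2_c50 LD3_c1)) :=
  Lgr Lrot83 (Lpe (K32.f112378 IH) (Lpr_cf (K36.f205778 IH) (Lpe (K36.f205790 IH) (Lpe (K36.f205791 IH) (Lpe (f209987 IH) (Lpn (LP (LK LD1_c5 LD2_c50 LD3_c1))))))))
theorem f210032 : Led Lsl_gt (LP (LK LD1_c6 LD2_c50 LD3_c60)) = (LP (LK LD1_c12 LD2_c9 LD3_c30)) :=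
  Lgr Lrot180 (Lpr_ct (f210028 IH) (Lpr_gt (K36.f16662 IH) (Lpr_dt (K36.f37207 IH) (Lpe (K8.f112545 IH) (Lpr_dt (K8.f158953 IH) (Lpe (K8.f158939 IH) (Lpe (K8.f112569 IH) (Lpr_gf (K8.f157635 IH) (Lpe (K8.f119079 IH) (Lpn (LP (LK LD1_c12 LD2_c9 LD3_c30))))))))))))
theorem f496265 : Led Lsl_bt (LP (LK LD1_c4 LD2_c34 LD3_c23)) = K32.v1560 :=
  Lgr Lrot178 (Lpr_cf (K8.f132521 IH) (Lpr_df (K36.f206793 IH) (Lpe (K36.f37893 IH) (Lpe (K32.f16563 IH) (Lpr_cf (K1.f37882 IH) (Lpe (K1.f37040 IH) (Lpe (K1.f37756 IH) (Lpe (K2.f34724 IH) (Lpe (K2.f34722 IH) (Lpe (K8.f37766 IH) (Lpe (K8.f138481 IH) (Lpe (K8.f138478 IH) (Lpe (K8.f73839 IH) (Lpe (K8.f119079 IH) (Lpe (f210032 IH) (Lpe (K32.f112378 IH) (Lpr_cf (K36.f205778 IH) (Lpe (K32.f205769 IH) (Lpr_gf (K32.f496261 IH) (Lpn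 K32.v1560))))))))))))))))))))
theorem f496266 : Led Lsl_bf (LP (LK LD1_c4 LD2_c34 LD3_c23)) = K32.v1560 :=
  Lgr Lrot24 (Lpr_bt (f496265 IH) (Lpn K32.v1560))
theorem f539768 : Led Lsl_ef (LP (LK LD1_c2 LD2_c49 LD3_c34)) = (LP (LK LD1_c4 LD2_c34 LD3_c23)) :=
  Lgr Lrot29 (Lpr_bt (K8.f73476 IH) (Lpr_et (K36.f157812 IH) (Lpqs (K36.f539757 IH) (Lpe (f496266 IH) (Lpn (LP (LK LD1_c4 LD2_c34 LD3_c23)))))))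
theorem f557324 : Led Lsl_ef (LP (LK LD1_c4 LD2_c57 LD3_c4)) = (LP (LK LD1_c2 LD2_c27 LD3_c1)) :=
  Lgr Lrot167 (Lpr_gt (K31.f172461 IH) (Lpr_dt (f172475 IH) (Lpr_gt (f557316 IH) (Lpe (f547773 IH) (Lpq (f547765 IH) (Lpe (K38.f496032 IH) (Lpr_gt (K8.f160877 IH) (Lpr_ef (f539768 IH) (Lpr_dt (K8.f132523 IH) (Lpr_gt (K7.f149878 IH) (Lpe (K7.f82035 IH) (Lpn (LP (LK LD1_c2 LD2_c27 LD3_c1))))))))))))))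
theorem f424149 : Led Lsl_et (LP (LK LD1_c4 LD2_c57 LD3_c6)) = (LP (LK LD1_c2 LD2_c26 LD3_c29)) :=
  Lre_e IH (LK LD1_c4 LD2_c57 LD3_c6) (LK LD1_c2 LD2_c26 LD3_c29) Lrfl Lrfl
theorem f424150 : Led Lsl_dt (LP (LK LD1_c4 LD2_c57 LD3_c6)) = (LP (LK LD1_c9 LD2_c45 LD3_c18)) :=
  Lre_d IH (LK LD1_c4 LD2_c57 LD3_c6) (LK LD1_c9 LD2_c45 LD3_c18) Lrfl Lrfl
theorem f178965 : Led Lsl_bt (LP (LK LD1_c2 LD2_c12 LD3_c49)) = (LP (LK LD1_c4 LD2_c31 LD3_c40)) :=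
  Lre_b IH (LK LD1_c2 LD2_c12 LD3_c49) (LK LD1_c4 LD2_c31 LD3_c40) Lrfl Lrfl
theorem f544931 : Led Lsl_ef (LP (LK LD1_c2 LD2_c14 LD3_c10)) = (LP (LK LD1_c4 LD2_c31 LD3_c40)) :=
  Lgr Lrot29 (Lpr_bt (K5.f92247 IH) (Lpr_et (K38.f494263 IH) (Lpqs (K38.f544926 IH) (Lpr_bt (f178965 IH) (Lpn (LP (LK LD1_c4 LD2_c31 LD3_c40)))))))
theorem f557334 : Led Lsl_gt (LP (LK LD1_c9 LD2_c45 LD3_c18)) = (LP (LK LD1_c5 LD2_c40 LD3_c23)) :=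
  Lgr Lrot112 (Lpe (f424150 IH) (Lpr_et (f424149 IH) (Lpe (K31.f172461 IH) (Lpr_ef (f557324 IH) (Lpr_dt (K7.f82035 IH) (Lpe (K7.f149878 IH) (Lpe (K8.f132523 IH) (Lpe (K8.f132497 IH) (Lpr_ef (f544931 IH) (Lpr_dt (f552611 IH) (Lpn (LP (LK LD1_c5 LD2_c40 LD3_c23)))))))))))))
theorem f181478 : Led Lsl_dt (LP (LK LD1_c1 LD2_c20 LD3_c10)) = (LP (LK LD1_c0 LD2_c37 LD3_c3)) :=
  Lre_d IH (LK LD1_c1 LD2_c20 LD3_c10) (LK LD1_c0 LD2_c37 LD3_c3) Lrfl Lrfl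
theorem f383902 : Led Lsl_gf (LP (LK LD1_c9 LD2_c45 LD3_c20)) = (LP (LK LD1_c5 LD2_c42 LD3_c8)) :=
  Lgr Lrot144 (Lpr_dt (f383873 IH) (Lpr_gt (f318931 IH) (Lpr_dt (K36.f381126 IH) (Lpe (K36.f174678 IH) (Lpe (K36.f381125 IH) (Lpe (K30.f381124 IH) (Lpe (f181478 IH) (Lpr_gf (K27.f381116 IH) (Lpe (K27.f174272 IH) (Lpn (LP (LK LD1_c5 LD2_c42 LD3_c8))))))))))))
theorem f557338 : Led Lsl_bf (LP (LK LD1_c9 LD2_c45 LD3_c18)) = (LP (LK LD1_c4 LD2_c57 LD3_c8)) :=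
  Lgr Lrot165 (Lpr_gt (f557334 IH) (Lpe (f418619 IH) (Lpr_gt (f174223 IH) (Lpe (K36.f172501 IH) (Lpr_bt (K31.f174222 IH) (Lpe (K9.f174220 IH) (Lpe (K17.f174136 IH) (Lpr_ct (K27.f174137 IH) (Lpe (f383902 IH) (Lpe (f383872 IH) (Lpn (LP (LK LD1_c4 LD2_c57 LD3_c8)))))))))))))
theorem f495245 : Led Lsl_dt (LP (LK LD1_c9 LD2_c45 LD3_c18)) = (LP (LK LD1_c4 LD2_c57 LD3_c6)) :=
  Lre_d IH (LK LD1_c9 LD2_c45 LD3_c18) (LK LD1_c4 LD2_c57 LD3_c6) Lrfl Lrfl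
def v1382 : LQ := Led Lsl_et (LP (LK LD1_c1 LD2_c10 LD3_c33))
theorem f495235 : Led Lsl_et (LP (LK LD1_c1 LD2_c10 LD3_c33)) = v1382 :=
  Lrfl
theorem f495237 : Led Lsl_ef (LP (LK LD1_c1 LD2_c10 LD3_c33)) = v1382 :=
  Lgr Lrot88 (Lpr_et (f495235 IH) (Lpn v1382))
theorem f495240 : Led Lsl_et (LP (LK LD1_c2 LD2_c26 LD3_c29)) = (LP (LK LD1_c4 LD2_c57 LD3_c6)) :=
  Lre_e IH (LK LD1_c2 LD2_c26 LD3_c29) (LK LD1_c4 LD2_c57 LD3_c6) Lrfl Lrfl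

end

end K39

end

end Cfsg.Agent.Helper28.S1692
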