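import Cfsg.Agent.Lib.Helper28.S1692.Seeds3

set_option autoImplicit false
set_option maxRecDepth 100000
set_option linter.all false

namespace Cfsg.Agent.Helper28.S1692

open Cfsg.Agent.Helper28
open Cfsg.Spor.ON (Gen)

noncomputable section

namespace K4
abbrev LD1_c0 := D1.c0
abbrev LD1_c1 := D1.c1
abbrev LD1_c2 := D1.c2
abbrev LD1_c3 := D1.c3
abbrev LD1_c4 := D1.c4
abbrev LD1_c5 := D1.c5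
abbrev LD1_c6 := D1.c6
abbrev LD1_c7 := D1.c7
abbrev LD1_c8 := D1.c8
abbrev LD1_c9 := D1.c9
abbrev LD1_c10 := D1.c10
abbrev LD1_c11 := D1.c11
abbrev LD1_c12 := D1.c12
abbrev LD1_c13 := D1.c13
abbrev LD1_c14 := D1.c14
abbrev LD1_c15 := D1.c15
abbrev LD1_c16 := D1.c16
abbrev LD1_c17 := D1.c17
abbrev LD1_c18 := D1.c18
abbrev LD1_c19 := D1.c19
abbrev LD1_c20 := D1.c20
abbrev LD1_c21 := D1.c21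
abbrev LD1_c22 := D1.c22
abbrev LD1_c23 := D1.c23
abbrev LD1_c24 := D1.c24
abbrev LD1_c25 := D1.c25
abbrev LD1_c26 := D1.c26
abbrev LD1_c27 := D1.c27
abbrev LD1_c28 := D1.c28
abbrev LD1_c29 := D1.c29
abbrev LD1_c30 := D1.c30
abbrev LD1_c31 := D1.c31
abbrev LD1_c32 := D1.c32
abbrev LD2_c0 := D2.c0
abbrev LD2_c1 := D2.c1
abbrev LD2_c2 := D2.c2
abbrev LD2_c3 := D2.c3
abbrev LD2_c4 := D2.c4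
abbrev LD2_c5 := D2.c5
abbrev LD2_c6 := D2.c6
abbrev LD2_c7 := D2.c7
abbrev LD2_c8 := D2.c8
abbrev LD2_c9 := D2.c9
abbrev LD2_c10 := D2.c10
abbrev LD2_c11 := D2.c11
abbrev LD2_c12 := D2.c12
abbrev LD2_c13 := D2.c13
abbrev LD2_c14 := D2.c14
abbrev LD2_c15 := D2.c15
abbrev LD2_c16 := D2.c16
abbrev LD2_c17 := D2.c17
abbrev LD2_c18 := D2.c18
abbrev LD2_c19 := D2.c19
abbrev LD2_c20 := D2.c20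
abbrev LD2_c21 := D2.c21
abbrev LD2_c22 := D2.c22
abbrev LD2_c23 := D2.c23
abbrev LD2_c24 := D2.c24
abbrev LD2_c25 := D2.c25
abbrev LD2_c26 := D2.c26
abbrev LD2_c27 := D2.c27
abbrev LD2_c28 := D2.c28
abbrev LD2_c29 := D2.c29
abbrev LD2_c30 := D2.c30
abbrev LD2_c31 := D2.c31
abbrev LD2_c32 := D2.c32
abbrev LD2_c33 := D2.c33
abbrev LD2_c34 := D2.c34
abbrev LD2_c35 := D2.c35
abbrev LD2_c36 := D2.c36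
abbrev LD2_c37 := D2.c37
abbrev LD2_c38 := D2.c38
abbrev LD2_c39 := D2.c39
abbrev LD2_c40 := D2.c40
abbrev LD2_c41 := D2.c41
abbrev LD2_c42 := D2.c42
abbrev LD2_c43 := D2.c43
abbrev LD2_c44 := D2.c44
abbrev LD2_c45 := D2.c45
abbrev LD2_c46 := D2.c46
abbrev LD2_c47 := D2.c47
abbrev LD2_c48 := D2.c48
abbrev LD2_c49 := D2.c49
abbrev LD2_c50 := D2.c50
abbrev LD2_c51 := D2.c51
abbrev LD2_c52 := D2.c52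
abbrev LD2_c53 := D2.c53
abbrev LD2_c54 := D2.c54
abbrev LD2_c55 := D2.c55
abbrev LD2_c56 := D2.c56
abbrev LD2_c57 := D2.c57
abbrev LD2_c58 := D2.c58
abbrev LD2_c59 := D2.c59
abbrev LD3_c0 := D3.c0
abbrev LD3_c1 := D3.c1
abbrev LD3_c2 := D3.c2
abbrev LD3_c3 := D3.c3
abbrev LD3_c4 := D3.c4
abbrev LD3_c5 := D3.c5
abbrev LD3_c6 := D3.c6
abbrev LD3_c7 := D3.c7
abbrev LD3_c8 := D3.c8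
abbrev LD3_c9 := D3.c9
abbrev LD3_c10 := D3.c10
abbrev LD3_c11 := D3.c11
abbrev LD3_c12 := D3.c12
abbrev LD3_c13 := D3.c13
abbrev LD3_c14 := D3.c14
abbrev LD3_c15 := D3.c15
abbrev LD3_c16 := D3.c16
abbrev LD3_c17 := D3.c17
abbrev LD3_c18 := D3.c18
abbrev LD3_c19 := D3.c19
abbrev LD3_c20 := D3.c20
abbrev LD3_c21 := D3.c21
abbrev LD3_c22 := D3.c22
abbrev LD3_c23 := D3.c23
abbrev LD3_c24 := D3.c24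
abbrev LD3_c25 := D3.c25
abbrev LD3_c26 := D3.c26
abbrev LD3_c27 := D3.c27
abbrev LD3_c28 := D3.c28
abbrev LD3_c29 := D3.c29
abbrev LD3_c30 := D3.c30
abbrev LD3_c31 := D3.c31
abbrev LD3_c32 := D3.c32
abbrev LD3_c33 := D3.c33
abbrev LD3_c34 := D3.c34
abbrev LD3_c35 := D3.c35
abbrev LD3_c36 := D3.c36
abbrev LD3_c37 := D3.c37
abbrev LD3_c38 := D3.c38
abbrev LD3_c39 := D3.c39
abbrev LD3_c40 := D3.c40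
abbrev LD3_c41 := D3.c41
abbrev LD3_c42 := D3.c42
abbrev LD3_c43 := D3.c43
abbrev LD3_c44 := D3.c44
abbrev LD3_c45 := D3.c45
abbrev LD3_c46 := D3.c46
abbrev LD3_c47 := D3.c47
abbrev LD3_c48 := D3.c48
abbrev LD3_c49 := D3.c49
abbrev LD3_c50 := D3.c50
abbrev LD3_c51 := D3.c51
abbrev LD3_c52 := D3.c52
abbrev LD3_c53 := D3.c53
abbrev LD3_c54 := D3.c54
abbrev LD3_c55 := D3.c55
abbrev LD3_c56 := D3.c56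
abbrev LD3_c57 := D3.c57
abbrev LD3_c58 := D3.c58
abbrev LD3_c59 := D3.c59
abbrev LD3_c60 := D3.c60
abbrev LD3_c61 := D3.c61
abbrev LG_g := Gen.g
abbrev Lsl_gt : Gen × Bool := sl_gt
alias Lfl_gt := fl_gt
alias Lpr_gt := pr_gt
abbrev Lsl_gf : Gen × Bool := sl_gf
alias Lfl_gf := fl_gf
alias Lpr_gf := pr_gf
alias Lre_g := re_g
alias Leoe_g := eoe_g
abbrev LG_a := Gen.a
abbrev Lsl_at : Gen × Bool := sl_at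
alias Lfl_at := fl_at
alias Lpr_at := pr_at
abbrev Lsl_af : Gen × Bool := sl_af
alias Lfl_af := fl_af
alias Lpr_af := pr_af
alias Lre_a := re_a
alias Leoe_a := eoe_a
abbrev LG_b := Gen.b
abbrev Lsl_bt : Gen × Bool := sl_bt
alias Lfl_bt := fl_bt
alias Lpr_bt := pr_bt
abbrev Lsl_bf : Gen × Bool := sl_bf
alias Lfl_bf := fl_bf
alias Lpr_bf := pr_bf
alias Lre_b := re_b
alias Leoe_b := eoe_b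
abbrev LG_c := Gen.c
abbrev Lsl_ct : Gen × Bool := sl_ct
alias Lfl_ct := fl_ct
alias Lpr_ct := pr_ct
abbrev Lsl_cf : Gen × Bool := sl_cf
alias Lfl_cf := fl_cf
alias Lpr_cf := pr_cf
alias Lre_c := re_c
alias Leoe_c := eoe_c
abbrev LG_d := Gen.d
abbrev Lsl_dt : Gen × Bool := sl_dt
alias Lfl_dt := fl_dt
alias Lpr_dt := pr_dt
abbrev Lsl_df : Gen × Bool := sl_df
alias Lfl_df := fl_df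
alias Lpr_df := pr_df
alias Lre_d := re_d
alias Leoe_d := eoe_d
abbrev LG_e := Gen.e
abbrev Lsl_et : Gen × Bool := sl_et
alias Lfl_et := fl_et
alias Lpr_et := pr_et
abbrev Lsl_ef : Gen × Bool := sl_ef
alias Lfl_ef := fl_ef
alias Lpr_ef := pr_ef
alias Lre_e := re_e
alias Leoe_e := eoe_e
abbrev LG_f := Gen.f
abbrev Lsl_ft : Gen × Bool := sl_ft
alias Lfl_ft := fl_ft
alias Lpr_ft := pr_ft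
abbrev Lsl_ff : Gen × Bool := sl_ff
alias Lfl_ff := fl_ff
alias Lpr_ff := pr_ff
alias Lre_f := re_f
alias Leoe_f := eoe_f
abbrev LK := Pt.mk
abbrev LQ : Type := Qt rels S
abbrev LP (p : Pt) : LQ := P p
abbrev Led (l : Gen × Bool) (c : LQ) : LQ := ed l c
abbrev LEOK (x : Gen) (p : Pt) : Prop := EntryOK rels S fwd inv o plet idx x p
alias Lpe := pe
alias Lpn := pn
alias Lgr := gr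
alias Lpq := pq
alias Lpqs := pqs
alias Llr := lr
alias Leop := eop
alias Lefun := efun
alias Lecon := econ
theorem Lrfl {α : Sort _} {a : α} : a = a := rfl
alias Lrot0 := rot0
alias Lrot1 := rot1
alias Lrot2 := rot2
alias Lrot3 := rot3
alias Lrot4 := rot4
alias Lrot5 := rot5
alias Lrot6 := rot6
alias Lrot7 := rot7
alias Lrot8 := rot8
alias Lrot9 := rot9
alias Lrot10 := rot10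
alias Lrot11 := rot11
alias Lrot12 := rot12
alias Lrot14 := rot14
alias Lrot15 := rot15
alias Lrot17 := rot17
alias Lrot18 := rot18
alias Lrot19 := rot19
alias Lrot20 := rot20
alias Lrot21 := rot21
alias Lrot22 := rot22
alias Lrot23 := rot23
alias Lrot24 := rot24
alias Lrot25 := rot25
alias Lrot26 := rot26
alias Lrot27 := rot27
alias Lrot28 := rot28
alias Lrot29 := rot29
alias Lrot30 := rot30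
alias Lrot31 := rot31
alias Lrot33 := rot33
alias Lrot34 := rot34
alias Lrot35 := rot35
alias Lrot36 := rot36
alias Lrot37 := rot37
alias Lrot38 := rot38
alias Lrot39 := rot39
alias Lrot40 := rot40
alias Lrot41 := rot41
alias Lrot42 := rot42
alias Lrot43 := rot43
alias Lrot44 := rot44
alias Lrot45 := rot45
alias Lrot46 := rot46
alias Lrot47 := rot47
alias Lrot48 := rot48
alias Lrot49 := rot49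
alias Lrot50 := rot50
alias Lrot51 := rot51
alias Lrot52 := rot52
alias Lrot53 := rot53
alias Lrot54 := rot54
alias Lrot55 := rot55
alias Lrot56 := rot56
alias Lrot57 := rot57
alias Lrot58 := rot58
alias Lrot59 := rot59
alias Lrot60 := rot60
alias Lrot61 := rot61
alias Lrot62 := rot62
alias Lrot63 := rot63
alias Lrot64 := rot64
alias Lrot65 := rot65
alias Lrot66 := rot66
alias Lrot67 := rot67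
alias Lrot68 := rot68
alias Lrot69 := rot69
alias Lrot70 := rot70
alias Lrot71 := rot71
alias Lrot72 := rot72
alias Lrot73 := rot73
alias Lrot74 := rot74
alias Lrot75 := rot75
alias Lrot76 := rot76
alias Lrot77 := rot77
alias Lrot78 := rot78
alias Lrot79 := rot79
alias Lrot80 := rot80
alias Lrot81 := rot81
alias Lrot82 := rot82
alias Lrot83 := rot83
alias Lrot84 := rot84
alias Lrot85 := rot85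
alias Lrot86 := rot86
alias Lrot87 := rot87
alias Lrot88 := rot88
alias Lrot89 := rot89
alias Lrot90 := rot90
alias Lrot91 := rot91
alias Lrot92 := rot92
alias Lrot93 := rot93
alias Lrot94 := rot94
alias Lrot95 := rot95
alias Lrot96 := rot96
alias Lrot97 := rot97
alias Lrot98 := rot98
alias Lrot99 := rot99
alias Lrot100 := rot100
alias Lrot101 := rot101
alias Lrot102 := rot102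
alias Lrot103 := rot103
alias Lrot104 := rot104
alias Lrot105 := rot105
alias Lrot106 := rot106
alias Lrot107 := rot107
alias Lrot108 := rot108
alias Lrot109 := rot109
alias Lrot110 := rot110
alias Lrot111 := rot111
alias Lrot112 := rot112
alias Lrot114 := rot114
alias Lrot116 := rot116
alias Lrot117 := rot117
alias Lrot119 := rot119
alias Lrot120 := rot120
alias Lrot123 := rot123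
alias Lrot124 := rot124
alias Lrot125 := rot125
alias Lrot126 := rot126
alias Lrot127 := rot127
alias Lrot128 := rot128
alias Lrot129 := rot129
alias Lrot130 := rot130
alias Lrot131 := rot131
alias Lrot132 := rot132
alias Lrot133 := rot133
alias Lrot135 := rot135
alias Lrot136 := rot136
alias Lrot137 := rot137
alias Lrot141 := rot141
alias Lrot142 := rot142
alias Lrot143 := rot143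
alias Lrot144 := rot144
alias Lrot145 := rot145
alias Lrot146 := rot146
alias Lrot147 := rot147
alias Lrot148 := rot148
alias Lrot149 := rot149
alias Lrot150 := rot150
alias Lrot151 := rot151
alias Lrot152 := rot152
alias Lrot153 := rot153
alias Lrot155 := rot155
alias Lrot156 := rot156
alias Lrot157 := rot157
alias Lrot158 := rot158
alias Lrot159 := rot159
alias Lrot160 := rot160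
alias Lrot161 := rot161
alias Lrot162 := rot162
alias Lrot163 := rot163
alias Lrot164 := rot164
alias Lrot165 := rot165
alias Lrot166 := rot166
alias Lrot168 := rot168
alias Lrot169 := rot169
alias Lrot171 := rot171
alias Lrot173 := rot173
alias Lrot176 := rot176
alias Lrot177 := rot177
alias Lrot178 := rot178
alias Lrot180 := rot180
alias Lrot181 := rot181
alias Lrot182 := rot182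
alias Lrot183 := rot183
alias Lrot184 := rot184
alias Lrot188 := rot188
alias Lrot190 := rot190
alias Lrot191 := rot191

section
variable (IH : IHT)
include IH

theorem f111009 : Led Lsl_gt (LP (LK LD1_c2 LD2_c19 LD3_c59)) = (LP (LK LD1_c3 LD2_c28 LD3_c34)) :=
  Lgr Lrot65 (Lpe (K3.f78114 IH) (Lpr_bt (K3.f111008 IH) (Lpr_gf (K3.f111004 IH) (Lpe (K3.f96630 IH) (Lpr_ct (K3.f60975 IH) (Lpe (K3.f96619 IH) (Lpe (K3.f12487 IH) (Lpr_gf (K1.f66423 IH) (Lpe (K3.f62285 IH) (Lpr_ct (K3.f62177 IH) (Lpn (LP (LK LD1_c3 LD2_c28 LD3_c34)))))))))))))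
theorem f107374 : Led Lsl_at (LP (LK LD1_c1 LD2_c33 LD3_c54)) = (LP (LK LD1_c2 LD2_c19 LD3_c55)) :=
  Lgr Lrot100 (Lpr_af (K3.f107372 IH) (Lpn (LP (LK LD1_c2 LD2_c19 LD3_c55))))
theorem f111011 : Led Lsl_ft (LP (LK LD1_c2 LD2_c19 LD3_c59)) = (LP (LK LD1_c1 LD2_c33 LD3_c54)) :=
  Lgr Lrot2 (Lpr_gt (f111009 IH) (Lpe (K3.f107507 IH) (Lpe (f107374 IH) (Lpn (LP (LK LD1_c1 LD2_c33 LD3_c54))))))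
theorem f111027 : Led Lsl_dt (LP (LK LD1_c2 LD2_c19 LD3_c59)) = (LP (LK LD1_c3 LD2_c44 LD3_c56)) :=
  Lgr Lrot159 (Lpr_ft (f111011 IH) (Lpr_at (f107374 IH) (Lpe (K3.f20949 IH) (Lpe (K3.f20948 IH) (Lpe (K3.f23503 IH) (Lpe (K2.f23491 IH) (Lpr_cf (K2.f78103 IH) (Lpr_df (K3.f108982 IH) (Lpe (K3.f95512 IH) (Lpn (LP (LK LD1_c3 LD2_c44 LD3_c56))))))))))))
theorem f62284 : Led Lsl_ct (LP (LK LD1_c3 LD2_c28 LD3_c34)) = (LP (LK LD1_c1 LD2_c40 LD3_c61)) :=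
  Lre_c IH (LK LD1_c3 LD2_c28 LD3_c34) (LK LD1_c1 LD2_c40 LD3_c61) Lrfl Lrfl
theorem f58787 : Led Lsl_gt (LP (LK LD1_c3 LD2_c44 LD3_c55)) = (LP (LK LD1_c1 LD2_c49 LD3_c33)) :=
  Lre_g IH (LK LD1_c3 LD2_c44 LD3_c55) (LK LD1_c1 LD2_c49 LD3_c33) Lrfl Lrfl
theorem f83907 : Led Lsl_ct (LP (LK LD1_c3 LD2_c23 LD3_c20)) = (LP (LK LD1_c1 LD2_c38 LD3_c2)) :=
  Lre_c IH (LK LD1_c3 LD2_c23 LD3_c20) (LK LD1_c1 LD2_c38 LD3_c2) Lrfl Lrfl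
theorem f26165 : Led Lsl_dt (LP (LK LD1_c0 LD2_c43 LD3_c30)) = (LP (LK LD1_c0 LD2_c19 LD3_c24)) :=
  Lre_d IH (LK LD1_c0 LD2_c43 LD3_c30) (LK LD1_c0 LD2_c19 LD3_c24) Lrfl Lrfl
theorem f90366 : Led Lsl_gt (LP (LK LD1_c0 LD2_c41 LD3_c27)) = (LP (LK LD1_c1 LD2_c29 LD3_c32)) :=
  Lgr Lrot46 (Lpr_gf (K2.f25025 IH) (Lpr_ft (K3.f25031 IH) (Lpr_at (K3.f90360 IH) (Lpn (LP (LK LD1_c1 LD2_c29 LD3_c32))))))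
theorem f104289 : Led Lsl_gf (LP (LK LD1_c1 LD2_c33 LD3_c49)) = (LP (LK LD1_c1 LD2_c38 LD3_c2)) :=
  Lgr Lrot143 (Lpr_dt (K3.f24312 IH) (Lpe (K3.f24311 IH) (Lpe (f26165 IH) (Lpr_gf (K3.f104287 IH) (Lpr_df (K3.f62336 IH) (Lpe (K2.f57576 IH) (Lpe (K2.f62320 IH) (Lpr_gt (f90366 IH) (Lpr_dt (K3.f83723 IH) (Lpn (LP (LK LD1_c1 LD2_c38 LD3_c2))))))))))))
theorem f93110 : Led Lsl_dt (LP (LK LD1_c3 LD2_c45 LD3_c14)) = (LP (LK LD1_c1 LD2_c49 LD3_c45)) :=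
  Lre_d IH (LK LD1_c3 LD2_c45 LD3_c14) (LK LD1_c1 LD2_c49 LD3_c45) Lrfl Lrfl
theorem f111040 : Led Lsl_gf (LP (LK LD1_c3 LD2_c45 LD3_c14)) = (LP (LK LD1_c3 LD2_c44 LD3_c56)) :=
  Lgr Lrot143 (Lpr_dt (f93110 IH) (Lpe (K2.f62890 IH) (Lpe (K2.f24340 IH) (Lpr_gf (K3.f93193 IH) (Lpe (K3.f24312 IH) (Lpr_gf (f104289 IH) (Lpe (f83907 IH) (Lpr_gt (K3.f104198 IH) (Lpr_dt (f111027 IH) (Lpn (LP (LK LD1_c3 LD2_c44 LD3_c56))))))))))))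
theorem f111044 : Led Lsl_cf (LP (LK LD1_c3 LD2_c44 LD3_c55)) = (LP (LK LD1_c3 LD2_c45 LD3_c14)) :=
  Lgr Lrot188 (Lpr_gt (f58787 IH) (Lpr_ct (K3.f58785 IH) (Lpr_dt (K3.f104293 IH) (Lpe (K2.f61881 IH) (Lpe (K2.f62315 IH) (Lpe (f62284 IH) (Lpe (f111009 IH) (Lpr_dt (f111027 IH) (Lpe (f111040 IH) (Lpn (LP (LK LD1_c3 LD2_c45 LD3_c14))))))))))))
theorem f93192 : Led Lsl_dt (LP (LK LD1_c1 LD2_c49 LD3_c45)) = (LP (LK LD1_c3 LD2_c45 LD3_c14)) :=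
  Lre_d IH (LK LD1_c1 LD2_c49 LD3_c45) (LK LD1_c3 LD2_c45 LD3_c14) Lrfl Lrfl
theorem f93201 : Led Lsl_df (LP (LK LD1_c3 LD2_c44 LD3_c54)) = (LP (LK LD1_c3 LD2_c14 LD3_c51)) :=
  Lgr Lrot38 (Lpr_dt (K2.f93195 IH) (Lpn (LP (LK LD1_c3 LD2_c14 LD3_c51))))
theorem f95613 : Led Lsl_ff (LP (LK LD1_c6 LD2_c49 LD3_c26)) = (LP (LK LD1_c3 LD2_c44 LD3_c54)) :=
  Lgr Lrot19 (Lpr_dt (K3.f91961 IH) (Lpr_ft (K2.f95609 IH) (Lpe (f93201 IH) (Lpn (LP (LK LD1_c3 LD2_c44 LD3_c54))))))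
theorem f111057 : Led Lsl_af (LP (LK LD1_c3 LD2_c44 LD3_c55)) = (LP (LK LD1_c6 LD2_c49 LD3_c26)) :=
  Lgr Lrot109 (Lpr_cf (f111044 IH) (Lpe (f93192 IH) (Lpe (K2.f62890 IH) (Lpe (K2.f24340 IH) (Lpe (K2.f24341 IH) (Lpe (K2.f66444 IH) (Lpr_cf (K2.f93186 IH) (Lpe (K2.f93195 IH) (Lpe (f95613 IH) (Lpn (LP (LK LD1_c6 LD2_c49 LD3_c26))))))))))))
theorem f95606 : Led Lsl_at (LP (LK LD1_c3 LD2_c45 LD3_c14)) = (LP (LK LD1_c3 LD2_c44 LD3_c54)) :=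
  Lgr Lrot51 (Lpe (f93192 IH) (Lpr_af (K2.f95595 IH) (Lpe (K2.f93195 IH) (Lpn (LP (LK LD1_c3 LD2_c44 LD3_c54))))))
theorem f111063 : Led Lsl_ft (LP (LK LD1_c3 LD2_c44 LD3_c55)) = (LP (LK LD1_c3 LD2_c45 LD3_c14)) :=
  Lgr Lrot101 (Lpr_af (f111057 IH) (Lpr_ff (f95613 IH) (Lpe (f95606 IH) (Lpn (LP (LK LD1_c3 LD2_c45 LD3_c14))))))
theorem f111066 : Led Lsl_ff (LP (LK LD1_c3 LD2_c44 LD3_c55)) = (LP (LK LD1_c3 LD2_c45 LD3_c14)) :=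
  Lgr Lrot3 (Lpr_ft (f111063 IH) (Lpn (LP (LK LD1_c3 LD2_c45 LD3_c14))))
theorem f111059 : Led Lsl_at (LP (LK LD1_c3 LD2_c44 LD3_c55)) = (LP (LK LD1_c6 LD2_c49 LD3_c26)) :=
  Lgr Lrot100 (Lpr_af (f111057 IH) (Lpn (LP (LK LD1_c6 LD2_c49 LD3_c26))))
theorem f111070 : Led Lsl_gf (LP (LK LD1_c3 LD2_c29 LD3_c18)) = (LP (LK LD1_c3 LD2_c45 LD3_c14)) :=
  Lgr Lrot47 (Lpe (K3.f108884 IH) (Lpe (f111059 IH) (Lpr_ff (f111066 IH) (Lpn (LP (LK LD1_c3 LD2_c45 LD3_c14))))))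
theorem f11448 : Led Lsl_ct (LP (LK LD1_c1 LD2_c41 LD3_c26)) = (LP (LK LD1_c3 LD2_c29 LD3_c18)) :=
  Lre_c IH (LK LD1_c1 LD2_c41 LD3_c26) (LK LD1_c3 LD2_c29 LD3_c18) Lrfl Lrfl
theorem f17800 : Led Lsl_bt (LP (LK LD1_c1 LD2_c41 LD3_c26)) = (LP (LK LD1_c0 LD2_c47 LD3_c17)) :=
  Lre_b IH (LK LD1_c1 LD2_c41 LD3_c26) (LK LD1_c0 LD2_c47 LD3_c17) Lrfl Lrfl
theorem f65178 : Led Lsl_bt (LP (LK LD1_c1 LD2_c34 LD3_c25)) = (LP (LK LD1_c3 LD2_c15 LD3_c23)) :=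
  Lre_b IH (LK LD1_c1 LD2_c34 LD3_c25) (LK LD1_c3 LD2_c15 LD3_c23) Lrfl Lrfl
theorem f94533 : Led Lsl_gt (LP (LK LD1_c3 LD2_c15 LD3_c23)) = (LP (LK LD1_c6 LD2_c34 LD3_c5)) :=
  Lre_g IH (LK LD1_c3 LD2_c15 LD3_c23) (LK LD1_c6 LD2_c34 LD3_c5) Lrfl Lrfl
theorem f111051 : Led Lsl_ct (LP (LK LD1_c3 LD2_c44 LD3_c55)) = (LP (LK LD1_c3 LD2_c45 LD3_c14)) :=
  Lgr Lrot59 (Lpr_cf (f111044 IH) (Lpn (LP (LK LD1_c3 LD2_c45 LD3_c14))))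
theorem f111074 : Led Lsl_bf (LP (LK LD1_c6 LD2_c34 LD3_c5)) = (LP (LK LD1_c3 LD2_c44 LD3_c55)) :=
  Lgr Lrot34 (Lpe (f94533 IH) (Lpe (f65178 IH) (Lpr_ct (K1.f62817 IH) (Lpe (K3.f94487 IH) (Lpr_cf (K0.f17780 IH) (Lpe (K0.f11439 IH) (Lpe (f17800 IH) (Lpr_ct (f11448 IH) (Lpr_gf (f111070 IH) (Lpe (f111051 IH) (Lpn (LP (LK LD1_c3 LD2_c44 LD3_c55)))))))))))))
theorem f111085 : Led Lsl_et (LP (LK LD1_c6 LD2_c34 LD3_c5)) = (LP (LK LD1_c12 LD2_c34 LD3_c50)) :=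
  Lre_e IH (LK LD1_c6 LD2_c34 LD3_c5) (LK LD1_c12 LD2_c34 LD3_c50) Lrfl Lrfl
theorem f91852 : Led Lsl_et (LP (LK LD1_c7 LD2_c30 LD3_c45)) = (LP (LK LD1_c3 LD2_c44 LD3_c55)) :=
  Lre_e IH (LK LD1_c7 LD2_c30 LD3_c45) (LK LD1_c3 LD2_c44 LD3_c55) Lrfl Lrfl
theorem f111086 : Led Lsl_bt (LP (LK LD1_c12 LD2_c34 LD3_c50)) = (LP (LK LD1_c7 LD2_c30 LD3_c45)) :=
  Lgr Lrot119 (Lpe (f111085 IH) (Lpr_bf (f111074 IH) (Lpe (f91852 IH) (Lpn (LP (LK LD1_c7 LD2_c30 LD3_c45))))))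
theorem f111053 : Led Lsl_et (LP (LK LD1_c3 LD2_c44 LD3_c55)) = (LP (LK LD1_c7 LD2_c30 LD3_c45)) :=
  Lre_e IH (LK LD1_c3 LD2_c44 LD3_c55) (LK LD1_c7 LD2_c30 LD3_c45) Lrfl Lrfl
theorem f95586 : Led Lsl_et (LP (LK LD1_c13 LD2_c0 LD3_c54)) = (LP (LK LD1_c6 LD2_c49 LD3_c26)) :=
  Lre_e IH (LK LD1_c13 LD2_c0 LD3_c54) (LK LD1_c6 LD2_c49 LD3_c26) Lrfl Lrfl
theorem f111061 : Led Lsl_at (LP (LK LD1_c7 LD2_c30 LD3_c45)) = (LP (LK LD1_c13 LD2_c0 LD3_c54)) :=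
  Lgr Lrot80 (Lpe (f111053 IH) (Lpr_af (f111057 IH) (Lpe (f95586 IH) (Lpn (LP (LK LD1_c13 LD2_c0 LD3_c54))))))
theorem f97689 : Led Lsl_bt (LP (LK LD1_c13 LD2_c0 LD3_c54)) = (LP (LK LD1_c22 LD2_c11 LD3_c5)) :=
  Lre_b IH (LK LD1_c13 LD2_c0 LD3_c54) (LK LD1_c22 LD2_c11 LD3_c5) Lrfl Lrfl
theorem f95583 : Led Lsl_bt (LP (LK LD1_c13 LD2_c0 LD3_c53)) = (LP (LK LD1_c6 LD2_c49 LD3_c26)) :=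
  Lre_b IH (LK LD1_c13 LD2_c0 LD3_c53) (LK LD1_c6 LD2_c49 LD3_c26) Lrfl Lrfl
theorem f12771 : Led Lsl_bt (LP (LK LD1_c3 LD2_c24 LD3_c38)) = (LP (LK LD1_c1 LD2_c38 LD3_c45)) :=
  Lre_b IH (LK LD1_c3 LD2_c24 LD3_c38) (LK LD1_c1 LD2_c38 LD3_c45) Lrfl Lrfl
theorem f12776 : Led Lsl_et (LP (LK LD1_c1 LD2_c48 LD3_c50)) = (LP (LK LD1_c3 LD2_c43 LD3_c31)) :=
  Lre_e IH (LK LD1_c1 LD2_c48 LD3_c50) (LK LD1_c3 LD2_c43 LD3_c31) Lrfl Lrfl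
theorem f12777 : Led Lsl_et (LP (LK LD1_c3 LD2_c24 LD3_c37)) = (LP (LK LD1_c1 LD2_c38 LD3_c44)) :=
  Lre_e IH (LK LD1_c3 LD2_c24 LD3_c37) (LK LD1_c1 LD2_c38 LD3_c44) Lrfl Lrfl
theorem f12778 : Led Lsl_ct (LP (LK LD1_c3 LD2_c43 LD3_c31)) = (LP (LK LD1_c3 LD2_c24 LD3_c37)) :=
  Lgr Lrot15 (Lpe (f12776 IH) (Lpr_cf (K3.f12764 IH) (Lpe (f12777 IH) (Lpn (LP (LK LD1_c3 LD2_c24 LD3_c37))))))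
theorem f12788 : Led Lsl_cf (LP (LK LD1_c3 LD2_c43 LD3_c31)) = (LP (LK LD1_c3 LD2_c24 LD3_c37)) :=
  Lgr Lrot11 (Lpr_ct (f12778 IH) (Lpn (LP (LK LD1_c3 LD2_c24 LD3_c37))))
theorem f12791 : Led Lsl_bt (LP (LK LD1_c3 LD2_c43 LD3_c31)) = (LP (LK LD1_c7 LD2_c27 LD3_c38)) :=
  Lre_b IH (LK LD1_c3 LD2_c43 LD3_c31) (LK LD1_c7 LD2_c27 LD3_c38) Lrfl Lrfl
theorem f12794 : Led Lsl_bt (LP (LK LD1_c1 LD2_c38 LD3_c46)) = (LP (LK LD1_c3 LD2_c24 LD3_c37)) :=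
  Lre_b IH (LK LD1_c1 LD2_c38 LD3_c46) (LK LD1_c3 LD2_c24 LD3_c37) Lrfl Lrfl
theorem f12795 : Led Lsl_ct (LP (LK LD1_c3 LD2_c24 LD3_c40)) = (LP (LK LD1_c1 LD2_c38 LD3_c46)) :=
  Lre_c IH (LK LD1_c3 LD2_c24 LD3_c40) (LK LD1_c1 LD2_c38 LD3_c46) Lrfl Lrfl
theorem f12796 : Led Lsl_bt (LP (LK LD1_c6 LD2_c51 LD3_c47)) = (LP (LK LD1_c3 LD2_c24 LD3_c40)) :=
  Lre_b IH (LK LD1_c6 LD2_c51 LD3_c47) (LK LD1_c3 LD2_c24 LD3_c40) Lrfl Lrfl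
theorem f12797 : Led Lsl_ct (LP (LK LD1_c7 LD2_c27 LD3_c38)) = (LP (LK LD1_c6 LD2_c51 LD3_c47)) :=
  Lgr Lrot83 (Lpe (f12791 IH) (Lpr_cf (f12788 IH) (Lpe (f12794 IH) (Lpe (f12795 IH) (Lpe (f12796 IH) (Lpn (LP (LK LD1_c6 LD2_c51 LD3_c47))))))))
theorem f12810 : Led Lsl_et (LP (LK LD1_c3 LD2_c43 LD3_c30)) = (LP (LK LD1_c7 LD2_c27 LD3_c38)) :=
  Lre_e IH (LK LD1_c3 LD2_c43 LD3_c30) (LK LD1_c7 LD2_c27 LD3_c38) Lrfl Lrfl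
theorem f12811 : Led Lsl_et (LP (LK LD1_c6 LD2_c51 LD3_c47)) = (LP (LK LD1_c3 LD2_c24 LD3_c38)) :=
  Lre_e IH (LK LD1_c6 LD2_c51 LD3_c47) (LK LD1_c3 LD2_c24 LD3_c38) Lrfl Lrfl
theorem f12812 : Led Lsl_cf (LP (LK LD1_c3 LD2_c43 LD3_c30)) = (LP (LK LD1_c3 LD2_c24 LD3_c38)) :=
  Lgr Lrot39 (Lpr_et (f12810 IH) (Lpr_ct (f12797 IH) (Lpr_et (f12811 IH) (Lpn (LP (LK LD1_c3 LD2_c24 LD3_c38))))))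
theorem f12829 : Led Lsl_gt (LP (LK LD1_c7 LD2_c27 LD3_c36)) = (LP (LK LD1_c3 LD2_c43 LD3_c30)) :=
  Lre_g IH (LK LD1_c7 LD2_c27 LD3_c36) (LK LD1_c3 LD2_c43 LD3_c30) Lrfl Lrfl
theorem f108898 : Led Lsl_ct (LP (LK LD1_c13 LD2_c0 LD3_c53)) = (LP (LK LD1_c7 LD2_c27 LD3_c36)) :=
  Lgr Lrot64 (Lpr_bt (f95583 IH) (Lpr_gf (K3.f108884 IH) (Lpe (K3.f18062 IH) (Lpr_ct (K3.f11444 IH) (Lpe (K1.f18055 IH) (Lpr_cf (K2.f91220 IH) (Lpe (K2.f91138 IH) (Lpe (f12771 IH) (Lpe (f12812 IH) (Lpe (f12829 IH) (Lpn (LP (LK LD1_c7 LD2_c27 LD3_c36)))))))))))))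
theorem f95621 : Led Lsl_ft (LP (LK LD1_c6 LD2_c49 LD3_c26)) = (LP (LK LD1_c3 LD2_c44 LD3_c54)) :=
  Lgr Lrot54 (Lpe (K2.f91968 IH) (Lpr_ff (K2.f95615 IH) (Lpe (K2.f93195 IH) (Lpn (LP (LK LD1_c3 LD2_c44 LD3_c54))))))
theorem f93206 : Led Lsl_bt (LP (LK LD1_c3 LD2_c44 LD3_c54)) = (LP (LK LD1_c7 LD2_c30 LD3_c43)) :=
  Lre_b IH (LK LD1_c3 LD2_c44 LD3_c54) (LK LD1_c7 LD2_c30 LD3_c43) Lrfl Lrfl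
theorem f95623 : Led Lsl_ff (LP (LK LD1_c13 LD2_c0 LD3_c53)) = (LP (LK LD1_c7 LD2_c30 LD3_c43)) :=
  Lgr Lrot25 (Lpr_bt (f95583 IH) (Lpr_ft (f95621 IH) (Lpr_bt (f93206 IH) (Lpn (LP (LK LD1_c7 LD2_c30 LD3_c43))))))
theorem f93198 : Led Lsl_bt (LP (LK LD1_c7 LD2_c30 LD3_c43)) = (LP (LK LD1_c3 LD2_c44 LD3_c54)) :=
  Lre_b IH (LK LD1_c7 LD2_c30 LD3_c43) (LK LD1_c3 LD2_c44 LD3_c54) Lrfl Lrfl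
theorem f97675 : Led Lsl_bt (LP (LK LD1_c1 LD2_c39 LD3_c43)) = (LP (LK LD1_c0 LD2_c46 LD3_c24)) :=
  Lre_b IH (LK LD1_c1 LD2_c39 LD3_c43) (LK LD1_c0 LD2_c46 LD3_c24) Lrfl Lrfl
theorem f96315 : Led Lsl_ct (LP (LK LD1_c1 LD2_c39 LD3_c43)) = (LP (LK LD1_c3 LD2_c25 LD3_c57)) :=
  Lre_c IH (LK LD1_c1 LD2_c39 LD3_c43) (LK LD1_c3 LD2_c25 LD3_c57) Lrfl Lrfl
theorem f97676 : Led Lsl_gt (LP (LK LD1_c6 LD2_c53 LD3_c45)) = (LP (LK LD1_c3 LD2_c25 LD3_c57)) :=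
  Lre_g IH (LK LD1_c6 LD2_c53 LD3_c45) (LK LD1_c3 LD2_c25 LD3_c57) Lrfl Lrfl
theorem f97677 : Led Lsl_ct (LP (LK LD1_c7 LD2_c30 LD3_c43)) = (LP (LK LD1_c6 LD2_c53 LD3_c45)) :=
  Lgr Lrot64 (Lpr_bt (f93198 IH) (Lpe (K2.f5730 IH) (Lpe (K2.f5729 IH) (Lpr_ct (K2.f65862 IH) (Lpe (K2.f65871 IH) (Lpe (K3.f94570 IH) (Lpr_gf (K3.f97670 IH) (Lpe (f97675 IH) (Lpr_ct (f96315 IH) (Lpe (f97676 IH) (Lpn (LP (LK LD1_c6 LD2_c53 LD3_c45)))))))))))))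
theorem f97680 : Led Lsl_cf (LP (LK LD1_c7 LD2_c30 LD3_c43)) = (LP (LK LD1_c6 LD2_c53 LD3_c45)) :=
  Lgr Lrot11 (Lpr_ct (f97677 IH) (Lpn (LP (LK LD1_c6 LD2_c53 LD3_c45))))
theorem f108907 : Led Lsl_ff (LP (LK LD1_c6 LD2_c53 LD3_c45)) = (LP (LK LD1_c7 LD2_c27 LD3_c36)) :=
  Lgr Lrot23 (Lpe (f97680 IH) (Lpe (f95623 IH) (Lpr_ct (f108898 IH) (Lpn (LP (LK LD1_c7 LD2_c27 LD3_c36))))))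
theorem f12780 : Led Lsl_gt (LP (LK LD1_c3 LD2_c43 LD3_c30)) = (LP (LK LD1_c7 LD2_c27 LD3_c35)) :=
  Lre_g IH (LK LD1_c3 LD2_c43 LD3_c30) (LK LD1_c7 LD2_c27 LD3_c35) Lrfl Lrfl
theorem f108912 : Led Lsl_at (LP (LK LD1_c6 LD2_c53 LD3_c45)) = (LP (LK LD1_c7 LD2_c27 LD3_c35)) :=
  Lgr Lrot26 (Lpr_ff (f108907 IH) (Lpr_gt (f12829 IH) (Lpr_gt (f12780 IH) (Lpn (LP (LK LD1_c7 LD2_c27 LD3_c35))))))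
theorem f108914 : Led Lsl_af (LP (LK LD1_c6 LD2_c53 LD3_c45)) = (LP (LK LD1_c7 LD2_c27 LD3_c35)) :=
  Lgr Lrot0 (Lpr_at (f108912 IH) (Lpn (LP (LK LD1_c7 LD2_c27 LD3_c35))))
theorem f102388 : Led Lsl_af (LP (LK LD1_c1 LD2_c39 LD3_c25)) = (LP (LK LD1_c2 LD2_c20 LD3_c21)) :=
  Lgr Lrot31 (Lpe (K2.f91955 IH) (Lpr_gf (K2.f94778 IH) (Lpr_ft (K3.f102379 IH) (Lpn (LP (LK LD1_c2 LD2_c20 LD3_c21))))))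
theorem f102337 : Led Lsl_dt (LP (LK LD1_c3 LD2_c50 LD3_c60)) = (LP (LK LD1_c2 LD2_c20 LD3_c21)) :=
  Lgr Lrot57 (Lpe (K3.f15024 IH) (Lpe (K3.f11836 IH) (Lpr_gt (K2.f11835 IH) (Lpe (K2.f95361 IH) (Lpe (K2.f18228 IH) (Lpr_dt (K2.f90934 IH) (Lpe (K2.f90950 IH) (Lpe (K2.f66813 IH) (Lpr_gf (K3.f99091 IH) (Lpn (LP (LK LD1_c2 LD2_c20 LD3_c21))))))))))))
theorem f102394 : Led Lsl_at (LP (LK LD1_c3 LD2_c23 LD3_c39)) = (LP (LK LD1_c3 LD2_c50 LD3_c60)) :=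
  Lgr Lrot51 (Lpr_df (K2.f94684 IH) (Lpr_af (f102388 IH) (Lpe (f102337 IH) (Lpn (LP (LK LD1_c3 LD2_c50 LD3_c60))))))
theorem f94743 : Led Lsl_et (LP (LK LD1_c6 LD2_c50 LD3_c35)) = (LP (LK LD1_c3 LD2_c23 LD3_c39)) :=
  Lre_e IH (LK LD1_c6 LD2_c50 LD3_c35) (LK LD1_c3 LD2_c23 LD3_c39) Lrfl Lrfl
theorem f91866 : Led Lsl_et (LP (LK LD1_c3 LD2_c50 LD3_c60)) = (LP (LK LD1_c7 LD2_c43 LD3_c8)) :=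
  Lre_e IH (LK LD1_c3 LD2_c50 LD3_c60) (LK LD1_c7 LD2_c43 LD3_c8) Lrfl Lrfl
theorem f102400 : Led Lsl_af (LP (LK LD1_c6 LD2_c50 LD3_c35)) = (LP (LK LD1_c7 LD2_c43 LD3_c8)) :=
  Lgr Lrot50 (Lpr_et (f94743 IH) (Lpr_at (f102394 IH) (Lpr_et (f91866 IH) (Lpn (LP (LK LD1_c7 LD2_c43 LD3_c8))))))
theorem f94744 : Led Lsl_et (LP (LK LD1_c1 LD2_c39 LD3_c44)) = (LP (LK LD1_c3 LD2_c26 LD3_c6)) :=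
  Lre_e IH (LK LD1_c1 LD2_c39 LD3_c44) (LK LD1_c3 LD2_c26 LD3_c6) Lrfl Lrfl
theorem f94745 : Led Lsl_cf (LP (LK LD1_c6 LD2_c50 LD3_c35)) = (LP (LK LD1_c3 LD2_c26 LD3_c6)) :=
  Lgr Lrot39 (Lpr_et (f94743 IH) (Lpr_ct (K2.f94693 IH) (Lpr_et (f94744 IH) (Lpn (LP (LK LD1_c3 LD2_c26 LD3_c6))))))
theorem f94749 : Led Lsl_ct (LP (LK LD1_c6 LD2_c50 LD3_c35)) = (LP (LK LD1_c3 LD2_c26 LD3_c6)) :=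
  Lgr Lrot59 (Lpr_cf (f94745 IH) (Lpn (LP (LK LD1_c3 LD2_c26 LD3_c6))))
theorem f91281 : Led Lsl_et (LP (LK LD1_c3 LD2_c24 LD3_c35)) = (LP (LK LD1_c6 LD2_c51 LD3_c43)) :=
  Lre_e IH (LK LD1_c3 LD2_c24 LD3_c35) (LK LD1_c6 LD2_c51 LD3_c43) Lrfl Lrfl
theorem f15034 : Led Lsl_et (LP (LK LD1_c7 LD2_c43 LD3_c8)) = (LP (LK LD1_c3 LD2_c50 LD3_c60)) :=
  Lre_e IH (LK LD1_c7 LD2_c43 LD3_c8) (LK LD1_c3 LD2_c50 LD3_c60) Lrfl Lrfl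
theorem f91857 : Led Lsl_ct (LP (LK LD1_c6 LD2_c51 LD3_c43)) = (LP (LK LD1_c7 LD2_c43 LD3_c8)) :=
  Lgr Lrot15 (Lpe (f91281 IH) (Lpr_cf (K3.f91756 IH) (Lpe (f15034 IH) (Lpn (LP (LK LD1_c7 LD2_c43 LD3_c8))))))
theorem f102404 : Led Lsl_at (LP (LK LD1_c3 LD2_c26 LD3_c6)) = (LP (LK LD1_c6 LD2_c51 LD3_c43)) :=
  Lgr Lrot107 (Lpe (f94749 IH) (Lpr_af (f102400 IH) (Lpe (f91857 IH) (Lpn (LP (LK LD1_c6 LD2_c51 LD3_c43))))))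
theorem f102406 : Led Lsl_af (LP (LK LD1_c3 LD2_c26 LD3_c6)) = (LP (LK LD1_c6 LD2_c51 LD3_c43)) :=
  Lgr Lrot0 (Lpr_at (f102404 IH) (Lpn (LP (LK LD1_c6 LD2_c51 LD3_c43))))
theorem f94765 : Led Lsl_et (LP (LK LD1_c3 LD2_c26 LD3_c6)) = (LP (LK LD1_c1 LD2_c39 LD3_c44)) :=
  Lre_e IH (LK LD1_c3 LD2_c26 LD3_c6) (LK LD1_c1 LD2_c39 LD3_c44) Lrfl Lrfl
theorem f102483 : Led Lsl_at (LP (LK LD1_c1 LD2_c39 LD3_c44)) = (LP (LK LD1_c3 LD2_c24 LD3_c35)) :=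
  Lgr Lrot80 (Lpe (f94765 IH) (Lpr_af (f102406 IH) (Lpe (f91281 IH) (Lpn (LP (LK LD1_c3 LD2_c24 LD3_c35))))))
theorem f12770 : Led Lsl_ct (LP (LK LD1_c1 LD2_c38 LD3_c45)) = (LP (LK LD1_c0 LD2_c45 LD3_c47)) :=
  Lre_c IH (LK LD1_c1 LD2_c38 LD3_c45) (LK LD1_c0 LD2_c45 LD3_c47) Lrfl Lrfl
theorem f19159 : Led Lsl_dt (LP (LK LD1_c3 LD2_c24 LD3_c39)) = (LP (LK LD1_c1 LD2_c38 LD3_c45)) :=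
  Lre_d IH (LK LD1_c3 LD2_c24 LD3_c39) (LK LD1_c1 LD2_c38 LD3_c45) Lrfl Lrfl
theorem f102485 : Led Lsl_ff (LP (LK LD1_c1 LD2_c39 LD3_c44)) = (LP (LK LD1_c3 LD2_c24 LD3_c39)) :=
  Lgr Lrot103 (Lpr_at (f102483 IH) (Lpr_cf (K3.f91756 IH) (Lpr_df (K3.f102340 IH) (Lpe (K3.f99090 IH) (Lpe (K3.f102317 IH) (Lpe (K3.f102350 IH) (Lpr_df (K3.f98671 IH) (Lpe (f12770 IH) (Lpe (f19159 IH) (Lpn (LP (LK LD1_c3 LD2_c24 LD3_c39))))))))))))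
theorem f102494 : Led Lsl_ft (LP (LK LD1_c1 LD2_c39 LD3_c44)) = (LP (LK LD1_c3 LD2_c24 LD3_c39)) :=
  Lgr Lrot48 (Lpr_ff (f102485 IH) (Lpn (LP (LK LD1_c3 LD2_c24 LD3_c39))))
theorem f94993 : Led Lsl_bt (LP (LK LD1_c3 LD2_c26 LD3_c4)) = (LP (LK LD1_c1 LD2_c39 LD3_c44)) :=
  Lre_b IH (LK LD1_c3 LD2_c26 LD3_c4) (LK LD1_c1 LD2_c39 LD3_c44) Lrfl Lrfl
theorem f102511 : Led Lsl_bt (LP (LK LD1_c3 LD2_c24 LD3_c39)) = (LP (LK LD1_c6 LD2_c51 LD3_c46)) :=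
  Lre_b IH (LK LD1_c3 LD2_c24 LD3_c39) (LK LD1_c6 LD2_c51 LD3_c46) Lrfl Lrfl
theorem f102512 : Led Lsl_ff (LP (LK LD1_c3 LD2_c26 LD3_c4)) = (LP (LK LD1_c6 LD2_c51 LD3_c46)) :=
  Lgr Lrot25 (Lpr_bt (f94993 IH) (Lpr_ft (f102494 IH) (Lpr_bt (f102511 IH) (Lpn (LP (LK LD1_c6 LD2_c51 LD3_c46))))))
theorem f96311 : Led Lsl_dt (LP (LK LD1_c3 LD2_c26 LD3_c4)) = (LP (LK LD1_c1 LD2_c39 LD3_c43)) :=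
  Lre_d IH (LK LD1_c3 LD2_c26 LD3_c4) (LK LD1_c1 LD2_c39 LD3_c43) Lrfl Lrfl
theorem f12846 : Led Lsl_dt (LP (LK LD1_c3 LD2_c24 LD3_c38)) = (LP (LK LD1_c6 LD2_c51 LD3_c46)) :=
  Lre_d IH (LK LD1_c3 LD2_c24 LD3_c38) (LK LD1_c6 LD2_c51 LD3_c46) Lrfl Lrfl
theorem f102853 : Led Lsl_ft (LP (LK LD1_c1 LD2_c39 LD3_c43)) = (LP (LK LD1_c3 LD2_c24 LD3_c38)) :=
  Lgr Lrot54 (Lpe (f96311 IH) (Lpr_ff (f102512 IH) (Lpe (f12846 IH) (Lpn (LP (LK LD1_c3 LD2_c24 LD3_c38))))))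
theorem f102861 : Led Lsl_ff (LP (LK LD1_c1 LD2_c39 LD3_c43)) = (LP (LK LD1_c3 LD2_c24 LD3_c38)) :=
  Lgr Lrot3 (Lpr_ft (f102853 IH) (Lpn (LP (LK LD1_c3 LD2_c24 LD3_c38))))
theorem f12768 : Led Lsl_bt (LP (LK LD1_c1 LD2_c48 LD3_c50)) = (LP (LK LD1_c3 LD2_c43 LD3_c30)) :=
  Lre_b IH (LK LD1_c1 LD2_c48 LD3_c50) (LK LD1_c3 LD2_c43 LD3_c30) Lrfl Lrfl
theorem f12772 : Led Lsl_ct (LP (LK LD1_c3 LD2_c43 LD3_c30)) = (LP (LK LD1_c3 LD2_c24 LD3_c38)) :=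
  Lgr Lrot83 (Lpe (f12768 IH) (Lpr_cf (K3.f12764 IH) (Lpe (K3.f12769 IH) (Lpe (f12770 IH) (Lpe (f12771 IH) (Lpn (LP (LK LD1_c3 LD2_c24 LD3_c38))))))))
theorem f102863 : Led Lsl_ft (LP (LK LD1_c3 LD2_c25 LD3_c57)) = (LP (LK LD1_c3 LD2_c43 LD3_c30)) :=
  Lgr Lrot4 (Lpe (f96315 IH) (Lpr_ff (f102861 IH) (Lpe (f12772 IH) (Lpn (LP (LK LD1_c3 LD2_c43 LD3_c30))))))
theorem f102865 : Led Lsl_at (LP (LK LD1_c6 LD2_c53 LD3_c46)) = (LP (LK LD1_c3 LD2_c25 LD3_c57)) :=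
  Lre_a IH (LK LD1_c6 LD2_c53 LD3_c46) (LK LD1_c3 LD2_c25 LD3_c57) Lrfl Lrfl
theorem f12823 : Led Lsl_at (LP (LK LD1_c3 LD2_c43 LD3_c30)) = (LP (LK LD1_c7 LD2_c27 LD3_c37)) :=
  Lre_a IH (LK LD1_c3 LD2_c43 LD3_c30) (LK LD1_c7 LD2_c27 LD3_c37) Lrfl Lrfl
theorem f102866 : Led Lsl_ff (LP (LK LD1_c6 LD2_c53 LD3_c46)) = (LP (LK LD1_c7 LD2_c27 LD3_c37)) :=
  Lgr Lrot30 (Lpr_at (f102865 IH) (Lpr_ft (f102863 IH) (Lpr_at (f12823 IH) (Lpn (LP (LK LD1_c7 LD2_c27 LD3_c37))))))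
theorem f102887 : Led Lsl_gf (LP (LK LD1_c6 LD2_c53 LD3_c45)) = (LP (LK LD1_c7 LD2_c27 LD3_c37)) :=
  Lgr Lrot47 (Lpr_gt (f97676 IH) (Lpe (f102865 IH) (Lpr_ff (f102866 IH) (Lpn (LP (LK LD1_c7 LD2_c27 LD3_c37))))))
theorem f98615 : Led Lsl_gt (LP (LK LD1_c3 LD2_c25 LD3_c57)) = (LP (LK LD1_c6 LD2_c53 LD3_c44)) :=
  Lre_g IH (LK LD1_c3 LD2_c25 LD3_c57) (LK LD1_c6 LD2_c53 LD3_c44) Lrfl Lrfl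
theorem f102871 : Led Lsl_gt (LP (LK LD1_c6 LD2_c53 LD3_c44)) = (LP (LK LD1_c7 LD2_c27 LD3_c37)) :=
  Lgr Lrot46 (Lpe (f98615 IH) (Lpr_ft (f102863 IH) (Lpr_at (f12823 IH) (Lpn (LP (LK LD1_c7 LD2_c27 LD3_c37))))))
theorem f108934 : Led Lsl_ft (LP (LK LD1_c6 LD2_c53 LD3_c44)) = (LP (LK LD1_c7 LD2_c27 LD3_c35)) :=
  Lgr Lrot2 (Lpr_gt (f102871 IH) (Lpe (f102887 IH) (Lpr_af (f108914 IH) (Lpn (LP (LK LD1_c7 LD2_c27 LD3_c35))))))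
theorem f108938 : Led Lsl_ff (LP (LK LD1_c6 LD2_c53 LD3_c44)) = (LP (LK LD1_c7 LD2_c27 LD3_c35)) :=
  Lgr Lrot3 (Lpr_ft (f108934 IH) (Lpn (LP (LK LD1_c7 LD2_c27 LD3_c35))))
theorem f108940 : Led Lsl_at (LP (LK LD1_c6 LD2_c53 LD3_c44)) = (LP (LK LD1_c7 LD2_c27 LD3_c36)) :=
  Lgr Lrot66 (Lpr_ff (f108938 IH) (Lpe (f108912 IH) (Lpr_ff (f108907 IH) (Lpn (LP (LK LD1_c7 LD2_c27 LD3_c36))))))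
theorem f102875 : Led Lsl_et (LP (LK LD1_c13 LD2_c6 LD3_c18)) = (LP (LK LD1_c6 LD2_c53 LD3_c44)) :=
  Lre_e IH (LK LD1_c13 LD2_c6 LD3_c18) (LK LD1_c6 LD2_c53 LD3_c44) Lrfl Lrfl
theorem f108904 : Led Lsl_et (LP (LK LD1_c7 LD2_c27 LD3_c36)) = (LP (LK LD1_c14 LD2_c5 LD3_c2)) :=
  Lre_e IH (LK LD1_c7 LD2_c27 LD3_c36) (LK LD1_c14 LD2_c5 LD3_c2) Lrfl Lrfl
theorem f108944 : Led Lsl_af (LP (LK LD1_c13 LD2_c6 LD3_c18)) = (LP (LK LD1_c14 LD2_c5 LD3_c2)) :=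
  Lgr Lrot50 (Lpr_et (f102875 IH) (Lpr_at (f108940 IH) (Lpr_et (f108904 IH) (Lpn (LP (LK LD1_c14 LD2_c5 LD3_c2))))))
theorem f108946 : Led Lsl_at (LP (LK LD1_c13 LD2_c6 LD3_c18)) = (LP (LK LD1_c14 LD2_c5 LD3_c2)) :=
  Lgr Lrot100 (Lpr_af (f108944 IH) (Lpn (LP (LK LD1_c14 LD2_c5 LD3_c2))))
theorem f103616 : Led Lsl_bt (LP (LK LD1_c0 LD2_c47 LD3_c22)) = (LP (LK LD1_c1 LD2_c41 LD3_c37)) :=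
  Lre_b IH (LK LD1_c0 LD2_c47 LD3_c22) (LK LD1_c1 LD2_c41 LD3_c37) Lrfl Lrfl
theorem f103622 : Led Lsl_gt (LP (LK LD1_c3 LD2_c29 LD3_c50)) = (LP (LK LD1_c1 LD2_c41 LD3_c37)) :=
  Lre_g IH (LK LD1_c3 LD2_c29 LD3_c50) (LK LD1_c1 LD2_c41 LD3_c37) Lrfl Lrfl
theorem f103623 : Led Lsl_bt (LP (LK LD1_c7 LD2_c1 LD3_c15)) = (LP (LK LD1_c3 LD2_c29 LD3_c50)) :=
  Lre_b IH (LK LD1_c7 LD2_c1 LD3_c15) (LK LD1_c3 LD2_c29 LD3_c50) Lrfl Lrfl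
theorem f103619 : Led Lsl_bt (LP (LK LD1_c0 LD2_c51 LD3_c52)) = (LP (LK LD1_c1 LD2_c49 LD3_c60)) :=
  Lre_b IH (LK LD1_c0 LD2_c51 LD3_c52) (LK LD1_c1 LD2_c49 LD3_c60) Lrfl Lrfl
theorem f18137 : Led Lsl_bt (LP (LK LD1_c0 LD2_c47 LD3_c24)) = (LP (LK LD1_c0 LD2_c21 LD3_c12)) :=
  Lre_b IH (LK LD1_c0 LD2_c47 LD3_c24) (LK LD1_c0 LD2_c21 LD3_c12) Lrfl Lrfl
theorem f9800 : Led Lsl_bt (LP (LK LD1_c0 LD2_c46 LD3_c24)) = (LP (LK LD1_c1 LD2_c39 LD3_c43)) :=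
  Lre_b IH (LK LD1_c0 LD2_c46 LD3_c24) (LK LD1_c1 LD2_c39 LD3_c43) Lrfl Lrfl
theorem f103620 : Led Lsl_gf (LP (LK LD1_c1 LD2_c39 LD3_c43)) = (LP (LK LD1_c1 LD2_c49 LD3_c60)) :=
  Lgr Lrot124 (Lpe (f9800 IH) (Lpr_ct (K2.f14602 IH) (Lpe (K2.f90883 IH) (Lpe (K1.f11445 IH) (Lpr_bt (f18137 IH) (Lpr_gt (K1.f4467 IH) (Lpr_ct (K3.f103582 IH) (Lpe (K3.f103566 IH) (Lpr_cf (K3.f94643 IH) (Lpr_bt (f103619 IH) (Lpn (LP (LK LD1_c1 LD2_c49 LD3_c60)))))))))))))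
theorem f103624 : Led Lsl_ct (LP (LK LD1_c7 LD2_c1 LD3_c15)) = (LP (LK LD1_c6 LD2_c53 LD3_c44)) :=
  Lgr Lrot63 (Lpr_bt (f103623 IH) (Lpr_gt (f103622 IH) (Lpe (f103616 IH) (Lpr_ct (K3.f103582 IH) (Lpe (K3.f103566 IH) (Lpr_cf (K3.f94643 IH) (Lpr_bt (f103619 IH) (Lpe (f103620 IH) (Lpr_ct (f96315 IH) (Lpr_gt (f98615 IH) (Lpn (LP (LK LD1_c6 LD2_c53 LD3_c44)))))))))))))
theorem f103630 : Led Lsl_et (LP (LK LD1_c13 LD2_c19 LD3_c4)) = (LP (LK LD1_c7 LD2_c1 LD3_c15)) :=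
  Lre_e IH (LK LD1_c13 LD2_c19 LD3_c4) (LK LD1_c7 LD2_c1 LD3_c15) Lrfl Lrfl
theorem f103631 : Led Lsl_et (LP (LK LD1_c6 LD2_c53 LD3_c44)) = (LP (LK LD1_c13 LD2_c6 LD3_c18)) :=
  Lre_e IH (LK LD1_c6 LD2_c53 LD3_c44) (LK LD1_c13 LD2_c6 LD3_c18) Lrfl Lrfl
theorem f103632 : Led Lsl_cf (LP (LK LD1_c13 LD2_c19 LD3_c4)) = (LP (LK LD1_c13 LD2_c6 LD3_c18)) :=
  Lgr Lrot39 (Lpr_et (f103630 IH) (Lpr_ct (f103624 IH) (Lpr_et (f103631 IH) (Lpn (LP (LK LD1_c13 LD2_c6 LD3_c18))))))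
theorem f103636 : Led Lsl_ct (LP (LK LD1_c13 LD2_c19 LD3_c4)) = (LP (LK LD1_c13 LD2_c6 LD3_c18)) :=
  Lgr Lrot59 (Lpr_cf (f103632 IH) (Lpn (LP (LK LD1_c13 LD2_c6 LD3_c18))))
theorem f95631 : Led Lsl_et (LP (LK LD1_c22 LD2_c11 LD3_c5)) = (LP (LK LD1_c13 LD2_c0 LD3_c53)) :=
  Lre_e IH (LK LD1_c22 LD2_c11 LD3_c5) (LK LD1_c13 LD2_c0 LD3_c53) Lrfl Lrfl
theorem f108905 : Led Lsl_cf (LP (LK LD1_c22 LD2_c11 LD3_c5)) = (LP (LK LD1_c14 LD2_c5 LD3_c2)) :=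
  Lgr Lrot39 (Lpr_et (f95631 IH) (Lpr_ct (f108898 IH) (Lpr_et (f108904 IH) (Lpn (LP (LK LD1_c14 LD2_c5 LD3_c2))))))
theorem f108957 : Led Lsl_af (LP (LK LD1_c13 LD2_c19 LD3_c4)) = (LP (LK LD1_c22 LD2_c11 LD3_c5)) :=
  Lgr Lrot68 (Lpr_ct (f103636 IH) (Lpr_at (f108946 IH) (Lpe (f108905 IH) (Lpn (LP (LK LD1_c22 LD2_c11 LD3_c5))))))
theorem f103634 : Led Lsl_bt (LP (LK LD1_c13 LD2_c19 LD3_c4)) = (LP (LK LD1_c7 LD2_c1 LD3_c17)) :=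
  Lre_b IH (LK LD1_c13 LD2_c19 LD3_c4) (LK LD1_c7 LD2_c1 LD3_c17) Lrfl Lrfl
theorem f111090 : Led Lsl_af (LP (LK LD1_c12 LD2_c34 LD3_c50)) = (LP (LK LD1_c7 LD2_c1 LD3_c17)) :=
  Lgr Lrot36 (Lpr_bt (f111086 IH) (Lpr_at (f111061 IH) (Lpr_bt (f97689 IH) (Lpe (f108957 IH) (Lpr_bt (f103634 IH) (Lpn (LP (LK LD1_c7 LD2_c1 LD3_c17))))))))
theorem f111096 : Led Lsl_ct (LP (LK LD1_c12 LD2_c34 LD3_c50)) = (LP (LK LD1_c21 LD2_c41 LD3_c12)) :=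
  Lre_c IH (LK LD1_c12 LD2_c34 LD3_c50) (LK LD1_c21 LD2_c41 LD3_c12) Lrfl Lrfl
theorem f103642 : Led Lsl_ct (LP (LK LD1_c13 LD2_c19 LD3_c6)) = (LP (LK LD1_c7 LD2_c1 LD3_c17)) :=
  Lre_c IH (LK LD1_c13 LD2_c19 LD3_c6) (LK LD1_c7 LD2_c1 LD3_c17) Lrfl Lrfl
theorem f111100 : Led Lsl_at (LP (LK LD1_c21 LD2_c41 LD3_c12)) = (LP (LK LD1_c13 LD2_c19 LD3_c6)) :=
  Lgr Lrot107 (Lpe (f111096 IH) (Lpr_af (f111090 IH) (Lpe (f103642 IH) (Lpn (LP (LK LD1_c13 LD2_c19 LD3_c6))))))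
theorem f111109 : Led Lsl_et (LP (LK LD1_c12 LD2_c34 LD3_c49)) = (LP (LK LD1_c21 LD2_c41 LD3_c12)) :=
  Lre_e IH (LK LD1_c12 LD2_c34 LD3_c49) (LK LD1_c21 LD2_c41 LD3_c12) Lrfl Lrfl
theorem f111110 : Led Lsl_et (LP (LK LD1_c13 LD2_c19 LD3_c6)) = (LP (LK LD1_c7 LD2_c1 LD3_c16)) :=
  Lre_e IH (LK LD1_c13 LD2_c19 LD3_c6) (LK LD1_c7 LD2_c1 LD3_c16) Lrfl Lrfl
theorem f111111 : Led Lsl_af (LP (LK LD1_c12 LD2_c34 LD3_c49)) = (LP (LK LD1_c7 LD2_c1 LD3_c16)) :=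
  Lgr Lrot50 (Lpr_et (f111109 IH) (Lpr_at (f111100 IH) (Lpr_et (f111110 IH) (Lpn (LP (LK LD1_c7 LD2_c1 LD3_c16))))))
theorem f111113 : Led Lsl_at (LP (LK LD1_c12 LD2_c34 LD3_c49)) = (LP (LK LD1_c7 LD2_c1 LD3_c16)) :=
  Lgr Lrot100 (Lpr_af (f111111 IH) (Lpn (LP (LK LD1_c7 LD2_c1 LD3_c16))))
theorem f94534 : Led Lsl_ct (LP (LK LD1_c6 LD2_c34 LD3_c5)) = (LP (LK LD1_c12 LD2_c34 LD3_c49)) :=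
  Lre_c IH (LK LD1_c6 LD2_c34 LD3_c5) (LK LD1_c12 LD2_c34 LD3_c49) Lrfl Lrfl
theorem f103627 : Led Lsl_ct (LP (LK LD1_c7 LD2_c1 LD3_c16)) = (LP (LK LD1_c3 LD2_c29 LD3_c50)) :=
  Lre_c IH (LK LD1_c7 LD2_c1 LD3_c16) (LK LD1_c3 LD2_c29 LD3_c50) Lrfl Lrfl
theorem f111117 : Led Lsl_af (LP (LK LD1_c6 LD2_c34 LD3_c5)) = (LP (LK LD1_c3 LD2_c29 LD3_c50)) :=
  Lgr Lrot68 (Lpr_ct (f94534 IH) (Lpr_at (f111113 IH) (Lpr_ct (f103627 IH) (Lpn (LP (LK LD1_c3 LD2_c29 LD3_c50))))))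
theorem f65362 : Led Lsl_gt (LP (LK LD1_c6 LD2_c34 LD3_c6)) = (LP (LK LD1_c3 LD2_c15 LD3_c23)) :=
  Lre_g IH (LK LD1_c6 LD2_c34 LD3_c6) (LK LD1_c3 LD2_c15 LD3_c23) Lrfl Lrfl
theorem f111123 : Led Lsl_ft (LP (LK LD1_c6 LD2_c34 LD3_c6)) = (LP (LK LD1_c3 LD2_c29 LD3_c50)) :=
  Lgr Lrot2 (Lpr_gt (f65362 IH) (Lpr_gt (f94533 IH) (Lpr_af (f111117 IH) (Lpn (LP (LK LD1_c3 LD2_c29 LD3_c50))))))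
theorem f111129 : Led Lsl_ff (LP (LK LD1_c6 LD2_c34 LD3_c6)) = (LP (LK LD1_c3 LD2_c29 LD3_c50)) :=
  Lgr Lrot3 (Lpr_ft (f111123 IH) (Lpn (LP (LK LD1_c3 LD2_c29 LD3_c50))))
theorem f103617 : Led Lsl_gt (LP (LK LD1_c1 LD2_c41 LD3_c37)) = (LP (LK LD1_c3 LD2_c29 LD3_c49)) :=
  Lre_g IH (LK LD1_c1 LD2_c41 LD3_c37) (LK LD1_c3 LD2_c29 LD3_c49) Lrfl Lrfl
theorem f111136 : Led Lsl_at (LP (LK LD1_c6 LD2_c34 LD3_c6)) = (LP (LK LD1_c3 LD2_c29 LD3_c49)) :=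
  Lgr Lrot26 (Lpr_ff (f111129 IH) (Lpr_gt (f103622 IH) (Lpr_gt (f103617 IH) (Lpn (LP (LK LD1_c3 LD2_c29 LD3_c49))))))
theorem f95627 : Led Lsl_et (LP (LK LD1_c13 LD2_c0 LD3_c53)) = (LP (LK LD1_c22 LD2_c11 LD3_c5)) :=
  Lre_e IH (LK LD1_c13 LD2_c0 LD3_c53) (LK LD1_c22 LD2_c11 LD3_c5) Lrfl Lrfl
theorem f108961 : Led Lsl_at (LP (LK LD1_c7 LD2_c1 LD3_c15)) = (LP (LK LD1_c13 LD2_c0 LD3_c53)) :=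
  Lgr Lrot80 (Lpe (f103630 IH) (Lpr_af (f108957 IH) (Lpe (f95627 IH) (Lpn (LP (LK LD1_c13 LD2_c0 LD3_c53))))))
theorem f103626 : Led Lsl_bt (LP (LK LD1_c3 LD2_c29 LD3_c50)) = (LP (LK LD1_c7 LD2_c1 LD3_c15)) :=
  Lre_b IH (LK LD1_c3 LD2_c29 LD3_c50) (LK LD1_c7 LD2_c1 LD3_c15) Lrfl Lrfl
theorem f111081 : Led Lsl_at (LP (LK LD1_c6 LD2_c34 LD3_c5)) = (LP (LK LD1_c3 LD2_c29 LD3_c50)) :=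
  Lgr Lrot67 (Lpr_bf (f111074 IH) (Lpr_af (f111057 IH) (Lpe (f95583 IH) (Lpe (f108961 IH) (Lpe (f103626 IH) (Lpn (LP (LK LD1_c3 LD2_c29 LD3_c50))))))))
theorem f111145 : Led Lsl_ff (LP (LK LD1_c6 LD2_c34 LD3_c5)) = (LP (LK LD1_c3 LD2_c29 LD3_c49)) :=
  Lgr Lrot30 (Lpr_at (f111081 IH) (Lpe (f111129 IH) (Lpr_at (f111136 IH) (Lpn (LP (LK LD1_c3 LD2_c29 LD3_c49))))))
theorem f111153 : Led Lsl_ft (LP (LK LD1_c6 LD2_c34 LD3_c5)) = (LP (LK LD1_c3 LD2_c29 LD3_c49)) :=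
  Lgr Lrot48 (Lpr_ff (f111145 IH) (Lpn (LP (LK LD1_c3 LD2_c29 LD3_c49))))
theorem f111155 : Led Lsl_bf (LP (LK LD1_c3 LD2_c45 LD3_c14)) = (LP (LK LD1_c3 LD2_c29 LD3_c49)) :=
  Lgr Lrot61 (Lpe (f111066 IH) (Lpe (f111074 IH) (Lpr_ft (f111153 IH) (Lpn (LP (LK LD1_c3 LD2_c29 LD3_c49))))))
theorem f111065 : Led Lsl_et (LP (LK LD1_c3 LD2_c45 LD3_c14)) = (LP (LK LD1_c7 LD2_c31 LD3_c15)) :=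
  Lre_e IH (LK LD1_c3 LD2_c45 LD3_c14) (LK LD1_c7 LD2_c31 LD3_c15) Lrfl Lrfl
theorem f111151 : Led Lsl_et (LP (LK LD1_c7 LD2_c1 LD3_c14)) = (LP (LK LD1_c3 LD2_c29 LD3_c49)) :=
  Lre_e IH (LK LD1_c7 LD2_c1 LD3_c14) (LK LD1_c3 LD2_c29 LD3_c49) Lrfl Lrfl
theorem f111169 : Led Lsl_bt (LP (LK LD1_c7 LD2_c31 LD3_c15)) = (LP (LK LD1_c7 LD2_c1 LD3_c14)) :=
  Lgr Lrot119 (Lpe (f111065 IH) (Lpr_bf (f111155 IH) (Lpe (f111151 IH) (Lpn (LP (LK LD1_c7 LD2_c1 LD3_c14))))))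
theorem f111177 : Led Lsl_dt (LP (LK LD1_c14 LD2_c11 LD3_c43)) = (LP (LK LD1_c7 LD2_c31 LD3_c15)) :=
  Lre_d IH (LK LD1_c14 LD2_c11 LD3_c43) (LK LD1_c7 LD2_c31 LD3_c15) Lrfl Lrfl
theorem f111178 : Led Lsl_dt (LP (LK LD1_c7 LD2_c1 LD3_c14)) = (LP (LK LD1_c13 LD2_c19 LD3_c2)) :=
  Lre_d IH (LK LD1_c7 LD2_c1 LD3_c14) (LK LD1_c13 LD2_c19 LD3_c2) Lrfl Lrfl
theorem f111179 : Led Lsl_bf (LP (LK LD1_c14 LD2_c11 LD3_c43)) = (LP (LK LD1_c13 LD2_c19 LD3_c2)) :=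
  Lgr Lrot93 (Lpr_dt (f111177 IH) (Lpr_bt (f111169 IH) (Lpr_dt (f111178 IH) (Lpn (LP (LK LD1_c13 LD2_c19 LD3_c2))))))
theorem f111187 : Led Lsl_et (LP (LK LD1_c14 LD2_c11 LD3_c43)) = (LP (LK LD1_c7 LD2_c31 LD3_c16)) :=
  Lre_e IH (LK LD1_c14 LD2_c11 LD3_c43) (LK LD1_c7 LD2_c31 LD3_c16) Lrfl Lrfl
theorem f111188 : Led Lsl_bt (LP (LK LD1_c7 LD2_c31 LD3_c16)) = (LP (LK LD1_c14 LD2_c11 LD3_c42)) :=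
  Lre_b IH (LK LD1_c7 LD2_c31 LD3_c16) (LK LD1_c14 LD2_c11 LD3_c42) Lrfl Lrfl
theorem f111189 : Led Lsl_et (LP (LK LD1_c14 LD2_c11 LD3_c42)) = (LP (LK LD1_c13 LD2_c19 LD3_c2)) :=
  Lgr Lrot74 (Lpe (f111188 IH) (Lpe (f111187 IH) (Lpr_bf (f111179 IH) (Lpn (LP (LK LD1_c13 LD2_c19 LD3_c2))))))
theorem f111200 : Led Lsl_dt (LP (LK LD1_c7 LD2_c31 LD3_c14)) = (LP (LK LD1_c14 LD2_c11 LD3_c42)) :=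
  Lre_d IH (LK LD1_c7 LD2_c31 LD3_c14) (LK LD1_c14 LD2_c11 LD3_c42) Lrfl Lrfl
theorem f111201 : Led Lsl_et (LP (LK LD1_c3 LD2_c45 LD3_c13)) = (LP (LK LD1_c7 LD2_c31 LD3_c14)) :=
  Lre_e IH (LK LD1_c3 LD2_c45 LD3_c13) (LK LD1_c7 LD2_c31 LD3_c14) Lrfl Lrfl
theorem f111202 : Led Lsl_dt (LP (LK LD1_c13 LD2_c19 LD3_c2)) = (LP (LK LD1_c7 LD2_c1 LD3_c14)) :=
  Lre_d IH (LK LD1_c13 LD2_c19 LD3_c2) (LK LD1_c7 LD2_c1 LD3_c14) Lrfl Lrfl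
theorem f111203 : Led Lsl_df (LP (LK LD1_c3 LD2_c45 LD3_c13)) = (LP (LK LD1_c3 LD2_c29 LD3_c49)) :=
  Lgr Lrot70 (Lpr_et (f111201 IH) (Lpr_dt (f111200 IH) (Lpr_et (f111189 IH) (Lpr_dt (f111202 IH) (Lpr_et (f111151 IH) (Lpn (LP (LK LD1_c3 LD2_c29 LD3_c49))))))))
theorem f95603 : Led Lsl_at (LP (LK LD1_c3 LD2_c45 LD3_c13)) = (LP (LK LD1_c7 LD2_c31 LD3_c13)) :=
  Lre_a IH (LK LD1_c3 LD2_c45 LD3_c13) (LK LD1_c7 LD2_c31 LD3_c13) Lrfl Lrfl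
theorem f111226 : Led Lsl_dt (LP (LK LD1_c7 LD2_c31 LD3_c13)) = (LP (LK LD1_c6 LD2_c34 LD3_c6)) :=
  Lgr Lrot44 (Lpe (f95603 IH) (Lpr_df (f111203 IH) (Lpe (f111136 IH) (Lpn (LP (LK LD1_c6 LD2_c34 LD3_c6))))))
theorem f111233 : Led Lsl_df (LP (LK LD1_c7 LD2_c31 LD3_c13)) = (LP (LK LD1_c6 LD2_c34 LD3_c6)) :=
  Lgr Lrot38 (Lpr_dt (f111226 IH) (Lpn (LP (LK LD1_c6 LD2_c34 LD3_c6))))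
theorem f62894 : Led Lsl_bt (LP (LK LD1_c1 LD2_c49 LD3_c45)) = (LP (LK LD1_c3 LD2_c45 LD3_c13)) :=
  Lre_b IH (LK LD1_c1 LD2_c49 LD3_c45) (LK LD1_c3 LD2_c45 LD3_c13) Lrfl Lrfl
theorem f93219 : Led Lsl_at (LP (LK LD1_c12 LD2_c33 LD3_c42)) = (LP (LK LD1_c6 LD2_c33 LD3_c11)) :=
  Lre_a IH (LK LD1_c12 LD2_c33 LD3_c42) (LK LD1_c6 LD2_c33 LD3_c11) Lrfl Lrfl
theorem f95604 : Led Lsl_bt (LP (LK LD1_c7 LD2_c31 LD3_c13)) = (LP (LK LD1_c12 LD2_c33 LD3_c42)) :=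
  Lgr Lrot62 (Lpe (f95603 IH) (Lpe (f62894 IH) (Lpr_af (K2.f95595 IH) (Lpe (K2.f93189 IH) (Lpe (f93219 IH) (Lpn (LP (LK LD1_c12 LD2_c33 LD3_c42))))))))
theorem f65363 : Led Lsl_bt (LP (LK LD1_c12 LD2_c34 LD3_c51)) = (LP (LK LD1_c6 LD2_c34 LD3_c6)) :=
  Lre_b IH (LK LD1_c12 LD2_c34 LD3_c51) (LK LD1_c6 LD2_c34 LD3_c6) Lrfl Lrfl
theorem f111276 : Led Lsl_dt (LP (LK LD1_c12 LD2_c33 LD3_c42)) = (LP (LK LD1_c12 LD2_c34 LD3_c51)) :=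
  Lgr Lrot79 (Lpe (f95604 IH) (Lpr_df (f111233 IH) (Lpe (f65363 IH) (Lpn (LP (LK LD1_c12 LD2_c34 LD3_c51))))))
theorem f93212 : Led Lsl_at (LP (LK LD1_c6 LD2_c33 LD3_c11)) = (LP (LK LD1_c12 LD2_c33 LD3_c42)) :=
  Lre_a IH (LK LD1_c6 LD2_c33 LD3_c11) (LK LD1_c12 LD2_c33 LD3_c42) Lrfl Lrfl
theorem f93207 : Led Lsl_dt (LP (LK LD1_c7 LD2_c30 LD3_c43)) = (LP (LK LD1_c6 LD2_c33 LD3_c11)) :=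
  Lgr Lrot79 (Lpe (f93206 IH) (Lpr_df (f93201 IH) (Lpe (K2.f93189 IH) (Lpn (LP (LK LD1_c6 LD2_c33 LD3_c11))))))
theorem f111278 : Led Lsl_af (LP (LK LD1_c7 LD2_c30 LD3_c43)) = (LP (LK LD1_c12 LD2_c34 LD3_c51)) :=
  Lgr Lrot117 (Lpr_dt (f93207 IH) (Lpr_at (f93212 IH) (Lpr_dt (f111276 IH) (Lpn (LP (LK LD1_c12 LD2_c34 LD3_c51))))))
theorem f93218 : Led Lsl_et (LP (LK LD1_c7 LD2_c30 LD3_c43)) = (LP (LK LD1_c14 LD2_c10 LD3_c57)) :=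
  Lre_e IH (LK LD1_c7 LD2_c30 LD3_c43) (LK LD1_c14 LD2_c10 LD3_c57) Lrfl Lrfl
theorem f111286 : Led Lsl_et (LP (LK LD1_c21 LD2_c41 LD3_c13)) = (LP (LK LD1_c12 LD2_c34 LD3_c51)) :=
  Lre_e IH (LK LD1_c21 LD2_c41 LD3_c13) (LK LD1_c12 LD2_c34 LD3_c51) Lrfl Lrfl
theorem f111290 : Led Lsl_at (LP (LK LD1_c14 LD2_c10 LD3_c57)) = (LP (LK LD1_c21 LD2_c41 LD3_c13)) :=
  Lgr Lrot80 (Lpe (f93218 IH) (Lpr_af (f111278 IH) (Lpe (f111286 IH) (Lpn (LP (LK LD1_c21 LD2_c41 LD3_c13))))))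
theorem f93214 : Led Lsl_et (LP (LK LD1_c14 LD2_c10 LD3_c57)) = (LP (LK LD1_c7 LD2_c30 LD3_c43)) :=
  Lre_e IH (LK LD1_c14 LD2_c10 LD3_c57) (LK LD1_c7 LD2_c30 LD3_c43) Lrfl Lrfl
theorem f97683 : Led Lsl_et (LP (LK LD1_c6 LD2_c53 LD3_c45)) = (LP (LK LD1_c13 LD2_c6 LD3_c20)) :=
  Lre_e IH (LK LD1_c6 LD2_c53 LD3_c45) (LK LD1_c13 LD2_c6 LD3_c20) Lrfl Lrfl
theorem f97684 : Led Lsl_cf (LP (LK LD1_c14 LD2_c10 LD3_c57)) = (LP (LK LD1_c13 LD2_c6 LD3_c20)) :=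
  Lgr Lrot39 (Lpr_et (f93214 IH) (Lpr_ct (f97677 IH) (Lpr_et (f97683 IH) (Lpn (LP (LK LD1_c13 LD2_c6 LD3_c20))))))
theorem f97698 : Led Lsl_et (LP (LK LD1_c13 LD2_c6 LD3_c20)) = (LP (LK LD1_c6 LD2_c53 LD3_c45)) :=
  Lre_e IH (LK LD1_c13 LD2_c6 LD3_c20) (LK LD1_c6 LD2_c53 LD3_c45) Lrfl Lrfl
theorem f108916 : Led Lsl_et (LP (LK LD1_c7 LD2_c27 LD3_c35)) = (LP (LK LD1_c14 LD2_c5 LD3_c1)) :=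
  Lre_e IH (LK LD1_c7 LD2_c27 LD3_c35) (LK LD1_c14 LD2_c5 LD3_c1) Lrfl Lrfl
theorem f108917 : Led Lsl_af (LP (LK LD1_c13 LD2_c6 LD3_c20)) = (LP (LK LD1_c14 LD2_c5 LD3_c1)) :=
  Lgr Lrot50 (Lpr_et (f97698 IH) (Lpr_at (f108912 IH) (Lpr_et (f108916 IH) (Lpn (LP (LK LD1_c14 LD2_c5 LD3_c1))))))
theorem f111296 : Led Lsl_cf (LP (LK LD1_c14 LD2_c5 LD3_c1)) = (LP (LK LD1_c21 LD2_c41 LD3_c13)) :=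
  Lgr Lrot1 (Lpe (f108917 IH) (Lpe (f97684 IH) (Lpr_at (f111290 IH) (Lpn (LP (LK LD1_c21 LD2_c41 LD3_c13))))))
theorem f111335 : Led Lsl_ct (LP (LK LD1_c14 LD2_c5 LD3_c1)) = (LP (LK LD1_c21 LD2_c41 LD3_c13)) :=
  Lgr Lrot59 (Lpr_cf (f111296 IH) (Lpn (LP (LK LD1_c21 LD2_c41 LD3_c13))))
theorem f111337 : Led Lsl_cf (LP (LK LD1_c7 LD2_c27 LD3_c35)) = (LP (LK LD1_c12 LD2_c34 LD3_c51)) :=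
  Lgr Lrot39 (Lpr_et (f108916 IH) (Lpr_ct (f111335 IH) (Lpr_et (f111286 IH) (Lpn (LP (LK LD1_c12 LD2_c34 LD3_c51))))))
theorem f64819 : Led Lsl_bt (LP (LK LD1_c1 LD2_c41 LD3_c25)) = (LP (LK LD1_c3 LD2_c29 LD3_c22)) :=
  Lre_b IH (LK LD1_c1 LD2_c41 LD3_c25) (LK LD1_c3 LD2_c29 LD3_c22) Lrfl Lrfl
theorem f111339 : Led Lsl_gf (LP (LK LD1_c3 LD2_c24 LD3_c38)) = (LP (LK LD1_c3 LD2_c29 LD3_c22)) :=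
  Lgr Lrot181 (Lpe (f12812 IH) (Lpr_gt (f12780 IH) (Lpr_cf (f111337 IH) (Lpr_bt (f65363 IH) (Lpr_gt (f65362 IH) (Lpe (f65178 IH) (Lpr_ct (K1.f62817 IH) (Lpr_gt (K3.f62834 IH) (Lpe (K3.f104102 IH) (Lpr_bt (f64819 IH) (Lpn (LP (LK LD1_c3 LD2_c29 LD3_c22)))))))))))))
theorem f111288 : Led Lsl_ct (LP (LK LD1_c7 LD2_c27 LD3_c35)) = (LP (LK LD1_c12 LD2_c34 LD3_c51)) :=
  Lgr Lrot111 (Lpe (f108912 IH) (Lpe (f97677 IH) (Lpr_af (f111278 IH) (Lpn (LP (LK LD1_c12 LD2_c34 LD3_c51))))))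
theorem f111280 : Led Lsl_df (LP (LK LD1_c12 LD2_c33 LD3_c42)) = (LP (LK LD1_c12 LD2_c34 LD3_c51)) :=
  Lgr Lrot38 (Lpr_dt (f111276 IH) (Lpn (LP (LK LD1_c12 LD2_c34 LD3_c51))))
theorem f90605 : Led Lsl_bt (LP (LK LD1_c1 LD2_c49 LD3_c30)) = (LP (LK LD1_c3 LD2_c44 LD3_c49)) :=
  Lre_b IH (LK LD1_c1 LD2_c49 LD3_c30) (LK LD1_c3 LD2_c44 LD3_c49) Lrfl Lrfl
theorem f93190 : Led Lsl_ct (LP (LK LD1_c3 LD2_c44 LD3_c49)) = (LP (LK LD1_c6 LD2_c33 LD3_c11)) :=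
  Lgr Lrot83 (Lpe (f90605 IH) (Lpe (K2.f90602 IH) (Lpe (K2.f90607 IH) (Lpr_cf (K2.f93186 IH) (Lpe (K2.f93189 IH) (Lpn (LP (LK LD1_c6 LD2_c33 LD3_c11))))))))
theorem f93216 : Led Lsl_at (LP (LK LD1_c7 LD2_c30 LD3_c38)) = (LP (LK LD1_c3 LD2_c44 LD3_c49)) :=
  Lre_a IH (LK LD1_c7 LD2_c30 LD3_c38) (LK LD1_c3 LD2_c44 LD3_c49) Lrfl Lrfl
theorem f93223 : Led Lsl_cf (LP (LK LD1_c7 LD2_c30 LD3_c38)) = (LP (LK LD1_c12 LD2_c33 LD3_c42)) :=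
  Lgr Lrot1 (Lpr_at (f93216 IH) (Lpr_ct (f93190 IH) (Lpr_at (f93212 IH) (Lpn (LP (LK LD1_c12 LD2_c33 LD3_c42))))))
theorem f93226 : Led Lsl_ct (LP (LK LD1_c7 LD2_c30 LD3_c38)) = (LP (LK LD1_c12 LD2_c33 LD3_c42)) :=
  Lgr Lrot59 (Lpr_cf (f93223 IH) (Lpn (LP (LK LD1_c12 LD2_c33 LD3_c42))))
theorem f13522 : Led Lsl_gt (LP (LK LD1_c3 LD2_c22 LD3_c59)) = (LP (LK LD1_c6 LD2_c49 LD3_c27)) :=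
  Lre_g IH (LK LD1_c3 LD2_c22 LD3_c59) (LK LD1_c6 LD2_c49 LD3_c27) Lrfl Lrfl
theorem f93228 : Led Lsl_at (LP (LK LD1_c3 LD2_c44 LD3_c49)) = (LP (LK LD1_c7 LD2_c30 LD3_c38)) :=
  Lre_a IH (LK LD1_c3 LD2_c44 LD3_c49) (LK LD1_c7 LD2_c30 LD3_c38) Lrfl Lrfl
theorem f95646 : Led Lsl_gt (LP (LK LD1_c6 LD2_c49 LD3_c27)) = (LP (LK LD1_c7 LD2_c30 LD3_c38)) :=
  Lgr Lrot46 (Lpe (f13522 IH) (Lpr_ft (K2.f95641 IH) (Lpr_at (f93228 IH) (Lpn (LP (LK LD1_c7 LD2_c30 LD3_c38))))))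
theorem f64626 : Led Lsl_bt (LP (LK LD1_c1 LD2_c51 LD3_c21)) = (LP (LK LD1_c3 LD2_c48 LD3_c40)) :=
  Lre_b IH (LK LD1_c1 LD2_c51 LD3_c21) (LK LD1_c3 LD2_c48 LD3_c40) Lrfl Lrfl
theorem f64627 : Led Lsl_bt (LP (LK LD1_c3 LD2_c29 LD3_c22)) = (LP (LK LD1_c1 LD2_c41 LD3_c25)) :=
  Lre_b IH (LK LD1_c3 LD2_c29 LD3_c22) (LK LD1_c1 LD2_c41 LD3_c25) Lrfl Lrfl
theorem f64628 : Led Lsl_dt (LP (LK LD1_c3 LD2_c48 LD3_c40)) = (LP (LK LD1_c3 LD2_c29 LD3_c22)) :=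
  Lgr Lrot79 (Lpe (f64626 IH) (Lpr_df (K3.f64620 IH) (Lpe (f64627 IH) (Lpn (LP (LK LD1_c3 LD2_c29 LD3_c22))))))
theorem f108681 : Led Lsl_cf (LP (LK LD1_c3 LD2_c15 LD3_c31)) = (LP (LK LD1_c1 LD2_c51 LD3_c21)) :=
  Lgr Lrot11 (Lpr_ct (K3.f108679 IH) (Lpn (LP (LK LD1_c1 LD2_c51 LD3_c21))))
theorem f18237 : Led Lsl_bt (LP (LK LD1_c0 LD2_c47 LD3_c25)) = (LP (LK LD1_c1 LD2_c41 LD3_c45)) :=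
  Lre_b IH (LK LD1_c0 LD2_c47 LD3_c25) (LK LD1_c1 LD2_c41 LD3_c45) Lrfl Lrfl
theorem f18239 : Led Lsl_bf (LP (LK LD1_c1 LD2_c41 LD3_c49)) = (LP (LK LD1_c1 LD2_c38 LD3_c48)) :=
  Lgr Lrot61 (Lpr_ft (K3.f18238 IH) (Lpr_bt (f18237 IH) (Lpr_ft (K1.f18226 IH) (Lpn (LP (LK LD1_c1 LD2_c38 LD3_c48))))))
theorem f83757 : Led Lsl_dt (LP (LK LD1_c1 LD2_c38 LD3_c5)) = (LP (LK LD1_c3 LD2_c23 LD3_c29)) :=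
  Lre_d IH (LK LD1_c1 LD2_c38 LD3_c5) (LK LD1_c3 LD2_c23 LD3_c29) Lrfl Lrfl
theorem f90578 : Led Lsl_gt (LP (LK LD1_c3 LD2_c23 LD3_c29)) = (LP (LK LD1_c3 LD2_c24 LD3_c43)) :=
  Lgr Lrot49 (Lpe (f83757 IH) (Lpe (K2.f83735 IH) (Lpe (K0.f14553 IH) (Lpr_gt (K2.f59568 IH) (Lpr_dt (K2.f90561 IH) (Lpr_gt (K2.f66809 IH) (Lpe (K2.f66739 IH) (Lpe (K2.f66697 IH) (Lpr_df (K2.f66692 IH) (Lpn (LP (LK LD1_c3 LD2_c24 LD3_c43))))))))))))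
theorem f91286 : Led Lsl_bt (LP (LK LD1_c1 LD2_c40 LD3_c3)) = (LP (LK LD1_c3 LD2_c26 LD3_c49)) :=
  Lre_b IH (LK LD1_c1 LD2_c40 LD3_c3) (LK LD1_c3 LD2_c26 LD3_c49) Lrfl Lrfl
theorem f108736 : Led Lsl_gf (LP (LK LD1_c3 LD2_c26 LD3_c49)) = (LP (LK LD1_c3 LD2_c48 LD3_c40)) :=
  Lgr Lrot124 (Lpe (f91286 IH) (Lpe (K2.f91130 IH) (Lpr_gt (f90578 IH) (Lpe (K2.f18150 IH) (Lpe (f18239 IH) (Lpr_gt (K3.f63716 IH) (Lpr_ct (K3.f93520 IH) (Lpe (K3.f93550 IH) (Lpr_cf (f108681 IH) (Lpr_bt (f64626 IH) (Lpn (LP (LK LD1_c3 LD2_c48 LD3_c40)))))))))))))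
theorem f111345 : Led Lsl_cf (LP (LK LD1_c6 LD2_c49 LD3_c27)) = (LP (LK LD1_c3 LD2_c26 LD3_c49)) :=
  Lgr Lrot169 (Lpr_gt (f95646 IH) (Lpr_ct (f93226 IH) (Lpr_df (f111280 IH) (Lpe (f111288 IH) (Lpe (f12780 IH) (Lpr_cf (f12812 IH) (Lpr_gf (f111339 IH) (Lpe (f64628 IH) (Lpe (f108736 IH) (Lpn (LP (LK LD1_c3 LD2_c26 LD3_c49))))))))))))
theorem f111347 : Led Lsl_ct (LP (LK LD1_c6 LD2_c49 LD3_c27)) = (LP (LK LD1_c3 LD2_c26 LD3_c49)) :=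
  Lgr Lrot59 (Lpr_cf (f111345 IH) (Lpn (LP (LK LD1_c3 LD2_c26 LD3_c49))))
theorem f66882 : Led Lsl_gt (LP (LK LD1_c12 LD2_c13 LD3_c52)) = (LP (LK LD1_c6 LD2_c19 LD3_c0)) :=
  Lre_g IH (LK LD1_c12 LD2_c13 LD3_c52) (LK LD1_c6 LD2_c19 LD3_c0) Lrfl Lrfl
theorem f91287 : Led Lsl_gt (LP (LK LD1_c3 LD2_c26 LD3_c49)) = (LP (LK LD1_c6 LD2_c55 LD3_c24)) :=
  Lre_g IH (LK LD1_c3 LD2_c26 LD3_c49) (LK LD1_c6 LD2_c55 LD3_c24) Lrfl Lrfl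
theorem f111359 : Led Lsl_ct (LP (LK LD1_c13 LD2_c9 LD3_c1)) = (LP (LK LD1_c6 LD2_c55 LD3_c24)) :=
  Lre_c IH (LK LD1_c13 LD2_c9 LD3_c1) (LK LD1_c6 LD2_c55 LD3_c24) Lrfl Lrfl
theorem f111360 : Led Lsl_bf (LP (LK LD1_c12 LD2_c13 LD3_c52)) = (LP (LK LD1_c13 LD2_c9 LD3_c1)) :=
  Lgr Lrot156 (Lpr_gt (f66882 IH) (Lpe (K2.f66870 IH) (Lpr_ct (K1.f66841 IH) (Lpr_gt (K2.f91950 IH) (Lpe (K2.f91952 IH) (Lpr_bt (K2.f13521 IH) (Lpr_gt (f13522 IH) (Lpr_ct (f111347 IH) (Lpr_gt (f91287 IH) (Lpe (f111359 IH) (Lpn (LP (LK LD1_c13 LD2_c9 LD3_c1)))))))))))))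
theorem f64275 : Led Lsl_bt (LP (LK LD1_c3 LD2_c30 LD3_c12)) = (LP (LK LD1_c1 LD2_c41 LD3_c47)) :=
  Lre_b IH (LK LD1_c3 LD2_c30 LD3_c12) (LK LD1_c1 LD2_c41 LD3_c47) Lrfl Lrfl
theorem f66580 : Led Lsl_bt (LP (LK LD1_c0 LD2_c47 LD3_c11)) = (LP (LK LD1_c1 LD2_c37 LD3_c58)) :=
  Lgr Lrot127 (Lpr_bf (K1.f66573 IH) (Lpn (LP (LK LD1_c1 LD2_c37 LD3_c58))))
theorem f94232 : Led Lsl_at (LP (LK LD1_c0 LD2_c9 LD3_c25)) = (LP (LK LD1_c0 LD2_c20 LD3_c43)) :=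
  Lre_a IH (LK LD1_c0 LD2_c9 LD3_c25) (LK LD1_c0 LD2_c20 LD3_c43) Lrfl Lrfl
theorem f98707 : Led Lsl_gf (LP (LK LD1_c0 LD2_c20 LD3_c43)) = (LP (LK LD1_c0 LD2_c9 LD3_c27)) :=
  Lgr Lrot76 (Lpe (f94232 IH) (Lpe (K3.f94245 IH) (Lpr_gt (K3.f98705 IH) (Lpn (LP (LK LD1_c0 LD2_c9 LD3_c27))))))
theorem f94263 : Led Lsl_ft (LP (LK LD1_c0 LD2_c9 LD3_c26)) = (LP (LK LD1_c0 LD2_c20 LD3_c43)) :=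
  Lre_f IH (LK LD1_c0 LD2_c9 LD3_c26) (LK LD1_c0 LD2_c20 LD3_c43) Lrfl Lrfl
theorem f98663 : Led Lsl_dt (LP (LK LD1_c0 LD2_c20 LD3_c43)) = (LP (LK LD1_c0 LD2_c45 LD3_c47)) :=
  Lgr Lrot60 (Lpe (f94263 IH) (Lpe (K2.f14609 IH) (Lpr_ff (K3.f98657 IH) (Lpn (LP (LK LD1_c0 LD2_c45 LD3_c47))))))
theorem f12826 : Led Lsl_bt (LP (LK LD1_c1 LD2_c38 LD3_c45)) = (LP (LK LD1_c3 LD2_c24 LD3_c38)) :=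
  Lre_b IH (LK LD1_c1 LD2_c38 LD3_c45) (LK LD1_c3 LD2_c24 LD3_c38) Lrfl Lrfl
theorem f93630 : Led Lsl_bt (LP (LK LD1_c1 LD2_c49 LD3_c60)) = (LP (LK LD1_c0 LD2_c51 LD3_c52)) :=
  Lre_b IH (LK LD1_c1 LD2_c49 LD3_c60) (LK LD1_c0 LD2_c51 LD3_c52) Lrfl Lrfl
theorem f109240 : Led Lsl_ff (LP (LK LD1_c1 LD2_c49 LD3_c60)) = (LP (LK LD1_c3 LD2_c29 LD3_c22)) :=
  Lgr Lrot25 (Lpr_bt (f93630 IH) (Lpr_ft (K3.f109238 IH) (Lpr_bt (f64819 IH) (Lpn (LP (LK LD1_c3 LD2_c29 LD3_c22))))))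
theorem f103792 : Led Lsl_at (LP (LK LD1_c1 LD2_c49 LD3_c60)) = (LP (LK LD1_c3 LD2_c45 LD3_c46)) :=
  Lre_a IH (LK LD1_c1 LD2_c49 LD3_c60) (LK LD1_c3 LD2_c45 LD3_c46) Lrfl Lrfl
theorem f111343 : Led Lsl_gt (LP (LK LD1_c3 LD2_c24 LD3_c38)) = (LP (LK LD1_c3 LD2_c45 LD3_c46)) :=
  Lgr Lrot46 (Lpr_gf (f111339 IH) (Lpe (f109240 IH) (Lpr_at (f103792 IH) (Lpn (LP (LK LD1_c3 LD2_c45 LD3_c46))))))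
theorem f91288 : Led Lsl_ct (LP (LK LD1_c6 LD2_c55 LD3_c24)) = (LP (LK LD1_c13 LD2_c9 LD3_c1)) :=
  Lre_c IH (LK LD1_c6 LD2_c55 LD3_c24) (LK LD1_c13 LD2_c9 LD3_c1) Lrfl Lrfl
theorem f111368 : Led Lsl_dt (LP (LK LD1_c3 LD2_c45 LD3_c46)) = (LP (LK LD1_c6 LD2_c55 LD3_c24)) :=
  Lgr Lrot182 (Lpe (f111343 IH) (Lpe (f12826 IH) (Lpe (K2.f12825 IH) (Lpe (f98663 IH) (Lpr_gf (f98707 IH) (Lpe (K0.f9761 IH) (Lpe (K0.f9758 IH) (Lpe (K1.f9783 IH) (Lpe (K1.f9784 IH) (Lpe (f66580 IH) (Lpr_cf (K1.f64478 IH) (Lpe (K1.f64251 IH) (Lpe (K1.f64259 IH) (Lpe (f64275 IH) (Lpe (K2.f18261 IH) (Lpe (K2.f66871 IH) (Lpe (f66882 IH) (Lpr_bf (f111360 IH) (Lpe (f91288 IH) (Lpn (LP (LK LD1_c6 LD2_c55 LD3_c24))))))))))))))))))))))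
theorem f103795 : Led Lsl_et (LP (LK LD1_c7 LD2_c32 LD3_c12)) = (LP (LK LD1_c3 LD2_c45 LD3_c46)) :=
  Lre_e IH (LK LD1_c7 LD2_c32 LD3_c12) (LK LD1_c3 LD2_c45 LD3_c46) Lrfl Lrfl
theorem f111374 : Led Lsl_dt (LP (LK LD1_c14 LD2_c12 LD3_c48)) = (LP (LK LD1_c7 LD2_c32 LD3_c12)) :=
  Lre_d IH (LK LD1_c14 LD2_c12 LD3_c48) (LK LD1_c7 LD2_c32 LD3_c12) Lrfl Lrfl
theorem f111375 : Led Lsl_et (LP (LK LD1_c6 LD2_c55 LD3_c24)) = (LP (LK LD1_c13 LD2_c9 LD3_c2)) :=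
  Lre_e IH (LK LD1_c6 LD2_c55 LD3_c24) (LK LD1_c13 LD2_c9 LD3_c2) Lrfl Lrfl
theorem f111376 : Led Lsl_dt (LP (LK LD1_c13 LD2_c9 LD3_c2)) = (LP (LK LD1_c22 LD2_c21 LD3_c27)) :=
  Lre_d IH (LK LD1_c13 LD2_c9 LD3_c2) (LK LD1_c22 LD2_c21 LD3_c27) Lrfl Lrfl
theorem f111377 : Led Lsl_ef (LP (LK LD1_c14 LD2_c12 LD3_c48)) = (LP (LK LD1_c22 LD2_c21 LD3_c27)) :=
  Lgr Lrot73 (Lpr_dt (f111374 IH) (Lpr_et (f103795 IH) (Lpr_dt (f111368 IH) (Lpr_et (f111375 IH) (Lpr_dt (f111376 IH) (Lpn (LP (LK LD1_c22 LD2_c21 LD3_c27))))))))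
theorem f111397 : Led Lsl_et (LP (LK LD1_c14 LD2_c12 LD3_c48)) = (LP (LK LD1_c22 LD2_c21 LD3_c27)) :=
  Lgr Lrot87 (Lpr_ef (f111377 IH) (Lpn (LP (LK LD1_c22 LD2_c21 LD3_c27))))
theorem f111403 : Led Lsl_at (LP (LK LD1_c7 LD2_c32 LD3_c17)) = (LP (LK LD1_c14 LD2_c12 LD3_c48)) :=
  Lre_a IH (LK LD1_c7 LD2_c32 LD3_c17) (LK LD1_c14 LD2_c12 LD3_c48) Lrfl Lrfl
theorem f111404 : Led Lsl_et (LP (LK LD1_c14 LD2_c12 LD3_c55)) = (LP (LK LD1_c7 LD2_c32 LD3_c17)) :=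
  Lre_e IH (LK LD1_c14 LD2_c12 LD3_c55) (LK LD1_c7 LD2_c32 LD3_c17) Lrfl Lrfl
theorem f111405 : Led Lsl_af (LP (LK LD1_c14 LD2_c12 LD3_c55)) = (LP (LK LD1_c22 LD2_c21 LD3_c27)) :=
  Lgr Lrot50 (Lpr_et (f111404 IH) (Lpr_at (f111403 IH) (Lpr_et (f111397 IH) (Lpn (LP (LK LD1_c22 LD2_c21 LD3_c27))))))
theorem f111413 : Led Lsl_dt (LP (LK LD1_c14 LD2_c12 LD3_c55)) = (LP (LK LD1_c7 LD2_c32 LD3_c14)) :=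
  Lre_d IH (LK LD1_c14 LD2_c12 LD3_c55) (LK LD1_c7 LD2_c32 LD3_c14) Lrfl Lrfl
theorem f111414 : Led Lsl_at (LP (LK LD1_c7 LD2_c32 LD3_c14)) = (LP (LK LD1_c13 LD2_c9 LD3_c2)) :=
  Lgr Lrot51 (Lpe (f111413 IH) (Lpr_af (f111405 IH) (Lpe (f111376 IH) (Lpn (LP (LK LD1_c13 LD2_c9 LD3_c2))))))
theorem f111421 : Led Lsl_ct (LP (LK LD1_c14 LD2_c12 LD3_c53)) = (LP (LK LD1_c7 LD2_c32 LD3_c14)) :=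
  Lre_c IH (LK LD1_c14 LD2_c12 LD3_c53) (LK LD1_c7 LD2_c32 LD3_c14) Lrfl Lrfl
theorem f111422 : Led Lsl_ct (LP (LK LD1_c13 LD2_c9 LD3_c2)) = (LP (LK LD1_c22 LD2_c21 LD3_c26)) :=
  Lre_c IH (LK LD1_c13 LD2_c9 LD3_c2) (LK LD1_c22 LD2_c21 LD3_c26) Lrfl Lrfl
theorem f111423 : Led Lsl_af (LP (LK LD1_c14 LD2_c12 LD3_c53)) = (LP (LK LD1_c22 LD2_c21 LD3_c26)) :=
  Lgr Lrot68 (Lpr_ct (f111421 IH) (Lpr_at (f111414 IH) (Lpr_ct (f111422 IH) (Lpn (LP (LK LD1_c22 LD2_c21 LD3_c26))))))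
theorem f111430 : Led Lsl_et (LP (LK LD1_c14 LD2_c12 LD3_c53)) = (LP (LK LD1_c7 LD2_c32 LD3_c13)) :=
  Lre_e IH (LK LD1_c14 LD2_c12 LD3_c53) (LK LD1_c7 LD2_c32 LD3_c13) Lrfl Lrfl
theorem f111391 : Led Lsl_et (LP (LK LD1_c13 LD2_c9 LD3_c1)) = (LP (LK LD1_c22 LD2_c21 LD3_c26)) :=
  Lre_e IH (LK LD1_c13 LD2_c9 LD3_c1) (LK LD1_c22 LD2_c21 LD3_c26) Lrfl Lrfl
theorem f111431 : Led Lsl_at (LP (LK LD1_c7 LD2_c32 LD3_c13)) = (LP (LK LD1_c13 LD2_c9 LD3_c1)) :=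
  Lgr Lrot80 (Lpe (f111430 IH) (Lpr_af (f111423 IH) (Lpe (f111391 IH) (Lpn (LP (LK LD1_c13 LD2_c9 LD3_c1))))))
theorem f111436 : Led Lsl_af (LP (LK LD1_c7 LD2_c32 LD3_c13)) = (LP (LK LD1_c13 LD2_c9 LD3_c1)) :=
  Lgr Lrot0 (Lpr_at (f111431 IH) (Lpn (LP (LK LD1_c13 LD2_c9 LD3_c1))))
theorem f93622 : Led Lsl_ct (LP (LK LD1_c7 LD2_c32 LD3_c13)) = (LP (LK LD1_c3 LD2_c45 LD3_c47)) :=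
  Lre_c IH (LK LD1_c7 LD2_c32 LD3_c13) (LK LD1_c3 LD2_c45 LD3_c47) Lrfl Lrfl
theorem f111438 : Led Lsl_at (LP (LK LD1_c3 LD2_c45 LD3_c47)) = (LP (LK LD1_c6 LD2_c55 LD3_c24)) :=
  Lgr Lrot107 (Lpe (f93622 IH) (Lpr_af (f111436 IH) (Lpe (f91288 IH) (Lpn (LP (LK LD1_c6 LD2_c55 LD3_c24))))))
theorem f93595 : Led Lsl_bt (LP (LK LD1_c3 LD2_c45 LD3_c47)) = (LP (LK LD1_c1 LD2_c49 LD3_c61)) :=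
  Lre_b IH (LK LD1_c3 LD2_c45 LD3_c47) (LK LD1_c1 LD2_c49 LD3_c61) Lrfl Lrfl
theorem f109254 : Led Lsl_ff (LP (LK LD1_c3 LD2_c45 LD3_c47)) = (LP (LK LD1_c3 LD2_c48 LD3_c40)) :=
  Lgr Lrot25 (Lpr_bt (f93595 IH) (Lpr_ft (K3.f109251 IH) (Lpr_bt (f64626 IH) (Lpn (LP (LK LD1_c3 LD2_c48 LD3_c40))))))
theorem f102441 : Led Lsl_at (LP (LK LD1_c3 LD2_c26 LD3_c3)) = (LP (LK LD1_c1 LD2_c39 LD3_c43)) :=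
  Lre_a IH (LK LD1_c3 LD2_c26 LD3_c3) (LK LD1_c1 LD2_c39 LD3_c43) Lrfl Lrfl
theorem f103648 : Led Lsl_gt (LP (LK LD1_c3 LD2_c45 LD3_c45)) = (LP (LK LD1_c1 LD2_c49 LD3_c60)) :=
  Lre_g IH (LK LD1_c3 LD2_c45 LD3_c45) (LK LD1_c1 LD2_c49 LD3_c60) Lrfl Lrfl
theorem f103649 : Led Lsl_ff (LP (LK LD1_c3 LD2_c26 LD3_c3)) = (LP (LK LD1_c3 LD2_c45 LD3_c45)) :=
  Lgr Lrot52 (Lpr_at (f102441 IH) (Lpr_gf (f103620 IH) (Lpe (f103648 IH) (Lpn (LP (LK LD1_c3 LD2_c45 LD3_c45))))))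
theorem f103660 : Led Lsl_at (LP (LK LD1_c3 LD2_c24 LD3_c38)) = (LP (LK LD1_c3 LD2_c45 LD3_c45)) :=
  Lgr Lrot66 (Lpe (f102853 IH) (Lpe (f102441 IH) (Lpr_ff (f103649 IH) (Lpn (LP (LK LD1_c3 LD2_c45 LD3_c45))))))
theorem f9801 : Led Lsl_gt (LP (LK LD1_c1 LD2_c39 LD3_c43)) = (LP (LK LD1_c3 LD2_c26 LD3_c2)) :=
  Lre_g IH (LK LD1_c1 LD2_c39 LD3_c43) (LK LD1_c3 LD2_c26 LD3_c2) Lrfl Lrfl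
theorem f103778 : Led Lsl_gt (LP (LK LD1_c3 LD2_c26 LD3_c2)) = (LP (LK LD1_c3 LD2_c45 LD3_c45)) :=
  Lgr Lrot46 (Lpe (f9801 IH) (Lpr_ft (f102853 IH) (Lpr_at (f103660 IH) (Lpn (LP (LK LD1_c3 LD2_c45 LD3_c45))))))
theorem f103780 : Led Lsl_at (LP (LK LD1_c3 LD2_c45 LD3_c46)) = (LP (LK LD1_c1 LD2_c49 LD3_c60)) :=
  Lre_a IH (LK LD1_c3 LD2_c45 LD3_c46) (LK LD1_c1 LD2_c49 LD3_c60) Lrfl Lrfl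
theorem f103781 : Led Lsl_ft (LP (LK LD1_c3 LD2_c26 LD3_c2)) = (LP (LK LD1_c3 LD2_c45 LD3_c46)) :=
  Lgr Lrot2 (Lpr_gt (f103778 IH) (Lpr_gt (f103648 IH) (Lpe (f103780 IH) (Lpn (LP (LK LD1_c3 LD2_c45 LD3_c46))))))
theorem f96316 : Led Lsl_dt (LP (LK LD1_c6 LD2_c53 LD3_c57)) = (LP (LK LD1_c3 LD2_c26 LD3_c2)) :=
  Lre_d IH (LK LD1_c6 LD2_c53 LD3_c57) (LK LD1_c3 LD2_c26 LD3_c2) Lrfl Lrfl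
theorem f111379 : Led Lsl_ff (LP (LK LD1_c6 LD2_c53 LD3_c57)) = (LP (LK LD1_c6 LD2_c55 LD3_c24)) :=
  Lgr Lrot19 (Lpr_dt (f96316 IH) (Lpr_ft (f103781 IH) (Lpr_dt (f111368 IH) (Lpn (LP (LK LD1_c6 LD2_c55 LD3_c24))))))
theorem f111444 : Led Lsl_af (LP (LK LD1_c3 LD2_c48 LD3_c40)) = (LP (LK LD1_c6 LD2_c53 LD3_c57)) :=
  Lgr Lrot45 (Lpe (f109254 IH) (Lpr_at (f111438 IH) (Lpe (f111379 IH) (Lpn (LP (LK LD1_c6 LD2_c53 LD3_c57))))))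
theorem f9802 : Led Lsl_dt (LP (LK LD1_c3 LD2_c26 LD3_c2)) = (LP (LK LD1_c6 LD2_c53 LD3_c57)) :=
  Lre_d IH (LK LD1_c3 LD2_c26 LD3_c2) (LK LD1_c6 LD2_c53 LD3_c57) Lrfl Lrfl
theorem f111452 : Led Lsl_at (LP (LK LD1_c3 LD2_c29 LD3_c22)) = (LP (LK LD1_c3 LD2_c26 LD3_c2)) :=
  Lgr Lrot51 (Lpe (f64628 IH) (Lpr_af (f111444 IH) (Lpe (f9802 IH) (Lpn (LP (LK LD1_c3 LD2_c26 LD3_c2))))))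
theorem f64814 : Led Lsl_et (LP (LK LD1_c7 LD2_c0 LD3_c22)) = (LP (LK LD1_c3 LD2_c29 LD3_c22)) :=
  Lre_e IH (LK LD1_c7 LD2_c0 LD3_c22) (LK LD1_c3 LD2_c29 LD3_c22) Lrfl Lrfl
theorem f103793 : Led Lsl_et (LP (LK LD1_c3 LD2_c26 LD3_c2)) = (LP (LK LD1_c6 LD2_c53 LD3_c58)) :=
  Lre_e IH (LK LD1_c3 LD2_c26 LD3_c2) (LK LD1_c6 LD2_c53 LD3_c58) Lrfl Lrfl
theorem f111464 : Led Lsl_af (LP (LK LD1_c7 LD2_c0 LD3_c22)) = (LP (LK LD1_c6 LD2_c53 LD3_c58)) :=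
  Lgr Lrot50 (Lpr_et (f64814 IH) (Lpr_at (f111452 IH) (Lpr_et (f103793 IH) (Lpn (LP (LK LD1_c6 LD2_c53 LD3_c58))))))
theorem f64828 : Led Lsl_dt (LP (LK LD1_c7 LD2_c0 LD3_c22)) = (LP (LK LD1_c13 LD2_c17 LD3_c32)) :=
  Lre_d IH (LK LD1_c7 LD2_c0 LD3_c22) (LK LD1_c13 LD2_c17 LD3_c32) Lrfl Lrfl
theorem f111470 : Led Lsl_dt (LP (LK LD1_c13 LD2_c6 LD3_c38)) = (LP (LK LD1_c6 LD2_c53 LD3_c58)) :=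
  Lre_d IH (LK LD1_c13 LD2_c6 LD3_c38) (LK LD1_c6 LD2_c53 LD3_c58) Lrfl Lrfl
theorem f111471 : Led Lsl_at (LP (LK LD1_c13 LD2_c17 LD3_c32)) = (LP (LK LD1_c13 LD2_c6 LD3_c38)) :=
  Lgr Lrot51 (Lpe (f64828 IH) (Lpr_af (f111464 IH) (Lpe (f111470 IH) (Lpn (LP (LK LD1_c13 LD2_c6 LD3_c38))))))
theorem f64800 : Led Lsl_bt (LP (LK LD1_c7 LD2_c0 LD3_c23)) = (LP (LK LD1_c13 LD2_c17 LD3_c32)) :=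
  Lre_b IH (LK LD1_c7 LD2_c0 LD3_c23) (LK LD1_c13 LD2_c17 LD3_c32) Lrfl Lrfl
theorem f94148 : Led Lsl_dt (LP (LK LD1_c7 LD2_c32 LD3_c7)) = (LP (LK LD1_c3 LD2_c45 LD3_c43)) :=
  Lre_d IH (LK LD1_c7 LD2_c32 LD3_c7) (LK LD1_c3 LD2_c45 LD3_c43) Lrfl Lrfl
theorem f64631 : Led Lsl_dt (LP (LK LD1_c3 LD2_c48 LD3_c41)) = (LP (LK LD1_c7 LD2_c38 LD3_c24)) :=
  Lre_d IH (LK LD1_c3 LD2_c48 LD3_c41) (LK LD1_c7 LD2_c38 LD3_c24) Lrfl Lrfl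
theorem f109276 : Led Lsl_af (LP (LK LD1_c7 LD2_c32 LD3_c7)) = (LP (LK LD1_c7 LD2_c38 LD3_c24)) :=
  Lgr Lrot117 (Lpr_dt (f94148 IH) (Lpr_at (K3.f109270 IH) (Lpr_dt (f64631 IH) (Lpn (LP (LK LD1_c7 LD2_c38 LD3_c24))))))
theorem f109290 : Led Lsl_et (LP (LK LD1_c7 LD2_c32 LD3_c7)) = (LP (LK LD1_c3 LD2_c45 LD3_c44)) :=
  Lre_e IH (LK LD1_c7 LD2_c32 LD3_c7) (LK LD1_c3 LD2_c45 LD3_c44) Lrfl Lrfl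
theorem f64632 : Led Lsl_et (LP (LK LD1_c3 LD2_c29 LD3_c23)) = (LP (LK LD1_c1 LD2_c41 LD3_c25)) :=
  Lre_e IH (LK LD1_c3 LD2_c29 LD3_c23) (LK LD1_c1 LD2_c41 LD3_c25) Lrfl Lrfl
theorem f64633 : Led Lsl_dt (LP (LK LD1_c7 LD2_c0 LD3_c23)) = (LP (LK LD1_c3 LD2_c29 LD3_c23)) :=
  Lre_d IH (LK LD1_c7 LD2_c0 LD3_c23) (LK LD1_c3 LD2_c29 LD3_c23) Lrfl Lrfl
theorem f64634 : Led Lsl_et (LP (LK LD1_c7 LD2_c38 LD3_c24)) = (LP (LK LD1_c7 LD2_c0 LD3_c23)) :=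
  Lgr Lrot71 (Lpe (f64631 IH) (Lpe (K3.f64630 IH) (Lpr_df (K3.f64620 IH) (Lpe (f64632 IH) (Lpe (f64633 IH) (Lpn (LP (LK LD1_c7 LD2_c0 LD3_c23))))))))
theorem f64803 : Led Lsl_ef (LP (LK LD1_c7 LD2_c38 LD3_c24)) = (LP (LK LD1_c7 LD2_c0 LD3_c23)) :=
  Lgr Lrot88 (Lpr_et (f64634 IH) (Lpn (LP (LK LD1_c7 LD2_c0 LD3_c23))))
theorem f109291 : Led Lsl_at (LP (LK LD1_c3 LD2_c45 LD3_c44)) = (LP (LK LD1_c7 LD2_c0 LD3_c23)) :=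
  Lgr Lrot80 (Lpe (f109290 IH) (Lpr_af (f109276 IH) (Lpr_ef (f64803 IH) (Lpn (LP (LK LD1_c7 LD2_c0 LD3_c23))))))
theorem f109295 : Led Lsl_bt (LP (LK LD1_c7 LD2_c32 LD3_c5)) = (LP (LK LD1_c3 LD2_c45 LD3_c44)) :=
  Lre_b IH (LK LD1_c7 LD2_c32 LD3_c5) (LK LD1_c3 LD2_c45 LD3_c44) Lrfl Lrfl
theorem f109296 : Led Lsl_at (LP (LK LD1_c14 LD2_c12 LD3_c28)) = (LP (LK LD1_c7 LD2_c32 LD3_c5)) :=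
  Lre_a IH (LK LD1_c14 LD2_c12 LD3_c28) (LK LD1_c7 LD2_c32 LD3_c5) Lrfl Lrfl
theorem f111477 : Led Lsl_bf (LP (LK LD1_c14 LD2_c12 LD3_c28)) = (LP (LK LD1_c13 LD2_c6 LD3_c38)) :=
  Lgr Lrot81 (Lpr_at (f109296 IH) (Lpr_bt (f109295 IH) (Lpr_at (f109291 IH) (Lpr_bt (f64800 IH) (Lpr_at (f111471 IH) (Lpn (LP (LK LD1_c13 LD2_c6 LD3_c38))))))))
theorem f111480 : Led Lsl_bt (LP (LK LD1_c14 LD2_c12 LD3_c28)) = (LP (LK LD1_c13 LD2_c6 LD3_c38)) :=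
  Lgr Lrot127 (Lpr_bf (f111477 IH) (Lpn (LP (LK LD1_c13 LD2_c6 LD3_c38))))
theorem f92467 : Led Lsl_dt (LP (LK LD1_c7 LD2_c31 LD3_c60)) = (LP (LK LD1_c14 LD2_c12 LD3_c28)) :=
  Lre_d IH (LK LD1_c7 LD2_c31 LD3_c60) (LK LD1_c14 LD2_c12 LD3_c28) Lrfl Lrfl
theorem f111483 : Led Lsl_bf (LP (LK LD1_c7 LD2_c31 LD3_c60)) = (LP (LK LD1_c6 LD2_c53 LD3_c58)) :=
  Lgr Lrot93 (Lpr_dt (f92467 IH) (Lpr_bt (f111480 IH) (Lpr_dt (f111470 IH) (Lpn (LP (LK LD1_c6 LD2_c53 LD3_c58))))))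
theorem f92455 : Led Lsl_et (LP (LK LD1_c7 LD2_c31 LD3_c60)) = (LP (LK LD1_c3 LD2_c45 LD3_c40)) :=
  Lre_e IH (LK LD1_c7 LD2_c31 LD3_c60) (LK LD1_c3 LD2_c45 LD3_c40) Lrfl Lrfl
theorem f111485 : Led Lsl_bt (LP (LK LD1_c3 LD2_c45 LD3_c40)) = (LP (LK LD1_c3 LD2_c26 LD3_c2)) :=
  Lgr Lrot119 (Lpe (f92455 IH) (Lpr_bf (f111483 IH) (Lpe (f103793 IH) (Lpn (LP (LK LD1_c3 LD2_c26 LD3_c2))))))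
theorem f89131 : Led Lsl_et (LP (LK LD1_c0 LD2_c51 LD3_c51)) = (LP (LK LD1_c1 LD2_c49 LD3_c59)) :=
  Lre_e IH (LK LD1_c0 LD2_c51 LD3_c51) (LK LD1_c1 LD2_c49 LD3_c59) Lrfl Lrfl
theorem f92355 : Led Lsl_ct (LP (LK LD1_c1 LD2_c49 LD3_c59)) = (LP (LK LD1_c1 LD2_c42 LD3_c59)) :=
  Lgr Lrot15 (Lpe (f89131 IH) (Lpr_cf (K2.f92345 IH) (Lpe (K3.f92354 IH) (Lpn (LP (LK LD1_c1 LD2_c42 LD3_c59))))))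
theorem f92402 : Led Lsl_cf (LP (LK LD1_c1 LD2_c49 LD3_c59)) = (LP (LK LD1_c1 LD2_c42 LD3_c59)) :=
  Lgr Lrot11 (Lpr_ct (f92355 IH) (Lpn (LP (LK LD1_c1 LD2_c42 LD3_c59))))
theorem f92407 : Led Lsl_bt (LP (LK LD1_c1 LD2_c49 LD3_c59)) = (LP (LK LD1_c3 LD2_c45 LD3_c42)) :=
  Lre_b IH (LK LD1_c1 LD2_c49 LD3_c59) (LK LD1_c3 LD2_c45 LD3_c42) Lrfl Lrfl
theorem f92412 : Led Lsl_bt (LP (LK LD1_c0 LD2_c48 LD3_c10)) = (LP (LK LD1_c1 LD2_c42 LD3_c59)) :=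
  Lre_b IH (LK LD1_c0 LD2_c48 LD3_c10) (LK LD1_c1 LD2_c42 LD3_c59) Lrfl Lrfl
theorem f92414 : Led Lsl_bt (LP (LK LD1_c3 LD2_c32 LD3_c38)) = (LP (LK LD1_c1 LD2_c43 LD3_c1)) :=
  Lre_b IH (LK LD1_c3 LD2_c32 LD3_c38) (LK LD1_c1 LD2_c43 LD3_c1) Lrfl Lrfl
theorem f92415 : Led Lsl_ct (LP (LK LD1_c3 LD2_c45 LD3_c42)) = (LP (LK LD1_c3 LD2_c32 LD3_c38)) :=
  Lgr Lrot83 (Lpe (f92407 IH) (Lpr_cf (f92402 IH) (Lpe (f92412 IH) (Lpe (K3.f92413 IH) (Lpe (f92414 IH) (Lpn (LP (LK LD1_c3 LD2_c32 LD3_c38))))))))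
theorem f92428 : Led Lsl_et (LP (LK LD1_c1 LD2_c49 LD3_c57)) = (LP (LK LD1_c3 LD2_c45 LD3_c42)) :=
  Lre_e IH (LK LD1_c1 LD2_c49 LD3_c57) (LK LD1_c3 LD2_c45 LD3_c42) Lrfl Lrfl
theorem f92429 : Led Lsl_et (LP (LK LD1_c3 LD2_c32 LD3_c38)) = (LP (LK LD1_c1 LD2_c42 LD3_c61)) :=
  Lre_e IH (LK LD1_c3 LD2_c32 LD3_c38) (LK LD1_c1 LD2_c42 LD3_c61) Lrfl Lrfl
theorem f92430 : Led Lsl_cf (LP (LK LD1_c1 LD2_c49 LD3_c57)) = (LP (LK LD1_c1 LD2_c42 LD3_c61)) :=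
  Lgr Lrot39 (Lpr_et (f92428 IH) (Lpr_ct (f92415 IH) (Lpr_et (f92429 IH) (Lpn (LP (LK LD1_c1 LD2_c42 LD3_c61))))))
theorem f92442 : Led Lsl_at (LP (LK LD1_c1 LD2_c49 LD3_c57)) = (LP (LK LD1_c3 LD2_c45 LD3_c40)) :=
  Lre_a IH (LK LD1_c1 LD2_c49 LD3_c57) (LK LD1_c3 LD2_c45 LD3_c40) Lrfl Lrfl
theorem f92443 : Led Lsl_at (LP (LK LD1_c3 LD2_c32 LD3_c36)) = (LP (LK LD1_c1 LD2_c42 LD3_c61)) :=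
  Lre_a IH (LK LD1_c3 LD2_c32 LD3_c36) (LK LD1_c1 LD2_c42 LD3_c61) Lrfl Lrfl
theorem f92444 : Led Lsl_ct (LP (LK LD1_c3 LD2_c45 LD3_c40)) = (LP (LK LD1_c3 LD2_c32 LD3_c36)) :=
  Lgr Lrot111 (Lpe (f92442 IH) (Lpr_cf (f92430 IH) (Lpe (f92443 IH) (Lpn (LP (LK LD1_c3 LD2_c32 LD3_c36))))))
theorem f19154 : Led Lsl_bt (LP (LK LD1_c3 LD2_c30 LD3_c3)) = (LP (LK LD1_c1 LD2_c41 LD3_c43)) :=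
  Lre_b IH (LK LD1_c3 LD2_c30 LD3_c3) (LK LD1_c1 LD2_c41 LD3_c43) Lrfl Lrfl
theorem f109449 : Led Lsl_bt (LP (LK LD1_c1 LD2_c41 LD3_c29)) = (LP (LK LD1_c0 LD2_c51 LD3_c33)) :=
  Lgr Lrot92 (Lpe (K3.f109095 IH) (Lpr_gt (K3.f19355 IH) (Lpe (K3.f5858 IH) (Lpr_bt (K3.f108208 IH) (Lpr_gt (K3.f109441 IH) (Lpr_ct (K3.f12593 IH) (Lpr_gt (K3.f108819 IH) (Lpe (K3.f108818 IH) (Lpr_bt (K3.f108792 IH) (Lpe (K3.f108796 IH) (Lpn (LP (LK LD1_c0 LD2_c51 LD3_c33)))))))))))))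
theorem f94804 : Led Lsl_bt (LP (LK LD1_c1 LD2_c41 LD3_c43)) = (LP (LK LD1_c3 LD2_c30 LD3_c3)) :=
  Lre_b IH (LK LD1_c1 LD2_c41 LD3_c43) (LK LD1_c3 LD2_c30 LD3_c3) Lrfl Lrfl
theorem f109479 : Led Lsl_ct (LP (LK LD1_c3 LD2_c30 LD3_c3)) = (LP (LK LD1_c3 LD2_c35 LD3_c39)) :=
  Lgr Lrot83 (Lpe (f94804 IH) (Lpr_cf (K3.f95324 IH) (Lpe (f109449 IH) (Lpr_cf (K3.f109477 IH) (Lpe (K3.f97131 IH) (Lpn (LP (LK LD1_c3 LD2_c35 LD3_c39))))))))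
theorem f111491 : Led Lsl_gt (LP (LK LD1_c3 LD2_c32 LD3_c36)) = (LP (LK LD1_c3 LD2_c35 LD3_c39)) :=
  Lgr Lrot65 (Lpe (f92444 IH) (Lpr_bt (f111485 IH) (Lpe (f9801 IH) (Lpe (f9800 IH) (Lpr_ct (K2.f14602 IH) (Lpe (K2.f90881 IH) (Lpe (K1.f15853 IH) (Lpe (K2.f19152 IH) (Lpe (f19154 IH) (Lpr_ct (f109479 IH) (Lpn (LP (LK LD1_c3 LD2_c35 LD3_c39)))))))))))))
theorem f15855 : Led Lsl_ct (LP (LK LD1_c3 LD2_c24 LD3_c27)) = (LP (LK LD1_c3 LD2_c24 LD3_c27)) :=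
  Lgr Lrot83 (Lpe (K2.f15852 IH) (Lpe (K2.f15851 IH) (Lpr_bf (K3.f15802 IH) (Lpe (K1.f15853 IH) (Lpe (K2.f15854 IH) (Lpn (LP (LK LD1_c3 LD2_c24 LD3_c27))))))))
theorem f111497 : Led Lsl_gf (LP (LK LD1_c3 LD2_c45 LD3_c40)) = (LP (LK LD1_c7 LD2_c0 LD3_c16)) :=
  Lgr Lrot181 (Lpr_ct (f92444 IH) (Lpr_gt (f111491 IH) (Lpe (f109479 IH) (Lpr_bt (f19154 IH) (Lpr_gt (K2.f19152 IH) (Lpe (K2.f15854 IH) (Lpr_ct (f15855 IH) (Lpe (K2.f18648 IH) (Lpe (K2.f18651 IH) (Lpe (K2.f91238 IH) (Lpn (LP (LK LD1_c7 LD2_c0 LD3_c16)))))))))))))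
theorem f111499 : Led Lsl_ff (LP (LK LD1_c1 LD2_c49 LD3_c57)) = (LP (LK LD1_c3 LD2_c29 LD3_c20)) :=
  Lgr Lrot52 (Lpr_at (f92442 IH) (Lpr_gf (f111497 IH) (Lpe (K2.f17803 IH) (Lpn (LP (LK LD1_c3 LD2_c29 LD3_c20))))))
theorem f111507 : Led Lsl_ft (LP (LK LD1_c1 LD2_c49 LD3_c57)) = (LP (LK LD1_c3 LD2_c29 LD3_c20)) :=
  Lgr Lrot48 (Lpr_ff (f111499 IH) (Lpn (LP (LK LD1_c3 LD2_c29 LD3_c20))))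
theorem f92449 : Led Lsl_dt (LP (LK LD1_c3 LD2_c45 LD3_c41)) = (LP (LK LD1_c1 LD2_c49 LD3_c57)) :=
  Lre_d IH (LK LD1_c3 LD2_c45 LD3_c41) (LK LD1_c1 LD2_c49 LD3_c57) Lrfl Lrfl
theorem f89303 : Led Lsl_bt (LP (LK LD1_c3 LD2_c48 LD3_c38)) = (LP (LK LD1_c1 LD2_c51 LD3_c20)) :=
  Lre_b IH (LK LD1_c3 LD2_c48 LD3_c38) (LK LD1_c1 LD2_c51 LD3_c20) Lrfl Lrfl
theorem f89317 : Led Lsl_dt (LP (LK LD1_c3 LD2_c29 LD3_c20)) = (LP (LK LD1_c3 LD2_c48 LD3_c38)) :=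
  Lgr Lrot79 (Lpe (K2.f17801 IH) (Lpr_df (K3.f89301 IH) (Lpe (f89303 IH) (Lpn (LP (LK LD1_c3 LD2_c48 LD3_c38))))))
theorem f111513 : Led Lsl_ff (LP (LK LD1_c3 LD2_c45 LD3_c41)) = (LP (LK LD1_c3 LD2_c48 LD3_c38)) :=
  Lgr Lrot19 (Lpr_dt (f92449 IH) (Lpr_ft (f111507 IH) (Lpr_dt (f89317 IH) (Lpn (LP (LK LD1_c3 LD2_c48 LD3_c38))))))
theorem f89128 : Led Lsl_ct (LP (LK LD1_c3 LD2_c45 LD3_c41)) = (LP (LK LD1_c7 LD2_c32 LD3_c1)) :=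
  Lre_c IH (LK LD1_c3 LD2_c45 LD3_c41) (LK LD1_c7 LD2_c32 LD3_c1) Lrfl Lrfl
theorem f89304 : Led Lsl_ct (LP (LK LD1_c7 LD2_c38 LD3_c16)) = (LP (LK LD1_c3 LD2_c48 LD3_c38)) :=
  Lre_c IH (LK LD1_c7 LD2_c38 LD3_c16) (LK LD1_c3 LD2_c48 LD3_c38) Lrfl Lrfl
theorem f111522 : Led Lsl_ft (LP (LK LD1_c7 LD2_c32 LD3_c1)) = (LP (LK LD1_c7 LD2_c38 LD3_c16)) :=
  Lgr Lrot4 (Lpe (f89128 IH) (Lpr_ff (f111513 IH) (Lpe (f89304 IH) (Lpn (LP (LK LD1_c7 LD2_c38 LD3_c16))))))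
theorem f111527 : Led Lsl_ff (LP (LK LD1_c7 LD2_c32 LD3_c1)) = (LP (LK LD1_c7 LD2_c38 LD3_c16)) :=
  Lgr Lrot3 (Lpr_ft (f111522 IH) (Lpn (LP (LK LD1_c7 LD2_c38 LD3_c16))))
theorem f94135 : Led Lsl_bt (LP (LK LD1_c1 LD2_c49 LD3_c58)) = (LP (LK LD1_c3 LD2_c45 LD3_c41)) :=
  Lre_b IH (LK LD1_c1 LD2_c49 LD3_c58) (LK LD1_c3 LD2_c45 LD3_c41) Lrfl Lrfl
theorem f66275 : Led Lsl_bt (LP (LK LD1_c6 LD2_c36 LD3_c52)) = (LP (LK LD1_c3 LD2_c16 LD3_c46)) :=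
  Lre_b IH (LK LD1_c6 LD2_c36 LD3_c52) (LK LD1_c3 LD2_c16 LD3_c46) Lrfl Lrfl
theorem f94136 : Led Lsl_ct (LP (LK LD1_c12 LD2_c39 LD3_c32)) = (LP (LK LD1_c6 LD2_c36 LD3_c52)) :=
  Lre_c IH (LK LD1_c12 LD2_c39 LD3_c32) (LK LD1_c6 LD2_c36 LD3_c52) Lrfl Lrfl
theorem f94137 : Led Lsl_bt (LP (LK LD1_c7 LD2_c32 LD3_c1)) = (LP (LK LD1_c12 LD2_c39 LD3_c32)) :=
  Lgr Lrot128 (Lpe (f89128 IH) (Lpe (f94135 IH) (Lpr_cf (K3.f94132 IH) (Lpe (f66275 IH) (Lpe (f94136 IH) (Lpn (LP (LK LD1_c12 LD2_c39 LD3_c32))))))))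
theorem f96711 : Led Lsl_bt (LP (LK LD1_c3 LD2_c15 LD3_c28)) = (LP (LK LD1_c6 LD2_c34 LD3_c14)) :=
  Lre_b IH (LK LD1_c3 LD2_c15 LD3_c28) (LK LD1_c6 LD2_c34 LD3_c14) Lrfl Lrfl
theorem f65610 : Led Lsl_ct (LP (LK LD1_c6 LD2_c34 LD3_c14)) = (LP (LK LD1_c12 LD2_c35 LD3_c0)) :=
  Lre_c IH (LK LD1_c6 LD2_c34 LD3_c14) (LK LD1_c12 LD2_c35 LD3_c0) Lrfl Lrfl
theorem f96712 : Led Lsl_bf (LP (LK LD1_c7 LD2_c38 LD3_c16)) = (LP (LK LD1_c12 LD2_c35 LD3_c0)) :=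
  Lgr Lrot90 (Lpr_ct (f89304 IH) (Lpr_bt (f89303 IH) (Lpr_ct (K3.f96186 IH) (Lpr_bt (f96711 IH) (Lpr_ct (f65610 IH) (Lpn (LP (LK LD1_c12 LD2_c35 LD3_c0))))))))
theorem f111529 : Led Lsl_ft (LP (LK LD1_c12 LD2_c39 LD3_c32)) = (LP (LK LD1_c12 LD2_c35 LD3_c0)) :=
  Lgr Lrot75 (Lpe (f94137 IH) (Lpr_ff (f111527 IH) (Lpr_bf (f96712 IH) (Lpn (LP (LK LD1_c12 LD2_c35 LD3_c0))))))
theorem f111534 : Led Lsl_ff (LP (LK LD1_c12 LD2_c39 LD3_c32)) = (LP (LK LD1_c12 LD2_c35 LD3_c0)) :=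
  Lgr Lrot3 (Lpr_ft (f111529 IH) (Lpn (LP (LK LD1_c12 LD2_c35 LD3_c0))))
theorem f111538 : Led Lsl_ft (LP (LK LD1_c6 LD2_c36 LD3_c52)) = (LP (LK LD1_c6 LD2_c34 LD3_c14)) :=
  Lgr Lrot4 (Lpe (f94136 IH) (Lpr_ff (f111534 IH) (Lpe (f65610 IH) (Lpn (LP (LK LD1_c6 LD2_c34 LD3_c14))))))
theorem f65670 : Led Lsl_bt (LP (LK LD1_c1 LD2_c49 LD3_c51)) = (LP (LK LD1_c3 LD2_c45 LD3_c23)) :=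
  Lre_b IH (LK LD1_c1 LD2_c49 LD3_c51) (LK LD1_c3 LD2_c45 LD3_c23) Lrfl Lrfl
theorem f96287 : Led Lsl_dt (LP (LK LD1_c3 LD2_c45 LD3_c23)) = (LP (LK LD1_c6 LD2_c36 LD3_c52)) :=
  Lgr Lrot79 (Lpe (f65670 IH) (Lpr_df (K3.f96230 IH) (Lpe (f66275 IH) (Lpn (LP (LK LD1_c6 LD2_c36 LD3_c52))))))
theorem f65613 : Led Lsl_dt (LP (LK LD1_c6 LD2_c34 LD3_c14)) = (LP (LK LD1_c3 LD2_c15 LD3_c27)) :=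
  Lre_d IH (LK LD1_c6 LD2_c34 LD3_c14) (LK LD1_c3 LD2_c15 LD3_c27) Lrfl Lrfl
theorem f111543 : Led Lsl_ff (LP (LK LD1_c3 LD2_c45 LD3_c23)) = (LP (LK LD1_c3 LD2_c15 LD3_c27)) :=
  Lgr Lrot19 (Lpr_dt (f96287 IH) (Lpr_ft (f111538 IH) (Lpr_dt (f65613 IH) (Lpn (LP (LK LD1_c3 LD2_c15 LD3_c27))))))
theorem f111551 : Led Lsl_ft (LP (LK LD1_c3 LD2_c45 LD3_c23)) = (LP (LK LD1_c3 LD2_c15 LD3_c27)) :=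
  Lgr Lrot48 (Lpr_ff (f111543 IH) (Lpn (LP (LK LD1_c3 LD2_c15 LD3_c27))))
theorem f65606 : Led Lsl_bt (LP (LK LD1_c3 LD2_c15 LD3_c27)) = (LP (LK LD1_c1 LD2_c34 LD3_c29)) :=
  Lre_b IH (LK LD1_c3 LD2_c15 LD3_c27) (LK LD1_c1 LD2_c34 LD3_c29) Lrfl Lrfl
theorem f111555 : Led Lsl_ff (LP (LK LD1_c1 LD2_c49 LD3_c51)) = (LP (LK LD1_c1 LD2_c34 LD3_c29)) :=
  Lgr Lrot25 (Lpr_bt (f65670 IH) (Lpr_ft (f111551 IH) (Lpr_bt (f65606 IH) (Lpn (LP (LK LD1_c1 LD2_c34 LD3_c29))))))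
theorem f111562 : Led Lsl_ft (LP (LK LD1_c3 LD2_c16 LD3_c46)) = (LP (LK LD1_c3 LD2_c15 LD3_c28)) :=
  Lgr Lrot54 (Lpr_df (K3.f96190 IH) (Lpr_ff (f111555 IH) (Lpe (K3.f65571 IH) (Lpn (LP (LK LD1_c3 LD2_c15 LD3_c28))))))
theorem f96714 : Led Lsl_cf (LP (LK LD1_c1 LD2_c51 LD3_c20)) = (LP (LK LD1_c3 LD2_c15 LD3_c28)) :=
  Lgr Lrot11 (Lpr_ct (K3.f96186 IH) (Lpn (LP (LK LD1_c3 LD2_c15 LD3_c28))))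
theorem f111567 : Led Lsl_ff (LP (LK LD1_c1 LD2_c49 LD3_c58)) = (LP (LK LD1_c1 LD2_c51 LD3_c20)) :=
  Lgr Lrot23 (Lpr_ct (K3.f94139 IH) (Lpr_ft (f111562 IH) (Lpe (f96714 IH) (Lpn (LP (LK LD1_c1 LD2_c51 LD3_c20))))))
theorem f94157 : Led Lsl_ft (LP (LK LD1_c3 LD2_c45 LD3_c43)) = (LP (LK LD1_c7 LD2_c32 LD3_c8)) :=
  Lre_f IH (LK LD1_c3 LD2_c45 LD3_c43) (LK LD1_c7 LD2_c32 LD3_c8) Lrfl Lrfl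
theorem f89308 : Led Lsl_et (LP (LK LD1_c3 LD2_c48 LD3_c39)) = (LP (LK LD1_c1 LD2_c51 LD3_c20)) :=
  Lre_e IH (LK LD1_c3 LD2_c48 LD3_c39) (LK LD1_c1 LD2_c51 LD3_c20) Lrfl Lrfl
theorem f111577 : Led Lsl_ft (LP (LK LD1_c7 LD2_c38 LD3_c21)) = (LP (LK LD1_c3 LD2_c48 LD3_c39)) :=
  Lre_f IH (LK LD1_c7 LD2_c38 LD3_c21) (LK LD1_c3 LD2_c48 LD3_c39) Lrfl Lrfl
theorem f111578 : Led Lsl_et (LP (LK LD1_c7 LD2_c32 LD3_c8)) = (LP (LK LD1_c7 LD2_c38 LD3_c21)) :=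
  Lgr Lrot69 (Lpe (f94157 IH) (Lpe (K3.f92376 IH) (Lpr_ff (f111567 IH) (Lpe (f89308 IH) (Lpe (f111577 IH) (Lpn (LP (LK LD1_c7 LD2_c38 LD3_c21))))))))
theorem f111584 : Led Lsl_ef (LP (LK LD1_c7 LD2_c32 LD3_c8)) = (LP (LK LD1_c7 LD2_c38 LD3_c21)) :=
  Lgr Lrot88 (Lpr_et (f111578 IH) (Lpn (LP (LK LD1_c7 LD2_c38 LD3_c21))))
theorem f94149 : Led Lsl_ft (LP (LK LD1_c7 LD2_c32 LD3_c8)) = (LP (LK LD1_c3 LD2_c45 LD3_c43)) :=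
  Lre_f IH (LK LD1_c7 LD2_c32 LD3_c8) (LK LD1_c3 LD2_c45 LD3_c43) Lrfl Lrfl
theorem f108735 : Led Lsl_ft (LP (LK LD1_c3 LD2_c48 LD3_c41)) = (LP (LK LD1_c7 LD2_c38 LD3_c25)) :=
  Lre_f IH (LK LD1_c3 LD2_c48 LD3_c41) (LK LD1_c7 LD2_c38 LD3_c25) Lrfl Lrfl
theorem f109278 : Led Lsl_af (LP (LK LD1_c7 LD2_c32 LD3_c8)) = (LP (LK LD1_c7 LD2_c38 LD3_c25)) :=
  Lgr Lrot45 (Lpr_ft (f94149 IH) (Lpr_at (K3.f109270 IH) (Lpr_ft (f108735 IH) (Lpn (LP (LK LD1_c7 LD2_c38 LD3_c25))))))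
theorem f109280 : Led Lsl_at (LP (LK LD1_c7 LD2_c32 LD3_c8)) = (LP (LK LD1_c7 LD2_c38 LD3_c25)) :=
  Lgr Lrot100 (Lpr_af (f109278 IH) (Lpn (LP (LK LD1_c7 LD2_c38 LD3_c25))))
theorem f93605 : Led Lsl_et (LP (LK LD1_c3 LD2_c45 LD3_c49)) = (LP (LK LD1_c1 LD2_c49 LD3_c61)) :=
  Lre_e IH (LK LD1_c3 LD2_c45 LD3_c49) (LK LD1_c1 LD2_c49 LD3_c61) Lrfl Lrfl
theorem f109258 : Led Lsl_ft (LP (LK LD1_c7 LD2_c32 LD3_c22)) = (LP (LK LD1_c3 LD2_c45 LD3_c49)) :=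
  Lre_f IH (LK LD1_c7 LD2_c32 LD3_c22) (LK LD1_c3 LD2_c45 LD3_c49) Lrfl Lrfl
theorem f109259 : Led Lsl_ef (LP (LK LD1_c7 LD2_c32 LD3_c22)) = (LP (LK LD1_c7 LD2_c38 LD3_c25)) :=
  Lgr Lrot21 (Lpr_ft (f109258 IH) (Lpr_et (f93605 IH) (Lpr_ft (K3.f109251 IH) (Lpr_et (K3.f64630 IH) (Lpr_ft (f108735 IH) (Lpn (LP (LK LD1_c7 LD2_c38 LD3_c25))))))))
theorem f111586 : Led Lsl_at (LP (LK LD1_c7 LD2_c32 LD3_c22)) = (LP (LK LD1_c7 LD2_c38 LD3_c21)) :=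
  Lgr Lrot80 (Lpr_ef (f109259 IH) (Lpe (f109280 IH) (Lpr_ef (f111584 IH) (Lpn (LP (LK LD1_c7 LD2_c38 LD3_c21))))))
theorem f111596 : Led Lsl_ft (LP (LK LD1_c3 LD2_c45 LD3_c49)) = (LP (LK LD1_c7 LD2_c32 LD3_c22)) :=
  Lre_f IH (LK LD1_c3 LD2_c45 LD3_c49) (LK LD1_c7 LD2_c32 LD3_c22) Lrfl Lrfl
theorem f111650 : Led Lsl_af (LP (LK LD1_c3 LD2_c45 LD3_c49)) = (LP (LK LD1_c3 LD2_c48 LD3_c39)) :=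
  Lgr Lrot45 (Lpr_ft (f111596 IH) (Lpr_at (f111586 IH) (Lpr_ft (f111577 IH) (Lpn (LP (LK LD1_c3 LD2_c48 LD3_c39))))))
theorem f93606 : Led Lsl_dt (LP (LK LD1_c3 LD2_c45 LD3_c49)) = (LP (LK LD1_c7 LD2_c32 LD3_c21)) :=
  Lre_d IH (LK LD1_c3 LD2_c45 LD3_c49) (LK LD1_c7 LD2_c32 LD3_c21) Lrfl Lrfl
theorem f89319 : Led Lsl_dt (LP (LK LD1_c7 LD2_c38 LD3_c20)) = (LP (LK LD1_c3 LD2_c48 LD3_c39)) :=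
  Lre_d IH (LK LD1_c7 LD2_c38 LD3_c20) (LK LD1_c3 LD2_c48 LD3_c39) Lrfl Lrfl
theorem f111661 : Led Lsl_at (LP (LK LD1_c7 LD2_c32 LD3_c21)) = (LP (LK LD1_c7 LD2_c38 LD3_c20)) :=
  Lgr Lrot51 (Lpe (f93606 IH) (Lpr_af (f111650 IH) (Lpe (f89319 IH) (Lpn (LP (LK LD1_c7 LD2_c38 LD3_c20))))))
theorem f111681 : Led Lsl_et (LP (LK LD1_c3 LD2_c45 LD3_c50)) = (LP (LK LD1_c7 LD2_c32 LD3_c21)) :=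
  Lre_e IH (LK LD1_c3 LD2_c45 LD3_c50) (LK LD1_c7 LD2_c32 LD3_c21) Lrfl Lrfl
theorem f17938 : Led Lsl_et (LP (LK LD1_c1 LD2_c41 LD3_c24)) = (LP (LK LD1_c3 LD2_c29 LD3_c21)) :=
  Lre_e IH (LK LD1_c1 LD2_c41 LD3_c24) (LK LD1_c3 LD2_c29 LD3_c21) Lrfl Lrfl
theorem f17812 : Led Lsl_dt (LP (LK LD1_c3 LD2_c29 LD3_c21)) = (LP (LK LD1_c7 LD2_c0 LD3_c20)) :=
  Lre_d IH (LK LD1_c3 LD2_c29 LD3_c21) (LK LD1_c7 LD2_c0 LD3_c20) Lrfl Lrfl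
theorem f89320 : Led Lsl_et (LP (LK LD1_c7 LD2_c0 LD3_c20)) = (LP (LK LD1_c7 LD2_c38 LD3_c20)) :=
  Lgr Lrot71 (Lpe (f17812 IH) (Lpe (f17938 IH) (Lpr_df (K3.f89301 IH) (Lpe (f89308 IH) (Lpe (f89319 IH) (Lpn (LP (LK LD1_c7 LD2_c38 LD3_c20))))))))
theorem f89516 : Led Lsl_ef (LP (LK LD1_c7 LD2_c0 LD3_c20)) = (LP (LK LD1_c7 LD2_c38 LD3_c20)) :=
  Lgr Lrot88 (Lpr_et (f89320 IH) (Lpn (LP (LK LD1_c7 LD2_c38 LD3_c20))))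
theorem f111682 : Led Lsl_af (LP (LK LD1_c3 LD2_c45 LD3_c50)) = (LP (LK LD1_c7 LD2_c0 LD3_c20)) :=
  Lgr Lrot50 (Lpr_et (f111681 IH) (Lpr_at (f111661 IH) (Lpe (f89516 IH) (Lpn (LP (LK LD1_c7 LD2_c0 LD3_c20))))))
theorem f111703 : Led Lsl_ft (LP (LK LD1_c3 LD2_c45 LD3_c50)) = (LP (LK LD1_c7 LD2_c32 LD3_c25)) :=
  Lre_f IH (LK LD1_c3 LD2_c45 LD3_c50) (LK LD1_c7 LD2_c32 LD3_c25) Lrfl Lrfl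
theorem f17838 : Led Lsl_ft (LP (LK LD1_c13 LD2_c17 LD3_c29)) = (LP (LK LD1_c7 LD2_c0 LD3_c20)) :=
  Lre_f IH (LK LD1_c13 LD2_c17 LD3_c29) (LK LD1_c7 LD2_c0 LD3_c20) Lrfl Lrfl
theorem f111704 : Led Lsl_at (LP (LK LD1_c7 LD2_c32 LD3_c25)) = (LP (LK LD1_c13 LD2_c17 LD3_c29)) :=
  Lgr Lrot66 (Lpe (f111703 IH) (Lpr_af (f111682 IH) (Lpe (f17838 IH) (Lpn (LP (LK LD1_c13 LD2_c17 LD3_c29))))))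
theorem f111725 : Led Lsl_dt (LP (LK LD1_c3 LD2_c45 LD3_c51)) = (LP (LK LD1_c7 LD2_c32 LD3_c25)) :=
  Lre_d IH (LK LD1_c3 LD2_c45 LD3_c51) (LK LD1_c7 LD2_c32 LD3_c25) Lrfl Lrfl
theorem f17836 : Led Lsl_dt (LP (LK LD1_c13 LD2_c17 LD3_c29)) = (LP (LK LD1_c7 LD2_c0 LD3_c21)) :=
  Lre_d IH (LK LD1_c13 LD2_c17 LD3_c29) (LK LD1_c7 LD2_c0 LD3_c21) Lrfl Lrfl
theorem f111726 : Led Lsl_af (LP (LK LD1_c3 LD2_c45 LD3_c51)) = (LP (LK LD1_c7 LD2_c0 LD3_c21)) :=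
  Lgr Lrot117 (Lpr_dt (f111725 IH) (Lpr_at (f111704 IH) (Lpr_dt (f17836 IH) (Lpn (LP (LK LD1_c7 LD2_c0 LD3_c21))))))
theorem f111803 : Led Lsl_bt (LP (LK LD1_c3 LD2_c45 LD3_c51)) = (LP (LK LD1_c7 LD2_c32 LD3_c18)) :=
  Lre_b IH (LK LD1_c3 LD2_c45 LD3_c51) (LK LD1_c7 LD2_c32 LD3_c18) Lrfl Lrfl
theorem f103808 : Led Lsl_at (LP (LK LD1_c7 LD2_c32 LD3_c18)) = (LP (LK LD1_c14 LD2_c12 LD3_c49)) :=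
  Lre_a IH (LK LD1_c7 LD2_c32 LD3_c18) (LK LD1_c14 LD2_c12 LD3_c49) Lrfl Lrfl
theorem f17831 : Led Lsl_bt (LP (LK LD1_c13 LD2_c17 LD3_c27)) = (LP (LK LD1_c7 LD2_c0 LD3_c21)) :=
  Lre_b IH (LK LD1_c13 LD2_c17 LD3_c27) (LK LD1_c7 LD2_c0 LD3_c21) Lrfl Lrfl
theorem f17852 : Led Lsl_at (LP (LK LD1_c22 LD2_c33 LD3_c11)) = (LP (LK LD1_c13 LD2_c17 LD3_c27)) :=
  Lre_a IH (LK LD1_c22 LD2_c33 LD3_c11) (LK LD1_c13 LD2_c17 LD3_c27) Lrfl Lrfl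
theorem f111804 : Led Lsl_bt (LP (LK LD1_c14 LD2_c12 LD3_c49)) = (LP (LK LD1_c22 LD2_c33 LD3_c11)) :=
  Lgr Lrot62 (Lpe (f103808 IH) (Lpe (f111803 IH) (Lpr_af (f111726 IH) (Lpe (f17831 IH) (Lpe (f17852 IH) (Lpn (LP (LK LD1_c22 LD2_c33 LD3_c11))))))))
theorem f103787 : Led Lsl_ft (LP (LK LD1_c7 LD2_c32 LD3_c12)) = (LP (LK LD1_c14 LD2_c12 LD3_c49)) :=
  Lre_f IH (LK LD1_c7 LD2_c32 LD3_c12) (LK LD1_c14 LD2_c12 LD3_c49) Lrfl Lrfl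
theorem f17887 : Led Lsl_ft (LP (LK LD1_c22 LD2_c33 LD3_c11)) = (LP (LK LD1_c13 LD2_c17 LD3_c23)) :=
  Lre_f IH (LK LD1_c22 LD2_c33 LD3_c11) (LK LD1_c13 LD2_c17 LD3_c23) Lrfl Lrfl
theorem f111808 : Led Lsl_bf (LP (LK LD1_c7 LD2_c32 LD3_c12)) = (LP (LK LD1_c13 LD2_c17 LD3_c23)) :=
  Lgr Lrot61 (Lpr_ft (f103787 IH) (Lpr_bt (f111804 IH) (Lpr_ft (f17887 IH) (Lpn (LP (LK LD1_c13 LD2_c17 LD3_c23))))))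
theorem f111814 : Led Lsl_bt (LP (LK LD1_c7 LD2_c32 LD3_c12)) = (LP (LK LD1_c13 LD2_c17 LD3_c23)) :=
  Lgr Lrot127 (Lpr_bf (f111808 IH) (Lpn (LP (LK LD1_c13 LD2_c17 LD3_c23))))
theorem f103786 : Led Lsl_et (LP (LK LD1_c3 LD2_c45 LD3_c46)) = (LP (LK LD1_c7 LD2_c32 LD3_c12)) :=
  Lre_e IH (LK LD1_c3 LD2_c45 LD3_c46) (LK LD1_c7 LD2_c32 LD3_c12) Lrfl Lrfl
theorem f17918 : Led Lsl_et (LP (LK LD1_c13 LD2_c17 LD3_c23)) = (LP (LK LD1_c7 LD2_c0 LD3_c18)) :=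
  Lre_e IH (LK LD1_c13 LD2_c17 LD3_c23) (LK LD1_c7 LD2_c0 LD3_c18) Lrfl Lrfl
theorem f111822 : Led Lsl_bf (LP (LK LD1_c3 LD2_c45 LD3_c46)) = (LP (LK LD1_c7 LD2_c0 LD3_c18)) :=
  Lgr Lrot96 (Lpr_et (f103786 IH) (Lpr_bt (f111814 IH) (Lpr_et (f17918 IH) (Lpn (LP (LK LD1_c7 LD2_c0 LD3_c18))))))
theorem f89518 : Led Lsl_et (LP (LK LD1_c22 LD2_c33 LD3_c22)) = (LP (LK LD1_c13 LD2_c17 LD3_c29)) :=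
  Lre_e IH (LK LD1_c22 LD2_c33 LD3_c22) (LK LD1_c13 LD2_c17 LD3_c29) Lrfl Lrfl
theorem f89519 : Led Lsl_ft (LP (LK LD1_c7 LD2_c38 LD3_c20)) = (LP (LK LD1_c14 LD2_c23 LD3_c42)) :=
  Lre_f IH (LK LD1_c7 LD2_c38 LD3_c20) (LK LD1_c14 LD2_c23 LD3_c42) Lrfl Lrfl
theorem f89520 : Led Lsl_et (LP (LK LD1_c14 LD2_c23 LD3_c42)) = (LP (LK LD1_c24 LD2_c2 LD3_c15)) :=
  Lre_e IH (LK LD1_c14 LD2_c23 LD3_c42) (LK LD1_c24 LD2_c2 LD3_c15) Lrfl Lrfl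
theorem f89521 : Led Lsl_ff (LP (LK LD1_c22 LD2_c33 LD3_c22)) = (LP (LK LD1_c24 LD2_c2 LD3_c15)) :=
  Lgr Lrot72 (Lpr_et (f89518 IH) (Lpr_ft (f17838 IH) (Lpr_et (f89320 IH) (Lpr_ft (f89519 IH) (Lpr_et (f89520 IH) (Lpn (LP (LK LD1_c24 LD2_c2 LD3_c15))))))))
theorem f89530 : Led Lsl_ft (LP (LK LD1_c22 LD2_c33 LD3_c22)) = (LP (LK LD1_c24 LD2_c2 LD3_c15)) :=
  Lgr Lrot48 (Lpr_ff (f89521 IH) (Lpn (LP (LK LD1_c24 LD2_c2 LD3_c15))))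
theorem f89532 : Led Lsl_bt (LP (LK LD1_c30 LD2_c34 LD3_c29)) = (LP (LK LD1_c22 LD2_c33 LD3_c22)) :=
  Lre_b IH (LK LD1_c30 LD2_c34 LD3_c29) (LK LD1_c22 LD2_c33 LD3_c22) Lrfl Lrfl
theorem f89533 : Led Lsl_bt (LP (LK LD1_c24 LD2_c2 LD3_c15)) = (LP (LK LD1_c31 LD2_c20 LD3_c6)) :=
  Lre_b IH (LK LD1_c24 LD2_c2 LD3_c15) (LK LD1_c31 LD2_c20 LD3_c6) Lrfl Lrfl
theorem f89534 : Led Lsl_ff (LP (LK LD1_c30 LD2_c34 LD3_c29)) = (LP (LK LD1_c31 LD2_c20 LD3_c6)) :=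
  Lgr Lrot25 (Lpr_bt (f89532 IH) (Lpr_ft (f89530 IH) (Lpr_bt (f89533 IH) (Lpn (LP (LK LD1_c31 LD2_c20 LD3_c6))))))
theorem f89541 : Led Lsl_et (LP (LK LD1_c30 LD2_c34 LD3_c29)) = (LP (LK LD1_c22 LD2_c33 LD3_c19)) :=
  Lre_e IH (LK LD1_c30 LD2_c34 LD3_c29) (LK LD1_c22 LD2_c33 LD3_c19) Lrfl Lrfl
theorem f17861 : Led Lsl_ft (LP (LK LD1_c22 LD2_c33 LD3_c19)) = (LP (LK LD1_c13 LD2_c17 LD3_c26)) :=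
  Lre_f IH (LK LD1_c22 LD2_c33 LD3_c19) (LK LD1_c13 LD2_c17 LD3_c26) Lrfl Lrfl
theorem f89542 : Led Lsl_et (LP (LK LD1_c24 LD2_c2 LD3_c0)) = (LP (LK LD1_c31 LD2_c20 LD3_c6)) :=
  Lre_e IH (LK LD1_c24 LD2_c2 LD3_c0) (LK LD1_c31 LD2_c20 LD3_c6) Lrfl Lrfl
theorem f89543 : Led Lsl_ft (LP (LK LD1_c14 LD2_c23 LD3_c32)) = (LP (LK LD1_c24 LD2_c2 LD3_c0)) :=
  Lre_f IH (LK LD1_c14 LD2_c23 LD3_c32) (LK LD1_c24 LD2_c2 LD3_c0) Lrfl Lrfl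
theorem f89544 : Led Lsl_et (LP (LK LD1_c13 LD2_c17 LD3_c26)) = (LP (LK LD1_c14 LD2_c23 LD3_c32)) :=
  Lgr Lrot69 (Lpe (f17861 IH) (Lpe (f89541 IH) (Lpr_ff (f89534 IH) (Lpe (f89542 IH) (Lpe (f89543 IH) (Lpn (LP (LK LD1_c14 LD2_c23 LD3_c32))))))))
theorem f17879 : Led Lsl_dt (LP (LK LD1_c7 LD2_c0 LD3_c19)) = (LP (LK LD1_c13 LD2_c17 LD3_c26)) :=
  Lre_d IH (LK LD1_c7 LD2_c0 LD3_c19) (LK LD1_c13 LD2_c17 LD3_c26) Lrfl Lrfl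
theorem f17946 : Led Lsl_et (LP (LK LD1_c3 LD2_c29 LD3_c20)) = (LP (LK LD1_c7 LD2_c0 LD3_c19)) :=
  Lre_e IH (LK LD1_c3 LD2_c29 LD3_c20) (LK LD1_c7 LD2_c0 LD3_c19) Lrfl Lrfl
theorem f89555 : Led Lsl_dt (LP (LK LD1_c14 LD2_c23 LD3_c32)) = (LP (LK LD1_c7 LD2_c38 LD3_c17)) :=
  Lre_d IH (LK LD1_c14 LD2_c23 LD3_c32) (LK LD1_c7 LD2_c38 LD3_c17) Lrfl Lrfl
theorem f89556 : Led Lsl_et (LP (LK LD1_c7 LD2_c38 LD3_c17)) = (LP (LK LD1_c3 LD2_c48 LD3_c38)) :=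
  Lre_e IH (LK LD1_c7 LD2_c38 LD3_c17) (LK LD1_c3 LD2_c48 LD3_c38) Lrfl Lrfl
theorem f89557 : Led Lsl_df (LP (LK LD1_c3 LD2_c29 LD3_c20)) = (LP (LK LD1_c3 LD2_c48 LD3_c38)) :=
  Lgr Lrot70 (Lpr_et (f17946 IH) (Lpr_dt (f17879 IH) (Lpr_et (f89544 IH) (Lpr_dt (f89555 IH) (Lpr_et (f89556 IH) (Lpn (LP (LK LD1_c3 LD2_c48 LD3_c38))))))))
theorem f17916 : Led Lsl_at (LP (LK LD1_c3 LD2_c29 LD3_c20)) = (LP (LK LD1_c7 LD2_c0 LD3_c18)) :=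
  Lre_a IH (LK LD1_c3 LD2_c29 LD3_c20) (LK LD1_c7 LD2_c0 LD3_c18) Lrfl Lrfl
theorem f89566 : Led Lsl_at (LP (LK LD1_c7 LD2_c38 LD3_c15)) = (LP (LK LD1_c3 LD2_c48 LD3_c38)) :=
  Lre_a IH (LK LD1_c7 LD2_c38 LD3_c15) (LK LD1_c3 LD2_c48 LD3_c38) Lrfl Lrfl
theorem f89567 : Led Lsl_dt (LP (LK LD1_c7 LD2_c0 LD3_c18)) = (LP (LK LD1_c7 LD2_c38 LD3_c15)) :=
  Lgr Lrot44 (Lpe (f17916 IH) (Lpr_df (f89557 IH) (Lpe (f89566 IH) (Lpn (LP (LK LD1_c7 LD2_c38 LD3_c15))))))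
theorem f89577 : Led Lsl_df (LP (LK LD1_c7 LD2_c0 LD3_c18)) = (LP (LK LD1_c7 LD2_c38 LD3_c15)) :=
  Lgr Lrot38 (Lpr_dt (f89567 IH) (Lpn (LP (LK LD1_c7 LD2_c38 LD3_c15))))
theorem f111824 : Led Lsl_bt (LP (LK LD1_c6 LD2_c55 LD3_c24)) = (LP (LK LD1_c7 LD2_c38 LD3_c15)) :=
  Lgr Lrot95 (Lpe (f111368 IH) (Lpr_bf (f111822 IH) (Lpr_df (f89577 IH) (Lpn (LP (LK LD1_c7 LD2_c38 LD3_c15))))))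
theorem f111828 : Led Lsl_bf (LP (LK LD1_c6 LD2_c55 LD3_c24)) = (LP (LK LD1_c7 LD2_c38 LD3_c15)) :=
  Lgr Lrot24 (Lpr_bt (f111824 IH) (Lpn (LP (LK LD1_c7 LD2_c38 LD3_c15))))
theorem f90171 : Led Lsl_bt (LP (LK LD1_c3 LD2_c27 LD3_c3)) = (LP (LK LD1_c1 LD2_c40 LD3_c9)) :=
  Lre_b IH (LK LD1_c3 LD2_c27 LD3_c3) (LK LD1_c1 LD2_c40 LD3_c9) Lrfl Lrfl
theorem f89715 : Led Lsl_ct (LP (LK LD1_c3 LD2_c27 LD3_c3)) = (LP (LK LD1_c6 LD2_c55 LD3_c61)) :=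
  Lre_c IH (LK LD1_c3 LD2_c27 LD3_c3) (LK LD1_c6 LD2_c55 LD3_c61) Lrfl Lrfl
theorem f90976 : Led Lsl_gt (LP (LK LD1_c13 LD2_c9 LD3_c58)) = (LP (LK LD1_c6 LD2_c55 LD3_c61)) :=
  Lre_g IH (LK LD1_c13 LD2_c9 LD3_c58) (LK LD1_c6 LD2_c55 LD3_c61) Lrfl Lrfl
theorem f111847 : Led Lsl_cf (LP (LK LD1_c13 LD2_c9 LD3_c58)) = (LP (LK LD1_c7 LD2_c38 LD3_c15)) :=
  Lgr Lrot160 (Lpr_gt (f90976 IH) (Lpe (f89715 IH) (Lpr_bt (f90171 IH) (Lpr_gt (K2.f90152 IH) (Lpe (K2.f90941 IH) (Lpe (K2.f90981 IH) (Lpr_cf (K2.f91130 IH) (Lpr_bt (f91286 IH) (Lpr_gt (f91287 IH) (Lpr_bf (f111828 IH) (Lpn (LP (LK LD1_c7 LD2_c38 LD3_c15)))))))))))))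
theorem f111853 : Led Lsl_ct (LP (LK LD1_c13 LD2_c9 LD3_c58)) = (LP (LK LD1_c7 LD2_c38 LD3_c15)) :=
  Lgr Lrot59 (Lpr_cf (f111847 IH) (Lpn (LP (LK LD1_c7 LD2_c38 LD3_c15))))
theorem f111362 : Led Lsl_bt (LP (LK LD1_c12 LD2_c13 LD3_c52)) = (LP (LK LD1_c13 LD2_c9 LD3_c1)) :=
  Lgr Lrot127 (Lpr_bf (f111360 IH) (Lpn (LP (LK LD1_c13 LD2_c9 LD3_c1))))
theorem f66884 : Led Lsl_ct (LP (LK LD1_c21 LD2_c20 LD3_c3)) = (LP (LK LD1_c12 LD2_c13 LD3_c52)) :=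
  Lre_c IH (LK LD1_c21 LD2_c20 LD3_c3) (LK LD1_c12 LD2_c13 LD3_c52) Lrfl Lrfl
theorem f111851 : Led Lsl_bt (LP (LK LD1_c13 LD2_c9 LD3_c58)) = (LP (LK LD1_c21 LD2_c20 LD3_c3)) :=
  Lgr Lrot128 (Lpr_cf (f111847 IH) (Lpe (f111824 IH) (Lpe (f111359 IH) (Lpe (f111362 IH) (Lpe (f66884 IH) (Lpn (LP (LK LD1_c21 LD2_c20 LD3_c3))))))))
theorem f7103 : Led Lsl_ct (LP (LK LD1_c0 LD2_c7 LD3_c61)) = (LP (LK LD1_c0 LD2_c3 LD3_c40)) :=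
  Lre_c IH (LK LD1_c0 LD2_c7 LD3_c61) (LK LD1_c0 LD2_c3 LD3_c40) Lrfl Lrfl
theorem f25187 : Led Lsl_bt (LP (LK LD1_c1 LD2_c4 LD3_c35)) = (LP (LK LD1_c0 LD2_c29 LD3_c34)) :=
  Lre_b IH (LK LD1_c1 LD2_c4 LD3_c35) (LK LD1_c0 LD2_c29 LD3_c34) Lrfl Lrfl
theorem f95993 : Led Lsl_df (LP (LK LD1_c0 LD2_c21 LD3_c10)) = (LP (LK LD1_c0 LD2_c10 LD3_c32)) :=
  Lgr Lrot43 (Lpr_ct (K0.f11438 IH) (Lpr_dt (K3.f17799 IH) (Lpr_ct (K3.f87806 IH) (Lpr_dt (K3.f63500 IH) (Lpr_ct (K3.f95720 IH) (Lpr_dt (K3.f85140 IH) (Lpr_ct (K3.f85144 IH) (Lpe (K3.f95967 IH) (Lpr_ct (K2.f18884 IH) (Lpr_dt (K3.f64793 IH) (Lpe (K3.f65052 IH) (Lpr_dt (K3.f63804 IH) (Lpr_ct (K3.f95983 IH) (Lpr_dt (K3.f95985 IH) (Lpr_ct (K3.f95986 IH) (Lpn (LP (LK LD1_c0 LD2_c10 LD3_c32))))))))))))))))))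
theorem f103578 : Led Lsl_df (LP (LK LD1_c0 LD2_c40 LD3_c17)) = (LP (LK LD1_c0 LD2_c19 LD3_c37)) :=
  Lgr Lrot153 (Lpr_gt (K3.f18897 IH) (Lpr_dt (K3.f18896 IH) (Lpe (K1.f18891 IH) (Lpe (K1.f18877 IH) (Lpe (K2.f18886 IH) (Lpr_df (f95993 IH) (Lpe (K3.f95963 IH) (Lpe (K3.f11286 IH) (Lpr_gt (K3.f103568 IH) (Lpn (LP (LK LD1_c0 LD2_c19 LD3_c37))))))))))))
theorem f103584 : Led Lsl_bt (LP (LK LD1_c1 LD2_c26 LD3_c59)) = (LP (LK LD1_c3 LD2_c1 LD3_c49)) :=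
  Lre_b IH (LK LD1_c1 LD2_c26 LD3_c59) (LK LD1_c3 LD2_c1 LD3_c49) Lrfl Lrfl
theorem f103585 : Led Lsl_gf (LP (LK LD1_c4 LD2_c35 LD3_c27)) = (LP (LK LD1_c3 LD2_c1 LD3_c49)) :=
  Lgr Lrot85 (Lpr_dt (K2.f35223 IH) (Lpr_ct (K2.f27166 IH) (Lpr_bt (f25187 IH) (Lpe (K2.f20604 IH) (Lpr_dt (K2.f20602 IH) (Lpr_ct (f7103 IH) (Lpr_bt (K1.f56039 IH) (Lpr_gt (K1.f58941 IH) (Lpr_dt (K1.f7120 IH) (Lpr_ct (K1.f7117 IH) (Lpr_bt (K0.f7129 IH) (Lpq (K0.f25767 IH) (Lpr_gt (K0.f7169 IH) (Lpr_dt (K0.f7170 IH) (Lpr_ct (K0.f9924 IH) (Lpr_bt (K3.f58959 IH) (Lpr_gt (K3.f103568 IH) (Lpe (f103578 IH) (Lpr_ct (K3.f23037 IH) (Lpr_bt (f103584 IH) (Lpn (LP (LK LD1_c3 LD2_c1 LD3_c49)))))))))))))))))))))))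
theorem f71907 : Led Lsl_bt (LP (LK LD1_c9 LD2_c7 LD3_c25)) = (LP (LK LD1_c16 LD2_c59 LD3_c38)) :=
  Lre_b IH (LK LD1_c9 LD2_c7 LD3_c25) (LK LD1_c16 LD2_c59 LD3_c38) Lrfl Lrfl
theorem f61794 : Led Lsl_ct (LP (LK LD1_c6 LD2_c10 LD3_c23)) = (LP (LK LD1_c3 LD2_c1 LD3_c49)) :=
  Lre_c IH (LK LD1_c6 LD2_c10 LD3_c23) (LK LD1_c3 LD2_c1 LD3_c49) Lrfl Lrfl
theorem f61790 : Led Lsl_bt (LP (LK LD1_c6 LD2_c10 LD3_c23)) = (LP (LK LD1_c3 LD2_c1 LD3_c48)) :=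
  Lre_b IH (LK LD1_c6 LD2_c10 LD3_c23) (LK LD1_c3 LD2_c1 LD3_c48) Lrfl Lrfl
theorem f103599 : Led Lsl_gt (LP (LK LD1_c16 LD2_c59 LD3_c38)) = (LP (LK LD1_c21 LD2_c20 LD3_c3)) :=
  Lgr Lrot82 (Lpe (f71907 IH) (Lpr_ct (K2.f35224 IH) (Lpr_gf (f103585 IH) (Lpe (f61794 IH) (Lpr_bt (f61790 IH) (Lpe (K3.f76472 IH) (Lpe (K2.f61526 IH) (Lpe (K2.f67015 IH) (Lpe (f66882 IH) (Lpe (f66884 IH) (Lpn (LP (LK LD1_c21 LD2_c20 LD3_c3)))))))))))))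
theorem f96072 : Led Lsl_gt (LP (LK LD1_c12 LD2_c1 LD3_c30)) = (LP (LK LD1_c6 LD2_c10 LD3_c23)) :=
  Lre_g IH (LK LD1_c12 LD2_c1 LD3_c30) (LK LD1_c6 LD2_c10 LD3_c23) Lrfl Lrfl
theorem f111386 : Led Lsl_ft (LP (LK LD1_c6 LD2_c53 LD3_c57)) = (LP (LK LD1_c6 LD2_c55 LD3_c24)) :=
  Lgr Lrot48 (Lpr_ff (f111379 IH) (Lpn (LP (LK LD1_c6 LD2_c55 LD3_c24))))
theorem f64624 : Led Lsl_bt (LP (LK LD1_c3 LD2_c48 LD3_c40)) = (LP (LK LD1_c1 LD2_c51 LD3_c21)) :=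
  Lre_b IH (LK LD1_c3 LD2_c48 LD3_c40) (LK LD1_c1 LD2_c51 LD3_c21) Lrfl Lrfl
theorem f109265 : Led Lsl_at (LP (LK LD1_c3 LD2_c45 LD3_c41)) = (LP (LK LD1_c7 LD2_c31 LD3_c59)) :=
  Lre_a IH (LK LD1_c3 LD2_c45 LD3_c41) (LK LD1_c7 LD2_c31 LD3_c59) Lrfl Lrfl
theorem f111448 : Led Lsl_bt (LP (LK LD1_c7 LD2_c31 LD3_c59)) = (LP (LK LD1_c6 LD2_c53 LD3_c57)) :=
  Lgr Lrot62 (Lpe (f109265 IH) (Lpe (f94135 IH) (Lpr_af (K3.f109261 IH) (Lpe (f64624 IH) (Lpr_af (f111444 IH) (Lpn (LP (LK LD1_c6 LD2_c53 LD3_c57))))))))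
theorem f111832 : Led Lsl_ff (LP (LK LD1_c7 LD2_c31 LD3_c59)) = (LP (LK LD1_c7 LD2_c38 LD3_c15)) :=
  Lgr Lrot25 (Lpr_bt (f111448 IH) (Lpr_ft (f111386 IH) (Lpr_bt (f111824 IH) (Lpn (LP (LK LD1_c7 LD2_c38 LD3_c15))))))
theorem f111834 : Led Lsl_at (LP (LK LD1_c7 LD2_c31 LD3_c59)) = (LP (LK LD1_c3 LD2_c45 LD3_c41)) :=
  Lre_a IH (LK LD1_c7 LD2_c31 LD3_c59) (LK LD1_c3 LD2_c45 LD3_c41) Lrfl Lrfl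
theorem f92450 : Led Lsl_gt (LP (LK LD1_c7 LD2_c32 LD3_c0)) = (LP (LK LD1_c3 LD2_c45 LD3_c41)) :=
  Lre_g IH (LK LD1_c7 LD2_c32 LD3_c0) (LK LD1_c3 LD2_c45 LD3_c41) Lrfl Lrfl
theorem f111836 : Led Lsl_gf (LP (LK LD1_c7 LD2_c32 LD3_c0)) = (LP (LK LD1_c7 LD2_c38 LD3_c15)) :=
  Lgr Lrot47 (Lpr_gt (f92450 IH) (Lpe (f111834 IH) (Lpr_ff (f111832 IH) (Lpn (LP (LK LD1_c7 LD2_c38 LD3_c15))))))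
theorem f94162 : Led Lsl_ct (LP (LK LD1_c14 LD2_c12 LD3_c31)) = (LP (LK LD1_c7 LD2_c32 LD3_c0)) :=
  Lre_c IH (LK LD1_c14 LD2_c12 LD3_c31) (LK LD1_c7 LD2_c32 LD3_c0) Lrfl Lrfl
theorem f111859 : Led Lsl_bf (LP (LK LD1_c12 LD2_c1 LD3_c30)) = (LP (LK LD1_c14 LD2_c12 LD3_c31)) :=
  Lgr Lrot165 (Lpr_gt (f96072 IH) (Lpr_ct (f61794 IH) (Lpe (f103585 IH) (Lpe (K2.f35224 IH) (Lpr_bt (f71907 IH) (Lpr_gt (f103599 IH) (Lpe (f111851 IH) (Lpr_ct (f111853 IH) (Lpe (f111836 IH) (Lpe (f94162 IH) (Lpn (LP (LK LD1_c14 LD2_c12 LD3_c31)))))))))))))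
theorem f96071 : Led Lsl_bt (LP (LK LD1_c3 LD2_c1 LD3_c49)) = (LP (LK LD1_c1 LD2_c26 LD3_c59)) :=
  Lre_b IH (LK LD1_c3 LD2_c1 LD3_c49) (LK LD1_c1 LD2_c26 LD3_c59) Lrfl Lrfl
theorem f61791 : Led Lsl_ct (LP (LK LD1_c3 LD2_c1 LD3_c49)) = (LP (LK LD1_c6 LD2_c10 LD3_c23)) :=
  Lre_c IH (LK LD1_c3 LD2_c1 LD3_c49) (LK LD1_c6 LD2_c10 LD3_c23) Lrfl Lrfl
theorem f79329 : Led Lsl_gt (LP (LK LD1_c1 LD2_c49 LD3_c53)) = (LP (LK LD1_c3 LD2_c45 LD3_c29)) :=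
  Lre_g IH (LK LD1_c1 LD2_c49 LD3_c53) (LK LD1_c3 LD2_c45 LD3_c29) Lrfl Lrfl
theorem f96073 : Led Lsl_bt (LP (LK LD1_c7 LD2_c31 LD3_c36)) = (LP (LK LD1_c3 LD2_c45 LD3_c29)) :=
  Lre_b IH (LK LD1_c7 LD2_c31 LD3_c36) (LK LD1_c3 LD2_c45 LD3_c29) Lrfl Lrfl
theorem f96074 : Led Lsl_cf (LP (LK LD1_c12 LD2_c1 LD3_c30)) = (LP (LK LD1_c7 LD2_c31 LD3_c36)) :=
  Lgr Lrot160 (Lpr_gt (f96072 IH) (Lpe (f61791 IH) (Lpr_bt (f96071 IH) (Lpr_gt (K3.f96064 IH) (Lpr_ct (K3.f65257 IH) (Lpr_gt (K3.f62948 IH) (Lpe (K1.f62854 IH) (Lpr_bt (K3.f79328 IH) (Lpr_gt (f79329 IH) (Lpe (f96073 IH) (Lpn (LP (LK LD1_c7 LD2_c31 LD3_c36)))))))))))))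
theorem f96082 : Led Lsl_ct (LP (LK LD1_c12 LD2_c1 LD3_c30)) = (LP (LK LD1_c7 LD2_c31 LD3_c36)) :=
  Lgr Lrot59 (Lpr_cf (f96074 IH) (Lpn (LP (LK LD1_c7 LD2_c31 LD3_c36))))
theorem f96085 : Led Lsl_ct (LP (LK LD1_c3 LD2_c45 LD3_c29)) = (LP (LK LD1_c7 LD2_c31 LD3_c37)) :=
  Lre_c IH (LK LD1_c3 LD2_c45 LD3_c29) (LK LD1_c7 LD2_c31 LD3_c37) Lrfl Lrfl
theorem f111838 : Led Lsl_ct (LP (LK LD1_c7 LD2_c32 LD3_c0)) = (LP (LK LD1_c14 LD2_c12 LD3_c31)) :=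
  Lre_c IH (LK LD1_c7 LD2_c32 LD3_c0) (LK LD1_c14 LD2_c12 LD3_c31) Lrfl Lrfl
theorem f111863 : Led Lsl_bt (LP (LK LD1_c7 LD2_c31 LD3_c37)) = (LP (LK LD1_c7 LD2_c32 LD3_c0)) :=
  Lgr Lrot128 (Lpe (f96085 IH) (Lpe (f96073 IH) (Lpe (f96082 IH) (Lpr_bf (f111859 IH) (Lpe (f111838 IH) (Lpn (LP (LK LD1_c7 LD2_c32 LD3_c0))))))))
theorem f96081 : Led Lsl_ct (LP (LK LD1_c7 LD2_c31 LD3_c37)) = (LP (LK LD1_c3 LD2_c45 LD3_c29)) :=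
  Lre_c IH (LK LD1_c7 LD2_c31 LD3_c37) (LK LD1_c3 LD2_c45 LD3_c29) Lrfl Lrfl
theorem f62951 : Led Lsl_ct (LP (LK LD1_c3 LD2_c45 LD3_c13)) = (LP (LK LD1_c1 LD2_c49 LD3_c53)) :=
  Lre_c IH (LK LD1_c3 LD2_c45 LD3_c13) (LK LD1_c1 LD2_c49 LD3_c53) Lrfl Lrfl
theorem f111228 : Led Lsl_bt (LP (LK LD1_c3 LD2_c45 LD3_c13)) = (LP (LK LD1_c1 LD2_c49 LD3_c45)) :=
  Lre_b IH (LK LD1_c3 LD2_c45 LD3_c13) (LK LD1_c1 LD2_c49 LD3_c45) Lrfl Lrfl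
theorem f90891 : Led Lsl_df (LP (LK LD1_c1 LD2_c41 LD3_c22)) = (LP (LK LD1_c1 LD2_c40 LD3_c15)) :=
  Lgr Lrot38 (Lpr_dt (K2.f90885 IH) (Lpn (LP (LK LD1_c1 LD2_c40 LD3_c15))))
theorem f91907 : Led Lsl_dt (LP (LK LD1_c3 LD2_c29 LD3_c18)) = (LP (LK LD1_c2 LD2_c19 LD3_c55)) :=
  Lgr Lrot79 (Lpe (K3.f18062 IH) (Lpr_df (f90891 IH) (Lpr_bf (K3.f20950 IH) (Lpn (LP (LK LD1_c2 LD2_c19 LD3_c55))))))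
theorem f79268 : Led Lsl_dt (LP (LK LD1_c0 LD2_c30 LD3_c53)) = (LP (LK LD1_c0 LD2_c13 LD3_c42)) :=
  Lre_d IH (LK LD1_c0 LD2_c30 LD3_c53) (LK LD1_c0 LD2_c13 LD3_c42) Lrfl Lrfl
theorem f25210 : Led Lsl_gt (LP (LK LD1_c1 LD2_c7 LD3_c18)) = (LP (LK LD1_c0 LD2_c30 LD3_c53)) :=
  Lre_g IH (LK LD1_c1 LD2_c7 LD3_c18) (LK LD1_c0 LD2_c30 LD3_c53) Lrfl Lrfl
theorem f91915 : Led Lsl_ct (LP (LK LD1_c1 LD2_c7 LD3_c18)) = (LP (LK LD1_c2 LD2_c20 LD3_c4)) :=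
  Lre_c IH (LK LD1_c1 LD2_c7 LD3_c18) (LK LD1_c2 LD2_c20 LD3_c4) Lrfl Lrfl
theorem f111072 : Led Lsl_gt (LP (LK LD1_c2 LD2_c20 LD3_c4)) = (LP (LK LD1_c1 LD2_c49 LD3_c45)) :=
  Lgr Lrot94 (Lpe (f91915 IH) (Lpr_gt (f25210 IH) (Lpr_dt (f79268 IH) (Lpr_gt (K2.f20947 IH) (Lpr_dt (K3.f20948 IH) (Lpe (K3.f23483 IH) (Lpe (f91907 IH) (Lpr_gf (f111070 IH) (Lpe (f93192 IH) (Lpn (LP (LK LD1_c1 LD2_c49 LD3_c45))))))))))))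
theorem f111088 : Led Lsl_bt (LP (LK LD1_c4 LD2_c44 LD3_c10)) = (LP (LK LD1_c2 LD2_c20 LD3_c4)) :=
  Lre_b IH (LK LD1_c4 LD2_c44 LD3_c10) (LK LD1_c2 LD2_c20 LD3_c4) Lrfl Lrfl
theorem f111874 : Led Lsl_ct (LP (LK LD1_c4 LD2_c44 LD3_c10)) = (LP (LK LD1_c9 LD2_c21 LD3_c8)) :=
  Lre_c IH (LK LD1_c4 LD2_c44 LD3_c10) (LK LD1_c9 LD2_c21 LD3_c8) Lrfl Lrfl
theorem f111875 : Led Lsl_gf (LP (LK LD1_c9 LD2_c21 LD3_c8)) = (LP (LK LD1_c7 LD2_c32 LD3_c1)) :=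
  Lgr Lrot129 (Lpe (f111874 IH) (Lpr_bt (f111088 IH) (Lpr_gt (f111072 IH) (Lpe (f111228 IH) (Lpr_ct (f62951 IH) (Lpr_gt (f79329 IH) (Lpe (f96081 IH) (Lpr_bt (f111863 IH) (Lpr_gt (f92450 IH) (Lpr_ct (f89128 IH) (Lpn (LP (LK LD1_c7 LD2_c32 LD3_c1)))))))))))))
theorem f62864 : Led Lsl_bt (LP (LK LD1_c0 LD2_c23 LD3_c25)) = (LP (LK LD1_c0 LD2_c51 LD3_c43)) :=
  Lre_b IH (LK LD1_c0 LD2_c23 LD3_c25) (LK LD1_c0 LD2_c51 LD3_c43) Lrfl Lrfl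
theorem f62860 : Led Lsl_bt (LP (LK LD1_c0 LD2_c43 LD3_c61)) = (LP (LK LD1_c0 LD2_c19 LD3_c40)) :=
  Lre_b IH (LK LD1_c0 LD2_c43 LD3_c61) (LK LD1_c0 LD2_c19 LD3_c40) Lrfl Lrfl
theorem f62865 : Led Lsl_ct (LP (LK LD1_c0 LD2_c43 LD3_c61)) = (LP (LK LD1_c1 LD2_c34 LD3_c37)) :=
  Lre_c IH (LK LD1_c0 LD2_c43 LD3_c61) (LK LD1_c1 LD2_c34 LD3_c37) Lrfl Lrfl
theorem f62866 : Led Lsl_gt (LP (LK LD1_c1 LD2_c32 LD3_c35)) = (LP (LK LD1_c1 LD2_c34 LD3_c37)) :=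
  Lre_g IH (LK LD1_c1 LD2_c32 LD3_c35) (LK LD1_c1 LD2_c34 LD3_c37) Lrfl Lrfl
theorem f62867 : Led Lsl_ct (LP (LK LD1_c0 LD2_c42 LD3_c54)) = (LP (LK LD1_c1 LD2_c32 LD3_c35)) :=
  Lre_c IH (LK LD1_c0 LD2_c42 LD3_c54) (LK LD1_c1 LD2_c32 LD3_c35) Lrfl Lrfl
theorem f62868 : Led Lsl_bt (LP (LK LD1_c0 LD2_c42 LD3_c54)) = (LP (LK LD1_c1 LD2_c32 LD3_c34)) :=
  Lre_b IH (LK LD1_c0 LD2_c42 LD3_c54) (LK LD1_c1 LD2_c32 LD3_c34) Lrfl Lrfl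
theorem f62869 : Led Lsl_gt (LP (LK LD1_c0 LD2_c51 LD3_c43)) = (LP (LK LD1_c1 LD2_c32 LD3_c34)) :=
  Lgr Lrot164 (Lpe (f62864 IH) (Lpr_ct (K1.f62863 IH) (Lpe (K1.f62855 IH) (Lpe (K1.f22502 IH) (Lpr_gf (K1.f62814 IH) (Lpe (f62860 IH) (Lpr_ct (f62865 IH) (Lpe (f62866 IH) (Lpe (f62867 IH) (Lpr_bt (f62868 IH) (Lpn (LP (LK LD1_c1 LD2_c32 LD3_c34)))))))))))))
theorem f24203 : Led Lsl_gt (LP (LK LD1_c1 LD2_c34 LD3_c3)) = (LP (LK LD1_c0 LD2_c43 LD3_c38)) :=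
  Lre_g IH (LK LD1_c1 LD2_c34 LD3_c3) (LK LD1_c0 LD2_c43 LD3_c38) Lrfl Lrfl
theorem f62892 : Led Lsl_cf (LP (LK LD1_c1 LD2_c34 LD3_c3)) = (LP (LK LD1_c1 LD2_c32 LD3_c34)) :=
  Lgr Lrot169 (Lpr_gt (f24203 IH) (Lpr_ct (K3.f24017 IH) (Lpe (K3.f24140 IH) (Lpe (K3.f24272 IH) (Lpe (K3.f24141 IH) (Lpe (K3.f24320 IH) (Lpe (K3.f24324 IH) (Lpe (K3.f24343 IH) (Lpr_gt (f62869 IH) (Lpn (LP (LK LD1_c1 LD2_c32 LD3_c34))))))))))))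
theorem f62899 : Led Lsl_ct (LP (LK LD1_c1 LD2_c34 LD3_c3)) = (LP (LK LD1_c1 LD2_c32 LD3_c34)) :=
  Lgr Lrot59 (Lpr_cf (f62892 IH) (Lpn (LP (LK LD1_c1 LD2_c32 LD3_c34))))
theorem f89126 : Led Lsl_bt (LP (LK LD1_c3 LD2_c45 LD3_c41)) = (LP (LK LD1_c1 LD2_c49 LD3_c58)) :=
  Lre_b IH (LK LD1_c3 LD2_c45 LD3_c41) (LK LD1_c1 LD2_c49 LD3_c58) Lrfl Lrfl
theorem f111881 : Led Lsl_bt (LP (LK LD1_c1 LD2_c34 LD3_c3)) = (LP (LK LD1_c1 LD2_c50 LD3_c43)) :=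
  Lgr Lrot22 (Lpr_ct (f62899 IH) (Lpe (f62869 IH) (Lpe (K2.f62891 IH) (Lpe (f111072 IH) (Lpe (f111088 IH) (Lpr_ct (f111874 IH) (Lpr_gf (f111875 IH) (Lpe (f89128 IH) (Lpr_bt (f89126 IH) (Lpe (K3.f89670 IH) (Lpn (LP (LK LD1_c1 LD2_c50 LD3_c43)))))))))))))
theorem f64623 : Led Lsl_bt (LP (LK LD1_c0 LD2_c52 LD3_c31)) = (LP (LK LD1_c1 LD2_c51 LD3_c18)) :=
  Lre_b IH (LK LD1_c0 LD2_c52 LD3_c31) (LK LD1_c1 LD2_c51 LD3_c18) Lrfl Lrfl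
theorem f111893 : Led Lsl_ff (LP (LK LD1_c1 LD2_c34 LD3_c3)) = (LP (LK LD1_c1 LD2_c51 LD3_c18)) :=
  Lgr Lrot25 (Lpr_bt (f111881 IH) (Lpr_ft (K3.f89293 IH) (Lpr_bt (f64623 IH) (Lpn (LP (LK LD1_c1 LD2_c51 LD3_c18))))))
theorem f111899 : Led Lsl_ft (LP (LK LD1_c1 LD2_c34 LD3_c3)) = (LP (LK LD1_c1 LD2_c51 LD3_c18)) :=
  Lgr Lrot48 (Lpr_ff (f111893 IH) (Lpn (LP (LK LD1_c1 LD2_c51 LD3_c18))))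
theorem f25032 : Led Lsl_dt (LP (LK LD1_c0 LD2_c41 LD3_c27)) = (LP (LK LD1_c1 LD2_c29 LD3_c41)) :=
  Lre_d IH (LK LD1_c0 LD2_c41 LD3_c27) (LK LD1_c1 LD2_c29 LD3_c41) Lrfl Lrfl
theorem f64610 : Led Lsl_bt (LP (LK LD1_c1 LD2_c51 LD3_c18)) = (LP (LK LD1_c0 LD2_c52 LD3_c31)) :=
  Lre_b IH (LK LD1_c1 LD2_c51 LD3_c18) (LK LD1_c0 LD2_c52 LD3_c31) Lrfl Lrfl
theorem f89322 : Led Lsl_ct (LP (LK LD1_c1 LD2_c29 LD3_c41)) = (LP (LK LD1_c1 LD2_c51 LD3_c18)) :=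
  Lgr Lrot191 (Lpe (f25032 IH) (Lpr_gf (K2.f25025 IH) (Lpe (K2.f25024 IH) (Lpe (K0.f9928 IH) (Lpr_df (K1.f62652 IH) (Lpe (K0.f11518 IH) (Lpe (K0.f11249 IH) (Lpe (K0.f3881 IH) (Lpr_df (K0.f9885 IH) (Lpe (K0.f11458 IH) (Lpe (K0.f364 IH) (Lpr_cf (K0.f365 IH) (Lpe (K0.f378 IH) (Lpe (K0.f17956 IH) (Lpe (K0.f17786 IH) (Lpr_cf (K0.f17780 IH) (Lpr_df (K3.f89301 IH) (Lpe (K2.f17456 IH) (Lpe (f64610 IH) (Lpn (LP (LK LD1_c1 LD2_c51 LD3_c18))))))))))))))))))))))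
theorem f89394 : Led Lsl_cf (LP (LK LD1_c1 LD2_c29 LD3_c41)) = (LP (LK LD1_c1 LD2_c51 LD3_c18)) :=
  Lgr Lrot11 (Lpr_ct (f89322 IH) (Lpn (LP (LK LD1_c1 LD2_c51 LD3_c18))))
theorem f111901 : Led Lsl_ff (LP (LK LD1_c1 LD2_c32 LD3_c34)) = (LP (LK LD1_c1 LD2_c29 LD3_c41)) :=
  Lgr Lrot23 (Lpe (f62892 IH) (Lpr_ft (f111899 IH) (Lpe (f89394 IH) (Lpn (LP (LK LD1_c1 LD2_c29 LD3_c41))))))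
theorem f62922 : Led Lsl_et (LP (LK LD1_c1 LD2_c32 LD3_c34)) = (LP (LK LD1_c3 LD2_c12 LD3_c6)) :=
  Lre_e IH (LK LD1_c1 LD2_c32 LD3_c34) (LK LD1_c3 LD2_c12 LD3_c6) Lrfl Lrfl
theorem f62912 : Led Lsl_ft (LP (LK LD1_c3 LD2_c12 LD3_c6)) = (LP (LK LD1_c6 LD2_c28 LD3_c19)) :=
  Lre_f IH (LK LD1_c3 LD2_c12 LD3_c6) (LK LD1_c6 LD2_c28 LD3_c19) Lrfl Lrfl
theorem f89396 : Led Lsl_et (LP (LK LD1_c3 LD2_c7 LD3_c0)) = (LP (LK LD1_c1 LD2_c29 LD3_c41)) :=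
  Lre_e IH (LK LD1_c3 LD2_c7 LD3_c0) (LK LD1_c1 LD2_c29 LD3_c41) Lrfl Lrfl
theorem f89427 : Led Lsl_ft (LP (LK LD1_c6 LD2_c19 LD3_c12)) = (LP (LK LD1_c3 LD2_c7 LD3_c0)) :=
  Lre_f IH (LK LD1_c6 LD2_c19 LD3_c12) (LK LD1_c3 LD2_c7 LD3_c0) Lrfl Lrfl
theorem f112012 : Led Lsl_et (LP (LK LD1_c6 LD2_c28 LD3_c19)) = (LP (LK LD1_c6 LD2_c19 LD3_c12)) :=
  Lgr Lrot69 (Lpe (f62912 IH) (Lpe (f62922 IH) (Lpr_ff (f111901 IH) (Lpe (f89396 IH) (Lpe (f89427 IH) (Lpn (LP (LK LD1_c6 LD2_c19 LD3_c12))))))))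
theorem f112017 : Led Lsl_ef (LP (LK LD1_c6 LD2_c28 LD3_c19)) = (LP (LK LD1_c6 LD2_c19 LD3_c12)) :=
  Lgr Lrot88 (Lpr_et (f112012 IH) (Lpn (LP (LK LD1_c6 LD2_c19 LD3_c12))))
theorem f112019 : Led Lsl_bt (LP (LK LD1_c6 LD2_c28 LD3_c19)) = (LP (LK LD1_c3 LD2_c12 LD3_c13)) :=
  Lre_b IH (LK LD1_c6 LD2_c28 LD3_c19) (LK LD1_c3 LD2_c12 LD3_c13) Lrfl Lrfl
theorem f89417 : Led Lsl_bt (LP (LK LD1_c3 LD2_c7 LD3_c10)) = (LP (LK LD1_c6 LD2_c19 LD3_c12)) :=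
  Lre_b IH (LK LD1_c3 LD2_c7 LD3_c10) (LK LD1_c6 LD2_c19 LD3_c12) Lrfl Lrfl
theorem f112020 : Led Lsl_et (LP (LK LD1_c3 LD2_c12 LD3_c13)) = (LP (LK LD1_c3 LD2_c7 LD3_c10)) :=
  Lgr Lrot74 (Lpe (f112019 IH) (Lpr_ef (f112017 IH) (Lpe (f89417 IH) (Lpn (LP (LK LD1_c3 LD2_c7 LD3_c10))))))
theorem f112025 : Led Lsl_ft (LP (LK LD1_c1 LD2_c32 LD3_c36)) = (LP (LK LD1_c3 LD2_c12 LD3_c13)) :=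
  Lre_f IH (LK LD1_c1 LD2_c32 LD3_c36) (LK LD1_c3 LD2_c12 LD3_c13) Lrfl Lrfl
theorem f112026 : Led Lsl_et (LP (LK LD1_c0 LD2_c42 LD3_c54)) = (LP (LK LD1_c1 LD2_c32 LD3_c36)) :=
  Lre_e IH (LK LD1_c0 LD2_c42 LD3_c54) (LK LD1_c1 LD2_c32 LD3_c36) Lrfl Lrfl
theorem f112027 : Led Lsl_ft (LP (LK LD1_c3 LD2_c7 LD3_c10)) = (LP (LK LD1_c1 LD2_c29 LD3_c46)) :=
  Lre_f IH (LK LD1_c3 LD2_c7 LD3_c10) (LK LD1_c1 LD2_c29 LD3_c46) Lrfl Lrfl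
theorem f112028 : Led Lsl_et (LP (LK LD1_c1 LD2_c29 LD3_c46)) = (LP (LK LD1_c0 LD2_c41 LD3_c29)) :=
  Lre_e IH (LK LD1_c1 LD2_c29 LD3_c46) (LK LD1_c0 LD2_c41 LD3_c29) Lrfl Lrfl
theorem f112029 : Led Lsl_ff (LP (LK LD1_c0 LD2_c42 LD3_c54)) = (LP (LK LD1_c0 LD2_c41 LD3_c29)) :=
  Lgr Lrot72 (Lpr_et (f112026 IH) (Lpr_ft (f112025 IH) (Lpr_et (f112020 IH) (Lpr_ft (f112027 IH) (Lpr_et (f112028 IH) (Lpn (LP (LK LD1_c0 LD2_c41 LD3_c29))))))))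
theorem f89391 : Led Lsl_ct (LP (LK LD1_c1 LD2_c29 LD3_c45)) = (LP (LK LD1_c0 LD2_c41 LD3_c29)) :=
  Lre_c IH (LK LD1_c1 LD2_c29 LD3_c45) (LK LD1_c0 LD2_c41 LD3_c29) Lrfl Lrfl
theorem f112031 : Led Lsl_ft (LP (LK LD1_c1 LD2_c32 LD3_c35)) = (LP (LK LD1_c1 LD2_c29 LD3_c45)) :=
  Lgr Lrot4 (Lpe (f62867 IH) (Lpr_ff (f112029 IH) (Lpe (f89391 IH) (Lpn (LP (LK LD1_c1 LD2_c29 LD3_c45))))))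
theorem f112040 : Led Lsl_ff (LP (LK LD1_c1 LD2_c32 LD3_c35)) = (LP (LK LD1_c1 LD2_c29 LD3_c45)) :=
  Lgr Lrot3 (Lpr_ft (f112031 IH) (Lpn (LP (LK LD1_c1 LD2_c29 LD3_c45))))
theorem f112047 : Led Lsl_et (LP (LK LD1_c1 LD2_c32 LD3_c35)) = (LP (LK LD1_c3 LD2_c12 LD3_c10)) :=
  Lre_e IH (LK LD1_c1 LD2_c32 LD3_c35) (LK LD1_c3 LD2_c12 LD3_c10) Lrfl Lrfl
theorem f112048 : Led Lsl_ft (LP (LK LD1_c3 LD2_c12 LD3_c10)) = (LP (LK LD1_c6 LD2_c28 LD3_c27)) :=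
  Lre_f IH (LK LD1_c3 LD2_c12 LD3_c10) (LK LD1_c6 LD2_c28 LD3_c27) Lrfl Lrfl
theorem f89440 : Led Lsl_et (LP (LK LD1_c3 LD2_c7 LD3_c7)) = (LP (LK LD1_c1 LD2_c29 LD3_c45)) :=
  Lre_e IH (LK LD1_c3 LD2_c7 LD3_c7) (LK LD1_c1 LD2_c29 LD3_c45) Lrfl Lrfl
theorem f89499 : Led Lsl_ft (LP (LK LD1_c6 LD2_c19 LD3_c22)) = (LP (LK LD1_c3 LD2_c7 LD3_c7)) :=
  Lre_f IH (LK LD1_c6 LD2_c19 LD3_c22) (LK LD1_c3 LD2_c7 LD3_c7) Lrfl Lrfl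
theorem f112049 : Led Lsl_et (LP (LK LD1_c6 LD2_c28 LD3_c27)) = (LP (LK LD1_c6 LD2_c19 LD3_c22)) :=
  Lgr Lrot69 (Lpe (f112048 IH) (Lpe (f112047 IH) (Lpr_ff (f112040 IH) (Lpe (f89440 IH) (Lpe (f89499 IH) (Lpn (LP (LK LD1_c6 LD2_c19 LD3_c22))))))))
theorem f112051 : Led Lsl_bt (LP (LK LD1_c12 LD2_c27 LD3_c53)) = (LP (LK LD1_c6 LD2_c28 LD3_c27)) :=
  Lre_b IH (LK LD1_c12 LD2_c27 LD3_c53) (LK LD1_c6 LD2_c28 LD3_c27) Lrfl Lrfl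
theorem f64314 : Led Lsl_et (LP (LK LD1_c1 LD2_c51 LD3_c18)) = (LP (LK LD1_c3 LD2_c48 LD3_c33)) :=
  Lre_e IH (LK LD1_c1 LD2_c51 LD3_c18) (LK LD1_c3 LD2_c48 LD3_c33) Lrfl Lrfl
theorem f89397 : Led Lsl_cf (LP (LK LD1_c3 LD2_c7 LD3_c0)) = (LP (LK LD1_c3 LD2_c48 LD3_c33)) :=
  Lgr Lrot39 (Lpr_et (f89396 IH) (Lpr_ct (f89322 IH) (Lpr_et (f64314 IH) (Lpn (LP (LK LD1_c3 LD2_c48 LD3_c33))))))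
theorem f89409 : Led Lsl_ft (LP (LK LD1_c3 LD2_c7 LD3_c0)) = (LP (LK LD1_c6 LD2_c19 LD3_c12)) :=
  Lre_f IH (LK LD1_c3 LD2_c7 LD3_c0) (LK LD1_c6 LD2_c19 LD3_c12) Lrfl Lrfl
theorem f89410 : Led Lsl_ft (LP (LK LD1_c7 LD2_c38 LD3_c6)) = (LP (LK LD1_c3 LD2_c48 LD3_c33)) :=
  Lre_f IH (LK LD1_c7 LD2_c38 LD3_c6) (LK LD1_c3 LD2_c48 LD3_c33) Lrfl Lrfl
theorem f89411 : Led Lsl_ct (LP (LK LD1_c6 LD2_c19 LD3_c12)) = (LP (LK LD1_c7 LD2_c38 LD3_c6)) :=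
  Lgr Lrot40 (Lpe (f89409 IH) (Lpr_cf (f89397 IH) (Lpe (f89410 IH) (Lpn (LP (LK LD1_c7 LD2_c38 LD3_c6))))))
theorem f89421 : Led Lsl_cf (LP (LK LD1_c6 LD2_c19 LD3_c12)) = (LP (LK LD1_c7 LD2_c38 LD3_c6)) :=
  Lgr Lrot11 (Lpr_ct (f89411 IH) (Lpn (LP (LK LD1_c7 LD2_c38 LD3_c6))))
theorem f89423 : Led Lsl_bt (LP (LK LD1_c6 LD2_c19 LD3_c12)) = (LP (LK LD1_c3 LD2_c7 LD3_c10)) :=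
  Lre_b IH (LK LD1_c6 LD2_c19 LD3_c12) (LK LD1_c3 LD2_c7 LD3_c10) Lrfl Lrfl
theorem f89424 : Led Lsl_ct (LP (LK LD1_c3 LD2_c7 LD3_c10)) = (LP (LK LD1_c6 LD2_c19 LD3_c22)) :=
  Lre_c IH (LK LD1_c3 LD2_c7 LD3_c10) (LK LD1_c6 LD2_c19 LD3_c22) Lrfl Lrfl
theorem f64884 : Led Lsl_bt (LP (LK LD1_c3 LD2_c48 LD3_c45)) = (LP (LK LD1_c7 LD2_c38 LD3_c6)) :=
  Lre_b IH (LK LD1_c3 LD2_c48 LD3_c45) (LK LD1_c7 LD2_c38 LD3_c6) Lrfl Lrfl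
theorem f64614 : Led Lsl_et (LP (LK LD1_c1 LD2_c35 LD3_c22)) = (LP (LK LD1_c3 LD2_c17 LD3_c38)) :=
  Lre_e IH (LK LD1_c1 LD2_c35 LD3_c22) (LK LD1_c3 LD2_c17 LD3_c38) Lrfl Lrfl
theorem f64615 : Led Lsl_cf (LP (LK LD1_c1 LD2_c51 LD3_c22)) = (LP (LK LD1_c3 LD2_c17 LD3_c38)) :=
  Lgr Lrot39 (Lpr_et (K2.f64613 IH) (Lpr_ct (K1.f64603 IH) (Lpr_et (f64614 IH) (Lpn (LP (LK LD1_c3 LD2_c17 LD3_c38))))))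
theorem f64845 : Led Lsl_ft (LP (LK LD1_c1 LD2_c51 LD3_c22)) = (LP (LK LD1_c3 LD2_c48 LD3_c45)) :=
  Lre_f IH (LK LD1_c1 LD2_c51 LD3_c22) (LK LD1_c3 LD2_c48 LD3_c45) Lrfl Lrfl
theorem f64846 : Led Lsl_ft (LP (LK LD1_c6 LD2_c38 LD3_c46)) = (LP (LK LD1_c3 LD2_c17 LD3_c38)) :=
  Lre_f IH (LK LD1_c6 LD2_c38 LD3_c46) (LK LD1_c3 LD2_c17 LD3_c38) Lrfl Lrfl
theorem f64847 : Led Lsl_ct (LP (LK LD1_c3 LD2_c48 LD3_c45)) = (LP (LK LD1_c6 LD2_c38 LD3_c46)) :=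
  Lgr Lrot40 (Lpe (f64845 IH) (Lpr_cf (f64615 IH) (Lpe (f64846 IH) (Lpn (LP (LK LD1_c6 LD2_c38 LD3_c46))))))
theorem f64876 : Led Lsl_cf (LP (LK LD1_c3 LD2_c48 LD3_c45)) = (LP (LK LD1_c6 LD2_c38 LD3_c46)) :=
  Lgr Lrot11 (Lpr_ct (f64847 IH) (Lpn (LP (LK LD1_c6 LD2_c38 LD3_c46))))
theorem f89425 : Led Lsl_bt (LP (LK LD1_c6 LD2_c19 LD3_c22)) = (LP (LK LD1_c6 LD2_c38 LD3_c46)) :=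
  Lgr Lrot128 (Lpe (f89424 IH) (Lpe (f89423 IH) (Lpr_cf (f89421 IH) (Lpe (f64884 IH) (Lpr_cf (f64876 IH) (Lpn (LP (LK LD1_c6 LD2_c38 LD3_c46))))))))
theorem f112052 : Led Lsl_ef (LP (LK LD1_c12 LD2_c27 LD3_c53)) = (LP (LK LD1_c6 LD2_c38 LD3_c46)) :=
  Lgr Lrot29 (Lpr_bt (f112051 IH) (Lpr_et (f112049 IH) (Lpr_bt (f89425 IH) (Lpn (LP (LK LD1_c6 LD2_c38 LD3_c46))))))
theorem f64879 : Led Lsl_dt (LP (LK LD1_c6 LD2_c38 LD3_c46)) = (LP (LK LD1_c12 LD2_c43 LD3_c12)) :=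
  Lre_d IH (LK LD1_c6 LD2_c38 LD3_c46) (LK LD1_c12 LD2_c43 LD3_c12) Lrfl Lrfl
theorem f93470 : Led Lsl_et (LP (LK LD1_c1 LD2_c34 LD3_c51)) = (LP (LK LD1_c3 LD2_c16 LD3_c12)) :=
  Lre_e IH (LK LD1_c1 LD2_c34 LD3_c51) (LK LD1_c3 LD2_c16 LD3_c12) Lrfl Lrfl
theorem f93662 : Led Lsl_cf (LP (LK LD1_c3 LD2_c28 LD3_c43)) = (LP (LK LD1_c3 LD2_c16 LD3_c12)) :=
  Lgr Lrot39 (Lpr_et (K3.f88676 IH) (Lpr_ct (K3.f93456 IH) (Lpr_et (f93470 IH) (Lpn (LP (LK LD1_c3 LD2_c16 LD3_c12))))))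
theorem f93670 : Led Lsl_ct (LP (LK LD1_c3 LD2_c28 LD3_c43)) = (LP (LK LD1_c3 LD2_c16 LD3_c12)) :=
  Lgr Lrot59 (Lpr_cf (f93662 IH) (Lpn (LP (LK LD1_c3 LD2_c16 LD3_c12))))
theorem f88684 : Led Lsl_ct (LP (LK LD1_c7 LD2_c48 LD3_c48)) = (LP (LK LD1_c3 LD2_c53 LD3_c37)) :=
  Lre_c IH (LK LD1_c7 LD2_c48 LD3_c48) (LK LD1_c3 LD2_c53 LD3_c37) Lrfl Lrfl
theorem f88685 : Led Lsl_dt (LP (LK LD1_c14 LD2_c44 LD3_c39)) = (LP (LK LD1_c7 LD2_c48 LD3_c48)) :=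
  Lre_d IH (LK LD1_c14 LD2_c44 LD3_c39) (LK LD1_c7 LD2_c48 LD3_c48) Lrfl Lrfl
theorem f64600 : Led Lsl_et (LP (LK LD1_c1 LD2_c35 LD3_c23)) = (LP (LK LD1_c0 LD2_c44 LD3_c18)) :=
  Lre_e IH (LK LD1_c1 LD2_c35 LD3_c23) (LK LD1_c0 LD2_c44 LD3_c18) Lrfl Lrfl
theorem f64601 : Led Lsl_ct (LP (LK LD1_c1 LD2_c41 LD3_c12)) = (LP (LK LD1_c1 LD2_c35 LD3_c23)) :=
  Lgr Lrot15 (Lpe (K3.f64599 IH) (Lpr_cf (K1.f64478 IH) (Lpe (f64600 IH) (Lpn (LP (LK LD1_c1 LD2_c35 LD3_c23))))))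
theorem f93667 : Led Lsl_at (LP (LK LD1_c1 LD2_c35 LD3_c23)) = (LP (LK LD1_c3 LD2_c16 LD3_c12)) :=
  Lgr Lrot107 (Lpe (f64601 IH) (Lpe (K3.f66587 IH) (Lpr_cf (f93662 IH) (Lpn (LP (LK LD1_c3 LD2_c16 LD3_c12))))))
theorem f93431 : Led Lsl_ft (LP (LK LD1_c3 LD2_c17 LD3_c40)) = (LP (LK LD1_c1 LD2_c35 LD3_c23)) :=
  Lre_f IH (LK LD1_c3 LD2_c17 LD3_c40) (LK LD1_c1 LD2_c35 LD3_c23) Lrfl Lrfl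
theorem f93700 : Led Lsl_dt (LP (LK LD1_c3 LD2_c17 LD3_c40)) = (LP (LK LD1_c6 LD2_c38 LD3_c50)) :=
  Lre_d IH (LK LD1_c3 LD2_c17 LD3_c40) (LK LD1_c6 LD2_c38 LD3_c50) Lrfl Lrfl
theorem f93701 : Led Lsl_ct (LP (LK LD1_c6 LD2_c38 LD3_c50)) = (LP (LK LD1_c12 LD2_c43 LD3_c20)) :=
  Lre_c IH (LK LD1_c6 LD2_c38 LD3_c50) (LK LD1_c12 LD2_c43 LD3_c20) Lrfl Lrfl
theorem f93702 : Led Lsl_dt (LP (LK LD1_c12 LD2_c43 LD3_c20)) = (LP (LK LD1_c21 LD2_c50 LD3_c39)) :=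
  Lre_d IH (LK LD1_c12 LD2_c43 LD3_c20) (LK LD1_c21 LD2_c50 LD3_c39) Lrfl Lrfl
theorem f93703 : Led Lsl_cf (LP (LK LD1_c14 LD2_c44 LD3_c39)) = (LP (LK LD1_c21 LD2_c50 LD3_c39)) :=
  Lgr Lrot116 (Lpr_dt (f88685 IH) (Lpr_ct (f88684 IH) (Lpr_dt (K3.f88677 IH) (Lpr_ct (f93670 IH) (Lpe (f93667 IH) (Lpe (f93431 IH) (Lpr_dt (f93700 IH) (Lpr_ct (f93701 IH) (Lpr_dt (f93702 IH) (Lpn (LP (LK LD1_c21 LD2_c50 LD3_c39))))))))))))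
theorem f93705 : Led Lsl_ft (LP (LK LD1_c12 LD2_c43 LD3_c20)) = (LP (LK LD1_c6 LD2_c38 LD3_c49)) :=
  Lre_f IH (LK LD1_c12 LD2_c43 LD3_c20) (LK LD1_c6 LD2_c38 LD3_c49) Lrfl Lrfl
theorem f93698 : Led Lsl_dt (LP (LK LD1_c3 LD2_c16 LD3_c12)) = (LP (LK LD1_c6 LD2_c35 LD3_c41)) :=
  Lre_d IH (LK LD1_c3 LD2_c16 LD3_c12) (LK LD1_c6 LD2_c35 LD3_c41) Lrfl Lrfl
theorem f93691 : Led Lsl_ct (LP (LK LD1_c6 LD2_c35 LD3_c41)) = (LP (LK LD1_c12 LD2_c37 LD3_c26)) :=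
  Lre_c IH (LK LD1_c6 LD2_c35 LD3_c41) (LK LD1_c12 LD2_c37 LD3_c26) Lrfl Lrfl
theorem f93706 : Led Lsl_at (LP (LK LD1_c6 LD2_c38 LD3_c49)) = (LP (LK LD1_c12 LD2_c37 LD3_c26)) :=
  Lgr Lrot33 (Lpe (f93705 IH) (Lpr_dt (f93702 IH) (Lpe (f93703 IH) (Lpr_dt (f88685 IH) (Lpr_ct (f88684 IH) (Lpr_dt (K3.f88677 IH) (Lpr_ct (f93670 IH) (Lpr_dt (f93698 IH) (Lpr_ct (f93691 IH) (Lpn (LP (LK LD1_c12 LD2_c37 LD3_c26))))))))))))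
theorem f93723 : Led Lsl_et (LP (LK LD1_c12 LD2_c43 LD3_c11)) = (LP (LK LD1_c6 LD2_c38 LD3_c49)) :=
  Lre_e IH (LK LD1_c12 LD2_c43 LD3_c11) (LK LD1_c6 LD2_c38 LD3_c49) Lrfl Lrfl
theorem f93724 : Led Lsl_et (LP (LK LD1_c12 LD2_c37 LD3_c26)) = (LP (LK LD1_c21 LD2_c43 LD3_c46)) :=
  Lre_e IH (LK LD1_c12 LD2_c37 LD3_c26) (LK LD1_c21 LD2_c43 LD3_c46) Lrfl Lrfl
theorem f93725 : Led Lsl_af (LP (LK LD1_c12 LD2_c43 LD3_c11)) = (LP (LK LD1_c21 LD2_c43 LD3_c46)) :=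
  Lgr Lrot50 (Lpr_et (f93723 IH) (Lpr_at (f93706 IH) (Lpr_et (f93724 IH) (Lpn (LP (LK LD1_c21 LD2_c43 LD3_c46))))))
theorem f64843 : Led Lsl_ct (LP (LK LD1_c12 LD2_c43 LD3_c11)) = (LP (LK LD1_c6 LD2_c38 LD3_c45)) :=
  Lre_c IH (LK LD1_c12 LD2_c43 LD3_c11) (LK LD1_c6 LD2_c38 LD3_c45) Lrfl Lrfl
theorem f93538 : Led Lsl_ct (LP (LK LD1_c12 LD2_c37 LD3_c22)) = (LP (LK LD1_c21 LD2_c43 LD3_c46)) :=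
  Lre_c IH (LK LD1_c12 LD2_c37 LD3_c22) (LK LD1_c21 LD2_c43 LD3_c46) Lrfl Lrfl
theorem f93730 : Led Lsl_at (LP (LK LD1_c6 LD2_c38 LD3_c45)) = (LP (LK LD1_c12 LD2_c37 LD3_c22)) :=
  Lgr Lrot107 (Lpe (f64843 IH) (Lpr_af (f93725 IH) (Lpe (f93538 IH) (Lpn (LP (LK LD1_c12 LD2_c37 LD3_c22))))))
theorem f64888 : Led Lsl_ft (LP (LK LD1_c12 LD2_c43 LD3_c12)) = (LP (LK LD1_c6 LD2_c38 LD3_c45)) :=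
  Lre_f IH (LK LD1_c12 LD2_c43 LD3_c12) (LK LD1_c6 LD2_c38 LD3_c45) Lrfl Lrfl
theorem f93525 : Led Lsl_gt (LP (LK LD1_c21 LD2_c43 LD3_c45)) = (LP (LK LD1_c12 LD2_c37 LD3_c22)) :=
  Lre_g IH (LK LD1_c21 LD2_c43 LD3_c45) (LK LD1_c12 LD2_c37 LD3_c22) Lrfl Lrfl
theorem f93890 : Led Lsl_gt (LP (LK LD1_c12 LD2_c43 LD3_c12)) = (LP (LK LD1_c21 LD2_c43 LD3_c45)) :=
  Lgr Lrot5 (Lpr_ft (f64888 IH) (Lpr_at (f93730 IH) (Lpe (f93525 IH) (Lpn (LP (LK LD1_c21 LD2_c43 LD3_c45))))))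
theorem f66409 : Led Lsl_gt (LP (LK LD1_c3 LD2_c17 LD3_c60)) = (LP (LK LD1_c6 LD2_c39 LD3_c40)) :=
  Lre_g IH (LK LD1_c3 LD2_c17 LD3_c60) (LK LD1_c6 LD2_c39 LD3_c40) Lrfl Lrfl
theorem f66430 : Led Lsl_et (LP (LK LD1_c12 LD2_c45 LD3_c12)) = (LP (LK LD1_c6 LD2_c39 LD3_c40)) :=
  Lre_e IH (LK LD1_c12 LD2_c45 LD3_c12) (LK LD1_c6 LD2_c39 LD3_c40) Lrfl Lrfl
theorem f93451 : Led Lsl_et (LP (LK LD1_c6 LD2_c35 LD3_c40)) = (LP (LK LD1_c3 LD2_c16 LD3_c11)) :=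
  Lre_e IH (LK LD1_c6 LD2_c35 LD3_c40) (LK LD1_c3 LD2_c16 LD3_c11) Lrfl Lrfl
theorem f93471 : Led Lsl_dt (LP (LK LD1_c6 LD2_c35 LD3_c40)) = (LP (LK LD1_c12 LD2_c37 LD3_c22)) :=
  Lre_d IH (LK LD1_c6 LD2_c35 LD3_c40) (LK LD1_c12 LD2_c37 LD3_c22) Lrfl Lrfl
theorem f93526 : Led Lsl_dt (LP (LK LD1_c12 LD2_c45 LD3_c12)) = (LP (LK LD1_c21 LD2_c43 LD3_c45)) :=
  Lgr Lrot136 (Lpr_et (f66430 IH) (Lpe (f66409 IH) (Lpe (K3.f65692 IH) (Lpe (K1.f65689 IH) (Lpr_gf (K1.f65640 IH) (Lpe (K3.f62957 IH) (Lpr_gf (K3.f93463 IH) (Lpe (f93451 IH) (Lpr_dt (f93471 IH) (Lpe (f93525 IH) (Lpn (LP (LK LD1_c21 LD2_c43 LD3_c45)))))))))))))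
theorem f105289 : Led Lsl_at (LP (LK LD1_c6 LD2_c39 LD3_c43)) = (LP (LK LD1_c12 LD2_c1 LD3_c61)) :=
  Lgr Lrot100 (Lpr_af (K3.f105285 IH) (Lpn (LP (LK LD1_c12 LD2_c1 LD3_c61))))
theorem f105298 : Led Lsl_gt (LP (LK LD1_c6 LD2_c39 LD3_c40)) = (LP (LK LD1_c12 LD2_c1 LD3_c61)) :=
  Lgr Lrot46 (Lpe (f66409 IH) (Lpr_ft (K3.f96031 IH) (Lpr_at (f105289 IH) (Lpn (LP (LK LD1_c12 LD2_c1 LD3_c61))))))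
theorem f65088 : Led Lsl_dt (LP (LK LD1_c12 LD2_c1 LD3_c61)) = (LP (LK LD1_c21 LD2_c7 LD3_c23)) :=
  Lre_d IH (LK LD1_c12 LD2_c1 LD3_c61) (LK LD1_c21 LD2_c7 LD3_c23) Lrfl Lrfl
theorem f66415 : Led Lsl_gt (LP (LK LD1_c12 LD2_c45 LD3_c16)) = (LP (LK LD1_c6 LD2_c39 LD3_c42)) :=
  Lre_g IH (LK LD1_c12 LD2_c45 LD3_c16) (LK LD1_c6 LD2_c39 LD3_c42) Lrfl Lrfl
theorem f105277 : Led Lsl_gf (LP (LK LD1_c12 LD2_c45 LD3_c16)) = (LP (LK LD1_c21 LD2_c7 LD3_c23)) :=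
  Lgr Lrot47 (Lpr_gt (f66415 IH) (Lpr_af (K3.f105269 IH) (Lpe (K3.f65085 IH) (Lpn (LP (LK LD1_c21 LD2_c7 LD3_c23))))))
theorem f105280 : Led Lsl_dt (LP (LK LD1_c12 LD2_c42 LD3_c44)) = (LP (LK LD1_c12 LD2_c45 LD3_c16)) :=
  Lre_d IH (LK LD1_c12 LD2_c42 LD3_c44) (LK LD1_c12 LD2_c45 LD3_c16) Lrfl Lrfl
theorem f105281 : Led Lsl_et (LP (LK LD1_c12 LD2_c42 LD3_c44)) = (LP (LK LD1_c6 LD2_c38 LD3_c29)) :=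
  Lre_e IH (LK LD1_c12 LD2_c42 LD3_c44) (LK LD1_c6 LD2_c38 LD3_c29) Lrfl Lrfl
theorem f112063 : Led Lsl_gf (LP (LK LD1_c12 LD2_c27 LD3_c53)) = (LP (LK LD1_c6 LD2_c38 LD3_c29)) :=
  Lgr Lrot141 (Lpr_ef (f112052 IH) (Lpr_dt (f64879 IH) (Lpr_gt (f93890 IH) (Lpe (f93526 IH) (Lpr_et (f66430 IH) (Lpr_gt (f105298 IH) (Lpr_dt (f65088 IH) (Lpe (f105277 IH) (Lpe (f105280 IH) (Lpr_et (f105281 IH) (Lpn (LP (LK LD1_c6 LD2_c38 LD3_c29)))))))))))))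
theorem f87212 : Led Lsl_gt (LP (LK LD1_c3 LD2_c17 LD3_c33)) = (LP (LK LD1_c6 LD2_c38 LD3_c29)) :=
  Lre_g IH (LK LD1_c3 LD2_c17 LD3_c33) (LK LD1_c6 LD2_c38 LD3_c29) Lrfl Lrfl
theorem f87266 : Led Lsl_ft (LP (LK LD1_c3 LD2_c17 LD3_c33)) = (LP (LK LD1_c6 LD2_c38 LD3_c32)) :=
  Lre_f IH (LK LD1_c3 LD2_c17 LD3_c33) (LK LD1_c6 LD2_c38 LD3_c32) Lrfl Lrfl
theorem f112065 : Led Lsl_af (LP (LK LD1_c12 LD2_c27 LD3_c53)) = (LP (LK LD1_c6 LD2_c38 LD3_c32)) :=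
  Lgr Lrot31 (Lpr_gf (f112063 IH) (Lpe (f87212 IH) (Lpr_ft (f87266 IH) (Lpn (LP (LK LD1_c6 LD2_c38 LD3_c32))))))
theorem f112061 : Led Lsl_ft (LP (LK LD1_c12 LD2_c27 LD3_c53)) = (LP (LK LD1_c6 LD2_c28 LD3_c21)) :=
  Lre_f IH (LK LD1_c12 LD2_c27 LD3_c53) (LK LD1_c6 LD2_c28 LD3_c21) Lrfl Lrfl
theorem f112071 : Led Lsl_at (LP (LK LD1_c6 LD2_c28 LD3_c21)) = (LP (LK LD1_c3 LD2_c17 LD3_c33)) :=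
  Lgr Lrot66 (Lpe (f112061 IH) (Lpr_af (f112065 IH) (Lpe (f87266 IH) (Lpn (LP (LK LD1_c3 LD2_c17 LD3_c33))))))
theorem f112075 : Led Lsl_et (LP (LK LD1_c3 LD2_c12 LD3_c8)) = (LP (LK LD1_c6 LD2_c28 LD3_c21)) :=
  Lre_e IH (LK LD1_c3 LD2_c12 LD3_c8) (LK LD1_c6 LD2_c28 LD3_c21) Lrfl Lrfl
theorem f87330 : Led Lsl_et (LP (LK LD1_c3 LD2_c17 LD3_c33)) = (LP (LK LD1_c1 LD2_c35 LD3_c19)) :=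
  Lre_e IH (LK LD1_c3 LD2_c17 LD3_c33) (LK LD1_c1 LD2_c35 LD3_c19) Lrfl Lrfl
theorem f112076 : Led Lsl_af (LP (LK LD1_c3 LD2_c12 LD3_c8)) = (LP (LK LD1_c1 LD2_c35 LD3_c19)) :=
  Lgr Lrot50 (Lpr_et (f112075 IH) (Lpr_at (f112071 IH) (Lpr_et (f87330 IH) (Lpn (LP (LK LD1_c1 LD2_c35 LD3_c19))))))
theorem f64892 : Led Lsl_ct (LP (LK LD1_c6 LD2_c38 LD3_c45)) = (LP (LK LD1_c12 LD2_c43 LD3_c11)) :=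
  Lre_c IH (LK LD1_c6 LD2_c38 LD3_c45) (LK LD1_c12 LD2_c43 LD3_c11) Lrfl Lrfl
theorem f64284 : Led Lsl_dt (LP (LK LD1_c3 LD2_c17 LD3_c38)) = (LP (LK LD1_c6 LD2_c38 LD3_c45)) :=
  Lre_d IH (LK LD1_c3 LD2_c17 LD3_c38) (LK LD1_c6 LD2_c38 LD3_c45) Lrfl Lrfl
theorem f64836 : Led Lsl_ct (LP (LK LD1_c1 LD2_c51 LD3_c22)) = (LP (LK LD1_c3 LD2_c17 LD3_c38)) :=
  Lgr Lrot59 (Lpr_cf (f64615 IH) (Lpn (LP (LK LD1_c3 LD2_c17 LD3_c38))))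
theorem f64855 : Led Lsl_dt (LP (LK LD1_c3 LD2_c48 LD3_c44)) = (LP (LK LD1_c1 LD2_c51 LD3_c22)) :=
  Lre_d IH (LK LD1_c3 LD2_c48 LD3_c44) (LK LD1_c1 LD2_c51 LD3_c22) Lrfl Lrfl
theorem f64858 : Led Lsl_ct (LP (LK LD1_c7 LD2_c38 LD3_c36)) = (LP (LK LD1_c3 LD2_c48 LD3_c44)) :=
  Lre_c IH (LK LD1_c7 LD2_c38 LD3_c36) (LK LD1_c3 LD2_c48 LD3_c44) Lrfl Lrfl
theorem f64890 : Led Lsl_dt (LP (LK LD1_c14 LD2_c24 LD3_c21)) = (LP (LK LD1_c7 LD2_c38 LD3_c36)) :=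
  Lre_d IH (LK LD1_c14 LD2_c24 LD3_c21) (LK LD1_c7 LD2_c38 LD3_c36) Lrfl Lrfl
theorem f64891 : Led Lsl_ct (LP (LK LD1_c24 LD2_c3 LD3_c18)) = (LP (LK LD1_c14 LD2_c24 LD3_c21)) :=
  Lre_c IH (LK LD1_c24 LD2_c3 LD3_c18) (LK LD1_c14 LD2_c24 LD3_c21) Lrfl Lrfl
theorem f93733 : Led Lsl_ft (LP (LK LD1_c30 LD2_c8 LD3_c5)) = (LP (LK LD1_c21 LD2_c43 LD3_c46)) :=
  Lre_f IH (LK LD1_c30 LD2_c8 LD3_c5) (LK LD1_c21 LD2_c43 LD3_c46) Lrfl Lrfl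
theorem f93738 : Led Lsl_df (LP (LK LD1_c24 LD2_c3 LD3_c18)) = (LP (LK LD1_c30 LD2_c8 LD3_c5)) :=
  Lgr Lrot157 (Lpr_ct (f64891 IH) (Lpr_dt (f64890 IH) (Lpr_ct (f64858 IH) (Lpr_dt (f64855 IH) (Lpr_ct (f64836 IH) (Lpr_dt (f64284 IH) (Lpr_ct (f64892 IH) (Lpr_af (f93725 IH) (Lpe (f93733 IH) (Lpn (LP (LK LD1_c30 LD2_c8 LD3_c5))))))))))))
theorem f93741 : Led Lsl_ct (LP (LK LD1_c21 LD2_c43 LD3_c47)) = (LP (LK LD1_c30 LD2_c8 LD3_c5)) :=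
  Lre_c IH (LK LD1_c21 LD2_c43 LD3_c47) (LK LD1_c30 LD2_c8 LD3_c5) Lrfl Lrfl
theorem f93742 : Led Lsl_dt (LP (LK LD1_c12 LD2_c37 LD3_c23)) = (LP (LK LD1_c21 LD2_c43 LD3_c47)) :=
  Lre_d IH (LK LD1_c12 LD2_c37 LD3_c23) (LK LD1_c21 LD2_c43 LD3_c47) Lrfl Lrfl
theorem f93749 : Led Lsl_ft (LP (LK LD1_c12 LD2_c37 LD3_c23)) = (LP (LK LD1_c6 LD2_c35 LD3_c40)) :=
  Lre_f IH (LK LD1_c12 LD2_c37 LD3_c23) (LK LD1_c6 LD2_c35 LD3_c40) Lrfl Lrfl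
theorem f93750 : Led Lsl_af (LP (LK LD1_c3 LD2_c17 LD3_c38)) = (LP (LK LD1_c6 LD2_c35 LD3_c40)) :=
  Lgr Lrot109 (Lpe (f64836 IH) (Lpe (f64855 IH) (Lpe (f64858 IH) (Lpe (f64890 IH) (Lpe (f64891 IH) (Lpr_df (f93738 IH) (Lpe (f93741 IH) (Lpe (f93742 IH) (Lpr_ft (f93749 IH) (Lpn (LP (LK LD1_c6 LD2_c35 LD3_c40))))))))))))
theorem f64887 : Led Lsl_ft (LP (LK LD1_c3 LD2_c17 LD3_c38)) = (LP (LK LD1_c6 LD2_c38 LD3_c46)) :=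
  Lre_f IH (LK LD1_c3 LD2_c17 LD3_c38) (LK LD1_c6 LD2_c38 LD3_c46) Lrfl Lrfl
theorem f93757 : Led Lsl_at (LP (LK LD1_c6 LD2_c38 LD3_c46)) = (LP (LK LD1_c12 LD2_c37 LD3_c23)) :=
  Lgr Lrot66 (Lpe (f64887 IH) (Lpr_af (f93750 IH) (Lpe (f93749 IH) (Lpn (LP (LK LD1_c12 LD2_c37 LD3_c23))))))
theorem f93766 : Led Lsl_cf (LP (LK LD1_c7 LD2_c34 LD3_c60)) = (LP (LK LD1_c12 LD2_c37 LD3_c23)) :=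
  Lgr Lrot1 (Lpr_at (K2.f87738 IH) (Lpr_ct (f64847 IH) (Lpr_at (f93757 IH) (Lpn (LP (LK LD1_c12 LD2_c37 LD3_c23))))))
theorem f87183 : Led Lsl_et (LP (LK LD1_c1 LD2_c35 LD3_c19)) = (LP (LK LD1_c3 LD2_c17 LD3_c33)) :=
  Lre_e IH (LK LD1_c1 LD2_c35 LD3_c19) (LK LD1_c3 LD2_c17 LD3_c33) Lrfl Lrfl
theorem f87185 : Led Lsl_ct (LP (LK LD1_c3 LD2_c17 LD3_c33)) = (LP (LK LD1_c1 LD2_c51 LD3_c46)) :=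
  Lgr Lrot15 (Lpe (f87183 IH) (Lpr_cf (K2.f84974 IH) (Lpe (K2.f87184 IH) (Lpn (LP (LK LD1_c1 LD2_c51 LD3_c46))))))
theorem f87207 : Led Lsl_ft (LP (LK LD1_c6 LD2_c38 LD3_c32)) = (LP (LK LD1_c3 LD2_c17 LD3_c33)) :=
  Lre_f IH (LK LD1_c6 LD2_c38 LD3_c32) (LK LD1_c3 LD2_c17 LD3_c33) Lrfl Lrfl
theorem f87208 : Led Lsl_ft (LP (LK LD1_c1 LD2_c51 LD3_c46)) = (LP (LK LD1_c3 LD2_c49 LD3_c33)) :=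
  Lre_f IH (LK LD1_c1 LD2_c51 LD3_c46) (LK LD1_c3 LD2_c49 LD3_c33) Lrfl Lrfl
theorem f87209 : Led Lsl_cf (LP (LK LD1_c6 LD2_c38 LD3_c32)) = (LP (LK LD1_c3 LD2_c49 LD3_c33)) :=
  Lgr Lrot108 (Lpr_ft (f87207 IH) (Lpr_ct (f87185 IH) (Lpr_ft (f87208 IH) (Lpn (LP (LK LD1_c3 LD2_c49 LD3_c33))))))
theorem f93848 : Led Lsl_et (LP (LK LD1_c6 LD2_c38 LD3_c32)) = (LP (LK LD1_c12 LD2_c37 LD3_c23)) :=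
  Lgr Lrot158 (Lpr_cf (f87209 IH) (Lpe (K2.f87800 IH) (Lpr_cf (f93766 IH) (Lpn (LP (LK LD1_c12 LD2_c37 LD3_c23))))))
theorem f93853 : Led Lsl_ff (LP (LK LD1_c1 LD2_c35 LD3_c19)) = (LP (LK LD1_c3 LD2_c16 LD3_c11)) :=
  Lgr Lrot72 (Lpr_et (f87183 IH) (Lpr_ft (f87266 IH) (Lpr_et (f93848 IH) (Lpr_ft (f93749 IH) (Lpr_et (f93451 IH) (Lpn (LP (LK LD1_c3 LD2_c16 LD3_c11))))))))
theorem f112086 : Led Lsl_gf (LP (LK LD1_c3 LD2_c12 LD3_c8)) = (LP (LK LD1_c3 LD2_c1 LD3_c43)) :=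
  Lgr Lrot76 (Lpr_af (f112076 IH) (Lpr_ff (f93853 IH) (Lpe (K3.f93463 IH) (Lpn (LP (LK LD1_c3 LD2_c1 LD3_c43))))))
theorem f112088 : Led Lsl_ft (LP (LK LD1_c3 LD2_c1 LD3_c43)) = (LP (LK LD1_c1 LD2_c41 LD3_c47)) :=
  Lre_f IH (LK LD1_c3 LD2_c1 LD3_c43) (LK LD1_c1 LD2_c41 LD3_c47) Lrfl Lrfl
theorem f112089 : Led Lsl_at (LP (LK LD1_c1 LD2_c41 LD3_c47)) = (LP (LK LD1_c3 LD2_c2 LD3_c9)) :=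
  Lre_a IH (LK LD1_c1 LD2_c41 LD3_c47) (LK LD1_c3 LD2_c2 LD3_c9) Lrfl Lrfl
theorem f112090 : Led Lsl_gt (LP (LK LD1_c3 LD2_c12 LD3_c8)) = (LP (LK LD1_c3 LD2_c2 LD3_c9)) :=
  Lgr Lrot46 (Lpr_gf (f112086 IH) (Lpr_ft (f112088 IH) (Lpr_at (f112089 IH) (Lpn (LP (LK LD1_c3 LD2_c2 LD3_c9))))))
theorem f62926 : Led Lsl_bt (LP (LK LD1_c1 LD2_c32 LD3_c35)) = (LP (LK LD1_c3 LD2_c12 LD3_c8)) :=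
  Lre_b IH (LK LD1_c1 LD2_c32 LD3_c35) (LK LD1_c3 LD2_c12 LD3_c8) Lrfl Lrfl
theorem f5865 : Led Lsl_bt (LP (LK LD1_c0 LD2_c0 LD3_c21)) = (LP (LK LD1_c0 LD2_c0 LD3_c39)) :=
  Lre_b IH (LK LD1_c0 LD2_c0 LD3_c21) (LK LD1_c0 LD2_c0 LD3_c39) Lrfl Lrfl
theorem f113026 : Led Lsl_df (LP (LK LD1_c0 LD2_c42 LD3_c54)) = (LP (LK LD1_c0 LD2_c30 LD3_c30)) :=
  Lgr Lrot183 (Lpr_ct (f62867 IH) (Lpr_bt (f62926 IH) (Lpr_gt (f112090 IH) (Lpr_dt (K3.f62857 IH) (Lpr_ct (K2.f62871 IH) (Lpr_bt (K2.f22501 IH) (Lpe (K0.f20068 IH) (Lpr_dt (K0.f20066 IH) (Lpe (K0.f20074 IH) (Lpr_bt (K0.f3821 IH) (Lpe (K0.f11874 IH) (Lpr_dt (K0.f5863 IH) (Lpr_ct (K0.f5847 IH) (Lpr_bt (f5865 IH) (Lpr_gt (K0.f7168 IH) (Lpr_dt (K0.f7182 IH) (Lpr_ct (K0.f26046 IH) (Lpr_bt (K3.f61636 IH) (Lpr_gt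 (K3.f61673 IH) (Lpn (LP (LK LD1_c0 LD2_c30 LD3_c30))))))))))))))))))))))
theorem f62904 : Led Lsl_bt (LP (LK LD1_c1 LD2_c32 LD3_c34)) = (LP (LK LD1_c0 LD2_c42 LD3_c54)) :=
  Lre_b IH (LK LD1_c1 LD2_c32 LD3_c34) (LK LD1_c0 LD2_c42 LD3_c54) Lrfl Lrfl
theorem f89390 : Led Lsl_bt (LP (LK LD1_c0 LD2_c41 LD3_c29)) = (LP (LK LD1_c1 LD2_c29 LD3_c41)) :=
  Lre_b IH (LK LD1_c0 LD2_c41 LD3_c29) (LK LD1_c1 LD2_c29 LD3_c41) Lrfl Lrfl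
theorem f112010 : Led Lsl_ft (LP (LK LD1_c0 LD2_c42 LD3_c54)) = (LP (LK LD1_c0 LD2_c41 LD3_c29)) :=
  Lgr Lrot75 (Lpe (f62904 IH) (Lpr_ff (f111901 IH) (Lpe (f89390 IH) (Lpn (LP (LK LD1_c0 LD2_c41 LD3_c29))))))
theorem f89451 : Led Lsl_dt (LP (LK LD1_c0 LD2_c41 LD3_c29)) = (LP (LK LD1_c0 LD2_c18 LD3_c33)) :=
  Lre_d IH (LK LD1_c0 LD2_c41 LD3_c29) (LK LD1_c0 LD2_c18 LD3_c33) Lrfl Lrfl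
theorem f113066 : Led Lsl_ft (LP (LK LD1_c0 LD2_c18 LD3_c33)) = (LP (LK LD1_c0 LD2_c30 LD3_c30)) :=
  Lgr Lrot54 (Lpe (f89451 IH) (Lpe (f112010 IH) (Lpr_df (f113026 IH) (Lpn (LP (LK LD1_c0 LD2_c30 LD3_c30))))))
theorem f113075 : Led Lsl_ff (LP (LK LD1_c0 LD2_c18 LD3_c33)) = (LP (LK LD1_c0 LD2_c30 LD3_c30)) :=
  Lgr Lrot3 (Lpr_ft (f113066 IH) (Lpn (LP (LK LD1_c0 LD2_c30 LD3_c30))))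
theorem f113079 : Led Lsl_ft (LP (LK LD1_c0 LD2_c41 LD3_c28)) = (LP (LK LD1_c1 LD2_c6 LD3_c38)) :=
  Lgr Lrot4 (Lpe (K1.f24971 IH) (Lpr_ff (f113075 IH) (Lpe (K3.f61674 IH) (Lpn (LP (LK LD1_c1 LD2_c6 LD3_c38))))))
theorem f113084 : Led Lsl_af (LP (LK LD1_c0 LD2_c41 LD3_c32)) = (LP (LK LD1_c1 LD2_c6 LD3_c38)) :=
  Lgr Lrot31 (Lpr_gf (K3.f66650 IH) (Lpe (K1.f24974 IH) (Lpr_ft (f113079 IH) (Lpn (LP (LK LD1_c1 LD2_c6 LD3_c38))))))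
theorem f61707 : Led Lsl_ct (LP (LK LD1_c0 LD2_c30 LD3_c30)) = (LP (LK LD1_c1 LD2_c6 LD3_c38)) :=
  Lre_c IH (LK LD1_c0 LD2_c30 LD3_c30) (LK LD1_c1 LD2_c6 LD3_c38) Lrfl Lrfl
theorem f113088 : Led Lsl_at (LP (LK LD1_c0 LD2_c18 LD3_c34)) = (LP (LK LD1_c0 LD2_c30 LD3_c30)) :=
  Lgr Lrot107 (Lpe (K3.f57580 IH) (Lpr_af (f113084 IH) (Lpe (f61707 IH) (Lpn (LP (LK LD1_c0 LD2_c30 LD3_c30))))))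
theorem f113094 : Led Lsl_ff (LP (LK LD1_c0 LD2_c18 LD3_c34)) = (LP (LK LD1_c0 LD2_c30 LD3_c31)) :=
  Lgr Lrot52 (Lpr_at (f113088 IH) (Lpe (K3.f61673 IH) (Lpe (K3.f61637 IH) (Lpn (LP (LK LD1_c0 LD2_c30 LD3_c31))))))
theorem f113103 : Led Lsl_ft (LP (LK LD1_c0 LD2_c18 LD3_c34)) = (LP (LK LD1_c0 LD2_c30 LD3_c31)) :=
  Lgr Lrot48 (Lpr_ff (f113094 IH) (Lpn (LP (LK LD1_c0 LD2_c30 LD3_c31))))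
theorem f113109 : Led Lsl_ff (LP (LK LD1_c0 LD2_c41 LD3_c32)) = (LP (LK LD1_c1 LD2_c6 LD3_c40)) :=
  Lgr Lrot23 (Lpr_ct (K3.f57580 IH) (Lpr_ft (f113103 IH) (Lpr_ct (K3.f61659 IH) (Lpn (LP (LK LD1_c1 LD2_c6 LD3_c40))))))
theorem f113086 : Led Lsl_at (LP (LK LD1_c0 LD2_c41 LD3_c32)) = (LP (LK LD1_c1 LD2_c6 LD3_c38)) :=
  Lgr Lrot100 (Lpr_af (f113084 IH) (Lpn (LP (LK LD1_c1 LD2_c6 LD3_c38))))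
theorem f110007 : Led Lsl_gt (LP (LK LD1_c1 LD2_c6 LD3_c40)) = (LP (LK LD1_c1 LD2_c5 LD3_c32)) :=
  Lgr Lrot46 (Lpe (K3.f67045 IH) (Lpr_ft (K3.f110001 IH) (Lpe (K3.f77970 IH) (Lpn (LP (LK LD1_c1 LD2_c5 LD3_c32))))))
theorem f113114 : Led Lsl_gf (LP (LK LD1_c1 LD2_c6 LD3_c38)) = (LP (LK LD1_c1 LD2_c5 LD3_c32)) :=
  Lgr Lrot76 (Lpe (f113086 IH) (Lpr_ff (f113109 IH) (Lpr_gt (f110007 IH) (Lpn (LP (LK LD1_c1 LD2_c5 LD3_c32))))))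
theorem f61710 : Led Lsl_bt (LP (LK LD1_c0 LD2_c30 LD3_c30)) = (LP (LK LD1_c1 LD2_c6 LD3_c37)) :=
  Lre_b IH (LK LD1_c0 LD2_c30 LD3_c30) (LK LD1_c1 LD2_c6 LD3_c37) Lrfl Lrfl
theorem f113116 : Led Lsl_gt (LP (LK LD1_c1 LD2_c6 LD3_c37)) = (LP (LK LD1_c1 LD2_c40 LD3_c53)) :=
  Lgr Lrot82 (Lpe (f61710 IH) (Lpr_ct (f61707 IH) (Lpr_gf (f113114 IH) (Lpr_cf (K2.f77845 IH) (Lpe (K3.f77843 IH) (Lpr_gf (K2.f77794 IH) (Lpe (K2.f62328 IH) (Lpe (K2.f62331 IH) (Lpr_gf (K2.f25025 IH) (Lpe (K2.f17666 IH) (Lpn (LP (LK LD1_c1 LD2_c40 LD3_c53)))))))))))))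
theorem f24976 : Led Lsl_bt (LP (LK LD1_c0 LD2_c41 LD3_c27)) = (LP (LK LD1_c0 LD2_c18 LD3_c33)) :=
  Lre_b IH (LK LD1_c0 LD2_c41 LD3_c27) (LK LD1_c0 LD2_c18 LD3_c33) Lrfl Lrfl
theorem f113070 : Led Lsl_ff (LP (LK LD1_c0 LD2_c41 LD3_c27)) = (LP (LK LD1_c1 LD2_c6 LD3_c37)) :=
  Lgr Lrot25 (Lpr_bt (f24976 IH) (Lpr_ft (f113066 IH) (Lpr_bt (f61710 IH) (Lpn (LP (LK LD1_c1 LD2_c6 LD3_c37))))))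
theorem f62651 : Led Lsl_at (LP (LK LD1_c0 LD2_c41 LD3_c27)) = (LP (LK LD1_c1 LD2_c29 LD3_c40)) :=
  Lre_a IH (LK LD1_c0 LD2_c41 LD3_c27) (LK LD1_c1 LD2_c29 LD3_c40) Lrfl Lrfl
theorem f113120 : Led Lsl_gf (LP (LK LD1_c1 LD2_c29 LD3_c40)) = (LP (LK LD1_c1 LD2_c40 LD3_c53)) :=
  Lgr Lrot76 (Lpe (f62651 IH) (Lpr_ff (f113070 IH) (Lpr_gt (f113116 IH) (Lpn (LP (LK LD1_c1 LD2_c40 LD3_c53))))))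
theorem f21172 : Led Lsl_bt (LP (LK LD1_c0 LD2_c46 LD3_c58)) = (LP (LK LD1_c1 LD2_c40 LD3_c53)) :=
  Lre_b IH (LK LD1_c0 LD2_c46 LD3_c58) (LK LD1_c1 LD2_c40 LD3_c53) Lrfl Lrfl
theorem f113327 : Led Lsl_bf (LP (LK LD1_c1 LD2_c29 LD3_c40)) = (LP (LK LD1_c2 LD2_c17 LD3_c7)) :=
  Lgr Lrot34 (Lpr_gf (f113120 IH) (Lpe (f21172 IH) (Lpr_ct (K2.f17656 IH) (Lpe (K1.f17649 IH) (Lpr_cf (K2.f21163 IH) (Lpe (K2.f90110 IH) (Lpe (K3.f99140 IH) (Lpr_ct (K3.f58752 IH) (Lpr_gf (K3.f99148 IH) (Lpe (K3.f61643 IH) (Lpn (LP (LK LD1_c2 LD2_c17 LD3_c7)))))))))))))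
theorem f62673 : Led Lsl_at (LP (LK LD1_c0 LD2_c46 LD3_c54)) = (LP (LK LD1_c0 LD2_c21 LD3_c3)) :=
  Lre_a IH (LK LD1_c0 LD2_c46 LD3_c54) (LK LD1_c0 LD2_c21 LD3_c3) Lrfl Lrfl
theorem f90140 : Led Lsl_at (LP (LK LD1_c0 LD2_c47 LD3_c1)) = (LP (LK LD1_c1 LD2_c40 LD3_c53)) :=
  Lgr Lrot67 (Lpe (K2.f25024 IH) (Lpe (f62673 IH) (Lpe (K3.f90101 IH) (Lpr_af (K2.f90138 IH) (Lpe (K2.f17662 IH) (Lpn (LP (LK LD1_c1 LD2_c40 LD3_c53))))))))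
theorem f90192 : Led Lsl_af (LP (LK LD1_c1 LD2_c41 LD3_c1)) = (LP (LK LD1_c1 LD2_c29 LD3_c32)) :=
  Lgr Lrot45 (Lpr_ft (K2.f88767 IH) (Lpr_at (f90140 IH) (Lpr_ft (K2.f90190 IH) (Lpn (LP (LK LD1_c1 LD2_c29 LD3_c32))))))
theorem f113325 : Led Lsl_gt (LP (LK LD1_c1 LD2_c29 LD3_c40)) = (LP (LK LD1_c1 LD2_c41 LD3_c1)) :=
  Lgr Lrot46 (Lpr_gf (f113120 IH) (Lpr_ft (K2.f90190 IH) (Lpe (f90192 IH) (Lpn (LP (LK LD1_c1 LD2_c41 LD3_c1))))))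
theorem f110027 : Led Lsl_gf (LP (LK LD1_c0 LD2_c9 LD3_c34)) = (LP (LK LD1_c0 LD2_c21 LD3_c5)) :=
  Lgr Lrot147 (Lpr_ct (K2.f13675 IH) (Lpr_gt (K3.f110016 IH) (Lpe (K3.f110025 IH) (Lpr_df (K3.f92026 IH) (Lpr_cf (K3.f15081 IH) (Lpe (K3.f11980 IH) (Lpe (K3.f11979 IH) (Lpe (K2.f11978 IH) (Lpr_df (K2.f87608 IH) (Lpn (LP (LK LD1_c0 LD2_c21 LD3_c5))))))))))))
theorem f13676 : Led Lsl_ct (LP (LK LD1_c0 LD2_c18 LD3_c1)) = (LP (LK LD1_c0 LD2_c9 LD3_c34)) :=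
  Lre_c IH (LK LD1_c0 LD2_c18 LD3_c1) (LK LD1_c0 LD2_c9 LD3_c34) Lrfl Lrfl
theorem f58190 : Led Lsl_ct (LP (LK LD1_c0 LD2_c41 LD3_c9)) = (LP (LK LD1_c1 LD2_c28 LD3_c61)) :=
  Lre_c IH (LK LD1_c0 LD2_c41 LD3_c9) (LK LD1_c1 LD2_c28 LD3_c61) Lrfl Lrfl
theorem f113335 : Led Lsl_gt (LP (LK LD1_c1 LD2_c28 LD3_c61)) = (LP (LK LD1_c1 LD2_c6 LD3_c39)) :=
  Lgr Lrot149 (Lpe (f58190 IH) (Lpe (K3.f58188 IH) (Lpe (K2.f13674 IH) (Lpr_ct (f13676 IH) (Lpr_gf (f110027 IH) (Lpe (K3.f87615 IH) (Lpr_bt (K3.f88770 IH) (Lpe (f113325 IH) (Lpr_bf (f113327 IH) (Lpr_ct (K3.f61643 IH) (Lpn (LP (LK LD1_c1 LD2_c6 LD3_c39)))))))))))))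
theorem f61243 : Led Lsl_bt (LP (LK LD1_c0 LD2_c41 LD3_c9)) = (LP (LK LD1_c1 LD2_c28 LD3_c60)) :=
  Lre_b IH (LK LD1_c0 LD2_c41 LD3_c9) (LK LD1_c1 LD2_c28 LD3_c60) Lrfl Lrfl
theorem f90373 : Led Lsl_gf (LP (LK LD1_c1 LD2_c26 LD3_c32)) = (LP (LK LD1_c1 LD2_c29 LD3_c32)) :=
  Lgr Lrot47 (Lpr_gt (K3.f66644 IH) (Lpr_af (K3.f90364 IH) (Lpr_ff (K2.f90188 IH) (Lpn (LP (LK LD1_c1 LD2_c29 LD3_c32))))))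
theorem f113337 : Led Lsl_gf (LP (LK LD1_c1 LD2_c28 LD3_c60)) = (LP (LK LD1_c0 LD2_c41 LD3_c32)) :=
  Lgr Lrot124 (Lpe (f61243 IH) (Lpr_ct (f58190 IH) (Lpr_gt (f113335 IH) (Lpe (K3.f61643 IH) (Lpe (f113327 IH) (Lpr_gt (f113325 IH) (Lpr_ct (K3.f90178 IH) (Lpe (f90373 IH) (Lpe (K3.f57584 IH) (Lpe (K3.f57585 IH) (Lpn (LP (LK LD1_c0 LD2_c41 LD3_c32)))))))))))))
theorem f24027 : Led Lsl_bt (LP (LK LD1_c2 LD2_c20 LD3_c39)) = (LP (LK LD1_c1 LD2_c7 LD3_c42)) :=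
  Lre_b IH (LK LD1_c2 LD2_c20 LD3_c39) (LK LD1_c1 LD2_c7 LD3_c42) Lrfl Lrfl
theorem f102107 : Led Lsl_df (LP (LK LD1_c2 LD2_c20 LD3_c39)) = (LP (LK LD1_c1 LD2_c28 LD3_c60)) :=
  Lgr Lrot12 (Lpr_bt (f24027 IH) (Lpr_dt (K3.f102069 IH) (Lpr_bt (f61243 IH) (Lpn (LP (LK LD1_c1 LD2_c28 LD3_c60))))))
theorem f57587 : Led Lsl_ct (LP (LK LD1_c0 LD2_c18 LD3_c34)) = (LP (LK LD1_c0 LD2_c41 LD3_c32)) :=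
  Lre_c IH (LK LD1_c0 LD2_c18 LD3_c34) (LK LD1_c0 LD2_c41 LD3_c32) Lrfl Lrfl
theorem f104210 : Led Lsl_ef (LP (LK LD1_c3 LD2_c11 LD3_c61)) = (LP (LK LD1_c6 LD2_c19 LD3_c49)) :=
  Lgr Lrot88 (Lpr_et (K3.f104204 IH) (Lpn (LP (LK LD1_c6 LD2_c19 LD3_c49))))
theorem f104213 : Led Lsl_bt (LP (LK LD1_c3 LD2_c11 LD3_c61)) = (LP (LK LD1_c1 LD2_c32 LD3_c29)) :=
  Lre_b IH (LK LD1_c3 LD2_c11 LD3_c61) (LK LD1_c1 LD2_c32 LD3_c29) Lrfl Lrfl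
theorem f104214 : Led Lsl_bt (LP (LK LD1_c3 LD2_c7 LD3_c30)) = (LP (LK LD1_c6 LD2_c19 LD3_c49)) :=
  Lre_b IH (LK LD1_c3 LD2_c7 LD3_c30) (LK LD1_c6 LD2_c19 LD3_c49) Lrfl Lrfl
theorem f104215 : Led Lsl_et (LP (LK LD1_c1 LD2_c32 LD3_c29)) = (LP (LK LD1_c3 LD2_c7 LD3_c30)) :=
  Lgr Lrot74 (Lpe (f104213 IH) (Lpr_ef (f104210 IH) (Lpe (f104214 IH) (Lpn (LP (LK LD1_c3 LD2_c7 LD3_c30))))))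
theorem f82658 : Led Lsl_dt (LP (LK LD1_c0 LD2_c42 LD3_c50)) = (LP (LK LD1_c1 LD2_c32 LD3_c29)) :=
  Lre_d IH (LK LD1_c0 LD2_c42 LD3_c50) (LK LD1_c1 LD2_c32 LD3_c29) Lrfl Lrfl
theorem f104217 : Led Lsl_et (LP (LK LD1_c0 LD2_c19 LD3_c3)) = (LP (LK LD1_c0 LD2_c42 LD3_c50)) :=
  Lre_e IH (LK LD1_c0 LD2_c19 LD3_c3) (LK LD1_c0 LD2_c42 LD3_c50) Lrfl Lrfl
theorem f104218 : Led Lsl_dt (LP (LK LD1_c3 LD2_c7 LD3_c30)) = (LP (LK LD1_c1 LD2_c29 LD3_c61)) :=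
  Lre_d IH (LK LD1_c3 LD2_c7 LD3_c30) (LK LD1_c1 LD2_c29 LD3_c61) Lrfl Lrfl
theorem f104219 : Led Lsl_et (LP (LK LD1_c1 LD2_c29 LD3_c61)) = (LP (LK LD1_c0 LD2_c41 LD3_c36)) :=
  Lre_e IH (LK LD1_c1 LD2_c29 LD3_c61) (LK LD1_c0 LD2_c41 LD3_c36) Lrfl Lrfl
theorem f104220 : Led Lsl_df (LP (LK LD1_c0 LD2_c19 LD3_c3)) = (LP (LK LD1_c0 LD2_c41 LD3_c36)) :=
  Lgr Lrot70 (Lpr_et (f104217 IH) (Lpr_dt (f82658 IH) (Lpr_et (f104215 IH) (Lpr_dt (f104218 IH) (Lpr_et (f104219 IH) (Lpn (LP (LK LD1_c0 LD2_c41 LD3_c36))))))))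
theorem f26148 : Led Lsl_dt (LP (LK LD1_c1 LD2_c32 LD3_c27)) = (LP (LK LD1_c0 LD2_c42 LD3_c49)) :=
  Lre_d IH (LK LD1_c1 LD2_c32 LD3_c27) (LK LD1_c0 LD2_c42 LD3_c49) Lrfl Lrfl
theorem f113341 : Led Lsl_gt (LP (LK LD1_c2 LD2_c20 LD3_c39)) = (LP (LK LD1_c1 LD2_c32 LD3_c27)) :=
  Lgr Lrot49 (Lpr_df (f102107 IH) (Lpr_gf (f113337 IH) (Lpe (f57587 IH) (Lpr_gt (K3.f57579 IH) (Lpr_dt (K1.f25017 IH) (Lpr_gt (K1.f25018 IH) (Lpe (f104220 IH) (Lpe (K3.f24327 IH) (Lpe (f26148 IH) (Lpn (LP (LK LD1_c1 LD2_c32 LD3_c27))))))))))))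
theorem f102164 : Led Lsl_bt (LP (LK LD1_c1 LD2_c7 LD3_c42)) = (LP (LK LD1_c2 LD2_c20 LD3_c39)) :=
  Lre_b IH (LK LD1_c1 LD2_c7 LD3_c42) (LK LD1_c2 LD2_c20 LD3_c39) Lrfl Lrfl
theorem f102296 : Led Lsl_dt (LP (LK LD1_c1 LD2_c7 LD3_c30)) = (LP (LK LD1_c2 LD2_c20 LD3_c20)) :=
  Lre_d IH (LK LD1_c1 LD2_c7 LD3_c30) (LK LD1_c2 LD2_c20 LD3_c20) Lrfl Lrfl
theorem f110327 : Led Lsl_bf (LP (LK LD1_c1 LD2_c29 LD3_c20)) = (LP (LK LD1_c2 LD2_c20 LD3_c20)) :=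
  Lgr Lrot93 (Lpr_dt (K3.f110322 IH) (Lpr_bt (K3.f103476 IH) (Lpr_dt (f102296 IH) (Lpn (LP (LK LD1_c2 LD2_c20 LD3_c20))))))
theorem f58388 : Led Lsl_bf (LP (LK LD1_c1 LD2_c26 LD3_c39)) = (LP (LK LD1_c1 LD2_c29 LD3_c1)) :=
  Lgr Lrot24 (Lpr_bt (K3.f58381 IH) (Lpn (LP (LK LD1_c1 LD2_c29 LD3_c1))))
theorem f13666 : Led Lsl_gt (LP (LK LD1_c2 LD2_c17 LD3_c21)) = (LP (LK LD1_c1 LD2_c5 LD3_c38)) :=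
  Lre_g IH (LK LD1_c2 LD2_c17 LD3_c21) (LK LD1_c1 LD2_c5 LD3_c38) Lrfl Lrfl
theorem f58259 : Led Lsl_gf (LP (LK LD1_c2 LD2_c17 LD3_c21)) = (LP (LK LD1_c3 LD2_c5 LD3_c53)) :=
  Lgr Lrot47 (Lpr_gt (f13666 IH) (Lpe (K1.f13663 IH) (Lpr_ff (K1.f58237 IH) (Lpn (LP (LK LD1_c3 LD2_c5 LD3_c53))))))
theorem f110341 : Led Lsl_ct (LP (LK LD1_c2 LD2_c20 LD3_c20)) = (LP (LK LD1_c2 LD2_c17 LD3_c21)) :=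
  Lgr Lrot10 (Lpe (f110327 IH) (Lpr_gt (K3.f110335 IH) (Lpr_ct (K2.f67014 IH) (Lpr_gt (K3.f76472 IH) (Lpe (K3.f23041 IH) (Lpr_bt (K3.f18898 IH) (Lpr_gt (K3.f18897 IH) (Lpr_bf (f58388 IH) (Lpr_ct (K1.f58214 IH) (Lpe (f58259 IH) (Lpn (LP (LK LD1_c2 LD2_c17 LD3_c21)))))))))))))
theorem f23325 : Led Lsl_ft (LP (LK LD1_c1 LD2_c7 LD3_c30)) = (LP (LK LD1_c0 LD2_c31 LD3_c2)) :=
  Lre_f IH (LK LD1_c1 LD2_c7 LD3_c30) (LK LD1_c0 LD2_c31 LD3_c2) Lrfl Lrfl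
theorem f104133 : Led Lsl_at (LP (LK LD1_c0 LD2_c31 LD3_c2)) = (LP (LK LD1_c1 LD2_c7 LD3_c34)) :=
  Lre_a IH (LK LD1_c0 LD2_c31 LD3_c2) (LK LD1_c1 LD2_c7 LD3_c34) Lrfl Lrfl
theorem f104144 : Led Lsl_dt (LP (LK LD1_c1 LD2_c5 LD3_c36)) = (LP (LK LD1_c0 LD2_c31 LD3_c0)) :=
  Lgr Lrot27 (Lpe (K3.f58770 IH) (Lpe (K3.f58771 IH) (Lpe (K3.f103232 IH) (Lpe (K3.f98839 IH) (Lpe (K3.f98838 IH) (Lpr_gt (K2.f23504 IH) (Lpr_ct (K2.f23474 IH) (Lpr_gt (K3.f104142 IH) (Lpr_ct (K3.f103461 IH) (Lpn (LP (LK LD1_c0 LD2_c31 LD3_c0))))))))))))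
theorem f58261 : Led Lsl_dt (LP (LK LD1_c2 LD2_c17 LD3_c21)) = (LP (LK LD1_c4 LD2_c40 LD3_c33)) :=
  Lre_d IH (LK LD1_c2 LD2_c17 LD3_c21) (LK LD1_c4 LD2_c40 LD3_c33) Lrfl Lrfl
theorem f110350 : Led Lsl_cf (LP (LK LD1_c4 LD2_c40 LD3_c25)) = (LP (LK LD1_c4 LD2_c40 LD3_c33)) :=
  Lgr Lrot116 (Lpr_dt (K3.f78655 IH) (Lpr_ct (K3.f58770 IH) (Lpr_dt (f104144 IH) (Lpr_ct (K3.f103598 IH) (Lpe (f104133 IH) (Lpe (f23325 IH) (Lpr_dt (f102296 IH) (Lpr_ct (f110341 IH) (Lpr_dt (f58261 IH) (Lpn (LP (LK LD1_c4 LD2_c40 LD3_c33))))))))))))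
theorem f13760 : Led Lsl_et (LP (LK LD1_c2 LD2_c20 LD3_c47)) = (LP (LK LD1_c4 LD2_c45 LD3_c21)) :=
  Lre_e IH (LK LD1_c2 LD2_c20 LD3_c47) (LK LD1_c4 LD2_c45 LD3_c21) Lrfl Lrfl
theorem f102003 : Led Lsl_gt (LP (LK LD1_c4 LD2_c45 LD3_c21)) = (LP (LK LD1_c9 LD2_c23 LD3_c28)) :=
  Lre_g IH (LK LD1_c4 LD2_c45 LD3_c21) (LK LD1_c9 LD2_c23 LD3_c28) Lrfl Lrfl
theorem f102004 : Led Lsl_et (LP (LK LD1_c17 LD2_c20 LD3_c12)) = (LP (LK LD1_c9 LD2_c23 LD3_c28)) :=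
  Lre_e IH (LK LD1_c17 LD2_c20 LD3_c12) (LK LD1_c9 LD2_c23 LD3_c28) Lrfl Lrfl
theorem f58741 : Led Lsl_et (LP (LK LD1_c6 LD2_c17 LD3_c25)) = (LP (LK LD1_c3 LD2_c5 LD3_c56)) :=
  Lre_e IH (LK LD1_c6 LD2_c17 LD3_c25) (LK LD1_c3 LD2_c5 LD3_c56) Lrfl Lrfl
theorem f74117 : Led Lsl_dt (LP (LK LD1_c6 LD2_c17 LD3_c25)) = (LP (LK LD1_c12 LD2_c11 LD3_c21)) :=
  Lre_d IH (LK LD1_c6 LD2_c17 LD3_c25) (LK LD1_c12 LD2_c11 LD3_c21) Lrfl Lrfl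
theorem f58656 : Led Lsl_gt (LP (LK LD1_c21 LD2_c16 LD3_c41)) = (LP (LK LD1_c12 LD2_c11 LD3_c21)) :=
  Lre_g IH (LK LD1_c21 LD2_c16 LD3_c41) (LK LD1_c12 LD2_c11 LD3_c21) Lrfl Lrfl
theorem f102005 : Led Lsl_dt (LP (LK LD1_c17 LD2_c20 LD3_c12)) = (LP (LK LD1_c21 LD2_c16 LD3_c41)) :=
  Lgr Lrot136 (Lpr_et (f102004 IH) (Lpe (f102003 IH) (Lpe (f13760 IH) (Lpr_dt (K0.f13698 IH) (Lpe (K3.f13718 IH) (Lpe (K3.f13743 IH) (Lpr_gf (K3.f101914 IH) (Lpe (f58741 IH) (Lpr_dt (f74117 IH) (Lpe (f58656 IH) (Lpn (LP (LK LD1_c21 LD2_c16 LD3_c41)))))))))))))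
theorem f14189 : Led Lsl_gt (LP (LK LD1_c9 LD2_c23 LD3_c28)) = (LP (LK LD1_c4 LD2_c46 LD3_c59)) :=
  Lre_g IH (LK LD1_c9 LD2_c23 LD3_c28) (LK LD1_c4 LD2_c46 LD3_c59) Lrfl Lrfl
theorem f14315 : Led Lsl_dt (LP (LK LD1_c4 LD2_c46 LD3_c59)) = (LP (LK LD1_c9 LD2_c26 LD3_c51)) :=
  Lre_d IH (LK LD1_c4 LD2_c46 LD3_c59) (LK LD1_c9 LD2_c26 LD3_c51) Lrfl Lrfl
theorem f14316 : Led Lsl_gt (LP (LK LD1_c9 LD2_c26 LD3_c51)) = (LP (LK LD1_c17 LD2_c20 LD3_c14)) :=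
  Lre_g IH (LK LD1_c9 LD2_c26 LD3_c51) (LK LD1_c17 LD2_c20 LD3_c14) Lrfl Lrfl
theorem f74053 : Led Lsl_ft (LP (LK LD1_c27 LD2_c2 LD3_c40)) = (LP (LK LD1_c17 LD2_c11 LD3_c30)) :=
  Lre_f IH (LK LD1_c27 LD2_c2 LD3_c40) (LK LD1_c17 LD2_c11 LD3_c30) Lrfl Lrfl
theorem f74056 : Led Lsl_gf (LP (LK LD1_c21 LD2_c16 LD3_c41)) = (LP (LK LD1_c27 LD2_c2 LD3_c40)) :=
  Lgr Lrot47 (Lpr_gt (f58656 IH) (Lpr_af (K3.f74037 IH) (Lpe (f74053 IH) (Lpn (LP (LK LD1_c27 LD2_c2 LD3_c40))))))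
theorem f74061 : Led Lsl_dt (LP (LK LD1_c17 LD2_c11 LD3_c31)) = (LP (LK LD1_c27 LD2_c2 LD3_c40)) :=
  Lre_d IH (LK LD1_c17 LD2_c11 LD3_c31) (LK LD1_c27 LD2_c2 LD3_c40) Lrfl Lrfl
theorem f74054 : Led Lsl_at (LP (LK LD1_c21 LD2_c16 LD3_c43)) = (LP (LK LD1_c27 LD2_c2 LD3_c40)) :=
  Lgr Lrot66 (Lpe (K1.f58652 IH) (Lpr_af (K3.f74037 IH) (Lpe (f74053 IH) (Lpn (LP (LK LD1_c27 LD2_c2 LD3_c40))))))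
theorem f74059 : Led Lsl_dt (LP (LK LD1_c27 LD2_c2 LD3_c40)) = (LP (LK LD1_c17 LD2_c11 LD3_c31)) :=
  Lre_d IH (LK LD1_c27 LD2_c2 LD3_c40) (LK LD1_c17 LD2_c11 LD3_c31) Lrfl Lrfl
theorem f74064 : Led Lsl_af (LP (LK LD1_c12 LD2_c11 LD3_c22)) = (LP (LK LD1_c17 LD2_c11 LD3_c31)) :=
  Lgr Lrot117 (Lpr_dt (K1.f58661 IH) (Lpr_at (f74054 IH) (Lpr_dt (f74059 IH) (Lpn (LP (LK LD1_c17 LD2_c11 LD3_c31))))))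
theorem f58706 : Led Lsl_at (LP (LK LD1_c9 LD2_c16 LD3_c45)) = (LP (LK LD1_c17 LD2_c10 LD3_c37)) :=
  Lre_a IH (LK LD1_c9 LD2_c16 LD3_c45) (LK LD1_c17 LD2_c10 LD3_c37) Lrfl Lrfl
theorem f74071 : Led Lsl_et (LP (LK LD1_c17 LD2_c10 LD3_c37)) = (LP (LK LD1_c17 LD2_c11 LD3_c31)) :=
  Lgr Lrot123 (Lpe (f58706 IH) (Lpr_ef (K1.f58701 IH) (Lpr_af (f74064 IH) (Lpn (LP (LK LD1_c17 LD2_c11 LD3_c31))))))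
theorem f74080 : Led Lsl_ef (LP (LK LD1_c17 LD2_c10 LD3_c37)) = (LP (LK LD1_c17 LD2_c11 LD3_c31)) :=
  Lgr Lrot88 (Lpr_et (f74071 IH) (Lpn (LP (LK LD1_c17 LD2_c11 LD3_c31))))
theorem f74091 : Led Lsl_gt (LP (LK LD1_c9 LD2_c16 LD3_c42)) = (LP (LK LD1_c17 LD2_c10 LD3_c37)) :=
  Lre_g IH (LK LD1_c9 LD2_c16 LD3_c42) (LK LD1_c17 LD2_c10 LD3_c37) Lrfl Lrfl
theorem f74092 : Led Lsl_et (LP (LK LD1_c17 LD2_c11 LD3_c33)) = (LP (LK LD1_c9 LD2_c16 LD3_c42)) :=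
  Lre_e IH (LK LD1_c17 LD2_c11 LD3_c33) (LK LD1_c9 LD2_c16 LD3_c42) Lrfl Lrfl
theorem f102012 : Led Lsl_df (LP (LK LD1_c17 LD2_c20 LD3_c14)) = (LP (LK LD1_c17 LD2_c11 LD3_c33)) :=
  Lgr Lrot132 (Lpe (f14316 IH) (Lpe (f14315 IH) (Lpe (f14189 IH) (Lpe (f102004 IH) (Lpr_dt (f102005 IH) (Lpr_gf (f74056 IH) (Lpe (f74061 IH) (Lpe (f74080 IH) (Lpe (f74091 IH) (Lpe (f74092 IH) (Lpn (LP (LK LD1_c17 LD2_c11 LD3_c33)))))))))))))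
theorem f102018 : Led Lsl_gt (LP (LK LD1_c17 LD2_c20 LD3_c14)) = (LP (LK LD1_c9 LD2_c23 LD3_c29)) :=
  Lre_g IH (LK LD1_c17 LD2_c20 LD3_c14) (LK LD1_c9 LD2_c23 LD3_c29) Lrfl Lrfl
theorem f14240 : Led Lsl_dt (LP (LK LD1_c4 LD2_c45 LD3_c21)) = (LP (LK LD1_c9 LD2_c23 LD3_c29)) :=
  Lre_d IH (LK LD1_c4 LD2_c45 LD3_c21) (LK LD1_c9 LD2_c23 LD3_c29) Lrfl Lrfl
theorem f13732 : Led Lsl_et (LP (LK LD1_c4 LD2_c45 LD3_c21)) = (LP (LK LD1_c2 LD2_c20 LD3_c47)) :=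
  Lre_e IH (LK LD1_c4 LD2_c45 LD3_c21) (LK LD1_c2 LD2_c20 LD3_c47) Lrfl Lrfl
theorem f102022 : Led Lsl_gt (LP (LK LD1_c4 LD2_c40 LD3_c40)) = (LP (LK LD1_c9 LD2_c16 LD3_c42)) :=
  Lre_g IH (LK LD1_c4 LD2_c40 LD3_c40) (LK LD1_c9 LD2_c16 LD3_c42) Lrfl Lrfl
theorem f58739 : Led Lsl_et (LP (LK LD1_c2 LD2_c17 LD3_c23)) = (LP (LK LD1_c4 LD2_c40 LD3_c40)) :=
  Lre_e IH (LK LD1_c2 LD2_c17 LD3_c23) (LK LD1_c4 LD2_c40 LD3_c40) Lrfl Lrfl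
theorem f58239 : Led Lsl_dt (LP (LK LD1_c4 LD2_c40 LD3_c33)) = (LP (LK LD1_c2 LD2_c17 LD3_c21)) :=
  Lre_d IH (LK LD1_c4 LD2_c40 LD3_c33) (LK LD1_c2 LD2_c17 LD3_c21) Lrfl Lrfl
theorem f102023 : Led Lsl_gt (LP (LK LD1_c2 LD2_c20 LD3_c47)) = (LP (LK LD1_c4 LD2_c40 LD3_c33)) :=
  Lgr Lrot137 (Lpe (f13732 IH) (Lpr_dt (f14240 IH) (Lpe (f102018 IH) (Lpr_df (f102012 IH) (Lpr_et (f74092 IH) (Lpe (f102022 IH) (Lpe (f58739 IH) (Lpr_dt (K1.f13659 IH) (Lpe (f13666 IH) (Lpe (f58239 IH) (Lpn (LP (LK LD1_c4 LD2_c40 LD3_c33)))))))))))))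
theorem f110520 : Led Lsl_gt (LP (LK LD1_c4 LD2_c40 LD3_c33)) = (LP (LK LD1_c2 LD2_c21 LD3_c23)) :=
  Lgr Lrot9 (Lpe (f58261 IH) (Lpr_gt (f13666 IH) (Lpr_ct (K1.f13658 IH) (Lpr_gt (K2.f23924 IH) (Lpr_ct (K3.f23925 IH) (Lpe (K3.f78655 IH) (Lpr_cf (f110350 IH) (Lpe (f102023 IH) (Lpe (K3.f13707 IH) (Lpn (LP (LK LD1_c2 LD2_c21 LD3_c23))))))))))))
theorem f110524 : Led Lsl_gt (LP (LK LD1_c3 LD2_c7 LD3_c32)) = (LP (LK LD1_c2 LD2_c20 LD3_c40)) :=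
  Lgr Lrot49 (Lpe (K3.f61901 IH) (Lpr_gf (K3.f103239 IH) (Lpr_cf (f110350 IH) (Lpr_gt (f110520 IH) (Lpr_dt (K0.f13714 IH) (Lpr_gt (K3.f72660 IH) (Lpr_dt (K3.f99142 IH) (Lpe (K3.f101983 IH) (Lpe (K3.f101916 IH) (Lpn (LP (LK LD1_c2 LD2_c20 LD3_c40))))))))))))
theorem f77815 : Led Lsl_gt (LP (LK LD1_c6 LD2_c18 LD3_c3)) = (LP (LK LD1_c3 LD2_c6 LD3_c16)) :=
  Lre_g IH (LK LD1_c6 LD2_c18 LD3_c3) (LK LD1_c3 LD2_c6 LD3_c16) Lrfl Lrfl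
theorem f113344 : Led Lsl_bt (LP (LK LD1_c3 LD2_c12 LD3_c0)) = (LP (LK LD1_c1 LD2_c32 LD3_c27)) :=
  Lre_b IH (LK LD1_c3 LD2_c12 LD3_c0) (LK LD1_c1 LD2_c32 LD3_c27) Lrfl Lrfl
theorem f113345 : Led Lsl_cf (LP (LK LD1_c6 LD2_c18 LD3_c3)) = (LP (LK LD1_c3 LD2_c12 LD3_c0)) :=
  Lgr Lrot160 (Lpr_gt (f77815 IH) (Lpe (K2.f25055 IH) (Lpe (K2.f77905 IH) (Lpe (K3.f98881 IH) (Lpr_ct (K3.f61885 IH) (Lpr_gt (f110524 IH) (Lpe (K3.f93666 IH) (Lpr_bt (f102164 IH) (Lpr_gt (f113341 IH) (Lpe (f113344 IH) (Lpn (LP (LK LD1_c3 LD2_c12 LD3_c0)))))))))))))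
theorem f113348 : Led Lsl_ct (LP (LK LD1_c6 LD2_c18 LD3_c3)) = (LP (LK LD1_c3 LD2_c12 LD3_c0)) :=
  Lgr Lrot59 (Lpr_cf (f113345 IH) (Lpn (LP (LK LD1_c3 LD2_c12 LD3_c0))))
theorem f24400 : Led Lsl_dt (LP (LK LD1_c1 LD2_c32 LD3_c26)) = (LP (LK LD1_c3 LD2_c12 LD3_c0)) :=
  Lre_d IH (LK LD1_c1 LD2_c32 LD3_c26) (LK LD1_c3 LD2_c12 LD3_c0) Lrfl Lrfl
theorem f113350 : Led Lsl_gf (LP (LK LD1_c6 LD2_c18 LD3_c3)) = (LP (LK LD1_c3 LD2_c6 LD3_c20)) :=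
  Lgr Lrot104 (Lpr_ct (f113348 IH) (Lpe (f24400 IH) (Lpr_cf (K3.f24330 IH) (Lpr_gf (K3.f95261 IH) (Lpe (K3.f23335 IH) (Lpe (K0.f13524 IH) (Lpe (K2.f9764 IH) (Lpe (K2.f79040 IH) (Lpr_ct (K2.f61715 IH) (Lpn (LP (LK LD1_c3 LD2_c6 LD3_c20))))))))))))
theorem f15045 : Led Lsl_gt (LP (LK LD1_c3 LD2_c23 LD3_c5)) = (LP (LK LD1_c1 LD2_c37 LD3_c59)) :=
  Lre_g IH (LK LD1_c3 LD2_c23 LD3_c5) (LK LD1_c1 LD2_c37 LD3_c59) Lrfl Lrfl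
theorem f113353 : Led Lsl_gt (LP (LK LD1_c1 LD2_c32 LD3_c27)) = (LP (LK LD1_c2 LD2_c21 LD3_c0)) :=
  Lgr Lrot164 (Lpe (f113344 IH) (Lpe (f113345 IH) (Lpr_gf (f113350 IH) (Lpe (K2.f61715 IH) (Lpr_gf (K2.f79040 IH) (Lpe (K3.f17130 IH) (Lpr_ct (K0.f15040 IH) (Lpe (f15045 IH) (Lpr_cf (K3.f90247 IH) (Lpe (K3.f79606 IH) (Lpn (LP (LK LD1_c2 LD2_c21 LD3_c0)))))))))))))
theorem f113356 : Led Lsl_ft (LP (LK LD1_c2 LD2_c20 LD3_c39)) = (LP (LK LD1_c1 LD2_c7 LD3_c49)) :=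
  Lgr Lrot2 (Lpr_gt (f113341 IH) (Lpr_gt (f113353 IH) (Lpe (K3.f77985 IH) (Lpn (LP (LK LD1_c1 LD2_c7 LD3_c49))))))
theorem f113364 : Led Lsl_ff (LP (LK LD1_c2 LD2_c20 LD3_c39)) = (LP (LK LD1_c1 LD2_c7 LD3_c49)) :=
  Lgr Lrot3 (Lpr_ft (f113356 IH) (Lpn (LP (LK LD1_c1 LD2_c7 LD3_c49))))
theorem f58195 : Led Lsl_bt (LP (LK LD1_c1 LD2_c28 LD3_c60)) = (LP (LK LD1_c0 LD2_c41 LD3_c9)) :=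
  Lre_b IH (LK LD1_c1 LD2_c28 LD3_c60) (LK LD1_c0 LD2_c41 LD3_c9) Lrfl Lrfl
theorem f102165 : Led Lsl_dt (LP (LK LD1_c2 LD2_c20 LD3_c39)) = (LP (LK LD1_c1 LD2_c28 LD3_c60)) :=
  Lgr Lrot79 (Lpe (f102164 IH) (Lpr_df (K3.f102111 IH) (Lpe (f58195 IH) (Lpn (LP (LK LD1_c1 LD2_c28 LD3_c60))))))
theorem f113370 : Led Lsl_ft (LP (LK LD1_c1 LD2_c28 LD3_c60)) = (LP (LK LD1_c1 LD2_c5 LD3_c32)) :=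
  Lgr Lrot54 (Lpe (f102165 IH) (Lpr_ff (f113364 IH) (Lpr_df (K2.f77983 IH) (Lpn (LP (LK LD1_c1 LD2_c5 LD3_c32))))))
theorem f113372 : Led Lsl_ff (LP (LK LD1_c0 LD2_c41 LD3_c9)) = (LP (LK LD1_c0 LD2_c29 LD3_c60)) :=
  Lgr Lrot25 (Lpr_bt (f61243 IH) (Lpr_ft (f113370 IH) (Lpr_bt (K2.f13673 IH) (Lpn (LP (LK LD1_c0 LD2_c29 LD3_c60))))))
theorem f113415 : Led Lsl_at (LP (LK LD1_c0 LD2_c41 LD3_c9)) = (LP (LK LD1_c0 LD2_c29 LD3_c59)) :=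
  Lgr Lrot26 (Lpr_ff (f113372 IH) (Lpr_gt (K2.f13667 IH) (Lpr_gt (K2.f13664 IH) (Lpn (LP (LK LD1_c0 LD2_c29 LD3_c59))))))
theorem f113425 : Led Lsl_af (LP (LK LD1_c1 LD2_c29 LD3_c0)) = (LP (LK LD1_c1 LD2_c5 LD3_c31)) :=
  Lgr Lrot50 (Lpr_et (K3.f58196 IH) (Lpr_at (f113415 IH) (Lpr_et (K3.f66761 IH) (Lpn (LP (LK LD1_c1 LD2_c5 LD3_c31))))))
theorem f113431 : Led Lsl_at (LP (LK LD1_c3 LD2_c5 LD3_c52)) = (LP (LK LD1_c2 LD2_c17 LD3_c10)) :=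
  Lgr Lrot51 (Lpe (K3.f58197 IH) (Lpr_af (f113425 IH) (Lpe (K3.f66770 IH) (Lpn (LP (LK LD1_c2 LD2_c17 LD3_c10))))))
theorem f66783 : Led Lsl_dt (LP (LK LD1_c1 LD2_c5 LD3_c31)) = (LP (LK LD1_c2 LD2_c17 LD3_c10)) :=
  Lre_d IH (LK LD1_c1 LD2_c5 LD3_c31) (LK LD1_c2 LD2_c17 LD3_c10) Lrfl Lrfl
theorem f58138 : Led Lsl_et (LP (LK LD1_c1 LD2_c29 LD3_c2)) = (LP (LK LD1_c0 LD2_c41 LD3_c10)) :=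
  Lre_e IH (LK LD1_c1 LD2_c29 LD3_c2) (LK LD1_c0 LD2_c41 LD3_c10) Lrfl Lrfl
theorem f79567 : Led Lsl_gt (LP (LK LD1_c2 LD2_c17 LD3_c10)) = (LP (LK LD1_c3 LD2_c5 LD3_c55)) :=
  Lgr Lrot112 (Lpe (f66783 IH) (Lpr_et (K3.f66796 IH) (Lpe (K2.f13664 IH) (Lpe (K3.f13662 IH) (Lpr_dt (K2.f13783 IH) (Lpe (K2.f25202 IH) (Lpr_df (K3.f77994 IH) (Lpr_gf (K2.f58212 IH) (Lpe (f58138 IH) (Lpr_dt (K3.f58057 IH) (Lpn (LP (LK LD1_c3 LD2_c5 LD3_c55)))))))))))))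
theorem f58108 : Led Lsl_at (LP (LK LD1_c1 LD2_c29 LD3_c6)) = (LP (LK LD1_c3 LD2_c5 LD3_c55)) :=
  Lre_a IH (LK LD1_c1 LD2_c29 LD3_c6) (LK LD1_c3 LD2_c5 LD3_c55) Lrfl Lrfl
theorem f25611 : Led Lsl_bt (LP (LK LD1_c1 LD2_c29 LD3_c6)) = (LP (LK LD1_c0 LD2_c41 LD3_c14)) :=
  Lre_b IH (LK LD1_c1 LD2_c29 LD3_c6) (LK LD1_c0 LD2_c41 LD3_c14) Lrfl Lrfl
theorem f7503 : Led Lsl_bt (LP (LK LD1_c0 LD2_c31 LD3_c23)) = (LP (LK LD1_c1 LD2_c8 LD3_c2)) :=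
  Lre_b IH (LK LD1_c0 LD2_c31 LD3_c23) (LK LD1_c1 LD2_c8 LD3_c2) Lrfl Lrfl
theorem f25612 : Led Lsl_ff (LP (LK LD1_c1 LD2_c29 LD3_c6)) = (LP (LK LD1_c1 LD2_c8 LD3_c2)) :=
  Lgr Lrot25 (Lpr_bt (f25611 IH) (Lpr_ft (K0.f25602 IH) (Lpr_bt (f7503 IH) (Lpn (LP (LK LD1_c1 LD2_c8 LD3_c2))))))
theorem f79569 : Led Lsl_gf (LP (LK LD1_c2 LD2_c17 LD3_c10)) = (LP (LK LD1_c1 LD2_c8 LD3_c2)) :=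
  Lgr Lrot47 (Lpr_gt (f79567 IH) (Lpe (f58108 IH) (Lpr_ff (f25612 IH) (Lpn (LP (LK LD1_c1 LD2_c8 LD3_c2))))))
theorem f58117 : Led Lsl_gt (LP (LK LD1_c2 LD2_c21 LD3_c42)) = (LP (LK LD1_c1 LD2_c8 LD3_c2)) :=
  Lre_g IH (LK LD1_c2 LD2_c21 LD3_c42) (LK LD1_c1 LD2_c8 LD3_c2) Lrfl Lrfl
theorem f113439 : Led Lsl_ff (LP (LK LD1_c3 LD2_c5 LD3_c52)) = (LP (LK LD1_c2 LD2_c21 LD3_c42)) :=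
  Lgr Lrot52 (Lpr_at (f113431 IH) (Lpr_gf (f79569 IH) (Lpe (f58117 IH) (Lpn (LP (LK LD1_c2 LD2_c21 LD3_c42))))))
theorem f113445 : Led Lsl_ft (LP (LK LD1_c3 LD2_c5 LD3_c52)) = (LP (LK LD1_c2 LD2_c21 LD3_c42)) :=
  Lgr Lrot48 (Lpr_ff (f113439 IH) (Lpn (LP (LK LD1_c2 LD2_c21 LD3_c42))))
theorem f78270 : Led Lsl_gt (LP (LK LD1_c1 LD2_c29 LD3_c6)) = (LP (LK LD1_c3 LD2_c6 LD3_c2)) :=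
  Lre_g IH (LK LD1_c1 LD2_c29 LD3_c6) (LK LD1_c3 LD2_c6 LD3_c2) Lrfl Lrfl
theorem f113453 : Led Lsl_af (LP (LK LD1_c3 LD2_c6 LD3_c2)) = (LP (LK LD1_c2 LD2_c21 LD3_c42)) :=
  Lgr Lrot31 (Lpe (f78270 IH) (Lpr_gf (K3.f99115 IH) (Lpr_ft (f113445 IH) (Lpn (LP (LK LD1_c2 LD2_c21 LD3_c42))))))
theorem f113433 : Led Lsl_af (LP (LK LD1_c3 LD2_c5 LD3_c52)) = (LP (LK LD1_c2 LD2_c17 LD3_c10)) :=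
  Lgr Lrot0 (Lpr_at (f113431 IH) (Lpn (LP (LK LD1_c2 LD2_c17 LD3_c10))))
theorem f113462 : Led Lsl_ft (LP (LK LD1_c3 LD2_c6 LD3_c2)) = (LP (LK LD1_c2 LD2_c17 LD3_c10)) :=
  Lgr Lrot101 (Lpr_af (f113453 IH) (Lpe (f113445 IH) (Lpr_af (f113433 IH) (Lpn (LP (LK LD1_c2 LD2_c17 LD3_c10))))))
theorem f84037 : Led Lsl_ct (LP (LK LD1_c6 LD2_c17 LD3_c40)) = (LP (LK LD1_c3 LD2_c6 LD3_c2)) :=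
  Lre_c IH (LK LD1_c6 LD2_c17 LD3_c40) (LK LD1_c3 LD2_c6 LD3_c2) Lrfl Lrfl
theorem f66779 : Led Lsl_ct (LP (LK LD1_c2 LD2_c17 LD3_c10)) = (LP (LK LD1_c4 LD2_c40 LD3_c13)) :=
  Lre_c IH (LK LD1_c2 LD2_c17 LD3_c10) (LK LD1_c4 LD2_c40 LD3_c13) Lrfl Lrfl
theorem f113464 : Led Lsl_ff (LP (LK LD1_c6 LD2_c17 LD3_c40)) = (LP (LK LD1_c4 LD2_c40 LD3_c13)) :=
  Lgr Lrot23 (Lpr_ct (f84037 IH) (Lpr_ft (f113462 IH) (Lpr_ct (f66779 IH) (Lpn (LP (LK LD1_c4 LD2_c40 LD3_c13))))))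
theorem f84020 : Led Lsl_ct (LP (LK LD1_c3 LD2_c6 LD3_c2)) = (LP (LK LD1_c6 LD2_c17 LD3_c40)) :=
  Lre_c IH (LK LD1_c3 LD2_c6 LD3_c2) (LK LD1_c6 LD2_c17 LD3_c40) Lrfl Lrfl
theorem f58132 : Led Lsl_ct (LP (LK LD1_c4 LD2_c47 LD3_c37)) = (LP (LK LD1_c2 LD2_c21 LD3_c42)) :=
  Lre_c IH (LK LD1_c4 LD2_c47 LD3_c37) (LK LD1_c2 LD2_c21 LD3_c42) Lrfl Lrfl
theorem f113457 : Led Lsl_at (LP (LK LD1_c6 LD2_c17 LD3_c40)) = (LP (LK LD1_c4 LD2_c47 LD3_c37)) :=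
  Lgr Lrot107 (Lpe (f84020 IH) (Lpr_af (f113453 IH) (Lpe (f58132 IH) (Lpn (LP (LK LD1_c4 LD2_c47 LD3_c37))))))
theorem f99121 : Led Lsl_ct (LP (LK LD1_c6 LD2_c17 LD3_c19)) = (LP (LK LD1_c3 LD2_c5 LD3_c52)) :=
  Lre_c IH (LK LD1_c6 LD2_c17 LD3_c19) (LK LD1_c3 LD2_c5 LD3_c52) Lrfl Lrfl
theorem f58121 : Led Lsl_ct (LP (LK LD1_c2 LD2_c21 LD3_c42)) = (LP (LK LD1_c4 LD2_c47 LD3_c37)) :=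
  Lre_c IH (LK LD1_c2 LD2_c21 LD3_c42) (LK LD1_c4 LD2_c47 LD3_c37) Lrfl Lrfl
theorem f113450 : Led Lsl_ff (LP (LK LD1_c6 LD2_c17 LD3_c19)) = (LP (LK LD1_c4 LD2_c47 LD3_c37)) :=
  Lgr Lrot23 (Lpr_ct (f99121 IH) (Lpr_ft (f113445 IH) (Lpr_ct (f58121 IH) (Lpn (LP (LK LD1_c4 LD2_c47 LD3_c37))))))
theorem f113588 : Led Lsl_at (LP (LK LD1_c6 LD2_c17 LD3_c19)) = (LP (LK LD1_c4 LD2_c40 LD3_c13)) :=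
  Lgr Lrot66 (Lpr_ff (f113450 IH) (Lpe (f113457 IH) (Lpr_ff (f113464 IH) (Lpn (LP (LK LD1_c4 LD2_c40 LD3_c13))))))
theorem f102113 : Led Lsl_et (LP (LK LD1_c2 LD2_c20 LD3_c41)) = (LP (LK LD1_c1 LD2_c7 LD3_c42)) :=
  Lre_e IH (LK LD1_c2 LD2_c20 LD3_c41) (LK LD1_c1 LD2_c7 LD3_c42) Lrfl Lrfl
theorem f102114 : Led Lsl_dt (LP (LK LD1_c4 LD2_c45 LD3_c4)) = (LP (LK LD1_c2 LD2_c20 LD3_c41)) :=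
  Lre_d IH (LK LD1_c4 LD2_c45 LD3_c4) (LK LD1_c2 LD2_c20 LD3_c41) Lrfl Lrfl
theorem f102115 : Led Lsl_et (LP (LK LD1_c0 LD2_c41 LD3_c9)) = (LP (LK LD1_c1 LD2_c29 LD3_c0)) :=
  Lre_e IH (LK LD1_c0 LD2_c41 LD3_c9) (LK LD1_c1 LD2_c29 LD3_c0) Lrfl Lrfl
theorem f102116 : Led Lsl_ef (LP (LK LD1_c4 LD2_c45 LD3_c4)) = (LP (LK LD1_c3 LD2_c5 LD3_c52)) :=
  Lgr Lrot73 (Lpr_dt (f102114 IH) (Lpr_et (f102113 IH) (Lpr_dt (K3.f102069 IH) (Lpr_et (f102115 IH) (Lpr_dt (K3.f58197 IH) (Lpn (LP (LK LD1_c3 LD2_c5 LD3_c52))))))))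
theorem f102136 : Led Lsl_ct (LP (LK LD1_c4 LD2_c45 LD3_c4)) = (LP (LK LD1_c9 LD2_c22 LD3_c53)) :=
  Lre_c IH (LK LD1_c4 LD2_c45 LD3_c4) (LK LD1_c9 LD2_c22 LD3_c53) Lrfl Lrfl
theorem f102137 : Led Lsl_et (LP (LK LD1_c9 LD2_c22 LD3_c53)) = (LP (LK LD1_c6 LD2_c17 LD3_c19)) :=
  Lgr Lrot158 (Lpe (f102136 IH) (Lpr_ef (f102116 IH) (Lpe (f99121 IH) (Lpn (LP (LK LD1_c6 LD2_c17 LD3_c19))))))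
theorem f78227 : Led Lsl_ct (LP (LK LD1_c4 LD2_c45 LD3_c57)) = (LP (LK LD1_c2 LD2_c20 LD3_c60)) :=
  Lre_c IH (LK LD1_c4 LD2_c45 LD3_c57) (LK LD1_c2 LD2_c20 LD3_c60) Lrfl Lrfl
theorem f78228 : Led Lsl_ef (LP (LK LD1_c4 LD2_c45 LD3_c57)) = (LP (LK LD1_c4 LD2_c40 LD3_c13)) :=
  Lgr Lrot28 (Lpr_ct (f78227 IH) (Lpr_et (K3.f78223 IH) (Lpr_ct (f66779 IH) (Lpn (LP (LK LD1_c4 LD2_c40 LD3_c13))))))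
theorem f113614 : Led Lsl_af (LP (LK LD1_c9 LD2_c22 LD3_c53)) = (LP (LK LD1_c4 LD2_c45 LD3_c57)) :=
  Lgr Lrot50 (Lpr_et (f102137 IH) (Lpr_at (f113588 IH) (Lpe (f78228 IH) (Lpn (LP (LK LD1_c4 LD2_c45 LD3_c57))))))
theorem f102142 : Led Lsl_ct (LP (LK LD1_c9 LD2_c22 LD3_c53)) = (LP (LK LD1_c4 LD2_c45 LD3_c4)) :=
  Lre_c IH (LK LD1_c9 LD2_c22 LD3_c53) (LK LD1_c4 LD2_c45 LD3_c4) Lrfl Lrfl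
theorem f78448 : Led Lsl_ct (LP (LK LD1_c2 LD2_c20 LD3_c60)) = (LP (LK LD1_c4 LD2_c45 LD3_c57)) :=
  Lre_c IH (LK LD1_c2 LD2_c20 LD3_c60) (LK LD1_c4 LD2_c45 LD3_c57) Lrfl Lrfl
theorem f113645 : Led Lsl_at (LP (LK LD1_c4 LD2_c45 LD3_c4)) = (LP (LK LD1_c2 LD2_c20 LD3_c60)) :=
  Lgr Lrot107 (Lpe (f102142 IH) (Lpr_af (f113614 IH) (Lpe (f78448 IH) (Lpn (LP (LK LD1_c2 LD2_c20 LD3_c60))))))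
theorem f102145 : Led Lsl_dt (LP (LK LD1_c2 LD2_c20 LD3_c41)) = (LP (LK LD1_c4 LD2_c45 LD3_c4)) :=
  Lre_d IH (LK LD1_c2 LD2_c20 LD3_c41) (LK LD1_c4 LD2_c45 LD3_c4) Lrfl Lrfl
theorem f78235 : Led Lsl_dt (LP (LK LD1_c2 LD2_c20 LD3_c60)) = (LP (LK LD1_c1 LD2_c7 LD3_c48)) :=
  Lre_d IH (LK LD1_c2 LD2_c20 LD3_c60) (LK LD1_c1 LD2_c7 LD3_c48) Lrfl Lrfl
theorem f113648 : Led Lsl_af (LP (LK LD1_c2 LD2_c20 LD3_c41)) = (LP (LK LD1_c1 LD2_c7 LD3_c48)) :=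
  Lgr Lrot117 (Lpr_dt (f102145 IH) (Lpr_at (f113645 IH) (Lpr_dt (f78235 IH) (Lpn (LP (LK LD1_c1 LD2_c7 LD3_c48))))))
theorem f113660 : Led Lsl_ft (LP (LK LD1_c2 LD2_c20 LD3_c41)) = (LP (LK LD1_c4 LD2_c45 LD3_c5)) :=
  Lre_f IH (LK LD1_c2 LD2_c20 LD3_c41) (LK LD1_c4 LD2_c45 LD3_c5) Lrfl Lrfl
theorem f113661 : Led Lsl_ft (LP (LK LD1_c2 LD2_c20 LD3_c61)) = (LP (LK LD1_c1 LD2_c7 LD3_c48)) :=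
  Lre_f IH (LK LD1_c2 LD2_c20 LD3_c61) (LK LD1_c1 LD2_c7 LD3_c48) Lrfl Lrfl
theorem f113662 : Led Lsl_at (LP (LK LD1_c4 LD2_c45 LD3_c5)) = (LP (LK LD1_c2 LD2_c20 LD3_c61)) :=
  Lgr Lrot66 (Lpe (f113660 IH) (Lpr_af (f113648 IH) (Lpe (f113661 IH) (Lpn (LP (LK LD1_c2 LD2_c20 LD3_c61))))))
theorem f113683 : Led Lsl_ct (LP (LK LD1_c9 LD2_c22 LD3_c50)) = (LP (LK LD1_c4 LD2_c45 LD3_c5)) :=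
  Lre_c IH (LK LD1_c9 LD2_c22 LD3_c50) (LK LD1_c4 LD2_c45 LD3_c5) Lrfl Lrfl
theorem f113671 : Led Lsl_ct (LP (LK LD1_c2 LD2_c20 LD3_c61)) = (LP (LK LD1_c4 LD2_c45 LD3_c49)) :=
  Lre_c IH (LK LD1_c2 LD2_c20 LD3_c61) (LK LD1_c4 LD2_c45 LD3_c49) Lrfl Lrfl
theorem f113684 : Led Lsl_af (LP (LK LD1_c9 LD2_c22 LD3_c50)) = (LP (LK LD1_c4 LD2_c45 LD3_c49)) :=
  Lgr Lrot68 (Lpr_ct (f113683 IH) (Lpr_at (f113662 IH) (Lpr_ct (f113671 IH) (Lpn (LP (LK LD1_c4 LD2_c45 LD3_c49))))))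
theorem f113686 : Led Lsl_at (LP (LK LD1_c9 LD2_c22 LD3_c50)) = (LP (LK LD1_c4 LD2_c45 LD3_c49)) :=
  Lgr Lrot100 (Lpr_af (f113684 IH) (Lpn (LP (LK LD1_c4 LD2_c45 LD3_c49))))
theorem f113697 : Led Lsl_ft (LP (LK LD1_c4 LD2_c45 LD3_c2)) = (LP (LK LD1_c9 LD2_c22 LD3_c50)) :=
  Lre_f IH (LK LD1_c4 LD2_c45 LD3_c2) (LK LD1_c9 LD2_c22 LD3_c50) Lrfl Lrfl
theorem f113698 : Led Lsl_ft (LP (LK LD1_c4 LD2_c45 LD3_c49)) = (LP (LK LD1_c2 LD2_c20 LD3_c57)) :=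
  Lre_f IH (LK LD1_c4 LD2_c45 LD3_c49) (LK LD1_c2 LD2_c20 LD3_c57) Lrfl Lrfl
theorem f113699 : Led Lsl_af (LP (LK LD1_c4 LD2_c45 LD3_c2)) = (LP (LK LD1_c2 LD2_c20 LD3_c57)) :=
  Lgr Lrot45 (Lpr_ft (f113697 IH) (Lpr_at (f113686 IH) (Lpr_ft (f113698 IH) (Lpn (LP (LK LD1_c2 LD2_c20 LD3_c57))))))
theorem f103189 : Led Lsl_et (LP (LK LD1_c4 LD2_c45 LD3_c2)) = (LP (LK LD1_c2 LD2_c20 LD3_c40)) :=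
  Lre_e IH (LK LD1_c4 LD2_c45 LD3_c2) (LK LD1_c2 LD2_c20 LD3_c40) Lrfl Lrfl
theorem f78670 : Led Lsl_et (LP (LK LD1_c1 LD2_c7 LD3_c47)) = (LP (LK LD1_c2 LD2_c20 LD3_c57)) :=
  Lre_e IH (LK LD1_c1 LD2_c7 LD3_c47) (LK LD1_c2 LD2_c20 LD3_c57) Lrfl Lrfl
theorem f113713 : Led Lsl_at (LP (LK LD1_c2 LD2_c20 LD3_c40)) = (LP (LK LD1_c1 LD2_c7 LD3_c47)) :=
  Lgr Lrot80 (Lpe (f103189 IH) (Lpr_af (f113699 IH) (Lpe (f78670 IH) (Lpn (LP (LK LD1_c1 LD2_c7 LD3_c47))))))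
theorem f113723 : Led Lsl_ff (LP (LK LD1_c2 LD2_c20 LD3_c40)) = (LP (LK LD1_c1 LD2_c7 LD3_c50)) :=
  Lgr Lrot52 (Lpr_at (f113713 IH) (Lpe (K3.f13804 IH) (Lpr_gf (K3.f103056 IH) (Lpn (LP (LK LD1_c1 LD2_c7 LD3_c50))))))
theorem f113732 : Led Lsl_ft (LP (LK LD1_c2 LD2_c20 LD3_c40)) = (LP (LK LD1_c1 LD2_c7 LD3_c50)) :=
  Lgr Lrot48 (Lpr_ff (f113723 IH) (Lpn (LP (LK LD1_c1 LD2_c7 LD3_c50))))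
theorem f113741 : Led Lsl_af (LP (LK LD1_c2 LD2_c20 LD3_c42)) = (LP (LK LD1_c1 LD2_c7 LD3_c50)) :=
  Lgr Lrot31 (Lpr_gf (K3.f103169 IH) (Lpe (K3.f103186 IH) (Lpr_ft (f113732 IH) (Lpn (LP (LK LD1_c1 LD2_c7 LD3_c50))))))
theorem f113715 : Led Lsl_af (LP (LK LD1_c2 LD2_c20 LD3_c40)) = (LP (LK LD1_c1 LD2_c7 LD3_c47)) :=
  Lgr Lrot0 (Lpr_at (f113713 IH) (Lpn (LP (LK LD1_c1 LD2_c7 LD3_c47))))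
theorem f113754 : Led Lsl_ft (LP (LK LD1_c2 LD2_c20 LD3_c42)) = (LP (LK LD1_c1 LD2_c7 LD3_c47)) :=
  Lgr Lrot101 (Lpr_af (f113741 IH) (Lpe (f113732 IH) (Lpr_af (f113715 IH) (Lpn (LP (LK LD1_c1 LD2_c7 LD3_c47))))))
theorem f113762 : Led Lsl_ff (LP (LK LD1_c2 LD2_c20 LD3_c42)) = (LP (LK LD1_c1 LD2_c7 LD3_c47)) :=
  Lgr Lrot3 (Lpr_ft (f113754 IH) (Lpn (LP (LK LD1_c1 LD2_c7 LD3_c47))))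
theorem f61893 : Led Lsl_dt (LP (LK LD1_c2 LD2_c20 LD3_c42)) = (LP (LK LD1_c4 LD2_c45 LD3_c7)) :=
  Lre_d IH (LK LD1_c2 LD2_c20 LD3_c42) (LK LD1_c4 LD2_c45 LD3_c7) Lrfl Lrfl
theorem f113768 : Led Lsl_ft (LP (LK LD1_c4 LD2_c45 LD3_c7)) = (LP (LK LD1_c2 LD2_c20 LD3_c56)) :=
  Lgr Lrot54 (Lpe (f61893 IH) (Lpr_ff (f113762 IH) (Lpe (K3.f78244 IH) (Lpn (LP (LK LD1_c2 LD2_c20 LD3_c56))))))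
theorem f113774 : Led Lsl_ff (LP (LK LD1_c4 LD2_c45 LD3_c11)) = (LP (LK LD1_c2 LD2_c21 LD3_c12)) :=
  Lgr Lrot23 (Lpr_ct (K3.f102040 IH) (Lpr_ft (f113768 IH) (Lpe (K3.f78582 IH) (Lpn (LP (LK LD1_c2 LD2_c21 LD3_c12))))))
theorem f113782 : Led Lsl_at (LP (LK LD1_c4 LD2_c45 LD3_c11)) = (LP (LK LD1_c2 LD2_c21 LD3_c9)) :=
  Lgr Lrot26 (Lpr_ff (f113774 IH) (Lpr_gt (K3.f78002 IH) (Lpe (K3.f78502 IH) (Lpn (LP (LK LD1_c2 LD2_c21 LD3_c9))))))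
theorem f113787 : Led Lsl_af (LP (LK LD1_c2 LD2_c20 LD3_c44)) = (LP (LK LD1_c1 LD2_c7 LD3_c52)) :=
  Lgr Lrot117 (Lpr_dt (K3.f99198 IH) (Lpr_at (f113782 IH) (Lpr_dt (K3.f13812 IH) (Lpn (LP (LK LD1_c1 LD2_c7 LD3_c52))))))
theorem f113810 : Led Lsl_ft (LP (LK LD1_c2 LD2_c20 LD3_c45)) = (LP (LK LD1_c1 LD2_c7 LD3_c52)) :=
  Lgr Lrot2 (Lpr_gt (K3.f13718 IH) (Lpr_gt (K3.f77326 IH) (Lpr_af (f113787 IH) (Lpn (LP (LK LD1_c1 LD2_c7 LD3_c52))))))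
theorem f113820 : Led Lsl_ff (LP (LK LD1_c2 LD2_c20 LD3_c45)) = (LP (LK LD1_c1 LD2_c7 LD3_c52)) :=
  Lgr Lrot3 (Lpr_ft (f113810 IH) (Lpn (LP (LK LD1_c1 LD2_c7 LD3_c52))))
theorem f113828 : Led Lsl_at (LP (LK LD1_c2 LD2_c20 LD3_c45)) = (LP (LK LD1_c1 LD2_c7 LD3_c53)) :=
  Lgr Lrot26 (Lpr_ff (f113820 IH) (Lpr_gt (K3.f13811 IH) (Lpr_gt (K3.f13800 IH) (Lpn (LP (LK LD1_c1 LD2_c7 LD3_c53))))))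
theorem f113801 : Led Lsl_at (LP (LK LD1_c2 LD2_c20 LD3_c44)) = (LP (LK LD1_c1 LD2_c7 LD3_c52)) :=
  Lgr Lrot100 (Lpr_af (f113787 IH) (Lpn (LP (LK LD1_c1 LD2_c7 LD3_c52))))
theorem f113839 : Led Lsl_ff (LP (LK LD1_c2 LD2_c20 LD3_c44)) = (LP (LK LD1_c1 LD2_c7 LD3_c53)) :=
  Lgr Lrot30 (Lpr_at (f113801 IH) (Lpe (f113820 IH) (Lpr_at (f113828 IH) (Lpn (LP (LK LD1_c1 LD2_c7 LD3_c53))))))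
theorem f58191 : Led Lsl_dt (LP (LK LD1_c3 LD2_c5 LD3_c50)) = (LP (LK LD1_c1 LD2_c28 LD3_c61)) :=
  Lre_d IH (LK LD1_c3 LD2_c5 LD3_c50) (LK LD1_c1 LD2_c28 LD3_c61) Lrfl Lrfl
theorem f99155 : Led Lsl_ct (LP (LK LD1_c2 LD2_c20 LD3_c44)) = (LP (LK LD1_c3 LD2_c5 LD3_c50)) :=
  Lgr Lrot110 (Lpe (K3.f77326 IH) (Lpe (K0.f13694 IH) (Lpe (K3.f13717 IH) (Lpe (K3.f99126 IH) (Lpr_gt (K3.f99151 IH) (Lpr_ct (K0.f13651 IH) (Lpr_gt (K3.f58188 IH) (Lpr_ct (f58190 IH) (Lpe (f58191 IH) (Lpn (LP (LK LD1_c3 LD2_c5 LD3_c50))))))))))))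
theorem f113843 : Led Lsl_ft (LP (LK LD1_c3 LD2_c5 LD3_c50)) = (LP (LK LD1_c2 LD2_c17 LD3_c12)) :=
  Lgr Lrot4 (Lpe (f99155 IH) (Lpr_ff (f113839 IH) (Lpr_cf (K2.f78094 IH) (Lpn (LP (LK LD1_c2 LD2_c17 LD3_c12))))))
theorem f113855 : Led Lsl_ff (LP (LK LD1_c3 LD2_c5 LD3_c50)) = (LP (LK LD1_c2 LD2_c17 LD3_c12)) :=
  Lgr Lrot3 (Lpr_ft (f113843 IH) (Lpn (LP (LK LD1_c2 LD2_c17 LD3_c12))))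
theorem f99177 : Led Lsl_cf (LP (LK LD1_c2 LD2_c20 LD3_c44)) = (LP (LK LD1_c3 LD2_c5 LD3_c50)) :=
  Lgr Lrot11 (Lpr_ct (f99155 IH) (Lpn (LP (LK LD1_c3 LD2_c5 LD3_c50))))
theorem f56680 : Led Lsl_bt (LP (LK LD1_c0 LD2_c31 LD3_c10)) = (LP (LK LD1_c0 LD2_c13 LD3_c55)) :=
  Lre_b IH (LK LD1_c0 LD2_c31 LD3_c10) (LK LD1_c0 LD2_c13 LD3_c55) Lrfl Lrfl
theorem f20280 : Led Lsl_bt (LP (LK LD1_c0 LD2_c20 LD3_c1)) = (LP (LK LD1_c0 LD2_c45 LD3_c11)) :=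
  Lre_b IH (LK LD1_c0 LD2_c20 LD3_c1) (LK LD1_c0 LD2_c45 LD3_c11) Lrfl Lrfl
theorem f20281 : Led Lsl_gt (LP (LK LD1_c0 LD2_c45 LD3_c11)) = (LP (LK LD1_c1 LD2_c37 LD3_c34)) :=
  Lre_g IH (LK LD1_c0 LD2_c45 LD3_c11) (LK LD1_c1 LD2_c37 LD3_c34) Lrfl Lrfl
theorem f99199 : Led Lsl_bf (LP (LK LD1_c1 LD2_c37 LD3_c34)) = (LP (LK LD1_c3 LD2_c5 LD3_c50)) :=
  Lgr Lrot34 (Lpe (f20281 IH) (Lpe (f20280 IH) (Lpr_ct (K0.f13476 IH) (Lpr_gf (K1.f56582 IH) (Lpe (K1.f56669 IH) (Lpe (K1.f20888 IH) (Lpe (f56680 IH) (Lpr_ct (K3.f13705 IH) (Lpe (K3.f13744 IH) (Lpr_cf (f99177 IH) (Lpn (LP (LK LD1_c3 LD2_c5 LD3_c50)))))))))))))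
theorem f113859 : Led Lsl_ft (LP (LK LD1_c1 LD2_c37 LD3_c34)) = (LP (LK LD1_c1 LD2_c29 LD3_c13)) :=
  Lgr Lrot75 (Lpr_bf (f99199 IH) (Lpr_ff (f113855 IH) (Lpr_bf (K2.f77905 IH) (Lpn (LP (LK LD1_c1 LD2_c29 LD3_c13))))))
theorem f77156 : Led Lsl_gf (LP (LK LD1_c1 LD2_c30 LD3_c20)) = (LP (LK LD1_c1 LD2_c37 LD3_c34)) :=
  Lgr Lrot76 (Lpe (K2.f77147 IH) (Lpr_ff (K2.f77145 IH) (Lpr_gt (f20281 IH) (Lpn (LP (LK LD1_c1 LD2_c37 LD3_c34))))))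
theorem f77148 : Led Lsl_at (LP (LK LD1_c1 LD2_c37 LD3_c33)) = (LP (LK LD1_c0 LD2_c45 LD3_c11)) :=
  Lre_a IH (LK LD1_c1 LD2_c37 LD3_c33) (LK LD1_c0 LD2_c45 LD3_c11) Lrfl Lrfl
theorem f77149 : Led Lsl_ft (LP (LK LD1_c1 LD2_c30 LD3_c20)) = (LP (LK LD1_c1 LD2_c37 LD3_c33)) :=
  Lgr Lrot101 (Lpe (K2.f77147 IH) (Lpr_ff (K2.f77145 IH) (Lpe (f77148 IH) (Lpn (LP (LK LD1_c1 LD2_c37 LD3_c33))))))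
theorem f9755 : Led Lsl_gt (LP (LK LD1_c1 LD2_c37 LD3_c35)) = (LP (LK LD1_c0 LD2_c45 LD3_c11)) :=
  Lre_g IH (LK LD1_c1 LD2_c37 LD3_c35) (LK LD1_c0 LD2_c45 LD3_c11) Lrfl Lrfl
theorem f77776 : Led Lsl_gt (LP (LK LD1_c1 LD2_c30 LD3_c20)) = (LP (LK LD1_c1 LD2_c37 LD3_c35)) :=
  Lgr Lrot5 (Lpr_ft (f77149 IH) (Lpr_at (f77148 IH) (Lpe (f9755 IH) (Lpn (LP (LK LD1_c1 LD2_c37 LD3_c35))))))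
theorem f113865 : Led Lsl_af (LP (LK LD1_c1 LD2_c37 LD3_c35)) = (LP (LK LD1_c1 LD2_c29 LD3_c13)) :=
  Lgr Lrot31 (Lpe (f77776 IH) (Lpr_gf (f77156 IH) (Lpr_ft (f113859 IH) (Lpn (LP (LK LD1_c1 LD2_c29 LD3_c13))))))
theorem f79625 : Led Lsl_et (LP (LK LD1_c1 LD2_c37 LD3_c35)) = (LP (LK LD1_c3 LD2_c22 LD3_c39)) :=
  Lre_e IH (LK LD1_c1 LD2_c37 LD3_c35) (LK LD1_c3 LD2_c22 LD3_c39) Lrfl Lrfl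
theorem f77967 : Led Lsl_et (LP (LK LD1_c3 LD2_c6 LD3_c17)) = (LP (LK LD1_c1 LD2_c29 LD3_c13)) :=
  Lre_e IH (LK LD1_c3 LD2_c6 LD3_c17) (LK LD1_c1 LD2_c29 LD3_c13) Lrfl Lrfl
theorem f113873 : Led Lsl_at (LP (LK LD1_c3 LD2_c22 LD3_c39)) = (LP (LK LD1_c3 LD2_c6 LD3_c17)) :=
  Lgr Lrot80 (Lpe (f79625 IH) (Lpr_af (f113865 IH) (Lpe (f77967 IH) (Lpn (LP (LK LD1_c3 LD2_c6 LD3_c17))))))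
theorem f99207 : Led Lsl_et (LP (LK LD1_c1 LD2_c37 LD3_c34)) = (LP (LK LD1_c3 LD2_c22 LD3_c37)) :=
  Lre_e IH (LK LD1_c1 LD2_c37 LD3_c34) (LK LD1_c3 LD2_c22 LD3_c37) Lrfl Lrfl
theorem f99196 : Led Lsl_et (LP (LK LD1_c6 LD2_c17 LD3_c17)) = (LP (LK LD1_c3 LD2_c5 LD3_c50)) :=
  Lre_e IH (LK LD1_c6 LD2_c17 LD3_c17) (LK LD1_c3 LD2_c5 LD3_c50) Lrfl Lrfl
theorem f99208 : Led Lsl_bt (LP (LK LD1_c3 LD2_c22 LD3_c37)) = (LP (LK LD1_c6 LD2_c17 LD3_c17)) :=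
  Lgr Lrot119 (Lpe (f99207 IH) (Lpr_bf (f99199 IH) (Lpe (f99196 IH) (Lpn (LP (LK LD1_c6 LD2_c17 LD3_c17))))))
theorem f79407 : Led Lsl_dt (LP (LK LD1_c6 LD2_c17 LD3_c17)) = (LP (LK LD1_c12 LD2_c11 LD3_c5)) :=
  Lre_d IH (LK LD1_c6 LD2_c17 LD3_c17) (LK LD1_c12 LD2_c11 LD3_c5) Lrfl Lrfl
theorem f61240 : Led Lsl_et (LP (LK LD1_c2 LD2_c17 LD3_c59)) = (LP (LK LD1_c1 LD2_c5 LD3_c58)) :=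
  Lre_e IH (LK LD1_c2 LD2_c17 LD3_c59) (LK LD1_c1 LD2_c5 LD3_c58) Lrfl Lrfl
theorem f67412 : Led Lsl_gt (LP (LK LD1_c1 LD2_c32 LD3_c17)) = (LP (LK LD1_c3 LD2_c11 LD3_c50)) :=
  Lre_g IH (LK LD1_c1 LD2_c32 LD3_c17) (LK LD1_c3 LD2_c11 LD3_c50) Lrfl Lrfl
theorem f79385 : Led Lsl_dt (LP (LK LD1_c2 LD2_c17 LD3_c59)) = (LP (LK LD1_c3 LD2_c11 LD3_c50)) :=
  Lgr Lrot37 (Lpr_et (f61240 IH) (Lpe (K3.f76915 IH) (Lpr_dt (K2.f25120 IH) (Lpr_gt (K3.f79379 IH) (Lpe (K3.f13496 IH) (Lpr_et (K3.f65541 IH) (Lpr_gt (K0.f13495 IH) (Lpr_ef (K3.f76734 IH) (Lpr_dt (K2.f67637 IH) (Lpr_gt (f67412 IH) (Lpn (LP (LK LD1_c3 LD2_c11 LD3_c50)))))))))))))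
theorem f79394 : Led Lsl_df (LP (LK LD1_c2 LD2_c17 LD3_c59)) = (LP (LK LD1_c3 LD2_c11 LD3_c50)) :=
  Lgr Lrot38 (Lpr_dt (f79385 IH) (Lpn (LP (LK LD1_c3 LD2_c11 LD3_c50))))
theorem f61228 : Led Lsl_et (LP (LK LD1_c1 LD2_c5 LD3_c58)) = (LP (LK LD1_c2 LD2_c17 LD3_c59)) :=
  Lre_e IH (LK LD1_c1 LD2_c5 LD3_c58) (LK LD1_c2 LD2_c17 LD3_c59) Lrfl Lrfl
theorem f61229 : Led Lsl_et (LP (LK LD1_c3 LD2_c5 LD3_c51)) = (LP (LK LD1_c1 LD2_c28 LD3_c61)) :=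
  Lre_e IH (LK LD1_c3 LD2_c5 LD3_c51) (LK LD1_c1 LD2_c28 LD3_c61) Lrfl Lrfl
theorem f61230 : Led Lsl_bt (LP (LK LD1_c2 LD2_c17 LD3_c59)) = (LP (LK LD1_c3 LD2_c5 LD3_c51)) :=
  Lgr Lrot119 (Lpe (f61228 IH) (Lpr_bf (K3.f61223 IH) (Lpe (f61229 IH) (Lpn (LP (LK LD1_c3 LD2_c5 LD3_c51))))))
theorem f61236 : Led Lsl_dt (LP (LK LD1_c3 LD2_c5 LD3_c51)) = (LP (LK LD1_c6 LD2_c17 LD3_c18)) :=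
  Lre_d IH (LK LD1_c3 LD2_c5 LD3_c51) (LK LD1_c6 LD2_c17 LD3_c18) Lrfl Lrfl
theorem f79399 : Led Lsl_bt (LP (LK LD1_c6 LD2_c17 LD3_c18)) = (LP (LK LD1_c3 LD2_c11 LD3_c50)) :=
  Lgr Lrot95 (Lpe (f61236 IH) (Lpe (f61230 IH) (Lpr_df (f79394 IH) (Lpn (LP (LK LD1_c3 LD2_c11 LD3_c50))))))
theorem f79401 : Led Lsl_et (LP (LK LD1_c12 LD2_c11 LD3_c5)) = (LP (LK LD1_c6 LD2_c17 LD3_c18)) :=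
  Lre_e IH (LK LD1_c12 LD2_c11 LD3_c5) (LK LD1_c6 LD2_c17 LD3_c18) Lrfl Lrfl
theorem f79396 : Led Lsl_et (LP (LK LD1_c3 LD2_c11 LD3_c50)) = (LP (LK LD1_c6 LD2_c27 LD3_c52)) :=
  Lre_e IH (LK LD1_c3 LD2_c11 LD3_c50) (LK LD1_c6 LD2_c27 LD3_c52) Lrfl Lrfl
theorem f79402 : Led Lsl_bf (LP (LK LD1_c12 LD2_c11 LD3_c5)) = (LP (LK LD1_c6 LD2_c27 LD3_c52)) :=
  Lgr Lrot96 (Lpr_et (f79401 IH) (Lpr_bt (f79399 IH) (Lpr_et (f79396 IH) (Lpn (LP (LK LD1_c6 LD2_c27 LD3_c52))))))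
theorem f79404 : Led Lsl_bt (LP (LK LD1_c12 LD2_c11 LD3_c5)) = (LP (LK LD1_c6 LD2_c27 LD3_c52)) :=
  Lgr Lrot127 (Lpr_bf (f79402 IH) (Lpn (LP (LK LD1_c6 LD2_c27 LD3_c52))))
theorem f99213 : Led Lsl_df (LP (LK LD1_c3 LD2_c22 LD3_c37)) = (LP (LK LD1_c6 LD2_c27 LD3_c52)) :=
  Lgr Lrot12 (Lpr_bt (f99208 IH) (Lpr_dt (f79407 IH) (Lpr_bt (f79404 IH) (Lpn (LP (LK LD1_c6 LD2_c27 LD3_c52))))))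
theorem f99216 : Led Lsl_dt (LP (LK LD1_c3 LD2_c22 LD3_c37)) = (LP (LK LD1_c6 LD2_c27 LD3_c52)) :=
  Lgr Lrot42 (Lpr_df (f99213 IH) (Lpn (LP (LK LD1_c6 LD2_c27 LD3_c52))))
theorem f67679 : Led Lsl_et (LP (LK LD1_c6 LD2_c27 LD3_c52)) = (LP (LK LD1_c3 LD2_c11 LD3_c50)) :=
  Lre_e IH (LK LD1_c6 LD2_c27 LD3_c52) (LK LD1_c3 LD2_c11 LD3_c50) Lrfl Lrfl
theorem f99218 : Led Lsl_df (LP (LK LD1_c1 LD2_c37 LD3_c34)) = (LP (LK LD1_c1 LD2_c5 LD3_c58)) :=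
  Lgr Lrot70 (Lpr_et (f99207 IH) (Lpr_dt (f99216 IH) (Lpr_et (f67679 IH) (Lpe (f79394 IH) (Lpr_et (f61240 IH) (Lpn (LP (LK LD1_c1 LD2_c5 LD3_c58))))))))
theorem f25066 : Led Lsl_gt (LP (LK LD1_c1 LD2_c29 LD3_c24)) = (LP (LK LD1_c0 LD2_c41 LD3_c19)) :=
  Lre_g IH (LK LD1_c1 LD2_c29 LD3_c24) (LK LD1_c0 LD2_c41 LD3_c19) Lrfl Lrfl
theorem f67890 : Led Lsl_gf (LP (LK LD1_c1 LD2_c29 LD3_c24)) = (LP (LK LD1_c1 LD2_c32 LD3_c16)) :=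
  Lgr Lrot47 (Lpr_gt (f25066 IH) (Lpe (K2.f25074 IH) (Lpr_ff (K2.f67886 IH) (Lpn (LP (LK LD1_c1 LD2_c32 LD3_c16))))))
theorem f61225 : Led Lsl_gt (LP (LK LD1_c1 LD2_c5 LD3_c59)) = (LP (LK LD1_c0 LD2_c30 LD3_c9)) :=
  Lre_g IH (LK LD1_c1 LD2_c5 LD3_c59) (LK LD1_c0 LD2_c30 LD3_c9) Lrfl Lrfl
theorem f79619 : Led Lsl_gf (LP (LK LD1_c1 LD2_c5 LD3_c59)) = (LP (LK LD1_c0 LD2_c41 LD3_c17)) :=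
  Lgr Lrot47 (Lpr_gt (f61225 IH) (Lpe (K2.f67030 IH) (Lpr_ff (K2.f76438 IH) (Lpn (LP (LK LD1_c0 LD2_c41 LD3_c17))))))
theorem f25123 : Led Lsl_et (LP (LK LD1_c1 LD2_c29 LD3_c19)) = (LP (LK LD1_c0 LD2_c41 LD3_c17)) :=
  Lre_e IH (LK LD1_c1 LD2_c29 LD3_c19) (LK LD1_c0 LD2_c41 LD3_c17) Lrfl Lrfl
theorem f25126 : Led Lsl_dt (LP (LK LD1_c1 LD2_c29 LD3_c19)) = (LP (LK LD1_c3 LD2_c6 LD3_c25)) :=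
  Lre_d IH (LK LD1_c1 LD2_c29 LD3_c19) (LK LD1_c3 LD2_c6 LD3_c25) Lrfl Lrfl
theorem f67668 : Led Lsl_gf (LP (LK LD1_c3 LD2_c6 LD3_c25)) = (LP (LK LD1_c3 LD2_c11 LD3_c50)) :=
  Lgr Lrot76 (Lpe (K2.f67653 IH) (Lpr_ff (K2.f67654 IH) (Lpr_gt (f67412 IH) (Lpn (LP (LK LD1_c3 LD2_c11 LD3_c50))))))
theorem f79621 : Led Lsl_dt (LP (LK LD1_c1 LD2_c5 LD3_c59)) = (LP (LK LD1_c1 LD2_c37 LD3_c35)) :=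
  Lgr Lrot171 (Lpr_gf (f79619 IH) (Lpe (f25123 IH) (Lpr_dt (f25126 IH) (Lpr_gf (f67668 IH) (Lpe (f79385 IH) (Lpr_et (f61240 IH) (Lpe (K3.f61222 IH) (Lpe (K3.f76906 IH) (Lpr_dt (K2.f9751 IH) (Lpe (f9755 IH) (Lpn (LP (LK LD1_c1 LD2_c37 LD3_c35)))))))))))))
theorem f99222 : Led Lsl_ef (LP (LK LD1_c1 LD2_c29 LD3_c24)) = (LP (LK LD1_c1 LD2_c5 LD3_c59)) :=
  Lgr Lrot17 (Lpr_gf (f67890 IH) (Lpe (K2.f76732 IH) (Lpe (K3.f77187 IH) (Lpr_gf (f77156 IH) (Lpr_df (f99218 IH) (Lpe (K3.f61222 IH) (Lpe (K3.f76906 IH) (Lpr_dt (K2.f9751 IH) (Lpe (f9755 IH) (Lpe (f79621 IH) (Lpn (LP (LK LD1_c1 LD2_c5 LD3_c59)))))))))))))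
theorem f25091 : Led Lsl_dt (LP (LK LD1_c1 LD2_c29 LD3_c24)) = (LP (LK LD1_c3 LD2_c6 LD3_c36)) :=
  Lre_d IH (LK LD1_c1 LD2_c29 LD3_c24) (LK LD1_c3 LD2_c6 LD3_c36) Lrfl Lrfl
theorem f67897 : Led Lsl_et (LP (LK LD1_c3 LD2_c6 LD3_c36)) = (LP (LK LD1_c6 LD2_c18 LD3_c44)) :=
  Lre_e IH (LK LD1_c3 LD2_c6 LD3_c36) (LK LD1_c6 LD2_c18 LD3_c44) Lrfl Lrfl
theorem f79623 : Led Lsl_df (LP (LK LD1_c1 LD2_c5 LD3_c59)) = (LP (LK LD1_c1 LD2_c37 LD3_c35)) :=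
  Lgr Lrot38 (Lpr_dt (f79621 IH) (Lpn (LP (LK LD1_c1 LD2_c37 LD3_c35))))
theorem f77782 : Led Lsl_et (LP (LK LD1_c3 LD2_c22 LD3_c39)) = (LP (LK LD1_c1 LD2_c37 LD3_c35)) :=
  Lre_e IH (LK LD1_c3 LD2_c22 LD3_c39) (LK LD1_c1 LD2_c37 LD3_c35) Lrfl Lrfl
theorem f99224 : Led Lsl_dt (LP (LK LD1_c6 LD2_c18 LD3_c44)) = (LP (LK LD1_c3 LD2_c22 LD3_c39)) :=
  Lgr Lrot77 (Lpe (f67897 IH) (Lpe (f25091 IH) (Lpr_ef (f99222 IH) (Lpr_df (f79623 IH) (Lpe (f77782 IH) (Lpn (LP (LK LD1_c3 LD2_c22 LD3_c39))))))))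
theorem f77930 : Led Lsl_dt (LP (LK LD1_c3 LD2_c6 LD3_c17)) = (LP (LK LD1_c6 LD2_c18 LD3_c6)) :=
  Lre_d IH (LK LD1_c3 LD2_c6 LD3_c17) (LK LD1_c6 LD2_c18 LD3_c6) Lrfl Lrfl
theorem f113877 : Led Lsl_af (LP (LK LD1_c6 LD2_c18 LD3_c44)) = (LP (LK LD1_c6 LD2_c18 LD3_c6)) :=
  Lgr Lrot117 (Lpr_dt (f99224 IH) (Lpr_at (f113873 IH) (Lpr_dt (f77930 IH) (Lpn (LP (LK LD1_c6 LD2_c18 LD3_c6))))))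
theorem f99228 : Led Lsl_et (LP (LK LD1_c6 LD2_c18 LD3_c44)) = (LP (LK LD1_c3 LD2_c6 LD3_c36)) :=
  Lre_e IH (LK LD1_c6 LD2_c18 LD3_c44) (LK LD1_c3 LD2_c6 LD3_c36) Lrfl Lrfl
theorem f77932 : Led Lsl_et (LP (LK LD1_c3 LD2_c6 LD3_c18)) = (LP (LK LD1_c6 LD2_c18 LD3_c6)) :=
  Lre_e IH (LK LD1_c3 LD2_c6 LD3_c18) (LK LD1_c6 LD2_c18 LD3_c6) Lrfl Lrfl
theorem f113883 : Led Lsl_at (LP (LK LD1_c3 LD2_c6 LD3_c36)) = (LP (LK LD1_c3 LD2_c6 LD3_c18)) :=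
  Lgr Lrot80 (Lpe (f99228 IH) (Lpr_af (f113877 IH) (Lpe (f77932 IH) (Lpn (LP (LK LD1_c3 LD2_c6 LD3_c18))))))
theorem f77861 : Led Lsl_dt (LP (LK LD1_c3 LD2_c6 LD3_c18)) = (LP (LK LD1_c1 LD2_c29 LD3_c14)) :=
  Lre_d IH (LK LD1_c3 LD2_c6 LD3_c18) (LK LD1_c1 LD2_c29 LD3_c14) Lrfl Lrfl
theorem f113889 : Led Lsl_af (LP (LK LD1_c1 LD2_c29 LD3_c24)) = (LP (LK LD1_c1 LD2_c29 LD3_c14)) :=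
  Lgr Lrot117 (Lpr_dt (f25091 IH) (Lpr_at (f113883 IH) (Lpr_dt (f77861 IH) (Lpn (LP (LK LD1_c1 LD2_c29 LD3_c14))))))
theorem f86155 : Led Lsl_ct (LP (LK LD1_c1 LD2_c29 LD3_c2)) = (LP (LK LD1_c1 LD2_c29 LD3_c2)) :=
  Lgr Lrot40 (Lpe (K3.f58112 IH) (Lpr_cf (K3.f86148 IH) (Lpr_ff (K1.f58146 IH) (Lpn (LP (LK LD1_c1 LD2_c29 LD3_c2))))))
theorem f86163 : Led Lsl_bf (LP (LK LD1_c1 LD2_c26 LD3_c40)) = (LP (LK LD1_c1 LD2_c29 LD3_c2)) :=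
  Lgr Lrot90 (Lpr_ct (K3.f58172 IH) (Lpr_bt (K3.f11090 IH) (Lpr_ct (K3.f12640 IH) (Lpr_bt (K3.f58153 IH) (Lpr_ct (f86155 IH) (Lpn (LP (LK LD1_c1 LD2_c29 LD3_c2))))))))
theorem f84303 : Led Lsl_bt (LP (LK LD1_c1 LD2_c35 LD3_c50)) = (LP (LK LD1_c0 LD2_c44 LD3_c27)) :=
  Lre_b IH (LK LD1_c1 LD2_c35 LD3_c50) (LK LD1_c0 LD2_c44 LD3_c27) Lrfl Lrfl
theorem f76736 : Led Lsl_bf (LP (LK LD1_c1 LD2_c37 LD3_c49)) = (LP (LK LD1_c1 LD2_c32 LD3_c16)) :=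
  Lgr Lrot96 (Lpr_et (K2.f13512 IH) (Lpe (K2.f13502 IH) (Lpr_et (K2.f76732 IH) (Lpn (LP (LK LD1_c1 LD2_c32 LD3_c16))))))
theorem f84304 : Led Lsl_ct (LP (LK LD1_c1 LD2_c35 LD3_c50)) = (LP (LK LD1_c1 LD2_c29 LD3_c24)) :=
  Lgr Lrot10 (Lpr_bt (f84303 IH) (Lpr_gt (K3.f84302 IH) (Lpr_ct (K3.f58172 IH) (Lpr_gt (K3.f84301 IH) (Lpe (K2.f84294 IH) (Lpr_bt (K2.f84295 IH) (Lpe (K2.f68108 IH) (Lpr_bf (f76736 IH) (Lpe (K2.f67713 IH) (Lpe (f67890 IH) (Lpn (LP (LK LD1_c1 LD2_c29 LD3_c24)))))))))))))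
theorem f86325 : Led Lsl_gt (LP (LK LD1_c1 LD2_c29 LD3_c23)) = (LP (LK LD1_c1 LD2_c32 LD3_c16)) :=
  Lgr Lrot82 (Lpr_bf (K3.f86316 IH) (Lpr_ct (K3.f24998 IH) (Lpr_gf (K3.f58159 IH) (Lpe (f86155 IH) (Lpe (f86163 IH) (Lpe (K3.f84302 IH) (Lpe (f84303 IH) (Lpr_ct (f84304 IH) (Lpr_gf (f67890 IH) (Lpr_cf (K2.f67713 IH) (Lpn (LP (LK LD1_c1 LD2_c32 LD3_c16)))))))))))))
theorem f113895 : Led Lsl_ft (LP (LK LD1_c1 LD2_c29 LD3_c23)) = (LP (LK LD1_c1 LD2_c29 LD3_c14)) :=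
  Lgr Lrot2 (Lpr_gt (f86325 IH) (Lpe (f67890 IH) (Lpr_af (f113889 IH) (Lpn (LP (LK LD1_c1 LD2_c29 LD3_c14))))))
theorem f113903 : Led Lsl_ff (LP (LK LD1_c1 LD2_c29 LD3_c23)) = (LP (LK LD1_c1 LD2_c29 LD3_c14)) :=
  Lgr Lrot3 (Lpr_ft (f113895 IH) (Lpn (LP (LK LD1_c1 LD2_c29 LD3_c14))))
theorem f113911 : Led Lsl_at (LP (LK LD1_c1 LD2_c29 LD3_c23)) = (LP (LK LD1_c1 LD2_c32 LD3_c15)) :=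
  Lgr Lrot26 (Lpr_ff (f113903 IH) (Lpe (K3.f79387 IH) (Lpr_gt (K3.f67898 IH) (Lpn (LP (LK LD1_c1 LD2_c32 LD3_c15))))))
theorem f113891 : Led Lsl_at (LP (LK LD1_c1 LD2_c29 LD3_c24)) = (LP (LK LD1_c1 LD2_c29 LD3_c14)) :=
  Lgr Lrot100 (Lpr_af (f113889 IH) (Lpn (LP (LK LD1_c1 LD2_c29 LD3_c14))))
theorem f113918 : Led Lsl_ff (LP (LK LD1_c1 LD2_c29 LD3_c24)) = (LP (LK LD1_c1 LD2_c32 LD3_c15)) :=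
  Lgr Lrot30 (Lpr_at (f113891 IH) (Lpe (f113903 IH) (Lpr_at (f113911 IH) (Lpn (LP (LK LD1_c1 LD2_c32 LD3_c15))))))
theorem f113922 : Led Lsl_ft (LP (LK LD1_c1 LD2_c29 LD3_c24)) = (LP (LK LD1_c1 LD2_c32 LD3_c15)) :=
  Lgr Lrot48 (Lpr_ff (f113918 IH) (Lpn (LP (LK LD1_c1 LD2_c32 LD3_c15))))
theorem f113924 : Led Lsl_ff (LP (LK LD1_c1 LD2_c35 LD3_c50)) = (LP (LK LD1_c3 LD2_c2 LD3_c26)) :=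
  Lgr Lrot23 (Lpr_ct (f84304 IH) (Lpr_ft (f113922 IH) (Lpr_ct (K3.f86145 IH) (Lpn (LP (LK LD1_c3 LD2_c2 LD3_c26))))))
theorem f84314 : Led Lsl_dt (LP (LK LD1_c1 LD2_c35 LD3_c50)) = (LP (LK LD1_c3 LD2_c18 LD3_c49)) :=
  Lre_d IH (LK LD1_c1 LD2_c35 LD3_c50) (LK LD1_c3 LD2_c18 LD3_c49) Lrfl Lrfl
theorem f86147 : Led Lsl_dt (LP (LK LD1_c6 LD2_c11 LD3_c44)) = (LP (LK LD1_c3 LD2_c2 LD3_c26)) :=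
  Lre_d IH (LK LD1_c6 LD2_c11 LD3_c44) (LK LD1_c3 LD2_c2 LD3_c26) Lrfl Lrfl
theorem f113930 : Led Lsl_ft (LP (LK LD1_c3 LD2_c18 LD3_c49)) = (LP (LK LD1_c6 LD2_c11 LD3_c44)) :=
  Lgr Lrot54 (Lpe (f84314 IH) (Lpr_ff (f113924 IH) (Lpe (f86147 IH) (Lpn (LP (LK LD1_c6 LD2_c11 LD3_c44))))))
theorem f113935 : Led Lsl_ff (LP (LK LD1_c3 LD2_c18 LD3_c49)) = (LP (LK LD1_c6 LD2_c11 LD3_c44)) :=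
  Lgr Lrot3 (Lpr_ft (f113930 IH) (Lpn (LP (LK LD1_c6 LD2_c11 LD3_c44))))
theorem f113938 : Led Lsl_bt (LP (LK LD1_c3 LD2_c18 LD3_c49)) = (LP (LK LD1_c1 LD2_c35 LD3_c52)) :=
  Lre_b IH (LK LD1_c3 LD2_c18 LD3_c49) (LK LD1_c1 LD2_c35 LD3_c52) Lrfl Lrfl
theorem f113939 : Led Lsl_bt (LP (LK LD1_c3 LD2_c2 LD3_c27)) = (LP (LK LD1_c6 LD2_c11 LD3_c44)) :=
  Lre_b IH (LK LD1_c3 LD2_c2 LD3_c27) (LK LD1_c6 LD2_c11 LD3_c44) Lrfl Lrfl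
theorem f113940 : Led Lsl_ft (LP (LK LD1_c1 LD2_c35 LD3_c52)) = (LP (LK LD1_c3 LD2_c2 LD3_c27)) :=
  Lgr Lrot75 (Lpe (f113938 IH) (Lpr_ff (f113935 IH) (Lpe (f113939 IH) (Lpn (LP (LK LD1_c3 LD2_c2 LD3_c27))))))
theorem f7446 : Led Lsl_dt (LP (LK LD1_c0 LD2_c44 LD3_c27)) = (LP (LK LD1_c1 LD2_c35 LD3_c52)) :=
  Lre_d IH (LK LD1_c0 LD2_c44 LD3_c27) (LK LD1_c1 LD2_c35 LD3_c52) Lrfl Lrfl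
theorem f84999 : Led Lsl_dt (LP (LK LD1_c3 LD2_c2 LD3_c27)) = (LP (LK LD1_c1 LD2_c27 LD3_c11)) :=
  Lre_d IH (LK LD1_c3 LD2_c2 LD3_c27) (LK LD1_c1 LD2_c27 LD3_c11) Lrfl Lrfl
theorem f113945 : Led Lsl_ff (LP (LK LD1_c0 LD2_c44 LD3_c27)) = (LP (LK LD1_c1 LD2_c27 LD3_c11)) :=
  Lgr Lrot19 (Lpr_dt (f7446 IH) (Lpr_ft (f113940 IH) (Lpr_dt (f84999 IH) (Lpn (LP (LK LD1_c1 LD2_c27 LD3_c11))))))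
theorem f113949 : Led Lsl_at (LP (LK LD1_c0 LD2_c44 LD3_c27)) = (LP (LK LD1_c0 LD2_c40 LD3_c15)) :=
  Lgr Lrot26 (Lpr_ff (f113945 IH) (Lpr_gt (K3.f64494 IH) (Lpe (K3.f64492 IH) (Lpn (LP (LK LD1_c0 LD2_c40 LD3_c15))))))
theorem f64486 : Led Lsl_et (LP (LK LD1_c0 LD2_c40 LD3_c15)) = (LP (LK LD1_c0 LD2_c18 LD3_c0)) :=
  Lre_e IH (LK LD1_c0 LD2_c40 LD3_c15) (LK LD1_c0 LD2_c18 LD3_c0) Lrfl Lrfl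
theorem f113959 : Led Lsl_ef (LP (LK LD1_c0 LD2_c44 LD3_c27)) = (LP (LK LD1_c0 LD2_c40 LD3_c12)) :=
  Lgr Lrot20 (Lpr_at (f113949 IH) (Lpr_et (f64486 IH) (Lpr_at (K2.f61994 IH) (Lpn (LP (LK LD1_c0 LD2_c40 LD3_c12))))))
theorem f103590 : Led Lsl_et (LP (LK LD1_c0 LD2_c40 LD3_c7)) = (LP (LK LD1_c1 LD2_c26 LD3_c40)) :=
  Lre_e IH (LK LD1_c0 LD2_c40 LD3_c7) (LK LD1_c1 LD2_c26 LD3_c40) Lrfl Lrfl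
theorem f103610 : Led Lsl_df (LP (LK LD1_c0 LD2_c40 LD3_c18)) = (LP (LK LD1_c0 LD2_c19 LD3_c33)) :=
  Lgr Lrot157 (Lpr_ct (K3.f58456 IH) (Lpr_dt (K3.f63846 IH) (Lpe (K3.f96232 IH) (Lpr_dt (K1.f63157 IH) (Lpr_ct (K3.f103582 IH) (Lpr_dt (K3.f98647 IH) (Lpr_ct (K3.f103565 IH) (Lpe (K3.f79319 IH) (Lpe (K3.f65456 IH) (Lpn (LP (LK LD1_c0 LD2_c19 LD3_c33))))))))))))
theorem f65400 : Led Lsl_at (LP (LK LD1_c0 LD2_c8 LD3_c48)) = (LP (LK LD1_c0 LD2_c19 LD3_c33)) :=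
  Lre_a IH (LK LD1_c0 LD2_c8 LD3_c48) (LK LD1_c0 LD2_c19 LD3_c33) Lrfl Lrfl
theorem f65401 : Led Lsl_ef (LP (LK LD1_c0 LD2_c19 LD3_c33)) = (LP (LK LD1_c0 LD2_c19 LD3_c33)) :=
  Lgr Lrot20 (Lpr_at (K3.f65189 IH) (Lpr_et (K3.f65397 IH) (Lpr_at (f65400 IH) (Lpn (LP (LK LD1_c0 LD2_c19 LD3_c33))))))
theorem f69284 : Led Lsl_dt (LP (LK LD1_c0 LD2_c8 LD3_c52)) = (LP (LK LD1_c0 LD2_c19 LD3_c47)) :=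
  Lre_d IH (LK LD1_c0 LD2_c8 LD3_c52) (LK LD1_c0 LD2_c19 LD3_c47) Lrfl Lrfl
theorem f113970 : Led Lsl_df (LP (LK LD1_c0 LD2_c44 LD3_c8)) = (LP (LK LD1_c0 LD2_c40 LD3_c12)) :=
  Lgr Lrot132 (Lpe (K3.f60969 IH) (Lpe (f69284 IH) (Lpr_gf (K3.f103572 IH) (Lpr_ef (f65401 IH) (Lpe (f103610 IH) (Lpe (K3.f58455 IH) (Lpe (K1.f58394 IH) (Lpr_et (f103590 IH) (Lpe (K3.f84302 IH) (Lpr_ef (f113959 IH) (Lpn (LP (LK LD1_c0 LD2_c40 LD3_c12)))))))))))))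
theorem f110030 : Led Lsl_et (LP (LK LD1_c0 LD2_c8 LD3_c50)) = (LP (LK LD1_c0 LD2_c18 LD3_c1)) :=
  Lre_e IH (LK LD1_c0 LD2_c8 LD3_c50) (LK LD1_c0 LD2_c18 LD3_c1) Lrfl Lrfl
theorem f110032 : Led Lsl_et (LP (LK LD1_c1 LD2_c26 LD3_c42)) = (LP (LK LD1_c0 LD2_c40 LD3_c8)) :=
  Lre_e IH (LK LD1_c1 LD2_c26 LD3_c42) (LK LD1_c0 LD2_c40 LD3_c8) Lrfl Lrfl
theorem f110033 : Led Lsl_dt (LP (LK LD1_c1 LD2_c26 LD3_c42)) = (LP (LK LD1_c3 LD2_c1 LD3_c26)) :=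
  Lre_d IH (LK LD1_c1 LD2_c26 LD3_c42) (LK LD1_c3 LD2_c1 LD3_c26) Lrfl Lrfl
theorem f96635 : Led Lsl_dt (LP (LK LD1_c3 LD2_c16 LD3_c5)) = (LP (LK LD1_c1 LD2_c34 LD3_c48)) :=
  Lre_d IH (LK LD1_c3 LD2_c16 LD3_c5) (LK LD1_c1 LD2_c34 LD3_c48) Lrfl Lrfl
theorem f113990 : Led Lsl_gt (LP (LK LD1_c0 LD2_c18 LD3_c3)) = (LP (LK LD1_c0 LD2_c40 LD3_c12)) :=
  Lgr Lrot49 (Lpe (K1.f12153 IH) (Lpr_gf (K1.f62814 IH) (Lpe (K2.f62851 IH) (Lpe (K3.f108685 IH) (Lpr_dt (K3.f65643 IH) (Lpr_gt (K3.f96672 IH) (Lpr_dt (f96635 IH) (Lpe (K3.f60975 IH) (Lpr_df (f113970 IH) (Lpn (LP (LK LD1_c0 LD2_c40 LD3_c12))))))))))))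
theorem f113994 : Led Lsl_et (LP (LK LD1_c0 LD2_c40 LD3_c22)) = (LP (LK LD1_c0 LD2_c18 LD3_c3)) :=
  Lre_e IH (LK LD1_c0 LD2_c40 LD3_c22) (LK LD1_c0 LD2_c18 LD3_c3) Lrfl Lrfl
theorem f113995 : Led Lsl_gt (LP (LK LD1_c3 LD2_c1 LD3_c26)) = (LP (LK LD1_c1 LD2_c27 LD3_c12)) :=
  Lgr Lrot112 (Lpe (f110033 IH) (Lpr_et (f110032 IH) (Lpe (K3.f110016 IH) (Lpe (f110030 IH) (Lpr_dt (K3.f63844 IH) (Lpe (K3.f63862 IH) (Lpr_df (f113970 IH) (Lpe (f113990 IH) (Lpe (f113994 IH) (Lpr_dt (K3.f64511 IH) (Lpn (LP (LK LD1_c1 LD2_c27 LD3_c12)))))))))))))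
theorem f113997 : Led Lsl_at (LP (LK LD1_c3 LD2_c1 LD3_c24)) = (LP (LK LD1_c1 LD2_c27 LD3_c12)) :=
  Lre_a IH (LK LD1_c3 LD2_c1 LD3_c24) (LK LD1_c1 LD2_c27 LD3_c12) Lrfl Lrfl
theorem f58109 : Led Lsl_ft (LP (LK LD1_c1 LD2_c34 LD3_c15)) = (LP (LK LD1_c3 LD2_c1 LD3_c24)) :=
  Lre_f IH (LK LD1_c1 LD2_c34 LD3_c15) (LK LD1_c3 LD2_c1 LD3_c24) Lrfl Lrfl
theorem f113998 : Led Lsl_gf (LP (LK LD1_c3 LD2_c1 LD3_c26)) = (LP (LK LD1_c1 LD2_c34 LD3_c15)) :=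
  Lgr Lrot47 (Lpr_gt (f113995 IH) (Lpe (f113997 IH) (Lpe (f58109 IH) (Lpn (LP (LK LD1_c1 LD2_c34 LD3_c15))))))
theorem f114002 : Led Lsl_dt (LP (LK LD1_c3 LD2_c1 LD3_c26)) = (LP (LK LD1_c1 LD2_c26 LD3_c42)) :=
  Lre_d IH (LK LD1_c3 LD2_c1 LD3_c26) (LK LD1_c1 LD2_c26 LD3_c42) Lrfl Lrfl
theorem f62887 : Led Lsl_dt (LP (LK LD1_c0 LD2_c43 LD3_c46)) = (LP (LK LD1_c1 LD2_c34 LD3_c15)) :=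
  Lre_d IH (LK LD1_c0 LD2_c43 LD3_c46) (LK LD1_c1 LD2_c34 LD3_c15) Lrfl Lrfl
theorem f92029 : Led Lsl_dt (LP (LK LD1_c3 LD2_c24 LD3_c17)) = (LP (LK LD1_c1 LD2_c38 LD3_c30)) :=
  Lre_d IH (LK LD1_c3 LD2_c24 LD3_c17) (LK LD1_c1 LD2_c38 LD3_c30) Lrfl Lrfl
theorem f114010 : Led Lsl_ct (LP (LK LD1_c1 LD2_c26 LD3_c42)) = (LP (LK LD1_c1 LD2_c38 LD3_c30)) :=
  Lgr Lrot7 (Lpe (f114002 IH) (Lpr_gf (f113998 IH) (Lpe (f62887 IH) (Lpe (K3.f64494 IH) (Lpr_cf (K3.f106709 IH) (Lpe (K3.f106705 IH) (Lpr_dt (K3.f65504 IH) (Lpe (K3.f95180 IH) (Lpr_dt (f92029 IH) (Lpn (LP (LK LD1_c1 LD2_c38 LD3_c30))))))))))))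
theorem f114018 : Led Lsl_at (LP (LK LD1_c0 LD2_c40 LD3_c11)) = (LP (LK LD1_c1 LD2_c26 LD3_c42)) :=
  Lre_a IH (LK LD1_c0 LD2_c40 LD3_c11) (LK LD1_c1 LD2_c26 LD3_c42) Lrfl Lrfl
theorem f114019 : Led Lsl_af (LP (LK LD1_c1 LD2_c26 LD3_c47)) = (LP (LK LD1_c1 LD2_c38 LD3_c30)) :=
  Lgr Lrot68 (Lpr_ct (K2.f61750 IH) (Lpr_at (f114018 IH) (Lpr_ct (f114010 IH) (Lpn (LP (LK LD1_c1 LD2_c38 LD3_c30))))))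
theorem f114025 : Led Lsl_at (LP (LK LD1_c3 LD2_c1 LD3_c33)) = (LP (LK LD1_c3 LD2_c24 LD3_c17)) :=
  Lgr Lrot51 (Lpe (K3.f84715 IH) (Lpr_af (f114019 IH) (Lpe (f92029 IH) (Lpn (LP (LK LD1_c3 LD2_c24 LD3_c17))))))
theorem f109134 : Led Lsl_cf (LP (LK LD1_c3 LD2_c1 LD3_c33)) = (LP (LK LD1_c1 LD2_c53 LD3_c30)) :=
  Lgr Lrot11 (Lpr_ct (K3.f109131 IH) (Lpn (LP (LK LD1_c1 LD2_c53 LD3_c30))))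
theorem f114029 : Led Lsl_af (LP (LK LD1_c1 LD2_c53 LD3_c30)) = (LP (LK LD1_c3 LD2_c31 LD3_c8)) :=
  Lgr Lrot68 (Lpe (f109134 IH) (Lpr_at (f114025 IH) (Lpr_ct (K3.f106276 IH) (Lpn (LP (LK LD1_c3 LD2_c31 LD3_c8))))))
theorem f85599 : Led Lsl_gt (LP (LK LD1_c0 LD2_c53 LD3_c22)) = (LP (LK LD1_c1 LD2_c53 LD3_c30)) :=
  Lre_g IH (LK LD1_c0 LD2_c53 LD3_c22) (LK LD1_c1 LD2_c53 LD3_c30) Lrfl Lrfl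
theorem f12727 : Led Lsl_gt (LP (LK LD1_c1 LD2_c53 LD3_c31)) = (LP (LK LD1_c0 LD2_c53 LD3_c22)) :=
  Lre_g IH (LK LD1_c1 LD2_c53 LD3_c31) (LK LD1_c0 LD2_c53 LD3_c22) Lrfl Lrfl
theorem f114037 : Led Lsl_ft (LP (LK LD1_c1 LD2_c53 LD3_c31)) = (LP (LK LD1_c3 LD2_c31 LD3_c8)) :=
  Lgr Lrot2 (Lpr_gt (f12727 IH) (Lpr_gt (f85599 IH) (Lpr_af (f114029 IH) (Lpn (LP (LK LD1_c3 LD2_c31 LD3_c8))))))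
theorem f114081 : Led Lsl_ff (LP (LK LD1_c1 LD2_c53 LD3_c31)) = (LP (LK LD1_c3 LD2_c31 LD3_c8)) :=
  Lgr Lrot3 (Lpr_ft (f114037 IH) (Lpn (LP (LK LD1_c3 LD2_c31 LD3_c8))))
theorem f114087 : Led Lsl_at (LP (LK LD1_c1 LD2_c53 LD3_c31)) = (LP (LK LD1_c3 LD2_c31 LD3_c7)) :=
  Lgr Lrot26 (Lpr_ff (f114081 IH) (Lpr_gt (K3.f11135 IH) (Lpr_gt (K3.f12742 IH) (Lpn (LP (LK LD1_c3 LD2_c31 LD3_c7))))))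
theorem f114031 : Led Lsl_at (LP (LK LD1_c1 LD2_c53 LD3_c30)) = (LP (LK LD1_c3 LD2_c31 LD3_c8)) :=
  Lgr Lrot100 (Lpr_af (f114029 IH) (Lpn (LP (LK LD1_c3 LD2_c31 LD3_c8))))
theorem f114095 : Led Lsl_ff (LP (LK LD1_c1 LD2_c53 LD3_c30)) = (LP (LK LD1_c3 LD2_c31 LD3_c7)) :=
  Lgr Lrot30 (Lpr_at (f114031 IH) (Lpe (f114081 IH) (Lpr_at (f114087 IH) (Lpn (LP (LK LD1_c3 LD2_c31 LD3_c7))))))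
theorem f114099 : Led Lsl_ft (LP (LK LD1_c3 LD2_c1 LD3_c33)) = (LP (LK LD1_c3 LD2_c35 LD3_c60)) :=
  Lgr Lrot4 (Lpr_cf (f109134 IH) (Lpr_ff (f114095 IH) (Lpr_cf (K3.f106713 IH) (Lpn (LP (LK LD1_c3 LD2_c35 LD3_c60))))))
theorem f114027 : Led Lsl_af (LP (LK LD1_c3 LD2_c1 LD3_c33)) = (LP (LK LD1_c3 LD2_c24 LD3_c17)) :=
  Lgr Lrot0 (Lpr_at (f114025 IH) (Lpn (LP (LK LD1_c3 LD2_c24 LD3_c17))))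
theorem f85649 : Led Lsl_cf (LP (LK LD1_c3 LD2_c31 LD3_c56)) = (LP (LK LD1_c1 LD2_c53 LD3_c31)) :=
  Lgr Lrot11 (Lpr_ct (K3.f85642 IH) (Lpn (LP (LK LD1_c1 LD2_c53 LD3_c31))))
theorem f114085 : Led Lsl_ft (LP (LK LD1_c3 LD2_c31 LD3_c56)) = (LP (LK LD1_c3 LD2_c24 LD3_c17)) :=
  Lgr Lrot4 (Lpr_cf (f85649 IH) (Lpr_ff (f114081 IH) (Lpe (K3.f106276 IH) (Lpn (LP (LK LD1_c3 LD2_c24 LD3_c17))))))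
theorem f114137 : Led Lsl_af (LP (LK LD1_c3 LD2_c31 LD3_c56)) = (LP (LK LD1_c3 LD2_c35 LD3_c60)) :=
  Lgr Lrot45 (Lpr_ft (f114085 IH) (Lpe (f114027 IH) (Lpr_ft (f114099 IH) (Lpn (LP (LK LD1_c3 LD2_c35 LD3_c60))))))
theorem f114146 : Led Lsl_gt (LP (LK LD1_c3 LD2_c35 LD3_c56)) = (LP (LK LD1_c3 LD2_c31 LD3_c56)) :=
  Lgr Lrot46 (Lpe (K3.f109140 IH) (Lpr_ft (f114099 IH) (Lpe (f114137 IH) (Lpn (LP (LK LD1_c3 LD2_c31 LD3_c56))))))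
theorem f12722 : Led Lsl_ct (LP (LK LD1_c0 LD2_c53 LD3_c22)) = (LP (LK LD1_c0 LD2_c23 LD3_c61)) :=
  Lre_c IH (LK LD1_c0 LD2_c53 LD3_c22) (LK LD1_c0 LD2_c23 LD3_c61) Lrfl Lrfl
theorem f12169 : Led Lsl_gt (LP (LK LD1_c0 LD2_c44 LD3_c28)) = (LP (LK LD1_c0 LD2_c19 LD3_c48)) :=
  Lre_g IH (LK LD1_c0 LD2_c44 LD3_c28) (LK LD1_c0 LD2_c19 LD3_c48) Lrfl Lrfl
theorem f12170 : Led Lsl_ct (LP (LK LD1_c1 LD2_c35 LD3_c54)) = (LP (LK LD1_c0 LD2_c44 LD3_c28)) :=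
  Lre_c IH (LK LD1_c1 LD2_c35 LD3_c54) (LK LD1_c0 LD2_c44 LD3_c28) Lrfl Lrfl
theorem f114150 : Led Lsl_gt (LP (LK LD1_c1 LD2_c44 LD3_c49)) = (LP (LK LD1_c1 LD2_c35 LD3_c54)) :=
  Lgr Lrot9 (Lpe (K3.f106336 IH) (Lpr_gt (f114146 IH) (Lpr_ct (K3.f85642 IH) (Lpr_gt (f12727 IH) (Lpr_ct (f12722 IH) (Lpe (K3.f18013 IH) (Lpe (K2.f12165 IH) (Lpe (f12169 IH) (Lpe (f12170 IH) (Lpn (LP (LK LD1_c1 LD2_c35 LD3_c54))))))))))))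
theorem f17761 : Led Lsl_at (LP (LK LD1_c0 LD2_c49 LD3_c6)) = (LP (LK LD1_c1 LD2_c44 LD3_c49)) :=
  Lre_a IH (LK LD1_c0 LD2_c49 LD3_c6) (LK LD1_c1 LD2_c44 LD3_c49) Lrfl Lrfl
theorem f106689 : Led Lsl_af (LP (LK LD1_c0 LD2_c49 LD3_c29)) = (LP (LK LD1_c1 LD2_c34 LD3_c22)) :=
  Lgr Lrot45 (Lpr_ft (K3.f106685 IH) (Lpr_at (f17761 IH) (Lpe (K3.f106332 IH) (Lpn (LP (LK LD1_c1 LD2_c34 LD3_c22))))))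
theorem f114154 : Led Lsl_gf (LP (LK LD1_c0 LD2_c49 LD3_c29)) = (LP (LK LD1_c1 LD2_c35 LD3_c54)) :=
  Lgr Lrot76 (Lpr_af (f106689 IH) (Lpr_ff (K3.f106332 IH) (Lpr_gt (f114150 IH) (Lpn (LP (LK LD1_c1 LD2_c35 LD3_c54))))))
theorem f64518 : Led Lsl_dt (LP (LK LD1_c0 LD2_c47 LD3_c33)) = (LP (LK LD1_c0 LD2_c21 LD3_c15)) :=
  Lre_d IH (LK LD1_c0 LD2_c47 LD3_c33) (LK LD1_c0 LD2_c21 LD3_c15) Lrfl Lrfl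
theorem f106675 : Led Lsl_dt (LP (LK LD1_c0 LD2_c49 LD3_c29)) = (LP (LK LD1_c1 LD2_c44 LD3_c2)) :=
  Lgr Lrot27 (Lpr_cf (K3.f105736 IH) (Lpe (K3.f105644 IH) (Lpe (K3.f64516 IH) (Lpe (K2.f7408 IH) (Lpe (f64518 IH) (Lpe (K3.f87597 IH) (Lpr_ct (K3.f85578 IH) (Lpr_gt (K3.f106665 IH) (Lpr_ct (K3.f106667 IH) (Lpn (LP (LK LD1_c1 LD2_c44 LD3_c2))))))))))))
theorem f84965 : Led Lsl_dt (LP (LK LD1_c3 LD2_c1 LD3_c33)) = (LP (LK LD1_c1 LD2_c26 LD3_c47)) :=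
  Lre_d IH (LK LD1_c3 LD2_c1 LD3_c33) (LK LD1_c1 LD2_c26 LD3_c47) Lrfl Lrfl
theorem f64467 : Led Lsl_dt (LP (LK LD1_c1 LD2_c26 LD3_c49)) = (LP (LK LD1_c0 LD2_c40 LD3_c11)) :=
  Lre_d IH (LK LD1_c1 LD2_c26 LD3_c49) (LK LD1_c0 LD2_c40 LD3_c11) Lrfl Lrfl
theorem f12636 : Led Lsl_ct (LP (LK LD1_c0 LD2_c44 LD3_c28)) = (LP (LK LD1_c1 LD2_c35 LD3_c54)) :=
  Lre_c IH (LK LD1_c0 LD2_c44 LD3_c28) (LK LD1_c1 LD2_c35 LD3_c54) Lrfl Lrfl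
theorem f84619 : Led Lsl_dt (LP (LK LD1_c0 LD2_c19 LD3_c48)) = (LP (LK LD1_c0 LD2_c44 LD3_c29)) :=
  Lre_d IH (LK LD1_c0 LD2_c19 LD3_c48) (LK LD1_c0 LD2_c44 LD3_c29) Lrfl Lrfl
theorem f114159 : Led Lsl_gf (LP (LK LD1_c1 LD2_c26 LD3_c49)) = (LP (LK LD1_c0 LD2_c44 LD3_c29)) :=
  Lgr Lrot143 (Lpr_dt (f64467 IH) (Lpe (K2.f61750 IH) (Lpe (f84965 IH) (Lpr_gf (K3.f109137 IH) (Lpe (f106675 IH) (Lpr_gf (f114154 IH) (Lpe (f12636 IH) (Lpr_gt (f12169 IH) (Lpr_dt (f84619 IH) (Lpn (LP (LK LD1_c0 LD2_c44 LD3_c29))))))))))))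
theorem f114210 : Led Lsl_ft (LP (LK LD1_c0 LD2_c44 LD3_c29)) = (LP (LK LD1_c1 LD2_c27 LD3_c12)) :=
  Lre_f IH (LK LD1_c0 LD2_c44 LD3_c29) (LK LD1_c1 LD2_c27 LD3_c12) Lrfl Lrfl
theorem f114211 : Led Lsl_at (LP (LK LD1_c1 LD2_c27 LD3_c12)) = (LP (LK LD1_c3 LD2_c1 LD3_c24)) :=
  Lre_a IH (LK LD1_c1 LD2_c27 LD3_c12) (LK LD1_c3 LD2_c1 LD3_c24) Lrfl Lrfl
theorem f114212 : Led Lsl_gt (LP (LK LD1_c1 LD2_c26 LD3_c49)) = (LP (LK LD1_c3 LD2_c1 LD3_c24)) :=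
  Lgr Lrot46 (Lpr_gf (f114159 IH) (Lpr_ft (f114210 IH) (Lpr_at (f114211 IH) (Lpn (LP (LK LD1_c3 LD2_c1 LD3_c24))))))
theorem f109136 : Led Lsl_ft (LP (LK LD1_c1 LD2_c26 LD3_c49)) = (LP (LK LD1_c3 LD2_c1 LD3_c37)) :=
  Lre_f IH (LK LD1_c1 LD2_c26 LD3_c49) (LK LD1_c3 LD2_c1 LD3_c37) Lrfl Lrfl
theorem f86282 : Led Lsl_gt (LP (LK LD1_c3 LD2_c1 LD3_c24)) = (LP (LK LD1_c1 LD2_c35 LD3_c56)) :=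
  Lre_g IH (LK LD1_c3 LD2_c1 LD3_c24) (LK LD1_c1 LD2_c35 LD3_c56) Lrfl Lrfl
theorem f114312 : Led Lsl_at (LP (LK LD1_c3 LD2_c1 LD3_c37)) = (LP (LK LD1_c1 LD2_c35 LD3_c56)) :=
  Lgr Lrot26 (Lpe (f109136 IH) (Lpr_gt (f114212 IH) (Lpr_gt (f86282 IH) (Lpn (LP (LK LD1_c1 LD2_c35 LD3_c56))))))
theorem f61727 : Led Lsl_ct (LP (LK LD1_c0 LD2_c40 LD3_c11)) = (LP (LK LD1_c1 LD2_c26 LD3_c47)) :=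
  Lre_c IH (LK LD1_c0 LD2_c40 LD3_c11) (LK LD1_c1 LD2_c26 LD3_c47) Lrfl Lrfl
theorem f85600 : Led Lsl_dt (LP (LK LD1_c1 LD2_c53 LD3_c30)) = (LP (LK LD1_c3 LD2_c53 LD3_c45)) :=
  Lre_d IH (LK LD1_c1 LD2_c53 LD3_c30) (LK LD1_c3 LD2_c53 LD3_c45) Lrfl Lrfl
theorem f114197 : Led Lsl_ct (LP (LK LD1_c3 LD2_c18 LD3_c52)) = (LP (LK LD1_c1 LD2_c35 LD3_c56)) :=
  Lre_c IH (LK LD1_c3 LD2_c18 LD3_c52) (LK LD1_c1 LD2_c35 LD3_c56) Lrfl Lrfl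
theorem f114196 : Led Lsl_dt (LP (LK LD1_c6 LD2_c41 LD3_c36)) = (LP (LK LD1_c3 LD2_c18 LD3_c52)) :=
  Lre_d IH (LK LD1_c6 LD2_c41 LD3_c36) (LK LD1_c3 LD2_c18 LD3_c52) Lrfl Lrfl
theorem f114330 : Led Lsl_ct (LP (LK LD1_c3 LD2_c53 LD3_c45)) = (LP (LK LD1_c6 LD2_c41 LD3_c36)) :=
  Lgr Lrot53 (Lpe (f85600 IH) (Lpe (K3.f109131 IH) (Lpe (K3.f84715 IH) (Lpe (f61727 IH) (Lpe (f64467 IH) (Lpr_ft (f109136 IH) (Lpr_at (f114312 IH) (Lpe (f114197 IH) (Lpe (f114196 IH) (Lpn (LP (LK LD1_c6 LD2_c41 LD3_c36))))))))))))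
theorem f114334 : Led Lsl_cf (LP (LK LD1_c3 LD2_c53 LD3_c45)) = (LP (LK LD1_c6 LD2_c41 LD3_c36)) :=
  Lgr Lrot11 (Lpr_ct (f114330 IH) (Lpn (LP (LK LD1_c6 LD2_c41 LD3_c36))))
theorem f89013 : Led Lsl_dt (LP (LK LD1_c3 LD2_c53 LD3_c45)) = (LP (LK LD1_c1 LD2_c53 LD3_c30)) :=
  Lre_d IH (LK LD1_c3 LD2_c53 LD3_c45) (LK LD1_c1 LD2_c53 LD3_c30) Lrfl Lrfl
theorem f78963 : Led Lsl_dt (LP (LK LD1_c0 LD2_c40 LD3_c11)) = (LP (LK LD1_c1 LD2_c26 LD3_c49)) :=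
  Lre_d IH (LK LD1_c0 LD2_c40 LD3_c11) (LK LD1_c1 LD2_c26 LD3_c49) Lrfl Lrfl
theorem f78931 : Led Lsl_ct (LP (LK LD1_c1 LD2_c26 LD3_c49)) = (LP (LK LD1_c3 LD2_c1 LD3_c36)) :=
  Lre_c IH (LK LD1_c1 LD2_c26 LD3_c49) (LK LD1_c3 LD2_c1 LD3_c36) Lrfl Lrfl
theorem f78929 : Led Lsl_at (LP (LK LD1_c6 LD2_c9 LD3_c55)) = (LP (LK LD1_c3 LD2_c1 LD3_c36)) :=
  Lre_a IH (LK LD1_c6 LD2_c9 LD3_c55) (LK LD1_c3 LD2_c1 LD3_c36) Lrfl Lrfl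
theorem f114198 : Led Lsl_dt (LP (LK LD1_c3 LD2_c18 LD3_c52)) = (LP (LK LD1_c6 LD2_c41 LD3_c36)) :=
  Lre_d IH (LK LD1_c3 LD2_c18 LD3_c52) (LK LD1_c6 LD2_c41 LD3_c36) Lrfl Lrfl
theorem f114358 : Led Lsl_ff (LP (LK LD1_c6 LD2_c9 LD3_c55)) = (LP (LK LD1_c3 LD2_c18 LD3_c52)) :=
  Lgr Lrot103 (Lpr_at (f78929 IH) (Lpe (f78931 IH) (Lpe (f78963 IH) (Lpe (K2.f61750 IH) (Lpe (f84965 IH) (Lpr_cf (f109134 IH) (Lpe (f89013 IH) (Lpr_cf (f114334 IH) (Lpe (f114198 IH) (Lpn (LP (LK LD1_c3 LD2_c18 LD3_c52))))))))))))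
theorem f114001 : Led Lsl_ct (LP (LK LD1_c6 LD2_c9 LD3_c55)) = (LP (LK LD1_c3 LD2_c1 LD3_c26)) :=
  Lre_c IH (LK LD1_c6 LD2_c9 LD3_c55) (LK LD1_c3 LD2_c1 LD3_c26) Lrfl Lrfl
theorem f114161 : Led Lsl_ct (LP (LK LD1_c1 LD2_c35 LD3_c56)) = (LP (LK LD1_c3 LD2_c18 LD3_c52)) :=
  Lre_c IH (LK LD1_c1 LD2_c35 LD3_c56) (LK LD1_c3 LD2_c18 LD3_c52) Lrfl Lrfl
theorem f114362 : Led Lsl_ft (LP (LK LD1_c3 LD2_c1 LD3_c26)) = (LP (LK LD1_c1 LD2_c35 LD3_c56)) :=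
  Lgr Lrot4 (Lpe (f114001 IH) (Lpr_ff (f114358 IH) (Lpe (f114161 IH) (Lpn (LP (LK LD1_c1 LD2_c35 LD3_c56))))))
theorem f114323 : Led Lsl_af (LP (LK LD1_c3 LD2_c1 LD3_c37)) = (LP (LK LD1_c1 LD2_c35 LD3_c56)) :=
  Lgr Lrot0 (Lpr_at (f114312 IH) (Lpn (LP (LK LD1_c1 LD2_c35 LD3_c56))))
theorem f114387 : Led Lsl_gt (LP (LK LD1_c1 LD2_c27 LD3_c12)) = (LP (LK LD1_c3 LD2_c1 LD3_c37)) :=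
  Lgr Lrot46 (Lpe (f113995 IH) (Lpr_ft (f114362 IH) (Lpe (f114323 IH) (Lpn (LP (LK LD1_c3 LD2_c1 LD3_c37))))))
theorem f114329 : Led Lsl_dt (LP (LK LD1_c1 LD2_c26 LD3_c50)) = (LP (LK LD1_c3 LD2_c1 LD3_c37)) :=
  Lre_d IH (LK LD1_c1 LD2_c26 LD3_c50) (LK LD1_c3 LD2_c1 LD3_c37) Lrfl Lrfl
theorem f114402 : Led Lsl_ef (LP (LK LD1_c1 LD2_c27 LD3_c11)) = (LP (LK LD1_c1 LD2_c26 LD3_c50)) :=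
  Lgr Lrot114 (Lpr_gt (K3.f64494 IH) (Lpe (K3.f64491 IH) (Lpr_dt (K1.f62000 IH) (Lpr_gt (K3.f13806 IH) (Lpe (K3.f61954 IH) (Lpr_et (K1.f61984 IH) (Lpr_gt (K3.f64496 IH) (Lpr_dt (K3.f64511 IH) (Lpr_gt (f114387 IH) (Lpe (f114329 IH) (Lpn (LP (LK LD1_c1 LD2_c26 LD3_c50)))))))))))))
theorem f87541 : Led Lsl_ct (LP (LK LD1_c3 LD2_c1 LD3_c34)) = (LP (LK LD1_c1 LD2_c26 LD3_c50)) :=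
  Lre_c IH (LK LD1_c3 LD2_c1 LD3_c34) (LK LD1_c1 LD2_c26 LD3_c50) Lrfl Lrfl
theorem f114406 : Led Lsl_et (LP (LK LD1_c1 LD2_c44 LD3_c51)) = (LP (LK LD1_c3 LD2_c1 LD3_c34)) :=
  Lgr Lrot158 (Lpe (K3.f106707 IH) (Lpr_ef (f114402 IH) (Lpe (f87541 IH) (Lpn (LP (LK LD1_c3 LD2_c1 LD3_c34))))))
theorem f84313 : Led Lsl_ct (LP (LK LD1_c0 LD2_c44 LD3_c27)) = (LP (LK LD1_c1 LD2_c35 LD3_c51)) :=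
  Lre_c IH (LK LD1_c0 LD2_c44 LD3_c27) (LK LD1_c1 LD2_c35 LD3_c51) Lrfl Lrfl
theorem f113947 : Led Lsl_ft (LP (LK LD1_c1 LD2_c35 LD3_c51)) = (LP (LK LD1_c1 LD2_c44 LD3_c51)) :=
  Lgr Lrot4 (Lpe (f84313 IH) (Lpr_ff (f113945 IH) (Lpr_cf (K3.f106709 IH) (Lpn (LP (LK LD1_c1 LD2_c44 LD3_c51))))))
theorem f87544 : Led Lsl_ft (LP (LK LD1_c3 LD2_c1 LD3_c34)) = (LP (LK LD1_c1 LD2_c26 LD3_c47)) :=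
  Lre_f IH (LK LD1_c3 LD2_c1 LD3_c34) (LK LD1_c1 LD2_c26 LD3_c47) Lrfl Lrfl
theorem f110080 : Led Lsl_ff (LP (LK LD1_c0 LD2_c49 LD3_c3)) = (LP (LK LD1_c0 LD2_c40 LD3_c10)) :=
  Lgr Lrot19 (Lpr_dt (K3.f17777 IH) (Lpr_ft (K3.f110074 IH) (Lpe (K2.f84963 IH) (Lpn (LP (LK LD1_c0 LD2_c40 LD3_c10))))))
theorem f114412 : Led Lsl_ef (LP (LK LD1_c1 LD2_c35 LD3_c51)) = (LP (LK LD1_c0 LD2_c49 LD3_c3)) :=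
  Lgr Lrot21 (Lpr_ft (f113947 IH) (Lpr_et (f114406 IH) (Lpr_ft (f87544 IH) (Lpr_et (K2.f84714 IH) (Lpe (f110080 IH) (Lpn (LP (LK LD1_c0 LD2_c49 LD3_c3))))))))
theorem f109349 : Led Lsl_et (LP (LK LD1_c0 LD2_c46 LD3_c8)) = (LP (LK LD1_c0 LD2_c48 LD3_c5)) :=
  Lgr Lrot158 (Lpr_cf (K3.f94622 IH) (Lpr_ef (K3.f105625 IH) (Lpr_cf (K3.f109343 IH) (Lpn (LP (LK LD1_c0 LD2_c48 LD3_c5))))))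
theorem f114418 : Led Lsl_gf (LP (LK LD1_c1 LD2_c39 LD3_c19)) = (LP (LK LD1_c1 LD2_c44 LD3_c48)) :=
  Lgr Lrot145 (Lpe (K3.f103564 IH) (Lpr_et (f109349 IH) (Lpe (K3.f109353 IH) (Lpr_dt (K3.f90852 IH) (Lpr_gt (K3.f95138 IH) (Lpr_df (K0.f17458 IH) (Lpe (K3.f105738 IH) (Lpr_gt (K3.f94374 IH) (Lpr_ef (f114412 IH) (Lpr_dt (K3.f17777 IH) (Lpn (LP (LK LD1_c1 LD2_c44 LD3_c48)))))))))))))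
theorem f110223 : Led Lsl_ct (LP (LK LD1_c1 LD2_c39 LD3_c19)) = (LP (LK LD1_c0 LD2_c52 LD3_c29)) :=
  Lgr Lrot8 (Lpr_gt (K3.f110214 IH) (Lpe (K3.f92026 IH) (Lpr_gt (K3.f95140 IH) (Lpr_dt (K0.f17774 IH) (Lpr_cf (K0.f17780 IH) (Lpr_df (K3.f89301 IH) (Lpe (K2.f17456 IH) (Lpe (K1.f17460 IH) (Lpe (K3.f62680 IH) (Lpn (LP (LK LD1_c0 LD2_c52 LD3_c29))))))))))))
theorem f114420 : Led Lsl_gf (LP (LK LD1_c0 LD2_c48 LD3_c5)) = (LP (LK LD1_c0 LD2_c49 LD3_c3)) :=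
  Lgr Lrot147 (Lpe (K3.f109343 IH) (Lpr_gt (K3.f62194 IH) (Lpr_ct (K1.f25023 IH) (Lpr_df (K1.f62652 IH) (Lpe (K1.f11856 IH) (Lpe (K3.f62680 IH) (Lpe (f110223 IH) (Lpr_gf (f114418 IH) (Lpe (K3.f17777 IH) (Lpn (LP (LK LD1_c0 LD2_c49 LD3_c3))))))))))))
theorem f109347 : Led Lsl_ct (LP (LK LD1_c0 LD2_c47 LD3_c0)) = (LP (LK LD1_c0 LD2_c48 LD3_c5)) :=
  Lgr Lrot59 (Lpr_cf (K3.f109343 IH) (Lpn (LP (LK LD1_c0 LD2_c48 LD3_c5))))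
theorem f25015 : Led Lsl_ct (LP (LK LD1_c0 LD2_c41 LD3_c28)) = (LP (LK LD1_c0 LD2_c18 LD3_c33)) :=
  Lre_c IH (LK LD1_c0 LD2_c41 LD3_c28) (LK LD1_c0 LD2_c18 LD3_c33) Lrfl Lrfl
theorem f62645 : Led Lsl_bt (LP (LK LD1_c0 LD2_c41 LD3_c28)) = (LP (LK LD1_c1 LD2_c29 LD3_c43)) :=
  Lre_b IH (LK LD1_c0 LD2_c41 LD3_c28) (LK LD1_c1 LD2_c29 LD3_c43) Lrfl Lrfl
theorem f113965 : Led Lsl_et (LP (LK LD1_c0 LD2_c44 LD3_c27)) = (LP (LK LD1_c0 LD2_c40 LD3_c12)) :=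
  Lgr Lrot87 (Lpr_ef (f113959 IH) (Lpn (LP (LK LD1_c0 LD2_c40 LD3_c12))))
theorem f114416 : Led Lsl_ct (LP (LK LD1_c0 LD2_c40 LD3_c12)) = (LP (LK LD1_c0 LD2_c49 LD3_c3)) :=
  Lgr Lrot15 (Lpe (f113965 IH) (Lpe (K3.f84307 IH) (Lpr_ef (f114412 IH) (Lpn (LP (LK LD1_c0 LD2_c49 LD3_c3))))))
theorem f114466 : Led Lsl_gt (LP (LK LD1_c1 LD2_c29 LD3_c43)) = (LP (LK LD1_c1 LD2_c26 LD3_c46)) :=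
  Lgr Lrot164 (Lpe (f62645 IH) (Lpr_ct (f25015 IH) (Lpe (K1.f24970 IH) (Lpe (K3.f25761 IH) (Lpe (K3.f20970 IH) (Lpr_bf (K3.f104335 IH) (Lpr_ct (f109347 IH) (Lpr_gf (f114420 IH) (Lpe (f114416 IH) (Lpr_bt (K2.f77820 IH) (Lpn (LP (LK LD1_c1 LD2_c26 LD3_c46)))))))))))))
theorem f114472 : Led Lsl_cf (LP (LK LD1_c1 LD2_c5 LD3_c59)) = (LP (LK LD1_c1 LD2_c26 LD3_c46)) :=
  Lgr Lrot125 (Lpr_gt (f61225 IH) (Lpr_cf (K2.f61211 IH) (Lpr_bt (K2.f20968 IH) (Lpr_gt (K1.f20967 IH) (Lpe (K3.f57578 IH) (Lpr_ct (K3.f25761 IH) (Lpr_gt (K1.f24970 IH) (Lpe (f25015 IH) (Lpr_bt (f62645 IH) (Lpr_gt (f114466 IH) (Lpn (LP (LK LD1_c1 LD2_c26 LD3_c46)))))))))))))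
theorem f114476 : Led Lsl_ft (LP (LK LD1_c1 LD2_c5 LD3_c59)) = (LP (LK LD1_c0 LD2_c41 LD3_c16)) :=
  Lgr Lrot4 (Lpr_cf (f114472 IH) (Lpe (K2.f61763 IH) (Lpe (K2.f61713 IH) (Lpn (LP (LK LD1_c0 LD2_c41 LD3_c16))))))
theorem f114482 : Led Lsl_af (LP (LK LD1_c1 LD2_c5 LD3_c58)) = (LP (LK LD1_c0 LD2_c41 LD3_c16)) :=
  Lgr Lrot31 (Lpe (K3.f61222 IH) (Lpe (f61225 IH) (Lpr_ft (f114476 IH) (Lpn (LP (LK LD1_c0 LD2_c41 LD3_c16))))))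
theorem f61755 : Led Lsl_et (LP (LK LD1_c1 LD2_c29 LD3_c17)) = (LP (LK LD1_c0 LD2_c41 LD3_c16)) :=
  Lre_e IH (LK LD1_c1 LD2_c29 LD3_c17) (LK LD1_c0 LD2_c41 LD3_c16) Lrfl Lrfl
theorem f114490 : Led Lsl_at (LP (LK LD1_c2 LD2_c17 LD3_c59)) = (LP (LK LD1_c1 LD2_c29 LD3_c17)) :=
  Lgr Lrot80 (Lpe (f61228 IH) (Lpr_af (f114482 IH) (Lpe (f61755 IH) (Lpn (LP (LK LD1_c1 LD2_c29 LD3_c17))))))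
theorem f61751 : Led Lsl_dt (LP (LK LD1_c1 LD2_c29 LD3_c17)) = (LP (LK LD1_c3 LD2_c6 LD3_c22)) :=
  Lre_d IH (LK LD1_c1 LD2_c29 LD3_c17) (LK LD1_c3 LD2_c6 LD3_c22) Lrfl Lrfl
theorem f114496 : Led Lsl_af (LP (LK LD1_c3 LD2_c11 LD3_c50)) = (LP (LK LD1_c3 LD2_c6 LD3_c22)) :=
  Lgr Lrot117 (Lpe (f79394 IH) (Lpr_at (f114490 IH) (Lpr_dt (f61751 IH) (Lpn (LP (LK LD1_c3 LD2_c6 LD3_c22))))))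
theorem f78179 : Led Lsl_et (LP (LK LD1_c6 LD2_c18 LD3_c11)) = (LP (LK LD1_c3 LD2_c6 LD3_c22)) :=
  Lre_e IH (LK LD1_c6 LD2_c18 LD3_c11) (LK LD1_c3 LD2_c6 LD3_c22) Lrfl Lrfl
theorem f114502 : Led Lsl_at (LP (LK LD1_c6 LD2_c27 LD3_c52)) = (LP (LK LD1_c6 LD2_c18 LD3_c11)) :=
  Lgr Lrot80 (Lpe (f79396 IH) (Lpr_af (f114496 IH) (Lpe (f78179 IH) (Lpn (LP (LK LD1_c6 LD2_c18 LD3_c11))))))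
theorem f78180 : Led Lsl_dt (LP (LK LD1_c6 LD2_c18 LD3_c11)) = (LP (LK LD1_c3 LD2_c6 LD3_c21)) :=
  Lre_d IH (LK LD1_c6 LD2_c18 LD3_c11) (LK LD1_c3 LD2_c6 LD3_c21) Lrfl Lrfl
theorem f114802 : Led Lsl_af (LP (LK LD1_c3 LD2_c22 LD3_c37)) = (LP (LK LD1_c3 LD2_c6 LD3_c21)) :=
  Lgr Lrot117 (Lpr_dt (f99216 IH) (Lpr_at (f114502 IH) (Lpr_dt (f78180 IH) (Lpn (LP (LK LD1_c3 LD2_c6 LD3_c21))))))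
theorem f99215 : Led Lsl_ct (LP (LK LD1_c3 LD2_c22 LD3_c37)) = (LP (LK LD1_c6 LD2_c49 LD3_c1)) :=
  Lre_c IH (LK LD1_c3 LD2_c22 LD3_c37) (LK LD1_c6 LD2_c49 LD3_c1) Lrfl Lrfl
theorem f114808 : Led Lsl_ct (LP (LK LD1_c6 LD2_c18 LD3_c10)) = (LP (LK LD1_c3 LD2_c6 LD3_c21)) :=
  Lre_c IH (LK LD1_c6 LD2_c18 LD3_c10) (LK LD1_c3 LD2_c6 LD3_c21) Lrfl Lrfl
theorem f114809 : Led Lsl_at (LP (LK LD1_c6 LD2_c49 LD3_c1)) = (LP (LK LD1_c6 LD2_c18 LD3_c10)) :=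
  Lgr Lrot107 (Lpe (f99215 IH) (Lpr_af (f114802 IH) (Lpe (f114808 IH) (Lpn (LP (LK LD1_c6 LD2_c18 LD3_c10))))))
theorem f114813 : Led Lsl_et (LP (LK LD1_c3 LD2_c22 LD3_c36)) = (LP (LK LD1_c6 LD2_c49 LD3_c1)) :=
  Lre_e IH (LK LD1_c3 LD2_c22 LD3_c36) (LK LD1_c6 LD2_c49 LD3_c1) Lrfl Lrfl
theorem f113355 : Led Lsl_et (LP (LK LD1_c6 LD2_c18 LD3_c10)) = (LP (LK LD1_c3 LD2_c6 LD3_c20)) :=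
  Lre_e IH (LK LD1_c6 LD2_c18 LD3_c10) (LK LD1_c3 LD2_c6 LD3_c20) Lrfl Lrfl
theorem f114814 : Led Lsl_af (LP (LK LD1_c3 LD2_c22 LD3_c36)) = (LP (LK LD1_c3 LD2_c6 LD3_c20)) :=
  Lgr Lrot50 (Lpr_et (f114813 IH) (Lpr_at (f114809 IH) (Lpr_et (f113355 IH) (Lpn (LP (LK LD1_c3 LD2_c6 LD3_c20))))))
theorem f60977 : Led Lsl_dt (LP (LK LD1_c3 LD2_c22 LD3_c36)) = (LP (LK LD1_c6 LD2_c49 LD3_c0)) :=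
  Lre_d IH (LK LD1_c3 LD2_c22 LD3_c36) (LK LD1_c6 LD2_c49 LD3_c0) Lrfl Lrfl
theorem f114820 : Led Lsl_at (LP (LK LD1_c6 LD2_c49 LD3_c0)) = (LP (LK LD1_c6 LD2_c18 LD3_c9)) :=
  Lgr Lrot51 (Lpe (f60977 IH) (Lpr_af (f114814 IH) (Lpe (K2.f61762 IH) (Lpn (LP (LK LD1_c6 LD2_c18 LD3_c9))))))
theorem f114826 : Led Lsl_ff (LP (LK LD1_c6 LD2_c49 LD3_c0)) = (LP (LK LD1_c6 LD2_c18 LD3_c4)) :=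
  Lgr Lrot103 (Lpr_at (f114820 IH) (Lpr_cf (K2.f79032 IH) (Lpr_df (K2.f78131 IH) (Lpe (K3.f79027 IH) (Lpe (K3.f25110 IH) (Lpe (K2.f25109 IH) (Lpe (K2.f77791 IH) (Lpe (K2.f77814 IH) (Lpe (K2.f77827 IH) (Lpn (LP (LK LD1_c6 LD2_c18 LD3_c4))))))))))))
theorem f114834 : Led Lsl_ft (LP (LK LD1_c6 LD2_c49 LD3_c0)) = (LP (LK LD1_c6 LD2_c18 LD3_c4)) :=
  Lgr Lrot48 (Lpr_ff (f114826 IH) (Lpn (LP (LK LD1_c6 LD2_c18 LD3_c4))))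
theorem f61204 : Led Lsl_gt (LP (LK LD1_c6 LD2_c29 LD3_c22)) = (LP (LK LD1_c3 LD2_c12 LD3_c37)) :=
  Lre_g IH (LK LD1_c6 LD2_c29 LD3_c22) (LK LD1_c3 LD2_c12 LD3_c37) Lrfl Lrfl
theorem f77291 : Led Lsl_bt (LP (LK LD1_c3 LD2_c8 LD3_c12)) = (LP (LK LD1_c6 LD2_c21 LD3_c4)) :=
  Lre_b IH (LK LD1_c3 LD2_c8 LD3_c12) (LK LD1_c6 LD2_c21 LD3_c4) Lrfl Lrfl
theorem f77292 : Led Lsl_dt (LP (LK LD1_c6 LD2_c21 LD3_c4)) = (LP (LK LD1_c11 LD2_c43 LD3_c15)) :=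
  Lgr Lrot79 (Lpe (f77291 IH) (Lpe (K2.f77159 IH) (Lpr_bf (K3.f77287 IH) (Lpn (LP (LK LD1_c11 LD2_c43 LD3_c15))))))
theorem f14104 : Led Lsl_ct (LP (LK LD1_c11 LD2_c43 LD3_c15)) = (LP (LK LD1_c5 LD2_c59 LD3_c21)) :=
  Lre_c IH (LK LD1_c11 LD2_c43 LD3_c15) (LK LD1_c5 LD2_c59 LD3_c21) Lrfl Lrfl
theorem f14117 : Led Lsl_dt (LP (LK LD1_c5 LD2_c59 LD3_c21)) = (LP (LK LD1_c2 LD2_c56 LD3_c2)) :=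
  Lre_d IH (LK LD1_c5 LD2_c59 LD3_c21) (LK LD1_c2 LD2_c56 LD3_c2) Lrfl Lrfl
theorem f14352 : Led Lsl_ct (LP (LK LD1_c2 LD2_c56 LD3_c2)) = (LP (LK LD1_c4 LD2_c37 LD3_c40)) :=
  Lre_c IH (LK LD1_c2 LD2_c56 LD3_c2) (LK LD1_c4 LD2_c37 LD3_c40) Lrfl Lrfl
theorem f14092 : Led Lsl_dt (LP (LK LD1_c4 LD2_c37 LD3_c40)) = (LP (LK LD1_c3 LD2_c51 LD3_c29)) :=
  Lre_d IH (LK LD1_c4 LD2_c37 LD3_c40) (LK LD1_c3 LD2_c51 LD3_c29) Lrfl Lrfl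
theorem f14091 : Led Lsl_ct (LP (LK LD1_c3 LD2_c51 LD3_c29)) = (LP (LK LD1_c7 LD2_c43 LD3_c11)) :=
  Lre_c IH (LK LD1_c3 LD2_c51 LD3_c29) (LK LD1_c7 LD2_c43 LD3_c11) Lrfl Lrfl
theorem f14064 : Led Lsl_ct (LP (LK LD1_c6 LD2_c49 LD3_c39)) = (LP (LK LD1_c9 LD2_c47 LD3_c18)) :=
  Lre_c IH (LK LD1_c6 LD2_c49 LD3_c39) (LK LD1_c9 LD2_c47 LD3_c18) Lrfl Lrfl
theorem f14061 : Led Lsl_dt (LP (LK LD1_c9 LD2_c47 LD3_c18)) = (LP (LK LD1_c6 LD2_c0 LD3_c47)) :=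
  Lre_d IH (LK LD1_c9 LD2_c47 LD3_c18) (LK LD1_c6 LD2_c0 LD3_c47) Lrfl Lrfl
theorem f13723 : Led Lsl_bt (LP (LK LD1_c4 LD2_c45 LD3_c19)) = (LP (LK LD1_c2 LD2_c20 LD3_c47)) :=
  Lre_b IH (LK LD1_c4 LD2_c45 LD3_c19) (LK LD1_c2 LD2_c20 LD3_c47) Lrfl Lrfl
theorem f13724 : Led Lsl_bt (LP (LK LD1_c2 LD2_c21 LD3_c23)) = (LP (LK LD1_c1 LD2_c24 LD3_c7)) :=
  Lre_b IH (LK LD1_c2 LD2_c21 LD3_c23) (LK LD1_c1 LD2_c24 LD3_c7) Lrfl Lrfl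
theorem f13726 : Led Lsl_bt (LP (LK LD1_c2 LD2_c56 LD3_c40)) = (LP (LK LD1_c6 LD2_c0 LD3_c47)) :=
  Lre_b IH (LK LD1_c2 LD2_c56 LD3_c40) (LK LD1_c6 LD2_c0 LD3_c47) Lrfl Lrfl
theorem f13727 : Led Lsl_cf (LP (LK LD1_c4 LD2_c45 LD3_c19)) = (LP (LK LD1_c6 LD2_c0 LD3_c47)) :=
  Lgr Lrot97 (Lpr_bt (f13723 IH) (Lpr_ct (K0.f13715 IH) (Lpr_bt (f13724 IH) (Lpr_ct (K2.f13725 IH) (Lpr_bt (f13726 IH) (Lpn (LP (LK LD1_c6 LD2_c0 LD3_c47))))))))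
theorem f14008 : Led Lsl_dt (LP (LK LD1_c4 LD2_c45 LD3_c19)) = (LP (LK LD1_c2 LD2_c20 LD3_c46)) :=
  Lre_d IH (LK LD1_c4 LD2_c45 LD3_c19) (LK LD1_c2 LD2_c20 LD3_c46) Lrfl Lrfl
theorem f14346 : Led Lsl_ct (LP (LK LD1_c2 LD2_c20 LD3_c46)) = (LP (LK LD1_c1 LD2_c34 LD3_c52)) :=
  Lre_c IH (LK LD1_c2 LD2_c20 LD3_c46) (LK LD1_c1 LD2_c34 LD3_c52) Lrfl Lrfl
theorem f14347 : Led Lsl_dt (LP (LK LD1_c1 LD2_c34 LD3_c52)) = (LP (LK LD1_c3 LD2_c16 LD3_c16)) :=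
  Lre_d IH (LK LD1_c1 LD2_c34 LD3_c52) (LK LD1_c3 LD2_c16 LD3_c16) Lrfl Lrfl
theorem f15204 : Led Lsl_bt (LP (LK LD1_c1 LD2_c34 LD3_c53)) = (LP (LK LD1_c3 LD2_c16 LD3_c16)) :=
  Lre_b IH (LK LD1_c1 LD2_c34 LD3_c53) (LK LD1_c3 LD2_c16 LD3_c16) Lrfl Lrfl
theorem f14994 : Led Lsl_bt (LP (LK LD1_c3 LD2_c27 LD3_c19)) = (LP (LK LD1_c1 LD2_c40 LD3_c16)) :=
  Lre_b IH (LK LD1_c3 LD2_c27 LD3_c19) (LK LD1_c1 LD2_c40 LD3_c16) Lrfl Lrfl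
theorem f15530 : Led Lsl_ct (LP (LK LD1_c3 LD2_c16 LD3_c16)) = (LP (LK LD1_c3 LD2_c27 LD3_c19)) :=
  Lgr Lrot83 (Lpe (f15204 IH) (Lpe (K3.f15203 IH) (Lpr_bf (K0.f15513 IH) (Lpe (K0.f14556 IH) (Lpe (f14994 IH) (Lpn (LP (LK LD1_c3 LD2_c27 LD3_c19))))))))
theorem f15540 : Led Lsl_dt (LP (LK LD1_c3 LD2_c27 LD3_c19)) = (LP (LK LD1_c6 LD2_c49 LD3_c16)) :=
  Lre_d IH (LK LD1_c3 LD2_c27 LD3_c19) (LK LD1_c6 LD2_c49 LD3_c16) Lrfl Lrfl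
theorem f77296 : Led Lsl_cf (LP (LK LD1_c6 LD2_c21 LD3_c4)) = (LP (LK LD1_c6 LD2_c49 LD3_c16)) :=
  Lgr Lrot55 (Lpr_dt (f77292 IH) (Lpr_ct (f14104 IH) (Lpr_dt (f14117 IH) (Lpr_ct (f14352 IH) (Lpr_dt (f14092 IH) (Lpr_ct (f14091 IH) (Lpe (K0.f14084 IH) (Lpr_ct (f14064 IH) (Lpr_dt (f14061 IH) (Lpe (f13727 IH) (Lpr_dt (f14008 IH) (Lpr_ct (f14346 IH) (Lpr_dt (f14347 IH) (Lpr_ct (f15530 IH) (Lpr_dt (f15540 IH) (Lpn (LP (LK LD1_c6 LD2_c49 LD3_c16))))))))))))))))))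
theorem f77305 : Led Lsl_bt (LP (LK LD1_c6 LD2_c21 LD3_c4)) = (LP (LK LD1_c3 LD2_c8 LD3_c12)) :=
  Lre_b IH (LK LD1_c6 LD2_c21 LD3_c4) (LK LD1_c3 LD2_c8 LD3_c12) Lrfl Lrfl
theorem f40418 : Led Lsl_bt (LP (LK LD1_c3 LD2_c22 LD3_c52)) = (LP (LK LD1_c6 LD2_c49 LD3_c16)) :=
  Lre_b IH (LK LD1_c3 LD2_c22 LD3_c52) (LK LD1_c6 LD2_c49 LD3_c16) Lrfl Lrfl
theorem f77312 : Led Lsl_bt (LP (LK LD1_c1 LD2_c30 LD3_c20)) = (LP (LK LD1_c1 LD2_c37 LD3_c48)) :=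
  Lgr Lrot128 (Lpe (K2.f77158 IH) (Lpe (f77305 IH) (Lpr_cf (f77296 IH) (Lpe (f40418 IH) (Lpe (K0.f14558 IH) (Lpn (LP (LK LD1_c1 LD2_c37 LD3_c48))))))))
theorem f77320 : Led Lsl_gt (LP (LK LD1_c3 LD2_c8 LD3_c12)) = (LP (LK LD1_c3 LD2_c16 LD3_c3)) :=
  Lgr Lrot65 (Lpe (K3.f77172 IH) (Lpr_bt (f77312 IH) (Lpe (K2.f9805 IH) (Lpe (K3.f9806 IH) (Lpe (K3.f69267 IH) (Lpe (K3.f63841 IH) (Lpe (K3.f63843 IH) (Lpe (K3.f63862 IH) (Lpe (K3.f60970 IH) (Lpr_ct (K3.f60971 IH) (Lpn (LP (LK LD1_c3 LD2_c16 LD3_c3)))))))))))))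
theorem f79626 : Led Lsl_df (LP (LK LD1_c6 LD2_c29 LD3_c22)) = (LP (LK LD1_c3 LD2_c16 LD3_c3)) :=
  Lgr Lrot153 (Lpr_gt (f61204 IH) (Lpr_dt (K2.f61203 IH) (Lpe (K2.f61205 IH) (Lpe (K2.f61002 IH) (Lpe (f61225 IH) (Lpr_df (f79623 IH) (Lpe (f77776 IH) (Lpe (K2.f77158 IH) (Lpr_gt (f77320 IH) (Lpn (LP (LK LD1_c3 LD2_c16 LD3_c3))))))))))))
theorem f76499 : Led Lsl_ft (LP (LK LD1_c6 LD2_c18 LD3_c14)) = (LP (LK LD1_c6 LD2_c18 LD3_c26)) :=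
  Lgr Lrot48 (Lpr_ff (K2.f76483 IH) (Lpn (LP (LK LD1_c6 LD2_c18 LD3_c26))))
theorem f76476 : Led Lsl_af (LP (LK LD1_c3 LD2_c12 LD3_c37)) = (LP (LK LD1_c6 LD2_c18 LD3_c26)) :=
  Lgr Lrot117 (Lpr_dt (K2.f61203 IH) (Lpr_at (K2.f61586 IH) (Lpr_dt (K2.f76474 IH) (Lpn (LP (LK LD1_c6 LD2_c18 LD3_c26))))))
theorem f76507 : Led Lsl_gt (LP (LK LD1_c6 LD2_c18 LD3_c14)) = (LP (LK LD1_c6 LD2_c29 LD3_c22)) :=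
  Lgr Lrot5 (Lpr_ft (f76499 IH) (Lpe (f76476 IH) (Lpe (f61204 IH) (Lpn (LP (LK LD1_c6 LD2_c29 LD3_c22))))))
theorem f56678 : Led Lsl_ct (LP (LK LD1_c1 LD2_c37 LD3_c34)) = (LP (LK LD1_c3 LD2_c22 LD3_c36)) :=
  Lre_c IH (LK LD1_c1 LD2_c37 LD3_c34) (LK LD1_c3 LD2_c22 LD3_c36) Lrfl Lrfl
theorem f60978 : Led Lsl_dt (LP (LK LD1_c6 LD2_c49 LD3_c0)) = (LP (LK LD1_c3 LD2_c22 LD3_c36)) :=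
  Lre_d IH (LK LD1_c6 LD2_c49 LD3_c0) (LK LD1_c3 LD2_c22 LD3_c36) Lrfl Lrfl
theorem f79639 : Led Lsl_ct (LP (LK LD1_c6 LD2_c29 LD3_c22)) = (LP (LK LD1_c6 LD2_c49 LD3_c0)) :=
  Lgr Lrot110 (Lpe (f76507 IH) (Lpe (K2.f76417 IH) (Lpe (f61204 IH) (Lpr_df (f79626 IH) (Lpe (K3.f60972 IH) (Lpr_ct (K2.f9749 IH) (Lpr_gt (f20281 IH) (Lpr_ct (f56678 IH) (Lpe (f60978 IH) (Lpn (LP (LK LD1_c6 LD2_c49 LD3_c0))))))))))))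
theorem f114838 : Led Lsl_ff (LP (LK LD1_c6 LD2_c29 LD3_c22)) = (LP (LK LD1_c3 LD2_c16 LD3_c32)) :=
  Lgr Lrot23 (Lpr_ct (f79639 IH) (Lpr_ft (f114834 IH) (Lpe (K3.f78733 IH) (Lpn (LP (LK LD1_c3 LD2_c16 LD3_c32))))))
theorem f114844 : Led Lsl_at (LP (LK LD1_c6 LD2_c29 LD3_c22)) = (LP (LK LD1_c6 LD2_c18 LD3_c25)) :=
  Lgr Lrot26 (Lpr_ff (f114838 IH) (Lpe (K2.f79044 IH) (Lpr_gt (K2.f61784 IH) (Lpn (LP (LK LD1_c6 LD2_c18 LD3_c25))))))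
theorem f78140 : Led Lsl_dt (LP (LK LD1_c6 LD2_c18 LD3_c25)) = (LP (LK LD1_c3 LD2_c8 LD3_c14)) :=
  Lgr Lrot42 (Lpr_df (K2.f78131 IH) (Lpn (LP (LK LD1_c3 LD2_c8 LD3_c14))))
theorem f114846 : Led Lsl_af (LP (LK LD1_c3 LD2_c16 LD3_c3)) = (LP (LK LD1_c3 LD2_c8 LD3_c14)) :=
  Lgr Lrot117 (Lpe (f79626 IH) (Lpr_at (f114844 IH) (Lpr_dt (f78140 IH) (Lpn (LP (LK LD1_c3 LD2_c8 LD3_c14))))))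
theorem f79030 : Led Lsl_ft (LP (LK LD1_c3 LD2_c16 LD3_c28)) = (LP (LK LD1_c3 LD2_c8 LD3_c14)) :=
  Lgr Lrot48 (Lpr_ff (K2.f79023 IH) (Lpn (LP (LK LD1_c3 LD2_c8 LD3_c14))))
theorem f114858 : Led Lsl_gf (LP (LK LD1_c3 LD2_c8 LD3_c12)) = (LP (LK LD1_c3 LD2_c16 LD3_c28)) :=
  Lgr Lrot47 (Lpr_gt (f77320 IH) (Lpr_af (f114846 IH) (Lpe (f79030 IH) (Lpn (LP (LK LD1_c3 LD2_c16 LD3_c28))))))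
theorem f77778 : Led Lsl_ct (LP (LK LD1_c1 LD2_c37 LD3_c35)) = (LP (LK LD1_c3 LD2_c22 LD3_c38)) :=
  Lre_c IH (LK LD1_c1 LD2_c37 LD3_c35) (LK LD1_c3 LD2_c22 LD3_c38) Lrfl Lrfl
theorem f77779 : Led Lsl_dt (LP (LK LD1_c6 LD2_c49 LD3_c3)) = (LP (LK LD1_c3 LD2_c22 LD3_c38)) :=
  Lre_d IH (LK LD1_c6 LD2_c49 LD3_c3) (LK LD1_c3 LD2_c22 LD3_c38) Lrfl Lrfl
theorem f77780 : Led Lsl_dt (LP (LK LD1_c3 LD2_c22 LD3_c38)) = (LP (LK LD1_c6 LD2_c49 LD3_c3)) :=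
  Lre_d IH (LK LD1_c3 LD2_c22 LD3_c38) (LK LD1_c6 LD2_c49 LD3_c3) Lrfl Lrfl
theorem f79636 : Led Lsl_dt (LP (LK LD1_c6 LD2_c29 LD3_c22)) = (LP (LK LD1_c3 LD2_c16 LD3_c3)) :=
  Lgr Lrot42 (Lpr_df (f79626 IH) (Lpn (LP (LK LD1_c3 LD2_c16 LD3_c3))))
theorem f61540 : Led Lsl_gt (LP (LK LD1_c3 LD2_c12 LD3_c37)) = (LP (LK LD1_c6 LD2_c29 LD3_c21)) :=
  Lre_g IH (LK LD1_c3 LD2_c12 LD3_c37) (LK LD1_c6 LD2_c29 LD3_c21) Lrfl Lrfl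
theorem f114864 : Led Lsl_dt (LP (LK LD1_c6 LD2_c29 LD3_c21)) = (LP (LK LD1_c3 LD2_c16 LD3_c28)) :=
  Lgr Lrot57 (Lpe (f61540 IH) (Lpr_cf (K2.f76425 IH) (Lpr_gt (f76507 IH) (Lpr_dt (f79636 IH) (Lpe (K3.f60972 IH) (Lpr_dt (K2.f9753 IH) (Lpe (K3.f77169 IH) (Lpe (K3.f77171 IH) (Lpr_gf (f114858 IH) (Lpn (LP (LK LD1_c3 LD2_c16 LD3_c28))))))))))))
theorem f76492 : Led Lsl_ft (LP (LK LD1_c3 LD2_c12 LD3_c37)) = (LP (LK LD1_c3 LD2_c6 LD3_c28)) :=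
  Lgr Lrot4 (Lpr_cf (K2.f76425 IH) (Lpr_ff (K2.f76483 IH) (Lpe (K2.f25102 IH) (Lpn (LP (LK LD1_c3 LD2_c6 LD3_c28))))))
theorem f76683 : Led Lsl_gt (LP (LK LD1_c6 LD2_c29 LD3_c21)) = (LP (LK LD1_c6 LD2_c18 LD3_c14)) :=
  Lgr Lrot46 (Lpe (f61540 IH) (Lpr_ft (f76492 IH) (Lpr_at (K2.f76428 IH) (Lpn (LP (LK LD1_c6 LD2_c18 LD3_c14))))))
theorem f114866 : Led Lsl_cf (LP (LK LD1_c6 LD2_c49 LD3_c3)) = (LP (LK LD1_c6 LD2_c29 LD3_c21)) :=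
  Lgr Lrot99 (Lpe (f77780 IH) (Lpe (f77778 IH) (Lpe (f77776 IH) (Lpe (K2.f77158 IH) (Lpr_gf (f114858 IH) (Lpe (f114864 IH) (Lpr_gt (f76683 IH) (Lpe (K2.f76425 IH) (Lpr_gt (f61540 IH) (Lpn (LP (LK LD1_c6 LD2_c29 LD3_c21))))))))))))
theorem f114870 : Led Lsl_df (LP (LK LD1_c6 LD2_c29 LD3_c21)) = (LP (LK LD1_c3 LD2_c16 LD3_c28)) :=
  Lgr Lrot155 (Lpr_gt (f76683 IH) (Lpe (K2.f76425 IH) (Lpr_gt (f61540 IH) (Lpe (f114866 IH) (Lpr_dt (f77779 IH) (Lpe (f77778 IH) (Lpe (f77776 IH) (Lpe (K2.f77158 IH) (Lpr_gf (f114858 IH) (Lpn (LP (LK LD1_c3 LD2_c16 LD3_c28))))))))))))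
theorem f78760 : Led Lsl_ct (LP (LK LD1_c1 LD2_c34 LD3_c58)) = (LP (LK LD1_c3 LD2_c16 LD3_c28)) :=
  Lre_c IH (LK LD1_c1 LD2_c34 LD3_c58) (LK LD1_c3 LD2_c16 LD3_c28) Lrfl Lrfl
theorem f61711 : Led Lsl_at (LP (LK LD1_c1 LD2_c26 LD3_c44)) = (LP (LK LD1_c0 LD2_c40 LD3_c9)) :=
  Lre_a IH (LK LD1_c1 LD2_c26 LD3_c44) (LK LD1_c0 LD2_c40 LD3_c9) Lrfl Lrfl
theorem f77825 : Led Lsl_ft (LP (LK LD1_c1 LD2_c29 LD3_c12)) = (LP (LK LD1_c1 LD2_c26 LD3_c44)) :=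
  Lgr Lrot101 (Lpr_af (K2.f77812 IH) (Lpe (K2.f61763 IH) (Lpe (f61711 IH) (Lpn (LP (LK LD1_c1 LD2_c26 LD3_c44))))))
theorem f78765 : Led Lsl_df (LP (LK LD1_c1 LD2_c34 LD3_c58)) = (LP (LK LD1_c1 LD2_c26 LD3_c44)) :=
  Lgr Lrot78 (Lpr_ft (K3.f78762 IH) (Lpr_dt (K3.f25112 IH) (Lpr_ft (f77825 IH) (Lpn (LP (LK LD1_c1 LD2_c26 LD3_c44))))))
theorem f114486 : Led Lsl_ct (LP (LK LD1_c1 LD2_c5 LD3_c58)) = (LP (LK LD1_c1 LD2_c26 LD3_c44)) :=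
  Lgr Lrot111 (Lpr_af (f114482 IH) (Lpr_cf (K2.f61669 IH) (Lpe (f61711 IH) (Lpn (LP (LK LD1_c1 LD2_c26 LD3_c44))))))
theorem f58192 : Led Lsl_dt (LP (LK LD1_c1 LD2_c28 LD3_c61)) = (LP (LK LD1_c3 LD2_c5 LD3_c50)) :=
  Lre_d IH (LK LD1_c1 LD2_c28 LD3_c61) (LK LD1_c3 LD2_c5 LD3_c50) Lrfl Lrfl
theorem f61226 : Led Lsl_bt (LP (LK LD1_c1 LD2_c5 LD3_c58)) = (LP (LK LD1_c1 LD2_c28 LD3_c61)) :=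
  Lgr Lrot127 (Lpr_bf (K3.f61223 IH) (Lpn (LP (LK LD1_c1 LD2_c28 LD3_c61))))
theorem f99205 : Led Lsl_dt (LP (LK LD1_c1 LD2_c37 LD3_c34)) = (LP (LK LD1_c1 LD2_c5 LD3_c58)) :=
  Lgr Lrot79 (Lpr_bf (f99199 IH) (Lpe (f58192 IH) (Lpe (f61226 IH) (Lpn (LP (LK LD1_c1 LD2_c5 LD3_c58))))))
theorem f26457 : Led Lsl_ct (LP (LK LD1_c3 LD2_c22 LD3_c36)) = (LP (LK LD1_c1 LD2_c37 LD3_c34)) :=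
  Lre_c IH (LK LD1_c3 LD2_c22 LD3_c36) (LK LD1_c1 LD2_c37 LD3_c34) Lrfl Lrfl
theorem f114880 : Led Lsl_af (LP (LK LD1_c6 LD2_c49 LD3_c3)) = (LP (LK LD1_c6 LD2_c18 LD3_c4)) :=
  Lgr Lrot109 (Lpr_cf (f114866 IH) (Lpr_df (f114870 IH) (Lpe (f78760 IH) (Lpr_df (f78765 IH) (Lpe (f114486 IH) (Lpe (f99205 IH) (Lpe (f26457 IH) (Lpe (f60978 IH) (Lpr_ft (f114834 IH) (Lpn (LP (LK LD1_c6 LD2_c18 LD3_c4))))))))))))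
theorem f114822 : Led Lsl_af (LP (LK LD1_c6 LD2_c49 LD3_c0)) = (LP (LK LD1_c6 LD2_c18 LD3_c9)) :=
  Lgr Lrot0 (Lpr_at (f114820 IH) (Lpn (LP (LK LD1_c6 LD2_c18 LD3_c9))))
theorem f114889 : Led Lsl_ft (LP (LK LD1_c6 LD2_c49 LD3_c3)) = (LP (LK LD1_c6 LD2_c18 LD3_c9)) :=
  Lgr Lrot101 (Lpr_af (f114880 IH) (Lpe (f114834 IH) (Lpr_af (f114822 IH) (Lpn (LP (LK LD1_c6 LD2_c18 LD3_c9))))))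
theorem f114896 : Led Lsl_ff (LP (LK LD1_c6 LD2_c49 LD3_c3)) = (LP (LK LD1_c6 LD2_c18 LD3_c9)) :=
  Lgr Lrot3 (Lpr_ft (f114889 IH) (Lpn (LP (LK LD1_c6 LD2_c18 LD3_c9))))
theorem f61716 : Led Lsl_dt (LP (LK LD1_c3 LD2_c6 LD3_c20)) = (LP (LK LD1_c6 LD2_c18 LD3_c9)) :=
  Lre_d IH (LK LD1_c3 LD2_c6 LD3_c20) (LK LD1_c6 LD2_c18 LD3_c9) Lrfl Lrfl
theorem f114898 : Led Lsl_ft (LP (LK LD1_c3 LD2_c22 LD3_c38)) = (LP (LK LD1_c3 LD2_c6 LD3_c20)) :=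
  Lgr Lrot54 (Lpe (f77779 IH) (Lpr_ff (f114896 IH) (Lpe (f61716 IH) (Lpn (LP (LK LD1_c3 LD2_c6 LD3_c20))))))
theorem f78772 : Led Lsl_at (LP (LK LD1_c1 LD2_c34 LD3_c59)) = (LP (LK LD1_c3 LD2_c16 LD3_c28)) :=
  Lre_a IH (LK LD1_c1 LD2_c34 LD3_c59) (LK LD1_c3 LD2_c16 LD3_c28) Lrfl Lrfl
theorem f114875 : Led Lsl_at (LP (LK LD1_c6 LD2_c29 LD3_c21)) = (LP (LK LD1_c3 LD2_c16 LD3_c32)) :=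
  Lgr Lrot51 (Lpr_df (f114870 IH) (Lpe (f78772 IH) (Lpe (K3.f14703 IH) (Lpn (LP (LK LD1_c3 LD2_c16 LD3_c32))))))
theorem f114884 : Led Lsl_ct (LP (LK LD1_c6 LD2_c49 LD3_c3)) = (LP (LK LD1_c6 LD2_c29 LD3_c21)) :=
  Lgr Lrot111 (Lpr_af (f114880 IH) (Lpe (K2.f78730 IH) (Lpe (f114875 IH) (Lpn (LP (LK LD1_c6 LD2_c29 LD3_c21))))))
theorem f78723 : Led Lsl_at (LP (LK LD1_c0 LD2_c44 LD3_c11)) = (LP (LK LD1_c1 LD2_c34 LD3_c58)) :=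
  Lre_a IH (LK LD1_c0 LD2_c44 LD3_c11) (LK LD1_c1 LD2_c34 LD3_c58) Lrfl Lrfl
theorem f78724 : Led Lsl_dt (LP (LK LD1_c1 LD2_c34 LD3_c58)) = (LP (LK LD1_c1 LD2_c26 LD3_c44)) :=
  Lgr Lrot44 (Lpe (f78723 IH) (Lpr_df (K2.f78721 IH) (Lpe (f61711 IH) (Lpn (LP (LK LD1_c1 LD2_c26 LD3_c44))))))
theorem f114908 : Led Lsl_ct (LP (LK LD1_c1 LD2_c26 LD3_c44)) = (LP (LK LD1_c1 LD2_c5 LD3_c58)) :=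
  Lgr Lrot53 (Lpe (f78724 IH) (Lpe (K3.f78764 IH) (Lpe (f114864 IH) (Lpe (f114884 IH) (Lpe (f77780 IH) (Lpr_ft (f114898 IH) (Lpe (f114814 IH) (Lpe (f56678 IH) (Lpr_df (f99218 IH) (Lpn (LP (LK LD1_c1 LD2_c5 LD3_c58))))))))))))
theorem f23567 : Led Lsl_ct (LP (LK LD1_c3 LD2_c15 LD3_c14)) = (LP (LK LD1_c1 LD2_c34 LD3_c16)) :=
  Lre_c IH (LK LD1_c3 LD2_c15 LD3_c14) (LK LD1_c1 LD2_c34 LD3_c16) Lrfl Lrfl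
theorem f104168 : Led Lsl_gt (LP (LK LD1_c3 LD2_c22 LD3_c38)) = (LP (LK LD1_c3 LD2_c15 LD3_c14)) :=
  Lgr Lrot150 (Lpe (f77778 IH) (Lpe (f77776 IH) (Lpr_df (K3.f77187 IH) (Lpr_gt (K3.f13504 IH) (Lpr_ct (K3.f103490 IH) (Lpr_gt (K3.f104162 IH) (Lpe (K3.f79261 IH) (Lpe (K3.f23343 IH) (Lpe (f23567 IH) (Lpn (LP (LK LD1_c3 LD2_c15 LD3_c14))))))))))))
theorem f114906 : Led Lsl_gt (LP (LK LD1_c3 LD2_c15 LD3_c14)) = (LP (LK LD1_c3 LD2_c22 LD3_c36)) :=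
  Lgr Lrot46 (Lpe (f104168 IH) (Lpr_ft (f114898 IH) (Lpe (f114814 IH) (Lpn (LP (LK LD1_c3 LD2_c22 LD3_c36))))))
theorem f23570 : Led Lsl_ct (LP (LK LD1_c1 LD2_c34 LD3_c16)) = (LP (LK LD1_c3 LD2_c15 LD3_c14)) :=
  Lre_c IH (LK LD1_c1 LD2_c34 LD3_c16) (LK LD1_c3 LD2_c15 LD3_c14) Lrfl Lrfl
theorem f77831 : Led Lsl_gt (LP (LK LD1_c1 LD2_c29 LD3_c12)) = (LP (LK LD1_c1 LD2_c26 LD3_c43)) :=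
  Lgr Lrot5 (Lpr_ft (f77825 IH) (Lpr_at (f61711 IH) (Lpe (K3.f61671 IH) (Lpn (LP (LK LD1_c1 LD2_c26 LD3_c43))))))
theorem f25045 : Led Lsl_bt (LP (LK LD1_c0 LD2_c8 LD3_c19)) = (LP (LK LD1_c0 LD2_c18 LD3_c28)) :=
  Lre_b IH (LK LD1_c0 LD2_c8 LD3_c19) (LK LD1_c0 LD2_c18 LD3_c28) Lrfl Lrfl
theorem f5832 : Led Lsl_bt (LP (LK LD1_c0 LD2_c9 LD3_c3)) = (LP (LK LD1_c0 LD2_c20 LD3_c5)) :=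
  Lre_b IH (LK LD1_c0 LD2_c9 LD3_c3) (LK LD1_c0 LD2_c20 LD3_c5) Lrfl Lrfl
theorem f20085 : Led Lsl_gt (LP (LK LD1_c0 LD2_c45 LD3_c14)) = (LP (LK LD1_c0 LD2_c20 LD3_c5)) :=
  Lre_g IH (LK LD1_c0 LD2_c45 LD3_c14) (LK LD1_c0 LD2_c20 LD3_c5) Lrfl Lrfl
theorem f25139 : Led Lsl_bt (LP (LK LD1_c1 LD2_c37 LD3_c41)) = (LP (LK LD1_c0 LD2_c45 LD3_c14)) :=
  Lre_b IH (LK LD1_c1 LD2_c37 LD3_c41) (LK LD1_c0 LD2_c45 LD3_c14) Lrfl Lrfl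
theorem f77833 : Led Lsl_ct (LP (LK LD1_c1 LD2_c37 LD3_c41)) = (LP (LK LD1_c1 LD2_c26 LD3_c43)) :=
  Lgr Lrot63 (Lpr_bt (f25139 IH) (Lpr_gt (f20085 IH) (Lpe (f5832 IH) (Lpr_ct (K0.f9684 IH) (Lpr_gt (K0.f3966 IH) (Lpe (K1.f25046 IH) (Lpr_bt (f25045 IH) (Lpr_gt (K2.f25053 IH) (Lpr_ct (K2.f25109 IH) (Lpr_gt (f77831 IH) (Lpn (LP (LK LD1_c1 LD2_c26 LD3_c43)))))))))))))
theorem f77838 : Led Lsl_cf (LP (LK LD1_c1 LD2_c37 LD3_c41)) = (LP (LK LD1_c1 LD2_c26 LD3_c43)) :=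
  Lgr Lrot11 (Lpr_ct (f77833 IH) (Lpn (LP (LK LD1_c1 LD2_c26 LD3_c43))))
theorem f114916 : Led Lsl_gf (LP (LK LD1_c1 LD2_c26 LD3_c44)) = (LP (LK LD1_c1 LD2_c37 LD3_c41)) :=
  Lgr Lrot104 (Lpr_ct (f114908 IH) (Lpe (f99205 IH) (Lpe (f26457 IH) (Lpe (f114906 IH) (Lpe (f23570 IH) (Lpr_gf (K3.f79252 IH) (Lpe (K3.f25110 IH) (Lpr_gt (f77831 IH) (Lpe (f77838 IH) (Lpn (LP (LK LD1_c1 LD2_c37 LD3_c41))))))))))))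
theorem f24385 : Led Lsl_dt (LP (LK LD1_c3 LD2_c12 LD3_c0)) = (LP (LK LD1_c1 LD2_c32 LD3_c26)) :=
  Lre_d IH (LK LD1_c3 LD2_c12 LD3_c0) (LK LD1_c1 LD2_c32 LD3_c26) Lrfl Lrfl
theorem f114862 : Led Lsl_gf (LP (LK LD1_c3 LD2_c12 LD3_c0)) = (LP (LK LD1_c1 LD2_c34 LD3_c58)) :=
  Lgr Lrot144 (Lpr_dt (f24385 IH) (Lpr_gt (K3.f103507 IH) (Lpe (K3.f110333 IH) (Lpe (K3.f18899 IH) (Lpe (K3.f18900 IH) (Lpr_gf (K3.f110293 IH) (Lpe (K3.f77171 IH) (Lpr_gf (f114858 IH) (Lpe (f78760 IH) (Lpn (LP (LK LD1_c1 LD2_c34 LD3_c58))))))))))))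
theorem f24389 : Led Lsl_dt (LP (LK LD1_c1 LD2_c33 LD3_c52)) = (LP (LK LD1_c0 LD2_c43 LD3_c31)) :=
  Lre_d IH (LK LD1_c1 LD2_c33 LD3_c52) (LK LD1_c0 LD2_c43 LD3_c31) Lrfl Lrfl
theorem f114920 : Led Lsl_gf (LP (LK LD1_c1 LD2_c33 LD3_c52)) = (LP (LK LD1_c0 LD2_c44 LD3_c11)) :=
  Lgr Lrot143 (Lpr_dt (f24389 IH) (Lpe (K3.f24381 IH) (Lpe (f24385 IH) (Lpr_gf (f114862 IH) (Lpr_df (f78765 IH) (Lpr_gf (f114916 IH) (Lpr_cf (f77838 IH) (Lpr_gt (K3.f61671 IH) (Lpe (K2.f78721 IH) (Lpn (LP (LK LD1_c0 LD2_c44 LD3_c11))))))))))))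
theorem f24387 : Led Lsl_ct (LP (LK LD1_c1 LD2_c33 LD3_c52)) = (LP (LK LD1_c3 LD2_c14 LD3_c39)) :=
  Lre_c IH (LK LD1_c1 LD2_c33 LD3_c52) (LK LD1_c3 LD2_c14 LD3_c39) Lrfl Lrfl
theorem f62329 : Led Lsl_cf (LP (LK LD1_c1 LD2_c29 LD3_c43)) = (LP (LK LD1_c1 LD2_c26 LD3_c33)) :=
  Lgr Lrot97 (Lpr_bt (K2.f25021 IH) (Lpr_ct (f25015 IH) (Lpr_bt (K2.f25022 IH) (Lpr_ct (K2.f62320 IH) (Lpr_bt (K2.f62328 IH) (Lpn (LP (LK LD1_c1 LD2_c26 LD3_c33))))))))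
theorem f77770 : Led Lsl_ct (LP (LK LD1_c3 LD2_c22 LD3_c38)) = (LP (LK LD1_c1 LD2_c37 LD3_c35)) :=
  Lre_c IH (LK LD1_c3 LD2_c22 LD3_c38) (LK LD1_c1 LD2_c37 LD3_c35) Lrfl Lrfl
theorem f114926 : Led Lsl_gt (LP (LK LD1_c3 LD2_c14 LD3_c39)) = (LP (LK LD1_c3 LD2_c22 LD3_c38)) :=
  Lgr Lrot150 (Lpe (f24387 IH) (Lpr_gf (f114920 IH) (Lpr_df (K2.f78721 IH) (Lpr_gt (K2.f76712 IH) (Lpe (f62329 IH) (Lpr_gt (f114466 IH) (Lpe (f114472 IH) (Lpr_df (f79623 IH) (Lpe (f77770 IH) (Lpn (LP (LK LD1_c3 LD2_c22 LD3_c38))))))))))))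
theorem f26216 : Led Lsl_dt (LP (LK LD1_c0 LD2_c50 LD3_c47)) = (LP (LK LD1_c0 LD2_c22 LD3_c56)) :=
  Lre_d IH (LK LD1_c0 LD2_c50 LD3_c47) (LK LD1_c0 LD2_c22 LD3_c56) Lrfl Lrfl
theorem f26218 : Led Lsl_bf (LP (LK LD1_c0 LD2_c50 LD3_c47)) = (LP (LK LD1_c1 LD2_c46 LD3_c3)) :=
  Lgr Lrot93 (Lpr_dt (f26216 IH) (Lpr_bt (K3.f26182 IH) (Lpr_dt (K3.f26217 IH) (Lpn (LP (LK LD1_c1 LD2_c46 LD3_c3))))))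
theorem f26233 : Led Lsl_gt (LP (LK LD1_c1 LD2_c48 LD3_c1)) = (LP (LK LD1_c0 LD2_c50 LD3_c47)) :=
  Lre_g IH (LK LD1_c1 LD2_c48 LD3_c1) (LK LD1_c0 LD2_c50 LD3_c47) Lrfl Lrfl
theorem f114928 : Led Lsl_bt (LP (LK LD1_c1 LD2_c37 LD3_c35)) = (LP (LK LD1_c1 LD2_c48 LD3_c1)) :=
  Lgr Lrot22 (Lpr_ct (f77778 IH) (Lpe (f114926 IH) (Lpe (f24387 IH) (Lpr_gf (f114920 IH) (Lpe (K2.f64461 IH) (Lpr_ct (K2.f64252 IH) (Lpe (K3.f64480 IH) (Lpe (K3.f104094 IH) (Lpe (f26218 IH) (Lpe (f26233 IH) (Lpn (LP (LK LD1_c1 LD2_c48 LD3_c1)))))))))))))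
theorem f113806 : Led Lsl_at (LP (LK LD1_c3 LD2_c5 LD3_c50)) = (LP (LK LD1_c2 LD2_c17 LD3_c8)) :=
  Lgr Lrot107 (Lpe (f99155 IH) (Lpr_af (f113787 IH) (Lpr_cf (K3.f78053 IH) (Lpn (LP (LK LD1_c2 LD2_c17 LD3_c8))))))
theorem f13747 : Led Lsl_ct (LP (LK LD1_c2 LD2_c20 LD3_c40)) = (LP (LK LD1_c1 LD2_c7 LD3_c42)) :=
  Lre_c IH (LK LD1_c2 LD2_c20 LD3_c40) (LK LD1_c1 LD2_c7 LD3_c42) Lrfl Lrfl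
theorem f58753 : Led Lsl_dt (LP (LK LD1_c1 LD2_c28 LD3_c59)) = (LP (LK LD1_c3 LD2_c5 LD3_c48)) :=
  Lre_d IH (LK LD1_c1 LD2_c28 LD3_c59) (LK LD1_c3 LD2_c5 LD3_c48) Lrfl Lrfl
theorem f102109 : Led Lsl_cf (LP (LK LD1_c2 LD2_c20 LD3_c45)) = (LP (LK LD1_c3 LD2_c5 LD3_c48)) :=
  Lgr Lrot55 (Lpr_dt (K3.f99142 IH) (Lpe (K3.f101917 IH) (Lpr_dt (K3.f101919 IH) (Lpr_ct (f13747 IH) (Lpr_dt (K3.f102069 IH) (Lpr_ct (f58190 IH) (Lpr_dt (f58192 IH) (Lpe (f99177 IH) (Lpr_dt (K3.f99198 IH) (Lpr_ct (K3.f102040 IH) (Lpr_dt (K3.f61890 IH) (Lpr_ct (K3.f61891 IH) (Lpe (K3.f99133 IH) (Lpr_ct (K3.f58752 IH) (Lpr_dt (f58753 IH) (Lpn (LP (LK LD1_c3 LD2_c5 LD3_c48))))))))))))))))))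
theorem f113816 : Led Lsl_ff (LP (LK LD1_c3 LD2_c5 LD3_c48)) = (LP (LK LD1_c2 LD2_c17 LD3_c8)) :=
  Lgr Lrot23 (Lpe (f102109 IH) (Lpr_ft (f113810 IH) (Lpr_ct (K3.f78007 IH) (Lpn (LP (LK LD1_c2 LD2_c17 LD3_c8))))))
theorem f113857 : Led Lsl_at (LP (LK LD1_c3 LD2_c5 LD3_c48)) = (LP (LK LD1_c2 LD2_c17 LD3_c12)) :=
  Lgr Lrot66 (Lpr_ff (f113816 IH) (Lpe (f113806 IH) (Lpr_ff (f113855 IH) (Lpn (LP (LK LD1_c2 LD2_c17 LD3_c12))))))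
theorem f77325 : Led Lsl_bt (LP (LK LD1_c0 LD2_c31 LD3_c5)) = (LP (LK LD1_c0 LD2_c19 LD3_c42)) :=
  Lre_b IH (LK LD1_c0 LD2_c31 LD3_c5) (LK LD1_c0 LD2_c19 LD3_c42) Lrfl Lrfl
theorem f88431 : Led Lsl_ct (LP (LK LD1_c3 LD2_c45 LD3_c5)) = (LP (LK LD1_c1 LD2_c50 LD3_c5)) :=
  Lgr Lrot59 (Lpr_cf (K3.f88424 IH) (Lpn (LP (LK LD1_c1 LD2_c50 LD3_c5))))
theorem f96756 : Led Lsl_gt (LP (LK LD1_c1 LD2_c34 LD3_c45)) = (LP (LK LD1_c1 LD2_c49 LD3_c39)) :=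
  Lgr Lrot49 (Lpe (K3.f93519 IH) (Lpr_gf (K3.f96731 IH) (Lpe (K3.f96186 IH) (Lpe (K2.f89295 IH) (Lpr_dt (K2.f63502 IH) (Lpe (K3.f87928 IH) (Lpr_dt (K3.f87930 IH) (Lpe (f88431 IH) (Lpe (K3.f66434 IH) (Lpn (LP (LK LD1_c1 LD2_c49 LD3_c39))))))))))))
theorem f12410 : Led Lsl_bf (LP (LK LD1_c0 LD2_c50 LD3_c16)) = (LP (LK LD1_c0 LD2_c51 LD3_c40)) :=
  Lgr Lrot93 (Lpr_dt (K1.f12408 IH) (Lpr_bt (K1.f12352 IH) (Lpr_dt (K3.f12409 IH) (Lpn (LP (LK LD1_c0 LD2_c51 LD3_c40))))))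
theorem f12562 : Led Lsl_gt (LP (LK LD1_c0 LD2_c50 LD3_c16)) = (LP (LK LD1_c1 LD2_c46 LD3_c56)) :=
  Lre_g IH (LK LD1_c0 LD2_c50 LD3_c16) (LK LD1_c1 LD2_c46 LD3_c56) Lrfl Lrfl
theorem f102250 : Led Lsl_bf (LP (LK LD1_c1 LD2_c46 LD3_c56)) = (LP (LK LD1_c3 LD2_c5 LD3_c48)) :=
  Lgr Lrot34 (Lpe (f12562 IH) (Lpr_bf (f12410 IH) (Lpr_ct (K3.f12487 IH) (Lpe (f96756 IH) (Lpe (K3.f93518 IH) (Lpe (K3.f93517 IH) (Lpe (f77325 IH) (Lpr_ct (K0.f13694 IH) (Lpe (K3.f13718 IH) (Lpr_cf (f102109 IH) (Lpn (LP (LK LD1_c3 LD2_c5 LD3_c48)))))))))))))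
theorem f102252 : Led Lsl_bt (LP (LK LD1_c1 LD2_c46 LD3_c56)) = (LP (LK LD1_c3 LD2_c5 LD3_c48)) :=
  Lgr Lrot127 (Lpr_bf (f102250 IH) (Lpn (LP (LK LD1_c3 LD2_c5 LD3_c48))))
theorem f114934 : Led Lsl_af (LP (LK LD1_c1 LD2_c46 LD3_c56)) = (LP (LK LD1_c1 LD2_c48 LD3_c1)) :=
  Lgr Lrot36 (Lpr_bt (f102252 IH) (Lpr_at (f113857 IH) (Lpr_bt (K2.f77903 IH) (Lpe (f113865 IH) (Lpr_bt (f114928 IH) (Lpn (LP (LK LD1_c1 LD2_c48 LD3_c1))))))))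
theorem f12565 : Led Lsl_gt (LP (LK LD1_c1 LD2_c46 LD3_c57)) = (LP (LK LD1_c0 LD2_c50 LD3_c16)) :=
  Lre_g IH (LK LD1_c1 LD2_c46 LD3_c57) (LK LD1_c0 LD2_c50 LD3_c16) Lrfl Lrfl
theorem f114964 : Led Lsl_ft (LP (LK LD1_c1 LD2_c46 LD3_c57)) = (LP (LK LD1_c1 LD2_c48 LD3_c1)) :=
  Lgr Lrot2 (Lpr_gt (f12565 IH) (Lpr_gt (f12562 IH) (Lpr_af (f114934 IH) (Lpn (LP (LK LD1_c1 LD2_c48 LD3_c1))))))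
theorem f114966 : Led Lsl_ff (LP (LK LD1_c1 LD2_c46 LD3_c57)) = (LP (LK LD1_c1 LD2_c48 LD3_c1)) :=
  Lgr Lrot3 (Lpr_ft (f114964 IH) (Lpn (LP (LK LD1_c1 LD2_c48 LD3_c1))))
theorem f26232 : Led Lsl_gt (LP (LK LD1_c0 LD2_c50 LD3_c47)) = (LP (LK LD1_c1 LD2_c48 LD3_c0)) :=
  Lre_g IH (LK LD1_c0 LD2_c50 LD3_c47) (LK LD1_c1 LD2_c48 LD3_c0) Lrfl Lrfl
theorem f114971 : Led Lsl_at (LP (LK LD1_c1 LD2_c46 LD3_c57)) = (LP (LK LD1_c1 LD2_c48 LD3_c0)) :=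
  Lgr Lrot26 (Lpr_ff (f114966 IH) (Lpr_gt (f26233 IH) (Lpr_gt (f26232 IH) (Lpn (LP (LK LD1_c1 LD2_c48 LD3_c0))))))
theorem f114936 : Led Lsl_bf (LP (LK LD1_c1 LD2_c37 LD3_c35)) = (LP (LK LD1_c1 LD2_c48 LD3_c1)) :=
  Lgr Lrot24 (Lpr_bt (f114928 IH) (Lpn (LP (LK LD1_c1 LD2_c48 LD3_c1))))
theorem f113867 : Led Lsl_at (LP (LK LD1_c1 LD2_c37 LD3_c35)) = (LP (LK LD1_c1 LD2_c29 LD3_c13)) :=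
  Lgr Lrot100 (Lpr_af (f113865 IH) (Lpn (LP (LK LD1_c1 LD2_c29 LD3_c13))))
theorem f113833 : Led Lsl_af (LP (LK LD1_c3 LD2_c5 LD3_c48)) = (LP (LK LD1_c2 LD2_c17 LD3_c12)) :=
  Lgr Lrot68 (Lpe (f102109 IH) (Lpr_at (f113828 IH) (Lpr_ct (K3.f78248 IH) (Lpn (LP (LK LD1_c2 LD2_c17 LD3_c12))))))
theorem f114962 : Led Lsl_at (LP (LK LD1_c1 LD2_c46 LD3_c56)) = (LP (LK LD1_c1 LD2_c48 LD3_c1)) :=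
  Lgr Lrot67 (Lpr_bf (f102250 IH) (Lpr_af (f113833 IH) (Lpr_bf (K2.f77905 IH) (Lpe (f113867 IH) (Lpr_bf (f114936 IH) (Lpn (LP (LK LD1_c1 LD2_c48 LD3_c1))))))))
theorem f114978 : Led Lsl_ff (LP (LK LD1_c1 LD2_c46 LD3_c56)) = (LP (LK LD1_c1 LD2_c48 LD3_c0)) :=
  Lgr Lrot30 (Lpr_at (f114962 IH) (Lpe (f114966 IH) (Lpr_at (f114971 IH) (Lpn (LP (LK LD1_c1 LD2_c48 LD3_c0))))))
theorem f114983 : Led Lsl_ft (LP (LK LD1_c1 LD2_c46 LD3_c56)) = (LP (LK LD1_c1 LD2_c48 LD3_c0)) :=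
  Lgr Lrot48 (Lpr_ff (f114978 IH) (Lpn (LP (LK LD1_c1 LD2_c48 LD3_c0))))
theorem f114985 : Led Lsl_bf (LP (LK LD1_c2 LD2_c17 LD3_c8)) = (LP (LK LD1_c1 LD2_c48 LD3_c0)) :=
  Lgr Lrot61 (Lpe (f113816 IH) (Lpe (f102250 IH) (Lpr_ft (f114983 IH) (Lpn (LP (LK LD1_c1 LD2_c48 LD3_c0))))))
theorem f13746 : Led Lsl_gt (LP (LK LD1_c1 LD2_c7 LD3_c42)) = (LP (LK LD1_c0 LD2_c31 LD3_c10)) :=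
  Lre_g IH (LK LD1_c1 LD2_c7 LD3_c42) (LK LD1_c0 LD2_c31 LD3_c10) Lrfl Lrfl
theorem f102118 : Led Lsl_ct (LP (LK LD1_c2 LD2_c20 LD3_c45)) = (LP (LK LD1_c3 LD2_c5 LD3_c48)) :=
  Lgr Lrot151 (Lpe (K3.f72660 IH) (Lpe (K3.f13705 IH) (Lpe (f13746 IH) (Lpr_dt (K3.f102069 IH) (Lpr_gt (K3.f58187 IH) (Lpe (K1.f58743 IH) (Lpr_gt (K3.f26749 IH) (Lpr_ct (K3.f58752 IH) (Lpr_dt (f58753 IH) (Lpn (LP (LK LD1_c3 LD2_c5 LD3_c48))))))))))))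
theorem f113824 : Led Lsl_ft (LP (LK LD1_c3 LD2_c5 LD3_c48)) = (LP (LK LD1_c2 LD2_c17 LD3_c8)) :=
  Lgr Lrot4 (Lpe (f102118 IH) (Lpr_ff (f113820 IH) (Lpr_cf (K3.f78053 IH) (Lpn (LP (LK LD1_c2 LD2_c17 LD3_c8))))))
theorem f113849 : Led Lsl_af (LP (LK LD1_c3 LD2_c5 LD3_c50)) = (LP (LK LD1_c2 LD2_c17 LD3_c8)) :=
  Lgr Lrot45 (Lpr_ft (f113843 IH) (Lpe (f113833 IH) (Lpr_ft (f113824 IH) (Lpn (LP (LK LD1_c2 LD2_c17 LD3_c8))))))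
theorem f114488 : Led Lsl_at (LP (LK LD1_c1 LD2_c37 LD3_c34)) = (LP (LK LD1_c1 LD2_c29 LD3_c16)) :=
  Lgr Lrot51 (Lpr_df (f99218 IH) (Lpr_af (f114482 IH) (Lpe (K2.f25111 IH) (Lpn (LP (LK LD1_c1 LD2_c29 LD3_c16))))))
theorem f114987 : Led Lsl_bt (LP (LK LD1_c1 LD2_c29 LD3_c16)) = (LP (LK LD1_c1 LD2_c46 LD3_c57)) :=
  Lgr Lrot62 (Lpe (f114488 IH) (Lpr_bf (f99199 IH) (Lpr_af (f113849 IH) (Lpr_bf (f114985 IH) (Lpe (f114971 IH) (Lpn (LP (LK LD1_c1 LD2_c46 LD3_c57))))))))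
theorem f25113 : Led Lsl_dt (LP (LK LD1_c0 LD2_c41 LD3_c16)) = (LP (LK LD1_c1 LD2_c29 LD3_c16)) :=
  Lre_d IH (LK LD1_c0 LD2_c41 LD3_c16) (LK LD1_c1 LD2_c29 LD3_c16) Lrfl Lrfl
theorem f115002 : Led Lsl_df (LP (LK LD1_c1 LD2_c29 LD3_c15)) = (LP (LK LD1_c1 LD2_c46 LD3_c57)) :=
  Lgr Lrot12 (Lpr_bt (K2.f25115 IH) (Lpr_dt (f25113 IH) (Lpr_bt (f114987 IH) (Lpn (LP (LK LD1_c1 LD2_c46 LD3_c57))))))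
theorem f115063 : Led Lsl_dt (LP (LK LD1_c1 LD2_c29 LD3_c15)) = (LP (LK LD1_c1 LD2_c46 LD3_c57)) :=
  Lgr Lrot42 (Lpr_df (f115002 IH) (Lpn (LP (LK LD1_c1 LD2_c46 LD3_c57))))
theorem f114989 : Led Lsl_dt (LP (LK LD1_c1 LD2_c39 LD3_c9)) = (LP (LK LD1_c1 LD2_c48 LD3_c0)) :=
  Lgr Lrot79 (Lpe (K2.f66759 IH) (Lpe (K3.f13671 IH) (Lpr_bf (f114985 IH) (Lpn (LP (LK LD1_c1 LD2_c48 LD3_c0))))))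
theorem f114995 : Led Lsl_df (LP (LK LD1_c1 LD2_c39 LD3_c9)) = (LP (LK LD1_c1 LD2_c48 LD3_c0)) :=
  Lgr Lrot38 (Lpr_dt (f114989 IH) (Lpn (LP (LK LD1_c1 LD2_c48 LD3_c0))))
theorem f115065 : Led Lsl_af (LP (LK LD1_c1 LD2_c29 LD3_c15)) = (LP (LK LD1_c1 LD2_c39 LD3_c9)) :=
  Lgr Lrot117 (Lpr_dt (f115063 IH) (Lpr_at (f114971 IH) (Lpe (f114995 IH) (Lpn (LP (LK LD1_c1 LD2_c39 LD3_c9))))))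
theorem f87551 : Led Lsl_et (LP (LK LD1_c1 LD2_c29 LD3_c15)) = (LP (LK LD1_c3 LD2_c6 LD3_c19)) :=
  Lre_e IH (LK LD1_c1 LD2_c29 LD3_c15) (LK LD1_c3 LD2_c6 LD3_c19) Lrfl Lrfl
theorem f115071 : Led Lsl_at (LP (LK LD1_c3 LD2_c6 LD3_c19)) = (LP (LK LD1_c3 LD2_c25 LD3_c14)) :=
  Lgr Lrot80 (Lpe (f87551 IH) (Lpr_af (f115065 IH) (Lpe (K3.f12105 IH) (Lpn (LP (LK LD1_c3 LD2_c25 LD3_c14))))))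
theorem f115077 : Led Lsl_af (LP (LK LD1_c1 LD2_c42 LD3_c41)) = (LP (LK LD1_c1 LD2_c42 LD3_c32)) :=
  Lgr Lrot68 (Lpr_ct (K2.f87548 IH) (Lpr_at (f115071 IH) (Lpr_ct (K3.f12094 IH) (Lpn (LP (LK LD1_c1 LD2_c42 LD3_c32))))))
theorem f12102 : Led Lsl_dt (LP (LK LD1_c3 LD2_c31 LD3_c50)) = (LP (LK LD1_c1 LD2_c42 LD3_c32)) :=
  Lre_d IH (LK LD1_c3 LD2_c31 LD3_c50) (LK LD1_c1 LD2_c42 LD3_c32) Lrfl Lrfl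
theorem f115083 : Led Lsl_at (LP (LK LD1_c3 LD2_c32 LD3_c0)) = (LP (LK LD1_c3 LD2_c31 LD3_c50)) :=
  Lgr Lrot51 (Lpe (K3.f87547 IH) (Lpr_af (f115077 IH) (Lpe (f12102 IH) (Lpn (LP (LK LD1_c3 LD2_c31 LD3_c50))))))
theorem f95184 : Led Lsl_bt (LP (LK LD1_c1 LD2_c38 LD3_c35)) = (LP (LK LD1_c3 LD2_c24 LD3_c17)) :=
  Lre_b IH (LK LD1_c1 LD2_c38 LD3_c35) (LK LD1_c3 LD2_c24 LD3_c17) Lrfl Lrfl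
theorem f64375 : Led Lsl_bt (LP (LK LD1_c3 LD2_c31 LD3_c50)) = (LP (LK LD1_c1 LD2_c42 LD3_c34)) :=
  Lre_b IH (LK LD1_c3 LD2_c31 LD3_c50) (LK LD1_c1 LD2_c42 LD3_c34) Lrfl Lrfl
theorem f115087 : Led Lsl_af (LP (LK LD1_c1 LD2_c38 LD3_c35)) = (LP (LK LD1_c1 LD2_c42 LD3_c34)) :=
  Lgr Lrot36 (Lpr_bt (f95184 IH) (Lpe (f114027 IH) (Lpe (K3.f87530 IH) (Lpr_at (f115083 IH) (Lpr_bt (f64375 IH) (Lpn (LP (LK LD1_c1 LD2_c42 LD3_c34))))))))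
theorem f18104 : Led Lsl_at (LP (LK LD1_c0 LD2_c47 LD3_c55)) = (LP (LK LD1_c1 LD2_c42 LD3_c35)) :=
  Lre_a IH (LK LD1_c0 LD2_c47 LD3_c55) (LK LD1_c1 LD2_c42 LD3_c35) Lrfl Lrfl
theorem f17169 : Led Lsl_at (LP (LK LD1_c1 LD2_c40 LD3_c34)) = (LP (LK LD1_c3 LD2_c25 LD3_c23)) :=
  Lre_a IH (LK LD1_c1 LD2_c40 LD3_c34) (LK LD1_c3 LD2_c25 LD3_c23) Lrfl Lrfl
theorem f19204 : Led Lsl_ft (LP (LK LD1_c1 LD2_c42 LD3_c39)) = (LP (LK LD1_c1 LD2_c40 LD3_c34)) :=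
  Lgr Lrot101 (Lpe (K3.f19203 IH) (Lpr_ff (K3.f19192 IH) (Lpe (f17169 IH) (Lpn (LP (LK LD1_c1 LD2_c40 LD3_c34))))))
theorem f19303 : Led Lsl_ff (LP (LK LD1_c0 LD2_c47 LD3_c55)) = (LP (LK LD1_c0 LD2_c46 LD3_c44)) :=
  Lgr Lrot23 (Lpr_ct (K3.f11505 IH) (Lpr_ft (f19204 IH) (Lpr_ct (K3.f11478 IH) (Lpn (LP (LK LD1_c0 LD2_c46 LD3_c44))))))
theorem f92251 : Led Lsl_gt (LP (LK LD1_c0 LD2_c46 LD3_c44)) = (LP (LK LD1_c1 LD2_c38 LD3_c35)) :=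
  Lgr Lrot5 (Lpe (f19303 IH) (Lpr_at (f18104 IH) (Lpr_gf (K3.f92249 IH) (Lpn (LP (LK LD1_c1 LD2_c38 LD3_c35))))))
theorem f17264 : Led Lsl_gt (LP (LK LD1_c1 LD2_c40 LD3_c33)) = (LP (LK LD1_c0 LD2_c46 LD3_c44)) :=
  Lre_g IH (LK LD1_c1 LD2_c40 LD3_c33) (LK LD1_c0 LD2_c46 LD3_c44) Lrfl Lrfl
theorem f115217 : Led Lsl_ft (LP (LK LD1_c1 LD2_c40 LD3_c33)) = (LP (LK LD1_c1 LD2_c42 LD3_c34)) :=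
  Lgr Lrot2 (Lpr_gt (f17264 IH) (Lpr_gt (f92251 IH) (Lpr_af (f115087 IH) (Lpn (LP (LK LD1_c1 LD2_c42 LD3_c34))))))
theorem f115223 : Led Lsl_ff (LP (LK LD1_c1 LD2_c40 LD3_c33)) = (LP (LK LD1_c1 LD2_c42 LD3_c34)) :=
  Lgr Lrot3 (Lpr_ft (f115217 IH) (Lpn (LP (LK LD1_c1 LD2_c42 LD3_c34))))
theorem f115229 : Led Lsl_at (LP (LK LD1_c1 LD2_c40 LD3_c33)) = (LP (LK LD1_c1 LD2_c42 LD3_c38)) :=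
  Lgr Lrot26 (Lpr_ff (f115223 IH) (Lpe (K2.f64365 IH) (Lpr_gt (K3.f19330 IH) (Lpn (LP (LK LD1_c1 LD2_c42 LD3_c38))))))
theorem f115231 : Led Lsl_af (LP (LK LD1_c1 LD2_c40 LD3_c33)) = (LP (LK LD1_c1 LD2_c42 LD3_c38)) :=
  Lgr Lrot0 (Lpr_at (f115229 IH) (Lpn (LP (LK LD1_c1 LD2_c42 LD3_c38))))
theorem f106363 : Led Lsl_bt (LP (LK LD1_c1 LD2_c40 LD3_c33)) = (LP (LK LD1_c3 LD2_c27 LD3_c53)) :=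
  Lre_b IH (LK LD1_c1 LD2_c40 LD3_c33) (LK LD1_c3 LD2_c27 LD3_c53) Lrfl Lrfl
theorem f106855 : Led Lsl_bf (LP (LK LD1_c3 LD2_c35 LD3_c60)) = (LP (LK LD1_c3 LD2_c38 LD3_c4)) :=
  Lgr Lrot24 (Lpr_bt (K3.f106851 IH) (Lpn (LP (LK LD1_c3 LD2_c38 LD3_c4))))
theorem f115497 : Led Lsl_at (LP (LK LD1_c3 LD2_c27 LD3_c53)) = (LP (LK LD1_c3 LD2_c38 LD3_c4)) :=
  Lgr Lrot67 (Lpe (f106363 IH) (Lpr_af (f115231 IH) (Lpe (K3.f19335 IH) (Lpr_af (f114137 IH) (Lpr_bf (f106855 IH) (Lpn (LP (LK LD1_c3 LD2_c38 LD3_c4))))))))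
theorem f19328 : Led Lsl_bt (LP (LK LD1_c3 LD2_c27 LD3_c53)) = (LP (LK LD1_c1 LD2_c40 LD3_c33)) :=
  Lre_b IH (LK LD1_c3 LD2_c27 LD3_c53) (LK LD1_c1 LD2_c40 LD3_c33) Lrfl Lrfl
theorem f115095 : Led Lsl_bt (LP (LK LD1_c1 LD2_c42 LD3_c34)) = (LP (LK LD1_c3 LD2_c31 LD3_c50)) :=
  Lre_b IH (LK LD1_c1 LD2_c42 LD3_c34) (LK LD1_c3 LD2_c31 LD3_c50) Lrfl Lrfl
theorem f115219 : Led Lsl_ff (LP (LK LD1_c3 LD2_c27 LD3_c53)) = (LP (LK LD1_c3 LD2_c31 LD3_c50)) :=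
  Lgr Lrot25 (Lpr_bt (f19328 IH) (Lpr_ft (f115217 IH) (Lpr_bt (f115095 IH) (Lpn (LP (LK LD1_c3 LD2_c31 LD3_c50))))))
theorem f87545 : Led Lsl_bt (LP (LK LD1_c3 LD2_c32 LD3_c0)) = (LP (LK LD1_c3 LD2_c1 LD3_c33)) :=
  Lgr Lrot127 (Lpr_bf (K3.f87530 IH) (Lpn (LP (LK LD1_c3 LD2_c1 LD3_c33))))
theorem f114139 : Led Lsl_ff (LP (LK LD1_c3 LD2_c32 LD3_c0)) = (LP (LK LD1_c3 LD2_c38 LD3_c4)) :=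
  Lgr Lrot25 (Lpr_bt (f87545 IH) (Lpr_ft (f114099 IH) (Lpr_bt (K3.f106851 IH) (Lpn (LP (LK LD1_c3 LD2_c38 LD3_c4))))))
theorem f115089 : Led Lsl_gt (LP (LK LD1_c1 LD2_c45 LD3_c59)) = (LP (LK LD1_c3 LD2_c31 LD3_c50)) :=
  Lgr Lrot46 (Lpe (K3.f86811 IH) (Lpe (f114139 IH) (Lpr_at (f115083 IH) (Lpn (LP (LK LD1_c3 LD2_c31 LD3_c50))))))
theorem f115091 : Led Lsl_gf (LP (LK LD1_c3 LD2_c32 LD3_c2)) = (LP (LK LD1_c3 LD2_c31 LD3_c50)) :=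
  Lgr Lrot76 (Lpe (K3.f95959 IH) (Lpr_ff (K3.f106468 IH) (Lpr_gt (f115089 IH) (Lpn (LP (LK LD1_c3 LD2_c31 LD3_c50))))))
theorem f115501 : Led Lsl_gt (LP (LK LD1_c3 LD2_c32 LD3_c2)) = (LP (LK LD1_c3 LD2_c38 LD3_c4)) :=
  Lgr Lrot46 (Lpr_gf (f115091 IH) (Lpe (f115219 IH) (Lpr_at (f115497 IH) (Lpn (LP (LK LD1_c3 LD2_c38 LD3_c4))))))
theorem f87476 : Led Lsl_at (LP (LK LD1_c0 LD2_c47 LD3_c59)) = (LP (LK LD1_c1 LD2_c42 LD3_c42)) :=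
  Lre_a IH (LK LD1_c0 LD2_c47 LD3_c59) (LK LD1_c1 LD2_c42 LD3_c42) Lrfl Lrfl
theorem f107078 : Led Lsl_ff (LP (LK LD1_c0 LD2_c47 LD3_c59)) = (LP (LK LD1_c0 LD2_c49 LD3_c42)) :=
  Lgr Lrot30 (Lpr_at (f87476 IH) (Lpe (K3.f95934 IH) (Lpr_at (K3.f107070 IH) (Lpn (LP (LK LD1_c0 LD2_c49 LD3_c42))))))
theorem f94351 : Led Lsl_bt (LP (LK LD1_c0 LD2_c45 LD3_c44)) = (LP (LK LD1_c1 LD2_c38 LD3_c36)) :=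
  Lre_b IH (LK LD1_c0 LD2_c45 LD3_c44) (LK LD1_c1 LD2_c38 LD3_c36) Lrfl Lrfl
theorem f105940 : Led Lsl_gf (LP (LK LD1_c1 LD2_c38 LD3_c36)) = (LP (LK LD1_c0 LD2_c49 LD3_c42)) :=
  Lgr Lrot124 (Lpe (f94351 IH) (Lpr_ct (K2.f92040 IH) (Lpe (K2.f94347 IH) (Lpe (K2.f87481 IH) (Lpr_bt (K2.f87499 IH) (Lpr_gt (K2.f87514 IH) (Lpr_ct (K2.f94358 IH) (Lpr_gt (K3.f105934 IH) (Lpe (K3.f17995 IH) (Lpr_bt (K3.f105771 IH) (Lpn (LP (LK LD1_c0 LD2_c49 LD3_c42)))))))))))))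
theorem f107084 : Led Lsl_gf (LP (LK LD1_c1 LD2_c42 LD3_c42)) = (LP (LK LD1_c1 LD2_c38 LD3_c36)) :=
  Lgr Lrot76 (Lpe (f87476 IH) (Lpr_ff (f107078 IH) (Lpe (f105940 IH) (Lpn (LP (LK LD1_c1 LD2_c38 LD3_c36))))))
theorem f91698 : Led Lsl_et (LP (LK LD1_c0 LD2_c45 LD3_c42)) = (LP (LK LD1_c1 LD2_c38 LD3_c36)) :=
  Lre_e IH (LK LD1_c0 LD2_c45 LD3_c42) (LK LD1_c1 LD2_c38 LD3_c36) Lrfl Lrfl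
theorem f90112 : Led Lsl_bt (LP (LK LD1_c0 LD2_c20 LD3_c24)) = (LP (LK LD1_c0 LD2_c45 LD3_c42)) :=
  Lre_b IH (LK LD1_c0 LD2_c20 LD3_c24) (LK LD1_c0 LD2_c45 LD3_c42) Lrfl Lrfl
theorem f91490 : Led Lsl_dt (LP (LK LD1_c0 LD2_c45 LD3_c42)) = (LP (LK LD1_c0 LD2_c46 LD3_c32)) :=
  Lgr Lrot79 (Lpe (f90112 IH) (Lpr_df (K2.f91301 IH) (Lpe (K3.f9908 IH) (Lpn (LP (LK LD1_c0 LD2_c46 LD3_c32))))))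
theorem f23678 : Led Lsl_dt (LP (LK LD1_c0 LD2_c22 LD3_c47)) = (LP (LK LD1_c0 LD2_c10 LD3_c16)) :=
  Lre_d IH (LK LD1_c0 LD2_c22 LD3_c47) (LK LD1_c0 LD2_c10 LD3_c16) Lrfl Lrfl
theorem f107564 : Led Lsl_dt (LP (LK LD1_c0 LD2_c22 LD3_c19)) = (LP (LK LD1_c0 LD2_c48 LD3_c17)) :=
  Lgr Lrot6 (Lpe (K3.f98609 IH) (Lpr_ct (K3.f9810 IH) (Lpr_gt (K3.f107558 IH) (Lpr_ct (K3.f23676 IH) (Lpe (f23678 IH) (Lpe (K3.f95902 IH) (Lpr_gf (K3.f107303 IH) (Lpe (K3.f9909 IH) (Lpr_gf (K3.f96970 IH) (Lpn (LP (LK LD1_c0 LD2_c48 LD3_c17))))))))))))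
theorem f87532 : Led Lsl_ft (LP (LK LD1_c3 LD2_c32 LD3_c1)) = (LP (LK LD1_c1 LD2_c42 LD3_c41)) :=
  Lre_f IH (LK LD1_c3 LD2_c32 LD3_c1) (LK LD1_c1 LD2_c42 LD3_c41) Lrfl Lrfl
theorem f87533 : Led Lsl_ft (LP (LK LD1_c1 LD2_c26 LD3_c47)) = (LP (LK LD1_c3 LD2_c1 LD3_c34)) :=
  Lre_f IH (LK LD1_c1 LD2_c26 LD3_c47) (LK LD1_c3 LD2_c1 LD3_c34) Lrfl Lrfl
theorem f87534 : Led Lsl_bf (LP (LK LD1_c3 LD2_c32 LD3_c1)) = (LP (LK LD1_c3 LD2_c1 LD3_c34)) :=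
  Lgr Lrot61 (Lpr_ft (f87532 IH) (Lpr_bt (K2.f84744 IH) (Lpr_ft (f87533 IH) (Lpn (LP (LK LD1_c3 LD2_c1 LD3_c34))))))
theorem f114408 : Led Lsl_ef (LP (LK LD1_c1 LD2_c45 LD3_c58)) = (LP (LK LD1_c3 LD2_c32 LD3_c1)) :=
  Lgr Lrot29 (Lpr_bt (K3.f106719 IH) (Lpr_et (f114406 IH) (Lpe (f87534 IH) (Lpn (LP (LK LD1_c3 LD2_c32 LD3_c1))))))
theorem f115508 : Led Lsl_dt (LP (LK LD1_c3 LD2_c32 LD3_c1)) = (LP (LK LD1_c3 LD2_c38 LD3_c4)) :=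
  Lgr Lrot56 (Lpe (f114408 IH) (Lpr_gt (K3.f86738 IH) (Lpe (K3.f105951 IH) (Lpr_dt (f107564 IH) (Lpe (K3.f96970 IH) (Lpe (f91490 IH) (Lpr_et (f91698 IH) (Lpe (f107084 IH) (Lpr_dt (K3.f95930 IH) (Lpr_gt (f115501 IH) (Lpn (LP (LK LD1_c3 LD2_c38 LD3_c4)))))))))))))
theorem f12101 : Led Lsl_dt (LP (LK LD1_c1 LD2_c42 LD3_c32)) = (LP (LK LD1_c3 LD2_c31 LD3_c50)) :=
  Lre_d IH (LK LD1_c1 LD2_c42 LD3_c32) (LK LD1_c3 LD2_c31 LD3_c50) Lrfl Lrfl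
theorem f115510 : Led Lsl_gf (LP (LK LD1_c0 LD2_c47 LD3_c57)) = (LP (LK LD1_c0 LD2_c47 LD3_c49)) :=
  Lgr Lrot141 (Lpe (K3.f95933 IH) (Lpr_dt (K3.f95930 IH) (Lpr_gt (f115501 IH) (Lpe (f115508 IH) (Lpe (f114408 IH) (Lpr_gt (K3.f86738 IH) (Lpr_dt (K3.f65537 IH) (Lpr_gt (f115089 IH) (Lpe (f12101 IH) (Lpr_et (K3.f12093 IH) (Lpn (LP (LK LD1_c0 LD2_c47 LD3_c49)))))))))))))
theorem f109162 : Led Lsl_ct (LP (LK LD1_c0 LD2_c39 LD3_c58)) = (LP (LK LD1_c0 LD2_c47 LD3_c57)) :=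
  Lgr Lrot59 (Lpr_cf (K3.f109156 IH) (Lpn (LP (LK LD1_c0 LD2_c47 LD3_c57))))
theorem f82411 : Led Lsl_bf (LP (LK LD1_c0 LD2_c42 LD3_c22)) = (LP (LK LD1_c0 LD2_c39 LD3_c58)) :=
  Lgr Lrot24 (Lpr_bt (K3.f82409 IH) (Lpn (LP (LK LD1_c0 LD2_c39 LD3_c58))))
theorem f57590 : Led Lsl_bt (LP (LK LD1_c0 LD2_c18 LD3_c34)) = (LP (LK LD1_c0 LD2_c41 LD3_c31)) :=
  Lre_b IH (LK LD1_c0 LD2_c18 LD3_c34) (LK LD1_c0 LD2_c41 LD3_c31) Lrfl Lrfl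
theorem f77803 : Led Lsl_gt (LP (LK LD1_c0 LD2_c41 LD3_c31)) = (LP (LK LD1_c1 LD2_c5 LD3_c30)) :=
  Lgr Lrot82 (Lpe (f57590 IH) (Lpr_ct (f57587 IH) (Lpr_gf (K3.f66650 IH) (Lpe (K1.f24973 IH) (Lpr_bt (K1.f24972 IH) (Lpe (K2.f18902 IH) (Lpr_bf (K2.f58181 IH) (Lpr_ct (K1.f58206 IH) (Lpr_gf (K2.f77796 IH) (Lpe (K2.f13672 IH) (Lpn (LP (LK LD1_c1 LD2_c5 LD3_c30)))))))))))))
theorem f115514 : Led Lsl_gt (LP (LK LD1_c0 LD2_c42 LD3_c22)) = (LP (LK LD1_c0 LD2_c40 LD3_c13)) :=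
  Lgr Lrot82 (Lpr_bf (f82411 IH) (Lpr_ct (f109162 IH) (Lpr_gf (f115510 IH) (Lpe (K2.f12090 IH) (Lpe (K3.f66794 IH) (Lpe (f77803 IH) (Lpe (f57590 IH) (Lpr_ct (f57587 IH) (Lpr_gf (K3.f66650 IH) (Lpe (K1.f24973 IH) (Lpn (LP (LK LD1_c0 LD2_c40 LD3_c13)))))))))))))
theorem f82441 : Led Lsl_dt (LP (LK LD1_c0 LD2_c42 LD3_c22)) = (LP (LK LD1_c1 LD2_c31 LD3_c38)) :=
  Lre_d IH (LK LD1_c0 LD2_c42 LD3_c22) (LK LD1_c1 LD2_c31 LD3_c38) Lrfl Lrfl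
theorem f57589 : Led Lsl_dt (LP (LK LD1_c0 LD2_c41 LD3_c33)) = (LP (LK LD1_c0 LD2_c18 LD3_c34)) :=
  Lre_d IH (LK LD1_c0 LD2_c41 LD3_c33) (LK LD1_c0 LD2_c18 LD3_c34) Lrfl Lrfl
theorem f66654 : Led Lsl_ct (LP (LK LD1_c1 LD2_c29 LD3_c51)) = (LP (LK LD1_c0 LD2_c41 LD3_c33)) :=
  Lre_c IH (LK LD1_c1 LD2_c29 LD3_c51) (LK LD1_c0 LD2_c41 LD3_c33) Lrfl Lrfl
theorem f110512 : Led Lsl_ct (LP (LK LD1_c4 LD2_c40 LD3_c25)) = (LP (LK LD1_c4 LD2_c40 LD3_c33)) :=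
  Lgr Lrot59 (Lpr_cf (f110350 IH) (Lpn (LP (LK LD1_c4 LD2_c40 LD3_c33))))
theorem f104146 : Led Lsl_df (LP (LK LD1_c1 LD2_c5 LD3_c36)) = (LP (LK LD1_c0 LD2_c31 LD3_c0)) :=
  Lgr Lrot162 (Lpe (K3.f58770 IH) (Lpe (K3.f58771 IH) (Lpe (K3.f103232 IH) (Lpe (K3.f98839 IH) (Lpr_dt (K3.f98849 IH) (Lpr_gt (K2.f23504 IH) (Lpr_ct (K2.f23474 IH) (Lpr_gt (K3.f104142 IH) (Lpr_ct (K3.f103461 IH) (Lpn (LP (LK LD1_c0 LD2_c31 LD3_c0))))))))))))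
theorem f103462 : Led Lsl_dt (LP (LK LD1_c2 LD2_c20 LD3_c28)) = (LP (LK LD1_c1 LD2_c7 LD3_c34)) :=
  Lre_d IH (LK LD1_c2 LD2_c20 LD3_c28) (LK LD1_c1 LD2_c7 LD3_c34) Lrfl Lrfl
theorem f102291 : Led Lsl_dt (LP (LK LD1_c1 LD2_c7 LD3_c34)) = (LP (LK LD1_c2 LD2_c20 LD3_c28)) :=
  Lre_d IH (LK LD1_c1 LD2_c7 LD3_c34) (LK LD1_c2 LD2_c20 LD3_c28) Lrfl Lrfl
theorem f13742 : Led Lsl_at (LP (LK LD1_c0 LD2_c30 LD3_c57)) = (LP (LK LD1_c0 LD2_c13 LD3_c50)) :=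
  Lre_a IH (LK LD1_c0 LD2_c30 LD3_c57) (LK LD1_c0 LD2_c13 LD3_c50) Lrfl Lrfl
theorem f103469 : Led Lsl_gf (LP (LK LD1_c0 LD2_c13 LD3_c50)) = (LP (LK LD1_c0 LD2_c30 LD3_c58)) :=
  Lgr Lrot76 (Lpe (f13742 IH) (Lpe (K0.f13699 IH) (Lpr_gt (K3.f103463 IH) (Lpn (LP (LK LD1_c0 LD2_c30 LD3_c58))))))
theorem f102297 : Led Lsl_ft (LP (LK LD1_c0 LD2_c30 LD3_c58)) = (LP (LK LD1_c0 LD2_c13 LD3_c47)) :=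
  Lre_f IH (LK LD1_c0 LD2_c30 LD3_c58) (LK LD1_c0 LD2_c13 LD3_c47) Lrfl Lrfl
theorem f103329 : Led Lsl_dt (LP (LK LD1_c1 LD2_c5 LD3_c37)) = (LP (LK LD1_c0 LD2_c30 LD3_c58)) :=
  Lgr Lrot60 (Lpr_ff (K3.f103327 IH) (Lpe (K3.f97556 IH) (Lpe (f102297 IH) (Lpn (LP (LK LD1_c0 LD2_c30 LD3_c58))))))
theorem f68361 : Led Lsl_gt (LP (LK LD1_c1 LD2_c5 LD3_c38)) = (LP (LK LD1_c2 LD2_c17 LD3_c20)) :=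
  Lre_g IH (LK LD1_c1 LD2_c5 LD3_c38) (LK LD1_c2 LD2_c17 LD3_c20) Lrfl Lrfl
theorem f107556 : Led Lsl_cf (LP (LK LD1_c2 LD2_c20 LD3_c28)) = (LP (LK LD1_c2 LD2_c17 LD3_c20)) :=
  Lgr Lrot99 (Lpe (f102291 IH) (Lpe (K3.f103598 IH) (Lpr_gf (K3.f107554 IH) (Lpr_cf (K3.f13730 IH) (Lpr_gf (f103469 IH) (Lpe (f103329 IH) (Lpr_gt (K3.f13665 IH) (Lpr_ct (K1.f13654 IH) (Lpr_gt (f68361 IH) (Lpn (LP (LK LD1_c2 LD2_c17 LD3_c20))))))))))))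
theorem f79461 : Led Lsl_dt (LP (LK LD1_c4 LD2_c40 LD3_c31)) = (LP (LK LD1_c2 LD2_c17 LD3_c20)) :=
  Lre_d IH (LK LD1_c4 LD2_c40 LD3_c31) (LK LD1_c2 LD2_c17 LD3_c20) Lrfl Lrfl
theorem f110510 : Led Lsl_at (LP (LK LD1_c2 LD2_c21 LD3_c19)) = (LP (LK LD1_c4 LD2_c40 LD3_c33)) :=
  Lgr Lrot107 (Lpe (K3.f98909 IH) (Lpe (K3.f102949 IH) (Lpr_cf (f110350 IH) (Lpn (LP (LK LD1_c4 LD2_c40 LD3_c33))))))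
theorem f110770 : Led Lsl_ft (LP (LK LD1_c4 LD2_c40 LD3_c31)) = (LP (LK LD1_c2 LD2_c21 LD3_c19)) :=
  Lgr Lrot142 (Lpr_dt (f79461 IH) (Lpe (f107556 IH) (Lpr_dt (f103462 IH) (Lpr_ct (K3.f103461 IH) (Lpe (f104146 IH) (Lpr_ct (K3.f23925 IH) (Lpr_dt (K3.f78654 IH) (Lpr_ct (f110512 IH) (Lpe (f110510 IH) (Lpn (LP (LK LD1_c2 LD2_c21 LD3_c19))))))))))))
theorem f110785 : Led Lsl_gt (LP (LK LD1_c4 LD2_c40 LD3_c31)) = (LP (LK LD1_c2 LD2_c20 LD3_c47)) :=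
  Lgr Lrot5 (Lpr_ft (f110770 IH) (Lpr_at (f110510 IH) (Lpe (f102023 IH) (Lpn (LP (LK LD1_c2 LD2_c20 LD3_c47))))))
theorem f13719 : Led Lsl_at (LP (LK LD1_c1 LD2_c7 LD3_c55)) = (LP (LK LD1_c2 LD2_c20 LD3_c47)) :=
  Lre_a IH (LK LD1_c1 LD2_c7 LD3_c55) (LK LD1_c2 LD2_c20 LD3_c47) Lrfl Lrfl
theorem f110787 : Led Lsl_gf (LP (LK LD1_c4 LD2_c40 LD3_c31)) = (LP (LK LD1_c2 LD2_c21 LD3_c23)) :=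
  Lgr Lrot47 (Lpr_gt (f110785 IH) (Lpe (f13719 IH) (Lpe (K0.f13736 IH) (Lpn (LP (LK LD1_c2 LD2_c21 LD3_c23))))))
theorem f110789 : Led Lsl_ct (LP (LK LD1_c4 LD2_c40 LD3_c31)) = (LP (LK LD1_c4 LD2_c40 LD3_c27)) :=
  Lgr Lrot8 (Lpr_gt (f110785 IH) (Lpr_dt (K0.f13698 IH) (Lpr_gt (K3.f77326 IH) (Lpr_dt (K3.f99198 IH) (Lpr_cf (K3.f102044 IH) (Lpe (f61893 IH) (Lpr_gf (K3.f103169 IH) (Lpr_df (K3.f103312 IH) (Lpe (K3.f103293 IH) (Lpn (LP (LK LD1_c4 LD2_c40 LD3_c27))))))))))))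
theorem f78688 : Led Lsl_dt (LP (LK LD1_c2 LD2_c17 LD3_c18)) = (LP (LK LD1_c4 LD2_c40 LD3_c27)) :=
  Lre_d IH (LK LD1_c2 LD2_c17 LD3_c18) (LK LD1_c4 LD2_c40 LD3_c27) Lrfl Lrfl
theorem f110526 : Led Lsl_gt (LP (LK LD1_c1 LD2_c29 LD3_c1)) = (LP (LK LD1_c1 LD2_c5 LD3_c37)) :=
  Lgr Lrot94 (Lpe (K1.f58224 IH) (Lpe (f58259 IH) (Lpr_dt (f58261 IH) (Lpr_gt (f110520 IH) (Lpr_dt (K0.f13714 IH) (Lpe (K3.f13705 IH) (Lpe (K3.f13704 IH) (Lpr_gf (f103469 IH) (Lpe (f103329 IH) (Lpn (LP (LK LD1_c1 LD2_c5 LD3_c37))))))))))))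
theorem f110791 : Led Lsl_gt (LP (LK LD1_c2 LD2_c17 LD3_c20)) = (LP (LK LD1_c3 LD2_c5 LD3_c53)) :=
  Lgr Lrot9 (Lpe (f79461 IH) (Lpr_gt (f110785 IH) (Lpr_ct (K0.f13715 IH) (Lpe (f110787 IH) (Lpr_ct (f110789 IH) (Lpe (f78688 IH) (Lpe (K3.f78247 IH) (Lpe (f110526 IH) (Lpe (K1.f58224 IH) (Lpn (LP (LK LD1_c3 LD2_c5 LD3_c53))))))))))))
theorem f77805 : Led Lsl_dt (LP (LK LD1_c1 LD2_c29 LD3_c50)) = (LP (LK LD1_c0 LD2_c41 LD3_c31)) :=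
  Lre_d IH (LK LD1_c1 LD2_c29 LD3_c50) (LK LD1_c0 LD2_c41 LD3_c31) Lrfl Lrfl
theorem f110352 : Led Lsl_gt (LP (LK LD1_c2 LD2_c20 LD3_c20)) = (LP (LK LD1_c1 LD2_c29 LD3_c50)) :=
  Lgr Lrot180 (Lpr_ct (f110341 IH) (Lpr_gt (f13666 IH) (Lpr_dt (K1.f13655 IH) (Lpe (K3.f78502 IH) (Lpr_dt (K3.f13812 IH) (Lpr_ct (K3.f78007 IH) (Lpe (K3.f13670 IH) (Lpe (f77803 IH) (Lpe (f77805 IH) (Lpn (LP (LK LD1_c1 LD2_c29 LD3_c50))))))))))))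
theorem f103196 : Led Lsl_ft (LP (LK LD1_c2 LD2_c20 LD3_c20)) = (LP (LK LD1_c1 LD2_c7 LD3_c38)) :=
  Lre_f IH (LK LD1_c2 LD2_c20 LD3_c20) (LK LD1_c1 LD2_c7 LD3_c38) Lrfl Lrfl
theorem f103460 : Led Lsl_at (LP (LK LD1_c1 LD2_c7 LD3_c38)) = (LP (LK LD1_c2 LD2_c20 LD3_c28)) :=
  Lre_a IH (LK LD1_c1 LD2_c7 LD3_c38) (LK LD1_c2 LD2_c20 LD3_c28) Lrfl Lrfl
theorem f110381 : Led Lsl_gf (LP (LK LD1_c2 LD2_c20 LD3_c28)) = (LP (LK LD1_c1 LD2_c29 LD3_c50)) :=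
  Lgr Lrot76 (Lpe (f103460 IH) (Lpe (f103196 IH) (Lpr_gt (f110352 IH) (Lpn (LP (LK LD1_c1 LD2_c29 LD3_c50))))))
theorem f110802 : Led Lsl_cf (LP (LK LD1_c2 LD2_c17 LD3_c20)) = (LP (LK LD1_c2 LD2_c20 LD3_c28)) :=
  Lgr Lrot169 (Lpr_gt (f110791 IH) (Lpr_ct (K1.f58224 IH) (Lpe (K1.f58174 IH) (Lpe (K1.f58206 IH) (Lpr_gf (K2.f77796 IH) (Lpe (K2.f13672 IH) (Lpe (f77803 IH) (Lpe (f77805 IH) (Lpe (f110381 IH) (Lpn (LP (LK LD1_c2 LD2_c20 LD3_c28))))))))))))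
theorem f110387 : Led Lsl_bt (LP (LK LD1_c0 LD2_c41 LD3_c33)) = (LP (LK LD1_c1 LD2_c29 LD3_c50)) :=
  Lre_b IH (LK LD1_c0 LD2_c41 LD3_c33) (LK LD1_c1 LD2_c29 LD3_c50) Lrfl Lrfl
theorem f110388 : Led Lsl_ct (LP (LK LD1_c0 LD2_c41 LD3_c33)) = (LP (LK LD1_c1 LD2_c29 LD3_c51)) :=
  Lre_c IH (LK LD1_c0 LD2_c41 LD3_c33) (LK LD1_c1 LD2_c29 LD3_c51) Lrfl Lrfl
theorem f12752 : Led Lsl_bt (LP (LK LD1_c1 LD2_c26 LD3_c60)) = (LP (LK LD1_c0 LD2_c40 LD3_c18)) :=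
  Lre_b IH (LK LD1_c1 LD2_c26 LD3_c60) (LK LD1_c0 LD2_c40 LD3_c18) Lrfl Lrfl
theorem f27161 : Led Lsl_ct (LP (LK LD1_c1 LD2_c26 LD3_c60)) = (LP (LK LD1_c3 LD2_c1 LD3_c52)) :=
  Lre_c IH (LK LD1_c1 LD2_c26 LD3_c60) (LK LD1_c3 LD2_c1 LD3_c52) Lrfl Lrfl
theorem f110804 : Led Lsl_gf (LP (LK LD1_c1 LD2_c29 LD3_c51)) = (LP (LK LD1_c3 LD2_c1 LD3_c52)) :=
  Lgr Lrot126 (Lpe (f110388 IH) (Lpr_bt (f110387 IH) (Lpe (f110381 IH) (Lpe (f110802 IH) (Lpr_gt (f110791 IH) (Lpe (K1.f58214 IH) (Lpe (f58388 IH) (Lpr_gt (K3.f58455 IH) (Lpe (f12752 IH) (Lpr_ct (f27161 IH) (Lpn (LP (LK LD1_c3 LD2_c1 LD3_c52)))))))))))))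
theorem f115516 : Led Lsl_gt (LP (LK LD1_c1 LD2_c31 LD3_c38)) = (LP (LK LD1_c1 LD2_c26 LD3_c60)) :=
  Lgr Lrot9 (Lpe (f82441 IH) (Lpr_gt (f115514 IH) (Lpr_ct (K1.f24973 IH) (Lpe (K3.f66650 IH) (Lpr_ct (K3.f57580 IH) (Lpe (f57589 IH) (Lpe (f66654 IH) (Lpr_gf (f110804 IH) (Lpe (f27161 IH) (Lpn (LP (LK LD1_c1 LD2_c26 LD3_c60))))))))))))
theorem f82437 : Led Lsl_et (LP (LK LD1_c0 LD2_c42 LD3_c22)) = (LP (LK LD1_c1 LD2_c31 LD3_c39)) :=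
  Lre_e IH (LK LD1_c0 LD2_c42 LD3_c22) (LK LD1_c1 LD2_c31 LD3_c39) Lrfl Lrfl
theorem f65410 : Led Lsl_ft (LP (LK LD1_c0 LD2_c19 LD3_c37)) = (LP (LK LD1_c0 LD2_c8 LD3_c48)) :=
  Lre_f IH (LK LD1_c0 LD2_c19 LD3_c37) (LK LD1_c0 LD2_c8 LD3_c48) Lrfl Lrfl
theorem f65411 : Led Lsl_et (LP (LK LD1_c0 LD2_c43 LD3_c58)) = (LP (LK LD1_c0 LD2_c19 LD3_c37)) :=
  Lre_e IH (LK LD1_c0 LD2_c43 LD3_c58) (LK LD1_c0 LD2_c19 LD3_c37) Lrfl Lrfl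
theorem f65412 : Led Lsl_ft (LP (LK LD1_c0 LD2_c8 LD3_c48)) = (LP (LK LD1_c0 LD2_c19 LD3_c37)) :=
  Lre_f IH (LK LD1_c0 LD2_c8 LD3_c48) (LK LD1_c0 LD2_c19 LD3_c37) Lrfl Lrfl
theorem f65413 : Led Lsl_et (LP (LK LD1_c0 LD2_c19 LD3_c37)) = (LP (LK LD1_c0 LD2_c43 LD3_c58)) :=
  Lre_e IH (LK LD1_c0 LD2_c19 LD3_c37) (LK LD1_c0 LD2_c43 LD3_c58) Lrfl Lrfl
theorem f65414 : Led Lsl_ff (LP (LK LD1_c0 LD2_c43 LD3_c58)) = (LP (LK LD1_c0 LD2_c43 LD3_c58)) :=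
  Lgr Lrot72 (Lpr_et (f65411 IH) (Lpr_ft (f65410 IH) (Lpr_et (K3.f65397 IH) (Lpr_ft (f65412 IH) (Lpr_et (f65413 IH) (Lpn (LP (LK LD1_c0 LD2_c43 LD3_c58))))))))
theorem f65417 : Led Lsl_at (LP (LK LD1_c0 LD2_c43 LD3_c58)) = (LP (LK LD1_c0 LD2_c19 LD3_c41)) :=
  Lre_a IH (LK LD1_c0 LD2_c43 LD3_c58) (LK LD1_c0 LD2_c19 LD3_c41) Lrfl Lrfl
theorem f65418 : Led Lsl_at (LP (LK LD1_c0 LD2_c19 LD3_c41)) = (LP (LK LD1_c0 LD2_c43 LD3_c58)) :=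
  Lre_a IH (LK LD1_c0 LD2_c19 LD3_c41) (LK LD1_c0 LD2_c43 LD3_c58) Lrfl Lrfl
theorem f65419 : Led Lsl_ft (LP (LK LD1_c0 LD2_c19 LD3_c41)) = (LP (LK LD1_c0 LD2_c19 LD3_c41)) :=
  Lgr Lrot101 (Lpe (f65417 IH) (Lpr_ff (f65414 IH) (Lpe (f65418 IH) (Lpn (LP (LK LD1_c0 LD2_c19 LD3_c41))))))
theorem f65450 : Led Lsl_bt (LP (LK LD1_c0 LD2_c44 LD3_c0)) = (LP (LK LD1_c0 LD2_c19 LD3_c41)) :=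
  Lre_b IH (LK LD1_c0 LD2_c44 LD3_c0) (LK LD1_c0 LD2_c19 LD3_c41) Lrfl Lrfl
theorem f65451 : Led Lsl_bt (LP (LK LD1_c0 LD2_c19 LD3_c41)) = (LP (LK LD1_c0 LD2_c44 LD3_c0)) :=
  Lre_b IH (LK LD1_c0 LD2_c19 LD3_c41) (LK LD1_c0 LD2_c44 LD3_c0) Lrfl Lrfl
theorem f65452 : Led Lsl_ff (LP (LK LD1_c0 LD2_c44 LD3_c0)) = (LP (LK LD1_c0 LD2_c44 LD3_c0)) :=
  Lgr Lrot25 (Lpr_bt (f65450 IH) (Lpr_ft (f65419 IH) (Lpr_bt (f65451 IH) (Lpn (LP (LK LD1_c0 LD2_c44 LD3_c0))))))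
theorem f65457 : Led Lsl_et (LP (LK LD1_c0 LD2_c44 LD3_c0)) = (LP (LK LD1_c0 LD2_c19 LD3_c38)) :=
  Lre_e IH (LK LD1_c0 LD2_c44 LD3_c0) (LK LD1_c0 LD2_c19 LD3_c38) Lrfl Lrfl
theorem f65458 : Led Lsl_ft (LP (LK LD1_c0 LD2_c19 LD3_c38)) = (LP (LK LD1_c0 LD2_c43 LD3_c47)) :=
  Lre_f IH (LK LD1_c0 LD2_c19 LD3_c38) (LK LD1_c0 LD2_c43 LD3_c47) Lrfl Lrfl
theorem f65459 : Led Lsl_et (LP (LK LD1_c0 LD2_c19 LD3_c38)) = (LP (LK LD1_c0 LD2_c44 LD3_c0)) :=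
  Lre_e IH (LK LD1_c0 LD2_c19 LD3_c38) (LK LD1_c0 LD2_c44 LD3_c0) Lrfl Lrfl
theorem f65461 : Led Lsl_et (LP (LK LD1_c0 LD2_c43 LD3_c47)) = (LP (LK LD1_c0 LD2_c43 LD3_c47)) :=
  Lgr Lrot69 (Lpe (f65458 IH) (Lpe (f65457 IH) (Lpr_ff (f65452 IH) (Lpe (f65459 IH) (Lpe (K3.f65460 IH) (Lpn (LP (LK LD1_c0 LD2_c43 LD3_c47))))))))
theorem f115526 : Led Lsl_dt (LP (LK LD1_c0 LD2_c43 LD3_c47)) = (LP (LK LD1_c1 LD2_c26 LD3_c60)) :=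
  Lgr Lrot37 (Lpr_et (f65461 IH) (Lpr_gt (K3.f79298 IH) (Lpr_dt (K3.f26091 IH) (Lpe (K3.f94933 IH) (Lpe (K3.f61951 IH) (Lpr_et (K2.f77849 IH) (Lpe (K3.f109182 IH) (Lpe (f82437 IH) (Lpr_dt (f82441 IH) (Lpr_gt (f115516 IH) (Lpn (LP (LK LD1_c1 LD2_c26 LD3_c60)))))))))))))
theorem f79310 : Led Lsl_dt (LP (LK LD1_c0 LD2_c43 LD3_c61)) = (LP (LK LD1_c0 LD2_c19 LD3_c38)) :=
  Lre_d IH (LK LD1_c0 LD2_c43 LD3_c61) (LK LD1_c0 LD2_c19 LD3_c38) Lrfl Lrfl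
theorem f115534 : Led Lsl_ff (LP (LK LD1_c0 LD2_c43 LD3_c61)) = (LP (LK LD1_c1 LD2_c26 LD3_c60)) :=
  Lgr Lrot19 (Lpr_dt (f79310 IH) (Lpr_ft (f65458 IH) (Lpr_dt (f115526 IH) (Lpn (LP (LK LD1_c1 LD2_c26 LD3_c60))))))
theorem f115543 : Led Lsl_ft (LP (LK LD1_c0 LD2_c43 LD3_c61)) = (LP (LK LD1_c1 LD2_c26 LD3_c60)) :=
  Lgr Lrot48 (Lpr_ff (f115534 IH) (Lpn (LP (LK LD1_c1 LD2_c26 LD3_c60))))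
theorem f62861 : Led Lsl_ct (LP (LK LD1_c1 LD2_c34 LD3_c37)) = (LP (LK LD1_c0 LD2_c43 LD3_c61)) :=
  Lre_c IH (LK LD1_c1 LD2_c34 LD3_c37) (LK LD1_c0 LD2_c43 LD3_c61) Lrfl Lrfl
theorem f115550 : Led Lsl_ff (LP (LK LD1_c1 LD2_c34 LD3_c37)) = (LP (LK LD1_c3 LD2_c1 LD3_c52)) :=
  Lgr Lrot23 (Lpr_ct (f62861 IH) (Lpr_ft (f115543 IH) (Lpr_ct (f27161 IH) (Lpn (LP (LK LD1_c3 LD2_c1 LD3_c52))))))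
theorem f115556 : Led Lsl_bt (LP (LK LD1_c1 LD2_c34 LD3_c37)) = (LP (LK LD1_c3 LD2_c15 LD3_c46)) :=
  Lre_b IH (LK LD1_c1 LD2_c34 LD3_c37) (LK LD1_c3 LD2_c15 LD3_c46) Lrfl Lrfl
theorem f110806 : Led Lsl_bt (LP (LK LD1_c6 LD2_c10 LD3_c27)) = (LP (LK LD1_c3 LD2_c1 LD3_c52)) :=
  Lre_b IH (LK LD1_c6 LD2_c10 LD3_c27) (LK LD1_c3 LD2_c1 LD3_c52) Lrfl Lrfl
theorem f115557 : Led Lsl_ft (LP (LK LD1_c3 LD2_c15 LD3_c46)) = (LP (LK LD1_c6 LD2_c10 LD3_c27)) :=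
  Lgr Lrot75 (Lpe (f115556 IH) (Lpr_ff (f115550 IH) (Lpe (f110806 IH) (Lpn (LP (LK LD1_c6 LD2_c10 LD3_c27))))))
theorem f115565 : Led Lsl_ff (LP (LK LD1_c3 LD2_c15 LD3_c46)) = (LP (LK LD1_c6 LD2_c10 LD3_c27)) :=
  Lgr Lrot3 (Lpr_ft (f115557 IH) (Lpn (LP (LK LD1_c6 LD2_c10 LD3_c27))))
theorem f108687 : Led Lsl_ct (LP (LK LD1_c3 LD2_c15 LD3_c46)) = (LP (LK LD1_c1 LD2_c34 LD3_c41)) :=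
  Lre_c IH (LK LD1_c3 LD2_c15 LD3_c46) (LK LD1_c1 LD2_c34 LD3_c41) Lrfl Lrfl
theorem f96237 : Led Lsl_ct (LP (LK LD1_c3 LD2_c1 LD3_c54)) = (LP (LK LD1_c6 LD2_c10 LD3_c27)) :=
  Lre_c IH (LK LD1_c3 LD2_c1 LD3_c54) (LK LD1_c6 LD2_c10 LD3_c27) Lrfl Lrfl
theorem f115579 : Led Lsl_ft (LP (LK LD1_c1 LD2_c34 LD3_c41)) = (LP (LK LD1_c3 LD2_c1 LD3_c54)) :=
  Lgr Lrot4 (Lpe (f108687 IH) (Lpr_ff (f115565 IH) (Lpe (f96237 IH) (Lpn (LP (LK LD1_c3 LD2_c1 LD3_c54))))))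
theorem f115591 : Led Lsl_dt (LP (LK LD1_c3 LD2_c15 LD3_c53)) = (LP (LK LD1_c1 LD2_c34 LD3_c41)) :=
  Lre_d IH (LK LD1_c3 LD2_c15 LD3_c53) (LK LD1_c1 LD2_c34 LD3_c41) Lrfl Lrfl
theorem f115592 : Led Lsl_dt (LP (LK LD1_c3 LD2_c1 LD3_c54)) = (LP (LK LD1_c6 LD2_c10 LD3_c32)) :=
  Lre_d IH (LK LD1_c3 LD2_c1 LD3_c54) (LK LD1_c6 LD2_c10 LD3_c32) Lrfl Lrfl
theorem f115593 : Led Lsl_ff (LP (LK LD1_c3 LD2_c15 LD3_c53)) = (LP (LK LD1_c6 LD2_c10 LD3_c32)) :=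
  Lgr Lrot19 (Lpr_dt (f115591 IH) (Lpr_ft (f115579 IH) (Lpr_dt (f115592 IH) (Lpn (LP (LK LD1_c6 LD2_c10 LD3_c32))))))
theorem f115611 : Led Lsl_ft (LP (LK LD1_c3 LD2_c15 LD3_c53)) = (LP (LK LD1_c6 LD2_c10 LD3_c32)) :=
  Lgr Lrot48 (Lpr_ff (f115593 IH) (Lpn (LP (LK LD1_c6 LD2_c10 LD3_c32))))
theorem f115615 : Led Lsl_et (LP (LK LD1_c6 LD2_c35 LD3_c3)) = (LP (LK LD1_c3 LD2_c15 LD3_c53)) :=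
  Lre_e IH (LK LD1_c6 LD2_c35 LD3_c3) (LK LD1_c3 LD2_c15 LD3_c53) Lrfl Lrfl
theorem f115616 : Led Lsl_ft (LP (LK LD1_c12 LD2_c36 LD3_c15)) = (LP (LK LD1_c6 LD2_c35 LD3_c3)) :=
  Lre_f IH (LK LD1_c12 LD2_c36 LD3_c15) (LK LD1_c6 LD2_c35 LD3_c3) Lrfl Lrfl
theorem f115617 : Led Lsl_et (LP (LK LD1_c6 LD2_c10 LD3_c32)) = (LP (LK LD1_c12 LD2_c1 LD3_c38)) :=
  Lre_e IH (LK LD1_c6 LD2_c10 LD3_c32) (LK LD1_c12 LD2_c1 LD3_c38) Lrfl Lrfl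
theorem f115618 : Led Lsl_ft (LP (LK LD1_c12 LD2_c1 LD3_c38)) = (LP (LK LD1_c21 LD2_c7 LD3_c2)) :=
  Lre_f IH (LK LD1_c12 LD2_c1 LD3_c38) (LK LD1_c21 LD2_c7 LD3_c2) Lrfl Lrfl
theorem f115619 : Led Lsl_ef (LP (LK LD1_c12 LD2_c36 LD3_c15)) = (LP (LK LD1_c21 LD2_c7 LD3_c2)) :=
  Lgr Lrot21 (Lpr_ft (f115616 IH) (Lpr_et (f115615 IH) (Lpr_ft (f115611 IH) (Lpr_et (f115617 IH) (Lpr_ft (f115618 IH) (Lpn (LP (LK LD1_c21 LD2_c7 LD3_c2))))))))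
theorem f65326 : Led Lsl_bt (LP (LK LD1_c12 LD2_c36 LD3_c15)) = (LP (LK LD1_c6 LD2_c35 LD3_c10)) :=
  Lre_b IH (LK LD1_c12 LD2_c36 LD3_c15) (LK LD1_c6 LD2_c35 LD3_c10) Lrfl Lrfl
theorem f96278 : Led Lsl_bt (LP (LK LD1_c12 LD2_c1 LD3_c44)) = (LP (LK LD1_c21 LD2_c7 LD3_c2)) :=
  Lre_b IH (LK LD1_c12 LD2_c1 LD3_c44) (LK LD1_c21 LD2_c7 LD3_c2) Lrfl Lrfl
theorem f115621 : Led Lsl_et (LP (LK LD1_c6 LD2_c35 LD3_c10)) = (LP (LK LD1_c12 LD2_c1 LD3_c44)) :=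
  Lgr Lrot74 (Lpe (f65326 IH) (Lpr_ef (f115619 IH) (Lpe (f96278 IH) (Lpn (LP (LK LD1_c12 LD2_c1 LD3_c44))))))
theorem f115626 : Led Lsl_ef (LP (LK LD1_c6 LD2_c35 LD3_c10)) = (LP (LK LD1_c12 LD2_c1 LD3_c44)) :=
  Lgr Lrot88 (Lpr_et (f115621 IH) (Lpn (LP (LK LD1_c12 LD2_c1 LD3_c44))))
theorem f65184 : Led Lsl_et (LP (LK LD1_c1 LD2_c52 LD3_c29)) = (LP (LK LD1_c0 LD2_c52 LD3_c57)) :=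
  Lre_e IH (LK LD1_c1 LD2_c52 LD3_c29) (LK LD1_c0 LD2_c52 LD3_c57) Lrfl Lrfl
theorem f65272 : Led Lsl_et (LP (LK LD1_c1 LD2_c34 LD3_c42)) = (LP (LK LD1_c3 LD2_c15 LD3_c55)) :=
  Lre_e IH (LK LD1_c1 LD2_c34 LD3_c42) (LK LD1_c3 LD2_c15 LD3_c55) Lrfl Lrfl
theorem f65273 : Led Lsl_cf (LP (LK LD1_c1 LD2_c52 LD3_c29)) = (LP (LK LD1_c3 LD2_c15 LD3_c55)) :=
  Lgr Lrot39 (Lpr_et (f65184 IH) (Lpr_ct (K2.f65255 IH) (Lpr_et (f65272 IH) (Lpn (LP (LK LD1_c3 LD2_c15 LD3_c55))))))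
theorem f65291 : Led Lsl_ft (LP (LK LD1_c1 LD2_c52 LD3_c29)) = (LP (LK LD1_c3 LD2_c51 LD3_c20)) :=
  Lre_f IH (LK LD1_c1 LD2_c52 LD3_c29) (LK LD1_c3 LD2_c51 LD3_c20) Lrfl Lrfl
theorem f65292 : Led Lsl_ft (LP (LK LD1_c6 LD2_c35 LD3_c10)) = (LP (LK LD1_c3 LD2_c15 LD3_c55)) :=
  Lre_f IH (LK LD1_c6 LD2_c35 LD3_c10) (LK LD1_c3 LD2_c15 LD3_c55) Lrfl Lrfl
theorem f65293 : Led Lsl_ct (LP (LK LD1_c3 LD2_c51 LD3_c20)) = (LP (LK LD1_c6 LD2_c35 LD3_c10)) :=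
  Lgr Lrot40 (Lpe (f65291 IH) (Lpr_cf (f65273 IH) (Lpe (f65292 IH) (Lpn (LP (LK LD1_c6 LD2_c35 LD3_c10))))))
theorem f65316 : Led Lsl_cf (LP (LK LD1_c3 LD2_c51 LD3_c20)) = (LP (LK LD1_c6 LD2_c35 LD3_c10)) :=
  Lgr Lrot11 (Lpr_ct (f65293 IH) (Lpn (LP (LK LD1_c6 LD2_c35 LD3_c10))))
theorem f63160 : Led Lsl_et (LP (LK LD1_c1 LD2_c41 LD3_c38)) = (LP (LK LD1_c3 LD2_c29 LD3_c55)) :=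
  Lre_e IH (LK LD1_c1 LD2_c41 LD3_c38) (LK LD1_c3 LD2_c29 LD3_c55) Lrfl Lrfl
theorem f96243 : Led Lsl_et (LP (LK LD1_c6 LD2_c10 LD3_c34)) = (LP (LK LD1_c3 LD2_c1 LD3_c55)) :=
  Lre_e IH (LK LD1_c6 LD2_c10 LD3_c34) (LK LD1_c3 LD2_c1 LD3_c55) Lrfl Lrfl
theorem f96244 : Led Lsl_ct (LP (LK LD1_c3 LD2_c29 LD3_c55)) = (LP (LK LD1_c6 LD2_c10 LD3_c34)) :=
  Lgr Lrot15 (Lpe (f63160 IH) (Lpr_cf (K3.f96232 IH) (Lpe (f96243 IH) (Lpn (LP (LK LD1_c6 LD2_c10 LD3_c34))))))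
theorem f96254 : Led Lsl_ft (LP (LK LD1_c7 LD2_c1 LD3_c30)) = (LP (LK LD1_c3 LD2_c29 LD3_c55)) :=
  Lre_f IH (LK LD1_c7 LD2_c1 LD3_c30) (LK LD1_c3 LD2_c29 LD3_c55) Lrfl Lrfl
theorem f96255 : Led Lsl_ft (LP (LK LD1_c6 LD2_c10 LD3_c34)) = (LP (LK LD1_c12 LD2_c1 LD3_c44)) :=
  Lre_f IH (LK LD1_c6 LD2_c10 LD3_c34) (LK LD1_c12 LD2_c1 LD3_c44) Lrfl Lrfl
theorem f96256 : Led Lsl_cf (LP (LK LD1_c7 LD2_c1 LD3_c30)) = (LP (LK LD1_c12 LD2_c1 LD3_c44)) :=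
  Lgr Lrot108 (Lpr_ft (f96254 IH) (Lpr_ct (f96244 IH) (Lpr_ft (f96255 IH) (Lpn (LP (LK LD1_c12 LD2_c1 LD3_c44))))))
theorem f96272 : Led Lsl_ct (LP (LK LD1_c7 LD2_c1 LD3_c30)) = (LP (LK LD1_c12 LD2_c1 LD3_c44)) :=
  Lgr Lrot59 (Lpr_cf (f96256 IH) (Lpn (LP (LK LD1_c12 LD2_c1 LD3_c44))))
theorem f115628 : Led Lsl_et (LP (LK LD1_c3 LD2_c51 LD3_c20)) = (LP (LK LD1_c7 LD2_c1 LD3_c30)) :=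
  Lgr Lrot158 (Lpr_cf (f65316 IH) (Lpr_ef (f115626 IH) (Lpe (f96272 IH) (Lpn (LP (LK LD1_c7 LD2_c1 LD3_c30))))))
theorem f65197 : Led Lsl_et (LP (LK LD1_c0 LD2_c52 LD3_c57)) = (LP (LK LD1_c1 LD2_c52 LD3_c29)) :=
  Lre_e IH (LK LD1_c0 LD2_c52 LD3_c57) (LK LD1_c1 LD2_c52 LD3_c29) Lrfl Lrfl
theorem f65018 : Led Lsl_et (LP (LK LD1_c3 LD2_c29 LD3_c55)) = (LP (LK LD1_c1 LD2_c41 LD3_c38)) :=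
  Lre_e IH (LK LD1_c3 LD2_c29 LD3_c55) (LK LD1_c1 LD2_c41 LD3_c38) Lrfl Lrfl
theorem f115634 : Led Lsl_ff (LP (LK LD1_c0 LD2_c52 LD3_c57)) = (LP (LK LD1_c1 LD2_c41 LD3_c38)) :=
  Lgr Lrot72 (Lpr_et (f65197 IH) (Lpr_ft (f65291 IH) (Lpr_et (f115628 IH) (Lpr_ft (f96254 IH) (Lpr_et (f65018 IH) (Lpn (LP (LK LD1_c1 LD2_c41 LD3_c38))))))))
theorem f115640 : Led Lsl_at (LP (LK LD1_c0 LD2_c52 LD3_c57)) = (LP (LK LD1_c1 LD2_c41 LD3_c41)) :=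
  Lgr Lrot26 (Lpr_ff (f115634 IH) (Lpe (K1.f65003 IH) (Lpe (K3.f63799 IH) (Lpn (LP (LK LD1_c1 LD2_c41 LD3_c41))))))
theorem f63142 : Led Lsl_et (LP (LK LD1_c1 LD2_c41 LD3_c41)) = (LP (LK LD1_c3 LD2_c30 LD3_c0)) :=
  Lre_e IH (LK LD1_c1 LD2_c41 LD3_c41) (LK LD1_c3 LD2_c30 LD3_c0) Lrfl Lrfl
theorem f115649 : Led Lsl_af (LP (LK LD1_c1 LD2_c52 LD3_c29)) = (LP (LK LD1_c3 LD2_c30 LD3_c0)) :=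
  Lgr Lrot50 (Lpr_et (f65184 IH) (Lpr_at (f115640 IH) (Lpr_et (f63142 IH) (Lpn (LP (LK LD1_c3 LD2_c30 LD3_c0))))))
theorem f65287 : Led Lsl_dt (LP (LK LD1_c1 LD2_c52 LD3_c29)) = (LP (LK LD1_c3 LD2_c51 LD3_c19)) :=
  Lre_d IH (LK LD1_c1 LD2_c52 LD3_c29) (LK LD1_c3 LD2_c51 LD3_c19) Lrfl Lrfl
theorem f63907 : Led Lsl_dt (LP (LK LD1_c7 LD2_c1 LD3_c43)) = (LP (LK LD1_c3 LD2_c30 LD3_c0)) :=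
  Lre_d IH (LK LD1_c7 LD2_c1 LD3_c43) (LK LD1_c3 LD2_c30 LD3_c0) Lrfl Lrfl
theorem f115656 : Led Lsl_at (LP (LK LD1_c3 LD2_c51 LD3_c19)) = (LP (LK LD1_c7 LD2_c1 LD3_c43)) :=
  Lgr Lrot51 (Lpe (f65287 IH) (Lpr_af (f115649 IH) (Lpe (f63907 IH) (Lpn (LP (LK LD1_c7 LD2_c1 LD3_c43))))))
theorem f65185 : Led Lsl_dt (LP (LK LD1_c3 LD2_c51 LD3_c19)) = (LP (LK LD1_c1 LD2_c52 LD3_c29)) :=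
  Lre_d IH (LK LD1_c3 LD2_c51 LD3_c19) (LK LD1_c1 LD2_c52 LD3_c29) Lrfl Lrfl
theorem f65186 : Led Lsl_et (LP (LK LD1_c1 LD2_c34 LD3_c25)) = (LP (LK LD1_c3 LD2_c15 LD3_c24)) :=
  Lre_e IH (LK LD1_c1 LD2_c34 LD3_c25) (LK LD1_c3 LD2_c15 LD3_c24) Lrfl Lrfl
theorem f62837 : Led Lsl_dt (LP (LK LD1_c3 LD2_c15 LD3_c24)) = (LP (LK LD1_c6 LD2_c34 LD3_c9)) :=
  Lre_d IH (LK LD1_c3 LD2_c15 LD3_c24) (LK LD1_c6 LD2_c34 LD3_c9) Lrfl Lrfl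
theorem f65187 : Led Lsl_ef (LP (LK LD1_c3 LD2_c51 LD3_c19)) = (LP (LK LD1_c6 LD2_c34 LD3_c9)) :=
  Lgr Lrot73 (Lpr_dt (f65185 IH) (Lpr_et (f65184 IH) (Lpr_dt (K1.f65175 IH) (Lpr_et (f65186 IH) (Lpr_dt (f62837 IH) (Lpn (LP (LK LD1_c6 LD2_c34 LD3_c9))))))))
theorem f115751 : Led Lsl_et (LP (LK LD1_c7 LD2_c1 LD3_c43)) = (LP (LK LD1_c3 LD2_c30 LD3_c1)) :=
  Lre_e IH (LK LD1_c7 LD2_c1 LD3_c43) (LK LD1_c3 LD2_c30 LD3_c1) Lrfl Lrfl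
theorem f115752 : Led Lsl_af (LP (LK LD1_c6 LD2_c34 LD3_c9)) = (LP (LK LD1_c3 LD2_c30 LD3_c1)) :=
  Lgr Lrot50 (Lpe (f65187 IH) (Lpr_at (f115656 IH) (Lpr_et (f115751 IH) (Lpn (LP (LK LD1_c3 LD2_c30 LD3_c1))))))
theorem f65510 : Led Lsl_dt (LP (LK LD1_c6 LD2_c34 LD3_c9)) = (LP (LK LD1_c3 LD2_c15 LD3_c24)) :=
  Lre_d IH (LK LD1_c6 LD2_c34 LD3_c9) (LK LD1_c3 LD2_c15 LD3_c24) Lrfl Lrfl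
theorem f63887 : Led Lsl_dt (LP (LK LD1_c1 LD2_c41 LD3_c42)) = (LP (LK LD1_c3 LD2_c30 LD3_c1)) :=
  Lre_d IH (LK LD1_c1 LD2_c41 LD3_c42) (LK LD1_c3 LD2_c30 LD3_c1) Lrfl Lrfl
theorem f115767 : Led Lsl_at (LP (LK LD1_c3 LD2_c15 LD3_c24)) = (LP (LK LD1_c1 LD2_c41 LD3_c42)) :=
  Lgr Lrot51 (Lpe (f65510 IH) (Lpr_af (f115752 IH) (Lpe (f63887 IH) (Lpn (LP (LK LD1_c1 LD2_c41 LD3_c42))))))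
theorem f115773 : Led Lsl_bt (LP (LK LD1_c6 LD2_c34 LD3_c8)) = (LP (LK LD1_c3 LD2_c15 LD3_c24)) :=
  Lre_b IH (LK LD1_c6 LD2_c34 LD3_c8) (LK LD1_c3 LD2_c15 LD3_c24) Lrfl Lrfl
theorem f115774 : Led Lsl_at (LP (LK LD1_c12 LD2_c34 LD3_c53)) = (LP (LK LD1_c6 LD2_c34 LD3_c8)) :=
  Lre_a IH (LK LD1_c12 LD2_c34 LD3_c53) (LK LD1_c6 LD2_c34 LD3_c8) Lrfl Lrfl
theorem f115775 : Led Lsl_bt (LP (LK LD1_c1 LD2_c41 LD3_c42)) = (LP (LK LD1_c3 LD2_c29 LD3_c61)) :=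
  Lre_b IH (LK LD1_c1 LD2_c41 LD3_c42) (LK LD1_c3 LD2_c29 LD3_c61) Lrfl Lrfl
theorem f115776 : Led Lsl_at (LP (LK LD1_c3 LD2_c29 LD3_c61)) = (LP (LK LD1_c7 LD2_c1 LD3_c35)) :=
  Lre_a IH (LK LD1_c3 LD2_c29 LD3_c61) (LK LD1_c7 LD2_c1 LD3_c35) Lrfl Lrfl
theorem f115777 : Led Lsl_bf (LP (LK LD1_c12 LD2_c34 LD3_c53)) = (LP (LK LD1_c7 LD2_c1 LD3_c35)) :=
  Lgr Lrot81 (Lpr_at (f115774 IH) (Lpr_bt (f115773 IH) (Lpr_at (f115767 IH) (Lpr_bt (f115775 IH) (Lpr_at (f115776 IH) (Lpn (LP (LK LD1_c7 LD2_c1 LD3_c35))))))))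
theorem f115784 : Led Lsl_et (LP (LK LD1_c12 LD2_c34 LD3_c53)) = (LP (LK LD1_c6 LD2_c34 LD3_c7)) :=
  Lre_e IH (LK LD1_c12 LD2_c34 LD3_c53) (LK LD1_c6 LD2_c34 LD3_c7) Lrfl Lrfl
theorem f115785 : Led Lsl_et (LP (LK LD1_c3 LD2_c29 LD3_c59)) = (LP (LK LD1_c7 LD2_c1 LD3_c35)) :=
  Lre_e IH (LK LD1_c3 LD2_c29 LD3_c59) (LK LD1_c7 LD2_c1 LD3_c35) Lrfl Lrfl
theorem f115786 : Led Lsl_bt (LP (LK LD1_c6 LD2_c34 LD3_c7)) = (LP (LK LD1_c3 LD2_c29 LD3_c59)) :=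
  Lgr Lrot119 (Lpe (f115784 IH) (Lpr_bf (f115777 IH) (Lpe (f115785 IH) (Lpn (LP (LK LD1_c3 LD2_c29 LD3_c59))))))
theorem f115791 : Led Lsl_bf (LP (LK LD1_c6 LD2_c34 LD3_c7)) = (LP (LK LD1_c3 LD2_c29 LD3_c59)) :=
  Lgr Lrot24 (Lpr_bt (f115786 IH) (Lpn (LP (LK LD1_c3 LD2_c29 LD3_c59))))
theorem f115793 : Led Lsl_at (LP (LK LD1_c6 LD2_c34 LD3_c7)) = (LP (LK LD1_c3 LD2_c15 LD3_c23)) :=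
  Lre_a IH (LK LD1_c6 LD2_c34 LD3_c7) (LK LD1_c3 LD2_c15 LD3_c23) Lrfl Lrfl
theorem f62835 : Led Lsl_bt (LP (LK LD1_c3 LD2_c15 LD3_c23)) = (LP (LK LD1_c1 LD2_c34 LD3_c25)) :=
  Lre_b IH (LK LD1_c3 LD2_c15 LD3_c23) (LK LD1_c1 LD2_c34 LD3_c25) Lrfl Lrfl
theorem f115794 : Led Lsl_at (LP (LK LD1_c1 LD2_c41 LD3_c40)) = (LP (LK LD1_c3 LD2_c29 LD3_c59)) :=
  Lre_a IH (LK LD1_c1 LD2_c41 LD3_c40) (LK LD1_c3 LD2_c29 LD3_c59) Lrfl Lrfl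
theorem f94629 : Led Lsl_bt (LP (LK LD1_c0 LD2_c47 LD3_c23)) = (LP (LK LD1_c1 LD2_c41 LD3_c40)) :=
  Lre_b IH (LK LD1_c0 LD2_c47 LD3_c23) (LK LD1_c1 LD2_c41 LD3_c40) Lrfl Lrfl
theorem f115795 : Led Lsl_at (LP (LK LD1_c1 LD2_c34 LD3_c25)) = (LP (LK LD1_c0 LD2_c47 LD3_c23)) :=
  Lgr Lrot67 (Lpe (f62835 IH) (Lpe (f115793 IH) (Lpr_bf (f115791 IH) (Lpe (f115794 IH) (Lpe (f94629 IH) (Lpn (LP (LK LD1_c0 LD2_c47 LD3_c23))))))))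
theorem f18887 : Led Lsl_gt (LP (LK LD1_c1 LD2_c40 LD3_c45)) = (LP (LK LD1_c0 LD2_c47 LD3_c23)) :=
  Lre_g IH (LK LD1_c1 LD2_c40 LD3_c45) (LK LD1_c0 LD2_c47 LD3_c23) Lrfl Lrfl
theorem f115801 : Led Lsl_ff (LP (LK LD1_c1 LD2_c34 LD3_c25)) = (LP (LK LD1_c0 LD2_c47 LD3_c22)) :=
  Lgr Lrot52 (Lpr_at (f115795 IH) (Lpe (f18887 IH) (Lpe (K1.f18885 IH) (Lpn (LP (LK LD1_c0 LD2_c47 LD3_c22))))))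
theorem f19045 : Led Lsl_bt (LP (LK LD1_c1 LD2_c41 LD3_c37)) = (LP (LK LD1_c0 LD2_c47 LD3_c22)) :=
  Lre_b IH (LK LD1_c1 LD2_c41 LD3_c37) (LK LD1_c0 LD2_c47 LD3_c22) Lrfl Lrfl
theorem f115805 : Led Lsl_ft (LP (LK LD1_c3 LD2_c15 LD3_c23)) = (LP (LK LD1_c1 LD2_c41 LD3_c37)) :=
  Lgr Lrot75 (Lpe (f65178 IH) (Lpr_ff (f115801 IH) (Lpe (f19045 IH) (Lpn (LP (LK LD1_c1 LD2_c41 LD3_c37))))))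
theorem f115812 : Led Lsl_ff (LP (LK LD1_c3 LD2_c15 LD3_c23)) = (LP (LK LD1_c1 LD2_c41 LD3_c37)) :=
  Lgr Lrot3 (Lpr_ft (f115805 IH) (Lpn (LP (LK LD1_c1 LD2_c41 LD3_c37))))
theorem f115789 : Led Lsl_at (LP (LK LD1_c3 LD2_c15 LD3_c23)) = (LP (LK LD1_c6 LD2_c34 LD3_c7)) :=
  Lre_a IH (LK LD1_c3 LD2_c15 LD3_c23) (LK LD1_c6 LD2_c34 LD3_c7) Lrfl Lrfl
theorem f115827 : Led Lsl_gf (LP (LK LD1_c6 LD2_c34 LD3_c7)) = (LP (LK LD1_c3 LD2_c29 LD3_c49)) :=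
  Lgr Lrot76 (Lpe (f115789 IH) (Lpr_ff (f115812 IH) (Lpr_gt (f103617 IH) (Lpn (LP (LK LD1_c3 LD2_c29 LD3_c49))))))
theorem f115829 : Led Lsl_gt (LP (LK LD1_c6 LD2_c34 LD3_c7)) = (LP (LK LD1_c3 LD2_c29 LD3_c50)) :=
  Lgr Lrot46 (Lpr_gf (f115827 IH) (Lpe (f111145 IH) (Lpr_at (f111081 IH) (Lpn (LP (LK LD1_c3 LD2_c29 LD3_c50))))))
theorem f103665 : Led Lsl_ft (LP (LK LD1_c3 LD2_c26 LD3_c3)) = (LP (LK LD1_c3 LD2_c45 LD3_c45)) :=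
  Lgr Lrot48 (Lpr_ff (f103649 IH) (Lpn (LP (LK LD1_c3 LD2_c45 LD3_c45))))
theorem f102450 : Led Lsl_ct (LP (LK LD1_c6 LD2_c53 LD3_c46)) = (LP (LK LD1_c3 LD2_c26 LD3_c3)) :=
  Lre_c IH (LK LD1_c6 LD2_c53 LD3_c46) (LK LD1_c3 LD2_c26 LD3_c3) Lrfl Lrfl
theorem f103669 : Led Lsl_cf (LP (LK LD1_c7 LD2_c27 LD3_c37)) = (LP (LK LD1_c3 LD2_c45 LD3_c45)) :=
  Lgr Lrot108 (Lpe (f102866 IH) (Lpr_ct (f102450 IH) (Lpr_ft (f103665 IH) (Lpn (LP (LK LD1_c3 LD2_c45 LD3_c45))))))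
theorem f102892 : Led Lsl_et (LP (LK LD1_c7 LD2_c27 LD3_c37)) = (LP (LK LD1_c14 LD2_c5 LD3_c3)) :=
  Lre_e IH (LK LD1_c7 LD2_c27 LD3_c37) (LK LD1_c14 LD2_c5 LD3_c3) Lrfl Lrfl
theorem f103664 : Led Lsl_et (LP (LK LD1_c7 LD2_c32 LD3_c11)) = (LP (LK LD1_c3 LD2_c45 LD3_c45)) :=
  Lre_e IH (LK LD1_c7 LD2_c32 LD3_c11) (LK LD1_c3 LD2_c45 LD3_c45) Lrfl Lrfl
theorem f103672 : Led Lsl_ct (LP (LK LD1_c14 LD2_c5 LD3_c3)) = (LP (LK LD1_c7 LD2_c32 LD3_c11)) :=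
  Lgr Lrot15 (Lpe (f102892 IH) (Lpr_cf (f103669 IH) (Lpe (f103664 IH) (Lpn (LP (LK LD1_c7 LD2_c32 LD3_c11))))))
theorem f103676 : Led Lsl_cf (LP (LK LD1_c14 LD2_c5 LD3_c3)) = (LP (LK LD1_c7 LD2_c32 LD3_c11)) :=
  Lgr Lrot11 (Lpr_ct (f103672 IH) (Lpn (LP (LK LD1_c7 LD2_c32 LD3_c11))))
theorem f12803 : Led Lsl_at (LP (LK LD1_c14 LD2_c5 LD3_c3)) = (LP (LK LD1_c7 LD2_c27 LD3_c38)) :=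
  Lre_a IH (LK LD1_c14 LD2_c5 LD3_c3) (LK LD1_c7 LD2_c27 LD3_c38) Lrfl Lrfl
theorem f103684 : Led Lsl_at (LP (LK LD1_c6 LD2_c51 LD3_c47)) = (LP (LK LD1_c7 LD2_c32 LD3_c11)) :=
  Lgr Lrot107 (Lpe (f12797 IH) (Lpe (f12803 IH) (Lpr_cf (f103676 IH) (Lpn (LP (LK LD1_c7 LD2_c32 LD3_c11))))))
theorem f12815 : Led Lsl_dt (LP (LK LD1_c13 LD2_c3 LD3_c6)) = (LP (LK LD1_c6 LD2_c51 LD3_c47)) :=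
  Lre_d IH (LK LD1_c13 LD2_c3 LD3_c6) (LK LD1_c6 LD2_c51 LD3_c47) Lrfl Lrfl
theorem f103679 : Led Lsl_dt (LP (LK LD1_c7 LD2_c32 LD3_c11)) = (LP (LK LD1_c14 LD2_c12 LD3_c46)) :=
  Lre_d IH (LK LD1_c7 LD2_c32 LD3_c11) (LK LD1_c14 LD2_c12 LD3_c46) Lrfl Lrfl
theorem f103689 : Led Lsl_af (LP (LK LD1_c13 LD2_c3 LD3_c6)) = (LP (LK LD1_c14 LD2_c12 LD3_c46)) :=
  Lgr Lrot117 (Lpr_dt (f12815 IH) (Lpr_at (f103684 IH) (Lpr_dt (f103679 IH) (Lpn (LP (LK LD1_c14 LD2_c12 LD3_c46))))))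
theorem f102686 : Led Lsl_bt (LP (LK LD1_c13 LD2_c3 LD3_c6)) = (LP (LK LD1_c6 LD2_c51 LD3_c50)) :=
  Lre_b IH (LK LD1_c13 LD2_c3 LD3_c6) (LK LD1_c6 LD2_c51 LD3_c50) Lrfl Lrfl
theorem f94987 : Led Lsl_df (LP (LK LD1_c1 LD2_c39 LD3_c55)) = (LP (LK LD1_c3 LD2_c25 LD3_c45)) :=
  Lgr Lrot155 (Lpr_gt (K3.f14604 IH) (Lpr_ct (K2.f12057 IH) (Lpr_gt (K2.f14600 IH) (Lpr_ct (K0.f14581 IH) (Lpr_dt (K0.f14579 IH) (Lpe (K0.f14531 IH) (Lpe (K2.f14580 IH) (Lpr_cf (K3.f94921 IH) (Lpe (K3.f94626 IH) (Lpn (LP (LK LD1_c3 LD2_c25 LD3_c45))))))))))))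
theorem f94991 : Led Lsl_gt (LP (LK LD1_c1 LD2_c39 LD3_c44)) = (LP (LK LD1_c3 LD2_c25 LD3_c45)) :=
  Lgr Lrot94 (Lpe (K2.f94693 IH) (Lpr_gt (K2.f15007 IH) (Lpr_dt (K0.f14979 IH) (Lpr_gt (K2.f15009 IH) (Lpr_dt (K2.f77310 IH) (Lpe (K2.f91106 IH) (Lpe (K2.f90985 IH) (Lpe (K3.f14604 IH) (Lpr_df (f94987 IH) (Lpn (LP (LK LD1_c3 LD2_c25 LD3_c45))))))))))))
theorem f102517 : Led Lsl_af (LP (LK LD1_c1 LD2_c39 LD3_c29)) = (LP (LK LD1_c3 LD2_c24 LD3_c39)) :=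
  Lgr Lrot31 (Lpe (K3.f94626 IH) (Lpe (f94991 IH) (Lpr_ft (f102494 IH) (Lpn (LP (LK LD1_c3 LD2_c24 LD3_c39))))))
theorem f95223 : Led Lsl_et (LP (LK LD1_c1 LD2_c39 LD3_c29)) = (LP (LK LD1_c3 LD2_c25 LD3_c46)) :=
  Lre_e IH (LK LD1_c1 LD2_c39 LD3_c29) (LK LD1_c3 LD2_c25 LD3_c46) Lrfl Lrfl
theorem f102490 : Led Lsl_et (LP (LK LD1_c6 LD2_c51 LD3_c48)) = (LP (LK LD1_c3 LD2_c24 LD3_c39)) :=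
  Lre_e IH (LK LD1_c6 LD2_c51 LD3_c48) (LK LD1_c3 LD2_c24 LD3_c39) Lrfl Lrfl
theorem f102521 : Led Lsl_at (LP (LK LD1_c3 LD2_c25 LD3_c46)) = (LP (LK LD1_c6 LD2_c51 LD3_c48)) :=
  Lgr Lrot80 (Lpe (f95223 IH) (Lpr_af (f102517 IH) (Lpe (f102490 IH) (Lpn (LP (LK LD1_c6 LD2_c51 LD3_c48))))))
theorem f95218 : Led Lsl_ft (LP (LK LD1_c6 LD2_c53 LD3_c27)) = (LP (LK LD1_c3 LD2_c25 LD3_c46)) :=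
  Lre_f IH (LK LD1_c6 LD2_c53 LD3_c27) (LK LD1_c3 LD2_c25 LD3_c46) Lrfl Lrfl
theorem f102514 : Led Lsl_ft (LP (LK LD1_c6 LD2_c51 LD3_c48)) = (LP (LK LD1_c13 LD2_c3 LD3_c10)) :=
  Lre_f IH (LK LD1_c6 LD2_c51 LD3_c48) (LK LD1_c13 LD2_c3 LD3_c10) Lrfl Lrfl
theorem f102639 : Led Lsl_af (LP (LK LD1_c6 LD2_c53 LD3_c27)) = (LP (LK LD1_c13 LD2_c3 LD3_c10)) :=
  Lgr Lrot45 (Lpr_ft (f95218 IH) (Lpr_at (f102521 IH) (Lpr_ft (f102514 IH) (Lpn (LP (LK LD1_c13 LD2_c3 LD3_c10))))))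
theorem f95216 : Led Lsl_dt (LP (LK LD1_c6 LD2_c53 LD3_c27)) = (LP (LK LD1_c13 LD2_c5 LD3_c52)) :=
  Lre_d IH (LK LD1_c6 LD2_c53 LD3_c27) (LK LD1_c13 LD2_c5 LD3_c52) Lrfl Lrfl
theorem f102646 : Led Lsl_dt (LP (LK LD1_c22 LD2_c12 LD3_c51)) = (LP (LK LD1_c13 LD2_c3 LD3_c10)) :=
  Lre_d IH (LK LD1_c22 LD2_c12 LD3_c51) (LK LD1_c13 LD2_c3 LD3_c10) Lrfl Lrfl
theorem f102647 : Led Lsl_at (LP (LK LD1_c13 LD2_c5 LD3_c52)) = (LP (LK LD1_c22 LD2_c12 LD3_c51)) :=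
  Lgr Lrot51 (Lpe (f95216 IH) (Lpr_af (f102639 IH) (Lpe (f102646 IH) (Lpn (LP (LK LD1_c22 LD2_c12 LD3_c51))))))
theorem f102651 : Led Lsl_af (LP (LK LD1_c13 LD2_c5 LD3_c52)) = (LP (LK LD1_c22 LD2_c12 LD3_c51)) :=
  Lgr Lrot0 (Lpr_at (f102647 IH) (Lpn (LP (LK LD1_c22 LD2_c12 LD3_c51))))
theorem f95215 : Led Lsl_ft (LP (LK LD1_c13 LD2_c5 LD3_c52)) = (LP (LK LD1_c6 LD2_c53 LD3_c26)) :=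
  Lre_f IH (LK LD1_c13 LD2_c5 LD3_c52) (LK LD1_c6 LD2_c53 LD3_c26) Lrfl Lrfl
theorem f102666 : Led Lsl_ft (LP (LK LD1_c13 LD2_c3 LD3_c9)) = (LP (LK LD1_c22 LD2_c12 LD3_c51)) :=
  Lre_f IH (LK LD1_c13 LD2_c3 LD3_c9) (LK LD1_c22 LD2_c12 LD3_c51) Lrfl Lrfl
theorem f102667 : Led Lsl_at (LP (LK LD1_c6 LD2_c53 LD3_c26)) = (LP (LK LD1_c13 LD2_c3 LD3_c9)) :=
  Lgr Lrot66 (Lpe (f95215 IH) (Lpr_af (f102651 IH) (Lpe (f102666 IH) (Lpn (LP (LK LD1_c13 LD2_c3 LD3_c9))))))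
theorem f102676 : Led Lsl_et (LP (LK LD1_c3 LD2_c25 LD3_c49)) = (LP (LK LD1_c6 LD2_c53 LD3_c26)) :=
  Lre_e IH (LK LD1_c3 LD2_c25 LD3_c49) (LK LD1_c6 LD2_c53 LD3_c26) Lrfl Lrfl
theorem f91178 : Led Lsl_et (LP (LK LD1_c13 LD2_c3 LD3_c9)) = (LP (LK LD1_c6 LD2_c51 LD3_c50)) :=
  Lre_e IH (LK LD1_c13 LD2_c3 LD3_c9) (LK LD1_c6 LD2_c51 LD3_c50) Lrfl Lrfl
theorem f102677 : Led Lsl_af (LP (LK LD1_c3 LD2_c25 LD3_c49)) = (LP (LK LD1_c6 LD2_c51 LD3_c50)) :=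
  Lgr Lrot50 (Lpr_et (f102676 IH) (Lpr_at (f102667 IH) (Lpr_et (f91178 IH) (Lpn (LP (LK LD1_c6 LD2_c51 LD3_c50))))))
theorem f102684 : Led Lsl_bt (LP (LK LD1_c3 LD2_c25 LD3_c49)) = (LP (LK LD1_c6 LD2_c53 LD3_c20)) :=
  Lre_b IH (LK LD1_c3 LD2_c25 LD3_c49) (LK LD1_c6 LD2_c53 LD3_c20) Lrfl Lrfl
theorem f102685 : Led Lsl_at (LP (LK LD1_c6 LD2_c53 LD3_c20)) = (LP (LK LD1_c13 LD2_c5 LD3_c31)) :=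
  Lre_a IH (LK LD1_c6 LD2_c53 LD3_c20) (LK LD1_c13 LD2_c5 LD3_c31) Lrfl Lrfl
theorem f103693 : Led Lsl_bt (LP (LK LD1_c13 LD2_c5 LD3_c31)) = (LP (LK LD1_c14 LD2_c12 LD3_c46)) :=
  Lgr Lrot62 (Lpe (f102685 IH) (Lpe (f102684 IH) (Lpr_af (f102677 IH) (Lpe (f102686 IH) (Lpr_af (f103689 IH) (Lpn (LP (LK LD1_c14 LD2_c12 LD3_c46))))))))
theorem f103715 : Led Lsl_bf (LP (LK LD1_c13 LD2_c5 LD3_c31)) = (LP (LK LD1_c14 LD2_c12 LD3_c46)) :=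
  Lgr Lrot24 (Lpr_bt (f103693 IH) (Lpn (LP (LK LD1_c14 LD2_c12 LD3_c46))))
theorem f103729 : Led Lsl_dt (LP (LK LD1_c13 LD2_c5 LD3_c31)) = (LP (LK LD1_c6 LD2_c53 LD3_c16)) :=
  Lre_d IH (LK LD1_c13 LD2_c5 LD3_c31) (LK LD1_c6 LD2_c53 LD3_c16) Lrfl Lrfl
theorem f103730 : Led Lsl_bt (LP (LK LD1_c6 LD2_c53 LD3_c16)) = (LP (LK LD1_c7 LD2_c32 LD3_c11)) :=
  Lgr Lrot95 (Lpe (f103729 IH) (Lpr_bf (f103715 IH) (Lpe (f103679 IH) (Lpn (LP (LK LD1_c7 LD2_c32 LD3_c11))))))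
theorem f103736 : Led Lsl_et (LP (LK LD1_c3 LD2_c25 LD3_c41)) = (LP (LK LD1_c6 LD2_c53 LD3_c16)) :=
  Lre_e IH (LK LD1_c3 LD2_c25 LD3_c41) (LK LD1_c6 LD2_c53 LD3_c16) Lrfl Lrfl
theorem f103737 : Led Lsl_bf (LP (LK LD1_c3 LD2_c25 LD3_c41)) = (LP (LK LD1_c3 LD2_c45 LD3_c45)) :=
  Lgr Lrot96 (Lpr_et (f103736 IH) (Lpr_bt (f103730 IH) (Lpr_et (f103664 IH) (Lpn (LP (LK LD1_c3 LD2_c45 LD3_c45))))))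
theorem f94751 : Led Lsl_dt (LP (LK LD1_c6 LD2_c54 LD3_c5)) = (LP (LK LD1_c3 LD2_c26 LD3_c6)) :=
  Lre_d IH (LK LD1_c6 LD2_c54 LD3_c5) (LK LD1_c3 LD2_c26 LD3_c6) Lrfl Lrfl
theorem f91864 : Led Lsl_dt (LP (LK LD1_c6 LD2_c51 LD3_c43)) = (LP (LK LD1_c13 LD2_c3 LD3_c3)) :=
  Lre_d IH (LK LD1_c6 LD2_c51 LD3_c43) (LK LD1_c13 LD2_c3 LD3_c3) Lrfl Lrfl
theorem f102409 : Led Lsl_af (LP (LK LD1_c6 LD2_c54 LD3_c5)) = (LP (LK LD1_c13 LD2_c3 LD3_c3)) :=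
  Lgr Lrot117 (Lpr_dt (f94751 IH) (Lpr_at (f102404 IH) (Lpr_dt (f91864 IH) (Lpn (LP (LK LD1_c13 LD2_c3 LD3_c3))))))
theorem f102416 : Led Lsl_et (LP (LK LD1_c6 LD2_c54 LD3_c5)) = (LP (LK LD1_c3 LD2_c26 LD3_c9)) :=
  Lre_e IH (LK LD1_c6 LD2_c54 LD3_c5) (LK LD1_c3 LD2_c26 LD3_c9) Lrfl Lrfl
theorem f102417 : Led Lsl_et (LP (LK LD1_c6 LD2_c51 LD3_c45)) = (LP (LK LD1_c13 LD2_c3 LD3_c3)) :=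
  Lre_e IH (LK LD1_c6 LD2_c51 LD3_c45) (LK LD1_c13 LD2_c3 LD3_c3) Lrfl Lrfl
theorem f102418 : Led Lsl_at (LP (LK LD1_c3 LD2_c26 LD3_c9)) = (LP (LK LD1_c6 LD2_c51 LD3_c45)) :=
  Lgr Lrot80 (Lpe (f102416 IH) (Lpr_af (f102409 IH) (Lpe (f102417 IH) (Lpn (LP (LK LD1_c6 LD2_c51 LD3_c45))))))
theorem f97673 : Led Lsl_dt (LP (LK LD1_c1 LD2_c39 LD3_c45)) = (LP (LK LD1_c3 LD2_c26 LD3_c9)) :=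
  Lre_d IH (LK LD1_c1 LD2_c39 LD3_c45) (LK LD1_c3 LD2_c26 LD3_c9) Lrfl Lrfl
theorem f65926 : Led Lsl_dt (LP (LK LD1_c6 LD2_c51 LD3_c45)) = (LP (LK LD1_c3 LD2_c24 LD3_c36)) :=
  Lre_d IH (LK LD1_c6 LD2_c51 LD3_c45) (LK LD1_c3 LD2_c24 LD3_c36) Lrfl Lrfl
theorem f102426 : Led Lsl_af (LP (LK LD1_c1 LD2_c39 LD3_c45)) = (LP (LK LD1_c3 LD2_c24 LD3_c36)) :=
  Lgr Lrot117 (Lpr_dt (f97673 IH) (Lpr_at (f102418 IH) (Lpr_dt (f65926 IH) (Lpn (LP (LK LD1_c3 LD2_c24 LD3_c36))))))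
theorem f97672 : Led Lsl_et (LP (LK LD1_c1 LD2_c39 LD3_c45)) = (LP (LK LD1_c0 LD2_c46 LD3_c24)) :=
  Lre_e IH (LK LD1_c1 LD2_c39 LD3_c45) (LK LD1_c0 LD2_c46 LD3_c24) Lrfl Lrfl
theorem f91871 : Led Lsl_et (LP (LK LD1_c1 LD2_c38 LD3_c42)) = (LP (LK LD1_c3 LD2_c24 LD3_c36)) :=
  Lre_e IH (LK LD1_c1 LD2_c38 LD3_c42) (LK LD1_c3 LD2_c24 LD3_c36) Lrfl Lrfl
theorem f102438 : Led Lsl_at (LP (LK LD1_c0 LD2_c46 LD3_c24)) = (LP (LK LD1_c1 LD2_c38 LD3_c42)) :=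
  Lgr Lrot80 (Lpe (f97672 IH) (Lpr_af (f102426 IH) (Lpe (f91871 IH) (Lpn (LP (LK LD1_c1 LD2_c38 LD3_c42))))))
theorem f18175 : Led Lsl_bt (LP (LK LD1_c1 LD2_c38 LD3_c42)) = (LP (LK LD1_c3 LD2_c24 LD3_c34)) :=
  Lre_b IH (LK LD1_c1 LD2_c38 LD3_c42) (LK LD1_c3 LD2_c24 LD3_c34) Lrfl Lrfl
theorem f65941 : Led Lsl_at (LP (LK LD1_c3 LD2_c24 LD3_c34)) = (LP (LK LD1_c6 LD2_c51 LD3_c41)) :=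
  Lre_a IH (LK LD1_c3 LD2_c24 LD3_c34) (LK LD1_c6 LD2_c51 LD3_c41) Lrfl Lrfl
theorem f102442 : Led Lsl_bf (LP (LK LD1_c3 LD2_c26 LD3_c3)) = (LP (LK LD1_c6 LD2_c51 LD3_c41)) :=
  Lgr Lrot81 (Lpr_at (f102441 IH) (Lpr_bt (f97675 IH) (Lpr_at (f102438 IH) (Lpr_bt (f18175 IH) (Lpr_at (f65941 IH) (Lpn (LP (LK LD1_c6 LD2_c51 LD3_c41))))))))
theorem f103743 : Led Lsl_ft (LP (LK LD1_c3 LD2_c25 LD3_c41)) = (LP (LK LD1_c6 LD2_c51 LD3_c41)) :=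
  Lgr Lrot75 (Lpr_bf (f103737 IH) (Lpe (f103665 IH) (Lpr_bf (f102442 IH) (Lpn (LP (LK LD1_c6 LD2_c51 LD3_c41))))))
theorem f65933 : Led Lsl_at (LP (LK LD1_c6 LD2_c51 LD3_c41)) = (LP (LK LD1_c3 LD2_c24 LD3_c34)) :=
  Lre_a IH (LK LD1_c6 LD2_c51 LD3_c41) (LK LD1_c3 LD2_c24 LD3_c34) Lrfl Lrfl
theorem f65771 : Led Lsl_bt (LP (LK LD1_c3 LD2_c15 LD3_c48)) = (LP (LK LD1_c1 LD2_c34 LD3_c38)) :=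
  Lre_b IH (LK LD1_c3 LD2_c15 LD3_c48) (LK LD1_c1 LD2_c34 LD3_c38) Lrfl Lrfl
theorem f65849 : Led Lsl_cf (LP (LK LD1_c3 LD2_c15 LD3_c48)) = (LP (LK LD1_c3 LD2_c24 LD3_c34)) :=
  Lgr Lrot97 (Lpr_bt (f65771 IH) (Lpr_ct (K2.f65787 IH) (Lpr_bt (K2.f65832 IH) (Lpr_ct (K2.f11079 IH) (Lpr_bt (f18175 IH) (Lpn (LP (LK LD1_c3 LD2_c24 LD3_c34))))))))
theorem f65936 : Led Lsl_ct (LP (LK LD1_c3 LD2_c15 LD3_c48)) = (LP (LK LD1_c3 LD2_c24 LD3_c34)) :=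
  Lgr Lrot59 (Lpr_cf (f65849 IH) (Lpn (LP (LK LD1_c3 LD2_c24 LD3_c34))))
theorem f24052 : Led Lsl_bt (LP (LK LD1_c0 LD2_c37 LD3_c57)) = (LP (LK LD1_c0 LD2_c16 LD3_c58)) :=
  Lre_b IH (LK LD1_c0 LD2_c37 LD3_c57) (LK LD1_c0 LD2_c16 LD3_c58) Lrfl Lrfl
theorem f8352 : Led Lsl_ct (LP (LK LD1_c1 LD2_c21 LD3_c61)) = (LP (LK LD1_c0 LD2_c37 LD3_c57)) :=
  Lre_c IH (LK LD1_c1 LD2_c21 LD3_c61) (LK LD1_c0 LD2_c37 LD3_c57) Lrfl Lrfl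
theorem f23173 : Led Lsl_ct (LP (LK LD1_c0 LD2_c19 LD3_c27)) = (LP (LK LD1_c0 LD2_c43 LD3_c38)) :=
  Lre_c IH (LK LD1_c0 LD2_c19 LD3_c27) (LK LD1_c0 LD2_c43 LD3_c38) Lrfl Lrfl
theorem f24053 : Led Lsl_bf (LP (LK LD1_c1 LD2_c21 LD3_c61)) = (LP (LK LD1_c0 LD2_c43 LD3_c38)) :=
  Lgr Lrot90 (Lpr_ct (f8352 IH) (Lpr_bt (f24052 IH) (Lpr_ct (K0.f24020 IH) (Lpr_bt (K2.f24028 IH) (Lpr_ct (f23173 IH) (Lpn (LP (LK LD1_c0 LD2_c43 LD3_c38))))))))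
theorem f8357 : Led Lsl_dt (LP (LK LD1_c1 LD2_c21 LD3_c61)) = (LP (LK LD1_c2 LD2_c51 LD3_c58)) :=
  Lre_d IH (LK LD1_c1 LD2_c21 LD3_c61) (LK LD1_c2 LD2_c51 LD3_c58) Lrfl Lrfl
theorem f24137 : Led Lsl_bt (LP (LK LD1_c2 LD2_c51 LD3_c58)) = (LP (LK LD1_c1 LD2_c34 LD3_c4)) :=
  Lgr Lrot95 (Lpe (f8357 IH) (Lpr_bf (f24053 IH) (Lpe (K3.f24136 IH) (Lpn (LP (LK LD1_c1 LD2_c34 LD3_c4))))))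
theorem f8358 : Led Lsl_ct (LP (LK LD1_c2 LD2_c51 LD3_c58)) = (LP (LK LD1_c5 LD2_c51 LD3_c23)) :=
  Lre_c IH (LK LD1_c2 LD2_c51 LD3_c58) (LK LD1_c5 LD2_c51 LD3_c23) Lrfl Lrfl
theorem f65945 : Led Lsl_gt (LP (LK LD1_c5 LD2_c51 LD3_c23)) = (LP (LK LD1_c3 LD2_c24 LD3_c34)) :=
  Lgr Lrot65 (Lpe (f8358 IH) (Lpr_bt (f24137 IH) (Lpr_gf (K3.f58780 IH) (Lpe (K3.f6702 IH) (Lpr_ct (K2.f58788 IH) (Lpr_gf (K2.f65830 IH) (Lpe (K2.f11405 IH) (Lpe (K2.f65785 IH) (Lpe (f65771 IH) (Lpr_ct (f65936 IH) (Lpn (LP (LK LD1_c3 LD2_c24 LD3_c34)))))))))))))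
theorem f103750 : Led Lsl_gt (LP (LK LD1_c3 LD2_c25 LD3_c41)) = (LP (LK LD1_c5 LD2_c51 LD3_c23)) :=
  Lgr Lrot5 (Lpr_ft (f103743 IH) (Lpr_at (f65933 IH) (Lpe (f65945 IH) (Lpn (LP (LK LD1_c5 LD2_c51 LD3_c23))))))
theorem f8354 : Led Lsl_ct (LP (LK LD1_c5 LD2_c51 LD3_c23)) = (LP (LK LD1_c2 LD2_c51 LD3_c58)) :=
  Lre_c IH (LK LD1_c5 LD2_c51 LD3_c23) (LK LD1_c2 LD2_c51 LD3_c58) Lrfl Lrfl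
theorem f102701 : Led Lsl_at (LP (LK LD1_c1 LD2_c39 LD3_c28)) = (LP (LK LD1_c3 LD2_c25 LD3_c41)) :=
  Lre_a IH (LK LD1_c1 LD2_c39 LD3_c28) (LK LD1_c3 LD2_c25 LD3_c41) Lrfl Lrfl
theorem f103745 : Led Lsl_ff (LP (LK LD1_c1 LD2_c39 LD3_c28)) = (LP (LK LD1_c3 LD2_c24 LD3_c34)) :=
  Lgr Lrot30 (Lpr_at (f102701 IH) (Lpr_ft (f103743 IH) (Lpr_at (f65933 IH) (Lpn (LP (LK LD1_c3 LD2_c24 LD3_c34))))))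
theorem f24150 : Led Lsl_bf (LP (LK LD1_c2 LD2_c51 LD3_c58)) = (LP (LK LD1_c1 LD2_c34 LD3_c4)) :=
  Lgr Lrot24 (Lpr_bt (f24137 IH) (Lpn (LP (LK LD1_c1 LD2_c34 LD3_c4))))
theorem f65881 : Led Lsl_gt (LP (LK LD1_c3 LD2_c24 LD3_c34)) = (LP (LK LD1_c2 LD2_c51 LD3_c58)) :=
  Lgr Lrot164 (Lpe (f18175 IH) (Lpr_ct (K2.f18173 IH) (Lpe (K2.f11078 IH) (Lpe (K2.f11053 IH) (Lpe (K2.f65857 IH) (Lpe (K3.f58789 IH) (Lpr_ct (K3.f58785 IH) (Lpe (K3.f58782 IH) (Lpr_cf (K3.f65873 IH) (Lpe (f24150 IH) (Lpn (LP (LK LD1_c2 LD2_c51 LD3_c58)))))))))))))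
theorem f103767 : Led Lsl_gf (LP (LK LD1_c3 LD2_c25 LD3_c41)) = (LP (LK LD1_c2 LD2_c51 LD3_c58)) :=
  Lgr Lrot76 (Lpe (f102701 IH) (Lpr_ff (f103745 IH) (Lpr_gt (f65881 IH) (Lpn (LP (LK LD1_c2 LD2_c51 LD3_c58))))))
theorem f115835 : Led Lsl_ct (LP (LK LD1_c3 LD2_c29 LD3_c59)) = (LP (LK LD1_c3 LD2_c25 LD3_c41)) :=
  Lgr Lrot63 (Lpe (f115791 IH) (Lpr_gt (f115829 IH) (Lpe (f103623 IH) (Lpr_ct (f103624 IH) (Lpr_gt (f102871 IH) (Lpr_cf (f103669 IH) (Lpe (f103737 IH) (Lpr_gt (f103750 IH) (Lpr_ct (f8354 IH) (Lpe (f103767 IH) (Lpn (LP (LK LD1_c3 LD2_c25 LD3_c41)))))))))))))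
theorem f65938 : Led Lsl_at (LP (LK LD1_c6 LD2_c34 LD3_c55)) = (LP (LK LD1_c3 LD2_c15 LD3_c48)) :=
  Lre_a IH (LK LD1_c6 LD2_c34 LD3_c55) (LK LD1_c3 LD2_c15 LD3_c48) Lrfl Lrfl
theorem f65942 : Led Lsl_cf (LP (LK LD1_c6 LD2_c34 LD3_c55)) = (LP (LK LD1_c6 LD2_c51 LD3_c41)) :=
  Lgr Lrot1 (Lpr_at (f65938 IH) (Lpr_ct (f65936 IH) (Lpr_at (f65941 IH) (Lpn (LP (LK LD1_c6 LD2_c51 LD3_c41))))))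
theorem f115844 : Led Lsl_ff (LP (LK LD1_c3 LD2_c29 LD3_c59)) = (LP (LK LD1_c6 LD2_c34 LD3_c55)) :=
  Lgr Lrot23 (Lpr_ct (f115835 IH) (Lpr_ft (f103743 IH) (Lpe (f65942 IH) (Lpn (LP (LK LD1_c6 LD2_c34 LD3_c55))))))
theorem f115851 : Led Lsl_ft (LP (LK LD1_c3 LD2_c29 LD3_c59)) = (LP (LK LD1_c6 LD2_c34 LD3_c55)) :=
  Lgr Lrot48 (Lpr_ff (f115844 IH) (Lpn (LP (LK LD1_c6 LD2_c34 LD3_c55))))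
theorem f115807 : Led Lsl_at (LP (LK LD1_c1 LD2_c41 LD3_c37)) = (LP (LK LD1_c3 LD2_c29 LD3_c51)) :=
  Lre_a IH (LK LD1_c1 LD2_c41 LD3_c37) (LK LD1_c3 LD2_c29 LD3_c51) Lrfl Lrfl
theorem f115808 : Led Lsl_ff (LP (LK LD1_c6 LD2_c34 LD3_c7)) = (LP (LK LD1_c3 LD2_c29 LD3_c51)) :=
  Lgr Lrot30 (Lpr_at (f115793 IH) (Lpr_ft (f115805 IH) (Lpr_at (f115807 IH) (Lpn (LP (LK LD1_c3 LD2_c29 LD3_c51))))))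
theorem f115857 : Led Lsl_bf (LP (LK LD1_c3 LD2_c29 LD3_c51)) = (LP (LK LD1_c6 LD2_c34 LD3_c55)) :=
  Lgr Lrot61 (Lpe (f115808 IH) (Lpr_bt (f115786 IH) (Lpr_ft (f115851 IH) (Lpn (LP (LK LD1_c6 LD2_c34 LD3_c55))))))
theorem f115814 : Led Lsl_gt (LP (LK LD1_c6 LD2_c34 LD3_c5)) = (LP (LK LD1_c3 LD2_c29 LD3_c51)) :=
  Lgr Lrot46 (Lpe (f94533 IH) (Lpr_ft (f115805 IH) (Lpr_at (f115807 IH) (Lpn (LP (LK LD1_c3 LD2_c29 LD3_c51))))))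
theorem f111140 : Led Lsl_af (LP (LK LD1_c6 LD2_c34 LD3_c6)) = (LP (LK LD1_c3 LD2_c29 LD3_c49)) :=
  Lgr Lrot0 (Lpr_at (f111136 IH) (Lpn (LP (LK LD1_c3 LD2_c29 LD3_c49))))
theorem f115816 : Led Lsl_gf (LP (LK LD1_c6 LD2_c34 LD3_c6)) = (LP (LK LD1_c3 LD2_c29 LD3_c51)) :=
  Lgr Lrot76 (Lpr_af (f111140 IH) (Lpe (f111153 IH) (Lpr_gt (f115814 IH) (Lpn (LP (LK LD1_c3 LD2_c29 LD3_c51))))))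
theorem f12596 : Led Lsl_ct (LP (LK LD1_c3 LD2_c25 LD3_c57)) = (LP (LK LD1_c1 LD2_c39 LD3_c43)) :=
  Lre_c IH (LK LD1_c3 LD2_c25 LD3_c57) (LK LD1_c1 LD2_c39 LD3_c43) Lrfl Lrfl
theorem f102858 : Led Lsl_ff (LP (LK LD1_c3 LD2_c25 LD3_c57)) = (LP (LK LD1_c3 LD2_c43 LD3_c30)) :=
  Lgr Lrot23 (Lpr_ct (f12596 IH) (Lpr_ft (f102853 IH) (Lpe (f12812 IH) (Lpn (LP (LK LD1_c3 LD2_c43 LD3_c30))))))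
theorem f102890 : Led Lsl_at (LP (LK LD1_c3 LD2_c25 LD3_c57)) = (LP (LK LD1_c6 LD2_c53 LD3_c46)) :=
  Lre_a IH (LK LD1_c3 LD2_c25 LD3_c57) (LK LD1_c6 LD2_c53 LD3_c46) Lrfl Lrfl
theorem f102899 : Led Lsl_gf (LP (LK LD1_c6 LD2_c53 LD3_c46)) = (LP (LK LD1_c7 LD2_c27 LD3_c35)) :=
  Lgr Lrot76 (Lpe (f102890 IH) (Lpr_ff (f102858 IH) (Lpr_gt (f12780 IH) (Lpn (LP (LK LD1_c7 LD2_c27 LD3_c35))))))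
theorem f102446 : Led Lsl_ct (LP (LK LD1_c3 LD2_c26 LD3_c3)) = (LP (LK LD1_c6 LD2_c53 LD3_c46)) :=
  Lre_c IH (LK LD1_c3 LD2_c26 LD3_c3) (LK LD1_c6 LD2_c53 LD3_c46) Lrfl Lrfl
theorem f102444 : Led Lsl_bt (LP (LK LD1_c3 LD2_c26 LD3_c3)) = (LP (LK LD1_c6 LD2_c51 LD3_c41)) :=
  Lgr Lrot127 (Lpr_bf (f102442 IH) (Lpn (LP (LK LD1_c6 LD2_c51 LD3_c41))))
theorem f103748 : Led Lsl_ff (LP (LK LD1_c3 LD2_c25 LD3_c41)) = (LP (LK LD1_c6 LD2_c51 LD3_c41)) :=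
  Lgr Lrot3 (Lpr_ft (f103743 IH) (Lpn (LP (LK LD1_c6 LD2_c51 LD3_c41))))
theorem f103740 : Led Lsl_at (LP (LK LD1_c3 LD2_c25 LD3_c41)) = (LP (LK LD1_c1 LD2_c39 LD3_c28)) :=
  Lre_a IH (LK LD1_c3 LD2_c25 LD3_c41) (LK LD1_c1 LD2_c39 LD3_c28) Lrfl Lrfl
theorem f95237 : Led Lsl_gt (LP (LK LD1_c3 LD2_c25 LD3_c40)) = (LP (LK LD1_c1 LD2_c39 LD3_c28)) :=
  Lre_g IH (LK LD1_c3 LD2_c25 LD3_c40) (LK LD1_c1 LD2_c39 LD3_c28) Lrfl Lrfl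
theorem f103755 : Led Lsl_gf (LP (LK LD1_c3 LD2_c25 LD3_c40)) = (LP (LK LD1_c6 LD2_c51 LD3_c41)) :=
  Lgr Lrot47 (Lpr_gt (f95237 IH) (Lpe (f103740 IH) (Lpr_ff (f103748 IH) (Lpn (LP (LK LD1_c6 LD2_c51 LD3_c41))))))
theorem f65932 : Led Lsl_at (LP (LK LD1_c3 LD2_c15 LD3_c48)) = (LP (LK LD1_c6 LD2_c34 LD3_c55)) :=
  Lre_a IH (LK LD1_c3 LD2_c15 LD3_c48) (LK LD1_c6 LD2_c34 LD3_c55) Lrfl Lrfl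
theorem f65934 : Led Lsl_ct (LP (LK LD1_c6 LD2_c34 LD3_c55)) = (LP (LK LD1_c6 LD2_c51 LD3_c41)) :=
  Lgr Lrot111 (Lpe (f65932 IH) (Lpr_cf (f65849 IH) (Lpe (f65933 IH) (Lpn (LP (LK LD1_c6 LD2_c51 LD3_c41))))))
theorem f103752 : Led Lsl_ft (LP (LK LD1_c1 LD2_c39 LD3_c28)) = (LP (LK LD1_c3 LD2_c24 LD3_c34)) :=
  Lgr Lrot101 (Lpe (f103740 IH) (Lpr_ff (f103748 IH) (Lpe (f65941 IH) (Lpn (LP (LK LD1_c3 LD2_c24 LD3_c34))))))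
theorem f20204 : Led Lsl_gt (LP (LK LD1_c1 LD2_c39 LD3_c28)) = (LP (LK LD1_c3 LD2_c25 LD3_c39)) :=
  Lre_g IH (LK LD1_c1 LD2_c39 LD3_c28) (LK LD1_c3 LD2_c25 LD3_c39) Lrfl Lrfl
theorem f103761 : Led Lsl_gt (LP (LK LD1_c3 LD2_c25 LD3_c39)) = (LP (LK LD1_c6 LD2_c51 LD3_c41)) :=
  Lgr Lrot46 (Lpe (f20204 IH) (Lpr_ft (f103752 IH) (Lpr_at (f65941 IH) (Lpn (LP (LK LD1_c6 LD2_c51 LD3_c41))))))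
theorem f115867 : Led Lsl_ct (LP (LK LD1_c3 LD2_c25 LD3_c40)) = (LP (LK LD1_c3 LD2_c25 LD3_c39)) :=
  Lgr Lrot91 (Lpr_gf (f103755 IH) (Lpe (f102444 IH) (Lpr_ct (f102446 IH) (Lpr_gf (f102899 IH) (Lpr_cf (f111337 IH) (Lpr_bt (f65363 IH) (Lpr_gf (f115816 IH) (Lpr_bf (f115857 IH) (Lpr_ct (f65934 IH) (Lpe (f103761 IH) (Lpn (LP (LK LD1_c3 LD2_c25 LD3_c39)))))))))))))
theorem f115869 : Led Lsl_cf (LP (LK LD1_c3 LD2_c25 LD3_c40)) = (LP (LK LD1_c3 LD2_c25 LD3_c39)) :=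
  Lgr Lrot11 (Lpr_ct (f115867 IH) (Lpn (LP (LK LD1_c3 LD2_c25 LD3_c39))))
theorem f20203 : Led Lsl_bt (LP (LK LD1_c0 LD2_c46 LD3_c14)) = (LP (LK LD1_c1 LD2_c39 LD3_c28)) :=
  Lre_b IH (LK LD1_c0 LD2_c46 LD3_c14) (LK LD1_c1 LD2_c39 LD3_c28) Lrfl Lrfl
theorem f19047 : Led Lsl_bt (LP (LK LD1_c1 LD2_c41 LD3_c40)) = (LP (LK LD1_c0 LD2_c47 LD3_c23)) :=
  Lre_b IH (LK LD1_c1 LD2_c41 LD3_c40) (LK LD1_c0 LD2_c47 LD3_c23) Lrfl Lrfl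
theorem f115890 : Led Lsl_cf (LP (LK LD1_c1 LD2_c39 LD3_c28)) = (LP (LK LD1_c1 LD2_c41 LD3_c40)) :=
  Lgr Lrot163 (Lpe (f95237 IH) (Lpr_cf (f115869 IH) (Lpe (f20204 IH) (Lpe (f20203 IH) (Lpr_ct (K2.f94225 IH) (Lpe (K2.f94208 IH) (Lpe (K1.f11445 IH) (Lpr_bt (f18137 IH) (Lpe (K3.f11312 IH) (Lpe (f19047 IH) (Lpn (LP (LK LD1_c1 LD2_c41 LD3_c40)))))))))))))
theorem f103765 : Led Lsl_et (LP (LK LD1_c1 LD2_c39 LD3_c28)) = (LP (LK LD1_c3 LD2_c25 LD3_c43)) :=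
  Lre_e IH (LK LD1_c1 LD2_c39 LD3_c28) (LK LD1_c3 LD2_c25 LD3_c43) Lrfl Lrfl
theorem f115892 : Led Lsl_et (LP (LK LD1_c3 LD2_c29 LD3_c61)) = (LP (LK LD1_c1 LD2_c41 LD3_c40)) :=
  Lre_e IH (LK LD1_c3 LD2_c29 LD3_c61) (LK LD1_c1 LD2_c41 LD3_c40) Lrfl Lrfl
theorem f115893 : Led Lsl_ct (LP (LK LD1_c3 LD2_c25 LD3_c43)) = (LP (LK LD1_c3 LD2_c29 LD3_c61)) :=
  Lgr Lrot15 (Lpe (f103765 IH) (Lpr_cf (f115890 IH) (Lpe (f115892 IH) (Lpn (LP (LK LD1_c3 LD2_c29 LD3_c61))))))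
theorem f103760 : Led Lsl_ft (LP (LK LD1_c6 LD2_c53 LD3_c21)) = (LP (LK LD1_c3 LD2_c25 LD3_c43)) :=
  Lre_f IH (LK LD1_c6 LD2_c53 LD3_c21) (LK LD1_c3 LD2_c25 LD3_c43) Lrfl Lrfl
theorem f115910 : Led Lsl_ft (LP (LK LD1_c3 LD2_c29 LD3_c61)) = (LP (LK LD1_c7 LD2_c1 LD3_c40)) :=
  Lre_f IH (LK LD1_c3 LD2_c29 LD3_c61) (LK LD1_c7 LD2_c1 LD3_c40) Lrfl Lrfl
theorem f115911 : Led Lsl_cf (LP (LK LD1_c6 LD2_c53 LD3_c21)) = (LP (LK LD1_c7 LD2_c1 LD3_c40)) :=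
  Lgr Lrot108 (Lpr_ft (f103760 IH) (Lpr_ct (f115893 IH) (Lpr_ft (f115910 IH) (Lpn (LP (LK LD1_c7 LD2_c1 LD3_c40))))))
theorem f115939 : Led Lsl_ct (LP (LK LD1_c6 LD2_c53 LD3_c21)) = (LP (LK LD1_c7 LD2_c1 LD3_c40)) :=
  Lgr Lrot59 (Lpr_cf (f115911 IH) (Lpn (LP (LK LD1_c7 LD2_c1 LD3_c40))))
theorem f94326 : Led Lsl_bt (LP (LK LD1_c3 LD2_c25 LD3_c50)) = (LP (LK LD1_c6 LD2_c53 LD3_c21)) :=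
  Lre_b IH (LK LD1_c3 LD2_c25 LD3_c50) (LK LD1_c6 LD2_c53 LD3_c21) Lrfl Lrfl
theorem f94319 : Led Lsl_ct (LP (LK LD1_c1 LD2_c39 LD3_c32)) = (LP (LK LD1_c3 LD2_c25 LD3_c50)) :=
  Lre_c IH (LK LD1_c1 LD2_c39 LD3_c32) (LK LD1_c3 LD2_c25 LD3_c50) Lrfl Lrfl
theorem f94316 : Led Lsl_bt (LP (LK LD1_c3 LD2_c25 LD3_c28)) = (LP (LK LD1_c1 LD2_c39 LD3_c32)) :=
  Lre_b IH (LK LD1_c3 LD2_c25 LD3_c28) (LK LD1_c1 LD2_c39 LD3_c32) Lrfl Lrfl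
theorem f115952 : Led Lsl_bt (LP (LK LD1_c7 LD2_c1 LD3_c40)) = (LP (LK LD1_c3 LD2_c30 LD3_c2)) :=
  Lre_b IH (LK LD1_c7 LD2_c1 LD3_c40) (LK LD1_c3 LD2_c30 LD3_c2) Lrfl Lrfl
theorem f115957 : Led Lsl_cf (LP (LK LD1_c3 LD2_c25 LD3_c28)) = (LP (LK LD1_c3 LD2_c30 LD3_c2)) :=
  Lgr Lrot97 (Lpr_bt (f94316 IH) (Lpr_ct (f94319 IH) (Lpr_bt (f94326 IH) (Lpr_ct (f115939 IH) (Lpr_bt (f115952 IH) (Lpn (LP (LK LD1_c3 LD2_c30 LD3_c2))))))))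
theorem f94240 : Led Lsl_et (LP (LK LD1_c0 LD2_c20 LD3_c46)) = (LP (LK LD1_c0 LD2_c46 LD3_c15)) :=
  Lre_e IH (LK LD1_c0 LD2_c20 LD3_c46) (LK LD1_c0 LD2_c46 LD3_c15) Lrfl Lrfl
theorem f94231 : Led Lsl_et (LP (LK LD1_c0 LD2_c46 LD3_c15)) = (LP (LK LD1_c0 LD2_c20 LD3_c46)) :=
  Lre_e IH (LK LD1_c0 LD2_c46 LD3_c15) (LK LD1_c0 LD2_c20 LD3_c46) Lrfl Lrfl
theorem f94241 : Led Lsl_dt (LP (LK LD1_c0 LD2_c46 LD3_c15)) = (LP (LK LD1_c0 LD2_c46 LD3_c15)) :=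
  Lgr Lrot77 (Lpe (f94240 IH) (Lpe (K2.f20201 IH) (Lpr_ef (K2.f94229 IH) (Lpe (K2.f14988 IH) (Lpe (f94231 IH) (Lpn (LP (LK LD1_c0 LD2_c46 LD3_c15))))))))
theorem f94298 : Led Lsl_ft (LP (LK LD1_c1 LD2_c39 LD3_c32)) = (LP (LK LD1_c0 LD2_c46 LD3_c15)) :=
  Lre_f IH (LK LD1_c1 LD2_c39 LD3_c32) (LK LD1_c0 LD2_c46 LD3_c15) Lrfl Lrfl
theorem f94299 : Led Lsl_ft (LP (LK LD1_c0 LD2_c46 LD3_c15)) = (LP (LK LD1_c1 LD2_c39 LD3_c32)) :=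
  Lre_f IH (LK LD1_c0 LD2_c46 LD3_c15) (LK LD1_c1 LD2_c39 LD3_c32) Lrfl Lrfl
theorem f94300 : Led Lsl_df (LP (LK LD1_c1 LD2_c39 LD3_c32)) = (LP (LK LD1_c1 LD2_c39 LD3_c32)) :=
  Lgr Lrot78 (Lpr_ft (f94298 IH) (Lpr_dt (f94241 IH) (Lpr_ft (f94299 IH) (Lpn (LP (LK LD1_c1 LD2_c39 LD3_c32))))))
theorem f94315 : Led Lsl_bt (LP (LK LD1_c1 LD2_c39 LD3_c32)) = (LP (LK LD1_c3 LD2_c25 LD3_c28)) :=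
  Lre_b IH (LK LD1_c1 LD2_c39 LD3_c32) (LK LD1_c3 LD2_c25 LD3_c28) Lrfl Lrfl
theorem f94317 : Led Lsl_dt (LP (LK LD1_c3 LD2_c25 LD3_c28)) = (LP (LK LD1_c3 LD2_c25 LD3_c28)) :=
  Lgr Lrot79 (Lpe (f94315 IH) (Lpr_df (f94300 IH) (Lpe (f94316 IH) (Lpn (LP (LK LD1_c3 LD2_c25 LD3_c28))))))
theorem f115935 : Led Lsl_bt (LP (LK LD1_c6 LD2_c53 LD3_c21)) = (LP (LK LD1_c3 LD2_c25 LD3_c50)) :=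
  Lre_b IH (LK LD1_c6 LD2_c53 LD3_c21) (LK LD1_c3 LD2_c25 LD3_c50) Lrfl Lrfl
theorem f94322 : Led Lsl_ct (LP (LK LD1_c3 LD2_c25 LD3_c50)) = (LP (LK LD1_c1 LD2_c39 LD3_c32)) :=
  Lre_c IH (LK LD1_c3 LD2_c25 LD3_c50) (LK LD1_c1 LD2_c39 LD3_c32) Lrfl Lrfl
theorem f115936 : Led Lsl_bt (LP (LK LD1_c3 LD2_c30 LD3_c2)) = (LP (LK LD1_c7 LD2_c1 LD3_c40)) :=
  Lre_b IH (LK LD1_c3 LD2_c30 LD3_c2) (LK LD1_c7 LD2_c1 LD3_c40) Lrfl Lrfl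
theorem f115937 : Led Lsl_ct (LP (LK LD1_c3 LD2_c25 LD3_c28)) = (LP (LK LD1_c3 LD2_c30 LD3_c2)) :=
  Lgr Lrot83 (Lpe (f94315 IH) (Lpe (f94322 IH) (Lpe (f115935 IH) (Lpr_cf (f115911 IH) (Lpe (f115936 IH) (Lpn (LP (LK LD1_c3 LD2_c30 LD3_c2))))))))
theorem f115963 : Led Lsl_dt (LP (LK LD1_c3 LD2_c30 LD3_c2)) = (LP (LK LD1_c7 LD2_c1 LD3_c48)) :=
  Lre_d IH (LK LD1_c3 LD2_c30 LD3_c2) (LK LD1_c7 LD2_c1 LD3_c48) Lrfl Lrfl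
theorem f115964 : Led Lsl_ct (LP (LK LD1_c7 LD2_c1 LD3_c48)) = (LP (LK LD1_c13 LD2_c20 LD3_c2)) :=
  Lre_c IH (LK LD1_c7 LD2_c1 LD3_c48) (LK LD1_c13 LD2_c20 LD3_c2) Lrfl Lrfl
theorem f115770 : Led Lsl_dt (LP (LK LD1_c7 LD2_c1 LD3_c48)) = (LP (LK LD1_c3 LD2_c30 LD3_c2)) :=
  Lre_d IH (LK LD1_c7 LD2_c1 LD3_c48) (LK LD1_c3 LD2_c30 LD3_c2) Lrfl Lrfl
theorem f115769 : Led Lsl_ft (LP (LK LD1_c7 LD2_c1 LD3_c48)) = (LP (LK LD1_c3 LD2_c30 LD3_c1)) :=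
  Lre_f IH (LK LD1_c7 LD2_c1 LD3_c48) (LK LD1_c3 LD2_c30 LD3_c1) Lrfl Lrfl
theorem f65511 : Led Lsl_ct (LP (LK LD1_c12 LD2_c34 LD3_c57)) = (LP (LK LD1_c6 LD2_c34 LD3_c9)) :=
  Lre_c IH (LK LD1_c12 LD2_c34 LD3_c57) (LK LD1_c6 LD2_c34 LD3_c9) Lrfl Lrfl
theorem f115968 : Led Lsl_dt (LP (LK LD1_c13 LD2_c20 LD3_c2)) = (LP (LK LD1_c12 LD2_c34 LD3_c57)) :=
  Lgr Lrot120 (Lpe (f115964 IH) (Lpe (f115963 IH) (Lpe (f115937 IH) (Lpe (f94317 IH) (Lpr_cf (f115957 IH) (Lpe (f115770 IH) (Lpr_ft (f115769 IH) (Lpe (f115752 IH) (Lpe (f65511 IH) (Lpn (LP (LK LD1_c12 LD2_c34 LD3_c57))))))))))))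
theorem f94330 : Led Lsl_ft (LP (LK LD1_c3 LD2_c25 LD3_c28)) = (LP (LK LD1_c1 LD2_c39 LD3_c21)) :=
  Lre_f IH (LK LD1_c3 LD2_c25 LD3_c28) (LK LD1_c1 LD2_c39 LD3_c21) Lrfl Lrfl
theorem f65509 : Led Lsl_ct (LP (LK LD1_c3 LD2_c15 LD3_c24)) = (LP (LK LD1_c1 LD2_c34 LD3_c26)) :=
  Lre_c IH (LK LD1_c3 LD2_c15 LD3_c24) (LK LD1_c1 LD2_c34 LD3_c26) Lrfl Lrfl
theorem f115983 : Led Lsl_at (LP (LK LD1_c1 LD2_c39 LD3_c21)) = (LP (LK LD1_c1 LD2_c34 LD3_c26)) :=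
  Lgr Lrot33 (Lpe (f94330 IH) (Lpr_dt (f94317 IH) (Lpr_ct (f115937 IH) (Lpr_dt (f115963 IH) (Lpr_ct (f115964 IH) (Lpr_dt (f115968 IH) (Lpr_ct (f65511 IH) (Lpr_dt (f65510 IH) (Lpr_ct (f65509 IH) (Lpn (LP (LK LD1_c1 LD2_c34 LD3_c26))))))))))))
theorem f94334 : Led Lsl_et (LP (LK LD1_c0 LD2_c46 LD3_c9)) = (LP (LK LD1_c1 LD2_c39 LD3_c21)) :=
  Lre_e IH (LK LD1_c0 LD2_c46 LD3_c9) (LK LD1_c1 LD2_c39 LD3_c21) Lrfl Lrfl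
theorem f65500 : Led Lsl_et (LP (LK LD1_c1 LD2_c34 LD3_c26)) = (LP (LK LD1_c0 LD2_c43 LD3_c54)) :=
  Lre_e IH (LK LD1_c1 LD2_c34 LD3_c26) (LK LD1_c0 LD2_c43 LD3_c54) Lrfl Lrfl
theorem f115990 : Led Lsl_af (LP (LK LD1_c0 LD2_c46 LD3_c9)) = (LP (LK LD1_c0 LD2_c43 LD3_c54)) :=
  Lgr Lrot50 (Lpr_et (f94334 IH) (Lpr_at (f115983 IH) (Lpr_et (f65500 IH) (Lpn (LP (LK LD1_c0 LD2_c43 LD3_c54))))))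
theorem f98676 : Led Lsl_at (LP (LK LD1_c0 LD2_c20 LD3_c46)) = (LP (LK LD1_c0 LD2_c45 LD3_c47)) :=
  Lgr Lrot100 (Lpr_af (K3.f98674 IH) (Lpn (LP (LK LD1_c0 LD2_c45 LD3_c47))))
theorem f94491 : Led Lsl_bt (LP (LK LD1_c1 LD2_c34 LD3_c23)) = (LP (LK LD1_c0 LD2_c43 LD3_c54)) :=
  Lre_b IH (LK LD1_c1 LD2_c34 LD3_c23) (LK LD1_c0 LD2_c43 LD3_c54) Lrfl Lrfl
theorem f116001 : Led Lsl_at (LP (LK LD1_c1 LD2_c38 LD3_c44)) = (LP (LK LD1_c1 LD2_c34 LD3_c23)) :=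
  Lgr Lrot67 (Lpe (K3.f12769 IH) (Lpe (f98676 IH) (Lpe (K3.f94226 IH) (Lpr_af (f115990 IH) (Lpe (f94491 IH) (Lpn (LP (LK LD1_c1 LD2_c34 LD3_c23))))))))
theorem f98659 : Led Lsl_ft (LP (LK LD1_c0 LD2_c46 LD3_c20)) = (LP (LK LD1_c1 LD2_c38 LD3_c44)) :=
  Lgr Lrot75 (Lpe (K3.f97679 IH) (Lpr_ff (K3.f98657 IH) (Lpe (K3.f11077 IH) (Lpn (LP (LK LD1_c1 LD2_c38 LD3_c44))))))
theorem f12590 : Led Lsl_gt (LP (LK LD1_c0 LD2_c46 LD3_c20)) = (LP (LK LD1_c1 LD2_c39 LD3_c36)) :=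
  Lre_g IH (LK LD1_c0 LD2_c46 LD3_c20) (LK LD1_c1 LD2_c39 LD3_c36) Lrfl Lrfl
theorem f116007 : Led Lsl_gt (LP (LK LD1_c1 LD2_c39 LD3_c36)) = (LP (LK LD1_c1 LD2_c34 LD3_c23)) :=
  Lgr Lrot46 (Lpe (f12590 IH) (Lpr_ft (f98659 IH) (Lpr_at (f116001 IH) (Lpn (LP (LK LD1_c1 LD2_c34 LD3_c23))))))
theorem f65536 : Led Lsl_et (LP (LK LD1_c0 LD2_c49 LD3_c42)) = (LP (LK LD1_c0 LD2_c22 LD3_c19)) :=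
  Lre_e IH (LK LD1_c0 LD2_c49 LD3_c42) (LK LD1_c0 LD2_c22 LD3_c19) Lrfl Lrfl
theorem f116015 : Led Lsl_df (LP (LK LD1_c1 LD2_c39 LD3_c36)) = (LP (LK LD1_c0 LD2_c47 LD3_c57)) :=
  Lgr Lrot135 (Lpr_gt (f116007 IH) (Lpe (K3.f65533 IH) (Lpr_et (K3.f65497 IH) (Lpr_gt (K3.f65390 IH) (Lpe (f65536 IH) (Lpr_dt (K3.f65537 IH) (Lpr_gt (f115089 IH) (Lpe (f12101 IH) (Lpr_et (K3.f12093 IH) (Lpe (f115510 IH) (Lpn (LP (LK LD1_c0 LD2_c47 LD3_c57)))))))))))))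
theorem f116021 : Led Lsl_dt (LP (LK LD1_c1 LD2_c39 LD3_c36)) = (LP (LK LD1_c0 LD2_c47 LD3_c57)) :=
  Lgr Lrot42 (Lpr_df (f116015 IH) (Lpn (LP (LK LD1_c0 LD2_c47 LD3_c57))))
theorem f12579 : Led Lsl_dt (LP (LK LD1_c0 LD2_c20 LD3_c48)) = (LP (LK LD1_c0 LD2_c46 LD3_c20)) :=
  Lre_d IH (LK LD1_c0 LD2_c20 LD3_c48) (LK LD1_c0 LD2_c46 LD3_c20) Lrfl Lrfl
theorem f5811 : Led Lsl_ct (LP (LK LD1_c0 LD2_c22 LD3_c19)) = (LP (LK LD1_c0 LD2_c23 LD3_c4)) :=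
  Lre_c IH (LK LD1_c0 LD2_c22 LD3_c19) (LK LD1_c0 LD2_c23 LD3_c4) Lrfl Lrfl
theorem f26221 : Led Lsl_gt (LP (LK LD1_c0 LD2_c23 LD3_c4)) = (LP (LK LD1_c0 LD2_c10 LD3_c23)) :=
  Lre_g IH (LK LD1_c0 LD2_c23 LD3_c4) (LK LD1_c0 LD2_c10 LD3_c23) Lrfl Lrfl
theorem f86814 : Led Lsl_dt (LP (LK LD1_c0 LD2_c10 LD3_c23)) = (LP (LK LD1_c0 LD2_c23 LD3_c5)) :=
  Lre_d IH (LK LD1_c0 LD2_c10 LD3_c23) (LK LD1_c0 LD2_c23 LD3_c5) Lrfl Lrfl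
theorem f86815 : Led Lsl_gt (LP (LK LD1_c0 LD2_c23 LD3_c5)) = (LP (LK LD1_c0 LD2_c51 LD3_c6)) :=
  Lre_g IH (LK LD1_c0 LD2_c23 LD3_c5) (LK LD1_c0 LD2_c51 LD3_c6) Lrfl Lrfl
theorem f116055 : Led Lsl_dt (LP (LK LD1_c0 LD2_c51 LD3_c6)) = (LP (LK LD1_c0 LD2_c39 LD3_c58)) :=
  Lgr Lrot105 (Lpe (f86815 IH) (Lpe (f86814 IH) (Lpe (f26221 IH) (Lpe (f5811 IH) (Lpe (K3.f98609 IH) (Lpr_dt (f12579 IH) (Lpr_gt (f12590 IH) (Lpr_dt (f116021 IH) (Lpe (f109162 IH) (Lpn (LP (LK LD1_c0 LD2_c39 LD3_c58))))))))))))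
theorem f116065 : Led Lsl_ct (LP (LK LD1_c1 LD2_c48 LD3_c39)) = (LP (LK LD1_c0 LD2_c51 LD3_c6)) :=
  Lre_c IH (LK LD1_c1 LD2_c48 LD3_c39) (LK LD1_c0 LD2_c51 LD3_c6) Lrfl Lrfl
theorem f116066 : Led Lsl_dt (LP (LK LD1_c3 LD2_c43 LD3_c11)) = (LP (LK LD1_c1 LD2_c48 LD3_c39)) :=
  Lre_d IH (LK LD1_c3 LD2_c43 LD3_c11) (LK LD1_c1 LD2_c48 LD3_c39) Lrfl Lrfl
theorem f115512 : Led Lsl_ff (LP (LK LD1_c0 LD2_c21 LD3_c29)) = (LP (LK LD1_c0 LD2_c21 LD3_c59)) :=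
  Lgr Lrot52 (Lpr_at (K3.f87524 IH) (Lpr_gf (f115510 IH) (Lpr_gf (K3.f87517 IH) (Lpn (LP (LK LD1_c0 LD2_c21 LD3_c59))))))
theorem f11299 : Led Lsl_bt (LP (LK LD1_c0 LD2_c10 LD3_c24)) = (LP (LK LD1_c0 LD2_c4 LD3_c54)) :=
  Lre_b IH (LK LD1_c0 LD2_c10 LD3_c24) (LK LD1_c0 LD2_c4 LD3_c54) Lrfl Lrfl
theorem f11304 : Led Lsl_ct (LP (LK LD1_c0 LD2_c10 LD3_c24)) = (LP (LK LD1_c0 LD2_c23 LD3_c9)) :=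
  Lre_c IH (LK LD1_c0 LD2_c10 LD3_c24) (LK LD1_c0 LD2_c23 LD3_c9) Lrfl Lrfl
theorem f11305 : Led Lsl_gt (LP (LK LD1_c0 LD2_c51 LD3_c19)) = (LP (LK LD1_c0 LD2_c23 LD3_c9)) :=
  Lre_g IH (LK LD1_c0 LD2_c51 LD3_c19) (LK LD1_c0 LD2_c23 LD3_c9) Lrfl Lrfl
theorem f97284 : Led Lsl_cf (LP (LK LD1_c0 LD2_c51 LD3_c19)) = (LP (LK LD1_c0 LD2_c48 LD3_c60)) :=
  Lgr Lrot160 (Lpr_gt (f11305 IH) (Lpe (f11304 IH) (Lpr_bt (f11299 IH) (Lpe (K0.f11283 IH) (Lpr_ct (K0.f11064 IH) (Lpr_gt (K0.f11030 IH) (Lpe (K0.f3919 IH) (Lpr_bt (K0.f3939 IH) (Lpr_gt (K3.f97194 IH) (Lpe (K3.f97283 IH) (Lpn (LP (LK LD1_c0 LD2_c48 LD3_c60)))))))))))))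
theorem f116073 : Led Lsl_dt (LP (LK LD1_c0 LD2_c51 LD3_c19)) = (LP (LK LD1_c1 LD2_c49 LD3_c4)) :=
  Lre_d IH (LK LD1_c0 LD2_c51 LD3_c19) (LK LD1_c1 LD2_c49 LD3_c4) Lrfl Lrfl
theorem f116074 : Led Lsl_cf (LP (LK LD1_c3 LD2_c43 LD3_c11)) = (LP (LK LD1_c1 LD2_c49 LD3_c4)) :=
  Lgr Lrot116 (Lpr_dt (f116066 IH) (Lpr_ct (f116065 IH) (Lpr_dt (f116055 IH) (Lpr_ct (f109162 IH) (Lpe (K3.f87524 IH) (Lpr_ff (f115512 IH) (Lpr_dt (K3.f21171 IH) (Lpe (f97284 IH) (Lpr_dt (f116073 IH) (Lpn (LP (LK LD1_c1 LD2_c49 LD3_c4))))))))))))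
theorem f116082 : Led Lsl_ct (LP (LK LD1_c3 LD2_c43 LD3_c11)) = (LP (LK LD1_c1 LD2_c49 LD3_c4)) :=
  Lgr Lrot59 (Lpr_cf (f116074 IH) (Lpn (LP (LK LD1_c1 LD2_c49 LD3_c4))))
theorem f116088 : Led Lsl_dt (LP (LK LD1_c1 LD2_c48 LD3_c39)) = (LP (LK LD1_c3 LD2_c43 LD3_c11)) :=
  Lre_d IH (LK LD1_c1 LD2_c48 LD3_c39) (LK LD1_c3 LD2_c43 LD3_c11) Lrfl Lrfl
theorem f116089 : Led Lsl_ct (LP (LK LD1_c0 LD2_c51 LD3_c6)) = (LP (LK LD1_c1 LD2_c48 LD3_c39)) :=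
  Lre_c IH (LK LD1_c0 LD2_c51 LD3_c6) (LK LD1_c1 LD2_c48 LD3_c39) Lrfl Lrfl
theorem f116067 : Led Lsl_df (LP (LK LD1_c0 LD2_c51 LD3_c6)) = (LP (LK LD1_c0 LD2_c39 LD3_c58)) :=
  Lgr Lrot38 (Lpr_dt (f116055 IH) (Lpn (LP (LK LD1_c0 LD2_c39 LD3_c58))))
theorem f109445 : Led Lsl_gf (LP (LK LD1_c0 LD2_c48 LD3_c60)) = (LP (LK LD1_c1 LD2_c34 LD3_c23)) :=
  Lgr Lrot47 (Lpr_gt (K3.f109441 IH) (Lpe (K3.f98637 IH) (Lpr_ff (K3.f98635 IH) (Lpn (LP (LK LD1_c1 LD2_c34 LD3_c23))))))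
theorem f108747 : Led Lsl_at (LP (LK LD1_c1 LD2_c44 LD3_c37)) = (LP (LK LD1_c0 LD2_c48 LD3_c60)) :=
  Lre_a IH (LK LD1_c1 LD2_c44 LD3_c37) (LK LD1_c0 LD2_c48 LD3_c60) Lrfl Lrfl
theorem f116009 : Led Lsl_ft (LP (LK LD1_c1 LD2_c39 LD3_c36)) = (LP (LK LD1_c1 LD2_c44 LD3_c37)) :=
  Lgr Lrot2 (Lpr_gt (f116007 IH) (Lpe (f109445 IH) (Lpe (f108747 IH) (Lpn (LP (LK LD1_c1 LD2_c44 LD3_c37))))))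
theorem f116118 : Led Lsl_dt (LP (LK LD1_c1 LD2_c49 LD3_c4)) = (LP (LK LD1_c0 LD2_c51 LD3_c19)) :=
  Lre_d IH (LK LD1_c1 LD2_c49 LD3_c4) (LK LD1_c0 LD2_c51 LD3_c19) Lrfl Lrfl
theorem f116119 : Led Lsl_cf (LP (LK LD1_c0 LD2_c48 LD3_c60)) = (LP (LK LD1_c0 LD2_c51 LD3_c19)) :=
  Lgr Lrot102 (Lpe (f108747 IH) (Lpe (f116009 IH) (Lpr_dt (f116021 IH) (Lpe (K3.f109156 IH) (Lpe (f116067 IH) (Lpr_ct (f116089 IH) (Lpr_dt (f116088 IH) (Lpr_ct (f116082 IH) (Lpr_dt (f116118 IH) (Lpn (LP (LK LD1_c0 LD2_c51 LD3_c19))))))))))))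
theorem f116121 : Led Lsl_at (LP (LK LD1_c0 LD2_c50 LD3_c33)) = (LP (LK LD1_c0 LD2_c51 LD3_c19)) :=
  Lgr Lrot107 (Lpr_cf (K3.f108777 IH) (Lpe (K3.f108209 IH) (Lpr_cf (f116119 IH) (Lpn (LP (LK LD1_c0 LD2_c51 LD3_c19))))))
theorem f116275 : Led Lsl_et (LP (LK LD1_c1 LD2_c47 LD3_c34)) = (LP (LK LD1_c0 LD2_c50 LD3_c33)) :=
  Lre_e IH (LK LD1_c1 LD2_c47 LD3_c34) (LK LD1_c0 LD2_c50 LD3_c33) Lrfl Lrfl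
theorem f116151 : Led Lsl_et (LP (LK LD1_c0 LD2_c51 LD3_c19)) = (LP (LK LD1_c1 LD2_c49 LD3_c5)) :=
  Lre_e IH (LK LD1_c0 LD2_c51 LD3_c19) (LK LD1_c1 LD2_c49 LD3_c5) Lrfl Lrfl
theorem f116276 : Led Lsl_af (LP (LK LD1_c1 LD2_c47 LD3_c34)) = (LP (LK LD1_c1 LD2_c49 LD3_c5)) :=
  Lgr Lrot50 (Lpr_et (f116275 IH) (Lpr_at (f116121 IH) (Lpr_et (f116151 IH) (Lpn (LP (LK LD1_c1 LD2_c49 LD3_c5))))))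
theorem f116286 : Led Lsl_dt (LP (LK LD1_c1 LD2_c47 LD3_c34)) = (LP (LK LD1_c3 LD2_c41 LD3_c16)) :=
  Lre_d IH (LK LD1_c1 LD2_c47 LD3_c34) (LK LD1_c3 LD2_c41 LD3_c16) Lrfl Lrfl
theorem f116142 : Led Lsl_dt (LP (LK LD1_c3 LD2_c44 LD3_c5)) = (LP (LK LD1_c1 LD2_c49 LD3_c5)) :=
  Lre_d IH (LK LD1_c3 LD2_c44 LD3_c5) (LK LD1_c1 LD2_c49 LD3_c5) Lrfl Lrfl
theorem f116287 : Led Lsl_at (LP (LK LD1_c3 LD2_c41 LD3_c16)) = (LP (LK LD1_c3 LD2_c44 LD3_c5)) :=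
  Lgr Lrot51 (Lpe (f116286 IH) (Lpr_af (f116276 IH) (Lpe (f116142 IH) (Lpn (LP (LK LD1_c3 LD2_c44 LD3_c5))))))
theorem f116291 : Led Lsl_bt (LP (LK LD1_c7 LD2_c22 LD3_c54)) = (LP (LK LD1_c3 LD2_c41 LD3_c16)) :=
  Lre_b IH (LK LD1_c7 LD2_c22 LD3_c54) (LK LD1_c3 LD2_c41 LD3_c16) Lrfl Lrfl
theorem f116292 : Led Lsl_at (LP (LK LD1_c13 LD2_c57 LD3_c10)) = (LP (LK LD1_c7 LD2_c22 LD3_c54)) :=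
  Lre_a IH (LK LD1_c13 LD2_c57 LD3_c10) (LK LD1_c7 LD2_c22 LD3_c54) Lrfl Lrfl
theorem f116293 : Led Lsl_bt (LP (LK LD1_c3 LD2_c44 LD3_c5)) = (LP (LK LD1_c7 LD2_c28 LD3_c57)) :=
  Lre_b IH (LK LD1_c3 LD2_c44 LD3_c5) (LK LD1_c7 LD2_c28 LD3_c57) Lrfl Lrfl
theorem f116294 : Led Lsl_at (LP (LK LD1_c7 LD2_c28 LD3_c57)) = (LP (LK LD1_c14 LD2_c7 LD3_c22)) :=
  Lre_a IH (LK LD1_c7 LD2_c28 LD3_c57) (LK LD1_c14 LD2_c7 LD3_c22) Lrfl Lrfl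
theorem f116295 : Led Lsl_bf (LP (LK LD1_c13 LD2_c57 LD3_c10)) = (LP (LK LD1_c14 LD2_c7 LD3_c22)) :=
  Lgr Lrot81 (Lpr_at (f116292 IH) (Lpr_bt (f116291 IH) (Lpr_at (f116287 IH) (Lpr_bt (f116293 IH) (Lpr_at (f116294 IH) (Lpn (LP (LK LD1_c14 LD2_c7 LD3_c22))))))))
theorem f116429 : Led Lsl_bt (LP (LK LD1_c13 LD2_c57 LD3_c10)) = (LP (LK LD1_c14 LD2_c7 LD3_c22)) :=
  Lgr Lrot127 (Lpr_bf (f116295 IH) (Lpn (LP (LK LD1_c14 LD2_c7 LD3_c22))))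
theorem f116439 : Led Lsl_dt (LP (LK LD1_c7 LD2_c22 LD3_c47)) = (LP (LK LD1_c13 LD2_c57 LD3_c10)) :=
  Lre_d IH (LK LD1_c7 LD2_c22 LD3_c47) (LK LD1_c13 LD2_c57 LD3_c10) Lrfl Lrfl
theorem f116249 : Led Lsl_dt (LP (LK LD1_c14 LD2_c7 LD3_c22)) = (LP (LK LD1_c7 LD2_c28 LD3_c54)) :=
  Lre_d IH (LK LD1_c14 LD2_c7 LD3_c22) (LK LD1_c7 LD2_c28 LD3_c54) Lrfl Lrfl
theorem f116440 : Led Lsl_bf (LP (LK LD1_c7 LD2_c22 LD3_c47)) = (LP (LK LD1_c7 LD2_c28 LD3_c54)) :=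
  Lgr Lrot93 (Lpr_dt (f116439 IH) (Lpr_bt (f116429 IH) (Lpr_dt (f116249 IH) (Lpn (LP (LK LD1_c7 LD2_c28 LD3_c54))))))
theorem f116447 : Led Lsl_et (LP (LK LD1_c7 LD2_c22 LD3_c47)) = (LP (LK LD1_c3 LD2_c41 LD3_c12)) :=
  Lre_e IH (LK LD1_c7 LD2_c22 LD3_c47) (LK LD1_c3 LD2_c41 LD3_c12) Lrfl Lrfl
theorem f116238 : Led Lsl_et (LP (LK LD1_c3 LD2_c44 LD3_c2)) = (LP (LK LD1_c7 LD2_c28 LD3_c54)) :=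
  Lre_e IH (LK LD1_c3 LD2_c44 LD3_c2) (LK LD1_c7 LD2_c28 LD3_c54) Lrfl Lrfl
theorem f116448 : Led Lsl_bt (LP (LK LD1_c3 LD2_c41 LD3_c12)) = (LP (LK LD1_c3 LD2_c44 LD3_c2)) :=
  Lgr Lrot119 (Lpe (f116447 IH) (Lpr_bf (f116440 IH) (Lpe (f116238 IH) (Lpn (LP (LK LD1_c3 LD2_c44 LD3_c2))))))
theorem f87520 : Led Lsl_et (LP (LK LD1_c0 LD2_c48 LD3_c60)) = (LP (LK LD1_c1 LD2_c44 LD3_c38)) :=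
  Lre_e IH (LK LD1_c0 LD2_c48 LD3_c60) (LK LD1_c1 LD2_c44 LD3_c38) Lrfl Lrfl
theorem f116126 : Led Lsl_et (LP (LK LD1_c1 LD2_c49 LD3_c5)) = (LP (LK LD1_c0 LD2_c51 LD3_c19)) :=
  Lre_e IH (LK LD1_c1 LD2_c49 LD3_c5) (LK LD1_c0 LD2_c51 LD3_c19) Lrfl Lrfl
theorem f116127 : Led Lsl_ct (LP (LK LD1_c1 LD2_c44 LD3_c38)) = (LP (LK LD1_c1 LD2_c49 LD3_c5)) :=
  Lgr Lrot15 (Lpe (f87520 IH) (Lpr_cf (f116119 IH) (Lpe (f116126 IH) (Lpn (LP (LK LD1_c1 LD2_c49 LD3_c5))))))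
theorem f116138 : Led Lsl_cf (LP (LK LD1_c1 LD2_c44 LD3_c38)) = (LP (LK LD1_c1 LD2_c49 LD3_c5)) :=
  Lgr Lrot11 (Lpr_ct (f116127 IH) (Lpn (LP (LK LD1_c1 LD2_c49 LD3_c5))))
theorem f106214 : Led Lsl_bt (LP (LK LD1_c1 LD2_c44 LD3_c38)) = (LP (LK LD1_c0 LD2_c49 LD3_c2)) :=
  Lre_b IH (LK LD1_c1 LD2_c44 LD3_c38) (LK LD1_c0 LD2_c49 LD3_c2) Lrfl Lrfl
theorem f106228 : Led Lsl_bt (LP (LK LD1_c1 LD2_c44 LD3_c45)) = (LP (LK LD1_c3 LD2_c35 LD3_c44)) :=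
  Lre_b IH (LK LD1_c1 LD2_c44 LD3_c45) (LK LD1_c3 LD2_c35 LD3_c44) Lrfl Lrfl
theorem f116148 : Led Lsl_bt (LP (LK LD1_c3 LD2_c44 LD3_c3)) = (LP (LK LD1_c1 LD2_c49 LD3_c5)) :=
  Lre_b IH (LK LD1_c3 LD2_c44 LD3_c3) (LK LD1_c1 LD2_c49 LD3_c5) Lrfl Lrfl
theorem f116149 : Led Lsl_ct (LP (LK LD1_c3 LD2_c35 LD3_c44)) = (LP (LK LD1_c3 LD2_c44 LD3_c3)) :=
  Lgr Lrot83 (Lpe (f106228 IH) (Lpe (K3.f98527 IH) (Lpe (f106214 IH) (Lpr_cf (f116138 IH) (Lpe (f116148 IH) (Lpn (LP (LK LD1_c3 LD2_c44 LD3_c3))))))))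
theorem f108278 : Led Lsl_et (LP (LK LD1_c1 LD2_c44 LD3_c43)) = (LP (LK LD1_c3 LD2_c35 LD3_c44)) :=
  Lre_e IH (LK LD1_c1 LD2_c44 LD3_c43) (LK LD1_c3 LD2_c35 LD3_c44) Lrfl Lrfl
theorem f116167 : Led Lsl_et (LP (LK LD1_c3 LD2_c44 LD3_c3)) = (LP (LK LD1_c1 LD2_c49 LD3_c3)) :=
  Lre_e IH (LK LD1_c3 LD2_c44 LD3_c3) (LK LD1_c1 LD2_c49 LD3_c3) Lrfl Lrfl
theorem f116168 : Led Lsl_cf (LP (LK LD1_c1 LD2_c44 LD3_c43)) = (LP (LK LD1_c1 LD2_c49 LD3_c3)) :=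
  Lgr Lrot39 (Lpr_et (f108278 IH) (Lpr_ct (f116149 IH) (Lpr_et (f116167 IH) (Lpn (LP (LK LD1_c1 LD2_c49 LD3_c3))))))
theorem f108276 : Led Lsl_at (LP (LK LD1_c1 LD2_c44 LD3_c43)) = (LP (LK LD1_c3 LD2_c35 LD3_c43)) :=
  Lre_a IH (LK LD1_c1 LD2_c44 LD3_c43) (LK LD1_c3 LD2_c35 LD3_c43) Lrfl Lrfl
theorem f116187 : Led Lsl_at (LP (LK LD1_c3 LD2_c44 LD3_c2)) = (LP (LK LD1_c1 LD2_c49 LD3_c3)) :=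
  Lre_a IH (LK LD1_c3 LD2_c44 LD3_c2) (LK LD1_c1 LD2_c49 LD3_c3) Lrfl Lrfl
theorem f116188 : Led Lsl_ct (LP (LK LD1_c3 LD2_c35 LD3_c43)) = (LP (LK LD1_c3 LD2_c44 LD3_c2)) :=
  Lgr Lrot111 (Lpe (f108276 IH) (Lpr_cf (f116168 IH) (Lpe (f116187 IH) (Lpn (LP (LK LD1_c3 LD2_c44 LD3_c2))))))
theorem f116236 : Led Lsl_cf (LP (LK LD1_c3 LD2_c35 LD3_c43)) = (LP (LK LD1_c3 LD2_c44 LD3_c2)) :=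
  Lgr Lrot11 (Lpr_ct (f116188 IH) (Lpn (LP (LK LD1_c3 LD2_c44 LD3_c2))))
theorem f5859 : Led Lsl_bt (LP (LK LD1_c0 LD2_c49 LD3_c1)) = (LP (LK LD1_c1 LD2_c44 LD3_c43)) :=
  Lre_b IH (LK LD1_c0 LD2_c49 LD3_c1) (LK LD1_c1 LD2_c44 LD3_c43) Lrfl Lrfl
theorem f92349 : Led Lsl_bt (LP (LK LD1_c1 LD2_c42 LD3_c61)) = (LP (LK LD1_c0 LD2_c48 LD3_c9)) :=
  Lre_b IH (LK LD1_c1 LD2_c42 LD3_c61) (LK LD1_c0 LD2_c48 LD3_c9) Lrfl Lrfl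
theorem f108543 : Led Lsl_bt (LP (LK LD1_c3 LD2_c35 LD3_c43)) = (LP (LK LD1_c3 LD2_c32 LD3_c36)) :=
  Lgr Lrot62 (Lpe (f108276 IH) (Lpe (f5859 IH) (Lpr_af (K3.f108537 IH) (Lpe (f92349 IH) (Lpe (f92443 IH) (Lpn (LP (LK LD1_c3 LD2_c32 LD3_c36))))))))
theorem f92452 : Led Lsl_cf (LP (LK LD1_c3 LD2_c45 LD3_c40)) = (LP (LK LD1_c3 LD2_c32 LD3_c36)) :=
  Lgr Lrot11 (Lpr_ct (f92444 IH) (Lpn (LP (LK LD1_c3 LD2_c32 LD3_c36))))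
theorem f116452 : Led Lsl_cf (LP (LK LD1_c3 LD2_c41 LD3_c12)) = (LP (LK LD1_c3 LD2_c26 LD3_c2)) :=
  Lgr Lrot97 (Lpr_bt (f116448 IH) (Lpe (f116236 IH) (Lpr_bt (f108543 IH) (Lpe (f92452 IH) (Lpr_bt (f111485 IH) (Lpn (LP (LK LD1_c3 LD2_c26 LD3_c2))))))))
theorem f116269 : Led Lsl_at (LP (LK LD1_c3 LD2_c41 LD3_c12)) = (LP (LK LD1_c1 LD2_c47 LD3_c32)) :=
  Lre_a IH (LK LD1_c3 LD2_c41 LD3_c12) (LK LD1_c1 LD2_c47 LD3_c32) Lrfl Lrfl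
theorem f116455 : Led Lsl_ct (LP (LK LD1_c1 LD2_c47 LD3_c32)) = (LP (LK LD1_c3 LD2_c29 LD3_c22)) :=
  Lgr Lrot111 (Lpe (f116269 IH) (Lpr_cf (f116452 IH) (Lpe (f111452 IH) (Lpn (LP (LK LD1_c3 LD2_c29 LD3_c22))))))
theorem f12906 : Led Lsl_bt (LP (LK LD1_c1 LD2_c47 LD3_c32)) = (LP (LK LD1_c0 LD2_c50 LD3_c33)) :=
  Lre_b IH (LK LD1_c1 LD2_c47 LD3_c32) (LK LD1_c0 LD2_c50 LD3_c33) Lrfl Lrfl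
theorem f11307 : Led Lsl_et (LP (LK LD1_c0 LD2_c10 LD3_c26)) = (LP (LK LD1_c0 LD2_c4 LD3_c54)) :=
  Lre_e IH (LK LD1_c0 LD2_c10 LD3_c26) (LK LD1_c0 LD2_c4 LD3_c54) Lrfl Lrfl
theorem f4480 : Led Lsl_et (LP (LK LD1_c0 LD2_c4 LD3_c52)) = (LP (LK LD1_c0 LD2_c10 LD3_c19)) :=
  Lre_e IH (LK LD1_c0 LD2_c4 LD3_c52) (LK LD1_c0 LD2_c10 LD3_c19) Lrfl Lrfl
theorem f12758 : Led Lsl_cf (LP (LK LD1_c0 LD2_c10 LD3_c26)) = (LP (LK LD1_c0 LD2_c10 LD3_c19)) :=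
  Lgr Lrot39 (Lpr_et (f11307 IH) (Lpr_ct (K0.f12747 IH) (Lpr_et (f4480 IH) (Lpn (LP (LK LD1_c0 LD2_c10 LD3_c19))))))
theorem f12851 : Led Lsl_ct (LP (LK LD1_c0 LD2_c10 LD3_c26)) = (LP (LK LD1_c0 LD2_c10 LD3_c19)) :=
  Lgr Lrot59 (Lpr_cf (f12758 IH) (Lpn (LP (LK LD1_c0 LD2_c10 LD3_c19))))
theorem f12856 : Led Lsl_bt (LP (LK LD1_c0 LD2_c23 LD3_c10)) = (LP (LK LD1_c0 LD2_c10 LD3_c26)) :=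
  Lre_b IH (LK LD1_c0 LD2_c23 LD3_c10) (LK LD1_c0 LD2_c10 LD3_c26) Lrfl Lrfl
theorem f12857 : Led Lsl_ct (LP (LK LD1_c0 LD2_c51 LD3_c21)) = (LP (LK LD1_c0 LD2_c23 LD3_c10)) :=
  Lre_c IH (LK LD1_c0 LD2_c51 LD3_c21) (LK LD1_c0 LD2_c23 LD3_c10) Lrfl Lrfl
theorem f4483 : Led Lsl_bt (LP (LK LD1_c0 LD2_c10 LD3_c19)) = (LP (LK LD1_c0 LD2_c22 LD3_c52)) :=
  Lre_b IH (LK LD1_c0 LD2_c10 LD3_c19) (LK LD1_c0 LD2_c22 LD3_c52) Lrfl Lrfl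
theorem f4612 : Led Lsl_ct (LP (LK LD1_c0 LD2_c22 LD3_c52)) = (LP (LK LD1_c0 LD2_c50 LD3_c36)) :=
  Lre_c IH (LK LD1_c0 LD2_c22 LD3_c52) (LK LD1_c0 LD2_c50 LD3_c36) Lrfl Lrfl
theorem f12858 : Led Lsl_bf (LP (LK LD1_c0 LD2_c51 LD3_c21)) = (LP (LK LD1_c0 LD2_c50 LD3_c36)) :=
  Lgr Lrot90 (Lpr_ct (f12857 IH) (Lpr_bt (f12856 IH) (Lpr_ct (f12851 IH) (Lpr_bt (f4483 IH) (Lpr_ct (f4612 IH) (Lpn (LP (LK LD1_c0 LD2_c50 LD3_c36))))))))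
theorem f12874 : Led Lsl_et (LP (LK LD1_c0 LD2_c51 LD3_c21)) = (LP (LK LD1_c0 LD2_c23 LD3_c9)) :=
  Lre_e IH (LK LD1_c0 LD2_c51 LD3_c21) (LK LD1_c0 LD2_c23 LD3_c9) Lrfl Lrfl
theorem f12875 : Led Lsl_et (LP (LK LD1_c0 LD2_c22 LD3_c51)) = (LP (LK LD1_c0 LD2_c50 LD3_c36)) :=
  Lre_e IH (LK LD1_c0 LD2_c22 LD3_c51) (LK LD1_c0 LD2_c50 LD3_c36) Lrfl Lrfl
theorem f12876 : Led Lsl_bt (LP (LK LD1_c0 LD2_c23 LD3_c9)) = (LP (LK LD1_c0 LD2_c22 LD3_c51)) :=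
  Lgr Lrot119 (Lpe (f12874 IH) (Lpr_bf (f12858 IH) (Lpe (f12875 IH) (Lpn (LP (LK LD1_c0 LD2_c22 LD3_c51))))))
theorem f11300 : Led Lsl_ct (LP (LK LD1_c0 LD2_c23 LD3_c9)) = (LP (LK LD1_c0 LD2_c10 LD3_c24)) :=
  Lre_c IH (LK LD1_c0 LD2_c23 LD3_c9) (LK LD1_c0 LD2_c10 LD3_c24) Lrfl Lrfl
theorem f12766 : Led Lsl_gt (LP (LK LD1_c0 LD2_c23 LD3_c8)) = (LP (LK LD1_c0 LD2_c10 LD3_c24)) :=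
  Lre_g IH (LK LD1_c0 LD2_c23 LD3_c8) (LK LD1_c0 LD2_c10 LD3_c24) Lrfl Lrfl
theorem f12905 : Led Lsl_ct (LP (LK LD1_c0 LD2_c51 LD3_c16)) = (LP (LK LD1_c0 LD2_c23 LD3_c8)) :=
  Lre_c IH (LK LD1_c0 LD2_c51 LD3_c16) (LK LD1_c0 LD2_c23 LD3_c8) Lrfl Lrfl
theorem f12824 : Led Lsl_bt (LP (LK LD1_c3 LD2_c43 LD3_c30)) = (LP (LK LD1_c1 LD2_c48 LD3_c50)) :=
  Lre_b IH (LK LD1_c3 LD2_c43 LD3_c30) (LK LD1_c1 LD2_c48 LD3_c50) Lrfl Lrfl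
theorem f116531 : Led Lsl_gf (LP (LK LD1_c0 LD2_c51 LD3_c16)) = (LP (LK LD1_c1 LD2_c48 LD3_c50)) :=
  Lgr Lrot181 (Lpr_ct (f12905 IH) (Lpr_gt (f12766 IH) (Lpe (f11300 IH) (Lpr_bt (f12876 IH) (Lpr_gt (K3.f11407 IH) (Lpe (f12906 IH) (Lpr_ct (f116455 IH) (Lpe (f111339 IH) (Lpe (f12772 IH) (Lpr_bt (f12824 IH) (Lpn (LP (LK LD1_c1 LD2_c48 LD3_c50)))))))))))))
theorem f116536 : Led Lsl_ct (LP (LK LD1_c0 LD2_c23 LD3_c8)) = (LP (LK LD1_c0 LD2_c51 LD3_c16)) :=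
  Lre_c IH (LK LD1_c0 LD2_c23 LD3_c8) (LK LD1_c0 LD2_c51 LD3_c16) Lrfl Lrfl
theorem f116537 : Led Lsl_bt (LP (LK LD1_c0 LD2_c23 LD3_c8)) = (LP (LK LD1_c0 LD2_c51 LD3_c15)) :=
  Lre_b IH (LK LD1_c0 LD2_c23 LD3_c8) (LK LD1_c0 LD2_c51 LD3_c15) Lrfl Lrfl
theorem f107338 : Led Lsl_at (LP (LK LD1_c0 LD2_c47 LD3_c16)) = (LP (LK LD1_c1 LD2_c41 LD3_c21)) :=
  Lre_a IH (LK LD1_c0 LD2_c47 LD3_c16) (LK LD1_c1 LD2_c41 LD3_c21) Lrfl Lrfl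
theorem f107346 : Led Lsl_cf (LP (LK LD1_c1 LD2_c38 LD3_c47)) = (LP (LK LD1_c1 LD2_c41 LD3_c21)) :=
  Lgr Lrot1 (Lpr_at (K3.f107342 IH) (Lpr_ct (K3.f11444 IH) (Lpr_at (f107338 IH) (Lpn (LP (LK LD1_c1 LD2_c41 LD3_c21))))))
theorem f116538 : Led Lsl_gt (LP (LK LD1_c0 LD2_c51 LD3_c15)) = (LP (LK LD1_c1 LD2_c41 LD3_c21)) :=
  Lgr Lrot82 (Lpe (f116537 IH) (Lpr_ct (f116536 IH) (Lpr_gf (f116531 IH) (Lpr_cf (K3.f12764 IH) (Lpr_bt (K3.f11077 IH) (Lpe (K2.f19157 IH) (Lpe (K2.f11411 IH) (Lpr_ct (K2.f18077 IH) (Lpr_gf (K2.f18228 IH) (Lpr_cf (f107346 IH) (Lpn (LP (LK LD1_c1 LD2_c41 LD3_c21)))))))))))))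
theorem f116541 : Led Lsl_bf (LP (LK LD1_c1 LD2_c41 LD3_c21)) = (LP (LK LD1_c0 LD2_c51 LD3_c58)) :=
  Lgr Lrot34 (Lpe (f116538 IH) (Lpe (f116537 IH) (Lpr_ct (f116536 IH) (Lpr_gf (f116531 IH) (Lpr_cf (K3.f12764 IH) (Lpe (K3.f109118 IH) (Lpe (K3.f98545 IH) (Lpr_ct (K3.f92336 IH) (Lpe (K3.f94418 IH) (Lpr_cf (K3.f109106 IH) (Lpn (LP (LK LD1_c0 LD2_c51 LD3_c58)))))))))))))
theorem f94431 : Led Lsl_gf (LP (LK LD1_c1 LD2_c42 LD3_c50)) = (LP (LK LD1_c0 LD2_c48 LD3_c9)) :=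
  Lgr Lrot144 (Lpr_dt (K3.f94419 IH) (Lpr_gt (K3.f94420 IH) (Lpr_dt (K3.f17506 IH) (Lpe (K3.f5901 IH) (Lpe (K3.f92518 IH) (Lpe (K0.f5709 IH) (Lpe (K0.f4965 IH) (Lpr_gf (K2.f92338 IH) (Lpe (K3.f10780 IH) (Lpn (LP (LK LD1_c0 LD2_c48 LD3_c9))))))))))))
theorem f10778 : Led Lsl_ct (LP (LK LD1_c0 LD2_c21 LD3_c35)) = (LP (LK LD1_c0 LD2_c48 LD3_c9)) :=
  Lre_c IH (LK LD1_c0 LD2_c21 LD3_c35) (LK LD1_c0 LD2_c48 LD3_c9) Lrfl Lrfl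
theorem f11638 : Led Lsl_bt (LP (LK LD1_c0 LD2_c21 LD3_c35)) = (LP (LK LD1_c0 LD2_c48 LD3_c7)) :=
  Lre_b IH (LK LD1_c0 LD2_c21 LD3_c35) (LK LD1_c0 LD2_c48 LD3_c7) Lrfl Lrfl
theorem f116562 : Led Lsl_gt (LP (LK LD1_c1 LD2_c41 LD3_c21)) = (LP (LK LD1_c0 LD2_c51 LD3_c36)) :=
  Lgr Lrot82 (Lpr_bf (f116541 IH) (Lpe (K3.f109106 IH) (Lpr_gf (f94431 IH) (Lpe (f10778 IH) (Lpr_bt (f11638 IH) (Lpe (K2.f94615 IH) (Lpe (K2.f94614 IH) (Lpr_ct (K2.f20202 IH) (Lpe (K2.f94532 IH) (Lpr_cf (K2.f94610 IH) (Lpn (LP (LK LD1_c0 LD2_c51 LD3_c36)))))))))))))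
theorem f92275 : Led Lsl_gf (LP (LK LD1_c0 LD2_c46 LD3_c60)) = (LP (LK LD1_c0 LD2_c47 LD3_c60)) :=
  Lgr Lrot147 (Lpr_ct (K2.f90180 IH) (Lpr_gt (K2.f68352 IH) (Lpr_ct (K2.f66821 IH) (Lpe (K1.f12844 IH) (Lpe (K2.f11053 IH) (Lpe (K2.f65857 IH) (Lpe (K2.f5728 IH) (Lpe (K2.f65871 IH) (Lpr_df (K2.f90600 IH) (Lpn (LP (LK LD1_c0 LD2_c47 LD3_c60))))))))))))
theorem f116564 : Led Lsl_cf (LP (LK LD1_c1 LD2_c41 LD3_c21)) = (LP (LK LD1_c1 LD2_c38 LD3_c47)) :=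
  Lgr Lrot166 (Lpr_gt (f116562 IH) (Lpr_dt (K2.f92272 IH) (Lpe (f92275 IH) (Lpe (K2.f90576 IH) (Lpr_ct (K2.f11954 IH) (Lpe (K2.f11972 IH) (Lpr_gf (K2.f90977 IH) (Lpe (K2.f90934 IH) (Lpr_gf (K2.f18228 IH) (Lpn (LP (LK LD1_c1 LD2_c38 LD3_c47))))))))))))
theorem f116553 : Led Lsl_bt (LP (LK LD1_c1 LD2_c41 LD3_c21)) = (LP (LK LD1_c0 LD2_c51 LD3_c58)) :=
  Lgr Lrot127 (Lpr_bf (f116541 IH) (Lpn (LP (LK LD1_c0 LD2_c51 LD3_c58))))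
theorem f10762 : Led Lsl_dt (LP (LK LD1_c0 LD2_c49 LD3_c7)) = (LP (LK LD1_c0 LD2_c22 LD3_c1)) :=
  Lre_d IH (LK LD1_c0 LD2_c49 LD3_c7) (LK LD1_c0 LD2_c22 LD3_c1) Lrfl Lrfl
theorem f109112 : Led Lsl_gf (LP (LK LD1_c0 LD2_c49 LD3_c7)) = (LP (LK LD1_c0 LD2_c51 LD3_c58)) :=
  Lgr Lrot144 (Lpr_dt (f10762 IH) (Lpr_gt (K3.f90092 IH) (Lpe (K3.f84728 IH) (Lpe (K2.f11538 IH) (Lpe (K3.f11557 IH) (Lpe (K3.f97405 IH) (Lpe (K3.f92337 IH) (Lpe (K3.f94418 IH) (Lpr_cf (K3.f109106 IH) (Lpn (LP (LK LD1_c0 LD2_c51 LD3_c58))))))))))))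
theorem f91262 : Led Lsl_bt (LP (LK LD1_c0 LD2_c52 LD3_c18)) = (LP (LK LD1_c1 LD2_c50 LD3_c48)) :=
  Lre_b IH (LK LD1_c0 LD2_c52 LD3_c18) (LK LD1_c1 LD2_c50 LD3_c48) Lrfl Lrfl
theorem f91265 : Led Lsl_gt (LP (LK LD1_c1 LD2_c50 LD3_c48)) = (LP (LK LD1_c3 LD2_c47 LD3_c22)) :=
  Lre_g IH (LK LD1_c1 LD2_c50 LD3_c48) (LK LD1_c3 LD2_c47 LD3_c22) Lrfl Lrfl
theorem f62178 : Led Lsl_bt (LP (LK LD1_c1 LD2_c35 LD3_c18)) = (LP (LK LD1_c0 LD2_c44 LD3_c17)) :=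
  Lre_b IH (LK LD1_c1 LD2_c35 LD3_c18) (LK LD1_c0 LD2_c44 LD3_c17) Lrfl Lrfl
theorem f62179 : Led Lsl_ct (LP (LK LD1_c3 LD2_c17 LD3_c30)) = (LP (LK LD1_c1 LD2_c35 LD3_c18)) :=
  Lre_c IH (LK LD1_c3 LD2_c17 LD3_c30) (LK LD1_c1 LD2_c35 LD3_c18) Lrfl Lrfl
theorem f116659 : Led Lsl_dt (LP (LK LD1_c3 LD2_c47 LD3_c22)) = (LP (LK LD1_c3 LD2_c17 LD3_c30)) :=
  Lgr Lrot182 (Lpe (f91265 IH) (Lpe (f91262 IH) (Lpe (K3.f91234 IH) (Lpe (K3.f17777 IH) (Lpe (K3.f17776 IH) (Lpe (K0.f17729 IH) (Lpe (K0.f10766 IH) (Lpe (f10762 IH) (Lpr_gf (f109112 IH) (Lpe (f116553 IH) (Lpr_cf (f116564 IH) (Lpr_df (K2.f95361 IH) (Lpe (K2.f11835 IH) (Lpe (K3.f15533 IH) (Lpe (K2.f65194 IH) (Lpe (K1.f62192 IH) (Lpe (K1.f62191 IH) (Lpe (f62178 IH) (Lpe (f62179 IH) (Lpn (LP (LK LD1_c3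 LD2_c17 LD3_c30))))))))))))))))))))))
theorem f62259 : Led Lsl_ct (LP (LK LD1_c3 LD2_c28 LD3_c35)) = (LP (LK LD1_c6 LD2_c59 LD3_c0)) :=
  Lre_c IH (LK LD1_c3 LD2_c28 LD3_c35) (LK LD1_c6 LD2_c59 LD3_c0) Lrfl Lrfl
theorem f62260 : Led Lsl_bt (LP (LK LD1_c3 LD2_c17 LD3_c32)) = (LP (LK LD1_c1 LD2_c35 LD3_c20)) :=
  Lre_b IH (LK LD1_c3 LD2_c17 LD3_c32) (LK LD1_c1 LD2_c35 LD3_c20) Lrfl Lrfl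
theorem f62261 : Led Lsl_ct (LP (LK LD1_c6 LD2_c38 LD3_c22)) = (LP (LK LD1_c3 LD2_c17 LD3_c32)) :=
  Lre_c IH (LK LD1_c6 LD2_c38 LD3_c22) (LK LD1_c3 LD2_c17 LD3_c32) Lrfl Lrfl
theorem f62262 : Led Lsl_bt (LP (LK LD1_c6 LD2_c59 LD3_c0)) = (LP (LK LD1_c6 LD2_c38 LD3_c22)) :=
  Lgr Lrot128 (Lpe (f62259 IH) (Lpe (K3.f62234 IH) (Lpr_cf (K3.f62212 IH) (Lpe (f62260 IH) (Lpe (f62261 IH) (Lpn (LP (LK LD1_c6 LD2_c38 LD3_c22))))))))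
theorem f62278 : Led Lsl_et (LP (LK LD1_c3 LD2_c28 LD3_c34)) = (LP (LK LD1_c6 LD2_c59 LD3_c0)) :=
  Lre_e IH (LK LD1_c3 LD2_c28 LD3_c34) (LK LD1_c6 LD2_c59 LD3_c0) Lrfl Lrfl
theorem f62279 : Led Lsl_et (LP (LK LD1_c6 LD2_c38 LD3_c22)) = (LP (LK LD1_c3 LD2_c17 LD3_c30)) :=
  Lre_e IH (LK LD1_c6 LD2_c38 LD3_c22) (LK LD1_c3 LD2_c17 LD3_c30) Lrfl Lrfl
theorem f62280 : Led Lsl_bf (LP (LK LD1_c3 LD2_c28 LD3_c34)) = (LP (LK LD1_c3 LD2_c17 LD3_c30)) :=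
  Lgr Lrot96 (Lpr_et (f62278 IH) (Lpr_bt (f62262 IH) (Lpr_et (f62279 IH) (Lpn (LP (LK LD1_c3 LD2_c17 LD3_c30))))))
theorem f77835 : Led Lsl_bt (LP (LK LD1_c0 LD2_c45 LD3_c14)) = (LP (LK LD1_c1 LD2_c37 LD3_c41)) :=
  Lre_b IH (LK LD1_c0 LD2_c45 LD3_c14) (LK LD1_c1 LD2_c37 LD3_c41) Lrfl Lrfl
theorem f61705 : Led Lsl_bt (LP (LK LD1_c1 LD2_c26 LD3_c43)) = (LP (LK LD1_c1 LD2_c6 LD3_c38)) :=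
  Lgr Lrot127 (Lpr_bf (K3.f61675 IH) (Lpn (LP (LK LD1_c1 LD2_c6 LD3_c38))))
theorem f77836 : Led Lsl_cf (LP (LK LD1_c0 LD2_c45 LD3_c14)) = (LP (LK LD1_c1 LD2_c6 LD3_c37)) :=
  Lgr Lrot97 (Lpr_bt (f77835 IH) (Lpr_ct (f77833 IH) (Lpr_bt (f61705 IH) (Lpr_ct (K3.f61674 IH) (Lpr_bt (f61710 IH) (Lpn (LP (LK LD1_c1 LD2_c6 LD3_c37))))))))
theorem f90469 : Led Lsl_dt (LP (LK LD1_c1 LD2_c40 LD3_c53)) = (LP (LK LD1_c3 LD2_c23 LD3_c0)) :=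
  Lgr Lrot44 (Lpe (f90140 IH) (Lpe (K3.f17664 IH) (Lpr_af (K3.f90457 IH) (Lpn (LP (LK LD1_c3 LD2_c23 LD3_c0))))))
theorem f23486 : Led Lsl_dt (LP (LK LD1_c1 LD2_c7 LD3_c12)) = (LP (LK LD1_c0 LD2_c30 LD3_c50)) :=
  Lre_d IH (LK LD1_c1 LD2_c7 LD3_c12) (LK LD1_c0 LD2_c30 LD3_c50) Lrfl Lrfl
theorem f113122 : Led Lsl_dt (LP (LK LD1_c0 LD2_c20 LD3_c5)) = (LP (LK LD1_c0 LD2_c31 LD3_c12)) :=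
  Lgr Lrot57 (Lpe (f20085 IH) (Lpr_cf (f77836 IH) (Lpr_gt (f113116 IH) (Lpr_dt (f90469 IH) (Lpr_gt (K3.f103181 IH) (Lpr_dt (K2.f23491 IH) (Lpe (K2.f23312 IH) (Lpe (f23486 IH) (Lpe (K3.f109972 IH) (Lpn (LP (LK LD1_c0 LD2_c31 LD3_c12))))))))))))
theorem f113128 : Led Lsl_df (LP (LK LD1_c0 LD2_c20 LD3_c5)) = (LP (LK LD1_c0 LD2_c31 LD3_c12)) :=
  Lgr Lrot38 (Lpr_dt (f113122 IH) (Lpn (LP (LK LD1_c0 LD2_c31 LD3_c12))))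
theorem f5833 : Led Lsl_gt (LP (LK LD1_c0 LD2_c20 LD3_c5)) = (LP (LK LD1_c0 LD2_c45 LD3_c13)) :=
  Lre_g IH (LK LD1_c0 LD2_c20 LD3_c5) (LK LD1_c0 LD2_c45 LD3_c13) Lrfl Lrfl
theorem f62897 : Led Lsl_ct (LP (LK LD1_c1 LD2_c32 LD3_c35)) = (LP (LK LD1_c0 LD2_c42 LD3_c54)) :=
  Lre_c IH (LK LD1_c1 LD2_c32 LD3_c35) (LK LD1_c0 LD2_c42 LD3_c54) Lrfl Lrfl
theorem f62898 : Led Lsl_bt (LP (LK LD1_c3 LD2_c12 LD3_c8)) = (LP (LK LD1_c1 LD2_c32 LD3_c35)) :=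
  Lre_b IH (LK LD1_c3 LD2_c12 LD3_c8) (LK LD1_c1 LD2_c32 LD3_c35) Lrfl Lrfl
theorem f111887 : Led Lsl_cf (LP (LK LD1_c3 LD2_c12 LD3_c8)) = (LP (LK LD1_c1 LD2_c50 LD3_c43)) :=
  Lgr Lrot97 (Lpr_bt (f62898 IH) (Lpr_ct (f62897 IH) (Lpr_bt (f62868 IH) (Lpe (f62892 IH) (Lpr_bt (f111881 IH) (Lpn (LP (LK LD1_c1 LD2_c50 LD3_c43))))))))
theorem f111885 : Led Lsl_bf (LP (LK LD1_c1 LD2_c34 LD3_c3)) = (LP (LK LD1_c1 LD2_c50 LD3_c43)) :=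
  Lgr Lrot24 (Lpr_bt (f111881 IH) (Lpn (LP (LK LD1_c1 LD2_c50 LD3_c43))))
theorem f24147 : Led Lsl_ct (LP (LK LD1_c1 LD2_c33 LD3_c59)) = (LP (LK LD1_c0 LD2_c43 LD3_c36)) :=
  Lre_c IH (LK LD1_c1 LD2_c33 LD3_c59) (LK LD1_c0 LD2_c43 LD3_c36) Lrfl Lrfl
theorem f18248 : Led Lsl_bt (LP (LK LD1_c1 LD2_c41 LD3_c45)) = (LP (LK LD1_c0 LD2_c47 LD3_c25)) :=
  Lre_b IH (LK LD1_c1 LD2_c41 LD3_c45) (LK LD1_c0 LD2_c47 LD3_c25) Lrfl Lrfl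
theorem f18250 : Led Lsl_bt (LP (LK LD1_c1 LD2_c41 LD3_c49)) = (LP (LK LD1_c1 LD2_c38 LD3_c48)) :=
  Lgr Lrot35 (Lpe (K1.f18249 IH) (Lpe (f18248 IH) (Lpr_ff (K2.f18245 IH) (Lpn (LP (LK LD1_c1 LD2_c38 LD3_c48))))))
theorem f112094 : Led Lsl_bt (LP (LK LD1_c1 LD2_c33 LD3_c59)) = (LP (LK LD1_c1 LD2_c40 LD3_c12)) :=
  Lgr Lrot22 (Lpr_ct (f24147 IH) (Lpe (K2.f24032 IH) (Lpe (K3.f24017 IH) (Lpe (f24203 IH) (Lpr_bf (f111885 IH) (Lpe (f111887 IH) (Lpr_gf (f112086 IH) (Lpe (K3.f19122 IH) (Lpr_bt (f18250 IH) (Lpe (K2.f90979 IH) (Lpn (LP (LK LD1_c1 LD2_c40 LD3_c12)))))))))))))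
theorem f112958 : Led Lsl_df (LP (LK LD1_c0 LD2_c43 LD3_c36)) = (LP (LK LD1_c0 LD2_c45 LD3_c13)) :=
  Lgr Lrot183 (Lpr_ct (K2.f24033 IH) (Lpr_bt (f112094 IH) (Lpr_gt (K2.f90979 IH) (Lpr_dt (K1.f11054 IH) (Lpr_ct (K2.f11053 IH) (Lpr_bt (K1.f11052 IH) (Lpr_gt (K0.f11030 IH) (Lpr_dt (K0.f3918 IH) (Lpr_ct (K0.f3900 IH) (Lpe (K0.f3910 IH) (Lpr_gt (K0.f123 IH) (Lpr_dt (K0.f124 IH) (Lpr_ct (K0.f139 IH) (Lpr_bt (K0.f362 IH) (Lpr_gt (K0.f363 IH) (Lpr_dt (K0.f3965 IH) (Lpr_ct (K0.f5831 IH) (Lpr_bt (f5832 IH) (Lpr_gt (f5833 IH) (Lpn (LP (LK LD1_c0 LD2_c45 LD3_c13))))))))))))))))))))))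
theorem f112954 : Led Lsl_df (LP (LK LD1_c1 LD2_c33 LD3_c59)) = (LP (LK LD1_c1 LD2_c40 LD3_c11)) :=
  Lgr Lrot12 (Lpr_bt (f112094 IH) (Lpr_dt (K2.f11972 IH) (Lpr_bt (K2.f11960 IH) (Lpn (LP (LK LD1_c1 LD2_c40 LD3_c11))))))
theorem f12038 : Led Lsl_gt (LP (LK LD1_c3 LD2_c27 LD3_c10)) = (LP (LK LD1_c1 LD2_c40 LD3_c11)) :=
  Lre_g IH (LK LD1_c3 LD2_c27 LD3_c10) (LK LD1_c1 LD2_c40 LD3_c11) Lrfl Lrfl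
theorem f113309 : Led Lsl_df (LP (LK LD1_c3 LD2_c27 LD3_c10)) = (LP (LK LD1_c3 LD2_c28 LD3_c34)) :=
  Lgr Lrot153 (Lpr_gt (f12038 IH) (Lpe (f112954 IH) (Lpe (K2.f24033 IH) (Lpr_df (f112958 IH) (Lpe (f5833 IH) (Lpr_df (f113128 IH) (Lpe (K2.f78109 IH) (Lpe (K3.f78115 IH) (Lpr_gt (f111009 IH) (Lpn (LP (LK LD1_c3 LD2_c28 LD3_c34))))))))))))
theorem f116661 : Led Lsl_bf (LP (LK LD1_c3 LD2_c47 LD3_c22)) = (LP (LK LD1_c3 LD2_c27 LD3_c10)) :=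
  Lgr Lrot93 (Lpr_dt (f116659 IH) (Lpe (f62280 IH) (Lpe (f113309 IH) (Lpn (LP (LK LD1_c3 LD2_c27 LD3_c10))))))
theorem f17461 : Led Lsl_bt (LP (LK LD1_c0 LD2_c52 LD3_c30)) = (LP (LK LD1_c0 LD2_c23 LD3_c44)) :=
  Lre_b IH (LK LD1_c0 LD2_c52 LD3_c30) (LK LD1_c0 LD2_c23 LD3_c44) Lrfl Lrfl
theorem f17462 : Led Lsl_gt (LP (LK LD1_c3 LD2_c48 LD3_c12)) = (LP (LK LD1_c1 LD2_c51 LD3_c6)) :=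
  Lre_g IH (LK LD1_c3 LD2_c48 LD3_c12) (LK LD1_c1 LD2_c51 LD3_c6) Lrfl Lrfl
theorem f116692 : Led Lsl_cf (LP (LK LD1_c3 LD2_c48 LD3_c12)) = (LP (LK LD1_c3 LD2_c27 LD3_c10)) :=
  Lgr Lrot160 (Lpr_gt (f17462 IH) (Lpe (K2.f11849 IH) (Lpr_bt (f17461 IH) (Lpr_gt (K0.f17302 IH) (Lpe (K0.f17311 IH) (Lpe (K3.f96758 IH) (Lpr_cf (K3.f91236 IH) (Lpr_bt (f91262 IH) (Lpr_gt (f91265 IH) (Lpr_bf (f116661 IH) (Lpn (LP (LK LD1_c3 LD2_c27 LD3_c10)))))))))))))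
theorem f59428 : Led Lsl_bt (LP (LK LD1_c0 LD2_c19 LD3_c8)) = (LP (LK LD1_c0 LD2_c42 LD3_c60)) :=
  Lre_b IH (LK LD1_c0 LD2_c19 LD3_c8) (LK LD1_c0 LD2_c42 LD3_c60) Lrfl Lrfl
theorem f26610 : Led Lsl_dt (LP (LK LD1_c0 LD2_c3 LD3_c39)) = (LP (LK LD1_c0 LD2_c5 LD3_c56)) :=
  Lgr Lrot6 (Lpr_gt (K0.f7112 IH) (Lpr_ct (K0.f7111 IH) (Lpr_gt (K0.f7098 IH) (Lpqs (K0.f26331 IH) (Lpr_ct (K0.f8174 IH) (Lpe (K1.f8235 IH) (Lpr_cf (K0.f26586 IH) (Lpe (K0.f20307 IH) (Lpe (K0.f20188 IH) (Lpe (K0.f6844 IH) (Lpn (LP (LK LD1_c0 LD2_c5 LD3_c56)))))))))))))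
theorem f59422 : Led Lsl_gt (LP (LK LD1_c0 LD2_c37 LD3_c24)) = (LP (LK LD1_c0 LD2_c29 LD3_c28)) :=
  Lgr Lrot49 (Lpe (K1.f56579 IH) (Lpr_gf (K1.f59332 IH) (Lpe (K1.f16656 IH) (Lpr_gt (K0.f21001 IH) (Lpr_dt (K0.f7104 IH) (Lpr_gt (K0.f205 IH) (Lpr_dt (f26610 IH) (Lpe (K2.f20299 IH) (Lpe (K2.f20306 IH) (Lpn (LP (LK LD1_c0 LD2_c29 LD3_c28))))))))))))
theorem f25206 : Led Lsl_bt (LP (LK LD1_c0 LD2_c13 LD3_c43)) = (LP (LK LD1_c0 LD2_c30 LD3_c53)) :=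
  Lre_b IH (LK LD1_c0 LD2_c13 LD3_c43) (LK LD1_c0 LD2_c30 LD3_c53) Lrfl Lrfl
theorem f25207 : Led Lsl_gt (LP (LK LD1_c0 LD2_c30 LD3_c53)) = (LP (LK LD1_c1 LD2_c7 LD3_c17)) :=
  Lre_g IH (LK LD1_c0 LD2_c30 LD3_c53) (LK LD1_c1 LD2_c7 LD3_c17) Lrfl Lrfl
theorem f25208 : Led Lsl_ct (LP (LK LD1_c1 LD2_c7 LD3_c17)) = (LP (LK LD1_c2 LD2_c20 LD3_c1)) :=
  Lre_c IH (LK LD1_c1 LD2_c7 LD3_c17) (LK LD1_c2 LD2_c20 LD3_c1) Lrfl Lrfl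
theorem f91964 : Led Lsl_gt (LP (LK LD1_c2 LD2_c20 LD3_c1)) = (LP (LK LD1_c3 LD2_c22 LD3_c58)) :=
  Lgr Lrot149 (Lpe (f25208 IH) (Lpe (f25207 IH) (Lpe (f25206 IH) (Lpr_ct (K2.f25182 IH) (Lpe (f59422 IH) (Lpr_cf (K1.f59426 IH) (Lpr_bt (f59428 IH) (Lpr_gf (K2.f91947 IH) (Lpe (K3.f91959 IH) (Lpr_ct (K2.f91963 IH) (Lpn (LP (LK LD1_c3 LD2_c22 LD3_c58)))))))))))))
theorem f116699 : Led Lsl_dt (LP (LK LD1_c1 LD2_c51 LD3_c6)) = (LP (LK LD1_c2 LD2_c20 LD3_c1)) :=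
  Lgr Lrot57 (Lpe (f17462 IH) (Lpr_cf (f116692 IH) (Lpr_gt (f12038 IH) (Lpe (f112954 IH) (Lpr_gt (K2.f24034 IH) (Lpe (f93201 IH) (Lpe (K2.f95581 IH) (Lpe (K2.f91968 IH) (Lpe (f91964 IH) (Lpn (LP (LK LD1_c2 LD2_c20 LD3_c1))))))))))))
theorem f11853 : Led Lsl_gt (LP (LK LD1_c1 LD2_c51 LD3_c16)) = (LP (LK LD1_c0 LD2_c52 LD3_c30)) :=
  Lre_g IH (LK LD1_c1 LD2_c51 LD3_c16) (LK LD1_c0 LD2_c52 LD3_c30) Lrfl Lrfl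
theorem f11854 : Led Lsl_bt (LP (LK LD1_c0 LD2_c10 LD3_c40)) = (LP (LK LD1_c0 LD2_c23 LD3_c51)) :=
  Lre_b IH (LK LD1_c0 LD2_c10 LD3_c40) (LK LD1_c0 LD2_c23 LD3_c51) Lrfl Lrfl
theorem f11848 : Led Lsl_bt (LP (LK LD1_c1 LD2_c51 LD3_c6)) = (LP (LK LD1_c0 LD2_c52 LD3_c26)) :=
  Lre_b IH (LK LD1_c1 LD2_c51 LD3_c6) (LK LD1_c0 LD2_c52 LD3_c26) Lrfl Lrfl
theorem f11852 : Led Lsl_ct (LP (LK LD1_c1 LD2_c51 LD3_c6)) = (LP (LK LD1_c0 LD2_c52 LD3_c30)) :=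
  Lre_c IH (LK LD1_c1 LD2_c51 LD3_c6) (LK LD1_c0 LD2_c52 LD3_c30) Lrfl Lrfl
theorem f64307 : Led Lsl_ct (LP (LK LD1_c1 LD2_c36 LD3_c19)) = (LP (LK LD1_c1 LD2_c51 LD3_c16)) :=
  Lgr Lrot91 (Lpr_gf (K1.f64297 IH) (Lpe (K1.f11857 IH) (Lpr_ct (K1.f11856 IH) (Lpe (K0.f11518 IH) (Lpe (K1.f11855 IH) (Lpr_bt (f11854 IH) (Lpr_gf (K0.f11521 IH) (Lpe (f11848 IH) (Lpr_ct (f11852 IH) (Lpe (f11853 IH) (Lpn (LP (LK LD1_c1 LD2_c51 LD3_c16)))))))))))))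
theorem f11850 : Led Lsl_dt (LP (LK LD1_c1 LD2_c51 LD3_c18)) = (LP (LK LD1_c0 LD2_c52 LD3_c30)) :=
  Lre_d IH (LK LD1_c1 LD2_c51 LD3_c18) (LK LD1_c0 LD2_c52 LD3_c30) Lrfl Lrfl
theorem f25191 : Led Lsl_ct (LP (LK LD1_c1 LD2_c7 LD3_c19)) = (LP (LK LD1_c0 LD2_c30 LD3_c53)) :=
  Lre_c IH (LK LD1_c1 LD2_c7 LD3_c19) (LK LD1_c0 LD2_c30 LD3_c53) Lrfl Lrfl
theorem f116711 : Led Lsl_gt (LP (LK LD1_c1 LD2_c51 LD3_c18)) = (LP (LK LD1_c1 LD2_c7 LD3_c19)) :=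
  Lgr Lrot146 (Lpr_dt (f11850 IH) (Lpe (K1.f64297 IH) (Lpr_ct (f64307 IH) (Lpr_gt (f11853 IH) (Lpr_ct (K2.f11849 IH) (Lpr_dt (f116699 IH) (Lpe (f25208 IH) (Lpe (f25207 IH) (Lpe (f25191 IH) (Lpn (LP (LK LD1_c1 LD2_c7 LD3_c19))))))))))))
theorem f89399 : Led Lsl_bt (LP (LK LD1_c1 LD2_c29 LD3_c41)) = (LP (LK LD1_c0 LD2_c41 LD3_c29)) :=
  Lre_b IH (LK LD1_c1 LD2_c29 LD3_c41) (LK LD1_c0 LD2_c41 LD3_c29) Lrfl Lrfl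
theorem f25292 : Led Lsl_ct (LP (LK LD1_c0 LD2_c30 LD3_c53)) = (LP (LK LD1_c1 LD2_c7 LD3_c19)) :=
  Lre_c IH (LK LD1_c0 LD2_c30 LD3_c53) (LK LD1_c1 LD2_c7 LD3_c19) Lrfl Lrfl
theorem f25190 : Led Lsl_bt (LP (LK LD1_c0 LD2_c30 LD3_c53)) = (LP (LK LD1_c0 LD2_c13 LD3_c43)) :=
  Lre_b IH (LK LD1_c0 LD2_c30 LD3_c53) (LK LD1_c0 LD2_c13 LD3_c43) Lrfl Lrfl
theorem f27160 : Led Lsl_bt (LP (LK LD1_c0 LD2_c13 LD3_c40)) = (LP (LK LD1_c0 LD2_c30 LD3_c46)) :=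
  Lre_b IH (LK LD1_c0 LD2_c13 LD3_c40) (LK LD1_c0 LD2_c30 LD3_c46) Lrfl Lrfl
theorem f116726 : Led Lsl_gf (LP (LK LD1_c0 LD2_c41 LD3_c29)) = (LP (LK LD1_c0 LD2_c30 LD3_c46)) :=
  Lgr Lrot124 (Lpe (f89399 IH) (Lpr_ct (f89322 IH) (Lpr_gt (f116711 IH) (Lpe (f25292 IH) (Lpr_bt (f25190 IH) (Lpe (K0.f25397 IH) (Lpr_ct (K0.f23034 IH) (Lpe (K0.f27150 IH) (Lpe (K3.f26602 IH) (Lpr_bt (f27160 IH) (Lpn (LP (LK LD1_c0 LD2_c30 LD3_c46)))))))))))))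
theorem f89447 : Led Lsl_ct (LP (LK LD1_c0 LD2_c41 LD3_c29)) = (LP (LK LD1_c1 LD2_c29 LD3_c45)) :=
  Lre_c IH (LK LD1_c0 LD2_c41 LD3_c29) (LK LD1_c1 LD2_c29 LD3_c45) Lrfl Lrfl
theorem f23437 : Led Lsl_dt (LP (LK LD1_c0 LD2_c13 LD3_c39)) = (LP (LK LD1_c0 LD2_c30 LD3_c46)) :=
  Lre_d IH (LK LD1_c0 LD2_c13 LD3_c39) (LK LD1_c0 LD2_c30 LD3_c46) Lrfl Lrfl
theorem f104181 : Led Lsl_ct (LP (LK LD1_c0 LD2_c46 LD3_c11)) = (LP (LK LD1_c0 LD2_c43 LD3_c47)) :=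
  Lgr Lrot59 (Lpr_cf (K3.f104177 IH) (Lpn (LP (LK LD1_c0 LD2_c43 LD3_c47))))
theorem f115529 : Led Lsl_df (LP (LK LD1_c0 LD2_c43 LD3_c47)) = (LP (LK LD1_c1 LD2_c26 LD3_c60)) :=
  Lgr Lrot38 (Lpr_dt (f115526 IH) (Lpn (LP (LK LD1_c1 LD2_c26 LD3_c60))))
theorem f12753 : Led Lsl_ct (LP (LK LD1_c3 LD2_c1 LD3_c52)) = (LP (LK LD1_c1 LD2_c26 LD3_c60)) :=
  Lre_c IH (LK LD1_c3 LD2_c1 LD3_c52) (LK LD1_c1 LD2_c26 LD3_c60) Lrfl Lrfl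
theorem f116772 : Led Lsl_gt (LP (LK LD1_c1 LD2_c29 LD3_c45)) = (LP (LK LD1_c3 LD2_c1 LD3_c52)) :=
  Lgr Lrot150 (Lpe (f89447 IH) (Lpr_gf (f116726 IH) (Lpe (f23437 IH) (Lpr_gt (K2.f23443 IH) (Lpr_ct (K3.f23451 IH) (Lpe (K3.f104173 IH) (Lpr_ct (f104181 IH) (Lpr_df (f115529 IH) (Lpe (f12753 IH) (Lpn (LP (LK LD1_c3 LD2_c1 LD3_c52))))))))))))
theorem f89392 : Led Lsl_bf (LP (LK LD1_c1 LD2_c29 LD3_c45)) = (LP (LK LD1_c1 LD2_c35 LD3_c22)) :=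
  Lgr Lrot90 (Lpr_ct (f89391 IH) (Lpr_bt (f89390 IH) (Lpr_ct (f89322 IH) (Lpr_bt (f64610 IH) (Lpr_ct (K1.f64603 IH) (Lpn (LP (LK LD1_c1 LD2_c35 LD3_c22))))))))
theorem f93553 : Led Lsl_bt (LP (LK LD1_c6 LD2_c35 LD3_c15)) = (LP (LK LD1_c3 LD2_c15 LD3_c60)) :=
  Lre_b IH (LK LD1_c6 LD2_c35 LD3_c15) (LK LD1_c3 LD2_c15 LD3_c60) Lrfl Lrfl
theorem f96108 : Led Lsl_ct (LP (LK LD1_c6 LD2_c10 LD3_c27)) = (LP (LK LD1_c3 LD2_c1 LD3_c54)) :=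
  Lre_c IH (LK LD1_c6 LD2_c10 LD3_c27) (LK LD1_c3 LD2_c1 LD3_c54) Lrfl Lrfl
theorem f117028 : Led Lsl_gt (LP (LK LD1_c3 LD2_c1 LD3_c54)) = (LP (LK LD1_c6 LD2_c10 LD3_c29)) :=
  Lre_g IH (LK LD1_c3 LD2_c1 LD3_c54) (LK LD1_c6 LD2_c10 LD3_c29) Lrfl Lrfl
theorem f117029 : Led Lsl_ct (LP (LK LD1_c6 LD2_c35 LD3_c15)) = (LP (LK LD1_c6 LD2_c10 LD3_c29)) :=
  Lgr Lrot10 (Lpr_bt (f93553 IH) (Lpe (K3.f93550 IH) (Lpr_ct (K3.f108679 IH) (Lpr_gt (K3.f62758 IH) (Lpr_cf (K1.f64611 IH) (Lpe (f89392 IH) (Lpr_gt (f116772 IH) (Lpe (f110806 IH) (Lpr_ct (f96108 IH) (Lpr_gt (f117028 IH) (Lpn (LP (LK LD1_c6 LD2_c10 LD3_c29)))))))))))))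
theorem f117033 : Led Lsl_cf (LP (LK LD1_c6 LD2_c35 LD3_c15)) = (LP (LK LD1_c6 LD2_c10 LD3_c29)) :=
  Lgr Lrot11 (Lpr_ct (f117029 IH) (Lpn (LP (LK LD1_c6 LD2_c10 LD3_c29))))
theorem f17696 : Led Lsl_ct (LP (LK LD1_c0 LD2_c20 LD3_c31)) = (LP (LK LD1_c0 LD2_c45 LD3_c53)) :=
  Lre_c IH (LK LD1_c0 LD2_c20 LD3_c31) (LK LD1_c0 LD2_c45 LD3_c53) Lrfl Lrfl
theorem f84740 : Led Lsl_ct (LP (LK LD1_c0 LD2_c47 LD3_c56)) = (LP (LK LD1_c1 LD2_c29 LD3_c15)) :=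
  Lgr Lrot83 (Lpr_bf (K2.f84733 IH) (Lpe (K2.f21011 IH) (Lpe (K2.f21008 IH) (Lpe (K2.f61713 IH) (Lpe (K2.f25115 IH) (Lpn (LP (LK LD1_c1 LD2_c29 LD3_c15))))))))
theorem f109359 : Led Lsl_gf (LP (LK LD1_c0 LD2_c45 LD3_c53)) = (LP (LK LD1_c1 LD2_c29 LD3_c15)) :=
  Lgr Lrot129 (Lpe (f17696 IH) (Lpr_bt (K0.f17694 IH) (Lpr_gt (K3.f90092 IH) (Lpe (K2.f10769 IH) (Lpr_ct (K1.f10768 IH) (Lpr_gt (K3.f18906 IH) (Lpr_cf (K3.f109343 IH) (Lpe (K3.f108200 IH) (Lpe (K3.f109357 IH) (Lpr_ct (f84740 IH) (Lpn (LP (LK LD1_c1 LD2_c29 LD3_c15)))))))))))))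
theorem f17735 : Led Lsl_dt (LP (LK LD1_c0 LD2_c45 LD3_c53)) = (LP (LK LD1_c1 LD2_c38 LD3_c58)) :=
  Lre_d IH (LK LD1_c0 LD2_c45 LD3_c53) (LK LD1_c1 LD2_c38 LD3_c58) Lrfl Lrfl
theorem f12843 : Led Lsl_dt (LP (LK LD1_c0 LD2_c4 LD3_c53)) = (LP (LK LD1_c0 LD2_c10 LD3_c24)) :=
  Lre_d IH (LK LD1_c0 LD2_c4 LD3_c53) (LK LD1_c0 LD2_c10 LD3_c24) Lrfl Lrfl
theorem f104138 : Led Lsl_dt (LP (LK LD1_c1 LD2_c38 LD3_c44)) = (LP (LK LD1_c0 LD2_c46 LD3_c7)) :=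
  Lgr Lrot27 (Lpe (K3.f12774 IH) (Lpe (K3.f12763 IH) (Lpe (K3.f12762 IH) (Lpe (K3.f12761 IH) (Lpe (f12843 IH) (Lpr_gt (K3.f12839 IH) (Lpr_ct (K3.f12840 IH) (Lpr_gt (K3.f12841 IH) (Lpr_ct (K3.f104114 IH) (Lpn (LP (LK LD1_c0 LD2_c46 LD3_c7))))))))))))
theorem f104122 : Led Lsl_dt (LP (LK LD1_c1 LD2_c47 LD3_c59)) = (LP (LK LD1_c0 LD2_c50 LD3_c45)) :=
  Lre_d IH (LK LD1_c1 LD2_c47 LD3_c59) (LK LD1_c0 LD2_c50 LD3_c45) Lrfl Lrfl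
theorem f109361 : Led Lsl_gt (LP (LK LD1_c1 LD2_c38 LD3_c58)) = (LP (LK LD1_c1 LD2_c47 LD3_c59)) :=
  Lgr Lrot49 (Lpe (f17735 IH) (Lpr_gf (f109359 IH) (Lpe (f84740 IH) (Lpr_gt (K2.f84732 IH) (Lpr_dt (K3.f84746 IH) (Lpr_gt (K3.f109118 IH) (Lpr_dt (f104138 IH) (Lpe (K3.f104114 IH) (Lpe (f104122 IH) (Lpn (LP (LK LD1_c1 LD2_c47 LD3_c59))))))))))))
theorem f26249 : Led Lsl_dt (LP (LK LD1_c0 LD2_c50 LD3_c45)) = (LP (LK LD1_c1 LD2_c47 LD3_c59)) :=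
  Lre_d IH (LK LD1_c0 LD2_c50 LD3_c45) (LK LD1_c1 LD2_c47 LD3_c59) Lrfl Lrfl
theorem f104116 : Led Lsl_bt (LP (LK LD1_c1 LD2_c47 LD3_c59)) = (LP (LK LD1_c1 LD2_c7 LD3_c33)) :=
  Lgr Lrot95 (Lpe (f26249 IH) (Lpr_bf (K3.f104109 IH) (Lpe (K3.f98849 IH) (Lpn (LP (LK LD1_c1 LD2_c7 LD3_c33))))))
theorem f104135 : Led Lsl_bf (LP (LK LD1_c1 LD2_c47 LD3_c59)) = (LP (LK LD1_c1 LD2_c7 LD3_c33)) :=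
  Lgr Lrot24 (Lpr_bt (f104116 IH) (Lpn (LP (LK LD1_c1 LD2_c7 LD3_c33))))
theorem f58396 : Led Lsl_bt (LP (LK LD1_c1 LD2_c5 LD3_c35)) = (LP (LK LD1_c0 LD2_c40 LD3_c16)) :=
  Lre_b IH (LK LD1_c1 LD2_c5 LD3_c35) (LK LD1_c0 LD2_c40 LD3_c16) Lrfl Lrfl
theorem f109365 : Led Lsl_bf (LP (LK LD1_c1 LD2_c38 LD3_c58)) = (LP (LK LD1_c1 LD2_c40 LD3_c59)) :=
  Lgr Lrot156 (Lpr_gt (f109361 IH) (Lpr_bf (f104135 IH) (Lpr_ct (K3.f98841 IH) (Lpr_gt (K3.f98915 IH) (Lpe (K3.f13682 IH) (Lpr_bt (f58396 IH) (Lpr_gt (K1.f62849 IH) (Lpr_ct (K2.f62852 IH) (Lpe (K3.f108685 IH) (Lpe (K3.f107196 IH) (Lpn (LP (LK LD1_c1 LD2_c40 LD3_c59)))))))))))))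
theorem f104125 : Led Lsl_gf (LP (LK LD1_c0 LD2_c9 LD3_c29)) = (LP (LK LD1_c0 LD2_c20 LD3_c43)) :=
  Lgr Lrot124 (Lpe (K0.f9788 IH) (Lpr_ct (K3.f5864 IH) (Lpe (K2.f26055 IH) (Lpe (K0.f12651 IH) (Lpr_bt (K3.f26177 IH) (Lpr_gt (K3.f12839 IH) (Lpr_ct (K3.f12840 IH) (Lpr_gt (K3.f12841 IH) (Lpr_cf (K3.f104120 IH) (Lpr_bt (K3.f94283 IH) (Lpn (LP (LK LD1_c0 LD2_c20 LD3_c43)))))))))))))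
theorem f87374 : Led Lsl_bt (LP (LK LD1_c1 LD2_c35 LD3_c12)) = (LP (LK LD1_c3 LD2_c17 LD3_c11)) :=
  Lre_b IH (LK LD1_c1 LD2_c35 LD3_c12) (LK LD1_c3 LD2_c17 LD3_c11) Lrfl Lrfl
theorem f87375 : Led Lsl_gt (LP (LK LD1_c3 LD2_c17 LD3_c11)) = (LP (LK LD1_c6 LD2_c37 LD3_c40)) :=
  Lre_g IH (LK LD1_c3 LD2_c17 LD3_c11) (LK LD1_c6 LD2_c37 LD3_c40) Lrfl Lrfl
theorem f117069 : Led Lsl_dt (LP (LK LD1_c6 LD2_c37 LD3_c40)) = (LP (LK LD1_c6 LD2_c10 LD3_c29)) :=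
  Lgr Lrot182 (Lpe (f87375 IH) (Lpe (f87374 IH) (Lpr_cf (K3.f84961 IH) (Lpe (K1.f17293 IH) (Lpe (K1.f11542 IH) (Lpe (K1.f12329 IH) (Lpe (K0.f11517 IH) (Lpe (K0.f14622 IH) (Lpr_gf (f104125 IH) (Lpe (K3.f94283 IH) (Lpe (K3.f104114 IH) (Lpe (f104122 IH) (Lpe (f109361 IH) (Lpr_bf (f109365 IH) (Lpe (K3.f108690 IH) (Lpe (K3.f65644 IH) (Lpr_gf (K3.f93550 IH) (Lpe (f93553 IH) (Lpr_cf (f117033 IH) (Lpn (LP (LK LD1_c6 LD2_c10 LD3_c29))))))))))))))))))))))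
theorem f117071 : Led Lsl_df (LP (LK LD1_c6 LD2_c37 LD3_c40)) = (LP (LK LD1_c6 LD2_c10 LD3_c29)) :=
  Lgr Lrot38 (Lpr_dt (f117069 IH) (Lpn (LP (LK LD1_c6 LD2_c10 LD3_c29))))
theorem f99710 : Led Lsl_bt (LP (LK LD1_c1 LD2_c26 LD3_c61)) = (LP (LK LD1_c3 LD2_c1 LD3_c54)) :=
  Lre_b IH (LK LD1_c1 LD2_c26 LD3_c61) (LK LD1_c3 LD2_c1 LD3_c54) Lrfl Lrfl
theorem f13691 : Led Lsl_bt (LP (LK LD1_c0 LD2_c13 LD3_c48)) = (LP (LK LD1_c0 LD2_c8 LD3_c50)) :=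
  Lre_b IH (LK LD1_c0 LD2_c13 LD3_c48) (LK LD1_c0 LD2_c8 LD3_c50) Lrfl Lrfl
theorem f104186 : Led Lsl_gt (LP (LK LD1_c0 LD2_c8 LD3_c50)) = (LP (LK LD1_c0 LD2_c19 LD3_c33)) :=
  Lgr Lrot164 (Lpe (f13691 IH) (Lpe (K0.f13686 IH) (Lpr_gf (K3.f103467 IH) (Lpe (K3.f103461 IH) (Lpe (K3.f104142 IH) (Lpe (K3.f23553 IH) (Lpr_ct (K2.f23472 IH) (Lpr_gf (K3.f23466 IH) (Lpr_cf (K3.f104177 IH) (Lpr_bt (K3.f65464 IH) (Lpn (LP (LK LD1_c0 LD2_c19 LD3_c33)))))))))))))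
theorem f18287 : Led Lsl_gt (LP (LK LD1_c6 LD2_c10 LD3_c9)) = (LP (LK LD1_c3 LD2_c1 LD3_c42)) :=
  Lre_g IH (LK LD1_c6 LD2_c10 LD3_c9) (LK LD1_c3 LD2_c1 LD3_c42) Lrfl Lrfl
theorem f19125 : Led Lsl_bt (LP (LK LD1_c12 LD2_c1 LD3_c11)) = (LP (LK LD1_c6 LD2_c10 LD3_c9)) :=
  Lre_b IH (LK LD1_c12 LD2_c1 LD3_c11) (LK LD1_c6 LD2_c10 LD3_c9) Lrfl Lrfl
theorem f117081 : Led Lsl_ct (LP (LK LD1_c6 LD2_c37 LD3_c40)) = (LP (LK LD1_c12 LD2_c1 LD3_c11)) :=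
  Lgr Lrot191 (Lpr_df (f117071 IH) (Lpe (f117028 IH) (Lpe (f99710 IH) (Lpe (K3.f58456 IH) (Lpr_df (f103610 IH) (Lpe (f104186 IH) (Lpe (f13691 IH) (Lpr_cf (K0.f13686 IH) (Lpe (K0.f13696 IH) (Lpe (K3.f13717 IH) (Lpr_bf (K3.f91318 IH) (Lpe (K2.f90580 IH) (Lpe (K2.f14578 IH) (Lpe (K2.f83758 IH) (Lpe (K2.f18268 IH) (Lpe (K2.f18263 IH) (Lpe (K2.f18286 IH) (Lpe (f18287 IH) (Lpe (f19125 IH) (Lpn (LP (LK LD1_c12 LD2_c1 LD3_c11))))))))))))))))))))))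
theorem f117090 : Led Lsl_cf (LP (LK LD1_c6 LD2_c37 LD3_c40)) = (LP (LK LD1_c12 LD2_c1 LD3_c11)) :=
  Lgr Lrot11 (Lpr_ct (f117081 IH) (Lpn (LP (LK LD1_c12 LD2_c1 LD3_c11))))
theorem f62964 : Led Lsl_bt (LP (LK LD1_c1 LD2_c26 LD3_c56)) = (LP (LK LD1_c3 LD2_c1 LD3_c42)) :=
  Lre_b IH (LK LD1_c1 LD2_c26 LD3_c56) (LK LD1_c3 LD2_c1 LD3_c42) Lrfl Lrfl
theorem f62873 : Led Lsl_bt (LP (LK LD1_c0 LD2_c44 LD3_c3)) = (LP (LK LD1_c1 LD2_c34 LD3_c41)) :=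
  Lre_b IH (LK LD1_c0 LD2_c44 LD3_c3) (LK LD1_c1 LD2_c34 LD3_c41) Lrfl Lrfl
theorem f62952 : Led Lsl_gt (LP (LK LD1_c1 LD2_c34 LD3_c41)) = (LP (LK LD1_c3 LD2_c15 LD3_c50)) :=
  Lre_g IH (LK LD1_c1 LD2_c34 LD3_c41) (LK LD1_c3 LD2_c15 LD3_c50) Lrfl Lrfl
theorem f117101 : Led Lsl_cf (LP (LK LD1_c3 LD2_c17 LD3_c11)) = (LP (LK LD1_c3 LD2_c15 LD3_c50)) :=
  Lgr Lrot125 (Lpr_gt (f87375 IH) (Lpr_cf (f117090 IH) (Lpr_bt (f19125 IH) (Lpr_gt (f18287 IH) (Lpe (f62964 IH) (Lpr_ct (K2.f62945 IH) (Lpr_gt (K1.f62849 IH) (Lpe (K2.f62851 IH) (Lpr_bt (f62873 IH) (Lpr_gt (f62952 IH) (Lpn (LP (LK LD1_c3 LD2_c15 LD3_c50)))))))))))))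
theorem f110187 : Led Lsl_ff (LP (LK LD1_c6 LD2_c35 LD3_c15)) = (LP (LK LD1_c3 LD2_c17 LD3_c11)) :=
  Lgr Lrot25 (Lpr_bt (f93553 IH) (Lpr_ft (K3.f110185 IH) (Lpr_bt (f87374 IH) (Lpn (LP (LK LD1_c3 LD2_c17 LD3_c11))))))
theorem f117112 : Led Lsl_ft (LP (LK LD1_c6 LD2_c10 LD3_c29)) = (LP (LK LD1_c3 LD2_c15 LD3_c50)) :=
  Lgr Lrot4 (Lpe (f117029 IH) (Lpr_ff (f110187 IH) (Lpr_cf (f117101 IH) (Lpn (LP (LK LD1_c3 LD2_c15 LD3_c50))))))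
theorem f117121 : Led Lsl_ff (LP (LK LD1_c6 LD2_c10 LD3_c29)) = (LP (LK LD1_c3 LD2_c15 LD3_c50)) :=
  Lgr Lrot3 (Lpr_ft (f117112 IH) (Lpn (LP (LK LD1_c3 LD2_c15 LD3_c50))))
theorem f93544 : Led Lsl_bt (LP (LK LD1_c3 LD2_c15 LD3_c60)) = (LP (LK LD1_c6 LD2_c35 LD3_c15)) :=
  Lre_b IH (LK LD1_c3 LD2_c15 LD3_c60) (LK LD1_c6 LD2_c35 LD3_c15) Lrfl Lrfl
theorem f63723 : Led Lsl_bt (LP (LK LD1_c3 LD2_c47 LD3_c25)) = (LP (LK LD1_c1 LD2_c50 LD3_c49)) :=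
  Lre_b IH (LK LD1_c3 LD2_c47 LD3_c25) (LK LD1_c1 LD2_c50 LD3_c49) Lrfl Lrfl
theorem f63724 : Led Lsl_ct (LP (LK LD1_c7 LD2_c35 LD3_c40)) = (LP (LK LD1_c3 LD2_c47 LD3_c25)) :=
  Lre_c IH (LK LD1_c7 LD2_c35 LD3_c40) (LK LD1_c3 LD2_c47 LD3_c25) Lrfl Lrfl
theorem f117031 : Led Lsl_bf (LP (LK LD1_c7 LD2_c35 LD3_c40)) = (LP (LK LD1_c6 LD2_c10 LD3_c29)) :=
  Lgr Lrot90 (Lpr_ct (f63724 IH) (Lpr_bt (f63723 IH) (Lpr_ct (K3.f93520 IH) (Lpr_bt (f93544 IH) (Lpr_ct (f117029 IH) (Lpn (LP (LK LD1_c6 LD2_c10 LD3_c29))))))))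
theorem f87383 : Led Lsl_bt (LP (LK LD1_c3 LD2_c17 LD3_c11)) = (LP (LK LD1_c1 LD2_c35 LD3_c12)) :=
  Lre_b IH (LK LD1_c3 LD2_c17 LD3_c11) (LK LD1_c1 LD2_c35 LD3_c12) Lrfl Lrfl
theorem f87384 : Led Lsl_bt (LP (LK LD1_c0 LD2_c52 LD3_c47)) = (LP (LK LD1_c1 LD2_c51 LD3_c61)) :=
  Lre_b IH (LK LD1_c0 LD2_c52 LD3_c47) (LK LD1_c1 LD2_c51 LD3_c61) Lrfl Lrfl
theorem f63507 : Led Lsl_ct (LP (LK LD1_c1 LD2_c51 LD3_c61)) = (LP (LK LD1_c3 LD2_c50 LD3_c5)) :=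
  Lre_c IH (LK LD1_c1 LD2_c51 LD3_c61) (LK LD1_c3 LD2_c50 LD3_c5) Lrfl Lrfl
theorem f117104 : Led Lsl_bt (LP (LK LD1_c3 LD2_c50 LD3_c5)) = (LP (LK LD1_c3 LD2_c15 LD3_c50)) :=
  Lgr Lrot128 (Lpe (f63507 IH) (Lpe (f87384 IH) (Lpe (K3.f84969 IH) (Lpe (f87383 IH) (Lpr_cf (f117101 IH) (Lpn (LP (LK LD1_c3 LD2_c15 LD3_c50))))))))
theorem f117123 : Led Lsl_ft (LP (LK LD1_c7 LD2_c35 LD3_c40)) = (LP (LK LD1_c3 LD2_c50 LD3_c5)) :=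
  Lgr Lrot75 (Lpr_bf (f117031 IH) (Lpr_ff (f117121 IH) (Lpe (f117104 IH) (Lpn (LP (LK LD1_c3 LD2_c50 LD3_c5))))))
theorem f117131 : Led Lsl_ff (LP (LK LD1_c7 LD2_c35 LD3_c40)) = (LP (LK LD1_c3 LD2_c50 LD3_c5)) :=
  Lgr Lrot3 (Lpr_ft (f117123 IH) (Lpn (LP (LK LD1_c3 LD2_c50 LD3_c5))))
theorem f117138 : Led Lsl_ft (LP (LK LD1_c3 LD2_c47 LD3_c25)) = (LP (LK LD1_c1 LD2_c51 LD3_c61)) :=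
  Lgr Lrot4 (Lpe (f63724 IH) (Lpr_ff (f117131 IH) (Lpe (f63507 IH) (Lpn (LP (LK LD1_c1 LD2_c51 LD3_c61))))))
theorem f117037 : Led Lsl_et (LP (LK LD1_c12 LD2_c36 LD3_c33)) = (LP (LK LD1_c6 LD2_c35 LD3_c15)) :=
  Lre_e IH (LK LD1_c12 LD2_c36 LD3_c33) (LK LD1_c6 LD2_c35 LD3_c15) Lrfl Lrfl
theorem f117038 : Led Lsl_et (LP (LK LD1_c6 LD2_c10 LD3_c29)) = (LP (LK LD1_c12 LD2_c1 LD3_c35)) :=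
  Lre_e IH (LK LD1_c6 LD2_c10 LD3_c29) (LK LD1_c12 LD2_c1 LD3_c35) Lrfl Lrfl
theorem f117039 : Led Lsl_cf (LP (LK LD1_c12 LD2_c36 LD3_c33)) = (LP (LK LD1_c12 LD2_c1 LD3_c35)) :=
  Lgr Lrot39 (Lpr_et (f117037 IH) (Lpr_ct (f117029 IH) (Lpr_et (f117038 IH) (Lpn (LP (LK LD1_c12 LD2_c1 LD3_c35))))))
theorem f117045 : Led Lsl_ct (LP (LK LD1_c12 LD2_c36 LD3_c33)) = (LP (LK LD1_c12 LD2_c1 LD3_c35)) :=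
  Lgr Lrot59 (Lpr_cf (f117039 IH) (Lpn (LP (LK LD1_c12 LD2_c1 LD3_c35))))
theorem f93575 : Led Lsl_bt (LP (LK LD1_c6 LD2_c35 LD3_c17)) = (LP (LK LD1_c12 LD2_c36 LD3_c33)) :=
  Lre_b IH (LK LD1_c6 LD2_c35 LD3_c17) (LK LD1_c12 LD2_c36 LD3_c33) Lrfl Lrfl
theorem f93564 : Led Lsl_ct (LP (LK LD1_c3 LD2_c47 LD3_c27)) = (LP (LK LD1_c6 LD2_c35 LD3_c17)) :=
  Lgr Lrot59 (Lpr_cf (K3.f93548 IH) (Lpn (LP (LK LD1_c6 LD2_c35 LD3_c17))))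
theorem f93586 : Led Lsl_bt (LP (LK LD1_c7 LD2_c35 LD3_c41)) = (LP (LK LD1_c3 LD2_c47 LD3_c27)) :=
  Lre_b IH (LK LD1_c7 LD2_c35 LD3_c41) (LK LD1_c3 LD2_c47 LD3_c27) Lrfl Lrfl
theorem f93587 : Led Lsl_ct (LP (LK LD1_c14 LD2_c18 LD3_c61)) = (LP (LK LD1_c7 LD2_c35 LD3_c41)) :=
  Lre_c IH (LK LD1_c14 LD2_c18 LD3_c61) (LK LD1_c7 LD2_c35 LD3_c41) Lrfl Lrfl
theorem f117049 : Led Lsl_bf (LP (LK LD1_c14 LD2_c18 LD3_c61)) = (LP (LK LD1_c12 LD2_c1 LD3_c35)) :=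
  Lgr Lrot90 (Lpr_ct (f93587 IH) (Lpr_bt (f93586 IH) (Lpr_ct (f93564 IH) (Lpr_bt (f93575 IH) (Lpr_ct (f117045 IH) (Lpn (LP (LK LD1_c12 LD2_c1 LD3_c35))))))))
theorem f117053 : Led Lsl_et (LP (LK LD1_c14 LD2_c18 LD3_c61)) = (LP (LK LD1_c7 LD2_c35 LD3_c40)) :=
  Lre_e IH (LK LD1_c14 LD2_c18 LD3_c61) (LK LD1_c7 LD2_c35 LD3_c40) Lrfl Lrfl
theorem f117054 : Led Lsl_bt (LP (LK LD1_c7 LD2_c35 LD3_c40)) = (LP (LK LD1_c6 LD2_c10 LD3_c29)) :=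
  Lgr Lrot119 (Lpe (f117053 IH) (Lpr_bf (f117049 IH) (Lpe (f117038 IH) (Lpn (LP (LK LD1_c6 LD2_c10 LD3_c29))))))
theorem f58423 : Led Lsl_ct (LP (LK LD1_c3 LD2_c1 LD3_c59)) = (LP (LK LD1_c6 LD2_c10 LD3_c42)) :=
  Lre_c IH (LK LD1_c3 LD2_c1 LD3_c59) (LK LD1_c6 LD2_c10 LD3_c42) Lrfl Lrfl
theorem f117056 : Led Lsl_gt (LP (LK LD1_c3 LD2_c47 LD3_c25)) = (LP (LK LD1_c6 LD2_c10 LD3_c42)) :=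
  Lgr Lrot65 (Lpe (f63724 IH) (Lpr_bt (f117054 IH) (Lpe (f117028 IH) (Lpe (f99710 IH) (Lpr_ct (K3.f63501 IH) (Lpe (K3.f58455 IH) (Lpe (K3.f58390 IH) (Lpe (K3.f58400 IH) (Lpe (K3.f58422 IH) (Lpr_ct (f58423 IH) (Lpn (LP (LK LD1_c6 LD2_c10 LD3_c42)))))))))))))
theorem f117140 : Led Lsl_at (LP (LK LD1_c1 LD2_c51 LD3_c61)) = (LP (LK LD1_c3 LD2_c50 LD3_c0)) :=
  Lre_a IH (LK LD1_c1 LD2_c51 LD3_c61) (LK LD1_c3 LD2_c50 LD3_c0) Lrfl Lrfl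
theorem f117148 : Led Lsl_gt (LP (LK LD1_c6 LD2_c10 LD3_c42)) = (LP (LK LD1_c3 LD2_c50 LD3_c0)) :=
  Lgr Lrot46 (Lpe (f117056 IH) (Lpr_ft (f117138 IH) (Lpr_at (f117140 IH) (Lpn (LP (LK LD1_c3 LD2_c50 LD3_c0))))))
theorem f63842 : Led Lsl_gt (LP (LK LD1_c0 LD2_c40 LD3_c19)) = (LP (LK LD1_c1 LD2_c27 LD3_c1)) :=
  Lre_g IH (LK LD1_c0 LD2_c40 LD3_c19) (LK LD1_c1 LD2_c27 LD3_c1) Lrfl Lrfl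
theorem f65056 : Led Lsl_bt (LP (LK LD1_c1 LD2_c27 LD3_c3)) = (LP (LK LD1_c0 LD2_c40 LD3_c19)) :=
  Lre_b IH (LK LD1_c1 LD2_c27 LD3_c3) (LK LD1_c0 LD2_c40 LD3_c19) Lrfl Lrfl
theorem f27157 : Led Lsl_ct (LP (LK LD1_c1 LD2_c27 LD3_c3)) = (LP (LK LD1_c0 LD2_c40 LD3_c23)) :=
  Lre_c IH (LK LD1_c1 LD2_c27 LD3_c3) (LK LD1_c0 LD2_c40 LD3_c23) Lrfl Lrfl
theorem f26458 : Led Lsl_bt (LP (LK LD1_c3 LD2_c22 LD3_c36)) = (LP (LK LD1_c6 LD2_c48 LD3_c61)) :=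
  Lre_b IH (LK LD1_c3 LD2_c22 LD3_c36) (LK LD1_c6 LD2_c48 LD3_c61) Lrfl Lrfl
theorem f38011 : Led Lsl_gt (LP (LK LD1_c1 LD2_c2 LD3_c16)) = (LP (LK LD1_c0 LD2_c28 LD3_c24)) :=
  Lre_g IH (LK LD1_c1 LD2_c2 LD3_c16) (LK LD1_c0 LD2_c28 LD3_c24) Lrfl Lrfl
theorem f38109 : Led Lsl_bt (LP (LK LD1_c2 LD2_c10 LD3_c28)) = (LP (LK LD1_c1 LD2_c2 LD3_c16)) :=
  Lre_b IH (LK LD1_c2 LD2_c10 LD3_c28) (LK LD1_c1 LD2_c2 LD3_c16) Lrfl Lrfl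
theorem f38149 : Led Lsl_ct (LP (LK LD1_c4 LD2_c26 LD3_c29)) = (LP (LK LD1_c2 LD2_c10 LD3_c28)) :=
  Lre_c IH (LK LD1_c4 LD2_c26 LD3_c29) (LK LD1_c2 LD2_c10 LD3_c28) Lrfl Lrfl
theorem f38180 : Led Lsl_dt (LP (LK LD1_c8 LD2_c50 LD3_c29)) = (LP (LK LD1_c4 LD2_c26 LD3_c29)) :=
  Lre_d IH (LK LD1_c8 LD2_c50 LD3_c29) (LK LD1_c4 LD2_c26 LD3_c29) Lrfl Lrfl
theorem f99220 : Led Lsl_gt (LP (LK LD1_c6 LD2_c48 LD3_c61)) = (LP (LK LD1_c8 LD2_c50 LD3_c29)) :=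
  Lgr Lrot190 (Lpe (f26458 IH) (Lpe (f56678 IH) (Lpr_df (f99218 IH) (Lpe (K3.f61222 IH) (Lpe (K2.f61000 IH) (Lpr_cf (K2.f57598 IH) (Lpe (K0.f7359 IH) (Lpe (K0.f20827 IH) (Lpr_bf (K0.f406 IH) (Lpe (K0.f410 IH) (Lpe (K0.f20251 IH) (Lpe (K0.f6857 IH) (Lpe (K1.f20308 IH) (Lpe (K0.f16619 IH) (Lpe (K0.f16618 IH) (Lpe (f38011 IH) (Lpe (f38109 IH) (Lpe (f38149 IH) (Lpe (f38180 IH) (Lpn (LP (LK LD1_c8 LD2_c50 LD3_c29))))))))))))))))))))))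
theorem f26456 : Led Lsl_bt (LP (LK LD1_c1 LD2_c37 LD3_c36)) = (LP (LK LD1_c2 LD2_c27 LD3_c43)) :=
  Lre_b IH (LK LD1_c1 LD2_c37 LD3_c36) (LK LD1_c2 LD2_c27 LD3_c43) Lrfl Lrfl
theorem f26426 : Led Lsl_bt (LP (LK LD1_c5 LD2_c59 LD3_c36)) = (LP (LK LD1_c2 LD2_c56 LD3_c9)) :=
  Lre_b IH (LK LD1_c5 LD2_c59 LD3_c36) (LK LD1_c2 LD2_c56 LD3_c9) Lrfl Lrfl
theorem f26427 : Led Lsl_ct (LP (LK LD1_c5 LD2_c59 LD3_c36)) = (LP (LK LD1_c2 LD2_c56 LD3_c13)) :=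
  Lre_c IH (LK LD1_c5 LD2_c59 LD3_c36) (LK LD1_c2 LD2_c56 LD3_c13) Lrfl Lrfl
theorem f26454 : Led Lsl_gt (LP (LK LD1_c5 LD2_c59 LD3_c47)) = (LP (LK LD1_c2 LD2_c56 LD3_c13)) :=
  Lre_g IH (LK LD1_c5 LD2_c59 LD3_c47) (LK LD1_c2 LD2_c56 LD3_c13) Lrfl Lrfl
theorem f99234 : Led Lsl_cf (LP (LK LD1_c5 LD2_c59 LD3_c47)) = (LP (LK LD1_c8 LD2_c50 LD3_c29)) :=
  Lgr Lrot125 (Lpr_gt (f26454 IH) (Lpe (f26427 IH) (Lpr_bt (f26426 IH) (Lpr_gt (K0.f26413 IH) (Lpe (f26456 IH) (Lpr_ct (K2.f9749 IH) (Lpr_gt (f20281 IH) (Lpe (f26457 IH) (Lpr_bt (f26458 IH) (Lpr_gt (f99220 IH) (Lpn (LP (LK LD1_c8 LD2_c50 LD3_c29)))))))))))))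
theorem f20421 : Led Lsl_ct (LP (LK LD1_c2 LD2_c27 LD3_c43)) = (LP (LK LD1_c1 LD2_c11 LD3_c0)) :=
  Lre_c IH (LK LD1_c2 LD2_c27 LD3_c43) (LK LD1_c1 LD2_c11 LD3_c0) Lrfl Lrfl
theorem f26455 : Led Lsl_ct (LP (LK LD1_c4 LD2_c59 LD3_c13)) = (LP (LK LD1_c2 LD2_c27 LD3_c30)) :=
  Lre_c IH (LK LD1_c4 LD2_c59 LD3_c13) (LK LD1_c2 LD2_c27 LD3_c30) Lrfl Lrfl
theorem f26386 : Led Lsl_ct (LP (LK LD1_c2 LD2_c16 LD3_c9)) = (LP (LK LD1_c4 LD2_c38 LD3_c4)) :=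
  Lre_c IH (LK LD1_c2 LD2_c16 LD3_c9) (LK LD1_c4 LD2_c38 LD3_c4) Lrfl Lrfl
theorem f26387 : Led Lsl_bt (LP (LK LD1_c4 LD2_c38 LD3_c3)) = (LP (LK LD1_c2 LD2_c16 LD3_c9)) :=
  Lre_b IH (LK LD1_c4 LD2_c38 LD3_c3) (LK LD1_c2 LD2_c16 LD3_c9) Lrfl Lrfl
theorem f26388 : Led Lsl_ct (LP (LK LD1_c9 LD2_c11 LD3_c49)) = (LP (LK LD1_c4 LD2_c38 LD3_c3)) :=
  Lre_c IH (LK LD1_c9 LD2_c11 LD3_c49) (LK LD1_c4 LD2_c38 LD3_c3) Lrfl Lrfl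
theorem f26268 : Led Lsl_ct (LP (LK LD1_c2 LD2_c27 LD3_c30)) = (LP (LK LD1_c4 LD2_c59 LD3_c13)) :=
  Lre_c IH (LK LD1_c2 LD2_c27 LD3_c30) (LK LD1_c4 LD2_c59 LD3_c13) Lrfl Lrfl
theorem f26389 : Led Lsl_bf (LP (LK LD1_c9 LD2_c11 LD3_c49)) = (LP (LK LD1_c4 LD2_c59 LD3_c13)) :=
  Lgr Lrot90 (Lpr_ct (f26388 IH) (Lpr_bt (f26387 IH) (Lpr_ct (f26386 IH) (Lpr_bt (K0.f26382 IH) (Lpr_ct (f26268 IH) (Lpn (LP (LK LD1_c4 LD2_c59 LD3_c13))))))))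
theorem f60852 : Led Lsl_gt (LP (LK LD1_c0 LD2_c40 LD3_c52)) = (LP (LK LD1_c1 LD2_c28 LD3_c24)) :=
  Lre_g IH (LK LD1_c0 LD2_c40 LD3_c52) (LK LD1_c1 LD2_c28 LD3_c24) Lrfl Lrfl
theorem f73181 : Led Lsl_at (LP (LK LD1_c0 LD2_c37 LD3_c23)) = (LP (LK LD1_c1 LD2_c20 LD3_c57)) :=
  Lre_a IH (LK LD1_c0 LD2_c37 LD3_c23) (LK LD1_c1 LD2_c20 LD3_c57) Lrfl Lrfl
theorem f79922 : Led Lsl_gt (LP (LK LD1_c1 LD2_c28 LD3_c24)) = (LP (LK LD1_c1 LD2_c20 LD3_c57)) :=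
  Lgr Lrot46 (Lpe (f60852 IH) (Lpr_ft (K2.f73188 IH) (Lpr_at (f73181 IH) (Lpn (LP (LK LD1_c1 LD2_c20 LD3_c57))))))
theorem f60251 : Led Lsl_at (LP (LK LD1_c2 LD2_c48 LD3_c57)) = (LP (LK LD1_c1 LD2_c20 LD3_c34)) :=
  Lre_a IH (LK LD1_c2 LD2_c48 LD3_c57) (LK LD1_c1 LD2_c20 LD3_c34) Lrfl Lrfl
theorem f60252 : Led Lsl_ft (LP (LK LD1_c2 LD2_c16 LD3_c49)) = (LP (LK LD1_c2 LD2_c48 LD3_c57)) :=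
  Lgr Lrot101 (Lpe (K2.f56180 IH) (Lpr_ff (K1.f60247 IH) (Lpe (f60251 IH) (Lpn (LP (LK LD1_c2 LD2_c48 LD3_c57))))))
theorem f60653 : Led Lsl_et (LP (LK LD1_c5 LD2_c46 LD3_c25)) = (LP (LK LD1_c2 LD2_c48 LD3_c57)) :=
  Lre_e IH (LK LD1_c5 LD2_c46 LD3_c25) (LK LD1_c2 LD2_c48 LD3_c57) Lrfl Lrfl
theorem f60654 : Led Lsl_bf (LP (LK LD1_c3 LD2_c4 LD3_c1)) = (LP (LK LD1_c2 LD2_c48 LD3_c57)) :=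
  Lgr Lrot96 (Lpr_et (K2.f60652 IH) (Lpr_bt (K2.f60647 IH) (Lpr_et (f60653 IH) (Lpn (LP (LK LD1_c2 LD2_c48 LD3_c57))))))
theorem f73405 : Led Lsl_ft (LP (LK LD1_c3 LD2_c4 LD3_c1)) = (LP (LK LD1_c2 LD2_c49 LD3_c37)) :=
  Lgr Lrot75 (Lpr_bf (f60654 IH) (Lpe (f60252 IH) (Lpr_bf (K2.f73396 IH) (Lpn (LP (LK LD1_c2 LD2_c49 LD3_c37))))))
theorem f73410 : Led Lsl_ff (LP (LK LD1_c3 LD2_c4 LD3_c1)) = (LP (LK LD1_c2 LD2_c49 LD3_c37)) :=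
  Lgr Lrot3 (Lpr_ft (f73405 IH) (Lpn (LP (LK LD1_c2 LD2_c49 LD3_c37))))
theorem f37226 : Led Lsl_gt (LP (LK LD1_c3 LD2_c4 LD3_c0)) = (LP (LK LD1_c1 LD2_c28 LD3_c3)) :=
  Lre_g IH (LK LD1_c3 LD2_c4 LD3_c0) (LK LD1_c1 LD2_c28 LD3_c3) Lrfl Lrfl
theorem f73419 : Led Lsl_gf (LP (LK LD1_c3 LD2_c4 LD3_c0)) = (LP (LK LD1_c2 LD2_c49 LD3_c37)) :=
  Lgr Lrot47 (Lpr_gt (f37226 IH) (Lpe (K2.f60656 IH) (Lpr_ff (f73410 IH) (Lpn (LP (LK LD1_c2 LD2_c49 LD3_c37))))))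
theorem f59649 : Led Lsl_bt (LP (LK LD1_c0 LD2_c40 LD3_c52)) = (LP (LK LD1_c0 LD2_c18 LD3_c18)) :=
  Lre_b IH (LK LD1_c0 LD2_c40 LD3_c52) (LK LD1_c0 LD2_c18 LD3_c18) Lrfl Lrfl
theorem f21217 : Led Lsl_bt (LP (LK LD1_c0 LD2_c13 LD3_c16)) = (LP (LK LD1_c0 LD2_c29 LD3_c57)) :=
  Lre_b IH (LK LD1_c0 LD2_c13 LD3_c16) (LK LD1_c0 LD2_c29 LD3_c57) Lrfl Lrfl
theorem f22447 : Led Lsl_gt (LP (LK LD1_c0 LD2_c29 LD3_c57)) = (LP (LK LD1_c1 LD2_c5 LD3_c26)) :=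
  Lre_g IH (LK LD1_c0 LD2_c29 LD3_c57) (LK LD1_c1 LD2_c5 LD3_c26) Lrfl Lrfl
theorem f59650 : Led Lsl_bt (LP (LK LD1_c2 LD2_c16 LD3_c61)) = (LP (LK LD1_c1 LD2_c5 LD3_c26)) :=
  Lre_b IH (LK LD1_c2 LD2_c16 LD3_c61) (LK LD1_c1 LD2_c5 LD3_c26) Lrfl Lrfl
theorem f60856 : Led Lsl_cf (LP (LK LD1_c3 LD2_c4 LD3_c0)) = (LP (LK LD1_c2 LD2_c16 LD3_c61)) :=
  Lgr Lrot160 (Lpr_gt (f37226 IH) (Lpr_cf (K2.f60793 IH) (Lpr_bt (f59649 IH) (Lpe (K1.f59640 IH) (Lpr_ct (K1.f20206 IH) (Lpr_gt (K0.f20186 IH) (Lpe (K3.f21212 IH) (Lpr_bt (f21217 IH) (Lpr_gt (f22447 IH) (Lpe (f59650 IH) (Lpn (LP (LK LD1_c2 LD2_c16 LD3_c61)))))))))))))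
theorem f20239 : Led Lsl_bt (LP (LK LD1_c0 LD2_c39 LD3_c4)) = (LP (LK LD1_c0 LD2_c17 LD3_c29)) :=
  Lre_b IH (LK LD1_c0 LD2_c39 LD3_c4) (LK LD1_c0 LD2_c17 LD3_c29) Lrfl Lrfl
theorem f56573 : Led Lsl_bt (LP (LK LD1_c0 LD2_c16 LD3_c40)) = (LP (LK LD1_c0 LD2_c37 LD3_c23)) :=
  Lre_b IH (LK LD1_c0 LD2_c16 LD3_c40) (LK LD1_c0 LD2_c37 LD3_c23) Lrfl Lrfl
theorem f73182 : Led Lsl_bf (LP (LK LD1_c1 LD2_c24 LD3_c50)) = (LP (LK LD1_c1 LD2_c20 LD3_c57)) :=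
  Lgr Lrot81 (Lpr_at (K2.f56026 IH) (Lpr_bt (f20239 IH) (Lpr_at (K2.f73179 IH) (Lpr_bt (f56573 IH) (Lpr_at (f73181 IH) (Lpn (LP (LK LD1_c1 LD2_c20 LD3_c57))))))))
theorem f60930 : Led Lsl_gt (LP (LK LD1_c0 LD2_c37 LD3_c20)) = (LP (LK LD1_c1 LD2_c20 LD3_c48)) :=
  Lre_g IH (LK LD1_c0 LD2_c37 LD3_c20) (LK LD1_c1 LD2_c20 LD3_c48) Lrfl Lrfl
theorem f72858 : Led Lsl_gf (LP (LK LD1_c1 LD2_c24 LD3_c50)) = (LP (LK LD1_c1 LD2_c20 LD3_c48)) :=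
  Lgr Lrot76 (Lpe (K2.f56012 IH) (Lpr_ff (K2.f72837 IH) (Lpr_gt (f60930 IH) (Lpn (LP (LK LD1_c1 LD2_c20 LD3_c48))))))
theorem f60932 : Led Lsl_bt (LP (LK LD1_c2 LD2_c49 LD3_c17)) = (LP (LK LD1_c1 LD2_c20 LD3_c48)) :=
  Lre_b IH (LK LD1_c2 LD2_c49 LD3_c17) (LK LD1_c1 LD2_c20 LD3_c48) Lrfl Lrfl
theorem f26777 : Led Lsl_bt (LP (LK LD1_c0 LD2_c29 LD3_c57)) = (LP (LK LD1_c0 LD2_c13 LD3_c16)) :=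
  Lre_b IH (LK LD1_c0 LD2_c29 LD3_c57) (LK LD1_c0 LD2_c13 LD3_c16) Lrfl Lrfl
theorem f27053 : Led Lsl_ct (LP (LK LD1_c0 LD2_c29 LD3_c57)) = (LP (LK LD1_c1 LD2_c5 LD3_c20)) :=
  Lre_c IH (LK LD1_c0 LD2_c29 LD3_c57) (LK LD1_c1 LD2_c5 LD3_c20) Lrfl Lrfl
theorem f36424 : Led Lsl_gt (LP (LK LD1_c2 LD2_c16 LD3_c48)) = (LP (LK LD1_c1 LD2_c5 LD3_c20)) :=
  Lre_g IH (LK LD1_c2 LD2_c16 LD3_c48) (LK LD1_c1 LD2_c5 LD3_c20) Lrfl Lrfl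
theorem f60933 : Led Lsl_ct (LP (LK LD1_c2 LD2_c49 LD3_c17)) = (LP (LK LD1_c2 LD2_c16 LD3_c48)) :=
  Lgr Lrot64 (Lpr_bt (f60932 IH) (Lpe (f60930 IH) (Lpe (K2.f60929 IH) (Lpr_ct (K1.f60910 IH) (Lpe (K1.f25958 IH) (Lpe (K1.f25998 IH) (Lpr_gf (K1.f26017 IH) (Lpe (f26777 IH) (Lpr_ct (f27053 IH) (Lpe (f36424 IH) (Lpn (LP (LK LD1_c2 LD2_c16 LD3_c48)))))))))))))
theorem f60842 : Led Lsl_et (LP (LK LD1_c1 LD2_c28 LD3_c26)) = (LP (LK LD1_c3 LD2_c4 LD3_c46)) :=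
  Lre_e IH (LK LD1_c1 LD2_c28 LD3_c26) (LK LD1_c3 LD2_c4 LD3_c46) Lrfl Lrfl
theorem f72962 : Led Lsl_bf (LP (LK LD1_c1 LD2_c28 LD3_c26)) = (LP (LK LD1_c1 LD2_c20 LD3_c50)) :=
  Lgr Lrot96 (Lpr_et (f60842 IH) (Lpr_bt (K2.f72952 IH) (Lpr_et (K2.f72852 IH) (Lpn (LP (LK LD1_c1 LD2_c20 LD3_c50))))))
theorem f60658 : Led Lsl_bt (LP (LK LD1_c3 LD2_c4 LD3_c1)) = (LP (LK LD1_c2 LD2_c48 LD3_c57)) :=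
  Lgr Lrot127 (Lpr_bf (f60654 IH) (Lpn (LP (LK LD1_c2 LD2_c48 LD3_c57))))
theorem f60662 : Led Lsl_ct (LP (LK LD1_c2 LD2_c48 LD3_c57)) = (LP (LK LD1_c1 LD2_c20 LD3_c42)) :=
  Lre_c IH (LK LD1_c2 LD2_c48 LD3_c57) (LK LD1_c1 LD2_c20 LD3_c42) Lrfl Lrfl
theorem f72815 : Led Lsl_ct (LP (LK LD1_c1 LD2_c25 LD3_c61)) = (LP (LK LD1_c1 LD2_c20 LD3_c50)) :=
  Lgr Lrot111 (Lpe (K2.f72813 IH) (Lpr_cf (K2.f72464 IH) (Lpe (K2.f72814 IH) (Lpn (LP (LK LD1_c1 LD2_c20 LD3_c50))))))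
theorem f72966 : Led Lsl_bt (LP (LK LD1_c1 LD2_c20 LD3_c42)) = (LP (LK LD1_c1 LD2_c25 LD3_c61)) :=
  Lgr Lrot128 (Lpe (f60662 IH) (Lpe (f60658 IH) (Lpr_cf (K2.f60864 IH) (Lpr_bf (f72962 IH) (Lpe (f72815 IH) (Lpn (LP (LK LD1_c1 LD2_c25 LD3_c61))))))))
theorem f72861 : Led Lsl_bt (LP (LK LD1_c0 LD2_c39 LD3_c46)) = (LP (LK LD1_c1 LD2_c5 LD3_c27)) :=
  Lre_b IH (LK LD1_c0 LD2_c39 LD3_c46) (LK LD1_c1 LD2_c5 LD3_c27) Lrfl Lrfl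
theorem f72975 : Led Lsl_ff (LP (LK LD1_c1 LD2_c20 LD3_c42)) = (LP (LK LD1_c1 LD2_c5 LD3_c27)) :=
  Lgr Lrot25 (Lpr_bt (f72966 IH) (Lpr_ft (K2.f72862 IH) (Lpr_bt (f72861 IH) (Lpn (LP (LK LD1_c1 LD2_c5 LD3_c27))))))
theorem f60359 : Led Lsl_ct (LP (LK LD1_c1 LD2_c20 LD3_c42)) = (LP (LK LD1_c2 LD2_c48 LD3_c57)) :=
  Lre_c IH (LK LD1_c1 LD2_c20 LD3_c42) (LK LD1_c2 LD2_c48 LD3_c57) Lrfl Lrfl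
theorem f72979 : Led Lsl_ft (LP (LK LD1_c2 LD2_c48 LD3_c57)) = (LP (LK LD1_c2 LD2_c16 LD3_c49)) :=
  Lgr Lrot4 (Lpe (f60359 IH) (Lpr_ff (f72975 IH) (Lpe (K2.f56259 IH) (Lpn (LP (LK LD1_c2 LD2_c16 LD3_c49))))))
theorem f56265 : Led Lsl_at (LP (LK LD1_c2 LD2_c16 LD3_c49)) = (LP (LK LD1_c1 LD2_c5 LD3_c20)) :=
  Lre_a IH (LK LD1_c2 LD2_c16 LD3_c49) (LK LD1_c1 LD2_c5 LD3_c20) Lrfl Lrfl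
theorem f72990 : Led Lsl_gt (LP (LK LD1_c2 LD2_c48 LD3_c57)) = (LP (LK LD1_c2 LD2_c16 LD3_c48)) :=
  Lgr Lrot5 (Lpr_ft (f72979 IH) (Lpr_at (f56265 IH) (Lpe (f36424 IH) (Lpn (LP (LK LD1_c2 LD2_c16 LD3_c48))))))
theorem f73421 : Led Lsl_gt (LP (LK LD1_c1 LD2_c5 LD3_c26)) = (LP (LK LD1_c1 LD2_c20 LD3_c42)) :=
  Lgr Lrot82 (Lpe (f59650 IH) (Lpe (f60856 IH) (Lpr_gf (f73419 IH) (Lpe (K2.f73387 IH) (Lpe (f73182 IH) (Lpr_gf (f72858 IH) (Lpe (f60932 IH) (Lpr_ct (f60933 IH) (Lpe (f72990 IH) (Lpe (f60359 IH) (Lpn (LP (LK LD1_c1 LD2_c20 LD3_c42)))))))))))))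
theorem f72969 : Led Lsl_bf (LP (LK LD1_c1 LD2_c20 LD3_c42)) = (LP (LK LD1_c1 LD2_c25 LD3_c61)) :=
  Lgr Lrot24 (Lpr_bt (f72966 IH) (Lpn (LP (LK LD1_c1 LD2_c25 LD3_c61))))
theorem f75134 : Led Lsl_gf (LP (LK LD1_c5 LD2_c51 LD3_c34)) = (LP (LK LD1_c4 LD2_c59 LD3_c43)) :=
  Lgr Lrot76 (Lpe (K2.f74456 IH) (Lpe (K2.f72883 IH) (Lpr_gt (K2.f75080 IH) (Lpn (LP (LK LD1_c4 LD2_c59 LD3_c43))))))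
theorem f56022 : Led Lsl_gt (LP (LK LD1_c1 LD2_c24 LD3_c49)) = (LP (LK LD1_c0 LD2_c39 LD3_c4)) :=
  Lre_g IH (LK LD1_c1 LD2_c24 LD3_c49) (LK LD1_c0 LD2_c39 LD3_c4) Lrfl Lrfl
theorem f40688 : Led Lsl_ct (LP (LK LD1_c2 LD2_c26 LD3_c58)) = (LP (LK LD1_c4 LD2_c58 LD3_c13)) :=
  Lre_c IH (LK LD1_c2 LD2_c26 LD3_c58) (LK LD1_c4 LD2_c58 LD3_c13) Lrfl Lrfl
theorem f40382 : Led Lsl_gt (LP (LK LD1_c2 LD2_c26 LD3_c58)) = (LP (LK LD1_c1 LD2_c10 LD3_c59)) :=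
  Lre_g IH (LK LD1_c2 LD2_c26 LD3_c58) (LK LD1_c1 LD2_c10 LD3_c59) Lrfl Lrfl
theorem f76077 : Led Lsl_df (LP (LK LD1_c1 LD2_c24 LD3_c49)) = (LP (LK LD1_c1 LD2_c10 LD3_c59)) :=
  Lgr Lrot153 (Lpr_gt (f56022 IH) (Lpe (K2.f74257 IH) (Lpe (K2.f61805 IH) (Lpe (K2.f74449 IH) (Lpr_gf (f75134 IH) (Lpe (K2.f14400 IH) (Lpe (K2.f14399 IH) (Lpe (f40688 IH) (Lpr_gt (f40382 IH) (Lpn (LP (LK LD1_c1 LD2_c10 LD3_c59))))))))))))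
theorem f76086 : Led Lsl_ct (LP (LK LD1_c1 LD2_c24 LD3_c49)) = (LP (LK LD1_c2 LD2_c58 LD3_c19)) :=
  Lre_c IH (LK LD1_c1 LD2_c24 LD3_c49) (LK LD1_c2 LD2_c58 LD3_c19) Lrfl Lrfl
theorem f74360 : Led Lsl_ct (LP (LK LD1_c1 LD2_c10 LD3_c49)) = (LP (LK LD1_c0 LD2_c32 LD3_c51)) :=
  Lre_c IH (LK LD1_c1 LD2_c10 LD3_c49) (LK LD1_c0 LD2_c32 LD3_c51) Lrfl Lrfl
theorem f76093 : Led Lsl_gt (LP (LK LD1_c1 LD2_c10 LD3_c49)) = (LP (LK LD1_c2 LD2_c27 LD3_c4)) :=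
  Lre_g IH (LK LD1_c1 LD2_c10 LD3_c49) (LK LD1_c2 LD2_c27 LD3_c4) Lrfl Lrfl
theorem f75076 : Led Lsl_dt (LP (LK LD1_c2 LD2_c27 LD3_c4)) = (LP (LK LD1_c4 LD2_c58 LD3_c28)) :=
  Lre_d IH (LK LD1_c2 LD2_c27 LD3_c4) (LK LD1_c4 LD2_c58 LD3_c28) Lrfl Lrfl
theorem f69014 : Led Lsl_gt (LP (LK LD1_c4 LD2_c58 LD3_c28)) = (LP (LK LD1_c2 LD2_c56 LD3_c35)) :=
  Lre_g IH (LK LD1_c4 LD2_c58 LD3_c28) (LK LD1_c2 LD2_c56 LD3_c35) Lrfl Lrfl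
theorem f76094 : Led Lsl_df (LP (LK LD1_c2 LD2_c58 LD3_c19)) = (LP (LK LD1_c2 LD2_c56 LD3_c35)) :=
  Lgr Lrot84 (Lpe (f76086 IH) (Lpr_df (f76077 IH) (Lpe (f40382 IH) (Lpe (K2.f72521 IH) (Lpe (K2.f72520 IH) (Lpe (f74360 IH) (Lpr_gt (f76093 IH) (Lpr_dt (f75076 IH) (Lpr_gt (f69014 IH) (Lpn (LP (LK LD1_c2 LD2_c56 LD3_c35))))))))))))
theorem f69051 : Led Lsl_ct (LP (LK LD1_c1 LD2_c24 LD3_c6)) = (LP (LK LD1_c2 LD2_c56 LD3_c35)) :=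
  Lre_c IH (LK LD1_c1 LD2_c24 LD3_c6) (LK LD1_c2 LD2_c56 LD3_c35) Lrfl Lrfl
theorem f26423 : Led Lsl_ct (LP (LK LD1_c1 LD2_c8 LD3_c19)) = (LP (LK LD1_c2 LD2_c21 LD3_c16)) :=
  Lre_c IH (LK LD1_c1 LD2_c8 LD3_c19) (LK LD1_c2 LD2_c21 LD3_c16) Lrfl Lrfl
theorem f74793 : Led Lsl_af (LP (LK LD1_c3 LD2_c0 LD3_c38)) = (LP (LK LD1_c5 LD2_c58 LD3_c5)) :=
  Lgr Lrot68 (Lpr_ct (K2.f72878 IH) (Lpr_at (K2.f72903 IH) (Lpr_ct (K2.f74791 IH) (Lpn (LP (LK LD1_c5 LD2_c58 LD3_c5))))))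
theorem f75162 : Led Lsl_ff (LP (LK LD1_c5 LD2_c58 LD3_c5)) = (LP (LK LD1_c6 LD2_c0 LD3_c33)) :=
  Lgr Lrot30 (Lpe (f74793 IH) (Lpr_ft (K2.f58725 IH) (Lpr_at (K2.f75141 IH) (Lpn (LP (LK LD1_c6 LD2_c0 LD3_c33))))))
theorem f75338 : Led Lsl_gf (LP (LK LD1_c2 LD2_c56 LD3_c36)) = (LP (LK LD1_c6 LD2_c0 LD3_c33)) :=
  Lgr Lrot47 (Lpe (K2.f75052 IH) (Lpr_af (f74793 IH) (Lpr_ff (f75162 IH) (Lpn (LP (LK LD1_c6 LD2_c0 LD3_c33))))))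
theorem f69053 : Led Lsl_dt (LP (LK LD1_c2 LD2_c56 LD3_c36)) = (LP (LK LD1_c1 LD2_c24 LD3_c6)) :=
  Lre_d IH (LK LD1_c2 LD2_c56 LD3_c36) (LK LD1_c1 LD2_c24 LD3_c6) Lrfl Lrfl
theorem f72644 : Led Lsl_dt (LP (LK LD1_c0 LD2_c38 LD3_c50)) = (LP (LK LD1_c1 LD2_c24 LD3_c7)) :=
  Lre_d IH (LK LD1_c0 LD2_c38 LD3_c50) (LK LD1_c1 LD2_c24 LD3_c7) Lrfl Lrfl
theorem f56978 : Led Lsl_dt (LP (LK LD1_c4 LD2_c58 LD3_c13)) = (LP (LK LD1_c2 LD2_c56 LD3_c40)) :=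
  Lre_d IH (LK LD1_c4 LD2_c58 LD3_c13) (LK LD1_c2 LD2_c56 LD3_c40) Lrfl Lrfl
theorem f40568 : Led Lsl_gt (LP (LK LD1_c2 LD2_c27 LD3_c39)) = (LP (LK LD1_c4 LD2_c58 LD3_c13)) :=
  Lre_g IH (LK LD1_c2 LD2_c27 LD3_c39) (LK LD1_c4 LD2_c58 LD3_c13) Lrfl Lrfl
theorem f72675 : Led Lsl_dt (LP (LK LD1_c4 LD2_c59 LD3_c40)) = (LP (LK LD1_c2 LD2_c27 LD3_c39)) :=
  Lre_d IH (LK LD1_c4 LD2_c59 LD3_c40) (LK LD1_c2 LD2_c27 LD3_c39) Lrfl Lrfl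
theorem f75340 : Led Lsl_gf (LP (LK LD1_c4 LD2_c59 LD3_c40)) = (LP (LK LD1_c5 LD2_c51 LD3_c34)) :=
  Lgr Lrot144 (Lpr_dt (f72675 IH) (Lpr_gt (f40568 IH) (Lpr_dt (f56978 IH) (Lpe (K2.f13725 IH) (Lpe (f72644 IH) (Lpe (K2.f68994 IH) (Lpe (f69053 IH) (Lpr_gf (f75338 IH) (Lpe (K2.f75164 IH) (Lpn (LP (LK LD1_c5 LD2_c51 LD3_c34))))))))))))
theorem f75389 : Led Lsl_gt (LP (LK LD1_c4 LD2_c59 LD3_c40)) = (LP (LK LD1_c6 LD2_c8 LD3_c37)) :=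
  Lgr Lrot46 (Lpr_gf (f75340 IH) (Lpe (K2.f74453 IH) (Lpe (K2.f72888 IH) (Lpn (LP (LK LD1_c6 LD2_c8 LD3_c37))))))
theorem f72653 : Led Lsl_dt (LP (LK LD1_c2 LD2_c27 LD3_c39)) = (LP (LK LD1_c4 LD2_c59 LD3_c40)) :=
  Lre_d IH (LK LD1_c2 LD2_c27 LD3_c39) (LK LD1_c4 LD2_c59 LD3_c40) Lrfl Lrfl
theorem f58947 : Led Lsl_gt (LP (LK LD1_c1 LD2_c10 LD3_c60)) = (LP (LK LD1_c2 LD2_c27 LD3_c39)) :=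
  Lre_g IH (LK LD1_c1 LD2_c10 LD3_c60) (LK LD1_c2 LD2_c27 LD3_c39) Lrfl Lrfl
theorem f56883 : Led Lsl_ct (LP (LK LD1_c1 LD2_c10 LD3_c60)) = (LP (LK LD1_c0 LD2_c32 LD3_c54)) :=
  Lre_c IH (LK LD1_c1 LD2_c10 LD3_c60) (LK LD1_c0 LD2_c32 LD3_c54) Lrfl Lrfl
theorem f56864 : Led Lsl_gt (LP (LK LD1_c0 LD2_c32 LD3_c54)) = (LP (LK LD1_c1 LD2_c10 LD3_c58)) :=
  Lre_g IH (LK LD1_c0 LD2_c32 LD3_c54) (LK LD1_c1 LD2_c10 LD3_c58) Lrfl Lrfl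
theorem f72844 : Led Lsl_dt (LP (LK LD1_c1 LD2_c20 LD3_c50)) = (LP (LK LD1_c2 LD2_c49 LD3_c22)) :=
  Lre_d IH (LK LD1_c1 LD2_c20 LD3_c50) (LK LD1_c2 LD2_c49 LD3_c22) Lrfl Lrfl
theorem f56023 : Led Lsl_gt (LP (LK LD1_c0 LD2_c39 LD3_c4)) = (LP (LK LD1_c1 LD2_c24 LD3_c48)) :=
  Lre_g IH (LK LD1_c0 LD2_c39 LD3_c4) (LK LD1_c1 LD2_c24 LD3_c48) Lrfl Lrfl
theorem f72832 : Led Lsl_at (LP (LK LD1_c0 LD2_c37 LD3_c20)) = (LP (LK LD1_c1 LD2_c20 LD3_c50)) :=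
  Lre_a IH (LK LD1_c0 LD2_c37 LD3_c20) (LK LD1_c1 LD2_c20 LD3_c50) Lrfl Lrfl
theorem f72839 : Led Lsl_gt (LP (LK LD1_c1 LD2_c24 LD3_c48)) = (LP (LK LD1_c1 LD2_c20 LD3_c50)) :=
  Lgr Lrot46 (Lpe (f56023 IH) (Lpr_ft (K2.f72827 IH) (Lpr_at (f72832 IH) (Lpn (LP (LK LD1_c1 LD2_c20 LD3_c50))))))
theorem f75398 : Led Lsl_dt (LP (LK LD1_c1 LD2_c10 LD3_c58)) = (LP (LK LD1_c1 LD2_c24 LD3_c48)) :=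
  Lgr Lrot57 (Lpe (f56864 IH) (Lpe (f56883 IH) (Lpr_gt (f58947 IH) (Lpr_dt (f72653 IH) (Lpr_gt (f75389 IH) (Lpr_dt (K2.f72879 IH) (Lpe (K2.f72847 IH) (Lpe (f72844 IH) (Lpe (f72839 IH) (Lpn (LP (LK LD1_c1 LD2_c24 LD3_c48))))))))))))
theorem f75441 : Led Lsl_df (LP (LK LD1_c1 LD2_c10 LD3_c58)) = (LP (LK LD1_c1 LD2_c24 LD3_c48)) :=
  Lgr Lrot38 (Lpr_dt (f75398 IH) (Lpn (LP (LK LD1_c1 LD2_c24 LD3_c48))))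
theorem f56838 : Led Lsl_gt (LP (LK LD1_c1 LD2_c10 LD3_c58)) = (LP (LK LD1_c2 LD2_c26 LD3_c58)) :=
  Lre_g IH (LK LD1_c1 LD2_c10 LD3_c58) (LK LD1_c2 LD2_c26 LD3_c58) Lrfl Lrfl
theorem f57099 : Led Lsl_dt (LP (LK LD1_c2 LD2_c26 LD3_c58)) = (LP (LK LD1_c1 LD2_c10 LD3_c46)) :=
  Lre_d IH (LK LD1_c2 LD2_c26 LD3_c58) (LK LD1_c1 LD2_c10 LD3_c46) Lrfl Lrfl
theorem f20241 : Led Lsl_gt (LP (LK LD1_c0 LD2_c17 LD3_c49)) = (LP (LK LD1_c0 LD2_c39 LD3_c44)) :=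
  Lre_g IH (LK LD1_c0 LD2_c17 LD3_c49) (LK LD1_c0 LD2_c39 LD3_c44) Lrfl Lrfl
theorem f75506 : Led Lsl_df (LP (LK LD1_c0 LD2_c38 LD3_c48)) = (LP (LK LD1_c0 LD2_c39 LD3_c44)) :=
  Lgr Lrot153 (Lpr_gt (K0.f26404 IH) (Lpr_dt (K2.f74567 IH) (Lpe (K2.f57100 IH) (Lpe (f57099 IH) (Lpe (f56838 IH) (Lpr_df (f75441 IH) (Lpe (f56023 IH) (Lpe (K2.f37267 IH) (Lpr_gt (f20241 IH) (Lpn (LP (LK LD1_c0 LD2_c39 LD3_c44))))))))))))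
theorem f72887 : Led Lsl_gt (LP (LK LD1_c0 LD2_c39 LD3_c44)) = (LP (LK LD1_c1 LD2_c25 LD3_c61)) :=
  Lre_g IH (LK LD1_c0 LD2_c39 LD3_c44) (LK LD1_c1 LD2_c25 LD3_c61) Lrfl Lrfl
theorem f76101 : Led Lsl_gf (LP (LK LD1_c1 LD2_c24 LD3_c49)) = (LP (LK LD1_c1 LD2_c20 LD3_c50)) :=
  Lgr Lrot104 (Lpr_ct (f76086 IH) (Lpr_df (f76094 IH) (Lpe (f69051 IH) (Lpe (K2.f26424 IH) (Lpe (f26423 IH) (Lpe (K0.f26404 IH) (Lpr_df (f75506 IH) (Lpr_gt (f72887 IH) (Lpr_ct (f72815 IH) (Lpn (LP (LK LD1_c1 LD2_c20 LD3_c50))))))))))))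
theorem f76096 : Led Lsl_ct (LP (LK LD1_c2 LD2_c58 LD3_c19)) = (LP (LK LD1_c1 LD2_c24 LD3_c49)) :=
  Lre_c IH (LK LD1_c2 LD2_c58 LD3_c19) (LK LD1_c1 LD2_c24 LD3_c49) Lrfl Lrfl
theorem f79925 : Led Lsl_bf (LP (LK LD1_c1 LD2_c28 LD3_c24)) = (LP (LK LD1_c2 LD2_c58 LD3_c19)) :=
  Lgr Lrot165 (Lpr_gt (f79922 IH) (Lpr_ct (K2.f73387 IH) (Lpe (f73419 IH) (Lpr_cf (f60856 IH) (Lpr_bt (f59650 IH) (Lpr_gt (f73421 IH) (Lpr_bf (f72969 IH) (Lpr_ct (f72815 IH) (Lpe (f76101 IH) (Lpe (f76096 IH) (Lpn (LP (LK LD1_c2 LD2_c58 LD3_c19)))))))))))))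
theorem f68535 : Led Lsl_df (LP (LK LD1_c0 LD2_c17 LD3_c17)) = (LP (LK LD1_c0 LD2_c8 LD3_c28)) :=
  Lgr Lrot162 (Lpe (K1.f61823 IH) (Lpr_gf (K1.f61818 IH) (Lpe (K2.f36272 IH) (Lpe (K2.f68533 IH) (Lpr_dt (K2.f21213 IH) (Lpr_gt (K2.f68328 IH) (Lpr_ct (K2.f59644 IH) (Lpr_gt (K2.f59720 IH) (Lpr_ct (K1.f56566 IH) (Lpn (LP (LK LD1_c0 LD2_c8 LD3_c28))))))))))))
theorem f57539 : Led Lsl_ct (LP (LK LD1_c0 LD2_c17 LD3_c17)) = (LP (LK LD1_c0 LD2_c8 LD3_c22)) :=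
  Lgr Lrot110 (Lpe (K1.f22974 IH) (Lpe (K0.f22828 IH) (Lpe (K1.f350 IH) (Lpr_df (K1.f57530 IH) (Lpr_gt (K0.f10013 IH) (Lpr_ct (K0.f7101 IH) (Lpe (K0.f24948 IH) (Lpr_ct (K0.f7147 IH) (Lpe (K1.f24961 IH) (Lpn (LP (LK LD1_c0 LD2_c8 LD3_c22))))))))))))
theorem f58957 : Led Lsl_df (LP (LK LD1_c0 LD2_c17 LD3_c16)) = (LP (LK LD1_c0 LD2_c8 LD3_c15)) :=
  Lgr Lrot162 (Lpr_cf (K1.f58931 IH) (Lpr_gf (K1.f58929 IH) (Lpe (K1.f58904 IH) (Lpe (K1.f58933 IH) (Lpr_dt (K0.f20199 IH) (Lpr_gt (K1.f20196 IH) (Lpr_ct (K1.f195 IH) (Lpr_gt (K1.f58941 IH) (Lpr_ct (K1.f21181 IH) (Lpn (LP (LK LD1_c0 LD2_c8 LD3_c15))))))))))))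
theorem f25921 : Led Lsl_dt (LP (LK LD1_c0 LD2_c1 LD3_c40)) = (LP (LK LD1_c0 LD2_c3 LD3_c52)) :=
  Lre_d IH (LK LD1_c0 LD2_c1 LD3_c40) (LK LD1_c0 LD2_c3 LD3_c52) Lrfl Lrfl
theorem f68570 : Led Lsl_ct (LP (LK LD1_c0 LD2_c17 LD3_c16)) = (LP (LK LD1_c0 LD2_c8 LD3_c31)) :=
  Lgr Lrot176 (Lpr_df (f58957 IH) (Lpe (K1.f21181 IH) (Lpe (K1.f21174 IH) (Lpe (K1.f3832 IH) (Lpe (K0.f7118 IH) (Lpe (K1.f24968 IH) (Lpe (K1.f24961 IH) (Lpe (f57539 IH) (Lpr_df (f68535 IH) (Lpe (K1.f56566 IH) (Lpe (f25921 IH) (Lpe (K1.f7128 IH) (Lpe (K0.f7126 IH) (Lpe (K1.f21003 IH) (Lpe (K1.f58928 IH) (Lpn (LP (LK LD1_c0 LD2_c8 LD3_c31))))))))))))))))))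
theorem f61668 : Led Lsl_bt (LP (LK LD1_c0 LD2_c17 LD3_c16)) = (LP (LK LD1_c0 LD2_c38 LD3_c53)) :=
  Lre_b IH (LK LD1_c0 LD2_c17 LD3_c16) (LK LD1_c0 LD2_c38 LD3_c53) Lrfl Lrfl
theorem f68997 : Led Lsl_gt (LP (LK LD1_c1 LD2_c22 LD3_c43)) = (LP (LK LD1_c0 LD2_c38 LD3_c53)) :=
  Lre_g IH (LK LD1_c1 LD2_c22 LD3_c43) (LK LD1_c0 LD2_c38 LD3_c53) Lrfl Lrfl
theorem f68998 : Led Lsl_bt (LP (LK LD1_c2 LD2_c53 LD3_c12)) = (LP (LK LD1_c1 LD2_c22 LD3_c43)) :=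
  Lre_b IH (LK LD1_c2 LD2_c53 LD3_c12) (LK LD1_c1 LD2_c22 LD3_c43) Lrfl Lrfl
theorem f68999 : Led Lsl_ct (LP (LK LD1_c2 LD2_c53 LD3_c12)) = (LP (LK LD1_c5 LD2_c53 LD3_c42)) :=
  Lre_c IH (LK LD1_c2 LD2_c53 LD3_c12) (LK LD1_c5 LD2_c53 LD3_c42) Lrfl Lrfl
theorem f23588 : Led Lsl_bt (LP (LK LD1_c0 LD2_c20 LD3_c19)) = (LP (LK LD1_c0 LD2_c45 LD3_c33)) :=
  Lre_b IH (LK LD1_c0 LD2_c20 LD3_c19) (LK LD1_c0 LD2_c45 LD3_c33) Lrfl Lrfl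
theorem f23589 : Led Lsl_gt (LP (LK LD1_c0 LD2_c45 LD3_c33)) = (LP (LK LD1_c1 LD2_c38 LD3_c17)) :=
  Lre_g IH (LK LD1_c0 LD2_c45 LD3_c33) (LK LD1_c1 LD2_c38 LD3_c17) Lrfl Lrfl
theorem f69000 : Led Lsl_ct (LP (LK LD1_c1 LD2_c38 LD3_c17)) = (LP (LK LD1_c3 LD2_c23 LD3_c60)) :=
  Lre_c IH (LK LD1_c1 LD2_c38 LD3_c17) (LK LD1_c3 LD2_c23 LD3_c60) Lrfl Lrfl
theorem f69001 : Led Lsl_gf (LP (LK LD1_c5 LD2_c53 LD3_c42)) = (LP (LK LD1_c3 LD2_c23 LD3_c60)) :=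
  Lgr Lrot129 (Lpe (f68999 IH) (Lpr_bt (f68998 IH) (Lpr_gt (f68997 IH) (Lpe (f61668 IH) (Lpr_ct (f68570 IH) (Lpe (K1.f61662 IH) (Lpe (K2.f36272 IH) (Lpr_bt (f23588 IH) (Lpr_gt (f23589 IH) (Lpr_ct (f69000 IH) (Lpn (LP (LK LD1_c3 LD2_c23 LD3_c60)))))))))))))
theorem f26486 : Led Lsl_ct (LP (LK LD1_c0 LD2_c38 LD3_c53)) = (LP (LK LD1_c1 LD2_c24 LD3_c16)) :=
  Lre_c IH (LK LD1_c0 LD2_c38 LD3_c53) (LK LD1_c1 LD2_c24 LD3_c16) Lrfl Lrfl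
theorem f69011 : Led Lsl_gt (LP (LK LD1_c1 LD2_c24 LD3_c16)) = (LP (LK LD1_c2 LD2_c56 LD3_c61)) :=
  Lre_g IH (LK LD1_c1 LD2_c24 LD3_c16) (LK LD1_c2 LD2_c56 LD3_c61) Lrfl Lrfl
theorem f69012 : Led Lsl_ct (LP (LK LD1_c5 LD2_c54 LD3_c3)) = (LP (LK LD1_c2 LD2_c56 LD3_c61)) :=
  Lre_c IH (LK LD1_c5 LD2_c54 LD3_c3) (LK LD1_c2 LD2_c56 LD3_c61) Lrfl Lrfl
theorem f69013 : Led Lsl_bt (LP (LK LD1_c5 LD2_c54 LD3_c3)) = (LP (LK LD1_c4 LD2_c58 LD3_c28)) :=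
  Lre_b IH (LK LD1_c5 LD2_c54 LD3_c3) (LK LD1_c4 LD2_c58 LD3_c28) Lrfl Lrfl
theorem f69015 : Led Lsl_bf (LP (LK LD1_c2 LD2_c56 LD3_c35)) = (LP (LK LD1_c1 LD2_c38 LD3_c17)) :=
  Lgr Lrot34 (Lpe (f69014 IH) (Lpe (f69013 IH) (Lpr_ct (f69012 IH) (Lpe (f69011 IH) (Lpe (f26486 IH) (Lpe (f68997 IH) (Lpe (f68998 IH) (Lpr_ct (f68999 IH) (Lpr_gf (f69001 IH) (Lpe (f69000 IH) (Lpn (LP (LK LD1_c1 LD2_c38 LD3_c17)))))))))))))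
theorem f79929 : Led Lsl_dt (LP (LK LD1_c1 LD2_c28 LD3_c24)) = (LP (LK LD1_c1 LD2_c38 LD3_c17)) :=
  Lgr Lrot79 (Lpr_bf (f79925 IH) (Lpr_df (f76094 IH) (Lpr_bf (f69015 IH) (Lpn (LP (LK LD1_c1 LD2_c38 LD3_c17))))))
theorem f60860 : Led Lsl_ct (LP (LK LD1_c3 LD2_c4 LD3_c0)) = (LP (LK LD1_c2 LD2_c16 LD3_c61)) :=
  Lgr Lrot59 (Lpr_cf (f60856 IH) (Lpn (LP (LK LD1_c2 LD2_c16 LD3_c61))))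
theorem f56780 : Led Lsl_bt (LP (LK LD1_c0 LD2_c17 LD3_c14)) = (LP (LK LD1_c0 LD2_c7 LD3_c40)) :=
  Lre_b IH (LK LD1_c0 LD2_c17 LD3_c14) (LK LD1_c0 LD2_c7 LD3_c40) Lrfl Lrfl
theorem f56781 : Led Lsl_ct (LP (LK LD1_c0 LD2_c17 LD3_c14)) = (LP (LK LD1_c0 LD2_c38 LD3_c50)) :=
  Lre_c IH (LK LD1_c0 LD2_c17 LD3_c14) (LK LD1_c0 LD2_c38 LD3_c50) Lrfl Lrfl
theorem f26425 : Led Lsl_ct (LP (LK LD1_c2 LD2_c56 LD3_c35)) = (LP (LK LD1_c1 LD2_c24 LD3_c6)) :=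
  Lre_c IH (LK LD1_c2 LD2_c56 LD3_c35) (LK LD1_c1 LD2_c24 LD3_c6) Lrfl Lrfl
theorem f68995 : Led Lsl_bt (LP (LK LD1_c2 LD2_c56 LD3_c35)) = (LP (LK LD1_c1 LD2_c38 LD3_c17)) :=
  Lgr Lrot92 (Lpr_ct (f26425 IH) (Lpr_gt (K2.f68994 IH) (Lpe (f56781 IH) (Lpr_bt (f56780 IH) (Lpr_gt (K1.f24614 IH) (Lpr_ct (f68570 IH) (Lpe (K1.f61662 IH) (Lpe (K2.f36272 IH) (Lpr_bt (f23588 IH) (Lpr_gt (f23589 IH) (Lpn (LP (LK LD1_c1 LD2_c38 LD3_c17)))))))))))))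
theorem f69054 : Led Lsl_gf (LP (LK LD1_c1 LD2_c56 LD3_c30)) = (LP (LK LD1_c1 LD2_c38 LD3_c17)) :=
  Lgr Lrot124 (Lpr_bf (K1.f40299 IH) (Lpr_ct (K0.f26407 IH) (Lpe (K0.f26408 IH) (Lpe (K0.f26406 IH) (Lpr_bt (K0.f26405 IH) (Lpr_gt (K0.f26404 IH) (Lpr_ct (f26423 IH) (Lpr_gt (K2.f26424 IH) (Lpe (f26425 IH) (Lpr_bt (f68995 IH) (Lpn (LP (LK LD1_c1 LD2_c38 LD3_c17)))))))))))))
theorem f40313 : Led Lsl_ct (LP (LK LD1_c1 LD2_c56 LD3_c30)) = (LP (LK LD1_c3 LD2_c59 LD3_c39)) :=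
  Lre_c IH (LK LD1_c1 LD2_c56 LD3_c30) (LK LD1_c3 LD2_c59 LD3_c39) Lrfl Lrfl
theorem f40390 : Led Lsl_at (LP (LK LD1_c1 LD2_c56 LD3_c33)) = (LP (LK LD1_c3 LD2_c59 LD3_c39)) :=
  Lre_a IH (LK LD1_c1 LD2_c56 LD3_c33) (LK LD1_c3 LD2_c59 LD3_c39) Lrfl Lrfl
theorem f40391 : Led Lsl_at (LP (LK LD1_c3 LD2_c23 LD3_c36)) = (LP (LK LD1_c1 LD2_c38 LD3_c7)) :=
  Lre_a IH (LK LD1_c3 LD2_c23 LD3_c36) (LK LD1_c1 LD2_c38 LD3_c7) Lrfl Lrfl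
theorem f40392 : Led Lsl_ft (LP (LK LD1_c3 LD2_c59 LD3_c39)) = (LP (LK LD1_c3 LD2_c23 LD3_c36)) :=
  Lgr Lrot101 (Lpe (f40390 IH) (Lpr_ff (K2.f40376 IH) (Lpe (f40391 IH) (Lpn (LP (LK LD1_c3 LD2_c23 LD3_c36))))))
theorem f40354 : Led Lsl_gt (LP (LK LD1_c3 LD2_c23 LD3_c35)) = (LP (LK LD1_c1 LD2_c38 LD3_c7)) :=
  Lre_g IH (LK LD1_c3 LD2_c23 LD3_c35) (LK LD1_c1 LD2_c38 LD3_c7) Lrfl Lrfl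
theorem f40593 : Led Lsl_gt (LP (LK LD1_c3 LD2_c59 LD3_c39)) = (LP (LK LD1_c3 LD2_c23 LD3_c35)) :=
  Lgr Lrot5 (Lpr_ft (f40392 IH) (Lpr_at (f40391 IH) (Lpe (f40354 IH) (Lpn (LP (LK LD1_c3 LD2_c23 LD3_c35))))))
theorem f26401 : Led Lsl_gt (LP (LK LD1_c1 LD2_c4 LD3_c61)) = (LP (LK LD1_c0 LD2_c44 LD3_c46)) :=
  Lre_g IH (LK LD1_c1 LD2_c4 LD3_c61) (LK LD1_c0 LD2_c44 LD3_c46) Lrfl Lrfl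
theorem f26402 : Led Lsl_bt (LP (LK LD1_c2 LD2_c16 LD3_c3)) = (LP (LK LD1_c1 LD2_c4 LD3_c61)) :=
  Lre_b IH (LK LD1_c2 LD2_c16 LD3_c3) (LK LD1_c1 LD2_c4 LD3_c61) Lrfl Lrfl
theorem f40595 : Led Lsl_ct (LP (LK LD1_c2 LD2_c16 LD3_c3)) = (LP (LK LD1_c3 LD2_c23 LD3_c35)) :=
  Lgr Lrot10 (Lpr_bt (f26402 IH) (Lpr_gt (f26401 IH) (Lpr_ct (K0.f26400 IH) (Lpr_gt (K0.f14019 IH) (Lpe (K0.f26381 IH) (Lpr_bt (K0.f26382 IH) (Lpr_gt (K0.f26396 IH) (Lpe (K1.f40311 IH) (Lpr_ct (f40313 IH) (Lpr_gt (f40593 IH) (Lpn (LP (LK LD1_c3 LD2_c23 LD3_c35)))))))))))))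
theorem f40601 : Led Lsl_cf (LP (LK LD1_c2 LD2_c16 LD3_c3)) = (LP (LK LD1_c3 LD2_c23 LD3_c35)) :=
  Lgr Lrot11 (Lpr_ct (f40595 IH) (Lpn (LP (LK LD1_c3 LD2_c23 LD3_c35))))
theorem f79933 : Led Lsl_df (LP (LK LD1_c2 LD2_c16 LD3_c61)) = (LP (LK LD1_c2 LD2_c16 LD3_c3)) :=
  Lgr Lrot162 (Lpe (f60860 IH) (Lpr_gf (f73419 IH) (Lpe (K2.f73387 IH) (Lpe (f79922 IH) (Lpr_dt (f79929 IH) (Lpe (f69054 IH) (Lpr_ct (f40313 IH) (Lpr_gt (f40593 IH) (Lpe (f40601 IH) (Lpn (LP (LK LD1_c2 LD2_c16 LD3_c3))))))))))))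
theorem f79945 : Led Lsl_dt (LP (LK LD1_c2 LD2_c16 LD3_c61)) = (LP (LK LD1_c2 LD2_c16 LD3_c3)) :=
  Lgr Lrot42 (Lpr_df (f79933 IH) (Lpn (LP (LK LD1_c2 LD2_c16 LD3_c3))))
theorem f60858 : Led Lsl_bt (LP (LK LD1_c1 LD2_c5 LD3_c26)) = (LP (LK LD1_c2 LD2_c16 LD3_c61)) :=
  Lre_b IH (LK LD1_c1 LD2_c5 LD3_c26) (LK LD1_c2 LD2_c16 LD3_c61) Lrfl Lrfl
theorem f79947 : Led Lsl_df (LP (LK LD1_c1 LD2_c5 LD3_c26)) = (LP (LK LD1_c1 LD2_c4 LD3_c61)) :=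
  Lgr Lrot12 (Lpr_bt (f60858 IH) (Lpr_dt (f79945 IH) (Lpr_bt (f26402 IH) (Lpn (LP (LK LD1_c1 LD2_c4 LD3_c61))))))
theorem f60954 : Led Lsl_cf (LP (LK LD1_c2 LD2_c49 LD3_c17)) = (LP (LK LD1_c2 LD2_c16 LD3_c48)) :=
  Lgr Lrot11 (Lpr_ct (f60933 IH) (Lpn (LP (LK LD1_c2 LD2_c16 LD3_c48))))
theorem f79965 : Led Lsl_dt (LP (LK LD1_c2 LD2_c49 LD3_c17)) = (LP (LK LD1_c4 LD2_c38 LD3_c4)) :=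
  Lgr Lrot27 (Lpr_cf (f60954 IH) (Lpe (f72990 IH) (Lpe (f60359 IH) (Lpe (f73421 IH) (Lpr_df (f79947 IH) (Lpr_gt (f26401 IH) (Lpr_ct (K0.f26400 IH) (Lpr_gt (K0.f14019 IH) (Lpr_ct (f26386 IH) (Lpn (LP (LK LD1_c4 LD2_c38 LD3_c4))))))))))))
theorem f80025 : Led Lsl_df (LP (LK LD1_c2 LD2_c49 LD3_c17)) = (LP (LK LD1_c4 LD2_c38 LD3_c4)) :=
  Lgr Lrot38 (Lpr_dt (f79965 IH) (Lpn (LP (LK LD1_c4 LD2_c38 LD3_c4))))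
theorem f26384 : Led Lsl_bf (LP (LK LD1_c4 LD2_c38 LD3_c4)) = (LP (LK LD1_c2 LD2_c27 LD3_c30)) :=
  Lgr Lrot24 (Lpr_bt (K0.f26382 IH) (Lpn (LP (LK LD1_c2 LD2_c27 LD3_c30))))
theorem f80030 : Led Lsl_dt (LP (LK LD1_c1 LD2_c20 LD3_c48)) = (LP (LK LD1_c2 LD2_c27 LD3_c30)) :=
  Lgr Lrot79 (Lpe (f60932 IH) (Lpr_df (f80025 IH) (Lpr_bf (f26384 IH) (Lpn (LP (LK LD1_c2 LD2_c27 LD3_c30))))))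
theorem f30709 : Led Lsl_df (LP (LK LD1_c0 LD2_c55 LD3_c26)) = (LP (LK LD1_c1 LD2_c57 LD3_c13)) :=
  Lgr Lrot38 (Lpr_dt (K1.f29554 IH) (Lpn (LP (LK LD1_c1 LD2_c57 LD3_c13))))
theorem f35869 : Led Lsl_bt (LP (LK LD1_c2 LD2_c9 LD3_c25)) = (LP (LK LD1_c1 LD2_c1 LD3_c51)) :=
  Lre_b IH (LK LD1_c2 LD2_c9 LD3_c25) (LK LD1_c1 LD2_c1 LD3_c51) Lrfl Lrfl
theorem f36530 : Led Lsl_ct (LP (LK LD1_c4 LD2_c23 LD3_c61)) = (LP (LK LD1_c2 LD2_c9 LD3_c25)) :=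
  Lre_c IH (LK LD1_c4 LD2_c23 LD3_c61) (LK LD1_c2 LD2_c9 LD3_c25) Lrfl Lrfl
theorem f36563 : Led Lsl_dt (LP (LK LD1_c8 LD2_c45 LD3_c48)) = (LP (LK LD1_c4 LD2_c23 LD3_c61)) :=
  Lre_d IH (LK LD1_c8 LD2_c45 LD3_c48) (LK LD1_c4 LD2_c23 LD3_c61) Lrfl Lrfl
theorem f80032 : Led Lsl_gf (LP (LK LD1_c8 LD2_c45 LD3_c48)) = (LP (LK LD1_c9 LD2_c11 LD3_c49)) :=
  Lgr Lrot85 (Lpr_dt (f36563 IH) (Lpr_ct (f36530 IH) (Lpr_bt (f35869 IH) (Lpe (K1.f36665 IH) (Lpe (f30709 IH) (Lpr_ct (K1.f29329 IH) (Lpr_bt (K1.f29327 IH) (Lpr_gt (K1.f34707 IH) (Lpr_dt (K1.f27214 IH) (Lpe (K0.f35396 IH) (Lpr_bt (K0.f35402 IH) (Lpe (K0.f26738 IH) (Lpr_dt (K1.f60905 IH) (Lpe (K2.f60917 IH) (Lpr_bt (K2.f60929 IH) (Lpr_gt (f60930 IH) (Lpr_dt (f80030 IH) (Lpr_ct (f26268 IH) (Lpe (f26389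 IH) (Lpn (LP (LK LD1_c9 LD2_c11 LD3_c49))))))))))))))))))))))
theorem f99243 : Led Lsl_bf (LP (LK LD1_c8 LD2_c45 LD3_c48)) = (LP (LK LD1_c8 LD2_c50 LD3_c29)) :=
  Lgr Lrot34 (Lpr_gf (f80032 IH) (Lpr_bf (f26389 IH) (Lpr_ct (f26455 IH) (Lpe (K0.f23455 IH) (Lpe (f20421 IH) (Lpe (K0.f26413 IH) (Lpe (f26426 IH) (Lpr_ct (f26427 IH) (Lpe (f26454 IH) (Lpr_cf (f99234 IH) (Lpn (LP (LK LD1_c8 LD2_c50 LD3_c29)))))))))))))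
theorem f38161 : Led Lsl_dt (LP (LK LD1_c4 LD2_c26 LD3_c29)) = (LP (LK LD1_c8 LD2_c50 LD3_c29)) :=
  Lre_d IH (LK LD1_c4 LD2_c26 LD3_c29) (LK LD1_c8 LD2_c50 LD3_c29) Lrfl Lrfl
theorem f99248 : Led Lsl_bt (LP (LK LD1_c4 LD2_c23 LD3_c61)) = (LP (LK LD1_c4 LD2_c26 LD3_c29)) :=
  Lgr Lrot95 (Lpe (f36563 IH) (Lpr_bf (f99243 IH) (Lpe (f38161 IH) (Lpn (LP (LK LD1_c4 LD2_c26 LD3_c29))))))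
theorem f99256 : Led Lsl_et (LP (LK LD1_c8 LD2_c45 LD3_c49)) = (LP (LK LD1_c4 LD2_c23 LD3_c61)) :=
  Lre_e IH (LK LD1_c8 LD2_c45 LD3_c49) (LK LD1_c4 LD2_c23 LD3_c61) Lrfl Lrfl
theorem f38162 : Led Lsl_et (LP (LK LD1_c4 LD2_c26 LD3_c29)) = (LP (LK LD1_c8 LD2_c50 LD3_c30)) :=
  Lre_e IH (LK LD1_c4 LD2_c26 LD3_c29) (LK LD1_c8 LD2_c50 LD3_c30) Lrfl Lrfl
theorem f99257 : Led Lsl_bf (LP (LK LD1_c8 LD2_c45 LD3_c49)) = (LP (LK LD1_c8 LD2_c50 LD3_c30)) :=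
  Lgr Lrot96 (Lpr_et (f99256 IH) (Lpr_bt (f99248 IH) (Lpr_et (f38162 IH) (Lpn (LP (LK LD1_c8 LD2_c50 LD3_c30))))))
theorem f99276 : Led Lsl_ft (LP (LK LD1_c8 LD2_c45 LD3_c49)) = (LP (LK LD1_c16 LD2_c24 LD3_c1)) :=
  Lre_f IH (LK LD1_c8 LD2_c45 LD3_c49) (LK LD1_c16 LD2_c24 LD3_c1) Lrfl Lrfl
theorem f38182 : Led Lsl_ft (LP (LK LD1_c16 LD2_c31 LD3_c32)) = (LP (LK LD1_c8 LD2_c50 LD3_c30)) :=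
  Lre_f IH (LK LD1_c16 LD2_c31 LD3_c32) (LK LD1_c8 LD2_c50 LD3_c30) Lrfl Lrfl
theorem f99277 : Led Lsl_bt (LP (LK LD1_c16 LD2_c24 LD3_c1)) = (LP (LK LD1_c16 LD2_c31 LD3_c32)) :=
  Lgr Lrot35 (Lpe (f99276 IH) (Lpr_bf (f99257 IH) (Lpe (f38182 IH) (Lpn (LP (LK LD1_c16 LD2_c31 LD3_c32))))))
theorem f99284 : Led Lsl_ct (LP (LK LD1_c8 LD2_c45 LD3_c52)) = (LP (LK LD1_c16 LD2_c24 LD3_c1)) :=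
  Lre_c IH (LK LD1_c8 LD2_c45 LD3_c52) (LK LD1_c16 LD2_c24 LD3_c1) Lrfl Lrfl
theorem f99285 : Led Lsl_bt (LP (LK LD1_c4 LD2_c24 LD3_c7)) = (LP (LK LD1_c8 LD2_c45 LD3_c52)) :=
  Lre_b IH (LK LD1_c4 LD2_c24 LD3_c7) (LK LD1_c8 LD2_c45 LD3_c52) Lrfl Lrfl
theorem f99286 : Led Lsl_ct (LP (LK LD1_c16 LD2_c31 LD3_c32)) = (LP (LK LD1_c8 LD2_c50 LD3_c34)) :=
  Lre_c IH (LK LD1_c16 LD2_c31 LD3_c32) (LK LD1_c8 LD2_c50 LD3_c34) Lrfl Lrfl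
theorem f38137 : Led Lsl_bt (LP (LK LD1_c8 LD2_c50 LD3_c34)) = (LP (LK LD1_c4 LD2_c26 LD3_c34)) :=
  Lre_b IH (LK LD1_c8 LD2_c50 LD3_c34) (LK LD1_c4 LD2_c26 LD3_c34) Lrfl Lrfl
theorem f99287 : Led Lsl_cf (LP (LK LD1_c4 LD2_c24 LD3_c7)) = (LP (LK LD1_c4 LD2_c26 LD3_c34)) :=
  Lgr Lrot97 (Lpr_bt (f99285 IH) (Lpr_ct (f99284 IH) (Lpr_bt (f99277 IH) (Lpr_ct (f99286 IH) (Lpr_bt (f38137 IH) (Lpn (LP (LK LD1_c4 LD2_c26 LD3_c34))))))))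
theorem f99292 : Led Lsl_ct (LP (LK LD1_c4 LD2_c24 LD3_c7)) = (LP (LK LD1_c4 LD2_c26 LD3_c34)) :=
  Lgr Lrot59 (Lpr_cf (f99287 IH) (Lpn (LP (LK LD1_c4 LD2_c26 LD3_c34))))
theorem f99302 : Led Lsl_ft (LP (LK LD1_c2 LD2_c9 LD3_c27)) = (LP (LK LD1_c4 LD2_c24 LD3_c7)) :=
  Lre_f IH (LK LD1_c2 LD2_c9 LD3_c27) (LK LD1_c4 LD2_c24 LD3_c7) Lrfl Lrfl
theorem f38115 : Led Lsl_ft (LP (LK LD1_c4 LD2_c26 LD3_c34)) = (LP (LK LD1_c2 LD2_c10 LD3_c29)) :=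
  Lre_f IH (LK LD1_c4 LD2_c26 LD3_c34) (LK LD1_c2 LD2_c10 LD3_c29) Lrfl Lrfl
theorem f99303 : Led Lsl_cf (LP (LK LD1_c2 LD2_c9 LD3_c27)) = (LP (LK LD1_c2 LD2_c10 LD3_c29)) :=
  Lgr Lrot108 (Lpr_ft (f99302 IH) (Lpr_ct (f99292 IH) (Lpr_ft (f38115 IH) (Lpn (LP (LK LD1_c2 LD2_c10 LD3_c29))))))
theorem f36678 : Led Lsl_dt (LP (LK LD1_c4 LD2_c24 LD3_c6)) = (LP (LK LD1_c2 LD2_c9 LD3_c27)) :=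
  Lre_d IH (LK LD1_c4 LD2_c24 LD3_c6) (LK LD1_c2 LD2_c9 LD3_c27) Lrfl Lrfl
theorem f36667 : Led Lsl_gt (LP (LK LD1_c8 LD2_c45 LD3_c61)) = (LP (LK LD1_c4 LD2_c24 LD3_c6)) :=
  Lre_g IH (LK LD1_c8 LD2_c45 LD3_c61) (LK LD1_c4 LD2_c24 LD3_c6) Lrfl Lrfl
theorem f35895 : Led Lsl_gt (LP (LK LD1_c2 LD2_c9 LD3_c54)) = (LP (LK LD1_c4 LD2_c24 LD3_c54)) :=
  Lre_g IH (LK LD1_c2 LD2_c9 LD3_c54) (LK LD1_c4 LD2_c24 LD3_c54) Lrfl Lrfl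
theorem f35896 : Led Lsl_et (LP (LK LD1_c8 LD2_c47 LD3_c18)) = (LP (LK LD1_c4 LD2_c24 LD3_c54)) :=
  Lre_e IH (LK LD1_c8 LD2_c47 LD3_c18) (LK LD1_c4 LD2_c24 LD3_c54) Lrfl Lrfl
theorem f35877 : Led Lsl_et (LP (LK LD1_c2 LD2_c9 LD3_c27)) = (LP (LK LD1_c1 LD2_c1 LD3_c51)) :=
  Lre_e IH (LK LD1_c2 LD2_c9 LD3_c27) (LK LD1_c1 LD2_c1 LD3_c51) Lrfl Lrfl
theorem f35878 : Led Lsl_dt (LP (LK LD1_c2 LD2_c9 LD3_c27)) = (LP (LK LD1_c4 LD2_c24 LD3_c6)) :=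
  Lre_d IH (LK LD1_c2 LD2_c9 LD3_c27) (LK LD1_c4 LD2_c24 LD3_c6) Lrfl Lrfl
theorem f36668 : Led Lsl_dt (LP (LK LD1_c8 LD2_c47 LD3_c18)) = (LP (LK LD1_c8 LD2_c45 LD3_c61)) :=
  Lgr Lrot136 (Lpr_et (f35896 IH) (Lpe (f35895 IH) (Lpe (K1.f35829 IH) (Lpr_dt (K1.f35438 IH) (Lpe (K1.f35820 IH) (Lpr_df (f30709 IH) (Lpr_gf (K1.f36665 IH) (Lpe (f35877 IH) (Lpr_dt (f35878 IH) (Lpe (f36667 IH) (Lpn (LP (LK LD1_c8 LD2_c45 LD3_c61)))))))))))))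
theorem f36672 : Led Lsl_gt (LP (LK LD1_c16 LD2_c26 LD3_c46)) = (LP (LK LD1_c8 LD2_c47 LD3_c18)) :=
  Lre_g IH (LK LD1_c16 LD2_c26 LD3_c46) (LK LD1_c8 LD2_c47 LD3_c18) Lrfl Lrfl
theorem f80453 : Led Lsl_dt (LP (LK LD1_c4 LD2_c26 LD3_c33)) = (LP (LK LD1_c2 LD2_c10 LD3_c29)) :=
  Lre_d IH (LK LD1_c4 LD2_c26 LD3_c33) (LK LD1_c2 LD2_c10 LD3_c29) Lrfl Lrfl
theorem f80906 : Led Lsl_gt (LP (LK LD1_c8 LD2_c50 LD3_c41)) = (LP (LK LD1_c4 LD2_c26 LD3_c33)) :=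
  Lre_g IH (LK LD1_c8 LD2_c50 LD3_c41) (LK LD1_c4 LD2_c26 LD3_c33) Lrfl Lrfl
theorem f99311 : Led Lsl_dt (LP (LK LD1_c8 LD2_c47 LD3_c52)) = (LP (LK LD1_c8 LD2_c50 LD3_c41)) :=
  Lre_d IH (LK LD1_c8 LD2_c47 LD3_c52) (LK LD1_c8 LD2_c50 LD3_c41) Lrfl Lrfl
theorem f99312 : Led Lsl_gt (LP (LK LD1_c16 LD2_c23 LD3_c14)) = (LP (LK LD1_c8 LD2_c47 LD3_c52)) :=
  Lre_g IH (LK LD1_c16 LD2_c23 LD3_c14) (LK LD1_c8 LD2_c47 LD3_c52) Lrfl Lrfl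
theorem f99313 : Led Lsl_ct (LP (LK LD1_c16 LD2_c26 LD3_c46)) = (LP (LK LD1_c16 LD2_c23 LD3_c14)) :=
  Lgr Lrot8 (Lpr_gt (f36672 IH) (Lpr_dt (f36668 IH) (Lpr_gt (f36667 IH) (Lpr_dt (f36678 IH) (Lpr_cf (f99303 IH) (Lpe (f80453 IH) (Lpe (f80906 IH) (Lpe (f99311 IH) (Lpe (f99312 IH) (Lpn (LP (LK LD1_c16 LD2_c23 LD3_c14))))))))))))
theorem f99320 : Led Lsl_et (LP (LK LD1_c16 LD2_c23 LD3_c14)) = (LP (LK LD1_c8 LD2_c45 LD3_c13)) :=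
  Lre_e IH (LK LD1_c16 LD2_c23 LD3_c14) (LK LD1_c8 LD2_c45 LD3_c13) Lrfl Lrfl
theorem f99321 : Led Lsl_ct (LP (LK LD1_c8 LD2_c45 LD3_c13)) = (LP (LK LD1_c16 LD2_c23 LD3_c13)) :=
  Lre_c IH (LK LD1_c8 LD2_c45 LD3_c13) (LK LD1_c16 LD2_c23 LD3_c13) Lrfl Lrfl
theorem f99322 : Led Lsl_ef (LP (LK LD1_c16 LD2_c26 LD3_c46)) = (LP (LK LD1_c16 LD2_c23 LD3_c13)) :=
  Lgr Lrot28 (Lpr_ct (f99313 IH) (Lpr_et (f99320 IH) (Lpr_ct (f99321 IH) (Lpn (LP (LK LD1_c16 LD2_c23 LD3_c13))))))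
theorem f30722 : Led Lsl_et (LP (LK LD1_c4 LD2_c0 LD3_c54)) = (LP (LK LD1_c1 LD2_c57 LD3_c13)) :=
  Lre_e IH (LK LD1_c4 LD2_c0 LD3_c54) (LK LD1_c1 LD2_c57 LD3_c13) Lrfl Lrfl
theorem f30070 : Led Lsl_dt (LP (LK LD1_c4 LD2_c0 LD3_c54)) = (LP (LK LD1_c8 LD2_c2 LD3_c32)) :=
  Lre_d IH (LK LD1_c4 LD2_c0 LD3_c54) (LK LD1_c8 LD2_c2 LD3_c32) Lrfl Lrfl
theorem f30750 : Led Lsl_gt (LP (LK LD1_c8 LD2_c2 LD3_c32)) = (LP (LK LD1_c15 LD2_c8 LD3_c24)) :=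
  Lre_g IH (LK LD1_c8 LD2_c2 LD3_c32) (LK LD1_c15 LD2_c8 LD3_c24) Lrfl Lrfl
theorem f99326 : Led Lsl_df (LP (LK LD1_c15 LD2_c8 LD3_c24)) = (LP (LK LD1_c16 LD2_c23 LD3_c13)) :=
  Lgr Lrot168 (Lpe (f30750 IH) (Lpe (f30070 IH) (Lpr_et (f30722 IH) (Lpr_gf (K1.f36665 IH) (Lpe (f35877 IH) (Lpr_dt (f35878 IH) (Lpe (f36667 IH) (Lpe (f36668 IH) (Lpe (f36672 IH) (Lpr_ef (f99322 IH) (Lpn (LP (LK LD1_c16 LD2_c23 LD3_c13)))))))))))))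
theorem f99332 : Led Lsl_dt (LP (LK LD1_c15 LD2_c8 LD3_c24)) = (LP (LK LD1_c16 LD2_c23 LD3_c13)) :=
  Lgr Lrot42 (Lpr_df (f99326 IH) (Lpn (LP (LK LD1_c16 LD2_c23 LD3_c13))))
theorem f99328 : Led Lsl_dt (LP (LK LD1_c4 LD2_c23 LD3_c40)) = (LP (LK LD1_c8 LD2_c45 LD3_c13)) :=
  Lre_d IH (LK LD1_c4 LD2_c23 LD3_c40) (LK LD1_c8 LD2_c45 LD3_c13) Lrfl Lrfl
theorem f99339 : Led Lsl_gt (LP (LK LD1_c2 LD2_c9 LD3_c14)) = (LP (LK LD1_c4 LD2_c23 LD3_c40)) :=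
  Lre_g IH (LK LD1_c2 LD2_c9 LD3_c14) (LK LD1_c4 LD2_c23 LD3_c40) Lrfl Lrfl
theorem f99340 : Led Lsl_gt (LP (LK LD1_c2 LD2_c10 LD3_c33)) = (LP (LK LD1_c1 LD2_c2 LD3_c18)) :=
  Lre_g IH (LK LD1_c2 LD2_c10 LD3_c33) (LK LD1_c1 LD2_c2 LD3_c18) Lrfl Lrfl
theorem f99341 : Led Lsl_ct (LP (LK LD1_c4 LD2_c26 LD3_c48)) = (LP (LK LD1_c2 LD2_c10 LD3_c33)) :=
  Lre_c IH (LK LD1_c4 LD2_c26 LD3_c48) (LK LD1_c2 LD2_c10 LD3_c33) Lrfl Lrfl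
theorem f99342 : Led Lsl_gf (LP (LK LD1_c4 LD2_c0 LD3_c54)) = (LP (LK LD1_c4 LD2_c26 LD3_c48)) :=
  Lgr Lrot144 (Lpr_dt (f30070 IH) (Lpr_gt (f30750 IH) (Lpr_dt (f99332 IH) (Lpe (f99321 IH) (Lpe (f99328 IH) (Lpe (f99339 IH) (Lpe (K1.f16329 IH) (Lpe (f99340 IH) (Lpe (f99341 IH) (Lpn (LP (LK LD1_c4 LD2_c26 LD3_c48))))))))))))
theorem f36676 : Led Lsl_et (LP (LK LD1_c4 LD2_c24 LD3_c54)) = (LP (LK LD1_c8 LD2_c47 LD3_c18)) :=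
  Lre_e IH (LK LD1_c4 LD2_c24 LD3_c54) (LK LD1_c8 LD2_c47 LD3_c18) Lrfl Lrfl
theorem f35898 : Led Lsl_dt (LP (LK LD1_c4 LD2_c24 LD3_c54)) = (LP (LK LD1_c8 LD2_c47 LD3_c17)) :=
  Lre_d IH (LK LD1_c4 LD2_c24 LD3_c54) (LK LD1_c8 LD2_c47 LD3_c17) Lrfl Lrfl
theorem f35899 : Led Lsl_gt (LP (LK LD1_c8 LD2_c47 LD3_c17)) = (LP (LK LD1_c16 LD2_c26 LD3_c43)) :=
  Lre_g IH (LK LD1_c8 LD2_c47 LD3_c17) (LK LD1_c16 LD2_c26 LD3_c43) Lrfl Lrfl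
theorem f99357 : Led Lsl_et (LP (LK LD1_c8 LD2_c51 LD3_c20)) = (LP (LK LD1_c4 LD2_c26 LD3_c48)) :=
  Lre_e IH (LK LD1_c8 LD2_c51 LD3_c20) (LK LD1_c4 LD2_c26 LD3_c48) Lrfl Lrfl
theorem f99358 : Led Lsl_df (LP (LK LD1_c16 LD2_c26 LD3_c43)) = (LP (LK LD1_c8 LD2_c51 LD3_c20)) :=
  Lgr Lrot168 (Lpe (f35899 IH) (Lpe (f35898 IH) (Lpr_et (f36676 IH) (Lpe (f36672 IH) (Lpr_ef (f99322 IH) (Lpe (f99326 IH) (Lpe (f30750 IH) (Lpe (f30070 IH) (Lpr_gf (f99342 IH) (Lpe (f99357 IH) (Lpn (LP (LK LD1_c8 LD2_c51 LD3_c20)))))))))))))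
theorem f99368 : Led Lsl_dt (LP (LK LD1_c16 LD2_c26 LD3_c43)) = (LP (LK LD1_c8 LD2_c51 LD3_c20)) :=
  Lgr Lrot42 (Lpr_df (f99358 IH) (Lpn (LP (LK LD1_c8 LD2_c51 LD3_c20))))
theorem f99377 : Led Lsl_ct (LP (LK LD1_c8 LD2_c51 LD3_c20)) = (LP (LK LD1_c4 LD2_c26 LD3_c50)) :=
  Lre_c IH (LK LD1_c8 LD2_c51 LD3_c20) (LK LD1_c4 LD2_c26 LD3_c50) Lrfl Lrfl
theorem f99366 : Led Lsl_dt (LP (LK LD1_c8 LD2_c51 LD3_c24)) = (LP (LK LD1_c4 LD2_c26 LD3_c50)) :=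
  Lre_d IH (LK LD1_c8 LD2_c51 LD3_c24) (LK LD1_c4 LD2_c26 LD3_c50) Lrfl Lrfl
theorem f99381 : Led Lsl_gt (LP (LK LD1_c8 LD2_c47 LD3_c51)) = (LP (LK LD1_c8 LD2_c51 LD3_c24)) :=
  Lre_g IH (LK LD1_c8 LD2_c47 LD3_c51) (LK LD1_c8 LD2_c51 LD3_c24) Lrfl Lrfl
theorem f72226 : Led Lsl_dt (LP (LK LD1_c4 LD2_c25 LD3_c7)) = (LP (LK LD1_c8 LD2_c47 LD3_c51)) :=
  Lre_d IH (LK LD1_c4 LD2_c25 LD3_c7) (LK LD1_c8 LD2_c47 LD3_c51) Lrfl Lrfl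
theorem f72225 : Led Lsl_gt (LP (LK LD1_c2 LD2_c9 LD3_c61)) = (LP (LK LD1_c4 LD2_c25 LD3_c7)) :=
  Lre_g IH (LK LD1_c2 LD2_c9 LD3_c61) (LK LD1_c4 LD2_c25 LD3_c7) Lrfl Lrfl
theorem f99383 : Led Lsl_cf (LP (LK LD1_c2 LD2_c9 LD3_c54)) = (LP (LK LD1_c2 LD2_c9 LD3_c61)) :=
  Lgr Lrot166 (Lpr_gt (f35895 IH) (Lpr_dt (f35898 IH) (Lpr_gt (f35899 IH) (Lpr_dt (f99368 IH) (Lpr_ct (f99377 IH) (Lpe (f99366 IH) (Lpe (f99381 IH) (Lpe (f72226 IH) (Lpe (f72225 IH) (Lpn (LP (LK LD1_c2 LD2_c9 LD3_c61))))))))))))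
theorem f81752 : Led Lsl_bt (LP (LK LD1_c2 LD2_c9 LD3_c54)) = (LP (LK LD1_c4 LD2_c24 LD3_c49)) :=
  Lre_b IH (LK LD1_c2 LD2_c9 LD3_c54) (LK LD1_c4 LD2_c24 LD3_c49) Lrfl Lrfl
theorem f99390 : Led Lsl_ct (LP (LK LD1_c4 LD2_c24 LD3_c49)) = (LP (LK LD1_c8 LD2_c47 LD3_c5)) :=
  Lre_c IH (LK LD1_c4 LD2_c24 LD3_c49) (LK LD1_c8 LD2_c47 LD3_c5) Lrfl Lrfl
theorem f72219 : Led Lsl_ct (LP (LK LD1_c5 LD2_c54 LD3_c15)) = (LP (LK LD1_c2 LD2_c53 LD3_c32)) :=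
  Lre_c IH (LK LD1_c5 LD2_c54 LD3_c15) (LK LD1_c2 LD2_c53 LD3_c32) Lrfl Lrfl
theorem f99391 : Led Lsl_bt (LP (LK LD1_c8 LD2_c47 LD3_c5)) = (LP (LK LD1_c5 LD2_c54 LD3_c15)) :=
  Lgr Lrot128 (Lpe (f99390 IH) (Lpe (f81752 IH) (Lpr_cf (f99383 IH) (Lpr_bf (K2.f72210 IH) (Lpe (f72219 IH) (Lpn (LP (LK LD1_c5 LD2_c54 LD3_c15))))))))
theorem f99409 : Led Lsl_dt (LP (LK LD1_c16 LD2_c26 LD3_c15)) = (LP (LK LD1_c8 LD2_c47 LD3_c5)) :=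
  Lre_d IH (LK LD1_c16 LD2_c26 LD3_c15) (LK LD1_c8 LD2_c47 LD3_c5) Lrfl Lrfl
theorem f99410 : Led Lsl_dt (LP (LK LD1_c5 LD2_c54 LD3_c15)) = (LP (LK LD1_c11 LD2_c34 LD3_c19)) :=
  Lre_d IH (LK LD1_c5 LD2_c54 LD3_c15) (LK LD1_c11 LD2_c34 LD3_c19) Lrfl Lrfl
theorem f99411 : Led Lsl_bf (LP (LK LD1_c16 LD2_c26 LD3_c15)) = (LP (LK LD1_c11 LD2_c34 LD3_c19)) :=
  Lgr Lrot93 (Lpr_dt (f99409 IH) (Lpr_bt (f99391 IH) (Lpr_dt (f99410 IH) (Lpn (LP (LK LD1_c11 LD2_c34 LD3_c19))))))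
theorem f99425 : Led Lsl_ft (LP (LK LD1_c16 LD2_c26 LD3_c15)) = (LP (LK LD1_c26 LD2_c23 LD3_c40)) :=
  Lre_f IH (LK LD1_c16 LD2_c26 LD3_c15) (LK LD1_c26 LD2_c23 LD3_c40) Lrfl Lrfl
theorem f99426 : Led Lsl_ft (LP (LK LD1_c20 LD2_c31 LD3_c56)) = (LP (LK LD1_c11 LD2_c34 LD3_c19)) :=
  Lre_f IH (LK LD1_c20 LD2_c31 LD3_c56) (LK LD1_c11 LD2_c34 LD3_c19) Lrfl Lrfl
theorem f99427 : Led Lsl_bt (LP (LK LD1_c26 LD2_c23 LD3_c40)) = (LP (LK LD1_c20 LD2_c31 LD3_c56)) :=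
  Lgr Lrot35 (Lpe (f99425 IH) (Lpr_bf (f99411 IH) (Lpe (f99426 IH) (Lpn (LP (LK LD1_c20 LD2_c31 LD3_c56))))))
theorem f99431 : Led Lsl_bf (LP (LK LD1_c26 LD2_c23 LD3_c40)) = (LP (LK LD1_c20 LD2_c31 LD3_c56)) :=
  Lgr Lrot24 (Lpr_bt (f99427 IH) (Lpn (LP (LK LD1_c20 LD2_c31 LD3_c56))))
theorem f35945 : Led Lsl_dt (LP (LK LD1_c26 LD2_c23 LD3_c40)) = (LP (LK LD1_c16 LD2_c26 LD3_c16)) :=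
  Lre_d IH (LK LD1_c26 LD2_c23 LD3_c40) (LK LD1_c16 LD2_c26 LD3_c16) Lrfl Lrfl
theorem f70939 : Led Lsl_dt (LP (LK LD1_c11 LD2_c34 LD3_c20)) = (LP (LK LD1_c20 LD2_c31 LD3_c56)) :=
  Lre_d IH (LK LD1_c11 LD2_c34 LD3_c20) (LK LD1_c20 LD2_c31 LD3_c56) Lrfl Lrfl
theorem f99433 : Led Lsl_bt (LP (LK LD1_c16 LD2_c26 LD3_c16)) = (LP (LK LD1_c11 LD2_c34 LD3_c20)) :=
  Lgr Lrot95 (Lpe (f35945 IH) (Lpr_bf (f99431 IH) (Lpe (f70939 IH) (Lpn (LP (LK LD1_c11 LD2_c34 LD3_c20))))))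
theorem f35743 : Led Lsl_bt (LP (LK LD1_c14 LD2_c59 LD3_c39)) = (LP (LK LD1_c7 LD2_c56 LD3_c55)) :=
  Lre_b IH (LK LD1_c14 LD2_c59 LD3_c39) (LK LD1_c7 LD2_c56 LD3_c55) Lrfl Lrfl
theorem f35915 : Led Lsl_bt (LP (LK LD1_c4 LD2_c24 LD3_c57)) = (LP (LK LD1_c8 LD2_c47 LD3_c9)) :=
  Lre_b IH (LK LD1_c4 LD2_c24 LD3_c57) (LK LD1_c8 LD2_c47 LD3_c9) Lrfl Lrfl
theorem f35916 : Led Lsl_ef (LP (LK LD1_c14 LD2_c59 LD3_c39)) = (LP (LK LD1_c8 LD2_c47 LD3_c9)) :=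
  Lgr Lrot29 (Lpr_bt (f35743 IH) (Lpr_et (K2.f35913 IH) (Lpr_bt (f35915 IH) (Lpn (LP (LK LD1_c8 LD2_c47 LD3_c9))))))
theorem f35738 : Led Lsl_ct (LP (LK LD1_c14 LD2_c59 LD3_c39)) = (LP (LK LD1_c24 LD2_c47 LD3_c3)) :=
  Lre_c IH (LK LD1_c14 LD2_c59 LD3_c39) (LK LD1_c24 LD2_c47 LD3_c3) Lrfl Lrfl
theorem f35921 : Led Lsl_ct (LP (LK LD1_c16 LD2_c26 LD3_c16)) = (LP (LK LD1_c8 LD2_c47 LD3_c9)) :=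
  Lre_c IH (LK LD1_c16 LD2_c26 LD3_c16) (LK LD1_c8 LD2_c47 LD3_c9) Lrfl Lrfl
theorem f35922 : Led Lsl_et (LP (LK LD1_c24 LD2_c47 LD3_c3)) = (LP (LK LD1_c16 LD2_c26 LD3_c16)) :=
  Lgr Lrot158 (Lpe (f35738 IH) (Lpr_ef (f35916 IH) (Lpe (f35921 IH) (Lpn (LP (LK LD1_c16 LD2_c26 LD3_c16))))))
theorem f99438 : Led Lsl_bf (LP (LK LD1_c24 LD2_c47 LD3_c3)) = (LP (LK LD1_c17 LD2_c0 LD3_c60)) :=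
  Lgr Lrot96 (Lpr_et (f35922 IH) (Lpr_bt (f99433 IH) (Lpe (K2.f70921 IH) (Lpn (LP (LK LD1_c17 LD2_c0 LD3_c60))))))
theorem f35946 : Led Lsl_ft (LP (LK LD1_c24 LD2_c47 LD3_c3)) = (LP (LK LD1_c14 LD2_c59 LD3_c37)) :=
  Lre_f IH (LK LD1_c24 LD2_c47 LD3_c3) (LK LD1_c14 LD2_c59 LD3_c37) Lrfl Lrfl
theorem f70894 : Led Lsl_ft (LP (LK LD1_c9 LD2_c8 LD3_c27)) = (LP (LK LD1_c17 LD2_c0 LD3_c60)) :=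
  Lre_f IH (LK LD1_c9 LD2_c8 LD3_c27) (LK LD1_c17 LD2_c0 LD3_c60) Lrfl Lrfl
theorem f99441 : Led Lsl_bt (LP (LK LD1_c14 LD2_c59 LD3_c37)) = (LP (LK LD1_c9 LD2_c8 LD3_c27)) :=
  Lgr Lrot35 (Lpe (f35946 IH) (Lpr_bf (f99438 IH) (Lpe (f70894 IH) (Lpn (LP (LK LD1_c9 LD2_c8 LD3_c27))))))
theorem f35970 : Led Lsl_et (LP (LK LD1_c7 LD2_c56 LD3_c51)) = (LP (LK LD1_c14 LD2_c59 LD3_c37)) :=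
  Lre_e IH (LK LD1_c7 LD2_c56 LD3_c51) (LK LD1_c14 LD2_c59 LD3_c37) Lrfl Lrfl
theorem f99448 : Led Lsl_bf (LP (LK LD1_c7 LD2_c56 LD3_c51)) = (LP (LK LD1_c4 LD2_c36 LD3_c8)) :=
  Lgr Lrot96 (Lpr_et (f35970 IH) (Lpr_bt (f99441 IH) (Lpr_et (K2.f70917 IH) (Lpn (LP (LK LD1_c4 LD2_c36 LD3_c8))))))
theorem f35926 : Led Lsl_et (LP (LK LD1_c14 LD2_c59 LD3_c39)) = (LP (LK LD1_c8 LD2_c47 LD3_c9)) :=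
  Lgr Lrot87 (Lpr_ef (f35916 IH) (Lpn (LP (LK LD1_c8 LD2_c47 LD3_c9))))
theorem f35744 : Led Lsl_ct (LP (LK LD1_c24 LD2_c47 LD3_c3)) = (LP (LK LD1_c14 LD2_c59 LD3_c39)) :=
  Lre_c IH (LK LD1_c24 LD2_c47 LD3_c3) (LK LD1_c14 LD2_c59 LD3_c39) Lrfl Lrfl
theorem f35935 : Led Lsl_ct (LP (LK LD1_c8 LD2_c47 LD3_c9)) = (LP (LK LD1_c16 LD2_c26 LD3_c16)) :=
  Lre_c IH (LK LD1_c8 LD2_c47 LD3_c9) (LK LD1_c16 LD2_c26 LD3_c16) Lrfl Lrfl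
theorem f35936 : Led Lsl_ef (LP (LK LD1_c24 LD2_c47 LD3_c3)) = (LP (LK LD1_c16 LD2_c26 LD3_c16)) :=
  Lgr Lrot28 (Lpr_ct (f35744 IH) (Lpr_et (f35926 IH) (Lpr_ct (f35935 IH) (Lpn (LP (LK LD1_c16 LD2_c26 LD3_c16))))))
theorem f35947 : Led Lsl_et (LP (LK LD1_c14 LD2_c59 LD3_c37)) = (LP (LK LD1_c7 LD2_c56 LD3_c51)) :=
  Lre_e IH (LK LD1_c14 LD2_c59 LD3_c37) (LK LD1_c7 LD2_c56 LD3_c51) Lrfl Lrfl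
theorem f35948 : Led Lsl_ft (LP (LK LD1_c8 LD2_c47 LD3_c5)) = (LP (LK LD1_c16 LD2_c26 LD3_c16)) :=
  Lre_f IH (LK LD1_c8 LD2_c47 LD3_c5) (LK LD1_c16 LD2_c26 LD3_c16) Lrfl Lrfl
theorem f35949 : Led Lsl_et (LP (LK LD1_c4 LD2_c24 LD3_c48)) = (LP (LK LD1_c8 LD2_c47 LD3_c5)) :=
  Lre_e IH (LK LD1_c4 LD2_c24 LD3_c48) (LK LD1_c8 LD2_c47 LD3_c5) Lrfl Lrfl
theorem f35950 : Led Lsl_ft (LP (LK LD1_c7 LD2_c56 LD3_c51)) = (LP (LK LD1_c4 LD2_c24 LD3_c48)) :=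
  Lgr Lrot86 (Lpe (f35947 IH) (Lpe (f35946 IH) (Lpr_ef (f35936 IH) (Lpe (f35948 IH) (Lpe (f35949 IH) (Lpn (LP (LK LD1_c4 LD2_c24 LD3_c48))))))))
theorem f99460 : Led Lsl_bt (LP (LK LD1_c4 LD2_c24 LD3_c48)) = (LP (LK LD1_c2 LD2_c53 LD3_c31)) :=
  Lgr Lrot35 (Lpe (f35950 IH) (Lpr_bf (f99448 IH) (Lpr_ff (K2.f70885 IH) (Lpn (LP (LK LD1_c2 LD2_c53 LD3_c31))))))
theorem f99465 : Led Lsl_bf (LP (LK LD1_c5 LD2_c58 LD3_c16)) = (LP (LK LD1_c5 LD2_c54 LD3_c14)) :=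
  Lgr Lrot93 (Lpe (K2.f81589 IH) (Lpr_bt (f99460 IH) (Lpr_dt (K2.f70864 IH) (Lpn (LP (LK LD1_c5 LD2_c54 LD3_c14))))))
theorem f72531 : Led Lsl_ct (LP (LK LD1_c1 LD2_c23 LD3_c41)) = (LP (LK LD1_c0 LD2_c38 LD3_c40)) :=
  Lre_c IH (LK LD1_c1 LD2_c23 LD3_c41) (LK LD1_c0 LD2_c38 LD3_c40) Lrfl Lrfl
theorem f74557 : Led Lsl_bt (LP (LK LD1_c9 LD2_c16 LD3_c31)) = (LP (LK LD1_c4 LD2_c40 LD3_c35)) :=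
  Lre_b IH (LK LD1_c9 LD2_c16 LD3_c31) (LK LD1_c4 LD2_c40 LD3_c35) Lrfl Lrfl
theorem f71009 : Led Lsl_dt (LP (LK LD1_c2 LD2_c53 LD3_c19)) = (LP (LK LD1_c5 LD2_c53 LD3_c56)) :=
  Lre_d IH (LK LD1_c2 LD2_c53 LD3_c19) (LK LD1_c5 LD2_c53 LD3_c56) Lrfl Lrfl
theorem f71158 : Led Lsl_ff (LP (LK LD1_c9 LD2_c8 LD3_c14)) = (LP (LK LD1_c5 LD2_c53 LD3_c56)) :=
  Lgr Lrot19 (Lpr_dt (K2.f70861 IH) (Lpr_ft (K2.f71151 IH) (Lpr_dt (f71009 IH) (Lpn (LP (LK LD1_c5 LD2_c53 LD3_c56))))))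
theorem f71168 : Led Lsl_ft (LP (LK LD1_c9 LD2_c8 LD3_c14)) = (LP (LK LD1_c5 LD2_c53 LD3_c56)) :=
  Lgr Lrot48 (Lpr_ff (f71158 IH) (Lpn (LP (LK LD1_c5 LD2_c53 LD3_c56))))
theorem f71172 : Led Lsl_at (LP (LK LD1_c5 LD2_c53 LD3_c56)) = (LP (LK LD1_c2 LD2_c53 LD3_c44)) :=
  Lre_a IH (LK LD1_c5 LD2_c53 LD3_c56) (LK LD1_c2 LD2_c53 LD3_c44) Lrfl Lrfl
theorem f22464 : Led Lsl_gt (LP (LK LD1_c5 LD2_c54 LD3_c47)) = (LP (LK LD1_c2 LD2_c53 LD3_c44)) :=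
  Lre_g IH (LK LD1_c5 LD2_c54 LD3_c47) (LK LD1_c2 LD2_c53 LD3_c44) Lrfl Lrfl
theorem f71174 : Led Lsl_gt (LP (LK LD1_c9 LD2_c8 LD3_c14)) = (LP (LK LD1_c5 LD2_c54 LD3_c47)) :=
  Lgr Lrot5 (Lpr_ft (f71168 IH) (Lpr_at (f71172 IH) (Lpe (f22464 IH) (Lpn (LP (LK LD1_c5 LD2_c54 LD3_c47))))))
theorem f99472 : Led Lsl_ct (LP (LK LD1_c9 LD2_c16 LD3_c31)) = (LP (LK LD1_c5 LD2_c54 LD3_c47)) :=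
  Lgr Lrot10 (Lpr_bt (f74557 IH) (Lpr_gt (K2.f22841 IH) (Lpr_ct (K2.f22838 IH) (Lpr_gt (K2.f74540 IH) (Lpe (f72531 IH) (Lpr_bt (K2.f37294 IH) (Lpr_gt (K2.f37295 IH) (Lpr_bf (f99465 IH) (Lpe (K2.f70865 IH) (Lpr_gt (f71174 IH) (Lpn (LP (LK LD1_c5 LD2_c54 LD3_c47)))))))))))))
theorem f76307 : Led Lsl_et (LP (LK LD1_c17 LD2_c11 LD3_c11)) = (LP (LK LD1_c9 LD2_c16 LD3_c31)) :=
  Lre_e IH (LK LD1_c17 LD2_c11 LD3_c11) (LK LD1_c9 LD2_c16 LD3_c31) Lrfl Lrfl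
theorem f99478 : Led Lsl_et (LP (LK LD1_c5 LD2_c54 LD3_c47)) = (LP (LK LD1_c11 LD2_c35 LD3_c7)) :=
  Lre_e IH (LK LD1_c5 LD2_c54 LD3_c47) (LK LD1_c11 LD2_c35 LD3_c7) Lrfl Lrfl
theorem f99479 : Led Lsl_cf (LP (LK LD1_c17 LD2_c11 LD3_c11)) = (LP (LK LD1_c11 LD2_c35 LD3_c7)) :=
  Lgr Lrot39 (Lpr_et (f76307 IH) (Lpr_ct (f99472 IH) (Lpr_et (f99478 IH) (Lpn (LP (LK LD1_c11 LD2_c35 LD3_c7))))))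
theorem f99489 : Led Lsl_ct (LP (LK LD1_c17 LD2_c11 LD3_c11)) = (LP (LK LD1_c11 LD2_c35 LD3_c7)) :=
  Lgr Lrot59 (Lpr_cf (f99479 IH) (Lpn (LP (LK LD1_c11 LD2_c35 LD3_c7))))
theorem f76266 : Led Lsl_bt (LP (LK LD1_c9 LD2_c16 LD3_c32)) = (LP (LK LD1_c17 LD2_c11 LD3_c11)) :=
  Lre_b IH (LK LD1_c9 LD2_c16 LD3_c32) (LK LD1_c17 LD2_c11 LD3_c11) Lrfl Lrfl
theorem f74517 : Led Lsl_ct (LP (LK LD1_c1 LD2_c24 LD3_c5)) = (LP (LK LD1_c2 LD2_c56 LD3_c31)) :=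
  Lre_c IH (LK LD1_c1 LD2_c24 LD3_c5) (LK LD1_c2 LD2_c56 LD3_c31) Lrfl Lrfl
theorem f74278 : Led Lsl_gt (LP (LK LD1_c4 LD2_c58 LD3_c35)) = (LP (LK LD1_c2 LD2_c55 LD3_c51)) :=
  Lre_g IH (LK LD1_c4 LD2_c58 LD3_c35) (LK LD1_c2 LD2_c55 LD3_c51) Lrfl Lrfl
theorem f74296 : Led Lsl_gf (LP (LK LD1_c2 LD2_c49 LD3_c24)) = (LP (LK LD1_c2 LD2_c55 LD3_c51)) :=
  Lgr Lrot76 (Lpe (K2.f61587 IH) (Lpr_ff (K2.f74274 IH) (Lpr_gt (f74278 IH) (Lpn (LP (LK LD1_c2 LD2_c55 LD3_c51))))))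
theorem f61284 : Led Lsl_ct (LP (LK LD1_c2 LD2_c49 LD3_c24)) = (LP (LK LD1_c1 LD2_c20 LD3_c51)) :=
  Lre_c IH (LK LD1_c2 LD2_c49 LD3_c24) (LK LD1_c1 LD2_c20 LD3_c51) Lrfl Lrfl
theorem f74298 : Led Lsl_ct (LP (LK LD1_c1 LD2_c10 LD3_c50)) = (LP (LK LD1_c2 LD2_c27 LD3_c10)) :=
  Lre_c IH (LK LD1_c1 LD2_c10 LD3_c50) (LK LD1_c2 LD2_c27 LD3_c10) Lrfl Lrfl
theorem f74299 : Led Lsl_dt (LP (LK LD1_c2 LD2_c27 LD3_c10)) = (LP (LK LD1_c4 LD2_c58 LD3_c40)) :=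
  Lre_d IH (LK LD1_c2 LD2_c27 LD3_c10) (LK LD1_c4 LD2_c58 LD3_c40) Lrfl Lrfl
theorem f72651 : Led Lsl_gt (LP (LK LD1_c4 LD2_c59 LD3_c46)) = (LP (LK LD1_c2 LD2_c27 LD3_c41)) :=
  Lre_g IH (LK LD1_c4 LD2_c59 LD3_c46) (LK LD1_c2 LD2_c27 LD3_c41) Lrfl Lrfl
theorem f14140 : Led Lsl_ct (LP (LK LD1_c2 LD2_c27 LD3_c41)) = (LP (LK LD1_c4 LD2_c46 LD3_c40)) :=
  Lre_c IH (LK LD1_c2 LD2_c27 LD3_c41) (LK LD1_c4 LD2_c46 LD3_c40) Lrfl Lrfl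
theorem f74300 : Led Lsl_cf (LP (LK LD1_c4 LD2_c58 LD3_c40)) = (LP (LK LD1_c2 LD2_c56 LD3_c39)) :=
  Lgr Lrot99 (Lpe (f74299 IH) (Lpe (f74298 IH) (Lpr_gf (K2.f72449 IH) (Lpe (f61284 IH) (Lpr_gf (f74296 IH) (Lpe (K2.f14070 IH) (Lpr_gt (f72651 IH) (Lpr_ct (f14140 IH) (Lpr_gt (K2.f14147 IH) (Lpn (LP (LK LD1_c2 LD2_c56 LD3_c39))))))))))))
theorem f74311 : Led Lsl_ct (LP (LK LD1_c4 LD2_c58 LD3_c40)) = (LP (LK LD1_c2 LD2_c56 LD3_c39)) :=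
  Lgr Lrot59 (Lpr_cf (f74300 IH) (Lpn (LP (LK LD1_c2 LD2_c56 LD3_c39))))
theorem f74359 : Led Lsl_dt (LP (LK LD1_c0 LD2_c32 LD3_c51)) = (LP (LK LD1_c1 LD2_c10 LD3_c50)) :=
  Lre_d IH (LK LD1_c0 LD2_c32 LD3_c51) (LK LD1_c1 LD2_c10 LD3_c50) Lrfl Lrfl
theorem f74361 : Led Lsl_dt (LP (LK LD1_c2 LD2_c27 LD3_c6)) = (LP (LK LD1_c1 LD2_c10 LD3_c49)) :=
  Lre_d IH (LK LD1_c2 LD2_c27 LD3_c6) (LK LD1_c1 LD2_c10 LD3_c49) Lrfl Lrfl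
theorem f74368 : Led Lsl_ft (LP (LK LD1_c2 LD2_c27 LD3_c6)) = (LP (LK LD1_c4 LD2_c58 LD3_c32)) :=
  Lre_f IH (LK LD1_c2 LD2_c27 LD3_c6) (LK LD1_c4 LD2_c58 LD3_c32) Lrfl Lrfl
theorem f74369 : Led Lsl_at (LP (LK LD1_c4 LD2_c58 LD3_c32)) = (LP (LK LD1_c2 LD2_c27 LD3_c22)) :=
  Lre_a IH (LK LD1_c4 LD2_c58 LD3_c32) (LK LD1_c2 LD2_c27 LD3_c22) Lrfl Lrfl
theorem f74532 : Led Lsl_ct (LP (LK LD1_c4 LD2_c40 LD3_c35)) = (LP (LK LD1_c2 LD2_c27 LD3_c22)) :=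
  Lgr Lrot98 (Lpr_df (K2.f74504 IH) (Lpe (f74311 IH) (Lpe (f74299 IH) (Lpe (f74298 IH) (Lpe (f74359 IH) (Lpe (f74360 IH) (Lpe (f74361 IH) (Lpr_ft (f74368 IH) (Lpr_at (f74369 IH) (Lpn (LP (LK LD1_c2 LD2_c27 LD3_c22))))))))))))
theorem f74319 : Led Lsl_dt (LP (LK LD1_c1 LD2_c10 LD3_c54)) = (LP (LK LD1_c2 LD2_c27 LD3_c22)) :=
  Lre_d IH (LK LD1_c1 LD2_c10 LD3_c54) (LK LD1_c2 LD2_c27 LD3_c22) Lrfl Lrfl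
theorem f74534 : Led Lsl_gt (LP (LK LD1_c2 LD2_c27 LD3_c4)) = (LP (LK LD1_c1 LD2_c10 LD3_c54)) :=
  Lre_g IH (LK LD1_c2 LD2_c27 LD3_c4) (LK LD1_c1 LD2_c10 LD3_c54) Lrfl Lrfl
theorem f74535 : Led Lsl_dt (LP (LK LD1_c4 LD2_c58 LD3_c28)) = (LP (LK LD1_c2 LD2_c27 LD3_c4)) :=
  Lre_d IH (LK LD1_c4 LD2_c58 LD3_c28) (LK LD1_c2 LD2_c27 LD3_c4) Lrfl Lrfl
theorem f56783 : Led Lsl_ct (LP (LK LD1_c2 LD2_c56 LD3_c31)) = (LP (LK LD1_c1 LD2_c24 LD3_c5)) :=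
  Lre_c IH (LK LD1_c2 LD2_c56 LD3_c31) (LK LD1_c1 LD2_c24 LD3_c5) Lrfl Lrfl
theorem f74536 : Led Lsl_gf (LP (LK LD1_c4 LD2_c58 LD3_c28)) = (LP (LK LD1_c2 LD2_c56 LD3_c31)) :=
  Lgr Lrot144 (Lpr_dt (f74535 IH) (Lpr_gt (f74534 IH) (Lpr_dt (f74319 IH) (Lpe (f74532 IH) (Lpr_df (K2.f74504 IH) (Lpe (K2.f14147 IH) (Lpe (K2.f74322 IH) (Lpe (K2.f72712 IH) (Lpe (f56783 IH) (Lpn (LP (LK LD1_c2 LD2_c56 LD3_c31))))))))))))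
theorem f74538 : Led Lsl_cf (LP (LK LD1_c4 LD2_c40 LD3_c35)) = (LP (LK LD1_c2 LD2_c27 LD3_c22)) :=
  Lgr Lrot14 (Lpr_df (K2.f74504 IH) (Lpe (K2.f14147 IH) (Lpe (K2.f74322 IH) (Lpe (K2.f72712 IH) (Lpr_ct (f74517 IH) (Lpe (f74536 IH) (Lpr_dt (f74535 IH) (Lpr_gt (f74534 IH) (Lpr_dt (f74319 IH) (Lpn (LP (LK LD1_c2 LD2_c27 LD3_c22))))))))))))
theorem f74528 : Led Lsl_et (LP (LK LD1_c4 LD2_c40 LD3_c35)) = (LP (LK LD1_c9 LD2_c16 LD3_c32)) :=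
  Lre_e IH (LK LD1_c4 LD2_c40 LD3_c35) (LK LD1_c9 LD2_c16 LD3_c32) Lrfl Lrfl
theorem f74968 : Led Lsl_et (LP (LK LD1_c4 LD2_c58 LD3_c60)) = (LP (LK LD1_c2 LD2_c27 LD3_c22)) :=
  Lre_e IH (LK LD1_c4 LD2_c58 LD3_c60) (LK LD1_c2 LD2_c27 LD3_c22) Lrfl Lrfl
theorem f76255 : Led Lsl_ct (LP (LK LD1_c9 LD2_c16 LD3_c32)) = (LP (LK LD1_c4 LD2_c58 LD3_c60)) :=
  Lgr Lrot15 (Lpe (f74528 IH) (Lpr_cf (f74538 IH) (Lpe (f74968 IH) (Lpn (LP (LK LD1_c4 LD2_c58 LD3_c60))))))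
theorem f76259 : Led Lsl_cf (LP (LK LD1_c9 LD2_c16 LD3_c32)) = (LP (LK LD1_c4 LD2_c58 LD3_c60)) :=
  Lgr Lrot11 (Lpr_ct (f76255 IH) (Lpn (LP (LK LD1_c4 LD2_c58 LD3_c60))))
theorem f72831 : Led Lsl_at (LP (LK LD1_c4 LD2_c40 LD3_c36)) = (LP (LK LD1_c2 LD2_c17 LD3_c22)) :=
  Lre_a IH (LK LD1_c4 LD2_c40 LD3_c36) (LK LD1_c2 LD2_c17 LD3_c22) Lrfl Lrfl
theorem f74957 : Led Lsl_gf (LP (LK LD1_c4 LD2_c40 LD3_c35)) = (LP (LK LD1_c2 LD2_c55 LD3_c26)) :=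
  Lgr Lrot47 (Lpr_gt (K2.f22841 IH) (Lpe (f72831 IH) (Lpr_ff (K2.f74940 IH) (Lpn (LP (LK LD1_c2 LD2_c55 LD3_c26))))))
theorem f74558 : Led Lsl_bt (LP (LK LD1_c1 LD2_c23 LD3_c32)) = (LP (LK LD1_c0 LD2_c38 LD3_c40)) :=
  Lre_b IH (LK LD1_c1 LD2_c23 LD3_c32) (LK LD1_c0 LD2_c38 LD3_c40) Lrfl Lrfl
theorem f74559 : Led Lsl_ct (LP (LK LD1_c1 LD2_c23 LD3_c32)) = (LP (LK LD1_c2 LD2_c55 LD3_c9)) :=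
  Lre_c IH (LK LD1_c1 LD2_c23 LD3_c32) (LK LD1_c2 LD2_c55 LD3_c9) Lrfl Lrfl
theorem f23175 : Led Lsl_bt (LP (LK LD1_c0 LD2_c30 LD3_c1)) = (LP (LK LD1_c1 LD2_c5 LD3_c40)) :=
  Lre_b IH (LK LD1_c0 LD2_c30 LD3_c1) (LK LD1_c1 LD2_c5 LD3_c40) Lrfl Lrfl
theorem f59645 : Led Lsl_dt (LP (LK LD1_c0 LD2_c37 LD3_c59)) = (LP (LK LD1_c0 LD2_c18 LD3_c18)) :=
  Lgr Lrot6 (Lpr_gt (K2.f8312 IH) (Lpr_ct (K0.f24020 IH) (Lpr_gt (K1.f58776 IH) (Lpr_ct (K1.f20077 IH) (Lpe (K1.f20073 IH) (Lpe (K0.f21206 IH) (Lpe (K0.f20186 IH) (Lpe (K1.f20206 IH) (Lpr_gf (K1.f59640 IH) (Lpn (LP (LK LD1_c0 LD2_c18 LD3_c18))))))))))))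
theorem f26374 : Led Lsl_df (LP (LK LD1_c0 LD2_c13 LD3_c51)) = (LP (LK LD1_c0 LD2_c9 LD3_c3)) :=
  Lgr Lrot155 (Lpr_gt (K1.f11009 IH) (Lpr_ct (K0.f20081 IH) (Lpr_gt (K0.f20082 IH) (Lpr_ct (K0.f26357 IH) (Lpr_dt (K0.f26047 IH) (Lpe (K0.f26046 IH) (Lpe (K1.f26372 IH) (Lpe (K0.f11025 IH) (Lpe (K0.f20064 IH) (Lpn (LP (LK LD1_c0 LD2_c9 LD3_c3))))))))))))
theorem f68333 : Led Lsl_gt (LP (LK LD1_c0 LD2_c8 LD3_c43)) = (LP (LK LD1_c0 LD2_c13 LD3_c18)) :=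
  Lgr Lrot94 (Lpr_cf (K1.f22488 IH) (Lpr_gt (K2.f68330 IH) (Lpr_dt (f59645 IH) (Lpe (K1.f59640 IH) (Lpr_dt (K0.f20198 IH) (Lpr_cf (K0.f26758 IH) (Lpr_df (f26374 IH) (Lpe (K1.f61630 IH) (Lpe (K0.f13632 IH) (Lpn (LP (LK LD1_c0 LD2_c13 LD3_c18))))))))))))
theorem f35524 : Led Lsl_dt (LP (LK LD1_c0 LD2_c11 LD3_c4)) = (LP (LK LD1_c0 LD2_c24 LD3_c56)) :=
  Lre_d IH (LK LD1_c0 LD2_c11 LD3_c4) (LK LD1_c0 LD2_c24 LD3_c56) Lrfl Lrfl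
theorem f35532 : Led Lsl_bt (LP (LK LD1_c0 LD2_c5 LD3_c9)) = (LP (LK LD1_c0 LD2_c10 LD3_c59)) :=
  Lre_b IH (LK LD1_c0 LD2_c5 LD3_c9) (LK LD1_c0 LD2_c10 LD3_c59) Lrfl Lrfl
theorem f38627 : Led Lsl_gt (LP (LK LD1_c0 LD2_c7 LD3_c35)) = (LP (LK LD1_c0 LD2_c11 LD3_c4)) :=
  Lgr Lrot149 (Lpe (K0.f22454 IH) (Lpe (K0.f20267 IH) (Lpe (K1.f8344 IH) (Lpr_ct (K1.f8345 IH) (Lpr_gf (K1.f38619 IH) (Lpe (K1.f36931 IH) (Lpr_bt (K1.f36923 IH) (Lpe (K1.f28523 IH) (Lpe (f35532 IH) (Lpr_ct (K0.f35517 IH) (Lpn (LP (LK LD1_c0 LD2_c11 LD3_c4)))))))))))))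
theorem f61816 : Led Lsl_gf (LP (LK LD1_c0 LD2_c17 LD3_c0)) = (LP (LK LD1_c0 LD2_c37 LD3_c58)) :=
  Lgr Lrot144 (Lpr_dt (K1.f22455 IH) (Lpr_gt (f38627 IH) (Lpr_dt (f35524 IH) (Lpe (K1.f36242 IH) (Lpe (K0.f26048 IH) (Lpe (K0.f26023 IH) (Lpe (K2.f26051 IH) (Lpe (K1.f61666 IH) (Lpr_cf (K1.f61764 IH) (Lpn (LP (LK LD1_c0 LD2_c37 LD3_c58))))))))))))
theorem f74560 : Led Lsl_gf (LP (LK LD1_c2 LD2_c52 LD3_c0)) = (LP (LK LD1_c2 LD2_c55 LD3_c9)) :=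
  Lgr Lrot126 (Lpe (K2.f68360 IH) (Lpr_bt (K2.f61804 IH) (Lpe (f61816 IH) (Lpe (K1.f22488 IH) (Lpr_gt (f68333 IH) (Lpe (K0.f22826 IH) (Lpr_bt (f23175 IH) (Lpr_gt (K2.f74540 IH) (Lpe (f74558 IH) (Lpr_ct (f74559 IH) (Lpn (LP (LK LD1_c2 LD2_c55 LD3_c9)))))))))))))
theorem f74188 : Led Lsl_ct (LP (LK LD1_c2 LD2_c27 LD3_c9)) = (LP (LK LD1_c4 LD2_c58 LD3_c35)) :=
  Lre_c IH (LK LD1_c2 LD2_c27 LD3_c9) (LK LD1_c4 LD2_c58 LD3_c35) Lrfl Lrfl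
theorem f74255 : Led Lsl_af (LP (LK LD1_c2 LD2_c52 LD3_c0)) = (LP (LK LD1_c4 LD2_c58 LD3_c35)) :=
  Lgr Lrot68 (Lpr_ct (K2.f61805 IH) (Lpr_at (K2.f74244 IH) (Lpr_ct (f74188 IH) (Lpn (LP (LK LD1_c4 LD2_c58 LD3_c35))))))
theorem f74689 : Led Lsl_gt (LP (LK LD1_c5 LD2_c47 LD3_c0)) = (LP (LK LD1_c2 LD2_c55 LD3_c9)) :=
  Lgr Lrot5 (Lpr_ft (K2.f74294 IH) (Lpe (f74255 IH) (Lpr_gf (f74560 IH) (Lpn (LP (LK LD1_c2 LD2_c55 LD3_c9))))))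
theorem f59455 : Led Lsl_gt (LP (LK LD1_c1 LD2_c20 LD3_c59)) = (LP (LK LD1_c2 LD2_c49 LD3_c42)) :=
  Lre_g IH (LK LD1_c1 LD2_c20 LD3_c59) (LK LD1_c2 LD2_c49 LD3_c42) Lrfl Lrfl
theorem f73823 : Led Lsl_gt (LP (LK LD1_c2 LD2_c49 LD3_c42)) = (LP (LK LD1_c2 LD2_c52 LD3_c5)) :=
  Lgr Lrot46 (Lpe (f59455 IH) (Lpr_ft (K2.f73812 IH) (Lpr_at (K2.f73814 IH) (Lpn (LP (LK LD1_c2 LD2_c52 LD3_c5))))))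
theorem f74959 : Led Lsl_bt (LP (LK LD1_c2 LD2_c27 LD3_c22)) = (LP (LK LD1_c2 LD2_c49 LD3_c42)) :=
  Lgr Lrot22 (Lpe (f74538 IH) (Lpr_gf (f74957 IH) (Lpe (K2.f74713 IH) (Lpe (K2.f74552 IH) (Lpe (f74558 IH) (Lpr_ct (f74559 IH) (Lpe (f74689 IH) (Lpe (K2.f72847 IH) (Lpr_bt (K2.f73631 IH) (Lpe (f73823 IH) (Lpn (LP (LK LD1_c2 LD2_c49 LD3_c42)))))))))))))
theorem f74969 : Led Lsl_et (LP (LK LD1_c2 LD2_c49 LD3_c42)) = (LP (LK LD1_c5 LD2_c47 LD3_c27)) :=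
  Lre_e IH (LK LD1_c2 LD2_c49 LD3_c42) (LK LD1_c5 LD2_c47 LD3_c27) Lrfl Lrfl
theorem f74970 : Led Lsl_bf (LP (LK LD1_c4 LD2_c58 LD3_c60)) = (LP (LK LD1_c5 LD2_c47 LD3_c27)) :=
  Lgr Lrot96 (Lpr_et (f74968 IH) (Lpr_bt (f74959 IH) (Lpr_et (f74969 IH) (Lpn (LP (LK LD1_c5 LD2_c47 LD3_c27))))))
theorem f74975 : Led Lsl_ct (LP (LK LD1_c11 LD2_c24 LD3_c53)) = (LP (LK LD1_c5 LD2_c47 LD3_c27)) :=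
  Lre_c IH (LK LD1_c11 LD2_c24 LD3_c53) (LK LD1_c5 LD2_c47 LD3_c27) Lrfl Lrfl
theorem f99493 : Led Lsl_bf (LP (LK LD1_c11 LD2_c24 LD3_c53)) = (LP (LK LD1_c11 LD2_c35 LD3_c7)) :=
  Lgr Lrot90 (Lpr_ct (f74975 IH) (Lpe (f74970 IH) (Lpe (f76259 IH) (Lpr_bt (f76266 IH) (Lpr_ct (f99489 IH) (Lpn (LP (LK LD1_c11 LD2_c35 LD3_c7))))))))
theorem f59476 : Led Lsl_et (LP (LK LD1_c11 LD2_c24 LD3_c53)) = (LP (LK LD1_c5 LD2_c47 LD3_c26)) :=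
  Lre_e IH (LK LD1_c11 LD2_c24 LD3_c53) (LK LD1_c5 LD2_c47 LD3_c26) Lrfl Lrfl
theorem f99495 : Led Lsl_bt (LP (LK LD1_c5 LD2_c47 LD3_c26)) = (LP (LK LD1_c5 LD2_c54 LD3_c47)) :=
  Lgr Lrot119 (Lpe (f59476 IH) (Lpr_bf (f99493 IH) (Lpe (f99478 IH) (Lpn (LP (LK LD1_c5 LD2_c54 LD3_c47))))))
theorem f59467 : Led Lsl_ct (LP (LK LD1_c2 LD2_c49 LD3_c42)) = (LP (LK LD1_c5 LD2_c47 LD3_c26)) :=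
  Lre_c IH (LK LD1_c2 LD2_c49 LD3_c42) (LK LD1_c5 LD2_c47 LD3_c26) Lrfl Lrfl
theorem f22463 : Led Lsl_dt (LP (LK LD1_c2 LD2_c53 LD3_c44)) = (LP (LK LD1_c1 LD2_c22 LD3_c53)) :=
  Lre_d IH (LK LD1_c2 LD2_c53 LD3_c44) (LK LD1_c1 LD2_c22 LD3_c53) Lrfl Lrfl
theorem f22462 : Led Lsl_ct (LP (LK LD1_c1 LD2_c22 LD3_c53)) = (LP (LK LD1_c0 LD2_c38 LD3_c22)) :=
  Lre_c IH (LK LD1_c1 LD2_c22 LD3_c53) (LK LD1_c0 LD2_c38 LD3_c22) Lrfl Lrfl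
theorem f22461 : Led Lsl_bt (LP (LK LD1_c0 LD2_c38 LD3_c22)) = (LP (LK LD1_c0 LD2_c17 LD3_c6)) :=
  Lre_b IH (LK LD1_c0 LD2_c38 LD3_c22) (LK LD1_c0 LD2_c17 LD3_c6) Lrfl Lrfl
theorem f36620 : Led Lsl_bt (LP (LK LD1_c0 LD2_c18 LD3_c9)) = (LP (LK LD1_c0 LD2_c40 LD3_c32)) :=
  Lre_b IH (LK LD1_c0 LD2_c18 LD3_c9) (LK LD1_c0 LD2_c40 LD3_c32) Lrfl Lrfl
theorem f36621 : Led Lsl_gt (LP (LK LD1_c0 LD2_c40 LD3_c32)) = (LP (LK LD1_c1 LD2_c27 LD3_c36)) :=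
  Lre_g IH (LK LD1_c0 LD2_c40 LD3_c32) (LK LD1_c1 LD2_c27 LD3_c36) Lrfl Lrfl
theorem f99497 : Led Lsl_df (LP (LK LD1_c2 LD2_c49 LD3_c42)) = (LP (LK LD1_c1 LD2_c27 LD3_c36)) :=
  Lgr Lrot183 (Lpr_ct (f59467 IH) (Lpr_bt (f99495 IH) (Lpr_gt (f22464 IH) (Lpr_dt (f22463 IH) (Lpr_ct (f22462 IH) (Lpr_bt (f22461 IH) (Lpe (K0.f22445 IH) (Lpr_dt (K0.f22444 IH) (Lpr_ct (K3.f21212 IH) (Lpr_bt (K1.f22460 IH) (Lpr_gt (K1.f36421 IH) (Lpr_dt (K1.f35479 IH) (Lpe (K1.f36599 IH) (Lpr_bt (K1.f7131 IH) (Lpr_gt (K1.f3833 IH) (Lpr_dt (K1.f36618 IH) (Lpr_ct (K1.f36619 IH) (Lpr_bt (f36620 IH) (Lpr_gt (f36621 IH) (Lpn (LP (LK LD1_c1 LD2_c27 LD3_c36))))))))))))))))))))))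
theorem f99504 : Led Lsl_dt (LP (LK LD1_c2 LD2_c49 LD3_c42)) = (LP (LK LD1_c1 LD2_c27 LD3_c36)) :=
  Lgr Lrot42 (Lpr_df (f99497 IH) (Lpn (LP (LK LD1_c1 LD2_c27 LD3_c36))))
theorem f99523 : Led Lsl_bf (LP (LK LD1_c1 LD2_c10 LD3_c54)) = (LP (LK LD1_c1 LD2_c27 LD3_c36)) :=
  Lgr Lrot93 (Lpr_dt (f74319 IH) (Lpr_bt (f74959 IH) (Lpr_dt (f99504 IH) (Lpn (LP (LK LD1_c1 LD2_c27 LD3_c36))))))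
theorem f76257 : Led Lsl_bt (LP (LK LD1_c2 LD2_c53 LD3_c24)) = (LP (LK LD1_c2 LD2_c27 LD3_c4)) :=
  Lre_b IH (LK LD1_c2 LD2_c53 LD3_c24) (LK LD1_c2 LD2_c27 LD3_c4) Lrfl Lrfl
theorem f71025 : Led Lsl_ct (LP (LK LD1_c2 LD2_c53 LD3_c24)) = (LP (LK LD1_c1 LD2_c22 LD3_c47)) :=
  Lre_c IH (LK LD1_c2 LD2_c53 LD3_c24) (LK LD1_c1 LD2_c22 LD3_c47) Lrfl Lrfl
theorem f69347 : Led Lsl_gt (LP (LK LD1_c0 LD2_c38 LD3_c21)) = (LP (LK LD1_c1 LD2_c22 LD3_c47)) :=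
  Lre_g IH (LK LD1_c0 LD2_c38 LD3_c21) (LK LD1_c1 LD2_c22 LD3_c47) Lrfl Lrfl
theorem f37944 : Led Lsl_ct (LP (LK LD1_c0 LD2_c17 LD3_c5)) = (LP (LK LD1_c0 LD2_c38 LD3_c21)) :=
  Lre_c IH (LK LD1_c0 LD2_c17 LD3_c5) (LK LD1_c0 LD2_c38 LD3_c21) Lrfl Lrfl
theorem f72247 : Led Lsl_gt (LP (LK LD1_c0 LD2_c38 LD3_c19)) = (LP (LK LD1_c0 LD2_c17 LD3_c5)) :=
  Lre_g IH (LK LD1_c0 LD2_c38 LD3_c19) (LK LD1_c0 LD2_c17 LD3_c5) Lrfl Lrfl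
theorem f81850 : Led Lsl_bt (LP (LK LD1_c1 LD2_c22 LD3_c41)) = (LP (LK LD1_c0 LD2_c38 LD3_c19)) :=
  Lre_b IH (LK LD1_c1 LD2_c22 LD3_c41) (LK LD1_c0 LD2_c38 LD3_c19) Lrfl Lrfl
theorem f81851 : Led Lsl_ct (LP (LK LD1_c1 LD2_c22 LD3_c41)) = (LP (LK LD1_c2 LD2_c53 LD3_c11)) :=
  Lre_c IH (LK LD1_c1 LD2_c22 LD3_c41) (LK LD1_c2 LD2_c53 LD3_c11) Lrfl Lrfl
theorem f99525 : Led Lsl_ct (LP (LK LD1_c1 LD2_c27 LD3_c36)) = (LP (LK LD1_c3 LD2_c3 LD3_c23)) :=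
  Lre_c IH (LK LD1_c1 LD2_c27 LD3_c36) (LK LD1_c3 LD2_c3 LD3_c23) Lrfl Lrfl
theorem f99533 : Led Lsl_gf (LP (LK LD1_c2 LD2_c53 LD3_c11)) = (LP (LK LD1_c3 LD2_c3 LD3_c23)) :=
  Lgr Lrot126 (Lpe (f81851 IH) (Lpr_bt (f81850 IH) (Lpr_gt (f72247 IH) (Lpr_ct (f37944 IH) (Lpr_gt (f69347 IH) (Lpe (f71025 IH) (Lpr_bt (f76257 IH) (Lpr_gt (f74534 IH) (Lpr_bf (f99523 IH) (Lpr_ct (f99525 IH) (Lpn (LP (LK LD1_c3 LD2_c3 LD3_c23)))))))))))))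
theorem f69008 : Led Lsl_ct (LP (LK LD1_c2 LD2_c53 LD3_c11)) = (LP (LK LD1_c1 LD2_c22 LD3_c41)) :=
  Lre_c IH (LK LD1_c2 LD2_c53 LD3_c11) (LK LD1_c1 LD2_c22 LD3_c41) Lrfl Lrfl
theorem f69007 : Led Lsl_dt (LP (LK LD1_c2 LD2_c53 LD3_c12)) = (LP (LK LD1_c1 LD2_c22 LD3_c41)) :=
  Lre_d IH (LK LD1_c2 LD2_c53 LD3_c12) (LK LD1_c1 LD2_c22 LD3_c41) Lrfl Lrfl
theorem f69006 : Led Lsl_ct (LP (LK LD1_c5 LD2_c53 LD3_c42)) = (LP (LK LD1_c2 LD2_c53 LD3_c12)) :=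
  Lre_c IH (LK LD1_c5 LD2_c53 LD3_c42) (LK LD1_c2 LD2_c53 LD3_c12) Lrfl Lrfl
theorem f99540 : Led Lsl_df (LP (LK LD1_c0 LD2_c45 LD3_c33)) = (LP (LK LD1_c0 LD2_c40 LD3_c32)) :=
  Lgr Lrot155 (Lpr_gt (f23589 IH) (Lpr_ct (f69000 IH) (Lpe (f69001 IH) (Lpr_ct (f69006 IH) (Lpr_dt (f69007 IH) (Lpe (f69008 IH) (Lpr_gf (f99533 IH) (Lpe (f99525 IH) (Lpe (f36621 IH) (Lpn (LP (LK LD1_c0 LD2_c40 LD3_c32))))))))))))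
theorem f40398 : Led Lsl_ct (LP (LK LD1_c0 LD2_c45 LD3_c33)) = (LP (LK LD1_c1 LD2_c38 LD3_c7)) :=
  Lre_c IH (LK LD1_c0 LD2_c45 LD3_c33) (LK LD1_c1 LD2_c38 LD3_c7) Lrfl Lrfl
theorem f40352 : Led Lsl_ct (LP (LK LD1_c3 LD2_c23 LD3_c37)) = (LP (LK LD1_c6 LD2_c50 LD3_c29)) :=
  Lre_c IH (LK LD1_c3 LD2_c23 LD3_c37) (LK LD1_c6 LD2_c50 LD3_c29) Lrfl Lrfl
theorem f40346 : Led Lsl_df (LP (LK LD1_c7 LD2_c57 LD3_c13)) = (LP (LK LD1_c6 LD2_c50 LD3_c29)) :=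
  Lgr Lrot38 (Lpr_dt (K2.f40340 IH) (Lpn (LP (LK LD1_c6 LD2_c50 LD3_c29))))
theorem f40360 : Led Lsl_dt (LP (LK LD1_c3 LD2_c57 LD3_c57)) = (LP (LK LD1_c1 LD2_c55 LD3_c44)) :=
  Lre_d IH (LK LD1_c3 LD2_c57 LD3_c57) (LK LD1_c1 LD2_c55 LD3_c44) Lrfl Lrfl
theorem f40090 : Led Lsl_ct (LP (LK LD1_c1 LD2_c55 LD3_c44)) = (LP (LK LD1_c0 LD2_c55 LD3_c1)) :=
  Lre_c IH (LK LD1_c1 LD2_c55 LD3_c44) (LK LD1_c0 LD2_c55 LD3_c1) Lrfl Lrfl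
theorem f40668 : Led Lsl_at (LP (LK LD1_c0 LD2_c24 LD3_c55)) = (LP (LK LD1_c0 LD2_c55 LD3_c1)) :=
  Lre_a IH (LK LD1_c0 LD2_c24 LD3_c55) (LK LD1_c0 LD2_c55 LD3_c1) Lrfl Lrfl
theorem f99557 : Led Lsl_ff (LP (LK LD1_c0 LD2_c24 LD3_c55)) = (LP (LK LD1_c0 LD2_c40 LD3_c32)) :=
  Lgr Lrot103 (Lpr_at (f40668 IH) (Lpe (f40090 IH) (Lpe (f40360 IH) (Lpe (K1.f40064 IH) (Lpr_df (f40346 IH) (Lpe (f40352 IH) (Lpe (K2.f40353 IH) (Lpe (f40398 IH) (Lpr_df (f99540 IH) (Lpn (LP (LK LD1_c0 LD2_c40 LD3_c32))))))))))))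
theorem f99581 : Led Lsl_gf (LP (LK LD1_c0 LD2_c55 LD3_c1)) = (LP (LK LD1_c1 LD2_c27 LD3_c36)) :=
  Lgr Lrot76 (Lpe (f40668 IH) (Lpr_ff (f99557 IH) (Lpr_gt (f36621 IH) (Lpn (LP (LK LD1_c1 LD2_c27 LD3_c36))))))
theorem f74966 : Led Lsl_bf (LP (LK LD1_c2 LD2_c27 LD3_c22)) = (LP (LK LD1_c2 LD2_c49 LD3_c42)) :=
  Lgr Lrot24 (Lpr_bt (f74959 IH) (Lpn (LP (LK LD1_c2 LD2_c49 LD3_c42))))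
theorem f74365 : Led Lsl_dt (LP (LK LD1_c2 LD2_c27 LD3_c22)) = (LP (LK LD1_c1 LD2_c10 LD3_c54)) :=
  Lre_d IH (LK LD1_c2 LD2_c27 LD3_c22) (LK LD1_c1 LD2_c10 LD3_c54) Lrfl Lrfl
theorem f99501 : Led Lsl_bt (LP (LK LD1_c1 LD2_c10 LD3_c54)) = (LP (LK LD1_c1 LD2_c27 LD3_c36)) :=
  Lgr Lrot95 (Lpe (f74365 IH) (Lpr_bf (f74966 IH) (Lpr_df (f99497 IH) (Lpn (LP (LK LD1_c1 LD2_c27 LD3_c36))))))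
theorem f74364 : Led Lsl_ct (LP (LK LD1_c1 LD2_c10 LD3_c54)) = (LP (LK LD1_c0 LD2_c32 LD3_c52)) :=
  Lre_c IH (LK LD1_c1 LD2_c10 LD3_c54) (LK LD1_c0 LD2_c32 LD3_c52) Lrfl Lrfl
theorem f57101 : Led Lsl_bt (LP (LK LD1_c0 LD2_c38 LD3_c36)) = (LP (LK LD1_c1 LD2_c4 LD3_c49)) :=
  Lre_b IH (LK LD1_c0 LD2_c38 LD3_c36) (LK LD1_c1 LD2_c4 LD3_c49) Lrfl Lrfl
theorem f80111 : Led Lsl_gt (LP (LK LD1_c0 LD2_c29 LD3_c39)) = (LP (LK LD1_c1 LD2_c4 LD3_c49)) :=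
  Lre_g IH (LK LD1_c0 LD2_c29 LD3_c39) (LK LD1_c1 LD2_c4 LD3_c49) Lrfl Lrfl
theorem f69323 : Led Lsl_bt (LP (LK LD1_c1 LD2_c4 LD3_c51)) = (LP (LK LD1_c0 LD2_c29 LD3_c39)) :=
  Lre_b IH (LK LD1_c1 LD2_c4 LD3_c51) (LK LD1_c0 LD2_c29 LD3_c39) Lrfl Lrfl
theorem f69324 : Led Lsl_ct (LP (LK LD1_c1 LD2_c4 LD3_c51)) = (LP (LK LD1_c2 LD2_c15 LD3_c35)) :=
  Lre_c IH (LK LD1_c1 LD2_c4 LD3_c51) (LK LD1_c2 LD2_c15 LD3_c35) Lrfl Lrfl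
theorem f99583 : Led Lsl_gt (LP (LK LD1_c1 LD2_c55 LD3_c44)) = (LP (LK LD1_c2 LD2_c15 LD3_c35)) :=
  Lgr Lrot149 (Lpe (K2.f40337 IH) (Lpr_gf (f99581 IH) (Lpe (f99501 IH) (Lpr_ct (f74364 IH) (Lpe (K2.f72456 IH) (Lpe (K2.f72463 IH) (Lpr_bt (f57101 IH) (Lpe (f80111 IH) (Lpe (f69323 IH) (Lpr_ct (f69324 IH) (Lpn (LP (LK LD1_c2 LD2_c15 LD3_c35)))))))))))))
theorem f73826 : Led Lsl_ct (LP (LK LD1_c2 LD2_c52 LD3_c5)) = (LP (LK LD1_c5 LD2_c51 LD3_c42)) :=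
  Lre_c IH (LK LD1_c2 LD2_c52 LD3_c5) (LK LD1_c5 LD2_c51 LD3_c42) Lrfl Lrfl
theorem f99593 : Led Lsl_ct (LP (LK LD1_c2 LD2_c15 LD3_c35)) = (LP (LK LD1_c1 LD2_c4 LD3_c51)) :=
  Lre_c IH (LK LD1_c2 LD2_c15 LD3_c35) (LK LD1_c1 LD2_c4 LD3_c51) Lrfl Lrfl
theorem f99594 : Led Lsl_dt (LP (LK LD1_c2 LD2_c15 LD3_c36)) = (LP (LK LD1_c1 LD2_c4 LD3_c51)) :=
  Lre_d IH (LK LD1_c2 LD2_c15 LD3_c36) (LK LD1_c1 LD2_c4 LD3_c51) Lrfl Lrfl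
theorem f99595 : Led Lsl_ct (LP (LK LD1_c4 LD2_c36 LD3_c47)) = (LP (LK LD1_c2 LD2_c15 LD3_c36)) :=
  Lre_c IH (LK LD1_c4 LD2_c36 LD3_c47) (LK LD1_c2 LD2_c15 LD3_c36) Lrfl Lrfl
theorem f99596 : Led Lsl_gt (LP (LK LD1_c5 LD2_c51 LD3_c42)) = (LP (LK LD1_c4 LD2_c36 LD3_c47)) :=
  Lgr Lrot150 (Lpe (f73826 IH) (Lpe (f73823 IH) (Lpr_df (f99497 IH) (Lpe (f99581 IH) (Lpr_ct (K2.f40337 IH) (Lpr_gt (f99583 IH) (Lpr_ct (f99593 IH) (Lpe (f99594 IH) (Lpe (f99595 IH) (Lpn (LP (LK LD1_c4 LD2_c36 LD3_c47))))))))))))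
theorem f99611 : Led Lsl_ct (LP (LK LD1_c2 LD2_c15 LD3_c36)) = (LP (LK LD1_c4 LD2_c36 LD3_c47)) :=
  Lre_c IH (LK LD1_c2 LD2_c15 LD3_c36) (LK LD1_c4 LD2_c36 LD3_c47) Lrfl Lrfl
theorem f99612 : Led Lsl_bt (LP (LK LD1_c2 LD2_c15 LD3_c36)) = (LP (LK LD1_c1 LD2_c4 LD3_c53)) :=
  Lre_b IH (LK LD1_c2 LD2_c15 LD3_c36) (LK LD1_c1 LD2_c4 LD3_c53) Lrfl Lrfl
theorem f99613 : Led Lsl_gt (LP (LK LD1_c1 LD2_c4 LD3_c53)) = (LP (LK LD1_c2 LD2_c15 LD3_c45)) :=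
  Lre_g IH (LK LD1_c1 LD2_c4 LD3_c53) (LK LD1_c2 LD2_c15 LD3_c45) Lrfl Lrfl
theorem f99614 : Led Lsl_bt (LP (LK LD1_c1 LD2_c23 LD3_c40)) = (LP (LK LD1_c2 LD2_c15 LD3_c45)) :=
  Lgr Lrot92 (Lpr_ct (K2.f74713 IH) (Lpe (f74957 IH) (Lpr_cf (f74538 IH) (Lpr_bt (f74959 IH) (Lpr_gt (f73823 IH) (Lpr_ct (f73826 IH) (Lpr_gt (f99596 IH) (Lpe (f99611 IH) (Lpr_bt (f99612 IH) (Lpr_gt (f99613 IH) (Lpn (LP (LK LD1_c2 LD2_c15 LD3_c45)))))))))))))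
theorem f73006 : Led Lsl_bt (LP (LK LD1_c1 LD2_c27 LD3_c13)) = (LP (LK LD1_c2 LD2_c17 LD3_c28)) :=
  Lre_b IH (LK LD1_c1 LD2_c27 LD3_c13) (LK LD1_c2 LD2_c17 LD3_c28) Lrfl Lrfl
theorem f99629 : Led Lsl_ff (LP (LK LD1_c1 LD2_c27 LD3_c13)) = (LP (LK LD1_c2 LD2_c15 LD3_c45)) :=
  Lgr Lrot25 (Lpr_bt (f73006 IH) (Lpr_ft (K2.f74952 IH) (Lpr_bt (f99614 IH) (Lpn (LP (LK LD1_c2 LD2_c15 LD3_c45))))))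
theorem f73003 : Led Lsl_at (LP (LK LD1_c1 LD2_c27 LD3_c13)) = (LP (LK LD1_c0 LD2_c40 LD3_c23)) :=
  Lre_a IH (LK LD1_c1 LD2_c27 LD3_c13) (LK LD1_c0 LD2_c40 LD3_c23) Lrfl Lrfl
theorem f99631 : Led Lsl_gt (LP (LK LD1_c2 LD2_c15 LD3_c45)) = (LP (LK LD1_c1 LD2_c4 LD3_c58)) :=
  Lre_g IH (LK LD1_c2 LD2_c15 LD3_c45) (LK LD1_c1 LD2_c4 LD3_c58) Lrfl Lrfl
theorem f99651 : Led Lsl_gf (LP (LK LD1_c0 LD2_c40 LD3_c23)) = (LP (LK LD1_c1 LD2_c4 LD3_c58)) :=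
  Lgr Lrot76 (Lpe (f73003 IH) (Lpr_ff (f99629 IH) (Lpr_gt (f99631 IH) (Lpn (LP (LK LD1_c1 LD2_c4 LD3_c58))))))
theorem f99657 : Led Lsl_ct (LP (LK LD1_c2 LD2_c15 LD3_c58)) = (LP (LK LD1_c1 LD2_c4 LD3_c58)) :=
  Lre_c IH (LK LD1_c2 LD2_c15 LD3_c58) (LK LD1_c1 LD2_c4 LD3_c58) Lrfl Lrfl
theorem f99664 : Led Lsl_gt (LP (LK LD1_c4 LD2_c37 LD3_c8)) = (LP (LK LD1_c2 LD2_c15 LD3_c58)) :=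
  Lre_g IH (LK LD1_c4 LD2_c37 LD3_c8) (LK LD1_c2 LD2_c15 LD3_c58) Lrfl Lrfl
theorem f117150 : Led Lsl_ct (LP (LK LD1_c7 LD2_c40 LD3_c58)) = (LP (LK LD1_c3 LD2_c50 LD3_c0)) :=
  Lre_c IH (LK LD1_c7 LD2_c40 LD3_c58) (LK LD1_c3 LD2_c50 LD3_c0) Lrfl Lrfl
theorem f117152 : Led Lsl_bf (LP (LK LD1_c4 LD2_c37 LD3_c8)) = (LP (LK LD1_c7 LD2_c40 LD3_c58)) :=
  Lgr Lrot165 (Lpr_gt (f99664 IH) (Lpr_ct (f99657 IH) (Lpe (f99651 IH) (Lpe (f27157 IH) (Lpr_bt (f65056 IH) (Lpr_gt (f63842 IH) (Lpe (K3.f58422 IH) (Lpr_ct (f58423 IH) (Lpr_gt (f117148 IH) (Lpe (f117150 IH) (Lpn (LP (LK LD1_c7 LD2_c40 LD3_c58)))))))))))))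
theorem f99653 : Led Lsl_ft (LP (LK LD1_c1 LD2_c4 LD3_c58)) = (LP (LK LD1_c2 LD2_c15 LD3_c32)) :=
  Lre_f IH (LK LD1_c1 LD2_c4 LD3_c58) (LK LD1_c2 LD2_c15 LD3_c32) Lrfl Lrfl
theorem f99654 : Led Lsl_at (LP (LK LD1_c2 LD2_c15 LD3_c32)) = (LP (LK LD1_c1 LD2_c4 LD3_c53)) :=
  Lre_a IH (LK LD1_c2 LD2_c15 LD3_c32) (LK LD1_c1 LD2_c4 LD3_c53) Lrfl Lrfl
theorem f99655 : Led Lsl_gt (LP (LK LD1_c0 LD2_c40 LD3_c23)) = (LP (LK LD1_c1 LD2_c4 LD3_c53)) :=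
  Lgr Lrot46 (Lpr_gf (f99651 IH) (Lpr_ft (f99653 IH) (Lpr_at (f99654 IH) (Lpn (LP (LK LD1_c1 LD2_c4 LD3_c53))))))
theorem f72871 : Led Lsl_dt (LP (LK LD1_c1 LD2_c25 LD3_c61)) = (LP (LK LD1_c2 LD2_c17 LD3_c28)) :=
  Lre_d IH (LK LD1_c1 LD2_c25 LD3_c61) (LK LD1_c2 LD2_c17 LD3_c28) Lrfl Lrfl
theorem f72971 : Led Lsl_bt (LP (LK LD1_c2 LD2_c17 LD3_c28)) = (LP (LK LD1_c1 LD2_c27 LD3_c13)) :=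
  Lre_b IH (LK LD1_c2 LD2_c17 LD3_c28) (LK LD1_c1 LD2_c27 LD3_c13) Lrfl Lrfl
theorem f72972 : Led Lsl_df (LP (LK LD1_c1 LD2_c20 LD3_c42)) = (LP (LK LD1_c1 LD2_c27 LD3_c13)) :=
  Lgr Lrot12 (Lpr_bt (f72966 IH) (Lpr_dt (f72871 IH) (Lpr_bt (f72971 IH) (Lpn (LP (LK LD1_c1 LD2_c27 LD3_c13))))))
theorem f72996 : Led Lsl_dt (LP (LK LD1_c1 LD2_c20 LD3_c42)) = (LP (LK LD1_c1 LD2_c27 LD3_c13)) :=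
  Lgr Lrot42 (Lpr_df (f72972 IH) (Lpn (LP (LK LD1_c1 LD2_c27 LD3_c13))))
theorem f72968 : Led Lsl_at (LP (LK LD1_c0 LD2_c37 LD3_c16)) = (LP (LK LD1_c1 LD2_c20 LD3_c42)) :=
  Lre_a IH (LK LD1_c0 LD2_c37 LD3_c16) (LK LD1_c1 LD2_c20 LD3_c42) Lrfl Lrfl
theorem f73004 : Led Lsl_df (LP (LK LD1_c0 LD2_c37 LD3_c16)) = (LP (LK LD1_c0 LD2_c40 LD3_c23)) :=
  Lgr Lrot18 (Lpr_at (f72968 IH) (Lpr_dt (f72996 IH) (Lpr_at (f73003 IH) (Lpn (LP (LK LD1_c0 LD2_c40 LD3_c23))))))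
theorem f73023 : Led Lsl_gt (LP (LK LD1_c0 LD2_c37 LD3_c16)) = (LP (LK LD1_c1 LD2_c20 LD3_c40)) :=
  Lre_g IH (LK LD1_c0 LD2_c37 LD3_c16) (LK LD1_c1 LD2_c20 LD3_c40) Lrfl Lrfl
theorem f73024 : Led Lsl_ct (LP (LK LD1_c1 LD2_c20 LD3_c40)) = (LP (LK LD1_c2 LD2_c49 LD3_c5)) :=
  Lre_c IH (LK LD1_c1 LD2_c20 LD3_c40) (LK LD1_c2 LD2_c49 LD3_c5) Lrfl Lrfl
theorem f73025 : Led Lsl_gt (LP (LK LD1_c2 LD2_c49 LD3_c5)) = (LP (LK LD1_c2 LD2_c49 LD3_c59)) :=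
  Lre_g IH (LK LD1_c2 LD2_c49 LD3_c5) (LK LD1_c2 LD2_c49 LD3_c59) Lrfl Lrfl
theorem f57258 : Led Lsl_ct (LP (LK LD1_c2 LD2_c49 LD3_c59)) = (LP (LK LD1_c1 LD2_c21 LD3_c2)) :=
  Lre_c IH (LK LD1_c2 LD2_c49 LD3_c59) (LK LD1_c1 LD2_c21 LD3_c2) Lrfl Lrfl
theorem f73026 : Led Lsl_dt (LP (LK LD1_c1 LD2_c21 LD3_c2)) = (LP (LK LD1_c2 LD2_c49 LD3_c60)) :=
  Lre_d IH (LK LD1_c1 LD2_c21 LD3_c2) (LK LD1_c2 LD2_c49 LD3_c60) Lrfl Lrfl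
theorem f25137 : Led Lsl_ct (LP (LK LD1_c1 LD2_c4 LD3_c53)) = (LP (LK LD1_c2 LD2_c15 LD3_c46)) :=
  Lre_c IH (LK LD1_c1 LD2_c4 LD3_c53) (LK LD1_c2 LD2_c15 LD3_c46) Lrfl Lrfl
theorem f100249 : Led Lsl_gt (LP (LK LD1_c2 LD2_c15 LD3_c46)) = (LP (LK LD1_c4 LD2_c37 LD3_c8)) :=
  Lre_g IH (LK LD1_c2 LD2_c15 LD3_c46) (LK LD1_c4 LD2_c37 LD3_c8) Lrfl Lrfl
theorem f100250 : Led Lsl_cf (LP (LK LD1_c2 LD2_c49 LD3_c60)) = (LP (LK LD1_c4 LD2_c37 LD3_c8)) :=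
  Lgr Lrot99 (Lpe (f73026 IH) (Lpe (f57258 IH) (Lpe (f73025 IH) (Lpe (f73024 IH) (Lpe (f73023 IH) (Lpr_df (f73004 IH) (Lpr_gt (f99655 IH) (Lpr_ct (f25137 IH) (Lpr_gt (f100249 IH) (Lpn (LP (LK LD1_c4 LD2_c37 LD3_c8))))))))))))
theorem f100279 : Led Lsl_bt (LP (LK LD1_c2 LD2_c49 LD3_c60)) = (LP (LK LD1_c1 LD2_c21 LD3_c4)) :=
  Lre_b IH (LK LD1_c2 LD2_c49 LD3_c60) (LK LD1_c1 LD2_c21 LD3_c4) Lrfl Lrfl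
theorem f100280 : Led Lsl_ct (LP (LK LD1_c1 LD2_c21 LD3_c4)) = (LP (LK LD1_c2 LD2_c50 LD3_c2)) :=
  Lre_c IH (LK LD1_c1 LD2_c21 LD3_c4) (LK LD1_c2 LD2_c50 LD3_c2) Lrfl Lrfl
theorem f117133 : Led Lsl_ct (LP (LK LD1_c3 LD2_c50 LD3_c0)) = (LP (LK LD1_c7 LD2_c40 LD3_c58)) :=
  Lre_c IH (LK LD1_c3 LD2_c50 LD3_c0) (LK LD1_c7 LD2_c40 LD3_c58) Lrfl Lrfl
theorem f117162 : Led Lsl_bt (LP (LK LD1_c2 LD2_c50 LD3_c2)) = (LP (LK LD1_c3 LD2_c50 LD3_c0)) :=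
  Lgr Lrot128 (Lpe (f100280 IH) (Lpe (f100279 IH) (Lpr_cf (f100250 IH) (Lpr_bf (f117152 IH) (Lpe (f117133 IH) (Lpn (LP (LK LD1_c3 LD2_c50 LD3_c0))))))))
theorem f117165 : Led Lsl_at (LP (LK LD1_c3 LD2_c50 LD3_c0)) = (LP (LK LD1_c1 LD2_c51 LD3_c61)) :=
  Lre_a IH (LK LD1_c3 LD2_c50 LD3_c0) (LK LD1_c1 LD2_c51 LD3_c61) Lrfl Lrfl
theorem f63139 : Led Lsl_bt (LP (LK LD1_c1 LD2_c51 LD3_c61)) = (LP (LK LD1_c0 LD2_c52 LD3_c47)) :=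
  Lre_b IH (LK LD1_c1 LD2_c51 LD3_c61) (LK LD1_c0 LD2_c52 LD3_c47) Lrfl Lrfl
theorem f110054 : Led Lsl_ct (LP (LK LD1_c0 LD2_c49 LD3_c3)) = (LP (LK LD1_c0 LD2_c40 LD3_c12)) :=
  Lgr Lrot111 (Lpr_af (K3.f110050 IH) (Lpe (K2.f61996 IH) (Lpe (K3.f64474 IH) (Lpn (LP (LK LD1_c0 LD2_c40 LD3_c12))))))
theorem f91240 : Led Lsl_dt (LP (LK LD1_c1 LD2_c44 LD3_c48)) = (LP (LK LD1_c0 LD2_c49 LD3_c3)) :=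
  Lre_d IH (LK LD1_c1 LD2_c44 LD3_c48) (LK LD1_c0 LD2_c49 LD3_c3) Lrfl Lrfl
theorem f110084 : Led Lsl_ft (LP (LK LD1_c1 LD2_c50 LD3_c49)) = (LP (LK LD1_c0 LD2_c52 LD3_c47)) :=
  Lgr Lrot54 (Lpe (K3.f15628 IH) (Lpr_ff (K3.f110078 IH) (Lpe (K1.f63503 IH) (Lpn (LP (LK LD1_c0 LD2_c52 LD3_c47))))))
theorem f113986 : Led Lsl_af (LP (LK LD1_c1 LD2_c50 LD3_c46)) = (LP (LK LD1_c0 LD2_c52 LD3_c47)) :=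
  Lgr Lrot109 (Lpr_cf (K3.f96624 IH) (Lpe (K3.f96621 IH) (Lpe (K3.f60975 IH) (Lpr_df (f113970 IH) (Lpe (f110054 IH) (Lpe (f91240 IH) (Lpr_cf (K3.f91236 IH) (Lpe (K3.f63721 IH) (Lpr_ft (f110084 IH) (Lpn (LP (LK LD1_c0 LD2_c52 LD3_c47))))))))))))
theorem f24016 : Led Lsl_bt (LP (LK LD1_c0 LD2_c16 LD3_c58)) = (LP (LK LD1_c0 LD2_c37 LD3_c57)) :=
  Lre_b IH (LK LD1_c0 LD2_c16 LD3_c58) (LK LD1_c0 LD2_c37 LD3_c57) Lrfl Lrfl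
theorem f8356 : Led Lsl_ct (LP (LK LD1_c0 LD2_c37 LD3_c57)) = (LP (LK LD1_c1 LD2_c21 LD3_c61)) :=
  Lre_c IH (LK LD1_c0 LD2_c37 LD3_c57) (LK LD1_c1 LD2_c21 LD3_c61) Lrfl Lrfl
theorem f24018 : Led Lsl_bt (LP (LK LD1_c1 LD2_c21 LD3_c61)) = (LP (LK LD1_c0 LD2_c43 LD3_c38)) :=
  Lgr Lrot128 (Lpe (f8356 IH) (Lpe (f24016 IH) (Lpr_cf (K0.f23919 IH) (Lpe (K3.f23172 IH) (Lpe (K3.f24017 IH) (Lpn (LP (LK LD1_c0 LD2_c43 LD3_c38))))))))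
theorem f22310 : Led Lsl_gt (LP (LK LD1_c0 LD2_c37 LD3_c57)) = (LP (LK LD1_c1 LD2_c21 LD3_c59)) :=
  Lre_g IH (LK LD1_c0 LD2_c37 LD3_c57) (LK LD1_c1 LD2_c21 LD3_c59) Lrfl Lrfl
theorem f24063 : Led Lsl_ct (LP (LK LD1_c2 LD2_c51 LD3_c51)) = (LP (LK LD1_c1 LD2_c21 LD3_c59)) :=
  Lre_c IH (LK LD1_c2 LD2_c51 LD3_c51) (LK LD1_c1 LD2_c21 LD3_c59) Lrfl Lrfl
theorem f112096 : Led Lsl_bt (LP (LK LD1_c2 LD2_c51 LD3_c51)) = (LP (LK LD1_c1 LD2_c50 LD3_c46)) :=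
  Lgr Lrot130 (Lpr_ct (f24063 IH) (Lpe (f22310 IH) (Lpe (f8352 IH) (Lpr_bt (f24018 IH) (Lpe (f24203 IH) (Lpr_bf (f111885 IH) (Lpe (f111887 IH) (Lpr_gf (f112086 IH) (Lpe (K3.f19122 IH) (Lpr_gf (K3.f93476 IH) (Lpn (LP (LK LD1_c1 LD2_c50 LD3_c46)))))))))))))
theorem f112102 : Led Lsl_bf (LP (LK LD1_c2 LD2_c51 LD3_c51)) = (LP (LK LD1_c1 LD2_c50 LD3_c46)) :=
  Lgr Lrot24 (Lpr_bt (f112096 IH) (Lpn (LP (LK LD1_c1 LD2_c50 LD3_c46))))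
theorem f117166 : Led Lsl_af (LP (LK LD1_c2 LD2_c50 LD3_c2)) = (LP (LK LD1_c2 LD2_c51 LD3_c51)) :=
  Lgr Lrot36 (Lpr_bt (f117162 IH) (Lpr_at (f117165 IH) (Lpr_bt (f63139 IH) (Lpe (f113986 IH) (Lpe (f112102 IH) (Lpn (LP (LK LD1_c2 LD2_c51 LD3_c51))))))))
theorem f117218 : Led Lsl_et (LP (LK LD1_c2 LD2_c50 LD3_c2)) = (LP (LK LD1_c5 LD2_c48 LD3_c1)) :=
  Lre_e IH (LK LD1_c2 LD2_c50 LD3_c2) (LK LD1_c5 LD2_c48 LD3_c1) Lrfl Lrfl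
theorem f112108 : Led Lsl_et (LP (LK LD1_c5 LD2_c51 LD3_c10)) = (LP (LK LD1_c2 LD2_c51 LD3_c51)) :=
  Lre_e IH (LK LD1_c5 LD2_c51 LD3_c10) (LK LD1_c2 LD2_c51 LD3_c51) Lrfl Lrfl
theorem f117228 : Led Lsl_at (LP (LK LD1_c5 LD2_c48 LD3_c1)) = (LP (LK LD1_c5 LD2_c51 LD3_c10)) :=
  Lgr Lrot80 (Lpe (f117218 IH) (Lpr_af (f117166 IH) (Lpe (f112108 IH) (Lpn (LP (LK LD1_c5 LD2_c51 LD3_c10))))))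
theorem f117199 : Led Lsl_ft (LP (LK LD1_c11 LD2_c25 LD3_c40)) = (LP (LK LD1_c5 LD2_c48 LD3_c1)) :=
  Lre_f IH (LK LD1_c11 LD2_c25 LD3_c40) (LK LD1_c5 LD2_c48 LD3_c1) Lrfl Lrfl
theorem f112299 : Led Lsl_ft (LP (LK LD1_c5 LD2_c51 LD3_c10)) = (LP (LK LD1_c11 LD2_c29 LD3_c50)) :=
  Lre_f IH (LK LD1_c5 LD2_c51 LD3_c10) (LK LD1_c11 LD2_c29 LD3_c50) Lrfl Lrfl
theorem f117240 : Led Lsl_af (LP (LK LD1_c11 LD2_c25 LD3_c40)) = (LP (LK LD1_c11 LD2_c29 LD3_c50)) :=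
  Lgr Lrot45 (Lpr_ft (f117199 IH) (Lpr_at (f117228 IH) (Lpr_ft (f112299 IH) (Lpn (LP (LK LD1_c11 LD2_c29 LD3_c50))))))
theorem f117198 : Led Lsl_dt (LP (LK LD1_c11 LD2_c25 LD3_c40)) = (LP (LK LD1_c20 LD2_c23 LD3_c9)) :=
  Lre_d IH (LK LD1_c11 LD2_c25 LD3_c40) (LK LD1_c20 LD2_c23 LD3_c9) Lrfl Lrfl
theorem f112298 : Led Lsl_dt (LP (LK LD1_c20 LD2_c26 LD3_c59)) = (LP (LK LD1_c11 LD2_c29 LD3_c50)) :=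
  Lre_d IH (LK LD1_c20 LD2_c26 LD3_c59) (LK LD1_c11 LD2_c29 LD3_c50) Lrfl Lrfl
theorem f117253 : Led Lsl_at (LP (LK LD1_c20 LD2_c23 LD3_c9)) = (LP (LK LD1_c20 LD2_c26 LD3_c59)) :=
  Lgr Lrot51 (Lpe (f117198 IH) (Lpr_af (f117240 IH) (Lpe (f112298 IH) (Lpn (LP (LK LD1_c20 LD2_c26 LD3_c59))))))
theorem f117258 : Led Lsl_af (LP (LK LD1_c20 LD2_c23 LD3_c9)) = (LP (LK LD1_c20 LD2_c26 LD3_c59)) :=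
  Lgr Lrot0 (Lpr_at (f117253 IH) (Lpn (LP (LK LD1_c20 LD2_c26 LD3_c59))))
theorem f117207 : Led Lsl_ft (LP (LK LD1_c20 LD2_c23 LD3_c9)) = (LP (LK LD1_c11 LD2_c25 LD3_c39)) :=
  Lre_f IH (LK LD1_c20 LD2_c23 LD3_c9) (LK LD1_c11 LD2_c25 LD3_c39) Lrfl Lrfl
theorem f112221 : Led Lsl_ft (LP (LK LD1_c11 LD2_c29 LD3_c49)) = (LP (LK LD1_c20 LD2_c26 LD3_c59)) :=
  Lre_f IH (LK LD1_c11 LD2_c29 LD3_c49) (LK LD1_c20 LD2_c26 LD3_c59) Lrfl Lrfl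
theorem f117265 : Led Lsl_at (LP (LK LD1_c11 LD2_c25 LD3_c39)) = (LP (LK LD1_c11 LD2_c29 LD3_c49)) :=
  Lgr Lrot66 (Lpe (f117207 IH) (Lpr_af (f117258 IH) (Lpe (f112221 IH) (Lpn (LP (LK LD1_c11 LD2_c29 LD3_c49))))))
theorem f8365 : Led Lsl_gt (LP (LK LD1_c2 LD2_c51 LD3_c57)) = (LP (LK LD1_c1 LD2_c21 LD3_c61)) :=
  Lre_g IH (LK LD1_c2 LD2_c51 LD3_c57) (LK LD1_c1 LD2_c21 LD3_c61) Lrfl Lrfl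
theorem f112113 : Led Lsl_bf (LP (LK LD1_c2 LD2_c51 LD3_c57)) = (LP (LK LD1_c1 LD2_c39 LD3_c57)) :=
  Lgr Lrot165 (Lpr_gt (f8365 IH) (Lpr_ct (f8352 IH) (Lpr_gt (f22310 IH) (Lpe (f24063 IH) (Lpr_bt (f112096 IH) (Lpe (K3.f93476 IH) (Lpr_bf (f18239 IH) (Lpr_ct (K2.f18150 IH) (Lpr_gt (K2.f83758 IH) (Lpe (K2.f91106 IH) (Lpn (LP (LK LD1_c1 LD2_c39 LD3_c57)))))))))))))
theorem f112121 : Led Lsl_et (LP (LK LD1_c2 LD2_c51 LD3_c57)) = (LP (LK LD1_c5 LD2_c51 LD3_c22)) :=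
  Lre_e IH (LK LD1_c2 LD2_c51 LD3_c57) (LK LD1_c5 LD2_c51 LD3_c22) Lrfl Lrfl
theorem f91126 : Led Lsl_et (LP (LK LD1_c3 LD2_c26 LD3_c32)) = (LP (LK LD1_c1 LD2_c39 LD3_c57)) :=
  Lre_e IH (LK LD1_c3 LD2_c26 LD3_c32) (LK LD1_c1 LD2_c39 LD3_c57) Lrfl Lrfl
theorem f112122 : Led Lsl_bt (LP (LK LD1_c5 LD2_c51 LD3_c22)) = (LP (LK LD1_c3 LD2_c26 LD3_c32)) :=
  Lgr Lrot119 (Lpe (f112121 IH) (Lpr_bf (f112113 IH) (Lpe (f91126 IH) (Lpn (LP (LK LD1_c3 LD2_c26 LD3_c32))))))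
theorem f112131 : Led Lsl_ft (LP (LK LD1_c11 LD2_c30 LD3_c10)) = (LP (LK LD1_c5 LD2_c51 LD3_c22)) :=
  Lre_f IH (LK LD1_c11 LD2_c30 LD3_c10) (LK LD1_c5 LD2_c51 LD3_c22) Lrfl Lrfl
theorem f91127 : Led Lsl_ft (LP (LK LD1_c3 LD2_c26 LD3_c32)) = (LP (LK LD1_c6 LD2_c54 LD3_c56)) :=
  Lre_f IH (LK LD1_c3 LD2_c26 LD3_c32) (LK LD1_c6 LD2_c54 LD3_c56) Lrfl Lrfl
theorem f112132 : Led Lsl_bf (LP (LK LD1_c11 LD2_c30 LD3_c10)) = (LP (LK LD1_c6 LD2_c54 LD3_c56)) :=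
  Lgr Lrot61 (Lpr_ft (f112131 IH) (Lpr_bt (f112122 IH) (Lpr_ft (f91127 IH) (Lpn (LP (LK LD1_c6 LD2_c54 LD3_c56))))))
theorem f112138 : Led Lsl_dt (LP (LK LD1_c11 LD2_c30 LD3_c10)) = (LP (LK LD1_c20 LD2_c27 LD3_c23)) :=
  Lre_d IH (LK LD1_c11 LD2_c30 LD3_c10) (LK LD1_c20 LD2_c27 LD3_c23) Lrfl Lrfl
theorem f112139 : Led Lsl_dt (LP (LK LD1_c13 LD2_c8 LD3_c23)) = (LP (LK LD1_c6 LD2_c54 LD3_c56)) :=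
  Lre_d IH (LK LD1_c13 LD2_c8 LD3_c23) (LK LD1_c6 LD2_c54 LD3_c56) Lrfl Lrfl
theorem f112140 : Led Lsl_bt (LP (LK LD1_c20 LD2_c27 LD3_c23)) = (LP (LK LD1_c13 LD2_c8 LD3_c23)) :=
  Lgr Lrot95 (Lpe (f112138 IH) (Lpr_bf (f112132 IH) (Lpe (f112139 IH) (Lpn (LP (LK LD1_c13 LD2_c8 LD3_c23))))))
theorem f112142 : Led Lsl_bf (LP (LK LD1_c20 LD2_c27 LD3_c23)) = (LP (LK LD1_c13 LD2_c8 LD3_c23)) :=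
  Lgr Lrot24 (Lpr_bt (f112140 IH) (Lpn (LP (LK LD1_c13 LD2_c8 LD3_c23))))
theorem f112154 : Led Lsl_ft (LP (LK LD1_c20 LD2_c27 LD3_c23)) = (LP (LK LD1_c11 LD2_c30 LD3_c9)) :=
  Lre_f IH (LK LD1_c20 LD2_c27 LD3_c23) (LK LD1_c11 LD2_c30 LD3_c9) Lrfl Lrfl
theorem f91117 : Led Lsl_ft (LP (LK LD1_c6 LD2_c54 LD3_c55)) = (LP (LK LD1_c13 LD2_c8 LD3_c23)) :=
  Lre_f IH (LK LD1_c6 LD2_c54 LD3_c55) (LK LD1_c13 LD2_c8 LD3_c23) Lrfl Lrfl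
theorem f112155 : Led Lsl_bt (LP (LK LD1_c11 LD2_c30 LD3_c9)) = (LP (LK LD1_c6 LD2_c54 LD3_c55)) :=
  Lgr Lrot35 (Lpe (f112154 IH) (Lpr_bf (f112142 IH) (Lpe (f91117 IH) (Lpn (LP (LK LD1_c6 LD2_c54 LD3_c55))))))
theorem f102577 : Led Lsl_et (LP (LK LD1_c6 LD2_c54 LD3_c55)) = (LP (LK LD1_c3 LD2_c26 LD3_c35)) :=
  Lre_e IH (LK LD1_c6 LD2_c54 LD3_c55) (LK LD1_c3 LD2_c26 LD3_c35) Lrfl Lrfl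
theorem f112162 : Led Lsl_bt (LP (LK LD1_c3 LD2_c26 LD3_c35)) = (LP (LK LD1_c6 LD2_c54 LD3_c51)) :=
  Lre_b IH (LK LD1_c3 LD2_c26 LD3_c35) (LK LD1_c6 LD2_c54 LD3_c51) Lrfl Lrfl
theorem f112163 : Led Lsl_ef (LP (LK LD1_c11 LD2_c30 LD3_c9)) = (LP (LK LD1_c6 LD2_c54 LD3_c51)) :=
  Lgr Lrot29 (Lpr_bt (f112155 IH) (Lpr_et (f102577 IH) (Lpr_bt (f112162 IH) (Lpn (LP (LK LD1_c6 LD2_c54 LD3_c51))))))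
theorem f112172 : Led Lsl_et (LP (LK LD1_c11 LD2_c30 LD3_c9)) = (LP (LK LD1_c6 LD2_c54 LD3_c51)) :=
  Lgr Lrot87 (Lpr_ef (f112163 IH) (Lpn (LP (LK LD1_c6 LD2_c54 LD3_c51))))
theorem f103770 : Led Lsl_dt (LP (LK LD1_c5 LD2_c51 LD3_c22)) = (LP (LK LD1_c11 LD2_c30 LD3_c9)) :=
  Lre_d IH (LK LD1_c5 LD2_c51 LD3_c22) (LK LD1_c11 LD2_c30 LD3_c9) Lrfl Lrfl
theorem f15180 : Led Lsl_dt (LP (LK LD1_c6 LD2_c54 LD3_c51)) = (LP (LK LD1_c3 LD2_c26 LD3_c30)) :=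
  Lre_d IH (LK LD1_c6 LD2_c54 LD3_c51) (LK LD1_c3 LD2_c26 LD3_c30) Lrfl Lrfl
theorem f15170 : Led Lsl_et (LP (LK LD1_c3 LD2_c26 LD3_c30)) = (LP (LK LD1_c1 LD2_c39 LD3_c56)) :=
  Lre_e IH (LK LD1_c3 LD2_c26 LD3_c30) (LK LD1_c1 LD2_c39 LD3_c56) Lrfl Lrfl
theorem f112181 : Led Lsl_df (LP (LK LD1_c2 LD2_c51 LD3_c57)) = (LP (LK LD1_c1 LD2_c39 LD3_c56)) :=
  Lgr Lrot70 (Lpr_et (f112121 IH) (Lpr_dt (f103770 IH) (Lpr_et (f112172 IH) (Lpr_dt (f15180 IH) (Lpr_et (f15170 IH) (Lpn (LP (LK LD1_c1 LD2_c39 LD3_c56))))))))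
theorem f24055 : Led Lsl_ct (LP (LK LD1_c1 LD2_c21 LD3_c59)) = (LP (LK LD1_c2 LD2_c51 LD3_c51)) :=
  Lre_c IH (LK LD1_c1 LD2_c21 LD3_c59) (LK LD1_c2 LD2_c51 LD3_c51) Lrfl Lrfl
theorem f15084 : Led Lsl_et (LP (LK LD1_c1 LD2_c39 LD3_c53)) = (LP (LK LD1_c0 LD2_c46 LD3_c29)) :=
  Lre_e IH (LK LD1_c1 LD2_c39 LD3_c53) (LK LD1_c0 LD2_c46 LD3_c29) Lrfl Lrfl
theorem f15085 : Led Lsl_et (LP (LK LD1_c0 LD2_c52 LD3_c17)) = (LP (LK LD1_c1 LD2_c50 LD3_c47)) :=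
  Lre_e IH (LK LD1_c0 LD2_c52 LD3_c17) (LK LD1_c1 LD2_c50 LD3_c47) Lrfl Lrfl
theorem f15086 : Led Lsl_cf (LP (LK LD1_c1 LD2_c39 LD3_c53)) = (LP (LK LD1_c1 LD2_c50 LD3_c47)) :=
  Lgr Lrot39 (Lpr_et (f15084 IH) (Lpr_ct (K3.f15068 IH) (Lpr_et (f15085 IH) (Lpn (LP (LK LD1_c1 LD2_c50 LD3_c47))))))
theorem f15101 : Led Lsl_ft (LP (LK LD1_c1 LD2_c39 LD3_c53)) = (LP (LK LD1_c3 LD2_c26 LD3_c23)) :=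
  Lre_f IH (LK LD1_c1 LD2_c39 LD3_c53) (LK LD1_c3 LD2_c26 LD3_c23) Lrfl Lrfl
theorem f15102 : Led Lsl_ft (LP (LK LD1_c3 LD2_c47 LD3_c21)) = (LP (LK LD1_c1 LD2_c50 LD3_c47)) :=
  Lre_f IH (LK LD1_c3 LD2_c47 LD3_c21) (LK LD1_c1 LD2_c50 LD3_c47) Lrfl Lrfl
theorem f15103 : Led Lsl_ct (LP (LK LD1_c3 LD2_c26 LD3_c23)) = (LP (LK LD1_c3 LD2_c47 LD3_c21)) :=
  Lgr Lrot40 (Lpe (f15101 IH) (Lpr_cf (f15086 IH) (Lpe (f15102 IH) (Lpn (LP (LK LD1_c3 LD2_c47 LD3_c21))))))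
theorem f15123 : Led Lsl_cf (LP (LK LD1_c3 LD2_c26 LD3_c23)) = (LP (LK LD1_c3 LD2_c47 LD3_c21)) :=
  Lgr Lrot11 (Lpr_ct (f15103 IH) (Lpn (LP (LK LD1_c3 LD2_c47 LD3_c21))))
theorem f15126 : Led Lsl_bt (LP (LK LD1_c3 LD2_c26 LD3_c23)) = (LP (LK LD1_c1 LD2_c39 LD3_c60)) :=
  Lre_b IH (LK LD1_c3 LD2_c26 LD3_c23) (LK LD1_c1 LD2_c39 LD3_c60) Lrfl Lrfl
theorem f15127 : Led Lsl_ct (LP (LK LD1_c1 LD2_c39 LD3_c60)) = (LP (LK LD1_c3 LD2_c26 LD3_c36)) :=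
  Lre_c IH (LK LD1_c1 LD2_c39 LD3_c60) (LK LD1_c3 LD2_c26 LD3_c36) Lrfl Lrfl
theorem f15128 : Led Lsl_bt (LP (LK LD1_c3 LD2_c26 LD3_c36)) = (LP (LK LD1_c6 LD2_c54 LD3_c52)) :=
  Lre_b IH (LK LD1_c3 LD2_c26 LD3_c36) (LK LD1_c6 LD2_c54 LD3_c52) Lrfl Lrfl
theorem f15129 : Led Lsl_bt (LP (LK LD1_c7 LD2_c35 LD3_c28)) = (LP (LK LD1_c3 LD2_c47 LD3_c21)) :=
  Lre_b IH (LK LD1_c7 LD2_c35 LD3_c28) (LK LD1_c3 LD2_c47 LD3_c21) Lrfl Lrfl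
theorem f15130 : Led Lsl_ct (LP (LK LD1_c6 LD2_c54 LD3_c52)) = (LP (LK LD1_c7 LD2_c35 LD3_c28)) :=
  Lgr Lrot83 (Lpe (f15128 IH) (Lpe (f15127 IH) (Lpe (f15126 IH) (Lpr_cf (f15123 IH) (Lpe (f15129 IH) (Lpn (LP (LK LD1_c7 LD2_c35 LD3_c28))))))))
theorem f15141 : Led Lsl_ft (LP (LK LD1_c3 LD2_c26 LD3_c30)) = (LP (LK LD1_c6 LD2_c54 LD3_c52)) :=
  Lre_f IH (LK LD1_c3 LD2_c26 LD3_c30) (LK LD1_c6 LD2_c54 LD3_c52) Lrfl Lrfl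
theorem f15142 : Led Lsl_ft (LP (LK LD1_c7 LD2_c35 LD3_c28)) = (LP (LK LD1_c3 LD2_c47 LD3_c18)) :=
  Lre_f IH (LK LD1_c7 LD2_c35 LD3_c28) (LK LD1_c3 LD2_c47 LD3_c18) Lrfl Lrfl
theorem f15143 : Led Lsl_cf (LP (LK LD1_c3 LD2_c26 LD3_c30)) = (LP (LK LD1_c3 LD2_c47 LD3_c18)) :=
  Lgr Lrot108 (Lpr_ft (f15141 IH) (Lpr_ct (f15130 IH) (Lpr_ft (f15142 IH) (Lpn (LP (LK LD1_c3 LD2_c47 LD3_c18))))))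
theorem f15171 : Led Lsl_et (LP (LK LD1_c1 LD2_c50 LD3_c45)) = (LP (LK LD1_c3 LD2_c47 LD3_c18)) :=
  Lre_e IH (LK LD1_c1 LD2_c50 LD3_c45) (LK LD1_c3 LD2_c47 LD3_c18) Lrfl Lrfl
theorem f15172 : Led Lsl_ct (LP (LK LD1_c1 LD2_c39 LD3_c56)) = (LP (LK LD1_c1 LD2_c50 LD3_c45)) :=
  Lgr Lrot15 (Lpe (f15170 IH) (Lpr_cf (f15143 IH) (Lpe (f15171 IH) (Lpn (LP (LK LD1_c1 LD2_c50 LD3_c45))))))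
theorem f112189 : Led Lsl_dt (LP (LK LD1_c2 LD2_c51 LD3_c51)) = (LP (LK LD1_c1 LD2_c50 LD3_c45)) :=
  Lgr Lrot27 (Lpe (f24055 IH) (Lpe (f22310 IH) (Lpe (f8352 IH) (Lpe (f8365 IH) (Lpr_df (f112181 IH) (Lpr_gt (K3.f12059 IH) (Lpe (K3.f15632 IH) (Lpr_gt (K3.f14606 IH) (Lpr_ct (f15172 IH) (Lpn (LP (LK LD1_c1 LD2_c50 LD3_c45))))))))))))
theorem f112203 : Led Lsl_dt (LP (LK LD1_c11 LD2_c29 LD3_c49)) = (LP (LK LD1_c5 LD2_c51 LD3_c10)) :=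
  Lre_d IH (LK LD1_c11 LD2_c29 LD3_c49) (LK LD1_c5 LD2_c51 LD3_c10) Lrfl Lrfl
theorem f15236 : Led Lsl_dt (LP (LK LD1_c3 LD2_c47 LD3_c18)) = (LP (LK LD1_c7 LD2_c35 LD3_c27)) :=
  Lre_d IH (LK LD1_c3 LD2_c47 LD3_c18) (LK LD1_c7 LD2_c35 LD3_c27) Lrfl Lrfl
theorem f112204 : Led Lsl_ef (LP (LK LD1_c11 LD2_c29 LD3_c49)) = (LP (LK LD1_c7 LD2_c35 LD3_c27)) :=
  Lgr Lrot73 (Lpr_dt (f112203 IH) (Lpr_et (f112108 IH) (Lpr_dt (f112189 IH) (Lpr_et (f15171 IH) (Lpr_dt (f15236 IH) (Lpn (LP (LK LD1_c7 LD2_c35 LD3_c27))))))))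
theorem f112219 : Led Lsl_et (LP (LK LD1_c11 LD2_c29 LD3_c49)) = (LP (LK LD1_c7 LD2_c35 LD3_c27)) :=
  Lgr Lrot87 (Lpr_ef (f112204 IH) (Lpn (LP (LK LD1_c7 LD2_c35 LD3_c27))))
theorem f112225 : Led Lsl_at (LP (LK LD1_c7 LD2_c35 LD3_c27)) = (LP (LK LD1_c14 LD2_c18 LD3_c36)) :=
  Lre_a IH (LK LD1_c7 LD2_c35 LD3_c27) (LK LD1_c14 LD2_c18 LD3_c36) Lrfl Lrfl
theorem f117271 : Led Lsl_ef (LP (LK LD1_c11 LD2_c25 LD3_c39)) = (LP (LK LD1_c14 LD2_c18 LD3_c36)) :=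
  Lgr Lrot20 (Lpr_at (f117265 IH) (Lpr_et (f112219 IH) (Lpr_at (f112225 IH) (Lpn (LP (LK LD1_c14 LD2_c18 LD3_c36))))))
theorem f117281 : Led Lsl_et (LP (LK LD1_c11 LD2_c25 LD3_c39)) = (LP (LK LD1_c14 LD2_c18 LD3_c36)) :=
  Lgr Lrot87 (Lpr_ef (f117271 IH) (Lpn (LP (LK LD1_c14 LD2_c18 LD3_c36))))
theorem f117177 : Led Lsl_dt (LP (LK LD1_c5 LD2_c48 LD3_c1)) = (LP (LK LD1_c11 LD2_c25 LD3_c39)) :=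
  Lre_d IH (LK LD1_c5 LD2_c48 LD3_c1) (LK LD1_c11 LD2_c25 LD3_c39) Lrfl Lrfl
theorem f15219 : Led Lsl_dt (LP (LK LD1_c14 LD2_c18 LD3_c36)) = (LP (LK LD1_c7 LD2_c35 LD3_c24)) :=
  Lre_d IH (LK LD1_c14 LD2_c18 LD3_c36) (LK LD1_c7 LD2_c35 LD3_c24) Lrfl Lrfl
theorem f15211 : Led Lsl_et (LP (LK LD1_c7 LD2_c35 LD3_c24)) = (LP (LK LD1_c3 LD2_c47 LD3_c17)) :=
  Lre_e IH (LK LD1_c7 LD2_c35 LD3_c24) (LK LD1_c3 LD2_c47 LD3_c17) Lrfl Lrfl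
theorem f117287 : Led Lsl_df (LP (LK LD1_c2 LD2_c50 LD3_c2)) = (LP (LK LD1_c3 LD2_c47 LD3_c17)) :=
  Lgr Lrot70 (Lpr_et (f117218 IH) (Lpr_dt (f117177 IH) (Lpr_et (f117281 IH) (Lpr_dt (f15219 IH) (Lpr_et (f15211 IH) (Lpn (LP (LK LD1_c3 LD2_c47 LD3_c17))))))))
theorem f117151 : Led Lsl_dt (LP (LK LD1_c3 LD2_c50 LD3_c0)) = (LP (LK LD1_c1 LD2_c51 LD3_c59)) :=
  Lre_d IH (LK LD1_c3 LD2_c50 LD3_c0) (LK LD1_c1 LD2_c51 LD3_c59) Lrfl Lrfl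
theorem f117292 : Led Lsl_bt (LP (LK LD1_c1 LD2_c51 LD3_c59)) = (LP (LK LD1_c3 LD2_c47 LD3_c17)) :=
  Lgr Lrot95 (Lpe (f117151 IH) (Lpe (f117162 IH) (Lpr_df (f117287 IH) (Lpn (LP (LK LD1_c3 LD2_c47 LD3_c17))))))
theorem f117301 : Led Lsl_et (LP (LK LD1_c3 LD2_c50 LD3_c1)) = (LP (LK LD1_c1 LD2_c51 LD3_c59)) :=
  Lre_e IH (LK LD1_c3 LD2_c50 LD3_c1) (LK LD1_c1 LD2_c51 LD3_c59) Lrfl Lrfl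
theorem f15214 : Led Lsl_et (LP (LK LD1_c3 LD2_c47 LD3_c17)) = (LP (LK LD1_c7 LD2_c35 LD3_c24)) :=
  Lre_e IH (LK LD1_c3 LD2_c47 LD3_c17) (LK LD1_c7 LD2_c35 LD3_c24) Lrfl Lrfl
theorem f117302 : Led Lsl_bf (LP (LK LD1_c3 LD2_c50 LD3_c1)) = (LP (LK LD1_c7 LD2_c35 LD3_c24)) :=
  Lgr Lrot96 (Lpr_et (f117301 IH) (Lpr_bt (f117292 IH) (Lpr_et (f15214 IH) (Lpn (LP (LK LD1_c7 LD2_c35 LD3_c24))))))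
theorem f117310 : Led Lsl_ft (LP (LK LD1_c3 LD2_c50 LD3_c1)) = (LP (LK LD1_c7 LD2_c41 LD3_c1)) :=
  Lre_f IH (LK LD1_c3 LD2_c50 LD3_c1) (LK LD1_c7 LD2_c41 LD3_c1) Lrfl Lrfl
theorem f15222 : Led Lsl_ft (LP (LK LD1_c14 LD2_c18 LD3_c37)) = (LP (LK LD1_c7 LD2_c35 LD3_c24)) :=
  Lre_f IH (LK LD1_c14 LD2_c18 LD3_c37) (LK LD1_c7 LD2_c35 LD3_c24) Lrfl Lrfl
theorem f117311 : Led Lsl_bt (LP (LK LD1_c7 LD2_c41 LD3_c1)) = (LP (LK LD1_c14 LD2_c18 LD3_c37)) :=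
  Lgr Lrot35 (Lpe (f117310 IH) (Lpr_bf (f117302 IH) (Lpe (f15222 IH) (Lpn (LP (LK LD1_c14 LD2_c18 LD3_c37))))))
theorem f117319 : Led Lsl_bf (LP (LK LD1_c7 LD2_c41 LD3_c1)) = (LP (LK LD1_c14 LD2_c18 LD3_c37)) :=
  Lgr Lrot24 (Lpr_bt (f117311 IH) (Lpn (LP (LK LD1_c14 LD2_c18 LD3_c37))))
theorem f117323 : Led Lsl_at (LP (LK LD1_c7 LD2_c41 LD3_c1)) = (LP (LK LD1_c3 LD2_c50 LD3_c10)) :=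
  Lre_a IH (LK LD1_c7 LD2_c41 LD3_c1) (LK LD1_c3 LD2_c50 LD3_c10) Lrfl Lrfl
theorem f84948 : Led Lsl_bt (LP (LK LD1_c3 LD2_c50 LD3_c10)) = (LP (LK LD1_c1 LD2_c52 LD3_c5)) :=
  Lre_b IH (LK LD1_c3 LD2_c50 LD3_c10) (LK LD1_c1 LD2_c52 LD3_c5) Lrfl Lrfl
theorem f15136 : Led Lsl_at (LP (LK LD1_c7 LD2_c35 LD3_c28)) = (LP (LK LD1_c14 LD2_c18 LD3_c37)) :=
  Lre_a IH (LK LD1_c7 LD2_c35 LD3_c28) (LK LD1_c14 LD2_c18 LD3_c37) Lrfl Lrfl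
theorem f15120 : Led Lsl_bt (LP (LK LD1_c3 LD2_c47 LD3_c21)) = (LP (LK LD1_c7 LD2_c35 LD3_c28)) :=
  Lre_b IH (LK LD1_c3 LD2_c47 LD3_c21) (LK LD1_c7 LD2_c35 LD3_c28) Lrfl Lrfl
theorem f117324 : Led Lsl_at (LP (LK LD1_c1 LD2_c52 LD3_c5)) = (LP (LK LD1_c3 LD2_c47 LD3_c21)) :=
  Lgr Lrot67 (Lpe (f84948 IH) (Lpe (f117323 IH) (Lpr_bf (f117319 IH) (Lpe (f15136 IH) (Lpe (f15120 IH) (Lpn (LP (LK LD1_c3 LD2_c47 LD3_c21))))))))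
theorem f117338 : Led Lsl_ft (LP (LK LD1_c0 LD2_c52 LD3_c48)) = (LP (LK LD1_c1 LD2_c52 LD3_c5)) :=
  Lre_f IH (LK LD1_c0 LD2_c52 LD3_c48) (LK LD1_c1 LD2_c52 LD3_c5) Lrfl Lrfl
theorem f117339 : Led Lsl_af (LP (LK LD1_c0 LD2_c52 LD3_c48)) = (LP (LK LD1_c1 LD2_c50 LD3_c47)) :=
  Lgr Lrot45 (Lpr_ft (f117338 IH) (Lpr_at (f117324 IH) (Lpr_ft (f15102 IH) (Lpn (LP (LK LD1_c1 LD2_c50 LD3_c47))))))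
theorem f65780 : Led Lsl_dt (LP (LK LD1_c0 LD2_c52 LD3_c48)) = (LP (LK LD1_c1 LD2_c52 LD3_c4)) :=
  Lre_d IH (LK LD1_c0 LD2_c52 LD3_c48) (LK LD1_c1 LD2_c52 LD3_c4) Lrfl Lrfl
theorem f15099 : Led Lsl_dt (LP (LK LD1_c3 LD2_c47 LD3_c20)) = (LP (LK LD1_c1 LD2_c50 LD3_c47)) :=
  Lre_d IH (LK LD1_c3 LD2_c47 LD3_c20) (LK LD1_c1 LD2_c50 LD3_c47) Lrfl Lrfl
theorem f117345 : Led Lsl_at (LP (LK LD1_c1 LD2_c52 LD3_c4)) = (LP (LK LD1_c3 LD2_c47 LD3_c20)) :=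
  Lgr Lrot51 (Lpe (f65780 IH) (Lpr_af (f117339 IH) (Lpe (f15099 IH) (Lpn (LP (LK LD1_c3 LD2_c47 LD3_c20))))))
theorem f117351 : Led Lsl_ct (LP (LK LD1_c3 LD2_c50 LD3_c20)) = (LP (LK LD1_c1 LD2_c52 LD3_c4)) :=
  Lre_c IH (LK LD1_c3 LD2_c50 LD3_c20) (LK LD1_c1 LD2_c52 LD3_c4) Lrfl Lrfl
theorem f15252 : Led Lsl_ct (LP (LK LD1_c3 LD2_c47 LD3_c20)) = (LP (LK LD1_c7 LD2_c35 LD3_c33)) :=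
  Lre_c IH (LK LD1_c3 LD2_c47 LD3_c20) (LK LD1_c7 LD2_c35 LD3_c33) Lrfl Lrfl
theorem f117352 : Led Lsl_af (LP (LK LD1_c3 LD2_c50 LD3_c20)) = (LP (LK LD1_c7 LD2_c35 LD3_c33)) :=
  Lgr Lrot68 (Lpr_ct (f117351 IH) (Lpr_at (f117345 IH) (Lpr_ct (f15252 IH) (Lpn (LP (LK LD1_c7 LD2_c35 LD3_c33))))))
theorem f117361 : Led Lsl_et (LP (LK LD1_c3 LD2_c50 LD3_c20)) = (LP (LK LD1_c7 LD2_c41 LD3_c42)) :=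
  Lre_e IH (LK LD1_c3 LD2_c50 LD3_c20) (LK LD1_c7 LD2_c41 LD3_c42) Lrfl Lrfl
theorem f117362 : Led Lsl_et (LP (LK LD1_c14 LD2_c18 LD3_c51)) = (LP (LK LD1_c7 LD2_c35 LD3_c33)) :=
  Lre_e IH (LK LD1_c14 LD2_c18 LD3_c51) (LK LD1_c7 LD2_c35 LD3_c33) Lrfl Lrfl
theorem f117363 : Led Lsl_at (LP (LK LD1_c7 LD2_c41 LD3_c42)) = (LP (LK LD1_c14 LD2_c18 LD3_c51)) :=
  Lgr Lrot80 (Lpe (f117361 IH) (Lpr_af (f117352 IH) (Lpe (f117362 IH) (Lpn (LP (LK LD1_c14 LD2_c18 LD3_c51))))))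
theorem f117372 : Led Lsl_ft (LP (LK LD1_c14 LD2_c30 LD3_c19)) = (LP (LK LD1_c7 LD2_c41 LD3_c42)) :=
  Lre_f IH (LK LD1_c14 LD2_c30 LD3_c19) (LK LD1_c7 LD2_c41 LD3_c42) Lrfl Lrfl
theorem f117373 : Led Lsl_ft (LP (LK LD1_c14 LD2_c18 LD3_c51)) = (LP (LK LD1_c23 LD2_c56 LD3_c50)) :=
  Lre_f IH (LK LD1_c14 LD2_c18 LD3_c51) (LK LD1_c23 LD2_c56 LD3_c50) Lrfl Lrfl
theorem f117374 : Led Lsl_af (LP (LK LD1_c14 LD2_c30 LD3_c19)) = (LP (LK LD1_c23 LD2_c56 LD3_c50)) :=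
  Lgr Lrot45 (Lpr_ft (f117372 IH) (Lpr_at (f117363 IH) (Lpr_ft (f117373 IH) (Lpn (LP (LK LD1_c23 LD2_c56 LD3_c50))))))
theorem f87451 : Led Lsl_ct (LP (LK LD1_c14 LD2_c30 LD3_c19)) = (LP (LK LD1_c7 LD2_c41 LD3_c43)) :=
  Lre_c IH (LK LD1_c14 LD2_c30 LD3_c19) (LK LD1_c7 LD2_c41 LD3_c43) Lrfl Lrfl
theorem f96699 : Led Lsl_ct (LP (LK LD1_c14 LD2_c18 LD3_c52)) = (LP (LK LD1_c23 LD2_c56 LD3_c50)) :=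
  Lre_c IH (LK LD1_c14 LD2_c18 LD3_c52) (LK LD1_c23 LD2_c56 LD3_c50) Lrfl Lrfl
theorem f117378 : Led Lsl_at (LP (LK LD1_c7 LD2_c41 LD3_c43)) = (LP (LK LD1_c14 LD2_c18 LD3_c52)) :=
  Lgr Lrot107 (Lpe (f87451 IH) (Lpr_af (f117374 IH) (Lpe (f96699 IH) (Lpn (LP (LK LD1_c14 LD2_c18 LD3_c52))))))
theorem f87446 : Led Lsl_dt (LP (LK LD1_c3 LD2_c50 LD3_c18)) = (LP (LK LD1_c7 LD2_c41 LD3_c43)) :=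
  Lre_d IH (LK LD1_c3 LD2_c50 LD3_c18) (LK LD1_c7 LD2_c41 LD3_c43) Lrfl Lrfl
theorem f96702 : Led Lsl_dt (LP (LK LD1_c14 LD2_c18 LD3_c52)) = (LP (LK LD1_c7 LD2_c35 LD3_c32)) :=
  Lre_d IH (LK LD1_c14 LD2_c18 LD3_c52) (LK LD1_c7 LD2_c35 LD3_c32) Lrfl Lrfl
theorem f117384 : Led Lsl_af (LP (LK LD1_c3 LD2_c50 LD3_c18)) = (LP (LK LD1_c7 LD2_c35 LD3_c32)) :=
  Lgr Lrot117 (Lpr_dt (f87446 IH) (Lpr_at (f117378 IH) (Lpr_dt (f96702 IH) (Lpn (LP (LK LD1_c7 LD2_c35 LD3_c32))))))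
theorem f87401 : Led Lsl_ft (LP (LK LD1_c3 LD2_c50 LD3_c18)) = (LP (LK LD1_c1 LD2_c52 LD3_c3)) :=
  Lre_f IH (LK LD1_c3 LD2_c50 LD3_c18) (LK LD1_c1 LD2_c52 LD3_c3) Lrfl Lrfl
theorem f96705 : Led Lsl_ft (LP (LK LD1_c3 LD2_c47 LD3_c19)) = (LP (LK LD1_c7 LD2_c35 LD3_c32)) :=
  Lre_f IH (LK LD1_c3 LD2_c47 LD3_c19) (LK LD1_c7 LD2_c35 LD3_c32) Lrfl Lrfl
theorem f117393 : Led Lsl_at (LP (LK LD1_c1 LD2_c52 LD3_c3)) = (LP (LK LD1_c3 LD2_c47 LD3_c19)) :=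
  Lgr Lrot66 (Lpe (f87401 IH) (Lpr_af (f117384 IH) (Lpe (f96705 IH) (Lpn (LP (LK LD1_c3 LD2_c47 LD3_c19))))))
theorem f87386 : Led Lsl_et (LP (LK LD1_c0 LD2_c52 LD3_c47)) = (LP (LK LD1_c1 LD2_c52 LD3_c3)) :=
  Lre_e IH (LK LD1_c0 LD2_c52 LD3_c47) (LK LD1_c1 LD2_c52 LD3_c3) Lrfl Lrfl
theorem f93479 : Led Lsl_et (LP (LK LD1_c3 LD2_c47 LD3_c19)) = (LP (LK LD1_c1 LD2_c50 LD3_c46)) :=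
  Lre_e IH (LK LD1_c3 LD2_c47 LD3_c19) (LK LD1_c1 LD2_c50 LD3_c46) Lrfl Lrfl
theorem f117401 : Led Lsl_af (LP (LK LD1_c0 LD2_c52 LD3_c47)) = (LP (LK LD1_c1 LD2_c50 LD3_c46)) :=
  Lgr Lrot50 (Lpr_et (f87386 IH) (Lpr_at (f117393 IH) (Lpr_et (f93479 IH) (Lpn (LP (LK LD1_c1 LD2_c50 LD3_c46))))))
theorem f117411 : Led Lsl_ft (LP (LK LD1_c0 LD2_c52 LD3_c51)) = (LP (LK LD1_c1 LD2_c50 LD3_c46)) :=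
  Lgr Lrot2 (Lpr_gt (K1.f64905 IH) (Lpr_gt (K1.f64255 IH) (Lpr_af (f117401 IH) (Lpn (LP (LK LD1_c1 LD2_c50 LD3_c46))))))
theorem f117423 : Led Lsl_ff (LP (LK LD1_c0 LD2_c52 LD3_c51)) = (LP (LK LD1_c1 LD2_c50 LD3_c46)) :=
  Lgr Lrot3 (Lpr_ft (f117411 IH) (Lpn (LP (LK LD1_c1 LD2_c50 LD3_c46))))
theorem f66252 : Led Lsl_et (LP (LK LD1_c0 LD2_c52 LD3_c51)) = (LP (LK LD1_c1 LD2_c52 LD3_c13)) :=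
  Lre_e IH (LK LD1_c0 LD2_c52 LD3_c51) (LK LD1_c1 LD2_c52 LD3_c13) Lrfl Lrfl
theorem f96682 : Led Lsl_ft (LP (LK LD1_c7 LD2_c35 LD3_c32)) = (LP (LK LD1_c3 LD2_c47 LD3_c19)) :=
  Lre_f IH (LK LD1_c7 LD2_c35 LD3_c32) (LK LD1_c3 LD2_c47 LD3_c19) Lrfl Lrfl
theorem f117431 : Led Lsl_et (LP (LK LD1_c3 LD2_c50 LD3_c42)) = (LP (LK LD1_c7 LD2_c35 LD3_c32)) :=
  Lgr Lrot69 (Lpe (K3.f66175 IH) (Lpe (f66252 IH) (Lpr_ff (f117423 IH) (Lpe (f93479 IH) (Lpe (f96682 IH) (Lpn (LP (LK LD1_c7 LD2_c35 LD3_c32))))))))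
theorem f65015 : Led Lsl_et (LP (LK LD1_c1 LD2_c50 LD3_c46)) = (LP (LK LD1_c3 LD2_c47 LD3_c19)) :=
  Lre_e IH (LK LD1_c1 LD2_c50 LD3_c46) (LK LD1_c3 LD2_c47 LD3_c19) Lrfl Lrfl
theorem f96669 : Led Lsl_et (LP (LK LD1_c6 LD2_c35 LD3_c28)) = (LP (LK LD1_c3 LD2_c16 LD3_c5)) :=
  Lre_e IH (LK LD1_c6 LD2_c35 LD3_c28) (LK LD1_c3 LD2_c16 LD3_c5) Lrfl Lrfl
theorem f96670 : Led Lsl_ct (LP (LK LD1_c3 LD2_c47 LD3_c19)) = (LP (LK LD1_c6 LD2_c35 LD3_c28)) :=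
  Lgr Lrot15 (Lpe (f65015 IH) (Lpr_cf (K3.f96624 IH) (Lpe (f96669 IH) (Lpn (LP (LK LD1_c6 LD2_c35 LD3_c28))))))
theorem f96683 : Led Lsl_ft (LP (LK LD1_c6 LD2_c35 LD3_c28)) = (LP (LK LD1_c12 LD2_c36 LD3_c59)) :=
  Lre_f IH (LK LD1_c6 LD2_c35 LD3_c28) (LK LD1_c12 LD2_c36 LD3_c59) Lrfl Lrfl
theorem f96684 : Led Lsl_cf (LP (LK LD1_c7 LD2_c35 LD3_c32)) = (LP (LK LD1_c12 LD2_c36 LD3_c59)) :=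
  Lgr Lrot108 (Lpr_ft (f96682 IH) (Lpr_ct (f96670 IH) (Lpr_ft (f96683 IH) (Lpn (LP (LK LD1_c12 LD2_c36 LD3_c59))))))
theorem f96696 : Led Lsl_ct (LP (LK LD1_c7 LD2_c35 LD3_c32)) = (LP (LK LD1_c12 LD2_c36 LD3_c59)) :=
  Lgr Lrot59 (Lpr_cf (f96684 IH) (Lpn (LP (LK LD1_c12 LD2_c36 LD3_c59))))
theorem f117437 : Led Lsl_ef (LP (LK LD1_c6 LD2_c36 LD3_c59)) = (LP (LK LD1_c12 LD2_c36 LD3_c59)) :=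
  Lgr Lrot28 (Lpr_ct (K3.f66234 IH) (Lpr_et (f117431 IH) (Lpr_ct (f96696 IH) (Lpn (LP (LK LD1_c12 LD2_c36 LD3_c59))))))
theorem f117442 : Led Lsl_et (LP (LK LD1_c6 LD2_c36 LD3_c59)) = (LP (LK LD1_c12 LD2_c36 LD3_c59)) :=
  Lgr Lrot87 (Lpr_ef (f117437 IH) (Lpn (LP (LK LD1_c12 LD2_c36 LD3_c59))))
theorem f66242 : Led Lsl_bt (LP (LK LD1_c12 LD2_c39 LD3_c23)) = (LP (LK LD1_c6 LD2_c36 LD3_c59)) :=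
  Lre_b IH (LK LD1_c12 LD2_c39 LD3_c23) (LK LD1_c6 LD2_c36 LD3_c59) Lrfl Lrfl
theorem f112226 : Led Lsl_bt (LP (LK LD1_c7 LD2_c35 LD3_c27)) = (LP (LK LD1_c3 LD2_c47 LD3_c20)) :=
  Lre_b IH (LK LD1_c7 LD2_c35 LD3_c27) (LK LD1_c3 LD2_c47 LD3_c20) Lrfl Lrfl
theorem f93504 : Led Lsl_et (LP (LK LD1_c3 LD2_c47 LD3_c20)) = (LP (LK LD1_c7 LD2_c35 LD3_c31)) :=
  Lre_e IH (LK LD1_c3 LD2_c47 LD3_c20) (LK LD1_c7 LD2_c35 LD3_c31) Lrfl Lrfl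
theorem f112227 : Led Lsl_bf (LP (LK LD1_c11 LD2_c29 LD3_c49)) = (LP (LK LD1_c7 LD2_c35 LD3_c31)) :=
  Lgr Lrot96 (Lpr_et (f112219 IH) (Lpr_bt (f112226 IH) (Lpr_et (f93504 IH) (Lpn (LP (LK LD1_c7 LD2_c35 LD3_c31))))))
theorem f96707 : Led Lsl_ft (LP (LK LD1_c14 LD2_c18 LD3_c52)) = (LP (LK LD1_c7 LD2_c35 LD3_c31)) :=
  Lre_f IH (LK LD1_c14 LD2_c18 LD3_c52) (LK LD1_c7 LD2_c35 LD3_c31) Lrfl Lrfl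
theorem f112239 : Led Lsl_bt (LP (LK LD1_c20 LD2_c26 LD3_c59)) = (LP (LK LD1_c14 LD2_c18 LD3_c52)) :=
  Lgr Lrot35 (Lpe (f112221 IH) (Lpr_bf (f112227 IH) (Lpe (f96707 IH) (Lpn (LP (LK LD1_c14 LD2_c18 LD3_c52))))))
theorem f112243 : Led Lsl_dt (LP (LK LD1_c11 LD2_c29 LD3_c50)) = (LP (LK LD1_c20 LD2_c26 LD3_c59)) :=
  Lre_d IH (LK LD1_c11 LD2_c29 LD3_c50) (LK LD1_c20 LD2_c26 LD3_c59) Lrfl Lrfl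
theorem f112244 : Led Lsl_bf (LP (LK LD1_c11 LD2_c29 LD3_c50)) = (LP (LK LD1_c7 LD2_c35 LD3_c32)) :=
  Lgr Lrot93 (Lpr_dt (f112243 IH) (Lpr_bt (f112239 IH) (Lpr_dt (f96702 IH) (Lpn (LP (LK LD1_c7 LD2_c35 LD3_c32))))))
theorem f24107 : Led Lsl_ct (LP (LK LD1_c11 LD2_c29 LD3_c50)) = (LP (LK LD1_c5 LD2_c51 LD3_c13)) :=
  Lre_c IH (LK LD1_c11 LD2_c29 LD3_c50) (LK LD1_c5 LD2_c51 LD3_c13) Lrfl Lrfl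
theorem f24106 : Led Lsl_bt (LP (LK LD1_c5 LD2_c51 LD3_c13)) = (LP (LK LD1_c11 LD2_c29 LD3_c45)) :=
  Lre_b IH (LK LD1_c5 LD2_c51 LD3_c13) (LK LD1_c11 LD2_c29 LD3_c45) Lrfl Lrfl
theorem f24056 : Led Lsl_bt (LP (LK LD1_c2 LD2_c51 LD3_c50)) = (LP (LK LD1_c1 LD2_c21 LD3_c59)) :=
  Lre_b IH (LK LD1_c2 LD2_c51 LD3_c50) (LK LD1_c1 LD2_c21 LD3_c59) Lrfl Lrfl
theorem f23912 : Led Lsl_bt (LP (LK LD1_c0 LD2_c38 LD3_c31)) = (LP (LK LD1_c0 LD2_c17 LD3_c9)) :=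
  Lre_b IH (LK LD1_c0 LD2_c38 LD3_c31) (LK LD1_c0 LD2_c17 LD3_c9) Lrfl Lrfl
theorem f23913 : Led Lsl_ct (LP (LK LD1_c0 LD2_c38 LD3_c31)) = (LP (LK LD1_c1 LD2_c23 LD3_c16)) :=
  Lre_c IH (LK LD1_c0 LD2_c38 LD3_c31) (LK LD1_c1 LD2_c23 LD3_c16) Lrfl Lrfl
theorem f23923 : Led Lsl_gt (LP (LK LD1_c2 LD2_c54 LD3_c40)) = (LP (LK LD1_c1 LD2_c23 LD3_c16)) :=
  Lre_g IH (LK LD1_c2 LD2_c54 LD3_c40) (LK LD1_c1 LD2_c23 LD3_c16) Lrfl Lrfl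
theorem f24057 : Led Lsl_ct (LP (LK LD1_c2 LD2_c51 LD3_c50)) = (LP (LK LD1_c2 LD2_c54 LD3_c40)) :=
  Lgr Lrot64 (Lpr_bt (f24056 IH) (Lpe (f22310 IH) (Lpe (f24016 IH) (Lpr_ct (K0.f24020 IH) (Lpe (K0.f22831 IH) (Lpe (K0.f22826 IH) (Lpe (K0.f23906 IH) (Lpe (f23912 IH) (Lpr_ct (f23913 IH) (Lpe (f23923 IH) (Lpn (LP (LK LD1_c2 LD2_c54 LD3_c40)))))))))))))
theorem f24066 : Led Lsl_et (LP (LK LD1_c5 LD2_c51 LD3_c8)) = (LP (LK LD1_c2 LD2_c51 LD3_c50)) :=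
  Lre_e IH (LK LD1_c5 LD2_c51 LD3_c8) (LK LD1_c2 LD2_c51 LD3_c50) Lrfl Lrfl
theorem f24067 : Led Lsl_et (LP (LK LD1_c2 LD2_c54 LD3_c40)) = (LP (LK LD1_c5 LD2_c56 LD3_c43)) :=
  Lre_e IH (LK LD1_c2 LD2_c54 LD3_c40) (LK LD1_c5 LD2_c56 LD3_c43) Lrfl Lrfl
theorem f24068 : Led Lsl_cf (LP (LK LD1_c5 LD2_c51 LD3_c8)) = (LP (LK LD1_c5 LD2_c56 LD3_c43)) :=
  Lgr Lrot39 (Lpr_et (f24066 IH) (Lpr_ct (f24057 IH) (Lpr_et (f24067 IH) (Lpn (LP (LK LD1_c5 LD2_c56 LD3_c43))))))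
theorem f24091 : Led Lsl_ft (LP (LK LD1_c5 LD2_c51 LD3_c8)) = (LP (LK LD1_c11 LD2_c29 LD3_c45)) :=
  Lre_f IH (LK LD1_c5 LD2_c51 LD3_c8) (LK LD1_c11 LD2_c29 LD3_c45) Lrfl Lrfl
theorem f24092 : Led Lsl_ft (LP (LK LD1_c11 LD2_c38 LD3_c45)) = (LP (LK LD1_c5 LD2_c56 LD3_c43)) :=
  Lre_f IH (LK LD1_c11 LD2_c38 LD3_c45) (LK LD1_c5 LD2_c56 LD3_c43) Lrfl Lrfl
theorem f24093 : Led Lsl_ct (LP (LK LD1_c11 LD2_c29 LD3_c45)) = (LP (LK LD1_c11 LD2_c38 LD3_c45)) :=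
  Lgr Lrot40 (Lpe (f24091 IH) (Lpr_cf (f24068 IH) (Lpe (f24092 IH) (Lpn (LP (LK LD1_c11 LD2_c38 LD3_c45))))))
theorem f112248 : Led Lsl_bt (LP (LK LD1_c11 LD2_c38 LD3_c45)) = (LP (LK LD1_c12 LD2_c36 LD3_c59)) :=
  Lgr Lrot128 (Lpe (f24093 IH) (Lpe (f24106 IH) (Lpe (f24107 IH) (Lpr_bf (f112244 IH) (Lpr_cf (f96684 IH) (Lpn (LP (LK LD1_c12 LD2_c36 LD3_c59))))))))
theorem f112251 : Led Lsl_bf (LP (LK LD1_c11 LD2_c38 LD3_c45)) = (LP (LK LD1_c12 LD2_c36 LD3_c59)) :=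
  Lgr Lrot24 (Lpr_bt (f112248 IH) (Lpn (LP (LK LD1_c12 LD2_c36 LD3_c59))))
theorem f117446 : Led Lsl_ef (LP (LK LD1_c12 LD2_c39 LD3_c23)) = (LP (LK LD1_c11 LD2_c38 LD3_c45)) :=
  Lgr Lrot29 (Lpr_bt (f66242 IH) (Lpr_et (f117442 IH) (Lpe (f112251 IH) (Lpn (LP (LK LD1_c11 LD2_c38 LD3_c45))))))
theorem f66307 : Led Lsl_ft (LP (LK LD1_c12 LD2_c39 LD3_c23)) = (LP (LK LD1_c6 LD2_c36 LD3_c47)) :=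
  Lre_f IH (LK LD1_c12 LD2_c39 LD3_c23) (LK LD1_c6 LD2_c36 LD3_c47) Lrfl Lrfl
theorem f66265 : Led Lsl_et (LP (LK LD1_c6 LD2_c36 LD3_c47)) = (LP (LK LD1_c3 LD2_c16 LD3_c44)) :=
  Lre_e IH (LK LD1_c6 LD2_c36 LD3_c47) (LK LD1_c3 LD2_c16 LD3_c44) Lrfl Lrfl
theorem f24117 : Led Lsl_ft (LP (LK LD1_c5 LD2_c56 LD3_c43)) = (LP (LK LD1_c11 LD2_c38 LD3_c45)) :=
  Lre_f IH (LK LD1_c5 LD2_c56 LD3_c43) (LK LD1_c11 LD2_c38 LD3_c45) Lrfl Lrfl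
theorem f117451 : Led Lsl_ft (LP (LK LD1_c3 LD2_c16 LD3_c44)) = (LP (LK LD1_c2 LD2_c54 LD3_c40)) :=
  Lgr Lrot86 (Lpe (f66265 IH) (Lpe (f66307 IH) (Lpr_ef (f117446 IH) (Lpe (f24117 IH) (Lpe (f24067 IH) (Lpn (LP (LK LD1_c2 LD2_c54 LD3_c40))))))))
theorem f89432 : Led Lsl_ft (LP (LK LD1_c3 LD2_c7 LD3_c7)) = (LP (LK LD1_c6 LD2_c19 LD3_c22)) :=
  Lre_f IH (LK LD1_c3 LD2_c7 LD3_c7) (LK LD1_c6 LD2_c19 LD3_c22) Lrfl Lrfl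
theorem f89433 : Led Lsl_bf (LP (LK LD1_c3 LD2_c7 LD3_c7)) = (LP (LK LD1_c3 LD2_c17 LD3_c38)) :=
  Lgr Lrot61 (Lpr_ft (f89432 IH) (Lpr_bt (f89425 IH) (Lpr_ft (f64846 IH) (Lpn (LP (LK LD1_c3 LD2_c17 LD3_c38))))))
theorem f89441 : Led Lsl_bt (LP (LK LD1_c1 LD2_c29 LD3_c45)) = (LP (LK LD1_c1 LD2_c35 LD3_c22)) :=
  Lgr Lrot119 (Lpe (f89440 IH) (Lpr_bf (f89433 IH) (Lpe (f64614 IH) (Lpn (LP (LK LD1_c1 LD2_c35 LD3_c22))))))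
theorem f64919 : Led Lsl_bt (LP (LK LD1_c1 LD2_c35 LD3_c2)) = (LP (LK LD1_c3 LD2_c16 LD3_c44)) :=
  Lre_b IH (LK LD1_c1 LD2_c35 LD3_c2) (LK LD1_c3 LD2_c16 LD3_c44) Lrfl Lrfl
theorem f23447 : Led Lsl_ct (LP (LK LD1_c1 LD2_c7 LD3_c8)) = (LP (LK LD1_c0 LD2_c30 LD3_c46)) :=
  Lre_c IH (LK LD1_c1 LD2_c7 LD3_c8) (LK LD1_c0 LD2_c30 LD3_c46) Lrfl Lrfl
theorem f23438 : Led Lsl_ct (LP (LK LD1_c0 LD2_c30 LD3_c46)) = (LP (LK LD1_c1 LD2_c7 LD3_c8)) :=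
  Lre_c IH (LK LD1_c0 LD2_c30 LD3_c46) (LK LD1_c1 LD2_c7 LD3_c8) Lrfl Lrfl
theorem f27167 : Led Lsl_bf (LP (LK LD1_c2 LD2_c14 LD3_c55)) = (LP (LK LD1_c1 LD2_c7 LD3_c8)) :=
  Lgr Lrot90 (Lpr_ct (K2.f27166 IH) (Lpr_bt (f25187 IH) (Lpr_ct (K0.f27155 IH) (Lpr_bt (f27160 IH) (Lpr_ct (f23438 IH) (Lpn (LP (LK LD1_c1 LD2_c7 LD3_c8))))))))
theorem f116776 : Led Lsl_gt (LP (LK LD1_c3 LD2_c16 LD3_c44)) = (LP (LK LD1_c2 LD2_c14 LD3_c55)) :=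
  Lgr Lrot164 (Lpe (f64919 IH) (Lpe (K3.f64475 IH) (Lpr_gf (K3.f64907 IH) (Lpe (K3.f63117 IH) (Lpr_gf (K3.f62006 IH) (Lpe (f89441 IH) (Lpr_ct (f89391 IH) (Lpr_gf (f116726 IH) (Lpe (f23447 IH) (Lpe (f27167 IH) (Lpn (LP (LK LD1_c2 LD2_c14 LD3_c55)))))))))))))
theorem f27162 : Led Lsl_gt (LP (LK LD1_c2 LD2_c14 LD3_c55)) = (LP (LK LD1_c4 LD2_c35 LD3_c26)) :=
  Lre_g IH (LK LD1_c2 LD2_c14 LD3_c55) (LK LD1_c4 LD2_c35 LD3_c26) Lrfl Lrfl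
theorem f117459 : Led Lsl_af (LP (LK LD1_c4 LD2_c35 LD3_c26)) = (LP (LK LD1_c2 LD2_c54 LD3_c40)) :=
  Lgr Lrot31 (Lpe (f27162 IH) (Lpe (f116776 IH) (Lpr_ft (f117451 IH) (Lpn (LP (LK LD1_c2 LD2_c54 LD3_c40))))))
theorem f117461 : Led Lsl_at (LP (LK LD1_c4 LD2_c35 LD3_c26)) = (LP (LK LD1_c2 LD2_c54 LD3_c40)) :=
  Lgr Lrot100 (Lpr_af (f117459 IH) (Lpn (LP (LK LD1_c2 LD2_c54 LD3_c40))))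
theorem f82287 : Led Lsl_af (LP (LK LD1_c0 LD2_c3 LD3_c55)) = (LP (LK LD1_c0 LD2_c6 LD3_c13)) :=
  Lgr Lrot45 (Lpe (K2.f82246 IH) (Lpr_at (K2.f82255 IH) (Lpr_ft (K2.f82285 IH) (Lpn (LP (LK LD1_c0 LD2_c6 LD3_c13))))))
theorem f82786 : Led Lsl_af (LP (LK LD1_c0 LD2_c6 LD3_c13)) = (LP (LK LD1_c0 LD2_c3 LD3_c55)) :=
  Lgr Lrot50 (Lpe (K2.f82532 IH) (Lpe (f82287 IH) (Lpr_et (K3.f82652 IH) (Lpn (LP (LK LD1_c0 LD2_c3 LD3_c55))))))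
theorem f82872 : Led Lsl_at (LP (LK LD1_c0 LD2_c13 LD3_c38)) = (LP (LK LD1_c0 LD2_c8 LD3_c36)) :=
  Lgr Lrot51 (Lpe (K0.f26053 IH) (Lpr_af (f82786 IH) (Lpe (K1.f13556 IH) (Lpn (LP (LK LD1_c0 LD2_c8 LD3_c36))))))
theorem f26354 : Led Lsl_et (LP (LK LD1_c0 LD2_c30 LD3_c42)) = (LP (LK LD1_c0 LD2_c13 LD3_c38)) :=
  Lre_e IH (LK LD1_c0 LD2_c30 LD3_c42) (LK LD1_c0 LD2_c13 LD3_c38) Lrfl Lrfl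
theorem f13557 : Led Lsl_et (LP (LK LD1_c0 LD2_c8 LD3_c36)) = (LP (LK LD1_c0 LD2_c19 LD3_c9)) :=
  Lre_e IH (LK LD1_c0 LD2_c8 LD3_c36) (LK LD1_c0 LD2_c19 LD3_c9) Lrfl Lrfl
theorem f82876 : Led Lsl_af (LP (LK LD1_c0 LD2_c30 LD3_c42)) = (LP (LK LD1_c0 LD2_c19 LD3_c9)) :=
  Lgr Lrot50 (Lpr_et (f26354 IH) (Lpr_at (f82872 IH) (Lpr_et (f13557 IH) (Lpn (LP (LK LD1_c0 LD2_c19 LD3_c9))))))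
theorem f82884 : Led Lsl_at (LP (LK LD1_c0 LD2_c30 LD3_c42)) = (LP (LK LD1_c0 LD2_c19 LD3_c9)) :=
  Lgr Lrot100 (Lpr_af (f82876 IH) (Lpn (LP (LK LD1_c0 LD2_c19 LD3_c9))))
theorem f26353 : Led Lsl_et (LP (LK LD1_c0 LD2_c29 LD3_c37)) = (LP (LK LD1_c1 LD2_c4 LD3_c46)) :=
  Lre_e IH (LK LD1_c0 LD2_c29 LD3_c37) (LK LD1_c1 LD2_c4 LD3_c46) Lrfl Lrfl
theorem f26355 : Led Lsl_ct (LP (LK LD1_c1 LD2_c4 LD3_c46)) = (LP (LK LD1_c0 LD2_c30 LD3_c42)) :=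
  Lgr Lrot15 (Lpe (f26353 IH) (Lpr_cf (K0.f26345 IH) (Lpe (f26354 IH) (Lpn (LP (LK LD1_c0 LD2_c30 LD3_c42))))))
theorem f82888 : Led Lsl_cf (LP (LK LD1_c0 LD2_c38 LD3_c33)) = (LP (LK LD1_c0 LD2_c19 LD3_c9)) :=
  Lgr Lrot1 (Lpe (K2.f71326 IH) (Lpr_ct (f26355 IH) (Lpr_at (f82884 IH) (Lpn (LP (LK LD1_c0 LD2_c19 LD3_c9))))))
theorem f82893 : Led Lsl_ct (LP (LK LD1_c0 LD2_c38 LD3_c33)) = (LP (LK LD1_c0 LD2_c19 LD3_c9)) :=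
  Lgr Lrot59 (Lpr_cf (f82888 IH) (Lpn (LP (LK LD1_c0 LD2_c19 LD3_c9))))
theorem f71332 : Led Lsl_bt (LP (LK LD1_c1 LD2_c23 LD3_c17)) = (LP (LK LD1_c0 LD2_c38 LD3_c33)) :=
  Lre_b IH (LK LD1_c1 LD2_c23 LD3_c17) (LK LD1_c0 LD2_c38 LD3_c33) Lrfl Lrfl
theorem f82916 : Led Lsl_ct (LP (LK LD1_c2 LD2_c54 LD3_c42)) = (LP (LK LD1_c1 LD2_c23 LD3_c17)) :=
  Lre_c IH (LK LD1_c2 LD2_c54 LD3_c42) (LK LD1_c1 LD2_c23 LD3_c17) Lrfl Lrfl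
theorem f82663 : Led Lsl_bt (LP (LK LD1_c0 LD2_c19 LD3_c9)) = (LP (LK LD1_c0 LD2_c42 LD3_c57)) :=
  Lre_b IH (LK LD1_c0 LD2_c19 LD3_c9) (LK LD1_c0 LD2_c42 LD3_c57) Lrfl Lrfl
theorem f82668 : Led Lsl_ct (LP (LK LD1_c0 LD2_c42 LD3_c57)) = (LP (LK LD1_c1 LD2_c32 LD3_c43)) :=
  Lre_c IH (LK LD1_c0 LD2_c42 LD3_c57) (LK LD1_c1 LD2_c32 LD3_c43) Lrfl Lrfl
theorem f82917 : Led Lsl_bf (LP (LK LD1_c2 LD2_c54 LD3_c42)) = (LP (LK LD1_c1 LD2_c32 LD3_c43)) :=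
  Lgr Lrot90 (Lpr_ct (f82916 IH) (Lpr_bt (f71332 IH) (Lpr_ct (f82893 IH) (Lpr_bt (f82663 IH) (Lpr_ct (f82668 IH) (Lpn (LP (LK LD1_c1 LD2_c32 LD3_c43))))))))
theorem f82981 : Led Lsl_et (LP (LK LD1_c2 LD2_c54 LD3_c42)) = (LP (LK LD1_c1 LD2_c23 LD3_c16)) :=
  Lre_e IH (LK LD1_c2 LD2_c54 LD3_c42) (LK LD1_c1 LD2_c23 LD3_c16) Lrfl Lrfl
theorem f82351 : Led Lsl_et (LP (LK LD1_c0 LD2_c42 LD3_c56)) = (LP (LK LD1_c1 LD2_c32 LD3_c43)) :=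
  Lre_e IH (LK LD1_c0 LD2_c42 LD3_c56) (LK LD1_c1 LD2_c32 LD3_c43) Lrfl Lrfl
theorem f82982 : Led Lsl_bt (LP (LK LD1_c1 LD2_c23 LD3_c16)) = (LP (LK LD1_c0 LD2_c42 LD3_c56)) :=
  Lgr Lrot119 (Lpe (f82981 IH) (Lpr_bf (f82917 IH) (Lpe (f82351 IH) (Lpn (LP (LK LD1_c0 LD2_c42 LD3_c56))))))
theorem f26170 : Led Lsl_dt (LP (LK LD1_c0 LD2_c42 LD3_c53)) = (LP (LK LD1_c0 LD2_c19 LD3_c5)) :=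
  Lre_d IH (LK LD1_c0 LD2_c42 LD3_c53) (LK LD1_c0 LD2_c19 LD3_c5) Lrfl Lrfl
theorem f82323 : Led Lsl_ft (LP (LK LD1_c1 LD2_c7 LD3_c6)) = (LP (LK LD1_c0 LD2_c42 LD3_c53)) :=
  Lgr Lrot54 (Lpe (K2.f23579 IH) (Lpr_ff (K2.f82319 IH) (Lpe (f26170 IH) (Lpn (LP (LK LD1_c0 LD2_c42 LD3_c53))))))
theorem f26174 : Led Lsl_ct (LP (LK LD1_c0 LD2_c42 LD3_c53)) = (LP (LK LD1_c1 LD2_c32 LD3_c32)) :=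
  Lre_c IH (LK LD1_c0 LD2_c42 LD3_c53) (LK LD1_c1 LD2_c32 LD3_c32) Lrfl Lrfl
theorem f82329 : Led Lsl_ff (LP (LK LD1_c2 LD2_c19 LD3_c48)) = (LP (LK LD1_c1 LD2_c32 LD3_c32)) :=
  Lgr Lrot23 (Lpr_ct (K2.f23576 IH) (Lpr_ft (f82323 IH) (Lpr_ct (f26174 IH) (Lpn (LP (LK LD1_c1 LD2_c32 LD3_c32))))))
theorem f23442 : Led Lsl_at (LP (LK LD1_c2 LD2_c19 LD3_c48)) = (LP (LK LD1_c1 LD2_c7 LD3_c8)) :=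
  Lre_a IH (LK LD1_c2 LD2_c19 LD3_c48) (LK LD1_c1 LD2_c7 LD3_c8) Lrfl Lrfl
theorem f26175 : Led Lsl_at (LP (LK LD1_c0 LD2_c42 LD3_c56)) = (LP (LK LD1_c1 LD2_c32 LD3_c32)) :=
  Lre_a IH (LK LD1_c0 LD2_c42 LD3_c56) (LK LD1_c1 LD2_c32 LD3_c32) Lrfl Lrfl
theorem f82342 : Led Lsl_ft (LP (LK LD1_c1 LD2_c7 LD3_c8)) = (LP (LK LD1_c0 LD2_c42 LD3_c56)) :=
  Lgr Lrot101 (Lpe (f23442 IH) (Lpr_ff (f82329 IH) (Lpe (f26175 IH) (Lpn (LP (LK LD1_c0 LD2_c42 LD3_c56))))))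
theorem f82352 : Led Lsl_ff (LP (LK LD1_c1 LD2_c7 LD3_c8)) = (LP (LK LD1_c0 LD2_c42 LD3_c56)) :=
  Lgr Lrot3 (Lpr_ft (f82342 IH) (Lpn (LP (LK LD1_c0 LD2_c42 LD3_c56))))
theorem f83002 : Led Lsl_ff (LP (LK LD1_c1 LD2_c23 LD3_c16)) = (LP (LK LD1_c2 LD2_c14 LD3_c55)) :=
  Lgr Lrot25 (Lpr_bt (f82982 IH) (Lpe (f82352 IH) (Lpe (f27167 IH) (Lpn (LP (LK LD1_c2 LD2_c14 LD3_c55))))))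
theorem f83013 : Led Lsl_ft (LP (LK LD1_c1 LD2_c23 LD3_c16)) = (LP (LK LD1_c2 LD2_c14 LD3_c55)) :=
  Lgr Lrot48 (Lpr_ff (f83002 IH) (Lpn (LP (LK LD1_c2 LD2_c14 LD3_c55))))
theorem f82993 : Led Lsl_at (LP (LK LD1_c2 LD2_c54 LD3_c17)) = (LP (LK LD1_c1 LD2_c23 LD3_c16)) :=
  Lre_a IH (LK LD1_c2 LD2_c54 LD3_c17) (LK LD1_c1 LD2_c23 LD3_c16) Lrfl Lrfl
theorem f35253 : Led Lsl_at (LP (LK LD1_c2 LD2_c14 LD3_c55)) = (LP (LK LD1_c4 LD2_c35 LD3_c21)) :=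
  Lre_a IH (LK LD1_c2 LD2_c14 LD3_c55) (LK LD1_c4 LD2_c35 LD3_c21) Lrfl Lrfl
theorem f83021 : Led Lsl_ff (LP (LK LD1_c2 LD2_c54 LD3_c17)) = (LP (LK LD1_c4 LD2_c35 LD3_c21)) :=
  Lgr Lrot30 (Lpr_at (f82993 IH) (Lpr_ft (f83013 IH) (Lpr_at (f35253 IH) (Lpn (LP (LK LD1_c4 LD2_c35 LD3_c21))))))
theorem f83064 : Led Lsl_gf (LP (LK LD1_c2 LD2_c54 LD3_c40)) = (LP (LK LD1_c4 LD2_c35 LD3_c21)) :=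
  Lgr Lrot47 (Lpr_gt (f23923 IH) (Lpe (f82993 IH) (Lpr_ff (f83021 IH) (Lpn (LP (LK LD1_c4 LD2_c35 LD3_c21))))))
theorem f23914 : Led Lsl_gt (LP (LK LD1_c1 LD2_c23 LD3_c16)) = (LP (LK LD1_c2 LD2_c54 LD3_c39)) :=
  Lre_g IH (LK LD1_c1 LD2_c23 LD3_c16) (LK LD1_c2 LD2_c54 LD3_c39) Lrfl Lrfl
theorem f83029 : Led Lsl_gt (LP (LK LD1_c2 LD2_c54 LD3_c39)) = (LP (LK LD1_c4 LD2_c35 LD3_c21)) :=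
  Lgr Lrot46 (Lpe (f23914 IH) (Lpr_ft (f83013 IH) (Lpr_at (f35253 IH) (Lpn (LP (LK LD1_c4 LD2_c35 LD3_c21))))))
theorem f119889 : Led Lsl_ff (LP (LK LD1_c4 LD2_c35 LD3_c26)) = (LP (LK LD1_c2 LD2_c54 LD3_c39)) :=
  Lgr Lrot52 (Lpr_at (f117461 IH) (Lpr_gf (f83064 IH) (Lpe (f83029 IH) (Lpn (LP (LK LD1_c2 LD2_c54 LD3_c39))))))
theorem f11406 : Led Lsl_dt (LP (LK LD1_c1 LD2_c41 LD3_c49)) = (LP (LK LD1_c0 LD2_c47 LD3_c27)) :=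
  Lre_d IH (LK LD1_c1 LD2_c41 LD3_c49) (LK LD1_c0 LD2_c47 LD3_c27) Lrfl Lrfl
theorem f20207 : Led Lsl_bt (LP (LK LD1_c0 LD2_c12 LD3_c56)) = (LP (LK LD1_c0 LD2_c29 LD3_c18)) :=
  Lre_b IH (LK LD1_c0 LD2_c12 LD3_c56) (LK LD1_c0 LD2_c29 LD3_c18) Lrfl Lrfl
theorem f20208 : Led Lsl_gt (LP (LK LD1_c0 LD2_c29 LD3_c18)) = (LP (LK LD1_c1 LD2_c4 LD3_c7)) :=
  Lre_g IH (LK LD1_c0 LD2_c29 LD3_c18) (LK LD1_c1 LD2_c4 LD3_c7) Lrfl Lrfl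
theorem f112111 : Led Lsl_df (LP (LK LD1_c1 LD2_c21 LD3_c59)) = (LP (LK LD1_c1 LD2_c4 LD3_c7)) :=
  Lgr Lrot183 (Lpr_ct (f24055 IH) (Lpr_bt (f112096 IH) (Lpe (K3.f93476 IH) (Lpr_dt (f11406 IH) (Lpr_ct (K2.f11405 IH) (Lpr_bt (K2.f11306 IH) (Lpr_gt (K0.f11403 IH) (Lpr_dt (K0.f4455 IH) (Lpr_ct (K0.f12189 IH) (Lpr_bt (K0.f3817 IH) (Lpr_gt (K0.f20866 IH) (Lpr_dt (K0.f7321 IH) (Lpr_ct (K0.f12616 IH) (Lpr_bt (K0.f20258 IH) (Lpr_gt (K0.f6733 IH) (Lpr_dt (K0.f20216 IH) (Lpr_ct (K0.f20195 IH) (Lpr_bt (f20207 IH) (Lpr_gt (f20208 IH) (Lpn (LP (LK LD1_c1 LD2_c4 LD3_c7))))))))))))))))))))))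
theorem f112929 : Led Lsl_dt (LP (LK LD1_c1 LD2_c21 LD3_c59)) = (LP (LK LD1_c1 LD2_c4 LD3_c7)) :=
  Lgr Lrot42 (Lpr_df (f112111 IH) (Lpn (LP (LK LD1_c1 LD2_c4 LD3_c7))))
theorem f36536 : Led Lsl_bt (LP (LK LD1_c1 LD2_c4 LD3_c7)) = (LP (LK LD1_c2 LD2_c14 LD3_c7)) :=
  Lre_b IH (LK LD1_c1 LD2_c4 LD3_c7) (LK LD1_c2 LD2_c14 LD3_c7) Lrfl Lrfl
theorem f112934 : Led Lsl_df (LP (LK LD1_c2 LD2_c51 LD3_c50)) = (LP (LK LD1_c2 LD2_c14 LD3_c7)) :=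
  Lgr Lrot12 (Lpr_bt (f24056 IH) (Lpr_dt (f112929 IH) (Lpr_bt (f36536 IH) (Lpn (LP (LK LD1_c2 LD2_c14 LD3_c7))))))
theorem f26861 : Led Lsl_bt (LP (LK LD1_c0 LD2_c13 LD3_c21)) = (LP (LK LD1_c0 LD2_c30 LD3_c4)) :=
  Lre_b IH (LK LD1_c0 LD2_c13 LD3_c21) (LK LD1_c0 LD2_c30 LD3_c4) Lrfl Lrfl
theorem f36491 : Led Lsl_bt (LP (LK LD1_c1 LD2_c1 LD3_c50)) = (LP (LK LD1_c0 LD2_c28 LD3_c13)) :=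
  Lre_b IH (LK LD1_c1 LD2_c1 LD3_c50) (LK LD1_c0 LD2_c28 LD3_c13) Lrfl Lrfl
theorem f36492 : Led Lsl_ct (LP (LK LD1_c0 LD2_c30 LD3_c4)) = (LP (LK LD1_c1 LD2_c1 LD3_c50)) :=
  Lgr Lrot83 (Lpe (f26861 IH) (Lpe (K0.f25997 IH) (Lpr_bf (K1.f36487 IH) (Lpe (K1.f35822 IH) (Lpe (f36491 IH) (Lpn (LP (LK LD1_c1 LD2_c1 LD3_c50))))))))
theorem f26764 : Led Lsl_bt (LP (LK LD1_c0 LD2_c30 LD3_c4)) = (LP (LK LD1_c0 LD2_c13 LD3_c21)) :=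
  Lre_b IH (LK LD1_c0 LD2_c30 LD3_c4) (LK LD1_c0 LD2_c13 LD3_c21) Lrfl Lrfl
theorem f20210 : Led Lsl_bt (LP (LK LD1_c2 LD2_c14 LD3_c7)) = (LP (LK LD1_c1 LD2_c4 LD3_c7)) :=
  Lre_b IH (LK LD1_c2 LD2_c14 LD3_c7) (LK LD1_c1 LD2_c4 LD3_c7) Lrfl Lrfl
theorem f36532 : Led Lsl_gt (LP (LK LD1_c2 LD2_c9 LD3_c23)) = (LP (LK LD1_c1 LD2_c1 LD3_c50)) :=
  Lre_g IH (LK LD1_c2 LD2_c9 LD3_c23) (LK LD1_c1 LD2_c1 LD3_c50) Lrfl Lrfl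
theorem f36533 : Led Lsl_ct (LP (LK LD1_c2 LD2_c14 LD3_c7)) = (LP (LK LD1_c2 LD2_c9 LD3_c23)) :=
  Lgr Lrot64 (Lpr_bt (f20210 IH) (Lpe (f20208 IH) (Lpe (f20207 IH) (Lpr_ct (K1.f20206 IH) (Lpr_gf (K0.f20182 IH) (Lpe (K0.f20191 IH) (Lpr_gf (K0.f26754 IH) (Lpe (f26764 IH) (Lpr_ct (f36492 IH) (Lpe (f36532 IH) (Lpn (LP (LK LD1_c2 LD2_c9 LD3_c23)))))))))))))
theorem f36539 : Led Lsl_cf (LP (LK LD1_c2 LD2_c14 LD3_c7)) = (LP (LK LD1_c2 LD2_c9 LD3_c23)) :=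
  Lgr Lrot11 (Lpr_ct (f36533 IH) (Lpn (LP (LK LD1_c2 LD2_c9 LD3_c23))))
theorem f117467 : Led Lsl_et (LP (LK LD1_c4 LD2_c35 LD3_c26)) = (LP (LK LD1_c9 LD2_c7 LD3_c24)) :=
  Lre_e IH (LK LD1_c4 LD2_c35 LD3_c26) (LK LD1_c9 LD2_c7 LD3_c24) Lrfl Lrfl
theorem f24125 : Led Lsl_et (LP (LK LD1_c5 LD2_c56 LD3_c43)) = (LP (LK LD1_c2 LD2_c54 LD3_c40)) :=
  Lre_e IH (LK LD1_c5 LD2_c56 LD3_c43) (LK LD1_c2 LD2_c54 LD3_c40) Lrfl Lrfl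
theorem f117468 : Led Lsl_at (LP (LK LD1_c9 LD2_c7 LD3_c24)) = (LP (LK LD1_c5 LD2_c56 LD3_c43)) :=
  Lgr Lrot80 (Lpe (f117467 IH) (Lpr_af (f117459 IH) (Lpe (f24125 IH) (Lpn (LP (LK LD1_c5 LD2_c56 LD3_c43))))))
theorem f117480 : Led Lsl_ft (LP (LK LD1_c16 LD2_c59 LD3_c37)) = (LP (LK LD1_c9 LD2_c7 LD3_c24)) :=
  Lre_f IH (LK LD1_c16 LD2_c59 LD3_c37) (LK LD1_c9 LD2_c7 LD3_c24) Lrfl Lrfl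
theorem f117481 : Led Lsl_af (LP (LK LD1_c16 LD2_c59 LD3_c37)) = (LP (LK LD1_c11 LD2_c38 LD3_c45)) :=
  Lgr Lrot45 (Lpr_ft (f117480 IH) (Lpr_at (f117468 IH) (Lpr_ft (f24117 IH) (Lpn (LP (LK LD1_c11 LD2_c38 LD3_c45))))))
theorem f24105 : Led Lsl_at (LP (LK LD1_c20 LD2_c26 LD3_c47)) = (LP (LK LD1_c11 LD2_c29 LD3_c45)) :=
  Lre_a IH (LK LD1_c20 LD2_c26 LD3_c47) (LK LD1_c11 LD2_c29 LD3_c45) Lrfl Lrfl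
theorem f117488 : Led Lsl_ct (LP (LK LD1_c16 LD2_c59 LD3_c37)) = (LP (LK LD1_c20 LD2_c26 LD3_c47)) :=
  Lgr Lrot111 (Lpr_af (f117481 IH) (Lpe (f24093 IH) (Lpe (f24105 IH) (Lpn (LP (LK LD1_c20 LD2_c26 LD3_c47))))))
theorem f117490 : Led Lsl_cf (LP (LK LD1_c16 LD2_c59 LD3_c37)) = (LP (LK LD1_c20 LD2_c26 LD3_c47)) :=
  Lgr Lrot11 (Lpr_ct (f117488 IH) (Lpn (LP (LK LD1_c20 LD2_c26 LD3_c47))))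
theorem f24118 : Led Lsl_ft (LP (LK LD1_c11 LD2_c29 LD3_c42)) = (LP (LK LD1_c20 LD2_c26 LD3_c47)) :=
  Lre_f IH (LK LD1_c11 LD2_c29 LD3_c42) (LK LD1_c20 LD2_c26 LD3_c47) Lrfl Lrfl
theorem f117497 : Led Lsl_ct (LP (LK LD1_c9 LD2_c7 LD3_c24)) = (LP (LK LD1_c11 LD2_c29 LD3_c42)) :=
  Lgr Lrot40 (Lpe (f117480 IH) (Lpr_cf (f117490 IH) (Lpe (f24118 IH) (Lpn (LP (LK LD1_c11 LD2_c29 LD3_c42))))))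
theorem f117500 : Led Lsl_et (LP (LK LD1_c11 LD2_c29 LD3_c42)) = (LP (LK LD1_c5 LD2_c51 LD3_c7)) :=
  Lre_e IH (LK LD1_c11 LD2_c29 LD3_c42) (LK LD1_c5 LD2_c51 LD3_c7) Lrfl Lrfl
theorem f117501 : Led Lsl_cf (LP (LK LD1_c4 LD2_c35 LD3_c26)) = (LP (LK LD1_c5 LD2_c51 LD3_c7)) :=
  Lgr Lrot39 (Lpr_et (f117467 IH) (Lpr_ct (f117497 IH) (Lpr_et (f117500 IH) (Lpn (LP (LK LD1_c5 LD2_c51 LD3_c7))))))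
theorem f64540 : Led Lsl_dt (LP (LK LD1_c3 LD2_c16 LD3_c44)) = (LP (LK LD1_c1 LD2_c35 LD3_c1)) :=
  Lre_d IH (LK LD1_c3 LD2_c16 LD3_c44) (LK LD1_c1 LD2_c35 LD3_c1) Lrfl Lrfl
theorem f64541 : Led Lsl_ct (LP (LK LD1_c1 LD2_c35 LD3_c1)) = (LP (LK LD1_c3 LD2_c16 LD3_c31)) :=
  Lre_c IH (LK LD1_c1 LD2_c35 LD3_c1) (LK LD1_c3 LD2_c16 LD3_c31) Lrfl Lrfl
theorem f36320 : Led Lsl_bt (LP (LK LD1_c0 LD2_c18 LD3_c47)) = (LP (LK LD1_c0 LD2_c42 LD3_c1)) :=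
  Lre_b IH (LK LD1_c0 LD2_c18 LD3_c47) (LK LD1_c0 LD2_c42 LD3_c1) Lrfl Lrfl
theorem f36321 : Led Lsl_gt (LP (LK LD1_c0 LD2_c42 LD3_c1)) = (LP (LK LD1_c1 LD2_c31 LD3_c4)) :=
  Lre_g IH (LK LD1_c0 LD2_c42 LD3_c1) (LK LD1_c1 LD2_c31 LD3_c4) Lrfl Lrfl
theorem f36322 : Led Lsl_dt (LP (LK LD1_c1 LD2_c31 LD3_c4)) = (LP (LK LD1_c3 LD2_c9 LD3_c52)) :=
  Lre_d IH (LK LD1_c1 LD2_c31 LD3_c4) (LK LD1_c3 LD2_c9 LD3_c52) Lrfl Lrfl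
theorem f36323 : Led Lsl_ct (LP (LK LD1_c3 LD2_c9 LD3_c52)) = (LP (LK LD1_c6 LD2_c24 LD3_c27)) :=
  Lre_c IH (LK LD1_c3 LD2_c9 LD3_c52) (LK LD1_c6 LD2_c24 LD3_c27) Lrfl Lrfl
theorem f79052 : Led Lsl_bt (LP (LK LD1_c6 LD2_c24 LD3_c27)) = (LP (LK LD1_c3 LD2_c16 LD3_c32)) :=
  Lgr Lrot178 (Lpe (f36323 IH) (Lpe (f36322 IH) (Lpe (f36321 IH) (Lpe (f36320 IH) (Lpe (K1.f36308 IH) (Lpe (K1.f36294 IH) (Lpr_gf (K1.f36314 IH) (Lpe (K1.f16648 IH) (Lpe (K0.f7136 IH) (Lpe (K0.f7459 IH) (Lpe (K0.f7480 IH) (Lpe (K2.f26057 IH) (Lpe (K0.f26045 IH) (Lpe (K2.f26051 IH) (Lpe (K1.f61666 IH) (Lpe (K3.f61766 IH) (Lpe (K2.f25104 IH) (Lpe (K2.f25105 IH) (Lpr_gf (K2.f79044 IH) (Lpn (LP (LK LD1_c3 LD2_c16 LD3_c32))))))))))))))))))))))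
theorem f78732 : Led Lsl_bt (LP (LK LD1_c1 LD2_c34 LD3_c59)) = (LP (LK LD1_c3 LD2_c16 LD3_c31)) :=
  Lre_b IH (LK LD1_c1 LD2_c34 LD3_c59) (LK LD1_c3 LD2_c16 LD3_c31) Lrfl Lrfl
theorem f79061 : Led Lsl_df (LP (LK LD1_c6 LD2_c24 LD3_c27)) = (LP (LK LD1_c3 LD2_c16 LD3_c31)) :=
  Lgr Lrot12 (Lpr_bt (f79052 IH) (Lpr_dt (K3.f14703 IH) (Lpr_bt (f78732 IH) (Lpn (LP (LK LD1_c3 LD2_c16 LD3_c31))))))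
theorem f79054 : Led Lsl_ct (LP (LK LD1_c6 LD2_c24 LD3_c27)) = (LP (LK LD1_c3 LD2_c9 LD3_c52)) :=
  Lre_c IH (LK LD1_c6 LD2_c24 LD3_c27) (LK LD1_c3 LD2_c9 LD3_c52) Lrfl Lrfl
theorem f79076 : Led Lsl_dt (LP (LK LD1_c3 LD2_c9 LD3_c52)) = (LP (LK LD1_c1 LD2_c31 LD3_c4)) :=
  Lre_d IH (LK LD1_c3 LD2_c9 LD3_c52) (LK LD1_c1 LD2_c31 LD3_c4) Lrfl Lrfl
theorem f79077 : Led Lsl_ct (LP (LK LD1_c1 LD2_c31 LD3_c4)) = (LP (LK LD1_c3 LD2_c9 LD3_c51)) :=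
  Lre_c IH (LK LD1_c1 LD2_c31 LD3_c4) (LK LD1_c3 LD2_c9 LD3_c51) Lrfl Lrfl
theorem f117504 : Led Lsl_dt (LP (LK LD1_c3 LD2_c9 LD3_c51)) = (LP (LK LD1_c5 LD2_c51 LD3_c7)) :=
  Lgr Lrot120 (Lpe (f79077 IH) (Lpe (f79076 IH) (Lpe (f79054 IH) (Lpr_df (f79061 IH) (Lpe (f64541 IH) (Lpe (f64540 IH) (Lpr_ft (f117451 IH) (Lpe (f117459 IH) (Lpr_cf (f117501 IH) (Lpn (LP (LK LD1_c5 LD2_c51 LD3_c7))))))))))))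
theorem f117508 : Led Lsl_df (LP (LK LD1_c3 LD2_c9 LD3_c51)) = (LP (LK LD1_c5 LD2_c51 LD3_c7)) :=
  Lgr Lrot38 (Lpr_dt (f117504 IH) (Lpn (LP (LK LD1_c5 LD2_c51 LD3_c7))))
theorem f79087 : Led Lsl_ct (LP (LK LD1_c3 LD2_c9 LD3_c51)) = (LP (LK LD1_c1 LD2_c31 LD3_c4)) :=
  Lre_c IH (LK LD1_c3 LD2_c9 LD3_c51) (LK LD1_c1 LD2_c31 LD3_c4) Lrfl Lrfl
theorem f79078 : Led Lsl_dt (LP (LK LD1_c6 LD2_c24 LD3_c27)) = (LP (LK LD1_c3 LD2_c16 LD3_c31)) :=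
  Lgr Lrot42 (Lpr_df (f79061 IH) (Lpn (LP (LK LD1_c3 LD2_c16 LD3_c31))))
theorem f64538 : Led Lsl_ct (LP (LK LD1_c3 LD2_c16 LD3_c31)) = (LP (LK LD1_c1 LD2_c35 LD3_c1)) :=
  Lre_c IH (LK LD1_c3 LD2_c16 LD3_c31) (LK LD1_c1 LD2_c35 LD3_c1) Lrfl Lrfl
theorem f64544 : Led Lsl_dt (LP (LK LD1_c1 LD2_c35 LD3_c1)) = (LP (LK LD1_c3 LD2_c16 LD3_c44)) :=
  Lre_d IH (LK LD1_c1 LD2_c35 LD3_c1) (LK LD1_c3 LD2_c16 LD3_c44) Lrfl Lrfl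
theorem f64913 : Led Lsl_bt (LP (LK LD1_c1 LD2_c52 LD3_c10)) = (LP (LK LD1_c0 LD2_c52 LD3_c51)) :=
  Lre_b IH (LK LD1_c1 LD2_c52 LD3_c10) (LK LD1_c0 LD2_c52 LD3_c51) Lrfl Lrfl
theorem f13445 : Led Lsl_bt (LP (LK LD1_c0 LD2_c7 LD3_c26)) = (LP (LK LD1_c0 LD2_c16 LD3_c41)) :=
  Lre_b IH (LK LD1_c0 LD2_c7 LD3_c26) (LK LD1_c0 LD2_c16 LD3_c41) Lrfl Lrfl
theorem f13446 : Led Lsl_gt (LP (LK LD1_c0 LD2_c16 LD3_c41)) = (LP (LK LD1_c0 LD2_c37 LD3_c25)) :=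
  Lre_g IH (LK LD1_c0 LD2_c16 LD3_c41) (LK LD1_c0 LD2_c37 LD3_c25) Lrfl Lrfl
theorem f13447 : Led Lsl_dt (LP (LK LD1_c0 LD2_c37 LD3_c25)) = (LP (LK LD1_c1 LD2_c21 LD3_c1)) :=
  Lre_d IH (LK LD1_c0 LD2_c37 LD3_c25) (LK LD1_c1 LD2_c21 LD3_c1) Lrfl Lrfl
theorem f64914 : Led Lsl_cf (LP (LK LD1_c1 LD2_c52 LD3_c10)) = (LP (LK LD1_c1 LD2_c21 LD3_c1)) :=
  Lgr Lrot89 (Lpr_bt (f64913 IH) (Lpr_gt (K1.f64905 IH) (Lpr_dt (K2.f11311 IH) (Lpr_ct (K3.f11310 IH) (Lpr_bt (K3.f4465 IH) (Lpr_gt (K0.f11297 IH) (Lpr_dt (K0.f5826 IH) (Lpr_ct (K0.f12651 IH) (Lpe (K0.f13437 IH) (Lpr_gt (K0.f3797 IH) (Lpr_dt (K0.f7375 IH) (Lpr_ct (K2.f7367 IH) (Lpr_bt (K0.f13442 IH) (Lpr_gt (K0.f6703 IH) (Lpr_dt (K0.f13443 IH) (Lpr_ct (K1.f13444 IH) (Lpr_bt (f13445 IH) (Lpr_gt (f13446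 IH) (Lpr_dt (f13447 IH) (Lpn (LP (LK LD1_c1 LD2_c21 LD3_c1))))))))))))))))))))))
theorem f66159 : Led Lsl_bt (LP (LK LD1_c2 LD2_c49 LD3_c51)) = (LP (LK LD1_c1 LD2_c21 LD3_c1)) :=
  Lre_b IH (LK LD1_c2 LD2_c49 LD3_c51) (LK LD1_c1 LD2_c21 LD3_c1) Lrfl Lrfl
theorem f66160 : Led Lsl_ct (LP (LK LD1_c3 LD2_c16 LD3_c44)) = (LP (LK LD1_c2 LD2_c49 LD3_c51)) :=
  Lgr Lrot83 (Lpe (f64919 IH) (Lpr_cf (K3.f66156 IH) (Lpe (f64913 IH) (Lpr_cf (f64914 IH) (Lpe (f66159 IH) (Lpn (LP (LK LD1_c2 LD2_c49 LD3_c51))))))))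
theorem f66269 : Led Lsl_at (LP (LK LD1_c5 LD2_c47 LD3_c44)) = (LP (LK LD1_c2 LD2_c49 LD3_c51)) :=
  Lre_a IH (LK LD1_c5 LD2_c47 LD3_c44) (LK LD1_c2 LD2_c49 LD3_c51) Lrfl Lrfl
theorem f117515 : Led Lsl_ff (LP (LK LD1_c5 LD2_c47 LD3_c44)) = (LP (LK LD1_c5 LD2_c51 LD3_c7)) :=
  Lgr Lrot103 (Lpr_at (f66269 IH) (Lpe (f66160 IH) (Lpe (f64544 IH) (Lpe (f64538 IH) (Lpe (f79078 IH) (Lpe (f36323 IH) (Lpe (f36322 IH) (Lpe (f79087 IH) (Lpr_df (f117508 IH) (Lpn (LP (LK LD1_c5 LD2_c51 LD3_c7))))))))))))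
theorem f117526 : Led Lsl_ft (LP (LK LD1_c5 LD2_c47 LD3_c44)) = (LP (LK LD1_c5 LD2_c51 LD3_c7)) :=
  Lgr Lrot48 (Lpr_ff (f117515 IH) (Lpn (LP (LK LD1_c5 LD2_c51 LD3_c7))))
theorem f117520 : Led Lsl_dt (LP (LK LD1_c5 LD2_c47 LD3_c44)) = (LP (LK LD1_c2 LD2_c49 LD3_c50)) :=
  Lre_d IH (LK LD1_c5 LD2_c47 LD3_c44) (LK LD1_c2 LD2_c49 LD3_c50) Lrfl Lrfl
theorem f24061 : Led Lsl_at (LP (LK LD1_c5 LD2_c51 LD3_c7)) = (LP (LK LD1_c2 LD2_c51 LD3_c50)) :=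
  Lre_a IH (LK LD1_c5 LD2_c51 LD3_c7) (LK LD1_c2 LD2_c51 LD3_c50) Lrfl Lrfl
theorem f24064 : Led Lsl_cf (LP (LK LD1_c2 LD2_c51 LD3_c50)) = (LP (LK LD1_c2 LD2_c54 LD3_c40)) :=
  Lgr Lrot11 (Lpr_ct (f24057 IH) (Lpn (LP (LK LD1_c2 LD2_c54 LD3_c40))))
theorem f96706 : Led Lsl_ft (LP (LK LD1_c12 LD2_c36 LD3_c59)) = (LP (LK LD1_c6 LD2_c35 LD3_c28)) :=
  Lre_f IH (LK LD1_c12 LD2_c36 LD3_c59) (LK LD1_c6 LD2_c35 LD3_c28) Lrfl Lrfl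
theorem f112255 : Led Lsl_bf (LP (LK LD1_c5 LD2_c56 LD3_c43)) = (LP (LK LD1_c6 LD2_c35 LD3_c28)) :=
  Lgr Lrot61 (Lpr_ft (f24117 IH) (Lpr_bt (f112248 IH) (Lpr_ft (f96706 IH) (Lpn (LP (LK LD1_c6 LD2_c35 LD3_c28))))))
theorem f96636 : Led Lsl_et (LP (LK LD1_c3 LD2_c16 LD3_c5)) = (LP (LK LD1_c6 LD2_c35 LD3_c28)) :=
  Lre_e IH (LK LD1_c3 LD2_c16 LD3_c5) (LK LD1_c6 LD2_c35 LD3_c28) Lrfl Lrfl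
theorem f112261 : Led Lsl_bt (LP (LK LD1_c2 LD2_c54 LD3_c40)) = (LP (LK LD1_c3 LD2_c16 LD3_c5)) :=
  Lgr Lrot119 (Lpe (f24125 IH) (Lpr_bf (f112255 IH) (Lpe (f96636 IH) (Lpn (LP (LK LD1_c3 LD2_c16 LD3_c5))))))
theorem f112263 : Led Lsl_bt (LP (LK LD1_c1 LD2_c34 LD3_c48)) = (LP (LK LD1_c3 LD2_c16 LD3_c4)) :=
  Lre_b IH (LK LD1_c1 LD2_c34 LD3_c48) (LK LD1_c3 LD2_c16 LD3_c4) Lrfl Lrfl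
theorem f112264 : Led Lsl_df (LP (LK LD1_c2 LD2_c54 LD3_c40)) = (LP (LK LD1_c3 LD2_c16 LD3_c4)) :=
  Lgr Lrot12 (Lpr_bt (f112261 IH) (Lpr_dt (f96635 IH) (Lpr_bt (f112263 IH) (Lpn (LP (LK LD1_c3 LD2_c16 LD3_c4))))))
theorem f60981 : Led Lsl_ct (LP (LK LD1_c6 LD2_c35 LD3_c26)) = (LP (LK LD1_c3 LD2_c16 LD3_c4)) :=
  Lre_c IH (LK LD1_c6 LD2_c35 LD3_c26) (LK LD1_c3 LD2_c16 LD3_c4) Lrfl Lrfl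
theorem f91108 : Led Lsl_et (LP (LK LD1_c1 LD2_c39 LD3_c57)) = (LP (LK LD1_c3 LD2_c26 LD3_c32)) :=
  Lre_e IH (LK LD1_c1 LD2_c39 LD3_c57) (LK LD1_c3 LD2_c26 LD3_c32) Lrfl Lrfl
theorem f83767 : Led Lsl_et (LP (LK LD1_c6 LD2_c50 LD3_c21)) = (LP (LK LD1_c3 LD2_c23 LD3_c32)) :=
  Lre_e IH (LK LD1_c6 LD2_c50 LD3_c21) (LK LD1_c3 LD2_c23 LD3_c32) Lrfl Lrfl
theorem f91109 : Led Lsl_ct (LP (LK LD1_c3 LD2_c26 LD3_c32)) = (LP (LK LD1_c6 LD2_c50 LD3_c21)) :=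
  Lgr Lrot15 (Lpe (f91108 IH) (Lpr_cf (K2.f90986 IH) (Lpe (f83767 IH) (Lpn (LP (LK LD1_c6 LD2_c50 LD3_c21))))))
theorem f58960 : Led Lsl_bt (LP (LK LD1_c0 LD2_c8 LD3_c15)) = (LP (LK LD1_c0 LD2_c18 LD3_c20)) :=
  Lre_b IH (LK LD1_c0 LD2_c8 LD3_c15) (LK LD1_c0 LD2_c18 LD3_c20) Lrfl Lrfl
theorem f58961 : Led Lsl_gt (LP (LK LD1_c0 LD2_c18 LD3_c20)) = (LP (LK LD1_c0 LD2_c40 LD3_c57)) :=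
  Lre_g IH (LK LD1_c0 LD2_c18 LD3_c20) (LK LD1_c0 LD2_c40 LD3_c57) Lrfl Lrfl
theorem f83762 : Led Lsl_dt (LP (LK LD1_c0 LD2_c40 LD3_c57)) = (LP (LK LD1_c1 LD2_c28 LD3_c33)) :=
  Lre_d IH (LK LD1_c0 LD2_c40 LD3_c57) (LK LD1_c1 LD2_c28 LD3_c33) Lrfl Lrfl
theorem f83763 : Led Lsl_ct (LP (LK LD1_c1 LD2_c28 LD3_c33)) = (LP (LK LD1_c3 LD2_c4 LD3_c59)) :=
  Lre_c IH (LK LD1_c1 LD2_c28 LD3_c33) (LK LD1_c3 LD2_c4 LD3_c59) Lrfl Lrfl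
theorem f83764 : Led Lsl_bt (LP (LK LD1_c3 LD2_c4 LD3_c59)) = (LP (LK LD1_c3 LD2_c23 LD3_c32)) :=
  Lgr Lrot178 (Lpe (f83763 IH) (Lpe (f83762 IH) (Lpe (f58961 IH) (Lpe (f58960 IH) (Lpe (K1.f21181 IH) (Lpe (K1.f21174 IH) (Lpe (K1.f36324 IH) (Lpe (K1.f7064 IH) (Lpe (K0.f1497 IH) (Lpe (K1.f7165 IH) (Lpe (K0.f1423 IH) (Lpe (K1.f23382 IH) (Lpe (K0.f23435 IH) (Lpe (K0.f22750 IH) (Lpe (K3.f67041 IH) (Lpe (K3.f66941 IH) (Lpe (K2.f66847 IH) (Lpe (K2.f66858 IH) (Lpr_gf (K2.f83732 IH) (Lpn (LP (LK LD1_c3 LD2_c23 LD3_c32))))))))))))))))))))))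
theorem f83775 : Led Lsl_et (LP (LK LD1_c6 LD2_c15 LD3_c47)) = (LP (LK LD1_c3 LD2_c4 LD3_c59)) :=
  Lre_e IH (LK LD1_c6 LD2_c15 LD3_c47) (LK LD1_c3 LD2_c4 LD3_c59) Lrfl Lrfl
theorem f83776 : Led Lsl_et (LP (LK LD1_c3 LD2_c23 LD3_c32)) = (LP (LK LD1_c6 LD2_c50 LD3_c21)) :=
  Lre_e IH (LK LD1_c3 LD2_c23 LD3_c32) (LK LD1_c6 LD2_c50 LD3_c21) Lrfl Lrfl
theorem f83777 : Led Lsl_bf (LP (LK LD1_c6 LD2_c15 LD3_c47)) = (LP (LK LD1_c6 LD2_c50 LD3_c21)) :=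
  Lgr Lrot96 (Lpr_et (f83775 IH) (Lpr_bt (f83764 IH) (Lpr_et (f83776 IH) (Lpn (LP (LK LD1_c6 LD2_c50 LD3_c21))))))
theorem f83781 : Led Lsl_ct (LP (LK LD1_c6 LD2_c15 LD3_c47)) = (LP (LK LD1_c3 LD2_c4 LD3_c60)) :=
  Lre_c IH (LK LD1_c6 LD2_c15 LD3_c47) (LK LD1_c3 LD2_c4 LD3_c60) Lrfl Lrfl
theorem f83782 : Led Lsl_bt (LP (LK LD1_c3 LD2_c4 LD3_c60)) = (LP (LK LD1_c6 LD2_c15 LD3_c35)) :=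
  Lre_b IH (LK LD1_c3 LD2_c4 LD3_c60) (LK LD1_c6 LD2_c15 LD3_c35) Lrfl Lrfl
theorem f112126 : Led Lsl_cf (LP (LK LD1_c5 LD2_c51 LD3_c22)) = (LP (LK LD1_c6 LD2_c15 LD3_c35)) :=
  Lgr Lrot97 (Lpr_bt (f112122 IH) (Lpr_ct (f91109 IH) (Lpe (f83777 IH) (Lpr_ct (f83781 IH) (Lpr_bt (f83782 IH) (Lpn (LP (LK LD1_c6 LD2_c15 LD3_c35))))))))
theorem f112326 : Led Lsl_ct (LP (LK LD1_c5 LD2_c51 LD3_c22)) = (LP (LK LD1_c6 LD2_c15 LD3_c35)) :=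
  Lgr Lrot59 (Lpr_cf (f112126 IH) (Lpn (LP (LK LD1_c6 LD2_c15 LD3_c35))))
theorem f112346 : Led Lsl_et (LP (LK LD1_c6 LD2_c15 LD3_c35)) = (LP (LK LD1_c3 LD2_c4 LD3_c52)) :=
  Lre_e IH (LK LD1_c6 LD2_c15 LD3_c35) (LK LD1_c3 LD2_c4 LD3_c52) Lrfl Lrfl
theorem f112347 : Led Lsl_cf (LP (LK LD1_c2 LD2_c51 LD3_c57)) = (LP (LK LD1_c3 LD2_c4 LD3_c52)) :=
  Lgr Lrot39 (Lpr_et (f112121 IH) (Lpr_ct (f112326 IH) (Lpr_et (f112346 IH) (Lpn (LP (LK LD1_c3 LD2_c4 LD3_c52))))))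
theorem f26347 : Led Lsl_bt (LP (LK LD1_c0 LD2_c29 LD3_c37)) = (LP (LK LD1_c1 LD2_c4 LD3_c44)) :=
  Lre_b IH (LK LD1_c0 LD2_c29 LD3_c37) (LK LD1_c1 LD2_c4 LD3_c44) Lrfl Lrfl
theorem f83771 : Led Lsl_bt (LP (LK LD1_c3 LD2_c4 LD3_c52)) = (LP (LK LD1_c1 LD2_c28 LD3_c33)) :=
  Lre_b IH (LK LD1_c3 LD2_c4 LD3_c52) (LK LD1_c1 LD2_c28 LD3_c33) Lrfl Lrfl
theorem f112350 : Led Lsl_gt (LP (LK LD1_c1 LD2_c4 LD3_c44)) = (LP (LK LD1_c1 LD2_c28 LD3_c33)) :=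
  Lgr Lrot164 (Lpe (f26347 IH) (Lpr_ct (K2.f26351 IH) (Lpe (K1.f61666 IH) (Lpr_cf (K1.f61764 IH) (Lpe (K1.f20279 IH) (Lpe (f24052 IH) (Lpr_ct (f8356 IH) (Lpe (f8365 IH) (Lpr_cf (f112347 IH) (Lpr_bt (f83771 IH) (Lpn (LP (LK LD1_c1 LD2_c28 LD3_c33)))))))))))))
theorem f71148 : Led Lsl_at (LP (LK LD1_c0 LD2_c38 LD3_c22)) = (LP (LK LD1_c1 LD2_c22 LD3_c45)) :=
  Lre_a IH (LK LD1_c0 LD2_c38 LD3_c22) (LK LD1_c1 LD2_c22 LD3_c45) Lrfl Lrfl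
theorem f71149 : Led Lsl_ft (LP (LK LD1_c1 LD2_c4 LD3_c44)) = (LP (LK LD1_c0 LD2_c38 LD3_c22)) :=
  Lgr Lrot101 (Lpe (K2.f71147 IH) (Lpr_ff (K2.f71134 IH) (Lpe (f71148 IH) (Lpn (LP (LK LD1_c0 LD2_c38 LD3_c22))))))
theorem f112352 : Led Lsl_gf (LP (LK LD1_c1 LD2_c22 LD3_c45)) = (LP (LK LD1_c1 LD2_c28 LD3_c33)) :=
  Lgr Lrot76 (Lpe (f71148 IH) (Lpe (f71149 IH) (Lpr_gt (f112350 IH) (Lpn (LP (LK LD1_c1 LD2_c28 LD3_c33))))))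
theorem f59364 : Led Lsl_ct (LP (LK LD1_c0 LD2_c40 LD3_c45)) = (LP (LK LD1_c0 LD2_c18 LD3_c20)) :=
  Lre_c IH (LK LD1_c0 LD2_c40 LD3_c45) (LK LD1_c0 LD2_c18 LD3_c20) Lrfl Lrfl
theorem f59713 : Led Lsl_gt (LP (LK LD1_c0 LD2_c40 LD3_c45)) = (LP (LK LD1_c1 LD2_c28 LD3_c6)) :=
  Lre_g IH (LK LD1_c0 LD2_c40 LD3_c45) (LK LD1_c1 LD2_c28 LD3_c6) Lrfl Lrfl
theorem f75082 : Led Lsl_dt (LP (LK LD1_c1 LD2_c28 LD3_c6)) = (LP (LK LD1_c3 LD2_c4 LD3_c8)) :=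
  Lre_d IH (LK LD1_c1 LD2_c28 LD3_c6) (LK LD1_c3 LD2_c4 LD3_c8) Lrfl Lrfl
theorem f112386 : Led Lsl_gf (LP (LK LD1_c2 LD2_c53 LD3_c17)) = (LP (LK LD1_c3 LD2_c4 LD3_c8)) :=
  Lgr Lrot143 (Lpr_dt (K2.f71005 IH) (Lpe (K2.f70925 IH) (Lpe (K2.f70926 IH) (Lpr_gf (f112352 IH) (Lpe (f83762 IH) (Lpe (f58961 IH) (Lpe (f59364 IH) (Lpr_gt (f59713 IH) (Lpr_dt (f75082 IH) (Lpn (LP (LK LD1_c3 LD2_c4 LD3_c8))))))))))))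
theorem f71000 : Led Lsl_at (LP (LK LD1_c1 LD2_c22 LD3_c49)) = (LP (LK LD1_c2 LD2_c53 LD3_c17)) :=
  Lre_a IH (LK LD1_c1 LD2_c22 LD3_c49) (LK LD1_c2 LD2_c53 LD3_c17) Lrfl Lrfl
theorem f37812 : Led Lsl_dt (LP (LK LD1_c1 LD2_c4 LD3_c43)) = (LP (LK LD1_c2 LD2_c15 LD3_c16)) :=
  Lre_d IH (LK LD1_c1 LD2_c4 LD3_c43) (LK LD1_c2 LD2_c15 LD3_c16) Lrfl Lrfl
theorem f70846 : Led Lsl_ft (LP (LK LD1_c2 LD2_c15 LD3_c16)) = (LP (LK LD1_c1 LD2_c22 LD3_c49)) :=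
  Lgr Lrot54 (Lpe (f37812 IH) (Lpr_ff (K2.f70837 IH) (Lpe (K2.f70845 IH) (Lpn (LP (LK LD1_c1 LD2_c22 LD3_c49))))))
theorem f112393 : Led Lsl_gt (LP (LK LD1_c2 LD2_c15 LD3_c16)) = (LP (LK LD1_c3 LD2_c4 LD3_c8)) :=
  Lgr Lrot5 (Lpr_ft (f70846 IH) (Lpr_at (f71000 IH) (Lpr_gf (f112386 IH) (Lpn (LP (LK LD1_c3 LD2_c4 LD3_c8))))))
theorem f37813 : Led Lsl_ct (LP (LK LD1_c4 LD2_c36 LD3_c8)) = (LP (LK LD1_c2 LD2_c15 LD3_c16)) :=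
  Lre_c IH (LK LD1_c4 LD2_c36 LD3_c8) (LK LD1_c2 LD2_c15 LD3_c16) Lrfl Lrfl
theorem f23014 : Led Lsl_bt (LP (LK LD1_c0 LD2_c39 LD3_c47)) = (LP (LK LD1_c0 LD2_c17 LD3_c50)) :=
  Lre_b IH (LK LD1_c0 LD2_c39 LD3_c47) (LK LD1_c0 LD2_c17 LD3_c50) Lrfl Lrfl
theorem f59712 : Led Lsl_bt (LP (LK LD1_c0 LD2_c18 LD3_c15)) = (LP (LK LD1_c0 LD2_c40 LD3_c45)) :=
  Lre_b IH (LK LD1_c0 LD2_c18 LD3_c15) (LK LD1_c0 LD2_c40 LD3_c45) Lrfl Lrfl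
theorem f75083 : Led Lsl_bt (LP (LK LD1_c6 LD2_c0 LD3_c41)) = (LP (LK LD1_c2 LD2_c56 LD3_c36)) :=
  Lre_b IH (LK LD1_c6 LD2_c0 LD3_c41) (LK LD1_c2 LD2_c56 LD3_c36) Lrfl Lrfl
theorem f75084 : Led Lsl_ct (LP (LK LD1_c3 LD2_c4 LD3_c8)) = (LP (LK LD1_c6 LD2_c0 LD3_c41)) :=
  Lgr Lrot191 (Lpe (f75082 IH) (Lpe (f59713 IH) (Lpe (f59712 IH) (Lpe (K1.f36605 IH) (Lpe (K1.f36604 IH) (Lpe (K2.f37087 IH) (Lpe (K1.f29319 IH) (Lpe (K1.f28742 IH) (Lpe (K0.f2947 IH) (Lpr_gf (K0.f34705 IH) (Lpe (K0.f23017 IH) (Lpr_cf (K0.f20607 IH) (Lpe (K0.f23001 IH) (Lpe (K0.f23002 IH) (Lpe (f23014 IH) (Lpe (K2.f23015 IH) (Lpe (K2.f23016 IH) (Lpr_gf (K2.f75052 IH) (Lpe (f75083 IH) (Lpn (LP (LK LD1_c6 LD2_c0 LD3_c41))))))))))))))))))))))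
theorem f75092 : Led Lsl_cf (LP (LK LD1_c3 LD2_c4 LD3_c8)) = (LP (LK LD1_c6 LD2_c0 LD3_c41)) :=
  Lgr Lrot11 (Lpr_ct (f75084 IH) (Lpn (LP (LK LD1_c6 LD2_c0 LD3_c41))))
theorem f72717 : Led Lsl_ct (LP (LK LD1_c2 LD2_c56 LD3_c14)) = (LP (LK LD1_c4 LD2_c59 LD3_c43)) :=
  Lgr Lrot59 (Lpr_cf (K2.f72642 IH) (Lpn (LP (LK LD1_c4 LD2_c59 LD3_c43))))
theorem f72716 : Led Lsl_bt (LP (LK LD1_c2 LD2_c56 LD3_c14)) = (LP (LK LD1_c5 LD2_c59 LD3_c49)) :=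
  Lre_b IH (LK LD1_c2 LD2_c56 LD3_c14) (LK LD1_c5 LD2_c59 LD3_c49) Lrfl Lrfl
theorem f112403 : Led Lsl_gf (LP (LK LD1_c7 LD2_c56 LD3_c51)) = (LP (LK LD1_c5 LD2_c59 LD3_c49)) :=
  Lgr Lrot124 (Lpr_bf (f99448 IH) (Lpr_ct (f37813 IH) (Lpr_gt (f112393 IH) (Lpr_cf (f75092 IH) (Lpr_bt (f75083 IH) (Lpe (K2.f75052 IH) (Lpr_ct (K2.f72878 IH) (Lpr_gt (K2.f75080 IH) (Lpe (f72717 IH) (Lpr_bt (f72716 IH) (Lpn (LP (LK LD1_c5 LD2_c59 LD3_c49)))))))))))))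
theorem f35756 : Led Lsl_ct (LP (LK LD1_c7 LD2_c56 LD3_c51)) = (LP (LK LD1_c3 LD2_c57 LD3_c44)) :=
  Lre_c IH (LK LD1_c7 LD2_c56 LD3_c51) (LK LD1_c3 LD2_c57 LD3_c44) Lrfl Lrfl
theorem f99241 : Led Lsl_dt (LP (LK LD1_c2 LD2_c56 LD3_c13)) = (LP (LK LD1_c5 LD2_c59 LD3_c49)) :=
  Lre_d IH (LK LD1_c2 LD2_c56 LD3_c13) (LK LD1_c5 LD2_c59 LD3_c49) Lrfl Lrfl
theorem f26428 : Led Lsl_gt (LP (LK LD1_c2 LD2_c56 LD3_c13)) = (LP (LK LD1_c5 LD2_c59 LD3_c46)) :=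
  Lre_g IH (LK LD1_c2 LD2_c56 LD3_c13) (LK LD1_c5 LD2_c59 LD3_c46) Lrfl Lrfl
theorem f40545 : Led Lsl_ct (LP (LK LD1_c5 LD2_c59 LD3_c46)) = (LP (LK LD1_c11 LD2_c44 LD3_c1)) :=
  Lre_c IH (LK LD1_c5 LD2_c59 LD3_c46) (LK LD1_c11 LD2_c44 LD3_c1) Lrfl Lrfl
theorem f99138 : Led Lsl_bt (LP (LK LD1_c4 LD2_c45 LD3_c10)) = (LP (LK LD1_c2 LD2_c20 LD3_c44)) :=
  Lre_b IH (LK LD1_c4 LD2_c45 LD3_c10) (LK LD1_c2 LD2_c20 LD3_c44) Lrfl Lrfl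
theorem f99203 : Led Lsl_ct (LP (LK LD1_c6 LD2_c48 LD3_c61)) = (LP (LK LD1_c4 LD2_c45 LD3_c10)) :=
  Lgr Lrot83 (Lpe (f26458 IH) (Lpe (f56678 IH) (Lpr_bf (f99199 IH) (Lpe (f99155 IH) (Lpe (f99138 IH) (Lpn (LP (LK LD1_c4 LD2_c45 LD3_c10))))))))
theorem f101893 : Led Lsl_cf (LP (LK LD1_c6 LD2_c48 LD3_c61)) = (LP (LK LD1_c4 LD2_c45 LD3_c10)) :=
  Lgr Lrot11 (Lpr_ct (f99203 IH) (Lpn (LP (LK LD1_c4 LD2_c45 LD3_c10))))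
theorem f72659 : Led Lsl_bt (LP (LK LD1_c0 LD2_c38 LD3_c50)) = (LP (LK LD1_c1 LD2_c7 LD3_c57)) :=
  Lre_b IH (LK LD1_c0 LD2_c38 LD3_c50) (LK LD1_c1 LD2_c7 LD3_c57) Lrfl Lrfl
theorem f72719 : Led Lsl_ct (LP (LK LD1_c1 LD2_c24 LD3_c0)) = (LP (LK LD1_c0 LD2_c38 LD3_c48)) :=
  Lre_c IH (LK LD1_c1 LD2_c24 LD3_c0) (LK LD1_c0 LD2_c38 LD3_c48) Lrfl Lrfl
theorem f75537 : Led Lsl_bt (LP (LK LD1_c1 LD2_c24 LD3_c0)) = (LP (LK LD1_c2 LD2_c56 LD3_c13)) :=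
  Lre_b IH (LK LD1_c1 LD2_c24 LD3_c0) (LK LD1_c2 LD2_c56 LD3_c13) Lrfl Lrfl
theorem f101901 : Led Lsl_gf (LP (LK LD1_c6 LD2_c48 LD3_c61)) = (LP (LK LD1_c11 LD2_c44 LD3_c1)) :=
  Lgr Lrot129 (Lpr_cf (f101893 IH) (Lpr_bt (f99138 IH) (Lpr_gt (K3.f13744 IH) (Lpe (f72659 IH) (Lpr_ct (K2.f69350 IH) (Lpr_gt (K0.f23682 IH) (Lpe (f72719 IH) (Lpr_bt (f75537 IH) (Lpr_gt (f26428 IH) (Lpr_ct (f40545 IH) (Lpn (LP (LK LD1_c11 LD2_c44 LD3_c1)))))))))))))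
theorem f25209 : Led Lsl_bt (LP (LK LD1_c0 LD2_c41 LD3_c11)) = (LP (LK LD1_c0 LD2_c18 LD3_c26)) :=
  Lre_b IH (LK LD1_c0 LD2_c41 LD3_c11) (LK LD1_c0 LD2_c18 LD3_c26) Lrfl Lrfl
theorem f439 : Led Lsl_bt (LP (LK LD1_c0 LD2_c0 LD3_c5)) = (LP (LK LD1_c0 LD2_c0 LD3_c11)) :=
  Lre_b IH (LK LD1_c0 LD2_c0 LD3_c5) (LK LD1_c0 LD2_c0 LD3_c11) Lrfl Lrfl
theorem f9725 : Led Lsl_bf (LP (LK LD1_c0 LD2_c4 LD3_c4)) = (LP (LK LD1_c0 LD2_c4 LD3_c4)) :=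
  Lgr Lrot93 (Lpr_dt (K0.f7298 IH) (Lpr_bt (K0.f9717 IH) (Lpr_dt (K0.f7300 IH) (Lpn (LP (LK LD1_c0 LD2_c4 LD3_c4))))))
theorem f20030 : Led Lsl_cf (LP (LK LD1_c0 LD2_c3 LD3_c45)) = (LP (LK LD1_c0 LD2_c4 LD3_c4)) :=
  Lgr Lrot163 (Lpe (K1.f3833 IH) (Lpe (K1.f3832 IH) (Lpe (K1.f1495 IH) (Lpe (f439 IH) (Lpr_ct (K0.f139 IH) (Lpe (K0.f3820 IH) (Lpe (K0.f3822 IH) (Lpr_bt (K0.f20021 IH) (Lpe (K0.f7304 IH) (Lpr_bf (f9725 IH) (Lpn (LP (LK LD1_c0 LD2_c4 LD3_c4)))))))))))))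
theorem f59353 : Led Lsl_ct (LP (LK LD1_c0 LD2_c12 LD3_c29)) = (LP (LK LD1_c0 LD2_c28 LD3_c15)) :=
  Lre_c IH (LK LD1_c0 LD2_c12 LD3_c29) (LK LD1_c0 LD2_c28 LD3_c15) Lrfl Lrfl
theorem f59359 : Led Lsl_bt (LP (LK LD1_c0 LD2_c28 LD3_c15)) = (LP (LK LD1_c1 LD2_c1 LD3_c55)) :=
  Lre_b IH (LK LD1_c0 LD2_c28 LD3_c15) (LK LD1_c1 LD2_c1 LD3_c55) Lrfl Lrfl
theorem f59627 : Led Lsl_gt (LP (LK LD1_c1 LD2_c1 LD3_c55)) = (LP (LK LD1_c2 LD2_c9 LD3_c34)) :=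
  Lre_g IH (LK LD1_c1 LD2_c1 LD3_c55) (LK LD1_c2 LD2_c9 LD3_c34) Lrfl Lrfl
theorem f59628 : Led Lsl_dt (LP (LK LD1_c2 LD2_c9 LD3_c34)) = (LP (LK LD1_c4 LD2_c24 LD3_c12)) :=
  Lre_d IH (LK LD1_c2 LD2_c9 LD3_c34) (LK LD1_c4 LD2_c24 LD3_c12) Lrfl Lrfl
theorem f59629 : Led Lsl_ct (LP (LK LD1_c4 LD2_c24 LD3_c12)) = (LP (LK LD1_c8 LD2_c46 LD3_c4)) :=
  Lre_c IH (LK LD1_c4 LD2_c24 LD3_c12) (LK LD1_c8 LD2_c46 LD3_c4) Lrfl Lrfl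
theorem f102071 : Led Lsl_bf (LP (LK LD1_c4 LD2_c45 LD3_c11)) = (LP (LK LD1_c8 LD2_c46 LD3_c4)) :=
  Lgr Lrot184 (Lpr_gt (K3.f102038 IH) (Lpr_dt (K1.f25402 IH) (Lpr_ct (K1.f25401 IH) (Lpr_bt (f25209 IH) (Lpr_gt (K0.f25176 IH) (Lpr_dt (K0.f20835 IH) (Lpe (K0.f23272 IH) (Lpr_bt (K0.f7379 IH) (Lpr_gt (K0.f7306 IH) (Lpr_dt (K0.f7300 IH) (Lpe (f20030 IH) (Lpr_bt (K1.f23305 IH) (Lpe (K1.f59615 IH) (Lpr_dt (K1.f16640 IH) (Lpr_ct (f59353 IH) (Lpr_bt (f59359 IH) (Lpr_gt (f59627 IH) (Lpr_dt (f59628 IH) (Lpr_ct (f59629 IH) (Lpn (LP (LK LD1_c8 LD2_c46 LD3_c4))))))))))))))))))))))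
theorem f99183 : Led Lsl_bt (LP (LK LD1_c2 LD2_c20 LD3_c44)) = (LP (LK LD1_c4 LD2_c45 LD3_c10)) :=
  Lre_b IH (LK LD1_c2 LD2_c20 LD3_c44) (LK LD1_c4 LD2_c45 LD3_c10) Lrfl Lrfl
theorem f102080 : Led Lsl_dt (LP (LK LD1_c4 LD2_c45 LD3_c10)) = (LP (LK LD1_c8 LD2_c46 LD3_c4)) :=
  Lgr Lrot79 (Lpe (f99183 IH) (Lpe (K3.f13745 IH) (Lpr_bf (f102071 IH) (Lpn (LP (LK LD1_c8 LD2_c46 LD3_c4))))))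
theorem f102103 : Led Lsl_df (LP (LK LD1_c4 LD2_c45 LD3_c10)) = (LP (LK LD1_c8 LD2_c46 LD3_c4)) :=
  Lgr Lrot38 (Lpr_dt (f102080 IH) (Lpn (LP (LK LD1_c8 LD2_c46 LD3_c4))))
theorem f112412 : Led Lsl_gt (LP (LK LD1_c3 LD2_c57 LD3_c44)) = (LP (LK LD1_c4 LD2_c24 LD3_c12)) :=
  Lgr Lrot150 (Lpe (f35756 IH) (Lpr_gf (f112403 IH) (Lpe (f99241 IH) (Lpr_gt (f26428 IH) (Lpr_ct (f40545 IH) (Lpe (f101901 IH) (Lpr_ct (f99203 IH) (Lpr_df (f102103 IH) (Lpe (f59629 IH) (Lpn (LP (LK LD1_c4 LD2_c24 LD3_c12))))))))))))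
theorem f35978 : Led Lsl_at (LP (LK LD1_c2 LD2_c9 LD3_c52)) = (LP (LK LD1_c4 LD2_c24 LD3_c44)) :=
  Lre_a IH (LK LD1_c2 LD2_c9 LD3_c52) (LK LD1_c4 LD2_c24 LD3_c44) Lrfl Lrfl
theorem f112585 : Led Lsl_gf (LP (LK LD1_c4 LD2_c24 LD3_c44)) = (LP (LK LD1_c4 LD2_c24 LD3_c12)) :=
  Lgr Lrot76 (Lpe (f35978 IH) (Lpe (K2.f35909 IH) (Lpr_gt (f112412 IH) (Lpn (LP (LK LD1_c4 LD2_c24 LD3_c12))))))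
theorem f71124 : Led Lsl_bt (LP (LK LD1_c1 LD2_c22 LD3_c44)) = (LP (LK LD1_c2 LD2_c53 LD3_c16)) :=
  Lre_b IH (LK LD1_c1 LD2_c22 LD3_c44) (LK LD1_c2 LD2_c53 LD3_c16) Lrfl Lrfl
theorem f34747 : Led Lsl_bt (LP (LK LD1_c1 LD2_c1 LD3_c60)) = (LP (LK LD1_c0 LD2_c28 LD3_c17)) :=
  Lre_b IH (LK LD1_c1 LD2_c1 LD3_c60) (LK LD1_c0 LD2_c28 LD3_c17) Lrfl Lrfl
theorem f35768 : Led Lsl_bf (LP (LK LD1_c2 LD2_c9 LD3_c46)) = (LP (LK LD1_c3 LD2_c57 LD3_c43)) :=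
  Lgr Lrot81 (Lpr_at (K2.f35227 IH) (Lpr_bt (f34747 IH) (Lpr_at (K1.f35763 IH) (Lpr_bt (K1.f35577 IH) (Lpr_at (K2.f35767 IH) (Lpn (LP (LK LD1_c3 LD2_c57 LD3_c43))))))))
theorem f71825 : Led Lsl_ct (LP (LK LD1_c2 LD2_c53 LD3_c16)) = (LP (LK LD1_c3 LD2_c57 LD3_c43)) :=
  Lgr Lrot83 (Lpe (f71124 IH) (Lpe (K2.f70925 IH) (Lpr_bf (K2.f71818 IH) (Lpr_cf (K2.f35220 IH) (Lpr_bf (f35768 IH) (Lpn (LP (LK LD1_c3 LD2_c57 LD3_c43))))))))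
theorem f72093 : Led Lsl_cf (LP (LK LD1_c2 LD2_c10 LD3_c4)) = (LP (LK LD1_c2 LD2_c9 LD3_c51)) :=
  Lgr Lrot108 (Lpr_ft (K2.f72089 IH) (Lpr_ct (f71825 IH) (Lpr_ft (K2.f35987 IH) (Lpn (LP (LK LD1_c2 LD2_c9 LD3_c51))))))
theorem f38579 : Led Lsl_dt (LP (LK LD1_c4 LD2_c25 LD3_c20)) = (LP (LK LD1_c2 LD2_c10 LD3_c4)) :=
  Lre_d IH (LK LD1_c4 LD2_c25 LD3_c20) (LK LD1_c2 LD2_c10 LD3_c4) Lrfl Lrfl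
theorem f38515 : Led Lsl_dt (LP (LK LD1_c2 LD2_c10 LD3_c5)) = (LP (LK LD1_c1 LD2_c2 LD3_c8)) :=
  Lre_d IH (LK LD1_c2 LD2_c10 LD3_c5) (LK LD1_c1 LD2_c2 LD3_c8) Lrfl Lrfl
theorem f37077 : Led Lsl_dt (LP (LK LD1_c1 LD2_c55 LD3_c39)) = (LP (LK LD1_c3 LD2_c57 LD3_c48)) :=
  Lre_d IH (LK LD1_c1 LD2_c55 LD3_c39) (LK LD1_c3 LD2_c57 LD3_c48) Lrfl Lrfl
theorem f38567 : Led Lsl_ff (LP (LK LD1_c2 LD2_c10 LD3_c5)) = (LP (LK LD1_c3 LD2_c57 LD3_c48)) :=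
  Lgr Lrot19 (Lpr_dt (f38515 IH) (Lpr_ft (K1.f38511 IH) (Lpr_dt (f37077 IH) (Lpn (LP (LK LD1_c3 LD2_c57 LD3_c48))))))
theorem f38582 : Led Lsl_at (LP (LK LD1_c2 LD2_c10 LD3_c5)) = (LP (LK LD1_c4 LD2_c25 LD3_c20)) :=
  Lre_a IH (LK LD1_c2 LD2_c10 LD3_c5) (LK LD1_c4 LD2_c25 LD3_c20) Lrfl Lrfl
theorem f37457 : Led Lsl_gt (LP (LK LD1_c3 LD2_c57 LD3_c48)) = (LP (LK LD1_c7 LD2_c56 LD3_c59)) :=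
  Lre_g IH (LK LD1_c3 LD2_c57 LD3_c48) (LK LD1_c7 LD2_c56 LD3_c59) Lrfl Lrfl
theorem f38589 : Led Lsl_gf (LP (LK LD1_c4 LD2_c25 LD3_c20)) = (LP (LK LD1_c7 LD2_c56 LD3_c59)) :=
  Lgr Lrot76 (Lpe (f38582 IH) (Lpr_ff (f38567 IH) (Lpr_gt (f37457 IH) (Lpn (LP (LK LD1_c7 LD2_c56 LD3_c59))))))
theorem f36404 : Led Lsl_dt (LP (LK LD1_c1 LD2_c31 LD3_c3)) = (LP (LK LD1_c0 LD2_c42 LD3_c0)) :=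
  Lre_d IH (LK LD1_c1 LD2_c31 LD3_c3) (LK LD1_c0 LD2_c42 LD3_c0) Lrfl Lrfl
theorem f56595 : Led Lsl_dt (LP (LK LD1_c0 LD2_c37 LD3_c14)) = (LP (LK LD1_c1 LD2_c20 LD3_c35)) :=
  Lre_d IH (LK LD1_c0 LD2_c37 LD3_c14) (LK LD1_c1 LD2_c20 LD3_c35) Lrfl Lrfl
theorem f59599 : Led Lsl_cf (LP (LK LD1_c1 LD2_c31 LD3_c3)) = (LP (LK LD1_c1 LD2_c20 LD3_c35)) :=
  Lgr Lrot116 (Lpr_dt (f36404 IH) (Lpr_ct (K1.f36403 IH) (Lpr_dt (K1.f36398 IH) (Lpr_ct (K0.f9594 IH) (Lpe (K0.f9614 IH) (Lpe (K0.f9555 IH) (Lpr_dt (K1.f59587 IH) (Lpr_ct (K1.f56590 IH) (Lpr_dt (f56595 IH) (Lpn (LP (LK LD1_c1 LD2_c20 LD3_c35))))))))))))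
theorem f36313 : Led Lsl_ct (LP (LK LD1_c0 LD2_c18 LD3_c47)) = (LP (LK LD1_c0 LD2_c8 LD3_c27)) :=
  Lre_c IH (LK LD1_c0 LD2_c18 LD3_c47) (LK LD1_c0 LD2_c8 LD3_c27) Lrfl Lrfl
theorem f80344 : Led Lsl_gf (LP (LK LD1_c0 LD2_c18 LD3_c47)) = (LP (LK LD1_c0 LD2_c40 LD3_c41)) :=
  Lgr Lrot147 (Lpr_ct (f36313 IH) (Lpr_gt (K1.f36295 IH) (Lpr_ct (K1.f36296 IH) (Lpe (f36404 IH) (Lpr_cf (f59599 IH) (Lpe (K2.f69359 IH) (Lpr_cf (K2.f38236 IH) (Lpr_gf (K2.f80321 IH) (Lpe (K2.f59176 IH) (Lpn (LP (LK LD1_c0 LD2_c40 LD3_c41))))))))))))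
theorem f36309 : Led Lsl_dt (LP (LK LD1_c0 LD2_c18 LD3_c47)) = (LP (LK LD1_c0 LD2_c42 LD3_c2)) :=
  Lre_d IH (LK LD1_c0 LD2_c18 LD3_c47) (LK LD1_c0 LD2_c42 LD3_c2) Lrfl Lrfl
theorem f59621 : Led Lsl_dt (LP (LK LD1_c1 LD2_c1 LD3_c56)) = (LP (LK LD1_c0 LD2_c28 LD3_c15)) :=
  Lre_d IH (LK LD1_c1 LD2_c1 LD3_c56) (LK LD1_c0 LD2_c28 LD3_c15) Lrfl Lrfl
theorem f59622 : Led Lsl_gf (LP (LK LD1_c1 LD2_c1 LD3_c56)) = (LP (LK LD1_c1 LD2_c57 LD3_c13)) :=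
  Lgr Lrot143 (Lpr_dt (f59621 IH) (Lpe (f59353 IH) (Lpe (K1.f16640 IH) (Lpr_gf (K1.f59615 IH) (Lpe (K1.f59584 IH) (Lpe (K1.f59577 IH) (Lpe (K0.f34743 IH) (Lpr_gt (K1.f34741 IH) (Lpr_dt (K1.f29554 IH) (Lpn (LP (LK LD1_c1 LD2_c57 LD3_c13))))))))))))
theorem f30706 : Led Lsl_ct (LP (LK LD1_c0 LD2_c55 LD3_c25)) = (LP (LK LD1_c1 LD2_c57 LD3_c13)) :=
  Lre_c IH (LK LD1_c0 LD2_c55 LD3_c25) (LK LD1_c1 LD2_c57 LD3_c13) Lrfl Lrfl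
theorem f70439 : Led Lsl_gt (LP (LK LD1_c0 LD2_c42 LD3_c2)) = (LP (LK LD1_c0 LD2_c55 LD3_c25)) :=
  Lgr Lrot9 (Lpe (f36309 IH) (Lpe (K1.f59701 IH) (Lpr_ct (K1.f59693 IH) (Lpr_gt (K1.f36612 IH) (Lpr_ct (K1.f36605 IH) (Lpe (K2.f38004 IH) (Lpr_cf (K2.f70229 IH) (Lpr_gf (f59622 IH) (Lpe (f30706 IH) (Lpn (LP (LK LD1_c0 LD2_c55 LD3_c25))))))))))))
theorem f29560 : Led Lsl_dt (LP (LK LD1_c0 LD2_c25 LD3_c5)) = (LP (LK LD1_c0 LD2_c11 LD3_c10)) :=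
  Lre_d IH (LK LD1_c0 LD2_c25 LD3_c5) (LK LD1_c0 LD2_c11 LD3_c10) Lrfl Lrfl
theorem f80351 : Led Lsl_gf (LP (LK LD1_c0 LD2_c25 LD3_c5)) = (LP (LK LD1_c0 LD2_c18 LD3_c13)) :=
  Lgr Lrot144 (Lpr_dt (f29560 IH) (Lpr_gt (K1.f29321 IH) (Lpr_dt (K1.f28565 IH) (Lpe (K1.f29311 IH) (Lpe (K1.f29552 IH) (Lpe (f70439 IH) (Lpe (f36309 IH) (Lpr_gf (f80344 IH) (Lpe (K1.f36639 IH) (Lpn (LP (LK LD1_c0 LD2_c18 LD3_c13))))))))))))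
theorem f80437 : Led Lsl_ct (LP (LK LD1_c0 LD2_c25 LD3_c5)) = (LP (LK LD1_c0 LD2_c55 LD3_c21)) :=
  Lre_c IH (LK LD1_c0 LD2_c25 LD3_c5) (LK LD1_c0 LD2_c55 LD3_c21) Lrfl Lrfl
theorem f59250 : Led Lsl_gt (LP (LK LD1_c1 LD2_c55 LD3_c35)) = (LP (LK LD1_c1 LD2_c27 LD3_c47)) :=
  Lgr Lrot94 (Lpe (K1.f59238 IH) (Lpr_gt (K1.f59244 IH) (Lpr_dt (K1.f36293 IH) (Lpr_gt (K1.f35549 IH) (Lpr_dt (K1.f35591 IH) (Lpr_cf (K1.f37448 IH) (Lpe (K2.f37326 IH) (Lpe (K1.f37320 IH) (Lpe (K1.f36626 IH) (Lpn (LP (LK LD1_c1 LD2_c27 LD3_c47))))))))))))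
theorem f36318 : Led Lsl_dt (LP (LK LD1_c0 LD2_c42 LD3_c2)) = (LP (LK LD1_c0 LD2_c18 LD3_c47)) :=
  Lre_d IH (LK LD1_c0 LD2_c42 LD3_c2) (LK LD1_c0 LD2_c18 LD3_c47) Lrfl Lrfl
theorem f59705 : Led Lsl_gt (LP (LK LD1_c1 LD2_c27 LD3_c47)) = (LP (LK LD1_c0 LD2_c42 LD3_c2)) :=
  Lgr Lrot94 (Lpr_cf (K2.f36627 IH) (Lpr_gt (K1.f35824 IH) (Lpr_dt (K1.f35823 IH) (Lpr_gt (K1.f35867 IH) (Lpr_dt (K2.f35868 IH) (Lpe (K2.f59182 IH) (Lpe (K2.f59181 IH) (Lpr_gf (K1.f59701 IH) (Lpe (f36318 IH) (Lpn (LP (LK LD1_c0 LD2_c42 LD3_c2))))))))))))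
theorem f59707 : Led Lsl_cf (LP (LK LD1_c0 LD2_c55 LD3_c13)) = (LP (LK LD1_c1 LD2_c27 LD3_c47)) :=
  Lgr Lrot166 (Lpr_gt (K1.f35824 IH) (Lpr_dt (K1.f35823 IH) (Lpr_gt (K1.f35867 IH) (Lpr_dt (K2.f35868 IH) (Lpe (K2.f59699 IH) (Lpe (K2.f59181 IH) (Lpr_gf (K1.f59701 IH) (Lpe (f36318 IH) (Lpe (f59705 IH) (Lpn (LP (LK LD1_c1 LD2_c27 LD3_c47))))))))))))
theorem f70551 : Led Lsl_cf (LP (LK LD1_c1 LD2_c2 LD3_c16)) = (LP (LK LD1_c1 LD2_c1 LD3_c51)) :=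
  Lgr Lrot188 (Lpr_gt (f38011 IH) (Lpr_ct (K0.f16567 IH) (Lpr_dt (K2.f70437 IH) (Lpe (K2.f59535 IH) (Lpe (K1.f59577 IH) (Lpe (K0.f34743 IH) (Lpr_gf (K0.f35345 IH) (Lpr_dt (K1.f29551 IH) (Lpr_gt (K1.f35824 IH) (Lpn (LP (LK LD1_c1 LD2_c1 LD3_c51))))))))))))
theorem f80442 : Led Lsl_df (LP (LK LD1_c0 LD2_c55 LD3_c21)) = (LP (LK LD1_c1 LD2_c2 LD3_c16)) :=
  Lgr Lrot162 (Lpe (f80437 IH) (Lpr_gf (f80351 IH) (Lpe (K1.f37184 IH) (Lpr_gf (K1.f59330 IH) (Lpr_dt (K1.f59240 IH) (Lpr_gt (f59250 IH) (Lpe (f59707 IH) (Lpr_gt (K1.f35824 IH) (Lpe (f70551 IH) (Lpn (LP (LK LD1_c1 LD2_c2 LD3_c16))))))))))))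
theorem f59626 : Led Lsl_ct (LP (LK LD1_c0 LD2_c55 LD3_c21)) = (LP (LK LD1_c0 LD2_c25 LD3_c5)) :=
  Lre_c IH (LK LD1_c0 LD2_c55 LD3_c21) (LK LD1_c0 LD2_c25 LD3_c5) Lrfl Lrfl
theorem f29561 : Led Lsl_dt (LP (LK LD1_c0 LD2_c11 LD3_c10)) = (LP (LK LD1_c0 LD2_c25 LD3_c5)) :=
  Lre_d IH (LK LD1_c0 LD2_c11 LD3_c10) (LK LD1_c0 LD2_c25 LD3_c5) Lrfl Lrfl
theorem f37869 : Led Lsl_af (LP (LK LD1_c0 LD2_c28 LD3_c24)) = (LP (LK LD1_c0 LD2_c54 LD3_c36)) :=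
  Lgr Lrot117 (Lpr_dt (K0.f16618 IH) (Lpr_at (K1.f37764 IH) (Lpr_dt (K1.f37040 IH) (Lpn (LP (LK LD1_c0 LD2_c54 LD3_c36))))))
theorem f40013 : Led Lsl_gf (LP (LK LD1_c1 LD2_c2 LD3_c16)) = (LP (LK LD1_c1 LD2_c2 LD3_c17)) :=
  Lgr Lrot47 (Lpr_gt (f38011 IH) (Lpr_af (f37869 IH) (Lpr_ff (K1.f40009 IH) (Lpn (LP (LK LD1_c1 LD2_c2 LD3_c17))))))
theorem f16615 : Led Lsl_ct (LP (LK LD1_c1 LD2_c2 LD3_c17)) = (LP (LK LD1_c0 LD2_c28 LD3_c24)) :=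
  Lre_c IH (LK LD1_c1 LD2_c2 LD3_c17) (LK LD1_c0 LD2_c28 LD3_c24) Lrfl Lrfl
theorem f70537 : Led Lsl_df (LP (LK LD1_c1 LD2_c2 LD3_c17)) = (LP (LK LD1_c0 LD2_c40 LD3_c30)) :=
  Lgr Lrot43 (Lpr_ct (f16615 IH) (Lpr_dt (K0.f16618 IH) (Lpr_ct (K0.f16619 IH) (Lpr_dt (K0.f16620 IH) (Lpr_ct (K0.f16624 IH) (Lpr_dt (K0.f16623 IH) (Lpr_ct (K0.f16622 IH) (Lpr_dt (K0.f16621 IH) (Lpr_ct (K0.f16567 IH) (Lpr_dt (K2.f70437 IH) (Lpr_ct (K2.f59518 IH) (Lpr_dt (K1.f59584 IH) (Lpr_ct (K2.f59619 IH) (Lpr_dt (K1.f59581 IH) (Lpr_ct (K2.f59535 IH) (Lpn (LP (LK LD1_c0 LD2_c40 LD3_c30))))))))))))))))))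
theorem f80458 : Led Lsl_gf (LP (LK LD1_c0 LD2_c11 LD3_c10)) = (LP (LK LD1_c0 LD2_c8 LD3_c11)) :=
  Lgr Lrot143 (Lpr_dt (f29561 IH) (Lpe (f59626 IH) (Lpr_df (f80442 IH) (Lpr_gf (f40013 IH) (Lpr_df (f70537 IH) (Lpe (K2.f69345 IH) (Lpr_cf (K2.f69327 IH) (Lpe (K1.f37960 IH) (Lpr_dt (K1.f36624 IH) (Lpn (LP (LK LD1_c0 LD2_c8 LD3_c11))))))))))))
theorem f21179 : Led Lsl_ct (LP (LK LD1_c0 LD2_c16 LD3_c50)) = (LP (LK LD1_c0 LD2_c7 LD3_c29)) :=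
  Lre_c IH (LK LD1_c0 LD2_c16 LD3_c50) (LK LD1_c0 LD2_c7 LD3_c29) Lrfl Lrfl
theorem f37290 : Led Lsl_gf (LP (LK LD1_c0 LD2_c7 LD3_c28)) = (LP (LK LD1_c0 LD2_c5 LD3_c52)) :=
  Lgr Lrot147 (Lpr_ct (K1.f37120 IH) (Lpr_gt (K1.f36291 IH) (Lpr_ct (K1.f37284 IH) (Lpe (K2.f37155 IH) (Lpe (f21179 IH) (Lpe (K1.f37153 IH) (Lpe (K1.f37141 IH) (Lpr_gf (K1.f37256 IH) (Lpe (K1.f37094 IH) (Lpn (LP (LK LD1_c0 LD2_c5 LD3_c52))))))))))))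
theorem f80532 : Led Lsl_bf (LP (LK LD1_c0 LD2_c11 LD3_c10)) = (LP (LK LD1_c0 LD2_c5 LD3_c43)) :=
  Lgr Lrot34 (Lpr_gf (f80458 IH) (Lpr_bf (K1.f37296 IH) (Lpr_ct (K1.f37120 IH) (Lpr_gf (f37290 IH) (Lpe (K1.f20053 IH) (Lpe (K1.f37089 IH) (Lpr_bf (K0.f2943 IH) (Lpr_ct (K1.f28742 IH) (Lpe (K1.f29321 IH) (Lpe (K1.f59624 IH) (Lpn (LP (LK LD1_c0 LD2_c5 LD3_c43)))))))))))))
theorem f80538 : Led Lsl_bt (LP (LK LD1_c0 LD2_c25 LD3_c5)) = (LP (LK LD1_c0 LD2_c12 LD3_c29)) :=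
  Lgr Lrot95 (Lpe (f29561 IH) (Lpr_bf (f80532 IH) (Lpe (K1.f16642 IH) (Lpn (LP (LK LD1_c0 LD2_c12 LD3_c29))))))
theorem f80446 : Led Lsl_et (LP (LK LD1_c0 LD2_c55 LD3_c22)) = (LP (LK LD1_c0 LD2_c25 LD3_c5)) :=
  Lre_e IH (LK LD1_c0 LD2_c55 LD3_c22) (LK LD1_c0 LD2_c25 LD3_c5) Lrfl Lrfl
theorem f59343 : Led Lsl_et (LP (LK LD1_c0 LD2_c12 LD3_c29)) = (LP (LK LD1_c0 LD2_c28 LD3_c16)) :=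
  Lre_e IH (LK LD1_c0 LD2_c12 LD3_c29) (LK LD1_c0 LD2_c28 LD3_c16) Lrfl Lrfl
theorem f80545 : Led Lsl_bf (LP (LK LD1_c0 LD2_c55 LD3_c22)) = (LP (LK LD1_c0 LD2_c28 LD3_c16)) :=
  Lgr Lrot96 (Lpr_et (f80446 IH) (Lpr_bt (f80538 IH) (Lpr_et (f59343 IH) (Lpn (LP (LK LD1_c0 LD2_c28 LD3_c16))))))
theorem f80644 : Led Lsl_ct (LP (LK LD1_c0 LD2_c55 LD3_c22)) = (LP (LK LD1_c1 LD2_c57 LD3_c3)) :=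
  Lre_c IH (LK LD1_c0 LD2_c55 LD3_c22) (LK LD1_c1 LD2_c57 LD3_c3) Lrfl Lrfl
theorem f80645 : Led Lsl_bt (LP (LK LD1_c1 LD2_c57 LD3_c3)) = (LP (LK LD1_c4 LD2_c0 LD3_c37)) :=
  Lre_b IH (LK LD1_c1 LD2_c57 LD3_c3) (LK LD1_c4 LD2_c0 LD3_c37) Lrfl Lrfl
theorem f59389 : Led Lsl_ct (LP (LK LD1_c1 LD2_c1 LD3_c57)) = (LP (LK LD1_c0 LD2_c28 LD3_c16)) :=
  Lre_c IH (LK LD1_c1 LD2_c1 LD3_c57) (LK LD1_c0 LD2_c28 LD3_c16) Lrfl Lrfl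
theorem f80646 : Led Lsl_bt (LP (LK LD1_c2 LD2_c9 LD3_c38)) = (LP (LK LD1_c1 LD2_c1 LD3_c57)) :=
  Lre_b IH (LK LD1_c2 LD2_c9 LD3_c38) (LK LD1_c1 LD2_c1 LD3_c57) Lrfl Lrfl
theorem f80647 : Led Lsl_ct (LP (LK LD1_c4 LD2_c0 LD3_c37)) = (LP (LK LD1_c2 LD2_c9 LD3_c38)) :=
  Lgr Lrot83 (Lpe (f80645 IH) (Lpe (f80644 IH) (Lpr_bf (f80545 IH) (Lpe (f59389 IH) (Lpe (f80646 IH) (Lpn (LP (LK LD1_c2 LD2_c9 LD3_c38))))))))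
theorem f80659 : Led Lsl_cf (LP (LK LD1_c4 LD2_c0 LD3_c37)) = (LP (LK LD1_c2 LD2_c9 LD3_c38)) :=
  Lgr Lrot11 (Lpr_ct (f80647 IH) (Lpn (LP (LK LD1_c2 LD2_c9 LD3_c38))))
theorem f80673 : Led Lsl_et (LP (LK LD1_c4 LD2_c0 LD3_c37)) = (LP (LK LD1_c1 LD2_c57 LD3_c2)) :=
  Lre_e IH (LK LD1_c4 LD2_c0 LD3_c37) (LK LD1_c1 LD2_c57 LD3_c2) Lrfl Lrfl
theorem f70501 : Led Lsl_et (LP (LK LD1_c1 LD2_c1 LD3_c55)) = (LP (LK LD1_c2 LD2_c9 LD3_c38)) :=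
  Lre_e IH (LK LD1_c1 LD2_c1 LD3_c55) (LK LD1_c2 LD2_c9 LD3_c38) Lrfl Lrfl
theorem f80674 : Led Lsl_ct (LP (LK LD1_c1 LD2_c57 LD3_c2)) = (LP (LK LD1_c1 LD2_c1 LD3_c55)) :=
  Lgr Lrot15 (Lpe (f80673 IH) (Lpr_cf (f80659 IH) (Lpe (f70501 IH) (Lpn (LP (LK LD1_c1 LD2_c1 LD3_c55))))))
theorem f80445 : Led Lsl_gt (LP (LK LD1_c1 LD2_c57 LD3_c2)) = (LP (LK LD1_c4 LD2_c0 LD3_c34)) :=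
  Lre_g IH (LK LD1_c1 LD2_c57 LD3_c2) (LK LD1_c4 LD2_c0 LD3_c34) Lrfl Lrfl
theorem f112587 : Led Lsl_df (LP (LK LD1_c7 LD2_c56 LD3_c59)) = (LP (LK LD1_c4 LD2_c0 LD3_c34)) :=
  Lgr Lrot153 (Lpe (f38589 IH) (Lpr_dt (f38579 IH) (Lpr_cf (f72093 IH) (Lpe (K2.f35963 IH) (Lpr_gf (f112585 IH) (Lpe (f59628 IH) (Lpe (f59627 IH) (Lpe (f80674 IH) (Lpr_gt (f80445 IH) (Lpn (LP (LK LD1_c4 LD2_c0 LD3_c34))))))))))))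
theorem f80444 : Led Lsl_bt (LP (LK LD1_c0 LD2_c55 LD3_c21)) = (LP (LK LD1_c1 LD2_c57 LD3_c2)) :=
  Lre_b IH (LK LD1_c0 LD2_c55 LD3_c21) (LK LD1_c1 LD2_c57 LD3_c2) Lrfl Lrfl
theorem f6721 : Led Lsl_dt (LP (LK LD1_c0 LD2_c3 LD3_c27)) = (LP (LK LD1_c0 LD2_c1 LD3_c25)) :=
  Lre_d IH (LK LD1_c0 LD2_c3 LD3_c27) (LK LD1_c0 LD2_c1 LD3_c25) Lrfl Lrfl
theorem f59565 : Led Lsl_df (LP (LK LD1_c0 LD2_c20 LD3_c19)) = (LP (LK LD1_c0 LD2_c18 LD3_c9)) :=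
  Lgr Lrot153 (Lpe (K1.f58937 IH) (Lpr_dt (K0.f20199 IH) (Lpe (K0.f20195 IH) (Lpe (K0.f20216 IH) (Lpe (K0.f6733 IH) (Lpe (f6721 IH) (Lpe (K0.f6722 IH) (Lpe (K1.f20527 IH) (Lpr_gt (K1.f59533 IH) (Lpn (LP (LK LD1_c0 LD2_c18 LD3_c9))))))))))))
theorem f61280 : Led Lsl_gf (LP (LK LD1_c0 LD2_c29 LD3_c26)) = (LP (LK LD1_c0 LD2_c37 LD3_c21)) :=
  Lgr Lrot148 (Lpr_dt (K1.f20541 IH) (Lpr_gt (K1.f59533 IH) (Lpe (f59565 IH) (Lpr_ct (K2.f36272 IH) (Lpe (K1.f13538 IH) (Lpr_gf (K2.f23373 IH) (Lpe (K1.f23380 IH) (Lpr_gf (K1.f61009 IH) (Lpr_ct (K2.f61248 IH) (Lpn (LP (LK LD1_c0 LD2_c37 LD3_c21))))))))))))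
theorem f61283 : Led Lsl_bt (LP (LK LD1_c1 LD2_c20 LD3_c51)) = (LP (LK LD1_c0 LD2_c37 LD3_c21)) :=
  Lre_b IH (LK LD1_c1 LD2_c20 LD3_c51) (LK LD1_c0 LD2_c37 LD3_c21) Lrfl Lrfl
theorem f34732 : Led Lsl_gt (LP (LK LD1_c0 LD2_c29 LD3_c36)) = (LP (LK LD1_c1 LD2_c4 LD3_c40)) :=
  Lre_g IH (LK LD1_c0 LD2_c29 LD3_c36) (LK LD1_c1 LD2_c4 LD3_c40) Lrfl Lrfl
theorem f34733 : Led Lsl_dt (LP (LK LD1_c1 LD2_c4 LD3_c40)) = (LP (LK LD1_c2 LD2_c15 LD3_c6)) :=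
  Lre_d IH (LK LD1_c1 LD2_c4 LD3_c40) (LK LD1_c2 LD2_c15 LD3_c6) Lrfl Lrfl
theorem f34734 : Led Lsl_ct (LP (LK LD1_c2 LD2_c15 LD3_c6)) = (LP (LK LD1_c4 LD2_c35 LD3_c49)) :=
  Lre_c IH (LK LD1_c2 LD2_c15 LD3_c6) (LK LD1_c4 LD2_c35 LD3_c49) Lrfl Lrfl
theorem f15031 : Led Lsl_ct (LP (LK LD1_c1 LD2_c38 LD3_c10)) = (LP (LK LD1_c0 LD2_c45 LD3_c31)) :=
  Lre_c IH (LK LD1_c1 LD2_c38 LD3_c10) (LK LD1_c0 LD2_c45 LD3_c31) Lrfl Lrfl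
theorem f34735 : Led Lsl_bt (LP (LK LD1_c4 LD2_c35 LD3_c49)) = (LP (LK LD1_c3 LD2_c50 LD3_c60)) :=
  Lgr Lrot178 (Lpe (f34734 IH) (Lpe (f34733 IH) (Lpe (f34732 IH) (Lpe (K2.f34721 IH) (Lpr_cf (K0.f34712 IH) (Lpe (K0.f20606 IH) (Lpe (K0.f27186 IH) (Lpe (K0.f183 IH) (Lpe (K0.f182 IH) (Lpe (K0.f7107 IH) (Lpe (K0.f20999 IH) (Lpe (K0.f26306 IH) (Lpe (K0.f26052 IH) (Lpe (K0.f26047 IH) (Lpr_gf (K0.f26049 IH) (Lpe (K3.f15032 IH) (Lpe (f15031 IH) (Lpe (K2.f15028 IH) (Lpe (K3.f15025 IH) (Lpn (LP (LK LD1_c3 LD2_c50 LD3_c60))))))))))))))))))))))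
theorem f40642 : Led Lsl_ct (LP (LK LD1_c4 LD2_c35 LD3_c49)) = (LP (LK LD1_c2 LD2_c15 LD3_c6)) :=
  Lre_c IH (LK LD1_c4 LD2_c35 LD3_c49) (LK LD1_c2 LD2_c15 LD3_c6) Lrfl Lrfl
theorem f26002 : Led Lsl_bt (LP (LK LD1_c0 LD2_c29 LD3_c45)) = (LP (LK LD1_c1 LD2_c5 LD3_c6)) :=
  Lre_b IH (LK LD1_c0 LD2_c29 LD3_c45) (LK LD1_c1 LD2_c5 LD3_c6) Lrfl Lrfl
theorem f58858 : Led Lsl_ct (LP (LK LD1_c1 LD2_c5 LD3_c6)) = (LP (LK LD1_c2 LD2_c16 LD3_c25)) :=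
  Lre_c IH (LK LD1_c1 LD2_c5 LD3_c6) (LK LD1_c2 LD2_c16 LD3_c25) Lrfl Lrfl
theorem f60958 : Led Lsl_bf (LP (LK LD1_c1 LD2_c6 LD3_c5)) = (LP (LK LD1_c2 LD2_c16 LD3_c25)) :=
  Lgr Lrot90 (Lpr_ct (K3.f60957 IH) (Lpr_bt (K3.f26005 IH) (Lpr_ct (K1.f60927 IH) (Lpr_bt (f26002 IH) (Lpr_ct (f58858 IH) (Lpn (LP (LK LD1_c2 LD2_c16 LD3_c25))))))))
theorem f34765 : Led Lsl_ct (LP (LK LD1_c2 LD2_c16 LD3_c25)) = (LP (LK LD1_c1 LD2_c5 LD3_c6)) :=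
  Lre_c IH (LK LD1_c2 LD2_c16 LD3_c25) (LK LD1_c1 LD2_c5 LD3_c6) Lrfl Lrfl
theorem f104727 : Led Lsl_gf (LP (LK LD1_c2 LD2_c15 LD3_c6)) = (LP (LK LD1_c1 LD2_c5 LD3_c6)) :=
  Lgr Lrot126 (Lpe (f40642 IH) (Lpr_bt (f34735 IH) (Lpr_gt (K3.f15025 IH) (Lpr_ct (K3.f14634 IH) (Lpe (K2.f91754 IH) (Lpe (K2.f65861 IH) (Lpr_bt (K3.f104723 IH) (Lpr_gt (K3.f90251 IH) (Lpr_bf (f60958 IH) (Lpr_ct (f34765 IH) (Lpn (LP (LK LD1_c1 LD2_c5 LD3_c6)))))))))))))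
theorem f104779 : Led Lsl_gt (LP (LK LD1_c4 LD2_c35 LD3_c49)) = (LP (LK LD1_c9 LD2_c8 LD3_c0)) :=
  Lre_g IH (LK LD1_c4 LD2_c35 LD3_c49) (LK LD1_c9 LD2_c8 LD3_c0) Lrfl Lrfl
theorem f26003 : Led Lsl_gt (LP (LK LD1_c2 LD2_c27 LD3_c29)) = (LP (LK LD1_c1 LD2_c11 LD3_c0)) :=
  Lre_g IH (LK LD1_c2 LD2_c27 LD3_c29) (LK LD1_c1 LD2_c11 LD3_c0) Lrfl Lrfl
theorem f26004 : Led Lsl_bt (LP (LK LD1_c4 LD2_c59 LD3_c10)) = (LP (LK LD1_c2 LD2_c27 LD3_c29)) :=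
  Lre_b IH (LK LD1_c4 LD2_c59 LD3_c10) (LK LD1_c2 LD2_c27 LD3_c29) Lrfl Lrfl
theorem f104780 : Led Lsl_cf (LP (LK LD1_c9 LD2_c8 LD3_c0)) = (LP (LK LD1_c4 LD2_c59 LD3_c10)) :=
  Lgr Lrot163 (Lpe (f104779 IH) (Lpe (f34734 IH) (Lpr_gf (f104727 IH) (Lpe (f26002 IH) (Lpe (K0.f25729 IH) (Lpr_gf (K1.f25999 IH) (Lpe (K0.f20278 IH) (Lpr_bt (K0.f23454 IH) (Lpe (f26003 IH) (Lpe (f26004 IH) (Lpn (LP (LK LD1_c4 LD2_c59 LD3_c10)))))))))))))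
theorem f104791 : Led Lsl_ct (LP (LK LD1_c9 LD2_c8 LD3_c0)) = (LP (LK LD1_c4 LD2_c59 LD3_c10)) :=
  Lgr Lrot59 (Lpr_cf (f104780 IH) (Lpn (LP (LK LD1_c4 LD2_c59 LD3_c10))))
theorem f26927 : Led Lsl_bt (LP (LK LD1_c0 LD2_c30 LD3_c25)) = (LP (LK LD1_c0 LD2_c13 LD3_c31)) :=
  Lre_b IH (LK LD1_c0 LD2_c30 LD3_c25) (LK LD1_c0 LD2_c13 LD3_c31) Lrfl Lrfl
theorem f26928 : Led Lsl_df (LP (LK LD1_c0 LD2_c30 LD3_c25)) = (LP (LK LD1_c1 LD2_c5 LD3_c6)) :=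
  Lgr Lrot12 (Lpr_bt (f26927 IH) (Lpr_dt (K0.f26772 IH) (Lpr_bt (f26002 IH) (Lpn (LP (LK LD1_c1 LD2_c5 LD3_c6))))))
theorem f56602 : Led Lsl_gt (LP (LK LD1_c0 LD2_c30 LD3_c25)) = (LP (LK LD1_c1 LD2_c6 LD3_c29)) :=
  Lre_g IH (LK LD1_c0 LD2_c30 LD3_c25) (LK LD1_c1 LD2_c6 LD3_c29) Lrfl Lrfl
theorem f60939 : Led Lsl_ct (LP (LK LD1_c1 LD2_c6 LD3_c29)) = (LP (LK LD1_c2 LD2_c18 LD3_c53)) :=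
  Lre_c IH (LK LD1_c1 LD2_c6 LD3_c29) (LK LD1_c2 LD2_c18 LD3_c53) Lrfl Lrfl
theorem f60940 : Led Lsl_gt (LP (LK LD1_c2 LD2_c18 LD3_c53)) = (LP (LK LD1_c4 LD2_c42 LD3_c46)) :=
  Lre_g IH (LK LD1_c2 LD2_c18 LD3_c53) (LK LD1_c4 LD2_c42 LD3_c46) Lrfl Lrfl
theorem f60937 : Led Lsl_gt (LP (LK LD1_c1 LD2_c20 LD3_c49)) = (LP (LK LD1_c0 LD2_c37 LD3_c20)) :=
  Lre_g IH (LK LD1_c1 LD2_c20 LD3_c49) (LK LD1_c0 LD2_c37 LD3_c20) Lrfl Lrfl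
theorem f60938 : Led Lsl_bt (LP (LK LD1_c2 LD2_c49 LD3_c19)) = (LP (LK LD1_c1 LD2_c20 LD3_c49)) :=
  Lre_b IH (LK LD1_c2 LD2_c49 LD3_c19) (LK LD1_c1 LD2_c20 LD3_c49) Lrfl Lrfl
theorem f60936 : Led Lsl_bt (LP (LK LD1_c0 LD2_c13 LD3_c31)) = (LP (LK LD1_c0 LD2_c30 LD3_c25)) :=
  Lre_b IH (LK LD1_c0 LD2_c13 LD3_c31) (LK LD1_c0 LD2_c30 LD3_c25) Lrfl Lrfl
theorem f60941 : Led Lsl_ct (LP (LK LD1_c2 LD2_c49 LD3_c19)) = (LP (LK LD1_c4 LD2_c42 LD3_c46)) :=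
  Lgr Lrot63 (Lpr_bt (f60938 IH) (Lpr_gt (f60937 IH) (Lpe (K2.f60929 IH) (Lpr_ct (K1.f60910 IH) (Lpe (K1.f60908 IH) (Lpe (K1.f26581 IH) (Lpr_bt (f60936 IH) (Lpr_gt (f56602 IH) (Lpr_ct (f60939 IH) (Lpr_gt (f60940 IH) (Lpn (LP (LK LD1_c4 LD2_c42 LD3_c46)))))))))))))
theorem f60945 : Led Lsl_cf (LP (LK LD1_c2 LD2_c49 LD3_c19)) = (LP (LK LD1_c4 LD2_c42 LD3_c46)) :=
  Lgr Lrot11 (Lpr_ct (f60941 IH) (Lpn (LP (LK LD1_c4 LD2_c42 LD3_c46))))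
theorem f104799 : Led Lsl_dt (LP (LK LD1_c2 LD2_c49 LD3_c19)) = (LP (LK LD1_c4 LD2_c59 LD3_c10)) :=
  Lgr Lrot27 (Lpr_cf (f60945 IH) (Lpe (f60940 IH) (Lpe (f60939 IH) (Lpe (f56602 IH) (Lpr_df (f26928 IH) (Lpe (f104727 IH) (Lpr_ct (f34734 IH) (Lpr_gt (f104779 IH) (Lpr_ct (f104791 IH) (Lpn (LP (LK LD1_c4 LD2_c59 LD3_c10))))))))))))
theorem f60943 : Led Lsl_bt (LP (LK LD1_c1 LD2_c20 LD3_c49)) = (LP (LK LD1_c2 LD2_c49 LD3_c19)) :=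
  Lre_b IH (LK LD1_c1 LD2_c20 LD3_c49) (LK LD1_c2 LD2_c49 LD3_c19) Lrfl Lrfl
theorem f104801 : Led Lsl_df (LP (LK LD1_c1 LD2_c20 LD3_c49)) = (LP (LK LD1_c2 LD2_c27 LD3_c29)) :=
  Lgr Lrot12 (Lpr_bt (f60943 IH) (Lpr_dt (f104799 IH) (Lpr_bt (f26004 IH) (Lpn (LP (LK LD1_c2 LD2_c27 LD3_c29))))))
theorem f26416 : Led Lsl_gt (LP (LK LD1_c1 LD2_c10 LD3_c57)) = (LP (LK LD1_c2 LD2_c27 LD3_c29)) :=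
  Lre_g IH (LK LD1_c1 LD2_c10 LD3_c57) (LK LD1_c2 LD2_c27 LD3_c29) Lrfl Lrfl
theorem f26419 : Led Lsl_ct (LP (LK LD1_c2 LD2_c27 LD3_c31)) = (LP (LK LD1_c1 LD2_c10 LD3_c57)) :=
  Lre_c IH (LK LD1_c2 LD2_c27 LD3_c31) (LK LD1_c1 LD2_c10 LD3_c57) Lrfl Lrfl
theorem f26415 : Led Lsl_dt (LP (LK LD1_c2 LD2_c56 LD3_c9)) = (LP (LK LD1_c5 LD2_c59 LD3_c37)) :=
  Lre_d IH (LK LD1_c2 LD2_c56 LD3_c9) (LK LD1_c5 LD2_c59 LD3_c37) Lrfl Lrfl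
theorem f104909 : Led Lsl_gf (LP (LK LD1_c5 LD2_c47 LD3_c3)) = (LP (LK LD1_c5 LD2_c59 LD3_c37)) :=
  Lgr Lrot143 (Lpr_dt (K2.f61285 IH) (Lpe (K2.f60951 IH) (Lpe (K2.f60950 IH) (Lpe (f60937 IH) (Lpr_df (f104801 IH) (Lpe (f26416 IH) (Lpe (f26419 IH) (Lpe (K0.f26408 IH) (Lpr_dt (f26415 IH) (Lpn (LP (LK LD1_c5 LD2_c59 LD3_c37))))))))))))
theorem f104931 : Led Lsl_bt (LP (LK LD1_c11 LD2_c43 LD3_c47)) = (LP (LK LD1_c5 LD2_c59 LD3_c37)) :=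
  Lre_b IH (LK LD1_c11 LD2_c43 LD3_c47) (LK LD1_c5 LD2_c59 LD3_c37) Lrfl Lrfl
theorem f112596 : Led Lsl_ct (LP (LK LD1_c7 LD2_c56 LD3_c59)) = (LP (LK LD1_c11 LD2_c43 LD3_c47)) :=
  Lgr Lrot191 (Lpr_df (f112587 IH) (Lpe (f80445 IH) (Lpe (f80444 IH) (Lpe (f80437 IH) (Lpe (f29561 IH) (Lpr_gf (f80458 IH) (Lpr_bf (K1.f37296 IH) (Lpe (K1.f37120 IH) (Lpe (K1.f37122 IH) (Lpr_gf (K1.f37310 IH) (Lpe (K1.f20459 IH) (Lpe (K1.f20527 IH) (Lpe (K1.f20541 IH) (Lpr_gf (f61280 IH) (Lpe (f61283 IH) (Lpe (f61284 IH) (Lpe (K2.f61285 IH) (Lpr_gf (f104909 IH) (Lpe (f104931 IH) (Lpn (LP (LK LD1_c11 LD2_c43 LD3_c47))))))))))))))))))))))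
theorem f112599 : Led Lsl_cf (LP (LK LD1_c7 LD2_c56 LD3_c59)) = (LP (LK LD1_c11 LD2_c43 LD3_c47)) :=
  Lgr Lrot11 (Lpr_ct (f112596 IH) (Lpn (LP (LK LD1_c11 LD2_c43 LD3_c47))))
theorem f35658 : Led Lsl_bt (LP (LK LD1_c3 LD2_c57 LD3_c48)) = (LP (LK LD1_c1 LD2_c55 LD3_c40)) :=
  Lre_b IH (LK LD1_c3 LD2_c57 LD3_c48) (LK LD1_c1 LD2_c55 LD3_c40) Lrfl Lrfl
theorem f81777 : Led Lsl_bt (LP (LK LD1_c2 LD2_c54 LD3_c28)) = (LP (LK LD1_c5 LD2_c56 LD3_c14)) :=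
  Lre_b IH (LK LD1_c2 LD2_c54 LD3_c28) (LK LD1_c5 LD2_c56 LD3_c14) Lrfl Lrfl
theorem f81778 : Led Lsl_cf (LP (LK LD1_c3 LD2_c57 LD3_c48)) = (LP (LK LD1_c5 LD2_c56 LD3_c14)) :=
  Lgr Lrot97 (Lpr_bt (f35658 IH) (Lpr_ct (K1.f37446 IH) (Lpr_bt (K2.f81765 IH) (Lpr_ct (K2.f71864 IH) (Lpr_bt (f81777 IH) (Lpn (LP (LK LD1_c5 LD2_c56 LD3_c14))))))))
theorem f112609 : Led Lsl_bt (LP (LK LD1_c5 LD2_c56 LD3_c14)) = (LP (LK LD1_c2 LD2_c54 LD3_c28)) :=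
  Lre_b IH (LK LD1_c5 LD2_c56 LD3_c14) (LK LD1_c2 LD2_c54 LD3_c28) Lrfl Lrfl
theorem f69448 : Led Lsl_gt (LP (LK LD1_c5 LD2_c56 LD3_c13)) = (LP (LK LD1_c2 LD2_c54 LD3_c28)) :=
  Lre_g IH (LK LD1_c5 LD2_c56 LD3_c13) (LK LD1_c2 LD2_c54 LD3_c28) Lrfl Lrfl
theorem f72898 : Led Lsl_ft (LP (LK LD1_c9 LD2_c16 LD3_c34)) = (LP (LK LD1_c6 LD2_c8 LD3_c37)) :=
  Lre_f IH (LK LD1_c9 LD2_c16 LD3_c34) (LK LD1_c6 LD2_c8 LD3_c37) Lrfl Lrfl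
theorem f104929 : Led Lsl_gt (LP (LK LD1_c9 LD2_c16 LD3_c34)) = (LP (LK LD1_c5 LD2_c59 LD3_c37)) :=
  Lgr Lrot5 (Lpr_ft (f72898 IH) (Lpr_at (K2.f72903 IH) (Lpr_gf (f104909 IH) (Lpn (LP (LK LD1_c5 LD2_c59 LD3_c37))))))
theorem f26434 : Led Lsl_dt (LP (LK LD1_c5 LD2_c59 LD3_c37)) = (LP (LK LD1_c2 LD2_c56 LD3_c9)) :=
  Lre_d IH (LK LD1_c5 LD2_c59 LD3_c37) (LK LD1_c2 LD2_c56 LD3_c9) Lrfl Lrfl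
theorem f26444 : Led Lsl_dt (LP (LK LD1_c2 LD2_c27 LD3_c43)) = (LP (LK LD1_c4 LD2_c59 LD3_c48)) :=
  Lre_d IH (LK LD1_c2 LD2_c27 LD3_c43) (LK LD1_c4 LD2_c59 LD3_c48) Lrfl Lrfl
theorem f14357 : Led Lsl_ct (LP (LK LD1_c2 LD2_c56 LD3_c3)) = (LP (LK LD1_c4 LD2_c59 LD3_c48)) :=
  Lre_c IH (LK LD1_c2 LD2_c56 LD3_c3) (LK LD1_c4 LD2_c59 LD3_c48) Lrfl Lrfl
theorem f26445 : Led Lsl_dt (LP (LK LD1_c1 LD2_c23 LD3_c59)) = (LP (LK LD1_c2 LD2_c56 LD3_c3)) :=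
  Lre_d IH (LK LD1_c1 LD2_c23 LD3_c59) (LK LD1_c2 LD2_c56 LD3_c3) Lrfl Lrfl
theorem f26446 : Led Lsl_gt (LP (LK LD1_c2 LD2_c21 LD3_c14)) = (LP (LK LD1_c1 LD2_c23 LD3_c59)) :=
  Lre_g IH (LK LD1_c2 LD2_c21 LD3_c14) (LK LD1_c1 LD2_c23 LD3_c59) Lrfl Lrfl
theorem f26447 : Led Lsl_dt (LP (LK LD1_c4 LD2_c46 LD3_c35)) = (LP (LK LD1_c2 LD2_c21 LD3_c14)) :=
  Lre_d IH (LK LD1_c4 LD2_c46 LD3_c35) (LK LD1_c2 LD2_c21 LD3_c14) Lrfl Lrfl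
theorem f104946 : Led Lsl_gt (LP (LK LD1_c4 LD2_c40 LD3_c37)) = (LP (LK LD1_c4 LD2_c46 LD3_c35)) :=
  Lgr Lrot94 (Lpe (K2.f72868 IH) (Lpr_gt (f104929 IH) (Lpr_dt (f26434 IH) (Lpr_gt (K0.f26413 IH) (Lpr_dt (f26444 IH) (Lpe (f14357 IH) (Lpe (f26445 IH) (Lpe (f26446 IH) (Lpe (f26447 IH) (Lpn (LP (LK LD1_c4 LD2_c46 LD3_c35))))))))))))
theorem f104948 : Led Lsl_gf (LP (LK LD1_c5 LD2_c58 LD3_c5)) = (LP (LK LD1_c4 LD2_c46 LD3_c35)) :=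
  Lgr Lrot76 (Lpe (K2.f74801 IH) (Lpe (K2.f58733 IH) (Lpr_gt (f104946 IH) (Lpn (LP (LK LD1_c4 LD2_c46 LD3_c35))))))
theorem f79305 : Led Lsl_dt (LP (LK LD1_c2 LD2_c21 LD3_c14)) = (LP (LK LD1_c4 LD2_c46 LD3_c35)) :=
  Lre_d IH (LK LD1_c2 LD2_c21 LD3_c14) (LK LD1_c4 LD2_c46 LD3_c35) Lrfl Lrfl
theorem f104981 : Led Lsl_ct (LP (LK LD1_c1 LD2_c8 LD3_c18)) = (LP (LK LD1_c2 LD2_c22 LD3_c19)) :=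
  Lre_c IH (LK LD1_c1 LD2_c8 LD3_c18) (LK LD1_c2 LD2_c22 LD3_c19) Lrfl Lrfl
theorem f104982 : Led Lsl_dt (LP (LK LD1_c4 LD2_c48 LD3_c54)) = (LP (LK LD1_c2 LD2_c22 LD3_c19)) :=
  Lre_d IH (LK LD1_c4 LD2_c48 LD3_c54) (LK LD1_c2 LD2_c22 LD3_c19) Lrfl Lrfl
theorem f104983 : Led Lsl_ct (LP (LK LD1_c9 LD2_c30 LD3_c18)) = (LP (LK LD1_c4 LD2_c48 LD3_c54)) :=
  Lre_c IH (LK LD1_c9 LD2_c30 LD3_c18) (LK LD1_c4 LD2_c48 LD3_c54) Lrfl Lrfl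
theorem f104984 : Led Lsl_gt (LP (LK LD1_c5 LD2_c47 LD3_c3)) = (LP (LK LD1_c9 LD2_c30 LD3_c18)) :=
  Lgr Lrot150 (Lpr_cf (K2.f74796 IH) (Lpr_gf (f104948 IH) (Lpe (f79305 IH) (Lpr_gt (f26446 IH) (Lpr_ct (K3.f79244 IH) (Lpr_gt (K3.f74634 IH) (Lpr_ct (f104981 IH) (Lpe (f104982 IH) (Lpe (f104983 IH) (Lpn (LP (LK LD1_c9 LD2_c30 LD3_c18))))))))))))
theorem f74462 : Led Lsl_ft (LP (LK LD1_c5 LD2_c47 LD3_c3)) = (LP (LK LD1_c5 LD2_c51 LD3_c34)) :=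
  Lgr Lrot48 (Lpr_ff (K2.f74453 IH) (Lpn (LP (LK LD1_c5 LD2_c51 LD3_c34))))
theorem f74265 : Led Lsl_af (LP (LK LD1_c9 LD2_c16 LD3_c34)) = (LP (LK LD1_c5 LD2_c51 LD3_c34)) :=
  Lgr Lrot117 (Lpr_dt (K2.f74262 IH) (Lpe (f74255 IH) (Lpr_dt (K2.f74264 IH) (Lpn (LP (LK LD1_c5 LD2_c51 LD3_c34))))))
theorem f105009 : Led Lsl_gf (LP (LK LD1_c9 LD2_c16 LD3_c34)) = (LP (LK LD1_c9 LD2_c30 LD3_c18)) :=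
  Lgr Lrot76 (Lpr_af (f74265 IH) (Lpe (f74462 IH) (Lpr_gt (f104984 IH) (Lpn (LP (LK LD1_c9 LD2_c30 LD3_c18))))))
theorem f79306 : Led Lsl_ct (LP (LK LD1_c4 LD2_c46 LD3_c35)) = (LP (LK LD1_c9 LD2_c25 LD3_c49)) :=
  Lre_c IH (LK LD1_c4 LD2_c46 LD3_c35) (LK LD1_c9 LD2_c25 LD3_c49) Lrfl Lrfl
theorem f72462 : Led Lsl_ct (LP (LK LD1_c2 LD2_c27 LD3_c24)) = (LP (LK LD1_c1 LD2_c10 LD3_c55)) :=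
  Lre_c IH (LK LD1_c2 LD2_c27 LD3_c24) (LK LD1_c1 LD2_c10 LD3_c55) Lrfl Lrfl
theorem f72471 : Led Lsl_gt (LP (LK LD1_c4 LD2_c58 LD3_c37)) = (LP (LK LD1_c2 LD2_c27 LD3_c24)) :=
  Lre_g IH (LK LD1_c4 LD2_c58 LD3_c37) (LK LD1_c2 LD2_c27 LD3_c24) Lrfl Lrfl
theorem f72472 : Led Lsl_dt (LP (LK LD1_c4 LD2_c58 LD3_c37)) = (LP (LK LD1_c9 LD2_c47 LD3_c46)) :=
  Lre_d IH (LK LD1_c4 LD2_c58 LD3_c37) (LK LD1_c9 LD2_c47 LD3_c46) Lrfl Lrfl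
theorem f104952 : Led Lsl_ct (LP (LK LD1_c9 LD2_c25 LD3_c49)) = (LP (LK LD1_c4 LD2_c46 LD3_c35)) :=
  Lre_c IH (LK LD1_c9 LD2_c25 LD3_c49) (LK LD1_c4 LD2_c46 LD3_c35) Lrfl Lrfl
theorem f104986 : Led Lsl_gt (LP (LK LD1_c9 LD2_c47 LD3_c46)) = (LP (LK LD1_c9 LD2_c25 LD3_c49)) :=
  Lgr Lrot9 (Lpe (f72472 IH) (Lpr_gt (f72471 IH) (Lpr_ct (f72462 IH) (Lpr_gt (K2.f72439 IH) (Lpr_ct (K2.f60951 IH) (Lpe (K2.f61285 IH) (Lpr_cf (K2.f74796 IH) (Lpr_gf (f104948 IH) (Lpe (f104952 IH) (Lpn (LP (LK LD1_c9 LD2_c25 LD3_c49))))))))))))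
theorem f79699 : Led Lsl_gt (LP (LK LD1_c2 LD2_c27 LD3_c10)) = (LP (LK LD1_c4 LD2_c58 LD3_c37)) :=
  Lre_g IH (LK LD1_c2 LD2_c27 LD3_c10) (LK LD1_c4 LD2_c58 LD3_c37) Lrfl Lrfl
theorem f74280 : Led Lsl_ct (LP (LK LD1_c2 LD2_c27 LD3_c10)) = (LP (LK LD1_c1 LD2_c10 LD3_c50)) :=
  Lre_c IH (LK LD1_c2 LD2_c27 LD3_c10) (LK LD1_c1 LD2_c10 LD3_c50) Lrfl Lrfl
theorem f74198 : Led Lsl_gt (LP (LK LD1_c1 LD2_c10 LD3_c50)) = (LP (LK LD1_c2 LD2_c27 LD3_c9)) :=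
  Lre_g IH (LK LD1_c1 LD2_c10 LD3_c50) (LK LD1_c2 LD2_c27 LD3_c9) Lrfl Lrfl
theorem f72866 : Led Lsl_gt (LP (LK LD1_c1 LD2_c24 LD3_c50)) = (LP (LK LD1_c1 LD2_c20 LD3_c49)) :=
  Lgr Lrot5 (Lpr_ft (K2.f72855 IH) (Lpr_at (K2.f72814 IH) (Lpe (f60937 IH) (Lpn (LP (LK LD1_c1 LD2_c20 LD3_c49))))))
theorem f104803 : Led Lsl_df (LP (LK LD1_c2 LD2_c49 LD3_c19)) = (LP (LK LD1_c4 LD2_c59 LD3_c10)) :=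
  Lgr Lrot38 (Lpr_dt (f104799 IH) (Lpn (LP (LK LD1_c4 LD2_c59 LD3_c10))))
theorem f104786 : Led Lsl_bt (LP (LK LD1_c2 LD2_c27 LD3_c29)) = (LP (LK LD1_c4 LD2_c59 LD3_c10)) :=
  Lre_b IH (LK LD1_c2 LD2_c27 LD3_c29) (LK LD1_c4 LD2_c59 LD3_c10) Lrfl Lrfl
theorem f104805 : Led Lsl_dt (LP (LK LD1_c1 LD2_c20 LD3_c49)) = (LP (LK LD1_c2 LD2_c27 LD3_c29)) :=
  Lgr Lrot79 (Lpe (f60938 IH) (Lpr_df (f104803 IH) (Lpe (f104786 IH) (Lpn (LP (LK LD1_c2 LD2_c27 LD3_c29))))))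
theorem f40411 : Led Lsl_ct (LP (LK LD1_c2 LD2_c27 LD3_c29)) = (LP (LK LD1_c4 LD2_c59 LD3_c11)) :=
  Lre_c IH (LK LD1_c2 LD2_c27 LD3_c29) (LK LD1_c4 LD2_c59 LD3_c11) Lrfl Lrfl
theorem f104994 : Led Lsl_df (LP (LK LD1_c4 LD2_c59 LD3_c11)) = (LP (LK LD1_c9 LD2_c25 LD3_c49)) :=
  Lgr Lrot84 (Lpe (f40411 IH) (Lpe (f104805 IH) (Lpe (f72866 IH) (Lpr_df (K2.f74192 IH) (Lpe (f74198 IH) (Lpe (f74280 IH) (Lpr_gt (f79699 IH) (Lpr_dt (f72472 IH) (Lpr_gt (f104986 IH) (Lpn (LP (LK LD1_c9 LD2_c25 LD3_c49))))))))))))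
theorem f105000 : Led Lsl_dt (LP (LK LD1_c4 LD2_c59 LD3_c11)) = (LP (LK LD1_c9 LD2_c25 LD3_c49)) :=
  Lgr Lrot42 (Lpr_df (f104994 IH) (Lpn (LP (LK LD1_c9 LD2_c25 LD3_c49))))
theorem f26410 : Led Lsl_gt (LP (LK LD1_c4 LD2_c59 LD3_c15)) = (LP (LK LD1_c2 LD2_c27 LD3_c31)) :=
  Lre_g IH (LK LD1_c4 LD2_c59 LD3_c15) (LK LD1_c2 LD2_c27 LD3_c31) Lrfl Lrfl
theorem f105018 : Led Lsl_df (LP (LK LD1_c4 LD2_c59 LD3_c15)) = (LP (LK LD1_c9 LD2_c30 LD3_c18)) :=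
  Lgr Lrot155 (Lpr_gt (f26410 IH) (Lpr_ct (f26419 IH) (Lpr_gt (f26416 IH) (Lpr_ct (f40411 IH) (Lpr_dt (f105000 IH) (Lpe (f79306 IH) (Lpe (f104946 IH) (Lpe (K2.f72868 IH) (Lpr_gf (f105009 IH) (Lpn (LP (LK LD1_c9 LD2_c30 LD3_c18))))))))))))
theorem f26421 : Led Lsl_dt (LP (LK LD1_c2 LD2_c27 LD3_c31)) = (LP (LK LD1_c4 LD2_c46 LD3_c44)) :=
  Lre_d IH (LK LD1_c2 LD2_c27 LD3_c31) (LK LD1_c4 LD2_c46 LD3_c44) Lrfl Lrfl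
theorem f98914 : Led Lsl_ct (LP (LK LD1_c4 LD2_c46 LD3_c44)) = (LP (LK LD1_c2 LD2_c21 LD3_c17)) :=
  Lre_c IH (LK LD1_c4 LD2_c46 LD3_c44) (LK LD1_c2 LD2_c21 LD3_c17) Lrfl Lrfl
theorem f105023 : Led Lsl_dt (LP (LK LD1_c1 LD2_c7 LD3_c54)) = (LP (LK LD1_c2 LD2_c21 LD3_c17)) :=
  Lre_d IH (LK LD1_c1 LD2_c7 LD3_c54) (LK LD1_c2 LD2_c21 LD3_c17) Lrfl Lrfl
theorem f105024 : Led Lsl_gt (LP (LK LD1_c2 LD2_c21 LD3_c15)) = (LP (LK LD1_c1 LD2_c7 LD3_c54)) :=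
  Lre_g IH (LK LD1_c2 LD2_c21 LD3_c15) (LK LD1_c1 LD2_c7 LD3_c54) Lrfl Lrfl
theorem f105025 : Led Lsl_dt (LP (LK LD1_c4 LD2_c46 LD3_c38)) = (LP (LK LD1_c2 LD2_c21 LD3_c15)) :=
  Lre_d IH (LK LD1_c4 LD2_c46 LD3_c38) (LK LD1_c2 LD2_c21 LD3_c15) Lrfl Lrfl
theorem f105026 : Led Lsl_gf (LP (LK LD1_c4 LD2_c46 LD3_c38)) = (LP (LK LD1_c5 LD2_c58 LD3_c5)) :=
  Lgr Lrot144 (Lpr_dt (f105025 IH) (Lpr_gt (f105024 IH) (Lpr_dt (f105023 IH) (Lpe (f98914 IH) (Lpe (f26421 IH) (Lpe (f26410 IH) (Lpr_df (f105018 IH) (Lpe (f104984 IH) (Lpr_cf (K2.f74796 IH) (Lpn (LP (LK LD1_c5 LD2_c58 LD3_c5))))))))))))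
theorem f105037 : Led Lsl_ct (LP (LK LD1_c9 LD2_c25 LD3_c57)) = (LP (LK LD1_c4 LD2_c46 LD3_c38)) :=
  Lre_c IH (LK LD1_c9 LD2_c25 LD3_c57) (LK LD1_c4 LD2_c46 LD3_c38) Lrfl Lrfl
theorem f112610 : Led Lsl_bf (LP (LK LD1_c5 LD2_c56 LD3_c13)) = (LP (LK LD1_c9 LD2_c25 LD3_c57)) :=
  Lgr Lrot156 (Lpr_gt (f69448 IH) (Lpe (f112609 IH) (Lpe (f81778 IH) (Lpr_gt (f37457 IH) (Lpr_cf (f112599 IH) (Lpr_bt (f104931 IH) (Lpe (f104909 IH) (Lpr_ct (K2.f74791 IH) (Lpe (f105026 IH) (Lpe (f105037 IH) (Lpn (LP (LK LD1_c9 LD2_c25 LD3_c57)))))))))))))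
theorem f69447 : Led Lsl_ct (LP (LK LD1_c2 LD2_c54 LD3_c28)) = (LP (LK LD1_c1 LD2_c23 LD3_c12)) :=
  Lre_c IH (LK LD1_c2 LD2_c54 LD3_c28) (LK LD1_c1 LD2_c23 LD3_c12) Lrfl Lrfl
theorem f81782 : Led Lsl_gt (LP (LK LD1_c1 LD2_c23 LD3_c12)) = (LP (LK LD1_c2 LD2_c54 LD3_c26)) :=
  Lre_g IH (LK LD1_c1 LD2_c23 LD3_c12) (LK LD1_c2 LD2_c54 LD3_c26) Lrfl Lrfl
theorem f81797 : Led Lsl_ct (LP (LK LD1_c5 LD2_c56 LD3_c8)) = (LP (LK LD1_c2 LD2_c54 LD3_c26)) :=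
  Lre_c IH (LK LD1_c5 LD2_c56 LD3_c8) (LK LD1_c2 LD2_c54 LD3_c26) Lrfl Lrfl
theorem f112618 : Led Lsl_bt (LP (LK LD1_c5 LD2_c56 LD3_c8)) = (LP (LK LD1_c6 LD2_c29 LD3_c22)) :=
  Lgr Lrot22 (Lpr_ct (f81797 IH) (Lpe (f81782 IH) (Lpe (f69447 IH) (Lpe (f69448 IH) (Lpr_bf (f112610 IH) (Lpr_ct (f105037 IH) (Lpr_gf (f105026 IH) (Lpe (K2.f74791 IH) (Lpe (K2.f61532 IH) (Lpe (f61204 IH) (Lpn (LP (LK LD1_c6 LD2_c29 LD3_c22)))))))))))))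
theorem f79644 : Led Lsl_bt (LP (LK LD1_c3 LD2_c16 LD3_c3)) = (LP (LK LD1_c6 LD2_c35 LD3_c26)) :=
  Lre_b IH (LK LD1_c3 LD2_c16 LD3_c3) (LK LD1_c6 LD2_c35 LD3_c26) Lrfl Lrfl
theorem f112624 : Led Lsl_df (LP (LK LD1_c5 LD2_c56 LD3_c8)) = (LP (LK LD1_c6 LD2_c35 LD3_c26)) :=
  Lgr Lrot12 (Lpr_bt (f112618 IH) (Lpr_dt (f79636 IH) (Lpr_bt (f79644 IH) (Lpn (LP (LK LD1_c6 LD2_c35 LD3_c26))))))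
theorem f112865 : Led Lsl_dt (LP (LK LD1_c5 LD2_c56 LD3_c8)) = (LP (LK LD1_c6 LD2_c35 LD3_c26)) :=
  Lgr Lrot42 (Lpr_df (f112624 IH) (Lpn (LP (LK LD1_c6 LD2_c35 LD3_c26))))
theorem f81788 : Led Lsl_ct (LP (LK LD1_c2 LD2_c54 LD3_c26)) = (LP (LK LD1_c5 LD2_c56 LD3_c8)) :=
  Lre_c IH (LK LD1_c2 LD2_c54 LD3_c26) (LK LD1_c5 LD2_c56 LD3_c8) Lrfl Lrfl
theorem f7009 : Led Lsl_bt (LP (LK LD1_c0 LD2_c1 LD3_c6)) = (LP (LK LD1_c0 LD2_c2 LD3_c35)) :=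
  Lre_b IH (LK LD1_c0 LD2_c1 LD3_c6) (LK LD1_c0 LD2_c2 LD3_c35) Lrfl Lrfl
theorem f23391 : Led Lsl_bt (LP (LK LD1_c0 LD2_c28 LD3_c13)) = (LP (LK LD1_c1 LD2_c1 LD3_c50)) :=
  Lre_b IH (LK LD1_c0 LD2_c28 LD3_c13) (LK LD1_c1 LD2_c1 LD3_c50) Lrfl Lrfl
theorem f23392 : Led Lsl_gt (LP (LK LD1_c1 LD2_c1 LD3_c50)) = (LP (LK LD1_c2 LD2_c9 LD3_c22)) :=
  Lre_g IH (LK LD1_c1 LD2_c1 LD3_c50) (LK LD1_c2 LD2_c9 LD3_c22) Lrfl Lrfl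
theorem f112626 : Led Lsl_df (LP (LK LD1_c2 LD2_c54 LD3_c26)) = (LP (LK LD1_c2 LD2_c9 LD3_c22)) :=
  Lgr Lrot183 (Lpr_ct (f81788 IH) (Lpr_bt (f112618 IH) (Lpr_gt (f61204 IH) (Lpr_dt (K2.f61203 IH) (Lpr_ct (K2.f61202 IH) (Lpr_bt (K2.f61001 IH) (Lpe (K1.f61009 IH) (Lpr_dt (K1.f23380 IH) (Lpr_ct (K0.f23345 IH) (Lpe (K0.f23377 IH) (Lpr_gt (K0.f1463 IH) (Lpr_dt (K1.f7001 IH) (Lpr_ct (K0.f7004 IH) (Lpr_bt (f7009 IH) (Lpr_gt (K1.f16635 IH) (Lpr_dt (K1.f16636 IH) (Lpr_ct (K1.f23390 IH) (Lpr_bt (f23391 IH) (Lpr_gt (f23392 IH) (Lpn (LP (LK LD1_c2 LD2_c9 LD3_c22))))))))))))))))))))))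
theorem f117540 : Led Lsl_ct (LP (LK LD1_c2 LD2_c49 LD3_c50)) = (LP (LK LD1_c2 LD2_c9 LD3_c22)) :=
  Lgr Lrot133 (Lpe (f117520 IH) (Lpr_ft (f117526 IH) (Lpr_at (f24061 IH) (Lpr_cf (f24064 IH) (Lpr_df (f112264 IH) (Lpe (f60981 IH) (Lpe (f112865 IH) (Lpe (f81788 IH) (Lpr_df (f112626 IH) (Lpn (LP (LK LD1_c2 LD2_c9 LD3_c22))))))))))))
theorem f117532 : Led Lsl_dt (LP (LK LD1_c2 LD2_c49 LD3_c50)) = (LP (LK LD1_c5 LD2_c47 LD3_c44)) :=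
  Lre_d IH (LK LD1_c2 LD2_c49 LD3_c50) (LK LD1_c5 LD2_c47 LD3_c44) Lrfl Lrfl
theorem f117533 : Led Lsl_ff (LP (LK LD1_c2 LD2_c49 LD3_c50)) = (LP (LK LD1_c3 LD2_c9 LD3_c51)) :=
  Lgr Lrot19 (Lpr_dt (f117532 IH) (Lpr_ft (f117526 IH) (Lpe (f117508 IH) (Lpn (LP (LK LD1_c3 LD2_c9 LD3_c51))))))
theorem f117545 : Led Lsl_ff (LP (LK LD1_c1 LD2_c31 LD3_c4)) = (LP (LK LD1_c2 LD2_c9 LD3_c22)) :=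
  Lgr Lrot23 (Lpr_ct (f79077 IH) (Lpe (f117533 IH) (Lpr_ct (f117540 IH) (Lpn (LP (LK LD1_c2 LD2_c9 LD3_c22))))))
theorem f24062 : Led Lsl_bt (LP (LK LD1_c1 LD2_c21 LD3_c59)) = (LP (LK LD1_c2 LD2_c51 LD3_c50)) :=
  Lre_b IH (LK LD1_c1 LD2_c21 LD3_c59) (LK LD1_c2 LD2_c51 LD3_c50) Lrfl Lrfl
theorem f112927 : Led Lsl_dt (LP (LK LD1_c2 LD2_c51 LD3_c50)) = (LP (LK LD1_c2 LD2_c14 LD3_c7)) :=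
  Lgr Lrot79 (Lpe (f24062 IH) (Lpr_df (f112111 IH) (Lpe (f20210 IH) (Lpn (LP (LK LD1_c2 LD2_c14 LD3_c7))))))
theorem f117554 : Led Lsl_at (LP (LK LD1_c1 LD2_c31 LD3_c4)) = (LP (LK LD1_c2 LD2_c9 LD3_c23)) :=
  Lgr Lrot33 (Lpr_ff (f117545 IH) (Lpe (f112626 IH) (Lpr_ct (f81788 IH) (Lpr_dt (f112865 IH) (Lpr_ct (f60981 IH) (Lpe (f112264 IH) (Lpe (f24064 IH) (Lpr_dt (f112927 IH) (Lpr_ct (f36533 IH) (Lpn (LP (LK LD1_c2 LD2_c9 LD3_c23))))))))))))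
theorem f117556 : Led Lsl_af (LP (LK LD1_c1 LD2_c31 LD3_c4)) = (LP (LK LD1_c2 LD2_c9 LD3_c23)) :=
  Lgr Lrot0 (Lpr_at (f117554 IH) (Lpn (LP (LK LD1_c2 LD2_c9 LD3_c23))))
theorem f69211 : Led Lsl_gt (LP (LK LD1_c1 LD2_c31 LD3_c5)) = (LP (LK LD1_c0 LD2_c42 LD3_c1)) :=
  Lre_g IH (LK LD1_c1 LD2_c31 LD3_c5) (LK LD1_c0 LD2_c42 LD3_c1) Lrfl Lrfl
theorem f117601 : Led Lsl_ft (LP (LK LD1_c1 LD2_c31 LD3_c5)) = (LP (LK LD1_c2 LD2_c9 LD3_c23)) :=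
  Lgr Lrot2 (Lpr_gt (f69211 IH) (Lpr_gt (f36321 IH) (Lpr_af (f117556 IH) (Lpn (LP (LK LD1_c2 LD2_c9 LD3_c23))))))
theorem f117611 : Led Lsl_ff (LP (LK LD1_c1 LD2_c31 LD3_c5)) = (LP (LK LD1_c2 LD2_c9 LD3_c23)) :=
  Lgr Lrot3 (Lpr_ft (f117601 IH) (Lpn (LP (LK LD1_c2 LD2_c9 LD3_c23))))
theorem f117613 : Led Lsl_at (LP (LK LD1_c1 LD2_c31 LD3_c5)) = (LP (LK LD1_c2 LD2_c9 LD3_c22)) :=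
  Lgr Lrot66 (Lpr_ff (f117611 IH) (Lpe (f117554 IH) (Lpr_ff (f117545 IH) (Lpn (LP (LK LD1_c2 LD2_c9 LD3_c22))))))
theorem f75518 : Led Lsl_dt (LP (LK LD1_c3 LD2_c9 LD3_c55)) = (LP (LK LD1_c1 LD2_c31 LD3_c5)) :=
  Lre_d IH (LK LD1_c3 LD2_c9 LD3_c55) (LK LD1_c1 LD2_c31 LD3_c5) Lrfl Lrfl
theorem f117627 : Led Lsl_af (LP (LK LD1_c3 LD2_c9 LD3_c55)) = (LP (LK LD1_c2 LD2_c54 LD3_c26)) :=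
  Lgr Lrot117 (Lpr_dt (f75518 IH) (Lpr_at (f117613 IH) (Lpe (f112626 IH) (Lpn (LP (LK LD1_c2 LD2_c54 LD3_c26))))))
theorem f117638 : Led Lsl_at (LP (LK LD1_c3 LD2_c9 LD3_c55)) = (LP (LK LD1_c2 LD2_c54 LD3_c26)) :=
  Lgr Lrot100 (Lpr_af (f117627 IH) (Lpn (LP (LK LD1_c2 LD2_c54 LD3_c26))))
theorem f81783 : Led Lsl_gt (LP (LK LD1_c2 LD2_c54 LD3_c27)) = (LP (LK LD1_c1 LD2_c23 LD3_c12)) :=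
  Lre_g IH (LK LD1_c2 LD2_c54 LD3_c27) (LK LD1_c1 LD2_c23 LD3_c12) Lrfl Lrfl
theorem f119648 : Led Lsl_ff (LP (LK LD1_c3 LD2_c9 LD3_c55)) = (LP (LK LD1_c2 LD2_c54 LD3_c27)) :=
  Lgr Lrot52 (Lpr_at (f117638 IH) (Lpe (f81782 IH) (Lpe (f81783 IH) (Lpn (LP (LK LD1_c2 LD2_c54 LD3_c27))))))
theorem f60980 : Led Lsl_ct (LP (LK LD1_c3 LD2_c16 LD3_c4)) = (LP (LK LD1_c6 LD2_c35 LD3_c26)) :=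
  Lre_c IH (LK LD1_c3 LD2_c16 LD3_c4) (LK LD1_c6 LD2_c35 LD3_c26) Lrfl Lrfl
theorem f112266 : Led Lsl_dt (LP (LK LD1_c2 LD2_c54 LD3_c40)) = (LP (LK LD1_c3 LD2_c16 LD3_c4)) :=
  Lgr Lrot42 (Lpr_df (f112264 IH) (Lpn (LP (LK LD1_c3 LD2_c16 LD3_c4))))
theorem f119650 : Led Lsl_dt (LP (LK LD1_c2 LD2_c54 LD3_c27)) = (LP (LK LD1_c2 LD2_c9 LD3_c23)) :=
  Lgr Lrot159 (Lpe (f119648 IH) (Lpr_at (f117638 IH) (Lpe (f81797 IH) (Lpr_df (f112624 IH) (Lpe (f60980 IH) (Lpe (f112266 IH) (Lpe (f24057 IH) (Lpr_df (f112934 IH) (Lpr_cf (f36539 IH) (Lpn (LP (LK LD1_c2 LD2_c9 LD3_c23))))))))))))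
theorem f112689 : Led Lsl_ct (LP (LK LD1_c5 LD2_c56 LD3_c10)) = (LP (LK LD1_c2 LD2_c54 LD3_c27)) :=
  Lre_c IH (LK LD1_c5 LD2_c56 LD3_c10) (LK LD1_c2 LD2_c54 LD3_c27) Lrfl Lrfl
theorem f112834 : Led Lsl_dt (LP (LK LD1_c2 LD2_c54 LD3_c26)) = (LP (LK LD1_c2 LD2_c9 LD3_c22)) :=
  Lgr Lrot42 (Lpr_df (f112626 IH) (Lpn (LP (LK LD1_c2 LD2_c9 LD3_c22))))
theorem f117549 : Led Lsl_ft (LP (LK LD1_c3 LD2_c9 LD3_c52)) = (LP (LK LD1_c2 LD2_c54 LD3_c26)) :=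
  Lgr Lrot54 (Lpe (f36322 IH) (Lpr_ff (f117545 IH) (Lpe (f112834 IH) (Lpn (LP (LK LD1_c2 LD2_c54 LD3_c26))))))
theorem f35669 : Led Lsl_ct (LP (LK LD1_c3 LD2_c57 LD3_c44)) = (LP (LK LD1_c7 LD2_c56 LD3_c51)) :=
  Lre_c IH (LK LD1_c3 LD2_c57 LD3_c44) (LK LD1_c7 LD2_c56 LD3_c51) Lrfl Lrfl
theorem f35755 : Led Lsl_bt (LP (LK LD1_c3 LD2_c57 LD3_c44)) = (LP (LK LD1_c1 LD2_c55 LD3_c38)) :=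
  Lre_b IH (LK LD1_c3 LD2_c57 LD3_c44) (LK LD1_c1 LD2_c55 LD3_c38) Lrfl Lrfl
theorem f38243 : Led Lsl_bt (LP (LK LD1_c1 LD2_c2 LD3_c9)) = (LP (LK LD1_c2 LD2_c10 LD3_c5)) :=
  Lre_b IH (LK LD1_c1 LD2_c2 LD3_c9) (LK LD1_c2 LD2_c10 LD3_c5) Lrfl Lrfl
theorem f38244 : Led Lsl_gt (LP (LK LD1_c2 LD2_c10 LD3_c5)) = (LP (LK LD1_c4 LD2_c25 LD3_c22)) :=
  Lre_g IH (LK LD1_c2 LD2_c10 LD3_c5) (LK LD1_c4 LD2_c25 LD3_c22) Lrfl Lrfl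
theorem f38247 : Led Lsl_bt (LP (LK LD1_c8 LD2_c48 LD3_c14)) = (LP (LK LD1_c4 LD2_c25 LD3_c22)) :=
  Lre_b IH (LK LD1_c8 LD2_c48 LD3_c14) (LK LD1_c4 LD2_c25 LD3_c22) Lrfl Lrfl
theorem f112414 : Led Lsl_ct (LP (LK LD1_c8 LD2_c48 LD3_c14)) = (LP (LK LD1_c5 LD2_c59 LD3_c49)) :=
  Lgr Lrot64 (Lpr_bt (f38247 IH) (Lpe (f38244 IH) (Lpe (f38243 IH) (Lpr_ct (K1.f38002 IH) (Lpr_gf (K2.f80321 IH) (Lpr_cf (K2.f80305 IH) (Lpe (K2.f80315 IH) (Lpe (f35755 IH) (Lpr_ct (f35669 IH) (Lpr_gf (f112403 IH) (Lpn (LP (LK LD1_c5 LD2_c59 LD3_c49)))))))))))))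
theorem f112423 : Led Lsl_cf (LP (LK LD1_c8 LD2_c48 LD3_c14)) = (LP (LK LD1_c5 LD2_c59 LD3_c49)) :=
  Lgr Lrot11 (Lpr_ct (f112414 IH) (Lpn (LP (LK LD1_c5 LD2_c59 LD3_c49))))
theorem f38245 : Led Lsl_ct (LP (LK LD1_c4 LD2_c25 LD3_c22)) = (LP (LK LD1_c8 LD2_c48 LD3_c15)) :=
  Lre_c IH (LK LD1_c4 LD2_c25 LD3_c22) (LK LD1_c8 LD2_c48 LD3_c15) Lrfl Lrfl
theorem f112426 : Led Lsl_bt (LP (LK LD1_c8 LD2_c48 LD3_c15)) = (LP (LK LD1_c4 LD2_c59 LD3_c43)) :=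
  Lgr Lrot128 (Lpe (f38245 IH) (Lpe (f38247 IH) (Lpr_cf (f112423 IH) (Lpe (f72716 IH) (Lpr_cf (K2.f72642 IH) (Lpn (LP (LK LD1_c4 LD2_c59 LD3_c43))))))))
theorem f70382 : Led Lsl_ct (LP (LK LD1_c8 LD2_c48 LD3_c15)) = (LP (LK LD1_c4 LD2_c25 LD3_c22)) :=
  Lre_c IH (LK LD1_c8 LD2_c48 LD3_c15) (LK LD1_c4 LD2_c25 LD3_c22) Lrfl Lrfl
theorem f38233 : Led Lsl_ct (LP (LK LD1_c4 LD2_c25 LD3_c24)) = (LP (LK LD1_c2 LD2_c10 LD3_c5)) :=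
  Lre_c IH (LK LD1_c4 LD2_c25 LD3_c24) (LK LD1_c2 LD2_c10 LD3_c5) Lrfl Lrfl
theorem f38516 : Led Lsl_gt (LP (LK LD1_c8 LD2_c48 LD3_c19)) = (LP (LK LD1_c4 LD2_c25 LD3_c24)) :=
  Lre_g IH (LK LD1_c8 LD2_c48 LD3_c19) (LK LD1_c4 LD2_c25 LD3_c24) Lrfl Lrfl
theorem f61789 : Led Lsl_bt (LP (LK LD1_c6 LD2_c18 LD3_c26)) = (LP (LK LD1_c12 LD2_c12 LD3_c53)) :=
  Lre_b IH (LK LD1_c6 LD2_c18 LD3_c26) (LK LD1_c12 LD2_c12 LD3_c53) Lrfl Lrfl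
theorem f76501 : Led Lsl_ff (LP (LK LD1_c12 LD2_c12 LD3_c36)) = (LP (LK LD1_c12 LD2_c12 LD3_c53)) :=
  Lgr Lrot25 (Lpr_bt (K2.f76422 IH) (Lpr_ft (f76499 IH) (Lpr_bt (f61789 IH) (Lpn (LP (LK LD1_c12 LD2_c12 LD3_c53))))))
theorem f76413 : Led Lsl_dt (LP (LK LD1_c12 LD2_c12 LD3_c36)) = (LP (LK LD1_c6 LD2_c18 LD3_c13)) :=
  Lre_d IH (LK LD1_c12 LD2_c12 LD3_c36) (LK LD1_c6 LD2_c18 LD3_c13) Lrfl Lrfl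
theorem f61581 : Led Lsl_at (LP (LK LD1_c6 LD2_c29 LD3_c16)) = (LP (LK LD1_c11 LD2_c24 LD3_c12)) :=
  Lgr Lrot100 (Lpr_af (K2.f61529 IH) (Lpn (LP (LK LD1_c11 LD2_c24 LD3_c12))))
theorem f76397 : Led Lsl_ff (LP (LK LD1_c6 LD2_c29 LD3_c16)) = (LP (LK LD1_c6 LD2_c18 LD3_c13)) :=
  Lgr Lrot30 (Lpr_at (f61581 IH) (Lpr_ft (K2.f74285 IH) (Lpr_at (K2.f74497 IH) (Lpn (LP (LK LD1_c6 LD2_c18 LD3_c13))))))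
theorem f76519 : Led Lsl_dt (LP (LK LD1_c6 LD2_c29 LD3_c16)) = (LP (LK LD1_c12 LD2_c12 LD3_c53)) :=
  Lgr Lrot60 (Lpr_ff (f76397 IH) (Lpe (f76413 IH) (Lpr_ff (f76501 IH) (Lpn (LP (LK LD1_c12 LD2_c12 LD3_c53))))))
theorem f67017 : Led Lsl_ct (LP (LK LD1_c6 LD2_c19 LD3_c0)) = (LP (LK LD1_c6 LD2_c29 LD3_c16)) :=
  Lgr Lrot59 (Lpr_cf (K2.f67015 IH) (Lpn (LP (LK LD1_c6 LD2_c29 LD3_c16))))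
theorem f66874 : Led Lsl_df (LP (LK LD1_c6 LD2_c19 LD3_c0)) = (LP (LK LD1_c7 LD2_c1 LD3_c57)) :=
  Lgr Lrot38 (Lpr_dt (K2.f66871 IH) (Lpn (LP (LK LD1_c7 LD2_c1 LD3_c57))))
theorem f58403 : Led Lsl_dt (LP (LK LD1_c6 LD2_c9 LD3_c48)) = (LP (LK LD1_c3 LD2_c30 LD3_c12)) :=
  Lre_d IH (LK LD1_c6 LD2_c9 LD3_c48) (LK LD1_c3 LD2_c30 LD3_c12) Lrfl Lrfl
theorem f58407 : Led Lsl_ft (LP (LK LD1_c6 LD2_c9 LD3_c48)) = (LP (LK LD1_c3 LD2_c1 LD3_c42)) :=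
  Lre_f IH (LK LD1_c6 LD2_c9 LD3_c48) (LK LD1_c3 LD2_c1 LD3_c42) Lrfl Lrfl
theorem f66889 : Led Lsl_at (LP (LK LD1_c3 LD2_c1 LD3_c42)) = (LP (LK LD1_c6 LD2_c10 LD3_c10)) :=
  Lre_a IH (LK LD1_c3 LD2_c1 LD3_c42) (LK LD1_c6 LD2_c10 LD3_c10) Lrfl Lrfl
theorem f66890 : Led Lsl_ct (LP (LK LD1_c9 LD2_c15 LD3_c61)) = (LP (LK LD1_c6 LD2_c10 LD3_c10)) :=
  Lre_c IH (LK LD1_c9 LD2_c15 LD3_c61) (LK LD1_c6 LD2_c10 LD3_c10) Lrfl Lrfl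
theorem f75214 : Led Lsl_dt (LP (LK LD1_c5 LD2_c58 LD3_c4)) = (LP (LK LD1_c11 LD2_c40 LD3_c49)) :=
  Lre_d IH (LK LD1_c5 LD2_c58 LD3_c4) (LK LD1_c11 LD2_c40 LD3_c49) Lrfl Lrfl
theorem f74948 : Led Lsl_bt (LP (LK LD1_c4 LD2_c40 LD3_c36)) = (LP (LK LD1_c9 LD2_c15 LD3_c61)) :=
  Lre_b IH (LK LD1_c4 LD2_c40 LD3_c36) (LK LD1_c9 LD2_c15 LD3_c61) Lrfl Lrfl
theorem f74949 : Led Lsl_bt (LP (LK LD1_c5 LD2_c58 LD3_c4)) = (LP (LK LD1_c2 LD2_c55 LD3_c26)) :=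
  Lre_b IH (LK LD1_c5 LD2_c58 LD3_c4) (LK LD1_c2 LD2_c55 LD3_c26) Lrfl Lrfl
theorem f74950 : Led Lsl_ft (LP (LK LD1_c9 LD2_c15 LD3_c61)) = (LP (LK LD1_c5 LD2_c58 LD3_c4)) :=
  Lgr Lrot75 (Lpe (f74948 IH) (Lpr_ff (K2.f74940 IH) (Lpe (f74949 IH) (Lpn (LP (LK LD1_c5 LD2_c58 LD3_c4))))))
theorem f75215 : Led Lsl_df (LP (LK LD1_c9 LD2_c15 LD3_c61)) = (LP (LK LD1_c11 LD2_c45 LD3_c26)) :=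
  Lgr Lrot78 (Lpr_ft (f74950 IH) (Lpr_dt (f75214 IH) (Lpr_ft (K2.f75205 IH) (Lpn (LP (LK LD1_c11 LD2_c45 LD3_c26))))))
theorem f76523 : Led Lsl_cf (LP (LK LD1_c11 LD2_c45 LD3_c26)) = (LP (LK LD1_c12 LD2_c12 LD3_c53)) :=
  Lgr Lrot161 (Lpe (f75215 IH) (Lpr_ct (f66890 IH) (Lpe (f66889 IH) (Lpe (f58407 IH) (Lpr_dt (f58403 IH) (Lpr_ct (K2.f18269 IH) (Lpe (f66874 IH) (Lpr_ct (f67017 IH) (Lpr_dt (f76519 IH) (Lpn (LP (LK LD1_c12 LD2_c12 LD3_c53))))))))))))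
theorem f75213 : Led Lsl_bt (LP (LK LD1_c11 LD2_c45 LD3_c26)) = (LP (LK LD1_c6 LD2_c0 LD3_c33)) :=
  Lre_b IH (LK LD1_c11 LD2_c45 LD3_c26) (LK LD1_c6 LD2_c0 LD3_c33) Lrfl Lrfl
theorem f75154 : Led Lsl_cf (LP (LK LD1_c5 LD2_c51 LD3_c34)) = (LP (LK LD1_c6 LD2_c0 LD3_c33)) :=
  Lgr Lrot1 (Lpe (f74265 IH) (Lpr_ct (K2.f72868 IH) (Lpr_at (K2.f75141 IH) (Lpn (LP (LK LD1_c6 LD2_c0 LD3_c33))))))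
theorem f76525 : Led Lsl_bt (LP (LK LD1_c5 LD2_c51 LD3_c34)) = (LP (LK LD1_c3 LD2_c6 LD3_c28)) :=
  Lgr Lrot128 (Lpr_cf (f75154 IH) (Lpe (f75213 IH) (Lpr_cf (f76523 IH) (Lpe (f61789 IH) (Lpe (K2.f25102 IH) (Lpn (LP (LK LD1_c3 LD2_c6 LD3_c28))))))))
theorem f76527 : Led Lsl_bf (LP (LK LD1_c5 LD2_c51 LD3_c34)) = (LP (LK LD1_c3 LD2_c6 LD3_c28)) :=
  Lgr Lrot24 (Lpr_bt (f76525 IH) (Lpn (LP (LK LD1_c3 LD2_c6 LD3_c28))))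
theorem f112432 : Led Lsl_bf (LP (LK LD1_c8 LD2_c48 LD3_c19)) = (LP (LK LD1_c6 LD2_c18 LD3_c4)) :=
  Lgr Lrot165 (Lpr_gt (f38516 IH) (Lpr_ct (f38233 IH) (Lpr_gt (f38244 IH) (Lpe (f70382 IH) (Lpr_bt (f112426 IH) (Lpe (f75134 IH) (Lpr_bf (f76527 IH) (Lpr_ct (K2.f25102 IH) (Lpr_gt (K2.f79048 IH) (Lpr_cf (K3.f78733 IH) (Lpn (LP (LK LD1_c6 LD2_c18 LD3_c4)))))))))))))
theorem f38232 : Led Lsl_bt (LP (LK LD1_c2 LD2_c10 LD3_c5)) = (LP (LK LD1_c1 LD2_c2 LD3_c9)) :=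
  Lre_b IH (LK LD1_c2 LD2_c10 LD3_c5) (LK LD1_c1 LD2_c2 LD3_c9) Lrfl Lrfl
theorem f36154 : Led Lsl_bt (LP (LK LD1_c1 LD2_c1 LD3_c61)) = (LP (LK LD1_c2 LD2_c9 LD3_c47)) :=
  Lre_b IH (LK LD1_c1 LD2_c1 LD3_c61) (LK LD1_c2 LD2_c9 LD3_c47) Lrfl Lrfl
theorem f38234 : Led Lsl_bf (LP (LK LD1_c4 LD2_c25 LD3_c24)) = (LP (LK LD1_c4 LD2_c24 LD3_c36)) :=
  Lgr Lrot90 (Lpr_ct (f38233 IH) (Lpr_bt (f38232 IH) (Lpr_ct (K1.f38002 IH) (Lpr_bt (f36154 IH) (Lpr_ct (K2.f35225 IH) (Lpn (LP (LK LD1_c4 LD2_c24 LD3_c36))))))))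
theorem f35233 : Led Lsl_ct (LP (LK LD1_c4 LD2_c24 LD3_c36)) = (LP (LK LD1_c2 LD2_c9 LD3_c47)) :=
  Lre_c IH (LK LD1_c4 LD2_c24 LD3_c36) (LK LD1_c2 LD2_c9 LD3_c47) Lrfl Lrfl
theorem f112440 : Led Lsl_gt (LP (LK LD1_c2 LD2_c9 LD3_c47)) = (LP (LK LD1_c3 LD2_c9 LD3_c52)) :=
  Lgr Lrot65 (Lpe (f35233 IH) (Lpe (f38234 IH) (Lpe (f38516 IH) (Lpr_bf (f112432 IH) (Lpe (K3.f78733 IH) (Lpe (K2.f79048 IH) (Lpe (K2.f25102 IH) (Lpr_gf (K2.f79044 IH) (Lpe (f79052 IH) (Lpr_ct (f79054 IH) (Lpn (LP (LK LD1_c3 LD2_c9 LD3_c52)))))))))))))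
theorem f81776 : Led Lsl_at (LP (LK LD1_c1 LD2_c23 LD3_c12)) = (LP (LK LD1_c2 LD2_c54 LD3_c15)) :=
  Lre_a IH (LK LD1_c1 LD2_c23 LD3_c12) (LK LD1_c2 LD2_c54 LD3_c15) Lrfl Lrfl
theorem f112442 : Led Lsl_gf (LP (LK LD1_c2 LD2_c54 LD3_c15)) = (LP (LK LD1_c3 LD2_c9 LD3_c52)) :=
  Lgr Lrot76 (Lpe (f81776 IH) (Lpe (K2.f81793 IH) (Lpr_gt (f112440 IH) (Lpn (LP (LK LD1_c3 LD2_c9 LD3_c52))))))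
theorem f117644 : Led Lsl_gf (LP (LK LD1_c3 LD2_c9 LD3_c55)) = (LP (LK LD1_c2 LD2_c54 LD3_c15)) :=
  Lgr Lrot76 (Lpr_af (f117627 IH) (Lpe (f117549 IH) (Lpe (f112442 IH) (Lpn (LP (LK LD1_c2 LD2_c54 LD3_c15))))))
theorem f71883 : Led Lsl_ct (LP (LK LD1_c5 LD2_c55 LD3_c47)) = (LP (LK LD1_c2 LD2_c54 LD3_c15)) :=
  Lre_c IH (LK LD1_c5 LD2_c55 LD3_c47) (LK LD1_c2 LD2_c54 LD3_c15) Lrfl Lrfl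
theorem f71884 : Led Lsl_ft (LP (LK LD1_c2 LD2_c54 LD3_c15)) = (LP (LK LD1_c4 LD2_c24 LD3_c35)) :=
  Lgr Lrot4 (Lpe (f71883 IH) (Lpr_ff (K2.f71874 IH) (Lpe (K2.f35293 IH) (Lpn (LP (LK LD1_c4 LD2_c24 LD3_c35))))))
theorem f117647 : Led Lsl_gt (LP (LK LD1_c3 LD2_c9 LD3_c55)) = (LP (LK LD1_c2 LD2_c9 LD3_c47)) :=
  Lgr Lrot46 (Lpr_gf (f117644 IH) (Lpr_ft (f71884 IH) (Lpr_at (K1.f36142 IH) (Lpn (LP (LK LD1_c2 LD2_c9 LD3_c47))))))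
theorem f59714 : Led Lsl_ct (LP (LK LD1_c0 LD2_c42 LD3_c1)) = (LP (LK LD1_c0 LD2_c18 LD3_c49)) :=
  Lre_c IH (LK LD1_c0 LD2_c42 LD3_c1) (LK LD1_c0 LD2_c18 LD3_c49) Lrfl Lrfl
theorem f68538 : Led Lsl_gt (LP (LK LD1_c0 LD2_c18 LD3_c49)) = (LP (LK LD1_c0 LD2_c42 LD3_c6)) :=
  Lre_g IH (LK LD1_c0 LD2_c18 LD3_c49) (LK LD1_c0 LD2_c42 LD3_c6) Lrfl Lrfl
theorem f69209 : Led Lsl_ct (LP (LK LD1_c0 LD2_c42 LD3_c6)) = (LP (LK LD1_c1 LD2_c31 LD3_c15)) :=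
  Lre_c IH (LK LD1_c0 LD2_c42 LD3_c6) (LK LD1_c1 LD2_c31 LD3_c15) Lrfl Lrfl
theorem f116806 : Led Lsl_dt (LP (LK LD1_c1 LD2_c31 LD3_c15)) = (LP (LK LD1_c3 LD2_c10 LD3_c12)) :=
  Lre_d IH (LK LD1_c1 LD2_c31 LD3_c15) (LK LD1_c3 LD2_c10 LD3_c12) Lrfl Lrfl
theorem f116790 : Led Lsl_ct (LP (LK LD1_c6 LD2_c25 LD3_c5)) = (LP (LK LD1_c3 LD2_c10 LD3_c12)) :=
  Lre_c IH (LK LD1_c6 LD2_c25 LD3_c5) (LK LD1_c3 LD2_c10 LD3_c12) Lrfl Lrfl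
theorem f117670 : Led Lsl_gf (LP (LK LD1_c6 LD2_c25 LD3_c5)) = (LP (LK LD1_c4 LD2_c24 LD3_c36)) :=
  Lgr Lrot104 (Lpr_ct (f116790 IH) (Lpe (f116806 IH) (Lpe (f69209 IH) (Lpe (f68538 IH) (Lpe (f59714 IH) (Lpe (f69211 IH) (Lpe (f75518 IH) (Lpr_gt (f117647 IH) (Lpr_ct (K2.f35225 IH) (Lpn (LP (LK LD1_c4 LD2_c24 LD3_c36))))))))))))
theorem f71892 : Led Lsl_at (LP (LK LD1_c2 LD2_c54 LD3_c28)) = (LP (LK LD1_c5 LD2_c55 LD3_c47)) :=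
  Lre_a IH (LK LD1_c2 LD2_c54 LD3_c28) (LK LD1_c5 LD2_c55 LD3_c47) Lrfl Lrfl
theorem f71893 : Led Lsl_ff (LP (LK LD1_c2 LD2_c54 LD3_c28)) = (LP (LK LD1_c4 LD2_c24 LD3_c36)) :=
  Lgr Lrot30 (Lpr_at (f71892 IH) (Lpr_ft (K2.f71887 IH) (Lpr_at (K2.f35228 IH) (Lpn (LP (LK LD1_c4 LD2_c24 LD3_c36))))))
theorem f117676 : Led Lsl_gt (LP (LK LD1_c6 LD2_c25 LD3_c5)) = (LP (LK LD1_c5 LD2_c55 LD3_c47)) :=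
  Lgr Lrot46 (Lpr_gf (f117670 IH) (Lpe (f71893 IH) (Lpr_at (f71892 IH) (Lpn (LP (LK LD1_c5 LD2_c55 LD3_c47))))))
theorem f56759 : Led Lsl_bt (LP (LK LD1_c0 LD2_c38 LD3_c55)) = (LP (LK LD1_c0 LD2_c17 LD3_c17)) :=
  Lre_b IH (LK LD1_c0 LD2_c38 LD3_c55) (LK LD1_c0 LD2_c17 LD3_c17) Lrfl Lrfl
theorem f56779 : Led Lsl_ct (LP (LK LD1_c1 LD2_c24 LD3_c23)) = (LP (LK LD1_c0 LD2_c38 LD3_c55)) :=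
  Lre_c IH (LK LD1_c1 LD2_c24 LD3_c23) (LK LD1_c0 LD2_c38 LD3_c55) Lrfl Lrfl
theorem f64481 : Led Lsl_dt (LP (LK LD1_c2 LD2_c57 LD3_c16)) = (LP (LK LD1_c1 LD2_c24 LD3_c23)) :=
  Lre_d IH (LK LD1_c2 LD2_c57 LD3_c16) (LK LD1_c1 LD2_c24 LD3_c23) Lrfl Lrfl
theorem f57111 : Led Lsl_bt (LP (LK LD1_c0 LD2_c44 LD3_c12)) = (LP (LK LD1_c1 LD2_c35 LD3_c1)) :=
  Lre_b IH (LK LD1_c0 LD2_c44 LD3_c12) (LK LD1_c1 LD2_c35 LD3_c1) Lrfl Lrfl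
theorem f64482 : Led Lsl_gf (LP (LK LD1_c2 LD2_c57 LD3_c16)) = (LP (LK LD1_c1 LD2_c35 LD3_c1)) :=
  Lgr Lrot85 (Lpr_dt (f64481 IH) (Lpr_ct (f56779 IH) (Lpr_bt (f56759 IH) (Lpr_gt (K1.f13545 IH) (Lpr_dt (K0.f23901 IH) (Lpr_ct (K0.f8330 IH) (Lpr_bt (K1.f37329 IH) (Lpr_gt (K1.f7031 IH) (Lpr_dt (K1.f37737 IH) (Lpr_ct (K0.f8176 IH) (Lpe (K0.f8169 IH) (Lpq (K0.f26331 IH) (Lpe (K0.f7097 IH) (Lpr_dt (K0.f7074 IH) (Lpr_ct (K0.f7099 IH) (Lpr_bt (K1.f7105 IH) (Lpr_gt (K1.f7106 IH) (Lpr_dt (K1.f64294 IH) (Lpr_ct (K2.f64252 IH) (Lpr_bt (f57111 IH) (Lpn (LP (LK LD1_c1 LD2_c35 LD3_c1)))))))))))))))))))))))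
theorem f64542 : Led Lsl_ct (LP (LK LD1_c2 LD2_c57 LD3_c16)) = (LP (LK LD1_c6 LD2_c2 LD3_c21)) :=
  Lre_c IH (LK LD1_c2 LD2_c57 LD3_c16) (LK LD1_c6 LD2_c2 LD3_c21) Lrfl Lrfl
theorem f57108 : Led Lsl_bt (LP (LK LD1_c0 LD2_c19 LD3_c45)) = (LP (LK LD1_c0 LD2_c44 LD3_c19)) :=
  Lre_b IH (LK LD1_c0 LD2_c19 LD3_c45) (LK LD1_c0 LD2_c44 LD3_c19) Lrfl Lrfl
theorem f56857 : Led Lsl_gt (LP (LK LD1_c1 LD2_c35 LD3_c25)) = (LP (LK LD1_c0 LD2_c44 LD3_c19)) :=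
  Lre_g IH (LK LD1_c1 LD2_c35 LD3_c25) (LK LD1_c0 LD2_c44 LD3_c19) Lrfl Lrfl
theorem f57069 : Led Lsl_bt (LP (LK LD1_c3 LD2_c17 LD3_c45)) = (LP (LK LD1_c1 LD2_c35 LD3_c25)) :=
  Lre_b IH (LK LD1_c3 LD2_c17 LD3_c45) (LK LD1_c1 LD2_c35 LD3_c25) Lrfl Lrfl
theorem f24317 : Led Lsl_bt (LP (LK LD1_c0 LD2_c8 LD3_c55)) = (LP (LK LD1_c0 LD2_c19 LD3_c53)) :=
  Lre_b IH (LK LD1_c0 LD2_c8 LD3_c55) (LK LD1_c0 LD2_c19 LD3_c53) Lrfl Lrfl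
theorem f24318 : Led Lsl_gt (LP (LK LD1_c0 LD2_c19 LD3_c53)) = (LP (LK LD1_c0 LD2_c44 LD3_c44)) :=
  Lre_g IH (LK LD1_c0 LD2_c19 LD3_c53) (LK LD1_c0 LD2_c44 LD3_c44) Lrfl Lrfl
theorem f40101 : Led Lsl_bt (LP (LK LD1_c1 LD2_c36 LD3_c32)) = (LP (LK LD1_c0 LD2_c44 LD3_c44)) :=
  Lre_b IH (LK LD1_c1 LD2_c36 LD3_c32) (LK LD1_c0 LD2_c44 LD3_c44) Lrfl Lrfl
theorem f56749 : Led Lsl_ct (LP (LK LD1_c1 LD2_c36 LD3_c32)) = (LP (LK LD1_c3 LD2_c20 LD3_c16)) :=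
  Lre_c IH (LK LD1_c1 LD2_c36 LD3_c32) (LK LD1_c3 LD2_c20 LD3_c16) Lrfl Lrfl
theorem f36231 : Led Lsl_bt (LP (LK LD1_c0 LD2_c55 LD3_c2)) = (LP (LK LD1_c0 LD2_c24 LD3_c56)) :=
  Lre_b IH (LK LD1_c0 LD2_c55 LD3_c2) (LK LD1_c0 LD2_c24 LD3_c56) Lrfl Lrfl
theorem f56750 : Led Lsl_gt (LP (LK LD1_c3 LD2_c20 LD3_c16)) = (LP (LK LD1_c1 LD2_c56 LD3_c33)) :=
  Lgr Lrot65 (Lpe (f56749 IH) (Lpr_bt (f40101 IH) (Lpe (f24318 IH) (Lpe (f24317 IH) (Lpr_ct (K1.f22835 IH) (Lpe (K1.f350 IH) (Lpr_cf (K1.f56671 IH) (Lpe (K2.f56667 IH) (Lpe (f36231 IH) (Lpr_ct (K1.f36232 IH) (Lpn (LP (LK LD1_c1 LD2_c56 LD3_c33)))))))))))))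
theorem f40370 : Led Lsl_at (LP (LK LD1_c3 LD2_c59 LD3_c39)) = (LP (LK LD1_c1 LD2_c56 LD3_c33)) :=
  Lre_a IH (LK LD1_c3 LD2_c59 LD3_c39) (LK LD1_c1 LD2_c56 LD3_c33) Lrfl Lrfl
theorem f40325 : Led Lsl_ct (LP (LK LD1_c3 LD2_c59 LD3_c39)) = (LP (LK LD1_c1 LD2_c56 LD3_c30)) :=
  Lre_c IH (LK LD1_c3 LD2_c59 LD3_c39) (LK LD1_c1 LD2_c56 LD3_c30) Lrfl Lrfl
theorem f40326 : Led Lsl_ct (LP (LK LD1_c1 LD2_c38 LD3_c19)) = (LP (LK LD1_c3 LD2_c23 LD3_c36)) :=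
  Lre_c IH (LK LD1_c1 LD2_c38 LD3_c19) (LK LD1_c3 LD2_c23 LD3_c36) Lrfl Lrfl
theorem f40327 : Led Lsl_ff (LP (LK LD1_c3 LD2_c59 LD3_c39)) = (LP (LK LD1_c3 LD2_c23 LD3_c36)) :=
  Lgr Lrot23 (Lpr_ct (f40325 IH) (Lpr_ft (K2.f40321 IH) (Lpr_ct (f40326 IH) (Lpn (LP (LK LD1_c3 LD2_c23 LD3_c36))))))
theorem f56834 : Led Lsl_gf (LP (LK LD1_c3 LD2_c20 LD3_c16)) = (LP (LK LD1_c3 LD2_c23 LD3_c36)) :=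
  Lgr Lrot47 (Lpr_gt (f56750 IH) (Lpe (f40370 IH) (Lpr_ff (f40327 IH) (Lpn (LP (LK LD1_c3 LD2_c23 LD3_c36))))))
theorem f40100 : Led Lsl_gt (LP (LK LD1_c0 LD2_c44 LD3_c44)) = (LP (LK LD1_c1 LD2_c4 LD3_c60)) :=
  Lre_g IH (LK LD1_c0 LD2_c44 LD3_c44) (LK LD1_c1 LD2_c4 LD3_c60) Lrfl Lrfl
theorem f56837 : Led Lsl_ct (LP (LK LD1_c1 LD2_c4 LD3_c60)) = (LP (LK LD1_c2 LD2_c16 LD3_c1)) :=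
  Lre_c IH (LK LD1_c1 LD2_c4 LD3_c60) (LK LD1_c2 LD2_c16 LD3_c1) Lrfl Lrfl
theorem f14354 : Led Lsl_gt (LP (LK LD1_c2 LD2_c16 LD3_c1)) = (LP (LK LD1_c1 LD2_c35 LD3_c25)) :=
  Lre_g IH (LK LD1_c2 LD2_c16 LD3_c1) (LK LD1_c1 LD2_c35 LD3_c25) Lrfl Lrfl
theorem f56839 : Led Lsl_bt (LP (LK LD1_c2 LD2_c27 LD3_c33)) = (LP (LK LD1_c1 LD2_c10 LD3_c58)) :=
  Lre_b IH (LK LD1_c2 LD2_c27 LD3_c33) (LK LD1_c1 LD2_c10 LD3_c58) Lrfl Lrfl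
theorem f56840 : Led Lsl_cf (LP (LK LD1_c1 LD2_c35 LD3_c25)) = (LP (LK LD1_c2 LD2_c27 LD3_c33)) :=
  Lgr Lrot163 (Lpe (f14354 IH) (Lpe (f56837 IH) (Lpe (f40100 IH) (Lpe (f40101 IH) (Lpr_ct (f56749 IH) (Lpr_gf (f56834 IH) (Lpe (f40326 IH) (Lpr_bt (K2.f40320 IH) (Lpe (f56838 IH) (Lpe (f56839 IH) (Lpn (LP (LK LD1_c2 LD2_c27 LD3_c33)))))))))))))
theorem f56845 : Led Lsl_bt (LP (LK LD1_c1 LD2_c35 LD3_c25)) = (LP (LK LD1_c3 LD2_c17 LD3_c45)) :=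
  Lre_b IH (LK LD1_c1 LD2_c35 LD3_c25) (LK LD1_c3 LD2_c17 LD3_c45) Lrfl Lrfl
theorem f56846 : Led Lsl_bt (LP (LK LD1_c1 LD2_c10 LD3_c58)) = (LP (LK LD1_c2 LD2_c27 LD3_c33)) :=
  Lre_b IH (LK LD1_c1 LD2_c10 LD3_c58) (LK LD1_c2 LD2_c27 LD3_c33) Lrfl Lrfl
theorem f56847 : Led Lsl_ct (LP (LK LD1_c2 LD2_c27 LD3_c34)) = (LP (LK LD1_c1 LD2_c10 LD3_c58)) :=
  Lre_c IH (LK LD1_c2 LD2_c27 LD3_c34) (LK LD1_c1 LD2_c10 LD3_c58) Lrfl Lrfl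
theorem f56848 : Led Lsl_bt (LP (LK LD1_c4 LD2_c59 LD3_c24)) = (LP (LK LD1_c2 LD2_c27 LD3_c34)) :=
  Lre_b IH (LK LD1_c4 LD2_c59 LD3_c24) (LK LD1_c2 LD2_c27 LD3_c34) Lrfl Lrfl
theorem f56849 : Led Lsl_ct (LP (LK LD1_c3 LD2_c17 LD3_c45)) = (LP (LK LD1_c4 LD2_c59 LD3_c24)) :=
  Lgr Lrot83 (Lpe (f56845 IH) (Lpr_cf (f56840 IH) (Lpe (f56846 IH) (Lpe (f56847 IH) (Lpe (f56848 IH) (Lpn (LP (LK LD1_c4 LD2_c59 LD3_c24))))))))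
theorem f64545 : Led Lsl_gt (LP (LK LD1_c6 LD2_c2 LD3_c21)) = (LP (LK LD1_c4 LD2_c59 LD3_c24)) :=
  Lgr Lrot149 (Lpe (f64542 IH) (Lpr_gf (f64482 IH) (Lpe (f57111 IH) (Lpr_ct (K3.f57110 IH) (Lpe (K2.f57109 IH) (Lpe (K1.f24616 IH) (Lpr_bt (f57108 IH) (Lpe (f56857 IH) (Lpe (f57069 IH) (Lpr_ct (f56849 IH) (Lpn (LP (LK LD1_c4 LD2_c59 LD3_c24)))))))))))))
theorem f56853 : Led Lsl_et (LP (LK LD1_c1 LD2_c35 LD3_c25)) = (LP (LK LD1_c3 LD2_c17 LD3_c47)) :=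
  Lre_e IH (LK LD1_c1 LD2_c35 LD3_c25) (LK LD1_c3 LD2_c17 LD3_c47) Lrfl Lrfl
theorem f56854 : Led Lsl_et (LP (LK LD1_c4 LD2_c59 LD3_c21)) = (LP (LK LD1_c2 LD2_c27 LD3_c33)) :=
  Lre_e IH (LK LD1_c4 LD2_c59 LD3_c21) (LK LD1_c2 LD2_c27 LD3_c33) Lrfl Lrfl
theorem f56855 : Led Lsl_ct (LP (LK LD1_c3 LD2_c17 LD3_c47)) = (LP (LK LD1_c4 LD2_c59 LD3_c21)) :=
  Lgr Lrot15 (Lpe (f56853 IH) (Lpr_cf (f56840 IH) (Lpe (f56854 IH) (Lpn (LP (LK LD1_c4 LD2_c59 LD3_c21))))))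
theorem f57000 : Led Lsl_ft (LP (LK LD1_c6 LD2_c39 LD3_c5)) = (LP (LK LD1_c3 LD2_c17 LD3_c47)) :=
  Lre_f IH (LK LD1_c6 LD2_c39 LD3_c5) (LK LD1_c3 LD2_c17 LD3_c47) Lrfl Lrfl
theorem f57001 : Led Lsl_ft (LP (LK LD1_c4 LD2_c59 LD3_c21)) = (LP (LK LD1_c9 LD2_c49 LD3_c6)) :=
  Lre_f IH (LK LD1_c4 LD2_c59 LD3_c21) (LK LD1_c9 LD2_c49 LD3_c6) Lrfl Lrfl
theorem f57002 : Led Lsl_cf (LP (LK LD1_c6 LD2_c39 LD3_c5)) = (LP (LK LD1_c9 LD2_c49 LD3_c6)) :=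
  Lgr Lrot108 (Lpr_ft (f57000 IH) (Lpr_ct (f56855 IH) (Lpr_ft (f57001 IH) (Lpn (LP (LK LD1_c9 LD2_c49 LD3_c6))))))
theorem f57030 : Led Lsl_ct (LP (LK LD1_c6 LD2_c39 LD3_c5)) = (LP (LK LD1_c9 LD2_c49 LD3_c6)) :=
  Lgr Lrot59 (Lpr_cf (f57002 IH) (Lpn (LP (LK LD1_c9 LD2_c49 LD3_c6))))
theorem f57039 : Led Lsl_bt (LP (LK LD1_c12 LD2_c43 LD3_c42)) = (LP (LK LD1_c6 LD2_c39 LD3_c5)) :=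
  Lre_b IH (LK LD1_c12 LD2_c43 LD3_c42) (LK LD1_c6 LD2_c39 LD3_c5) Lrfl Lrfl
theorem f57038 : Led Lsl_bt (LP (LK LD1_c9 LD2_c49 LD3_c6)) = (LP (LK LD1_c4 LD2_c59 LD3_c29)) :=
  Lre_b IH (LK LD1_c9 LD2_c49 LD3_c6) (LK LD1_c4 LD2_c59 LD3_c29) Lrfl Lrfl
theorem f57040 : Led Lsl_ct (LP (LK LD1_c4 LD2_c59 LD3_c29)) = (LP (LK LD1_c9 LD2_c49 LD3_c19)) :=
  Lre_c IH (LK LD1_c4 LD2_c59 LD3_c29) (LK LD1_c9 LD2_c49 LD3_c19) Lrfl Lrfl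
theorem f57041 : Led Lsl_bt (LP (LK LD1_c9 LD2_c49 LD3_c19)) = (LP (LK LD1_c17 LD2_c59 LD3_c37)) :=
  Lre_b IH (LK LD1_c9 LD2_c49 LD3_c19) (LK LD1_c17 LD2_c59 LD3_c37) Lrfl Lrfl
theorem f57042 : Led Lsl_cf (LP (LK LD1_c12 LD2_c43 LD3_c42)) = (LP (LK LD1_c17 LD2_c59 LD3_c37)) :=
  Lgr Lrot97 (Lpr_bt (f57039 IH) (Lpr_ct (f57030 IH) (Lpr_bt (f57038 IH) (Lpr_ct (f57040 IH) (Lpr_bt (f57041 IH) (Lpn (LP (LK LD1_c17 LD2_c59 LD3_c37))))))))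
theorem f57049 : Led Lsl_ft (LP (LK LD1_c12 LD2_c43 LD3_c42)) = (LP (LK LD1_c6 LD2_c39 LD3_c1)) :=
  Lre_f IH (LK LD1_c12 LD2_c43 LD3_c42) (LK LD1_c6 LD2_c39 LD3_c1) Lrfl Lrfl
theorem f57050 : Led Lsl_ft (LP (LK LD1_c9 LD2_c49 LD3_c12)) = (LP (LK LD1_c17 LD2_c59 LD3_c37)) :=
  Lre_f IH (LK LD1_c9 LD2_c49 LD3_c12) (LK LD1_c17 LD2_c59 LD3_c37) Lrfl Lrfl
theorem f57051 : Led Lsl_ct (LP (LK LD1_c6 LD2_c39 LD3_c1)) = (LP (LK LD1_c9 LD2_c49 LD3_c12)) :=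
  Lgr Lrot40 (Lpe (f57049 IH) (Lpr_cf (f57042 IH) (Lpe (f57050 IH) (Lpn (LP (LK LD1_c9 LD2_c49 LD3_c12))))))
theorem f57059 : Led Lsl_et (LP (LK LD1_c3 LD2_c17 LD3_c45)) = (LP (LK LD1_c6 LD2_c39 LD3_c1)) :=
  Lre_e IH (LK LD1_c3 LD2_c17 LD3_c45) (LK LD1_c6 LD2_c39 LD3_c1) Lrfl Lrfl
theorem f57060 : Led Lsl_et (LP (LK LD1_c9 LD2_c49 LD3_c12)) = (LP (LK LD1_c4 LD2_c59 LD3_c24)) :=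
  Lre_e IH (LK LD1_c9 LD2_c49 LD3_c12) (LK LD1_c4 LD2_c59 LD3_c24) Lrfl Lrfl
theorem f57061 : Led Lsl_cf (LP (LK LD1_c3 LD2_c17 LD3_c45)) = (LP (LK LD1_c4 LD2_c59 LD3_c24)) :=
  Lgr Lrot39 (Lpr_et (f57059 IH) (Lpr_ct (f57051 IH) (Lpr_et (f57060 IH) (Lpn (LP (LK LD1_c4 LD2_c59 LD3_c24))))))
theorem f71934 : Led Lsl_dt (LP (LK LD1_c2 LD2_c54 LD3_c15)) = (LP (LK LD1_c1 LD2_c23 LD3_c7)) :=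
  Lre_d IH (LK LD1_c2 LD2_c54 LD3_c15) (LK LD1_c1 LD2_c23 LD3_c7) Lrfl Lrfl
theorem f71845 : Led Lsl_dt (LP (LK LD1_c1 LD2_c23 LD3_c8)) = (LP (LK LD1_c0 LD2_c38 LD3_c29)) :=
  Lre_d IH (LK LD1_c1 LD2_c23 LD3_c8) (LK LD1_c0 LD2_c38 LD3_c29) Lrfl Lrfl
theorem f59711 : Led Lsl_ct (LP (LK LD1_c0 LD2_c18 LD3_c49)) = (LP (LK LD1_c0 LD2_c42 LD3_c1)) :=
  Lre_c IH (LK LD1_c0 LD2_c18 LD3_c49) (LK LD1_c0 LD2_c42 LD3_c1) Lrfl Lrfl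
theorem f69205 : Led Lsl_dt (LP (LK LD1_c0 LD2_c42 LD3_c6)) = (LP (LK LD1_c1 LD2_c31 LD3_c16)) :=
  Lre_d IH (LK LD1_c0 LD2_c42 LD3_c6) (LK LD1_c1 LD2_c31 LD3_c16) Lrfl Lrfl
theorem f112473 : Led Lsl_gf (LP (LK LD1_c1 LD2_c23 LD3_c8)) = (LP (LK LD1_c1 LD2_c31 LD3_c16)) :=
  Lgr Lrot143 (Lpr_dt (f71845 IH) (Lpe (K2.f71938 IH) (Lpe (f71934 IH) (Lpr_gf (f112442 IH) (Lpe (f36322 IH) (Lpe (f36321 IH) (Lpe (f59711 IH) (Lpr_gt (f68538 IH) (Lpr_dt (f69205 IH) (Lpn (LP (LK LD1_c1 LD2_c31 LD3_c16))))))))))))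
theorem f27178 : Led Lsl_bt (LP (LK LD1_c0 LD2_c29 LD3_c34)) = (LP (LK LD1_c1 LD2_c4 LD3_c35)) :=
  Lre_b IH (LK LD1_c0 LD2_c29 LD3_c34) (LK LD1_c1 LD2_c4 LD3_c35) Lrfl Lrfl
theorem f82235 : Led Lsl_ft (LP (LK LD1_c1 LD2_c4 LD3_c35)) = (LP (LK LD1_c0 LD2_c38 LD3_c31)) :=
  Lgr Lrot75 (Lpe (f27178 IH) (Lpr_ff (K2.f82233 IH) (Lpe (f23912 IH) (Lpn (LP (LK LD1_c0 LD2_c38 LD3_c31))))))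
theorem f112480 : Led Lsl_gt (LP (LK LD1_c1 LD2_c4 LD3_c35)) = (LP (LK LD1_c1 LD2_c31 LD3_c16)) :=
  Lgr Lrot5 (Lpr_ft (f82235 IH) (Lpr_at (K2.f71320 IH) (Lpr_gf (f112473 IH) (Lpn (LP (LK LD1_c1 LD2_c31 LD3_c16))))))
theorem f69208 : Led Lsl_ct (LP (LK LD1_c1 LD2_c31 LD3_c16)) = (LP (LK LD1_c3 LD2_c10 LD3_c13)) :=
  Lre_c IH (LK LD1_c1 LD2_c31 LD3_c16) (LK LD1_c3 LD2_c10 LD3_c13) Lrfl Lrfl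
theorem f116783 : Led Lsl_df (LP (LK LD1_c3 LD2_c17 LD3_c45)) = (LP (LK LD1_c3 LD2_c10 LD3_c13)) :=
  Lgr Lrot162 (Lpr_cf (f57061 IH) (Lpe (f64545 IH) (Lpe (f64542 IH) (Lpr_gf (f64482 IH) (Lpr_dt (f64544 IH) (Lpr_gt (f116776 IH) (Lpr_ct (K2.f27166 IH) (Lpr_gt (f112480 IH) (Lpr_ct (f69208 IH) (Lpn (LP (LK LD1_c3 LD2_c10 LD3_c13))))))))))))
theorem f57068 : Led Lsl_at (LP (LK LD1_c9 LD2_c49 LD3_c11)) = (LP (LK LD1_c4 LD2_c59 LD3_c24)) :=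
  Lre_a IH (LK LD1_c9 LD2_c49 LD3_c11) (LK LD1_c4 LD2_c59 LD3_c24) Lrfl Lrfl
theorem f64561 : Led Lsl_gt (LP (LK LD1_c11 LD2_c49 LD3_c0)) = (LP (LK LD1_c6 LD2_c2 LD3_c21)) :=
  Lre_g IH (LK LD1_c11 LD2_c49 LD3_c0) (LK LD1_c6 LD2_c2 LD3_c21) Lrfl Lrfl
theorem f64562 : Led Lsl_ft (LP (LK LD1_c11 LD2_c49 LD3_c0)) = (LP (LK LD1_c9 LD2_c49 LD3_c11)) :=
  Lgr Lrot2 (Lpr_gt (f64561 IH) (Lpr_gt (f64545 IH) (Lpe (f57068 IH) (Lpn (LP (LK LD1_c9 LD2_c49 LD3_c11))))))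
theorem f80354 : Led Lsl_ct (LP (LK LD1_c1 LD2_c31 LD3_c15)) = (LP (LK LD1_c0 LD2_c42 LD3_c6)) :=
  Lre_c IH (LK LD1_c1 LD2_c31 LD3_c15) (LK LD1_c0 LD2_c42 LD3_c6) Lrfl Lrfl
theorem f112486 : Led Lsl_dt (LP (LK LD1_c3 LD2_c10 LD3_c12)) = (LP (LK LD1_c1 LD2_c31 LD3_c15)) :=
  Lre_d IH (LK LD1_c3 LD2_c10 LD3_c12) (LK LD1_c1 LD2_c31 LD3_c15) Lrfl Lrfl
theorem f116795 : Led Lsl_dt (LP (LK LD1_c11 LD2_c49 LD3_c0)) = (LP (LK LD1_c6 LD2_c25 LD3_c5)) :=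
  Lgr Lrot159 (Lpr_ft (f64562 IH) (Lpr_at (f57068 IH) (Lpe (f56849 IH) (Lpr_df (f116783 IH) (Lpe (f69208 IH) (Lpe (f69205 IH) (Lpe (f80354 IH) (Lpe (f112486 IH) (Lpe (f116790 IH) (Lpn (LP (LK LD1_c6 LD2_c25 LD3_c5))))))))))))
theorem f64547 : Led Lsl_ct (LP (LK LD1_c6 LD2_c2 LD3_c21)) = (LP (LK LD1_c2 LD2_c57 LD3_c16)) :=
  Lre_c IH (LK LD1_c6 LD2_c2 LD3_c21) (LK LD1_c2 LD2_c57 LD3_c16) Lrfl Lrfl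
theorem f56778 : Led Lsl_gt (LP (LK LD1_c2 LD2_c57 LD3_c16)) = (LP (LK LD1_c6 LD2_c2 LD3_c20)) :=
  Lre_g IH (LK LD1_c2 LD2_c57 LD3_c16) (LK LD1_c6 LD2_c2 LD3_c20) Lrfl Lrfl
theorem f82016 : Led Lsl_ct (LP (LK LD1_c6 LD2_c2 LD3_c20)) = (LP (LK LD1_c11 LD2_c48 LD3_c60)) :=
  Lre_c IH (LK LD1_c6 LD2_c2 LD3_c20) (LK LD1_c11 LD2_c48 LD3_c60) Lrfl Lrfl
theorem f117604 : Led Lsl_ct (LP (LK LD1_c3 LD2_c9 LD3_c55)) = (LP (LK LD1_c6 LD2_c24 LD3_c33)) :=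
  Lre_c IH (LK LD1_c3 LD2_c9 LD3_c55) (LK LD1_c6 LD2_c24 LD3_c33) Lrfl Lrfl
theorem f117683 : Led Lsl_df (LP (LK LD1_c11 LD2_c48 LD3_c60)) = (LP (LK LD1_c6 LD2_c24 LD3_c33)) :=
  Lgr Lrot162 (Lpe (f82016 IH) (Lpe (f56778 IH) (Lpe (f64547 IH) (Lpe (f64561 IH) (Lpr_dt (f116795 IH) (Lpr_gt (f117676 IH) (Lpr_ct (f71883 IH) (Lpe (f117644 IH) (Lpr_ct (f117604 IH) (Lpn (LP (LK LD1_c6 LD2_c24 LD3_c33))))))))))))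
theorem f117685 : Led Lsl_ct (LP (LK LD1_c11 LD2_c48 LD3_c60)) = (LP (LK LD1_c6 LD2_c2 LD3_c20)) :=
  Lre_c IH (LK LD1_c11 LD2_c48 LD3_c60) (LK LD1_c6 LD2_c2 LD3_c20) Lrfl Lrfl
theorem f117603 : Led Lsl_dt (LP (LK LD1_c1 LD2_c31 LD3_c5)) = (LP (LK LD1_c3 LD2_c9 LD3_c55)) :=
  Lre_d IH (LK LD1_c1 LD2_c31 LD3_c5) (LK LD1_c3 LD2_c9 LD3_c55) Lrfl Lrfl
theorem f117543 : Led Lsl_cf (LP (LK LD1_c2 LD2_c49 LD3_c50)) = (LP (LK LD1_c2 LD2_c9 LD3_c22)) :=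
  Lgr Lrot11 (Lpr_ct (f117540 IH) (Lpn (LP (LK LD1_c2 LD2_c9 LD3_c22))))
theorem f117624 : Led Lsl_at (LP (LK LD1_c2 LD2_c49 LD3_c50)) = (LP (LK LD1_c1 LD2_c20 LD3_c61)) :=
  Lre_a IH (LK LD1_c2 LD2_c49 LD3_c50) (LK LD1_c1 LD2_c20 LD3_c61) Lrfl Lrfl
theorem f117625 : Led Lsl_cf (LP (LK LD1_c1 LD2_c31 LD3_c5)) = (LP (LK LD1_c1 LD2_c20 LD3_c61)) :=
  Lgr Lrot1 (Lpr_at (f117613 IH) (Lpe (f117543 IH) (Lpr_at (f117624 IH) (Lpn (LP (LK LD1_c1 LD2_c20 LD3_c61))))))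
theorem f66264 : Led Lsl_dt (LP (LK LD1_c2 LD2_c49 LD3_c51)) = (LP (LK LD1_c1 LD2_c20 LD3_c61)) :=
  Lre_d IH (LK LD1_c2 LD2_c49 LD3_c51) (LK LD1_c1 LD2_c20 LD3_c61) Lrfl Lrfl
theorem f117465 : Led Lsl_ct (LP (LK LD1_c4 LD2_c35 LD3_c26)) = (LP (LK LD1_c5 LD2_c51 LD3_c7)) :=
  Lgr Lrot111 (Lpr_af (f117459 IH) (Lpe (f24057 IH) (Lpe (f24061 IH) (Lpn (LP (LK LD1_c5 LD2_c51 LD3_c7))))))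
theorem f117686 : Led Lsl_dt (LP (LK LD1_c6 LD2_c2 LD3_c20)) = (LP (LK LD1_c4 LD2_c35 LD3_c26)) :=
  Lgr Lrot173 (Lpe (f117685 IH) (Lpr_df (f117683 IH) (Lpe (f117604 IH) (Lpe (f117603 IH) (Lpr_cf (f117625 IH) (Lpe (f66264 IH) (Lpe (f66160 IH) (Lpe (f64544 IH) (Lpe (f64538 IH) (Lpe (f79078 IH) (Lpe (f36323 IH) (Lpe (f36322 IH) (Lpe (f79087 IH) (Lpr_df (f117508 IH) (Lpe (f117465 IH) (Lpn (LP (LK LD1_c4 LD2_c35 LD3_c26))))))))))))))))))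
theorem f79088 : Led Lsl_at (LP (LK LD1_c3 LD2_c16 LD3_c43)) = (LP (LK LD1_c1 LD2_c35 LD3_c1)) :=
  Lre_a IH (LK LD1_c3 LD2_c16 LD3_c43) (LK LD1_c1 LD2_c35 LD3_c1) Lrfl Lrfl
theorem f117699 : Led Lsl_ft (LP (LK LD1_c6 LD2_c2 LD3_c20)) = (LP (LK LD1_c3 LD2_c16 LD3_c43)) :=
  Lgr Lrot142 (Lpr_dt (f117686 IH) (Lpr_ct (f117465 IH) (Lpe (f117508 IH) (Lpr_ct (f79087 IH) (Lpr_dt (f36322 IH) (Lpr_ct (f36323 IH) (Lpr_dt (f79078 IH) (Lpr_ct (f64538 IH) (Lpe (f79088 IH) (Lpn (LP (LK LD1_c3 LD2_c16 LD3_c43))))))))))))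
theorem f117712 : Led Lsl_ff (LP (LK LD1_c6 LD2_c2 LD3_c20)) = (LP (LK LD1_c3 LD2_c16 LD3_c43)) :=
  Lgr Lrot3 (Lpr_ft (f117699 IH) (Lpn (LP (LK LD1_c3 LD2_c16 LD3_c43))))
theorem f79429 : Led Lsl_ct (LP (LK LD1_c6 LD2_c36 LD3_c24)) = (LP (LK LD1_c3 LD2_c16 LD3_c43)) :=
  Lre_c IH (LK LD1_c6 LD2_c36 LD3_c24) (LK LD1_c3 LD2_c16 LD3_c43) Lrfl Lrfl
theorem f117797 : Led Lsl_ft (LP (LK LD1_c11 LD2_c48 LD3_c60)) = (LP (LK LD1_c6 LD2_c36 LD3_c24)) :=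
  Lgr Lrot4 (Lpe (f82016 IH) (Lpr_ff (f117712 IH) (Lpe (f79429 IH) (Lpn (LP (LK LD1_c6 LD2_c36 LD3_c24))))))
theorem f79428 : Led Lsl_bt (LP (LK LD1_c6 LD2_c36 LD3_c24)) = (LP (LK LD1_c12 LD2_c38 LD3_c39)) :=
  Lre_b IH (LK LD1_c6 LD2_c36 LD3_c24) (LK LD1_c12 LD2_c38 LD3_c39) Lrfl Lrfl
theorem f79418 : Led Lsl_bt (LP (LK LD1_c6 LD2_c36 LD3_c16)) = (LP (LK LD1_c3 LD2_c16 LD3_c28)) :=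
  Lre_b IH (LK LD1_c6 LD2_c36 LD3_c16) (LK LD1_c3 LD2_c16 LD3_c28) Lrfl Lrfl
theorem f78143 : Led Lsl_bt (LP (LK LD1_c3 LD2_c8 LD3_c14)) = (LP (LK LD1_c6 LD2_c21 LD3_c7)) :=
  Lre_b IH (LK LD1_c3 LD2_c8 LD3_c14) (LK LD1_c6 LD2_c21 LD3_c7) Lrfl Lrfl
theorem f79419 : Led Lsl_ff (LP (LK LD1_c6 LD2_c36 LD3_c16)) = (LP (LK LD1_c6 LD2_c21 LD3_c7)) :=
  Lgr Lrot25 (Lpr_bt (f79418 IH) (Lpr_ft (f79030 IH) (Lpr_bt (f78143 IH) (Lpn (LP (LK LD1_c6 LD2_c21 LD3_c7))))))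
theorem f79422 : Led Lsl_at (LP (LK LD1_c6 LD2_c36 LD3_c16)) = (LP (LK LD1_c12 LD2_c38 LD3_c39)) :=
  Lre_a IH (LK LD1_c6 LD2_c36 LD3_c16) (LK LD1_c12 LD2_c38 LD3_c39) Lrfl Lrfl
theorem f78148 : Led Lsl_at (LP (LK LD1_c12 LD2_c16 LD3_c16)) = (LP (LK LD1_c6 LD2_c21 LD3_c7)) :=
  Lre_a IH (LK LD1_c12 LD2_c16 LD3_c16) (LK LD1_c6 LD2_c21 LD3_c7) Lrfl Lrfl
theorem f79423 : Led Lsl_ft (LP (LK LD1_c12 LD2_c38 LD3_c39)) = (LP (LK LD1_c12 LD2_c16 LD3_c16)) :=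
  Lgr Lrot101 (Lpe (f79422 IH) (Lpr_ff (f79419 IH) (Lpe (f78148 IH) (Lpn (LP (LK LD1_c12 LD2_c16 LD3_c16))))))
theorem f117808 : Led Lsl_bf (LP (LK LD1_c11 LD2_c48 LD3_c60)) = (LP (LK LD1_c12 LD2_c16 LD3_c16)) :=
  Lgr Lrot61 (Lpr_ft (f117797 IH) (Lpr_bt (f79428 IH) (Lpr_ft (f79423 IH) (Lpn (LP (LK LD1_c12 LD2_c16 LD3_c16))))))
theorem f78152 : Led Lsl_at (LP (LK LD1_c6 LD2_c21 LD3_c7)) = (LP (LK LD1_c12 LD2_c16 LD3_c16)) :=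
  Lre_a IH (LK LD1_c6 LD2_c21 LD3_c7) (LK LD1_c12 LD2_c16 LD3_c16) Lrfl Lrfl
theorem f114854 : Led Lsl_at (LP (LK LD1_c3 LD2_c16 LD3_c3)) = (LP (LK LD1_c3 LD2_c8 LD3_c14)) :=
  Lgr Lrot100 (Lpr_af (f114846 IH) (Lpn (LP (LK LD1_c3 LD2_c8 LD3_c14))))
theorem f60979 : Led Lsl_bt (LP (LK LD1_c6 LD2_c35 LD3_c26)) = (LP (LK LD1_c3 LD2_c16 LD3_c3)) :=
  Lre_b IH (LK LD1_c6 LD2_c35 LD3_c26) (LK LD1_c3 LD2_c16 LD3_c3) Lrfl Lrfl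
theorem f117897 : Led Lsl_at (LP (LK LD1_c11 LD2_c48 LD3_c60)) = (LP (LK LD1_c6 LD2_c35 LD3_c26)) :=
  Lgr Lrot67 (Lpr_bf (f117808 IH) (Lpe (f78152 IH) (Lpe (f78143 IH) (Lpe (f114854 IH) (Lpe (f60979 IH) (Lpn (LP (LK LD1_c6 LD2_c35 LD3_c26))))))))
theorem f79434 : Led Lsl_ct (LP (LK LD1_c3 LD2_c16 LD3_c43)) = (LP (LK LD1_c6 LD2_c36 LD3_c24)) :=
  Lre_c IH (LK LD1_c3 LD2_c16 LD3_c43) (LK LD1_c6 LD2_c36 LD3_c24) Lrfl Lrfl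
theorem f117705 : Led Lsl_ff (LP (LK LD1_c11 LD2_c48 LD3_c60)) = (LP (LK LD1_c6 LD2_c36 LD3_c24)) :=
  Lgr Lrot23 (Lpr_ct (f117685 IH) (Lpr_ft (f117699 IH) (Lpr_ct (f79434 IH) (Lpn (LP (LK LD1_c6 LD2_c36 LD3_c24))))))
theorem f119664 : Led Lsl_df (LP (LK LD1_c5 LD2_c56 LD3_c10)) = (LP (LK LD1_c6 LD2_c36 LD3_c24)) :=
  Lgr Lrot157 (Lpr_ct (f112689 IH) (Lpr_dt (f119650 IH) (Lpe (f36539 IH) (Lpe (f112934 IH) (Lpr_ct (f24057 IH) (Lpr_dt (f112266 IH) (Lpr_ct (f60980 IH) (Lpe (f117897 IH) (Lpr_ff (f117705 IH) (Lpn (LP (LK LD1_c6 LD2_c36 LD3_c24))))))))))))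
theorem f119891 : Led Lsl_dt (LP (LK LD1_c2 LD2_c54 LD3_c39)) = (LP (LK LD1_c3 LD2_c16 LD3_c43)) :=
  Lgr Lrot159 (Lpe (f119889 IH) (Lpr_at (f117461 IH) (Lpe (f24057 IH) (Lpr_df (f112934 IH) (Lpr_cf (f36539 IH) (Lpe (f119650 IH) (Lpe (f112689 IH) (Lpr_df (f119664 IH) (Lpe (f79434 IH) (Lpn (LP (LK LD1_c3 LD2_c16 LD3_c43))))))))))))
theorem f119904 : Led Lsl_ff (LP (LK LD1_c2 LD2_c54 LD3_c39)) = (LP (LK LD1_c4 LD2_c35 LD3_c26)) :=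
  Lgr Lrot19 (Lpr_dt (f119891 IH) (Lpe (f117712 IH) (Lpr_dt (f117686 IH) (Lpn (LP (LK LD1_c4 LD2_c35 LD3_c26))))))
theorem f119908 : Led Lsl_et (LP (LK LD1_c2 LD2_c54 LD3_c39)) = (LP (LK LD1_c5 LD2_c56 LD3_c42)) :=
  Lre_e IH (LK LD1_c2 LD2_c54 LD3_c39) (LK LD1_c5 LD2_c56 LD3_c42) Lrfl Lrfl
theorem f119920 : Led Lsl_ft (LP (LK LD1_c5 LD2_c56 LD3_c42)) = (LP (LK LD1_c11 LD2_c38 LD3_c43)) :=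
  Lre_f IH (LK LD1_c5 LD2_c56 LD3_c42) (LK LD1_c11 LD2_c38 LD3_c43) Lrfl Lrfl
theorem f83018 : Led Lsl_et (LP (LK LD1_c9 LD2_c7 LD3_c24)) = (LP (LK LD1_c4 LD2_c35 LD3_c26)) :=
  Lre_e IH (LK LD1_c9 LD2_c7 LD3_c24) (LK LD1_c4 LD2_c35 LD3_c26) Lrfl Lrfl
theorem f119921 : Led Lsl_et (LP (LK LD1_c11 LD2_c38 LD3_c43)) = (LP (LK LD1_c16 LD2_c59 LD3_c37)) :=
  Lgr Lrot69 (Lpe (f119920 IH) (Lpe (f119908 IH) (Lpr_ff (f119904 IH) (Lpe (f83018 IH) (Lpe (f117480 IH) (Lpn (LP (LK LD1_c16 LD2_c59 LD3_c37))))))))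
theorem f119928 : Led Lsl_ef (LP (LK LD1_c11 LD2_c38 LD3_c43)) = (LP (LK LD1_c16 LD2_c59 LD3_c37)) :=
  Lgr Lrot88 (Lpr_et (f119921 IH) (Lpn (LP (LK LD1_c16 LD2_c59 LD3_c37))))
theorem f117523 : Led Lsl_et (LP (LK LD1_c5 LD2_c47 LD3_c44)) = (LP (LK LD1_c11 LD2_c25 LD3_c13)) :=
  Lre_e IH (LK LD1_c5 LD2_c47 LD3_c44) (LK LD1_c11 LD2_c25 LD3_c13) Lrfl Lrfl
theorem f66302 : Led Lsl_ft (LP (LK LD1_c11 LD2_c25 LD3_c13)) = (LP (LK LD1_c20 LD2_c22 LD3_c43)) :=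
  Lre_f IH (LK LD1_c11 LD2_c25 LD3_c13) (LK LD1_c20 LD2_c22 LD3_c43) Lrfl Lrfl
theorem f24096 : Led Lsl_ft (LP (LK LD1_c20 LD2_c26 LD3_c47)) = (LP (LK LD1_c11 LD2_c29 LD3_c42)) :=
  Lre_f IH (LK LD1_c20 LD2_c26 LD3_c47) (LK LD1_c11 LD2_c29 LD3_c42) Lrfl Lrfl
theorem f117524 : Led Lsl_et (LP (LK LD1_c20 LD2_c22 LD3_c43)) = (LP (LK LD1_c20 LD2_c26 LD3_c47)) :=
  Lgr Lrot69 (Lpe (f66302 IH) (Lpe (f117523 IH) (Lpr_ff (f117515 IH) (Lpe (f117500 IH) (Lpe (f24096 IH) (Lpn (LP (LK LD1_c20 LD2_c26 LD3_c47))))))))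
theorem f119933 : Led Lsl_ct (LP (LK LD1_c11 LD2_c38 LD3_c43)) = (LP (LK LD1_c20 LD2_c22 LD3_c43)) :=
  Lgr Lrot15 (Lpr_ef (f119928 IH) (Lpr_cf (f117490 IH) (Lpe (f117524 IH) (Lpn (LP (LK LD1_c20 LD2_c22 LD3_c43))))))
theorem f66393 : Led Lsl_ft (LP (LK LD1_c20 LD2_c22 LD3_c43)) = (LP (LK LD1_c11 LD2_c25 LD3_c13)) :=
  Lre_f IH (LK LD1_c20 LD2_c22 LD3_c43) (LK LD1_c11 LD2_c25 LD3_c13) Lrfl Lrfl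
theorem f119936 : Led Lsl_cf (LP (LK LD1_c5 LD2_c56 LD3_c42)) = (LP (LK LD1_c11 LD2_c25 LD3_c13)) :=
  Lgr Lrot108 (Lpr_ft (f119920 IH) (Lpr_ct (f119933 IH) (Lpr_ft (f66393 IH) (Lpn (LP (LK LD1_c11 LD2_c25 LD3_c13))))))
theorem f119942 : Led Lsl_ct (LP (LK LD1_c5 LD2_c56 LD3_c42)) = (LP (LK LD1_c11 LD2_c25 LD3_c13)) :=
  Lgr Lrot59 (Lpr_cf (f119936 IH) (Lpn (LP (LK LD1_c11 LD2_c25 LD3_c13))))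
theorem f66277 : Led Lsl_at (LP (LK LD1_c11 LD2_c25 LD3_c13)) = (LP (LK LD1_c5 LD2_c47 LD3_c46)) :=
  Lre_a IH (LK LD1_c11 LD2_c25 LD3_c13) (LK LD1_c5 LD2_c47 LD3_c46) Lrfl Lrfl
theorem f66266 : Led Lsl_et (LP (LK LD1_c2 LD2_c49 LD3_c51)) = (LP (LK LD1_c5 LD2_c47 LD3_c46)) :=
  Lre_e IH (LK LD1_c2 LD2_c49 LD3_c51) (LK LD1_c5 LD2_c47 LD3_c46) Lrfl Lrfl
theorem f66267 : Led Lsl_cf (LP (LK LD1_c6 LD2_c36 LD3_c47)) = (LP (LK LD1_c5 LD2_c47 LD3_c46)) :=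
  Lgr Lrot39 (Lpr_et (f66265 IH) (Lpr_ct (f66160 IH) (Lpr_et (f66266 IH) (Lpn (LP (LK LD1_c5 LD2_c47 LD3_c46))))))
theorem f119945 : Led Lsl_af (LP (LK LD1_c5 LD2_c56 LD3_c42)) = (LP (LK LD1_c6 LD2_c36 LD3_c47)) :=
  Lgr Lrot68 (Lpr_ct (f119942 IH) (Lpr_at (f66277 IH) (Lpe (f66267 IH) (Lpn (LP (LK LD1_c6 LD2_c36 LD3_c47))))))
theorem f83037 : Led Lsl_dt (LP (LK LD1_c5 LD2_c56 LD3_c42)) = (LP (LK LD1_c11 LD2_c38 LD3_c42)) :=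
  Lre_d IH (LK LD1_c5 LD2_c56 LD3_c42) (LK LD1_c11 LD2_c38 LD3_c42) Lrfl Lrfl
theorem f66290 : Led Lsl_dt (LP (LK LD1_c12 LD2_c39 LD3_c22)) = (LP (LK LD1_c6 LD2_c36 LD3_c47)) :=
  Lre_d IH (LK LD1_c12 LD2_c39 LD3_c22) (LK LD1_c6 LD2_c36 LD3_c47) Lrfl Lrfl
theorem f119951 : Led Lsl_at (LP (LK LD1_c11 LD2_c38 LD3_c42)) = (LP (LK LD1_c12 LD2_c39 LD3_c22)) :=
  Lgr Lrot51 (Lpe (f83037 IH) (Lpr_af (f119945 IH) (Lpe (f66290 IH) (Lpn (LP (LK LD1_c12 LD2_c39 LD3_c22))))))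
theorem f119955 : Led Lsl_bt (LP (LK LD1_c20 LD2_c37 LD3_c51)) = (LP (LK LD1_c11 LD2_c38 LD3_c42)) :=
  Lre_b IH (LK LD1_c20 LD2_c37 LD3_c51) (LK LD1_c11 LD2_c38 LD3_c42) Lrfl Lrfl
theorem f119136 : Led Lsl_bt (LP (LK LD1_c12 LD2_c39 LD3_c22)) = (LP (LK LD1_c6 LD2_c36 LD3_c58)) :=
  Lre_b IH (LK LD1_c12 LD2_c39 LD3_c22) (LK LD1_c6 LD2_c36 LD3_c58) Lrfl Lrfl
theorem f79334 : Led Lsl_cf (LP (LK LD1_c3 LD2_c6 LD3_c14)) = (LP (LK LD1_c3 LD2_c8 LD3_c14)) :=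
  Lgr Lrot166 (Lpe (K3.f79252 IH) (Lpr_dt (K3.f23343 IH) (Lpr_gt (K2.f23342 IH) (Lpr_dt (K3.f23561 IH) (Lpr_ct (K3.f23562 IH) (Lpe (K3.f23340 IH) (Lpr_gf (K3.f79330 IH) (Lpe (K2.f78718 IH) (Lpr_gf (K2.f79021 IH) (Lpn (LP (LK LD1_c3 LD2_c8 LD3_c14))))))))))))
theorem f77868 : Led Lsl_ct (LP (LK LD1_c1 LD2_c35 LD3_c8)) = (LP (LK LD1_c3 LD2_c17 LD3_c0)) :=
  Lre_c IH (LK LD1_c1 LD2_c35 LD3_c8) (LK LD1_c3 LD2_c17 LD3_c0) Lrfl Lrfl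
theorem f77869 : Led Lsl_bt (LP (LK LD1_c3 LD2_c17 LD3_c0)) = (LP (LK LD1_c6 LD2_c37 LD3_c23)) :=
  Lre_b IH (LK LD1_c3 LD2_c17 LD3_c0) (LK LD1_c6 LD2_c37 LD3_c23) Lrfl Lrfl
theorem f78137 : Led Lsl_bt (LP (LK LD1_c6 LD2_c21 LD3_c7)) = (LP (LK LD1_c3 LD2_c8 LD3_c14)) :=
  Lre_b IH (LK LD1_c6 LD2_c21 LD3_c7) (LK LD1_c3 LD2_c8 LD3_c14) Lrfl Lrfl
theorem f79340 : Led Lsl_ct (LP (LK LD1_c6 LD2_c37 LD3_c23)) = (LP (LK LD1_c6 LD2_c21 LD3_c7)) :=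
  Lgr Lrot83 (Lpe (f77869 IH) (Lpe (f77868 IH) (Lpe (K3.f77863 IH) (Lpr_cf (f79334 IH) (Lpe (f78137 IH) (Lpn (LP (LK LD1_c6 LD2_c21 LD3_c7))))))))
theorem f79366 : Led Lsl_cf (LP (LK LD1_c6 LD2_c37 LD3_c23)) = (LP (LK LD1_c6 LD2_c21 LD3_c7)) :=
  Lgr Lrot11 (Lpr_ct (f79340 IH) (Lpn (LP (LK LD1_c6 LD2_c21 LD3_c7))))
theorem f79369 : Led Lsl_at (LP (LK LD1_c6 LD2_c37 LD3_c23)) = (LP (LK LD1_c12 LD2_c40 LD3_c37)) :=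
  Lre_a IH (LK LD1_c6 LD2_c37 LD3_c23) (LK LD1_c12 LD2_c40 LD3_c37) Lrfl Lrfl
theorem f79370 : Led Lsl_ct (LP (LK LD1_c12 LD2_c40 LD3_c37)) = (LP (LK LD1_c12 LD2_c16 LD3_c16)) :=
  Lgr Lrot111 (Lpe (f79369 IH) (Lpr_cf (f79366 IH) (Lpe (f78148 IH) (Lpn (LP (LK LD1_c12 LD2_c16 LD3_c16))))))
theorem f79373 : Led Lsl_bt (LP (LK LD1_c6 LD2_c37 LD3_c27)) = (LP (LK LD1_c12 LD2_c40 LD3_c37)) :=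
  Lre_b IH (LK LD1_c6 LD2_c37 LD3_c27) (LK LD1_c12 LD2_c40 LD3_c37) Lrfl Lrfl
theorem f79374 : Led Lsl_ct (LP (LK LD1_c3 LD2_c17 LD3_c10)) = (LP (LK LD1_c6 LD2_c37 LD3_c27)) :=
  Lre_c IH (LK LD1_c3 LD2_c17 LD3_c10) (LK LD1_c6 LD2_c37 LD3_c27) Lrfl Lrfl
theorem f117901 : Led Lsl_bt (LP (LK LD1_c6 LD2_c2 LD3_c20)) = (LP (LK LD1_c3 LD2_c17 LD3_c10)) :=
  Lgr Lrot128 (Lpe (f117685 IH) (Lpr_bf (f117808 IH) (Lpe (f79370 IH) (Lpe (f79373 IH) (Lpe (f79374 IH) (Lpn (LP (LK LD1_c3 LD2_c17 LD3_c10))))))))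
theorem f117695 : Led Lsl_et (LP (LK LD1_c11 LD2_c48 LD3_c61)) = (LP (LK LD1_c6 LD2_c2 LD3_c20)) :=
  Lre_e IH (LK LD1_c11 LD2_c48 LD3_c61) (LK LD1_c6 LD2_c2 LD3_c20) Lrfl Lrfl
theorem f117907 : Led Lsl_et (LP (LK LD1_c3 LD2_c17 LD3_c10)) = (LP (LK LD1_c6 LD2_c37 LD3_c39)) :=
  Lre_e IH (LK LD1_c3 LD2_c17 LD3_c10) (LK LD1_c6 LD2_c37 LD3_c39) Lrfl Lrfl
theorem f117908 : Led Lsl_bf (LP (LK LD1_c11 LD2_c48 LD3_c61)) = (LP (LK LD1_c6 LD2_c37 LD3_c39)) :=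
  Lgr Lrot96 (Lpr_et (f117695 IH) (Lpr_bt (f117901 IH) (Lpr_et (f117907 IH) (Lpn (LP (LK LD1_c6 LD2_c37 LD3_c39))))))
theorem f117718 : Led Lsl_dt (LP (LK LD1_c11 LD2_c48 LD3_c61)) = (LP (LK LD1_c20 LD2_c51 LD3_c30)) :=
  Lre_d IH (LK LD1_c11 LD2_c48 LD3_c61) (LK LD1_c20 LD2_c51 LD3_c30) Lrfl Lrfl
theorem f117916 : Led Lsl_dt (LP (LK LD1_c12 LD2_c40 LD3_c61)) = (LP (LK LD1_c6 LD2_c37 LD3_c39)) :=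
  Lre_d IH (LK LD1_c12 LD2_c40 LD3_c61) (LK LD1_c6 LD2_c37 LD3_c39) Lrfl Lrfl
theorem f117917 : Led Lsl_bt (LP (LK LD1_c20 LD2_c51 LD3_c30)) = (LP (LK LD1_c12 LD2_c40 LD3_c61)) :=
  Lgr Lrot95 (Lpe (f117718 IH) (Lpr_bf (f117908 IH) (Lpe (f117916 IH) (Lpn (LP (LK LD1_c12 LD2_c40 LD3_c61))))))
theorem f117696 : Led Lsl_dt (LP (LK LD1_c20 LD2_c51 LD3_c30)) = (LP (LK LD1_c11 LD2_c48 LD3_c61)) :=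
  Lre_d IH (LK LD1_c20 LD2_c51 LD3_c30) (LK LD1_c11 LD2_c48 LD3_c61) Lrfl Lrfl
theorem f83019 : Led Lsl_dt (LP (LK LD1_c9 LD2_c7 LD3_c24)) = (LP (LK LD1_c16 LD2_c59 LD3_c36)) :=
  Lre_d IH (LK LD1_c9 LD2_c7 LD3_c24) (LK LD1_c16 LD2_c59 LD3_c36) Lrfl Lrfl
theorem f117697 : Led Lsl_ef (LP (LK LD1_c20 LD2_c51 LD3_c30)) = (LP (LK LD1_c16 LD2_c59 LD3_c36)) :=
  Lgr Lrot73 (Lpr_dt (f117696 IH) (Lpr_et (f117695 IH) (Lpr_dt (f117686 IH) (Lpr_et (f117467 IH) (Lpr_dt (f83019 IH) (Lpn (LP (LK LD1_c16 LD2_c59 LD3_c36))))))))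
theorem f117949 : Led Lsl_et (LP (LK LD1_c12 LD2_c40 LD3_c61)) = (LP (LK LD1_c21 LD2_c47 LD3_c18)) :=
  Lre_e IH (LK LD1_c12 LD2_c40 LD3_c61) (LK LD1_c21 LD2_c47 LD3_c18) Lrfl Lrfl
theorem f117950 : Led Lsl_bf (LP (LK LD1_c16 LD2_c59 LD3_c36)) = (LP (LK LD1_c21 LD2_c47 LD3_c18)) :=
  Lgr Lrot96 (Lpe (f117697 IH) (Lpr_bt (f117917 IH) (Lpr_et (f117949 IH) (Lpn (LP (LK LD1_c21 LD2_c47 LD3_c18))))))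
theorem f117477 : Led Lsl_dt (LP (LK LD1_c16 LD2_c59 LD3_c36)) = (LP (LK LD1_c9 LD2_c7 LD3_c24)) :=
  Lre_d IH (LK LD1_c16 LD2_c59 LD3_c36) (LK LD1_c9 LD2_c7 LD3_c24) Lrfl Lrfl
theorem f117958 : Led Lsl_dt (LP (LK LD1_c12 LD2_c40 LD3_c58)) = (LP (LK LD1_c21 LD2_c47 LD3_c18)) :=
  Lre_d IH (LK LD1_c12 LD2_c40 LD3_c58) (LK LD1_c21 LD2_c47 LD3_c18) Lrfl Lrfl
theorem f117959 : Led Lsl_bt (LP (LK LD1_c9 LD2_c7 LD3_c24)) = (LP (LK LD1_c12 LD2_c40 LD3_c58)) :=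
  Lgr Lrot95 (Lpe (f117477 IH) (Lpr_bf (f117950 IH) (Lpe (f117958 IH) (Lpn (LP (LK LD1_c12 LD2_c40 LD3_c58))))))
theorem f117470 : Led Lsl_af (LP (LK LD1_c9 LD2_c7 LD3_c24)) = (LP (LK LD1_c5 LD2_c56 LD3_c43)) :=
  Lgr Lrot0 (Lpr_at (f117468 IH) (Lpn (LP (LK LD1_c5 LD2_c56 LD3_c43))))
theorem f117961 : Led Lsl_at (LP (LK LD1_c12 LD2_c40 LD3_c58)) = (LP (LK LD1_c6 LD2_c37 LD3_c42)) :=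
  Lre_a IH (LK LD1_c12 LD2_c40 LD3_c58) (LK LD1_c6 LD2_c37 LD3_c42) Lrfl Lrfl
theorem f87462 : Led Lsl_bt (LP (LK LD1_c6 LD2_c37 LD3_c42)) = (LP (LK LD1_c3 LD2_c17 LD3_c13)) :=
  Lre_b IH (LK LD1_c6 LD2_c37 LD3_c42) (LK LD1_c3 LD2_c17 LD3_c13) Lrfl Lrfl
theorem f117962 : Led Lsl_af (LP (LK LD1_c6 LD2_c35 LD3_c28)) = (LP (LK LD1_c3 LD2_c17 LD3_c13)) :=
  Lgr Lrot36 (Lpe (f112255 IH) (Lpe (f117470 IH) (Lpr_bt (f117959 IH) (Lpr_at (f117961 IH) (Lpr_bt (f87462 IH) (Lpn (LP (LK LD1_c3 LD2_c17 LD3_c13))))))))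
theorem f96675 : Led Lsl_dt (LP (LK LD1_c6 LD2_c35 LD3_c28)) = (LP (LK LD1_c12 LD2_c36 LD3_c58)) :=
  Lre_d IH (LK LD1_c6 LD2_c35 LD3_c28) (LK LD1_c12 LD2_c36 LD3_c58) Lrfl Lrfl
theorem f66078 : Led Lsl_dt (LP (LK LD1_c6 LD2_c37 LD3_c49)) = (LP (LK LD1_c3 LD2_c17 LD3_c13)) :=
  Lre_d IH (LK LD1_c6 LD2_c37 LD3_c49) (LK LD1_c3 LD2_c17 LD3_c13) Lrfl Lrfl
theorem f117969 : Led Lsl_at (LP (LK LD1_c12 LD2_c36 LD3_c58)) = (LP (LK LD1_c6 LD2_c37 LD3_c49)) :=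
  Lgr Lrot51 (Lpe (f96675 IH) (Lpr_af (f117962 IH) (Lpe (f66078 IH) (Lpn (LP (LK LD1_c6 LD2_c37 LD3_c49))))))
theorem f96750 : Led Lsl_et (LP (LK LD1_c6 LD2_c35 LD3_c30)) = (LP (LK LD1_c12 LD2_c36 LD3_c58)) :=
  Lre_e IH (LK LD1_c6 LD2_c35 LD3_c30) (LK LD1_c12 LD2_c36 LD3_c58) Lrfl Lrfl
theorem f66077 : Led Lsl_et (LP (LK LD1_c6 LD2_c37 LD3_c49)) = (LP (LK LD1_c3 LD2_c17 LD3_c16)) :=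
  Lre_e IH (LK LD1_c6 LD2_c37 LD3_c49) (LK LD1_c3 LD2_c17 LD3_c16) Lrfl Lrfl
theorem f117979 : Led Lsl_af (LP (LK LD1_c6 LD2_c35 LD3_c30)) = (LP (LK LD1_c3 LD2_c17 LD3_c16)) :=
  Lgr Lrot50 (Lpr_et (f96750 IH) (Lpr_at (f117969 IH) (Lpr_et (f66077 IH) (Lpn (LP (LK LD1_c3 LD2_c17 LD3_c16))))))
theorem f118021 : Led Lsl_ct (LP (LK LD1_c12 LD2_c37 LD3_c2)) = (LP (LK LD1_c6 LD2_c35 LD3_c30)) :=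
  Lre_c IH (LK LD1_c12 LD2_c37 LD3_c2) (LK LD1_c6 LD2_c35 LD3_c30) Lrfl Lrfl
theorem f118022 : Led Lsl_dt (LP (LK LD1_c21 LD2_c43 LD3_c21)) = (LP (LK LD1_c12 LD2_c37 LD3_c2)) :=
  Lre_d IH (LK LD1_c21 LD2_c43 LD3_c21) (LK LD1_c12 LD2_c37 LD3_c2) Lrfl Lrfl
theorem f118015 : Led Lsl_ft (LP (LK LD1_c6 LD2_c37 LD3_c58)) = (LP (LK LD1_c3 LD2_c17 LD3_c16)) :=
  Lre_f IH (LK LD1_c6 LD2_c37 LD3_c58) (LK LD1_c3 LD2_c17 LD3_c16) Lrfl Lrfl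
theorem f118023 : Led Lsl_dt (LP (LK LD1_c6 LD2_c37 LD3_c58)) = (LP (LK LD1_c3 LD2_c17 LD3_c17)) :=
  Lre_d IH (LK LD1_c6 LD2_c37 LD3_c58) (LK LD1_c3 LD2_c17 LD3_c17) Lrfl Lrfl
theorem f118024 : Led Lsl_ct (LP (LK LD1_c3 LD2_c17 LD3_c17)) = (LP (LK LD1_c1 LD2_c35 LD3_c17)) :=
  Lre_c IH (LK LD1_c3 LD2_c17 LD3_c17) (LK LD1_c1 LD2_c35 LD3_c17) Lrfl Lrfl
theorem f118025 : Led Lsl_dt (LP (LK LD1_c1 LD2_c35 LD3_c17)) = (LP (LK LD1_c3 LD2_c17 LD3_c26)) :=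
  Lre_d IH (LK LD1_c1 LD2_c35 LD3_c17) (LK LD1_c3 LD2_c17 LD3_c26) Lrfl Lrfl
theorem f118026 : Led Lsl_ct (LP (LK LD1_c3 LD2_c17 LD3_c26)) = (LP (LK LD1_c6 LD2_c38 LD3_c12)) :=
  Lre_c IH (LK LD1_c3 LD2_c17 LD3_c26) (LK LD1_c6 LD2_c38 LD3_c12) Lrfl Lrfl
theorem f118027 : Led Lsl_dt (LP (LK LD1_c6 LD2_c38 LD3_c12)) = (LP (LK LD1_c12 LD2_c42 LD3_c11)) :=
  Lre_d IH (LK LD1_c6 LD2_c38 LD3_c12) (LK LD1_c12 LD2_c42 LD3_c11) Lrfl Lrfl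
theorem f118028 : Led Lsl_cf (LP (LK LD1_c21 LD2_c43 LD3_c21)) = (LP (LK LD1_c12 LD2_c42 LD3_c11)) :=
  Lgr Lrot161 (Lpr_dt (f118022 IH) (Lpr_ct (f118021 IH) (Lpr_af (f117979 IH) (Lpe (f118015 IH) (Lpr_dt (f118023 IH) (Lpr_ct (f118024 IH) (Lpr_dt (f118025 IH) (Lpr_ct (f118026 IH) (Lpr_dt (f118027 IH) (Lpn (LP (LK LD1_c12 LD2_c42 LD3_c11))))))))))))
theorem f96751 : Led Lsl_dt (LP (LK LD1_c6 LD2_c35 LD3_c30)) = (LP (LK LD1_c3 LD2_c16 LD3_c6)) :=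
  Lre_d IH (LK LD1_c6 LD2_c35 LD3_c30) (LK LD1_c3 LD2_c16 LD3_c6) Lrfl Lrfl
theorem f118032 : Led Lsl_ct (LP (LK LD1_c3 LD2_c16 LD3_c6)) = (LP (LK LD1_c1 LD2_c34 LD3_c49)) :=
  Lre_c IH (LK LD1_c3 LD2_c16 LD3_c6) (LK LD1_c1 LD2_c34 LD3_c49) Lrfl Lrfl
theorem f113979 : Led Lsl_dt (LP (LK LD1_c1 LD2_c34 LD3_c49)) = (LP (LK LD1_c3 LD2_c16 LD3_c7)) :=
  Lre_d IH (LK LD1_c1 LD2_c34 LD3_c49) (LK LD1_c3 LD2_c16 LD3_c7) Lrfl Lrfl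
theorem f118033 : Led Lsl_ct (LP (LK LD1_c3 LD2_c16 LD3_c7)) = (LP (LK LD1_c6 LD2_c35 LD3_c33)) :=
  Lre_c IH (LK LD1_c3 LD2_c16 LD3_c7) (LK LD1_c6 LD2_c35 LD3_c33) Lrfl Lrfl
theorem f118047 : Led Lsl_ft (LP (LK LD1_c6 LD2_c38 LD3_c12)) = (LP (LK LD1_c3 LD2_c17 LD3_c25)) :=
  Lre_f IH (LK LD1_c6 LD2_c38 LD3_c12) (LK LD1_c3 LD2_c17 LD3_c25) Lrfl Lrfl
theorem f118048 : Led Lsl_af (LP (LK LD1_c6 LD2_c35 LD3_c33)) = (LP (LK LD1_c3 LD2_c17 LD3_c25)) :=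
  Lgr Lrot109 (Lpe (f118033 IH) (Lpe (f113979 IH) (Lpe (f118032 IH) (Lpe (f96751 IH) (Lpe (f118021 IH) (Lpe (f118022 IH) (Lpr_cf (f118028 IH) (Lpe (f118027 IH) (Lpr_ft (f118047 IH) (Lpn (LP (LK LD1_c3 LD2_c17 LD3_c25))))))))))))
theorem f118064 : Led Lsl_ft (LP (LK LD1_c6 LD2_c35 LD3_c33)) = (LP (LK LD1_c12 LD2_c37 LD3_c9)) :=
  Lre_f IH (LK LD1_c6 LD2_c35 LD3_c33) (LK LD1_c12 LD2_c37 LD3_c9) Lrfl Lrfl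
theorem f118065 : Led Lsl_at (LP (LK LD1_c12 LD2_c37 LD3_c9)) = (LP (LK LD1_c6 LD2_c38 LD3_c12)) :=
  Lgr Lrot66 (Lpe (f118064 IH) (Lpr_af (f118048 IH) (Lpe (f118047 IH) (Lpn (LP (LK LD1_c6 LD2_c38 LD3_c12))))))
theorem f118083 : Led Lsl_dt (LP (LK LD1_c21 LD2_c43 LD3_c33)) = (LP (LK LD1_c12 LD2_c37 LD3_c9)) :=
  Lre_d IH (LK LD1_c21 LD2_c43 LD3_c33) (LK LD1_c12 LD2_c37 LD3_c9) Lrfl Lrfl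
theorem f118084 : Led Lsl_af (LP (LK LD1_c21 LD2_c43 LD3_c33)) = (LP (LK LD1_c12 LD2_c42 LD3_c11)) :=
  Lgr Lrot117 (Lpr_dt (f118083 IH) (Lpr_at (f118065 IH) (Lpr_dt (f118027 IH) (Lpn (LP (LK LD1_c12 LD2_c42 LD3_c11))))))
theorem f118040 : Led Lsl_ft (LP (LK LD1_c6 LD2_c38 LD3_c11)) = (LP (LK LD1_c12 LD2_c42 LD3_c11)) :=
  Lre_f IH (LK LD1_c6 LD2_c38 LD3_c11) (LK LD1_c12 LD2_c42 LD3_c11) Lrfl Lrfl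
theorem f118061 : Led Lsl_dt (LP (LK LD1_c6 LD2_c38 LD3_c11)) = (LP (LK LD1_c3 LD2_c17 LD3_c25)) :=
  Lre_d IH (LK LD1_c6 LD2_c38 LD3_c11) (LK LD1_c3 LD2_c17 LD3_c25) Lrfl Lrfl
theorem f118101 : Led Lsl_ct (LP (LK LD1_c3 LD2_c17 LD3_c25)) = (LP (LK LD1_c1 LD2_c35 LD3_c16)) :=
  Lre_c IH (LK LD1_c3 LD2_c17 LD3_c25) (LK LD1_c1 LD2_c35 LD3_c16) Lrfl Lrfl
theorem f66062 : Led Lsl_ct (LP (LK LD1_c0 LD2_c44 LD3_c16)) = (LP (LK LD1_c1 LD2_c35 LD3_c13)) :=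
  Lre_c IH (LK LD1_c0 LD2_c44 LD3_c16) (LK LD1_c1 LD2_c35 LD3_c13) Lrfl Lrfl
theorem f66015 : Led Lsl_dt (LP (LK LD1_c1 LD2_c35 LD3_c13)) = (LP (LK LD1_c3 LD2_c17 LD3_c16)) :=
  Lre_d IH (LK LD1_c1 LD2_c35 LD3_c13) (LK LD1_c3 LD2_c17 LD3_c16) Lrfl Lrfl
theorem f66067 : Led Lsl_ct (LP (LK LD1_c3 LD2_c17 LD3_c16)) = (LP (LK LD1_c6 LD2_c37 LD3_c57)) :=
  Lre_c IH (LK LD1_c3 LD2_c17 LD3_c16) (LK LD1_c6 LD2_c37 LD3_c57) Lrfl Lrfl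
theorem f118102 : Led Lsl_dt (LP (LK LD1_c6 LD2_c37 LD3_c57)) = (LP (LK LD1_c12 LD2_c41 LD3_c44)) :=
  Lre_d IH (LK LD1_c6 LD2_c37 LD3_c57) (LK LD1_c12 LD2_c41 LD3_c44) Lrfl Lrfl
theorem f118103 : Led Lsl_cf (LP (LK LD1_c21 LD2_c43 LD3_c33)) = (LP (LK LD1_c12 LD2_c41 LD3_c44)) :=
  Lgr Lrot102 (Lpr_af (f118084 IH) (Lpe (f118040 IH) (Lpr_dt (f118061 IH) (Lpr_ct (f118101 IH) (Lpr_dt (K1.f61985 IH) (Lpr_ct (f66062 IH) (Lpr_dt (f66015 IH) (Lpr_ct (f66067 IH) (Lpr_dt (f118102 IH) (Lpn (LP (LK LD1_c12 LD2_c41 LD3_c44))))))))))))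
theorem f118110 : Led Lsl_ct (LP (LK LD1_c12 LD2_c37 LD3_c9)) = (LP (LK LD1_c6 LD2_c35 LD3_c34)) :=
  Lre_c IH (LK LD1_c12 LD2_c37 LD3_c9) (LK LD1_c6 LD2_c35 LD3_c34) Lrfl Lrfl
theorem f118111 : Led Lsl_dt (LP (LK LD1_c6 LD2_c35 LD3_c34)) = (LP (LK LD1_c3 LD2_c16 LD3_c8)) :=
  Lre_d IH (LK LD1_c6 LD2_c35 LD3_c34) (LK LD1_c3 LD2_c16 LD3_c8) Lrfl Lrfl
theorem f118112 : Led Lsl_ct (LP (LK LD1_c3 LD2_c16 LD3_c8)) = (LP (LK LD1_c6 LD2_c35 LD3_c31)) :=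
  Lre_c IH (LK LD1_c3 LD2_c16 LD3_c8) (LK LD1_c6 LD2_c35 LD3_c31) Lrfl Lrfl
theorem f118113 : Led Lsl_dt (LP (LK LD1_c6 LD2_c35 LD3_c31)) = (LP (LK LD1_c12 LD2_c37 LD3_c3)) :=
  Lre_d IH (LK LD1_c6 LD2_c35 LD3_c31) (LK LD1_c12 LD2_c37 LD3_c3) Lrfl Lrfl
theorem f118114 : Led Lsl_ct (LP (LK LD1_c12 LD2_c37 LD3_c3)) = (LP (LK LD1_c21 LD2_c43 LD3_c22)) :=
  Lre_c IH (LK LD1_c12 LD2_c37 LD3_c3) (LK LD1_c21 LD2_c43 LD3_c22) Lrfl Lrfl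
theorem f118123 : Led Lsl_ft (LP (LK LD1_c6 LD2_c37 LD3_c57)) = (LP (LK LD1_c12 LD2_c41 LD3_c45)) :=
  Lre_f IH (LK LD1_c6 LD2_c37 LD3_c57) (LK LD1_c12 LD2_c41 LD3_c45) Lrfl Lrfl
theorem f118124 : Led Lsl_af (LP (LK LD1_c21 LD2_c43 LD3_c22)) = (LP (LK LD1_c12 LD2_c41 LD3_c45)) :=
  Lgr Lrot109 (Lpe (f118114 IH) (Lpe (f118113 IH) (Lpe (f118112 IH) (Lpe (f118111 IH) (Lpe (f118110 IH) (Lpe (f118083 IH) (Lpr_cf (f118103 IH) (Lpe (f118102 IH) (Lpr_ft (f118123 IH) (Lpn (LP (LK LD1_c12 LD2_c41 LD3_c45))))))))))))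
theorem f118041 : Led Lsl_ct (LP (LK LD1_c12 LD2_c42 LD3_c9)) = (LP (LK LD1_c6 LD2_c38 LD3_c11)) :=
  Lre_c IH (LK LD1_c12 LD2_c42 LD3_c9) (LK LD1_c6 LD2_c38 LD3_c11) Lrfl Lrfl
theorem f118115 : Led Lsl_dt (LP (LK LD1_c21 LD2_c43 LD3_c22)) = (LP (LK LD1_c12 LD2_c42 LD3_c9)) :=
  Lgr Lrot173 (Lpe (f118114 IH) (Lpe (f118113 IH) (Lpe (f118112 IH) (Lpe (f118111 IH) (Lpe (f118110 IH) (Lpe (f118083 IH) (Lpr_cf (f118103 IH) (Lpe (f118102 IH) (Lpe (f66067 IH) (Lpe (f66015 IH) (Lpe (f66062 IH) (Lpe (K1.f61985 IH) (Lpe (f118101 IH) (Lpe (f118061 IH) (Lpe (f118041 IH) (Lpn (LP (LK LD1_c12 LD2_c42 LD3_c9))))))))))))))))))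
theorem f118034 : Led Lsl_dt (LP (LK LD1_c6 LD2_c35 LD3_c33)) = (LP (LK LD1_c12 LD2_c37 LD3_c8)) :=
  Lre_d IH (LK LD1_c6 LD2_c35 LD3_c33) (LK LD1_c12 LD2_c37 LD3_c8) Lrfl Lrfl
theorem f118035 : Led Lsl_ct (LP (LK LD1_c12 LD2_c37 LD3_c8)) = (LP (LK LD1_c21 LD2_c43 LD3_c31)) :=
  Lre_c IH (LK LD1_c12 LD2_c37 LD3_c8) (LK LD1_c21 LD2_c43 LD3_c31) Lrfl Lrfl
theorem f118036 : Led Lsl_ct (LP (LK LD1_c12 LD2_c41 LD3_c45)) = (LP (LK LD1_c6 LD2_c37 LD3_c58)) :=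
  Lre_c IH (LK LD1_c12 LD2_c41 LD3_c45) (LK LD1_c6 LD2_c37 LD3_c58) Lrfl Lrfl
theorem f118037 : Led Lsl_dt (LP (LK LD1_c21 LD2_c43 LD3_c31)) = (LP (LK LD1_c12 LD2_c41 LD3_c45)) :=
  Lgr Lrot173 (Lpe (f118035 IH) (Lpe (f118034 IH) (Lpe (f118033 IH) (Lpe (f113979 IH) (Lpe (f118032 IH) (Lpe (f96751 IH) (Lpe (f118021 IH) (Lpe (f118022 IH) (Lpr_cf (f118028 IH) (Lpe (f118027 IH) (Lpe (f118026 IH) (Lpe (f118025 IH) (Lpe (f118024 IH) (Lpe (f118023 IH) (Lpe (f118036 IH) (Lpn (LP (LK LD1_c12 LD2_c41 LD3_c45))))))))))))))))))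
theorem f118139 : Led Lsl_at (LP (LK LD1_c12 LD2_c42 LD3_c9)) = (LP (LK LD1_c21 LD2_c43 LD3_c31)) :=
  Lgr Lrot51 (Lpe (f118115 IH) (Lpr_af (f118124 IH) (Lpe (f118037 IH) (Lpn (LP (LK LD1_c21 LD2_c43 LD3_c31))))))
theorem f118162 : Led Lsl_et (LP (LK LD1_c21 LD2_c49 LD3_c28)) = (LP (LK LD1_c12 LD2_c42 LD3_c9)) :=
  Lre_e IH (LK LD1_c21 LD2_c49 LD3_c28) (LK LD1_c12 LD2_c42 LD3_c9) Lrfl Lrfl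
theorem f118163 : Led Lsl_et (LP (LK LD1_c21 LD2_c43 LD3_c31)) = (LP (LK LD1_c30 LD2_c7 LD3_c61)) :=
  Lre_e IH (LK LD1_c21 LD2_c43 LD3_c31) (LK LD1_c30 LD2_c7 LD3_c61) Lrfl Lrfl
theorem f118164 : Led Lsl_af (LP (LK LD1_c21 LD2_c49 LD3_c28)) = (LP (LK LD1_c30 LD2_c7 LD3_c61)) :=
  Lgr Lrot50 (Lpr_et (f118162 IH) (Lpr_at (f118139 IH) (Lpr_et (f118163 IH) (Lpn (LP (LK LD1_c30 LD2_c7 LD3_c61))))))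
theorem f118171 : Led Lsl_ct (LP (LK LD1_c21 LD2_c49 LD3_c28)) = (LP (LK LD1_c12 LD2_c42 LD3_c10)) :=
  Lre_c IH (LK LD1_c21 LD2_c49 LD3_c28) (LK LD1_c12 LD2_c42 LD3_c10) Lrfl Lrfl
theorem f118172 : Led Lsl_ct (LP (LK LD1_c21 LD2_c43 LD3_c32)) = (LP (LK LD1_c30 LD2_c7 LD3_c61)) :=
  Lre_c IH (LK LD1_c21 LD2_c43 LD3_c32) (LK LD1_c30 LD2_c7 LD3_c61) Lrfl Lrfl
theorem f118173 : Led Lsl_at (LP (LK LD1_c12 LD2_c42 LD3_c10)) = (LP (LK LD1_c21 LD2_c43 LD3_c32)) :=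
  Lgr Lrot107 (Lpe (f118171 IH) (Lpr_af (f118164 IH) (Lpe (f118172 IH) (Lpn (LP (LK LD1_c21 LD2_c43 LD3_c32))))))
theorem f118177 : Led Lsl_af (LP (LK LD1_c12 LD2_c42 LD3_c10)) = (LP (LK LD1_c21 LD2_c43 LD3_c32)) :=
  Lgr Lrot0 (Lpr_at (f118173 IH) (Lpn (LP (LK LD1_c21 LD2_c43 LD3_c32))))
theorem f118201 : Led Lsl_et (LP (LK LD1_c12 LD2_c42 LD3_c10)) = (LP (LK LD1_c6 LD2_c38 LD3_c11)) :=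
  Lre_e IH (LK LD1_c12 LD2_c42 LD3_c10) (LK LD1_c6 LD2_c38 LD3_c11) Lrfl Lrfl
theorem f118202 : Led Lsl_et (LP (LK LD1_c12 LD2_c37 LD3_c8)) = (LP (LK LD1_c21 LD2_c43 LD3_c32)) :=
  Lre_e IH (LK LD1_c12 LD2_c37 LD3_c8) (LK LD1_c21 LD2_c43 LD3_c32) Lrfl Lrfl
theorem f118203 : Led Lsl_at (LP (LK LD1_c6 LD2_c38 LD3_c11)) = (LP (LK LD1_c12 LD2_c37 LD3_c8)) :=
  Lgr Lrot80 (Lpe (f118201 IH) (Lpr_af (f118177 IH) (Lpe (f118202 IH) (Lpn (LP (LK LD1_c12 LD2_c37 LD3_c8))))))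
theorem f118212 : Led Lsl_ft (LP (LK LD1_c12 LD2_c42 LD3_c11)) = (LP (LK LD1_c6 LD2_c38 LD3_c11)) :=
  Lre_f IH (LK LD1_c12 LD2_c42 LD3_c11) (LK LD1_c6 LD2_c38 LD3_c11) Lrfl Lrfl
theorem f118071 : Led Lsl_dt (LP (LK LD1_c12 LD2_c42 LD3_c11)) = (LP (LK LD1_c6 LD2_c38 LD3_c12)) :=
  Lre_d IH (LK LD1_c12 LD2_c42 LD3_c11) (LK LD1_c6 LD2_c38 LD3_c12) Lrfl Lrfl
theorem f118072 : Led Lsl_ct (LP (LK LD1_c6 LD2_c38 LD3_c12)) = (LP (LK LD1_c3 LD2_c17 LD3_c26)) :=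
  Lre_c IH (LK LD1_c6 LD2_c38 LD3_c12) (LK LD1_c3 LD2_c17 LD3_c26) Lrfl Lrfl
theorem f118091 : Led Lsl_dt (LP (LK LD1_c3 LD2_c17 LD3_c26)) = (LP (LK LD1_c1 LD2_c35 LD3_c17)) :=
  Lre_d IH (LK LD1_c3 LD2_c17 LD3_c26) (LK LD1_c1 LD2_c35 LD3_c17) Lrfl Lrfl
theorem f118217 : Led Lsl_ct (LP (LK LD1_c1 LD2_c35 LD3_c17)) = (LP (LK LD1_c3 LD2_c17 LD3_c17)) :=
  Lre_c IH (LK LD1_c1 LD2_c35 LD3_c17) (LK LD1_c3 LD2_c17 LD3_c17) Lrfl Lrfl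
theorem f118218 : Led Lsl_dt (LP (LK LD1_c3 LD2_c17 LD3_c17)) = (LP (LK LD1_c6 LD2_c37 LD3_c58)) :=
  Lre_d IH (LK LD1_c3 LD2_c17 LD3_c17) (LK LD1_c6 LD2_c37 LD3_c58) Lrfl Lrfl
theorem f118138 : Led Lsl_ct (LP (LK LD1_c6 LD2_c37 LD3_c58)) = (LP (LK LD1_c12 LD2_c41 LD3_c45)) :=
  Lre_c IH (LK LD1_c6 LD2_c37 LD3_c58) (LK LD1_c12 LD2_c41 LD3_c45) Lrfl Lrfl
theorem f118161 : Led Lsl_ct (LP (LK LD1_c21 LD2_c43 LD3_c31)) = (LP (LK LD1_c12 LD2_c37 LD3_c8)) :=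
  Lre_c IH (LK LD1_c21 LD2_c43 LD3_c31) (LK LD1_c12 LD2_c37 LD3_c8) Lrfl Lrfl
theorem f118219 : Led Lsl_dt (LP (LK LD1_c12 LD2_c41 LD3_c45)) = (LP (LK LD1_c21 LD2_c43 LD3_c31)) :=
  Lgr Lrot120 (Lpe (f118138 IH) (Lpe (f118218 IH) (Lpe (f118217 IH) (Lpe (f118091 IH) (Lpe (f118072 IH) (Lpe (f118071 IH) (Lpr_ft (f118212 IH) (Lpr_at (f118203 IH) (Lpe (f118161 IH) (Lpn (LP (LK LD1_c21 LD2_c43 LD3_c31))))))))))))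
theorem f118232 : Led Lsl_ft (LP (LK LD1_c3 LD2_c17 LD3_c26)) = (LP (LK LD1_c1 LD2_c35 LD3_c16)) :=
  Lre_f IH (LK LD1_c3 LD2_c17 LD3_c26) (LK LD1_c1 LD2_c35 LD3_c16) Lrfl Lrfl
theorem f118211 : Led Lsl_dt (LP (LK LD1_c12 LD2_c37 LD3_c8)) = (LP (LK LD1_c6 LD2_c35 LD3_c33)) :=
  Lre_d IH (LK LD1_c12 LD2_c37 LD3_c8) (LK LD1_c6 LD2_c35 LD3_c33) Lrfl Lrfl
theorem f118058 : Led Lsl_ct (LP (LK LD1_c6 LD2_c35 LD3_c33)) = (LP (LK LD1_c3 LD2_c16 LD3_c7)) :=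
  Lre_c IH (LK LD1_c6 LD2_c35 LD3_c33) (LK LD1_c3 LD2_c16 LD3_c7) Lrfl Lrfl
theorem f118233 : Led Lsl_at (LP (LK LD1_c1 LD2_c35 LD3_c16)) = (LP (LK LD1_c3 LD2_c16 LD3_c7)) :=
  Lgr Lrot33 (Lpe (f118232 IH) (Lpr_dt (f118091 IH) (Lpr_ct (f118217 IH) (Lpr_dt (f118218 IH) (Lpr_ct (f118138 IH) (Lpr_dt (f118219 IH) (Lpr_ct (f118161 IH) (Lpr_dt (f118211 IH) (Lpr_ct (f118058 IH) (Lpn (LP (LK LD1_c3 LD2_c16 LD3_c7))))))))))))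
theorem f118239 : Led Lsl_ft (LP (LK LD1_c3 LD2_c16 LD3_c7)) = (LP (LK LD1_c6 LD2_c35 LD3_c34)) :=
  Lre_f IH (LK LD1_c3 LD2_c16 LD3_c7) (LK LD1_c6 LD2_c35 LD3_c34) Lrfl Lrfl
theorem f118240 : Led Lsl_af (LP (LK LD1_c3 LD2_c17 LD3_c26)) = (LP (LK LD1_c6 LD2_c35 LD3_c34)) :=
  Lgr Lrot45 (Lpr_ft (f118232 IH) (Lpr_at (f118233 IH) (Lpr_ft (f118239 IH) (Lpn (LP (LK LD1_c6 LD2_c35 LD3_c34))))))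
theorem f118242 : Led Lsl_dt (LP (LK LD1_c3 LD2_c16 LD3_c8)) = (LP (LK LD1_c6 LD2_c35 LD3_c34)) :=
  Lre_d IH (LK LD1_c3 LD2_c16 LD3_c8) (LK LD1_c6 LD2_c35 LD3_c34) Lrfl Lrfl
theorem f118243 : Led Lsl_at (LP (LK LD1_c1 LD2_c35 LD3_c17)) = (LP (LK LD1_c3 LD2_c16 LD3_c8)) :=
  Lgr Lrot51 (Lpe (f118091 IH) (Lpr_af (f118240 IH) (Lpe (f118242 IH) (Lpn (LP (LK LD1_c3 LD2_c16 LD3_c8))))))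
theorem f118256 : Led Lsl_af (LP (LK LD1_c3 LD2_c17 LD3_c17)) = (LP (LK LD1_c6 LD2_c35 LD3_c31)) :=
  Lgr Lrot68 (Lpr_ct (f118024 IH) (Lpr_at (f118243 IH) (Lpr_ct (f118112 IH) (Lpn (LP (LK LD1_c6 LD2_c35 LD3_c31))))))
theorem f117937 : Led Lsl_bt (LP (LK LD1_c3 LD2_c17 LD3_c17)) = (LP (LK LD1_c6 LD2_c37 LD3_c46)) :=
  Lre_b IH (LK LD1_c3 LD2_c17 LD3_c17) (LK LD1_c6 LD2_c37 LD3_c46) Lrfl Lrfl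
theorem f117936 : Led Lsl_at (LP (LK LD1_c6 LD2_c37 LD3_c46)) = (LP (LK LD1_c12 LD2_c41 LD3_c0)) :=
  Lre_a IH (LK LD1_c6 LD2_c37 LD3_c46) (LK LD1_c12 LD2_c41 LD3_c0) Lrfl Lrfl
theorem f117799 : Led Lsl_ft (LP (LK LD1_c11 LD2_c48 LD3_c61)) = (LP (LK LD1_c20 LD2_c51 LD3_c31)) :=
  Lre_f IH (LK LD1_c11 LD2_c48 LD3_c61) (LK LD1_c20 LD2_c51 LD3_c31) Lrfl Lrfl
theorem f117919 : Led Lsl_ft (LP (LK LD1_c12 LD2_c41 LD3_c0)) = (LP (LK LD1_c6 LD2_c37 LD3_c39)) :=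
  Lre_f IH (LK LD1_c12 LD2_c41 LD3_c0) (LK LD1_c6 LD2_c37 LD3_c39) Lrfl Lrfl
theorem f117920 : Led Lsl_bt (LP (LK LD1_c20 LD2_c51 LD3_c31)) = (LP (LK LD1_c12 LD2_c41 LD3_c0)) :=
  Lgr Lrot35 (Lpe (f117799 IH) (Lpr_bf (f117908 IH) (Lpe (f117919 IH) (Lpn (LP (LK LD1_c12 LD2_c41 LD3_c0))))))
theorem f117926 : Led Lsl_bf (LP (LK LD1_c20 LD2_c51 LD3_c31)) = (LP (LK LD1_c12 LD2_c41 LD3_c0)) :=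
  Lgr Lrot24 (Lpr_bt (f117920 IH) (Lpn (LP (LK LD1_c12 LD2_c41 LD3_c0))))
theorem f118270 : Led Lsl_bt (LP (LK LD1_c12 LD2_c36 LD3_c57)) = (LP (LK LD1_c6 LD2_c35 LD3_c31)) :=
  Lre_b IH (LK LD1_c12 LD2_c36 LD3_c57) (LK LD1_c6 LD2_c35 LD3_c31) Lrfl Lrfl
theorem f118271 : Led Lsl_at (LP (LK LD1_c20 LD2_c51 LD3_c31)) = (LP (LK LD1_c12 LD2_c36 LD3_c57)) :=
  Lgr Lrot67 (Lpr_bf (f117926 IH) (Lpe (f117936 IH) (Lpe (f117937 IH) (Lpr_af (f118256 IH) (Lpe (f118270 IH) (Lpn (LP (LK LD1_c12 LD2_c36 LD3_c57))))))))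
theorem f117707 : Led Lsl_ft (LP (LK LD1_c20 LD2_c51 LD3_c31)) = (LP (LK LD1_c11 LD2_c48 LD3_c61)) :=
  Lre_f IH (LK LD1_c20 LD2_c51 LD3_c31) (LK LD1_c11 LD2_c48 LD3_c61) Lrfl Lrfl
theorem f117708 : Led Lsl_et (LP (LK LD1_c3 LD2_c16 LD3_c43)) = (LP (LK LD1_c6 LD2_c36 LD3_c46)) :=
  Lre_e IH (LK LD1_c3 LD2_c16 LD3_c43) (LK LD1_c6 LD2_c36 LD3_c46) Lrfl Lrfl
theorem f117709 : Led Lsl_ft (LP (LK LD1_c6 LD2_c36 LD3_c46)) = (LP (LK LD1_c12 LD2_c39 LD3_c21)) :=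
  Lre_f IH (LK LD1_c6 LD2_c36 LD3_c46) (LK LD1_c12 LD2_c39 LD3_c21) Lrfl Lrfl
theorem f117710 : Led Lsl_ef (LP (LK LD1_c20 LD2_c51 LD3_c31)) = (LP (LK LD1_c12 LD2_c39 LD3_c21)) :=
  Lgr Lrot21 (Lpr_ft (f117707 IH) (Lpr_et (f117695 IH) (Lpr_ft (f117699 IH) (Lpr_et (f117708 IH) (Lpr_ft (f117709 IH) (Lpn (LP (LK LD1_c12 LD2_c39 LD3_c21))))))))
theorem f118317 : Led Lsl_at (LP (LK LD1_c6 LD2_c36 LD3_c51)) = (LP (LK LD1_c12 LD2_c39 LD3_c21)) :=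
  Lre_a IH (LK LD1_c6 LD2_c36 LD3_c51) (LK LD1_c12 LD2_c39 LD3_c21) Lrfl Lrfl
theorem f118318 : Led Lsl_ef (LP (LK LD1_c6 LD2_c36 LD3_c51)) = (LP (LK LD1_c12 LD2_c36 LD3_c57)) :=
  Lgr Lrot20 (Lpr_at (f118317 IH) (Lpe (f117710 IH) (Lpr_at (f118271 IH) (Lpn (LP (LK LD1_c12 LD2_c36 LD3_c57))))))
theorem f118344 : Led Lsl_et (LP (LK LD1_c6 LD2_c36 LD3_c51)) = (LP (LK LD1_c12 LD2_c36 LD3_c57)) :=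
  Lgr Lrot87 (Lpr_ef (f118318 IH) (Lpn (LP (LK LD1_c12 LD2_c36 LD3_c57))))
theorem f118349 : Led Lsl_bt (LP (LK LD1_c3 LD2_c16 LD3_c52)) = (LP (LK LD1_c6 LD2_c36 LD3_c51)) :=
  Lre_b IH (LK LD1_c3 LD2_c16 LD3_c52) (LK LD1_c6 LD2_c36 LD3_c51) Lrfl Lrfl
theorem f118350 : Led Lsl_ef (LP (LK LD1_c3 LD2_c16 LD3_c52)) = (LP (LK LD1_c6 LD2_c35 LD3_c31)) :=
  Lgr Lrot29 (Lpr_bt (f118349 IH) (Lpr_et (f118344 IH) (Lpr_bt (f118270 IH) (Lpn (LP (LK LD1_c6 LD2_c35 LD3_c31))))))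
theorem f118362 : Led Lsl_ft (LP (LK LD1_c3 LD2_c16 LD3_c52)) = (LP (LK LD1_c1 LD2_c35 LD3_c3)) :=
  Lre_f IH (LK LD1_c3 LD2_c16 LD3_c52) (LK LD1_c1 LD2_c35 LD3_c3) Lrfl Lrfl
theorem f103932 : Led Lsl_et (LP (LK LD1_c1 LD2_c35 LD3_c3)) = (LP (LK LD1_c0 LD2_c44 LD3_c12)) :=
  Lre_e IH (LK LD1_c1 LD2_c35 LD3_c3) (LK LD1_c0 LD2_c44 LD3_c12) Lrfl Lrfl
theorem f118275 : Led Lsl_ft (LP (LK LD1_c3 LD2_c16 LD3_c6)) = (LP (LK LD1_c6 LD2_c35 LD3_c31)) :=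
  Lre_f IH (LK LD1_c3 LD2_c16 LD3_c6) (LK LD1_c6 LD2_c35 LD3_c31) Lrfl Lrfl
theorem f96674 : Led Lsl_et (LP (LK LD1_c1 LD2_c34 LD3_c48)) = (LP (LK LD1_c3 LD2_c16 LD3_c6)) :=
  Lre_e IH (LK LD1_c1 LD2_c34 LD3_c48) (LK LD1_c3 LD2_c16 LD3_c6) Lrfl Lrfl
theorem f118363 : Led Lsl_ft (LP (LK LD1_c0 LD2_c44 LD3_c12)) = (LP (LK LD1_c1 LD2_c34 LD3_c48)) :=
  Lgr Lrot86 (Lpe (f103932 IH) (Lpe (f118362 IH) (Lpr_ef (f118350 IH) (Lpe (f118275 IH) (Lpe (f96674 IH) (Lpn (LP (LK LD1_c1 LD2_c34 LD3_c48))))))))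
theorem f118367 : Led Lsl_af (LP (LK LD1_c0 LD2_c44 LD3_c15)) = (LP (LK LD1_c1 LD2_c34 LD3_c48)) :=
  Lgr Lrot31 (Lpr_gf (K3.f103812 IH) (Lpe (K2.f79090 IH) (Lpr_ft (f118363 IH) (Lpn (LP (LK LD1_c1 LD2_c34 LD3_c48))))))
theorem f93522 : Led Lsl_dt (LP (LK LD1_c1 LD2_c34 LD3_c45)) = (LP (LK LD1_c3 LD2_c15 LD3_c60)) :=
  Lre_d IH (LK LD1_c1 LD2_c34 LD3_c45) (LK LD1_c3 LD2_c15 LD3_c60) Lrfl Lrfl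
theorem f110191 : Led Lsl_ff (LP (LK LD1_c1 LD2_c34 LD3_c45)) = (LP (LK LD1_c0 LD2_c44 LD3_c15)) :=
  Lgr Lrot19 (Lpr_dt (f93522 IH) (Lpr_ft (K3.f110185 IH) (Lpr_dt (K3.f61998 IH) (Lpn (LP (LK LD1_c0 LD2_c44 LD3_c15))))))
theorem f118372 : Led Lsl_at (LP (LK LD1_c1 LD2_c34 LD3_c45)) = (LP (LK LD1_c0 LD2_c44 LD3_c12)) :=
  Lgr Lrot66 (Lpr_ff (f110191 IH) (Lpr_af (f118367 IH) (Lpe (f118363 IH) (Lpn (LP (LK LD1_c0 LD2_c44 LD3_c12))))))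
theorem f118378 : Led Lsl_et (LP (LK LD1_c3 LD2_c15 LD3_c61)) = (LP (LK LD1_c1 LD2_c34 LD3_c45)) :=
  Lre_e IH (LK LD1_c3 LD2_c15 LD3_c61) (LK LD1_c1 LD2_c34 LD3_c45) Lrfl Lrfl
theorem f96109 : Led Lsl_et (LP (LK LD1_c0 LD2_c44 LD3_c12)) = (LP (LK LD1_c1 LD2_c35 LD3_c3)) :=
  Lre_e IH (LK LD1_c0 LD2_c44 LD3_c12) (LK LD1_c1 LD2_c35 LD3_c3) Lrfl Lrfl
theorem f118379 : Led Lsl_af (LP (LK LD1_c3 LD2_c15 LD3_c61)) = (LP (LK LD1_c1 LD2_c35 LD3_c3)) :=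
  Lgr Lrot50 (Lpr_et (f118378 IH) (Lpr_at (f118372 IH) (Lpr_et (f96109 IH) (Lpn (LP (LK LD1_c1 LD2_c35 LD3_c3))))))
theorem f118402 : Led Lsl_ct (LP (LK LD1_c1 LD2_c34 LD3_c46)) = (LP (LK LD1_c3 LD2_c15 LD3_c61)) :=
  Lre_c IH (LK LD1_c1 LD2_c34 LD3_c46) (LK LD1_c3 LD2_c15 LD3_c61) Lrfl Lrfl
theorem f110203 : Led Lsl_dt (LP (LK LD1_c3 LD2_c16 LD3_c1)) = (LP (LK LD1_c1 LD2_c34 LD3_c46)) :=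
  Lre_d IH (LK LD1_c3 LD2_c16 LD3_c1) (LK LD1_c1 LD2_c34 LD3_c46) Lrfl Lrfl
theorem f118403 : Led Lsl_ct (LP (LK LD1_c6 LD2_c35 LD3_c25)) = (LP (LK LD1_c3 LD2_c16 LD3_c1)) :=
  Lre_c IH (LK LD1_c6 LD2_c35 LD3_c25) (LK LD1_c3 LD2_c16 LD3_c1) Lrfl Lrfl
theorem f118404 : Led Lsl_dt (LP (LK LD1_c12 LD2_c36 LD3_c51)) = (LP (LK LD1_c6 LD2_c35 LD3_c25)) :=
  Lre_d IH (LK LD1_c12 LD2_c36 LD3_c51) (LK LD1_c6 LD2_c35 LD3_c25) Lrfl Lrfl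
theorem f118405 : Led Lsl_ct (LP (LK LD1_c21 LD2_c43 LD3_c5)) = (LP (LK LD1_c12 LD2_c36 LD3_c51)) :=
  Lre_c IH (LK LD1_c21 LD2_c43 LD3_c5) (LK LD1_c12 LD2_c36 LD3_c51) Lrfl Lrfl
theorem f118358 : Led Lsl_dt (LP (LK LD1_c3 LD2_c16 LD3_c52)) = (LP (LK LD1_c6 LD2_c37 LD3_c6)) :=
  Lre_d IH (LK LD1_c3 LD2_c16 LD3_c52) (LK LD1_c6 LD2_c37 LD3_c6) Lrfl Lrfl
theorem f118406 : Led Lsl_ct (LP (LK LD1_c6 LD2_c37 LD3_c6)) = (LP (LK LD1_c12 LD2_c40 LD3_c5)) :=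
  Lre_c IH (LK LD1_c6 LD2_c37 LD3_c6) (LK LD1_c12 LD2_c40 LD3_c5) Lrfl Lrfl
theorem f118407 : Led Lsl_df (LP (LK LD1_c21 LD2_c43 LD3_c5)) = (LP (LK LD1_c12 LD2_c40 LD3_c5)) :=
  Lgr Lrot106 (Lpr_ct (f118405 IH) (Lpr_dt (f118404 IH) (Lpr_ct (f118403 IH) (Lpr_dt (f110203 IH) (Lpr_ct (f118402 IH) (Lpr_af (f118379 IH) (Lpe (f118362 IH) (Lpr_dt (f118358 IH) (Lpr_ct (f118406 IH) (Lpn (LP (LK LD1_c12 LD2_c40 LD3_c5))))))))))))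
theorem f118393 : Led Lsl_dt (LP (LK LD1_c3 LD2_c15 LD3_c61)) = (LP (LK LD1_c6 LD2_c35 LD3_c20)) :=
  Lre_d IH (LK LD1_c3 LD2_c15 LD3_c61) (LK LD1_c6 LD2_c35 LD3_c20) Lrfl Lrfl
theorem f118410 : Led Lsl_ct (LP (LK LD1_c6 LD2_c35 LD3_c20)) = (LP (LK LD1_c12 LD2_c36 LD3_c44)) :=
  Lre_c IH (LK LD1_c6 LD2_c35 LD3_c20) (LK LD1_c12 LD2_c36 LD3_c44) Lrfl Lrfl
theorem f118431 : Led Lsl_ft (LP (LK LD1_c12 LD2_c40 LD3_c5)) = (LP (LK LD1_c6 LD2_c37 LD3_c5)) :=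
  Lre_f IH (LK LD1_c12 LD2_c40 LD3_c5) (LK LD1_c6 LD2_c37 LD3_c5) Lrfl Lrfl
theorem f118432 : Led Lsl_af (LP (LK LD1_c12 LD2_c36 LD3_c44)) = (LP (LK LD1_c6 LD2_c37 LD3_c5)) :=
  Lgr Lrot109 (Lpe (f118410 IH) (Lpe (f118393 IH) (Lpe (f118402 IH) (Lpe (f110203 IH) (Lpe (f118403 IH) (Lpe (f118404 IH) (Lpe (f118405 IH) (Lpr_df (f118407 IH) (Lpr_ft (f118431 IH) (Lpn (LP (LK LD1_c6 LD2_c37 LD3_c5))))))))))))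
theorem f118445 : Led Lsl_et (LP (LK LD1_c12 LD2_c36 LD3_c44)) = (LP (LK LD1_c21 LD2_c42 LD3_c51)) :=
  Lre_e IH (LK LD1_c12 LD2_c36 LD3_c44) (LK LD1_c21 LD2_c42 LD3_c51) Lrfl Lrfl
theorem f118446 : Led Lsl_et (LP (LK LD1_c12 LD2_c39 LD3_c45)) = (LP (LK LD1_c6 LD2_c37 LD3_c5)) :=
  Lre_e IH (LK LD1_c12 LD2_c39 LD3_c45) (LK LD1_c6 LD2_c37 LD3_c5) Lrfl Lrfl
theorem f118447 : Led Lsl_at (LP (LK LD1_c21 LD2_c42 LD3_c51)) = (LP (LK LD1_c12 LD2_c39 LD3_c45)) :=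
  Lgr Lrot80 (Lpe (f118445 IH) (Lpr_af (f118432 IH) (Lpe (f118446 IH) (Lpn (LP (LK LD1_c12 LD2_c39 LD3_c45))))))
theorem f93588 : Led Lsl_ct (LP (LK LD1_c12 LD2_c36 LD3_c38)) = (LP (LK LD1_c21 LD2_c42 LD3_c51)) :=
  Lre_c IH (LK LD1_c12 LD2_c36 LD3_c38) (LK LD1_c21 LD2_c42 LD3_c51) Lrfl Lrfl
theorem f66172 : Led Lsl_ct (LP (LK LD1_c12 LD2_c39 LD3_c45)) = (LP (LK LD1_c6 LD2_c36 LD3_c58)) :=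
  Lre_c IH (LK LD1_c12 LD2_c39 LD3_c45) (LK LD1_c6 LD2_c36 LD3_c58) Lrfl Lrfl
theorem f119133 : Led Lsl_af (LP (LK LD1_c12 LD2_c36 LD3_c38)) = (LP (LK LD1_c6 LD2_c36 LD3_c58)) :=
  Lgr Lrot68 (Lpr_ct (f93588 IH) (Lpr_at (f118447 IH) (Lpr_ct (f66172 IH) (Lpn (LP (LK LD1_c6 LD2_c36 LD3_c58))))))
theorem f119135 : Led Lsl_bt (LP (LK LD1_c12 LD2_c36 LD3_c38)) = (LP (LK LD1_c21 LD2_c42 LD3_c48)) :=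
  Lre_b IH (LK LD1_c12 LD2_c36 LD3_c38) (LK LD1_c21 LD2_c42 LD3_c48) Lrfl Lrfl
theorem f119956 : Led Lsl_af (LP (LK LD1_c20 LD2_c37 LD3_c51)) = (LP (LK LD1_c21 LD2_c42 LD3_c48)) :=
  Lgr Lrot36 (Lpr_bt (f119955 IH) (Lpr_at (f119951 IH) (Lpr_bt (f119136 IH) (Lpe (f119133 IH) (Lpr_bt (f119135 IH) (Lpn (LP (LK LD1_c21 LD2_c42 LD3_c48))))))))
theorem f119959 : Led Lsl_at (LP (LK LD1_c20 LD2_c37 LD3_c51)) = (LP (LK LD1_c21 LD2_c42 LD3_c48)) :=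
  Lgr Lrot100 (Lpr_af (f119956 IH) (Lpn (LP (LK LD1_c21 LD2_c42 LD3_c48))))
theorem f119968 : Led Lsl_dt (LP (LK LD1_c11 LD2_c38 LD3_c41)) = (LP (LK LD1_c20 LD2_c37 LD3_c51)) :=
  Lre_d IH (LK LD1_c11 LD2_c38 LD3_c41) (LK LD1_c20 LD2_c37 LD3_c51) Lrfl Lrfl
theorem f117048 : Led Lsl_dt (LP (LK LD1_c21 LD2_c42 LD3_c48)) = (LP (LK LD1_c12 LD2_c36 LD3_c33)) :=
  Lre_d IH (LK LD1_c21 LD2_c42 LD3_c48) (LK LD1_c12 LD2_c36 LD3_c33) Lrfl Lrfl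
theorem f119969 : Led Lsl_af (LP (LK LD1_c11 LD2_c38 LD3_c41)) = (LP (LK LD1_c12 LD2_c36 LD3_c33)) :=
  Lgr Lrot117 (Lpr_dt (f119968 IH) (Lpr_at (f119959 IH) (Lpr_dt (f117048 IH) (Lpn (LP (LK LD1_c12 LD2_c36 LD3_c33))))))
theorem f119974 : Led Lsl_et (LP (LK LD1_c11 LD2_c38 LD3_c41)) = (LP (LK LD1_c5 LD2_c56 LD3_c41)) :=
  Lre_e IH (LK LD1_c11 LD2_c38 LD3_c41) (LK LD1_c5 LD2_c56 LD3_c41) Lrfl Lrfl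
theorem f117051 : Led Lsl_et (LP (LK LD1_c6 LD2_c35 LD3_c15)) = (LP (LK LD1_c12 LD2_c36 LD3_c33)) :=
  Lre_e IH (LK LD1_c6 LD2_c35 LD3_c15) (LK LD1_c12 LD2_c36 LD3_c33) Lrfl Lrfl
theorem f119975 : Led Lsl_at (LP (LK LD1_c5 LD2_c56 LD3_c41)) = (LP (LK LD1_c6 LD2_c35 LD3_c15)) :=
  Lgr Lrot80 (Lpe (f119974 IH) (Lpr_af (f119969 IH) (Lpe (f117051 IH) (Lpn (LP (LK LD1_c6 LD2_c35 LD3_c15))))))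
theorem f110179 : Led Lsl_ft (LP (LK LD1_c6 LD2_c35 LD3_c15)) = (LP (LK LD1_c3 LD2_c17 LD3_c11)) :=
  Lgr Lrot75 (Lpe (f93544 IH) (Lpr_ff (K3.f110177 IH) (Lpe (f87383 IH) (Lpn (LP (LK LD1_c3 LD2_c17 LD3_c11))))))
theorem f117103 : Led Lsl_at (LP (LK LD1_c3 LD2_c17 LD3_c11)) = (LP (LK LD1_c6 LD2_c37 LD3_c38)) :=
  Lre_a IH (LK LD1_c3 LD2_c17 LD3_c11) (LK LD1_c6 LD2_c37 LD3_c38) Lrfl Lrfl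
theorem f119981 : Led Lsl_ff (LP (LK LD1_c5 LD2_c56 LD3_c41)) = (LP (LK LD1_c6 LD2_c37 LD3_c38)) :=
  Lgr Lrot30 (Lpr_at (f119975 IH) (Lpr_ft (f110179 IH) (Lpr_at (f117103 IH) (Lpn (LP (LK LD1_c6 LD2_c37 LD3_c38))))))
theorem f117693 : Led Lsl_df (LP (LK LD1_c6 LD2_c2 LD3_c20)) = (LP (LK LD1_c4 LD2_c35 LD3_c26)) :=
  Lgr Lrot38 (Lpr_dt (f117686 IH) (Lpn (LP (LK LD1_c4 LD2_c35 LD3_c26))))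
theorem f117904 : Led Lsl_dt (LP (LK LD1_c3 LD2_c17 LD3_c10)) = (LP (LK LD1_c6 LD2_c37 LD3_c38)) :=
  Lre_d IH (LK LD1_c3 LD2_c17 LD3_c10) (LK LD1_c6 LD2_c37 LD3_c38) Lrfl Lrfl
theorem f117905 : Led Lsl_bf (LP (LK LD1_c4 LD2_c35 LD3_c26)) = (LP (LK LD1_c6 LD2_c37 LD3_c38)) :=
  Lgr Lrot93 (Lpe (f117693 IH) (Lpr_bt (f117901 IH) (Lpr_dt (f117904 IH) (Lpn (LP (LK LD1_c6 LD2_c37 LD3_c38))))))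
theorem f79313 : Led Lsl_dt (LP (LK LD1_c2 LD2_c20 LD3_c20)) = (LP (LK LD1_c1 LD2_c7 LD3_c30)) :=
  Lre_d IH (LK LD1_c2 LD2_c20 LD3_c20) (LK LD1_c1 LD2_c7 LD3_c30) Lrfl Lrfl
theorem f110383 : Led Lsl_cf (LP (LK LD1_c2 LD2_c20 LD3_c30)) = (LP (LK LD1_c1 LD2_c29 LD3_c50)) :=
  Lgr Lrot169 (Lpe (K3.f102230 IH) (Lpr_ct (K3.f98947 IH) (Lpe (K3.f97556 IH) (Lpe (K0.f23307 IH) (Lpe (K2.f23498 IH) (Lpe (K3.f23552 IH) (Lpr_gf (K3.f103471 IH) (Lpe (f79313 IH) (Lpr_gt (f110352 IH) (Lpn (LP (LK LD1_c1 LD2_c29 LD3_c50))))))))))))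
theorem f110439 : Led Lsl_bt (LP (LK LD1_c1 LD2_c29 LD3_c50)) = (LP (LK LD1_c0 LD2_c41 LD3_c33)) :=
  Lre_b IH (LK LD1_c1 LD2_c29 LD3_c50) (LK LD1_c0 LD2_c41 LD3_c33) Lrfl Lrfl
theorem f110440 : Led Lsl_gf (LP (LK LD1_c0 LD2_c30 LD3_c46)) = (LP (LK LD1_c0 LD2_c41 LD3_c33)) :=
  Lgr Lrot124 (Lpe (f27160 IH) (Lpr_ct (K3.f26602 IH) (Lpe (K2.f20604 IH) (Lpe (K3.f25165 IH) (Lpr_bt (K1.f25161 IH) (Lpr_gt (K3.f99077 IH) (Lpr_ct (K3.f98896 IH) (Lpr_gt (K3.f99085 IH) (Lpr_cf (f110383 IH) (Lpr_bt (f110439 IH) (Lpn (LP (LK LD1_c0 LD2_c41 LD3_c33)))))))))))))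
theorem f99711 : Led Lsl_gt (LP (LK LD1_c6 LD2_c10 LD3_c30)) = (LP (LK LD1_c3 LD2_c1 LD3_c54)) :=
  Lre_g IH (LK LD1_c6 LD2_c10 LD3_c30) (LK LD1_c3 LD2_c1 LD3_c54) Lrfl Lrfl
theorem f119567 : Led Lsl_cf (LP (LK LD1_c6 LD2_c10 LD3_c30)) = (LP (LK LD1_c6 LD2_c37 LD3_c38)) :=
  Lgr Lrot160 (Lpr_gt (f99711 IH) (Lpe (f96108 IH) (Lpr_bt (f110806 IH) (Lpe (f110804 IH) (Lpr_ct (f66654 IH) (Lpe (f110440 IH) (Lpe (f23447 IH) (Lpe (f27167 IH) (Lpr_gt (f27162 IH) (Lpr_bf (f117905 IH) (Lpn (LP (LK LD1_c6 LD2_c37 LD3_c38)))))))))))))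
theorem f119571 : Led Lsl_ct (LP (LK LD1_c6 LD2_c10 LD3_c30)) = (LP (LK LD1_c6 LD2_c37 LD3_c38)) :=
  Lgr Lrot59 (Lpr_cf (f119567 IH) (Lpn (LP (LK LD1_c6 LD2_c37 LD3_c38))))
theorem f119569 : Led Lsl_at (LP (LK LD1_c6 LD2_c10 LD3_c30)) = (LP (LK LD1_c3 LD2_c15 LD3_c50)) :=
  Lgr Lrot107 (Lpr_cf (f119567 IH) (Lpe (f117103 IH) (Lpr_cf (f117101 IH) (Lpn (LP (LK LD1_c3 LD2_c15 LD3_c50))))))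
theorem f62874 : Led Lsl_gt (LP (LK LD1_c3 LD2_c15 LD3_c51)) = (LP (LK LD1_c1 LD2_c34 LD3_c41)) :=
  Lre_g IH (LK LD1_c3 LD2_c15 LD3_c51) (LK LD1_c1 LD2_c34 LD3_c41) Lrfl Lrfl
theorem f119598 : Led Lsl_ff (LP (LK LD1_c6 LD2_c10 LD3_c30)) = (LP (LK LD1_c3 LD2_c15 LD3_c51)) :=
  Lgr Lrot52 (Lpr_at (f119569 IH) (Lpe (f62952 IH) (Lpe (f62874 IH) (Lpn (LP (LK LD1_c3 LD2_c15 LD3_c51))))))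
theorem f119983 : Led Lsl_ct (LP (LK LD1_c5 LD2_c56 LD3_c41)) = (LP (LK LD1_c3 LD2_c15 LD3_c51)) :=
  Lgr Lrot40 (Lpr_ff (f119981 IH) (Lpe (f119571 IH) (Lpr_ff (f119598 IH) (Lpn (LP (LK LD1_c3 LD2_c15 LD3_c51))))))
theorem f83033 : Led Lsl_bt (LP (LK LD1_c5 LD2_c56 LD3_c41)) = (LP (LK LD1_c2 LD2_c54 LD3_c39)) :=
  Lre_b IH (LK LD1_c5 LD2_c56 LD3_c41) (LK LD1_c2 LD2_c54 LD3_c39) Lrfl Lrfl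
theorem f82998 : Led Lsl_bf (LP (LK LD1_c1 LD2_c23 LD3_c16)) = (LP (LK LD1_c0 LD2_c42 LD3_c56)) :=
  Lgr Lrot24 (Lpr_bt (f82982 IH) (Lpn (LP (LK LD1_c0 LD2_c42 LD3_c56))))
theorem f26081 : Led Lsl_ct (LP (LK LD1_c0 LD2_c42 LD3_c56)) = (LP (LK LD1_c0 LD2_c19 LD3_c6)) :=
  Lre_c IH (LK LD1_c0 LD2_c42 LD3_c56) (LK LD1_c0 LD2_c19 LD3_c6) Lrfl Lrfl
theorem f26086 : Led Lsl_gt (LP (LK LD1_c0 LD2_c42 LD3_c55)) = (LP (LK LD1_c0 LD2_c19 LD3_c6)) :=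
  Lre_g IH (LK LD1_c0 LD2_c42 LD3_c55) (LK LD1_c0 LD2_c19 LD3_c6) Lrfl Lrfl
theorem f82336 : Led Lsl_ct (LP (LK LD1_c1 LD2_c32 LD3_c38)) = (LP (LK LD1_c0 LD2_c42 LD3_c55)) :=
  Lre_c IH (LK LD1_c1 LD2_c32 LD3_c38) (LK LD1_c0 LD2_c42 LD3_c55) Lrfl Lrfl
theorem f115578 : Led Lsl_bt (LP (LK LD1_c3 LD2_c15 LD3_c46)) = (LP (LK LD1_c1 LD2_c34 LD3_c37)) :=
  Lre_b IH (LK LD1_c3 LD2_c15 LD3_c46) (LK LD1_c1 LD2_c34 LD3_c37) Lrfl Lrfl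
theorem f119992 : Led Lsl_gf (LP (LK LD1_c1 LD2_c32 LD3_c38)) = (LP (LK LD1_c1 LD2_c34 LD3_c37)) :=
  Lgr Lrot181 (Lpr_ct (f82336 IH) (Lpr_gt (f26086 IH) (Lpe (f26081 IH) (Lpe (f82998 IH) (Lpr_gt (f23914 IH) (Lpe (f83033 IH) (Lpr_ct (f119983 IH) (Lpr_gt (f62874 IH) (Lpe (f108687 IH) (Lpr_bt (f115578 IH) (Lpn (LP (LK LD1_c1 LD2_c34 LD3_c37)))))))))))))
theorem f82333 : Led Lsl_ct (LP (LK LD1_c0 LD2_c42 LD3_c55)) = (LP (LK LD1_c1 LD2_c32 LD3_c38)) :=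
  Lre_c IH (LK LD1_c0 LD2_c42 LD3_c55) (LK LD1_c1 LD2_c32 LD3_c38) Lrfl Lrfl
theorem f119996 : Led Lsl_bt (LP (LK LD1_c0 LD2_c42 LD3_c55)) = (LP (LK LD1_c1 LD2_c32 LD3_c37)) :=
  Lre_b IH (LK LD1_c0 LD2_c42 LD3_c55) (LK LD1_c1 LD2_c32 LD3_c37) Lrfl Lrfl
theorem f119997 : Led Lsl_gt (LP (LK LD1_c1 LD2_c32 LD3_c37)) = (LP (LK LD1_c1 LD2_c7 LD3_c33)) :=
  Lgr Lrot82 (Lpe (f119996 IH) (Lpr_ct (f82333 IH) (Lpr_gf (f119992 IH) (Lpe (f62865 IH) (Lpr_bt (f62860 IH) (Lpe (K1.f62849 IH) (Lpe (f58396 IH) (Lpr_ct (K3.f13682 IH) (Lpe (K3.f98915 IH) (Lpe (K3.f98841 IH) (Lpn (LP (LK LD1_c1 LD2_c7 LD3_c33)))))))))))))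
theorem f120010 : Led Lsl_df (LP (LK LD1_c1 LD2_c32 LD3_c37)) = (LP (LK LD1_c1 LD2_c6 LD3_c39)) :=
  Lgr Lrot153 (Lpr_gt (f119997 IH) (Lpr_dt (K3.f98849 IH) (Lpe (K2.f23592 IH) (Lpe (K3.f13799 IH) (Lpe (K3.f99077 IH) (Lpe (K1.f58280 IH) (Lpe (K3.f58187 IH) (Lpe (K3.f58194 IH) (Lpr_gt (f113335 IH) (Lpn (LP (LK LD1_c1 LD2_c6 LD3_c39))))))))))))
theorem f23547 : Led Lsl_et (LP (LK LD1_c2 LD2_c20 LD3_c24)) = (LP (LK LD1_c1 LD2_c7 LD3_c32)) :=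
  Lre_e IH (LK LD1_c2 LD2_c20 LD3_c24) (LK LD1_c1 LD2_c7 LD3_c32) Lrfl Lrfl
theorem f23544 : Led Lsl_dt (LP (LK LD1_c2 LD2_c20 LD3_c24)) = (LP (LK LD1_c4 LD2_c44 LD3_c36)) :=
  Lre_d IH (LK LD1_c2 LD2_c20 LD3_c24) (LK LD1_c4 LD2_c44 LD3_c36) Lrfl Lrfl
theorem f120019 : Led Lsl_gf (LP (LK LD1_c6 LD2_c17 LD3_c18)) = (LP (LK LD1_c4 LD2_c44 LD3_c36)) :=
  Lgr Lrot145 (Lpe (f61236 IH) (Lpr_et (f61229 IH) (Lpr_gt (f113335 IH) (Lpe (f120010 IH) (Lpr_gt (f119997 IH) (Lpe (K3.f98838 IH) (Lpr_et (K3.f99102 IH) (Lpr_gt (K2.f23504 IH) (Lpe (f23547 IH) (Lpr_dt (f23544 IH) (Lpn (LP (LK LD1_c4 LD2_c44 LD3_c36)))))))))))))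
theorem f61239 : Led Lsl_dt (LP (LK LD1_c6 LD2_c17 LD3_c18)) = (LP (LK LD1_c3 LD2_c5 LD3_c51)) :=
  Lre_d IH (LK LD1_c6 LD2_c17 LD3_c18) (LK LD1_c3 LD2_c5 LD3_c51) Lrfl Lrfl
theorem f61234 : Led Lsl_ct (LP (LK LD1_c3 LD2_c5 LD3_c51)) = (LP (LK LD1_c1 LD2_c29 LD3_c0)) :=
  Lre_c IH (LK LD1_c3 LD2_c5 LD3_c51) (LK LD1_c1 LD2_c29 LD3_c0) Lrfl Lrfl
theorem f61242 : Led Lsl_dt (LP (LK LD1_c3 LD2_c5 LD3_c52)) = (LP (LK LD1_c1 LD2_c29 LD3_c0)) :=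
  Lre_d IH (LK LD1_c3 LD2_c5 LD3_c52) (LK LD1_c1 LD2_c29 LD3_c0) Lrfl Lrfl
theorem f67381 : Led Lsl_at (LP (LK LD1_c0 LD2_c42 LD3_c39)) = (LP (LK LD1_c1 LD2_c32 LD3_c11)) :=
  Lre_a IH (LK LD1_c0 LD2_c42 LD3_c39) (LK LD1_c1 LD2_c32 LD3_c11) Lrfl Lrfl
theorem f67382 : Led Lsl_bf (LP (LK LD1_c1 LD2_c29 LD3_c19)) = (LP (LK LD1_c1 LD2_c32 LD3_c11)) :=
  Lgr Lrot81 (Lpr_at (K2.f25074 IH) (Lpr_bt (K2.f25056 IH) (Lpr_at (K1.f67376 IH) (Lpr_bt (K1.f67380 IH) (Lpr_at (f67381 IH) (Lpn (LP (LK LD1_c1 LD2_c32 LD3_c11))))))))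
theorem f12646 : Led Lsl_gt (LP (LK LD1_c0 LD2_c46 LD3_c43)) = (LP (LK LD1_c0 LD2_c20 LD3_c57)) :=
  Lre_g IH (LK LD1_c0 LD2_c46 LD3_c43) (LK LD1_c0 LD2_c20 LD3_c57) Lrfl Lrfl
theorem f19170 : Led Lsl_gt (LP (LK LD1_c0 LD2_c47 LD3_c53)) = (LP (LK LD1_c0 LD2_c46 LD3_c43)) :=
  Lgr Lrot5 (Lpr_ft (K2.f19162 IH) (Lpr_at (K0.f9816 IH) (Lpe (f12646 IH) (Lpn (LP (LK LD1_c0 LD2_c46 LD3_c43))))))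
theorem f19177 : Led Lsl_ct (LP (LK LD1_c1 LD2_c40 LD3_c32)) = (LP (LK LD1_c0 LD2_c46 LD3_c43)) :=
  Lre_c IH (LK LD1_c1 LD2_c40 LD3_c32) (LK LD1_c0 LD2_c46 LD3_c43) Lrfl Lrfl
theorem f25711 : Led Lsl_bt (LP (LK LD1_c0 LD2_c18 LD3_c27)) = (LP (LK LD1_c0 LD2_c41 LD3_c12)) :=
  Lre_b IH (LK LD1_c0 LD2_c18 LD3_c27) (LK LD1_c0 LD2_c41 LD3_c12) Lrfl Lrfl
theorem f25712 : Led Lsl_gt (LP (LK LD1_c0 LD2_c41 LD3_c12)) = (LP (LK LD1_c1 LD2_c29 LD3_c5)) :=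
  Lre_g IH (LK LD1_c0 LD2_c41 LD3_c12) (LK LD1_c1 LD2_c29 LD3_c5) Lrfl Lrfl
theorem f83941 : Led Lsl_bf (LP (LK LD1_c1 LD2_c29 LD3_c5)) = (LP (LK LD1_c1 LD2_c40 LD3_c32)) :=
  Lgr Lrot34 (Lpe (f25712 IH) (Lpe (f25711 IH) (Lpr_ct (K0.f25624 IH) (Lpr_gf (K2.f25741 IH) (Lpe (K2.f25752 IH) (Lpr_gf (K2.f83935 IH) (Lpe (K1.f68098 IH) (Lpr_ct (K3.f11931 IH) (Lpe (f12646 IH) (Lpe (f19177 IH) (Lpn (LP (LK LD1_c1 LD2_c40 LD3_c32)))))))))))))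
theorem f86159 : Led Lsl_gt (LP (LK LD1_c1 LD2_c29 LD3_c5)) = (LP (LK LD1_c1 LD2_c7 LD3_c28)) :=
  Lgr Lrot82 (Lpr_bf (f83941 IH) (Lpr_ct (f19177 IH) (Lpe (f19170 IH) (Lpr_cf (K2.f68151 IH) (Lpe (f67382 IH) (Lpr_gf (K3.f79387 IH) (Lpe (K2.f77892 IH) (Lpr_ct (K3.f77883 IH) (Lpe (K3.f78253 IH) (Lpr_cf (K3.f86148 IH) (Lpn (LP (LK LD1_c1 LD2_c7 LD3_c28)))))))))))))
theorem f25756 : Led Lsl_ct (LP (LK LD1_c1 LD2_c29 LD3_c5)) = (LP (LK LD1_c3 LD2_c6 LD3_c0)) :=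
  Lre_c IH (LK LD1_c1 LD2_c29 LD3_c5) (LK LD1_c3 LD2_c6 LD3_c0) Lrfl Lrfl
theorem f120023 : Led Lsl_gt (LP (LK LD1_c3 LD2_c6 LD3_c0)) = (LP (LK LD1_c2 LD2_c20 LD3_c24)) :=
  Lgr Lrot94 (Lpe (f25756 IH) (Lpr_gt (f86159 IH) (Lpr_dt (K1.f58026 IH) (Lpr_gt (K3.f99113 IH) (Lpr_dt (f61242 IH) (Lpe (f61234 IH) (Lpe (f61239 IH) (Lpr_gf (f120019 IH) (Lpe (f23544 IH) (Lpn (LP (LK LD1_c2 LD2_c20 LD3_c24))))))))))))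
theorem f25753 : Led Lsl_bt (LP (LK LD1_c0 LD2_c13 LD3_c35)) = (LP (LK LD1_c0 LD2_c30 LD3_c34)) :=
  Lre_b IH (LK LD1_c0 LD2_c13 LD3_c35) (LK LD1_c0 LD2_c30 LD3_c34) Lrfl Lrfl
theorem f25757 : Led Lsl_gt (LP (LK LD1_c1 LD2_c6 LD3_c48)) = (LP (LK LD1_c0 LD2_c30 LD3_c34)) :=
  Lre_g IH (LK LD1_c1 LD2_c6 LD3_c48) (LK LD1_c0 LD2_c30 LD3_c34) Lrfl Lrfl
theorem f25758 : Led Lsl_bt (LP (LK LD1_c2 LD2_c19 LD3_c23)) = (LP (LK LD1_c1 LD2_c6 LD3_c48)) :=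
  Lre_b IH (LK LD1_c2 LD2_c19 LD3_c23) (LK LD1_c1 LD2_c6 LD3_c48) Lrfl Lrfl
theorem f120025 : Led Lsl_ct (LP (LK LD1_c2 LD2_c19 LD3_c23)) = (LP (LK LD1_c2 LD2_c20 LD3_c24)) :=
  Lgr Lrot63 (Lpr_bt (f25758 IH) (Lpr_gt (f25757 IH) (Lpe (f25753 IH) (Lpr_ct (K2.f25752 IH) (Lpe (K2.f25741 IH) (Lpe (K0.f25624 IH) (Lpr_bt (f25711 IH) (Lpr_gt (f25712 IH) (Lpr_ct (f25756 IH) (Lpr_gt (f120023 IH) (Lpn (LP (LK LD1_c2 LD2_c20 LD3_c24)))))))))))))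
theorem f120032 : Led Lsl_ef (LP (LK LD1_c2 LD2_c19 LD3_c23)) = (LP (LK LD1_c1 LD2_c7 LD3_c4)) :=
  Lgr Lrot28 (Lpr_ct (f120025 IH) (Lpr_et (f23547 IH) (Lpr_ct (K2.f23474 IH) (Lpn (LP (LK LD1_c1 LD2_c7 LD3_c4))))))
theorem f120038 : Led Lsl_et (LP (LK LD1_c2 LD2_c19 LD3_c23)) = (LP (LK LD1_c1 LD2_c7 LD3_c4)) :=
  Lgr Lrot87 (Lpr_ef (f120032 IH) (Lpn (LP (LK LD1_c1 LD2_c7 LD3_c4))))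
theorem f107521 : Led Lsl_af (LP (LK LD1_c1 LD2_c7 LD3_c32)) = (LP (LK LD1_c1 LD2_c7 LD3_c4)) :=
  Lgr Lrot0 (Lpr_at (K3.f107519 IH) (Lpn (LP (LK LD1_c1 LD2_c7 LD3_c4))))
theorem f120040 : Led Lsl_af (LP (LK LD1_c2 LD2_c19 LD3_c23)) = (LP (LK LD1_c2 LD2_c20 LD3_c24)) :=
  Lgr Lrot50 (Lpr_et (f120038 IH) (Lpe (f107521 IH) (Lpr_et (K2.f23494 IH) (Lpn (LP (LK LD1_c2 LD2_c20 LD3_c24))))))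
theorem f23505 : Led Lsl_bf (LP (LK LD1_c2 LD2_c20 LD3_c24)) = (LP (LK LD1_c2 LD2_c19 LD3_c54)) :=
  Lgr Lrot24 (Lpr_bt (K2.f23496 IH) (Lpn (LP (LK LD1_c2 LD2_c19 LD3_c54))))
theorem f120067 : Led Lsl_at (LP (LK LD1_c1 LD2_c6 LD3_c48)) = (LP (LK LD1_c0 LD2_c42 LD3_c50)) :=
  Lgr Lrot67 (Lpe (f25758 IH) (Lpr_af (f120040 IH) (Lpr_bf (f23505 IH) (Lpe (K3.f107480 IH) (Lpe (K3.f24365 IH) (Lpn (LP (LK LD1_c0 LD2_c42 LD3_c50))))))))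
theorem f120027 : Led Lsl_bt (LP (LK LD1_c1 LD2_c6 LD3_c48)) = (LP (LK LD1_c2 LD2_c19 LD3_c23)) :=
  Lre_b IH (LK LD1_c1 LD2_c6 LD3_c48) (LK LD1_c2 LD2_c19 LD3_c23) Lrfl Lrfl
theorem f120042 : Led Lsl_ef (LP (LK LD1_c1 LD2_c6 LD3_c48)) = (LP (LK LD1_c0 LD2_c30 LD3_c44)) :=
  Lgr Lrot29 (Lpr_bt (f120027 IH) (Lpr_et (f120038 IH) (Lpr_bt (K2.f23473 IH) (Lpn (LP (LK LD1_c0 LD2_c30 LD3_c44))))))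
theorem f82657 : Led Lsl_et (LP (LK LD1_c0 LD2_c42 LD3_c50)) = (LP (LK LD1_c0 LD2_c19 LD3_c3)) :=
  Lre_e IH (LK LD1_c0 LD2_c42 LD3_c50) (LK LD1_c0 LD2_c19 LD3_c3) Lrfl Lrfl
theorem f120073 : Led Lsl_af (LP (LK LD1_c0 LD2_c30 LD3_c44)) = (LP (LK LD1_c0 LD2_c19 LD3_c3)) :=
  Lgr Lrot50 (Lpe (f120042 IH) (Lpr_at (f120067 IH) (Lpr_et (f82657 IH) (Lpn (LP (LK LD1_c0 LD2_c19 LD3_c3))))))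
theorem f82870 : Led Lsl_bt (LP (LK LD1_c0 LD2_c30 LD3_c40)) = (LP (LK LD1_c0 LD2_c19 LD3_c5)) :=
  Lgr Lrot62 (Lpe (K2.f26070 IH) (Lpe (K2.f26142 IH) (Lpr_af (f82786 IH) (Lpe (K3.f13498 IH) (Lpe (K2.f26071 IH) (Lpn (LP (LK LD1_c0 LD2_c19 LD3_c5))))))))
theorem f104158 : Led Lsl_gf (LP (LK LD1_c0 LD2_c19 LD3_c5)) = (LP (LK LD1_c0 LD2_c30 LD3_c43)) :=
  Lgr Lrot126 (Lpe (K2.f26072 IH) (Lpr_bt (f82870 IH) (Lpe (K2.f82325 IH) (Lpr_ct (K2.f23472 IH) (Lpr_gt (K3.f104154 IH) (Lpe (K3.f79291 IH) (Lpr_bt (K3.f79279 IH) (Lpe (K3.f79254 IH) (Lpe (K2.f23462 IH) (Lpr_ct (K2.f23457 IH) (Lpn (LP (LK LD1_c0 LD2_c30 LD3_c43)))))))))))))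
theorem f120081 : Led Lsl_ft (LP (LK LD1_c0 LD2_c30 LD3_c43)) = (LP (LK LD1_c0 LD2_c19 LD3_c3)) :=
  Lgr Lrot2 (Lpe (f104158 IH) (Lpe (K2.f82325 IH) (Lpr_af (f120073 IH) (Lpn (LP (LK LD1_c0 LD2_c19 LD3_c3))))))
theorem f120087 : Led Lsl_ff (LP (LK LD1_c0 LD2_c30 LD3_c43)) = (LP (LK LD1_c0 LD2_c19 LD3_c3)) :=
  Lgr Lrot3 (Lpr_ft (f120081 IH) (Lpn (LP (LK LD1_c0 LD2_c19 LD3_c3))))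
theorem f82321 : Led Lsl_gt (LP (LK LD1_c0 LD2_c30 LD3_c45)) = (LP (LK LD1_c0 LD2_c19 LD3_c4)) :=
  Lgr Lrot5 (Lpr_ft (K2.f82310 IH) (Lpr_at (K2.f26071 IH) (Lpe (K3.f26088 IH) (Lpn (LP (LK LD1_c0 LD2_c19 LD3_c4))))))
theorem f23436 : Led Lsl_bt (LP (LK LD1_c0 LD2_c3 LD3_c56)) = (LP (LK LD1_c0 LD2_c8 LD3_c37)) :=
  Lre_b IH (LK LD1_c0 LD2_c3 LD3_c56) (LK LD1_c0 LD2_c8 LD3_c37) Lrfl Lrfl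
theorem f82259 : Led Lsl_bf (LP (LK LD1_c0 LD2_c30 LD3_c45)) = (LP (LK LD1_c0 LD2_c19 LD3_c12)) :=
  Lgr Lrot81 (Lpr_at (K2.f23441 IH) (Lpr_bt (K0.f20875 IH) (Lpr_at (K2.f82255 IH) (Lpr_bt (f23436 IH) (Lpr_at (K2.f23578 IH) (Lpn (LP (LK LD1_c0 LD2_c19 LD3_c12))))))))
theorem f107537 : Led Lsl_gf (LP (LK LD1_c0 LD2_c30 LD3_c45)) = (LP (LK LD1_c0 LD2_c19 LD3_c3)) :=
  Lgr Lrot129 (Lpr_cf (K2.f23573 IH) (Lpe (f82259 IH) (Lpr_gt (f82321 IH) (Lpe (K3.f26096 IH) (Lpe (K3.f107535 IH) (Lpr_gt (K3.f107527 IH) (Lpe (K3.f79314 IH) (Lpr_bt (K3.f79311 IH) (Lpe (K3.f79308 IH) (Lpr_ct (K3.f24327 IH) (Lpn (LP (LK LD1_c0 LD2_c19 LD3_c3)))))))))))))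
theorem f120093 : Led Lsl_at (LP (LK LD1_c0 LD2_c30 LD3_c43)) = (LP (LK LD1_c0 LD2_c19 LD3_c4)) :=
  Lgr Lrot26 (Lpr_ff (f120087 IH) (Lpe (f107537 IH) (Lpr_gt (f82321 IH) (Lpn (LP (LK LD1_c0 LD2_c19 LD3_c4))))))
theorem f107452 : Led Lsl_at (LP (LK LD1_c0 LD2_c42 LD3_c48)) = (LP (LK LD1_c1 LD2_c7 LD3_c11)) :=
  Lgr Lrot107 (Lpr_cf (K3.f24332 IH) (Lpr_af (K3.f107448 IH) (Lpe (K3.f23503 IH) (Lpn (LP (LK LD1_c1 LD2_c7 LD3_c11))))))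
theorem f107523 : Led Lsl_af (LP (LK LD1_c0 LD2_c19 LD3_c3)) = (LP (LK LD1_c0 LD2_c30 LD3_c44)) :=
  Lgr Lrot36 (Lpr_bt (K3.f24326 IH) (Lpr_at (f107452 IH) (Lpe (K2.f23475 IH) (Lpr_at (K3.f107519 IH) (Lpr_bt (K2.f23473 IH) (Lpn (LP (LK LD1_c0 LD2_c30 LD3_c44))))))))
theorem f120101 : Led Lsl_ff (LP (LK LD1_c0 LD2_c30 LD3_c44)) = (LP (LK LD1_c0 LD2_c19 LD3_c4)) :=
  Lgr Lrot30 (Lpe (f107523 IH) (Lpe (f120087 IH) (Lpr_at (f120093 IH) (Lpn (LP (LK LD1_c0 LD2_c19 LD3_c4))))))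
theorem f120103 : Led Lsl_ft (LP (LK LD1_c1 LD2_c6 LD3_c45)) = (LP (LK LD1_c0 LD2_c41 LD3_c37)) :=
  Lgr Lrot54 (Lpr_df (K2.f82386 IH) (Lpr_ff (f120101 IH) (Lpr_df (K3.f91439 IH) (Lpn (LP (LK LD1_c0 LD2_c41 LD3_c37))))))
theorem f26376 : Led Lsl_gt (LP (LK LD1_c0 LD2_c30 LD3_c33)) = (LP (LK LD1_c1 LD2_c6 LD3_c44)) :=
  Lre_g IH (LK LD1_c0 LD2_c30 LD3_c33) (LK LD1_c1 LD2_c6 LD3_c44) Lrfl Lrfl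
theorem f120117 : Led Lsl_af (LP (LK LD1_c1 LD2_c6 LD3_c44)) = (LP (LK LD1_c0 LD2_c41 LD3_c37)) :=
  Lgr Lrot31 (Lpe (f26376 IH) (Lpe (K2.f79144 IH) (Lpr_ft (f120103 IH) (Lpn (LP (LK LD1_c0 LD2_c41 LD3_c37))))))
theorem f120128 : Led Lsl_et (LP (LK LD1_c1 LD2_c6 LD3_c44)) = (LP (LK LD1_c2 LD2_c19 LD3_c12)) :=
  Lre_e IH (LK LD1_c1 LD2_c6 LD3_c44) (LK LD1_c2 LD2_c19 LD3_c12) Lrfl Lrfl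
theorem f91447 : Led Lsl_et (LP (LK LD1_c1 LD2_c30 LD3_c2)) = (LP (LK LD1_c0 LD2_c41 LD3_c37)) :=
  Lre_e IH (LK LD1_c1 LD2_c30 LD3_c2) (LK LD1_c0 LD2_c41 LD3_c37) Lrfl Lrfl
theorem f120129 : Led Lsl_at (LP (LK LD1_c2 LD2_c19 LD3_c12)) = (LP (LK LD1_c1 LD2_c30 LD3_c2)) :=
  Lgr Lrot80 (Lpe (f120128 IH) (Lpr_af (f120117 IH) (Lpe (f91447 IH) (Lpn (LP (LK LD1_c1 LD2_c30 LD3_c2))))))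
theorem f120136 : Led Lsl_ct (LP (LK LD1_c4 LD2_c43 LD3_c6)) = (LP (LK LD1_c2 LD2_c19 LD3_c12)) :=
  Lre_c IH (LK LD1_c4 LD2_c43 LD3_c6) (LK LD1_c2 LD2_c19 LD3_c12) Lrfl Lrfl
theorem f120137 : Led Lsl_ct (LP (LK LD1_c1 LD2_c30 LD3_c2)) = (LP (LK LD1_c3 LD2_c7 LD3_c36)) :=
  Lre_c IH (LK LD1_c1 LD2_c30 LD3_c2) (LK LD1_c3 LD2_c7 LD3_c36) Lrfl Lrfl
theorem f120138 : Led Lsl_af (LP (LK LD1_c4 LD2_c43 LD3_c6)) = (LP (LK LD1_c3 LD2_c7 LD3_c36)) :=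
  Lgr Lrot68 (Lpr_ct (f120136 IH) (Lpr_at (f120129 IH) (Lpr_ct (f120137 IH) (Lpn (LP (LK LD1_c3 LD2_c7 LD3_c36))))))
theorem f105528 : Led Lsl_bt (LP (LK LD1_c6 LD2_c20 LD3_c0)) = (LP (LK LD1_c3 LD2_c7 LD3_c36)) :=
  Lre_b IH (LK LD1_c6 LD2_c20 LD3_c0) (LK LD1_c3 LD2_c7 LD3_c36) Lrfl Lrfl
theorem f88354 : Led Lsl_dt (LP (LK LD1_c6 LD2_c39 LD3_c38)) = (LP (LK LD1_c3 LD2_c17 LD3_c59)) :=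
  Lre_d IH (LK LD1_c6 LD2_c39 LD3_c38) (LK LD1_c3 LD2_c17 LD3_c59) Lrfl Lrfl
theorem f87857 : Led Lsl_dt (LP (LK LD1_c6 LD2_c10 LD3_c48)) = (LP (LK LD1_c12 LD2_c2 LD3_c5)) :=
  Lre_d IH (LK LD1_c6 LD2_c10 LD3_c48) (LK LD1_c12 LD2_c2 LD3_c5) Lrfl Lrfl
theorem f105345 : Led Lsl_af (LP (LK LD1_c6 LD2_c39 LD3_c38)) = (LP (LK LD1_c12 LD2_c2 LD3_c5)) :=
  Lgr Lrot117 (Lpr_dt (f88354 IH) (Lpr_at (K3.f105336 IH) (Lpr_dt (f87857 IH) (Lpn (LP (LK LD1_c12 LD2_c2 LD3_c5))))))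
theorem f65247 : Led Lsl_et (LP (LK LD1_c1 LD2_c35 LD3_c29)) = (LP (LK LD1_c3 LD2_c17 LD3_c59)) :=
  Lre_e IH (LK LD1_c1 LD2_c35 LD3_c29) (LK LD1_c3 LD2_c17 LD3_c59) Lrfl Lrfl
theorem f65248 : Led Lsl_dt (LP (LK LD1_c3 LD2_c17 LD3_c59)) = (LP (LK LD1_c6 LD2_c39 LD3_c38)) :=
  Lre_d IH (LK LD1_c3 LD2_c17 LD3_c59) (LK LD1_c6 LD2_c39 LD3_c38) Lrfl Lrfl
theorem f62941 : Led Lsl_et (LP (LK LD1_c1 LD2_c49 LD3_c54)) = (LP (LK LD1_c0 LD2_c51 LD3_c47)) :=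
  Lre_e IH (LK LD1_c1 LD2_c49 LD3_c54) (LK LD1_c0 LD2_c51 LD3_c47) Lrfl Lrfl
theorem f65249 : Led Lsl_dt (LP (LK LD1_c3 LD2_c45 LD3_c33)) = (LP (LK LD1_c1 LD2_c49 LD3_c54)) :=
  Lre_d IH (LK LD1_c3 LD2_c45 LD3_c33) (LK LD1_c1 LD2_c49 LD3_c54) Lrfl Lrfl
theorem f65250 : Led Lsl_et (LP (LK LD1_c6 LD2_c39 LD3_c38)) = (LP (LK LD1_c3 LD2_c45 LD3_c33)) :=
  Lgr Lrot71 (Lpe (f65248 IH) (Lpe (f65247 IH) (Lpr_df (K1.f65236 IH) (Lpe (f62941 IH) (Lpe (f65249 IH) (Lpn (LP (LK LD1_c3 LD2_c45 LD3_c33))))))))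
theorem f105354 : Led Lsl_et (LP (LK LD1_c6 LD2_c10 LD3_c49)) = (LP (LK LD1_c12 LD2_c2 LD3_c5)) :=
  Lre_e IH (LK LD1_c6 LD2_c10 LD3_c49) (LK LD1_c12 LD2_c2 LD3_c5) Lrfl Lrfl
theorem f105355 : Led Lsl_at (LP (LK LD1_c3 LD2_c45 LD3_c33)) = (LP (LK LD1_c6 LD2_c10 LD3_c49)) :=
  Lgr Lrot80 (Lpe (f65250 IH) (Lpr_af (f105345 IH) (Lpe (f105354 IH) (Lpn (LP (LK LD1_c6 LD2_c10 LD3_c49))))))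
theorem f105363 : Led Lsl_af (LP (LK LD1_c3 LD2_c45 LD3_c33)) = (LP (LK LD1_c6 LD2_c10 LD3_c49)) :=
  Lgr Lrot0 (Lpr_at (f105355 IH) (Lpn (LP (LK LD1_c6 LD2_c10 LD3_c49))))
theorem f105423 : Led Lsl_et (LP (LK LD1_c12 LD2_c2 LD3_c5)) = (LP (LK LD1_c6 LD2_c10 LD3_c49)) :=
  Lre_e IH (LK LD1_c12 LD2_c2 LD3_c5) (LK LD1_c6 LD2_c10 LD3_c49) Lrfl Lrfl
theorem f105350 : Led Lsl_at (LP (LK LD1_c6 LD2_c39 LD3_c38)) = (LP (LK LD1_c12 LD2_c2 LD3_c5)) :=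
  Lgr Lrot100 (Lpr_af (f105345 IH) (Lpn (LP (LK LD1_c12 LD2_c2 LD3_c5))))
theorem f105424 : Led Lsl_et (LP (LK LD1_c3 LD2_c45 LD3_c33)) = (LP (LK LD1_c6 LD2_c39 LD3_c38)) :=
  Lgr Lrot123 (Lpr_af (f105363 IH) (Lpe (f105423 IH) (Lpe (f105350 IH) (Lpn (LP (LK LD1_c6 LD2_c39 LD3_c38))))))
theorem f105365 : Led Lsl_bt (LP (LK LD1_c7 LD2_c31 LD3_c44)) = (LP (LK LD1_c3 LD2_c45 LD3_c33)) :=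
  Lre_b IH (LK LD1_c7 LD2_c31 LD3_c44) (LK LD1_c3 LD2_c45 LD3_c33) Lrfl Lrfl
theorem f105352 : Led Lsl_bt (LP (LK LD1_c6 LD2_c39 LD3_c38)) = (LP (LK LD1_c12 LD2_c45 LD3_c2)) :=
  Lre_b IH (LK LD1_c6 LD2_c39 LD3_c38) (LK LD1_c12 LD2_c45 LD3_c2) Lrfl Lrfl
theorem f105426 : Led Lsl_ef (LP (LK LD1_c7 LD2_c31 LD3_c44)) = (LP (LK LD1_c12 LD2_c45 LD3_c2)) :=
  Lgr Lrot29 (Lpr_bt (f105365 IH) (Lpr_et (f105424 IH) (Lpr_bt (f105352 IH) (Lpn (LP (LK LD1_c12 LD2_c45 LD3_c2))))))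
theorem f105446 : Led Lsl_dt (LP (LK LD1_c7 LD2_c31 LD3_c44)) = (LP (LK LD1_c3 LD2_c45 LD3_c32)) :=
  Lre_d IH (LK LD1_c7 LD2_c31 LD3_c44) (LK LD1_c3 LD2_c45 LD3_c32) Lrfl Lrfl
theorem f105447 : Led Lsl_et (LP (LK LD1_c3 LD2_c45 LD3_c32)) = (LP (LK LD1_c1 LD2_c49 LD3_c53)) :=
  Lre_e IH (LK LD1_c3 LD2_c45 LD3_c32) (LK LD1_c1 LD2_c49 LD3_c53) Lrfl Lrfl
theorem f105448 : Led Lsl_dt (LP (LK LD1_c6 LD2_c39 LD3_c35)) = (LP (LK LD1_c12 LD2_c45 LD3_c2)) :=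
  Lre_d IH (LK LD1_c6 LD2_c39 LD3_c35) (LK LD1_c12 LD2_c45 LD3_c2) Lrfl Lrfl
theorem f105449 : Led Lsl_et (LP (LK LD1_c3 LD2_c17 LD3_c58)) = (LP (LK LD1_c6 LD2_c39 LD3_c35)) :=
  Lre_e IH (LK LD1_c3 LD2_c17 LD3_c58) (LK LD1_c6 LD2_c39 LD3_c35) Lrfl Lrfl
theorem f105450 : Led Lsl_dt (LP (LK LD1_c1 LD2_c49 LD3_c53)) = (LP (LK LD1_c3 LD2_c17 LD3_c58)) :=
  Lgr Lrot77 (Lpe (f105447 IH) (Lpe (f105446 IH) (Lpr_ef (f105426 IH) (Lpe (f105448 IH) (Lpe (f105449 IH) (Lpn (LP (LK LD1_c3 LD2_c17 LD3_c58))))))))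
theorem f105221 : Led Lsl_at (LP (LK LD1_c3 LD2_c45 LD3_c31)) = (LP (LK LD1_c1 LD2_c49 LD3_c53)) :=
  Lre_a IH (LK LD1_c3 LD2_c45 LD3_c31) (LK LD1_c1 LD2_c49 LD3_c53) Lrfl Lrfl
theorem f91483 : Led Lsl_bt (LP (LK LD1_c1 LD2_c30 LD3_c1)) = (LP (LK LD1_c3 LD2_c7 LD3_c34)) :=
  Lre_b IH (LK LD1_c1 LD2_c30 LD3_c1) (LK LD1_c3 LD2_c7 LD3_c34) Lrfl Lrfl
theorem f105213 : Led Lsl_df (LP (LK LD1_c3 LD2_c45 LD3_c31)) = (LP (LK LD1_c3 LD2_c7 LD3_c34)) :=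
  Lgr Lrot12 (Lpr_bt (K3.f105198 IH) (Lpr_dt (K3.f91446 IH) (Lpr_bt (f91483 IH) (Lpn (LP (LK LD1_c3 LD2_c7 LD3_c34))))))
theorem f105471 : Led Lsl_af (LP (LK LD1_c3 LD2_c7 LD3_c34)) = (LP (LK LD1_c3 LD2_c17 LD3_c58)) :=
  Lgr Lrot117 (Lpe (f105213 IH) (Lpr_at (f105221 IH) (Lpr_dt (f105450 IH) (Lpn (LP (LK LD1_c3 LD2_c17 LD3_c58))))))
theorem f105243 : Led Lsl_et (LP (LK LD1_c3 LD2_c7 LD3_c34)) = (LP (LK LD1_c6 LD2_c20 LD3_c0)) :=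
  Lre_e IH (LK LD1_c3 LD2_c7 LD3_c34) (LK LD1_c6 LD2_c20 LD3_c0) Lrfl Lrfl
theorem f105464 : Led Lsl_et (LP (LK LD1_c6 LD2_c39 LD3_c35)) = (LP (LK LD1_c3 LD2_c17 LD3_c58)) :=
  Lre_e IH (LK LD1_c6 LD2_c39 LD3_c35) (LK LD1_c3 LD2_c17 LD3_c58) Lrfl Lrfl
theorem f105486 : Led Lsl_at (LP (LK LD1_c6 LD2_c20 LD3_c0)) = (LP (LK LD1_c6 LD2_c39 LD3_c35)) :=
  Lgr Lrot80 (Lpe (f105243 IH) (Lpr_af (f105471 IH) (Lpe (f105464 IH) (Lpn (LP (LK LD1_c6 LD2_c39 LD3_c35))))))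
theorem f105489 : Led Lsl_af (LP (LK LD1_c6 LD2_c20 LD3_c0)) = (LP (LK LD1_c6 LD2_c39 LD3_c35)) :=
  Lgr Lrot0 (Lpr_at (f105486 IH) (Lpn (LP (LK LD1_c6 LD2_c39 LD3_c35))))
theorem f105529 : Led Lsl_bt (LP (LK LD1_c3 LD2_c17 LD3_c59)) = (LP (LK LD1_c6 LD2_c39 LD3_c35)) :=
  Lre_b IH (LK LD1_c3 LD2_c17 LD3_c59) (LK LD1_c6 LD2_c39 LD3_c35) Lrfl Lrfl
theorem f105340 : Led Lsl_af (LP (LK LD1_c3 LD2_c17 LD3_c59)) = (LP (LK LD1_c6 LD2_c10 LD3_c48)) :=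
  Lgr Lrot0 (Lpr_at (K3.f105336 IH) (Lpn (LP (LK LD1_c6 LD2_c10 LD3_c48))))
theorem f120144 : Led Lsl_bt (LP (LK LD1_c4 LD2_c43 LD3_c6)) = (LP (LK LD1_c6 LD2_c10 LD3_c48)) :=
  Lgr Lrot62 (Lpr_af (f120138 IH) (Lpe (f105528 IH) (Lpr_af (f105489 IH) (Lpe (f105529 IH) (Lpr_af (f105340 IH) (Lpn (LP (LK LD1_c6 LD2_c10 LD3_c48))))))))
theorem f120153 : Led Lsl_et (LP (LK LD1_c2 LD2_c19 LD3_c11)) = (LP (LK LD1_c4 LD2_c43 LD3_c6)) :=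
  Lre_e IH (LK LD1_c2 LD2_c19 LD3_c11) (LK LD1_c4 LD2_c43 LD3_c6) Lrfl Lrfl
theorem f120154 : Led Lsl_bf (LP (LK LD1_c2 LD2_c19 LD3_c11)) = (LP (LK LD1_c3 LD2_c2 LD3_c1)) :=
  Lgr Lrot96 (Lpr_et (f120153 IH) (Lpr_bt (f120144 IH) (Lpr_et (K3.f87850 IH) (Lpn (LP (LK LD1_c3 LD2_c2 LD3_c1))))))
theorem f96034 : Led Lsl_ff (LP (LK LD1_c3 LD2_c2 LD3_c1)) = (LP (LK LD1_c1 LD2_c35 LD3_c30)) :=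
  Lgr Lrot3 (Lpr_ft (K3.f96024 IH) (Lpn (LP (LK LD1_c1 LD2_c35 LD3_c30))))
theorem f120162 : Led Lsl_ft (LP (LK LD1_c2 LD2_c19 LD3_c11)) = (LP (LK LD1_c1 LD2_c29 LD3_c60)) :=
  Lgr Lrot75 (Lpr_bf (f120154 IH) (Lpr_ff (f96034 IH) (Lpr_bf (K3.f104229 IH) (Lpn (LP (LK LD1_c1 LD2_c29 LD3_c60))))))
theorem f120166 : Led Lsl_ff (LP (LK LD1_c2 LD2_c19 LD3_c11)) = (LP (LK LD1_c1 LD2_c29 LD3_c60)) :=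
  Lgr Lrot3 (Lpr_ft (f120162 IH) (Lpn (LP (LK LD1_c1 LD2_c29 LD3_c60))))
theorem f120119 : Led Lsl_ct (LP (LK LD1_c2 LD2_c19 LD3_c11)) = (LP (LK LD1_c1 LD2_c6 LD3_c44)) :=
  Lre_c IH (LK LD1_c2 LD2_c19 LD3_c11) (LK LD1_c1 LD2_c6 LD3_c44) Lrfl Lrfl
theorem f120170 : Led Lsl_ft (LP (LK LD1_c1 LD2_c6 LD3_c44)) = (LP (LK LD1_c0 LD2_c41 LD3_c36)) :=
  Lgr Lrot4 (Lpe (f120119 IH) (Lpr_ff (f120166 IH) (Lpe (K1.f25019 IH) (Lpn (LP (LK LD1_c0 LD2_c41 LD3_c36))))))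
theorem f120177 : Led Lsl_df (LP (LK LD1_c1 LD2_c6 LD3_c44)) = (LP (LK LD1_c0 LD2_c30 LD3_c43)) :=
  Lgr Lrot78 (Lpr_ft (f120170 IH) (Lpe (f104220 IH) (Lpe (f120087 IH) (Lpn (LP (LK LD1_c0 LD2_c30 LD3_c43))))))
theorem f23316 : Led Lsl_ct (LP (LK LD1_c0 LD2_c13 LD3_c47)) = (LP (LK LD1_c0 LD2_c31 LD3_c2)) :=
  Lre_c IH (LK LD1_c0 LD2_c13 LD3_c47) (LK LD1_c0 LD2_c31 LD3_c2) Lrfl Lrfl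
theorem f104164 : Led Lsl_gt (LP (LK LD1_c0 LD2_c31 LD3_c1)) = (LP (LK LD1_c1 LD2_c7 LD3_c3)) :=
  Lgr Lrot164 (Lpe (K3.f79283 IH) (Lpr_ct (f23316 IH) (Lpe (K2.f23498 IH) (Lpe (K3.f23552 IH) (Lpr_gf (K3.f103471 IH) (Lpe (K3.f103476 IH) (Lpr_ct (K3.f103503 IH) (Lpr_gf (K3.f104160 IH) (Lpe (K3.f79259 IH) (Lpe (K3.f23556 IH) (Lpn (LP (LK LD1_c1 LD2_c7 LD3_c3)))))))))))))
theorem f120182 : Led Lsl_gf (LP (LK LD1_c2 LD2_c19 LD3_c11)) = (LP (LK LD1_c3 LD2_c17 LD3_c0)) :=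
  Lgr Lrot104 (Lpr_ct (f120119 IH) (Lpr_df (f120177 IH) (Lpe (K2.f23457 IH) (Lpe (f104164 IH) (Lpe (K3.f79291 IH) (Lpr_gf (K3.f79295 IH) (Lpe (K3.f26092 IH) (Lpe (K3.f94933 IH) (Lpr_ct (f77868 IH) (Lpn (LP (LK LD1_c3 LD2_c17 LD3_c0))))))))))))
theorem f120123 : Led Lsl_ct (LP (LK LD1_c1 LD2_c6 LD3_c44)) = (LP (LK LD1_c2 LD2_c19 LD3_c11)) :=
  Lre_c IH (LK LD1_c1 LD2_c6 LD3_c44) (LK LD1_c2 LD2_c19 LD3_c11) Lrfl Lrfl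
theorem f120122 : Led Lsl_bt (LP (LK LD1_c1 LD2_c6 LD3_c44)) = (LP (LK LD1_c2 LD2_c19 LD3_c10)) :=
  Lre_b IH (LK LD1_c1 LD2_c6 LD3_c44) (LK LD1_c2 LD2_c19 LD3_c10) Lrfl Lrfl
theorem f24386 : Led Lsl_dt (LP (LK LD1_c0 LD2_c43 LD3_c31)) = (LP (LK LD1_c1 LD2_c33 LD3_c52)) :=
  Lre_d IH (LK LD1_c0 LD2_c43 LD3_c31) (LK LD1_c1 LD2_c33 LD3_c52) Lrfl Lrfl
theorem f95263 : Led Lsl_gt (LP (LK LD1_c1 LD2_c33 LD3_c52)) = (LP (LK LD1_c3 LD2_c6 LD3_c14)) :=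
  Lgr Lrot9 (Lpe (f24386 IH) (Lpr_gt (K3.f95259 IH) (Lpr_ct (K3.f13487 IH) (Lpe (K0.f13485 IH) (Lpe (K0.f9746 IH) (Lpe (K2.f9764 IH) (Lpe (K2.f78711 IH) (Lpr_gf (K2.f79021 IH) (Lpe (K3.f79027 IH) (Lpn (LP (LK LD1_c3 LD2_c6 LD3_c14))))))))))))
theorem f95266 : Led Lsl_bt (LP (LK LD1_c0 LD2_c43 LD3_c32)) = (LP (LK LD1_c1 LD2_c33 LD3_c52)) :=
  Lre_b IH (LK LD1_c0 LD2_c43 LD3_c32) (LK LD1_c1 LD2_c33 LD3_c52) Lrfl Lrfl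
theorem f107385 : Led Lsl_gf (LP (LK LD1_c1 LD2_c33 LD3_c54)) = (LP (LK LD1_c3 LD2_c14 LD3_c36)) :=
  Lgr Lrot76 (Lpr_af (K3.f107372 IH) (Lpe (K3.f107366 IH) (Lpr_gt (K3.f26163 IH) (Lpn (LP (LK LD1_c3 LD2_c14 LD3_c36))))))
theorem f104295 : Led Lsl_cf (LP (LK LD1_c3 LD2_c14 LD3_c36)) = (LP (LK LD1_c3 LD2_c23 LD3_c0)) :=
  Lgr Lrot163 (Lpe (K3.f26163 IH) (Lpe (K3.f26162 IH) (Lpr_gf (K3.f104287 IH) (Lpe (K2.f56679 IH) (Lpr_ct (K1.f56669 IH) (Lpe (K2.f56667 IH) (Lpe (K1.f36242 IH) (Lpr_bt (K1.f36238 IH) (Lpe (K2.f11880 IH) (Lpe (K3.f11881 IH) (Lpn (LP (LK LD1_c3 LD2_c23 LD3_c0)))))))))))))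
theorem f120186 : Led Lsl_gt (LP (LK LD1_c2 LD2_c19 LD3_c10)) = (LP (LK LD1_c3 LD2_c23 LD3_c0)) :=
  Lgr Lrot82 (Lpe (f120122 IH) (Lpr_ct (f120123 IH) (Lpr_gf (f120182 IH) (Lpe (f77868 IH) (Lpe (K3.f77847 IH) (Lpe (f95263 IH) (Lpe (f95266 IH) (Lpr_ct (K3.f24334 IH) (Lpr_gf (f107385 IH) (Lpr_cf (f104295 IH) (Lpn (LP (LK LD1_c3 LD2_c23 LD3_c0)))))))))))))
theorem f24314 : Led Lsl_dt (LP (LK LD1_c0 LD2_c43 LD3_c29)) = (LP (LK LD1_c1 LD2_c33 LD3_c49)) :=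
  Lre_d IH (LK LD1_c0 LD2_c43 LD3_c29) (LK LD1_c1 LD2_c33 LD3_c49) Lrfl Lrfl
theorem f95579 : Led Lsl_gt (LP (LK LD1_c0 LD2_c45 LD3_c23)) = (LP (LK LD1_c0 LD2_c43 LD3_c29)) :=
  Lgr Lrot5 (Lpr_ft (K2.f95571 IH) (Lpe (K2.f95573 IH) (Lpr_gf (K3.f93193 IH) (Lpn (LP (LK LD1_c0 LD2_c43 LD3_c29))))))
theorem f120193 : Led Lsl_df (LP (LK LD1_c2 LD2_c19 LD3_c10)) = (LP (LK LD1_c1 LD2_c7 LD3_c2)) :=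
  Lgr Lrot153 (Lpr_gt (f120186 IH) (Lpr_dt (K3.f90233 IH) (Lpe (K2.f17663 IH) (Lpe (K3.f17664 IH) (Lpe (K3.f107505 IH) (Lpe (f24314 IH) (Lpe (f95579 IH) (Lpr_cf (K2.f95575 IH) (Lpe (K3.f104188 IH) (Lpn (LP (LK LD1_c1 LD2_c7 LD3_c2))))))))))))
theorem f109963 : Led Lsl_bt (LP (LK LD1_c2 LD2_c21 LD3_c47)) = (LP (LK LD1_c1 LD2_c41 LD3_c27)) :=
  Lgr Lrot127 (Lpr_bf (K3.f109961 IH) (Lpn (LP (LK LD1_c1 LD2_c41 LD3_c27))))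
theorem f120158 : Led Lsl_ct (LP (LK LD1_c2 LD2_c19 LD3_c10)) = (LP (LK LD1_c2 LD2_c21 LD3_c47)) :=
  Lgr Lrot83 (Lpe (f120122 IH) (Lpe (f120119 IH) (Lpr_bf (f120154 IH) (Lpe (K3.f87806 IH) (Lpe (f109963 IH) (Lpn (LP (LK LD1_c2 LD2_c21 LD3_c47))))))))
theorem f111031 : Led Lsl_df (LP (LK LD1_c2 LD2_c19 LD3_c59)) = (LP (LK LD1_c3 LD2_c44 LD3_c56)) :=
  Lgr Lrot38 (Lpr_dt (f111027 IH) (Lpn (LP (LK LD1_c3 LD2_c44 LD3_c56))))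
theorem f24390 : Led Lsl_ct (LP (LK LD1_c3 LD2_c14 LD3_c39)) = (LP (LK LD1_c1 LD2_c33 LD3_c52)) :=
  Lre_c IH (LK LD1_c3 LD2_c14 LD3_c39) (LK LD1_c1 LD2_c33 LD3_c52) Lrfl Lrfl
theorem f103509 : Led Lsl_gf (LP (LK LD1_c3 LD2_c14 LD3_c39)) = (LP (LK LD1_c3 LD2_c22 LD3_c36)) :=
  Lgr Lrot104 (Lpr_ct (f24390 IH) (Lpe (f24386 IH) (Lpe (K3.f24381 IH) (Lpr_gf (K3.f103505 IH) (Lpe (K3.f103503 IH) (Lpe (K3.f9754 IH) (Lpe (K2.f9748 IH) (Lpr_gt (f20281 IH) (Lpr_ct (f56678 IH) (Lpn (LP (LK LD1_c3 LD2_c22 LD3_c36))))))))))))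
theorem f103511 : Led Lsl_bt (LP (LK LD1_c1 LD2_c33 LD3_c52)) = (LP (LK LD1_c0 LD2_c43 LD3_c32)) :=
  Lre_b IH (LK LD1_c1 LD2_c33 LD3_c52) (LK LD1_c0 LD2_c43 LD3_c32) Lrfl Lrfl
theorem f103515 : Led Lsl_gt (LP (LK LD1_c0 LD2_c43 LD3_c32)) = (LP (LK LD1_c0 LD2_c19 LD3_c51)) :=
  Lgr Lrot164 (Lpe (f103511 IH) (Lpr_ct (f24387 IH) (Lpr_gf (f103509 IH) (Lpe (f56678 IH) (Lpe (f20281 IH) (Lpe (f20280 IH) (Lpr_ct (K0.f13476 IH) (Lpr_gf (K1.f56582 IH) (Lpe (K1.f56669 IH) (Lpr_bt (K2.f56679 IH) (Lpn (LP (LK LD1_c0 LD2_c19 LD3_c51)))))))))))))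
theorem f24313 : Led Lsl_dt (LP (LK LD1_c0 LD2_c43 LD3_c32)) = (LP (LK LD1_c0 LD2_c19 LD3_c25)) :=
  Lre_d IH (LK LD1_c0 LD2_c43 LD3_c32) (LK LD1_c0 LD2_c19 LD3_c25) Lrfl Lrfl
theorem f57254 : Led Lsl_gt (LP (LK LD1_c0 LD2_c44 LD3_c38)) = (LP (LK LD1_c1 LD2_c36 LD3_c17)) :=
  Lre_g IH (LK LD1_c0 LD2_c44 LD3_c38) (LK LD1_c1 LD2_c36 LD3_c17) Lrfl Lrfl
theorem f103521 : Led Lsl_cf (LP (LK LD1_c1 LD2_c33 LD3_c49)) = (LP (LK LD1_c1 LD2_c36 LD3_c17)) :=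
  Lgr Lrot99 (Lpe (f24314 IH) (Lpe (K3.f24311 IH) (Lpe (K3.f24308 IH) (Lpe (K3.f24272 IH) (Lpe (K3.f24141 IH) (Lpe (f24313 IH) (Lpr_gt (f103515 IH) (Lpr_ct (K2.f56740 IH) (Lpr_gt (f57254 IH) (Lpn (LP (LK LD1_c1 LD2_c36 LD3_c17))))))))))))
theorem f107503 : Led Lsl_ff (LP (LK LD1_c1 LD2_c36 LD3_c17)) = (LP (LK LD1_c2 LD2_c21 LD3_c46)) :=
  Lgr Lrot23 (Lpe (f103521 IH) (Lpr_ft (K3.f107499 IH) (Lpr_ct (K2.f78098 IH) (Lpn (LP (LK LD1_c2 LD2_c21 LD3_c46))))))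
theorem f120199 : Led Lsl_af (LP (LK LD1_c2 LD2_c21 LD3_c47)) = (LP (LK LD1_c1 LD2_c36 LD3_c17)) :=
  Lgr Lrot109 (Lpe (f120158 IH) (Lpr_df (f120193 IH) (Lpr_cf (K3.f79266 IH) (Lpe (K3.f78111 IH) (Lpe (K3.f78115 IH) (Lpr_df (f111031 IH) (Lpe (K3.f108984 IH) (Lpe (K3.f108980 IH) (Lpe (f107503 IH) (Lpn (LP (LK LD1_c1 LD2_c36 LD3_c17))))))))))))
theorem f109967 : Led Lsl_et (LP (LK LD1_c2 LD2_c21 LD3_c47)) = (LP (LK LD1_c4 LD2_c47 LD3_c48)) :=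
  Lre_e IH (LK LD1_c2 LD2_c21 LD3_c47) (LK LD1_c4 LD2_c47 LD3_c48) Lrfl Lrfl
theorem f103531 : Led Lsl_et (LP (LK LD1_c3 LD2_c19 LD3_c47)) = (LP (LK LD1_c1 LD2_c36 LD3_c17)) :=
  Lre_e IH (LK LD1_c3 LD2_c19 LD3_c47) (LK LD1_c1 LD2_c36 LD3_c17) Lrfl Lrfl
theorem f120207 : Led Lsl_at (LP (LK LD1_c4 LD2_c47 LD3_c48)) = (LP (LK LD1_c3 LD2_c19 LD3_c47)) :=
  Lgr Lrot80 (Lpe (f109967 IH) (Lpr_af (f120199 IH) (Lpe (f103531 IH) (Lpn (LP (LK LD1_c3 LD2_c19 LD3_c47))))))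
theorem f120209 : Led Lsl_af (LP (LK LD1_c4 LD2_c47 LD3_c48)) = (LP (LK LD1_c3 LD2_c19 LD3_c47)) :=
  Lgr Lrot0 (Lpr_at (f120207 IH) (Lpn (LP (LK LD1_c3 LD2_c19 LD3_c47))))
theorem f87869 : Led Lsl_et (LP (LK LD1_c3 LD2_c29 LD3_c27)) = (LP (LK LD1_c1 LD2_c41 LD3_c27)) :=
  Lre_e IH (LK LD1_c3 LD2_c29 LD3_c27) (LK LD1_c1 LD2_c41 LD3_c27) Lrfl Lrfl
theorem f109968 : Led Lsl_bt (LP (LK LD1_c4 LD2_c47 LD3_c48)) = (LP (LK LD1_c3 LD2_c29 LD3_c27)) :=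
  Lgr Lrot119 (Lpe (f109967 IH) (Lpr_bf (K3.f109961 IH) (Lpe (f87869 IH) (Lpn (LP (LK LD1_c3 LD2_c29 LD3_c27))))))
theorem f105548 : Led Lsl_bt (LP (LK LD1_c1 LD2_c50 LD3_c29)) = (LP (LK LD1_c3 LD2_c46 LD3_c41)) :=
  Lre_b IH (LK LD1_c1 LD2_c50 LD3_c29) (LK LD1_c3 LD2_c46 LD3_c41) Lrfl Lrfl
theorem f103551 : Led Lsl_bt (LP (LK LD1_c6 LD2_c43 LD3_c21)) = (LP (LK LD1_c3 LD2_c19 LD3_c47)) :=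
  Lre_b IH (LK LD1_c6 LD2_c43 LD3_c21) (LK LD1_c3 LD2_c19 LD3_c47) Lrfl Lrfl
theorem f120226 : Led Lsl_at (LP (LK LD1_c3 LD2_c46 LD3_c41)) = (LP (LK LD1_c6 LD2_c43 LD3_c21)) :=
  Lgr Lrot67 (Lpe (f105548 IH) (Lpr_af (K3.f105343 IH) (Lpe (f109968 IH) (Lpr_af (f120209 IH) (Lpe (f103551 IH) (Lpn (LP (LK LD1_c6 LD2_c43 LD3_c21))))))))
theorem f120235 : Led Lsl_et (LP (LK LD1_c1 LD2_c50 LD3_c27)) = (LP (LK LD1_c3 LD2_c46 LD3_c41)) :=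
  Lre_e IH (LK LD1_c1 LD2_c50 LD3_c27) (LK LD1_c3 LD2_c46 LD3_c41) Lrfl Lrfl
theorem f120236 : Led Lsl_et (LP (LK LD1_c6 LD2_c43 LD3_c21)) = (LP (LK LD1_c3 LD2_c19 LD3_c46)) :=
  Lre_e IH (LK LD1_c6 LD2_c43 LD3_c21) (LK LD1_c3 LD2_c19 LD3_c46) Lrfl Lrfl
theorem f120237 : Led Lsl_af (LP (LK LD1_c1 LD2_c50 LD3_c27)) = (LP (LK LD1_c3 LD2_c19 LD3_c46)) :=
  Lgr Lrot50 (Lpr_et (f120235 IH) (Lpr_at (f120226 IH) (Lpr_et (f120236 IH) (Lpn (LP (LK LD1_c3 LD2_c19 LD3_c46))))))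
theorem f120252 : Led Lsl_ft (LP (LK LD1_c4 LD2_c47 LD3_c47)) = (LP (LK LD1_c3 LD2_c19 LD3_c46)) :=
  Lgr Lrot101 (Lpr_af (K3.f108991 IH) (Lpr_ff (K3.f109891 IH) (Lpr_af (f120237 IH) (Lpn (LP (LK LD1_c3 LD2_c19 LD3_c46))))))
theorem f57259 : Led Lsl_bt (LP (LK LD1_c3 LD2_c19 LD3_c46)) = (LP (LK LD1_c1 LD2_c36 LD3_c17)) :=
  Lre_b IH (LK LD1_c3 LD2_c19 LD3_c46) (LK LD1_c1 LD2_c36 LD3_c17) Lrfl Lrfl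
theorem f120283 : Led Lsl_ff (LP (LK LD1_c2 LD2_c21 LD3_c46)) = (LP (LK LD1_c1 LD2_c36 LD3_c17)) :=
  Lgr Lrot25 (Lpr_bt (K3.f78100 IH) (Lpr_ft (f120252 IH) (Lpr_bt (f57259 IH) (Lpn (LP (LK LD1_c1 LD2_c36 LD3_c17))))))
theorem f120201 : Led Lsl_at (LP (LK LD1_c2 LD2_c21 LD3_c47)) = (LP (LK LD1_c1 LD2_c36 LD3_c17)) :=
  Lgr Lrot100 (Lpr_af (f120199 IH) (Lpn (LP (LK LD1_c1 LD2_c36 LD3_c17))))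
theorem f120351 : Led Lsl_ft (LP (LK LD1_c1 LD2_c36 LD3_c18)) = (LP (LK LD1_c2 LD2_c21 LD3_c47)) :=
  Lgr Lrot101 (Lpe (K3.f108987 IH) (Lpr_ff (f120283 IH) (Lpe (f120201 IH) (Lpn (LP (LK LD1_c2 LD2_c21 LD3_c47))))))
theorem f109965 : Led Lsl_dt (LP (LK LD1_c2 LD2_c21 LD3_c47)) = (LP (LK LD1_c1 LD2_c41 LD3_c26)) :=
  Lgr Lrot79 (Lpr_bf (K3.f109961 IH) (Lpe (K3.f17799 IH) (Lpe (f17800 IH) (Lpn (LP (LK LD1_c1 LD2_c41 LD3_c26))))))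
theorem f120353 : Led Lsl_ff (LP (LK LD1_c0 LD2_c51 LD3_c53)) = (LP (LK LD1_c1 LD2_c41 LD3_c26)) :=
  Lgr Lrot19 (Lpr_dt (K3.f104293 IH) (Lpr_ft (f120351 IH) (Lpr_dt (f109965 IH) (Lpn (LP (LK LD1_c1 LD2_c41 LD3_c26))))))
theorem f23558 : Led Lsl_bt (LP (LK LD1_c1 LD2_c7 LD3_c2)) = (LP (LK LD1_c0 LD2_c30 LD3_c43)) :=
  Lre_b IH (LK LD1_c1 LD2_c7 LD3_c2) (LK LD1_c0 LD2_c30 LD3_c43) Lrfl Lrfl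
theorem f120180 : Led Lsl_dt (LP (LK LD1_c2 LD2_c19 LD3_c10)) = (LP (LK LD1_c1 LD2_c7 LD3_c2)) :=
  Lgr Lrot79 (Lpe (f120122 IH) (Lpr_df (f120177 IH) (Lpe (f23558 IH) (Lpn (LP (LK LD1_c1 LD2_c7 LD3_c2))))))
theorem f103529 : Led Lsl_ct (LP (LK LD1_c1 LD2_c33 LD3_c49)) = (LP (LK LD1_c1 LD2_c36 LD3_c17)) :=
  Lgr Lrot59 (Lpr_cf (f103521 IH) (Lpn (LP (LK LD1_c1 LD2_c36 LD3_c17))))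
theorem f107472 : Led Lsl_bf (LP (LK LD1_c0 LD2_c43 LD3_c29)) = (LP (LK LD1_c1 LD2_c32 LD3_c30)) :=
  Lgr Lrot61 (Lpr_ft (K3.f107464 IH) (Lpe (K2.f23475 IH) (Lpe (K3.f98871 IH) (Lpn (LP (LK LD1_c1 LD2_c32 LD3_c30))))))
theorem f120097 : Led Lsl_af (LP (LK LD1_c1 LD2_c7 LD3_c2)) = (LP (LK LD1_c0 LD2_c43 LD3_c29)) :=
  Lgr Lrot36 (Lpr_bt (f23558 IH) (Lpr_at (f120093 IH) (Lpr_bt (K3.f26168 IH) (Lpr_at (K3.f91474 IH) (Lpe (f107472 IH) (Lpn (LP (LK LD1_c0 LD2_c43 LD3_c29))))))))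
theorem f120196 : Led Lsl_at (LP (LK LD1_c2 LD2_c19 LD3_c10)) = (LP (LK LD1_c1 LD2_c33 LD3_c49)) :=
  Lgr Lrot51 (Lpr_df (f120193 IH) (Lpr_af (f120097 IH) (Lpe (K3.f24312 IH) (Lpn (LP (LK LD1_c1 LD2_c33 LD3_c49))))))
theorem f120205 : Led Lsl_ct (LP (LK LD1_c2 LD2_c21 LD3_c47)) = (LP (LK LD1_c2 LD2_c19 LD3_c10)) :=
  Lgr Lrot111 (Lpr_af (f120199 IH) (Lpe (f103529 IH) (Lpe (f120196 IH) (Lpn (LP (LK LD1_c2 LD2_c19 LD3_c10))))))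
theorem f120361 : Led Lsl_df (LP (LK LD1_c2 LD2_c21 LD3_c47)) = (LP (LK LD1_c1 LD2_c41 LD3_c26)) :=
  Lgr Lrot157 (Lpr_ct (f120205 IH) (Lpr_dt (f120180 IH) (Lpr_ct (K3.f79264 IH) (Lpr_dt (K2.f78108 IH) (Lpr_ct (K3.f78114 IH) (Lpr_dt (f111027 IH) (Lpr_ct (K3.f95512 IH) (Lpe (K3.f108986 IH) (Lpr_ff (f120353 IH) (Lpn (LP (LK LD1_c1 LD2_c41 LD3_c26))))))))))))
theorem f11449 : Led Lsl_ct (LP (LK LD1_c3 LD2_c29 LD3_c18)) = (LP (LK LD1_c1 LD2_c41 LD3_c26)) :=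
  Lre_c IH (LK LD1_c3 LD2_c29 LD3_c18) (LK LD1_c1 LD2_c41 LD3_c26) Lrfl Lrfl
theorem f91911 : Led Lsl_df (LP (LK LD1_c3 LD2_c29 LD3_c18)) = (LP (LK LD1_c2 LD2_c19 LD3_c55)) :=
  Lgr Lrot38 (Lpr_dt (f91907 IH) (Lpn (LP (LK LD1_c2 LD2_c19 LD3_c55))))
theorem f120368 : Led Lsl_af (LP (LK LD1_c0 LD2_c30 LD3_c51)) = (LP (LK LD1_c0 LD2_c19 LD3_c24)) :=
  Lgr Lrot109 (Lpe (K3.f79264 IH) (Lpe (f120180 IH) (Lpe (f120205 IH) (Lpr_df (f120361 IH) (Lpe (f11449 IH) (Lpr_df (f91911 IH) (Lpe (K3.f20949 IH) (Lpe (K3.f20948 IH) (Lpe (K3.f107460 IH) (Lpn (LP (LK LD1_c0 LD2_c19 LD3_c24))))))))))))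
theorem f120380 : Led Lsl_at (LP (LK LD1_c1 LD2_c7 LD3_c15)) = (LP (LK LD1_c0 LD2_c43 LD3_c30)) :=
  Lgr Lrot51 (Lpe (K2.f78108 IH) (Lpr_af (f120368 IH) (Lpe (f26165 IH) (Lpn (LP (LK LD1_c0 LD2_c43 LD3_c30))))))
theorem f78125 : Led Lsl_et (LP (LK LD1_c2 LD2_c19 LD3_c60)) = (LP (LK LD1_c1 LD2_c7 LD3_c15)) :=
  Lre_e IH (LK LD1_c2 LD2_c19 LD3_c60) (LK LD1_c1 LD2_c7 LD3_c15) Lrfl Lrfl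
theorem f26167 : Led Lsl_et (LP (LK LD1_c0 LD2_c43 LD3_c30)) = (LP (LK LD1_c1 LD2_c33 LD3_c51)) :=
  Lre_e IH (LK LD1_c0 LD2_c43 LD3_c30) (LK LD1_c1 LD2_c33 LD3_c51) Lrfl Lrfl
theorem f120384 : Led Lsl_af (LP (LK LD1_c2 LD2_c19 LD3_c60)) = (LP (LK LD1_c1 LD2_c33 LD3_c51)) :=
  Lgr Lrot50 (Lpr_et (f78125 IH) (Lpr_at (f120380 IH) (Lpr_et (f26167 IH) (Lpn (LP (LK LD1_c1 LD2_c33 LD3_c51))))))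
theorem f120391 : Led Lsl_ct (LP (LK LD1_c2 LD2_c19 LD3_c60)) = (LP (LK LD1_c4 LD2_c44 LD3_c4)) :=
  Lre_c IH (LK LD1_c2 LD2_c19 LD3_c60) (LK LD1_c4 LD2_c44 LD3_c4) Lrfl Lrfl
theorem f91778 : Led Lsl_ct (LP (LK LD1_c3 LD2_c14 LD3_c38)) = (LP (LK LD1_c1 LD2_c33 LD3_c51)) :=
  Lre_c IH (LK LD1_c3 LD2_c14 LD3_c38) (LK LD1_c1 LD2_c33 LD3_c51) Lrfl Lrfl
theorem f120392 : Led Lsl_at (LP (LK LD1_c4 LD2_c44 LD3_c4)) = (LP (LK LD1_c3 LD2_c14 LD3_c38)) :=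
  Lgr Lrot107 (Lpe (f120391 IH) (Lpr_af (f120384 IH) (Lpe (f91778 IH) (Lpn (LP (LK LD1_c3 LD2_c14 LD3_c38))))))
theorem f111033 : Led Lsl_dt (LP (LK LD1_c9 LD2_c21 LD3_c0)) = (LP (LK LD1_c4 LD2_c44 LD3_c4)) :=
  Lre_d IH (LK LD1_c9 LD2_c21 LD3_c0) (LK LD1_c4 LD2_c44 LD3_c4) Lrfl Lrfl
theorem f120401 : Led Lsl_af (LP (LK LD1_c9 LD2_c21 LD3_c0)) = (LP (LK LD1_c6 LD2_c32 LD3_c47)) :=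
  Lgr Lrot117 (Lpr_dt (f111033 IH) (Lpr_at (f120392 IH) (Lpr_dt (K3.f91780 IH) (Lpn (LP (LK LD1_c6 LD2_c32 LD3_c47))))))
theorem f120411 : Led Lsl_et (LP (LK LD1_c9 LD2_c21 LD3_c0)) = (LP (LK LD1_c14 LD2_c10 LD3_c59)) :=
  Lgr Lrot123 (Lpr_af (f120401 IH) (Lpe (K3.f91793 IH) (Lpe (K3.f91799 IH) (Lpn (LP (LK LD1_c14 LD2_c10 LD3_c59))))))
theorem f120413 : Led Lsl_bt (LP (LK LD1_c17 LD2_c16 LD3_c60)) = (LP (LK LD1_c9 LD2_c21 LD3_c0)) :=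
  Lre_b IH (LK LD1_c17 LD2_c16 LD3_c60) (LK LD1_c9 LD2_c21 LD3_c0) Lrfl Lrfl
theorem f95495 : Led Lsl_bf (LP (LK LD1_c22 LD2_c36 LD3_c30)) = (LP (LK LD1_c14 LD2_c10 LD3_c59)) :=
  Lgr Lrot24 (Lpr_bt (K3.f95493 IH) (Lpn (LP (LK LD1_c14 LD2_c10 LD3_c59))))
theorem f120414 : Led Lsl_ef (LP (LK LD1_c17 LD2_c16 LD3_c60)) = (LP (LK LD1_c22 LD2_c36 LD3_c30)) :=
  Lgr Lrot29 (Lpr_bt (f120413 IH) (Lpr_et (f120411 IH) (Lpe (f95495 IH) (Lpn (LP (LK LD1_c22 LD2_c36 LD3_c30))))))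
theorem f120421 : Led Lsl_et (LP (LK LD1_c17 LD2_c16 LD3_c60)) = (LP (LK LD1_c22 LD2_c36 LD3_c30)) :=
  Lgr Lrot87 (Lpr_ef (f120414 IH) (Lpn (LP (LK LD1_c22 LD2_c36 LD3_c30))))
theorem f94890 : Led Lsl_at (LP (LK LD1_c22 LD2_c36 LD3_c30)) = (LP (LK LD1_c13 LD2_c20 LD3_c8)) :=
  Lre_a IH (LK LD1_c22 LD2_c36 LD3_c30) (LK LD1_c13 LD2_c20 LD3_c8) Lrfl Lrfl
theorem f94848 : Led Lsl_bt (LP (LK LD1_c13 LD2_c10 LD3_c47)) = (LP (LK LD1_c6 LD2_c56 LD3_c33)) :=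
  Lre_b IH (LK LD1_c13 LD2_c10 LD3_c47) (LK LD1_c6 LD2_c56 LD3_c33) Lrfl Lrfl
theorem f94849 : Led Lsl_et (LP (LK LD1_c13 LD2_c20 LD3_c8)) = (LP (LK LD1_c13 LD2_c10 LD3_c47)) :=
  Lgr Lrot74 (Lpe (K3.f94847 IH) (Lpr_ef (K3.f94844 IH) (Lpe (f94848 IH) (Lpn (LP (LK LD1_c13 LD2_c10 LD3_c47))))))
theorem f120423 : Led Lsl_af (LP (LK LD1_c17 LD2_c16 LD3_c60)) = (LP (LK LD1_c13 LD2_c10 LD3_c47)) :=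
  Lgr Lrot50 (Lpr_et (f120421 IH) (Lpr_at (f94890 IH) (Lpr_et (f94849 IH) (Lpn (LP (LK LD1_c13 LD2_c10 LD3_c47))))))
theorem f120417 : Led Lsl_dt (LP (LK LD1_c17 LD2_c16 LD3_c60)) = (LP (LK LD1_c9 LD2_c20 LD3_c60)) :=
  Lre_d IH (LK LD1_c17 LD2_c16 LD3_c60) (LK LD1_c9 LD2_c20 LD3_c60) Lrfl Lrfl
theorem f94910 : Led Lsl_dt (LP (LK LD1_c6 LD2_c56 LD3_c30)) = (LP (LK LD1_c13 LD2_c10 LD3_c47)) :=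
  Lre_d IH (LK LD1_c6 LD2_c56 LD3_c30) (LK LD1_c13 LD2_c10 LD3_c47) Lrfl Lrfl
theorem f120432 : Led Lsl_at (LP (LK LD1_c9 LD2_c20 LD3_c60)) = (LP (LK LD1_c6 LD2_c56 LD3_c30)) :=
  Lgr Lrot51 (Lpe (f120417 IH) (Lpr_af (f120423 IH) (Lpe (f94910 IH) (Lpn (LP (LK LD1_c6 LD2_c56 LD3_c30))))))
theorem f120427 : Led Lsl_et (LP (LK LD1_c4 LD2_c44 LD3_c3)) = (LP (LK LD1_c9 LD2_c20 LD3_c60)) :=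
  Lre_e IH (LK LD1_c4 LD2_c44 LD3_c3) (LK LD1_c9 LD2_c20 LD3_c60) Lrfl Lrfl
theorem f94894 : Led Lsl_et (LP (LK LD1_c6 LD2_c56 LD3_c30)) = (LP (LK LD1_c3 LD2_c27 LD3_c16)) :=
  Lre_e IH (LK LD1_c6 LD2_c56 LD3_c30) (LK LD1_c3 LD2_c27 LD3_c16) Lrfl Lrfl
theorem f120435 : Led Lsl_af (LP (LK LD1_c4 LD2_c44 LD3_c3)) = (LP (LK LD1_c3 LD2_c27 LD3_c16)) :=
  Lgr Lrot50 (Lpr_et (f120427 IH) (Lpr_at (f120432 IH) (Lpr_et (f94894 IH) (Lpn (LP (LK LD1_c3 LD2_c27 LD3_c16))))))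
theorem f15617 : Led Lsl_bt (LP (LK LD1_c3 LD2_c27 LD3_c16)) = (LP (LK LD1_c1 LD2_c40 LD3_c14)) :=
  Lre_b IH (LK LD1_c3 LD2_c27 LD3_c16) (LK LD1_c1 LD2_c40 LD3_c14) Lrfl Lrfl
theorem f95278 : Led Lsl_bt (LP (LK LD1_c1 LD2_c52 LD3_c21)) = (LP (LK LD1_c3 LD2_c50 LD3_c58)) :=
  Lre_b IH (LK LD1_c1 LD2_c52 LD3_c21) (LK LD1_c3 LD2_c50 LD3_c58) Lrfl Lrfl
theorem f95418 : Led Lsl_ff (LP (LK LD1_c3 LD2_c27 LD3_c16)) = (LP (LK LD1_c3 LD2_c50 LD3_c58)) :=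
  Lgr Lrot25 (Lpr_bt (f15617 IH) (Lpr_ft (K2.f95415 IH) (Lpr_bt (f95278 IH) (Lpn (LP (LK LD1_c3 LD2_c50 LD3_c58))))))
theorem f103523 : Led Lsl_bt (LP (LK LD1_c1 LD2_c33 LD3_c54)) = (LP (LK LD1_c3 LD2_c14 LD3_c42)) :=
  Lre_b IH (LK LD1_c1 LD2_c33 LD3_c54) (LK LD1_c3 LD2_c14 LD3_c42) Lrfl Lrfl
theorem f11447 : Led Lsl_bt (LP (LK LD1_c3 LD2_c29 LD3_c18)) = (LP (LK LD1_c1 LD2_c41 LD3_c22)) :=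
  Lre_b IH (LK LD1_c3 LD2_c29 LD3_c18) (LK LD1_c1 LD2_c41 LD3_c22) Lrfl Lrfl
theorem f91916 : Led Lsl_bt (LP (LK LD1_c1 LD2_c40 LD3_c15)) = (LP (LK LD1_c2 LD2_c19 LD3_c55)) :=
  Lgr Lrot95 (Lpe (K2.f90885 IH) (Lpe (f11447 IH) (Lpr_df (f91911 IH) (Lpn (LP (LK LD1_c2 LD2_c19 LD3_c55))))))
theorem f95353 : Led Lsl_af (LP (LK LD1_c1 LD2_c40 LD3_c14)) = (LP (LK LD1_c1 LD2_c49 LD3_c34)) :=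
  Lgr Lrot117 (Lpe (K2.f94781 IH) (Lpr_at (K2.f95349 IH) (Lpr_dt (K2.f65859 IH) (Lpn (LP (LK LD1_c1 LD2_c49 LD3_c34))))))
theorem f107364 : Led Lsl_at (LP (LK LD1_c1 LD2_c52 LD3_c21)) = (LP (LK LD1_c1 LD2_c40 LD3_c15)) :=
  Lgr Lrot66 (Lpe (K2.f95415 IH) (Lpr_af (f95353 IH) (Lpr_ff (K3.f107362 IH) (Lpn (LP (LK LD1_c1 LD2_c40 LD3_c15))))))
theorem f17140 : Led Lsl_bt (LP (LK LD1_c3 LD2_c50 LD3_c58)) = (LP (LK LD1_c1 LD2_c52 LD3_c21)) :=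
  Lre_b IH (LK LD1_c3 LD2_c50 LD3_c58) (LK LD1_c1 LD2_c52 LD3_c21) Lrfl Lrfl
theorem f107376 : Led Lsl_at (LP (LK LD1_c3 LD2_c14 LD3_c42)) = (LP (LK LD1_c3 LD2_c50 LD3_c58)) :=
  Lgr Lrot67 (Lpe (f103523 IH) (Lpr_af (K3.f107372 IH) (Lpe (f91916 IH) (Lpe (f107364 IH) (Lpe (f17140 IH) (Lpn (LP (LK LD1_c3 LD2_c50 LD3_c58))))))))
theorem f120443 : Led Lsl_ft (LP (LK LD1_c4 LD2_c44 LD3_c3)) = (LP (LK LD1_c3 LD2_c14 LD3_c42)) :=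
  Lgr Lrot101 (Lpr_af (f120435 IH) (Lpr_ff (f95418 IH) (Lpe (f107376 IH) (Lpn (LP (LK LD1_c3 LD2_c14 LD3_c42))))))
theorem f111013 : Led Lsl_bt (LP (LK LD1_c4 LD2_c44 LD3_c3)) = (LP (LK LD1_c2 LD2_c19 LD3_c59)) :=
  Lre_b IH (LK LD1_c4 LD2_c44 LD3_c3) (LK LD1_c2 LD2_c19 LD3_c59) Lrfl Lrfl
theorem f94914 : Led Lsl_at (LP (LK LD1_c7 LD2_c1 LD3_c50)) = (LP (LK LD1_c3 LD2_c30 LD3_c3)) :=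
  Lre_a IH (LK LD1_c7 LD2_c1 LD3_c50) (LK LD1_c3 LD2_c30 LD3_c3) Lrfl Lrfl
theorem f95351 : Led Lsl_bf (LP (LK LD1_c7 LD2_c1 LD3_c50)) = (LP (LK LD1_c3 LD2_c44 LD3_c56)) :=
  Lgr Lrot81 (Lpr_at (f94914 IH) (Lpr_bt (f19154 IH) (Lpr_at (K2.f95349 IH) (Lpr_bt (K2.f5729 IH) (Lpr_at (K3.f91840 IH) (Lpn (LP (LK LD1_c3 LD2_c44 LD3_c56))))))))
theorem f111029 : Led Lsl_df (LP (LK LD1_c4 LD2_c44 LD3_c3)) = (LP (LK LD1_c7 LD2_c1 LD3_c50)) :=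
  Lgr Lrot12 (Lpr_bt (f111013 IH) (Lpr_dt (f111027 IH) (Lpe (f95351 IH) (Lpn (LP (LK LD1_c7 LD2_c1 LD3_c50))))))
theorem f120447 : Led Lsl_dt (LP (LK LD1_c3 LD2_c14 LD3_c42)) = (LP (LK LD1_c6 LD2_c32 LD3_c55)) :=
  Lre_d IH (LK LD1_c3 LD2_c14 LD3_c42) (LK LD1_c6 LD2_c32 LD3_c55) Lrfl Lrfl
theorem f120448 : Led Lsl_ff (LP (LK LD1_c7 LD2_c1 LD3_c50)) = (LP (LK LD1_c6 LD2_c32 LD3_c55)) :=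
  Lgr Lrot19 (Lpe (f111029 IH) (Lpr_ft (f120443 IH) (Lpr_dt (f120447 IH) (Lpn (LP (LK LD1_c6 LD2_c32 LD3_c55))))))
theorem f120460 : Led Lsl_ft (LP (LK LD1_c7 LD2_c1 LD3_c50)) = (LP (LK LD1_c6 LD2_c32 LD3_c55)) :=
  Lgr Lrot48 (Lpr_ff (f120448 IH) (Lpn (LP (LK LD1_c6 LD2_c32 LD3_c55))))
theorem f109599 : Led Lsl_et (LP (LK LD1_c7 LD2_c1 LD3_c50)) = (LP (LK LD1_c13 LD2_c20 LD3_c5)) :=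
  Lre_e IH (LK LD1_c7 LD2_c1 LD3_c50) (LK LD1_c13 LD2_c20 LD3_c5) Lrfl Lrfl
theorem f109600 : Led Lsl_ct (LP (LK LD1_c3 LD2_c32 LD3_c35)) = (LP (LK LD1_c7 LD2_c1 LD3_c50)) :=
  Lgr Lrot15 (Lpe (K3.f109504 IH) (Lpr_cf (K3.f109594 IH) (Lpe (f109599 IH) (Lpn (LP (LK LD1_c7 LD2_c1 LD3_c50))))))
theorem f120473 : Led Lsl_cf (LP (LK LD1_c3 LD2_c36 LD3_c3)) = (LP (LK LD1_c6 LD2_c32 LD3_c55)) :=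
  Lgr Lrot108 (Lpr_ft (K3.f109498 IH) (Lpr_ct (f109600 IH) (Lpr_ft (f120460 IH) (Lpn (LP (LK LD1_c6 LD2_c32 LD3_c55))))))
theorem f17793 : Led Lsl_et (LP (LK LD1_c0 LD2_c49 LD3_c5)) = (LP (LK LD1_c1 LD2_c44 LD3_c50)) :=
  Lre_e IH (LK LD1_c0 LD2_c49 LD3_c5) (LK LD1_c1 LD2_c44 LD3_c50) Lrfl Lrfl
theorem f17794 : Led Lsl_et (LP (LK LD1_c3 LD2_c29 LD3_c21)) = (LP (LK LD1_c1 LD2_c41 LD3_c24)) :=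
  Lre_e IH (LK LD1_c3 LD2_c29 LD3_c21) (LK LD1_c1 LD2_c41 LD3_c24) Lrfl Lrfl
theorem f17795 : Led Lsl_ct (LP (LK LD1_c1 LD2_c44 LD3_c50)) = (LP (LK LD1_c3 LD2_c29 LD3_c21)) :=
  Lgr Lrot15 (Lpe (f17793 IH) (Lpr_cf (K0.f17780 IH) (Lpe (f17794 IH) (Lpn (LP (LK LD1_c3 LD2_c29 LD3_c21))))))
theorem f17814 : Led Lsl_ft (LP (LK LD1_c3 LD2_c35 LD3_c59)) = (LP (LK LD1_c1 LD2_c44 LD3_c50)) :=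
  Lre_f IH (LK LD1_c3 LD2_c35 LD3_c59) (LK LD1_c1 LD2_c44 LD3_c50) Lrfl Lrfl
theorem f17815 : Led Lsl_ft (LP (LK LD1_c3 LD2_c29 LD3_c21)) = (LP (LK LD1_c7 LD2_c0 LD3_c21)) :=
  Lre_f IH (LK LD1_c3 LD2_c29 LD3_c21) (LK LD1_c7 LD2_c0 LD3_c21) Lrfl Lrfl
theorem f17816 : Led Lsl_cf (LP (LK LD1_c3 LD2_c35 LD3_c59)) = (LP (LK LD1_c7 LD2_c0 LD3_c21)) :=
  Lgr Lrot108 (Lpr_ft (f17814 IH) (Lpr_ct (f17795 IH) (Lpr_ft (f17815 IH) (Lpn (LP (LK LD1_c7 LD2_c0 LD3_c21))))))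
theorem f17834 : Led Lsl_ct (LP (LK LD1_c3 LD2_c35 LD3_c59)) = (LP (LK LD1_c7 LD2_c0 LD3_c21)) :=
  Lgr Lrot59 (Lpr_cf (f17816 IH) (Lpn (LP (LK LD1_c7 LD2_c0 LD3_c21))))
theorem f17842 : Led Lsl_bt (LP (LK LD1_c1 LD2_c44 LD3_c59)) = (LP (LK LD1_c3 LD2_c35 LD3_c59)) :=
  Lre_b IH (LK LD1_c1 LD2_c44 LD3_c59) (LK LD1_c3 LD2_c35 LD3_c59) Lrfl Lrfl
theorem f17844 : Led Lsl_bt (LP (LK LD1_c7 LD2_c12 LD3_c34)) = (LP (LK LD1_c3 LD2_c36 LD3_c11)) :=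
  Lre_b IH (LK LD1_c7 LD2_c12 LD3_c34) (LK LD1_c3 LD2_c36 LD3_c11) Lrfl Lrfl
theorem f17839 : Led Lsl_bt (LP (LK LD1_c7 LD2_c0 LD3_c21)) = (LP (LK LD1_c13 LD2_c17 LD3_c27)) :=
  Lre_b IH (LK LD1_c7 LD2_c0 LD3_c21) (LK LD1_c13 LD2_c17 LD3_c27) Lrfl Lrfl
theorem f17845 : Led Lsl_cf (LP (LK LD1_c7 LD2_c12 LD3_c34)) = (LP (LK LD1_c13 LD2_c17 LD3_c27)) :=
  Lgr Lrot97 (Lpr_bt (f17844 IH) (Lpr_ct (K3.f17843 IH) (Lpr_bt (f17842 IH) (Lpr_ct (f17834 IH) (Lpr_bt (f17839 IH) (Lpn (LP (LK LD1_c13 LD2_c17 LD3_c27))))))))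
theorem f17857 : Led Lsl_ft (LP (LK LD1_c7 LD2_c12 LD3_c34)) = (LP (LK LD1_c3 LD2_c36 LD3_c6)) :=
  Lre_f IH (LK LD1_c7 LD2_c12 LD3_c34) (LK LD1_c3 LD2_c36 LD3_c6) Lrfl Lrfl
theorem f17858 : Led Lsl_ft (LP (LK LD1_c7 LD2_c0 LD3_c19)) = (LP (LK LD1_c13 LD2_c17 LD3_c27)) :=
  Lre_f IH (LK LD1_c7 LD2_c0 LD3_c19) (LK LD1_c13 LD2_c17 LD3_c27) Lrfl Lrfl
theorem f17859 : Led Lsl_ct (LP (LK LD1_c3 LD2_c36 LD3_c6)) = (LP (LK LD1_c7 LD2_c0 LD3_c19)) :=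
  Lgr Lrot40 (Lpe (f17857 IH) (Lpr_cf (f17845 IH) (Lpe (f17858 IH) (Lpn (LP (LK LD1_c7 LD2_c0 LD3_c19))))))
theorem f17882 : Led Lsl_et (LP (LK LD1_c1 LD2_c44 LD3_c55)) = (LP (LK LD1_c3 LD2_c36 LD3_c6)) :=
  Lre_e IH (LK LD1_c1 LD2_c44 LD3_c55) (LK LD1_c3 LD2_c36 LD3_c6) Lrfl Lrfl
theorem f17883 : Led Lsl_et (LP (LK LD1_c7 LD2_c0 LD3_c19)) = (LP (LK LD1_c3 LD2_c29 LD3_c20)) :=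
  Lre_e IH (LK LD1_c7 LD2_c0 LD3_c19) (LK LD1_c3 LD2_c29 LD3_c20) Lrfl Lrfl
theorem f17884 : Led Lsl_cf (LP (LK LD1_c1 LD2_c44 LD3_c55)) = (LP (LK LD1_c3 LD2_c29 LD3_c20)) :=
  Lgr Lrot39 (Lpr_et (f17882 IH) (Lpr_ct (f17859 IH) (Lpr_et (f17883 IH) (Lpn (LP (LK LD1_c3 LD2_c29 LD3_c20))))))
theorem f120470 : Led Lsl_bt (LP (LK LD1_c6 LD2_c32 LD3_c55)) = (LP (LK LD1_c3 LD2_c14 LD3_c43)) :=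
  Lre_b IH (LK LD1_c6 LD2_c32 LD3_c55) (LK LD1_c3 LD2_c14 LD3_c43) Lrfl Lrfl
theorem f120481 : Led Lsl_gf (LP (LK LD1_c3 LD2_c44 LD3_c55)) = (LP (LK LD1_c3 LD2_c14 LD3_c43)) :=
  Lgr Lrot181 (Lpr_ct (f111051 IH) (Lpe (f111070 IH) (Lpe (f11448 IH) (Lpr_bt (f17800 IH) (Lpr_gt (K0.f11439 IH) (Lpe (K2.f17787 IH) (Lpe (f17884 IH) (Lpr_gt (K3.f10765 IH) (Lpr_cf (f120473 IH) (Lpr_bt (f120470 IH) (Lpn (LP (LK LD1_c3 LD2_c14 LD3_c43)))))))))))))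
theorem f111083 : Led Lsl_bt (LP (LK LD1_c6 LD2_c34 LD3_c5)) = (LP (LK LD1_c3 LD2_c44 LD3_c55)) :=
  Lgr Lrot127 (Lpr_bf (f111074 IH) (Lpn (LP (LK LD1_c3 LD2_c44 LD3_c55))))
theorem f111147 : Led Lsl_bt (LP (LK LD1_c3 LD2_c45 LD3_c14)) = (LP (LK LD1_c3 LD2_c29 LD3_c49)) :=
  Lgr Lrot35 (Lpe (f111063 IH) (Lpe (f111083 IH) (Lpr_ff (f111145 IH) (Lpn (LP (LK LD1_c3 LD2_c29 LD3_c49))))))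
theorem f24156 : Led Lsl_gt (LP (LK LD1_c1 LD2_c34 LD3_c4)) = (LP (LK LD1_c3 LD2_c15 LD3_c3)) :=
  Lre_g IH (LK LD1_c1 LD2_c34 LD3_c4) (LK LD1_c3 LD2_c15 LD3_c3) Lrfl Lrfl
theorem f120483 : Led Lsl_ct (LP (LK LD1_c3 LD2_c15 LD3_c3)) = (LP (LK LD1_c3 LD2_c14 LD3_c43)) :=
  Lgr Lrot91 (Lpe (f24156 IH) (Lpe (f24137 IH) (Lpr_ct (f8358 IH) (Lpe (f103750 IH) (Lpe (f115835 IH) (Lpe (f115791 IH) (Lpr_gf (f115827 IH) (Lpe (f111147 IH) (Lpe (f111044 IH) (Lpr_gf (f120481 IH) (Lpn (LP (LK LD1_c3 LD2_c14 LD3_c43)))))))))))))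
theorem f111493 : Led Lsl_gf (LP (LK LD1_c3 LD2_c32 LD3_c36)) = (LP (LK LD1_c3 LD2_c36 LD3_c3)) :=
  Lgr Lrot47 (Lpr_gt (f111491 IH) (Lpr_af (K3.f109092 IH) (Lpe (K3.f109498 IH) (Lpn (LP (LK LD1_c3 LD2_c36 LD3_c3))))))
theorem f120479 : Led Lsl_gt (LP (LK LD1_c3 LD2_c44 LD3_c54)) = (LP (LK LD1_c3 LD2_c14 LD3_c43)) :=
  Lgr Lrot164 (Lpe (f93198 IH) (Lpr_ct (f97677 IH) (Lpr_gf (f102887 IH) (Lpr_cf (f103669 IH) (Lpe (f103778 IH) (Lpe (f111485 IH) (Lpr_ct (f92444 IH) (Lpr_gf (f111493 IH) (Lpr_cf (f120473 IH) (Lpr_bt (f120470 IH) (Lpn (LP (LK LD1_c3 LD2_c14 LD3_c43)))))))))))))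
theorem f109060 : Led Lsl_ct (LP (LK LD1_c3 LD2_c46 LD3_c21)) = (LP (LK LD1_c1 LD2_c50 LD3_c26)) :=
  Lre_c IH (LK LD1_c3 LD2_c46 LD3_c21) (LK LD1_c1 LD2_c50 LD3_c26) Lrfl Lrfl
theorem f109546 : Led Lsl_gf (LP (LK LD1_c3 LD2_c29 LD3_c38)) = (LP (LK LD1_c1 LD2_c50 LD3_c26)) :=
  Lgr Lrot126 (Lpr_cf (K3.f97467 IH) (Lpr_bt (K3.f5815 IH) (Lpr_gt (K2.f5813 IH) (Lpr_ct (K0.f4974 IH) (Lpe (K2.f17958 IH) (Lpe (K2.f10758 IH) (Lpr_bt (K2.f10764 IH) (Lpr_gt (K3.f10765 IH) (Lpr_bf (K3.f109542 IH) (Lpr_ct (f109060 IH) (Lpn (LP (LK LD1_c1 LD2_c50 LD3_c26)))))))))))))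
theorem f120503 : Led Lsl_bt (LP (LK LD1_c3 LD2_c15 LD3_c3)) = (LP (LK LD1_c1 LD2_c50 LD3_c26)) :=
  Lgr Lrot22 (Lpr_ct (f120483 IH) (Lpe (f120479 IH) (Lpe (K2.f95581 IH) (Lpr_gf (K3.f108884 IH) (Lpe (K3.f18062 IH) (Lpr_ct (K3.f11444 IH) (Lpe (K1.f18055 IH) (Lpr_cf (K2.f91220 IH) (Lpe (K3.f97543 IH) (Lpr_gf (f109546 IH) (Lpn (LP (LK LD1_c1 LD2_c50 LD3_c26)))))))))))))
theorem f120494 : Led Lsl_et (LP (LK LD1_c6 LD2_c33 LD3_c33)) = (LP (LK LD1_c3 LD2_c15 LD3_c3)) :=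
  Lre_e IH (LK LD1_c6 LD2_c33 LD3_c33) (LK LD1_c3 LD2_c15 LD3_c3) Lrfl Lrfl
theorem f120300 : Led Lsl_et (LP (LK LD1_c1 LD2_c50 LD3_c26)) = (LP (LK LD1_c3 LD2_c46 LD3_c37)) :=
  Lre_e IH (LK LD1_c1 LD2_c50 LD3_c26) (LK LD1_c3 LD2_c46 LD3_c37) Lrfl Lrfl
theorem f120507 : Led Lsl_bf (LP (LK LD1_c6 LD2_c33 LD3_c33)) = (LP (LK LD1_c3 LD2_c46 LD3_c37)) :=
  Lgr Lrot96 (Lpr_et (f120494 IH) (Lpr_bt (f120503 IH) (Lpr_et (f120300 IH) (Lpn (LP (LK LD1_c3 LD2_c46 LD3_c37))))))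
theorem f120513 : Led Lsl_dt (LP (LK LD1_c6 LD2_c33 LD3_c33)) = (LP (LK LD1_c12 LD2_c34 LD3_c6)) :=
  Lre_d IH (LK LD1_c6 LD2_c33 LD3_c33) (LK LD1_c12 LD2_c34 LD3_c6) Lrfl Lrfl
theorem f109535 : Led Lsl_dt (LP (LK LD1_c7 LD2_c34 LD3_c3)) = (LP (LK LD1_c3 LD2_c46 LD3_c37)) :=
  Lre_d IH (LK LD1_c7 LD2_c34 LD3_c3) (LK LD1_c3 LD2_c46 LD3_c37) Lrfl Lrfl
theorem f120514 : Led Lsl_bt (LP (LK LD1_c12 LD2_c34 LD3_c6)) = (LP (LK LD1_c7 LD2_c34 LD3_c3)) :=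
  Lgr Lrot95 (Lpe (f120513 IH) (Lpr_bf (f120507 IH) (Lpe (f109535 IH) (Lpn (LP (LK LD1_c7 LD2_c34 LD3_c3))))))
theorem f109548 : Led Lsl_ff (LP (LK LD1_c3 LD2_c29 LD3_c39)) = (LP (LK LD1_c1 LD2_c50 LD3_c26)) :=
  Lgr Lrot52 (Lpr_at (K3.f108995 IH) (Lpe (K3.f95330 IH) (Lpr_gf (f109546 IH) (Lpn (LP (LK LD1_c1 LD2_c50 LD3_c26))))))
theorem f120285 : Led Lsl_df (LP (LK LD1_c1 LD2_c50 LD3_c26)) = (LP (LK LD1_c3 LD2_c19 LD3_c46)) :=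
  Lgr Lrot78 (Lpe (f109548 IH) (Lpe (K3.f109002 IH) (Lpr_ft (f120252 IH) (Lpn (LP (LK LD1_c3 LD2_c19 LD3_c46))))))
theorem f109555 : Led Lsl_dt (LP (LK LD1_c3 LD2_c46 LD3_c37)) = (LP (LK LD1_c7 LD2_c34 LD3_c3)) :=
  Lre_d IH (LK LD1_c3 LD2_c46 LD3_c37) (LK LD1_c7 LD2_c34 LD3_c3) Lrfl Lrfl
theorem f120301 : Led Lsl_dt (LP (LK LD1_c12 LD2_c51 LD3_c37)) = (LP (LK LD1_c6 LD2_c43 LD3_c21)) :=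
  Lre_d IH (LK LD1_c12 LD2_c51 LD3_c37) (LK LD1_c6 LD2_c43 LD3_c21) Lrfl Lrfl
theorem f120302 : Led Lsl_et (LP (LK LD1_c7 LD2_c34 LD3_c3)) = (LP (LK LD1_c12 LD2_c51 LD3_c37)) :=
  Lgr Lrot71 (Lpe (f109555 IH) (Lpe (f120300 IH) (Lpr_df (f120285 IH) (Lpe (f120236 IH) (Lpe (f120301 IH) (Lpn (LP (LK LD1_c12 LD2_c51 LD3_c37))))))))
theorem f120216 : Led Lsl_bt (LP (LK LD1_c12 LD2_c51 LD3_c37)) = (LP (LK LD1_c6 LD2_c43 LD3_c22)) :=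
  Lre_b IH (LK LD1_c12 LD2_c51 LD3_c37) (LK LD1_c6 LD2_c43 LD3_c22) Lrfl Lrfl
theorem f120519 : Led Lsl_ef (LP (LK LD1_c12 LD2_c34 LD3_c6)) = (LP (LK LD1_c6 LD2_c43 LD3_c22)) :=
  Lgr Lrot29 (Lpr_bt (f120514 IH) (Lpr_et (f120302 IH) (Lpr_bt (f120216 IH) (Lpn (LP (LK LD1_c6 LD2_c43 LD3_c22))))))
theorem f120524 : Led Lsl_et (LP (LK LD1_c12 LD2_c34 LD3_c6)) = (LP (LK LD1_c6 LD2_c43 LD3_c22)) :=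
  Lgr Lrot87 (Lpr_ef (f120519 IH) (Lpn (LP (LK LD1_c6 LD2_c43 LD3_c22))))
theorem f120211 : Led Lsl_dt (LP (LK LD1_c9 LD2_c28 LD3_c34)) = (LP (LK LD1_c4 LD2_c47 LD3_c48)) :=
  Lre_d IH (LK LD1_c9 LD2_c28 LD3_c34) (LK LD1_c4 LD2_c47 LD3_c48) Lrfl Lrfl
theorem f103542 : Led Lsl_dt (LP (LK LD1_c3 LD2_c19 LD3_c47)) = (LP (LK LD1_c6 LD2_c43 LD3_c22)) :=
  Lre_d IH (LK LD1_c3 LD2_c19 LD3_c47) (LK LD1_c6 LD2_c43 LD3_c22) Lrfl Lrfl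
theorem f120212 : Led Lsl_af (LP (LK LD1_c9 LD2_c28 LD3_c34)) = (LP (LK LD1_c6 LD2_c43 LD3_c22)) :=
  Lgr Lrot117 (Lpr_dt (f120211 IH) (Lpr_at (f120207 IH) (Lpr_dt (f103542 IH) (Lpn (LP (LK LD1_c6 LD2_c43 LD3_c22))))))
theorem f89827 : Led Lsl_dt (LP (LK LD1_c4 LD2_c47 LD3_c48)) = (LP (LK LD1_c9 LD2_c28 LD3_c34)) :=
  Lre_d IH (LK LD1_c4 LD2_c47 LD3_c48) (LK LD1_c9 LD2_c28 LD3_c34) Lrfl Lrfl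
theorem f120358 : Led Lsl_et (LP (LK LD1_c3 LD2_c29 LD3_c24)) = (LP (LK LD1_c1 LD2_c41 LD3_c26)) :=
  Lre_e IH (LK LD1_c3 LD2_c29 LD3_c24) (LK LD1_c1 LD2_c41 LD3_c26) Lrfl Lrfl
theorem f120363 : Led Lsl_dt (LP (LK LD1_c7 LD2_c0 LD3_c26)) = (LP (LK LD1_c3 LD2_c29 LD3_c24)) :=
  Lre_d IH (LK LD1_c7 LD2_c0 LD3_c26) (LK LD1_c3 LD2_c29 LD3_c24) Lrfl Lrfl
theorem f120364 : Led Lsl_et (LP (LK LD1_c9 LD2_c28 LD3_c34)) = (LP (LK LD1_c7 LD2_c0 LD3_c26)) :=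
  Lgr Lrot71 (Lpe (f89827 IH) (Lpe (f109967 IH) (Lpr_df (f120361 IH) (Lpe (f120358 IH) (Lpe (f120363 IH) (Lpn (LP (LK LD1_c7 LD2_c0 LD3_c26))))))))
theorem f120526 : Led Lsl_af (LP (LK LD1_c12 LD2_c34 LD3_c6)) = (LP (LK LD1_c7 LD2_c0 LD3_c26)) :=
  Lgr Lrot50 (Lpr_et (f120524 IH) (Lpe (f120212 IH) (Lpr_et (f120364 IH) (Lpn (LP (LK LD1_c7 LD2_c0 LD3_c26))))))
theorem f120317 : Led Lsl_at (LP (LK LD1_c7 LD2_c34 LD3_c3)) = (LP (LK LD1_c3 LD2_c46 LD3_c44)) :=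
  Lre_a IH (LK LD1_c7 LD2_c34 LD3_c3) (LK LD1_c3 LD2_c46 LD3_c44) Lrfl Lrfl
theorem f120516 : Led Lsl_bt (LP (LK LD1_c3 LD2_c46 LD3_c44)) = (LP (LK LD1_c1 LD2_c50 LD3_c32)) :=
  Lre_b IH (LK LD1_c3 LD2_c46 LD3_c44) (LK LD1_c1 LD2_c50 LD3_c32) Lrfl Lrfl
theorem f120531 : Led Lsl_bt (LP (LK LD1_c3 LD2_c29 LD3_c29)) = (LP (LK LD1_c7 LD2_c0 LD3_c26)) :=
  Lre_b IH (LK LD1_c3 LD2_c29 LD3_c29) (LK LD1_c7 LD2_c0 LD3_c26) Lrfl Lrfl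
theorem f120532 : Led Lsl_at (LP (LK LD1_c1 LD2_c50 LD3_c32)) = (LP (LK LD1_c3 LD2_c29 LD3_c29)) :=
  Lgr Lrot67 (Lpe (f120516 IH) (Lpe (f120317 IH) (Lpe (f120514 IH) (Lpr_af (f120526 IH) (Lpe (f120531 IH) (Lpn (LP (LK LD1_c3 LD2_c29 LD3_c29))))))))
theorem f120582 : Led Lsl_et (LP (LK LD1_c3 LD2_c46 LD3_c47)) = (LP (LK LD1_c1 LD2_c50 LD3_c32)) :=
  Lre_e IH (LK LD1_c3 LD2_c46 LD3_c47) (LK LD1_c1 LD2_c50 LD3_c32) Lrfl Lrfl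
theorem f120583 : Led Lsl_et (LP (LK LD1_c3 LD2_c29 LD3_c29)) = (LP (LK LD1_c7 LD2_c0 LD3_c33)) :=
  Lre_e IH (LK LD1_c3 LD2_c29 LD3_c29) (LK LD1_c7 LD2_c0 LD3_c33) Lrfl Lrfl
theorem f120584 : Led Lsl_af (LP (LK LD1_c3 LD2_c46 LD3_c47)) = (LP (LK LD1_c7 LD2_c0 LD3_c33)) :=
  Lgr Lrot50 (Lpr_et (f120582 IH) (Lpr_at (f120532 IH) (Lpr_et (f120583 IH) (Lpn (LP (LK LD1_c7 LD2_c0 LD3_c33))))))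
theorem f120343 : Led Lsl_bt (LP (LK LD1_c3 LD2_c46 LD3_c47)) = (LP (LK LD1_c7 LD2_c34 LD3_c11)) :=
  Lre_b IH (LK LD1_c3 LD2_c46 LD3_c47) (LK LD1_c7 LD2_c34 LD3_c11) Lrfl Lrfl
theorem f120312 : Led Lsl_ef (LP (LK LD1_c7 LD2_c34 LD3_c3)) = (LP (LK LD1_c12 LD2_c51 LD3_c37)) :=
  Lgr Lrot88 (Lpr_et (f120302 IH) (Lpn (LP (LK LD1_c12 LD2_c51 LD3_c37))))
theorem f120318 : Led Lsl_et (LP (LK LD1_c3 LD2_c46 LD3_c44)) = (LP (LK LD1_c7 LD2_c34 LD3_c11)) :=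
  Lre_e IH (LK LD1_c3 LD2_c46 LD3_c44) (LK LD1_c7 LD2_c34 LD3_c11) Lrfl Lrfl
theorem f120319 : Led Lsl_at (LP (LK LD1_c7 LD2_c34 LD3_c11)) = (LP (LK LD1_c12 LD2_c51 LD3_c37)) :=
  Lgr Lrot80 (Lpe (f120318 IH) (Lpe (f120317 IH) (Lpr_ef (f120312 IH) (Lpn (LP (LK LD1_c12 LD2_c51 LD3_c37))))))
theorem f120586 : Led Lsl_bt (LP (LK LD1_c9 LD2_c28 LD3_c34)) = (LP (LK LD1_c7 LD2_c0 LD3_c33)) :=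
  Lgr Lrot62 (Lpr_af (f120212 IH) (Lpe (f120216 IH) (Lpe (f120319 IH) (Lpe (f120343 IH) (Lpr_af (f120584 IH) (Lpn (LP (LK LD1_c7 LD2_c0 LD3_c33))))))))
theorem f87856 : Led Lsl_dt (LP (LK LD1_c7 LD2_c0 LD3_c33)) = (LP (LK LD1_c3 LD2_c29 LD3_c27)) :=
  Lre_d IH (LK LD1_c7 LD2_c0 LD3_c33) (LK LD1_c3 LD2_c29 LD3_c27) Lrfl Lrfl
theorem f120591 : Led Lsl_bf (LP (LK LD1_c4 LD2_c47 LD3_c48)) = (LP (LK LD1_c3 LD2_c29 LD3_c27)) :=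
  Lgr Lrot93 (Lpr_dt (f89827 IH) (Lpr_bt (f120586 IH) (Lpr_dt (f87856 IH) (Lpn (LP (LK LD1_c3 LD2_c29 LD3_c27))))))
theorem f120149 : Led Lsl_ct (LP (LK LD1_c2 LD2_c19 LD3_c12)) = (LP (LK LD1_c4 LD2_c43 LD3_c6)) :=
  Lre_c IH (LK LD1_c2 LD2_c19 LD3_c12) (LK LD1_c4 LD2_c43 LD3_c6) Lrfl Lrfl
theorem f120133 : Led Lsl_bt (LP (LK LD1_c4 LD2_c43 LD3_c5)) = (LP (LK LD1_c2 LD2_c19 LD3_c12)) :=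
  Lre_b IH (LK LD1_c4 LD2_c43 LD3_c5) (LK LD1_c2 LD2_c19 LD3_c12) Lrfl Lrfl
theorem f120603 : Led Lsl_ct (LP (LK LD1_c4 LD2_c47 LD3_c48)) = (LP (LK LD1_c4 LD2_c43 LD3_c5)) :=
  Lgr Lrot83 (Lpr_bf (f120591 IH) (Lpr_cf (K3.f87854 IH) (Lpe (f120144 IH) (Lpe (f120149 IH) (Lpe (f120133 IH) (Lpn (LP (LK LD1_c4 LD2_c43 LD3_c5))))))))
theorem f120607 : Led Lsl_cf (LP (LK LD1_c4 LD2_c47 LD3_c48)) = (LP (LK LD1_c4 LD2_c43 LD3_c5)) :=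
  Lgr Lrot11 (Lpr_ct (f120603 IH) (Lpn (LP (LK LD1_c4 LD2_c43 LD3_c5))))
theorem f93222 : Led Lsl_et (LP (LK LD1_c1 LD2_c33 LD3_c49)) = (LP (LK LD1_c3 LD2_c14 LD3_c35)) :=
  Lre_e IH (LK LD1_c1 LD2_c33 LD3_c49) (LK LD1_c3 LD2_c14 LD3_c35) Lrfl Lrfl
theorem f103532 : Led Lsl_ct (LP (LK LD1_c3 LD2_c14 LD3_c35)) = (LP (LK LD1_c3 LD2_c19 LD3_c47)) :=
  Lgr Lrot15 (Lpe (f93222 IH) (Lpr_cf (f103521 IH) (Lpe (f103531 IH) (Lpn (LP (LK LD1_c3 LD2_c19 LD3_c47))))))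
theorem f103540 : Led Lsl_cf (LP (LK LD1_c3 LD2_c14 LD3_c35)) = (LP (LK LD1_c3 LD2_c19 LD3_c47)) :=
  Lgr Lrot11 (Lpr_ct (f103532 IH) (Lpn (LP (LK LD1_c3 LD2_c19 LD3_c47))))
theorem f120610 : Led Lsl_at (LP (LK LD1_c3 LD2_c14 LD3_c35)) = (LP (LK LD1_c4 LD2_c43 LD3_c5)) :=
  Lgr Lrot107 (Lpr_cf (f103540 IH) (Lpe (f120207 IH) (Lpr_cf (f120607 IH) (Lpn (LP (LK LD1_c4 LD2_c43 LD3_c5))))))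
theorem f120134 : Led Lsl_bt (LP (LK LD1_c1 LD2_c30 LD3_c2)) = (LP (LK LD1_c3 LD2_c7 LD3_c33)) :=
  Lre_b IH (LK LD1_c1 LD2_c30 LD3_c2) (LK LD1_c3 LD2_c7 LD3_c33) Lrfl Lrfl
theorem f120135 : Led Lsl_at (LP (LK LD1_c3 LD2_c7 LD3_c33)) = (LP (LK LD1_c6 LD2_c19 LD3_c56)) :=
  Lre_a IH (LK LD1_c3 LD2_c7 LD3_c33) (LK LD1_c6 LD2_c19 LD3_c56) Lrfl Lrfl
theorem f120613 : Led Lsl_bf (LP (LK LD1_c3 LD2_c14 LD3_c35)) = (LP (LK LD1_c6 LD2_c19 LD3_c56)) :=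
  Lgr Lrot81 (Lpr_at (f120610 IH) (Lpr_bt (f120133 IH) (Lpr_at (f120129 IH) (Lpr_bt (f120134 IH) (Lpr_at (f120135 IH) (Lpn (LP (LK LD1_c6 LD2_c19 LD3_c56))))))))
theorem f103552 : Led Lsl_et (LP (LK LD1_c3 LD2_c14 LD3_c35)) = (LP (LK LD1_c1 LD2_c33 LD3_c49)) :=
  Lre_e IH (LK LD1_c3 LD2_c14 LD3_c35) (LK LD1_c1 LD2_c33 LD3_c49) Lrfl Lrfl
theorem f91480 : Led Lsl_et (LP (LK LD1_c3 LD2_c7 LD3_c31)) = (LP (LK LD1_c6 LD2_c19 LD3_c56)) :=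
  Lre_e IH (LK LD1_c3 LD2_c7 LD3_c31) (LK LD1_c6 LD2_c19 LD3_c56) Lrfl Lrfl
theorem f120620 : Led Lsl_bt (LP (LK LD1_c1 LD2_c33 LD3_c49)) = (LP (LK LD1_c3 LD2_c7 LD3_c31)) :=
  Lgr Lrot119 (Lpe (f103552 IH) (Lpr_bf (f120613 IH) (Lpe (f91480 IH) (Lpn (LP (LK LD1_c3 LD2_c7 LD3_c31))))))
theorem f103009 : Led Lsl_bt (LP (LK LD1_c2 LD2_c20 LD3_c54)) = (LP (LK LD1_c4 LD2_c45 LD3_c36)) :=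
  Lre_b IH (LK LD1_c2 LD2_c20 LD3_c54) (LK LD1_c4 LD2_c45 LD3_c36) Lrfl Lrfl
theorem f120622 : Led Lsl_cf (LP (LK LD1_c3 LD2_c19 LD3_c46)) = (LP (LK LD1_c4 LD2_c45 LD3_c36)) :=
  Lgr Lrot97 (Lpr_bt (f57259 IH) (Lpe (f103521 IH) (Lpr_bt (f120620 IH) (Lpr_ct (K3.f107509 IH) (Lpr_bt (f103009 IH) (Lpn (LP (LK LD1_c4 LD2_c45 LD3_c36))))))))
theorem f120288 : Led Lsl_ff (LP (LK LD1_c4 LD2_c47 LD3_c47)) = (LP (LK LD1_c3 LD2_c19 LD3_c46)) :=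
  Lgr Lrot3 (Lpr_ft (f120252 IH) (Lpn (LP (LK LD1_c3 LD2_c19 LD3_c46))))
theorem f120628 : Led Lsl_ft (LP (LK LD1_c9 LD2_c21 LD3_c55)) = (LP (LK LD1_c4 LD2_c45 LD3_c36)) :=
  Lgr Lrot4 (Lpr_cf (K3.f78101 IH) (Lpr_ff (f120288 IH) (Lpr_cf (f120622 IH) (Lpn (LP (LK LD1_c4 LD2_c45 LD3_c36))))))
theorem f120646 : Led Lsl_af (LP (LK LD1_c3 LD2_c46 LD3_c40)) = (LP (LK LD1_c4 LD2_c45 LD3_c36)) :=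
  Lgr Lrot31 (Lpe (K3.f109909 IH) (Lpr_gf (K3.f103171 IH) (Lpr_ft (f120628 IH) (Lpn (LP (LK LD1_c4 LD2_c45 LD3_c36))))))
theorem f120650 : Led Lsl_et (LP (LK LD1_c3 LD2_c46 LD3_c40)) = (LP (LK LD1_c7 LD2_c34 LD3_c8)) :=
  Lre_e IH (LK LD1_c3 LD2_c46 LD3_c40) (LK LD1_c7 LD2_c34 LD3_c8) Lrfl Lrfl
theorem f103043 : Led Lsl_et (LP (LK LD1_c9 LD2_c23 LD3_c54)) = (LP (LK LD1_c4 LD2_c45 LD3_c36)) :=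
  Lre_e IH (LK LD1_c9 LD2_c23 LD3_c54) (LK LD1_c4 LD2_c45 LD3_c36) Lrfl Lrfl
theorem f120651 : Led Lsl_at (LP (LK LD1_c7 LD2_c34 LD3_c8)) = (LP (LK LD1_c9 LD2_c23 LD3_c54)) :=
  Lgr Lrot80 (Lpe (f120650 IH) (Lpr_af (f120646 IH) (Lpe (f103043 IH) (Lpn (LP (LK LD1_c9 LD2_c23 LD3_c54))))))
theorem f120655 : Led Lsl_ct (LP (LK LD1_c3 LD2_c46 LD3_c41)) = (LP (LK LD1_c7 LD2_c34 LD3_c8)) :=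
  Lre_c IH (LK LD1_c3 LD2_c46 LD3_c41) (LK LD1_c7 LD2_c34 LD3_c8) Lrfl Lrfl
theorem f120228 : Led Lsl_af (LP (LK LD1_c3 LD2_c46 LD3_c41)) = (LP (LK LD1_c6 LD2_c43 LD3_c21)) :=
  Lgr Lrot0 (Lpr_at (f120226 IH) (Lpn (LP (LK LD1_c6 LD2_c43 LD3_c21))))
theorem f120656 : Led Lsl_cf (LP (LK LD1_c6 LD2_c43 LD3_c21)) = (LP (LK LD1_c9 LD2_c23 LD3_c54)) :=
  Lgr Lrot1 (Lpe (f120228 IH) (Lpr_ct (f120655 IH) (Lpr_at (f120651 IH) (Lpn (LP (LK LD1_c9 LD2_c23 LD3_c54))))))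
theorem f120615 : Led Lsl_bt (LP (LK LD1_c3 LD2_c14 LD3_c35)) = (LP (LK LD1_c6 LD2_c19 LD3_c56)) :=
  Lgr Lrot127 (Lpr_bf (f120613 IH) (Lpn (LP (LK LD1_c6 LD2_c19 LD3_c56))))
theorem f120676 : Led Lsl_bt (LP (LK LD1_c4 LD2_c45 LD3_c37)) = (LP (LK LD1_c9 LD2_c23 LD3_c54)) :=
  Lre_b IH (LK LD1_c4 LD2_c45 LD3_c37) (LK LD1_c9 LD2_c23 LD3_c54) Lrfl Lrfl
theorem f120677 : Led Lsl_ct (LP (LK LD1_c6 LD2_c19 LD3_c56)) = (LP (LK LD1_c4 LD2_c45 LD3_c37)) :=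
  Lgr Lrot83 (Lpe (f120615 IH) (Lpr_cf (f103540 IH) (Lpe (f103551 IH) (Lpr_cf (f120656 IH) (Lpe (f120676 IH) (Lpn (LP (LK LD1_c4 LD2_c45 LD3_c37))))))))
theorem f120680 : Led Lsl_ct (LP (LK LD1_c6 LD2_c19 LD3_c59)) = (LP (LK LD1_c3 LD2_c7 LD3_c33)) :=
  Lre_c IH (LK LD1_c6 LD2_c19 LD3_c59) (LK LD1_c3 LD2_c7 LD3_c33) Lrfl Lrfl
theorem f120681 : Led Lsl_af (LP (LK LD1_c6 LD2_c19 LD3_c59)) = (LP (LK LD1_c4 LD2_c45 LD3_c37)) :=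
  Lgr Lrot68 (Lpr_ct (f120680 IH) (Lpr_at (f120135 IH) (Lpr_ct (f120677 IH) (Lpn (LP (LK LD1_c4 LD2_c45 LD3_c37))))))
theorem f61905 : Led Lsl_dt (LP (LK LD1_c6 LD2_c19 LD3_c59)) = (LP (LK LD1_c12 LD2_c14 LD3_c42)) :=
  Lre_d IH (LK LD1_c6 LD2_c19 LD3_c59) (LK LD1_c12 LD2_c14 LD3_c42) Lrfl Lrfl
theorem f103031 : Led Lsl_dt (LP (LK LD1_c9 LD2_c23 LD3_c55)) = (LP (LK LD1_c4 LD2_c45 LD3_c37)) :=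
  Lre_d IH (LK LD1_c9 LD2_c23 LD3_c55) (LK LD1_c4 LD2_c45 LD3_c37) Lrfl Lrfl
theorem f120687 : Led Lsl_at (LP (LK LD1_c12 LD2_c14 LD3_c42)) = (LP (LK LD1_c9 LD2_c23 LD3_c55)) :=
  Lgr Lrot51 (Lpe (f61905 IH) (Lpr_af (f120681 IH) (Lpe (f103031 IH) (Lpn (LP (LK LD1_c9 LD2_c23 LD3_c55))))))
theorem f120693 : Led Lsl_et (LP (LK LD1_c21 LD2_c20 LD3_c32)) = (LP (LK LD1_c12 LD2_c14 LD3_c42)) :=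
  Lre_e IH (LK LD1_c21 LD2_c20 LD3_c32) (LK LD1_c12 LD2_c14 LD3_c42) Lrfl Lrfl
theorem f103012 : Led Lsl_et (LP (LK LD1_c2 LD2_c20 LD3_c54)) = (LP (LK LD1_c4 LD2_c45 LD3_c37)) :=
  Lre_e IH (LK LD1_c2 LD2_c20 LD3_c54) (LK LD1_c4 LD2_c45 LD3_c37) Lrfl Lrfl
theorem f103013 : Led Lsl_dt (LP (LK LD1_c4 LD2_c45 LD3_c37)) = (LP (LK LD1_c9 LD2_c23 LD3_c55)) :=
  Lre_d IH (LK LD1_c4 LD2_c45 LD3_c37) (LK LD1_c9 LD2_c23 LD3_c55) Lrfl Lrfl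
theorem f103014 : Led Lsl_et (LP (LK LD1_c9 LD2_c22 LD3_c22)) = (LP (LK LD1_c4 LD2_c44 LD3_c52)) :=
  Lre_e IH (LK LD1_c9 LD2_c22 LD3_c22) (LK LD1_c4 LD2_c44 LD3_c52) Lrfl Lrfl
theorem f103015 : Led Lsl_dt (LP (LK LD1_c17 LD2_c18 LD3_c50)) = (LP (LK LD1_c9 LD2_c22 LD3_c22)) :=
  Lre_d IH (LK LD1_c17 LD2_c18 LD3_c50) (LK LD1_c9 LD2_c22 LD3_c22) Lrfl Lrfl
theorem f103016 : Led Lsl_et (LP (LK LD1_c9 LD2_c23 LD3_c55)) = (LP (LK LD1_c17 LD2_c18 LD3_c50)) :=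
  Lgr Lrot71 (Lpe (f103013 IH) (Lpe (f103012 IH) (Lpr_df (K3.f103005 IH) (Lpe (f103014 IH) (Lpe (f103015 IH) (Lpn (LP (LK LD1_c17 LD2_c18 LD3_c50))))))))
theorem f120694 : Led Lsl_af (LP (LK LD1_c21 LD2_c20 LD3_c32)) = (LP (LK LD1_c17 LD2_c18 LD3_c50)) :=
  Lgr Lrot50 (Lpr_et (f120693 IH) (Lpr_at (f120687 IH) (Lpr_et (f103016 IH) (Lpn (LP (LK LD1_c17 LD2_c18 LD3_c50))))))
theorem f120698 : Led Lsl_dt (LP (LK LD1_c21 LD2_c20 LD3_c32)) = (LP (LK LD1_c12 LD2_c14 LD3_c41)) :=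
  Lre_d IH (LK LD1_c21 LD2_c20 LD3_c32) (LK LD1_c12 LD2_c14 LD3_c41) Lrfl Lrfl
theorem f103022 : Led Lsl_dt (LP (LK LD1_c9 LD2_c22 LD3_c22)) = (LP (LK LD1_c17 LD2_c18 LD3_c50)) :=
  Lre_d IH (LK LD1_c9 LD2_c22 LD3_c22) (LK LD1_c17 LD2_c18 LD3_c50) Lrfl Lrfl
theorem f120699 : Led Lsl_at (LP (LK LD1_c12 LD2_c14 LD3_c41)) = (LP (LK LD1_c9 LD2_c22 LD3_c22)) :=
  Lgr Lrot51 (Lpe (f120698 IH) (Lpr_af (f120694 IH) (Lpe (f103022 IH) (Lpn (LP (LK LD1_c9 LD2_c22 LD3_c22))))))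
theorem f61902 : Led Lsl_et (LP (LK LD1_c6 LD2_c19 LD3_c58)) = (LP (LK LD1_c12 LD2_c14 LD3_c41)) :=
  Lre_e IH (LK LD1_c6 LD2_c19 LD3_c58) (LK LD1_c12 LD2_c14 LD3_c41) Lrfl Lrfl
theorem f120705 : Led Lsl_af (LP (LK LD1_c6 LD2_c19 LD3_c58)) = (LP (LK LD1_c4 LD2_c44 LD3_c52)) :=
  Lgr Lrot50 (Lpr_et (f61902 IH) (Lpr_at (f120699 IH) (Lpr_et (f103014 IH) (Lpn (LP (LK LD1_c4 LD2_c44 LD3_c52))))))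
theorem f120722 : Led Lsl_ft (LP (LK LD1_c9 LD2_c16 LD3_c12)) = (LP (LK LD1_c4 LD2_c44 LD3_c52)) :=
  Lgr Lrot2 (Lpr_gt (K3.f94803 IH) (Lpe (K3.f103239 IH) (Lpr_af (f120705 IH) (Lpn (LP (LK LD1_c4 LD2_c44 LD3_c52))))))
theorem f120726 : Led Lsl_ff (LP (LK LD1_c9 LD2_c16 LD3_c12)) = (LP (LK LD1_c4 LD2_c44 LD3_c52)) :=
  Lgr Lrot3 (Lpr_ft (f120722 IH) (Lpn (LP (LK LD1_c4 LD2_c44 LD3_c52))))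
theorem f120730 : Led Lsl_at (LP (LK LD1_c9 LD2_c16 LD3_c12)) = (LP (LK LD1_c4 LD2_c44 LD3_c51)) :=
  Lgr Lrot26 (Lpr_ff (f120726 IH) (Lpr_gt (K3.f103002 IH) (Lpr_gt (K3.f102963 IH) (Lpn (LP (LK LD1_c4 LD2_c44 LD3_c51))))))
theorem f120718 : Led Lsl_at (LP (LK LD1_c6 LD2_c19 LD3_c58)) = (LP (LK LD1_c4 LD2_c44 LD3_c52)) :=
  Lgr Lrot100 (Lpr_af (f120705 IH) (Lpn (LP (LK LD1_c4 LD2_c44 LD3_c52))))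
theorem f120736 : Led Lsl_ff (LP (LK LD1_c6 LD2_c19 LD3_c58)) = (LP (LK LD1_c4 LD2_c44 LD3_c51)) :=
  Lgr Lrot30 (Lpr_at (f120718 IH) (Lpe (f120726 IH) (Lpr_at (f120730 IH) (Lpn (LP (LK LD1_c4 LD2_c44 LD3_c51))))))
theorem f120740 : Led Lsl_ft (LP (LK LD1_c3 LD2_c7 LD3_c32)) = (LP (LK LD1_c2 LD2_c20 LD3_c53)) :=
  Lgr Lrot54 (Lpe (K3.f61901 IH) (Lpr_ff (f120736 IH) (Lpe (K3.f102967 IH) (Lpn (LP (LK LD1_c2 LD2_c20 LD3_c53))))))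
theorem f120754 : Led Lsl_ff (LP (LK LD1_c3 LD2_c7 LD3_c32)) = (LP (LK LD1_c2 LD2_c20 LD3_c53)) :=
  Lgr Lrot3 (Lpr_ft (f120740 IH) (Lpn (LP (LK LD1_c2 LD2_c20 LD3_c53))))
theorem f82403 : Led Lsl_bt (LP (LK LD1_c2 LD2_c19 LD3_c13)) = (LP (LK LD1_c1 LD2_c6 LD3_c45)) :=
  Lre_b IH (LK LD1_c2 LD2_c19 LD3_c13) (LK LD1_c1 LD2_c6 LD3_c45) Lrfl Lrfl
theorem f91478 : Led Lsl_bt (LP (LK LD1_c0 LD2_c41 LD3_c37)) = (LP (LK LD1_c1 LD2_c30 LD3_c0)) :=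
  Lre_b IH (LK LD1_c0 LD2_c41 LD3_c37) (LK LD1_c1 LD2_c30 LD3_c0) Lrfl Lrfl
theorem f120109 : Led Lsl_ff (LP (LK LD1_c2 LD2_c19 LD3_c13)) = (LP (LK LD1_c1 LD2_c30 LD3_c0)) :=
  Lgr Lrot25 (Lpr_bt (f82403 IH) (Lpr_ft (f120103 IH) (Lpr_bt (f91478 IH) (Lpn (LP (LK LD1_c1 LD2_c30 LD3_c0))))))
theorem f120761 : Led Lsl_ct (LP (LK LD1_c2 LD2_c19 LD3_c13)) = (LP (LK LD1_c2 LD2_c20 LD3_c53)) :=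
  Lgr Lrot40 (Lpr_ff (f120109 IH) (Lpe (K3.f61892 IH) (Lpr_ff (f120754 IH) (Lpn (LP (LK LD1_c2 LD2_c20 LD3_c53))))))
theorem f110354 : Led Lsl_gf (LP (LK LD1_c3 LD2_c7 LD3_c31)) = (LP (LK LD1_c3 LD2_c5 LD3_c48)) :=
  Lgr Lrot148 (Lpe (K3.f91467 IH) (Lpr_gt (K3.f107527 IH) (Lpr_dt (f102296 IH) (Lpr_ct (f110341 IH) (Lpe (f58239 IH) (Lpe (f102023 IH) (Lpe (K0.f13695 IH) (Lpe (K3.f13718 IH) (Lpr_ct (f102118 IH) (Lpn (LP (LK LD1_c3 LD2_c5 LD3_c48))))))))))))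
theorem f107552 : Led Lsl_ct (LP (LK LD1_c1 LD2_c32 LD3_c30)) = (LP (LK LD1_c0 LD2_c42 LD3_c51)) :=
  Lgr Lrot59 (Lpr_cf (K3.f107535 IH) (Lpn (LP (LK LD1_c0 LD2_c42 LD3_c51))))
theorem f110357 : Led Lsl_gf (LP (LK LD1_c1 LD2_c5 LD3_c33)) = (LP (LK LD1_c2 LD2_c17 LD3_c7)) :=
  Lgr Lrot144 (Lpr_dt (K2.f77801 IH) (Lpe (K3.f98881 IH) (Lpe (K3.f91469 IH) (Lpe (f107552 IH) (Lpr_df (K3.f91467 IH) (Lpr_gf (f110354 IH) (Lpe (f58753 IH) (Lpr_gf (K3.f99148 IH) (Lpe (K3.f61643 IH) (Lpn (LP (LK LD1_c2 LD2_c17 LD3_c7))))))))))))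
theorem f120776 : Led Lsl_gf (LP (LK LD1_c2 LD2_c19 LD3_c13)) = (LP (LK LD1_c3 LD2_c5 LD3_c50)) :=
  Lgr Lrot147 (Lpr_ct (f120761 IH) (Lpe (K3.f102969 IH) (Lpr_ct (K3.f77992 IH) (Lpr_df (K3.f77994 IH) (Lpe (K2.f13668 IH) (Lpr_gf (f110357 IH) (Lpr_cf (K3.f61639 IH) (Lpe (f113335 IH) (Lpe (f58191 IH) (Lpn (LP (LK LD1_c3 LD2_c5 LD3_c50))))))))))))
theorem f99201 : Led Lsl_bt (LP (LK LD1_c1 LD2_c37 LD3_c34)) = (LP (LK LD1_c3 LD2_c5 LD3_c50)) :=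
  Lgr Lrot127 (Lpr_bf (f99199 IH) (Lpn (LP (LK LD1_c3 LD2_c5 LD3_c50))))
theorem f120779 : Led Lsl_gf (LP (LK LD1_c2 LD2_c19 LD3_c46)) = (LP (LK LD1_c1 LD2_c7 LD3_c49)) :=
  Lgr Lrot124 (Lpr_bf (K2.f23559 IH) (Lpr_ct (f23570 IH) (Lpr_gt (f114906 IH) (Lpe (f56678 IH) (Lpr_bt (f99201 IH) (Lpe (f120776 IH) (Lpr_ct (f120761 IH) (Lpe (K3.f102969 IH) (Lpe (K3.f62319 IH) (Lpr_bt (K3.f79565 IH) (Lpn (LP (LK LD1_c1 LD2_c7 LD3_c49)))))))))))))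
theorem f113366 : Led Lsl_at (LP (LK LD1_c2 LD2_c20 LD3_c39)) = (LP (LK LD1_c3 LD2_c24 LD3_c18)) :=
  Lgr Lrot66 (Lpr_ff (f113364 IH) (Lpe (K3.f79611 IH) (Lpe (K3.f109991 IH) (Lpn (LP (LK LD1_c3 LD2_c24 LD3_c18))))))
theorem f120783 : Led Lsl_gt (LP (LK LD1_c2 LD2_c19 LD3_c46)) = (LP (LK LD1_c3 LD2_c24 LD3_c18)) :=
  Lgr Lrot46 (Lpr_gf (f120779 IH) (Lpe (f113364 IH) (Lpr_at (f113366 IH) (Lpn (LP (LK LD1_c3 LD2_c24 LD3_c18))))))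
theorem f23452 : Led Lsl_dt (LP (LK LD1_c1 LD2_c7 LD3_c3)) = (LP (LK LD1_c2 LD2_c19 LD3_c46)) :=
  Lre_d IH (LK LD1_c1 LD2_c7 LD3_c3) (LK LD1_c2 LD2_c19 LD3_c46) Lrfl Lrfl
theorem f26109 : Led Lsl_dt (LP (LK LD1_c0 LD2_c51 LD3_c1)) = (LP (LK LD1_c1 LD2_c48 LD3_c31)) :=
  Lre_d IH (LK LD1_c0 LD2_c51 LD3_c1) (LK LD1_c1 LD2_c48 LD3_c31) Lrfl Lrfl
theorem f118449 : Led Lsl_ft (LP (LK LD1_c12 LD2_c36 LD3_c44)) = (LP (LK LD1_c21 LD2_c42 LD3_c58)) :=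
  Lre_f IH (LK LD1_c12 LD2_c36 LD3_c44) (LK LD1_c21 LD2_c42 LD3_c58) Lrfl Lrfl
theorem f118450 : Led Lsl_at (LP (LK LD1_c21 LD2_c42 LD3_c58)) = (LP (LK LD1_c12 LD2_c40 LD3_c5)) :=
  Lgr Lrot66 (Lpe (f118449 IH) (Lpr_af (f118432 IH) (Lpe (f118431 IH) (Lpn (LP (LK LD1_c12 LD2_c40 LD3_c5))))))
theorem f118460 : Led Lsl_ct (LP (LK LD1_c12 LD2_c36 LD3_c45)) = (LP (LK LD1_c21 LD2_c42 LD3_c58)) :=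
  Lre_c IH (LK LD1_c12 LD2_c36 LD3_c45) (LK LD1_c21 LD2_c42 LD3_c58) Lrfl Lrfl
theorem f118455 : Led Lsl_ct (LP (LK LD1_c12 LD2_c40 LD3_c5)) = (LP (LK LD1_c6 LD2_c37 LD3_c6)) :=
  Lre_c IH (LK LD1_c12 LD2_c40 LD3_c5) (LK LD1_c6 LD2_c37 LD3_c6) Lrfl Lrfl
theorem f118461 : Led Lsl_af (LP (LK LD1_c12 LD2_c36 LD3_c45)) = (LP (LK LD1_c6 LD2_c37 LD3_c6)) :=
  Lgr Lrot68 (Lpr_ct (f118460 IH) (Lpr_at (f118450 IH) (Lpr_ct (f118455 IH) (Lpn (LP (LK LD1_c6 LD2_c37 LD3_c6))))))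
theorem f118480 : Led Lsl_ct (LP (LK LD1_c21 LD2_c42 LD3_c58)) = (LP (LK LD1_c12 LD2_c36 LD3_c45)) :=
  Lre_c IH (LK LD1_c21 LD2_c42 LD3_c58) (LK LD1_c12 LD2_c36 LD3_c45) Lrfl Lrfl
theorem f118476 : Led Lsl_ft (LP (LK LD1_c3 LD2_c16 LD3_c51)) = (LP (LK LD1_c6 LD2_c37 LD3_c6)) :=
  Lre_f IH (LK LD1_c3 LD2_c16 LD3_c51) (LK LD1_c6 LD2_c37 LD3_c6) Lrfl Lrfl
theorem f118394 : Led Lsl_dt (LP (LK LD1_c3 LD2_c16 LD3_c51)) = (LP (LK LD1_c1 LD2_c35 LD3_c3)) :=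
  Lre_d IH (LK LD1_c3 LD2_c16 LD3_c51) (LK LD1_c1 LD2_c35 LD3_c3) Lrfl Lrfl
theorem f118481 : Led Lsl_ct (LP (LK LD1_c1 LD2_c35 LD3_c3)) = (LP (LK LD1_c0 LD2_c44 LD3_c13)) :=
  Lre_c IH (LK LD1_c1 LD2_c35 LD3_c3) (LK LD1_c0 LD2_c44 LD3_c13) Lrfl Lrfl
theorem f64469 : Led Lsl_dt (LP (LK LD1_c0 LD2_c44 LD3_c13)) = (LP (LK LD1_c1 LD2_c35 LD3_c6)) :=
  Lre_d IH (LK LD1_c0 LD2_c44 LD3_c13) (LK LD1_c1 LD2_c35 LD3_c6) Lrfl Lrfl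
theorem f78950 : Led Lsl_ct (LP (LK LD1_c1 LD2_c35 LD3_c6)) = (LP (LK LD1_c3 LD2_c16 LD3_c60)) :=
  Lre_c IH (LK LD1_c1 LD2_c35 LD3_c6) (LK LD1_c3 LD2_c16 LD3_c60) Lrfl Lrfl
theorem f78892 : Led Lsl_dt (LP (LK LD1_c3 LD2_c16 LD3_c60)) = (LP (LK LD1_c6 LD2_c37 LD3_c21)) :=
  Lre_d IH (LK LD1_c3 LD2_c16 LD3_c60) (LK LD1_c6 LD2_c37 LD3_c21) Lrfl Lrfl
theorem f118482 : Led Lsl_ct (LP (LK LD1_c6 LD2_c37 LD3_c21)) = (LP (LK LD1_c12 LD2_c40 LD3_c34)) :=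
  Lre_c IH (LK LD1_c6 LD2_c37 LD3_c21) (LK LD1_c12 LD2_c40 LD3_c34) Lrfl Lrfl
theorem f118483 : Led Lsl_df (LP (LK LD1_c21 LD2_c42 LD3_c58)) = (LP (LK LD1_c12 LD2_c40 LD3_c34)) :=
  Lgr Lrot177 (Lpr_ct (f118480 IH) (Lpr_af (f118461 IH) (Lpe (f118476 IH) (Lpr_dt (f118394 IH) (Lpr_ct (f118481 IH) (Lpr_dt (f64469 IH) (Lpr_ct (f78950 IH) (Lpr_dt (f78892 IH) (Lpr_ct (f118482 IH) (Lpn (LP (LK LD1_c12 LD2_c40 LD3_c34))))))))))))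
theorem f118470 : Led Lsl_dt (LP (LK LD1_c12 LD2_c36 LD3_c45)) = (LP (LK LD1_c6 LD2_c35 LD3_c21)) :=
  Lre_d IH (LK LD1_c12 LD2_c36 LD3_c45) (LK LD1_c6 LD2_c35 LD3_c21) Lrfl Lrfl
theorem f118487 : Led Lsl_ct (LP (LK LD1_c6 LD2_c35 LD3_c21)) = (LP (LK LD1_c3 LD2_c16 LD3_c2)) :=
  Lre_c IH (LK LD1_c6 LD2_c35 LD3_c21) (LK LD1_c3 LD2_c16 LD3_c2) Lrfl Lrfl
theorem f118495 : Led Lsl_ft (LP (LK LD1_c0 LD2_c44 LD3_c13)) = (LP (LK LD1_c1 LD2_c35 LD3_c7)) :=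
  Lre_f IH (LK LD1_c0 LD2_c44 LD3_c13) (LK LD1_c1 LD2_c35 LD3_c7) Lrfl Lrfl
theorem f118496 : Led Lsl_af (LP (LK LD1_c3 LD2_c16 LD3_c2)) = (LP (LK LD1_c1 LD2_c35 LD3_c7)) :=
  Lgr Lrot109 (Lpe (f118487 IH) (Lpe (f118470 IH) (Lpe (f118480 IH) (Lpr_df (f118483 IH) (Lpe (f118482 IH) (Lpe (f78892 IH) (Lpe (f78950 IH) (Lpe (f64469 IH) (Lpr_ft (f118495 IH) (Lpn (LP (LK LD1_c1 LD2_c35 LD3_c7))))))))))))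
theorem f118501 : Led Lsl_at (LP (LK LD1_c3 LD2_c16 LD3_c2)) = (LP (LK LD1_c1 LD2_c35 LD3_c7)) :=
  Lgr Lrot100 (Lpr_af (f118496 IH) (Lpn (LP (LK LD1_c1 LD2_c35 LD3_c7))))
theorem f118523 : Led Lsl_ft (LP (LK LD1_c1 LD2_c34 LD3_c46)) = (LP (LK LD1_c3 LD2_c16 LD3_c2)) :=
  Lre_f IH (LK LD1_c1 LD2_c34 LD3_c46) (LK LD1_c3 LD2_c16 LD3_c2) Lrfl Lrfl
theorem f118524 : Led Lsl_ft (LP (LK LD1_c1 LD2_c35 LD3_c7)) = (LP (LK LD1_c0 LD2_c44 LD3_c13)) :=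
  Lre_f IH (LK LD1_c1 LD2_c35 LD3_c7) (LK LD1_c0 LD2_c44 LD3_c13) Lrfl Lrfl
theorem f118525 : Led Lsl_af (LP (LK LD1_c1 LD2_c34 LD3_c46)) = (LP (LK LD1_c0 LD2_c44 LD3_c13)) :=
  Lgr Lrot45 (Lpr_ft (f118523 IH) (Lpr_at (f118501 IH) (Lpr_ft (f118524 IH) (Lpn (LP (LK LD1_c0 LD2_c44 LD3_c13))))))
theorem f103591 : Led Lsl_et (LP (LK LD1_c1 LD2_c34 LD3_c46)) = (LP (LK LD1_c0 LD2_c44 LD3_c7)) :=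
  Lre_e IH (LK LD1_c1 LD2_c34 LD3_c46) (LK LD1_c0 LD2_c44 LD3_c7) Lrfl Lrfl
theorem f64468 : Led Lsl_et (LP (LK LD1_c0 LD2_c19 LD3_c43)) = (LP (LK LD1_c0 LD2_c44 LD3_c13)) :=
  Lre_e IH (LK LD1_c0 LD2_c19 LD3_c43) (LK LD1_c0 LD2_c44 LD3_c13) Lrfl Lrfl
theorem f118533 : Led Lsl_at (LP (LK LD1_c0 LD2_c44 LD3_c7)) = (LP (LK LD1_c0 LD2_c19 LD3_c43)) :=
  Lgr Lrot80 (Lpe (f103591 IH) (Lpr_af (f118525 IH) (Lpe (f64468 IH) (Lpn (LP (LK LD1_c0 LD2_c19 LD3_c43))))))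
theorem f110207 : Led Lsl_ft (LP (LK LD1_c0 LD2_c40 LD3_c8)) = (LP (LK LD1_c0 LD2_c18 LD3_c0)) :=
  Lre_f IH (LK LD1_c0 LD2_c40 LD3_c8) (LK LD1_c0 LD2_c18 LD3_c0) Lrfl Lrfl
theorem f110208 : Led Lsl_ff (LP (LK LD1_c0 LD2_c44 LD3_c7)) = (LP (LK LD1_c0 LD2_c19 LD3_c44)) :=
  Lgr Lrot19 (Lpr_dt (K3.f110197 IH) (Lpr_ft (f110207 IH) (Lpr_dt (K3.f61954 IH) (Lpn (LP (LK LD1_c0 LD2_c19 LD3_c44))))))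
theorem f113972 : Led Lsl_at (LP (LK LD1_c0 LD2_c44 LD3_c8)) = (LP (LK LD1_c0 LD2_c19 LD3_c44)) :=
  Lgr Lrot51 (Lpr_df (f113970 IH) (Lpe (K2.f61994 IH) (Lpr_df (K1.f61987 IH) (Lpn (LP (LK LD1_c0 LD2_c19 LD3_c44))))))
theorem f118605 : Led Lsl_ff (LP (LK LD1_c0 LD2_c44 LD3_c8)) = (LP (LK LD1_c0 LD2_c19 LD3_c43)) :=
  Lgr Lrot30 (Lpr_at (f113972 IH) (Lpe (f110208 IH) (Lpr_at (f118533 IH) (Lpn (LP (LK LD1_c0 LD2_c19 LD3_c43))))))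
theorem f113978 : Led Lsl_et (LP (LK LD1_c0 LD2_c44 LD3_c8)) = (LP (LK LD1_c1 LD2_c34 LD3_c49)) :=
  Lre_e IH (LK LD1_c0 LD2_c44 LD3_c8) (LK LD1_c1 LD2_c34 LD3_c49) Lrfl Lrfl
theorem f118609 : Led Lsl_ft (LP (LK LD1_c1 LD2_c34 LD3_c49)) = (LP (LK LD1_c3 LD2_c16 LD3_c8)) :=
  Lre_f IH (LK LD1_c1 LD2_c34 LD3_c49) (LK LD1_c3 LD2_c16 LD3_c8) Lrfl Lrfl
theorem f78962 : Led Lsl_et (LP (LK LD1_c0 LD2_c44 LD3_c13)) = (LP (LK LD1_c0 LD2_c19 LD3_c43)) :=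
  Lre_e IH (LK LD1_c0 LD2_c44 LD3_c13) (LK LD1_c0 LD2_c19 LD3_c43) Lrfl Lrfl
theorem f118610 : Led Lsl_et (LP (LK LD1_c3 LD2_c16 LD3_c8)) = (LP (LK LD1_c1 LD2_c35 LD3_c7)) :=
  Lgr Lrot69 (Lpe (f118609 IH) (Lpe (f113978 IH) (Lpr_ff (f118605 IH) (Lpe (f78962 IH) (Lpe (f118524 IH) (Lpn (LP (LK LD1_c1 LD2_c35 LD3_c7))))))))
theorem f118612 : Led Lsl_ef (LP (LK LD1_c1 LD2_c35 LD3_c17)) = (LP (LK LD1_c3 LD2_c16 LD3_c2)) :=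
  Lgr Lrot20 (Lpr_at (f118243 IH) (Lpr_et (f118610 IH) (Lpe (f118496 IH) (Lpn (LP (LK LD1_c3 LD2_c16 LD3_c2))))))
theorem f118615 : Led Lsl_et (LP (LK LD1_c3 LD2_c17 LD3_c17)) = (LP (LK LD1_c6 LD2_c35 LD3_c21)) :=
  Lgr Lrot158 (Lpe (f118217 IH) (Lpr_ef (f118612 IH) (Lpe (f118487 IH) (Lpn (LP (LK LD1_c6 LD2_c35 LD3_c21))))))
theorem f118621 : Led Lsl_ef (LP (LK LD1_c3 LD2_c17 LD3_c17)) = (LP (LK LD1_c6 LD2_c35 LD3_c21)) :=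
  Lgr Lrot88 (Lpr_et (f118615 IH) (Lpn (LP (LK LD1_c6 LD2_c35 LD3_c21))))
theorem f118624 : Led Lsl_bt (LP (LK LD1_c12 LD2_c36 LD3_c37)) = (LP (LK LD1_c6 LD2_c35 LD3_c21)) :=
  Lre_b IH (LK LD1_c12 LD2_c36 LD3_c37) (LK LD1_c6 LD2_c35 LD3_c21) Lrfl Lrfl
theorem f118625 : Led Lsl_et (LP (LK LD1_c6 LD2_c37 LD3_c46)) = (LP (LK LD1_c12 LD2_c36 LD3_c37)) :=
  Lgr Lrot74 (Lpe (f117937 IH) (Lpr_ef (f118621 IH) (Lpe (f118624 IH) (Lpn (LP (LK LD1_c12 LD2_c36 LD3_c37))))))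
theorem f118639 : Led Lsl_ft (LP (LK LD1_c3 LD2_c17 LD3_c12)) = (LP (LK LD1_c6 LD2_c37 LD3_c46)) :=
  Lre_f IH (LK LD1_c3 LD2_c17 LD3_c12) (LK LD1_c6 LD2_c37 LD3_c46) Lrfl Lrfl
theorem f117087 : Led Lsl_et (LP (LK LD1_c1 LD2_c35 LD3_c11)) = (LP (LK LD1_c3 LD2_c17 LD3_c12)) :=
  Lre_e IH (LK LD1_c1 LD2_c35 LD3_c11) (LK LD1_c3 LD2_c17 LD3_c12) Lrfl Lrfl
theorem f118640 : Led Lsl_ft (LP (LK LD1_c12 LD2_c36 LD3_c37)) = (LP (LK LD1_c6 LD2_c35 LD3_c16)) :=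
  Lre_f IH (LK LD1_c12 LD2_c36 LD3_c37) (LK LD1_c6 LD2_c35 LD3_c16) Lrfl Lrfl
theorem f118641 : Led Lsl_et (LP (LK LD1_c6 LD2_c35 LD3_c16)) = (LP (LK LD1_c3 LD2_c15 LD3_c59)) :=
  Lre_e IH (LK LD1_c6 LD2_c35 LD3_c16) (LK LD1_c3 LD2_c15 LD3_c59) Lrfl Lrfl
theorem f118642 : Led Lsl_ff (LP (LK LD1_c1 LD2_c35 LD3_c11)) = (LP (LK LD1_c3 LD2_c15 LD3_c59)) :=
  Lgr Lrot72 (Lpr_et (f117087 IH) (Lpr_ft (f118639 IH) (Lpr_et (f118625 IH) (Lpr_ft (f118640 IH) (Lpr_et (f118641 IH) (Lpn (LP (LK LD1_c3 LD2_c15 LD3_c59))))))))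
theorem f118650 : Led Lsl_ft (LP (LK LD1_c1 LD2_c35 LD3_c11)) = (LP (LK LD1_c3 LD2_c15 LD3_c59)) :=
  Lgr Lrot48 (Lpr_ff (f118642 IH) (Lpn (LP (LK LD1_c3 LD2_c15 LD3_c59))))
theorem f61940 : Led Lsl_ct (LP (LK LD1_c3 LD2_c17 LD3_c2)) = (LP (LK LD1_c1 LD2_c35 LD3_c11)) :=
  Lre_c IH (LK LD1_c3 LD2_c17 LD3_c2) (LK LD1_c1 LD2_c35 LD3_c11) Lrfl Lrfl
theorem f117066 : Led Lsl_ct (LP (LK LD1_c3 LD2_c15 LD3_c59)) = (LP (LK LD1_c6 LD2_c35 LD3_c11)) :=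
  Lre_c IH (LK LD1_c3 LD2_c15 LD3_c59) (LK LD1_c6 LD2_c35 LD3_c11) Lrfl Lrfl
theorem f118655 : Led Lsl_ff (LP (LK LD1_c3 LD2_c17 LD3_c2)) = (LP (LK LD1_c6 LD2_c35 LD3_c11)) :=
  Lgr Lrot23 (Lpr_ct (f61940 IH) (Lpr_ft (f118650 IH) (Lpr_ct (f117066 IH) (Lpn (LP (LK LD1_c6 LD2_c35 LD3_c11))))))
theorem f61939 : Led Lsl_bt (LP (LK LD1_c3 LD2_c17 LD3_c2)) = (LP (LK LD1_c1 LD2_c35 LD3_c9)) :=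
  Lre_b IH (LK LD1_c3 LD2_c17 LD3_c2) (LK LD1_c1 LD2_c35 LD3_c9) Lrfl Lrfl
theorem f118672 : Led Lsl_bt (LP (LK LD1_c3 LD2_c15 LD3_c57)) = (LP (LK LD1_c6 LD2_c35 LD3_c11)) :=
  Lre_b IH (LK LD1_c3 LD2_c15 LD3_c57) (LK LD1_c6 LD2_c35 LD3_c11) Lrfl Lrfl
theorem f118673 : Led Lsl_ft (LP (LK LD1_c1 LD2_c35 LD3_c9)) = (LP (LK LD1_c3 LD2_c15 LD3_c57)) :=
  Lgr Lrot75 (Lpe (f61939 IH) (Lpr_ff (f118655 IH) (Lpe (f118672 IH) (Lpn (LP (LK LD1_c3 LD2_c15 LD3_c57))))))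
theorem f118690 : Led Lsl_ff (LP (LK LD1_c1 LD2_c35 LD3_c9)) = (LP (LK LD1_c3 LD2_c15 LD3_c57)) :=
  Lgr Lrot3 (Lpr_ft (f118673 IH) (Lpn (LP (LK LD1_c3 LD2_c15 LD3_c57))))
theorem f93665 : Led Lsl_ct (LP (LK LD1_c1 LD2_c34 LD3_c44)) = (LP (LK LD1_c3 LD2_c15 LD3_c57)) :=
  Lre_c IH (LK LD1_c1 LD2_c34 LD3_c44) (LK LD1_c3 LD2_c15 LD3_c57) Lrfl Lrfl
theorem f118716 : Led Lsl_ft (LP (LK LD1_c0 LD2_c44 LD3_c14)) = (LP (LK LD1_c1 LD2_c34 LD3_c44)) :=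
  Lgr Lrot4 (Lpe (K1.f61934 IH) (Lpr_ff (f118690 IH) (Lpe (f93665 IH) (Lpn (LP (LK LD1_c1 LD2_c34 LD3_c44))))))
theorem f25020 : Led Lsl_dt (LP (LK LD1_c0 LD2_c18 LD3_c36)) = (LP (LK LD1_c0 LD2_c8 LD3_c21)) :=
  Lre_d IH (LK LD1_c0 LD2_c18 LD3_c36) (LK LD1_c0 LD2_c8 LD3_c21) Lrfl Lrfl
theorem f61935 : Led Lsl_dt (LP (LK LD1_c0 LD2_c40 LD3_c13)) = (LP (LK LD1_c0 LD2_c44 LD3_c14)) :=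
  Lgr Lrot27 (Lpe (K1.f25016 IH) (Lpe (K1.f24974 IH) (Lpe (K1.f24971 IH) (Lpe (K1.f24970 IH) (Lpe (f25020 IH) (Lpr_gt (K1.f25018 IH) (Lpr_ct (K1.f25019 IH) (Lpr_gt (K1.f61878 IH) (Lpr_ct (K1.f61934 IH) (Lpn (LP (LK LD1_c0 LD2_c44 LD3_c14))))))))))))
theorem f77974 : Led Lsl_ft (LP (LK LD1_c1 LD2_c26 LD3_c41)) = (LP (LK LD1_c0 LD2_c40 LD3_c13)) :=
  Lre_f IH (LK LD1_c1 LD2_c26 LD3_c41) (LK LD1_c0 LD2_c40 LD3_c13) Lrfl Lrfl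
theorem f118723 : Led Lsl_df (LP (LK LD1_c1 LD2_c26 LD3_c41)) = (LP (LK LD1_c1 LD2_c34 LD3_c44)) :=
  Lgr Lrot78 (Lpr_ft (f77974 IH) (Lpr_dt (f61935 IH) (Lpr_ft (f118716 IH) (Lpn (LP (LK LD1_c1 LD2_c34 LD3_c44))))))
theorem f120785 : Led Lsl_gt (LP (LK LD1_c1 LD2_c48 LD3_c31)) = (LP (LK LD1_c1 LD2_c34 LD3_c44)) :=
  Lgr Lrot49 (Lpe (f26109 IH) (Lpe (K3.f79321 IH) (Lpr_cf (K3.f79284 IH) (Lpr_gt (f104164 IH) (Lpr_dt (f23452 IH) (Lpr_gt (f120783 IH) (Lpr_dt (K3.f82398 IH) (Lpr_cf (K3.f110005 IH) (Lpr_df (f118723 IH) (Lpn (LP (LK LD1_c1 LD2_c34 LD3_c44))))))))))))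
theorem f120804 : Led Lsl_bt (LP (LK LD1_c0 LD2_c51 LD3_c2)) = (LP (LK LD1_c1 LD2_c48 LD3_c31)) :=
  Lre_b IH (LK LD1_c0 LD2_c51 LD3_c2) (LK LD1_c1 LD2_c48 LD3_c31) Lrfl Lrfl
theorem f13598 : Led Lsl_ct (LP (LK LD1_c0 LD2_c51 LD3_c2)) = (LP (LK LD1_c1 LD2_c48 LD3_c32)) :=
  Lre_c IH (LK LD1_c0 LD2_c51 LD3_c2) (LK LD1_c1 LD2_c48 LD3_c32) Lrfl Lrfl
theorem f96760 : Led Lsl_bt (LP (LK LD1_c0 LD2_c44 LD3_c7)) = (LP (LK LD1_c1 LD2_c34 LD3_c44)) :=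
  Lre_b IH (LK LD1_c0 LD2_c44 LD3_c7) (LK LD1_c1 LD2_c34 LD3_c44) Lrfl Lrfl
theorem f12564 : Led Lsl_ct (LP (LK LD1_c1 LD2_c46 LD3_c56)) = (LP (LK LD1_c3 LD2_c39 LD3_c55)) :=
  Lre_c IH (LK LD1_c1 LD2_c46 LD3_c56) (LK LD1_c3 LD2_c39 LD3_c55) Lrfl Lrfl
theorem f120807 : Led Lsl_gf (LP (LK LD1_c1 LD2_c48 LD3_c32)) = (LP (LK LD1_c3 LD2_c39 LD3_c55)) :=
  Lgr Lrot129 (Lpe (f13598 IH) (Lpr_bt (f120804 IH) (Lpr_gt (f120785 IH) (Lpe (f96760 IH) (Lpr_ct (K3.f93518 IH) (Lpr_gt (f96756 IH) (Lpe (K3.f12487 IH) (Lpe (f12410 IH) (Lpr_gt (f12562 IH) (Lpr_ct (f12564 IH) (Lpn (LP (LK LD1_c3 LD2_c39 LD3_c55)))))))))))))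
theorem f120805 : Led Lsl_ct (LP (LK LD1_c1 LD2_c48 LD3_c32)) = (LP (LK LD1_c0 LD2_c51 LD3_c2)) :=
  Lre_c IH (LK LD1_c1 LD2_c48 LD3_c32) (LK LD1_c0 LD2_c51 LD3_c2) Lrfl Lrfl
theorem f120811 : Led Lsl_dt (LP (LK LD1_c0 LD2_c51 LD3_c2)) = (LP (LK LD1_c0 LD2_c23 LD3_c3)) :=
  Lre_d IH (LK LD1_c0 LD2_c51 LD3_c2) (LK LD1_c0 LD2_c23 LD3_c3) Lrfl Lrfl
theorem f12489 : Led Lsl_dt (LP (LK LD1_c0 LD2_c22 LD3_c42)) = (LP (LK LD1_c0 LD2_c50 LD3_c16)) :=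
  Lre_d IH (LK LD1_c0 LD2_c22 LD3_c42) (LK LD1_c0 LD2_c50 LD3_c16) Lrfl Lrfl
theorem f12568 : Led Lsl_gt (LP (LK LD1_c0 LD2_c20 LD3_c48)) = (LP (LK LD1_c0 LD2_c46 LD3_c17)) :=
  Lre_g IH (LK LD1_c0 LD2_c20 LD3_c48) (LK LD1_c0 LD2_c46 LD3_c17) Lrfl Lrfl
theorem f120812 : Led Lsl_cf (LP (LK LD1_c0 LD2_c23 LD3_c3)) = (LP (LK LD1_c0 LD2_c46 LD3_c17)) :=
  Lgr Lrot99 (Lpe (f120811 IH) (Lpe (f120805 IH) (Lpr_gf (f120807 IH) (Lpe (f12564 IH) (Lpe (f12562 IH) (Lpe (f12489 IH) (Lpr_gt (K3.f12341 IH) (Lpr_ct (K3.f12567 IH) (Lpr_gt (f12568 IH) (Lpn (LP (LK LD1_c0 LD2_c46 LD3_c17))))))))))))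
theorem f11293 : Led Lsl_ct (LP (LK LD1_c0 LD2_c4 LD3_c53)) = (LP (LK LD1_c0 LD2_c10 LD3_c23)) :=
  Lre_c IH (LK LD1_c0 LD2_c4 LD3_c53) (LK LD1_c0 LD2_c10 LD3_c23) Lrfl Lrfl
theorem f11285 : Led Lsl_bt (LP (LK LD1_c0 LD2_c4 LD3_c60)) = (LP (LK LD1_c0 LD2_c2 LD3_c17)) :=
  Lre_b IH (LK LD1_c0 LD2_c4 LD3_c60) (LK LD1_c0 LD2_c2 LD3_c17) Lrfl Lrfl
theorem f26122 : Led Lsl_bt (LP (LK LD1_c0 LD2_c46 LD3_c11)) = (LP (LK LD1_c0 LD2_c20 LD3_c45)) :=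
  Lre_b IH (LK LD1_c0 LD2_c46 LD3_c11) (LK LD1_c0 LD2_c20 LD3_c45) Lrfl Lrfl
theorem f65463 : Led Lsl_bt (LP (LK LD1_c0 LD2_c19 LD3_c33)) = (LP (LK LD1_c0 LD2_c43 LD3_c47)) :=
  Lre_b IH (LK LD1_c0 LD2_c19 LD3_c33) (LK LD1_c0 LD2_c43 LD3_c47) Lrfl Lrfl
theorem f104179 : Led Lsl_ct (LP (LK LD1_c0 LD2_c20 LD3_c44)) = (LP (LK LD1_c0 LD2_c19 LD3_c33)) :=
  Lgr Lrot83 (Lpe (K2.f94212 IH) (Lpe (K2.f13506 IH) (Lpe (f26122 IH) (Lpr_cf (K3.f104177 IH) (Lpe (f65463 IH) (Lpn (LP (LK LD1_c0 LD2_c19 LD3_c33))))))))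
theorem f120820 : Led Lsl_bf (LP (LK LD1_c0 LD2_c46 LD3_c8)) = (LP (LK LD1_c0 LD2_c46 LD3_c17)) :=
  Lgr Lrot165 (Lpr_gt (K3.f94617 IH) (Lpr_ct (f104179 IH) (Lpe (K3.f103572 IH) (Lpe (K3.f11291 IH) (Lpr_bt (f11285 IH) (Lpr_gt (K0.f11281 IH) (Lpe (K3.f11292 IH) (Lpr_ct (f11293 IH) (Lpr_gt (K3.f11294 IH) (Lpr_cf (f120812 IH) (Lpn (LP (LK LD1_c0 LD2_c46 LD3_c17)))))))))))))
theorem f12898 : Led Lsl_gt (LP (LK LD1_c0 LD2_c10 LD3_c21)) = (LP (LK LD1_c0 LD2_c4 LD3_c53)) :=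
  Lre_g IH (LK LD1_c0 LD2_c10 LD3_c21) (LK LD1_c0 LD2_c4 LD3_c53) Lrfl Lrfl
theorem f12899 : Led Lsl_bt (LP (LK LD1_c0 LD2_c22 LD3_c58)) = (LP (LK LD1_c0 LD2_c10 LD3_c21)) :=
  Lre_b IH (LK LD1_c0 LD2_c22 LD3_c58) (LK LD1_c0 LD2_c10 LD3_c21) Lrfl Lrfl
theorem f120826 : Led Lsl_cf (LP (LK LD1_c0 LD2_c46 LD3_c10)) = (LP (LK LD1_c0 LD2_c22 LD3_c58)) :=
  Lgr Lrot58 (Lpe (K2.f14989 IH) (Lpe (K2.f14991 IH) (Lpr_bt (K2.f94212 IH) (Lpe (K3.f94617 IH) (Lpr_bf (f120820 IH) (Lpe (f120812 IH) (Lpe (K3.f11294 IH) (Lpe (f11293 IH) (Lpe (f12898 IH) (Lpe (f12899 IH) (Lpn (LP (LK LD1_c0 LD2_c22 LD3_c58)))))))))))))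
theorem f26134 : Led Lsl_ct (LP (LK LD1_c3 LD2_c25 LD3_c29)) = (LP (LK LD1_c1 LD2_c39 LD3_c22)) :=
  Lre_c IH (LK LD1_c3 LD2_c25 LD3_c29) (LK LD1_c1 LD2_c39 LD3_c22) Lrfl Lrfl
theorem f120843 : Led Lsl_gt (LP (LK LD1_c0 LD2_c10 LD3_c29)) = (LP (LK LD1_c0 LD2_c22 LD3_c58)) :=
  Lgr Lrot150 (Lpe (K2.f23708 IH) (Lpr_gf (K2.f95253 IH) (Lpe (K1.f9783 IH) (Lpr_gt (K3.f23355 IH) (Lpr_ct (K3.f23363 IH) (Lpr_gt (K3.f94931 IH) (Lpr_ct (f26134 IH) (Lpe (K2.f14990 IH) (Lpr_cf (f120826 IH) (Lpn (LP (LK LD1_c0 LD2_c22 LD3_c58))))))))))))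
theorem f85016 : Led Lsl_et (LP (LK LD1_c0 LD2_c10 LD3_c29)) = (LP (LK LD1_c0 LD2_c10 LD3_c29)) :=
  Lgr Lrot74 (Lpe (K0.f5715 IH) (Lpr_ef (K2.f85012 IH) (Lpe (K0.f5776 IH) (Lpn (LP (LK LD1_c0 LD2_c10 LD3_c29))))))
theorem f120835 : Led Lsl_et (LP (LK LD1_c0 LD2_c50 LD3_c52)) = (LP (LK LD1_c0 LD2_c22 LD3_c58)) :=
  Lre_e IH (LK LD1_c0 LD2_c50 LD3_c52) (LK LD1_c0 LD2_c22 LD3_c58) Lrfl Lrfl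
theorem f120861 : Led Lsl_dt (LP (LK LD1_c0 LD2_c50 LD3_c52)) = (LP (LK LD1_c1 LD2_c48 LD3_c13)) :=
  Lre_d IH (LK LD1_c0 LD2_c50 LD3_c52) (LK LD1_c1 LD2_c48 LD3_c13) Lrfl Lrfl
theorem f120862 : Led Lsl_gf (LP (LK LD1_c3 LD2_c28 LD3_c25)) = (LP (LK LD1_c1 LD2_c48 LD3_c13)) :=
  Lgr Lrot145 (Lpe (K2.f19409 IH) (Lpr_et (K2.f19416 IH) (Lpe (K2.f87557 IH) (Lpe (K2.f90600 IH) (Lpr_gt (K2.f65871 IH) (Lpe (K2.f5727 IH) (Lpr_et (f85016 IH) (Lpr_gt (f120843 IH) (Lpe (f120835 IH) (Lpr_dt (f120861 IH) (Lpn (LP (LK LD1_c1 LD2_c48 LD3_c13)))))))))))))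
theorem f94401 : Led Lsl_ct (LP (LK LD1_c1 LD2_c42 LD3_c58)) = (LP (LK LD1_c0 LD2_c48 LD3_c4)) :=
  Lre_c IH (LK LD1_c1 LD2_c42 LD3_c58) (LK LD1_c0 LD2_c48 LD3_c4) Lrfl Lrfl
theorem f106759 : Led Lsl_gt (LP (LK LD1_c3 LD2_c32 LD3_c31)) = (LP (LK LD1_c1 LD2_c42 LD3_c58)) :=
  Lre_g IH (LK LD1_c3 LD2_c32 LD3_c31) (LK LD1_c1 LD2_c42 LD3_c58) Lrfl Lrfl
theorem f106760 : Led Lsl_ct (LP (LK LD1_c3 LD2_c35 LD3_c36)) = (LP (LK LD1_c3 LD2_c32 LD3_c31)) :=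
  Lgr Lrot152 (Lpr_gf (K3.f105769 IH) (Lpe (K3.f86719 IH) (Lpe (K3.f105936 IH) (Lpe (K3.f84716 IH) (Lpr_gt (K3.f106755 IH) (Lpr_ct (K2.f87498 IH) (Lpe (K3.f94408 IH) (Lpe (f94401 IH) (Lpe (f106759 IH) (Lpn (LP (LK LD1_c3 LD2_c32 LD3_c31))))))))))))
theorem f120874 : Led Lsl_bt (LP (LK LD1_c0 LD2_c50 LD3_c58)) = (LP (LK LD1_c1 LD2_c48 LD3_c13)) :=
  Lre_b IH (LK LD1_c0 LD2_c50 LD3_c58) (LK LD1_c1 LD2_c48 LD3_c13) Lrfl Lrfl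
theorem f120877 : Led Lsl_ct (LP (LK LD1_c0 LD2_c50 LD3_c58)) = (LP (LK LD1_c1 LD2_c48 LD3_c26)) :=
  Lre_c IH (LK LD1_c0 LD2_c50 LD3_c58) (LK LD1_c1 LD2_c48 LD3_c26) Lrfl Lrfl
theorem f120878 : Led Lsl_gt (LP (LK LD1_c3 LD2_c42 LD3_c50)) = (LP (LK LD1_c1 LD2_c48 LD3_c26)) :=
  Lre_g IH (LK LD1_c3 LD2_c42 LD3_c50) (LK LD1_c1 LD2_c48 LD3_c26) Lrfl Lrfl
theorem f19312 : Led Lsl_gf (LP (LK LD1_c3 LD2_c31 LD3_c53)) = (LP (LK LD1_c3 LD2_c27 LD3_c55)) :=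
  Lgr Lrot76 (Lpe (K2.f19185 IH) (Lpr_ff (K2.f19186 IH) (Lpr_gt (K3.f17271 IH) (Lpn (LP (LK LD1_c3 LD2_c27 LD3_c55))))))
theorem f18098 : Led Lsl_bf (LP (LK LD1_c0 LD2_c47 LD3_c53)) = (LP (LK LD1_c0 LD2_c47 LD3_c53)) :=
  Lgr Lrot96 (Lpr_et (K2.f18080 IH) (Lpr_bt (K2.f18088 IH) (Lpr_et (K2.f18086 IH) (Lpn (LP (LK LD1_c0 LD2_c47 LD3_c53))))))
theorem f18102 : Led Lsl_bt (LP (LK LD1_c1 LD2_c42 LD3_c35)) = (LP (LK LD1_c1 LD2_c42 LD3_c35)) :=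
  Lgr Lrot95 (Lpe (K2.f18091 IH) (Lpr_bf (f18098 IH) (Lpe (K2.f18081 IH) (Lpn (LP (LK LD1_c1 LD2_c42 LD3_c35))))))
theorem f19180 : Led Lsl_ft (LP (LK LD1_c1 LD2_c42 LD3_c35)) = (LP (LK LD1_c1 LD2_c39 LD3_c18)) :=
  Lgr Lrot75 (Lpe (f18102 IH) (Lpr_ff (K2.f19168 IH) (Lpr_bf (K3.f9824 IH) (Lpn (LP (LK LD1_c1 LD2_c39 LD3_c18))))))
theorem f9826 : Led Lsl_at (LP (LK LD1_c1 LD2_c39 LD3_c18)) = (LP (LK LD1_c0 LD2_c46 LD3_c44)) :=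
  Lre_a IH (LK LD1_c1 LD2_c39 LD3_c18) (LK LD1_c0 LD2_c46 LD3_c44) Lrfl Lrfl
theorem f19319 : Led Lsl_gt (LP (LK LD1_c1 LD2_c42 LD3_c35)) = (LP (LK LD1_c1 LD2_c40 LD3_c33)) :=
  Lgr Lrot5 (Lpr_ft (f19180 IH) (Lpr_at (f9826 IH) (Lpe (f17264 IH) (Lpn (LP (LK LD1_c1 LD2_c40 LD3_c33))))))
theorem f120879 : Led Lsl_ct (LP (LK LD1_c3 LD2_c27 LD3_c53)) = (LP (LK LD1_c3 LD2_c42 LD3_c50)) :=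
  Lgr Lrot64 (Lpr_bt (f19328 IH) (Lpe (f19319 IH) (Lpe (f18102 IH) (Lpr_ct (K2.f18111 IH) (Lpr_gf (f19312 IH) (Lpe (K3.f106109 IH) (Lpr_gf (f120862 IH) (Lpe (f120874 IH) (Lpr_ct (f120877 IH) (Lpe (f120878 IH) (Lpn (LP (LK LD1_c3 LD2_c42 LD3_c50)))))))))))))
theorem f120883 : Led Lsl_gt (LP (LK LD1_c1 LD2_c42 LD3_c45)) = (LP (LK LD1_c3 LD2_c27 LD3_c53)) :=
  Lgr Lrot82 (Lpe (K3.f106064 IH) (Lpr_ct (K3.f94399 IH) (Lpe (f106759 IH) (Lpe (f106760 IH) (Lpe (K2.f19399 IH) (Lpr_gf (f120862 IH) (Lpe (f120874 IH) (Lpr_ct (f120877 IH) (Lpe (f120878 IH) (Lpe (f120879 IH) (Lpn (LP (LK LD1_c3 LD2_c27 LD3_c53)))))))))))))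
theorem f87492 : Led Lsl_dt (LP (LK LD1_c1 LD2_c42 LD3_c45)) = (LP (LK LD1_c0 LD2_c47 LD3_c59)) :=
  Lre_d IH (LK LD1_c1 LD2_c42 LD3_c45) (LK LD1_c0 LD2_c47 LD3_c59) Lrfl Lrfl
theorem f86843 : Led Lsl_bt (LP (LK LD1_c1 LD2_c45 LD3_c61)) = (LP (LK LD1_c0 LD2_c49 LD3_c45)) :=
  Lre_b IH (LK LD1_c1 LD2_c45 LD3_c61) (LK LD1_c0 LD2_c49 LD3_c45) Lrfl Lrfl
theorem f86729 : Led Lsl_ct (LP (LK LD1_c1 LD2_c45 LD3_c61)) = (LP (LK LD1_c1 LD2_c48 LD3_c35)) :=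
  Lre_c IH (LK LD1_c1 LD2_c45 LD3_c61) (LK LD1_c1 LD2_c48 LD3_c35) Lrfl Lrfl
theorem f106342 : Led Lsl_gt (LP (LK LD1_c3 LD2_c24 LD3_c17)) = (LP (LK LD1_c1 LD2_c44 LD3_c52)) :=
  Lgr Lrot46 (Lpr_gf (K3.f95180 IH) (Lpr_ft (K3.f106337 IH) (Lpr_at (K3.f86697 IH) (Lpn (LP (LK LD1_c1 LD2_c44 LD3_c52))))))
theorem f92255 : Led Lsl_ct (LP (LK LD1_c1 LD2_c38 LD3_c35)) = (LP (LK LD1_c3 LD2_c24 LD3_c22)) :=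
  Lre_c IH (LK LD1_c1 LD2_c38 LD3_c35) (LK LD1_c3 LD2_c24 LD3_c22) Lrfl Lrfl
theorem f92256 : Led Lsl_gt (LP (LK LD1_c6 LD2_c51 LD3_c24)) = (LP (LK LD1_c3 LD2_c24 LD3_c22)) :=
  Lre_g IH (LK LD1_c6 LD2_c51 LD3_c24) (LK LD1_c3 LD2_c24 LD3_c22) Lrfl Lrfl
theorem f17998 : Led Lsl_bt (LP (LK LD1_c0 LD2_c49 LD3_c45)) = (LP (LK LD1_c1 LD2_c45 LD3_c61)) :=
  Lre_b IH (LK LD1_c0 LD2_c49 LD3_c45) (LK LD1_c1 LD2_c45 LD3_c61) Lrfl Lrfl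
theorem f17993 : Led Lsl_dt (LP (LK LD1_c1 LD2_c46 LD3_c1)) = (LP (LK LD1_c0 LD2_c49 LD3_c45)) :=
  Lre_d IH (LK LD1_c1 LD2_c46 LD3_c1) (LK LD1_c0 LD2_c49 LD3_c45) Lrfl Lrfl
theorem f86816 : Led Lsl_bf (LP (LK LD1_c1 LD2_c46 LD3_c1)) = (LP (LK LD1_c3 LD2_c28 LD3_c29)) :=
  Lgr Lrot93 (Lpr_dt (f17993 IH) (Lpr_bt (f17998 IH) (Lpr_dt (K3.f86745 IH) (Lpn (LP (LK LD1_c3 LD2_c28 LD3_c29))))))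
theorem f106345 : Led Lsl_cf (LP (LK LD1_c6 LD2_c51 LD3_c24)) = (LP (LK LD1_c3 LD2_c28 LD3_c29)) :=
  Lgr Lrot160 (Lpr_gt (f92256 IH) (Lpe (f92255 IH) (Lpr_bt (f95184 IH) (Lpr_gt (f106342 IH) (Lpr_ct (K3.f86695 IH) (Lpe (K3.f85579 IH) (Lpe (K3.f85317 IH) (Lpr_bt (K3.f85315 IH) (Lpr_gt (K3.f105766 IH) (Lpr_bf (f86816 IH) (Lpn (LP (LK LD1_c3 LD2_c28 LD3_c29)))))))))))))
theorem f19321 : Led Lsl_ct (LP (LK LD1_c1 LD2_c40 LD3_c33)) = (LP (LK LD1_c3 LD2_c27 LD3_c54)) :=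
  Lre_c IH (LK LD1_c1 LD2_c40 LD3_c33) (LK LD1_c3 LD2_c27 LD3_c54) Lrfl Lrfl
theorem f106361 : Led Lsl_gf (LP (LK LD1_c6 LD2_c51 LD3_c24)) = (LP (LK LD1_c3 LD2_c27 LD3_c54)) :=
  Lgr Lrot129 (Lpr_cf (f106345 IH) (Lpe (f86816 IH) (Lpe (K3.f105769 IH) (Lpe (K2.f19401 IH) (Lpr_ct (K3.f106109 IH) (Lpe (f19312 IH) (Lpe (K2.f18111 IH) (Lpr_bt (f18102 IH) (Lpr_gt (f19319 IH) (Lpr_ct (f19321 IH) (Lpn (LP (LK LD1_c3 LD2_c27 LD3_c54)))))))))))))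
theorem f106359 : Led Lsl_ct (LP (LK LD1_c6 LD2_c51 LD3_c24)) = (LP (LK LD1_c3 LD2_c28 LD3_c29)) :=
  Lgr Lrot59 (Lpr_cf (f106345 IH) (Lpn (LP (LK LD1_c3 LD2_c28 LD3_c29))))
theorem f86818 : Led Lsl_df (LP (LK LD1_c1 LD2_c45 LD3_c61)) = (LP (LK LD1_c3 LD2_c28 LD3_c29)) :=
  Lgr Lrot38 (Lpr_dt (K3.f86745 IH) (Lpn (LP (LK LD1_c3 LD2_c28 LD3_c29))))
theorem f19173 : Led Lsl_ct (LP (LK LD1_c0 LD2_c46 LD3_c43)) = (LP (LK LD1_c1 LD2_c40 LD3_c32)) :=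
  Lre_c IH (LK LD1_c0 LD2_c46 LD3_c43) (LK LD1_c1 LD2_c40 LD3_c32) Lrfl Lrfl
theorem f106364 : Led Lsl_gf (LP (LK LD1_c1 LD2_c48 LD3_c35)) = (LP (LK LD1_c1 LD2_c40 LD3_c32)) :=
  Lgr Lrot104 (Lpr_ct (K3.f86730 IH) (Lpr_df (f86818 IH) (Lpe (f106359 IH) (Lpr_gf (f106361 IH) (Lpe (f19321 IH) (Lpe (f19319 IH) (Lpe (K2.f18091 IH) (Lpr_gt (f19170 IH) (Lpr_ct (f19173 IH) (Lpn (LP (LK LD1_c1 LD2_c40 LD3_c32))))))))))))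
theorem f83951 : Led Lsl_bt (LP (LK LD1_c0 LD2_c46 LD3_c43)) = (LP (LK LD1_c1 LD2_c40 LD3_c31)) :=
  Lre_b IH (LK LD1_c0 LD2_c46 LD3_c43) (LK LD1_c1 LD2_c40 LD3_c31) Lrfl Lrfl
theorem f106764 : Led Lsl_gf (LP (LK LD1_c1 LD2_c40 LD3_c31)) = (LP (LK LD1_c0 LD2_c47 LD3_c59)) :=
  Lgr Lrot124 (Lpe (f83951 IH) (Lpr_ct (f19173 IH) (Lpe (f106364 IH) (Lpe (f86729 IH) (Lpr_bt (f86843 IH) (Lpe (K3.f105936 IH) (Lpe (K3.f84716 IH) (Lpr_gt (K3.f106755 IH) (Lpe (K2.f87478 IH) (Lpr_bt (K2.f87497 IH) (Lpn (LP (LK LD1_c0 LD2_c47 LD3_c59)))))))))))))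
theorem f120875 : Led Lsl_ct (LP (LK LD1_c1 LD2_c48 LD3_c26)) = (LP (LK LD1_c0 LD2_c50 LD3_c58)) :=
  Lre_c IH (LK LD1_c1 LD2_c48 LD3_c26) (LK LD1_c0 LD2_c50 LD3_c58) Lrfl Lrfl
theorem f120891 : Led Lsl_dt (LP (LK LD1_c0 LD2_c22 LD3_c61)) = (LP (LK LD1_c0 LD2_c50 LD3_c58)) :=
  Lre_d IH (LK LD1_c0 LD2_c22 LD3_c61) (LK LD1_c0 LD2_c50 LD3_c58) Lrfl Lrfl
theorem f120892 : Led Lsl_ct (LP (LK LD1_c0 LD2_c50 LD3_c54)) = (LP (LK LD1_c0 LD2_c22 LD3_c61)) :=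
  Lre_c IH (LK LD1_c0 LD2_c50 LD3_c54) (LK LD1_c0 LD2_c22 LD3_c61) Lrfl Lrfl
theorem f120893 : Led Lsl_gt (LP (LK LD1_c1 LD2_c48 LD3_c16)) = (LP (LK LD1_c0 LD2_c50 LD3_c54)) :=
  Lre_g IH (LK LD1_c1 LD2_c48 LD3_c16) (LK LD1_c0 LD2_c50 LD3_c54) Lrfl Lrfl
theorem f120894 : Led Lsl_ct (LP (LK LD1_c1 LD2_c40 LD3_c31)) = (LP (LK LD1_c1 LD2_c48 LD3_c16)) :=
  Lgr Lrot152 (Lpr_gf (f106764 IH) (Lpe (f87492 IH) (Lpr_gt (f120883 IH) (Lpr_ct (f120879 IH) (Lpr_gt (f120878 IH) (Lpr_ct (f120875 IH) (Lpe (f120891 IH) (Lpe (f120892 IH) (Lpe (f120893 IH) (Lpn (LP (LK LD1_c1 LD2_c48 LD3_c16))))))))))))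
theorem f120913 : Led Lsl_ct (LP (LK LD1_c0 LD2_c22 LD3_c61)) = (LP (LK LD1_c0 LD2_c50 LD3_c54)) :=
  Lre_c IH (LK LD1_c0 LD2_c22 LD3_c61) (LK LD1_c0 LD2_c50 LD3_c54) Lrfl Lrfl
theorem f120914 : Led Lsl_bt (LP (LK LD1_c0 LD2_c22 LD3_c61)) = (LP (LK LD1_c0 LD2_c50 LD3_c52)) :=
  Lre_b IH (LK LD1_c0 LD2_c22 LD3_c61) (LK LD1_c0 LD2_c50 LD3_c52) Lrfl Lrfl
theorem f120870 : Led Lsl_gt (LP (LK LD1_c0 LD2_c50 LD3_c52)) = (LP (LK LD1_c1 LD2_c48 LD3_c12)) :=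
  Lre_g IH (LK LD1_c0 LD2_c50 LD3_c52) (LK LD1_c1 LD2_c48 LD3_c12) Lrfl Lrfl
theorem f120915 : Led Lsl_bt (LP (LK LD1_c1 LD2_c41 LD3_c10)) = (LP (LK LD1_c1 LD2_c48 LD3_c12)) :=
  Lgr Lrot92 (Lpe (K3.f84716 IH) (Lpr_gt (K3.f106755 IH) (Lpe (K2.f87478 IH) (Lpr_bt (K2.f87497 IH) (Lpe (f106764 IH) (Lpr_ct (f120894 IH) (Lpr_gt (f120893 IH) (Lpe (f120913 IH) (Lpr_bt (f120914 IH) (Lpr_gt (f120870 IH) (Lpn (LP (LK LD1_c1 LD2_c48 LD3_c12)))))))))))))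
theorem f120923 : Led Lsl_ff (LP (LK LD1_c3 LD2_c11 LD3_c38)) = (LP (LK LD1_c1 LD2_c48 LD3_c12)) :=
  Lgr Lrot25 (Lpe (K2.f94352 IH) (Lpr_ft (K3.f94372 IH) (Lpr_bt (f120915 IH) (Lpn (LP (LK LD1_c1 LD2_c48 LD3_c12))))))
theorem f94085 : Led Lsl_et (LP (LK LD1_c3 LD2_c11 LD3_c38)) = (LP (LK LD1_c3 LD2_c28 LD3_c26)) :=
  Lgr Lrot87 (Lpr_ef (K3.f94083 IH) (Lpn (LP (LK LD1_c3 LD2_c28 LD3_c26))))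
theorem f120932 : Led Lsl_et (LP (LK LD1_c1 LD2_c39 LD3_c12)) = (LP (LK LD1_c1 LD2_c48 LD3_c12)) :=
  Lgr Lrot69 (Lpe (K2.f84677 IH) (Lpe (K2.f19416 IH) (Lpe (K3.f19425 IH) (Lpe (f94085 IH) (Lpr_ff (f120923 IH) (Lpn (LP (LK LD1_c1 LD2_c48 LD3_c12))))))))
theorem f11924 : Led Lsl_ft (LP (LK LD1_c0 LD2_c9 LD3_c14)) = (LP (LK LD1_c0 LD2_c4 LD3_c29)) :=
  Lre_f IH (LK LD1_c0 LD2_c9 LD3_c14) (LK LD1_c0 LD2_c4 LD3_c29) Lrfl Lrfl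
theorem f11925 : Led Lsl_cf (LP (LK LD1_c0 LD2_c9 LD3_c14)) = (LP (LK LD1_c0 LD2_c9 LD3_c42)) :=
  Lgr Lrot108 (Lpr_ft (f11924 IH) (Lpr_ct (K1.f9867 IH) (Lpr_ft (K0.f11917 IH) (Lpn (LP (LK LD1_c0 LD2_c9 LD3_c42))))))
theorem f11921 : Led Lsl_bt (LP (LK LD1_c0 LD2_c9 LD3_c42)) = (LP (LK LD1_c0 LD2_c21 LD3_c27)) :=
  Lre_b IH (LK LD1_c0 LD2_c9 LD3_c42) (LK LD1_c0 LD2_c21 LD3_c27) Lrfl Lrfl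
theorem f12626 : Led Lsl_gt (LP (LK LD1_c0 LD2_c21 LD3_c27)) = (LP (LK LD1_c0 LD2_c47 LD3_c54)) :=
  Lre_g IH (LK LD1_c0 LD2_c21 LD3_c27) (LK LD1_c0 LD2_c47 LD3_c54) Lrfl Lrfl
theorem f12630 : Led Lsl_bt (LP (LK LD1_c1 LD2_c35 LD3_c54)) = (LP (LK LD1_c0 LD2_c47 LD3_c54)) :=
  Lgr Lrot92 (Lpr_ct (f12170 IH) (Lpr_gt (f12169 IH) (Lpe (K3.f12168 IH) (Lpr_bt (K3.f11100 IH) (Lpe (K0.f12157 IH) (Lpr_ct (K3.f12159 IH) (Lpr_gt (K3.f12621 IH) (Lpr_cf (f11925 IH) (Lpr_bt (f11921 IH) (Lpr_gt (f12626 IH) (Lpn (LP (LK LD1_c0 LD2_c47 LD3_c54)))))))))))))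
theorem f12634 : Led Lsl_bf (LP (LK LD1_c1 LD2_c35 LD3_c54)) = (LP (LK LD1_c0 LD2_c47 LD3_c54)) :=
  Lgr Lrot24 (Lpr_bt (f12630 IH) (Lpn (LP (LK LD1_c0 LD2_c47 LD3_c54))))
theorem f12633 : Led Lsl_ct (LP (LK LD1_c0 LD2_c47 LD3_c54)) = (LP (LK LD1_c1 LD2_c42 LD3_c36)) :=
  Lre_c IH (LK LD1_c0 LD2_c47 LD3_c54) (LK LD1_c1 LD2_c42 LD3_c36) Lrfl Lrfl
theorem f84996 : Led Lsl_ct (LP (LK LD1_c0 LD2_c21 LD3_c8)) = (LP (LK LD1_c0 LD2_c47 LD3_c12)) :=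
  Lre_c IH (LK LD1_c0 LD2_c21 LD3_c8) (LK LD1_c0 LD2_c47 LD3_c12) Lrfl Lrfl
theorem f114164 : Led Lsl_gt (LP (LK LD1_c3 LD2_c22 LD3_c50)) = (LP (LK LD1_c1 LD2_c42 LD3_c36)) :=
  Lgr Lrot65 (Lpe (K2.f87481 IH) (Lpr_bt (K2.f87499 IH) (Lpe (K3.f106755 IH) (Lpe (K3.f88777 IH) (Lpr_ct (f84996 IH) (Lpr_gf (K3.f105642 IH) (Lpe (K3.f105732 IH) (Lpr_gf (f114154 IH) (Lpr_bf (f12634 IH) (Lpr_ct (f12633 IH) (Lpn (LP (LK LD1_c1 LD2_c42 LD3_c36)))))))))))))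
theorem f120925 : Led Lsl_gf (LP (LK LD1_c1 LD2_c42 LD3_c46)) = (LP (LK LD1_c1 LD2_c48 LD3_c12)) :=
  Lgr Lrot181 (Lpr_ct (K2.f87481 IH) (Lpr_gt (f114164 IH) (Lpe (f12633 IH) (Lpe (f12634 IH) (Lpe (f114154 IH) (Lpe (K3.f94365 IH) (Lpr_ct (K3.f94364 IH) (Lpe (K3.f106773 IH) (Lpr_cf (K3.f84716 IH) (Lpr_bt (f120915 IH) (Lpn (LP (LK LD1_c1 LD2_c48 LD3_c12)))))))))))))
theorem f87523 : Led Lsl_et (LP (LK LD1_c0 LD2_c47 LD3_c60)) = (LP (LK LD1_c1 LD2_c42 LD3_c46)) :=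
  Lre_e IH (LK LD1_c0 LD2_c47 LD3_c60) (LK LD1_c1 LD2_c42 LD3_c46) Lrfl Lrfl
theorem f120847 : Led Lsl_dt (LP (LK LD1_c0 LD2_c22 LD3_c58)) = (LP (LK LD1_c0 LD2_c50 LD3_c51)) :=
  Lre_d IH (LK LD1_c0 LD2_c22 LD3_c58) (LK LD1_c0 LD2_c50 LD3_c51) Lrfl Lrfl
theorem f120848 : Led Lsl_gt (LP (LK LD1_c0 LD2_c50 LD3_c51)) = (LP (LK LD1_c1 LD2_c48 LD3_c10)) :=
  Lre_g IH (LK LD1_c0 LD2_c50 LD3_c51) (LK LD1_c1 LD2_c48 LD3_c10) Lrfl Lrfl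
theorem f120937 : Led Lsl_dt (LP (LK LD1_c1 LD2_c39 LD3_c12)) = (LP (LK LD1_c1 LD2_c48 LD3_c10)) :=
  Lgr Lrot56 (Lpr_et (f120932 IH) (Lpe (f120925 IH) (Lpe (f87523 IH) (Lpe (K2.f90600 IH) (Lpr_gt (K2.f65871 IH) (Lpe (K2.f5727 IH) (Lpr_et (f85016 IH) (Lpr_gt (f120843 IH) (Lpr_dt (f120847 IH) (Lpr_gt (f120848 IH) (Lpn (LP (LK LD1_c1 LD2_c48 LD3_c10)))))))))))))
theorem f120950 : Led Lsl_cf (LP (LK LD1_c0 LD2_c52 LD3_c53)) = (LP (LK LD1_c1 LD2_c48 LD3_c10)) :=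
  Lgr Lrot14 (Lpe (K3.f64392 IH) (Lpe (K3.f64390 IH) (Lpe (K1.f11441 IH) (Lpr_gf (K1.f11435 IH) (Lpr_ct (K3.f11444 IH) (Lpr_gt (K3.f108814 IH) (Lpe (K3.f108786 IH) (Lpr_gt (K2.f84653 IH) (Lpr_dt (f120937 IH) (Lpn (LP (LK LD1_c1 LD2_c48 LD3_c10))))))))))))
theorem f17294 : Led Lsl_gt (LP (LK LD1_c0 LD2_c24 LD3_c13)) = (LP (LK LD1_c0 LD2_c10 LD3_c48)) :=
  Lre_g IH (LK LD1_c0 LD2_c24 LD3_c13) (LK LD1_c0 LD2_c10 LD3_c48) Lrfl Lrfl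
theorem f90285 : Led Lsl_bt (LP (LK LD1_c0 LD2_c53 LD3_c53)) = (LP (LK LD1_c0 LD2_c24 LD3_c13)) :=
  Lre_b IH (LK LD1_c0 LD2_c53 LD3_c53) (LK LD1_c0 LD2_c24 LD3_c13) Lrfl Lrfl
theorem f120941 : Led Lsl_bf (LP (LK LD1_c0 LD2_c52 LD3_c36)) = (LP (LK LD1_c1 LD2_c48 LD3_c10)) :=
  Lgr Lrot93 (Lpe (K3.f87136 IH) (Lpr_bt (K2.f84675 IH) (Lpr_dt (f120937 IH) (Lpn (LP (LK LD1_c1 LD2_c48 LD3_c10))))))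
theorem f26184 : Led Lsl_dt (LP (LK LD1_c0 LD2_c10 LD3_c20)) = (LP (LK LD1_c0 LD2_c22 LD3_c57)) :=
  Lre_d IH (LK LD1_c0 LD2_c10 LD3_c20) (LK LD1_c0 LD2_c22 LD3_c57) Lrfl Lrfl
theorem f26185 : Led Lsl_bt (LP (LK LD1_c0 LD2_c22 LD3_c57)) = (LP (LK LD1_c0 LD2_c49 LD3_c48)) :=
  Lgr Lrot95 (Lpe (f26184 IH) (Lpr_bf (K3.f26178 IH) (Lpe (K3.f5259 IH) (Lpn (LP (LK LD1_c0 LD2_c49 LD3_c48))))))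
theorem f26197 : Led Lsl_ct (LP (LK LD1_c0 LD2_c22 LD3_c57)) = (LP (LK LD1_c0 LD2_c50 LD3_c48)) :=
  Lre_c IH (LK LD1_c0 LD2_c22 LD3_c57) (LK LD1_c0 LD2_c50 LD3_c48) Lrfl Lrfl
theorem f26198 : Led Lsl_gt (LP (LK LD1_c0 LD2_c50 LD3_c48)) = (LP (LK LD1_c1 LD2_c48 LD3_c4)) :=
  Lre_g IH (LK LD1_c0 LD2_c50 LD3_c48) (LK LD1_c1 LD2_c48 LD3_c4) Lrfl Lrfl
theorem f120964 : Led Lsl_ct (LP (LK LD1_c0 LD2_c53 LD3_c53)) = (LP (LK LD1_c1 LD2_c48 LD3_c4)) :=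
  Lgr Lrot10 (Lpr_bt (f90285 IH) (Lpr_gt (f17294 IH) (Lpr_ct (K0.f11517 IH) (Lpr_gt (K3.f11833 IH) (Lpr_cf (f120950 IH) (Lpe (f120941 IH) (Lpe (K3.f97312 IH) (Lpe (f26185 IH) (Lpr_ct (f26197 IH) (Lpr_gt (f26198 IH) (Lpn (LP (LK LD1_c1 LD2_c48 LD3_c4)))))))))))))
theorem f14589 : Led Lsl_ft (LP (LK LD1_c0 LD2_c9 LD3_c29)) = (LP (LK LD1_c0 LD2_c4 LD3_c26)) :=
  Lre_f IH (LK LD1_c0 LD2_c9 LD3_c29) (LK LD1_c0 LD2_c4 LD3_c26) Lrfl Lrfl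
theorem f14590 : Led Lsl_df (LP (LK LD1_c0 LD2_c9 LD3_c29)) = (LP (LK LD1_c0 LD2_c10 LD3_c48)) :=
  Lgr Lrot78 (Lpr_ft (f14589 IH) (Lpr_dt (K2.f11973 IH) (Lpr_ft (K0.f14574 IH) (Lpn (LP (LK LD1_c0 LD2_c10 LD3_c48))))))
theorem f90242 : Led Lsl_df (LP (LK LD1_c0 LD2_c24 LD3_c13)) = (LP (LK LD1_c0 LD2_c21 LD3_c24)) :=
  Lgr Lrot153 (Lpr_gt (f17294 IH) (Lpe (f14590 IH) (Lpe (K0.f11878 IH) (Lpe (K2.f11879 IH) (Lpe (K2.f11880 IH) (Lpr_df (K2.f90230 IH) (Lpe (K2.f66842 IH) (Lpr_cf (K1.f66827 IH) (Lpe (K2.f19164 IH) (Lpn (LP (LK LD1_c0 LD2_c21 LD3_c24))))))))))))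
theorem f90252 : Led Lsl_bt (LP (LK LD1_c0 LD2_c24 LD3_c13)) = (LP (LK LD1_c0 LD2_c53 LD3_c53)) :=
  Lre_b IH (LK LD1_c0 LD2_c24 LD3_c13) (LK LD1_c0 LD2_c53 LD3_c53) Lrfl Lrfl
theorem f90253 : Led Lsl_dt (LP (LK LD1_c0 LD2_c53 LD3_c53)) = (LP (LK LD1_c0 LD2_c47 LD3_c49)) :=
  Lgr Lrot79 (Lpe (f90252 IH) (Lpr_df (f90242 IH) (Lpe (K2.f12083 IH) (Lpn (LP (LK LD1_c0 LD2_c47 LD3_c49))))))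
theorem f26246 : Led Lsl_dt (LP (LK LD1_c0 LD2_c22 LD3_c56)) = (LP (LK LD1_c0 LD2_c50 LD3_c47)) :=
  Lre_d IH (LK LD1_c0 LD2_c22 LD3_c56) (LK LD1_c0 LD2_c50 LD3_c47) Lrfl Lrfl
theorem f5903 : Led Lsl_bt (LP (LK LD1_c0 LD2_c49 LD3_c15)) = (LP (LK LD1_c0 LD2_c22 LD3_c6)) :=
  Lre_b IH (LK LD1_c0 LD2_c49 LD3_c15) (LK LD1_c0 LD2_c22 LD3_c6) Lrfl Lrfl
theorem f92514 : Led Lsl_dt (LP (LK LD1_c0 LD2_c22 LD3_c29)) = (LP (LK LD1_c0 LD2_c49 LD3_c15)) :=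
  Lgr Lrot79 (Lpe (K3.f5753 IH) (Lpr_df (K2.f92512 IH) (Lpe (f5903 IH) (Lpn (LP (LK LD1_c0 LD2_c49 LD3_c15))))))
theorem f114997 : Led Lsl_gf (LP (LK LD1_c0 LD2_c53 LD3_c53)) = (LP (LK LD1_c0 LD2_c49 LD3_c15)) :=
  Lgr Lrot143 (Lpr_dt (f90253 IH) (Lpe (K2.f12090 IH) (Lpr_df (f114995 IH) (Lpe (f26232 IH) (Lpe (f26246 IH) (Lpe (K3.f26250 IH) (Lpr_cf (K3.f107215 IH) (Lpe (K3.f103587 IH) (Lpr_dt (f92514 IH) (Lpn (LP (LK LD1_c0 LD2_c49 LD3_c15))))))))))))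
theorem f88619 : Led Lsl_bt (LP (LK LD1_c0 LD2_c22 LD3_c6)) = (LP (LK LD1_c0 LD2_c49 LD3_c15)) :=
  Lre_b IH (LK LD1_c0 LD2_c22 LD3_c6) (LK LD1_c0 LD2_c49 LD3_c15) Lrfl Lrfl
theorem f17309 : Led Lsl_cf (LP (LK LD1_c1 LD2_c45 LD3_c13)) = (LP (LK LD1_c1 LD2_c51 LD3_c12)) :=
  Lgr Lrot97 (Lpr_bt (K3.f17307 IH) (Lpr_ct (K3.f6110 IH) (Lpr_bt (K3.f17306 IH) (Lpr_ct (K0.f17303 IH) (Lpr_bt (K3.f17308 IH) (Lpn (LP (LK LD1_c1 LD2_c51 LD3_c12))))))))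
theorem f17409 : Led Lsl_bt (LP (LK LD1_c1 LD2_c51 LD3_c12)) = (LP (LK LD1_c0 LD2_c52 LD3_c28)) :=
  Lre_b IH (LK LD1_c1 LD2_c51 LD3_c12) (LK LD1_c0 LD2_c52 LD3_c28) Lrfl Lrfl
theorem f92650 : Led Lsl_bt (LP (LK LD1_c1 LD2_c52 LD3_c16)) = (LP (LK LD1_c0 LD2_c52 LD3_c53)) :=
  Lre_b IH (LK LD1_c1 LD2_c52 LD3_c16) (LK LD1_c0 LD2_c52 LD3_c53) Lrfl Lrfl
theorem f97911 : Led Lsl_cf (LP (LK LD1_c3 LD2_c36 LD3_c33)) = (LP (LK LD1_c1 LD2_c52 LD3_c16)) :=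
  Lgr Lrot160 (Lpr_gt (K3.f97907 IH) (Lpr_cf (f17309 IH) (Lpr_bt (f17409 IH) (Lpr_gt (K3.f92644 IH) (Lpr_ct (K2.f84982 IH) (Lpr_gt (K2.f11526 IH) (Lpe (K1.f11855 IH) (Lpr_bt (f11854 IH) (Lpr_gt (K3.f11833 IH) (Lpe (f92650 IH) (Lpn (LP (LK LD1_c1 LD2_c52 LD3_c16)))))))))))))
theorem f10242 : Led Lsl_bt (LP (LK LD1_c3 LD2_c36 LD3_c33)) = (LP (LK LD1_c1 LD2_c45 LD3_c8)) :=
  Lre_b IH (LK LD1_c3 LD2_c36 LD3_c33) (LK LD1_c1 LD2_c45 LD3_c8) Lrfl Lrfl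
theorem f120954 : Led Lsl_bt (LP (LK LD1_c0 LD2_c52 LD3_c36)) = (LP (LK LD1_c1 LD2_c48 LD3_c10)) :=
  Lgr Lrot128 (Lpe (K3.f97022 IH) (Lpe (f10242 IH) (Lpr_cf (f97911 IH) (Lpe (K3.f97739 IH) (Lpr_cf (f120950 IH) (Lpn (LP (LK LD1_c1 LD2_c48 LD3_c10))))))))
theorem f120962 : Led Lsl_bt (LP (LK LD1_c0 LD2_c22 LD3_c60)) = (LP (LK LD1_c0 LD2_c50 LD3_c51)) :=
  Lre_b IH (LK LD1_c0 LD2_c22 LD3_c60) (LK LD1_c0 LD2_c50 LD3_c51) Lrfl Lrfl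
theorem f120963 : Led Lsl_ct (LP (LK LD1_c0 LD2_c22 LD3_c60)) = (LP (LK LD1_c0 LD2_c50 LD3_c55)) :=
  Lre_c IH (LK LD1_c0 LD2_c22 LD3_c60) (LK LD1_c0 LD2_c50 LD3_c55) Lrfl Lrfl
theorem f120979 : Led Lsl_gf (LP (LK LD1_c0 LD2_c50 LD3_c55)) = (LP (LK LD1_c1 LD2_c48 LD3_c4)) :=
  Lgr Lrot129 (Lpe (f120963 IH) (Lpr_bt (f120962 IH) (Lpr_gt (f120848 IH) (Lpe (f120954 IH) (Lpe (K3.f97012 IH) (Lpr_gt (K3.f10236 IH) (Lpe (K3.f5901 IH) (Lpr_bt (f88619 IH) (Lpe (f114997 IH) (Lpr_ct (f120964 IH) (Lpn (LP (LK LD1_c1 LD2_c48 LD3_c4)))))))))))))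
theorem f120982 : Led Lsl_ct (LP (LK LD1_c0 LD2_c50 LD3_c55)) = (LP (LK LD1_c0 LD2_c22 LD3_c60)) :=
  Lre_c IH (LK LD1_c0 LD2_c50 LD3_c55) (LK LD1_c0 LD2_c22 LD3_c60) Lrfl Lrfl
theorem f108152 : Led Lsl_bt (LP (LK LD1_c3 LD2_c42 LD3_c9)) = (LP (LK LD1_c1 LD2_c48 LD3_c4)) :=
  Lre_b IH (LK LD1_c3 LD2_c42 LD3_c9) (LK LD1_c1 LD2_c48 LD3_c4) Lrfl Lrfl
theorem f65965 : Led Lsl_ct (LP (LK LD1_c0 LD2_c53 LD3_c54)) = (LP (LK LD1_c0 LD2_c24 LD3_c13)) :=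
  Lre_c IH (LK LD1_c0 LD2_c53 LD3_c54) (LK LD1_c0 LD2_c24 LD3_c13) Lrfl Lrfl
theorem f120966 : Led Lsl_bt (LP (LK LD1_c1 LD2_c54 LD3_c30)) = (LP (LK LD1_c0 LD2_c53 LD3_c54)) :=
  Lre_b IH (LK LD1_c1 LD2_c54 LD3_c30) (LK LD1_c0 LD2_c53 LD3_c54) Lrfl Lrfl
theorem f120967 : Led Lsl_bt (LP (LK LD1_c1 LD2_c48 LD3_c4)) = (LP (LK LD1_c3 LD2_c42 LD3_c9)) :=
  Lre_b IH (LK LD1_c1 LD2_c48 LD3_c4) (LK LD1_c3 LD2_c42 LD3_c9) Lrfl Lrfl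
theorem f120968 : Led Lsl_cf (LP (LK LD1_c1 LD2_c54 LD3_c30)) = (LP (LK LD1_c3 LD2_c42 LD3_c9)) :=
  Lgr Lrot97 (Lpr_bt (f120966 IH) (Lpr_ct (f65965 IH) (Lpr_bt (f90252 IH) (Lpr_ct (f120964 IH) (Lpr_bt (f120967 IH) (Lpn (LP (LK LD1_c3 LD2_c42 LD3_c9))))))))
theorem f65966 : Led Lsl_bt (LP (LK LD1_c0 LD2_c53 LD3_c54)) = (LP (LK LD1_c1 LD2_c54 LD3_c30)) :=
  Lre_b IH (LK LD1_c0 LD2_c53 LD3_c54) (LK LD1_c1 LD2_c54 LD3_c30) Lrfl Lrfl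
theorem f96137 : Led Lsl_bt (LP (LK LD1_c1 LD2_c50 LD3_c36)) = (LP (LK LD1_c3 LD2_c46 LD3_c59)) :=
  Lre_b IH (LK LD1_c1 LD2_c50 LD3_c36) (LK LD1_c3 LD2_c46 LD3_c59) Lrfl Lrfl
theorem f96138 : Led Lsl_gf (LP (LK LD1_c1 LD2_c54 LD3_c30)) = (LP (LK LD1_c3 LD2_c46 LD3_c59)) :=
  Lgr Lrot124 (Lpe (f65966 IH) (Lpr_ct (f65965 IH) (Lpr_gt (f17294 IH) (Lpe (K0.f11515 IH) (Lpr_bt (K1.f12329 IH) (Lpr_gt (K1.f11542 IH) (Lpr_ct (K2.f64262 IH) (Lpe (K3.f65960 IH) (Lpr_cf (K3.f96122 IH) (Lpr_bt (f96137 IH) (Lpn (LP (LK LD1_c3 LD2_c46 LD3_c59)))))))))))))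
theorem f23654 : Led Lsl_dt (LP (LK LD1_c1 LD2_c33 LD3_c19)) = (LP (LK LD1_c0 LD2_c43 LD3_c16)) :=
  Lre_d IH (LK LD1_c1 LD2_c33 LD3_c19) (LK LD1_c0 LD2_c43 LD3_c16) Lrfl Lrfl
theorem f23656 : Led Lsl_bf (LP (LK LD1_c1 LD2_c33 LD3_c19)) = (LP (LK LD1_c1 LD2_c34 LD3_c21)) :=
  Lgr Lrot93 (Lpr_dt (f23654 IH) (Lpr_bt (K0.f23599 IH) (Lpr_dt (K3.f23655 IH) (Lpn (LP (LK LD1_c1 LD2_c34 LD3_c21))))))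
theorem f95830 : Led Lsl_et (LP (LK LD1_c3 LD2_c13 LD3_c32)) = (LP (LK LD1_c6 LD2_c30 LD3_c43)) :=
  Lre_e IH (LK LD1_c3 LD2_c13 LD3_c32) (LK LD1_c6 LD2_c30 LD3_c43) Lrfl Lrfl
theorem f95831 : Led Lsl_bt (LP (LK LD1_c6 LD2_c30 LD3_c43)) = (LP (LK LD1_c6 LD2_c33 LD3_c61)) :=
  Lgr Lrot119 (Lpe (f95830 IH) (Lpr_bf (K3.f95825 IH) (Lpe (K3.f95185 IH) (Lpn (LP (LK LD1_c6 LD2_c33 LD3_c61))))))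
theorem f95835 : Led Lsl_dt (LP (LK LD1_c3 LD2_c13 LD3_c31)) = (LP (LK LD1_c6 LD2_c30 LD3_c43)) :=
  Lre_d IH (LK LD1_c3 LD2_c13 LD3_c31) (LK LD1_c6 LD2_c30 LD3_c43) Lrfl Lrfl
theorem f95836 : Led Lsl_bf (LP (LK LD1_c3 LD2_c13 LD3_c31)) = (LP (LK LD1_c3 LD2_c15 LD3_c19)) :=
  Lgr Lrot93 (Lpr_dt (f95835 IH) (Lpr_bt (f95831 IH) (Lpr_dt (K3.f95186 IH) (Lpn (LP (LK LD1_c3 LD2_c15 LD3_c19))))))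
theorem f95840 : Led Lsl_et (LP (LK LD1_c3 LD2_c13 LD3_c31)) = (LP (LK LD1_c1 LD2_c33 LD3_c19)) :=
  Lre_e IH (LK LD1_c3 LD2_c13 LD3_c31) (LK LD1_c1 LD2_c33 LD3_c19) Lrfl Lrfl
theorem f95841 : Led Lsl_bt (LP (LK LD1_c1 LD2_c33 LD3_c19)) = (LP (LK LD1_c1 LD2_c34 LD3_c21)) :=
  Lgr Lrot119 (Lpe (f95840 IH) (Lpr_bf (f95836 IH) (Lpe (K3.f94535 IH) (Lpn (LP (LK LD1_c1 LD2_c34 LD3_c21))))))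
theorem f12180 : Led Lsl_bt (LP (LK LD1_c0 LD2_c10 LD3_c44)) = (LP (LK LD1_c0 LD2_c4 LD3_c61)) :=
  Lre_b IH (LK LD1_c0 LD2_c10 LD3_c44) (LK LD1_c0 LD2_c4 LD3_c61) Lrfl Lrfl
theorem f90079 : Led Lsl_ct (LP (LK LD1_c0 LD2_c10 LD3_c44)) = (LP (LK LD1_c0 LD2_c24 LD3_c1)) :=
  Lre_c IH (LK LD1_c0 LD2_c10 LD3_c44) (LK LD1_c0 LD2_c24 LD3_c1) Lrfl Lrfl
theorem f84773 : Led Lsl_gt (LP (LK LD1_c0 LD2_c24 LD3_c1)) = (LP (LK LD1_c0 LD2_c53 LD3_c25)) :=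
  Lre_g IH (LK LD1_c0 LD2_c24 LD3_c1) (LK LD1_c0 LD2_c53 LD3_c25) Lrfl Lrfl
theorem f95851 : Led Lsl_ct (LP (LK LD1_c1 LD2_c33 LD3_c19)) = (LP (LK LD1_c0 LD2_c53 LD3_c25)) :=
  Lgr Lrot10 (Lpr_bt (f95841 IH) (Lpr_gt (K3.f12331 IH) (Lpr_ct (K0.f12193 IH) (Lpr_gt (K0.f12192 IH) (Lpe (K0.f11541 IH) (Lpr_bt (K0.f11251 IH) (Lpr_gt (K0.f11511 IH) (Lpe (f12180 IH) (Lpr_ct (f90079 IH) (Lpr_gt (f84773 IH) (Lpn (LP (LK LD1_c0 LD2_c53 LD3_c25)))))))))))))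
theorem f95853 : Led Lsl_bt (LP (LK LD1_c0 LD2_c53 LD3_c25)) = (LP (LK LD1_c1 LD2_c53 LD3_c40)) :=
  Lre_b IH (LK LD1_c0 LD2_c53 LD3_c25) (LK LD1_c1 LD2_c53 LD3_c40) Lrfl Lrfl
theorem f88621 : Led Lsl_bt (LP (LK LD1_c3 LD2_c46 LD3_c59)) = (LP (LK LD1_c1 LD2_c50 LD3_c36)) :=
  Lre_b IH (LK LD1_c3 LD2_c46 LD3_c59) (LK LD1_c1 LD2_c50 LD3_c36) Lrfl Lrfl
theorem f96125 : Led Lsl_ct (LP (LK LD1_c1 LD2_c53 LD3_c40)) = (LP (LK LD1_c3 LD2_c46 LD3_c59)) :=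
  Lgr Lrot83 (Lpe (f95853 IH) (Lpe (f95851 IH) (Lpr_bf (f23656 IH) (Lpr_cf (K3.f96122 IH) (Lpe (f88621 IH) (Lpn (LP (LK LD1_c3 LD2_c46 LD3_c59))))))))
theorem f95893 : Led Lsl_bt (LP (LK LD1_c1 LD2_c53 LD3_c40)) = (LP (LK LD1_c0 LD2_c53 LD3_c25)) :=
  Lre_b IH (LK LD1_c1 LD2_c53 LD3_c40) (LK LD1_c0 LD2_c53 LD3_c25) Lrfl Lrfl
theorem f12181 : Led Lsl_ct (LP (LK LD1_c0 LD2_c24 LD3_c1)) = (LP (LK LD1_c0 LD2_c10 LD3_c44)) :=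
  Lre_c IH (LK LD1_c0 LD2_c24 LD3_c1) (LK LD1_c0 LD2_c10 LD3_c44) Lrfl Lrfl
theorem f12182 : Led Lsl_bf (LP (LK LD1_c0 LD2_c24 LD3_c1)) = (LP (LK LD1_c0 LD2_c24 LD3_c7)) :=
  Lgr Lrot90 (Lpr_ct (f12181 IH) (Lpr_bt (f12180 IH) (Lpr_ct (K0.f12149 IH) (Lpr_bt (K2.f12143 IH) (Lpr_ct (K2.f11266 IH) (Lpn (LP (LK LD1_c0 LD2_c24 LD3_c7))))))))
theorem f120987 : Led Lsl_gt (LP (LK LD1_c0 LD2_c22 LD3_c60)) = (LP (LK LD1_c0 LD2_c10 LD3_c46)) :=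
  Lgr Lrot149 (Lpe (f120982 IH) (Lpr_gf (f120979 IH) (Lpe (f108152 IH) (Lpe (f120968 IH) (Lpr_gf (f96138 IH) (Lpe (f96125 IH) (Lpr_bt (f95893 IH) (Lpe (f84773 IH) (Lpr_bf (f12182 IH) (Lpr_ct (K2.f11655 IH) (Lpn (LP (LK LD1_c0 LD2_c10 LD3_c46)))))))))))))
theorem f120983 : Led Lsl_dt (LP (LK LD1_c0 LD2_c22 LD3_c60)) = (LP (LK LD1_c0 LD2_c10 LD3_c21)) :=
  Lre_d IH (LK LD1_c0 LD2_c22 LD3_c60) (LK LD1_c0 LD2_c10 LD3_c21) Lrfl Lrfl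
theorem f120818 : Led Lsl_ct (LP (LK LD1_c0 LD2_c23 LD3_c3)) = (LP (LK LD1_c0 LD2_c46 LD3_c17)) :=
  Lgr Lrot59 (Lpr_cf (f120812 IH) (Lpn (LP (LK LD1_c0 LD2_c46 LD3_c17))))
theorem f107563 : Led Lsl_dt (LP (LK LD1_c0 LD2_c46 LD3_c17)) = (LP (LK LD1_c1 LD2_c39 LD3_c33)) :=
  Lre_d IH (LK LD1_c0 LD2_c46 LD3_c17) (LK LD1_c1 LD2_c39 LD3_c33) Lrfl Lrfl
theorem f11267 : Led Lsl_gt (LP (LK LD1_c0 LD2_c24 LD3_c7)) = (LP (LK LD1_c0 LD2_c53 LD3_c38)) :=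
  Lre_g IH (LK LD1_c0 LD2_c24 LD3_c7) (LK LD1_c0 LD2_c53 LD3_c38) Lrfl Lrfl
theorem f121000 : Led Lsl_cf (LP (LK LD1_c1 LD2_c39 LD3_c33)) = (LP (LK LD1_c0 LD2_c53 LD3_c38)) :=
  Lgr Lrot99 (Lpe (f107563 IH) (Lpe (f120818 IH) (Lpe (K3.f11294 IH) (Lpe (f11293 IH) (Lpe (f12898 IH) (Lpe (f120983 IH) (Lpr_gt (f120987 IH) (Lpr_ct (K2.f11266 IH) (Lpr_gt (f11267 IH) (Lpn (LP (LK LD1_c0 LD2_c53 LD3_c38))))))))))))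
theorem f121010 : Led Lsl_ct (LP (LK LD1_c1 LD2_c39 LD3_c33)) = (LP (LK LD1_c0 LD2_c53 LD3_c38)) :=
  Lgr Lrot59 (Lpr_cf (f121000 IH) (Lpn (LP (LK LD1_c0 LD2_c53 LD3_c38))))
theorem f11261 : Led Lsl_bt (LP (LK LD1_c0 LD2_c10 LD3_c42)) = (LP (LK LD1_c0 LD2_c5 LD3_c3)) :=
  Lre_b IH (LK LD1_c0 LD2_c10 LD3_c42) (LK LD1_c0 LD2_c5 LD3_c3) Lrfl Lrfl
theorem f121207 : Led Lsl_bt (LP (LK LD1_c1 LD2_c39 LD3_c33)) = (LP (LK LD1_c1 LD2_c39 LD3_c19)) :=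
  Lgr Lrot130 (Lpr_ct (f121010 IH) (Lpe (f11267 IH) (Lpe (K2.f11266 IH) (Lpr_bt (K2.f11265 IH) (Lpr_gf (K0.f11259 IH) (Lpe (f11261 IH) (Lpr_ct (K3.f9880 IH) (Lpe (K3.f11264 IH) (Lpe (K3.f15068 IH) (Lpe (K3.f110214 IH) (Lpn (LP (LK LD1_c1 LD2_c39 LD3_c19)))))))))))))
theorem f107180 : Led Lsl_at (LP (LK LD1_c1 LD2_c34 LD3_c21)) = (LP (LK LD1_c0 LD2_c49 LD3_c18)) :=
  Lgr Lrot100 (Lpr_af (K3.f107171 IH) (Lpn (LP (LK LD1_c0 LD2_c49 LD3_c18))))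
theorem f110221 : Led Lsl_ft (LP (LK LD1_c1 LD2_c39 LD3_c19)) = (LP (LK LD1_c1 LD2_c34 LD3_c21)) :=
  Lgr Lrot2 (Lpr_gt (K3.f110214 IH) (Lpr_gt (K3.f95138 IH) (Lpe (f107180 IH) (Lpn (LP (LK LD1_c1 LD2_c34 LD3_c21))))))
theorem f121213 : Led Lsl_ff (LP (LK LD1_c1 LD2_c39 LD3_c33)) = (LP (LK LD1_c1 LD2_c33 LD3_c19)) :=
  Lgr Lrot25 (Lpr_bt (f121207 IH) (Lpr_ft (f110221 IH) (Lpe (f23656 IH) (Lpn (LP (LK LD1_c1 LD2_c33 LD3_c19))))))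
theorem f121219 : Led Lsl_ft (LP (LK LD1_c1 LD2_c39 LD3_c33)) = (LP (LK LD1_c1 LD2_c33 LD3_c19)) :=
  Lgr Lrot48 (Lpr_ff (f121213 IH) (Lpn (LP (LK LD1_c1 LD2_c33 LD3_c19))))
theorem f5809 : Led Lsl_ct (LP (LK LD1_c0 LD2_c23 LD3_c4)) = (LP (LK LD1_c0 LD2_c22 LD3_c19)) :=
  Lre_c IH (LK LD1_c0 LD2_c23 LD3_c4) (LK LD1_c0 LD2_c22 LD3_c19) Lrfl Lrfl
theorem f107066 : Led Lsl_af (LP (LK LD1_c0 LD2_c43 LD3_c16)) = (LP (LK LD1_c0 LD2_c22 LD3_c19)) :=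
  Lgr Lrot68 (Lpr_ct (K0.f23666 IH) (Lpr_at (K3.f107062 IH) (Lpr_ct (f5809 IH) (Lpn (LP (LK LD1_c0 LD2_c22 LD3_c19))))))
theorem f23677 : Led Lsl_dt (LP (LK LD1_c0 LD2_c43 LD3_c16)) = (LP (LK LD1_c1 LD2_c33 LD3_c19)) :=
  Lre_d IH (LK LD1_c0 LD2_c43 LD3_c16) (LK LD1_c1 LD2_c33 LD3_c19) Lrfl Lrfl
theorem f107568 : Led Lsl_at (LP (LK LD1_c1 LD2_c33 LD3_c19)) = (LP (LK LD1_c0 LD2_c48 LD3_c17)) :=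
  Lgr Lrot51 (Lpe (f23677 IH) (Lpr_af (f107066 IH) (Lpr_df (K3.f107566 IH) (Lpn (LP (LK LD1_c0 LD2_c48 LD3_c17))))))
theorem f121227 : Led Lsl_gt (LP (LK LD1_c1 LD2_c39 LD3_c33)) = (LP (LK LD1_c1 LD2_c42 LD3_c40)) :=
  Lgr Lrot5 (Lpr_ft (f121219 IH) (Lpr_at (f107568 IH) (Lpe (K2.f84760 IH) (Lpn (LP (LK LD1_c1 LD2_c42 LD3_c40))))))
theorem f109453 : Led Lsl_dt (LP (LK LD1_c1 LD2_c39 LD3_c33)) = (LP (LK LD1_c0 LD2_c46 LD3_c17)) :=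
  Lre_d IH (LK LD1_c1 LD2_c39 LD3_c33) (LK LD1_c0 LD2_c46 LD3_c17) Lrfl Lrfl
theorem f4899 : Led Lsl_dt (LP (LK LD1_c0 LD2_c10 LD3_c15)) = (LP (LK LD1_c0 LD2_c22 LD3_c43)) :=
  Lre_d IH (LK LD1_c0 LD2_c10 LD3_c15) (LK LD1_c0 LD2_c22 LD3_c43) Lrfl Lrfl
theorem f12354 : Led Lsl_bt (LP (LK LD1_c0 LD2_c22 LD3_c43)) = (LP (LK LD1_c0 LD2_c50 LD3_c0)) :=
  Lgr Lrot95 (Lpe (f4899 IH) (Lpr_bf (K1.f12343 IH) (Lpe (K2.f5245 IH) (Lpn (LP (LK LD1_c0 LD2_c50 LD3_c0))))))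
theorem f12369 : Led Lsl_ct (LP (LK LD1_c0 LD2_c22 LD3_c43)) = (LP (LK LD1_c0 LD2_c50 LD3_c18)) :=
  Lre_c IH (LK LD1_c0 LD2_c22 LD3_c43) (LK LD1_c0 LD2_c50 LD3_c18) Lrfl Lrfl
theorem f12370 : Led Lsl_gt (LP (LK LD1_c1 LD2_c47 LD3_c0)) = (LP (LK LD1_c0 LD2_c50 LD3_c18)) :=
  Lre_g IH (LK LD1_c1 LD2_c47 LD3_c0) (LK LD1_c0 LD2_c50 LD3_c18) Lrfl Lrfl
theorem f84927 : Led Lsl_bt (LP (LK LD1_c1 LD2_c42 LD3_c40)) = (LP (LK LD1_c0 LD2_c52 LD3_c46)) :=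
  Lgr Lrot127 (Lpr_bf (K2.f84922 IH) (Lpn (LP (LK LD1_c0 LD2_c52 LD3_c46))))
theorem f96331 : Led Lsl_cf (LP (LK LD1_c1 LD2_c47 LD3_c0)) = (LP (LK LD1_c1 LD2_c42 LD3_c40)) :=
  Lgr Lrot160 (Lpr_gt (f12370 IH) (Lpe (f12369 IH) (Lpr_bt (f12354 IH) (Lpr_gt (K3.f87159 IH) (Lpr_ct (K2.f11528 IH) (Lpe (K3.f96329 IH) (Lpe (K3.f10461 IH) (Lpr_bt (K3.f89728 IH) (Lpr_gt (K3.f96192 IH) (Lpe (f84927 IH) (Lpn (LP (LK LD1_c1 LD2_c42 LD3_c40)))))))))))))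
theorem f12359 : Led Lsl_ct (LP (LK LD1_c0 LD2_c50 LD3_c18)) = (LP (LK LD1_c0 LD2_c22 LD3_c43)) :=
  Lre_c IH (LK LD1_c0 LD2_c50 LD3_c18) (LK LD1_c0 LD2_c22 LD3_c43) Lrfl Lrfl
theorem f12419 : Led Lsl_ct (LP (LK LD1_c0 LD2_c22 LD3_c42)) = (LP (LK LD1_c0 LD2_c10 LD3_c15)) :=
  Lre_c IH (LK LD1_c0 LD2_c22 LD3_c42) (LK LD1_c0 LD2_c10 LD3_c15) Lrfl Lrfl
theorem f12569 : Led Lsl_gt (LP (LK LD1_c0 LD2_c50 LD3_c15)) = (LP (LK LD1_c0 LD2_c22 LD3_c42)) :=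
  Lre_g IH (LK LD1_c0 LD2_c50 LD3_c15) (LK LD1_c0 LD2_c22 LD3_c42) Lrfl Lrfl
theorem f14668 : Led Lsl_bf (LP (LK LD1_c0 LD2_c10 LD3_c27)) = (LP (LK LD1_c0 LD2_c10 LD3_c27)) :=
  Lgr Lrot93 (Lpr_dt (K2.f14666 IH) (Lpr_bt (K0.f14651 IH) (Lpr_dt (K1.f14667 IH) (Lpn (LP (LK LD1_c0 LD2_c10 LD3_c27))))))
theorem f14708 : Led Lsl_bt (LP (LK LD1_c0 LD2_c10 LD3_c33)) = (LP (LK LD1_c0 LD2_c4 LD3_c57)) :=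
  Lre_b IH (LK LD1_c0 LD2_c10 LD3_c33) (LK LD1_c0 LD2_c4 LD3_c57) Lrfl Lrfl
theorem f107198 : Led Lsl_gf (LP (LK LD1_c0 LD2_c22 LD3_c23)) = (LP (LK LD1_c0 LD2_c23 LD3_c30)) :=
  Lgr Lrot126 (Lpe (K3.f5257 IH) (Lpr_bt (K3.f26248 IH) (Lpr_gt (K3.f107192 IH) (Lpr_ct (K3.f14706 IH) (Lpr_gt (K0.f14705 IH) (Lpe (K1.f14684 IH) (Lpe (f14668 IH) (Lpr_gt (K1.f14692 IH) (Lpe (f14708 IH) (Lpe (K3.f98602 IH) (Lpn (LP (LK LD1_c0 LD2_c23 LD3_c30)))))))))))))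
theorem f94670 : Led Lsl_gt (LP (LK LD1_c0 LD2_c22 LD3_c32)) = (LP (LK LD1_c0 LD2_c10 LD3_c33)) :=
  Lgr Lrot46 (Lpr_gf (K3.f94668 IH) (Lpe (K3.f5781 IH) (Lpr_at (K3.f5780 IH) (Lpn (LP (LK LD1_c0 LD2_c10 LD3_c33))))))
theorem f107200 : Led Lsl_cf (LP (LK LD1_c0 LD2_c50 LD3_c15)) = (LP (LK LD1_c0 LD2_c43 LD3_c53)) :=
  Lgr Lrot160 (Lpr_gt (f12569 IH) (Lpe (K1.f12339 IH) (Lpr_bt (K3.f12350 IH) (Lpr_gt (f94670 IH) (Lpe (K3.f98602 IH) (Lpe (f107198 IH) (Lpe (K3.f5257 IH) (Lpr_bt (K3.f26248 IH) (Lpr_gt (K3.f107192 IH) (Lpe (K3.f23334 IH) (Lpn (LP (LK LD1_c0 LD2_c43 LD3_c53)))))))))))))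
theorem f121231 : Led Lsl_gt (LP (LK LD1_c0 LD2_c46 LD3_c17)) = (LP (LK LD1_c0 LD2_c43 LD3_c53)) :=
  Lgr Lrot9 (Lpe (f109453 IH) (Lpr_gt (f121227 IH) (Lpe (f96331 IH) (Lpr_gt (f12370 IH) (Lpr_ct (f12359 IH) (Lpe (f4899 IH) (Lpe (f12419 IH) (Lpe (f12569 IH) (Lpr_cf (f107200 IH) (Lpn (LP (LK LD1_c0 LD2_c43 LD3_c53))))))))))))
theorem f121217 : Led Lsl_ft (LP (LK LD1_c0 LD2_c46 LD3_c17)) = (LP (LK LD1_c0 LD2_c43 LD3_c16)) :=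
  Lgr Lrot54 (Lpe (f109453 IH) (Lpr_ff (f121213 IH) (Lpe (f23677 IH) (Lpn (LP (LK LD1_c0 LD2_c43 LD3_c16))))))
theorem f121233 : Led Lsl_at (LP (LK LD1_c0 LD2_c43 LD3_c16)) = (LP (LK LD1_c0 LD2_c22 LD3_c19)) :=
  Lgr Lrot26 (Lpe (f121217 IH) (Lpr_gt (f121231 IH) (Lpr_gt (K3.f65390 IH) (Lpn (LP (LK LD1_c0 LD2_c22 LD3_c19))))))
theorem f12575 : Led Lsl_dt (LP (LK LD1_c0 LD2_c46 LD3_c20)) = (LP (LK LD1_c0 LD2_c20 LD3_c48)) :=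
  Lre_d IH (LK LD1_c0 LD2_c46 LD3_c20) (LK LD1_c0 LD2_c20 LD3_c48) Lrfl Lrfl
theorem f13389 : Led Lsl_dt (LP (LK LD1_c0 LD2_c23 LD3_c9)) = (LP (LK LD1_c0 LD2_c51 LD3_c20)) :=
  Lre_d IH (LK LD1_c0 LD2_c23 LD3_c9) (LK LD1_c0 LD2_c51 LD3_c20) Lrfl Lrfl
theorem f12926 : Led Lsl_gt (LP (LK LD1_c0 LD2_c51 LD3_c20)) = (LP (LK LD1_c1 LD2_c49 LD3_c6)) :=
  Lre_g IH (LK LD1_c0 LD2_c51 LD3_c20) (LK LD1_c1 LD2_c49 LD3_c6) Lrfl Lrfl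
theorem f121015 : Led Lsl_dt (LP (LK LD1_c1 LD2_c49 LD3_c6)) = (LP (LK LD1_c0 LD2_c53 LD3_c38)) :=
  Lgr Lrot105 (Lpe (f12926 IH) (Lpe (f13389 IH) (Lpe (f11305 IH) (Lpr_cf (f97284 IH) (Lpr_gt (K3.f109441 IH) (Lpr_dt (f12575 IH) (Lpr_gt (f12568 IH) (Lpr_dt (f107563 IH) (Lpr_cf (f121000 IH) (Lpn (LP (LK LD1_c0 LD2_c53 LD3_c38))))))))))))
theorem f121023 : Led Lsl_df (LP (LK LD1_c1 LD2_c49 LD3_c6)) = (LP (LK LD1_c0 LD2_c53 LD3_c38)) :=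
  Lgr Lrot38 (Lpr_dt (f121015 IH) (Lpn (LP (LK LD1_c0 LD2_c53 LD3_c38))))
theorem f5810 : Led Lsl_dt (LP (LK LD1_c0 LD2_c51 LD3_c4)) = (LP (LK LD1_c0 LD2_c23 LD3_c4)) :=
  Lre_d IH (LK LD1_c0 LD2_c51 LD3_c4) (LK LD1_c0 LD2_c23 LD3_c4) Lrfl Lrfl
theorem f107059 : Led Lsl_ct (LP (LK LD1_c1 LD2_c48 LD3_c36)) = (LP (LK LD1_c0 LD2_c51 LD3_c4)) :=
  Lre_c IH (LK LD1_c1 LD2_c48 LD3_c36) (LK LD1_c0 LD2_c51 LD3_c4) Lrfl Lrfl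
theorem f108892 : Led Lsl_dt (LP (LK LD1_c3 LD2_c43 LD3_c4)) = (LP (LK LD1_c1 LD2_c48 LD3_c36)) :=
  Lre_d IH (LK LD1_c3 LD2_c43 LD3_c4) (LK LD1_c1 LD2_c48 LD3_c36) Lrfl Lrfl
theorem f121247 : Led Lsl_ct (LP (LK LD1_c1 LD2_c49 LD3_c6)) = (LP (LK LD1_c3 LD2_c43 LD3_c4)) :=
  Lgr Lrot41 (Lpr_df (f121023 IH) (Lpe (f121010 IH) (Lpe (f107563 IH) (Lpr_ft (f121217 IH) (Lpr_at (f121233 IH) (Lpe (f5809 IH) (Lpe (f5810 IH) (Lpe (f107059 IH) (Lpe (f108892 IH) (Lpn (LP (LK LD1_c3 LD2_c43 LD3_c4))))))))))))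
theorem f107056 : Led Lsl_at (LP (LK LD1_c0 LD2_c43 LD3_c17)) = (LP (LK LD1_c0 LD2_c51 LD3_c4)) :=
  Lgr Lrot100 (Lpr_af (K3.f107050 IH) (Lpn (LP (LK LD1_c0 LD2_c51 LD3_c4))))
theorem f121257 : Led Lsl_ft (LP (LK LD1_c0 LD2_c51 LD3_c2)) = (LP (LK LD1_c0 LD2_c43 LD3_c17)) :=
  Lgr Lrot142 (Lpr_dt (f120811 IH) (Lpr_ct (f120818 IH) (Lpr_dt (f107563 IH) (Lpr_ct (f121010 IH) (Lpe (f121023 IH) (Lpr_ct (f121247 IH) (Lpr_dt (f108892 IH) (Lpr_ct (f107059 IH) (Lpe (f107056 IH) (Lpn (LP (LK LD1_c0 LD2_c43 LD3_c17))))))))))))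
theorem f121267 : Led Lsl_ff (LP (LK LD1_c0 LD2_c51 LD3_c2)) = (LP (LK LD1_c0 LD2_c43 LD3_c17)) :=
  Lgr Lrot3 (Lpr_ft (f121257 IH) (Lpn (LP (LK LD1_c0 LD2_c43 LD3_c17))))
theorem f23601 : Led Lsl_dt (LP (LK LD1_c0 LD2_c19 LD3_c19)) = (LP (LK LD1_c0 LD2_c43 LD3_c17)) :=
  Lre_d IH (LK LD1_c0 LD2_c19 LD3_c19) (LK LD1_c0 LD2_c43 LD3_c17) Lrfl Lrfl
theorem f121273 : Led Lsl_ft (LP (LK LD1_c0 LD2_c23 LD3_c3)) = (LP (LK LD1_c0 LD2_c19 LD3_c19)) :=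
  Lgr Lrot54 (Lpe (f120811 IH) (Lpr_ff (f121267 IH) (Lpe (f23601 IH) (Lpn (LP (LK LD1_c0 LD2_c19 LD3_c19))))))
theorem f23605 : Led Lsl_et (LP (LK LD1_c0 LD2_c19 LD3_c19)) = (LP (LK LD1_c0 LD2_c43 LD3_c18)) :=
  Lre_e IH (LK LD1_c0 LD2_c19 LD3_c19) (LK LD1_c0 LD2_c43 LD3_c18) Lrfl Lrfl
theorem f109174 : Led Lsl_ff (LP (LK LD1_c1 LD2_c26 LD3_c24)) = (LP (LK LD1_c0 LD2_c43 LD3_c18)) :=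
  Lgr Lrot23 (Lpr_ct (K3.f109164 IH) (Lpe (K3.f95934 IH) (Lpr_ct (K3.f95757 IH) (Lpn (LP (LK LD1_c0 LD2_c43 LD3_c18))))))
theorem f82438 : Led Lsl_et (LP (LK LD1_c1 LD2_c26 LD3_c24)) = (LP (LK LD1_c0 LD2_c39 LD3_c58)) :=
  Lre_e IH (LK LD1_c1 LD2_c26 LD3_c24) (LK LD1_c0 LD2_c39 LD3_c58) Lrfl Lrfl
theorem f84749 : Led Lsl_at (LP (LK LD1_c0 LD2_c47 LD3_c57)) = (LP (LK LD1_c0 LD2_c21 LD3_c29)) :=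
  Lre_a IH (LK LD1_c0 LD2_c47 LD3_c57) (LK LD1_c0 LD2_c21 LD3_c29) Lrfl Lrfl
theorem f109378 : Led Lsl_ff (LP (LK LD1_c0 LD2_c47 LD3_c57)) = (LP (LK LD1_c0 LD2_c48 LD3_c59)) :=
  Lgr Lrot52 (Lpr_at (f84749 IH) (Lpe (K2.f84732 IH) (Lpr_gf (K3.f109357 IH) (Lpn (LP (LK LD1_c0 LD2_c48 LD3_c59))))))
theorem f109388 : Led Lsl_ff (LP (LK LD1_c0 LD2_c45 LD3_c18)) = (LP (LK LD1_c0 LD2_c39 LD3_c58)) :=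
  Lgr Lrot23 (Lpr_ct (K3.f109380 IH) (Lpe (f109378 IH) (Lpe (K3.f109156 IH) (Lpn (LP (LK LD1_c0 LD2_c39 LD3_c58))))))
theorem f121278 : Led Lsl_ef (LP (LK LD1_c0 LD2_c23 LD3_c3)) = (LP (LK LD1_c0 LD2_c45 LD3_c18)) :=
  Lgr Lrot21 (Lpr_ft (f121273 IH) (Lpr_et (f23605 IH) (Lpe (f109174 IH) (Lpr_et (f82438 IH) (Lpe (f109388 IH) (Lpn (LP (LK LD1_c0 LD2_c45 LD3_c18))))))))
theorem f121288 : Led Lsl_et (LP (LK LD1_c0 LD2_c23 LD3_c3)) = (LP (LK LD1_c0 LD2_c45 LD3_c18)) :=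
  Lgr Lrot87 (Lpr_ef (f121278 IH) (Lpn (LP (LK LD1_c0 LD2_c45 LD3_c18))))
theorem f21167 : Led Lsl_dt (LP (LK LD1_c0 LD2_c48 LD3_c60)) = (LP (LK LD1_c0 LD2_c21 LD3_c59)) :=
  Lre_d IH (LK LD1_c0 LD2_c48 LD3_c60) (LK LD1_c0 LD2_c21 LD3_c59) Lrfl Lrfl
theorem f116129 : Led Lsl_af (LP (LK LD1_c0 LD2_c39 LD3_c59)) = (LP (LK LD1_c0 LD2_c45 LD3_c18)) :=
  Lgr Lrot109 (Lpe (K2.f21157 IH) (Lpe (f21167 IH) (Lpr_cf (f116119 IH) (Lpe (f116118 IH) (Lpe (f116082 IH) (Lpe (f116088 IH) (Lpe (f116089 IH) (Lpr_df (f116067 IH) (Lpe (f109388 IH) (Lpn (LP (LK LD1_c0 LD2_c45 LD3_c18))))))))))))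
theorem f5749 : Led Lsl_et (LP (LK LD1_c1 LD2_c46 LD3_c34)) = (LP (LK LD1_c0 LD2_c49 LD3_c61)) :=
  Lre_e IH (LK LD1_c1 LD2_c46 LD3_c34) (LK LD1_c0 LD2_c49 LD3_c61) Lrfl Lrfl
theorem f106117 : Led Lsl_dt (LP (LK LD1_c1 LD2_c44 LD3_c41)) = (LP (LK LD1_c1 LD2_c46 LD3_c34)) :=
  Lgr Lrot77 (Lpe (K3.f17675 IH) (Lpe (K1.f17644 IH) (Lpr_ef (K3.f106113 IH) (Lpe (K0.f5711 IH) (Lpe (f5749 IH) (Lpn (LP (LK LD1_c1 LD2_c46 LD3_c34))))))))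
theorem f17681 : Led Lsl_ft (LP (LK LD1_c3 LD2_c35 LD3_c38)) = (LP (LK LD1_c1 LD2_c44 LD3_c41)) :=
  Lre_f IH (LK LD1_c3 LD2_c35 LD3_c38) (LK LD1_c1 LD2_c44 LD3_c41) Lrfl Lrfl
theorem f5747 : Led Lsl_ft (LP (LK LD1_c1 LD2_c46 LD3_c34)) = (LP (LK LD1_c3 LD2_c39 LD3_c13)) :=
  Lre_f IH (LK LD1_c1 LD2_c46 LD3_c34) (LK LD1_c3 LD2_c39 LD3_c13) Lrfl Lrfl
theorem f106123 : Led Lsl_df (LP (LK LD1_c3 LD2_c35 LD3_c38)) = (LP (LK LD1_c3 LD2_c39 LD3_c13)) :=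
  Lgr Lrot78 (Lpr_ft (f17681 IH) (Lpr_dt (f106117 IH) (Lpr_ft (f5747 IH) (Lpn (LP (LK LD1_c3 LD2_c39 LD3_c13))))))
theorem f106128 : Led Lsl_dt (LP (LK LD1_c3 LD2_c35 LD3_c38)) = (LP (LK LD1_c3 LD2_c39 LD3_c13)) :=
  Lgr Lrot42 (Lpr_df (f106123 IH) (Lpn (LP (LK LD1_c3 LD2_c39 LD3_c13))))
theorem f17680 : Led Lsl_ft (LP (LK LD1_c3 LD2_c28 LD3_c24)) = (LP (LK LD1_c6 LD2_c58 LD3_c55)) :=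
  Lre_f IH (LK LD1_c3 LD2_c28 LD3_c24) (LK LD1_c6 LD2_c58 LD3_c55) Lrfl Lrfl
theorem f17682 : Led Lsl_bt (LP (LK LD1_c6 LD2_c58 LD3_c55)) = (LP (LK LD1_c3 LD2_c35 LD3_c38)) :=
  Lgr Lrot35 (Lpe (f17680 IH) (Lpr_bf (K3.f17676 IH) (Lpe (f17681 IH) (Lpn (LP (LK LD1_c3 LD2_c35 LD3_c38))))))
theorem f5733 : Led Lsl_et (LP (LK LD1_c1 LD2_c49 LD3_c27)) = (LP (LK LD1_c0 LD2_c51 LD3_c32)) :=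
  Lre_e IH (LK LD1_c1 LD2_c49 LD3_c27) (LK LD1_c0 LD2_c51 LD3_c32) Lrfl Lrfl
theorem f5734 : Led Lsl_et (LP (LK LD1_c0 LD2_c49 LD3_c61)) = (LP (LK LD1_c1 LD2_c46 LD3_c34)) :=
  Lre_e IH (LK LD1_c0 LD2_c49 LD3_c61) (LK LD1_c1 LD2_c46 LD3_c34) Lrfl Lrfl
theorem f5735 : Led Lsl_bf (LP (LK LD1_c1 LD2_c49 LD3_c27)) = (LP (LK LD1_c1 LD2_c46 LD3_c34)) :=
  Lgr Lrot96 (Lpr_et (f5733 IH) (Lpr_bt (K0.f5725 IH) (Lpr_et (f5734 IH) (Lpn (LP (LK LD1_c1 LD2_c46 LD3_c34))))))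
theorem f5739 : Led Lsl_ft (LP (LK LD1_c1 LD2_c49 LD3_c27)) = (LP (LK LD1_c3 LD2_c44 LD3_c45)) :=
  Lre_f IH (LK LD1_c1 LD2_c49 LD3_c27) (LK LD1_c3 LD2_c44 LD3_c45) Lrfl Lrfl
theorem f5740 : Led Lsl_ft (LP (LK LD1_c3 LD2_c39 LD3_c13)) = (LP (LK LD1_c1 LD2_c46 LD3_c34)) :=
  Lre_f IH (LK LD1_c3 LD2_c39 LD3_c13) (LK LD1_c1 LD2_c46 LD3_c34) Lrfl Lrfl
theorem f5741 : Led Lsl_bt (LP (LK LD1_c3 LD2_c44 LD3_c45)) = (LP (LK LD1_c3 LD2_c39 LD3_c13)) :=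
  Lgr Lrot35 (Lpe (f5739 IH) (Lpr_bf (f5735 IH) (Lpe (f5740 IH) (Lpn (LP (LK LD1_c3 LD2_c39 LD3_c13))))))
theorem f5744 : Led Lsl_bf (LP (LK LD1_c3 LD2_c44 LD3_c45)) = (LP (LK LD1_c3 LD2_c39 LD3_c13)) :=
  Lgr Lrot24 (Lpr_bt (f5741 IH) (Lpn (LP (LK LD1_c3 LD2_c39 LD3_c13))))
theorem f106130 : Led Lsl_df (LP (LK LD1_c6 LD2_c58 LD3_c55)) = (LP (LK LD1_c3 LD2_c44 LD3_c45)) :=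
  Lgr Lrot12 (Lpr_bt (f17682 IH) (Lpr_dt (f106128 IH) (Lpe (f5744 IH) (Lpn (LP (LK LD1_c3 LD2_c44 LD3_c45))))))
theorem f17687 : Led Lsl_ft (LP (LK LD1_c6 LD2_c58 LD3_c55)) = (LP (LK LD1_c3 LD2_c28 LD3_c24)) :=
  Lre_f IH (LK LD1_c6 LD2_c58 LD3_c55) (LK LD1_c3 LD2_c28 LD3_c24) Lrfl Lrfl
theorem f106132 : Led Lsl_dt (LP (LK LD1_c3 LD2_c28 LD3_c24)) = (LP (LK LD1_c1 LD2_c49 LD3_c27)) :=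
  Lgr Lrot60 (Lpe (f17687 IH) (Lpr_df (f106130 IH) (Lpe (f5739 IH) (Lpn (LP (LK LD1_c1 LD2_c49 LD3_c27))))))
theorem f106134 : Led Lsl_ef (LP (LK LD1_c0 LD2_c46 LD3_c56)) = (LP (LK LD1_c0 LD2_c23 LD3_c17)) :=
  Lgr Lrot73 (Lpr_dt (K1.f17660 IH) (Lpr_et (K3.f17689 IH) (Lpr_dt (f106132 IH) (Lpr_et (f5733 IH) (Lpr_dt (K0.f5752 IH) (Lpn (LP (LK LD1_c0 LD2_c23 LD3_c17))))))))
theorem f106136 : Led Lsl_et (LP (LK LD1_c1 LD2_c26 LD3_c25)) = (LP (LK LD1_c0 LD2_c43 LD3_c19)) :=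
  Lgr Lrot158 (Lpe (K2.f21169 IH) (Lpr_ef (f106134 IH) (Lpe (K3.f23688 IH) (Lpn (LP (LK LD1_c0 LD2_c43 LD3_c19))))))
theorem f106140 : Led Lsl_ef (LP (LK LD1_c1 LD2_c26 LD3_c25)) = (LP (LK LD1_c0 LD2_c43 LD3_c19)) :=
  Lgr Lrot88 (Lpr_et (f106136 IH) (Lpn (LP (LK LD1_c0 LD2_c43 LD3_c19))))
theorem f106142 : Led Lsl_et (LP (LK LD1_c0 LD2_c39 LD3_c59)) = (LP (LK LD1_c0 LD2_c19 LD3_c20)) :=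
  Lgr Lrot74 (Lpe (K2.f21025 IH) (Lpr_ef (f106140 IH) (Lpe (K3.f23687 IH) (Lpn (LP (LK LD1_c0 LD2_c19 LD3_c20))))))
theorem f121290 : Led Lsl_af (LP (LK LD1_c0 LD2_c23 LD3_c3)) = (LP (LK LD1_c0 LD2_c19 LD3_c20)) :=
  Lgr Lrot50 (Lpr_et (f121288 IH) (Lpe (f116129 IH) (Lpr_et (f106142 IH) (Lpn (LP (LK LD1_c0 LD2_c19 LD3_c20))))))
theorem f121298 : Led Lsl_ft (LP (LK LD1_c0 LD2_c23 LD3_c4)) = (LP (LK LD1_c0 LD2_c19 LD3_c20)) :=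
  Lgr Lrot101 (Lpe (K3.f107062 IH) (Lpe (f121273 IH) (Lpr_af (f121290 IH) (Lpn (LP (LK LD1_c0 LD2_c19 LD3_c20))))))
theorem f121306 : Led Lsl_ff (LP (LK LD1_c0 LD2_c23 LD3_c4)) = (LP (LK LD1_c0 LD2_c19 LD3_c20)) :=
  Lgr Lrot3 (Lpr_ft (f121298 IH) (Lpn (LP (LK LD1_c0 LD2_c19 LD3_c20))))
theorem f84631 : Led Lsl_dt (LP (LK LD1_c1 LD2_c37 LD3_c47)) = (LP (LK LD1_c3 LD2_c22 LD3_c51)) :=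
  Lre_d IH (LK LD1_c1 LD2_c37 LD3_c47) (LK LD1_c3 LD2_c22 LD3_c51) Lrfl Lrfl
theorem f86735 : Led Lsl_dt (LP (LK LD1_c1 LD2_c48 LD3_c38)) = (LP (LK LD1_c0 LD2_c51 LD3_c5)) :=
  Lre_d IH (LK LD1_c1 LD2_c48 LD3_c38) (LK LD1_c0 LD2_c51 LD3_c5) Lrfl Lrfl
theorem f106985 : Led Lsl_ff (LP (LK LD1_c1 LD2_c37 LD3_c47)) = (LP (LK LD1_c0 LD2_c51 LD3_c5)) :=
  Lgr Lrot19 (Lpr_dt (f84631 IH) (Lpr_ft (K3.f106983 IH) (Lpr_dt (f86735 IH) (Lpn (LP (LK LD1_c0 LD2_c51 LD3_c5))))))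
theorem f84630 : Led Lsl_et (LP (LK LD1_c1 LD2_c37 LD3_c47)) = (LP (LK LD1_c0 LD2_c45 LD3_c19)) :=
  Lre_e IH (LK LD1_c1 LD2_c37 LD3_c47) (LK LD1_c0 LD2_c45 LD3_c19) Lrfl Lrfl
theorem f121312 : Led Lsl_ft (LP (LK LD1_c0 LD2_c45 LD3_c19)) = (LP (LK LD1_c0 LD2_c39 LD3_c59)) :=
  Lgr Lrot86 (Lpe (f84630 IH) (Lpr_ff (f106985 IH) (Lpe (K3.f86741 IH) (Lpr_ff (f121306 IH) (Lpe (f106142 IH) (Lpn (LP (LK LD1_c0 LD2_c39 LD3_c59))))))))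
theorem f7371 : Led Lsl_bt (LP (LK LD1_c1 LD2_c37 LD3_c46)) = (LP (LK LD1_c0 LD2_c45 LD3_c19)) :=
  Lre_b IH (LK LD1_c1 LD2_c37 LD3_c46) (LK LD1_c0 LD2_c45 LD3_c19) Lrfl Lrfl
theorem f121316 : Led Lsl_ff (LP (LK LD1_c1 LD2_c37 LD3_c46)) = (LP (LK LD1_c1 LD2_c26 LD3_c25)) :=
  Lgr Lrot25 (Lpr_bt (f7371 IH) (Lpr_ft (f121312 IH) (Lpr_bt (K2.f21162 IH) (Lpn (LP (LK LD1_c1 LD2_c26 LD3_c25))))))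
theorem f95178 : Led Lsl_gf (LP (LK LD1_c0 LD2_c45 LD3_c40)) = (LP (LK LD1_c1 LD2_c26 LD3_c25)) :=
  Lgr Lrot126 (Lpe (K2.f12662 IH) (Lpr_bt (K3.f90851 IH) (Lpr_gt (K3.f95140 IH) (Lpe (K0.f9930 IH) (Lpr_gt (K2.f10767 IH) (Lpe (K1.f10768 IH) (Lpr_bt (K2.f10769 IH) (Lpr_gt (K2.f19350 IH) (Lpe (K2.f17668 IH) (Lpr_ct (K2.f21169 IH) (Lpn (LP (LK LD1_c1 LD2_c26 LD3_c25)))))))))))))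
theorem f121324 : Led Lsl_at (LP (LK LD1_c1 LD2_c37 LD3_c46)) = (LP (LK LD1_c1 LD2_c38 LD3_c31)) :=
  Lgr Lrot26 (Lpr_ff (f121316 IH) (Lpe (f95178 IH) (Lpr_gt (K2.f12663 IH) (Lpn (LP (LK LD1_c1 LD2_c38 LD3_c31))))))
theorem f87519 : Led Lsl_et (LP (LK LD1_c3 LD2_c22 LD3_c50)) = (LP (LK LD1_c1 LD2_c37 LD3_c46)) :=
  Lre_e IH (LK LD1_c3 LD2_c22 LD3_c50) (LK LD1_c1 LD2_c37 LD3_c46) Lrfl Lrfl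
theorem f25014 : Led Lsl_bt (LP (LK LD1_c3 LD2_c10 LD3_c56)) = (LP (LK LD1_c1 LD2_c31 LD3_c53)) :=
  Lre_b IH (LK LD1_c3 LD2_c10 LD3_c56) (LK LD1_c1 LD2_c31 LD3_c53) Lrfl Lrfl
theorem f108829 : Led Lsl_ct (LP (LK LD1_c3 LD2_c10 LD3_c56)) = (LP (LK LD1_c1 LD2_c39 LD3_c13)) :=
  Lgr Lrot63 (Lpr_bt (f25014 IH) (Lpr_gt (K3.f24993 IH) (Lpe (K3.f86321 IH) (Lpr_ct (K3.f25093 IH) (Lpr_gt (f86325 IH) (Lpr_cf (K2.f67713 IH) (Lpe (f76736 IH) (Lpr_gt (K3.f94034 IH) (Lpe (K2.f90199 IH) (Lpr_gt (K3.f108823 IH) (Lpn (LP (LK LD1_c1 LD2_c39 LD3_c13)))))))))))))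
theorem f108836 : Led Lsl_ef (LP (LK LD1_c3 LD2_c10 LD3_c56)) = (LP (LK LD1_c1 LD2_c38 LD3_c31)) :=
  Lgr Lrot28 (Lpr_ct (f108829 IH) (Lpr_et (K3.f84660 IH) (Lpr_ct (K2.f12664 IH) (Lpn (LP (LK LD1_c1 LD2_c38 LD3_c31))))))
theorem f121332 : Led Lsl_af (LP (LK LD1_c3 LD2_c22 LD3_c50)) = (LP (LK LD1_c3 LD2_c10 LD3_c56)) :=
  Lgr Lrot50 (Lpr_et (f87519 IH) (Lpr_at (f121324 IH) (Lpe (f108836 IH) (Lpn (LP (LK LD1_c3 LD2_c10 LD3_c56))))))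
theorem f26115 : Led Lsl_et (LP (LK LD1_c0 LD2_c46 LD3_c10)) = (LP (LK LD1_c1 LD2_c39 LD3_c23)) :=
  Lre_e IH (LK LD1_c0 LD2_c46 LD3_c10) (LK LD1_c1 LD2_c39 LD3_c23) Lrfl Lrfl
theorem f106144 : Led Lsl_gt (LP (LK LD1_c1 LD2_c39 LD3_c23)) = (LP (LK LD1_c1 LD2_c38 LD3_c38)) :=
  Lgr Lrot131 (Lpe (f26115 IH) (Lpr_dt (K2.f14990 IH) (Lpe (K3.f94924 IH) (Lpe (K2.f83734 IH) (Lpr_gf (f95178 IH) (Lpr_ef (f106140 IH) (Lpr_dt (K2.f23700 IH) (Lpr_gf (K3.f93999 IH) (Lpe (K2.f19344 IH) (Lpr_et (K2.f91315 IH) (Lpn (LP (LK LD1_c1 LD2_c38 LD3_c38)))))))))))))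
theorem f121340 : Led Lsl_ft (LP (LK LD1_c1 LD2_c39 LD3_c23)) = (LP (LK LD1_c3 LD2_c10 LD3_c56)) :=
  Lgr Lrot2 (Lpr_gt (f106144 IH) (Lpe (K2.f94347 IH) (Lpr_af (f121332 IH) (Lpn (LP (LK LD1_c3 LD2_c10 LD3_c56))))))
theorem f121350 : Led Lsl_ff (LP (LK LD1_c1 LD2_c39 LD3_c23)) = (LP (LK LD1_c3 LD2_c10 LD3_c56)) :=
  Lgr Lrot3 (Lpr_ft (f121340 IH) (Lpn (LP (LK LD1_c3 LD2_c10 LD3_c56))))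
theorem f82503 : Led Lsl_ct (LP (LK LD1_c1 LD2_c31 LD3_c53)) = (LP (LK LD1_c0 LD2_c42 LD3_c31)) :=
  Lre_c IH (LK LD1_c1 LD2_c31 LD3_c53) (LK LD1_c0 LD2_c42 LD3_c31) Lrfl Lrfl
theorem f82504 : Led Lsl_bt (LP (LK LD1_c1 LD2_c31 LD3_c53)) = (LP (LK LD1_c3 LD2_c10 LD3_c56)) :=
  Lre_b IH (LK LD1_c1 LD2_c31 LD3_c53) (LK LD1_c3 LD2_c10 LD3_c56) Lrfl Lrfl
theorem f83943 : Led Lsl_gt (LP (LK LD1_c3 LD2_c10 LD3_c56)) = (LP (LK LD1_c1 LD2_c40 LD3_c32)) :=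
  Lgr Lrot82 (Lpe (f82504 IH) (Lpr_ct (f82503 IH) (Lpe (K3.f24988 IH) (Lpr_cf (K3.f82450 IH) (Lpr_bt (K2.f82447 IH) (Lpr_gf (K2.f83935 IH) (Lpe (K1.f68098 IH) (Lpr_ct (K3.f11931 IH) (Lpe (f12646 IH) (Lpe (f19177 IH) (Lpn (LP (LK LD1_c1 LD2_c40 LD3_c32)))))))))))))
theorem f121358 : Led Lsl_at (LP (LK LD1_c1 LD2_c39 LD3_c23)) = (LP (LK LD1_c1 LD2_c48 LD3_c35)) :=
  Lgr Lrot26 (Lpr_ff (f121350 IH) (Lpr_gt (f83943 IH) (Lpe (f106364 IH) (Lpn (LP (LK LD1_c1 LD2_c48 LD3_c35))))))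
theorem f121334 : Led Lsl_at (LP (LK LD1_c3 LD2_c22 LD3_c50)) = (LP (LK LD1_c3 LD2_c10 LD3_c56)) :=
  Lgr Lrot100 (Lpr_af (f121332 IH) (Lpn (LP (LK LD1_c3 LD2_c10 LD3_c56))))
theorem f121366 : Led Lsl_ff (LP (LK LD1_c3 LD2_c22 LD3_c50)) = (LP (LK LD1_c1 LD2_c48 LD3_c35)) :=
  Lgr Lrot30 (Lpr_at (f121334 IH) (Lpe (f121350 IH) (Lpr_at (f121358 IH) (Lpn (LP (LK LD1_c1 LD2_c48 LD3_c35))))))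
theorem f17273 : Led Lsl_et (LP (LK LD1_c0 LD2_c9 LD3_c29)) = (LP (LK LD1_c0 LD2_c20 LD3_c57)) :=
  Lre_e IH (LK LD1_c0 LD2_c9 LD3_c29) (LK LD1_c0 LD2_c20 LD3_c57) Lrfl Lrfl
theorem f17277 : Led Lsl_gt (LP (LK LD1_c0 LD2_c20 LD3_c57)) = (LP (LK LD1_c0 LD2_c46 LD3_c42)) :=
  Lre_g IH (LK LD1_c0 LD2_c20 LD3_c57) (LK LD1_c0 LD2_c46 LD3_c42) Lrfl Lrfl
theorem f90262 : Led Lsl_ef (LP (LK LD1_c0 LD2_c46 LD3_c42)) = (LP (LK LD1_c0 LD2_c21 LD3_c23)) :=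
  Lgr Lrot17 (Lpe (f17277 IH) (Lpe (f17273 IH) (Lpr_dt (K0.f14622 IH) (Lpe (f17294 IH) (Lpr_df (f90242 IH) (Lpr_gf (K2.f19164 IH) (Lpe (K2.f9776 IH) (Lpr_dt (K0.f9772 IH) (Lpr_gf (K0.f14630 IH) (Lpe (K1.f64346 IH) (Lpn (LP (LK LD1_c0 LD2_c21 LD3_c23)))))))))))))
theorem f64361 : Led Lsl_bf (LP (LK LD1_c0 LD2_c21 LD3_c23)) = (LP (LK LD1_c0 LD2_c40 LD3_c14)) :=
  Lgr Lrot93 (Lpr_dt (K1.f64346 IH) (Lpe (K3.f12197 IH) (Lpe (K3.f62001 IH) (Lpn (LP (LK LD1_c0 LD2_c40 LD3_c14))))))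
theorem f63107 : Led Lsl_et (LP (LK LD1_c1 LD2_c26 LD3_c54)) = (LP (LK LD1_c0 LD2_c40 LD3_c14)) :=
  Lre_e IH (LK LD1_c1 LD2_c26 LD3_c54) (LK LD1_c0 LD2_c40 LD3_c14) Lrfl Lrfl
theorem f90265 : Led Lsl_bt (LP (LK LD1_c0 LD2_c46 LD3_c42)) = (LP (LK LD1_c1 LD2_c26 LD3_c54)) :=
  Lgr Lrot119 (Lpr_ef (f90262 IH) (Lpr_bf (f64361 IH) (Lpe (f63107 IH) (Lpn (LP (LK LD1_c1 LD2_c26 LD3_c54))))))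
theorem f90267 : Led Lsl_ct (LP (LK LD1_c0 LD2_c46 LD3_c42)) = (LP (LK LD1_c1 LD2_c40 LD3_c30)) :=
  Lre_c IH (LK LD1_c0 LD2_c46 LD3_c42) (LK LD1_c1 LD2_c40 LD3_c30) Lrfl Lrfl
theorem f105942 : Led Lsl_gf (LP (LK LD1_c1 LD2_c40 LD3_c30)) = (LP (LK LD1_c1 LD2_c48 LD3_c35)) :=
  Lgr Lrot126 (Lpe (f90267 IH) (Lpr_bt (f90265 IH) (Lpe (K3.f94536 IH) (Lpr_ct (K0.f17762 IH) (Lpe (K3.f84615 IH) (Lpe (K2.f84299 IH) (Lpr_bt (K3.f84319 IH) (Lpr_gt (K3.f105934 IH) (Lpe (f86843 IH) (Lpr_ct (f86729 IH) (Lpn (LP (LK LD1_c1 LD2_c48 LD3_c35)))))))))))))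
theorem f121370 : Led Lsl_gf (LP (LK LD1_c3 LD2_c10 LD3_c56)) = (LP (LK LD1_c1 LD2_c40 LD3_c30)) :=
  Lgr Lrot76 (Lpe (f121334 IH) (Lpr_ff (f121366 IH) (Lpe (f105942 IH) (Lpn (LP (LK LD1_c1 LD2_c40 LD3_c30))))))
theorem f90270 : Led Lsl_et (LP (LK LD1_c0 LD2_c46 LD3_c42)) = (LP (LK LD1_c0 LD2_c21 LD3_c23)) :=
  Lgr Lrot87 (Lpr_ef (f90262 IH) (Lpn (LP (LK LD1_c0 LD2_c21 LD3_c23))))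
theorem f90274 : Led Lsl_ct (LP (LK LD1_c1 LD2_c40 LD3_c30)) = (LP (LK LD1_c0 LD2_c46 LD3_c42)) :=
  Lre_c IH (LK LD1_c1 LD2_c40 LD3_c30) (LK LD1_c0 LD2_c46 LD3_c42) Lrfl Lrfl
theorem f90275 : Led Lsl_ef (LP (LK LD1_c1 LD2_c40 LD3_c30)) = (LP (LK LD1_c0 LD2_c47 LD3_c48)) :=
  Lgr Lrot28 (Lpr_ct (f90274 IH) (Lpr_et (f90270 IH) (Lpr_ct (K2.f12691 IH) (Lpn (LP (LK LD1_c0 LD2_c47 LD3_c48))))))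
theorem f90277 : Led Lsl_bt (LP (LK LD1_c1 LD2_c40 LD3_c30)) = (LP (LK LD1_c3 LD2_c1 LD3_c39)) :=
  Lgr Lrot119 (Lpr_ef (f90275 IH) (Lpr_bf (K2.f64404 IH) (Lpe (K3.f25029 IH) (Lpn (LP (LK LD1_c3 LD2_c1 LD3_c39))))))
theorem f90280 : Led Lsl_bf (LP (LK LD1_c1 LD2_c40 LD3_c30)) = (LP (LK LD1_c3 LD2_c1 LD3_c39)) :=
  Lgr Lrot24 (Lpr_bt (f90277 IH) (Lpn (LP (LK LD1_c3 LD2_c1 LD3_c39))))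
theorem f121374 : Led Lsl_gt (LP (LK LD1_c1 LD2_c31 LD3_c56)) = (LP (LK LD1_c1 LD2_c26 LD3_c53)) :=
  Lgr Lrot65 (Lpe (K3.f86337 IH) (Lpr_bt (K3.f86338 IH) (Lpe (K3.f88970 IH) (Lpr_bf (K3.f84297 IH) (Lpr_ct (K2.f83506 IH) (Lpr_gf (K3.f108825 IH) (Lpe (f108829 IH) (Lpr_gf (f121370 IH) (Lpr_bf (f90280 IH) (Lpr_ct (K3.f64521 IH) (Lpn (LP (LK LD1_c1 LD2_c26 LD3_c53)))))))))))))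
theorem f64503 : Led Lsl_ct (LP (LK LD1_c0 LD2_c40 LD3_c15)) = (LP (LK LD1_c1 LD2_c26 LD3_c54)) :=
  Lre_c IH (LK LD1_c0 LD2_c40 LD3_c15) (LK LD1_c1 LD2_c26 LD3_c54) Lrfl Lrfl
theorem f77853 : Led Lsl_bt (LP (LK LD1_c0 LD2_c40 LD3_c15)) = (LP (LK LD1_c1 LD2_c26 LD3_c53)) :=
  Lre_b IH (LK LD1_c0 LD2_c40 LD3_c15) (LK LD1_c1 LD2_c26 LD3_c53) Lrfl Lrfl
theorem f108838 : Led Lsl_gf (LP (LK LD1_c1 LD2_c31 LD3_c53)) = (LP (LK LD1_c1 LD2_c26 LD3_c53)) :=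
  Lgr Lrot124 (Lpe (f25014 IH) (Lpr_ct (f108829 IH) (Lpe (K3.f108825 IH) (Lpe (K2.f83506 IH) (Lpe (K3.f84297 IH) (Lpr_gt (K3.f88970 IH) (Lpe (K3.f95755 IH) (Lpr_gt (K3.f106284 IH) (Lpe (f64503 IH) (Lpr_bt (f77853 IH) (Lpn (LP (LK LD1_c1 LD2_c26 LD3_c53)))))))))))))
theorem f109166 : Led Lsl_af (LP (LK LD1_c1 LD2_c26 LD3_c24)) = (LP (LK LD1_c1 LD2_c37 LD3_c47)) :=
  Lgr Lrot68 (Lpr_ct (K3.f109164 IH) (Lpr_at (K3.f87491 IH) (Lpr_ct (K2.f87483 IH) (Lpn (LP (LK LD1_c1 LD2_c37 LD3_c47))))))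
theorem f121336 : Led Lsl_at (LP (LK LD1_c1 LD2_c31 LD3_c39)) = (LP (LK LD1_c1 LD2_c31 LD3_c53)) :=
  Lgr Lrot67 (Lpr_bf (K3.f82417 IH) (Lpr_af (f109166 IH) (Lpe (K2.f87480 IH) (Lpr_af (f121332 IH) (Lpe (f82504 IH) (Lpn (LP (LK LD1_c1 LD2_c31 LD3_c53))))))))
theorem f121492 : Led Lsl_ft (LP (LK LD1_c1 LD2_c31 LD3_c56)) = (LP (LK LD1_c1 LD2_c31 LD3_c39)) :=
  Lgr Lrot2 (Lpr_gt (f121374 IH) (Lpe (f108838 IH) (Lpe (f121336 IH) (Lpn (LP (LK LD1_c1 LD2_c31 LD3_c39))))))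
theorem f121502 : Led Lsl_ff (LP (LK LD1_c1 LD2_c31 LD3_c56)) = (LP (LK LD1_c1 LD2_c31 LD3_c39)) :=
  Lgr Lrot3 (Lpr_ft (f121492 IH) (Lpn (LP (LK LD1_c1 LD2_c31 LD3_c39))))
theorem f26114 : Led Lsl_et (LP (LK LD1_c2 LD2_c19 LD3_c38)) = (LP (LK LD1_c1 LD2_c6 LD3_c57)) :=
  Lre_e IH (LK LD1_c2 LD2_c19 LD3_c38) (LK LD1_c1 LD2_c6 LD3_c57) Lrfl Lrfl
theorem f26116 : Led Lsl_bf (LP (LK LD1_c2 LD2_c19 LD3_c38)) = (LP (LK LD1_c1 LD2_c39 LD3_c23)) :=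
  Lgr Lrot96 (Lpr_et (f26114 IH) (Lpr_bt (K3.f26097 IH) (Lpr_et (f26115 IH) (Lpn (LP (LK LD1_c1 LD2_c39 LD3_c23))))))
theorem f26123 : Led Lsl_bt (LP (LK LD1_c2 LD2_c19 LD3_c38)) = (LP (LK LD1_c1 LD2_c39 LD3_c23)) :=
  Lgr Lrot127 (Lpr_bf (f26116 IH) (Lpn (LP (LK LD1_c1 LD2_c39 LD3_c23))))
theorem f121360 : Led Lsl_af (LP (LK LD1_c2 LD2_c19 LD3_c38)) = (LP (LK LD1_c1 LD2_c31 LD3_c56)) :=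
  Lgr Lrot36 (Lpr_bt (f26123 IH) (Lpr_at (f121358 IH) (Lpr_bt (K3.f86731 IH) (Lpe (K3.f107068 IH) (Lpr_bt (K3.f95758 IH) (Lpn (LP (LK LD1_c1 LD2_c31 LD3_c56))))))))
theorem f12436 : Led Lsl_gt (LP (LK LD1_c0 LD2_c50 LD3_c17)) = (LP (LK LD1_c1 LD2_c46 LD3_c59)) :=
  Lre_g IH (LK LD1_c0 LD2_c50 LD3_c17) (LK LD1_c1 LD2_c46 LD3_c59) Lrfl Lrfl
theorem f12639 : Led Lsl_gt (LP (LK LD1_c1 LD2_c26 LD3_c40)) = (LP (LK LD1_c0 LD2_c44 LD3_c28)) :=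
  Lre_g IH (LK LD1_c1 LD2_c26 LD3_c40) (LK LD1_c0 LD2_c44 LD3_c28) Lrfl Lrfl
theorem f86313 : Led Lsl_et (LP (LK LD1_c0 LD2_c13 LD3_c50)) = (LP (LK LD1_c0 LD2_c31 LD3_c11)) :=
  Lre_e IH (LK LD1_c0 LD2_c13 LD3_c50) (LK LD1_c0 LD2_c31 LD3_c11) Lrfl Lrfl
theorem f7474 : Led Lsl_gt (LP (LK LD1_c0 LD2_c31 LD3_c11)) = (LP (LK LD1_c1 LD2_c8 LD3_c0)) :=
  Lre_g IH (LK LD1_c0 LD2_c31 LD3_c11) (LK LD1_c1 LD2_c8 LD3_c0) Lrfl Lrfl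
theorem f102171 : Led Lsl_ef (LP (LK LD1_c1 LD2_c8 LD3_c0)) = (LP (LK LD1_c0 LD2_c41 LD3_c8)) :=
  Lgr Lrot17 (Lpe (f7474 IH) (Lpe (f86313 IH) (Lpr_dt (K3.f13704 IH) (Lpe (f13746 IH) (Lpr_df (K3.f102111 IH) (Lpe (K3.f58188 IH) (Lpe (K0.f13684 IH) (Lpr_dt (K0.f13693 IH) (Lpe (K3.f13717 IH) (Lpe (K3.f99126 IH) (Lpn (LP (LK LD1_c0 LD2_c41 LD3_c8)))))))))))))
theorem f102179 : Led Lsl_et (LP (LK LD1_c1 LD2_c8 LD3_c0)) = (LP (LK LD1_c0 LD2_c41 LD3_c8)) :=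
  Lgr Lrot87 (Lpr_ef (f102171 IH) (Lpn (LP (LK LD1_c0 LD2_c41 LD3_c8))))
theorem f102181 : Led Lsl_bf (LP (LK LD1_c1 LD2_c8 LD3_c0)) = (LP (LK LD1_c1 LD2_c38 LD3_c38)) :=
  Lgr Lrot96 (Lpr_et (f102179 IH) (Lpr_bt (K3.f99140 IH) (Lpr_et (K2.f91315 IH) (Lpn (LP (LK LD1_c1 LD2_c38 LD3_c38))))))
theorem f92043 : Led Lsl_ct (LP (LK LD1_c1 LD2_c38 LD3_c38)) = (LP (LK LD1_c0 LD2_c45 LD3_c44)) :=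
  Lre_c IH (LK LD1_c1 LD2_c38 LD3_c38) (LK LD1_c0 LD2_c45 LD3_c44) Lrfl Lrfl
theorem f9820 : Led Lsl_ct (LP (LK LD1_c1 LD2_c37 LD3_c49)) = (LP (LK LD1_c0 LD2_c46 LD3_c6)) :=
  Lre_c IH (LK LD1_c1 LD2_c37 LD3_c49) (LK LD1_c0 LD2_c46 LD3_c6) Lrfl Lrfl
theorem f102227 : Led Lsl_gt (LP (LK LD1_c1 LD2_c8 LD3_c0)) = (LP (LK LD1_c1 LD2_c29 LD3_c2)) :=
  Lgr Lrot82 (Lpr_bf (f102181 IH) (Lpr_ct (f92043 IH) (Lpr_gf (K2.f92036 IH) (Lpe (f9820 IH) (Lpr_bt (K2.f76730 IH) (Lpe (f86325 IH) (Lpr_bf (K3.f86316 IH) (Lpr_ct (K3.f24998 IH) (Lpr_gf (K3.f58159 IH) (Lpe (f86155 IH) (Lpn (LP (LK LD1_c1 LD2_c29 LD3_c2)))))))))))))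
theorem f86318 : Led Lsl_ct (LP (LK LD1_c2 LD2_c21 LD3_c37)) = (LP (LK LD1_c1 LD2_c8 LD3_c0)) :=
  Lre_c IH (LK LD1_c2 LD2_c21 LD3_c37) (LK LD1_c1 LD2_c8 LD3_c0) Lrfl Lrfl
theorem f114166 : Led Lsl_bf (LP (LK LD1_c1 LD2_c46 LD3_c59)) = (LP (LK LD1_c2 LD2_c21 LD3_c37)) :=
  Lgr Lrot34 (Lpe (f12436 IH) (Lpr_bf (K1.f12414 IH) (Lpe (K3.f105736 IH) (Lpr_gf (f114154 IH) (Lpe (f12636 IH) (Lpe (f12639 IH) (Lpr_bf (f86163 IH) (Lpr_ct (f86155 IH) (Lpe (f102227 IH) (Lpe (f86318 IH) (Lpn (LP (LK LD1_c2 LD2_c21 LD3_c37)))))))))))))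
theorem f79593 : Led Lsl_ct (LP (LK LD1_c1 LD2_c8 LD3_c0)) = (LP (LK LD1_c2 LD2_c21 LD3_c37)) :=
  Lre_c IH (LK LD1_c1 LD2_c8 LD3_c0) (LK LD1_c2 LD2_c21 LD3_c37) Lrfl Lrfl
theorem f92044 : Led Lsl_bt (LP (LK LD1_c1 LD2_c38 LD3_c36)) = (LP (LK LD1_c0 LD2_c45 LD3_c44)) :=
  Lre_b IH (LK LD1_c1 LD2_c38 LD3_c36) (LK LD1_c0 LD2_c45 LD3_c44) Lrfl Lrfl
theorem f114170 : Led Lsl_ct (LP (LK LD1_c1 LD2_c46 LD3_c59)) = (LP (LK LD1_c1 LD2_c38 LD3_c36)) :=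
  Lgr Lrot83 (Lpr_bf (f114166 IH) (Lpe (f79593 IH) (Lpr_bf (f102181 IH) (Lpe (K2.f92040 IH) (Lpe (f92044 IH) (Lpn (LP (LK LD1_c1 LD2_c38 LD3_c36))))))))
theorem f12642 : Led Lsl_bt (LP (LK LD1_c0 LD2_c44 LD3_c28)) = (LP (LK LD1_c1 LD2_c35 LD3_c53)) :=
  Lre_b IH (LK LD1_c0 LD2_c44 LD3_c28) (LK LD1_c1 LD2_c35 LD3_c53) Lrfl Lrfl
theorem f114189 : Led Lsl_gf (LP (LK LD1_c1 LD2_c35 LD3_c53)) = (LP (LK LD1_c1 LD2_c31 LD3_c39)) :=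
  Lgr Lrot124 (Lpe (f12642 IH) (Lpr_ct (f12636 IH) (Lpe (f114154 IH) (Lpr_cf (K3.f105736 IH) (Lpe (K1.f12414 IH) (Lpr_gt (f12436 IH) (Lpr_ct (f114170 IH) (Lpe (f107084 IH) (Lpe (K3.f109164 IH) (Lpe (K3.f82417 IH) (Lpn (LP (LK LD1_c1 LD2_c31 LD3_c39)))))))))))))
theorem f121512 : Led Lsl_gf (LP (LK LD1_c2 LD2_c19 LD3_c38)) = (LP (LK LD1_c1 LD2_c35 LD3_c53)) :=
  Lgr Lrot76 (Lpr_af (f121360 IH) (Lpr_ff (f121502 IH) (Lpe (f114189 IH) (Lpn (LP (LK LD1_c1 LD2_c35 LD3_c53))))))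
theorem f120836 : Led Lsl_ct (LP (LK LD1_c1 LD2_c39 LD3_c23)) = (LP (LK LD1_c0 LD2_c50 LD3_c52)) :=
  Lgr Lrot15 (Lpe (f26115 IH) (Lpr_cf (f120826 IH) (Lpe (f120835 IH) (Lpn (LP (LK LD1_c0 LD2_c50 LD3_c52))))))
theorem f90214 : Led Lsl_at (LP (LK LD1_c1 LD2_c38 LD3_c15)) = (LP (LK LD1_c1 LD2_c29 LD3_c33)) :=
  Lgr Lrot100 (Lpr_af (K2.f90212 IH) (Lpn (LP (LK LD1_c1 LD2_c29 LD3_c33))))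
theorem f94036 : Led Lsl_ft (LP (LK LD1_c1 LD2_c32 LD3_c10)) = (LP (LK LD1_c1 LD2_c38 LD3_c15)) :=
  Lgr Lrot2 (Lpe (K2.f68108 IH) (Lpr_gt (K3.f94034 IH) (Lpe (f90214 IH) (Lpn (LP (LK LD1_c1 LD2_c38 LD3_c15))))))
theorem f120930 : Led Lsl_ct (LP (LK LD1_c1 LD2_c38 LD3_c15)) = (LP (LK LD1_c1 LD2_c48 LD3_c12)) :=
  Lgr Lrot40 (Lpe (f94036 IH) (Lpe (K2.f83505 IH) (Lpr_ff (f120923 IH) (Lpn (LP (LK LD1_c1 LD2_c48 LD3_c12))))))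
theorem f90226 : Led Lsl_bt (LP (LK LD1_c1 LD2_c38 LD3_c15)) = (LP (LK LD1_c0 LD2_c47 LD3_c12)) :=
  Lgr Lrot119 (Lpr_ef (K2.f90224 IH) (Lpe (K1.f21022 IH) (Lpe (K3.f88670 IH) (Lpn (LP (LK LD1_c0 LD2_c47 LD3_c12))))))
theorem f88780 : Led Lsl_ff (LP (LK LD1_c0 LD2_c53 LD3_c20)) = (LP (LK LD1_c0 LD2_c47 LD3_c12)) :=
  Lgr Lrot23 (Lpr_ct (K2.f84294 IH) (Lpr_ft (K2.f88775 IH) (Lpr_ct (f84996 IH) (Lpn (LP (LK LD1_c0 LD2_c47 LD3_c12))))))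
theorem f88827 : Led Lsl_at (LP (LK LD1_c0 LD2_c53 LD3_c20)) = (LP (LK LD1_c1 LD2_c42 LD3_c5)) :=
  Lgr Lrot66 (Lpr_ff (f88780 IH) (Lpe (K3.f88671 IH) (Lpr_ff (K3.f88824 IH) (Lpn (LP (LK LD1_c1 LD2_c42 LD3_c5))))))
theorem f109188 : Led Lsl_gf (LP (LK LD1_c1 LD2_c31 LD3_c37)) = (LP (LK LD1_c0 LD2_c47 LD3_c12)) :=
  Lgr Lrot47 (Lpr_gt (K3.f109186 IH) (Lpe (f88827 IH) (Lpr_ff (f88780 IH) (Lpn (LP (LK LD1_c0 LD2_c47 LD3_c12))))))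
theorem f121515 : Led Lsl_ct (LP (LK LD1_c1 LD2_c31 LD3_c37)) = (LP (LK LD1_c1 LD2_c44 LD3_c49)) :=
  Lgr Lrot91 (Lpr_gf (f109188 IH) (Lpe (f90226 IH) (Lpr_ct (f120930 IH) (Lpe (f120870 IH) (Lpe (f120836 IH) (Lpe (f26116 IH) (Lpr_gf (f121512 IH) (Lpe (f12642 IH) (Lpr_ct (f12636 IH) (Lpe (f114150 IH) (Lpn (LP (LK LD1_c1 LD2_c44 LD3_c49)))))))))))))
theorem f85591 : Led Lsl_gt (LP (LK LD1_c3 LD2_c28 LD3_c23)) = (LP (LK LD1_c6 LD2_c58 LD3_c51)) :=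
  Lre_g IH (LK LD1_c3 LD2_c28 LD3_c23) (LK LD1_c6 LD2_c58 LD3_c51) Lrfl Lrfl
theorem f121523 : Led Lsl_ct (LP (LK LD1_c6 LD2_c58 LD3_c51)) = (LP (LK LD1_c3 LD2_c35 LD3_c56)) :=
  Lgr Lrot110 (Lpe (f85591 IH) (Lpe (K3.f85331 IH) (Lpr_gf (K2.f87582 IH) (Lpe (K2.f62830 IH) (Lpe (K2.f84987 IH) (Lpr_ct (f84996 IH) (Lpe (f109188 IH) (Lpr_ct (f121515 IH) (Lpe (K3.f106336 IH) (Lpn (LP (LK LD1_c3 LD2_c35 LD3_c56))))))))))))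
theorem f106329 : Led Lsl_ff (LP (LK LD1_c3 LD2_c15 LD3_c20)) = (LP (LK LD1_c3 LD2_c35 LD3_c56)) :=
  Lgr Lrot19 (Lpr_dt (K3.f95183 IH) (Lpr_ft (K3.f106319 IH) (Lpr_dt (K3.f106328 IH) (Lpn (LP (LK LD1_c3 LD2_c35 LD3_c56))))))
theorem f121529 : Led Lsl_ff (LP (LK LD1_c6 LD2_c58 LD3_c51)) = (LP (LK LD1_c3 LD2_c28 LD3_c48)) :=
  Lgr Lrot23 (Lpr_ct (f121523 IH) (Lpe (f106329 IH) (Lpr_ct (K3.f95763 IH) (Lpn (LP (LK LD1_c3 LD2_c28 LD3_c48))))))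
theorem f121542 : Led Lsl_at (LP (LK LD1_c6 LD2_c58 LD3_c51)) = (LP (LK LD1_c3 LD2_c28 LD3_c47)) :=
  Lgr Lrot26 (Lpr_ff (f121529 IH) (Lpr_gt (K3.f85300 IH) (Lpr_gt (K3.f85292 IH) (Lpn (LP (LK LD1_c3 LD2_c28 LD3_c47))))))
theorem f107156 : Led Lsl_af (LP (LK LD1_c3 LD2_c28 LD3_c48)) = (LP (LK LD1_c3 LD2_c34 LD3_c30)) :=
  Lgr Lrot68 (Lpe (K3.f95760 IH) (Lpr_at (K3.f107090 IH) (Lpr_ct (K3.f106614 IH) (Lpn (LP (LK LD1_c3 LD2_c34 LD3_c30))))))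
theorem f121544 : Led Lsl_ff (LP (LK LD1_c3 LD2_c34 LD3_c30)) = (LP (LK LD1_c3 LD2_c28 LD3_c47)) :=
  Lgr Lrot30 (Lpe (f107156 IH) (Lpe (f121529 IH) (Lpr_at (f121542 IH) (Lpn (LP (LK LD1_c3 LD2_c28 LD3_c47))))))
theorem f121551 : Led Lsl_ft (LP (LK LD1_c3 LD2_c34 LD3_c30)) = (LP (LK LD1_c3 LD2_c28 LD3_c47)) :=
  Lgr Lrot48 (Lpr_ff (f121544 IH) (Lpn (LP (LK LD1_c3 LD2_c28 LD3_c47))))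
theorem f106668 : Led Lsl_bt (LP (LK LD1_c7 LD2_c10 LD3_c5)) = (LP (LK LD1_c3 LD2_c34 LD3_c30)) :=
  Lre_b IH (LK LD1_c7 LD2_c10 LD3_c5) (LK LD1_c3 LD2_c34 LD3_c30) Lrfl Lrfl
theorem f86700 : Led Lsl_bt (LP (LK LD1_c3 LD2_c28 LD3_c47)) = (LP (LK LD1_c6 LD2_c59 LD3_c10)) :=
  Lre_b IH (LK LD1_c3 LD2_c28 LD3_c47) (LK LD1_c6 LD2_c59 LD3_c10) Lrfl Lrfl
theorem f121555 : Led Lsl_ff (LP (LK LD1_c7 LD2_c10 LD3_c5)) = (LP (LK LD1_c6 LD2_c59 LD3_c10)) :=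
  Lgr Lrot25 (Lpr_bt (f106668 IH) (Lpr_ft (f121551 IH) (Lpr_bt (f86700 IH) (Lpn (LP (LK LD1_c6 LD2_c59 LD3_c10))))))
theorem f106671 : Led Lsl_ct (LP (LK LD1_c7 LD2_c10 LD3_c5)) = (LP (LK LD1_c3 LD2_c34 LD3_c32)) :=
  Lre_c IH (LK LD1_c7 LD2_c10 LD3_c5) (LK LD1_c3 LD2_c34 LD3_c32) Lrfl Lrfl
theorem f86692 : Led Lsl_bt (LP (LK LD1_c1 LD2_c44 LD3_c60)) = (LP (LK LD1_c3 LD2_c36 LD3_c15)) :=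
  Lre_b IH (LK LD1_c1 LD2_c44 LD3_c60) (LK LD1_c3 LD2_c36 LD3_c15) Lrfl Lrfl
theorem f85585 : Led Lsl_bt (LP (LK LD1_c6 LD2_c59 LD3_c10)) = (LP (LK LD1_c3 LD2_c28 LD3_c47)) :=
  Lre_b IH (LK LD1_c6 LD2_c59 LD3_c10) (LK LD1_c3 LD2_c28 LD3_c47) Lrfl Lrfl
theorem f86693 : Led Lsl_ct (LP (LK LD1_c3 LD2_c36 LD3_c15)) = (LP (LK LD1_c6 LD2_c59 LD3_c10)) :=
  Lgr Lrot83 (Lpe (f86692 IH) (Lpe (K3.f86691 IH) (Lpe (K3.f86690 IH) (Lpr_cf (K3.f85601 IH) (Lpe (f85585 IH) (Lpn (LP (LK LD1_c6 LD2_c59 LD3_c10))))))))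
theorem f121560 : Led Lsl_ft (LP (LK LD1_c3 LD2_c34 LD3_c32)) = (LP (LK LD1_c3 LD2_c36 LD3_c15)) :=
  Lgr Lrot4 (Lpe (f106671 IH) (Lpr_ff (f121555 IH) (Lpe (f86693 IH) (Lpn (LP (LK LD1_c3 LD2_c36 LD3_c15))))))
theorem f121577 : Led Lsl_ff (LP (LK LD1_c3 LD2_c34 LD3_c32)) = (LP (LK LD1_c3 LD2_c36 LD3_c15)) :=
  Lgr Lrot3 (Lpr_ft (f121560 IH) (Lpn (LP (LK LD1_c3 LD2_c36 LD3_c15))))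
theorem f106605 : Led Lsl_dt (LP (LK LD1_c3 LD2_c34 LD3_c32)) = (LP (LK LD1_c7 LD2_c10 LD3_c12)) :=
  Lre_d IH (LK LD1_c3 LD2_c34 LD3_c32) (LK LD1_c7 LD2_c10 LD3_c12) Lrfl Lrfl
theorem f86889 : Led Lsl_dt (LP (LK LD1_c7 LD2_c12 LD3_c53)) = (LP (LK LD1_c3 LD2_c36 LD3_c15)) :=
  Lre_d IH (LK LD1_c7 LD2_c12 LD3_c53) (LK LD1_c3 LD2_c36 LD3_c15) Lrfl Lrfl
theorem f121584 : Led Lsl_ft (LP (LK LD1_c7 LD2_c10 LD3_c12)) = (LP (LK LD1_c7 LD2_c12 LD3_c53)) :=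
  Lgr Lrot54 (Lpe (f106605 IH) (Lpr_ff (f121577 IH) (Lpe (f86889 IH) (Lpn (LP (LK LD1_c7 LD2_c12 LD3_c53))))))
theorem f106586 : Led Lsl_ct (LP (LK LD1_c13 LD2_c34 LD3_c42)) = (LP (LK LD1_c7 LD2_c10 LD3_c12)) :=
  Lre_c IH (LK LD1_c13 LD2_c34 LD3_c42) (LK LD1_c7 LD2_c10 LD3_c12) Lrfl Lrfl
theorem f86882 : Led Lsl_ct (LP (LK LD1_c7 LD2_c12 LD3_c53)) = (LP (LK LD1_c13 LD2_c39 LD3_c20)) :=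
  Lre_c IH (LK LD1_c7 LD2_c12 LD3_c53) (LK LD1_c13 LD2_c39 LD3_c20) Lrfl Lrfl
theorem f121597 : Led Lsl_ff (LP (LK LD1_c13 LD2_c34 LD3_c42)) = (LP (LK LD1_c13 LD2_c39 LD3_c20)) :=
  Lgr Lrot23 (Lpr_ct (f106586 IH) (Lpr_ft (f121584 IH) (Lpr_ct (f86882 IH) (Lpn (LP (LK LD1_c13 LD2_c39 LD3_c20))))))
theorem f121604 : Led Lsl_ft (LP (LK LD1_c13 LD2_c34 LD3_c42)) = (LP (LK LD1_c13 LD2_c39 LD3_c20)) :=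
  Lgr Lrot48 (Lpr_ff (f121597 IH) (Lpn (LP (LK LD1_c13 LD2_c39 LD3_c20))))
theorem f106494 : Led Lsl_bt (LP (LK LD1_c3 LD2_c34 LD3_c38)) = (LP (LK LD1_c7 LD2_c10 LD3_c23)) :=
  Lre_b IH (LK LD1_c3 LD2_c34 LD3_c38) (LK LD1_c7 LD2_c10 LD3_c23) Lrfl Lrfl
theorem f106584 : Led Lsl_ct (LP (LK LD1_c7 LD2_c10 LD3_c23)) = (LP (LK LD1_c13 LD2_c35 LD3_c3)) :=
  Lre_c IH (LK LD1_c7 LD2_c10 LD3_c23) (LK LD1_c13 LD2_c35 LD3_c3) Lrfl Lrfl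
theorem f106585 : Led Lsl_bt (LP (LK LD1_c7 LD2_c10 LD3_c12)) = (LP (LK LD1_c3 LD2_c34 LD3_c33)) :=
  Lre_b IH (LK LD1_c7 LD2_c10 LD3_c12) (LK LD1_c3 LD2_c34 LD3_c33) Lrfl Lrfl
theorem f106587 : Led Lsl_bt (LP (LK LD1_c13 LD2_c35 LD3_c3)) = (LP (LK LD1_c13 LD2_c34 LD3_c42)) :=
  Lgr Lrot128 (Lpe (f106584 IH) (Lpe (f106494 IH) (Lpr_cf (K3.f106485 IH) (Lpe (f106585 IH) (Lpe (f106586 IH) (Lpn (LP (LK LD1_c13 LD2_c34 LD3_c42))))))))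
theorem f105773 : Led Lsl_bt (LP (LK LD1_c3 LD2_c36 LD3_c16)) = (LP (LK LD1_c7 LD2_c12 LD3_c53)) :=
  Lre_b IH (LK LD1_c3 LD2_c36 LD3_c16) (LK LD1_c7 LD2_c12 LD3_c53) Lrfl Lrfl
theorem f86867 : Led Lsl_bt (LP (LK LD1_c13 LD2_c28 LD3_c56)) = (LP (LK LD1_c7 LD2_c6 LD3_c53)) :=
  Lre_b IH (LK LD1_c13 LD2_c28 LD3_c56) (LK LD1_c7 LD2_c6 LD3_c53) Lrfl Lrfl
theorem f86868 : Led Lsl_ct (LP (LK LD1_c22 LD2_c48 LD3_c58)) = (LP (LK LD1_c13 LD2_c28 LD3_c56)) :=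
  Lre_c IH (LK LD1_c22 LD2_c48 LD3_c58) (LK LD1_c13 LD2_c28 LD3_c56) Lrfl Lrfl
theorem f105774 : Led Lsl_bt (LP (LK LD1_c13 LD2_c39 LD3_c20)) = (LP (LK LD1_c22 LD2_c48 LD3_c58)) :=
  Lgr Lrot128 (Lpe (f86882 IH) (Lpe (f105773 IH) (Lpr_cf (K3.f105763 IH) (Lpe (f86867 IH) (Lpe (f86868 IH) (Lpn (LP (LK LD1_c22 LD2_c48 LD3_c58))))))))
theorem f121606 : Led Lsl_ff (LP (LK LD1_c13 LD2_c35 LD3_c3)) = (LP (LK LD1_c22 LD2_c48 LD3_c58)) :=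
  Lgr Lrot25 (Lpr_bt (f106587 IH) (Lpr_ft (f121604 IH) (Lpr_bt (f105774 IH) (Lpn (LP (LK LD1_c22 LD2_c48 LD3_c58))))))
theorem f106480 : Led Lsl_ct (LP (LK LD1_c13 LD2_c35 LD3_c3)) = (LP (LK LD1_c7 LD2_c10 LD3_c23)) :=
  Lre_c IH (LK LD1_c13 LD2_c35 LD3_c3) (LK LD1_c7 LD2_c10 LD3_c23) Lrfl Lrfl
theorem f86870 : Led Lsl_ct (LP (LK LD1_c13 LD2_c28 LD3_c56)) = (LP (LK LD1_c22 LD2_c48 LD3_c58)) :=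
  Lre_c IH (LK LD1_c13 LD2_c28 LD3_c56) (LK LD1_c22 LD2_c48 LD3_c58) Lrfl Lrfl
theorem f121614 : Led Lsl_ft (LP (LK LD1_c7 LD2_c10 LD3_c23)) = (LP (LK LD1_c13 LD2_c28 LD3_c56)) :=
  Lgr Lrot4 (Lpe (f106480 IH) (Lpr_ff (f121606 IH) (Lpe (f86870 IH) (Lpn (LP (LK LD1_c13 LD2_c28 LD3_c56))))))
theorem f121638 : Led Lsl_ff (LP (LK LD1_c7 LD2_c10 LD3_c23)) = (LP (LK LD1_c13 LD2_c28 LD3_c56)) :=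
  Lgr Lrot3 (Lpr_ft (f121614 IH) (Lpn (LP (LK LD1_c13 LD2_c28 LD3_c56))))
theorem f121652 : Led Lsl_et (LP (LK LD1_c7 LD2_c10 LD3_c23)) = (LP (LK LD1_c13 LD2_c35 LD3_c4)) :=
  Lre_e IH (LK LD1_c7 LD2_c10 LD3_c23) (LK LD1_c13 LD2_c35 LD3_c4) Lrfl Lrfl
theorem f121653 : Led Lsl_ft (LP (LK LD1_c13 LD2_c35 LD3_c4)) = (LP (LK LD1_c22 LD2_c58 LD3_c40)) :=
  Lre_f IH (LK LD1_c13 LD2_c35 LD3_c4) (LK LD1_c22 LD2_c58 LD3_c40) Lrfl Lrfl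
theorem f121654 : Led Lsl_et (LP (LK LD1_c22 LD2_c48 LD3_c59)) = (LP (LK LD1_c13 LD2_c28 LD3_c56)) :=
  Lre_e IH (LK LD1_c22 LD2_c48 LD3_c59) (LK LD1_c13 LD2_c28 LD3_c56) Lrfl Lrfl
theorem f121655 : Led Lsl_ft (LP (LK LD1_c30 LD2_c44 LD3_c1)) = (LP (LK LD1_c22 LD2_c48 LD3_c59)) :=
  Lre_f IH (LK LD1_c30 LD2_c44 LD3_c1) (LK LD1_c22 LD2_c48 LD3_c59) Lrfl Lrfl
theorem f121656 : Led Lsl_et (LP (LK LD1_c22 LD2_c58 LD3_c40)) = (LP (LK LD1_c30 LD2_c44 LD3_c1)) :=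
  Lgr Lrot69 (Lpe (f121653 IH) (Lpe (f121652 IH) (Lpr_ff (f121638 IH) (Lpe (f121654 IH) (Lpe (f121655 IH) (Lpn (LP (LK LD1_c30 LD2_c44 LD3_c1))))))))
theorem f106565 : Led Lsl_bt (LP (LK LD1_c13 LD2_c35 LD3_c10)) = (LP (LK LD1_c22 LD2_c58 LD3_c40)) :=
  Lre_b IH (LK LD1_c13 LD2_c35 LD3_c10) (LK LD1_c22 LD2_c58 LD3_c40) Lrfl Lrfl
theorem f105807 : Led Lsl_bt (LP (LK LD1_c30 LD2_c44 LD3_c1)) = (LP (LK LD1_c22 LD2_c49 LD3_c0)) :=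
  Lre_b IH (LK LD1_c30 LD2_c44 LD3_c1) (LK LD1_c22 LD2_c49 LD3_c0) Lrfl Lrfl
theorem f121659 : Led Lsl_ef (LP (LK LD1_c13 LD2_c35 LD3_c10)) = (LP (LK LD1_c22 LD2_c49 LD3_c0)) :=
  Lgr Lrot29 (Lpr_bt (f106565 IH) (Lpr_et (f121656 IH) (Lpr_bt (f105807 IH) (Lpn (LP (LK LD1_c22 LD2_c49 LD3_c0))))))
theorem f121665 : Led Lsl_et (LP (LK LD1_c13 LD2_c35 LD3_c10)) = (LP (LK LD1_c22 LD2_c49 LD3_c0)) :=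
  Lgr Lrot87 (Lpr_ef (f121659 IH) (Lpn (LP (LK LD1_c22 LD2_c49 LD3_c0))))
theorem f106487 : Led Lsl_et (LP (LK LD1_c7 LD2_c10 LD3_c25)) = (LP (LK LD1_c3 LD2_c34 LD3_c38)) :=
  Lre_e IH (LK LD1_c7 LD2_c10 LD3_c25) (LK LD1_c3 LD2_c34 LD3_c38) Lrfl Lrfl
theorem f106488 : Led Lsl_et (LP (LK LD1_c3 LD2_c34 LD3_c33)) = (LP (LK LD1_c7 LD2_c10 LD3_c14)) :=
  Lre_e IH (LK LD1_c3 LD2_c34 LD3_c33) (LK LD1_c7 LD2_c10 LD3_c14) Lrfl Lrfl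
theorem f106489 : Led Lsl_cf (LP (LK LD1_c7 LD2_c10 LD3_c25)) = (LP (LK LD1_c7 LD2_c10 LD3_c14)) :=
  Lgr Lrot39 (Lpr_et (f106487 IH) (Lpr_ct (K3.f106477 IH) (Lpr_et (f106488 IH) (Lpn (LP (LK LD1_c7 LD2_c10 LD3_c14))))))
theorem f106511 : Led Lsl_ft (LP (LK LD1_c7 LD2_c10 LD3_c25)) = (LP (LK LD1_c13 LD2_c35 LD3_c10)) :=
  Lre_f IH (LK LD1_c7 LD2_c10 LD3_c25) (LK LD1_c13 LD2_c35 LD3_c10) Lrfl Lrfl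
theorem f106512 : Led Lsl_ft (LP (LK LD1_c13 LD2_c34 LD3_c50)) = (LP (LK LD1_c7 LD2_c10 LD3_c14)) :=
  Lre_f IH (LK LD1_c13 LD2_c34 LD3_c50) (LK LD1_c7 LD2_c10 LD3_c14) Lrfl Lrfl
theorem f106513 : Led Lsl_ct (LP (LK LD1_c13 LD2_c35 LD3_c10)) = (LP (LK LD1_c13 LD2_c34 LD3_c50)) :=
  Lgr Lrot40 (Lpe (f106511 IH) (Lpr_cf (f106489 IH) (Lpe (f106512 IH) (Lpn (LP (LK LD1_c13 LD2_c34 LD3_c50))))))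
theorem f106557 : Led Lsl_cf (LP (LK LD1_c13 LD2_c35 LD3_c10)) = (LP (LK LD1_c13 LD2_c34 LD3_c50)) :=
  Lgr Lrot11 (Lpr_ct (f106513 IH) (Lpn (LP (LK LD1_c13 LD2_c34 LD3_c50))))
theorem f105778 : Led Lsl_et (LP (LK LD1_c3 LD2_c36 LD3_c16)) = (LP (LK LD1_c7 LD2_c12 LD3_c54)) :=
  Lre_e IH (LK LD1_c3 LD2_c36 LD3_c16) (LK LD1_c7 LD2_c12 LD3_c54) Lrfl Lrfl
theorem f86871 : Led Lsl_et (LP (LK LD1_c13 LD2_c28 LD3_c58)) = (LP (LK LD1_c7 LD2_c6 LD3_c53)) :=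
  Lre_e IH (LK LD1_c13 LD2_c28 LD3_c58) (LK LD1_c7 LD2_c6 LD3_c53) Lrfl Lrfl
theorem f105779 : Led Lsl_ct (LP (LK LD1_c7 LD2_c12 LD3_c54)) = (LP (LK LD1_c13 LD2_c28 LD3_c58)) :=
  Lgr Lrot15 (Lpe (f105778 IH) (Lpr_cf (K3.f105763 IH) (Lpe (f86871 IH) (Lpn (LP (LK LD1_c13 LD2_c28 LD3_c58))))))
theorem f105790 : Led Lsl_ft (LP (LK LD1_c13 LD2_c39 LD3_c24)) = (LP (LK LD1_c7 LD2_c12 LD3_c54)) :=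
  Lre_f IH (LK LD1_c13 LD2_c39 LD3_c24) (LK LD1_c7 LD2_c12 LD3_c54) Lrfl Lrfl
theorem f105791 : Led Lsl_ft (LP (LK LD1_c13 LD2_c28 LD3_c58)) = (LP (LK LD1_c22 LD2_c49 LD3_c0)) :=
  Lre_f IH (LK LD1_c13 LD2_c28 LD3_c58) (LK LD1_c22 LD2_c49 LD3_c0) Lrfl Lrfl
theorem f105792 : Led Lsl_cf (LP (LK LD1_c13 LD2_c39 LD3_c24)) = (LP (LK LD1_c22 LD2_c49 LD3_c0)) :=
  Lgr Lrot108 (Lpr_ft (f105790 IH) (Lpr_ct (f105779 IH) (Lpr_ft (f105791 IH) (Lpn (LP (LK LD1_c22 LD2_c49 LD3_c0))))))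
theorem f121667 : Led Lsl_ef (LP (LK LD1_c13 LD2_c34 LD3_c50)) = (LP (LK LD1_c13 LD2_c39 LD3_c24)) :=
  Lgr Lrot28 (Lpe (f106557 IH) (Lpr_et (f121665 IH) (Lpe (f105792 IH) (Lpn (LP (LK LD1_c13 LD2_c39 LD3_c24))))))
theorem f106577 : Led Lsl_et (LP (LK LD1_c7 LD2_c10 LD3_c14)) = (LP (LK LD1_c3 LD2_c34 LD3_c33)) :=
  Lre_e IH (LK LD1_c7 LD2_c10 LD3_c14) (LK LD1_c3 LD2_c34 LD3_c33) Lrfl Lrfl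
theorem f105812 : Led Lsl_ft (LP (LK LD1_c7 LD2_c12 LD3_c54)) = (LP (LK LD1_c13 LD2_c39 LD3_c24)) :=
  Lre_f IH (LK LD1_c7 LD2_c12 LD3_c54) (LK LD1_c13 LD2_c39 LD3_c24) Lrfl Lrfl
theorem f121669 : Led Lsl_ft (LP (LK LD1_c3 LD2_c34 LD3_c33)) = (LP (LK LD1_c3 LD2_c36 LD3_c16)) :=
  Lgr Lrot86 (Lpe (f106577 IH) (Lpe (f106512 IH) (Lpr_ef (f121667 IH) (Lpe (f105812 IH) (Lpe (f105778 IH) (Lpn (LP (LK LD1_c3 LD2_c36 LD3_c16))))))))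
theorem f107703 : Led Lsl_at (LP (LK LD1_c3 LD2_c36 LD3_c16)) = (LP (LK LD1_c3 LD2_c32 LD3_c33)) :=
  Lgr Lrot100 (Lpr_af (K3.f107701 IH) (Lpn (LP (LK LD1_c3 LD2_c32 LD3_c33))))
theorem f107699 : Led Lsl_ff (LP (LK LD1_c3 LD2_c38 LD3_c10)) = (LP (LK LD1_c3 LD2_c32 LD3_c33)) :=
  Lgr Lrot3 (Lpr_ft (K3.f107687 IH) (Lpn (LP (LK LD1_c3 LD2_c32 LD3_c33))))
theorem f121671 : Led Lsl_af (LP (LK LD1_c3 LD2_c34 LD3_c33)) = (LP (LK LD1_c3 LD2_c38 LD3_c10)) :=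
  Lgr Lrot45 (Lpr_ft (f121669 IH) (Lpr_at (f107703 IH) (Lpe (f107699 IH) (Lpn (LP (LK LD1_c3 LD2_c38 LD3_c10))))))
theorem f105918 : Led Lsl_et (LP (LK LD1_c7 LD2_c16 LD3_c43)) = (LP (LK LD1_c3 LD2_c38 LD3_c10)) :=
  Lre_e IH (LK LD1_c7 LD2_c16 LD3_c43) (LK LD1_c3 LD2_c38 LD3_c10) Lrfl Lrfl
theorem f121683 : Led Lsl_at (LP (LK LD1_c7 LD2_c10 LD3_c14)) = (LP (LK LD1_c7 LD2_c16 LD3_c43)) :=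
  Lgr Lrot80 (Lpe (f106488 IH) (Lpr_af (f121671 IH) (Lpe (f105918 IH) (Lpn (LP (LK LD1_c7 LD2_c16 LD3_c43))))))
theorem f105915 : Led Lsl_ft (LP (LK LD1_c7 LD2_c16 LD3_c43)) = (LP (LK LD1_c13 LD2_c46 LD3_c23)) :=
  Lre_f IH (LK LD1_c7 LD2_c16 LD3_c43) (LK LD1_c13 LD2_c46 LD3_c23) Lrfl Lrfl
theorem f121689 : Led Lsl_af (LP (LK LD1_c13 LD2_c34 LD3_c50)) = (LP (LK LD1_c13 LD2_c46 LD3_c23)) :=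
  Lgr Lrot45 (Lpr_ft (f106512 IH) (Lpr_at (f121683 IH) (Lpr_ft (f105915 IH) (Lpn (LP (LK LD1_c13 LD2_c46 LD3_c23))))))
theorem f105885 : Led Lsl_et (LP (LK LD1_c3 LD2_c38 LD3_c10)) = (LP (LK LD1_c7 LD2_c16 LD3_c43)) :=
  Lre_e IH (LK LD1_c3 LD2_c38 LD3_c10) (LK LD1_c7 LD2_c16 LD3_c43) Lrfl Lrfl
theorem f105851 : Led Lsl_et (LP (LK LD1_c13 LD2_c28 LD3_c52)) = (LP (LK LD1_c7 LD2_c6 LD3_c51)) :=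
  Lre_e IH (LK LD1_c13 LD2_c28 LD3_c52) (LK LD1_c7 LD2_c6 LD3_c51) Lrfl Lrfl
theorem f105886 : Led Lsl_ct (LP (LK LD1_c7 LD2_c16 LD3_c43)) = (LP (LK LD1_c13 LD2_c28 LD3_c52)) :=
  Lgr Lrot15 (Lpe (f105885 IH) (Lpr_cf (K3.f105857 IH) (Lpe (f105851 IH) (Lpn (LP (LK LD1_c13 LD2_c28 LD3_c52))))))
theorem f105894 : Led Lsl_ft (LP (LK LD1_c13 LD2_c46 LD3_c23)) = (LP (LK LD1_c7 LD2_c16 LD3_c43)) :=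
  Lre_f IH (LK LD1_c13 LD2_c46 LD3_c23) (LK LD1_c7 LD2_c16 LD3_c43) Lrfl Lrfl
theorem f105895 : Led Lsl_ft (LP (LK LD1_c13 LD2_c28 LD3_c52)) = (LP (LK LD1_c22 LD2_c48 LD3_c53)) :=
  Lre_f IH (LK LD1_c13 LD2_c28 LD3_c52) (LK LD1_c22 LD2_c48 LD3_c53) Lrfl Lrfl
theorem f105896 : Led Lsl_cf (LP (LK LD1_c13 LD2_c46 LD3_c23)) = (LP (LK LD1_c22 LD2_c48 LD3_c53)) :=
  Lgr Lrot108 (Lpr_ft (f105894 IH) (Lpr_ct (f105886 IH) (Lpr_ft (f105895 IH) (Lpn (LP (LK LD1_c22 LD2_c48 LD3_c53))))))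
theorem f121697 : Led Lsl_at (LP (LK LD1_c13 LD2_c35 LD3_c10)) = (LP (LK LD1_c22 LD2_c48 LD3_c53)) :=
  Lgr Lrot107 (Lpr_cf (f106557 IH) (Lpr_af (f121689 IH) (Lpr_cf (f105896 IH) (Lpn (LP (LK LD1_c22 LD2_c48 LD3_c53))))))
theorem f121703 : Led Lsl_af (LP (LK LD1_c13 LD2_c35 LD3_c10)) = (LP (LK LD1_c22 LD2_c48 LD3_c53)) :=
  Lgr Lrot0 (Lpr_at (f121697 IH) (Lpn (LP (LK LD1_c22 LD2_c48 LD3_c53))))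
theorem f106567 : Led Lsl_ft (LP (LK LD1_c13 LD2_c35 LD3_c10)) = (LP (LK LD1_c7 LD2_c10 LD3_c25)) :=
  Lre_f IH (LK LD1_c13 LD2_c35 LD3_c10) (LK LD1_c7 LD2_c10 LD3_c25) Lrfl Lrfl
theorem f121710 : Led Lsl_at (LP (LK LD1_c7 LD2_c10 LD3_c25)) = (LP (LK LD1_c13 LD2_c28 LD3_c52)) :=
  Lgr Lrot66 (Lpe (f106567 IH) (Lpr_af (f121703 IH) (Lpe (f105895 IH) (Lpn (LP (LK LD1_c13 LD2_c28 LD3_c52))))))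
theorem f106576 : Led Lsl_et (LP (LK LD1_c3 LD2_c34 LD3_c38)) = (LP (LK LD1_c7 LD2_c10 LD3_c25)) :=
  Lre_e IH (LK LD1_c3 LD2_c34 LD3_c38) (LK LD1_c7 LD2_c10 LD3_c25) Lrfl Lrfl
theorem f121716 : Led Lsl_af (LP (LK LD1_c3 LD2_c34 LD3_c38)) = (LP (LK LD1_c7 LD2_c6 LD3_c51)) :=
  Lgr Lrot50 (Lpr_et (f106576 IH) (Lpr_at (f121710 IH) (Lpr_et (f105851 IH) (Lpn (LP (LK LD1_c7 LD2_c6 LD3_c51))))))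
theorem f121723 : Led Lsl_at (LP (LK LD1_c1 LD2_c44 LD3_c5)) = (LP (LK LD1_c3 LD2_c32 LD3_c57)) :=
  Lgr Lrot51 (Lpe (K3.f106589 IH) (Lpr_af (f121716 IH) (Lpe (K3.f10718 IH) (Lpn (LP (LK LD1_c3 LD2_c32 LD3_c57))))))
theorem f121733 : Led Lsl_ff (LP (LK LD1_c1 LD2_c44 LD3_c5)) = (LP (LK LD1_c3 LD2_c32 LD3_c58)) :=
  Lgr Lrot52 (Lpr_at (f121723 IH) (Lpe (K3.f10405 IH) (Lpe (K3.f10406 IH) (Lpn (LP (LK LD1_c3 LD2_c32 LD3_c58))))))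
theorem f121738 : Led Lsl_ft (LP (LK LD1_c1 LD2_c44 LD3_c5)) = (LP (LK LD1_c3 LD2_c32 LD3_c58)) :=
  Lgr Lrot48 (Lpr_ff (f121733 IH) (Lpn (LP (LK LD1_c3 LD2_c32 LD3_c58))))
theorem f86720 : Led Lsl_cf (LP (LK LD1_c1 LD2_c46 LD3_c1)) = (LP (LK LD1_c3 LD2_c32 LD3_c58)) :=
  Lgr Lrot99 (Lpe (K3.f86719 IH) (Lpe (K3.f17995 IH) (Lpr_gf (K3.f86715 IH) (Lpe (K0.f19755 IH) (Lpr_gf (K3.f18002 IH) (Lpe (K3.f17727 IH) (Lpr_gt (K3.f86709 IH) (Lpr_ct (K0.f11506 IH) (Lpr_gt (K3.f10987 IH) (Lpn (LP (LK LD1_c3 LD2_c32 LD3_c58))))))))))))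
theorem f121740 : Led Lsl_ff (LP (LK LD1_c1 LD2_c42 LD3_c49)) = (LP (LK LD1_c1 LD2_c46 LD3_c1)) :=
  Lgr Lrot23 (Lpe (K3.f106274 IH) (Lpr_ft (f121738 IH) (Lpe (f86720 IH) (Lpn (LP (LK LD1_c1 LD2_c46 LD3_c1))))))
theorem f121746 : Led Lsl_at (LP (LK LD1_c1 LD2_c42 LD3_c49)) = (LP (LK LD1_c1 LD2_c44 LD3_c54)) :=
  Lgr Lrot26 (Lpr_ff (f121740 IH) (Lpe (K3.f105769 IH) (Lpr_gt (K3.f106097 IH) (Lpn (LP (LK LD1_c1 LD2_c44 LD3_c54))))))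
theorem f105970 : Led Lsl_et (LP (LK LD1_c3 LD2_c32 LD3_c11)) = (LP (LK LD1_c1 LD2_c42 LD3_c49)) :=
  Lre_e IH (LK LD1_c3 LD2_c32 LD3_c11) (LK LD1_c1 LD2_c42 LD3_c49) Lrfl Lrfl
theorem f17721 : Led Lsl_et (LP (LK LD1_c1 LD2_c44 LD3_c54)) = (LP (LK LD1_c3 LD2_c36 LD3_c1)) :=
  Lre_e IH (LK LD1_c1 LD2_c44 LD3_c54) (LK LD1_c3 LD2_c36 LD3_c1) Lrfl Lrfl
theorem f121750 : Led Lsl_af (LP (LK LD1_c3 LD2_c32 LD3_c11)) = (LP (LK LD1_c3 LD2_c36 LD3_c1)) :=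
  Lgr Lrot50 (Lpr_et (f105970 IH) (Lpr_at (f121746 IH) (Lpr_et (f17721 IH) (Lpn (LP (LK LD1_c3 LD2_c36 LD3_c1))))))
theorem f92315 : Led Lsl_dt (LP (LK LD1_c3 LD2_c32 LD3_c11)) = (LP (LK LD1_c1 LD2_c42 LD3_c47)) :=
  Lre_d IH (LK LD1_c3 LD2_c32 LD3_c11) (LK LD1_c1 LD2_c42 LD3_c47) Lrfl Lrfl
theorem f121754 : Led Lsl_dt (LP (LK LD1_c1 LD2_c44 LD3_c53)) = (LP (LK LD1_c3 LD2_c36 LD3_c1)) :=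
  Lre_d IH (LK LD1_c1 LD2_c44 LD3_c53) (LK LD1_c3 LD2_c36 LD3_c1) Lrfl Lrfl
theorem f121755 : Led Lsl_at (LP (LK LD1_c1 LD2_c42 LD3_c47)) = (LP (LK LD1_c1 LD2_c44 LD3_c53)) :=
  Lgr Lrot51 (Lpe (f92315 IH) (Lpr_af (f121750 IH) (Lpe (f121754 IH) (Lpn (LP (LK LD1_c1 LD2_c44 LD3_c53))))))
theorem f84737 : Led Lsl_et (LP (LK LD1_c0 LD2_c47 LD3_c61)) = (LP (LK LD1_c1 LD2_c42 LD3_c47)) :=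
  Lre_e IH (LK LD1_c0 LD2_c47 LD3_c61) (LK LD1_c1 LD2_c42 LD3_c47) Lrfl Lrfl
theorem f121759 : Led Lsl_et (LP (LK LD1_c1 LD2_c44 LD3_c53)) = (LP (LK LD1_c0 LD2_c49 LD3_c7)) :=
  Lre_e IH (LK LD1_c1 LD2_c44 LD3_c53) (LK LD1_c0 LD2_c49 LD3_c7) Lrfl Lrfl
theorem f121760 : Led Lsl_af (LP (LK LD1_c0 LD2_c47 LD3_c61)) = (LP (LK LD1_c0 LD2_c49 LD3_c7)) :=
  Lgr Lrot50 (Lpr_et (f84737 IH) (Lpr_at (f121755 IH) (Lpr_et (f121759 IH) (Lpn (LP (LK LD1_c0 LD2_c49 LD3_c7))))))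
theorem f121781 : Led Lsl_ft (LP (LK LD1_c0 LD2_c48 LD3_c8)) = (LP (LK LD1_c0 LD2_c49 LD3_c7)) :=
  Lgr Lrot2 (Lpr_gt (K2.f94450 IH) (Lpr_gt (K2.f92294 IH) (Lpr_af (f121760 IH) (Lpn (LP (LK LD1_c0 LD2_c49 LD3_c7))))))
theorem f121785 : Led Lsl_ff (LP (LK LD1_c0 LD2_c48 LD3_c8)) = (LP (LK LD1_c0 LD2_c49 LD3_c7)) :=
  Lgr Lrot3 (Lpr_ft (f121781 IH) (Lpn (LP (LK LD1_c0 LD2_c49 LD3_c7))))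
theorem f97463 : Led Lsl_gf (LP (LK LD1_c0 LD2_c47 LD3_c19)) = (LP (LK LD1_c0 LD2_c49 LD3_c7)) :=
  Lgr Lrot147 (Lpr_ct (K3.f11470 IH) (Lpr_gt (K3.f97456 IH) (Lpr_ct (K3.f10780 IH) (Lpe (K3.f10777 IH) (Lpe (K2.f10786 IH) (Lpr_gf (K2.f84689 IH) (Lpe (K2.f84687 IH) (Lpe (K3.f90092 IH) (Lpe (f10762 IH) (Lpn (LP (LK LD1_c0 LD2_c49 LD3_c7))))))))))))
theorem f121791 : Led Lsl_at (LP (LK LD1_c0 LD2_c48 LD3_c8)) = (LP (LK LD1_c0 LD2_c49 LD3_c0)) :=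
  Lgr Lrot26 (Lpr_ff (f121785 IH) (Lpe (f97463 IH) (Lpr_gt (K2.f89658 IH) (Lpn (LP (LK LD1_c0 LD2_c49 LD3_c0))))))
theorem f121777 : Led Lsl_at (LP (LK LD1_c0 LD2_c47 LD3_c61)) = (LP (LK LD1_c0 LD2_c49 LD3_c7)) :=
  Lgr Lrot100 (Lpr_af (f121760 IH) (Lpn (LP (LK LD1_c0 LD2_c49 LD3_c7))))
theorem f121801 : Led Lsl_ff (LP (LK LD1_c0 LD2_c47 LD3_c61)) = (LP (LK LD1_c0 LD2_c49 LD3_c0)) :=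
  Lgr Lrot30 (Lpr_at (f121777 IH) (Lpe (f121785 IH) (Lpr_at (f121791 IH) (Lpn (LP (LK LD1_c0 LD2_c49 LD3_c0))))))
theorem f121811 : Led Lsl_ft (LP (LK LD1_c0 LD2_c47 LD3_c61)) = (LP (LK LD1_c0 LD2_c49 LD3_c0)) :=
  Lgr Lrot48 (Lpr_ff (f121801 IH) (Lpn (LP (LK LD1_c0 LD2_c49 LD3_c0))))
theorem f92331 : Led Lsl_ft (LP (LK LD1_c3 LD2_c32 LD3_c12)) = (LP (LK LD1_c1 LD2_c42 LD3_c47)) :=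
  Lre_f IH (LK LD1_c3 LD2_c32 LD3_c12) (LK LD1_c1 LD2_c42 LD3_c47) Lrfl Lrfl
theorem f17688 : Led Lsl_ft (LP (LK LD1_c1 LD2_c44 LD3_c41)) = (LP (LK LD1_c3 LD2_c35 LD3_c38)) :=
  Lre_f IH (LK LD1_c1 LD2_c44 LD3_c41) (LK LD1_c3 LD2_c35 LD3_c38) Lrfl Lrfl
theorem f121819 : Led Lsl_ef (LP (LK LD1_c3 LD2_c32 LD3_c12)) = (LP (LK LD1_c3 LD2_c35 LD3_c38)) :=
  Lgr Lrot21 (Lpr_ft (f92331 IH) (Lpr_et (K2.f92280 IH) (Lpr_ft (f121811 IH) (Lpr_et (K3.f17675 IH) (Lpr_ft (f17688 IH) (Lpn (LP (LK LD1_c3 LD2_c35 LD3_c38))))))))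
theorem f92310 : Led Lsl_ft (LP (LK LD1_c3 LD2_c39 LD3_c25)) = (LP (LK LD1_c1 LD2_c46 LD3_c39)) :=
  Lre_f IH (LK LD1_c3 LD2_c39 LD3_c25) (LK LD1_c1 LD2_c46 LD3_c39) Lrfl Lrfl
theorem f92311 : Led Lsl_ft (LP (LK LD1_c1 LD2_c42 LD3_c47)) = (LP (LK LD1_c3 LD2_c32 LD3_c12)) :=
  Lre_f IH (LK LD1_c1 LD2_c42 LD3_c47) (LK LD1_c3 LD2_c32 LD3_c12) Lrfl Lrfl
theorem f92312 : Led Lsl_cf (LP (LK LD1_c3 LD2_c39 LD3_c25)) = (LP (LK LD1_c3 LD2_c32 LD3_c12)) :=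
  Lgr Lrot108 (Lpr_ft (f92310 IH) (Lpr_ct (K2.f92292 IH) (Lpr_ft (f92311 IH) (Lpn (LP (LK LD1_c3 LD2_c32 LD3_c12))))))
theorem f18032 : Led Lsl_ft (LP (LK LD1_c1 LD2_c46 LD3_c12)) = (LP (LK LD1_c3 LD2_c38 LD3_c28)) :=
  Lre_f IH (LK LD1_c1 LD2_c46 LD3_c12) (LK LD1_c3 LD2_c38 LD3_c28) Lrfl Lrfl
theorem f18033 : Led Lsl_cf (LP (LK LD1_c3 LD2_c35 LD3_c38)) = (LP (LK LD1_c3 LD2_c38 LD3_c28)) :=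
  Lgr Lrot108 (Lpr_ft (f17681 IH) (Lpr_ct (K3.f18021 IH) (Lpr_ft (f18032 IH) (Lpn (LP (LK LD1_c3 LD2_c38 LD3_c28))))))
theorem f121823 : Led Lsl_et (LP (LK LD1_c3 LD2_c39 LD3_c25)) = (LP (LK LD1_c3 LD2_c38 LD3_c28)) :=
  Lgr Lrot158 (Lpr_cf (f92312 IH) (Lpr_ef (f121819 IH) (Lpr_cf (f18033 IH) (Lpn (LP (LK LD1_c3 LD2_c38 LD3_c28))))))
theorem f121831 : Led Lsl_ef (LP (LK LD1_c3 LD2_c39 LD3_c25)) = (LP (LK LD1_c3 LD2_c38 LD3_c28)) :=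
  Lgr Lrot88 (Lpr_et (f121823 IH) (Lpn (LP (LK LD1_c3 LD2_c38 LD3_c28))))
theorem f92321 : Led Lsl_bt (LP (LK LD1_c3 LD2_c39 LD3_c25)) = (LP (LK LD1_c7 LD2_c18 LD3_c61)) :=
  Lre_b IH (LK LD1_c3 LD2_c39 LD3_c25) (LK LD1_c7 LD2_c18 LD3_c61) Lrfl Lrfl
theorem f18039 : Led Lsl_bt (LP (LK LD1_c7 LD2_c17 LD3_c13)) = (LP (LK LD1_c3 LD2_c38 LD3_c28)) :=
  Lre_b IH (LK LD1_c7 LD2_c17 LD3_c13) (LK LD1_c3 LD2_c38 LD3_c28) Lrfl Lrfl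
theorem f121833 : Led Lsl_et (LP (LK LD1_c7 LD2_c18 LD3_c61)) = (LP (LK LD1_c7 LD2_c17 LD3_c13)) :=
  Lgr Lrot74 (Lpe (f92321 IH) (Lpr_ef (f121831 IH) (Lpe (f18039 IH) (Lpn (LP (LK LD1_c7 LD2_c17 LD3_c13))))))
theorem f94553 : Led Lsl_ft (LP (LK LD1_c3 LD2_c39 LD3_c23)) = (LP (LK LD1_c7 LD2_c18 LD3_c61)) :=
  Lre_f IH (LK LD1_c3 LD2_c39 LD3_c23) (LK LD1_c7 LD2_c18 LD3_c61) Lrfl Lrfl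
theorem f94560 : Led Lsl_et (LP (LK LD1_c1 LD2_c46 LD3_c38)) = (LP (LK LD1_c3 LD2_c39 LD3_c23)) :=
  Lre_e IH (LK LD1_c1 LD2_c46 LD3_c38) (LK LD1_c3 LD2_c39 LD3_c23) Lrfl Lrfl
theorem f97532 : Led Lsl_ft (LP (LK LD1_c7 LD2_c17 LD3_c13)) = (LP (LK LD1_c3 LD2_c38 LD3_c26)) :=
  Lre_f IH (LK LD1_c7 LD2_c17 LD3_c13) (LK LD1_c3 LD2_c38 LD3_c26) Lrfl Lrfl
theorem f121843 : Led Lsl_ff (LP (LK LD1_c1 LD2_c46 LD3_c38)) = (LP (LK LD1_c1 LD2_c46 LD3_c11)) :=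
  Lgr Lrot72 (Lpr_et (f94560 IH) (Lpr_ft (f94553 IH) (Lpr_et (f121833 IH) (Lpr_ft (f97532 IH) (Lpr_et (K3.f97505 IH) (Lpn (LP (LK LD1_c1 LD2_c46 LD3_c11))))))))
theorem f121848 : Led Lsl_ft (LP (LK LD1_c1 LD2_c46 LD3_c38)) = (LP (LK LD1_c1 LD2_c46 LD3_c11)) :=
  Lgr Lrot48 (Lpr_ff (f121843 IH) (Lpn (LP (LK LD1_c1 LD2_c46 LD3_c11))))
theorem f121854 : Led Lsl_ff (LP (LK LD1_c1 LD2_c50 LD3_c25)) = (LP (LK LD1_c3 LD2_c29 LD3_c38)) :=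
  Lgr Lrot23 (Lpe (K2.f94539 IH) (Lpr_ft (f121848 IH) (Lpe (K3.f97467 IH) (Lpn (LP (LK LD1_c3 LD2_c29 LD3_c38))))))
theorem f121856 : Led Lsl_ft (LP (LK LD1_c1 LD2_c39 LD3_c27)) = (LP (LK LD1_c3 LD2_c24 LD3_c33)) :=
  Lgr Lrot75 (Lpr_bf (K2.f94566 IH) (Lpr_ff (f121854 IH) (Lpr_bf (K3.f97543 IH) (Lpn (LP (LK LD1_c3 LD2_c24 LD3_c33))))))
theorem f94218 : Led Lsl_gt (LP (LK LD1_c0 LD2_c46 LD3_c14)) = (LP (LK LD1_c1 LD2_c39 LD3_c26)) :=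
  Lre_g IH (LK LD1_c0 LD2_c46 LD3_c14) (LK LD1_c1 LD2_c39 LD3_c26) Lrfl Lrfl
theorem f121899 : Led Lsl_af (LP (LK LD1_c1 LD2_c39 LD3_c26)) = (LP (LK LD1_c3 LD2_c24 LD3_c33)) :=
  Lgr Lrot31 (Lpe (f94218 IH) (Lpe (K2.f94532 IH) (Lpr_ft (f121856 IH) (Lpn (LP (LK LD1_c3 LD2_c24 LD3_c33))))))
theorem f121901 : Led Lsl_at (LP (LK LD1_c1 LD2_c39 LD3_c26)) = (LP (LK LD1_c3 LD2_c24 LD3_c33)) :=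
  Lgr Lrot100 (Lpr_af (f121899 IH) (Lpn (LP (LK LD1_c3 LD2_c24 LD3_c33))))
theorem f98686 : Led Lsl_ff (LP (LK LD1_c0 LD2_c46 LD3_c14)) = (LP (LK LD1_c1 LD2_c38 LD3_c42)) :=
  Lgr Lrot23 (Lpr_ct (K2.f94225 IH) (Lpr_ft (K3.f98682 IH) (Lpr_ct (K2.f11079 IH) (Lpn (LP (LK LD1_c1 LD2_c38 LD3_c42))))))
theorem f98678 : Led Lsl_at (LP (LK LD1_c0 LD2_c46 LD3_c14)) = (LP (LK LD1_c1 LD2_c38 LD3_c45)) :=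
  Lgr Lrot107 (Lpe (K2.f20202 IH) (Lpr_af (K3.f98674 IH) (Lpe (f12770 IH) (Lpn (LP (LK LD1_c1 LD2_c38 LD3_c45))))))
theorem f108782 : Led Lsl_gf (LP (LK LD1_c1 LD2_c38 LD3_c45)) = (LP (LK LD1_c1 LD2_c47 LD3_c25)) :=
  Lgr Lrot76 (Lpe (f98678 IH) (Lpr_ff (f98686 IH) (Lpr_gt (K3.f108780 IH) (Lpn (LP (LK LD1_c1 LD2_c47 LD3_c25))))))
theorem f121946 : Led Lsl_ff (LP (LK LD1_c1 LD2_c39 LD3_c26)) = (LP (LK LD1_c1 LD2_c47 LD3_c25)) :=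
  Lgr Lrot52 (Lpr_at (f121901 IH) (Lpe (K2.f91138 IH) (Lpr_gf (f108782 IH) (Lpn (LP (LK LD1_c1 LD2_c47 LD3_c25))))))
theorem f121952 : Led Lsl_ft (LP (LK LD1_c1 LD2_c39 LD3_c26)) = (LP (LK LD1_c1 LD2_c47 LD3_c25)) :=
  Lgr Lrot48 (Lpr_ff (f121946 IH) (Lpn (LP (LK LD1_c1 LD2_c47 LD3_c25))))
theorem f12767 : Led Lsl_bt (LP (LK LD1_c0 LD2_c51 LD3_c15)) = (LP (LK LD1_c0 LD2_c23 LD3_c8)) :=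
  Lre_b IH (LK LD1_c0 LD2_c51 LD3_c15) (LK LD1_c0 LD2_c23 LD3_c8) Lrfl Lrfl
theorem f94223 : Led Lsl_ct (LP (LK LD1_c0 LD2_c51 LD3_c15)) = (LP (LK LD1_c1 LD2_c39 LD3_c26)) :=
  Lgr Lrot63 (Lpr_bt (f12767 IH) (Lpr_gt (f12766 IH) (Lpe (K3.f12760 IH) (Lpr_ct (K0.f12747 IH) (Lpr_gt (K0.f3943 IH) (Lpe (K0.f111 IH) (Lpr_bt (K1.f4464 IH) (Lpr_gt (K2.f94208 IH) (Lpr_ct (K2.f20202 IH) (Lpr_gt (f94218 IH) (Lpn (LP (LK LD1_c1 LD2_c39 LD3_c26)))))))))))))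
theorem f121958 : Led Lsl_ff (LP (LK LD1_c0 LD2_c51 LD3_c15)) = (LP (LK LD1_c0 LD2_c50 LD3_c30)) :=
  Lgr Lrot23 (Lpr_ct (f94223 IH) (Lpr_ft (f121952 IH) (Lpr_ct (K3.f23684 IH) (Lpn (LP (LK LD1_c0 LD2_c50 LD3_c30))))))
theorem f122007 : Led Lsl_at (LP (LK LD1_c0 LD2_c51 LD3_c15)) = (LP (LK LD1_c1 LD2_c40 LD3_c51)) :=
  Lgr Lrot26 (Lpr_ff (f121958 IH) (Lpe (K3.f108796 IH) (Lpr_gt (K3.f97545 IH) (Lpn (LP (LK LD1_c1 LD2_c40 LD3_c51))))))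
theorem f121813 : Led Lsl_ff (LP (LK LD1_c0 LD2_c51 LD3_c36)) = (LP (LK LD1_c1 LD2_c40 LD3_c51)) :=
  Lgr Lrot25 (Lpr_bt (K2.f92270 IH) (Lpr_ft (f121811 IH) (Lpe (K1.f17672 IH) (Lpn (LP (LK LD1_c1 LD2_c40 LD3_c51))))))
theorem f122013 : Led Lsl_af (LP (LK LD1_c0 LD2_c50 LD3_c30)) = (LP (LK LD1_c0 LD2_c51 LD3_c36)) :=
  Lgr Lrot45 (Lpe (f121958 IH) (Lpr_at (f122007 IH) (Lpe (f121813 IH) (Lpn (LP (LK LD1_c0 LD2_c51 LD3_c36))))))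
theorem f108798 : Led Lsl_et (LP (LK LD1_c0 LD2_c50 LD3_c30)) = (LP (LK LD1_c1 LD2_c47 LD3_c26)) :=
  Lre_e IH (LK LD1_c0 LD2_c50 LD3_c30) (LK LD1_c1 LD2_c47 LD3_c26) Lrfl Lrfl
theorem f122017 : Led Lsl_at (LP (LK LD1_c1 LD2_c47 LD3_c26)) = (LP (LK LD1_c1 LD2_c49 LD3_c32)) :=
  Lgr Lrot80 (Lpe (f108798 IH) (Lpr_af (f122013 IH) (Lpe (K2.f85259 IH) (Lpn (LP (LK LD1_c1 LD2_c49 LD3_c32))))))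
theorem f108808 : Led Lsl_ct (LP (LK LD1_c3 LD2_c40 LD3_c58)) = (LP (LK LD1_c1 LD2_c47 LD3_c26)) :=
  Lre_c IH (LK LD1_c3 LD2_c40 LD3_c58) (LK LD1_c1 LD2_c47 LD3_c26) Lrfl Lrfl
theorem f122022 : Led Lsl_af (LP (LK LD1_c3 LD2_c40 LD3_c58)) = (LP (LK LD1_c3 LD2_c25 LD3_c38)) :=
  Lgr Lrot68 (Lpr_ct (f108808 IH) (Lpr_at (f122017 IH) (Lpe (K2.f94581 IH) (Lpn (LP (LK LD1_c3 LD2_c25 LD3_c38))))))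
theorem f122040 : Led Lsl_bt (LP (LK LD1_c3 LD2_c40 LD3_c58)) = (LP (LK LD1_c7 LD2_c22 LD3_c11)) :=
  Lre_b IH (LK LD1_c3 LD2_c40 LD3_c58) (LK LD1_c7 LD2_c22 LD3_c11) Lrfl Lrfl
theorem f94579 : Led Lsl_bf (LP (LK LD1_c3 LD2_c25 LD3_c38)) = (LP (LK LD1_c3 LD2_c46 LD3_c36)) :=
  Lgr Lrot24 (Lpr_bt (K2.f94576 IH) (Lpn (LP (LK LD1_c3 LD2_c46 LD3_c36))))
theorem f95987 : Led Lsl_gt (LP (LK LD1_c1 LD2_c41 LD3_c32)) = (LP (LK LD1_c3 LD2_c29 LD3_c37)) :=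
  Lre_g IH (LK LD1_c1 LD2_c41 LD3_c32) (LK LD1_c3 LD2_c29 LD3_c37) Lrfl Lrfl
theorem f121858 : Led Lsl_at (LP (LK LD1_c1 LD2_c50 LD3_c25)) = (LP (LK LD1_c3 LD2_c29 LD3_c37)) :=
  Lgr Lrot26 (Lpr_ff (f121854 IH) (Lpr_gt (K3.f95330 IH) (Lpr_gt (f95987 IH) (Lpn (LP (LK LD1_c3 LD2_c29 LD3_c37))))))
theorem f121865 : Led Lsl_et (LP (LK LD1_c3 LD2_c29 LD3_c37)) = (LP (LK LD1_c7 LD2_c0 LD3_c50)) :=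
  Lre_e IH (LK LD1_c3 LD2_c29 LD3_c37) (LK LD1_c7 LD2_c0 LD3_c50) Lrfl Lrfl
theorem f121866 : Led Lsl_af (LP (LK LD1_c3 LD2_c46 LD3_c36)) = (LP (LK LD1_c7 LD2_c0 LD3_c50)) :=
  Lgr Lrot50 (Lpr_et (K2.f94561 IH) (Lpr_at (f121858 IH) (Lpr_et (f121865 IH) (Lpn (LP (LK LD1_c7 LD2_c0 LD3_c50))))))
theorem f121870 : Led Lsl_bt (LP (LK LD1_c13 LD2_c18 LD3_c10)) = (LP (LK LD1_c7 LD2_c0 LD3_c50)) :=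
  Lre_b IH (LK LD1_c13 LD2_c18 LD3_c10) (LK LD1_c7 LD2_c0 LD3_c50) Lrfl Lrfl
theorem f122041 : Led Lsl_at (LP (LK LD1_c7 LD2_c22 LD3_c11)) = (LP (LK LD1_c13 LD2_c18 LD3_c10)) :=
  Lgr Lrot67 (Lpe (f122040 IH) (Lpr_af (f122022 IH) (Lpr_bf (f94579 IH) (Lpr_af (f121866 IH) (Lpe (f121870 IH) (Lpn (LP (LK LD1_c13 LD2_c18 LD3_c10))))))))
theorem f122049 : Led Lsl_et (LP (LK LD1_c3 LD2_c40 LD3_c57)) = (LP (LK LD1_c7 LD2_c22 LD3_c11)) :=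
  Lre_e IH (LK LD1_c3 LD2_c40 LD3_c57) (LK LD1_c7 LD2_c22 LD3_c11) Lrfl Lrfl
theorem f122050 : Led Lsl_et (LP (LK LD1_c13 LD2_c18 LD3_c10)) = (LP (LK LD1_c7 LD2_c0 LD3_c49)) :=
  Lre_e IH (LK LD1_c13 LD2_c18 LD3_c10) (LK LD1_c7 LD2_c0 LD3_c49) Lrfl Lrfl
theorem f122051 : Led Lsl_af (LP (LK LD1_c3 LD2_c40 LD3_c57)) = (LP (LK LD1_c7 LD2_c0 LD3_c49)) :=
  Lgr Lrot50 (Lpr_et (f122049 IH) (Lpr_at (f122041 IH) (Lpr_et (f122050 IH) (Lpn (LP (LK LD1_c7 LD2_c0 LD3_c49))))))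
theorem f122053 : Led Lsl_at (LP (LK LD1_c3 LD2_c40 LD3_c57)) = (LP (LK LD1_c7 LD2_c0 LD3_c49)) :=
  Lgr Lrot100 (Lpr_af (f122051 IH) (Lpn (LP (LK LD1_c7 LD2_c0 LD3_c49))))
theorem f121903 : Led Lsl_bt (LP (LK LD1_c1 LD2_c39 LD3_c26)) = (LP (LK LD1_c3 LD2_c25 LD3_c34)) :=
  Lre_b IH (LK LD1_c1 LD2_c39 LD3_c26) (LK LD1_c3 LD2_c25 LD3_c34) Lrfl Lrfl
theorem f108788 : Led Lsl_bt (LP (LK LD1_c3 LD2_c40 LD3_c57)) = (LP (LK LD1_c1 LD2_c47 LD3_c25)) :=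
  Lre_b IH (LK LD1_c3 LD2_c40 LD3_c57) (LK LD1_c1 LD2_c47 LD3_c25) Lrfl Lrfl
theorem f121950 : Led Lsl_ft (LP (LK LD1_c3 LD2_c25 LD3_c34)) = (LP (LK LD1_c3 LD2_c40 LD3_c57)) :=
  Lgr Lrot75 (Lpe (f121903 IH) (Lpr_ff (f121946 IH) (Lpe (f108788 IH) (Lpn (LP (LK LD1_c3 LD2_c40 LD3_c57))))))
theorem f122086 : Led Lsl_gt (LP (LK LD1_c3 LD2_c25 LD3_c34)) = (LP (LK LD1_c6 LD2_c53 LD3_c5)) :=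
  Lre_g IH (LK LD1_c3 LD2_c25 LD3_c34) (LK LD1_c6 LD2_c53 LD3_c5) Lrfl Lrfl
theorem f122087 : Led Lsl_gt (LP (LK LD1_c6 LD2_c53 LD3_c5)) = (LP (LK LD1_c7 LD2_c0 LD3_c49)) :=
  Lgr Lrot46 (Lpe (f122086 IH) (Lpr_ft (f121950 IH) (Lpr_at (f122053 IH) (Lpn (LP (LK LD1_c7 LD2_c0 LD3_c49))))))
theorem f108789 : Led Lsl_ct (LP (LK LD1_c3 LD2_c40 LD3_c57)) = (LP (LK LD1_c1 LD2_c47 LD3_c27)) :=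
  Lre_c IH (LK LD1_c3 LD2_c40 LD3_c57) (LK LD1_c1 LD2_c47 LD3_c27) Lrfl Lrfl
theorem f122055 : Led Lsl_at (LP (LK LD1_c1 LD2_c47 LD3_c27)) = (LP (LK LD1_c3 LD2_c41 LD3_c1)) :=
  Lre_a IH (LK LD1_c1 LD2_c47 LD3_c27) (LK LD1_c3 LD2_c41 LD3_c1) Lrfl Lrfl
theorem f122056 : Led Lsl_ct (LP (LK LD1_c3 LD2_c41 LD3_c1)) = (LP (LK LD1_c7 LD2_c0 LD3_c49)) :=
  Lgr Lrot111 (Lpe (f122055 IH) (Lpe (f108789 IH) (Lpr_af (f122051 IH) (Lpn (LP (LK LD1_c7 LD2_c0 LD3_c49))))))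
theorem f122061 : Led Lsl_cf (LP (LK LD1_c3 LD2_c41 LD3_c1)) = (LP (LK LD1_c7 LD2_c0 LD3_c49)) :=
  Lgr Lrot11 (Lpr_ct (f122056 IH) (Lpn (LP (LK LD1_c7 LD2_c0 LD3_c49))))
theorem f121891 : Led Lsl_bt (LP (LK LD1_c7 LD2_c0 LD3_c49)) = (LP (LK LD1_c3 LD2_c29 LD3_c37)) :=
  Lre_b IH (LK LD1_c7 LD2_c0 LD3_c49) (LK LD1_c3 LD2_c29 LD3_c37) Lrfl Lrfl
theorem f19046 : Led Lsl_ct (LP (LK LD1_c1 LD2_c41 LD3_c37)) = (LP (LK LD1_c3 LD2_c29 LD3_c52)) :=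
  Lre_c IH (LK LD1_c1 LD2_c41 LD3_c37) (LK LD1_c3 LD2_c29 LD3_c52) Lrfl Lrfl
theorem f122071 : Led Lsl_gt (LP (LK LD1_c3 LD2_c41 LD3_c1)) = (LP (LK LD1_c3 LD2_c29 LD3_c52)) :=
  Lgr Lrot65 (Lpr_cf (f122061 IH) (Lpr_bt (f121891 IH) (Lpe (f95987 IH) (Lpe (K3.f95329 IH) (Lpr_ct (K2.f64296 IH) (Lpe (K3.f18883 IH) (Lpe (K1.f18876 IH) (Lpe (K1.f18885 IH) (Lpe (f19045 IH) (Lpr_ct (f19046 IH) (Lpn (LP (LK LD1_c3 LD2_c29 LD3_c52)))))))))))))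
theorem f18875 : Led Lsl_bt (LP (LK LD1_c3 LD2_c28 LD3_c15)) = (LP (LK LD1_c1 LD2_c40 LD3_c45)) :=
  Lre_b IH (LK LD1_c3 LD2_c28 LD3_c15) (LK LD1_c1 LD2_c40 LD3_c45) Lrfl Lrfl
theorem f18619 : Led Lsl_af (LP (LK LD1_c3 LD2_c28 LD3_c15)) = (LP (LK LD1_c3 LD2_c24 LD3_c27)) :=
  Lgr Lrot0 (Lpr_at (K2.f18613 IH) (Lpn (LP (LK LD1_c3 LD2_c24 LD3_c27))))
theorem f18621 : Led Lsl_cf (LP (LK LD1_c3 LD2_c28 LD3_c15)) = (LP (LK LD1_c3 LD2_c28 LD3_c15)) :=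
  Lgr Lrot1 (Lpr_at (K2.f18613 IH) (Lpr_ct (f15855 IH) (Lpe (f18619 IH) (Lpn (LP (LK LD1_c3 LD2_c28 LD3_c15))))))
theorem f19043 : Led Lsl_gt (LP (LK LD1_c3 LD2_c28 LD3_c15)) = (LP (LK LD1_c6 LD2_c58 LD3_c41)) :=
  Lre_g IH (LK LD1_c3 LD2_c28 LD3_c15) (LK LD1_c6 LD2_c58 LD3_c41) Lrfl Lrfl
theorem f65877 : Led Lsl_ct (LP (LK LD1_c1 LD2_c50 LD3_c1)) = (LP (LK LD1_c1 LD2_c34 LD3_c4)) :=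
  Lgr Lrot59 (Lpr_cf (K3.f65873 IH) (Lpn (LP (LK LD1_c1 LD2_c34 LD3_c4))))
theorem f58804 : Led Lsl_bt (LP (LK LD1_c1 LD2_c50 LD3_c1)) = (LP (LK LD1_c3 LD2_c45 LD3_c52)) :=
  Lre_b IH (LK LD1_c1 LD2_c50 LD3_c1) (LK LD1_c3 LD2_c45 LD3_c52) Lrfl Lrfl
theorem f58837 : Led Lsl_gt (LP (LK LD1_c3 LD2_c45 LD3_c52)) = (LP (LK LD1_c7 LD2_c32 LD3_c26)) :=
  Lre_g IH (LK LD1_c3 LD2_c45 LD3_c52) (LK LD1_c7 LD2_c32 LD3_c26) Lrfl Lrfl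
theorem f18231 : Led Lsl_bt (LP (LK LD1_c3 LD2_c29 LD3_c2)) = (LP (LK LD1_c1 LD2_c41 LD3_c44)) :=
  Lre_b IH (LK LD1_c3 LD2_c29 LD3_c2) (LK LD1_c1 LD2_c41 LD3_c44) Lrfl Lrfl
theorem f18659 : Led Lsl_cf (LP (LK LD1_c3 LD2_c29 LD3_c2)) = (LP (LK LD1_c3 LD2_c29 LD3_c2)) :=
  Lgr Lrot108 (Lpr_ft (K2.f18645 IH) (Lpr_ct (f15855 IH) (Lpe (K2.f18626 IH) (Lpn (LP (LK LD1_c3 LD2_c29 LD3_c2))))))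
theorem f18668 : Led Lsl_gt (LP (LK LD1_c6 LD2_c58 LD3_c41)) = (LP (LK LD1_c3 LD2_c29 LD3_c2)) :=
  Lre_g IH (LK LD1_c6 LD2_c58 LD3_c41) (LK LD1_c3 LD2_c29 LD3_c2) Lrfl Lrfl
theorem f65916 : Led Lsl_ct (LP (LK LD1_c7 LD2_c32 LD3_c26)) = (LP (LK LD1_c6 LD2_c58 LD3_c41)) :=
  Lgr Lrot91 (Lpe (f58837 IH) (Lpe (f58804 IH) (Lpr_ct (f65877 IH) (Lpr_gf (K3.f58780 IH) (Lpe (K3.f58785 IH) (Lpr_bt (K3.f58789 IH) (Lpr_gf (K2.f65855 IH) (Lpe (f18231 IH) (Lpe (f18659 IH) (Lpe (f18668 IH) (Lpn (LP (LK LD1_c6 LD2_c58 LD3_c41)))))))))))))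
theorem f122089 : Led Lsl_bf (LP (LK LD1_c6 LD2_c53 LD3_c5)) = (LP (LK LD1_c7 LD2_c32 LD3_c26)) :=
  Lgr Lrot165 (Lpr_gt (f122087 IH) (Lpe (f122061 IH) (Lpr_gt (f122071 IH) (Lpe (f19046 IH) (Lpr_bt (f19045 IH) (Lpr_gt (K1.f18885 IH) (Lpe (f18875 IH) (Lpe (f18621 IH) (Lpr_gt (f19043 IH) (Lpe (f65916 IH) (Lpn (LP (LK LD1_c7 LD2_c32 LD3_c26)))))))))))))
theorem f65918 : Led Lsl_cf (LP (LK LD1_c7 LD2_c32 LD3_c26)) = (LP (LK LD1_c6 LD2_c58 LD3_c41)) :=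
  Lgr Lrot11 (Lpr_ct (f65916 IH) (Lpn (LP (LK LD1_c6 LD2_c58 LD3_c41))))
theorem f116457 : Led Lsl_ct (LP (LK LD1_c3 LD2_c41 LD3_c12)) = (LP (LK LD1_c3 LD2_c26 LD3_c2)) :=
  Lgr Lrot59 (Lpr_cf (f116452 IH) (Lpn (LP (LK LD1_c3 LD2_c26 LD3_c2))))
theorem f116450 : Led Lsl_at (LP (LK LD1_c1 LD2_c47 LD3_c32)) = (LP (LK LD1_c3 LD2_c41 LD3_c12)) :=
  Lre_a IH (LK LD1_c1 LD2_c47 LD3_c32) (LK LD1_c3 LD2_c41 LD3_c12) Lrfl Lrfl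
theorem f111460 : Led Lsl_af (LP (LK LD1_c3 LD2_c29 LD3_c22)) = (LP (LK LD1_c3 LD2_c26 LD3_c2)) :=
  Lgr Lrot0 (Lpr_at (f111452 IH) (Lpn (LP (LK LD1_c3 LD2_c26 LD3_c2))))
theorem f116464 : Led Lsl_cf (LP (LK LD1_c1 LD2_c47 LD3_c32)) = (LP (LK LD1_c3 LD2_c29 LD3_c22)) :=
  Lgr Lrot1 (Lpr_at (f116450 IH) (Lpr_ct (f116457 IH) (Lpe (f111460 IH) (Lpn (LP (LK LD1_c3 LD2_c29 LD3_c22))))))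
theorem f116512 : Led Lsl_gt (LP (LK LD1_c3 LD2_c41 LD3_c11)) = (LP (LK LD1_c1 LD2_c47 LD3_c32)) :=
  Lre_g IH (LK LD1_c3 LD2_c41 LD3_c11) (LK LD1_c1 LD2_c47 LD3_c32) Lrfl Lrfl
theorem f116513 : Led Lsl_ct (LP (LK LD1_c7 LD2_c22 LD3_c43)) = (LP (LK LD1_c3 LD2_c41 LD3_c11)) :=
  Lre_c IH (LK LD1_c7 LD2_c22 LD3_c43) (LK LD1_c3 LD2_c41 LD3_c11) Lrfl Lrfl
theorem f116516 : Led Lsl_bt (LP (LK LD1_c7 LD2_c22 LD3_c43)) = (LP (LK LD1_c6 LD2_c58 LD3_c41)) :=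
  Lgr Lrot92 (Lpr_ct (f116513 IH) (Lpr_gt (f116512 IH) (Lpr_cf (f116464 IH) (Lpr_bt (f64627 IH) (Lpr_gt (K3.f63138 IH) (Lpr_ct (K3.f11451 IH) (Lpr_gt (K2.f18886 IH) (Lpe (K1.f18876 IH) (Lpr_bt (K2.f18612 IH) (Lpr_gt (f19043 IH) (Lpn (LP (LK LD1_c6 LD2_c58 LD3_c41)))))))))))))
theorem f116520 : Led Lsl_ct (LP (LK LD1_c3 LD2_c41 LD3_c11)) = (LP (LK LD1_c7 LD2_c22 LD3_c43)) :=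
  Lre_c IH (LK LD1_c3 LD2_c41 LD3_c11) (LK LD1_c7 LD2_c22 LD3_c43) Lrfl Lrfl
theorem f116521 : Led Lsl_bt (LP (LK LD1_c7 LD2_c22 LD3_c42)) = (LP (LK LD1_c3 LD2_c41 LD3_c11)) :=
  Lre_b IH (LK LD1_c7 LD2_c22 LD3_c42) (LK LD1_c3 LD2_c41 LD3_c11) Lrfl Lrfl
theorem f122095 : Led Lsl_ct (LP (LK LD1_c6 LD2_c53 LD3_c5)) = (LP (LK LD1_c7 LD2_c22 LD3_c42)) :=
  Lgr Lrot83 (Lpr_bf (f122089 IH) (Lpr_cf (f65918 IH) (Lpe (f116516 IH) (Lpe (f116520 IH) (Lpe (f116521 IH) (Lpn (LP (LK LD1_c7 LD2_c22 LD3_c42))))))))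
theorem f122109 : Led Lsl_cf (LP (LK LD1_c6 LD2_c53 LD3_c5)) = (LP (LK LD1_c7 LD2_c22 LD3_c42)) :=
  Lgr Lrot11 (Lpr_ct (f122095 IH) (Lpn (LP (LK LD1_c7 LD2_c22 LD3_c42))))
theorem f116540 : Led Lsl_bt (LP (LK LD1_c1 LD2_c48 LD3_c59)) = (LP (LK LD1_c0 LD2_c51 LD3_c16)) :=
  Lre_b IH (LK LD1_c1 LD2_c48 LD3_c59) (LK LD1_c0 LD2_c51 LD3_c16) Lrfl Lrfl
theorem f122125 : Led Lsl_cf (LP (LK LD1_c3 LD2_c25 LD3_c34)) = (LP (LK LD1_c1 LD2_c48 LD3_c59)) :=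
  Lgr Lrot160 (Lpr_gt (f122086 IH) (Lpr_cf (f122109 IH) (Lpr_bt (f116521 IH) (Lpr_gt (f116512 IH) (Lpr_ct (f116455 IH) (Lpe (f111339 IH) (Lpe (f12772 IH) (Lpr_bt (f12824 IH) (Lpe (f116531 IH) (Lpe (f116540 IH) (Lpn (LP (LK LD1_c1 LD2_c48 LD3_c59)))))))))))))
theorem f122135 : Led Lsl_ft (LP (LK LD1_c1 LD2_c47 LD3_c27)) = (LP (LK LD1_c1 LD2_c48 LD3_c59)) :=
  Lgr Lrot4 (Lpe (f108789 IH) (Lpe (f121950 IH) (Lpr_cf (f122125 IH) (Lpn (LP (LK LD1_c1 LD2_c48 LD3_c59))))))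
theorem f122141 : Led Lsl_bt (LP (LK LD1_c0 LD2_c50 LD3_c31)) = (LP (LK LD1_c1 LD2_c47 LD3_c27)) :=
  Lre_b IH (LK LD1_c0 LD2_c50 LD3_c31) (LK LD1_c1 LD2_c47 LD3_c27) Lrfl Lrfl
theorem f122142 : Led Lsl_ff (LP (LK LD1_c0 LD2_c50 LD3_c31)) = (LP (LK LD1_c0 LD2_c51 LD3_c16)) :=
  Lgr Lrot25 (Lpr_bt (f122141 IH) (Lpr_ft (f122135 IH) (Lpr_bt (f116540 IH) (Lpn (LP (LK LD1_c0 LD2_c51 LD3_c16))))))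
theorem f122326 : Led Lsl_ft (LP (LK LD1_c0 LD2_c22 LD3_c50)) = (LP (LK LD1_c0 LD2_c23 LD3_c8)) :=
  Lgr Lrot4 (Lpe (K3.f108816 IH) (Lpr_ff (f122142 IH) (Lpe (f116536 IH) (Lpn (LP (LK LD1_c0 LD2_c23 LD3_c8))))))
theorem f4893 : Led Lsl_gt (LP (LK LD1_c0 LD2_c10 LD3_c18)) = (LP (LK LD1_c0 LD2_c22 LD3_c49)) :=
  Lre_g IH (LK LD1_c0 LD2_c10 LD3_c18) (LK LD1_c0 LD2_c22 LD3_c49) Lrfl Lrfl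
theorem f122332 : Led Lsl_af (LP (LK LD1_c0 LD2_c22 LD3_c49)) = (LP (LK LD1_c0 LD2_c23 LD3_c8)) :=
  Lgr Lrot31 (Lpe (f4893 IH) (Lpe (K3.f4896 IH) (Lpr_ft (f122326 IH) (Lpn (LP (LK LD1_c0 LD2_c23 LD3_c8))))))
theorem f122340 : Led Lsl_et (LP (LK LD1_c0 LD2_c22 LD3_c49)) = (LP (LK LD1_c0 LD2_c50 LD3_c29)) :=
  Lre_e IH (LK LD1_c0 LD2_c22 LD3_c49) (LK LD1_c0 LD2_c50 LD3_c29) Lrfl Lrfl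
theorem f122341 : Led Lsl_et (LP (LK LD1_c0 LD2_c51 LD3_c17)) = (LP (LK LD1_c0 LD2_c23 LD3_c8)) :=
  Lre_e IH (LK LD1_c0 LD2_c51 LD3_c17) (LK LD1_c0 LD2_c23 LD3_c8) Lrfl Lrfl
theorem f122342 : Led Lsl_at (LP (LK LD1_c0 LD2_c50 LD3_c29)) = (LP (LK LD1_c0 LD2_c51 LD3_c17)) :=
  Lgr Lrot80 (Lpe (f122340 IH) (Lpr_af (f122332 IH) (Lpe (f122341 IH) (Lpn (LP (LK LD1_c0 LD2_c51 LD3_c17))))))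
theorem f122347 : Led Lsl_ct (LP (LK LD1_c1 LD2_c47 LD3_c24)) = (LP (LK LD1_c0 LD2_c50 LD3_c29)) :=
  Lre_c IH (LK LD1_c1 LD2_c47 LD3_c24) (LK LD1_c0 LD2_c50 LD3_c29) Lrfl Lrfl
theorem f122348 : Led Lsl_ct (LP (LK LD1_c0 LD2_c51 LD3_c17)) = (LP (LK LD1_c1 LD2_c48 LD3_c61)) :=
  Lre_c IH (LK LD1_c0 LD2_c51 LD3_c17) (LK LD1_c1 LD2_c48 LD3_c61) Lrfl Lrfl
theorem f122349 : Led Lsl_af (LP (LK LD1_c1 LD2_c47 LD3_c24)) = (LP (LK LD1_c1 LD2_c48 LD3_c61)) :=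
  Lgr Lrot68 (Lpr_ct (f122347 IH) (Lpr_at (f122342 IH) (Lpr_ct (f122348 IH) (Lpn (LP (LK LD1_c1 LD2_c48 LD3_c61))))))
theorem f12598 : Led Lsl_dt (LP (LK LD1_c1 LD2_c47 LD3_c24)) = (LP (LK LD1_c3 LD2_c40 LD3_c56)) :=
  Lre_d IH (LK LD1_c1 LD2_c47 LD3_c24) (LK LD1_c3 LD2_c40 LD3_c56) Lrfl Lrfl
theorem f122352 : Led Lsl_dt (LP (LK LD1_c3 LD2_c43 LD3_c53)) = (LP (LK LD1_c1 LD2_c48 LD3_c61)) :=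
  Lre_d IH (LK LD1_c3 LD2_c43 LD3_c53) (LK LD1_c1 LD2_c48 LD3_c61) Lrfl Lrfl
theorem f122359 : Led Lsl_at (LP (LK LD1_c3 LD2_c40 LD3_c56)) = (LP (LK LD1_c3 LD2_c43 LD3_c53)) :=
  Lgr Lrot51 (Lpe (f12598 IH) (Lpr_af (f122349 IH) (Lpe (f122352 IH) (Lpn (LP (LK LD1_c3 LD2_c43 LD3_c53))))))
theorem f122372 : Led Lsl_et (LP (LK LD1_c7 LD2_c21 LD3_c61)) = (LP (LK LD1_c3 LD2_c40 LD3_c56)) :=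
  Lre_e IH (LK LD1_c7 LD2_c21 LD3_c61) (LK LD1_c3 LD2_c40 LD3_c56) Lrfl Lrfl
theorem f122373 : Led Lsl_et (LP (LK LD1_c3 LD2_c43 LD3_c53)) = (LP (LK LD1_c7 LD2_c28 LD3_c17)) :=
  Lre_e IH (LK LD1_c3 LD2_c43 LD3_c53) (LK LD1_c7 LD2_c28 LD3_c17) Lrfl Lrfl
theorem f122374 : Led Lsl_af (LP (LK LD1_c7 LD2_c21 LD3_c61)) = (LP (LK LD1_c7 LD2_c28 LD3_c17)) :=
  Lgr Lrot50 (Lpr_et (f122372 IH) (Lpr_at (f122359 IH) (Lpr_et (f122373 IH) (Lpn (LP (LK LD1_c7 LD2_c28 LD3_c17))))))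
theorem f122390 : Led Lsl_ft (LP (LK LD1_c7 LD2_c21 LD3_c61)) = (LP (LK LD1_c13 LD2_c55 LD3_c54)) :=
  Lre_f IH (LK LD1_c7 LD2_c21 LD3_c61) (LK LD1_c13 LD2_c55 LD3_c54) Lrfl Lrfl
theorem f122391 : Led Lsl_ft (LP (LK LD1_c14 LD2_c6 LD3_c20)) = (LP (LK LD1_c7 LD2_c28 LD3_c17)) :=
  Lre_f IH (LK LD1_c14 LD2_c6 LD3_c20) (LK LD1_c7 LD2_c28 LD3_c17) Lrfl Lrfl
theorem f122392 : Led Lsl_at (LP (LK LD1_c13 LD2_c55 LD3_c54)) = (LP (LK LD1_c14 LD2_c6 LD3_c20)) :=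
  Lgr Lrot66 (Lpe (f122390 IH) (Lpr_af (f122374 IH) (Lpe (f122391 IH) (Lpn (LP (LK LD1_c14 LD2_c6 LD3_c20))))))
theorem f122413 : Led Lsl_dt (LP (LK LD1_c7 LD2_c22 LD3_c0)) = (LP (LK LD1_c13 LD2_c55 LD3_c54)) :=
  Lre_d IH (LK LD1_c7 LD2_c22 LD3_c0) (LK LD1_c13 LD2_c55 LD3_c54) Lrfl Lrfl
theorem f122224 : Led Lsl_dt (LP (LK LD1_c14 LD2_c6 LD3_c20)) = (LP (LK LD1_c7 LD2_c28 LD3_c18)) :=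
  Lre_d IH (LK LD1_c14 LD2_c6 LD3_c20) (LK LD1_c7 LD2_c28 LD3_c18) Lrfl Lrfl
theorem f122414 : Led Lsl_af (LP (LK LD1_c7 LD2_c22 LD3_c0)) = (LP (LK LD1_c7 LD2_c28 LD3_c18)) :=
  Lgr Lrot117 (Lpr_dt (f122413 IH) (Lpr_at (f122392 IH) (Lpr_dt (f122224 IH) (Lpn (LP (LK LD1_c7 LD2_c28 LD3_c18))))))
theorem f122426 : Led Lsl_at (LP (LK LD1_c7 LD2_c22 LD3_c0)) = (LP (LK LD1_c7 LD2_c28 LD3_c18)) :=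
  Lgr Lrot100 (Lpr_af (f122414 IH) (Lpn (LP (LK LD1_c7 LD2_c28 LD3_c18))))
theorem f122439 : Led Lsl_ft (LP (LK LD1_c3 LD2_c40 LD3_c53)) = (LP (LK LD1_c7 LD2_c22 LD3_c0)) :=
  Lre_f IH (LK LD1_c3 LD2_c40 LD3_c53) (LK LD1_c7 LD2_c22 LD3_c0) Lrfl Lrfl
theorem f122238 : Led Lsl_ft (LP (LK LD1_c7 LD2_c28 LD3_c18)) = (LP (LK LD1_c3 LD2_c43 LD3_c50)) :=
  Lre_f IH (LK LD1_c7 LD2_c28 LD3_c18) (LK LD1_c3 LD2_c43 LD3_c50) Lrfl Lrfl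
theorem f122440 : Led Lsl_af (LP (LK LD1_c3 LD2_c40 LD3_c53)) = (LP (LK LD1_c3 LD2_c43 LD3_c50)) :=
  Lgr Lrot45 (Lpr_ft (f122439 IH) (Lpr_at (f122426 IH) (Lpr_ft (f122238 IH) (Lpn (LP (LK LD1_c3 LD2_c43 LD3_c50))))))
theorem f122457 : Led Lsl_et (LP (LK LD1_c3 LD2_c40 LD3_c53)) = (LP (LK LD1_c1 LD2_c47 LD3_c23)) :=
  Lre_e IH (LK LD1_c3 LD2_c40 LD3_c53) (LK LD1_c1 LD2_c47 LD3_c23) Lrfl Lrfl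
theorem f116544 : Led Lsl_et (LP (LK LD1_c1 LD2_c48 LD3_c60)) = (LP (LK LD1_c3 LD2_c43 LD3_c50)) :=
  Lre_e IH (LK LD1_c1 LD2_c48 LD3_c60) (LK LD1_c3 LD2_c43 LD3_c50) Lrfl Lrfl
theorem f122458 : Led Lsl_at (LP (LK LD1_c1 LD2_c47 LD3_c23)) = (LP (LK LD1_c1 LD2_c48 LD3_c60)) :=
  Lgr Lrot80 (Lpe (f122457 IH) (Lpr_af (f122440 IH) (Lpe (f116544 IH) (Lpn (LP (LK LD1_c1 LD2_c48 LD3_c60))))))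
theorem f12588 : Led Lsl_dt (LP (LK LD1_c0 LD2_c50 LD3_c28)) = (LP (LK LD1_c1 LD2_c47 LD3_c23)) :=
  Lre_d IH (LK LD1_c0 LD2_c50 LD3_c28) (LK LD1_c1 LD2_c47 LD3_c23) Lrfl Lrfl
theorem f116543 : Led Lsl_dt (LP (LK LD1_c1 LD2_c48 LD3_c60)) = (LP (LK LD1_c0 LD2_c51 LD3_c16)) :=
  Lre_d IH (LK LD1_c1 LD2_c48 LD3_c60) (LK LD1_c0 LD2_c51 LD3_c16) Lrfl Lrfl
theorem f122474 : Led Lsl_af (LP (LK LD1_c0 LD2_c50 LD3_c28)) = (LP (LK LD1_c0 LD2_c51 LD3_c16)) :=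
  Lgr Lrot117 (Lpr_dt (f12588 IH) (Lpr_at (f122458 IH) (Lpr_dt (f116543 IH) (Lpn (LP (LK LD1_c0 LD2_c51 LD3_c16))))))
theorem f12581 : Led Lsl_gt (LP (LK LD1_c1 LD2_c47 LD3_c21)) = (LP (LK LD1_c0 LD2_c50 LD3_c28)) :=
  Lre_g IH (LK LD1_c1 LD2_c47 LD3_c21) (LK LD1_c0 LD2_c50 LD3_c28) Lrfl Lrfl
theorem f122150 : Led Lsl_ff (LP (LK LD1_c1 LD2_c47 LD3_c27)) = (LP (LK LD1_c1 LD2_c48 LD3_c59)) :=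
  Lgr Lrot3 (Lpr_ft (f122135 IH) (Lpn (LP (LK LD1_c1 LD2_c48 LD3_c59))))
theorem f122165 : Led Lsl_bt (LP (LK LD1_c1 LD2_c47 LD3_c27)) = (LP (LK LD1_c0 LD2_c50 LD3_c31)) :=
  Lre_b IH (LK LD1_c1 LD2_c47 LD3_c27) (LK LD1_c0 LD2_c50 LD3_c31) Lrfl Lrfl
theorem f12907 : Led Lsl_bt (LP (LK LD1_c0 LD2_c51 LD3_c16)) = (LP (LK LD1_c1 LD2_c48 LD3_c59)) :=
  Lre_b IH (LK LD1_c0 LD2_c51 LD3_c16) (LK LD1_c1 LD2_c48 LD3_c59) Lrfl Lrfl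
theorem f122166 : Led Lsl_ft (LP (LK LD1_c0 LD2_c50 LD3_c31)) = (LP (LK LD1_c0 LD2_c51 LD3_c16)) :=
  Lgr Lrot75 (Lpe (f122165 IH) (Lpr_ff (f122150 IH) (Lpe (f12907 IH) (Lpn (LP (LK LD1_c0 LD2_c51 LD3_c16))))))
theorem f122477 : Led Lsl_gf (LP (LK LD1_c1 LD2_c47 LD3_c21)) = (LP (LK LD1_c0 LD2_c50 LD3_c31)) :=
  Lgr Lrot47 (Lpr_gt (f12581 IH) (Lpr_af (f122474 IH) (Lpe (f122166 IH) (Lpn (LP (LK LD1_c0 LD2_c50 LD3_c31))))))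
theorem f17955 : Led Lsl_bt (LP (LK LD1_c0 LD2_c21 LD3_c10)) = (LP (LK LD1_c0 LD2_c47 LD3_c16)) :=
  Lre_b IH (LK LD1_c0 LD2_c21 LD3_c10) (LK LD1_c0 LD2_c47 LD3_c16) Lrfl Lrfl
theorem f122483 : Led Lsl_cf (LP (LK LD1_c1 LD2_c47 LD3_c21)) = (LP (LK LD1_c1 LD2_c34 LD3_c23)) :=
  Lgr Lrot58 (Lpr_gf (f122477 IH) (Lpe (K3.f108818 IH) (Lpr_bt (K3.f108792 IH) (Lpe (K3.f108814 IH) (Lpe (f17955 IH) (Lpr_ct (K0.f11438 IH) (Lpe (K3.f63138 IH) (Lpr_cf (K3.f104104 IH) (Lpe (K3.f62834 IH) (Lpe (f94491 IH) (Lpn (LP (LK LD1_c1 LD2_c34 LD3_c23)))))))))))))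
theorem f122618 : Led Lsl_et (LP (LK LD1_c1 LD2_c47 LD3_c21)) = (LP (LK LD1_c3 LD2_c40 LD3_c46)) :=
  Lre_e IH (LK LD1_c1 LD2_c47 LD3_c21) (LK LD1_c3 LD2_c40 LD3_c46) Lrfl Lrfl
theorem f65531 : Led Lsl_et (LP (LK LD1_c3 LD2_c15 LD3_c21)) = (LP (LK LD1_c1 LD2_c34 LD3_c23)) :=
  Lre_e IH (LK LD1_c3 LD2_c15 LD3_c21) (LK LD1_c1 LD2_c34 LD3_c23) Lrfl Lrfl
theorem f122619 : Led Lsl_ct (LP (LK LD1_c3 LD2_c40 LD3_c46)) = (LP (LK LD1_c3 LD2_c15 LD3_c21)) :=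
  Lgr Lrot15 (Lpe (f122618 IH) (Lpr_cf (f122483 IH) (Lpe (f65531 IH) (Lpn (LP (LK LD1_c3 LD2_c15 LD3_c21))))))
theorem f123540 : Led Lsl_cf (LP (LK LD1_c3 LD2_c40 LD3_c46)) = (LP (LK LD1_c3 LD2_c15 LD3_c21)) :=
  Lgr Lrot11 (Lpr_ct (f122619 IH) (Lpn (LP (LK LD1_c3 LD2_c15 LD3_c21))))
theorem f123545 : Led Lsl_bt (LP (LK LD1_c3 LD2_c40 LD3_c46)) = (LP (LK LD1_c7 LD2_c21 LD3_c46)) :=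
  Lre_b IH (LK LD1_c3 LD2_c40 LD3_c46) (LK LD1_c7 LD2_c21 LD3_c46) Lrfl Lrfl
theorem f65506 : Led Lsl_bt (LP (LK LD1_c1 LD2_c34 LD3_c26)) = (LP (LK LD1_c3 LD2_c15 LD3_c21)) :=
  Lre_b IH (LK LD1_c1 LD2_c34 LD3_c26) (LK LD1_c3 LD2_c15 LD3_c21) Lrfl Lrfl
theorem f123546 : Led Lsl_ct (LP (LK LD1_c7 LD2_c21 LD3_c46)) = (LP (LK LD1_c6 LD2_c34 LD3_c8)) :=
  Lgr Lrot83 (Lpe (f123545 IH) (Lpr_cf (f123540 IH) (Lpe (f65506 IH) (Lpe (f65509 IH) (Lpe (f115773 IH) (Lpn (LP (LK LD1_c6 LD2_c34 LD3_c8))))))))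
theorem f123554 : Led Lsl_et (LP (LK LD1_c3 LD2_c40 LD3_c45)) = (LP (LK LD1_c7 LD2_c21 LD3_c46)) :=
  Lre_e IH (LK LD1_c3 LD2_c40 LD3_c45) (LK LD1_c7 LD2_c21 LD3_c46) Lrfl Lrfl
theorem f115810 : Led Lsl_et (LP (LK LD1_c6 LD2_c34 LD3_c8)) = (LP (LK LD1_c3 LD2_c15 LD3_c23)) :=
  Lre_e IH (LK LD1_c6 LD2_c34 LD3_c8) (LK LD1_c3 LD2_c15 LD3_c23) Lrfl Lrfl
theorem f123555 : Led Lsl_cf (LP (LK LD1_c3 LD2_c40 LD3_c45)) = (LP (LK LD1_c3 LD2_c15 LD3_c23)) :=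
  Lgr Lrot39 (Lpr_et (f123554 IH) (Lpr_ct (f123546 IH) (Lpr_et (f115810 IH) (Lpn (LP (LK LD1_c3 LD2_c15 LD3_c23))))))
theorem f123564 : Led Lsl_gt (LP (LK LD1_c3 LD2_c40 LD3_c45)) = (LP (LK LD1_c1 LD2_c47 LD3_c27)) :=
  Lgr Lrot149 (Lpr_cf (f123555 IH) (Lpe (f65362 IH) (Lpe (f65363 IH) (Lpe (f111337 IH) (Lpe (f12780 IH) (Lpr_cf (f12812 IH) (Lpr_bt (f12771 IH) (Lpr_gf (f108782 IH) (Lpe (f108788 IH) (Lpr_ct (f108789 IH) (Lpn (LP (LK LD1_c1 LD2_c47 LD3_c27)))))))))))))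
theorem f122613 : Led Lsl_bt (LP (LK LD1_c1 LD2_c47 LD3_c21)) = (LP (LK LD1_c3 LD2_c40 LD3_c45)) :=
  Lre_b IH (LK LD1_c1 LD2_c47 LD3_c21) (LK LD1_c3 LD2_c40 LD3_c45) Lrfl Lrfl
theorem f122616 : Led Lsl_ct (LP (LK LD1_c1 LD2_c47 LD3_c21)) = (LP (LK LD1_c1 LD2_c34 LD3_c23)) :=
  Lgr Lrot59 (Lpr_cf (f122483 IH) (Lpn (LP (LK LD1_c1 LD2_c34 LD3_c23))))
theorem f4457 : Led Lsl_ct (LP (LK LD1_c0 LD2_c22 LD3_c51)) = (LP (LK LD1_c0 LD2_c10 LD3_c18)) :=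
  Lre_c IH (LK LD1_c0 LD2_c22 LD3_c51) (LK LD1_c0 LD2_c10 LD3_c18) Lrfl Lrfl
theorem f12592 : Led Lsl_bt (LP (LK LD1_c0 LD2_c4 LD3_c52)) = (LP (LK LD1_c0 LD2_c10 LD3_c18)) :=
  Lre_b IH (LK LD1_c0 LD2_c4 LD3_c52) (LK LD1_c0 LD2_c10 LD3_c18) Lrfl Lrfl
theorem f12754 : Led Lsl_bf (LP (LK LD1_c0 LD2_c23 LD3_c9)) = (LP (LK LD1_c0 LD2_c22 LD3_c51)) :=
  Lgr Lrot90 (Lpr_ct (f11300 IH) (Lpr_bt (f11299 IH) (Lpr_ct (K0.f12747 IH) (Lpr_bt (f12592 IH) (Lpr_ct (K3.f4462 IH) (Lpn (LP (LK LD1_c0 LD2_c22 LD3_c51))))))))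
theorem f11313 : Led Lsl_gt (LP (LK LD1_c0 LD2_c23 LD3_c9)) = (LP (LK LD1_c0 LD2_c51 LD3_c18)) :=
  Lre_g IH (LK LD1_c0 LD2_c23 LD3_c9) (LK LD1_c0 LD2_c51 LD3_c18) Lrfl Lrfl
theorem f123570 : Led Lsl_cf (LP (LK LD1_c1 LD2_c39 LD3_c36)) = (LP (LK LD1_c0 LD2_c51 LD3_c18)) :=
  Lgr Lrot125 (Lpr_gt (f116007 IH) (Lpe (f122616 IH) (Lpr_bt (f122613 IH) (Lpr_gt (f123564 IH) (Lpe (f122141 IH) (Lpr_ct (K3.f108816 IH) (Lpr_gt (K3.f4896 IH) (Lpe (f4457 IH) (Lpe (f12754 IH) (Lpr_gt (f11313 IH) (Lpn (LP (LK LD1_c0 LD2_c51 LD3_c18)))))))))))))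
theorem f122058 : Led Lsl_ct (LP (LK LD1_c1 LD2_c47 LD3_c27)) = (LP (LK LD1_c3 LD2_c40 LD3_c57)) :=
  Lre_c IH (LK LD1_c1 LD2_c47 LD3_c27) (LK LD1_c3 LD2_c40 LD3_c57) Lrfl Lrfl
theorem f111076 : Led Lsl_gt (LP (LK LD1_c3 LD2_c40 LD3_c57)) = (LP (LK LD1_c7 LD2_c22 LD3_c9)) :=
  Lre_g IH (LK LD1_c3 LD2_c40 LD3_c57) (LK LD1_c7 LD2_c22 LD3_c9) Lrfl Lrfl
theorem f123594 : Led Lsl_bt (LP (LK LD1_c0 LD2_c51 LD3_c18)) = (LP (LK LD1_c1 LD2_c49 LD3_c0)) :=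
  Lre_b IH (LK LD1_c0 LD2_c51 LD3_c18) (LK LD1_c1 LD2_c49 LD3_c0) Lrfl Lrfl
theorem f123595 : Led Lsl_gt (LP (LK LD1_c3 LD2_c43 LD3_c55)) = (LP (LK LD1_c1 LD2_c49 LD3_c0)) :=
  Lre_g IH (LK LD1_c3 LD2_c43 LD3_c55) (LK LD1_c1 LD2_c49 LD3_c0) Lrfl Lrfl
theorem f123596 : Led Lsl_bt (LP (LK LD1_c7 LD2_c28 LD3_c30)) = (LP (LK LD1_c3 LD2_c43 LD3_c55)) :=
  Lre_b IH (LK LD1_c7 LD2_c28 LD3_c30) (LK LD1_c3 LD2_c43 LD3_c55) Lrfl Lrfl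
theorem f123597 : Led Lsl_cf (LP (LK LD1_c7 LD2_c22 LD3_c9)) = (LP (LK LD1_c7 LD2_c28 LD3_c30)) :=
  Lgr Lrot163 (Lpe (f111076 IH) (Lpe (f122058 IH) (Lpe (f123564 IH) (Lpe (f122613 IH) (Lpr_ct (f122616 IH) (Lpe (f116007 IH) (Lpr_cf (f123570 IH) (Lpr_bt (f123594 IH) (Lpe (f123595 IH) (Lpe (f123596 IH) (Lpn (LP (LK LD1_c7 LD2_c28 LD3_c30)))))))))))))
theorem f12595 : Led Lsl_bt (LP (LK LD1_c3 LD2_c25 LD3_c57)) = (LP (LK LD1_c1 LD2_c39 LD3_c37)) :=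
  Lre_b IH (LK LD1_c3 LD2_c25 LD3_c57) (LK LD1_c1 LD2_c39 LD3_c37) Lrfl Lrfl
theorem f123644 : Led Lsl_cf (LP (LK LD1_c1 LD2_c49 LD3_c60)) = (LP (LK LD1_c1 LD2_c49 LD3_c0)) :=
  Lgr Lrot125 (Lpe (f103620 IH) (Lpe (f12596 IH) (Lpr_bt (f12595 IH) (Lpr_gt (K3.f108819 IH) (Lpe (f122165 IH) (Lpr_ct (f122058 IH) (Lpr_gt (f111076 IH) (Lpr_cf (f123597 IH) (Lpr_bt (f123596 IH) (Lpr_gt (f123595 IH) (Lpn (LP (LK LD1_c1 LD2_c49 LD3_c0)))))))))))))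
theorem f109249 : Led Lsl_ft (LP (LK LD1_c1 LD2_c49 LD3_c60)) = (LP (LK LD1_c3 LD2_c29 LD3_c22)) :=
  Lgr Lrot75 (Lpe (f103619 IH) (Lpr_ff (K3.f109247 IH) (Lpe (f64627 IH) (Lpn (LP (LK LD1_c3 LD2_c29 LD3_c22))))))
theorem f123654 : Led Lsl_ft (LP (LK LD1_c1 LD2_c47 LD3_c32)) = (LP (LK LD1_c1 LD2_c49 LD3_c0)) :=
  Lgr Lrot4 (Lpr_cf (f116464 IH) (Lpe (f109249 IH) (Lpr_cf (f123644 IH) (Lpn (LP (LK LD1_c1 LD2_c49 LD3_c0))))))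
theorem f116451 : Led Lsl_bt (LP (LK LD1_c0 LD2_c50 LD3_c33)) = (LP (LK LD1_c1 LD2_c47 LD3_c32)) :=
  Lre_b IH (LK LD1_c0 LD2_c50 LD3_c33) (LK LD1_c1 LD2_c47 LD3_c32) Lrfl Lrfl
theorem f123577 : Led Lsl_bt (LP (LK LD1_c1 LD2_c49 LD3_c0)) = (LP (LK LD1_c0 LD2_c51 LD3_c18)) :=
  Lre_b IH (LK LD1_c1 LD2_c49 LD3_c0) (LK LD1_c0 LD2_c51 LD3_c18) Lrfl Lrfl
theorem f123662 : Led Lsl_ff (LP (LK LD1_c0 LD2_c50 LD3_c33)) = (LP (LK LD1_c0 LD2_c51 LD3_c18)) :=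
  Lgr Lrot25 (Lpr_bt (f116451 IH) (Lpr_ft (f123654 IH) (Lpr_bt (f123577 IH) (Lpn (LP (LK LD1_c0 LD2_c51 LD3_c18))))))
theorem f123580 : Led Lsl_ct (LP (LK LD1_c1 LD2_c39 LD3_c36)) = (LP (LK LD1_c0 LD2_c51 LD3_c18)) :=
  Lgr Lrot59 (Lpr_cf (f123570 IH) (Lpn (LP (LK LD1_c0 LD2_c51 LD3_c18))))
theorem f124010 : Led Lsl_ft (LP (LK LD1_c1 LD2_c44 LD3_c37)) = (LP (LK LD1_c1 LD2_c39 LD3_c36)) :=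
  Lgr Lrot4 (Lpe (K3.f109392 IH) (Lpr_ff (f123662 IH) (Lpe (f123580 IH) (Lpn (LP (LK LD1_c1 LD2_c39 LD3_c36))))))
theorem f94484 : Led Lsl_gt (LP (LK LD1_c3 LD2_c46 LD3_c39)) = (LP (LK LD1_c1 LD2_c50 LD3_c27)) :=
  Lre_g IH (LK LD1_c3 LD2_c46 LD3_c39) (LK LD1_c1 LD2_c50 LD3_c27) Lrfl Lrfl
theorem f120254 : Led Lsl_gf (LP (LK LD1_c3 LD2_c46 LD3_c39)) = (LP (LK LD1_c4 LD2_c47 LD3_c47)) :=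
  Lgr Lrot47 (Lpr_gt (f94484 IH) (Lpr_af (f120237 IH) (Lpe (f120252 IH) (Lpn (LP (LK LD1_c4 LD2_c47 LD3_c47))))))
theorem f6098 : Led Lsl_bf (LP (LK LD1_c0 LD2_c49 LD3_c23)) = (LP (LK LD1_c0 LD2_c48 LD3_c25)) :=
  Lgr Lrot93 (Lpr_dt (K3.f6096 IH) (Lpr_bt (K3.f6013 IH) (Lpr_dt (K3.f6097 IH) (Lpn (LP (LK LD1_c0 LD2_c48 LD3_c25))))))
theorem f6116 : Led Lsl_bt (LP (LK LD1_c0 LD2_c49 LD3_c23)) = (LP (LK LD1_c0 LD2_c48 LD3_c25)) :=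
  Lgr Lrot127 (Lpr_bf (f6098 IH) (Lpn (LP (LK LD1_c0 LD2_c48 LD3_c25))))
theorem f96530 : Led Lsl_cf (LP (LK LD1_c1 LD2_c45 LD3_c18)) = (LP (LK LD1_c1 LD2_c51 LD3_c42)) :=
  Lgr Lrot11 (Lpr_ct (K3.f96468 IH) (Lpn (LP (LK LD1_c1 LD2_c51 LD3_c42))))
theorem f120257 : Led Lsl_dt (LP (LK LD1_c3 LD2_c46 LD3_c39)) = (LP (LK LD1_c1 LD2_c51 LD3_c42)) :=
  Lgr Lrot182 (Lpr_gf (f120254 IH) (Lpe (K3.f78100 IH) (Lpe (K2.f78098 IH) (Lpe (K3.f23540 IH) (Lpr_gf (K3.f104148 IH) (Lpe (K2.f23709 IH) (Lpe (K0.f5720 IH) (Lpe (K2.f65863 IH) (Lpe (K2.f65871 IH) (Lpr_bf (K2.f92278 IH) (Lpe (K2.f92287 IH) (Lpr_df (K3.f98037 IH) (Lpe (K3.f6563 IH) (Lpe (f6116 IH) (Lpr_cf (K3.f17639 IH) (Lpe (K3.f10235 IH) (Lpr_gf (K3.f10678 IH) (Lpe (K3.f6680 IH) (Lpr_cf (f96530 IH)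 (Lpn (LP (LK LD1_c1 LD2_c51 LD3_c42))))))))))))))))))))))
theorem f103174 : Led Lsl_dt (LP (LK LD1_c4 LD2_c48 LD3_c53)) = (LP (LK LD1_c9 LD2_c30 LD3_c16)) :=
  Lre_d IH (LK LD1_c4 LD2_c48 LD3_c53) (LK LD1_c9 LD2_c30 LD3_c16) Lrfl Lrfl
theorem f87298 : Led Lsl_dt (LP (LK LD1_c0 LD2_c52 LD3_c39)) = (LP (LK LD1_c1 LD2_c51 LD3_c44)) :=
  Lre_d IH (LK LD1_c0 LD2_c52 LD3_c39) (LK LD1_c1 LD2_c51 LD3_c44) Lrfl Lrfl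
theorem f87178 : Led Lsl_ct (LP (LK LD1_c3 LD2_c49 LD3_c24)) = (LP (LK LD1_c1 LD2_c51 LD3_c44)) :=
  Lre_c IH (LK LD1_c3 LD2_c49 LD3_c24) (LK LD1_c1 LD2_c51 LD3_c44) Lrfl Lrfl
theorem f87295 : Led Lsl_dt (LP (LK LD1_c7 LD2_c39 LD3_c39)) = (LP (LK LD1_c3 LD2_c49 LD3_c24)) :=
  Lre_d IH (LK LD1_c7 LD2_c39 LD3_c39) (LK LD1_c3 LD2_c49 LD3_c24) Lrfl Lrfl
theorem f120265 : Led Lsl_gt (LP (LK LD1_c9 LD2_c30 LD3_c16)) = (LP (LK LD1_c7 LD2_c39 LD3_c39)) :=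
  Lgr Lrot49 (Lpe (f103174 IH) (Lpr_gf (K3.f103171 IH) (Lpr_cf (K3.f78101 IH) (Lpe (f120254 IH) (Lpr_dt (f120257 IH) (Lpr_gt (K3.f87299 IH) (Lpr_dt (f87298 IH) (Lpe (f87178 IH) (Lpe (f87295 IH) (Lpn (LP (LK LD1_c7 LD2_c39 LD3_c39))))))))))))
theorem f104990 : Led Lsl_bt (LP (LK LD1_c4 LD2_c48 LD3_c54)) = (LP (LK LD1_c9 LD2_c30 LD3_c16)) :=
  Lre_b IH (LK LD1_c4 LD2_c48 LD3_c54) (LK LD1_c9 LD2_c30 LD3_c16) Lrfl Lrfl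
theorem f73627 : Led Lsl_at (LP (LK LD1_c1 LD2_c20 LD3_c59)) = (LP (LK LD1_c2 LD2_c49 LD3_c38)) :=
  Lre_a IH (LK LD1_c1 LD2_c20 LD3_c59) (LK LD1_c2 LD2_c49 LD3_c38) Lrfl Lrfl
theorem f59443 : Led Lsl_bt (LP (LK LD1_c0 LD2_c37 LD3_c24)) = (LP (LK LD1_c1 LD2_c20 LD3_c59)) :=
  Lre_b IH (LK LD1_c0 LD2_c37 LD3_c24) (LK LD1_c1 LD2_c20 LD3_c59) Lrfl Lrfl
theorem f74184 : Led Lsl_af (LP (LK LD1_c1 LD2_c22 LD3_c1)) = (LP (LK LD1_c2 LD2_c27 LD3_c9)) :=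
  Lgr Lrot36 (Lpr_bt (K2.f61804 IH) (Lpr_at (K2.f73617 IH) (Lpr_bt (f59443 IH) (Lpr_at (f73627 IH) (Lpr_bt (K2.f74174 IH) (Lpn (LP (LK LD1_c2 LD2_c27 LD3_c9))))))))
theorem f74447 : Led Lsl_dt (LP (LK LD1_c1 LD2_c24 LD3_c50)) = (LP (LK LD1_c2 LD2_c27 LD3_c9)) :=
  Lgr Lrot44 (Lpe (K2.f56012 IH) (Lpr_df (K2.f74445 IH) (Lpr_af (f74184 IH) (Lpn (LP (LK LD1_c2 LD2_c27 LD3_c9))))))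
theorem f60952 : Led Lsl_bt (LP (LK LD1_c1 LD2_c20 LD3_c48)) = (LP (LK LD1_c2 LD2_c49 LD3_c17)) :=
  Lre_b IH (LK LD1_c1 LD2_c20 LD3_c48) (LK LD1_c2 LD2_c49 LD3_c17) Lrfl Lrfl
theorem f80023 : Led Lsl_df (LP (LK LD1_c1 LD2_c20 LD3_c48)) = (LP (LK LD1_c2 LD2_c27 LD3_c30)) :=
  Lgr Lrot12 (Lpr_bt (f60952 IH) (Lpr_dt (f79965 IH) (Lpr_bt (K0.f26382 IH) (Lpn (LP (LK LD1_c2 LD2_c27 LD3_c30))))))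
theorem f26443 : Led Lsl_gt (LP (LK LD1_c2 LD2_c27 LD3_c43)) = (LP (LK LD1_c4 LD2_c59 LD3_c15)) :=
  Lre_g IH (LK LD1_c2 LD2_c27 LD3_c43) (LK LD1_c4 LD2_c59 LD3_c15) Lrfl Lrfl
theorem f105014 : Led Lsl_dt (LP (LK LD1_c4 LD2_c59 LD3_c15)) = (LP (LK LD1_c9 LD2_c30 LD3_c18)) :=
  Lgr Lrot57 (Lpe (f26443 IH) (Lpe (K0.f20425 IH) (Lpr_gt (K0.f23455 IH) (Lpe (f80023 IH) (Lpe (f72858 IH) (Lpr_dt (f74447 IH) (Lpe (K2.f74261 IH) (Lpe (K2.f74262 IH) (Lpr_gf (f105009 IH) (Lpn (LP (LK LD1_c9 LD2_c30 LD3_c18))))))))))))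
theorem f87177 : Led Lsl_bt (LP (LK LD1_c1 LD2_c51 LD3_c44)) = (LP (LK LD1_c0 LD2_c52 LD3_c40)) :=
  Lre_b IH (LK LD1_c1 LD2_c51 LD3_c44) (LK LD1_c0 LD2_c52 LD3_c40) Lrfl Lrfl
theorem f108206 : Led Lsl_at (LP (LK LD1_c0 LD2_c21 LD3_c61)) = (LP (LK LD1_c0 LD2_c21 LD3_c35)) :=
  Lgr Lrot100 (Lpr_af (K3.f108204 IH) (Lpn (LP (LK LD1_c0 LD2_c21 LD3_c35))))
theorem f108748 : Led Lsl_bt (LP (LK LD1_c1 LD2_c34 LD3_c24)) = (LP (LK LD1_c1 LD2_c44 LD3_c37)) :=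
  Lgr Lrot62 (Lpr_af (K3.f108677 IH) (Lpe (f11638 IH) (Lpe (f108206 IH) (Lpe (K3.f97283 IH) (Lpe (f108747 IH) (Lpn (LP (LK LD1_c1 LD2_c44 LD3_c37))))))))
theorem f120267 : Led Lsl_gf (LP (LK LD1_c1 LD2_c39 LD3_c34)) = (LP (LK LD1_c1 LD2_c44 LD3_c37)) :=
  Lgr Lrot85 (Lpr_dt (K3.f98634 IH) (Lpe (K3.f107215 IH) (Lpr_bt (K3.f107206 IH) (Lpr_gt (K3.f9756 IH) (Lpr_dt (K2.f9751 IH) (Lpr_ct (K2.f9752 IH) (Lpr_bt (f26456 IH) (Lpr_gt (f26443 IH) (Lpr_dt (f105014 IH) (Lpr_ct (f104983 IH) (Lpr_bt (f104990 IH) (Lpr_gt (f120265 IH) (Lpr_dt (f87295 IH) (Lpr_ct (f87178 IH) (Lpr_bt (f87177 IH) (Lpe (K3.f87804 IH) (Lpr_dt (K3.f64618 IH) (Lpr_ct (K3.f104102 IH) (Lpr_bt (f108748 IH) (Lpn (LP (LK LD1_c1 LD2_c44 LD3_c37))))))))))))))))))))))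
theorem f84755 : Led Lsl_dt (LP (LK LD1_c0 LD2_c47 LD3_c58)) = (LP (LK LD1_c0 LD2_c21 LD3_c29)) :=
  Lre_d IH (LK LD1_c0 LD2_c47 LD3_c58) (LK LD1_c0 LD2_c21 LD3_c29) Lrfl Lrfl
theorem f116017 : Led Lsl_at (LP (LK LD1_c1 LD2_c39 LD3_c36)) = (LP (LK LD1_c0 LD2_c47 LD3_c58)) :=
  Lgr Lrot51 (Lpr_df (f116015 IH) (Lpe (K3.f87524 IH) (Lpe (f84755 IH) (Lpn (LP (LK LD1_c0 LD2_c47 LD3_c58))))))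
theorem f124017 : Led Lsl_gt (LP (LK LD1_c1 LD2_c39 LD3_c34)) = (LP (LK LD1_c0 LD2_c47 LD3_c58)) :=
  Lgr Lrot46 (Lpr_gf (f120267 IH) (Lpr_ft (f124010 IH) (Lpr_at (f116017 IH) (Lpn (LP (LK LD1_c0 LD2_c47 LD3_c58))))))
theorem f4880 : Led Lsl_dt (LP (LK LD1_c0 LD2_c4 LD3_c51)) = (LP (LK LD1_c0 LD2_c10 LD3_c18)) :=
  Lre_d IH (LK LD1_c0 LD2_c4 LD3_c51) (LK LD1_c0 LD2_c10 LD3_c18) Lrfl Lrfl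
theorem f4463 : Led Lsl_gt (LP (LK LD1_c0 LD2_c50 LD3_c34)) = (LP (LK LD1_c0 LD2_c22 LD3_c51)) :=
  Lre_g IH (LK LD1_c0 LD2_c50 LD3_c34) (LK LD1_c0 LD2_c22 LD3_c51) Lrfl Lrfl
theorem f124019 : Led Lsl_cf (LP (LK LD1_c0 LD2_c50 LD3_c34)) = (LP (LK LD1_c0 LD2_c47 LD3_c58)) :=
  Lgr Lrot169 (Lpr_gt (f4463 IH) (Lpr_ct (f4457 IH) (Lpe (f4880 IH) (Lpr_cf (K0.f12333 IH) (Lpe (K1.f12422 IH) (Lpr_cf (K2.f23685 IH) (Lpr_gf (K3.f103587 IH) (Lpe (K3.f98634 IH) (Lpr_gt (f124017 IH) (Lpn (LP (LK LD1_c0 LD2_c47 LD3_c58))))))))))))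
theorem f12895 : Led Lsl_dt (LP (LK LD1_c0 LD2_c22 LD3_c51)) = (LP (LK LD1_c0 LD2_c50 LD3_c35)) :=
  Lre_d IH (LK LD1_c0 LD2_c22 LD3_c51) (LK LD1_c0 LD2_c50 LD3_c35) Lrfl Lrfl
theorem f13390 : Led Lsl_gt (LP (LK LD1_c0 LD2_c50 LD3_c35)) = (LP (LK LD1_c1 LD2_c47 LD3_c38)) :=
  Lre_g IH (LK LD1_c0 LD2_c50 LD3_c35) (LK LD1_c1 LD2_c47 LD3_c38) Lrfl Lrfl
theorem f95854 : Led Lsl_cf (LP (LK LD1_c1 LD2_c33 LD3_c19)) = (LP (LK LD1_c0 LD2_c53 LD3_c25)) :=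
  Lgr Lrot11 (Lpr_ct (f95851 IH) (Lpn (LP (LK LD1_c0 LD2_c53 LD3_c25))))
theorem f124035 : Led Lsl_dt (LP (LK LD1_c1 LD2_c47 LD3_c38)) = (LP (LK LD1_c0 LD2_c53 LD3_c25)) :=
  Lgr Lrot105 (Lpe (f13390 IH) (Lpe (f12895 IH) (Lpe (f4463 IH) (Lpr_cf (f124019 IH) (Lpr_gt (K3.f109118 IH) (Lpr_dt (f104138 IH) (Lpe (K3.f107225 IH) (Lpr_dt (f23677 IH) (Lpr_cf (f95854 IH) (Lpn (LP (LK LD1_c0 LD2_c53 LD3_c25))))))))))))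
theorem f107064 : Led Lsl_af (LP (LK LD1_c0 LD2_c19 LD3_c19)) = (LP (LK LD1_c0 LD2_c23 LD3_c4)) :=
  Lgr Lrot0 (Lpr_at (K3.f107062 IH) (Lpn (LP (LK LD1_c0 LD2_c23 LD3_c4))))
theorem f23693 : Led Lsl_ct (LP (LK LD1_c0 LD2_c43 LD3_c20)) = (LP (LK LD1_c1 LD2_c33 LD3_c26)) :=
  Lre_c IH (LK LD1_c0 LD2_c43 LD3_c20) (LK LD1_c1 LD2_c33 LD3_c26) Lrfl Lrfl
theorem f23694 : Led Lsl_dt (LP (LK LD1_c1 LD2_c33 LD3_c26)) = (LP (LK LD1_c3 LD2_c13 LD3_c46)) :=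
  Lre_d IH (LK LD1_c1 LD2_c33 LD3_c26) (LK LD1_c3 LD2_c13 LD3_c46) Lrfl Lrfl
theorem f124048 : Led Lsl_cf (LP (LK LD1_c1 LD2_c47 LD3_c38)) = (LP (LK LD1_c3 LD2_c13 LD3_c46)) :=
  Lgr Lrot116 (Lpr_dt (f124035 IH) (Lpe (f95854 IH) (Lpr_dt (f23654 IH) (Lpr_ct (K0.f23666 IH) (Lpr_af (f107064 IH) (Lpr_ff (f121306 IH) (Lpr_dt (K1.f23692 IH) (Lpr_ct (f23693 IH) (Lpr_dt (f23694 IH) (Lpn (LP (LK LD1_c3 LD2_c13 LD3_c46))))))))))))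
theorem f93077 : Led Lsl_df (LP (LK LD1_c0 LD2_c22 LD3_c29)) = (LP (LK LD1_c0 LD2_c49 LD3_c15)) :=
  Lgr Lrot12 (Lpr_bt (K2.f5723 IH) (Lpr_dt (K3.f92518 IH) (Lpr_bt (f88619 IH) (Lpn (LP (LK LD1_c0 LD2_c49 LD3_c15))))))
theorem f121243 : Led Lsl_af (LP (LK LD1_c1 LD2_c33 LD3_c19)) = (LP (LK LD1_c0 LD2_c48 LD3_c17)) :=
  Lgr Lrot117 (Lpr_dt (f23654 IH) (Lpr_at (f121233 IH) (Lpr_dt (f107564 IH) (Lpn (LP (LK LD1_c0 LD2_c48 LD3_c17))))))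
theorem f124050 : Led Lsl_ft (LP (LK LD1_c0 LD2_c49 LD3_c15)) = (LP (LK LD1_c0 LD2_c48 LD3_c17)) :=
  Lgr Lrot142 (Lpe (f93077 IH) (Lpe (K2.f23685 IH) (Lpr_dt (K1.f23692 IH) (Lpr_ct (f23693 IH) (Lpr_dt (f23694 IH) (Lpe (f124048 IH) (Lpr_dt (f124035 IH) (Lpe (f95854 IH) (Lpr_af (f121243 IH) (Lpn (LP (LK LD1_c0 LD2_c48 LD3_c17))))))))))))
theorem f124061 : Led Lsl_gt (LP (LK LD1_c0 LD2_c53 LD3_c53)) = (LP (LK LD1_c1 LD2_c33 LD3_c19)) :=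
  Lgr Lrot46 (Lpr_gf (f114997 IH) (Lpr_ft (f124050 IH) (Lpe (f121243 IH) (Lpn (LP (LK LD1_c1 LD2_c33 LD3_c19))))))
theorem f90258 : Led Lsl_dt (LP (LK LD1_c0 LD2_c24 LD3_c13)) = (LP (LK LD1_c0 LD2_c21 LD3_c24)) :=
  Lgr Lrot42 (Lpr_df (f90242 IH) (Lpn (LP (LK LD1_c0 LD2_c21 LD3_c24))))
theorem f90286 : Led Lsl_df (LP (LK LD1_c0 LD2_c53 LD3_c53)) = (LP (LK LD1_c0 LD2_c47 LD3_c49)) :=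
  Lgr Lrot12 (Lpr_bt (f90285 IH) (Lpr_dt (f90258 IH) (Lpr_bt (K3.f12088 IH) (Lpn (LP (LK LD1_c0 LD2_c47 LD3_c49))))))
theorem f24606 : Led Lsl_df (LP (LK LD1_c0 LD2_c19 LD3_c49)) = (LP (LK LD1_c0 LD2_c17 LD3_c57)) :=
  Lgr Lrot12 (Lpr_bt (K1.f24605 IH) (Lpr_dt (K0.f24599 IH) (Lpr_bt (K3.f21023 IH) (Lpn (LP (LK LD1_c0 LD2_c17 LD3_c57))))))
theorem f124063 : Led Lsl_gt (LP (LK LD1_c0 LD2_c19 LD3_c49)) = (LP (LK LD1_c0 LD2_c43 LD3_c17)) :=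
  Lgr Lrot49 (Lpr_df (f24606 IH) (Lpe (K2.f21024 IH) (Lpe (K2.f21157 IH) (Lpe (K3.f87517 IH) (Lpe (f90286 IH) (Lpr_gt (f124061 IH) (Lpr_dt (f23654 IH) (Lpe (K0.f20871 IH) (Lpe (K3.f23650 IH) (Lpn (LP (LK LD1_c0 LD2_c43 LD3_c17))))))))))))
theorem f23616 : Led Lsl_ct (LP (LK LD1_c0 LD2_c43 LD3_c17)) = (LP (LK LD1_c1 LD2_c33 LD3_c21)) :=
  Lre_c IH (LK LD1_c0 LD2_c43 LD3_c17) (LK LD1_c1 LD2_c33 LD3_c21) Lrfl Lrfl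
theorem f23617 : Led Lsl_gt (LP (LK LD1_c1 LD2_c33 LD3_c21)) = (LP (LK LD1_c3 LD2_c13 LD3_c33)) :=
  Lre_g IH (LK LD1_c1 LD2_c33 LD3_c21) (LK LD1_c3 LD2_c13 LD3_c33) Lrfl Lrfl
theorem f124071 : Led Lsl_ct (LP (LK LD1_c1 LD2_c48 LD3_c1)) = (LP (LK LD1_c3 LD2_c13 LD3_c33)) :=
  Lgr Lrot63 (Lpe (f114936 IH) (Lpr_gt (f9755 IH) (Lpe (f20280 IH) (Lpr_ct (K0.f13476 IH) (Lpr_gt (K0.f20276 IH) (Lpe (K0.f26472 IH) (Lpr_bt (K1.f24856 IH) (Lpr_gt (f124063 IH) (Lpr_ct (f23616 IH) (Lpr_gt (f23617 IH) (Lpn (LP (LK LD1_c3 LD2_c13 LD3_c33)))))))))))))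
theorem f77185 : Led Lsl_bf (LP (LK LD1_c1 LD2_c30 LD3_c20)) = (LP (LK LD1_c1 LD2_c37 LD3_c48)) :=
  Lgr Lrot93 (Lpr_dt (K2.f77180 IH) (Lpr_bt (K2.f13510 IH) (Lpr_dt (K0.f13516 IH) (Lpn (LP (LK LD1_c1 LD2_c37 LD3_c48))))))
theorem f94024 : Led Lsl_bt (LP (LK LD1_c0 LD2_c43 LD3_c20)) = (LP (LK LD1_c1 LD2_c33 LD3_c25)) :=
  Lre_b IH (LK LD1_c0 LD2_c43 LD3_c20) (LK LD1_c1 LD2_c33 LD3_c25) Lrfl Lrfl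
theorem f124103 : Led Lsl_gf (LP (LK LD1_c1 LD2_c33 LD3_c26)) = (LP (LK LD1_c3 LD2_c13 LD3_c33)) :=
  Lgr Lrot126 (Lpe (f23693 IH) (Lpr_bt (f94024 IH) (Lpe (K2.f94650 IH) (Lpr_ct (K2.f83741 IH) (Lpr_gt (K2.f15008 IH) (Lpe (K0.f14558 IH) (Lpe (f77185 IH) (Lpr_gt (f77776 IH) (Lpr_bf (f114936 IH) (Lpr_ct (f124071 IH) (Lpn (LP (LK LD1_c3 LD2_c13 LD3_c33)))))))))))))
theorem f83756 : Led Lsl_bt (LP (LK LD1_c3 LD2_c24 LD3_c18)) = (LP (LK LD1_c1 LD2_c38 LD3_c33)) :=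
  Lre_b IH (LK LD1_c3 LD2_c24 LD3_c18) (LK LD1_c1 LD2_c38 LD3_c33) Lrfl Lrfl
theorem f40421 : Led Lsl_bf (LP (LK LD1_c3 LD2_c59 LD3_c48)) = (LP (LK LD1_c3 LD2_c23 LD3_c42)) :=
  Lgr Lrot93 (Lpr_dt (K1.f40053 IH) (Lpr_bt (K2.f40396 IH) (Lpr_dt (K3.f14635 IH) (Lpn (LP (LK LD1_c3 LD2_c23 LD3_c42))))))
theorem f60989 : Led Lsl_ct (LP (LK LD1_c2 LD2_c18 LD3_c3)) = (LP (LK LD1_c1 LD2_c6 LD3_c3)) :=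
  Lre_c IH (LK LD1_c2 LD2_c18 LD3_c3) (LK LD1_c1 LD2_c6 LD3_c3) Lrfl Lrfl
theorem f61145 : Led Lsl_bt (LP (LK LD1_c2 LD2_c18 LD3_c3)) = (LP (LK LD1_c4 LD2_c41 LD3_c45)) :=
  Lre_b IH (LK LD1_c2 LD2_c18 LD3_c3) (LK LD1_c4 LD2_c41 LD3_c45) Lrfl Lrfl
theorem f104729 : Led Lsl_gf (LP (LK LD1_c3 LD2_c59 LD3_c48)) = (LP (LK LD1_c4 LD2_c41 LD3_c45)) :=
  Lgr Lrot124 (Lpr_bf (f40421 IH) (Lpr_ct (K3.f14634 IH) (Lpe (K2.f91754 IH) (Lpe (K2.f65861 IH) (Lpr_bt (K3.f104723 IH) (Lpr_gt (K3.f90251 IH) (Lpr_ct (K3.f60957 IH) (Lpr_gt (K2.f26939 IH) (Lpe (f60989 IH) (Lpr_bt (f61145 IH) (Lpn (LP (LK LD1_c4 LD2_c41 LD3_c45)))))))))))))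
theorem f59589 : Led Lsl_df (LP (LK LD1_c0 LD2_c6 LD3_c3)) = (LP (LK LD1_c0 LD2_c7 LD3_c25)) :=
  Lgr Lrot12 (Lpr_bt (K0.f7113 IH) (Lpr_dt (K1.f59587 IH) (Lpr_bt (K1.f56589 IH) (Lpn (LP (LK LD1_c0 LD2_c7 LD3_c25))))))
theorem f104731 : Led Lsl_dt (LP (LK LD1_c0 LD2_c30 LD3_c38)) = (LP (LK LD1_c1 LD2_c6 LD3_c3)) :=
  Lgr Lrot182 (Lpe (K3.f26084 IH) (Lpe (K2.f26142 IH) (Lpe (K0.f13604 IH) (Lpe (K0.f26330 IH) (Lpe (K0.f7098 IH) (Lpe (K0.f13637 IH) (Lpe (K0.f7111 IH) (Lpr_df (f59589 IH) (Lpe (K1.f20456 IH) (Lpr_bf (K1.f20434 IH) (Lpe (K1.f20265 IH) (Lpe (K1.f20266 IH) (Lpe (K2.f56667 IH) (Lpe (f36231 IH) (Lpe (K1.f36239 IH) (Lpe (K1.f40053 IH) (Lpr_gf (f104729 IH) (Lpe (f61145 IH) (Lpe (K2.f60964 IH) (Lpn (LP (LK LD1_c1 LD2_c6 LD3_c3))))))))))))))))))))))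
theorem f60988 : Led Lsl_gt (LP (LK LD1_c4 LD2_c41 LD3_c44)) = (LP (LK LD1_c2 LD2_c18 LD3_c3)) :=
  Lre_g IH (LK LD1_c4 LD2_c41 LD3_c44) (LK LD1_c2 LD2_c18 LD3_c3) Lrfl Lrfl
theorem f120787 : Led Lsl_cf (LP (LK LD1_c4 LD2_c41 LD3_c44)) = (LP (LK LD1_c3 LD2_c24 LD3_c18)) :=
  Lgr Lrot169 (Lpr_gt (f60988 IH) (Lpr_ct (f60989 IH) (Lpe (f104731 IH) (Lpe (K3.f26095 IH) (Lpe (K3.f79298 IH) (Lpe (f104181 IH) (Lpr_gf (K3.f104173 IH) (Lpe (K2.f23453 IH) (Lpr_gt (f120783 IH) (Lpn (LP (LK LD1_c3 LD2_c24 LD3_c18))))))))))))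
theorem f23696 : Led Lsl_ct (LP (LK LD1_c1 LD2_c33 LD3_c26)) = (LP (LK LD1_c0 LD2_c43 LD3_c20)) :=
  Lre_c IH (LK LD1_c1 LD2_c33 LD3_c26) (LK LD1_c0 LD2_c43 LD3_c20) Lrfl Lrfl
theorem f23695 : Led Lsl_dt (LP (LK LD1_c0 LD2_c43 LD3_c20)) = (LP (LK LD1_c0 LD2_c19 LD3_c20)) :=
  Lre_d IH (LK LD1_c0 LD2_c43 LD3_c20) (LK LD1_c0 LD2_c19 LD3_c20) Lrfl Lrfl
theorem f120828 : Led Lsl_bt (LP (LK LD1_c0 LD2_c10 LD3_c21)) = (LP (LK LD1_c0 LD2_c22 LD3_c58)) :=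
  Lre_b IH (LK LD1_c0 LD2_c10 LD3_c21) (LK LD1_c0 LD2_c22 LD3_c58) Lrfl Lrfl
theorem f120855 : Led Lsl_ct (LP (LK LD1_c0 LD2_c10 LD3_c21)) = (LP (LK LD1_c0 LD2_c22 LD3_c59)) :=
  Lre_c IH (LK LD1_c0 LD2_c10 LD3_c21) (LK LD1_c0 LD2_c22 LD3_c59) Lrfl Lrfl
theorem f120856 : Led Lsl_gf (LP (LK LD1_c0 LD2_c50 LD3_c46)) = (LP (LK LD1_c0 LD2_c22 LD3_c59)) :=
  Lgr Lrot126 (Lpr_cf (K3.f107215 IH) (Lpr_bt (K3.f98623 IH) (Lpe (K3.f103560 IH) (Lpr_ct (K3.f94618 IH) (Lpr_gt (K1.f62308 IH) (Lpe (K0.f5714 IH) (Lpr_bt (K0.f5715 IH) (Lpr_gt (f120843 IH) (Lpe (f120828 IH) (Lpr_ct (f120855 IH) (Lpn (LP (LK LD1_c0 LD2_c22 LD3_c59)))))))))))))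
theorem f124107 : Led Lsl_dt (LP (LK LD1_c0 LD2_c22 LD3_c59)) = (LP (LK LD1_c0 LD2_c50 LD3_c53)) :=
  Lre_d IH (LK LD1_c0 LD2_c22 LD3_c59) (LK LD1_c0 LD2_c50 LD3_c53) Lrfl Lrfl
theorem f124108 : Led Lsl_gt (LP (LK LD1_c0 LD2_c50 LD3_c53)) = (LP (LK LD1_c1 LD2_c48 LD3_c1)) :=
  Lgr Lrot9 (Lpe (f124107 IH) (Lpe (f120856 IH) (Lpr_ct (K3.f107208 IH) (Lpe (K3.f103587 IH) (Lpe (K2.f23685 IH) (Lpe (f23695 IH) (Lpe (f23696 IH) (Lpr_gf (f124103 IH) (Lpe (f124071 IH) (Lpn (LP (LK LD1_c1 LD2_c48 LD3_c1))))))))))))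
theorem f124114 : Led Lsl_bt (LP (LK LD1_c1 LD2_c6 LD3_c3)) = (LP (LK LD1_c0 LD2_c50 LD3_c53)) :=
  Lgr Lrot130 (Lpr_ct (K2.f60964 IH) (Lpe (f60988 IH) (Lpr_cf (f120787 IH) (Lpr_bt (f83756 IH) (Lpr_gf (K2.f94650 IH) (Lpe (f94024 IH) (Lpr_ct (f23693 IH) (Lpr_gf (f124103 IH) (Lpe (f124071 IH) (Lpe (f124108 IH) (Lpn (LP (LK LD1_c0 LD2_c50 LD3_c53)))))))))))))
theorem f124110 : Led Lsl_dt (LP (LK LD1_c0 LD2_c50 LD3_c53)) = (LP (LK LD1_c0 LD2_c22 LD3_c59)) :=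
  Lre_d IH (LK LD1_c0 LD2_c50 LD3_c53) (LK LD1_c0 LD2_c22 LD3_c59) Lrfl Lrfl
theorem f124125 : Led Lsl_bf (LP (LK LD1_c0 LD2_c30 LD3_c38)) = (LP (LK LD1_c0 LD2_c22 LD3_c59)) :=
  Lgr Lrot93 (Lpr_dt (f104731 IH) (Lpr_bt (f124114 IH) (Lpr_dt (f124110 IH) (Lpn (LP (LK LD1_c0 LD2_c22 LD3_c59))))))
theorem f120829 : Led Lsl_ct (LP (LK LD1_c0 LD2_c22 LD3_c59)) = (LP (LK LD1_c0 LD2_c10 LD3_c21)) :=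
  Lre_c IH (LK LD1_c0 LD2_c22 LD3_c59) (LK LD1_c0 LD2_c10 LD3_c21) Lrfl Lrfl
theorem f124149 : Led Lsl_bf (LP (LK LD1_c0 LD2_c6 LD3_c17)) = (LP (LK LD1_c0 LD2_c10 LD3_c23)) :=
  Lgr Lrot165 (Lpr_gt (K0.f13588 IH) (Lpr_ct (K0.f13594 IH) (Lpr_gt (K0.f1472 IH) (Lpe (K0.f26045 IH) (Lpr_bt (K2.f26142 IH) (Lpr_gt (K3.f26084 IH) (Lpr_bf (f124125 IH) (Lpr_ct (f120829 IH) (Lpr_gt (f12898 IH) (Lpe (K3.f13439 IH) (Lpn (LP (LK LD1_c0 LD2_c10 LD3_c23)))))))))))))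
theorem f13584 : Led Lsl_dt (LP (LK LD1_c0 LD2_c6 LD3_c17)) = (LP (LK LD1_c0 LD2_c13 LD3_c44)) :=
  Lre_d IH (LK LD1_c0 LD2_c6 LD3_c17) (LK LD1_c0 LD2_c13 LD3_c44) Lrfl Lrfl
theorem f64387 : Led Lsl_dt (LP (LK LD1_c0 LD2_c23 LD3_c5)) = (LP (LK LD1_c0 LD2_c10 LD3_c23)) :=
  Lre_d IH (LK LD1_c0 LD2_c23 LD3_c5) (LK LD1_c0 LD2_c10 LD3_c23) Lrfl Lrfl
theorem f124152 : Led Lsl_bt (LP (LK LD1_c0 LD2_c13 LD3_c44)) = (LP (LK LD1_c0 LD2_c23 LD3_c5)) :=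
  Lgr Lrot95 (Lpe (f13584 IH) (Lpr_bf (f124149 IH) (Lpe (f64387 IH) (Lpn (LP (LK LD1_c0 LD2_c23 LD3_c5))))))
theorem f58939 : Led Lsl_ct (LP (LK LD1_c0 LD2_c13 LD3_c44)) = (LP (LK LD1_c0 LD2_c29 LD3_c26)) :=
  Lgr Lrot7 (Lpe (f13584 IH) (Lpe (K0.f9925 IH) (Lpe (K0.f11008 IH) (Lpe (K1.f11009 IH) (Lpr_cf (K3.f58845 IH) (Lpr_gt (K1.f58933 IH) (Lpr_dt (K1.f8333 IH) (Lpr_gt (K1.f37314 IH) (Lpr_dt (K1.f20540 IH) (Lpn (LP (LK LD1_c0 LD2_c29 LD3_c26))))))))))))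
theorem f61282 : Led Lsl_bt (LP (LK LD1_c0 LD2_c19 LD3_c7)) = (LP (LK LD1_c0 LD2_c42 LD3_c58)) :=
  Lre_b IH (LK LD1_c0 LD2_c19 LD3_c7) (LK LD1_c0 LD2_c42 LD3_c58) Lrfl Lrfl
theorem f67013 : Led Lsl_at (LP (LK LD1_c1 LD2_c32 LD3_c45)) = (LP (LK LD1_c0 LD2_c42 LD3_c58)) :=
  Lre_a IH (LK LD1_c1 LD2_c32 LD3_c45) (LK LD1_c0 LD2_c42 LD3_c58) Lrfl Lrfl
theorem f76436 : Led Lsl_ff (LP (LK LD1_c1 LD2_c32 LD3_c45)) = (LP (LK LD1_c1 LD2_c29 LD3_c18)) :=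
  Lgr Lrot103 (Lpr_at (f67013 IH) (Lpe (K2.f61202 IH) (Lpe (K2.f61203 IH) (Lpr_cf (K2.f76425 IH) (Lpe (K2.f25122 IH) (Lpe (K2.f25121 IH) (Lpe (K2.f25120 IH) (Lpe (K2.f25096 IH) (Lpe (K2.f25117 IH) (Lpn (LP (LK LD1_c1 LD2_c29 LD3_c18))))))))))))
theorem f79381 : Led Lsl_gf (LP (LK LD1_c0 LD2_c42 LD3_c58)) = (LP (LK LD1_c1 LD2_c32 LD3_c24)) :=
  Lgr Lrot76 (Lpe (f67013 IH) (Lpr_ff (f76436 IH) (Lpr_gt (K3.f79379 IH) (Lpn (LP (LK LD1_c1 LD2_c32 LD3_c24))))))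
theorem f66467 : Led Lsl_dt (LP (LK LD1_c1 LD2_c46 LD3_c55)) = (LP (LK LD1_c0 LD2_c50 LD3_c15)) :=
  Lre_d IH (LK LD1_c1 LD2_c46 LD3_c55) (LK LD1_c0 LD2_c50 LD3_c15) Lrfl Lrfl
theorem f107289 : Led Lsl_ct (LP (LK LD1_c3 LD2_c39 LD3_c54)) = (LP (LK LD1_c1 LD2_c46 LD3_c55)) :=
  Lre_c IH (LK LD1_c3 LD2_c39 LD3_c54) (LK LD1_c1 LD2_c46 LD3_c55) Lrfl Lrfl
theorem f121235 : Led Lsl_gt (LP (LK LD1_c1 LD2_c48 LD3_c39)) = (LP (LK LD1_c3 LD2_c39 LD3_c54)) :=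
  Lgr Lrot150 (Lpe (f116089 IH) (Lpe (f86815 IH) (Lpe (f86814 IH) (Lpr_gt (K3.f11294 IH) (Lpr_ct (f120818 IH) (Lpr_gt (f121231 IH) (Lpe (f107200 IH) (Lpe (f66467 IH) (Lpe (f107289 IH) (Lpn (LP (LK LD1_c3 LD2_c39 LD3_c54))))))))))))
theorem f107290 : Led Lsl_ct (LP (LK LD1_c1 LD2_c46 LD3_c55)) = (LP (LK LD1_c3 LD2_c39 LD3_c54)) :=
  Lre_c IH (LK LD1_c1 LD2_c46 LD3_c55) (LK LD1_c3 LD2_c39 LD3_c54) Lrfl Lrfl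
theorem f124195 : Led Lsl_bf (LP (LK LD1_c1 LD2_c32 LD3_c24)) = (LP (LK LD1_c1 LD2_c46 LD3_c55)) :=
  Lgr Lrot156 (Lpe (f79381 IH) (Lpe (f61282 IH) (Lpr_ct (K2.f61248 IH) (Lpe (f61280 IH) (Lpe (f58939 IH) (Lpr_bt (f124152 IH) (Lpr_gt (f86815 IH) (Lpr_ct (f116089 IH) (Lpr_gt (f121235 IH) (Lpe (f107290 IH) (Lpn (LP (LK LD1_c1 LD2_c46 LD3_c55)))))))))))))
theorem f124199 : Led Lsl_bt (LP (LK LD1_c1 LD2_c32 LD3_c24)) = (LP (LK LD1_c1 LD2_c46 LD3_c55)) :=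
  Lgr Lrot127 (Lpr_bf (f124195 IH) (Lpn (LP (LK LD1_c1 LD2_c46 LD3_c55))))
theorem f124210 : Led Lsl_bf (LP (LK LD1_c0 LD2_c42 LD3_c46)) = (LP (LK LD1_c0 LD2_c50 LD3_c15)) :=
  Lgr Lrot93 (Lpr_dt (K3.f13496 IH) (Lpr_bt (f124199 IH) (Lpr_dt (f66467 IH) (Lpn (LP (LK LD1_c0 LD2_c50 LD3_c15))))))
theorem f26103 : Led Lsl_bt (LP (LK LD1_c0 LD2_c23 LD3_c3)) = (LP (LK LD1_c0 LD2_c51 LD3_c1)) :=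
  Lre_b IH (LK LD1_c0 LD2_c23 LD3_c3) (LK LD1_c0 LD2_c51 LD3_c1) Lrfl Lrfl
theorem f124216 : Led Lsl_cf (LP (LK LD1_c0 LD2_c43 LD3_c53)) = (LP (LK LD1_c0 LD2_c50 LD3_c15)) :=
  Lgr Lrot58 (Lpe (f121231 IH) (Lpe (f120818 IH) (Lpr_bt (f26103 IH) (Lpe (K3.f79321 IH) (Lpr_bf (K3.f79281 IH) (Lpr_ct (K3.f13487 IH) (Lpe (K0.f13460 IH) (Lpe (K0.f13483 IH) (Lpe (K0.f13495 IH) (Lpr_bf (f124210 IH) (Lpn (LP (LK LD1_c0 LD2_c50 LD3_c15)))))))))))))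
theorem f107282 : Led Lsl_bt (LP (LK LD1_c0 LD2_c10 LD3_c16)) = (LP (LK LD1_c0 LD2_c22 LD3_c45)) :=
  Lre_b IH (LK LD1_c0 LD2_c10 LD3_c16) (LK LD1_c0 LD2_c22 LD3_c45) Lrfl Lrfl
theorem f107283 : Led Lsl_ct (LP (LK LD1_c0 LD2_c10 LD3_c16)) = (LP (LK LD1_c0 LD2_c22 LD3_c46)) :=
  Lre_c IH (LK LD1_c0 LD2_c10 LD3_c16) (LK LD1_c0 LD2_c22 LD3_c46) Lrfl Lrfl
theorem f107284 : Led Lsl_gt (LP (LK LD1_c0 LD2_c22 LD3_c46)) = (LP (LK LD1_c0 LD2_c50 LD3_c15)) :=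
  Lgr Lrot65 (Lpe (f107283 IH) (Lpr_bt (f107282 IH) (Lpr_gf (K3.f107274 IH) (Lpe (K3.f104195 IH) (Lpr_ct (K3.f95727 IH) (Lpe (K3.f95741 IH) (Lpe (K0.f23598 IH) (Lpe (K2.f23460 IH) (Lpe (K3.f23334 IH) (Lpe (f107200 IH) (Lpn (LP (LK LD1_c0 LD2_c50 LD3_c15)))))))))))))
theorem f107288 : Led Lsl_dt (LP (LK LD1_c0 LD2_c50 LD3_c23)) = (LP (LK LD1_c0 LD2_c22 LD3_c46)) :=
  Lre_d IH (LK LD1_c0 LD2_c50 LD3_c23) (LK LD1_c0 LD2_c22 LD3_c46) Lrfl Lrfl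
theorem f107291 : Led Lsl_dt (LP (LK LD1_c0 LD2_c22 LD3_c46)) = (LP (LK LD1_c0 LD2_c50 LD3_c23)) :=
  Lre_d IH (LK LD1_c0 LD2_c22 LD3_c46) (LK LD1_c0 LD2_c50 LD3_c23) Lrfl Lrfl
theorem f121229 : Led Lsl_gt (LP (LK LD1_c0 LD2_c50 LD3_c23)) = (LP (LK LD1_c1 LD2_c46 LD3_c57)) :=
  Lgr Lrot49 (Lpe (f107291 IH) (Lpe (K3.f107558 IH) (Lpe (K3.f9810 IH) (Lpr_gt (f12568 IH) (Lpr_dt (f107563 IH) (Lpr_gt (f121227 IH) (Lpr_dt (K2.f84762 IH) (Lpr_cf (K2.f87553 IH) (Lpr_df (f115002 IH) (Lpn (LP (LK LD1_c1 LD2_c46 LD3_c57))))))))))))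
theorem f12572 : Led Lsl_ct (LP (LK LD1_c1 LD2_c46 LD3_c57)) = (LP (LK LD1_c3 LD2_c39 LD3_c56)) :=
  Lre_c IH (LK LD1_c1 LD2_c46 LD3_c57) (LK LD1_c3 LD2_c39 LD3_c56) Lrfl Lrfl
theorem f124220 : Led Lsl_gf (LP (LK LD1_c1 LD2_c48 LD3_c36)) = (LP (LK LD1_c3 LD2_c39 LD3_c56)) :=
  Lgr Lrot104 (Lpr_ct (f107059 IH) (Lpe (K3.f86742 IH) (Lpe (f5811 IH) (Lpe (K3.f65390 IH) (Lpr_cf (f124216 IH) (Lpe (f107284 IH) (Lpe (f107288 IH) (Lpr_gt (f121229 IH) (Lpr_ct (f12572 IH) (Lpn (LP (LK LD1_c3 LD2_c39 LD3_c56))))))))))))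
theorem f107060 : Led Lsl_at (LP (LK LD1_c1 LD2_c33 LD3_c21)) = (LP (LK LD1_c1 LD2_c48 LD3_c36)) :=
  Lgr Lrot107 (Lpe (f23616 IH) (Lpr_af (K3.f107050 IH) (Lpe (f107059 IH) (Lpn (LP (LK LD1_c1 LD2_c48 LD3_c36))))))
theorem f23608 : Led Lsl_ct (LP (LK LD1_c1 LD2_c33 LD3_c21)) = (LP (LK LD1_c0 LD2_c43 LD3_c17)) :=
  Lre_c IH (LK LD1_c1 LD2_c33 LD3_c21) (LK LD1_c0 LD2_c43 LD3_c17) Lrfl Lrfl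
theorem f121271 : Led Lsl_ft (LP (LK LD1_c1 LD2_c48 LD3_c32)) = (LP (LK LD1_c1 LD2_c33 LD3_c21)) :=
  Lgr Lrot4 (Lpe (f13598 IH) (Lpr_ff (f121267 IH) (Lpe (f23608 IH) (Lpn (LP (LK LD1_c1 LD2_c33 LD3_c21))))))
theorem f124222 : Led Lsl_gt (LP (LK LD1_c1 LD2_c48 LD3_c32)) = (LP (LK LD1_c3 LD2_c39 LD3_c56)) :=
  Lgr Lrot5 (Lpr_ft (f121271 IH) (Lpr_at (f107060 IH) (Lpr_gf (f124220 IH) (Lpn (LP (LK LD1_c3 LD2_c39 LD3_c56))))))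
theorem f114478 : Led Lsl_ff (LP (LK LD1_c1 LD2_c37 LD3_c35)) = (LP (LK LD1_c1 LD2_c29 LD3_c16)) :=
  Lgr Lrot19 (Lpe (f79623 IH) (Lpr_ft (f114476 IH) (Lpr_dt (f25113 IH) (Lpn (LP (LK LD1_c1 LD2_c29 LD3_c16))))))
theorem f114968 : Led Lsl_bt (LP (LK LD1_c1 LD2_c46 LD3_c57)) = (LP (LK LD1_c1 LD2_c29 LD3_c16)) :=
  Lgr Lrot35 (Lpr_ff (f114966 IH) (Lpe (f114928 IH) (Lpr_ff (f114478 IH) (Lpn (LP (LK LD1_c1 LD2_c29 LD3_c16))))))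
theorem f79042 : Led Lsl_gt (LP (LK LD1_c1 LD2_c29 LD3_c16)) = (LP (LK LD1_c0 LD2_c41 LD3_c44)) :=
  Lgr Lrot46 (Lpr_gf (K2.f79040 IH) (Lpe (K2.f77193 IH) (Lpr_at (K2.f77623 IH) (Lpn (LP (LK LD1_c0 LD2_c41 LD3_c44))))))
theorem f124232 : Led Lsl_gf (LP (LK LD1_c1 LD2_c48 LD3_c31)) = (LP (LK LD1_c1 LD2_c35 LD3_c8)) :=
  Lgr Lrot124 (Lpe (f120804 IH) (Lpr_ct (f13598 IH) (Lpr_gt (f124222 IH) (Lpe (f12572 IH) (Lpr_bt (f114968 IH) (Lpr_gt (f79042 IH) (Lpr_ct (K2.f77151 IH) (Lpr_gt (K2.f77775 IH) (Lpe (K3.f79027 IH) (Lpr_bt (K3.f77863 IH) (Lpn (LP (LK LD1_c1 LD2_c35 LD3_c8)))))))))))))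
theorem f121282 : Led Lsl_et (LP (LK LD1_c0 LD2_c51 LD3_c1)) = (LP (LK LD1_c1 LD2_c6 LD3_c0)) :=
  Lgr Lrot74 (Lpe (f26103 IH) (Lpr_ef (f121278 IH) (Lpe (K3.f104328 IH) (Lpn (LP (LK LD1_c1 LD2_c6 LD3_c0))))))
theorem f11290 : Led Lsl_ct (LP (LK LD1_c3 LD2_c15 LD3_c57)) = (LP (LK LD1_c1 LD2_c34 LD3_c44)) :=
  Lre_c IH (LK LD1_c3 LD2_c15 LD3_c57) (LK LD1_c1 LD2_c34 LD3_c44) Lrfl Lrfl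
theorem f118686 : Led Lsl_ff (LP (LK LD1_c0 LD2_c44 LD3_c14)) = (LP (LK LD1_c1 LD2_c34 LD3_c44)) :=
  Lgr Lrot23 (Lpr_ct (K1.f61877 IH) (Lpr_ft (f118673 IH) (Lpr_ct (f11290 IH) (Lpn (LP (LK LD1_c1 LD2_c34 LD3_c44))))))
theorem f77862 : Led Lsl_at (LP (LK LD1_c0 LD2_c44 LD3_c14)) = (LP (LK LD1_c1 LD2_c35 LD3_c8)) :=
  Lre_a IH (LK LD1_c0 LD2_c44 LD3_c14) (LK LD1_c1 LD2_c35 LD3_c8) Lrfl Lrfl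
theorem f118730 : Led Lsl_gf (LP (LK LD1_c2 LD2_c19 LD3_c37)) = (LP (LK LD1_c1 LD2_c34 LD3_c44)) :=
  Lgr Lrot47 (Lpe (K3.f94933 IH) (Lpe (f77862 IH) (Lpr_ff (f118686 IH) (Lpn (LP (LK LD1_c1 LD2_c34 LD3_c44))))))
theorem f104734 : Led Lsl_df (LP (LK LD1_c0 LD2_c30 LD3_c38)) = (LP (LK LD1_c1 LD2_c6 LD3_c3)) :=
  Lgr Lrot38 (Lpr_dt (f104731 IH) (Lpn (LP (LK LD1_c1 LD2_c6 LD3_c3))))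
theorem f11289 : Led Lsl_bt (LP (LK LD1_c1 LD2_c34 LD3_c44)) = (LP (LK LD1_c0 LD2_c44 LD3_c7)) :=
  Lre_b IH (LK LD1_c1 LD2_c34 LD3_c44) (LK LD1_c0 LD2_c44 LD3_c7) Lrfl Lrfl
theorem f110201 : Led Lsl_df (LP (LK LD1_c1 LD2_c34 LD3_c44)) = (LP (LK LD1_c1 LD2_c26 LD3_c41)) :=
  Lgr Lrot12 (Lpr_bt (f11289 IH) (Lpr_dt (K3.f110197 IH) (Lpr_bt (K3.f79614 IH) (Lpn (LP (LK LD1_c1 LD2_c26 LD3_c41))))))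
theorem f118732 : Led Lsl_gt (LP (LK LD1_c1 LD2_c6 LD3_c0)) = (LP (LK LD1_c1 LD2_c26 LD3_c41)) :=
  Lgr Lrot94 (Lpe (K3.f104332 IH) (Lpr_gt (K3.f20970 IH) (Lpr_dt (K3.f60992 IH) (Lpr_gt (K2.f26939 IH) (Lpe (f104734 IH) (Lpe (K3.f26095 IH) (Lpe (K3.f26092 IH) (Lpr_gf (f118730 IH) (Lpr_df (f110201 IH) (Lpn (LP (LK LD1_c1 LD2_c26 LD3_c41))))))))))))
theorem f26129 : Led Lsl_et (LP (LK LD1_c1 LD2_c6 LD3_c57)) = (LP (LK LD1_c2 LD2_c19 LD3_c38)) :=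
  Lre_e IH (LK LD1_c1 LD2_c6 LD3_c57) (LK LD1_c2 LD2_c19 LD3_c38) Lrfl Lrfl
theorem f124236 : Led Lsl_gt (LP (LK LD1_c2 LD2_c19 LD3_c38)) = (LP (LK LD1_c3 LD2_c1 LD3_c38)) :=
  Lgr Lrot131 (Lpe (f26129 IH) (Lpr_dt (K3.f26091 IH) (Lpr_gf (f118730 IH) (Lpr_df (f110201 IH) (Lpe (f118732 IH) (Lpe (f121282 IH) (Lpr_dt (f26109 IH) (Lpr_gf (f124232 IH) (Lpe (K3.f61951 IH) (Lpr_et (K2.f77849 IH) (Lpn (LP (LK LD1_c3 LD2_c1 LD3_c38)))))))))))))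
theorem f26127 : Led Lsl_ct (LP (LK LD1_c1 LD2_c6 LD3_c58)) = (LP (LK LD1_c2 LD2_c19 LD3_c38)) :=
  Lre_c IH (LK LD1_c1 LD2_c6 LD3_c58) (LK LD1_c2 LD2_c19 LD3_c38) Lrfl Lrfl
theorem f104736 : Led Lsl_et (LP (LK LD1_c0 LD2_c30 LD3_c38)) = (LP (LK LD1_c1 LD2_c6 LD3_c58)) :=
  Lre_e IH (LK LD1_c0 LD2_c30 LD3_c38) (LK LD1_c1 LD2_c6 LD3_c58) Lrfl Lrfl
theorem f124146 : Led Lsl_et (LP (LK LD1_c0 LD2_c50 LD3_c54)) = (LP (LK LD1_c0 LD2_c22 LD3_c59)) :=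
  Lre_e IH (LK LD1_c0 LD2_c50 LD3_c54) (LK LD1_c0 LD2_c22 LD3_c59) Lrfl Lrfl
theorem f124147 : Led Lsl_bt (LP (LK LD1_c1 LD2_c6 LD3_c58)) = (LP (LK LD1_c0 LD2_c50 LD3_c54)) :=
  Lgr Lrot119 (Lpe (f104736 IH) (Lpr_bf (f124125 IH) (Lpe (f124146 IH) (Lpn (LP (LK LD1_c0 LD2_c50 LD3_c54))))))
theorem f58747 : Led Lsl_ct (LP (LK LD1_c0 LD2_c41 LD3_c12)) = (LP (LK LD1_c0 LD2_c41 LD3_c12)) :=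
  Lgr Lrot15 (Lpe (K3.f58745 IH) (Lpr_cf (K1.f58743 IH) (Lpe (K3.f58746 IH) (Lpn (LP (LK LD1_c0 LD2_c41 LD3_c12))))))

end

end K4

end

end Cfsg.Agent.Helper28.S1692
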