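import Cfsg.Agent.Lib.Helper28.S1692.Seeds39

set_option autoImplicit false
set_option maxRecDepth 100000
set_option linter.all false

namespace Cfsg.Agent.Helper28.S1692

open Cfsg.Agent.Helper28
open Cfsg.Spor.ON (Gen)

noncomputable section

namespace K40
abbrev LD1_c0 := D1.c0
abbrev LD1_c1 := D1.c1
abbrev LD1_c2 := D1.c2
abbrev LD1_c3 := D1.c3
abbrev LD1_c4 := D1.c4
abbrev LD1_c5 := D1.c5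
abbrev LD1_c6 := D1.c6
abbrev LD1_c7 := D1.c7
abbrev LD1_c8 := D1.c8
abbrev LD1_c9 := D1.c9
abbrev LD1_c10 := D1.c10
abbrev LD1_c11 := D1.c11
abbrev LD1_c12 := D1.c12
abbrev LD1_c13 := D1.c13
abbrev LD1_c14 := D1.c14
abbrev LD1_c15 := D1.c15
abbrev LD1_c16 := D1.c16
abbrev LD1_c17 := D1.c17
abbrev LD1_c18 := D1.c18
abbrev LD1_c19 := D1.c19
abbrev LD1_c20 := D1.c20
abbrev LD1_c21 := D1.c21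
abbrev LD1_c22 := D1.c22
abbrev LD1_c23 := D1.c23
abbrev LD1_c24 := D1.c24
abbrev LD1_c25 := D1.c25
abbrev LD1_c26 := D1.c26
abbrev LD1_c27 := D1.c27
abbrev LD1_c28 := D1.c28
abbrev LD1_c29 := D1.c29
abbrev LD1_c30 := D1.c30
abbrev LD1_c31 := D1.c31
abbrev LD1_c32 := D1.c32
abbrev LD2_c0 := D2.c0
abbrev LD2_c1 := D2.c1
abbrev LD2_c2 := D2.c2
abbrev LD2_c3 := D2.c3
abbrev LD2_c4 := D2.c4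
abbrev LD2_c5 := D2.c5
abbrev LD2_c6 := D2.c6
abbrev LD2_c7 := D2.c7
abbrev LD2_c8 := D2.c8
abbrev LD2_c9 := D2.c9
abbrev LD2_c10 := D2.c10
abbrev LD2_c11 := D2.c11
abbrev LD2_c12 := D2.c12
abbrev LD2_c13 := D2.c13
abbrev LD2_c14 := D2.c14
abbrev LD2_c15 := D2.c15
abbrev LD2_c16 := D2.c16
abbrev LD2_c17 := D2.c17
abbrev LD2_c18 := D2.c18
abbrev LD2_c19 := D2.c19
abbrev LD2_c20 := D2.c20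
abbrev LD2_c21 := D2.c21
abbrev LD2_c22 := D2.c22
abbrev LD2_c23 := D2.c23
abbrev LD2_c24 := D2.c24
abbrev LD2_c25 := D2.c25
abbrev LD2_c26 := D2.c26
abbrev LD2_c27 := D2.c27
abbrev LD2_c28 := D2.c28
abbrev LD2_c29 := D2.c29
abbrev LD2_c30 := D2.c30
abbrev LD2_c31 := D2.c31
abbrev LD2_c32 := D2.c32
abbrev LD2_c33 := D2.c33
abbrev LD2_c34 := D2.c34
abbrev LD2_c35 := D2.c35
abbrev LD2_c36 := D2.c36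
abbrev LD2_c37 := D2.c37
abbrev LD2_c38 := D2.c38
abbrev LD2_c39 := D2.c39
abbrev LD2_c40 := D2.c40
abbrev LD2_c41 := D2.c41
abbrev LD2_c42 := D2.c42
abbrev LD2_c43 := D2.c43
abbrev LD2_c44 := D2.c44
abbrev LD2_c45 := D2.c45
abbrev LD2_c46 := D2.c46
abbrev LD2_c47 := D2.c47
abbrev LD2_c48 := D2.c48
abbrev LD2_c49 := D2.c49
abbrev LD2_c50 := D2.c50
abbrev LD2_c51 := D2.c51
abbrev LD2_c52 := D2.c52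
abbrev LD2_c53 := D2.c53
abbrev LD2_c54 := D2.c54
abbrev LD2_c55 := D2.c55
abbrev LD2_c56 := D2.c56
abbrev LD2_c57 := D2.c57
abbrev LD2_c58 := D2.c58
abbrev LD2_c59 := D2.c59
abbrev LD3_c0 := D3.c0
abbrev LD3_c1 := D3.c1
abbrev LD3_c2 := D3.c2
abbrev LD3_c3 := D3.c3
abbrev LD3_c4 := D3.c4
abbrev LD3_c5 := D3.c5
abbrev LD3_c6 := D3.c6
abbrev LD3_c7 := D3.c7
abbrev LD3_c8 := D3.c8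
abbrev LD3_c9 := D3.c9
abbrev LD3_c10 := D3.c10
abbrev LD3_c11 := D3.c11
abbrev LD3_c12 := D3.c12
abbrev LD3_c13 := D3.c13
abbrev LD3_c14 := D3.c14
abbrev LD3_c15 := D3.c15
abbrev LD3_c16 := D3.c16
abbrev LD3_c17 := D3.c17
abbrev LD3_c18 := D3.c18
abbrev LD3_c19 := D3.c19
abbrev LD3_c20 := D3.c20
abbrev LD3_c21 := D3.c21
abbrev LD3_c22 := D3.c22
abbrev LD3_c23 := D3.c23
abbrev LD3_c24 := D3.c24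
abbrev LD3_c25 := D3.c25
abbrev LD3_c26 := D3.c26
abbrev LD3_c27 := D3.c27
abbrev LD3_c28 := D3.c28
abbrev LD3_c29 := D3.c29
abbrev LD3_c30 := D3.c30
abbrev LD3_c31 := D3.c31
abbrev LD3_c32 := D3.c32
abbrev LD3_c33 := D3.c33
abbrev LD3_c34 := D3.c34
abbrev LD3_c35 := D3.c35
abbrev LD3_c36 := D3.c36
abbrev LD3_c37 := D3.c37
abbrev LD3_c38 := D3.c38
abbrev LD3_c39 := D3.c39
abbrev LD3_c40 := D3.c40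
abbrev LD3_c41 := D3.c41
abbrev LD3_c42 := D3.c42
abbrev LD3_c43 := D3.c43
abbrev LD3_c44 := D3.c44
abbrev LD3_c45 := D3.c45
abbrev LD3_c46 := D3.c46
abbrev LD3_c47 := D3.c47
abbrev LD3_c48 := D3.c48
abbrev LD3_c49 := D3.c49
abbrev LD3_c50 := D3.c50
abbrev LD3_c51 := D3.c51
abbrev LD3_c52 := D3.c52
abbrev LD3_c53 := D3.c53
abbrev LD3_c54 := D3.c54
abbrev LD3_c55 := D3.c55
abbrev LD3_c56 := D3.c56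
abbrev LD3_c57 := D3.c57
abbrev LD3_c58 := D3.c58
abbrev LD3_c59 := D3.c59
abbrev LD3_c60 := D3.c60
abbrev LD3_c61 := D3.c61
abbrev LG_g := Gen.g
abbrev Lsl_gt : Gen × Bool := sl_gt
alias Lfl_gt := fl_gt
alias Lpr_gt := pr_gt
abbrev Lsl_gf : Gen × Bool := sl_gf
alias Lfl_gf := fl_gf
alias Lpr_gf := pr_gf
alias Lre_g := re_g
alias Leoe_g := eoe_g
abbrev LG_a := Gen.a
abbrev Lsl_at : Gen × Bool := sl_at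
alias Lfl_at := fl_at
alias Lpr_at := pr_at
abbrev Lsl_af : Gen × Bool := sl_af
alias Lfl_af := fl_af
alias Lpr_af := pr_af
alias Lre_a := re_a
alias Leoe_a := eoe_a
abbrev LG_b := Gen.b
abbrev Lsl_bt : Gen × Bool := sl_bt
alias Lfl_bt := fl_bt
alias Lpr_bt := pr_bt
abbrev Lsl_bf : Gen × Bool := sl_bf
alias Lfl_bf := fl_bf
alias Lpr_bf := pr_bf
alias Lre_b := re_b
alias Leoe_b := eoe_b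
abbrev LG_c := Gen.c
abbrev Lsl_ct : Gen × Bool := sl_ct
alias Lfl_ct := fl_ct
alias Lpr_ct := pr_ct
abbrev Lsl_cf : Gen × Bool := sl_cf
alias Lfl_cf := fl_cf
alias Lpr_cf := pr_cf
alias Lre_c := re_c
alias Leoe_c := eoe_c
abbrev LG_d := Gen.d
abbrev Lsl_dt : Gen × Bool := sl_dt
alias Lfl_dt := fl_dt
alias Lpr_dt := pr_dt
abbrev Lsl_df : Gen × Bool := sl_df
alias Lfl_df := fl_df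
alias Lpr_df := pr_df
alias Lre_d := re_d
alias Leoe_d := eoe_d
abbrev LG_e := Gen.e
abbrev Lsl_et : Gen × Bool := sl_et
alias Lfl_et := fl_et
alias Lpr_et := pr_et
abbrev Lsl_ef : Gen × Bool := sl_ef
alias Lfl_ef := fl_ef
alias Lpr_ef := pr_ef
alias Lre_e := re_e
alias Leoe_e := eoe_e
abbrev LG_f := Gen.f
abbrev Lsl_ft : Gen × Bool := sl_ft
alias Lfl_ft := fl_ft
alias Lpr_ft := pr_ft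
abbrev Lsl_ff : Gen × Bool := sl_ff
alias Lfl_ff := fl_ff
alias Lpr_ff := pr_ff
alias Lre_f := re_f
alias Leoe_f := eoe_f
abbrev LK := Pt.mk
abbrev LQ : Type := Qt rels S
abbrev LP (p : Pt) : LQ := P p
abbrev Led (l : Gen × Bool) (c : LQ) : LQ := ed l c
abbrev LEOK (x : Gen) (p : Pt) : Prop := EntryOK rels S fwd inv o plet idx x p
alias Lpe := pe
alias Lpn := pn
alias Lgr := gr
alias Lpq := pq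
alias Lpqs := pqs
alias Llr := lr
alias Leop := eop
alias Lefun := efun
alias Lecon := econ
theorem Lrfl {α : Sort _} {a : α} : a = a := rfl
alias Lrot0 := rot0
alias Lrot1 := rot1
alias Lrot2 := rot2
alias Lrot3 := rot3
alias Lrot4 := rot4
alias Lrot5 := rot5
alias Lrot6 := rot6
alias Lrot7 := rot7
alias Lrot8 := rot8
alias Lrot9 := rot9
alias Lrot10 := rot10
alias Lrot11 := rot11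
alias Lrot12 := rot12
alias Lrot13 := rot13
alias Lrot14 := rot14
alias Lrot15 := rot15
alias Lrot16 := rot16
alias Lrot17 := rot17
alias Lrot18 := rot18
alias Lrot19 := rot19
alias Lrot20 := rot20
alias Lrot21 := rot21
alias Lrot22 := rot22
alias Lrot23 := rot23
alias Lrot24 := rot24
alias Lrot25 := rot25
alias Lrot26 := rot26
alias Lrot27 := rot27
alias Lrot28 := rot28
alias Lrot29 := rot29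
alias Lrot30 := rot30
alias Lrot31 := rot31
alias Lrot32 := rot32
alias Lrot33 := rot33
alias Lrot34 := rot34
alias Lrot35 := rot35
alias Lrot36 := rot36
alias Lrot38 := rot38
alias Lrot39 := rot39
alias Lrot40 := rot40
alias Lrot41 := rot41
alias Lrot42 := rot42
alias Lrot43 := rot43
alias Lrot44 := rot44
alias Lrot45 := rot45
alias Lrot46 := rot46
alias Lrot47 := rot47
alias Lrot48 := rot48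
alias Lrot49 := rot49
alias Lrot50 := rot50
alias Lrot51 := rot51
alias Lrot52 := rot52
alias Lrot53 := rot53
alias Lrot54 := rot54
alias Lrot55 := rot55
alias Lrot56 := rot56
alias Lrot57 := rot57
alias Lrot58 := rot58
alias Lrot59 := rot59
alias Lrot60 := rot60
alias Lrot61 := rot61
alias Lrot62 := rot62
alias Lrot63 := rot63
alias Lrot64 := rot64
alias Lrot65 := rot65
alias Lrot66 := rot66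
alias Lrot67 := rot67
alias Lrot68 := rot68
alias Lrot69 := rot69
alias Lrot70 := rot70
alias Lrot71 := rot71
alias Lrot72 := rot72
alias Lrot73 := rot73
alias Lrot74 := rot74
alias Lrot75 := rot75
alias Lrot76 := rot76
alias Lrot77 := rot77
alias Lrot78 := rot78
alias Lrot79 := rot79
alias Lrot80 := rot80
alias Lrot81 := rot81
alias Lrot82 := rot82
alias Lrot83 := rot83
alias Lrot84 := rot84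
alias Lrot85 := rot85
alias Lrot86 := rot86
alias Lrot87 := rot87
alias Lrot88 := rot88
alias Lrot89 := rot89
alias Lrot90 := rot90
alias Lrot91 := rot91
alias Lrot92 := rot92
alias Lrot93 := rot93
alias Lrot94 := rot94
alias Lrot95 := rot95
alias Lrot96 := rot96
alias Lrot97 := rot97
alias Lrot98 := rot98
alias Lrot99 := rot99
alias Lrot100 := rot100
alias Lrot101 := rot101
alias Lrot102 := rot102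
alias Lrot103 := rot103
alias Lrot104 := rot104
alias Lrot105 := rot105
alias Lrot106 := rot106
alias Lrot107 := rot107
alias Lrot108 := rot108
alias Lrot109 := rot109
alias Lrot110 := rot110
alias Lrot111 := rot111
alias Lrot112 := rot112
alias Lrot113 := rot113
alias Lrot114 := rot114
alias Lrot116 := rot116
alias Lrot117 := rot117
alias Lrot118 := rot118
alias Lrot119 := rot119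
alias Lrot120 := rot120
alias Lrot121 := rot121
alias Lrot122 := rot122
alias Lrot123 := rot123
alias Lrot124 := rot124
alias Lrot125 := rot125
alias Lrot126 := rot126
alias Lrot127 := rot127
alias Lrot128 := rot128
alias Lrot129 := rot129
alias Lrot130 := rot130
alias Lrot131 := rot131
alias Lrot132 := rot132
alias Lrot133 := rot133
alias Lrot134 := rot134
alias Lrot135 := rot135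
alias Lrot136 := rot136
alias Lrot137 := rot137
alias Lrot138 := rot138
alias Lrot139 := rot139
alias Lrot140 := rot140
alias Lrot141 := rot141
alias Lrot142 := rot142
alias Lrot143 := rot143
alias Lrot144 := rot144
alias Lrot145 := rot145
alias Lrot146 := rot146
alias Lrot147 := rot147
alias Lrot148 := rot148
alias Lrot149 := rot149
alias Lrot150 := rot150
alias Lrot151 := rot151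
alias Lrot152 := rot152
alias Lrot153 := rot153
alias Lrot154 := rot154
alias Lrot155 := rot155
alias Lrot156 := rot156
alias Lrot157 := rot157
alias Lrot158 := rot158
alias Lrot159 := rot159
alias Lrot160 := rot160
alias Lrot161 := rot161
alias Lrot162 := rot162
alias Lrot163 := rot163
alias Lrot164 := rot164
alias Lrot165 := rot165
alias Lrot166 := rot166
alias Lrot167 := rot167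
alias Lrot168 := rot168
alias Lrot169 := rot169
alias Lrot170 := rot170
alias Lrot171 := rot171
alias Lrot172 := rot172
alias Lrot173 := rot173
alias Lrot174 := rot174
alias Lrot175 := rot175
alias Lrot176 := rot176
alias Lrot179 := rot179
alias Lrot180 := rot180
alias Lrot181 := rot181
alias Lrot182 := rot182
alias Lrot183 := rot183
alias Lrot184 := rot184
alias Lrot185 := rot185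
alias Lrot187 := rot187
alias Lrot190 := rot190
alias Lrot191 := rot191

section
variable (IH : IHT)
include IH

theorem f495241 : Led Lsl_bt (LP (LK LD1_c4 LD2_c57 LD3_c6)) = K39.v1382 :=
  Lgr Lrot119 (Lpe (K39.f495240 IH) (Lpe (K31.f172460 IH) (Lpr_ef (K39.f495237 IH) (Lpn K39.v1382))))
theorem f557348 : K39.v1382 = (LP (LK LD1_c2 LD2_c26 LD3_c30)) :=
  (Llr Lrot95 (Lpe (f495241 IH) (Lpe (K39.f495245 IH) (Lpr_bf (K39.f557338 IH) (Lpe (K39.f172497 IH) (Lpn (LP (LK LD1_c2 LD2_c26 LD3_c30)))))))).symm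
theorem f26561 : Led Lsl_bt (LP (LK LD1_c0 LD2_c38 LD3_c6)) = (LP (LK LD1_c1 LD2_c22 LD3_c14)) :=
  Lre_b IH (LK LD1_c0 LD2_c38 LD3_c6) (LK LD1_c1 LD2_c22 LD3_c14) Lrfl Lrfl
theorem f424519 : Led Lsl_ft (LP (LK LD1_c1 LD2_c22 LD3_c14)) = (LP (LK LD1_c2 LD2_c14 LD3_c23)) :=
  Lgr Lrot75 (Lpe (f26561 IH) (Lpr_ff (K35.f424515 IH) (Lpe (K35.f206505 IH) (Lpn (LP (LK LD1_c2 LD2_c14 LD3_c23))))))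
theorem f555968 : Led Lsl_et (LP (LK LD1_c2 LD2_c14 LD3_c23)) = (LP (LK LD1_c4 LD2_c31 LD3_c48)) :=
  Lgr Lrot69 (Lpe (f424519 IH) (Lpr_ef (K36.f500292 IH) (Lpqs (K36.f537720 IH) (Lpe (K36.f449309 IH) (Lpr_ef (K39.f211787 IH) (Lpq (K39.f537442 IH) (Lpr_ff (K39.f555962 IH) (Lpn (LP (LK LD1_c4 LD2_c31 LD3_c48))))))))))
theorem f58874 : Led Lsl_dt (LP (LK LD1_c9 LD2_c29 LD3_c57)) = (LP (LK LD1_c4 LD2_c48 LD3_c43)) :=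
  Lre_d IH (LK LD1_c9 LD2_c29 LD3_c57) (LK LD1_c4 LD2_c48 LD3_c43) Lrfl Lrfl
theorem f203130 : Led Lsl_gf (LP (LK LD1_c4 LD2_c33 LD3_c59)) = (LP (LK LD1_c2 LD2_c56 LD3_c35)) :=
  Lgr Lrot104 (Lpr_ct (K28.f58864 IH) (Lpe (f58874 IH) (Lpr_cf (K28.f203105 IH) (Lpe (K28.f74320 IH) (Lpr_cf (K4.f74300 IH) (Lpe (K2.f14147 IH) (Lpe (K2.f74322 IH) (Lpr_gt (K2.f26424 IH) (Lpr_ct (K4.f69051 IH) (Lpn (LP (LK LD1_c2 LD2_c56 LD3_c35))))))))))))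
theorem f76087 : Led Lsl_dt (LP (LK LD1_c2 LD2_c58 LD3_c19)) = (LP (LK LD1_c2 LD2_c56 LD3_c35)) :=
  Lgr Lrot173 (Lpe (K4.f76086 IH) (Lpr_df (K4.f76077 IH) (Lpe (K6.f74382 IH) (Lpe (K8.f74381 IH) (Lpr_cf (K8.f75400 IH) (Lpe (K28.f72715 IH) (Lpe (K4.f56783 IH) (Lpe (K6.f75054 IH) (Lpe (K5.f72843 IH) (Lpe (K4.f75398 IH) (Lpe (K4.f56847 IH) (Lpe (K8.f74400 IH) (Lpe (K8.f75342 IH) (Lpe (K2.f72724 IH) (Lpe (K4.f26425 IH) (Lpn (LP (LK LD1_c2 LD2_c56 LD3_c35))))))))))))))))))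
theorem f29493 : Led Lsl_dt (LP (LK LD1_c1 LD2_c57 LD3_c11)) = (LP (LK LD1_c0 LD2_c55 LD3_c24)) :=
  Lre_d IH (LK LD1_c1 LD2_c57 LD3_c11) (LK LD1_c0 LD2_c55 LD3_c24) Lrfl Lrfl
theorem f496291 : Led Lsl_gt (LP (LK LD1_c2 LD2_c51 LD3_c11)) = (LP (LK LD1_c2 LD2_c58 LD3_c19)) :=
  Lgr Lrot190 (Lpr_bf (K31.f496282 IH) (Lpe (K8.f75133 IH) (Lpe (K8.f75132 IH) (Lpe (K4.f112393 IH) (Lpe (K8.f99458 IH) (Lpr_cf (K1.f35670 IH) (Lpe (K1.f35598 IH) (Lpe (K1.f35594 IH) (Lpe (K7.f29492 IH) (Lpe (K7.f29461 IH) (Lpe (f29493 IH) (Lpe (K32.f29499 IH) (Lpe (K32.f29505 IH) (Lpe (K32.f438188 IH) (Lpr_df (K32.f438196 IH) (Lpe (K8.f69036 IH) (Lpe (K6.f69023 IH) (Lpe (K4.f26425 IH) (Lpe (f76087 IH) (Lpn (LP (LK LD1_c2 LD2_c58 LD3_c19))))))))))))))))))))))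
theorem f557359 : Led Lsl_et (LP (LK LD1_c4 LD2_c31 LD3_c5)) = (LP (LK LD1_c2 LD2_c51 LD3_c11)) :=
  Lgr Lrot121 (Lpe (K36.f381366 IH) (Lpe (K27.f76115 IH) (Lpe (K27.f76114 IH) (Lpr_et (K39.f495235 IH) (Lpqs (f557348 IH) (Lpe (K31.f495870 IH) (Lpe (f555968 IH) (Lpe (K35.f424537 IH) (Lpr_gf (f203130 IH) (Lpe (f76087 IH) (Lpe (f496291 IH) (Lpn (LP (LK LD1_c2 LD2_c51 LD3_c11))))))))))))))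
theorem f381402 : Led Lsl_et (LP (LK LD1_c1 LD2_c10 LD3_c34)) = (LP (LK LD1_c2 LD2_c26 LD3_c36)) :=
  Lre_e IH (LK LD1_c1 LD2_c10 LD3_c34) (LK LD1_c2 LD2_c26 LD3_c36) Lrfl Lrfl
theorem f171809 : Led Lsl_dt (LP (LK LD1_c2 LD2_c50 LD3_c35)) = (LP (LK LD1_c5 LD2_c49 LD3_c2)) :=
  Lre_d IH (LK LD1_c2 LD2_c50 LD3_c35) (LK LD1_c5 LD2_c49 LD3_c2) Lrfl Lrfl
theorem f421046 : Led Lsl_dt (LP (LK LD1_c6 LD2_c17 LD3_c7)) = (LP (LK LD1_c3 LD2_c5 LD3_c42)) :=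
  Lre_d IH (LK LD1_c6 LD2_c17 LD3_c7) (LK LD1_c3 LD2_c5 LD3_c42) Lrfl Lrfl
theorem f548791 : Led Lsl_ft (LP (LK LD1_c5 LD2_c46 LD3_c61)) = (LP (LK LD1_c6 LD2_c17 LD3_c7)) :=
  Lgr Lrot54 (Lpe (K38.f72870 IH) (Lpr_ff (K38.f548789 IH) (Lpe (f421046 IH) (Lpn (LP (LK LD1_c6 LD2_c17 LD3_c7))))))
theorem f421047 : Led Lsl_dt (LP (LK LD1_c3 LD2_c5 LD3_c42)) = (LP (LK LD1_c6 LD2_c17 LD3_c7)) :=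
  Lre_d IH (LK LD1_c3 LD2_c5 LD3_c42) (LK LD1_c6 LD2_c17 LD3_c7) Lrfl Lrfl
theorem f548785 : Led Lsl_af (LP (LK LD1_c5 LD2_c49 LD3_c2)) = (LP (LK LD1_c6 LD2_c17 LD3_c7)) :=
  Lgr Lrot117 (Lpr_dt (K38.f450108 IH) (Lpr_at (K38.f548777 IH) (Lpr_dt (f421047 IH) (Lpn (LP (LK LD1_c6 LD2_c17 LD3_c7))))))
theorem f548821 : Led Lsl_gf (LP (LK LD1_c5 LD2_c49 LD3_c2)) = (LP (LK LD1_c2 LD2_c50 LD3_c46)) :=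
  Lgr Lrot76 (Lpr_af (f548785 IH) (Lpe (f548791 IH) (Lpr_gt (K38.f548819 IH) (Lpn (LP (LK LD1_c2 LD2_c50 LD3_c46))))))
theorem f176644 : Led Lsl_dt (LP (LK LD1_c3 LD2_c10 LD3_c26)) = (LP (LK LD1_c2 LD2_c50 LD3_c46)) :=
  Lgr Lrot79 (Lpe (K18.f176642 IH) (Lpr_df (K11.f176638 IH) (Lpe (K38.f176643 IH) (Lpn (LP (LK LD1_c2 LD2_c50 LD3_c46))))))
theorem f557365 : Led Lsl_gt (LP (LK LD1_c2 LD2_c26 LD3_c36)) = (LP (LK LD1_c3 LD2_c10 LD3_c26)) :=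
  Lgr Lrot137 (Lpe (f381402 IH) (Lpr_dt (K36.f40177 IH) (Lpe (K27.f381374 IH) (Lpr_df (K36.f381366 IH) (Lpr_et (f557359 IH) (Lpr_gf (K32.f496293 IH) (Lpr_ef (K38.f548716 IH) (Lpr_dt (f171809 IH) (Lpr_gf (f548821 IH) (Lpe (f176644 IH) (Lpn (LP (LK LD1_c3 LD2_c10 LD3_c26)))))))))))))
theorem f541672 : Led Lsl_ct (LP (LK LD1_c4 LD2_c57 LD3_c21)) = (LP (LK LD1_c2 LD2_c26 LD3_c36)) :=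
  Lre_c IH (LK LD1_c4 LD2_c57 LD3_c21) (LK LD1_c2 LD2_c26 LD3_c36) Lrfl Lrfl
theorem f557370 : Led Lsl_cf (LP (LK LD1_c2 LD2_c58 LD3_c17)) = (LP (LK LD1_c2 LD2_c50 LD3_c35)) :=
  Lgr Lrot14 (Lpe (K38.f75484 IH) (Lpe (K32.f428070 IH) (Lpr_df (K32.f68556 IH) (Lpr_gf (K35.f541669 IH) (Lpr_ct (f541672 IH) (Lpr_gt (f557365 IH) (Lpr_dt (f176644 IH) (Lpe (f548821 IH) (Lpr_dt (K38.f450108 IH) (Lpn (LP (LK LD1_c2 LD2_c50 LD3_c35))))))))))))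
theorem f186333 : Led Lsl_bt (LP (LK LD1_c1 LD2_c21 LD3_c32)) = (LP (LK LD1_c0 LD2_c37 LD3_c38)) :=
  Lre_b IH (LK LD1_c1 LD2_c21 LD3_c32) (LK LD1_c0 LD2_c37 LD3_c38) Lrfl Lrfl
theorem f36581 : Led Lsl_bt (LP (LK LD1_c2 LD2_c17 LD3_c50)) = (LP (LK LD1_c1 LD2_c5 LD3_c52)) :=
  Lre_b IH (LK LD1_c2 LD2_c17 LD3_c50) (LK LD1_c1 LD2_c5 LD3_c52) Lrfl Lrfl
theorem f25972 : Led Lsl_bt (LP (LK LD1_c1 LD2_c5 LD3_c52)) = (LP (LK LD1_c2 LD2_c17 LD3_c50)) :=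
  Lre_b IH (LK LD1_c1 LD2_c5 LD3_c52) (LK LD1_c2 LD2_c17 LD3_c50) Lrfl Lrfl
theorem f36480 : Led Lsl_bt (LP (LK LD1_c4 LD2_c24 LD3_c3)) = (LP (LK LD1_c2 LD2_c9 LD3_c31)) :=
  Lre_b IH (LK LD1_c4 LD2_c24 LD3_c3) (LK LD1_c2 LD2_c9 LD3_c31) Lrfl Lrfl
theorem f36481 : Led Lsl_ct (LP (LK LD1_c2 LD2_c17 LD3_c50)) = (LP (LK LD1_c4 LD2_c24 LD3_c3)) :=
  Lgr Lrot83 (Lpe (f25972 IH) (Lpe (K11.f25963 IH) (Lpr_bf (K1.f36475 IH) (Lpe (K14.f36469 IH) (Lpe (f36480 IH) (Lpn (LP (LK LD1_c4 LD2_c24 LD3_c3))))))))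
theorem f136310 : Led Lsl_gt (LP (LK LD1_c0 LD2_c37 LD3_c29)) = (LP (LK LD1_c1 LD2_c21 LD3_c12)) :=
  Lre_g IH (LK LD1_c0 LD2_c37 LD3_c29) (LK LD1_c1 LD2_c21 LD3_c12) Lrfl Lrfl
theorem f210298 : Led Lsl_bt (LP (LK LD1_c2 LD2_c50 LD3_c22)) = (LP (LK LD1_c1 LD2_c21 LD3_c12)) :=
  Lre_b IH (LK LD1_c2 LD2_c50 LD3_c22) (LK LD1_c1 LD2_c21 LD3_c12) Lrfl Lrfl
theorem f210299 : Led Lsl_ct (LP (LK LD1_c2 LD2_c50 LD3_c22)) = (LP (LK LD1_c5 LD2_c48 LD3_c39)) :=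
  Lre_c IH (LK LD1_c2 LD2_c50 LD3_c22) (LK LD1_c5 LD2_c48 LD3_c39) Lrfl Lrfl
theorem f210300 : Led Lsl_gt (LP (LK LD1_c5 LD2_c48 LD3_c39)) = (LP (LK LD1_c4 LD2_c24 LD3_c3)) :=
  Lgr Lrot65 (Lpe (f210299 IH) (Lpr_bt (f210298 IH) (Lpe (f136310 IH) (Lpe (K31.f146381 IH) (Lpr_ct (K11.f61313 IH) (Lpe (K9.f146326 IH) (Lpe (K11.f146337 IH) (Lpr_gf (K11.f210291 IH) (Lpe (f36581 IH) (Lpr_ct (f36481 IH) (Lpn (LP (LK LD1_c4 LD2_c24 LD3_c3)))))))))))))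
theorem f499334 : Led Lsl_dt (LP (LK LD1_c11 LD2_c25 LD3_c12)) = (LP (LK LD1_c5 LD2_c47 LD3_c43)) :=
  Lre_d IH (LK LD1_c11 LD2_c25 LD3_c12) (LK LD1_c5 LD2_c47 LD3_c43) Lrfl Lrfl
theorem f548747 : Led Lsl_ft (LP (LK LD1_c5 LD2_c47 LD3_c43)) = (LP (LK LD1_c6 LD2_c4 LD3_c14)) :=
  Lgr Lrot54 (Lpe (f499334 IH) (Lpr_ff (K38.f548743 IH) (Lpe (K8.f75494 IH) (Lpn (LP (LK LD1_c6 LD2_c4 LD3_c14))))))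
theorem f548775 : Led Lsl_bt (LP (LK LD1_c2 LD2_c50 LD3_c35)) = (LP (LK LD1_c5 LD2_c47 LD3_c43)) :=
  Lgr Lrot35 (Lpe (K38.f548712 IH) (Lpe (K38.f425836 IH) (Lpe (f548747 IH) (Lpn (LP (LK LD1_c5 LD2_c47 LD3_c43))))))
theorem f557381 : Led Lsl_gf (LP (LK LD1_c2 LD2_c50 LD3_c22)) = (LP (LK LD1_c5 LD2_c47 LD3_c43)) :=
  Lgr Lrot181 (Lpr_ct (f210299 IH) (Lpr_gt (f210300 IH) (Lpe (f36481 IH) (Lpr_bt (f36581 IH) (Lpe (K11.f210291 IH) (Lpe (f186333 IH) (Lpr_ct (K37.f198477 IH) (Lpr_gt (K38.f503210 IH) (Lpqs (K38.f548772 IH) (Lpr_cf (f557370 IH) (Lpr_bt (f548775 IH) (Lpn (LP (LK LD1_c5 LD2_c47 LD3_c43))))))))))))))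
theorem f26877 : Led Lsl_et (LP (LK LD1_c0 LD2_c30 LD3_c4)) = (LP (LK LD1_c1 LD2_c5 LD3_c50)) :=
  Lre_e IH (LK LD1_c0 LD2_c30 LD3_c4) (LK LD1_c1 LD2_c5 LD3_c50) Lrfl Lrfl
theorem f36564 : Led Lsl_et (LP (LK LD1_c2 LD2_c9 LD3_c26)) = (LP (LK LD1_c1 LD2_c1 LD3_c50)) :=
  Lre_e IH (LK LD1_c2 LD2_c9 LD3_c26) (LK LD1_c1 LD2_c1 LD3_c50) Lrfl Lrfl
theorem f36565 : Led Lsl_ct (LP (LK LD1_c1 LD2_c5 LD3_c50)) = (LP (LK LD1_c2 LD2_c9 LD3_c26)) :=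
  Lgr Lrot15 (Lpe (f26877 IH) (Lpr_cf (K8.f36520 IH) (Lpe (f36564 IH) (Lpn (LP (LK LD1_c2 LD2_c9 LD3_c26))))))
theorem f36574 : Led Lsl_ft (LP (LK LD1_c2 LD2_c17 LD3_c50)) = (LP (LK LD1_c1 LD2_c5 LD3_c50)) :=
  Lre_f IH (LK LD1_c2 LD2_c17 LD3_c50) (LK LD1_c1 LD2_c5 LD3_c50) Lrfl Lrfl
theorem f36576 : Led Lsl_cf (LP (LK LD1_c2 LD2_c17 LD3_c50)) = (LP (LK LD1_c4 LD2_c24 LD3_c3)) :=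
  Lgr Lrot108 (Lpr_ft (f36574 IH) (Lpr_ct (f36565 IH) (Lpr_ft (K36.f36575 IH) (Lpn (LP (LK LD1_c4 LD2_c24 LD3_c3))))))
theorem f36582 : Led Lsl_dt (LP (LK LD1_c2 LD2_c17 LD3_c50)) = (LP (LK LD1_c4 LD2_c41 LD3_c31)) :=
  Lre_d IH (LK LD1_c2 LD2_c17 LD3_c50) (LK LD1_c4 LD2_c41 LD3_c31) Lrfl Lrfl
theorem f36585 : Led Lsl_ct (LP (LK LD1_c9 LD2_c17 LD3_c58)) = (LP (LK LD1_c4 LD2_c41 LD3_c31)) :=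
  Lre_c IH (LK LD1_c9 LD2_c17 LD3_c58) (LK LD1_c4 LD2_c41 LD3_c31) Lrfl Lrfl
theorem f210532 : Led Lsl_bt (LP (LK LD1_c0 LD2_c37 LD3_c33)) = (LP (LK LD1_c1 LD2_c21 LD3_c13)) :=
  Lre_b IH (LK LD1_c0 LD2_c37 LD3_c33) (LK LD1_c1 LD2_c21 LD3_c13) Lrfl Lrfl
theorem f210533 : Led Lsl_gt (LP (LK LD1_c1 LD2_c21 LD3_c13)) = (LP (LK LD1_c2 LD2_c50 LD3_c25)) :=
  Lre_g IH (LK LD1_c1 LD2_c21 LD3_c13) (LK LD1_c2 LD2_c50 LD3_c25) Lrfl Lrfl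
theorem f210534 : Led Lsl_bt (LP (LK LD1_c5 LD2_c48 LD3_c45)) = (LP (LK LD1_c2 LD2_c50 LD3_c25)) :=
  Lre_b IH (LK LD1_c5 LD2_c48 LD3_c45) (LK LD1_c2 LD2_c50 LD3_c25) Lrfl Lrfl
theorem f210535 : Led Lsl_ct (LP (LK LD1_c5 LD2_c48 LD3_c45)) = (LP (LK LD1_c11 LD2_c26 LD3_c55)) :=
  Lre_c IH (LK LD1_c5 LD2_c48 LD3_c45) (LK LD1_c11 LD2_c26 LD3_c55) Lrfl Lrfl
theorem f204778 : Led Lsl_bt (LP (LK LD1_c4 LD2_c41 LD3_c31)) = (LP (LK LD1_c2 LD2_c17 LD3_c54)) :=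
  Lre_b IH (LK LD1_c4 LD2_c41 LD3_c31) (LK LD1_c2 LD2_c17 LD3_c54) Lrfl Lrfl
theorem f210536 : Led Lsl_gt (LP (LK LD1_c11 LD2_c26 LD3_c55)) = (LP (LK LD1_c9 LD2_c17 LD3_c58)) :=
  Lgr Lrot65 (Lpe (f210535 IH) (Lpr_bt (f210534 IH) (Lpe (f210533 IH) (Lpe (f210532 IH) (Lpr_ct (K18.f61314 IH) (Lpe (K38.f210293 IH) (Lpr_cf (K38.f210294 IH) (Lpe (K11.f210156 IH) (Lpe (f204778 IH) (Lpr_ct (K35.f36583 IH) (Lpn (LP (LK LD1_c9 LD2_c17 LD3_c58)))))))))))))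
theorem f557388 : Led Lsl_gf (LP (LK LD1_c5 LD2_c48 LD3_c45)) = (LP (LK LD1_c11 LD2_c25 LD3_c12)) :=
  Lgr Lrot147 (Lpr_ct (f210535 IH) (Lpr_gt (f210536 IH) (Lpr_ct (f36585 IH) (Lpe (f36582 IH) (Lpr_cf (f36576 IH) (Lpe (f210300 IH) (Lpe (f210299 IH) (Lpr_gf (f557381 IH) (Lpe (f499334 IH) (Lpn (LP (LK LD1_c11 LD2_c25 LD3_c12))))))))))))
theorem f185808 : Led Lsl_bt (LP (LK LD1_c3 LD2_c5 LD3_c29)) = (LP (LK LD1_c1 LD2_c28 LD3_c45)) :=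
  Lre_b IH (LK LD1_c3 LD2_c5 LD3_c29) (LK LD1_c1 LD2_c28 LD3_c45) Lrfl Lrfl
theorem f185810 : Led Lsl_ct (LP (LK LD1_c3 LD2_c5 LD3_c29)) = (LP (LK LD1_c6 LD2_c16 LD3_c48)) :=
  Lre_c IH (LK LD1_c3 LD2_c5 LD3_c29) (LK LD1_c6 LD2_c16 LD3_c48) Lrfl Lrfl
theorem f211003 : Led Lsl_ct (LP (LK LD1_c5 LD2_c49 LD3_c2)) = (LP (LK LD1_c11 LD2_c27 LD3_c25)) :=
  Lre_c IH (LK LD1_c5 LD2_c49 LD3_c2) (LK LD1_c11 LD2_c27 LD3_c25) Lrfl Lrfl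
theorem f557393 : Led Lsl_gt (LP (LK LD1_c6 LD2_c16 LD3_c48)) = (LP (LK LD1_c11 LD2_c27 LD3_c25)) :=
  Lgr Lrot65 (Lpe (f185810 IH) (Lpr_bt (f185808 IH) (Lpe (K11.f210156 IH) (Lpe (f204778 IH) (Lpr_ct (K35.f36583 IH) (Lpe (f210536 IH) (Lpe (f210535 IH) (Lpr_gf (f557388 IH) (Lpr_bf (K38.f548732 IH) (Lpr_ct (f211003 IH) (Lpn (LP (LK LD1_c11 LD2_c27 LD3_c25)))))))))))))
theorem f548736 : Led Lsl_ct (LP (LK LD1_c11 LD2_c27 LD3_c25)) = (LP (LK LD1_c5 LD2_c49 LD3_c2)) :=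
  Lre_c IH (LK LD1_c11 LD2_c27 LD3_c25) (LK LD1_c5 LD2_c49 LD3_c2) Lrfl Lrfl
theorem f421032 : Led Lsl_gt (LP (LK LD1_c2 LD2_c50 LD3_c61)) = (LP (LK LD1_c1 LD2_c21 LD3_c32)) :=
  Lre_g IH (LK LD1_c2 LD2_c50 LD3_c61) (LK LD1_c1 LD2_c21 LD3_c32) Lrfl Lrfl
theorem f421034 : Led Lsl_dt (LP (LK LD1_c5 LD2_c49 LD3_c47)) = (LP (LK LD1_c2 LD2_c50 LD3_c61)) :=
  Lre_d IH (LK LD1_c5 LD2_c49 LD3_c47) (LK LD1_c2 LD2_c50 LD3_c61) Lrfl Lrfl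
theorem f557404 : Led Lsl_gf (LP (LK LD1_c3 LD2_c5 LD3_c29)) = (LP (LK LD1_c5 LD2_c49 LD3_c47)) :=
  Lgr Lrot147 (Lpr_ct (f185810 IH) (Lpr_gt (f557393 IH) (Lpr_ct (f548736 IH) (Lpe (f171809 IH) (Lpe (K38.f548720 IH) (Lpq (K38.f548772 IH) (Lpe (K38.f503210 IH) (Lpe (K37.f198477 IH) (Lpe (f421032 IH) (Lpe (f421034 IH) (Lpn (LP (LK LD1_c5 LD2_c49 LD3_c47)))))))))))))
theorem f502783 : Led Lsl_ef (LP (LK LD1_c1 LD2_c26 LD3_c2)) = K39.v1769 :=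
  Lgr Lrot88 (Lpr_et (K39.f502780 IH) (Lpn K39.v1769))
theorem f421033 : Led Lsl_dt (LP (LK LD1_c2 LD2_c50 LD3_c61)) = (LP (LK LD1_c5 LD2_c49 LD3_c47)) :=
  Lre_d IH (LK LD1_c2 LD2_c50 LD3_c61) (LK LD1_c5 LD2_c49 LD3_c47) Lrfl Lrfl
theorem f557423 : K39.v1769 = (LP (LK LD1_c2 LD2_c50 LD3_c61)) :=
  (Llr Lrot17 (Lpe (f502783 IH) (Lpe (K32.f425859 IH) (Lpqs (K36.f537862 IH) (Lpe (K36.f500171 IH) (Lpr_dt (K28.f205141 IH) (Lpr_gf (K28.f426244 IH) (Lpe (K27.f386717 IH) (Lpe (K36.f427778 IH) (Lpe (K36.f185812 IH) (Lpe (K36.f185803 IH) (Lpr_gf (f557404 IH) (Lpe (f421033 IH) (Lpn (LP (LK LD1_c2 LD2_c50 LD3_c61)))))))))))))))).symm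
theorem f557431 : Led Lsl_bt (LP (LK LD1_c2 LD2_c50 LD3_c61)) = (LP (LK LD1_c5 LD2_c49 LD3_c46)) :=
  Lre_b IH (LK LD1_c2 LD2_c50 LD3_c61) (LK LD1_c5 LD2_c49 LD3_c46) Lrfl Lrfl
theorem f501443 : Led Lsl_dt (LP (LK LD1_c6 LD2_c0 LD3_c0)) = (LP (LK LD1_c2 LD2_c56 LD3_c19)) :=
  Lre_d IH (LK LD1_c6 LD2_c0 LD3_c0) (LK LD1_c2 LD2_c56 LD3_c19) Lrfl Lrfl
theorem f501924 : Led Lsl_dt (LP (LK LD1_c4 LD2_c48 LD3_c58)) = (LP (LK LD1_c9 LD2_c30 LD3_c24)) :=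
  Lre_d IH (LK LD1_c4 LD2_c48 LD3_c58) (LK LD1_c9 LD2_c30 LD3_c24) Lrfl Lrfl
theorem f501925 : Led Lsl_af (LP (LK LD1_c6 LD2_c0 LD3_c0)) = (LP (LK LD1_c9 LD2_c30 LD3_c24)) :=
  Lgr Lrot117 (Lpr_dt (f501443 IH) (Lpr_at (K37.f501917 IH) (Lpr_dt (f501924 IH) (Lpn (LP (LK LD1_c9 LD2_c30 LD3_c24))))))
theorem f75818 : Led Lsl_ft (LP (LK LD1_c6 LD2_c0 LD3_c0)) = (LP (LK LD1_c2 LD2_c56 LD3_c18)) :=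
  Lre_f IH (LK LD1_c6 LD2_c0 LD3_c0) (LK LD1_c2 LD2_c56 LD3_c18) Lrfl Lrfl
theorem f502602 : Led Lsl_ft (LP (LK LD1_c4 LD2_c48 LD3_c57)) = (LP (LK LD1_c9 LD2_c30 LD3_c24)) :=
  Lre_f IH (LK LD1_c4 LD2_c48 LD3_c57) (LK LD1_c9 LD2_c30 LD3_c24) Lrfl Lrfl
theorem f502603 : Led Lsl_at (LP (LK LD1_c2 LD2_c56 LD3_c18)) = (LP (LK LD1_c4 LD2_c48 LD3_c57)) :=
  Lgr Lrot66 (Lpe (f75818 IH) (Lpr_af (f501925 IH) (Lpe (f502602 IH) (Lpn (LP (LK LD1_c4 LD2_c48 LD3_c57))))))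
theorem f75827 : Led Lsl_at (LP (LK LD1_c6 LD2_c8 LD3_c32)) = (LP (LK LD1_c3 LD2_c0 LD3_c34)) :=
  Lre_a IH (LK LD1_c6 LD2_c8 LD3_c32) (LK LD1_c3 LD2_c0 LD3_c34) Lrfl Lrfl
theorem f502607 : Led Lsl_ef (LP (LK LD1_c6 LD2_c8 LD3_c32)) = (LP (LK LD1_c4 LD2_c48 LD3_c57)) :=
  Lgr Lrot20 (Lpr_at (f75827 IH) (Lpe (K32.f75816 IH) (Lpr_at (f502603 IH) (Lpn (LP (LK LD1_c4 LD2_c48 LD3_c57))))))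
theorem f502618 : Led Lsl_et (LP (LK LD1_c6 LD2_c8 LD3_c32)) = (LP (LK LD1_c4 LD2_c48 LD3_c57)) :=
  Lgr Lrot87 (Lpr_ef (f502607 IH) (Lpn (LP (LK LD1_c4 LD2_c48 LD3_c57))))
theorem f136300 : Led Lsl_bt (LP (LK LD1_c4 LD2_c48 LD3_c57)) = (LP (LK LD1_c9 LD2_c30 LD3_c14)) :=
  Lre_b IH (LK LD1_c4 LD2_c48 LD3_c57) (LK LD1_c9 LD2_c30 LD3_c14) Lrfl Lrfl
theorem f136278 : Led Lsl_et (LP (LK LD1_c4 LD2_c48 LD3_c52)) = (LP (LK LD1_c2 LD2_c22 LD3_c18)) :=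
  Lre_e IH (LK LD1_c4 LD2_c48 LD3_c52) (LK LD1_c2 LD2_c22 LD3_c18) Lrfl Lrfl
theorem f136284 : Led Lsl_dt (LP (LK LD1_c9 LD2_c30 LD3_c14)) = (LP (LK LD1_c4 LD2_c48 LD3_c52)) :=
  Lre_d IH (LK LD1_c9 LD2_c30 LD3_c14) (LK LD1_c4 LD2_c48 LD3_c52) Lrfl Lrfl
theorem f136283 : Led Lsl_et (LP (LK LD1_c2 LD2_c49 LD3_c53)) = (LP (LK LD1_c5 LD2_c47 LD3_c47)) :=
  Lre_e IH (LK LD1_c2 LD2_c49 LD3_c53) (LK LD1_c5 LD2_c47 LD3_c47) Lrfl Lrfl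
theorem f132402 : Led Lsl_dt (LP (LK LD1_c5 LD2_c47 LD3_c47)) = (LP (LK LD1_c11 LD2_c25 LD3_c18)) :=
  Lre_d IH (LK LD1_c5 LD2_c47 LD3_c47) (LK LD1_c11 LD2_c25 LD3_c18) Lrfl Lrfl
theorem f136285 : Led Lsl_ef (LP (LK LD1_c9 LD2_c30 LD3_c14)) = (LP (LK LD1_c11 LD2_c25 LD3_c18)) :=
  Lgr Lrot73 (Lpr_dt (f136284 IH) (Lpr_et (f136278 IH) (Lpr_dt (K32.f136275 IH) (Lpr_et (f136283 IH) (Lpr_dt (f132402 IH) (Lpn (LP (LK LD1_c11 LD2_c25 LD3_c18))))))))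
theorem f136293 : Led Lsl_et (LP (LK LD1_c9 LD2_c30 LD3_c14)) = (LP (LK LD1_c11 LD2_c25 LD3_c18)) :=
  Lgr Lrot87 (Lpr_ef (f136285 IH) (Lpn (LP (LK LD1_c11 LD2_c25 LD3_c18))))
theorem f502622 : Led Lsl_bf (LP (LK LD1_c6 LD2_c8 LD3_c32)) = (LP (LK LD1_c11 LD2_c25 LD3_c18)) :=
  Lgr Lrot96 (Lpr_et (f502618 IH) (Lpr_bt (f136300 IH) (Lpr_et (f136293 IH) (Lpn (LP (LK LD1_c11 LD2_c25 LD3_c18))))))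
theorem f452873 : Led Lsl_dt (LP (LK LD1_c6 LD2_c8 LD3_c32)) = (LP (LK LD1_c3 LD2_c0 LD3_c30)) :=
  Lre_d IH (LK LD1_c6 LD2_c8 LD3_c32) (LK LD1_c3 LD2_c0 LD3_c30) Lrfl Lrfl
theorem f502624 : Led Lsl_bt (LP (LK LD1_c3 LD2_c0 LD3_c30)) = (LP (LK LD1_c5 LD2_c47 LD3_c47)) :=
  Lgr Lrot95 (Lpe (f452873 IH) (Lpr_bf (f502622 IH) (Lpe (f132402 IH) (Lpn (LP (LK LD1_c5 LD2_c47 LD3_c47))))))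
theorem f502627 : Led Lsl_bf (LP (LK LD1_c3 LD2_c0 LD3_c30)) = (LP (LK LD1_c5 LD2_c47 LD3_c47)) :=
  Lgr Lrot24 (Lpr_bt (f502624 IH) (Lpn (LP (LK LD1_c5 LD2_c47 LD3_c47))))
theorem f558700 : Led Lsl_ft (LP (LK LD1_c5 LD2_c49 LD3_c46)) = (LP (LK LD1_c5 LD2_c47 LD3_c47)) :=
  Lgr Lrot75 (Lpe (f557431 IH) (Lpq (f557423 IH) (Lpr_ff (K39.f558698 IH) (Lpr_bf (f502627 IH) (Lpn (LP (LK LD1_c5 LD2_c47 LD3_c47)))))))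
theorem f558706 : Led Lsl_ff (LP (LK LD1_c5 LD2_c49 LD3_c46)) = (LP (LK LD1_c5 LD2_c47 LD3_c47)) :=
  Lgr Lrot3 (Lpr_ft (f558700 IH) (Lpn (LP (LK LD1_c5 LD2_c47 LD3_c47))))
theorem f557413 : Led Lsl_dt (LP (LK LD1_c5 LD2_c49 LD3_c46)) = (LP (LK LD1_c11 LD2_c28 LD3_c12)) :=
  Lre_d IH (LK LD1_c5 LD2_c49 LD3_c46) (LK LD1_c11 LD2_c28 LD3_c12) Lrfl Lrfl
theorem f136297 : Led Lsl_dt (LP (LK LD1_c11 LD2_c25 LD3_c18)) = (LP (LK LD1_c5 LD2_c47 LD3_c47)) :=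
  Lre_d IH (LK LD1_c11 LD2_c25 LD3_c18) (LK LD1_c5 LD2_c47 LD3_c47) Lrfl Lrfl
theorem f558708 : Led Lsl_ft (LP (LK LD1_c11 LD2_c28 LD3_c12)) = (LP (LK LD1_c11 LD2_c25 LD3_c18)) :=
  Lgr Lrot54 (Lpe (f557413 IH) (Lpr_ff (f558706 IH) (Lpe (f136297 IH) (Lpn (LP (LK LD1_c11 LD2_c25 LD3_c18))))))
theorem f557406 : Led Lsl_bt (LP (LK LD1_c11 LD2_c28 LD3_c12)) = (LP (LK LD1_c5 LD2_c49 LD3_c47)) :=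
  Lre_b IH (LK LD1_c11 LD2_c28 LD3_c12) (LK LD1_c5 LD2_c49 LD3_c47) Lrfl Lrfl
theorem f557396 : Led Lsl_bt (LP (LK LD1_c2 LD2_c50 LD3_c25)) = (LP (LK LD1_c5 LD2_c48 LD3_c45)) :=
  Lre_b IH (LK LD1_c2 LD2_c50 LD3_c25) (LK LD1_c5 LD2_c48 LD3_c45) Lrfl Lrfl
theorem f210538 : Led Lsl_ct (LP (LK LD1_c2 LD2_c50 LD3_c25)) = (LP (LK LD1_c5 LD2_c48 LD3_c46)) :=
  Lre_c IH (LK LD1_c2 LD2_c50 LD3_c25) (LK LD1_c5 LD2_c48 LD3_c46) Lrfl Lrfl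
theorem f210539 : Led Lsl_gt (LP (LK LD1_c5 LD2_c48 LD3_c46)) = (LP (LK LD1_c11 LD2_c26 LD3_c57)) :=
  Lre_g IH (LK LD1_c5 LD2_c48 LD3_c46) (LK LD1_c11 LD2_c26 LD3_c57) Lrfl Lrfl
theorem f557407 : Led Lsl_ct (LP (LK LD1_c11 LD2_c28 LD3_c12)) = (LP (LK LD1_c11 LD2_c26 LD3_c57)) :=
  Lgr Lrot10 (Lpr_bt (f557406 IH) (Lpe (f557404 IH) (Lpr_ct (f185810 IH) (Lpr_gt (f557393 IH) (Lpe (f211003 IH) (Lpe (K38.f548732 IH) (Lpe (f557388 IH) (Lpe (f557396 IH) (Lpr_ct (f210538 IH) (Lpr_gt (f210539 IH) (Lpn (LP (LK LD1_c11 LD2_c26 LD3_c57)))))))))))))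
theorem f557411 : Led Lsl_cf (LP (LK LD1_c11 LD2_c28 LD3_c12)) = (LP (LK LD1_c11 LD2_c26 LD3_c57)) :=
  Lgr Lrot11 (Lpr_ct (f557407 IH) (Lpn (LP (LK LD1_c11 LD2_c26 LD3_c57))))
theorem f495243 : Led Lsl_ft (LP (LK LD1_c1 LD2_c10 LD3_c33)) = (LP (LK LD1_c2 LD2_c26 LD3_c32)) :=
  Lre_f IH (LK LD1_c1 LD2_c10 LD3_c33) (LK LD1_c2 LD2_c26 LD3_c32) Lrfl Lrfl
theorem f557353 : Led Lsl_ft (LP (LK LD1_c4 LD2_c57 LD3_c9)) = (LP (LK LD1_c2 LD2_c26 LD3_c30)) :=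
  Lre_f IH (LK LD1_c4 LD2_c57 LD3_c9) (LK LD1_c2 LD2_c26 LD3_c30) Lrfl Lrfl
theorem f495244 : Led Lsl_et (LP (LK LD1_c2 LD2_c26 LD3_c32)) = (LP (LK LD1_c4 LD2_c57 LD3_c14)) :=
  Lre_e IH (LK LD1_c2 LD2_c26 LD3_c32) (LK LD1_c4 LD2_c57 LD3_c14) Lrfl Lrfl
theorem f501887 : Led Lsl_cf (LP (LK LD1_c2 LD2_c56 LD3_c8)) = (LP (LK LD1_c2 LD2_c27 LD3_c39)) :=
  Lgr Lrot97 (Lpr_bt (K36.f501884 IH) (Lpe (K36.f501735 IH) (Lpr_bt (K36.f136399 IH) (Lpr_ct (K32.f136407 IH) (Lpr_bt (K32.f40569 IH) (Lpn (LP (LK LD1_c2 LD2_c27 LD3_c39))))))))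
theorem f136413 : Led Lsl_gt (LP (LK LD1_c4 LD2_c59 LD3_c39)) = (LP (LK LD1_c9 LD2_c49 LD3_c41)) :=
  Lre_g IH (LK LD1_c4 LD2_c59 LD3_c39) (LK LD1_c9 LD2_c49 LD3_c41) Lrfl Lrfl
theorem f104718 : Led Lsl_ct (LP (LK LD1_c6 LD2_c31 LD3_c6)) = (LP (LK LD1_c3 LD2_c25 LD3_c44)) :=
  Lgr Lrot152 (Lpr_gf (K11.f104306 IH) (Lpr_df (K2.f95289 IH) (Lpe (K2.f68338 IH) (Lpr_ct (K2.f68341 IH) (Lpr_gt (K2.f94205 IH) (Lpr_ct (K2.f91962 IH) (Lpr_df (K3.f94648 IH) (Lpr_cf (K3.f94739 IH) (Lpe (K6.f102527 IH) (Lpn (LP (LK LD1_c3 LD2_c25 LD3_c44))))))))))))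
theorem f104720 : Led Lsl_cf (LP (LK LD1_c6 LD2_c31 LD3_c6)) = (LP (LK LD1_c3 LD2_c25 LD3_c44)) :=
  Lgr Lrot11 (Lpr_ct (f104718 IH) (Lpn (LP (LK LD1_c3 LD2_c25 LD3_c44))))
theorem f162906 : Led Lsl_cf (LP (LK LD1_c9 LD2_c49 LD3_c41)) = (LP (LK LD1_c13 LD2_c17 LD3_c22)) :=
  Lgr Lrot163 (Lpe (f136413 IH) (Lpe (K32.f136407 IH) (Lpr_gf (K36.f136397 IH) (Lpe (K4.f95278 IH) (Lpe (K2.f95279 IH) (Lpr_gf (K2.f95257 IH) (Lpr_cf (f104720 IH) (Lpr_bt (K28.f102621 IH) (Lpr_gf (K8.f162904 IH) (Lpr_bf (K8.f151435 IH) (Lpn (LP (LK LD1_c13 LD2_c17 LD3_c22)))))))))))))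
theorem f424997 : Led Lsl_et (LP (LK LD1_c9 LD2_c49 LD3_c41)) = (LP (LK LD1_c18 LD2_c0 LD3_c12)) :=
  Lre_e IH (LK LD1_c9 LD2_c49 LD3_c41) (LK LD1_c18 LD2_c0 LD3_c12) Lrfl Lrfl
theorem f127659 : Led Lsl_et (LP (LK LD1_c22 LD2_c33 LD3_c7)) = (LP (LK LD1_c13 LD2_c17 LD3_c22)) :=
  Lre_e IH (LK LD1_c22 LD2_c33 LD3_c7) (LK LD1_c13 LD2_c17 LD3_c22) Lrfl Lrfl
theorem f424998 : Led Lsl_ct (LP (LK LD1_c18 LD2_c0 LD3_c12)) = (LP (LK LD1_c22 LD2_c33 LD3_c7)) :=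
  Lgr Lrot15 (Lpe (f424997 IH) (Lpr_cf (f162906 IH) (Lpe (f127659 IH) (Lpn (LP (LK LD1_c22 LD2_c33 LD3_c7))))))
theorem f425002 : Led Lsl_cf (LP (LK LD1_c18 LD2_c0 LD3_c12)) = (LP (LK LD1_c22 LD2_c33 LD3_c7)) :=
  Lgr Lrot11 (Lpr_ct (f424998 IH) (Lpn (LP (LK LD1_c22 LD2_c33 LD3_c7))))
theorem f151437 : Led Lsl_et (LP (LK LD1_c21 LD2_c43 LD3_c36)) = (LP (LK LD1_c12 LD2_c37 LD3_c13)) :=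
  Lre_e IH (LK LD1_c21 LD2_c43 LD3_c36) (LK LD1_c12 LD2_c37 LD3_c13) Lrfl Lrfl
theorem f89575 : Led Lsl_et (LP (LK LD1_c13 LD2_c17 LD3_c22)) = (LP (LK LD1_c22 LD2_c33 LD3_c7)) :=
  Lre_e IH (LK LD1_c13 LD2_c17 LD3_c22) (LK LD1_c22 LD2_c33 LD3_c7) Lrfl Lrfl
theorem f151438 : Led Lsl_bf (LP (LK LD1_c21 LD2_c43 LD3_c36)) = (LP (LK LD1_c22 LD2_c33 LD3_c7)) :=
  Lgr Lrot96 (Lpr_et (f151437 IH) (Lpr_bt (K8.f151432 IH) (Lpr_et (f89575 IH) (Lpn (LP (LK LD1_c22 LD2_c33 LD3_c7))))))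
theorem f151440 : Led Lsl_bt (LP (LK LD1_c21 LD2_c43 LD3_c36)) = (LP (LK LD1_c22 LD2_c33 LD3_c7)) :=
  Lgr Lrot127 (Lpr_bf (f151438 IH) (Lpn (LP (LK LD1_c22 LD2_c33 LD3_c7))))
theorem f138810 : Led Lsl_ct (LP (LK LD1_c12 LD2_c37 LD3_c14)) = (LP (LK LD1_c21 LD2_c43 LD3_c36)) :=
  Lre_c IH (LK LD1_c12 LD2_c37 LD3_c14) (LK LD1_c21 LD2_c43 LD3_c36) Lrfl Lrfl
theorem f79089 : Led Lsl_bt (LP (LK LD1_c1 LD2_c35 LD3_c1)) = (LP (LK LD1_c0 LD2_c44 LD3_c12)) :=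
  Lre_b IH (LK LD1_c1 LD2_c35 LD3_c1) (LK LD1_c0 LD2_c44 LD3_c12) Lrfl Lrfl
theorem f138799 : Led Lsl_bt (LP (LK LD1_c9 LD2_c11 LD3_c48)) = (LP (LK LD1_c6 LD2_c35 LD3_c37)) :=
  Lgr Lrot92 (Lpr_ct (K8.f138790 IH) (Lpr_gt (K8.f64543 IH) (Lpe (K4.f64541 IH) (Lpr_bt (f79089 IH) (Lpr_gt (K2.f79090 IH) (Lpe (K2.f79120 IH) (Lpe (K3.f94121 IH) (Lpr_cf (K3.f93660 IH) (Lpr_bt (K7.f93659 IH) (Lpr_gt (K8.f93664 IH) (Lpn (LP (LK LD1_c6 LD2_c35 LD3_c37)))))))))))))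
theorem f138797 : Led Lsl_et (LP (LK LD1_c17 LD2_c5 LD3_c35)) = (LP (LK LD1_c9 LD2_c11 LD3_c48)) :=
  Lre_e IH (LK LD1_c17 LD2_c5 LD3_c35) (LK LD1_c9 LD2_c11 LD3_c48) Lrfl Lrfl
theorem f138803 : Led Lsl_et (LP (LK LD1_c6 LD2_c35 LD3_c37)) = (LP (LK LD1_c12 LD2_c37 LD3_c14)) :=
  Lre_e IH (LK LD1_c6 LD2_c35 LD3_c37) (LK LD1_c12 LD2_c37 LD3_c14) Lrfl Lrfl
theorem f138804 : Led Lsl_bf (LP (LK LD1_c17 LD2_c5 LD3_c35)) = (LP (LK LD1_c12 LD2_c37 LD3_c14)) :=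
  Lgr Lrot96 (Lpr_et (f138797 IH) (Lpr_bt (f138799 IH) (Lpr_et (f138803 IH) (Lpn (LP (LK LD1_c12 LD2_c37 LD3_c14))))))
theorem f138806 : Led Lsl_bt (LP (LK LD1_c17 LD2_c5 LD3_c35)) = (LP (LK LD1_c12 LD2_c37 LD3_c14)) :=
  Lgr Lrot127 (Lpr_bf (f138804 IH) (Lpn (LP (LK LD1_c12 LD2_c37 LD3_c14))))
theorem f138792 : Led Lsl_et (LP (LK LD1_c9 LD2_c11 LD3_c48)) = (LP (LK LD1_c17 LD2_c5 LD3_c35)) :=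
  Lre_e IH (LK LD1_c9 LD2_c11 LD3_c48) (LK LD1_c17 LD2_c5 LD3_c35) Lrfl Lrfl
theorem f79082 : Led Lsl_et (LP (LK LD1_c12 LD2_c38 LD3_c43)) = (LP (LK LD1_c6 LD2_c36 LD3_c23)) :=
  Lre_e IH (LK LD1_c12 LD2_c38 LD3_c43) (LK LD1_c6 LD2_c36 LD3_c23) Lrfl Lrfl
theorem f138793 : Led Lsl_ct (LP (LK LD1_c17 LD2_c5 LD3_c35)) = (LP (LK LD1_c12 LD2_c38 LD3_c43)) :=
  Lgr Lrot15 (Lpe (f138792 IH) (Lpr_cf (K8.f138788 IH) (Lpe (f79082 IH) (Lpn (LP (LK LD1_c12 LD2_c38 LD3_c43))))))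
theorem f138795 : Led Lsl_cf (LP (LK LD1_c17 LD2_c5 LD3_c35)) = (LP (LK LD1_c12 LD2_c38 LD3_c43)) :=
  Lgr Lrot11 (Lpr_ct (f138793 IH) (Lpn (LP (LK LD1_c12 LD2_c38 LD3_c43))))
theorem f425004 : Led Lsl_bt (LP (LK LD1_c18 LD2_c0 LD3_c12)) = (LP (LK LD1_c12 LD2_c38 LD3_c43)) :=
  Lgr Lrot128 (Lpr_cf (f425002 IH) (Lpe (f151440 IH) (Lpe (f138810 IH) (Lpe (f138806 IH) (Lpr_cf (f138795 IH) (Lpn (LP (LK LD1_c12 LD2_c38 LD3_c43))))))))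
theorem f425007 : Led Lsl_bf (LP (LK LD1_c9 LD2_c49 LD3_c41)) = (LP (LK LD1_c6 LD2_c36 LD3_c23)) :=
  Lgr Lrot96 (Lpr_et (f424997 IH) (Lpr_bt (f425004 IH) (Lpr_et (f79082 IH) (Lpn (LP (LK LD1_c6 LD2_c36 LD3_c23))))))
theorem f112878 : Led Lsl_bf (LP (LK LD1_c4 LD2_c59 LD3_c13)) = (LP (LK LD1_c9 LD2_c11 LD3_c49)) :=
  Lgr Lrot93 (Lpe (K32.f105035 IH) (Lpe (K4.f112610 IH) (Lpr_dt (K6.f112875 IH) (Lpn (LP (LK LD1_c9 LD2_c11 LD3_c49))))))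
theorem f502638 : Led Lsl_gf (LP (LK LD1_c2 LD2_c56 LD3_c8)) = (LP (LK LD1_c2 LD2_c55 LD3_c16)) :=
  Lgr Lrot129 (Lpr_cf (f501887 IH) (Lpr_bt (K36.f136406 IH) (Lpr_gt (f136413 IH) (Lpr_bf (f425007 IH) (Lpe (K8.f138788 IH) (Lpr_gt (K8.f80037 IH) (Lpe (K4.f26388 IH) (Lpe (f112878 IH) (Lpr_gt (K8.f150222 IH) (Lpr_ct (K6.f72593 IH) (Lpn (LP (LK LD1_c2 LD2_c55 LD3_c16)))))))))))))
theorem f381711 : Led Lsl_et (LP (LK LD1_c2 LD2_c47 LD3_c55)) = (LP (LK LD1_c1 LD2_c20 LD3_c13)) :=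
  Lre_e IH (LK LD1_c2 LD2_c47 LD3_c55) (LK LD1_c1 LD2_c20 LD3_c13) Lrfl Lrfl
theorem f421040 : Led Lsl_dt (LP (LK LD1_c1 LD2_c21 LD3_c32)) = (LP (LK LD1_c2 LD2_c51 LD3_c1)) :=
  Lre_d IH (LK LD1_c1 LD2_c21 LD3_c32) (LK LD1_c2 LD2_c51 LD3_c1) Lrfl Lrfl
theorem f557441 : Led Lsl_gf (LP (LK LD1_c5 LD2_c43 LD3_c47)) = (LP (LK LD1_c2 LD2_c51 LD3_c1)) :=
  Lgr Lrot134 (Lpe (K36.f381800 IH) (Lpr_et (f381711 IH) (Lpr_gt (K36.f381788 IH) (Lpq (K36.f542139 IH) (Lpe (K36.f500641 IH) (Lpr_dt (K7.f72600 IH) (Lpe (f502638 IH) (Lpr_df (K36.f501889 IH) (Lpr_et (K39.f502780 IH) (Lpqs (f557423 IH) (Lpr_gt (f421032 IH) (Lpr_dt (f421040 IH) (Lpn (LP (LK LD1_c2 LD2_c51 LD3_c1)))))))))))))))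
theorem f384171 : Led Lsl_df (LP (LK LD1_c5 LD2_c37 LD3_c18)) = (LP (LK LD1_c5 LD2_c44 LD3_c10)) :=
  Lgr Lrot38 (Lpr_dt (K28.f384169 IH) (Lpn (LP (LK LD1_c5 LD2_c44 LD3_c10))))
theorem f384182 : Led Lsl_gt (LP (LK LD1_c5 LD2_c43 LD3_c20)) = (LP (LK LD1_c5 LD2_c44 LD3_c10)) :=
  Lgr Lrot49 (Lpe (K39.f381790 IH) (Lpe (K36.f381788 IH) (Lpe (K27.f381201 IH) (Lpr_gt (K27.f75552 IH) (Lpr_dt (K27.f75567 IH) (Lpr_gt (K27.f75568 IH) (Lpe (K28.f383254 IH) (Lpe (K36.f211955 IH) (Lpr_df (f384171 IH) (Lpn (LP (LK LD1_c5 LD2_c44 LD3_c10))))))))))))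
theorem f176844 : Led Lsl_gt (LP (LK LD1_c5 LD2_c49 LD3_c52)) = (LP (LK LD1_c2 LD2_c51 LD3_c2)) :=
  Lre_g IH (LK LD1_c5 LD2_c49 LD3_c52) (LK LD1_c2 LD2_c51 LD3_c2) Lrfl Lrfl
theorem f557450 : Led Lsl_et (LP (LK LD1_c5 LD2_c37 LD3_c18)) = (LP (LK LD1_c5 LD2_c49 LD3_c52)) :=
  Lgr Lrot185 (Lpr_dt (K28.f384169 IH) (Lpe (f384182 IH) (Lpe (K39.f381790 IH) (Lpe (K36.f381788 IH) (Lpe (f381711 IH) (Lpr_dt (K36.f381800 IH) (Lpr_gf (f557441 IH) (Lpe (f421040 IH) (Lpr_et (K39.f421041 IH) (Lpe (f176844 IH) (Lpn (LP (LK LD1_c5 LD2_c49 LD3_c52)))))))))))))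
theorem f557457 : Led Lsl_ef (LP (LK LD1_c5 LD2_c37 LD3_c18)) = (LP (LK LD1_c5 LD2_c49 LD3_c52)) :=
  Lgr Lrot88 (Lpr_et (f557450 IH) (Lpn (LP (LK LD1_c5 LD2_c49 LD3_c52))))
theorem f426038 : Led Lsl_dt (LP (LK LD1_c0 LD2_c38 LD3_c42)) = (LP (LK LD1_c1 LD2_c23 LD3_c43)) :=
  Lre_d IH (LK LD1_c0 LD2_c38 LD3_c42) (LK LD1_c1 LD2_c23 LD3_c43) Lrfl Lrfl
theorem f426254 : Led Lsl_at (LP (LK LD1_c0 LD2_c17 LD3_c12)) = (LP (LK LD1_c0 LD2_c38 LD3_c42)) :=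
  Lre_a IH (LK LD1_c0 LD2_c17 LD3_c12) (LK LD1_c0 LD2_c38 LD3_c42) Lrfl Lrfl
theorem f426255 : Led Lsl_gt (LP (LK LD1_c0 LD2_c17 LD3_c15)) = (LP (LK LD1_c0 LD2_c38 LD3_c42)) :=
  Lgr Lrot46 (Lpr_gf (K28.f426248 IH) (Lpr_ft (K36.f386759 IH) (Lpr_at (f426254 IH) (Lpn (LP (LK LD1_c0 LD2_c38 LD3_c42))))))
theorem f176565 : Led Lsl_gt (LP (LK LD1_c2 LD2_c56 LD3_c57)) = (LP (LK LD1_c1 LD2_c24 LD3_c14)) :=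
  Lre_g IH (LK LD1_c2 LD2_c56 LD3_c57) (LK LD1_c1 LD2_c24 LD3_c14) Lrfl Lrfl
theorem f557463 : Led Lsl_df (LP (LK LD1_c2 LD2_c56 LD3_c57)) = (LP (LK LD1_c5 LD2_c49 LD3_c52)) :=
  Lgr Lrot170 (Lpr_gt (f176565 IH) (Lpe (K28.f387455 IH) (Lpr_et (K28.f387456 IH) (Lpr_gt (f426255 IH) (Lpr_dt (f426038 IH) (Lpe (K28.f426305 IH) (Lpe (K4.f72871 IH) (Lpr_et (K2.f72873 IH) (Lpe (K36.f542632 IH) (Lpr_ef (f557457 IH) (Lpn (LP (LK LD1_c5 LD2_c49 LD3_c52)))))))))))))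
theorem f452567 : Led Lsl_gt (LP (LK LD1_c5 LD2_c43 LD3_c12)) = (LP (LK LD1_c2 LD2_c56 LD3_c57)) :=
  Lre_g IH (LK LD1_c5 LD2_c43 LD3_c12) (LK LD1_c2 LD2_c56 LD3_c57) Lrfl Lrfl
theorem f557479 : Led Lsl_gf (LP (LK LD1_c3 LD2_c0 LD3_c18)) = (LP (LK LD1_c5 LD2_c37 LD3_c18)) :=
  Lgr Lrot138 (Lpe (K36.f68878 IH) (Lpr_gt (K36.f536123 IH) (Lpqs (K36.f541732 IH) (Lpe (K27.f381456 IH) (Lpq (K36.f541734 IH) (Lpe (K36.f452565 IH) (Lpr_gt (K30.f381124 IH) (Lpe (K28.f387439 IH) (Lpr_dt (K28.f387440 IH) (Lpr_gt (f452567 IH) (Lpr_df (f557463 IH) (Lpe (f557457 IH) (Lpn (LP (LK LD1_c5 LD2_c37 LD3_c18)))))))))))))))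
theorem f55952 : Led Lsl_et (LP (LK LD1_c1 LD2_c25 LD3_c54)) = (LP (LK LD1_c3 LD2_c0 LD3_c18)) :=
  Lre_e IH (LK LD1_c1 LD2_c25 LD3_c54) (LK LD1_c3 LD2_c0 LD3_c18) Lrfl Lrfl
def v1698 : LQ := Led Lsl_et (LP (LK LD1_c1 LD2_c24 LD3_c12))
theorem f500899 : Led Lsl_et (LP (LK LD1_c1 LD2_c24 LD3_c12)) = v1698 :=
  Lrfl
theorem f500901 : Led Lsl_ef (LP (LK LD1_c1 LD2_c24 LD3_c12)) = v1698 :=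
  Lgr Lrot88 (Lpr_et (f500899 IH) (Lpn v1698))
theorem f426065 : Led Lsl_ff (LP (LK LD1_c0 LD2_c38 LD3_c44)) = (LP (LK LD1_c0 LD2_c38 LD3_c38)) :=
  Lgr Lrot52 (Lpr_at (K36.f426064 IH) (Lpr_gf (K24.f426059 IH) (Lpr_gf (K8.f161296 IH) (Lpn (LP (LK LD1_c0 LD2_c38 LD3_c38))))))
theorem f500725 : Led Lsl_ef (LP (LK LD1_c2 LD2_c55 LD3_c13)) = K36.v1679 :=
  Lgr Lrot21 (Lpr_ft (K36.f426224 IH) (Lpr_et (K32.f161310 IH) (Lpe (f426065 IH) (Lpr_et (K36.f150373 IH) (Lpr_ft (K36.f500722 IH) (Lpn K36.v1679))))))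
theorem f539236 : (LP (LK LD1_c2 LD2_c55 LD3_c13)) = v1698 :=
  Lefun (Lecon (Lfl_ef (f500725 IH)) (K36.f539220 IH)) (f500899 IH)
theorem f426223 : Led Lsl_dt (LP (LK LD1_c2 LD2_c55 LD3_c13)) = (LP (LK LD1_c5 LD2_c57 LD3_c48)) :=
  Lre_d IH (LK LD1_c2 LD2_c55 LD3_c13) (LK LD1_c5 LD2_c57 LD3_c48) Lrfl Lrfl
theorem f557481 : Led Lsl_gt (LP (LK LD1_c3 LD2_c0 LD3_c17)) = (LP (LK LD1_c5 LD2_c57 LD3_c48)) :=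
  Lgr Lrot112 (Lpe (K36.f55950 IH) (Lpr_et (f55952 IH) (Lpr_gf (f557479 IH) (Lpr_ef (f557457 IH) (Lpe (f557463 IH) (Lpe (f452567 IH) (Lpe (K28.f387440 IH) (Lpe (K36.f101563 IH) (Lpr_ef (f500901 IH) (Lpq (f539236 IH) (Lpr_dt (f426223 IH) (Lpn (LP (LK LD1_c5 LD2_c57 LD3_c48))))))))))))))
def v1761 : LQ := Led Lsl_bt (LP (LK LD1_c1 LD2_c25 LD3_c50))
theorem f501323 : Led Lsl_bt (LP (LK LD1_c1 LD2_c25 LD3_c50)) = v1761 :=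
  Lrfl
theorem f501324 : Led Lsl_bf (LP (LK LD1_c1 LD2_c25 LD3_c50)) = v1761 :=
  Lgr Lrot24 (Lpr_bt (f501323 IH) (Lpn v1761))
theorem f55967 : Led Lsl_bt (LP (LK LD1_c0 LD2_c17 LD3_c47)) = (LP (LK LD1_c0 LD2_c39 LD3_c40)) :=
  Lre_b IH (LK LD1_c0 LD2_c17 LD3_c47) (LK LD1_c0 LD2_c39 LD3_c40) Lrfl Lrfl
theorem f55858 : Led Lsl_bt (LP (LK LD1_c2 LD2_c1 LD3_c0)) = (LP (LK LD1_c0 LD2_c57 LD3_c35)) :=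
  Lre_b IH (LK LD1_c2 LD2_c1 LD3_c0) (LK LD1_c0 LD2_c57 LD3_c35) Lrfl Lrfl
theorem f501325 : Led Lsl_cf (LP (LK LD1_c3 LD2_c0 LD3_c6)) = v1761 :=
  Lgr Lrot160 (Lpr_gt (K36.f427743 IH) (Lpe (K1.f55936 IH) (Lpr_bt (f55858 IH) (Lpr_gt (K9.f177386 IH) (Lpr_ct (K9.f20673 IH) (Lpr_gt (K9.f6969 IH) (Lpe (K9.f9027 IH) (Lpr_bt (f55967 IH) (Lpr_gt (K32.f55980 IH) (Lpr_bf (f501324 IH) (Lpn v1761)))))))))))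
theorem f501326 : Led Lsl_ct (LP (LK LD1_c3 LD2_c0 LD3_c6)) = v1761 :=
  Lgr Lrot59 (Lpr_cf (f501325 IH) (Lpn v1761))
theorem f22199 : Led Lsl_bt (LP (LK LD1_c0 LD2_c33 LD3_c27)) = (LP (LK LD1_c1 LD2_c12 LD3_c16)) :=
  Lre_b IH (LK LD1_c0 LD2_c33 LD3_c27) (LK LD1_c1 LD2_c12 LD3_c16) Lrfl Lrfl
theorem f302633 : Led Lsl_ff (LP (LK LD1_c1 LD2_c13 LD3_c30)) = (LP (LK LD1_c1 LD2_c12 LD3_c16)) :=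
  Lgr Lrot25 (Lpr_bt (K18.f185114 IH) (Lpr_ft (K18.f302629 IH) (Lpr_bt (f22199 IH) (Lpn (LP (LK LD1_c1 LD2_c12 LD3_c16))))))
theorem f22209 : Led Lsl_gt (LP (LK LD1_c1 LD2_c12 LD3_c16)) = (LP (LK LD1_c2 LD2_c30 LD3_c31)) :=
  Lre_g IH (LK LD1_c1 LD2_c12 LD3_c16) (LK LD1_c2 LD2_c30 LD3_c31) Lrfl Lrfl
theorem f302728 : Led Lsl_gf (LP (LK LD1_c2 LD2_c33 LD3_c6)) = (LP (LK LD1_c2 LD2_c30 LD3_c31)) :=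
  Lgr Lrot76 (Lpe (K18.f289423 IH) (Lpr_ff (f302633 IH) (Lpr_gt (f22209 IH) (Lpn (LP (LK LD1_c2 LD2_c30 LD3_c31))))))
theorem f557491 : v1761 = (LP (LK LD1_c2 LD2_c30 LD3_c31)) :=
  (Llr Lrot8 (Lpe (f501326 IH) (Lpr_gt (K36.f427743 IH) (Lpr_dt (K36.f55950 IH) (Lpr_gt (f557481 IH) (Lpr_dt (K28.f426195 IH) (Lpe (K27.f426211 IH) (Lpe (K27.f169709 IH) (Lpe (K27.f386708 IH) (Lpr_df (K27.f386702 IH) (Lpr_gf (f302728 IH) (Lpn (LP (LK LD1_c2 LD2_c30 LD3_c31)))))))))))))).symm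
def v1763 : LQ := Led Lsl_ct (LP (LK LD1_c1 LD2_c25 LD3_c51))
theorem f501336 : Led Lsl_ct (LP (LK LD1_c1 LD2_c25 LD3_c51)) = v1763 :=
  Lrfl
theorem f501339 : Led Lsl_ff v1761 = v1763 :=
  Lgr Lrot23 (Lpe (f501325 IH) (Lpr_ft (K36.f427727 IH) (Lpr_ct (f501336 IH) (Lpn v1763))))
theorem f501341 : Led Lsl_ft v1761 = v1763 :=
  Lgr Lrot48 (Lpr_ff (f501339 IH) (Lpn v1763))
theorem f557497 : Led Lsl_at v1763 = (LP (LK LD1_c2 LD2_c30 LD3_c32)) :=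
  Lgr Lrot26 (Lpe (f501341 IH) (Lpqs (f557491 IH) (Lpe (f302728 IH) (Lpr_gt (K27.f302671 IH) (Lpn (LP (LK LD1_c2 LD2_c30 LD3_c32)))))))
theorem f501337 : Led Lsl_at (LP (LK LD1_c3 LD2_c0 LD3_c9)) = (LP (LK LD1_c1 LD2_c25 LD3_c51)) :=
  Lre_a IH (LK LD1_c3 LD2_c0 LD3_c9) (LK LD1_c1 LD2_c25 LD3_c51) Lrfl Lrfl
theorem f557502 : Led Lsl_cf (LP (LK LD1_c3 LD2_c0 LD3_c9)) = (LP (LK LD1_c2 LD2_c30 LD3_c32)) :=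
  Lgr Lrot1 (Lpr_at (f501337 IH) (Lpr_ct (f501336 IH) (Lpr_at (f557497 IH) (Lpn (LP (LK LD1_c2 LD2_c30 LD3_c32))))))
theorem f427755 : Led Lsl_at (LP (LK LD1_c1 LD2_c25 LD3_c51)) = (LP (LK LD1_c3 LD2_c0 LD3_c9)) :=
  Lre_a IH (LK LD1_c1 LD2_c25 LD3_c51) (LK LD1_c3 LD2_c0 LD3_c9) Lrfl Lrfl
theorem f427756 : Led Lsl_gf (LP (LK LD1_c3 LD2_c0 LD3_c9)) = (LP (LK LD1_c1 LD2_c25 LD3_c54)) :=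
  Lgr Lrot76 (Lpe (f427755 IH) (Lpe (K36.f427727 IH) (Lpr_gt (K36.f427743 IH) (Lpn (LP (LK LD1_c1 LD2_c25 LD3_c54))))))
theorem f557499 : Led Lsl_bt (LP (LK LD1_c2 LD2_c30 LD3_c32)) = (LP (LK LD1_c5 LD2_c6 LD3_c30)) :=
  Lre_b IH (LK LD1_c2 LD2_c30 LD3_c32) (LK LD1_c5 LD2_c6 LD3_c30) Lrfl Lrfl
theorem f557512 : Led Lsl_gf (LP (LK LD1_c2 LD2_c50 LD3_c1)) = (LP (LK LD1_c5 LD2_c6 LD3_c30)) :=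
  Lgr Lrot181 (Lpr_ct (K5.f132343 IH) (Lpqs (K38.f547957 IH) (Lpe (K35.f501270 IH) (Lpe (K35.f177811 IH) (Lpr_bt (K35.f169095 IH) (Lpe (K9.f169084 IH) (Lpe (f55858 IH) (Lpr_ct (K1.f55936 IH) (Lpe (f427756 IH) (Lpr_cf (f557502 IH) (Lpr_bt (f557499 IH) (Lpn (LP (LK LD1_c5 LD2_c6 LD3_c30))))))))))))))
theorem f72387 : Led Lsl_dt (LP (LK LD1_c2 LD2_c53 LD3_c3)) = (LP (LK LD1_c5 LD2_c53 LD3_c26)) :=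
  Lre_d IH (LK LD1_c2 LD2_c53 LD3_c3) (LK LD1_c5 LD2_c53 LD3_c26) Lrfl Lrfl
theorem f387425 : Led Lsl_et (LP (LK LD1_c10 LD2_c3 LD3_c54)) = (LP (LK LD1_c5 LD2_c6 LD3_c30)) :=
  Lre_e IH (LK LD1_c10 LD2_c3 LD3_c54) (LK LD1_c5 LD2_c6 LD3_c30) Lrfl Lrfl
theorem f386648 : Led Lsl_dt (LP (LK LD1_c5 LD2_c45 LD3_c5)) = (LP (LK LD1_c5 LD2_c6 LD3_c31)) :=
  Lgr Lrot42 (Lpr_df (K27.f386640 IH) (Lpn (LP (LK LD1_c5 LD2_c6 LD3_c31))))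
theorem f176773 : Led Lsl_bt (LP (LK LD1_c11 LD2_c20 LD3_c35)) = (LP (LK LD1_c5 LD2_c45 LD3_c5)) :=
  Lre_b IH (LK LD1_c11 LD2_c20 LD3_c35) (LK LD1_c5 LD2_c45 LD3_c5) Lrfl Lrfl
theorem f387409 : Led Lsl_bt (LP (LK LD1_c5 LD2_c6 LD3_c31)) = (LP (LK LD1_c10 LD2_c3 LD3_c54)) :=
  Lre_b IH (LK LD1_c5 LD2_c6 LD3_c31) (LK LD1_c10 LD2_c3 LD3_c54) Lrfl Lrfl
theorem f387410 : Led Lsl_df (LP (LK LD1_c11 LD2_c20 LD3_c35)) = (LP (LK LD1_c10 LD2_c3 LD3_c54)) :=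
  Lgr Lrot12 (Lpr_bt (f176773 IH) (Lpr_dt (f386648 IH) (Lpr_bt (f387409 IH) (Lpn (LP (LK LD1_c10 LD2_c3 LD3_c54))))))
theorem f557518 : Led Lsl_gt (LP (LK LD1_c5 LD2_c53 LD3_c26)) = (LP (LK LD1_c11 LD2_c20 LD3_c35)) :=
  Lgr Lrot139 (Lpe (f72387 IH) (Lpq (K38.f539956 IH) (Lpe (K38.f500717 IH) (Lpe (K36.f157625 IH) (Lpr_dt (K8.f137172 IH) (Lpe (K11.f157610 IH) (Lpe (K6.f117295 IH) (Lpr_et (K8.f132403 IH) (Lpr_gf (f557512 IH) (Lpe (f387425 IH) (Lpe (f387410 IH) (Lpn (LP (LK LD1_c11 LD2_c20 LD3_c35))))))))))))))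
theorem f557522 : Led Lsl_gf (LP (LK LD1_c5 LD2_c57 LD3_c54)) = (LP (LK LD1_c5 LD2_c48 LD3_c0)) :=
  Lgr Lrot134 (Lpe (K38.f72408 IH) (Lpr_et (K38.f72407 IH) (Lpr_gt (K2.f72396 IH) (Lpe (K2.f72389 IH) (Lpr_dt (f72387 IH) (Lpr_gt (f557518 IH) (Lpr_df (f387410 IH) (Lpr_et (f387425 IH) (Lpe (f557512 IH) (Lpr_dt (K5.f132350 IH) (Lpn (LP (LK LD1_c5 LD2_c48 LD3_c0)))))))))))))
theorem f386852 : Led Lsl_dt (LP (LK LD1_c5 LD2_c57 LD3_c32)) = (LP (LK LD1_c2 LD2_c55 LD3_c3)) :=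
  Lre_d IH (LK LD1_c5 LD2_c57 LD3_c32) (LK LD1_c2 LD2_c55 LD3_c3) Lrfl Lrfl
theorem f548510 : Led Lsl_gt (LP (LK LD1_c9 LD2_c5 LD3_c48)) = (LP (LK LD1_c5 LD2_c57 LD3_c32)) :=
  Lgr Lrot5 (Lpr_ft (K38.f548440 IH) (Lpe (K38.f548480 IH) (Lpr_gf (K38.f548508 IH) (Lpn (LP (LK LD1_c5 LD2_c57 LD3_c32))))))
theorem f427722 : Led Lsl_ft (LP (LK LD1_c1 LD2_c25 LD3_c50)) = (LP (LK LD1_c3 LD2_c0 LD3_c9)) :=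
  Lre_f IH (LK LD1_c1 LD2_c25 LD3_c50) (LK LD1_c3 LD2_c0 LD3_c9) Lrfl Lrfl
theorem f501340 : Led Lsl_bt (LP (LK LD1_c3 LD2_c0 LD3_c9)) = v1763 :=
  Lgr Lrot35 (Lpe (f427722 IH) (Lpr_bf (f501324 IH) (Lpr_ff (f501339 IH) (Lpn v1763))))
theorem f501338 : Led Lsl_cf (LP (LK LD1_c1 LD2_c25 LD3_c51)) = v1763 :=
  Lgr Lrot11 (Lpr_ct (f501336 IH) (Lpn v1763))
theorem f501335 : Led Lsl_bt (LP (LK LD1_c1 LD2_c25 LD3_c51)) = (LP (LK LD1_c3 LD2_c0 LD3_c10)) :=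
  Lre_b IH (LK LD1_c1 LD2_c25 LD3_c51) (LK LD1_c3 LD2_c0 LD3_c10) Lrfl Lrfl
theorem f205138 : Led Lsl_bt (LP (LK LD1_c5 LD2_c6 LD3_c30)) = (LP (LK LD1_c2 LD2_c30 LD3_c32)) :=
  Lre_b IH (LK LD1_c5 LD2_c6 LD3_c30) (LK LD1_c2 LD2_c30 LD3_c32) Lrfl Lrfl
theorem f557506 : Led Lsl_ct (LP (LK LD1_c3 LD2_c0 LD3_c10)) = (LP (LK LD1_c5 LD2_c6 LD3_c30)) :=
  Lgr Lrot83 (Lpe (f501335 IH) (Lpr_cf (f501338 IH) (Lpe (f501340 IH) (Lpr_cf (f557502 IH) (Lpe (f205138 IH) (Lpn (LP (LK LD1_c5 LD2_c6 LD3_c30))))))))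
theorem f557526 : Led Lsl_gf (LP (LK LD1_c4 LD2_c34 LD3_c22)) = (LP (LK LD1_c3 LD2_c0 LD3_c10)) :=
  Lgr Lrot144 (Lpr_dt (K38.f132420 IH) (Lpr_gt (f548510 IH) (Lpr_dt (f386852 IH) (Lpe (K36.f427471 IH) (Lpe (K38.f386773 IH) (Lpr_gf (f557522 IH) (Lpe (K5.f132350 IH) (Lpr_gf (f557512 IH) (Lpe (f557506 IH) (Lpn (LP (LK LD1_c3 LD2_c0 LD3_c10))))))))))))
theorem f557528 : Led Lsl_cf (LP (LK LD1_c3 LD2_c0 LD3_c10)) = (LP (LK LD1_c5 LD2_c6 LD3_c30)) :=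
  Lgr Lrot166 (Lpe (f557526 IH) (Lpr_dt (K38.f132420 IH) (Lpr_gt (f548510 IH) (Lpr_dt (f386852 IH) (Lpe (K37.f427473 IH) (Lpe (K38.f386773 IH) (Lpr_gf (f557522 IH) (Lpe (K5.f132350 IH) (Lpr_gf (f557512 IH) (Lpn (LP (LK LD1_c5 LD2_c6 LD3_c30))))))))))))
theorem f557537 : Led Lsl_gf (LP (LK LD1_c3 LD2_c0 LD3_c10)) = (LP (LK LD1_c5 LD2_c37 LD3_c57)) :=
  Lgr Lrot129 (Lpr_cf (f557528 IH) (Lpr_bt (f205138 IH) (Lpr_gt (K27.f22207 IH) (Lpe (f22199 IH) (Lpr_ct (K9.f22123 IH) (Lpe (K9.f165845 IH) (Lpe (K9.f163704 IH) (Lpr_bt (K36.f164694 IH) (Lpq (K38.f537804 IH) (Lpe (K38.f501279 IH) (Lpqs (K38.f548366 IH) (Lpr_ct (K38.f548373 IH) (Lpn (LP (LK LD1_c5 LD2_c37 LD3_c57)))))))))))))))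
theorem f132476 : Led Lsl_dt (LP (LK LD1_c1 LD2_c21 LD3_c5)) = (LP (LK LD1_c2 LD2_c50 LD3_c4)) :=
  Lre_d IH (LK LD1_c1 LD2_c21 LD3_c5) (LK LD1_c2 LD2_c50 LD3_c4) Lrfl Lrfl
theorem f545094 : Led Lsl_gt (LP (LK LD1_c11 LD2_c25 LD3_c46)) = (LP (LK LD1_c5 LD2_c48 LD3_c5)) :=
  Lre_g IH (LK LD1_c11 LD2_c25 LD3_c46) (LK LD1_c5 LD2_c48 LD3_c5) Lrfl Lrfl
theorem f548512 : Led Lsl_gt (LP (LK LD1_c10 LD2_c6 LD3_c19)) = (LP (LK LD1_c6 LD2_c7 LD3_c61)) :=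
  Lgr Lrot46 (Lpr_gf (K38.f548508 IH) (Lpr_ft (K38.f386853 IH) (Lpr_at (K38.f545566 IH) (Lpn (LP (LK LD1_c6 LD2_c7 LD3_c61))))))
theorem f557541 : Led Lsl_cf (LP (LK LD1_c11 LD2_c25 LD3_c46)) = (LP (LK LD1_c6 LD2_c7 LD3_c61)) :=
  Lgr Lrot169 (Lpr_gt (f545094 IH) (Lpr_ct (K38.f132355 IH) (Lpe (f132476 IH) (Lpe (K5.f132343 IH) (Lpr_gf (f557512 IH) (Lpe (f557506 IH) (Lpr_gf (f557537 IH) (Lpe (K38.f548495 IH) (Lpr_gt (f548512 IH) (Lpn (LP (LK LD1_c6 LD2_c7 LD3_c61))))))))))))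
theorem f9096 : Led Lsl_bt (LP (LK LD1_c6 LD2_c7 LD3_c61)) = (LP (LK LD1_c3 LD2_c0 LD3_c14)) :=
  Lre_b IH (LK LD1_c6 LD2_c7 LD3_c61) (LK LD1_c3 LD2_c0 LD3_c14) Lrfl Lrfl
theorem f9045 : Led Lsl_bt (LP (LK LD1_c0 LD2_c39 LD3_c41)) = (LP (LK LD1_c1 LD2_c25 LD3_c53)) :=
  Lre_b IH (LK LD1_c0 LD2_c39 LD3_c41) (LK LD1_c1 LD2_c25 LD3_c53) Lrfl Lrfl
theorem f22332 : Led Lsl_gt (LP (LK LD1_c2 LD2_c31 LD3_c11)) = (LP (LK LD1_c5 LD2_c7 LD3_c49)) :=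
  Lre_g IH (LK LD1_c2 LD2_c31 LD3_c11) (LK LD1_c5 LD2_c7 LD3_c49) Lrfl Lrfl
theorem f495364 : Led Lsl_ct (LP (LK LD1_c5 LD2_c7 LD3_c49)) = (LP (LK LD1_c10 LD2_c5 LD3_c53)) :=
  Lre_c IH (LK LD1_c5 LD2_c7 LD3_c49) (LK LD1_c10 LD2_c5 LD3_c53) Lrfl Lrfl
theorem f557555 : Led Lsl_gf (LP (LK LD1_c11 LD2_c25 LD3_c46)) = (LP (LK LD1_c10 LD2_c5 LD3_c53)) :=
  Lgr Lrot129 (Lpr_cf (f557541 IH) (Lpr_bt (f9096 IH) (Lpr_gt (K36.f9095 IH) (Lpe (f9045 IH) (Lpr_ct (K10.f9040 IH) (Lpe (K10.f9062 IH) (Lpr_cf (K10.f177393 IH) (Lpr_bt (K38.f501260 IH) (Lpqs (K38.f537816 IH) (Lpr_gt (f22332 IH) (Lpr_ct (f495364 IH) (Lpn (LP (LK LD1_c10 LD2_c5 LD3_c53))))))))))))))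
theorem f545053 : Led Lsl_at (LP (LK LD1_c2 LD2_c50 LD3_c4)) = (LP (LK LD1_c2 LD2_c31 LD3_c13)) :=
  Lgr Lrot51 (Lpe (f132476 IH) (Lpe (K38.f132337 IH) (Lpr_df (K38.f545047 IH) (Lpn (LP (LK LD1_c2 LD2_c31 LD3_c13))))))
theorem f545063 : Led Lsl_af (LP (LK LD1_c5 LD2_c48 LD3_c5)) = (LP (LK LD1_c5 LD2_c7 LD3_c56)) :=
  Lgr Lrot68 (Lpr_ct (K38.f132355 IH) (Lpr_at (f545053 IH) (Lpr_ct (K38.f545062 IH) (Lpn (LP (LK LD1_c5 LD2_c7 LD3_c56))))))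
theorem f557583 : Led Lsl_ff (LP (LK LD1_c5 LD2_c7 LD3_c56)) = (LP (LK LD1_c10 LD2_c5 LD3_c53)) :=
  Lgr Lrot52 (Lpe (f545063 IH) (Lpe (f545094 IH) (Lpr_gf (f557555 IH) (Lpn (LP (LK LD1_c10 LD2_c5 LD3_c53))))))
theorem f496045 : Led Lsl_ct (LP (LK LD1_c2 LD2_c50 LD3_c4)) = (LP (LK LD1_c5 LD2_c48 LD3_c5)) :=
  Lre_c IH (LK LD1_c2 LD2_c50 LD3_c4) (LK LD1_c5 LD2_c48 LD3_c5) Lrfl Lrfl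
theorem f3211 : Led Lsl_dt (LP (LK LD1_c18 LD2_c24 LD3_c44)) = (LP (LK LD1_c10 LD2_c5 LD3_c56)) :=
  Lre_d IH (LK LD1_c18 LD2_c24 LD3_c44) (LK LD1_c10 LD2_c5 LD3_c56) Lrfl Lrfl
theorem f557585 : Led Lsl_dt (LP (LK LD1_c10 LD2_c5 LD3_c53)) = (LP (LK LD1_c18 LD2_c24 LD3_c39)) :=
  Lre_d IH (LK LD1_c10 LD2_c5 LD3_c53) (LK LD1_c18 LD2_c24 LD3_c39) Lrfl Lrfl
theorem f557595 : Led Lsl_cf (LP (LK LD1_c18 LD2_c24 LD3_c44)) = (LP (LK LD1_c18 LD2_c24 LD3_c39)) :=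
  Lgr Lrot118 (Lpr_dt (f3211 IH) (Lpe (K38.f538276 IH) (Lpr_dt (K8.f132421 IH) (Lpr_ct (K5.f132343 IH) (Lpr_dt (f132476 IH) (Lpr_ct (f496045 IH) (Lpr_af (f545063 IH) (Lpr_ff (f557583 IH) (Lpr_dt (f557585 IH) (Lpn (LP (LK LD1_c18 LD2_c24 LD3_c39))))))))))))
theorem f496050 : Led Lsl_dt (LP (LK LD1_c5 LD2_c48 LD3_c5)) = (LP (LK LD1_c11 LD2_c25 LD3_c48)) :=
  Lre_d IH (LK LD1_c5 LD2_c48 LD3_c5) (LK LD1_c11 LD2_c25 LD3_c48) Lrfl Lrfl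
theorem f548435 : Led Lsl_ct (LP (LK LD1_c11 LD2_c25 LD3_c48)) = (LP (LK LD1_c18 LD2_c24 LD3_c42)) :=
  Lgr Lrot59 (Lpr_cf (K38.f548433 IH) (Lpn (LP (LK LD1_c18 LD2_c24 LD3_c42))))
theorem f548007 : Led Lsl_dt (LP (LK LD1_c18 LD2_c24 LD3_c42)) = (LP (LK LD1_c10 LD2_c5 LD3_c55)) :=
  Lre_d IH (LK LD1_c18 LD2_c24 LD3_c42) (LK LD1_c10 LD2_c5 LD3_c55) Lrfl Lrfl
theorem f548001 : Led Lsl_cf (LP (LK LD1_c5 LD2_c55 LD3_c1)) = (LP (LK LD1_c10 LD2_c5 LD3_c55)) :=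
  Lgr Lrot11 (Lpr_ct (K38.f547999 IH) (Lpn (LP (LK LD1_c10 LD2_c5 LD3_c55))))
theorem f548426 : Led Lsl_df (LP (LK LD1_c6 LD2_c7 LD3_c27)) = (LP (LK LD1_c5 LD2_c55 LD3_c1)) :=
  Lgr Lrot38 (Lpr_dt (K38.f548422 IH) (Lpn (LP (LK LD1_c5 LD2_c55 LD3_c1))))
theorem f422750 : Led Lsl_ct (LP (LK LD1_c6 LD2_c7 LD3_c27)) = (LP (LK LD1_c2 LD2_c59 LD3_c53)) :=
  Lre_c IH (LK LD1_c6 LD2_c7 LD3_c27) (LK LD1_c2 LD2_c59 LD3_c53) Lrfl Lrfl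
theorem f557599 : Led Lsl_dt (LP (LK LD1_c2 LD2_c59 LD3_c53)) = (LP (LK LD1_c5 LD2_c7 LD3_c49)) :=
  Lgr Lrot173 (Lpe (f422750 IH) (Lpr_df (f548426 IH) (Lpr_cf (f548001 IH) (Lpe (f548007 IH) (Lpe (f548435 IH) (Lpe (f496050 IH) (Lpe (f496045 IH) (Lpe (f132476 IH) (Lpe (K5.f132343 IH) (Lpe (K8.f132421 IH) (Lpr_cf (K38.f538276 IH) (Lpe (f3211 IH) (Lpr_cf (f557595 IH) (Lpe (f557585 IH) (Lpe (f495364 IH) (Lpn (LP (LK LD1_c5 LD2_c7 LD3_c49))))))))))))))))))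
theorem f545596 : Led Lsl_dt (LP (LK LD1_c10 LD2_c6 LD3_c23)) = (LP (LK LD1_c5 LD2_c7 LD3_c59)) :=
  Lre_d IH (LK LD1_c10 LD2_c6 LD3_c23) (LK LD1_c5 LD2_c7 LD3_c59) Lrfl Lrfl
theorem f548447 : Led Lsl_ff (LP (LK LD1_c10 LD2_c6 LD3_c23)) = (LP (LK LD1_c18 LD2_c24 LD3_c42)) :=
  Lgr Lrot19 (Lpr_dt (f545596 IH) (Lpr_ft (K38.f548445 IH) (Lpr_dt (K38.f548003 IH) (Lpn (LP (LK LD1_c18 LD2_c24 LD3_c42))))))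
theorem f557603 : Led Lsl_af (LP (LK LD1_c18 LD2_c24 LD3_c44)) = (LP (LK LD1_c10 LD2_c6 LD3_c23)) :=
  Lgr Lrot109 (Lpr_cf (f557595 IH) (Lpe (f557585 IH) (Lpe (f495364 IH) (Lpe (f557599 IH) (Lpe (f422750 IH) (Lpr_df (f548426 IH) (Lpr_cf (f548001 IH) (Lpe (f548007 IH) (Lpe (f548447 IH) (Lpn (LP (LK LD1_c10 LD2_c6 LD3_c23))))))))))))
theorem f545592 : Led Lsl_dt (LP (LK LD1_c5 LD2_c7 LD3_c59)) = (LP (LK LD1_c10 LD2_c6 LD3_c23)) :=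
  Lre_d IH (LK LD1_c5 LD2_c7 LD3_c59) (LK LD1_c10 LD2_c6 LD3_c23) Lrfl Lrfl
theorem f557609 : Led Lsl_at (LP (LK LD1_c10 LD2_c5 LD3_c56)) = (LP (LK LD1_c5 LD2_c7 LD3_c59)) :=
  Lgr Lrot51 (Lpe (f3211 IH) (Lpr_af (f557603 IH) (Lpe (f545592 IH) (Lpn (LP (LK LD1_c5 LD2_c7 LD3_c59))))))
theorem f557612 : Led Lsl_ff (LP (LK LD1_c10 LD2_c5 LD3_c56)) = (LP (LK LD1_c5 LD2_c7 LD3_c58)) :=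
  Lgr Lrot30 (Lpr_at (f557609 IH) (Lpr_ft (K38.f548445 IH) (Lpe (K38.f548449 IH) (Lpn (LP (LK LD1_c5 LD2_c7 LD3_c58))))))
theorem f557614 : Led Lsl_ft (LP (LK LD1_c10 LD2_c5 LD3_c56)) = (LP (LK LD1_c5 LD2_c7 LD3_c58)) :=
  Lgr Lrot48 (Lpr_ff (f557612 IH) (Lpn (LP (LK LD1_c5 LD2_c7 LD3_c58))))
theorem f3225 : Led Lsl_dt (LP (LK LD1_c10 LD2_c5 LD3_c56)) = (LP (LK LD1_c18 LD2_c24 LD3_c44)) :=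
  Lre_d IH (LK LD1_c10 LD2_c5 LD3_c56) (LK LD1_c18 LD2_c24 LD3_c44) Lrfl Lrfl
theorem f557597 : Led Lsl_ct (LP (LK LD1_c18 LD2_c24 LD3_c44)) = (LP (LK LD1_c18 LD2_c24 LD3_c39)) :=
  Lgr Lrot59 (Lpr_cf (f557595 IH) (Lpn (LP (LK LD1_c18 LD2_c24 LD3_c39))))
theorem f557565 : Led Lsl_dt (LP (LK LD1_c18 LD2_c24 LD3_c39)) = (LP (LK LD1_c10 LD2_c5 LD3_c53)) :=
  Lre_d IH (LK LD1_c18 LD2_c24 LD3_c39) (LK LD1_c10 LD2_c5 LD3_c53) Lrfl Lrfl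
theorem f557561 : Led Lsl_ct (LP (LK LD1_c10 LD2_c5 LD3_c53)) = (LP (LK LD1_c5 LD2_c7 LD3_c49)) :=
  Lre_c IH (LK LD1_c10 LD2_c5 LD3_c53) (LK LD1_c5 LD2_c7 LD3_c49) Lrfl Lrfl
theorem f548452 : Led Lsl_at (LP (LK LD1_c5 LD2_c7 LD3_c58)) = (LP (LK LD1_c10 LD2_c5 LD3_c55)) :=
  Lgr Lrot100 (Lpr_af (K38.f548449 IH) (Lpn (LP (LK LD1_c10 LD2_c5 LD3_c55))))
theorem f557619 : Led Lsl_dt (LP (LK LD1_c5 LD2_c7 LD3_c49)) = (LP (LK LD1_c2 LD2_c59 LD3_c53)) :=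
  Lgr Lrot140 (Lpe (f557561 IH) (Lpe (f557565 IH) (Lpe (f557597 IH) (Lpe (f3225 IH) (Lpr_ft (f557614 IH) (Lpr_at (f548452 IH) (Lpe (K38.f547999 IH) (Lpe (K38.f548422 IH) (Lpe (K38.f56011 IH) (Lpn (LP (LK LD1_c2 LD2_c59 LD3_c53))))))))))))
theorem f165730 : Led Lsl_ct (LP (LK LD1_c10 LD2_c4 LD3_c55)) = (LP (LK LD1_c5 LD2_c7 LD3_c8)) :=
  Lre_c IH (LK LD1_c10 LD2_c4 LD3_c55) (LK LD1_c5 LD2_c7 LD3_c8) Lrfl Lrfl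
theorem f165734 : Led Lsl_dt (LP (LK LD1_c18 LD2_c23 LD3_c35)) = (LP (LK LD1_c10 LD2_c4 LD3_c55)) :=
  Lre_d IH (LK LD1_c18 LD2_c23 LD3_c35) (LK LD1_c10 LD2_c4 LD3_c55) Lrfl Lrfl
theorem f557633 : Led Lsl_gt (LP (LK LD1_c18 LD2_c24 LD3_c42)) = (LP (LK LD1_c18 LD2_c23 LD3_c35)) :=
  Lgr Lrot49 (Lpe (K38.f548003 IH) (Lpe (K38.f495480 IH) (Lpe (K38.f3193 IH) (Lpr_gt (f22332 IH) (Lpr_dt (f557619 IH) (Lpr_gt (K38.f495663 IH) (Lpqs (K38.f537970 IH) (Lpr_dt (K36.f194038 IH) (Lpe (f165730 IH) (Lpe (f165734 IH) (Lpn (LP (LK LD1_c18 LD2_c23 LD3_c35)))))))))))))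
theorem f211687 : Led Lsl_et (LP (LK LD1_c2 LD2_c59 LD3_c56)) = (LP (LK LD1_c6 LD2_c7 LD3_c29)) :=
  Lre_e IH (LK LD1_c2 LD2_c59 LD3_c56) (LK LD1_c6 LD2_c7 LD3_c29) Lrfl Lrfl
theorem f539279 : Led Lsl_bf (LP (LK LD1_c5 LD2_c0 LD3_c24)) = (LP (LK LD1_c6 LD2_c7 LD3_c29)) :=
  Lgr Lrot96 (Lpr_et (K17.f101575 IH) (Lpr_bt (K37.f539276 IH) (Lpr_et (f211687 IH) (Lpn (LP (LK LD1_c6 LD2_c7 LD3_c29))))))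
theorem f177426 : Led Lsl_dt (LP (LK LD1_c2 LD2_c59 LD3_c55)) = (LP (LK LD1_c6 LD2_c7 LD3_c29)) :=
  Lre_d IH (LK LD1_c2 LD2_c59 LD3_c55) (LK LD1_c6 LD2_c7 LD3_c29) Lrfl Lrfl
theorem f539289 : Led Lsl_bt (LP (LK LD1_c5 LD2_c5 LD3_c51)) = (LP (LK LD1_c2 LD2_c59 LD3_c55)) :=
  Lgr Lrot95 (Lpe (K17.f177685 IH) (Lpr_bf (f539279 IH) (Lpe (f177426 IH) (Lpn (LP (LK LD1_c2 LD2_c59 LD3_c55))))))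
theorem f539293 : Led Lsl_bf (LP (LK LD1_c5 LD2_c5 LD3_c51)) = (LP (LK LD1_c2 LD2_c59 LD3_c55)) :=
  Lgr Lrot24 (Lpr_bt (f539289 IH) (Lpn (LP (LK LD1_c2 LD2_c59 LD3_c55))))
theorem f334827 : Led Lsl_at (LP (LK LD1_c5 LD2_c5 LD3_c51)) = (LP (LK LD1_c5 LD2_c7 LD3_c9)) :=
  Lgr Lrot100 (Lpr_af (K36.f334823 IH) (Lpn (LP (LK LD1_c5 LD2_c7 LD3_c9))))
theorem f165721 : Led Lsl_bt (LP (LK LD1_c5 LD2_c7 LD3_c9)) = (LP (LK LD1_c10 LD2_c4 LD3_c56)) :=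
  Lre_b IH (LK LD1_c5 LD2_c7 LD3_c9) (LK LD1_c10 LD2_c4 LD3_c56) Lrfl Lrfl
theorem f380309 : Led Lsl_dt (LP (LK LD1_c1 LD2_c18 LD3_c59)) = (LP (LK LD1_c2 LD2_c45 LD3_c18)) :=
  Lre_d IH (LK LD1_c1 LD2_c18 LD3_c59) (LK LD1_c2 LD2_c45 LD3_c18) Lrfl Lrfl
theorem f380316 : Led Lsl_et (LP (LK LD1_c2 LD2_c45 LD3_c18)) = (LP (LK LD1_c5 LD2_c38 LD3_c47)) :=
  Lre_e IH (LK LD1_c2 LD2_c45 LD3_c18) (LK LD1_c5 LD2_c38 LD3_c47) Lrfl Lrfl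
theorem f380318 : Led Lsl_et (LP (LK LD1_c11 LD2_c8 LD3_c15)) = (LP (LK LD1_c5 LD2_c38 LD3_c28)) :=
  Lre_e IH (LK LD1_c11 LD2_c8 LD3_c15) (LK LD1_c5 LD2_c38 LD3_c28) Lrfl Lrfl
theorem f380319 : Led Lsl_dt (LP (LK LD1_c5 LD2_c38 LD3_c47)) = (LP (LK LD1_c11 LD2_c8 LD3_c15)) :=
  Lgr Lrot77 (Lpe (f380316 IH) (Lpe (f380309 IH) (Lpr_ef (K35.f380307 IH) (Lpe (K36.f380317 IH) (Lpe (f380318 IH) (Lpn (LP (LK LD1_c11 LD2_c8 LD3_c15))))))))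
theorem f195774 : Led Lsl_bt (LP (LK LD1_c2 LD2_c45 LD3_c20)) = (LP (LK LD1_c5 LD2_c38 LD3_c47)) :=
  Lre_b IH (LK LD1_c2 LD2_c45 LD3_c20) (LK LD1_c5 LD2_c38 LD3_c47) Lrfl Lrfl
theorem f211703 : Led Lsl_bt (LP (LK LD1_c11 LD2_c8 LD3_c15)) = (LP (LK LD1_c5 LD2_c38 LD3_c40)) :=
  Lre_b IH (LK LD1_c11 LD2_c8 LD3_c15) (LK LD1_c5 LD2_c38 LD3_c40) Lrfl Lrfl
theorem f380326 : Led Lsl_df (LP (LK LD1_c2 LD2_c45 LD3_c20)) = (LP (LK LD1_c5 LD2_c38 LD3_c40)) :=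
  Lgr Lrot12 (Lpr_bt (f195774 IH) (Lpr_dt (f380319 IH) (Lpr_bt (f211703 IH) (Lpn (LP (LK LD1_c5 LD2_c38 LD3_c40))))))
theorem f26644 : Led Lsl_et (LP (LK LD1_c6 LD2_c7 LD3_c29)) = (LP (LK LD1_c2 LD2_c59 LD3_c56)) :=
  Lre_e IH (LK LD1_c6 LD2_c7 LD3_c29) (LK LD1_c2 LD2_c59 LD3_c56) Lrfl Lrfl
theorem f211697 : Led Lsl_et (LP (LK LD1_c2 LD2_c45 LD3_c13)) = (LP (LK LD1_c5 LD2_c38 LD3_c40)) :=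
  Lre_e IH (LK LD1_c2 LD2_c45 LD3_c13) (LK LD1_c5 LD2_c38 LD3_c40) Lrfl Lrfl
theorem f211698 : Led Lsl_af (LP (LK LD1_c6 LD2_c7 LD3_c29)) = (LP (LK LD1_c5 LD2_c38 LD3_c40)) :=
  Lgr Lrot50 (Lpr_et (f26644 IH) (Lpr_at (K12.f211692 IH) (Lpr_et (f211697 IH) (Lpn (LP (LK LD1_c5 LD2_c38 LD3_c40))))))
theorem f211701 : Led Lsl_at (LP (LK LD1_c6 LD2_c7 LD3_c29)) = (LP (LK LD1_c5 LD2_c38 LD3_c40)) :=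
  Lgr Lrot100 (Lpr_af (f211698 IH) (Lpn (LP (LK LD1_c5 LD2_c38 LD3_c40))))
theorem f380340 : Led Lsl_at (LP (LK LD1_c2 LD2_c45 LD3_c20)) = (LP (LK LD1_c2 LD2_c59 LD3_c55)) :=
  Lgr Lrot51 (Lpr_df (f380326 IH) (Lpe (f211701 IH) (Lpe (f177426 IH) (Lpn (LP (LK LD1_c2 LD2_c59 LD3_c55))))))
theorem f195769 : Led Lsl_bt (LP (LK LD1_c5 LD2_c38 LD3_c47)) = (LP (LK LD1_c2 LD2_c45 LD3_c20)) :=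
  Lre_b IH (LK LD1_c5 LD2_c38 LD3_c47) (LK LD1_c2 LD2_c45 LD3_c20) Lrfl Lrfl
theorem f539295 : Led Lsl_at (LP (LK LD1_c10 LD2_c4 LD3_c56)) = (LP (LK LD1_c5 LD2_c38 LD3_c47)) :=
  Lgr Lrot67 (Lpe (f165721 IH) (Lpe (f334827 IH) (Lpr_bf (f539293 IH) (Lpe (f380340 IH) (Lpe (f195769 IH) (Lpn (LP (LK LD1_c5 LD2_c38 LD3_c47))))))))
theorem f380302 : Led Lsl_et (LP (LK LD1_c5 LD2_c38 LD3_c47)) = (LP (LK LD1_c2 LD2_c45 LD3_c18)) :=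
  Lre_e IH (LK LD1_c5 LD2_c38 LD3_c47) (LK LD1_c2 LD2_c45 LD3_c18) Lrfl Lrfl
theorem f539297 : Led Lsl_af (LP (LK LD1_c5 LD2_c7 LD3_c8)) = (LP (LK LD1_c2 LD2_c45 LD3_c18)) :=
  Lgr Lrot50 (Lpr_et (K36.f334865 IH) (Lpr_at (f539295 IH) (Lpr_et (f380302 IH) (Lpn (LP (LK LD1_c2 LD2_c45 LD3_c18))))))
theorem f194067 : Led Lsl_bt (LP (LK LD1_c2 LD2_c45 LD3_c18)) = (LP (LK LD1_c1 LD2_c18 LD3_c60)) :=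
  Lre_b IH (LK LD1_c2 LD2_c45 LD3_c18) (LK LD1_c1 LD2_c18 LD3_c60) Lrfl Lrfl
theorem f177551 : Led Lsl_bt (LP (LK LD1_c1 LD2_c25 LD3_c41)) = (LP (LK LD1_c2 LD2_c59 LD3_c54)) :=
  Lre_b IH (LK LD1_c1 LD2_c25 LD3_c41) (LK LD1_c2 LD2_c59 LD3_c54) Lrfl Lrfl
theorem f334459 : Led Lsl_ff (LP (LK LD1_c2 LD2_c45 LD3_c18)) = (LP (LK LD1_c2 LD2_c59 LD3_c54)) :=
  Lgr Lrot25 (Lpr_bt (f194067 IH) (Lpr_ft (K22.f334455 IH) (Lpr_bt (f177551 IH) (Lpn (LP (LK LD1_c2 LD2_c59 LD3_c54))))))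
theorem f169112 : Led Lsl_dt (LP (LK LD1_c2 LD2_c59 LD3_c54)) = (LP (LK LD1_c1 LD2_c25 LD3_c40)) :=
  Lre_d IH (LK LD1_c2 LD2_c59 LD3_c54) (LK LD1_c1 LD2_c25 LD3_c40) Lrfl Lrfl
theorem f169116 : Led Lsl_dt (LP (LK LD1_c1 LD2_c25 LD3_c40)) = (LP (LK LD1_c2 LD2_c59 LD3_c54)) :=
  Lre_d IH (LK LD1_c1 LD2_c25 LD3_c40) (LK LD1_c2 LD2_c59 LD3_c54) Lrfl Lrfl
theorem f169128 : Led Lsl_ct (LP (LK LD1_c2 LD2_c59 LD3_c54)) = (LP (LK LD1_c6 LD2_c7 LD3_c28)) :=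
  Lre_c IH (LK LD1_c2 LD2_c59 LD3_c54) (LK LD1_c6 LD2_c7 LD3_c28) Lrfl Lrfl
theorem f396380 : Led Lsl_dt (LP (LK LD1_c6 LD2_c7 LD3_c28)) = (LP (LK LD1_c11 LD2_c57 LD3_c35)) :=
  Lre_d IH (LK LD1_c6 LD2_c7 LD3_c28) (LK LD1_c11 LD2_c57 LD3_c35) Lrfl Lrfl
theorem f539305 : Led Lsl_cf (LP (LK LD1_c18 LD2_c23 LD3_c35)) = (LP (LK LD1_c11 LD2_c57 LD3_c35)) :=
  Lgr Lrot161 (Lpr_dt (f165734 IH) (Lpr_ct (f165730 IH) (Lpr_af (f539297 IH) (Lpr_ff (f334459 IH) (Lpr_dt (f169112 IH) (Lpr_ct (K35.f177811 IH) (Lpr_dt (f169116 IH) (Lpr_ct (f169128 IH) (Lpr_dt (f396380 IH) (Lpn (LP (LK LD1_c11 LD2_c57 LD3_c35))))))))))))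
theorem f539307 : Led Lsl_ct (LP (LK LD1_c18 LD2_c23 LD3_c35)) = (LP (LK LD1_c11 LD2_c57 LD3_c35)) :=
  Lgr Lrot59 (Lpr_cf (f539305 IH) (Lpn (LP (LK LD1_c11 LD2_c57 LD3_c35))))
theorem f3279 : Led Lsl_dt (LP (LK LD1_c1 LD2_c12 LD3_c33)) = (LP (LK LD1_c2 LD2_c31 LD3_c5)) :=
  Lre_d IH (LK LD1_c1 LD2_c12 LD3_c33) (LK LD1_c2 LD2_c31 LD3_c5) Lrfl Lrfl
theorem f544933 : Led Lsl_gt (LP (LK LD1_c2 LD2_c31 LD3_c5)) = (LP (LK LD1_c2 LD2_c59 LD3_c54)) :=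
  Lgr Lrot139 (Lpe (f3279 IH) (Lpe (K27.f3278 IH) (Lpe (K7.f22225 IH) (Lpr_dt (K7.f8355 IH) (Lpe (K8.f8360 IH) (Lpe (K8.f157202 IH) (Lpr_et (K38.f494263 IH) (Lpqs (K38.f544926 IH) (Lpe (K38.f169115 IH) (Lpr_ef (K35.f169108 IH) (Lpr_dt (f169116 IH) (Lpn (LP (LK LD1_c2 LD2_c59 LD3_c54))))))))))))))
theorem f427496 : Led Lsl_ct (LP (LK LD1_c5 LD2_c7 LD3_c40)) = (LP (LK LD1_c2 LD2_c31 LD3_c5)) :=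
  Lre_c IH (LK LD1_c5 LD2_c7 LD3_c40) (LK LD1_c2 LD2_c31 LD3_c5) Lrfl Lrfl
theorem f427497 : Led Lsl_gt (LP (LK LD1_c10 LD2_c5 LD3_c34)) = (LP (LK LD1_c5 LD2_c7 LD3_c40)) :=
  Lre_g IH (LK LD1_c10 LD2_c5 LD3_c34) (LK LD1_c5 LD2_c7 LD3_c40) Lrfl Lrfl
theorem f557645 : Led Lsl_dt (LP (LK LD1_c18 LD2_c24 LD3_c15)) = (LP (LK LD1_c10 LD2_c5 LD3_c34)) :=
  Lre_d IH (LK LD1_c18 LD2_c24 LD3_c15) (LK LD1_c10 LD2_c5 LD3_c34) Lrfl Lrfl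
theorem f557646 : Led Lsl_gf (LP (LK LD1_c11 LD2_c25 LD3_c48)) = (LP (LK LD1_c18 LD2_c24 LD3_c15)) :=
  Lgr Lrot147 (Lpr_ct (f548435 IH) (Lpr_gt (f557633 IH) (Lpr_ct (f539307 IH) (Lpe (f396380 IH) (Lpe (f169128 IH) (Lpe (f544933 IH) (Lpe (f427496 IH) (Lpe (f427497 IH) (Lpe (f557645 IH) (Lpn (LP (LK LD1_c18 LD2_c24 LD3_c15))))))))))))
theorem f557648 : Led Lsl_dt (LP (LK LD1_c10 LD2_c5 LD3_c34)) = (LP (LK LD1_c18 LD2_c24 LD3_c15)) :=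
  Lre_d IH (LK LD1_c10 LD2_c5 LD3_c34) (LK LD1_c18 LD2_c24 LD3_c15) Lrfl Lrfl
theorem f557651 : Led Lsl_gt (LP (LK LD1_c5 LD2_c7 LD3_c47)) = (LP (LK LD1_c10 LD2_c5 LD3_c34)) :=
  Lre_g IH (LK LD1_c5 LD2_c7 LD3_c47) (LK LD1_c10 LD2_c5 LD3_c34) Lrfl Lrfl
theorem f495351 : Led Lsl_ct (LP (LK LD1_c2 LD2_c31 LD3_c10)) = (LP (LK LD1_c5 LD2_c7 LD3_c47)) :=
  Lre_c IH (LK LD1_c2 LD2_c31 LD3_c10) (LK LD1_c5 LD2_c7 LD3_c47) Lrfl Lrfl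
theorem f557652 : Led Lsl_gf (LP (LK LD1_c5 LD2_c7 LD3_c8)) = (LP (LK LD1_c2 LD2_c31 LD3_c10)) :=
  Lgr Lrot144 (Lpe (K36.f334858 IH) (Lpq (K38.f547956 IH) (Lpe (K35.f496044 IH) (Lpr_dt (f132476 IH) (Lpe (K38.f132355 IH) (Lpe (K38.f132356 IH) (Lpr_gf (f557646 IH) (Lpe (f557648 IH) (Lpe (f557651 IH) (Lpe (f495351 IH) (Lpn (LP (LK LD1_c2 LD2_c31 LD3_c10)))))))))))))
theorem f165704 : Led Lsl_bt (LP (LK LD1_c2 LD2_c30 LD3_c55)) = (LP (LK LD1_c5 LD2_c7 LD3_c8)) :=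
  Lre_b IH (LK LD1_c2 LD2_c30 LD3_c55) (LK LD1_c5 LD2_c7 LD3_c8) Lrfl Lrfl
theorem f169805 : Led Lsl_bt (LP (LK LD1_c1 LD2_c12 LD3_c22)) = (LP (LK LD1_c2 LD2_c30 LD3_c41)) :=
  Lre_b IH (LK LD1_c1 LD2_c12 LD3_c22) (LK LD1_c2 LD2_c30 LD3_c41) Lrfl Lrfl
theorem f169807 : Led Lsl_ct (LP (LK LD1_c5 LD2_c6 LD3_c48)) = (LP (LK LD1_c10 LD2_c4 LD3_c21)) :=
  Lre_c IH (LK LD1_c5 LD2_c6 LD3_c48) (LK LD1_c10 LD2_c4 LD3_c21) Lrfl Lrfl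
theorem f557664 : Led Lsl_bt (LP (LK LD1_c5 LD2_c7 LD3_c45)) = (LP (LK LD1_c2 LD2_c31 LD3_c10)) :=
  Lre_b IH (LK LD1_c5 LD2_c7 LD3_c45) (LK LD1_c2 LD2_c31 LD3_c10) Lrfl Lrfl
theorem f428080 : Led Lsl_ct (LP (LK LD1_c5 LD2_c7 LD3_c45)) = (LP (LK LD1_c10 LD2_c5 LD3_c45)) :=
  Lre_c IH (LK LD1_c5 LD2_c7 LD3_c45) (LK LD1_c10 LD2_c5 LD3_c45) Lrfl Lrfl
theorem f557666 : Led Lsl_gt (LP (LK LD1_c10 LD2_c4 LD3_c21)) = (LP (LK LD1_c10 LD2_c5 LD3_c45)) :=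
  Lgr Lrot149 (Lpe (f169807 IH) (Lpe (K39.f169806 IH) (Lpe (f169805 IH) (Lpe (K15.f169770 IH) (Lpr_gf (K10.f194053 IH) (Lpr_cf (K10.f165707 IH) (Lpr_bt (f165704 IH) (Lpr_gf (f557652 IH) (Lpe (f557664 IH) (Lpr_ct (f428080 IH) (Lpn (LP (LK LD1_c10 LD2_c5 LD3_c45)))))))))))))
theorem f201384 : Led Lsl_dt (LP (LK LD1_c2 LD2_c30 LD3_c41)) = (LP (LK LD1_c1 LD2_c12 LD3_c21)) :=
  Lre_d IH (LK LD1_c2 LD2_c30 LD3_c41) (LK LD1_c1 LD2_c12 LD3_c21) Lrfl Lrfl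
theorem f428082 : Led Lsl_ct (LP (LK LD1_c10 LD2_c5 LD3_c45)) = (LP (LK LD1_c5 LD2_c7 LD3_c45)) :=
  Lre_c IH (LK LD1_c10 LD2_c5 LD3_c45) (LK LD1_c5 LD2_c7 LD3_c45) Lrfl Lrfl
theorem f428079 : Led Lsl_dt (LP (LK LD1_c2 LD2_c31 LD3_c8)) = (LP (LK LD1_c5 LD2_c7 LD3_c45)) :=
  Lre_d IH (LK LD1_c2 LD2_c31 LD3_c8) (LK LD1_c5 LD2_c7 LD3_c45) Lrfl Lrfl
theorem f557669 : Led Lsl_gt (LP (LK LD1_c4 LD2_c37 LD3_c4)) = (LP (LK LD1_c5 LD2_c7 LD3_c44)) :=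
  Lgr Lrot150 (Lpe (K35.f538304 IH) (Lpqs (K38.f542387 IH) (Lpe (K38.f495326 IH) (Lpe (f201384 IH) (Lpr_gt (K39.f169806 IH) (Lpr_ct (f169807 IH) (Lpr_gt (f557666 IH) (Lpr_ct (f428082 IH) (Lpe (f428079 IH) (Lpe (K36.f421471 IH) (Lpn (LP (LK LD1_c5 LD2_c7 LD3_c44)))))))))))))
theorem f538362 : Led Lsl_ft (LP (LK LD1_c4 LD2_c37 LD3_c4)) = (LP (LK LD1_c2 LD2_c15 LD3_c43)) :=
  Lre_f IH (LK LD1_c4 LD2_c37 LD3_c4) (LK LD1_c2 LD2_c15 LD3_c43) Lrfl Lrfl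
theorem f538339 : Led Lsl_af (LP (LK LD1_c4 LD2_c5 LD3_c35)) = (LP (LK LD1_c2 LD2_c15 LD3_c43)) :=
  Lgr Lrot117 (Lpe (K35.f211606 IH) (Lpr_at (K35.f538328 IH) (Lpr_dt (K35.f494444 IH) (Lpn (LP (LK LD1_c2 LD2_c15 LD3_c43))))))
theorem f557673 : Led Lsl_gf (LP (LK LD1_c4 LD2_c5 LD3_c35)) = (LP (LK LD1_c5 LD2_c7 LD3_c44)) :=
  Lgr Lrot76 (Lpr_af (f538339 IH) (Lpe (f538362 IH) (Lpr_gt (f557669 IH) (Lpn (LP (LK LD1_c5 LD2_c7 LD3_c44))))))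
theorem f3297 : Led Lsl_ct (LP (LK LD1_c2 LD2_c31 LD3_c8)) = (LP (LK LD1_c5 LD2_c7 LD3_c44)) :=
  Lre_c IH (LK LD1_c2 LD2_c31 LD3_c8) (LK LD1_c5 LD2_c7 LD3_c44) Lrfl Lrfl
theorem f387242 : Led Lsl_bt (LP (LK LD1_c2 LD2_c27 LD3_c15)) = (LP (LK LD1_c4 LD2_c58 LD3_c27)) :=
  Lre_b IH (LK LD1_c2 LD2_c27 LD3_c15) (LK LD1_c4 LD2_c58 LD3_c27) Lrfl Lrfl
theorem f557679 : Led Lsl_gt (LP (LK LD1_c2 LD2_c59 LD3_c43)) = (LP (LK LD1_c4 LD2_c58 LD3_c34)) :=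
  Lgr Lrot65 (Lpr_cf (K18.f205198 IH) (Lpr_bt (K27.f176943 IH) (Lpr_gf (K11.f198645 IH) (Lpe (K35.f198665 IH) (Lpr_ct (K35.f198667 IH) (Lpr_gf (f557673 IH) (Lpe (f3297 IH) (Lpr_gf (K36.f428075 IH) (Lpe (f387242 IH) (Lpr_ct (K38.f387243 IH) (Lpn (LP (LK LD1_c4 LD2_c58 LD3_c34)))))))))))))
theorem f444463 : Led Lsl_ft (LP (LK LD1_c3 LD2_c0 LD3_c17)) = (LP (LK LD1_c1 LD2_c25 LD3_c53)) :=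
  Lre_f IH (LK LD1_c3 LD2_c0 LD3_c17) (LK LD1_c1 LD2_c25 LD3_c53) Lrfl Lrfl
theorem f75969 : Led Lsl_at (LP (LK LD1_c1 LD2_c25 LD3_c53)) = (LP (LK LD1_c3 LD2_c0 LD3_c13)) :=
  Lre_a IH (LK LD1_c1 LD2_c25 LD3_c53) (LK LD1_c3 LD2_c0 LD3_c13) Lrfl Lrfl
theorem f557485 : Led Lsl_gf (LP (LK LD1_c3 LD2_c0 LD3_c13)) = (LP (LK LD1_c5 LD2_c57 LD3_c48)) :=
  Lgr Lrot76 (Lpe (f75969 IH) (Lpe (f444463 IH) (Lpr_gt (f557481 IH) (Lpn (LP (LK LD1_c5 LD2_c57 LD3_c48))))))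
theorem f56218 : Led Lsl_at (LP (LK LD1_c2 LD2_c16 LD3_c57)) = (LP (LK LD1_c4 LD2_c39 LD3_c41)) :=
  Lre_a IH (LK LD1_c2 LD2_c16 LD3_c57) (LK LD1_c4 LD2_c39 LD3_c41) Lrfl Lrfl
theorem f56219 : Led Lsl_cf (LP (LK LD1_c8 LD2_c25 LD3_c52)) = (LP (LK LD1_c4 LD2_c39 LD3_c41)) :=
  Lgr Lrot1 (Lpr_at (K38.f46858 IH) (Lpr_ct (K28.f56204 IH) (Lpr_at (f56218 IH) (Lpn (LP (LK LD1_c4 LD2_c39 LD3_c41))))))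
theorem f46628 : Led Lsl_at (LP (LK LD1_c8 LD2_c10 LD3_c31)) = (LP (LK LD1_c4 LD2_c4 LD3_c56)) :=
  Lre_a IH (LK LD1_c8 LD2_c10 LD3_c31) (LK LD1_c4 LD2_c4 LD3_c56) Lrfl Lrfl
theorem f46629 : Led Lsl_bt (LP (LK LD1_c2 LD2_c4 LD3_c7)) = (LP (LK LD1_c4 LD2_c13 LD3_c32)) :=
  Lre_b IH (LK LD1_c2 LD2_c4 LD3_c7) (LK LD1_c4 LD2_c13 LD3_c32) Lrfl Lrfl
theorem f46631 : Led Lsl_bf (LP (LK LD1_c8 LD2_c10 LD3_c31)) = (LP (LK LD1_c8 LD2_c25 LD3_c52)) :=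
  Lgr Lrot81 (Lpr_at (f46628 IH) (Lpr_bt (K2.f46627 IH) (Lpr_at (K1.f46623 IH) (Lpr_bt (f46629 IH) (Lpr_at (K28.f46630 IH) (Lpn (LP (LK LD1_c8 LD2_c25 LD3_c52))))))))
theorem f46867 : Led Lsl_ct (LP (LK LD1_c8 LD2_c10 LD3_c31)) = (LP (LK LD1_c4 LD2_c5 LD3_c47)) :=
  Lre_c IH (LK LD1_c8 LD2_c10 LD3_c31) (LK LD1_c4 LD2_c5 LD3_c47) Lrfl Lrfl
theorem f56267 : Led Lsl_ct (LP (LK LD1_c4 LD2_c7 LD3_c6)) = (LP (LK LD1_c3 LD2_c0 LD3_c5)) :=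
  Lgr Lrot83 (Lpe (K10.f55847 IH) (Lpe (f46867 IH) (Lpr_bf (f46631 IH) (Lpr_cf (f56219 IH) (Lpe (K36.f56266 IH) (Lpn (LP (LK LD1_c3 LD2_c0 LD3_c5))))))))
theorem f55850 : Led Lsl_ft (LP (LK LD1_c2 LD2_c0 LD3_c60)) = (LP (LK LD1_c4 LD2_c7 LD3_c6)) :=
  Lre_f IH (LK LD1_c2 LD2_c0 LD3_c60) (LK LD1_c4 LD2_c7 LD3_c6) Lrfl Lrfl
theorem f56273 : Led Lsl_ft (LP (LK LD1_c3 LD2_c0 LD3_c5)) = (LP (LK LD1_c1 LD2_c25 LD3_c52)) :=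
  Lre_f IH (LK LD1_c3 LD2_c0 LD3_c5) (LK LD1_c1 LD2_c25 LD3_c52) Lrfl Lrfl
theorem f56274 : Led Lsl_cf (LP (LK LD1_c2 LD2_c0 LD3_c60)) = (LP (LK LD1_c1 LD2_c25 LD3_c52)) :=
  Lgr Lrot108 (Lpr_ft (f55850 IH) (Lpr_ct (f56267 IH) (Lpr_ft (f56273 IH) (Lpn (LP (LK LD1_c1 LD2_c25 LD3_c52))))))
theorem f55882 : Led Lsl_dt (LP (LK LD1_c4 LD2_c7 LD3_c15)) = (LP (LK LD1_c2 LD2_c0 LD3_c60)) :=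
  Lre_d IH (LK LD1_c4 LD2_c7 LD3_c15) (LK LD1_c2 LD2_c0 LD3_c60) Lrfl Lrfl
theorem f55902 : Led Lsl_gt (LP (LK LD1_c8 LD2_c14 LD3_c50)) = (LP (LK LD1_c4 LD2_c7 LD3_c15)) :=
  Lre_g IH (LK LD1_c8 LD2_c14 LD3_c50) (LK LD1_c4 LD2_c7 LD3_c15) Lrfl Lrfl
theorem f557699 : Led Lsl_df (LP (LK LD1_c8 LD2_c14 LD3_c50)) = (LP (LK LD1_c4 LD2_c58 LD3_c34)) :=
  Lgr Lrot153 (Lpr_gt (f55902 IH) (Lpr_dt (f55882 IH) (Lpr_cf (f56274 IH) (Lpe (K5.f56283 IH) (Lpr_gf (f557485 IH) (Lpe (f426223 IH) (Lpr_gf (K36.f500655 IH) (Lpq (K36.f539678 IH) (Lpe (K27.f205200 IH) (Lpr_gt (f557679 IH) (Lpn (LP (LK LD1_c4 LD2_c58 LD3_c34)))))))))))))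
theorem f55821 : Led Lsl_dt (LP (LK LD1_c2 LD2_c0 LD3_c60)) = (LP (LK LD1_c4 LD2_c7 LD3_c15)) :=
  Lre_d IH (LK LD1_c2 LD2_c0 LD3_c60) (LK LD1_c4 LD2_c7 LD3_c15) Lrfl Lrfl
theorem f56027 : Led Lsl_et (LP (LK LD1_c2 LD2_c0 LD3_c60)) = (LP (LK LD1_c1 LD2_c24 LD3_c50)) :=
  Lgr Lrot123 (Lpe (K10.f55876 IH) (Lpr_ef (K1.f56018 IH) (Lpe (K2.f56026 IH) (Lpn (LP (LK LD1_c1 LD2_c24 LD3_c50))))))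
theorem f557705 : Led Lsl_ef (LP (LK LD1_c2 LD2_c27 LD3_c48)) = (LP (LK LD1_c4 LD2_c58 LD3_c34)) :=
  Lgr Lrot17 (Lpe (K31.f104895 IH) (Lpe (K36.f80034 IH) (Lpr_dt (K6.f26449 IH) (Lpe (K4.f26003 IH) (Lpe (K4.f104805 IH) (Lpe (K4.f72866 IH) (Lpe (f56027 IH) (Lpr_dt (f55821 IH) (Lpe (f55902 IH) (Lpr_df (f557699 IH) (Lpn (LP (LK LD1_c4 LD2_c58 LD3_c34)))))))))))))
theorem f175581 : Led Lsl_bt (LP (LK LD1_c2 LD2_c27 LD3_c48)) = (LP (LK LD1_c5 LD2_c0 LD3_c3)) :=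
  Lre_b IH (LK LD1_c2 LD2_c27 LD3_c48) (LK LD1_c5 LD2_c0 LD3_c3) Lrfl Lrfl
theorem f421460 : Led Lsl_bt (LP (LK LD1_c9 LD2_c47 LD3_c38)) = (LP (LK LD1_c4 LD2_c58 LD3_c34)) :=
  Lre_b IH (LK LD1_c9 LD2_c47 LD3_c38) (LK LD1_c4 LD2_c58 LD3_c34) Lrfl Lrfl
theorem f557709 : Led Lsl_et (LP (LK LD1_c5 LD2_c0 LD3_c3)) = (LP (LK LD1_c9 LD2_c47 LD3_c38)) :=
  Lgr Lrot74 (Lpe (f175581 IH) (Lpr_ef (f557705 IH) (Lpe (f421460 IH) (Lpn (LP (LK LD1_c9 LD2_c47 LD3_c38))))))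
theorem f421405 : Led Lsl_ft (LP (LK LD1_c9 LD2_c47 LD3_c38)) = (LP (LK LD1_c4 LD2_c58 LD3_c30)) :=
  Lre_f IH (LK LD1_c9 LD2_c47 LD3_c38) (LK LD1_c4 LD2_c58 LD3_c30) Lrfl Lrfl
theorem f119689 : Led Lsl_et (LP (LK LD1_c4 LD2_c58 LD3_c30)) = (LP (LK LD1_c2 LD2_c27 LD3_c5)) :=
  Lre_e IH (LK LD1_c4 LD2_c58 LD3_c30) (LK LD1_c2 LD2_c27 LD3_c5) Lrfl Lrfl
theorem f160928 : Led Lsl_ff (LP (LK LD1_c3 LD2_c59 LD3_c27)) = (LP (LK LD1_c2 LD2_c27 LD3_c5)) :=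
  Lgr Lrot19 (Lpr_dt (K8.f160919 IH) (Lpe (K8.f139277 IH) (Lpr_dt (K6.f24077 IH) (Lpn (LP (LK LD1_c2 LD2_c27 LD3_c5))))))
theorem f160927 : Led Lsl_et (LP (LK LD1_c3 LD2_c59 LD3_c27)) = (LP (LK LD1_c8 LD2_c0 LD3_c4)) :=
  Lre_e IH (LK LD1_c3 LD2_c59 LD3_c27) (LK LD1_c8 LD2_c0 LD3_c4) Lrfl Lrfl
theorem f557717 : Led Lsl_ff (LP (LK LD1_c5 LD2_c0 LD3_c3)) = (LP (LK LD1_c8 LD2_c0 LD3_c4)) :=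
  Lgr Lrot72 (Lpr_et (f557709 IH) (Lpr_ft (f421405 IH) (Lpr_et (f119689 IH) (Lpe (f160928 IH) (Lpr_et (f160927 IH) (Lpn (LP (LK LD1_c8 LD2_c0 LD3_c4))))))))
theorem f158397 : Led Lsl_at (LP (LK LD1_c3 LD2_c59 LD3_c30)) = (LP (LK LD1_c8 LD2_c0 LD3_c4)) :=
  Lre_a IH (LK LD1_c3 LD2_c59 LD3_c30) (LK LD1_c8 LD2_c0 LD3_c4) Lrfl Lrfl
theorem f557719 : Led Lsl_at (LP (LK LD1_c5 LD2_c0 LD3_c3)) = (LP (LK LD1_c8 LD2_c0 LD3_c9)) :=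
  Lgr Lrot66 (Lpr_ff (f557717 IH) (Lpe (f158397 IH) (Lpe (K36.f421454 IH) (Lpn (LP (LK LD1_c8 LD2_c0 LD3_c9))))))
theorem f500908 : Led Lsl_bf (LP (LK LD1_c1 LD2_c24 LD3_c13)) = K36.v1700 :=
  Lgr Lrot24 (Lpr_bt (K36.f500907 IH) (Lpn K36.v1700))
theorem f428156 : Led Lsl_ct (LP (LK LD1_c2 LD2_c55 LD3_c45)) = (LP (LK LD1_c1 LD2_c23 LD3_c51)) :=
  Lgr Lrot59 (Lpr_cf (K36.f426083 IH) (Lpn (LP (LK LD1_c1 LD2_c23 LD3_c51))))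
theorem f556717 : Led Lsl_gf (LP (LK LD1_c8 LD2_c0 LD3_c9)) = (LP (LK LD1_c4 LD2_c34 LD3_c47)) :=
  Lgr Lrot181 (Lpr_ct (K39.f556706 IH) (Lpr_gt (K39.f545957 IH) (Lpe (K39.f418492 IH) (Lpr_bt (K37.f500568 IH) (Lpq (K37.f545826 IH) (Lpr_gt (K31.f101562 IH) (Lpr_bf (f500908 IH) (Lpq (K36.f539248 IH) (Lpr_ct (f428156 IH) (Lpr_gt (K38.f500717 IH) (Lpqs (K38.f539956 IH) (Lpe (K2.f72371 IH) (Lpr_bt (K2.f72278 IH) (Lpn (LP (LK LD1_c4 LD2_c34 LD3_c47))))))))))))))))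
theorem f557727 : Led Lsl_gf (LP (LK LD1_c4 LD2_c34 LD3_c47)) = (LP (LK LD1_c8 LD2_c0 LD3_c4)) :=
  Lgr Lrot47 (Lpe (f556717 IH) (Lpe (f557719 IH) (Lpr_ff (f557717 IH) (Lpn (LP (LK LD1_c8 LD2_c0 LD3_c4))))))
theorem f208538 : Led Lsl_bt (LP (LK LD1_c1 LD2_c21 LD3_c55)) = (LP (LK LD1_c2 LD2_c51 LD3_c41)) :=
  Lre_b IH (LK LD1_c1 LD2_c21 LD3_c55) (LK LD1_c2 LD2_c51 LD3_c41) Lrfl Lrfl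
theorem f72384 : Led Lsl_bt (LP (LK LD1_c4 LD2_c34 LD3_c47)) = (LP (LK LD1_c2 LD2_c14 LD3_c29)) :=
  Lre_b IH (LK LD1_c4 LD2_c34 LD3_c47) (LK LD1_c2 LD2_c14 LD3_c29) Lrfl Lrfl
theorem f545260 : Led Lsl_at (LP (LK LD1_c5 LD2_c56 LD3_c21)) = (LP (LK LD1_c4 LD2_c34 LD3_c47)) :=
  Lgr Lrot67 (Lpr_bf (K38.f545251 IH) (Lpe (K6.f137825 IH) (Lpe (f208538 IH) (Lpr_af (K36.f208521 IH) (Lpe (f72384 IH) (Lpn (LP (LK LD1_c4 LD2_c34 LD3_c47))))))))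
theorem f24490 : Led Lsl_ct (LP (LK LD1_c5 LD2_c56 LD3_c21)) = (LP (LK LD1_c2 LD2_c54 LD3_c30)) :=
  Lre_c IH (LK LD1_c5 LD2_c56 LD3_c21) (LK LD1_c2 LD2_c54 LD3_c30) Lrfl Lrfl
theorem f210974 : Led Lsl_ct (LP (LK LD1_c5 LD2_c55 LD3_c49)) = (LP (LK LD1_c11 LD2_c36 LD3_c50)) :=
  Lre_c IH (LK LD1_c5 LD2_c55 LD3_c49) (LK LD1_c11 LD2_c36 LD3_c50) Lrfl Lrfl
theorem f553466 : Led Lsl_ff (LP (LK LD1_c5 LD2_c56 LD3_c21)) = (LP (LK LD1_c11 LD2_c36 LD3_c50)) :=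
  Lgr Lrot23 (Lpr_ct (f24490 IH) (Lpr_ft (K39.f553461 IH) (Lpr_ct (f210974 IH) (Lpn (LP (LK LD1_c11 LD2_c36 LD3_c50))))))
theorem f557730 : Led Lsl_gt (LP (LK LD1_c11 LD2_c36 LD3_c50)) = (LP (LK LD1_c8 LD2_c0 LD3_c4)) :=
  Lgr Lrot5 (Lpe (f553466 IH) (Lpr_at (f545260 IH) (Lpr_gf (f557727 IH) (Lpn (LP (LK LD1_c8 LD2_c0 LD3_c4))))))
theorem f161264 : Led Lsl_ct (LP (LK LD1_c4 LD2_c25 LD3_c60)) = (LP (LK LD1_c8 LD2_c0 LD3_c4)) :=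
  Lgr Lrot15 (Lpe (K39.f161097 IH) (Lpr_cf (K8.f161262 IH) (Lpe (K8.f160918 IH) (Lpn (LP (LK LD1_c8 LD2_c0 LD3_c4))))))
theorem f557736 : Led Lsl_gf (LP (LK LD1_c4 LD2_c25 LD3_c3)) = (LP (LK LD1_c2 LD2_c10 LD3_c20)) :=
  Lgr Lrot124 (Lpe (K36.f36459 IH) (Lpr_ct (K12.f36454 IH) (Lpr_gt (K12.f210971 IH) (Lpe (K1.f37506 IH) (Lpr_bt (K37.f82069 IH) (Lpr_gt (K39.f82067 IH) (Lpr_ct (f210974 IH) (Lpr_gt (f557730 IH) (Lpe (f161264 IH) (Lpr_bt (K39.f424926 IH) (Lpn (LP (LK LD1_c2 LD2_c10 LD3_c20)))))))))))))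
theorem f82193 : Led Lsl_bt (LP (LK LD1_c1 LD2_c23 LD3_c20)) = (LP (LK LD1_c0 LD2_c38 LD3_c35)) :=
  Lre_b IH (LK LD1_c1 LD2_c23 LD3_c20) (LK LD1_c0 LD2_c38 LD3_c35) Lrfl Lrfl
theorem f193891 : Led Lsl_ct (LP (LK LD1_c11 LD2_c36 LD3_c50)) = (LP (LK LD1_c5 LD2_c55 LD3_c49)) :=
  Lre_c IH (LK LD1_c11 LD2_c36 LD3_c50) (LK LD1_c5 LD2_c55 LD3_c49) Lrfl Lrfl
theorem f139015 : Led Lsl_ct (LP (LK LD1_c4 LD2_c26 LD3_c0)) = (LP (LK LD1_c2 LD2_c10 LD3_c20)) :=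
  Lre_c IH (LK LD1_c4 LD2_c26 LD3_c0) (LK LD1_c2 LD2_c10 LD3_c20) Lrfl Lrfl
theorem f139018 : Led Lsl_gt (LP (LK LD1_c8 LD2_c49 LD3_c21)) = (LP (LK LD1_c4 LD2_c26 LD3_c0)) :=
  Lre_g IH (LK LD1_c8 LD2_c49 LD3_c21) (LK LD1_c4 LD2_c26 LD3_c0) Lrfl Lrfl
theorem f557751 : Led Lsl_bt (LP (LK LD1_c11 LD2_c36 LD3_c50)) = (LP (LK LD1_c8 LD2_c49 LD3_c21)) :=
  Lgr Lrot130 (Lpr_ct (f193891 IH) (Lpe (K39.f82067 IH) (Lpe (K37.f82071 IH) (Lpr_bt (f82193 IH) (Lpr_gf (K12.f193808 IH) (Lpe (K36.f26715 IH) (Lpe (K36.f210975 IH) (Lpr_gf (f557736 IH) (Lpe (f139015 IH) (Lpe (f139018 IH) (Lpn (LP (LK LD1_c8 LD2_c49 LD3_c21)))))))))))))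
theorem f101576 : Led Lsl_bt (LP (LK LD1_c1 LD2_c23 LD3_c27)) = (LP (LK LD1_c2 LD2_c15 LD3_c30)) :=
  Lre_b IH (LK LD1_c1 LD2_c23 LD3_c27) (LK LD1_c2 LD2_c15 LD3_c30) Lrfl Lrfl
theorem f72502 : Led Lsl_ct (LP (LK LD1_c1 LD2_c23 LD3_c27)) = (LP (LK LD1_c2 LD2_c26 LD3_c59)) :=
  Lre_c IH (LK LD1_c1 LD2_c23 LD3_c27) (LK LD1_c2 LD2_c26 LD3_c59) Lrfl Lrfl
theorem f76111 : Led Lsl_gt (LP (LK LD1_c4 LD2_c57 LD3_c43)) = (LP (LK LD1_c2 LD2_c26 LD3_c59)) :=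
  Lre_g IH (LK LD1_c4 LD2_c57 LD3_c43) (LK LD1_c2 LD2_c26 LD3_c59) Lrfl Lrfl
theorem f557764 : Led Lsl_cf (LP (LK LD1_c4 LD2_c57 LD3_c43)) = (LP (LK LD1_c2 LD2_c27 LD3_c16)) :=
  Lgr Lrot160 (Lpr_gt (f76111 IH) (Lpe (f72502 IH) (Lpr_bt (f101576 IH) (Lpqs (K37.f542336 IH) (Lpr_gt (K37.f500533 IH) (Lpr_ct (K37.f82071 IH) (Lpr_gt (K39.f82067 IH) (Lpe (f193891 IH) (Lpr_bt (f557751 IH) (Lpr_gt (f139018 IH) (Lpr_bf (K39.f139011 IH) (Lpn (LP (LK LD1_c2 LD2_c27 LD3_c16))))))))))))))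
theorem f100699 : Led Lsl_gt (LP (LK LD1_c2 LD2_c26 LD3_c43)) = (LP (LK LD1_c4 LD2_c57 LD3_c43)) :=
  Lre_g IH (LK LD1_c2 LD2_c26 LD3_c43) (LK LD1_c4 LD2_c57 LD3_c43) Lrfl Lrfl
theorem f494522 : Led Lsl_bf (LP (LK LD1_c1 LD2_c5 LD3_c11)) = K35.v1281 :=
  Lgr Lrot24 (Lpr_bt (K35.f494521 IH) (Lpn K35.v1281))
theorem f494523 : Led Lsl_cf (LP (LK LD1_c4 LD2_c27 LD3_c0)) = K35.v1281 :=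
  Lgr Lrot97 (Lpr_bt (K35.f80954 IH) (Lpr_ct (K13.f80936 IH) (Lpr_bt (K36.f176789 IH) (Lpe (K9.f175893 IH) (Lpr_bt (K35.f494521 IH) (Lpn K35.v1281))))))
theorem f494623 : Led Lsl_bt (LP (LK LD1_c5 LD2_c45 LD3_c2)) = (LP (LK LD1_c2 LD2_c48 LD3_c19)) :=
  Lre_b IH (LK LD1_c5 LD2_c45 LD3_c2) (LK LD1_c2 LD2_c48 LD3_c19) Lrfl Lrfl
theorem f428171 : Led Lsl_dt (LP (LK LD1_c5 LD2_c58 LD3_c38)) = (LP (LK LD1_c2 LD2_c55 LD3_c45)) :=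
  Lre_d IH (LK LD1_c5 LD2_c58 LD3_c38) (LK LD1_c2 LD2_c55 LD3_c45) Lrfl Lrfl
theorem f539585 : Led Lsl_dt (LP (LK LD1_c5 LD2_c45 LD3_c2)) = (LP (LK LD1_c11 LD2_c20 LD3_c31)) :=
  Lre_d IH (LK LD1_c5 LD2_c45 LD3_c2) (LK LD1_c11 LD2_c20 LD3_c31) Lrfl Lrfl
theorem f539586 : Led Lsl_ft (LP (LK LD1_c2 LD2_c55 LD3_c45)) = (LP (LK LD1_c5 LD2_c45 LD3_c2)) :=
  Lgr Lrot54 (Lpe (f428171 IH) (Lpr_ff (K36.f539578 IH) (Lpe (f539585 IH) (Lpn (LP (LK LD1_c5 LD2_c45 LD3_c2))))))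
theorem f539597 : Led Lsl_af (LP (LK LD1_c2 LD2_c55 LD3_c50)) = (LP (LK LD1_c5 LD2_c45 LD3_c2)) :=
  Lgr Lrot50 (Lpr_et (K36.f386831 IH) (Lpr_at (K38.f427477 IH) (Lpr_et (K36.f539595 IH) (Lpn (LP (LK LD1_c5 LD2_c45 LD3_c2))))))
theorem f539933 : Led Lsl_gt (LP (LK LD1_c2 LD2_c51 LD3_c44)) = (LP (LK LD1_c2 LD2_c55 LD3_c50)) :=
  Lgr Lrot46 (Lpr_gf (K37.f539931 IH) (Lpq (K36.f539248 IH) (Lpr_ft (f539586 IH) (Lpe (f539597 IH) (Lpn (LP (LK LD1_c2 LD2_c55 LD3_c50)))))))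
theorem f557781 : Led Lsl_gf (LP (LK LD1_c2 LD2_c51 LD3_c41)) = (LP (LK LD1_c4 LD2_c26 LD3_c0)) :=
  Lgr Lrot124 (Lpe (f208538 IH) (Lpr_ct (K36.f208520 IH) (Lpr_gt (f539933 IH) (Lpr_cf (K36.f539591 IH) (Lpr_bt (f494623 IH) (Lpr_gt (K36.f427519 IH) (Lpr_ct (K37.f176813 IH) (Lpr_gt (f100699 IH) (Lpr_cf (f557764 IH) (Lpe (K39.f139011 IH) (Lpn (LP (LK LD1_c4 LD2_c26 LD3_c0)))))))))))))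
theorem f557783 : Led Lsl_gf (LP (LK LD1_c4 LD2_c27 LD3_c0)) = (LP (LK LD1_c2 LD2_c54 LD3_c25)) :=
  Lgr Lrot129 (Lpr_cf (f494523 IH) (Lpe (f494522 IH) (Lpr_gt (K9.f23958 IH) (Lpe (K37.f176812 IH) (Lpr_ct (K37.f176813 IH) (Lpr_gt (f100699 IH) (Lpr_cf (f557764 IH) (Lpe (K39.f139011 IH) (Lpe (f557781 IH) (Lpr_ct (K37.f112854 IH) (Lpn (LP (LK LD1_c2 LD2_c54 LD3_c25)))))))))))))
theorem f149623 : Led Lsl_et (LP (LK LD1_c1 LD2_c23 LD3_c11)) = (LP (LK LD1_c2 LD2_c54 LD3_c25)) :=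
  Lre_e IH (LK LD1_c1 LD2_c23 LD3_c11) (LK LD1_c2 LD2_c54 LD3_c25) Lrfl Lrfl
theorem f36586 : Led Lsl_dt (LP (LK LD1_c2 LD2_c9 LD3_c24)) = (LP (LK LD1_c4 LD2_c23 LD3_c58)) :=
  Lre_d IH (LK LD1_c2 LD2_c9 LD3_c24) (LK LD1_c4 LD2_c23 LD3_c58) Lrfl Lrfl
theorem f557789 : Led Lsl_gt (LP (LK LD1_c8 LD2_c5 LD3_c17)) = (LP (LK LD1_c6 LD2_c24 LD3_c29)) :=
  Lgr Lrot112 (Lpe (K16.f242843 IH) (Lpr_et (K35.f80949 IH) (Lpr_gf (f557783 IH) (Lpe (f149623 IH) (Lpr_dt (K7.f149581 IH) (Lpr_gf (K8.f161931 IH) (Lpe (f36586 IH) (Lpr_gf (K11.f205705 IH) (Lpe (K8.f117559 IH) (Lpr_dt (K38.f117568 IH) (Lpn (LP (LK LD1_c6 LD2_c24 LD3_c29)))))))))))))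
theorem f552711 : Led Lsl_ef (LP (LK LD1_c7 LD2_c7 LD3_c35)) = (LP (LK LD1_c4 LD2_c37 LD3_c1)) :=
  Lgr Lrot17 (Lpe (K39.f89718 IH) (Lpr_ef (K39.f552702 IH) (Lpr_dt (K16.f280381 IH) (Lpr_gf (K39.f418023 IH) (Lpe (K39.f552690 IH) (Lpe (K38.f168200 IH) (Lpe (K30.f197250 IH) (Lpr_dt (K38.f197341 IH) (Lpr_gf (K38.f547699 IH) (Lpe (K38.f119052 IH) (Lpn (LP (LK LD1_c4 LD2_c37 LD3_c1)))))))))))))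
theorem f552715 : Led Lsl_et (LP (LK LD1_c7 LD2_c7 LD3_c35)) = (LP (LK LD1_c4 LD2_c37 LD3_c1)) :=
  Lgr Lrot87 (Lpr_ef (f552711 IH) (Lpn (LP (LK LD1_c4 LD2_c37 LD3_c1))))
theorem f557795 : Led Lsl_gf (LP (LK LD1_c4 LD2_c4 LD3_c51)) = (LP (LK LD1_c4 LD2_c37 LD3_c1)) :=
  Lgr Lrot138 (Lpr_dt (K16.f242843 IH) (Lpr_gt (f557789 IH) (Lpe (K38.f117568 IH) (Lpr_et (K8.f117559 IH) (Lpe (K11.f205705 IH) (Lpr_ef (K36.f540430 IH) (Lpr_dt (K8.f17909 IH) (Lpr_gt (K3.f10765 IH) (Lpr_df (K39.f127354 IH) (Lpr_et (f552715 IH) (Lpn (LP (LK LD1_c4 LD2_c37 LD3_c1)))))))))))))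
def v1271 : LQ := Led Lsl_gf (LP (LK LD1_c1 LD2_c4 LD3_c54))
theorem f494448 : Led Lsl_gf (LP (LK LD1_c1 LD2_c4 LD3_c54)) = v1271 :=
  Lrfl
theorem f538320 : Led Lsl_gt (LP (LK LD1_c2 LD2_c0 LD3_c57)) = v1271 :=
  Lgr Lrot5 (Lpr_ft (K35.f272024 IH) (Lpq (K35.f538315 IH) (Lpe (K35.f494429 IH) (Lpr_gf (f494448 IH) (Lpn v1271)))))
def v1415 : LQ := Led Lsl_gf (LP (LK LD1_c1 LD2_c13 LD3_c52))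
theorem f495442 : Led Lsl_gf (LP (LK LD1_c1 LD2_c13 LD3_c52)) = v1415 :=
  Lrfl
theorem f495443 : Led Lsl_gt K36.v1398 = v1415 :=
  Lgr Lrot5 (Lpe (K37.f495334 IH) (Lpr_at (K19.f308080 IH) (Lpr_gf (f495442 IH) (Lpn v1415))))
theorem f542404 : v1415 = (LP (LK LD1_c2 LD2_c0 LD3_c57)) :=
  Lefun (Lecon (f495443 IH) (K37.f542395 IH).symm) (K37.f542390 IH)
theorem f542406 : (LP (LK LD1_c1 LD2_c13 LD3_c52)) = v1271 :=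
  Lefun (Lecon (Lfl_gf (f495442 IH)) (f542404 IH)) (f538320 IH)
theorem f557797 : Led Lsl_bt (LP (LK LD1_c2 LD2_c53 LD3_c46)) = (LP (LK LD1_c4 LD2_c37 LD3_c1)) :=
  Lgr Lrot130 (Lpr_ct (K35.f201441 IH) (Lpe (K35.f137409 IH) (Lpe (K35.f166374 IH) (Lpe (K35.f201420 IH) (Lpr_gf (K11.f201429 IH) (Lpe (K37.f201432 IH) (Lpr_ct (K32.f185090 IH) (Lpqs (f542406 IH) (Lpe (f538320 IH) (Lpr_cf (K16.f181709 IH) (Lpr_gf (f557795 IH) (Lpn (LP (LK LD1_c4 LD2_c37 LD3_c1))))))))))))))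
theorem f138193 : Led Lsl_gt (LP (LK LD1_c2 LD2_c53 LD3_c34)) = (LP (LK LD1_c1 LD2_c22 LD3_c50)) :=
  Lre_g IH (LK LD1_c2 LD2_c53 LD3_c34) (LK LD1_c1 LD2_c22 LD3_c50) Lrfl Lrfl
theorem f557801 : Led Lsl_bt (LP (LK LD1_c4 LD2_c1 LD3_c16)) = (LP (LK LD1_c2 LD2_c53 LD3_c34)) :=
  Lgr Lrot130 (Lpe (K13.f227321 IH) (Lpr_gf (K12.f227315 IH) (Lpe (K10.f80928 IH) (Lpr_bt (K16.f80953 IH) (Lpr_gf (f557795 IH) (Lpe (f557797 IH) (Lpr_ct (K35.f201441 IH) (Lpe (K35.f137409 IH) (Lpe (K35.f166374 IH) (Lpe (f138193 IH) (Lpn (LP (LK LD1_c2 LD2_c53 LD3_c34)))))))))))))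
theorem f544464 : Led Lsl_bf (LP (LK LD1_c4 LD2_c2 LD3_c2)) = (LP (LK LD1_c5 LD2_c14 LD3_c24)) :=
  Lgr Lrot34 (Lpe (K13.f240596 IH) (Lpr_bf (K37.f544454 IH) (Lpe (K37.f538403 IH) (Lpe (K37.f544444 IH) (Lpe (K37.f171706 IH) (Lpr_gf (K37.f171701 IH) (Lpr_bf (K37.f421183 IH) (Lpr_ct (K37.f186698 IH) (Lpr_gf (K37.f544435 IH) (Lpe (K37.f421686 IH) (Lpn (LP (LK LD1_c5 LD2_c14 LD3_c24)))))))))))))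
theorem f557811 : Led Lsl_ff (LP (LK LD1_c5 LD2_c14 LD3_c24)) = (LP (LK LD1_c2 LD2_c53 LD3_c34)) :=
  Lgr Lrot25 (Lpe (f544464 IH) (Lpr_ft (K16.f269157 IH) (Lpr_bt (f557801 IH) (Lpn (LP (LK LD1_c2 LD2_c53 LD3_c34))))))
theorem f557827 : Led Lsl_at (LP (LK LD1_c5 LD2_c14 LD3_c24)) = (LP (LK LD1_c2 LD2_c53 LD3_c33)) :=
  Lgr Lrot26 (Lpr_ff (f557811 IH) (Lpr_gt (f138193 IH) (Lpr_gt (K36.f138620 IH) (Lpn (LP (LK LD1_c2 LD2_c53 LD3_c33))))))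
theorem f557126 : Led Lsl_et (LP (LK LD1_c5 LD2_c41 LD3_c16)) = (LP (LK LD1_c5 LD2_c14 LD3_c24)) :=
  Lgr Lrot87 (Lpr_ef (K39.f557122 IH) (Lpn (LP (LK LD1_c5 LD2_c14 LD3_c24))))
theorem f556897 : Led Lsl_et (LP (LK LD1_c2 LD2_c53 LD3_c33)) = (LP (LK LD1_c5 LD2_c54 LD3_c22)) :=
  Lre_e IH (LK LD1_c2 LD2_c53 LD3_c33) (LK LD1_c5 LD2_c54 LD3_c22) Lrfl Lrfl
theorem f557837 : Led Lsl_af (LP (LK LD1_c5 LD2_c41 LD3_c16)) = (LP (LK LD1_c5 LD2_c54 LD3_c22)) :=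
  Lgr Lrot50 (Lpr_et (f557126 IH) (Lpr_at (f557827 IH) (Lpr_et (f556897 IH) (Lpn (LP (LK LD1_c5 LD2_c54 LD3_c22))))))
theorem f302034 : Led Lsl_ct (LP (LK LD1_c2 LD2_c46 LD3_c40)) = (LP (LK LD1_c5 LD2_c41 LD3_c16)) :=
  Lre_c IH (LK LD1_c2 LD2_c46 LD3_c40) (LK LD1_c5 LD2_c41 LD3_c16) Lrfl Lrfl
theorem f302047 : Led Lsl_dt (LP (LK LD1_c4 LD2_c34 LD3_c8)) = (LP (LK LD1_c2 LD2_c46 LD3_c40)) :=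
  Lgr Lrot60 (Lpe (K36.f301961 IH) (Lpe (K36.f61353 IH) (Lpr_ff (K36.f302038 IH) (Lpn (LP (LK LD1_c2 LD2_c46 LD3_c40))))))
theorem f302035 : Led Lsl_ff (LP (LK LD1_c5 LD2_c14 LD3_c0)) = (LP (LK LD1_c5 LD2_c41 LD3_c16)) :=
  Lgr Lrot23 (Lpr_ct (K38.f61374 IH) (Lpr_ft (K36.f302030 IH) (Lpr_ct (f302034 IH) (Lpn (LP (LK LD1_c5 LD2_c41 LD3_c16))))))
theorem f548886 : Led Lsl_at (LP (LK LD1_c5 LD2_c14 LD3_c0)) = (LP (LK LD1_c7 LD2_c14 LD3_c7)) :=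
  Lgr Lrot51 (Lpr_df (K38.f548884 IH) (Lpe (K32.f497710 IH) (Lpe (K37.f522544 IH) (Lpn (LP (LK LD1_c7 LD2_c14 LD3_c7))))))
theorem f557845 : Led Lsl_ft (LP (LK LD1_c7 LD2_c14 LD3_c7)) = (LP (LK LD1_c5 LD2_c54 LD3_c22)) :=
  Lgr Lrot101 (Lpe (f548886 IH) (Lpr_ff (f302035 IH) (Lpr_af (f557837 IH) (Lpn (LP (LK LD1_c5 LD2_c54 LD3_c22))))))
theorem f543829 : Led Lsl_dt (LP (LK LD1_c12 LD2_c10 LD3_c21)) = (LP (LK LD1_c6 LD2_c16 LD3_c39)) :=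
  Lre_d IH (LK LD1_c12 LD2_c10 LD3_c21) (LK LD1_c6 LD2_c16 LD3_c39) Lrfl Lrfl
theorem f557847 : Led Lsl_cf (LP (LK LD1_c4 LD2_c34 LD3_c8)) = (LP (LK LD1_c6 LD2_c16 LD3_c39)) :=
  Lgr Lrot161 (Lpr_dt (f302047 IH) (Lpr_ct (f302034 IH) (Lpr_af (f557837 IH) (Lpe (f557845 IH) (Lpr_dt (K37.f522544 IH) (Lpe (K33.f94521 IH) (Lpr_dt (K37.f437319 IH) (Lpe (K37.f543852 IH) (Lpr_dt (f543829 IH) (Lpn (LP (LK LD1_c6 LD2_c16 LD3_c39))))))))))))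
theorem f301997 : Led Lsl_ft (LP (LK LD1_c5 LD2_c49 LD3_c27)) = (LP (LK LD1_c9 LD2_c5 LD3_c41)) :=
  Lgr Lrot48 (Lpr_ff (K36.f301993 IH) (Lpn (LP (LK LD1_c9 LD2_c5 LD3_c41))))
theorem f428014 : Led Lsl_gf (LP (LK LD1_c4 LD2_c34 LD3_c8)) = (LP (LK LD1_c6 LD2_c15 LD3_c21)) :=
  Lgr Lrot76 (Lpe (K36.f301942 IH) (Lpe (f301997 IH) (Lpr_gt (K36.f428012 IH) (Lpn (LP (LK LD1_c6 LD2_c15 LD3_c21))))))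
theorem f543883 : Led Lsl_bt (LP (LK LD1_c6 LD2_c16 LD3_c39)) = (LP (LK LD1_c12 LD2_c10 LD3_c20)) :=
  Lre_b IH (LK LD1_c6 LD2_c16 LD3_c39) (LK LD1_c12 LD2_c10 LD3_c20) Lrfl Lrfl
theorem f557860 : Led Lsl_gf (LP (LK LD1_c9 LD2_c16 LD3_c24)) = (LP (LK LD1_c12 LD2_c10 LD3_c20)) :=
  Lgr Lrot124 (Lpe (K8.f110851 IH) (Lpr_ct (K4.f110789 IH) (Lpr_gt (K3.f103293 IH) (Lpe (K3.f103299 IH) (Lpr_bt (K36.f103053 IH) (Lpe (K36.f110905 IH) (Lpe (K37.f543981 IH) (Lpe (f428014 IH) (Lpr_cf (f557847 IH) (Lpr_bt (f543883 IH) (Lpn (LP (LK LD1_c12 LD2_c10 LD3_c20)))))))))))))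
theorem f110768 : Led Lsl_cf (LP (LK LD1_c4 LD2_c40 LD3_c31)) = (LP (LK LD1_c4 LD2_c40 LD3_c27)) :=
  Lgr Lrot55 (Lpr_dt (K4.f79461 IH) (Lpe (K4.f107556 IH) (Lpr_dt (K4.f103462 IH) (Lpr_ct (K3.f103461 IH) (Lpe (K4.f104146 IH) (Lpr_ct (K3.f23925 IH) (Lpr_dt (K3.f78654 IH) (Lpr_ct (K4.f110512 IH) (Lpr_dt (K4.f58239 IH) (Lpe (K5.f110346 IH) (Lpr_dt (K4.f79313 IH) (Lpr_ct (K3.f79312 IH) (Lpe (K3.f103338 IH) (Lpr_ct (K3.f78247 IH) (Lpr_dt (K4.f78688 IH) (Lpn (LP (LK LD1_c4 LD2_c40 LD3_c27))))))))))))))))))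
theorem f150706 : Led Lsl_bf (LP (LK LD1_c12 LD2_c49 LD3_c12)) = (LP (LK LD1_c17 LD2_c10 LD3_c61)) :=
  Lgr Lrot90 (Lpr_ct (K7.f150704 IH) (Lpr_bt (K7.f103270 IH) (Lpe (f110768 IH) (Lpr_bt (K8.f110851 IH) (Lpr_ct (K7.f110794 IH) (Lpn (LP (LK LD1_c17 LD2_c10 LD3_c61))))))))
theorem f301924 : Led Lsl_bt (LP (LK LD1_c3 LD2_c5 LD3_c31)) = (LP (LK LD1_c6 LD2_c16 LD3_c50)) :=
  Lre_b IH (LK LD1_c3 LD2_c5 LD3_c31) (LK LD1_c6 LD2_c16 LD3_c50) Lrfl Lrfl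
theorem f557849 : Led Lsl_bt (LP (LK LD1_c12 LD2_c10 LD3_c20)) = (LP (LK LD1_c6 LD2_c16 LD3_c39)) :=
  Lre_b IH (LK LD1_c12 LD2_c10 LD3_c20) (LK LD1_c6 LD2_c16 LD3_c39) Lrfl Lrfl
theorem f557850 : Led Lsl_ct (LP (LK LD1_c6 LD2_c16 LD3_c50)) = (LP (LK LD1_c12 LD2_c10 LD3_c20)) :=
  Lgr Lrot83 (Lpe (f301924 IH) (Lpe (K18.f301921 IH) (Lpe (K36.f301907 IH) (Lpr_cf (f557847 IH) (Lpe (f557849 IH) (Lpn (LP (LK LD1_c12 LD2_c10 LD3_c20))))))))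
theorem f301925 : Led Lsl_gt (LP (LK LD1_c12 LD2_c10 LD3_c36)) = (LP (LK LD1_c6 LD2_c16 LD3_c50)) :=
  Lre_g IH (LK LD1_c12 LD2_c10 LD3_c36) (LK LD1_c6 LD2_c16 LD3_c50) Lrfl Lrfl
theorem f557868 : Led Lsl_bt (LP (LK LD1_c6 LD2_c31 LD3_c26)) = (LP (LK LD1_c12 LD2_c10 LD3_c36)) :=
  Lgr Lrot130 (Lpe (K7.f147526 IH) (Lpe (K5.f116534 IH) (Lpe (K7.f147530 IH) (Lpr_bt (K36.f147549 IH) (Lpe (K36.f150866 IH) (Lpr_bf (f150706 IH) (Lpr_ct (K7.f110793 IH) (Lpr_gf (f557860 IH) (Lpe (f557850 IH) (Lpe (f301925 IH) (Lpn (LP (LK LD1_c12 LD2_c10 LD3_c36)))))))))))))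
theorem f61301 : Led Lsl_ct (LP (LK LD1_c1 LD2_c21 LD3_c24)) = (LP (LK LD1_c2 LD2_c50 LD3_c50)) :=
  Lre_c IH (LK LD1_c1 LD2_c21 LD3_c24) (LK LD1_c2 LD2_c50 LD3_c50) Lrfl Lrfl
theorem f301963 : Led Lsl_ft (LP (LK LD1_c2 LD2_c50 LD3_c50)) = (LP (LK LD1_c3 LD2_c5 LD3_c31)) :=
  Lgr Lrot4 (Lpe (f61301 IH) (Lpr_ff (K36.f301957 IH) (Lpr_cf (K18.f301913 IH) (Lpn (LP (LK LD1_c3 LD2_c5 LD3_c31))))))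
theorem f301967 : Led Lsl_bt (LP (LK LD1_c5 LD2_c49 LD3_c30)) = (LP (LK LD1_c2 LD2_c50 LD3_c50)) :=
  Lre_b IH (LK LD1_c5 LD2_c49 LD3_c30) (LK LD1_c2 LD2_c50 LD3_c50) Lrfl Lrfl
theorem f301968 : Led Lsl_ff (LP (LK LD1_c5 LD2_c49 LD3_c30)) = (LP (LK LD1_c6 LD2_c16 LD3_c50)) :=
  Lgr Lrot25 (Lpr_bt (f301967 IH) (Lpr_ft (f301963 IH) (Lpr_bt (f301924 IH) (Lpn (LP (LK LD1_c6 LD2_c16 LD3_c50))))))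
theorem f301975 : Led Lsl_at (LP (LK LD1_c5 LD2_c49 LD3_c30)) = (LP (LK LD1_c11 LD2_c27 LD3_c53)) :=
  Lre_a IH (LK LD1_c5 LD2_c49 LD3_c30) (LK LD1_c11 LD2_c27 LD3_c53) Lrfl Lrfl
theorem f301938 : Led Lsl_at (LP (LK LD1_c12 LD2_c10 LD3_c37)) = (LP (LK LD1_c6 LD2_c16 LD3_c50)) :=
  Lre_a IH (LK LD1_c12 LD2_c10 LD3_c37) (LK LD1_c6 LD2_c16 LD3_c50) Lrfl Lrfl
theorem f301976 : Led Lsl_ft (LP (LK LD1_c11 LD2_c27 LD3_c53)) = (LP (LK LD1_c12 LD2_c10 LD3_c37)) :=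
  Lgr Lrot101 (Lpe (f301975 IH) (Lpr_ff (f301968 IH) (Lpe (f301938 IH) (Lpn (LP (LK LD1_c12 LD2_c10 LD3_c37))))))
theorem f301990 : Led Lsl_gt (LP (LK LD1_c11 LD2_c27 LD3_c53)) = (LP (LK LD1_c12 LD2_c10 LD3_c36)) :=
  Lgr Lrot5 (Lpr_ft (f301976 IH) (Lpr_at (f301938 IH) (Lpe (f301925 IH) (Lpn (LP (LK LD1_c12 LD2_c10 LD3_c36))))))
theorem f557878 : Led Lsl_bt (LP (LK LD1_c7 LD2_c57 LD3_c19)) = (LP (LK LD1_c11 LD2_c27 LD3_c53)) :=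
  Lgr Lrot22 (Lpr_ct (K8.f157843 IH) (Lpe (K8.f160950 IH) (Lpr_cf (K8.f160954 IH) (Lpe (K8.f161390 IH) (Lpe (K28.f155545 IH) (Lpr_ct (K24.f148640 IH) (Lpe (K7.f132074 IH) (Lpr_cf (K7.f147526 IH) (Lpr_bt (f557868 IH) (Lpe (f301990 IH) (Lpn (LP (LK LD1_c11 LD2_c27 LD3_c53)))))))))))))
theorem f497334 : Led Lsl_ft (LP (LK LD1_c8 LD2_c50 LD3_c1)) = (LP (LK LD1_c7 LD2_c57 LD3_c19)) :=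
  Lgr Lrot4 (Lpe (K8.f149201 IH) (Lpr_ff (K32.f497328 IH) (Lpe (K8.f157843 IH) (Lpn (LP (LK LD1_c7 LD2_c57 LD3_c19))))))
theorem f557886 : Led Lsl_bf (LP (LK LD1_c8 LD2_c50 LD3_c1)) = (LP (LK LD1_c12 LD2_c10 LD3_c37)) :=
  Lgr Lrot61 (Lpr_ft (f497334 IH) (Lpr_bt (f557878 IH) (Lpr_ft (f301976 IH) (Lpn (LP (LK LD1_c12 LD2_c10 LD3_c37))))))
theorem f205839 : Led Lsl_dt (LP (LK LD1_c9 LD2_c25 LD3_c4)) = (LP (LK LD1_c4 LD2_c46 LD3_c15)) :=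
  Lre_d IH (LK LD1_c9 LD2_c25 LD3_c4) (LK LD1_c4 LD2_c46 LD3_c15) Lrfl Lrfl
theorem f206682 : Led Lsl_bt (LP (LK LD1_c11 LD2_c32 LD3_c59)) = (LP (LK LD1_c9 LD2_c25 LD3_c4)) :=
  Lgr Lrot95 (Lpr_df (K32.f205828 IH) (Lpe (K11.f98855 IH) (Lpe (f205839 IH) (Lpn (LP (LK LD1_c9 LD2_c25 LD3_c4))))))
theorem f104534 : Led Lsl_ct (LP (LK LD1_c11 LD2_c32 LD3_c59)) = (LP (LK LD1_c5 LD2_c53 LD3_c29)) :=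
  Lre_c IH (LK LD1_c11 LD2_c32 LD3_c59) (LK LD1_c5 LD2_c53 LD3_c29) Lrfl Lrfl
theorem f206689 : Led Lsl_gt (LP (LK LD1_c4 LD2_c46 LD3_c50)) = (LP (LK LD1_c9 LD2_c25 LD3_c4)) :=
  Lgr Lrot164 (Lpe (K7.f99002 IH) (Lpe (K3.f99006 IH) (Lpr_gf (K3.f102964 IH) (Lpr_cf (K37.f103260 IH) (Lpr_gf (K3.f103239 IH) (Lpe (K6.f104321 IH) (Lpr_ct (K6.f81848 IH) (Lpr_gf (K8.f149171 IH) (Lpe (f104534 IH) (Lpr_bt (f206682 IH) (Lpn (LP (LK LD1_c9 LD2_c25 LD3_c4)))))))))))))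
theorem f557894 : Led Lsl_cf (LP (LK LD1_c9 LD2_c25 LD3_c4)) = (LP (LK LD1_c12 LD2_c10 LD3_c37)) :=
  Lgr Lrot58 (Lpe (f206689 IH) (Lpe (K11.f99064 IH) (Lpe (K7.f99004 IH) (Lpe (K28.f207898 IH) (Lpr_bf (K28.f207890 IH) (Lpr_ct (K8.f80130 IH) (Lpe (K8.f161371 IH) (Lpe (K1.f40064 IH) (Lpr_gf (K24.f149205 IH) (Lpr_bf (f557886 IH) (Lpn (LP (LK LD1_c12 LD2_c10 LD3_c37)))))))))))))
theorem f110921 : Led Lsl_dt (LP (LK LD1_c5 LD2_c59 LD3_c43)) = (LP (LK LD1_c11 LD2_c41 LD3_c21)) :=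
  Lre_d IH (LK LD1_c5 LD2_c59 LD3_c43) (LK LD1_c11 LD2_c41 LD3_c21) Lrfl Lrfl
theorem f301978 : Led Lsl_ft (LP (LK LD1_c5 LD2_c49 LD3_c30)) = (LP (LK LD1_c6 LD2_c16 LD3_c50)) :=
  Lgr Lrot48 (Lpr_ff (f301968 IH) (Lpn (LP (LK LD1_c6 LD2_c16 LD3_c50))))
theorem f61317 : Led Lsl_gt (LP (LK LD1_c5 LD2_c49 LD3_c30)) = (LP (LK LD1_c11 LD2_c27 LD3_c52)) :=
  Lre_g IH (LK LD1_c5 LD2_c49 LD3_c30) (LK LD1_c11 LD2_c27 LD3_c52) Lrfl Lrfl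
theorem f301939 : Led Lsl_at (LP (LK LD1_c6 LD2_c16 LD3_c50)) = (LP (LK LD1_c12 LD2_c10 LD3_c37)) :=
  Lre_a IH (LK LD1_c6 LD2_c16 LD3_c50) (LK LD1_c12 LD2_c10 LD3_c37) Lrfl Lrfl
theorem f301986 : Led Lsl_gt (LP (LK LD1_c11 LD2_c27 LD3_c52)) = (LP (LK LD1_c12 LD2_c10 LD3_c37)) :=
  Lgr Lrot46 (Lpe (f61317 IH) (Lpr_ft (f301978 IH) (Lpr_at (f301939 IH) (Lpn (LP (LK LD1_c12 LD2_c10 LD3_c37))))))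
theorem f301989 : Led Lsl_ct (LP (LK LD1_c20 LD2_c25 LD3_c36)) = (LP (LK LD1_c11 LD2_c27 LD3_c52)) :=
  Lre_c IH (LK LD1_c20 LD2_c25 LD3_c36) (LK LD1_c11 LD2_c27 LD3_c52) Lrfl Lrfl
theorem f557898 : Led Lsl_gt (LP (LK LD1_c11 LD2_c41 LD3_c21)) = (LP (LK LD1_c20 LD2_c25 LD3_c36)) :=
  Lgr Lrot9 (Lpe (f110921 IH) (Lpr_gt (K7.f26532 IH) (Lpr_ct (K7.f156831 IH) (Lpr_gt (K11.f205833 IH) (Lpr_ct (K37.f98856 IH) (Lpe (f205839 IH) (Lpr_cf (f557894 IH) (Lpe (f301986 IH) (Lpe (f301989 IH) (Lpn (LP (LK LD1_c20 LD2_c25 LD3_c36))))))))))))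
theorem f72620 : Led Lsl_bt (LP (LK LD1_c5 LD2_c58 LD3_c22)) = (LP (LK LD1_c11 LD2_c41 LD3_c21)) :=
  Lre_b IH (LK LD1_c5 LD2_c58 LD3_c22) (LK LD1_c11 LD2_c41 LD3_c21) Lrfl Lrfl
theorem f150216 : Led Lsl_gt (LP (LK LD1_c9 LD2_c26 LD3_c5)) = (LP (LK LD1_c11 LD2_c40 LD3_c29)) :=
  Lgr Lrot94 (Lpe (K6.f14120 IH) (Lpr_gt (K32.f69679 IH) (Lpr_dt (K36.f69678 IH) (Lpr_gt (K8.f79304 IH) (Lpr_dt (K4.f79305 IH) (Lpe (K4.f104952 IH) (Lpe (K4.f105000 IH) (Lpr_gf (K7.f150214 IH) (Lpe (K7.f72592 IH) (Lpn (LP (LK LD1_c11 LD2_c40 LD3_c29))))))))))))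
theorem f557902 : Led Lsl_bt (LP (LK LD1_c20 LD2_c47 LD3_c23)) = (LP (LK LD1_c20 LD2_c25 LD3_c36)) :=
  Lgr Lrot92 (Lpr_ct (K11.f14073 IH) (Lpr_gt (K11.f14112 IH) (Lpe (K3.f14083 IH) (Lpr_bt (K8.f14118 IH) (Lpr_gt (K6.f14119 IH) (Lpr_ct (K6.f14120 IH) (Lpr_gt (f150216 IH) (Lpr_cf (K7.f72590 IH) (Lpr_bt (f72620 IH) (Lpr_gt (f557898 IH) (Lpn (LP (LK LD1_c20 LD2_c25 LD3_c36)))))))))))))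
theorem f557906 : Led Lsl_bf (LP (LK LD1_c20 LD2_c47 LD3_c23)) = (LP (LK LD1_c20 LD2_c25 LD3_c36)) :=
  Lgr Lrot24 (Lpr_bt (f557902 IH) (Lpn (LP (LK LD1_c20 LD2_c25 LD3_c36))))
theorem f419547 : Led Lsl_dt (LP (LK LD1_c11 LD2_c44 LD3_c3)) = (LP (LK LD1_c20 LD2_c41 LD3_c6)) :=
  Lgr Lrot120 (Lpr_cf (K11.f160830 IH) (Lpe (K11.f64594 IH) (Lpr_cf (K11.f202373 IH) (Lpe (K11.f61187 IH) (Lpe (K11.f202937 IH) (Lpe (K6.f80825 IH) (Lpe (K11.f38214 IH) (Lpe (K11.f99252 IH) (Lpr_cf (K37.f419538 IH) (Lpn (LP (LK LD1_c20 LD2_c41 LD3_c6))))))))))))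
theorem f419553 : Led Lsl_df (LP (LK LD1_c11 LD2_c44 LD3_c3)) = (LP (LK LD1_c20 LD2_c41 LD3_c6)) :=
  Lgr Lrot38 (Lpr_dt (f419547 IH) (Lpn (LP (LK LD1_c20 LD2_c41 LD3_c6))))
theorem f419579 : Led Lsl_gt (LP (LK LD1_c20 LD2_c47 LD3_c23)) = (LP (LK LD1_c20 LD2_c41 LD3_c6)) :=
  Lgr Lrot94 (Lpe (K28.f14068 IH) (Lpr_gt (K11.f14112 IH) (Lpe (K7.f77298 IH) (Lpr_gt (K7.f77302 IH) (Lpr_dt (K7.f151358 IH) (Lpe (K7.f151240 IH) (Lpe (K7.f101903 IH) (Lpe (K7.f101899 IH) (Lpr_df (f419553 IH) (Lpn (LP (LK LD1_c20 LD2_c41 LD3_c6))))))))))))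
theorem f419542 : Led Lsl_bt (LP (LK LD1_c11 LD2_c41 LD3_c17)) = (LP (LK LD1_c20 LD2_c41 LD3_c6)) :=
  Lre_b IH (LK LD1_c11 LD2_c41 LD3_c17) (LK LD1_c20 LD2_c41 LD3_c6) Lrfl Lrfl
theorem f202983 : Led Lsl_dt (LP (LK LD1_c11 LD2_c42 LD3_c5)) = (LP (LK LD1_c15 LD2_c6 LD3_c8)) :=
  Lgr Lrot120 (Lpr_cf (K36.f202974 IH) (Lpe (K36.f137969 IH) (Lpe (K6.f137954 IH) (Lpe (K6.f137913 IH) (Lpe (K6.f72274 IH) (Lpe (K36.f112463 IH) (Lpr_ft (K28.f112458 IH) (Lpr_at (K28.f142174 IH) (Lpe (K8.f142206 IH) (Lpn (LP (LK LD1_c15 LD2_c6 LD3_c8))))))))))))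
theorem f74303 : Led Lsl_bt (LP (LK LD1_c5 LD2_c58 LD3_c51)) = (LP (LK LD1_c2 LD2_c55 LD3_c51)) :=
  Lre_b IH (LK LD1_c5 LD2_c58 LD3_c51) (LK LD1_c2 LD2_c55 LD3_c51) Lrfl Lrfl
theorem f426340 : Led Lsl_cf (LP (LK LD1_c5 LD2_c58 LD3_c51)) = (LP (LK LD1_c5 LD2_c58 LD3_c21)) :=
  Lgr Lrot89 (Lpr_bt (f74303 IH) (Lpe (K4.f74296 IH) (Lpr_dt (K2.f61531 IH) (Lpr_ct (K2.f74791 IH) (Lpr_bt (K2.f74795 IH) (Lpe (K7.f151310 IH) (Lpr_dt (K7.f14063 IH) (Lpr_ct (K11.f79246 IH) (Lpr_bt (K7.f94123 IH) (Lpr_gt (K7.f150643 IH) (Lpr_dt (K7.f124493 IH) (Lpe (K7.f130488 IH) (Lpr_bt (K6.f72602 IH) (Lpe (K32.f155799 IH) (Lpr_dt (K11.f202878 IH) (Lpe (K11.f202835 IH) (Lpr_bt (K11.f75637 IH) (Lpr_gt (K28.f426330 IH) (Lpr_dt (K28.f137594 IH) (Lpn (LP (LK LD1_c5 LD2_c58 LD3_c21))))))))))))))))))))))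
theorem f501483 : Led Lsl_df (LP (LK LD1_c9 LD2_c30 LD3_c0)) = (LP (LK LD1_c14 LD2_c59 LD3_c36)) :=
  Lgr Lrot84 (Lpr_cf (K36.f56955 IH) (Lpr_df (K36.f501477 IH) (Lpe (K8.f160681 IH) (Lpe (f202983 IH) (Lpe (K36.f202971 IH) (Lpr_cf (f426340 IH) (Lpe (K28.f426320 IH) (Lpe (K28.f149449 IH) (Lpr_gt (K37.f35957 IH) (Lpn (LP (LK LD1_c14 LD2_c59 LD3_c36))))))))))))
theorem f502299 : Led Lsl_df (LP (LK LD1_c14 LD2_c59 LD3_c36)) = (LP (LK LD1_c9 LD2_c30 LD3_c0)) :=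
  Lgr Lrot12 (Lpr_bt (K37.f502290 IH) (Lpr_dt (K37.f110378 IH) (Lpe (K36.f501537 IH) (Lpn (LP (LK LD1_c9 LD2_c30 LD3_c0))))))
theorem f502303 : Led Lsl_gf (LP (LK LD1_c5 LD2_c59 LD3_c47)) = (LP (LK LD1_c9 LD2_c30 LD3_c0)) :=
  Lgr Lrot147 (Lpr_ct (K7.f99238 IH) (Lpr_gt (K7.f118962 IH) (Lpr_ct (K36.f118939 IH) (Lpe (K5.f118949 IH) (Lpe (K5.f80694 IH) (Lpe (K8.f112900 IH) (Lpe (K2.f35962 IH) (Lpe (K37.f35958 IH) (Lpr_df (f502299 IH) (Lpn (LP (LK LD1_c9 LD2_c30 LD3_c0))))))))))))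
theorem f540418 : Led Lsl_ct (LP (LK LD1_c11 LD2_c41 LD3_c17)) = (LP (LK LD1_c7 LD2_c12 LD3_c35)) :=
  Lgr Lrot7 (Lpe (K36.f202919 IH) (Lpr_gf (f502303 IH) (Lpr_df (f501483 IH) (Lpe (K37.f35957 IH) (Lpe (K4.f35669 IH) (Lpr_gt (K4.f112412 IH) (Lpr_dt (K5.f81057 IH) (Lpr_gt (K36.f540414 IH) (Lpr_dt (K37.f108530 IH) (Lpn (LP (LK LD1_c7 LD2_c12 LD3_c35))))))))))))
theorem f206123 : Led Lsl_at (LP (LK LD1_c7 LD2_c49 LD3_c60)) = (LP (LK LD1_c7 LD2_c51 LD3_c56)) :=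
  Lgr Lrot107 (Lpr_cf (K28.f156887 IH) (Lpr_af (K28.f206110 IH) (Lpe (K28.f144655 IH) (Lpn (LP (LK LD1_c7 LD2_c51 LD3_c56))))))
theorem f11770 : Led Lsl_gt (LP (LK LD1_c3 LD2_c55 LD3_c7)) = (LP (LK LD1_c7 LD2_c51 LD3_c55)) :=
  Lre_g IH (LK LD1_c3 LD2_c55 LD3_c7) (LK LD1_c7 LD2_c51 LD3_c55) Lrfl Lrfl
theorem f162608 : Led Lsl_dt (LP (LK LD1_c7 LD2_c51 LD3_c55)) = (LP (LK LD1_c7 LD2_c26 LD3_c27)) :=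
  Lgr Lrot113 (Lpe (f11770 IH) (Lpr_df (K6.f144644 IH) (Lpe (K6.f134804 IH) (Lpe (K32.f145266 IH) (Lpr_gt (K6.f14760 IH) (Lpr_dt (K0.f14753 IH) (Lpr_gt (K5.f16685 IH) (Lpr_dt (K8.f14741 IH) (Lpr_ct (K8.f162606 IH) (Lpn (LP (LK LD1_c7 LD2_c26 LD3_c27))))))))))))
theorem f206125 : Led Lsl_ff (LP (LK LD1_c7 LD2_c49 LD3_c60)) = (LP (LK LD1_c7 LD2_c51 LD3_c55)) :=
  Lgr Lrot103 (Lpr_at (f206123 IH) (Lpe (K28.f122990 IH) (Lpr_df (K28.f206115 IH) (Lpe (K8.f162635 IH) (Lpr_df (K8.f162622 IH) (Lpe (K8.f16687 IH) (Lpe (K8.f14740 IH) (Lpe (K8.f162330 IH) (Lpe (f162608 IH) (Lpn (LP (LK LD1_c7 LD2_c51 LD3_c55))))))))))))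
theorem f206134 : Led Lsl_ft (LP (LK LD1_c7 LD2_c49 LD3_c60)) = (LP (LK LD1_c7 LD2_c51 LD3_c55)) :=
  Lgr Lrot48 (Lpr_ff (f206125 IH) (Lpn (LP (LK LD1_c7 LD2_c51 LD3_c55))))
theorem f145293 : Led Lsl_bt (LP (LK LD1_c14 LD2_c46 LD3_c30)) = (LP (LK LD1_c7 LD2_c49 LD3_c60)) :=
  Lre_b IH (LK LD1_c14 LD2_c46 LD3_c30) (LK LD1_c7 LD2_c49 LD3_c60) Lrfl Lrfl
theorem f206138 : Led Lsl_bt (LP (LK LD1_c7 LD2_c51 LD3_c55)) = (LP (LK LD1_c14 LD2_c49 LD3_c59)) :=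
  Lre_b IH (LK LD1_c7 LD2_c51 LD3_c55) (LK LD1_c14 LD2_c49 LD3_c59) Lrfl Lrfl
theorem f206139 : Led Lsl_ff (LP (LK LD1_c14 LD2_c46 LD3_c30)) = (LP (LK LD1_c14 LD2_c49 LD3_c59)) :=
  Lgr Lrot25 (Lpr_bt (f145293 IH) (Lpr_ft (f206134 IH) (Lpr_bt (f206138 IH) (Lpn (LP (LK LD1_c14 LD2_c49 LD3_c59))))))
theorem f156889 : Led Lsl_bt (LP (LK LD1_c7 LD2_c49 LD3_c60)) = (LP (LK LD1_c14 LD2_c46 LD3_c30)) :=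
  Lre_b IH (LK LD1_c7 LD2_c49 LD3_c60) (LK LD1_c14 LD2_c46 LD3_c30) Lrfl Lrfl
theorem f162594 : Led Lsl_df (LP (LK LD1_c12 LD2_c30 LD3_c54)) = (LP (LK LD1_c14 LD2_c46 LD3_c30)) :=
  Lgr Lrot12 (Lpr_bt (K37.f162584 IH) (Lpr_dt (K28.f162592 IH) (Lpr_bt (f156889 IH) (Lpn (LP (LK LD1_c14 LD2_c46 LD3_c30))))))
theorem f206143 : Led Lsl_dt (LP (LK LD1_c14 LD2_c3 LD3_c54)) = (LP (LK LD1_c14 LD2_c49 LD3_c59)) :=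
  Lgr Lrot60 (Lpe (K37.f162604 IH) (Lpr_df (f162594 IH) (Lpr_ff (f206139 IH) (Lpn (LP (LK LD1_c14 LD2_c49 LD3_c59))))))
theorem f206146 : Led Lsl_df (LP (LK LD1_c14 LD2_c3 LD3_c54)) = (LP (LK LD1_c14 LD2_c49 LD3_c59)) :=
  Lgr Lrot38 (Lpr_dt (f206143 IH) (Lpn (LP (LK LD1_c14 LD2_c49 LD3_c59))))
theorem f424819 : Led Lsl_af (LP (LK LD1_c14 LD2_c49 LD3_c59)) = (LP (LK LD1_c20 LD2_c41 LD3_c11)) :=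
  Lgr Lrot117 (Lpe (f206146 IH) (Lpr_at (K37.f424795 IH) (Lpr_dt (K37.f206666 IH) (Lpn (LP (LK LD1_c20 LD2_c41 LD3_c11))))))
theorem f148545 : Led Lsl_dt (LP (LK LD1_c6 LD2_c31 LD3_c48)) = (LP (LK LD1_c3 LD2_c14 LD3_c4)) :=
  Lre_d IH (LK LD1_c6 LD2_c31 LD3_c48) (LK LD1_c3 LD2_c14 LD3_c4) Lrfl Lrfl
theorem f133134 : Led Lsl_df (LP (LK LD1_c12 LD2_c9 LD3_c8)) = (LP (LK LD1_c9 LD2_c22 LD3_c45)) :=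
  Lgr Lrot12 (Lpr_bt (K8.f112754 IH) (Lpr_dt (K5.f133100 IH) (Lpe (K5.f113719 IH) (Lpn (LP (LK LD1_c9 LD2_c22 LD3_c45))))))
theorem f158880 : Led Lsl_af (LP (LK LD1_c4 LD2_c46 LD3_c0)) = (LP (LK LD1_c9 LD2_c22 LD3_c43)) :=
  Lgr Lrot0 (Lpr_at (K8.f158878 IH) (Lpn (LP (LK LD1_c9 LD2_c22 LD3_c43))))
theorem f158913 : Led Lsl_gt (LP (LK LD1_c4 LD2_c45 LD3_c61)) = (LP (LK LD1_c9 LD2_c22 LD3_c45)) :=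
  Lgr Lrot5 (Lpr_ft (K28.f158902 IH) (Lpe (f158880 IH) (Lpe (K32.f125745 IH) (Lpn (LP (LK LD1_c9 LD2_c22 LD3_c45))))))
theorem f99013 : Led Lsl_gt (LP (LK LD1_c4 LD2_c44 LD3_c59)) = (LP (LK LD1_c9 LD2_c22 LD3_c37)) :=
  Lre_g IH (LK LD1_c4 LD2_c44 LD3_c59) (LK LD1_c9 LD2_c22 LD3_c37) Lrfl Lrfl
theorem f207904 : Led Lsl_df (LP (LK LD1_c4 LD2_c45 LD3_c61)) = (LP (LK LD1_c9 LD2_c22 LD3_c37)) :=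
  Lgr Lrot153 (Lpr_gt (f158913 IH) (Lpe (f133134 IH) (Lpe (K8.f157270 IH) (Lpe (K8.f148544 IH) (Lpe (K8.f148543 IH) (Lpe (f148545 IH) (Lpr_gf (K28.f207900 IH) (Lpe (K7.f99063 IH) (Lpr_gt (f99013 IH) (Lpn (LP (LK LD1_c9 LD2_c22 LD3_c37))))))))))))
theorem f207915 : Led Lsl_dt (LP (LK LD1_c4 LD2_c45 LD3_c61)) = (LP (LK LD1_c9 LD2_c22 LD3_c37)) :=
  Lgr Lrot42 (Lpr_df (f207904 IH) (Lpn (LP (LK LD1_c9 LD2_c22 LD3_c37))))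
theorem f207924 : Led Lsl_bt (LP (LK LD1_c9 LD2_c22 LD3_c37)) = (LP (LK LD1_c17 LD2_c19 LD3_c6)) :=
  Lre_b IH (LK LD1_c9 LD2_c22 LD3_c37) (LK LD1_c17 LD2_c19 LD3_c6) Lrfl Lrfl
theorem f207925 : Led Lsl_df (LP (LK LD1_c9 LD2_c24 LD3_c33)) = (LP (LK LD1_c17 LD2_c19 LD3_c6)) :=
  Lgr Lrot12 (Lpr_bt (K28.f158909 IH) (Lpr_dt (f207915 IH) (Lpr_bt (f207924 IH) (Lpn (LP (LK LD1_c17 LD2_c19 LD3_c6))))))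
theorem f158870 : Led Lsl_ft (LP (LK LD1_c4 LD2_c46 LD3_c0)) = (LP (LK LD1_c9 LD2_c22 LD3_c44)) :=
  Lgr Lrot4 (Lpr_cf (K8.f124439 IH) (Lpr_ff (K8.f158868 IH) (Lpr_cf (K28.f125698 IH) (Lpn (LP (LK LD1_c9 LD2_c22 LD3_c44))))))
theorem f158907 : Led Lsl_af (LP (LK LD1_c4 LD2_c45 LD3_c61)) = (LP (LK LD1_c9 LD2_c22 LD3_c44)) :=
  Lgr Lrot45 (Lpr_ft (K28.f158902 IH) (Lpe (f158880 IH) (Lpr_ft (f158870 IH) (Lpn (LP (LK LD1_c9 LD2_c22 LD3_c44))))))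
theorem f150427 : Led Lsl_bt (LP (LK LD1_c4 LD2_c45 LD3_c61)) = (LP (LK LD1_c9 LD2_c24 LD3_c33)) :=
  Lre_b IH (LK LD1_c4 LD2_c45 LD3_c61) (LK LD1_c9 LD2_c24 LD3_c33) Lrfl Lrfl
theorem f26534 : Led Lsl_bt (LP (LK LD1_c5 LD2_c59 LD3_c43)) = (LP (LK LD1_c2 LD2_c56 LD3_c11)) :=
  Lre_b IH (LK LD1_c5 LD2_c59 LD3_c43) (LK LD1_c2 LD2_c56 LD3_c11) Lrfl Lrfl
theorem f163229 : Led Lsl_at (LP (LK LD1_c9 LD2_c24 LD3_c33)) = (LP (LK LD1_c5 LD2_c59 LD3_c43)) :=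
  Lgr Lrot67 (Lpe (f150427 IH) (Lpr_af (f158907 IH) (Lpe (K28.f158478 IH) (Lpr_af (K8.f163214 IH) (Lpe (f26534 IH) (Lpn (LP (LK LD1_c5 LD2_c59 LD3_c43))))))))
theorem f207930 : Led Lsl_at (LP (LK LD1_c11 LD2_c41 LD3_c21)) = (LP (LK LD1_c17 LD2_c19 LD3_c6)) :=
  Lgr Lrot51 (Lpe (f110921 IH) (Lpe (f163229 IH) (Lpr_df (f207925 IH) (Lpn (LP (LK LD1_c17 LD2_c19 LD3_c6))))))
theorem f207932 : Led Lsl_af (LP (LK LD1_c11 LD2_c41 LD3_c21)) = (LP (LK LD1_c17 LD2_c19 LD3_c6)) :=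
  Lgr Lrot0 (Lpr_at (f207930 IH) (Lpn (LP (LK LD1_c17 LD2_c19 LD3_c6))))
theorem f424861 : Led Lsl_ct (LP (LK LD1_c14 LD2_c49 LD3_c59)) = (LP (LK LD1_c17 LD2_c19 LD3_c6)) :=
  Lgr Lrot111 (Lpr_af (f424819 IH) (Lpe (K37.f72632 IH) (Lpr_af (f207932 IH) (Lpn (LP (LK LD1_c17 LD2_c19 LD3_c6))))))
theorem f424863 : Led Lsl_cf (LP (LK LD1_c14 LD2_c49 LD3_c59)) = (LP (LK LD1_c17 LD2_c19 LD3_c6)) :=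
  Lgr Lrot11 (Lpr_ct (f424861 IH) (Lpn (LP (LK LD1_c17 LD2_c19 LD3_c6))))
theorem f99014 : Led Lsl_bt (LP (LK LD1_c17 LD2_c19 LD3_c6)) = (LP (LK LD1_c9 LD2_c22 LD3_c37)) :=
  Lre_b IH (LK LD1_c17 LD2_c19 LD3_c6) (LK LD1_c9 LD2_c22 LD3_c37) Lrfl Lrfl
theorem f104531 : Led Lsl_gf (LP (LK LD1_c11 LD2_c33 LD3_c1)) = (LP (LK LD1_c9 LD2_c22 LD3_c37)) :=
  Lgr Lrot76 (Lpr_af (K24.f104522 IH) (Lpr_ff (K24.f103284 IH) (Lpr_gt (f99013 IH) (Lpn (LP (LK LD1_c9 LD2_c22 LD3_c37))))))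
theorem f206691 : Led Lsl_gf (LP (LK LD1_c16 LD2_c24 LD3_c36)) = (LP (LK LD1_c9 LD2_c25 LD3_c4)) :=
  Lgr Lrot124 (Lpe (K7.f70478 IH) (Lpr_ct (K7.f70450 IH) (Lpr_gt (K6.f70442 IH) (Lpe (K6.f70430 IH) (Lpr_bt (K11.f75635 IH) (Lpe (K6.f137489 IH) (Lpr_ct (K6.f72356 IH) (Lpr_gt (K8.f72420 IH) (Lpe (f104534 IH) (Lpr_bt (f206682 IH) (Lpn (LP (LK LD1_c9 LD2_c25 LD3_c4)))))))))))))
theorem f70479 : Led Lsl_cf (LP (LK LD1_c16 LD2_c30 LD3_c27)) = (LP (LK LD1_c16 LD2_c24 LD3_c36)) :=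
  Lgr Lrot97 (Lpr_bt (K7.f70476 IH) (Lpr_ct (K6.f70454 IH) (Lpr_bt (K6.f70443 IH) (Lpr_ct (K7.f70477 IH) (Lpr_bt (K7.f70478 IH) (Lpn (LP (LK LD1_c16 LD2_c24 LD3_c36))))))))
theorem f424867 : Led Lsl_gf (LP (LK LD1_c14 LD2_c49 LD3_c59)) = (LP (LK LD1_c16 LD2_c30 LD3_c27)) :=
  Lgr Lrot129 (Lpr_cf (f424863 IH) (Lpr_bt (f99014 IH) (Lpe (f104531 IH) (Lpe (K24.f104377 IH) (Lpr_ct (K6.f72356 IH) (Lpr_gt (K8.f72420 IH) (Lpe (f104534 IH) (Lpr_bt (f206682 IH) (Lpe (f206691 IH) (Lpe (f70479 IH) (Lpn (LP (LK LD1_c16 LD2_c30 LD3_c27)))))))))))))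
theorem f118991 : Led Lsl_dt (LP (LK LD1_c9 LD2_c25 LD3_c8)) = (LP (LK LD1_c4 LD2_c46 LD3_c16)) :=
  Lre_d IH (LK LD1_c9 LD2_c25 LD3_c8) (LK LD1_c4 LD2_c46 LD3_c16) Lrfl Lrfl
theorem f424871 : Led Lsl_gf (LP (LK LD1_c9 LD2_c25 LD3_c8)) = (LP (LK LD1_c16 LD2_c24 LD3_c36)) :=
  Lgr Lrot144 (Lpr_dt (f118991 IH) (Lpr_gt (K7.f78067 IH) (Lpr_dt (K36.f78572 IH) (Lpe (K37.f78507 IH) (Lpr_df (K37.f420104 IH) (Lpe (K37.f420106 IH) (Lpr_df (f206146 IH) (Lpr_gf (f424867 IH) (Lpr_cf (f70479 IH) (Lpn (LP (LK LD1_c16 LD2_c24 LD3_c36))))))))))))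
theorem f557914 : Led Lsl_ct (LP (LK LD1_c9 LD2_c25 LD3_c8)) = (LP (LK LD1_c5 LD2_c49 LD3_c30)) :=
  Lgr Lrot91 (Lpr_gf (f424871 IH) (Lpe (K7.f70478 IH) (Lpr_ct (K7.f70450 IH) (Lpr_gf (K37.f544402 IH) (Lpe (f540418 IH) (Lpr_bt (f419542 IH) (Lpe (f419579 IH) (Lpr_bf (f557906 IH) (Lpr_ct (f301989 IH) (Lpe (f61317 IH) (Lpn (LP (LK LD1_c5 LD2_c49 LD3_c30)))))))))))))
theorem f118988 : Led Lsl_dt (LP (LK LD1_c4 LD2_c46 LD3_c16)) = (LP (LK LD1_c9 LD2_c25 LD3_c8)) :=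
  Lre_d IH (LK LD1_c4 LD2_c46 LD3_c16) (LK LD1_c9 LD2_c25 LD3_c8) Lrfl Lrfl
theorem f301970 : Led Lsl_gt (LP (LK LD1_c2 LD2_c50 LD3_c50)) = (LP (LK LD1_c2 LD2_c17 LD3_c53)) :=
  Lgr Lrot5 (Lpr_ft (f301963 IH) (Lpe (K18.f301931 IH) (Lpr_gf (K11.f205158 IH) (Lpn (LP (LK LD1_c2 LD2_c17 LD3_c53))))))
theorem f557922 : Led Lsl_bf (LP (LK LD1_c4 LD2_c37 LD3_c46)) = (LP (LK LD1_c2 LD2_c19 LD3_c3)) :=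
  Lgr Lrot184 (Lpr_gt (K35.f207870 IH) (Lpr_dt (K35.f148990 IH) (Lpr_ct (K8.f118948 IH) (Lpr_bt (K8.f118947 IH) (Lpr_gt (K6.f24074 IH) (Lpr_dt (K2.f69446 IH) (Lpr_ct (K2.f71864 IH) (Lpr_bt (K4.f81777 IH) (Lpr_gt (K5.f112630 IH) (Lpr_dt (K5.f118937 IH) (Lpr_ct (K36.f118939 IH) (Lpe (K7.f113831 IH) (Lpe (K7.f118985 IH) (Lpr_dt (f118988 IH) (Lpr_ct (f557914 IH) (Lpr_bt (f301967 IH) (Lpr_gt (f301970 IH) (Lpr_dt (K11.f25983 IH) (Lpr_ct (K11.f204349 IH) (Lpn (LP (LK LD1_c2 LD2_c19 LD3_c3))))))))))))))))))))))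
theorem f557928 : Led Lsl_bt (LP (LK LD1_c9 LD2_c11 LD3_c9)) = (LP (LK LD1_c4 LD2_c42 LD3_c61)) :=
  Lgr Lrot119 (Lpe (K35.f207867 IH) (Lpr_bf (f557922 IH) (Lpe (K11.f104841 IH) (Lpn (LP (LK LD1_c4 LD2_c42 LD3_c61))))))
theorem f40620 : Led Lsl_ft (LP (LK LD1_c17 LD2_c4 LD3_c39)) = (LP (LK LD1_c9 LD2_c11 LD3_c9)) :=
  Lre_f IH (LK LD1_c17 LD2_c4 LD3_c39) (LK LD1_c9 LD2_c11 LD3_c9) Lrfl Lrfl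
theorem f104849 : Led Lsl_ft (LP (LK LD1_c4 LD2_c42 LD3_c61)) = (LP (LK LD1_c9 LD2_c13 LD3_c44)) :=
  Lgr Lrot48 (Lpr_ff (K11.f104844 IH) (Lpn (LP (LK LD1_c9 LD2_c13 LD3_c44))))
theorem f557936 : Led Lsl_bf (LP (LK LD1_c17 LD2_c4 LD3_c39)) = (LP (LK LD1_c9 LD2_c13 LD3_c44)) :=
  Lgr Lrot61 (Lpr_ft (f40620 IH) (Lpr_bt (f557928 IH) (Lpr_ft (f104849 IH) (Lpn (LP (LK LD1_c9 LD2_c13 LD3_c44))))))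
theorem f419081 : Led Lsl_bt (LP (LK LD1_c9 LD2_c13 LD3_c33)) = (LP (LK LD1_c4 LD2_c38 LD3_c60)) :=
  Lre_b IH (LK LD1_c9 LD2_c13 LD3_c33) (LK LD1_c4 LD2_c38 LD3_c60) Lrfl Lrfl
theorem f557944 : Led Lsl_et (LP (LK LD1_c17 LD2_c4 LD3_c39)) = (LP (LK LD1_c9 LD2_c13 LD3_c33)) :=
  Lgr Lrot74 (Lpr_bf (f557936 IH) (Lpe (K11.f104843 IH) (Lpe (f419081 IH) (Lpn (LP (LK LD1_c9 LD2_c13 LD3_c33))))))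
theorem f557952 : Led Lsl_ef (LP (LK LD1_c17 LD2_c4 LD3_c39)) = (LP (LK LD1_c9 LD2_c13 LD3_c33)) :=
  Lgr Lrot88 (Lpr_et (f557944 IH) (Lpn (LP (LK LD1_c9 LD2_c13 LD3_c33))))
theorem f207249 : Led Lsl_at (LP (LK LD1_c17 LD2_c4 LD3_c39)) = (LP (LK LD1_c9 LD2_c11 LD3_c13)) :=
  Lre_a IH (LK LD1_c17 LD2_c4 LD3_c39) (LK LD1_c9 LD2_c11 LD3_c13) Lrfl Lrfl
theorem f152555 : Led Lsl_bt (LP (LK LD1_c4 LD2_c37 LD3_c54)) = (LP (LK LD1_c9 LD2_c11 LD3_c13)) :=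
  Lre_b IH (LK LD1_c4 LD2_c37 LD3_c54) (LK LD1_c9 LD2_c11 LD3_c13) Lrfl Lrfl
theorem f207336 : Led Lsl_bt (LP (LK LD1_c6 LD2_c44 LD3_c18)) = (LP (LK LD1_c3 LD2_c20 LD3_c23)) :=
  Lre_b IH (LK LD1_c6 LD2_c44 LD3_c18) (LK LD1_c3 LD2_c20 LD3_c23) Lrfl Lrfl
theorem f209297 : Led Lsl_et (LP (LK LD1_c9 LD2_c11 LD3_c13)) = (LP (LK LD1_c6 LD2_c44 LD3_c18)) :=
  Lgr Lrot74 (Lpe (f152555 IH) (Lpr_ef (K35.f206906 IH) (Lpe (f207336 IH) (Lpn (LP (LK LD1_c6 LD2_c44 LD3_c18))))))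
theorem f557954 : Led Lsl_at (LP (LK LD1_c6 LD2_c44 LD3_c18)) = (LP (LK LD1_c9 LD2_c13 LD3_c33)) :=
  Lgr Lrot80 (Lpe (f209297 IH) (Lpe (f207249 IH) (Lpr_ef (f557952 IH) (Lpn (LP (LK LD1_c9 LD2_c13 LD3_c33))))))
theorem f209304 : Led Lsl_ft (LP (LK LD1_c3 LD2_c20 LD3_c17)) = (LP (LK LD1_c6 LD2_c44 LD3_c18)) :=
  Lre_f IH (LK LD1_c3 LD2_c20 LD3_c17) (LK LD1_c6 LD2_c44 LD3_c18) Lrfl Lrfl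
theorem f104828 : Led Lsl_ft (LP (LK LD1_c9 LD2_c13 LD3_c33)) = (LP (LK LD1_c4 LD2_c38 LD3_c51)) :=
  Lre_f IH (LK LD1_c9 LD2_c13 LD3_c33) (LK LD1_c4 LD2_c38 LD3_c51) Lrfl Lrfl
theorem f557958 : Led Lsl_af (LP (LK LD1_c3 LD2_c20 LD3_c17)) = (LP (LK LD1_c4 LD2_c38 LD3_c51)) :=
  Lgr Lrot45 (Lpr_ft (f209304 IH) (Lpr_at (f557954 IH) (Lpr_ft (f104828 IH) (Lpn (LP (LK LD1_c4 LD2_c38 LD3_c51))))))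
theorem f157778 : Led Lsl_ct (LP (LK LD1_c3 LD2_c20 LD3_c17)) = (LP (LK LD1_c6 LD2_c44 LD3_c15)) :=
  Lre_c IH (LK LD1_c3 LD2_c20 LD3_c17) (LK LD1_c6 LD2_c44 LD3_c15) Lrfl Lrfl
theorem f40414 : Led Lsl_et (LP (LK LD1_c6 LD2_c50 LD3_c24)) = (LP (LK LD1_c3 LD2_c23 LD3_c34)) :=
  Lre_e IH (LK LD1_c6 LD2_c50 LD3_c24) (LK LD1_c3 LD2_c23 LD3_c34) Lrfl Lrfl
theorem f157766 : Led Lsl_et (LP (LK LD1_c3 LD2_c20 LD3_c16)) = (LP (LK LD1_c6 LD2_c44 LD3_c15)) :=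
  Lre_e IH (LK LD1_c3 LD2_c20 LD3_c16) (LK LD1_c6 LD2_c44 LD3_c15) Lrfl Lrfl
theorem f207834 : Led Lsl_af (LP (LK LD1_c6 LD2_c50 LD3_c24)) = (LP (LK LD1_c6 LD2_c44 LD3_c15)) :=
  Lgr Lrot50 (Lpr_et (f40414 IH) (Lpr_at (K35.f207831 IH) (Lpr_et (f157766 IH) (Lpn (LP (LK LD1_c6 LD2_c44 LD3_c15))))))
theorem f557965 : Led Lsl_ct (LP (LK LD1_c6 LD2_c50 LD3_c24)) = (LP (LK LD1_c4 LD2_c38 LD3_c51)) :=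
  Lgr Lrot111 (Lpr_af (f207834 IH) (Lpe (f157778 IH) (Lpr_af (f557958 IH) (Lpn (LP (LK LD1_c4 LD2_c38 LD3_c51))))))
theorem f557992 : Led Lsl_cf (LP (LK LD1_c6 LD2_c50 LD3_c24)) = (LP (LK LD1_c4 LD2_c38 LD3_c51)) :=
  Lgr Lrot11 (Lpr_ct (f557965 IH) (Lpn (LP (LK LD1_c4 LD2_c38 LD3_c51))))
theorem f207878 : Led Lsl_bt (LP (LK LD1_c6 LD2_c50 LD3_c24)) = (LP (LK LD1_c13 LD2_c1 LD3_c37)) :=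
  Lre_b IH (LK LD1_c6 LD2_c50 LD3_c24) (LK LD1_c13 LD2_c1 LD3_c37) Lrfl Lrfl
theorem f61084 : Led Lsl_ct (LP (LK LD1_c4 LD2_c38 LD3_c59)) = (LP (LK LD1_c2 LD2_c16 LD3_c29)) :=
  Lre_c IH (LK LD1_c4 LD2_c38 LD3_c59) (LK LD1_c2 LD2_c16 LD3_c29) Lrfl Lrfl
theorem f104855 : Led Lsl_bt (LP (LK LD1_c9 LD2_c13 LD3_c42)) = (LP (LK LD1_c4 LD2_c38 LD3_c59)) :=
  Lre_b IH (LK LD1_c9 LD2_c13 LD3_c42) (LK LD1_c4 LD2_c38 LD3_c59) Lrfl Lrfl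
theorem f557994 : Led Lsl_ct (LP (LK LD1_c13 LD2_c1 LD3_c37)) = (LP (LK LD1_c9 LD2_c13 LD3_c42)) :=
  Lgr Lrot83 (Lpe (f207878 IH) (Lpr_cf (f557992 IH) (Lpe (K11.f104823 IH) (Lpe (f61084 IH) (Lpe (f104855 IH) (Lpn (LP (LK LD1_c9 LD2_c13 LD3_c42))))))))
theorem f207874 : Led Lsl_et (LP (LK LD1_c6 LD2_c50 LD3_c23)) = (LP (LK LD1_c13 LD2_c1 LD3_c37)) :=
  Lre_e IH (LK LD1_c6 LD2_c50 LD3_c23) (LK LD1_c13 LD2_c1 LD3_c37) Lrfl Lrfl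
theorem f104862 : Led Lsl_bt (LP (LK LD1_c4 LD2_c42 LD3_c60)) = (LP (LK LD1_c2 LD2_c19 LD3_c2)) :=
  Lre_b IH (LK LD1_c4 LD2_c42 LD3_c60) (LK LD1_c2 LD2_c19 LD3_c2) Lrfl Lrfl
theorem f104863 : Led Lsl_bt (LP (LK LD1_c4 LD2_c38 LD3_c59)) = (LP (LK LD1_c9 LD2_c13 LD3_c42)) :=
  Lre_b IH (LK LD1_c4 LD2_c38 LD3_c59) (LK LD1_c9 LD2_c13 LD3_c42) Lrfl Lrfl
theorem f104864 : Led Lsl_ef (LP (LK LD1_c4 LD2_c42 LD3_c60)) = (LP (LK LD1_c9 LD2_c13 LD3_c42)) :=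
  Lgr Lrot29 (Lpr_bt (f104862 IH) (Lpr_et (K11.f104858 IH) (Lpr_bt (f104863 IH) (Lpn (LP (LK LD1_c9 LD2_c13 LD3_c42))))))
theorem f557996 : Led Lsl_cf (LP (LK LD1_c6 LD2_c50 LD3_c23)) = (LP (LK LD1_c4 LD2_c42 LD3_c60)) :=
  Lgr Lrot39 (Lpr_et (f207874 IH) (Lpr_ct (f557994 IH) (Lpe (f104864 IH) (Lpn (LP (LK LD1_c4 LD2_c42 LD3_c60))))))
theorem f40381 : Led Lsl_bt (LP (LK LD1_c8 LD2_c0 LD3_c37)) = (LP (LK LD1_c3 LD2_c59 LD3_c47)) :=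
  Lre_b IH (LK LD1_c8 LD2_c0 LD3_c37) (LK LD1_c3 LD2_c59 LD3_c47) Lrfl Lrfl
theorem f207838 : Led Lsl_ft (LP (LK LD1_c6 LD2_c50 LD3_c23)) = (LP (LK LD1_c8 LD2_c0 LD3_c37)) :=
  Lgr Lrot75 (Lpe (K32.f207833 IH) (Lpr_ff (K35.f207836 IH) (Lpe (f40381 IH) (Lpn (LP (LK LD1_c8 LD2_c0 LD3_c37))))))
theorem f66575 : Led Lsl_bt (LP (LK LD1_c6 LD2_c31 LD3_c5)) = (LP (LK LD1_c3 LD2_c13 LD3_c43)) :=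
  Lre_b IH (LK LD1_c6 LD2_c31 LD3_c5) (LK LD1_c3 LD2_c13 LD3_c43) Lrfl Lrfl
theorem f66576 : Led Lsl_ct (LP (LK LD1_c6 LD2_c31 LD3_c5)) = (LP (LK LD1_c3 LD2_c13 LD3_c45)) :=
  Lre_c IH (LK LD1_c6 LD2_c31 LD3_c5) (LK LD1_c3 LD2_c13 LD3_c45) Lrfl Lrfl
theorem f66570 : Led Lsl_gt (LP (LK LD1_c6 LD2_c31 LD3_c9)) = (LP (LK LD1_c3 LD2_c13 LD3_c45)) :=
  Lre_g IH (LK LD1_c6 LD2_c31 LD3_c9) (LK LD1_c3 LD2_c13 LD3_c45) Lrfl Lrfl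
theorem f36240 : Led Lsl_bt (LP (LK LD1_c1 LD2_c38 LD3_c10)) = (LP (LK LD1_c1 LD2_c56 LD3_c33)) :=
  Lgr Lrot128 (Lpe (K2.f14636 IH) (Lpe (K1.f36238 IH) (Lpr_cf (K1.f36226 IH) (Lpe (K4.f36231 IH) (Lpe (K1.f36239 IH) (Lpn (LP (LK LD1_c1 LD2_c56 LD3_c33))))))))
theorem f94002 : Led Lsl_cf (LP (LK LD1_c6 LD2_c31 LD3_c9)) = (LP (LK LD1_c8 LD2_c0 LD3_c37)) :=
  Lgr Lrot160 (Lpr_gt (f66570 IH) (Lpe (f66576 IH) (Lpr_bt (f66575 IH) (Lpr_gt (K2.f93997 IH) (Lpr_ct (K2.f17139 IH) (Lpr_gt (K2.f11880 IH) (Lpe (K4.f15031 IH) (Lpr_bt (f36240 IH) (Lpr_gt (K35.f36233 IH) (Lpe (f40381 IH) (Lpn (LP (LK LD1_c8 LD2_c0 LD3_c37)))))))))))))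
theorem f558000 : Led Lsl_ft (LP (LK LD1_c6 LD2_c31 LD3_c9)) = (LP (LK LD1_c4 LD2_c42 LD3_c60)) :=
  Lgr Lrot4 (Lpr_cf (f94002 IH) (Lpe (f207838 IH) (Lpr_cf (f557996 IH) (Lpn (LP (LK LD1_c4 LD2_c42 LD3_c60))))))
theorem f66577 : Led Lsl_gt (LP (LK LD1_c3 LD2_c13 LD3_c45)) = (LP (LK LD1_c6 LD2_c31 LD3_c8)) :=
  Lre_g IH (LK LD1_c3 LD2_c13 LD3_c45) (LK LD1_c6 LD2_c31 LD3_c8) Lrfl Lrfl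
theorem f558008 : Led Lsl_af (LP (LK LD1_c6 LD2_c31 LD3_c8)) = (LP (LK LD1_c4 LD2_c42 LD3_c60)) :=
  Lgr Lrot31 (Lpe (f66577 IH) (Lpe (f66570 IH) (Lpr_ft (f558000 IH) (Lpn (LP (LK LD1_c4 LD2_c42 LD3_c60))))))
theorem f558016 : Led Lsl_et (LP (LK LD1_c6 LD2_c31 LD3_c8)) = (LP (LK LD1_c12 LD2_c30 LD3_c52)) :=
  Lre_e IH (LK LD1_c6 LD2_c31 LD3_c8) (LK LD1_c12 LD2_c30 LD3_c52) Lrfl Lrfl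
theorem f558017 : Led Lsl_at (LP (LK LD1_c12 LD2_c30 LD3_c52)) = (LP (LK LD1_c9 LD2_c13 LD3_c42)) :=
  Lgr Lrot80 (Lpe (f558016 IH) (Lpr_af (f558008 IH) (Lpr_ef (f104864 IH) (Lpn (LP (LK LD1_c9 LD2_c13 LD3_c42))))))
theorem f68970 : Led Lsl_bt (LP (LK LD1_c2 LD2_c57 LD3_c28)) = (LP (LK LD1_c6 LD2_c2 LD3_c46)) :=
  Lre_b IH (LK LD1_c2 LD2_c57 LD3_c28) (LK LD1_c6 LD2_c2 LD3_c46) Lrfl Lrfl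
theorem f68955 : Led Lsl_at (LP (LK LD1_c6 LD2_c2 LD3_c46)) = (LP (LK LD1_c11 LD2_c49 LD3_c37)) :=
  Lre_a IH (LK LD1_c6 LD2_c2 LD3_c46) (LK LD1_c11 LD2_c49 LD3_c37) Lrfl Lrfl
theorem f558021 : Led Lsl_bf (LP (LK LD1_c12 LD2_c30 LD3_c52)) = (LP (LK LD1_c11 LD2_c49 LD3_c37)) :=
  Lgr Lrot81 (Lpr_at (f558017 IH) (Lpr_bt (f104855 IH) (Lpe (K11.f204298 IH) (Lpr_bt (f68970 IH) (Lpr_at (f68955 IH) (Lpn (LP (LK LD1_c11 LD2_c49 LD3_c37))))))))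
theorem f558023 : Led Lsl_bt (LP (LK LD1_c12 LD2_c30 LD3_c52)) = (LP (LK LD1_c11 LD2_c49 LD3_c37)) :=
  Lgr Lrot127 (Lpr_bf (f558021 IH) (Lpn (LP (LK LD1_c11 LD2_c49 LD3_c37))))
theorem f68947 : Led Lsl_bt (LP (LK LD1_c6 LD2_c2 LD3_c46)) = (LP (LK LD1_c2 LD2_c57 LD3_c28)) :=
  Lre_b IH (LK LD1_c6 LD2_c2 LD3_c46) (LK LD1_c2 LD2_c57 LD3_c28) Lrfl Lrfl
theorem f68655 : Led Lsl_bt (LP (LK LD1_c1 LD2_c31 LD3_c23)) = (LP (LK LD1_c3 LD2_c10 LD3_c22)) :=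
  Lre_b IH (LK LD1_c1 LD2_c31 LD3_c23) (LK LD1_c3 LD2_c10 LD3_c22) Lrfl Lrfl
theorem f68948 : Led Lsl_ef (LP (LK LD1_c6 LD2_c2 LD3_c46)) = (LP (LK LD1_c3 LD2_c10 LD3_c22)) :=
  Lgr Lrot29 (Lpr_bt (f68947 IH) (Lpr_et (K11.f68940 IH) (Lpr_bt (f68655 IH) (Lpn (LP (LK LD1_c3 LD2_c10 LD3_c22))))))
theorem f68956 : Led Lsl_at (LP (LK LD1_c6 LD2_c25 LD3_c26)) = (LP (LK LD1_c3 LD2_c10 LD3_c22)) :=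
  Lre_a IH (LK LD1_c6 LD2_c25 LD3_c26) (LK LD1_c3 LD2_c10 LD3_c22) Lrfl Lrfl
theorem f68957 : Led Lsl_et (LP (LK LD1_c11 LD2_c49 LD3_c37)) = (LP (LK LD1_c6 LD2_c25 LD3_c26)) :=
  Lgr Lrot123 (Lpe (f68955 IH) (Lpr_ef (f68948 IH) (Lpe (f68956 IH) (Lpn (LP (LK LD1_c6 LD2_c25 LD3_c26))))))
theorem f558025 : Led Lsl_bf (LP (LK LD1_c6 LD2_c31 LD3_c8)) = (LP (LK LD1_c6 LD2_c25 LD3_c26)) :=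
  Lgr Lrot96 (Lpr_et (f558016 IH) (Lpr_bt (f558023 IH) (Lpr_et (f68957 IH) (Lpn (LP (LK LD1_c6 LD2_c25 LD3_c26))))))
theorem f124225 : Led Lsl_bt (LP (LK LD1_c3 LD2_c43 LD3_c3)) = (LP (LK LD1_c1 LD2_c48 LD3_c36)) :=
  Lre_b IH (LK LD1_c3 LD2_c43 LD3_c3) (LK LD1_c1 LD2_c48 LD3_c36) Lrfl Lrfl
theorem f66569 : Led Lsl_bt (LP (LK LD1_c1 LD2_c33 LD3_c26)) = (LP (LK LD1_c3 LD2_c13 LD3_c45)) :=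
  Lre_b IH (LK LD1_c1 LD2_c33 LD3_c26) (LK LD1_c3 LD2_c13 LD3_c45) Lrfl Lrfl
theorem f129302 : Led Lsl_ff (LP (LK LD1_c3 LD2_c43 LD3_c3)) = (LP (LK LD1_c3 LD2_c13 LD3_c45)) :=
  Lgr Lrot25 (Lpr_bt (f124225 IH) (Lpr_ft (K5.f129300 IH) (Lpr_bt (f66569 IH) (Lpn (LP (LK LD1_c3 LD2_c13 LD3_c45))))))
theorem f439949 : Led Lsl_at (LP (LK LD1_c3 LD2_c43 LD3_c3)) = (LP (LK LD1_c7 LD2_c26 LD3_c49)) :=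
  Lre_a IH (LK LD1_c3 LD2_c43 LD3_c3) (LK LD1_c7 LD2_c26 LD3_c49) Lrfl Lrfl
theorem f440031 : Led Lsl_gf (LP (LK LD1_c7 LD2_c26 LD3_c49)) = (LP (LK LD1_c6 LD2_c31 LD3_c8)) :=
  Lgr Lrot76 (Lpe (f439949 IH) (Lpr_ff (f129302 IH) (Lpr_gt (f66577 IH) (Lpn (LP (LK LD1_c6 LD2_c31 LD3_c8))))))
theorem f129276 : Led Lsl_bt (LP (LK LD1_c1 LD2_c48 LD3_c36)) = (LP (LK LD1_c3 LD2_c43 LD3_c3)) :=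
  Lre_b IH (LK LD1_c1 LD2_c48 LD3_c36) (LK LD1_c3 LD2_c43 LD3_c3) Lrfl Lrfl
theorem f124113 : Led Lsl_bt (LP (LK LD1_c3 LD2_c13 LD3_c45)) = (LP (LK LD1_c1 LD2_c33 LD3_c26)) :=
  Lre_b IH (LK LD1_c3 LD2_c13 LD3_c45) (LK LD1_c1 LD2_c33 LD3_c26) Lrfl Lrfl
theorem f129310 : Led Lsl_ft (LP (LK LD1_c3 LD2_c43 LD3_c3)) = (LP (LK LD1_c3 LD2_c13 LD3_c45)) :=
  Lgr Lrot75 (Lpe (f129276 IH) (Lpr_ff (K5.f129306 IH) (Lpe (f124113 IH) (Lpn (LP (LK LD1_c3 LD2_c13 LD3_c45))))))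
theorem f94001 : Led Lsl_ct (LP (LK LD1_c3 LD2_c13 LD3_c45)) = (LP (LK LD1_c6 LD2_c31 LD3_c5)) :=
  Lre_c IH (LK LD1_c3 LD2_c13 LD3_c45) (LK LD1_c6 LD2_c31 LD3_c5) Lrfl Lrfl
theorem f94023 : Led Lsl_bt (LP (LK LD1_c3 LD2_c13 LD3_c43)) = (LP (LK LD1_c6 LD2_c31 LD3_c5)) :=
  Lre_b IH (LK LD1_c3 LD2_c13 LD3_c43) (LK LD1_c6 LD2_c31 LD3_c5) Lrfl Lrfl
theorem f91382 : Led Lsl_bt (LP (LK LD1_c6 LD2_c49 LD3_c46)) = (LP (LK LD1_c3 LD2_c23 LD3_c12)) :=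
  Lre_b IH (LK LD1_c6 LD2_c49 LD3_c46) (LK LD1_c3 LD2_c23 LD3_c12) Lrfl Lrfl
theorem f124749 : Led Lsl_ft (LP (LK LD1_c6 LD2_c31 LD3_c5)) = (LP (LK LD1_c6 LD2_c49 LD3_c46)) :=
  Lgr Lrot75 (Lpe (f94023 IH) (Lpr_ff (K5.f124747 IH) (Lpe (f91382 IH) (Lpn (LP (LK LD1_c6 LD2_c49 LD3_c46))))))
theorem f439944 : Led Lsl_cf (LP (LK LD1_c3 LD2_c43 LD3_c3)) = (LP (LK LD1_c6 LD2_c49 LD3_c46)) :=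
  Lgr Lrot108 (Lpr_ft (f129310 IH) (Lpr_ct (f94001 IH) (Lpr_ft (f124749 IH) (Lpn (LP (LK LD1_c6 LD2_c49 LD3_c46))))))
theorem f439952 : Led Lsl_ct (LP (LK LD1_c3 LD2_c43 LD3_c3)) = (LP (LK LD1_c6 LD2_c49 LD3_c46)) :=
  Lgr Lrot59 (Lpr_cf (f439944 IH) (Lpn (LP (LK LD1_c6 LD2_c49 LD3_c46))))
theorem f439943 : Led Lsl_at (LP (LK LD1_c7 LD2_c26 LD3_c49)) = (LP (LK LD1_c3 LD2_c43 LD3_c3)) :=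
  Lre_a IH (LK LD1_c7 LD2_c26 LD3_c49) (LK LD1_c3 LD2_c43 LD3_c3) Lrfl Lrfl
theorem f424992 : Led Lsl_at (LP (LK LD1_c6 LD2_c49 LD3_c46)) = (LP (LK LD1_c13 LD2_c1 LD3_c3)) :=
  Lre_a IH (LK LD1_c6 LD2_c49 LD3_c46) (LK LD1_c13 LD2_c1 LD3_c3) Lrfl Lrfl
theorem f439986 : Led Lsl_cf (LP (LK LD1_c7 LD2_c26 LD3_c49)) = (LP (LK LD1_c13 LD2_c1 LD3_c3)) :=
  Lgr Lrot1 (Lpr_at (f439943 IH) (Lpr_ct (f439952 IH) (Lpr_at (f424992 IH) (Lpn (LP (LK LD1_c13 LD2_c1 LD3_c3))))))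
theorem f91487 : Led Lsl_at (LP (LK LD1_c6 LD2_c20 LD3_c10)) = (LP (LK LD1_c12 LD2_c14 LD3_c59)) :=
  Lre_a IH (LK LD1_c6 LD2_c20 LD3_c10) (LK LD1_c12 LD2_c14 LD3_c59) Lrfl Lrfl
theorem f124735 : Led Lsl_at (LP (LK LD1_c13 LD2_c1 LD3_c3)) = (LP (LK LD1_c6 LD2_c49 LD3_c46)) :=
  Lre_a IH (LK LD1_c13 LD2_c1 LD3_c3) (LK LD1_c6 LD2_c49 LD3_c46) Lrfl Lrfl
theorem f124736 : Led Lsl_bt (LP (LK LD1_c12 LD2_c14 LD3_c59)) = (LP (LK LD1_c13 LD2_c1 LD3_c3)) :=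
  Lgr Lrot62 (Lpe (f91487 IH) (Lpe (K5.f91433 IH) (Lpr_af (K5.f124731 IH) (Lpe (f91382 IH) (Lpe (f124735 IH) (Lpn (LP (LK LD1_c13 LD2_c1 LD3_c3))))))))
theorem f124775 : Led Lsl_ct (LP (LK LD1_c6 LD2_c20 LD3_c9)) = (LP (LK LD1_c12 LD2_c14 LD3_c59)) :=
  Lre_c IH (LK LD1_c6 LD2_c20 LD3_c9) (LK LD1_c12 LD2_c14 LD3_c59) Lrfl Lrfl
theorem f439988 : Led Lsl_bt (LP (LK LD1_c7 LD2_c26 LD3_c49)) = (LP (LK LD1_c6 LD2_c30 LD3_c50)) :=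
  Lgr Lrot128 (Lpr_cf (f439986 IH) (Lpe (f124736 IH) (Lpe (f124775 IH) (Lpe (K6.f141324 IH) (Lpe (K6.f141206 IH) (Lpn (LP (LK LD1_c6 LD2_c30 LD3_c50))))))))
theorem f439990 : Led Lsl_bf (LP (LK LD1_c7 LD2_c26 LD3_c49)) = (LP (LK LD1_c6 LD2_c30 LD3_c50)) :=
  Lgr Lrot24 (Lpr_bt (f439988 IH) (Lpn (LP (LK LD1_c6 LD2_c30 LD3_c50))))
theorem f157882 : Led Lsl_ct (LP (LK LD1_c9 LD2_c9 LD3_c20)) = (LP (LK LD1_c5 LD2_c47 LD3_c52)) :=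
  Lgr Lrot59 (Lpr_cf (K8.f157875 IH) (Lpn (LP (LK LD1_c5 LD2_c47 LD3_c52))))
theorem f141998 : Led Lsl_gt (LP (LK LD1_c4 LD2_c36 LD3_c39)) = (LP (LK LD1_c9 LD2_c9 LD3_c20)) :=
  Lre_g IH (LK LD1_c4 LD2_c36 LD3_c39) (LK LD1_c9 LD2_c9 LD3_c20) Lrfl Lrfl
theorem f161617 : Led Lsl_gf (LP (LK LD1_c6 LD2_c20 LD3_c16)) = (LP (LK LD1_c9 LD2_c9 LD3_c21)) :=
  Lgr Lrot147 (Lpr_ct (K8.f161607 IH) (Lpr_gt (K8.f139764 IH) (Lpr_ct (K6.f139756 IH) (Lpr_df (K6.f99944 IH) (Lpe (K6.f99968 IH) (Lpr_gf (K8.f132473 IH) (Lpe (f157882 IH) (Lpe (f141998 IH) (Lpe (K6.f141254 IH) (Lpn (LP (LK LD1_c9 LD2_c9 LD3_c21))))))))))))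
theorem f161611 : Led Lsl_bf (LP (LK LD1_c6 LD2_c42 LD3_c2)) = (LP (LK LD1_c11 LD2_c28 LD3_c45)) :=
  Lgr Lrot90 (Lpr_ct (K36.f66526 IH) (Lpe (K7.f150855 IH) (Lpr_ct (K8.f150872 IH) (Lpr_bt (K7.f151173 IH) (Lpr_ct (K8.f161607 IH) (Lpn (LP (LK LD1_c11 LD2_c28 LD3_c45))))))))
theorem f150780 : Led Lsl_gt (LP (LK LD1_c6 LD2_c42 LD3_c2)) = (LP (LK LD1_c7 LD2_c24 LD3_c58)) :=
  Lgr Lrot5 (Lpr_ft (K30.f150774 IH) (Lpe (K7.f150737 IH) (Lpr_gf (K7.f150645 IH) (Lpn (LP (LK LD1_c7 LD2_c24 LD3_c58))))))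
theorem f558029 : Led Lsl_cf (LP (LK LD1_c6 LD2_c28 LD3_c54)) = (LP (LK LD1_c6 LD2_c25 LD3_c26)) :=
  Lgr Lrot163 (Lpr_gf (K36.f208852 IH) (Lpr_cf (K7.f130906 IH) (Lpe (f150780 IH) (Lpr_bf (f161611 IH) (Lpr_ct (K8.f161521 IH) (Lpr_gf (f161617 IH) (Lpe (K6.f141206 IH) (Lpe (f439990 IH) (Lpr_gf (f440031 IH) (Lpr_bf (f558025 IH) (Lpn (LP (LK LD1_c6 LD2_c25 LD3_c26)))))))))))))
theorem f128379 : Led Lsl_bt (LP (LK LD1_c6 LD2_c28 LD3_c54)) = (LP (LK LD1_c3 LD2_c12 LD3_c25)) :=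
  Lre_b IH (LK LD1_c6 LD2_c28 LD3_c54) (LK LD1_c3 LD2_c12 LD3_c25) Lrfl Lrfl
theorem f152486 : Led Lsl_at (LP (LK LD1_c0 LD2_c18 LD3_c36)) = (LP (LK LD1_c0 LD2_c41 LD3_c34)) :=
  Lre_a IH (LK LD1_c0 LD2_c18 LD3_c36) (LK LD1_c0 LD2_c41 LD3_c34) Lrfl Lrfl
theorem f152409 : Led Lsl_at (LP (LK LD1_c1 LD2_c6 LD3_c1)) = (LP (LK LD1_c0 LD2_c30 LD3_c13)) :=
  Lre_a IH (LK LD1_c1 LD2_c6 LD3_c1) (LK LD1_c0 LD2_c30 LD3_c13) Lrfl Lrfl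
theorem f153603 : Led Lsl_bt (LP (LK LD1_c0 LD2_c41 LD3_c34)) = (LP (LK LD1_c1 LD2_c6 LD3_c1)) :=
  Lgr Lrot62 (Lpe (f152486 IH) (Lpe (K1.f61873 IH) (Lpr_af (K7.f153594 IH) (Lpe (K3.f26005 IH) (Lpe (f152409 IH) (Lpn (LP (LK LD1_c1 LD2_c6 LD3_c1))))))))
theorem f147743 : Led Lsl_gf (LP (LK LD1_c0 LD2_c23 LD3_c0)) = (LP (LK LD1_c0 LD2_c19 LD3_c19)) :=
  Lgr Lrot104 (Lpr_ct (K7.f147742 IH) (Lpe (K7.f147741 IH) (Lpe (K7.f147738 IH) (Lpr_gf (K7.f147727 IH) (Lpr_cf (K3.f108777 IH) (Lpr_gf (K3.f109120 IH) (Lpr_df (K3.f104140 IH) (Lpe (K3.f107225 IH) (Lpr_ct (K0.f23666 IH) (Lpn (LP (LK LD1_c0 LD2_c19 LD3_c19))))))))))))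
theorem f206131 : Led Lsl_dt (LP (LK LD1_c7 LD2_c26 LD3_c27)) = (LP (LK LD1_c7 LD2_c51 LD3_c55)) :=
  Lgr Lrot60 (Lpe (K8.f162582 IH) (Lpr_df (K28.f162596 IH) (Lpr_ff (f206125 IH) (Lpn (LP (LK LD1_c7 LD2_c51 LD3_c55))))))
theorem f68971 : Led Lsl_bt (LP (LK LD1_c3 LD2_c10 LD3_c22)) = (LP (LK LD1_c1 LD2_c31 LD3_c23)) :=
  Lre_b IH (LK LD1_c3 LD2_c10 LD3_c22) (LK LD1_c1 LD2_c31 LD3_c23) Lrfl Lrfl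
theorem f210162 : Led Lsl_bt (LP (LK LD1_c3 LD2_c5 LD3_c33)) = (LP (LK LD1_c6 LD2_c16 LD3_c54)) :=
  Lre_b IH (LK LD1_c3 LD2_c5 LD3_c33) (LK LD1_c6 LD2_c16 LD3_c54) Lrfl Lrfl
theorem f210201 : Led Lsl_ff (LP (LK LD1_c3 LD2_c10 LD3_c22)) = (LP (LK LD1_c6 LD2_c16 LD3_c54)) :=
  Lgr Lrot25 (Lpr_bt (f68971 IH) (Lpr_ft (K11.f210197 IH) (Lpr_bt (f210162 IH) (Lpn (LP (LK LD1_c6 LD2_c16 LD3_c54))))))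
theorem f210215 : Led Lsl_ft (LP (LK LD1_c3 LD2_c10 LD3_c22)) = (LP (LK LD1_c6 LD2_c16 LD3_c54)) :=
  Lgr Lrot48 (Lpr_ff (f210201 IH) (Lpn (LP (LK LD1_c6 LD2_c16 LD3_c54))))
theorem f210172 : Led Lsl_at (LP (LK LD1_c6 LD2_c16 LD3_c54)) = (LP (LK LD1_c12 LD2_c10 LD3_c45)) :=
  Lre_a IH (LK LD1_c6 LD2_c16 LD3_c54) (LK LD1_c12 LD2_c10 LD3_c45) Lrfl Lrfl
theorem f210219 : Led Lsl_ff (LP (LK LD1_c6 LD2_c25 LD3_c26)) = (LP (LK LD1_c12 LD2_c10 LD3_c45)) :=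
  Lgr Lrot30 (Lpr_at (f68956 IH) (Lpr_ft (f210215 IH) (Lpr_at (f210172 IH) (Lpn (LP (LK LD1_c12 LD2_c10 LD3_c45))))))
theorem f210232 : Led Lsl_dt (LP (LK LD1_c6 LD2_c16 LD3_c53)) = (LP (LK LD1_c12 LD2_c10 LD3_c45)) :=
  Lre_d IH (LK LD1_c6 LD2_c16 LD3_c53) (LK LD1_c12 LD2_c10 LD3_c45) Lrfl Lrfl
theorem f210233 : Led Lsl_ft (LP (LK LD1_c12 LD2_c10 LD3_c38)) = (LP (LK LD1_c6 LD2_c16 LD3_c53)) :=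
  Lre_f IH (LK LD1_c12 LD2_c10 LD3_c38) (LK LD1_c6 LD2_c16 LD3_c53) Lrfl Lrfl
theorem f210234 : Led Lsl_dt (LP (LK LD1_c6 LD2_c25 LD3_c26)) = (LP (LK LD1_c12 LD2_c10 LD3_c38)) :=
  Lgr Lrot60 (Lpr_ff (f210219 IH) (Lpe (f210232 IH) (Lpe (f210233 IH) (Lpn (LP (LK LD1_c12 LD2_c10 LD3_c38))))))
theorem f210241 : Led Lsl_df (LP (LK LD1_c6 LD2_c25 LD3_c26)) = (LP (LK LD1_c12 LD2_c10 LD3_c38)) :=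
  Lgr Lrot38 (Lpr_dt (f210234 IH) (Lpn (LP (LK LD1_c12 LD2_c10 LD3_c38))))
theorem f210245 : Led Lsl_gt (LP (LK LD1_c6 LD2_c16 LD3_c51)) = (LP (LK LD1_c12 LD2_c10 LD3_c38)) :=
  Lre_g IH (LK LD1_c6 LD2_c16 LD3_c51) (LK LD1_c12 LD2_c10 LD3_c38) Lrfl Lrfl
theorem f210252 : Led Lsl_bt (LP (LK LD1_c12 LD2_c10 LD3_c40)) = (LP (LK LD1_c6 LD2_c16 LD3_c51)) :=
  Lre_b IH (LK LD1_c12 LD2_c10 LD3_c40) (LK LD1_c6 LD2_c16 LD3_c51) Lrfl Lrfl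
theorem f558037 : Led Lsl_ct (LP (LK LD1_c7 LD2_c51 LD3_c55)) = (LP (LK LD1_c12 LD2_c10 LD3_c40)) :=
  Lgr Lrot191 (Lpe (f206131 IH) (Lpe (K8.f155517 IH) (Lpe (K8.f155516 IH) (Lpe (K8.f148053 IH) (Lpe (K7.f148437 IH) (Lpr_gf (f147743 IH) (Lpr_bf (K0.f23590 IH) (Lpe (K0.f23597 IH) (Lpe (K2.f79139 IH) (Lpr_gf (K32.f152622 IH) (Lpe (f153603 IH) (Lpe (K7.f104686 IH) (Lpe (K8.f104687 IH) (Lpe (K8.f155507 IH) (Lpe (f128379 IH) (Lpr_cf (f558029 IH) (Lpr_df (f210241 IH) (Lpe (f210245 IH) (Lpe (f210252 IH) (Lpn (LP (LK LD1_c12 LD2_c10 LD3_c40))))))))))))))))))))))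
theorem f424865 : Led Lsl_gt (LP (LK LD1_c14 LD2_c49 LD3_c59)) = (LP (LK LD1_c9 LD2_c26 LD3_c24)) :=
  Lgr Lrot65 (Lpr_cf (f424863 IH) (Lpr_bt (f99014 IH) (Lpe (f99013 IH) (Lpe (K24.f99012 IH) (Lpr_ct (K3.f98909 IH) (Lpe (K3.f78058 IH) (Lpe (K0.f13720 IH) (Lpe (K3.f99074 IH) (Lpe (K11.f98893 IH) (Lpr_ct (K7.f99003 IH) (Lpn (LP (LK LD1_c9 LD2_c26 LD3_c24)))))))))))))
theorem f558055 : Led Lsl_gt (LP (LK LD1_c8 LD2_c49 LD3_c39)) = (LP (LK LD1_c12 LD2_c10 LD3_c40)) :=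
  Lgr Lrot65 (Lpr_cf (K0.f14749 IH) (Lpe (K1.f40071 IH) (Lpr_gf (K24.f149205 IH) (Lpr_bf (f557886 IH) (Lpe (f557894 IH) (Lpe (f206689 IH) (Lpe (K11.f99064 IH) (Lpe (f424865 IH) (Lpe (f206138 IH) (Lpr_ct (f558037 IH) (Lpn (LP (LK LD1_c12 LD2_c10 LD3_c40)))))))))))))
theorem f40087 : Led Lsl_gt (LP (LK LD1_c4 LD2_c26 LD3_c7)) = (LP (LK LD1_c2 LD2_c10 LD3_c21)) :=
  Lre_g IH (LK LD1_c4 LD2_c26 LD3_c7) (LK LD1_c2 LD2_c10 LD3_c21) Lrfl Lrfl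
theorem f139575 : Led Lsl_bf (LP (LK LD1_c3 LD2_c57 LD3_c60)) = (LP (LK LD1_c4 LD2_c26 LD3_c21)) :=
  Lgr Lrot93 (Lpr_dt (K32.f40054 IH) (Lpe (K7.f139546 IH) (Lpr_dt (K7.f139573 IH) (Lpn (LP (LK LD1_c4 LD2_c26 LD3_c21))))))
theorem f210547 : Led Lsl_bt (LP (LK LD1_c5 LD2_c49 LD3_c34)) = (LP (LK LD1_c2 LD2_c50 LD3_c53)) :=
  Lre_b IH (LK LD1_c5 LD2_c49 LD3_c34) (LK LD1_c2 LD2_c50 LD3_c53) Lrfl Lrfl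
theorem f544104 : Led Lsl_cf (LP (LK LD1_c4 LD2_c26 LD3_c7)) = (LP (LK LD1_c5 LD2_c49 LD3_c34)) :=
  Lgr Lrot58 (Lpe (K36.f37893 IH) (Lpe (K7.f37877 IH) (Lpe (f139575 IH) (Lpr_gf (K37.f544100 IH) (Lpe (K37.f176659 IH) (Lpr_ct (K11.f176646 IH) (Lpe (K11.f73198 IH) (Lpe (K37.f146329 IH) (Lpe (K38.f210293 IH) (Lpe (f210547 IH) (Lpn (LP (LK LD1_c5 LD2_c49 LD3_c34)))))))))))))
theorem f558057 : Led Lsl_bt (LP (LK LD1_c6 LD2_c16 LD3_c51)) = (LP (LK LD1_c12 LD2_c10 LD3_c40)) :=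
  Lre_b IH (LK LD1_c6 LD2_c16 LD3_c51) (LK LD1_c12 LD2_c10 LD3_c40) Lrfl Lrfl
theorem f144404 : Led Lsl_bt (LP (LK LD1_c14 LD2_c49 LD3_c59)) = (LP (LK LD1_c7 LD2_c51 LD3_c55)) :=
  Lre_b IH (LK LD1_c14 LD2_c49 LD3_c59) (LK LD1_c7 LD2_c51 LD3_c55) Lrfl Lrfl
theorem f558041 : Led Lsl_cf (LP (LK LD1_c9 LD2_c22 LD3_c37)) = (LP (LK LD1_c6 LD2_c16 LD3_c51)) :=
  Lgr Lrot97 (Lpr_bt (f207924 IH) (Lpe (f424863 IH) (Lpr_bt (f144404 IH) (Lpr_ct (f558037 IH) (Lpr_bt (f210252 IH) (Lpn (LP (LK LD1_c6 LD2_c16 LD3_c51))))))))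
theorem f103275 : Led Lsl_at (LP (LK LD1_c4 LD2_c40 LD3_c27)) = (LP (LK LD1_c2 LD2_c20 LD3_c33)) :=
  Lgr Lrot100 (Lpr_af (K3.f103268 IH) (Lpn (LP (LK LD1_c2 LD2_c20 LD3_c33))))
theorem f104378 : Led Lsl_at (LP (LK LD1_c11 LD2_c33 LD3_c1)) = (LP (LK LD1_c9 LD2_c16 LD3_c17)) :=
  Lgr Lrot67 (Lpe (K24.f104377 IH) (Lpr_af (K6.f104373 IH) (Lpe (K6.f103008 IH) (Lpe (f103275 IH) (Lpe (K7.f103270 IH) (Lpn (LP (LK LD1_c9 LD2_c16 LD3_c17))))))))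
theorem f207936 : Led Lsl_ct (LP (LK LD1_c12 LD2_c31 LD3_c32)) = (LP (LK LD1_c11 LD2_c33 LD3_c1)) :=
  Lgr Lrot111 (Lpr_af (K28.f207902 IH) (Lpr_cf (K37.f150708 IH) (Lpe (f104378 IH) (Lpn (LP (LK LD1_c11 LD2_c33 LD3_c1))))))
theorem f207957 : Led Lsl_bf (LP (LK LD1_c12 LD2_c31 LD3_c32)) = (LP (LK LD1_c9 LD2_c9 LD3_c32)) :=
  Lgr Lrot156 (Lpr_gt (K28.f207952 IH) (Lpr_bf (K28.f207890 IH) (Lpr_ct (K8.f80130 IH) (Lpr_gt (K8.f38025 IH) (Lpe (K8.f40015 IH) (Lpr_bt (K0.f16127 IH) (Lpr_gt (K7.f80124 IH) (Lpe (K7.f80121 IH) (Lpr_gt (K36.f141195 IH) (Lpe (K7.f130580 IH) (Lpn (LP (LK LD1_c9 LD2_c9 LD3_c32)))))))))))))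
theorem f207959 : Led Lsl_bt (LP (LK LD1_c12 LD2_c31 LD3_c32)) = (LP (LK LD1_c9 LD2_c9 LD3_c32)) :=
  Lgr Lrot127 (Lpr_bf (f207957 IH) (Lpn (LP (LK LD1_c9 LD2_c9 LD3_c32))))
theorem f558060 : Led Lsl_gf (LP (LK LD1_c5 LD2_c49 LD3_c34)) = (LP (LK LD1_c9 LD2_c9 LD3_c32)) :=
  Lgr Lrot181 (Lpe (f544104 IH) (Lpr_gt (f40087 IH) (Lpe (K11.f17278 IH) (Lpr_bt (K0.f14747 IH) (Lpr_gt (f558055 IH) (Lpe (f558057 IH) (Lpe (f558041 IH) (Lpe (f104531 IH) (Lpe (f207936 IH) (Lpr_bt (f207959 IH) (Lpn (LP (LK LD1_c9 LD2_c9 LD3_c32)))))))))))))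
theorem f149922 : Led Lsl_ft (LP (LK LD1_c4 LD2_c36 LD3_c51)) = (LP (LK LD1_c5 LD2_c51 LD3_c1)) :=
  Lgr Lrot48 (Lpr_ff (K7.f149916 IH) (Lpn (LP (LK LD1_c5 LD2_c51 LD3_c1))))
theorem f150182 : Led Lsl_af (LP (LK LD1_c4 LD2_c36 LD3_c53)) = (LP (LK LD1_c5 LD2_c51 LD3_c1)) :=
  Lgr Lrot109 (Lpe (K7.f80107 IH) (Lpe (K11.f150163 IH) (Lpr_cf (K7.f150175 IH) (Lpr_df (K7.f148794 IH) (Lpe (K5.f130562 IH) (Lpr_df (K6.f130548 IH) (Lpe (K5.f25394 IH) (Lpe (K7.f25395 IH) (Lpr_ft (f149922 IH) (Lpn (LP (LK LD1_c5 LD2_c51 LD3_c1))))))))))))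
theorem f542072 : Led Lsl_gf (LP (LK LD1_c3 LD2_c9 LD3_c61)) = (LP (LK LD1_c4 LD2_c36 LD3_c51)) :=
  Lgr Lrot47 (Lpr_gt (K36.f542070 IH) (Lpr_af (f150182 IH) (Lpe (f149922 IH) (Lpn (LP (LK LD1_c4 LD2_c36 LD3_c51))))))
theorem f169789 : Led Lsl_dt (LP (LK LD1_c3 LD2_c9 LD3_c61)) = (LP (LK LD1_c1 LD2_c31 LD3_c8)) :=
  Lre_d IH (LK LD1_c3 LD2_c9 LD3_c61) (LK LD1_c1 LD2_c31 LD3_c8) Lrfl Lrfl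
theorem f542899 : Led Lsl_cf (LP (LK LD1_c6 LD2_c24 LD3_c45)) = (LP (LK LD1_c8 LD2_c49 LD3_c7)) :=
  Lgr Lrot166 (Lpr_gt (K37.f542891 IH) (Lpr_dt (K7.f141306 IH) (Lpr_gt (K7.f148994 IH) (Lpr_dt (K7.f141927 IH) (Lpe (K8.f161513 IH) (Lpe (K37.f139765 IH) (Lpe (K37.f161619 IH) (Lpe (K6.f99705 IH) (Lpr_gf (K8.f157259 IH) (Lpn (LP (LK LD1_c8 LD2_c49 LD3_c7))))))))))))
theorem f558066 : Led Lsl_dt (LP (LK LD1_c5 LD2_c49 LD3_c34)) = (LP (LK LD1_c5 LD2_c52 LD3_c17)) :=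
  Lgr Lrot57 (Lpr_gf (f558060 IH) (Lpe (K7.f72355 IH) (Lpe (f542072 IH) (Lpr_dt (f169789 IH) (Lpr_gt (K37.f68662 IH) (Lpr_dt (K37.f149622 IH) (Lpr_cf (f542899 IH) (Lpe (K8.f161577 IH) (Lpe (K8.f161576 IH) (Lpn (LP (LK LD1_c5 LD2_c52 LD3_c17))))))))))))
theorem f499026 : Led Lsl_at (LP (LK LD1_c4 LD2_c26 LD3_c11)) = (LP (LK LD1_c8 LD2_c49 LD3_c35)) :=
  Lgr Lrot107 (Lpe (K6.f38101 IH) (Lpr_af (K36.f499019 IH) (Lpe (K7.f139594 IH) (Lpn (LP (LK LD1_c8 LD2_c49 LD3_c35))))))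
theorem f558072 : Led Lsl_ft (LP (LK LD1_c5 LD2_c49 LD3_c34)) = (LP (LK LD1_c4 LD2_c26 LD3_c11)) :=
  Lgr Lrot142 (Lpr_dt (f558066 IH) (Lpr_ct (K8.f161570 IH) (Lpr_dt (K6.f56860 IH) (Lpr_ct (K7.f56851 IH) (Lpr_dt (K8.f75496 IH) (Lpe (K8.f161554 IH) (Lpr_dt (K39.f161542 IH) (Lpr_ct (K7.f40088 IH) (Lpe (f499026 IH) (Lpn (LP (LK LD1_c4 LD2_c26 LD3_c11))))))))))))
theorem f558076 : Led Lsl_ff (LP (LK LD1_c5 LD2_c49 LD3_c34)) = (LP (LK LD1_c4 LD2_c26 LD3_c11)) :=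
  Lgr Lrot3 (Lpr_ft (f558072 IH) (Lpn (LP (LK LD1_c4 LD2_c26 LD3_c11))))
theorem f558080 : Led Lsl_bt (LP (LK LD1_c4 LD2_c34 LD3_c11)) = (LP (LK LD1_c4 LD2_c26 LD3_c11)) :=
  Lgr Lrot35 (Lpe (K38.f302545 IH) (Lpe (f210547 IH) (Lpr_ff (f558076 IH) (Lpn (LP (LK LD1_c4 LD2_c26 LD3_c11))))))
theorem f406387 : Led Lsl_bt (LP (LK LD1_c5 LD2_c50 LD3_c53)) = (LP (LK LD1_c2 LD2_c51 LD3_c38)) :=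
  Lre_b IH (LK LD1_c5 LD2_c50 LD3_c53) (LK LD1_c2 LD2_c51 LD3_c38) Lrfl Lrfl
theorem f558084 : Led Lsl_df (LP (LK LD1_c5 LD2_c50 LD3_c53)) = (LP (LK LD1_c4 LD2_c26 LD3_c11)) :=
  Lgr Lrot12 (Lpr_bt (f406387 IH) (Lpr_dt (K18.f302484 IH) (Lpr_bt (f558080 IH) (Lpn (LP (LK LD1_c4 LD2_c26 LD3_c11))))))
theorem f558097 : Led Lsl_cf (LP (LK LD1_c5 LD2_c50 LD3_c53)) = (LP (LK LD1_c4 LD2_c38 LD3_c5)) :=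
  Lgr Lrot14 (Lpr_df (f558084 IH) (Lpe (K8.f80228 IH) (Lpe (K37.f139765 IH) (Lpe (K37.f161619 IH) (Lpr_ct (K6.f100384 IH) (Lpr_gt (K6.f15577 IH) (Lpr_dt (K6.f75057 IH) (Lpr_gt (K0.f14019 IH) (Lpr_dt (K7.f14020 IH) (Lpn (LP (LK LD1_c4 LD2_c38 LD3_c5))))))))))))
theorem f204841 : Led Lsl_gt (LP (LK LD1_c11 LD2_c29 LD3_c20)) = (LP (LK LD1_c5 LD2_c50 LD3_c53)) :=
  Lre_g IH (LK LD1_c11 LD2_c29 LD3_c20) (LK LD1_c5 LD2_c50 LD3_c53) Lrfl Lrfl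
theorem f141771 : Led Lsl_bt (LP (LK LD1_c4 LD2_c38 LD3_c5)) = (LP (LK LD1_c2 LD2_c54 LD3_c34)) :=
  Lgr Lrot95 (Lpe (K7.f14020 IH) (Lpe (K4.f26387 IH) (Lpr_df (K7.f141766 IH) (Lpn (LP (LK LD1_c2 LD2_c54 LD3_c34))))))
theorem f207012 : Led Lsl_ft (LP (LK LD1_c6 LD2_c28 LD3_c60)) = (LP (LK LD1_c6 LD2_c44 LD3_c24)) :=
  Lgr Lrot48 (Lpr_ff (K36.f206945 IH) (Lpn (LP (LK LD1_c6 LD2_c44 LD3_c24))))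
theorem f157880 : Led Lsl_bt (LP (LK LD1_c9 LD2_c9 LD3_c20)) = (LP (LK LD1_c6 LD2_c10 LD3_c30)) :=
  Lgr Lrot128 (Lpr_cf (K8.f157875 IH) (Lpe (K8.f132438 IH) (Lpe (K4.f117465 IH) (Lpr_bf (K4.f117905 IH) (Lpe (K4.f119571 IH) (Lpn (LP (LK LD1_c6 LD2_c10 LD3_c30))))))))
theorem f206941 : Led Lsl_bf (LP (LK LD1_c6 LD2_c28 LD3_c60)) = (LP (LK LD1_c6 LD2_c37 LD3_c41)) :=
  Lgr Lrot93 (Lpr_dt (K36.f206934 IH) (Lpr_bt (f157880 IH) (Lpe (K7.f119628 IH) (Lpn (LP (LK LD1_c6 LD2_c37 LD3_c41))))))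
theorem f207040 : Led Lsl_bf (LP (LK LD1_c6 LD2_c34 LD3_c59)) = (LP (LK LD1_c6 LD2_c44 LD3_c24)) :=
  Lgr Lrot61 (Lpe (K6.f119630 IH) (Lpe (f206941 IH) (Lpr_ft (f207012 IH) (Lpn (LP (LK LD1_c6 LD2_c44 LD3_c24))))))
theorem f558115 : Led Lsl_cf (LP (LK LD1_c11 LD2_c29 LD3_c20)) = (LP (LK LD1_c6 LD2_c44 LD3_c24)) :=
  Lgr Lrot160 (Lpr_gt (f204841 IH) (Lpr_cf (f558097 IH) (Lpr_bt (f141771 IH) (Lpr_gt (K7.f59561 IH) (Lpr_ct (K7.f138011 IH) (Lpr_gt (K6.f138780 IH) (Lpe (K4.f117465 IH) (Lpr_bt (K7.f117463 IH) (Lpr_gt (K7.f141682 IH) (Lpr_bf (f207040 IH) (Lpn (LP (LK LD1_c6 LD2_c44 LD3_c24)))))))))))))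
theorem f80161 : Led Lsl_dt (LP (LK LD1_c4 LD2_c26 LD3_c14)) = (LP (LK LD1_c8 LD2_c49 LD3_c55)) :=
  Lre_d IH (LK LD1_c4 LD2_c26 LD3_c14) (LK LD1_c8 LD2_c49 LD3_c55) Lrfl Lrfl
theorem f142031 : Led Lsl_cf (LP (LK LD1_c8 LD2_c49 LD3_c55)) = (LP (LK LD1_c4 LD2_c38 LD3_c1)) :=
  Lgr Lrot14 (Lpe (f80161 IH) (Lpr_gf (K7.f142023 IH) (Lpr_df (K7.f142017 IH) (Lpe (K7.f139763 IH) (Lpr_ct (K6.f139756 IH) (Lpr_gt (K6.f36593 IH) (Lpr_dt (K6.f36592 IH) (Lpr_gt (K6.f58895 IH) (Lpr_dt (K8.f79961 IH) (Lpn (LP (LK LD1_c4 LD2_c38 LD3_c1))))))))))))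
theorem f558129 : Led Lsl_gf (LP (LK LD1_c11 LD2_c29 LD3_c20)) = (LP (LK LD1_c8 LD2_c49 LD3_c55)) :=
  Lgr Lrot129 (Lpr_cf (f558115 IH) (Lpe (f207040 IH) (Lpe (K7.f141686 IH) (Lpe (K4.f93544 IH) (Lpe (K3.f93545 IH) (Lpe (K3.f63714 IH) (Lpe (K3.f62842 IH) (Lpr_bt (K7.f62843 IH) (Lpr_gt (K8.f80049 IH) (Lpe (f142031 IH) (Lpn (LP (LK LD1_c8 LD2_c49 LD3_c55)))))))))))))
theorem f204834 : Led Lsl_gt (LP (LK LD1_c5 LD2_c50 LD3_c53)) = (LP (LK LD1_c11 LD2_c29 LD3_c19)) :=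
  Lre_g IH (LK LD1_c5 LD2_c50 LD3_c53) (LK LD1_c11 LD2_c29 LD3_c19) Lrfl Lrfl
theorem f558095 : Led Lsl_dt (LP (LK LD1_c11 LD2_c29 LD3_c19)) = (LP (LK LD1_c9 LD2_c9 LD3_c45)) :=
  Lgr Lrot105 (Lpe (f204834 IH) (Lpr_df (f558084 IH) (Lpe (K8.f80228 IH) (Lpr_cf (K8.f161513 IH) (Lpe (K7.f149003 IH) (Lpr_dt (K7.f72988 IH) (Lpe (K5.f119045 IH) (Lpr_dt (K5.f119039 IH) (Lpe (K8.f100236 IH) (Lpn (LP (LK LD1_c9 LD2_c9 LD3_c45))))))))))))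
theorem f147476 : Led Lsl_cf (LP (LK LD1_c5 LD2_c46 LD3_c48)) = (LP (LK LD1_c6 LD2_c31 LD3_c23)) :=
  Lgr Lrot11 (Lpr_ct (K6.f147473 IH) (Lpn (LP (LK LD1_c6 LD2_c31 LD3_c23))))
theorem f161539 : Led Lsl_dt (LP (LK LD1_c6 LD2_c44 LD3_c34)) = (LP (LK LD1_c8 LD2_c49 LD3_c38)) :=
  Lgr Lrot173 (Lpe (K8.f116967 IH) (Lpe (K8.f116966 IH) (Lpe (K7.f116965 IH) (Lpr_df (K6.f116894 IH) (Lpe (K5.f56600 IH) (Lpe (K7.f72988 IH) (Lpr_cf (f147476 IH) (Lpe (K6.f147484 IH) (Lpe (K7.f147495 IH) (Lpe (K6.f56829 IH) (Lpe (K6.f56752 IH) (Lpe (K37.f160801 IH) (Lpe (K35.f161538 IH) (Lpe (K11.f142086 IH) (Lpr_cf (K8.f161535 IH) (Lpn (LP (LK LD1_c8 LD2_c49 LD3_c38))))))))))))))))))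
theorem f558099 : Led Lsl_ct (LP (LK LD1_c11 LD2_c29 LD3_c19)) = (LP (LK LD1_c6 LD2_c44 LD3_c23)) :=
  Lgr Lrot152 (Lpe (f204834 IH) (Lpr_df (f558084 IH) (Lpr_gt (K6.f38102 IH) (Lpr_ct (K6.f70454 IH) (Lpe (K35.f161529 IH) (Lpr_ct (K11.f161531 IH) (Lpe (f161539 IH) (Lpe (K8.f116967 IH) (Lpr_gf (K8.f141881 IH) (Lpn (LP (LK LD1_c6 LD2_c44 LD3_c23))))))))))))
theorem f558101 : Led Lsl_cf (LP (LK LD1_c11 LD2_c29 LD3_c19)) = (LP (LK LD1_c6 LD2_c44 LD3_c23)) :=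
  Lgr Lrot11 (Lpr_ct (f558099 IH) (Lpn (LP (LK LD1_c6 LD2_c44 LD3_c23))))
theorem f558121 : Led Lsl_dt (LP (LK LD1_c11 LD2_c29 LD3_c20)) = (LP (LK LD1_c9 LD2_c9 LD3_c43)) :=
  Lgr Lrot173 (Lpr_cf (f558115 IH) (Lpe (K36.f157001 IH) (Lpr_cf (K8.f148942 IH) (Lpr_df (K8.f157006 IH) (Lpr_cf (K5.f132568 IH) (Lpr_df (K5.f119013 IH) (Lpe (K8.f100236 IH) (Lpe (f558095 IH) (Lpr_cf (f558101 IH) (Lpe (K8.f141875 IH) (Lpe (K6.f100281 IH) (Lpe (K4.f73026 IH) (Lpe (K4.f57258 IH) (Lpr_df (K6.f132578 IH) (Lpe (K8.f99782 IH) (Lpn (LP (LK LD1_c9 LD2_c9 LD3_c43))))))))))))))))))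
theorem f176859 : Led Lsl_bt (LP (LK LD1_c2 LD2_c51 LD3_c3)) = (LP (LK LD1_c5 LD2_c49 LD3_c54)) :=
  Lre_b IH (LK LD1_c2 LD2_c51 LD3_c3) (LK LD1_c5 LD2_c49 LD3_c54) Lrfl Lrfl
theorem f548865 : Led Lsl_df (LP (LK LD1_c6 LD2_c39 LD3_c14)) = (LP (LK LD1_c5 LD2_c49 LD3_c54)) :=
  Lgr Lrot12 (Lpe (K38.f139737 IH) (Lpr_dt (K38.f548862 IH) (Lpr_bt (f176859 IH) (Lpn (LP (LK LD1_c5 LD2_c49 LD3_c54))))))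
theorem f558131 : Led Lsl_gt (LP (LK LD1_c9 LD2_c9 LD3_c43)) = (LP (LK LD1_c5 LD2_c49 LD3_c54)) :=
  Lgr Lrot49 (Lpe (f558121 IH) (Lpr_gf (f558129 IH) (Lpr_cf (f142031 IH) (Lpe (K8.f79962 IH) (Lpr_dt (K8.f72995 IH) (Lpr_gt (K38.f100221 IH) (Lpe (K8.f157039 IH) (Lpe (K8.f139736 IH) (Lpr_df (f548865 IH) (Lpn (LP (LK LD1_c5 LD2_c49 LD3_c54))))))))))))
theorem f150169 : Led Lsl_ct (LP (LK LD1_c12 LD2_c44 LD3_c7)) = (LP (LK LD1_c9 LD2_c10 LD3_c3)) :=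
  Lgr Lrot176 (Lpr_df (K7.f150165 IH) (Lpe (K32.f80108 IH) (Lpe (K7.f79958 IH) (Lpe (K7.f119687 IH) (Lpe (K7.f82049 IH) (Lpe (K7.f148920 IH) (Lpr_df (K7.f141217 IH) (Lpe (K7.f149884 IH) (Lpr_df (K7.f149892 IH) (Lpe (K7.f72355 IH) (Lpe (K7.f72261 IH) (Lpe (K7.f20414 IH) (Lpe (K5.f130553 IH) (Lpr_cf (K5.f130558 IH) (Lpe (K7.f148792 IH) (Lpn (LP (LK LD1_c9 LD2_c10 LD3_c3))))))))))))))))))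
theorem f558127 : Led Lsl_df (LP (LK LD1_c11 LD2_c29 LD3_c20)) = (LP (LK LD1_c9 LD2_c9 LD3_c43)) :=
  Lgr Lrot84 (Lpr_cf (f558115 IH) (Lpe (K36.f157001 IH) (Lpe (K8.f99636 IH) (Lpe (K8.f99930 IH) (Lpr_gf (K7.f141381 IH) (Lpe (f150169 IH) (Lpr_gt (K7.f139593 IH) (Lpr_dt (K8.f158707 IH) (Lpe (K8.f158715 IH) (Lpn (LP (LK LD1_c9 LD2_c9 LD3_c43))))))))))))
theorem f142029 : Led Lsl_ct (LP (LK LD1_c8 LD2_c49 LD3_c55)) = (LP (LK LD1_c4 LD2_c38 LD3_c1)) :=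
  Lgr Lrot7 (Lpe (f80161 IH) (Lpr_gf (K7.f142023 IH) (Lpr_df (K7.f142017 IH) (Lpe (K7.f139763 IH) (Lpr_cf (K6.f139759 IH) (Lpr_gt (K6.f36593 IH) (Lpr_dt (K6.f36592 IH) (Lpr_gt (K6.f58895 IH) (Lpr_dt (K8.f79961 IH) (Lpn (LP (LK LD1_c4 LD2_c38 LD3_c1))))))))))))
theorem f26395 : Led Lsl_dt (LP (LK LD1_c4 LD2_c38 LD3_c5)) = (LP (LK LD1_c2 LD2_c16 LD3_c9)) :=
  Lre_d IH (LK LD1_c4 LD2_c38 LD3_c5) (LK LD1_c2 LD2_c16 LD3_c9) Lrfl Lrfl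
theorem f558088 : Led Lsl_ct (LP (LK LD1_c5 LD2_c50 LD3_c53)) = (LP (LK LD1_c4 LD2_c38 LD3_c5)) :=
  Lgr Lrot176 (Lpr_df (f558084 IH) (Lpe (K6.f38101 IH) (Lpe (K8.f80210 IH) (Lpe (K8.f142074 IH) (Lpr_df (K8.f142039 IH) (Lpe (K6.f80098 IH) (Lpe (K8.f80055 IH) (Lpe (f142029 IH) (Lpe (f80161 IH) (Lpe (K8.f16155 IH) (Lpe (K36.f80126 IH) (Lpe (K4.f60933 IH) (Lpr_df (K4.f80025 IH) (Lpe (K4.f26386 IH) (Lpe (f26395 IH) (Lpn (LP (LK LD1_c4 LD2_c38 LD3_c5))))))))))))))))))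
theorem f158145 : Led Lsl_dt (LP (LK LD1_c2 LD2_c10 LD3_c16)) = (LP (LK LD1_c4 LD2_c25 LD3_c54)) :=
  Lre_d IH (LK LD1_c2 LD2_c10 LD3_c16) (LK LD1_c4 LD2_c25 LD3_c54) Lrfl Lrfl
theorem f158156 : Led Lsl_gt (LP (LK LD1_c4 LD2_c25 LD3_c54)) = (LP (LK LD1_c5 LD2_c46 LD3_c24)) :=
  Lgr Lrot49 (Lpe (f158145 IH) (Lpr_gf (K8.f158154 IH) (Lpe (K8.f35544 IH) (Lpe (K8.f142138 IH) (Lpr_dt (K7.f141270 IH) (Lpr_gt (K35.f157166 IH) (Lpe (K4.f72972 IH) (Lpe (K4.f60662 IH) (Lpe (K36.f60661 IH) (Lpn (LP (LK LD1_c5 LD2_c46 LD3_c24))))))))))))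
theorem f558137 : Led Lsl_cf (LP (LK LD1_c4 LD2_c25 LD3_c54)) = (LP (LK LD1_c5 LD2_c49 LD3_c54)) :=
  Lgr Lrot169 (Lpr_gt (f158156 IH) (Lpr_ct (K37.f60357 IH) (Lpr_df (K36.f156941 IH) (Lpe (K8.f156933 IH) (Lpe (K8.f141831 IH) (Lpe (f558088 IH) (Lpe (f204841 IH) (Lpr_df (f558127 IH) (Lpr_gt (f558131 IH) (Lpn (LP (LK LD1_c5 LD2_c49 LD3_c54))))))))))))
theorem f176854 : Led Lsl_ct (LP (LK LD1_c1 LD2_c21 LD3_c33)) = (LP (LK LD1_c2 LD2_c51 LD3_c3)) :=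
  Lre_c IH (LK LD1_c1 LD2_c21 LD3_c33) (LK LD1_c2 LD2_c51 LD3_c3) Lrfl Lrfl
theorem f176861 : Led Lsl_bt (LP (LK LD1_c2 LD2_c51 LD3_c1)) = (LP (LK LD1_c1 LD2_c21 LD3_c33)) :=
  Lre_b IH (LK LD1_c2 LD2_c51 LD3_c1) (LK LD1_c1 LD2_c21 LD3_c33) Lrfl Lrfl
theorem f396269 : Led Lsl_ct (LP (LK LD1_c5 LD2_c49 LD3_c50)) = (LP (LK LD1_c2 LD2_c51 LD3_c1)) :=
  Lre_c IH (LK LD1_c5 LD2_c49 LD3_c50) (LK LD1_c2 LD2_c51 LD3_c1) Lrfl Lrfl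
theorem f558139 : Led Lsl_bt (LP (LK LD1_c4 LD2_c25 LD3_c54)) = (LP (LK LD1_c5 LD2_c49 LD3_c50)) :=
  Lgr Lrot128 (Lpr_cf (f558137 IH) (Lpe (f176859 IH) (Lpe (f176854 IH) (Lpe (f176861 IH) (Lpe (f396269 IH) (Lpn (LP (LK LD1_c5 LD2_c49 LD3_c50))))))))
theorem f99721 : Led Lsl_ft (LP (LK LD1_c2 LD2_c10 LD3_c14)) = (LP (LK LD1_c4 LD2_c25 LD3_c54)) :=
  Lre_f IH (LK LD1_c2 LD2_c10 LD3_c14) (LK LD1_c4 LD2_c25 LD3_c54) Lrfl Lrfl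
theorem f99908 : Led Lsl_bt (LP (LK LD1_c4 LD2_c25 LD3_c44)) = (LP (LK LD1_c2 LD2_c10 LD3_c14)) :=
  Lre_b IH (LK LD1_c4 LD2_c25 LD3_c44) (LK LD1_c2 LD2_c10 LD3_c14) Lrfl Lrfl
theorem f558158 : Led Lsl_ff (LP (LK LD1_c4 LD2_c25 LD3_c44)) = (LP (LK LD1_c5 LD2_c49 LD3_c50)) :=
  Lgr Lrot25 (Lpr_bt (f99908 IH) (Lpr_ft (f99721 IH) (Lpr_bt (f558139 IH) (Lpn (LP (LK LD1_c5 LD2_c49 LD3_c50))))))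
theorem f558167 : Led Lsl_ft (LP (LK LD1_c4 LD2_c25 LD3_c44)) = (LP (LK LD1_c5 LD2_c49 LD3_c50)) :=
  Lgr Lrot48 (Lpr_ff (f558158 IH) (Lpn (LP (LK LD1_c5 LD2_c49 LD3_c50))))
theorem f421067 : Led Lsl_at (LP (LK LD1_c5 LD2_c49 LD3_c50)) = (LP (LK LD1_c11 LD2_c28 LD3_c14)) :=
  Lre_a IH (LK LD1_c5 LD2_c49 LD3_c50) (LK LD1_c11 LD2_c28 LD3_c14) Lrfl Lrfl
theorem f421066 : Led Lsl_ct (LP (LK LD1_c5 LD2_c49 LD3_c48)) = (LP (LK LD1_c11 LD2_c28 LD3_c14)) :=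
  Lre_c IH (LK LD1_c5 LD2_c49 LD3_c48) (LK LD1_c11 LD2_c28 LD3_c14) Lrfl Lrfl
theorem f421065 : Led Lsl_dt (LP (LK LD1_c2 LD2_c51 LD3_c0)) = (LP (LK LD1_c5 LD2_c49 LD3_c48)) :=
  Lre_d IH (LK LD1_c2 LD2_c51 LD3_c0) (LK LD1_c5 LD2_c49 LD3_c48) Lrfl Lrfl
theorem f421021 : Led Lsl_at (LP (LK LD1_c2 LD2_c51 LD3_c0)) = (LP (LK LD1_c1 LD2_c21 LD3_c32)) :=
  Lre_a IH (LK LD1_c2 LD2_c51 LD3_c0) (LK LD1_c1 LD2_c21 LD3_c32) Lrfl Lrfl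
theorem f421023 : Led Lsl_cf (LP (LK LD1_c2 LD2_c51 LD3_c0)) = (LP (LK LD1_c3 LD2_c5 LD3_c43)) :=
  Lgr Lrot1 (Lpr_at (f421021 IH) (Lpr_ct (K37.f198477 IH) (Lpr_at (K38.f421022 IH) (Lpn (LP (LK LD1_c3 LD2_c5 LD3_c43))))))
theorem f421064 : Led Lsl_dt (LP (LK LD1_c6 LD2_c17 LD3_c8)) = (LP (LK LD1_c3 LD2_c5 LD3_c43)) :=
  Lre_d IH (LK LD1_c6 LD2_c17 LD3_c8) (LK LD1_c3 LD2_c5 LD3_c43) Lrfl Lrfl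
theorem f558175 : Led Lsl_ct (LP (LK LD1_c6 LD2_c14 LD3_c10)) = (LP (LK LD1_c6 LD2_c17 LD3_c8)) :=
  Lgr Lrot41 (Lpr_df (K39.f158608 IH) (Lpe (K8.f158194 IH) (Lpe (K39.f149423 IH) (Lpr_ft (f558167 IH) (Lpr_at (f421067 IH) (Lpe (f421066 IH) (Lpe (f421065 IH) (Lpr_cf (f421023 IH) (Lpe (f421064 IH) (Lpn (LP (LK LD1_c6 LD2_c17 LD3_c8))))))))))))
theorem f239005 : Led Lsl_bt (LP (LK LD1_c5 LD2_c50 LD3_c50)) = (LP (LK LD1_c11 LD2_c29 LD3_c13)) :=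
  Lre_b IH (LK LD1_c5 LD2_c50 LD3_c50) (LK LD1_c11 LD2_c29 LD3_c13) Lrfl Lrfl
theorem f137943 : Led Lsl_cf (LP (LK LD1_c4 LD2_c24 LD3_c46)) = (LP (LK LD1_c4 LD2_c46 LD3_c28)) :=
  Lgr Lrot11 (Lpr_ct (K6.f137936 IH) (Lpn (LP (LK LD1_c4 LD2_c46 LD3_c28))))
theorem f97125 : Led Lsl_et (LP (LK LD1_c3 LD2_c35 LD3_c47)) = (LP (LK LD1_c1 LD2_c44 LD3_c44)) :=
  Lre_e IH (LK LD1_c3 LD2_c35 LD3_c47) (LK LD1_c1 LD2_c44 LD3_c44) Lrfl Lrfl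
theorem f97126 : Led Lsl_ct (LP (LK LD1_c3 LD2_c37 LD3_c3)) = (LP (LK LD1_c3 LD2_c35 LD3_c47)) :=
  Lgr Lrot15 (Lpe (K36.f97124 IH) (Lpr_cf (K3.f97084 IH) (Lpe (f97125 IH) (Lpn (LP (LK LD1_c3 LD2_c35 LD3_c47))))))
theorem f97270 : Led Lsl_gt (LP (LK LD1_c7 LD2_c14 LD3_c27)) = (LP (LK LD1_c3 LD2_c37 LD3_c3)) :=
  Lre_g IH (LK LD1_c7 LD2_c14 LD3_c27) (LK LD1_c3 LD2_c37 LD3_c3) Lrfl Lrfl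
theorem f97271 : Led Lsl_dt (LP (LK LD1_c13 LD2_c42 LD3_c2)) = (LP (LK LD1_c7 LD2_c14 LD3_c27)) :=
  Lre_d IH (LK LD1_c13 LD2_c42 LD3_c2) (LK LD1_c7 LD2_c14 LD3_c27) Lrfl Lrfl
theorem f544082 : Led Lsl_gf (LP (LK LD1_c11 LD2_c29 LD3_c13)) = (LP (LK LD1_c13 LD2_c42 LD3_c2)) :=
  Lgr Lrot147 (Lpe (K37.f541076 IH) (Lpr_gt (K36.f78393 IH) (Lpe (f137943 IH) (Lpr_df (K8.f137947 IH) (Lpr_cf (K37.f544080 IH) (Lpe (K37.f98493 IH) (Lpe (f97126 IH) (Lpe (f97270 IH) (Lpe (f97271 IH) (Lpn (LP (LK LD1_c13 LD2_c42 LD3_c2))))))))))))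
theorem f450115 : Led Lsl_at (LP (LK LD1_c3 LD2_c5 LD3_c44)) = (LP (LK LD1_c6 LD2_c17 LD3_c8)) :=
  Lre_a IH (LK LD1_c3 LD2_c5 LD3_c44) (LK LD1_c6 LD2_c17 LD3_c8) Lrfl Lrfl
theorem f450116 : Led Lsl_at (LP (LK LD1_c5 LD2_c49 LD3_c3)) = (LP (LK LD1_c2 LD2_c50 LD3_c37)) :=
  Lre_a IH (LK LD1_c5 LD2_c49 LD3_c3) (LK LD1_c2 LD2_c50 LD3_c37) Lrfl Lrfl
theorem f450117 : Led Lsl_ft (LP (LK LD1_c6 LD2_c17 LD3_c8)) = (LP (LK LD1_c5 LD2_c49 LD3_c3)) :=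
  Lgr Lrot101 (Lpe (f450115 IH) (Lpr_ff (K37.f450113 IH) (Lpe (f450116 IH) (Lpn (LP (LK LD1_c5 LD2_c49 LD3_c3))))))
theorem f171802 : Led Lsl_gt (LP (LK LD1_c5 LD2_c49 LD3_c5)) = (LP (LK LD1_c2 LD2_c50 LD3_c37)) :=
  Lre_g IH (LK LD1_c5 LD2_c49 LD3_c5) (LK LD1_c2 LD2_c50 LD3_c37) Lrfl Lrfl
theorem f450469 : Led Lsl_gt (LP (LK LD1_c6 LD2_c17 LD3_c8)) = (LP (LK LD1_c5 LD2_c49 LD3_c5)) :=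
  Lgr Lrot5 (Lpr_ft (f450117 IH) (Lpr_at (f450116 IH) (Lpe (f171802 IH) (Lpn (LP (LK LD1_c5 LD2_c49 LD3_c5))))))
theorem f450472 : Led Lsl_ct (LP (LK LD1_c11 LD2_c27 LD3_c29)) = (LP (LK LD1_c5 LD2_c49 LD3_c5)) :=
  Lre_c IH (LK LD1_c11 LD2_c27 LD3_c29) (LK LD1_c5 LD2_c49 LD3_c5) Lrfl Lrfl
theorem f558195 : Led Lsl_bf (LP (LK LD1_c13 LD2_c42 LD3_c2)) = (LP (LK LD1_c11 LD2_c27 LD3_c29)) :=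
  Lgr Lrot156 (Lpe (f544082 IH) (Lpe (f239005 IH) (Lpr_ct (K39.f552150 IH) (Lpe (K39.f159448 IH) (Lpe (K39.f552217 IH) (Lpr_bt (K39.f552233 IH) (Lpr_gt (K39.f502140 IH) (Lpr_ct (f558175 IH) (Lpr_gt (f450469 IH) (Lpe (f450472 IH) (Lpn (LP (LK LD1_c11 LD2_c27 LD3_c29)))))))))))))
theorem f81404 : Led Lsl_gf (LP (LK LD1_c3 LD2_c3 LD3_c58)) = (LP (LK LD1_c4 LD2_c23 LD3_c47)) :=
  Lgr Lrot129 (Lpr_cf (K36.f81398 IH) (Lpr_bt (K36.f60265 IH) (Lpe (K8.f60261 IH) (Lpr_bf (K2.f73396 IH) (Lpr_ct (K8.f73398 IH) (Lpe (K8.f73426 IH) (Lpe (K8.f60854 IH) (Lpe (K36.f80552 IH) (Lpr_gt (K36.f81389 IH) (Lpe (K36.f70095 IH) (Lpn (LP (LK LD1_c4 LD2_c23 LD3_c47)))))))))))))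
theorem f80743 : Led Lsl_bt (LP (LK LD1_c6 LD2_c13 LD3_c45)) = (LP (LK LD1_c3 LD2_c3 LD3_c43)) :=
  Lre_b IH (LK LD1_c6 LD2_c13 LD3_c45) (LK LD1_c3 LD2_c3 LD3_c43) Lrfl Lrfl
theorem f29463 : Led Lsl_dt (LP (LK LD1_c1 LD2_c57 LD3_c10)) = (LP (LK LD1_c4 LD2_c0 LD3_c48)) :=
  Lre_d IH (LK LD1_c1 LD2_c57 LD3_c10) (LK LD1_c4 LD2_c0 LD3_c48) Lrfl Lrfl
theorem f37070 : Led Lsl_gt (LP (LK LD1_c4 LD2_c0 LD3_c48)) = (LP (LK LD1_c8 LD2_c2 LD3_c22)) :=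
  Lre_g IH (LK LD1_c4 LD2_c0 LD3_c48) (LK LD1_c8 LD2_c2 LD3_c22) Lrfl Lrfl
theorem f38545 : Led Lsl_dt (LP (LK LD1_c4 LD2_c25 LD3_c43)) = (LP (LK LD1_c8 LD2_c48 LD3_c57)) :=
  Lre_d IH (LK LD1_c4 LD2_c25 LD3_c43) (LK LD1_c8 LD2_c48 LD3_c57) Lrfl Lrfl
theorem f38546 : Led Lsl_bf (LP (LK LD1_c8 LD2_c48 LD3_c1)) = (LP (LK LD1_c8 LD2_c48 LD3_c57)) :=
  Lgr Lrot93 (Lpr_dt (K6.f38519 IH) (Lpr_bt (K8.f38526 IH) (Lpr_dt (f38545 IH) (Lpn (LP (LK LD1_c8 LD2_c48 LD3_c57))))))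
theorem f38550 : Led Lsl_bt (LP (LK LD1_c8 LD2_c48 LD3_c1)) = (LP (LK LD1_c8 LD2_c48 LD3_c57)) :=
  Lgr Lrot127 (Lpr_bf (f38546 IH) (Lpn (LP (LK LD1_c8 LD2_c48 LD3_c57))))
theorem f70512 : Led Lsl_gt (LP (LK LD1_c8 LD2_c48 LD3_c57)) = (LP (LK LD1_c4 LD2_c26 LD3_c10)) :=
  Lgr Lrot164 (Lpe (f38550 IH) (Lpr_ct (K6.f70503 IH) (Lpe (K6.f70462 IH) (Lpe (K6.f70461 IH) (Lpe (K6.f70442 IH) (Lpe (K6.f70443 IH) (Lpe (K6.f70444 IH) (Lpe (K6.f38102 IH) (Lpe (K6.f38101 IH) (Lpr_bt (K36.f70460 IH) (Lpn (LP (LK LD1_c4 LD2_c26 LD3_c10)))))))))))))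
theorem f80221 : Led Lsl_df (LP (LK LD1_c4 LD2_c39 LD3_c34)) = (LP (LK LD1_c4 LD2_c26 LD3_c10)) :=
  Lgr Lrot12 (Lpr_bt (K36.f59358 IH) (Lpr_dt (K8.f80210 IH) (Lpr_bt (K36.f70460 IH) (Lpn (LP (LK LD1_c4 LD2_c26 LD3_c10))))))
theorem f70425 : Led Lsl_ct (LP (LK LD1_c4 LD2_c23 LD3_c46)) = (LP (LK LD1_c4 LD2_c39 LD3_c34)) :=
  Lgr Lrot59 (Lpr_cf (K36.f70232 IH) (Lpn (LP (LK LD1_c4 LD2_c39 LD3_c34))))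
theorem f158249 : Led Lsl_dt (LP (LK LD1_c8 LD2_c2 LD3_c22)) = (LP (LK LD1_c4 LD2_c23 LD3_c46)) :=
  Lgr Lrot105 (Lpe (f37070 IH) (Lpe (f29463 IH) (Lpr_gf (K39.f37051 IH) (Lpe (K7.f37053 IH) (Lpr_gt (K8.f158247 IH) (Lpr_dt (f38545 IH) (Lpr_gt (f70512 IH) (Lpe (f80221 IH) (Lpe (f70425 IH) (Lpn (LP (LK LD1_c4 LD2_c23 LD3_c46))))))))))))
theorem f202570 : Led Lsl_bf (LP (LK LD1_c3 LD2_c4 LD3_c55)) = (LP (LK LD1_c4 LD2_c23 LD3_c46)) :=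
  Lgr Lrot93 (Lpr_dt (K11.f202566 IH) (Lpr_bt (K36.f163414 IH) (Lpr_dt (f158249 IH) (Lpn (LP (LK LD1_c4 LD2_c23 LD3_c46))))))
theorem f70234 : Led Lsl_gt (LP (LK LD1_c9 LD2_c14 LD3_c47)) = (LP (LK LD1_c4 LD2_c39 LD3_c34)) :=
  Lre_g IH (LK LD1_c9 LD2_c14 LD3_c47) (LK LD1_c4 LD2_c39 LD3_c34) Lrfl Lrfl
theorem f206062 : Led Lsl_ct (LP (LK LD1_c6 LD2_c13 LD3_c45)) = (LP (LK LD1_c9 LD2_c14 LD3_c47)) :=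
  Lgr Lrot64 (Lpr_bt (f80743 IH) (Lpr_gf (K11.f80737 IH) (Lpr_bf (K36.f206060 IH) (Lpr_ct (K32.f104879 IH) (Lpe (K11.f202383 IH) (Lpe (K5.f59365 IH) (Lpe (K11.f132505 IH) (Lpr_bf (f202570 IH) (Lpr_ct (f70425 IH) (Lpe (f70234 IH) (Lpn (LP (LK LD1_c9 LD2_c14 LD3_c47)))))))))))))
theorem f81400 : Led Lsl_bt (LP (LK LD1_c2 LD2_c48 LD3_c55)) = (LP (LK LD1_c5 LD2_c46 LD3_c22)) :=
  Lre_b IH (LK LD1_c2 LD2_c48 LD3_c55) (LK LD1_c5 LD2_c46 LD3_c22) Lrfl Lrfl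
theorem f206070 : Led Lsl_gf (LP (LK LD1_c6 LD2_c13 LD3_c45)) = (LP (LK LD1_c5 LD2_c46 LD3_c22)) :=
  Lgr Lrot181 (Lpr_ct (f206062 IH) (Lpr_gt (f70234 IH) (Lpe (f70425 IH) (Lpe (f202570 IH) (Lpr_gt (K11.f132505 IH) (Lpe (K5.f80257 IH) (Lpe (K5.f132495 IH) (Lpr_gt (K8.f132497 IH) (Lpr_cf (K8.f132521 IH) (Lpr_bt (f81400 IH) (Lpn (LP (LK LD1_c5 LD2_c46 LD3_c22)))))))))))))
theorem f450471 : Led Lsl_ct (LP (LK LD1_c5 LD2_c49 LD3_c5)) = (LP (LK LD1_c11 LD2_c27 LD3_c29)) :=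
  Lre_c IH (LK LD1_c5 LD2_c49 LD3_c5) (LK LD1_c11 LD2_c27 LD3_c29) Lrfl Lrfl
theorem f558187 : Led Lsl_dt (LP (LK LD1_c9 LD2_c14 LD3_c47)) = (LP (LK LD1_c11 LD2_c27 LD3_c29)) :=
  Lgr Lrot27 (Lpe (f206062 IH) (Lpr_gf (f206070 IH) (Lpe (K36.f81401 IH) (Lpr_gf (f81404 IH) (Lpe (K36.f70103 IH) (Lpr_gt (K39.f502140 IH) (Lpr_ct (f558175 IH) (Lpr_gt (f450469 IH) (Lpr_ct (f450471 IH) (Lpn (LP (LK LD1_c11 LD2_c27 LD3_c29))))))))))))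
theorem f558199 : Led Lsl_bt (LP (LK LD1_c7 LD2_c14 LD3_c27)) = (LP (LK LD1_c9 LD2_c14 LD3_c47)) :=
  Lgr Lrot95 (Lpe (f97271 IH) (Lpr_bf (f558195 IH) (Lpe (f558187 IH) (Lpn (LP (LK LD1_c9 LD2_c14 LD3_c47))))))
theorem f206068 : Led Lsl_gt (LP (LK LD1_c8 LD2_c45 LD3_c24)) = (LP (LK LD1_c9 LD2_c14 LD3_c47)) :=
  Lgr Lrot149 (Lpe (K38.f59193 IH) (Lpe (K36.f59192 IH) (Lpe (K9.f59190 IH) (Lpe (K1.f59170 IH) (Lpr_gf (K11.f205255 IH) (Lpe (K36.f38134 IH) (Lpr_bt (K36.f80749 IH) (Lpe (K11.f80736 IH) (Lpe (f80743 IH) (Lpr_ct (f206062 IH) (Lpn (LP (LK LD1_c9 LD2_c14 LD3_c47)))))))))))))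
theorem f540426 : Led Lsl_bf (LP (LK LD1_c2 LD2_c9 LD3_c24)) = (LP (LK LD1_c3 LD2_c36 LD3_c7)) :=
  Lgr Lrot24 (Lpr_bt (K36.f540424 IH) (Lpn (LP (LK LD1_c3 LD2_c36 LD3_c7))))
theorem f558218 : Led Lsl_ct (LP (LK LD1_c7 LD2_c14 LD3_c27)) = (LP (LK LD1_c4 LD2_c0 LD3_c34)) :=
  Lgr Lrot64 (Lpr_bt (f558199 IH) (Lpe (f206068 IH) (Lpr_bf (K36.f425871 IH) (Lpe (K32.f425851 IH) (Lpe (K8.f160877 IH) (Lpe (K5.f117813 IH) (Lpe (K11.f205707 IH) (Lpr_bf (f540426 IH) (Lpr_ct (K36.f519741 IH) (Lpqs (K36.f540400 IH) (Lpr_gf (K11.f80797 IH) (Lpn (LP (LK LD1_c4 LD2_c0 LD3_c34))))))))))))))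
theorem f519738 : Led Lsl_cf (LP (LK LD1_c3 LD2_c36 LD3_c7)) = K36.v2436 :=
  Lgr Lrot39 (Lpr_et (K36.f108498 IH) (Lpe (K3.f108528 IH) (Lpr_et (K36.f519736 IH) (Lpn K36.v2436))))
theorem f108572 : Led Lsl_dt (LP (LK LD1_c7 LD2_c12 LD3_c35)) = (LP (LK LD1_c3 LD2_c36 LD3_c7)) :=
  Lre_d IH (LK LD1_c7 LD2_c12 LD3_c35) (LK LD1_c3 LD2_c36 LD3_c7) Lrfl Lrfl
theorem f419555 : Led Lsl_ff (LP (LK LD1_c16 LD2_c24 LD3_c28)) = (LP (LK LD1_c20 LD2_c41 LD3_c6)) :=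
  Lgr Lrot19 (Lpr_dt (K11.f203379 IH) (Lpe (K11.f203394 IH) (Lpr_dt (f419547 IH) (Lpn (LP (LK LD1_c20 LD2_c41 LD3_c6))))))
theorem f419557 : Led Lsl_ft (LP (LK LD1_c8 LD2_c46 LD3_c11)) = (LP (LK LD1_c11 LD2_c41 LD3_c17)) :=
  Lgr Lrot75 (Lpe (K11.f75637 IH) (Lpr_ff (f419555 IH) (Lpe (f419542 IH) (Lpn (LP (LK LD1_c11 LD2_c41 LD3_c17))))))
theorem f75571 : Led Lsl_at (LP (LK LD1_c4 LD2_c24 LD3_c21)) = (LP (LK LD1_c8 LD2_c46 LD3_c11)) :=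
  Lre_a IH (LK LD1_c4 LD2_c24 LD3_c21) (LK LD1_c8 LD2_c46 LD3_c11) Lrfl Lrfl
theorem f202098 : Led Lsl_ff (LP (LK LD1_c4 LD2_c24 LD3_c21)) = (LP (LK LD1_c7 LD2_c56 LD3_c44)) :=
  Lgr Lrot25 (Lpr_bt (K11.f75635 IH) (Lpr_ft (K11.f202093 IH) (Lpr_bt (K6.f59236 IH) (Lpn (LP (LK LD1_c7 LD2_c56 LD3_c44))))))
theorem f419559 : Led Lsl_af (LP (LK LD1_c7 LD2_c56 LD3_c44)) = (LP (LK LD1_c11 LD2_c41 LD3_c17)) :=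
  Lgr Lrot45 (Lpe (f202098 IH) (Lpr_at (f75571 IH) (Lpr_ft (f419557 IH) (Lpn (LP (LK LD1_c11 LD2_c41 LD3_c17))))))
theorem f419561 : Led Lsl_at (LP (LK LD1_c7 LD2_c56 LD3_c44)) = (LP (LK LD1_c11 LD2_c41 LD3_c17)) :=
  Lgr Lrot100 (Lpr_af (f419559 IH) (Lpn (LP (LK LD1_c11 LD2_c41 LD3_c17))))
theorem f419575 : Led Lsl_ff (LP (LK LD1_c7 LD2_c56 LD3_c44)) = (LP (LK LD1_c4 LD2_c24 LD3_c21)) :=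
  Lgr Lrot30 (Lpr_at (f419561 IH) (Lpr_ft (K36.f137549 IH) (Lpr_at (K11.f75618 IH) (Lpn (LP (LK LD1_c4 LD2_c24 LD3_c21))))))
theorem f419577 : Led Lsl_gt (LP (LK LD1_c8 LD2_c46 LD3_c19)) = (LP (LK LD1_c11 LD2_c41 LD3_c17)) :=
  Lgr Lrot46 (Lpe (K6.f70462 IH) (Lpe (f419575 IH) (Lpr_at (f419561 IH) (Lpn (LP (LK LD1_c11 LD2_c41 LD3_c17))))))
theorem f427404 : Led Lsl_at (LP (LK LD1_c8 LD2_c48 LD3_c0)) = (LP (LK LD1_c8 LD2_c48 LD3_c1)) :=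
  Lgr Lrot33 (Lpr_ff (K28.f426351 IH) (Lpr_dt (K28.f38536 IH) (Lpr_ct (K6.f38529 IH) (Lpr_dt (K36.f72115 IH) (Lpr_ct (K28.f72116 IH) (Lpr_dt (K36.f427396 IH) (Lpe (K36.f426479 IH) (Lpr_dt (K28.f137591 IH) (Lpe (K6.f70497 IH) (Lpn (LP (LK LD1_c8 LD2_c48 LD3_c1))))))))))))
theorem f427408 : Led Lsl_gt (LP (LK LD1_c7 LD2_c57 LD3_c16)) = (LP (LK LD1_c8 LD2_c48 LD3_c1)) :=
  Lgr Lrot46 (Lpr_gf (K36.f420301 IH) (Lpe (K28.f426351 IH) (Lpr_at (f427404 IH) (Lpn (LP (LK LD1_c8 LD2_c48 LD3_c1))))))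
theorem f157848 : Led Lsl_bt (LP (LK LD1_c2 LD2_c49 LD3_c40)) = (LP (LK LD1_c5 LD2_c47 LD3_c22)) :=
  Lre_b IH (LK LD1_c2 LD2_c49 LD3_c40) (LK LD1_c5 LD2_c47 LD3_c22) Lrfl Lrfl
theorem f157849 : Led Lsl_df (LP (LK LD1_c7 LD2_c57 LD3_c16)) = (LP (LK LD1_c5 LD2_c47 LD3_c22)) :=
  Lgr Lrot12 (Lpr_bt (K36.f35529 IH) (Lpr_dt (K39.f157840 IH) (Lpr_bt (f157848 IH) (Lpn (LP (LK LD1_c5 LD2_c47 LD3_c22))))))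
theorem f558226 : Led Lsl_gf (LP (LK LD1_c7 LD2_c14 LD3_c27)) = (LP (LK LD1_c5 LD2_c47 LD3_c22)) :=
  Lgr Lrot147 (Lpr_ct (f558218 IH) (Lpe (K11.f80797 IH) (Lpq (K36.f540400 IH) (Lpe (f519738 IH) (Lpe (f108572 IH) (Lpe (f540418 IH) (Lpe (f419577 IH) (Lpe (K6.f70503 IH) (Lpe (f427408 IH) (Lpr_df (f157849 IH) (Lpn (LP (LK LD1_c5 LD2_c47 LD3_c22)))))))))))))
theorem f442176 : Led Lsl_dt (LP (LK LD1_c7 LD2_c14 LD3_c27)) = (LP (LK LD1_c13 LD2_c42 LD3_c2)) :=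
  Lre_d IH (LK LD1_c7 LD2_c14 LD3_c27) (LK LD1_c13 LD2_c42 LD3_c2) Lrfl Lrfl
theorem f157836 : Led Lsl_bt (LP (LK LD1_c3 LD2_c57 LD3_c59)) = (LP (LK LD1_c7 LD2_c57 LD3_c16)) :=
  Lre_b IH (LK LD1_c3 LD2_c57 LD3_c59) (LK LD1_c7 LD2_c57 LD3_c16) Lrfl Lrfl
theorem f73417 : Led Lsl_bt (LP (LK LD1_c5 LD2_c47 LD3_c22)) = (LP (LK LD1_c2 LD2_c49 LD3_c40)) :=
  Lre_b IH (LK LD1_c5 LD2_c47 LD3_c22) (LK LD1_c2 LD2_c49 LD3_c40) Lrfl Lrfl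
theorem f157837 : Led Lsl_dt (LP (LK LD1_c7 LD2_c57 LD3_c16)) = (LP (LK LD1_c5 LD2_c47 LD3_c22)) :=
  Lgr Lrot79 (Lpe (f157836 IH) (Lpr_df (K8.f157824 IH) (Lpe (f73417 IH) (Lpn (LP (LK LD1_c5 LD2_c47 LD3_c22))))))
theorem f558230 : Led Lsl_ct (LP (LK LD1_c13 LD2_c42 LD3_c2)) = (LP (LK LD1_c14 LD2_c59 LD3_c36)) :=
  Lgr Lrot7 (Lpe (f442176 IH) (Lpr_gf (f558226 IH) (Lpe (f157837 IH) (Lpr_gf (K36.f420301 IH) (Lpr_cf (K28.f420611 IH) (Lpr_gt (K6.f137547 IH) (Lpe (K11.f75572 IH) (Lpe (K36.f501475 IH) (Lpe (f502299 IH) (Lpn (LP (LK LD1_c14 LD2_c59 LD3_c36))))))))))))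
theorem f558197 : Led Lsl_bt (LP (LK LD1_c13 LD2_c42 LD3_c2)) = (LP (LK LD1_c11 LD2_c27 LD3_c29)) :=
  Lgr Lrot127 (Lpr_bf (f558195 IH) (Lpn (LP (LK LD1_c11 LD2_c27 LD3_c29))))
theorem f29502 : Led Lsl_dt (LP (LK LD1_c8 LD2_c2 LD3_c12)) = (LP (LK LD1_c4 LD2_c0 LD3_c41)) :=
  Lre_d IH (LK LD1_c8 LD2_c2 LD3_c12) (LK LD1_c4 LD2_c0 LD3_c41) Lrfl Lrfl
theorem f69434 : Led Lsl_bf (LP (LK LD1_c8 LD2_c2 LD3_c12)) = (LP (LK LD1_c5 LD2_c55 LD3_c29)) :=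
  Lgr Lrot93 (Lpr_dt (f29502 IH) (Lpr_bt (K6.f69421 IH) (Lpr_dt (K8.f59547 IH) (Lpn (LP (LK LD1_c5 LD2_c55 LD3_c29))))))
theorem f558244 : Led Lsl_gf (LP (LK LD1_c11 LD2_c27 LD3_c29)) = (LP (LK LD1_c8 LD2_c2 LD3_c12)) :=
  Lgr Lrot124 (Lpe (f558197 IH) (Lpr_ct (f558230 IH) (Lpr_gt (K37.f35958 IH) (Lpe (K2.f35960 IH) (Lpr_bt (K2.f81681 IH) (Lpe (K4.f117644 IH) (Lpr_ct (K4.f117604 IH) (Lpe (K8.f138782 IH) (Lpe (K8.f59548 IH) (Lpe (f69434 IH) (Lpn (LP (LK LD1_c8 LD2_c2 LD3_c12)))))))))))))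
theorem f211002 : Led Lsl_ct (LP (LK LD1_c5 LD2_c49 LD3_c6)) = (LP (LK LD1_c2 LD2_c50 LD3_c37)) :=
  Lre_c IH (LK LD1_c5 LD2_c49 LD3_c6) (LK LD1_c2 LD2_c50 LD3_c37) Lrfl Lrfl
theorem f117640 : Led Lsl_bt (LP (LK LD1_c3 LD2_c9 LD3_c55)) = (LP (LK LD1_c6 LD2_c24 LD3_c31)) :=
  Lre_b IH (LK LD1_c3 LD2_c9 LD3_c55) (LK LD1_c6 LD2_c24 LD3_c31) Lrfl Lrfl
theorem f558250 : Led Lsl_bt (LP (LK LD1_c5 LD2_c49 LD3_c6)) = (LP (LK LD1_c3 LD2_c59 LD3_c32)) :=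
  Lgr Lrot22 (Lpr_ct (f211002 IH) (Lpe (f171802 IH) (Lpe (f450472 IH) (Lpr_gf (f558244 IH) (Lpr_bf (f69434 IH) (Lpr_ct (K8.f59548 IH) (Lpr_gf (K8.f138782 IH) (Lpe (K4.f117604 IH) (Lpr_bt (f117640 IH) (Lpr_gf (K8.f138565 IH) (Lpn (LP (LK LD1_c3 LD2_c59 LD3_c32)))))))))))))
theorem f69430 : Led Lsl_dt (LP (LK LD1_c3 LD2_c3 LD3_c26)) = (LP (LK LD1_c6 LD2_c13 LD3_c16)) :=
  Lre_d IH (LK LD1_c3 LD2_c3 LD3_c26) (LK LD1_c6 LD2_c13 LD3_c16) Lrfl Lrfl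
theorem f158348 : Led Lsl_at (LP (LK LD1_c6 LD2_c13 LD3_c16)) = (LP (LK LD1_c3 LD2_c59 LD3_c22)) :=
  Lgr Lrot51 (Lpe (f69430 IH) (Lpr_af (K8.f158346 IH) (Lpe (K8.f112547 IH) (Lpn (LP (LK LD1_c3 LD2_c59 LD3_c22))))))
theorem f208408 : Led Lsl_ft (LP (LK LD1_c3 LD2_c59 LD3_c32)) = (LP (LK LD1_c6 LD2_c13 LD3_c16)) :=
  Lgr Lrot142 (Lpr_dt (K8.f101605 IH) (Lpr_ct (K7.f37043 IH) (Lpr_dt (K5.f101600 IH) (Lpr_ct (K8.f101601 IH) (Lpr_dt (K8.f112569 IH) (Lpr_ct (K37.f158951 IH) (Lpr_dt (K37.f208404 IH) (Lpr_ct (K8.f112544 IH) (Lpe (f158348 IH) (Lpn (LP (LK LD1_c6 LD2_c13 LD3_c16))))))))))))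
theorem f558256 : Led Lsl_ff (LP (LK LD1_c5 LD2_c49 LD3_c6)) = (LP (LK LD1_c4 LD2_c0 LD3_c42)) :=
  Lgr Lrot25 (Lpr_bt (f558250 IH) (Lpr_ft (f208408 IH) (Lpe (K8.f69427 IH) (Lpn (LP (LK LD1_c4 LD2_c0 LD3_c42))))))
theorem f558260 : Led Lsl_ft (LP (LK LD1_c5 LD2_c49 LD3_c6)) = (LP (LK LD1_c4 LD2_c0 LD3_c42)) :=
  Lgr Lrot48 (Lpr_ff (f558256 IH) (Lpn (LP (LK LD1_c4 LD2_c0 LD3_c42))))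
theorem f419042 : Led Lsl_ct (LP (LK LD1_c2 LD2_c50 LD3_c37)) = (LP (LK LD1_c5 LD2_c49 LD3_c6)) :=
  Lre_c IH (LK LD1_c2 LD2_c50 LD3_c37) (LK LD1_c5 LD2_c49 LD3_c6) Lrfl Lrfl
theorem f29504 : Led Lsl_dt (LP (LK LD1_c4 LD2_c0 LD3_c41)) = (LP (LK LD1_c8 LD2_c2 LD3_c12)) :=
  Lre_d IH (LK LD1_c4 LD2_c0 LD3_c41) (LK LD1_c8 LD2_c2 LD3_c12) Lrfl Lrfl
theorem f160948 : Led Lsl_gf (LP (LK LD1_c8 LD2_c0 LD3_c5)) = (LP (LK LD1_c4 LD2_c25 LD3_c16)) :=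
  Lgr Lrot126 (Lpe (K8.f37047 IH) (Lpr_bt (K39.f158220 IH) (Lpe (K8.f160946 IH) (Lpr_ct (K8.f160938 IH) (Lpr_gt (K8.f20418 IH) (Lpe (K4.f99593 IH) (Lpr_bt (K8.f137293 IH) (Lpe (K8.f159211 IH) (Lpe (K28.f138750 IH) (Lpr_ct (K6.f138752 IH) (Lpn (LP (LK LD1_c4 LD2_c25 LD3_c16)))))))))))))
theorem f558246 : Led Lsl_dt (LP (LK LD1_c5 LD2_c49 LD3_c6)) = (LP (LK LD1_c3 LD2_c59 LD3_c31)) :=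
  Lgr Lrot27 (Lpe (f419042 IH) (Lpe (f171802 IH) (Lpe (f450472 IH) (Lpr_gf (f558244 IH) (Lpe (f29504 IH) (Lpr_gt (K6.f69483 IH) (Lpr_ct (K6.f138752 IH) (Lpe (f160948 IH) (Lpr_ct (K7.f37053 IH) (Lpn (LP (LK LD1_c3 LD2_c59 LD3_c31))))))))))))
theorem f558177 : Led Lsl_cf (LP (LK LD1_c6 LD2_c14 LD3_c10)) = (LP (LK LD1_c6 LD2_c17 LD3_c8)) :=
  Lgr Lrot11 (Lpr_ct (f558175 IH) (Lpn (LP (LK LD1_c6 LD2_c17 LD3_c8))))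
theorem f421063 : Led Lsl_dt (LP (LK LD1_c3 LD2_c5 LD3_c43)) = (LP (LK LD1_c6 LD2_c17 LD3_c8)) :=
  Lre_d IH (LK LD1_c3 LD2_c5 LD3_c43) (LK LD1_c6 LD2_c17 LD3_c8) Lrfl Lrfl
theorem f421037 : Led Lsl_at (LP (LK LD1_c1 LD2_c21 LD3_c32)) = (LP (LK LD1_c2 LD2_c51 LD3_c0)) :=
  Lre_a IH (LK LD1_c1 LD2_c21 LD3_c32) (LK LD1_c2 LD2_c51 LD3_c0) Lrfl Lrfl
theorem f421038 : Led Lsl_ct (LP (LK LD1_c2 LD2_c51 LD3_c0)) = (LP (LK LD1_c3 LD2_c5 LD3_c43)) :=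
  Lgr Lrot111 (Lpe (f421037 IH) (Lpr_cf (K37.f421025 IH) (Lpe (K38.f421030 IH) (Lpn (LP (LK LD1_c3 LD2_c5 LD3_c43))))))
theorem f421061 : Led Lsl_dt (LP (LK LD1_c5 LD2_c49 LD3_c48)) = (LP (LK LD1_c2 LD2_c51 LD3_c0)) :=
  Lre_d IH (LK LD1_c5 LD2_c49 LD3_c48) (LK LD1_c2 LD2_c51 LD3_c0) Lrfl Lrfl
theorem f421062 : Led Lsl_ct (LP (LK LD1_c11 LD2_c28 LD3_c14)) = (LP (LK LD1_c5 LD2_c49 LD3_c48)) :=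
  Lre_c IH (LK LD1_c11 LD2_c28 LD3_c14) (LK LD1_c5 LD2_c49 LD3_c48) Lrfl Lrfl
theorem f558266 : Led Lsl_dt (LP (LK LD1_c8 LD2_c0 LD3_c5)) = (LP (LK LD1_c11 LD2_c28 LD3_c14)) :=
  Lgr Lrot32 (Lpe (K8.f37047 IH) (Lpe (f558246 IH) (Lpr_ft (f558260 IH) (Lpe (K8.f158646 IH) (Lpr_cf (f558177 IH) (Lpe (f421063 IH) (Lpe (f421038 IH) (Lpe (f421061 IH) (Lpe (f421062 IH) (Lpn (LP (LK LD1_c11 LD2_c28 LD3_c14))))))))))))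
theorem f552215 : Led Lsl_dt (LP (LK LD1_c4 LD2_c56 LD3_c61)) = (LP (LK LD1_c3 LD2_c35 LD3_c42)) :=
  Lgr Lrot60 (Lpr_ff (K32.f315242 IH) (Lpr_df (K39.f552209 IH) (Lpe (K24.f439358 IH) (Lpn (LP (LK LD1_c3 LD2_c35 LD3_c42))))))
theorem f172695 : Led Lsl_bt (LP (LK LD1_c0 LD2_c37 LD3_c2)) = (LP (LK LD1_c1 LD2_c20 LD3_c2)) :=
  Lre_b IH (LK LD1_c0 LD2_c37 LD3_c2) (LK LD1_c1 LD2_c20 LD3_c2) Lrfl Lrfl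
theorem f172697 : Led Lsl_bf (LP (LK LD1_c2 LD2_c26 LD3_c25)) = (LP (LK LD1_c2 LD2_c47 LD3_c22)) :=
  Lgr Lrot90 (Lpr_ct (K38.f172694 IH) (Lpr_bt (K13.f172693 IH) (Lpr_ct (K11.f172423 IH) (Lpr_bt (f172695 IH) (Lpr_ct (K38.f172696 IH) (Lpn (LP (LK LD1_c2 LD2_c47 LD3_c22))))))))
theorem f172840 : Led Lsl_gt (LP (LK LD1_c5 LD2_c43 LD3_c0)) = (LP (LK LD1_c2 LD2_c47 LD3_c28)) :=
  Lre_g IH (LK LD1_c5 LD2_c43 LD3_c0) (LK LD1_c2 LD2_c47 LD3_c28) Lrfl Lrfl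
theorem f558272 : Led Lsl_bf (LP (LK LD1_c5 LD2_c43 LD3_c0)) = (LP (LK LD1_c5 LD2_c49 LD3_c48)) :=
  Lgr Lrot184 (Lpr_gt (f172840 IH) (Lpr_dt (K38.f172839 IH) (Lpr_ct (K38.f172696 IH) (Lpe (f172697 IH) (Lpr_gt (K13.f172838 IH) (Lpr_dt (f552215 IH) (Lpr_ct (K28.f116216 IH) (Lpr_bt (K24.f116195 IH) (Lpr_gt (K37.f523747 IH) (Lpqs (K39.f540369 IH) (Lpr_dt (K14.f59081 IH) (Lpe (K14.f255499 IH) (Lpe (K39.f554038 IH) (Lpr_gt (K39.f542501 IH) (Lpr_dt (K28.f38536 IH) (Lpr_ct (K6.f38529 IH) (Lpr_bt (K8.f38539 IH) (Lpe (f160948 IH) (Lpr_dt (f558266 IH) (Lpr_ct (f421062 IH) (Lpn (LP (LK LD1_c5 LD2_c49 LD3_c48)))))))))))))))))))))))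
theorem f210791 : Led Lsl_bt (LP (LK LD1_c1 LD2_c20 LD3_c4)) = (LP (LK LD1_c2 LD2_c47 LD3_c28)) :=
  Lre_b IH (LK LD1_c1 LD2_c20 LD3_c4) (LK LD1_c2 LD2_c47 LD3_c28) Lrfl Lrfl
theorem f186035 : Led Lsl_ct (LP (LK LD1_c1 LD2_c28 LD3_c56)) = (LP (LK LD1_c3 LD2_c5 LD3_c46)) :=
  Lre_c IH (LK LD1_c1 LD2_c28 LD3_c56) (LK LD1_c3 LD2_c5 LD3_c46) Lrfl Lrfl
theorem f210789 : Led Lsl_bt (LP (LK LD1_c1 LD2_c28 LD3_c56)) = (LP (LK LD1_c3 LD2_c5 LD3_c44)) :=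
  Lre_b IH (LK LD1_c1 LD2_c28 LD3_c56) (LK LD1_c3 LD2_c5 LD3_c44) Lrfl Lrfl
theorem f210790 : Led Lsl_gt (LP (LK LD1_c3 LD2_c5 LD3_c44)) = (LP (LK LD1_c6 LD2_c17 LD3_c10)) :=
  Lre_g IH (LK LD1_c3 LD2_c5 LD3_c44) (LK LD1_c6 LD2_c17 LD3_c10) Lrfl Lrfl
theorem f137580 : Led Lsl_ct (LP (LK LD1_c4 LD2_c25 LD3_c23)) = (LP (LK LD1_c8 LD2_c48 LD3_c17)) :=
  Lre_c IH (LK LD1_c4 LD2_c25 LD3_c23) (LK LD1_c8 LD2_c48 LD3_c17) Lrfl Lrfl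
theorem f137583 : Led Lsl_bt (LP (LK LD1_c4 LD2_c25 LD3_c23)) = (LP (LK LD1_c8 LD2_c48 LD3_c16)) :=
  Lre_b IH (LK LD1_c4 LD2_c25 LD3_c23) (LK LD1_c8 LD2_c48 LD3_c16) Lrfl Lrfl
theorem f142204 : Led Lsl_bt (LP (LK LD1_c9 LD2_c9 LD3_c41)) = (LP (LK LD1_c4 LD2_c37 LD3_c0)) :=
  Lre_b IH (LK LD1_c9 LD2_c9 LD3_c41) (LK LD1_c4 LD2_c37 LD3_c0) Lrfl Lrfl
theorem f141173 : Led Lsl_bt (LP (LK LD1_c2 LD2_c10 LD3_c14)) = (LP (LK LD1_c4 LD2_c25 LD3_c44)) :=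
  Lre_b IH (LK LD1_c2 LD2_c10 LD3_c14) (LK LD1_c4 LD2_c25 LD3_c44) Lrfl Lrfl
theorem f160719 : Led Lsl_gf (LP (LK LD1_c8 LD2_c48 LD3_c16)) = (LP (LK LD1_c4 LD2_c25 LD3_c44)) :=
  Lgr Lrot124 (Lpe (f137583 IH) (Lpr_ct (f137580 IH) (Lpe (K28.f137578 IH) (Lpr_cf (K28.f160709 IH) (Lpr_bt (f142204 IH) (Lpe (K8.f157209 IH) (Lpr_ct (K8.f157220 IH) (Lpr_gt (K8.f99817 IH) (Lpe (K6.f80846 IH) (Lpr_bt (f141173 IH) (Lpn (LP (LK LD1_c4 LD2_c25 LD3_c44)))))))))))))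
theorem f558173 : Led Lsl_gt (LP (LK LD1_c8 LD2_c48 LD3_c16)) = (LP (LK LD1_c11 LD2_c28 LD3_c14)) :=
  Lgr Lrot46 (Lpr_gf (f160719 IH) (Lpr_ft (f558167 IH) (Lpr_at (f421067 IH) (Lpn (LP (LK LD1_c11 LD2_c28 LD3_c14))))))
theorem f558280 : Led Lsl_ct (LP (LK LD1_c6 LD2_c17 LD3_c10)) = (LP (LK LD1_c8 LD2_c48 LD3_c16)) :=
  Lgr Lrot91 (Lpe (f210790 IH) (Lpe (f210789 IH) (Lpr_ct (f186035 IH) (Lpr_gf (K36.f210782 IH) (Lpe (K30.f172701 IH) (Lpr_bt (f210791 IH) (Lpe (f172840 IH) (Lpr_bf (f558272 IH) (Lpr_ct (f421066 IH) (Lpe (f558173 IH) (Lpn (LP (LK LD1_c8 LD2_c48 LD3_c16)))))))))))))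
theorem f206064 : Led Lsl_bt (LP (LK LD1_c3 LD2_c3 LD3_c43)) = (LP (LK LD1_c6 LD2_c13 LD3_c45)) :=
  Lre_b IH (LK LD1_c3 LD2_c3 LD3_c43) (LK LD1_c6 LD2_c13 LD3_c45) Lrfl Lrfl
theorem f38249 : Led Lsl_bt (LP (LK LD1_c8 LD2_c48 LD3_c16)) = (LP (LK LD1_c4 LD2_c25 LD3_c23)) :=
  Lre_b IH (LK LD1_c8 LD2_c48 LD3_c16) (LK LD1_c4 LD2_c25 LD3_c23) Lrfl Lrfl
theorem f420410 : Led Lsl_dt (LP (LK LD1_c6 LD2_c13 LD3_c45)) = (LP (LK LD1_c8 LD2_c48 LD3_c16)) :=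
  Lgr Lrot79 (Lpe (f206064 IH) (Lpr_df (K36.f420388 IH) (Lpe (f38249 IH) (Lpn (LP (LK LD1_c8 LD2_c48 LD3_c16))))))
theorem f541802 : Led Lsl_cf (LP (LK LD1_c8 LD2_c49 LD3_c43)) = (LP (LK LD1_c6 LD2_c8 LD3_c34)) :=
  Lgr Lrot99 (Lpr_df (K36.f499051 IH) (Lpe (K36.f80626 IH) (Lpe (K36.f80551 IH) (Lpr_cf (K32.f81387 IH) (Lpe (K36.f81397 IH) (Lpe (K36.f438204 IH) (Lpr_gt (K32.f29499 IH) (Lpr_ct (K36.f541790 IH) (Lpr_gt (K36.f75824 IH) (Lpn (LP (LK LD1_c6 LD2_c8 LD3_c34))))))))))))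
theorem f205113 : Led Lsl_cf (LP (LK LD1_c3 LD2_c10 LD3_c26)) = (LP (LK LD1_c2 LD2_c46 LD3_c41)) :=
  Lgr Lrot11 (Lpr_ct (K18.f205102 IH) (Lpn (LP (LK LD1_c2 LD2_c46 LD3_c41))))
theorem f205115 : Led Lsl_ct (LP (LK LD1_c6 LD2_c25 LD3_c31)) = (LP (LK LD1_c5 LD2_c41 LD3_c17)) :=
  Lgr Lrot111 (Lpe (K36.f176660 IH) (Lpr_cf (f205113 IH) (Lpe (K36.f176934 IH) (Lpn (LP (LK LD1_c5 LD2_c41 LD3_c17))))))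
theorem f176668 : Led Lsl_df (LP (LK LD1_c6 LD2_c25 LD3_c31)) = (LP (LK LD1_c5 LD2_c49 LD3_c21)) :=
  Lgr Lrot38 (Lpr_dt (K36.f176662 IH) (Lpn (LP (LK LD1_c5 LD2_c49 LD3_c21))))
theorem f541816 : Led Lsl_ct (LP (LK LD1_c4 LD2_c0 LD3_c50)) = (LP (LK LD1_c5 LD2_c49 LD3_c21)) :=
  Lgr Lrot59 (Lpr_cf (K36.f541812 IH) (Lpn (LP (LK LD1_c5 LD2_c49 LD3_c21))))
theorem f68544 : Led Lsl_dt (LP (LK LD1_c4 LD2_c34 LD3_c10)) = (LP (LK LD1_c2 LD2_c30 LD3_c53)) :=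
  Lgr Lrot79 (Lpe (K32.f68542 IH) (Lpr_df (K18.f68540 IH) (Lpe (K27.f68543 IH) (Lpn (LP (LK LD1_c2 LD2_c30 LD3_c53))))))
theorem f541828 : Led Lsl_df (LP (LK LD1_c5 LD2_c46 LD3_c22)) = (LP (LK LD1_c6 LD2_c16 LD3_c48)) :=
  Lgr Lrot43 (Lpe (K36.f81398 IH) (Lpe (K39.f438211 IH) (Lpr_ct (f541816 IH) (Lpe (f176668 IH) (Lpr_ct (f205115 IH) (Lpr_dt (K36.f428109 IH) (Lpe (f541802 IH) (Lpr_dt (K36.f499055 IH) (Lpr_ct (K39.f80640 IH) (Lpe (K36.f425768 IH) (Lpr_ct (K36.f541826 IH) (Lpr_dt (f68544 IH) (Lpr_ct (K36.f242752 IH) (Lpe (K36.f185803 IH) (Lpr_ct (f185810 IH) (Lpn (LP (LK LD1_c6 LD2_c16 LD3_c48))))))))))))))))))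
theorem f541796 : Led Lsl_cf (LP (LK LD1_c1 LD2_c57 LD3_c11)) = (LP (LK LD1_c3 LD2_c0 LD3_c34)) :=
  Lgr Lrot11 (Lpr_ct (K36.f541790 IH) (Lpn (LP (LK LD1_c3 LD2_c0 LD3_c34))))
theorem f185811 : Led Lsl_ct (LP (LK LD1_c6 LD2_c16 LD3_c48)) = (LP (LK LD1_c3 LD2_c5 LD3_c29)) :=
  Lre_c IH (LK LD1_c6 LD2_c16 LD3_c48) (LK LD1_c3 LD2_c5 LD3_c29) Lrfl Lrfl
theorem f548809 : Led Lsl_gt (LP (LK LD1_c11 LD2_c24 LD3_c11)) = (LP (LK LD1_c6 LD2_c16 LD3_c48)) :=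
  Lgr Lrot146 (Lpr_dt (K38.f548799 IH) (Lpr_gt (K7.f138776 IH) (Lpr_ct (K7.f29489 IH) (Lpr_gt (K7.f29500 IH) (Lpr_ct (K7.f29461 IH) (Lpr_dt (K39.f29478 IH) (Lpr_cf (f541796 IH) (Lpe (K36.f428096 IH) (Lpe (f185811 IH) (Lpn (LP (LK LD1_c6 LD2_c16 LD3_c48))))))))))))
theorem f176666 : Led Lsl_gt (LP (LK LD1_c3 LD2_c10 LD3_c26)) = (LP (LK LD1_c6 LD2_c25 LD3_c30)) :=
  Lre_g IH (LK LD1_c3 LD2_c10 LD3_c26) (LK LD1_c6 LD2_c25 LD3_c30) Lrfl Lrfl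
theorem f558289 : Led Lsl_df (LP (LK LD1_c6 LD2_c17 LD3_c10)) = (LP (LK LD1_c6 LD2_c25 LD3_c30)) :=
  Lgr Lrot174 (Lpr_ct (f558280 IH) (Lpe (f420410 IH) (Lpr_gf (f206070 IH) (Lpr_df (f541828 IH) (Lpe (f548809 IH) (Lpr_ct (K38.f104904 IH) (Lpr_gt (K38.f548819 IH) (Lpe (K36.f176656 IH) (Lpr_gt (f176666 IH) (Lpn (LP (LK LD1_c6 LD2_c25 LD3_c30))))))))))))
theorem f420386 : Led Lsl_df (LP (LK LD1_c6 LD2_c13 LD3_c45)) = (LP (LK LD1_c8 LD2_c48 LD3_c16)) :=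
  Lgr Lrot12 (Lpr_bt (f80743 IH) (Lpr_dt (K36.f420372 IH) (Lpr_bt (f137583 IH) (Lpn (LP (LK LD1_c8 LD2_c48 LD3_c16))))))
theorem f558185 : Led Lsl_df (LP (LK LD1_c4 LD2_c57 LD3_c21)) = (LP (LK LD1_c5 LD2_c49 LD3_c5)) :=
  Lgr Lrot16 (Lpe (K35.f541669 IH) (Lpe (K32.f68556 IH) (Lpe (K37.f541810 IH) (Lpr_df (K36.f425768 IH) (Lpe (K36.f80551 IH) (Lpe (K32.f81374 IH) (Lpe (K8.f70220 IH) (Lpr_ct (f558175 IH) (Lpr_gt (f450469 IH) (Lpn (LP (LK LD1_c5 LD2_c49 LD3_c5))))))))))))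
theorem f558288 : Led Lsl_at (LP (LK LD1_c4 LD2_c57 LD3_c14)) = (LP (LK LD1_c2 LD2_c26 LD3_c36)) :=
  Lre_a IH (LK LD1_c4 LD2_c57 LD3_c14) (LK LD1_c2 LD2_c26 LD3_c36) Lrfl Lrfl
theorem f558296 : Led Lsl_ff (LP (LK LD1_c4 LD2_c57 LD3_c14)) = (LP (LK LD1_c6 LD2_c25 LD3_c30)) :=
  Lgr Lrot103 (Lpr_at (f558288 IH) (Lpe (f541672 IH) (Lpr_df (f558185 IH) (Lpe (f450472 IH) (Lpe (f558187 IH) (Lpe (f206062 IH) (Lpr_df (f420386 IH) (Lpe (f558280 IH) (Lpr_df (f558289 IH) (Lpn (LP (LK LD1_c6 LD2_c25 LD3_c30))))))))))))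
theorem f558300 : Led Lsl_ft (LP (LK LD1_c4 LD2_c57 LD3_c14)) = (LP (LK LD1_c6 LD2_c25 LD3_c30)) :=
  Lgr Lrot48 (Lpr_ff (f558296 IH) (Lpn (LP (LK LD1_c6 LD2_c25 LD3_c30))))
theorem f558339 : Led Lsl_ef (LP (LK LD1_c4 LD2_c57 LD3_c9)) = (LP (LK LD1_c6 LD2_c25 LD3_c30)) :=
  Lgr Lrot21 (Lpr_ft (f557353 IH) (Lpq (f557348 IH) (Lpe (K39.f495237 IH) (Lpr_ft (f495243 IH) (Lpr_et (f495244 IH) (Lpr_ft (f558300 IH) (Lpn (LP (LK LD1_c6 LD2_c25 LD3_c30)))))))))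
theorem f421027 : Led Lsl_dt (LP (LK LD1_c1 LD2_c28 LD3_c55)) = (LP (LK LD1_c3 LD2_c5 LD3_c44)) :=
  Lre_d IH (LK LD1_c1 LD2_c28 LD3_c55) (LK LD1_c3 LD2_c5 LD3_c44) Lrfl Lrfl
theorem f72869 : Led Lsl_et (LP (LK LD1_c2 LD2_c49 LD3_c21)) = (LP (LK LD1_c1 LD2_c20 LD3_c49)) :=
  Lre_e IH (LK LD1_c2 LD2_c49 LD3_c21) (LK LD1_c1 LD2_c20 LD3_c49) Lrfl Lrfl
def v1744 : LQ := Led Lsl_et (LP (LK LD1_c1 LD2_c24 LD3_c49))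
theorem f501234 : Led Lsl_et (LP (LK LD1_c1 LD2_c24 LD3_c49)) = v1744 :=
  Lrfl
theorem f497187 : Led Lsl_at (LP (LK LD1_c2 LD2_c49 LD3_c20)) = (LP (LK LD1_c2 LD2_c58 LD3_c16)) :=
  Lgr Lrot33 (Lpr_ff (K32.f497183 IH) (Lpr_dt (f76087 IH) (Lpr_ct (K4.f26425 IH) (Lpr_dt (K2.f72724 IH) (Lpr_ct (K8.f75342 IH) (Lpr_dt (K8.f74400 IH) (Lpr_ct (K4.f56847 IH) (Lpr_dt (K4.f75398 IH) (Lpr_ct (K5.f72843 IH) (Lpn (LP (LK LD1_c2 LD2_c58 LD3_c16))))))))))))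
theorem f499986 : Led Lsl_gt (LP (LK LD1_c2 LD2_c58 LD3_c19)) = K36.v1565 :=
  Lgr Lrot5 (Lpe (K32.f497183 IH) (Lpr_at (f497187 IH) (Lpr_gf (K36.f499985 IH) (Lpn K36.v1565))))
theorem f501237 : Led Lsl_gf (LP (LK LD1_c1 LD2_c31 LD3_c25)) = v1744 :=
  Lgr Lrot141 (Lpr_ef (K27.f205128 IH) (Lpr_dt (K28.f180659 IH) (Lpe (K32.f387067 IH) (Lpe (K28.f76113 IH) (Lpr_et (K28.f76112 IH) (Lpr_gt (K2.f72520 IH) (Lpr_dt (K2.f72521 IH) (Lpr_gt (K4.f40382 IH) (Lpe (K32.f76089 IH) (Lpr_et (f501234 IH) (Lpn v1744)))))))))))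
theorem f537685 : (LP (LK LD1_c2 LD2_c58 LD3_c19)) = v1744 :=
  Lefun (Lecon (Lfl_gt (f499986 IH)) (K36.f537287 IH)) (f501237 IH)
theorem f548793 : Led Lsl_et (LP (LK LD1_c2 LD2_c49 LD3_c20)) = (LP (LK LD1_c3 LD2_c5 LD3_c42)) :=
  Lgr Lrot69 (Lpr_ff (K32.f497183 IH) (Lpqs (f537685 IH) (Lpe (f501234 IH) (Lpqs (K32.f497176 IH) (Lpe (K32.f495985 IH) (Lpe (f72869 IH) (Lpr_ff (K38.f548789 IH) (Lpn (LP (LK LD1_c3 LD2_c5 LD3_c42))))))))))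
theorem f542188 : Led Lsl_et (LP (LK LD1_c2 LD2_c55 LD3_c15)) = (LP (LK LD1_c5 LD2_c43 LD3_c19)) :=
  Lgr Lrot121 (Lpr_dt (K8.f72610 IH) (Lpe (K8.f150391 IH) (Lpe (K32.f210038 IH) (Lpq (K38.f537614 IH) (Lpe (K38.f495988 IH) (Lpe (K4.f60930 IH) (Lpe (K37.f72823 IH) (Lpr_dt (K37.f80035 IH) (Lpe (K37.f73175 IH) (Lpr_df (K37.f542151 IH) (Lpe (K37.f424029 IH) (Lpn (LP (LK LD1_c5 LD2_c43 LD3_c19))))))))))))))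
theorem f558347 : Led Lsl_gt (LP (LK LD1_c4 LD2_c57 LD3_c9)) = (LP (LK LD1_c5 LD2_c43 LD3_c19)) :=
  Lgr Lrot131 (Lpr_ef (f558339 IH) (Lpe (f558289 IH) (Lpe (f210790 IH) (Lpe (f421027 IH) (Lpe (K38.f421035 IH) (Lpe (f548793 IH) (Lpe (K32.f210036 IH) (Lpe (K8.f156784 IH) (Lpe (K8.f72610 IH) (Lpr_et (f542188 IH) (Lpn (LP (LK LD1_c5 LD2_c43 LD3_c19)))))))))))))
theorem f381403 : Led Lsl_gt (LP (LK LD1_c4 LD2_c57 LD3_c24)) = (LP (LK LD1_c2 LD2_c26 LD3_c36)) :=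
  Lre_g IH (LK LD1_c4 LD2_c57 LD3_c24) (LK LD1_c2 LD2_c26 LD3_c36) Lrfl Lrfl
theorem f558302 : Led Lsl_gf (LP (LK LD1_c4 LD2_c57 LD3_c24)) = (LP (LK LD1_c6 LD2_c25 LD3_c30)) :=
  Lgr Lrot47 (Lpr_gt (f381403 IH) (Lpe (f558288 IH) (Lpr_ff (f558296 IH) (Lpn (LP (LK LD1_c6 LD2_c25 LD3_c30))))))
theorem f558293 : Led Lsl_dt (LP (LK LD1_c6 LD2_c17 LD3_c10)) = (LP (LK LD1_c6 LD2_c25 LD3_c30)) :=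
  Lgr Lrot42 (Lpr_df (f558289 IH) (Lpn (LP (LK LD1_c6 LD2_c25 LD3_c30))))
theorem f171799 : Led Lsl_dt (LP (LK LD1_c2 LD2_c50 LD3_c37)) = (LP (LK LD1_c1 LD2_c21 LD3_c18)) :=
  Lre_d IH (LK LD1_c2 LD2_c50 LD3_c37) (LK LD1_c1 LD2_c21 LD3_c18) Lrfl Lrfl
theorem f450102 : Led Lsl_ft (LP (LK LD1_c3 LD2_c5 LD3_c44)) = (LP (LK LD1_c2 LD2_c50 LD3_c37)) :=
  Lgr Lrot54 (Lpe (f421027 IH) (Lpr_ff (K37.f450096 IH) (Lpe (f171799 IH) (Lpn (LP (LK LD1_c2 LD2_c50 LD3_c37))))))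
theorem f558262 : Led Lsl_cf (LP (LK LD1_c3 LD2_c5 LD3_c44)) = (LP (LK LD1_c4 LD2_c0 LD3_c42)) :=
  Lgr Lrot108 (Lpr_ft (f450102 IH) (Lpr_ct (f419042 IH) (Lpr_ft (f558260 IH) (Lpn (LP (LK LD1_c4 LD2_c0 LD3_c42))))))
theorem f542533 : Led Lsl_gf (LP (LK LD1_c5 LD2_c43 LD3_c56)) = (LP (LK LD1_c4 LD2_c0 LD3_c42)) :=
  Lgr Lrot76 (Lpr_af (K36.f542521 IH) (Lpr_ff (K32.f81371 IH) (Lpe (K39.f94964 IH) (Lpn (LP (LK LD1_c4 LD2_c0 LD3_c42))))))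
theorem f541784 : Led Lsl_ft (LP (LK LD1_c2 LD2_c47 LD3_c59)) = (LP (LK LD1_c5 LD2_c43 LD3_c57)) :=
  Lre_f IH (LK LD1_c2 LD2_c47 LD3_c59) (LK LD1_c5 LD2_c43 LD3_c57) Lrfl Lrfl
theorem f541786 : Led Lsl_ft (LP (LK LD1_c8 LD2_c45 LD3_c26)) = (LP (LK LD1_c5 LD2_c43 LD3_c56)) :=
  Lgr Lrot4 (Lpr_cf (K36.f541777 IH) (Lpe (f541784 IH) (Lpe (K36.f541785 IH) (Lpn (LP (LK LD1_c5 LD2_c43 LD3_c56))))))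
theorem f542508 : Led Lsl_dt (LP (LK LD1_c5 LD2_c43 LD3_c56)) = (LP (LK LD1_c3 LD2_c3 LD3_c59)) :=
  Lgr Lrot60 (Lpe (f541786 IH) (Lpe (K36.f70102 IH) (Lpr_ff (K36.f81445 IH) (Lpn (LP (LK LD1_c3 LD2_c3 LD3_c59))))))
theorem f420481 : Led Lsl_bt (LP (LK LD1_c3 LD2_c4 LD3_c55)) = (LP (LK LD1_c4 LD2_c23 LD3_c46)) :=
  Lgr Lrot127 (Lpr_bf (f202570 IH) (Lpn (LP (LK LD1_c4 LD2_c23 LD3_c46))))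
theorem f420483 : Led Lsl_df (LP (LK LD1_c8 LD2_c2 LD3_c22)) = (LP (LK LD1_c4 LD2_c23 LD3_c46)) :=
  Lgr Lrot12 (Lpe (K36.f163417 IH) (Lpe (K32.f202568 IH) (Lpr_bt (f420481 IH) (Lpn (LP (LK LD1_c4 LD2_c23 LD3_c46))))))
theorem f558306 : Led Lsl_dt (LP (LK LD1_c4 LD2_c57 LD3_c24)) = (LP (LK LD1_c9 LD2_c5 LD3_c44)) :=
  Lgr Lrot105 (Lpr_gf (f558302 IH) (Lpe (f558293 IH) (Lpe (f210790 IH) (Lpr_cf (f558262 IH) (Lpe (f542533 IH) (Lpr_dt (f542508 IH) (Lpe (K36.f81447 IH) (Lpe (f420483 IH) (Lpr_cf (K36.f541824 IH) (Lpn (LP (LK LD1_c9 LD2_c5 LD3_c44))))))))))))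
theorem f548811 : Led Lsl_gf (LP (LK LD1_c5 LD2_c46 LD3_c61)) = (LP (LK LD1_c9 LD2_c5 LD3_c44)) :=
  Lgr Lrot172 (Lpr_ct (K38.f104897 IH) (Lpr_dt (K38.f548799 IH) (Lpr_cf (K6.f138747 IH) (Lpe (K8.f149414 IH) (Lpr_cf (K8.f158184 IH) (Lpe (K39.f158210 IH) (Lpr_dt (f29463 IH) (Lpr_gt (f37070 IH) (Lpr_ct (K36.f541822 IH) (Lpn (LP (LK LD1_c9 LD2_c5 LD3_c44))))))))))))
theorem f495239 : Led Lsl_et (LP (LK LD1_c4 LD2_c57 LD3_c14)) = (LP (LK LD1_c2 LD2_c26 LD3_c32)) :=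
  Lre_e IH (LK LD1_c4 LD2_c57 LD3_c14) (LK LD1_c2 LD2_c26 LD3_c32) Lrfl Lrfl
theorem f495238 : Led Lsl_ft (LP (LK LD1_c2 LD2_c26 LD3_c32)) = (LP (LK LD1_c1 LD2_c10 LD3_c33)) :=
  Lre_f IH (LK LD1_c2 LD2_c26 LD3_c32) (LK LD1_c1 LD2_c10 LD3_c33) Lrfl Lrfl
theorem f383883 : Led Lsl_ft (LP (LK LD1_c2 LD2_c26 LD3_c30)) = (LP (LK LD1_c4 LD2_c57 LD3_c9)) :=
  Lre_f IH (LK LD1_c2 LD2_c26 LD3_c30) (LK LD1_c4 LD2_c57 LD3_c9) Lrfl Lrfl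
theorem f558298 : Led Lsl_et (LP (LK LD1_c4 LD2_c57 LD3_c9)) = (LP (LK LD1_c6 LD2_c25 LD3_c30)) :=
  Lgr Lrot69 (Lpe (f383883 IH) (Lpq (f557348 IH) (Lpe (K39.f495235 IH) (Lpe (f495238 IH) (Lpe (f495239 IH) (Lpr_ff (f558296 IH) (Lpn (LP (LK LD1_c6 LD2_c25 LD3_c30)))))))))
theorem f558310 : Led Lsl_df (LP (LK LD1_c5 LD2_c47 LD3_c10)) = (LP (LK LD1_c4 LD2_c57 LD3_c9)) :=
  Lgr Lrot168 (Lpe (K39.f172180 IH) (Lpe (K37.f80035 IH) (Lpr_et (K37.f72823 IH) (Lpe (K4.f60937 IH) (Lpe (f72869 IH) (Lpr_dt (K38.f72870 IH) (Lpr_gf (f548811 IH) (Lpe (f558306 IH) (Lpr_gf (f558302 IH) (Lpe (f558298 IH) (Lpn (LP (LK LD1_c4 LD2_c57 LD3_c9)))))))))))))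
theorem f558316 : Led Lsl_dt (LP (LK LD1_c5 LD2_c47 LD3_c10)) = (LP (LK LD1_c4 LD2_c57 LD3_c9)) :=
  Lgr Lrot42 (Lpr_df (f558310 IH) (Lpn (LP (LK LD1_c4 LD2_c57 LD3_c9))))
theorem f558353 : Led Lsl_cf (LP (LK LD1_c2 LD2_c49 LD3_c28)) = (LP (LK LD1_c5 LD2_c43 LD3_c28)) :=
  Lgr Lrot166 (Lpr_gt (K39.f172180 IH) (Lpr_dt (f558316 IH) (Lpr_gt (f558347 IH) (Lpr_dt (K36.f381795 IH) (Lpe (K36.f381804 IH) (Lpe (K39.f381513 IH) (Lpe (K39.f381540 IH) (Lpe (K27.f381486 IH) (Lpe (K27.f381541 IH) (Lpn (LP (LK LD1_c5 LD2_c43 LD3_c28))))))))))))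
theorem f73176 : Led Lsl_gt (LP (LK LD1_c3 LD2_c0 LD3_c44)) = (LP (LK LD1_c1 LD2_c26 LD3_c10)) :=
  Lre_g IH (LK LD1_c3 LD2_c0 LD3_c44) (LK LD1_c1 LD2_c26 LD3_c10) Lrfl Lrfl
theorem f558398 : Led Lsl_cf (LP (LK LD1_c3 LD2_c0 LD3_c44)) = (LP (LK LD1_c3 LD2_c0 LD3_c8)) :=
  Lgr Lrot169 (Lpr_gt (f73176 IH) (Lpr_ct (K37.f72824 IH) (Lpe (K37.f73173 IH) (Lpr_cf (f558353 IH) (Lpe (K27.f381130 IH) (Lpe (K27.f313381 IH) (Lpr_gf (K27.f381116 IH) (Lpe (K17.f178880 IH) (Lpe (K32.f427515 IH) (Lpn (LP (LK LD1_c3 LD2_c0 LD3_c8))))))))))))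
theorem f80294 : Led Lsl_dt (LP (LK LD1_c6 LD2_c8 LD3_c52)) = (LP (LK LD1_c3 LD2_c0 LD3_c44)) :=
  Lre_d IH (LK LD1_c6 LD2_c8 LD3_c52) (LK LD1_c3 LD2_c0 LD3_c44) Lrfl Lrfl
theorem f558406 : Led Lsl_gf (LP (LK LD1_c6 LD2_c8 LD3_c52)) = (LP (LK LD1_c5 LD2_c42 LD3_c30)) :=
  Lgr Lrot143 (Lpr_dt (f80294 IH) (Lpr_cf (f558398 IH) (Lpr_df (K38.f427509 IH) (Lpe (K27.f255976 IH) (Lpe (K39.f381683 IH) (Lpe (K31.f381672 IH) (Lpe (K27.f381973 IH) (Lpr_gt (K36.f423993 IH) (Lpr_dt (K39.f172496 IH) (Lpn (LP (LK LD1_c5 LD2_c42 LD3_c30))))))))))))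
theorem f80293 : Led Lsl_dt (LP (LK LD1_c3 LD2_c0 LD3_c44)) = (LP (LK LD1_c6 LD2_c8 LD3_c52)) :=
  Lre_d IH (LK LD1_c3 LD2_c0 LD3_c44) (LK LD1_c6 LD2_c8 LD3_c52) Lrfl Lrfl
def v1762 : LQ := Led Lsl_ct (LP (LK LD1_c1 LD2_c25 LD3_c50))
theorem f501327 : Led Lsl_ct (LP (LK LD1_c1 LD2_c25 LD3_c50)) = v1762 :=
  Lrfl
theorem f501329 : Led Lsl_cf (LP (LK LD1_c1 LD2_c25 LD3_c50)) = v1762 :=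
  Lgr Lrot11 (Lpr_ct (f501327 IH) (Lpn v1762))
theorem f558403 : Led Lsl_et (LP (LK LD1_c3 LD2_c0 LD3_c44)) = v1762 :=
  Lgr Lrot158 (Lpr_cf (f558398 IH) (Lpe (K36.f427511 IH) (Lpr_cf (f501329 IH) (Lpn v1762))))
theorem f289417 : Led Lsl_gt (LP (LK LD1_c2 LD2_c33 LD3_c5)) = (LP (LK LD1_c1 LD2_c13 LD3_c30)) :=
  Lre_g IH (LK LD1_c2 LD2_c33 LD3_c5) (LK LD1_c1 LD2_c13 LD3_c30) Lrfl Lrfl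
theorem f558412 : v1762 = (LP (LK LD1_c2 LD2_c33 LD3_c5)) :=
  (Llr Lrot121 (Lpe (f558403 IH) (Lpr_dt (f80293 IH) (Lpr_gf (f558406 IH) (Lpe (K39.f172496 IH) (Lpq (K39.f555923 IH) (Lpe (K39.f500760 IH) (Lpr_gf (K36.f500691 IH) (Lpe (K36.f500685 IH) (Lpr_dt (K27.f386717 IH) (Lpe (K28.f426240 IH) (Lpe (K28.f302651 IH) (Lpe (f289417 IH) (Lpn (LP (LK LD1_c2 LD2_c33 LD3_c5)))))))))))))))).symm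
theorem f427730 : Led Lsl_at (LP (LK LD1_c3 LD2_c0 LD3_c6)) = (LP (LK LD1_c1 LD2_c25 LD3_c50)) :=
  Lre_a IH (LK LD1_c3 LD2_c0 LD3_c6) (LK LD1_c1 LD2_c25 LD3_c50) Lrfl Lrfl
theorem f501328 : Led Lsl_af v1761 = v1762 :=
  Lgr Lrot68 (Lpe (f501325 IH) (Lpr_at (f427730 IH) (Lpr_ct (f501327 IH) (Lpn v1762))))
theorem f557504 : Led Lsl_ff v1762 = (LP (LK LD1_c2 LD2_c30 LD3_c32)) :=
  Lgr Lrot30 (Lpe (f501328 IH) (Lpr_ft (f501341 IH) (Lpr_at (f557497 IH) (Lpn (LP (LK LD1_c2 LD2_c30 LD3_c32))))))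
theorem f558420 : Led Lsl_bt (LP (LK LD1_c2 LD2_c33 LD3_c5)) = (LP (LK LD1_c5 LD2_c12 LD3_c29)) :=
  Lre_b IH (LK LD1_c2 LD2_c33 LD3_c5) (LK LD1_c5 LD2_c12 LD3_c29) Lrfl Lrfl
theorem f558421 : Led Lsl_ff (LP (LK LD1_c5 LD2_c6 LD3_c30)) = (LP (LK LD1_c5 LD2_c12 LD3_c29)) :=
  Lgr Lrot25 (Lpr_bt (f205138 IH) (Lpe (f557504 IH) (Lpqs (f558412 IH) (Lpr_bt (f558420 IH) (Lpn (LP (LK LD1_c5 LD2_c12 LD3_c29)))))))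
theorem f55991 : Led Lsl_bt (LP (LK LD1_c3 LD2_c0 LD3_c10)) = (LP (LK LD1_c1 LD2_c25 LD3_c51)) :=
  Lre_b IH (LK LD1_c3 LD2_c0 LD3_c10) (LK LD1_c1 LD2_c25 LD3_c51) Lrfl Lrfl
theorem f557500 : Led Lsl_af (LP (LK LD1_c3 LD2_c0 LD3_c10)) = (LP (LK LD1_c5 LD2_c6 LD3_c30)) :=
  Lgr Lrot36 (Lpr_bt (f55991 IH) (Lpr_at (f427755 IH) (Lpr_bt (f501340 IH) (Lpr_at (f557497 IH) (Lpr_bt (f557499 IH) (Lpn (LP (LK LD1_c5 LD2_c6 LD3_c30))))))))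
theorem f558425 : Led Lsl_gf (LP (LK LD1_c5 LD2_c37 LD3_c57)) = (LP (LK LD1_c5 LD2_c12 LD3_c29)) :=
  Lgr Lrot47 (Lpe (f557537 IH) (Lpr_af (f557500 IH) (Lpr_ff (f558421 IH) (Lpn (LP (LK LD1_c5 LD2_c12 LD3_c29))))))
theorem f548397 : Led Lsl_at (LP (LK LD1_c6 LD2_c7 LD3_c27)) = (LP (LK LD1_c5 LD2_c37 LD3_c57)) :=
  Lgr Lrot107 (Lpe (K38.f56011 IH) (Lpr_af (K38.f548389 IH) (Lpe (K38.f548374 IH) (Lpn (LP (LK LD1_c5 LD2_c37 LD3_c57))))))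
theorem f548405 : Led Lsl_ff (LP (LK LD1_c6 LD2_c7 LD3_c27)) = (LP (LK LD1_c4 LD2_c34 LD3_c22)) :=
  Lgr Lrot23 (Lpr_ct (f422750 IH) (Lpr_ft (K38.f548401 IH) (Lpr_ct (K5.f36547 IH) (Lpn (LP (LK LD1_c4 LD2_c34 LD3_c22))))))
theorem f558427 : Led Lsl_gt (LP (LK LD1_c4 LD2_c34 LD3_c22)) = (LP (LK LD1_c5 LD2_c12 LD3_c29)) :=
  Lgr Lrot5 (Lpe (f548405 IH) (Lpr_at (f548397 IH) (Lpr_gf (f558425 IH) (Lpn (LP (LK LD1_c5 LD2_c12 LD3_c29))))))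
theorem f117854 : Led Lsl_et (LP (LK LD1_c2 LD2_c14 LD3_c8)) = (LP (LK LD1_c4 LD2_c34 LD3_c22)) :=
  Lre_e IH (LK LD1_c2 LD2_c14 LD3_c8) (LK LD1_c4 LD2_c34 LD3_c22) Lrfl Lrfl
theorem f427306 : Led Lsl_gt (LP (LK LD1_c1 LD2_c21 LD3_c57)) = (LP (LK LD1_c1 LD2_c23 LD3_c28)) :=
  Lgr Lrot94 (Lpe (K7.f112937 IH) (Lpr_gt (K6.f8361 IH) (Lpr_dt (K7.f8355 IH) (Lpr_gt (K4.f22310 IH) (Lpr_dt (K4.f112929 IH) (Lpe (K5.f36537 IH) (Lpe (K5.f112202 IH) (Lpr_gf (K34.f427198 IH) (Lpe (K38.f426602 IH) (Lpn (LP (LK LD1_c1 LD2_c23 LD3_c28))))))))))))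
theorem f558429 : Led Lsl_et (LP (LK LD1_c5 LD2_c37 LD3_c54)) = (LP (LK LD1_c5 LD2_c12 LD3_c29)) :=
  Lgr Lrot122 (Lpr_dt (K39.f556126 IH) (Lpe (K39.f556132 IH) (Lpe (K31.f181292 IH) (Lpq (K36.f541384 IH) (Lpe (K36.f500195 IH) (Lpr_gt (f427306 IH) (Lpr_dt (K38.f426602 IH) (Lpe (K34.f427198 IH) (Lpe (K5.f112936 IH) (Lpr_et (f117854 IH) (Lpr_gt (f558427 IH) (Lpn (LP (LK LD1_c5 LD2_c12 LD3_c29))))))))))))))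
theorem f552475 : Led Lsl_cf (LP (LK LD1_c2 LD2_c49 LD3_c26)) = (LP (LK LD1_c4 LD2_c31 LD3_c3)) :=
  Lgr Lrot11 (Lpr_ct (K39.f552473 IH) (Lpn (LP (LK LD1_c4 LD2_c31 LD3_c3))))
theorem f382483 : Led Lsl_ct (LP (LK LD1_c5 LD2_c37 LD3_c54)) = (LP (LK LD1_c5 LD2_c37 LD3_c20)) :=
  Lre_c IH (LK LD1_c5 LD2_c37 LD3_c54) (LK LD1_c5 LD2_c37 LD3_c20) Lrfl Lrfl
theorem f553528 : Led Lsl_bf (LP (LK LD1_c3 LD2_c0 LD3_c44)) = (LP (LK LD1_c5 LD2_c37 LD3_c54)) :=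
  Lgr Lrot165 (Lpr_gt (f73176 IH) (Lpr_ct (K37.f72824 IH) (Lpr_gt (K39.f72486 IH) (Lpr_cf (f552475 IH) (Lpr_bt (K39.f211970 IH) (Lpr_gt (K39.f553520 IH) (Lpe (K39.f380278 IH) (Lpr_ct (K38.f380275 IH) (Lpe (K38.f423286 IH) (Lpe (f382483 IH) (Lpn (LP (LK LD1_c5 LD2_c37 LD3_c54)))))))))))))
theorem f553532 : Led Lsl_bt (LP (LK LD1_c3 LD2_c0 LD3_c44)) = (LP (LK LD1_c5 LD2_c37 LD3_c54)) :=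
  Lgr Lrot127 (Lpr_bf (f553528 IH) (Lpn (LP (LK LD1_c5 LD2_c37 LD3_c54))))
theorem f289418 : Led Lsl_bt (LP (LK LD1_c5 LD2_c12 LD3_c29)) = (LP (LK LD1_c2 LD2_c33 LD3_c5)) :=
  Lre_b IH (LK LD1_c5 LD2_c12 LD3_c29) (LK LD1_c2 LD2_c33 LD3_c5) Lrfl Lrfl
theorem f558431 : Led Lsl_ef (LP (LK LD1_c3 LD2_c0 LD3_c44)) = (LP (LK LD1_c2 LD2_c33 LD3_c5)) :=
  Lgr Lrot29 (Lpr_bt (f553532 IH) (Lpr_et (f558429 IH) (Lpr_bt (f289418 IH) (Lpn (LP (LK LD1_c2 LD2_c33 LD3_c5))))))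
theorem f427513 : Led Lsl_ff (LP (LK LD1_c3 LD2_c0 LD3_c8)) = (LP (LK LD1_c2 LD2_c44 LD3_c35)) :=
  Lgr Lrot19 (Lpr_dt (K32.f427505 IH) (Lpr_ft (K39.f383451 IH) (Lpe (K28.f383254 IH) (Lpn (LP (LK LD1_c2 LD2_c44 LD3_c35))))))
theorem f558404 : Led Lsl_ft (LP (LK LD1_c3 LD2_c0 LD3_c44)) = (LP (LK LD1_c5 LD2_c37 LD3_c18)) :=
  Lgr Lrot4 (Lpr_cf (f558398 IH) (Lpr_ff (f427513 IH) (Lpe (K36.f211955 IH) (Lpn (LP (LK LD1_c5 LD2_c37 LD3_c18))))))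
theorem f558437 : Led Lsl_ft (LP (LK LD1_c5 LD2_c49 LD3_c52)) = (LP (LK LD1_c5 LD2_c6 LD3_c31)) :=
  Lgr Lrot86 (Lpe (f557450 IH) (Lpe (f558404 IH) (Lpr_ef (f558431 IH) (Lpq (f558412 IH) (Lpr_ff (f557504 IH) (Lpe (K27.f22208 IH) (Lpn (LP (LK LD1_c5 LD2_c6 LD3_c31)))))))))
theorem f558445 : Led Lsl_ff (LP (LK LD1_c5 LD2_c49 LD3_c52)) = (LP (LK LD1_c5 LD2_c6 LD3_c31)) :=
  Lgr Lrot3 (Lpr_ft (f558437 IH) (Lpn (LP (LK LD1_c5 LD2_c6 LD3_c31))))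
theorem f556098 : Led Lsl_at (LP (LK LD1_c3 LD2_c0 LD3_c43)) = (LP (LK LD1_c5 LD2_c37 LD3_c18)) :=
  Lgr Lrot107 (Lpr_cf (K39.f556096 IH) (Lpe (K36.f383968 IH) (Lpe (K36.f211955 IH) (Lpn (LP (LK LD1_c5 LD2_c37 LD3_c18))))))
theorem f557452 : Led Lsl_af (LP (LK LD1_c6 LD2_c8 LD3_c51)) = (LP (LK LD1_c5 LD2_c49 LD3_c52)) :=
  Lgr Lrot50 (Lpr_et (K39.f442632 IH) (Lpr_at (f556098 IH) (Lpr_et (f557450 IH) (Lpn (LP (LK LD1_c5 LD2_c49 LD3_c52))))))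
theorem f558453 : Led Lsl_gf (LP (LK LD1_c5 LD2_c38 LD3_c45)) = (LP (LK LD1_c5 LD2_c6 LD3_c31)) :=
  Lgr Lrot47 (Lpe (K39.f556078 IH) (Lpr_af (f557452 IH) (Lpr_ff (f558445 IH) (Lpn (LP (LK LD1_c5 LD2_c6 LD3_c31))))))
def v1743 : LQ := Led Lsl_bt (LP (LK LD1_c1 LD2_c24 LD3_c47))
theorem f501232 : Led Lsl_bt (LP (LK LD1_c1 LD2_c24 LD3_c47)) = v1743 :=
  Lrfl
theorem f501233 : Led Lsl_bf (LP (LK LD1_c1 LD2_c24 LD3_c47)) = v1743 :=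
  Lgr Lrot24 (Lpr_bt (f501232 IH) (Lpn v1743))
def v2901 : LQ := Led Lsl_bt K35.v389
theorem f536130 : Led Lsl_bt K35.v389 = v2901 :=
  Lrfl
theorem f452589 : Led Lsl_et (LP (LK LD1_c1 LD2_c24 LD3_c47)) = K35.v389 :=
  Lgr Lrot121 (Lpr_dt (K11.f164293 IH) (Lpr_gf (K36.f172132 IH) (Lpe (K9.f100682 IH) (Lpr_et (K37.f100938 IH) (Lpe (K9.f172137 IH) (Lpe (K9.f172151 IH) (Lpr_dt (K9.f172152 IH) (Lpe (K9.f22415 IH) (Lpe (K9.f172153 IH) (Lpr_gf (K38.f452587 IH) (Lpn K35.v389)))))))))))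
theorem f536132 : Led Lsl_ef v1743 = v2901 :=
  Lgr Lrot29 (Lpe (f501233 IH) (Lpr_et (f452589 IH) (Lpr_bt (f536130 IH) (Lpn v2901))))
theorem f537381 : v2901 = (LP (LK LD1_c0 LD2_c28 LD3_c51)) :=
  Lefun (Lecon (f536130 IH) (K35.f537166 IH).symm) (K35.f211778 IH)
theorem f537776 : v1743 = (LP (LK LD1_c1 LD2_c3 LD3_c17)) :=
  Lefun (Lecon (Lfl_ef (f536132 IH)) (f537381 IH)) (K12.f174925 IH)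
theorem f20794 : Led Lsl_bt (LP (LK LD1_c2 LD2_c12 LD3_c35)) = (LP (LK LD1_c4 LD2_c31 LD3_c14)) :=
  Lre_b IH (LK LD1_c2 LD2_c12 LD3_c35) (LK LD1_c4 LD2_c31 LD3_c14) Lrfl Lrfl
theorem f427721 : Led Lsl_et (LP (LK LD1_c3 LD2_c0 LD3_c9)) = (LP (LK LD1_c6 LD2_c7 LD3_c53)) :=
  Lre_e IH (LK LD1_c3 LD2_c0 LD3_c9) (LK LD1_c6 LD2_c7 LD3_c53) Lrfl Lrfl
theorem f557508 : Led Lsl_ct (LP (LK LD1_c6 LD2_c7 LD3_c53)) = (LP (LK LD1_c5 LD2_c6 LD3_c31)) :=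
  Lgr Lrot15 (Lpe (f427721 IH) (Lpr_cf (f557502 IH) (Lpe (K27.f22208 IH) (Lpn (LP (LK LD1_c5 LD2_c6 LD3_c31))))))
theorem f558455 : Led Lsl_gt (LP (LK LD1_c4 LD2_c31 LD3_c14)) = (LP (LK LD1_c6 LD2_c7 LD3_c53)) :=
  Lgr Lrot82 (Lpe (f20794 IH) (Lpr_ct (K10.f20790 IH) (Lpe (K9.f20724 IH) (Lpe (K12.f20725 IH) (Lpq (f537776 IH) (Lpe (f501233 IH) (Lpr_gf (K11.f186144 IH) (Lpe (K39.f26695 IH) (Lpe (K39.f198493 IH) (Lpr_gf (f558453 IH) (Lpe (f557508 IH) (Lpn (LP (LK LD1_c6 LD2_c7 LD3_c53))))))))))))))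
theorem f20795 : Led Lsl_ef (LP (LK LD1_c2 LD2_c14 LD3_c0)) = (LP (LK LD1_c4 LD2_c31 LD3_c14)) :=
  Lgr Lrot29 (Lpr_bt (K37.f20793 IH) (Lpr_et (K10.f20791 IH) (Lpr_bt (f20794 IH) (Lpn (LP (LK LD1_c4 LD2_c31 LD3_c14))))))
theorem f20800 : Led Lsl_et (LP (LK LD1_c2 LD2_c14 LD3_c0)) = (LP (LK LD1_c4 LD2_c31 LD3_c14)) :=
  Lgr Lrot87 (Lpr_ef (f20795 IH) (Lpn (LP (LK LD1_c4 LD2_c31 LD3_c14))))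
theorem f20799 : Led Lsl_dt (LP (LK LD1_c2 LD2_c14 LD3_c0)) = (LP (LK LD1_c4 LD2_c34 LD3_c14)) :=
  Lre_d IH (LK LD1_c2 LD2_c14 LD3_c0) (LK LD1_c4 LD2_c34 LD3_c14) Lrfl Lrfl
theorem f427753 : Led Lsl_dt (LP (LK LD1_c3 LD2_c0 LD3_c9)) = (LP (LK LD1_c6 LD2_c7 LD3_c52)) :=
  Lre_d IH (LK LD1_c3 LD2_c0 LD3_c9) (LK LD1_c6 LD2_c7 LD3_c52) Lrfl Lrfl
theorem f558463 : Led Lsl_gf (LP (LK LD1_c4 LD2_c34 LD3_c14)) = (LP (LK LD1_c5 LD2_c43 LD3_c57)) :=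
  Lgr Lrot134 (Lpe (f20799 IH) (Lpr_et (f20800 IH) (Lpr_gt (f558455 IH) (Lpe (f427721 IH) (Lpr_dt (f427753 IH) (Lpe (K36.f539653 IH) (Lpe (K36.f426217 IH) (Lpr_et (K36.f539637 IH) (Lpr_gt (K36.f541766 IH) (Lpr_dt (K36.f541673 IH) (Lpn (LP (LK LD1_c5 LD2_c43 LD3_c57)))))))))))))
theorem f20797 : Led Lsl_dt (LP (LK LD1_c2 LD2_c14 LD3_c1)) = (LP (LK LD1_c1 LD2_c4 LD3_c2)) :=
  Lre_d IH (LK LD1_c2 LD2_c14 LD3_c1) (LK LD1_c1 LD2_c4 LD3_c2) Lrfl Lrfl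
theorem f450084 : Led Lsl_ft (LP (LK LD1_c1 LD2_c21 LD3_c33)) = (LP (LK LD1_c2 LD2_c14 LD3_c1)) :=
  Lgr Lrot54 (Lpe (K11.f146336 IH) (Lpr_ff (K37.f450080 IH) (Lpe (f20797 IH) (Lpn (LP (LK LD1_c2 LD2_c14 LD3_c1))))))
theorem f450088 : Led Lsl_bt (LP (LK LD1_c2 LD2_c14 LD3_c1)) = (LP (LK LD1_c4 LD2_c34 LD3_c14)) :=
  Lre_b IH (LK LD1_c2 LD2_c14 LD3_c1) (LK LD1_c4 LD2_c34 LD3_c14) Lrfl Lrfl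
theorem f450089 : Led Lsl_ff (LP (LK LD1_c2 LD2_c51 LD3_c1)) = (LP (LK LD1_c4 LD2_c34 LD3_c14)) :=
  Lgr Lrot25 (Lpr_bt (f176861 IH) (Lpr_ft (f450084 IH) (Lpr_bt (f450088 IH) (Lpn (LP (LK LD1_c4 LD2_c34 LD3_c14))))))
theorem f450092 : Led Lsl_ft (LP (LK LD1_c2 LD2_c51 LD3_c1)) = (LP (LK LD1_c4 LD2_c34 LD3_c14)) :=
  Lgr Lrot48 (Lpr_ff (f450089 IH) (Lpn (LP (LK LD1_c4 LD2_c34 LD3_c14))))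
theorem f558171 : Led Lsl_cf (LP (LK LD1_c4 LD2_c25 LD3_c44)) = (LP (LK LD1_c4 LD2_c34 LD3_c14)) :=
  Lgr Lrot108 (Lpr_ft (f558167 IH) (Lpr_ct (f396269 IH) (Lpr_ft (f450092 IH) (Lpn (LP (LK LD1_c4 LD2_c34 LD3_c14))))))
theorem f558284 : Led Lsl_cf (LP (LK LD1_c6 LD2_c17 LD3_c10)) = (LP (LK LD1_c8 LD2_c48 LD3_c16)) :=
  Lgr Lrot11 (Lpr_ct (f558280 IH) (Lpn (LP (LK LD1_c8 LD2_c48 LD3_c16))))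
theorem f557356 : Led Lsl_ct (LP (LK LD1_c4 LD2_c57 LD3_c9)) = (LP (LK LD1_c2 LD2_c26 LD3_c32)) :=
  Lre_c IH (LK LD1_c4 LD2_c57 LD3_c9) (LK LD1_c2 LD2_c26 LD3_c32) Lrfl Lrfl
theorem f558343 : Led Lsl_ct (LP (LK LD1_c4 LD2_c57 LD3_c14)) = (LP (LK LD1_c6 LD2_c25 LD3_c30)) :=
  Lgr Lrot15 (Lpe (f495244 IH) (Lpe (f557356 IH) (Lpr_ef (f558339 IH) (Lpn (LP (LK LD1_c6 LD2_c25 LD3_c30))))))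
theorem f558471 : Led Lsl_gf (LP (LK LD1_c4 LD2_c57 LD3_c14)) = (LP (LK LD1_c2 LD2_c30 LD3_c53)) :=
  Lgr Lrot104 (Lpr_ct (f558343 IH) (Lpe (f558293 IH) (Lpr_cf (f558284 IH) (Lpr_gf (f160719 IH) (Lpr_cf (f558171 IH) (Lpr_gf (f558463 IH) (Lpe (K36.f541673 IH) (Lpe (K36.f539664 IH) (Lpe (K35.f242750 IH) (Lpn (LP (LK LD1_c2 LD2_c30 LD3_c53))))))))))))
theorem f558270 : Led Lsl_gt (LP (LK LD1_c5 LD2_c43 LD3_c37)) = (LP (LK LD1_c5 LD2_c49 LD3_c48)) :=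
  Lgr Lrot187 (Lpe (K36.f541768 IH) (Lpe (K8.f70220 IH) (Lpr_dt (K8.f158601 IH) (Lpe (K8.f158212 IH) (Lpe (K7.f29333 IH) (Lpr_gt (K7.f37045 IH) (Lpr_ct (K8.f37047 IH) (Lpr_dt (f558266 IH) (Lpe (f421066 IH) (Lpn (LP (LK LD1_c5 LD2_c49 LD3_c48))))))))))))
theorem f171801 : Led Lsl_gt (LP (LK LD1_c2 LD2_c50 LD3_c37)) = (LP (LK LD1_c5 LD2_c49 LD3_c4)) :=
  Lre_g IH (LK LD1_c2 LD2_c50 LD3_c37) (LK LD1_c5 LD2_c49 LD3_c4) Lrfl Lrfl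
theorem f450123 : Led Lsl_gf (LP (LK LD1_c6 LD2_c17 LD3_c8)) = (LP (LK LD1_c5 LD2_c49 LD3_c4)) :=
  Lgr Lrot76 (Lpe (f450115 IH) (Lpr_ff (K37.f450113 IH) (Lpr_gt (f171801 IH) (Lpn (LP (LK LD1_c5 LD2_c49 LD3_c4))))))
theorem f558478 : Led Lsl_dt (LP (LK LD1_c4 LD2_c57 LD3_c14)) = (LP (LK LD1_c5 LD2_c49 LD3_c4)) :=
  Lgr Lrot57 (Lpr_gf (f558471 IH) (Lpr_cf (K35.f242750 IH) (Lpr_gt (K36.f539662 IH) (Lpr_dt (K36.f381697 IH) (Lpr_gt (f558270 IH) (Lpr_dt (f421061 IH) (Lpr_cf (f421023 IH) (Lpe (f421064 IH) (Lpr_gf (f450123 IH) (Lpn (LP (LK LD1_c5 LD2_c49 LD3_c4))))))))))))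
theorem f556075 : Led Lsl_et (LP (LK LD1_c4 LD2_c7 LD3_c12)) = (LP (LK LD1_c8 LD2_c14 LD3_c49)) :=
  Lre_e IH (LK LD1_c4 LD2_c7 LD3_c12) (LK LD1_c8 LD2_c14 LD3_c49) Lrfl Lrfl
theorem f165699 : Led Lsl_gt (LP (LK LD1_c5 LD2_c7 LD3_c4)) = (LP (LK LD1_c2 LD2_c30 LD3_c52)) :=
  Lre_g IH (LK LD1_c5 LD2_c7 LD3_c4) (LK LD1_c2 LD2_c30 LD3_c52) Lrfl Lrfl
theorem f558482 : Led Lsl_dt (LP (LK LD1_c4 LD2_c7 LD3_c12)) = (LP (LK LD1_c5 LD2_c7 LD3_c4)) :=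
  Lgr Lrot136 (Lpr_et (f556075 IH) (Lpr_gf (K39.f556073 IH) (Lpe (K39.f421057 IH) (Lpr_dt (f421063 IH) (Lpr_gf (f450123 IH) (Lpe (f558478 IH) (Lpr_gf (f558471 IH) (Lpe (K39.f68560 IH) (Lpr_dt (K39.f68565 IH) (Lpe (f165699 IH) (Lpn (LP (LK LD1_c5 LD2_c7 LD3_c4)))))))))))))
theorem f69330 : Led Lsl_dt (LP (LK LD1_c0 LD2_c29 LD3_c29)) = (LP (LK LD1_c1 LD2_c4 LD3_c28)) :=
  Lre_d IH (LK LD1_c0 LD2_c29 LD3_c29) (LK LD1_c1 LD2_c4 LD3_c28) Lrfl Lrfl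
theorem f69331 : Led Lsl_gt (LP (LK LD1_c1 LD2_c4 LD3_c28)) = (LP (LK LD1_c2 LD2_c14 LD3_c43)) :=
  Lre_g IH (LK LD1_c1 LD2_c4 LD3_c28) (LK LD1_c2 LD2_c14 LD3_c43) Lrfl Lrfl
theorem f211676 : Led Lsl_ct (LP (LK LD1_c2 LD2_c12 LD3_c33)) = (LP (LK LD1_c1 LD2_c10 LD3_c20)) :=
  Lgr Lrot59 (Lpr_cf (K12.f211671 IH) (Lpn (LP (LK LD1_c1 LD2_c10 LD3_c20))))
theorem f227459 : Led Lsl_dt (LP (LK LD1_c2 LD2_c14 LD3_c43)) = (LP (LK LD1_c2 LD2_c12 LD3_c33)) :=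
  Lgr Lrot105 (Lpe (f69331 IH) (Lpe (f69330 IH) (Lpe (K9.f20324 IH) (Lpr_cf (K12.f227453 IH) (Lpr_gt (K10.f59524 IH) (Lpe (K10.f37703 IH) (Lpr_gt (K10.f37720 IH) (Lpr_dt (K10.f179902 IH) (Lpe (f211676 IH) (Lpn (LP (LK LD1_c2 LD2_c12 LD3_c33))))))))))))
theorem f418592 : Led Lsl_bt (LP (LK LD1_c4 LD2_c35 LD3_c9)) = (LP (LK LD1_c2 LD2_c14 LD3_c43)) :=
  Lre_b IH (LK LD1_c4 LD2_c35 LD3_c9) (LK LD1_c2 LD2_c14 LD3_c43) Lrfl Lrfl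
theorem f418593 : Led Lsl_df (LP (LK LD1_c4 LD2_c35 LD3_c9)) = (LP (LK LD1_c4 LD2_c31 LD3_c13)) :=
  Lgr Lrot12 (Lpr_bt (f418592 IH) (Lpr_dt (f227459 IH) (Lpr_bt (K39.f211673 IH) (Lpn (LP (LK LD1_c4 LD2_c31 LD3_c13))))))
theorem f387287 : Led Lsl_gf (LP (LK LD1_c5 LD2_c7 LD3_c4)) = (LP (LK LD1_c5 LD2_c14 LD3_c12)) :=
  Lgr Lrot47 (Lpr_gt (f165699 IH) (Lpe (K39.f387141 IH) (Lpr_ff (K39.f387149 IH) (Lpn (LP (LK LD1_c5 LD2_c14 LD3_c12))))))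
theorem f539812 : Led Lsl_et (LP (LK LD1_c4 LD2_c35 LD3_c4)) = (LP (LK LD1_c2 LD2_c27 LD3_c15)) :=
  Lgr Lrot87 (Lpr_ef (K36.f539804 IH) (Lpn (LP (LK LD1_c2 LD2_c27 LD3_c15))))
theorem f558491 : Led Lsl_gt (LP (LK LD1_c4 LD2_c35 LD3_c9)) = (LP (LK LD1_c9 LD2_c6 LD3_c54)) :=
  Lgr Lrot112 (Lpr_df (f418593 IH) (Lpr_et (K39.f211816 IH) (Lpe (K39.f556071 IH) (Lpe (f556075 IH) (Lpr_dt (f558482 IH) (Lpr_gf (f387287 IH) (Lpe (K39.f308071 IH) (Lpr_gf (K32.f427801 IH) (Lpe (f539812 IH) (Lpr_dt (K37.f211066 IH) (Lpn (LP (LK LD1_c9 LD2_c6 LD3_c54)))))))))))))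
theorem f418597 : Led Lsl_bt (LP (LK LD1_c2 LD2_c14 LD3_c43)) = (LP (LK LD1_c4 LD2_c35 LD3_c9)) :=
  Lre_b IH (LK LD1_c2 LD2_c14 LD3_c43) (LK LD1_c4 LD2_c35 LD3_c9) Lrfl Lrfl
def v442 : LQ := Led Lsl_ct (LP (LK LD1_c0 LD2_c38 LD3_c34))
def v3019 : LQ := Led Lsl_gt v442
theorem f536506 : Led Lsl_gt v442 = v3019 :=
  Lrfl
theorem f452851 : Led Lsl_ct (LP (LK LD1_c0 LD2_c38 LD3_c34)) = v442 :=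
  Lrfl
theorem f23851 : Led Lsl_dt (LP (LK LD1_c0 LD2_c38 LD3_c34)) = (LP (LK LD1_c0 LD2_c17 LD3_c10)) :=
  Lre_d IH (LK LD1_c0 LD2_c38 LD3_c34) (LK LD1_c0 LD2_c17 LD3_c10) Lrfl Lrfl
theorem f452844 : Led Lsl_dt (LP (LK LD1_c1 LD2_c18 LD3_c56)) = K35.v441 :=
  Lgr Lrot57 (Lpr_gf (K12.f179909 IH) (Lpe (K12.f179896 IH) (Lpe (K10.f186467 IH) (Lpr_dt (K10.f186475 IH) (Lpr_gt (K10.f59524 IH) (Lpe (K10.f37703 IH) (Lpr_cf (K2.f37925 IH) (Lpe (f23851 IH) (Lpr_gf (K35.f452841 IH) (Lpn K35.v441))))))))))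
theorem f452848 : Led Lsl_df (LP (LK LD1_c1 LD2_c18 LD3_c56)) = K35.v441 :=
  Lgr Lrot38 (Lpr_dt (f452844 IH) (Lpn K35.v441))
theorem f418595 : Led Lsl_df (LP (LK LD1_c2 LD2_c14 LD3_c43)) = (LP (LK LD1_c2 LD2_c12 LD3_c33)) :=
  Lgr Lrot38 (Lpr_dt (f227459 IH) (Lpn (LP (LK LD1_c2 LD2_c12 LD3_c33))))
theorem f536507 : Led Lsl_cf (LP (LK LD1_c2 LD2_c14 LD3_c43)) = v3019 :=
  Lgr Lrot99 (Lpr_df (f418595 IH) (Lpr_cf (K12.f211671 IH) (Lpe (K11.f183223 IH) (Lpr_cf (K11.f177796 IH) (Lpr_gf (K12.f227552 IH) (Lpr_df (f452848 IH) (Lpe (K35.f452841 IH) (Lpr_ct (f452851 IH) (Lpr_gt (f536506 IH) (Lpn v3019))))))))))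
theorem f536509 : Led Lsl_ct (LP (LK LD1_c2 LD2_c14 LD3_c43)) = v3019 :=
  Lgr Lrot59 (Lpr_cf (f536507 IH) (Lpn v3019))
theorem f71987 : Led Lsl_bt (LP (LK LD1_c0 LD2_c38 LD3_c34)) = (LP (LK LD1_c1 LD2_c23 LD3_c19)) :=
  Lre_b IH (LK LD1_c0 LD2_c38 LD3_c34) (LK LD1_c1 LD2_c23 LD3_c19) Lrfl Lrfl
theorem f82179 : Led Lsl_gt (LP (LK LD1_c2 LD2_c54 LD3_c50)) = (LP (LK LD1_c1 LD2_c23 LD3_c19)) :=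
  Lre_g IH (LK LD1_c2 LD2_c54 LD3_c50) (LK LD1_c1 LD2_c23 LD3_c19) Lrfl Lrfl
theorem f82180 : Led Lsl_bt (LP (LK LD1_c5 LD2_c57 LD3_c6)) = (LP (LK LD1_c2 LD2_c54 LD3_c50)) :=
  Lre_b IH (LK LD1_c5 LD2_c57 LD3_c6) (LK LD1_c2 LD2_c54 LD3_c50) Lrfl Lrfl
theorem f545792 : Led Lsl_gt (LP (LK LD1_c9 LD2_c48 LD3_c44)) = (LP (LK LD1_c4 LD2_c59 LD3_c8)) :=
  Lre_g IH (LK LD1_c9 LD2_c48 LD3_c44) (LK LD1_c4 LD2_c59 LD3_c8) Lrfl Lrfl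
theorem f545793 : Led Lsl_gf (LP (LK LD1_c9 LD2_c48 LD3_c44)) = (LP (LK LD1_c16 LD2_c59 LD3_c5)) :=
  Lgr Lrot47 (Lpr_gt (f545792 IH) (Lpe (K37.f545766 IH) (Lpr_ff (K37.f545767 IH) (Lpn (LP (LK LD1_c16 LD2_c59 LD3_c5))))))
theorem f558497 : Led Lsl_ct (LP (LK LD1_c5 LD2_c57 LD3_c6)) = (LP (LK LD1_c9 LD2_c48 LD3_c44)) :=
  Lgr Lrot63 (Lpr_bt (f82180 IH) (Lpr_gt (f82179 IH) (Lpe (f71987 IH) (Lpr_ct (f452851 IH) (Lpr_gt (f536506 IH) (Lpe (f536509 IH) (Lpr_bt (f418597 IH) (Lpr_gt (f558491 IH) (Lpr_ct (K37.f211067 IH) (Lpe (f545793 IH) (Lpn (LP (LK LD1_c9 LD2_c48 LD3_c44)))))))))))))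
theorem f101721 : Led Lsl_ct (LP (LK LD1_c2 LD2_c27 LD3_c23)) = (LP (LK LD1_c1 LD2_c10 LD3_c56)) :=
  Lre_c IH (LK LD1_c2 LD2_c27 LD3_c23) (LK LD1_c1 LD2_c10 LD3_c56) Lrfl Lrfl
theorem f558506 : Led Lsl_gf (LP (LK LD1_c5 LD2_c57 LD3_c6)) = (LP (LK LD1_c2 LD2_c56 LD3_c54)) :=
  Lgr Lrot147 (Lpr_ct (f558497 IH) (Lpr_gt (f545792 IH) (Lpr_ct (K37.f539893 IH) (Lpe (K37.f72505 IH) (Lpe (f101721 IH) (Lpq (K36.f539786 IH) (Lpe (K36.f495288 IH) (Lpe (K36.f101557 IH) (Lpe (K36.f101563 IH) (Lpe (K36.f495291 IH) (Lpn (LP (LK LD1_c2 LD2_c56 LD3_c54)))))))))))))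
theorem f558514 : Led Lsl_gt (LP (LK LD1_c5 LD2_c57 LD3_c6)) = (LP (LK LD1_c2 LD2_c56 LD3_c55)) :=
  Lgr Lrot46 (Lpr_gf (f558506 IH) (Lpe (K36.f539429 IH) (Lpr_at (K36.f539439 IH) (Lpn (LP (LK LD1_c2 LD2_c56 LD3_c55))))))
theorem f426067 : Led Lsl_gt (LP (LK LD1_c1 LD2_c23 LD3_c39)) = (LP (LK LD1_c1 LD2_c23 LD3_c31)) :=
  Lgr Lrot46 (Lpr_gf (K24.f426059 IH) (Lpr_ft (K8.f163148 IH) (Lpr_at (K39.f424631 IH) (Lpn (LP (LK LD1_c1 LD2_c23 LD3_c31))))))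
theorem f556092 : Led Lsl_df (LP (LK LD1_c3 LD2_c0 LD3_c43)) = (LP (LK LD1_c2 LD2_c48 LD3_c3)) :=
  Lgr Lrot38 (Lpr_dt (K39.f556086 IH) (Lpn (LP (LK LD1_c2 LD2_c48 LD3_c3))))
theorem f556104 : Led Lsl_gf (LP (LK LD1_c2 LD2_c48 LD3_c3)) = (LP (LK LD1_c5 LD2_c41 LD3_c0)) :=
  Lgr Lrot143 (Lpe (f556092 IH) (Lpr_cf (K39.f556096 IH) (Lpe (K27.f383970 IH) (Lpe (K39.f382408 IH) (Lpe (K32.f381718 IH) (Lpe (K27.f381676 IH) (Lpe (K31.f381686 IH) (Lpr_gt (K30.f495860 IH) (Lpqs (K39.f555957 IH) (Lpr_dt (K39.f549438 IH) (Lpn (LP (LK LD1_c5 LD2_c41 LD3_c0)))))))))))))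
theorem f558519 : Led Lsl_df (LP (LK LD1_c5 LD2_c57 LD3_c6)) = (LP (LK LD1_c5 LD2_c49 LD3_c49)) :=
  Lgr Lrot135 (Lpr_gt (f558514 IH) (Lpe (K36.f383266 IH) (Lpr_et (K38.f500923 IH) (Lpq (K38.f539254 IH) (Lpr_gt (f426067 IH) (Lpr_ef (K39.f500623 IH) (Lpq (K39.f549439 IH) (Lpr_dt (K39.f549438 IH) (Lpe (f556104 IH) (Lpe (K39.f556086 IH) (Lpr_et (K39.f442638 IH) (Lpr_gt (K39.f556076 IH) (Lpn (LP (LK LD1_c5 LD2_c49 LD3_c49)))))))))))))))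
theorem f421056 : Led Lsl_et (LP (LK LD1_c5 LD2_c49 LD3_c49)) = (LP (LK LD1_c2 LD2_c51 LD3_c0)) :=
  Lre_e IH (LK LD1_c5 LD2_c49 LD3_c49) (LK LD1_c2 LD2_c51 LD3_c0) Lrfl Lrfl
theorem f448975 : Led Lsl_et (LP (LK LD1_c0 LD2_c17 LD3_c15)) = (LP (LK LD1_c0 LD2_c38 LD3_c52)) :=
  Lre_e IH (LK LD1_c0 LD2_c17 LD3_c15) (LK LD1_c0 LD2_c38 LD3_c52) Lrfl Lrfl
theorem f452866 : Led Lsl_et (LP (LK LD1_c1 LD2_c26 LD3_c0)) = (LP (LK LD1_c3 LD2_c0 LD3_c30)) :=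
  Lre_e IH (LK LD1_c1 LD2_c26 LD3_c0) (LK LD1_c3 LD2_c0 LD3_c30) Lrfl Lrfl
theorem f558530 : Led Lsl_gf (LP (LK LD1_c3 LD2_c0 LD3_c30)) = (LP (LK LD1_c2 LD2_c51 LD3_c0)) :=
  Lgr Lrot141 (Lpe (f452866 IH) (Lpqs (K36.f501363 IH) (Lpe (K36.f452955 IH) (Lpr_gt (K3.f26571 IH) (Lpe (K36.f58886 IH) (Lpr_et (f448975 IH) (Lpr_gt (K36.f9394 IH) (Lpr_dt (K36.f9395 IH) (Lpe (f558506 IH) (Lpr_df (f558519 IH) (Lpr_et (f421056 IH) (Lpn (LP (LK LD1_c2 LD2_c51 LD3_c0))))))))))))))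
theorem f452867 : Led Lsl_dt (LP (LK LD1_c3 LD2_c0 LD3_c30)) = (LP (LK LD1_c6 LD2_c8 LD3_c32)) :=
  Lre_d IH (LK LD1_c3 LD2_c0 LD3_c30) (LK LD1_c6 LD2_c8 LD3_c32) Lrfl Lrfl
theorem f558532 : Led Lsl_gf (LP (LK LD1_c4 LD2_c41 LD3_c32)) = (LP (LK LD1_c6 LD2_c8 LD3_c32)) :=
  Lgr Lrot134 (Lpr_df (K36.f176919 IH) (Lpe (K18.f176978 IH) (Lpqs (K36.f539678 IH) (Lpe (K36.f500655 IH) (Lpqs (f539236 IH) (Lpe (f500899 IH) (Lpr_dt (K36.f9395 IH) (Lpe (f558506 IH) (Lpr_df (f558519 IH) (Lpr_et (f421056 IH) (Lpe (f558530 IH) (Lpr_dt (f452867 IH) (Lpn (LP (LK LD1_c6 LD2_c8 LD3_c32)))))))))))))))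
theorem f428100 : Led Lsl_af (LP (LK LD1_c4 LD2_c41 LD3_c32)) = (LP (LK LD1_c6 LD2_c8 LD3_c34)) :=
  Lgr Lrot0 (Lpr_at (K36.f428098 IH) (Lpn (LP (LK LD1_c6 LD2_c8 LD3_c34))))
theorem f541808 : Led Lsl_cf (LP (LK LD1_c4 LD2_c26 LD3_c10)) = (LP (LK LD1_c4 LD2_c41 LD3_c32)) :=
  Lgr Lrot1 (Lpr_at (K36.f80243 IH) (Lpr_ct (K36.f541806 IH) (Lpe (f428100 IH) (Lpn (LP (LK LD1_c4 LD2_c41 LD3_c32))))))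
theorem f138754 : Led Lsl_dt (LP (LK LD1_c8 LD2_c48 LD3_c4)) = (LP (LK LD1_c4 LD2_c25 LD3_c16)) :=
  Lre_d IH (LK LD1_c8 LD2_c48 LD3_c4) (LK LD1_c4 LD2_c25 LD3_c16) Lrfl Lrfl
theorem f206065 : Led Lsl_cf (LP (LK LD1_c6 LD2_c13 LD3_c45)) = (LP (LK LD1_c9 LD2_c14 LD3_c47)) :=
  Lgr Lrot11 (Lpr_ct (f206062 IH) (Lpn (LP (LK LD1_c9 LD2_c14 LD3_c47))))
theorem f425873 : Led Lsl_gt (LP (LK LD1_c6 LD2_c13 LD3_c45)) = (LP (LK LD1_c6 LD2_c14 LD3_c8)) :=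
  Lgr Lrot149 (Lpr_cf (f206065 IH) (Lpe (f206068 IH) (Lpr_bf (K36.f425871 IH) (Lpe (K32.f425851 IH) (Lpe (K8.f160877 IH) (Lpe (K5.f117813 IH) (Lpr_bt (K8.f117615 IH) (Lpe (K8.f138553 IH) (Lpe (K36.f80624 IH) (Lpr_ct (K36.f80626 IH) (Lpn (LP (LK LD1_c6 LD2_c14 LD3_c8)))))))))))))
theorem f548815 : Led Lsl_gf (LP (LK LD1_c8 LD2_c48 LD3_c4)) = (LP (LK LD1_c4 LD2_c26 LD3_c10)) :=
  Lgr Lrot143 (Lpr_dt (f138754 IH) (Lpe (K6.f138752 IH) (Lpe (K38.f548799 IH) (Lpr_gf (K38.f548813 IH) (Lpr_df (K36.f499051 IH) (Lpe (f425873 IH) (Lpr_cf (f206065 IH) (Lpr_gt (f70234 IH) (Lpr_dt (K36.f80235 IH) (Lpn (LP (LK LD1_c4 LD2_c26 LD3_c10))))))))))))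
theorem f541832 : Led Lsl_cf (LP (LK LD1_c8 LD2_c48 LD3_c4)) = (LP (LK LD1_c6 LD2_c4 LD3_c15)) :=
  Lgr Lrot99 (Lpe (K38.f138775 IH) (Lpe (K6.f138752 IH) (Lpe (K6.f69483 IH) (Lpe (K6.f29501 IH) (Lpe (K6.f29498 IH) (Lpe (f29493 IH) (Lpr_gt (K36.f30718 IH) (Lpr_ct (K36.f541826 IH) (Lpr_gt (K32.f428070 IH) (Lpn (LP (LK LD1_c6 LD2_c4 LD3_c15))))))))))))
theorem f548749 : Led Lsl_gf (LP (LK LD1_c10 LD2_c5 LD3_c29)) = (LP (LK LD1_c11 LD2_c51 LD3_c59)) :=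
  Lgr Lrot47 (Lpe (K37.f387122 IH) (Lpr_af (K36.f498347 IH) (Lpr_ff (K38.f548743 IH) (Lpn (LP (LK LD1_c11 LD2_c51 LD3_c59))))))
theorem f206051 : Led Lsl_ct (LP (LK LD1_c5 LD2_c7 LD3_c43)) = (LP (LK LD1_c10 LD2_c5 LD3_c43)) :=
  Lre_c IH (LK LD1_c5 LD2_c7 LD3_c43) (LK LD1_c10 LD2_c5 LD3_c43) Lrfl Lrfl
theorem f558540 : Led Lsl_cf (LP (LK LD1_c12 LD2_c22 LD3_c56)) = (LP (LK LD1_c11 LD2_c25 LD3_c18)) :=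
  Lgr Lrot58 (Lpr_gf (K37.f544163 IH) (Lpe (f206051 IH) (Lpr_bt (K37.f387125 IH) (Lpr_gf (f548749 IH) (Lpe (K8.f75486 IH) (Lpe (f541832 IH) (Lpr_gf (f548815 IH) (Lpr_cf (f541808 IH) (Lpr_gf (f558532 IH) (Lpr_bf (f502622 IH) (Lpn (LP (LK LD1_c11 LD2_c25 LD3_c18)))))))))))))
theorem f558712 : Led Lsl_ff (LP (LK LD1_c11 LD2_c26 LD3_c57)) = (LP (LK LD1_c12 LD2_c22 LD3_c56)) :=
  Lgr Lrot23 (Lpe (f557411 IH) (Lpr_ft (f558708 IH) (Lpe (f558540 IH) (Lpn (LP (LK LD1_c12 LD2_c22 LD3_c56))))))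
theorem f558720 : Led Lsl_at (LP (LK LD1_c11 LD2_c26 LD3_c57)) = (LP (LK LD1_c12 LD2_c22 LD3_c56)) :=
  Lgr Lrot26 (Lpr_ff (f558712 IH) (Lpr_gt (K37.f544153 IH) (Lpe (K37.f544163 IH) (Lpn (LP (LK LD1_c12 LD2_c22 LD3_c56))))))
theorem f445796 : Led Lsl_ft (LP (LK LD1_c3 LD2_c42 LD3_c14)) = (LP (LK LD1_c3 LD2_c40 LD3_c6)) :=
  Lgr Lrot48 (Lpr_ff (K39.f445790 IH) (Lpn (LP (LK LD1_c3 LD2_c40 LD3_c6))))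
theorem f445800 : Led Lsl_ff (LP (LK LD1_c7 LD2_c25 LD3_c8)) = (LP (LK LD1_c7 LD2_c20 LD3_c19)) :=
  Lgr Lrot25 (Lpr_bt (K36.f108120 IH) (Lpr_ft (f445796 IH) (Lpr_bt (K39.f203654 IH) (Lpn (LP (LK LD1_c7 LD2_c20 LD3_c19))))))
theorem f445803 : Led Lsl_at (LP (LK LD1_c7 LD2_c25 LD3_c8)) = (LP (LK LD1_c7 LD2_c20 LD3_c19)) :=
  Lgr Lrot26 (Lpr_ff (f445800 IH) (Lpr_gt (K39.f203667 IH) (Lpr_gt (K36.f203661 IH) (Lpn (LP (LK LD1_c7 LD2_c20 LD3_c19))))))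
theorem f558728 : Led Lsl_df (LP (LK LD1_c11 LD2_c26 LD3_c57)) = (LP (LK LD1_c7 LD2_c20 LD3_c19)) :=
  Lgr Lrot18 (Lpr_at (f558720 IH) (Lpr_dt (K37.f544157 IH) (Lpr_at (f445803 IH) (Lpn (LP (LK LD1_c7 LD2_c20 LD3_c19))))))
theorem f557414 : Led Lsl_dt (LP (LK LD1_c11 LD2_c28 LD3_c12)) = (LP (LK LD1_c5 LD2_c49 LD3_c46)) :=
  Lre_d IH (LK LD1_c11 LD2_c28 LD3_c12) (LK LD1_c5 LD2_c49 LD3_c46) Lrfl Lrfl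
theorem f558730 : Led Lsl_ct (LP (LK LD1_c5 LD2_c49 LD3_c46)) = (LP (LK LD1_c5 LD2_c47 LD3_c47)) :=
  Lgr Lrot53 (Lpe (f557414 IH) (Lpr_cf (f557411 IH) (Lpr_df (f558728 IH) (Lpe (K36.f203655 IH) (Lpe (K37.f544157 IH) (Lpe (f558712 IH) (Lpr_at (f558720 IH) (Lpr_cf (f558540 IH) (Lpe (f132402 IH) (Lpn (LP (LK LD1_c5 LD2_c47 LD3_c47))))))))))))
theorem f421036 : Led Lsl_bt (LP (LK LD1_c5 LD2_c49 LD3_c46)) = (LP (LK LD1_c2 LD2_c50 LD3_c61)) :=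
  Lre_b IH (LK LD1_c5 LD2_c49 LD3_c46) (LK LD1_c2 LD2_c50 LD3_c61) Lrfl Lrfl
theorem f496079 : Led Lsl_bt (LP (LK LD1_c1 LD2_c21 LD3_c12)) = (LP (LK LD1_c2 LD2_c50 LD3_c22)) :=
  Lre_b IH (LK LD1_c1 LD2_c21 LD3_c12) (LK LD1_c2 LD2_c50 LD3_c22) Lrfl Lrfl
theorem f422776 : Led Lsl_ct (LP (LK LD1_c1 LD2_c21 LD3_c12)) = (LP (LK LD1_c2 LD2_c50 LD3_c23)) :=
  Lre_c IH (LK LD1_c1 LD2_c21 LD3_c12) (LK LD1_c2 LD2_c50 LD3_c23) Lrfl Lrfl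
theorem f558741 : Led Lsl_gt (LP (LK LD1_c2 LD2_c50 LD3_c23)) = (LP (LK LD1_c5 LD2_c47 LD3_c47)) :=
  Lgr Lrot65 (Lpe (f422776 IH) (Lpr_bt (f496079 IH) (Lpr_gf (f557381 IH) (Lpe (f548775 IH) (Lpe (f557370 IH) (Lpq (K38.f548772 IH) (Lpe (K38.f503210 IH) (Lpe (K37.f198477 IH) (Lpe (f421032 IH) (Lpe (f421036 IH) (Lpr_ct (f558730 IH) (Lpn (LP (LK LD1_c5 LD2_c47 LD3_c47))))))))))))))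
def v392 : LQ := Led Lsl_gf (LP (LK LD1_c0 LD2_c37 LD3_c29))
def v2908 : LQ := Led Lsl_ct v392
theorem f536146 : Led Lsl_ct v392 = v2908 :=
  Lrfl
theorem f496056 : Led Lsl_ff (LP (LK LD1_c1 LD2_c21 LD3_c7)) = K31.v1526 :=
  Lgr Lrot3 (Lpr_ft (K31.f496054 IH) (Lpn K31.v1526))
theorem f452603 : Led Lsl_gf (LP (LK LD1_c0 LD2_c37 LD3_c29)) = v392 :=
  Lrfl
theorem f496072 : Led Lsl_gf v392 = K31.v1526 :=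
  Lgr Lrot47 (Lpe (f452603 IH) (Lpe (K37.f422770 IH) (Lpr_ff (f496056 IH) (Lpn K31.v1526))))
theorem f496070 : Led Lsl_at K31.v393 = K31.v1526 :=
  Lgr Lrot66 (Lpe (K31.f452606 IH) (Lpe (K37.f422770 IH) (Lpr_ff (f496056 IH) (Lpn K31.v1526))))
theorem f537266 : K31.v1526 = (LP (LK LD1_c0 LD2_c37 LD3_c29)) :=
  Lefun (Lecon (f496070 IH) (K37.f537105 IH).symm) (K37.f422770 IH)
theorem f537664 : v392 = (LP (LK LD1_c1 LD2_c21 LD3_c12)) :=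
  Lefun (Lecon (Lfl_gf (f496072 IH)) (f537266 IH)) (f136310 IH)
theorem f537847 : v2908 = (LP (LK LD1_c2 LD2_c50 LD3_c23)) :=
  Lefun (Lecon (f536146 IH) (f537664 IH)) (f422776 IH)
theorem f536147 : Led Lsl_cf v392 = v2908 :=
  Lgr Lrot11 (Lpr_ct (f536146 IH) (Lpn v2908))
theorem f536148 : Led Lsl_bf (LP (LK LD1_c3 LD2_c5 LD3_c13)) = v2908 :=
  Lgr Lrot34 (Lpe (K35.f59056 IH) (Lpe (K38.f59055 IH) (Lpr_ct (K11.f59037 IH) (Lpe (K11.f205216 IH) (Lpr_cf (K11.f205222 IH) (Lpe (K11.f61333 IH) (Lpe (K31.f205226 IH) (Lpe (K31.f422768 IH) (Lpr_gf (f452603 IH) (Lpr_cf (f536147 IH) (Lpn v2908)))))))))))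
theorem f536149 : Led Lsl_bt (LP (LK LD1_c3 LD2_c5 LD3_c13)) = v2908 :=
  Lgr Lrot127 (Lpr_bf (f536148 IH) (Lpn v2908))
theorem f202281 : Led Lsl_ct (LP (LK LD1_c3 LD2_c5 LD3_c13)) = (LP (LK LD1_c6 LD2_c16 LD3_c15)) :=
  Lre_c IH (LK LD1_c3 LD2_c5 LD3_c13) (LK LD1_c6 LD2_c16 LD3_c15) Lrfl Lrfl
theorem f452872 : Led Lsl_et (LP (LK LD1_c3 LD2_c0 LD3_c30)) = (LP (LK LD1_c1 LD2_c26 LD3_c0)) :=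
  Lre_e IH (LK LD1_c3 LD2_c0 LD3_c30) (LK LD1_c1 LD2_c26 LD3_c0) Lrfl Lrfl
theorem f452956 : Led Lsl_cf (LP (LK LD1_c1 LD2_c26 LD3_c1)) = K36.v457 :=
  Lgr Lrot99 (Lpe (K32.f75524 IH) (Lpe (K28.f26420 IH) (Lpr_gf (K0.f26408 IH) (Lpe (K0.f26407 IH) (Lpe (K0.f26396 IH) (Lpe (K4.f80030 IH) (Lpe (K4.f72858 IH) (Lpr_ct (K36.f56285 IH) (Lpr_gt (K36.f452953 IH) (Lpn K36.v457))))))))))
theorem f502762 : Led Lsl_cf (LP (LK LD1_c3 LD2_c0 LD3_c30)) = (LP (LK LD1_c3 LD2_c0 LD3_c31)) :=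
  Lgr Lrot39 (Lpr_et (f452872 IH) (Lpqs (K36.f501363 IH) (Lpe (f452956 IH) (Lpr_et (K39.f75851 IH) (Lpn (LP (LK LD1_c3 LD2_c0 LD3_c31)))))))
theorem f502764 : Led Lsl_ct (LP (LK LD1_c3 LD2_c0 LD3_c30)) = (LP (LK LD1_c3 LD2_c0 LD3_c31)) :=
  Lgr Lrot59 (Lpr_cf (f502762 IH) (Lpn (LP (LK LD1_c3 LD2_c0 LD3_c31))))
theorem f499013 : Led Lsl_ft (LP (LK LD1_c4 LD2_c39 LD3_c34)) = (LP (LK LD1_c5 LD2_c46 LD3_c22)) :=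
  Lgr Lrot75 (Lpe (K36.f70424 IH) (Lpr_ff (K36.f499009 IH) (Lpe (K36.f60265 IH) (Lpn (LP (LK LD1_c5 LD2_c46 LD3_c22))))))
theorem f498296 : Led Lsl_ft (LP (LK LD1_c8 LD2_c45 LD3_c24)) = (LP (LK LD1_c6 LD2_c14 LD3_c8)) :=
  Lgr Lrot75 (Lpr_bf (K36.f425871 IH) (Lpr_ff (K32.f498294 IH) (Lpe (K36.f161813 IH) (Lpn (LP (LK LD1_c6 LD2_c14 LD3_c8))))))
theorem f499061 : Led Lsl_at (LP (LK LD1_c5 LD2_c46 LD3_c22)) = (LP (LK LD1_c8 LD2_c45 LD3_c24)) :=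
  Lgr Lrot66 (Lpe (f499013 IH) (Lpr_af (K36.f499057 IH) (Lpe (f498296 IH) (Lpn (LP (LK LD1_c8 LD2_c45 LD3_c24))))))
theorem f548832 : Led Lsl_ct (LP (LK LD1_c4 LD2_c26 LD3_c10)) = (LP (LK LD1_c4 LD2_c41 LD3_c32)) :=
  Lgr Lrot133 (Lpe (K36.f80235 IH) (Lpr_ft (f499013 IH) (Lpr_at (f499061 IH) (Lpe (K38.f59193 IH) (Lpr_df (K38.f548825 IH) (Lpe (K38.f176674 IH) (Lpe (f176644 IH) (Lpr_cf (f205113 IH) (Lpe (K18.f176928 IH) (Lpn (LP (LK LD1_c4 LD2_c41 LD3_c32))))))))))))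
theorem f146387 : Led Lsl_bt (LP (LK LD1_c1 LD2_c4 LD3_c1)) = (LP (LK LD1_c2 LD2_c13 LD3_c56)) :=
  Lre_b IH (LK LD1_c1 LD2_c4 LD3_c1) (LK LD1_c2 LD2_c13 LD3_c56) Lrfl Lrfl
theorem f548847 : Led Lsl_gf (LP (LK LD1_c6 LD2_c8 LD3_c33)) = (LP (LK LD1_c4 LD2_c41 LD3_c32)) :=
  Lgr Lrot181 (Lpe (K38.f541794 IH) (Lpr_gt (K38.f548834 IH) (Lpe (K38.f176674 IH) (Lpr_bt (K38.f176643 IH) (Lpr_gt (K38.f494262 IH) (Lpqs (K38.f536904 IH) (Lpe (f146387 IH) (Lpr_ct (K18.f68552 IH) (Lpr_gt (K18.f68553 IH) (Lpe (K18.f225443 IH) (Lpr_bt (K18.f176926 IH) (Lpn (LP (LK LD1_c4 LD2_c41 LD3_c32))))))))))))))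
theorem f558268 : Led Lsl_gt (LP (LK LD1_c3 LD2_c0 LD3_c31)) = (LP (LK LD1_c2 LD2_c51 LD3_c0)) :=
  Lgr Lrot49 (Lpe (K32.f75839 IH) (Lpr_gf (f548847 IH) (Lpe (f548832 IH) (Lpe (f548815 IH) (Lpr_dt (f138754 IH) (Lpe (f160948 IH) (Lpr_dt (f558266 IH) (Lpe (f421066 IH) (Lpe (f421065 IH) (Lpn (LP (LK LD1_c2 LD2_c51 LD3_c0))))))))))))
theorem f80635 : Led Lsl_ct (LP (LK LD1_c3 LD2_c4 LD3_c45)) = (LP (LK LD1_c6 LD2_c15 LD3_c20)) :=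
  Lre_c IH (LK LD1_c3 LD2_c4 LD3_c45) (LK LD1_c6 LD2_c15 LD3_c20) Lrfl Lrfl
theorem f558745 : Led Lsl_gf (LP (LK LD1_c6 LD2_c16 LD3_c15)) = (LP (LK LD1_c6 LD2_c15 LD3_c20)) :=
  Lgr Lrot129 (Lpe (f202281 IH) (Lpr_bt (f536149 IH) (Lpqs (f537847 IH) (Lpr_gt (f558741 IH) (Lpe (f502624 IH) (Lpr_ct (f502764 IH) (Lpr_gt (f558268 IH) (Lpr_cf (f421023 IH) (Lpr_bt (K38.f450157 IH) (Lpr_gt (K37.f503198 IH) (Lpq (K37.f546836 IH) (Lpr_ct (f80635 IH) (Lpn (LP (LK LD1_c6 LD2_c15 LD3_c20)))))))))))))))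
theorem f450212 : Led Lsl_dt (LP (LK LD1_c1 LD2_c28 LD3_c51)) = (LP (LK LD1_c3 LD2_c5 LD3_c40)) :=
  Lre_d IH (LK LD1_c1 LD2_c28 LD3_c51) (LK LD1_c3 LD2_c5 LD3_c40) Lrfl Lrfl
theorem f558747 : Led Lsl_dt (LP (LK LD1_c6 LD2_c16 LD3_c15)) = (LP (LK LD1_c7 LD2_c13 LD3_c24)) :=
  Lgr Lrot57 (Lpr_gf (f558745 IH) (Lpe (f80635 IH) (Lpqs (K37.f546836 IH) (Lpe (K37.f503197 IH) (Lpr_dt (f450212 IH) (Lpr_gt (K37.f450214 IH) (Lpe (K39.f546851 IH) (Lpr_cf (K37.f546854 IH) (Lpr_df (K37.f120272 IH) (Lpr_gf (K3.f88608 IH) (Lpn (LP (LK LD1_c7 LD2_c13 LD3_c24)))))))))))))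
theorem f204762 : Led Lsl_dt (LP (LK LD1_c6 LD2_c16 LD3_c16)) = (LP (LK LD1_c3 LD2_c5 LD3_c13)) :=
  Lre_d IH (LK LD1_c6 LD2_c16 LD3_c16) (LK LD1_c3 LD2_c5 LD3_c13) Lrfl Lrfl
theorem f128697 : Led Lsl_at (LP (LK LD1_c7 LD2_c34 LD3_c52)) = (LP (LK LD1_c4 LD2_c44 LD3_c43)) :=
  Lgr Lrot100 (Lpr_af (K5.f128690 IH) (Lpn (LP (LK LD1_c4 LD2_c44 LD3_c43))))
theorem f87315 : Led Lsl_dt (LP (LK LD1_c3 LD2_c49 LD3_c24)) = (LP (LK LD1_c7 LD2_c39 LD3_c39)) :=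
  Lre_d IH (LK LD1_c3 LD2_c49 LD3_c24) (LK LD1_c7 LD2_c39 LD3_c39) Lrfl Lrfl
theorem f558752 : Led Lsl_cf (LP (LK LD1_c6 LD2_c16 LD3_c16)) = (LP (LK LD1_c7 LD2_c39 LD3_c39)) :=
  Lgr Lrot118 (Lpr_dt (f204762 IH) (Lpr_ct (f202281 IH) (Lpr_dt (f558747 IH) (Lpe (K3.f88565 IH) (Lpe (K34.f111957 IH) (Lpr_ct (K8.f128601 IH) (Lpe (f128697 IH) (Lpr_ff (K5.f87906 IH) (Lpr_dt (f87315 IH) (Lpn (LP (LK LD1_c7 LD2_c39 LD3_c39))))))))))))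
theorem f419044 : Led Lsl_ct (LP (LK LD1_c6 LD2_c16 LD3_c15)) = (LP (LK LD1_c3 LD2_c5 LD3_c13)) :=
  Lre_c IH (LK LD1_c6 LD2_c16 LD3_c15) (LK LD1_c3 LD2_c5 LD3_c13) Lrfl Lrfl
theorem f450226 : Led Lsl_gt (LP (LK LD1_c6 LD2_c17 LD3_c3)) = (LP (LK LD1_c3 LD2_c5 LD3_c40)) :=
  Lre_g IH (LK LD1_c6 LD2_c17 LD3_c3) (LK LD1_c3 LD2_c5 LD3_c40) Lrfl Lrfl
theorem f450227 : Led Lsl_gf (LP (LK LD1_c6 LD2_c17 LD3_c3)) = (LP (LK LD1_c5 LD2_c49 LD3_c10)) :=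
  Lgr Lrot47 (Lpr_gt (f450226 IH) (Lpe (K37.f450206 IH) (Lpr_ff (K37.f450207 IH) (Lpn (LP (LK LD1_c5 LD2_c49 LD3_c10))))))
theorem f558761 : Led Lsl_ct (LP (LK LD1_c6 LD2_c17 LD3_c3)) = (LP (LK LD1_c9 LD2_c30 LD3_c16)) :=
  Lgr Lrot152 (Lpr_gf (f450227 IH) (Lpe (K37.f450219 IH) (Lpr_gt (K37.f503198 IH) (Lpq (K37.f546836 IH) (Lpr_ct (f80635 IH) (Lpe (f558745 IH) (Lpr_ct (f419044 IH) (Lpe (f204762 IH) (Lpr_cf (f558752 IH) (Lpe (K4.f120265 IH) (Lpn (LP (LK LD1_c9 LD2_c30 LD3_c16)))))))))))))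
theorem f103177 : Led Lsl_dt (LP (LK LD1_c9 LD2_c30 LD3_c16)) = (LP (LK LD1_c4 LD2_c48 LD3_c53)) :=
  Lre_d IH (LK LD1_c9 LD2_c30 LD3_c16) (LK LD1_c4 LD2_c48 LD3_c53) Lrfl Lrfl
theorem f501547 : Led Lsl_gt (LP (LK LD1_c7 LD2_c36 LD3_c13)) = (LP (LK LD1_c11 LD2_c44 LD3_c36)) :=
  Lgr Lrot5 (Lpr_ft (K32.f497618 IH) (Lpe (K32.f497655 IH) (Lpr_gf (K36.f501545 IH) (Lpn (LP (LK LD1_c11 LD2_c44 LD3_c36))))))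
theorem f502721 : Led Lsl_df (LP (LK LD1_c3 LD2_c49 LD3_c4)) = (LP (LK LD1_c7 LD2_c33 LD3_c46)) :=
  Lgr Lrot84 (Lpr_cf (K36.f145182 IH) (Lpr_df (K37.f501553 IH) (Lpe (f501547 IH) (Lpr_df (K36.f156665 IH) (Lpe (K36.f427184 IH) (Lpe (K38.f427164 IH) (Lpr_gt (K38.f92299 IH) (Lpr_dt (K3.f94546 IH) (Lpr_gt (K38.f98530 IH) (Lpn (LP (LK LD1_c7 LD2_c33 LD3_c46))))))))))))
theorem f502723 : Led Lsl_dt (LP (LK LD1_c3 LD2_c49 LD3_c4)) = (LP (LK LD1_c7 LD2_c33 LD3_c46)) :=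
  Lgr Lrot42 (Lpr_df (f502721 IH) (Lpn (LP (LK LD1_c7 LD2_c33 LD3_c46))))
theorem f558765 : Led Lsl_df (LP (LK LD1_c6 LD2_c17 LD3_c3)) = (LP (LK LD1_c5 LD2_c14 LD3_c6)) :=
  Lgr Lrot43 (Lpr_ct (f558761 IH) (Lpr_dt (f103177 IH) (Lpr_ct (K3.f103173 IH) (Lpr_dt (K3.f109399 IH) (Lpe (K3.f110227 IH) (Lpe (K37.f120272 IH) (Lpe (K37.f546854 IH) (Lpr_dt (K37.f546849 IH) (Lpe (K37.f546847 IH) (Lpr_dt (K37.f110378 IH) (Lpr_ct (K36.f110371 IH) (Lpe (K37.f501553 IH) (Lpe (K36.f145182 IH) (Lpr_dt (f502723 IH) (Lpe (K38.f548900 IH) (Lpn (LP (LK LD1_c5 LD2_c14 LD3_c6))))))))))))))))))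
theorem f301888 : Led Lsl_at (LP (LK LD1_c2 LD2_c46 LD3_c40)) = (LP (LK LD1_c5 LD2_c41 LD3_c15)) :=
  Lre_a IH (LK LD1_c2 LD2_c46 LD3_c40) (LK LD1_c5 LD2_c41 LD3_c15) Lrfl Lrfl
theorem f302032 : Led Lsl_ff (LP (LK LD1_c5 LD2_c13 LD3_c60)) = (LP (LK LD1_c5 LD2_c41 LD3_c15)) :=
  Lgr Lrot30 (Lpr_at (K36.f61368 IH) (Lpr_ft (K36.f302030 IH) (Lpr_at (f301888 IH) (Lpn (LP (LK LD1_c5 LD2_c41 LD3_c15))))))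
theorem f302060 : Led Lsl_gf (LP (LK LD1_c5 LD2_c14 LD3_c6)) = (LP (LK LD1_c5 LD2_c41 LD3_c15)) :=
  Lgr Lrot47 (Lpr_gt (K38.f61376 IH) (Lpe (K36.f61368 IH) (Lpr_ff (f302032 IH) (Lpn (LP (LK LD1_c5 LD2_c41 LD3_c15))))))
theorem f302050 : Led Lsl_df (LP (LK LD1_c9 LD2_c5 LD3_c41)) = (LP (LK LD1_c5 LD2_c41 LD3_c15)) :=
  Lgr Lrot18 (Lpr_at (K36.f301942 IH) (Lpr_dt (f302047 IH) (Lpr_at (f301888 IH) (Lpn (LP (LK LD1_c5 LD2_c41 LD3_c15))))))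
theorem f302056 : Led Lsl_dt (LP (LK LD1_c9 LD2_c5 LD3_c41)) = (LP (LK LD1_c5 LD2_c41 LD3_c15)) :=
  Lgr Lrot42 (Lpr_df (f302050 IH) (Lpn (LP (LK LD1_c5 LD2_c41 LD3_c15))))
theorem f421285 : Led Lsl_gf (LP (LK LD1_c9 LD2_c5 LD3_c41)) = (LP (LK LD1_c5 LD2_c47 LD3_c17)) :=
  Lgr Lrot76 (Lpe (K36.f301992 IH) (Lpe (K36.f301961 IH) (Lpr_gt (K38.f421283 IH) (Lpn (LP (LK LD1_c5 LD2_c47 LD3_c17))))))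
theorem f150002 : Led Lsl_ct (LP (LK LD1_c11 LD2_c24 LD3_c41)) = (LP (LK LD1_c5 LD2_c47 LD3_c17)) :=
  Lre_c IH (LK LD1_c11 LD2_c24 LD3_c41) (LK LD1_c5 LD2_c47 LD3_c17) Lrfl Lrfl
theorem f543906 : Led Lsl_dt (LP (LK LD1_c6 LD2_c16 LD3_c36)) = (LP (LK LD1_c9 LD2_c21 LD3_c55)) :=
  Lgr Lrot120 (Lpe (K37.f543905 IH) (Lpr_df (K37.f543900 IH) (Lpe (K37.f542937 IH) (Lpe (K3.f94546 IH) (Lpe (K7.f92364 IH) (Lpe (K34.f94483 IH) (Lpe (K3.f109891 IH) (Lpe (K3.f108991 IH) (Lpe (K3.f78106 IH) (Lpn (LP (LK LD1_c9 LD2_c21 LD3_c55))))))))))))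
theorem f558770 : Led Lsl_gt (LP (LK LD1_c11 LD2_c24 LD3_c41)) = (LP (LK LD1_c6 LD2_c16 LD3_c36)) :=
  Lgr Lrot180 (Lpr_ct (f150002 IH) (Lpe (f421285 IH) (Lpr_dt (f302056 IH) (Lpe (f302060 IH) (Lpe (f558765 IH) (Lpr_ct (f558761 IH) (Lpe (K4.f103174 IH) (Lpr_gf (K3.f103171 IH) (Lpe (f543906 IH) (Lpn (LP (LK LD1_c6 LD2_c16 LD3_c36))))))))))))
theorem f149995 : Led Lsl_ct (LP (LK LD1_c5 LD2_c47 LD3_c17)) = (LP (LK LD1_c11 LD2_c24 LD3_c41)) :=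
  Lre_c IH (LK LD1_c5 LD2_c47 LD3_c17) (LK LD1_c11 LD2_c24 LD3_c41) Lrfl Lrfl
theorem f61312 : Led Lsl_ct (LP (LK LD1_c2 LD2_c50 LD3_c50)) = (LP (LK LD1_c1 LD2_c21 LD3_c24)) :=
  Lre_c IH (LK LD1_c2 LD2_c50 LD3_c50) (LK LD1_c1 LD2_c21 LD3_c24) Lrfl Lrfl
theorem f269116 : Led Lsl_gf (LP (LK LD1_c2 LD2_c50 LD3_c50)) = (LP (LK LD1_c3 LD2_c5 LD3_c34)) :=
  Lgr Lrot104 (Lpr_ct (f61312 IH) (Lpe (K18.f61295 IH) (Lpr_cf (K16.f210592 IH) (Lpr_gf (K16.f269112 IH) (Lpr_cf (K39.f269106 IH) (Lpe (K24.f269108 IH) (Lpe (K11.f176912 IH) (Lpr_gt (K11.f204786 IH) (Lpr_ct (K11.f59053 IH) (Lpn (LP (LK LD1_c3 LD2_c5 LD3_c34))))))))))))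
theorem f202283 : Led Lsl_bt (LP (LK LD1_c1 LD2_c28 LD3_c47)) = (LP (LK LD1_c3 LD2_c5 LD3_c26)) :=
  Lre_b IH (LK LD1_c1 LD2_c28 LD3_c47) (LK LD1_c3 LD2_c5 LD3_c26) Lrfl Lrfl
theorem f558777 : Led Lsl_bf (LP (LK LD1_c6 LD2_c16 LD3_c18)) = (LP (LK LD1_c3 LD2_c5 LD3_c24)) :=
  Lgr Lrot156 (Lpr_gt (K39.f202273 IH) (Lpe (f202283 IH) (Lpr_ct (K11.f59053 IH) (Lpe (f269116 IH) (Lpe (f61301 IH) (Lpr_bt (K36.f61298 IH) (Lpr_gt (K38.f421283 IH) (Lpr_ct (f149995 IH) (Lpr_gt (f558770 IH) (Lpe (K37.f543905 IH) (Lpn (LP (LK LD1_c3 LD2_c5 LD3_c24)))))))))))))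
theorem f558783 : Led Lsl_et (LP (LK LD1_c6 LD2_c16 LD3_c18)) = (LP (LK LD1_c12 LD2_c9 LD3_c56)) :=
  Lre_e IH (LK LD1_c6 LD2_c16 LD3_c18) (LK LD1_c12 LD2_c9 LD3_c56) Lrfl Lrfl
theorem f420478 : Led Lsl_et (LP (LK LD1_c6 LD2_c16 LD3_c37)) = (LP (LK LD1_c3 LD2_c5 LD3_c24)) :=
  Lre_e IH (LK LD1_c6 LD2_c16 LD3_c37) (LK LD1_c3 LD2_c5 LD3_c24) Lrfl Lrfl
theorem f558784 : Led Lsl_bt (LP (LK LD1_c12 LD2_c9 LD3_c56)) = (LP (LK LD1_c6 LD2_c16 LD3_c37)) :=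
  Lgr Lrot119 (Lpe (f558783 IH) (Lpr_bf (f558777 IH) (Lpe (f420478 IH) (Lpn (LP (LK LD1_c6 LD2_c16 LD3_c37))))))
theorem f558786 : Led Lsl_bf (LP (LK LD1_c12 LD2_c9 LD3_c56)) = (LP (LK LD1_c6 LD2_c16 LD3_c37)) :=
  Lgr Lrot24 (Lpr_bt (f558784 IH) (Lpn (LP (LK LD1_c6 LD2_c16 LD3_c37))))
theorem f543921 : Led Lsl_ct (LP (LK LD1_c12 LD2_c10 LD3_c15)) = (LP (LK LD1_c6 LD2_c16 LD3_c37)) :=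
  Lre_c IH (LK LD1_c12 LD2_c10 LD3_c15) (LK LD1_c6 LD2_c16 LD3_c37) Lrfl Lrfl
theorem f103308 : Led Lsl_et (LP (LK LD1_c9 LD2_c16 LD3_c12)) = (LP (LK LD1_c17 LD2_c10 LD3_c47)) :=
  Lre_e IH (LK LD1_c9 LD2_c16 LD3_c12) (LK LD1_c17 LD2_c10 LD3_c47) Lrfl Lrfl
theorem f546751 : Led Lsl_et (LP (LK LD1_c12 LD2_c10 LD3_c15)) = (LP (LK LD1_c6 LD2_c16 LD3_c36)) :=
  Lre_e IH (LK LD1_c12 LD2_c10 LD3_c15) (LK LD1_c6 LD2_c16 LD3_c36) Lrfl Lrfl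
theorem f546752 : Led Lsl_bt (LP (LK LD1_c17 LD2_c10 LD3_c47)) = (LP (LK LD1_c12 LD2_c10 LD3_c15)) :=
  Lgr Lrot119 (Lpe (f103308 IH) (Lpr_bf (K37.f546747 IH) (Lpe (f546751 IH) (Lpn (LP (LK LD1_c12 LD2_c10 LD3_c15))))))
theorem f103020 : Led Lsl_et (LP (LK LD1_c4 LD2_c44 LD3_c52)) = (LP (LK LD1_c9 LD2_c22 LD3_c22)) :=
  Lre_e IH (LK LD1_c4 LD2_c44 LD3_c52) (LK LD1_c9 LD2_c22 LD3_c22) Lrfl Lrfl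
theorem f103298 : Led Lsl_et (LP (LK LD1_c17 LD2_c10 LD3_c47)) = (LP (LK LD1_c9 LD2_c16 LD3_c12)) :=
  Lre_e IH (LK LD1_c17 LD2_c10 LD3_c47) (LK LD1_c9 LD2_c16 LD3_c12) Lrfl Lrfl
theorem f103301 : Led Lsl_ct (LP (LK LD1_c9 LD2_c22 LD3_c22)) = (LP (LK LD1_c17 LD2_c10 LD3_c47)) :=
  Lgr Lrot15 (Lpe (f103020 IH) (Lpr_cf (K3.f103295 IH) (Lpe (f103298 IH) (Lpn (LP (LK LD1_c17 LD2_c10 LD3_c47))))))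
theorem f103303 : Led Lsl_bt (LP (LK LD1_c17 LD2_c18 LD3_c48)) = (LP (LK LD1_c9 LD2_c22 LD3_c22)) :=
  Lre_b IH (LK LD1_c17 LD2_c18 LD3_c48) (LK LD1_c9 LD2_c22 LD3_c22) Lrfl Lrfl
theorem f558788 : Led Lsl_ct (LP (LK LD1_c12 LD2_c9 LD3_c56)) = (LP (LK LD1_c17 LD2_c18 LD3_c48)) :=
  Lgr Lrot83 (Lpr_bf (f558786 IH) (Lpe (f543921 IH) (Lpe (f546752 IH) (Lpe (f103301 IH) (Lpe (f103303 IH) (Lpn (LP (LK LD1_c17 LD2_c18 LD3_c48))))))))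
theorem f103055 : Led Lsl_et (LP (LK LD1_c17 LD2_c18 LD3_c48)) = (LP (LK LD1_c9 LD2_c22 LD3_c21)) :=
  Lre_e IH (LK LD1_c17 LD2_c18 LD3_c48) (LK LD1_c9 LD2_c22 LD3_c21) Lrfl Lrfl
theorem f558792 : Led Lsl_cf (LP (LK LD1_c6 LD2_c16 LD3_c18)) = (LP (LK LD1_c9 LD2_c22 LD3_c21)) :=
  Lgr Lrot39 (Lpr_et (f558783 IH) (Lpr_ct (f558788 IH) (Lpr_et (f103055 IH) (Lpn (LP (LK LD1_c9 LD2_c22 LD3_c21))))))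
theorem f202266 : Led Lsl_ct (LP (LK LD1_c6 LD2_c16 LD3_c19)) = (LP (LK LD1_c3 LD2_c5 LD3_c14)) :=
  Lre_c IH (LK LD1_c6 LD2_c16 LD3_c19) (LK LD1_c3 LD2_c5 LD3_c14) Lrfl Lrfl
theorem f14002 : Led Lsl_bt (LP (LK LD1_c2 LD2_c21 LD3_c21)) = (LP (LK LD1_c4 LD2_c46 LD3_c54)) :=
  Lre_b IH (LK LD1_c2 LD2_c21 LD3_c21) (LK LD1_c4 LD2_c46 LD3_c54) Lrfl Lrfl
theorem f558799 : Led Lsl_bt (LP (LK LD1_c6 LD2_c16 LD3_c19)) = (LP (LK LD1_c9 LD2_c26 LD3_c34)) :=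
  Lgr Lrot92 (Lpr_ct (f202266 IH) (Lpr_gt (K39.f202259 IH) (Lpr_cf (f558792 IH) (Lpr_bt (K36.f103007 IH) (Lpr_gt (K3.f103002 IH) (Lpe (K3.f102989 IH) (Lpr_gt (K3.f13768 IH) (Lpe (K0.f13720 IH) (Lpr_bt (f14002 IH) (Lpr_gt (K11.f14009 IH) (Lpn (LP (LK LD1_c9 LD2_c26 LD3_c34)))))))))))))
theorem f202262 : Led Lsl_ct (LP (LK LD1_c11 LD2_c35 LD3_c20)) = (LP (LK LD1_c5 LD2_c54 LD3_c56)) :=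
  Lre_c IH (LK LD1_c11 LD2_c35 LD3_c20) (LK LD1_c5 LD2_c54 LD3_c56) Lrfl Lrfl
theorem f558814 : Led Lsl_gf (LP (LK LD1_c11 LD2_c35 LD3_c20)) = (LP (LK LD1_c5 LD2_c58 LD3_c60)) :=
  Lgr Lrot181 (Lpr_ct (f202262 IH) (Lpr_gt (K37.f202252 IH) (Lpe (f202266 IH) (Lpr_bt (f558799 IH) (Lpr_gt (K11.f14010 IH) (Lpe (K37.f14021 IH) (Lpr_ct (K2.f14022 IH) (Lpr_gt (K2.f14023 IH) (Lpe (K2.f72567 IH) (Lpr_bt (K36.f72557 IH) (Lpn (LP (LK LD1_c5 LD2_c58 LD3_c60)))))))))))))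
theorem f202265 : Led Lsl_ct (LP (LK LD1_c3 LD2_c5 LD3_c14)) = (LP (LK LD1_c6 LD2_c16 LD3_c19)) :=
  Lre_c IH (LK LD1_c3 LD2_c5 LD3_c14) (LK LD1_c6 LD2_c16 LD3_c19) Lrfl Lrfl
theorem f558820 : Led Lsl_dt (LP (LK LD1_c6 LD2_c16 LD3_c19)) = (LP (LK LD1_c7 LD2_c39 LD3_c35)) :=
  Lgr Lrot27 (Lpe (f202265 IH) (Lpe (K37.f202252 IH) (Lpe (f202262 IH) (Lpr_gf (f558814 IH) (Lpe (K37.f110911 IH) (Lpe (K8.f157592 IH) (Lpr_ct (K4.f87178 IH) (Lpr_gt (K8.f87190 IH) (Lpr_ct (K8.f87192 IH) (Lpn (LP (LK LD1_c7 LD2_c39 LD3_c35))))))))))))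
theorem f204758 : Led Lsl_gt (LP (LK LD1_c12 LD2_c9 LD3_c57)) = (LP (LK LD1_c6 LD2_c16 LD3_c19)) :=
  Lre_g IH (LK LD1_c12 LD2_c9 LD3_c57) (LK LD1_c6 LD2_c16 LD3_c19) Lrfl Lrfl
theorem f558827 : Led Lsl_df (LP (LK LD1_c12 LD2_c9 LD3_c57)) = (LP (LK LD1_c11 LD2_c45 LD3_c35)) :=
  Lgr Lrot153 (Lpr_gt (f204758 IH) (Lpr_dt (f558820 IH) (Lpe (K8.f87192 IH) (Lpr_df (K8.f157513 IH) (Lpe (K4.f95987 IH) (Lpe (K32.f97466 IH) (Lpr_gf (K28.f120290 IH) (Lpe (K28.f120292 IH) (Lpe (K28.f158512 IH) (Lpn (LP (LK LD1_c11 LD2_c45 LD3_c35))))))))))))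
theorem f548890 : Led Lsl_dt (LP (LK LD1_c5 LD2_c14 LD3_c0)) = (LP (LK LD1_c3 LD2_c38 LD3_c24)) :=
  Lgr Lrot42 (Lpr_df (K38.f548884 IH) (Lpn (LP (LK LD1_c3 LD2_c38 LD3_c24))))
theorem f61299 : Led Lsl_df (LP (LK LD1_c2 LD2_c33 LD3_c56)) = (LP (LK LD1_c2 LD2_c50 LD3_c49)) :=
  Lgr Lrot12 (Lpr_bt (K38.f61297 IH) (Lpr_dt (K18.f61295 IH) (Lpr_bt (K36.f61298 IH) (Lpn (LP (LK LD1_c2 LD2_c50 LD3_c49))))))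
theorem f558836 : Led Lsl_ct (LP (LK LD1_c12 LD2_c9 LD3_c57)) = (LP (LK LD1_c9 LD2_c5 LD3_c41)) :=
  Lgr Lrot98 (Lpr_df (f558827 IH) (Lpr_cf (K8.f158507 IH) (Lpe (K28.f109550 IH) (Lpe (K28.f18027 IH) (Lpe (f548890 IH) (Lpe (K16.f61419 IH) (Lpr_df (f61299 IH) (Lpr_ft (K36.f301961 IH) (Lpr_at (K36.f301992 IH) (Lpn (LP (LK LD1_c9 LD2_c5 LD3_c41))))))))))))
theorem f302040 : Led Lsl_gt (LP (LK LD1_c5 LD2_c14 LD3_c5)) = (LP (LK LD1_c5 LD2_c41 LD3_c15)) :=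
  Lgr Lrot46 (Lpe (K37.f61378 IH) (Lpr_ft (K36.f302030 IH) (Lpr_at (f301888 IH) (Lpn (LP (LK LD1_c5 LD2_c41 LD3_c15))))))
theorem f227768 : Led Lsl_ct (LP (LK LD1_c3 LD2_c5 LD3_c40)) = (LP (LK LD1_c6 LD2_c17 LD3_c4)) :=
  Lre_c IH (LK LD1_c3 LD2_c5 LD3_c40) (LK LD1_c6 LD2_c17 LD3_c4) Lrfl Lrfl
theorem f558840 : Led Lsl_gt (LP (LK LD1_c6 LD2_c17 LD3_c4)) = (LP (LK LD1_c11 LD2_c28 LD3_c9)) :=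
  Lgr Lrot94 (Lpe (f227768 IH) (Lpr_gt (K37.f450214 IH) (Lpe (K39.f546851 IH) (Lpr_gt (f302040 IH) (Lpe (f302050 IH) (Lpe (f558836 IH) (Lpr_df (f558827 IH) (Lpr_gf (K28.f158512 IH) (Lpr_df (K39.f543892 IH) (Lpn (LP (LK LD1_c11 LD2_c28 LD3_c9))))))))))))
theorem f227767 : Led Lsl_ct (LP (LK LD1_c6 LD2_c17 LD3_c4)) = (LP (LK LD1_c3 LD2_c5 LD3_c40)) :=
  Lre_c IH (LK LD1_c6 LD2_c17 LD3_c4) (LK LD1_c3 LD2_c5 LD3_c40) Lrfl Lrfl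
theorem f558842 : Led Lsl_cf (LP (LK LD1_c12 LD2_c9 LD3_c57)) = (LP (LK LD1_c9 LD2_c5 LD3_c41)) :=
  Lgr Lrot14 (Lpr_df (f558827 IH) (Lpr_gf (K28.f158512 IH) (Lpr_df (K39.f543892 IH) (Lpe (f558840 IH) (Lpr_ct (f227767 IH) (Lpr_gt (K37.f450214 IH) (Lpe (K39.f546851 IH) (Lpr_gt (f302040 IH) (Lpe (f302050 IH) (Lpn (LP (LK LD1_c9 LD2_c5 LD3_c41))))))))))))
theorem f543874 : Led Lsl_dt (LP (LK LD1_c6 LD2_c16 LD3_c34)) = (LP (LK LD1_c3 LD2_c46 LD3_c40)) :=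
  Lgr Lrot27 (Lpe (K38.f503158 IH) (Lpe (K38.f202641 IH) (Lpe (K37.f186353 IH) (Lpe (K38.f204724 IH) (Lpe (f543829 IH) (Lpr_gt (K37.f543872 IH) (Lpr_ct (K28.f120260 IH) (Lpr_gt (K4.f94484 IH) (Lpr_ct (K3.f65225 IH) (Lpn (LP (LK LD1_c3 LD2_c46 LD3_c40))))))))))))
theorem f558844 : Led Lsl_gf (LP (LK LD1_c11 LD2_c24 LD3_c41)) = (LP (LK LD1_c6 LD2_c16 LD3_c34)) :=
  Lgr Lrot147 (Lpr_ct (f150002 IH) (Lpe (f421285 IH) (Lpe (f558842 IH) (Lpr_df (f558827 IH) (Lpr_cf (K8.f158507 IH) (Lpr_gf (K36.f501545 IH) (Lpe (K36.f110371 IH) (Lpe (K36.f501555 IH) (Lpe (f543874 IH) (Lpn (LP (LK LD1_c6 LD2_c16 LD3_c34))))))))))))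
theorem f136301 : Led Lsl_ct (LP (LK LD1_c17 LD2_c31 LD3_c34)) = (LP (LK LD1_c9 LD2_c30 LD3_c14)) :=
  Lre_c IH (LK LD1_c17 LD2_c31 LD3_c34) (LK LD1_c9 LD2_c30 LD3_c14) Lrfl Lrfl
theorem f558544 : Led Lsl_et (LP (LK LD1_c12 LD2_c22 LD3_c56)) = (LP (LK LD1_c17 LD2_c31 LD3_c34)) :=
  Lgr Lrot158 (Lpr_cf (f558540 IH) (Lpe (f136293 IH) (Lpe (f136301 IH) (Lpn (LP (LK LD1_c17 LD2_c31 LD3_c34))))))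
theorem f558550 : Led Lsl_ef (LP (LK LD1_c12 LD2_c22 LD3_c56)) = (LP (LK LD1_c17 LD2_c31 LD3_c34)) :=
  Lgr Lrot88 (Lpr_et (f558544 IH) (Lpn (LP (LK LD1_c17 LD2_c31 LD3_c34))))
theorem f554228 : Led Lsl_bt (LP (LK LD1_c12 LD2_c22 LD3_c56)) = (LP (LK LD1_c6 LD2_c24 LD3_c58)) :=
  Lre_b IH (LK LD1_c12 LD2_c22 LD3_c56) (LK LD1_c6 LD2_c24 LD3_c58) Lrfl Lrfl
theorem f558552 : Led Lsl_bt (LP (LK LD1_c12 LD2_c22 LD3_c57)) = (LP (LK LD1_c17 LD2_c31 LD3_c34)) :=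
  Lgr Lrot119 (Lpe (K39.f554250 IH) (Lpe (f554228 IH) (Lpr_ef (f558550 IH) (Lpn (LP (LK LD1_c17 LD2_c31 LD3_c34))))))
theorem f538726 : Led Lsl_ct (LP (LK LD1_c6 LD2_c24 LD3_c59)) = (LP (LK LD1_c12 LD2_c22 LD3_c57)) :=
  Lre_c IH (LK LD1_c6 LD2_c24 LD3_c59) (LK LD1_c12 LD2_c22 LD3_c57) Lrfl Lrfl
theorem f30043 : Led Lsl_bt (LP (LK LD1_c4 LD2_c0 LD3_c10)) = (LP (LK LD1_c1 LD2_c56 LD3_c53)) :=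
  Lre_b IH (LK LD1_c4 LD2_c0 LD3_c10) (LK LD1_c1 LD2_c56 LD3_c53) Lrfl Lrfl
theorem f30044 : Led Lsl_bt (LP (LK LD1_c1 LD2_c57 LD3_c14)) = (LP (LK LD1_c4 LD2_c0 LD3_c51)) :=
  Lre_b IH (LK LD1_c1 LD2_c57 LD3_c14) (LK LD1_c4 LD2_c0 LD3_c51) Lrfl Lrfl
theorem f30045 : Led Lsl_at (LP (LK LD1_c4 LD2_c0 LD3_c51)) = (LP (LK LD1_c8 LD2_c2 LD3_c23)) :=
  Lre_a IH (LK LD1_c4 LD2_c0 LD3_c51) (LK LD1_c8 LD2_c2 LD3_c23) Lrfl Lrfl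
theorem f538673 : Led Lsl_bt (LP (LK LD1_c8 LD2_c2 LD3_c23)) = (LP (LK LD1_c6 LD2_c24 LD3_c59)) :=
  Lgr Lrot62 (Lpe (f30045 IH) (Lpe (f30044 IH) (Lpe (K1.f29996 IH) (Lpe (f30043 IH) (Lpr_af (K35.f538669 IH) (Lpn (LP (LK LD1_c6 LD2_c24 LD3_c59))))))))
theorem f136291 : Led Lsl_bt (LP (LK LD1_c9 LD2_c30 LD3_c14)) = (LP (LK LD1_c4 LD2_c48 LD3_c57)) :=
  Lre_b IH (LK LD1_c9 LD2_c30 LD3_c14) (LK LD1_c4 LD2_c48 LD3_c57) Lrfl Lrfl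
theorem f558557 : Led Lsl_cf (LP (LK LD1_c8 LD2_c2 LD3_c23)) = (LP (LK LD1_c4 LD2_c48 LD3_c57)) :=
  Lgr Lrot97 (Lpr_bt (f538673 IH) (Lpr_ct (f538726 IH) (Lpr_bt (f558552 IH) (Lpr_ct (f136301 IH) (Lpr_bt (f136291 IH) (Lpn (LP (LK LD1_c4 LD2_c48 LD3_c57))))))))
theorem f428739 : Led Lsl_dt (LP (LK LD1_c8 LD2_c2 LD3_c23)) = (LP (LK LD1_c15 LD2_c7 LD3_c17)) :=
  Lre_d IH (LK LD1_c8 LD2_c2 LD3_c23) (LK LD1_c15 LD2_c7 LD3_c17) Lrfl Lrfl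
theorem f445390 : Led Lsl_ct (LP (LK LD1_c15 LD2_c7 LD3_c17)) = (LP (LK LD1_c24 LD2_c55 LD3_c41)) :=
  Lre_c IH (LK LD1_c15 LD2_c7 LD3_c17) (LK LD1_c24 LD2_c55 LD3_c41) Lrfl Lrfl
theorem f74636 : Led Lsl_dt (LP (LK LD1_c2 LD2_c22 LD3_c20)) = (LP (LK LD1_c4 LD2_c48 LD3_c57)) :=
  Lre_d IH (LK LD1_c2 LD2_c22 LD3_c20) (LK LD1_c4 LD2_c48 LD3_c57) Lrfl Lrfl
theorem f495134 : Led Lsl_ft (LP (LK LD1_c2 LD2_c22 LD3_c20)) = (LP (LK LD1_c4 LD2_c48 LD3_c58)) :=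
  Lre_f IH (LK LD1_c2 LD2_c22 LD3_c20) (LK LD1_c4 LD2_c48 LD3_c58) Lrfl Lrfl
theorem f501440 : Led Lsl_ct (LP (LK LD1_c5 LD2_c59 LD3_c56)) = (LP (LK LD1_c2 LD2_c56 LD3_c19)) :=
  Lre_c IH (LK LD1_c5 LD2_c59 LD3_c56) (LK LD1_c2 LD2_c56 LD3_c19) Lrfl Lrfl
theorem f501455 : Led Lsl_dt (LP (LK LD1_c11 LD2_c44 LD3_c22)) = (LP (LK LD1_c5 LD2_c59 LD3_c56)) :=
  Lre_d IH (LK LD1_c11 LD2_c44 LD3_c22) (LK LD1_c5 LD2_c59 LD3_c56) Lrfl Lrfl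
theorem f502237 : Led Lsl_ct (LP (LK LD1_c20 LD2_c45 LD3_c47)) = (LP (LK LD1_c11 LD2_c44 LD3_c22)) :=
  Lre_c IH (LK LD1_c20 LD2_c45 LD3_c47) (LK LD1_c11 LD2_c44 LD3_c22) Lrfl Lrfl
theorem f558587 : Led Lsl_dt (LP (LK LD1_c24 LD2_c55 LD3_c41)) = (LP (LK LD1_c20 LD2_c45 LD3_c47)) :=
  Lgr Lrot140 (Lpe (f445390 IH) (Lpe (f428739 IH) (Lpr_cf (f558557 IH) (Lpe (f74636 IH) (Lpr_ft (f495134 IH) (Lpe (K37.f501906 IH) (Lpe (f501440 IH) (Lpe (f501455 IH) (Lpe (f502237 IH) (Lpn (LP (LK LD1_c20 LD2_c45 LD3_c47))))))))))))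
theorem f502213 : Led Lsl_ft (LP (LK LD1_c20 LD2_c45 LD3_c47)) = (LP (LK LD1_c11 LD2_c44 LD3_c21)) :=
  Lre_f IH (LK LD1_c20 LD2_c45 LD3_c47) (LK LD1_c11 LD2_c44 LD3_c21) Lrfl Lrfl
theorem f502217 : Led Lsl_dt (LP (LK LD1_c11 LD2_c44 LD3_c21)) = (LP (LK LD1_c20 LD2_c45 LD3_c46)) :=
  Lre_d IH (LK LD1_c11 LD2_c44 LD3_c21) (LK LD1_c20 LD2_c45 LD3_c46) Lrfl Lrfl
theorem f558596 : Led Lsl_ff (LP (LK LD1_c24 LD2_c55 LD3_c41)) = (LP (LK LD1_c20 LD2_c45 LD3_c46)) :=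
  Lgr Lrot19 (Lpr_dt (f558587 IH) (Lpr_ft (f502213 IH) (Lpr_dt (f502217 IH) (Lpn (LP (LK LD1_c20 LD2_c45 LD3_c46))))))
theorem f538793 : Led Lsl_ct (LP (LK LD1_c24 LD2_c55 LD3_c41)) = (LP (LK LD1_c15 LD2_c7 LD3_c17)) :=
  Lre_c IH (LK LD1_c24 LD2_c55 LD3_c41) (LK LD1_c15 LD2_c7 LD3_c17) Lrfl Lrfl
theorem f538791 : Led Lsl_ft (LP (LK LD1_c15 LD2_c7 LD3_c17)) = (LP (LK LD1_c24 LD2_c55 LD3_c44)) :=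
  Lre_f IH (LK LD1_c15 LD2_c7 LD3_c17) (LK LD1_c24 LD2_c55 LD3_c44) Lrfl Lrfl
theorem f558603 : Led Lsl_ct (LP (LK LD1_c24 LD2_c55 LD3_c44)) = (LP (LK LD1_c20 LD2_c45 LD3_c46)) :=
  Lgr Lrot40 (Lpe (f538791 IH) (Lpe (f538793 IH) (Lpr_ff (f558596 IH) (Lpn (LP (LK LD1_c20 LD2_c45 LD3_c46))))))
theorem f558613 : Led Lsl_dt (LP (LK LD1_c15 LD2_c8 LD3_c6)) = (LP (LK LD1_c24 LD2_c55 LD3_c44)) :=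
  Lre_d IH (LK LD1_c15 LD2_c8 LD3_c6) (LK LD1_c24 LD2_c55 LD3_c44) Lrfl Lrfl
theorem f500812 : Led Lsl_dt (LP (LK LD1_c20 LD2_c45 LD3_c46)) = (LP (LK LD1_c11 LD2_c44 LD3_c21)) :=
  Lre_d IH (LK LD1_c20 LD2_c45 LD3_c46) (LK LD1_c11 LD2_c44 LD3_c21) Lrfl Lrfl
theorem f500811 : Led Lsl_ct (LP (LK LD1_c11 LD2_c44 LD3_c21)) = (LP (LK LD1_c5 LD2_c59 LD3_c55)) :=
  Lre_c IH (LK LD1_c11 LD2_c44 LD3_c21) (LK LD1_c5 LD2_c59 LD3_c55) Lrfl Lrfl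
theorem f500810 : Led Lsl_dt (LP (LK LD1_c5 LD2_c59 LD3_c55)) = (LP (LK LD1_c2 LD2_c56 LD3_c15)) :=
  Lre_d IH (LK LD1_c5 LD2_c59 LD3_c55) (LK LD1_c2 LD2_c56 LD3_c15) Lrfl Lrfl
theorem f76064 : Led Lsl_ct (LP (LK LD1_c2 LD2_c56 LD3_c15)) = (LP (LK LD1_c1 LD2_c24 LD3_c1)) :=
  Lre_c IH (LK LD1_c2 LD2_c56 LD3_c15) (LK LD1_c1 LD2_c24 LD3_c1) Lrfl Lrfl
def v1690 : LQ := Led Lsl_at (LP (LK LD1_c1 LD2_c24 LD3_c1))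
theorem f500801 : Led Lsl_at (LP (LK LD1_c1 LD2_c24 LD3_c1)) = v1690 :=
  Lrfl
theorem f500802 : Led Lsl_af (LP (LK LD1_c1 LD2_c24 LD3_c1)) = v1690 :=
  Lgr Lrot0 (Lpr_at (f500801 IH) (Lpn v1690))
theorem f500805 : Led Lsl_ef K36.v444 = v1690 :=
  Lgr Lrot20 (Lpe (K36.f452863 IH) (Lpr_et (K32.f75528 IH) (Lpr_at (f500801 IH) (Lpn v1690))))
theorem f500807 : Led Lsl_et K36.v444 = v1690 :=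
  Lgr Lrot87 (Lpr_ef (f500805 IH) (Lpn v1690))
theorem f452961 : Led Lsl_et (LP (LK LD1_c1 LD2_c8 LD3_c18)) = (LP (LK LD1_c2 LD2_c22 LD3_c20)) :=
  Lre_e IH (LK LD1_c1 LD2_c8 LD3_c18) (LK LD1_c2 LD2_c22 LD3_c20) Lrfl Lrfl
theorem f501396 : v1690 = (LP (LK LD1_c2 LD2_c22 LD3_c20)) :=
  Lefun (Lecon (f500807 IH) (K36.f501377 IH).symm) (f452961 IH)
theorem f495132 : Led Lsl_ft (LP (LK LD1_c4 LD2_c48 LD3_c58)) = (LP (LK LD1_c2 LD2_c22 LD3_c20)) :=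
  Lre_f IH (LK LD1_c4 LD2_c48 LD3_c58) (LK LD1_c2 LD2_c22 LD3_c20) Lrfl Lrfl
theorem f558620 : Led Lsl_cf (LP (LK LD1_c15 LD2_c8 LD3_c6)) = (LP (LK LD1_c9 LD2_c30 LD3_c24)) :=
  Lgr Lrot118 (Lpr_dt (f558613 IH) (Lpr_ct (f558603 IH) (Lpr_dt (f500812 IH) (Lpr_ct (f500811 IH) (Lpr_dt (f500810 IH) (Lpr_ct (f76064 IH) (Lpr_af (f500802 IH) (Lpqs (f501396 IH) (Lpe (f495132 IH) (Lpr_dt (f501924 IH) (Lpn (LP (LK LD1_c9 LD2_c30 LD3_c24)))))))))))))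
theorem f30626 : Led Lsl_at (LP (LK LD1_c15 LD2_c8 LD3_c6)) = (LP (LK LD1_c8 LD2_c2 LD3_c29)) :=
  Lre_a IH (LK LD1_c15 LD2_c8 LD3_c6) (LK LD1_c8 LD2_c2 LD3_c29) Lrfl Lrfl
theorem f502597 : Led Lsl_at (LP (LK LD1_c6 LD2_c0 LD3_c0)) = (LP (LK LD1_c9 LD2_c30 LD3_c24)) :=
  Lgr Lrot100 (Lpr_af (f501925 IH) (Lpn (LP (LK LD1_c9 LD2_c30 LD3_c24))))
theorem f558623 : Led Lsl_ct (LP (LK LD1_c8 LD2_c2 LD3_c29)) = (LP (LK LD1_c6 LD2_c0 LD3_c0)) :=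
  Lgr Lrot111 (Lpe (f30626 IH) (Lpr_cf (f558620 IH) (Lpe (f502597 IH) (Lpn (LP (LK LD1_c6 LD2_c0 LD3_c0))))))
theorem f30782 : Led Lsl_et (LP (LK LD1_c15 LD2_c8 LD3_c18)) = (LP (LK LD1_c8 LD2_c2 LD3_c29)) :=
  Lre_e IH (LK LD1_c15 LD2_c8 LD3_c18) (LK LD1_c8 LD2_c2 LD3_c29) Lrfl Lrfl
theorem f30118 : Led Lsl_bt (LP (LK LD1_c4 LD2_c0 LD3_c57)) = (LP (LK LD1_c8 LD2_c2 LD3_c29)) :=
  Lre_b IH (LK LD1_c4 LD2_c0 LD3_c57) (LK LD1_c8 LD2_c2 LD3_c29) Lrfl Lrfl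
theorem f30730 : Led Lsl_et (LP (LK LD1_c8 LD2_c2 LD3_c29)) = (LP (LK LD1_c15 LD2_c8 LD3_c18)) :=
  Lre_e IH (LK LD1_c8 LD2_c2 LD3_c29) (LK LD1_c15 LD2_c8 LD3_c18) Lrfl Lrfl
theorem f30731 : Led Lsl_bt (LP (LK LD1_c15 LD2_c8 LD3_c18)) = (LP (LK LD1_c8 LD2_c2 LD3_c33)) :=
  Lgr Lrot119 (Lpe (f30730 IH) (Lpe (f30118 IH) (Lpr_ef (K1.f30728 IH) (Lpn (LP (LK LD1_c8 LD2_c2 LD3_c33))))))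
theorem f502599 : Led Lsl_bt (LP (LK LD1_c6 LD2_c0 LD3_c0)) = (LP (LK LD1_c11 LD2_c43 LD3_c58)) :=
  Lre_b IH (LK LD1_c6 LD2_c0 LD3_c0) (LK LD1_c11 LD2_c43 LD3_c58) Lrfl Lrfl
theorem f558630 : Led Lsl_cf (LP (LK LD1_c15 LD2_c8 LD3_c18)) = (LP (LK LD1_c11 LD2_c43 LD3_c58)) :=
  Lgr Lrot97 (Lpr_bt (f30731 IH) (Lpr_ct (K1.f29973 IH) (Lpr_bt (f30118 IH) (Lpr_ct (f558623 IH) (Lpr_bt (f502599 IH) (Lpn (LP (LK LD1_c11 LD2_c43 LD3_c58))))))))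
theorem f558634 : Led Lsl_ef (LP (LK LD1_c11 LD2_c43 LD3_c58)) = (LP (LK LD1_c6 LD2_c0 LD3_c0)) :=
  Lgr Lrot28 (Lpe (f558630 IH) (Lpr_et (f30782 IH) (Lpr_ct (f558623 IH) (Lpn (LP (LK LD1_c6 LD2_c0 LD3_c0))))))
theorem f75843 : Led Lsl_ft (LP (LK LD1_c11 LD2_c43 LD3_c58)) = (LP (LK LD1_c5 LD2_c59 LD3_c41)) :=
  Lre_f IH (LK LD1_c11 LD2_c43 LD3_c58) (LK LD1_c5 LD2_c59 LD3_c41) Lrfl Lrfl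
theorem f75834 : Led Lsl_ft (LP (LK LD1_c2 LD2_c56 LD3_c18)) = (LP (LK LD1_c6 LD2_c0 LD3_c0)) :=
  Lre_f IH (LK LD1_c2 LD2_c56 LD3_c18) (LK LD1_c6 LD2_c0 LD3_c0) Lrfl Lrfl
theorem f558643 : Led Lsl_ft (LP (LK LD1_c6 LD2_c8 LD3_c33)) = (LP (LK LD1_c3 LD2_c0 LD3_c34)) :=
  Lgr Lrot86 (Lpe (K32.f75830 IH) (Lpe (f75843 IH) (Lpr_ef (f558634 IH) (Lpe (f75834 IH) (Lpr_ef (K32.f75816 IH) (Lpn (LP (LK LD1_c3 LD2_c0 LD3_c34))))))))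
theorem f75554 : Led Lsl_dt (LP (LK LD1_c1 LD2_c20 LD3_c15)) = (LP (LK LD1_c2 LD2_c47 LD3_c59)) :=
  Lre_d IH (LK LD1_c1 LD2_c20 LD3_c15) (LK LD1_c2 LD2_c47 LD3_c59) Lrfl Lrfl
theorem f381930 : Led Lsl_gt (LP (LK LD1_c2 LD2_c47 LD3_c58)) = (LP (LK LD1_c1 LD2_c20 LD3_c15)) :=
  Lre_g IH (LK LD1_c2 LD2_c47 LD3_c58) (LK LD1_c1 LD2_c20 LD3_c15) Lrfl Lrfl
theorem f541758 : Led Lsl_dt (LP (LK LD1_c5 LD2_c43 LD3_c54)) = (LP (LK LD1_c2 LD2_c47 LD3_c58)) :=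
  Lre_d IH (LK LD1_c5 LD2_c43 LD3_c54) (LK LD1_c2 LD2_c47 LD3_c58) Lrfl Lrfl
theorem f548839 : Led Lsl_gt (LP (LK LD1_c6 LD2_c8 LD3_c33)) = (LP (LK LD1_c5 LD2_c43 LD3_c54)) :=
  Lgr Lrot180 (Lpe (K38.f541794 IH) (Lpr_gt (K38.f548834 IH) (Lpe (K38.f548825 IH) (Lpr_gt (K36.f210908 IH) (Lpe (K36.f542510 IH) (Lpr_ct (K36.f541785 IH) (Lpe (f75554 IH) (Lpe (f381930 IH) (Lpe (f541758 IH) (Lpn (LP (LK LD1_c5 LD2_c43 LD3_c54))))))))))))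
theorem f75811 : Led Lsl_at (LP (LK LD1_c3 LD2_c0 LD3_c34)) = (LP (LK LD1_c6 LD2_c8 LD3_c32)) :=
  Lre_a IH (LK LD1_c3 LD2_c0 LD3_c34) (LK LD1_c6 LD2_c8 LD3_c32) Lrfl Lrfl
theorem f558645 : Led Lsl_gt (LP (LK LD1_c5 LD2_c43 LD3_c54)) = (LP (LK LD1_c6 LD2_c8 LD3_c32)) :=
  Lgr Lrot46 (Lpe (f548839 IH) (Lpr_ft (f558643 IH) (Lpr_at (f75811 IH) (Lpn (LP (LK LD1_c6 LD2_c8 LD3_c32))))))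
theorem f541755 : Led Lsl_dt (LP (LK LD1_c2 LD2_c47 LD3_c58)) = (LP (LK LD1_c5 LD2_c43 LD3_c54)) :=
  Lre_d IH (LK LD1_c2 LD2_c47 LD3_c58) (LK LD1_c5 LD2_c43 LD3_c54) Lrfl Lrfl
def v1671 : LQ := Led Lsl_et (LP (LK LD1_c1 LD2_c23 LD3_c44))
theorem f500679 : Led Lsl_et (LP (LK LD1_c1 LD2_c23 LD3_c44)) = v1671 :=
  Lrfl
theorem f500681 : Led Lsl_ef (LP (LK LD1_c1 LD2_c23 LD3_c44)) = v1671 :=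
  Lgr Lrot88 (Lpr_et (f500679 IH) (Lpn v1671))
theorem f558656 : (LP (LK LD1_c2 LD2_c47 LD3_c58)) = v1671 :=
  (Llr Lrot170 (Lpr_dt (f541755 IH) (Lpr_gt (f558645 IH) (Lpe (f452867 IH) (Lpr_et (f452872 IH) (Lpr_gt (K36.f501345 IH) (Lpq (K36.f501366 IH) (Lpr_dt (K2.f72819 IH) (Lpr_gt (K2.f74540 IH) (Lpe (K2.f37292 IH) (Lpr_et (K36.f74573 IH) (Lpr_gt (K27.f74574 IH) (Lpr_ef (f500681 IH) (Lpn v1671)))))))))))))).symm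
theorem f500682 : Led Lsl_at (LP (LK LD1_c2 LD2_c33 LD3_c40)) = v1671 :=
  Lgr Lrot80 (Lpe (K36.f185802 IH) (Lpe (K28.f386778 IH) (Lpr_ef (f500681 IH) (Lpn v1671))))
theorem f302539 : Led Lsl_ff (LP (LK LD1_c2 LD2_c33 LD3_c40)) = (LP (LK LD1_c2 LD2_c46 LD3_c41)) :=
  Lgr Lrot25 (Lpr_bt (K35.f185773 IH) (Lpr_ft (K18.f302535 IH) (Lpr_bt (K36.f176914 IH) (Lpn (LP (LK LD1_c2 LD2_c46 LD3_c41))))))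
theorem f500683 : Led Lsl_ff (LP (LK LD1_c5 LD2_c41 LD3_c17)) = v1671 :=
  Lgr Lrot30 (Lpr_at (K36.f176934 IH) (Lpe (f302539 IH) (Lpr_at (f500682 IH) (Lpn v1671))))
theorem f548823 : Led Lsl_dt (LP (LK LD1_c4 LD2_c23 LD3_c45)) = (LP (LK LD1_c5 LD2_c49 LD3_c22)) :=
  Lgr Lrot27 (Lpe (K36.f70101 IH) (Lpe (K38.f420657 IH) (Lpr_cf (K38.f420642 IH) (Lpe (K36.f420646 IH) (Lpe (K36.f499055 IH) (Lpe (K38.f548813 IH) (Lpr_ct (K38.f104904 IH) (Lpr_gt (K38.f548819 IH) (Lpr_ct (K38.f176674 IH) (Lpn (LP (LK LD1_c5 LD2_c49 LD3_c22))))))))))))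
theorem f541756 : Led Lsl_ct (LP (LK LD1_c5 LD2_c43 LD3_c54)) = (LP (LK LD1_c11 LD2_c17 LD3_c50)) :=
  Lre_c IH (LK LD1_c5 LD2_c43 LD3_c54) (LK LD1_c11 LD2_c17 LD3_c50) Lrfl Lrfl
theorem f558667 : Led Lsl_df (LP (LK LD1_c8 LD2_c45 LD3_c24)) = (LP (LK LD1_c11 LD2_c17 LD3_c50)) :=
  Lgr Lrot106 (Lpr_ct (K36.f70101 IH) (Lpr_dt (f548823 IH) (Lpr_ct (K38.f176664 IH) (Lpe (K36.f176656 IH) (Lpr_ct (K18.f205102 IH) (Lpe (K36.f176934 IH) (Lpr_ff (f500683 IH) (Lpq (f558656 IH) (Lpr_dt (f541755 IH) (Lpr_ct (f541756 IH) (Lpn (LP (LK LD1_c11 LD2_c17 LD3_c50)))))))))))))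
theorem f558536 : Led Lsl_gf (LP (LK LD1_c2 LD2_c14 LD3_c0)) = (LP (LK LD1_c3 LD2_c0 LD3_c30)) :=
  Lgr Lrot147 (Lpr_ct (K37.f210984 IH) (Lpr_gt (K38.f171808 IH) (Lpe (f557370 IH) (Lpe (K38.f75484 IH) (Lpe (K36.f541834 IH) (Lpr_gf (f548815 IH) (Lpr_cf (f541808 IH) (Lpr_gf (f558532 IH) (Lpe (f452867 IH) (Lpn (LP (LK LD1_c3 LD2_c0 LD3_c30))))))))))))
theorem f176862 : Led Lsl_ct (LP (LK LD1_c2 LD2_c51 LD3_c1)) = (LP (LK LD1_c5 LD2_c49 LD3_c50)) :=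
  Lre_c IH (LK LD1_c2 LD2_c51 LD3_c1) (LK LD1_c5 LD2_c49 LD3_c50) Lrfl Lrfl
theorem f558162 : Led Lsl_ct (LP (LK LD1_c4 LD2_c25 LD3_c44)) = (LP (LK LD1_c4 LD2_c34 LD3_c14)) :=
  Lgr Lrot40 (Lpr_ff (f558158 IH) (Lpe (f176862 IH) (Lpr_ff (f450089 IH) (Lpn (LP (LK LD1_c4 LD2_c34 LD3_c14))))))
theorem f38549 : Led Lsl_dt (LP (LK LD1_c2 LD2_c10 LD3_c12)) = (LP (LK LD1_c4 LD2_c25 LD3_c44)) :=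
  Lre_d IH (LK LD1_c2 LD2_c10 LD3_c12) (LK LD1_c4 LD2_c25 LD3_c44) Lrfl Lrfl
theorem f38563 : Led Lsl_dt (LP (LK LD1_c8 LD2_c48 LD3_c57)) = (LP (LK LD1_c4 LD2_c25 LD3_c43)) :=
  Lre_d IH (LK LD1_c8 LD2_c48 LD3_c57) (LK LD1_c4 LD2_c25 LD3_c43) Lrfl Lrfl
theorem f558649 : Led Lsl_gt (LP (LK LD1_c11 LD2_c17 LD3_c50)) = (LP (LK LD1_c8 LD2_c48 LD3_c57)) :=
  Lgr Lrot94 (Lpe (f541756 IH) (Lpr_gt (f558645 IH) (Lpr_dt (f452873 IH) (Lpe (f558536 IH) (Lpr_dt (f20799 IH) (Lpe (f558162 IH) (Lpe (f38549 IH) (Lpe (K8.f38525 IH) (Lpe (f38563 IH) (Lpn (LP (LK LD1_c8 LD2_c48 LD3_c57))))))))))))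
theorem f548783 : Led Lsl_cf (LP (LK LD1_c2 LD2_c49 LD3_c21)) = (LP (LK LD1_c3 LD2_c5 LD3_c42)) :=
  Lgr Lrot1 (Lpe (K38.f499335 IH) (Lpr_ct (K38.f548720 IH) (Lpr_at (K38.f548777 IH) (Lpn (LP (LK LD1_c3 LD2_c5 LD3_c42))))))
theorem f548807 : Led Lsl_cf (LP (LK LD1_c6 LD2_c17 LD3_c7)) = (LP (LK LD1_c8 LD2_c48 LD3_c57)) :=
  Lgr Lrot118 (Lpr_dt (f421046 IH) (Lpe (f548783 IH) (Lpr_dt (K38.f72870 IH) (Lpr_ct (K38.f104897 IH) (Lpr_dt (K38.f548799 IH) (Lpr_ct (K6.f138752 IH) (Lpe (K28.f426398 IH) (Lpr_ff (K28.f426394 IH) (Lpr_dt (f38545 IH) (Lpn (LP (LK LD1_c8 LD2_c48 LD3_c57))))))))))))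
theorem f558683 : Led Lsl_gf (LP (LK LD1_c4 LD2_c34 LD3_c10)) = (LP (LK LD1_c6 LD2_c17 LD3_c7)) :=
  Lgr Lrot104 (Lpe (K37.f541810 IH) (Lpr_df (K36.f425768 IH) (Lpe (K39.f80640 IH) (Lpe (f425873 IH) (Lpr_cf (f206065 IH) (Lpe (f206068 IH) (Lpr_df (f558667 IH) (Lpr_gt (f558649 IH) (Lpe (f548807 IH) (Lpn (LP (LK LD1_c6 LD2_c17 LD3_c7))))))))))))
theorem f558853 : Led Lsl_bt (LP (LK LD1_c5 LD2_c47 LD3_c17)) = (LP (LK LD1_c6 LD2_c17 LD3_c7)) :=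
  Lgr Lrot22 (Lpr_ct (f149995 IH) (Lpr_gf (f558844 IH) (Lpe (K38.f503158 IH) (Lpe (K38.f202641 IH) (Lpe (K11.f204734 IH) (Lpr_ct (K18.f58989 IH) (Lpr_gf (K32.f503154 IH) (Lpe (K32.f503157 IH) (Lpr_bt (K32.f68542 IH) (Lpr_gf (f558683 IH) (Lpn (LP (LK LD1_c6 LD2_c17 LD3_c7)))))))))))))
theorem f558738 : Led Lsl_bt (LP (LK LD1_c3 LD2_c5 LD3_c23)) = (LP (LK LD1_c6 LD2_c16 LD3_c33)) :=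
  Lre_b IH (LK LD1_c3 LD2_c5 LD3_c23) (LK LD1_c6 LD2_c16 LD3_c33) Lrfl Lrfl
theorem f29483 : Led Lsl_gt (LP (LK LD1_c4 LD2_c0 LD3_c49)) = (LP (LK LD1_c8 LD2_c2 LD3_c9)) :=
  Lre_g IH (LK LD1_c4 LD2_c0 LD3_c49) (LK LD1_c8 LD2_c2 LD3_c9) Lrfl Lrfl
theorem f557420 : Led Lsl_cf (LP (LK LD1_c8 LD2_c2 LD3_c9)) = (LP (LK LD1_c5 LD2_c49 LD3_c47)) :=
  Lgr Lrot166 (Lpr_gt (K39.f158270 IH) (Lpr_dt (K36.f438204 IH) (Lpr_gt (K36.f81397 IH) (Lpr_dt (K36.f81379 IH) (Lpr_ct (K36.f541768 IH) (Lpe (K36.f381697 IH) (Lpe (K36.f539662 IH) (Lpe (K37.f185774 IH) (Lpr_gf (f557404 IH) (Lpn (LP (LK LD1_c5 LD2_c49 LD3_c47))))))))))))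
theorem f557410 : Led Lsl_bt (LP (LK LD1_c5 LD2_c49 LD3_c47)) = (LP (LK LD1_c11 LD2_c28 LD3_c12)) :=
  Lre_b IH (LK LD1_c5 LD2_c49 LD3_c47) (LK LD1_c11 LD2_c28 LD3_c12) Lrfl Lrfl
theorem f558861 : Led Lsl_gf (LP (LK LD1_c6 LD2_c16 LD3_c33)) = (LP (LK LD1_c11 LD2_c28 LD3_c12)) :=
  Lgr Lrot124 (Lpe (f558738 IH) (Lpr_ct (K38.f503158 IH) (Lpe (f558844 IH) (Lpe (f149995 IH) (Lpr_bt (f558853 IH) (Lpe (f558683 IH) (Lpe (K37.f541810 IH) (Lpr_gt (f29483 IH) (Lpr_cf (f557420 IH) (Lpr_bt (f557410 IH) (Lpn (LP (LK LD1_c11 LD2_c28 LD3_c12)))))))))))))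
theorem f557432 : Led Lsl_ef (LP (LK LD1_c3 LD2_c0 LD3_c32)) = (LP (LK LD1_c5 LD2_c49 LD3_c46)) :=
  Lgr Lrot29 (Lpr_bt (K32.f425861 IH) (Lpr_et (K39.f502780 IH) (Lpqs (f557423 IH) (Lpr_bt (f557431 IH) (Lpn (LP (LK LD1_c5 LD2_c49 LD3_c46)))))))
theorem f427500 : Led Lsl_et (LP (LK LD1_c5 LD2_c7 LD3_c38)) = (LP (LK LD1_c2 LD2_c31 LD3_c4)) :=
  Lre_e IH (LK LD1_c5 LD2_c7 LD3_c38) (LK LD1_c2 LD2_c31 LD3_c4) Lrfl Lrfl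
theorem f558868 : Led Lsl_df (LP (LK LD1_c6 LD2_c16 LD3_c33)) = (LP (LK LD1_c5 LD2_c7 LD3_c38)) :=
  Lgr Lrot168 (Lpr_gf (f558861 IH) (Lpe (f557413 IH) (Lpe (f557432 IH) (Lpr_gf (K32.f425866 IH) (Lpe (K38.f117847 IH) (Lpr_dt (K38.f132420 IH) (Lpr_gf (K38.f545583 IH) (Lpe (K38.f545575 IH) (Lpe (K27.f169697 IH) (Lpe (f427500 IH) (Lpn (LP (LK LD1_c5 LD2_c7 LD3_c38)))))))))))))
theorem f428172 : Led Lsl_gt (LP (LK LD1_c5 LD2_c58 LD3_c48)) = (LP (LK LD1_c2 LD2_c55 LD3_c49)) :=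
  Lre_g IH (LK LD1_c5 LD2_c58 LD3_c48) (LK LD1_c2 LD2_c55 LD3_c49) Lrfl Lrfl
theorem f539589 : Led Lsl_gf (LP (LK LD1_c5 LD2_c58 LD3_c48)) = (LP (LK LD1_c11 LD2_c20 LD3_c31)) :=
  Lgr Lrot47 (Lpr_gt (f428172 IH) (Lpe (K36.f428189 IH) (Lpr_ff (K36.f539578 IH) (Lpn (LP (LK LD1_c11 LD2_c20 LD3_c31))))))
theorem f558542 : Led Lsl_ct (LP (LK LD1_c12 LD2_c22 LD3_c56)) = (LP (LK LD1_c11 LD2_c25 LD3_c18)) :=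
  Lgr Lrot59 (Lpr_cf (f558540 IH) (Lpn (LP (LK LD1_c11 LD2_c25 LD3_c18))))
theorem f496062 : Led Lsl_ct (LP (LK LD1_c2 LD2_c50 LD3_c7)) = (LP (LK LD1_c3 LD2_c5 LD3_c16)) :=
  Lgr Lrot59 (Lpr_cf (K31.f496058 IH) (Lpn (LP (LK LD1_c3 LD2_c5 LD3_c16))))
theorem f558736 : Led Lsl_gf (LP (LK LD1_c5 LD2_c49 LD3_c46)) = (LP (LK LD1_c3 LD2_c5 LD3_c16)) :=
  Lgr Lrot104 (Lpr_ct (f558730 IH) (Lpe (f136297 IH) (Lpe (f558542 IH) (Lpr_gf (K37.f544163 IH) (Lpe (f206051 IH) (Lpr_gf (K31.f496102 IH) (Lpqs (K37.f537269 IH) (Lpe (K31.f206040 IH) (Lpr_gt (K31.f206046 IH) (Lpr_ct (f496062 IH) (Lpn (LP (LK LD1_c3 LD2_c5 LD3_c16)))))))))))))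
theorem f496065 : Led Lsl_et (LP (LK LD1_c6 LD2_c16 LD3_c22)) = (LP (LK LD1_c3 LD2_c5 LD3_c16)) :=
  Lre_e IH (LK LD1_c6 LD2_c16 LD3_c22) (LK LD1_c3 LD2_c5 LD3_c16) Lrfl Lrfl
theorem f558871 : Led Lsl_df (LP (LK LD1_c5 LD2_c58 LD3_c48)) = (LP (LK LD1_c6 LD2_c16 LD3_c22)) :=
  Lgr Lrot168 (Lpr_gf (f539589 IH) (Lpe (f539585 IH) (Lpe (K36.f539599 IH) (Lpe (K27.f169697 IH) (Lpe (f427500 IH) (Lpe (f558868 IH) (Lpr_gf (f558861 IH) (Lpe (f557413 IH) (Lpr_gf (f558736 IH) (Lpe (f496065 IH) (Lpn (LP (LK LD1_c6 LD2_c16 LD3_c22)))))))))))))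
theorem f428249 : Led Lsl_dt (LP (LK LD1_c1 LD2_c23 LD3_c51)) = (LP (LK LD1_c2 LD2_c55 LD3_c49)) :=
  Lre_d IH (LK LD1_c1 LD2_c23 LD3_c51) (LK LD1_c2 LD2_c55 LD3_c49) Lrfl Lrfl
theorem f386845 : Led Lsl_et (LP (LK LD1_c1 LD2_c23 LD3_c51)) = (LP (LK LD1_c0 LD2_c38 LD3_c43)) :=
  Lre_e IH (LK LD1_c1 LD2_c23 LD3_c51) (LK LD1_c0 LD2_c38 LD3_c43) Lrfl Lrfl
theorem f132401 : Led Lsl_et (LP (LK LD1_c5 LD2_c47 LD3_c47)) = (LP (LK LD1_c2 LD2_c49 LD3_c53)) :=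
  Lre_e IH (LK LD1_c5 LD2_c47 LD3_c47) (LK LD1_c2 LD2_c49 LD3_c53) Lrfl Lrfl
theorem f132519 : Led Lsl_ct (LP (LK LD1_c4 LD2_c34 LD3_c23)) = (LP (LK LD1_c2 LD2_c48 LD3_c55)) :=
  Lgr Lrot8 (Lpr_gt (K8.f132517 IH) (Lpr_dt (K8.f132433 IH) (Lpe (K8.f132473 IH) (Lpr_dt (K6.f99825 IH) (Lpe (K6.f36009 IH) (Lpe (K6.f99727 IH) (Lpe (K8.f99728 IH) (Lpe (K5.f99811 IH) (Lpr_gf (K8.f60261 IH) (Lpn (LP (LK LD1_c2 LD2_c48 LD3_c55))))))))))))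
theorem f425868 : Led Lsl_gt (LP (LK LD1_c3 LD2_c0 LD3_c32)) = (LP (LK LD1_c1 LD2_c28 LD3_c31)) :=
  Lgr Lrot46 (Lpr_gf (K32.f425866 IH) (Lpr_ft (K5.f117827 IH) (Lpe (K34.f117885 IH) (Lpn (LP (LK LD1_c1 LD2_c28 LD3_c31))))))
theorem f452958 : Led Lsl_bt (LP (LK LD1_c2 LD2_c49 LD3_c53)) = K36.v457 :=
  Lgr Lrot92 (Lpe (K36.f425864 IH) (Lpr_gt (f425868 IH) (Lpe (K5.f132493 IH) (Lpr_bt (K5.f132490 IH) (Lpr_gt (K8.f132497 IH) (Lpr_ct (f132519 IH) (Lpe (K8.f60261 IH) (Lpe (K5.f56296 IH) (Lpr_bt (K2.f60266 IH) (Lpr_gt (K36.f452953 IH) (Lpn K36.v457)))))))))))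
theorem f452959 : Led Lsl_bf (LP (LK LD1_c2 LD2_c49 LD3_c53)) = K36.v457 :=
  Lgr Lrot24 (Lpr_bt (f452958 IH) (Lpn K36.v457))
theorem f501370 : (LP (LK LD1_c2 LD2_c49 LD3_c53)) = K32.v1767 :=
  Lefun (Lecon (Lfl_bf (f452959 IH)) (K36.f501363 IH).symm) (K32.f501349 IH)
def v1774 : LQ := Led Lsl_et (LP (LK LD1_c1 LD2_c26 LD3_c5))
theorem f502805 : Led Lsl_et (LP (LK LD1_c1 LD2_c26 LD3_c5)) = v1774 :=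
  Lrfl
def v1770 : LQ := Led Lsl_ft (LP (LK LD1_c1 LD2_c26 LD3_c2))
theorem f502786 : Led Lsl_ft (LP (LK LD1_c1 LD2_c26 LD3_c2)) = v1770 :=
  Lrfl
theorem f501749 : Led Lsl_dt (LP (LK LD1_c6 LD2_c0 LD3_c1)) = (LP (LK LD1_c3 LD2_c47 LD3_c16)) :=
  Lgr Lrot6 (Lpr_gt (K36.f501741 IH) (Lpe (K3.f109929 IH) (Lpr_gt (K6.f146462 IH) (Lpr_ct (K6.f135845 IH) (Lpe (K6.f146464 IH) (Lpr_cf (K3.f15632 IH) (Lpe (K3.f12059 IH) (Lpr_cf (K3.f15079 IH) (Lpe (K6.f15206 IH) (Lpn (LP (LK LD1_c3 LD2_c47 LD3_c16))))))))))))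
theorem f137184 : Led Lsl_ct (LP (LK LD1_c2 LD2_c56 LD3_c20)) = (LP (LK LD1_c6 LD2_c0 LD3_c1)) :=
  Lre_c IH (LK LD1_c2 LD2_c56 LD3_c20) (LK LD1_c6 LD2_c0 LD3_c1) Lrfl Lrfl
theorem f132397 : Led Lsl_gf (LP (LK LD1_c2 LD2_c49 LD3_c53)) = (LP (LK LD1_c1 LD2_c21 LD3_c3)) :=
  Lgr Lrot47 (Lpr_gt (K32.f66379 IH) (Lpe (K8.f117865 IH) (Lpr_ff (K5.f132391 IH) (Lpn (LP (LK LD1_c1 LD2_c21 LD3_c3))))))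
theorem f136273 : Led Lsl_df (LP (LK LD1_c2 LD2_c22 LD3_c18)) = (LP (LK LD1_c2 LD2_c49 LD3_c53)) :=
  Lgr Lrot153 (Lpr_gt (K6.f136271 IH) (Lpr_dt (K6.f8363 IH) (Lpe (K6.f8362 IH) (Lpe (K7.f136251 IH) (Lpe (K6.f56762 IH) (Lpe (K6.f57255 IH) (Lpe (K6.f57256 IH) (Lpe (K5.f117230 IH) (Lpe (f132397 IH) (Lpn (LP (LK LD1_c2 LD2_c49 LD3_c53))))))))))))
theorem f501872 : Led Lsl_df (LP (LK LD1_c2 LD2_c56 LD3_c20)) = (LP (LK LD1_c2 LD2_c49 LD3_c52)) :=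
  Lgr Lrot43 (Lpr_ct (f137184 IH) (Lpr_dt (f501749 IH) (Lpe (K6.f136448 IH) (Lpr_dt (K32.f64345 IH) (Lpr_ct (K36.f501868 IH) (Lpe (K36.f501860 IH) (Lpr_ct (K32.f425862 IH) (Lpe (f136273 IH) (Lpr_ct (K3.f109410 IH) (Lpr_dt (K6.f109401 IH) (Lpe (K6.f136340 IH) (Lpe (K6.f124191 IH) (Lpr_ct (K6.f76151 IH) (Lpe (K11.f76140 IH) (Lpr_ct (K8.f20563 IH) (Lpn (LP (LK LD1_c2 LD2_c49 LD3_c52))))))))))))))))))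
theorem f501356 : Led Lsl_at (LP (LK LD1_c3 LD2_c0 LD3_c32)) = K32.v1767 :=
  Lgr Lrot100 (Lpr_af (K32.f501355 IH) (Lpn K32.v1767))
theorem f501878 : Led Lsl_ft (LP (LK LD1_c2 LD2_c49 LD3_c52)) = (LP (LK LD1_c3 LD2_c0 LD3_c32)) :=
  Lgr Lrot142 (Lpe (f501872 IH) (Lpr_ct (f137184 IH) (Lpr_dt (f501749 IH) (Lpe (K6.f136448 IH) (Lpr_dt (K32.f64345 IH) (Lpr_ct (K36.f501868 IH) (Lpe (K36.f501860 IH) (Lpr_ct (K32.f425862 IH) (Lpqs (f501370 IH) (Lpe (f501356 IH) (Lpn (LP (LK LD1_c3 LD2_c0 LD3_c32)))))))))))))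
theorem f502788 : Led Lsl_bf (LP (LK LD1_c2 LD2_c49 LD3_c52)) = v1770 :=
  Lgr Lrot61 (Lpr_ft (f501878 IH) (Lpr_bt (K32.f425861 IH) (Lpr_ft (f502786 IH) (Lpn v1770))))
theorem f502807 : Led Lsl_ef (LP (LK LD1_c1 LD2_c26 LD3_c5)) = v1774 :=
  Lgr Lrot88 (Lpr_et (f502805 IH) (Lpn v1774))
theorem f502808 : Led Lsl_bt (LP (LK LD1_c1 LD2_c26 LD3_c7)) = v1774 :=
  Lgr Lrot119 (Lpe (K36.f75044 IH) (Lpe (K8.f20560 IH) (Lpr_ef (f502807 IH) (Lpn v1774))))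
theorem f502790 : Led Lsl_ff (LP (LK LD1_c1 LD2_c26 LD3_c2)) = v1770 :=
  Lgr Lrot3 (Lpr_ft (f502786 IH) (Lpn v1770))
theorem f502794 : Led Lsl_gf K32.v1768 = v1770 :=
  Lgr Lrot47 (Lpe (K32.f502766 IH) (Lpe (K32.f501357 IH) (Lpr_ff (f502790 IH) (Lpn v1770))))
theorem f386683 : Led Lsl_gt (LP (LK LD1_c1 LD2_c26 LD3_c7)) = (LP (LK LD1_c1 LD2_c21 LD3_c49)) :=
  Lgr Lrot131 (Lpe (K36.f75044 IH) (Lpr_dt (K11.f75042 IH) (Lpe (K2.f56898 IH) (Lpe (K32.f56897 IH) (Lpe (K2.f56896 IH) (Lpe (K27.f76145 IH) (Lpr_dt (K27.f76146 IH) (Lpr_gf (K27.f386663 IH) (Lpe (K27.f22200 IH) (Lpe (K11.f22191 IH) (Lpn (LP (LK LD1_c1 LD2_c21 LD3_c49)))))))))))))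
theorem f537856 : v1770 = (LP (LK LD1_c1 LD2_c26 LD3_c7)) :=
  Lefun (Lecon (f502794 IH) (K36.f537689 IH)) (Lfl_gt (f386683 IH))
theorem f538030 : (LP (LK LD1_c2 LD2_c49 LD3_c52)) = v1774 :=
  Lefun (Lecon (Lfl_bf (f502788 IH)) (f537856 IH)) (f502808 IH)
theorem f558704 : Led Lsl_ef (LP (LK LD1_c5 LD2_c49 LD3_c46)) = (LP (LK LD1_c3 LD2_c0 LD3_c32)) :=
  Lgr Lrot21 (Lpr_ft (f558700 IH) (Lpr_et (f132401 IH) (Lpqs (f501370 IH) (Lpe (K32.f501352 IH) (Lpr_et (f502805 IH) (Lpq (f538030 IH) (Lpr_ft (f501878 IH) (Lpn (LP (LK LD1_c3 LD2_c0 LD3_c32))))))))))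
theorem f558877 : Led Lsl_gt (LP (LK LD1_c5 LD2_c49 LD3_c46)) = (LP (LK LD1_c3 LD2_c5 LD3_c16)) :=
  Lgr Lrot131 (Lpr_ef (f558704 IH) (Lpr_dt (K36.f501854 IH) (Lpe (K36.f501882 IH) (Lpe (K8.f160968 IH) (Lpe (K8.f150258 IH) (Lpe (f386845 IH) (Lpr_dt (f428249 IH) (Lpe (f428172 IH) (Lpr_df (f558871 IH) (Lpr_et (f496065 IH) (Lpn (LP (LK LD1_c3 LD2_c5 LD3_c16)))))))))))))
theorem f381840 : Led Lsl_et (LP (LK LD1_c2 LD2_c47 LD3_c53)) = (LP (LK LD1_c1 LD2_c20 LD3_c12)) :=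
  Lre_e IH (LK LD1_c2 LD2_c47 LD3_c53) (LK LD1_c1 LD2_c20 LD3_c12) Lrfl Lrfl
theorem f381841 : Led Lsl_dt (LP (LK LD1_c2 LD2_c47 LD3_c53)) = (LP (LK LD1_c5 LD2_c43 LD3_c44)) :=
  Lre_d IH (LK LD1_c2 LD2_c47 LD3_c53) (LK LD1_c5 LD2_c43 LD3_c44) Lrfl Lrfl
theorem f496067 : Led Lsl_dt (LP (LK LD1_c3 LD2_c5 LD3_c16)) = (LP (LK LD1_c6 LD2_c16 LD3_c21)) :=
  Lre_d IH (LK LD1_c3 LD2_c5 LD3_c16) (LK LD1_c6 LD2_c16 LD3_c21) Lrfl Lrfl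
theorem f558887 : Led Lsl_gf (LP (LK LD1_c5 LD2_c43 LD3_c44)) = (LP (LK LD1_c6 LD2_c16 LD3_c21)) :=
  Lgr Lrot134 (Lpe (f381841 IH) (Lpr_et (f381840 IH) (Lpr_gt (K31.f381831 IH) (Lpq (K38.f541400 IH) (Lpe (K38.f500711 IH) (Lpr_dt (K8.f160968 IH) (Lpr_gt (K36.f501882 IH) (Lpe (K36.f501854 IH) (Lpe (f558704 IH) (Lpr_gt (f558877 IH) (Lpr_dt (f496067 IH) (Lpn (LP (LK LD1_c6 LD2_c16 LD3_c21))))))))))))))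
theorem f382001 : Led Lsl_ct (LP (LK LD1_c11 LD2_c17 LD3_c28)) = (LP (LK LD1_c5 LD2_c43 LD3_c44)) :=
  Lre_c IH (LK LD1_c11 LD2_c17 LD3_c28) (LK LD1_c5 LD2_c43 LD3_c44) Lrfl Lrfl
theorem f381932 : Led Lsl_bt (LP (LK LD1_c2 LD2_c47 LD3_c59)) = (LP (LK LD1_c5 LD2_c43 LD3_c44)) :=
  Lre_b IH (LK LD1_c2 LD2_c47 LD3_c59) (LK LD1_c5 LD2_c43 LD3_c44) Lrfl Lrfl
theorem f382005 : Led Lsl_ct (LP (LK LD1_c5 LD2_c43 LD3_c44)) = (LP (LK LD1_c11 LD2_c17 LD3_c28)) :=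
  Lre_c IH (LK LD1_c5 LD2_c43 LD3_c44) (LK LD1_c11 LD2_c17 LD3_c28) Lrfl Lrfl
theorem f239187 : Led Lsl_ct (LP (LK LD1_c6 LD2_c24 LD3_c56)) = (LP (LK LD1_c3 LD2_c10 LD3_c4)) :=
  Lre_c IH (LK LD1_c6 LD2_c24 LD3_c56) (LK LD1_c3 LD2_c10 LD3_c4) Lrfl Lrfl
theorem f554321 : Led Lsl_bt (LP (LK LD1_c11 LD2_c17 LD3_c28)) = (LP (LK LD1_c6 LD2_c24 LD3_c56)) :=
  Lgr Lrot128 (Lpe (f382005 IH) (Lpe (f381932 IH) (Lpe (K36.f541785 IH) (Lpr_bf (K39.f554317 IH) (Lpe (f239187 IH) (Lpn (LP (LK LD1_c6 LD2_c24 LD3_c56))))))))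
theorem f558739 : Led Lsl_gf (LP (LK LD1_c11 LD2_c28 LD3_c12)) = (LP (LK LD1_c6 LD2_c16 LD3_c33)) :=
  Lgr Lrot85 (Lpr_dt (f557414 IH) (Lpr_ct (f558730 IH) (Lpe (f502627 IH) (Lpe (f558536 IH) (Lpr_dt (f20799 IH) (Lpe (f558171 IH) (Lpr_bt (f99908 IH) (Lpr_gt (K38.f99816 IH) (Lpe (K6.f99820 IH) (Lpr_ct (K2.f56259 IH) (Lpr_bt (K2.f60266 IH) (Lpr_gt (K36.f452953 IH) (Lpq (K36.f501363 IH) (Lpr_dt (K36.f452865 IH) (Lpq (K36.f501377 IH) (Lpr_ct (K4.f104981 IH) (Lpr_bt (K3.f78066 IH) (Lpr_gt (K3.f109909 IH) (Lpe (K38.f543876 IH) (Lpr_ct (K38.f543964 IH) (Lpr_bt (f558738 IH) (Lpn (LP (LK LD1_c6 LD2_c16 LD3_c33))))))))))))))))))))))))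
theorem f496095 : Led Lsl_bf (LP (LK LD1_c1 LD2_c21 LD3_c26)) = K31.v1531 :=
  Lgr Lrot61 (Lpr_ft (K32.f146395 IH) (Lpr_bt (f210532 IH) (Lpr_ft (K31.f496094 IH) (Lpn K31.v1531))))
theorem f558866 : Led Lsl_ct (LP (LK LD1_c6 LD2_c16 LD3_c33)) = (LP (LK LD1_c7 LD2_c21 LD3_c24)) :=
  Lgr Lrot91 (Lpr_gf (f558861 IH) (Lpe (f557410 IH) (Lpe (f557420 IH) (Lpe (f29483 IH) (Lpr_cf (K37.f541810 IH) (Lpr_bt (K32.f68554 IH) (Lpr_gf (K32.f146396 IH) (Lpr_bf (f496095 IH) (Lpe (K37.f544139 IH) (Lpe (K34.f531365 IH) (Lpn (LP (LK LD1_c7 LD2_c21 LD3_c24)))))))))))))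
theorem f558881 : Led Lsl_ct (LP (LK LD1_c7 LD2_c26 LD3_c33)) = (LP (LK LD1_c6 LD2_c16 LD3_c21)) :=
  Lgr Lrot7 (Lpr_df (K28.f203575 IH) (Lpe (K28.f84911 IH) (Lpe (K34.f123448 IH) (Lpe (K34.f531365 IH) (Lpe (f558866 IH) (Lpe (f558739 IH) (Lpr_dt (f557414 IH) (Lpr_gt (f558877 IH) (Lpr_dt (f496067 IH) (Lpn (LP (LK LD1_c6 LD2_c16 LD3_c21))))))))))))
theorem f203200 : Led Lsl_af (LP (LK LD1_c7 LD2_c40 LD3_c46)) = (LP (LK LD1_c13 LD2_c54 LD3_c30)) :=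
  Lgr Lrot31 (Lpr_gf (K32.f155747 IH) (Lpr_gf (K33.f203198 IH) (Lpr_ft (K7.f151393 IH) (Lpn (LP (LK LD1_c13 LD2_c54 LD3_c30))))))
theorem f203238 : Led Lsl_ft (LP (LK LD1_c7 LD2_c40 LD3_c46)) = (LP (LK LD1_c14 LD2_c18 LD3_c54)) :=
  Lgr Lrot101 (Lpr_af (f203200 IH) (Lpe (K7.f151393 IH) (Lpe (K7.f144816 IH) (Lpn (LP (LK LD1_c14 LD2_c18 LD3_c54))))))
theorem f541176 : Led Lsl_gf (LP (LK LD1_c7 LD2_c40 LD3_c54)) = (LP (LK LD1_c12 LD2_c23 LD3_c49)) :=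
  Lgr Lrot76 (Lpe (K7.f144816 IH) (Lpe (f203238 IH) (Lpr_gt (K36.f541174 IH) (Lpn (LP (LK LD1_c12 LD2_c23 LD3_c49))))))
theorem f558899 : Led Lsl_gt (LP (LK LD1_c6 LD2_c24 LD3_c56)) = (LP (LK LD1_c3 LD2_c40 LD3_c8)) :=
  Lgr Lrot82 (Lpe (f554321 IH) (Lpr_ct (f382001 IH) (Lpr_gf (f558887 IH) (Lpe (f558881 IH) (Lpr_bt (K28.f203580 IH) (Lpr_gf (f541176 IH) (Lpe (K36.f205188 IH) (Lpr_ct (K36.f205186 IH) (Lpe (K36.f25993 IH) (Lpe (K37.f541132 IH) (Lpn (LP (LK LD1_c3 LD2_c40 LD3_c8)))))))))))))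
theorem f205995 : Led Lsl_dt (LP (LK LD1_c14 LD2_c50 LD3_c0)) = (LP (LK LD1_c14 LD2_c29 LD3_c49)) :=
  Lgr Lrot120 (Lpe (K28.f144655 IH) (Lpr_df (K11.f205989 IH) (Lpe (K8.f162568 IH) (Lpe (K7.f14734 IH) (Lpe (K6.f14743 IH) (Lpr_df (K7.f156613 IH) (Lpr_ft (K8.f162690 IH) (Lpe (K8.f162695 IH) (Lpr_cf (K8.f162630 IH) (Lpn (LP (LK LD1_c14 LD2_c29 LD3_c49))))))))))))
theorem f558045 : Led Lsl_df (LP (LK LD1_c14 LD2_c29 LD3_c48)) = (LP (LK LD1_c12 LD2_c10 LD3_c40)) :=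
  Lgr Lrot43 (Lpr_ct (K36.f157507 IH) (Lpe (K7.f156613 IH) (Lpr_ct (K6.f14743 IH) (Lpr_dt (K7.f14734 IH) (Lpr_ct (K8.f162568 IH) (Lpe (K11.f205989 IH) (Lpr_ct (K28.f144655 IH) (Lpr_dt (f205995 IH) (Lpe (K8.f162630 IH) (Lpr_dt (K24.f162627 IH) (Lpr_ct (K5.f14738 IH) (Lpr_dt (K8.f14741 IH) (Lpr_ct (K8.f162606 IH) (Lpr_dt (f206131 IH) (Lpr_ct (f558037 IH) (Lpn (LP (LK LD1_c12 LD2_c10 LD3_c40))))))))))))))))))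
theorem f558058 : Led Lsl_df (LP (LK LD1_c6 LD2_c24 LD3_c56)) = (LP (LK LD1_c3 LD2_c40 LD3_c48)) :=
  Lgr Lrot183 (Lpr_ct (f239187 IH) (Lpe (K39.f554317 IH) (Lpr_gt (K39.f542525 IH) (Lpr_dt (K39.f29503 IH) (Lpr_ct (K7.f29486 IH) (Lpe (K8.f158160 IH) (Lpe (K8.f148956 IH) (Lpr_dt (K7.f139611 IH) (Lpr_ct (K1.f14748 IH) (Lpr_bt (K0.f14747 IH) (Lpr_gt (f558055 IH) (Lpe (f558045 IH) (Lpr_ct (K36.f157507 IH) (Lpe (K7.f156608 IH) (Lpe (K8.f157509 IH) (Lpr_dt (K8.f157511 IH) (Lpe (K4.f122061 IH) (Lpr_bt (K24.f209114 IH) (Lpe (K24.f439268 IH) (Lpn (LP (LK LD1_c3 LD2_c40 LD3_c48))))))))))))))))))))))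
theorem f208948 : Led Lsl_dt (LP (LK LD1_c7 LD2_c27 LD3_c45)) = (LP (LK LD1_c14 LD2_c5 LD3_c11)) :=
  Lre_d IH (LK LD1_c7 LD2_c27 LD3_c45) (LK LD1_c14 LD2_c5 LD3_c11) Lrfl Lrfl
theorem f159759 : Led Lsl_et (LP (LK LD1_c1 LD2_c47 LD3_c1)) = (LP (LK LD1_c3 LD2_c40 LD3_c9)) :=
  Lre_e IH (LK LD1_c1 LD2_c47 LD3_c1) (LK LD1_c3 LD2_c40 LD3_c9) Lrfl Lrfl
theorem f462655 : Led Lsl_et (LP (LK LD1_c13 LD2_c52 LD3_c54)) = (LP (LK LD1_c7 LD2_c20 LD3_c25)) :=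
  Lre_e IH (LK LD1_c13 LD2_c52 LD3_c54) (LK LD1_c7 LD2_c20 LD3_c25) Lrfl Lrfl
theorem f462656 : Led Lsl_dt (LP (LK LD1_c13 LD2_c52 LD3_c54)) = (LP (LK LD1_c23 LD2_c22 LD3_c55)) :=
  Lre_d IH (LK LD1_c13 LD2_c52 LD3_c54) (LK LD1_c23 LD2_c22 LD3_c55) Lrfl Lrfl
theorem f558908 : Led Lsl_gf (LP (LK LD1_c14 LD2_c5 LD3_c11)) = (LP (LK LD1_c23 LD2_c22 LD3_c55)) :=
  Lgr Lrot145 (Lpe (f208948 IH) (Lpr_et (K28.f208947 IH) (Lpe (K24.f439268 IH) (Lpe (f558058 IH) (Lpr_gt (f558899 IH) (Lpe (K37.f159428 IH) (Lpr_et (f159759 IH) (Lpr_gt (K29.f425453 IH) (Lpe (f462655 IH) (Lpr_dt (f462656 IH) (Lpn (LP (LK LD1_c23 LD2_c22 LD3_c55)))))))))))))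
theorem f131787 : Led Lsl_at (LP (LK LD1_c7 LD2_c27 LD3_c49)) = (LP (LK LD1_c14 LD2_c5 LD3_c11)) :=
  Lre_a IH (LK LD1_c7 LD2_c27 LD3_c49) (LK LD1_c14 LD2_c5 LD3_c11) Lrfl Lrfl
theorem f558911 : Led Lsl_gt (LP (LK LD1_c14 LD2_c5 LD3_c25)) = (LP (LK LD1_c23 LD2_c22 LD3_c55)) :=
  Lgr Lrot5 (Lpr_ft (K39.f439565 IH) (Lpr_at (f131787 IH) (Lpr_gf (f558908 IH) (Lpn (LP (LK LD1_c23 LD2_c22 LD3_c55))))))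
theorem f439563 : Led Lsl_dt (LP (LK LD1_c14 LD2_c5 LD3_c25)) = (LP (LK LD1_c7 LD2_c27 LD3_c50)) :=
  Lre_d IH (LK LD1_c14 LD2_c5 LD3_c25) (LK LD1_c7 LD2_c27 LD3_c50) Lrfl Lrfl
theorem f558915 : Led Lsl_cf (LP (LK LD1_c23 LD2_c41 LD3_c58)) = (LP (LK LD1_c23 LD2_c22 LD3_c55)) :=
  Lgr Lrot169 (Lpr_gt (K39.f116181 IH) (Lpr_ct (K36.f116180 IH) (Lpe (K39.f116164 IH) (Lpe (K4.f116149 IH) (Lpe (K37.f116177 IH) (Lpe (K37.f116179 IH) (Lpr_gf (K37.f466179 IH) (Lpe (f439563 IH) (Lpr_gt (f558911 IH) (Lpn (LP (LK LD1_c23 LD2_c22 LD3_c55))))))))))))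
theorem f116261 : Led Lsl_dt (LP (LK LD1_c13 LD2_c38 LD3_c15)) = (LP (LK LD1_c23 LD2_c3 LD3_c22)) :=
  Lre_d IH (LK LD1_c13 LD2_c38 LD3_c15) (LK LD1_c23 LD2_c3 LD3_c22) Lrfl Lrfl
theorem f38138 : Led Lsl_dt (LP (LK LD1_c8 LD2_c50 LD3_c43)) = (LP (LK LD1_c4 LD2_c26 LD3_c34)) :=
  Lre_d IH (LK LD1_c8 LD2_c50 LD3_c43) (LK LD1_c4 LD2_c26 LD3_c34) Lrfl Lrfl
theorem f201976 : Led Lsl_gf (LP (LK LD1_c4 LD2_c42 LD3_c40)) = (LP (LK LD1_c4 LD2_c26 LD3_c34)) :=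
  Lgr Lrot47 (Lpr_gt (K32.f201975 IH) (Lpr_af (K11.f201960 IH) (Lpe (K4.f38115 IH) (Lpn (LP (LK LD1_c4 LD2_c26 LD3_c34))))))
theorem f503183 : Led Lsl_gt (LP (LK LD1_c17 LD2_c15 LD3_c20)) = (LP (LK LD1_c20 LD2_c26 LD3_c19)) :=
  Lgr Lrot46 (Lpr_gf (K32.f503180 IH) (Lpr_ft (K37.f407965 IH) (Lpe (K37.f411239 IH) (Lpn (LP (LK LD1_c20 LD2_c26 LD3_c19))))))
theorem f262428 : Led Lsl_ft (LP (LK LD1_c15 LD2_c12 LD3_c41)) = (LP (LK LD1_c8 LD2_c4 LD3_c43)) :=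
  Lre_f IH (LK LD1_c15 LD2_c12 LD3_c41) (LK LD1_c8 LD2_c4 LD3_c43) Lrfl Lrfl
theorem f411246 : Led Lsl_dt (LP (LK LD1_c20 LD2_c26 LD3_c19)) = (LP (LK LD1_c15 LD2_c12 LD3_c41)) :=
  Lgr Lrot60 (Lpe (K37.f411243 IH) (Lpr_df (K37.f411236 IH) (Lpe (f262428 IH) (Lpn (LP (LK LD1_c15 LD2_c12 LD3_c41))))))
theorem f242842 : Led Lsl_gt (LP (LK LD1_c15 LD2_c9 LD3_c55)) = (LP (LK LD1_c8 LD2_c3 LD3_c17)) :=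
  Lre_g IH (LK LD1_c15 LD2_c9 LD3_c55) (LK LD1_c8 LD2_c3 LD3_c17) Lrfl Lrfl
theorem f411211 : Led Lsl_gt (LP (LK LD1_c15 LD2_c12 LD3_c41)) = (LP (LK LD1_c15 LD2_c9 LD3_c55)) :=
  Lgr Lrot5 (Lpr_ft (f262428 IH) (Lpr_at (K37.f271974 IH) (Lpe (f242842 IH) (Lpn (LP (LK LD1_c15 LD2_c9 LD3_c55))))))
theorem f407968 : Led Lsl_dt (LP (LK LD1_c24 LD2_c58 LD3_c60)) = (LP (LK LD1_c15 LD2_c9 LD3_c55)) :=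
  Lre_d IH (LK LD1_c24 LD2_c58 LD3_c60) (LK LD1_c15 LD2_c9 LD3_c55) Lrfl Lrfl
theorem f205326 : Led Lsl_gt (LP (LK LD1_c9 LD2_c19 LD3_c43)) = (LP (LK LD1_c17 LD2_c15 LD3_c31)) :=
  Lre_g IH (LK LD1_c9 LD2_c19 LD3_c43) (LK LD1_c17 LD2_c15 LD3_c31) Lrfl Lrfl
theorem f407971 : Led Lsl_et (LP (LK LD1_c24 LD2_c58 LD3_c60)) = (LP (LK LD1_c17 LD2_c15 LD3_c31)) :=
  Lgr Lrot122 (Lpr_dt (f407968 IH) (Lpr_gt (f242842 IH) (Lpr_df (K37.f407959 IH) (Lpr_et (K37.f407952 IH) (Lpe (K32.f407949 IH) (Lpr_dt (K32.f205322 IH) (Lpr_gt (K11.f205317 IH) (Lpe (K37.f59071 IH) (Lpr_et (K39.f205192 IH) (Lpr_gt (f205326 IH) (Lpn (LP (LK LD1_c17 LD2_c15 LD3_c31)))))))))))))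
theorem f554065 : Led Lsl_gf (LP (LK LD1_c13 LD2_c47 LD3_c23)) = (LP (LK LD1_c17 LD2_c15 LD3_c31)) :=
  Lgr Lrot141 (Lpr_ef (K39.f554053 IH) (Lpr_dt (f38138 IH) (Lpe (f201976 IH) (Lpe (K32.f201982 IH) (Lpr_et (K32.f201983 IH) (Lpr_gt (f503183 IH) (Lpr_dt (f411246 IH) (Lpr_gt (f411211 IH) (Lpe (f407968 IH) (Lpr_et (f407971 IH) (Lpn (LP (LK LD1_c17 LD2_c15 LD3_c31)))))))))))))
theorem f210892 : Led Lsl_ft (LP (LK LD1_c9 LD2_c19 LD3_c43)) = (LP (LK LD1_c17 LD2_c15 LD3_c25)) :=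
  Lre_f IH (LK LD1_c9 LD2_c19 LD3_c43) (LK LD1_c17 LD2_c15 LD3_c25) Lrfl Lrfl
theorem f554067 : Led Lsl_af (LP (LK LD1_c13 LD2_c47 LD3_c23)) = (LP (LK LD1_c17 LD2_c15 LD3_c25)) :=
  Lgr Lrot31 (Lpr_gf (f554065 IH) (Lpe (f205326 IH) (Lpr_ft (f210892 IH) (Lpn (LP (LK LD1_c17 LD2_c15 LD3_c25))))))
theorem f554069 : Led Lsl_at (LP (LK LD1_c7 LD2_c17 LD3_c19)) = (LP (LK LD1_c9 LD2_c19 LD3_c43)) :=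
  Lgr Lrot66 (Lpe (K39.f439562 IH) (Lpr_af (f554067 IH) (Lpe (f210892 IH) (Lpn (LP (LK LD1_c9 LD2_c19 LD3_c43))))))
theorem f205193 : Led Lsl_gt (LP (LK LD1_c17 LD2_c15 LD3_c32)) = (LP (LK LD1_c9 LD2_c19 LD3_c43)) :=
  Lre_g IH (LK LD1_c17 LD2_c15 LD3_c32) (LK LD1_c9 LD2_c19 LD3_c43) Lrfl Lrfl
theorem f554071 : Led Lsl_gt (LP (LK LD1_c13 LD2_c47 LD3_c23)) = (LP (LK LD1_c17 LD2_c15 LD3_c32)) :=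
  Lgr Lrot5 (Lpr_ft (K39.f439562 IH) (Lpr_at (f554069 IH) (Lpe (f205193 IH) (Lpn (LP (LK LD1_c17 LD2_c15 LD3_c32))))))
theorem f227399 : Led Lsl_dt (LP (LK LD1_c16 LD2_c27 LD3_c38)) = (LP (LK LD1_c26 LD2_c24 LD3_c51)) :=
  Lre_d IH (LK LD1_c16 LD2_c27 LD3_c38) (LK LD1_c26 LD2_c24 LD3_c51) Lrfl Lrfl
theorem f38369 : Led Lsl_et (LP (LK LD1_c2 LD2_c10 LD3_c8)) = (LP (LK LD1_c4 LD2_c25 LD3_c32)) :=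
  Lre_e IH (LK LD1_c2 LD2_c10 LD3_c8) (LK LD1_c4 LD2_c25 LD3_c32) Lrfl Lrfl
theorem f38457 : Led Lsl_et (LP (LK LD1_c16 LD2_c28 LD3_c56)) = (LP (LK LD1_c8 LD2_c48 LD3_c37)) :=
  Lre_e IH (LK LD1_c16 LD2_c28 LD3_c56) (LK LD1_c8 LD2_c48 LD3_c37) Lrfl Lrfl
theorem f69494 : Led Lsl_et (LP (LK LD1_c8 LD2_c48 LD3_c37)) = (LP (LK LD1_c16 LD2_c28 LD3_c56)) :=
  Lre_e IH (LK LD1_c8 LD2_c48 LD3_c37) (LK LD1_c16 LD2_c28 LD3_c56) Lrfl Lrfl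
theorem f56634 : Led Lsl_et (LP (LK LD1_c4 LD2_c42 LD3_c39)) = (LP (LK LD1_c9 LD2_c19 LD3_c34)) :=
  Lre_e IH (LK LD1_c4 LD2_c42 LD3_c39) (LK LD1_c9 LD2_c19 LD3_c34) Lrfl Lrfl
theorem f56640 : Led Lsl_et (LP (LK LD1_c17 LD2_c15 LD3_c17)) = (LP (LK LD1_c9 LD2_c19 LD3_c33)) :=
  Lre_e IH (LK LD1_c17 LD2_c15 LD3_c17) (LK LD1_c9 LD2_c19 LD3_c33) Lrfl Lrfl
theorem f69495 : Led Lsl_dt (LP (LK LD1_c16 LD2_c28 LD3_c56)) = (LP (LK LD1_c17 LD2_c15 LD3_c17)) :=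
  Lgr Lrot77 (Lpe (f69494 IH) (Lpr_df (K11.f69489 IH) (Lpe (f56634 IH) (Lpe (K37.f59322 IH) (Lpe (f56640 IH) (Lpn (LP (LK LD1_c17 LD2_c15 LD3_c17))))))))
theorem f227400 : Led Lsl_gt (LP (LK LD1_c26 LD2_c24 LD3_c51)) = (LP (LK LD1_c17 LD2_c15 LD3_c17)) :=
  Lgr Lrot139 (Lpe (f227399 IH) (Lpe (K37.f227398 IH) (Lpe (K36.f36461 IH) (Lpr_dt (K18.f36463 IH) (Lpr_gf (K12.f227337 IH) (Lpe (K1.f38056 IH) (Lpr_et (f38369 IH) (Lpe (K11.f38452 IH) (Lpe (f38457 IH) (Lpr_dt (f69495 IH) (Lpn (LP (LK LD1_c17 LD2_c15 LD3_c17)))))))))))))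
theorem f524930 : Led Lsl_at (LP (LK LD1_c13 LD2_c32 LD3_c0)) = (LP (LK LD1_c7 LD2_c8 LD3_c47)) :=
  Lre_a IH (LK LD1_c13 LD2_c32 LD3_c0) (LK LD1_c7 LD2_c8 LD3_c47) Lrfl Lrfl
theorem f543275 : Led Lsl_et (LP (LK LD1_c16 LD2_c27 LD3_c38)) = (LP (LK LD1_c13 LD2_c32 LD3_c0)) :=
  Lgr Lrot123 (Lpr_af (K37.f543271 IH) (Lpe (K37.f524055 IH) (Lpe (f524930 IH) (Lpn (LP (LK LD1_c13 LD2_c32 LD3_c0))))))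
theorem f227421 : Led Lsl_dt (LP (LK LD1_c26 LD2_c24 LD3_c51)) = (LP (LK LD1_c16 LD2_c27 LD3_c38)) :=
  Lre_d IH (LK LD1_c26 LD2_c24 LD3_c51) (LK LD1_c16 LD2_c27 LD3_c38) Lrfl Lrfl
theorem f526832 : Led Lsl_et (LP (LK LD1_c7 LD2_c8 LD3_c45)) = (LP (LK LD1_c13 LD2_c32 LD3_c1)) :=
  Lre_e IH (LK LD1_c7 LD2_c8 LD3_c45) (LK LD1_c13 LD2_c32 LD3_c1) Lrfl Lrfl
theorem f543277 : Led Lsl_ef (LP (LK LD1_c26 LD2_c24 LD3_c51)) = (LP (LK LD1_c22 LD2_c53 LD3_c49)) :=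
  Lgr Lrot73 (Lpr_dt (f227421 IH) (Lpr_et (f543275 IH) (Lpr_dt (K35.f524068 IH) (Lpr_et (f526832 IH) (Lpr_dt (K39.f535507 IH) (Lpn (LP (LK LD1_c22 LD2_c53 LD3_c49))))))))
theorem f524430 : Led Lsl_dt (LP (LK LD1_c22 LD2_c53 LD3_c49)) = (LP (LK LD1_c13 LD2_c32 LD3_c1)) :=
  Lre_d IH (LK LD1_c22 LD2_c53 LD3_c49) (LK LD1_c13 LD2_c32 LD3_c1) Lrfl Lrfl
theorem f208973 : Led Lsl_dt (LP (LK LD1_c7 LD2_c17 LD3_c20)) = (LP (LK LD1_c13 LD2_c47 LD3_c23)) :=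
  Lre_d IH (LK LD1_c7 LD2_c17 LD3_c20) (LK LD1_c13 LD2_c47 LD3_c23) Lrfl Lrfl
theorem f543580 : Led Lsl_ct (LP (LK LD1_c12 LD2_c8 LD3_c32)) = (LP (LK LD1_c13 LD2_c25 LD3_c30)) :=
  Lgr Lrot91 (Lpe (K37.f210893 IH) (Lpr_bf (K37.f543572 IH) (Lpr_ct (K28.f121871 IH) (Lpe (K34.f469705 IH) (Lpe (K33.f64665 IH) (Lpr_bt (K33.f466477 IH) (Lpr_gf (K28.f466464 IH) (Lpe (K24.f108253 IH) (Lpe (K28.f469251 IH) (Lpe (K37.f469266 IH) (Lpn (LP (LK LD1_c13 LD2_c25 LD3_c30)))))))))))))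
theorem f470561 : Led Lsl_et (LP (LK LD1_c13 LD2_c41 LD3_c55)) = (LP (LK LD1_c7 LD2_c14 LD3_c20)) :=
  Lre_e IH (LK LD1_c13 LD2_c41 LD3_c55) (LK LD1_c7 LD2_c14 LD3_c20) Lrfl Lrfl
theorem f475306 : Led Lsl_cf (LP (LK LD1_c13 LD2_c41 LD3_c55)) = (LP (LK LD1_c14 LD2_c46 LD3_c22)) :=
  Lgr Lrot39 (Lpr_et (f470561 IH) (Lpr_ct (K35.f475302 IH) (Lpr_et (K34.f469463 IH) (Lpn (LP (LK LD1_c14 LD2_c46 LD3_c22))))))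
theorem f554073 : Led Lsl_df (LP (LK LD1_c13 LD2_c41 LD3_c55)) = (LP (LK LD1_c17 LD2_c15 LD3_c32)) :=
  Lgr Lrot84 (Lpr_cf (f475306 IH) (Lpe (K34.f469461 IH) (Lpe (K34.f469254 IH) (Lpe (K36.f469253 IH) (Lpe (K37.f469266 IH) (Lpe (f543580 IH) (Lpr_gt (K37.f543597 IH) (Lpr_dt (f208973 IH) (Lpr_gt (f554071 IH) (Lpn (LP (LK LD1_c17 LD2_c15 LD3_c32))))))))))))
theorem f554078 : Led Lsl_gf (LP (LK LD1_c13 LD2_c32 LD3_c1)) = (LP (LK LD1_c13 LD2_c41 LD3_c55)) :=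
  Lgr Lrot134 (Lpe (f524430 IH) (Lpe (f543277 IH) (Lpr_gt (f227400 IH) (Lpe (K37.f59323 IH) (Lpr_dt (K37.f59322 IH) (Lpr_gt (K11.f201945 IH) (Lpe (f38138 IH) (Lpe (K39.f554053 IH) (Lpr_gt (f554071 IH) (Lpe (f554073 IH) (Lpn (LP (LK LD1_c13 LD2_c41 LD3_c55)))))))))))))
theorem f524431 : Led Lsl_ct (LP (LK LD1_c22 LD2_c53 LD3_c48)) = (LP (LK LD1_c13 LD2_c32 LD3_c1)) :=
  Lre_c IH (LK LD1_c22 LD2_c53 LD3_c48) (LK LD1_c13 LD2_c32 LD3_c1) Lrfl Lrfl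
theorem f489597 : Led Lsl_at (LP (LK LD1_c13 LD2_c56 LD3_c7)) = (LP (LK LD1_c23 LD2_c27 LD3_c11)) :=
  Lre_a IH (LK LD1_c13 LD2_c56 LD3_c7) (LK LD1_c23 LD2_c27 LD3_c11) Lrfl Lrfl
theorem f492800 : Led Lsl_af (LP (LK LD1_c7 LD2_c45 LD3_c35)) = (LP (LK LD1_c14 LD2_c2 LD3_c59)) :=
  Lgr Lrot117 (Lpe (K34.f489593 IH) (Lpr_at (f489597 IH) (Lpr_dt (K34.f492797 IH) (Lpn (LP (LK LD1_c14 LD2_c2 LD3_c59))))))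
theorem f477501 : Led Lsl_gt (LP (LK LD1_c14 LD2_c38 LD3_c14)) = (LP (LK LD1_c7 LD2_c45 LD3_c35)) :=
  Lre_g IH (LK LD1_c14 LD2_c38 LD3_c14) (LK LD1_c7 LD2_c45 LD3_c35) Lrfl Lrfl
theorem f527063 : Led Lsl_gf (LP (LK LD1_c14 LD2_c38 LD3_c14)) = (LP (LK LD1_c14 LD2_c48 LD3_c33)) :=
  Lgr Lrot47 (Lpr_gt (f477501 IH) (Lpr_af (f492800 IH) (Lpr_ff (K37.f527058 IH) (Lpn (LP (LK LD1_c14 LD2_c48 LD3_c33))))))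
theorem f524400 : Led Lsl_ft (LP (LK LD1_c7 LD2_c51 LD3_c1)) = (LP (LK LD1_c14 LD2_c48 LD3_c35)) :=
  Lre_f IH (LK LD1_c7 LD2_c51 LD3_c1) (LK LD1_c14 LD2_c48 LD3_c35) Lrfl Lrfl
theorem f527065 : Led Lsl_af (LP (LK LD1_c14 LD2_c38 LD3_c14)) = (LP (LK LD1_c14 LD2_c48 LD3_c35)) :=
  Lgr Lrot31 (Lpr_gf (f527063 IH) (Lpe (K37.f477091 IH) (Lpr_ft (f524400 IH) (Lpn (LP (LK LD1_c14 LD2_c48 LD3_c35))))))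
theorem f527067 : Led Lsl_at (LP (LK LD1_c14 LD2_c38 LD3_c14)) = (LP (LK LD1_c14 LD2_c48 LD3_c35)) :=
  Lgr Lrot100 (Lpr_af (f527065 IH) (Lpn (LP (LK LD1_c14 LD2_c48 LD3_c35))))
theorem f527071 : Led Lsl_ft (LP (LK LD1_c14 LD2_c38 LD3_c14)) = (LP (LK LD1_c14 LD2_c48 LD3_c28)) :=
  Lgr Lrot101 (Lpr_af (f527065 IH) (Lpe (f524400 IH) (Lpe (K34.f524378 IH) (Lpn (LP (LK LD1_c14 LD2_c48 LD3_c28))))))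
theorem f527075 : Led Lsl_ff (LP (LK LD1_c14 LD2_c38 LD3_c14)) = (LP (LK LD1_c14 LD2_c48 LD3_c28)) :=
  Lgr Lrot3 (Lpr_ft (f527071 IH) (Lpn (LP (LK LD1_c14 LD2_c48 LD3_c28))))
theorem f535460 : Led Lsl_gt (LP (LK LD1_c14 LD2_c48 LD3_c28)) = (LP (LK LD1_c14 LD2_c38 LD3_c15)) :=
  Lgr Lrot5 (Lpe (f527075 IH) (Lpr_at (f527067 IH) (Lpr_gf (K35.f535458 IH) (Lpn (LP (LK LD1_c14 LD2_c38 LD3_c15))))))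
theorem f464668 : Led Lsl_bt (LP (LK LD1_c3 LD2_c56 LD3_c22)) = (LP (LK LD1_c7 LD2_c54 LD3_c29)) :=
  Lre_b IH (LK LD1_c3 LD2_c56 LD3_c22) (LK LD1_c7 LD2_c54 LD3_c29) Lrfl Lrfl
theorem f554085 : Led Lsl_gt (LP (LK LD1_c7 LD2_c54 LD3_c29)) = (LP (LK LD1_c14 LD2_c46 LD3_c22)) :=
  Lgr Lrot82 (Lpe (f464668 IH) (Lpe (K33.f464628 IH) (Lpr_gf (K32.f464715 IH) (Lpr_cf (K35.f479827 IH) (Lpe (K35.f493127 IH) (Lpe (f535460 IH) (Lpe (K34.f524423 IH) (Lpr_ct (f524431 IH) (Lpr_gf (f554078 IH) (Lpr_cf (f475306 IH) (Lpn (LP (LK LD1_c14 LD2_c46 LD3_c22)))))))))))))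
theorem f520565 : Led Lsl_ff (LP (LK LD1_c13 LD2_c21 LD3_c24)) = (LP (LK LD1_c13 LD2_c22 LD3_c59)) :=
  Lgr Lrot19 (Lpe (K33.f477288 IH) (Lpr_ft (K33.f520557 IH) (Lpe (K29.f477176 IH) (Lpn (LP (LK LD1_c13 LD2_c22 LD3_c59))))))
theorem f520570 : Led Lsl_ft (LP (LK LD1_c7 LD2_c47 LD3_c49)) = (LP (LK LD1_c7 LD2_c3 LD3_c25)) :=
  Lgr Lrot4 (Lpr_cf (K29.f477271 IH) (Lpr_ff (f520565 IH) (Lpe (K29.f461784 IH) (Lpn (LP (LK LD1_c7 LD2_c3 LD3_c25))))))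
theorem f520574 : Led Lsl_ff (LP (LK LD1_c7 LD2_c47 LD3_c49)) = (LP (LK LD1_c7 LD2_c3 LD3_c25)) :=
  Lgr Lrot3 (Lpr_ft (f520570 IH) (Lpn (LP (LK LD1_c7 LD2_c3 LD3_c25))))
theorem f520578 : Led Lsl_ft (LP (LK LD1_c3 LD2_c52 LD3_c60)) = (LP (LK LD1_c3 LD2_c52 LD3_c55)) :=
  Lgr Lrot54 (Lpe (K29.f461259 IH) (Lpr_ff (f520574 IH) (Lpr_df (K29.f477179 IH) (Lpn (LP (LK LD1_c3 LD2_c52 LD3_c55))))))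
theorem f464042 : Led Lsl_bt (LP (LK LD1_c3 LD2_c52 LD3_c55)) = (LP (LK LD1_c7 LD2_c47 LD3_c40)) :=
  Lre_b IH (LK LD1_c3 LD2_c52 LD3_c55) (LK LD1_c7 LD2_c47 LD3_c40) Lrfl Lrfl
theorem f520582 : Led Lsl_ff (LP (LK LD1_c7 LD2_c47 LD3_c48)) = (LP (LK LD1_c7 LD2_c47 LD3_c40)) :=
  Lgr Lrot25 (Lpr_bt (K33.f461538 IH) (Lpr_ft (f520578 IH) (Lpr_bt (f464042 IH) (Lpn (LP (LK LD1_c7 LD2_c47 LD3_c40))))))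
theorem f520586 : Led Lsl_ft (LP (LK LD1_c7 LD2_c47 LD3_c48)) = (LP (LK LD1_c7 LD2_c47 LD3_c40)) :=
  Lgr Lrot48 (Lpr_ff (f520582 IH) (Lpn (LP (LK LD1_c7 LD2_c47 LD3_c40))))
theorem f451958 : Led Lsl_ct (LP (LK LD1_c3 LD2_c56 LD3_c25)) = (LP (LK LD1_c7 LD2_c54 LD3_c33)) :=
  Lre_c IH (LK LD1_c3 LD2_c56 LD3_c25) (LK LD1_c7 LD2_c54 LD3_c33) Lrfl Lrfl
theorem f451959 : Led Lsl_bt (LP (LK LD1_c7 LD2_c54 LD3_c32)) = (LP (LK LD1_c3 LD2_c56 LD3_c25)) :=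
  Lre_b IH (LK LD1_c7 LD2_c54 LD3_c32) (LK LD1_c3 LD2_c56 LD3_c25) Lrfl Lrfl
theorem f474026 : Led Lsl_cf (LP (LK LD1_c7 LD2_c54 LD3_c32)) = (LP (LK LD1_c7 LD2_c47 LD3_c40)) :=
  Lgr Lrot97 (Lpr_bt (f451959 IH) (Lpr_ct (f451958 IH) (Lpr_bt (K32.f474022 IH) (Lpe (K29.f463711 IH) (Lpr_bt (f464042 IH) (Lpn (LP (LK LD1_c7 LD2_c47 LD3_c40))))))))
theorem f520590 : Led Lsl_ff (LP (LK LD1_c7 LD2_c54 LD3_c28)) = (LP (LK LD1_c7 LD2_c54 LD3_c32)) :=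
  Lgr Lrot23 (Lpr_ct (K33.f479841 IH) (Lpr_ft (f520586 IH) (Lpe (f474026 IH) (Lpn (LP (LK LD1_c7 LD2_c54 LD3_c32))))))
theorem f474031 : Led Lsl_at (LP (LK LD1_c14 LD2_c55 LD3_c9)) = (LP (LK LD1_c7 LD2_c54 LD3_c32)) :=
  Lre_a IH (LK LD1_c14 LD2_c55 LD3_c9) (LK LD1_c7 LD2_c54 LD3_c32) Lrfl Lrfl
theorem f520592 : Led Lsl_ft (LP (LK LD1_c14 LD2_c55 LD3_c1)) = (LP (LK LD1_c14 LD2_c55 LD3_c9)) :=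
  Lgr Lrot101 (Lpe (K33.f479848 IH) (Lpr_ff (f520590 IH) (Lpe (f474031 IH) (Lpn (LP (LK LD1_c14 LD2_c55 LD3_c9))))))
theorem f464438 : Led Lsl_bt (LP (LK LD1_c3 LD2_c56 LD3_c25)) = (LP (LK LD1_c7 LD2_c54 LD3_c32)) :=
  Lre_b IH (LK LD1_c3 LD2_c56 LD3_c25) (LK LD1_c7 LD2_c54 LD3_c32) Lrfl Lrfl
theorem f459056 : Led Lsl_bt (LP (LK LD1_c13 LD2_c25 LD3_c37)) = (LP (LK LD1_c7 LD2_c4 LD3_c60)) :=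
  Lre_b IH (LK LD1_c13 LD2_c25 LD3_c37) (LK LD1_c7 LD2_c4 LD3_c60) Lrfl Lrfl
theorem f479988 : Led Lsl_dt (LP (LK LD1_c7 LD2_c54 LD3_c32)) = (LP (LK LD1_c13 LD2_c25 LD3_c37)) :=
  Lgr Lrot79 (Lpe (f464438 IH) (Lpr_df (K33.f479856 IH) (Lpe (f459056 IH) (Lpn (LP (LK LD1_c13 LD2_c25 LD3_c37))))))
theorem f480522 : Led Lsl_df (LP (LK LD1_c7 LD2_c54 LD3_c32)) = (LP (LK LD1_c13 LD2_c25 LD3_c37)) :=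
  Lgr Lrot38 (Lpr_dt (f479988 IH) (Lpn (LP (LK LD1_c13 LD2_c25 LD3_c37))))
theorem f474028 : Led Lsl_at (LP (LK LD1_c7 LD2_c54 LD3_c32)) = (LP (LK LD1_c14 LD2_c55 LD3_c9)) :=
  Lre_a IH (LK LD1_c7 LD2_c54 LD3_c32) (LK LD1_c14 LD2_c55 LD3_c9) Lrfl Lrfl
theorem f480525 : Led Lsl_at (LP (LK LD1_c22 LD2_c44 LD3_c45)) = (LP (LK LD1_c13 LD2_c25 LD3_c37)) :=
  Lre_a IH (LK LD1_c22 LD2_c44 LD3_c45) (LK LD1_c13 LD2_c25 LD3_c37) Lrfl Lrfl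
theorem f480526 : Led Lsl_dt (LP (LK LD1_c14 LD2_c55 LD3_c9)) = (LP (LK LD1_c22 LD2_c44 LD3_c45)) :=
  Lgr Lrot44 (Lpe (f474028 IH) (Lpr_df (f480522 IH) (Lpe (f480525 IH) (Lpn (LP (LK LD1_c22 LD2_c44 LD3_c45))))))
theorem f520594 : Led Lsl_ff (LP (LK LD1_c22 LD2_c43 LD3_c28)) = (LP (LK LD1_c22 LD2_c44 LD3_c45)) :=
  Lgr Lrot19 (Lpe (K33.f480419 IH) (Lpr_ft (f520592 IH) (Lpr_dt (f480526 IH) (Lpn (LP (LK LD1_c22 LD2_c44 LD3_c45))))))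
theorem f468135 : Led Lsl_bt (LP (LK LD1_c7 LD2_c4 LD3_c36)) = (LP (LK LD1_c13 LD2_c24 LD3_c59)) :=
  Lre_b IH (LK LD1_c7 LD2_c4 LD3_c36) (LK LD1_c13 LD2_c24 LD3_c59) Lrfl Lrfl
theorem f480494 : Led Lsl_at (LP (LK LD1_c13 LD2_c24 LD3_c59)) = (LP (LK LD1_c22 LD2_c43 LD3_c35)) :=
  Lre_a IH (LK LD1_c13 LD2_c24 LD3_c59) (LK LD1_c22 LD2_c43 LD3_c35) Lrfl Lrfl
theorem f520379 : Led Lsl_bt (LP (LK LD1_c22 LD2_c43 LD3_c35)) = (LP (LK LD1_c22 LD2_c44 LD3_c45)) :=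
  Lgr Lrot62 (Lpe (f480494 IH) (Lpe (f468135 IH) (Lpr_af (K33.f520375 IH) (Lpe (f459056 IH) (Lpe (f480525 IH) (Lpn (LP (LK LD1_c22 LD2_c44 LD3_c45))))))))
theorem f520602 : Led Lsl_ft (LP (LK LD1_c22 LD2_c44 LD3_c50)) = (LP (LK LD1_c22 LD2_c43 LD3_c35)) :=
  Lgr Lrot75 (Lpe (K33.f520341 IH) (Lpr_ff (f520594 IH) (Lpe (f520379 IH) (Lpn (LP (LK LD1_c22 LD2_c43 LD3_c35))))))
theorem f520608 : Led Lsl_ff (LP (LK LD1_c22 LD2_c44 LD3_c50)) = (LP (LK LD1_c22 LD2_c43 LD3_c35)) :=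
  Lgr Lrot3 (Lpr_ft (f520602 IH) (Lpn (LP (LK LD1_c22 LD2_c43 LD3_c35))))
theorem f446544 : Led Lsl_bt (LP (LK LD1_c13 LD2_c24 LD3_c59)) = (LP (LK LD1_c7 LD2_c4 LD3_c36)) :=
  Lre_b IH (LK LD1_c13 LD2_c24 LD3_c59) (LK LD1_c7 LD2_c4 LD3_c36) Lrfl Lrfl
theorem f480039 : Led Lsl_dt (LP (LK LD1_c7 LD2_c54 LD3_c29)) = (LP (LK LD1_c13 LD2_c24 LD3_c59)) :=
  Lgr Lrot79 (Lpe (f464668 IH) (Lpr_df (K33.f480036 IH) (Lpe (f446544 IH) (Lpn (LP (LK LD1_c13 LD2_c24 LD3_c59))))))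
theorem f480497 : Led Lsl_df (LP (LK LD1_c7 LD2_c54 LD3_c29)) = (LP (LK LD1_c13 LD2_c24 LD3_c59)) :=
  Lgr Lrot38 (Lpr_dt (f480039 IH) (Lpn (LP (LK LD1_c13 LD2_c24 LD3_c59))))
theorem f464676 : Led Lsl_at (LP (LK LD1_c7 LD2_c54 LD3_c29)) = (LP (LK LD1_c14 LD2_c55 LD3_c3)) :=
  Lre_a IH (LK LD1_c7 LD2_c54 LD3_c29) (LK LD1_c14 LD2_c55 LD3_c3) Lrfl Lrfl
theorem f480501 : Led Lsl_at (LP (LK LD1_c22 LD2_c43 LD3_c35)) = (LP (LK LD1_c13 LD2_c24 LD3_c59)) :=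
  Lre_a IH (LK LD1_c22 LD2_c43 LD3_c35) (LK LD1_c13 LD2_c24 LD3_c59) Lrfl Lrfl
theorem f480502 : Led Lsl_dt (LP (LK LD1_c14 LD2_c55 LD3_c3)) = (LP (LK LD1_c22 LD2_c43 LD3_c35)) :=
  Lgr Lrot44 (Lpe (f464676 IH) (Lpr_df (f480497 IH) (Lpe (f480501 IH) (Lpn (LP (LK LD1_c22 LD2_c43 LD3_c35))))))
theorem f520612 : Led Lsl_ft (LP (LK LD1_c14 LD2_c50 LD3_c58)) = (LP (LK LD1_c14 LD2_c55 LD3_c3)) :=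
  Lgr Lrot54 (Lpe (K33.f472678 IH) (Lpr_ff (f520608 IH) (Lpe (f480502 IH) (Lpn (LP (LK LD1_c14 LD2_c55 LD3_c3))))))
theorem f472692 : Led Lsl_at (LP (LK LD1_c7 LD2_c52 LD3_c21)) = (LP (LK LD1_c14 LD2_c50 LD3_c58)) :=
  Lre_a IH (LK LD1_c7 LD2_c52 LD3_c21) (LK LD1_c14 LD2_c50 LD3_c58) Lrfl Lrfl
theorem f464683 : Led Lsl_at (LP (LK LD1_c14 LD2_c55 LD3_c3)) = (LP (LK LD1_c7 LD2_c54 LD3_c29)) :=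
  Lre_a IH (LK LD1_c14 LD2_c55 LD3_c3) (LK LD1_c7 LD2_c54 LD3_c29) Lrfl Lrfl
theorem f520614 : Led Lsl_ff (LP (LK LD1_c7 LD2_c52 LD3_c21)) = (LP (LK LD1_c7 LD2_c54 LD3_c29)) :=
  Lgr Lrot30 (Lpr_at (f472692 IH) (Lpr_ft (f520612 IH) (Lpr_at (f464683 IH) (Lpn (LP (LK LD1_c7 LD2_c54 LD3_c29))))))
theorem f554087 : Led Lsl_gf (LP (LK LD1_c14 LD2_c50 LD3_c58)) = (LP (LK LD1_c14 LD2_c46 LD3_c22)) :=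
  Lgr Lrot76 (Lpe (f472692 IH) (Lpr_ff (f520614 IH) (Lpr_gt (f554085 IH) (Lpn (LP (LK LD1_c14 LD2_c46 LD3_c22))))))
theorem f472688 : Led Lsl_df (LP (LK LD1_c22 LD2_c44 LD3_c50)) = (LP (LK LD1_c14 LD2_c50 LD3_c58)) :=
  Lgr Lrot38 (Lpr_dt (K33.f472678 IH) (Lpn (LP (LK LD1_c14 LD2_c50 LD3_c58))))
theorem f475309 : Led Lsl_ct (LP (LK LD1_c13 LD2_c41 LD3_c55)) = (LP (LK LD1_c14 LD2_c46 LD3_c22)) :=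
  Lgr Lrot59 (Lpr_cf (f475306 IH) (Lpn (LP (LK LD1_c14 LD2_c46 LD3_c22))))
theorem f439578 : Led Lsl_dt (LP (LK LD1_c13 LD2_c47 LD3_c20)) = (LP (LK LD1_c7 LD2_c17 LD3_c18)) :=
  Lre_d IH (LK LD1_c13 LD2_c47 LD3_c20) (LK LD1_c7 LD2_c17 LD3_c18) Lrfl Lrfl
theorem f543279 : Led Lsl_ef (LP (LK LD1_c16 LD2_c27 LD3_c38)) = (LP (LK LD1_c13 LD2_c32 LD3_c0)) :=
  Lgr Lrot88 (Lpr_et (f543275 IH) (Lpn (LP (LK LD1_c13 LD2_c32 LD3_c0))))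
theorem f524070 : Led Lsl_dt (LP (LK LD1_c7 LD2_c8 LD3_c45)) = (LP (LK LD1_c13 LD2_c32 LD3_c0)) :=
  Lre_d IH (LK LD1_c7 LD2_c8 LD3_c45) (LK LD1_c13 LD2_c32 LD3_c0) Lrfl Lrfl
theorem f524917 : Led Lsl_et (LP (LK LD1_c13 LD2_c32 LD3_c1)) = (LP (LK LD1_c7 LD2_c8 LD3_c45)) :=
  Lre_e IH (LK LD1_c13 LD2_c32 LD3_c1) (LK LD1_c7 LD2_c8 LD3_c45) Lrfl Lrfl
theorem f543308 : Led Lsl_et (LP (LK LD1_c26 LD2_c24 LD3_c51)) = (LP (LK LD1_c22 LD2_c53 LD3_c49)) :=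
  Lgr Lrot71 (Lpe (f227399 IH) (Lpr_ef (f543279 IH) (Lpe (f524070 IH) (Lpe (f524917 IH) (Lpe (f524430 IH) (Lpn (LP (LK LD1_c22 LD2_c53 LD3_c49))))))))
theorem f554057 : Led Lsl_gf (LP (LK LD1_c13 LD2_c47 LD3_c20)) = (LP (LK LD1_c22 LD2_c53 LD3_c49)) :=
  Lgr Lrot138 (Lpr_dt (f439578 IH) (Lpr_gt (K34.f439556 IH) (Lpe (K39.f439566 IH) (Lpr_et (K39.f554047 IH) (Lpr_gt (K36.f255485 IH) (Lpe (K36.f204971 IH) (Lpe (K36.f227407 IH) (Lpr_gt (K37.f227398 IH) (Lpe (f227421 IH) (Lpr_et (f543308 IH) (Lpn (LP (LK LD1_c22 LD2_c53 LD3_c49)))))))))))))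
theorem f116262 : Led Lsl_dt (LP (LK LD1_c14 LD2_c7 LD3_c26)) = (LP (LK LD1_c7 LD2_c28 LD3_c56)) :=
  Lre_d IH (LK LD1_c14 LD2_c7 LD3_c26) (LK LD1_c7 LD2_c28 LD3_c56) Lrfl Lrfl
theorem f554142 : Led Lsl_gt (LP (LK LD1_c22 LD2_c44 LD3_c50)) = (LP (LK LD1_c14 LD2_c7 LD3_c26)) :=
  Lgr Lrot49 (Lpr_df (f472688 IH) (Lpr_gf (f554087 IH) (Lpe (f475309 IH) (Lpe (f554078 IH) (Lpr_dt (K39.f535507 IH) (Lpe (f554057 IH) (Lpr_dt (f439578 IH) (Lpe (K34.f469397 IH) (Lpe (f116262 IH) (Lpn (LP (LK LD1_c14 LD2_c7 LD3_c26))))))))))))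
theorem f554144 : Led Lsl_gf (LP (LK LD1_c13 LD2_c24 LD3_c59)) = (LP (LK LD1_c14 LD2_c7 LD3_c26)) :=
  Lgr Lrot76 (Lpe (f480501 IH) (Lpe (f520602 IH) (Lpr_gt (f554142 IH) (Lpn (LP (LK LD1_c14 LD2_c7 LD3_c26))))))
theorem f459036 : Led Lsl_ct (LP (LK LD1_c13 LD2_c24 LD3_c59)) = (LP (LK LD1_c22 LD2_c43 LD3_c36)) :=
  Lre_c IH (LK LD1_c13 LD2_c24 LD3_c59) (LK LD1_c22 LD2_c43 LD3_c36) Lrfl Lrfl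
theorem f459037 : Led Lsl_gt (LP (LK LD1_c22 LD2_c43 LD3_c36)) = (LP (LK LD1_c30 LD2_c40 LD3_c57)) :=
  Lre_g IH (LK LD1_c22 LD2_c43 LD3_c36) (LK LD1_c30 LD2_c40 LD3_c57) Lrfl Lrfl
theorem f116264 : Led Lsl_dt (LP (LK LD1_c7 LD2_c28 LD3_c56)) = (LP (LK LD1_c14 LD2_c7 LD3_c26)) :=
  Lre_d IH (LK LD1_c7 LD2_c28 LD3_c56) (LK LD1_c14 LD2_c7 LD3_c26) Lrfl Lrfl
theorem f116263 : Led Lsl_dt (LP (LK LD1_c23 LD2_c3 LD3_c22)) = (LP (LK LD1_c13 LD2_c38 LD3_c15)) :=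
  Lre_d IH (LK LD1_c23 LD2_c3 LD3_c22) (LK LD1_c13 LD2_c38 LD3_c15) Lrfl Lrfl
theorem f554148 : Led Lsl_ct (LP (LK LD1_c30 LD2_c40 LD3_c57)) = (LP (LK LD1_c23 LD2_c3 LD3_c22)) :=
  Lgr Lrot110 (Lpe (f459037 IH) (Lpe (f459036 IH) (Lpr_gf (f554144 IH) (Lpe (f116264 IH) (Lpr_gt (K34.f116155 IH) (Lpe (K36.f116136 IH) (Lpr_gt (K37.f106229 IH) (Lpr_ct (K37.f116260 IH) (Lpe (f116263 IH) (Lpn (LP (LK LD1_c23 LD2_c3 LD3_c22))))))))))))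
theorem f560497 : Led Lsl_dt (LP (LK LD1_c31 LD2_c2 LD3_c60)) = (LP (LK LD1_c30 LD2_c40 LD3_c57)) :=
  Lgr Lrot105 (Lpr_gf (K39.f560493 IH) (Lpe (K39.f116166 IH) (Lpe (K39.f116181 IH) (Lpr_cf (f558915 IH) (Lpe (f558908 IH) (Lpr_dt (K37.f209128 IH) (Lpe (K37.f489388 IH) (Lpr_dt (f116261 IH) (Lpe (f554148 IH) (Lpn (LP (LK LD1_c30 LD2_c40 LD3_c57))))))))))))
theorem f560501 : Led Lsl_df (LP (LK LD1_c31 LD2_c2 LD3_c60)) = (LP (LK LD1_c30 LD2_c40 LD3_c57)) :=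
  Lgr Lrot38 (Lpr_dt (f560497 IH) (Lpn (LP (LK LD1_c30 LD2_c40 LD3_c57))))
theorem f560495 : Led Lsl_gt (LP (LK LD1_c31 LD2_c2 LD3_c60)) = (LP (LK LD1_c30 LD2_c52 LD3_c49)) :=
  Lgr Lrot46 (Lpr_gf (K39.f560493 IH) (Lpe (K36.f541960 IH) (Lpr_at (K36.f541954 IH) (Lpn (LP (LK LD1_c30 LD2_c52 LD3_c49))))))
theorem f469438 : Led Lsl_dt (LP (LK LD1_c14 LD2_c7 LD3_c24)) = (LP (LK LD1_c7 LD2_c28 LD3_c55)) :=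
  Lre_d IH (LK LD1_c14 LD2_c7 LD3_c24) (LK LD1_c7 LD2_c28 LD3_c55) Lrfl Lrfl
theorem f560503 : Led Lsl_gf (LP (LK LD1_c14 LD2_c7 LD3_c24)) = (LP (LK LD1_c13 LD2_c24 LD3_c59)) :=
  Lgr Lrot144 (Lpr_dt (f469438 IH) (Lpe (K35.f470232 IH) (Lpr_dt (K34.f469360 IH) (Lpe (K39.f560298 IH) (Lpr_df (K39.f560316 IH) (Lpe (f560495 IH) (Lpr_df (f560501 IH) (Lpe (f459037 IH) (Lpe (f459036 IH) (Lpn (LP (LK LD1_c13 LD2_c24 LD3_c59))))))))))))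
theorem f520397 : Led Lsl_ft (LP (LK LD1_c13 LD2_c24 LD3_c59)) = (LP (LK LD1_c13 LD2_c25 LD3_c40)) :=
  Lgr Lrot75 (Lpe (f468135 IH) (Lpr_ff (K33.f520395 IH) (Lpe (K33.f459256 IH) (Lpn (LP (LK LD1_c13 LD2_c25 LD3_c40))))))
theorem f560505 : Led Lsl_gt (LP (LK LD1_c14 LD2_c7 LD3_c24)) = (LP (LK LD1_c22 LD2_c44 LD3_c50)) :=
  Lgr Lrot46 (Lpr_gf (f560503 IH) (Lpr_ft (f520397 IH) (Lpr_at (K33.f472676 IH) (Lpn (LP (LK LD1_c22 LD2_c44 LD3_c50))))))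
theorem f116146 : Led Lsl_dt (LP (LK LD1_c7 LD2_c28 LD3_c55)) = (LP (LK LD1_c14 LD2_c7 LD3_c24)) :=
  Lre_d IH (LK LD1_c7 LD2_c28 LD3_c55) (LK LD1_c14 LD2_c7 LD3_c24) Lrfl Lrfl
theorem f106230 : Led Lsl_dt (LP (LK LD1_c7 LD2_c12 LD3_c3)) = (LP (LK LD1_c13 LD2_c38 LD3_c16)) :=
  Lre_d IH (LK LD1_c7 LD2_c12 LD3_c3) (LK LD1_c13 LD2_c38 LD3_c16) Lrfl Lrfl
theorem f116173 : Led Lsl_gt (LP (LK LD1_c13 LD2_c38 LD3_c16)) = (LP (LK LD1_c23 LD2_c3 LD3_c23)) :=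
  Lre_g IH (LK LD1_c13 LD2_c38 LD3_c16) (LK LD1_c23 LD2_c3 LD3_c23) Lrfl Lrfl
theorem f560509 : Led Lsl_dt (LP (LK LD1_c23 LD2_c3 LD3_c23)) = (LP (LK LD1_c22 LD2_c29 LD3_c4)) :=
  Lgr Lrot105 (Lpe (f116173 IH) (Lpe (f106230 IH) (Lpe (K37.f106229 IH) (Lpr_cf (K36.f116136 IH) (Lpr_gt (K35.f116145 IH) (Lpr_dt (f116146 IH) (Lpr_gt (f560505 IH) (Lpr_dt (K33.f472678 IH) (Lpe (K33.f480593 IH) (Lpn (LP (LK LD1_c22 LD2_c29 LD3_c4))))))))))))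
theorem f560513 : Led Lsl_df (LP (LK LD1_c23 LD2_c3 LD3_c23)) = (LP (LK LD1_c22 LD2_c29 LD3_c4)) :=
  Lgr Lrot38 (Lpr_dt (f560509 IH) (Lpn (LP (LK LD1_c22 LD2_c29 LD3_c4))))
def v2414 : LQ := Led Lsl_dt (LP (LK LD1_c1 LD2_c44 LD3_c43))
theorem f519562 : Led Lsl_dt (LP (LK LD1_c1 LD2_c44 LD3_c43)) = v2414 :=
  Lrfl
theorem f519564 : Led Lsl_df (LP (LK LD1_c1 LD2_c44 LD3_c43)) = v2414 :=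
  Lgr Lrot38 (Lpr_dt (f519562 IH) (Lpn v2414))
theorem f540323 : v2414 = (LP (LK LD1_c3 LD2_c5 LD3_c36)) :=
  (Llr Lrot18 (Lpe (f519564 IH) (Lpr_at (K4.f108276 IH) (Lpr_dt (K36.f540313 IH) (Lpe (K31.f272462 IH) (Lpn (LP (LK LD1_c3 LD2_c5 LD3_c36)))))))).symm
theorem f542967 : Led Lsl_dt (LP (LK LD1_c3 LD2_c36 LD3_c36)) = (LP (LK LD1_c2 LD2_c9 LD3_c28)) :=
  Lgr Lrot42 (Lpr_df (K37.f542960 IH) (Lpn (LP (LK LD1_c2 LD2_c9 LD3_c28))))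
theorem f160589 : Led Lsl_et (LP (LK LD1_c3 LD2_c36 LD3_c36)) = (LP (LK LD1_c7 LD2_c13 LD3_c31)) :=
  Lre_e IH (LK LD1_c3 LD2_c36 LD3_c36) (LK LD1_c7 LD2_c13 LD3_c31) Lrfl Lrfl
theorem f472690 : Led Lsl_et (LP (LK LD1_c14 LD2_c50 LD3_c58)) = (LP (LK LD1_c7 LD2_c52 LD3_c19)) :=
  Lre_e IH (LK LD1_c14 LD2_c50 LD3_c58) (LK LD1_c7 LD2_c52 LD3_c19) Lrfl Lrfl
theorem f123423 : Led Lsl_bt (LP (LK LD1_c3 LD2_c55 LD3_c15)) = (LP (LK LD1_c1 LD2_c54 LD3_c12)) :=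
  Lre_b IH (LK LD1_c3 LD2_c55 LD3_c15) (LK LD1_c1 LD2_c54 LD3_c12) Lrfl Lrfl
theorem f478617 : Led Lsl_ct (LP (LK LD1_c7 LD2_c13 LD3_c11)) = (LP (LK LD1_c3 LD2_c55 LD3_c15)) :=
  Lgr Lrot83 (Lpe (K33.f5992 IH) (Lpe (K29.f5958 IH) (Lpe (K29.f478255 IH) (Lpr_cf (K33.f478263 IH) (Lpe (f123423 IH) (Lpn (LP (LK LD1_c3 LD2_c55 LD3_c15))))))))
theorem f478635 : Led Lsl_at (LP (LK LD1_c3 LD2_c55 LD3_c15)) = (LP (LK LD1_c7 LD2_c52 LD3_c19)) :=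
  Lre_a IH (LK LD1_c3 LD2_c55 LD3_c15) (LK LD1_c7 LD2_c52 LD3_c19) Lrfl Lrfl
theorem f478636 : Led Lsl_cf (LP (LK LD1_c13 LD2_c40 LD3_c3)) = (LP (LK LD1_c7 LD2_c52 LD3_c19)) :=
  Lgr Lrot1 (Lpr_at (K33.f478634 IH) (Lpr_ct (f478617 IH) (Lpr_at (f478635 IH) (Lpn (LP (LK LD1_c7 LD2_c52 LD3_c19))))))
theorem f480596 : Led Lsl_ef (LP (LK LD1_c22 LD2_c29 LD3_c4)) = (LP (LK LD1_c13 LD2_c40 LD3_c3)) :=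
  Lgr Lrot28 (Lpr_ct (K33.f480593 IH) (Lpr_et (f472690 IH) (Lpe (f478636 IH) (Lpn (LP (LK LD1_c13 LD2_c40 LD3_c3))))))
theorem f480598 : Led Lsl_et (LP (LK LD1_c22 LD2_c29 LD3_c4)) = (LP (LK LD1_c13 LD2_c40 LD3_c3)) :=
  Lgr Lrot87 (Lpr_ef (f480596 IH) (Lpn (LP (LK LD1_c13 LD2_c40 LD3_c3))))
theorem f560521 : Led Lsl_gf (LP (LK LD1_c7 LD2_c13 LD3_c31)) = (LP (LK LD1_c13 LD2_c40 LD3_c3)) :=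
  Lgr Lrot141 (Lpe (f160589 IH) (Lpr_dt (f542967 IH) (Lpe (K31.f272460 IH) (Lpq (f540323 IH) (Lpe (f519562 IH) (Lpr_et (K4.f108278 IH) (Lpr_gt (K37.f106229 IH) (Lpr_dt (f106230 IH) (Lpr_gt (f116173 IH) (Lpr_df (f560513 IH) (Lpr_et (f480598 IH) (Lpn (LP (LK LD1_c13 LD2_c40 LD3_c3))))))))))))))
theorem f520054 : Led Lsl_ff (LP (LK LD1_c7 LD2_c15 LD3_c11)) = (LP (LK LD1_c13 LD2_c40 LD3_c3)) :=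
  Lgr Lrot23 (Lpr_ct (K33.f520015 IH) (Lpr_ft (K33.f520009 IH) (Lpe (f478636 IH) (Lpn (LP (LK LD1_c13 LD2_c40 LD3_c3))))))
theorem f520290 : Led Lsl_at (LP (LK LD1_c7 LD2_c15 LD3_c11)) = (LP (LK LD1_c3 LD2_c37 LD3_c19)) :=
  Lre_a IH (LK LD1_c7 LD2_c15 LD3_c11) (LK LD1_c3 LD2_c37 LD3_c19) Lrfl Lrfl
theorem f560523 : Led Lsl_gt (LP (LK LD1_c7 LD2_c13 LD3_c31)) = (LP (LK LD1_c3 LD2_c37 LD3_c19)) :=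
  Lgr Lrot46 (Lpr_gf (f560521 IH) (Lpe (f520054 IH) (Lpr_at (f520290 IH) (Lpn (LP (LK LD1_c3 LD2_c37 LD3_c19))))))
theorem f160588 : Led Lsl_et (LP (LK LD1_c7 LD2_c25 LD3_c7)) = (LP (LK LD1_c3 LD2_c42 LD3_c13)) :=
  Lre_e IH (LK LD1_c7 LD2_c25 LD3_c7) (LK LD1_c3 LD2_c42 LD3_c13) Lrfl Lrfl
theorem f160590 : Led Lsl_cf (LP (LK LD1_c7 LD2_c25 LD3_c7)) = (LP (LK LD1_c7 LD2_c13 LD3_c31)) :=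
  Lgr Lrot39 (Lpr_et (f160588 IH) (Lpr_ct (K8.f159807 IH) (Lpr_et (f160589 IH) (Lpn (LP (LK LD1_c7 LD2_c13 LD3_c31))))))
theorem f160602 : Led Lsl_ct (LP (LK LD1_c7 LD2_c25 LD3_c7)) = (LP (LK LD1_c7 LD2_c13 LD3_c31)) :=
  Lgr Lrot59 (Lpr_cf (f160590 IH) (Lpn (LP (LK LD1_c7 LD2_c13 LD3_c31))))
theorem f36504 : Led Lsl_et (LP (LK LD1_c3 LD2_c40 LD3_c5)) = (LP (LK LD1_c7 LD2_c20 LD3_c18)) :=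
  Lre_e IH (LK LD1_c3 LD2_c40 LD3_c5) (LK LD1_c7 LD2_c20 LD3_c18) Lrfl Lrfl
theorem f160596 : Led Lsl_bf (LP (LK LD1_c7 LD2_c25 LD3_c7)) = (LP (LK LD1_c7 LD2_c20 LD3_c18)) :=
  Lgr Lrot96 (Lpr_et (f160588 IH) (Lpr_bt (K8.f160592 IH) (Lpr_et (f36504 IH) (Lpn (LP (LK LD1_c7 LD2_c20 LD3_c18))))))
theorem f160598 : Led Lsl_bt (LP (LK LD1_c7 LD2_c25 LD3_c7)) = (LP (LK LD1_c7 LD2_c20 LD3_c18)) :=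
  Lgr Lrot127 (Lpr_bf (f160596 IH) (Lpn (LP (LK LD1_c7 LD2_c20 LD3_c18))))
theorem f456245 : Led Lsl_ct (LP (LK LD1_c7 LD2_c15 LD3_c6)) = (LP (LK LD1_c3 LD2_c37 LD3_c19)) :=
  Lre_c IH (LK LD1_c7 LD2_c15 LD3_c6) (LK LD1_c3 LD2_c37 LD3_c19) Lrfl Lrfl
theorem f560527 : Led Lsl_gf (LP (LK LD1_c7 LD2_c20 LD3_c18)) = (LP (LK LD1_c7 LD2_c14 LD3_c48)) :=
  Lgr Lrot124 (Lpe (f160598 IH) (Lpr_ct (f160602 IH) (Lpr_gt (f560523 IH) (Lpe (f456245 IH) (Lpr_bt (K33.f456240 IH) (Lpr_gt (K29.f456230 IH) (Lpr_ct (K6.f122802 IH) (Lpr_gt (K33.f123364 IH) (Lpe (K33.f123379 IH) (Lpr_bt (K35.f487861 IH) (Lpn (LP (LK LD1_c7 LD2_c14 LD3_c48)))))))))))))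
theorem f108099 : Led Lsl_et (LP (LK LD1_c3 LD2_c42 LD3_c14)) = (LP (LK LD1_c7 LD2_c25 LD3_c9)) :=
  Lre_e IH (LK LD1_c3 LD2_c42 LD3_c14) (LK LD1_c7 LD2_c25 LD3_c9) Lrfl Lrfl
theorem f36500 : Led Lsl_et (LP (LK LD1_c7 LD2_c20 LD3_c18)) = (LP (LK LD1_c3 LD2_c40 LD3_c5)) :=
  Lre_e IH (LK LD1_c7 LD2_c20 LD3_c18) (LK LD1_c3 LD2_c40 LD3_c5) Lrfl Lrfl
theorem f445786 : Led Lsl_at (LP (LK LD1_c7 LD2_c25 LD3_c9)) = (LP (LK LD1_c7 LD2_c20 LD3_c18)) :=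
  Lgr Lrot80 (Lpe (f108099 IH) (Lpr_af (K39.f445782 IH) (Lpe (f36500 IH) (Lpn (LP (LK LD1_c7 LD2_c20 LD3_c18))))))
theorem f6027 : Led Lsl_bt (LP (LK LD1_c1 LD2_c43 LD3_c43)) = (LP (LK LD1_c3 LD2_c34 LD3_c5)) :=
  Lre_b IH (LK LD1_c1 LD2_c43 LD3_c43) (LK LD1_c3 LD2_c34 LD3_c5) Lrfl Lrfl
theorem f6028 : Led Lsl_gt (LP (LK LD1_c3 LD2_c34 LD3_c5)) = (LP (LK LD1_c7 LD2_c9 LD3_c16)) :=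
  Lre_g IH (LK LD1_c3 LD2_c34 LD3_c5) (LK LD1_c7 LD2_c9 LD3_c16) Lrfl Lrfl
theorem f6029 : Led Lsl_ct (LP (LK LD1_c7 LD2_c9 LD3_c16)) = (LP (LK LD1_c13 LD2_c33 LD3_c2)) :=
  Lre_c IH (LK LD1_c7 LD2_c9 LD3_c16) (LK LD1_c13 LD2_c33 LD3_c2) Lrfl Lrfl
theorem f6030 : Led Lsl_gf (LP (LK LD1_c7 LD2_c14 LD3_c48)) = (LP (LK LD1_c13 LD2_c33 LD3_c2)) :=
  Lgr Lrot129 (Lpe (K35.f6025 IH) (Lpr_bt (K35.f6024 IH) (Lpr_gt (K33.f6023 IH) (Lpr_bf (K3.f5984 IH) (Lpr_ct (K29.f5909 IH) (Lpr_gt (K2.f5940 IH) (Lpe (K29.f6026 IH) (Lpr_bt (f6027 IH) (Lpr_gt (f6028 IH) (Lpr_ct (f6029 IH) (Lpn (LP (LK LD1_c13 LD2_c33 LD3_c2)))))))))))))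
theorem f560530 : Led Lsl_ff (LP (LK LD1_c7 LD2_c25 LD3_c9)) = (LP (LK LD1_c13 LD2_c33 LD3_c2)) :=
  Lgr Lrot52 (Lpr_at (f445786 IH) (Lpr_gf (f560527 IH) (Lpr_gf (f6030 IH) (Lpn (LP (LK LD1_c13 LD2_c33 LD3_c2))))))
theorem f560584 : Led Lsl_ft (LP (LK LD1_c7 LD2_c25 LD3_c9)) = (LP (LK LD1_c13 LD2_c33 LD3_c2)) :=
  Lgr Lrot48 (Lpr_ff (f560530 IH) (Lpn (LP (LK LD1_c13 LD2_c33 LD3_c2))))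
theorem f108104 : Led Lsl_bt (LP (LK LD1_c14 LD2_c1 LD3_c50)) = (LP (LK LD1_c7 LD2_c25 LD3_c9)) :=
  Lre_b IH (LK LD1_c14 LD2_c1 LD3_c50) (LK LD1_c7 LD2_c25 LD3_c9) Lrfl Lrfl
theorem f6070 : Led Lsl_bt (LP (LK LD1_c13 LD2_c33 LD3_c2)) = (LP (LK LD1_c22 LD2_c55 LD3_c30)) :=
  Lre_b IH (LK LD1_c13 LD2_c33 LD3_c2) (LK LD1_c22 LD2_c55 LD3_c30) Lrfl Lrfl
theorem f560586 : Led Lsl_ff (LP (LK LD1_c14 LD2_c1 LD3_c50)) = (LP (LK LD1_c22 LD2_c55 LD3_c30)) :=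
  Lgr Lrot25 (Lpr_bt (f108104 IH) (Lpr_ft (f560584 IH) (Lpr_bt (f6070 IH) (Lpn (LP (LK LD1_c22 LD2_c55 LD3_c30))))))
theorem f203650 : Led Lsl_et (LP (LK LD1_c14 LD2_c1 LD3_c50)) = (LP (LK LD1_c7 LD2_c25 LD3_c8)) :=
  Lre_e IH (LK LD1_c14 LD2_c1 LD3_c50) (LK LD1_c7 LD2_c25 LD3_c8) Lrfl Lrfl
theorem f204050 : Led Lsl_et (LP (LK LD1_c7 LD2_c20 LD3_c19)) = (LP (LK LD1_c13 LD2_c52 LD3_c44)) :=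
  Lre_e IH (LK LD1_c7 LD2_c20 LD3_c19) (LK LD1_c13 LD2_c52 LD3_c44) Lrfl Lrfl
theorem f445807 : Led Lsl_af (LP (LK LD1_c14 LD2_c1 LD3_c50)) = (LP (LK LD1_c13 LD2_c52 LD3_c44)) :=
  Lgr Lrot50 (Lpr_et (f203650 IH) (Lpr_at (f445803 IH) (Lpr_et (f204050 IH) (Lpn (LP (LK LD1_c13 LD2_c52 LD3_c44))))))
theorem f445809 : Led Lsl_at (LP (LK LD1_c14 LD2_c1 LD3_c50)) = (LP (LK LD1_c13 LD2_c52 LD3_c44)) :=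
  Lgr Lrot100 (Lpr_af (f445807 IH) (Lpn (LP (LK LD1_c13 LD2_c52 LD3_c44))))
theorem f123204 : Led Lsl_gt (LP (LK LD1_c7 LD2_c49 LD3_c24)) = (LP (LK LD1_c3 LD2_c53 LD3_c55)) :=
  Lre_g IH (LK LD1_c7 LD2_c49 LD3_c24) (LK LD1_c3 LD2_c53 LD3_c55) Lrfl Lrfl
theorem f123220 : Led Lsl_ct (LP (LK LD1_c14 LD2_c45 LD3_c42)) = (LP (LK LD1_c7 LD2_c49 LD3_c24)) :=
  Lre_c IH (LK LD1_c14 LD2_c45 LD3_c42) (LK LD1_c7 LD2_c49 LD3_c24) Lrfl Lrfl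
theorem f456005 : Led Lsl_ct (LP (LK LD1_c7 LD2_c9 LD3_c9)) = (LP (LK LD1_c3 LD2_c34 LD3_c5)) :=
  Lre_c IH (LK LD1_c7 LD2_c9 LD3_c9) (LK LD1_c3 LD2_c34 LD3_c5) Lrfl Lrfl
theorem f6036 : Led Lsl_ct (LP (LK LD1_c13 LD2_c33 LD3_c2)) = (LP (LK LD1_c7 LD2_c9 LD3_c16)) :=
  Lre_c IH (LK LD1_c13 LD2_c33 LD3_c2) (LK LD1_c7 LD2_c9 LD3_c16) Lrfl Lrfl
theorem f456013 : Led Lsl_gf (LP (LK LD1_c14 LD2_c45 LD3_c42)) = (LP (LK LD1_c22 LD2_c55 LD3_c30)) :=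
  Lgr Lrot181 (Lpr_ct (f123220 IH) (Lpr_gt (f123204 IH) (Lpe (K33.f142517 IH) (Lpr_bt (K33.f123199 IH) (Lpr_gt (K24.f455992 IH) (Lpe (K33.f456000 IH) (Lpr_ct (f456005 IH) (Lpr_gt (f6028 IH) (Lpe (f6036 IH) (Lpr_bt (f6070 IH) (Lpn (LP (LK LD1_c22 LD2_c55 LD3_c30)))))))))))))
theorem f560603 : Led Lsl_gf (LP (LK LD1_c13 LD2_c52 LD3_c44)) = (LP (LK LD1_c14 LD2_c45 LD3_c42)) :=
  Lgr Lrot76 (Lpe (f445809 IH) (Lpr_ff (f560586 IH) (Lpe (f456013 IH) (Lpn (LP (LK LD1_c14 LD2_c45 LD3_c42))))))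
theorem f203657 : Led Lsl_et (LP (LK LD1_c7 LD2_c25 LD3_c8)) = (LP (LK LD1_c14 LD2_c1 LD3_c50)) :=
  Lre_e IH (LK LD1_c7 LD2_c25 LD3_c8) (LK LD1_c14 LD2_c1 LD3_c50) Lrfl Lrfl
theorem f203658 : Led Lsl_et (LP (LK LD1_c13 LD2_c52 LD3_c44)) = (LP (LK LD1_c7 LD2_c20 LD3_c19)) :=
  Lre_e IH (LK LD1_c13 LD2_c52 LD3_c44) (LK LD1_c7 LD2_c20 LD3_c19) Lrfl Lrfl
theorem f203659 : Led Lsl_ct (LP (LK LD1_c14 LD2_c1 LD3_c50)) = (LP (LK LD1_c13 LD2_c52 LD3_c44)) :=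
  Lgr Lrot15 (Lpe (f203657 IH) (Lpr_cf (K28.f203648 IH) (Lpe (f203658 IH) (Lpn (LP (LK LD1_c13 LD2_c52 LD3_c44))))))
theorem f123211 : Led Lsl_ct (LP (LK LD1_c7 LD2_c49 LD3_c24)) = (LP (LK LD1_c14 LD2_c45 LD3_c42)) :=
  Lre_c IH (LK LD1_c7 LD2_c49 LD3_c24) (LK LD1_c14 LD2_c45 LD3_c42) Lrfl Lrfl
theorem f485249 : Led Lsl_gt (LP (LK LD1_c7 LD2_c50 LD3_c40)) = (LP (LK LD1_c14 LD2_c47 LD3_c60)) :=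
  Lre_g IH (LK LD1_c7 LD2_c50 LD3_c40) (LK LD1_c14 LD2_c47 LD3_c60) Lrfl Lrfl
theorem f485250 : Led Lsl_gt (LP (LK LD1_c14 LD2_c47 LD3_c60)) = (LP (LK LD1_c14 LD2_c1 LD3_c45)) :=
  Lgr Lrot46 (Lpe (f485249 IH) (Lpr_ft (K33.f485223 IH) (Lpr_at (K37.f123522 IH) (Lpn (LP (LK LD1_c14 LD2_c1 LD3_c45))))))
theorem f142557 : Led Lsl_bt (LP (LK LD1_c7 LD2_c25 LD3_c49)) = (LP (LK LD1_c14 LD2_c1 LD3_c45)) :=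
  Lgr Lrot127 (Lpr_bf (K8.f142541 IH) (Lpn (LP (LK LD1_c14 LD2_c1 LD3_c45))))
theorem f123205 : Led Lsl_gt (LP (LK LD1_c7 LD2_c51 LD3_c19)) = (LP (LK LD1_c7 LD2_c49 LD3_c24)) :=
  Lgr Lrot5 (Lpr_ft (K33.f123178 IH) (Lpr_at (K28.f123142 IH) (Lpe (f123204 IH) (Lpn (LP (LK LD1_c7 LD2_c49 LD3_c24))))))
theorem f485252 : Led Lsl_bf (LP (LK LD1_c14 LD2_c47 LD3_c60)) = (LP (LK LD1_c14 LD2_c45 LD3_c42)) :=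
  Lgr Lrot156 (Lpr_gt (f485250 IH) (Lpe (f142557 IH) (Lpr_ct (K8.f142559 IH) (Lpr_gt (K29.f117155 IH) (Lpe (K29.f96373 IH) (Lpr_bt (K29.f481797 IH) (Lpe (K29.f123181 IH) (Lpr_ct (K33.f437630 IH) (Lpr_gt (f123205 IH) (Lpe (f123220 IH) (Lpn (LP (LK LD1_c14 LD2_c45 LD3_c42)))))))))))))
theorem f91278 : Led Lsl_gt (LP (LK LD1_c7 LD2_c35 LD3_c43)) = (LP (LK LD1_c3 LD2_c47 LD3_c26)) :=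
  Lre_g IH (LK LD1_c7 LD2_c35 LD3_c43) (LK LD1_c3 LD2_c47 LD3_c26) Lrfl Lrfl
theorem f132250 : Led Lsl_ct (LP (LK LD1_c14 LD2_c19 LD3_c5)) = (LP (LK LD1_c7 LD2_c35 LD3_c43)) :=
  Lre_c IH (LK LD1_c14 LD2_c19 LD3_c5) (LK LD1_c7 LD2_c35 LD3_c43) Lrfl Lrfl
theorem f123219 : Led Lsl_gt (LP (LK LD1_c0 LD2_c53 LD3_c42)) = (LP (LK LD1_c1 LD2_c54 LD3_c4)) :=
  Lre_g IH (LK LD1_c0 LD2_c53 LD3_c42) (LK LD1_c1 LD2_c54 LD3_c4) Lrfl Lrfl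
theorem f480910 : Led Lsl_bt (LP (LK LD1_c14 LD2_c19 LD3_c5)) = (LP (LK LD1_c7 LD2_c49 LD3_c24)) :=
  Lgr Lrot92 (Lpr_ct (f132250 IH) (Lpr_gt (f91278 IH) (Lpr_cf (K5.f132233 IH) (Lpr_bt (K5.f132182 IH) (Lpr_gt (K29.f480903 IH) (Lpr_ct (K35.f122786 IH) (Lpr_gt (f123219 IH) (Lpe (K29.f123191 IH) (Lpr_bt (K29.f122795 IH) (Lpr_gt (f123205 IH) (Lpn (LP (LK LD1_c7 LD2_c49 LD3_c24)))))))))))))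
theorem f485256 : Led Lsl_ct (LP (LK LD1_c7 LD2_c35 LD3_c43)) = (LP (LK LD1_c14 LD2_c19 LD3_c5)) :=
  Lre_c IH (LK LD1_c7 LD2_c35 LD3_c43) (LK LD1_c14 LD2_c19 LD3_c5) Lrfl Lrfl
theorem f91279 : Led Lsl_bt (LP (LK LD1_c14 LD2_c19 LD3_c4)) = (LP (LK LD1_c7 LD2_c35 LD3_c43)) :=
  Lre_b IH (LK LD1_c14 LD2_c19 LD3_c4) (LK LD1_c7 LD2_c35 LD3_c43) Lrfl Lrfl
theorem f485257 : Led Lsl_ct (LP (LK LD1_c14 LD2_c47 LD3_c60)) = (LP (LK LD1_c14 LD2_c19 LD3_c4)) :=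
  Lgr Lrot83 (Lpr_bf (f485252 IH) (Lpe (f123211 IH) (Lpe (f480910 IH) (Lpe (f485256 IH) (Lpe (f91279 IH) (Lpn (LP (LK LD1_c14 LD2_c19 LD3_c4))))))))
theorem f485259 : Led Lsl_cf (LP (LK LD1_c14 LD2_c47 LD3_c60)) = (LP (LK LD1_c14 LD2_c19 LD3_c4)) :=
  Lgr Lrot11 (Lpr_ct (f485257 IH) (Lpn (LP (LK LD1_c14 LD2_c19 LD3_c4))))
theorem f485254 : Led Lsl_bt (LP (LK LD1_c14 LD2_c47 LD3_c60)) = (LP (LK LD1_c14 LD2_c45 LD3_c42)) :=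
  Lgr Lrot127 (Lpr_bf (f485252 IH) (Lpn (LP (LK LD1_c14 LD2_c45 LD3_c42))))
theorem f485262 : Led Lsl_bt (LP (LK LD1_c7 LD2_c35 LD3_c43)) = (LP (LK LD1_c14 LD2_c19 LD3_c4)) :=
  Lre_b IH (LK LD1_c7 LD2_c35 LD3_c43) (LK LD1_c14 LD2_c19 LD3_c4) Lrfl Lrfl
theorem f485263 : Led Lsl_bt (LP (LK LD1_c7 LD2_c49 LD3_c24)) = (LP (LK LD1_c14 LD2_c19 LD3_c5)) :=
  Lgr Lrot128 (Lpe (f123220 IH) (Lpe (f485254 IH) (Lpr_cf (f485259 IH) (Lpe (f485262 IH) (Lpe (f132250 IH) (Lpn (LP (LK LD1_c14 LD2_c19 LD3_c5))))))))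
theorem f515802 : Led Lsl_gt (LP (LK LD1_c14 LD2_c19 LD3_c4)) = (LP (LK LD1_c14 LD2_c46 LD3_c5)) :=
  Lgr Lrot65 (Lpe (f485257 IH) (Lpr_bt (f485254 IH) (Lpr_gf (f456013 IH) (Lpe (f6070 IH) (Lpr_ct (f6036 IH) (Lpe (f6028 IH) (Lpe (f456005 IH) (Lpr_gf (K34.f515797 IH) (Lpr_bf (K8.f155655 IH) (Lpr_ct (K33.f136385 IH) (Lpn (LP (LK LD1_c14 LD2_c46 LD3_c5)))))))))))))
theorem f487934 : Led Lsl_at (LP (LK LD1_c7 LD2_c52 LD3_c14)) = (LP (LK LD1_c3 LD2_c55 LD3_c13)) :=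
  Lre_a IH (LK LD1_c7 LD2_c52 LD3_c14) (LK LD1_c3 LD2_c55 LD3_c13) Lrfl Lrfl
theorem f487935 : Led Lsl_at (LP (LK LD1_c3 LD2_c49 LD3_c34)) = (LP (LK LD1_c7 LD2_c40 LD3_c3)) :=
  Lre_a IH (LK LD1_c3 LD2_c49 LD3_c34) (LK LD1_c7 LD2_c40 LD3_c3) Lrfl Lrfl
theorem f487936 : Led Lsl_cf (LP (LK LD1_c7 LD2_c52 LD3_c14)) = (LP (LK LD1_c7 LD2_c40 LD3_c3)) :=
  Lgr Lrot1 (Lpr_at (f487934 IH) (Lpr_ct (K33.f487932 IH) (Lpr_at (f487935 IH) (Lpn (LP (LK LD1_c7 LD2_c40 LD3_c3))))))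
theorem f520299 : Led Lsl_ft (LP (LK LD1_c13 LD2_c39 LD3_c60)) = (LP (LK LD1_c7 LD2_c15 LD3_c19)) :=
  Lgr Lrot48 (Lpr_ff (K33.f520293 IH) (Lpn (LP (LK LD1_c7 LD2_c15 LD3_c19))))
theorem f522001 : Led Lsl_gt (LP (LK LD1_c13 LD2_c39 LD3_c60)) = (LP (LK LD1_c7 LD2_c15 LD3_c18)) :=
  Lgr Lrot5 (Lpr_ft (f520299 IH) (Lpr_at (K33.f467514 IH) (Lpe (K33.f6664 IH) (Lpn (LP (LK LD1_c7 LD2_c15 LD3_c18))))))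
theorem f479143 : Led Lsl_cf (LP (LK LD1_c7 LD2_c11 LD3_c4)) = (LP (LK LD1_c7 LD2_c11 LD3_c4)) :=
  Lgr Lrot97 (Lpr_bt (K33.f456224 IH) (Lpr_ct (K37.f456749 IH) (Lpr_bt (K29.f479141 IH) (Lpr_ct (K29.f478729 IH) (Lpr_bt (K37.f456129 IH) (Lpn (LP (LK LD1_c7 LD2_c11 LD3_c4))))))))
theorem f522005 : Led Lsl_gf (LP (LK LD1_c14 LD2_c18 LD3_c19)) = (LP (LK LD1_c7 LD2_c37 LD3_c43)) :=
  Lgr Lrot181 (Lpr_ct (K33.f486882 IH) (Lpr_gt (f522001 IH) (Lpe (K33.f480741 IH) (Lpr_bt (K33.f90042 IH) (Lpe (K29.f478827 IH) (Lpe (K33.f456224 IH) (Lpe (f479143 IH) (Lpe (K37.f488945 IH) (Lpe (K28.f95151 IH) (Lpr_bt (K8.f95149 IH) (Lpn (LP (LK LD1_c7 LD2_c37 LD3_c43)))))))))))))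
theorem f489203 : Led Lsl_ft (LP (LK LD1_c7 LD2_c37 LD3_c43)) = (LP (LK LD1_c14 LD2_c18 LD3_c18)) :=
  Lgr Lrot48 (Lpr_ff (K34.f489194 IH) (Lpn (LP (LK LD1_c14 LD2_c18 LD3_c18))))
theorem f489205 : Led Lsl_af (LP (LK LD1_c7 LD2_c40 LD3_c7)) = (LP (LK LD1_c14 LD2_c18 LD3_c18)) :=
  Lgr Lrot45 (Lpe (K34.f489067 IH) (Lpe (K34.f206583 IH) (Lpr_ft (f489203 IH) (Lpn (LP (LK LD1_c14 LD2_c18 LD3_c18))))))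
theorem f522007 : Led Lsl_gt (LP (LK LD1_c14 LD2_c18 LD3_c19)) = (LP (LK LD1_c7 LD2_c40 LD3_c7)) :=
  Lgr Lrot46 (Lpr_gf (f522005 IH) (Lpr_ft (f489203 IH) (Lpe (f489205 IH) (Lpn (LP (LK LD1_c7 LD2_c40 LD3_c7))))))
theorem f522331 : Led Lsl_gf (LP (LK LD1_c14 LD2_c19 LD3_c5)) = (LP (LK LD1_c22 LD2_c55 LD3_c14)) :=
  Lgr Lrot126 (Lpe (f485256 IH) (Lpr_bt (f485262 IH) (Lpr_gt (f515802 IH) (Lpr_ct (K8.f136376 IH) (Lpr_gt (K37.f522327 IH) (Lpr_cf (f487936 IH) (Lpe (K33.f520284 IH) (Lpr_gt (f522007 IH) (Lpr_bf (K34.f515839 IH) (Lpe (K34.f515822 IH) (Lpn (LP (LK LD1_c22 LD2_c55 LD3_c14)))))))))))))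
theorem f515806 : Led Lsl_bt (LP (LK LD1_c13 LD2_c32 LD3_c53)) = (LP (LK LD1_c22 LD2_c55 LD3_c14)) :=
  Lre_b IH (LK LD1_c13 LD2_c32 LD3_c53) (LK LD1_c22 LD2_c55 LD3_c14) Lrfl Lrfl
theorem f519761 : Led Lsl_at (LP (LK LD1_c3 LD2_c37 LD3_c10)) = (LP (LK LD1_c7 LD2_c14 LD3_c47)) :=
  Lre_a IH (LK LD1_c3 LD2_c37 LD3_c10) (LK LD1_c7 LD2_c14 LD3_c47) Lrfl Lrfl
theorem f543106 : Led Lsl_gf (LP (LK LD1_c12 LD2_c8 LD3_c25)) = (LP (LK LD1_c7 LD2_c13 LD3_c0)) :=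
  Lgr Lrot47 (Lpr_gt (K37.f543104 IH) (Lpe (f519761 IH) (Lpe (K35.f528279 IH) (Lpn (LP (LK LD1_c7 LD2_c13 LD3_c0))))))
theorem f560605 : Led Lsl_gt (LP (LK LD1_c7 LD2_c25 LD3_c9)) = (LP (LK LD1_c3 LD2_c55 LD3_c23)) :=
  Lgr Lrot82 (Lpe (f108104 IH) (Lpr_ct (f203659 IH) (Lpr_gf (f560603 IH) (Lpe (f123211 IH) (Lpr_bt (f485263 IH) (Lpr_gf (f522331 IH) (Lpe (f515806 IH) (Lpe (K37.f543110 IH) (Lpr_gf (f543106 IH) (Lpe (K34.f456626 IH) (Lpn (LP (LK LD1_c3 LD2_c55 LD3_c23)))))))))))))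
theorem f108098 : Led Lsl_et (LP (LK LD1_c7 LD2_c13 LD3_c29)) = (LP (LK LD1_c3 LD2_c36 LD3_c35)) :=
  Lre_e IH (LK LD1_c7 LD2_c13 LD3_c29) (LK LD1_c3 LD2_c36 LD3_c35) Lrfl Lrfl
theorem f108100 : Led Lsl_cf (LP (LK LD1_c7 LD2_c13 LD3_c29)) = (LP (LK LD1_c7 LD2_c25 LD3_c9)) :=
  Lgr Lrot39 (Lpr_et (f108098 IH) (Lpr_ct (K28.f108093 IH) (Lpr_et (f108099 IH) (Lpn (LP (LK LD1_c7 LD2_c25 LD3_c9))))))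
theorem f108105 : Led Lsl_ct (LP (LK LD1_c7 LD2_c13 LD3_c29)) = (LP (LK LD1_c7 LD2_c25 LD3_c9)) :=
  Lgr Lrot59 (Lpr_cf (f108100 IH) (Lpn (LP (LK LD1_c7 LD2_c25 LD3_c9))))
theorem f456620 : Led Lsl_cf (LP (LK LD1_c3 LD2_c55 LD3_c23)) = (LP (LK LD1_c7 LD2_c13 LD3_c0)) :=
  Lgr Lrot97 (Lpr_bt (K34.f456618 IH) (Lpr_ct (K35.f122786 IH) (Lpr_bt (K29.f456617 IH) (Lpr_ct (K29.f456615 IH) (Lpr_bt (K35.f456619 IH) (Lpn (LP (LK LD1_c7 LD2_c13 LD3_c0))))))))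
theorem f116248 : Led Lsl_dt (LP (LK LD1_c13 LD2_c38 LD3_c12)) = (LP (LK LD1_c23 LD2_c3 LD3_c20)) :=
  Lre_d IH (LK LD1_c13 LD2_c38 LD3_c12) (LK LD1_c23 LD2_c3 LD3_c20) Lrfl Lrfl
theorem f459165 : Led Lsl_dt (LP (LK LD1_c7 LD2_c4 LD3_c27)) = (LP (LK LD1_c13 LD2_c24 LD3_c40)) :=
  Lre_d IH (LK LD1_c7 LD2_c4 LD3_c27) (LK LD1_c13 LD2_c24 LD3_c40) Lrfl Lrfl
theorem f459145 : Led Lsl_ct (LP (LK LD1_c22 LD2_c42 LD3_c60)) = (LP (LK LD1_c13 LD2_c24 LD3_c40)) :=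
  Lre_c IH (LK LD1_c22 LD2_c42 LD3_c60) (LK LD1_c13 LD2_c24 LD3_c40) Lrfl Lrfl
theorem f459254 : Led Lsl_gt (LP (LK LD1_c30 LD2_c40 LD3_c18)) = (LP (LK LD1_c22 LD2_c42 LD3_c60)) :=
  Lre_g IH (LK LD1_c30 LD2_c40 LD3_c18) (LK LD1_c22 LD2_c42 LD3_c60) Lrfl Lrfl
theorem f533931 : Led Lsl_dt (LP (LK LD1_c23 LD2_c38 LD3_c30)) = (LP (LK LD1_c14 LD2_c5 LD3_c19)) :=
  Lre_d IH (LK LD1_c23 LD2_c38 LD3_c30) (LK LD1_c14 LD2_c5 LD3_c19) Lrfl Lrfl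
theorem f533933 : Led Lsl_gt (LP (LK LD1_c23 LD2_c38 LD3_c30)) = (LP (LK LD1_c31 LD2_c8 LD3_c34)) :=
  Lre_g IH (LK LD1_c23 LD2_c38 LD3_c30) (LK LD1_c31 LD2_c8 LD3_c34) Lrfl Lrfl
theorem f533934 : Led Lsl_cf (LP (LK LD1_c30 LD2_c40 LD3_c18)) = (LP (LK LD1_c31 LD2_c8 LD3_c34)) :=
  Lgr Lrot169 (Lpr_gt (f459254 IH) (Lpr_ct (f459145 IH) (Lpe (f459165 IH) (Lpe (K34.f459287 IH) (Lpr_gf (K34.f533133 IH) (Lpe (K7.f147811 IH) (Lpr_gf (K39.f533927 IH) (Lpe (f533931 IH) (Lpr_gt (f533933 IH) (Lpn (LP (LK LD1_c31 LD2_c8 LD3_c34))))))))))))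
theorem f459154 : Led Lsl_bt (LP (LK LD1_c13 LD2_c24 LD3_c40)) = (LP (LK LD1_c7 LD2_c4 LD3_c28)) :=
  Lre_b IH (LK LD1_c13 LD2_c24 LD3_c40) (LK LD1_c7 LD2_c4 LD3_c28) Lrfl Lrfl
theorem f459257 : Led Lsl_ct (LP (LK LD1_c13 LD2_c25 LD3_c40)) = (LP (LK LD1_c22 LD2_c44 LD3_c51)) :=
  Lre_c IH (LK LD1_c13 LD2_c25 LD3_c40) (LK LD1_c22 LD2_c44 LD3_c51) Lrfl Lrfl
theorem f533943 : Led Lsl_bt (LP (LK LD1_c14 LD2_c5 LD3_c20)) = (LP (LK LD1_c23 LD2_c38 LD3_c30)) :=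
  Lre_b IH (LK LD1_c14 LD2_c5 LD3_c20) (LK LD1_c23 LD2_c38 LD3_c30) Lrfl Lrfl
theorem f469318 : Led Lsl_ct (LP (LK LD1_c14 LD2_c5 LD3_c20)) = (LP (LK LD1_c23 LD2_c38 LD3_c32)) :=
  Lre_c IH (LK LD1_c14 LD2_c5 LD3_c20) (LK LD1_c23 LD2_c38 LD3_c32) Lrfl Lrfl
theorem f533944 : Led Lsl_gt (LP (LK LD1_c22 LD2_c44 LD3_c51)) = (LP (LK LD1_c23 LD2_c38 LD3_c32)) :=
  Lgr Lrot65 (Lpe (f459257 IH) (Lpr_bt (K33.f459256 IH) (Lpr_gf (K29.f459251 IH) (Lpe (f459154 IH) (Lpr_ct (K34.f459131 IH) (Lpe (f459254 IH) (Lpr_cf (f533934 IH) (Lpe (f533933 IH) (Lpe (f533943 IH) (Lpr_ct (f469318 IH) (Lpn (LP (LK LD1_c23 LD2_c38 LD3_c32)))))))))))))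
theorem f469270 : Led Lsl_ct (LP (LK LD1_c23 LD2_c38 LD3_c32)) = (LP (LK LD1_c14 LD2_c5 LD3_c20)) :=
  Lre_c IH (LK LD1_c23 LD2_c38 LD3_c32) (LK LD1_c14 LD2_c5 LD3_c20) Lrfl Lrfl
theorem f439642 : Led Lsl_dt (LP (LK LD1_c7 LD2_c27 LD3_c48)) = (LP (LK LD1_c14 LD2_c5 LD3_c20)) :=
  Lre_d IH (LK LD1_c7 LD2_c27 LD3_c48) (LK LD1_c14 LD2_c5 LD3_c20) Lrfl Lrfl
theorem f469271 : Led Lsl_dt (LP (LK LD1_c22 LD2_c44 LD3_c28)) = (LP (LK LD1_c13 LD2_c25 LD3_c30)) :=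
  Lre_d IH (LK LD1_c22 LD2_c44 LD3_c28) (LK LD1_c13 LD2_c25 LD3_c30) Lrfl Lrfl
theorem f533952 : Led Lsl_gf (LP (LK LD1_c13 LD2_c25 LD3_c40)) = (LP (LK LD1_c22 LD2_c44 LD3_c28)) :=
  Lgr Lrot147 (Lpr_ct (f459257 IH) (Lpr_gt (f533944 IH) (Lpr_ct (f469270 IH) (Lpe (f439642 IH) (Lpr_cf (K39.f464326 IH) (Lpe (K39.f108271 IH) (Lpe (K28.f469259 IH) (Lpe (K37.f469266 IH) (Lpe (f469271 IH) (Lpn (LP (LK LD1_c22 LD2_c44 LD3_c28))))))))))))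
theorem f472553 : Led Lsl_dt (LP (LK LD1_c13 LD2_c25 LD3_c40)) = (LP (LK LD1_c7 LD2_c52 LD3_c21)) :=
  Lgr Lrot79 (Lpe (K33.f470273 IH) (Lpr_df (K29.f469136 IH) (Lpe (K33.f472552 IH) (Lpn (LP (LK LD1_c7 LD2_c52 LD3_c21))))))
theorem f479609 : Led Lsl_dt (LP (LK LD1_c22 LD2_c29 LD3_c5)) = (LP (LK LD1_c13 LD2_c14 LD3_c20)) :=
  Lre_d IH (LK LD1_c22 LD2_c29 LD3_c5) (LK LD1_c13 LD2_c14 LD3_c20) Lrfl Lrfl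
theorem f469269 : Led Lsl_dt (LP (LK LD1_c13 LD2_c25 LD3_c30)) = (LP (LK LD1_c22 LD2_c44 LD3_c28)) :=
  Lre_d IH (LK LD1_c13 LD2_c25 LD3_c30) (LK LD1_c22 LD2_c44 LD3_c28) Lrfl Lrfl
theorem f533958 : Led Lsl_gf (LP (LK LD1_c22 LD2_c29 LD3_c5)) = (LP (LK LD1_c23 LD2_c3 LD3_c20)) :=
  Lgr Lrot143 (Lpr_dt (f479609 IH) (Lpr_cf (K33.f480589 IH) (Lpe (f472553 IH) (Lpr_gf (f533952 IH) (Lpe (f469269 IH) (Lpr_gf (K37.f469384 IH) (Lpe (K33.f116242 IH) (Lpr_gt (K37.f116247 IH) (Lpr_dt (f116248 IH) (Lpn (LP (LK LD1_c23 LD2_c3 LD3_c20))))))))))))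
theorem f480595 : Led Lsl_dt (LP (LK LD1_c13 LD2_c14 LD3_c20)) = (LP (LK LD1_c22 LD2_c29 LD3_c5)) :=
  Lre_d IH (LK LD1_c13 LD2_c14 LD3_c20) (LK LD1_c22 LD2_c29 LD3_c5) Lrfl Lrfl
theorem f479575 : Led Lsl_et (LP (LK LD1_c13 LD2_c14 LD3_c20)) = (LP (LK LD1_c7 LD2_c13 LD3_c11)) :=
  Lgr Lrot74 (Lpe (K33.f455437 IH) (Lpr_ef (K29.f479573 IH) (Lpe (K33.f478251 IH) (Lpn (LP (LK LD1_c7 LD2_c13 LD3_c11))))))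
theorem f210528 : Led Lsl_et (LP (LK LD1_c3 LD2_c4 LD3_c33)) = (LP (LK LD1_c6 LD2_c15 LD3_c8)) :=
  Lre_e IH (LK LD1_c3 LD2_c4 LD3_c33) (LK LD1_c6 LD2_c15 LD3_c8) Lrfl Lrfl
theorem f540321 : Led Lsl_gt (LP (LK LD1_c7 LD2_c13 LD3_c11)) = (LP (LK LD1_c6 LD2_c15 LD3_c8)) :=
  Lgr Lrot131 (Lpe (f479575 IH) (Lpr_dt (f480595 IH) (Lpr_gf (f533958 IH) (Lpe (f116248 IH) (Lpe (K37.f116247 IH) (Lpe (K33.f116240 IH) (Lpr_dt (K36.f540313 IH) (Lpe (K11.f210473 IH) (Lpe (K39.f210525 IH) (Lpr_et (f210528 IH) (Lpn (LP (LK LD1_c6 LD2_c15 LD3_c8)))))))))))))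
theorem f560613 : Led Lsl_bt (LP (LK LD1_c7 LD2_c13 LD3_c29)) = (LP (LK LD1_c6 LD2_c15 LD3_c8)) :=
  Lgr Lrot92 (Lpr_ct (f108105 IH) (Lpr_gt (f560605 IH) (Lpr_cf (f456620 IH) (Lpr_bt (K34.f6630 IH) (Lpr_gt (K29.f6629 IH) (Lpr_ct (K29.f5946 IH) (Lpr_gt (K29.f5957 IH) (Lpe (K29.f5991 IH) (Lpr_bt (K33.f5992 IH) (Lpr_gt (f540321 IH) (Lpn (LP (LK LD1_c6 LD2_c15 LD3_c8)))))))))))))
theorem f456629 : Led Lsl_at (LP (LK LD1_c7 LD2_c52 LD3_c37)) = (LP (LK LD1_c3 LD2_c55 LD3_c23)) :=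
  Lre_a IH (LK LD1_c7 LD2_c52 LD3_c37) (LK LD1_c3 LD2_c55 LD3_c23) Lrfl Lrfl
theorem f528222 : Led Lsl_bt (LP (LK LD1_c3 LD2_c55 LD3_c24)) = (LP (LK LD1_c7 LD2_c52 LD3_c38)) :=
  Lre_b IH (LK LD1_c3 LD2_c55 LD3_c24) (LK LD1_c7 LD2_c52 LD3_c38) Lrfl Lrfl
theorem f480518 : Led Lsl_dt (LP (LK LD1_c7 LD2_c54 LD3_c37)) = (LP (LK LD1_c14 LD2_c55 LD3_c17)) :=
  Lre_d IH (LK LD1_c7 LD2_c54 LD3_c37) (LK LD1_c14 LD2_c55 LD3_c17) Lrfl Lrfl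
theorem f487891 : Led Lsl_et (LP (LK LD1_c14 LD2_c55 LD3_c17)) = (LP (LK LD1_c24 LD2_c42 LD3_c36)) :=
  Lre_e IH (LK LD1_c14 LD2_c55 LD3_c17) (LK LD1_c24 LD2_c42 LD3_c36) Lrfl Lrfl
theorem f6054 : Led Lsl_dt (LP (LK LD1_c13 LD2_c42 LD3_c38)) = (LP (LK LD1_c7 LD2_c14 LD3_c48)) :=
  Lre_d IH (LK LD1_c13 LD2_c42 LD3_c38) (LK LD1_c7 LD2_c14 LD3_c48) Lrfl Lrfl
theorem f487892 : Led Lsl_et (LP (LK LD1_c23 LD2_c8 LD3_c36)) = (LP (LK LD1_c13 LD2_c42 LD3_c38)) :=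
  Lre_e IH (LK LD1_c23 LD2_c8 LD3_c36) (LK LD1_c13 LD2_c42 LD3_c38) Lrfl Lrfl
theorem f487893 : Led Lsl_dt (LP (LK LD1_c24 LD2_c42 LD3_c36)) = (LP (LK LD1_c23 LD2_c8 LD3_c36)) :=
  Lgr Lrot77 (Lpe (f487891 IH) (Lpe (f480518 IH) (Lpr_ef (K37.f487886 IH) (Lpe (f6054 IH) (Lpe (f487892 IH) (Lpn (LP (LK LD1_c23 LD2_c8 LD3_c36))))))))
theorem f480425 : Led Lsl_bt (LP (LK LD1_c14 LD2_c55 LD3_c18)) = (LP (LK LD1_c24 LD2_c42 LD3_c36)) :=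
  Lre_b IH (LK LD1_c14 LD2_c55 LD3_c18) (LK LD1_c24 LD2_c42 LD3_c36) Lrfl Lrfl
theorem f487896 : Led Lsl_bf (LP (LK LD1_c14 LD2_c49 LD3_c26)) = (LP (LK LD1_c23 LD2_c8 LD3_c36)) :=
  Lgr Lrot93 (Lpe (K35.f480124 IH) (Lpr_bt (f480425 IH) (Lpr_dt (f487893 IH) (Lpn (LP (LK LD1_c23 LD2_c8 LD3_c36))))))
theorem f6055 : Led Lsl_et (LP (LK LD1_c13 LD2_c42 LD3_c38)) = (LP (LK LD1_c23 LD2_c8 LD3_c36)) :=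
  Lre_e IH (LK LD1_c13 LD2_c42 LD3_c38) (LK LD1_c23 LD2_c8 LD3_c36) Lrfl Lrfl
theorem f487900 : Led Lsl_bt (LP (LK LD1_c7 LD2_c51 LD3_c30)) = (LP (LK LD1_c13 LD2_c42 LD3_c38)) :=
  Lgr Lrot119 (Lpe (K35.f480130 IH) (Lpr_bf (f487896 IH) (Lpe (f6055 IH) (Lpn (LP (LK LD1_c13 LD2_c42 LD3_c38))))))
theorem f487904 : Led Lsl_bf (LP (LK LD1_c7 LD2_c51 LD3_c30)) = (LP (LK LD1_c13 LD2_c42 LD3_c38)) :=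
  Lgr Lrot24 (Lpr_bt (f487900 IH) (Lpn (LP (LK LD1_c13 LD2_c42 LD3_c38))))
theorem f528223 : Led Lsl_ft (LP (LK LD1_c7 LD2_c52 LD3_c38)) = (LP (LK LD1_c13 LD2_c42 LD3_c38)) :=
  Lgr Lrot75 (Lpe (f528222 IH) (Lpr_ff (K35.f528220 IH) (Lpr_bf (f487904 IH) (Lpn (LP (LK LD1_c13 LD2_c42 LD3_c38))))))
theorem f528253 : Led Lsl_ff (LP (LK LD1_c7 LD2_c52 LD3_c38)) = (LP (LK LD1_c13 LD2_c42 LD3_c38)) :=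
  Lgr Lrot3 (Lpr_ft (f528223 IH) (Lpn (LP (LK LD1_c13 LD2_c42 LD3_c38))))
theorem f528260 : Led Lsl_at (LP (LK LD1_c7 LD2_c52 LD3_c38)) = (LP (LK LD1_c14 LD2_c51 LD3_c31)) :=
  Lre_a IH (LK LD1_c7 LD2_c52 LD3_c38) (LK LD1_c14 LD2_c51 LD3_c31) Lrfl Lrfl
theorem f487907 : Led Lsl_at (LP (LK LD1_c23 LD2_c8 LD3_c33)) = (LP (LK LD1_c13 LD2_c42 LD3_c38)) :=
  Lre_a IH (LK LD1_c23 LD2_c8 LD3_c33) (LK LD1_c13 LD2_c42 LD3_c38) Lrfl Lrfl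
theorem f528261 : Led Lsl_ft (LP (LK LD1_c14 LD2_c51 LD3_c31)) = (LP (LK LD1_c23 LD2_c8 LD3_c33)) :=
  Lgr Lrot101 (Lpe (f528260 IH) (Lpr_ff (f528253 IH) (Lpe (f487907 IH) (Lpn (LP (LK LD1_c23 LD2_c8 LD3_c33))))))
theorem f528266 : Led Lsl_dt (LP (LK LD1_c7 LD2_c52 LD3_c37)) = (LP (LK LD1_c14 LD2_c51 LD3_c31)) :=
  Lre_d IH (LK LD1_c7 LD2_c52 LD3_c37) (LK LD1_c14 LD2_c51 LD3_c31) Lrfl Lrfl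
theorem f487913 : Led Lsl_dt (LP (LK LD1_c23 LD2_c8 LD3_c33)) = (LP (LK LD1_c13 LD2_c42 LD3_c36)) :=
  Lre_d IH (LK LD1_c23 LD2_c8 LD3_c33) (LK LD1_c13 LD2_c42 LD3_c36) Lrfl Lrfl
theorem f528267 : Led Lsl_ff (LP (LK LD1_c7 LD2_c52 LD3_c37)) = (LP (LK LD1_c13 LD2_c42 LD3_c36)) :=
  Lgr Lrot19 (Lpr_dt (f528266 IH) (Lpr_ft (f528261 IH) (Lpr_dt (f487913 IH) (Lpn (LP (LK LD1_c13 LD2_c42 LD3_c36))))))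
theorem f560607 : Led Lsl_gf (LP (LK LD1_c7 LD2_c25 LD3_c9)) = (LP (LK LD1_c13 LD2_c42 LD3_c36)) :=
  Lgr Lrot47 (Lpr_gt (f560605 IH) (Lpe (f456629 IH) (Lpr_ff (f528267 IH) (Lpn (LP (LK LD1_c13 LD2_c42 LD3_c36))))))
theorem f487912 : Led Lsl_ct (LP (LK LD1_c7 LD2_c14 LD3_c47)) = (LP (LK LD1_c13 LD2_c42 LD3_c36)) :=
  Lre_c IH (LK LD1_c7 LD2_c14 LD3_c47) (LK LD1_c13 LD2_c42 LD3_c36) Lrfl Lrfl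
theorem f543142 : Led Lsl_bf (LP (LK LD1_c12 LD2_c8 LD3_c25)) = (LP (LK LD1_c14 LD2_c27 LD3_c26)) :=
  Lgr Lrot61 (Lpr_ft (K37.f449966 IH) (Lpr_bt (K37.f543131 IH) (Lpr_ft (K37.f543134 IH) (Lpn (LP (LK LD1_c14 LD2_c27 LD3_c26))))))
theorem f486871 : Led Lsl_at (LP (LK LD1_c14 LD2_c18 LD3_c19)) = (LP (LK LD1_c7 LD2_c35 LD3_c14)) :=
  Lre_a IH (LK LD1_c14 LD2_c18 LD3_c19) (LK LD1_c7 LD2_c35 LD3_c14) Lrfl Lrfl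
theorem f486872 : Led Lsl_at (LP (LK LD1_c7 LD2_c13 LD3_c9)) = (LP (LK LD1_c13 LD2_c39 LD3_c60)) :=
  Lre_a IH (LK LD1_c7 LD2_c13 LD3_c9) (LK LD1_c13 LD2_c39 LD3_c60) Lrfl Lrfl
theorem f486873 : Led Lsl_cf (LP (LK LD1_c14 LD2_c18 LD3_c19)) = (LP (LK LD1_c13 LD2_c39 LD3_c60)) :=
  Lgr Lrot1 (Lpr_at (f486871 IH) (Lpr_ct (K33.f486865 IH) (Lpr_at (f486872 IH) (Lpn (LP (LK LD1_c13 LD2_c39 LD3_c60))))))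
theorem f560623 : Led Lsl_gf (LP (LK LD1_c7 LD2_c15 LD3_c11)) = (LP (LK LD1_c6 LD2_c15 LD3_c8)) :=
  Lgr Lrot124 (Lpe (K33.f520288 IH) (Lpe (f486873 IH) (Lpr_gt (f522007 IH) (Lpe (K37.f467526 IH) (Lpe (f543142 IH) (Lpr_gt (K37.f543104 IH) (Lpr_ct (f487912 IH) (Lpe (f560607 IH) (Lpe (f108105 IH) (Lpr_bt (f560613 IH) (Lpn (LP (LK LD1_c6 LD2_c15 LD3_c8)))))))))))))
theorem f478641 : Led Lsl_gt (LP (LK LD1_c13 LD2_c40 LD3_c2)) = (LP (LK LD1_c7 LD2_c13 LD3_c11)) :=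
  Lre_g IH (LK LD1_c13 LD2_c40 LD3_c2) (LK LD1_c7 LD2_c13 LD3_c11) Lrfl Lrfl
theorem f522143 : Led Lsl_gt (LP (LK LD1_c7 LD2_c15 LD3_c11)) = (LP (LK LD1_c13 LD2_c40 LD3_c2)) :=
  Lgr Lrot5 (Lpr_ft (K33.f519992 IH) (Lpr_at (K33.f478634 IH) (Lpe (f478641 IH) (Lpn (LP (LK LD1_c13 LD2_c40 LD3_c2))))))
theorem f560588 : Led Lsl_ff (LP (LK LD1_c7 LD2_c13 LD3_c29)) = (LP (LK LD1_c7 LD2_c9 LD3_c16)) :=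
  Lgr Lrot23 (Lpr_ct (f108105 IH) (Lpr_ft (f560584 IH) (Lpr_ct (f6036 IH) (Lpn (LP (LK LD1_c7 LD2_c9 LD3_c16))))))
theorem f6050 : Led Lsl_bt (LP (LK LD1_c1 LD2_c45 LD3_c32)) = (LP (LK LD1_c3 LD2_c37 LD3_c19)) :=
  Lre_b IH (LK LD1_c1 LD2_c45 LD3_c32) (LK LD1_c3 LD2_c37 LD3_c19) Lrfl Lrfl
theorem f6051 : Led Lsl_gt (LP (LK LD1_c3 LD2_c37 LD3_c19)) = (LP (LK LD1_c7 LD2_c15 LD3_c10)) :=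
  Lre_g IH (LK LD1_c3 LD2_c37 LD3_c19) (LK LD1_c7 LD2_c15 LD3_c10) Lrfl Lrfl
theorem f6052 : Led Lsl_bf (LP (LK LD1_c7 LD2_c15 LD3_c10)) = (LP (LK LD1_c7 LD2_c9 LD3_c16)) :=
  Lgr Lrot34 (Lpe (f6051 IH) (Lpe (f6050 IH) (Lpr_ct (K29.f6049 IH) (Lpe (K29.f5931 IH) (Lpe (K29.f6004 IH) (Lpe (K33.f6023 IH) (Lpe (K35.f6024 IH) (Lpr_ct (K35.f6025 IH) (Lpr_gf (f6030 IH) (Lpe (f6029 IH) (Lpn (LP (LK LD1_c7 LD2_c9 LD3_c16)))))))))))))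
theorem f6056 : Led Lsl_bt (LP (LK LD1_c7 LD2_c15 LD3_c10)) = (LP (LK LD1_c7 LD2_c9 LD3_c16)) :=
  Lgr Lrot127 (Lpr_bf (f6052 IH) (Lpn (LP (LK LD1_c7 LD2_c9 LD3_c16))))
theorem f560621 : Led Lsl_ff (LP (LK LD1_c7 LD2_c15 LD3_c10)) = (LP (LK LD1_c6 LD2_c15 LD3_c8)) :=
  Lgr Lrot25 (Lpr_bt (f6056 IH) (Lpe (f560588 IH) (Lpr_bt (f560613 IH) (Lpn (LP (LK LD1_c6 LD2_c15 LD3_c8))))))
theorem f560625 : Led Lsl_af (LP (LK LD1_c13 LD2_c40 LD3_c2)) = (LP (LK LD1_c7 LD2_c15 LD3_c10)) :=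
  Lgr Lrot31 (Lpe (f522143 IH) (Lpr_gf (f560623 IH) (Lpe (f560621 IH) (Lpn (LP (LK LD1_c7 LD2_c15 LD3_c10))))))
theorem f560631 : Led Lsl_at (LP (LK LD1_c13 LD2_c40 LD3_c2)) = (LP (LK LD1_c7 LD2_c15 LD3_c10)) :=
  Lgr Lrot100 (Lpr_af (f560625 IH) (Lpn (LP (LK LD1_c7 LD2_c15 LD3_c10))))
theorem f560633 : Led Lsl_ff (LP (LK LD1_c13 LD2_c40 LD3_c2)) = (LP (LK LD1_c7 LD2_c13 LD3_c31)) :=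
  Lgr Lrot52 (Lpr_at (f560631 IH) (Lpe (f6051 IH) (Lpe (f560523 IH) (Lpn (LP (LK LD1_c7 LD2_c13 LD3_c31))))))
theorem f560642 : Led Lsl_ft (LP (LK LD1_c13 LD2_c40 LD3_c2)) = (LP (LK LD1_c7 LD2_c13 LD3_c31)) :=
  Lgr Lrot48 (Lpr_ff (f560633 IH) (Lpn (LP (LK LD1_c7 LD2_c13 LD3_c31))))
theorem f160477 : Led Lsl_et (LP (LK LD1_c7 LD2_c13 LD3_c31)) = (LP (LK LD1_c3 LD2_c36 LD3_c36)) :=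
  Lre_e IH (LK LD1_c7 LD2_c13 LD3_c31) (LK LD1_c3 LD2_c36 LD3_c36) Lrfl Lrfl
theorem f239196 : Led Lsl_et (LP (LK LD1_c3 LD2_c4 LD3_c36)) = (LP (LK LD1_c6 LD2_c15 LD3_c11)) :=
  Lre_e IH (LK LD1_c3 LD2_c4 LD3_c36) (LK LD1_c6 LD2_c15 LD3_c11) Lrfl Lrfl
theorem f542962 : Led Lsl_ft (LP (LK LD1_c6 LD2_c15 LD3_c11)) = (LP (LK LD1_c12 LD2_c8 LD3_c40)) :=
  Lre_f IH (LK LD1_c6 LD2_c15 LD3_c11) (LK LD1_c12 LD2_c8 LD3_c40) Lrfl Lrfl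
theorem f560652 : Led Lsl_ef (LP (LK LD1_c13 LD2_c40 LD3_c2)) = (LP (LK LD1_c12 LD2_c8 LD3_c40)) :=
  Lgr Lrot21 (Lpr_ft (f560642 IH) (Lpr_et (f160477 IH) (Lpr_ft (K37.f514938 IH) (Lpqs (K37.f542946 IH) (Lpr_et (f239196 IH) (Lpr_ft (f542962 IH) (Lpn (LP (LK LD1_c12 LD2_c8 LD3_c40)))))))))
theorem f524067 : Led Lsl_ct (LP (LK LD1_c7 LD2_c8 LD3_c45)) = (LP (LK LD1_c13 LD2_c31 LD3_c61)) :=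
  Lre_c IH (LK LD1_c7 LD2_c8 LD3_c45) (LK LD1_c13 LD2_c31 LD3_c61) Lrfl Lrfl
theorem f123426 : Led Lsl_gt (LP (LK LD1_c3 LD2_c54 LD3_c31)) = (LP (LK LD1_c7 LD2_c50 LD3_c42)) :=
  Lre_g IH (LK LD1_c3 LD2_c54 LD3_c31) (LK LD1_c7 LD2_c50 LD3_c42) Lrfl Lrfl
theorem f524065 : Led Lsl_gf (LP (LK LD1_c13 LD2_c31 LD3_c61)) = (LP (LK LD1_c7 LD2_c50 LD3_c42)) :=
  Lgr Lrot76 (Lpe (K34.f456614 IH) (Lpr_ff (K34.f524056 IH) (Lpr_gt (f123426 IH) (Lpn (LP (LK LD1_c7 LD2_c50 LD3_c42))))))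
theorem f123425 : Led Lsl_bt (LP (LK LD1_c1 LD2_c53 LD3_c51)) = (LP (LK LD1_c3 LD2_c54 LD3_c31)) :=
  Lre_b IH (LK LD1_c1 LD2_c53 LD3_c51) (LK LD1_c3 LD2_c54 LD3_c31) Lrfl Lrfl
theorem f478646 : Led Lsl_cf (LP (LK LD1_c13 LD2_c40 LD3_c2)) = (LP (LK LD1_c7 LD2_c50 LD3_c42)) :=
  Lgr Lrot125 (Lpr_gt (f478641 IH) (Lpr_cf (K33.f478261 IH) (Lpr_bt (f123423 IH) (Lpr_gt (K29.f123422 IH) (Lpr_bf (K29.f122764 IH) (Lpr_ct (K24.f122768 IH) (Lpr_gt (K29.f123410 IH) (Lpe (K33.f123424 IH) (Lpr_bt (f123425 IH) (Lpr_gt (f123426 IH) (Lpn (LP (LK LD1_c7 LD2_c50 LD3_c42)))))))))))))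
theorem f478653 : Led Lsl_ct (LP (LK LD1_c13 LD2_c40 LD3_c2)) = (LP (LK LD1_c7 LD2_c50 LD3_c42)) :=
  Lgr Lrot59 (Lpr_cf (f478646 IH) (Lpn (LP (LK LD1_c7 LD2_c50 LD3_c42))))
theorem f524918 : Led Lsl_gf (LP (LK LD1_c7 LD2_c7 LD3_c50)) = (LP (LK LD1_c13 LD2_c28 LD3_c19)) :=
  Lgr Lrot124 (Lpe (K8.f96785 IH) (Lpr_ct (K28.f96788 IH) (Lpe (f522005 IH) (Lpr_cf (f486873 IH) (Lpr_bt (K33.f520288 IH) (Lpr_gt (f522143 IH) (Lpr_ct (f478653 IH) (Lpe (f524065 IH) (Lpe (f524067 IH) (Lpr_bt (K35.f524913 IH) (Lpn (LP (LK LD1_c13 LD2_c28 LD3_c19)))))))))))))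
theorem f6613 : Led Lsl_gt (LP (LK LD1_c13 LD2_c28 LD3_c0)) = (LP (LK LD1_c22 LD2_c47 LD3_c27)) :=
  Lre_g IH (LK LD1_c13 LD2_c28 LD3_c0) (LK LD1_c22 LD2_c47 LD3_c27) Lrfl Lrfl
theorem f524920 : Led Lsl_bt (LP (LK LD1_c13 LD2_c40 LD3_c2)) = (LP (LK LD1_c22 LD2_c47 LD3_c27)) :=
  Lgr Lrot92 (Lpr_ct (f478653 IH) (Lpe (f524065 IH) (Lpe (f524067 IH) (Lpr_bt (K35.f524913 IH) (Lpe (f524918 IH) (Lpr_ct (K8.f96786 IH) (Lpr_gt (K33.f96806 IH) (Lpe (K33.f489252 IH) (Lpe (K33.f487824 IH) (Lpr_gt (f6613 IH) (Lpn (LP (LK LD1_c22 LD2_c47 LD3_c27)))))))))))))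
theorem f560654 : Led Lsl_bt (LP (LK LD1_c21 LD2_c14 LD3_c56)) = (LP (LK LD1_c12 LD2_c8 LD3_c40)) :=
  Lre_b IH (LK LD1_c21 LD2_c14 LD3_c56) (LK LD1_c12 LD2_c8 LD3_c40) Lrfl Lrfl
theorem f560655 : Led Lsl_et (LP (LK LD1_c22 LD2_c47 LD3_c27)) = (LP (LK LD1_c21 LD2_c14 LD3_c56)) :=
  Lgr Lrot74 (Lpe (f524920 IH) (Lpr_ef (f560652 IH) (Lpe (f560654 IH) (Lpn (LP (LK LD1_c21 LD2_c14 LD3_c56))))))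
theorem f560659 : Led Lsl_ef (LP (LK LD1_c22 LD2_c47 LD3_c27)) = (LP (LK LD1_c21 LD2_c14 LD3_c56)) :=
  Lgr Lrot88 (Lpr_et (f560655 IH) (Lpn (LP (LK LD1_c21 LD2_c14 LD3_c56))))
theorem f160600 : Led Lsl_bt (LP (LK LD1_c13 LD2_c40 LD3_c35)) = (LP (LK LD1_c7 LD2_c13 LD3_c31)) :=
  Lre_b IH (LK LD1_c13 LD2_c40 LD3_c35) (LK LD1_c7 LD2_c13 LD3_c31) Lrfl Lrfl
theorem f560635 : Led Lsl_ft (LP (LK LD1_c22 LD2_c47 LD3_c27)) = (LP (LK LD1_c13 LD2_c40 LD3_c35)) :=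
  Lgr Lrot75 (Lpe (f524920 IH) (Lpr_ff (f560633 IH) (Lpe (f160600 IH) (Lpn (LP (LK LD1_c13 LD2_c40 LD3_c35))))))
theorem f160607 : Led Lsl_et (LP (LK LD1_c13 LD2_c40 LD3_c35)) = (LP (LK LD1_c7 LD2_c13 LD3_c30)) :=
  Lre_e IH (LK LD1_c13 LD2_c40 LD3_c35) (LK LD1_c7 LD2_c13 LD3_c30) Lrfl Lrfl
theorem f560665 : Led Lsl_ft (LP (LK LD1_c12 LD2_c8 LD3_c34)) = (LP (LK LD1_c21 LD2_c14 LD3_c56)) :=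
  Lre_f IH (LK LD1_c12 LD2_c8 LD3_c34) (LK LD1_c21 LD2_c14 LD3_c56) Lrfl Lrfl
theorem f560666 : Led Lsl_et (LP (LK LD1_c6 LD2_c15 LD3_c9)) = (LP (LK LD1_c12 LD2_c8 LD3_c34)) :=
  Lre_e IH (LK LD1_c6 LD2_c15 LD3_c9) (LK LD1_c12 LD2_c8 LD3_c34) Lrfl Lrfl
theorem f560667 : Led Lsl_ft (LP (LK LD1_c7 LD2_c13 LD3_c30)) = (LP (LK LD1_c6 LD2_c15 LD3_c9)) :=
  Lgr Lrot86 (Lpe (f160607 IH) (Lpe (f560635 IH) (Lpr_ef (f560659 IH) (Lpe (f560665 IH) (Lpe (f560666 IH) (Lpn (LP (LK LD1_c6 LD2_c15 LD3_c9))))))))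
theorem f560671 : Led Lsl_af (LP (LK LD1_c7 LD2_c13 LD3_c30)) = (LP (LK LD1_c6 LD2_c15 LD3_c9)) :=
  Lgr Lrot31 (Lpr_gf (K36.f425495 IH) (Lpr_gf (K36.f160605 IH) (Lpr_ft (f560667 IH) (Lpn (LP (LK LD1_c6 LD2_c15 LD3_c9))))))
theorem f560661 : Led Lsl_et (LP (LK LD1_c7 LD2_c13 LD3_c30)) = (LP (LK LD1_c13 LD2_c40 LD3_c35)) :=
  Lre_e IH (LK LD1_c7 LD2_c13 LD3_c30) (LK LD1_c13 LD2_c40 LD3_c35) Lrfl Lrfl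
theorem f560662 : Led Lsl_et (LP (LK LD1_c12 LD2_c8 LD3_c34)) = (LP (LK LD1_c6 LD2_c15 LD3_c9)) :=
  Lre_e IH (LK LD1_c12 LD2_c8 LD3_c34) (LK LD1_c6 LD2_c15 LD3_c9) Lrfl Lrfl
theorem f560677 : Led Lsl_at (LP (LK LD1_c13 LD2_c40 LD3_c35)) = (LP (LK LD1_c12 LD2_c8 LD3_c34)) :=
  Lgr Lrot80 (Lpe (f560661 IH) (Lpr_af (f560671 IH) (Lpe (f560662 IH) (Lpn (LP (LK LD1_c12 LD2_c8 LD3_c34))))))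
theorem f6597 : Led Lsl_ct (LP (LK LD1_c13 LD2_c28 LD3_c3)) = (LP (LK LD1_c7 LD2_c6 LD3_c27)) :=
  Lre_c IH (LK LD1_c13 LD2_c28 LD3_c3) (LK LD1_c7 LD2_c6 LD3_c27) Lrfl Lrfl
theorem f524924 : Led Lsl_gf (LP (LK LD1_c13 LD2_c28 LD3_c3)) = (LP (LK LD1_c22 LD2_c47 LD3_c27)) :=
  Lgr Lrot181 (Lpr_ct (f6597 IH) (Lpr_gt (K29.f6584 IH) (Lpe (K29.f10632 IH) (Lpr_bt (K29.f6001 IH) (Lpr_gt (K29.f10602 IH) (Lpe (K37.f5994 IH) (Lpr_ct (K34.f456066 IH) (Lpr_gt (f123426 IH) (Lpe (f478653 IH) (Lpr_bt (f524920 IH) (Lpn (LP (LK LD1_c22 LD2_c47 LD3_c27)))))))))))))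
theorem f560685 : Led Lsl_gt (LP (LK LD1_c13 LD2_c28 LD3_c3)) = (LP (LK LD1_c12 LD2_c8 LD3_c34)) :=
  Lgr Lrot46 (Lpr_gf (f524924 IH) (Lpr_ft (f560635 IH) (Lpr_at (f560677 IH) (Lpn (LP (LK LD1_c12 LD2_c8 LD3_c34))))))
theorem f6588 : Led Lsl_ct (LP (LK LD1_c7 LD2_c6 LD3_c27)) = (LP (LK LD1_c13 LD2_c28 LD3_c3)) :=
  Lre_c IH (LK LD1_c7 LD2_c6 LD3_c27) (LK LD1_c13 LD2_c28 LD3_c3) Lrfl Lrfl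
theorem f560687 : Led Lsl_ct (LP (LK LD1_c13 LD2_c40 LD3_c35)) = (LP (LK LD1_c12 LD2_c8 LD3_c34)) :=
  Lgr Lrot63 (Lpr_bt (f160600 IH) (Lpr_gt (f560523 IH) (Lpe (f6050 IH) (Lpr_ct (K29.f6049 IH) (Lpr_gt (K29.f6596 IH) (Lpe (K29.f6595 IH) (Lpr_bt (K29.f6360 IH) (Lpr_gt (K29.f6585 IH) (Lpr_ct (f6588 IH) (Lpr_gt (f560685 IH) (Lpn (LP (LK LD1_c12 LD2_c8 LD3_c34)))))))))))))
theorem f520339 : Led Lsl_bt (LP (LK LD1_c14 LD2_c55 LD3_c1)) = (LP (LK LD1_c14 LD2_c50 LD3_c58)) :=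
  Lgr Lrot127 (Lpr_bf (K33.f520335 IH) (Lpn (LP (LK LD1_c14 LD2_c50 LD3_c58))))
theorem f479844 : Led Lsl_cf (LP (LK LD1_c14 LD2_c55 LD3_c1)) = (LP (LK LD1_c14 LD2_c42 LD3_c46)) :=
  Lgr Lrot1 (Lpr_at (K33.f479843 IH) (Lpr_ct (K33.f479841 IH) (Lpr_at (K33.f477386 IH) (Lpn (LP (LK LD1_c14 LD2_c42 LD3_c46))))))
theorem f520333 : Led Lsl_bf (LP (LK LD1_c14 LD2_c42 LD3_c46)) = (LP (LK LD1_c14 LD2_c27 LD3_c29)) :=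
  Lgr Lrot24 (Lpr_bt (K33.f520329 IH) (Lpn (LP (LK LD1_c14 LD2_c27 LD3_c29))))
theorem f467504 : Led Lsl_ct (LP (LK LD1_c13 LD2_c43 LD3_c52)) = (LP (LK LD1_c14 LD2_c27 LD3_c29)) :=
  Lgr Lrot111 (Lpe (K33.f467503 IH) (Lpr_cf (K33.f467500 IH) (Lpe (K33.f461736 IH) (Lpn (LP (LK LD1_c14 LD2_c27 LD3_c29))))))
theorem f480587 : Led Lsl_cf (LP (LK LD1_c22 LD2_c29 LD3_c4)) = (LP (LK LD1_c14 LD2_c50 LD3_c58)) :=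
  Lgr Lrot1 (Lpr_at (K33.f480586 IH) (Lpr_ct (K33.f479597 IH) (Lpr_at (f472692 IH) (Lpn (LP (LK LD1_c14 LD2_c50 LD3_c58))))))
theorem f521997 : Led Lsl_bf (LP (LK LD1_c13 LD2_c43 LD3_c52)) = (LP (LK LD1_c22 LD2_c29 LD3_c4)) :=
  Lgr Lrot90 (Lpr_ct (f467504 IH) (Lpe (f520333 IH) (Lpe (f479844 IH) (Lpr_bt (f520339 IH) (Lpe (f480587 IH) (Lpn (LP (LK LD1_c22 LD2_c29 LD3_c4))))))))
theorem f521999 : Led Lsl_bt (LP (LK LD1_c7 LD2_c15 LD3_c19)) = (LP (LK LD1_c13 LD2_c40 LD3_c3)) :=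
  Lgr Lrot119 (Lpe (K33.f467533 IH) (Lpr_bf (f521997 IH) (Lpr_ef (f480596 IH) (Lpn (LP (LK LD1_c13 LD2_c40 LD3_c3))))))
theorem f484230 : Led Lsl_bt (LP (LK LD1_c6 LD2_c55 LD3_c4)) = (LP (LK LD1_c3 LD2_c26 LD3_c37)) :=
  Lre_b IH (LK LD1_c6 LD2_c55 LD3_c4) (LK LD1_c3 LD2_c26 LD3_c37) Lrfl Lrfl
theorem f484226 : Led Lsl_ft (LP (LK LD1_c7 LD2_c11 LD3_c4)) = (LP (LK LD1_c6 LD2_c55 LD3_c4)) :=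
  Lgr Lrot48 (Lpr_ff (K33.f484223 IH) (Lpn (LP (LK LD1_c6 LD2_c55 LD3_c4))))
theorem f484231 : Led Lsl_cf (LP (LK LD1_c6 LD2_c55 LD3_c4)) = (LP (LK LD1_c6 LD2_c55 LD3_c4)) :=
  Lgr Lrot108 (Lpe (K33.f484223 IH) (Lpe (f479143 IH) (Lpr_ft (f484226 IH) (Lpn (LP (LK LD1_c6 LD2_c55 LD3_c4))))))
theorem f520307 : Led Lsl_gt (LP (LK LD1_c14 LD2_c18 LD3_c18)) = (LP (LK LD1_c7 LD2_c40 LD3_c8)) :=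
  Lgr Lrot82 (Lpe (K33.f489188 IH) (Lpr_ct (K33.f425593 IH) (Lpr_gf (K33.f488849 IH) (Lpr_cf (f484231 IH) (Lpr_bt (f484230 IH) (Lpe (K33.f484235 IH) (Lpe (K3.f89856 IH) (Lpr_ct (K33.f90031 IH) (Lpr_gf (K33.f520301 IH) (Lpr_cf (K33.f467516 IH) (Lpn (LP (LK LD1_c7 LD2_c40 LD3_c8)))))))))))))
theorem f489228 : Led Lsl_cf (LP (LK LD1_c14 LD2_c18 LD3_c18)) = (LP (LK LD1_c22 LD2_c47 LD3_c25)) :=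
  Lgr Lrot97 (Lpe (K33.f489190 IH) (Lpr_ct (K33.f425593 IH) (Lpr_bt (K37.f486788 IH) (Lpr_ct (K33.f488831 IH) (Lpr_bt (K37.f489223 IH) (Lpn (LP (LK LD1_c22 LD2_c47 LD3_c25))))))))
theorem f6615 : Led Lsl_ct (LP (LK LD1_c7 LD2_c6 LD3_c26)) = (LP (LK LD1_c13 LD2_c28 LD3_c0)) :=
  Lre_c IH (LK LD1_c7 LD2_c6 LD3_c26) (LK LD1_c13 LD2_c28 LD3_c0) Lrfl Lrfl
theorem f560700 : Led Lsl_gf (LP (LK LD1_c13 LD2_c28 LD3_c0)) = (LP (LK LD1_c12 LD2_c8 LD3_c34)) :=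
  Lgr Lrot126 (Lpe (f6615 IH) (Lpr_bt (K33.f480767 IH) (Lpr_gt (K33.f480771 IH) (Lpe (f489228 IH) (Lpr_gt (f520307 IH) (Lpe (K33.f467527 IH) (Lpr_bt (f521999 IH) (Lpe (f560521 IH) (Lpe (f160600 IH) (Lpr_ct (f560687 IH) (Lpn (LP (LK LD1_c12 LD2_c8 LD3_c34)))))))))))))
theorem f481014 : Led Lsl_bt (LP (LK LD1_c13 LD2_c43 LD3_c27)) = (LP (LK LD1_c13 LD2_c39 LD3_c30)) :=
  Lgr Lrot127 (Lpr_bf (K29.f481012 IH) (Lpn (LP (LK LD1_c13 LD2_c39 LD3_c30))))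
theorem f560702 : Led Lsl_gt (LP (LK LD1_c13 LD2_c39 LD3_c30)) = (LP (LK LD1_c13 LD2_c40 LD3_c35)) :=
  Lgr Lrot82 (Lpe (f481014 IH) (Lpe (K29.f482343 IH) (Lpe (K37.f488812 IH) (Lpr_cf (K37.f488839 IH) (Lpr_bt (K37.f489223 IH) (Lpe (K33.f480771 IH) (Lpe (K33.f480767 IH) (Lpr_ct (f6615 IH) (Lpr_gf (f560700 IH) (Lpe (f560687 IH) (Lpn (LP (LK LD1_c13 LD2_c40 LD3_c35)))))))))))))
theorem f560694 : Led Lsl_cf (LP (LK LD1_c13 LD2_c40 LD3_c35)) = (LP (LK LD1_c12 LD2_c8 LD3_c34)) :=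
  Lgr Lrot11 (Lpr_ct (f560687 IH) (Lpn (LP (LK LD1_c12 LD2_c8 LD3_c34))))
theorem f560681 : Led Lsl_bt (LP (LK LD1_c12 LD2_c8 LD3_c34)) = (LP (LK LD1_c6 LD2_c15 LD3_c11)) :=
  Lre_b IH (LK LD1_c12 LD2_c8 LD3_c34) (LK LD1_c6 LD2_c15 LD3_c11) Lrfl Lrfl
theorem f560706 : Led Lsl_gf (LP (LK LD1_c3 LD2_c34 LD3_c5)) = (LP (LK LD1_c6 LD2_c15 LD3_c11)) :=
  Lgr Lrot124 (Lpe (f6027 IH) (Lpr_ct (K29.f6026 IH) (Lpr_gt (K2.f6402 IH) (Lpe (K29.f6379 IH) (Lpr_bt (K29.f5975 IH) (Lpe (K29.f6392 IH) (Lpr_ct (K29.f6397 IH) (Lpr_gt (f560702 IH) (Lpr_cf (f560694 IH) (Lpr_bt (f560681 IH) (Lpn (LP (LK LD1_c6 LD2_c15 LD3_c11)))))))))))))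
theorem f10653 : Led Lsl_ct (LP (LK LD1_c1 LD2_c43 LD3_c39)) = (LP (LK LD1_c3 LD2_c33 LD3_c54)) :=
  Lre_c IH (LK LD1_c1 LD2_c43 LD3_c39) (LK LD1_c3 LD2_c33 LD3_c54) Lrfl Lrfl
theorem f6072 : Led Lsl_bt (LP (LK LD1_c3 LD2_c33 LD3_c53)) = (LP (LK LD1_c1 LD2_c43 LD3_c39)) :=
  Lre_b IH (LK LD1_c3 LD2_c33 LD3_c53) (LK LD1_c1 LD2_c43 LD3_c39) Lrfl Lrfl
theorem f456030 : Led Lsl_bt (LP (LK LD1_c3 LD2_c53 LD3_c61)) = (LP (LK LD1_c7 LD2_c8 LD3_c46)) :=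
  Lgr Lrot128 (Lpe (K29.f123372 IH) (Lpr_bf (K24.f456011 IH) (Lpe (f10653 IH) (Lpe (f6072 IH) (Lpe (K33.f456029 IH) (Lpn (LP (LK LD1_c7 LD2_c8 LD3_c46))))))))
theorem f560525 : Led Lsl_gf (LP (LK LD1_c7 LD2_c25 LD3_c7)) = (LP (LK LD1_c7 LD2_c8 LD3_c46)) :=
  Lgr Lrot181 (Lpr_ct (f160602 IH) (Lpr_gt (f560523 IH) (Lpe (f456245 IH) (Lpr_bt (K33.f456240 IH) (Lpr_gt (K29.f456230 IH) (Lpr_bf (K6.f122778 IH) (Lpr_ct (K33.f122814 IH) (Lpr_gt (K24.f122819 IH) (Lpe (K29.f122820 IH) (Lpr_bt (f456030 IH) (Lpn (LP (LK LD1_c7 LD2_c8 LD3_c46)))))))))))))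
theorem f560712 : Led Lsl_ct (LP (LK LD1_c7 LD2_c20 LD3_c18)) = (LP (LK LD1_c6 LD2_c15 LD3_c11)) :=
  Lgr Lrot64 (Lpe (f160596 IH) (Lpr_gf (f560525 IH) (Lpe (f456030 IH) (Lpr_ct (K29.f122820 IH) (Lpe (K24.f122819 IH) (Lpe (K33.f122814 IH) (Lpr_gf (K24.f455990 IH) (Lpe (K33.f456000 IH) (Lpr_ct (f456005 IH) (Lpr_gf (f560706 IH) (Lpn (LP (LK LD1_c6 LD2_c15 LD3_c11)))))))))))))
theorem f560745 : Led Lsl_af (LP (LK LD1_c7 LD2_c13 LD3_c29)) = (LP (LK LD1_c6 LD2_c15 LD3_c11)) :=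
  Lgr Lrot68 (Lpr_ct (f108105 IH) (Lpr_at (f445786 IH) (Lpr_ct (f560712 IH) (Lpn (LP (LK LD1_c6 LD2_c15 LD3_c11))))))
theorem f560580 : Led Lsl_ft (LP (LK LD1_c7 LD2_c13 LD3_c29)) = (LP (LK LD1_c7 LD2_c9 LD3_c16)) :=
  Lgr Lrot4 (Lpr_cf (f108100 IH) (Lpr_ff (f560530 IH) (Lpe (f6029 IH) (Lpn (LP (LK LD1_c7 LD2_c9 LD3_c16))))))
theorem f560639 : Led Lsl_ft (LP (LK LD1_c12 LD2_c8 LD3_c40)) = (LP (LK LD1_c6 LD2_c15 LD3_c11)) :=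
  Lre_f IH (LK LD1_c12 LD2_c8 LD3_c40) (LK LD1_c6 LD2_c15 LD3_c11) Lrfl Lrfl
theorem f560753 : Led Lsl_at (LP (LK LD1_c7 LD2_c9 LD3_c16)) = (LP (LK LD1_c12 LD2_c8 LD3_c40)) :=
  Lgr Lrot66 (Lpe (f560580 IH) (Lpr_af (f560745 IH) (Lpe (f560639 IH) (Lpn (LP (LK LD1_c12 LD2_c8 LD3_c40))))))
theorem f560865 : Led Lsl_ef (LP (LK LD1_c7 LD2_c9 LD3_c16)) = (LP (LK LD1_c7 LD2_c15 LD3_c10)) :=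
  Lgr Lrot20 (Lpr_at (f560753 IH) (Lpe (f560652 IH) (Lpr_at (f560631 IH) (Lpn (LP (LK LD1_c7 LD2_c15 LD3_c10))))))
theorem f560867 : Led Lsl_et (LP (LK LD1_c7 LD2_c9 LD3_c16)) = (LP (LK LD1_c7 LD2_c15 LD3_c10)) :=
  Lgr Lrot87 (Lpr_ef (f560865 IH) (Lpn (LP (LK LD1_c7 LD2_c15 LD3_c10))))
theorem f108118 : Led Lsl_et (LP (LK LD1_c3 LD2_c36 LD3_c35)) = (LP (LK LD1_c7 LD2_c13 LD3_c29)) :=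
  Lre_e IH (LK LD1_c3 LD2_c36 LD3_c35) (LK LD1_c7 LD2_c13 LD3_c29) Lrfl Lrfl
theorem f514927 : Led Lsl_ff (LP (LK LD1_c3 LD2_c36 LD3_c35)) = K39.v2353 :=
  Lgr Lrot23 (Lpr_ct (K28.f108093 IH) (Lpr_ft (f445796 IH) (Lpr_ct (K39.f514923 IH) (Lpn K39.v2353))))
theorem f418589 : Led Lsl_et (LP (LK LD1_c6 LD2_c15 LD3_c8)) = (LP (LK LD1_c3 LD2_c4 LD3_c33)) :=
  Lre_e IH (LK LD1_c6 LD2_c15 LD3_c8) (LK LD1_c3 LD2_c4 LD3_c33) Lrfl Lrfl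
theorem f560869 : Led Lsl_ff (LP (LK LD1_c6 LD2_c15 LD3_c8)) = (LP (LK LD1_c7 LD2_c15 LD3_c10)) :=
  Lgr Lrot72 (Lpr_et (f418589 IH) (Lpq (K39.f542981 IH) (Lpe (f514927 IH) (Lpr_et (f108118 IH) (Lpr_ft (f560580 IH) (Lpr_et (f560867 IH) (Lpn (LP (LK LD1_c7 LD2_c15 LD3_c10)))))))))
theorem f210527 : Led Lsl_et (LP (LK LD1_c3 LD2_c4 LD3_c34)) = (LP (LK LD1_c1 LD2_c28 LD3_c16)) :=
  Lre_e IH (LK LD1_c3 LD2_c4 LD3_c34) (LK LD1_c1 LD2_c28 LD3_c16) Lrfl Lrfl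
theorem f227589 : Led Lsl_et (LP (LK LD1_c9 LD2_c47 LD3_c11)) = (LP (LK LD1_c4 LD2_c58 LD3_c8)) :=
  Lre_e IH (LK LD1_c9 LD2_c47 LD3_c11) (LK LD1_c4 LD2_c58 LD3_c8) Lrfl Lrfl
theorem f227590 : Led Lsl_dt (LP (LK LD1_c6 LD2_c15 LD3_c8)) = (LP (LK LD1_c9 LD2_c47 LD3_c11)) :=
  Lgr Lrot77 (Lpe (f210528 IH) (Lpe (K39.f210526 IH) (Lpe (f210527 IH) (Lpr_df (K12.f227550 IH) (Lpe (f227589 IH) (Lpn (LP (LK LD1_c9 LD2_c47 LD3_c11))))))))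
theorem f6067 : Led Lsl_dt (LP (LK LD1_c13 LD2_c43 LD3_c33)) = (LP (LK LD1_c7 LD2_c15 LD3_c10)) :=
  Lre_d IH (LK LD1_c13 LD2_c43 LD3_c33) (LK LD1_c7 LD2_c15 LD3_c10) Lrfl Lrfl
theorem f560871 : Led Lsl_ft (LP (LK LD1_c9 LD2_c47 LD3_c11)) = (LP (LK LD1_c13 LD2_c43 LD3_c33)) :=
  Lgr Lrot54 (Lpe (f227590 IH) (Lpr_ff (f560869 IH) (Lpe (f6067 IH) (Lpn (LP (LK LD1_c13 LD2_c43 LD3_c33))))))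
theorem f560879 : Led Lsl_ff (LP (LK LD1_c9 LD2_c47 LD3_c11)) = (LP (LK LD1_c13 LD2_c43 LD3_c33)) :=
  Lgr Lrot3 (Lpr_ft (f560871 IH) (Lpn (LP (LK LD1_c13 LD2_c43 LD3_c33))))
theorem f272548 : Led Lsl_et (LP (LK LD1_c4 LD2_c24 LD3_c61)) = (LP (LK LD1_c8 LD2_c47 LD3_c33)) :=
  Lre_e IH (LK LD1_c4 LD2_c24 LD3_c61) (LK LD1_c8 LD2_c47 LD3_c33) Lrfl Lrfl
theorem f453153 : Led Lsl_ft (LP (LK LD1_c8 LD2_c47 LD3_c33)) = (LP (LK LD1_c16 LD2_c27 LD3_c17)) :=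
  Lre_f IH (LK LD1_c8 LD2_c47 LD3_c33) (LK LD1_c16 LD2_c27 LD3_c17) Lrfl Lrfl
theorem f560885 : Led Lsl_et (LP (LK LD1_c16 LD2_c27 LD3_c17)) = (LP (LK LD1_c13 LD2_c43 LD3_c33)) :=
  Lgr Lrot69 (Lpe (f453153 IH) (Lpe (f272548 IH) (Lpr_ff (K31.f453145 IH) (Lpe (f227589 IH) (Lpr_ff (f560879 IH) (Lpn (LP (LK LD1_c13 LD2_c43 LD3_c33))))))))
theorem f6068 : Led Lsl_dt (LP (LK LD1_c7 LD2_c9 LD3_c16)) = (LP (LK LD1_c13 LD2_c33 LD3_c3)) :=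
  Lre_d IH (LK LD1_c7 LD2_c9 LD3_c16) (LK LD1_c13 LD2_c33 LD3_c3) Lrfl Lrfl
theorem f6065 : Led Lsl_et (LP (LK LD1_c13 LD2_c33 LD3_c3)) = (LP (LK LD1_c22 LD2_c55 LD3_c33)) :=
  Lre_e IH (LK LD1_c13 LD2_c33 LD3_c3) (LK LD1_c22 LD2_c55 LD3_c33) Lrfl Lrfl
theorem f560891 : Led Lsl_df (LP (LK LD1_c16 LD2_c27 LD3_c17)) = (LP (LK LD1_c22 LD2_c55 LD3_c33)) :=
  Lgr Lrot70 (Lpr_et (f560885 IH) (Lpr_dt (f6067 IH) (Lpe (f560865 IH) (Lpr_dt (f6068 IH) (Lpr_et (f6065 IH) (Lpn (LP (LK LD1_c22 LD2_c55 LD3_c33))))))))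
theorem f453163 : Led Lsl_at (LP (LK LD1_c8 LD2_c47 LD3_c35)) = (LP (LK LD1_c8 LD2_c48 LD3_c45)) :=
  Lgr Lrot107 (Lpe (K18.f37574 IH) (Lpr_af (K31.f453161 IH) (Lpe (K12.f227592 IH) (Lpn (LP (LK LD1_c8 LD2_c48 LD3_c45))))))
theorem f227597 : Led Lsl_cf (LP (LK LD1_c8 LD2_c48 LD3_c45)) = (LP (LK LD1_c4 LD2_c58 LD3_c8)) :=
  Lgr Lrot11 (Lpr_ct (K12.f227592 IH) (Lpn (LP (LK LD1_c4 LD2_c58 LD3_c8))))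
theorem f453156 : Led Lsl_ff (LP (LK LD1_c8 LD2_c47 LD3_c32)) = (LP (LK LD1_c8 LD2_c48 LD3_c45)) :=
  Lgr Lrot23 (Lpr_ct (K12.f37589 IH) (Lpr_ft (K31.f453154 IH) (Lpe (f227597 IH) (Lpn (LP (LK LD1_c8 LD2_c48 LD3_c45))))))
theorem f453181 : Led Lsl_at (LP (LK LD1_c8 LD2_c47 LD3_c32)) = (LP (LK LD1_c8 LD2_c48 LD3_c44)) :=
  Lgr Lrot66 (Lpr_ff (f453156 IH) (Lpe (f453163 IH) (Lpr_ff (K31.f453173 IH) (Lpn (LP (LK LD1_c8 LD2_c48 LD3_c44))))))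
theorem f227519 : Led Lsl_et (LP (LK LD1_c16 LD2_c27 LD3_c14)) = (LP (LK LD1_c8 LD2_c47 LD3_c32)) :=
  Lre_e IH (LK LD1_c16 LD2_c27 LD3_c14) (LK LD1_c8 LD2_c47 LD3_c32) Lrfl Lrfl
theorem f272635 : Led Lsl_et (LP (LK LD1_c8 LD2_c48 LD3_c44)) = (LP (LK LD1_c16 LD2_c29 LD3_c4)) :=
  Lre_e IH (LK LD1_c8 LD2_c48 LD3_c44) (LK LD1_c16 LD2_c29 LD3_c4) Lrfl Lrfl
theorem f453421 : Led Lsl_af (LP (LK LD1_c16 LD2_c27 LD3_c14)) = (LP (LK LD1_c16 LD2_c29 LD3_c4)) :=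
  Lgr Lrot50 (Lpr_et (f227519 IH) (Lpr_at (f453181 IH) (Lpr_et (f272635 IH) (Lpn (LP (LK LD1_c16 LD2_c29 LD3_c4))))))
theorem f453426 : Led Lsl_ct (LP (LK LD1_c16 LD2_c27 LD3_c14)) = (LP (LK LD1_c8 LD2_c47 LD3_c33)) :=
  Lre_c IH (LK LD1_c16 LD2_c27 LD3_c14) (LK LD1_c8 LD2_c47 LD3_c33) Lrfl Lrfl
theorem f227803 : Led Lsl_et (LP (LK LD1_c16 LD2_c29 LD3_c4)) = (LP (LK LD1_c8 LD2_c48 LD3_c44)) :=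
  Lre_e IH (LK LD1_c16 LD2_c29 LD3_c4) (LK LD1_c8 LD2_c48 LD3_c44) Lrfl Lrfl
theorem f227792 : Led Lsl_et (LP (LK LD1_c4 LD2_c58 LD3_c7)) = (LP (LK LD1_c9 LD2_c47 LD3_c10)) :=
  Lre_e IH (LK LD1_c4 LD2_c58 LD3_c7) (LK LD1_c9 LD2_c47 LD3_c10) Lrfl Lrfl
theorem f227804 : Led Lsl_cf (LP (LK LD1_c16 LD2_c29 LD3_c4)) = (LP (LK LD1_c9 LD2_c47 LD3_c10)) :=
  Lgr Lrot39 (Lpr_et (f227803 IH) (Lpr_ct (K12.f227784 IH) (Lpr_et (f227792 IH) (Lpn (LP (LK LD1_c9 LD2_c47 LD3_c10))))))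
theorem f453427 : Led Lsl_at (LP (LK LD1_c8 LD2_c47 LD3_c33)) = (LP (LK LD1_c9 LD2_c47 LD3_c10)) :=
  Lgr Lrot107 (Lpe (f453426 IH) (Lpr_af (f453421 IH) (Lpr_cf (f227804 IH) (Lpn (LP (LK LD1_c9 LD2_c47 LD3_c10))))))
theorem f453160 : Led Lsl_ft (LP (LK LD1_c16 LD2_c27 LD3_c17)) = (LP (LK LD1_c8 LD2_c47 LD3_c33)) :=
  Lre_f IH (LK LD1_c16 LD2_c27 LD3_c17) (LK LD1_c8 LD2_c47 LD3_c33) Lrfl Lrfl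
theorem f272847 : Led Lsl_gt (LP (LK LD1_c17 LD2_c57 LD3_c31)) = (LP (LK LD1_c9 LD2_c47 LD3_c10)) :=
  Lre_g IH (LK LD1_c17 LD2_c57 LD3_c31) (LK LD1_c9 LD2_c47 LD3_c10) Lrfl Lrfl
theorem f453433 : Led Lsl_gt (LP (LK LD1_c16 LD2_c27 LD3_c17)) = (LP (LK LD1_c17 LD2_c57 LD3_c31)) :=
  Lgr Lrot5 (Lpr_ft (f453160 IH) (Lpr_at (f453427 IH) (Lpe (f272847 IH) (Lpn (LP (LK LD1_c17 LD2_c57 LD3_c31))))))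
theorem f418501 : Led Lsl_dt (LP (LK LD1_c27 LD2_c42 LD3_c4)) = (LP (LK LD1_c17 LD2_c57 LD3_c31)) :=
  Lre_d IH (LK LD1_c27 LD2_c42 LD3_c4) (LK LD1_c17 LD2_c57 LD3_c31) Lrfl Lrfl
theorem f37367 : Led Lsl_et (LP (LK LD1_c12 LD2_c5 LD3_c58)) = (LP (LK LD1_c21 LD2_c11 LD3_c53)) :=
  Lre_e IH (LK LD1_c12 LD2_c5 LD3_c58) (LK LD1_c21 LD2_c11 LD3_c53) Lrfl Lrfl
theorem f16473 : Led Lsl_ct (LP (LK LD1_c8 LD2_c51 LD3_c34)) = (LP (LK LD1_c16 LD2_c33 LD3_c47)) :=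
  Lre_c IH (LK LD1_c8 LD2_c51 LD3_c34) (LK LD1_c16 LD2_c33 LD3_c47) Lrfl Lrfl
theorem f30046 : Led Lsl_ct (LP (LK LD1_c1 LD2_c57 LD3_c14)) = (LP (LK LD1_c4 LD2_c0 LD3_c54)) :=
  Lre_c IH (LK LD1_c1 LD2_c57 LD3_c14) (LK LD1_c4 LD2_c0 LD3_c54) Lrfl Lrfl
theorem f35718 : Led Lsl_gt (LP (LK LD1_c16 LD2_c33 LD3_c47)) = (LP (LK LD1_c15 LD2_c8 LD3_c26)) :=
  Lgr Lrot150 (Lpe (f16473 IH) (Lpr_gf (K37.f16224 IH) (Lpe (K1.f16345 IH) (Lpe (K37.f16599 IH) (Lpr_ct (K37.f35710 IH) (Lpr_gt (K37.f30053 IH) (Lpr_ct (f30046 IH) (Lpe (K1.f30057 IH) (Lpe (K1.f30058 IH) (Lpn (LP (LK LD1_c15 LD2_c8 LD3_c26))))))))))))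
theorem f16254 : Led Lsl_ct (LP (LK LD1_c16 LD2_c33 LD3_c47)) = (LP (LK LD1_c8 LD2_c51 LD3_c34)) :=
  Lre_c IH (LK LD1_c16 LD2_c33 LD3_c47) (LK LD1_c8 LD2_c51 LD3_c34) Lrfl Lrfl
theorem f35720 : Led Lsl_ct (LP (LK LD1_c8 LD2_c51 LD3_c28)) = (LP (LK LD1_c16 LD2_c33 LD3_c37)) :=
  Lre_c IH (LK LD1_c8 LD2_c51 LD3_c28) (LK LD1_c16 LD2_c33 LD3_c37) Lrfl Lrfl
theorem f35721 : Led Lsl_dt (LP (LK LD1_c26 LD2_c30 LD3_c23)) = (LP (LK LD1_c16 LD2_c33 LD3_c37)) :=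
  Lre_d IH (LK LD1_c26 LD2_c30 LD3_c23) (LK LD1_c16 LD2_c33 LD3_c37) Lrfl Lrfl
theorem f35722 : Led Lsl_gf (LP (LK LD1_c26 LD2_c30 LD3_c23)) = (LP (LK LD1_c24 LD2_c57 LD3_c19)) :=
  Lgr Lrot143 (Lpr_dt (f35721 IH) (Lpe (f35720 IH) (Lpe (K1.f16434 IH) (Lpe (K1.f16422 IH) (Lpe (K1.f16214 IH) (Lpe (K37.f16223 IH) (Lpe (f16254 IH) (Lpr_gt (f35718 IH) (Lpr_dt (K1.f30065 IH) (Lpn (LP (LK LD1_c24 LD2_c57 LD3_c19))))))))))))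
theorem f16406 : Led Lsl_ct (LP (LK LD1_c8 LD2_c50 LD3_c60)) = (LP (LK LD1_c16 LD2_c32 LD3_c35)) :=
  Lre_c IH (LK LD1_c8 LD2_c50 LD3_c60) (LK LD1_c16 LD2_c32 LD3_c35) Lrfl Lrfl
theorem f38711 : Led Lsl_dt (LP (LK LD1_c24 LD2_c46 LD3_c49)) = (LP (LK LD1_c16 LD2_c32 LD3_c35)) :=
  Lgr Lrot173 (Lpe (K1.f38710 IH) (Lpe (K1.f38709 IH) (Lpe (K1.f38708 IH) (Lpe (K1.f38707 IH) (Lpr_cf (K1.f38698 IH) (Lpe (K1.f16214 IH) (Lpe (K1.f16226 IH) (Lpe (K1.f16227 IH) (Lpr_cf (K1.f16233 IH) (Lpe (K1.f16232 IH) (Lpe (K1.f16231 IH) (Lpe (K1.f16230 IH) (Lpe (K1.f16229 IH) (Lpe (K1.f16228 IH) (Lpe (K1.f16239 IH) (Lpn (LP (LK LD1_c16 LD2_c32 LD3_c35))))))))))))))))))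
theorem f38784 : Led Lsl_gt (LP (LK LD1_c24 LD2_c46 LD3_c48)) = (LP (LK LD1_c14 LD2_c59 LD3_c14)) :=
  Lre_g IH (LK LD1_c24 LD2_c46 LD3_c48) (LK LD1_c14 LD2_c59 LD3_c14) Lrfl Lrfl
theorem f445135 : Led Lsl_ct (LP (LK LD1_c26 LD2_c30 LD3_c23)) = (LP (LK LD1_c24 LD2_c46 LD3_c48)) :=
  Lgr Lrot152 (Lpr_gf (f35722 IH) (Lpe (K1.f30065 IH) (Lpr_gt (K37.f445131 IH) (Lpr_ct (K37.f16541 IH) (Lpr_gt (K37.f16538 IH) (Lpr_ct (f16406 IH) (Lpe (f38711 IH) (Lpe (K1.f38710 IH) (Lpe (f38784 IH) (Lpn (LP (LK LD1_c24 LD2_c46 LD3_c48))))))))))))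
theorem f241123 : Led Lsl_gt (LP (LK LD1_c8 LD2_c51 LD3_c9)) = (LP (LK LD1_c16 LD2_c33 LD3_c4)) :=
  Lre_g IH (LK LD1_c8 LD2_c51 LD3_c9) (LK LD1_c16 LD2_c33 LD3_c4) Lrfl Lrfl
theorem f37785 : Led Lsl_ct (LP (LK LD1_c15 LD2_c0 LD3_c24)) = (LP (LK LD1_c24 LD2_c47 LD3_c44)) :=
  Lre_c IH (LK LD1_c15 LD2_c0 LD3_c24) (LK LD1_c24 LD2_c47 LD3_c44) Lrfl Lrfl
theorem f16429 : Led Lsl_ct (LP (LK LD1_c2 LD2_c10 LD3_c34)) = (LP (LK LD1_c4 LD2_c26 LD3_c42)) :=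
  Lre_c IH (LK LD1_c2 LD2_c10 LD3_c34) (LK LD1_c4 LD2_c26 LD3_c42) Lrfl Lrfl
theorem f30077 : Led Lsl_ct (LP (LK LD1_c15 LD2_c8 LD3_c44)) = (LP (LK LD1_c8 LD2_c2 LD3_c38)) :=
  Lre_c IH (LK LD1_c15 LD2_c8 LD3_c44) (LK LD1_c8 LD2_c2 LD3_c38) Lrfl Lrfl
theorem f39992 : Led Lsl_gt (LP (LK LD1_c24 LD2_c47 LD3_c44)) = (LP (LK LD1_c15 LD2_c8 LD3_c44)) :=
  Lgr Lrot150 (Lpe (f37785 IH) (Lpe (K1.f37782 IH) (Lpe (K1.f37781 IH) (Lpr_gt (K2.f39984 IH) (Lpr_ct (f16429 IH) (Lpe (K37.f16599 IH) (Lpr_ct (K37.f35710 IH) (Lpe (K37.f30086 IH) (Lpe (f30077 IH) (Lpn (LP (LK LD1_c15 LD2_c8 LD3_c44))))))))))))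
theorem f38725 : Led Lsl_ct (LP (LK LD1_c7 LD2_c56 LD3_c35)) = (LP (LK LD1_c3 LD2_c57 LD3_c35)) :=
  Lre_c IH (LK LD1_c7 LD2_c56 LD3_c35) (LK LD1_c3 LD2_c57 LD3_c35) Lrfl Lrfl
theorem f227570 : Led Lsl_dt (LP (LK LD1_c15 LD2_c8 LD3_c44)) = (LP (LK LD1_c24 LD2_c46 LD3_c48)) :=
  Lgr Lrot57 (Lpe (f39992 IH) (Lpe (f37785 IH) (Lpr_gt (K37.f227567 IH) (Lpr_dt (K37.f70305 IH) (Lpr_gt (K37.f38734 IH) (Lpr_dt (K1.f38707 IH) (Lpe (f38725 IH) (Lpe (K9.f38771 IH) (Lpe (f38784 IH) (Lpn (LP (LK LD1_c24 LD2_c46 LD3_c48))))))))))))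
theorem f30078 : Led Lsl_ct (LP (LK LD1_c8 LD2_c2 LD3_c38)) = (LP (LK LD1_c15 LD2_c8 LD3_c44)) :=
  Lre_c IH (LK LD1_c8 LD2_c2 LD3_c38) (LK LD1_c15 LD2_c8 LD3_c44) Lrfl Lrfl
theorem f272612 : Led Lsl_gf (LP (LK LD1_c3 LD2_c57 LD3_c19)) = (LP (LK LD1_c4 LD2_c56 LD3_c38)) :=
  Lgr Lrot144 (Lpr_dt (K18.f28538 IH) (Lpr_gt (K18.f272610 IH) (Lpr_dt (K12.f80392 IH) (Lpe (K12.f227465 IH) (Lpe (K13.f227470 IH) (Lpe (K13.f229355 IH) (Lpe (K11.f182391 IH) (Lpe (K12.f179916 IH) (Lpe (K12.f182412 IH) (Lpn (LP (LK LD1_c4 LD2_c56 LD3_c38))))))))))))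
theorem f211114 : Led Lsl_et (LP (LK LD1_c7 LD2_c56 LD3_c17)) = (LP (LK LD1_c14 LD2_c58 LD3_c26)) :=
  Lre_e IH (LK LD1_c7 LD2_c56 LD3_c17) (LK LD1_c14 LD2_c58 LD3_c26) Lrfl Lrfl
theorem f37566 : Led Lsl_et (LP (LK LD1_c4 LD2_c58 LD3_c2)) = (LP (LK LD1_c2 LD2_c26 LD3_c54)) :=
  Lre_e IH (LK LD1_c4 LD2_c58 LD3_c2) (LK LD1_c2 LD2_c26 LD3_c54) Lrfl Lrfl
theorem f37387 : Led Lsl_gt (LP (LK LD1_c4 LD2_c58 LD3_c1)) = (LP (LK LD1_c2 LD2_c26 LD3_c51)) :=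
  Lre_g IH (LK LD1_c4 LD2_c58 LD3_c1) (LK LD1_c2 LD2_c26 LD3_c51) Lrfl Lrfl
theorem f37399 : Led Lsl_dt (LP (LK LD1_c9 LD2_c46 LD3_c59)) = (LP (LK LD1_c4 LD2_c58 LD3_c1)) :=
  Lre_d IH (LK LD1_c9 LD2_c46 LD3_c59) (LK LD1_c4 LD2_c58 LD3_c1) Lrfl Lrfl
theorem f37414 : Led Lsl_et (LP (LK LD1_c9 LD2_c46 LD3_c59)) = (LP (LK LD1_c17 LD2_c57 LD3_c5)) :=
  Lre_e IH (LK LD1_c9 LD2_c46 LD3_c59) (LK LD1_c17 LD2_c57 LD3_c5) Lrfl Lrfl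
theorem f272848 : Led Lsl_gt (LP (LK LD1_c14 LD2_c58 LD3_c26)) = (LP (LK LD1_c17 LD2_c57 LD3_c5)) :=
  Lgr Lrot131 (Lpe (f211114 IH) (Lpr_dt (K18.f28543 IH) (Lpr_gf (f272612 IH) (Lpr_df (K12.f211053 IH) (Lpe (K12.f37336 IH) (Lpe (f37566 IH) (Lpr_dt (K6.f37618 IH) (Lpe (f37387 IH) (Lpe (f37399 IH) (Lpr_et (f37414 IH) (Lpn (LP (LK LD1_c17 LD2_c57 LD3_c5)))))))))))))
theorem f30140 : Led Lsl_et (LP (LK LD1_c4 LD2_c0 LD3_c31)) = (LP (LK LD1_c1 LD2_c56 LD3_c61)) :=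
  Lre_e IH (LK LD1_c4 LD2_c0 LD3_c31) (LK LD1_c1 LD2_c56 LD3_c61) Lrfl Lrfl
theorem f30633 : Led Lsl_dt (LP (LK LD1_c4 LD2_c0 LD3_c55)) = (LP (LK LD1_c8 LD2_c2 LD3_c35)) :=
  Lre_d IH (LK LD1_c4 LD2_c0 LD3_c55) (LK LD1_c8 LD2_c2 LD3_c35) Lrfl Lrfl
theorem f30632 : Led Lsl_gt (LP (LK LD1_c8 LD2_c2 LD3_c35)) = (LP (LK LD1_c15 LD2_c8 LD3_c33)) :=
  Lre_g IH (LK LD1_c8 LD2_c2 LD3_c35) (LK LD1_c15 LD2_c8 LD3_c33) Lrfl Lrfl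
theorem f37388 : Led Lsl_et (LP (LK LD1_c9 LD2_c46 LD3_c60)) = (LP (LK LD1_c4 LD2_c58 LD3_c1)) :=
  Lre_e IH (LK LD1_c9 LD2_c46 LD3_c60) (LK LD1_c4 LD2_c58 LD3_c1) Lrfl Lrfl
theorem f37389 : Led Lsl_df (LP (LK LD1_c15 LD2_c8 LD3_c33)) = (LP (LK LD1_c9 LD2_c46 LD3_c60)) :=
  Lgr Lrot132 (Lpe (f30632 IH) (Lpe (f30633 IH) (Lpe (K37.f30627 IH) (Lpe (K37.f30099 IH) (Lpr_dt (K1.f29552 IH) (Lpr_gf (K1.f37324 IH) (Lpe (K1.f37330 IH) (Lpr_et (K1.f37331 IH) (Lpe (f37387 IH) (Lpe (f37388 IH) (Lpn (LP (LK LD1_c9 LD2_c46 LD3_c60)))))))))))))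
theorem f37397 : Led Lsl_et (LP (LK LD1_c15 LD2_c8 LD3_c33)) = (LP (LK LD1_c24 LD2_c57 LD3_c30)) :=
  Lre_e IH (LK LD1_c15 LD2_c8 LD3_c33) (LK LD1_c24 LD2_c57 LD3_c30) Lrfl Lrfl
theorem f37398 : Led Lsl_et (LP (LK LD1_c4 LD2_c58 LD3_c1)) = (LP (LK LD1_c9 LD2_c46 LD3_c60)) :=
  Lre_e IH (LK LD1_c4 LD2_c58 LD3_c1) (LK LD1_c9 LD2_c46 LD3_c60) Lrfl Lrfl
theorem f37400 : Led Lsl_et (LP (LK LD1_c17 LD2_c57 LD3_c5)) = (LP (LK LD1_c9 LD2_c46 LD3_c59)) :=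
  Lre_e IH (LK LD1_c17 LD2_c57 LD3_c5) (LK LD1_c9 LD2_c46 LD3_c59) Lrfl Lrfl
theorem f37401 : Led Lsl_dt (LP (LK LD1_c24 LD2_c57 LD3_c30)) = (LP (LK LD1_c17 LD2_c57 LD3_c5)) :=
  Lgr Lrot77 (Lpe (f37397 IH) (Lpr_df (f37389 IH) (Lpe (f37398 IH) (Lpe (f37399 IH) (Lpe (f37400 IH) (Lpn (LP (LK LD1_c17 LD2_c57 LD3_c5))))))))
theorem f37411 : Led Lsl_et (LP (LK LD1_c24 LD2_c57 LD3_c30)) = (LP (LK LD1_c15 LD2_c8 LD3_c33)) :=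
  Lre_e IH (LK LD1_c24 LD2_c57 LD3_c30) (LK LD1_c15 LD2_c8 LD3_c33) Lrfl Lrfl
theorem f272851 : Led Lsl_gf (LP (LK LD1_c8 LD2_c2 LD3_c38)) = (LP (LK LD1_c15 LD2_c8 LD3_c33)) :=
  Lgr Lrot138 (Lpr_dt (K37.f30086 IH) (Lpr_gt (K37.f30053 IH) (Lpe (K37.f30071 IH) (Lpr_et (f30140 IH) (Lpe (K11.f211111 IH) (Lpe (K18.f211121 IH) (Lpr_dt (K18.f211122 IH) (Lpr_gt (f272848 IH) (Lpe (f37401 IH) (Lpr_et (f37411 IH) (Lpn (LP (LK LD1_c15 LD2_c8 LD3_c33)))))))))))))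
theorem f445284 : Led Lsl_ct (LP (LK LD1_c16 LD2_c33 LD3_c4)) = (LP (LK LD1_c15 LD2_c8 LD3_c33)) :=
  Lgr Lrot152 (Lpe (f241123 IH) (Lpe (K37.f408147 IH) (Lpe (K37.f408159 IH) (Lpr_ct (K1.f30060 IH) (Lpe (f35722 IH) (Lpr_ct (f445135 IH) (Lpe (f227570 IH) (Lpe (f30078 IH) (Lpr_gf (f272851 IH) (Lpn (LP (LK LD1_c15 LD2_c8 LD3_c33))))))))))))
theorem f445028 : Led Lsl_dt (LP (LK LD1_c8 LD2_c51 LD3_c8)) = (LP (LK LD1_c16 LD2_c33 LD3_c3)) :=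
  Lre_d IH (LK LD1_c8 LD2_c51 LD3_c8) (LK LD1_c16 LD2_c33 LD3_c3) Lrfl Lrfl
theorem f34749 : Led Lsl_gt (LP (LK LD1_c4 LD2_c24 LD3_c39)) = (LP (LK LD1_c2 LD2_c9 LD3_c48)) :=
  Lre_g IH (LK LD1_c4 LD2_c24 LD3_c39) (LK LD1_c2 LD2_c9 LD3_c48) Lrfl Lrfl
theorem f34750 : Led Lsl_et (LP (LK LD1_c8 LD2_c46 LD3_c54)) = (LP (LK LD1_c4 LD2_c24 LD3_c39)) :=
  Lre_e IH (LK LD1_c8 LD2_c46 LD3_c54) (LK LD1_c4 LD2_c24 LD3_c39) Lrfl Lrfl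
theorem f34751 : Led Lsl_dt (LP (LK LD1_c8 LD2_c46 LD3_c54)) = (LP (LK LD1_c16 LD2_c25 LD3_c52)) :=
  Lre_d IH (LK LD1_c8 LD2_c46 LD3_c54) (LK LD1_c16 LD2_c25 LD3_c52) Lrfl Lrfl
theorem f445040 : Led Lsl_gf (LP (LK LD1_c16 LD2_c25 LD3_c52)) = (LP (LK LD1_c8 LD2_c51 LD3_c5)) :=
  Lgr Lrot134 (Lpe (f34751 IH) (Lpr_et (f34750 IH) (Lpr_gt (f34749 IH) (Lpe (K1.f34748 IH) (Lpr_dt (K1.f34744 IH) (Lpr_gt (K1.f34741 IH) (Lpr_df (K4.f30709 IH) (Lpr_et (K1.f30712 IH) (Lpr_gt (K37.f444895 IH) (Lpr_dt (K37.f444856 IH) (Lpn (LP (LK LD1_c8 LD2_c51 LD3_c5)))))))))))))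
theorem f418086 : Led Lsl_dt (LP (LK LD1_c16 LD2_c25 LD3_c52)) = (LP (LK LD1_c8 LD2_c46 LD3_c54)) :=
  Lre_d IH (LK LD1_c16 LD2_c25 LD3_c52) (LK LD1_c8 LD2_c46 LD3_c54) Lrfl Lrfl
theorem f37395 : Led Lsl_dt (LP (LK LD1_c15 LD2_c8 LD3_c33)) = (LP (LK LD1_c9 LD2_c46 LD3_c60)) :=
  Lgr Lrot42 (Lpr_df (f37389 IH) (Lpn (LP (LK LD1_c9 LD2_c46 LD3_c60))))
theorem f445042 : Led Lsl_ct (LP (LK LD1_c8 LD2_c46 LD3_c54)) = (LP (LK LD1_c9 LD2_c46 LD3_c60)) :=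
  Lgr Lrot7 (Lpe (f418086 IH) (Lpr_gf (f445040 IH) (Lpe (K37.f444856 IH) (Lpe (K37.f444895 IH) (Lpe (f30046 IH) (Lpr_gt (K37.f30627 IH) (Lpr_dt (f30633 IH) (Lpr_gt (f30632 IH) (Lpr_dt (f37395 IH) (Lpn (LP (LK LD1_c9 LD2_c46 LD3_c60))))))))))))
theorem f60537 : Led Lsl_et (LP (LK LD1_c4 LD2_c26 LD3_c39)) = (LP (LK LD1_c8 LD2_c50 LD3_c53)) :=
  Lre_e IH (LK LD1_c4 LD2_c26 LD3_c39) (LK LD1_c8 LD2_c50 LD3_c53) Lrfl Lrfl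
theorem f30131 : Led Lsl_et (LP (LK LD1_c8 LD2_c1 LD3_c23)) = (LP (LK LD1_c4 LD2_c0 LD3_c11)) :=
  Lre_e IH (LK LD1_c8 LD2_c1 LD3_c23) (LK LD1_c4 LD2_c0 LD3_c11) Lrfl Lrfl
theorem f445176 : Led Lsl_ct (LP (LK LD1_c8 LD2_c50 LD3_c53)) = (LP (LK LD1_c8 LD2_c1 LD3_c23)) :=
  Lgr Lrot15 (Lpe (f60537 IH) (Lpr_cf (K37.f445170 IH) (Lpe (f30131 IH) (Lpn (LP (LK LD1_c8 LD2_c1 LD3_c23))))))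
theorem f60535 : Led Lsl_df (LP (LK LD1_c8 LD2_c50 LD3_c53)) = (LP (LK LD1_c11 LD2_c23 LD3_c21)) :=
  Lgr Lrot38 (Lpr_dt (K2.f60532 IH) (Lpn (LP (LK LD1_c11 LD2_c23 LD3_c21))))
theorem f81343 : Led Lsl_at (LP (LK LD1_c6 LD2_c14 LD3_c14)) = (LP (LK LD1_c8 LD2_c45 LD3_c37)) :=
  Lgr Lrot107 (Lpr_cf (K32.f81245 IH) (Lpe (K2.f70139 IH) (Lpe (K10.f81137 IH) (Lpn (LP (LK LD1_c8 LD2_c45 LD3_c37))))))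
theorem f59729 : Led Lsl_gt (LP (LK LD1_c3 LD2_c3 LD3_c61)) = (LP (LK LD1_c6 LD2_c14 LD3_c12)) :=
  Lre_g IH (LK LD1_c3 LD2_c3 LD3_c61) (LK LD1_c6 LD2_c14 LD3_c12) Lrfl Lrfl
theorem f81449 : Led Lsl_gt (LP (LK LD1_c6 LD2_c14 LD3_c12)) = (LP (LK LD1_c8 LD2_c45 LD3_c37)) :=
  Lgr Lrot46 (Lpe (f59729 IH) (Lpr_ft (K37.f81227 IH) (Lpr_at (f81343 IH) (Lpn (LP (LK LD1_c8 LD2_c45 LD3_c37))))))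
theorem f59737 : Led Lsl_et (LP (LK LD1_c12 LD2_c6 LD3_c55)) = (LP (LK LD1_c6 LD2_c14 LD3_c12)) :=
  Lre_e IH (LK LD1_c12 LD2_c6 LD3_c55) (LK LD1_c6 LD2_c14 LD3_c12) Lrfl Lrfl
theorem f59728 : Led Lsl_et (LP (LK LD1_c1 LD2_c28 LD3_c2)) = (LP (LK LD1_c3 LD2_c3 LD3_c61)) :=
  Lre_e IH (LK LD1_c1 LD2_c28 LD3_c2) (LK LD1_c3 LD2_c3 LD3_c61) Lrfl Lrfl
theorem f36862 : Led Lsl_dt (LP (LK LD1_c3 LD2_c3 LD3_c38)) = (LP (LK LD1_c6 LD2_c13 LD3_c36)) :=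
  Lre_d IH (LK LD1_c3 LD2_c3 LD3_c38) (LK LD1_c6 LD2_c13 LD3_c36) Lrfl Lrfl
theorem f36792 : Led Lsl_gt (LP (LK LD1_c12 LD2_c5 LD3_c61)) = (LP (LK LD1_c6 LD2_c13 LD3_c36)) :=
  Lre_g IH (LK LD1_c12 LD2_c5 LD3_c61) (LK LD1_c6 LD2_c13 LD3_c36) Lrfl Lrfl
theorem f59738 : Led Lsl_dt (LP (LK LD1_c12 LD2_c6 LD3_c55)) = (LP (LK LD1_c12 LD2_c5 LD3_c61)) :=
  Lgr Lrot136 (Lpr_et (f59737 IH) (Lpe (f59729 IH) (Lpe (f59728 IH) (Lpr_dt (K2.f59694 IH) (Lpr_gf (K1.f59701 IH) (Lpe (K4.f36318 IH) (Lpe (K4.f59705 IH) (Lpe (K37.f36648 IH) (Lpr_dt (f36862 IH) (Lpe (f36792 IH) (Lpn (LP (LK LD1_c12 LD2_c5 LD3_c61)))))))))))))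
theorem f36793 : Led Lsl_gf (LP (LK LD1_c12 LD2_c5 LD3_c61)) = (LP (LK LD1_c15 LD2_c8 LD3_c27)) :=
  Lgr Lrot47 (Lpr_gt (f36792 IH) (Lpr_af (K1.f36777 IH) (Lpe (K1.f30738 IH) (Lpn (LP (LK LD1_c15 LD2_c8 LD3_c27))))))
theorem f29933 : Led Lsl_dt (LP (LK LD1_c8 LD2_c2 LD3_c33)) = (LP (LK LD1_c15 LD2_c8 LD3_c27)) :=
  Lre_d IH (LK LD1_c8 LD2_c2 LD3_c33) (LK LD1_c15 LD2_c8 LD3_c27) Lrfl Lrfl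
theorem f30102 : Led Lsl_at (LP (LK LD1_c4 LD2_c0 LD3_c13)) = (LP (LK LD1_c4 LD2_c0 LD3_c57)) :=
  Lgr Lrot66 (Lpe (K1.f30100 IH) (Lpr_af (K1.f30041 IH) (Lpe (K1.f30101 IH) (Lpn (LP (LK LD1_c4 LD2_c0 LD3_c57))))))
theorem f30121 : Led Lsl_gt (LP (LK LD1_c4 LD2_c0 LD3_c11)) = (LP (LK LD1_c4 LD2_c0 LD3_c57)) :=
  Lgr Lrot46 (Lpe (K37.f30120 IH) (Lpr_ft (K1.f30100 IH) (Lpr_at (f30102 IH) (Lpn (LP (LK LD1_c4 LD2_c0 LD3_c57))))))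
theorem f81133 : Led Lsl_dt (LP (LK LD1_c8 LD2_c45 LD3_c37)) = (LP (LK LD1_c8 LD2_c3 LD3_c54)) :=
  Lgr Lrot42 (Lpr_df (K10.f81128 IH) (Lpn (LP (LK LD1_c8 LD2_c3 LD3_c54))))
theorem f34497 : Led Lsl_gt (LP (LK LD1_c8 LD2_c5 LD3_c22)) = (LP (LK LD1_c4 LD2_c2 LD3_c24)) :=
  Lre_g IH (LK LD1_c8 LD2_c5 LD3_c22) (LK LD1_c4 LD2_c2 LD3_c24) Lrfl Lrfl
theorem f34498 : Led Lsl_gt (LP (LK LD1_c8 LD2_c3 LD3_c54)) = (LP (LK LD1_c8 LD2_c5 LD3_c22)) :=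
  Lgr Lrot5 (Lpr_ft (K10.f34493 IH) (Lpr_at (K10.f34468 IH) (Lpe (f34497 IH) (Lpn (LP (LK LD1_c8 LD2_c5 LD3_c22))))))
theorem f81454 : Led Lsl_dt (LP (LK LD1_c8 LD2_c1 LD3_c23)) = (LP (LK LD1_c8 LD2_c5 LD3_c22)) :=
  Lgr Lrot56 (Lpr_et (f30131 IH) (Lpr_gt (f30121 IH) (Lpr_ef (K1.f30728 IH) (Lpr_dt (f29933 IH) (Lpe (f36793 IH) (Lpe (f59738 IH) (Lpr_et (f59737 IH) (Lpr_gt (f81449 IH) (Lpr_dt (f81133 IH) (Lpr_gt (f34498 IH) (Lpn (LP (LK LD1_c8 LD2_c5 LD3_c22)))))))))))))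
theorem f81460 : Led Lsl_df (LP (LK LD1_c8 LD2_c1 LD3_c23)) = (LP (LK LD1_c8 LD2_c5 LD3_c22)) :=
  Lgr Lrot38 (Lpr_dt (f81454 IH) (Lpn (LP (LK LD1_c8 LD2_c5 LD3_c22))))
theorem f445199 : Led Lsl_cf (LP (LK LD1_c5 LD2_c46 LD3_c32)) = (LP (LK LD1_c6 LD2_c14 LD3_c12)) :=
  Lgr Lrot166 (Lpe (K37.f60374 IH) (Lpr_dt (K2.f56448 IH) (Lpr_gt (K2.f60528 IH) (Lpe (f60535 IH) (Lpr_ct (f445176 IH) (Lpr_df (f81460 IH) (Lpe (f34498 IH) (Lpe (f81133 IH) (Lpe (f81449 IH) (Lpn (LP (LK LD1_c6 LD2_c14 LD3_c12))))))))))))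
theorem f210929 : Led Lsl_et (LP (LK LD1_c5 LD2_c46 LD3_c32)) = (LP (LK LD1_c11 LD2_c23 LD3_c16)) :=
  Lre_e IH (LK LD1_c5 LD2_c46 LD3_c32) (LK LD1_c11 LD2_c23 LD3_c16) Lrfl Lrfl
theorem f445205 : Led Lsl_ct (LP (LK LD1_c11 LD2_c23 LD3_c16)) = (LP (LK LD1_c12 LD2_c6 LD3_c55)) :=
  Lgr Lrot15 (Lpe (f210929 IH) (Lpr_cf (f445199 IH) (Lpe (f59737 IH) (Lpn (LP (LK LD1_c12 LD2_c6 LD3_c55))))))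
theorem f38290 : Led Lsl_dt (LP (LK LD1_c8 LD2_c48 LD3_c35)) = (LP (LK LD1_c8 LD2_c51 LD3_c7)) :=
  Lre_d IH (LK LD1_c8 LD2_c48 LD3_c35) (LK LD1_c8 LD2_c51 LD3_c7) Lrfl Lrfl
theorem f227621 : Led Lsl_ef (LP (LK LD1_c8 LD2_c48 LD3_c34)) = (LP (LK LD1_c16 LD2_c22 LD3_c35)) :=
  Lgr Lrot88 (Lpr_et (K37.f227615 IH) (Lpn (LP (LK LD1_c16 LD2_c22 LD3_c35))))
theorem f227625 : Led Lsl_dt (LP (LK LD1_c16 LD2_c33 LD3_c1)) = (LP (LK LD1_c16 LD2_c22 LD3_c35)) :=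
  Lgr Lrot77 (Lpe (K37.f227624 IH) (Lpe (f38290 IH) (Lpe (K37.f227623 IH) (Lpe (K37.f38287 IH) (Lpr_ef (f227621 IH) (Lpn (LP (LK LD1_c16 LD2_c22 LD3_c35))))))))
theorem f227629 : Led Lsl_gt (LP (LK LD1_c8 LD2_c51 LD3_c7)) = (LP (LK LD1_c4 LD2_c26 LD3_c49)) :=
  Lgr Lrot137 (Lpe (K37.f69627 IH) (Lpr_dt (f227625 IH) (Lpe (K37.f210400 IH) (Lpe (K30.f100995 IH) (Lpr_et (K15.f100994 IH) (Lpe (K12.f29617 IH) (Lpe (K1.f39888 IH) (Lpr_dt (K37.f16284 IH) (Lpe (K4.f99340 IH) (Lpe (K37.f101847 IH) (Lpn (LP (LK LD1_c4 LD2_c26 LD3_c49)))))))))))))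
theorem f30800 : Led Lsl_et (LP (LK LD1_c15 LD2_c8 LD3_c50)) = (LP (LK LD1_c8 LD2_c2 LD3_c40)) :=
  Lre_e IH (LK LD1_c15 LD2_c8 LD3_c50) (LK LD1_c8 LD2_c2 LD3_c40) Lrfl Lrfl
theorem f241468 : Led Lsl_et (LP (LK LD1_c5 LD2_c12 LD3_c54)) = (LP (LK LD1_c10 LD2_c16 LD3_c9)) :=
  Lre_e IH (LK LD1_c5 LD2_c12 LD3_c54) (LK LD1_c10 LD2_c16 LD3_c9) Lrfl Lrfl
theorem f241469 : Led Lsl_df (LP (LK LD1_c15 LD2_c8 LD3_c50)) = (LP (LK LD1_c10 LD2_c16 LD3_c9)) :=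
  Lgr Lrot70 (Lpr_et (f30800 IH) (Lpr_dt (K13.f241458 IH) (Lpr_et (K16.f241467 IH) (Lpr_dt (K13.f240910 IH) (Lpr_et (f241468 IH) (Lpn (LP (LK LD1_c10 LD2_c16 LD3_c9))))))))
theorem f241477 : Led Lsl_gt (LP (LK LD1_c24 LD2_c57 LD3_c46)) = (LP (LK LD1_c15 LD2_c8 LD3_c50)) :=
  Lre_g IH (LK LD1_c24 LD2_c57 LD3_c46) (LK LD1_c15 LD2_c8 LD3_c50) Lrfl Lrfl
theorem f240930 : Led Lsl_et (LP (LK LD1_c10 LD2_c16 LD3_c9)) = (LP (LK LD1_c5 LD2_c12 LD3_c54)) :=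
  Lre_e IH (LK LD1_c10 LD2_c16 LD3_c9) (LK LD1_c5 LD2_c12 LD3_c54) Lrfl Lrfl
theorem f31934 : Led Lsl_gt (LP (LK LD1_c8 LD2_c38 LD3_c30)) = (LP (LK LD1_c16 LD2_c11 LD3_c3)) :=
  Lre_g IH (LK LD1_c8 LD2_c38 LD3_c30) (LK LD1_c16 LD2_c11 LD3_c3) Lrfl Lrfl
theorem f31937 : Led Lsl_et (LP (LK LD1_c26 LD2_c7 LD3_c49)) = (LP (LK LD1_c16 LD2_c11 LD3_c3)) :=
  Lre_e IH (LK LD1_c26 LD2_c7 LD3_c49) (LK LD1_c16 LD2_c11 LD3_c3) Lrfl Lrfl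
theorem f418065 : Led Lsl_df (LP (LK LD1_c24 LD2_c57 LD3_c46)) = (LP (LK LD1_c26 LD2_c7 LD3_c49)) :=
  Lgr Lrot170 (Lpr_gt (f241477 IH) (Lpr_df (f241469 IH) (Lpr_et (f240930 IH) (Lpr_gt (K16.f240958 IH) (Lpr_dt (K16.f212061 IH) (Lpe (K16.f240619 IH) (Lpe (K0.f31768 IH) (Lpr_et (K0.f31786 IH) (Lpr_gt (f31934 IH) (Lpe (f31937 IH) (Lpn (LP (LK LD1_c26 LD2_c7 LD3_c49)))))))))))))
theorem f212051 : Led Lsl_ft (LP (LK LD1_c10 LD2_c16 LD3_c5)) = (LP (LK LD1_c18 LD2_c40 LD3_c36)) :=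
  Lre_f IH (LK LD1_c10 LD2_c16 LD3_c5) (LK LD1_c18 LD2_c40 LD3_c36) Lrfl Lrfl
theorem f205088 : Led Lsl_ft (LP (LK LD1_c18 LD2_c18 LD3_c49)) = (LP (LK LD1_c10 LD2_c1 LD3_c16)) :=
  Lre_f IH (LK LD1_c18 LD2_c18 LD3_c49) (LK LD1_c10 LD2_c1 LD3_c16) Lrfl Lrfl
theorem f273064 : Led Lsl_et (LP (LK LD1_c18 LD2_c40 LD3_c36)) = (LP (LK LD1_c18 LD2_c18 LD3_c49)) :=
  Lgr Lrot69 (Lpe (f212051 IH) (Lpe (K16.f212044 IH) (Lpr_ff (K16.f273059 IH) (Lpe (K36.f205071 IH) (Lpe (f205088 IH) (Lpn (LP (LK LD1_c18 LD2_c18 LD3_c49))))))))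
theorem f273068 : Led Lsl_ef (LP (LK LD1_c18 LD2_c40 LD3_c36)) = (LP (LK LD1_c18 LD2_c18 LD3_c49)) :=
  Lgr Lrot88 (Lpr_et (f273064 IH) (Lpn (LP (LK LD1_c18 LD2_c18 LD3_c49))))
theorem f212050 : Led Lsl_ft (LP (LK LD1_c18 LD2_c40 LD3_c36)) = (LP (LK LD1_c10 LD2_c16 LD3_c5)) :=
  Lre_f IH (LK LD1_c18 LD2_c40 LD3_c36) (LK LD1_c10 LD2_c16 LD3_c5) Lrfl Lrfl
theorem f240800 : Led Lsl_ft (LP (LK LD1_c10 LD2_c1 LD3_c19)) = (LP (LK LD1_c18 LD2_c18 LD3_c53)) :=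
  Lre_f IH (LK LD1_c10 LD2_c1 LD3_c19) (LK LD1_c18 LD2_c18 LD3_c53) Lrfl Lrfl
theorem f272983 : Led Lsl_af (LP (LK LD1_c18 LD2_c40 LD3_c36)) = (LP (LK LD1_c18 LD2_c18 LD3_c53)) :=
  Lgr Lrot45 (Lpr_ft (f212050 IH) (Lpr_at (K16.f272977 IH) (Lpr_ft (f240800 IH) (Lpn (LP (LK LD1_c18 LD2_c18 LD3_c53))))))
theorem f272987 : Led Lsl_at (LP (LK LD1_c18 LD2_c40 LD3_c36)) = (LP (LK LD1_c18 LD2_c18 LD3_c53)) :=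
  Lgr Lrot100 (Lpr_af (f272983 IH) (Lpn (LP (LK LD1_c18 LD2_c18 LD3_c53))))
theorem f273002 : Led Lsl_ft (LP (LK LD1_c18 LD2_c40 LD3_c41)) = (LP (LK LD1_c10 LD2_c16 LD3_c9)) :=
  Lre_f IH (LK LD1_c18 LD2_c40 LD3_c41) (LK LD1_c10 LD2_c16 LD3_c9) Lrfl Lrfl
theorem f273003 : Led Lsl_ef (LP (LK LD1_c18 LD2_c40 LD3_c41)) = (LP (LK LD1_c18 LD2_c18 LD3_c53)) :=
  Lgr Lrot21 (Lpr_ft (f273002 IH) (Lpr_et (f240930 IH) (Lpr_ft (K16.f272996 IH) (Lpr_et (K16.f240685 IH) (Lpr_ft (f240800 IH) (Lpn (LP (LK LD1_c18 LD2_c18 LD3_c53))))))))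
theorem f273070 : Led Lsl_at (LP (LK LD1_c18 LD2_c40 LD3_c41)) = (LP (LK LD1_c18 LD2_c18 LD3_c49)) :=
  Lgr Lrot80 (Lpr_ef (f273003 IH) (Lpe (f272987 IH) (Lpr_ef (f273068 IH) (Lpn (LP (LK LD1_c18 LD2_c18 LD3_c49))))))
theorem f273013 : Led Lsl_ft (LP (LK LD1_c10 LD2_c16 LD3_c9)) = (LP (LK LD1_c18 LD2_c40 LD3_c41)) :=
  Lre_f IH (LK LD1_c10 LD2_c16 LD3_c9) (LK LD1_c18 LD2_c40 LD3_c41) Lrfl Lrfl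
theorem f273072 : Led Lsl_af (LP (LK LD1_c10 LD2_c16 LD3_c9)) = (LP (LK LD1_c10 LD2_c1 LD3_c16)) :=
  Lgr Lrot45 (Lpr_ft (f273013 IH) (Lpr_at (f273070 IH) (Lpr_ft (f205088 IH) (Lpn (LP (LK LD1_c10 LD2_c1 LD3_c16))))))
theorem f273078 : Led Lsl_at (LP (LK LD1_c15 LD2_c8 LD3_c50)) = (LP (LK LD1_c12 LD2_c6 LD3_c2)) :=
  Lgr Lrot51 (Lpr_df (f241469 IH) (Lpr_af (f273072 IH) (Lpr_df (K36.f205072 IH) (Lpn (LP (LK LD1_c12 LD2_c6 LD3_c2))))))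
theorem f273083 : Led Lsl_af (LP (LK LD1_c15 LD2_c8 LD3_c50)) = (LP (LK LD1_c12 LD2_c6 LD3_c2)) :=
  Lgr Lrot0 (Lpr_at (f273078 IH) (Lpn (LP (LK LD1_c12 LD2_c6 LD3_c2))))
theorem f205078 : Led Lsl_ft (LP (LK LD1_c21 LD2_c12 LD3_c1)) = (LP (LK LD1_c12 LD2_c6 LD3_c2)) :=
  Lre_f IH (LK LD1_c21 LD2_c12 LD3_c1) (LK LD1_c12 LD2_c6 LD3_c2) Lrfl Lrfl
theorem f273125 : Led Lsl_gf (LP (LK LD1_c24 LD2_c57 LD3_c46)) = (LP (LK LD1_c21 LD2_c12 LD3_c1)) :=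
  Lgr Lrot47 (Lpr_gt (f241477 IH) (Lpr_af (f273083 IH) (Lpe (f205078 IH) (Lpn (LP (LK LD1_c21 LD2_c12 LD3_c1))))))
theorem f205077 : Led Lsl_ft (LP (LK LD1_c10 LD2_c1 LD3_c16)) = (LP (LK LD1_c18 LD2_c18 LD3_c49)) :=
  Lre_f IH (LK LD1_c10 LD2_c1 LD3_c16) (LK LD1_c18 LD2_c18 LD3_c49) Lrfl Lrfl
theorem f205079 : Led Lsl_dt (LP (LK LD1_c18 LD2_c18 LD3_c49)) = (LP (LK LD1_c21 LD2_c12 LD3_c1)) :=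
  Lgr Lrot60 (Lpe (f205077 IH) (Lpr_df (K36.f205072 IH) (Lpe (f205078 IH) (Lpn (LP (LK LD1_c21 LD2_c12 LD3_c1))))))
theorem f31935 : Led Lsl_gf (LP (LK LD1_c16 LD2_c12 LD3_c23)) = (LP (LK LD1_c16 LD2_c11 LD3_c3)) :=
  Lgr Lrot76 (Lpr_af (K0.f31918 IH) (Lpe (K0.f31917 IH) (Lpr_gt (f31934 IH) (Lpn (LP (LK LD1_c16 LD2_c11 LD3_c3))))))
theorem f35262 : Led Lsl_at (LP (LK LD1_c4 LD2_c24 LD3_c37)) = (LP (LK LD1_c8 LD2_c46 LD3_c43)) :=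
  Lre_a IH (LK LD1_c4 LD2_c24 LD3_c37) (LK LD1_c8 LD2_c46 LD3_c43) Lrfl Lrfl
theorem f34840 : Led Lsl_bt (LP (LK LD1_c2 LD2_c9 LD3_c48)) = (LP (LK LD1_c4 LD2_c24 LD3_c37)) :=
  Lre_b IH (LK LD1_c2 LD2_c9 LD3_c48) (LK LD1_c4 LD2_c24 LD3_c37) Lrfl Lrfl
theorem f35675 : Led Lsl_bt (LP (LK LD1_c7 LD2_c56 LD3_c52)) = (LP (LK LD1_c3 LD2_c57 LD3_c45)) :=
  Lre_b IH (LK LD1_c7 LD2_c56 LD3_c52) (LK LD1_c3 LD2_c57 LD3_c45) Lrfl Lrfl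
theorem f36135 : Led Lsl_af (LP (LK LD1_c2 LD2_c9 LD3_c48)) = (LP (LK LD1_c3 LD2_c57 LD3_c45)) :=
  Lgr Lrot36 (Lpr_bt (f34840 IH) (Lpr_at (f35262 IH) (Lpr_bt (K1.f36133 IH) (Lpr_at (K35.f36116 IH) (Lpr_bt (f35675 IH) (Lpn (LP (LK LD1_c3 LD2_c57 LD3_c45))))))))
theorem f36172 : Led Lsl_gf (LP (LK LD1_c4 LD2_c24 LD3_c39)) = (LP (LK LD1_c7 LD2_c56 LD3_c55)) :=
  Lgr Lrot47 (Lpr_gt (f34749 IH) (Lpr_af (f36135 IH) (Lpe (K1.f35682 IH) (Lpn (LP (LK LD1_c7 LD2_c56 LD3_c55))))))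
theorem f34802 : Led Lsl_dt (LP (LK LD1_c8 LD2_c46 LD3_c53)) = (LP (LK LD1_c4 LD2_c24 LD3_c39)) :=
  Lre_d IH (LK LD1_c8 LD2_c46 LD3_c53) (LK LD1_c4 LD2_c24 LD3_c39) Lrfl Lrfl
theorem f35318 : Led Lsl_et (LP (LK LD1_c8 LD2_c46 LD3_c53)) = (LP (LK LD1_c16 LD2_c25 LD3_c50)) :=
  Lre_e IH (LK LD1_c8 LD2_c46 LD3_c53) (LK LD1_c16 LD2_c25 LD3_c50) Lrfl Lrfl
theorem f418070 : Led Lsl_gf (LP (LK LD1_c18 LD2_c18 LD3_c49)) = (LP (LK LD1_c16 LD2_c25 LD3_c50)) :=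
  Lgr Lrot138 (Lpr_dt (f205079 IH) (Lpe (f273125 IH) (Lpr_df (f418065 IH) (Lpr_et (f31937 IH) (Lpe (f31935 IH) (Lpe (K1.f31924 IH) (Lpr_dt (K1.f36087 IH) (Lpe (f36172 IH) (Lpe (f34802 IH) (Lpr_et (f35318 IH) (Lpn (LP (LK LD1_c16 LD2_c25 LD3_c50)))))))))))))
theorem f418072 : Led Lsl_gt (LP (LK LD1_c10 LD2_c16 LD3_c9)) = (LP (LK LD1_c16 LD2_c25 LD3_c50)) :=
  Lgr Lrot5 (Lpr_ft (f273013 IH) (Lpr_at (f273070 IH) (Lpr_gf (f418070 IH) (Lpn (LP (LK LD1_c16 LD2_c25 LD3_c50))))))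
theorem f272339 : Led Lsl_ft (LP (LK LD1_c24 LD2_c57 LD3_c47)) = (LP (LK LD1_c15 LD2_c8 LD3_c50)) :=
  Lre_f IH (LK LD1_c24 LD2_c57 LD3_c47) (LK LD1_c15 LD2_c8 LD3_c50) Lrfl Lrfl
theorem f205081 : Led Lsl_ft (LP (LK LD1_c12 LD2_c6 LD3_c2)) = (LP (LK LD1_c21 LD2_c12 LD3_c1)) :=
  Lre_f IH (LK LD1_c12 LD2_c6 LD3_c2) (LK LD1_c21 LD2_c12 LD3_c1) Lrfl Lrfl
theorem f273088 : Led Lsl_af (LP (LK LD1_c24 LD2_c57 LD3_c47)) = (LP (LK LD1_c21 LD2_c12 LD3_c1)) :=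
  Lgr Lrot45 (Lpr_ft (f272339 IH) (Lpr_at (f273078 IH) (Lpr_ft (f205081 IH) (Lpn (LP (LK LD1_c21 LD2_c12 LD3_c1))))))
theorem f273094 : Led Lsl_dt (LP (LK LD1_c24 LD2_c57 LD3_c47)) = (LP (LK LD1_c18 LD2_c40 LD3_c41)) :=
  Lgr Lrot44 (Lpr_af (f273088 IH) (Lpe (f205079 IH) (Lpe (f273070 IH) (Lpn (LP (LK LD1_c18 LD2_c40 LD3_c41))))))
theorem f273098 : Led Lsl_df (LP (LK LD1_c24 LD2_c57 LD3_c47)) = (LP (LK LD1_c18 LD2_c40 LD3_c41)) :=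
  Lgr Lrot38 (Lpr_dt (f273094 IH) (Lpn (LP (LK LD1_c18 LD2_c40 LD3_c41))))
theorem f273100 : Led Lsl_dt (LP (LK LD1_c15 LD2_c8 LD3_c50)) = (LP (LK LD1_c10 LD2_c16 LD3_c9)) :=
  Lgr Lrot60 (Lpe (f272339 IH) (Lpr_df (f273098 IH) (Lpe (f273013 IH) (Lpn (LP (LK LD1_c10 LD2_c16 LD3_c9))))))
theorem f30711 : Led Lsl_et (LP (LK LD1_c1 LD2_c57 LD3_c15)) = (LP (LK LD1_c0 LD2_c55 LD3_c26)) :=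
  Lre_e IH (LK LD1_c1 LD2_c57 LD3_c15) (LK LD1_c0 LD2_c55 LD3_c26) Lrfl Lrfl
theorem f30713 : Led Lsl_ef (LP (LK LD1_c4 LD2_c0 LD3_c58)) = (LP (LK LD1_c8 LD2_c2 LD3_c32)) :=
  Lgr Lrot73 (Lpr_dt (K1.f29222 IH) (Lpr_et (f30711 IH) (Lpr_dt (K1.f29554 IH) (Lpr_et (K1.f30712 IH) (Lpr_dt (K4.f30070 IH) (Lpn (LP (LK LD1_c8 LD2_c2 LD3_c32))))))))
theorem f418075 : Led Lsl_dt (LP (LK LD1_c26 LD2_c23 LD3_c14)) = (LP (LK LD1_c16 LD2_c25 LD3_c50)) :=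
  Lre_d IH (LK LD1_c26 LD2_c23 LD3_c14) (LK LD1_c16 LD2_c25 LD3_c50) Lrfl Lrfl
theorem f418078 : Led Lsl_et (LP (LK LD1_c26 LD2_c23 LD3_c14)) = (LP (LK LD1_c16 LD2_c25 LD3_c52)) :=
  Lre_e IH (LK LD1_c26 LD2_c23 LD3_c14) (LK LD1_c16 LD2_c25 LD3_c52) Lrfl Lrfl
theorem f418081 : Led Lsl_gf (LP (LK LD1_c8 LD2_c51 LD3_c19)) = (LP (LK LD1_c16 LD2_c25 LD3_c52)) :=
  Lgr Lrot138 (Lpr_dt (K37.f99348 IH) (Lpe (K4.f99342 IH) (Lpe (K1.f30057 IH) (Lpe (f30713 IH) (Lpr_gt (K13.f30799 IH) (Lpe (f30800 IH) (Lpr_dt (f273100 IH) (Lpr_gt (f418072 IH) (Lpe (f418075 IH) (Lpr_et (f418078 IH) (Lpn (LP (LK LD1_c16 LD2_c25 LD3_c52)))))))))))))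
theorem f445216 : Led Lsl_gf (LP (LK LD1_c8 LD2_c46 LD3_c54)) = (LP (LK LD1_c12 LD2_c6 LD3_c55)) :=
  Lgr Lrot148 (Lpr_dt (f34751 IH) (Lpe (f418081 IH) (Lpr_dt (K37.f99348 IH) (Lpr_ct (K4.f99341 IH) (Lpe (K37.f101847 IH) (Lpe (f227629 IH) (Lpe (f38290 IH) (Lpe (K37.f241149 IH) (Lpr_ct (f445205 IH) (Lpn (LP (LK LD1_c12 LD2_c6 LD3_c55))))))))))))
theorem f445290 : Led Lsl_gt (LP (LK LD1_c16 LD2_c33 LD3_c3)) = (LP (LK LD1_c11 LD2_c23 LD3_c16)) :=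
  Lgr Lrot9 (Lpe (f445028 IH) (Lpr_gt (K37.f69628 IH) (Lpr_ct (K37.f241124 IH) (Lpr_gt (f241123 IH) (Lpr_ct (f445284 IH) (Lpr_df (f37389 IH) (Lpe (f445042 IH) (Lpr_gf (f445216 IH) (Lpe (f445205 IH) (Lpn (LP (LK LD1_c11 LD2_c23 LD3_c16))))))))))))
theorem f443812 : Led Lsl_gt (LP (LK LD1_c21 LD2_c28 LD3_c39)) = (LP (LK LD1_c12 LD2_c21 LD3_c55)) :=
  Lre_g IH (LK LD1_c21 LD2_c28 LD3_c39) (LK LD1_c12 LD2_c21 LD3_c55) Lrfl Lrfl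
theorem f445295 : Led Lsl_cf (LP (LK LD1_c16 LD2_c33 LD3_c3)) = (LP (LK LD1_c21 LD2_c28 LD3_c39)) :=
  Lgr Lrot166 (Lpr_gt (f445290 IH) (Lpr_dt (K37.f210919 IH) (Lpr_gt (K37.f38724 IH) (Lpr_dt (K37.f38723 IH) (Lpe (K1.f37884 IH) (Lpe (K1.f16214 IH) (Lpe (K37.f16223 IH) (Lpr_df (K37.f443762 IH) (Lpe (f443812 IH) (Lpn (LP (LK LD1_c21 LD2_c28 LD3_c39))))))))))))
theorem f443770 : Led Lsl_ct (LP (LK LD1_c16 LD2_c33 LD3_c2)) = (LP (LK LD1_c8 LD2_c51 LD3_c8)) :=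
  Lre_c IH (LK LD1_c16 LD2_c33 LD3_c2) (LK LD1_c8 LD2_c51 LD3_c8) Lrfl Lrfl
theorem f16293 : Led Lsl_gt (LP (LK LD1_c16 LD2_c23 LD3_c1)) = (LP (LK LD1_c8 LD2_c45 LD3_c9)) :=
  Lre_g IH (LK LD1_c16 LD2_c23 LD3_c1) (LK LD1_c8 LD2_c45 LD3_c9) Lrfl Lrfl
theorem f30107 : Led Lsl_dt (LP (LK LD1_c4 LD2_c0 LD3_c12)) = (LP (LK LD1_c8 LD2_c1 LD3_c25)) :=
  Lre_d IH (LK LD1_c4 LD2_c0 LD3_c12) (LK LD1_c8 LD2_c1 LD3_c25) Lrfl Lrfl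
theorem f30109 : Led Lsl_ct (LP (LK LD1_c15 LD2_c6 LD3_c34)) = (LP (LK LD1_c8 LD2_c1 LD3_c25)) :=
  Lre_c IH (LK LD1_c15 LD2_c6 LD3_c34) (LK LD1_c8 LD2_c1 LD3_c25) Lrfl Lrfl
theorem f69625 : Led Lsl_gt (LP (LK LD1_c4 LD2_c26 LD3_c45)) = (LP (LK LD1_c8 LD2_c51 LD3_c7)) :=
  Lre_g IH (LK LD1_c4 LD2_c26 LD3_c45) (LK LD1_c8 LD2_c51 LD3_c7) Lrfl Lrfl
theorem f227631 : Led Lsl_ct (LP (LK LD1_c8 LD2_c51 LD3_c7)) = (LP (LK LD1_c16 LD2_c33 LD3_c0)) :=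
  Lre_c IH (LK LD1_c8 LD2_c51 LD3_c7) (LK LD1_c16 LD2_c33 LD3_c0) Lrfl Lrfl
theorem f443773 : Led Lsl_gf (LP (LK LD1_c15 LD2_c6 LD3_c34)) = (LP (LK LD1_c16 LD2_c33 LD3_c0)) :=
  Lgr Lrot104 (Lpr_ct (f30109 IH) (Lpe (f30107 IH) (Lpe (K37.f70607 IH) (Lpe (K37.f16551 IH) (Lpe (K37.f38715 IH) (Lpr_gf (K37.f443766 IH) (Lpe (K37.f69525 IH) (Lpr_gt (f69625 IH) (Lpr_ct (f227631 IH) (Lpn (LP (LK LD1_c16 LD2_c33 LD3_c0))))))))))))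
theorem f443781 : Led Lsl_dt (LP (LK LD1_c15 LD2_c6 LD3_c34)) = (LP (LK LD1_c16 LD2_c23 LD3_c1)) :=
  Lgr Lrot57 (Lpr_gf (f443773 IH) (Lpe (f227631 IH) (Lpr_gt (f227629 IH) (Lpr_dt (K37.f101847 IH) (Lpr_gt (K4.f99340 IH) (Lpr_dt (K1.f16329 IH) (Lpe (K37.f16283 IH) (Lpe (K9.f16282 IH) (Lpe (f16293 IH) (Lpn (LP (LK LD1_c16 LD2_c23 LD3_c1))))))))))))
theorem f444951 : Led Lsl_gf (LP (LK LD1_c16 LD2_c33 LD3_c2)) = (LP (LK LD1_c15 LD2_c6 LD3_c34)) :=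
  Lgr Lrot147 (Lpr_ct (f443770 IH) (Lpr_gt (K37.f69628 IH) (Lpr_ct (K37.f241124 IH) (Lpe (K37.f408147 IH) (Lpr_cf (K37.f444947 IH) (Lpe (K37.f16274 IH) (Lpe (K1.f16270 IH) (Lpe (f16293 IH) (Lpe (f443781 IH) (Lpn (LP (LK LD1_c15 LD2_c6 LD3_c34))))))))))))
theorem f30108 : Led Lsl_ct (LP (LK LD1_c8 LD2_c1 LD3_c25)) = (LP (LK LD1_c15 LD2_c6 LD3_c34)) :=
  Lre_c IH (LK LD1_c8 LD2_c1 LD3_c25) (LK LD1_c15 LD2_c6 LD3_c34) Lrfl Lrfl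
theorem f272540 : Led Lsl_dt (LP (LK LD1_c4 LD2_c24 LD3_c61)) = (LP (LK LD1_c4 LD2_c22 LD3_c36)) :=
  Lgr Lrot6 (Lpe (K12.f37587 IH) (Lpr_ct (K1.f37540 IH) (Lpr_gt (K18.f37673 IH) (Lpr_ct (K18.f272529 IH) (Lpr_df (K12.f38039 IH) (Lpr_cf (K12.f210317 IH) (Lpe (K18.f227702 IH) (Lpe (K18.f173317 IH) (Lpe (K18.f173310 IH) (Lpn (LP (LK LD1_c4 LD2_c22 LD3_c36))))))))))))
theorem f272876 : Led Lsl_et (LP (LK LD1_c4 LD2_c24 LD3_c56)) = (LP (LK LD1_c2 LD2_c9 LD3_c57)) :=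
  Lre_e IH (LK LD1_c4 LD2_c24 LD3_c56) (LK LD1_c2 LD2_c9 LD3_c57) Lrfl Lrfl
theorem f80379 : Led Lsl_dt (LP (LK LD1_c4 LD2_c24 LD3_c56)) = (LP (LK LD1_c2 LD2_c9 LD3_c54)) :=
  Lre_d IH (LK LD1_c4 LD2_c24 LD3_c56) (LK LD1_c2 LD2_c9 LD3_c54) Lrfl Lrfl
theorem f35842 : Led Lsl_dt (LP (LK LD1_c8 LD2_c47 LD3_c20)) = (LP (LK LD1_c4 LD2_c24 LD3_c55)) :=
  Lre_d IH (LK LD1_c8 LD2_c47 LD3_c20) (LK LD1_c4 LD2_c24 LD3_c55) Lrfl Lrfl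
theorem f229354 : Led Lsl_et (LP (LK LD1_c4 LD2_c22 LD3_c37)) = (LP (LK LD1_c8 LD2_c43 LD3_c3)) :=
  Lre_e IH (LK LD1_c4 LD2_c22 LD3_c37) (LK LD1_c8 LD2_c43 LD3_c3) Lrfl Lrfl
theorem f229324 : Led Lsl_gt (LP (LK LD1_c8 LD2_c43 LD3_c3)) = (LP (LK LD1_c16 LD2_c19 LD3_c49)) :=
  Lre_g IH (LK LD1_c8 LD2_c43 LD3_c3) (LK LD1_c16 LD2_c19 LD3_c49) Lrfl Lrfl
theorem f272877 : Led Lsl_et (LP (LK LD1_c8 LD2_c47 LD3_c20)) = (LP (LK LD1_c16 LD2_c19 LD3_c49)) :=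
  Lgr Lrot122 (Lpr_dt (f35842 IH) (Lpr_gt (K37.f35830 IH) (Lpe (f80379 IH) (Lpr_et (f272876 IH) (Lpr_gt (K12.f35897 IH) (Lpr_dt (f272540 IH) (Lpr_gt (K18.f173310 IH) (Lpe (K12.f173335 IH) (Lpr_et (f229354 IH) (Lpr_gt (f229324 IH) (Lpn (LP (LK LD1_c16 LD2_c19 LD3_c49)))))))))))))
theorem f272891 : Led Lsl_ef (LP (LK LD1_c8 LD2_c47 LD3_c20)) = (LP (LK LD1_c16 LD2_c19 LD3_c49)) :=
  Lgr Lrot88 (Lpr_et (f272877 IH) (Lpn (LP (LK LD1_c16 LD2_c19 LD3_c49))))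
theorem f35841 : Led Lsl_et (LP (LK LD1_c4 LD2_c24 LD3_c55)) = (LP (LK LD1_c8 LD2_c47 LD3_c21)) :=
  Lre_e IH (LK LD1_c4 LD2_c24 LD3_c55) (LK LD1_c8 LD2_c47 LD3_c21) Lrfl Lrfl
theorem f35840 : Led Lsl_et (LP (LK LD1_c15 LD2_c6 LD3_c25)) = (LP (LK LD1_c24 LD2_c54 LD3_c34)) :=
  Lre_e IH (LK LD1_c15 LD2_c6 LD3_c25) (LK LD1_c24 LD2_c54 LD3_c34) Lrfl Lrfl
theorem f272901 : Led Lsl_dt (LP (LK LD1_c24 LD2_c54 LD3_c34)) = (LP (LK LD1_c16 LD2_c19 LD3_c49)) :=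
  Lgr Lrot77 (Lpe (f35840 IH) (Lpr_df (K37.f35832 IH) (Lpe (f35841 IH) (Lpe (f35842 IH) (Lpr_ef (f272891 IH) (Lpn (LP (LK LD1_c16 LD2_c19 LD3_c49))))))))
theorem f35852 : Led Lsl_et (LP (LK LD1_c24 LD2_c54 LD3_c34)) = (LP (LK LD1_c15 LD2_c6 LD3_c25)) :=
  Lre_e IH (LK LD1_c24 LD2_c54 LD3_c34) (LK LD1_c15 LD2_c6 LD3_c25) Lrfl Lrfl
theorem f229295 : Led Lsl_dt (LP (LK LD1_c4 LD2_c22 LD3_c34)) = (LP (LK LD1_c8 LD2_c43 LD3_c3)) :=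
  Lre_d IH (LK LD1_c4 LD2_c22 LD3_c34) (LK LD1_c8 LD2_c43 LD3_c3) Lrfl Lrfl
theorem f30114 : Led Lsl_dt (LP (LK LD1_c8 LD2_c1 LD3_c25)) = (LP (LK LD1_c4 LD2_c0 LD3_c12)) :=
  Lre_d IH (LK LD1_c8 LD2_c1 LD3_c25) (LK LD1_c4 LD2_c0 LD3_c12) Lrfl Lrfl
theorem f272908 : Led Lsl_gt (LP (LK LD1_c15 LD2_c6 LD3_c25)) = (LP (LK LD1_c8 LD2_c1 LD3_c25)) :=
  Lgr Lrot137 (Lpe (f35852 IH) (Lpr_dt (f272901 IH) (Lpe (f229324 IH) (Lpe (f229295 IH) (Lpr_et (K18.f229294 IH) (Lpr_gf (K12.f229289 IH) (Lpe (K35.f29998 IH) (Lpr_dt (K1.f29941 IH) (Lpe (K37.f30104 IH) (Lpe (f30114 IH) (Lpn (LP (LK LD1_c8 LD2_c1 LD3_c25)))))))))))))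
theorem f445297 : Led Lsl_gt (LP (LK LD1_c16 LD2_c27 LD3_c56)) = (LP (LK LD1_c21 LD2_c28 LD3_c39)) :=
  Lgr Lrot150 (Lpr_cf (K37.f408120 IH) (Lpr_gf (K37.f445104 IH) (Lpe (K37.f35838 IH) (Lpr_gt (f272908 IH) (Lpr_ct (f30108 IH) (Lpe (f444951 IH) (Lpr_ct (f443770 IH) (Lpe (K37.f421111 IH) (Lpr_cf (f445295 IH) (Lpn (LP (LK LD1_c21 LD2_c28 LD3_c39))))))))))))
theorem f16252 : Led Lsl_gt (LP (LK LD1_c16 LD2_c33 LD3_c50)) = (LP (LK LD1_c8 LD2_c51 LD3_c35)) :=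
  Lre_g IH (LK LD1_c16 LD2_c33 LD3_c50) (LK LD1_c8 LD2_c51 LD3_c35) Lrfl Lrfl
theorem f16490 : Led Lsl_gf (LP (LK LD1_c16 LD2_c33 LD3_c50)) = (LP (LK LD1_c16 LD2_c32 LD3_c35)) :=
  Lgr Lrot47 (Lpr_gt (f16252 IH) (Lpr_af (K1.f16466 IH) (Lpe (K1.f16465 IH) (Lpn (LP (LK LD1_c16 LD2_c32 LD3_c35))))))
theorem f445299 : Led Lsl_cf (LP (LK LD1_c12 LD2_c5 LD3_c61)) = (LP (LK LD1_c16 LD2_c33 LD3_c50)) :=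
  Lgr Lrot99 (Lpe (f59738 IH) (Lpe (f445205 IH) (Lpe (f445290 IH) (Lpr_cf (f445295 IH) (Lpe (f445297 IH) (Lpr_df (K37.f408076 IH) (Lpr_gt (K37.f16538 IH) (Lpr_ct (f16406 IH) (Lpe (f16490 IH) (Lpn (LP (LK LD1_c16 LD2_c33 LD3_c50))))))))))))
theorem f36783 : Led Lsl_ct (LP (LK LD1_c6 LD2_c13 LD3_c36)) = (LP (LK LD1_c12 LD2_c6 LD3_c0)) :=
  Lre_c IH (LK LD1_c6 LD2_c13 LD3_c36) (LK LD1_c12 LD2_c6 LD3_c0) Lrfl Lrfl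
theorem f36807 : Led Lsl_dt (LP (LK LD1_c12 LD2_c6 LD3_c0)) = (LP (LK LD1_c21 LD2_c11 LD3_c58)) :=
  Lre_d IH (LK LD1_c12 LD2_c6 LD3_c0) (LK LD1_c21 LD2_c11 LD3_c58) Lrfl Lrfl
theorem f210925 : Led Lsl_ct (LP (LK LD1_c7 LD2_c56 LD3_c37)) = (LP (LK LD1_c14 LD2_c59 LD3_c21)) :=
  Lre_c IH (LK LD1_c7 LD2_c56 LD3_c37) (LK LD1_c14 LD2_c59 LD3_c21) Lrfl Lrfl
theorem f29940 : Led Lsl_ct (LP (LK LD1_c8 LD2_c1 LD3_c9)) = (LP (LK LD1_c4 LD2_c0 LD3_c4)) :=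
  Lre_c IH (LK LD1_c8 LD2_c1 LD3_c9) (LK LD1_c4 LD2_c0 LD3_c4) Lrfl Lrfl
theorem f407851 : Led Lsl_gt (LP (LK LD1_c14 LD2_c59 LD3_c21)) = (LP (LK LD1_c8 LD2_c1 LD3_c9)) :=
  Lgr Lrot150 (Lpe (f210925 IH) (Lpe (K37.f210932 IH) (Lpe (K1.f16230 IH) (Lpr_gt (K37.f407849 IH) (Lpr_ct (K37.f70296 IH) (Lpr_gt (K37.f36822 IH) (Lpr_ct (K1.f36805 IH) (Lpe (K1.f29941 IH) (Lpe (f29940 IH) (Lpn (LP (LK LD1_c8 LD2_c1 LD3_c9))))))))))))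
theorem f38772 : Led Lsl_ct (LP (LK LD1_c14 LD2_c59 LD3_c21)) = (LP (LK LD1_c7 LD2_c56 LD3_c37)) :=
  Lre_c IH (LK LD1_c14 LD2_c59 LD3_c21) (LK LD1_c7 LD2_c56 LD3_c37) Lrfl Lrfl
theorem f37808 : Led Lsl_ct (LP (LK LD1_c7 LD2_c57 LD3_c26)) = (LP (LK LD1_c15 LD2_c0 LD3_c26)) :=
  Lre_c IH (LK LD1_c7 LD2_c57 LD3_c26) (LK LD1_c15 LD2_c0 LD3_c26) Lrfl Lrfl
theorem f407888 : Led Lsl_dt (LP (LK LD1_c24 LD2_c47 LD3_c50)) = (LP (LK LD1_c15 LD2_c0 LD3_c26)) :=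
  Lre_d IH (LK LD1_c24 LD2_c47 LD3_c50) (LK LD1_c15 LD2_c0 LD3_c26) Lrfl Lrfl
theorem f407889 : Led Lsl_gf (LP (LK LD1_c24 LD2_c47 LD3_c50)) = (LP (LK LD1_c15 LD2_c5 LD3_c57)) :=
  Lgr Lrot143 (Lpr_dt (f407888 IH) (Lpe (f37808 IH) (Lpe (K1.f37781 IH) (Lpe (K1.f37777 IH) (Lpe (K37.f38723 IH) (Lpe (K37.f38724 IH) (Lpe (f38772 IH) (Lpr_gt (f407851 IH) (Lpr_dt (K1.f29684 IH) (Lpn (LP (LK LD1_c15 LD2_c5 LD3_c57))))))))))))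
theorem f407895 : Led Lsl_gt (LP (LK LD1_c24 LD2_c47 LD3_c50)) = (LP (LK LD1_c24 LD2_c56 LD3_c31)) :=
  Lgr Lrot46 (Lpr_gf (f407889 IH) (Lpr_ft (K1.f29696 IH) (Lpr_at (K1.f29927 IH) (Lpn (LP (LK LD1_c24 LD2_c56 LD3_c31))))))
theorem f16255 : Led Lsl_gt (LP (LK LD1_c26 LD2_c30 LD3_c45)) = (LP (LK LD1_c16 LD2_c33 LD3_c52)) :=
  Lre_g IH (LK LD1_c26 LD2_c30 LD3_c45) (LK LD1_c16 LD2_c33 LD3_c52) Lrfl Lrfl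
theorem f38782 : Led Lsl_gt (LP (LK LD1_c24 LD2_c46 LD3_c49)) = (LP (LK LD1_c26 LD2_c30 LD3_c45)) :=
  Lgr Lrot5 (Lpr_ft (K1.f38767 IH) (Lpe (K1.f16496 IH) (Lpe (f16255 IH) (Lpn (LP (LK LD1_c26 LD2_c30 LD3_c45))))))
theorem f445309 : Led Lsl_cf (LP (LK LD1_c24 LD2_c47 LD3_c50)) = (LP (LK LD1_c26 LD2_c30 LD3_c45)) :=
  Lgr Lrot169 (Lpr_gt (f407895 IH) (Lpe (K1.f36797 IH) (Lpe (f36807 IH) (Lpe (f36783 IH) (Lpe (f36792 IH) (Lpr_cf (f445299 IH) (Lpr_gf (f16490 IH) (Lpe (f38711 IH) (Lpr_gt (f38782 IH) (Lpn (LP (LK LD1_c26 LD2_c30 LD3_c45))))))))))))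
theorem f445313 : Led Lsl_ct (LP (LK LD1_c24 LD2_c47 LD3_c50)) = (LP (LK LD1_c26 LD2_c30 LD3_c45)) :=
  Lgr Lrot59 (Lpr_cf (f445309 IH) (Lpn (LP (LK LD1_c26 LD2_c30 LD3_c45))))
theorem f38863 : Led Lsl_ct (LP (LK LD1_c14 LD2_c59 LD3_c17)) = (LP (LK LD1_c7 LD2_c56 LD3_c36)) :=
  Lre_c IH (LK LD1_c14 LD2_c59 LD3_c17) (LK LD1_c7 LD2_c56 LD3_c36) Lrfl Lrfl
theorem f445325 : Led Lsl_gt (LP (LK LD1_c8 LD2_c1 LD3_c9)) = (LP (LK LD1_c14 LD2_c59 LD3_c17)) :=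
  Lgr Lrot9 (Lpe (K37.f29694 IH) (Lpe (f407889 IH) (Lpr_ct (f445313 IH) (Lpr_gt (f16255 IH) (Lpr_ct (K37.f16237 IH) (Lpe (K1.f16232 IH) (Lpe (K1.f16231 IH) (Lpe (K37.f38859 IH) (Lpe (f38863 IH) (Lpn (LP (LK LD1_c14 LD2_c59 LD3_c17))))))))))))
theorem f29993 : Led Lsl_ct (LP (LK LD1_c4 LD2_c0 LD3_c4)) = (LP (LK LD1_c8 LD2_c1 LD3_c9)) :=
  Lre_c IH (LK LD1_c4 LD2_c0 LD3_c4) (LK LD1_c8 LD2_c1 LD3_c9) Lrfl Lrfl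
theorem f30005 : Led Lsl_dt (LP (LK LD1_c8 LD2_c1 LD3_c11)) = (LP (LK LD1_c15 LD2_c6 LD3_c1)) :=
  Lre_d IH (LK LD1_c8 LD2_c1 LD3_c11) (LK LD1_c15 LD2_c6 LD3_c1) Lrfl Lrfl
theorem f56379 : Led Lsl_df (LP (LK LD1_c9 LD2_c14 LD3_c54)) = (LP (LK LD1_c8 LD2_c50 LD3_c58)) :=
  Lgr Lrot38 (Lpr_dt (K2.f56373 IH) (Lpn (LP (LK LD1_c8 LD2_c50 LD3_c58))))
theorem f445178 : Led Lsl_ct (LP (LK LD1_c9 LD2_c14 LD3_c54)) = (LP (LK LD1_c15 LD2_c6 LD3_c1)) :=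
  Lgr Lrot7 (Lpr_df (f56379 IH) (Lpe (K2.f16578 IH) (Lpe (K2.f16281 IH) (Lpr_gf (K2.f16452 IH) (Lpr_cf (K37.f445170 IH) (Lpr_gt (f30121 IH) (Lpr_dt (K1.f29985 IH) (Lpe (K37.f30003 IH) (Lpr_dt (f30005 IH) (Lpn (LP (LK LD1_c15 LD2_c6 LD3_c1))))))))))))
theorem f445096 : Led Lsl_cf (LP (LK LD1_c15 LD2_c8 LD3_c24)) = (LP (LK LD1_c16 LD2_c32 LD3_c31)) :=
  Lgr Lrot11 (Lpr_ct (K37.f445032 IH) (Lpn (LP (LK LD1_c16 LD2_c32 LD3_c31))))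
theorem f99335 : Led Lsl_dt (LP (LK LD1_c8 LD2_c45 LD3_c13)) = (LP (LK LD1_c4 LD2_c23 LD3_c40)) :=
  Lre_d IH (LK LD1_c8 LD2_c45 LD3_c13) (LK LD1_c4 LD2_c23 LD3_c40) Lrfl Lrfl
theorem f408180 : Led Lsl_gf (LP (LK LD1_c8 LD2_c45 LD3_c13)) = (LP (LK LD1_c11 LD2_c59 LD3_c33)) :=
  Lgr Lrot144 (Lpr_dt (f99335 IH) (Lpr_gt (K37.f408052 IH) (Lpr_dt (K37.f38835 IH) (Lpr_cf (K37.f38795 IH) (Lpe (K1.f16276 IH) (Lpr_gf (K37.f16354 IH) (Lpe (K37.f16357 IH) (Lpr_gf (K37.f407860 IH) (Lpe (K1.f38689 IH) (Lpn (LP (LK LD1_c11 LD2_c59 LD3_c33))))))))))))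
theorem f16286 : Led Lsl_ct (LP (LK LD1_c4 LD2_c26 LD3_c41)) = (LP (LK LD1_c8 LD2_c50 LD3_c59)) :=
  Lre_c IH (LK LD1_c4 LD2_c26 LD3_c41) (LK LD1_c8 LD2_c50 LD3_c59) Lrfl Lrfl
theorem f445117 : Led Lsl_gf (LP (LK LD1_c14 LD2_c59 LD3_c51)) = (LP (LK LD1_c9 LD2_c14 LD3_c54)) :=
  Lgr Lrot147 (Lpe (K1.f38685 IH) (Lpe (f408180 IH) (Lpr_ct (K4.f99321 IH) (Lpe (K4.f99332 IH) (Lpr_cf (f445096 IH) (Lpe (K37.f16408 IH) (Lpe (f16286 IH) (Lpe (K2.f16577 IH) (Lpe (K2.f56373 IH) (Lpn (LP (LK LD1_c9 LD2_c14 LD3_c54))))))))))))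
theorem f204938 : Led Lsl_et (LP (LK LD1_c10 LD2_c1 LD3_c21)) = (LP (LK LD1_c5 LD2_c5 LD3_c8)) :=
  Lre_e IH (LK LD1_c10 LD2_c1 LD3_c21) (LK LD1_c5 LD2_c5 LD3_c8) Lrfl Lrfl
theorem f198014 : Led Lsl_et (LP (LK LD1_c4 LD2_c26 LD3_c59)) = (LP (LK LD1_c8 LD2_c51 LD3_c45)) :=
  Lre_e IH (LK LD1_c4 LD2_c26 LD3_c59) (LK LD1_c8 LD2_c51 LD3_c45) Lrfl Lrfl
theorem f204939 : Led Lsl_df (LP (LK LD1_c10 LD2_c1 LD3_c21)) = (LP (LK LD1_c8 LD2_c51 LD3_c45)) :=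
  Lgr Lrot70 (Lpr_et (f204938 IH) (Lpr_dt (K14.f201357 IH) (Lpr_et (K12.f204928 IH) (Lpe (K12.f198010 IH) (Lpr_et (f198014 IH) (Lpn (LP (LK LD1_c8 LD2_c51 LD3_c45))))))))
theorem f201359 : Led Lsl_gt (LP (LK LD1_c10 LD2_c1 LD3_c21)) = (LP (LK LD1_c18 LD2_c18 LD3_c56)) :=
  Lre_g IH (LK LD1_c10 LD2_c1 LD3_c21) (LK LD1_c18 LD2_c18 LD3_c56) Lrfl Lrfl
theorem f201361 : Led Lsl_ef (LP (LK LD1_c18 LD2_c18 LD3_c56)) = (LP (LK LD1_c14 LD2_c59 LD3_c50)) :=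
  Lgr Lrot17 (Lpe (f201359 IH) (Lpe (K39.f201358 IH) (Lpr_dt (K14.f201357 IH) (Lpe (K12.f164963 IH) (Lpe (K11.f164953 IH) (Lpr_gf (K11.f201347 IH) (Lpe (K13.f201360 IH) (Lpr_dt (K6.f59373 IH) (Lpe (K1.f38633 IH) (Lpe (K37.f38681 IH) (Lpn (LP (LK LD1_c14 LD2_c59 LD3_c50)))))))))))))
theorem f201365 : Led Lsl_et (LP (LK LD1_c18 LD2_c18 LD3_c56)) = (LP (LK LD1_c14 LD2_c59 LD3_c50)) :=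
  Lgr Lrot87 (Lpr_ef (f201361 IH) (Lpn (LP (LK LD1_c14 LD2_c59 LD3_c50))))
theorem f38679 : Led Lsl_et (LP (LK LD1_c16 LD2_c33 LD3_c35)) = (LP (LK LD1_c26 LD2_c30 LD3_c20)) :=
  Lre_e IH (LK LD1_c16 LD2_c33 LD3_c35) (LK LD1_c26 LD2_c30 LD3_c20) Lrfl Lrfl
theorem f201367 : Led Lsl_df (LP (LK LD1_c18 LD2_c18 LD3_c56)) = (LP (LK LD1_c26 LD2_c30 LD3_c20)) :=
  Lgr Lrot70 (Lpr_et (f201365 IH) (Lpr_dt (K37.f38681 IH) (Lpr_et (K37.f38680 IH) (Lpe (K1.f38635 IH) (Lpr_et (f38679 IH) (Lpn (LP (LK LD1_c26 LD2_c30 LD3_c20))))))))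
theorem f38663 : Led Lsl_et (LP (LK LD1_c26 LD2_c30 LD3_c20)) = (LP (LK LD1_c16 LD2_c33 LD3_c35)) :=
  Lre_e IH (LK LD1_c26 LD2_c30 LD3_c20) (LK LD1_c16 LD2_c33 LD3_c35) Lrfl Lrfl
theorem f16218 : Led Lsl_et (LP (LK LD1_c4 LD2_c26 LD3_c54)) = (LP (LK LD1_c2 LD2_c10 LD3_c38)) :=
  Lre_e IH (LK LD1_c4 LD2_c26 LD3_c54) (LK LD1_c2 LD2_c10 LD3_c38) Lrfl Lrfl
theorem f205045 : Led Lsl_gt (LP (LK LD1_c16 LD2_c33 LD3_c35)) = (LP (LK LD1_c8 LD2_c51 LD3_c31)) :=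
  Lgr Lrot137 (Lpe (f38663 IH) (Lpe (f201367 IH) (Lpe (f201359 IH) (Lpr_df (f204939 IH) (Lpr_et (K37.f101049 IH) (Lpe (K12.f38637 IH) (Lpe (f16218 IH) (Lpr_dt (K1.f16214 IH) (Lpe (K37.f16598 IH) (Lpe (K37.f16608 IH) (Lpn (LP (LK LD1_c8 LD2_c51 LD3_c31)))))))))))))
theorem f445187 : Led Lsl_gf (LP (LK LD1_c9 LD2_c46 LD3_c60)) = (LP (LK LD1_c15 LD2_c6 LD3_c1)) :=
  Lgr Lrot148 (Lpe (f37389 IH) (Lpe (f272851 IH) (Lpr_dt (K37.f30086 IH) (Lpe (K37.f35702 IH) (Lpe (K37.f16608 IH) (Lpe (f205045 IH) (Lpr_df (K1.f38635 IH) (Lpr_gf (f445117 IH) (Lpr_ct (f445178 IH) (Lpn (LP (LK LD1_c15 LD2_c6 LD3_c1))))))))))))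
theorem f445044 : Led Lsl_cf (LP (LK LD1_c8 LD2_c46 LD3_c54)) = (LP (LK LD1_c9 LD2_c46 LD3_c60)) :=
  Lgr Lrot14 (Lpe (f418086 IH) (Lpr_gf (f445040 IH) (Lpe (K37.f444856 IH) (Lpe (K37.f444895 IH) (Lpr_ct (K1.f30056 IH) (Lpr_gt (K37.f30627 IH) (Lpr_dt (f30633 IH) (Lpr_gt (f30632 IH) (Lpr_dt (f37395 IH) (Lpn (LP (LK LD1_c9 LD2_c46 LD3_c60))))))))))))
theorem f418085 : Led Lsl_gt (LP (LK LD1_c8 LD2_c46 LD3_c54)) = (LP (LK LD1_c16 LD2_c25 LD3_c51)) :=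
  Lre_g IH (LK LD1_c8 LD2_c46 LD3_c54) (LK LD1_c16 LD2_c25 LD3_c51) Lrfl Lrfl
theorem f445330 : Led Lsl_ct (LP (LK LD1_c16 LD2_c25 LD3_c51)) = (LP (LK LD1_c14 LD2_c59 LD3_c18)) :=
  Lgr Lrot110 (Lpe (f418085 IH) (Lpr_cf (f445044 IH) (Lpr_gf (f445187 IH) (Lpe (f30005 IH) (Lpr_gt (K37.f30002 IH) (Lpr_ct (f29993 IH) (Lpr_gt (f445325 IH) (Lpr_ct (f38863 IH) (Lpe (K37.f38862 IH) (Lpn (LP (LK LD1_c14 LD2_c59 LD3_c18))))))))))))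
theorem f38864 : Led Lsl_dt (LP (LK LD1_c7 LD2_c56 LD3_c36)) = (LP (LK LD1_c14 LD2_c59 LD3_c18)) :=
  Lre_d IH (LK LD1_c7 LD2_c56 LD3_c36) (LK LD1_c14 LD2_c59 LD3_c18) Lrfl Lrfl
theorem f37355 : Led Lsl_gt (LP (LK LD1_c6 LD2_c13 LD3_c36)) = (LP (LK LD1_c12 LD2_c5 LD3_c60)) :=
  Lre_g IH (LK LD1_c6 LD2_c13 LD3_c36) (LK LD1_c12 LD2_c5 LD3_c60) Lrfl Lrfl
theorem f445345 : Led Lsl_df (LP (LK LD1_c16 LD2_c25 LD3_c51)) = (LP (LK LD1_c12 LD2_c5 LD3_c60)) :=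
  Lgr Lrot174 (Lpr_ct (f445330 IH) (Lpe (f38864 IH) (Lpe (K37.f38858 IH) (Lpe (K1.f38707 IH) (Lpe (K37.f38734 IH) (Lpr_ct (K37.f70296 IH) (Lpr_gt (K37.f36822 IH) (Lpr_dt (f36862 IH) (Lpr_gt (f37355 IH) (Lpn (LP (LK LD1_c12 LD2_c5 LD3_c60))))))))))))
theorem f445343 : Led Lsl_cf (LP (LK LD1_c16 LD2_c25 LD3_c51)) = (LP (LK LD1_c14 LD2_c59 LD3_c18)) :=
  Lgr Lrot11 (Lpr_ct (f445330 IH) (Lpn (LP (LK LD1_c14 LD2_c59 LD3_c18))))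
theorem f408078 : Led Lsl_ct (LP (LK LD1_c8 LD2_c47 LD3_c55)) = (LP (LK LD1_c8 LD2_c48 LD3_c35)) :=
  Lgr Lrot8 (Lpr_gt (K37.f211196 IH) (Lpr_dt (K37.f408073 IH) (Lpr_gt (K37.f16538 IH) (Lpr_dt (K1.f16228 IH) (Lpe (f16429 IH) (Lpe (K37.f16428 IH) (Lpe (K37.f38859 IH) (Lpe (K37.f38862 IH) (Lpr_gf (K37.f241119 IH) (Lpn (LP (LK LD1_c8 LD2_c48 LD3_c35))))))))))))
theorem f99334 : Led Lsl_ct (LP (LK LD1_c16 LD2_c23 LD3_c13)) = (LP (LK LD1_c8 LD2_c45 LD3_c13)) :=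
  Lre_c IH (LK LD1_c16 LD2_c23 LD3_c13) (LK LD1_c8 LD2_c45 LD3_c13) Lrfl Lrfl
theorem f30064 : Led Lsl_ct (LP (LK LD1_c4 LD2_c0 LD3_c31)) = (LP (LK LD1_c8 LD2_c1 LD3_c60)) :=
  Lre_c IH (LK LD1_c4 LD2_c0 LD3_c31) (LK LD1_c8 LD2_c1 LD3_c60) Lrfl Lrfl
theorem f445106 : Led Lsl_gt (LP (LK LD1_c12 LD2_c6 LD3_c29)) = (LP (LK LD1_c8 LD2_c47 LD3_c21)) :=
  Lgr Lrot9 (Lpe (K37.f81525 IH) (Lpr_gt (K37.f30142 IH) (Lpr_ct (f30064 IH) (Lpr_gt (K37.f444908 IH) (Lpr_ct (K37.f99329 IH) (Lpe (f99335 IH) (Lpe (f99334 IH) (Lpr_gf (K37.f445102 IH) (Lpe (K37.f443142 IH) (Lpn (LP (LK LD1_c8 LD2_c47 LD3_c21))))))))))))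
theorem f444843 : Led Lsl_ct (LP (LK LD1_c12 LD2_c6 LD3_c29)) = (LP (LK LD1_c12 LD2_c21 LD3_c55)) :=
  Lgr Lrot59 (Lpr_cf (K37.f444839 IH) (Lpn (LP (LK LD1_c12 LD2_c21 LD3_c55))))
theorem f444964 : Led Lsl_dt (LP (LK LD1_c16 LD2_c32 LD3_c57)) = (LP (LK LD1_c26 LD2_c21 LD3_c5)) :=
  Lgr Lrot42 (Lpr_df (K37.f444959 IH) (Lpn (LP (LK LD1_c26 LD2_c21 LD3_c5))))
theorem f444924 : Led Lsl_ct (LP (LK LD1_c26 LD2_c21 LD3_c5)) = (LP (LK LD1_c16 LD2_c33 LD3_c26)) :=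
  Lgr Lrot59 (Lpr_cf (K37.f444919 IH) (Lpn (LP (LK LD1_c16 LD2_c33 LD3_c26))))
theorem f101846 : Led Lsl_ct (LP (LK LD1_c8 LD2_c51 LD3_c19)) = (LP (LK LD1_c16 LD2_c33 LD3_c23)) :=
  Lre_c IH (LK LD1_c8 LD2_c51 LD3_c19) (LK LD1_c16 LD2_c33 LD3_c23) Lrfl Lrfl
theorem f444970 : Led Lsl_df (LP (LK LD1_c26 LD2_c21 LD3_c4)) = (LP (LK LD1_c16 LD2_c33 LD3_c23)) :=
  Lgr Lrot43 (Lpe (K37.f444947 IH) (Lpr_dt (K37.f408147 IH) (Lpr_ct (K37.f241122 IH) (Lpr_dt (K37.f69525 IH) (Lpr_ct (K37.f443772 IH) (Lpr_dt (K37.f444856 IH) (Lpr_ct (K37.f444950 IH) (Lpr_dt (f444964 IH) (Lpr_ct (f444924 IH) (Lpr_dt (K37.f227634 IH) (Lpr_ct (K37.f101848 IH) (Lpr_dt (K37.f101847 IH) (Lpr_ct (K37.f99344 IH) (Lpr_dt (K37.f99349 IH) (Lpr_ct (f101846 IH) (Lpn (LP (LK LD1_c16 LD2_c33 LD3_c23))))))))))))))))))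
theorem f16454 : Led Lsl_dt (LP (LK LD1_c8 LD2_c50 LD3_c52)) = (LP (LK LD1_c4 LD2_c26 LD3_c39)) :=
  Lre_d IH (LK LD1_c8 LD2_c50 LD3_c52) (LK LD1_c4 LD2_c26 LD3_c39) Lrfl Lrfl
theorem f16458 : Led Lsl_dt (LP (LK LD1_c4 LD2_c26 LD3_c39)) = (LP (LK LD1_c8 LD2_c50 LD3_c52)) :=
  Lre_d IH (LK LD1_c4 LD2_c26 LD3_c39) (LK LD1_c8 LD2_c50 LD3_c52) Lrfl Lrfl
theorem f70555 : Led Lsl_et (LP (LK LD1_c8 LD2_c47 LD3_c55)) = (LP (LK LD1_c4 LD2_c25 LD3_c8)) :=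
  Lre_e IH (LK LD1_c8 LD2_c47 LD3_c55) (LK LD1_c4 LD2_c25 LD3_c8) Lrfl Lrfl
theorem f70556 : Led Lsl_dt (LP (LK LD1_c8 LD2_c47 LD3_c55)) = (LP (LK LD1_c16 LD2_c27 LD3_c57)) :=
  Lre_d IH (LK LD1_c8 LD2_c47 LD3_c55) (LK LD1_c16 LD2_c27 LD3_c57) Lrfl Lrfl
theorem f70557 : Led Lsl_gt (LP (LK LD1_c8 LD2_c50 LD3_c52)) = (LP (LK LD1_c16 LD2_c27 LD3_c57)) :=
  Lgr Lrot139 (Lpe (f16458 IH) (Lpe (K2.f16451 IH) (Lpe (K2.f16597 IH) (Lpr_dt (K2.f70437 IH) (Lpe (K2.f69345 IH) (Lpe (K2.f60409 IH) (Lpr_et (K2.f70553 IH) (Lpe (K37.f70554 IH) (Lpe (f70555 IH) (Lpr_dt (f70556 IH) (Lpn (LP (LK LD1_c16 LD2_c27 LD3_c57)))))))))))))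
theorem f408066 : Led Lsl_ct (LP (LK LD1_c16 LD2_c27 LD3_c57)) = (LP (LK LD1_c26 LD2_c25 LD3_c9)) :=
  Lre_c IH (LK LD1_c16 LD2_c27 LD3_c57) (LK LD1_c26 LD2_c25 LD3_c9) Lrfl Lrfl
theorem f408067 : Led Lsl_gf (LP (LK LD1_c16 LD2_c33 LD3_c23)) = (LP (LK LD1_c26 LD2_c25 LD3_c9)) :=
  Lgr Lrot104 (Lpr_ct (K37.f101845 IH) (Lpe (K37.f99349 IH) (Lpe (K37.f99344 IH) (Lpr_gf (K37.f408062 IH) (Lpr_cf (K37.f38795 IH) (Lpr_gf (K2.f16452 IH) (Lpe (f16454 IH) (Lpr_gt (f70557 IH) (Lpr_ct (f408066 IH) (Lpn (LP (LK LD1_c26 LD2_c25 LD3_c9))))))))))))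
theorem f444983 : Led Lsl_gf (LP (LK LD1_c8 LD2_c50 LD3_c55)) = (LP (LK LD1_c16 LD2_c27 LD3_c57)) :=
  Lgr Lrot144 (Lpr_dt (K37.f16505 IH) (Lpr_gt (K37.f16504 IH) (Lpr_dt (K37.f16215 IH) (Lpe (K1.f16211 IH) (Lpe (K1.f16332 IH) (Lpe (K37.f16502 IH) (Lpr_df (f444970 IH) (Lpr_gf (f408067 IH) (Lpe (f408066 IH) (Lpn (LP (LK LD1_c16 LD2_c27 LD3_c57))))))))))))
theorem f445108 : Led Lsl_gt (LP (LK LD1_c12 LD2_c21 LD3_c55)) = (LP (LK LD1_c8 LD2_c47 LD3_c55)) :=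
  Lgr Lrot94 (Lpe (f444843 IH) (Lpr_gt (f445106 IH) (Lpe (K37.f35832 IH) (Lpr_gt (f272908 IH) (Lpr_dt (f30114 IH) (Lpe (K37.f70607 IH) (Lpe (K37.f16505 IH) (Lpr_gf (f444983 IH) (Lpe (f70556 IH) (Lpn (LP (LK LD1_c8 LD2_c47 LD3_c55))))))))))))
theorem f16468 : Led Lsl_gt (LP (LK LD1_c8 LD2_c51 LD3_c35)) = (LP (LK LD1_c16 LD2_c33 LD3_c49)) :=
  Lre_g IH (LK LD1_c8 LD2_c51 LD3_c35) (LK LD1_c16 LD2_c33 LD3_c49) Lrfl Lrfl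
theorem f445349 : Led Lsl_ct (LP (LK LD1_c16 LD2_c33 LD3_c49)) = (LP (LK LD1_c12 LD2_c5 LD3_c60)) :=
  Lgr Lrot110 (Lpe (f16468 IH) (Lpe (K37.f16210 IH) (Lpe (K37.f16223 IH) (Lpr_df (K37.f443762 IH) (Lpr_gt (f445108 IH) (Lpr_ct (f408078 IH) (Lpe (K37.f241119 IH) (Lpe (f445343 IH) (Lpr_df (f445345 IH) (Lpn (LP (LK LD1_c12 LD2_c5 LD3_c60))))))))))))
theorem f445351 : Led Lsl_cf (LP (LK LD1_c16 LD2_c33 LD3_c49)) = (LP (LK LD1_c12 LD2_c5 LD3_c60)) :=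
  Lgr Lrot11 (Lpr_ct (f445349 IH) (Lpn (LP (LK LD1_c12 LD2_c5 LD3_c60))))
theorem f16469 : Led Lsl_gt (LP (LK LD1_c16 LD2_c33 LD3_c49)) = (LP (LK LD1_c16 LD2_c32 LD3_c35)) :=
  Lgr Lrot46 (Lpe (f16468 IH) (Lpr_ft (K1.f16271 IH) (Lpr_at (K1.f16343 IH) (Lpn (LP (LK LD1_c16 LD2_c32 LD3_c35))))))
theorem f445365 : Led Lsl_cf (LP (LK LD1_c3 LD2_c58 LD3_c0)) = (LP (LK LD1_c6 LD2_c13 LD3_c34)) :=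
  Lgr Lrot169 (Lpr_gt (K2.f39984 IH) (Lpr_ct (f16429 IH) (Lpe (K1.f16228 IH) (Lpe (K1.f16239 IH) (Lpe (f16469 IH) (Lpr_cf (f445351 IH) (Lpe (f37355 IH) (Lpe (f36862 IH) (Lpr_gt (K37.f36819 IH) (Lpn (LP (LK LD1_c6 LD2_c13 LD3_c34))))))))))))
theorem f407894 : Led Lsl_dt (LP (LK LD1_c15 LD2_c0 LD3_c26)) = (LP (LK LD1_c24 LD2_c47 LD3_c50)) :=
  Lre_d IH (LK LD1_c15 LD2_c0 LD3_c26) (LK LD1_c24 LD2_c47 LD3_c50) Lrfl Lrfl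
theorem f16436 : Led Lsl_ct (LP (LK LD1_c16 LD2_c33 LD3_c35)) = (LP (LK LD1_c26 LD2_c30 LD3_c19)) :=
  Lre_c IH (LK LD1_c16 LD2_c33 LD3_c35) (LK LD1_c26 LD2_c30 LD3_c19) Lrfl Lrfl
theorem f70309 : Led Lsl_ct (LP (LK LD1_c21 LD2_c11 LD3_c52)) = (LP (LK LD1_c12 LD2_c5 LD3_c58)) :=
  Lre_c IH (LK LD1_c21 LD2_c11 LD3_c52) (LK LD1_c12 LD2_c5 LD3_c58) Lrfl Lrfl
theorem f407853 : Led Lsl_gt (LP (LK LD1_c26 LD2_c30 LD3_c19)) = (LP (LK LD1_c21 LD2_c11 LD3_c52)) :=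
  Lgr Lrot150 (Lpe (f16436 IH) (Lpe (K1.f16435 IH) (Lpe (K1.f16434 IH) (Lpr_gt (K37.f16423 IH) (Lpr_ct (K1.f16229 IH) (Lpr_gt (K37.f407849 IH) (Lpr_ct (K37.f70296 IH) (Lpe (K37.f36824 IH) (Lpe (f70309 IH) (Lpn (LP (LK LD1_c21 LD2_c11 LD3_c52))))))))))))
theorem f38682 : Led Lsl_ct (LP (LK LD1_c26 LD2_c30 LD3_c19)) = (LP (LK LD1_c16 LD2_c33 LD3_c35)) :=
  Lre_c IH (LK LD1_c26 LD2_c30 LD3_c19) (LK LD1_c16 LD2_c33 LD3_c35) Lrfl Lrfl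
theorem f407871 : Led Lsl_df (LP (LK LD1_c26 LD2_c30 LD3_c45)) = (LP (LK LD1_c21 LD2_c11 LD3_c52)) :=
  Lgr Lrot153 (Lpr_gt (f16255 IH) (Lpr_dt (K1.f16227 IH) (Lpe (K37.f16210 IH) (Lpe (K37.f16425 IH) (Lpe (K37.f16598 IH) (Lpe (K37.f16608 IH) (Lpe (f205045 IH) (Lpe (f38682 IH) (Lpr_gt (f407853 IH) (Lpn (LP (LK LD1_c21 LD2_c11 LD3_c52))))))))))))
theorem f407878 : Led Lsl_dt (LP (LK LD1_c26 LD2_c30 LD3_c45)) = (LP (LK LD1_c21 LD2_c11 LD3_c52)) :=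
  Lgr Lrot42 (Lpr_df (f407871 IH) (Lpn (LP (LK LD1_c21 LD2_c11 LD3_c52))))
theorem f70303 : Led Lsl_cf (LP (LK LD1_c3 LD2_c58 LD3_c1)) = (LP (LK LD1_c6 LD2_c13 LD3_c35)) :=
  Lgr Lrot11 (Lpr_ct (K37.f70296 IH) (Lpn (LP (LK LD1_c6 LD2_c13 LD3_c35))))
theorem f70316 : Led Lsl_dt (LP (LK LD1_c3 LD2_c58 LD3_c1)) = (LP (LK LD1_c7 LD2_c57 LD3_c29)) :=
  Lre_d IH (LK LD1_c3 LD2_c58 LD3_c1) (LK LD1_c7 LD2_c57 LD3_c29) Lrfl Lrfl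
theorem f70317 : Led Lsl_ct (LP (LK LD1_c7 LD2_c57 LD3_c29)) = (LP (LK LD1_c15 LD2_c0 LD3_c33)) :=
  Lre_c IH (LK LD1_c7 LD2_c57 LD3_c29) (LK LD1_c15 LD2_c0 LD3_c33) Lrfl Lrfl
theorem f70318 : Led Lsl_dt (LP (LK LD1_c15 LD2_c0 LD3_c33)) = (LP (LK LD1_c24 LD2_c47 LD3_c55)) :=
  Lre_d IH (LK LD1_c15 LD2_c0 LD3_c33) (LK LD1_c24 LD2_c47 LD3_c55) Lrfl Lrfl
theorem f59768 : Led Lsl_dt (LP (LK LD1_c12 LD2_c5 LD3_c55)) = (LP (LK LD1_c6 LD2_c13 LD3_c34)) :=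
  Lre_d IH (LK LD1_c12 LD2_c5 LD3_c55) (LK LD1_c6 LD2_c13 LD3_c34) Lrfl Lrfl
theorem f443144 : Led Lsl_ct (LP (LK LD1_c21 LD2_c11 LD3_c47)) = (LP (LK LD1_c12 LD2_c5 LD3_c55)) :=
  Lre_c IH (LK LD1_c21 LD2_c11 LD3_c47) (LK LD1_c12 LD2_c5 LD3_c55) Lrfl Lrfl
theorem f443141 : Led Lsl_ct (LP (LK LD1_c12 LD2_c5 LD3_c55)) = (LP (LK LD1_c21 LD2_c11 LD3_c47)) :=
  Lre_c IH (LK LD1_c12 LD2_c5 LD3_c55) (LK LD1_c21 LD2_c11 LD3_c47) Lrfl Lrfl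
theorem f16250 : Led Lsl_gt (LP (LK LD1_c16 LD2_c33 LD3_c52)) = (LP (LK LD1_c26 LD2_c30 LD3_c44)) :=
  Lre_g IH (LK LD1_c16 LD2_c33 LD3_c52) (LK LD1_c26 LD2_c30 LD3_c44) Lrfl Lrfl
theorem f445307 : Led Lsl_df (LP (LK LD1_c21 LD2_c11 LD3_c47)) = (LP (LK LD1_c26 LD2_c30 LD3_c44)) :=
  Lgr Lrot84 (Lpe (f443141 IH) (Lpe (K37.f36820 IH) (Lpe (K37.f36819 IH) (Lpe (K1.f36786 IH) (Lpe (f36792 IH) (Lpr_cf (f445299 IH) (Lpr_gt (f16252 IH) (Lpr_dt (K1.f16251 IH) (Lpr_gt (f16250 IH) (Lpn (LP (LK LD1_c26 LD2_c30 LD3_c44))))))))))))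
theorem f445370 : Led Lsl_ct (LP (LK LD1_c24 LD2_c47 LD3_c55)) = (LP (LK LD1_c26 LD2_c30 LD3_c44)) :=
  Lgr Lrot176 (Lpe (f70318 IH) (Lpe (f70317 IH) (Lpe (f70316 IH) (Lpr_cf (f70303 IH) (Lpe (K37.f36824 IH) (Lpe (f70309 IH) (Lpe (f407878 IH) (Lpe (f445313 IH) (Lpe (f407894 IH) (Lpe (f37808 IH) (Lpe (K1.f37781 IH) (Lpr_cf (f445365 IH) (Lpe (f59768 IH) (Lpe (f443144 IH) (Lpr_df (f445307 IH) (Lpn (LP (LK LD1_c26 LD2_c30 LD3_c44))))))))))))))))))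
theorem f38769 : Led Lsl_gf (LP (LK LD1_c24 LD2_c46 LD3_c49)) = (LP (LK LD1_c26 LD2_c30 LD3_c44)) :=
  Lgr Lrot76 (Lpr_af (K1.f38721 IH) (Lpe (K1.f16246 IH) (Lpr_gt (f16250 IH) (Lpn (LP (LK LD1_c26 LD2_c30 LD3_c44))))))
theorem f16492 : Led Lsl_dt (LP (LK LD1_c16 LD2_c33 LD3_c50)) = (LP (LK LD1_c26 LD2_c30 LD3_c39)) :=
  Lre_d IH (LK LD1_c16 LD2_c33 LD3_c50) (LK LD1_c26 LD2_c30 LD3_c39) Lrfl Lrfl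
theorem f16471 : Led Lsl_dt (LP (LK LD1_c26 LD2_c30 LD3_c36)) = (LP (LK LD1_c16 LD2_c33 LD3_c49)) :=
  Lre_d IH (LK LD1_c26 LD2_c30 LD3_c36) (LK LD1_c16 LD2_c33 LD3_c49) Lrfl Lrfl
theorem f30137 : Led Lsl_af (LP (LK LD1_c8 LD2_c1 LD3_c9)) = (LP (LK LD1_c8 LD2_c1 LD3_c60)) :=
  Lgr Lrot68 (Lpr_ct (f29940 IH) (Lpr_at (K37.f29988 IH) (Lpr_ct (f30064 IH) (Lpn (LP (LK LD1_c8 LD2_c1 LD3_c60))))))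
theorem f407886 : Led Lsl_gf (LP (LK LD1_c14 LD2_c59 LD3_c21)) = (LP (LK LD1_c15 LD2_c7 LD3_c39)) :=
  Lgr Lrot47 (Lpr_gt (f407851 IH) (Lpr_af (f30137 IH) (Lpe (K12.f30154 IH) (Lpn (LP (LK LD1_c15 LD2_c7 LD3_c39))))))
theorem f210926 : Led Lsl_dt (LP (LK LD1_c14 LD2_c59 LD3_c21)) = (LP (LK LD1_c24 LD2_c46 LD3_c55)) :=
  Lre_d IH (LK LD1_c14 LD2_c59 LD3_c21) (LK LD1_c24 LD2_c46 LD3_c55) Lrfl Lrfl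
theorem f16472 : Led Lsl_dt (LP (LK LD1_c16 LD2_c33 LD3_c49)) = (LP (LK LD1_c26 LD2_c30 LD3_c36)) :=
  Lre_d IH (LK LD1_c16 LD2_c33 LD3_c49) (LK LD1_c26 LD2_c30 LD3_c36) Lrfl Lrfl
theorem f445315 : Led Lsl_ct (LP (LK LD1_c24 LD2_c46 LD3_c55)) = (LP (LK LD1_c26 LD2_c30 LD3_c36)) :=
  Lgr Lrot7 (Lpe (f210926 IH) (Lpr_gf (f407886 IH) (Lpe (K1.f29929 IH) (Lpe (f407895 IH) (Lpr_cf (f445309 IH) (Lpr_gt (f16255 IH) (Lpr_dt (K1.f16227 IH) (Lpr_gt (f16468 IH) (Lpr_dt (f16472 IH) (Lpn (LP (LK LD1_c26 LD2_c30 LD3_c36))))))))))))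
theorem f445214 : Led Lsl_cf (LP (LK LD1_c11 LD2_c23 LD3_c16)) = (LP (LK LD1_c12 LD2_c6 LD3_c55)) :=
  Lgr Lrot11 (Lpr_ct (f445205 IH) (Lpn (LP (LK LD1_c12 LD2_c6 LD3_c55))))
theorem f59744 : Led Lsl_df (LP (LK LD1_c12 LD2_c6 LD3_c55)) = (LP (LK LD1_c12 LD2_c5 LD3_c61)) :=
  Lgr Lrot38 (Lpr_dt (f59738 IH) (Lpn (LP (LK LD1_c12 LD2_c5 LD3_c61))))
theorem f16253 : Led Lsl_dt (LP (LK LD1_c26 LD2_c30 LD3_c39)) = (LP (LK LD1_c16 LD2_c33 LD3_c50)) :=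
  Lre_d IH (LK LD1_c26 LD2_c30 LD3_c39) (LK LD1_c16 LD2_c33 LD3_c50) Lrfl Lrfl
theorem f38861 : Led Lsl_ct (LP (LK LD1_c7 LD2_c56 LD3_c36)) = (LP (LK LD1_c14 LD2_c59 LD3_c17)) :=
  Lre_c IH (LK LD1_c7 LD2_c56 LD3_c36) (LK LD1_c14 LD2_c59 LD3_c17) Lrfl Lrfl
theorem f445329 : Led Lsl_dt (LP (LK LD1_c14 LD2_c59 LD3_c17)) = (LP (LK LD1_c24 LD2_c46 LD3_c52)) :=
  Lre_d IH (LK LD1_c14 LD2_c59 LD3_c17) (LK LD1_c24 LD2_c46 LD3_c52) Lrfl Lrfl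
theorem f445353 : Led Lsl_cf (LP (LK LD1_c26 LD2_c30 LD3_c39)) = (LP (LK LD1_c24 LD2_c46 LD3_c52)) :=
  Lgr Lrot55 (Lpr_dt (f16253 IH) (Lpe (f445299 IH) (Lpe (f59744 IH) (Lpe (f445214 IH) (Lpr_dt (K37.f210919 IH) (Lpr_ct (f210925 IH) (Lpr_dt (f210926 IH) (Lpr_ct (f445315 IH) (Lpr_dt (f16471 IH) (Lpr_ct (f445349 IH) (Lpe (f445345 IH) (Lpr_ct (f445330 IH) (Lpr_dt (K37.f38862 IH) (Lpr_ct (f38861 IH) (Lpr_dt (f445329 IH) (Lpn (LP (LK LD1_c24 LD2_c46 LD3_c52))))))))))))))))))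
theorem f445363 : Led Lsl_ct (LP (LK LD1_c26 LD2_c30 LD3_c39)) = (LP (LK LD1_c24 LD2_c46 LD3_c52)) :=
  Lgr Lrot59 (Lpr_cf (f445353 IH) (Lpn (LP (LK LD1_c24 LD2_c46 LD3_c52))))
theorem f445400 : Led Lsl_gt (LP (LK LD1_c24 LD2_c47 LD3_c55)) = (LP (LK LD1_c15 LD2_c5 LD3_c57)) :=
  Lgr Lrot180 (Lpr_ct (f445370 IH) (Lpe (f38769 IH) (Lpr_dt (f38711 IH) (Lpe (f16490 IH) (Lpr_dt (f16492 IH) (Lpr_ct (f445363 IH) (Lpe (f445329 IH) (Lpe (f445325 IH) (Lpe (K37.f29694 IH) (Lpn (LP (LK LD1_c15 LD2_c5 LD3_c57))))))))))))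
theorem f16358 : Led Lsl_ct (LP (LK LD1_c8 LD2_c50 LD3_c57)) = (LP (LK LD1_c16 LD2_c32 LD3_c26)) :=
  Lre_c IH (LK LD1_c8 LD2_c50 LD3_c57) (LK LD1_c16 LD2_c32 LD3_c26) Lrfl Lrfl
theorem f29932 : Led Lsl_ct (LP (LK LD1_c4 LD2_c0 LD3_c57)) = (LP (LK LD1_c8 LD2_c2 LD3_c33)) :=
  Lre_c IH (LK LD1_c4 LD2_c0 LD3_c57) (LK LD1_c8 LD2_c2 LD3_c33) Lrfl Lrfl
theorem f30123 : Led Lsl_ct (LP (LK LD1_c24 LD2_c57 LD3_c20)) = (LP (LK LD1_c15 LD2_c8 LD3_c27)) :=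
  Lre_c IH (LK LD1_c24 LD2_c57 LD3_c20) (LK LD1_c15 LD2_c8 LD3_c27) Lrfl Lrfl
theorem f445225 : Led Lsl_gt (LP (LK LD1_c16 LD2_c32 LD3_c26)) = (LP (LK LD1_c24 LD2_c57 LD3_c20)) :=
  Lgr Lrot150 (Lpe (f16358 IH) (Lpe (K37.f16353 IH) (Lpe (K37.f16215 IH) (Lpr_gt (K2.f16451 IH) (Lpr_ct (K37.f445174 IH) (Lpr_gt (f30121 IH) (Lpr_ct (f29932 IH) (Lpe (K1.f29974 IH) (Lpe (f30123 IH) (Lpn (LP (LK LD1_c24 LD2_c57 LD3_c20))))))))))))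
theorem f445228 : Led Lsl_gf (LP (LK LD1_c16 LD2_c32 LD3_c26)) = (LP (LK LD1_c12 LD2_c6 LD3_c0)) :=
  Lgr Lrot47 (Lpr_gt (f445225 IH) (Lpe (K1.f36850 IH) (Lpe (K1.f36855 IH) (Lpn (LP (LK LD1_c12 LD2_c6 LD3_c0))))))
theorem f16356 : Led Lsl_ct (LP (LK LD1_c16 LD2_c32 LD3_c26)) = (LP (LK LD1_c8 LD2_c50 LD3_c57)) :=
  Lre_c IH (LK LD1_c16 LD2_c32 LD3_c26) (LK LD1_c8 LD2_c50 LD3_c57) Lrfl Lrfl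
theorem f16294 : Led Lsl_ct (LP (LK LD1_c26 LD2_c21 LD3_c2)) = (LP (LK LD1_c16 LD2_c23 LD3_c1)) :=
  Lre_c IH (LK LD1_c26 LD2_c21 LD3_c2) (LK LD1_c16 LD2_c23 LD3_c1) Lrfl Lrfl
theorem f445231 : Led Lsl_gf (LP (LK LD1_c26 LD2_c21 LD3_c2)) = (LP (LK LD1_c21 LD2_c11 LD3_c58)) :=
  Lgr Lrot147 (Lpr_ct (f16294 IH) (Lpr_gt (f16293 IH) (Lpr_ct (K1.f16270 IH) (Lpe (K37.f16272 IH) (Lpe (K1.f16280 IH) (Lpr_gf (K37.f16354 IH) (Lpe (f16356 IH) (Lpr_gf (f445228 IH) (Lpe (K1.f36796 IH) (Lpn (LP (LK LD1_c21 LD2_c11 LD3_c58))))))))))))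
theorem f443794 : Led Lsl_df (LP (LK LD1_c15 LD2_c6 LD3_c34)) = (LP (LK LD1_c16 LD2_c23 LD3_c1)) :=
  Lgr Lrot38 (Lpr_dt (f443781 IH) (Lpn (LP (LK LD1_c16 LD2_c23 LD3_c1))))
theorem f37807 : Led Lsl_gt (LP (LK LD1_c15 LD2_c0 LD3_c26)) = (LP (LK LD1_c24 LD2_c47 LD3_c47)) :=
  Lre_g IH (LK LD1_c15 LD2_c0 LD3_c26) (LK LD1_c24 LD2_c47 LD3_c47) Lrfl Lrfl
theorem f445239 : Led Lsl_cf (LP (LK LD1_c15 LD2_c6 LD3_c25)) = (LP (LK LD1_c24 LD2_c47 LD3_c47)) :=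
  Lgr Lrot169 (Lpr_gt (f272908 IH) (Lpr_ct (f30108 IH) (Lpr_df (f443794 IH) (Lpe (f16294 IH) (Lpr_gf (f445231 IH) (Lpr_cf (K1.f36797 IH) (Lpe (f407895 IH) (Lpe (f407894 IH) (Lpr_gt (f37807 IH) (Lpn (LP (LK LD1_c24 LD2_c47 LD3_c47))))))))))))
theorem f445404 : Led Lsl_gf (LP (LK LD1_c15 LD2_c0 LD3_c33)) = (LP (LK LD1_c24 LD2_c47 LD3_c47)) :=
  Lgr Lrot144 (Lpr_dt (f70318 IH) (Lpr_gt (f445400 IH) (Lpr_dt (K37.f29694 IH) (Lpe (f29993 IH) (Lpe (K37.f30097 IH) (Lpe (K37.f30104 IH) (Lpe (f30114 IH) (Lpe (f272908 IH) (Lpr_cf (f445239 IH) (Lpn (LP (LK LD1_c24 LD2_c47 LD3_c47))))))))))))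
theorem f70306 : Led Lsl_ct (LP (LK LD1_c15 LD2_c0 LD3_c33)) = (LP (LK LD1_c7 LD2_c57 LD3_c29)) :=
  Lre_c IH (LK LD1_c15 LD2_c0 LD3_c33) (LK LD1_c7 LD2_c57 LD3_c29) Lrfl Lrfl
theorem f445243 : Led Lsl_ct (LP (LK LD1_c15 LD2_c6 LD3_c25)) = (LP (LK LD1_c24 LD2_c47 LD3_c47)) :=
  Lgr Lrot59 (Lpr_cf (f445239 IH) (Lpn (LP (LK LD1_c24 LD2_c47 LD3_c47))))
theorem f445410 : Led Lsl_gf (LP (LK LD1_c6 LD2_c13 LD3_c35)) = (LP (LK LD1_c8 LD2_c2 LD3_c33)) :=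
  Lgr Lrot104 (Lpe (f70303 IH) (Lpe (K37.f70305 IH) (Lpe (f70306 IH) (Lpr_gf (f445404 IH) (Lpe (f445243 IH) (Lpe (K37.f30127 IH) (Lpe (K37.f30126 IH) (Lpr_gt (f30121 IH) (Lpr_ct (f29932 IH) (Lpn (LP (LK LD1_c8 LD2_c2 LD3_c33))))))))))))
theorem f30723 : Led Lsl_ft (LP (LK LD1_c8 LD2_c2 LD3_c33)) = (LP (LK LD1_c4 LD2_c0 LD3_c54)) :=
  Lre_f IH (LK LD1_c8 LD2_c2 LD3_c33) (LK LD1_c4 LD2_c0 LD3_c54) Lrfl Lrfl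
theorem f30724 : Led Lsl_et (LP (LK LD1_c4 LD2_c0 LD3_c57)) = (LP (LK LD1_c8 LD2_c2 LD3_c33)) :=
  Lgr Lrot69 (Lpe (K37.f30052 IH) (Lpe (K37.f30099 IH) (Lpr_ff (K1.f30716 IH) (Lpe (K4.f30722 IH) (Lpe (f30723 IH) (Lpn (LP (LK LD1_c8 LD2_c2 LD3_c33))))))))
theorem f29970 : Led Lsl_gt (LP (LK LD1_c8 LD2_c1 LD3_c10)) = (LP (LK LD1_c8 LD2_c2 LD3_c1)) :=
  Lgr Lrot46 (Lpe (K37.f29969 IH) (Lpr_ft (K1.f29965 IH) (Lpr_at (K1.f29947 IH) (Lpn (LP (LK LD1_c8 LD2_c2 LD3_c1))))))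
theorem f29972 : Led Lsl_dt (LP (LK LD1_c15 LD2_c5 LD3_c60)) = (LP (LK LD1_c8 LD2_c1 LD3_c10)) :=
  Lre_d IH (LK LD1_c15 LD2_c5 LD3_c60) (LK LD1_c8 LD2_c1 LD3_c10) Lrfl Lrfl
theorem f445233 : Led Lsl_gf (LP (LK LD1_c15 LD2_c5 LD3_c60)) = (LP (LK LD1_c9 LD2_c46 LD3_c60)) :=
  Lgr Lrot104 (Lpe (K37.f70624 IH) (Lpe (K37.f16359 IH) (Lpe (f16356 IH) (Lpr_gf (f445228 IH) (Lpe (f36783 IH) (Lpe (f36792 IH) (Lpe (f59738 IH) (Lpe (f445216 IH) (Lpr_ct (f445042 IH) (Lpn (LP (LK LD1_c9 LD2_c46 LD3_c60))))))))))))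
theorem f37413 : Led Lsl_dt (LP (LK LD1_c4 LD2_c58 LD3_c1)) = (LP (LK LD1_c9 LD2_c46 LD3_c59)) :=
  Lre_d IH (LK LD1_c4 LD2_c58 LD3_c1) (LK LD1_c9 LD2_c46 LD3_c59) Lrfl Lrfl
theorem f445415 : Led Lsl_gt (LP (LK LD1_c17 LD2_c56 LD3_c58)) = (LP (LK LD1_c9 LD2_c46 LD3_c59)) :=
  Lgr Lrot112 (Lpe (K37.f37340 IH) (Lpr_et (K37.f37337 IH) (Lpr_gf (f445410 IH) (Lpe (f30724 IH) (Lpr_dt (K1.f29985 IH) (Lpe (f29970 IH) (Lpe (f29972 IH) (Lpr_gf (f445233 IH) (Lpe (f37398 IH) (Lpr_dt (f37413 IH) (Lpn (LP (LK LD1_c9 LD2_c46 LD3_c59)))))))))))))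
theorem f37364 : Led Lsl_et (LP (LK LD1_c27 LD2_c41 LD3_c39)) = (LP (LK LD1_c17 LD2_c56 LD3_c58)) :=
  Lre_e IH (LK LD1_c27 LD2_c41 LD3_c39) (LK LD1_c17 LD2_c56 LD3_c58) Lrfl Lrfl
theorem f37350 : Led Lsl_et (LP (LK LD1_c21 LD2_c11 LD3_c53)) = (LP (LK LD1_c12 LD2_c5 LD3_c58)) :=
  Lre_e IH (LK LD1_c21 LD2_c11 LD3_c53) (LK LD1_c12 LD2_c5 LD3_c58) Lrfl Lrfl
theorem f37351 : Led Lsl_et (LP (LK LD1_c17 LD2_c56 LD3_c58)) = (LP (LK LD1_c27 LD2_c41 LD3_c39)) :=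
  Lre_e IH (LK LD1_c17 LD2_c56 LD3_c58) (LK LD1_c27 LD2_c41 LD3_c39) Lrfl Lrfl
theorem f37352 : Led Lsl_df (LP (LK LD1_c21 LD2_c11 LD3_c53)) = (LP (LK LD1_c27 LD2_c41 LD3_c39)) :=
  Lgr Lrot70 (Lpr_et (f37350 IH) (Lpr_dt (K37.f36824 IH) (Lpr_et (K37.f37349 IH) (Lpr_dt (K37.f37340 IH) (Lpr_et (f37351 IH) (Lpn (LP (LK LD1_c27 LD2_c41 LD3_c39))))))))
theorem f227815 : Led Lsl_et (LP (LK LD1_c9 LD2_c47 LD3_c10)) = (LP (LK LD1_c4 LD2_c58 LD3_c7)) :=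
  Lre_e IH (LK LD1_c9 LD2_c47 LD3_c10) (LK LD1_c4 LD2_c58 LD3_c7) Lrfl Lrfl
theorem f227793 : Led Lsl_dt (LP (LK LD1_c9 LD2_c47 LD3_c10)) = (LP (LK LD1_c17 LD2_c57 LD3_c32)) :=
  Lre_d IH (LK LD1_c9 LD2_c47 LD3_c10) (LK LD1_c17 LD2_c57 LD3_c32) Lrfl Lrfl
theorem f445419 : Led Lsl_gf (LP (LK LD1_c21 LD2_c11 LD3_c53)) = (LP (LK LD1_c17 LD2_c57 LD3_c32)) :=
  Lgr Lrot145 (Lpr_df (f37352 IH) (Lpr_et (f37364 IH) (Lpr_gt (f445415 IH) (Lpr_dt (f37399 IH) (Lpr_gt (f37387 IH) (Lpe (K6.f37618 IH) (Lpr_et (f37566 IH) (Lpr_gt (K12.f37336 IH) (Lpe (f227815 IH) (Lpr_dt (f227793 IH) (Lpn (LP (LK LD1_c17 LD2_c57 LD3_c32)))))))))))))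
theorem f453105 : Led Lsl_et (LP (LK LD1_c9 LD2_c51 LD3_c23)) = (LP (LK LD1_c17 LD2_c57 LD3_c32)) :=
  Lgr Lrot185 (Lpe (K31.f453088 IH) (Lpr_gf (K31.f453101 IH) (Lpe (K13.f198444 IH) (Lpe (K13.f198443 IH) (Lpe (K1.f36776 IH) (Lpr_dt (K1.f36786 IH) (Lpe (K37.f36822 IH) (Lpe (K37.f36824 IH) (Lpr_et (f37367 IH) (Lpr_gf (f445419 IH) (Lpn (LP (LK LD1_c17 LD2_c57 LD3_c32)))))))))))))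
theorem f453109 : Led Lsl_ef (LP (LK LD1_c9 LD2_c51 LD3_c23)) = (LP (LK LD1_c17 LD2_c57 LD3_c32)) :=
  Lgr Lrot88 (Lpr_et (f453105 IH) (Lpn (LP (LK LD1_c17 LD2_c57 LD3_c32))))
theorem f36708 : Led Lsl_gt (LP (LK LD1_c12 LD2_c6 LD3_c8)) = (LP (LK LD1_c21 LD2_c12 LD3_c14)) :=
  Lre_g IH (LK LD1_c12 LD2_c6 LD3_c8) (LK LD1_c21 LD2_c12 LD3_c14) Lrfl Lrfl
theorem f418498 : Led Lsl_dt (LP (LK LD1_c17 LD2_c57 LD3_c32)) = (LP (LK LD1_c9 LD2_c47 LD3_c10)) :=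
  Lre_d IH (LK LD1_c17 LD2_c57 LD3_c32) (LK LD1_c9 LD2_c47 LD3_c10) Lrfl Lrfl
theorem f453113 : Led Lsl_ef (LP (LK LD1_c21 LD2_c12 LD3_c14)) = (LP (LK LD1_c27 LD2_c42 LD3_c4)) :=
  Lgr Lrot17 (Lpe (f36708 IH) (Lpe (K1.f36702 IH) (Lpr_dt (K1.f36724 IH) (Lpe (K12.f227879 IH) (Lpe (K16.f175032 IH) (Lpe (K31.f272196 IH) (Lpr_ef (f453109 IH) (Lpr_dt (f418498 IH) (Lpe (f272847 IH) (Lpe (f418501 IH) (Lpn (LP (LK LD1_c27 LD2_c42 LD3_c4)))))))))))))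
theorem f30159 : Led Lsl_dt (LP (LK LD1_c24 LD2_c56 LD3_c35)) = (LP (LK LD1_c15 LD2_c7 LD3_c45)) :=
  Lre_d IH (LK LD1_c24 LD2_c56 LD3_c35) (LK LD1_c15 LD2_c7 LD3_c45) Lrfl Lrfl
theorem f36690 : Led Lsl_at (LP (LK LD1_c21 LD2_c11 LD3_c60)) = (LP (LK LD1_c24 LD2_c56 LD3_c35)) :=
  Lgr Lrot51 (Lpr_df (K1.f36687 IH) (Lpr_af (K12.f29963 IH) (Lpe (f30159 IH) (Lpn (LP (LK LD1_c24 LD2_c56 LD3_c35))))))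
theorem f445756 : Led Lsl_gt (LP (LK LD1_c21 LD2_c12 LD3_c14)) = (LP (LK LD1_c24 LD2_c56 LD3_c35)) :=
  Lgr Lrot46 (Lpe (f36708 IH) (Lpr_ft (K38.f36706 IH) (Lpr_at (f36690 IH) (Lpn (LP (LK LD1_c24 LD2_c56 LD3_c35))))))
theorem f29771 : Led Lsl_gt (LP (LK LD1_c15 LD2_c6 LD3_c5)) = (LP (LK LD1_c8 LD2_c1 LD3_c13)) :=
  Lre_g IH (LK LD1_c15 LD2_c6 LD3_c5) (LK LD1_c8 LD2_c1 LD3_c13) Lrfl Lrfl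
theorem f30200 : Led Lsl_ft (LP (LK LD1_c15 LD2_c7 LD3_c45)) = (LP (LK LD1_c8 LD2_c2 LD3_c2)) :=
  Lre_f IH (LK LD1_c15 LD2_c7 LD3_c45) (LK LD1_c8 LD2_c2 LD3_c2) Lrfl Lrfl
theorem f30201 : Led Lsl_gf (LP (LK LD1_c15 LD2_c6 LD3_c5)) = (LP (LK LD1_c15 LD2_c7 LD3_c45)) :=
  Lgr Lrot47 (Lpr_gt (f29771 IH) (Lpr_af (K12.f30174 IH) (Lpe (f30200 IH) (Lpn (LP (LK LD1_c15 LD2_c7 LD3_c45))))))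
theorem f30206 : Led Lsl_dt (LP (LK LD1_c24 LD2_c54 LD3_c10)) = (LP (LK LD1_c15 LD2_c6 LD3_c5)) :=
  Lre_d IH (LK LD1_c24 LD2_c54 LD3_c10) (LK LD1_c15 LD2_c6 LD3_c5) Lrfl Lrfl
theorem f36709 : Led Lsl_et (LP (LK LD1_c12 LD2_c6 LD3_c8)) = (LP (LK LD1_c6 LD2_c13 LD3_c41)) :=
  Lre_e IH (LK LD1_c12 LD2_c6 LD3_c8) (LK LD1_c6 LD2_c13 LD3_c41) Lrfl Lrfl
theorem f227859 : Led Lsl_et (LP (LK LD1_c6 LD2_c15 LD3_c12)) = (LP (LK LD1_c12 LD2_c8 LD3_c39)) :=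
  Lre_e IH (LK LD1_c6 LD2_c15 LD3_c12) (LK LD1_c12 LD2_c8 LD3_c39) Lrfl Lrfl
theorem f227860 : Led Lsl_gt (LP (LK LD1_c12 LD2_c8 LD3_c39)) = (LP (LK LD1_c21 LD2_c14 LD3_c58)) :=
  Lre_g IH (LK LD1_c12 LD2_c8 LD3_c39) (LK LD1_c21 LD2_c14 LD3_c58) Lrfl Lrfl
theorem f227861 : Led Lsl_et (LP (LK LD1_c24 LD2_c54 LD3_c10)) = (LP (LK LD1_c21 LD2_c14 LD3_c58)) :=
  Lgr Lrot122 (Lpr_dt (f30206 IH) (Lpr_gt (f29771 IH) (Lpe (K1.f36695 IH) (Lpr_et (f36709 IH) (Lpr_gt (K12.f36779 IH) (Lpe (K12.f227856 IH) (Lpr_gt (K12.f227849 IH) (Lpe (K13.f197982 IH) (Lpr_et (f227859 IH) (Lpr_gt (f227860 IH) (Lpn (LP (LK LD1_c21 LD2_c14 LD3_c58)))))))))))))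
theorem f6069 : Led Lsl_et (LP (LK LD1_c22 LD2_c55 LD3_c33)) = (LP (LK LD1_c13 LD2_c33 LD3_c3)) :=
  Lre_e IH (LK LD1_c22 LD2_c55 LD3_c33) (LK LD1_c13 LD2_c33 LD3_c3) Lrfl Lrfl
theorem f560899 : Led Lsl_gt (LP (LK LD1_c21 LD2_c14 LD3_c58)) = (LP (LK LD1_c13 LD2_c33 LD3_c3)) :=
  Lgr Lrot131 (Lpe (f227861 IH) (Lpr_dt (f30206 IH) (Lpr_gf (f30201 IH) (Lpe (f30159 IH) (Lpe (f445756 IH) (Lpr_ef (f453113 IH) (Lpr_dt (f418501 IH) (Lpe (f453433 IH) (Lpr_df (f560891 IH) (Lpr_et (f6069 IH) (Lpn (LP (LK LD1_c13 LD2_c33 LD3_c3)))))))))))))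
theorem f36823 : Led Lsl_dt (LP (LK LD1_c6 LD2_c13 LD3_c35)) = (LP (LK LD1_c12 LD2_c5 LD3_c58)) :=
  Lre_d IH (LK LD1_c6 LD2_c13 LD3_c35) (LK LD1_c12 LD2_c5 LD3_c58) Lrfl Lrfl
theorem f70308 : Led Lsl_ct (LP (LK LD1_c12 LD2_c5 LD3_c58)) = (LP (LK LD1_c21 LD2_c11 LD3_c52)) :=
  Lre_c IH (LK LD1_c12 LD2_c5 LD3_c58) (LK LD1_c21 LD2_c11 LD3_c52) Lrfl Lrfl
theorem f445412 : Led Lsl_gt (LP (LK LD1_c12 LD2_c5 LD3_c60)) = (LP (LK LD1_c15 LD2_c8 LD3_c27)) :=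
  Lgr Lrot94 (Lpe (f445349 IH) (Lpr_gt (f16469 IH) (Lpe (K9.f38778 IH) (Lpr_gt (f38782 IH) (Lpr_dt (f407878 IH) (Lpe (f70308 IH) (Lpe (f36823 IH) (Lpr_gf (f445410 IH) (Lpe (K1.f29974 IH) (Lpn (LP (LK LD1_c15 LD2_c8 LD3_c27))))))))))))
theorem f198451 : Led Lsl_et (LP (LK LD1_c21 LD2_c11 LD3_c54)) = (LP (LK LD1_c12 LD2_c5 LD3_c60)) :=
  Lre_e IH (LK LD1_c21 LD2_c11 LD3_c54) (LK LD1_c12 LD2_c5 LD3_c60) Lrfl Lrfl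
theorem f239203 : Led Lsl_et (LP (LK LD1_c12 LD2_c8 LD3_c39)) = (LP (LK LD1_c6 LD2_c15 LD3_c12)) :=
  Lre_e IH (LK LD1_c12 LD2_c8 LD3_c39) (LK LD1_c6 LD2_c15 LD3_c12) Lrfl Lrfl
theorem f239204 : Led Lsl_dt (LP (LK LD1_c12 LD2_c8 LD3_c39)) = (LP (LK LD1_c6 LD2_c15 LD3_c11)) :=
  Lre_d IH (LK LD1_c12 LD2_c8 LD3_c39) (LK LD1_c6 LD2_c15 LD3_c11) Lrfl Lrfl
theorem f239197 : Led Lsl_gt (LP (LK LD1_c12 LD2_c8 LD3_c38)) = (LP (LK LD1_c6 LD2_c15 LD3_c11)) :=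
  Lre_g IH (LK LD1_c12 LD2_c8 LD3_c38) (LK LD1_c6 LD2_c15 LD3_c11) Lrfl Lrfl
theorem f418449 : Led Lsl_dt (LP (LK LD1_c21 LD2_c11 LD3_c54)) = (LP (LK LD1_c12 LD2_c8 LD3_c38)) :=
  Lgr Lrot136 (Lpr_et (f198451 IH) (Lpe (f37355 IH) (Lpe (K38.f59767 IH) (Lpr_dt (K1.f36888 IH) (Lpr_gf (K13.f198438 IH) (Lpe (K13.f101302 IH) (Lpr_gf (K13.f227851 IH) (Lpe (f239203 IH) (Lpr_dt (f239204 IH) (Lpe (f239197 IH) (Lpn (LP (LK LD1_c12 LD2_c8 LD3_c38)))))))))))))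
theorem f6059 : Led Lsl_dt (LP (LK LD1_c13 LD2_c33 LD3_c3)) = (LP (LK LD1_c7 LD2_c9 LD3_c16)) :=
  Lre_d IH (LK LD1_c13 LD2_c33 LD3_c3) (LK LD1_c7 LD2_c9 LD3_c16) Lrfl Lrfl
theorem f560901 : Led Lsl_gf (LP (LK LD1_c12 LD2_c8 LD3_c38)) = (LP (LK LD1_c7 LD2_c9 LD3_c16)) :=
  Lgr Lrot134 (Lpe (f418449 IH) (Lpr_et (f198451 IH) (Lpr_gt (f445412 IH) (Lpe (K1.f30733 IH) (Lpr_dt (f30159 IH) (Lpe (f30201 IH) (Lpe (f30206 IH) (Lpr_et (f227861 IH) (Lpr_gt (f560899 IH) (Lpr_dt (f6059 IH) (Lpn (LP (LK LD1_c7 LD2_c9 LD3_c16)))))))))))))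
theorem f528271 : Led Lsl_ft (LP (LK LD1_c7 LD2_c52 LD3_c37)) = (LP (LK LD1_c13 LD2_c42 LD3_c36)) :=
  Lgr Lrot48 (Lpr_ff (f528267 IH) (Lpn (LP (LK LD1_c13 LD2_c42 LD3_c36))))
theorem f528273 : Led Lsl_gt (LP (LK LD1_c7 LD2_c52 LD3_c37)) = (LP (LK LD1_c13 LD2_c33 LD3_c2)) :=
  Lgr Lrot5 (Lpr_ft (f528271 IH) (Lpr_at (K37.f6032 IH) (Lpr_gf (f6030 IH) (Lpn (LP (LK LD1_c13 LD2_c33 LD3_c2))))))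
theorem f529038 : Led Lsl_bt (LP (LK LD1_c14 LD2_c2 LD3_c53)) = (LP (LK LD1_c7 LD2_c52 LD3_c37)) :=
  Lgr Lrot35 (Lpr_ff (K37.f529000 IH) (Lpr_bf (K37.f529034 IH) (Lpe (f528271 IH) (Lpn (LP (LK LD1_c7 LD2_c52 LD3_c37))))))
theorem f515554 : Led Lsl_bf (LP (LK LD1_c14 LD2_c24 LD3_c39)) = (LP (LK LD1_c7 LD2_c50 LD3_c22)) :=
  Lgr Lrot61 (Lpr_ft (K33.f515550 IH) (Lpe (K33.f515051 IH) (Lpe (K33.f515455 IH) (Lpn (LP (LK LD1_c7 LD2_c50 LD3_c22))))))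
theorem f560905 : Led Lsl_cf (LP (LK LD1_c12 LD2_c8 LD3_c38)) = (LP (LK LD1_c7 LD2_c50 LD3_c22)) :=
  Lgr Lrot163 (Lpr_gf (f560901 IH) (Lpe (f6036 IH) (Lpe (f528273 IH) (Lpe (f529038 IH) (Lpr_ct (K37.f487385 IH) (Lpr_gf (K37.f487372 IH) (Lpr_cf (K8.f144957 IH) (Lpr_bt (K33.f144994 IH) (Lpe (K33.f515561 IH) (Lpr_bf (f515554 IH) (Lpn (LP (LK LD1_c7 LD2_c50 LD3_c22)))))))))))))
theorem f418451 : Led Lsl_df (LP (LK LD1_c21 LD2_c11 LD3_c54)) = (LP (LK LD1_c12 LD2_c8 LD3_c38)) :=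
  Lgr Lrot38 (Lpr_dt (f418449 IH) (Lpn (LP (LK LD1_c12 LD2_c8 LD3_c38))))
theorem f16480 : Led Lsl_et (LP (LK LD1_c26 LD2_c30 LD3_c37)) = (LP (LK LD1_c16 LD2_c33 LD3_c49)) :=
  Lre_e IH (LK LD1_c26 LD2_c30 LD3_c37) (LK LD1_c16 LD2_c33 LD3_c49) Lrfl Lrfl
theorem f418453 : Led Lsl_et (LP (LK LD1_c12 LD2_c5 LD3_c60)) = (LP (LK LD1_c21 LD2_c11 LD3_c54)) :=
  Lre_e IH (LK LD1_c12 LD2_c5 LD3_c60) (LK LD1_c21 LD2_c11 LD3_c54) Lrfl Lrfl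
theorem f445355 : Led Lsl_cf (LP (LK LD1_c26 LD2_c30 LD3_c37)) = (LP (LK LD1_c21 LD2_c11 LD3_c54)) :=
  Lgr Lrot39 (Lpr_et (f16480 IH) (Lpr_ct (f445349 IH) (Lpr_et (f418453 IH) (Lpn (LP (LK LD1_c21 LD2_c11 LD3_c54))))))
theorem f16481 : Led Lsl_dt (LP (LK LD1_c26 LD2_c30 LD3_c37)) = (LP (LK LD1_c32 LD2_c9 LD3_c59)) :=
  Lre_d IH (LK LD1_c26 LD2_c30 LD3_c37) (LK LD1_c32 LD2_c9 LD3_c59) Lrfl Lrfl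
theorem f515461 : Led Lsl_at (LP (LK LD1_c7 LD2_c50 LD3_c23)) = (LP (LK LD1_c14 LD2_c47 LD3_c18)) :=
  Lre_a IH (LK LD1_c7 LD2_c50 LD3_c23) (LK LD1_c14 LD2_c47 LD3_c18) Lrfl Lrfl
theorem f515120 : Led Lsl_at (LP (LK LD1_c22 LD2_c55 LD3_c16)) = (LP (LK LD1_c13 LD2_c32 LD3_c55)) :=
  Lre_a IH (LK LD1_c22 LD2_c55 LD3_c16) (LK LD1_c13 LD2_c32 LD3_c55) Lrfl Lrfl
theorem f515462 : Led Lsl_ft (LP (LK LD1_c14 LD2_c47 LD3_c18)) = (LP (LK LD1_c22 LD2_c55 LD3_c16)) :=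
  Lgr Lrot101 (Lpe (f515461 IH) (Lpr_ff (K34.f515457 IH) (Lpe (f515120 IH) (Lpn (LP (LK LD1_c22 LD2_c55 LD3_c16))))))
theorem f489742 : Led Lsl_ct (LP (LK LD1_c22 LD2_c55 LD3_c19)) = (LP (LK LD1_c13 LD2_c32 LD3_c55)) :=
  Lre_c IH (LK LD1_c22 LD2_c55 LD3_c19) (LK LD1_c13 LD2_c32 LD3_c55) Lrfl Lrfl
theorem f489743 : Led Lsl_dt (LP (LK LD1_c30 LD2_c47 LD3_c59)) = (LP (LK LD1_c22 LD2_c55 LD3_c19)) :=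
  Lre_d IH (LK LD1_c30 LD2_c47 LD3_c59) (LK LD1_c22 LD2_c55 LD3_c19) Lrfl Lrfl
theorem f560913 : Led Lsl_ct (LP (LK LD1_c32 LD2_c9 LD3_c59)) = (LP (LK LD1_c30 LD2_c47 LD3_c59)) :=
  Lgr Lrot53 (Lpe (f16481 IH) (Lpr_cf (f445355 IH) (Lpr_df (f418451 IH) (Lpr_cf (f560905 IH) (Lpe (K34.f515475 IH) (Lpr_ft (f515462 IH) (Lpr_at (f515120 IH) (Lpe (f489742 IH) (Lpe (f489743 IH) (Lpn (LP (LK LD1_c30 LD2_c47 LD3_c59))))))))))))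
theorem f482522 : Led Lsl_dt (LP (LK LD1_c13 LD2_c32 LD3_c55)) = (LP (LK LD1_c7 LD2_c9 LD3_c9)) :=
  Lre_d IH (LK LD1_c13 LD2_c32 LD3_c55) (LK LD1_c7 LD2_c9 LD3_c9) Lrfl Lrfl
theorem f6046 : Led Lsl_dt (LP (LK LD1_c3 LD2_c34 LD3_c5)) = (LP (LK LD1_c7 LD2_c9 LD3_c18)) :=
  Lre_d IH (LK LD1_c3 LD2_c34 LD3_c5) (LK LD1_c7 LD2_c9 LD3_c18) Lrfl Lrfl
theorem f515449 : Led Lsl_ct (LP (LK LD1_c7 LD2_c9 LD3_c18)) = (LP (LK LD1_c13 LD2_c33 LD3_c8)) :=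
  Lre_c IH (LK LD1_c7 LD2_c9 LD3_c18) (LK LD1_c13 LD2_c33 LD3_c8) Lrfl Lrfl
theorem f519172 : Led Lsl_at (LP (LK LD1_c22 LD2_c55 LD3_c34)) = (LP (LK LD1_c13 LD2_c33 LD3_c8)) :=
  Lre_a IH (LK LD1_c22 LD2_c55 LD3_c34) (LK LD1_c13 LD2_c33 LD3_c8) Lrfl Lrfl
theorem f560923 : Led Lsl_ft (LP (LK LD1_c26 LD2_c30 LD3_c37)) = (LP (LK LD1_c22 LD2_c55 LD3_c34)) :=
  Lgr Lrot142 (Lpr_dt (f16481 IH) (Lpr_ct (f560913 IH) (Lpr_dt (f489743 IH) (Lpr_ct (f489742 IH) (Lpr_dt (f482522 IH) (Lpr_ct (f456005 IH) (Lpr_dt (f6046 IH) (Lpr_ct (f515449 IH) (Lpe (f519172 IH) (Lpn (LP (LK LD1_c22 LD2_c55 LD3_c34))))))))))))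
theorem f515405 : Led Lsl_bt (LP (LK LD1_c22 LD2_c48 LD3_c32)) = (LP (LK LD1_c30 LD2_c43 LD3_c45)) :=
  Lre_b IH (LK LD1_c22 LD2_c48 LD3_c32) (LK LD1_c30 LD2_c43 LD3_c45) Lrfl Lrfl
theorem f515406 : Led Lsl_bt (LP (LK LD1_c22 LD2_c55 LD3_c42)) = (LP (LK LD1_c13 LD2_c33 LD3_c8)) :=
  Lre_b IH (LK LD1_c22 LD2_c55 LD3_c42) (LK LD1_c13 LD2_c33 LD3_c8) Lrfl Lrfl
theorem f515407 : Led Lsl_ff (LP (LK LD1_c22 LD2_c48 LD3_c32)) = (LP (LK LD1_c13 LD2_c33 LD3_c8)) :=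
  Lgr Lrot25 (Lpr_bt (f515405 IH) (Lpr_ft (K33.f515400 IH) (Lpr_bt (f515406 IH) (Lpn (LP (LK LD1_c13 LD2_c33 LD3_c8))))))
theorem f560925 : Led Lsl_af (LP (LK LD1_c26 LD2_c30 LD3_c37)) = (LP (LK LD1_c22 LD2_c48 LD3_c32)) :=
  Lgr Lrot45 (Lpr_ft (f560923 IH) (Lpr_at (f519172 IH) (Lpe (f515407 IH) (Lpn (LP (LK LD1_c22 LD2_c48 LD3_c32))))))
theorem f519174 : Led Lsl_gt (LP (LK LD1_c13 LD2_c33 LD3_c8)) = (LP (LK LD1_c22 LD2_c55 LD3_c40)) :=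
  Lre_g IH (LK LD1_c13 LD2_c33 LD3_c8) (LK LD1_c22 LD2_c55 LD3_c40) Lrfl Lrfl
theorem f560997 : Led Lsl_gf (LP (LK LD1_c26 LD2_c30 LD3_c37)) = (LP (LK LD1_c22 LD2_c55 LD3_c40)) :=
  Lgr Lrot76 (Lpr_af (f560925 IH) (Lpr_ff (f515407 IH) (Lpr_gt (f519174 IH) (Lpn (LP (LK LD1_c22 LD2_c55 LD3_c40))))))
theorem f445359 : Led Lsl_ct (LP (LK LD1_c26 LD2_c30 LD3_c37)) = (LP (LK LD1_c21 LD2_c11 LD3_c54)) :=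
  Lgr Lrot59 (Lpr_cf (f445355 IH) (Lpn (LP (LK LD1_c21 LD2_c11 LD3_c54))))
theorem f543116 : Led Lsl_ct (LP (LK LD1_c12 LD2_c8 LD3_c25)) = (LP (LK LD1_c13 LD2_c32 LD3_c53)) :=
  Lgr Lrot59 (Lpr_cf (K37.f543110 IH) (Lpn (LP (LK LD1_c13 LD2_c32 LD3_c53))))
theorem f456632 : Led Lsl_dt (LP (LK LD1_c7 LD2_c13 LD3_c0)) = (LP (LK LD1_c13 LD2_c39 LD3_c37)) :=
  Lre_d IH (LK LD1_c7 LD2_c13 LD3_c0) (LK LD1_c13 LD2_c39 LD3_c37) Lrfl Lrfl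
theorem f561000 : Led Lsl_ct (LP (LK LD1_c23 LD2_c4 LD3_c54)) = (LP (LK LD1_c22 LD2_c55 LD3_c40)) :=
  Lgr Lrot152 (Lpe (K39.f488808 IH) (Lpe (f456632 IH) (Lpe (f543106 IH) (Lpr_ct (f543116 IH) (Lpr_gt (K34.f515818 IH) (Lpe (f560905 IH) (Lpe (f418449 IH) (Lpe (f445359 IH) (Lpr_gf (f560997 IH) (Lpn (LP (LK LD1_c22 LD2_c55 LD3_c40))))))))))))
theorem f155682 : Led Lsl_dt (LP (LK LD1_c7 LD2_c8 LD3_c2)) = (LP (LK LD1_c13 LD2_c30 LD3_c49)) :=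
  Lre_d IH (LK LD1_c7 LD2_c8 LD3_c2) (LK LD1_c13 LD2_c30 LD3_c49) Lrfl Lrfl
theorem f155678 : Led Lsl_ct (LP (LK LD1_c22 LD2_c51 LD3_c47)) = (LP (LK LD1_c13 LD2_c30 LD3_c49)) :=
  Lre_c IH (LK LD1_c22 LD2_c51 LD3_c47) (LK LD1_c13 LD2_c30 LD3_c49) Lrfl Lrfl
theorem f155679 : Led Lsl_dt (LP (LK LD1_c30 LD2_c45 LD3_c52)) = (LP (LK LD1_c22 LD2_c51 LD3_c47)) :=
  Lre_d IH (LK LD1_c30 LD2_c45 LD3_c52) (LK LD1_c22 LD2_c51 LD3_c47) Lrfl Lrfl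
theorem f561008 : Led Lsl_gf (LP (LK LD1_c30 LD2_c45 LD3_c52)) = (LP (LK LD1_c32 LD2_c9 LD3_c59)) :=
  Lgr Lrot154 (Lpr_dt (f155679 IH) (Lpr_ct (f155678 IH) (Lpe (f155682 IH) (Lpr_gf (K37.f529040 IH) (Lpe (K37.f528258 IH) (Lpr_gf (K39.f528424 IH) (Lpr_ct (f561000 IH) (Lpe (f560997 IH) (Lpr_dt (f16481 IH) (Lpn (LP (LK LD1_c32 LD2_c9 LD3_c59))))))))))))
theorem f155684 : Led Lsl_dt (LP (LK LD1_c22 LD2_c51 LD3_c47)) = (LP (LK LD1_c30 LD2_c45 LD3_c52)) :=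
  Lre_d IH (LK LD1_c22 LD2_c51 LD3_c47) (LK LD1_c30 LD2_c45 LD3_c52) Lrfl Lrfl
theorem f16570 : Led Lsl_et (LP (LK LD1_c4 LD2_c26 LD3_c61)) = (LP (LK LD1_c8 LD2_c51 LD3_c35)) :=
  Lre_e IH (LK LD1_c4 LD2_c26 LD3_c61) (LK LD1_c8 LD2_c51 LD3_c35) Lrfl Lrfl
theorem f561012 : Led Lsl_et (LP (LK LD1_c22 LD2_c51 LD3_c47)) = (LP (LK LD1_c16 LD2_c33 LD3_c53)) :=
  Lgr Lrot121 (Lpr_dt (f155684 IH) (Lpr_gf (f561008 IH) (Lpe (f16481 IH) (Lpr_et (f16480 IH) (Lpe (f16468 IH) (Lpe (f16570 IH) (Lpr_dt (K9.f42994 IH) (Lpr_gf (K13.f43024 IH) (Lpr_df (K13.f241485 IH) (Lpr_gf (K13.f101407 IH) (Lpn (LP (LK LD1_c16 LD2_c33 LD3_c53)))))))))))))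
theorem f241502 : Led Lsl_et (LP (LK LD1_c12 LD2_c8 LD3_c26)) = (LP (LK LD1_c21 LD2_c14 LD3_c42)) :=
  Lre_e IH (LK LD1_c12 LD2_c8 LD3_c26) (LK LD1_c21 LD2_c14 LD3_c42) Lrfl Lrfl
theorem f561014 : Led Lsl_af (LP (LK LD1_c22 LD2_c51 LD3_c47)) = (LP (LK LD1_c21 LD2_c14 LD3_c42)) :=
  Lgr Lrot50 (Lpr_et (f561012 IH) (Lpr_at (K36.f449628 IH) (Lpr_et (f241502 IH) (Lpn (LP (LK LD1_c21 LD2_c14 LD3_c42))))))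
theorem f561022 : Led Lsl_ct (LP (LK LD1_c12 LD2_c8 LD3_c24)) = (LP (LK LD1_c21 LD2_c14 LD3_c42)) :=
  Lre_c IH (LK LD1_c12 LD2_c8 LD3_c24) (LK LD1_c21 LD2_c14 LD3_c42) Lrfl Lrfl
theorem f561023 : Led Lsl_at (LP (LK LD1_c13 LD2_c30 LD3_c49)) = (LP (LK LD1_c12 LD2_c8 LD3_c24)) :=
  Lgr Lrot107 (Lpe (f155678 IH) (Lpr_af (f561014 IH) (Lpe (f561022 IH) (Lpn (LP (LK LD1_c12 LD2_c8 LD3_c24))))))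
theorem f561028 : Led Lsl_af (LP (LK LD1_c13 LD2_c42 LD3_c35)) = (LP (LK LD1_c21 LD2_c14 LD3_c43)) :=
  Lgr Lrot45 (Lpr_ft (K37.f489271 IH) (Lpr_at (f561023 IH) (Lpr_ft (K37.f449638 IH) (Lpn (LP (LK LD1_c21 LD2_c14 LD3_c43))))))
theorem f418105 : Led Lsl_gt (LP (LK LD1_c12 LD2_c8 LD3_c24)) = (LP (LK LD1_c21 LD2_c14 LD3_c41)) :=
  Lre_g IH (LK LD1_c12 LD2_c8 LD3_c24) (LK LD1_c21 LD2_c14 LD3_c41) Lrfl Lrfl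
theorem f561034 : Led Lsl_gf (LP (LK LD1_c13 LD2_c42 LD3_c35)) = (LP (LK LD1_c21 LD2_c14 LD3_c41)) :=
  Lgr Lrot76 (Lpr_af (f561028 IH) (Lpe (K37.f449638 IH) (Lpr_gt (f418105 IH) (Lpn (LP (LK LD1_c21 LD2_c14 LD3_c41))))))
theorem f6045 : Led Lsl_dt (LP (LK LD1_c7 LD2_c14 LD3_c49)) = (LP (LK LD1_c3 LD2_c37 LD3_c10)) :=
  Lre_d IH (LK LD1_c7 LD2_c14 LD3_c49) (LK LD1_c3 LD2_c37 LD3_c10) Lrfl Lrfl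
theorem f100983 : Led Lsl_dt (LP (LK LD1_c12 LD2_c5 LD3_c19)) = (LP (LK LD1_c7 LD2_c56 LD3_c39)) :=
  Lgr Lrot42 (Lpr_df (K9.f100976 IH) (Lpn (LP (LK LD1_c7 LD2_c56 LD3_c39))))
theorem f39838 : Led Lsl_gt (LP (LK LD1_c14 LD2_c59 LD3_c24)) = (LP (LK LD1_c7 LD2_c56 LD3_c39)) :=
  Lre_g IH (LK LD1_c14 LD2_c59 LD3_c24) (LK LD1_c7 LD2_c56 LD3_c39) Lrfl Lrfl
theorem f100989 : Led Lsl_dt (LP (LK LD1_c24 LD2_c46 LD3_c57)) = (LP (LK LD1_c14 LD2_c59 LD3_c24)) :=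
  Lre_d IH (LK LD1_c24 LD2_c46 LD3_c57) (LK LD1_c14 LD2_c59 LD3_c24) Lrfl Lrfl
theorem f418106 : Led Lsl_ef (LP (LK LD1_c21 LD2_c14 LD3_c41)) = (LP (LK LD1_c24 LD2_c46 LD3_c57)) :=
  Lgr Lrot17 (Lpe (f418105 IH) (Lpe (K37.f410890 IH) (Lpr_dt (K13.f241497 IH) (Lpr_gf (K13.f241259 IH) (Lpe (K13.f197920 IH) (Lpe (K12.f101061 IH) (Lpe (K9.f100975 IH) (Lpr_dt (f100983 IH) (Lpe (f39838 IH) (Lpe (f100989 IH) (Lpn (LP (LK LD1_c24 LD2_c46 LD3_c57)))))))))))))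
theorem f444824 : Led Lsl_gf (LP (LK LD1_c14 LD2_c59 LD3_c24)) = (LP (LK LD1_c8 LD2_c45 LD3_c19)) :=
  Lgr Lrot47 (Lpr_gt (f39838 IH) (Lpr_af (K9.f38897 IH) (Lpe (K9.f39825 IH) (Lpn (LP (LK LD1_c8 LD2_c45 LD3_c19))))))
theorem f16364 : Led Lsl_et (LP (LK LD1_c16 LD2_c23 LD3_c23)) = (LP (LK LD1_c8 LD2_c51 LD3_c26)) :=
  Lre_e IH (LK LD1_c16 LD2_c23 LD3_c23) (LK LD1_c8 LD2_c51 LD3_c26) Lrfl Lrfl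
theorem f561036 : Led Lsl_et (LP (LK LD1_c7 LD2_c14 LD3_c49)) = (LP (LK LD1_c8 LD2_c50 LD3_c57)) :=
  Lgr Lrot185 (Lpr_dt (f6045 IH) (Lpe (K33.f487840 IH) (Lpe (K37.f489264 IH) (Lpr_gf (f561034 IH) (Lpr_ef (f418106 IH) (Lpr_dt (f100989 IH) (Lpr_gf (f444824 IH) (Lpe (K37.f16365 IH) (Lpr_et (f16364 IH) (Lpr_gf (K37.f16354 IH) (Lpn (LP (LK LD1_c8 LD2_c50 LD3_c57)))))))))))))
theorem f561046 : Led Lsl_ef (LP (LK LD1_c7 LD2_c14 LD3_c49)) = (LP (LK LD1_c8 LD2_c50 LD3_c57)) :=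
  Lgr Lrot88 (Lpr_et (f561036 IH) (Lpn (LP (LK LD1_c8 LD2_c50 LD3_c57))))
theorem f487914 : Led Lsl_dt (LP (LK LD1_c7 LD2_c14 LD3_c50)) = (LP (LK LD1_c13 LD2_c42 LD3_c42)) :=
  Lre_d IH (LK LD1_c7 LD2_c14 LD3_c50) (LK LD1_c13 LD2_c42 LD3_c42) Lrfl Lrfl
theorem f561060 : Led Lsl_et (LP (LK LD1_c13 LD2_c42 LD3_c42)) = (LP (LK LD1_c16 LD2_c32 LD3_c27)) :=
  Lgr Lrot71 (Lpe (f487914 IH) (Lpe (K33.f487873 IH) (Lpe (f6045 IH) (Lpr_ef (f561046 IH) (Lpe (K37.f16357 IH) (Lpn (LP (LK LD1_c16 LD2_c32 LD3_c27))))))))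
theorem f35361 : Led Lsl_et (LP (LK LD1_c4 LD2_c24 LD3_c38)) = (LP (LK LD1_c8 LD2_c46 LD3_c51)) :=
  Lre_e IH (LK LD1_c4 LD2_c24 LD3_c38) (LK LD1_c8 LD2_c46 LD3_c51) Lrfl Lrfl
theorem f35362 : Led Lsl_gt (LP (LK LD1_c16 LD2_c25 LD3_c43)) = (LP (LK LD1_c8 LD2_c46 LD3_c51)) :=
  Lre_g IH (LK LD1_c16 LD2_c25 LD3_c43) (LK LD1_c8 LD2_c46 LD3_c51) Lrfl Lrfl
theorem f35363 : Led Lsl_ef (LP (LK LD1_c16 LD2_c25 LD3_c43)) = (LP (LK LD1_c15 LD2_c5 LD3_c60)) :=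
  Lgr Lrot114 (Lpr_gt (f35362 IH) (Lpe (f35361 IH) (Lpr_dt (K37.f35309 IH) (Lpr_gt (K37.f35349 IH) (Lpe (K37.f30117 IH) (Lpr_et (K37.f30116 IH) (Lpr_gt (K37.f30104 IH) (Lpr_dt (K37.f30097 IH) (Lpr_gt (K37.f29969 IH) (Lpe (f29972 IH) (Lpn (LP (LK LD1_c15 LD2_c5 LD3_c60)))))))))))))
theorem f561077 : Led Lsl_cf (LP (LK LD1_c13 LD2_c42 LD3_c42)) = (LP (LK LD1_c16 LD2_c25 LD3_c43)) :=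
  Lgr Lrot39 (Lpr_et (f561060 IH) (Lpr_ct (K37.f70639 IH) (Lpe (f35363 IH) (Lpn (LP (LK LD1_c16 LD2_c25 LD3_c43))))))
theorem f561079 : Led Lsl_ct (LP (LK LD1_c13 LD2_c42 LD3_c42)) = (LP (LK LD1_c16 LD2_c25 LD3_c43)) :=
  Lgr Lrot59 (Lpr_cf (f561077 IH) (Lpn (LP (LK LD1_c16 LD2_c25 LD3_c43))))
theorem f543643 : Led Lsl_dt (LP (LK LD1_c21 LD2_c14 LD3_c29)) = (LP (LK LD1_c29 LD2_c55 LD3_c17)) :=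
  Lre_d IH (LK LD1_c21 LD2_c14 LD3_c29) (LK LD1_c29 LD2_c55 LD3_c17) Lrfl Lrfl
theorem f543645 : Led Lsl_ct (LP (LK LD1_c32 LD2_c48 LD3_c45)) = (LP (LK LD1_c29 LD2_c55 LD3_c17)) :=
  Lre_c IH (LK LD1_c32 LD2_c48 LD3_c45) (LK LD1_c29 LD2_c55 LD3_c17) Lrfl Lrfl
theorem f458964 : Led Lsl_gt (LP (LK LD1_c13 LD2_c25 LD3_c24)) = (LP (LK LD1_c22 LD2_c44 LD3_c16)) :=
  Lre_g IH (LK LD1_c13 LD2_c25 LD3_c24) (LK LD1_c22 LD2_c44 LD3_c16) Lrfl Lrfl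
theorem f459246 : Led Lsl_ct (LP (LK LD1_c22 LD2_c44 LD3_c16)) = (LP (LK LD1_c30 LD2_c41 LD3_c25)) :=
  Lre_c IH (LK LD1_c22 LD2_c44 LD3_c16) (LK LD1_c30 LD2_c41 LD3_c25) Lrfl Lrfl
theorem f543654 : Led Lsl_gf (LP (LK LD1_c32 LD2_c48 LD3_c45)) = (LP (LK LD1_c30 LD2_c41 LD3_c25)) :=
  Lgr Lrot104 (Lpr_ct (f543645 IH) (Lpe (f543643 IH) (Lpr_cf (K39.f543648 IH) (Lpr_gf (K39.f534078 IH) (Lpe (K35.f436385 IH) (Lpr_gf (K34.f533011 IH) (Lpe (K34.f459153 IH) (Lpr_gt (f458964 IH) (Lpr_ct (f459246 IH) (Lpn (LP (LK LD1_c30 LD2_c41 LD3_c25))))))))))))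
theorem f543644 : Led Lsl_ct (LP (LK LD1_c29 LD2_c55 LD3_c17)) = (LP (LK LD1_c32 LD2_c48 LD3_c45)) :=
  Lre_c IH (LK LD1_c29 LD2_c55 LD3_c17) (LK LD1_c32 LD2_c48 LD3_c45) Lrfl Lrfl
theorem f543677 : Led Lsl_bt (LP (LK LD1_c29 LD2_c55 LD3_c17)) = (LP (LK LD1_c21 LD2_c14 LD3_c30)) :=
  Lre_b IH (LK LD1_c29 LD2_c55 LD3_c17) (LK LD1_c21 LD2_c14 LD3_c30) Lrfl Lrfl
theorem f480018 : Led Lsl_ct (LP (LK LD1_c7 LD2_c54 LD3_c38)) = (LP (LK LD1_c13 LD2_c25 LD3_c0)) :=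
  Lgr Lrot8 (Lpr_gt (K33.f479992 IH) (Lpr_dt (K33.f459482 IH) (Lpr_gt (K28.f159497 IH) (Lpr_dt (K28.f116548 IH) (Lpe (K28.f122353 IH) (Lpr_df (K28.f462423 IH) (Lpe (K28.f470051 IH) (Lpe (K28.f458958 IH) (Lpr_gf (K33.f459241 IH) (Lpn (LP (LK LD1_c13 LD2_c25 LD3_c0))))))))))))
theorem f480029 : Led Lsl_bt (LP (LK LD1_c7 LD2_c54 LD3_c38)) = (LP (LK LD1_c14 LD2_c55 LD3_c17)) :=
  Lre_b IH (LK LD1_c7 LD2_c54 LD3_c38) (LK LD1_c14 LD2_c55 LD3_c17) Lrfl Lrfl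
theorem f543678 : Led Lsl_gt (LP (LK LD1_c21 LD2_c14 LD3_c30)) = (LP (LK LD1_c14 LD2_c55 LD3_c17)) :=
  Lgr Lrot164 (Lpe (f543677 IH) (Lpr_ct (f543644 IH) (Lpr_gf (f543654 IH) (Lpe (f459246 IH) (Lpe (f458964 IH) (Lpe (K34.f458963 IH) (Lpr_ct (K28.f458962 IH) (Lpr_gf (K33.f459241 IH) (Lpe (f480018 IH) (Lpr_bt (f480029 IH) (Lpn (LP (LK LD1_c14 LD2_c55 LD3_c17)))))))))))))
theorem f543681 : Led Lsl_dt (LP (LK LD1_c12 LD2_c8 LD3_c14)) = (LP (LK LD1_c21 LD2_c14 LD3_c30)) :=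
  Lre_d IH (LK LD1_c12 LD2_c8 LD3_c14) (LK LD1_c21 LD2_c14 LD3_c30) Lrfl Lrfl
theorem f80497 : Led Lsl_dt (LP (LK LD1_c6 LD2_c14 LD3_c55)) = (LP (LK LD1_c12 LD2_c8 LD3_c9)) :=
  Lre_d IH (LK LD1_c6 LD2_c14 LD3_c55) (LK LD1_c12 LD2_c8 LD3_c9) Lrfl Lrfl
theorem f487877 : Led Lsl_dt (LP (LK LD1_c14 LD2_c55 LD3_c17)) = (LP (LK LD1_c7 LD2_c54 LD3_c37)) :=
  Lre_d IH (LK LD1_c14 LD2_c55 LD3_c17) (LK LD1_c7 LD2_c54 LD3_c37) Lrfl Lrfl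
theorem f487872 : Led Lsl_dt (LP (LK LD1_c13 LD2_c42 LD3_c42)) = (LP (LK LD1_c7 LD2_c14 LD3_c50)) :=
  Lre_d IH (LK LD1_c13 LD2_c42 LD3_c42) (LK LD1_c7 LD2_c14 LD3_c50) Lrfl Lrfl
theorem f543682 : Led Lsl_gt (LP (LK LD1_c12 LD2_c8 LD3_c9)) = (LP (LK LD1_c13 LD2_c42 LD3_c42)) :=
  Lgr Lrot49 (Lpe (f80497 IH) (Lpe (K37.f38043 IH) (Lpe (K37.f75770 IH) (Lpr_gt (K37.f70728 IH) (Lpr_dt (f543681 IH) (Lpr_gt (f543678 IH) (Lpr_dt (f487877 IH) (Lpr_cf (K33.f487867 IH) (Lpe (f487872 IH) (Lpn (LP (LK LD1_c13 LD2_c42 LD3_c42))))))))))))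
theorem f38044 : Led Lsl_dt (LP (LK LD1_c12 LD2_c8 LD3_c9)) = (LP (LK LD1_c6 LD2_c14 LD3_c55)) :=
  Lre_d IH (LK LD1_c12 LD2_c8 LD3_c9) (LK LD1_c6 LD2_c14 LD3_c55) Lrfl Lrfl
theorem f70196 : Led Lsl_gt (LP (LK LD1_c3 LD2_c57 LD3_c40)) = (LP (LK LD1_c7 LD2_c56 LD3_c45)) :=
  Lre_g IH (LK LD1_c3 LD2_c57 LD3_c40) (LK LD1_c7 LD2_c56 LD3_c45) Lrfl Lrfl
theorem f210839 : Led Lsl_gf (LP (LK LD1_c4 LD2_c24 LD3_c7)) = (LP (LK LD1_c7 LD2_c56 LD3_c45)) :=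
  Lgr Lrot76 (Lpr_af (K37.f210824 IH) (Lpe (K37.f210823 IH) (Lpr_gt (f70196 IH) (Lpn (LP (LK LD1_c7 LD2_c56 LD3_c45))))))
theorem f70197 : Led Lsl_et (LP (LK LD1_c14 LD2_c59 LD3_c30)) = (LP (LK LD1_c7 LD2_c56 LD3_c45)) :=
  Lre_e IH (LK LD1_c14 LD2_c59 LD3_c30) (LK LD1_c7 LD2_c56 LD3_c45) Lrfl Lrfl
theorem f34810 : Led Lsl_gt (LP (LK LD1_c8 LD2_c38 LD3_c28)) = (LP (LK LD1_c4 LD2_c20 LD3_c17)) :=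
  Lre_g IH (LK LD1_c8 LD2_c38 LD3_c28) (LK LD1_c4 LD2_c20 LD3_c17) Lrfl Lrfl
theorem f70195 : Led Lsl_et (LP (LK LD1_c1 LD2_c55 LD3_c35)) = (LP (LK LD1_c3 LD2_c57 LD3_c40)) :=
  Lre_e IH (LK LD1_c1 LD2_c55 LD3_c35) (LK LD1_c3 LD2_c57 LD3_c40) Lrfl Lrfl
theorem f70198 : Led Lsl_df (LP (LK LD1_c8 LD2_c38 LD3_c28)) = (LP (LK LD1_c14 LD2_c59 LD3_c30)) :=
  Lgr Lrot170 (Lpr_gt (f34810 IH) (Lpe (K1.f34785 IH) (Lpr_et (K1.f34809 IH) (Lpe (K2.f70192 IH) (Lpr_dt (K2.f59694 IH) (Lpr_gt (K2.f70190 IH) (Lpe (K1.f37906 IH) (Lpr_et (f70195 IH) (Lpr_gt (f70196 IH) (Lpe (f70197 IH) (Lpn (LP (LK LD1_c14 LD2_c59 LD3_c30)))))))))))))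
theorem f35351 : Led Lsl_et (LP (LK LD1_c8 LD2_c46 LD3_c51)) = (LP (LK LD1_c4 LD2_c24 LD3_c38)) :=
  Lre_e IH (LK LD1_c8 LD2_c46 LD3_c51) (LK LD1_c4 LD2_c24 LD3_c38) Lrfl Lrfl
theorem f80522 : Led Lsl_dt (LP (LK LD1_c2 LD2_c9 LD3_c39)) = (LP (LK LD1_c4 LD2_c24 LD3_c26)) :=
  Lre_d IH (LK LD1_c2 LD2_c9 LD3_c39) (LK LD1_c4 LD2_c24 LD3_c26) Lrfl Lrfl
theorem f70725 : Led Lsl_gt (LP (LK LD1_c8 LD2_c46 LD3_c33)) = (LP (LK LD1_c4 LD2_c24 LD3_c26)) :=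
  Lre_g IH (LK LD1_c8 LD2_c46 LD3_c33) (LK LD1_c4 LD2_c24 LD3_c26) Lrfl Lrfl
theorem f443104 : Led Lsl_dt (LP (LK LD1_c8 LD2_c46 LD3_c51)) = (LP (LK LD1_c8 LD2_c46 LD3_c33)) :=
  Lgr Lrot136 (Lpr_et (f35351 IH) (Lpe (K37.f34803 IH) (Lpe (K1.f34748 IH) (Lpr_dt (K1.f34744 IH) (Lpr_gf (K0.f35345 IH) (Lpe (K2.f3053 IH) (Lpr_gf (K2.f70225 IH) (Lpe (K37.f70433 IH) (Lpr_dt (f80522 IH) (Lpe (f70725 IH) (Lpn (LP (LK LD1_c8 LD2_c46 LD3_c33)))))))))))))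
theorem f36197 : Led Lsl_gt (LP (LK LD1_c4 LD2_c24 LD3_c38)) = (LP (LK LD1_c7 LD2_c56 LD3_c55)) :=
  Lgr Lrot46 (Lpe (K37.f34803 IH) (Lpr_ft (K6.f34800 IH) (Lpr_at (K2.f36082 IH) (Lpn (LP (LK LD1_c7 LD2_c56 LD3_c55))))))
theorem f205522 : Led Lsl_af (LP (LK LD1_c4 LD2_c24 LD3_c26)) = (LP (LK LD1_c3 LD2_c10 LD3_c2)) :=
  Lgr Lrot0 (Lpr_at (K11.f205514 IH) (Lpn (LP (LK LD1_c3 LD2_c10 LD3_c2))))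
theorem f205634 : Led Lsl_ft (LP (LK LD1_c6 LD2_c24 LD3_c55)) = (LP (LK LD1_c3 LD2_c10 LD3_c2)) :=
  Lre_f IH (LK LD1_c6 LD2_c24 LD3_c55) (LK LD1_c3 LD2_c10 LD3_c2) Lrfl Lrfl
theorem f205673 : Led Lsl_gf (LP (LK LD1_c8 LD2_c46 LD3_c33)) = (LP (LK LD1_c6 LD2_c24 LD3_c55)) :=
  Lgr Lrot47 (Lpr_gt (f70725 IH) (Lpr_af (f205522 IH) (Lpe (f205634 IH) (Lpn (LP (LK LD1_c6 LD2_c24 LD3_c55))))))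
theorem f443111 : Led Lsl_gt (LP (LK LD1_c8 LD2_c39 LD3_c9)) = (LP (LK LD1_c8 LD2_c38 LD3_c28)) :=
  Lgr Lrot139 (Lpr_df (K1.f36079 IH) (Lpe (f36197 IH) (Lpe (f35351 IH) (Lpr_dt (f443104 IH) (Lpr_gf (f205673 IH) (Lpe (K36.f205470 IH) (Lpe (K11.f205472 IH) (Lpr_gf (f210839 IH) (Lpe (f70197 IH) (Lpe (f70198 IH) (Lpn (LP (LK LD1_c8 LD2_c38 LD3_c28)))))))))))))
theorem f70771 : Led Lsl_at (LP (LK LD1_c3 LD2_c57 LD3_c49)) = (LP (LK LD1_c2 LD2_c9 LD3_c61)) :=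
  Lgr Lrot100 (Lpr_af (K2.f70769 IH) (Lpn (LP (LK LD1_c2 LD2_c9 LD3_c61))))
theorem f99388 : Led Lsl_at (LP (LK LD1_c2 LD2_c9 LD3_c54)) = (LP (LK LD1_c2 LD2_c26 LD3_c51)) :=
  Lgr Lrot107 (Lpr_cf (K4.f99383 IH) (Lpe (f70771 IH) (Lpr_cf (K6.f37450 IH) (Lpn (LP (LK LD1_c2 LD2_c26 LD3_c51))))))
theorem f101823 : Led Lsl_af (LP (LK LD1_c4 LD2_c24 LD3_c57)) = (LP (LK LD1_c4 LD2_c58 LD3_c3)) :=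
  Lgr Lrot45 (Lpr_ft (K2.f35912 IH) (Lpr_at (f99388 IH) (Lpr_ft (K1.f37472 IH) (Lpn (LP (LK LD1_c4 LD2_c58 LD3_c3))))))
theorem f101830 : Led Lsl_gf (LP (LK LD1_c4 LD2_c24 LD3_c57)) = (LP (LK LD1_c4 LD2_c58 LD3_c0)) :=
  Lgr Lrot76 (Lpr_af (f101823 IH) (Lpe (K1.f37472 IH) (Lpr_gt (K37.f37332 IH) (Lpn (LP (LK LD1_c4 LD2_c58 LD3_c0))))))
theorem f37333 : Led Lsl_et (LP (LK LD1_c9 LD2_c46 LD3_c57)) = (LP (LK LD1_c4 LD2_c58 LD3_c0)) :=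
  Lre_e IH (LK LD1_c9 LD2_c46 LD3_c57) (LK LD1_c4 LD2_c58 LD3_c0) Lrfl Lrfl
theorem f544246 : Led Lsl_dt (LP (LK LD1_c9 LD2_c46 LD3_c57)) = (LP (LK LD1_c7 LD2_c5 LD3_c40)) :=
  Lgr Lrot56 (Lpr_et (f37333 IH) (Lpe (f101830 IH) (Lpe (K2.f35913 IH) (Lpe (K1.f36079 IH) (Lpr_gt (f443111 IH) (Lpr_df (f70198 IH) (Lpr_et (f70197 IH) (Lpe (f210839 IH) (Lpr_dt (K39.f99294 IH) (Lpr_gt (K37.f544240 IH) (Lpn (LP (LK LD1_c7 LD2_c5 LD3_c40)))))))))))))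
theorem f544251 : Led Lsl_df (LP (LK LD1_c9 LD2_c46 LD3_c57)) = (LP (LK LD1_c7 LD2_c5 LD3_c40)) :=
  Lgr Lrot38 (Lpr_dt (f544246 IH) (Lpn (LP (LK LD1_c7 LD2_c5 LD3_c40))))
theorem f561087 : Led Lsl_cf (LP (LK LD1_c9 LD2_c46 LD3_c57)) = (LP (LK LD1_c8 LD2_c46 LD3_c51)) :=
  Lgr Lrot99 (Lpr_df (f544251 IH) (Lpe (K37.f544232 IH) (Lpr_gf (K37.f544230 IH) (Lpe (K29.f463360 IH) (Lpe (K39.f544221 IH) (Lpe (f38044 IH) (Lpr_gt (f543682 IH) (Lpr_ct (f561079 IH) (Lpr_gt (f35362 IH) (Lpn (LP (LK LD1_c8 LD2_c46 LD3_c51))))))))))))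
theorem f443106 : Led Lsl_df (LP (LK LD1_c8 LD2_c46 LD3_c51)) = (LP (LK LD1_c8 LD2_c46 LD3_c33)) :=
  Lgr Lrot38 (Lpr_dt (f443104 IH) (Lpn (LP (LK LD1_c8 LD2_c46 LD3_c33))))
theorem f205542 : Led Lsl_at (LP (LK LD1_c4 LD2_c24 LD3_c27)) = (LP (LK LD1_c3 LD2_c10 LD3_c3)) :=
  Lgr Lrot51 (Lpe (K11.f75733 IH) (Lpr_af (K11.f205535 IH) (Lpe (K36.f205470 IH) (Lpn (LP (LK LD1_c3 LD2_c10 LD3_c3))))))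
theorem f75746 : Led Lsl_ft (LP (LK LD1_c2 LD2_c9 LD3_c39)) = (LP (LK LD1_c4 LD2_c24 LD3_c27)) :=
  Lre_f IH (LK LD1_c2 LD2_c9 LD3_c39) (LK LD1_c4 LD2_c24 LD3_c27) Lrfl Lrfl
theorem f205548 : Led Lsl_gt (LP (LK LD1_c4 LD2_c24 LD3_c24)) = (LP (LK LD1_c3 LD2_c10 LD3_c3)) :=
  Lgr Lrot46 (Lpe (K6.f70237 IH) (Lpr_ft (f75746 IH) (Lpr_at (f205542 IH) (Lpn (LP (LK LD1_c3 LD2_c10 LD3_c3))))))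
theorem f561093 : Led Lsl_ct (LP (LK LD1_c7 LD2_c56 LD3_c45)) = (LP (LK LD1_c4 LD2_c24 LD3_c24)) :=
  Lgr Lrot8 (Lpe (f210839 IH) (Lpr_dt (K39.f99294 IH) (Lpr_gt (K37.f544240 IH) (Lpe (f544251 IH) (Lpr_cf (f561087 IH) (Lpr_df (f443106 IH) (Lpr_gf (f205673 IH) (Lpe (K36.f205470 IH) (Lpe (f205548 IH) (Lpn (LP (LK LD1_c4 LD2_c24 LD3_c24))))))))))))
theorem f38116 : Led Lsl_et (LP (LK LD1_c1 LD2_c27 LD3_c52)) = (LP (LK LD1_c3 LD2_c3 LD3_c46)) :=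
  Lre_e IH (LK LD1_c1 LD2_c27 LD3_c52) (LK LD1_c3 LD2_c3 LD3_c46) Lrfl Lrfl
theorem f38118 : Led Lsl_ef (LP (LK LD1_c4 LD2_c26 LD3_c34)) = (LP (LK LD1_c6 LD2_c13 LD3_c54)) :=
  Lgr Lrot21 (Lpr_ft (K4.f38115 IH) (Lpr_et (K37.f38114 IH) (Lpr_ft (K6.f38013 IH) (Lpr_et (f38116 IH) (Lpr_ft (K11.f38117 IH) (Lpn (LP (LK LD1_c6 LD2_c13 LD3_c54))))))))
theorem f205468 : Led Lsl_cf (LP (LK LD1_c6 LD2_c13 LD3_c54)) = (LP (LK LD1_c3 LD2_c10 LD3_c3)) :=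
  Lgr Lrot39 (Lpe (f38118 IH) (Lpe (K4.f99287 IH) (Lpr_et (K11.f205463 IH) (Lpn (LP (LK LD1_c3 LD2_c10 LD3_c3))))))
theorem f554163 : Led Lsl_df (LP (LK LD1_c7 LD2_c19 LD3_c9)) = (LP (LK LD1_c6 LD2_c13 LD3_c54)) :=
  Lgr Lrot70 (Lpr_et (K28.f208967 IH) (Lpr_dt (f208973 IH) (Lpr_et (K39.f554063 IH) (Lpr_dt (f38138 IH) (Lpr_et (K11.f38132 IH) (Lpn (LP (LK LD1_c6 LD2_c13 LD3_c54))))))))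
theorem f543652 : Led Lsl_bt (LP (LK LD1_c21 LD2_c14 LD3_c29)) = (LP (LK LD1_c12 LD2_c8 LD3_c14)) :=
  Lre_b IH (LK LD1_c21 LD2_c14 LD3_c29) (LK LD1_c12 LD2_c8 LD3_c14) Lrfl Lrfl
theorem f543692 : Led Lsl_gt (LP (LK LD1_c12 LD2_c8 LD3_c14)) = (LP (LK LD1_c7 LD2_c4 LD3_c25)) :=
  Lgr Lrot164 (Lpe (f543652 IH) (Lpr_ct (K37.f543646 IH) (Lpr_gf (K39.f534078 IH) (Lpe (K35.f436385 IH) (Lpr_gf (K34.f533011 IH) (Lpe (K34.f458998 IH) (Lpr_ct (K28.f455769 IH) (Lpr_gf (K28.f459278 IH) (Lpe (K28.f459280 IH) (Lpr_bt (K37.f459281 IH) (Lpn (LP (LK LD1_c7 LD2_c4 LD3_c25)))))))))))))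
theorem f561102 : Led Lsl_df (LP (LK LD1_c3 LD2_c57 LD3_c40)) = (LP (LK LD1_c3 LD2_c32 LD3_c19)) :=
  Lgr Lrot155 (Lpr_gt (f70196 IH) (Lpr_ct (f561093 IH) (Lpr_gt (f205548 IH) (Lpe (f205468 IH) (Lpe (f554163 IH) (Lpr_cf (K39.f463363 IH) (Lpe (f543692 IH) (Lpr_cf (K37.f543690 IH) (Lpe (K37.f147278 IH) (Lpn (LP (LK LD1_c3 LD2_c32 LD3_c19))))))))))))
theorem f210831 : Led Lsl_dt (LP (LK LD1_c14 LD2_c59 LD3_c32)) = (LP (LK LD1_c7 LD2_c56 LD3_c46)) :=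
  Lre_d IH (LK LD1_c14 LD2_c59 LD3_c32) (LK LD1_c7 LD2_c56 LD3_c46) Lrfl Lrfl
theorem f471289 : Led Lsl_dt (LP (LK LD1_c23 LD2_c22 LD3_c55)) = (LP (LK LD1_c13 LD2_c52 LD3_c54)) :=
  Lre_d IH (LK LD1_c23 LD2_c22 LD3_c55) (LK LD1_c13 LD2_c52 LD3_c54) Lrfl Lrfl
theorem f471282 : Led Lsl_et (LP (LK LD1_c7 LD2_c20 LD3_c25)) = (LP (LK LD1_c13 LD2_c52 LD3_c54)) :=
  Lre_e IH (LK LD1_c7 LD2_c20 LD3_c25) (LK LD1_c13 LD2_c52 LD3_c54) Lrfl Lrfl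
theorem f464998 : Led Lsl_et (LP (LK LD1_c22 LD2_c28 LD3_c37)) = (LP (LK LD1_c13 LD2_c13 LD3_c57)) :=
  Lre_e IH (LK LD1_c22 LD2_c28 LD3_c37) (LK LD1_c13 LD2_c13 LD3_c57) Lrfl Lrfl
theorem f471283 : Led Lsl_ct (LP (LK LD1_c13 LD2_c52 LD3_c54)) = (LP (LK LD1_c22 LD2_c28 LD3_c37)) :=
  Lgr Lrot15 (Lpe (f471282 IH) (Lpr_cf (K29.f471277 IH) (Lpe (f464998 IH) (Lpn (LP (LK LD1_c22 LD2_c28 LD3_c37))))))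
theorem f471287 : Led Lsl_cf (LP (LK LD1_c13 LD2_c52 LD3_c54)) = (LP (LK LD1_c22 LD2_c28 LD3_c37)) :=
  Lgr Lrot11 (Lpr_ct (f471283 IH) (Lpn (LP (LK LD1_c22 LD2_c28 LD3_c37))))
theorem f160639 : Led Lsl_at (LP (LK LD1_c3 LD2_c3 LD3_c35)) = (LP (LK LD1_c1 LD2_c56 LD3_c49)) :=
  Lgr Lrot100 (Lpr_af (K8.f160637 IH) (Lpn (LP (LK LD1_c1 LD2_c56 LD3_c49))))
theorem f3048 : Led Lsl_dt (LP (LK LD1_c4 LD2_c0 LD3_c8)) = (LP (LK LD1_c1 LD2_c56 LD3_c50)) :=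
  Lre_d IH (LK LD1_c4 LD2_c0 LD3_c8) (LK LD1_c1 LD2_c56 LD3_c50) Lrfl Lrfl
theorem f160663 : Led Lsl_ff (LP (LK LD1_c3 LD2_c3 LD3_c35)) = (LP (LK LD1_c1 LD2_c56 LD3_c50)) :=
  Lgr Lrot19 (Lpr_dt (K8.f80893 IH) (Lpr_ft (K8.f160661 IH) (Lpr_dt (f3048 IH) (Lpn (LP (LK LD1_c1 LD2_c56 LD3_c50))))))
theorem f542923 : Led Lsl_dt (LP (LK LD1_c3 LD2_c36 LD3_c37)) = (LP (LK LD1_c2 LD2_c26 LD3_c25)) :=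
  Lgr Lrot140 (Lpe (K36.f159802 IH) (Lpr_df (K8.f159860 IH) (Lpr_cf (K8.f159640 IH) (Lpe (K8.f3049 IH) (Lpe (f160663 IH) (Lpr_at (f160639 IH) (Lpr_cf (K37.f542919 IH) (Lpr_df (K13.f196377 IH) (Lpe (K38.f172694 IH) (Lpn (LP (LK LD1_c2 LD2_c26 LD3_c25))))))))))))
theorem f116174 : Led Lsl_gt (LP (LK LD1_c13 LD2_c38 LD3_c23)) = (LP (LK LD1_c7 LD2_c12 LD3_c5)) :=
  Lre_g IH (LK LD1_c13 LD2_c38 LD3_c23) (LK LD1_c7 LD2_c12 LD3_c5) Lrfl Lrfl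
theorem f552199 : Led Lsl_dt (LP (LK LD1_c22 LD2_c28 LD3_c37)) = (LP (LK LD1_c13 LD2_c38 LD3_c23)) :=
  Lgr Lrot136 (Lpr_et (f464998 IH) (Lpe (K29.f464991 IH) (Lpe (K28.f160474 IH) (Lpr_dt (f542923 IH) (Lpe (K39.f313481 IH) (Lpr_df (K39.f552183 IH) (Lpe (K24.f5860 IH) (Lpe (K24.f108266 IH) (Lpr_dt (K36.f116254 IH) (Lpe (f116174 IH) (Lpn (LP (LK LD1_c13 LD2_c38 LD3_c23)))))))))))))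
theorem f552202 : Led Lsl_df (LP (LK LD1_c22 LD2_c28 LD3_c37)) = (LP (LK LD1_c13 LD2_c38 LD3_c23)) :=
  Lgr Lrot38 (Lpr_dt (f552199 IH) (Lpn (LP (LK LD1_c13 LD2_c38 LD3_c23))))
theorem f558913 : Led Lsl_gt (LP (LK LD1_c12 LD2_c22 LD3_c51)) = (LP (LK LD1_c13 LD2_c38 LD3_c23)) :=
  Lgr Lrot49 (Lpe (K39.f540288 IH) (Lpe (K37.f466532 IH) (Lpe (K37.f116265 IH) (Lpr_gt (K37.f489386 IH) (Lpr_dt (K29.f439561 IH) (Lpr_gt (f558911 IH) (Lpr_dt (f471289 IH) (Lpr_cf (f471287 IH) (Lpr_df (f552202 IH) (Lpn (LP (LK LD1_c13 LD2_c38 LD3_c23))))))))))))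
theorem f489406 : Led Lsl_et (LP (LK LD1_c13 LD2_c26 LD3_c41)) = (LP (LK LD1_c7 LD2_c5 LD3_c39)) :=
  Lre_e IH (LK LD1_c13 LD2_c26 LD3_c41) (LK LD1_c7 LD2_c5 LD3_c39) Lrfl Lrfl
theorem f558921 : Led Lsl_dt (LP (LK LD1_c13 LD2_c26 LD3_c41)) = (LP (LK LD1_c9 LD2_c45 LD3_c8)) :=
  Lgr Lrot56 (Lpr_et (f489406 IH) (Lpr_gt (K37.f543634 IH) (Lpe (K36.f540290 IH) (Lpr_dt (K39.f540288 IH) (Lpr_gt (f558913 IH) (Lpe (f552199 IH) (Lpr_et (f464998 IH) (Lpr_gt (K29.f455432 IH) (Lpr_dt (K39.f552901 IH) (Lpe (K39.f417983 IH) (Lpn (LP (LK LD1_c9 LD2_c45 LD3_c8)))))))))))))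
theorem f558927 : Led Lsl_et (LP (LK LD1_c14 LD2_c59 LD3_c32)) = (LP (LK LD1_c13 LD2_c29 LD3_c13)) :=
  Lgr Lrot185 (Lpr_dt (f210831 IH) (Lpe (K37.f210827 IH) (Lpe (K36.f99297 IH) (Lpe (K37.f543634 IH) (Lpe (f489406 IH) (Lpr_dt (f558921 IH) (Lpr_gf (K39.f417983 IH) (Lpe (K39.f552901 IH) (Lpe (K28.f465003 IH) (Lpe (K28.f11724 IH) (Lpn (LP (LK LD1_c13 LD2_c29 LD3_c13)))))))))))))
theorem f11775 : Led Lsl_et (LP (LK LD1_c3 LD2_c33 LD3_c4)) = (LP (LK LD1_c7 LD2_c7 LD3_c1)) :=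
  Lre_e IH (LK LD1_c3 LD2_c33 LD3_c4) (LK LD1_c7 LD2_c7 LD3_c1) Lrfl Lrfl
theorem f552221 : Led Lsl_df (LP (LK LD1_c4 LD2_c23 LD3_c6)) = (LP (LK LD1_c3 LD2_c32 LD3_c17)) :=
  Lgr Lrot43 (Lpe (K32.f402977 IH) (Lpr_dt (K13.f59147 IH) (Lpq (K35.f536729 IH) (Lpe (K35.f452627 IH) (Lpr_dt (K10.f81178 IH) (Lpe (K36.f159649 IH) (Lpr_dt (K24.f159657 IH) (Lpr_ct (K39.f439355 IH) (Lpe (K39.f552209 IH) (Lpe (K13.f239238 IH) (Lpr_dt (K13.f59087 IH) (Lpr_ct (K13.f239174 IH) (Lpr_dt (K37.f210863 IH) (Lpr_ct (K39.f552217 IH) (Lpr_dt (K39.f439627 IH) (Lpe (K24.f439225 IH) (Lpn (LP (LK LD1_c3 LD2_c32 LD3_c17)))))))))))))))))))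
theorem f402981 : Led Lsl_ff (LP (LK LD1_c4 LD2_c20 LD3_c34)) = (LP (LK LD1_c4 LD2_c23 LD3_c6)) :=
  Lgr Lrot30 (Lpe (K39.f315743 IH) (Lpe (K32.f315242 IH) (Lpr_at (K32.f402973 IH) (Lpn (LP (LK LD1_c4 LD2_c23 LD3_c6))))))
theorem f402989 : Led Lsl_gf (LP (LK LD1_c4 LD2_c57 LD3_c0)) = (LP (LK LD1_c4 LD2_c23 LD3_c6)) :=
  Lgr Lrot47 (Lpe (K13.f241378 IH) (Lpr_af (K39.f315743 IH) (Lpr_ff (f402981 IH) (Lpn (LP (LK LD1_c4 LD2_c23 LD3_c6))))))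
theorem f561111 : Led Lsl_dt (LP (LK LD1_c3 LD2_c33 LD3_c4)) = (LP (LK LD1_c4 LD2_c57 LD3_c0)) :=
  Lgr Lrot56 (Lpr_et (f11775 IH) (Lpr_gt (K28.f11793 IH) (Lpe (f558927 IH) (Lpr_dt (f210831 IH) (Lpr_gt (K37.f210826 IH) (Lpr_df (f561102 IH) (Lpr_et (K28.f108281 IH) (Lpr_gt (K24.f108282 IH) (Lpe (f552221 IH) (Lpe (f402989 IH) (Lpn (LP (LK LD1_c4 LD2_c57 LD3_c0)))))))))))))
theorem f402985 : Led Lsl_et (LP (LK LD1_c4 LD2_c2 LD3_c0)) = (LP (LK LD1_c4 LD2_c23 LD3_c6)) :=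
  Lgr Lrot69 (Lpe (K20.f315198 IH) (Lpr_ef (K13.f211577 IH) (Lpe (K39.f315737 IH) (Lpe (K39.f35783 IH) (Lpr_ff (f402981 IH) (Lpn (LP (LK LD1_c4 LD2_c23 LD3_c6))))))))
theorem f402991 : Led Lsl_ef (LP (LK LD1_c4 LD2_c57 LD3_c0)) = (LP (LK LD1_c4 LD2_c22 LD3_c61)) :=
  Lgr Lrot17 (Lpr_gf (f402989 IH) (Lpe (f402985 IH) (Lpr_dt (K20.f242572 IH) (Lpr_gf (K13.f240057 IH) (Lpe (K13.f196179 IH) (Lpr_gf (K13.f239963 IH) (Lpe (K13.f33743 IH) (Lpr_dt (K2.f69813 IH) (Lpe (K13.f69936 IH) (Lpr_df (K16.f241564 IH) (Lpn (LP (LK LD1_c4 LD2_c22 LD3_c61)))))))))))))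
theorem f402993 : Led Lsl_et (LP (LK LD1_c4 LD2_c57 LD3_c0)) = (LP (LK LD1_c4 LD2_c22 LD3_c61)) :=
  Lgr Lrot87 (Lpr_ef (f402991 IH) (Lpn (LP (LK LD1_c4 LD2_c22 LD3_c61))))
theorem f241301 : Led Lsl_et (LP (LK LD1_c6 LD2_c13 LD3_c61)) = (LP (LK LD1_c12 LD2_c6 LD3_c36)) :=
  Lre_e IH (LK LD1_c6 LD2_c13 LD3_c61) (LK LD1_c12 LD2_c6 LD3_c36) Lrfl Lrfl
theorem f561113 : Led Lsl_df (LP (LK LD1_c7 LD2_c7 LD3_c1)) = (LP (LK LD1_c12 LD2_c6 LD3_c36)) :=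
  Lgr Lrot70 (Lpr_et (K28.f11778 IH) (Lpr_dt (f561111 IH) (Lpr_et (f402993 IH) (Lpe (K16.f241564 IH) (Lpr_et (f241301 IH) (Lpn (LP (LK LD1_c12 LD2_c6 LD3_c36))))))))
theorem f561117 : Led Lsl_dt (LP (LK LD1_c7 LD2_c7 LD3_c1)) = (LP (LK LD1_c12 LD2_c6 LD3_c36)) :=
  Lgr Lrot42 (Lpr_df (f561113 IH) (Lpn (LP (LK LD1_c12 LD2_c6 LD3_c36))))
theorem f549547 : Led Lsl_et (LP (LK LD1_c4 LD2_c33 LD3_c1)) = (LP (LK LD1_c2 LD2_c13 LD3_c29)) :=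
  Lre_e IH (LK LD1_c4 LD2_c33 LD3_c1) (LK LD1_c2 LD2_c13 LD3_c29) Lrfl Lrfl
theorem f549548 : Led Lsl_et (LP (LK LD1_c4 LD2_c33 LD3_c0)) = (LP (LK LD1_c9 LD2_c3 LD3_c18)) :=
  Lre_e IH (LK LD1_c4 LD2_c33 LD3_c0) (LK LD1_c9 LD2_c3 LD3_c18) Lrfl Lrfl
theorem f549549 : Led Lsl_df (LP (LK LD1_c7 LD2_c13 LD3_c45)) = (LP (LK LD1_c9 LD2_c3 LD3_c18)) :=
  Lgr Lrot70 (Lpr_et (K34.f17418 IH) (Lpr_dt (K38.f549539 IH) (Lpr_et (f549547 IH) (Lpr_dt (K38.f181555 IH) (Lpr_et (f549548 IH) (Lpn (LP (LK LD1_c9 LD2_c3 LD3_c18))))))))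
theorem f561121 : Led Lsl_bf (LP (LK LD1_c9 LD2_c3 LD3_c18)) = (LP (LK LD1_c12 LD2_c6 LD3_c36)) :=
  Lgr Lrot93 (Lpe (f549549 IH) (Lpr_bt (K28.f160448 IH) (Lpr_dt (f561117 IH) (Lpn (LP (LK LD1_c12 LD2_c6 LD3_c36))))))
theorem f549569 : Led Lsl_et (LP (LK LD1_c9 LD2_c3 LD3_c18)) = (LP (LK LD1_c4 LD2_c33 LD3_c0)) :=
  Lre_e IH (LK LD1_c9 LD2_c3 LD3_c18) (LK LD1_c4 LD2_c33 LD3_c0) Lrfl Lrfl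
theorem f561128 : Led Lsl_bt (LP (LK LD1_c4 LD2_c33 LD3_c0)) = (LP (LK LD1_c6 LD2_c13 LD3_c61)) :=
  Lgr Lrot119 (Lpe (f549569 IH) (Lpr_bf (f561121 IH) (Lpe (f241301 IH) (Lpn (LP (LK LD1_c6 LD2_c13 LD3_c61))))))
theorem f241753 : Led Lsl_ff (LP (LK LD1_c4 LD2_c22 LD3_c60)) = (LP (LK LD1_c6 LD2_c13 LD3_c61)) :=
  Lgr Lrot23 (Lpr_ct (K13.f80982 IH) (Lpr_ft (K13.f241751 IH) (Lpe (K13.f241298 IH) (Lpn (LP (LK LD1_c6 LD2_c13 LD3_c61))))))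
theorem f241744 : Led Lsl_bt (LP (LK LD1_c4 LD2_c22 LD3_c60)) = (LP (LK LD1_c8 LD2_c43 LD3_c41)) :=
  Lre_b IH (LK LD1_c4 LD2_c22 LD3_c60) (LK LD1_c8 LD2_c43 LD3_c41) Lrfl Lrfl
theorem f561135 : Led Lsl_ff (LP (LK LD1_c4 LD2_c33 LD3_c0)) = (LP (LK LD1_c8 LD2_c43 LD3_c41)) :=
  Lgr Lrot25 (Lpr_bt (f561128 IH) (Lpe (f241753 IH) (Lpr_bt (f241744 IH) (Lpn (LP (LK LD1_c8 LD2_c43 LD3_c41))))))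
theorem f561141 : Led Lsl_ft (LP (LK LD1_c4 LD2_c33 LD3_c0)) = (LP (LK LD1_c8 LD2_c43 LD3_c41)) :=
  Lgr Lrot48 (Lpr_ff (f561135 IH) (Lpn (LP (LK LD1_c8 LD2_c43 LD3_c41))))
theorem f561143 : Led Lsl_af (LP (LK LD1_c4 LD2_c32 LD3_c56)) = (LP (LK LD1_c8 LD2_c43 LD3_c41)) :=
  Lgr Lrot45 (Lpr_ft (K38.f549563 IH) (Lpr_at (K38.f549562 IH) (Lpr_ft (f561141 IH) (Lpn (LP (LK LD1_c8 LD2_c43 LD3_c41))))))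
theorem f549570 : Led Lsl_gt (LP (LK LD1_c9 LD2_c3 LD3_c5)) = (LP (LK LD1_c4 LD2_c32 LD3_c56)) :=
  Lre_g IH (LK LD1_c9 LD2_c3 LD3_c5) (LK LD1_c4 LD2_c32 LD3_c56) Lrfl Lrfl
theorem f561145 : Led Lsl_gt (LP (LK LD1_c4 LD2_c33 LD3_c0)) = (LP (LK LD1_c9 LD2_c3 LD3_c5)) :=
  Lgr Lrot5 (Lpr_ft (f561141 IH) (Lpe (f561143 IH) (Lpe (f549570 IH) (Lpn (LP (LK LD1_c9 LD2_c3 LD3_c5))))))
theorem f553427 : Led Lsl_et (LP (LK LD1_c2 LD2_c54 LD3_c31)) = (LP (LK LD1_c4 LD2_c32 LD3_c53)) :=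
  Lgr Lrot87 (Lpr_ef (K39.f553419 IH) (Lpn (LP (LK LD1_c4 LD2_c32 LD3_c53))))
theorem f452838 : Led Lsl_dt (LP (LK LD1_c2 LD2_c54 LD3_c31)) = (LP (LK LD1_c5 LD2_c56 LD3_c24)) :=
  Lre_d IH (LK LD1_c2 LD2_c54 LD3_c31) (LK LD1_c5 LD2_c56 LD3_c24) Lrfl Lrfl
theorem f426235 : Led Lsl_ft (LP (LK LD1_c2 LD2_c55 LD3_c12)) = (LP (LK LD1_c5 LD2_c57 LD3_c48)) :=
  Lre_f IH (LK LD1_c2 LD2_c55 LD3_c12) (LK LD1_c5 LD2_c57 LD3_c48) Lrfl Lrfl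
theorem f426185 : Led Lsl_at (LP (LK LD1_c2 LD2_c55 LD3_c24)) = (LP (LK LD1_c2 LD2_c55 LD3_c12)) :=
  Lgr Lrot100 (Lpr_af (K24.f426178 IH) (Lpn (LP (LK LD1_c2 LD2_c55 LD3_c12))))
theorem f539619 : Led Lsl_ff (LP (LK LD1_c2 LD2_c55 LD3_c24)) = (LP (LK LD1_c3 LD2_c0 LD3_c14)) :=
  Lgr Lrot19 (Lpr_dt (K24.f386672 IH) (Lpr_ft (K36.f426225 IH) (Lpr_dt (K36.f539605 IH) (Lpn (LP (LK LD1_c3 LD2_c0 LD3_c14))))))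
theorem f559466 : Led Lsl_at (LP (LK LD1_c5 LD2_c57 LD3_c48)) = (LP (LK LD1_c3 LD2_c0 LD3_c14)) :=
  Lgr Lrot66 (Lpe (f426235 IH) (Lpe (f426185 IH) (Lpr_ff (f539619 IH) (Lpn (LP (LK LD1_c3 LD2_c0 LD3_c14))))))
theorem f386690 : Led Lsl_gt (LP (LK LD1_c2 LD2_c55 LD3_c12)) = (LP (LK LD1_c5 LD2_c57 LD3_c46)) :=
  Lre_g IH (LK LD1_c2 LD2_c55 LD3_c12) (LK LD1_c5 LD2_c57 LD3_c46) Lrfl Lrfl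
theorem f559468 : Led Lsl_gf (LP (LK LD1_c3 LD2_c0 LD3_c14)) = (LP (LK LD1_c5 LD2_c57 LD3_c46)) :=
  Lgr Lrot76 (Lpe (f559466 IH) (Lpe (f426235 IH) (Lpr_gt (f386690 IH) (Lpn (LP (LK LD1_c5 LD2_c57 LD3_c46))))))
theorem f539613 : Led Lsl_df (LP (LK LD1_c2 LD2_c55 LD3_c25)) = (LP (LK LD1_c3 LD2_c0 LD3_c14)) :=
  Lgr Lrot38 (Lpr_dt (K36.f539605 IH) (Lpn (LP (LK LD1_c3 LD2_c0 LD3_c14))))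
theorem f386858 : Led Lsl_dt (LP (LK LD1_c2 LD2_c55 LD3_c41)) = (LP (LK LD1_c1 LD2_c23 LD3_c46)) :=
  Lre_d IH (LK LD1_c2 LD2_c55 LD3_c41) (LK LD1_c1 LD2_c23 LD3_c46) Lrfl Lrfl
theorem f56272 : Led Lsl_gt (LP (LK LD1_c1 LD2_c25 LD3_c50)) = (LP (LK LD1_c3 LD2_c0 LD3_c5)) :=
  Lre_g IH (LK LD1_c1 LD2_c25 LD3_c50) (LK LD1_c3 LD2_c0 LD3_c5) Lrfl Lrfl
theorem f559472 : Led Lsl_dt (LP (LK LD1_c3 LD2_c0 LD3_c5)) = (LP (LK LD1_c5 LD2_c57 LD3_c46)) :=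
  Lgr Lrot57 (Lpe (f56272 IH) (Lpr_cf (f501329 IH) (Lpqs (f558412 IH) (Lpr_gt (f289417 IH) (Lpr_dt (K28.f302651 IH) (Lpr_gt (K28.f426240 IH) (Lpr_dt (f386858 IH) (Lpe (K24.f386739 IH) (Lpr_df (f539613 IH) (Lpr_gf (f559468 IH) (Lpn (LP (LK LD1_c5 LD2_c57 LD3_c46)))))))))))))
theorem f559479 : Led Lsl_df (LP (LK LD1_c3 LD2_c0 LD3_c5)) = (LP (LK LD1_c5 LD2_c57 LD3_c46)) :=
  Lgr Lrot38 (Lpr_dt (f559472 IH) (Lpn (LP (LK LD1_c5 LD2_c57 LD3_c46))))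
theorem f55841 : Led Lsl_gt (LP (LK LD1_c4 LD2_c7 LD3_c16)) = (LP (LK LD1_c8 LD2_c14 LD3_c46)) :=
  Lre_g IH (LK LD1_c4 LD2_c7 LD3_c16) (LK LD1_c8 LD2_c14 LD3_c46) Lrfl Lrfl
theorem f537821 : K37.v1663 = (LP (LK LD1_c2 LD2_c30 LD3_c49)) :=
  Lefun (Lecon (Lfl_cf (K37.f535993 IH)) (K37.f537524 IH)) (Lfl_cf (K27.f194122 IH))
theorem f559488 : Led Lsl_df (LP (LK LD1_c4 LD2_c7 LD3_c16)) = (LP (LK LD1_c2 LD2_c27 LD3_c7)) :=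
  Lgr Lrot153 (Lpr_gt (f55841 IH) (Lpr_dt (K10.f55836 IH) (Lpr_cf (K36.f55945 IH) (Lpr_df (f559479 IH) (Lpe (f386690 IH) (Lpe (K24.f161311 IH) (Lpr_gf (K37.f500624 IH) (Lpqs (f537821 IH) (Lpr_cf (K27.f194122 IH) (Lpq (K37.f537524 IH) (Lpe (K37.f535995 IH) (Lpn (LP (LK LD1_c2 LD2_c27 LD3_c7))))))))))))))
theorem f56021 : Led Lsl_gt (LP (LK LD1_c2 LD2_c0 LD3_c61)) = (LP (LK LD1_c4 LD2_c7 LD3_c16)) :=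
  Lre_g IH (LK LD1_c2 LD2_c0 LD3_c61) (LK LD1_c4 LD2_c7 LD3_c16) Lrfl Lrfl
theorem f76122 : Led Lsl_et (LP (LK LD1_c2 LD2_c27 LD3_c7)) = (LP (LK LD1_c1 LD2_c10 LD3_c49)) :=
  Lre_e IH (LK LD1_c2 LD2_c27 LD3_c7) (LK LD1_c1 LD2_c10 LD3_c49) Lrfl Lrfl
theorem f559499 : Led Lsl_et (LP (LK LD1_c4 LD2_c35 LD3_c5)) = (LP (LK LD1_c2 LD2_c27 LD3_c4)) :=
  Lgr Lrot122 (Lpr_dt (K37.f211093 IH) (Lpr_gt (K37.f539895 IH) (Lpe (K39.f556058 IH) (Lpr_et (K39.f56034 IH) (Lpr_gt (K39.f55999 IH) (Lpr_dt (K32.f55970 IH) (Lpr_gt (f56021 IH) (Lpr_df (f559488 IH) (Lpr_et (f76122 IH) (Lpr_gt (K4.f76093 IH) (Lpn (LP (LK LD1_c2 LD2_c27 LD3_c4)))))))))))))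
theorem f163156 : Led Lsl_ft (LP (LK LD1_c2 LD2_c27 LD3_c4)) = (LP (LK LD1_c2 LD2_c55 LD3_c15)) :=
  Lgr Lrot4 (Lpr_cf (K7.f81948 IH) (Lpr_ff (K8.f163154 IH) (Lpe (K8.f72587 IH) (Lpn (LP (LK LD1_c2 LD2_c55 LD3_c15))))))
theorem f556041 : Led Lsl_ft (LP (LK LD1_c5 LD2_c43 LD3_c19)) = (LP (LK LD1_c4 LD2_c57 LD3_c7)) :=
  Lgr Lrot54 (Lpe (K36.f381792 IH) (Lpr_ff (K39.f556035 IH) (Lpe (K39.f172448 IH) (Lpn (LP (LK LD1_c4 LD2_c57 LD3_c7))))))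
theorem f559501 : Led Lsl_ef K36.v1613 = (LP (LK LD1_c4 LD2_c57 LD3_c7)) :=
  Lgr Lrot21 (Lpe (K36.f500367 IH) (Lpr_et (f559499 IH) (Lpr_ft (f163156 IH) (Lpr_et (f542188 IH) (Lpr_ft (f556041 IH) (Lpn (LP (LK LD1_c4 LD2_c57 LD3_c7))))))))
theorem f559526 : Led Lsl_et K36.v1613 = (LP (LK LD1_c4 LD2_c57 LD3_c7)) :=
  Lgr Lrot87 (Lpr_ef (f559501 IH) (Lpn (LP (LK LD1_c4 LD2_c57 LD3_c7))))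
theorem f549844 : Led Lsl_bt (LP (LK LD1_c3 LD2_c59 LD3_c36)) = (LP (LK LD1_c2 LD2_c27 LD3_c26)) :=
  Lgr Lrot127 (Lpr_bf (K38.f549840 IH) (Lpqs (K36.f539836 IH) (Lpn (LP (LK LD1_c2 LD2_c27 LD3_c26)))))
theorem f559528 : Led Lsl_ef (LP (LK LD1_c3 LD2_c59 LD3_c36)) = (LP (LK LD1_c5 LD2_c41 LD3_c35)) :=
  Lgr Lrot29 (Lpr_bt (f549844 IH) (Lpq (K36.f539826 IH) (Lpr_et (f559526 IH) (Lpr_bt (K37.f172440 IH) (Lpn (LP (LK LD1_c5 LD2_c41 LD3_c35)))))))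
theorem f449370 : Led Lsl_af (LP (LK LD1_c0 LD2_c38 LD3_c12)) = (LP (LK LD1_c1 LD2_c4 LD3_c27)) :=
  Lgr Lrot117 (Lpr_dt (K12.f211763 IH) (Lpr_at (K36.f449365 IH) (Lpr_dt (K36.f140764 IH) (Lpn (LP (LK LD1_c1 LD2_c4 LD3_c27))))))
theorem f20398 : Led Lsl_bt (LP (LK LD1_c2 LD2_c14 LD3_c41)) = (LP (LK LD1_c1 LD2_c4 LD3_c27)) :=
  Lre_b IH (LK LD1_c2 LD2_c14 LD3_c41) (LK LD1_c1 LD2_c4 LD3_c27) Lrfl Lrfl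
theorem f549842 : Led Lsl_at (LP (LK LD1_c3 LD2_c59 LD3_c36)) = (LP (LK LD1_c2 LD2_c14 LD3_c41)) :=
  Lgr Lrot67 (Lpr_bf (K38.f549840 IH) (Lpqs (K36.f539836 IH) (Lpq (K36.f539826 IH) (Lpe (K36.f500365 IH) (Lpe (K36.f211760 IH) (Lpr_af (f449370 IH) (Lpe (f20398 IH) (Lpn (LP (LK LD1_c2 LD2_c14 LD3_c41))))))))))
theorem f542313 : Led Lsl_et (LP (LK LD1_c2 LD2_c14 LD3_c41)) = (LP (LK LD1_c4 LD2_c31 LD3_c47)) :=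
  Lgr Lrot158 (Lpr_cf (K39.f418551 IH) (Lpr_ef (K37.f542311 IH) (Lpe (K30.f281789 IH) (Lpn (LP (LK LD1_c4 LD2_c31 LD3_c47))))))
theorem f559542 : Led Lsl_at (LP (LK LD1_c4 LD2_c31 LD3_c47)) = (LP (LK LD1_c5 LD2_c41 LD3_c35)) :=
  Lgr Lrot80 (Lpe (f542313 IH) (Lpe (f549842 IH) (Lpr_ef (f559528 IH) (Lpn (LP (LK LD1_c5 LD2_c41 LD3_c35))))))
theorem f559547 : Led Lsl_ff (LP (LK LD1_c4 LD2_c31 LD3_c47)) = K36.v2887 :=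
  Lgr Lrot52 (Lpr_at (f559542 IH) (Lpr_gf (K37.f542228 IH) (Lpr_gf (K39.f549907 IH) (Lpn K36.v2887))))
def v1608 : LQ := Led Lsl_et (LP (LK LD1_c1 LD2_c22 LD3_c25))
theorem f500351 : Led Lsl_et (LP (LK LD1_c1 LD2_c22 LD3_c25)) = v1608 :=
  Lrfl
theorem f500353 : Led Lsl_ef (LP (LK LD1_c1 LD2_c22 LD3_c25)) = v1608 :=
  Lgr Lrot88 (Lpr_et (f500351 IH) (Lpn v1608))
theorem f500354 : Led Lsl_bt K35.v433 = v1608 :=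
  Lgr Lrot119 (Lpe (K35.f452800 IH) (Lpe (K36.f210677 IH) (Lpr_ef (f500353 IH) (Lpn v1608))))
theorem f536966 : (LP (LK LD1_c0 LD2_c29 LD3_c25)) = K36.v386 :=
  Lefun (Lecon (Lfl_cf (K35.f452244 IH)) (K36.f536786 IH).symm) (K36.f452560 IH)
theorem f537157 : K35.v433 = (LP (LK LD1_c1 LD2_c4 LD3_c15)) :=
  Lefun (Lecon (K38.f452804 IH) (f536966 IH).symm) (K7.f20545 IH)
theorem f537367 : v1608 = (LP (LK LD1_c2 LD2_c14 LD3_c22)) :=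
  Lefun (Lecon (f500354 IH) (f537157 IH)) (K8.f138831 IH)
theorem f559551 : Led Lsl_et (LP (LK LD1_c4 LD2_c31 LD3_c47)) = (LP (LK LD1_c2 LD2_c14 LD3_c41)) :=
  Lgr Lrot69 (Lpr_ff (f559547 IH) (Lpqs (K38.f537430 IH) (Lpq (K38.f537713 IH) (Lpe (K38.f500286 IH) (Lpr_ff (K11.f163306 IH) (Lpq (f537367 IH) (Lpe (f500351 IH) (Lpr_ff (K36.f449397 IH) (Lpn (LP (LK LD1_c2 LD2_c14 LD3_c41)))))))))))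
theorem f158395 : Led Lsl_ft (LP (LK LD1_c3 LD2_c59 LD3_c38)) = (LP (LK LD1_c1 LD2_c56 LD3_c29)) :=
  Lre_f IH (LK LD1_c3 LD2_c59 LD3_c38) (LK LD1_c1 LD2_c56 LD3_c29) Lrfl Lrfl
theorem f556704 : Led Lsl_gf (LP (LK LD1_c3 LD2_c3 LD3_c24)) = (LP (LK LD1_c2 LD2_c14 LD3_c41)) :=
  Lgr Lrot76 (Lpr_af (K8.f158366 IH) (Lpe (f158395 IH) (Lpr_gt (K39.f556702 IH) (Lpn (LP (LK LD1_c2 LD2_c14 LD3_c41))))))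
theorem f60876 : Led Lsl_gt (LP (LK LD1_c3 LD2_c4 LD3_c46)) = (LP (LK LD1_c6 LD2_c15 LD3_c22)) :=
  Lre_g IH (LK LD1_c3 LD2_c4 LD3_c46) (LK LD1_c6 LD2_c15 LD3_c22) Lrfl Lrfl
theorem f559557 : Led Lsl_gf (LP (LK LD1_c9 LD2_c0 LD3_c10)) = (LP (LK LD1_c12 LD2_c8 LD3_c51)) :=
  Lgr Lrot134 (Lpr_df (K30.f418798 IH) (Lpr_et (f559551 IH) (Lpe (f556704 IH) (Lpe (K8.f99512 IH) (Lpe (K4.f99497 IH) (Lpr_gt (K4.f73823 IH) (Lpe (K8.f73831 IH) (Lpr_et (K4.f60842 IH) (Lpr_gt (f60876 IH) (Lpr_dt (K39.f60813 IH) (Lpn (LP (LK LD1_c12 LD2_c8 LD3_c51)))))))))))))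
theorem f418796 : Led Lsl_dt (LP (LK LD1_c9 LD2_c0 LD3_c10)) = (LP (LK LD1_c4 LD2_c31 LD3_c47)) :=
  Lgr Lrot27 (Lpr_cf (K30.f418780 IH) (Lpr_gf (K30.f386338 IH) (Lpe (K30.f172634 IH) (Lpr_gf (K30.f411831 IH) (Lpe (K30.f181271 IH) (Lpe (K30.f269080 IH) (Lpr_ct (K30.f269084 IH) (Lpr_gt (K30.f281785 IH) (Lpr_ct (K30.f281788 IH) (Lpn (LP (LK LD1_c4 LD2_c31 LD3_c47))))))))))))
theorem f423484 : Led Lsl_ct (LP (LK LD1_c5 LD2_c41 LD3_c30)) = (LP (LK LD1_c11 LD2_c13 LD3_c11)) :=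
  Lre_c IH (LK LD1_c5 LD2_c41 LD3_c30) (LK LD1_c11 LD2_c13 LD3_c11) Lrfl Lrfl
theorem f181288 : Led Lsl_ct (LP (LK LD1_c16 LD2_c52 LD3_c41)) = (LP (LK LD1_c9 LD2_c2 LD3_c25)) :=
  Lre_c IH (LK LD1_c16 LD2_c52 LD3_c41) (LK LD1_c9 LD2_c2 LD3_c25) Lrfl Lrfl
theorem f423485 : Led Lsl_at (LP (LK LD1_c11 LD2_c13 LD3_c11)) = (LP (LK LD1_c16 LD2_c52 LD3_c41)) :=
  Lgr Lrot107 (Lpe (f423484 IH) (Lpr_af (K38.f423475 IH) (Lpe (f181288 IH) (Lpn (LP (LK LD1_c16 LD2_c52 LD3_c41))))))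
theorem f423488 : Led Lsl_af (LP (LK LD1_c11 LD2_c13 LD3_c11)) = (LP (LK LD1_c16 LD2_c52 LD3_c41)) :=
  Lgr Lrot0 (Lpr_at (f423485 IH) (Lpn (LP (LK LD1_c16 LD2_c52 LD3_c41))))
theorem f423454 : Led Lsl_et (LP (LK LD1_c11 LD2_c13 LD3_c11)) = (LP (LK LD1_c5 LD2_c41 LD3_c29)) :=
  Lre_e IH (LK LD1_c11 LD2_c13 LD3_c11) (LK LD1_c5 LD2_c41 LD3_c29) Lrfl Lrfl
theorem f423493 : Led Lsl_et (LP (LK LD1_c9 LD2_c2 LD3_c24)) = (LP (LK LD1_c16 LD2_c52 LD3_c41)) :=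
  Lre_e IH (LK LD1_c9 LD2_c2 LD3_c24) (LK LD1_c16 LD2_c52 LD3_c41) Lrfl Lrfl
theorem f423494 : Led Lsl_at (LP (LK LD1_c5 LD2_c41 LD3_c29)) = (LP (LK LD1_c9 LD2_c2 LD3_c24)) :=
  Lgr Lrot80 (Lpe (f423454 IH) (Lpr_af (f423488 IH) (Lpe (f423493 IH) (Lpn (LP (LK LD1_c9 LD2_c2 LD3_c24))))))
theorem f423429 : Led Lsl_ff (LP (LK LD1_c5 LD2_c41 LD3_c29)) = (LP (LK LD1_c9 LD2_c2 LD3_c28)) :=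
  Lgr Lrot19 (Lpr_dt (K31.f385548 IH) (Lpr_ft (K38.f423425 IH) (Lpr_dt (K39.f385553 IH) (Lpn (LP (LK LD1_c9 LD2_c2 LD3_c28))))))
theorem f423498 : Led Lsl_ff (LP (LK LD1_c5 LD2_c41 LD3_c23)) = (LP (LK LD1_c9 LD2_c2 LD3_c24)) :=
  Lgr Lrot30 (Lpr_at (K38.f423410 IH) (Lpe (f423429 IH) (Lpr_at (f423494 IH) (Lpn (LP (LK LD1_c9 LD2_c2 LD3_c24))))))
theorem f181282 : Led Lsl_dt (LP (LK LD1_c16 LD2_c52 LD3_c40)) = (LP (LK LD1_c9 LD2_c2 LD3_c24)) :=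
  Lre_d IH (LK LD1_c16 LD2_c52 LD3_c40) (LK LD1_c9 LD2_c2 LD3_c24) Lrfl Lrfl
theorem f423500 : Led Lsl_ft (LP (LK LD1_c11 LD2_c12 LD3_c60)) = (LP (LK LD1_c16 LD2_c52 LD3_c40)) :=
  Lgr Lrot54 (Lpe (K31.f411933 IH) (Lpr_ff (f423498 IH) (Lpe (f181282 IH) (Lpn (LP (LK LD1_c16 LD2_c52 LD3_c40))))))
theorem f411839 : Led Lsl_dt (LP (LK LD1_c9 LD2_c2 LD3_c24)) = (LP (LK LD1_c16 LD2_c52 LD3_c40)) :=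
  Lre_d IH (LK LD1_c9 LD2_c2 LD3_c24) (LK LD1_c16 LD2_c52 LD3_c40) Lrfl Lrfl
theorem f423496 : Led Lsl_af (LP (LK LD1_c11 LD2_c13 LD3_c10)) = (LP (LK LD1_c16 LD2_c52 LD3_c40)) :=
  Lgr Lrot117 (Lpr_dt (K31.f280547 IH) (Lpr_at (f423494 IH) (Lpr_dt (f411839 IH) (Lpn (LP (LK LD1_c16 LD2_c52 LD3_c40))))))
theorem f423514 : Led Lsl_gt (LP (LK LD1_c11 LD2_c12 LD3_c60)) = (LP (LK LD1_c17 LD2_c55 LD3_c10)) :=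
  Lgr Lrot5 (Lpr_ft (f423500 IH) (Lpe (f423496 IH) (Lpe (K31.f411918 IH) (Lpn (LP (LK LD1_c17 LD2_c55 LD3_c10))))))
theorem f559559 : Led Lsl_gt (LP (LK LD1_c4 LD2_c31 LD3_c47)) = (LP (LK LD1_c2 LD2_c26 LD3_c33)) :=
  Lgr Lrot49 (Lpe (f418796 IH) (Lpr_gf (f559557 IH) (Lpr_cf (K39.f556167 IH) (Lpr_gt (K39.f411945 IH) (Lpr_dt (K31.f411933 IH) (Lpr_gt (f423514 IH) (Lpr_dt (K31.f181528 IH) (Lpe (K39.f181523 IH) (Lpe (K31.f181501 IH) (Lpn (LP (LK LD1_c2 LD2_c26 LD3_c33))))))))))))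
theorem f423502 : Led Lsl_ft (LP (LK LD1_c5 LD2_c41 LD3_c23)) = (LP (LK LD1_c9 LD2_c2 LD3_c24)) :=
  Lgr Lrot48 (Lpr_ff (f423498 IH) (Lpn (LP (LK LD1_c9 LD2_c2 LD3_c24))))
theorem f181284 : Led Lsl_ct (LP (LK LD1_c4 LD2_c32 LD3_c23)) = (LP (LK LD1_c9 LD2_c2 LD3_c24)) :=
  Lre_c IH (LK LD1_c4 LD2_c32 LD3_c23) (LK LD1_c9 LD2_c2 LD3_c24) Lrfl Lrfl
theorem f423471 : Led Lsl_af (LP (LK LD1_c5 LD2_c41 LD3_c29)) = (LP (LK LD1_c9 LD2_c2 LD3_c24)) :=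
  Lgr Lrot68 (Lpr_ct (K31.f172616 IH) (Lpr_at (K38.f423465 IH) (Lpr_ct (f181284 IH) (Lpn (LP (LK LD1_c9 LD2_c2 LD3_c24))))))
theorem f423507 : Led Lsl_gt (LP (LK LD1_c9 LD2_c45 LD3_c56)) = (LP (LK LD1_c5 LD2_c41 LD3_c29)) :=
  Lgr Lrot46 (Lpe (K31.f411978 IH) (Lpr_ft (f423502 IH) (Lpe (f423471 IH) (Lpn (LP (LK LD1_c5 LD2_c41 LD3_c29))))))
theorem f559566 : Led Lsl_gt (LP (LK LD1_c9 LD2_c0 LD3_c10)) = (LP (LK LD1_c4 LD2_c57 LD3_c33)) :=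
  Lgr Lrot9 (Lpr_df (K30.f418798 IH) (Lpr_gt (f559559 IH) (Lpr_ct (K31.f40184 IH) (Lpe (K39.f423659 IH) (Lpr_ct (K31.f181577 IH) (Lpe (K31.f237377 IH) (Lpe (K31.f172616 IH) (Lpe (f423507 IH) (Lpe (K31.f175248 IH) (Lpn (LP (LK LD1_c4 LD2_c57 LD3_c33))))))))))))
theorem f418776 : Led Lsl_bt (LP (LK LD1_c4 LD2_c31 LD3_c6)) = (LP (LK LD1_c9 LD2_c0 LD3_c10)) :=
  Lre_b IH (LK LD1_c4 LD2_c31 LD3_c6) (LK LD1_c9 LD2_c0 LD3_c10) Lrfl Lrfl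
theorem f553546 : Led Lsl_df (LP (LK LD1_c5 LD2_c40 LD3_c5)) = (LP (LK LD1_c9 LD2_c0 LD3_c11)) :=
  Lgr Lrot162 (Lpe (K39.f424423 IH) (Lpqs (K39.f537449 IH) (Lpe (K39.f495727 IH) (Lpe (K39.f60215 IH) (Lpr_gf (K39.f553538 IH) (Lpr_dt (K39.f549369 IH) (Lpr_gt (K39.f211812 IH) (Lpr_ct (K39.f211810 IH) (Lpr_gt (K30.f225174 IH) (Lpr_ct (K39.f354421 IH) (Lpn (LP (LK LD1_c9 LD2_c0 LD3_c11)))))))))))))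
theorem f354489 : Led Lsl_ct (LP (LK LD1_c5 LD2_c40 LD3_c5)) = (LP (LK LD1_c2 LD2_c45 LD3_c60)) :=
  Lre_c IH (LK LD1_c5 LD2_c40 LD3_c5) (LK LD1_c2 LD2_c45 LD3_c60) Lrfl Lrfl
theorem f68792 : Led Lsl_ft (LP (LK LD1_c5 LD2_c42 LD3_c25)) = (LP (LK LD1_c2 LD2_c47 LD3_c9)) :=
  Lre_f IH (LK LD1_c5 LD2_c42 LD3_c25) (LK LD1_c2 LD2_c47 LD3_c9) Lrfl Lrfl
theorem f68598 : Led Lsl_ct (LP (LK LD1_c2 LD2_c47 LD3_c9)) = (LP (LK LD1_c1 LD2_c19 LD3_c57)) :=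
  Lre_c IH (LK LD1_c2 LD2_c47 LD3_c9) (LK LD1_c1 LD2_c19 LD3_c57) Lrfl Lrfl
theorem f268668 : Led Lsl_at (LP (LK LD1_c4 LD2_c32 LD3_c21)) = (LP (LK LD1_c2 LD2_c47 LD3_c9)) :=
  Lgr Lrot107 (Lpe (K16.f26950 IH) (Lpr_af (K16.f268664 IH) (Lpe (f68598 IH) (Lpn (LP (LK LD1_c2 LD2_c47 LD3_c9))))))
theorem f412320 : Led Lsl_af (LP (LK LD1_c4 LD2_c32 LD3_c21)) = (LP (LK LD1_c2 LD2_c47 LD3_c9)) :=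
  Lgr Lrot0 (Lpr_at (f268668 IH) (Lpn (LP (LK LD1_c2 LD2_c47 LD3_c9))))
theorem f412336 : Led Lsl_gt (LP (LK LD1_c5 LD2_c40 LD3_c55)) = (LP (LK LD1_c4 LD2_c32 LD3_c21)) :=
  Lgr Lrot46 (Lpr_gf (K39.f412327 IH) (Lpr_ft (f68792 IH) (Lpe (f412320 IH) (Lpn (LP (LK LD1_c4 LD2_c32 LD3_c21))))))
theorem f553555 : Led Lsl_gt (LP (LK LD1_c6 LD2_c9 LD3_c3)) = (LP (LK LD1_c9 LD2_c0 LD3_c11)) :=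
  Lgr Lrot49 (Lpe (K16.f268471 IH) (Lpe (f412336 IH) (Lpe (K17.f172158 IH) (Lpr_gt (K9.f22415 IH) (Lpr_dt (K37.f22414 IH) (Lpr_gt (K39.f60212 IH) (Lpqs (K39.f537179 IH) (Lpe (K39.f536105 IH) (Lpe (f354489 IH) (Lpr_df (f553546 IH) (Lpn (LP (LK LD1_c9 LD2_c0 LD3_c11)))))))))))))
theorem f411925 : Led Lsl_bt (LP (LK LD1_c2 LD2_c46 LD3_c48)) = (LP (LK LD1_c5 LD2_c41 LD3_c27)) :=
  Lre_b IH (LK LD1_c2 LD2_c46 LD3_c48) (LK LD1_c5 LD2_c41 LD3_c27) Lrfl Lrfl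
theorem f559572 : Led Lsl_gf (LP (LK LD1_c6 LD2_c9 LD3_c1)) = (LP (LK LD1_c5 LD2_c41 LD3_c27)) :=
  Lgr Lrot124 (Lpe (K38.f268479 IH) (Lpr_ct (K15.f26945 IH) (Lpr_gt (f553555 IH) (Lpe (K39.f354421 IH) (Lpr_bt (f418776 IH) (Lpr_gt (f559566 IH) (Lpr_ct (K31.f175248 IH) (Lpr_gt (f423507 IH) (Lpe (K31.f172618 IH) (Lpr_bt (f411925 IH) (Lpn (LP (LK LD1_c5 LD2_c41 LD3_c27)))))))))))))
theorem f547469 : Led Lsl_af (LP (LK LD1_c6 LD2_c9 LD3_c1)) = (LP (LK LD1_c4 LD2_c33 LD3_c10)) :=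
  Lgr Lrot0 (Lpr_at (K38.f547467 IH) (Lpn (LP (LK LD1_c4 LD2_c33 LD3_c10))))
theorem f172358 : Led Lsl_bt (LP (LK LD1_c4 LD2_c33 LD3_c7)) = (LP (LK LD1_c9 LD2_c3 LD3_c28)) :=
  Lre_b IH (LK LD1_c4 LD2_c33 LD3_c7) (LK LD1_c9 LD2_c3 LD3_c28) Lrfl Lrfl
theorem f547383 : Led Lsl_ff (LP (LK LD1_c4 LD2_c33 LD3_c10)) = (LP (LK LD1_c9 LD2_c3 LD3_c28)) :=
  Lgr Lrot25 (Lpr_bt (K9.f174666 IH) (Lpr_ft (K38.f547381 IH) (Lpr_bt (f172358 IH) (Lpn (LP (LK LD1_c9 LD2_c3 LD3_c28))))))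
theorem f559574 : Led Lsl_gt (LP (LK LD1_c9 LD2_c3 LD3_c28)) = (LP (LK LD1_c5 LD2_c41 LD3_c27)) :=
  Lgr Lrot5 (Lpe (f547383 IH) (Lpe (f547469 IH) (Lpr_gf (f559572 IH) (Lpn (LP (LK LD1_c5 LD2_c41 LD3_c27))))))
theorem f556776 : Led Lsl_dt (LP (LK LD1_c4 LD2_c42 LD3_c54)) = (LP (LK LD1_c9 LD2_c3 LD3_c28)) :=
  Lgr Lrot79 (Lpr_bf (K39.f556769 IH) (Lpe (K39.f546510 IH) (Lpe (K9.f172342 IH) (Lpn (LP (LK LD1_c9 LD2_c3 LD3_c28))))))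
theorem f132602 : Led Lsl_ft (LP (LK LD1_c6 LD2_c15 LD3_c44)) = (LP (LK LD1_c3 LD2_c4 LD3_c58)) :=
  Lre_f IH (LK LD1_c6 LD2_c15 LD3_c44) (LK LD1_c3 LD2_c4 LD3_c58) Lrfl Lrfl
theorem f541345 : Led Lsl_gf (LP (LK LD1_c8 LD2_c12 LD3_c22)) = (LP (LK LD1_c6 LD2_c15 LD3_c44)) :=
  Lgr Lrot47 (Lpr_gt (K36.f541343 IH) (Lpe (K6.f132998 IH) (Lpe (f132602 IH) (Lpn (LP (LK LD1_c6 LD2_c15 LD3_c44))))))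
theorem f559584 : Led Lsl_gt (LP (LK LD1_c15 LD2_c26 LD3_c25)) = (LP (LK LD1_c11 LD2_c13 LD3_c4)) :=
  Lgr Lrot49 (Lpe (K39.f137996 IH) (Lpr_gf (f541345 IH) (Lpe (K6.f132949 IH) (Lpr_gt (K39.f132966 IH) (Lpr_dt (f556776 IH) (Lpr_gt (f559574 IH) (Lpr_dt (K38.f174722 IH) (Lpe (K38.f174341 IH) (Lpe (K38.f174342 IH) (Lpn (LP (LK LD1_c11 LD2_c13 LD3_c4))))))))))))
theorem f541295 : Led Lsl_et (LP (LK LD1_c8 LD2_c12 LD3_c22)) = (LP (LK LD1_c4 LD2_c5 LD3_c50)) :=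
  Lre_e IH (LK LD1_c8 LD2_c12 LD3_c22) (LK LD1_c4 LD2_c5 LD3_c50) Lrfl Lrfl
theorem f46871 : Led Lsl_gt (LP (LK LD1_c8 LD2_c12 LD3_c19)) = (LP (LK LD1_c4 LD2_c5 LD3_c50)) :=
  Lre_g IH (LK LD1_c8 LD2_c12 LD3_c19) (LK LD1_c4 LD2_c5 LD3_c50) Lrfl Lrfl
theorem f138555 : Led Lsl_ft (LP (LK LD1_c9 LD2_c19 LD3_c46)) = (LP (LK LD1_c6 LD2_c15 LD3_c55)) :=
  Lgr Lrot54 (Lpe (K8.f138526 IH) (Lpr_ff (K8.f138551 IH) (Lpe (K8.f81080 IH) (Lpn (LP (LK LD1_c6 LD2_c15 LD3_c55))))))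
theorem f138570 : Led Lsl_gt (LP (LK LD1_c6 LD2_c13 LD3_c16)) = (LP (LK LD1_c5 LD2_c56 LD3_c9)) :=
  Lgr Lrot46 (Lpe (K8.f138537 IH) (Lpr_ft (f138555 IH) (Lpe (K8.f119803 IH) (Lpn (LP (LK LD1_c5 LD2_c56 LD3_c9))))))
theorem f559591 : Led Lsl_ef (LP (LK LD1_c8 LD2_c12 LD3_c19)) = (LP (LK LD1_c4 LD2_c23 LD3_c56)) :=
  Lgr Lrot114 (Lpr_gt (f46871 IH) (Lpe (f541295 IH) (Lpr_dt (K39.f137996 IH) (Lpr_gt (f559584 IH) (Lpe (K38.f423542 IH) (Lpr_et (K38.f547516 IH) (Lpe (K6.f138745 IH) (Lpr_dt (f69430 IH) (Lpr_gt (f138570 IH) (Lpr_df (K28.f119654 IH) (Lpn (LP (LK LD1_c4 LD2_c23 LD3_c56)))))))))))))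
theorem f559600 : Led Lsl_et (LP (LK LD1_c8 LD2_c12 LD3_c19)) = (LP (LK LD1_c4 LD2_c23 LD3_c56)) :=
  Lgr Lrot87 (Lpr_ef (f559591 IH) (Lpn (LP (LK LD1_c4 LD2_c23 LD3_c56))))
theorem f503126 : Led Lsl_ct (LP (LK LD1_c4 LD2_c23 LD3_c56)) = K35.v1822 :=
  Lgr Lrot40 (Lpe (K8.f117616 IH) (Lpr_cf (K8.f117816 IH) (Lpr_ff (K35.f503124 IH) (Lpn K35.v1822))))
theorem f559606 : Led Lsl_cf (LP (LK LD1_c8 LD2_c12 LD3_c19)) = (LP (LK LD1_c4 LD2_c42 LD3_c58)) :=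
  Lgr Lrot39 (Lpr_et (f559600 IH) (Lpr_ct (f503126 IH) (Lpq (K35.f538186 IH) (Lpr_et (K38.f436708 IH) (Lpn (LP (LK LD1_c4 LD2_c42 LD3_c58)))))))
theorem f541333 : Led Lsl_bt (LP (LK LD1_c2 LD2_c0 LD3_c13)) = (LP (LK LD1_c4 LD2_c5 LD3_c49)) :=
  Lre_b IH (LK LD1_c2 LD2_c0 LD3_c13) (LK LD1_c4 LD2_c5 LD3_c49) Lrfl Lrfl
theorem f559619 : Led Lsl_gt (LP (LK LD1_c4 LD2_c5 LD3_c49)) = (LP (LK LD1_c2 LD2_c24 LD3_c49)) :=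
  Lgr Lrot164 (Lpe (f541333 IH) (Lpr_ct (K36.f541322 IH) (Lpe (f46871 IH) (Lpr_cf (f559606 IH) (Lpr_gf (K38.f547193 IH) (Lpe (K39.f185134 IH) (Lpr_ct (K10.f185137 IH) (Lpr_gf (K9.f28339 IH) (Lpe (K9.f28342 IH) (Lpr_bt (K18.f28345 IH) (Lpn (LP (LK LD1_c2 LD2_c24 LD3_c49)))))))))))))
theorem f436706 : Led Lsl_df (LP (LK LD1_c4 LD2_c42 LD3_c58)) = (LP (LK LD1_c5 LD2_c54 LD3_c0)) :=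
  Lgr Lrot38 (Lpr_dt (K38.f436704 IH) (Lpn (LP (LK LD1_c5 LD2_c54 LD3_c0))))
theorem f545604 : Led Lsl_bt (LP (LK LD1_c4 LD2_c42 LD3_c58)) = (LP (LK LD1_c4 LD2_c34 LD3_c22)) :=
  Lgr Lrot95 (Lpr_df (f436706 IH) (Lpr_bf (K38.f545597 IH) (Lpe (K38.f132420 IH) (Lpn (LP (LK LD1_c4 LD2_c34 LD3_c22))))))
theorem f559624 : (LP (LK LD1_c2 LD2_c33 LD3_c4)) = v1763 :=
  (Llr Lrot149 (Lpe (K28.f197359 IH) (Lpe (K27.f211994 IH) (Lpe (f559619 IH) (Lpe (f541333 IH) (Lpr_ct (K36.f541322 IH) (Lpe (f46871 IH) (Lpr_cf (f559606 IH) (Lpr_bt (f545604 IH) (Lpr_gf (f557526 IH) (Lpe (f501335 IH) (Lpr_ct (f501336 IH) (Lpn v1763))))))))))))).symm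
theorem f559637 : Led Lsl_cf (LP (LK LD1_c5 LD2_c12 LD3_c28)) = (LP (LK LD1_c3 LD2_c0 LD3_c12)) :=
  Lgr Lrot39 (Lpr_et (K28.f302652 IH) (Lpqs (f559624 IH) (Lpe (f501338 IH) (Lpr_et (K36.f427716 IH) (Lpn (LP (LK LD1_c3 LD2_c0 LD3_c12)))))))
theorem f387444 : Led Lsl_dt (LP (LK LD1_c2 LD2_c56 LD3_c56)) = (LP (LK LD1_c5 LD2_c12 LD3_c28)) :=
  Lgr Lrot42 (Lpr_df (K28.f387441 IH) (Lpn (LP (LK LD1_c5 LD2_c12 LD3_c28))))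
theorem f427714 : Led Lsl_dt (LP (LK LD1_c6 LD2_c7 LD3_c58)) = (LP (LK LD1_c3 LD2_c0 LD3_c12)) :=
  Lre_d IH (LK LD1_c6 LD2_c7 LD3_c58) (LK LD1_c3 LD2_c0 LD3_c12) Lrfl Lrfl
theorem f559645 : Led Lsl_gt (LP (LK LD1_c5 LD2_c53 LD3_c9)) = (LP (LK LD1_c6 LD2_c7 LD3_c58)) :=
  Lgr Lrot49 (Lpe (K39.f211087 IH) (Lpq (K36.f537904 IH) (Lpq (K39.f555895 IH) (Lpe (K39.f500704 IH) (Lpqs (K36.f539251 IH) (Lpe (K31.f500913 IH) (Lpr_gt (K31.f176571 IH) (Lpr_dt (K28.f387455 IH) (Lpr_gt (K28.f186320 IH) (Lpr_dt (f387444 IH) (Lpr_cf (f559637 IH) (Lpe (f427714 IH) (Lpn (LP (LK LD1_c6 LD2_c7 LD3_c58)))))))))))))))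
theorem f81947 : Led Lsl_dt (LP (LK LD1_c2 LD2_c54 LD3_c14)) = (LP (LK LD1_c1 LD2_c23 LD3_c6)) :=
  Lre_d IH (LK LD1_c2 LD2_c54 LD3_c14) (LK LD1_c1 LD2_c23 LD3_c6) Lrfl Lrfl
theorem f541539 : Led Lsl_ff (LP (LK LD1_c2 LD2_c54 LD3_c14)) = (LP (LK LD1_c4 LD2_c37 LD3_c36)) :=
  Lgr Lrot19 (Lpr_dt (f81947 IH) (Lpr_ft (K36.f500520 IH) (Lpqs (K36.f541536 IH) (Lpr_dt (K38.f537982 IH) (Lpn (LP (LK LD1_c4 LD2_c37 LD3_c36)))))))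
theorem f555902 : Led Lsl_bt (LP (LK LD1_c2 LD2_c54 LD3_c14)) = (LP (LK LD1_c5 LD2_c53 LD3_c9)) :=
  Lgr Lrot35 (Lpr_ff (f541539 IH) (Lpr_bf (K36.f541524 IH) (Lpr_ff (K39.f555898 IH) (Lpn (LP (LK LD1_c5 LD2_c53 LD3_c9))))))
theorem f500518 : Led Lsl_ct (LP (LK LD1_c2 LD2_c54 LD3_c14)) = (LP (LK LD1_c5 LD2_c55 LD3_c46)) :=
  Lre_c IH (LK LD1_c2 LD2_c54 LD3_c14) (LK LD1_c5 LD2_c55 LD3_c46) Lrfl Lrfl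
theorem f500686 : Led Lsl_af (LP (LK LD1_c1 LD2_c23 LD3_c58)) = K36.v1672 :=
  Lgr Lrot50 (Lpr_et (K36.f386761 IH) (Lpe (K27.f386718 IH) (Lpr_et (K36.f500685 IH) (Lpn K36.v1672))))
theorem f500705 : Led Lsl_gf (LP (LK LD1_c1 LD2_c23 LD3_c58)) = K39.v1673 :=
  Lgr Lrot76 (Lpr_af (f500686 IH) (Lpe (K36.f500690 IH) (Lpr_gt (K39.f500704 IH) (Lpn K39.v1673))))
theorem f100572 : Led Lsl_dt (LP (LK LD1_c4 LD2_c57 LD3_c2)) = (LP (LK LD1_c9 LD2_c45 LD3_c12)) :=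
  Lre_d IH (LK LD1_c4 LD2_c57 LD3_c2) (LK LD1_c9 LD2_c45 LD3_c12) Lrfl Lrfl
theorem f101566 : Led Lsl_ct (LP (LK LD1_c17 LD2_c54 LD3_c50)) = (LP (LK LD1_c9 LD2_c45 LD3_c12)) :=
  Lre_c IH (LK LD1_c17 LD2_c54 LD3_c50) (LK LD1_c9 LD2_c45 LD3_c12) Lrfl Lrfl
theorem f101570 : Led Lsl_gt (LP (LK LD1_c9 LD2_c50 LD3_c48)) = (LP (LK LD1_c17 LD2_c54 LD3_c50)) :=
  Lre_g IH (LK LD1_c9 LD2_c50 LD3_c48) (LK LD1_c17 LD2_c54 LD3_c50) Lrfl Lrfl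
theorem f559650 : Led Lsl_cf (LP (LK LD1_c9 LD2_c50 LD3_c48)) = (LP (LK LD1_c6 LD2_c7 LD3_c58)) :=
  Lgr Lrot169 (Lpr_gt (f101570 IH) (Lpr_ct (f101566 IH) (Lpe (f100572 IH) (Lpe (K36.f101557 IH) (Lpe (K36.f101563 IH) (Lpq (K36.f539220 IH) (Lpe (K36.f500729 IH) (Lpr_gf (f500705 IH) (Lpqs (K39.f555895 IH) (Lpqs (K36.f537904 IH) (Lpe (K38.f211091 IH) (Lpr_gt (f559645 IH) (Lpn (LP (LK LD1_c6 LD2_c7 LD3_c58)))))))))))))))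
theorem f100503 : Led Lsl_ct (LP (LK LD1_c9 LD2_c45 LD3_c12)) = (LP (LK LD1_c17 LD2_c54 LD3_c50)) :=
  Lre_c IH (LK LD1_c9 LD2_c45 LD3_c12) (LK LD1_c17 LD2_c54 LD3_c50) Lrfl Lrfl
theorem f100501 : Led Lsl_bt (LP (LK LD1_c9 LD2_c45 LD3_c12)) = (LP (LK LD1_c12 LD2_c5 LD3_c30)) :=
  Lgr Lrot127 (Lpr_bf (K7.f100493 IH) (Lpn (LP (LK LD1_c12 LD2_c5 LD3_c30))))
theorem f100539 : Led Lsl_gt (LP (LK LD1_c12 LD2_c5 LD3_c30)) = (LP (LK LD1_c6 LD2_c13 LD3_c26)) :=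
  Lre_g IH (LK LD1_c12 LD2_c5 LD3_c30) (LK LD1_c6 LD2_c13 LD3_c26) Lrfl Lrfl
theorem f559654 : Led Lsl_gf (LP (LK LD1_c5 LD2_c55 LD3_c46)) = (LP (LK LD1_c11 LD2_c32 LD3_c45)) :=
  Lgr Lrot126 (Lpe (f500518 IH) (Lpr_bt (f555902 IH) (Lpr_gt (f559645 IH) (Lpe (f559650 IH) (Lpr_gt (f101570 IH) (Lpe (f100503 IH) (Lpr_bt (f100501 IH) (Lpr_gt (f100539 IH) (Lpe (K38.f101571 IH) (Lpe (K38.f549672 IH) (Lpn (LP (LK LD1_c11 LD2_c32 LD3_c45)))))))))))))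
theorem f210978 : Led Lsl_dt (LP (LK LD1_c2 LD2_c14 LD3_c45)) = (LP (LK LD1_c4 LD2_c35 LD3_c12)) :=
  Lre_d IH (LK LD1_c2 LD2_c14 LD3_c45) (LK LD1_c4 LD2_c35 LD3_c12) Lrfl Lrfl
theorem f449871 : Led Lsl_ft (LP (LK LD1_c4 LD2_c35 LD3_c12)) = (LP (LK LD1_c2 LD2_c52 LD3_c61)) :=
  Lgr Lrot54 (Lpe (f210978 IH) (Lpr_ff (K36.f449858 IH) (Lpe (K36.f198276 IH) (Lpn (LP (LK LD1_c2 LD2_c52 LD3_c61))))))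
theorem f193822 : Led Lsl_ct (LP (LK LD1_c9 LD2_c7 LD3_c4)) = (LP (LK LD1_c4 LD2_c35 LD3_c12)) :=
  Lre_c IH (LK LD1_c9 LD2_c7 LD3_c4) (LK LD1_c4 LD2_c35 LD3_c12) Lrfl Lrfl
theorem f449876 : Led Lsl_ff (LP (LK LD1_c9 LD2_c7 LD3_c4)) = (LP (LK LD1_c5 LD2_c53 LD3_c20)) :=
  Lgr Lrot23 (Lpr_ct (f193822 IH) (Lpr_ft (f449871 IH) (Lpr_ct (K38.f186500 IH) (Lpn (LP (LK LD1_c5 LD2_c53 LD3_c20))))))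
theorem f559658 : Led Lsl_af (LP (LK LD1_c5 LD2_c55 LD3_c46)) = (LP (LK LD1_c9 LD2_c7 LD3_c4)) :=
  Lgr Lrot31 (Lpr_gf (f559654 IH) (Lpe (K38.f198533 IH) (Lpe (f449876 IH) (Lpn (LP (LK LD1_c9 LD2_c7 LD3_c4))))))
theorem f541498 : Led Lsl_ct (LP (LK LD1_c4 LD2_c37 LD3_c36)) = (LP (LK LD1_c9 LD2_c10 LD3_c50)) :=
  Lre_c IH (LK LD1_c4 LD2_c37 LD3_c36) (LK LD1_c9 LD2_c10 LD3_c50) Lrfl Lrfl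
theorem f186498 : Led Lsl_ct (LP (LK LD1_c5 LD2_c53 LD3_c20)) = (LP (LK LD1_c2 LD2_c52 LD3_c61)) :=
  Lre_c IH (LK LD1_c5 LD2_c53 LD3_c20) (LK LD1_c2 LD2_c52 LD3_c61) Lrfl Lrfl
theorem f541499 : Led Lsl_at (LP (LK LD1_c9 LD2_c10 LD3_c50)) = (LP (LK LD1_c5 LD2_c53 LD3_c20)) :=
  Lgr Lrot107 (Lpe (f541498 IH) (Lpr_af (K36.f541491 IH) (Lpe (f186498 IH) (Lpn (LP (LK LD1_c5 LD2_c53 LD3_c20))))))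
theorem f559668 : Led Lsl_ft (LP (LK LD1_c5 LD2_c55 LD3_c46)) = (LP (LK LD1_c9 LD2_c10 LD3_c50)) :=
  Lgr Lrot101 (Lpr_af (f559658 IH) (Lpr_ff (f449876 IH) (Lpe (f541499 IH) (Lpn (LP (LK LD1_c9 LD2_c10 LD3_c50))))))
theorem f186501 : Led Lsl_gt (LP (LK LD1_c11 LD2_c32 LD3_c46)) = (LP (LK LD1_c5 LD2_c53 LD3_c20)) :=
  Lre_g IH (LK LD1_c11 LD2_c32 LD3_c46) (LK LD1_c5 LD2_c53 LD3_c20) Lrfl Lrfl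
theorem f559672 : Led Lsl_gt (LP (LK LD1_c5 LD2_c55 LD3_c46)) = (LP (LK LD1_c11 LD2_c32 LD3_c46)) :=
  Lgr Lrot5 (Lpr_ft (f559668 IH) (Lpr_at (f541499 IH) (Lpe (f186501 IH) (Lpn (LP (LK LD1_c11 LD2_c32 LD3_c46))))))
theorem f552441 : Led Lsl_gt (LP (LK LD1_c5 LD2_c53 LD3_c19)) = (LP (LK LD1_c2 LD2_c54 LD3_c14)) :=
  Lgr Lrot112 (Lpr_df (K39.f552431 IH) (Lpr_et (K39.f407824 IH) (Lpe (K38.f174632 IH) (Lpr_ef (K38.f452710 IH) (Lpq (K36.f537236 IH) (Lpe (K8.f141833 IH) (Lpe (K7.f59559 IH) (Lpe (K6.f24072 IH) (Lpe (K6.f69439 IH) (Lpe (K36.f71961 IH) (Lpr_dt (K36.f71962 IH) (Lpn (LP (LK LD1_c2 LD2_c54 LD3_c14))))))))))))))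
theorem f552428 : Led Lsl_bf (LP (LK LD1_c5 LD2_c53 LD3_c19)) = (LP (LK LD1_c9 LD2_c8 LD3_c8)) :=
  Lgr Lrot24 (Lpr_bt (K39.f552426 IH) (Lpn (LP (LK LD1_c9 LD2_c8 LD3_c8))))
theorem f24011 : Led Lsl_ct (LP (LK LD1_c9 LD2_c14 LD3_c26)) = (LP (LK LD1_c4 LD2_c39 LD3_c23)) :=
  Lre_c IH (LK LD1_c9 LD2_c14 LD3_c26) (LK LD1_c4 LD2_c39 LD3_c23) Lrfl Lrfl
theorem f175718 : Led Lsl_bt (LP (LK LD1_c2 LD2_c57 LD3_c58)) = (LP (LK LD1_c1 LD2_c24 LD3_c40)) :=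
  Lre_b IH (LK LD1_c2 LD2_c57 LD3_c58) (LK LD1_c1 LD2_c24 LD3_c40) Lrfl Lrfl
theorem f175719 : Led Lsl_ct (LP (LK LD1_c2 LD2_c57 LD3_c58)) = (LP (LK LD1_c6 LD2_c3 LD3_c41)) :=
  Lre_c IH (LK LD1_c2 LD2_c57 LD3_c58) (LK LD1_c6 LD2_c3 LD3_c41) Lrfl Lrfl
theorem f539027 : Led Lsl_gf (LP (LK LD1_c6 LD2_c3 LD3_c41)) = (LP (LK LD1_c5 LD2_c52 LD3_c61)) :=
  Lgr Lrot126 (Lpe (f175719 IH) (Lpr_bt (f175718 IH) (Lpr_gt (K10.f9427 IH) (Lpr_ct (K0.f9337 IH) (Lpe (K11.f9344 IH) (Lpe (K36.f186156 IH) (Lpr_bt (K36.f539021 IH) (Lpr_gt (K35.f211680 IH) (Lpe (K37.f380363 IH) (Lpr_ct (K38.f380391 IH) (Lpn (LP (LK LD1_c5 LD2_c52 LD3_c61)))))))))))))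
theorem f285321 : Led Lsl_gt (LP (LK LD1_c6 LD2_c3 LD3_c41)) = (LP (LK LD1_c11 LD2_c50 LD3_c52)) :=
  Lre_g IH (LK LD1_c6 LD2_c3 LD3_c41) (LK LD1_c11 LD2_c50 LD3_c52) Lrfl Lrfl
theorem f450539 : Led Lsl_ft (LP (LK LD1_c5 LD2_c52 LD3_c61)) = (LP (LK LD1_c9 LD2_c6 LD3_c60)) :=
  Lgr Lrot48 (Lpr_ff (K37.f449394 IH) (Lpn (LP (LK LD1_c9 LD2_c6 LD3_c60))))
theorem f539029 : Led Lsl_af (LP (LK LD1_c11 LD2_c50 LD3_c52)) = (LP (LK LD1_c9 LD2_c6 LD3_c60)) :=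
  Lgr Lrot31 (Lpe (f285321 IH) (Lpr_gf (f539027 IH) (Lpr_ft (f450539 IH) (Lpn (LP (LK LD1_c9 LD2_c6 LD3_c60))))))
theorem f450543 : Led Lsl_at (LP (LK LD1_c11 LD2_c32 LD3_c4)) = (LP (LK LD1_c5 LD2_c52 LD3_c61)) :=
  Lre_a IH (LK LD1_c11 LD2_c32 LD3_c4) (LK LD1_c5 LD2_c52 LD3_c61) Lrfl Lrfl
theorem f539058 : Led Lsl_ft (LP (LK LD1_c11 LD2_c50 LD3_c52)) = (LP (LK LD1_c11 LD2_c32 LD3_c4)) :=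
  Lgr Lrot101 (Lpr_af (f539029 IH) (Lpe (f450539 IH) (Lpe (f450543 IH) (Lpn (LP (LK LD1_c11 LD2_c32 LD3_c4))))))
theorem f380392 : Led Lsl_gt (LP (LK LD1_c11 LD2_c32 LD3_c12)) = (LP (LK LD1_c5 LD2_c52 LD3_c61)) :=
  Lre_g IH (LK LD1_c11 LD2_c32 LD3_c12) (LK LD1_c5 LD2_c52 LD3_c61) Lrfl Lrfl
theorem f539063 : Led Lsl_gt (LP (LK LD1_c11 LD2_c50 LD3_c52)) = (LP (LK LD1_c11 LD2_c32 LD3_c12)) :=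
  Lgr Lrot5 (Lpr_ft (f539058 IH) (Lpr_at (f450543 IH) (Lpe (f380392 IH) (Lpn (LP (LK LD1_c11 LD2_c32 LD3_c12))))))
theorem f23934 : Led Lsl_bt (LP (LK LD1_c2 LD2_c16 LD3_c40)) = (LP (LK LD1_c4 LD2_c39 LD3_c23)) :=
  Lre_b IH (LK LD1_c2 LD2_c16 LD3_c40) (LK LD1_c4 LD2_c39 LD3_c23) Lrfl Lrfl
theorem f23935 : Led Lsl_bt (LP (LK LD1_c6 LD2_c9 LD3_c2)) = (LP (LK LD1_c3 LD2_c0 LD3_c54)) :=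
  Lre_b IH (LK LD1_c6 LD2_c9 LD3_c2) (LK LD1_c3 LD2_c0 LD3_c54) Lrfl Lrfl
theorem f23936 : Led Lsl_dt (LP (LK LD1_c4 LD2_c39 LD3_c23)) = (LP (LK LD1_c6 LD2_c9 LD3_c2)) :=
  Lgr Lrot79 (Lpe (f23934 IH) (Lpr_df (K9.f23931 IH) (Lpe (f23935 IH) (Lpn (LP (LK LD1_c6 LD2_c9 LD3_c2))))))
theorem f285266 : Led Lsl_ff (LP (LK LD1_c4 LD2_c39 LD3_c23)) = (LP (LK LD1_c2 LD2_c57 LD3_c58)) :=
  Lgr Lrot19 (Lpr_dt (f23936 IH) (Lpr_ft (K39.f285264 IH) (Lpe (K38.f175706 IH) (Lpn (LP (LK LD1_c2 LD2_c57 LD3_c58))))))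
theorem f285273 : Led Lsl_ft (LP (LK LD1_c4 LD2_c39 LD3_c23)) = (LP (LK LD1_c2 LD2_c57 LD3_c58)) :=
  Lgr Lrot48 (Lpr_ff (f285266 IH) (Lpn (LP (LK LD1_c2 LD2_c57 LD3_c58))))
theorem f285275 : Led Lsl_ff (LP (LK LD1_c9 LD2_c14 LD3_c26)) = (LP (LK LD1_c6 LD2_c3 LD3_c41)) :=
  Lgr Lrot23 (Lpr_ct (f24011 IH) (Lpr_ft (f285273 IH) (Lpr_ct (f175719 IH) (Lpn (LP (LK LD1_c6 LD2_c3 LD3_c41))))))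
theorem f539065 : Led Lsl_at (LP (LK LD1_c9 LD2_c14 LD3_c26)) = (LP (LK LD1_c11 LD2_c32 LD3_c12)) :=
  Lgr Lrot26 (Lpr_ff (f285275 IH) (Lpr_gt (f285321 IH) (Lpr_gt (f539063 IH) (Lpn (LP (LK LD1_c11 LD2_c32 LD3_c12))))))
theorem f539068 : Led Lsl_af (LP (LK LD1_c9 LD2_c14 LD3_c26)) = (LP (LK LD1_c11 LD2_c32 LD3_c12)) :=
  Lgr Lrot0 (Lpr_at (f539065 IH) (Lpn (LP (LK LD1_c11 LD2_c32 LD3_c12))))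
theorem f552417 : Led Lsl_cf (LP (LK LD1_c11 LD2_c32 LD3_c12)) = (LP (LK LD1_c9 LD2_c8 LD3_c8)) :=
  Lgr Lrot1 (Lpe (f539068 IH) (Lpr_ct (f24011 IH) (Lpr_at (K39.f552409 IH) (Lpn (LP (LK LD1_c9 LD2_c8 LD3_c8))))))
theorem f541447 : Led Lsl_bt (LP (LK LD1_c9 LD2_c6 LD3_c39)) = (LP (LK LD1_c4 LD2_c34 LD3_c59)) :=
  Lre_b IH (LK LD1_c9 LD2_c6 LD3_c39) (LK LD1_c4 LD2_c34 LD3_c59) Lrfl Lrfl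
theorem f186441 : Led Lsl_gt (LP (LK LD1_c11 LD2_c51 LD3_c7)) = (LP (LK LD1_c6 LD2_c3 LD3_c48)) :=
  Lre_g IH (LK LD1_c11 LD2_c51 LD3_c7) (LK LD1_c6 LD2_c3 LD3_c48) Lrfl Lrfl
theorem f548276 : Led Lsl_ct (LP (LK LD1_c9 LD2_c6 LD3_c39)) = (LP (LK LD1_c11 LD2_c51 LD3_c7)) :=
  Lgr Lrot64 (Lpr_bt (f541447 IH) (Lpr_gf (K38.f548269 IH) (Lpe (K38.f186094 IH) (Lpr_ct (K36.f186099 IH) (Lpe (K11.f175396 IH) (Lpe (K0.f9346 IH) (Lpe (K9.f9383 IH) (Lpe (K36.f175390 IH) (Lpr_ct (K38.f175616 IH) (Lpe (f186441 IH) (Lpn (LP (LK LD1_c11 LD2_c51 LD3_c7)))))))))))))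
theorem f548296 : Led Lsl_gt (LP (LK LD1_c16 LD2_c58 LD3_c42)) = (LP (LK LD1_c9 LD2_c6 LD3_c39)) :=
  Lre_g IH (LK LD1_c16 LD2_c58 LD3_c42) (LK LD1_c9 LD2_c6 LD3_c39) Lrfl Lrfl
theorem f175798 : Led Lsl_bt (LP (LK LD1_c1 LD2_c24 LD3_c14)) = (LP (LK LD1_c0 LD2_c39 LD3_c0)) :=
  Lre_b IH (LK LD1_c1 LD2_c24 LD3_c14) (LK LD1_c0 LD2_c39 LD3_c0) Lrfl Lrfl
theorem f175799 : Led Lsl_ct (LP (LK LD1_c1 LD2_c24 LD3_c14)) = (LP (LK LD1_c2 LD2_c56 LD3_c58)) :=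
  Lre_c IH (LK LD1_c1 LD2_c24 LD3_c14) (LK LD1_c2 LD2_c56 LD3_c58) Lrfl Lrfl
theorem f387458 : Led Lsl_gt (LP (LK LD1_c2 LD2_c56 LD3_c58)) = (LP (LK LD1_c6 LD2_c1 LD3_c36)) :=
  Lre_g IH (LK LD1_c2 LD2_c56 LD3_c58) (LK LD1_c6 LD2_c1 LD3_c36) Lrfl Lrfl
theorem f545784 : Led Lsl_ct (LP (LK LD1_c11 LD2_c16 LD3_c38)) = (LP (LK LD1_c5 LD2_c43 LD3_c12)) :=
  Lre_c IH (LK LD1_c11 LD2_c16 LD3_c38) (LK LD1_c5 LD2_c43 LD3_c12) Lrfl Lrfl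
theorem f545821 : Led Lsl_gt (LP (LK LD1_c6 LD2_c1 LD3_c36)) = (LP (LK LD1_c11 LD2_c16 LD3_c38)) :=
  Lre_g IH (LK LD1_c6 LD2_c1 LD3_c36) (LK LD1_c11 LD2_c16 LD3_c38) Lrfl Lrfl
theorem f211080 : Led Lsl_dt (LP (LK LD1_c4 LD2_c35 LD3_c6)) = (LP (LK LD1_c2 LD2_c14 LD3_c39)) :=
  Lre_d IH (LK LD1_c4 LD2_c35 LD3_c6) (LK LD1_c2 LD2_c14 LD3_c39) Lrfl Lrfl
theorem f449347 : Led Lsl_gt (LP (LK LD1_c4 LD2_c35 LD3_c6)) = (LP (LK LD1_c9 LD2_c6 LD3_c56)) :=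
  Lre_g IH (LK LD1_c4 LD2_c35 LD3_c6) (LK LD1_c9 LD2_c6 LD3_c56) Lrfl Lrfl
theorem f545822 : Led Lsl_cf (LP (LK LD1_c6 LD2_c1 LD3_c36)) = (LP (LK LD1_c9 LD2_c6 LD3_c56)) :=
  Lgr Lrot169 (Lpr_gt (f545821 IH) (Lpr_ct (f545784 IH) (Lpe (K28.f387440 IH) (Lpe (K31.f100571 IH) (Lpe (K31.f100576 IH) (Lpr_cf (K37.f545812 IH) (Lpe (K36.f211065 IH) (Lpe (f211080 IH) (Lpr_gt (f449347 IH) (Lpn (LP (LK LD1_c9 LD2_c6 LD3_c56))))))))))))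
theorem f548297 : Led Lsl_bf (LP (LK LD1_c16 LD2_c58 LD3_c42)) = (LP (LK LD1_c9 LD2_c6 LD3_c56)) :=
  Lgr Lrot165 (Lpr_gt (f548296 IH) (Lpr_ct (f548276 IH) (Lpr_gt (f186441 IH) (Lpe (K38.f175616 IH) (Lpr_bt (K36.f175390 IH) (Lpr_gt (K9.f9383 IH) (Lpe (f175798 IH) (Lpr_ct (f175799 IH) (Lpr_gt (f387458 IH) (Lpr_cf (f545822 IH) (Lpn (LP (LK LD1_c9 LD2_c6 LD3_c56)))))))))))))
theorem f387450 : Led Lsl_ct (LP (LK LD1_c5 LD2_c43 LD3_c12)) = (LP (LK LD1_c11 LD2_c16 LD3_c38)) :=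
  Lre_c IH (LK LD1_c5 LD2_c43 LD3_c12) (LK LD1_c11 LD2_c16 LD3_c38) Lrfl Lrfl
theorem f546068 : Led Lsl_bf (LP (LK LD1_c2 LD2_c54 LD3_c48)) = (LP (LK LD1_c5 LD2_c43 LD3_c12)) :=
  Lgr Lrot24 (Lpr_bt (K37.f546063 IH) (Lpn (LP (LK LD1_c5 LD2_c43 LD3_c12))))
theorem f545829 : Led Lsl_ft (LP (LK LD1_c5 LD2_c43 LD3_c12)) = (LP (LK LD1_c2 LD2_c55 LD3_c1)) :=
  Lre_f IH (LK LD1_c5 LD2_c43 LD3_c12) (LK LD1_c2 LD2_c55 LD3_c1) Lrfl Lrfl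
theorem f509277 : Led Lsl_bt (LP (LK LD1_c2 LD2_c55 LD3_c1)) = (LP (LK LD1_c4 LD2_c36 LD3_c37)) :=
  Lre_b IH (LK LD1_c2 LD2_c55 LD3_c1) (LK LD1_c4 LD2_c36 LD3_c37) Lrfl Lrfl
theorem f546073 : Led Lsl_ff (LP (LK LD1_c2 LD2_c54 LD3_c48)) = (LP (LK LD1_c4 LD2_c36 LD3_c37)) :=
  Lgr Lrot25 (Lpr_bt (K37.f546063 IH) (Lpr_ft (f545829 IH) (Lpr_bt (f509277 IH) (Lpn (LP (LK LD1_c4 LD2_c36 LD3_c37))))))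
theorem f546079 : Led Lsl_ft (LP (LK LD1_c2 LD2_c54 LD3_c48)) = (LP (LK LD1_c4 LD2_c36 LD3_c37)) :=
  Lgr Lrot48 (Lpr_ff (f546073 IH) (Lpn (LP (LK LD1_c4 LD2_c36 LD3_c37))))
theorem f509271 : Led Lsl_at (LP (LK LD1_c4 LD2_c36 LD3_c37)) = (LP (LK LD1_c2 LD2_c16 LD3_c16)) :=
  Lre_a IH (LK LD1_c4 LD2_c36 LD3_c37) (LK LD1_c2 LD2_c16 LD3_c16) Lrfl Lrfl
theorem f176557 : Led Lsl_gt (LP (LK LD1_c4 LD2_c38 LD3_c26)) = (LP (LK LD1_c2 LD2_c16 LD3_c16)) :=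
  Lre_g IH (LK LD1_c4 LD2_c38 LD3_c26) (LK LD1_c2 LD2_c16 LD3_c16) Lrfl Lrfl
theorem f546084 : Led Lsl_gt (LP (LK LD1_c2 LD2_c54 LD3_c48)) = (LP (LK LD1_c4 LD2_c38 LD3_c26)) :=
  Lgr Lrot5 (Lpr_ft (f546079 IH) (Lpr_at (f509271 IH) (Lpe (f176557 IH) (Lpn (LP (LK LD1_c4 LD2_c38 LD3_c26))))))
theorem f541567 : Led Lsl_ct (LP (LK LD1_c4 LD2_c38 LD3_c26)) = (LP (LK LD1_c9 LD2_c12 LD3_c42)) :=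
  Lre_c IH (LK LD1_c4 LD2_c38 LD3_c26) (LK LD1_c9 LD2_c12 LD3_c42) Lrfl Lrfl
theorem f142144 : Led Lsl_et (LP (LK LD1_c1 LD2_c5 LD3_c3)) = (LP (LK LD1_c0 LD2_c29 LD3_c43)) :=
  Lre_e IH (LK LD1_c1 LD2_c5 LD3_c3) (LK LD1_c0 LD2_c29 LD3_c43) Lrfl Lrfl
theorem f541563 : Led Lsl_df (LP (LK LD1_c4 LD2_c38 LD3_c26)) = (LP (LK LD1_c3 LD2_c58 LD3_c51)) :=
  Lgr Lrot170 (Lpr_gt (f176557 IH) (Lpe (K37.f142145 IH) (Lpr_et (f142144 IH) (Lpe (K8.f142138 IH) (Lpr_dt (K7.f141270 IH) (Lpr_gt (K35.f157166 IH) (Lpe (K4.f72996 IH) (Lpr_et (K35.f72981 IH) (Lpr_gt (K35.f541557 IH) (Lpe (K30.f173305 IH) (Lpn (LP (LK LD1_c3 LD2_c58 LD3_c51)))))))))))))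
theorem f193835 : Led Lsl_dt (LP (LK LD1_c6 LD2_c7 LD3_c45)) = (LP (LK LD1_c3 LD2_c0 LD3_c2)) :=
  Lre_d IH (LK LD1_c6 LD2_c7 LD3_c45) (LK LD1_c3 LD2_c0 LD3_c2) Lrfl Lrfl
theorem f541571 : Led Lsl_ft (LP (LK LD1_c4 LD2_c38 LD3_c26)) = (LP (LK LD1_c6 LD2_c7 LD3_c45)) :=
  Lgr Lrot54 (Lpr_df (f541563 IH) (Lpr_ff (K30.f385362 IH) (Lpe (f193835 IH) (Lpn (LP (LK LD1_c6 LD2_c7 LD3_c45))))))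
theorem f541581 : Led Lsl_ff (LP (LK LD1_c4 LD2_c38 LD3_c26)) = (LP (LK LD1_c6 LD2_c7 LD3_c45)) :=
  Lgr Lrot3 (Lpr_ft (f541571 IH) (Lpn (LP (LK LD1_c6 LD2_c7 LD3_c45))))
theorem f227587 : Led Lsl_ct (LP (LK LD1_c11 LD2_c57 LD3_c55)) = (LP (LK LD1_c6 LD2_c7 LD3_c45)) :=
  Lre_c IH (LK LD1_c11 LD2_c57 LD3_c55) (LK LD1_c6 LD2_c7 LD3_c45) Lrfl Lrfl
theorem f541649 : Led Lsl_ft (LP (LK LD1_c9 LD2_c12 LD3_c42)) = (LP (LK LD1_c11 LD2_c57 LD3_c55)) :=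
  Lgr Lrot4 (Lpe (f541567 IH) (Lpr_ff (f541581 IH) (Lpe (f227587 IH) (Lpn (LP (LK LD1_c11 LD2_c57 LD3_c55))))))
theorem f541583 : Led Lsl_af (LP (LK LD1_c4 LD2_c38 LD3_c25)) = (LP (LK LD1_c6 LD2_c7 LD3_c45)) :=
  Lgr Lrot31 (Lpe (K37.f142146 IH) (Lpe (f176557 IH) (Lpr_ft (f541571 IH) (Lpn (LP (LK LD1_c6 LD2_c7 LD3_c45))))))
theorem f541603 : Led Lsl_et (LP (LK LD1_c4 LD2_c38 LD3_c25)) = (LP (LK LD1_c9 LD2_c12 LD3_c41)) :=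
  Lre_e IH (LK LD1_c4 LD2_c38 LD3_c25) (LK LD1_c9 LD2_c12 LD3_c41) Lrfl Lrfl
theorem f541604 : Led Lsl_et (LP (LK LD1_c11 LD2_c57 LD3_c53)) = (LP (LK LD1_c6 LD2_c7 LD3_c45)) :=
  Lre_e IH (LK LD1_c11 LD2_c57 LD3_c53) (LK LD1_c6 LD2_c7 LD3_c45) Lrfl Lrfl
theorem f541605 : Led Lsl_at (LP (LK LD1_c9 LD2_c12 LD3_c41)) = (LP (LK LD1_c11 LD2_c57 LD3_c53)) :=
  Lgr Lrot80 (Lpe (f541603 IH) (Lpr_af (f541583 IH) (Lpe (f541604 IH) (Lpn (LP (LK LD1_c11 LD2_c57 LD3_c53))))))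
theorem f541609 : Led Lsl_ct (LP (LK LD1_c17 LD2_c7 LD3_c0)) = (LP (LK LD1_c9 LD2_c12 LD3_c41)) :=
  Lre_c IH (LK LD1_c17 LD2_c7 LD3_c0) (LK LD1_c9 LD2_c12 LD3_c41) Lrfl Lrfl
theorem f541610 : Led Lsl_ct (LP (LK LD1_c11 LD2_c57 LD3_c53)) = (LP (LK LD1_c21 LD2_c2 LD3_c61)) :=
  Lre_c IH (LK LD1_c11 LD2_c57 LD3_c53) (LK LD1_c21 LD2_c2 LD3_c61) Lrfl Lrfl
theorem f541611 : Led Lsl_af (LP (LK LD1_c17 LD2_c7 LD3_c0)) = (LP (LK LD1_c21 LD2_c2 LD3_c61)) :=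
  Lgr Lrot68 (Lpr_ct (f541609 IH) (Lpr_at (f541605 IH) (Lpr_ct (f541610 IH) (Lpn (LP (LK LD1_c21 LD2_c2 LD3_c61))))))
theorem f541622 : Led Lsl_at (LP (LK LD1_c17 LD2_c7 LD3_c0)) = (LP (LK LD1_c21 LD2_c2 LD3_c61)) :=
  Lgr Lrot100 (Lpr_af (f541611 IH) (Lpn (LP (LK LD1_c21 LD2_c2 LD3_c61))))
theorem f541638 : Led Lsl_et (LP (LK LD1_c9 LD2_c12 LD3_c40)) = (LP (LK LD1_c17 LD2_c7 LD3_c0)) :=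
  Lre_e IH (LK LD1_c9 LD2_c12 LD3_c40) (LK LD1_c17 LD2_c7 LD3_c0) Lrfl Lrfl
theorem f541639 : Led Lsl_et (LP (LK LD1_c21 LD2_c2 LD3_c61)) = (LP (LK LD1_c11 LD2_c57 LD3_c55)) :=
  Lre_e IH (LK LD1_c21 LD2_c2 LD3_c61) (LK LD1_c11 LD2_c57 LD3_c55) Lrfl Lrfl
theorem f541640 : Led Lsl_af (LP (LK LD1_c9 LD2_c12 LD3_c40)) = (LP (LK LD1_c11 LD2_c57 LD3_c55)) :=
  Lgr Lrot50 (Lpr_et (f541638 IH) (Lpr_at (f541622 IH) (Lpr_et (f541639 IH) (Lpn (LP (LK LD1_c11 LD2_c57 LD3_c55))))))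
theorem f541594 : Led Lsl_gt (LP (LK LD1_c17 LD2_c6 LD3_c59)) = (LP (LK LD1_c9 LD2_c12 LD3_c40)) :=
  Lre_g IH (LK LD1_c17 LD2_c6 LD3_c59) (LK LD1_c9 LD2_c12 LD3_c40) Lrfl Lrfl
theorem f541651 : Led Lsl_gt (LP (LK LD1_c9 LD2_c12 LD3_c42)) = (LP (LK LD1_c17 LD2_c6 LD3_c59)) :=
  Lgr Lrot5 (Lpr_ft (f541649 IH) (Lpe (f541640 IH) (Lpe (f541594 IH) (Lpn (LP (LK LD1_c17 LD2_c6 LD3_c59))))))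
theorem f546087 : Led Lsl_cf (LP (LK LD1_c11 LD2_c37 LD3_c61)) = (LP (LK LD1_c17 LD2_c6 LD3_c59)) :=
  Lgr Lrot99 (Lpe (K38.f545256 IH) (Lpe (K38.f198269 IH) (Lpe (K38.f24489 IH) (Lpe (K2.f24488 IH) (Lpe (K37.f82182 IH) (Lpe (K37.f418493 IH) (Lpr_gt (f546084 IH) (Lpr_ct (f541567 IH) (Lpr_gt (f541651 IH) (Lpn (LP (LK LD1_c17 LD2_c6 LD3_c59))))))))))))
theorem f546090 : Led Lsl_ct (LP (LK LD1_c11 LD2_c37 LD3_c61)) = (LP (LK LD1_c17 LD2_c6 LD3_c59)) :=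
  Lgr Lrot59 (Lpr_cf (f546087 IH) (Lpn (LP (LK LD1_c17 LD2_c6 LD3_c59))))
theorem f548301 : Led Lsl_gf (LP (LK LD1_c16 LD2_c58 LD3_c42)) = (LP (LK LD1_c11 LD2_c29 LD3_c24)) :=
  Lgr Lrot124 (Lpr_bf (f548297 IH) (Lpe (f545822 IH) (Lpr_gt (f545821 IH) (Lpe (f387450 IH) (Lpe (f546068 IH) (Lpr_gt (f546084 IH) (Lpr_ct (f541567 IH) (Lpr_gt (f541651 IH) (Lpe (f546090 IH) (Lpr_bt (K38.f545264 IH) (Lpn (LP (LK LD1_c11 LD2_c29 LD3_c24)))))))))))))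
theorem f56046 : Led Lsl_bt (LP (LK LD1_c1 LD2_c56 LD3_c10)) = (LP (LK LD1_c3 LD2_c58 LD3_c51)) :=
  Lre_b IH (LK LD1_c1 LD2_c56 LD3_c10) (LK LD1_c3 LD2_c58 LD3_c51) Lrfl Lrfl
theorem f541565 : Led Lsl_bt (LP (LK LD1_c4 LD2_c38 LD3_c26)) = (LP (LK LD1_c2 LD2_c52 LD3_c58)) :=
  Lgr Lrot95 (Lpr_df (f541563 IH) (Lpe (f56046 IH) (Lpr_df (K10.f179000 IH) (Lpn (LP (LK LD1_c2 LD2_c52 LD3_c58))))))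
theorem f548303 : Led Lsl_ct (LP (LK LD1_c16 LD2_c58 LD3_c42)) = (LP (LK LD1_c11 LD2_c32 LD3_c46)) :=
  Lgr Lrot91 (Lpr_gf (f548301 IH) (Lpe (K38.f545264 IH) (Lpr_ct (f546090 IH) (Lpe (f541651 IH) (Lpe (f541567 IH) (Lpr_bt (f541565 IH) (Lpe (K10.f186495 IH) (Lpe (K36.f186497 IH) (Lpr_ct (K38.f186500 IH) (Lpe (f186501 IH) (Lpn (LP (LK LD1_c11 LD2_c32 LD3_c46)))))))))))))
theorem f548299 : Led Lsl_bt (LP (LK LD1_c16 LD2_c58 LD3_c42)) = (LP (LK LD1_c9 LD2_c6 LD3_c56)) :=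
  Lgr Lrot127 (Lpr_bf (f548297 IH) (Lpn (LP (LK LD1_c9 LD2_c6 LD3_c56))))
theorem f539864 : Led Lsl_et (LP (LK LD1_c9 LD2_c48 LD3_c40)) = (LP (LK LD1_c17 LD2_c58 LD3_c55)) :=
  Lre_e IH (LK LD1_c9 LD2_c48 LD3_c40) (LK LD1_c17 LD2_c58 LD3_c55) Lrfl Lrfl
theorem f450564 : Led Lsl_et (LP (LK LD1_c11 LD2_c32 LD3_c15)) = (LP (LK LD1_c5 LD2_c53 LD3_c2)) :=
  Lre_e IH (LK LD1_c11 LD2_c32 LD3_c15) (LK LD1_c5 LD2_c53 LD3_c2) Lrfl Lrfl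
theorem f539865 : Led Lsl_at (LP (LK LD1_c17 LD2_c58 LD3_c55)) = (LP (LK LD1_c11 LD2_c32 LD3_c15)) :=
  Lgr Lrot80 (Lpe (f539864 IH) (Lpr_af (K37.f539857 IH) (Lpe (f450564 IH) (Lpn (LP (LK LD1_c11 LD2_c32 LD3_c15))))))
theorem f539869 : Led Lsl_ct (LP (LK LD1_c9 LD2_c48 LD3_c41)) = (LP (LK LD1_c17 LD2_c58 LD3_c55)) :=
  Lre_c IH (LK LD1_c9 LD2_c48 LD3_c41) (LK LD1_c17 LD2_c58 LD3_c55) Lrfl Lrfl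
theorem f539870 : Led Lsl_ct (LP (LK LD1_c11 LD2_c32 LD3_c15)) = (LP (LK LD1_c5 LD2_c53 LD3_c3)) :=
  Lre_c IH (LK LD1_c11 LD2_c32 LD3_c15) (LK LD1_c5 LD2_c53 LD3_c3) Lrfl Lrfl
theorem f539871 : Led Lsl_af (LP (LK LD1_c9 LD2_c48 LD3_c41)) = (LP (LK LD1_c5 LD2_c53 LD3_c3)) :=
  Lgr Lrot68 (Lpr_ct (f539869 IH) (Lpr_at (f539865 IH) (Lpr_ct (f539870 IH) (Lpn (LP (LK LD1_c5 LD2_c53 LD3_c3))))))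
theorem f539881 : Led Lsl_at (LP (LK LD1_c9 LD2_c48 LD3_c41)) = (LP (LK LD1_c5 LD2_c53 LD3_c3)) :=
  Lgr Lrot100 (Lpr_af (f539871 IH) (Lpn (LP (LK LD1_c5 LD2_c53 LD3_c3))))
theorem f539885 : Led Lsl_et (LP (LK LD1_c4 LD2_c59 LD3_c6)) = (LP (LK LD1_c9 LD2_c48 LD3_c41)) :=
  Lre_e IH (LK LD1_c4 LD2_c59 LD3_c6) (LK LD1_c9 LD2_c48 LD3_c41) Lrfl Lrfl
theorem f211800 : Led Lsl_et (LP (LK LD1_c5 LD2_c53 LD3_c3)) = (LP (LK LD1_c2 LD2_c52 LD3_c48)) :=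
  Lre_e IH (LK LD1_c5 LD2_c53 LD3_c3) (LK LD1_c2 LD2_c52 LD3_c48) Lrfl Lrfl
theorem f539886 : Led Lsl_af (LP (LK LD1_c4 LD2_c59 LD3_c6)) = (LP (LK LD1_c2 LD2_c52 LD3_c48)) :=
  Lgr Lrot50 (Lpr_et (f539885 IH) (Lpr_at (f539881 IH) (Lpr_et (f211800 IH) (Lpn (LP (LK LD1_c2 LD2_c52 LD3_c48))))))
theorem f539888 : Led Lsl_gf (LP (LK LD1_c4 LD2_c59 LD3_c6)) = (LP (LK LD1_c9 LD2_c6 LD3_c56)) :=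
  Lgr Lrot76 (Lpr_af (f539886 IH) (Lpr_ff (K36.f449311 IH) (Lpr_gt (f449347 IH) (Lpn (LP (LK LD1_c9 LD2_c6 LD3_c56))))))
theorem f549838 : Led Lsl_dt (LP (LK LD1_c3 LD2_c59 LD3_c36)) = (LP (LK LD1_c8 LD2_c0 LD3_c18)) :=
  Lre_d IH (LK LD1_c3 LD2_c59 LD3_c36) (LK LD1_c8 LD2_c0 LD3_c18) Lrfl Lrfl
theorem f549846 : Led Lsl_bt (LP (LK LD1_c8 LD2_c0 LD3_c18)) = (LP (LK LD1_c4 LD2_c59 LD3_c6)) :=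
  Lgr Lrot95 (Lpe (f549838 IH) (Lpr_bf (K38.f549840 IH) (Lpqs (K36.f539836 IH) (Lpe (K37.f539833 IH) (Lpn (LP (LK LD1_c4 LD2_c59 LD3_c6)))))))
theorem f559674 : Led Lsl_cf (LP (LK LD1_c11 LD2_c50 LD3_c52)) = (LP (LK LD1_c8 LD2_c0 LD3_c18)) :=
  Lgr Lrot160 (Lpr_gt (f539063 IH) (Lpr_cf (f552417 IH) (Lpe (f552428 IH) (Lpr_gt (f552441 IH) (Lpr_ct (f500518 IH) (Lpr_gt (f559672 IH) (Lpe (f548303 IH) (Lpr_bt (f548299 IH) (Lpe (f539888 IH) (Lpe (f549846 IH) (Lpn (LP (LK LD1_c8 LD2_c0 LD3_c18)))))))))))))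
theorem f559684 : Led Lsl_ft (LP (LK LD1_c5 LD2_c52 LD3_c57)) = (LP (LK LD1_c8 LD2_c0 LD3_c18)) :=
  Lgr Lrot4 (Lpe (K39.f450557 IH) (Lpe (f539058 IH) (Lpr_cf (f559674 IH) (Lpn (LP (LK LD1_c8 LD2_c0 LD3_c18))))))
theorem f559688 : Led Lsl_ff (LP (LK LD1_c5 LD2_c52 LD3_c57)) = (LP (LK LD1_c8 LD2_c0 LD3_c18)) :=
  Lgr Lrot3 (Lpr_ft (f559684 IH) (Lpn (LP (LK LD1_c8 LD2_c0 LD3_c18))))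
theorem f210712 : Led Lsl_gt (LP (LK LD1_c5 LD2_c52 LD3_c60)) = (LP (LK LD1_c2 LD2_c52 LD3_c47)) :=
  Lre_g IH (LK LD1_c5 LD2_c52 LD3_c60) (LK LD1_c2 LD2_c52 LD3_c47) Lrfl Lrfl
theorem f559692 : Led Lsl_gf (LP (LK LD1_c5 LD2_c52 LD3_c60)) = (LP (LK LD1_c8 LD2_c0 LD3_c18)) :=
  Lgr Lrot47 (Lpr_gt (f210712 IH) (Lpe (K37.f449393 IH) (Lpr_ff (f559688 IH) (Lpn (LP (LK LD1_c8 LD2_c0 LD3_c18))))))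
theorem f539044 : Led Lsl_ct (LP (LK LD1_c5 LD2_c52 LD3_c60)) = (LP (LK LD1_c11 LD2_c32 LD3_c11)) :=
  Lre_c IH (LK LD1_c5 LD2_c52 LD3_c60) (LK LD1_c11 LD2_c32 LD3_c11) Lrfl Lrfl
theorem f208590 : Led Lsl_dt (LP (LK LD1_c2 LD2_c53 LD3_c10)) = (LP (LK LD1_c1 LD2_c22 LD3_c40)) :=
  Lre_d IH (LK LD1_c2 LD2_c53 LD3_c10) (LK LD1_c1 LD2_c22 LD3_c40) Lrfl Lrfl
theorem f208600 : Led Lsl_ct (LP (LK LD1_c5 LD2_c53 LD3_c40)) = (LP (LK LD1_c2 LD2_c53 LD3_c10)) :=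
  Lre_c IH (LK LD1_c5 LD2_c53 LD3_c40) (LK LD1_c2 LD2_c53 LD3_c10) Lrfl Lrfl
theorem f559694 : Led Lsl_gt (LP (LK LD1_c11 LD2_c32 LD3_c11)) = (LP (LK LD1_c5 LD2_c53 LD3_c40)) :=
  Lgr Lrot150 (Lpe (f539044 IH) (Lpr_gf (f559692 IH) (Lpe (f549838 IH) (Lpr_gt (K38.f112531 IH) (Lpr_ct (K38.f158372 IH) (Lpr_gt (K38.f549834 IH) (Lpr_ct (K2.f72279 IH) (Lpe (f208590 IH) (Lpe (f208600 IH) (Lpn (LP (LK LD1_c5 LD2_c53 LD3_c40))))))))))))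
theorem f208596 : Led Lsl_ct (LP (LK LD1_c2 LD2_c53 LD3_c10)) = (LP (LK LD1_c5 LD2_c53 LD3_c40)) :=
  Lre_c IH (LK LD1_c2 LD2_c53 LD3_c10) (LK LD1_c5 LD2_c53 LD3_c40) Lrfl Lrfl
theorem f208528 : Led Lsl_bt (LP (LK LD1_c2 LD2_c53 LD3_c10)) = (LP (LK LD1_c5 LD2_c53 LD3_c26)) :=
  Lre_b IH (LK LD1_c2 LD2_c53 LD3_c10) (LK LD1_c5 LD2_c53 LD3_c26) Lrfl Lrfl
theorem f386642 : Led Lsl_bt (LP (LK LD1_c5 LD2_c45 LD3_c5)) = (LP (LK LD1_c11 LD2_c20 LD3_c35)) :=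
  Lre_b IH (LK LD1_c5 LD2_c45 LD3_c5) (LK LD1_c11 LD2_c20 LD3_c35) Lrfl Lrfl
theorem f386646 : Led Lsl_ct (LP (LK LD1_c5 LD2_c45 LD3_c5)) = (LP (LK LD1_c11 LD2_c20 LD3_c36)) :=
  Lre_c IH (LK LD1_c5 LD2_c45 LD3_c5) (LK LD1_c11 LD2_c20 LD3_c36) Lrfl Lrfl
theorem f559690 : Led Lsl_bt (LP (LK LD1_c4 LD2_c59 LD3_c6)) = (LP (LK LD1_c8 LD2_c0 LD3_c18)) :=
  Lgr Lrot35 (Lpe (K37.f539839 IH) (Lpe (K37.f450547 IH) (Lpr_ff (f559688 IH) (Lpn (LP (LK LD1_c8 LD2_c0 LD3_c18))))))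
theorem f559698 : Led Lsl_gt (LP (LK LD1_c11 LD2_c20 LD3_c36)) = (LP (LK LD1_c9 LD2_c48 LD3_c40)) :=
  Lgr Lrot65 (Lpe (f386646 IH) (Lpr_bt (f386642 IH) (Lpe (f557518 IH) (Lpe (f208528 IH) (Lpr_ct (f208596 IH) (Lpe (f559694 IH) (Lpe (f539044 IH) (Lpr_gf (f559692 IH) (Lpe (f559690 IH) (Lpr_ct (K36.f539841 IH) (Lpn (LP (LK LD1_c9 LD2_c48 LD3_c40)))))))))))))
theorem f559700 : Led Lsl_gf (LP (LK LD1_c11 LD2_c20 LD3_c36)) = (LP (LK LD1_c9 LD2_c6 LD3_c58)) :=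
  Lgr Lrot47 (Lpr_gt (f559698 IH) (Lpr_af (K37.f539857 IH) (Lpr_ff (K36.f449352 IH) (Lpn (LP (LK LD1_c9 LD2_c6 LD3_c58))))))
theorem f386656 : Led Lsl_ct (LP (LK LD1_c11 LD2_c20 LD3_c36)) = (LP (LK LD1_c5 LD2_c45 LD3_c5)) :=
  Lre_c IH (LK LD1_c11 LD2_c20 LD3_c36) (LK LD1_c5 LD2_c45 LD3_c5) Lrfl Lrfl
theorem f20803 : Led Lsl_bt (LP (LK LD1_c4 LD2_c31 LD3_c14)) = (LP (LK LD1_c2 LD2_c12 LD3_c35)) :=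
  Lre_b IH (LK LD1_c4 LD2_c31 LD3_c14) (LK LD1_c2 LD2_c12 LD3_c35) Lrfl Lrfl
theorem f210990 : Led Lsl_cf (LP (LK LD1_c4 LD2_c31 LD3_c14)) = (LP (LK LD1_c2 LD2_c45 LD3_c9)) :=
  Lgr Lrot97 (Lpr_bt (f20803 IH) (Lpr_ct (K10.f20790 IH) (Lpr_bt (K10.f198327 IH) (Lpr_ct (K12.f210988 IH) (Lpr_bt (K38.f24536 IH) (Lpn (LP (LK LD1_c2 LD2_c45 LD3_c9))))))))
theorem f384145 : Led Lsl_et (LP (LK LD1_c2 LD2_c44 LD3_c41)) = (LP (LK LD1_c5 LD2_c37 LD3_c29)) :=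
  Lre_e IH (LK LD1_c2 LD2_c44 LD3_c41) (LK LD1_c5 LD2_c37 LD3_c29) Lrfl Lrfl
theorem f548701 : Led Lsl_gf (LP (LK LD1_c2 LD2_c45 LD3_c9)) = (LP (LK LD1_c5 LD2_c37 LD3_c29)) :=
  Lgr Lrot138 (Lpr_dt (K38.f24538 IH) (Lpr_gt (K38.f548695 IH) (Lpe (K38.f139024 IH) (Lpr_et (K36.f138894 IH) (Lpe (K8.f161274 IH) (Lpe (K32.f40706 IH) (Lpr_dt (K32.f161281 IH) (Lpr_gt (K38.f161282 IH) (Lpe (K38.f384143 IH) (Lpr_et (f384145 IH) (Lpn (LP (LK LD1_c5 LD2_c37 LD3_c29)))))))))))))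
theorem f211081 : Led Lsl_gt (LP (LK LD1_c9 LD2_c6 LD3_c57)) = (LP (LK LD1_c4 LD2_c35 LD3_c6)) :=
  Lre_g IH (LK LD1_c9 LD2_c6 LD3_c57) (LK LD1_c4 LD2_c35 LD3_c6) Lrfl Lrfl
theorem f559706 : Led Lsl_df (LP (LK LD1_c5 LD2_c37 LD3_c29)) = (LP (LK LD1_c9 LD2_c6 LD3_c57)) :=
  Lgr Lrot155 (Lpe (f548701 IH) (Lpe (f210990 IH) (Lpr_gt (f558455 IH) (Lpr_ct (f557508 IH) (Lpe (K27.f386640 IH) (Lpe (f386656 IH) (Lpr_gf (f559700 IH) (Lpe (K36.f26642 IH) (Lpe (f211081 IH) (Lpn (LP (LK LD1_c9 LD2_c6 LD3_c57))))))))))))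
theorem f421029 : Led Lsl_et (LP (LK LD1_c1 LD2_c28 LD3_c55)) = (LP (LK LD1_c3 LD2_c5 LD3_c45)) :=
  Lre_e IH (LK LD1_c1 LD2_c28 LD3_c55) (LK LD1_c3 LD2_c5 LD3_c45) Lrfl Lrfl
theorem f186452 : Led Lsl_gt (LP (LK LD1_c6 LD2_c17 LD3_c13)) = (LP (LK LD1_c3 LD2_c5 LD3_c45)) :=
  Lre_g IH (LK LD1_c6 LD2_c17 LD3_c13) (LK LD1_c3 LD2_c5 LD3_c45) Lrfl Lrfl
theorem f558355 : Led Lsl_ef (LP (LK LD1_c6 LD2_c17 LD3_c13)) = (LP (LK LD1_c5 LD2_c37 LD3_c28)) :=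
  Lgr Lrot114 (Lpr_gt (f186452 IH) (Lpe (f421029 IH) (Lpr_dt (f421027 IH) (Lpr_gt (f210790 IH) (Lpr_df (f558289 IH) (Lpe (f558339 IH) (Lpr_gt (f558347 IH) (Lpr_dt (K36.f381795 IH) (Lpr_gt (K39.f424010 IH) (Lpr_df (K38.f427671 IH) (Lpn (LP (LK LD1_c5 LD2_c37 LD3_c28)))))))))))))
theorem f558363 : Led Lsl_et (LP (LK LD1_c6 LD2_c17 LD3_c13)) = (LP (LK LD1_c5 LD2_c37 LD3_c28)) :=
  Lgr Lrot87 (Lpr_ef (f558355 IH) (Lpn (LP (LK LD1_c5 LD2_c37 LD3_c28))))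
theorem f558367 : Led Lsl_cf (LP (LK LD1_c6 LD2_c17 LD3_c13)) = (LP (LK LD1_c5 LD2_c37 LD3_c29)) :=
  Lgr Lrot39 (Lpr_et (f558363 IH) (Lpr_ct (K35.f289410 IH) (Lpr_et (f384145 IH) (Lpn (LP (LK LD1_c5 LD2_c37 LD3_c29))))))
theorem f139363 : Led Lsl_et (LP (LK LD1_c1 LD2_c11 LD3_c1)) = (LP (LK LD1_c0 LD2_c32 LD3_c55)) :=
  Lre_e IH (LK LD1_c1 LD2_c11 LD3_c1) (LK LD1_c0 LD2_c32 LD3_c55) Lrfl Lrfl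
theorem f139364 : Led Lsl_dt (LP (LK LD1_c1 LD2_c11 LD3_c1)) = (LP (LK LD1_c2 LD2_c27 LD3_c49)) :=
  Lre_d IH (LK LD1_c1 LD2_c11 LD3_c1) (LK LD1_c2 LD2_c27 LD3_c49) Lrfl Lrfl
theorem f175792 : Led Lsl_gt (LP (LK LD1_c5 LD2_c0 LD3_c6)) = (LP (LK LD1_c2 LD2_c27 LD3_c49)) :=
  Lre_g IH (LK LD1_c5 LD2_c0 LD3_c6) (LK LD1_c2 LD2_c27 LD3_c49) Lrfl Lrfl
theorem f558369 : Led Lsl_dt (LP (LK LD1_c6 LD2_c17 LD3_c13)) = (LP (LK LD1_c5 LD2_c0 LD3_c6)) :=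
  Lgr Lrot136 (Lpr_et (f558363 IH) (Lpe (K35.f541659 IH) (Lpe (K39.f72865 IH) (Lpr_dt (K4.f72844 IH) (Lpr_gf (K39.f139067 IH) (Lpe (K6.f138976 IH) (Lpe (K8.f139060 IH) (Lpe (f139363 IH) (Lpr_dt (f139364 IH) (Lpe (f175792 IH) (Lpn (LP (LK LD1_c5 LD2_c0 LD3_c6)))))))))))))
theorem f558371 : Led Lsl_df (LP (LK LD1_c6 LD2_c17 LD3_c13)) = (LP (LK LD1_c5 LD2_c0 LD3_c6)) :=
  Lgr Lrot38 (Lpr_dt (f558369 IH) (Lpn (LP (LK LD1_c5 LD2_c0 LD3_c6))))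
theorem f100511 : Led Lsl_gt (LP (LK LD1_c9 LD2_c45 LD3_c12)) = (LP (LK LD1_c5 LD2_c0 LD3_c6)) :=
  Lre_g IH (LK LD1_c9 LD2_c45 LD3_c12) (LK LD1_c5 LD2_c0 LD3_c6) Lrfl Lrfl
theorem f559708 : Led Lsl_gt (LP (LK LD1_c4 LD2_c59 LD3_c6)) = (LP (LK LD1_c9 LD2_c6 LD3_c57)) :=
  Lgr Lrot49 (Lpe (K36.f539832 IH) (Lpq (K36.f539826 IH) (Lpe (K36.f500368 IH) (Lpr_cf (K37.f541534 IH) (Lpr_gt (K31.f100576 IH) (Lpr_dt (f100572 IH) (Lpr_gt (f100511 IH) (Lpe (f558371 IH) (Lpr_cf (f558367 IH) (Lpr_df (f559706 IH) (Lpn (LP (LK LD1_c9 LD2_c6 LD3_c57)))))))))))))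
theorem f175802 : Led Lsl_ct (LP (LK LD1_c2 LD2_c56 LD3_c58)) = (LP (LK LD1_c1 LD2_c24 LD3_c14)) :=
  Lre_c IH (LK LD1_c2 LD2_c56 LD3_c58) (LK LD1_c1 LD2_c24 LD3_c14) Lrfl Lrfl
theorem f175800 : Led Lsl_gt (LP (LK LD1_c6 LD2_c1 LD3_c37)) = (LP (LK LD1_c2 LD2_c56 LD3_c58)) :=
  Lre_g IH (LK LD1_c6 LD2_c1 LD3_c37) (LK LD1_c2 LD2_c56 LD3_c58) Lrfl Lrfl
theorem f559710 : Led Lsl_cf (LP (LK LD1_c6 LD2_c1 LD3_c37)) = (LP (LK LD1_c9 LD2_c6 LD3_c57)) :=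
  Lgr Lrot169 (Lpr_gt (f175800 IH) (Lpr_ct (f175802 IH) (Lpe (K28.f387455 IH) (Lpe (K31.f176570 IH) (Lpr_gf (K36.f495287 IH) (Lpqs (K36.f539786 IH) (Lpe (K6.f101713 IH) (Lpe (K36.f72493 IH) (Lpe (K37.f539833 IH) (Lpr_gt (f559708 IH) (Lpn (LP (LK LD1_c9 LD2_c6 LD3_c57)))))))))))))
theorem f100639 : Led Lsl_gt (LP (LK LD1_c6 LD2_c13 LD3_c28)) = (LP (LK LD1_c12 LD2_c5 LD3_c28)) :=
  Lre_g IH (LK LD1_c6 LD2_c13 LD3_c28) (LK LD1_c12 LD2_c5 LD3_c28) Lrfl Lrfl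
theorem f559721 : Led Lsl_bf (LP (LK LD1_c12 LD2_c5 LD3_c28)) = (LP (LK LD1_c9 LD2_c6 LD3_c57)) :=
  Lgr Lrot34 (Lpe (f100639 IH) (Lpe (K9.f100498 IH) (Lpe (K9.f100604 IH) (Lpe (K10.f175788 IH) (Lpe (K10.f175684 IH) (Lpe (K10.f175573 IH) (Lpe (f175798 IH) (Lpr_ct (f175799 IH) (Lpe (f175800 IH) (Lpr_cf (f559710 IH) (Lpn (LP (LK LD1_c9 LD2_c6 LD3_c57)))))))))))))
theorem f100480 : Led Lsl_dt (LP (LK LD1_c3 LD2_c3 LD3_c27)) = (LP (LK LD1_c6 LD2_c13 LD3_c18)) :=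
  Lre_d IH (LK LD1_c3 LD2_c3 LD3_c27) (LK LD1_c6 LD2_c13 LD3_c18) Lrfl Lrfl
theorem f100471 : Led Lsl_gt (LP (LK LD1_c12 LD2_c5 LD3_c28)) = (LP (LK LD1_c6 LD2_c13 LD3_c18)) :=
  Lre_g IH (LK LD1_c12 LD2_c5 LD3_c28) (LK LD1_c6 LD2_c13 LD3_c18) Lrfl Lrfl
theorem f60729 : Led Lsl_gt (LP (LK LD1_c1 LD2_c28 LD3_c27)) = (LP (LK LD1_c3 LD2_c4 LD3_c47)) :=
  Lre_g IH (LK LD1_c1 LD2_c28 LD3_c27) (LK LD1_c3 LD2_c4 LD3_c47) Lrfl Lrfl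
theorem f60836 : Led Lsl_et (LP (LK LD1_c6 LD2_c15 LD3_c28)) = (LP (LK LD1_c3 LD2_c4 LD3_c47)) :=
  Lre_e IH (LK LD1_c6 LD2_c15 LD3_c28) (LK LD1_c3 LD2_c4 LD3_c47) Lrfl Lrfl
theorem f112528 : Led Lsl_df (LP (LK LD1_c12 LD2_c5 LD3_c28)) = (LP (LK LD1_c6 LD2_c15 LD3_c28)) :=
  Lgr Lrot170 (Lpr_gt (f100471 IH) (Lpe (f100480 IH) (Lpr_et (K7.f100451 IH) (Lpe (K5.f101598 IH) (Lpr_dt (K5.f101600 IH) (Lpr_gt (K5.f112520 IH) (Lpe (K8.f73810 IH) (Lpr_et (K2.f60831 IH) (Lpr_gt (f60729 IH) (Lpe (f60836 IH) (Lpn (LP (LK LD1_c6 LD2_c15 LD3_c28)))))))))))))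
theorem f112534 : Led Lsl_dt (LP (LK LD1_c12 LD2_c5 LD3_c28)) = (LP (LK LD1_c6 LD2_c15 LD3_c28)) :=
  Lgr Lrot42 (Lpr_df (f112528 IH) (Lpn (LP (LK LD1_c6 LD2_c15 LD3_c28))))
theorem f559704 : Led Lsl_dt (LP (LK LD1_c5 LD2_c37 LD3_c29)) = (LP (LK LD1_c9 LD2_c6 LD3_c57)) :=
  Lgr Lrot6 (Lpe (f548701 IH) (Lpe (f210990 IH) (Lpr_gt (f558455 IH) (Lpr_ct (f557508 IH) (Lpe (f386648 IH) (Lpe (f386656 IH) (Lpr_gf (f559700 IH) (Lpe (K36.f26642 IH) (Lpe (f211081 IH) (Lpn (LP (LK LD1_c9 LD2_c6 LD3_c57))))))))))))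
theorem f559726 : Led Lsl_bt (LP (LK LD1_c6 LD2_c15 LD3_c28)) = (LP (LK LD1_c5 LD2_c37 LD3_c29)) :=
  Lgr Lrot95 (Lpe (f112534 IH) (Lpr_bf (f559721 IH) (Lpe (f559704 IH) (Lpn (LP (LK LD1_c5 LD2_c37 LD3_c29))))))
theorem f112536 : Led Lsl_et (LP (LK LD1_c3 LD2_c4 LD3_c47)) = (LP (LK LD1_c6 LD2_c15 LD3_c28)) :=
  Lre_e IH (LK LD1_c3 LD2_c4 LD3_c47) (LK LD1_c6 LD2_c15 LD3_c28) Lrfl Lrfl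
theorem f165149 : Led Lsl_et (LP (LK LD1_c5 LD2_c37 LD3_c29)) = (LP (LK LD1_c2 LD2_c44 LD3_c41)) :=
  Lre_e IH (LK LD1_c5 LD2_c37 LD3_c29) (LK LD1_c2 LD2_c44 LD3_c41) Lrfl Lrfl
theorem f559732 : Led Lsl_bf (LP (LK LD1_c3 LD2_c4 LD3_c47)) = (LP (LK LD1_c2 LD2_c44 LD3_c41)) :=
  Lgr Lrot96 (Lpr_et (f112536 IH) (Lpr_bt (f559726 IH) (Lpr_et (f165149 IH) (Lpn (LP (LK LD1_c2 LD2_c44 LD3_c41))))))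
theorem f60730 : Led Lsl_dt (LP (LK LD1_c3 LD2_c4 LD3_c47)) = (LP (LK LD1_c6 LD2_c15 LD3_c27)) :=
  Lre_d IH (LK LD1_c3 LD2_c4 LD3_c47) (LK LD1_c6 LD2_c15 LD3_c27) Lrfl Lrfl
theorem f559738 : Led Lsl_bt (LP (LK LD1_c6 LD2_c15 LD3_c27)) = (LP (LK LD1_c4 LD2_c57 LD3_c26)) :=
  Lgr Lrot95 (Lpe (f60730 IH) (Lpr_bf (f559732 IH) (Lpr_df (K38.f384140 IH) (Lpn (LP (LK LD1_c4 LD2_c57 LD3_c26))))))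
theorem f60731 : Led Lsl_ct (LP (LK LD1_c6 LD2_c15 LD3_c27)) = (LP (LK LD1_c12 LD2_c8 LD3_c54)) :=
  Lre_c IH (LK LD1_c6 LD2_c15 LD3_c27) (LK LD1_c12 LD2_c8 LD3_c54) Lrfl Lrfl
theorem f559748 : Led Lsl_gf (LP (LK LD1_c12 LD2_c8 LD3_c54)) = (LP (LK LD1_c9 LD2_c2 LD3_c24)) :=
  Lgr Lrot129 (Lpe (f60731 IH) (Lpr_bt (f559738 IH) (Lpr_gt (K38.f40771 IH) (Lpe (K9.f40189 IH) (Lpe (K1.f40737 IH) (Lpr_gt (K9.f169277 IH) (Lpr_cf (K9.f173397 IH) (Lpr_bt (K30.f173393 IH) (Lpr_gt (K31.f411837 IH) (Lpr_ct (f181284 IH) (Lpn (LP (LK LD1_c9 LD2_c2 LD3_c24)))))))))))))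
theorem f559742 : Led Lsl_ct (LP (LK LD1_c12 LD2_c8 LD3_c54)) = (LP (LK LD1_c6 LD2_c15 LD3_c27)) :=
  Lre_c IH (LK LD1_c12 LD2_c8 LD3_c54) (LK LD1_c6 LD2_c15 LD3_c27) Lrfl Lrfl
theorem f73857 : Led Lsl_dt (LP (LK LD1_c6 LD2_c15 LD3_c27)) = (LP (LK LD1_c3 LD2_c4 LD3_c47)) :=
  Lre_d IH (LK LD1_c6 LD2_c15 LD3_c27) (LK LD1_c3 LD2_c4 LD3_c47) Lrfl Lrfl
theorem f60808 : Led Lsl_ct (LP (LK LD1_c6 LD2_c15 LD3_c26)) = (LP (LK LD1_c3 LD2_c4 LD3_c47)) :=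
  Lre_c IH (LK LD1_c6 LD2_c15 LD3_c26) (LK LD1_c3 LD2_c4 LD3_c47) Lrfl Lrfl
theorem f559750 : Led Lsl_gf (LP (LK LD1_c6 LD2_c15 LD3_c26)) = (LP (LK LD1_c6 LD2_c24 LD3_c32)) :=
  Lgr Lrot104 (Lpr_ct (f60808 IH) (Lpe (f73857 IH) (Lpe (f559742 IH) (Lpr_gf (f559748 IH) (Lpe (f181284 IH) (Lpe (K31.f411837 IH) (Lpe (K30.f173375 IH) (Lpr_gt (K38.f40796 IH) (Lpe (K39.f549823 IH) (Lpn (LP (LK LD1_c6 LD2_c24 LD3_c32))))))))))))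
theorem f60805 : Led Lsl_dt (LP (LK LD1_c6 LD2_c15 LD3_c26)) = (LP (LK LD1_c12 LD2_c8 LD3_c52)) :=
  Lre_d IH (LK LD1_c6 LD2_c15 LD3_c26) (LK LD1_c12 LD2_c8 LD3_c52) Lrfl Lrfl
theorem f559752 : Led Lsl_gt (LP (LK LD1_c12 LD2_c8 LD3_c52)) = (LP (LK LD1_c9 LD2_c2 LD3_c27)) :=
  Lgr Lrot49 (Lpe (f60805 IH) (Lpr_gf (f559750 IH) (Lpr_cf (K39.f549823 IH) (Lpr_gt (K38.f385260 IH) (Lpr_dt (K30.f172604 IH) (Lpr_gt (K30.f385551 IH) (Lpr_dt (K30.f174587 IH) (Lpe (K38.f174545 IH) (Lpe (K39.f181364 IH) (Lpn (LP (LK LD1_c9 LD2_c2 LD3_c27))))))))))))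
theorem f117896 : Led Lsl_et (LP (LK LD1_c3 LD2_c9 LD3_c54)) = (LP (LK LD1_c6 LD2_c24 LD3_c32)) :=
  Lre_e IH (LK LD1_c3 LD2_c9 LD3_c54) (LK LD1_c6 LD2_c24 LD3_c32) Lrfl Lrfl
theorem f138567 : Led Lsl_gt (LP (LK LD1_c8 LD2_c0 LD3_c11)) = (LP (LK LD1_c3 LD2_c59 LD3_c33)) :=
  Lre_g IH (LK LD1_c8 LD2_c0 LD3_c11) (LK LD1_c3 LD2_c59 LD3_c33) Lrfl Lrfl
theorem f559758 : Led Lsl_et (LP (LK LD1_c4 LD2_c32 LD3_c25)) = (LP (LK LD1_c8 LD2_c0 LD3_c11)) :=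
  Lgr Lrot185 (Lpr_dt (K39.f181355 IH) (Lpe (f559752 IH) (Lpe (f60805 IH) (Lpr_gf (f559750 IH) (Lpe (f117896 IH) (Lpr_dt (K8.f117622 IH) (Lpr_gf (K8.f138565 IH) (Lpe (K8.f101604 IH) (Lpr_et (K36.f112573 IH) (Lpe (f138567 IH) (Lpn (LP (LK LD1_c8 LD2_c0 LD3_c11)))))))))))))
theorem f559772 : Led Lsl_ef (LP (LK LD1_c4 LD2_c32 LD3_c25)) = (LP (LK LD1_c8 LD2_c0 LD3_c11)) :=
  Lgr Lrot88 (Lpr_et (f559758 IH) (Lpn (LP (LK LD1_c8 LD2_c0 LD3_c11))))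
theorem f559777 : Led Lsl_ct (LP (LK LD1_c4 LD2_c32 LD3_c27)) = (LP (LK LD1_c8 LD2_c0 LD3_c11)) :=
  Lgr Lrot15 (Lpe (K38.f174590 IH) (Lpe (K38.f174545 IH) (Lpr_ef (f559772 IH) (Lpn (LP (LK LD1_c8 LD2_c0 LD3_c11))))))
theorem f423352 : Led Lsl_bt (LP (LK LD1_c11 LD2_c12 LD3_c53)) = (LP (LK LD1_c5 LD2_c41 LD3_c25)) :=
  Lre_b IH (LK LD1_c11 LD2_c12 LD3_c53) (LK LD1_c5 LD2_c41 LD3_c25) Lrfl Lrfl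
theorem f548163 : Led Lsl_gf (LP (LK LD1_c5 LD2_c41 LD3_c25)) = (LP (LK LD1_c2 LD2_c57 LD3_c58)) :=
  Lgr Lrot124 (Lpe (f423352 IH) (Lpr_ct (K38.f548156 IH) (Lpr_gt (K38.f175793 IH) (Lpe (K36.f101580 IH) (Lpr_bt (K36.f101579 IH) (Lpr_gt (K9.f26578 IH) (Lpr_ct (K9.f100616 IH) (Lpe (K10.f175757 IH) (Lpe (K10.f175684 IH) (Lpr_bt (K38.f175685 IH) (Lpn (LP (LK LD1_c2 LD2_c57 LD3_c58)))))))))))))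
theorem f423350 : Led Lsl_af (LP (LK LD1_c5 LD2_c41 LD3_c25)) = (LP (LK LD1_c9 LD2_c2 LD3_c30)) :=
  Lgr Lrot0 (Lpr_at (K38.f423346 IH) (Lpn (LP (LK LD1_c9 LD2_c2 LD3_c30))))
theorem f548165 : Led Lsl_ff (LP (LK LD1_c9 LD2_c2 LD3_c30)) = (LP (LK LD1_c4 LD2_c35 LD3_c59)) :=
  Lgr Lrot52 (Lpe (f423350 IH) (Lpr_gf (f548163 IH) (Lpe (K38.f547191 IH) (Lpn (LP (LK LD1_c4 LD2_c35 LD3_c59))))))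
theorem f548169 : Led Lsl_ft (LP (LK LD1_c9 LD2_c2 LD3_c30)) = (LP (LK LD1_c4 LD2_c35 LD3_c59)) :=
  Lgr Lrot48 (Lpr_ff (f548165 IH) (Lpn (LP (LK LD1_c4 LD2_c35 LD3_c59))))
theorem f37857 : Led Lsl_dt (LP (LK LD1_c4 LD2_c35 LD3_c59)) = (LP (LK LD1_c2 LD2_c15 LD3_c10)) :=
  Lre_d IH (LK LD1_c4 LD2_c35 LD3_c59) (LK LD1_c2 LD2_c15 LD3_c10) Lrfl Lrfl
theorem f548175 : Led Lsl_ff (LP (LK LD1_c4 LD2_c32 LD3_c27)) = (LP (LK LD1_c2 LD2_c15 LD3_c10)) :=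
  Lgr Lrot19 (Lpr_dt (K39.f411664 IH) (Lpr_ft (f548169 IH) (Lpr_dt (f37857 IH) (Lpn (LP (LK LD1_c2 LD2_c15 LD3_c10))))))
theorem f37855 : Led Lsl_bt (LP (LK LD1_c4 LD2_c35 LD3_c53)) = (LP (LK LD1_c2 LD2_c15 LD3_c10)) :=
  Lre_b IH (LK LD1_c4 LD2_c35 LD3_c53) (LK LD1_c2 LD2_c15 LD3_c10) Lrfl Lrfl
theorem f548177 : Led Lsl_bt (LP (LK LD1_c4 LD2_c32 LD3_c27)) = (LP (LK LD1_c2 LD2_c15 LD3_c21)) :=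
  Lgr Lrot35 (Lpr_ff (f548175 IH) (Lpe (f37855 IH) (Lpe (K38.f547495 IH) (Lpn (LP (LK LD1_c2 LD2_c15 LD3_c21))))))
theorem f71972 : Led Lsl_et (LP (LK LD1_c1 LD2_c23 LD3_c9)) = (LP (LK LD1_c0 LD2_c38 LD3_c29)) :=
  Lre_e IH (LK LD1_c1 LD2_c23 LD3_c9) (LK LD1_c0 LD2_c38 LD3_c29) Lrfl Lrfl
theorem f71973 : Led Lsl_bf (LP (LK LD1_c1 LD2_c23 LD3_c9)) = (LP (LK LD1_c2 LD2_c15 LD3_c13)) :=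
  Lgr Lrot96 (Lpr_et (f71972 IH) (Lpr_bt (K2.f71947 IH) (Lpr_et (K2.f71103 IH) (Lpn (LP (LK LD1_c2 LD2_c15 LD3_c13))))))
theorem f71983 : Led Lsl_ft (LP (LK LD1_c4 LD2_c36 LD3_c4)) = (LP (LK LD1_c2 LD2_c15 LD3_c13)) :=
  Lre_f IH (LK LD1_c4 LD2_c36 LD3_c4) (LK LD1_c2 LD2_c15 LD3_c13) Lrfl Lrfl
theorem f500530 : Led Lsl_bf (LP (LK LD1_c4 LD2_c36 LD3_c4)) = K37.v1648 :=
  Lgr Lrot61 (Lpr_ft (f71983 IH) (Lpe (f71973 IH) (Lpr_ft (K37.f500528 IH) (Lpn K37.v1648))))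
theorem f116970 : Led Lsl_gt (LP (LK LD1_c1 LD2_c5 LD3_c3)) = (LP (LK LD1_c2 LD2_c16 LD3_c15)) :=
  Lre_g IH (LK LD1_c1 LD2_c5 LD3_c3) (LK LD1_c2 LD2_c16 LD3_c15) Lrfl Lrfl
theorem f545834 : K37.v1648 = (LP (LK LD1_c2 LD2_c16 LD3_c15)) :=
  Lefun (Lecon (K37.f500553 IH) (K37.f545833 IH)) (f116970 IH)
theorem f494622 : Led Lsl_ct (LP (LK LD1_c2 LD2_c16 LD3_c15)) = (LP (LK LD1_c4 LD2_c38 LD3_c23)) :=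
  Lre_c IH (LK LD1_c2 LD2_c16 LD3_c15) (LK LD1_c4 LD2_c38 LD3_c23) Lrfl Lrfl
theorem f158396 : Led Lsl_bt (LP (LK LD1_c1 LD2_c56 LD3_c29)) = (LP (LK LD1_c3 LD2_c59 LD3_c30)) :=
  Lre_b IH (LK LD1_c1 LD2_c56 LD3_c29) (LK LD1_c3 LD2_c59 LD3_c30) Lrfl Lrfl
theorem f423343 : Led Lsl_at (LP (LK LD1_c2 LD2_c46 LD3_c45)) = (LP (LK LD1_c4 LD2_c32 LD3_c27)) :=
  Lgr Lrot100 (Lpr_af (K38.f423341 IH) (Lpn (LP (LK LD1_c4 LD2_c32 LD3_c27))))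
theorem f541378 : Led Lsl_gt (LP (LK LD1_c2 LD2_c53 LD3_c9)) = (LP (LK LD1_c4 LD2_c32 LD3_c27)) :=
  Lgr Lrot46 (Lpe (K36.f72382 IH) (Lpr_ft (K36.f500415 IH) (Lpq (K36.f541365 IH) (Lpr_at (f423343 IH) (Lpn (LP (LK LD1_c4 LD2_c32 LD3_c27)))))))
theorem f559794 : Led Lsl_gf (LP (LK LD1_c5 LD2_c56 LD3_c21)) = (LP (LK LD1_c3 LD2_c59 LD3_c30)) :=
  Lgr Lrot124 (Lpr_bf (K38.f545251 IH) (Lpe (K6.f137826 IH) (Lpr_gt (K35.f137667 IH) (Lpr_cf (K36.f541461 IH) (Lpr_bt (K36.f541463 IH) (Lpr_gt (f541378 IH) (Lpr_ct (f559777 IH) (Lpr_gt (f138567 IH) (Lpe (K38.f158372 IH) (Lpr_bt (f158396 IH) (Lpn (LP (LK LD1_c3 LD2_c59 LD3_c30)))))))))))))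
theorem f559796 : Led Lsl_gf (LP (LK LD1_c4 LD2_c38 LD3_c23)) = (LP (LK LD1_c2 LD2_c54 LD3_c30)) :=
  Lgr Lrot129 (Lpe (f494622 IH) (Lpq (f545834 IH) (Lpe (f500530 IH) (Lpr_gt (K39.f210643 IH) (Lpe (f548177 IH) (Lpr_ct (f559777 IH) (Lpr_gt (f138567 IH) (Lpe (K38.f158372 IH) (Lpr_bt (f158396 IH) (Lpe (f559794 IH) (Lpr_ct (f24490 IH) (Lpn (LP (LK LD1_c2 LD2_c54 LD3_c30))))))))))))))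
theorem f559812 : Led Lsl_ef (LP (LK LD1_c4 LD2_c38 LD3_c23)) = (LP (LK LD1_c8 LD2_c38 LD3_c13)) :=
  Lgr Lrot17 (Lpr_gf (f559796 IH) (Lpr_ef (K38.f545145 IH) (Lpr_dt (K8.f70482 IH) (Lpe (K7.f142033 IH) (Lpe (K6.f72987 IH) (Lpe (K5.f132574 IH) (Lpe (K36.f132507 IH) (Lpe (K36.f540448 IH) (Lpe (K36.f540447 IH) (Lpe (K36.f34898 IH) (Lpn (LP (LK LD1_c8 LD2_c38 LD3_c13)))))))))))))
theorem f553445 : Led Lsl_af (LP (LK LD1_c2 LD2_c54 LD3_c31)) = (LP (LK LD1_c5 LD2_c55 LD3_c49)) :=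
  Lgr Lrot0 (Lpr_at (K39.f553443 IH) (Lpn (LP (LK LD1_c5 LD2_c55 LD3_c49))))
theorem f559800 : Led Lsl_gt (LP (LK LD1_c4 LD2_c38 LD3_c23)) = (LP (LK LD1_c2 LD2_c54 LD3_c31)) :=
  Lgr Lrot46 (Lpr_gf (f559796 IH) (Lpr_ft (K39.f553461 IH) (Lpe (f553445 IH) (Lpn (LP (LK LD1_c2 LD2_c54 LD3_c31))))))
theorem f559837 : Led Lsl_gt (LP (LK LD1_c5 LD2_c56 LD3_c24)) = (LP (LK LD1_c8 LD2_c43 LD3_c0)) :=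
  Lgr Lrot139 (Lpe (f452838 IH) (Lpe (f559800 IH) (Lpr_ef (f559812 IH) (Lpr_dt (K36.f34898 IH) (Lpe (K38.f34976 IH) (Lpe (K38.f547552 IH) (Lpr_et (K38.f407098 IH) (Lpe (K38.f173332 IH) (Lpe (K35.f173322 IH) (Lpr_dt (K38.f173318 IH) (Lpn (LP (LK LD1_c8 LD2_c43 LD3_c0)))))))))))))
theorem f406987 : Led Lsl_at (LP (LK LD1_c16 LD2_c19 LD3_c28)) = (LP (LK LD1_c8 LD2_c43 LD3_c0)) :=
  Lre_a IH (LK LD1_c16 LD2_c19 LD3_c28) (LK LD1_c8 LD2_c43 LD3_c0) Lrfl Lrfl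
theorem f545208 : Led Lsl_ct (LP (LK LD1_c10 LD2_c2 LD3_c52)) = (LP (LK LD1_c5 LD2_c5 LD3_c59)) :=
  Lre_c IH (LK LD1_c10 LD2_c2 LD3_c52) (LK LD1_c5 LD2_c5 LD3_c59) Lrfl Lrfl
theorem f545126 : Led Lsl_dt (LP (LK LD1_c11 LD2_c38 LD3_c0)) = (LP (LK LD1_c10 LD2_c2 LD3_c52)) :=
  Lgr Lrot42 (Lpr_df (K38.f545123 IH) (Lpn (LP (LK LD1_c10 LD2_c2 LD3_c52))))
theorem f176769 : Led Lsl_ct (LP (LK LD1_c4 LD2_c38 LD3_c25)) = (LP (LK LD1_c9 LD2_c12 LD3_c40)) :=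
  Lre_c IH (LK LD1_c4 LD2_c38 LD3_c25) (LK LD1_c9 LD2_c12 LD3_c40) Lrfl Lrfl
theorem f541593 : Led Lsl_dt (LP (LK LD1_c9 LD2_c12 LD3_c40)) = (LP (LK LD1_c17 LD2_c6 LD3_c61)) :=
  Lre_d IH (LK LD1_c9 LD2_c12 LD3_c40) (LK LD1_c17 LD2_c6 LD3_c61) Lrfl Lrfl
theorem f541569 : Led Lsl_dt (LP (LK LD1_c4 LD2_c38 LD3_c26)) = (LP (LK LD1_c3 LD2_c58 LD3_c51)) :=
  Lgr Lrot42 (Lpr_df (f541563 IH) (Lpn (LP (LK LD1_c3 LD2_c58 LD3_c51))))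
theorem f173319 : Led Lsl_ct (LP (LK LD1_c8 LD2_c43 LD3_c0)) = (LP (LK LD1_c16 LD2_c19 LD3_c40)) :=
  Lre_c IH (LK LD1_c8 LD2_c43 LD3_c0) (LK LD1_c16 LD2_c19 LD3_c40) Lrfl Lrfl
theorem f173320 : Led Lsl_dt (LP (LK LD1_c16 LD2_c19 LD3_c40)) = (LP (LK LD1_c26 LD2_c17 LD3_c41)) :=
  Lre_d IH (LK LD1_c16 LD2_c19 LD3_c40) (LK LD1_c26 LD2_c17 LD3_c41) Lrfl Lrfl
theorem f541585 : Led Lsl_ct (LP (LK LD1_c9 LD2_c12 LD3_c40)) = (LP (LK LD1_c4 LD2_c38 LD3_c25)) :=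
  Lre_c IH (LK LD1_c9 LD2_c12 LD3_c40) (LK LD1_c4 LD2_c38 LD3_c25) Lrfl Lrfl
theorem f541586 : Led Lsl_dt (LP (LK LD1_c17 LD2_c6 LD3_c61)) = (LP (LK LD1_c9 LD2_c12 LD3_c40)) :=
  Lre_d IH (LK LD1_c17 LD2_c6 LD3_c61) (LK LD1_c9 LD2_c12 LD3_c40) Lrfl Lrfl
theorem f541587 : Led Lsl_ct (LP (LK LD1_c26 LD2_c17 LD3_c41)) = (LP (LK LD1_c17 LD2_c6 LD3_c61)) :=
  Lgr Lrot53 (Lpe (f173320 IH) (Lpe (f173319 IH) (Lpe (K38.f173318 IH) (Lpe (K30.f173300 IH) (Lpe (f541569 IH) (Lpr_ft (f541571 IH) (Lpe (f541583 IH) (Lpe (f541585 IH) (Lpe (f541586 IH) (Lpn (LP (LK LD1_c17 LD2_c6 LD3_c61))))))))))))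
theorem f541590 : Led Lsl_cf (LP (LK LD1_c26 LD2_c17 LD3_c41)) = (LP (LK LD1_c17 LD2_c6 LD3_c61)) :=
  Lgr Lrot11 (Lpr_ct (f541587 IH) (Lpn (LP (LK LD1_c17 LD2_c6 LD3_c61))))
theorem f173304 : Led Lsl_dt (LP (LK LD1_c26 LD2_c17 LD3_c41)) = (LP (LK LD1_c16 LD2_c19 LD3_c40)) :=
  Lre_d IH (LK LD1_c26 LD2_c17 LD3_c41) (LK LD1_c16 LD2_c19 LD3_c40) Lrfl Lrfl
theorem f173303 : Led Lsl_ct (LP (LK LD1_c16 LD2_c19 LD3_c40)) = (LP (LK LD1_c8 LD2_c43 LD3_c0)) :=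
  Lre_c IH (LK LD1_c16 LD2_c19 LD3_c40) (LK LD1_c8 LD2_c43 LD3_c0) Lrfl Lrfl
theorem f546680 : Led Lsl_ft (LP (LK LD1_c11 LD2_c38 LD3_c0)) = (LP (LK LD1_c16 LD2_c19 LD3_c28)) :=
  Lgr Lrot142 (Lpr_dt (f545126 IH) (Lpr_ct (f545208 IH) (Lpr_dt (K37.f546673 IH) (Lpr_ct (f176769 IH) (Lpr_dt (f541593 IH) (Lpe (f541590 IH) (Lpr_dt (f173304 IH) (Lpr_ct (f173303 IH) (Lpe (f406987 IH) (Lpn (LP (LK LD1_c16 LD2_c19 LD3_c28))))))))))))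
theorem f559839 : Led Lsl_gf (LP (LK LD1_c5 LD2_c56 LD3_c24)) = (LP (LK LD1_c11 LD2_c38 LD3_c0)) :=
  Lgr Lrot47 (Lpr_gt (f559837 IH) (Lpe (f406987 IH) (Lpe (f546680 IH) (Lpn (LP (LK LD1_c11 LD2_c38 LD3_c0))))))
theorem f547737 : Led Lsl_ef (LP (LK LD1_c6 LD2_c24 LD3_c30)) = (LP (LK LD1_c8 LD2_c43 LD3_c23)) :=
  Lgr Lrot88 (Lpr_et (K38.f547733 IH) (Lpn (LP (LK LD1_c8 LD2_c43 LD3_c23))))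
theorem f561149 : Led Lsl_dt (LP (LK LD1_c8 LD2_c43 LD3_c23)) = (LP (LK LD1_c9 LD2_c3 LD3_c5)) :=
  Lgr Lrot56 (Lpe (f547737 IH) (Lpr_gt (K38.f545114 IH) (Lpe (K38.f545120 IH) (Lpe (K38.f545123 IH) (Lpe (f559839 IH) (Lpe (f452838 IH) (Lpr_et (f553427 IH) (Lpr_gt (K10.f181554 IH) (Lpr_dt (K38.f181555 IH) (Lpr_gt (f561145 IH) (Lpn (LP (LK LD1_c9 LD2_c3 LD3_c5)))))))))))))
theorem f494145 : Led Lsl_dt (LP (LK LD1_c4 LD2_c32 LD3_c56)) = (LP (LK LD1_c2 LD2_c13 LD3_c26)) :=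
  Lre_d IH (LK LD1_c4 LD2_c32 LD3_c56) (LK LD1_c2 LD2_c13 LD3_c26) Lrfl Lrfl
theorem f494133 : Led Lsl_dt (LP (LK LD1_c2 LD2_c13 LD3_c27)) = (LP (LK LD1_c1 LD2_c3 LD3_c45)) :=
  Lre_d IH (LK LD1_c2 LD2_c13 LD3_c27) (LK LD1_c1 LD2_c3 LD3_c45) Lrfl Lrfl
theorem f561157 : Led Lsl_gt (LP (LK LD1_c2 LD2_c44 LD3_c33)) = (LP (LK LD1_c2 LD2_c13 LD3_c27)) :=
  Lgr Lrot49 (Lpe (K37.f164830 IH) (Lpe (K38.f164848 IH) (Lpe (K38.f201346 IH) (Lpr_gt (K38.f547731 IH) (Lpr_dt (f561149 IH) (Lpr_gt (f549570 IH) (Lpr_dt (f494145 IH) (Lpe (K31.f174810 IH) (Lpe (f494133 IH) (Lpn (LP (LK LD1_c2 LD2_c13 LD3_c27))))))))))))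
theorem f177895 : Led Lsl_dt (LP (LK LD1_c1 LD2_c3 LD3_c45)) = (LP (LK LD1_c2 LD2_c13 LD3_c27)) :=
  Lre_d IH (LK LD1_c1 LD2_c3 LD3_c45) (LK LD1_c2 LD2_c13 LD3_c27) Lrfl Lrfl
def v1494 : LQ := Led Lsl_et (LP (LK LD1_c1 LD2_c19 LD3_c60))
theorem f495842 : Led Lsl_et (LP (LK LD1_c1 LD2_c19 LD3_c60)) = v1494 :=
  Lrfl
theorem f495843 : Led Lsl_ef (LP (LK LD1_c1 LD2_c19 LD3_c60)) = v1494 :=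
  Lgr Lrot88 (Lpr_et (f495842 IH) (Lpn v1494))
theorem f561169 : (LP (LK LD1_c2 LD2_c15 LD3_c60)) = v1494 :=
  (Llr Lrot170 (Lpr_dt (K38.f537982 IH) (Lpe (K38.f545293 IH) (Lpr_df (K36.f175391 IH) (Lpr_et (K36.f495982 IH) (Lpq (K38.f547308 IH) (Lpr_gt (K38.f164848 IH) (Lpr_dt (K37.f164830 IH) (Lpr_gt (f561157 IH) (Lpe (f177895 IH) (Lpr_et (K38.f494147 IH) (Lpqs (K38.f549527 IH) (Lpe (K31.f280524 IH) (Lpr_ef (f495843 IH) (Lpn v1494))))))))))))))).symm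
theorem f423891 : Led Lsl_et (LP (LK LD1_c5 LD2_c42 LD3_c33)) = (LP (LK LD1_c2 LD2_c47 LD3_c15)) :=
  Lre_e IH (LK LD1_c5 LD2_c42 LD3_c33) (LK LD1_c2 LD2_c47 LD3_c15) Lrfl Lrfl
theorem f541495 : Led Lsl_et (LP (LK LD1_c4 LD2_c37 LD3_c36)) = (LP (LK LD1_c9 LD2_c10 LD3_c51)) :=
  Lre_e IH (LK LD1_c4 LD2_c37 LD3_c36) (LK LD1_c9 LD2_c10 LD3_c51) Lrfl Lrfl
theorem f561172 : Led Lsl_df (LP (LK LD1_c5 LD2_c42 LD3_c33)) = (LP (LK LD1_c9 LD2_c10 LD3_c51)) :=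
  Lgr Lrot70 (Lpr_et (f423891 IH) (Lpr_dt (K36.f172507 IH) (Lpr_et (f495842 IH) (Lpq (f561169 IH) (Lpr_dt (K38.f537982 IH) (Lpr_et (f541495 IH) (Lpn (LP (LK LD1_c9 LD2_c10 LD3_c51)))))))))
theorem f561178 : Led Lsl_dt (LP (LK LD1_c5 LD2_c42 LD3_c33)) = (LP (LK LD1_c9 LD2_c10 LD3_c51)) :=
  Lgr Lrot42 (Lpr_df (f561172 IH) (Lpn (LP (LK LD1_c9 LD2_c10 LD3_c51))))
theorem f541501 : Led Lsl_at (LP (LK LD1_c9 LD2_c10 LD3_c51)) = (LP (LK LD1_c5 LD2_c53 LD3_c21)) :=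
  Lgr Lrot80 (Lpe (f541495 IH) (Lpr_af (K36.f541491 IH) (Lpe (K36.f449884 IH) (Lpn (LP (LK LD1_c5 LD2_c53 LD3_c21))))))
theorem f561183 : Led Lsl_af (LP (LK LD1_c5 LD2_c42 LD3_c33)) = (LP (LK LD1_c9 LD2_c1 LD3_c59)) :=
  Lgr Lrot117 (Lpr_dt (f561178 IH) (Lpr_at (f541501 IH) (Lpr_dt (K36.f538906 IH) (Lpn (LP (LK LD1_c9 LD2_c1 LD3_c59))))))
theorem f561248 : Led Lsl_at (LP (LK LD1_c2 LD2_c47 LD3_c15)) = (LP (LK LD1_c4 LD2_c32 LD3_c9)) :=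
  Lgr Lrot80 (Lpe (f423891 IH) (Lpr_af (f561183 IH) (Lpe (K36.f407076 IH) (Lpn (LP (LK LD1_c4 LD2_c32 LD3_c9))))))
theorem f561256 : Led Lsl_ff (LP (LK LD1_c2 LD2_c47 LD3_c15)) = (LP (LK LD1_c4 LD2_c32 LD3_c11)) :=
  Lgr Lrot30 (Lpr_at (f561248 IH) (Lpe (K39.f549253 IH) (Lpr_at (K39.f549261 IH) (Lpn (LP (LK LD1_c4 LD2_c32 LD3_c11))))))
theorem f561260 : Led Lsl_ft (LP (LK LD1_c2 LD2_c47 LD3_c15)) = (LP (LK LD1_c4 LD2_c32 LD3_c11)) :=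
  Lgr Lrot48 (Lpr_ff (f561256 IH) (Lpn (LP (LK LD1_c4 LD2_c32 LD3_c11))))
theorem f561264 : Led Lsl_ff (LP (LK LD1_c5 LD2_c42 LD3_c32)) = (LP (LK LD1_c9 LD2_c1 LD3_c61)) :=
  Lgr Lrot23 (Lpr_ct (K36.f280529 IH) (Lpr_ft (f561260 IH) (Lpr_ct (K31.f280517 IH) (Lpn (LP (LK LD1_c9 LD2_c1 LD3_c61))))))
theorem f280516 : Led Lsl_dt (LP (LK LD1_c16 LD2_c51 LD3_c61)) = (LP (LK LD1_c9 LD2_c1 LD3_c61)) :=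
  Lre_d IH (LK LD1_c16 LD2_c51 LD3_c61) (LK LD1_c9 LD2_c1 LD3_c61) Lrfl Lrfl
theorem f561270 : Led Lsl_ft (LP (LK LD1_c11 LD2_c15 LD3_c16)) = (LP (LK LD1_c16 LD2_c51 LD3_c61)) :=
  Lgr Lrot54 (Lpe (K36.f423892 IH) (Lpr_ff (f561264 IH) (Lpe (f280516 IH) (Lpn (LP (LK LD1_c16 LD2_c51 LD3_c61))))))
theorem f549297 : Led Lsl_af (LP (LK LD1_c11 LD2_c15 LD3_c10)) = (LP (LK LD1_c16 LD2_c51 LD3_c61)) :=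
  Lgr Lrot117 (Lpr_dt (K36.f422924 IH) (Lpr_at (K39.f549294 IH) (Lpr_dt (K31.f398541 IH) (Lpn (LP (LK LD1_c16 LD2_c51 LD3_c61))))))
theorem f423908 : Led Lsl_gt (LP (LK LD1_c20 LD2_c10 LD3_c12)) = (LP (LK LD1_c11 LD2_c15 LD3_c10)) :=
  Lre_g IH (LK LD1_c20 LD2_c10 LD3_c12) (LK LD1_c11 LD2_c15 LD3_c10) Lrfl Lrfl
theorem f561278 : Led Lsl_gt (LP (LK LD1_c11 LD2_c15 LD3_c16)) = (LP (LK LD1_c20 LD2_c10 LD3_c12)) :=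
  Lgr Lrot5 (Lpr_ft (f561270 IH) (Lpe (f549297 IH) (Lpe (f423908 IH) (Lpn (LP (LK LD1_c20 LD2_c10 LD3_c12))))))
theorem f269671 : Led Lsl_dt (LP (LK LD1_c11 LD2_c15 LD3_c40)) = (LP (LK LD1_c20 LD2_c11 LD3_c4)) :=
  Lre_d IH (LK LD1_c11 LD2_c15 LD3_c40) (LK LD1_c20 LD2_c11 LD3_c4) Lrfl Lrfl
theorem f280307 : Led Lsl_gt (LP (LK LD1_c11 LD2_c15 LD3_c49)) = (LP (LK LD1_c5 LD2_c42 LD3_c48)) :=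
  Lre_g IH (LK LD1_c11 LD2_c15 LD3_c49) (LK LD1_c5 LD2_c42 LD3_c48) Lrfl Lrfl
theorem f423917 : Led Lsl_df (LP (LK LD1_c11 LD2_c15 LD3_c49)) = (LP (LK LD1_c20 LD2_c10 LD3_c12)) :=
  Lgr Lrot155 (Lpr_gt (f280307 IH) (Lpr_ct (K36.f280306 IH) (Lpr_gt (K36.f280302 IH) (Lpr_ct (K16.f181767 IH) (Lpr_dt (K16.f181768 IH) (Lpe (K16.f280270 IH) (Lpr_gf (K36.f423903 IH) (Lpe (K38.f423905 IH) (Lpe (f423908 IH) (Lpn (LP (LK LD1_c20 LD2_c10 LD3_c12))))))))))))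
theorem f402622 : Led Lsl_dt (LP (LK LD1_c5 LD2_c42 LD3_c48)) = (LP (LK LD1_c11 LD2_c15 LD3_c51)) :=
  Lre_d IH (LK LD1_c5 LD2_c42 LD3_c48) (LK LD1_c11 LD2_c15 LD3_c51) Lrfl Lrfl
theorem f561280 : Led Lsl_cf (LP (LK LD1_c20 LD2_c11 LD3_c4)) = (LP (LK LD1_c11 LD2_c15 LD3_c51)) :=
  Lgr Lrot14 (Lpe (f269671 IH) (Lpr_gf (K38.f281997 IH) (Lpe (K16.f280364 IH) (Lpe (K36.f423874 IH) (Lpe (K36.f423893 IH) (Lpr_gt (f561278 IH) (Lpe (f423917 IH) (Lpr_gt (f280307 IH) (Lpr_dt (f402622 IH) (Lpn (LP (LK LD1_c11 LD2_c15 LD3_c51))))))))))))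
theorem f269674 : Led Lsl_dt (LP (LK LD1_c20 LD2_c11 LD3_c4)) = (LP (LK LD1_c11 LD2_c15 LD3_c40)) :=
  Lre_d IH (LK LD1_c20 LD2_c11 LD3_c4) (LK LD1_c11 LD2_c15 LD3_c40) Lrfl Lrfl
theorem f547817 : Led Lsl_gt (LP (LK LD1_c1 LD2_c56 LD3_c9)) = (LP (LK LD1_c2 LD2_c49 LD3_c10)) :=
  Lgr Lrot5 (Lpr_ft (K30.f297025 IH) (Lpr_at (K18.f56545 IH) (Lpr_gf (K35.f547815 IH) (Lpn (LP (LK LD1_c2 LD2_c49 LD3_c10))))))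
theorem f549599 : Led Lsl_df (LP (LK LD1_c2 LD2_c47 LD3_c23)) = (LP (LK LD1_c2 LD2_c49 LD3_c10)) :=
  Lgr Lrot153 (Lpr_gt (K36.f280302 IH) (Lpr_dt (K16.f181770 IH) (Lpe (K16.f181735 IH) (Lpe (K16.f181764 IH) (Lpe (K38.f418018 IH) (Lpr_df (K38.f549589 IH) (Lpe (K38.f173332 IH) (Lpe (K18.f173273 IH) (Lpr_gt (f547817 IH) (Lpn (LP (LK LD1_c2 LD2_c49 LD3_c10))))))))))))
theorem f427556 : Led Lsl_ft (LP (LK LD1_c11 LD2_c23 LD3_c13)) = (LP (LK LD1_c5 LD2_c46 LD3_c30)) :=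
  Lre_f IH (LK LD1_c11 LD2_c23 LD3_c13) (LK LD1_c5 LD2_c46 LD3_c30) Lrfl Lrfl
theorem f561291 : Led Lsl_af (LP (LK LD1_c11 LD2_c13 LD3_c29)) = (LP (LK LD1_c5 LD2_c46 LD3_c30)) :=
  Lgr Lrot109 (Lpe (K38.f269669 IH) (Lpe (f269674 IH) (Lpr_cf (f561280 IH) (Lpe (f402622 IH) (Lpe (K36.f280304 IH) (Lpr_df (f549599 IH) (Lpe (K39.f60132 IH) (Lpe (K1.f60133 IH) (Lpr_ft (f427556 IH) (Lpn (LP (LK LD1_c5 LD2_c46 LD3_c30))))))))))))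
theorem f561296 : Led Lsl_at (LP (LK LD1_c11 LD2_c15 LD3_c40)) = (LP (LK LD1_c11 LD2_c23 LD3_c12)) :=
  Lgr Lrot107 (Lpr_cf (K38.f269648 IH) (Lpr_af (f561291 IH) (Lpe (K39.f411485 IH) (Lpn (LP (LK LD1_c11 LD2_c23 LD3_c12))))))
theorem f561304 : Led Lsl_ff (LP (LK LD1_c11 LD2_c15 LD3_c40)) = (LP (LK LD1_c16 LD2_c20 LD3_c40)) :=
  Lgr Lrot52 (Lpr_at (f561296 IH) (Lpr_gf (K39.f552672 IH) (Lpe (K39.f181748 IH) (Lpn (LP (LK LD1_c16 LD2_c20 LD3_c40))))))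
theorem f73043 : Led Lsl_dt (LP (LK LD1_c2 LD2_c49 LD3_c9)) = (LP (LK LD1_c1 LD2_c20 LD3_c43)) :=
  Lre_d IH (LK LD1_c2 LD2_c49 LD3_c9) (LK LD1_c1 LD2_c20 LD3_c43) Lrfl Lrfl
theorem f73036 : Led Lsl_ct (LP (LK LD1_c5 LD2_c46 LD3_c50)) = (LP (LK LD1_c2 LD2_c49 LD3_c9)) :=
  Lre_c IH (LK LD1_c5 LD2_c46 LD3_c50) (LK LD1_c2 LD2_c49 LD3_c9) Lrfl Lrfl
theorem f73060 : Led Lsl_dt (LP (LK LD1_c11 LD2_c23 LD3_c51)) = (LP (LK LD1_c5 LD2_c46 LD3_c50)) :=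
  Lre_d IH (LK LD1_c11 LD2_c23 LD3_c51) (LK LD1_c5 LD2_c46 LD3_c50) Lrfl Lrfl
theorem f561306 : Led Lsl_ct (LP (LK LD1_c20 LD2_c19 LD3_c5)) = (LP (LK LD1_c11 LD2_c23 LD3_c51)) :=
  Lgr Lrot133 (Lpr_df (K39.f552679 IH) (Lpe (f561304 IH) (Lpr_at (f561296 IH) (Lpe (K39.f197507 IH) (Lpe (K39.f206806 IH) (Lpe (K39.f175477 IH) (Lpe (f73043 IH) (Lpe (f73036 IH) (Lpe (f73060 IH) (Lpn (LP (LK LD1_c11 LD2_c23 LD3_c51))))))))))))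
theorem f73064 : Led Lsl_dt (LP (LK LD1_c5 LD2_c46 LD3_c50)) = (LP (LK LD1_c11 LD2_c23 LD3_c51)) :=
  Lre_d IH (LK LD1_c5 LD2_c46 LD3_c50) (LK LD1_c11 LD2_c23 LD3_c51) Lrfl Lrfl
theorem f68607 : Led Lsl_ct (LP (LK LD1_c2 LD2_c49 LD3_c9)) = (LP (LK LD1_c5 LD2_c46 LD3_c50)) :=
  Lre_c IH (LK LD1_c2 LD2_c49 LD3_c9) (LK LD1_c5 LD2_c46 LD3_c50) Lrfl Lrfl
theorem f174512 : Led Lsl_gt (LP (LK LD1_c9 LD2_c2 LD3_c6)) = (LP (LK LD1_c4 LD2_c32 LD3_c14)) :=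
  Lre_g IH (LK LD1_c9 LD2_c2 LD3_c6) (LK LD1_c4 LD2_c32 LD3_c14) Lrfl Lrfl
theorem f561313 : Led Lsl_dt (LP (LK LD1_c11 LD2_c21 LD3_c21)) = (LP (LK LD1_c9 LD2_c2 LD3_c6)) :=
  Lgr Lrot6 (Lpr_gt (K39.f168266 IH) (Lpr_ct (K30.f168261 IH) (Lpr_gt (K39.f385397 IH) (Lpr_ct (f561306 IH) (Lpe (f73064 IH) (Lpe (f68607 IH) (Lpe (K37.f542256 IH) (Lpe (K31.f174442 IH) (Lpe (f174512 IH) (Lpn (LP (LK LD1_c9 LD2_c2 LD3_c6))))))))))))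
theorem f423749 : Led Lsl_cf (LP (LK LD1_c11 LD2_c15 LD3_c29)) = (LP (LK LD1_c5 LD2_c45 LD3_c24)) :=
  Lgr Lrot11 (Lpr_ct (K31.f423741 IH) (Lpn (LP (LK LD1_c5 LD2_c45 LD3_c24))))
theorem f211897 : Led Lsl_dt (LP (LK LD1_c11 LD2_c7 LD3_c1)) = (LP (LK LD1_c5 LD2_c37 LD3_c50)) :=
  Lre_d IH (LK LD1_c11 LD2_c7 LD3_c1) (LK LD1_c5 LD2_c37 LD3_c50) Lrfl Lrfl
theorem f211937 : Led Lsl_dt (LP (LK LD1_c2 LD2_c44 LD3_c51)) = (LP (LK LD1_c5 LD2_c37 LD3_c52)) :=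
  Lre_d IH (LK LD1_c2 LD2_c44 LD3_c51) (LK LD1_c5 LD2_c37 LD3_c52) Lrfl Lrfl
theorem f561328 : Led Lsl_ct (LP (LK LD1_c5 LD2_c37 LD3_c52)) = (LP (LK LD1_c9 LD2_c2 LD3_c6)) :=
  Lgr Lrot7 (Lpe (f211937 IH) (Lpe (K39.f211852 IH) (Lpe (f211897 IH) (Lpr_gf (K39.f424209 IH) (Lpr_cf (f423749 IH) (Lpe (K31.f407092 IH) (Lpr_dt (K39.f385446 IH) (Lpr_gt (K39.f385511 IH) (Lpr_dt (f561313 IH) (Lpn (LP (LK LD1_c9 LD2_c2 LD3_c6))))))))))))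
theorem f211893 : Led Lsl_gt (LP (LK LD1_c11 LD2_c7 LD3_c5)) = (LP (LK LD1_c5 LD2_c37 LD3_c52)) :=
  Lre_g IH (LK LD1_c11 LD2_c7 LD3_c5) (LK LD1_c5 LD2_c37 LD3_c52) Lrfl Lrfl
theorem f226701 : Led Lsl_bt (LP (LK LD1_c2 LD2_c44 LD3_c38)) = (LP (LK LD1_c1 LD2_c18 LD3_c40)) :=
  Lre_b IH (LK LD1_c2 LD2_c44 LD3_c38) (LK LD1_c1 LD2_c18 LD3_c40) Lrfl Lrfl
theorem f561369 : Led Lsl_bf (LP (LK LD1_c11 LD2_c7 LD3_c5)) = (LP (LK LD1_c5 LD2_c47 LD3_c10)) :=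
  Lgr Lrot165 (Lpr_gt (f211893 IH) (Lpr_ct (f561328 IH) (Lpr_gt (f174512 IH) (Lpe (K20.f174457 IH) (Lpr_bt (K31.f174441 IH) (Lpr_gt (K31.f242667 IH) (Lpe (f226701 IH) (Lpr_ct (K27.f211946 IH) (Lpr_gt (K39.f242672 IH) (Lpe (K39.f552449 IH) (Lpn (LP (LK LD1_c5 LD2_c47 LD3_c10)))))))))))))
theorem f561365 : Led Lsl_bt (LP (LK LD1_c2 LD2_c44 LD3_c53)) = (LP (LK LD1_c5 LD2_c37 LD3_c52)) :=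
  Lre_b IH (LK LD1_c2 LD2_c44 LD3_c53) (LK LD1_c5 LD2_c37 LD3_c52) Lrfl Lrfl
theorem f279617 : Led Lsl_ct (LP (LK LD1_c2 LD2_c44 LD3_c53)) = (LP (LK LD1_c5 LD2_c37 LD3_c58)) :=
  Lre_c IH (LK LD1_c2 LD2_c44 LD3_c53) (LK LD1_c5 LD2_c37 LD3_c58) Lrfl Lrfl
theorem f561361 : Led Lsl_gt (LP (LK LD1_c5 LD2_c37 LD3_c58)) = (LP (LK LD1_c11 LD2_c7 LD3_c9)) :=
  Lre_g IH (LK LD1_c5 LD2_c37 LD3_c58) (LK LD1_c11 LD2_c7 LD3_c9) Lrfl Lrfl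
theorem f381950 : Led Lsl_bt (LP (LK LD1_c5 LD2_c43 LD3_c13)) = (LP (LK LD1_c2 LD2_c47 LD3_c38)) :=
  Lre_b IH (LK LD1_c5 LD2_c43 LD3_c13) (LK LD1_c2 LD2_c47 LD3_c38) Lrfl Lrfl
theorem f561376 : Led Lsl_cf (LP (LK LD1_c11 LD2_c7 LD3_c9)) = (LP (LK LD1_c5 LD2_c43 LD3_c13)) :=
  Lgr Lrot58 (Lpe (f561361 IH) (Lpe (f279617 IH) (Lpr_bt (f561365 IH) (Lpe (f211893 IH) (Lpr_bf (f561369 IH) (Lpr_ct (K39.f552449 IH) (Lpe (K39.f242672 IH) (Lpe (K27.f211946 IH) (Lpe (K37.f382451 IH) (Lpe (f381950 IH) (Lpn (LP (LK LD1_c5 LD2_c43 LD3_c13)))))))))))))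
theorem f561366 : Led Lsl_dt (LP (LK LD1_c11 LD2_c7 LD3_c9)) = (LP (LK LD1_c20 LD2_c0 LD3_c29)) :=
  Lre_d IH (LK LD1_c11 LD2_c7 LD3_c9) (LK LD1_c20 LD2_c0 LD3_c29) Lrfl Lrfl
theorem f381810 : Led Lsl_dt (LP (LK LD1_c2 LD2_c47 LD3_c37)) = (LP (LK LD1_c5 LD2_c43 LD3_c13)) :=
  Lre_d IH (LK LD1_c2 LD2_c47 LD3_c37) (LK LD1_c5 LD2_c43 LD3_c13) Lrfl Lrfl
theorem f381818 : Led Lsl_dt (LP (LK LD1_c5 LD2_c43 LD3_c39)) = (LP (LK LD1_c2 LD2_c47 LD3_c51)) :=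
  Lre_d IH (LK LD1_c5 LD2_c43 LD3_c39) (LK LD1_c2 LD2_c47 LD3_c51) Lrfl Lrfl
theorem f181476 : Led Lsl_dt (LP (LK LD1_c2 LD2_c47 LD3_c42)) = (LP (LK LD1_c5 LD2_c43 LD3_c21)) :=
  Lre_d IH (LK LD1_c2 LD2_c47 LD3_c42) (LK LD1_c5 LD2_c43 LD3_c21) Lrfl Lrfl
theorem f381819 : Led Lsl_ff (LP (LK LD1_c5 LD2_c43 LD3_c39)) = (LP (LK LD1_c5 LD2_c43 LD3_c21)) :=
  Lgr Lrot19 (Lpr_dt (f381818 IH) (Lpr_ft (K27.f381812 IH) (Lpr_dt (f181476 IH) (Lpn (LP (LK LD1_c5 LD2_c43 LD3_c21))))))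
theorem f381850 : Led Lsl_at (LP (LK LD1_c5 LD2_c43 LD3_c39)) = (LP (LK LD1_c2 LD2_c47 LD3_c52)) :=
  Lre_a IH (LK LD1_c5 LD2_c43 LD3_c39) (LK LD1_c2 LD2_c47 LD3_c52) Lrfl Lrfl
theorem f561388 : Led Lsl_ct (LP (LK LD1_c20 LD2_c0 LD3_c29)) = (LP (LK LD1_c11 LD2_c17 LD3_c21)) :=
  Lgr Lrot53 (Lpe (f561366 IH) (Lpr_cf (f561376 IH) (Lpe (f381810 IH) (Lpe (K31.f381975 IH) (Lpe (K36.f181475 IH) (Lpe (f381819 IH) (Lpr_at (f381850 IH) (Lpe (K31.f381835 IH) (Lpe (K31.f381834 IH) (Lpn (LP (LK LD1_c11 LD2_c17 LD3_c21))))))))))))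
theorem f561394 : Led Lsl_cf (LP (LK LD1_c20 LD2_c0 LD3_c29)) = (LP (LK LD1_c11 LD2_c17 LD3_c21)) :=
  Lgr Lrot11 (Lpr_ct (f561388 IH) (Lpn (LP (LK LD1_c11 LD2_c17 LD3_c21))))
theorem f561396 : Led Lsl_bt (LP (LK LD1_c20 LD2_c0 LD3_c29)) = (LP (LK LD1_c29 LD2_c14 LD3_c41)) :=
  Lre_b IH (LK LD1_c20 LD2_c0 LD3_c29) (LK LD1_c29 LD2_c14 LD3_c41) Lrfl Lrfl
theorem f423184 : Led Lsl_bt (LP (LK LD1_c20 LD2_c13 LD3_c28)) = (LP (LK LD1_c11 LD2_c17 LD3_c21)) :=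
  Lre_b IH (LK LD1_c20 LD2_c13 LD3_c28) (LK LD1_c11 LD2_c17 LD3_c21) Lrfl Lrfl
theorem f382229 : Led Lsl_ct (LP (LK LD1_c29 LD2_c22 LD3_c0)) = (LP (LK LD1_c20 LD2_c13 LD3_c28)) :=
  Lre_c IH (LK LD1_c29 LD2_c22 LD3_c0) (LK LD1_c20 LD2_c13 LD3_c28) Lrfl Lrfl
theorem f39078 : Led Lsl_bt (LP (LK LD1_c4 LD2_c21 LD3_c26)) = (LP (LK LD1_c8 LD2_c40 LD3_c28)) :=
  Lre_b IH (LK LD1_c4 LD2_c21 LD3_c26) (LK LD1_c8 LD2_c40 LD3_c28) Lrfl Lrfl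
theorem f382248 : Led Lsl_ft (LP (LK LD1_c8 LD2_c40 LD3_c28)) = (LP (LK LD1_c16 LD2_c14 LD3_c45)) :=
  Lre_f IH (LK LD1_c8 LD2_c40 LD3_c28) (LK LD1_c16 LD2_c14 LD3_c45) Lrfl Lrfl
theorem f444751 : Led Lsl_bf (LP (LK LD1_c8 LD2_c40 LD3_c30)) = (LP (LK LD1_c16 LD2_c14 LD3_c45)) :=
  Lgr Lrot61 (Lpr_ft (K13.f39074 IH) (Lpr_bt (f39078 IH) (Lpr_ft (f382248 IH) (Lpn (LP (LK LD1_c16 LD2_c14 LD3_c45))))))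
theorem f39067 : Led Lsl_et (LP (LK LD1_c8 LD2_c40 LD3_c30)) = (LP (LK LD1_c16 LD2_c14 LD3_c47)) :=
  Lre_e IH (LK LD1_c8 LD2_c40 LD3_c30) (LK LD1_c16 LD2_c14 LD3_c47) Lrfl Lrfl
theorem f444756 : Led Lsl_et (LP (LK LD1_c26 LD2_c12 LD3_c2)) = (LP (LK LD1_c16 LD2_c14 LD3_c45)) :=
  Lre_e IH (LK LD1_c26 LD2_c12 LD3_c2) (LK LD1_c16 LD2_c14 LD3_c45) Lrfl Lrfl
theorem f444757 : Led Lsl_bt (LP (LK LD1_c16 LD2_c14 LD3_c47)) = (LP (LK LD1_c26 LD2_c12 LD3_c2)) :=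
  Lgr Lrot119 (Lpe (f39067 IH) (Lpr_bf (f444751 IH) (Lpe (f444756 IH) (Lpn (LP (LK LD1_c26 LD2_c12 LD3_c2))))))
theorem f39406 : Led Lsl_ct (LP (LK LD1_c8 LD2_c40 LD3_c31)) = (LP (LK LD1_c16 LD2_c14 LD3_c47)) :=
  Lre_c IH (LK LD1_c8 LD2_c40 LD3_c31) (LK LD1_c16 LD2_c14 LD3_c47) Lrfl Lrfl
theorem f39387 : Led Lsl_bt (LP (LK LD1_c16 LD2_c14 LD3_c44)) = (LP (LK LD1_c8 LD2_c40 LD3_c31)) :=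
  Lre_b IH (LK LD1_c16 LD2_c14 LD3_c44) (LK LD1_c8 LD2_c40 LD3_c31) Lrfl Lrfl
theorem f444761 : Led Lsl_ct (LP (LK LD1_c26 LD2_c11 LD3_c60)) = (LP (LK LD1_c16 LD2_c14 LD3_c44)) :=
  Lre_c IH (LK LD1_c26 LD2_c11 LD3_c60) (LK LD1_c16 LD2_c14 LD3_c44) Lrfl Lrfl
theorem f444762 : Led Lsl_bt (LP (LK LD1_c32 LD2_c5 LD3_c54)) = (LP (LK LD1_c26 LD2_c11 LD3_c60)) :=
  Lre_b IH (LK LD1_c32 LD2_c5 LD3_c54) (LK LD1_c26 LD2_c11 LD3_c60) Lrfl Lrfl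
theorem f444763 : Led Lsl_cf (LP (LK LD1_c32 LD2_c5 LD3_c54)) = (LP (LK LD1_c26 LD2_c12 LD3_c2)) :=
  Lgr Lrot97 (Lpr_bt (f444762 IH) (Lpr_ct (f444761 IH) (Lpr_bt (f39387 IH) (Lpr_ct (f39406 IH) (Lpr_bt (f444757 IH) (Lpn (LP (LK LD1_c26 LD2_c12 LD3_c2))))))))
theorem f444766 : Led Lsl_ct (LP (LK LD1_c32 LD2_c5 LD3_c54)) = (LP (LK LD1_c26 LD2_c12 LD3_c2)) :=
  Lgr Lrot59 (Lpr_cf (f444763 IH) (Lpn (LP (LK LD1_c26 LD2_c12 LD3_c2))))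
theorem f444771 : Led Lsl_et (LP (LK LD1_c26 LD2_c11 LD3_c58)) = (LP (LK LD1_c32 LD2_c5 LD3_c54)) :=
  Lre_e IH (LK LD1_c26 LD2_c11 LD3_c58) (LK LD1_c32 LD2_c5 LD3_c54) Lrfl Lrfl
theorem f444772 : Led Lsl_cf (LP (LK LD1_c26 LD2_c11 LD3_c58)) = (LP (LK LD1_c16 LD2_c14 LD3_c45)) :=
  Lgr Lrot39 (Lpr_et (f444771 IH) (Lpr_ct (f444766 IH) (Lpr_et (f444756 IH) (Lpn (LP (LK LD1_c16 LD2_c14 LD3_c45))))))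
theorem f232453 : Led Lsl_dt (LP (LK LD1_c8 LD2_c40 LD3_c29)) = (LP (LK LD1_c16 LD2_c14 LD3_c45)) :=
  Lre_d IH (LK LD1_c8 LD2_c40 LD3_c29) (LK LD1_c16 LD2_c14 LD3_c45) Lrfl Lrfl
theorem f232215 : Led Lsl_bt (LP (LK LD1_c9 LD2_c36 LD3_c39)) = (LP (LK LD1_c4 LD2_c52 LD3_c8)) :=
  Lre_b IH (LK LD1_c9 LD2_c36 LD3_c39) (LK LD1_c4 LD2_c52 LD3_c8) Lrfl Lrfl
theorem f220726 : Led Lsl_bt (LP (LK LD1_c4 LD2_c21 LD3_c3)) = (LP (LK LD1_c8 LD2_c39 LD3_c50)) :=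
  Lre_b IH (LK LD1_c4 LD2_c21 LD3_c3) (LK LD1_c8 LD2_c39 LD3_c50) Lrfl Lrfl
theorem f232435 : Led Lsl_ff (LP (LK LD1_c9 LD2_c36 LD3_c39)) = (LP (LK LD1_c8 LD2_c39 LD3_c50)) :=
  Lgr Lrot25 (Lpr_bt (f232215 IH) (Lpr_ft (K16.f232433 IH) (Lpr_bt (f220726 IH) (Lpn (LP (LK LD1_c8 LD2_c39 LD3_c50))))))
theorem f200108 : Led Lsl_ct (LP (LK LD1_c4 LD2_c21 LD3_c25)) = (LP (LK LD1_c8 LD2_c39 LD3_c50)) :=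
  Lre_c IH (LK LD1_c4 LD2_c21 LD3_c25) (LK LD1_c8 LD2_c39 LD3_c50) Lrfl Lrfl
theorem f232441 : Led Lsl_ct (LP (LK LD1_c9 LD2_c36 LD3_c39)) = (LP (LK LD1_c8 LD2_c40 LD3_c29)) :=
  Lgr Lrot40 (Lpr_ff (f232435 IH) (Lpe (f200108 IH) (Lpe (K13.f232440 IH) (Lpn (LP (LK LD1_c8 LD2_c40 LD3_c29))))))
theorem f270558 : Led Lsl_bt (LP (LK LD1_c16 LD2_c7 LD3_c44)) = (LP (LK LD1_c8 LD2_c36 LD3_c20)) :=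
  Lre_b IH (LK LD1_c16 LD2_c7 LD3_c44) (LK LD1_c8 LD2_c36 LD3_c20) Lrfl Lrfl
theorem f232223 : Led Lsl_bt (LP (LK LD1_c4 LD2_c52 LD3_c8)) = (LP (LK LD1_c9 LD2_c36 LD3_c39)) :=
  Lre_b IH (LK LD1_c4 LD2_c52 LD3_c8) (LK LD1_c9 LD2_c36 LD3_c39) Lrfl Lrfl
theorem f270688 : Led Lsl_df (LP (LK LD1_c16 LD2_c7 LD3_c44)) = (LP (LK LD1_c9 LD2_c36 LD3_c39)) :=
  Lgr Lrot12 (Lpr_bt (f270558 IH) (Lpr_dt (K27.f270686 IH) (Lpr_bt (f232223 IH) (Lpn (LP (LK LD1_c9 LD2_c36 LD3_c39))))))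
theorem f270694 : Led Lsl_dt (LP (LK LD1_c16 LD2_c7 LD3_c44)) = (LP (LK LD1_c9 LD2_c36 LD3_c39)) :=
  Lgr Lrot42 (Lpr_df (f270688 IH) (Lpn (LP (LK LD1_c9 LD2_c36 LD3_c39))))
theorem f381739 : Led Lsl_bt (LP (LK LD1_c5 LD2_c43 LD3_c16)) = (LP (LK LD1_c6 LD2_c4 LD3_c19)) :=
  Lgr Lrot35 (Lpr_ff (K27.f381737 IH) (Lpr_bf (K27.f381469 IH) (Lpr_ff (K19.f232806 IH) (Lpn (LP (LK LD1_c6 LD2_c4 LD3_c19))))))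
theorem f381951 : Led Lsl_bt (LP (LK LD1_c1 LD2_c20 LD3_c10)) = (LP (LK LD1_c2 LD2_c47 LD3_c39)) :=
  Lre_b IH (LK LD1_c1 LD2_c20 LD3_c10) (LK LD1_c2 LD2_c47 LD3_c39) Lrfl Lrfl
theorem f381665 : Led Lsl_bt (LP (LK LD1_c5 LD2_c43 LD3_c30)) = (LP (LK LD1_c2 LD2_c47 LD3_c46)) :=
  Lre_b IH (LK LD1_c5 LD2_c43 LD3_c30) (LK LD1_c2 LD2_c47 LD3_c46) Lrfl Lrfl
theorem f382169 : Led Lsl_cf (LP (LK LD1_c5 LD2_c43 LD3_c30)) = (LP (LK LD1_c6 LD2_c4 LD3_c19)) :=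
  Lgr Lrot97 (Lpr_bt (f381665 IH) (Lpr_ct (K27.f381115 IH) (Lpr_bt (f381951 IH) (Lpr_ct (K27.f381134 IH) (Lpr_bt (f381739 IH) (Lpn (LP (LK LD1_c6 LD2_c4 LD3_c19))))))))
theorem f170640 : Led Lsl_ct (LP (LK LD1_c4 LD2_c11 LD3_c29)) = (LP (LK LD1_c8 LD2_c22 LD3_c45)) :=
  Lre_c IH (LK LD1_c4 LD2_c11 LD3_c29) (LK LD1_c8 LD2_c22 LD3_c45) Lrfl Lrfl
theorem f251991 : Led Lsl_df (LP (LK LD1_c8 LD2_c25 LD3_c35)) = (LP (LK LD1_c4 LD2_c16 LD3_c44)) :=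
  Lgr Lrot18 (Lpr_at (K14.f251987 IH) (Lpr_dt (K14.f167768 IH) (Lpr_at (K14.f230317 IH) (Lpn (LP (LK LD1_c4 LD2_c16 LD3_c44))))))
theorem f287718 : Led Lsl_dt (LP (LK LD1_c8 LD2_c21 LD3_c29)) = (LP (LK LD1_c4 LD2_c11 LD3_c27)) :=
  Lgr Lrot113 (Lpe (K27.f251979 IH) (Lpr_df (f251991 IH) (Lpe (K14.f252032 IH) (Lpr_ct (K14.f252043 IH) (Lpr_gt (K17.f287714 IH) (Lpr_dt (K15.f230390 IH) (Lpr_gt (K25.f266245 IH) (Lpr_dt (K12.f219374 IH) (Lpr_ct (K15.f256051 IH) (Lpn (LP (LK LD1_c4 LD2_c11 LD3_c27))))))))))))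
theorem f290153 : Led Lsl_df (LP (LK LD1_c4 LD2_c21 LD3_c3)) = (LP (LK LD1_c8 LD2_c25 LD3_c34)) :=
  Lgr Lrot153 (Lpr_gt (K17.f290149 IH) (Lpe (K17.f290109 IH) (Lpe (f170640 IH) (Lpe (K17.f170639 IH) (Lpe (K15.f167007 IH) (Lpe (f287718 IH) (Lpe (K27.f251979 IH) (Lpe (K14.f184352 IH) (Lpr_gt (K19.f184315 IH) (Lpn (LP (LK LD1_c8 LD2_c25 LD3_c34))))))))))))
theorem f309999 : Led Lsl_ft (LP (LK LD1_c8 LD2_c25 LD3_c34)) = (LP (LK LD1_c8 LD2_c36 LD3_c20)) :=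
  Lgr Lrot54 (Lpr_df (K19.f309995 IH) (Lpe (K16.f232433 IH) (Lpe (K27.f270686 IH) (Lpn (LP (LK LD1_c8 LD2_c36 LD3_c20))))))
theorem f382182 : Led Lsl_af (LP (LK LD1_c5 LD2_c43 LD3_c30)) = (LP (LK LD1_c8 LD2_c36 LD3_c20)) :=
  Lgr Lrot109 (Lpr_cf (f382169 IH) (Lpe (K9.f29024 IH) (Lpe (K9.f29023 IH) (Lpe (K11.f29022 IH) (Lpe (K12.f29011 IH) (Lpe (K13.f29018 IH) (Lpe (K16.f29019 IH) (Lpr_df (f290153 IH) (Lpr_ft (f309999 IH) (Lpn (LP (LK LD1_c8 LD2_c36 LD3_c20))))))))))))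
theorem f381981 : Led Lsl_at (LP (LK LD1_c2 LD2_c47 LD3_c46)) = (LP (LK LD1_c5 LD2_c43 LD3_c14)) :=
  Lre_a IH (LK LD1_c2 LD2_c47 LD3_c46) (LK LD1_c5 LD2_c43 LD3_c14) Lrfl Lrfl
theorem f382190 : Led Lsl_bt (LP (LK LD1_c5 LD2_c43 LD3_c14)) = (LP (LK LD1_c11 LD2_c16 LD3_c41)) :=
  Lre_b IH (LK LD1_c5 LD2_c43 LD3_c14) (LK LD1_c11 LD2_c16 LD3_c41) Lrfl Lrfl
theorem f382191 : Led Lsl_at (LP (LK LD1_c11 LD2_c16 LD3_c41)) = (LP (LK LD1_c16 LD2_c7 LD3_c44)) :=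
  Lgr Lrot67 (Lpe (f382190 IH) (Lpe (f381981 IH) (Lpe (f381665 IH) (Lpr_af (f382182 IH) (Lpe (f270558 IH) (Lpn (LP (LK LD1_c16 LD2_c7 LD3_c44))))))))
theorem f382210 : Led Lsl_ft (LP (LK LD1_c5 LD2_c43 LD3_c48)) = (LP (LK LD1_c11 LD2_c16 LD3_c41)) :=
  Lre_f IH (LK LD1_c5 LD2_c43 LD3_c48) (LK LD1_c11 LD2_c16 LD3_c41) Lrfl Lrfl
theorem f381655 : Led Lsl_at (LP (LK LD1_c11 LD2_c17 LD3_c36)) = (LP (LK LD1_c5 LD2_c43 LD3_c48)) :=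
  Lre_a IH (LK LD1_c11 LD2_c17 LD3_c36) (LK LD1_c5 LD2_c43 LD3_c48) Lrfl Lrfl
theorem f382211 : Led Lsl_ff (LP (LK LD1_c11 LD2_c17 LD3_c36)) = (LP (LK LD1_c16 LD2_c7 LD3_c44)) :=
  Lgr Lrot30 (Lpr_at (f381655 IH) (Lpr_ft (f382210 IH) (Lpr_at (f382191 IH) (Lpn (LP (LK LD1_c16 LD2_c7 LD3_c44))))))
theorem f382023 : Led Lsl_ct (LP (LK LD1_c11 LD2_c17 LD3_c20)) = (LP (LK LD1_c5 LD2_c43 LD3_c48)) :=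
  Lre_c IH (LK LD1_c11 LD2_c17 LD3_c20) (LK LD1_c5 LD2_c43 LD3_c48) Lrfl Lrfl
theorem f382228 : Led Lsl_dt (LP (LK LD1_c20 LD2_c13 LD3_c28)) = (LP (LK LD1_c11 LD2_c17 LD3_c20)) :=
  Lre_d IH (LK LD1_c20 LD2_c13 LD3_c28) (LK LD1_c11 LD2_c17 LD3_c20) Lrfl Lrfl
theorem f444779 : Led Lsl_dt (LP (LK LD1_c26 LD2_c11 LD3_c58)) = (LP (LK LD1_c29 LD2_c22 LD3_c0)) :=
  Lgr Lrot140 (Lpr_cf (f444772 IH) (Lpe (f232453 IH) (Lpe (f232441 IH) (Lpe (f270694 IH) (Lpe (f382211 IH) (Lpr_at (f381655 IH) (Lpe (f382023 IH) (Lpe (f382228 IH) (Lpe (f382229 IH) (Lpn (LP (LK LD1_c29 LD2_c22 LD3_c0))))))))))))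
theorem f444783 : Led Lsl_df (LP (LK LD1_c26 LD2_c11 LD3_c58)) = (LP (LK LD1_c29 LD2_c22 LD3_c0)) :=
  Lgr Lrot38 (Lpr_dt (f444779 IH) (Lpn (LP (LK LD1_c29 LD2_c22 LD3_c0))))
theorem f444776 : Led Lsl_bt (LP (LK LD1_c26 LD2_c11 LD3_c58)) = (LP (LK LD1_c16 LD2_c14 LD3_c43)) :=
  Lre_b IH (LK LD1_c26 LD2_c11 LD3_c58) (LK LD1_c16 LD2_c14 LD3_c43) Lrfl Lrfl
theorem f232479 : Led Lsl_dt (LP (LK LD1_c16 LD2_c14 LD3_c43)) = (LP (LK LD1_c26 LD2_c11 LD3_c59)) :=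
  Lre_d IH (LK LD1_c16 LD2_c14 LD3_c43) (LK LD1_c26 LD2_c11 LD3_c59) Lrfl Lrfl
theorem f444786 : Led Lsl_bt (LP (LK LD1_c26 LD2_c11 LD3_c59)) = (LP (LK LD1_c29 LD2_c22 LD3_c0)) :=
  Lgr Lrot95 (Lpe (f232479 IH) (Lpe (f444776 IH) (Lpr_df (f444783 IH) (Lpn (LP (LK LD1_c29 LD2_c22 LD3_c0))))))
theorem f561397 : Led Lsl_ct (LP (LK LD1_c29 LD2_c14 LD3_c41)) = (LP (LK LD1_c26 LD2_c11 LD3_c59)) :=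
  Lgr Lrot83 (Lpe (f561396 IH) (Lpr_cf (f561394 IH) (Lpe (f423184 IH) (Lpe (f382229 IH) (Lpe (f444786 IH) (Lpn (LP (LK LD1_c26 LD2_c11 LD3_c59))))))))
theorem f561399 : Led Lsl_dt (LP (LK LD1_c20 LD2_c0 LD3_c28)) = (LP (LK LD1_c29 LD2_c14 LD3_c41)) :=
  Lre_d IH (LK LD1_c20 LD2_c0 LD3_c28) (LK LD1_c29 LD2_c14 LD3_c41) Lrfl Lrfl
theorem f232470 : Led Lsl_dt (LP (LK LD1_c26 LD2_c11 LD3_c59)) = (LP (LK LD1_c16 LD2_c14 LD3_c43)) :=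
  Lre_d IH (LK LD1_c26 LD2_c11 LD3_c59) (LK LD1_c16 LD2_c14 LD3_c43) Lrfl Lrfl
theorem f232469 : Led Lsl_ct (LP (LK LD1_c16 LD2_c14 LD3_c43)) = (LP (LK LD1_c8 LD2_c40 LD3_c28)) :=
  Lre_c IH (LK LD1_c16 LD2_c14 LD3_c43) (LK LD1_c8 LD2_c40 LD3_c28) Lrfl Lrfl
theorem f232939 : Led Lsl_dt (LP (LK LD1_c8 LD2_c40 LD3_c28)) = (LP (LK LD1_c4 LD2_c21 LD3_c25)) :=
  Lre_d IH (LK LD1_c8 LD2_c40 LD3_c28) (LK LD1_c4 LD2_c21 LD3_c25) Lrfl Lrfl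
theorem f382223 : Led Lsl_ft (LP (LK LD1_c11 LD2_c17 LD3_c36)) = (LP (LK LD1_c16 LD2_c7 LD3_c44)) :=
  Lgr Lrot48 (Lpr_ff (f382211 IH) (Lpn (LP (LK LD1_c16 LD2_c7 LD3_c44))))
theorem f232430 : Led Lsl_bt (LP (LK LD1_c8 LD2_c39 LD3_c50)) = (LP (LK LD1_c4 LD2_c21 LD3_c3)) :=
  Lre_b IH (LK LD1_c8 LD2_c39 LD3_c50) (LK LD1_c4 LD2_c21 LD3_c3) Lrfl Lrfl
theorem f232431 : Led Lsl_ft (LP (LK LD1_c9 LD2_c36 LD3_c39)) = (LP (LK LD1_c8 LD2_c39 LD3_c50)) :=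
  Lgr Lrot75 (Lpe (f232223 IH) (Lpr_ff (K16.f232428 IH) (Lpe (f232430 IH) (Lpn (LP (LK LD1_c8 LD2_c39 LD3_c50))))))
theorem f382233 : Led Lsl_df (LP (LK LD1_c11 LD2_c17 LD3_c36)) = (LP (LK LD1_c8 LD2_c39 LD3_c50)) :=
  Lgr Lrot78 (Lpr_ft (f382223 IH) (Lpr_dt (f270694 IH) (Lpr_ft (f232431 IH) (Lpn (LP (LK LD1_c8 LD2_c39 LD3_c50))))))
theorem f382219 : Led Lsl_ct (LP (LK LD1_c11 LD2_c17 LD3_c36)) = (LP (LK LD1_c20 LD2_c13 LD3_c27)) :=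
  Lre_c IH (LK LD1_c11 LD2_c17 LD3_c36) (LK LD1_c20 LD2_c13 LD3_c27) Lrfl Lrfl
theorem f382247 : Led Lsl_at (LP (LK LD1_c11 LD2_c17 LD3_c20)) = (LP (LK LD1_c20 LD2_c13 LD3_c27)) :=
  Lre_a IH (LK LD1_c11 LD2_c17 LD3_c20) (LK LD1_c20 LD2_c13 LD3_c27) Lrfl Lrfl
theorem f561402 : Led Lsl_ft (LP (LK LD1_c20 LD2_c0 LD3_c28)) = (LP (LK LD1_c11 LD2_c17 LD3_c20)) :=
  Lgr Lrot142 (Lpr_dt (f561399 IH) (Lpr_ct (f561397 IH) (Lpr_dt (f232470 IH) (Lpr_ct (f232469 IH) (Lpr_dt (f232939 IH) (Lpr_ct (f200108 IH) (Lpe (f382233 IH) (Lpr_ct (f382219 IH) (Lpe (f382247 IH) (Lpn (LP (LK LD1_c11 LD2_c17 LD3_c20))))))))))))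
theorem f561411 : Led Lsl_ff (LP (LK LD1_c20 LD2_c0 LD3_c28)) = (LP (LK LD1_c11 LD2_c17 LD3_c20)) :=
  Lgr Lrot3 (Lpr_ft (f561402 IH) (Lpn (LP (LK LD1_c11 LD2_c17 LD3_c20))))
theorem f561413 : Led Lsl_ft (LP (LK LD1_c29 LD2_c14 LD3_c41)) = (LP (LK LD1_c20 LD2_c13 LD3_c28)) :=
  Lgr Lrot54 (Lpe (f561399 IH) (Lpr_ff (f561411 IH) (Lpe (f382228 IH) (Lpn (LP (LK LD1_c20 LD2_c13 LD3_c28))))))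
theorem f382383 : Led Lsl_at (LP (LK LD1_c20 LD2_c13 LD3_c28)) = (LP (LK LD1_c29 LD2_c21 LD3_c60)) :=
  Lre_a IH (LK LD1_c20 LD2_c13 LD3_c28) (LK LD1_c29 LD2_c21 LD3_c60) Lrfl Lrfl
theorem f270568 : Led Lsl_bt (LP (LK LD1_c8 LD2_c36 LD3_c20)) = (LP (LK LD1_c16 LD2_c7 LD3_c44)) :=
  Lre_b IH (LK LD1_c8 LD2_c36 LD3_c20) (LK LD1_c16 LD2_c7 LD3_c44) Lrfl Lrfl
theorem f382217 : Led Lsl_bt (LP (LK LD1_c11 LD2_c17 LD3_c36)) = (LP (LK LD1_c8 LD2_c25 LD3_c34)) :=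
  Lgr Lrot35 (Lpr_ff (f382211 IH) (Lpe (f270568 IH) (Lpe (f309999 IH) (Lpn (LP (LK LD1_c8 LD2_c25 LD3_c34))))))
theorem f382232 : Led Lsl_ct (LP (LK LD1_c20 LD2_c13 LD3_c27)) = (LP (LK LD1_c11 LD2_c17 LD3_c36)) :=
  Lre_c IH (LK LD1_c20 LD2_c13 LD3_c27) (LK LD1_c11 LD2_c17 LD3_c36) Lrfl Lrfl
theorem f382249 : Led Lsl_dt (LP (LK LD1_c29 LD2_c21 LD3_c60)) = (LP (LK LD1_c20 LD2_c13 LD3_c27)) :=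
  Lre_d IH (LK LD1_c29 LD2_c21 LD3_c60) (LK LD1_c20 LD2_c13 LD3_c27) Lrfl Lrfl
theorem f251964 : Led Lsl_df (LP (LK LD1_c4 LD2_c18 LD3_c39)) = (LP (LK LD1_c8 LD2_c21 LD3_c30)) :=
  Lgr Lrot38 (Lpr_dt (K14.f251956 IH) (Lpn (LP (LK LD1_c8 LD2_c21 LD3_c30))))
theorem f310003 : Led Lsl_gt (LP (LK LD1_c8 LD2_c25 LD3_c34)) = (LP (LK LD1_c8 LD2_c21 LD3_c30)) :=
  Lgr Lrot49 (Lpr_df (K19.f309995 IH) (Lpe (K16.f228924 IH) (Lpe (K16.f2860 IH) (Lpr_gt (K12.f221994 IH) (Lpr_dt (K12.f53774 IH) (Lpr_gt (K14.f231230 IH) (Lpr_dt (K14.f246649 IH) (Lpe (K19.f230314 IH) (Lpr_df (f251964 IH) (Lpn (LP (LK LD1_c8 LD2_c21 LD3_c30))))))))))))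
theorem f213554 : Led Lsl_dt (LP (LK LD1_c5 LD2_c33 LD3_c2)) = (LP (LK LD1_c10 LD2_c57 LD3_c57)) :=
  Lre_d IH (LK LD1_c5 LD2_c33 LD3_c2) (LK LD1_c10 LD2_c57 LD3_c57) Lrfl Lrfl
theorem f213555 : Led Lsl_ct (LP (LK LD1_c10 LD2_c57 LD3_c57)) = (LP (LK LD1_c19 LD2_c48 LD3_c7)) :=
  Lre_c IH (LK LD1_c10 LD2_c57 LD3_c57) (LK LD1_c19 LD2_c48 LD3_c7) Lrfl Lrfl
theorem f213556 : Led Lsl_bt (LP (LK LD1_c19 LD2_c48 LD3_c7)) = (LP (LK LD1_c29 LD2_c6 LD3_c15)) :=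
  Lre_b IH (LK LD1_c19 LD2_c48 LD3_c7) (LK LD1_c29 LD2_c6 LD3_c15) Lrfl Lrfl
theorem f382381 : Led Lsl_gf (LP (LK LD1_c29 LD2_c21 LD3_c60)) = (LP (LK LD1_c29 LD2_c6 LD3_c15)) :=
  Lgr Lrot85 (Lpr_dt (f382249 IH) (Lpr_ct (f382232 IH) (Lpr_bt (f382217 IH) (Lpr_gt (f310003 IH) (Lpe (f251964 IH) (Lpr_ct (K19.f230314 IH) (Lpe (K17.f267205 IH) (Lpr_gt (K15.f267192 IH) (Lpe (K15.f267181 IH) (Lpe (K16.f267197 IH) (Lpr_bt (K15.f238073 IH) (Lpe (K14.f246817 IH) (Lpe (K14.f171297 IH) (Lpr_ct (K13.f171302 IH) (Lpe (K20.f213482 IH) (Lpr_gt (K20.f213007 IH) (Lpr_dt (f213554 IH) (Lpr_ct (f213555 IH) (Lpr_bt (f213556 IH) (Lpn (LP (LK LD1_c29 LD2_c6 LD3_c15))))))))))))))))))))))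
theorem f561418 : Led Lsl_gt (LP (LK LD1_c29 LD2_c14 LD3_c41)) = (LP (LK LD1_c29 LD2_c6 LD3_c15)) :=
  Lgr Lrot5 (Lpr_ft (f561413 IH) (Lpr_at (f382383 IH) (Lpr_gf (f382381 IH) (Lpn (LP (LK LD1_c29 LD2_c6 LD3_c15))))))
theorem f382384 : Led Lsl_ct (LP (LK LD1_c19 LD2_c48 LD3_c7)) = (LP (LK LD1_c10 LD2_c57 LD3_c57)) :=
  Lre_c IH (LK LD1_c19 LD2_c48 LD3_c7) (LK LD1_c10 LD2_c57 LD3_c57) Lrfl Lrfl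
theorem f380795 : Led Lsl_dt (LP (LK LD1_c10 LD2_c57 LD3_c38)) = (LP (LK LD1_c5 LD2_c32 LD3_c56)) :=
  Lre_d IH (LK LD1_c10 LD2_c57 LD3_c38) (LK LD1_c5 LD2_c32 LD3_c56) Lrfl Lrfl
theorem f380796 : Led Lsl_gt (LP (LK LD1_c19 LD2_c47 LD3_c36)) = (LP (LK LD1_c10 LD2_c57 LD3_c38)) :=
  Lre_g IH (LK LD1_c19 LD2_c47 LD3_c36) (LK LD1_c10 LD2_c57 LD3_c38) Lrfl Lrfl
theorem f226604 : Led Lsl_gt (LP (LK LD1_c2 LD2_c44 LD3_c15)) = (LP (LK LD1_c1 LD2_c18 LD3_c28)) :=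
  Lre_g IH (LK LD1_c2 LD2_c44 LD3_c15) (LK LD1_c1 LD2_c18 LD3_c28) Lrfl Lrfl
theorem f226606 : Led Lsl_ct (LP (LK LD1_c5 LD2_c36 LD3_c50)) = (LP (LK LD1_c2 LD2_c44 LD3_c15)) :=
  Lre_c IH (LK LD1_c5 LD2_c36 LD3_c50) (LK LD1_c2 LD2_c44 LD3_c15) Lrfl Lrfl
theorem f384986 : Led Lsl_ft (LP (LK LD1_c11 LD2_c5 LD3_c38)) = (LP (LK LD1_c16 LD2_c50 LD3_c54)) :=
  Lgr Lrot48 (Lpr_ff (K30.f384980 IH) (Lpn (LP (LK LD1_c16 LD2_c50 LD3_c54))))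
theorem f226499 : Led Lsl_bt (LP (LK LD1_c19 LD2_c58 LD3_c47)) = (LP (LK LD1_c11 LD2_c5 LD3_c38)) :=
  Lre_b IH (LK LD1_c19 LD2_c58 LD3_c47) (LK LD1_c11 LD2_c5 LD3_c38) Lrfl Lrfl
theorem f384988 : Led Lsl_ff (LP (LK LD1_c19 LD2_c58 LD3_c47)) = (LP (LK LD1_c26 LD2_c48 LD3_c21)) :=
  Lgr Lrot25 (Lpr_bt (f226499 IH) (Lpr_ft (f384986 IH) (Lpr_bt (K30.f384975 IH) (Lpn (LP (LK LD1_c26 LD2_c48 LD3_c21))))))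
theorem f385025 : Led Lsl_ct (LP (LK LD1_c19 LD2_c58 LD3_c47)) = (LP (LK LD1_c19 LD2_c55 LD3_c29)) :=
  Lgr Lrot40 (Lpr_ff (f384988 IH) (Lpe (K30.f384992 IH) (Lpr_ff (K31.f385021 IH) (Lpn (LP (LK LD1_c19 LD2_c55 LD3_c29))))))
theorem f385053 : Led Lsl_gt (LP (LK LD1_c11 LD2_c5 LD3_c38)) = (LP (LK LD1_c5 LD2_c36 LD3_c50)) :=
  Lgr Lrot82 (Lpe (f226499 IH) (Lpr_ct (f385025 IH) (Lpe (K31.f344691 IH) (Lpe (K31.f316775 IH) (Lpr_bt (K31.f324555 IH) (Lpe (K20.f189439 IH) (Lpe (K30.f178045 IH) (Lpr_ct (K30.f178046 IH) (Lpe (f226604 IH) (Lpe (f226606 IH) (Lpn (LP (LK LD1_c5 LD2_c36 LD3_c50)))))))))))))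
theorem f384973 : Led Lsl_af (LP (LK LD1_c11 LD2_c5 LD3_c39)) = (LP (LK LD1_c16 LD2_c50 LD3_c54)) :=
  Lgr Lrot0 (Lpr_at (K30.f384971 IH) (Lpn (LP (LK LD1_c16 LD2_c50 LD3_c54))))
theorem f385056 : Led Lsl_gf (LP (LK LD1_c11 LD2_c5 LD3_c39)) = (LP (LK LD1_c5 LD2_c36 LD3_c50)) :=
  Lgr Lrot76 (Lpr_af (f384973 IH) (Lpe (f384986 IH) (Lpr_gt (f385053 IH) (Lpn (LP (LK LD1_c5 LD2_c36 LD3_c50))))))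
theorem f399806 : Led Lsl_df (LP (LK LD1_c19 LD2_c47 LD3_c36)) = (LP (LK LD1_c11 LD2_c5 LD3_c39)) :=
  Lgr Lrot153 (Lpr_gt (f380796 IH) (Lpr_dt (f380795 IH) (Lpe (K27.f218151 IH) (Lpe (K31.f218152 IH) (Lpr_gf (K31.f399804 IH) (Lpr_df (K30.f226584 IH) (Lpe (f226604 IH) (Lpe (f226606 IH) (Lpe (f385056 IH) (Lpn (LP (LK LD1_c11 LD2_c5 LD3_c39))))))))))))
theorem f380824 : Led Lsl_ct (LP (LK LD1_c10 LD2_c57 LD3_c38)) = (LP (LK LD1_c19 LD2_c47 LD3_c37)) :=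
  Lre_c IH (LK LD1_c10 LD2_c57 LD3_c38) (LK LD1_c19 LD2_c47 LD3_c37) Lrfl Lrfl
theorem f313041 : Led Lsl_dt (LP (LK LD1_c16 LD2_c50 LD3_c35)) = (LP (LK LD1_c9 LD2_c0 LD3_c49)) :=
  Lre_d IH (LK LD1_c16 LD2_c50 LD3_c35) (LK LD1_c9 LD2_c0 LD3_c49) Lrfl Lrfl
theorem f205151 : Led Lsl_et (LP (LK LD1_c2 LD2_c13 LD3_c4)) = (LP (LK LD1_c4 LD2_c32 LD3_c5)) :=
  Lre_e IH (LK LD1_c2 LD2_c13 LD3_c4) (LK LD1_c4 LD2_c32 LD3_c5) Lrfl Lrfl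
theorem f186065 : Led Lsl_et (LP (LK LD1_c2 LD2_c46 LD3_c38)) = (LP (LK LD1_c1 LD2_c19 LD3_c45)) :=
  Lre_e IH (LK LD1_c2 LD2_c46 LD3_c38) (LK LD1_c1 LD2_c19 LD3_c45) Lrfl Lrfl
theorem f379969 : Led Lsl_at (LP (LK LD1_c4 LD2_c32 LD3_c5)) = (LP (LK LD1_c2 LD2_c46 LD3_c38)) :=
  Lgr Lrot80 (Lpe (f205151 IH) (Lpr_af (K24.f379963 IH) (Lpe (f186065 IH) (Lpn (LP (LK LD1_c2 LD2_c46 LD3_c38))))))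
theorem f379977 : Led Lsl_ft (LP (LK LD1_c9 LD2_c1 LD3_c56)) = (LP (LK LD1_c4 LD2_c32 LD3_c5)) :=
  Lre_f IH (LK LD1_c9 LD2_c1 LD3_c56) (LK LD1_c4 LD2_c32 LD3_c5) Lrfl Lrfl
theorem f225799 : Led Lsl_ft (LP (LK LD1_c2 LD2_c46 LD3_c38)) = (LP (LK LD1_c5 LD2_c41 LD3_c14)) :=
  Lre_f IH (LK LD1_c2 LD2_c46 LD3_c38) (LK LD1_c5 LD2_c41 LD3_c14) Lrfl Lrfl
theorem f379978 : Led Lsl_af (LP (LK LD1_c9 LD2_c1 LD3_c56)) = (LP (LK LD1_c5 LD2_c41 LD3_c14)) :=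
  Lgr Lrot45 (Lpr_ft (f379977 IH) (Lpr_at (f379969 IH) (Lpr_ft (f225799 IH) (Lpn (LP (LK LD1_c5 LD2_c41 LD3_c14))))))
theorem f379982 : Led Lsl_dt (LP (LK LD1_c9 LD2_c1 LD3_c56)) = (LP (LK LD1_c4 LD2_c32 LD3_c6)) :=
  Lre_d IH (LK LD1_c9 LD2_c1 LD3_c56) (LK LD1_c4 LD2_c32 LD3_c6) Lrfl Lrfl
theorem f225774 : Led Lsl_dt (LP (LK LD1_c2 LD2_c46 LD3_c39)) = (LP (LK LD1_c5 LD2_c41 LD3_c14)) :=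
  Lre_d IH (LK LD1_c2 LD2_c46 LD3_c39) (LK LD1_c5 LD2_c41 LD3_c14) Lrfl Lrfl
theorem f379989 : Led Lsl_at (LP (LK LD1_c4 LD2_c32 LD3_c6)) = (LP (LK LD1_c2 LD2_c46 LD3_c39)) :=
  Lgr Lrot51 (Lpe (f379982 IH) (Lpr_af (f379978 IH) (Lpe (f225774 IH) (Lpn (LP (LK LD1_c2 LD2_c46 LD3_c39))))))
theorem f225430 : Led Lsl_et (LP (LK LD1_c1 LD2_c19 LD3_c43)) = (LP (LK LD1_c0 LD2_c36 LD3_c53)) :=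
  Lre_e IH (LK LD1_c1 LD2_c19 LD3_c43) (LK LD1_c0 LD2_c36 LD3_c53) Lrfl Lrfl
theorem f225725 : Led Lsl_ct (LP (LK LD1_c2 LD2_c42 LD3_c48)) = (LP (LK LD1_c1 LD2_c19 LD3_c43)) :=
  Lgr Lrot15 (Lpe (K20.f225724 IH) (Lpr_cf (K24.f225708 IH) (Lpe (f225430 IH) (Lpn (LP (LK LD1_c1 LD2_c19 LD3_c43))))))
theorem f225736 : Led Lsl_ft (LP (LK LD1_c5 LD2_c33 LD3_c20)) = (LP (LK LD1_c2 LD2_c42 LD3_c48)) :=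
  Lre_f IH (LK LD1_c5 LD2_c33 LD3_c20) (LK LD1_c2 LD2_c42 LD3_c48) Lrfl Lrfl
theorem f225738 : Led Lsl_cf (LP (LK LD1_c5 LD2_c33 LD3_c20)) = (LP (LK LD1_c2 LD2_c46 LD3_c39)) :=
  Lgr Lrot108 (Lpr_ft (f225736 IH) (Lpr_ct (f225725 IH) (Lpr_ft (K24.f225737 IH) (Lpn (LP (LK LD1_c2 LD2_c46 LD3_c39))))))
theorem f319855 : Led Lsl_ft (LP (LK LD1_c4 LD2_c30 LD3_c9)) = (LP (LK LD1_c8 LD2_c58 LD3_c30)) :=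
  Lre_f IH (LK LD1_c4 LD2_c30 LD3_c9) (LK LD1_c8 LD2_c58 LD3_c30) Lrfl Lrfl
theorem f319876 : Led Lsl_at (LP (LK LD1_c8 LD2_c58 LD3_c30)) = (LP (LK LD1_c5 LD2_c33 LD3_c20)) :=
  Lgr Lrot66 (Lpe (f319855 IH) (Lpr_af (K20.f319867 IH) (Lpe (f225736 IH) (Lpn (LP (LK LD1_c5 LD2_c33 LD3_c20))))))
theorem f319883 : Led Lsl_af (LP (LK LD1_c8 LD2_c58 LD3_c30)) = (LP (LK LD1_c5 LD2_c33 LD3_c20)) :=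
  Lgr Lrot0 (Lpr_at (f319876 IH) (Lpn (LP (LK LD1_c5 LD2_c33 LD3_c20))))
theorem f380000 : Led Lsl_cf (LP (LK LD1_c4 LD2_c32 LD3_c6)) = (LP (LK LD1_c8 LD2_c58 LD3_c30)) :=
  Lgr Lrot1 (Lpr_at (f379989 IH) (Lpe (f225738 IH) (Lpe (f319883 IH) (Lpn (LP (LK LD1_c8 LD2_c58 LD3_c30))))))
theorem f380011 : Led Lsl_ft (LP (LK LD1_c4 LD2_c32 LD3_c6)) = (LP (LK LD1_c2 LD2_c13 LD3_c3)) :=
  Lre_f IH (LK LD1_c4 LD2_c32 LD3_c6) (LK LD1_c2 LD2_c13 LD3_c3) Lrfl Lrfl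
theorem f380012 : Led Lsl_ct (LP (LK LD1_c2 LD2_c13 LD3_c3)) = (LP (LK LD1_c4 LD2_c30 LD3_c9)) :=
  Lgr Lrot40 (Lpe (f380011 IH) (Lpr_cf (f380000 IH) (Lpe (f319855 IH) (Lpn (LP (LK LD1_c4 LD2_c30 LD3_c9))))))
theorem f380020 : Led Lsl_cf (LP (LK LD1_c2 LD2_c13 LD3_c3)) = (LP (LK LD1_c4 LD2_c30 LD3_c9)) :=
  Lgr Lrot11 (Lpr_ct (f380012 IH) (Lpn (LP (LK LD1_c4 LD2_c30 LD3_c9))))
theorem f380024 : Led Lsl_bt (LP (LK LD1_c2 LD2_c13 LD3_c3)) = (LP (LK LD1_c4 LD2_c32 LD3_c0)) :=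
  Lre_b IH (LK LD1_c2 LD2_c13 LD3_c3) (LK LD1_c4 LD2_c32 LD3_c0) Lrfl Lrfl
theorem f380032 : Led Lsl_ct (LP (LK LD1_c4 LD2_c32 LD3_c0)) = (LP (LK LD1_c9 LD2_c1 LD3_c46)) :=
  Lre_c IH (LK LD1_c4 LD2_c32 LD3_c0) (LK LD1_c9 LD2_c1 LD3_c46) Lrfl Lrfl
theorem f319902 : Led Lsl_bt (LP (LK LD1_c8 LD2_c58 LD3_c24)) = (LP (LK LD1_c4 LD2_c30 LD3_c9)) :=
  Lre_b IH (LK LD1_c8 LD2_c58 LD3_c24) (LK LD1_c4 LD2_c30 LD3_c9) Lrfl Lrfl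
theorem f380033 : Led Lsl_ct (LP (LK LD1_c16 LD2_c47 LD3_c25)) = (LP (LK LD1_c8 LD2_c58 LD3_c24)) :=
  Lre_c IH (LK LD1_c16 LD2_c47 LD3_c25) (LK LD1_c8 LD2_c58 LD3_c24) Lrfl Lrfl
theorem f380034 : Led Lsl_bt (LP (LK LD1_c9 LD2_c1 LD3_c46)) = (LP (LK LD1_c16 LD2_c47 LD3_c25)) :=
  Lgr Lrot128 (Lpe (f380032 IH) (Lpe (f380024 IH) (Lpr_cf (f380020 IH) (Lpe (f319902 IH) (Lpe (f380033 IH) (Lpn (LP (LK LD1_c16 LD2_c47 LD3_c25))))))))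
theorem f380039 : Led Lsl_et (LP (LK LD1_c4 LD2_c31 LD3_c61)) = (LP (LK LD1_c9 LD2_c1 LD3_c46)) :=
  Lre_e IH (LK LD1_c4 LD2_c31 LD3_c61) (LK LD1_c9 LD2_c1 LD3_c46) Lrfl Lrfl
theorem f380040 : Led Lsl_et (LP (LK LD1_c16 LD2_c47 LD3_c25)) = (LP (LK LD1_c8 LD2_c58 LD3_c23)) :=
  Lre_e IH (LK LD1_c16 LD2_c47 LD3_c25) (LK LD1_c8 LD2_c58 LD3_c23) Lrfl Lrfl
theorem f380041 : Led Lsl_bf (LP (LK LD1_c4 LD2_c31 LD3_c61)) = (LP (LK LD1_c8 LD2_c58 LD3_c23)) :=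
  Lgr Lrot96 (Lpr_et (f380039 IH) (Lpr_bt (f380034 IH) (Lpr_et (f380040 IH) (Lpn (LP (LK LD1_c8 LD2_c58 LD3_c23))))))
theorem f380050 : Led Lsl_bt (LP (LK LD1_c4 LD2_c31 LD3_c61)) = (LP (LK LD1_c8 LD2_c58 LD3_c23)) :=
  Lgr Lrot127 (Lpr_bf (f380041 IH) (Lpn (LP (LK LD1_c8 LD2_c58 LD3_c23))))
theorem f319779 : Led Lsl_ft (LP (LK LD1_c8 LD2_c58 LD3_c23)) = (LP (LK LD1_c5 LD2_c33 LD3_c40)) :=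
  Lgr Lrot4 (Lpe (K31.f180406 IH) (Lpr_ff (K20.f319763 IH) (Lpe (K22.f225358 IH) (Lpn (LP (LK LD1_c5 LD2_c33 LD3_c40))))))
theorem f380191 : Led Lsl_bf (LP (LK LD1_c2 LD2_c46 LD3_c12)) = (LP (LK LD1_c5 LD2_c33 LD3_c40)) :=
  Lgr Lrot61 (Lpr_ft (K30.f380184 IH) (Lpr_bt (f380050 IH) (Lpr_ft (f319779 IH) (Lpn (LP (LK LD1_c5 LD2_c33 LD3_c40))))))
theorem f225359 : Led Lsl_dt (LP (LK LD1_c10 LD2_c59 LD3_c20)) = (LP (LK LD1_c5 LD2_c33 LD3_c40)) :=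
  Lre_d IH (LK LD1_c10 LD2_c59 LD3_c20) (LK LD1_c5 LD2_c33 LD3_c40) Lrfl Lrfl
theorem f380475 : Led Lsl_bt (LP (LK LD1_c5 LD2_c40 LD3_c31)) = (LP (LK LD1_c10 LD2_c59 LD3_c20)) :=
  Lgr Lrot95 (Lpe (K30.f380168 IH) (Lpr_bf (f380191 IH) (Lpe (f225359 IH) (Lpn (LP (LK LD1_c10 LD2_c59 LD3_c20))))))
theorem f380529 : Led Lsl_bf (LP (LK LD1_c5 LD2_c40 LD3_c31)) = (LP (LK LD1_c10 LD2_c59 LD3_c20)) :=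
  Lgr Lrot24 (Lpr_bt (f380475 IH) (Lpn (LP (LK LD1_c10 LD2_c59 LD3_c20))))
theorem f380537 : Led Lsl_at (LP (LK LD1_c19 LD2_c49 LD3_c38)) = (LP (LK LD1_c10 LD2_c59 LD3_c20)) :=
  Lre_a IH (LK LD1_c19 LD2_c49 LD3_c38) (LK LD1_c10 LD2_c59 LD3_c20) Lrfl Lrfl
theorem f199370 : Led Lsl_bt (LP (LK LD1_c11 LD2_c3 LD3_c57)) = (LP (LK LD1_c5 LD2_c35 LD3_c51)) :=
  Lre_b IH (LK LD1_c11 LD2_c3 LD3_c57) (LK LD1_c5 LD2_c35 LD3_c51) Lrfl Lrfl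
theorem f199366 : Led Lsl_bt (LP (LK LD1_c2 LD2_c43 LD3_c48)) = (LP (LK LD1_c5 LD2_c35 LD3_c47)) :=
  Lre_b IH (LK LD1_c2 LD2_c43 LD3_c48) (LK LD1_c5 LD2_c35 LD3_c47) Lrfl Lrfl
theorem f226670 : Led Lsl_ct (LP (LK LD1_c5 LD2_c35 LD3_c47)) = (LP (LK LD1_c11 LD2_c3 LD3_c48)) :=
  Lre_c IH (LK LD1_c5 LD2_c35 LD3_c47) (LK LD1_c11 LD2_c3 LD3_c48) Lrfl Lrfl
theorem f332695 : Led Lsl_bf (LP (LK LD1_c19 LD2_c49 LD3_c38)) = (LP (LK LD1_c11 LD2_c3 LD3_c48)) :=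
  Lgr Lrot90 (Lpr_ct (K22.f332687 IH) (Lpr_bt (f199370 IH) (Lpr_ct (K12.f199347 IH) (Lpr_bt (f199366 IH) (Lpr_ct (f226670 IH) (Lpn (LP (LK LD1_c11 LD2_c3 LD3_c48))))))))
theorem f313053 : Led Lsl_at (LP (LK LD1_c19 LD2_c56 LD3_c14)) = (LP (LK LD1_c11 LD2_c3 LD3_c48)) :=
  Lre_a IH (LK LD1_c19 LD2_c56 LD3_c14) (LK LD1_c11 LD2_c3 LD3_c48) Lrfl Lrfl
theorem f380538 : Led Lsl_bt (LP (LK LD1_c11 LD2_c11 LD3_c21)) = (LP (LK LD1_c19 LD2_c56 LD3_c14)) :=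
  Lgr Lrot62 (Lpe (K30.f380206 IH) (Lpr_bf (f380529 IH) (Lpe (f380537 IH) (Lpr_bf (f332695 IH) (Lpe (f313053 IH) (Lpn (LP (LK LD1_c19 LD2_c56 LD3_c14))))))))
theorem f380174 : Led Lsl_bt (LP (LK LD1_c20 LD2_c6 LD3_c30)) = (LP (LK LD1_c11 LD2_c11 LD3_c46)) :=
  Lre_b IH (LK LD1_c20 LD2_c6 LD3_c30) (LK LD1_c11 LD2_c11 LD3_c46) Lrfl Lrfl
theorem f380544 : Led Lsl_ff (LP (LK LD1_c20 LD2_c6 LD3_c30)) = (LP (LK LD1_c19 LD2_c56 LD3_c14)) :=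
  Lgr Lrot25 (Lpr_bt (f380174 IH) (Lpr_ft (K30.f380182 IH) (Lpr_bt (f380538 IH) (Lpn (LP (LK LD1_c19 LD2_c56 LD3_c14))))))
theorem f380548 : Led Lsl_ft (LP (LK LD1_c20 LD2_c6 LD3_c30)) = (LP (LK LD1_c19 LD2_c56 LD3_c14)) :=
  Lgr Lrot48 (Lpr_ff (f380544 IH) (Lpn (LP (LK LD1_c19 LD2_c56 LD3_c14))))
theorem f226623 : Led Lsl_ct (LP (LK LD1_c19 LD2_c56 LD3_c14)) = (LP (LK LD1_c11 LD2_c3 LD3_c47)) :=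
  Lre_c IH (LK LD1_c19 LD2_c56 LD3_c14) (LK LD1_c11 LD2_c3 LD3_c47) Lrfl Lrfl
theorem f313042 : Led Lsl_at (LP (LK LD1_c5 LD2_c35 LD3_c47)) = (LP (LK LD1_c11 LD2_c3 LD3_c47)) :=
  Lre_a IH (LK LD1_c5 LD2_c35 LD3_c47) (LK LD1_c11 LD2_c3 LD3_c47) Lrfl Lrfl
theorem f313043 : Led Lsl_at (LP (LK LD1_c16 LD2_c50 LD3_c35)) = (LP (LK LD1_c9 LD2_c0 LD3_c50)) :=
  Lre_a IH (LK LD1_c16 LD2_c50 LD3_c35) (LK LD1_c9 LD2_c0 LD3_c50) Lrfl Lrfl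
theorem f313044 : Led Lsl_ft (LP (LK LD1_c11 LD2_c3 LD3_c47)) = (LP (LK LD1_c16 LD2_c50 LD3_c35)) :=
  Lgr Lrot101 (Lpe (f313042 IH) (Lpr_ff (K19.f313028 IH) (Lpe (f313043 IH) (Lpn (LP (LK LD1_c16 LD2_c50 LD3_c35))))))
theorem f380552 : Led Lsl_cf (LP (LK LD1_c20 LD2_c6 LD3_c30)) = (LP (LK LD1_c16 LD2_c50 LD3_c35)) :=
  Lgr Lrot108 (Lpr_ft (f380548 IH) (Lpr_ct (f226623 IH) (Lpr_ft (f313044 IH) (Lpn (LP (LK LD1_c16 LD2_c50 LD3_c35))))))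
theorem f380555 : Led Lsl_ct (LP (LK LD1_c20 LD2_c6 LD3_c30)) = (LP (LK LD1_c16 LD2_c50 LD3_c35)) :=
  Lgr Lrot59 (Lpr_cf (f380552 IH) (Lpn (LP (LK LD1_c16 LD2_c50 LD3_c35))))
theorem f399813 : Led Lsl_gt (LP (LK LD1_c19 LD2_c47 LD3_c37)) = (LP (LK LD1_c20 LD2_c6 LD3_c30)) :=
  Lgr Lrot150 (Lpe (f380824 IH) (Lpe (f380796 IH) (Lpr_df (f399806 IH) (Lpr_gt (K30.f226500 IH) (Lpr_ct (K30.f178048 IH) (Lpr_gt (K30.f385077 IH) (Lpr_ct (K30.f313034 IH) (Lpe (f313041 IH) (Lpe (f380555 IH) (Lpn (LP (LK LD1_c20 LD2_c6 LD3_c30))))))))))))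
theorem f235940 : Led Lsl_ct (LP (LK LD1_c16 LD2_c50 LD3_c36)) = (LP (LK LD1_c9 LD2_c0 LD3_c50)) :=
  Lre_c IH (LK LD1_c16 LD2_c50 LD3_c36) (LK LD1_c9 LD2_c0 LD3_c50) Lrfl Lrfl
theorem f313049 : Led Lsl_ft (LP (LK LD1_c11 LD2_c3 LD3_c48)) = (LP (LK LD1_c16 LD2_c50 LD3_c36)) :=
  Lgr Lrot4 (Lpe (f226670 IH) (Lpr_ff (K19.f313028 IH) (Lpe (f235940 IH) (Lpn (LP (LK LD1_c16 LD2_c50 LD3_c36))))))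
theorem f380550 : Led Lsl_af (LP (LK LD1_c20 LD2_c6 LD3_c30)) = (LP (LK LD1_c16 LD2_c50 LD3_c36)) :=
  Lgr Lrot45 (Lpr_ft (f380548 IH) (Lpr_at (f313053 IH) (Lpr_ft (f313049 IH) (Lpn (LP (LK LD1_c16 LD2_c50 LD3_c36))))))
theorem f399827 : Led Lsl_gf (LP (LK LD1_c19 LD2_c47 LD3_c37)) = (LP (LK LD1_c11 LD2_c3 LD3_c48)) :=
  Lgr Lrot47 (Lpr_gt (f399813 IH) (Lpr_af (f380550 IH) (Lpe (f313049 IH) (Lpn (LP (LK LD1_c11 LD2_c3 LD3_c48))))))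
theorem f399829 : Led Lsl_ct (LP (LK LD1_c19 LD2_c47 LD3_c37)) = (LP (LK LD1_c10 LD2_c57 LD3_c38)) :=
  Lre_c IH (LK LD1_c19 LD2_c47 LD3_c37) (LK LD1_c10 LD2_c57 LD3_c38) Lrfl Lrfl
theorem f379847 : Led Lsl_dt (LP (LK LD1_c5 LD2_c33 LD3_c3)) = (LP (LK LD1_c10 LD2_c57 LD3_c60)) :=
  Lre_d IH (LK LD1_c5 LD2_c33 LD3_c3) (LK LD1_c10 LD2_c57 LD3_c60) Lrfl Lrfl
theorem f399832 : Led Lsl_gt (LP (LK LD1_c10 LD2_c57 LD3_c60)) = (LP (LK LD1_c5 LD2_c35 LD3_c47)) :=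
  Lgr Lrot9 (Lpe (f379847 IH) (Lpr_gt (K24.f174184 IH) (Lpr_ct (K31.f174183 IH) (Lpr_gt (K24.f213564 IH) (Lpr_ct (K27.f218151 IH) (Lpe (f380795 IH) (Lpe (f399829 IH) (Lpr_gf (f399827 IH) (Lpe (f226670 IH) (Lpn (LP (LK LD1_c5 LD2_c35 LD3_c47))))))))))))
theorem f380574 : Led Lsl_at (LP (LK LD1_c11 LD2_c3 LD3_c47)) = (LP (LK LD1_c5 LD2_c35 LD3_c47)) :=
  Lre_a IH (LK LD1_c11 LD2_c3 LD3_c47) (LK LD1_c5 LD2_c35 LD3_c47) Lrfl Lrfl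
theorem f226614 : Led Lsl_ct (LP (LK LD1_c11 LD2_c3 LD3_c47)) = (LP (LK LD1_c19 LD2_c56 LD3_c14)) :=
  Lre_c IH (LK LD1_c11 LD2_c3 LD3_c47) (LK LD1_c19 LD2_c56 LD3_c14) Lrfl Lrfl
theorem f380557 : Led Lsl_ff (LP (LK LD1_c11 LD2_c3 LD3_c47)) = (LP (LK LD1_c16 LD2_c50 LD3_c35)) :=
  Lgr Lrot23 (Lpr_ct (f226614 IH) (Lpe (f380544 IH) (Lpr_ct (f380555 IH) (Lpn (LP (LK LD1_c16 LD2_c50 LD3_c35))))))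
theorem f399834 : Led Lsl_gf (LP (LK LD1_c10 LD2_c57 LD3_c60)) = (LP (LK LD1_c16 LD2_c50 LD3_c35)) :=
  Lgr Lrot47 (Lpr_gt (f399832 IH) (Lpe (f380574 IH) (Lpr_ff (f380557 IH) (Lpn (LP (LK LD1_c16 LD2_c50 LD3_c35))))))
theorem f281530 : Led Lsl_dt (LP (LK LD1_c10 LD2_c57 LD3_c60)) = (LP (LK LD1_c5 LD2_c33 LD3_c3)) :=
  Lre_d IH (LK LD1_c10 LD2_c57 LD3_c60) (LK LD1_c5 LD2_c33 LD3_c3) Lrfl Lrfl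
theorem f281529 : Led Lsl_ct (LP (LK LD1_c5 LD2_c33 LD3_c3)) = (LP (LK LD1_c5 LD2_c32 LD3_c34)) :=
  Lre_c IH (LK LD1_c5 LD2_c33 LD3_c3) (LK LD1_c5 LD2_c32 LD3_c34) Lrfl Lrfl
theorem f313036 : Led Lsl_dt (LP (LK LD1_c9 LD2_c0 LD3_c49)) = (LP (LK LD1_c16 LD2_c50 LD3_c35)) :=
  Lre_d IH (LK LD1_c9 LD2_c0 LD3_c49) (LK LD1_c16 LD2_c50 LD3_c35) Lrfl Lrfl
theorem f399841 : Led Lsl_df (LP (LK LD1_c5 LD2_c32 LD3_c34)) = (LP (LK LD1_c10 LD2_c52 LD3_c37)) :=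
  Lgr Lrot84 (Lpe (f281529 IH) (Lpe (f281530 IH) (Lpr_gf (f399834 IH) (Lpe (f313036 IH) (Lpe (K22.f313032 IH) (Lpe (K30.f277120 IH) (Lpr_gt (K30.f384744 IH) (Lpr_dt (K30.f226581 IH) (Lpe (K30.f226582 IH) (Lpn (LP (LK LD1_c10 LD2_c52 LD3_c37))))))))))))
theorem f399847 : Led Lsl_dt (LP (LK LD1_c5 LD2_c32 LD3_c34)) = (LP (LK LD1_c10 LD2_c52 LD3_c37)) :=
  Lgr Lrot42 (Lpr_df (f399841 IH) (Lpn (LP (LK LD1_c10 LD2_c52 LD3_c37))))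
theorem f387537 : Led Lsl_at (LP (LK LD1_c10 LD2_c56 LD3_c54)) = (LP (LK LD1_c5 LD2_c32 LD3_c34)) :=
  Lre_a IH (LK LD1_c10 LD2_c56 LD3_c54) (LK LD1_c5 LD2_c32 LD3_c34) Lrfl Lrfl
theorem f175149 : Led Lsl_at (LP (LK LD1_c10 LD2_c52 LD3_c37)) = (LP (LK LD1_c19 LD2_c39 LD3_c54)) :=
  Lre_a IH (LK LD1_c10 LD2_c52 LD3_c37) (LK LD1_c19 LD2_c39 LD3_c54) Lrfl Lrfl
theorem f399852 : Led Lsl_df (LP (LK LD1_c10 LD2_c56 LD3_c54)) = (LP (LK LD1_c19 LD2_c39 LD3_c54)) :=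
  Lgr Lrot18 (Lpr_at (f387537 IH) (Lpr_dt (f399847 IH) (Lpr_at (f175149 IH) (Lpn (LP (LK LD1_c19 LD2_c39 LD3_c54))))))
theorem f387538 : Led Lsl_ft (LP (LK LD1_c10 LD2_c57 LD3_c56)) = (LP (LK LD1_c10 LD2_c56 LD3_c54)) :=
  Lgr Lrot2 (Lpr_gt (K30.f387522 IH) (Lpr_gt (K30.f174186 IH) (Lpe (f387537 IH) (Lpn (LP (LK LD1_c10 LD2_c56 LD3_c54))))))
theorem f387543 : Led Lsl_ff (LP (LK LD1_c10 LD2_c57 LD3_c56)) = (LP (LK LD1_c10 LD2_c56 LD3_c54)) :=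
  Lgr Lrot3 (Lpr_ft (f387538 IH) (Lpn (LP (LK LD1_c10 LD2_c56 LD3_c54))))
theorem f384700 : Led Lsl_at (LP (LK LD1_c15 LD2_c3 LD3_c41)) = (LP (LK LD1_c19 LD2_c39 LD3_c0)) :=
  Lgr Lrot100 (Lpr_af (K30.f384698 IH) (Lpn (LP (LK LD1_c19 LD2_c39 LD3_c0))))
theorem f319133 : Led Lsl_gt (LP (LK LD1_c9 LD2_c46 LD3_c28)) = (LP (LK LD1_c17 LD2_c56 LD3_c28)) :=
  Lre_g IH (LK LD1_c9 LD2_c46 LD3_c28) (LK LD1_c17 LD2_c56 LD3_c28) Lrfl Lrfl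
theorem f384757 : Led Lsl_gt (LP (LK LD1_c17 LD2_c56 LD3_c28)) = (LP (LK LD1_c19 LD2_c39 LD3_c0)) :=
  Lgr Lrot46 (Lpe (f319133 IH) (Lpe (K30.f384687 IH) (Lpr_at (f384700 IH) (Lpn (LP (LK LD1_c19 LD2_c39 LD3_c0))))))
theorem f175129 : Led Lsl_at (LP (LK LD1_c19 LD2_c39 LD3_c54)) = (LP (LK LD1_c10 LD2_c52 LD3_c37)) :=
  Lre_a IH (LK LD1_c19 LD2_c39 LD3_c54) (LK LD1_c10 LD2_c52 LD3_c37) Lrfl Lrfl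
theorem f384759 : Led Lsl_ft (LP (LK LD1_c17 LD2_c56 LD3_c28)) = (LP (LK LD1_c19 LD2_c39 LD3_c54)) :=
  Lgr Lrot2 (Lpr_gt (f384757 IH) (Lpe (K30.f226582 IH) (Lpe (f175129 IH) (Lpn (LP (LK LD1_c19 LD2_c39 LD3_c54))))))
theorem f399871 : Led Lsl_dt (LP (LK LD1_c10 LD2_c57 LD3_c56)) = (LP (LK LD1_c17 LD2_c56 LD3_c28)) :=
  Lgr Lrot60 (Lpr_ff (f387543 IH) (Lpr_df (f399852 IH) (Lpe (f384759 IH) (Lpn (LP (LK LD1_c17 LD2_c56 LD3_c28))))))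
theorem f399873 : Led Lsl_df (LP (LK LD1_c10 LD2_c57 LD3_c56)) = (LP (LK LD1_c17 LD2_c56 LD3_c28)) :=
  Lgr Lrot38 (Lpr_dt (f399871 IH) (Lpn (LP (LK LD1_c17 LD2_c56 LD3_c28))))
theorem f218375 : Led Lsl_ct (LP (LK LD1_c10 LD2_c57 LD3_c56)) = (LP (LK LD1_c5 LD2_c33 LD3_c2)) :=
  Lre_c IH (LK LD1_c10 LD2_c57 LD3_c56) (LK LD1_c5 LD2_c33 LD3_c2) Lrfl Lrfl
theorem f387547 : Led Lsl_dt (LP (LK LD1_c10 LD2_c57 LD3_c57)) = (LP (LK LD1_c5 LD2_c33 LD3_c2)) :=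
  Lre_d IH (LK LD1_c10 LD2_c57 LD3_c57) (LK LD1_c5 LD2_c33 LD3_c2) Lrfl Lrfl
theorem f226577 : Led Lsl_dt (LP (LK LD1_c2 LD2_c43 LD3_c47)) = (LP (LK LD1_c5 LD2_c35 LD3_c47)) :=
  Lre_d IH (LK LD1_c2 LD2_c43 LD3_c47) (LK LD1_c5 LD2_c35 LD3_c47) Lrfl Lrfl
theorem f399893 : Led Lsl_gf (LP (LK LD1_c10 LD2_c57 LD3_c57)) = (LP (LK LD1_c5 LD2_c35 LD3_c47)) :=
  Lgr Lrot143 (Lpr_dt (f387547 IH) (Lpe (f218375 IH) (Lpr_df (f399873 IH) (Lpe (f319133 IH) (Lpe (K30.f384232 IH) (Lpe (K30.f384731 IH) (Lpe (K30.f226569 IH) (Lpr_gt (K30.f178067 IH) (Lpr_dt (f226577 IH) (Lpn (LP (LK LD1_c5 LD2_c35 LD3_c47))))))))))))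
theorem f276224 : Led Lsl_dt (LP (LK LD1_c9 LD2_c0 LD3_c50)) = (LP (LK LD1_c4 LD2_c31 LD3_c25)) :=
  Lre_d IH (LK LD1_c9 LD2_c0 LD3_c50) (LK LD1_c4 LD2_c31 LD3_c25) Lrfl Lrfl
theorem f313013 : Led Lsl_ft (LP (LK LD1_c5 LD2_c35 LD3_c47)) = (LP (LK LD1_c9 LD2_c0 LD3_c50)) :=
  Lgr Lrot54 (Lpe (f226577 IH) (Lpr_ff (K19.f313002 IH) (Lpe (f276224 IH) (Lpn (LP (LK LD1_c9 LD2_c0 LD3_c50))))))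
theorem f380554 : Led Lsl_at (LP (LK LD1_c9 LD2_c0 LD3_c50)) = (LP (LK LD1_c16 LD2_c50 LD3_c35)) :=
  Lre_a IH (LK LD1_c9 LD2_c0 LD3_c50) (LK LD1_c16 LD2_c50 LD3_c35) Lrfl Lrfl
theorem f399895 : Led Lsl_gt (LP (LK LD1_c10 LD2_c57 LD3_c57)) = (LP (LK LD1_c16 LD2_c50 LD3_c35)) :=
  Lgr Lrot46 (Lpr_gf (f399893 IH) (Lpr_ft (f313013 IH) (Lpr_at (f380554 IH) (Lpn (LP (LK LD1_c16 LD2_c50 LD3_c35))))))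
theorem f561420 : Led Lsl_gf (LP (LK LD1_c11 LD2_c7 LD3_c47)) = (LP (LK LD1_c11 LD2_c11 LD3_c46)) :=
  Lgr Lrot181 (Lpr_ct (K31.f423225 IH) (Lpe (K31.f423176 IH) (Lpe (f561388 IH) (Lpr_bt (f561396 IH) (Lpr_gt (f561418 IH) (Lpe (f213556 IH) (Lpr_ct (f382384 IH) (Lpr_gt (f399895 IH) (Lpe (f380555 IH) (Lpr_bt (f380174 IH) (Lpn (LP (LK LD1_c11 LD2_c11 LD3_c46)))))))))))))
theorem f380196 : Led Lsl_gt (LP (LK LD1_c2 LD2_c46 LD3_c12)) = (LP (LK LD1_c5 LD2_c40 LD3_c29)) :=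
  Lre_g IH (LK LD1_c2 LD2_c46 LD3_c12) (LK LD1_c5 LD2_c40 LD3_c29) Lrfl Lrfl
theorem f380197 : Led Lsl_gt (LP (LK LD1_c5 LD2_c40 LD3_c29)) = (LP (LK LD1_c9 LD2_c1 LD3_c41)) :=
  Lgr Lrot46 (Lpe (f380196 IH) (Lpr_ft (K30.f380184 IH) (Lpr_at (K30.f181703 IH) (Lpn (LP (LK LD1_c9 LD2_c1 LD3_c41))))))
theorem f132992 : Led Lsl_bt (LP (LK LD1_c6 LD2_c15 LD3_c37)) = (LP (LK LD1_c3 LD2_c5 LD3_c0)) :=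
  Lre_b IH (LK LD1_c6 LD2_c15 LD3_c37) (LK LD1_c3 LD2_c5 LD3_c0) Lrfl Lrfl
theorem f226757 : Led Lsl_bt (LP (LK LD1_c1 LD2_c19 LD3_c28)) = (LP (LK LD1_c0 LD2_c36 LD3_c42)) :=
  Lre_b IH (LK LD1_c1 LD2_c19 LD3_c28) (LK LD1_c0 LD2_c36 LD3_c42) Lrfl Lrfl
theorem f557190 : Led Lsl_ct (LP (LK LD1_c6 LD2_c15 LD3_c37)) = (LP (LK LD1_c5 LD2_c40 LD3_c29)) :=
  Lgr Lrot10 (Lpr_bt (f132992 IH) (Lpr_gt (K39.f503110 IH) (Lpr_ct (K39.f557176 IH) (Lpr_gt (K39.f225664 IH) (Lpe (K39.f225428 IH) (Lpr_bt (K12.f174942 IH) (Lpr_gt (K12.f174941 IH) (Lpe (f226757 IH) (Lpr_ct (K30.f226758 IH) (Lpr_gt (f380196 IH) (Lpn (LP (LK LD1_c5 LD2_c40 LD3_c29)))))))))))))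
theorem f561424 : Led Lsl_gf (LP (LK LD1_c5 LD2_c43 LD3_c39)) = (LP (LK LD1_c6 LD2_c15 LD3_c37)) :=
  Lgr Lrot144 (Lpr_dt (f381818 IH) (Lpr_gt (K31.f381957 IH) (Lpr_dt (K31.f181292 IH) (Lpe (K31.f411842 IH) (Lpe (K31.f411849 IH) (Lpr_gf (f561420 IH) (Lpr_df (K30.f380178 IH) (Lpe (f380197 IH) (Lpe (f557190 IH) (Lpn (LP (LK LD1_c6 LD2_c15 LD3_c37))))))))))))
theorem f381828 : Led Lsl_et (LP (LK LD1_c2 LD2_c47 LD3_c51)) = (LP (LK LD1_c5 LD2_c43 LD3_c40)) :=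
  Lre_e IH (LK LD1_c2 LD2_c47 LD3_c51) (LK LD1_c5 LD2_c43 LD3_c40) Lrfl Lrfl
theorem f160999 : Led Lsl_dt (LP (LK LD1_c3 LD2_c4 LD3_c53)) = (LP (LK LD1_c6 LD2_c15 LD3_c37)) :=
  Lre_d IH (LK LD1_c3 LD2_c4 LD3_c53) (LK LD1_c6 LD2_c15 LD3_c37) Lrfl Lrfl
theorem f117888 : Led Lsl_et (LP (LK LD1_c3 LD2_c4 LD3_c53)) = (LP (LK LD1_c1 LD2_c28 LD3_c31)) :=
  Lre_e IH (LK LD1_c3 LD2_c4 LD3_c53) (LK LD1_c1 LD2_c28 LD3_c31) Lrfl Lrfl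
theorem f561435 : Led Lsl_gt (LP (LK LD1_c5 LD2_c43 LD3_c40)) = (LP (LK LD1_c5 LD2_c7 LD3_c38)) :=
  Lgr Lrot137 (Lpe (f381828 IH) (Lpr_dt (K36.f381814 IH) (Lpr_gf (f561424 IH) (Lpe (f160999 IH) (Lpr_et (f117888 IH) (Lpe (f425868 IH) (Lpr_ef (f557432 IH) (Lpr_dt (f557413 IH) (Lpr_gf (f558739 IH) (Lpr_df (f558868 IH) (Lpn (LP (LK LD1_c5 LD2_c7 LD3_c38)))))))))))))
theorem f381821 : Led Lsl_et (LP (LK LD1_c5 LD2_c43 LD3_c40)) = (LP (LK LD1_c2 LD2_c47 LD3_c51)) :=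
  Lre_e IH (LK LD1_c5 LD2_c43 LD3_c40) (LK LD1_c2 LD2_c47 LD3_c51) Lrfl Lrfl
theorem f542618 : Led Lsl_bf (LP (LK LD1_c5 LD2_c43 LD3_c40)) = (LP (LK LD1_c2 LD2_c47 LD3_c60)) :=
  Lgr Lrot96 (Lpr_et (f381821 IH) (Lpr_bt (K30.f381703 IH) (Lpr_et (K36.f542616 IH) (Lpn (LP (LK LD1_c2 LD2_c47 LD3_c60))))))
theorem f495858 : Led Lsl_ft (LP (LK LD1_c1 LD2_c20 LD3_c15)) = (LP (LK LD1_c2 LD2_c47 LD3_c60)) :=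
  Lre_f IH (LK LD1_c1 LD2_c20 LD3_c15) (LK LD1_c2 LD2_c47 LD3_c60) Lrfl Lrfl
theorem f541762 : Led Lsl_cf (LP (LK LD1_c2 LD2_c47 LD3_c49)) = (LP (LK LD1_c2 LD2_c47 LD3_c60)) :=
  Lgr Lrot108 (Lpr_ft (K36.f541751 IH) (Lpr_ct (K36.f75564 IH) (Lpr_ft (f495858 IH) (Lpn (LP (LK LD1_c2 LD2_c47 LD3_c60))))))
theorem f561446 : Led Lsl_bt (LP (LK LD1_c4 LD2_c32 LD3_c39)) = (LP (LK LD1_c5 LD2_c7 LD3_c38)) :=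
  Lgr Lrot92 (Lpr_ct (K37.f175542 IH) (Lpe (K37.f546865 IH) (Lpe (K37.f546856 IH) (Lpr_bt (K37.f546858 IH) (Lpe (K35.f541669 IH) (Lpr_ct (K36.f242752 IH) (Lpr_gt (K36.f539662 IH) (Lpr_cf (f541762 IH) (Lpe (f542618 IH) (Lpr_gt (f561435 IH) (Lpn (LP (LK LD1_c5 LD2_c7 LD3_c38)))))))))))))
theorem f387116 : Led Lsl_ct (LP (LK LD1_c5 LD2_c7 LD3_c32)) = (LP (LK LD1_c2 LD2_c31 LD3_c3)) :=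
  Lre_c IH (LK LD1_c5 LD2_c7 LD3_c32) (LK LD1_c2 LD2_c31 LD3_c3) Lrfl Lrfl
theorem f193924 : Led Lsl_ct (LP (LK LD1_c4 LD2_c7 LD3_c4)) = (LP (LK LD1_c8 LD2_c14 LD3_c45)) :=
  Lre_c IH (LK LD1_c4 LD2_c7 LD3_c4) (LK LD1_c8 LD2_c14 LD3_c45) Lrfl Lrfl
theorem f544470 : Led Lsl_bt (LP (LK LD1_c2 LD2_c31 LD3_c4)) = (LP (LK LD1_c4 LD2_c7 LD3_c4)) :=
  Lgr Lrot128 (Lpe (K27.f3284 IH) (Lpe (K37.f387130 IH) (Lpe (f387116 IH) (Lpr_bf (K37.f544466 IH) (Lpe (f193924 IH) (Lpn (LP (LK LD1_c4 LD2_c7 LD3_c4))))))))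
theorem f561452 : Led Lsl_ef (LP (LK LD1_c4 LD2_c32 LD3_c39)) = (LP (LK LD1_c4 LD2_c7 LD3_c4)) :=
  Lgr Lrot29 (Lpr_bt (f561446 IH) (Lpr_et (f427500 IH) (Lpr_bt (f544470 IH) (Lpn (LP (LK LD1_c4 LD2_c7 LD3_c4))))))
theorem f496069 : Led Lsl_ct (LP (LK LD1_c6 LD2_c16 LD3_c20)) = (LP (LK LD1_c12 LD2_c9 LD3_c58)) :=
  Lre_c IH (LK LD1_c6 LD2_c16 LD3_c20) (LK LD1_c12 LD2_c9 LD3_c58) Lrfl Lrfl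
theorem f538158 : Led Lsl_gt (LP (LK LD1_c3 LD2_c5 LD3_c23)) = (LP (LK LD1_c6 LD2_c16 LD3_c20)) :=
  Lre_g IH (LK LD1_c3 LD2_c5 LD3_c23) (LK LD1_c6 LD2_c16 LD3_c20) Lrfl Lrfl
theorem f546871 : Led Lsl_df (LP (LK LD1_c3 LD2_c5 LD3_c23)) = (LP (LK LD1_c4 LD2_c32 LD3_c39)) :=
  Lgr Lrot43 (Lpr_ct (K38.f503158 IH) (Lpr_dt (f543874 IH) (Lpr_ct (K3.f88295 IH) (Lpr_dt (K34.f94483 IH) (Lpr_ct (K7.f92364 IH) (Lpr_dt (K3.f94546 IH) (Lpr_ct (K37.f542937 IH) (Lpe (K37.f543900 IH) (Lpr_ct (K37.f543905 IH) (Lpr_dt (f543906 IH) (Lpr_ct (K3.f78106 IH) (Lpr_dt (K3.f108996 IH) (Lpr_ct (K38.f109001 IH) (Lpr_dt (K37.f546867 IH) (Lpr_ct (K38.f181400 IH) (Lpn (LP (LK LD1_c4 LD2_c32 LD3_c39))))))))))))))))))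
theorem f557858 : Led Lsl_gf (LP (LK LD1_c7 LD2_c14 LD3_c8)) = (LP (LK LD1_c4 LD2_c32 LD3_c39)) :=
  Lgr Lrot147 (Lpr_ct (K37.f92529 IH) (Lpr_gt (K39.f542935 IH) (Lpr_ct (K39.f301894 IH) (Lpe (f302047 IH) (Lpr_cf (f557847 IH) (Lpe (K37.f543848 IH) (Lpe (f496069 IH) (Lpe (f538158 IH) (Lpr_df (f546871 IH) (Lpn (LP (LK LD1_c4 LD2_c32 LD3_c39))))))))))))
theorem f563675 : Led Lsl_gf (LP (LK LD1_c5 LD2_c41 LD3_c49)) = (LP (LK LD1_c6 LD2_c15 LD3_c52)) :=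
  Lgr Lrot145 (Lpe (K39.f552033 IH) (Lpe (K38.f132841 IH) (Lpr_gt (K38.f563665 IH) (Lpr_dt (K39.f182433 IH) (Lpr_gt (K39.f198557 IH) (Lpr_df (K39.f541363 IH) (Lpe (f561452 IH) (Lpe (f557858 IH) (Lpe (K39.f551616 IH) (Lpr_dt (K39.f551624 IH) (Lpn (LP (LK LD1_c6 LD2_c15 LD3_c52)))))))))))))
theorem f551608 : Led Lsl_gf (LP (LK LD1_c4 LD2_c32 LD3_c52)) = (LP (LK LD1_c2 LD2_c46 LD3_c59)) :=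
  Lgr Lrot76 (Lpr_af (K39.f551603 IH) (Lpe (K16.f269075 IH) (Lpr_gt (K39.f175482 IH) (Lpn (LP (LK LD1_c2 LD2_c46 LD3_c59))))))
theorem f182442 : Led Lsl_et (LP (LK LD1_c4 LD2_c5 LD3_c45)) = (LP (LK LD1_c2 LD2_c0 LD3_c10)) :=
  Lre_e IH (LK LD1_c4 LD2_c5 LD3_c45) (LK LD1_c2 LD2_c0 LD3_c10) Lrfl Lrfl
theorem f198524 : Led Lsl_et (LP (LK LD1_c2 LD2_c52 LD3_c57)) = (LP (LK LD1_c5 LD2_c53 LD3_c14)) :=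
  Lre_e IH (LK LD1_c2 LD2_c52 LD3_c57) (LK LD1_c5 LD2_c53 LD3_c14) Lrfl Lrfl
theorem f185069 : Led Lsl_et (LP (LK LD1_c0 LD2_c57 LD3_c4)) = (LP (LK LD1_c2 LD2_c0 LD3_c12)) :=
  Lre_e IH (LK LD1_c0 LD2_c57 LD3_c4) (LK LD1_c2 LD2_c0 LD3_c12) Lrfl Lrfl
theorem f185068 : Led Lsl_et (LP (LK LD1_c4 LD2_c5 LD3_c46)) = (LP (LK LD1_c2 LD2_c0 LD3_c11)) :=
  Lre_e IH (LK LD1_c4 LD2_c5 LD3_c46) (LK LD1_c2 LD2_c0 LD3_c11) Lrfl Lrfl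
theorem f198525 : Led Lsl_dt (LP (LK LD1_c5 LD2_c53 LD3_c14)) = (LP (LK LD1_c4 LD2_c5 LD3_c46)) :=
  Lgr Lrot77 (Lpe (f198524 IH) (Lpr_df (K16.f198511 IH) (Lpe (f185069 IH) (Lpe (K22.f179884 IH) (Lpe (f185068 IH) (Lpn (LP (LK LD1_c4 LD2_c5 LD3_c46))))))))
theorem f198539 : Led Lsl_df (LP (LK LD1_c5 LD2_c53 LD3_c14)) = (LP (LK LD1_c4 LD2_c5 LD3_c46)) :=
  Lgr Lrot38 (Lpr_dt (f198525 IH) (Lpn (LP (LK LD1_c4 LD2_c5 LD3_c46))))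
theorem f198541 : Led Lsl_bt (LP (LK LD1_c5 LD2_c53 LD3_c14)) = (LP (LK LD1_c11 LD2_c32 LD3_c32)) :=
  Lre_b IH (LK LD1_c5 LD2_c53 LD3_c14) (LK LD1_c11 LD2_c32 LD3_c32) Lrfl Lrfl
theorem f198542 : Led Lsl_bt (LP (LK LD1_c8 LD2_c12 LD3_c13)) = (LP (LK LD1_c4 LD2_c5 LD3_c46)) :=
  Lre_b IH (LK LD1_c8 LD2_c12 LD3_c13) (LK LD1_c4 LD2_c5 LD3_c46) Lrfl Lrfl
theorem f198543 : Led Lsl_dt (LP (LK LD1_c11 LD2_c32 LD3_c32)) = (LP (LK LD1_c8 LD2_c12 LD3_c13)) :=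
  Lgr Lrot79 (Lpe (f198541 IH) (Lpr_df (f198539 IH) (Lpe (f198542 IH) (Lpn (LP (LK LD1_c8 LD2_c12 LD3_c13))))))
theorem f198547 : Led Lsl_et (LP (LK LD1_c5 LD2_c53 LD3_c13)) = (LP (LK LD1_c11 LD2_c32 LD3_c32)) :=
  Lre_e IH (LK LD1_c5 LD2_c53 LD3_c13) (LK LD1_c11 LD2_c32 LD3_c32) Lrfl Lrfl
theorem f198548 : Led Lsl_et (LP (LK LD1_c8 LD2_c12 LD3_c13)) = (LP (LK LD1_c4 LD2_c5 LD3_c44)) :=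
  Lre_e IH (LK LD1_c8 LD2_c12 LD3_c13) (LK LD1_c4 LD2_c5 LD3_c44) Lrfl Lrfl
theorem f182438 : Led Lsl_dt (LP (LK LD1_c4 LD2_c5 LD3_c44)) = (LP (LK LD1_c2 LD2_c0 LD3_c10)) :=
  Lre_d IH (LK LD1_c4 LD2_c5 LD3_c44) (LK LD1_c2 LD2_c0 LD3_c10) Lrfl Lrfl
theorem f198549 : Led Lsl_df (LP (LK LD1_c5 LD2_c53 LD3_c13)) = (LP (LK LD1_c4 LD2_c5 LD3_c45)) :=
  Lgr Lrot70 (Lpr_et (f198547 IH) (Lpr_dt (f198543 IH) (Lpr_et (f198548 IH) (Lpr_dt (f182438 IH) (Lpr_et (K30.f182436 IH) (Lpn (LP (LK LD1_c4 LD2_c5 LD3_c45))))))))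
theorem f563677 : Led Lsl_ef (LP (LK LD1_c2 LD2_c46 LD3_c59)) = (LP (LK LD1_c4 LD2_c36 LD3_c2)) :=
  Lgr Lrot167 (Lpe (f551608 IH) (Lpr_dt (K39.f551624 IH) (Lpe (f563675 IH) (Lpe (K39.f552033 IH) (Lpe (K38.f132841 IH) (Lpr_gt (K38.f563665 IH) (Lpe (f182442 IH) (Lpe (f198549 IH) (Lpr_gt (K38.f549759 IH) (Lpe (K38.f198498 IH) (Lpn (LP (LK LD1_c4 LD2_c36 LD3_c2)))))))))))))
theorem f563684 : Led Lsl_et (LP (LK LD1_c2 LD2_c46 LD3_c59)) = (LP (LK LD1_c4 LD2_c36 LD3_c2)) :=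
  Lgr Lrot87 (Lpr_ef (f563677 IH) (Lpn (LP (LK LD1_c4 LD2_c36 LD3_c2))))
theorem f175483 : Led Lsl_dt (LP (LK LD1_c2 LD2_c46 LD3_c59)) = (LP (LK LD1_c5 LD2_c41 LD3_c61)) :=
  Lre_d IH (LK LD1_c2 LD2_c46 LD3_c59) (LK LD1_c5 LD2_c41 LD3_c61) Lrfl Lrfl
theorem f556749 : Led Lsl_gt (LP (LK LD1_c2 LD2_c18 LD3_c57)) = (LP (LK LD1_c3 LD2_c0 LD3_c52)) :=
  Lgr Lrot5 (Lpr_ft (K6.f132840 IH) (Lpe (K6.f132950 IH) (Lpr_gf (K39.f556747 IH) (Lpn (LP (LK LD1_c3 LD2_c0 LD3_c52))))))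
theorem f563695 : Led Lsl_gf (LP (LK LD1_c5 LD2_c41 LD3_c61)) = (LP (LK LD1_c6 LD2_c9 LD3_c1)) :=
  Lgr Lrot134 (Lpe (f175483 IH) (Lpr_et (f563684 IH) (Lpr_gt (K38.f71146 IH) (Lpe (K2.f71103 IH) (Lpr_dt (K2.f71023 IH) (Lpr_gt (K6.f71136 IH) (Lpr_df (K6.f137398 IH) (Lpr_et (K36.f132839 IH) (Lpr_gt (f556749 IH) (Lpr_dt (K38.f24014 IH) (Lpn (LP (LK LD1_c6 LD2_c9 LD3_c1)))))))))))))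
theorem f551612 : Led Lsl_dt (LP (LK LD1_c5 LD2_c41 LD3_c61)) = (LP (LK LD1_c2 LD2_c46 LD3_c59)) :=
  Lre_d IH (LK LD1_c5 LD2_c41 LD3_c61) (LK LD1_c2 LD2_c46 LD3_c59) Lrfl Lrfl
theorem f422810 : Led Lsl_ct (LP (LK LD1_c2 LD2_c46 LD3_c59)) = (LP (LK LD1_c5 LD2_c41 LD3_c60)) :=
  Lre_c IH (LK LD1_c2 LD2_c46 LD3_c59) (LK LD1_c5 LD2_c41 LD3_c60) Lrfl Lrfl
theorem f548919 : Led Lsl_ct (LP (LK LD1_c5 LD2_c14 LD3_c6)) = (LP (LK LD1_c7 LD2_c33 LD3_c46)) :=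
  Lgr Lrot59 (Lpr_cf (K38.f548900 IH) (Lpn (LP (LK LD1_c7 LD2_c33 LD3_c46))))
theorem f302008 : Led Lsl_ft (LP (LK LD1_c5 LD2_c49 LD3_c21)) = (LP (LK LD1_c9 LD2_c5 LD3_c44)) :=
  Lgr Lrot48 (Lpr_ff (K36.f302004 IH) (Lpn (LP (LK LD1_c9 LD2_c5 LD3_c44))))
theorem f302012 : Led Lsl_bf (LP (LK LD1_c5 LD2_c49 LD3_c21)) = (LP (LK LD1_c9 LD2_c5 LD3_c41)) :=
  Lgr Lrot61 (Lpr_ft (f302008 IH) (Lpe (K36.f302000 IH) (Lpr_ft (f301997 IH) (Lpn (LP (LK LD1_c9 LD2_c5 LD3_c41))))))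
theorem f302054 : Led Lsl_bt (LP (LK LD1_c6 LD2_c25 LD3_c31)) = (LP (LK LD1_c5 LD2_c41 LD3_c15)) :=
  Lgr Lrot95 (Lpr_df (f176668 IH) (Lpr_bf (f302012 IH) (Lpr_df (f302050 IH) (Lpn (LP (LK LD1_c5 LD2_c41 LD3_c15))))))
theorem f561454 : Led Lsl_gf (LP (LK LD1_c5 LD2_c43 LD3_c40)) = (LP (LK LD1_c5 LD2_c7 LD3_c38)) :=
  Lgr Lrot124 (Lpr_bf (f542618 IH) (Lpe (f541762 IH) (Lpe (K36.f539660 IH) (Lpe (f205115 IH) (Lpr_bt (f302054 IH) (Lpe (f302060 IH) (Lpr_ct (f548919 IH) (Lpe (K38.f546891 IH) (Lpe (K37.f175542 IH) (Lpr_bt (f561446 IH) (Lpn (LP (LK LD1_c5 LD2_c7 LD3_c38)))))))))))))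
theorem f381967 : Led Lsl_et (LP (LK LD1_c1 LD2_c20 LD3_c12)) = (LP (LK LD1_c2 LD2_c47 LD3_c53)) :=
  Lre_e IH (LK LD1_c1 LD2_c20 LD3_c12) (LK LD1_c2 LD2_c47 LD3_c53) Lrfl Lrfl
theorem f381968 : Led Lsl_cf (LP (LK LD1_c5 LD2_c43 LD3_c40)) = (LP (LK LD1_c2 LD2_c47 LD3_c53)) :=
  Lgr Lrot39 (Lpr_et (f381821 IH) (Lpr_ct (K27.f381955 IH) (Lpr_et (f381967 IH) (Lpn (LP (LK LD1_c2 LD2_c47 LD3_c53))))))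
theorem f381929 : Led Lsl_bt (LP (LK LD1_c2 LD2_c47 LD3_c53)) = (LP (LK LD1_c1 LD2_c20 LD3_c15)) :=
  Lre_b IH (LK LD1_c2 LD2_c47 LD3_c53) (LK LD1_c1 LD2_c20 LD3_c15) Lrfl Lrfl
theorem f181451 : Led Lsl_ct (LP (LK LD1_c2 LD2_c13 LD3_c5)) = (LP (LK LD1_c1 LD2_c3 LD3_c38)) :=
  Lre_c IH (LK LD1_c2 LD2_c13 LD3_c5) (LK LD1_c1 LD2_c3 LD3_c38) Lrfl Lrfl
theorem f177121 : Led Lsl_bt (LP (LK LD1_c0 LD2_c36 LD3_c54)) = (LP (LK LD1_c1 LD2_c19 LD3_c42)) :=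
  Lre_b IH (LK LD1_c0 LD2_c36 LD3_c54) (LK LD1_c1 LD2_c19 LD3_c42) Lrfl Lrfl
theorem f181453 : Led Lsl_at (LP (LK LD1_c4 LD2_c31 LD3_c60)) = (LP (LK LD1_c2 LD2_c13 LD3_c2)) :=
  Lre_a IH (LK LD1_c4 LD2_c31 LD3_c60) (LK LD1_c2 LD2_c13 LD3_c2) Lrfl Lrfl
theorem f495794 : Led Lsl_bf (LP (LK LD1_c4 LD2_c31 LD3_c60)) = K38.v1482 :=
  Lgr Lrot81 (Lpr_at (f181453 IH) (Lpr_bt (K10.f181445 IH) (Lpr_at (K24.f379957 IH) (Lpr_bt (f177121 IH) (Lpr_at (K38.f495792 IH) (Lpn K38.v1482))))))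
theorem f496103 : Led Lsl_ct (LP (LK LD1_c2 LD2_c31 LD3_c6)) = (LP (LK LD1_c5 LD2_c7 LD3_c38)) :=
  Lre_c IH (LK LD1_c2 LD2_c31 LD3_c6) (LK LD1_c5 LD2_c7 LD3_c38) Lrfl Lrfl
theorem f561458 : Led Lsl_gt (LP (LK LD1_c4 LD2_c31 LD3_c60)) = (LP (LK LD1_c2 LD2_c31 LD3_c6)) :=
  Lgr Lrot82 (Lpr_bf (f495794 IH) (Lpq (K38.f536995 IH) (Lpr_ct (f181451 IH) (Lpr_gf (K22.f334602 IH) (Lpe (K11.f176911 IH) (Lpr_bt (K36.f176914 IH) (Lpqs (K36.f539670 IH) (Lpe (K36.f495897 IH) (Lpe (f381929 IH) (Lpe (f381968 IH) (Lpr_gf (f561454 IH) (Lpe (f496103 IH) (Lpn (LP (LK LD1_c2 LD2_c31 LD3_c6)))))))))))))))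
theorem f181701 : Led Lsl_et (LP (LK LD1_c2 LD2_c13 LD3_c0)) = (LP (LK LD1_c4 LD2_c31 LD3_c60)) :=
  Lre_e IH (LK LD1_c2 LD2_c13 LD3_c0) (LK LD1_c4 LD2_c31 LD3_c60) Lrfl Lrfl
theorem f561467 : Led Lsl_df (LP (LK LD1_c2 LD2_c46 LD3_c10)) = K38.v1243 :=
  Lgr Lrot170 (Lpr_gt (K31.f380165 IH) (Lpe (K30.f181697 IH) (Lpr_et (f181701 IH) (Lpr_gt (f561458 IH) (Lpr_dt (K31.f22374 IH) (Lpe (K31.f206041 IH) (Lpe (K31.f206040 IH) (Lpr_et (K31.f206039 IH) (Lpr_gt (K11.f206003 IH) (Lpr_ef (K38.f494266 IH) (Lpn K38.v1243)))))))))))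
theorem f380188 : Led Lsl_at (LP (LK LD1_c5 LD2_c40 LD3_c21)) = (LP (LK LD1_c2 LD2_c46 LD3_c12)) :=
  Lre_a IH (LK LD1_c5 LD2_c40 LD3_c21) (LK LD1_c2 LD2_c46 LD3_c12) Lrfl Lrfl
theorem f380189 : Led Lsl_ff (LP (LK LD1_c5 LD2_c40 LD3_c21)) = (LP (LK LD1_c9 LD2_c1 LD3_c41)) :=
  Lgr Lrot30 (Lpr_at (f380188 IH) (Lpr_ft (K30.f380184 IH) (Lpr_at (K30.f181703 IH) (Lpn (LP (LK LD1_c9 LD2_c1 LD3_c41))))))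
theorem f226759 : Led Lsl_gt (LP (LK LD1_c5 LD2_c40 LD3_c30)) = (LP (LK LD1_c2 LD2_c46 LD3_c12)) :=
  Lre_g IH (LK LD1_c5 LD2_c40 LD3_c30) (LK LD1_c2 LD2_c46 LD3_c12) Lrfl Lrfl
theorem f380599 : Led Lsl_gf (LP (LK LD1_c5 LD2_c40 LD3_c30)) = (LP (LK LD1_c9 LD2_c1 LD3_c41)) :=
  Lgr Lrot47 (Lpr_gt (f226759 IH) (Lpe (f380188 IH) (Lpr_ff (f380189 IH) (Lpn (LP (LK LD1_c9 LD2_c1 LD3_c41))))))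
theorem f380276 : Led Lsl_dt (LP (LK LD1_c9 LD2_c1 LD3_c21)) = (LP (LK LD1_c4 LD2_c31 LD3_c42)) :=
  Lre_d IH (LK LD1_c9 LD2_c1 LD3_c21) (LK LD1_c4 LD2_c31 LD3_c42) Lrfl Lrfl
theorem f561477 : Led Lsl_ct (LP (LK LD1_c5 LD2_c40 LD3_c30)) = (LP (LK LD1_c9 LD2_c1 LD3_c21)) :=
  Lgr Lrot110 (Lpr_gf (f380599 IH) (Lpe (K30.f181698 IH) (Lpe (K31.f380165 IH) (Lpr_df (f561467 IH) (Lpqs (K38.f544926 IH) (Lpr_gt (K38.f385862 IH) (Lpr_ct (K35.f380433 IH) (Lpe (K35.f380436 IH) (Lpr_ct (K38.f380275 IH) (Lpe (f380276 IH) (Lpn (LP (LK LD1_c9 LD2_c1 LD3_c21)))))))))))))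
theorem f380200 : Led Lsl_dt (LP (LK LD1_c11 LD2_c11 LD3_c44)) = (LP (LK LD1_c5 LD2_c40 LD3_c30)) :=
  Lre_d IH (LK LD1_c11 LD2_c11 LD3_c44) (LK LD1_c5 LD2_c40 LD3_c30) Lrfl Lrfl
theorem f547788 : K38.v2906 = K38.v1450 :=
  Lefun (Lecon (K38.f536142 IH) (K38.f547758 IH)) (K38.f495642 IH)
theorem f382019 : Led Lsl_dt (LP (LK LD1_c5 LD2_c40 LD3_c24)) = (LP (LK LD1_c11 LD2_c11 LD3_c29)) :=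
  Lre_d IH (LK LD1_c5 LD2_c40 LD3_c24) (LK LD1_c11 LD2_c11 LD3_c29) Lrfl Lrfl
theorem f561487 : Led Lsl_cf (LP (LK LD1_c11 LD2_c11 LD3_c44)) = (LP (LK LD1_c11 LD2_c11 LD3_c29)) :=
  Lgr Lrot116 (Lpr_dt (f380200 IH) (Lpr_ct (f561477 IH) (Lpr_dt (f380276 IH) (Lpr_ct (K35.f380270 IH) (Lpqs (K38.f544920 IH) (Lpqs (f547788 IH) (Lpe (K38.f495639 IH) (Lpr_ff (K38.f495647 IH) (Lpq (K38.f547760 IH) (Lpe (f561467 IH) (Lpr_ct (K31.f380250 IH) (Lpr_dt (f382019 IH) (Lpn (LP (LK LD1_c11 LD2_c11 LD3_c29)))))))))))))))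
theorem f380601 : Led Lsl_dt (LP (LK LD1_c5 LD2_c40 LD3_c30)) = (LP (LK LD1_c11 LD2_c11 LD3_c44)) :=
  Lre_d IH (LK LD1_c5 LD2_c40 LD3_c30) (LK LD1_c11 LD2_c11 LD3_c44) Lrfl Lrfl
theorem f423277 : Led Lsl_gt (LP (LK LD1_c11 LD2_c7 LD3_c45)) = (LP (LK LD1_c11 LD2_c11 LD3_c46)) :=
  Lgr Lrot49 (Lpe (K31.f179472 IH) (Lpe (K31.f171819 IH) (Lpe (K31.f171818 IH) (Lpr_gt (K30.f172335 IH) (Lpr_dt (K31.f423256 IH) (Lpr_gt (K30.f380251 IH) (Lpr_dt (K30.f181697 IH) (Lpe (K30.f181700 IH) (Lpe (K30.f380170 IH) (Lpn (LP (LK LD1_c11 LD2_c11 LD3_c46))))))))))))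
theorem f423097 : Led Lsl_ff (LP (LK LD1_c16 LD2_c51 LD3_c25)) = (LP (LK LD1_c11 LD2_c7 LD3_c42)) :=
  Lgr Lrot3 (Lpr_ft (K31.f423079 IH) (Lpn (LP (LK LD1_c11 LD2_c7 LD3_c42))))
theorem f423047 : Led Lsl_gt (LP (LK LD1_c20 LD2_c1 LD3_c1)) = (LP (LK LD1_c11 LD2_c7 LD3_c35)) :=
  Lre_g IH (LK LD1_c20 LD2_c1 LD3_c1) (LK LD1_c11 LD2_c7 LD3_c35) Lrfl Lrfl
theorem f423103 : Led Lsl_gf (LP (LK LD1_c20 LD2_c1 LD3_c1)) = (LP (LK LD1_c11 LD2_c7 LD3_c42)) :=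
  Lgr Lrot47 (Lpr_gt (f423047 IH) (Lpe (K31.f423037 IH) (Lpr_ff (f423097 IH) (Lpn (LP (LK LD1_c11 LD2_c7 LD3_c42))))))
theorem f380187 : Led Lsl_gt (LP (LK LD1_c11 LD2_c11 LD3_c27)) = (LP (LK LD1_c5 LD2_c40 LD3_c24)) :=
  Lre_g IH (LK LD1_c11 LD2_c11 LD3_c27) (LK LD1_c5 LD2_c40 LD3_c24) Lrfl Lrfl
theorem f561506 : Led Lsl_dt (LP (LK LD1_c20 LD2_c1 LD3_c1)) = (LP (LK LD1_c11 LD2_c11 LD3_c27)) :=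
  Lgr Lrot57 (Lpr_gf (f423103 IH) (Lpr_cf (K31.f423251 IH) (Lpr_gt (f423277 IH) (Lpr_dt (K30.f380170 IH) (Lpe (f380599 IH) (Lpr_dt (f380601 IH) (Lpr_cf (f561487 IH) (Lpe (f382019 IH) (Lpe (f380187 IH) (Lpn (LP (LK LD1_c11 LD2_c11 LD3_c27))))))))))))
theorem f561512 : Led Lsl_df (LP (LK LD1_c20 LD2_c1 LD3_c1)) = (LP (LK LD1_c11 LD2_c11 LD3_c27)) :=
  Lgr Lrot38 (Lpr_dt (f561506 IH) (Lpn (LP (LK LD1_c11 LD2_c11 LD3_c27))))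
theorem f380626 : Led Lsl_ct (LP (LK LD1_c2 LD2_c46 LD3_c11)) = (LP (LK LD1_c5 LD2_c40 LD3_c27)) :=
  Lre_c IH (LK LD1_c2 LD2_c46 LD3_c11) (LK LD1_c5 LD2_c40 LD3_c27) Lrfl Lrfl
theorem f561517 : Led Lsl_gt (LP (LK LD1_c5 LD2_c40 LD3_c27)) = (LP (LK LD1_c11 LD2_c11 LD3_c27)) :=
  Lgr Lrot94 (Lpe (f380626 IH) (Lpr_gt (K38.f380595 IH) (Lpr_dt (K30.f380167 IH) (Lpr_gt (K30.f380255 IH) (Lpe (K38.f423271 IH) (Lpe (K30.f402631 IH) (Lpe (K31.f423036 IH) (Lpe (f423047 IH) (Lpr_df (f561512 IH) (Lpn (LP (LK LD1_c11 LD2_c11 LD3_c27))))))))))))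
theorem f379955 : Led Lsl_at (LP (LK LD1_c1 LD2_c3 LD3_c35)) = (LP (LK LD1_c0 LD2_c36 LD3_c53)) :=
  Lgr Lrot51 (Lpe (K15.f20630 IH) (Lpr_af (K24.f379949 IH) (Lpe (K27.f171771 IH) (Lpn (LP (LK LD1_c0 LD2_c36 LD3_c53))))))
theorem f177655 : Led Lsl_bt (LP (LK LD1_c2 LD2_c13 LD3_c1)) = (LP (LK LD1_c1 LD2_c3 LD3_c35)) :=
  Lre_b IH (LK LD1_c2 LD2_c13 LD3_c1) (LK LD1_c1 LD2_c3 LD3_c35) Lrfl Lrfl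
theorem f495764 : Led Lsl_bf (LP (LK LD1_c4 LD2_c31 LD3_c59)) = K30.v1479 :=
  Lgr Lrot81 (Lpr_at (K30.f380231 IH) (Lpr_bt (f177655 IH) (Lpr_at (f379955 IH) (Lpr_bt (K37.f225727 IH) (Lpr_at (K30.f495762 IH) (Lpn K30.v1479))))))
theorem f412094 : Led Lsl_at (LP (LK LD1_c5 LD2_c40 LD3_c57)) = (LP (LK LD1_c5 LD2_c46 LD3_c59)) :=
  Lgr Lrot107 (Lpr_cf (K37.f412092 IH) (Lpr_af (K36.f68796 IH) (Lpe (K9.f60098 IH) (Lpn (LP (LK LD1_c5 LD2_c46 LD3_c59))))))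
theorem f412116 : Led Lsl_ff (LP (LK LD1_c5 LD2_c40 LD3_c57)) = (LP (LK LD1_c3 LD2_c0 LD3_c57)) :=
  Lgr Lrot19 (Lpr_dt (K39.f412104 IH) (Lpr_ft (K1.f59988 IH) (Lpe (K1.f60090 IH) (Lpn (LP (LK LD1_c3 LD2_c0 LD3_c57))))))
theorem f553745 : Led Lsl_gt (LP (LK LD1_c3 LD2_c0 LD3_c57)) = (LP (LK LD1_c5 LD2_c40 LD3_c9)) :=
  Lgr Lrot5 (Lpe (f412116 IH) (Lpr_at (f412094 IH) (Lpr_gf (K39.f553743 IH) (Lpn (LP (LK LD1_c5 LD2_c40 LD3_c9))))))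
theorem f60111 : Led Lsl_bt (LP (LK LD1_c1 LD2_c26 LD3_c16)) = (LP (LK LD1_c3 LD2_c0 LD3_c45)) :=
  Lre_b IH (LK LD1_c1 LD2_c26 LD3_c16) (LK LD1_c3 LD2_c0 LD3_c45) Lrfl Lrfl
theorem f561526 : Led Lsl_ct (LP (LK LD1_c5 LD2_c43 LD3_c21)) = (LP (LK LD1_c11 LD2_c11 LD3_c27)) :=
  Lgr Lrot63 (Lpr_bt (K36.f381757 IH) (Lpe (K37.f542147 IH) (Lpe (f60111 IH) (Lpr_ct (K9.f9528 IH) (Lpr_gt (f553745 IH) (Lpr_cf (K39.f495765 IH) (Lpe (f495764 IH) (Lpe (K38.f380624 IH) (Lpr_ct (f380626 IH) (Lpr_gt (f561517 IH) (Lpn (LP (LK LD1_c11 LD2_c11 LD3_c27)))))))))))))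
theorem f496037 : Led Lsl_af (LP (LK LD1_c3 LD2_c4 LD3_c53)) = K38.v1521 :=
  Lgr Lrot50 (Lpr_et (f117888 IH) (Lpr_at (K8.f117865 IH) (Lpr_et (K38.f496036 IH) (Lpn K38.v1521))))
theorem f544923 : Led Lsl_gf (LP (LK LD1_c3 LD2_c4 LD3_c53)) = (LP (LK LD1_c5 LD2_c37 LD3_c20)) :=
  Lgr Lrot76 (Lpr_af (f496037 IH) (Lpr_ff (K38.f544921 IH) (Lpe (K38.f423286 IH) (Lpn (LP (LK LD1_c5 LD2_c37 LD3_c20))))))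
theorem f422716 : Led Lsl_dt (LP (LK LD1_c5 LD2_c37 LD3_c56)) = (LP (LK LD1_c2 LD2_c44 LD3_c52)) :=
  Lre_d IH (LK LD1_c5 LD2_c37 LD3_c56) (LK LD1_c2 LD2_c44 LD3_c52) Lrfl Lrfl
theorem f561532 : Led Lsl_gf (LP (LK LD1_c5 LD2_c43 LD3_c21)) = (LP (LK LD1_c5 LD2_c37 LD3_c56)) :=
  Lgr Lrot147 (Lpr_ct (f561526 IH) (Lpr_gt (f380187 IH) (Lpr_ct (K31.f380186 IH) (Lpr_df (f561467 IH) (Lpe (K38.f494268 IH) (Lpr_gf (f544923 IH) (Lpe (f382483 IH) (Lpe (K39.f211965 IH) (Lpe (f422716 IH) (Lpn (LP (LK LD1_c5 LD2_c37 LD3_c56))))))))))))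
theorem f556763 : Led Lsl_bt (LP (LK LD1_c6 LD2_c15 LD3_c54)) = (LP (LK LD1_c5 LD2_c37 LD3_c56)) :=
  Lgr Lrot95 (Lpe (K39.f132935 IH) (Lpr_bf (K39.f556755 IH) (Lpe (f422716 IH) (Lpn (LP (LK LD1_c5 LD2_c37 LD3_c56))))))
theorem f132936 : Led Lsl_ct (LP (LK LD1_c6 LD2_c15 LD3_c54)) = (LP (LK LD1_c12 LD2_c9 LD3_c25)) :=
  Lre_c IH (LK LD1_c6 LD2_c15 LD3_c54) (LK LD1_c12 LD2_c9 LD3_c25) Lrfl Lrfl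
theorem f382021 : Led Lsl_bt (LP (LK LD1_c2 LD2_c46 LD3_c10)) = (LP (LK LD1_c5 LD2_c40 LD3_c23)) :=
  Lre_b IH (LK LD1_c2 LD2_c46 LD3_c10) (LK LD1_c5 LD2_c40 LD3_c23) Lrfl Lrfl
theorem f423763 : Led Lsl_bt (LP (LK LD1_c3 LD2_c59 LD3_c3)) = (LP (LK LD1_c7 LD2_c59 LD3_c22)) :=
  Lre_b IH (LK LD1_c3 LD2_c59 LD3_c3) (LK LD1_c7 LD2_c59 LD3_c22) Lrfl Lrfl
theorem f384163 : Led Lsl_ct (LP (LK LD1_c3 LD2_c59 LD3_c3)) = (LP (LK LD1_c7 LD2_c59 LD3_c27)) :=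
  Lre_c IH (LK LD1_c3 LD2_c59 LD3_c3) (LK LD1_c7 LD2_c59 LD3_c27) Lrfl Lrfl
theorem f561534 : Led Lsl_gf (LP (LK LD1_c12 LD2_c9 LD3_c25)) = (LP (LK LD1_c7 LD2_c59 LD3_c27)) :=
  Lgr Lrot126 (Lpe (f132936 IH) (Lpr_bt (f556763 IH) (Lpe (f561532 IH) (Lpr_ct (f561526 IH) (Lpr_gt (f380187 IH) (Lpe (K31.f380250 IH) (Lpr_bt (f382021 IH) (Lpe (K39.f423759 IH) (Lpe (f423763 IH) (Lpr_ct (f384163 IH) (Lpn (LP (LK LD1_c7 LD2_c59 LD3_c27)))))))))))))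
theorem f381397 : Led Lsl_bt (LP (LK LD1_c2 LD2_c47 LD3_c43)) = (LP (LK LD1_c5 LD2_c43 LD3_c21)) :=
  Lre_b IH (LK LD1_c2 LD2_c47 LD3_c43) (LK LD1_c5 LD2_c43 LD3_c21) Lrfl Lrfl
theorem f381459 : Led Lsl_ct (LP (LK LD1_c4 LD2_c57 LD3_c10)) = (LP (LK LD1_c9 LD2_c45 LD3_c22)) :=
  Lre_c IH (LK LD1_c4 LD2_c57 LD3_c10) (LK LD1_c9 LD2_c45 LD3_c22) Lrfl Lrfl
theorem f561539 : Led Lsl_gt (LP (LK LD1_c5 LD2_c37 LD3_c40)) = (LP (LK LD1_c3 LD2_c59 LD3_c3)) :=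
  Lgr Lrot82 (Lpr_bf (K36.f383408 IH) (Lpr_ct (f381459 IH) (Lpe (K39.f382140 IH) (Lpe (K39.f381396 IH) (Lpr_bt (f381397 IH) (Lpr_gf (f561532 IH) (Lpe (f556763 IH) (Lpr_ct (f132936 IH) (Lpr_gf (f561534 IH) (Lpe (f384163 IH) (Lpn (LP (LK LD1_c3 LD2_c59 LD3_c3)))))))))))))
theorem f180231 : Led Lsl_gt (LP (LK LD1_c4 LD2_c19 LD3_c52)) = (LP (LK LD1_c2 LD2_c7 LD3_c25)) :=
  Lre_g IH (LK LD1_c4 LD2_c19 LD3_c52) (LK LD1_c2 LD2_c7 LD3_c25) Lrfl Lrfl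
theorem f386982 : Led Lsl_gt (LP (LK LD1_c2 LD2_c44 LD3_c47)) = (LP (LK LD1_c4 LD2_c19 LD3_c52)) :=
  Lgr Lrot5 (Lpr_ft (K36.f386967 IH) (Lpr_at (K36.f225654 IH) (Lpe (f180231 IH) (Lpn (LP (LK LD1_c4 LD2_c19 LD3_c52))))))
theorem f225662 : Led Lsl_ct (LP (LK LD1_c4 LD2_c19 LD3_c52)) = (LP (LK LD1_c8 LD2_c37 LD3_c42)) :=
  Lre_c IH (LK LD1_c4 LD2_c19 LD3_c52) (LK LD1_c8 LD2_c37 LD3_c42) Lrfl Lrfl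
theorem f133047 : Led Lsl_ct (LP (LK LD1_c12 LD2_c9 LD3_c25)) = (LP (LK LD1_c6 LD2_c15 LD3_c54)) :=
  Lre_c IH (LK LD1_c12 LD2_c9 LD3_c25) (LK LD1_c6 LD2_c15 LD3_c54) Lrfl Lrfl
theorem f132934 : Led Lsl_ct (LP (LK LD1_c6 LD2_c15 LD3_c44)) = (LP (LK LD1_c3 LD2_c5 LD3_c1)) :=
  Lre_c IH (LK LD1_c6 LD2_c15 LD3_c44) (LK LD1_c3 LD2_c5 LD3_c1) Lrfl Lrfl
theorem f561545 : Led Lsl_gt (LP (LK LD1_c8 LD2_c37 LD3_c42)) = (LP (LK LD1_c6 LD2_c15 LD3_c44)) :=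
  Lgr Lrot150 (Lpe (f225662 IH) (Lpe (f386982 IH) (Lpe (K36.f383411 IH) (Lpr_gt (f561539 IH) (Lpr_ct (f384163 IH) (Lpe (f561534 IH) (Lpr_ct (f133047 IH) (Lpe (K39.f132935 IH) (Lpe (f132934 IH) (Lpn (LP (LK LD1_c6 LD2_c15 LD3_c44))))))))))))
theorem f132947 : Led Lsl_af (LP (LK LD1_c6 LD2_c15 LD3_c44)) = (LP (LK LD1_c9 LD2_c19 LD3_c49)) :=
  Lgr Lrot0 (Lpr_at (K6.f132941 IH) (Lpn (LP (LK LD1_c9 LD2_c19 LD3_c49))))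
theorem f59411 : Led Lsl_ft (LP (LK LD1_c4 LD2_c42 LD3_c53)) = (LP (LK LD1_c9 LD2_c19 LD3_c49)) :=
  Lre_f IH (LK LD1_c4 LD2_c42 LD3_c53) (LK LD1_c9 LD2_c19 LD3_c49) Lrfl Lrfl
theorem f561549 : Led Lsl_gf (LP (LK LD1_c8 LD2_c37 LD3_c42)) = (LP (LK LD1_c4 LD2_c42 LD3_c53)) :=
  Lgr Lrot47 (Lpr_gt (f561545 IH) (Lpr_af (f132947 IH) (Lpe (f59411 IH) (Lpn (LP (LK LD1_c4 LD2_c42 LD3_c53))))))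
theorem f40129 : Led Lsl_ct (LP (LK LD1_c7 LD2_c56 LD3_c24)) = (LP (LK LD1_c14 LD2_c58 LD3_c42)) :=
  Lre_c IH (LK LD1_c7 LD2_c56 LD3_c24) (LK LD1_c14 LD2_c58 LD3_c42) Lrfl Lrfl
theorem f236868 : Led Lsl_gt (LP (LK LD1_c14 LD2_c58 LD3_c42)) = (LP (LK LD1_c24 LD2_c46 LD3_c5)) :=
  Lre_g IH (LK LD1_c14 LD2_c58 LD3_c42) (LK LD1_c24 LD2_c46 LD3_c5) Lrfl Lrfl
theorem f29443 : Led Lsl_gt (LP (LK LD1_c8 LD2_c1 LD3_c53)) = (LP (LK LD1_c15 LD2_c7 LD3_c5)) :=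
  Lre_g IH (LK LD1_c8 LD2_c1 LD3_c53) (LK LD1_c15 LD2_c7 LD3_c5) Lrfl Lrfl
theorem f29528 : Led Lsl_bt (LP (LK LD1_c15 LD2_c7 LD3_c18)) = (LP (LK LD1_c8 LD2_c1 LD3_c53)) :=
  Lre_b IH (LK LD1_c15 LD2_c7 LD3_c18) (LK LD1_c8 LD2_c1 LD3_c53) Lrfl Lrfl
theorem f39881 : Led Lsl_bt (LP (LK LD1_c1 LD2_c55 LD3_c32)) = (LP (LK LD1_c3 LD2_c57 LD3_c30)) :=
  Lre_b IH (LK LD1_c1 LD2_c55 LD3_c32) (LK LD1_c3 LD2_c57 LD3_c30) Lrfl Lrfl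
theorem f39884 : Led Lsl_at (LP (LK LD1_c4 LD2_c23 LD3_c27)) = (LP (LK LD1_c2 LD2_c9 LD3_c9)) :=
  Lre_a IH (LK LD1_c4 LD2_c23 LD3_c27) (LK LD1_c2 LD2_c9 LD3_c9) Lrfl Lrfl
theorem f39885 : Led Lsl_bt (LP (LK LD1_c7 LD2_c56 LD3_c24)) = (LP (LK LD1_c4 LD2_c23 LD3_c27)) :=
  Lgr Lrot62 (Lpe (K39.f39882 IH) (Lpe (f39881 IH) (Lpr_af (K1.f39879 IH) (Lpe (K38.f39883 IH) (Lpe (f39884 IH) (Lpn (LP (LK LD1_c4 LD2_c23 LD3_c27))))))))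
theorem f236869 : Led Lsl_ct (LP (LK LD1_c15 LD2_c7 LD3_c18)) = (LP (LK LD1_c24 LD2_c46 LD3_c5)) :=
  Lgr Lrot10 (Lpr_bt (f29528 IH) (Lpr_gt (f29443 IH) (Lpr_ct (K39.f29420 IH) (Lpr_gt (K39.f29425 IH) (Lpr_cf (K39.f236858 IH) (Lpr_bt (K39.f236857 IH) (Lpr_gt (K39.f148969 IH) (Lpe (f39885 IH) (Lpr_ct (f40129 IH) (Lpr_gt (f236868 IH) (Lpn (LP (LK LD1_c24 LD2_c46 LD3_c5)))))))))))))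
theorem f236873 : Led Lsl_cf (LP (LK LD1_c15 LD2_c7 LD3_c18)) = (LP (LK LD1_c24 LD2_c46 LD3_c5)) :=
  Lgr Lrot11 (Lpr_ct (f236869 IH) (Lpn (LP (LK LD1_c24 LD2_c46 LD3_c5))))
theorem f557109 : Led Lsl_df (LP (LK LD1_c15 LD2_c7 LD3_c18)) = (LP (LK LD1_c8 LD2_c37 LD3_c42)) :=
  Lgr Lrot162 (Lpr_cf (f236873 IH) (Lpe (f236868 IH) (Lpe (f40129 IH) (Lpr_gf (K39.f553932 IH) (Lpr_dt (K39.f421125 IH) (Lpr_gt (K39.f557103 IH) (Lpr_ct (K39.f551969 IH) (Lpr_gt (f386982 IH) (Lpr_ct (f225662 IH) (Lpn (LP (LK LD1_c8 LD2_c37 LD3_c42))))))))))))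
theorem f563699 : Led Lsl_gf (LP (LK LD1_c11 LD2_c14 LD3_c17)) = (LP (LK LD1_c15 LD2_c7 LD3_c18)) :=
  Lgr Lrot143 (Lpr_dt (K39.f551977 IH) (Lpe (f422810 IH) (Lpe (f551612 IH) (Lpr_gf (f563695 IH) (Lpe (K38.f24014 IH) (Lpe (f556749 IH) (Lpe (K6.f59409 IH) (Lpe (f561549 IH) (Lpe (f557109 IH) (Lpn (LP (LK LD1_c15 LD2_c7 LD3_c18))))))))))))
theorem f551973 : Led Lsl_dt (LP (LK LD1_c5 LD2_c41 LD3_c60)) = (LP (LK LD1_c11 LD2_c14 LD3_c17)) :=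
  Lre_d IH (LK LD1_c5 LD2_c41 LD3_c60) (LK LD1_c11 LD2_c14 LD3_c17) Lrfl Lrfl
theorem f420756 : Led Lsl_ct (LP (LK LD1_c9 LD2_c8 LD3_c18)) = (LP (LK LD1_c4 LD2_c36 LD3_c2)) :=
  Lre_c IH (LK LD1_c9 LD2_c8 LD3_c18) (LK LD1_c4 LD2_c36 LD3_c2) Lrfl Lrfl
theorem f563682 : Led Lsl_et (LP (LK LD1_c5 LD2_c41 LD3_c60)) = (LP (LK LD1_c9 LD2_c8 LD3_c18)) :=
  Lgr Lrot158 (Lpe (f422810 IH) (Lpr_ef (f563677 IH) (Lpe (f420756 IH) (Lpn (LP (LK LD1_c9 LD2_c8 LD3_c18))))))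
theorem f563709 : Led Lsl_gt (LP (LK LD1_c9 LD2_c8 LD3_c18)) = (LP (LK LD1_c4 LD2_c58 LD3_c55)) :=
  Lgr Lrot131 (Lpe (f563682 IH) (Lpr_dt (f551973 IH) (Lpr_gf (f563699 IH) (Lpr_df (f557109 IH) (Lpr_gf (f561549 IH) (Lpe (K36.f59414 IH) (Lpr_dt (K6.f59421 IH) (Lpr_gf (K8.f138162 IH) (Lpe (K8.f72412 IH) (Lpr_et (K6.f101742 IH) (Lpn (LP (LK LD1_c4 LD2_c58 LD3_c55)))))))))))))
theorem f71483 : Led Lsl_ct (LP (LK LD1_c4 LD2_c36 LD3_c2)) = (LP (LK LD1_c9 LD2_c8 LD3_c18)) :=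
  Lre_c IH (LK LD1_c4 LD2_c36 LD3_c2) (LK LD1_c9 LD2_c8 LD3_c18) Lrfl Lrfl
theorem f551983 : Led Lsl_bf (LP (LK LD1_c2 LD2_c46 LD3_c59)) = (LP (LK LD1_c2 LD2_c46 LD3_c6)) :=
  Lgr Lrot90 (Lpr_ct (f422810 IH) (Lpr_bt (K39.f551978 IH) (Lpr_ct (K31.f280501 IH) (Lpr_bt (K30.f280505 IH) (Lpr_ct (K30.f380256 IH) (Lpn (LP (LK LD1_c2 LD2_c46 LD3_c6))))))))
theorem f225663 : Led Lsl_ct (LP (LK LD1_c8 LD2_c37 LD3_c42)) = (LP (LK LD1_c4 LD2_c19 LD3_c52)) :=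
  Lre_c IH (LK LD1_c8 LD2_c37 LD3_c42) (LK LD1_c4 LD2_c19 LD3_c52) Lrfl Lrfl
theorem f132995 : Led Lsl_dt (LP (LK LD1_c6 LD2_c15 LD3_c44)) = (LP (LK LD1_c12 LD2_c9 LD3_c17)) :=
  Lre_d IH (LK LD1_c6 LD2_c15 LD3_c44) (LK LD1_c12 LD2_c9 LD3_c17) Lrfl Lrfl
theorem f551583 : Led Lsl_gt (LP (LK LD1_c12 LD2_c9 LD3_c17)) = (LP (LK LD1_c7 LD2_c59 LD3_c15)) :=
  Lgr Lrot5 (Lpr_ft (K6.f132929 IH) (Lpr_at (K6.f132913 IH) (Lpr_gf (K39.f551581 IH) (Lpn (LP (LK LD1_c7 LD2_c59 LD3_c15))))))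
theorem f181363 : Led Lsl_dt (LP (LK LD1_c3 LD2_c58 LD3_c60)) = (LP (LK LD1_c1 LD2_c56 LD3_c14)) :=
  Lre_d IH (LK LD1_c3 LD2_c58 LD3_c60) (LK LD1_c1 LD2_c56 LD3_c14) Lrfl Lrfl
theorem f561551 : Led Lsl_gt (LP (LK LD1_c2 LD2_c46 LD3_c16)) = (LP (LK LD1_c3 LD2_c58 LD3_c60)) :=
  Lgr Lrot49 (Lpe (K12.f225451 IH) (Lpe (f180231 IH) (Lpe (f225663 IH) (Lpr_gt (f561545 IH) (Lpr_dt (f132995 IH) (Lpr_gt (f551583 IH) (Lpr_dt (K39.f174566 IH) (Lpe (K30.f174535 IH) (Lpe (f181363 IH) (Lpn (LP (LK LD1_c3 LD2_c58 LD3_c60))))))))))))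
theorem f225254 : Led Lsl_bt (LP (LK LD1_c1 LD2_c19 LD3_c30)) = (LP (LK LD1_c2 LD2_c46 LD3_c16)) :=
  Lre_b IH (LK LD1_c1 LD2_c19 LD3_c30) (LK LD1_c2 LD2_c46 LD3_c16) Lrfl Lrfl
theorem f181348 : Led Lsl_gt (LP (LK LD1_c4 LD2_c32 LD3_c36)) = (LP (LK LD1_c2 LD2_c13 LD3_c19)) :=
  Lre_g IH (LK LD1_c4 LD2_c32 LD3_c36) (LK LD1_c2 LD2_c13 LD3_c19) Lrfl Lrfl
theorem f173358 : Led Lsl_ct (LP (LK LD1_c3 LD2_c58 LD3_c60)) = (LP (LK LD1_c7 LD2_c59 LD3_c17)) :=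
  Lre_c IH (LK LD1_c3 LD2_c58 LD3_c60) (LK LD1_c7 LD2_c59 LD3_c17) Lrfl Lrfl
theorem f132974 : Led Lsl_ct (LP (LK LD1_c9 LD2_c19 LD3_c50)) = (LP (LK LD1_c4 LD2_c42 LD3_c55)) :=
  Lre_c IH (LK LD1_c9 LD2_c19 LD3_c50) (LK LD1_c4 LD2_c42 LD3_c55) Lrfl Lrfl
theorem f561557 : Led Lsl_gf (LP (LK LD1_c9 LD2_c19 LD3_c50)) = (LP (LK LD1_c7 LD2_c59 LD3_c17)) :=
  Lgr Lrot104 (Lpr_ct (f132974 IH) (Lpe (K6.f104821 IH) (Lpe (K6.f59409 IH) (Lpe (K36.f541343 IH) (Lpe (K36.f137995 IH) (Lpr_gf (K36.f541275 IH) (Lpr_df (K36.f225659 IH) (Lpr_gt (f561551 IH) (Lpr_ct (f173358 IH) (Lpn (LP (LK LD1_c7 LD2_c59 LD3_c17))))))))))))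
theorem f132945 : Led Lsl_ct (LP (LK LD1_c4 LD2_c42 LD3_c55)) = (LP (LK LD1_c9 LD2_c19 LD3_c50)) :=
  Lre_c IH (LK LD1_c4 LD2_c42 LD3_c55) (LK LD1_c9 LD2_c19 LD3_c50) Lrfl Lrfl
theorem f561561 : Led Lsl_bf (LP (LK LD1_c4 LD2_c32 LD3_c36)) = (LP (LK LD1_c4 LD2_c42 LD3_c55)) :=
  Lgr Lrot156 (Lpr_gt (f181348 IH) (Lpe (K39.f226712 IH) (Lpr_ct (K12.f181786 IH) (Lpe (K12.f226699 IH) (Lpr_cf (K12.f225252 IH) (Lpr_bt (f225254 IH) (Lpr_gt (f561551 IH) (Lpr_ct (f173358 IH) (Lpe (f561557 IH) (Lpe (f132945 IH) (Lpn (LP (LK LD1_c4 LD2_c42 LD3_c55)))))))))))))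
theorem f561568 : Led Lsl_et (LP (LK LD1_c4 LD2_c32 LD3_c36)) = (LP (LK LD1_c9 LD2_c2 LD3_c42)) :=
  Lre_e IH (LK LD1_c4 LD2_c32 LD3_c36) (LK LD1_c9 LD2_c2 LD3_c42) Lrfl Lrfl
theorem f561569 : Led Lsl_bt (LP (LK LD1_c9 LD2_c2 LD3_c42)) = (LP (LK LD1_c5 LD2_c54 LD3_c38)) :=
  Lgr Lrot119 (Lpe (f561568 IH) (Lpr_bf (f561561 IH) (Lpe (K6.f137393 IH) (Lpn (LP (LK LD1_c5 LD2_c54 LD3_c38))))))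
theorem f137349 : Led Lsl_dt (LP (LK LD1_c5 LD2_c54 LD3_c38)) = (LP (LK LD1_c2 LD2_c53 LD3_c41)) :=
  Lre_d IH (LK LD1_c5 LD2_c54 LD3_c38) (LK LD1_c2 LD2_c53 LD3_c41) Lrfl Lrfl
theorem f138578 : Led Lsl_bt (LP (LK LD1_c2 LD2_c53 LD3_c41)) = (LP (LK LD1_c5 LD2_c54 LD3_c33)) :=
  Lre_b IH (LK LD1_c2 LD2_c53 LD3_c41) (LK LD1_c5 LD2_c54 LD3_c33) Lrfl Lrfl
theorem f561574 : Led Lsl_df (LP (LK LD1_c9 LD2_c2 LD3_c42)) = (LP (LK LD1_c5 LD2_c54 LD3_c33)) :=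
  Lgr Lrot12 (Lpr_bt (f561569 IH) (Lpr_dt (f137349 IH) (Lpr_bt (f138578 IH) (Lpn (LP (LK LD1_c5 LD2_c54 LD3_c33))))))
theorem f561577 : Led Lsl_dt (LP (LK LD1_c9 LD2_c2 LD3_c42)) = (LP (LK LD1_c5 LD2_c54 LD3_c33)) :=
  Lgr Lrot42 (Lpr_df (f561574 IH) (Lpn (LP (LK LD1_c5 LD2_c54 LD3_c33))))
theorem f138531 : Led Lsl_et (LP (LK LD1_c2 LD2_c53 LD3_c39)) = (LP (LK LD1_c5 LD2_c54 LD3_c33)) :=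
  Lre_e IH (LK LD1_c2 LD2_c53 LD3_c39) (LK LD1_c5 LD2_c54 LD3_c33) Lrfl Lrfl
theorem f137296 : Led Lsl_et (LP (LK LD1_c9 LD2_c9 LD3_c29)) = (LP (LK LD1_c4 LD2_c36 LD3_c46)) :=
  Lre_e IH (LK LD1_c9 LD2_c9 LD3_c29) (LK LD1_c4 LD2_c36 LD3_c46) Lrfl Lrfl
theorem f138576 : Led Lsl_at (LP (LK LD1_c5 LD2_c54 LD3_c33)) = (LP (LK LD1_c9 LD2_c9 LD3_c29)) :=
  Lgr Lrot80 (Lpe (f138531 IH) (Lpr_af (K35.f138574 IH) (Lpe (f137296 IH) (Lpn (LP (LK LD1_c9 LD2_c9 LD3_c29))))))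
theorem f137290 : Led Lsl_et (LP (LK LD1_c4 LD2_c36 LD3_c46)) = (LP (LK LD1_c9 LD2_c9 LD3_c29)) :=
  Lre_e IH (LK LD1_c4 LD2_c36 LD3_c46) (LK LD1_c9 LD2_c9 LD3_c29) Lrfl Lrfl
theorem f411921 : Led Lsl_et (LP (LK LD1_c5 LD2_c41 LD3_c48)) = (LP (LK LD1_c2 LD2_c46 LD3_c55)) :=
  Lre_e IH (LK LD1_c5 LD2_c41 LD3_c48) (LK LD1_c2 LD2_c46 LD3_c55) Lrfl Lrfl
theorem f552059 : Led Lsl_dt (LP (LK LD1_c9 LD2_c9 LD3_c29)) = (LP (LK LD1_c5 LD2_c41 LD3_c48)) :=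
  Lgr Lrot77 (Lpe (f137290 IH) (Lpr_df (K8.f137297 IH) (Lpr_ef (K39.f552057 IH) (Lpr_df (K38.f549811 IH) (Lpe (f411921 IH) (Lpn (LP (LK LD1_c5 LD2_c41 LD3_c48))))))))
theorem f561579 : Led Lsl_af (LP (LK LD1_c9 LD2_c2 LD3_c42)) = (LP (LK LD1_c5 LD2_c41 LD3_c48)) :=
  Lgr Lrot117 (Lpr_dt (f561577 IH) (Lpr_at (f138576 IH) (Lpr_dt (f552059 IH) (Lpn (LP (LK LD1_c5 LD2_c41 LD3_c48))))))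
theorem f280565 : Led Lsl_et (LP (LK LD1_c9 LD2_c2 LD3_c42)) = (LP (LK LD1_c4 LD2_c32 LD3_c36)) :=
  Lre_e IH (LK LD1_c9 LD2_c2 LD3_c42) (LK LD1_c4 LD2_c32 LD3_c36) Lrfl Lrfl
theorem f549821 : Led Lsl_et (LP (LK LD1_c2 LD2_c46 LD3_c55)) = (LP (LK LD1_c5 LD2_c41 LD3_c48)) :=
  Lre_e IH (LK LD1_c2 LD2_c46 LD3_c55) (LK LD1_c5 LD2_c41 LD3_c48) Lrfl Lrfl
theorem f561587 : Led Lsl_at (LP (LK LD1_c4 LD2_c32 LD3_c36)) = (LP (LK LD1_c2 LD2_c46 LD3_c55)) :=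
  Lgr Lrot80 (Lpe (f280565 IH) (Lpr_af (f561579 IH) (Lpe (f549821 IH) (Lpn (LP (LK LD1_c2 LD2_c46 LD3_c55))))))
theorem f561592 : Led Lsl_ff (LP (LK LD1_c4 LD2_c32 LD3_c36)) = (LP (LK LD1_c2 LD2_c46 LD3_c56)) :=
  Lgr Lrot52 (Lpr_at (f561587 IH) (Lpe (K31.f174115 IH) (Lpe (K31.f174138 IH) (Lpn (LP (LK LD1_c2 LD2_c46 LD3_c56))))))
theorem f561594 : Led Lsl_dt (LP (LK LD1_c2 LD2_c46 LD3_c56)) = (LP (LK LD1_c3 LD2_c58 LD3_c54)) :=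
  Lgr Lrot159 (Lpe (f561592 IH) (Lpr_at (f561587 IH) (Lpe (K39.f174346 IH) (Lpe (K39.f181517 IH) (Lpe (K39.f423435 IH) (Lpe (K39.f281770 IH) (Lpe (K38.f549912 IH) (Lpe (K38.f255119 IH) (Lpe (K38.f255117 IH) (Lpn (LP (LK LD1_c3 LD2_c58 LD3_c54))))))))))))
theorem f174384 : Led Lsl_gt (LP (LK LD1_c2 LD2_c46 LD3_c57)) = (LP (LK LD1_c5 LD2_c41 LD3_c52)) :=
  Lre_g IH (LK LD1_c2 LD2_c46 LD3_c57) (LK LD1_c5 LD2_c41 LD3_c52) Lrfl Lrfl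
theorem f561605 : Led Lsl_ct (LP (LK LD1_c5 LD2_c41 LD3_c52)) = (LP (LK LD1_c6 LD2_c15 LD3_c24)) :=
  Lgr Lrot151 (Lpe (f174384 IH) (Lpe (K16.f174331 IH) (Lpe (K31.f174138 IH) (Lpr_dt (f561594 IH) (Lpr_gt (K38.f175988 IH) (Lpr_ct (K30.f169331 IH) (Lpe (K35.f541561 IH) (Lpr_ct (K2.f60872 IH) (Lpr_dt (K8.f60875 IH) (Lpn (LP (LK LD1_c6 LD2_c15 LD3_c24))))))))))))
theorem f280602 : Led Lsl_et (LP (LK LD1_c11 LD2_c13 LD3_c59)) = (LP (LK LD1_c5 LD2_c41 LD3_c52)) :=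
  Lre_e IH (LK LD1_c11 LD2_c13 LD3_c59) (LK LD1_c5 LD2_c41 LD3_c52) Lrfl Lrfl
theorem f561636 : Led Lsl_cf (LP (LK LD1_c11 LD2_c13 LD3_c59)) = (LP (LK LD1_c11 LD2_c30 LD3_c43)) :=
  Lgr Lrot39 (Lpr_et (f280602 IH) (Lpr_ct (f561605 IH) (Lpr_et (K2.f73863 IH) (Lpn (LP (LK LD1_c11 LD2_c30 LD3_c43))))))
theorem f561643 : Led Lsl_ct (LP (LK LD1_c11 LD2_c13 LD3_c59)) = (LP (LK LD1_c11 LD2_c30 LD3_c43)) :=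
  Lgr Lrot59 (Lpr_cf (f561636 IH) (Lpn (LP (LK LD1_c11 LD2_c30 LD3_c43))))
theorem f73851 : Led Lsl_ct (LP (LK LD1_c5 LD2_c51 LD3_c47)) = (LP (LK LD1_c11 LD2_c30 LD3_c52)) :=
  Lre_c IH (LK LD1_c5 LD2_c51 LD3_c47) (LK LD1_c11 LD2_c30 LD3_c52) Lrfl Lrfl
theorem f561646 : Led Lsl_af (LP (LK LD1_c11 LD2_c13 LD3_c59)) = (LP (LK LD1_c11 LD2_c30 LD3_c52)) :=
  Lgr Lrot68 (Lpr_ct (f561643 IH) (Lpr_at (K2.f73862 IH) (Lpr_ct (f73851 IH) (Lpn (LP (LK LD1_c11 LD2_c30 LD3_c52))))))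
theorem f561652 : Led Lsl_at (LP (LK LD1_c5 LD2_c41 LD3_c52)) = (LP (LK LD1_c6 LD2_c15 LD3_c33)) :=
  Lgr Lrot80 (Lpe (f280602 IH) (Lpr_af (f561646 IH) (Lpe (K17.f73869 IH) (Lpn (LP (LK LD1_c6 LD2_c15 LD3_c33))))))
theorem f268987 : Led Lsl_ff (LP (LK LD1_c2 LD2_c46 LD3_c57)) = (LP (LK LD1_c4 LD2_c32 LD3_c37)) :=
  Lgr Lrot3 (Lpr_ft (K16.f268976 IH) (Lpn (LP (LK LD1_c4 LD2_c32 LD3_c37))))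
theorem f174370 : Led Lsl_at (LP (LK LD1_c2 LD2_c46 LD3_c57)) = (LP (LK LD1_c5 LD2_c41 LD3_c33)) :=
  Lre_a IH (LK LD1_c2 LD2_c46 LD3_c57) (LK LD1_c5 LD2_c41 LD3_c33) Lrfl Lrfl
theorem f226702 : Led Lsl_gt (LP (LK LD1_c4 LD2_c32 LD3_c37)) = (LP (LK LD1_c9 LD2_c2 LD3_c43)) :=
  Lre_g IH (LK LD1_c4 LD2_c32 LD3_c37) (LK LD1_c9 LD2_c2 LD3_c43) Lrfl Lrfl
theorem f411867 : Led Lsl_gf (LP (LK LD1_c5 LD2_c41 LD3_c33)) = (LP (LK LD1_c9 LD2_c2 LD3_c43)) :=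
  Lgr Lrot76 (Lpe (f174370 IH) (Lpr_ff (f268987 IH) (Lpr_gt (f226702 IH) (Lpn (LP (LK LD1_c9 LD2_c2 LD3_c43))))))
theorem f561663 : Led Lsl_ff (LP (LK LD1_c5 LD2_c41 LD3_c52)) = (LP (LK LD1_c9 LD2_c2 LD3_c43)) :=
  Lgr Lrot52 (Lpr_at (f561652 IH) (Lpe (K39.f553747 IH) (Lpr_gf (f411867 IH) (Lpn (LP (LK LD1_c9 LD2_c2 LD3_c43))))))
theorem f561669 : Led Lsl_ft (LP (LK LD1_c5 LD2_c41 LD3_c52)) = (LP (LK LD1_c9 LD2_c2 LD3_c43)) :=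
  Lgr Lrot48 (Lpr_ff (f561663 IH) (Lpn (LP (LK LD1_c9 LD2_c2 LD3_c43))))
theorem f541666 : Led Lsl_ct (LP (LK LD1_c6 LD2_c15 LD3_c24)) = (LP (LK LD1_c5 LD2_c41 LD3_c52)) :=
  Lgr Lrot10 (Lpr_bt (K17.f73130 IH) (Lpr_gt (K35.f541663 IH) (Lpr_ct (K35.f381217 IH) (Lpr_gt (K35.f381215 IH) (Lpe (K27.f174137 IH) (Lpr_bt (K17.f174136 IH) (Lpr_gt (K9.f174128 IH) (Lpe (K39.f174119 IH) (Lpr_ct (K16.f174331 IH) (Lpr_gt (f174384 IH) (Lpn (LP (LK LD1_c5 LD2_c41 LD3_c52)))))))))))))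
theorem f181519 : Led Lsl_gt (LP (LK LD1_c4 LD2_c57 LD3_c18)) = (LP (LK LD1_c9 LD2_c45 LD3_c35)) :=
  Lre_g IH (LK LD1_c4 LD2_c57 LD3_c18) (LK LD1_c9 LD2_c45 LD3_c35) Lrfl Lrfl
theorem f411869 : Led Lsl_ct (LP (LK LD1_c9 LD2_c45 LD3_c35)) = (LP (LK LD1_c9 LD2_c2 LD3_c43)) :=
  Lgr Lrot152 (Lpe (f181519 IH) (Lpe (K31.f181501 IH) (Lpr_gt (K36.f172459 IH) (Lpr_ct (K36.f411805 IH) (Lpe (K30.f411800 IH) (Lpr_ct (K16.f269058 IH) (Lpe (K16.f269086 IH) (Lpe (K39.f269083 IH) (Lpr_gf (f411867 IH) (Lpn (LP (LK LD1_c9 LD2_c2 LD3_c43))))))))))))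
theorem f411877 : Led Lsl_cf (LP (LK LD1_c9 LD2_c45 LD3_c35)) = (LP (LK LD1_c9 LD2_c2 LD3_c43)) :=
  Lgr Lrot11 (Lpr_ct (f411869 IH) (Lpn (LP (LK LD1_c9 LD2_c2 LD3_c43))))
theorem f561675 : Led Lsl_ff (LP (LK LD1_c6 LD2_c15 LD3_c24)) = (LP (LK LD1_c9 LD2_c45 LD3_c35)) :=
  Lgr Lrot23 (Lpr_ct (f541666 IH) (Lpr_ft (f561669 IH) (Lpe (f411877 IH) (Lpn (LP (LK LD1_c9 LD2_c45 LD3_c35))))))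
theorem f60801 : Led Lsl_gt (LP (LK LD1_c6 LD2_c15 LD3_c32)) = (LP (LK LD1_c3 LD2_c4 LD3_c49)) :=
  Lre_g IH (LK LD1_c6 LD2_c15 LD3_c32) (LK LD1_c3 LD2_c4 LD3_c49) Lrfl Lrfl
theorem f561679 : Led Lsl_gf (LP (LK LD1_c6 LD2_c15 LD3_c32)) = (LP (LK LD1_c9 LD2_c45 LD3_c35)) :=
  Lgr Lrot47 (Lpr_gt (f60801 IH) (Lpe (K9.f73124 IH) (Lpr_ff (f561675 IH) (Lpn (LP (LK LD1_c9 LD2_c45 LD3_c35))))))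
theorem f60841 : Led Lsl_ft (LP (LK LD1_c3 LD2_c4 LD3_c46)) = (LP (LK LD1_c6 LD2_c15 LD3_c25)) :=
  Lre_f IH (LK LD1_c3 LD2_c4 LD3_c46) (LK LD1_c6 LD2_c15 LD3_c25) Lrfl Lrfl
theorem f561677 : Led Lsl_dt (LP (LK LD1_c6 LD2_c15 LD3_c25)) = (LP (LK LD1_c9 LD2_c45 LD3_c35)) :=
  Lgr Lrot60 (Lpe (f60841 IH) (Lpe (K2.f60877 IH) (Lpr_ff (f561675 IH) (Lpn (LP (LK LD1_c9 LD2_c45 LD3_c35))))))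
theorem f60837 : Led Lsl_gt (LP (LK LD1_c6 LD2_c15 LD3_c25)) = (LP (LK LD1_c3 LD2_c4 LD3_c48)) :=
  Lre_g IH (LK LD1_c6 LD2_c15 LD3_c25) (LK LD1_c3 LD2_c4 LD3_c48) Lrfl Lrfl
theorem f541712 : Led Lsl_ct (LP (LK LD1_c3 LD2_c4 LD3_c48)) = (LP (LK LD1_c6 LD2_c15 LD3_c30)) :=
  Lre_c IH (LK LD1_c3 LD2_c4 LD3_c48) (LK LD1_c6 LD2_c15 LD3_c30) Lrfl Lrfl
theorem f181506 : Led Lsl_dt (LP (LK LD1_c4 LD2_c57 LD3_c18)) = (LP (LK LD1_c2 LD2_c26 LD3_c33)) :=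
  Lre_d IH (LK LD1_c4 LD2_c57 LD3_c18) (LK LD1_c2 LD2_c26 LD3_c33) Lrfl Lrfl
theorem f60807 : Led Lsl_ct (LP (LK LD1_c6 LD2_c15 LD3_c30)) = (LP (LK LD1_c3 LD2_c4 LD3_c48)) :=
  Lre_c IH (LK LD1_c6 LD2_c15 LD3_c30) (LK LD1_c3 LD2_c4 LD3_c48) Lrfl Lrfl
theorem f556305 : Led Lsl_gf (LP (LK LD1_c6 LD2_c24 LD3_c32)) = (LP (LK LD1_c6 LD2_c15 LD3_c30)) :=
  Lgr Lrot144 (Lpr_dt (K38.f119080 IH) (Lpr_gt (K39.f556303 IH) (Lpr_dt (K39.f181511 IH) (Lpe (K31.f40184 IH) (Lpe (f181506 IH) (Lpe (K36.f541703 IH) (Lpe (K2.f60790 IH) (Lpe (K38.f60806 IH) (Lpe (f60807 IH) (Lpn (LP (LK LD1_c6 LD2_c15 LD3_c30))))))))))))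
theorem f561681 : Led Lsl_ct (LP (LK LD1_c6 LD2_c15 LD3_c32)) = (LP (LK LD1_c11 LD2_c13 LD3_c43)) :=
  Lgr Lrot152 (Lpr_gf (f561679 IH) (Lpe (f561677 IH) (Lpr_gt (f60837 IH) (Lpr_ct (f541712 IH) (Lpe (f556305 IH) (Lpr_ct (K38.f547753 IH) (Lpr_df (K38.f549811 IH) (Lpe (K39.f174346 IH) (Lpe (K39.f181514 IH) (Lpn (LP (LK LD1_c11 LD2_c13 LD3_c43))))))))))))
theorem f561683 : Led Lsl_df (LP (LK LD1_c6 LD2_c15 LD3_c25)) = (LP (LK LD1_c9 LD2_c45 LD3_c35)) :=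
  Lgr Lrot155 (Lpr_gt (f60837 IH) (Lpr_ct (f541712 IH) (Lpe (f556305 IH) (Lpr_ct (K38.f547753 IH) (Lpr_dt (K39.f549809 IH) (Lpe (K39.f174346 IH) (Lpe (K39.f181514 IH) (Lpe (f561681 IH) (Lpr_gf (f561679 IH) (Lpn (LP (LK LD1_c9 LD2_c45 LD3_c35))))))))))))
theorem f60835 : Led Lsl_gt (LP (LK LD1_c3 LD2_c4 LD3_c47)) = (LP (LK LD1_c6 LD2_c15 LD3_c25)) :=
  Lre_g IH (LK LD1_c3 LD2_c4 LD3_c47) (LK LD1_c6 LD2_c15 LD3_c25) Lrfl Lrfl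
theorem f55857 : Led Lsl_at (LP (LK LD1_c2 LD2_c0 LD3_c17)) = (LP (LK LD1_c4 LD2_c5 LD3_c47)) :=
  Lre_a IH (LK LD1_c2 LD2_c0 LD3_c17) (LK LD1_c4 LD2_c5 LD3_c47) Lrfl Lrfl
theorem f60809 : Led Lsl_at (LP (LK LD1_c6 LD2_c15 LD3_c25)) = (LP (LK LD1_c3 LD2_c4 LD3_c50)) :=
  Lre_a IH (LK LD1_c6 LD2_c15 LD3_c25) (LK LD1_c3 LD2_c4 LD3_c50) Lrfl Lrfl
theorem f60825 : Led Lsl_et (LP (LK LD1_c4 LD2_c5 LD3_c47)) = (LP (LK LD1_c6 LD2_c15 LD3_c25)) :=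
  Lgr Lrot123 (Lpe (f55857 IH) (Lpr_ef (K2.f60821 IH) (Lpe (f60809 IH) (Lpn (LP (LK LD1_c6 LD2_c15 LD3_c25))))))
theorem f557132 : Led Lsl_cf (LP (LK LD1_c4 LD2_c56 LD3_c34)) = (LP (LK LD1_c6 LD2_c15 LD3_c25)) :=
  Lgr Lrot39 (Lpr_et (K39.f557128 IH) (Lpr_ct (f46867 IH) (Lpr_et (f60825 IH) (Lpn (LP (LK LD1_c6 LD2_c15 LD3_c25))))))
theorem f181490 : Led Lsl_ct (LP (LK LD1_c9 LD2_c45 LD3_c33)) = (LP (LK LD1_c17 LD2_c55 LD3_c6)) :=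
  Lre_c IH (LK LD1_c9 LD2_c45 LD3_c33) (LK LD1_c17 LD2_c55 LD3_c6) Lrfl Lrfl
theorem f269071 : Led Lsl_ct (LP (LK LD1_c16 LD2_c52 LD3_c59)) = (LP (LK LD1_c9 LD2_c2 LD3_c36)) :=
  Lre_c IH (LK LD1_c16 LD2_c52 LD3_c59) (LK LD1_c9 LD2_c2 LD3_c36) Lrfl Lrfl
theorem f559754 : Led Lsl_gf (LP (LK LD1_c16 LD2_c52 LD3_c59)) = (LP (LK LD1_c17 LD2_c55 LD3_c6)) :=
  Lgr Lrot104 (Lpr_ct (f269071 IH) (Lpr_df (K39.f553773 IH) (Lpr_cf (f557132 IH) (Lpe (f60835 IH) (Lpe (f60808 IH) (Lpr_gf (f559750 IH) (Lpe (K38.f549817 IH) (Lpr_gt (K39.f556303 IH) (Lpr_ct (f181490 IH) (Lpn (LP (LK LD1_c17 LD2_c55 LD3_c6))))))))))))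
theorem f559756 : Led Lsl_df (LP (LK LD1_c4 LD2_c56 LD3_c34)) = (LP (LK LD1_c9 LD2_c2 LD3_c36)) :=
  Lgr Lrot162 (Lpr_cf (f557132 IH) (Lpe (f60835 IH) (Lpe (f60808 IH) (Lpr_gf (f559750 IH) (Lpr_dt (K38.f119080 IH) (Lpr_gt (K39.f556303 IH) (Lpr_ct (f181490 IH) (Lpe (f559754 IH) (Lpr_ct (f269071 IH) (Lpn (LP (LK LD1_c9 LD2_c2 LD3_c36))))))))))))
theorem f561687 : Led Lsl_cf (LP (LK LD1_c6 LD2_c15 LD3_c25)) = (LP (LK LD1_c4 LD2_c56 LD3_c34)) :=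
  Lgr Lrot14 (Lpr_df (f561683 IH) (Lpe (f181519 IH) (Lpe (K31.f181501 IH) (Lpe (f559559 IH) (Lpr_ct (K30.f281789 IH) (Lpr_gt (K30.f181300 IH) (Lpr_dt (K31.f181359 IH) (Lpr_gt (K39.f181374 IH) (Lpe (f559756 IH) (Lpn (LP (LK LD1_c4 LD2_c56 LD3_c34))))))))))))
theorem f117633 : Led Lsl_bt (LP (LK LD1_c3 LD2_c9 LD3_c56)) = (LP (LK LD1_c6 LD2_c24 LD3_c32)) :=
  Lre_b IH (LK LD1_c3 LD2_c9 LD3_c56) (LK LD1_c6 LD2_c24 LD3_c32) Lrfl Lrfl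
theorem f55943 : Led Lsl_bt (LP (LK LD1_c3 LD2_c0 LD3_c18)) = (LP (LK LD1_c1 LD2_c25 LD3_c60)) :=
  Lre_b IH (LK LD1_c3 LD2_c0 LD3_c18) (LK LD1_c1 LD2_c25 LD3_c60) Lrfl Lrfl
theorem f552527 : Led Lsl_gf K38.v1520 = (LP (LK LD1_c5 LD2_c37 LD3_c26)) :=
  Lgr Lrot181 (Lpe (K38.f496031 IH) (Lpr_gt (K38.f547751 IH) (Lpe (K38.f547315 IH) (Lpqs (K38.f547308 IH) (Lpe (K38.f495978 IH) (Lpe (K10.f175419 IH) (Lpe (f55943 IH) (Lpr_ct (K39.f496001 IH) (Lpqs (K39.f537918 IH) (Lpr_gt (K39.f552518 IH) (Lpe (K36.f165160 IH) (Lpr_bt (K38.f210372 IH) (Lpn (LP (LK LD1_c5 LD2_c37 LD3_c26)))))))))))))))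
theorem f182349 : Led Lsl_bt (LP (LK LD1_c1 LD2_c10 LD3_c13)) = (LP (LK LD1_c2 LD2_c26 LD3_c4)) :=
  Lre_b IH (LK LD1_c1 LD2_c10 LD3_c13) (LK LD1_c2 LD2_c26 LD3_c4) Lrfl Lrfl
theorem f168267 : Led Lsl_ct (LP (LK LD1_c4 LD2_c56 LD3_c58)) = (LP (LK LD1_c2 LD2_c26 LD3_c19)) :=
  Lre_c IH (LK LD1_c4 LD2_c56 LD3_c58) (LK LD1_c2 LD2_c26 LD3_c19) Lrfl Lrfl
theorem f419021 : Led Lsl_bf (LP (LK LD1_c4 LD2_c56 LD3_c34)) = (LP (LK LD1_c4 LD2_c56 LD3_c58)) :=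
  Lgr Lrot34 (Lpe (K39.f172682 IH) (Lpe (f182349 IH) (Lpr_ct (K13.f179872 IH) (Lpe (K11.f180287 IH) (Lpe (K11.f182326 IH) (Lpr_gf (K11.f211153 IH) (Lpe (K30.f168310 IH) (Lpr_ct (K38.f56555 IH) (Lpe (K38.f56551 IH) (Lpe (f168267 IH) (Lpn (LP (LK LD1_c4 LD2_c56 LD3_c58)))))))))))))
theorem f419023 : Led Lsl_bt (LP (LK LD1_c4 LD2_c56 LD3_c34)) = (LP (LK LD1_c4 LD2_c56 LD3_c58)) :=
  Lgr Lrot127 (Lpr_bf (f419021 IH) (Lpn (LP (LK LD1_c4 LD2_c56 LD3_c58))))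
theorem f561695 : Led Lsl_gf (LP (LK LD1_c5 LD2_c46 LD3_c29)) = (LP (LK LD1_c4 LD2_c56 LD3_c58)) :=
  Lgr Lrot124 (Lpr_bf (K39.f551837 IH) (Lpr_ct (K38.f210374 IH) (Lpe (f552527 IH) (Lpe (K38.f496034 IH) (Lpr_bt (f117633 IH) (Lpe (f559750 IH) (Lpr_ct (f60808 IH) (Lpr_gt (f60835 IH) (Lpr_cf (f561687 IH) (Lpr_bt (f419023 IH) (Lpn (LP (LK LD1_c4 LD2_c56 LD3_c58)))))))))))))
theorem f556090 : Led Lsl_bf (LP (LK LD1_c3 LD2_c0 LD3_c43)) = (LP (LK LD1_c2 LD2_c44 LD3_c35)) :=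
  Lgr Lrot93 (Lpr_dt (K39.f556086 IH) (Lpr_bt (K27.f172142 IH) (Lpe (K28.f383254 IH) (Lpn (LP (LK LD1_c2 LD2_c44 LD3_c35))))))
theorem f168263 : Led Lsl_ct (LP (LK LD1_c2 LD2_c26 LD3_c19)) = (LP (LK LD1_c4 LD2_c56 LD3_c58)) :=
  Lre_c IH (LK LD1_c2 LD2_c26 LD3_c19) (LK LD1_c4 LD2_c56 LD3_c58) Lrfl Lrfl
theorem f419026 : Led Lsl_bt (LP (LK LD1_c2 LD2_c26 LD3_c19)) = (LP (LK LD1_c4 LD2_c56 LD3_c57)) :=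
  Lre_b IH (LK LD1_c2 LD2_c26 LD3_c19) (LK LD1_c4 LD2_c56 LD3_c57) Lrfl Lrfl
theorem f561699 : Led Lsl_gt (LP (LK LD1_c3 LD2_c0 LD3_c43)) = (LP (LK LD1_c4 LD2_c56 LD3_c57)) :=
  Lgr Lrot164 (Lpr_bf (f556090 IH) (Lpr_ct (K28.f211954 IH) (Lpr_gf (K36.f542632 IH) (Lpr_cf (K2.f72947 IH) (Lpr_gf (K36.f541559 IH) (Lpr_bf (K39.f418928 IH) (Lpe (K39.f552525 IH) (Lpr_gf (f561695 IH) (Lpe (f168263 IH) (Lpr_bt (f419026 IH) (Lpn (LP (LK LD1_c4 LD2_c56 LD3_c57)))))))))))))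
theorem f561707 : Led Lsl_et (LP (LK LD1_c3 LD2_c0 LD3_c5)) = (LP (LK LD1_c4 LD2_c56 LD3_c57)) :=
  Lgr Lrot122 (Lpr_dt (f559472 IH) (Lpe (f559468 IH) (Lpe (K36.f539605 IH) (Lpr_et (K36.f539603 IH) (Lpr_gt (K36.f427519 IH) (Lpr_dt (K27.f381690 IH) (Lpr_gt (K37.f176455 IH) (Lpr_df (K39.f442633 IH) (Lpr_et (K39.f442632 IH) (Lpr_gt (f561699 IH) (Lpn (LP (LK LD1_c4 LD2_c56 LD3_c57)))))))))))))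
theorem f555929 : Led Lsl_ff (LP (LK LD1_c5 LD2_c43 LD3_c20)) = (LP (LK LD1_c5 LD2_c42 LD3_c30)) :=
  Lgr Lrot19 (Lpr_dt (K39.f381801 IH) (Lpe (K39.f542146 IH) (Lpqs (K39.f555923 IH) (Lpr_dt (K39.f172496 IH) (Lpn (LP (LK LD1_c5 LD2_c42 LD3_c30)))))))
theorem f450578 : Led Lsl_af (LP (LK LD1_c5 LD2_c41 LD3_c1)) = (LP (LK LD1_c9 LD2_c1 LD3_c39)) :=
  Lgr Lrot0 (Lpr_at (K39.f450576 IH) (Lpn (LP (LK LD1_c9 LD2_c1 LD3_c39))))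
theorem f450580 : Led Lsl_at (LP (LK LD1_c2 LD2_c46 LD3_c32)) = (LP (LK LD1_c4 LD2_c31 LD3_c55)) :=
  Lgr Lrot80 (Lpe (K32.f60182 IH) (Lpr_af (f450578 IH) (Lpe (K35.f27017 IH) (Lpn (LP (LK LD1_c4 LD2_c31 LD3_c55))))))
theorem f60216 : Led Lsl_bt (LP (LK LD1_c5 LD2_c41 LD3_c0)) = (LP (LK LD1_c2 LD2_c46 LD3_c32)) :=
  Lre_b IH (LK LD1_c5 LD2_c41 LD3_c0) (LK LD1_c2 LD2_c46 LD3_c32) Lrfl Lrfl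
theorem f424018 : Led Lsl_bf (LP (LK LD1_c5 LD2_c43 LD3_c20)) = (LP (LK LD1_c4 LD2_c32 LD3_c11)) :=
  Lgr Lrot24 (Lpr_bt (K39.f424014 IH) (Lpn (LP (LK LD1_c4 LD2_c32 LD3_c11))))
theorem f549421 : Led Lsl_af (LP (LK LD1_c5 LD2_c41 LD3_c0)) = (LP (LK LD1_c5 LD2_c43 LD3_c20)) :=
  Lgr Lrot36 (Lpr_bt (f60216 IH) (Lpr_at (f450580 IH) (Lpr_bt (K39.f549418 IH) (Lpr_at (K39.f549261 IH) (Lpe (f424018 IH) (Lpn (LP (LK LD1_c5 LD2_c43 LD3_c20))))))))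
theorem f558410 : Led Lsl_gt (LP (LK LD1_c6 LD2_c8 LD3_c52)) = (LP (LK LD1_c5 LD2_c41 LD3_c0)) :=
  Lgr Lrot46 (Lpr_gf (f558406 IH) (Lpe (f555929 IH) (Lpe (f549421 IH) (Lpn (LP (LK LD1_c5 LD2_c41 LD3_c0))))))
theorem f561718 : Led Lsl_gf (LP (LK LD1_c3 LD2_c0 LD3_c44)) = (LP (LK LD1_c4 LD2_c56 LD3_c57)) :=
  Lgr Lrot138 (Lpr_dt (f80293 IH) (Lpr_gt (f558410 IH) (Lpe (K39.f549438 IH) (Lpqs (K39.f549439 IH) (Lpe (K39.f500623 IH) (Lpr_gt (K28.f137614 IH) (Lpe (K32.f161310 IH) (Lpr_dt (K24.f161311 IH) (Lpr_gt (f386690 IH) (Lpe (f559472 IH) (Lpr_et (f561707 IH) (Lpn (LP (LK LD1_c4 LD2_c56 LD3_c57))))))))))))))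
theorem f556138 : Led Lsl_ct (LP (LK LD1_c3 LD2_c0 LD3_c44)) = (LP (LK LD1_c3 LD2_c0 LD3_c8)) :=
  Lgr Lrot10 (Lpr_bt (f553532 IH) (Lpr_gt (K39.f556134 IH) (Lpr_ct (K39.f289412 IH) (Lpr_gt (K38.f289411 IH) (Lpr_cf (K31.f177843 IH) (Lpr_bt (K31.f165163 IH) (Lpr_gt (K9.f164710 IH) (Lpe (K17.f165074 IH) (Lpe (K18.f289399 IH) (Lpe (K32.f427515 IH) (Lpn (LP (LK LD1_c3 LD2_c0 LD3_c8)))))))))))))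
theorem f381128 : Led Lsl_gt (LP (LK LD1_c5 LD2_c43 LD3_c22)) = (LP (LK LD1_c2 LD2_c47 LD3_c43)) :=
  Lre_g IH (LK LD1_c5 LD2_c43 LD3_c22) (LK LD1_c2 LD2_c47 LD3_c43) Lrfl Lrfl
theorem f561720 : Led Lsl_dt (LP (LK LD1_c5 LD2_c43 LD3_c22)) = (LP (LK LD1_c4 LD2_c56 LD3_c57)) :=
  Lgr Lrot6 (Lpr_gt (f381128 IH) (Lpr_ct (K39.f381396 IH) (Lpr_gt (K39.f382140 IH) (Lpr_ct (K27.f381365 IH) (Lpr_df (K36.f381366 IH) (Lpe (K38.f211941 IH) (Lpe (K36.f427663 IH) (Lpe (f556138 IH) (Lpr_gf (f561718 IH) (Lpn (LP (LK LD1_c4 LD2_c56 LD3_c57))))))))))))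
theorem f561716 : Led Lsl_ff (LP (LK LD1_c3 LD2_c0 LD3_c29)) = (LP (LK LD1_c4 LD2_c56 LD3_c57)) :=
  Lgr Lrot72 (Lpr_et (K36.f72954 IH) (Lpr_ft (K2.f72862 IH) (Lpr_et (K36.f56286 IH) (Lpr_ft (K36.f55958 IH) (Lpr_et (f561707 IH) (Lpn (LP (LK LD1_c4 LD2_c56 LD3_c57))))))))
theorem f561728 : Led Lsl_ff (LP (LK LD1_c5 LD2_c43 LD3_c22)) = (LP (LK LD1_c5 LD2_c42 LD3_c50)) :=
  Lgr Lrot19 (Lpr_dt (f561720 IH) (Lpe (f561716 IH) (Lpe (K36.f542622 IH) (Lpn (LP (LK LD1_c5 LD2_c42 LD3_c50))))))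
theorem f561734 : Led Lsl_at (LP (LK LD1_c5 LD2_c43 LD3_c22)) = (LP (LK LD1_c5 LD2_c42 LD3_c21)) :=
  Lgr Lrot26 (Lpr_ff (f561728 IH) (Lpe (K36.f423986 IH) (Lpe (K36.f541726 IH) (Lpn (LP (LK LD1_c5 LD2_c42 LD3_c21))))))
theorem f68811 : Led Lsl_bt (LP (LK LD1_c2 LD2_c47 LD3_c8)) = (LP (LK LD1_c5 LD2_c42 LD3_c21)) :=
  Lre_b IH (LK LD1_c2 LD2_c47 LD3_c8) (LK LD1_c5 LD2_c42 LD3_c21) Lrfl Lrfl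
theorem f26964 : Led Lsl_bt (LP (LK LD1_c3 LD2_c0 LD3_c45)) = (LP (LK LD1_c1 LD2_c26 LD3_c16)) :=
  Lre_b IH (LK LD1_c3 LD2_c0 LD3_c45) (LK LD1_c1 LD2_c26 LD3_c16) Lrfl Lrfl
theorem f68812 : Led Lsl_ft (LP (LK LD1_c5 LD2_c42 LD3_c21)) = (LP (LK LD1_c3 LD2_c0 LD3_c45)) :=
  Lgr Lrot75 (Lpe (f68811 IH) (Lpr_ff (K36.f68807 IH) (Lpe (f26964 IH) (Lpn (LP (LK LD1_c3 LD2_c0 LD3_c45))))))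
theorem f561742 : Led Lsl_af (LP (LK LD1_c5 LD2_c42 LD3_c50)) = (LP (LK LD1_c3 LD2_c0 LD3_c45)) :=
  Lgr Lrot45 (Lpe (f561728 IH) (Lpr_at (f561734 IH) (Lpr_ft (f68812 IH) (Lpn (LP (LK LD1_c3 LD2_c0 LD3_c45))))))
theorem f68914 : Led Lsl_ct (LP (LK LD1_c6 LD2_c8 LD3_c53)) = (LP (LK LD1_c3 LD2_c0 LD3_c45)) :=
  Lre_c IH (LK LD1_c6 LD2_c8 LD3_c53) (LK LD1_c3 LD2_c0 LD3_c45) Lrfl Lrfl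
theorem f561744 : Led Lsl_at (LP (LK LD1_c9 LD2_c45 LD3_c24)) = (LP (LK LD1_c6 LD2_c8 LD3_c53)) :=
  Lgr Lrot107 (Lpr_cf (K36.f381408 IH) (Lpr_af (f561742 IH) (Lpe (f68914 IH) (Lpn (LP (LK LD1_c6 LD2_c8 LD3_c53))))))
theorem f561751 : Led Lsl_et (LP (LK LD1_c6 LD2_c8 LD3_c53)) = (LP (LK LD1_c9 LD2_c17 LD3_c16)) :=
  Lre_e IH (LK LD1_c6 LD2_c8 LD3_c53) (LK LD1_c9 LD2_c17 LD3_c16) Lrfl Lrfl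
theorem f561752 : Led Lsl_at (LP (LK LD1_c9 LD2_c17 LD3_c16)) = (LP (LK LD1_c17 LD2_c12 LD3_c12)) :=
  Lre_a IH (LK LD1_c9 LD2_c17 LD3_c16) (LK LD1_c17 LD2_c12 LD3_c12) Lrfl Lrfl
theorem f561753 : Led Lsl_ef (LP (LK LD1_c9 LD2_c45 LD3_c24)) = (LP (LK LD1_c17 LD2_c12 LD3_c12)) :=
  Lgr Lrot20 (Lpr_at (f561744 IH) (Lpr_et (f561751 IH) (Lpr_at (f561752 IH) (Lpn (LP (LK LD1_c17 LD2_c12 LD3_c12))))))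
theorem f561772 : Led Lsl_et (LP (LK LD1_c9 LD2_c45 LD3_c24)) = (LP (LK LD1_c17 LD2_c12 LD3_c12)) :=
  Lgr Lrot87 (Lpr_ef (f561753 IH) (Lpn (LP (LK LD1_c17 LD2_c12 LD3_c12))))
theorem f75926 : Led Lsl_ct (LP (LK LD1_c17 LD2_c12 LD3_c12)) = (LP (LK LD1_c9 LD2_c17 LD3_c6)) :=
  Lre_c IH (LK LD1_c17 LD2_c12 LD3_c12) (LK LD1_c9 LD2_c17 LD3_c6) Lrfl Lrfl
theorem f561778 : Led Lsl_ef (LP (LK LD1_c5 LD2_c42 LD3_c50)) = (LP (LK LD1_c9 LD2_c17 LD3_c6)) :=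
  Lgr Lrot28 (Lpe (K36.f381408 IH) (Lpr_et (f561772 IH) (Lpr_ct (f75926 IH) (Lpn (LP (LK LD1_c9 LD2_c17 LD3_c6))))))
theorem f549522 : Led Lsl_et (LP (LK LD1_c2 LD2_c47 LD3_c24)) = (LP (LK LD1_c5 LD2_c42 LD3_c52)) :=
  Lre_e IH (LK LD1_c2 LD2_c47 LD3_c24) (LK LD1_c5 LD2_c42 LD3_c52) Lrfl Lrfl
theorem f561780 : Led Lsl_bt (LP (LK LD1_c5 LD2_c42 LD3_c52)) = (LP (LK LD1_c9 LD2_c17 LD3_c6)) :=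
  Lgr Lrot119 (Lpe (f549522 IH) (Lpe (K36.f172747 IH) (Lpr_ef (f561778 IH) (Lpn (LP (LK LD1_c9 LD2_c17 LD3_c6))))))
theorem f561790 : Led Lsl_ft (LP (LK LD1_c11 LD2_c15 LD3_c58)) = (LP (LK LD1_c5 LD2_c42 LD3_c52)) :=
  Lre_f IH (LK LD1_c11 LD2_c15 LD3_c58) (LK LD1_c5 LD2_c42 LD3_c52) Lrfl Lrfl
theorem f561791 : Led Lsl_ft (LP (LK LD1_c9 LD2_c17 LD3_c6)) = (LP (LK LD1_c17 LD2_c12 LD3_c13)) :=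
  Lre_f IH (LK LD1_c9 LD2_c17 LD3_c6) (LK LD1_c17 LD2_c12 LD3_c13) Lrfl Lrfl
theorem f561792 : Led Lsl_bf (LP (LK LD1_c11 LD2_c15 LD3_c58)) = (LP (LK LD1_c17 LD2_c12 LD3_c13)) :=
  Lgr Lrot61 (Lpr_ft (f561790 IH) (Lpr_bt (f561780 IH) (Lpr_ft (f561791 IH) (Lpn (LP (LK LD1_c17 LD2_c12 LD3_c13))))))
theorem f76185 : Led Lsl_bt (LP (LK LD1_c6 LD2_c11 LD3_c52)) = (LP (LK LD1_c9 LD2_c17 LD3_c7)) :=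
  Lre_b IH (LK LD1_c6 LD2_c11 LD3_c52) (LK LD1_c9 LD2_c17 LD3_c7) Lrfl Lrfl
theorem f561805 : Led Lsl_dt (LP (LK LD1_c11 LD2_c15 LD3_c58)) = (LP (LK LD1_c6 LD2_c11 LD3_c52)) :=
  Lgr Lrot79 (Lpr_bf (f561792 IH) (Lpe (K2.f74598 IH) (Lpe (f76185 IH) (Lpn (LP (LK LD1_c6 LD2_c11 LD3_c52))))))
theorem f561810 : Led Lsl_df (LP (LK LD1_c11 LD2_c15 LD3_c58)) = (LP (LK LD1_c6 LD2_c11 LD3_c52)) :=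
  Lgr Lrot38 (Lpr_dt (f561805 IH) (Lpn (LP (LK LD1_c6 LD2_c11 LD3_c52))))
theorem f100275 : Led Lsl_et (LP (LK LD1_c2 LD2_c16 LD3_c14)) = (LP (LK LD1_c1 LD2_c36 LD3_c41)) :=
  Lre_e IH (LK LD1_c2 LD2_c16 LD3_c14) (LK LD1_c1 LD2_c36 LD3_c41) Lrfl Lrfl
theorem f100274 : Led Lsl_gt (LP (LK LD1_c3 LD2_c20 LD3_c30)) = (LP (LK LD1_c1 LD2_c36 LD3_c41)) :=
  Lre_g IH (LK LD1_c3 LD2_c20 LD3_c30) (LK LD1_c1 LD2_c36 LD3_c41) Lrfl Lrfl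
theorem f100256 : Led Lsl_et (LP (LK LD1_c6 LD2_c44 LD3_c46)) = (LP (LK LD1_c3 LD2_c20 LD3_c30)) :=
  Lre_e IH (LK LD1_c6 LD2_c44 LD3_c46) (LK LD1_c3 LD2_c20 LD3_c30) Lrfl Lrfl
theorem f73016 : Led Lsl_et (LP (LK LD1_c1 LD2_c27 LD3_c14)) = (LP (LK LD1_c0 LD2_c40 LD3_c23)) :=
  Lre_e IH (LK LD1_c1 LD2_c27 LD3_c14) (LK LD1_c0 LD2_c40 LD3_c23) Lrfl Lrfl
theorem f73052 : Led Lsl_dt (LP (LK LD1_c1 LD2_c27 LD3_c14)) = (LP (LK LD1_c3 LD2_c2 LD3_c32)) :=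
  Lre_d IH (LK LD1_c1 LD2_c27 LD3_c14) (LK LD1_c3 LD2_c2 LD3_c32) Lrfl Lrfl
theorem f73044 : Led Lsl_gt (LP (LK LD1_c6 LD2_c11 LD3_c60)) = (LP (LK LD1_c3 LD2_c2 LD3_c32)) :=
  Lre_g IH (LK LD1_c6 LD2_c11 LD3_c60) (LK LD1_c3 LD2_c2 LD3_c32) Lrfl Lrfl
theorem f100254 : Led Lsl_et (LP (LK LD1_c0 LD2_c44 LD3_c46)) = (LP (LK LD1_c1 LD2_c36 LD3_c37)) :=
  Lre_e IH (LK LD1_c0 LD2_c44 LD3_c46) (LK LD1_c1 LD2_c36 LD3_c37) Lrfl Lrfl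
theorem f100255 : Led Lsl_gt (LP (LK LD1_c1 LD2_c36 LD3_c37)) = (LP (LK LD1_c3 LD2_c20 LD3_c30)) :=
  Lre_g IH (LK LD1_c1 LD2_c36 LD3_c37) (LK LD1_c3 LD2_c20 LD3_c30) Lrfl Lrfl
theorem f100257 : Led Lsl_df (LP (LK LD1_c6 LD2_c11 LD3_c60)) = (LP (LK LD1_c6 LD2_c44 LD3_c46)) :=
  Lgr Lrot170 (Lpr_gt (f73044 IH) (Lpe (f73052 IH) (Lpr_et (f73016 IH) (Lpr_gt (K4.f99655 IH) (Lpr_dt (K5.f99946 IH) (Lpr_gt (K4.f80111 IH) (Lpe (K6.f40640 IH) (Lpr_et (f100254 IH) (Lpr_gt (f100255 IH) (Lpe (f100256 IH) (Lpn (LP (LK LD1_c6 LD2_c44 LD3_c46)))))))))))))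
theorem f561820 : Led Lsl_gt (LP (LK LD1_c11 LD2_c15 LD3_c58)) = (LP (LK LD1_c6 LD2_c11 LD3_c60)) :=
  Lgr Lrot139 (Lpr_df (f561810 IH) (Lpe (K36.f100204 IH) (Lpe (K36.f73032 IH) (Lpe (K36.f116902 IH) (Lpe (K36.f100277 IH) (Lpe (K36.f100276 IH) (Lpr_et (f100275 IH) (Lpe (f100274 IH) (Lpe (f100256 IH) (Lpe (f100257 IH) (Lpn (LP (LK LD1_c6 LD2_c11 LD3_c60)))))))))))))
theorem f561822 : Led Lsl_at (LP (LK LD1_c5 LD2_c42 LD3_c52)) = (LP (LK LD1_c3 LD2_c2 LD3_c32)) :=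
  Lgr Lrot26 (Lpe (f561790 IH) (Lpr_gt (f561820 IH) (Lpr_gt (f73044 IH) (Lpn (LP (LK LD1_c3 LD2_c2 LD3_c32))))))
theorem f73017 : Led Lsl_dt (LP (LK LD1_c3 LD2_c2 LD3_c32)) = (LP (LK LD1_c1 LD2_c27 LD3_c14)) :=
  Lre_d IH (LK LD1_c3 LD2_c2 LD3_c32) (LK LD1_c1 LD2_c27 LD3_c14) Lrfl Lrfl
theorem f73018 : Led Lsl_et (LP (LK LD1_c2 LD2_c49 LD3_c9)) = (LP (LK LD1_c3 LD2_c2 LD3_c32)) :=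
  Lgr Lrot71 (Lpe (K37.f73015 IH) (Lpe (K38.f73014 IH) (Lpr_df (K4.f73004 IH) (Lpe (f73016 IH) (Lpe (f73017 IH) (Lpn (LP (LK LD1_c3 LD2_c2 LD3_c32))))))))
theorem f73040 : Led Lsl_ef (LP (LK LD1_c2 LD2_c49 LD3_c9)) = (LP (LK LD1_c3 LD2_c2 LD3_c32)) :=
  Lgr Lrot88 (Lpr_et (f73018 IH) (Lpn (LP (LK LD1_c3 LD2_c2 LD3_c32))))
theorem f561826 : Led Lsl_af (LP (LK LD1_c2 LD2_c47 LD3_c24)) = (LP (LK LD1_c2 LD2_c49 LD3_c9)) :=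
  Lgr Lrot50 (Lpr_et (f549522 IH) (Lpr_at (f561822 IH) (Lpe (f73040 IH) (Lpn (LP (LK LD1_c2 LD2_c49 LD3_c9))))))
theorem f561830 : Led Lsl_ft (LP (LK LD1_c2 LD2_c47 LD3_c23)) = (LP (LK LD1_c2 LD2_c49 LD3_c9)) :=
  Lgr Lrot2 (Lpr_gt (K36.f280302 IH) (Lpe (K38.f281966 IH) (Lpr_af (f561826 IH) (Lpn (LP (LK LD1_c2 LD2_c49 LD3_c9))))))
theorem f280313 : Led Lsl_et (LP (LK LD1_c5 LD2_c42 LD3_c49)) = (LP (LK LD1_c2 LD2_c47 LD3_c23)) :=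
  Lre_e IH (LK LD1_c5 LD2_c42 LD3_c49) (LK LD1_c2 LD2_c47 LD3_c23) Lrfl Lrfl
theorem f561836 : Led Lsl_ft (LP (LK LD1_c11 LD2_c15 LD3_c54)) = (LP (LK LD1_c5 LD2_c42 LD3_c49)) :=
  Lre_f IH (LK LD1_c11 LD2_c15 LD3_c54) (LK LD1_c5 LD2_c42 LD3_c49) Lrfl Lrfl
theorem f73042 : Led Lsl_ft (LP (LK LD1_c3 LD2_c2 LD3_c32)) = (LP (LK LD1_c6 LD2_c12 LD3_c0)) :=
  Lre_f IH (LK LD1_c3 LD2_c2 LD3_c32) (LK LD1_c6 LD2_c12 LD3_c0) Lrfl Lrfl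
theorem f561837 : Led Lsl_ef (LP (LK LD1_c11 LD2_c15 LD3_c54)) = (LP (LK LD1_c6 LD2_c12 LD3_c0)) :=
  Lgr Lrot21 (Lpr_ft (f561836 IH) (Lpr_et (f280313 IH) (Lpr_ft (f561830 IH) (Lpr_et (f73018 IH) (Lpr_ft (f73042 IH) (Lpn (LP (LK LD1_c6 LD2_c12 LD3_c0))))))))
theorem f561844 : Led Lsl_et (LP (LK LD1_c11 LD2_c15 LD3_c54)) = (LP (LK LD1_c6 LD2_c12 LD3_c0)) :=
  Lgr Lrot87 (Lpr_ef (f561837 IH) (Lpn (LP (LK LD1_c6 LD2_c12 LD3_c0))))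
theorem f61453 : Led Lsl_dt (LP (LK LD1_c6 LD2_c12 LD3_c0)) = (LP (LK LD1_c3 LD2_c2 LD3_c33)) :=
  Lre_d IH (LK LD1_c6 LD2_c12 LD3_c0) (LK LD1_c3 LD2_c2 LD3_c33) Lrfl Lrfl
theorem f80019 : Led Lsl_et (LP (LK LD1_c3 LD2_c2 LD3_c33)) = (LP (LK LD1_c4 LD2_c40 LD3_c2)) :=
  Lre_e IH (LK LD1_c3 LD2_c2 LD3_c33) (LK LD1_c4 LD2_c40 LD3_c2) Lrfl Lrfl
theorem f79995 : Led Lsl_dt (LP (LK LD1_c4 LD2_c40 LD3_c2)) = (LP (LK LD1_c9 LD2_c15 LD3_c13)) :=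
  Lre_d IH (LK LD1_c4 LD2_c40 LD3_c2) (LK LD1_c9 LD2_c15 LD3_c13) Lrfl Lrfl
theorem f547886 : Led Lsl_et (LP (LK LD1_c9 LD2_c7 LD3_c43)) = (LP (LK LD1_c4 LD2_c35 LD3_c37)) :=
  Lre_e IH (LK LD1_c9 LD2_c7 LD3_c43) (LK LD1_c4 LD2_c35 LD3_c37) Lrfl Lrfl
theorem f547887 : Led Lsl_ft (LP (LK LD1_c16 LD2_c59 LD3_c56)) = (LP (LK LD1_c9 LD2_c7 LD3_c43)) :=
  Lre_f IH (LK LD1_c16 LD2_c59 LD3_c56) (LK LD1_c9 LD2_c7 LD3_c43) Lrfl Lrfl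
theorem f547888 : Led Lsl_et (LP (LK LD1_c2 LD2_c16 LD3_c56)) = (LP (LK LD1_c4 LD2_c39 LD3_c50)) :=
  Lre_e IH (LK LD1_c2 LD2_c16 LD3_c56) (LK LD1_c4 LD2_c39 LD3_c50) Lrfl Lrfl
theorem f547889 : Led Lsl_ft (LP (LK LD1_c4 LD2_c39 LD3_c50)) = (LP (LK LD1_c9 LD2_c15 LD3_c13)) :=
  Lre_f IH (LK LD1_c4 LD2_c39 LD3_c50) (LK LD1_c9 LD2_c15 LD3_c13) Lrfl Lrfl
theorem f547890 : Led Lsl_ef (LP (LK LD1_c16 LD2_c59 LD3_c56)) = (LP (LK LD1_c9 LD2_c15 LD3_c13)) :=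
  Lgr Lrot21 (Lpr_ft (f547887 IH) (Lpr_et (f547886 IH) (Lpr_ft (K36.f547831 IH) (Lpr_et (f547888 IH) (Lpr_ft (f547889 IH) (Lpn (LP (LK LD1_c9 LD2_c15 LD3_c13))))))))
theorem f561851 : Led Lsl_df (LP (LK LD1_c11 LD2_c15 LD3_c54)) = (LP (LK LD1_c16 LD2_c59 LD3_c56)) :=
  Lgr Lrot70 (Lpr_et (f561844 IH) (Lpr_dt (f61453 IH) (Lpr_et (f80019 IH) (Lpr_dt (f79995 IH) (Lpe (f547890 IH) (Lpn (LP (LK LD1_c16 LD2_c59 LD3_c56))))))))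
theorem f561857 : Led Lsl_dt (LP (LK LD1_c11 LD2_c15 LD3_c54)) = (LP (LK LD1_c16 LD2_c59 LD3_c56)) :=
  Lgr Lrot42 (Lpr_df (f561851 IH) (Lpn (LP (LK LD1_c16 LD2_c59 LD3_c56))))
theorem f22919 : Led Lsl_bt (LP (LK LD1_c6 LD2_c12 LD3_c0)) = (LP (LK LD1_c3 LD2_c2 LD3_c42)) :=
  Lre_b IH (LK LD1_c6 LD2_c12 LD3_c0) (LK LD1_c3 LD2_c2 LD3_c42) Lrfl Lrfl
theorem f23163 : Led Lsl_et (LP (LK LD1_c3 LD2_c2 LD3_c42)) = (LP (LK LD1_c6 LD2_c12 LD3_c17)) :=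
  Lre_e IH (LK LD1_c3 LD2_c2 LD3_c42) (LK LD1_c6 LD2_c12 LD3_c17) Lrfl Lrfl
theorem f561846 : Led Lsl_bf (LP (LK LD1_c11 LD2_c15 LD3_c54)) = (LP (LK LD1_c6 LD2_c12 LD3_c17)) :=
  Lgr Lrot96 (Lpr_et (f561844 IH) (Lpr_bt (f22919 IH) (Lpr_et (f23163 IH) (Lpn (LP (LK LD1_c6 LD2_c12 LD3_c17))))))
theorem f23054 : Led Lsl_dt (LP (LK LD1_c9 LD2_c15 LD3_c19)) = (LP (LK LD1_c6 LD2_c12 LD3_c17)) :=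
  Lre_d IH (LK LD1_c9 LD2_c15 LD3_c19) (LK LD1_c6 LD2_c12 LD3_c17) Lrfl Lrfl
theorem f561873 : Led Lsl_bf (LP (LK LD1_c9 LD2_c15 LD3_c19)) = (LP (LK LD1_c16 LD2_c59 LD3_c56)) :=
  Lgr Lrot93 (Lpr_dt (f23054 IH) (Lpe (f561846 IH) (Lpr_dt (f561857 IH) (Lpn (LP (LK LD1_c16 LD2_c59 LD3_c56))))))
theorem f561859 : Led Lsl_ft (LP (LK LD1_c9 LD2_c7 LD3_c43)) = (LP (LK LD1_c16 LD2_c59 LD3_c56)) :=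
  Lre_f IH (LK LD1_c9 LD2_c7 LD3_c43) (LK LD1_c16 LD2_c59 LD3_c56) Lrfl Lrfl
theorem f561878 : Led Lsl_bt (LP (LK LD1_c4 LD2_c39 LD3_c55)) = (LP (LK LD1_c9 LD2_c7 LD3_c43)) :=
  Lgr Lrot35 (Lpe (K1.f59941 IH) (Lpr_bf (f561873 IH) (Lpe (f561859 IH) (Lpn (LP (LK LD1_c9 LD2_c7 LD3_c43))))))
theorem f59939 : Led Lsl_df (LP (LK LD1_c4 LD2_c39 LD3_c55)) = (LP (LK LD1_c5 LD2_c46 LD3_c60)) :=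
  Lgr Lrot38 (Lpr_dt (K1.f59933 IH) (Lpn (LP (LK LD1_c5 LD2_c46 LD3_c60))))
theorem f60268 : Led Lsl_ef (LP (LK LD1_c2 LD2_c16 LD3_c57)) = (LP (LK LD1_c2 LD2_c49 LD3_c10)) :=
  Lgr Lrot28 (Lpe (K28.f56222 IH) (Lpr_et (K1.f60259 IH) (Lpr_ct (K39.f60132 IH) (Lpn (LP (LK LD1_c2 LD2_c49 LD3_c10))))))
theorem f547830 : Led Lsl_et (LP (LK LD1_c4 LD2_c35 LD3_c37)) = (LP (LK LD1_c9 LD2_c7 LD3_c43)) :=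
  Lre_e IH (LK LD1_c4 LD2_c35 LD3_c37) (LK LD1_c9 LD2_c7 LD3_c43) Lrfl Lrfl
theorem f552605 : Led Lsl_dt (LP (LK LD1_c9 LD2_c7 LD3_c43)) = (LP (LK LD1_c5 LD2_c42 LD3_c49)) :=
  Lgr Lrot77 (Lpe (f547830 IH) (Lpr_df (K36.f547821 IH) (Lpr_ef (f60268 IH) (Lpr_df (K39.f552594 IH) (Lpe (f280313 IH) (Lpn (LP (LK LD1_c5 LD2_c42 LD3_c49))))))))
theorem f561884 : Led Lsl_bf (LP (LK LD1_c5 LD2_c46 LD3_c60)) = (LP (LK LD1_c5 LD2_c42 LD3_c49)) :=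
  Lgr Lrot93 (Lpe (f59939 IH) (Lpr_bt (f561878 IH) (Lpr_dt (f552605 IH) (Lpn (LP (LK LD1_c5 LD2_c42 LD3_c49))))))
theorem f59949 : Led Lsl_bt (LP (LK LD1_c11 LD2_c24 LD3_c8)) = (LP (LK LD1_c20 LD2_c21 LD3_c59)) :=
  Lre_b IH (LK LD1_c11 LD2_c24 LD3_c8) (LK LD1_c20 LD2_c21 LD3_c59) Lrfl Lrfl
theorem f552624 : Led Lsl_ct (LP (LK LD1_c11 LD2_c15 LD3_c52)) = (LP (LK LD1_c5 LD2_c42 LD3_c49)) :=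
  Lre_c IH (LK LD1_c11 LD2_c15 LD3_c52) (LK LD1_c5 LD2_c42 LD3_c49) Lrfl Lrfl
theorem f561888 : Led Lsl_bt (LP (LK LD1_c20 LD2_c11 LD3_c28)) = (LP (LK LD1_c11 LD2_c15 LD3_c52)) :=
  Lre_b IH (LK LD1_c20 LD2_c11 LD3_c28) (LK LD1_c11 LD2_c15 LD3_c52) Lrfl Lrfl
theorem f561889 : Led Lsl_ct (LP (LK LD1_c20 LD2_c21 LD3_c59)) = (LP (LK LD1_c20 LD2_c11 LD3_c28)) :=
  Lgr Lrot83 (Lpe (f59949 IH) (Lpe (K1.f59936 IH) (Lpr_bf (f561884 IH) (Lpe (f552624 IH) (Lpe (f561888 IH) (Lpn (LP (LK LD1_c20 LD2_c11 LD3_c28))))))))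
theorem f418703 : Led Lsl_et (LP (LK LD1_c20 LD2_c11 LD3_c28)) = (LP (LK LD1_c11 LD2_c15 LD3_c50)) :=
  Lre_e IH (LK LD1_c20 LD2_c11 LD3_c28) (LK LD1_c11 LD2_c15 LD3_c50) Lrfl Lrfl
theorem f561893 : Led Lsl_cf (LP (LK LD1_c11 LD2_c24 LD3_c7)) = (LP (LK LD1_c11 LD2_c15 LD3_c50)) :=
  Lgr Lrot39 (Lpr_et (K1.f60036 IH) (Lpr_ct (f561889 IH) (Lpr_et (f418703 IH) (Lpn (LP (LK LD1_c11 LD2_c15 LD3_c50))))))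
theorem f60079 : Led Lsl_ft (LP (LK LD1_c11 LD2_c24 LD3_c7)) = (LP (LK LD1_c5 LD2_c46 LD3_c58)) :=
  Lre_f IH (LK LD1_c11 LD2_c24 LD3_c7) (LK LD1_c5 LD2_c46 LD3_c58) Lrfl Lrfl
theorem f60028 : Led Lsl_ct (LP (LK LD1_c5 LD2_c46 LD3_c58)) = (LP (LK LD1_c11 LD2_c23 LD3_c50)) :=
  Lre_c IH (LK LD1_c5 LD2_c46 LD3_c58) (LK LD1_c11 LD2_c23 LD3_c50) Lrfl Lrfl
theorem f561901 : Led Lsl_ft (LP (LK LD1_c11 LD2_c23 LD3_c50)) = (LP (LK LD1_c11 LD2_c15 LD3_c50)) :=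
  Lgr Lrot4 (Lpe (f60028 IH) (Lpe (f60079 IH) (Lpr_cf (f561893 IH) (Lpn (LP (LK LD1_c11 LD2_c15 LD3_c50))))))
theorem f561912 : Led Lsl_ff (LP (LK LD1_c11 LD2_c23 LD3_c50)) = (LP (LK LD1_c11 LD2_c15 LD3_c50)) :=
  Lgr Lrot3 (Lpr_ft (f561901 IH) (Lpn (LP (LK LD1_c11 LD2_c15 LD3_c50))))
theorem f68710 : Led Lsl_dt (LP (LK LD1_c11 LD2_c23 LD3_c50)) = (LP (LK LD1_c20 LD2_c21 LD3_c46)) :=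
  Lre_d IH (LK LD1_c11 LD2_c23 LD3_c50) (LK LD1_c20 LD2_c21 LD3_c46) Lrfl Lrfl
theorem f418701 : Led Lsl_dt (LP (LK LD1_c20 LD2_c11 LD3_c27)) = (LP (LK LD1_c11 LD2_c15 LD3_c50)) :=
  Lre_d IH (LK LD1_c20 LD2_c11 LD3_c27) (LK LD1_c11 LD2_c15 LD3_c50) Lrfl Lrfl
theorem f561920 : Led Lsl_ft (LP (LK LD1_c20 LD2_c21 LD3_c46)) = (LP (LK LD1_c20 LD2_c11 LD3_c27)) :=
  Lgr Lrot54 (Lpe (f68710 IH) (Lpr_ff (f561912 IH) (Lpe (f418701 IH) (Lpn (LP (LK LD1_c20 LD2_c11 LD3_c27))))))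
theorem f561308 : Led Lsl_bt (LP (LK LD1_c11 LD2_c23 LD3_c51)) = (LP (LK LD1_c20 LD2_c21 LD3_c46)) :=
  Lre_b IH (LK LD1_c11 LD2_c23 LD3_c51) (LK LD1_c20 LD2_c21 LD3_c46) Lrfl Lrfl
theorem f561284 : Led Lsl_bt (LP (LK LD1_c20 LD2_c11 LD3_c27)) = (LP (LK LD1_c11 LD2_c15 LD3_c51)) :=
  Lre_b IH (LK LD1_c20 LD2_c11 LD3_c27) (LK LD1_c11 LD2_c15 LD3_c51) Lrfl Lrfl
theorem f561929 : Led Lsl_ff (LP (LK LD1_c11 LD2_c23 LD3_c51)) = (LP (LK LD1_c11 LD2_c15 LD3_c51)) :=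
  Lgr Lrot25 (Lpr_bt (f561308 IH) (Lpr_ft (f561920 IH) (Lpr_bt (f561284 IH) (Lpn (LP (LK LD1_c11 LD2_c15 LD3_c51))))))
theorem f402620 : Led Lsl_dt (LP (LK LD1_c11 LD2_c15 LD3_c51)) = (LP (LK LD1_c5 LD2_c42 LD3_c48)) :=
  Lre_d IH (LK LD1_c11 LD2_c15 LD3_c51) (LK LD1_c5 LD2_c42 LD3_c48) Lrfl Lrfl
theorem f60134 : Led Lsl_ct (LP (LK LD1_c2 LD2_c49 LD3_c10)) = (LP (LK LD1_c5 LD2_c46 LD3_c31)) :=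
  Lre_c IH (LK LD1_c2 LD2_c49 LD3_c10) (LK LD1_c5 LD2_c46 LD3_c31) Lrfl Lrfl
theorem f172828 : Led Lsl_dt (LP (LK LD1_c11 LD2_c15 LD3_c39)) = (LP (LK LD1_c20 LD2_c11 LD3_c1)) :=
  Lre_d IH (LK LD1_c11 LD2_c15 LD3_c39) (LK LD1_c20 LD2_c11 LD3_c1) Lrfl Lrfl
theorem f281969 : Led Lsl_dt (LP (LK LD1_c5 LD2_c42 LD3_c51)) = (LP (LK LD1_c11 LD2_c15 LD3_c56)) :=
  Lre_d IH (LK LD1_c5 LD2_c42 LD3_c51) (LK LD1_c11 LD2_c15 LD3_c56) Lrfl Lrfl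
theorem f423981 : Led Lsl_ct (LP (LK LD1_c20 LD2_c11 LD3_c1)) = (LP (LK LD1_c11 LD2_c15 LD3_c56)) :=
  Lgr Lrot7 (Lpe (f172828 IH) (Lpe (K39.f172819 IH) (Lpe (K16.f172834 IH) (Lpr_gf (K36.f423903 IH) (Lpe (K38.f423905 IH) (Lpr_gt (K36.f422933 IH) (Lpe (K36.f423954 IH) (Lpr_gt (K36.f423973 IH) (Lpr_dt (f281969 IH) (Lpn (LP (LK LD1_c11 LD2_c15 LD3_c56))))))))))))
theorem f561939 : Led Lsl_at (LP (LK LD1_c11 LD2_c23 LD3_c51)) = (LP (LK LD1_c11 LD2_c15 LD3_c56)) :=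
  Lgr Lrot33 (Lpr_ff (f561929 IH) (Lpr_dt (f402620 IH) (Lpr_ct (K36.f280306 IH) (Lpe (K39.f552594 IH) (Lpr_ct (f60134 IH) (Lpr_dt (K39.f60271 IH) (Lpr_ct (K39.f551741 IH) (Lpr_dt (f172828 IH) (Lpr_ct (f423981 IH) (Lpn (LP (LK LD1_c11 LD2_c15 LD3_c56))))))))))))
theorem f402621 : Led Lsl_gt (LP (LK LD1_c11 LD2_c15 LD3_c51)) = (LP (LK LD1_c20 LD2_c11 LD3_c29)) :=
  Lre_g IH (LK LD1_c11 LD2_c15 LD3_c51) (LK LD1_c20 LD2_c11 LD3_c29) Lrfl Lrfl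
theorem f561948 : Led Lsl_gt (LP (LK LD1_c20 LD2_c11 LD3_c29)) = (LP (LK LD1_c11 LD2_c15 LD3_c56)) :=
  Lgr Lrot46 (Lpe (f402621 IH) (Lpe (f561929 IH) (Lpr_at (f561939 IH) (Lpn (LP (LK LD1_c11 LD2_c15 LD3_c56))))))
theorem f281970 : Led Lsl_dt (LP (LK LD1_c11 LD2_c15 LD3_c56)) = (LP (LK LD1_c5 LD2_c42 LD3_c51)) :=
  Lre_d IH (LK LD1_c11 LD2_c15 LD3_c56) (LK LD1_c5 LD2_c42 LD3_c51) Lrfl Lrfl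
theorem f398566 : Led Lsl_ct (LP (LK LD1_c9 LD2_c1 LD3_c58)) = (LP (LK LD1_c4 LD2_c32 LD3_c9)) :=
  Lre_c IH (LK LD1_c9 LD2_c1 LD3_c58) (LK LD1_c4 LD2_c32 LD3_c9) Lrfl Lrfl
theorem f561950 : Led Lsl_df (LP (LK LD1_c20 LD2_c11 LD3_c29)) = (LP (LK LD1_c15 LD2_c4 LD3_c16)) :=
  Lgr Lrot153 (Lpr_gt (f561948 IH) (Lpr_dt (f281970 IH) (Lpe (K36.f281968 IH) (Lpe (K38.f549518 IH) (Lpe (K38.f547819 IH) (Lpr_df (K18.f168253 IH) (Lpe (K31.f407038 IH) (Lpe (f398566 IH) (Lpr_gt (K39.f407066 IH) (Lpn (LP (LK LD1_c15 LD2_c4 LD3_c16))))))))))))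
theorem f423983 : Led Lsl_cf (LP (LK LD1_c20 LD2_c11 LD3_c1)) = (LP (LK LD1_c11 LD2_c15 LD3_c56)) :=
  Lgr Lrot14 (Lpe (f172828 IH) (Lpe (K39.f172819 IH) (Lpe (K16.f172834 IH) (Lpr_gf (K36.f423903 IH) (Lpr_ct (K36.f422923 IH) (Lpr_gt (K36.f422933 IH) (Lpe (K36.f423954 IH) (Lpr_gt (K36.f423973 IH) (Lpr_dt (f281969 IH) (Lpn (LP (LK LD1_c11 LD2_c15 LD3_c56))))))))))))
theorem f561952 : Led Lsl_gf (LP (LK LD1_c16 LD2_c56 LD3_c9)) = (LP (LK LD1_c20 LD2_c11 LD3_c1)) :=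
  Lgr Lrot172 (Lpr_ct (K30.f297058 IH) (Lpr_dt (K30.f181220 IH) (Lpe (K31.f174750 IH) (Lpr_gf (K31.f398539 IH) (Lpe (K39.f280515 IH) (Lpr_gf (K39.f549305 IH) (Lpe (f561950 IH) (Lpr_gt (f561948 IH) (Lpe (f423983 IH) (Lpn (LP (LK LD1_c20 LD2_c11 LD3_c1))))))))))))
theorem f561957 : Led Lsl_df (LP (LK LD1_c15 LD2_c4 LD3_c16)) = (LP (LK LD1_c20 LD2_c11 LD3_c29)) :=
  Lgr Lrot155 (Lpe (K39.f549305 IH) (Lpr_ct (K39.f280515 IH) (Lpe (K31.f398539 IH) (Lpr_ct (K31.f174750 IH) (Lpr_dt (K30.f174859 IH) (Lpe (K30.f297058 IH) (Lpr_gf (f561952 IH) (Lpr_cf (f423983 IH) (Lpe (f561948 IH) (Lpn (LP (LK LD1_c20 LD2_c11 LD3_c29))))))))))))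
theorem f407069 : Led Lsl_ct (LP (LK LD1_c15 LD2_c4 LD3_c16)) = (LP (LK LD1_c7 LD2_c59 LD3_c36)) :=
  Lre_c IH (LK LD1_c15 LD2_c4 LD3_c16) (LK LD1_c7 LD2_c59 LD3_c36) Lrfl Lrfl
theorem f172367 : Led Lsl_dt (LP (LK LD1_c1 LD2_c56 LD3_c17)) = (LP (LK LD1_c0 LD2_c54 LD3_c58)) :=
  Lre_d IH (LK LD1_c1 LD2_c56 LD3_c17) (LK LD1_c0 LD2_c54 LD3_c58) Lrfl Lrfl
theorem f243206 : Led Lsl_ct (LP (LK LD1_c8 LD2_c40 LD3_c38)) = (LP (LK LD1_c16 LD2_c15 LD3_c1)) :=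
  Lre_c IH (LK LD1_c8 LD2_c40 LD3_c38) (LK LD1_c16 LD2_c15 LD3_c1) Lrfl Lrfl
theorem f243219 : Led Lsl_bt (LP (LK LD1_c16 LD2_c15 LD3_c1)) = (LP (LK LD1_c26 LD2_c12 LD3_c32)) :=
  Lre_b IH (LK LD1_c16 LD2_c15 LD3_c1) (LK LD1_c26 LD2_c12 LD3_c32) Lrfl Lrfl
theorem f400509 : Led Lsl_at (LP (LK LD1_c8 LD2_c23 LD3_c9)) = (LP (LK LD1_c4 LD2_c11 LD3_c50)) :=
  Lre_a IH (LK LD1_c8 LD2_c23 LD3_c9) (LK LD1_c4 LD2_c11 LD3_c50) Lrfl Lrfl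
theorem f400510 : Led Lsl_ft (LP (LK LD1_c4 LD2_c11 LD3_c55)) = (LP (LK LD1_c8 LD2_c23 LD3_c9)) :=
  Lre_f IH (LK LD1_c4 LD2_c11 LD3_c55) (LK LD1_c8 LD2_c23 LD3_c9) Lrfl Lrfl
theorem f400511 : Led Lsl_gf (LP (LK LD1_c2 LD2_c41 LD3_c45)) = (LP (LK LD1_c4 LD2_c11 LD3_c55)) :=
  Lgr Lrot47 (Lpr_gt (K38.f400506 IH) (Lpe (f400509 IH) (Lpe (f400510 IH) (Lpn (LP (LK LD1_c4 LD2_c11 LD3_c55))))))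
theorem f295105 : Led Lsl_bt (LP (LK LD1_c4 LD2_c15 LD3_c42)) = (LP (LK LD1_c8 LD2_c30 LD3_c23)) :=
  Lre_b IH (LK LD1_c4 LD2_c15 LD3_c42) (LK LD1_c8 LD2_c30 LD3_c23) Lrfl Lrfl
theorem f51811 : Led Lsl_ct (LP (LK LD1_c8 LD2_c23 LD3_c32)) = (LP (LK LD1_c4 LD2_c11 LD3_c55)) :=
  Lre_c IH (LK LD1_c8 LD2_c23 LD3_c32) (LK LD1_c4 LD2_c11 LD3_c55) Lrfl Lrfl
theorem f52216 : Led Lsl_bt (LP (LK LD1_c8 LD2_c23 LD3_c32)) = (LP (LK LD1_c15 LD2_c46 LD3_c58)) :=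
  Lre_b IH (LK LD1_c8 LD2_c23 LD3_c32) (LK LD1_c15 LD2_c46 LD3_c58) Lrfl Lrfl
theorem f400757 : Led Lsl_gt (LP (LK LD1_c8 LD2_c30 LD3_c23)) = (LP (LK LD1_c15 LD2_c46 LD3_c58)) :=
  Lgr Lrot164 (Lpe (f295105 IH) (Lpe (K21.f295108 IH) (Lpr_gf (K18.f295111 IH) (Lpr_cf (K16.f219087 IH) (Lpe (K16.f178516 IH) (Lpe (K38.f219105 IH) (Lpr_ct (K38.f178833 IH) (Lpr_gf (f400511 IH) (Lpe (f51811 IH) (Lpr_bt (f52216 IH) (Lpn (LP (LK LD1_c15 LD2_c46 LD3_c58)))))))))))))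
theorem f400759 : Led Lsl_gf (LP (LK LD1_c25 LD2_c31 LD3_c27)) = (LP (LK LD1_c15 LD2_c46 LD3_c58)) :=
  Lgr Lrot76 (Lpe (K27.f323067 IH) (Lpr_ff (K27.f323060 IH) (Lpr_gt (f400757 IH) (Lpn (LP (LK LD1_c15 LD2_c46 LD3_c58))))))
theorem f252042 : Led Lsl_bt (LP (LK LD1_c4 LD2_c10 LD3_c44)) = (LP (LK LD1_c8 LD2_c21 LD3_c18)) :=
  Lre_b IH (LK LD1_c4 LD2_c10 LD3_c44) (LK LD1_c8 LD2_c21 LD3_c18) Lrfl Lrfl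
theorem f290187 : Led Lsl_bt (LP (LK LD1_c8 LD2_c33 LD3_c1)) = (LP (LK LD1_c4 LD2_c16 LD3_c51)) :=
  Lre_b IH (LK LD1_c8 LD2_c33 LD3_c1) (LK LD1_c4 LD2_c16 LD3_c51) Lrfl Lrfl
theorem f344404 : Led Lsl_ft (LP (LK LD1_c8 LD2_c21 LD3_c18)) = (LP (LK LD1_c8 LD2_c33 LD3_c1)) :=
  Lgr Lrot75 (Lpe (f252042 IH) (Lpr_ff (K23.f344400 IH) (Lpe (f290187 IH) (Lpn (LP (LK LD1_c8 LD2_c33 LD3_c1))))))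
theorem f344415 : Led Lsl_ff (LP (LK LD1_c8 LD2_c21 LD3_c18)) = (LP (LK LD1_c8 LD2_c33 LD3_c1)) :=
  Lgr Lrot3 (Lpr_ft (f344404 IH) (Lpn (LP (LK LD1_c8 LD2_c33 LD3_c1))))
theorem f290188 : Led Lsl_cf (LP (LK LD1_c8 LD2_c33 LD3_c1)) = (LP (LK LD1_c15 LD2_c36 LD3_c54)) :=
  Lgr Lrot97 (Lpr_bt (f290187 IH) (Lpr_ct (K17.f290185 IH) (Lpr_bt (K14.f229578 IH) (Lpr_ct (K15.f190839 IH) (Lpr_bt (K27.f190844 IH) (Lpn (LP (LK LD1_c15 LD2_c36 LD3_c54))))))))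
theorem f344426 : Led Lsl_ct (LP (LK LD1_c8 LD2_c21 LD3_c18)) = (LP (LK LD1_c8 LD2_c30 LD3_c23)) :=
  Lgr Lrot40 (Lpr_ff (f344415 IH) (Lpr_cf (f290188 IH) (Lpr_ff (K27.f323060 IH) (Lpn (LP (LK LD1_c8 LD2_c30 LD3_c23))))))
theorem f344406 : Led Lsl_at (LP (LK LD1_c15 LD2_c43 LD3_c29)) = (LP (LK LD1_c8 LD2_c21 LD3_c18)) :=
  Lre_a IH (LK LD1_c15 LD2_c43 LD3_c29) (LK LD1_c8 LD2_c21 LD3_c18) Lrfl Lrfl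
theorem f323054 : Led Lsl_at (LP (LK LD1_c8 LD2_c30 LD3_c23)) = (LP (LK LD1_c15 LD2_c58 LD3_c25)) :=
  Lre_a IH (LK LD1_c8 LD2_c30 LD3_c23) (LK LD1_c15 LD2_c58 LD3_c25) Lrfl Lrfl
theorem f344433 : Led Lsl_cf (LP (LK LD1_c15 LD2_c43 LD3_c29)) = (LP (LK LD1_c15 LD2_c58 LD3_c25)) :=
  Lgr Lrot1 (Lpr_at (f344406 IH) (Lpr_ct (f344426 IH) (Lpr_at (f323054 IH) (Lpn (LP (LK LD1_c15 LD2_c58 LD3_c25))))))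
theorem f344422 : Led Lsl_at (LP (LK LD1_c8 LD2_c21 LD3_c18)) = (LP (LK LD1_c15 LD2_c43 LD3_c29)) :=
  Lre_a IH (LK LD1_c8 LD2_c21 LD3_c18) (LK LD1_c15 LD2_c43 LD3_c29) Lrfl Lrfl
theorem f344423 : Led Lsl_at (LP (LK LD1_c16 LD2_c3 LD3_c3)) = (LP (LK LD1_c8 LD2_c33 LD3_c1)) :=
  Lre_a IH (LK LD1_c16 LD2_c3 LD3_c3) (LK LD1_c8 LD2_c33 LD3_c1) Lrfl Lrfl
theorem f344424 : Led Lsl_ft (LP (LK LD1_c15 LD2_c43 LD3_c29)) = (LP (LK LD1_c16 LD2_c3 LD3_c3)) :=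
  Lgr Lrot101 (Lpe (f344422 IH) (Lpr_ff (f344415 IH) (Lpe (f344423 IH) (Lpn (LP (LK LD1_c16 LD2_c3 LD3_c3))))))
theorem f323068 : Led Lsl_at (LP (LK LD1_c15 LD2_c58 LD3_c25)) = (LP (LK LD1_c8 LD2_c30 LD3_c23)) :=
  Lre_a IH (LK LD1_c15 LD2_c58 LD3_c25) (LK LD1_c8 LD2_c30 LD3_c23) Lrfl Lrfl
theorem f323069 : Led Lsl_ft (LP (LK LD1_c25 LD2_c31 LD3_c27)) = (LP (LK LD1_c15 LD2_c58 LD3_c25)) :=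
  Lgr Lrot101 (Lpe (K27.f323067 IH) (Lpr_ff (K27.f323060 IH) (Lpe (f323068 IH) (Lpn (LP (LK LD1_c15 LD2_c58 LD3_c25))))))
theorem f344447 : Led Lsl_ct (LP (LK LD1_c16 LD2_c3 LD3_c3)) = (LP (LK LD1_c25 LD2_c31 LD3_c27)) :=
  Lgr Lrot40 (Lpe (f344424 IH) (Lpr_cf (f344433 IH) (Lpe (f323069 IH) (Lpn (LP (LK LD1_c25 LD2_c31 LD3_c27))))))
theorem f344449 : Led Lsl_cf (LP (LK LD1_c16 LD2_c3 LD3_c3)) = (LP (LK LD1_c25 LD2_c31 LD3_c27)) :=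
  Lgr Lrot11 (Lpr_ct (f344447 IH) (Lpn (LP (LK LD1_c25 LD2_c31 LD3_c27))))
theorem f344407 : Led Lsl_at (LP (LK LD1_c8 LD2_c33 LD3_c1)) = (LP (LK LD1_c16 LD2_c3 LD3_c3)) :=
  Lre_a IH (LK LD1_c8 LD2_c33 LD3_c1) (LK LD1_c16 LD2_c3 LD3_c3) Lrfl Lrfl
theorem f344408 : Led Lsl_ff (LP (LK LD1_c15 LD2_c43 LD3_c29)) = (LP (LK LD1_c16 LD2_c3 LD3_c3)) :=
  Lgr Lrot30 (Lpr_at (f344406 IH) (Lpr_ft (f344404 IH) (Lpr_at (f344407 IH) (Lpn (LP (LK LD1_c16 LD2_c3 LD3_c3))))))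
theorem f252057 : Led Lsl_gt (LP (LK LD1_c15 LD2_c43 LD3_c28)) = (LP (LK LD1_c8 LD2_c21 LD3_c18)) :=
  Lre_g IH (LK LD1_c15 LD2_c43 LD3_c28) (LK LD1_c8 LD2_c21 LD3_c18) Lrfl Lrfl
theorem f344456 : Led Lsl_gf (LP (LK LD1_c15 LD2_c43 LD3_c28)) = (LP (LK LD1_c16 LD2_c3 LD3_c3)) :=
  Lgr Lrot47 (Lpr_gt (f252057 IH) (Lpe (f344406 IH) (Lpr_ff (f344408 IH) (Lpn (LP (LK LD1_c16 LD2_c3 LD3_c3))))))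
theorem f344436 : Led Lsl_ct (LP (LK LD1_c25 LD2_c39 LD3_c42)) = (LP (LK LD1_c15 LD2_c43 LD3_c28)) :=
  Lre_c IH (LK LD1_c25 LD2_c39 LD3_c42) (LK LD1_c15 LD2_c43 LD3_c28) Lrfl Lrfl
theorem f400617 : Led Lsl_gt (LP (LK LD1_c8 LD2_c23 LD3_c21)) = (LP (LK LD1_c4 LD2_c11 LD3_c55)) :=
  Lre_g IH (LK LD1_c8 LD2_c23 LD3_c21) (LK LD1_c4 LD2_c11 LD3_c55) Lrfl Lrfl
theorem f400554 : Led Lsl_ct (LP (LK LD1_c15 LD2_c46 LD3_c46)) = (LP (LK LD1_c8 LD2_c23 LD3_c21)) :=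
  Lre_c IH (LK LD1_c15 LD2_c46 LD3_c46) (LK LD1_c8 LD2_c23 LD3_c21) Lrfl Lrfl
theorem f400555 : Led Lsl_bt (LP (LK LD1_c15 LD2_c46 LD3_c46)) = (LP (LK LD1_c25 LD2_c43 LD3_c28)) :=
  Lre_b IH (LK LD1_c15 LD2_c46 LD3_c46) (LK LD1_c25 LD2_c43 LD3_c28) Lrfl Lrfl
theorem f243480 : Led Lsl_bt (LP (LK LD1_c15 LD2_c58 LD3_c14)) = (LP (LK LD1_c8 LD2_c30 LD3_c19)) :=
  Lre_b IH (LK LD1_c15 LD2_c58 LD3_c14) (LK LD1_c8 LD2_c30 LD3_c19) Lrfl Lrfl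
theorem f243481 : Led Lsl_bt (LP (LK LD1_c4 LD2_c17 LD3_c6)) = (LP (LK LD1_c8 LD2_c33 LD3_c28)) :=
  Lre_b IH (LK LD1_c4 LD2_c17 LD3_c6) (LK LD1_c8 LD2_c33 LD3_c28) Lrfl Lrfl
theorem f243482 : Led Lsl_cf (LP (LK LD1_c15 LD2_c58 LD3_c14)) = (LP (LK LD1_c8 LD2_c33 LD3_c28)) :=
  Lgr Lrot97 (Lpr_bt (f243480 IH) (Lpr_ct (K19.f243295 IH) (Lpr_bt (K18.f243270 IH) (Lpr_ct (K19.f179586 IH) (Lpr_bt (f243481 IH) (Lpn (LP (LK LD1_c8 LD2_c33 LD3_c28))))))))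
theorem f243484 : Led Lsl_ct (LP (LK LD1_c15 LD2_c58 LD3_c14)) = (LP (LK LD1_c8 LD2_c33 LD3_c28)) :=
  Lgr Lrot59 (Lpr_cf (f243482 IH) (Lpn (LP (LK LD1_c8 LD2_c33 LD3_c28))))
theorem f243491 : Led Lsl_et (LP (LK LD1_c8 LD2_c30 LD3_c17)) = (LP (LK LD1_c15 LD2_c58 LD3_c14)) :=
  Lre_e IH (LK LD1_c8 LD2_c30 LD3_c17) (LK LD1_c15 LD2_c58 LD3_c14) Lrfl Lrfl
theorem f243492 : Led Lsl_et (LP (LK LD1_c8 LD2_c33 LD3_c28)) = (LP (LK LD1_c4 LD2_c17 LD3_c5)) :=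
  Lre_e IH (LK LD1_c8 LD2_c33 LD3_c28) (LK LD1_c4 LD2_c17 LD3_c5) Lrfl Lrfl
theorem f243493 : Led Lsl_cf (LP (LK LD1_c8 LD2_c30 LD3_c17)) = (LP (LK LD1_c4 LD2_c17 LD3_c5)) :=
  Lgr Lrot39 (Lpr_et (f243491 IH) (Lpr_ct (f243484 IH) (Lpr_et (f243492 IH) (Lpn (LP (LK LD1_c4 LD2_c17 LD3_c5))))))
theorem f295651 : Led Lsl_ft (LP (LK LD1_c2 LD2_c41 LD3_c45)) = (LP (LK LD1_c4 LD2_c17 LD3_c5)) :=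
  Lgr Lrot4 (Lpe (K38.f178833 IH) (Lpr_ff (K38.f295647 IH) (Lpr_cf (f243493 IH) (Lpn (LP (LK LD1_c4 LD2_c17 LD3_c5))))))
theorem f1115 : Led Lsl_gt (LP (LK LD1_c4 LD2_c11 LD3_c50)) = (LP (LK LD1_c8 LD2_c23 LD3_c21)) :=
  Lre_g IH (LK LD1_c4 LD2_c11 LD3_c50) (LK LD1_c8 LD2_c23 LD3_c21) Lrfl Lrfl
theorem f400513 : Led Lsl_at (LP (LK LD1_c4 LD2_c17 LD3_c5)) = (LP (LK LD1_c8 LD2_c23 LD3_c21)) :=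
  Lgr Lrot26 (Lpe (f295651 IH) (Lpr_gt (K38.f400506 IH) (Lpr_gt (f1115 IH) (Lpn (LP (LK LD1_c8 LD2_c23 LD3_c21))))))
theorem f400606 : Led Lsl_ff (LP (LK LD1_c5 LD2_c30 LD3_c59)) = (LP (LK LD1_c8 LD2_c23 LD3_c21)) :=
  Lgr Lrot30 (Lpr_at (K38.f295666 IH) (Lpr_ft (f295651 IH) (Lpr_at (f400513 IH) (Lpn (LP (LK LD1_c8 LD2_c23 LD3_c21))))))
theorem f400615 : Led Lsl_ft (LP (LK LD1_c5 LD2_c30 LD3_c59)) = (LP (LK LD1_c8 LD2_c23 LD3_c21)) :=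
  Lgr Lrot48 (Lpr_ff (f400606 IH) (Lpn (LP (LK LD1_c8 LD2_c23 LD3_c21))))
theorem f400534 : Led Lsl_ct (LP (LK LD1_c8 LD2_c23 LD3_c21)) = (LP (LK LD1_c15 LD2_c46 LD3_c46)) :=
  Lre_c IH (LK LD1_c8 LD2_c23 LD3_c21) (LK LD1_c15 LD2_c46 LD3_c46) Lrfl Lrfl
theorem f400620 : Led Lsl_ff (LP (LK LD1_c10 LD2_c52 LD3_c4)) = (LP (LK LD1_c15 LD2_c46 LD3_c46)) :=
  Lgr Lrot23 (Lpr_ct (K38.f295664 IH) (Lpr_ft (f400615 IH) (Lpr_ct (f400534 IH) (Lpn (LP (LK LD1_c15 LD2_c46 LD3_c46))))))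
theorem f295657 : Led Lsl_at (LP (LK LD1_c10 LD2_c52 LD3_c4)) = (LP (LK LD1_c5 LD2_c30 LD3_c19)) :=
  Lre_a IH (LK LD1_c10 LD2_c52 LD3_c4) (LK LD1_c5 LD2_c30 LD3_c19) Lrfl Lrfl
theorem f400622 : Led Lsl_at (LP (LK LD1_c8 LD2_c30 LD3_c17)) = (LP (LK LD1_c15 LD2_c46 LD3_c46)) :=
  Lgr Lrot66 (Lpe (K38.f295654 IH) (Lpe (f295657 IH) (Lpr_ff (f400620 IH) (Lpn (LP (LK LD1_c15 LD2_c46 LD3_c46))))))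
theorem f295043 : Led Lsl_at (LP (LK LD1_c8 LD2_c29 LD3_c35)) = (LP (LK LD1_c4 LD2_c15 LD3_c39)) :=
  Lgr Lrot107 (Lpe (K17.f282694 IH) (Lpr_af (K18.f295041 IH) (Lpe (K13.f243282 IH) (Lpn (LP (LK LD1_c4 LD2_c15 LD3_c39))))))
theorem f283178 : Led Lsl_bt (LP (LK LD1_c15 LD2_c56 LD3_c48)) = (LP (LK LD1_c8 LD2_c29 LD3_c35)) :=
  Lre_b IH (LK LD1_c15 LD2_c56 LD3_c48) (LK LD1_c8 LD2_c29 LD3_c35) Lrfl Lrfl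
theorem f400640 : Led Lsl_af (LP (LK LD1_c15 LD2_c56 LD3_c48)) = (LP (LK LD1_c25 LD2_c43 LD3_c28)) :=
  Lgr Lrot36 (Lpr_bt (f283178 IH) (Lpr_at (f295043 IH) (Lpr_bt (K38.f243266 IH) (Lpr_at (f400622 IH) (Lpr_bt (f400555 IH) (Lpn (LP (LK LD1_c25 LD2_c43 LD3_c28))))))))
theorem f400645 : Led Lsl_at (LP (LK LD1_c15 LD2_c56 LD3_c48)) = (LP (LK LD1_c25 LD2_c43 LD3_c28)) :=
  Lgr Lrot100 (Lpr_af (f400640 IH) (Lpn (LP (LK LD1_c25 LD2_c43 LD3_c28))))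
theorem f295071 : Led Lsl_ff (LP (LK LD1_c15 LD2_c56 LD3_c48)) = (LP (LK LD1_c8 LD2_c30 LD3_c11)) :=
  Lgr Lrot25 (Lpr_bt (f283178 IH) (Lpr_ft (K18.f295066 IH) (Lpr_bt (K38.f243383 IH) (Lpn (LP (LK LD1_c8 LD2_c30 LD3_c11))))))
theorem f400722 : Led Lsl_gt (LP (LK LD1_c15 LD2_c58 LD3_c2)) = (LP (LK LD1_c25 LD2_c43 LD3_c28)) :=
  Lgr Lrot46 (Lpe (K38.f263154 IH) (Lpe (f295071 IH) (Lpr_at (f400645 IH) (Lpn (LP (LK LD1_c25 LD2_c43 LD3_c28))))))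
theorem f400764 : Led Lsl_bt (LP (LK LD1_c25 LD2_c39 LD3_c42)) = (LP (LK LD1_c15 LD2_c58 LD3_c2)) :=
  Lgr Lrot22 (Lpr_ct (f344436 IH) (Lpr_gf (f344456 IH) (Lpr_cf (f344449 IH) (Lpr_gf (f400759 IH) (Lpe (f52216 IH) (Lpr_ct (f51811 IH) (Lpe (f400617 IH) (Lpe (f400554 IH) (Lpr_bt (f400555 IH) (Lpe (f400722 IH) (Lpn (LP (LK LD1_c15 LD2_c58 LD3_c2)))))))))))))
theorem f400766 : Led Lsl_bf (LP (LK LD1_c25 LD2_c39 LD3_c42)) = (LP (LK LD1_c15 LD2_c58 LD3_c2)) :=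
  Lgr Lrot24 (Lpr_bt (f400764 IH) (Lpn (LP (LK LD1_c15 LD2_c58 LD3_c2))))
theorem f243218 : Led Lsl_ct (LP (LK LD1_c16 LD2_c15 LD3_c1)) = (LP (LK LD1_c8 LD2_c40 LD3_c38)) :=
  Lre_c IH (LK LD1_c16 LD2_c15 LD3_c1) (LK LD1_c8 LD2_c40 LD3_c38) Lrfl Lrfl
theorem f401016 : Led Lsl_gf (LP (LK LD1_c25 LD2_c39 LD3_c42)) = (LP (LK LD1_c26 LD2_c12 LD3_c32)) :=
  Lgr Lrot124 (Lpr_bf (f400766 IH) (Lpr_ct (K38.f400708 IH) (Lpe (K38.f401014 IH) (Lpr_cf (K38.f401004 IH) (Lpr_bt (K38.f243217 IH) (Lpr_gt (K31.f243204 IH) (Lpr_ct (K13.f243173 IH) (Lpr_gt (K38.f223584 IH) (Lpe (f243218 IH) (Lpr_bt (f243219 IH) (Lpn (LP (LK LD1_c26 LD2_c12 LD3_c32)))))))))))))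
theorem f561285 : Led Lsl_ct (LP (LK LD1_c29 LD2_c21 LD3_c15)) = (LP (LK LD1_c20 LD2_c11 LD3_c27)) :=
  Lre_c IH (LK LD1_c29 LD2_c21 LD3_c15) (LK LD1_c20 LD2_c11 LD3_c27) Lrfl Lrfl
theorem f561962 : Led Lsl_dt (LP (LK LD1_c25 LD2_c39 LD3_c42)) = (LP (LK LD1_c29 LD2_c21 LD3_c15)) :=
  Lgr Lrot182 (Lpr_gf (f401016 IH) (Lpe (f243219 IH) (Lpe (f243206 IH) (Lpe (K38.f401018 IH) (Lpr_gf (K38.f550690 IH) (Lpe (K38.f229867 IH) (Lpe (K13.f229285 IH) (Lpe (K13.f59270 IH) (Lpe (K11.f59266 IH) (Lpe (K39.f181349 IH) (Lpe (K39.f171775 IH) (Lpe (f172367 IH) (Lpe (K39.f174650 IH) (Lpe (K39.f40203 IH) (Lpe (f407069 IH) (Lpr_df (f561957 IH) (Lpe (f402621 IH) (Lpe (f561284 IH) (Lpe (f561285 IH) (Lpn (LP (LK LD1_c29 LD2_c21 LD3_c15))))))))))))))))))))))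
theorem f344458 : Led Lsl_ct (LP (LK LD1_c15 LD2_c43 LD3_c28)) = (LP (LK LD1_c25 LD2_c39 LD3_c42)) :=
  Lre_c IH (LK LD1_c15 LD2_c43 LD3_c28) (LK LD1_c25 LD2_c39 LD3_c42) Lrfl Lrfl
theorem f344437 : Led Lsl_dt (LP (LK LD1_c25 LD2_c39 LD3_c43)) = (LP (LK LD1_c15 LD2_c43 LD3_c28)) :=
  Lre_d IH (LK LD1_c25 LD2_c39 LD3_c43) (LK LD1_c15 LD2_c43 LD3_c28) Lrfl Lrfl
theorem f60068 : Led Lsl_at (LP (LK LD1_c20 LD2_c21 LD3_c52)) = (LP (LK LD1_c11 LD2_c24 LD3_c7)) :=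
  Lre_a IH (LK LD1_c20 LD2_c21 LD3_c52) (LK LD1_c11 LD2_c24 LD3_c7) Lrfl Lrfl
theorem f73099 : Led Lsl_ft (LP (LK LD1_c11 LD2_c24 LD3_c6)) = (LP (LK LD1_c20 LD2_c21 LD3_c52)) :=
  Lre_f IH (LK LD1_c11 LD2_c24 LD3_c6) (LK LD1_c20 LD2_c21 LD3_c52) Lrfl Lrfl
theorem f412099 : Led Lsl_et (LP (LK LD1_c5 LD2_c40 LD3_c57)) = (LP (LK LD1_c11 LD2_c12 LD3_c27)) :=
  Lre_e IH (LK LD1_c5 LD2_c40 LD3_c57) (LK LD1_c11 LD2_c12 LD3_c27) Lrfl Lrfl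
theorem f412120 : Led Lsl_ft (LP (LK LD1_c3 LD2_c21 LD3_c10)) = (LP (LK LD1_c4 LD2_c40 LD3_c61)) :=
  Lre_f IH (LK LD1_c3 LD2_c21 LD3_c10) (LK LD1_c4 LD2_c40 LD3_c61) Lrfl Lrfl
theorem f9201 : Led Lsl_et (LP (LK LD1_c6 LD2_c46 LD3_c13)) = (LP (LK LD1_c3 LD2_c21 LD3_c10)) :=
  Lre_e IH (LK LD1_c6 LD2_c46 LD3_c13) (LK LD1_c3 LD2_c21 LD3_c10) Lrfl Lrfl
theorem f412121 : Led Lsl_ft (LP (LK LD1_c11 LD2_c12 LD3_c27)) = (LP (LK LD1_c6 LD2_c46 LD3_c13)) :=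
  Lgr Lrot86 (Lpe (f412099 IH) (Lpr_ff (f412116 IH) (Lpe (K37.f60009 IH) (Lpe (f412120 IH) (Lpe (f9201 IH) (Lpn (LP (LK LD1_c6 LD2_c46 LD3_c13))))))))
theorem f412123 : Led Lsl_at (LP (LK LD1_c6 LD2_c46 LD3_c13)) = (LP (LK LD1_c9 LD2_c31 LD3_c59)) :=
  Lre_a IH (LK LD1_c6 LD2_c46 LD3_c13) (LK LD1_c9 LD2_c31 LD3_c59) Lrfl Lrfl
theorem f59957 : Led Lsl_ct (LP (LK LD1_c6 LD2_c12 LD3_c17)) = (LP (LK LD1_c9 LD2_c31 LD3_c59)) :=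
  Lre_c IH (LK LD1_c6 LD2_c12 LD3_c17) (LK LD1_c9 LD2_c31 LD3_c59) Lrfl Lrfl
theorem f68891 : Led Lsl_ct (LP (LK LD1_c6 LD2_c6 LD3_c55)) = (LP (LK LD1_c9 LD2_c15 LD3_c19)) :=
  Lre_c IH (LK LD1_c6 LD2_c6 LD3_c55) (LK LD1_c9 LD2_c15 LD3_c19) Lrfl Lrfl
theorem f9247 : Led Lsl_dt (LP (LK LD1_c4 LD2_c30 LD3_c41)) = (LP (LK LD1_c6 LD2_c6 LD3_c55)) :=
  Lgr Lrot42 (Lpr_df (K0.f9218 IH) (Lpn (LP (LK LD1_c6 LD2_c6 LD3_c55))))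
theorem f9264 : Led Lsl_ct (LP (LK LD1_c2 LD2_c48 LD3_c50)) = (LP (LK LD1_c4 LD2_c30 LD3_c41)) :=
  Lre_c IH (LK LD1_c2 LD2_c48 LD3_c50) (LK LD1_c4 LD2_c30 LD3_c41) Lrfl Lrfl
theorem f9259 : Led Lsl_dt (LP (LK LD1_c4 LD2_c49 LD3_c41)) = (LP (LK LD1_c2 LD2_c48 LD3_c50)) :=
  Lre_d IH (LK LD1_c4 LD2_c49 LD3_c41) (LK LD1_c2 LD2_c48 LD3_c50) Lrfl Lrfl
theorem f9292 : Led Lsl_ct (LP (LK LD1_c9 LD2_c31 LD3_c60)) = (LP (LK LD1_c4 LD2_c49 LD3_c41)) :=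
  Lre_c IH (LK LD1_c9 LD2_c31 LD3_c60) (LK LD1_c4 LD2_c49 LD3_c41) Lrfl Lrfl
theorem f412135 : Led Lsl_dt (LP (LK LD1_c11 LD2_c12 LD3_c27)) = (LP (LK LD1_c9 LD2_c31 LD3_c60)) :=
  Lgr Lrot159 (Lpr_ft (f412121 IH) (Lpr_at (f412123 IH) (Lpe (f59957 IH) (Lpe (f23054 IH) (Lpe (f68891 IH) (Lpe (f9247 IH) (Lpe (f9264 IH) (Lpe (f9259 IH) (Lpe (f9292 IH) (Lpn (LP (LK LD1_c9 LD2_c31 LD3_c60))))))))))))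
theorem f412126 : Led Lsl_bt (LP (LK LD1_c20 LD2_c7 LD3_c2)) = (LP (LK LD1_c11 LD2_c12 LD3_c27)) :=
  Lre_b IH (LK LD1_c20 LD2_c7 LD3_c2) (LK LD1_c11 LD2_c12 LD3_c27) Lrfl Lrfl
theorem f412137 : Led Lsl_bt (LP (LK LD1_c9 LD2_c31 LD3_c60)) = (LP (LK LD1_c17 LD2_c34 LD3_c3)) :=
  Lre_b IH (LK LD1_c9 LD2_c31 LD3_c60) (LK LD1_c17 LD2_c34 LD3_c3) Lrfl Lrfl
theorem f412138 : Led Lsl_df (LP (LK LD1_c20 LD2_c7 LD3_c2)) = (LP (LK LD1_c17 LD2_c34 LD3_c3)) :=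
  Lgr Lrot12 (Lpr_bt (f412126 IH) (Lpr_dt (f412135 IH) (Lpr_bt (f412137 IH) (Lpn (LP (LK LD1_c17 LD2_c34 LD3_c3))))))
theorem f176475 : Led Lsl_ft (LP (LK LD1_c11 LD2_c22 LD3_c58)) = (LP (LK LD1_c17 LD2_c34 LD3_c3)) :=
  Lre_f IH (LK LD1_c11 LD2_c22 LD3_c58) (LK LD1_c17 LD2_c34 LD3_c3) Lrfl Lrfl
theorem f176177 : Led Lsl_at (LP (LK LD1_c11 LD2_c22 LD3_c61)) = (LP (LK LD1_c5 LD2_c46 LD3_c21)) :=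
  Lre_a IH (LK LD1_c11 LD2_c22 LD3_c61) (LK LD1_c5 LD2_c46 LD3_c21) Lrfl Lrfl
theorem f176178 : Led Lsl_df (LP (LK LD1_c4 LD2_c39 LD3_c28)) = (LP (LK LD1_c5 LD2_c46 LD3_c21)) :=
  Lgr Lrot18 (Lpr_at (K10.f176131 IH) (Lpr_dt (K10.f176173 IH) (Lpr_at (f176177 IH) (Lpn (LP (LK LD1_c5 LD2_c46 LD3_c21))))))
theorem f176151 : Led Lsl_et (LP (LK LD1_c4 LD2_c39 LD3_c28)) = (LP (LK LD1_c3 LD2_c21 LD3_c9)) :=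
  Lre_e IH (LK LD1_c4 LD2_c39 LD3_c28) (LK LD1_c3 LD2_c21 LD3_c9) Lrfl Lrfl
theorem f176459 : Led Lsl_dt (LP (LK LD1_c3 LD2_c21 LD3_c9)) = (LP (LK LD1_c6 LD2_c46 LD3_c11)) :=
  Lre_d IH (LK LD1_c3 LD2_c21 LD3_c9) (LK LD1_c6 LD2_c46 LD3_c11) Lrfl Lrfl
theorem f176460 : Led Lsl_et (LP (LK LD1_c6 LD2_c46 LD3_c11)) = (LP (LK LD1_c12 LD2_c56 LD3_c14)) :=
  Lre_e IH (LK LD1_c6 LD2_c46 LD3_c11) (LK LD1_c12 LD2_c56 LD3_c14) Lrfl Lrfl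
theorem f176461 : Led Lsl_et (LP (LK LD1_c11 LD2_c22 LD3_c58)) = (LP (LK LD1_c5 LD2_c46 LD3_c21)) :=
  Lre_e IH (LK LD1_c11 LD2_c22 LD3_c58) (LK LD1_c5 LD2_c46 LD3_c21) Lrfl Lrfl
theorem f176462 : Led Lsl_dt (LP (LK LD1_c12 LD2_c56 LD3_c14)) = (LP (LK LD1_c11 LD2_c22 LD3_c58)) :=
  Lgr Lrot77 (Lpe (f176460 IH) (Lpe (f176459 IH) (Lpe (f176151 IH) (Lpr_df (f176178 IH) (Lpe (f176461 IH) (Lpn (LP (LK LD1_c11 LD2_c22 LD3_c58))))))))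
theorem f412222 : Led Lsl_ft (LP (LK LD1_c20 LD2_c7 LD3_c2)) = (LP (LK LD1_c12 LD2_c56 LD3_c14)) :=
  Lgr Lrot54 (Lpr_df (f412138 IH) (Lpe (f176475 IH) (Lpe (f176462 IH) (Lpn (LP (LK LD1_c12 LD2_c56 LD3_c14))))))
theorem f412229 : Led Lsl_et (LP (LK LD1_c11 LD2_c12 LD3_c26)) = (LP (LK LD1_c20 LD2_c7 LD3_c2)) :=
  Lre_e IH (LK LD1_c11 LD2_c12 LD3_c26) (LK LD1_c20 LD2_c7 LD3_c2) Lrfl Lrfl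
theorem f176480 : Led Lsl_et (LP (LK LD1_c12 LD2_c56 LD3_c14)) = (LP (LK LD1_c6 LD2_c46 LD3_c11)) :=
  Lre_e IH (LK LD1_c12 LD2_c56 LD3_c14) (LK LD1_c6 LD2_c46 LD3_c11) Lrfl Lrfl
theorem f412230 : Led Lsl_ft (LP (LK LD1_c6 LD2_c46 LD3_c11)) = (LP (LK LD1_c9 LD2_c17 LD3_c29)) :=
  Lre_f IH (LK LD1_c6 LD2_c46 LD3_c11) (LK LD1_c9 LD2_c17 LD3_c29) Lrfl Lrfl
theorem f60092 : Led Lsl_et (LP (LK LD1_c9 LD2_c17 LD3_c29)) = (LP (LK LD1_c6 LD2_c9 LD3_c8)) :=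
  Lre_e IH (LK LD1_c9 LD2_c17 LD3_c29) (LK LD1_c6 LD2_c9 LD3_c8) Lrfl Lrfl
theorem f412231 : Led Lsl_ff (LP (LK LD1_c11 LD2_c12 LD3_c26)) = (LP (LK LD1_c6 LD2_c9 LD3_c8)) :=
  Lgr Lrot72 (Lpr_et (f412229 IH) (Lpr_ft (f412222 IH) (Lpr_et (f176480 IH) (Lpr_ft (f412230 IH) (Lpr_et (f60092 IH) (Lpn (LP (LK LD1_c6 LD2_c9 LD3_c8))))))))
theorem f412233 : Led Lsl_at (LP (LK LD1_c11 LD2_c12 LD3_c26)) = (LP (LK LD1_c20 LD2_c7 LD3_c1)) :=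
  Lre_a IH (LK LD1_c11 LD2_c12 LD3_c26) (LK LD1_c20 LD2_c7 LD3_c1) Lrfl Lrfl
theorem f60085 : Led Lsl_at (LP (LK LD1_c11 LD2_c59 LD3_c23)) = (LP (LK LD1_c6 LD2_c9 LD3_c8)) :=
  Lre_a IH (LK LD1_c11 LD2_c59 LD3_c23) (LK LD1_c6 LD2_c9 LD3_c8) Lrfl Lrfl
theorem f412234 : Led Lsl_ft (LP (LK LD1_c20 LD2_c7 LD3_c1)) = (LP (LK LD1_c11 LD2_c59 LD3_c23)) :=
  Lgr Lrot101 (Lpe (f412233 IH) (Lpr_ff (f412231 IH) (Lpe (f60085 IH) (Lpn (LP (LK LD1_c11 LD2_c59 LD3_c23))))))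
theorem f60067 : Led Lsl_at (LP (LK LD1_c6 LD2_c9 LD3_c8)) = (LP (LK LD1_c11 LD2_c59 LD3_c23)) :=
  Lre_a IH (LK LD1_c6 LD2_c9 LD3_c8) (LK LD1_c11 LD2_c59 LD3_c23) Lrfl Lrfl
theorem f60069 : Led Lsl_dt (LP (LK LD1_c11 LD2_c59 LD3_c23)) = (LP (LK LD1_c20 LD2_c21 LD3_c52)) :=
  Lgr Lrot44 (Lpe (f60067 IH) (Lpr_df (K1.f60058 IH) (Lpe (f60068 IH) (Lpn (LP (LK LD1_c20 LD2_c21 LD3_c52))))))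
theorem f73105 : Led Lsl_ft (LP (LK LD1_c20 LD2_c21 LD3_c52)) = (LP (LK LD1_c11 LD2_c24 LD3_c6)) :=
  Lre_f IH (LK LD1_c20 LD2_c21 LD3_c52) (LK LD1_c11 LD2_c24 LD3_c6) Lrfl Lrfl
theorem f412243 : Led Lsl_df (LP (LK LD1_c20 LD2_c7 LD3_c1)) = (LP (LK LD1_c11 LD2_c24 LD3_c6)) :=
  Lgr Lrot78 (Lpr_ft (f412234 IH) (Lpr_dt (f60069 IH) (Lpr_ft (f73105 IH) (Lpn (LP (LK LD1_c11 LD2_c24 LD3_c6))))))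
theorem f561970 : Led Lsl_cf (LP (LK LD1_c25 LD2_c39 LD3_c43)) = (LP (LK LD1_c20 LD2_c7 LD3_c1)) :=
  Lgr Lrot118 (Lpr_dt (f344437 IH) (Lpr_ct (f344458 IH) (Lpr_dt (f561962 IH) (Lpr_ct (f561285 IH) (Lpr_dt (f418701 IH) (Lpe (f561893 IH) (Lpe (f60068 IH) (Lpe (f73099 IH) (Lpe (f412243 IH) (Lpn (LP (LK LD1_c20 LD2_c7 LD3_c1))))))))))))
theorem f561980 : Led Lsl_ct (LP (LK LD1_c25 LD2_c39 LD3_c43)) = (LP (LK LD1_c20 LD2_c7 LD3_c1)) :=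
  Lgr Lrot59 (Lpr_cf (f561970 IH) (Lpn (LP (LK LD1_c20 LD2_c7 LD3_c1))))
theorem f73104 : Led Lsl_ct (LP (LK LD1_c11 LD2_c59 LD3_c23)) = (LP (LK LD1_c21 LD2_c3 LD3_c56)) :=
  Lre_c IH (LK LD1_c11 LD2_c59 LD3_c23) (LK LD1_c21 LD2_c3 LD3_c56) Lrfl Lrfl
theorem f561984 : Led Lsl_ff (LP (LK LD1_c25 LD2_c39 LD3_c43)) = (LP (LK LD1_c21 LD2_c3 LD3_c56)) :=
  Lgr Lrot23 (Lpr_ct (f561980 IH) (Lpr_ft (f412234 IH) (Lpr_ct (f73104 IH) (Lpn (LP (LK LD1_c21 LD2_c3 LD3_c56))))))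
theorem f172286 : Led Lsl_bt (LP (LK LD1_c11 LD2_c12 LD3_c26)) = (LP (LK LD1_c5 LD2_c40 LD3_c57)) :=
  Lre_b IH (LK LD1_c11 LD2_c12 LD3_c26) (LK LD1_c5 LD2_c40 LD3_c57) Lrfl Lrfl
theorem f541718 : Led Lsl_bt (LP (LK LD1_c9 LD2_c45 LD3_c25)) = (LP (LK LD1_c17 LD2_c55 LD3_c3)) :=
  Lre_b IH (LK LD1_c9 LD2_c45 LD3_c25) (LK LD1_c17 LD2_c55 LD3_c3) Lrfl Lrfl
theorem f541719 : Led Lsl_cf (LP (LK LD1_c11 LD2_c12 LD3_c26)) = (LP (LK LD1_c17 LD2_c55 LD3_c3)) :=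
  Lgr Lrot97 (Lpr_bt (f172286 IH) (Lpr_ct (K39.f412097 IH) (Lpr_bt (f68811 IH) (Lpr_ct (K36.f541715 IH) (Lpr_bt (f541718 IH) (Lpn (LP (LK LD1_c17 LD2_c55 LD3_c3))))))))
theorem f561978 : Led Lsl_at (LP (LK LD1_c25 LD2_c39 LD3_c43)) = (LP (LK LD1_c17 LD2_c55 LD3_c3)) :=
  Lgr Lrot107 (Lpr_cf (f561970 IH) (Lpe (f412233 IH) (Lpr_cf (f541719 IH) (Lpn (LP (LK LD1_c17 LD2_c55 LD3_c3))))))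
theorem f382103 : Led Lsl_ct (LP (LK LD1_c5 LD2_c43 LD3_c22)) = (LP (LK LD1_c11 LD2_c16 LD3_c48)) :=
  Lre_c IH (LK LD1_c5 LD2_c43 LD3_c22) (LK LD1_c11 LD2_c16 LD3_c48) Lrfl Lrfl
theorem f381429 : Led Lsl_ct (LP (LK LD1_c9 LD2_c45 LD3_c24)) = (LP (LK LD1_c5 LD2_c42 LD3_c50)) :=
  Lgr Lrot59 (Lpr_cf (K36.f381408 IH) (Lpn (LP (LK LD1_c5 LD2_c42 LD3_c50))))
theorem f561730 : Led Lsl_ft (LP (LK LD1_c11 LD2_c16 LD3_c48)) = (LP (LK LD1_c9 LD2_c45 LD3_c24)) :=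
  Lgr Lrot4 (Lpe (f382103 IH) (Lpr_ff (f561728 IH) (Lpe (f381429 IH) (Lpn (LP (LK LD1_c9 LD2_c45 LD3_c24))))))
theorem f382104 : Led Lsl_ct (LP (LK LD1_c11 LD2_c16 LD3_c48)) = (LP (LK LD1_c5 LD2_c43 LD3_c22)) :=
  Lre_c IH (LK LD1_c11 LD2_c16 LD3_c48) (LK LD1_c5 LD2_c43 LD3_c22) Lrfl Lrfl
theorem f561738 : Led Lsl_af (LP (LK LD1_c11 LD2_c16 LD3_c48)) = (LP (LK LD1_c9 LD2_c45 LD3_c25)) :=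
  Lgr Lrot68 (Lpr_ct (f382104 IH) (Lpr_at (f561734 IH) (Lpr_ct (K36.f541715 IH) (Lpn (LP (LK LD1_c9 LD2_c45 LD3_c25))))))
theorem f561755 : Led Lsl_ff (LP (LK LD1_c9 LD2_c45 LD3_c25)) = (LP (LK LD1_c6 LD2_c8 LD3_c53)) :=
  Lgr Lrot30 (Lpe (f561738 IH) (Lpr_ft (f561730 IH) (Lpr_at (f561744 IH) (Lpn (LP (LK LD1_c6 LD2_c8 LD3_c53))))))
theorem f60083 : Led Lsl_bt (LP (LK LD1_c11 LD2_c59 LD3_c6)) = (LP (LK LD1_c6 LD2_c8 LD3_c53)) :=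
  Lre_b IH (LK LD1_c11 LD2_c59 LD3_c6) (LK LD1_c6 LD2_c8 LD3_c53) Lrfl Lrfl
theorem f561757 : Led Lsl_ft (LP (LK LD1_c17 LD2_c55 LD3_c3)) = (LP (LK LD1_c11 LD2_c59 LD3_c6)) :=
  Lgr Lrot75 (Lpe (f541718 IH) (Lpr_ff (f561755 IH) (Lpe (f60083 IH) (Lpn (LP (LK LD1_c11 LD2_c59 LD3_c6))))))
theorem f541721 : Led Lsl_cf (LP (LK LD1_c5 LD2_c42 LD3_c21)) = (LP (LK LD1_c9 LD2_c45 LD3_c25)) :=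
  Lgr Lrot11 (Lpr_ct (K36.f541715 IH) (Lpn (LP (LK LD1_c9 LD2_c45 LD3_c25))))
theorem f541730 : Led Lsl_gt (LP (LK LD1_c17 LD2_c55 LD3_c3)) = (LP (LK LD1_c24 LD2_c52 LD3_c52)) :=
  Lgr Lrot164 (Lpe (f541718 IH) (Lpe (f541721 IH) (Lpr_gf (K36.f541726 IH) (Lpr_cf (K39.f382132 IH) (Lpe (K27.f289501 IH) (Lpr_bf (K20.f226743 IH) (Lpr_ct (K30.f165022 IH) (Lpe (K27.f380869 IH) (Lpe (K31.f174024 IH) (Lpr_bt (K30.f174028 IH) (Lpn (LP (LK LD1_c24 LD2_c52 LD3_c52)))))))))))))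
theorem f443842 : Led Lsl_at (LP (LK LD1_c11 LD2_c59 LD3_c6)) = (LP (LK LD1_c21 LD2_c3 LD3_c56)) :=
  Lre_a IH (LK LD1_c11 LD2_c59 LD3_c6) (LK LD1_c21 LD2_c3 LD3_c56) Lrfl Lrfl
theorem f561766 : Led Lsl_gt (LP (LK LD1_c24 LD2_c52 LD3_c52)) = (LP (LK LD1_c21 LD2_c3 LD3_c56)) :=
  Lgr Lrot46 (Lpe (f541730 IH) (Lpr_ft (f561757 IH) (Lpr_at (f443842 IH) (Lpn (LP (LK LD1_c21 LD2_c3 LD3_c56))))))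
theorem f542153 : Led Lsl_bt (LP (LK LD1_c6 LD2_c8 LD3_c53)) = (LP (LK LD1_c11 LD2_c59 LD3_c6)) :=
  Lre_b IH (LK LD1_c6 LD2_c8 LD3_c53) (LK LD1_c11 LD2_c59 LD3_c6) Lrfl Lrfl
theorem f542154 : Led Lsl_gt (LP (LK LD1_c11 LD2_c59 LD3_c6)) = (LP (LK LD1_c21 LD2_c3 LD3_c55)) :=
  Lre_g IH (LK LD1_c11 LD2_c59 LD3_c6) (LK LD1_c21 LD2_c3 LD3_c55) Lrfl Lrfl
theorem f542155 : Led Lsl_bf (LP (LK LD1_c21 LD2_c3 LD3_c55)) = (LP (LK LD1_c19 LD2_c42 LD3_c36)) :=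
  Lgr Lrot34 (Lpe (f542154 IH) (Lpe (f542153 IH) (Lpr_ct (f68914 IH) (Lpr_gf (K37.f542147 IH) (Lpe (K27.f381393 IH) (Lpr_gf (K27.f381394 IH) (Lpr_bf (K20.f319546 IH) (Lpr_ct (K20.f178912 IH) (Lpe (K20.f318683 IH) (Lpe (K20.f173715 IH) (Lpn (LP (LK LD1_c19 LD2_c42 LD3_c36)))))))))))))
theorem f542163 : Led Lsl_ft (LP (LK LD1_c21 LD2_c3 LD3_c55)) = (LP (LK LD1_c24 LD2_c52 LD3_c52)) :=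
  Lgr Lrot75 (Lpr_bf (f542155 IH) (Lpr_ff (K30.f318874 IH) (Lpe (K30.f318867 IH) (Lpn (LP (LK LD1_c24 LD2_c52 LD3_c52))))))
theorem f542169 : Led Lsl_ff (LP (LK LD1_c21 LD2_c3 LD3_c55)) = (LP (LK LD1_c24 LD2_c52 LD3_c52)) :=
  Lgr Lrot3 (Lpr_ft (f542163 IH) (Lpn (LP (LK LD1_c24 LD2_c52 LD3_c52))))
theorem f290271 : Led Lsl_ft (LP (LK LD1_c8 LD2_c21 LD3_c28)) = (LP (LK LD1_c8 LD2_c33 LD3_c9)) :=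
  Lgr Lrot4 (Lpr_cf (K15.f262662 IH) (Lpr_ff (K12.f222876 IH) (Lpr_cf (K17.f290261 IH) (Lpn (LP (LK LD1_c8 LD2_c33 LD3_c9))))))
theorem f290285 : Led Lsl_at (LP (LK LD1_c8 LD2_c33 LD3_c9)) = (LP (LK LD1_c8 LD2_c21 LD3_c29)) :=
  Lgr Lrot66 (Lpe (f290271 IH) (Lpe (K17.f290279 IH) (Lpr_ff (K17.f290283 IH) (Lpn (LP (LK LD1_c8 LD2_c21 LD3_c29))))))
theorem f252015 : Led Lsl_bt (LP (LK LD1_c16 LD2_c3 LD3_c14)) = (LP (LK LD1_c8 LD2_c33 LD3_c9)) :=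
  Lre_b IH (LK LD1_c16 LD2_c3 LD3_c14) (LK LD1_c8 LD2_c33 LD3_c9) Lrfl Lrfl
theorem f542157 : Led Lsl_at (LP (LK LD1_c21 LD2_c3 LD3_c55)) = (LP (LK LD1_c16 LD2_c3 LD3_c14)) :=
  Lgr Lrot67 (Lpr_bf (f542155 IH) (Lpr_af (K20.f318462 IH) (Lpr_bf (K31.f200574 IH) (Lpe (f290285 IH) (Lpe (f252015 IH) (Lpn (LP (LK LD1_c16 LD2_c3 LD3_c14))))))))
theorem f561768 : Led Lsl_gf (LP (LK LD1_c16 LD2_c3 LD3_c14)) = (LP (LK LD1_c21 LD2_c3 LD3_c56)) :=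
  Lgr Lrot76 (Lpe (f542157 IH) (Lpr_ff (f542169 IH) (Lpr_gt (f561766 IH) (Lpn (LP (LK LD1_c21 LD2_c3 LD3_c56))))))
theorem f561986 : Led Lsl_gf (LP (LK LD1_c17 LD2_c55 LD3_c3)) = (LP (LK LD1_c16 LD2_c3 LD3_c14)) :=
  Lgr Lrot76 (Lpe (f561978 IH) (Lpr_ff (f561984 IH) (Lpe (f561768 IH) (Lpn (LP (LK LD1_c16 LD2_c3 LD3_c14))))))
theorem f60082 : Led Lsl_ct (LP (LK LD1_c11 LD2_c59 LD3_c6)) = (LP (LK LD1_c6 LD2_c9 LD3_c8)) :=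
  Lre_c IH (LK LD1_c11 LD2_c59 LD3_c6) (LK LD1_c6 LD2_c9 LD3_c8) Lrfl Lrfl
theorem f561760 : Led Lsl_cf (LP (LK LD1_c17 LD2_c55 LD3_c3)) = (LP (LK LD1_c11 LD2_c12 LD3_c26)) :=
  Lgr Lrot108 (Lpr_ft (f561757 IH) (Lpr_ct (f60082 IH) (Lpe (f412231 IH) (Lpn (LP (LK LD1_c11 LD2_c12 LD3_c26))))))
theorem f73156 : Led Lsl_bt (LP (LK LD1_c2 LD2_c49 LD3_c31)) = (LP (LK LD1_c5 LD2_c47 LD3_c14)) :=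
  Lre_b IH (LK LD1_c2 LD2_c49 LD3_c31) (LK LD1_c5 LD2_c47 LD3_c14) Lrfl Lrfl
theorem f172269 : Led Lsl_gt (LP (LK LD1_c5 LD2_c47 LD3_c14)) = (LP (LK LD1_c11 LD2_c24 LD3_c37)) :=
  Lre_g IH (LK LD1_c5 LD2_c47 LD3_c14) (LK LD1_c11 LD2_c24 LD3_c37) Lrfl Lrfl
theorem f172285 : Led Lsl_bt (LP (LK LD1_c20 LD2_c22 LD3_c21)) = (LP (LK LD1_c11 LD2_c24 LD3_c37)) :=
  Lre_b IH (LK LD1_c20 LD2_c22 LD3_c21) (LK LD1_c11 LD2_c24 LD3_c37) Lrfl Lrfl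
theorem f561988 : Led Lsl_ct (LP (LK LD1_c20 LD2_c22 LD3_c21)) = (LP (LK LD1_c16 LD2_c3 LD3_c14)) :=
  Lgr Lrot64 (Lpr_bt (f172285 IH) (Lpe (f172269 IH) (Lpe (f73156 IH) (Lpr_ct (K17.f73140 IH) (Lpr_gf (K9.f172276 IH) (Lpe (K37.f172279 IH) (Lpe (K37.f172281 IH) (Lpe (f172286 IH) (Lpe (f561760 IH) (Lpr_gf (f561986 IH) (Lpn (LP (LK LD1_c16 LD2_c3 LD3_c14)))))))))))))
theorem f561993 : Led Lsl_cf (LP (LK LD1_c20 LD2_c22 LD3_c21)) = (LP (LK LD1_c16 LD2_c3 LD3_c14)) :=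
  Lgr Lrot11 (Lpr_ct (f561988 IH) (Lpn (LP (LK LD1_c16 LD2_c3 LD3_c14))))
theorem f290275 : Led Lsl_bt (LP (LK LD1_c8 LD2_c33 LD3_c9)) = (LP (LK LD1_c16 LD2_c3 LD3_c14)) :=
  Lre_b IH (LK LD1_c8 LD2_c33 LD3_c9) (LK LD1_c16 LD2_c3 LD3_c14) Lrfl Lrfl
theorem f561999 : Led Lsl_ct (LP (LK LD1_c11 LD2_c24 LD3_c37)) = (LP (LK LD1_c15 LD2_c27 LD3_c24)) :=
  Lgr Lrot83 (Lpe (f172285 IH) (Lpr_cf (f561993 IH) (Lpe (f290275 IH) (Lpe (K19.f290259 IH) (Lpe (K12.f53788 IH) (Lpn (LP (LK LD1_c15 LD2_c27 LD3_c24))))))))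
theorem f172282 : Led Lsl_bt (LP (LK LD1_c2 LD2_c46 LD3_c25)) = (LP (LK LD1_c5 LD2_c40 LD3_c58)) :=
  Lre_b IH (LK LD1_c2 LD2_c46 LD3_c25) (LK LD1_c5 LD2_c40 LD3_c58) Lrfl Lrfl
theorem f172283 : Led Lsl_gt (LP (LK LD1_c11 LD2_c12 LD3_c29)) = (LP (LK LD1_c5 LD2_c40 LD3_c58)) :=
  Lre_g IH (LK LD1_c11 LD2_c12 LD3_c29) (LK LD1_c5 LD2_c40 LD3_c58) Lrfl Lrfl
theorem f172284 : Led Lsl_bt (LP (LK LD1_c20 LD2_c7 LD3_c4)) = (LP (LK LD1_c11 LD2_c12 LD3_c29)) :=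
  Lre_b IH (LK LD1_c20 LD2_c7 LD3_c4) (LK LD1_c11 LD2_c12 LD3_c29) Lrfl Lrfl
theorem f54016 : Led Lsl_gt (LP (LK LD1_c15 LD2_c27 LD3_c24)) = (LP (LK LD1_c25 LD2_c19 LD3_c2)) :=
  Lre_g IH (LK LD1_c15 LD2_c27 LD3_c24) (LK LD1_c25 LD2_c19 LD3_c2) Lrfl Lrfl
theorem f562001 : Led Lsl_ct (LP (LK LD1_c20 LD2_c7 LD3_c4)) = (LP (LK LD1_c25 LD2_c19 LD3_c2)) :=
  Lgr Lrot63 (Lpr_bt (f172284 IH) (Lpr_gt (f172283 IH) (Lpe (f172282 IH) (Lpr_ct (K37.f172279 IH) (Lpe (K9.f172276 IH) (Lpe (K17.f73140 IH) (Lpr_bt (f73156 IH) (Lpr_gt (f172269 IH) (Lpr_ct (f561999 IH) (Lpr_gt (f54016 IH) (Lpn (LP (LK LD1_c25 LD2_c19 LD3_c2)))))))))))))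
theorem f562004 : Led Lsl_cf (LP (LK LD1_c20 LD2_c7 LD3_c4)) = (LP (LK LD1_c25 LD2_c19 LD3_c2)) :=
  Lgr Lrot11 (Lpr_ct (f562001 IH) (Lpn (LP (LK LD1_c25 LD2_c19 LD3_c2))))
theorem f354448 : Led Lsl_ff (LP (LK LD1_c5 LD2_c34 LD3_c38)) = (LP (LK LD1_c8 LD2_c59 LD3_c34)) :=
  Lgr Lrot23 (Lpr_ct (K30.f44743 IH) (Lpr_ft (K30.f354356 IH) (Lpr_ct (K30.f173415 IH) (Lpn (LP (LK LD1_c8 LD2_c59 LD3_c34))))))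
theorem f225164 : Led Lsl_bt (LP (LK LD1_c4 LD2_c31 LD3_c8)) = (LP (LK LD1_c8 LD2_c59 LD3_c34)) :=
  Lgr Lrot128 (Lpe (K30.f211811 IH) (Lpe (K30.f225163 IH) (Lpr_cf (K12.f225160 IH) (Lpe (K30.f173414 IH) (Lpe (K30.f173468 IH) (Lpn (LP (LK LD1_c8 LD2_c59 LD3_c34))))))))
theorem f354394 : Led Lsl_ft (LP (LK LD1_c2 LD2_c45 LD3_c61)) = (LP (LK LD1_c4 LD2_c31 LD3_c8)) :=
  Lgr Lrot48 (Lpr_ff (K39.f354384 IH) (Lpn (LP (LK LD1_c4 LD2_c31 LD3_c8))))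
theorem f354461 : Led Lsl_bt (LP (LK LD1_c5 LD2_c34 LD3_c38)) = (LP (LK LD1_c2 LD2_c45 LD3_c61)) :=
  Lgr Lrot35 (Lpr_ff (f354448 IH) (Lpe (f225164 IH) (Lpe (f354394 IH) (Lpn (LP (LK LD1_c2 LD2_c45 LD3_c61))))))
theorem f354469 : Led Lsl_bf (LP (LK LD1_c5 LD2_c34 LD3_c38)) = (LP (LK LD1_c2 LD2_c45 LD3_c61)) :=
  Lgr Lrot24 (Lpr_bt (f354461 IH) (Lpn (LP (LK LD1_c2 LD2_c45 LD3_c61))))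
theorem f354463 : Led Lsl_ft (LP (LK LD1_c5 LD2_c34 LD3_c38)) = (LP (LK LD1_c8 LD2_c59 LD3_c34)) :=
  Lgr Lrot48 (Lpr_ff (f354448 IH) (Lpn (LP (LK LD1_c8 LD2_c59 LD3_c34))))
theorem f354486 : Led Lsl_bt (LP (LK LD1_c8 LD2_c59 LD3_c34)) = (LP (LK LD1_c4 LD2_c31 LD3_c8)) :=
  Lgr Lrot35 (Lpe (f354463 IH) (Lpr_bf (f354469 IH) (Lpr_ff (K39.f354384 IH) (Lpn (LP (LK LD1_c4 LD2_c31 LD3_c8))))))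
theorem f549364 : Led Lsl_dt (LP (LK LD1_c5 LD2_c40 LD3_c58)) = (LP (LK LD1_c8 LD2_c59 LD3_c34)) :=
  Lgr Lrot79 (Lpe (f172282 IH) (Lpr_df (K39.f549360 IH) (Lpe (f354486 IH) (Lpn (LP (LK LD1_c8 LD2_c59 LD3_c34))))))
theorem f167922 : Led Lsl_bt (LP (LK LD1_c0 LD2_c12 LD3_c40)) = (LP (LK LD1_c0 LD2_c28 LD3_c33)) :=
  Lre_b IH (LK LD1_c0 LD2_c12 LD3_c40) (LK LD1_c0 LD2_c28 LD3_c33) Lrfl Lrfl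
theorem f290183 : Led Lsl_gf (LP (LK LD1_c2 LD2_c3 LD3_c60)) = (LP (LK LD1_c2 LD2_c6 LD3_c57)) :=
  Lgr Lrot144 (Lpr_dt (K14.f251683 IH) (Lpr_gt (K14.f171508 IH) (Lpr_dt (K12.f171436 IH) (Lpr_cf (K10.f187061 IH) (Lpe (K10.f169377 IH) (Lpe (K14.f169423 IH) (Lpr_df (K17.f290168 IH) (Lpr_gf (K17.f290162 IH) (Lpr_cf (K18.f200623 IH) (Lpn (LP (LK LD1_c2 LD2_c6 LD3_c57))))))))))))
theorem f250801 : Led Lsl_gt (LP (LK LD1_c8 LD2_c36 LD3_c9)) = (LP (LK LD1_c16 LD2_c7 LD3_c32)) :=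
  Lre_g IH (LK LD1_c8 LD2_c36 LD3_c9) (LK LD1_c16 LD2_c7 LD3_c32) Lrfl Lrfl
theorem f562007 : Led Lsl_dt (LP (LK LD1_c16 LD2_c7 LD3_c32)) = (LP (LK LD1_c25 LD2_c19 LD3_c2)) :=
  Lgr Lrot182 (Lpe (f250801 IH) (Lpe (K21.f250769 IH) (Lpe (K15.f250768 IH) (Lpe (K14.f251683 IH) (Lpr_gf (f290183 IH) (Lpe (K18.f284092 IH) (Lpr_cf (K19.f276642 IH) (Lpr_df (K17.f253284 IH) (Lpe (K14.f235210 IH) (Lpe (f167922 IH) (Lpe (K9.f8559 IH) (Lpe (K9.f168797 IH) (Lpe (K15.f9236 IH) (Lpe (K30.f173414 IH) (Lpe (K30.f173468 IH) (Lpe (f549364 IH) (Lpe (f172283 IH) (Lpe (f172284 IH) (Lpr_cf (f562004 IH) (Lpn (LP (LK LD1_c25 LD2_c19 LD3_c2))))))))))))))))))))))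
theorem f220150 : Led Lsl_at (LP (LK LD1_c8 LD2_c25 LD3_c19)) = (LP (LK LD1_c15 LD2_c49 LD3_c31)) :=
  Lre_a IH (LK LD1_c8 LD2_c25 LD3_c19) (LK LD1_c15 LD2_c49 LD3_c31) Lrfl Lrfl
theorem f329344 : Led Lsl_gf (LP (LK LD1_c15 LD2_c49 LD3_c31)) = (LP (LK LD1_c16 LD2_c7 LD3_c32)) :=
  Lgr Lrot76 (Lpe (f220150 IH) (Lpr_ff (K21.f329338 IH) (Lpr_gt (f250801 IH) (Lpn (LP (LK LD1_c16 LD2_c7 LD3_c32))))))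
theorem f234677 : Led Lsl_gt (LP (LK LD1_c19 LD2_c35 LD3_c43)) = (LP (LK LD1_c10 LD2_c50 LD3_c21)) :=
  Lre_g IH (LK LD1_c19 LD2_c35 LD3_c43) (LK LD1_c10 LD2_c50 LD3_c21) Lrfl Lrfl
theorem f329329 : Led Lsl_gt (LP (LK LD1_c15 LD2_c35 LD3_c20)) = (LP (LK LD1_c19 LD2_c35 LD3_c43)) :=
  Lgr Lrot5 (Lpr_ft (K21.f329318 IH) (Lpr_at (K21.f250800 IH) (Lpe (f234677 IH) (Lpn (LP (LK LD1_c19 LD2_c35 LD3_c43))))))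
theorem f250803 : Led Lsl_bt (LP (LK LD1_c8 LD2_c36 LD3_c9)) = (LP (LK LD1_c4 LD2_c18 LD3_c45)) :=
  Lre_b IH (LK LD1_c8 LD2_c36 LD3_c9) (LK LD1_c4 LD2_c18 LD3_c45) Lrfl Lrfl
theorem f383942 : Led Lsl_bt (LP (LK LD1_c20 LD2_c12 LD3_c60)) = (LP (LK LD1_c11 LD2_c17 LD3_c0)) :=
  Lre_b IH (LK LD1_c20 LD2_c12 LD3_c60) (LK LD1_c11 LD2_c17 LD3_c0) Lrfl Lrfl
theorem f383943 : Led Lsl_cf (LP (LK LD1_c19 LD2_c35 LD3_c43)) = (LP (LK LD1_c20 LD2_c12 LD3_c60)) :=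
  Lgr Lrot160 (Lpr_gt (f234677 IH) (Lpr_cf (K21.f250770 IH) (Lpr_bt (f250803 IH) (Lpe (K15.f250820 IH) (Lpr_ct (K17.f229635 IH) (Lpe (K14.f229641 IH) (Lpe (K19.f184306 IH) (Lpr_bt (K27.f184302 IH) (Lpr_gt (K27.f383861 IH) (Lpe (f383942 IH) (Lpn (LP (LK LD1_c20 LD2_c12 LD3_c60)))))))))))))
theorem f383949 : Led Lsl_ct (LP (LK LD1_c19 LD2_c35 LD3_c43)) = (LP (LK LD1_c20 LD2_c12 LD3_c60)) :=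
  Lgr Lrot59 (Lpr_cf (f383943 IH) (Lpn (LP (LK LD1_c20 LD2_c12 LD3_c60))))
theorem f383951 : Led Lsl_dt (LP (LK LD1_c11 LD2_c16 LD3_c61)) = (LP (LK LD1_c20 LD2_c12 LD3_c60)) :=
  Lre_d IH (LK LD1_c11 LD2_c16 LD3_c61) (LK LD1_c20 LD2_c12 LD3_c60) Lrfl Lrfl
theorem f382393 : Led Lsl_bt (LP (LK LD1_c11 LD2_c16 LD3_c61)) = (LP (LK LD1_c5 LD2_c43 LD3_c28)) :=
  Lre_b IH (LK LD1_c11 LD2_c16 LD3_c61) (LK LD1_c5 LD2_c43 LD3_c28) Lrfl Lrfl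
theorem f558392 : Led Lsl_ct (LP (LK LD1_c5 LD2_c47 LD3_c14)) = (LP (LK LD1_c11 LD2_c16 LD3_c61)) :=
  Lgr Lrot83 (Lpe (f73156 IH) (Lpe (K17.f73150 IH) (Lpe (K17.f73136 IH) (Lpr_cf (f558353 IH) (Lpe (f382393 IH) (Lpn (LP (LK LD1_c11 LD2_c16 LD3_c61))))))))
theorem f172270 : Led Lsl_gt (LP (LK LD1_c11 LD2_c24 LD3_c38)) = (LP (LK LD1_c5 LD2_c47 LD3_c14)) :=
  Lre_g IH (LK LD1_c11 LD2_c24 LD3_c38) (LK LD1_c5 LD2_c47 LD3_c14) Lrfl Lrfl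
theorem f172274 : Led Lsl_ct (LP (LK LD1_c20 LD2_c22 LD3_c23)) = (LP (LK LD1_c11 LD2_c24 LD3_c38)) :=
  Lre_c IH (LK LD1_c20 LD2_c22 LD3_c23) (LK LD1_c11 LD2_c24 LD3_c38) Lrfl Lrfl
theorem f562011 : Led Lsl_gf (LP (LK LD1_c20 LD2_c22 LD3_c23)) = (LP (LK LD1_c25 LD2_c19 LD3_c2)) :=
  Lgr Lrot179 (Lpr_ct (f172274 IH) (Lpr_gt (f172270 IH) (Lpr_ct (f558392 IH) (Lpr_dt (f383951 IH) (Lpe (f383949 IH) (Lpe (f329329 IH) (Lpr_cf (K21.f220147 IH) (Lpr_gf (f329344 IH) (Lpr_dt (f562007 IH) (Lpn (LP (LK LD1_c25 LD2_c19 LD3_c2))))))))))))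
theorem f222871 : Led Lsl_bt (LP (LK LD1_c15 LD2_c49 LD3_c11)) = (LP (LK LD1_c8 LD2_c25 LD3_c8)) :=
  Lre_b IH (LK LD1_c15 LD2_c49 LD3_c11) (LK LD1_c8 LD2_c25 LD3_c8) Lrfl Lrfl
theorem f53802 : Led Lsl_bt (LP (LK LD1_c8 LD2_c13 LD3_c0)) = (LP (LK LD1_c15 LD2_c27 LD3_c24)) :=
  Lre_b IH (LK LD1_c8 LD2_c13 LD3_c0) (LK LD1_c15 LD2_c27 LD3_c24) Lrfl Lrfl
theorem f222874 : Led Lsl_ff (LP (LK LD1_c15 LD2_c49 LD3_c11)) = (LP (LK LD1_c15 LD2_c27 LD3_c24)) :=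
  Lgr Lrot25 (Lpr_bt (f222871 IH) (Lpr_ft (K12.f222867 IH) (Lpr_bt (f53802 IH) (Lpn (LP (LK LD1_c15 LD2_c27 LD3_c24))))))
theorem f562013 : Led Lsl_af (LP (LK LD1_c20 LD2_c22 LD3_c23)) = (LP (LK LD1_c15 LD2_c49 LD3_c11)) :=
  Lgr Lrot31 (Lpr_gf (f562011 IH) (Lpe (f54016 IH) (Lpe (f222874 IH) (Lpn (LP (LK LD1_c15 LD2_c49 LD3_c11))))))
theorem f188882 : Led Lsl_bt (LP (LK LD1_c16 LD2_c7 LD3_c12)) = (LP (LK LD1_c8 LD2_c35 LD3_c57)) :=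
  Lre_b IH (LK LD1_c16 LD2_c7 LD3_c12) (LK LD1_c8 LD2_c35 LD3_c57) Lrfl Lrfl
theorem f562017 : Led Lsl_bt (LP (LK LD1_c20 LD2_c22 LD3_c23)) = (LP (LK LD1_c19 LD2_c48 LD3_c56)) :=
  Lgr Lrot62 (Lpr_af (f562013 IH) (Lpe (K12.f222863 IH) (Lpr_af (K12.f222859 IH) (Lpe (f188882 IH) (Lpr_af (K27.f382628 IH) (Lpn (LP (LK LD1_c19 LD2_c48 LD3_c56))))))))
theorem f381173 : Led Lsl_ct (LP (LK LD1_c2 LD2_c47 LD3_c56)) = (LP (LK LD1_c1 LD2_c20 LD3_c14)) :=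
  Lre_c IH (LK LD1_c2 LD2_c47 LD3_c56) (LK LD1_c1 LD2_c20 LD3_c14) Lrfl Lrfl
theorem f562029 : Led Lsl_cf (LP (LK LD1_c5 LD2_c47 LD3_c14)) = (LP (LK LD1_c11 LD2_c16 LD3_c61)) :=
  Lgr Lrot58 (Lpe (f172270 IH) (Lpe (f172274 IH) (Lpr_bt (f562017 IH) (Lpe (K27.f174193 IH) (Lpr_bf (K27.f174145 IH) (Lpr_ct (K27.f174272 IH) (Lpe (K28.f381120 IH) (Lpe (f381173 IH) (Lpe (K27.f381541 IH) (Lpe (f382393 IH) (Lpn (LP (LK LD1_c11 LD2_c16 LD3_c61)))))))))))))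
theorem f177003 : Led Lsl_gf (LP (LK LD1_c2 LD2_c46 LD3_c30)) = (LP (LK LD1_c3 LD2_c0 LD3_c53)) :=
  Lgr Lrot134 (Lpe (K35.f176898 IH) (Lpr_et (K35.f176998 IH) (Lpe (K10.f24468 IH) (Lpe (K2.f23916 IH) (Lpr_dt (K0.f23915 IH) (Lpr_gt (K0.f23906 IH) (Lpe (K0.f22833 IH) (Lpr_et (K9.f22853 IH) (Lpr_gt (K9.f20229 IH) (Lpr_dt (K15.f23933 IH) (Lpn (LP (LK LD1_c3 LD2_c0 LD3_c53)))))))))))))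
theorem f553557 : Led Lsl_gt (LP (LK LD1_c5 LD2_c40 LD3_c5)) = (LP (LK LD1_c5 LD2_c46 LD3_c54)) :=
  Lgr Lrot49 (Lpr_df (f553546 IH) (Lpe (f553555 IH) (Lpe (K15.f26945 IH) (Lpe (f177003 IH) (Lpr_dt (K36.f176903 IH) (Lpe (K16.f268717 IH) (Lpr_dt (K36.f268721 IH) (Lpe (K16.f68737 IH) (Lpe (K16.f175856 IH) (Lpn (LP (LK LD1_c5 LD2_c46 LD3_c54))))))))))))
theorem f175859 : Led Lsl_ct (LP (LK LD1_c5 LD2_c46 LD3_c54)) = (LP (LK LD1_c2 LD2_c49 LD3_c13)) :=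
  Lre_c IH (LK LD1_c5 LD2_c46 LD3_c54) (LK LD1_c2 LD2_c49 LD3_c13) Lrfl Lrfl
theorem f553559 : Led Lsl_gf (LP (LK LD1_c6 LD2_c9 LD3_c6)) = (LP (LK LD1_c9 LD2_c0 LD3_c11)) :=
  Lgr Lrot147 (Lpr_ct (K16.f60130 IH) (Lpr_gt (K10.f60213 IH) (Lpr_ct (K39.f549382 IH) (Lpe (K39.f549416 IH) (Lpe (K39.f549371 IH) (Lpe (K11.f198632 IH) (Lpe (f175859 IH) (Lpe (f553557 IH) (Lpr_df (f553546 IH) (Lpn (LP (LK LD1_c9 LD2_c0 LD3_c11))))))))))))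
theorem f553562 : Led Lsl_gt (LP (LK LD1_c5 LD2_c42 LD3_c24)) = (LP (LK LD1_c5 LD2_c40 LD3_c5)) :=
  Lgr Lrot94 (Lpe (K16.f268513 IH) (Lpr_gt (K16.f175511 IH) (Lpr_dt (K36.f60210 IH) (Lpr_gt (K16.f268655 IH) (Lpr_dt (K16.f68732 IH) (Lpe (K16.f68728 IH) (Lpe (K16.f268686 IH) (Lpr_gf (f553559 IH) (Lpe (K39.f553544 IH) (Lpn (LP (LK LD1_c5 LD2_c40 LD3_c5))))))))))))
theorem f418803 : Led Lsl_df (LP (LK LD1_c4 LD2_c31 LD3_c6)) = (LP (LK LD1_c2 LD2_c12 LD3_c54)) :=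
  Lgr Lrot38 (Lpr_dt (K30.f418801 IH) (Lpn (LP (LK LD1_c2 LD2_c12 LD3_c54))))
def v1517 : LQ := Led Lsl_ft (LP (LK LD1_c1 LD2_c20 LD3_c54))
theorem f496013 : Led Lsl_ft (LP (LK LD1_c1 LD2_c20 LD3_c54)) = v1517 :=
  Lrfl
theorem f496016 : Led Lsl_ff (LP (LK LD1_c1 LD2_c20 LD3_c54)) = v1517 :=
  Lgr Lrot3 (Lpr_ft (f496013 IH) (Lpn v1517))
theorem f496019 : Led Lsl_gf K37.v1472 = v1517 :=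
  Lgr Lrot47 (Lpe (K37.f495737 IH) (Lpr_af (K17.f73137 IH) (Lpr_ff (f496016 IH) (Lpn v1517))))
theorem f496018 : Led Lsl_dt K39.v390 = v1517 :=
  Lgr Lrot60 (Lpe (K39.f452592 IH) (Lpe (K17.f73149 IH) (Lpr_ff (f496016 IH) (Lpn v1517))))
theorem f452493 : Led Lsl_dt (LP (LK LD1_c1 LD2_c19 LD3_c20)) = (LP (LK LD1_c2 LD2_c45 LD3_c57)) :=
  Lre_d IH (LK LD1_c1 LD2_c19 LD3_c20) (LK LD1_c2 LD2_c45 LD3_c57) Lrfl Lrfl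
theorem f537930 : v1517 = (LP (LK LD1_c2 LD2_c45 LD3_c57)) :=
  Lefun (Lecon (f496018 IH) (K39.f537769 IH).symm) (f452493 IH)
theorem f494075 : Led Lsl_ct (LP (LK LD1_c5 LD2_c39 LD3_c59)) = (LP (LK LD1_c2 LD2_c45 LD3_c57)) :=
  Lre_c IH (LK LD1_c5 LD2_c39 LD3_c59) (LK LD1_c2 LD2_c45 LD3_c57) Lrfl Lrfl
theorem f553564 : Led Lsl_gf (LP (LK LD1_c2 LD2_c47 LD3_c9)) = (LP (LK LD1_c5 LD2_c39 LD3_c59)) :=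
  Lgr Lrot144 (Lpr_dt (K16.f68782 IH) (Lpr_gt (f553562 IH) (Lpr_dt (K39.f553544 IH) (Lpe (K39.f354421 IH) (Lpr_df (f418803 IH) (Lpe (K30.f164718 IH) (Lpe (K30.f379940 IH) (Lpq (K37.f537458 IH) (Lpr_gf (f496019 IH) (Lpqs (f537930 IH) (Lpe (f494075 IH) (Lpn (LP (LK LD1_c5 LD2_c39 LD3_c59))))))))))))))
theorem f553574 : Led Lsl_df (LP (LK LD1_c3 LD2_c4 LD3_c51)) = (LP (LK LD1_c5 LD2_c39 LD3_c59)) :=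
  Lgr Lrot155 (Lpr_gt (K37.f420993 IH) (Lpr_ct (K16.f68737 IH) (Lpe (K36.f68917 IH) (Lpe (K37.f412092 IH) (Lpr_dt (K39.f412104 IH) (Lpe (K37.f60017 IH) (Lpe (K10.f68579 IH) (Lpe (f68598 IH) (Lpr_gf (f553564 IH) (Lpn (LP (LK LD1_c5 LD2_c39 LD3_c59))))))))))))
theorem f553588 : Led Lsl_ft (LP (LK LD1_c2 LD2_c49 LD3_c31)) = (LP (LK LD1_c5 LD2_c39 LD3_c59)) :=
  Lgr Lrot54 (Lpr_df (K17.f172166 IH) (Lpe (K17.f172189 IH) (Lpr_df (f553574 IH) (Lpn (LP (LK LD1_c5 LD2_c39 LD3_c59))))))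
theorem f553590 : Led Lsl_et (LP (LK LD1_c5 LD2_c39 LD3_c59)) = (LP (LK LD1_c11 LD2_c10 LD3_c52)) :=
  Lre_e IH (LK LD1_c5 LD2_c39 LD3_c59) (LK LD1_c11 LD2_c10 LD3_c52) Lrfl Lrfl
theorem f553597 : Led Lsl_ff (LP (LK LD1_c13 LD2_c2 LD3_c30)) = (LP (LK LD1_c11 LD2_c10 LD3_c52)) :=
  Lgr Lrot72 (Lpr_et (K9.f73686 IH) (Lpe (K17.f73697 IH) (Lpr_et (K17.f73170 IH) (Lpr_ft (f553588 IH) (Lpr_et (f553590 IH) (Lpn (LP (LK LD1_c11 LD2_c10 LD3_c52))))))))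
theorem f413725 : Led Lsl_et (LP (LK LD1_c9 LD2_c32 LD3_c12)) = (LP (LK LD1_c4 LD2_c49 LD3_c47)) :=
  Lre_e IH (LK LD1_c9 LD2_c32 LD3_c12) (LK LD1_c4 LD2_c49 LD3_c47) Lrfl Lrfl
theorem f414783 : Led Lsl_et (LP (LK LD1_c6 LD2_c45 LD3_c56)) = (LP (LK LD1_c12 LD2_c55 LD3_c42)) :=
  Lre_e IH (LK LD1_c6 LD2_c45 LD3_c56) (LK LD1_c12 LD2_c55 LD3_c42) Lrfl Lrfl
theorem f414793 : Led Lsl_cf (LP (LK LD1_c9 LD2_c32 LD3_c12)) = (LP (LK LD1_c12 LD2_c55 LD3_c42)) :=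
  Lgr Lrot39 (Lpr_et (f413725 IH) (Lpr_ct (K17.f414788 IH) (Lpr_et (f414783 IH) (Lpn (LP (LK LD1_c12 LD2_c55 LD3_c42))))))
theorem f553610 : Led Lsl_df (LP (LK LD1_c12 LD2_c55 LD3_c42)) = (LP (LK LD1_c11 LD2_c10 LD3_c52)) :=
  Lgr Lrot157 (Lpe (f414793 IH) (Lpr_dt (K17.f413753 IH) (Lpr_ct (K17.f140469 IH) (Lpr_dt (K17.f54839 IH) (Lpr_ct (K9.f55553 IH) (Lpr_dt (K17.f172209 IH) (Lpe (K17.f172200 IH) (Lpe (K9.f100740 IH) (Lpr_ff (f553597 IH) (Lpn (LP (LK LD1_c11 LD2_c10 LD3_c52))))))))))))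
theorem f414899 : Led Lsl_bt (LP (LK LD1_c12 LD2_c55 LD3_c42)) = (LP (LK LD1_c22 LD2_c5 LD3_c30)) :=
  Lre_b IH (LK LD1_c12 LD2_c55 LD3_c42) (LK LD1_c22 LD2_c5 LD3_c30) Lrfl Lrfl
theorem f553601 : Led Lsl_bt (LP (LK LD1_c20 LD2_c5 LD3_c36)) = (LP (LK LD1_c11 LD2_c10 LD3_c52)) :=
  Lre_b IH (LK LD1_c20 LD2_c5 LD3_c36) (LK LD1_c11 LD2_c10 LD3_c52) Lrfl Lrfl
theorem f553612 : Led Lsl_dt (LP (LK LD1_c22 LD2_c5 LD3_c30)) = (LP (LK LD1_c20 LD2_c5 LD3_c36)) :=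
  Lgr Lrot79 (Lpe (f414899 IH) (Lpr_df (f553610 IH) (Lpe (f553601 IH) (Lpn (LP (LK LD1_c20 LD2_c5 LD3_c36))))))
theorem f414775 : Led Lsl_bt (LP (LK LD1_c6 LD2_c45 LD3_c56)) = (LP (LK LD1_c12 LD2_c55 LD3_c41)) :=
  Lre_b IH (LK LD1_c6 LD2_c45 LD3_c56) (LK LD1_c12 LD2_c55 LD3_c41) Lrfl Lrfl
theorem f73913 : Led Lsl_bt (LP (LK LD1_c11 LD2_c30 LD3_c54)) = (LP (LK LD1_c5 LD2_c51 LD3_c49)) :=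
  Lre_b IH (LK LD1_c11 LD2_c30 LD3_c54) (LK LD1_c5 LD2_c51 LD3_c49) Lrfl Lrfl
theorem f414814 : Led Lsl_dt (LP (LK LD1_c12 LD2_c55 LD3_c41)) = (LP (LK LD1_c11 LD2_c30 LD3_c54)) :=
  Lgr Lrot79 (Lpe (f414775 IH) (Lpr_df (K17.f414812 IH) (Lpe (f73913 IH) (Lpn (LP (LK LD1_c11 LD2_c30 LD3_c54))))))
theorem f73926 : Led Lsl_bt (LP (LK LD1_c18 LD2_c2 LD3_c15)) = (LP (LK LD1_c9 LD2_c51 LD3_c7)) :=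
  Lre_b IH (LK LD1_c18 LD2_c2 LD3_c15) (LK LD1_c9 LD2_c51 LD3_c7) Lrfl Lrfl
theorem f73927 : Led Lsl_ff (LP (LK LD1_c18 LD2_c2 LD3_c15)) = (LP (LK LD1_c11 LD2_c30 LD3_c54)) :=
  Lgr Lrot25 (Lpr_bt (f73926 IH) (Lpr_ft (K17.f73924 IH) (Lpr_bt (K17.f73902 IH) (Lpn (LP (LK LD1_c11 LD2_c30 LD3_c54))))))
theorem f73954 : Led Lsl_dt (LP (LK LD1_c18 LD2_c2 LD3_c15)) = (LP (LK LD1_c9 LD2_c51 LD3_c6)) :=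
  Lre_d IH (LK LD1_c18 LD2_c2 LD3_c15) (LK LD1_c9 LD2_c51 LD3_c6) Lrfl Lrfl
theorem f414856 : Led Lsl_ff (LP (LK LD1_c12 LD2_c55 LD3_c41)) = (LP (LK LD1_c9 LD2_c51 LD3_c6)) :=
  Lgr Lrot19 (Lpr_dt (f414814 IH) (Lpe (f73927 IH) (Lpr_dt (f73954 IH) (Lpn (LP (LK LD1_c9 LD2_c51 LD3_c6))))))
theorem f414865 : Led Lsl_ft (LP (LK LD1_c12 LD2_c55 LD3_c41)) = (LP (LK LD1_c9 LD2_c51 LD3_c6)) :=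
  Lgr Lrot48 (Lpr_ff (f414856 IH) (Lpn (LP (LK LD1_c9 LD2_c51 LD3_c6))))
theorem f414855 : Led Lsl_et (LP (LK LD1_c22 LD2_c5 LD3_c30)) = (LP (LK LD1_c12 LD2_c55 LD3_c41)) :=
  Lre_e IH (LK LD1_c22 LD2_c5 LD3_c30) (LK LD1_c12 LD2_c55 LD3_c41) Lrfl Lrfl
theorem f414871 : Led Lsl_et (LP (LK LD1_c9 LD2_c51 LD3_c6)) = (LP (LK LD1_c5 LD2_c0 LD3_c27)) :=
  Lre_e IH (LK LD1_c9 LD2_c51 LD3_c6) (LK LD1_c5 LD2_c0 LD3_c27) Lrfl Lrfl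
theorem f100783 : Led Lsl_et (LP (LK LD1_c9 LD2_c46 LD3_c54)) = (LP (LK LD1_c17 LD2_c56 LD3_c52)) :=
  Lre_e IH (LK LD1_c9 LD2_c46 LD3_c54) (LK LD1_c17 LD2_c56 LD3_c52) Lrfl Lrfl
theorem f414872 : Led Lsl_ff (LP (LK LD1_c22 LD2_c5 LD3_c30)) = (LP (LK LD1_c17 LD2_c56 LD3_c52)) :=
  Lgr Lrot72 (Lpr_et (f414855 IH) (Lpr_ft (f414865 IH) (Lpr_et (f414871 IH) (Lpr_ft (K9.f100766 IH) (Lpr_et (f100783 IH) (Lpn (LP (LK LD1_c17 LD2_c56 LD3_c52))))))))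
theorem f553669 : Led Lsl_ff (LP (LK LD1_c22 LD2_c12 LD3_c5)) = (LP (LK LD1_c20 LD2_c5 LD3_c36)) :=
  Lgr Lrot19 (Lpr_dt (K9.f100745 IH) (Lpe (f414872 IH) (Lpr_dt (f553612 IH) (Lpn (LP (LK LD1_c20 LD2_c5 LD3_c36))))))
theorem f73729 : Led Lsl_et (LP (LK LD1_c22 LD2_c12 LD3_c5)) = (LP (LK LD1_c13 LD2_c2 LD3_c29)) :=
  Lre_e IH (LK LD1_c22 LD2_c12 LD3_c5) (LK LD1_c13 LD2_c2 LD3_c29) Lrfl Lrfl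
theorem f61614 : Led Lsl_bt (LP (LK LD1_c11 LD2_c24 LD3_c36)) = (LP (LK LD1_c5 LD2_c47 LD3_c12)) :=
  Lre_b IH (LK LD1_c11 LD2_c24 LD3_c36) (LK LD1_c5 LD2_c47 LD3_c12) Lrfl Lrfl
theorem f73689 : Led Lsl_bt (LP (LK LD1_c6 LD2_c51 LD3_c18)) = (LP (LK LD1_c13 LD2_c2 LD3_c29)) :=
  Lre_b IH (LK LD1_c6 LD2_c51 LD3_c18) (LK LD1_c13 LD2_c2 LD3_c29) Lrfl Lrfl
theorem f73693 : Led Lsl_ff (LP (LK LD1_c11 LD2_c24 LD3_c36)) = (LP (LK LD1_c13 LD2_c2 LD3_c29)) :=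
  Lgr Lrot25 (Lpr_bt (f61614 IH) (Lpr_ft (K17.f73687 IH) (Lpr_bt (f73689 IH) (Lpn (LP (LK LD1_c13 LD2_c2 LD3_c29))))))
theorem f73728 : Led Lsl_et (LP (LK LD1_c11 LD2_c24 LD3_c36)) = (LP (LK LD1_c5 LD2_c47 LD3_c14)) :=
  Lre_e IH (LK LD1_c11 LD2_c24 LD3_c36) (LK LD1_c5 LD2_c47 LD3_c14) Lrfl Lrfl
theorem f553671 : Led Lsl_et (LP (LK LD1_c11 LD2_c10 LD3_c51)) = (LP (LK LD1_c20 LD2_c5 LD3_c36)) :=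
  Lre_e IH (LK LD1_c11 LD2_c10 LD3_c51) (LK LD1_c20 LD2_c5 LD3_c36) Lrfl Lrfl
theorem f553672 : Led Lsl_ft (LP (LK LD1_c5 LD2_c47 LD3_c14)) = (LP (LK LD1_c11 LD2_c10 LD3_c51)) :=
  Lgr Lrot86 (Lpe (f73728 IH) (Lpr_ff (f73693 IH) (Lpe (f73729 IH) (Lpr_ff (f553669 IH) (Lpe (f553671 IH) (Lpn (LP (LK LD1_c11 LD2_c10 LD3_c51))))))))
theorem f552511 : Led Lsl_ct (LP (LK LD1_c11 LD2_c10 LD3_c51)) = (LP (LK LD1_c20 LD2_c5 LD3_c32)) :=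
  Lre_c IH (LK LD1_c11 LD2_c10 LD3_c51) (LK LD1_c20 LD2_c5 LD3_c32) Lrfl Lrfl
theorem f562037 : Led Lsl_ft (LP (LK LD1_c20 LD2_c5 LD3_c32)) = (LP (LK LD1_c11 LD2_c16 LD3_c61)) :=
  Lgr Lrot4 (Lpe (f552511 IH) (Lpe (f553672 IH) (Lpr_cf (f562029 IH) (Lpn (LP (LK LD1_c11 LD2_c16 LD3_c61))))))
theorem f562046 : Led Lsl_ff (LP (LK LD1_c20 LD2_c5 LD3_c32)) = (LP (LK LD1_c11 LD2_c16 LD3_c61)) :=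
  Lgr Lrot3 (Lpr_ft (f562037 IH) (Lpn (LP (LK LD1_c11 LD2_c16 LD3_c61))))
theorem f552510 : Led Lsl_bt (LP (LK LD1_c20 LD2_c5 LD3_c32)) = (LP (LK LD1_c11 LD2_c10 LD3_c49)) :=
  Lre_b IH (LK LD1_c20 LD2_c5 LD3_c32) (LK LD1_c11 LD2_c10 LD3_c49) Lrfl Lrfl
theorem f558400 : Led Lsl_bt (LP (LK LD1_c5 LD2_c43 LD3_c28)) = (LP (LK LD1_c11 LD2_c16 LD3_c61)) :=
  Lre_b IH (LK LD1_c5 LD2_c43 LD3_c28) (LK LD1_c11 LD2_c16 LD3_c61) Lrfl Lrfl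
theorem f562053 : Led Lsl_ft (LP (LK LD1_c11 LD2_c10 LD3_c49)) = (LP (LK LD1_c5 LD2_c43 LD3_c28)) :=
  Lgr Lrot75 (Lpe (f552510 IH) (Lpr_ff (f562046 IH) (Lpe (f558400 IH) (Lpn (LP (LK LD1_c5 LD2_c43 LD3_c28))))))
theorem f381589 : Led Lsl_gt (LP (LK LD1_c5 LD2_c43 LD3_c14)) = (LP (LK LD1_c11 LD2_c16 LD3_c40)) :=
  Lre_g IH (LK LD1_c5 LD2_c43 LD3_c14) (LK LD1_c11 LD2_c16 LD3_c40) Lrfl Lrfl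
theorem f562061 : Led Lsl_af (LP (LK LD1_c11 LD2_c16 LD3_c40)) = (LP (LK LD1_c5 LD2_c43 LD3_c28)) :=
  Lgr Lrot31 (Lpe (f381589 IH) (Lpe (K39.f552504 IH) (Lpr_ft (f562053 IH) (Lpn (LP (LK LD1_c5 LD2_c43 LD3_c28))))))
theorem f381627 : Led Lsl_gt (LP (LK LD1_c11 LD2_c18 LD3_c36)) = (LP (LK LD1_c5 LD2_c44 LD3_c16)) :=
  Lre_g IH (LK LD1_c11 LD2_c18 LD3_c36) (LK LD1_c5 LD2_c44 LD3_c16) Lrfl Lrfl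
theorem f383260 : Led Lsl_dt (LP (LK LD1_c11 LD2_c16 LD3_c40)) = (LP (LK LD1_c11 LD2_c18 LD3_c36)) :=
  Lgr Lrot57 (Lpe (f381589 IH) (Lpe (K27.f381592 IH) (Lpr_gt (K37.f382451 IH) (Lpr_dt (K17.f211950 IH) (Lpr_gt (K27.f211949 IH) (Lpr_dt (K27.f383251 IH) (Lpe (K27.f381511 IH) (Lpe (K27.f381574 IH) (Lpe (f381627 IH) (Lpn (LP (LK LD1_c11 LD2_c18 LD3_c36))))))))))))
theorem f562063 : Led Lsl_at (LP (LK LD1_c11 LD2_c18 LD3_c36)) = (LP (LK LD1_c11 LD2_c17 LD3_c0)) :=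
  Lgr Lrot51 (Lpe (f383260 IH) (Lpr_af (f562061 IH) (Lpe (K27.f383829 IH) (Lpn (LP (LK LD1_c11 LD2_c17 LD3_c0))))))
theorem f562108 : Led Lsl_ff (LP (LK LD1_c11 LD2_c18 LD3_c36)) = (LP (LK LD1_c11 LD2_c17 LD3_c3)) :=
  Lgr Lrot52 (Lpr_at (f562063 IH) (Lpe (K27.f383861 IH) (Lpe (K32.f381169 IH) (Lpn (LP (LK LD1_c11 LD2_c17 LD3_c3))))))
theorem f562114 : Led Lsl_ft (LP (LK LD1_c11 LD2_c18 LD3_c36)) = (LP (LK LD1_c11 LD2_c17 LD3_c3)) :=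
  Lgr Lrot48 (Lpr_ff (f562108 IH) (Lpn (LP (LK LD1_c11 LD2_c17 LD3_c3))))
theorem f381806 : Led Lsl_gt (LP (LK LD1_c5 LD2_c44 LD3_c16)) = (LP (LK LD1_c11 LD2_c18 LD3_c35)) :=
  Lre_g IH (LK LD1_c5 LD2_c44 LD3_c16) (LK LD1_c11 LD2_c18 LD3_c35) Lrfl Lrfl
theorem f562121 : Led Lsl_af (LP (LK LD1_c11 LD2_c18 LD3_c35)) = (LP (LK LD1_c11 LD2_c17 LD3_c3)) :=
  Lgr Lrot31 (Lpe (f381806 IH) (Lpe (f381627 IH) (Lpr_ft (f562114 IH) (Lpn (LP (LK LD1_c11 LD2_c17 LD3_c3))))))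
theorem f562104 : Led Lsl_af (LP (LK LD1_c11 LD2_c18 LD3_c36)) = (LP (LK LD1_c11 LD2_c17 LD3_c0)) :=
  Lgr Lrot0 (Lpr_at (f562063 IH) (Lpn (LP (LK LD1_c11 LD2_c17 LD3_c0))))
theorem f562128 : Led Lsl_ft (LP (LK LD1_c11 LD2_c18 LD3_c35)) = (LP (LK LD1_c11 LD2_c17 LD3_c0)) :=
  Lgr Lrot101 (Lpr_af (f562121 IH) (Lpe (f562114 IH) (Lpr_af (f562104 IH) (Lpn (LP (LK LD1_c11 LD2_c17 LD3_c0))))))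
theorem f562134 : Led Lsl_ff (LP (LK LD1_c11 LD2_c18 LD3_c35)) = (LP (LK LD1_c11 LD2_c17 LD3_c0)) :=
  Lgr Lrot3 (Lpr_ft (f562128 IH) (Lpn (LP (LK LD1_c11 LD2_c17 LD3_c0))))
theorem f562123 : Led Lsl_at (LP (LK LD1_c11 LD2_c18 LD3_c35)) = (LP (LK LD1_c11 LD2_c17 LD3_c3)) :=
  Lgr Lrot100 (Lpr_af (f562121 IH) (Lpn (LP (LK LD1_c11 LD2_c17 LD3_c3))))
theorem f26965 : Led Lsl_ct (LP (LK LD1_c3 LD2_c0 LD3_c45)) = (LP (LK LD1_c6 LD2_c8 LD3_c53)) :=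
  Lre_c IH (LK LD1_c3 LD2_c0 LD3_c45) (LK LD1_c6 LD2_c8 LD3_c53) Lrfl Lrfl
theorem f73172 : Led Lsl_dt (LP (LK LD1_c6 LD2_c8 LD3_c53)) = (LP (LK LD1_c11 LD2_c59 LD3_c7)) :=
  Lre_d IH (LK LD1_c6 LD2_c8 LD3_c53) (LK LD1_c11 LD2_c59 LD3_c7) Lrfl Lrfl
theorem f562140 : Led Lsl_cf (LP (LK LD1_c11 LD2_c17 LD3_c3)) = (LP (LK LD1_c11 LD2_c59 LD3_c7)) :=
  Lgr Lrot102 (Lpe (f562123 IH) (Lpr_ff (f562134 IH) (Lpr_dt (K27.f383829 IH) (Lpe (f558353 IH) (Lpr_dt (K37.f73173 IH) (Lpe (K39.f72945 IH) (Lpr_dt (K37.f68880 IH) (Lpr_ct (f26965 IH) (Lpr_dt (f73172 IH) (Lpn (LP (LK LD1_c11 LD2_c59 LD3_c7))))))))))))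
theorem f381171 : Led Lsl_dt (LP (LK LD1_c11 LD2_c17 LD3_c3)) = (LP (LK LD1_c5 LD2_c43 LD3_c29)) :=
  Lre_d IH (LK LD1_c11 LD2_c17 LD3_c3) (LK LD1_c5 LD2_c43 LD3_c29) Lrfl Lrfl
theorem f562058 : Led Lsl_ff (LP (LK LD1_c5 LD2_c39 LD3_c58)) = (LP (LK LD1_c2 LD2_c49 LD3_c28)) :=
  Lgr Lrot23 (Lpr_ct (K39.f552503 IH) (Lpr_ft (f562053 IH) (Lpe (f558353 IH) (Lpn (LP (LK LD1_c2 LD2_c49 LD3_c28))))))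
theorem f562147 : Led Lsl_at (LP (LK LD1_c5 LD2_c39 LD3_c58)) = (LP (LK LD1_c11 LD2_c10 LD3_c48)) :=
  Lre_a IH (LK LD1_c5 LD2_c39 LD3_c58) (LK LD1_c11 LD2_c10 LD3_c48) Lrfl Lrfl
theorem f562148 : Led Lsl_ct (LP (LK LD1_c5 LD2_c43 LD3_c29)) = (LP (LK LD1_c11 LD2_c10 LD3_c48)) :=
  Lgr Lrot98 (Lpe (f381171 IH) (Lpr_cf (f562140 IH) (Lpe (f73172 IH) (Lpe (f26965 IH) (Lpe (K37.f68880 IH) (Lpr_cf (K39.f72945 IH) (Lpe (K37.f73173 IH) (Lpe (f562058 IH) (Lpr_at (f562147 IH) (Lpn (LP (LK LD1_c11 LD2_c10 LD3_c48))))))))))))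
theorem f562150 : Led Lsl_dt (LP (LK LD1_c11 LD2_c10 LD3_c48)) = (LP (LK LD1_c5 LD2_c39 LD3_c57)) :=
  Lre_d IH (LK LD1_c11 LD2_c10 LD3_c48) (LK LD1_c5 LD2_c39 LD3_c57) Lrfl Lrfl
theorem f561703 : Led Lsl_at (LP (LK LD1_c3 LD2_c0 LD3_c18)) = (LP (LK LD1_c4 LD2_c56 LD3_c57)) :=
  Lgr Lrot26 (Lpe (K39.f68884 IH) (Lpr_gt (K39.f9540 IH) (Lpr_gt (f561699 IH) (Lpn (LP (LK LD1_c4 LD2_c56 LD3_c57))))))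
theorem f562151 : Led Lsl_ct (LP (LK LD1_c5 LD2_c39 LD3_c57)) = (LP (LK LD1_c4 LD2_c56 LD3_c57)) :=
  Lgr Lrot98 (Lpe (f562150 IH) (Lpe (f562148 IH) (Lpe (f381171 IH) (Lpr_cf (f562140 IH) (Lpe (f73172 IH) (Lpe (f26965 IH) (Lpe (K37.f68880 IH) (Lpr_ft (K39.f68884 IH) (Lpr_at (f561703 IH) (Lpn (LP (LK LD1_c4 LD2_c56 LD3_c57))))))))))))
theorem f552492 : Led Lsl_dt (LP (LK LD1_c2 LD2_c49 LD3_c26)) = (LP (LK LD1_c5 LD2_c44 LD3_c30)) :=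
  Lgr Lrot42 (Lpr_df (K39.f552485 IH) (Lpn (LP (LK LD1_c5 LD2_c44 LD3_c30))))
theorem f562290 : Led Lsl_gf (LP (LK LD1_c5 LD2_c39 LD3_c57)) = (LP (LK LD1_c2 LD2_c49 LD3_c26)) :=
  Lgr Lrot147 (Lpr_ct (f562151 IH) (Lpe (f561718 IH) (Lpr_ct (f556138 IH) (Lpr_df (K38.f427509 IH) (Lpe (K27.f255977 IH) (Lpr_gf (K39.f382400 IH) (Lpr_cf (K39.f424032 IH) (Lpe (K39.f172453 IH) (Lpe (f552492 IH) (Lpn (LP (LK LD1_c2 LD2_c49 LD3_c26))))))))))))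
theorem f549641 : Led Lsl_ef (LP (LK LD1_c3 LD2_c0 LD3_c5)) = (LP (LK LD1_c4 LD2_c56 LD3_c57)) :=
  Lgr Lrot29 (Lpr_bt (K36.f56266 IH) (Lpr_et (K38.f549637 IH) (Lpr_bt (f419026 IH) (Lpn (LP (LK LD1_c4 LD2_c56 LD3_c57))))))
theorem f562284 : Led Lsl_ef (LP (LK LD1_c5 LD2_c39 LD3_c57)) = (LP (LK LD1_c4 LD2_c7 LD3_c6)) :=
  Lgr Lrot28 (Lpr_ct (f562151 IH) (Lpe (f549641 IH) (Lpe (K36.f55945 IH) (Lpn (LP (LK LD1_c4 LD2_c7 LD3_c6))))))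
theorem f55860 : Led Lsl_dt (LP (LK LD1_c4 LD2_c7 LD3_c6)) = (LP (LK LD1_c8 LD2_c14 LD3_c46)) :=
  Lre_d IH (LK LD1_c4 LD2_c7 LD3_c6) (LK LD1_c8 LD2_c14 LD3_c46) Lrfl Lrfl
theorem f55840 : Led Lsl_gt (LP (LK LD1_c8 LD2_c14 LD3_c46)) = (LP (LK LD1_c4 LD2_c7 LD3_c17)) :=
  Lre_g IH (LK LD1_c8 LD2_c14 LD3_c46) (LK LD1_c4 LD2_c7 LD3_c17) Lrfl Lrfl
theorem f55972 : Led Lsl_dt (LP (LK LD1_c1 LD2_c25 LD3_c53)) = (LP (LK LD1_c0 LD2_c39 LD3_c40)) :=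
  Lre_d IH (LK LD1_c1 LD2_c25 LD3_c53) (LK LD1_c0 LD2_c39 LD3_c40) Lrfl Lrfl
theorem f55968 : Led Lsl_ct (LP (LK LD1_c0 LD2_c57 LD3_c33)) = (LP (LK LD1_c0 LD2_c39 LD3_c40)) :=
  Lgr Lrot59 (Lpr_cf (K1.f55955 IH) (Lpn (LP (LK LD1_c0 LD2_c39 LD3_c40))))
theorem f55982 : Led Lsl_dt (LP (LK LD1_c2 LD2_c0 LD3_c61)) = (LP (LK LD1_c0 LD2_c57 LD3_c33)) :=
  Lre_d IH (LK LD1_c2 LD2_c0 LD3_c61) (LK LD1_c0 LD2_c57 LD3_c33) Lrfl Lrfl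
theorem f55983 : Led Lsl_gt (LP (LK LD1_c4 LD2_c7 LD3_c17)) = (LP (LK LD1_c2 LD2_c0 LD3_c61)) :=
  Lre_g IH (LK LD1_c4 LD2_c7 LD3_c17) (LK LD1_c2 LD2_c0 LD3_c61) Lrfl Lrfl
theorem f539621 : Led Lsl_dt (LP (LK LD1_c5 LD2_c13 LD3_c52)) = (LP (LK LD1_c4 LD2_c7 LD3_c17)) :=
  Lgr Lrot57 (Lpr_gf (K38.f421461 IH) (Lpr_cf (K36.f427793 IH) (Lpe (K36.f426214 IH) (Lpr_dt (K36.f539605 IH) (Lpr_gt (K36.f9095 IH) (Lpr_dt (f55972 IH) (Lpe (f55968 IH) (Lpe (f55982 IH) (Lpe (f55983 IH) (Lpn (LP (LK LD1_c4 LD2_c7 LD3_c17))))))))))))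
theorem f72487 : Led Lsl_et (LP (LK LD1_c5 LD2_c47 LD3_c9)) = (LP (LK LD1_c2 LD2_c49 LD3_c26)) :=
  Lre_e IH (LK LD1_c5 LD2_c47 LD3_c9) (LK LD1_c2 LD2_c49 LD3_c26) Lrfl Lrfl
theorem f72482 : Led Lsl_et (LP (LK LD1_c2 LD2_c26 LD3_c59)) = (LP (LK LD1_c1 LD2_c10 LD3_c46)) :=
  Lre_e IH (LK LD1_c2 LD2_c26 LD3_c59) (LK LD1_c1 LD2_c10 LD3_c46) Lrfl Lrfl
theorem f72483 : Led Lsl_dt (LP (LK LD1_c2 LD2_c26 LD3_c59)) = (LP (LK LD1_c4 LD2_c58 LD3_c15)) :=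
  Lre_d IH (LK LD1_c2 LD2_c26 LD3_c59) (LK LD1_c4 LD2_c58 LD3_c15) Lrfl Lrfl
theorem f72484 : Led Lsl_gt (LP (LK LD1_c9 LD2_c46 LD3_c23)) = (LP (LK LD1_c4 LD2_c58 LD3_c15)) :=
  Lre_g IH (LK LD1_c9 LD2_c46 LD3_c23) (LK LD1_c4 LD2_c58 LD3_c15) Lrfl Lrfl
theorem f72485 : Led Lsl_et (LP (LK LD1_c0 LD2_c37 LD3_c20)) = (LP (LK LD1_c1 LD2_c20 LD3_c52)) :=
  Lre_e IH (LK LD1_c0 LD2_c37 LD3_c20) (LK LD1_c1 LD2_c20 LD3_c52) Lrfl Lrfl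
theorem f72488 : Led Lsl_df (LP (LK LD1_c9 LD2_c46 LD3_c23)) = (LP (LK LD1_c5 LD2_c47 LD3_c9)) :=
  Lgr Lrot170 (Lpr_gt (f72484 IH) (Lpe (f72483 IH) (Lpr_et (f72482 IH) (Lpr_gt (K2.f72456 IH) (Lpr_dt (K2.f72455 IH) (Lpr_gt (K2.f72439 IH) (Lpe (K2.f60950 IH) (Lpr_et (f72485 IH) (Lpr_gt (K39.f72486 IH) (Lpe (f72487 IH) (Lpn (LP (LK LD1_c5 LD2_c47 LD3_c9)))))))))))))
theorem f72506 : Led Lsl_gt (LP (LK LD1_c4 LD2_c57 LD3_c45)) = (LP (LK LD1_c9 LD2_c46 LD3_c23)) :=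
  Lre_g IH (LK LD1_c4 LD2_c57 LD3_c45) (LK LD1_c9 LD2_c46 LD3_c23) Lrfl Lrfl
theorem f72507 : Led Lsl_dt (LP (LK LD1_c2 LD2_c26 LD3_c43)) = (LP (LK LD1_c4 LD2_c57 LD3_c45)) :=
  Lre_d IH (LK LD1_c2 LD2_c26 LD3_c43) (LK LD1_c4 LD2_c57 LD3_c45) Lrfl Lrfl
theorem f562300 : Led Lsl_et (LP (LK LD1_c5 LD2_c13 LD3_c52)) = (LP (LK LD1_c4 LD2_c57 LD3_c44)) :=
  Lgr Lrot121 (Lpr_dt (f539621 IH) (Lpe (f55840 IH) (Lpe (f55860 IH) (Lpe (f562284 IH) (Lpr_gf (f562290 IH) (Lpe (f72487 IH) (Lpe (f72488 IH) (Lpe (f72506 IH) (Lpe (f72507 IH) (Lpe (K37.f72508 IH) (Lpn (LP (LK LD1_c4 LD2_c57 LD3_c44)))))))))))))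
theorem f387203 : Led Lsl_ct (LP (LK LD1_c4 LD2_c58 LD3_c34)) = (LP (LK LD1_c2 LD2_c27 LD3_c15)) :=
  Lre_c IH (LK LD1_c4 LD2_c58 LD3_c34) (LK LD1_c2 LD2_c27 LD3_c15) Lrfl Lrfl
theorem f545818 : Led Lsl_et (LP (LK LD1_c2 LD2_c27 LD3_c48)) = (LP (LK LD1_c4 LD2_c58 LD3_c34)) :=
  Lgr Lrot158 (Lpr_cf (K37.f545812 IH) (Lpr_ef (K36.f539804 IH) (Lpe (f387203 IH) (Lpn (LP (LK LD1_c4 LD2_c58 LD3_c34))))))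
theorem f562302 : Led Lsl_af (LP (LK LD1_c2 LD2_c27 LD3_c48)) = (LP (LK LD1_c4 LD2_c57 LD3_c44)) :=
  Lgr Lrot50 (Lpr_et (f545818 IH) (Lpe (K38.f421181 IH) (Lpr_et (f562300 IH) (Lpn (LP (LK LD1_c4 LD2_c57 LD3_c44))))))
theorem f539265 : Led Lsl_dt (LP (LK LD1_c2 LD2_c56 LD3_c58)) = (LP (LK LD1_c6 LD2_c1 LD3_c39)) :=
  Lre_d IH (LK LD1_c2 LD2_c56 LD3_c58) (LK LD1_c6 LD2_c1 LD3_c39) Lrfl Lrfl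
theorem f559717 : Led Lsl_gt (LP (LK LD1_c6 LD2_c1 LD3_c39)) = (LP (LK LD1_c11 LD2_c48 LD3_c0)) :=
  Lre_g IH (LK LD1_c6 LD2_c1 LD3_c39) (LK LD1_c11 LD2_c48 LD3_c0) Lrfl Lrfl
theorem f559718 : Led Lsl_dt (LP (LK LD1_c11 LD2_c48 LD3_c0)) = (LP (LK LD1_c16 LD2_c59 LD3_c5)) :=
  Lgr Lrot105 (Lpe (f559717 IH) (Lpe (f539265 IH) (Lpe (f175800 IH) (Lpr_cf (f559710 IH) (Lpr_gt (f211081 IH) (Lpr_dt (f211080 IH) (Lpr_gt (K36.f211065 IH) (Lpr_dt (K37.f211066 IH) (Lpe (K37.f545456 IH) (Lpn (LP (LK LD1_c16 LD2_c59 LD3_c5))))))))))))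
theorem f562306 : Led Lsl_ft K36.v1388 = (LP (LK LD1_c4 LD2_c57 LD3_c44)) :=
  Lgr Lrot2 (Lpe (K36.f495287 IH) (Lpr_gt (K31.f104895 IH) (Lpr_af (f562302 IH) (Lpn (LP (LK LD1_c4 LD2_c57 LD3_c44))))))
theorem f562308 : Led Lsl_cf (LP (LK LD1_c11 LD2_c48 LD3_c0)) = (LP (LK LD1_c17 LD2_c58 LD3_c40)) :=
  Lgr Lrot116 (Lpr_dt (f559718 IH) (Lpr_ct (K37.f545456 IH) (Lpr_dt (K37.f500369 IH) (Lpe (K37.f545812 IH) (Lpr_af (f562302 IH) (Lpe (f562306 IH) (Lpqs (K36.f539786 IH) (Lpr_dt (K38.f101760 IH) (Lpr_ct (K38.f545299 IH) (Lpr_dt (K38.f545305 IH) (Lpn (LP (LK LD1_c17 LD2_c58 LD3_c40)))))))))))))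
theorem f101720 : Led Lsl_dt (LP (LK LD1_c2 LD2_c27 LD3_c27)) = (LP (LK LD1_c1 LD2_c10 LD3_c56)) :=
  Lre_d IH (LK LD1_c2 LD2_c27 LD3_c27) (LK LD1_c1 LD2_c10 LD3_c56) Lrfl Lrfl
theorem f562315 : Led Lsl_ft (LP (LK LD1_c9 LD2_c48 LD3_c46)) = (LP (LK LD1_c17 LD2_c59 LD3_c6)) :=
  Lre_f IH (LK LD1_c9 LD2_c48 LD3_c46) (LK LD1_c17 LD2_c59 LD3_c6) Lrfl Lrfl
theorem f562316 : Led Lsl_af (LP (LK LD1_c11 LD2_c48 LD3_c0)) = (LP (LK LD1_c17 LD2_c59 LD3_c6)) :=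
  Lgr Lrot109 (Lpr_cf (f562308 IH) (Lpe (K38.f545305 IH) (Lpe (K38.f545299 IH) (Lpe (K38.f101760 IH) (Lpe (K6.f101713 IH) (Lpe (f101720 IH) (Lpe (K37.f539893 IH) (Lpe (K37.f539891 IH) (Lpr_ft (f562315 IH) (Lpn (LP (LK LD1_c17 LD2_c59 LD3_c6))))))))))))
theorem f545820 : Led Lsl_at (LP (LK LD1_c17 LD2_c58 LD3_c23)) = (LP (LK LD1_c9 LD2_c48 LD3_c46)) :=
  Lre_a IH (LK LD1_c17 LD2_c58 LD3_c23) (LK LD1_c9 LD2_c48 LD3_c46) Lrfl Lrfl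
theorem f562324 : Led Lsl_ft (LP (LK LD1_c11 LD2_c48 LD3_c0)) = (LP (LK LD1_c17 LD2_c58 LD3_c23)) :=
  Lgr Lrot101 (Lpr_af (f562316 IH) (Lpe (f562315 IH) (Lpe (f545820 IH) (Lpn (LP (LK LD1_c17 LD2_c58 LD3_c23))))))
theorem f539892 : Led Lsl_gt (LP (LK LD1_c17 LD2_c59 LD3_c3)) = (LP (LK LD1_c9 LD2_c48 LD3_c46)) :=
  Lre_g IH (LK LD1_c17 LD2_c59 LD3_c3) (LK LD1_c9 LD2_c48 LD3_c46) Lrfl Lrfl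
theorem f562336 : Led Lsl_gt (LP (LK LD1_c11 LD2_c48 LD3_c0)) = (LP (LK LD1_c17 LD2_c59 LD3_c3)) :=
  Lgr Lrot5 (Lpr_ft (f562324 IH) (Lpr_at (f545820 IH) (Lpe (f539892 IH) (Lpn (LP (LK LD1_c17 LD2_c59 LD3_c3))))))
theorem f139028 : Led Lsl_dt (LP (LK LD1_c17 LD2_c58 LD3_c23)) = (LP (LK LD1_c9 LD2_c48 LD3_c7)) :=
  Lre_d IH (LK LD1_c17 LD2_c58 LD3_c23) (LK LD1_c9 LD2_c48 LD3_c7) Lrfl Lrfl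
theorem f562330 : Led Lsl_df (LP (LK LD1_c11 LD2_c48 LD3_c0)) = (LP (LK LD1_c16 LD2_c59 LD3_c5)) :=
  Lgr Lrot78 (Lpr_ft (f562324 IH) (Lpr_dt (f139028 IH) (Lpr_ft (K37.f545790 IH) (Lpn (LP (LK LD1_c16 LD2_c59 LD3_c5))))))
theorem f545769 : Led Lsl_gt (LP (LK LD1_c4 LD2_c59 LD3_c8)) = (LP (LK LD1_c9 LD2_c48 LD3_c43)) :=
  Lre_g IH (LK LD1_c4 LD2_c59 LD3_c8) (LK LD1_c9 LD2_c48 LD3_c43) Lrfl Lrfl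
theorem f545770 : Led Lsl_gt (LP (LK LD1_c9 LD2_c48 LD3_c43)) = (LP (LK LD1_c16 LD2_c59 LD3_c5)) :=
  Lgr Lrot46 (Lpe (f545769 IH) (Lpr_ft (K37.f545753 IH) (Lpr_at (K37.f545754 IH) (Lpn (LP (LK LD1_c16 LD2_c59 LD3_c5))))))
theorem f176563 : Led Lsl_ct (LP (LK LD1_c0 LD2_c38 LD3_c52)) = (LP (LK LD1_c1 LD2_c11 LD3_c1)) :=
  Lre_c IH (LK LD1_c0 LD2_c38 LD3_c52) (LK LD1_c1 LD2_c11 LD3_c1) Lrfl Lrfl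
theorem f500896 : Led Lsl_gt (LP (LK LD1_c6 LD2_c1 LD3_c26)) = (LP (LK LD1_c2 LD2_c56 LD3_c54)) :=
  Lre_g IH (LK LD1_c6 LD2_c1 LD3_c26) (LK LD1_c2 LD2_c56 LD3_c54) Lrfl Lrfl
theorem f428333 : Led Lsl_et (LP (LK LD1_c5 LD2_c58 LD3_c55)) = (LP (LK LD1_c2 LD2_c55 LD3_c53)) :=
  Lre_e IH (LK LD1_c5 LD2_c58 LD3_c55) (LK LD1_c2 LD2_c55 LD3_c53) Lrfl Lrfl
theorem f500926 : Led Lsl_et (LP (LK LD1_c2 LD2_c56 LD3_c55)) = (LP (LK LD1_c6 LD2_c1 LD3_c30)) :=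
  Lre_e IH (LK LD1_c2 LD2_c56 LD3_c55) (LK LD1_c6 LD2_c1 LD3_c30) Lrfl Lrfl
theorem f539447 : Led Lsl_af (LP (LK LD1_c5 LD2_c58 LD3_c55)) = (LP (LK LD1_c6 LD2_c1 LD3_c30)) :=
  Lgr Lrot50 (Lpr_et (f428333 IH) (Lpr_at (K36.f539439 IH) (Lpr_et (f500926 IH) (Lpn (LP (LK LD1_c6 LD2_c1 LD3_c30))))))
theorem f428334 : Led Lsl_ft (LP (LK LD1_c5 LD2_c58 LD3_c55)) = (LP (LK LD1_c11 LD2_c42 LD3_c18)) :=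
  Lre_f IH (LK LD1_c5 LD2_c58 LD3_c55) (LK LD1_c11 LD2_c42 LD3_c18) Lrfl Lrfl
theorem f539458 : Led Lsl_ft (LP (LK LD1_c11 LD2_c47 LD3_c37)) = (LP (LK LD1_c6 LD2_c1 LD3_c30)) :=
  Lre_f IH (LK LD1_c11 LD2_c47 LD3_c37) (LK LD1_c6 LD2_c1 LD3_c30) Lrfl Lrfl
theorem f539459 : Led Lsl_at (LP (LK LD1_c11 LD2_c42 LD3_c18)) = (LP (LK LD1_c11 LD2_c47 LD3_c37)) :=
  Lgr Lrot66 (Lpe (f428334 IH) (Lpr_af (f539447 IH) (Lpe (f539458 IH) (Lpn (LP (LK LD1_c11 LD2_c47 LD3_c37))))))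
theorem f426138 : Led Lsl_dt (LP (LK LD1_c5 LD2_c58 LD3_c56)) = (LP (LK LD1_c11 LD2_c42 LD3_c18)) :=
  Lre_d IH (LK LD1_c5 LD2_c58 LD3_c56) (LK LD1_c11 LD2_c42 LD3_c18) Lrfl Lrfl
theorem f425994 : Led Lsl_at (LP (LK LD1_c11 LD2_c40 LD3_c46)) = (LP (LK LD1_c5 LD2_c58 LD3_c56)) :=
  Lre_a IH (LK LD1_c11 LD2_c40 LD3_c46) (LK LD1_c5 LD2_c58 LD3_c56) Lrfl Lrfl
theorem f539470 : Led Lsl_df (LP (LK LD1_c11 LD2_c40 LD3_c46)) = (LP (LK LD1_c11 LD2_c47 LD3_c37)) :=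
  Lgr Lrot18 (Lpr_at (f425994 IH) (Lpr_dt (f426138 IH) (Lpr_at (f539459 IH) (Lpn (LP (LK LD1_c11 LD2_c47 LD3_c37))))))
theorem f425970 : Led Lsl_bt (LP (LK LD1_c11 LD2_c40 LD3_c33)) = (LP (LK LD1_c5 LD2_c58 LD3_c0)) :=
  Lre_b IH (LK LD1_c11 LD2_c40 LD3_c33) (LK LD1_c5 LD2_c58 LD3_c0) Lrfl Lrfl
theorem f425971 : Led Lsl_et (LP (LK LD1_c5 LD2_c58 LD3_c0)) = (LP (LK LD1_c11 LD2_c40 LD3_c46)) :=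
  Lre_e IH (LK LD1_c5 LD2_c58 LD3_c0) (LK LD1_c11 LD2_c40 LD3_c46) Lrfl Lrfl
theorem f425972 : Led Lsl_bf (LP (LK LD1_c11 LD2_c41 LD3_c41)) = (LP (LK LD1_c11 LD2_c40 LD3_c46)) :=
  Lgr Lrot96 (Lpr_et (K24.f425967 IH) (Lpr_bt (f425970 IH) (Lpr_et (f425971 IH) (Lpn (LP (LK LD1_c11 LD2_c40 LD3_c46))))))
theorem f425977 : Led Lsl_dt (LP (LK LD1_c11 LD2_c41 LD3_c41)) = (LP (LK LD1_c20 LD2_c41 LD3_c41)) :=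
  Lre_d IH (LK LD1_c11 LD2_c41 LD3_c41) (LK LD1_c20 LD2_c41 LD3_c41) Lrfl Lrfl
theorem f539479 : Led Lsl_bt (LP (LK LD1_c20 LD2_c41 LD3_c41)) = (LP (LK LD1_c11 LD2_c47 LD3_c37)) :=
  Lgr Lrot95 (Lpe (f425977 IH) (Lpr_bf (f425972 IH) (Lpr_df (f539470 IH) (Lpn (LP (LK LD1_c11 LD2_c47 LD3_c37))))))
theorem f426794 : Led Lsl_ft (LP (LK LD1_c11 LD2_c41 LD3_c40)) = (LP (LK LD1_c20 LD2_c41 LD3_c41)) :=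
  Lre_f IH (LK LD1_c11 LD2_c41 LD3_c40) (LK LD1_c20 LD2_c41 LD3_c41) Lrfl Lrfl
theorem f539494 : Led Lsl_bf (LP (LK LD1_c11 LD2_c41 LD3_c40)) = (LP (LK LD1_c6 LD2_c1 LD3_c30)) :=
  Lgr Lrot61 (Lpr_ft (f426794 IH) (Lpr_bt (f539479 IH) (Lpr_ft (f539458 IH) (Lpn (LP (LK LD1_c6 LD2_c1 LD3_c30))))))
theorem f539501 : Led Lsl_et (LP (LK LD1_c11 LD2_c41 LD3_c40)) = (LP (LK LD1_c5 LD2_c58 LD3_c38)) :=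
  Lre_e IH (LK LD1_c11 LD2_c41 LD3_c40) (LK LD1_c5 LD2_c58 LD3_c38) Lrfl Lrfl
theorem f539502 : Led Lsl_bt (LP (LK LD1_c5 LD2_c58 LD3_c38)) = (LP (LK LD1_c2 LD2_c56 LD3_c55)) :=
  Lgr Lrot119 (Lpe (f539501 IH) (Lpr_bf (f539494 IH) (Lpe (f500926 IH) (Lpn (LP (LK LD1_c2 LD2_c56 LD3_c55))))))
theorem f539582 : Led Lsl_bt (LP (LK LD1_c5 LD2_c45 LD3_c3)) = (LP (LK LD1_c11 LD2_c20 LD3_c31)) :=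
  Lre_b IH (LK LD1_c5 LD2_c45 LD3_c3) (LK LD1_c11 LD2_c20 LD3_c31) Lrfl Lrfl
theorem f539583 : Led Lsl_ft (LP (LK LD1_c2 LD2_c56 LD3_c55)) = (LP (LK LD1_c5 LD2_c45 LD3_c3)) :=
  Lgr Lrot75 (Lpe (f539502 IH) (Lpr_ff (K36.f539578 IH) (Lpe (f539582 IH) (Lpn (LP (LK LD1_c5 LD2_c45 LD3_c3))))))
theorem f545454 : Led Lsl_gf (LP (LK LD1_c6 LD2_c1 LD3_c26)) = (LP (LK LD1_c2 LD2_c56 LD3_c55)) :=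
  Lgr Lrot47 (Lpr_gt (f500896 IH) (Lpr_af (K38.f545448 IH) (Lpe (f539583 IH) (Lpn (LP (LK LD1_c2 LD2_c56 LD3_c55))))))
theorem f545774 : Led Lsl_cf (LP (LK LD1_c9 LD2_c48 LD3_c43)) = (LP (LK LD1_c6 LD2_c1 LD3_c26)) :=
  Lgr Lrot169 (Lpr_gt (f545770 IH) (Lpr_ct (K37.f545456 IH) (Lpe (K37.f211066 IH) (Lpr_cf (K37.f541534 IH) (Lpe (K31.f104895 IH) (Lpe (f176563 IH) (Lpe (K31.f176571 IH) (Lpe (K36.f500880 IH) (Lpe (f545454 IH) (Lpn (LP (LK LD1_c6 LD2_c1 LD3_c26))))))))))))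
theorem f545781 : Led Lsl_ct (LP (LK LD1_c9 LD2_c48 LD3_c43)) = (LP (LK LD1_c6 LD2_c1 LD3_c26)) :=
  Lgr Lrot59 (Lpr_cf (f545774 IH) (Lpn (LP (LK LD1_c6 LD2_c1 LD3_c26))))
theorem f562341 : Led Lsl_df (LP (LK LD1_c11 LD2_c16 LD3_c38)) = (LP (LK LD1_c17 LD2_c59 LD3_c3)) :=
  Lgr Lrot84 (Lpe (f387450 IH) (Lpe (K28.f387440 IH) (Lpe (K36.f101563 IH) (Lpe (K36.f495291 IH) (Lpe (f500896 IH) (Lpe (f545781 IH) (Lpr_gt (f545770 IH) (Lpe (f562330 IH) (Lpr_gt (f562336 IH) (Lpn (LP (LK LD1_c17 LD2_c59 LD3_c3))))))))))))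
theorem f562369 : Led Lsl_dt (LP (LK LD1_c11 LD2_c16 LD3_c38)) = (LP (LK LD1_c17 LD2_c59 LD3_c3)) :=
  Lgr Lrot42 (Lpr_df (f562341 IH) (Lpn (LP (LK LD1_c17 LD2_c59 LD3_c3))))
theorem f101568 : Led Lsl_dt (LP (LK LD1_c11 LD2_c48 LD3_c1)) = (LP (LK LD1_c17 LD2_c54 LD3_c50)) :=
  Lre_d IH (LK LD1_c11 LD2_c48 LD3_c1) (LK LD1_c17 LD2_c54 LD3_c50) Lrfl Lrfl
theorem f539266 : Led Lsl_ct (LP (LK LD1_c6 LD2_c1 LD3_c39)) = (LP (LK LD1_c11 LD2_c48 LD3_c1)) :=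
  Lre_c IH (LK LD1_c6 LD2_c1 LD3_c39) (LK LD1_c11 LD2_c48 LD3_c1) Lrfl Lrfl
theorem f495290 : Led Lsl_dt (LP (LK LD1_c2 LD2_c27 LD3_c49)) = (LP (LK LD1_c1 LD2_c11 LD3_c1)) :=
  Lre_d IH (LK LD1_c2 LD2_c27 LD3_c49) (LK LD1_c1 LD2_c11 LD3_c1) Lrfl Lrfl
theorem f177703 : Led Lsl_ct (LP (LK LD1_c5 LD2_c0 LD3_c7)) = (LP (LK LD1_c2 LD2_c27 LD3_c49)) :=
  Lre_c IH (LK LD1_c5 LD2_c0 LD3_c7) (LK LD1_c2 LD2_c27 LD3_c49) Lrfl Lrfl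
theorem f177704 : Led Lsl_dt (LP (LK LD1_c9 LD2_c50 LD3_c51)) = (LP (LK LD1_c5 LD2_c0 LD3_c7)) :=
  Lre_d IH (LK LD1_c9 LD2_c50 LD3_c51) (LK LD1_c5 LD2_c0 LD3_c7) Lrfl Lrfl
theorem f562411 : Led Lsl_cf (LP (LK LD1_c9 LD2_c50 LD3_c51)) = (LP (LK LD1_c17 LD2_c59 LD3_c3)) :=
  Lgr Lrot55 (Lpr_dt (f177704 IH) (Lpr_ct (f177703 IH) (Lpr_dt (f495290 IH) (Lpr_ct (K31.f176570 IH) (Lpr_dt (K28.f387455 IH) (Lpr_ct (f175799 IH) (Lpr_dt (f539265 IH) (Lpr_ct (f539266 IH) (Lpr_dt (f101568 IH) (Lpr_ct (f101566 IH) (Lpr_dt (K38.f100504 IH) (Lpr_ct (K31.f100571 IH) (Lpr_dt (K28.f387440 IH) (Lpr_ct (f387450 IH) (Lpr_dt (f562369 IH) (Lpn (LP (LK LD1_c17 LD2_c59 LD3_c3))))))))))))))))))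
theorem f558504 : Led Lsl_cf (LP (LK LD1_c5 LD2_c57 LD3_c6)) = (LP (LK LD1_c9 LD2_c48 LD3_c44)) :=
  Lgr Lrot11 (Lpr_ct (f558497 IH) (Lpn (LP (LK LD1_c9 LD2_c48 LD3_c44))))
theorem f562429 : Led Lsl_gt (LP (LK LD1_c9 LD2_c50 LD3_c51)) = (LP (LK LD1_c11 LD2_c43 LD3_c12)) :=
  Lgr Lrot150 (Lpr_cf (f562411 IH) (Lpe (f562336 IH) (Lpr_df (f562330 IH) (Lpe (f545793 IH) (Lpe (f558504 IH) (Lpr_gt (f558514 IH) (Lpr_ct (K36.f500878 IH) (Lpe (K36.f500916 IH) (Lpr_cf (K36.f539347 IH) (Lpn (LP (LK LD1_c11 LD2_c43 LD3_c12))))))))))))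
theorem f562366 : Led Lsl_dt (LP (LK LD1_c5 LD2_c0 LD3_c7)) = (LP (LK LD1_c9 LD2_c50 LD3_c51)) :=
  Lre_d IH (LK LD1_c5 LD2_c0 LD3_c7) (LK LD1_c9 LD2_c50 LD3_c51) Lrfl Lrfl
theorem f176556 : Led Lsl_gt (LP (LK LD1_c9 LD2_c50 LD3_c49)) = (LP (LK LD1_c5 LD2_c0 LD3_c7)) :=
  Lre_g IH (LK LD1_c9 LD2_c50 LD3_c49) (LK LD1_c5 LD2_c0 LD3_c7) Lrfl Lrfl
theorem f418401 : Led Lsl_bt (LP (LK LD1_c2 LD2_c52 LD3_c56)) = (LP (LK LD1_c1 LD2_c22 LD3_c33)) :=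
  Lre_b IH (LK LD1_c2 LD2_c52 LD3_c56) (LK LD1_c1 LD2_c22 LD3_c33) Lrfl Lrfl
theorem f449292 : Led Lsl_ft (LP (LK LD1_c4 LD2_c35 LD3_c13)) = (LP (LK LD1_c2 LD2_c52 LD3_c56)) :=
  Lgr Lrot75 (Lpe (K36.f449291 IH) (Lpr_ff (K36.f449289 IH) (Lpe (f418401 IH) (Lpn (LP (LK LD1_c2 LD2_c52 LD3_c56))))))
theorem f450569 : Led Lsl_gt (LP (LK LD1_c4 LD2_c35 LD3_c13)) = (LP (LK LD1_c9 LD2_c7 LD3_c5)) :=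
  Lre_g IH (LK LD1_c4 LD2_c35 LD3_c13) (LK LD1_c9 LD2_c7 LD3_c5) Lrfl Lrfl
theorem f449319 : Led Lsl_at (LP (LK LD1_c2 LD2_c52 LD3_c56)) = (LP (LK LD1_c5 LD2_c53 LD3_c9)) :=
  Lre_a IH (LK LD1_c2 LD2_c52 LD3_c56) (LK LD1_c5 LD2_c53 LD3_c9) Lrfl Lrfl
theorem f450570 : Led Lsl_gt (LP (LK LD1_c9 LD2_c7 LD3_c5)) = (LP (LK LD1_c5 LD2_c53 LD3_c9)) :=
  Lgr Lrot46 (Lpe (f450569 IH) (Lpr_ft (f449292 IH) (Lpr_at (f449319 IH) (Lpn (LP (LK LD1_c5 LD2_c53 LD3_c9))))))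
theorem f562441 : Led Lsl_cf (LP (LK LD1_c9 LD2_c50 LD3_c49)) = (LP (LK LD1_c9 LD2_c7 LD3_c5)) :=
  Lgr Lrot166 (Lpr_gt (f176556 IH) (Lpr_dt (f562366 IH) (Lpr_gt (f562429 IH) (Lpr_dt (K36.f500706 IH) (Lpr_ct (K36.f500707 IH) (Lpe (K36.f386792 IH) (Lpr_gf (f500705 IH) (Lpqs (K39.f555895 IH) (Lpqs (K36.f537904 IH) (Lpe (K38.f211091 IH) (Lpe (f450570 IH) (Lpn (LP (LK LD1_c9 LD2_c7 LD3_c5))))))))))))))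
theorem f176555 : Led Lsl_ct (LP (LK LD1_c2 LD2_c27 LD3_c49)) = (LP (LK LD1_c5 LD2_c0 LD3_c7)) :=
  Lre_c IH (LK LD1_c2 LD2_c27 LD3_c49) (LK LD1_c5 LD2_c0 LD3_c7) Lrfl Lrfl
theorem f101539 : Led Lsl_bt (LP (LK LD1_c2 LD2_c27 LD3_c49)) = (LP (LK LD1_c1 LD2_c11 LD3_c6)) :=
  Lre_b IH (LK LD1_c2 LD2_c27 LD3_c49) (LK LD1_c1 LD2_c11 LD3_c6) Lrfl Lrfl
theorem f562447 : Led Lsl_bf (LP (LK LD1_c5 LD2_c45 LD3_c4)) = (LP (LK LD1_c9 LD2_c7 LD3_c5)) :=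
  Lgr Lrot34 (Lpe (K37.f176455 IH) (Lpe (K37.f176454 IH) (Lpr_ct (K10.f9402 IH) (Lpe (K10.f176450 IH) (Lpr_cf (K10.f176529 IH) (Lpe (K10.f20295 IH) (Lpe (f101539 IH) (Lpr_ct (f176555 IH) (Lpe (f176556 IH) (Lpr_cf (f562441 IH) (Lpn (LP (LK LD1_c9 LD2_c7 LD3_c5)))))))))))))
theorem f562449 : Led Lsl_bt (LP (LK LD1_c5 LD2_c45 LD3_c4)) = (LP (LK LD1_c9 LD2_c7 LD3_c5)) :=
  Lgr Lrot127 (Lpr_bf (f562447 IH) (Lpn (LP (LK LD1_c9 LD2_c7 LD3_c5))))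
theorem f384106 : Led Lsl_et (LP (LK LD1_c2 LD2_c48 LD3_c3)) = (LP (LK LD1_c5 LD2_c44 LD3_c12)) :=
  Lre_e IH (LK LD1_c2 LD2_c48 LD3_c3) (LK LD1_c5 LD2_c44 LD3_c12) Lrfl Lrfl
theorem f424044 : Led Lsl_dt (LP (LK LD1_c5 LD2_c44 LD3_c12)) = (LP (LK LD1_c11 LD2_c18 LD3_c29)) :=
  Lre_d IH (LK LD1_c5 LD2_c44 LD3_c12) (LK LD1_c11 LD2_c18 LD3_c29) Lrfl Lrfl
theorem f556094 : Led Lsl_ef (LP (LK LD1_c5 LD2_c45 LD3_c4)) = (LP (LK LD1_c11 LD2_c18 LD3_c29)) :=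
  Lgr Lrot73 (Lpr_dt (K39.f442636 IH) (Lpr_et (K39.f442632 IH) (Lpr_dt (K39.f556086 IH) (Lpr_et (f384106 IH) (Lpr_dt (f424044 IH) (Lpn (LP (LK LD1_c11 LD2_c18 LD3_c29))))))))
theorem f383572 : Led Lsl_bt (LP (LK LD1_c5 LD2_c44 LD3_c20)) = (LP (LK LD1_c11 LD2_c18 LD3_c29)) :=
  Lre_b IH (LK LD1_c5 LD2_c44 LD3_c20) (LK LD1_c11 LD2_c18 LD3_c29) Lrfl Lrfl
theorem f562457 : Led Lsl_ef (LP (LK LD1_c5 LD2_c44 LD3_c20)) = (LP (LK LD1_c9 LD2_c7 LD3_c5)) :=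
  Lgr Lrot29 (Lpr_bt (f383572 IH) (Lpe (f556094 IH) (Lpr_bt (f562449 IH) (Lpn (LP (LK LD1_c9 LD2_c7 LD3_c5))))))
theorem f562468 : Led Lsl_et (LP (LK LD1_c5 LD2_c44 LD3_c20)) = (LP (LK LD1_c9 LD2_c7 LD3_c5)) :=
  Lgr Lrot87 (Lpr_ef (f562457 IH) (Lpn (LP (LK LD1_c9 LD2_c7 LD3_c5))))
theorem f383257 : Led Lsl_dt (LP (LK LD1_c2 LD2_c48 LD3_c5)) = (LP (LK LD1_c5 LD2_c44 LD3_c20)) :=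
  Lre_d IH (LK LD1_c2 LD2_c48 LD3_c5) (LK LD1_c5 LD2_c44 LD3_c20) Lrfl Lrfl
theorem f383256 : Led Lsl_et (LP (LK LD1_c1 LD2_c20 LD3_c17)) = (LP (LK LD1_c2 LD2_c48 LD3_c5)) :=
  Lre_e IH (LK LD1_c1 LD2_c20 LD3_c17) (LK LD1_c2 LD2_c48 LD3_c5) Lrfl Lrfl
theorem f242712 : Led Lsl_et (LP (LK LD1_c5 LD2_c37 LD3_c19)) = (LP (LK LD1_c2 LD2_c44 LD3_c35)) :=
  Lre_e IH (LK LD1_c5 LD2_c37 LD3_c19) (LK LD1_c2 LD2_c44 LD3_c35) Lrfl Lrfl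
theorem f562475 : Led Lsl_df (LP (LK LD1_c5 LD2_c37 LD3_c19)) = (LP (LK LD1_c9 LD2_c7 LD3_c5)) :=
  Lgr Lrot70 (Lpr_et (f242712 IH) (Lpr_dt (K27.f383251 IH) (Lpr_et (f383256 IH) (Lpr_dt (f383257 IH) (Lpr_et (f562468 IH) (Lpn (LP (LK LD1_c9 LD2_c7 LD3_c5))))))))
theorem f557461 : Led Lsl_ct (LP (LK LD1_c5 LD2_c37 LD3_c19)) = (LP (LK LD1_c5 LD2_c49 LD3_c52)) :=
  Lgr Lrot15 (Lpe (K36.f383262 IH) (Lpe (K36.f211955 IH) (Lpr_ef (f557457 IH) (Lpn (LP (LK LD1_c5 LD2_c49 LD3_c52))))))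
theorem f556088 : Led Lsl_af (LP (LK LD1_c3 LD2_c0 LD3_c43)) = (LP (LK LD1_c5 LD2_c37 LD3_c18)) :=
  Lgr Lrot117 (Lpr_dt (K39.f556086 IH) (Lpr_at (K28.f383633 IH) (Lpe (f384171 IH) (Lpn (LP (LK LD1_c5 LD2_c37 LD3_c18))))))
theorem f557459 : Led Lsl_at (LP (LK LD1_c6 LD2_c8 LD3_c51)) = (LP (LK LD1_c5 LD2_c49 LD3_c52)) :=
  Lgr Lrot80 (Lpe (K39.f442638 IH) (Lpr_af (f556088 IH) (Lpr_ef (f557457 IH) (Lpn (LP (LK LD1_c5 LD2_c49 LD3_c52))))))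
theorem f556102 : Led Lsl_ct (LP (LK LD1_c6 LD2_c8 LD3_c51)) = (LP (LK LD1_c6 LD2_c7 LD3_c59)) :=
  Lgr Lrot15 (Lpe (K39.f442638 IH) (Lpr_cf (K39.f556096 IH) (Lpe (K36.f427723 IH) (Lpn (LP (LK LD1_c6 LD2_c7 LD3_c59))))))
theorem f559643 : Led Lsl_ft (LP (LK LD1_c5 LD2_c12 LD3_c28)) = (LP (LK LD1_c6 LD2_c8 LD3_c51)) :=
  Lgr Lrot4 (Lpr_cf (f559637 IH) (Lpe (K36.f427718 IH) (Lpe (f556102 IH) (Lpn (LP (LK LD1_c6 LD2_c8 LD3_c51))))))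
theorem f387443 : Led Lsl_dt (LP (LK LD1_c6 LD2_c1 LD3_c31)) = (LP (LK LD1_c11 LD2_c47 LD3_c40)) :=
  Lre_d IH (LK LD1_c6 LD2_c1 LD3_c31) (LK LD1_c11 LD2_c47 LD3_c40) Lrfl Lrfl
theorem f562437 : Led Lsl_ct (LP (LK LD1_c9 LD2_c50 LD3_c49)) = (LP (LK LD1_c9 LD2_c7 LD3_c5)) :=
  Lgr Lrot8 (Lpr_gt (f176556 IH) (Lpr_dt (f562366 IH) (Lpr_gt (f562429 IH) (Lpr_dt (K36.f500706 IH) (Lpe (K36.f500665 IH) (Lpe (K36.f386792 IH) (Lpr_gf (f500705 IH) (Lpqs (K39.f555895 IH) (Lpqs (K36.f537904 IH) (Lpe (K38.f211091 IH) (Lpe (f450570 IH) (Lpn (LP (LK LD1_c9 LD2_c7 LD3_c5))))))))))))))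
theorem f562356 : Led Lsl_dt (LP (LK LD1_c18 LD2_c2 LD3_c1)) = (LP (LK LD1_c9 LD2_c50 LD3_c49)) :=
  Lre_d IH (LK LD1_c18 LD2_c2 LD3_c1) (LK LD1_c9 LD2_c50 LD3_c49) Lrfl Lrfl
theorem f562481 : Led Lsl_ct (LP (LK LD1_c11 LD2_c47 LD3_c40)) = (LP (LK LD1_c18 LD2_c2 LD3_c1)) :=
  Lgr Lrot41 (Lpe (f387443 IH) (Lpe (K36.f186321 IH) (Lpr_df (K28.f387441 IH) (Lpr_ft (f559643 IH) (Lpr_at (f557459 IH) (Lpe (f557461 IH) (Lpr_df (f562475 IH) (Lpe (f562437 IH) (Lpe (f562356 IH) (Lpn (LP (LK LD1_c18 LD2_c2 LD3_c1))))))))))))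
theorem f562477 : Led Lsl_at (LP (LK LD1_c5 LD2_c53 LD3_c11)) = (LP (LK LD1_c9 LD2_c7 LD3_c5)) :=
  Lgr Lrot51 (Lpe (K39.f555921 IH) (Lpr_af (K36.f427719 IH) (Lpr_df (f562475 IH) (Lpn (LP (LK LD1_c9 LD2_c7 LD3_c5))))))
theorem f562487 : Led Lsl_ft (LP (LK LD1_c6 LD2_c7 LD3_c58)) = (LP (LK LD1_c5 LD2_c53 LD3_c11)) :=
  Lgr Lrot142 (Lpr_dt (f427714 IH) (Lpe (f559637 IH) (Lpe (K28.f387441 IH) (Lpr_ct (K36.f186321 IH) (Lpr_dt (f387443 IH) (Lpr_ct (f562481 IH) (Lpr_dt (f562356 IH) (Lpr_ct (f562437 IH) (Lpe (f562477 IH) (Lpn (LP (LK LD1_c5 LD2_c53 LD3_c11))))))))))))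
theorem f562493 : Led Lsl_ff (LP (LK LD1_c6 LD2_c7 LD3_c58)) = (LP (LK LD1_c5 LD2_c53 LD3_c11)) :=
  Lgr Lrot3 (Lpr_ft (f562487 IH) (Lpn (LP (LK LD1_c5 LD2_c53 LD3_c11))))
theorem f450567 : Led Lsl_gt (LP (LK LD1_c2 LD2_c52 LD3_c56)) = (LP (LK LD1_c5 LD2_c53 LD3_c10)) :=
  Lre_g IH (LK LD1_c2 LD2_c52 LD3_c56) (LK LD1_c5 LD2_c53 LD3_c10) Lrfl Lrfl
theorem f562497 : Led Lsl_at (LP (LK LD1_c6 LD2_c7 LD3_c58)) = (LP (LK LD1_c5 LD2_c53 LD3_c10)) :=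
  Lgr Lrot26 (Lpr_ff (f562493 IH) (Lpr_gt (K39.f211082 IH) (Lpr_gt (f450567 IH) (Lpn (LP (LK LD1_c5 LD2_c53 LD3_c10))))))
theorem f559656 : Led Lsl_et (LP (LK LD1_c11 LD2_c58 LD3_c1)) = (LP (LK LD1_c6 LD2_c7 LD3_c58)) :=
  Lre_e IH (LK LD1_c11 LD2_c58 LD3_c1) (LK LD1_c6 LD2_c7 LD3_c58) Lrfl Lrfl
theorem f539209 : Led Lsl_et (LP (LK LD1_c5 LD2_c53 LD3_c10)) = (LP (LK LD1_c11 LD2_c32 LD3_c27)) :=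
  Lre_e IH (LK LD1_c5 LD2_c53 LD3_c10) (LK LD1_c11 LD2_c32 LD3_c27) Lrfl Lrfl
theorem f562503 : Led Lsl_af (LP (LK LD1_c11 LD2_c58 LD3_c1)) = (LP (LK LD1_c11 LD2_c32 LD3_c27)) :=
  Lgr Lrot50 (Lpr_et (f559656 IH) (Lpr_at (f562497 IH) (Lpr_et (f539209 IH) (Lpn (LP (LK LD1_c11 LD2_c32 LD3_c27))))))
theorem f559657 : Led Lsl_dt (LP (LK LD1_c11 LD2_c58 LD3_c1)) = (LP (LK LD1_c6 LD2_c7 LD3_c57)) :=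
  Lre_d IH (LK LD1_c11 LD2_c58 LD3_c1) (LK LD1_c6 LD2_c7 LD3_c57) Lrfl Lrfl
theorem f562507 : Led Lsl_at (LP (LK LD1_c6 LD2_c7 LD3_c57)) = (LP (LK LD1_c11 LD2_c57 LD3_c58)) :=
  Lre_a IH (LK LD1_c6 LD2_c7 LD3_c57) (LK LD1_c11 LD2_c57 LD3_c58) Lrfl Lrfl
theorem f562508 : Led Lsl_dt (LP (LK LD1_c11 LD2_c57 LD3_c58)) = (LP (LK LD1_c11 LD2_c32 LD3_c27)) :=
  Lgr Lrot44 (Lpe (f562507 IH) (Lpe (f559657 IH) (Lpr_af (f562503 IH) (Lpn (LP (LK LD1_c11 LD2_c32 LD3_c27))))))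
theorem f562511 : Led Lsl_df (LP (LK LD1_c11 LD2_c57 LD3_c58)) = (LP (LK LD1_c11 LD2_c32 LD3_c27)) :=
  Lgr Lrot38 (Lpr_dt (f562508 IH) (Lpn (LP (LK LD1_c11 LD2_c32 LD3_c27))))
theorem f427754 : Led Lsl_et (LP (LK LD1_c11 LD2_c57 LD3_c58)) = (LP (LK LD1_c6 LD2_c7 LD3_c52)) :=
  Lre_e IH (LK LD1_c11 LD2_c57 LD3_c58) (LK LD1_c6 LD2_c7 LD3_c52) Lrfl Lrfl
theorem f427752 : Led Lsl_dt (LP (LK LD1_c6 LD2_c7 LD3_c52)) = (LP (LK LD1_c3 LD2_c0 LD3_c9)) :=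
  Lre_d IH (LK LD1_c6 LD2_c7 LD3_c52) (LK LD1_c3 LD2_c0 LD3_c9) Lrfl Lrfl
theorem f562514 : Led Lsl_dt (LP (LK LD1_c6 LD2_c7 LD3_c53)) = (LP (LK LD1_c5 LD2_c53 LD3_c10)) :=
  Lgr Lrot77 (Lpe (f427721 IH) (Lpe (f427752 IH) (Lpe (f427754 IH) (Lpr_df (f562511 IH) (Lpe (f539209 IH) (Lpn (LP (LK LD1_c5 LD2_c53 LD3_c10))))))))
theorem f542620 : Led Lsl_ef (LP (LK LD1_c2 LD2_c47 LD3_c44)) = (LP (LK LD1_c2 LD2_c47 LD3_c60)) :=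
  Lgr Lrot88 (Lpr_et (K36.f542616 IH) (Lpn (LP (LK LD1_c2 LD2_c47 LD3_c60))))
theorem f562524 : Led Lsl_gf (LP (LK LD1_c2 LD2_c55 LD3_c60)) = (LP (LK LD1_c5 LD2_c53 LD3_c10)) :=
  Lgr Lrot134 (Lpe (K36.f500692 IH) (Lpr_et (K39.f500758 IH) (Lpqs (K39.f555923 IH) (Lpe (K37.f423995 IH) (Lpr_ef (f542620 IH) (Lpr_dt (K36.f541673 IH) (Lpe (f558463 IH) (Lpe (f20799 IH) (Lpr_et (f20800 IH) (Lpr_gt (f558455 IH) (Lpr_dt (f562514 IH) (Lpn (LP (LK LD1_c5 LD2_c53 LD3_c10))))))))))))))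
theorem f545756 : Led Lsl_ct (LP (LK LD1_c9 LD2_c50 LD3_c46)) = (LP (LK LD1_c5 LD2_c0 LD3_c6)) :=
  Lre_c IH (LK LD1_c9 LD2_c50 LD3_c46) (LK LD1_c5 LD2_c0 LD3_c6) Lrfl Lrfl
theorem f562427 : Led Lsl_gf (LP (LK LD1_c9 LD2_c50 LD3_c46)) = (LP (LK LD1_c5 LD2_c59 LD3_c11)) :=
  Lgr Lrot147 (Lpr_ct (f545756 IH) (Lpr_gt (f175792 IH) (Lpr_ct (f176555 IH) (Lpe (f177704 IH) (Lpr_cf (f562411 IH) (Lpe (f562336 IH) (Lpr_cf (f562308 IH) (Lpr_gf (K38.f545300 IH) (Lpe (K38.f500757 IH) (Lpn (LP (LK LD1_c5 LD2_c59 LD3_c11))))))))))))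
theorem f421028 : Led Lsl_et (LP (LK LD1_c2 LD2_c51 LD3_c2)) = (LP (LK LD1_c1 LD2_c21 LD3_c32)) :=
  Lre_e IH (LK LD1_c2 LD2_c51 LD3_c2) (LK LD1_c1 LD2_c21 LD3_c32) Lrfl Lrfl
theorem f450411 : Led Lsl_ft (LP (LK LD1_c4 LD2_c31 LD3_c14)) = (LP (LK LD1_c2 LD2_c45 LD3_c16)) :=
  Lgr Lrot86 (Lpe (f20800 IH) (Lpe (K37.f450082 IH) (Lpe (f421028 IH) (Lpr_ff (K39.f450407 IH) (Lpe (K39.f24504 IH) (Lpn (LP (LK LD1_c2 LD2_c45 LD3_c16))))))))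
theorem f24509 : Led Lsl_at (LP (LK LD1_c2 LD2_c45 LD3_c16)) = (LP (LK LD1_c5 LD2_c38 LD3_c44)) :=
  Lre_a IH (LK LD1_c2 LD2_c45 LD3_c16) (LK LD1_c5 LD2_c38 LD3_c44) Lrfl Lrfl
theorem f558459 : Led Lsl_gf (LP (LK LD1_c5 LD2_c38 LD3_c44)) = (LP (LK LD1_c6 LD2_c7 LD3_c53)) :=
  Lgr Lrot76 (Lpe (f24509 IH) (Lpe (f450411 IH) (Lpr_gt (f558455 IH) (Lpn (LP (LK LD1_c6 LD2_c7 LD3_c53))))))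
theorem f24499 : Led Lsl_et (LP (LK LD1_c5 LD2_c38 LD3_c45)) = (LP (LK LD1_c2 LD2_c45 LD3_c16)) :=
  Lre_e IH (LK LD1_c5 LD2_c38 LD3_c45) (LK LD1_c2 LD2_c45 LD3_c16) Lrfl Lrfl
theorem f211821 : Led Lsl_cf (LP (LK LD1_c4 LD2_c31 LD3_c13)) = (LP (LK LD1_c2 LD2_c45 LD3_c16)) :=
  Lgr Lrot39 (Lpr_et (K39.f211816 IH) (Lpe (K39.f198493 IH) (Lpr_et (f24499 IH) (Lpn (LP (LK LD1_c2 LD2_c45 LD3_c16))))))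
theorem f211825 : Led Lsl_at (LP (LK LD1_c4 LD2_c31 LD3_c13)) = (LP (LK LD1_c9 LD2_c0 LD3_c27)) :=
  Lre_a IH (LK LD1_c4 LD2_c31 LD3_c13) (LK LD1_c9 LD2_c0 LD3_c27) Lrfl Lrfl
theorem f24494 : Led Lsl_at (LP (LK LD1_c5 LD2_c38 LD3_c44)) = (LP (LK LD1_c2 LD2_c45 LD3_c16)) :=
  Lre_a IH (LK LD1_c5 LD2_c38 LD3_c44) (LK LD1_c2 LD2_c45 LD3_c16) Lrfl Lrfl
theorem f211829 : Led Lsl_ct (LP (LK LD1_c9 LD2_c0 LD3_c27)) = (LP (LK LD1_c5 LD2_c38 LD3_c44)) :=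
  Lgr Lrot111 (Lpe (f211825 IH) (Lpr_cf (f211821 IH) (Lpe (f24494 IH) (Lpn (LP (LK LD1_c5 LD2_c38 LD3_c44))))))
theorem f211831 : Led Lsl_cf (LP (LK LD1_c9 LD2_c0 LD3_c27)) = (LP (LK LD1_c5 LD2_c38 LD3_c44)) :=
  Lgr Lrot11 (Lpr_ct (f211829 IH) (Lpn (LP (LK LD1_c5 LD2_c38 LD3_c44))))
theorem f562532 : Led Lsl_gf (LP (LK LD1_c5 LD2_c37 LD3_c29)) = (LP (LK LD1_c9 LD2_c0 LD3_c27)) :=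
  Lgr Lrot104 (Lpe (f558367 IH) (Lpr_df (f558371 IH) (Lpe (f545756 IH) (Lpr_gf (f562427 IH) (Lpe (K38.f500693 IH) (Lpr_gf (f562524 IH) (Lpe (f562514 IH) (Lpe (f558459 IH) (Lpe (f211831 IH) (Lpn (LP (LK LD1_c9 LD2_c0 LD3_c27))))))))))))
theorem f557772 : Led Lsl_et (LP (LK LD1_c4 LD2_c57 LD3_c43)) = (LP (LK LD1_c2 LD2_c27 LD3_c8)) :=
  Lgr Lrot158 (Lpr_cf (f557764 IH) (Lpe (K39.f139017 IH) (Lpe (K6.f138890 IH) (Lpn (LP (LK LD1_c2 LD2_c27 LD3_c8))))))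
theorem f100700 : Led Lsl_dt (LP (LK LD1_c4 LD2_c57 LD3_c43)) = (LP (LK LD1_c9 LD2_c46 LD3_c21)) :=
  Lre_d IH (LK LD1_c4 LD2_c57 LD3_c43) (LK LD1_c9 LD2_c46 LD3_c21) Lrfl Lrfl
theorem f427711 : Led Lsl_gt (LP (LK LD1_c2 LD2_c56 LD3_c0)) = (LP (LK LD1_c5 LD2_c59 LD3_c15)) :=
  Lre_g IH (LK LD1_c2 LD2_c56 LD3_c0) (LK LD1_c5 LD2_c59 LD3_c15) Lrfl Lrfl
theorem f545411 : Led Lsl_gf (LP (LK LD1_c11 LD2_c32 LD3_c23)) = (LP (LK LD1_c5 LD2_c59 LD3_c15)) :=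
  Lgr Lrot76 (Lpr_af (K38.f545374 IH) (Lpe (K38.f545373 IH) (Lpr_gt (f427711 IH) (Lpn (LP (LK LD1_c5 LD2_c59 LD3_c15))))))
theorem f545413 : Led Lsl_ct (LP (LK LD1_c11 LD2_c42 LD3_c61)) = (LP (LK LD1_c5 LD2_c59 LD3_c15)) :=
  Lre_c IH (LK LD1_c11 LD2_c42 LD3_c61) (LK LD1_c5 LD2_c59 LD3_c15) Lrfl Lrfl
theorem f545415 : Led Lsl_gt (LP (LK LD1_c9 LD2_c46 LD3_c21)) = (LP (LK LD1_c11 LD2_c42 LD3_c61)) :=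
  Lgr Lrot9 (Lpe (f100700 IH) (Lpr_gt (f76111 IH) (Lpr_ct (K36.f72499 IH) (Lpr_gt (K36.f75541 IH) (Lpr_ct (K38.f500887 IH) (Lpqs (K36.f539086 IH) (Lpe (K38.f539091 IH) (Lpe (K38.f539094 IH) (Lpr_gf (f545411 IH) (Lpe (f545413 IH) (Lpn (LP (LK LD1_c11 LD2_c42 LD3_c61)))))))))))))
theorem f562542 : Led Lsl_df (LP (LK LD1_c11 LD2_c42 LD3_c61)) = (LP (LK LD1_c11 LD2_c51 LD3_c53)) :=
  Lgr Lrot168 (Lpe (f545415 IH) (Lpe (f100700 IH) (Lpr_et (f557772 IH) (Lpr_gf (K7.f150253 IH) (Lpr_ef (K36.f500292 IH) (Lpqs (K36.f537720 IH) (Lpr_dt (K36.f211074 IH) (Lpe (f211081 IH) (Lpe (f559704 IH) (Lpr_gf (f562532 IH) (Lpr_ef (K39.f211819 IH) (Lpn (LP (LK LD1_c11 LD2_c51 LD3_c53))))))))))))))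
theorem f427712 : Led Lsl_ct (LP (LK LD1_c5 LD2_c59 LD3_c15)) = (LP (LK LD1_c11 LD2_c42 LD3_c61)) :=
  Lre_c IH (LK LD1_c5 LD2_c59 LD3_c15) (LK LD1_c11 LD2_c42 LD3_c61) Lrfl Lrfl
theorem f75560 : Led Lsl_dt (LP (LK LD1_c2 LD2_c55 LD3_c61)) = (LP (LK LD1_c5 LD2_c59 LD3_c14)) :=
  Lre_d IH (LK LD1_c2 LD2_c55 LD3_c61) (LK LD1_c5 LD2_c59 LD3_c14) Lrfl Lrfl
theorem f427702 : Led Lsl_at (LP (LK LD1_c6 LD2_c7 LD3_c53)) = (LP (LK LD1_c3 LD2_c0 LD3_c12)) :=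
  Lre_a IH (LK LD1_c6 LD2_c7 LD3_c53) (LK LD1_c3 LD2_c0 LD3_c12) Lrfl Lrfl
theorem f75547 : Led Lsl_dt (LP (LK LD1_c5 LD2_c59 LD3_c14)) = (LP (LK LD1_c2 LD2_c55 LD3_c61)) :=
  Lre_d IH (LK LD1_c5 LD2_c59 LD3_c14) (LK LD1_c2 LD2_c55 LD3_c61) Lrfl Lrfl
theorem f383263 : Led Lsl_gt (LP (LK LD1_c5 LD2_c37 LD3_c19)) = (LP (LK LD1_c5 LD2_c59 LD3_c14)) :=
  Lgr Lrot137 (Lpe (K36.f383262 IH) (Lpr_dt (K27.f383251 IH) (Lpe (K27.f75568 IH) (Lpe (K27.f75567 IH) (Lpr_et (K27.f75973 IH) (Lpe (K28.f56886 IH) (Lpe (K39.f75544 IH) (Lpr_dt (K36.f75545 IH) (Lpe (K38.f75546 IH) (Lpe (f75547 IH) (Lpn (LP (LK LD1_c5 LD2_c59 LD3_c14)))))))))))))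
theorem f427708 : Led Lsl_gf (LP (LK LD1_c3 LD2_c0 LD3_c12)) = (LP (LK LD1_c5 LD2_c59 LD3_c14)) :=
  Lgr Lrot76 (Lpe (f427702 IH) (Lpr_ff (K36.f427700 IH) (Lpr_gt (f383263 IH) (Lpn (LP (LK LD1_c5 LD2_c59 LD3_c14))))))
theorem f387452 : Led Lsl_gt (LP (LK LD1_c5 LD2_c12 LD3_c28)) = (LP (LK LD1_c10 LD2_c15 LD3_c24)) :=
  Lre_g IH (LK LD1_c5 LD2_c12 LD3_c28) (LK LD1_c10 LD2_c15 LD3_c24) Lrfl Lrfl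
theorem f562552 : Led Lsl_ct (LP (LK LD1_c10 LD2_c15 LD3_c24)) = (LP (LK LD1_c11 LD2_c51 LD3_c53)) :=
  Lgr Lrot110 (Lpe (f387452 IH) (Lpr_cf (f559637 IH) (Lpr_gf (f427708 IH) (Lpe (f75560 IH) (Lpr_gt (K38.f75546 IH) (Lpr_ct (K36.f427710 IH) (Lpr_gt (f427711 IH) (Lpr_ct (f427712 IH) (Lpr_df (f562542 IH) (Lpn (LP (LK LD1_c11 LD2_c51 LD3_c53))))))))))))
theorem f562548 : Led Lsl_dt (LP (LK LD1_c11 LD2_c42 LD3_c61)) = (LP (LK LD1_c11 LD2_c51 LD3_c53)) :=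
  Lgr Lrot42 (Lpr_df (f562542 IH) (Lpn (LP (LK LD1_c11 LD2_c51 LD3_c53))))
theorem f150387 : Led Lsl_dt (LP (LK LD1_c1 LD2_c23 LD3_c53)) = (LP (LK LD1_c2 LD2_c55 LD3_c53)) :=
  Lre_d IH (LK LD1_c1 LD2_c23 LD3_c53) (LK LD1_c2 LD2_c55 LD3_c53) Lrfl Lrfl
theorem f428275 : Led Lsl_gt (LP (LK LD1_c2 LD2_c55 LD3_c53)) = (LP (LK LD1_c5 LD2_c58 LD3_c57)) :=
  Lre_g IH (LK LD1_c2 LD2_c55 LD3_c53) (LK LD1_c5 LD2_c58 LD3_c57) Lrfl Lrfl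
theorem f562564 : Led Lsl_df (LP (LK LD1_c10 LD2_c15 LD3_c24)) = (LP (LK LD1_c5 LD2_c58 LD3_c57)) :=
  Lgr Lrot174 (Lpr_ct (f562552 IH) (Lpe (f562548 IH) (Lpe (f545415 IH) (Lpe (f100700 IH) (Lpe (f100699 IH) (Lpr_ct (K36.f172134 IH) (Lpr_gt (K31.f495908 IH) (Lpqs (K36.f539257 IH) (Lpr_dt (f150387 IH) (Lpr_gt (f428275 IH) (Lpn (LP (LK LD1_c5 LD2_c58 LD3_c57)))))))))))))
theorem f500767 : Led Lsl_dt (LP (LK LD1_c5 LD2_c59 LD3_c15)) = (LP (LK LD1_c11 LD2_c43 LD3_c0)) :=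
  Lre_d IH (LK LD1_c5 LD2_c59 LD3_c15) (LK LD1_c11 LD2_c43 LD3_c0) Lrfl Lrfl
theorem f172125 : Led Lsl_ct (LP (LK LD1_c1 LD2_c28 LD3_c57)) = (LP (LK LD1_c0 LD2_c41 LD3_c7)) :=
  Lre_c IH (LK LD1_c1 LD2_c28 LD3_c57) (LK LD1_c0 LD2_c41 LD3_c7) Lrfl Lrfl
theorem f186044 : Led Lsl_gt (LP (LK LD1_c2 LD2_c16 LD3_c46)) = (LP (LK LD1_c1 LD2_c28 LD3_c57)) :=
  Lgr Lrot150 (Lpe (K10.f24229 IH) (Lpr_gf (K9.f24444 IH) (Lpe (K9.f176815 IH) (Lpr_gt (K10.f176836 IH) (Lpr_ct (K10.f9388 IH) (Lpr_gt (K10.f26687 IH) (Lpr_ct (K10.f186021 IH) (Lpe (K9.f59115 IH) (Lpe (f172125 IH) (Lpn (LP (LK LD1_c1 LD2_c28 LD3_c57))))))))))))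
theorem f450306 : Led Lsl_at (LP (LK LD1_c1 LD2_c21 LD3_c22)) = (LP (LK LD1_c1 LD2_c28 LD3_c57)) :=
  Lgr Lrot26 (Lpr_ff (K38.f450302 IH) (Lpe (K12.f211730 IH) (Lpr_gt (f186044 IH) (Lpn (LP (LK LD1_c1 LD2_c28 LD3_c57))))))
theorem f176620 : Led Lsl_bt (LP (LK LD1_c2 LD2_c50 LD3_c43)) = (LP (LK LD1_c1 LD2_c21 LD3_c22)) :=
  Lre_b IH (LK LD1_c2 LD2_c50 LD3_c43) (LK LD1_c1 LD2_c21 LD3_c22) Lrfl Lrfl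
theorem f450308 : Led Lsl_at (LP (LK LD1_c5 LD2_c49 LD3_c11)) = (LP (LK LD1_c2 LD2_c50 LD3_c43)) :=
  Lre_a IH (LK LD1_c5 LD2_c49 LD3_c11) (LK LD1_c2 LD2_c50 LD3_c43) Lrfl Lrfl
theorem f186027 : Led Lsl_bt (LP (LK LD1_c1 LD2_c28 LD3_c57)) = (LP (LK LD1_c3 LD2_c5 LD3_c45)) :=
  Lre_b IH (LK LD1_c1 LD2_c28 LD3_c57) (LK LD1_c3 LD2_c5 LD3_c45) Lrfl Lrfl
theorem f450309 : Led Lsl_bf (LP (LK LD1_c5 LD2_c49 LD3_c11)) = (LP (LK LD1_c6 LD2_c17 LD3_c9)) :=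
  Lgr Lrot81 (Lpr_at (f450308 IH) (Lpr_bt (f176620 IH) (Lpr_at (f450306 IH) (Lpr_bt (f186027 IH) (Lpr_at (K39.f421049 IH) (Lpn (LP (LK LD1_c6 LD2_c17 LD3_c9))))))))
theorem f449090 : Led Lsl_ff (LP (LK LD1_c0 LD2_c41 LD3_c5)) = (LP (LK LD1_c0 LD2_c37 LD3_c31)) :=
  Lgr Lrot23 (Lpr_ct (K16.f59022 IH) (Lpr_ft (K11.f449009 IH) (Lpqs (K36.f449083 IH) (Lpr_ct (K11.f210986 IH) (Lpn (LP (LK LD1_c0 LD2_c37 LD3_c31)))))))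
theorem f450272 : Led Lsl_ff (LP (LK LD1_c2 LD2_c58 LD3_c11)) = (LP (LK LD1_c1 LD2_c28 LD3_c57)) :=
  Lgr Lrot72 (Lpe (K35.f211814 IH) (Lpr_ft (K38.f450264 IH) (Lpe (K12.f171790 IH) (Lpe (f449090 IH) (Lpr_et (K16.f186031 IH) (Lpn (LP (LK LD1_c1 LD2_c28 LD3_c57))))))))
theorem f450313 : Led Lsl_af (LP (LK LD1_c2 LD2_c45 LD3_c11)) = (LP (LK LD1_c2 LD2_c58 LD3_c11)) :=
  Lgr Lrot45 (Lpe (K38.f450302 IH) (Lpr_at (f450306 IH) (Lpe (f450272 IH) (Lpn (LP (LK LD1_c2 LD2_c58 LD3_c11))))))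
theorem f211727 : Led Lsl_bt (LP (LK LD1_c2 LD2_c45 LD3_c11)) = (LP (LK LD1_c5 LD2_c38 LD3_c38)) :=
  Lre_b IH (LK LD1_c2 LD2_c45 LD3_c11) (LK LD1_c5 LD2_c38 LD3_c38) Lrfl Lrfl
theorem f450315 : Led Lsl_at (LP (LK LD1_c5 LD2_c38 LD3_c38)) = (LP (LK LD1_c11 LD2_c8 LD3_c21)) :=
  Lre_a IH (LK LD1_c5 LD2_c38 LD3_c38) (LK LD1_c11 LD2_c8 LD3_c21) Lrfl Lrfl
theorem f450316 : Led Lsl_bt (LP (LK LD1_c11 LD2_c8 LD3_c21)) = (LP (LK LD1_c11 LD2_c51 LD3_c53)) :=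
  Lgr Lrot62 (Lpe (f450315 IH) (Lpe (f211727 IH) (Lpr_af (f450313 IH) (Lpe (K39.f26695 IH) (Lpe (K39.f26709 IH) (Lpn (LP (LK LD1_c11 LD2_c51 LD3_c53))))))))
theorem f450385 : Led Lsl_ff (LP (LK LD1_c6 LD2_c17 LD3_c9)) = (LP (LK LD1_c11 LD2_c51 LD3_c53)) :=
  Lgr Lrot25 (Lpe (f450309 IH) (Lpr_ft (K39.f450381 IH) (Lpr_bt (f450316 IH) (Lpn (LP (LK LD1_c11 LD2_c51 LD3_c53))))))
theorem f421053 : Led Lsl_at (LP (LK LD1_c6 LD2_c17 LD3_c9)) = (LP (LK LD1_c3 LD2_c5 LD3_c45)) :=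
  Lre_a IH (LK LD1_c6 LD2_c17 LD3_c9) (LK LD1_c3 LD2_c5 LD3_c45) Lrfl Lrfl
theorem f421052 : Led Lsl_dt (LP (LK LD1_c5 LD2_c49 LD3_c53)) = (LP (LK LD1_c2 LD2_c51 LD3_c2)) :=
  Lre_d IH (LK LD1_c5 LD2_c49 LD3_c53) (LK LD1_c2 LD2_c51 LD3_c2) Lrfl Lrfl
theorem f186118 : Led Lsl_ct (LP (LK LD1_c11 LD2_c28 LD3_c20)) = (LP (LK LD1_c5 LD2_c49 LD3_c53)) :=
  Lre_c IH (LK LD1_c11 LD2_c28 LD3_c20) (LK LD1_c5 LD2_c49 LD3_c53) Lrfl Lrfl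
theorem f186119 : Led Lsl_dt (LP (LK LD1_c20 LD2_c25 LD3_c53)) = (LP (LK LD1_c11 LD2_c28 LD3_c20)) :=
  Lre_d IH (LK LD1_c20 LD2_c25 LD3_c53) (LK LD1_c11 LD2_c28 LD3_c20) Lrfl Lrfl
theorem f562550 : Led Lsl_ct (LP (LK LD1_c11 LD2_c43 LD3_c0)) = (LP (LK LD1_c20 LD2_c25 LD3_c53)) :=
  Lgr Lrot41 (Lpe (f500767 IH) (Lpe (f545413 IH) (Lpr_df (f562542 IH) (Lpe (f450385 IH) (Lpr_at (f421053 IH) (Lpe (K39.f421043 IH) (Lpe (f421052 IH) (Lpe (f186118 IH) (Lpe (f186119 IH) (Lpn (LP (LK LD1_c20 LD2_c25 LD3_c53))))))))))))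
theorem f558521 : Led Lsl_at (LP (LK LD1_c5 LD2_c57 LD3_c6)) = (LP (LK LD1_c5 LD2_c49 LD3_c53)) :=
  Lgr Lrot51 (Lpr_df (f558519 IH) (Lpe (K39.f421058 IH) (Lpe (f421052 IH) (Lpn (LP (LK LD1_c5 LD2_c49 LD3_c53))))))
theorem f562571 : Led Lsl_ff (LP (LK LD1_c5 LD2_c57 LD3_c6)) = (LP (LK LD1_c5 LD2_c58 LD3_c57)) :=
  Lgr Lrot103 (Lpr_at (f558521 IH) (Lpe (f186118 IH) (Lpe (f186119 IH) (Lpe (f562550 IH) (Lpe (f500767 IH) (Lpe (f545413 IH) (Lpr_df (f562542 IH) (Lpe (f562552 IH) (Lpr_df (f562564 IH) (Lpn (LP (LK LD1_c5 LD2_c58 LD3_c57))))))))))))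
theorem f562372 : Led Lsl_ft (LP (LK LD1_c11 LD2_c16 LD3_c38)) = (LP (LK LD1_c5 LD2_c57 LD3_c30)) :=
  Lre_f IH (LK LD1_c11 LD2_c16 LD3_c38) (LK LD1_c5 LD2_c57 LD3_c30) Lrfl Lrfl
theorem f539325 : Led Lsl_dt (LP (LK LD1_c5 LD2_c57 LD3_c30)) = (LP (LK LD1_c11 LD2_c40 LD3_c8)) :=
  Lre_d IH (LK LD1_c5 LD2_c57 LD3_c30) (LK LD1_c11 LD2_c40 LD3_c8) Lrfl Lrfl
theorem f562373 : Led Lsl_ft (LP (LK LD1_c11 LD2_c40 LD3_c8)) = (LP (LK LD1_c17 LD2_c59 LD3_c3)) :=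
  Lgr Lrot54 (Lpe (f539325 IH) (Lpe (f562372 IH) (Lpr_df (f562341 IH) (Lpn (LP (LK LD1_c17 LD2_c59 LD3_c3))))))
theorem f211802 : Led Lsl_gt (LP (LK LD1_c2 LD2_c52 LD3_c48)) = (LP (LK LD1_c5 LD2_c53 LD3_c0)) :=
  Lre_g IH (LK LD1_c2 LD2_c52 LD3_c48) (LK LD1_c5 LD2_c53 LD3_c0) Lrfl Lrfl
theorem f449354 : Led Lsl_gt (LP (LK LD1_c5 LD2_c53 LD3_c0)) = (LP (LK LD1_c9 LD2_c6 LD3_c55)) :=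
  Lgr Lrot46 (Lpe (f211802 IH) (Lpr_ft (K36.f449345 IH) (Lpr_at (K37.f449348 IH) (Lpn (LP (LK LD1_c9 LD2_c6 LD3_c55))))))
theorem f496624 : Led Lsl_dt (LP (LK LD1_c1 LD2_c21 LD3_c40)) = (LP (LK LD1_c2 LD2_c51 LD3_c12)) :=
  Lre_d IH (LK LD1_c1 LD2_c21 LD3_c40) (LK LD1_c2 LD2_c51 LD3_c12) Lrfl Lrfl
def v1564 : LQ := Led Lsl_et (LP (LK LD1_c1 LD2_c21 LD3_c40))
theorem f499975 : Led Lsl_et (LP (LK LD1_c1 LD2_c21 LD3_c40)) = v1564 :=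
  Lrfl
theorem f491536 : Led Lsl_ef (LP (LK LD1_c2 LD2_c12 LD3_c30)) = K37.v1106 :=
  Lgr Lrot29 (Lpr_bt (K35.f211956 IH) (Lpr_et (K35.f451454 IH) (Lpr_bt (K37.f491533 IH) (Lpn K37.v1106))))
theorem f537623 : (LP (LK LD1_c2 LD2_c12 LD3_c30)) = v1564 :=
  Lefun (Lecon (Lfl_ef (f491536 IH)) (K37.f537252 IH)) (f499975 IH)
theorem f289405 : Led Lsl_et (LP (LK LD1_c9 LD2_c0 LD3_c9)) = (LP (LK LD1_c4 LD2_c31 LD3_c3)) :=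
  Lre_e IH (LK LD1_c9 LD2_c0 LD3_c9) (LK LD1_c4 LD2_c31 LD3_c3) Lrfl Lrfl
theorem f559503 : Led Lsl_df (LP (LK LD1_c5 LD2_c53 LD3_c0)) = (LP (LK LD1_c9 LD2_c0 LD3_c9)) :=
  Lgr Lrot170 (Lpr_gt (f449354 IH) (Lpe (K37.f211093 IH) (Lpr_et (f559499 IH) (Lpr_gt (K4.f74534 IH) (Lpr_dt (K4.f74319 IH) (Lpe (K32.f496611 IH) (Lpe (f496624 IH) (Lpr_et (f499975 IH) (Lpq (f537623 IH) (Lpr_gt (K39.f211836 IH) (Lpe (f289405 IH) (Lpn (LP (LK LD1_c9 LD2_c0 LD3_c9))))))))))))))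
theorem f559505 : Led Lsl_dt (LP (LK LD1_c5 LD2_c53 LD3_c0)) = (LP (LK LD1_c9 LD2_c0 LD3_c9)) :=
  Lgr Lrot42 (Lpr_df (f559503 IH) (Lpn (LP (LK LD1_c9 LD2_c0 LD3_c9))))
theorem f72494 : Led Lsl_dt (LP (LK LD1_c9 LD2_c46 LD3_c23)) = (LP (LK LD1_c5 LD2_c47 LD3_c9)) :=
  Lgr Lrot42 (Lpr_df (f72488 IH) (Lpn (LP (LK LD1_c5 LD2_c47 LD3_c9))))
theorem f559509 : Led Lsl_ct (LP (LK LD1_c5 LD2_c47 LD3_c9)) = (LP (LK LD1_c9 LD2_c0 LD3_c9)) :=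
  Lgr Lrot7 (Lpe (f72494 IH) (Lpe (f72506 IH) (Lpe (f72507 IH) (Lpe (K37.f72508 IH) (Lpr_cf (K37.f539903 IH) (Lpe (K37.f500362 IH) (Lpr_dt (K36.f211801 IH) (Lpr_gt (f211802 IH) (Lpr_dt (f559505 IH) (Lpn (LP (LK LD1_c9 LD2_c0 LD3_c9))))))))))))
theorem f72500 : Led Lsl_dt (LP (LK LD1_c2 LD2_c55 LD3_c1)) = (LP (LK LD1_c1 LD2_c23 LD3_c27)) :=
  Lre_d IH (LK LD1_c2 LD2_c55 LD3_c1) (LK LD1_c1 LD2_c23 LD3_c27) Lrfl Lrfl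
theorem f72498 : Led Lsl_dt (LP (LK LD1_c4 LD2_c58 LD3_c15)) = (LP (LK LD1_c2 LD2_c26 LD3_c59)) :=
  Lre_d IH (LK LD1_c4 LD2_c58 LD3_c15) (LK LD1_c2 LD2_c26 LD3_c59) Lrfl Lrfl
theorem f556080 : Led Lsl_gf (LP (LK LD1_c5 LD2_c47 LD3_c9)) = (LP (LK LD1_c6 LD2_c4 LD3_c10)) :=
  Lgr Lrot144 (Lpe (f72488 IH) (Lpr_gt (f72484 IH) (Lpr_dt (f72498 IH) (Lpe (f72502 IH) (Lpe (f72500 IH) (Lpe (K39.f72501 IH) (Lpr_df (K39.f442633 IH) (Lpr_gf (K39.f556078 IH) (Lpr_cf (K39.f198493 IH) (Lpn (LP (LK LD1_c6 LD2_c4 LD3_c10))))))))))))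
theorem f176491 : Led Lsl_gt (LP (LK LD1_c5 LD2_c45 LD3_c6)) = (LP (LK LD1_c11 LD2_c20 LD3_c38)) :=
  Lre_g IH (LK LD1_c5 LD2_c45 LD3_c6) (LK LD1_c11 LD2_c20 LD3_c38) Lrfl Lrfl
theorem f559511 : Led Lsl_cf (LP (LK LD1_c5 LD2_c53 LD3_c0)) = (LP (LK LD1_c11 LD2_c20 LD3_c38)) :=
  Lgr Lrot175 (Lpr_dt (f559505 IH) (Lpe (f559509 IH) (Lpr_gf (f556080 IH) (Lpe (K39.f198495 IH) (Lpr_gf (f558453 IH) (Lpe (K27.f386640 IH) (Lpr_gt (K27.f176772 IH) (Lpr_ct (K37.f386657 IH) (Lpr_gt (f176491 IH) (Lpn (LP (LK LD1_c11 LD2_c20 LD3_c38))))))))))))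
theorem f211086 : Led Lsl_dt (LP (LK LD1_c9 LD2_c6 LD3_c55)) = (LP (LK LD1_c4 LD2_c35 LD3_c5)) :=
  Lre_d IH (LK LD1_c9 LD2_c6 LD3_c55) (LK LD1_c4 LD2_c35 LD3_c5) Lrfl Lrfl
theorem f387204 : Led Lsl_dt (LP (LK LD1_c2 LD2_c27 LD3_c28)) = (LP (LK LD1_c4 LD2_c59 LD3_c9)) :=
  Lre_d IH (LK LD1_c2 LD2_c27 LD3_c28) (LK LD1_c4 LD2_c59 LD3_c9) Lrfl Lrfl
theorem f545761 : Led Lsl_ct (LP (LK LD1_c4 LD2_c59 LD3_c9)) = (LP (LK LD1_c9 LD2_c48 LD3_c47)) :=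
  Lre_c IH (LK LD1_c4 LD2_c59 LD3_c9) (LK LD1_c9 LD2_c48 LD3_c47) Lrfl Lrfl
theorem f545764 : Led Lsl_dt (LP (LK LD1_c17 LD2_c59 LD3_c6)) = (LP (LK LD1_c9 LD2_c48 LD3_c47)) :=
  Lre_d IH (LK LD1_c17 LD2_c59 LD3_c6) (LK LD1_c9 LD2_c48 LD3_c47) Lrfl Lrfl
theorem f557778 : Led Lsl_gt (LP (LK LD1_c11 LD2_c20 LD3_c38)) = (LP (LK LD1_c5 LD2_c57 LD3_c30)) :=
  Lre_g IH (LK LD1_c11 LD2_c20 LD3_c38) (LK LD1_c5 LD2_c57 LD3_c30) Lrfl Lrfl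
theorem f559514 : Led Lsl_gf (LP (LK LD1_c17 LD2_c59 LD3_c6)) = (LP (LK LD1_c11 LD2_c40 LD3_c8)) :=
  Lgr Lrot143 (Lpr_dt (f545764 IH) (Lpe (f545761 IH) (Lpe (f387204 IH) (Lpqs (K38.f545736 IH) (Lpe (K37.f500372 IH) (Lpe (f211086 IH) (Lpe (f449354 IH) (Lpr_cf (f559511 IH) (Lpr_gt (f557778 IH) (Lpr_dt (f539325 IH) (Lpn (LP (LK LD1_c11 LD2_c40 LD3_c8)))))))))))))
theorem f539270 : Led Lsl_at (LP (LK LD1_c6 LD2_c1 LD3_c39)) = (LP (LK LD1_c11 LD2_c40 LD3_c8)) :=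
  Lre_a IH (LK LD1_c6 LD2_c1 LD3_c39) (LK LD1_c11 LD2_c40 LD3_c8) Lrfl Lrfl
theorem f539269 : Led Lsl_ft (LP (LK LD1_c11 LD2_c20 LD3_c41)) = (LP (LK LD1_c6 LD2_c1 LD3_c39)) :=
  Lre_f IH (LK LD1_c11 LD2_c20 LD3_c41) (LK LD1_c6 LD2_c1 LD3_c39) Lrfl Lrfl
theorem f562383 : Led Lsl_af (LP (LK LD1_c11 LD2_c20 LD3_c41)) = (LP (LK LD1_c17 LD2_c59 LD3_c3)) :=
  Lgr Lrot45 (Lpr_ft (f539269 IH) (Lpr_at (f539270 IH) (Lpr_ft (f562373 IH) (Lpn (LP (LK LD1_c17 LD2_c59 LD3_c3))))))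
theorem f562386 : Led Lsl_gt (LP (LK LD1_c17 LD2_c59 LD3_c6)) = (LP (LK LD1_c11 LD2_c20 LD3_c41)) :=
  Lgr Lrot46 (Lpr_gf (f559514 IH) (Lpr_ft (f562373 IH) (Lpe (f562383 IH) (Lpn (LP (LK LD1_c11 LD2_c20 LD3_c41))))))
theorem f562388 : Led Lsl_ft (LP (LK LD1_c17 LD2_c59 LD3_c6)) = (LP (LK LD1_c9 LD2_c48 LD3_c46)) :=
  Lre_f IH (LK LD1_c17 LD2_c59 LD3_c6) (LK LD1_c9 LD2_c48 LD3_c46) Lrfl Lrfl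
theorem f562389 : Led Lsl_at (LP (LK LD1_c9 LD2_c48 LD3_c46)) = (LP (LK LD1_c17 LD2_c58 LD3_c23)) :=
  Lre_a IH (LK LD1_c9 LD2_c48 LD3_c46) (LK LD1_c17 LD2_c58 LD3_c23) Lrfl Lrfl
theorem f562390 : Led Lsl_gf (LP (LK LD1_c17 LD2_c58 LD3_c23)) = (LP (LK LD1_c11 LD2_c20 LD3_c41)) :=
  Lgr Lrot76 (Lpe (f562389 IH) (Lpe (f562388 IH) (Lpr_gt (f562386 IH) (Lpn (LP (LK LD1_c11 LD2_c20 LD3_c41))))))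
theorem f562395 : Led Lsl_gt (LP (LK LD1_c17 LD2_c58 LD3_c23)) = (LP (LK LD1_c11 LD2_c40 LD3_c8)) :=
  Lgr Lrot46 (Lpr_gf (f562390 IH) (Lpr_ft (f539269 IH) (Lpr_at (f539270 IH) (Lpn (LP (LK LD1_c11 LD2_c40 LD3_c8))))))
theorem f545788 : Led Lsl_dt (LP (LK LD1_c9 LD2_c48 LD3_c7)) = (LP (LK LD1_c17 LD2_c58 LD3_c23)) :=
  Lre_d IH (LK LD1_c9 LD2_c48 LD3_c7) (LK LD1_c17 LD2_c58 LD3_c23) Lrfl Lrfl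
theorem f495913 : Led Lsl_dt (LP (LK LD1_c11 LD2_c40 LD3_c8)) = (LP (LK LD1_c5 LD2_c57 LD3_c30)) :=
  Lre_d IH (LK LD1_c11 LD2_c40 LD3_c8) (LK LD1_c5 LD2_c57 LD3_c30) Lrfl Lrfl
theorem f421068 : Led Lsl_dt (LP (LK LD1_c2 LD2_c51 LD3_c2)) = (LP (LK LD1_c5 LD2_c49 LD3_c53)) :=
  Lre_d IH (LK LD1_c2 LD2_c51 LD3_c2) (LK LD1_c5 LD2_c49 LD3_c53) Lrfl Lrfl
theorem f557439 : Led Lsl_gf (LP (LK LD1_c2 LD2_c55 LD3_c53)) = (LP (LK LD1_c5 LD2_c49 LD3_c53)) :=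
  Lgr Lrot145 (Lpe (f150387 IH) (Lpr_et (K36.f150386 IH) (Lpr_gt (K8.f150382 IH) (Lpr_dt (K7.f72600 IH) (Lpe (f502638 IH) (Lpr_df (K36.f501889 IH) (Lpr_et (K39.f502780 IH) (Lpqs (f557423 IH) (Lpr_gt (f421032 IH) (Lpe (f421028 IH) (Lpr_dt (f421068 IH) (Lpn (LP (LK LD1_c5 LD2_c49 LD3_c53))))))))))))))
theorem f562399 : Led Lsl_gf (LP (LK LD1_c9 LD2_c48 LD3_c7)) = (LP (LK LD1_c11 LD2_c28 LD3_c20)) :=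
  Lgr Lrot144 (Lpr_dt (f545788 IH) (Lpr_gt (f562395 IH) (Lpr_dt (f495913 IH) (Lpe (K39.f387413 IH) (Lpe (K27.f386661 IH) (Lpr_gf (K31.f495910 IH) (Lpqs (K36.f539257 IH) (Lpe (K36.f383269 IH) (Lpr_gf (f557439 IH) (Lpe (f186118 IH) (Lpn (LP (LK LD1_c11 LD2_c28 LD3_c20)))))))))))))
theorem f139021 : Led Lsl_ct (LP (LK LD1_c9 LD2_c48 LD3_c7)) = (LP (LK LD1_c4 LD2_c58 LD3_c51)) :=
  Lre_c IH (LK LD1_c9 LD2_c48 LD3_c7) (LK LD1_c4 LD2_c58 LD3_c51) Lrfl Lrfl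
theorem f557770 : Led Lsl_ct (LP (LK LD1_c4 LD2_c57 LD3_c43)) = (LP (LK LD1_c2 LD2_c27 LD3_c16)) :=
  Lgr Lrot59 (Lpr_cf (f557764 IH) (Lpn (LP (LK LD1_c2 LD2_c27 LD3_c16))))
theorem f186120 : Led Lsl_ct (LP (LK LD1_c5 LD2_c49 LD3_c53)) = (LP (LK LD1_c11 LD2_c28 LD3_c20)) :=
  Lre_c IH (LK LD1_c5 LD2_c49 LD3_c53) (LK LD1_c11 LD2_c28 LD3_c20) Lrfl Lrfl
theorem f562403 : Led Lsl_gt (LP (LK LD1_c5 LD2_c45 LD3_c3)) = (LP (LK LD1_c5 LD2_c49 LD3_c53)) :=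
  Lgr Lrot9 (Lpe (K36.f75542 IH) (Lpr_gt (K36.f427519 IH) (Lpr_ct (K37.f176813 IH) (Lpr_gt (f100699 IH) (Lpr_ct (f557770 IH) (Lpe (K39.f139010 IH) (Lpe (f139021 IH) (Lpr_gf (f562399 IH) (Lpe (f186120 IH) (Lpn (LP (LK LD1_c5 LD2_c49 LD3_c53))))))))))))
theorem f562602 : Led Lsl_gf (LP (LK LD1_c5 LD2_c45 LD3_c3)) = (LP (LK LD1_c5 LD2_c58 LD3_c57)) :=
  Lgr Lrot47 (Lpr_gt (f562403 IH) (Lpe (f558521 IH) (Lpr_ff (f562571 IH) (Lpn (LP (LK LD1_c5 LD2_c58 LD3_c57))))))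
theorem f24006 : Led Lsl_dt (LP (LK LD1_c11 LD2_c20 LD3_c41)) = (LP (LK LD1_c5 LD2_c45 LD3_c6)) :=
  Lre_d IH (LK LD1_c11 LD2_c20 LD3_c41) (LK LD1_c5 LD2_c45 LD3_c6) Lrfl Lrfl
theorem f559519 : Led Lsl_dt (LP (LK LD1_c9 LD2_c48 LD3_c47)) = (LP (LK LD1_c17 LD2_c59 LD3_c6)) :=
  Lre_d IH (LK LD1_c9 LD2_c48 LD3_c47) (LK LD1_c17 LD2_c59 LD3_c6) Lrfl Lrfl
theorem f562566 : Led Lsl_ct (LP (LK LD1_c11 LD2_c42 LD3_c19)) = (LP (LK LD1_c5 LD2_c58 LD3_c57)) :=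
  Lre_c IH (LK LD1_c11 LD2_c42 LD3_c19) (LK LD1_c5 LD2_c58 LD3_c57) Lrfl Lrfl
theorem f562604 : Led Lsl_gf (LP (LK LD1_c9 LD2_c48 LD3_c47)) = (LP (LK LD1_c11 LD2_c42 LD3_c19)) :=
  Lgr Lrot144 (Lpr_dt (f559519 IH) (Lpr_gt (f562386 IH) (Lpr_dt (f24006 IH) (Lpe (K37.f386657 IH) (Lpe (K27.f381690 IH) (Lpe (K36.f427519 IH) (Lpe (K38.f500889 IH) (Lpr_gf (f562602 IH) (Lpe (f562566 IH) (Lpn (LP (LK LD1_c11 LD2_c42 LD3_c19))))))))))))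
theorem f545758 : Led Lsl_af (LP (LK LD1_c9 LD2_c48 LD3_c47)) = (LP (LK LD1_c16 LD2_c59 LD3_c5)) :=
  Lgr Lrot0 (Lpr_at (K37.f545754 IH) (Lpn (LP (LK LD1_c16 LD2_c59 LD3_c5))))
theorem f562609 : Led Lsl_gt (LP (LK LD1_c9 LD2_c48 LD3_c7)) = (LP (LK LD1_c11 LD2_c42 LD3_c19)) :=
  Lgr Lrot5 (Lpr_ft (K37.f545790 IH) (Lpe (f545758 IH) (Lpr_gf (f562604 IH) (Lpn (LP (LK LD1_c11 LD2_c42 LD3_c19))))))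
theorem f24526 : Led Lsl_bt (LP (LK LD1_c1 LD2_c22 LD3_c30)) = (LP (LK LD1_c2 LD2_c52 LD3_c52)) :=
  Lre_b IH (LK LD1_c1 LD2_c22 LD3_c30) (LK LD1_c2 LD2_c52 LD3_c52) Lrfl Lrfl
theorem f24527 : Led Lsl_df (LP (LK LD1_c2 LD2_c45 LD3_c9)) = (LP (LK LD1_c2 LD2_c52 LD3_c52)) :=
  Lgr Lrot12 (Lpr_bt (K38.f24525 IH) (Lpr_dt (K38.f24521 IH) (Lpr_bt (f24526 IH) (Lpn (LP (LK LD1_c2 LD2_c52 LD3_c52))))))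
theorem f24546 : Led Lsl_gt (LP (LK LD1_c2 LD2_c45 LD3_c9)) = (LP (LK LD1_c5 LD2_c38 LD3_c34)) :=
  Lre_g IH (LK LD1_c2 LD2_c45 LD3_c9) (LK LD1_c5 LD2_c38 LD3_c34) Lrfl Lrfl
theorem f562568 : Led Lsl_dt (LP (LK LD1_c10 LD2_c15 LD3_c24)) = (LP (LK LD1_c5 LD2_c58 LD3_c57)) :=
  Lgr Lrot42 (Lpr_df (f562564 IH) (Lpn (LP (LK LD1_c5 LD2_c58 LD3_c57))))
theorem f562556 : Led Lsl_cf (LP (LK LD1_c10 LD2_c15 LD3_c24)) = (LP (LK LD1_c11 LD2_c51 LD3_c53)) :=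
  Lgr Lrot11 (Lpr_ct (f562552 IH) (Lpn (LP (LK LD1_c11 LD2_c51 LD3_c53))))
theorem f186028 : Led Lsl_gt (LP (LK LD1_c3 LD2_c5 LD3_c45)) = (LP (LK LD1_c6 LD2_c17 LD3_c12)) :=
  Lre_g IH (LK LD1_c3 LD2_c5 LD3_c45) (LK LD1_c6 LD2_c17 LD3_c12) Lrfl Lrfl
theorem f450409 : Led Lsl_gt (LP (LK LD1_c6 LD2_c17 LD3_c12)) = (LP (LK LD1_c11 LD2_c51 LD3_c53)) :=
  Lgr Lrot46 (Lpe (f186028 IH) (Lpr_ft (K39.f450405 IH) (Lpr_at (K39.f26710 IH) (Lpn (LP (LK LD1_c11 LD2_c51 LD3_c53))))))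
theorem f562618 : Led Lsl_ct (LP (LK LD1_c5 LD2_c38 LD3_c34)) = (LP (LK LD1_c6 LD2_c17 LD3_c12)) :=
  Lgr Lrot152 (Lpe (f24546 IH) (Lpr_df (f24527 IH) (Lpr_gt (K38.f548695 IH) (Lpr_ct (K37.f139007 IH) (Lpr_gt (f562609 IH) (Lpr_ct (f562566 IH) (Lpe (f562568 IH) (Lpr_cf (f562556 IH) (Lpe (f450409 IH) (Lpn (LP (LK LD1_c6 LD2_c17 LD3_c12))))))))))))
theorem f173312 : Led Lsl_gt (LP (LK LD1_c7 LD2_c59 LD3_c6)) = (LP (LK LD1_c3 LD2_c58 LD3_c51)) :=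
  Lre_g IH (LK LD1_c7 LD2_c59 LD3_c6) (LK LD1_c3 LD2_c58 LD3_c51) Lrfl Lrfl
theorem f562629 : Led Lsl_bf (LP (LK LD1_c7 LD2_c59 LD3_c6)) = (LP (LK LD1_c10 LD2_c15 LD3_c24)) :=
  Lgr Lrot156 (Lpr_gt (f173312 IH) (Lpe (f56046 IH) (Lpr_ct (K10.f56045 IH) (Lpe (K10.f175543 IH) (Lpr_cf (K36.f210992 IH) (Lpr_bt (K38.f24536 IH) (Lpr_gt (f24546 IH) (Lpr_ct (f562618 IH) (Lpr_gt (f450409 IH) (Lpe (f562552 IH) (Lpn (LP (LK LD1_c10 LD2_c15 LD3_c24)))))))))))))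
theorem f562560 : Led Lsl_ff (LP (LK LD1_c10 LD2_c15 LD3_c24)) = (LP (LK LD1_c5 LD2_c49 LD3_c49)) :=
  Lgr Lrot23 (Lpr_ct (f562552 IH) (Lpe (f450385 IH) (Lpe (K39.f421050 IH) (Lpn (LP (LK LD1_c5 LD2_c49 LD3_c49))))))
theorem f558523 : Led Lsl_dt (LP (LK LD1_c2 LD2_c54 LD3_c50)) = (LP (LK LD1_c5 LD2_c57 LD3_c8)) :=
  Lre_d IH (LK LD1_c2 LD2_c54 LD3_c50) (LK LD1_c5 LD2_c57 LD3_c8) Lrfl Lrfl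
theorem f558524 : Led Lsl_bt (LP (LK LD1_c5 LD2_c57 LD3_c8)) = (LP (LK LD1_c5 LD2_c49 LD3_c49)) :=
  Lgr Lrot95 (Lpe (f558523 IH) (Lpe (f82180 IH) (Lpr_df (f558519 IH) (Lpn (LP (LK LD1_c5 LD2_c49 LD3_c49))))))
theorem f562637 : Led Lsl_ft (LP (LK LD1_c7 LD2_c59 LD3_c6)) = (LP (LK LD1_c5 LD2_c57 LD3_c8)) :=
  Lgr Lrot75 (Lpr_bf (f562629 IH) (Lpr_ff (f562560 IH) (Lpe (f558524 IH) (Lpn (LP (LK LD1_c5 LD2_c57 LD3_c8))))))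
theorem f173313 : Led Lsl_ct (LP (LK LD1_c15 LD2_c3 LD3_c47)) = (LP (LK LD1_c7 LD2_c59 LD3_c6)) :=
  Lre_c IH (LK LD1_c15 LD2_c3 LD3_c47) (LK LD1_c7 LD2_c59 LD3_c6) Lrfl Lrfl
theorem f562639 : Led Lsl_ct (LP (LK LD1_c5 LD2_c57 LD3_c8)) = (LP (LK LD1_c11 LD2_c39 LD3_c34)) :=
  Lre_c IH (LK LD1_c5 LD2_c57 LD3_c8) (LK LD1_c11 LD2_c39 LD3_c34) Lrfl Lrfl
theorem f562640 : Led Lsl_ff (LP (LK LD1_c15 LD2_c3 LD3_c47)) = (LP (LK LD1_c11 LD2_c39 LD3_c34)) :=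
  Lgr Lrot23 (Lpr_ct (f173313 IH) (Lpr_ft (f562637 IH) (Lpr_ct (f562639 IH) (Lpn (LP (LK LD1_c11 LD2_c39 LD3_c34))))))
theorem f541575 : Led Lsl_ct (LP (LK LD1_c7 LD2_c59 LD3_c6)) = (LP (LK LD1_c15 LD2_c3 LD3_c47)) :=
  Lre_c IH (LK LD1_c7 LD2_c59 LD3_c6) (LK LD1_c15 LD2_c3 LD3_c47) Lrfl Lrfl
theorem f450372 : Led Lsl_ff (LP (LK LD1_c5 LD2_c49 LD3_c11)) = (LP (LK LD1_c11 LD2_c8 LD3_c21)) :=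
  Lgr Lrot30 (Lpr_at (f450308 IH) (Lpr_ft (K38.f450304 IH) (Lpr_at (f450315 IH) (Lpn (LP (LK LD1_c11 LD2_c8 LD3_c21))))))
theorem f547113 : Led Lsl_ft (LP (LK LD1_c6 LD2_c14 LD3_c47)) = (LP (LK LD1_c12 LD2_c7 LD3_c50)) :=
  Lre_f IH (LK LD1_c6 LD2_c14 LD3_c47) (LK LD1_c12 LD2_c7 LD3_c50) Lrfl Lrfl
theorem f547114 : Led Lsl_cf (LP (LK LD1_c11 LD2_c8 LD3_c21)) = (LP (LK LD1_c12 LD2_c7 LD3_c50)) :=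
  Lgr Lrot108 (Lpe (f450372 IH) (Lpr_ct (K38.f547108 IH) (Lpr_ft (f547113 IH) (Lpn (LP (LK LD1_c12 LD2_c7 LD3_c50))))))
theorem f562633 : Led Lsl_bt (LP (LK LD1_c15 LD2_c3 LD3_c47)) = (LP (LK LD1_c12 LD2_c7 LD3_c50)) :=
  Lgr Lrot128 (Lpe (f541575 IH) (Lpr_bf (f562629 IH) (Lpr_cf (f562556 IH) (Lpe (f450316 IH) (Lpr_cf (f547114 IH) (Lpn (LP (LK LD1_c12 LD2_c7 LD3_c50))))))))
theorem f547110 : Led Lsl_ft (LP (LK LD1_c12 LD2_c7 LD3_c50)) = (LP (LK LD1_c6 LD2_c14 LD3_c47)) :=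
  Lre_f IH (LK LD1_c12 LD2_c7 LD3_c50) (LK LD1_c6 LD2_c14 LD3_c47) Lrfl Lrfl
theorem f562648 : Led Lsl_bt (LP (LK LD1_c6 LD2_c14 LD3_c47)) = (LP (LK LD1_c11 LD2_c39 LD3_c34)) :=
  Lgr Lrot35 (Lpe (f547110 IH) (Lpe (f562633 IH) (Lpr_ff (f562640 IH) (Lpn (LP (LK LD1_c11 LD2_c39 LD3_c34))))))
theorem f239208 : Led Lsl_bt (LP (LK LD1_c6 LD2_c14 LD3_c46)) = (LP (LK LD1_c3 LD2_c4 LD3_c16)) :=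
  Lre_b IH (LK LD1_c6 LD2_c14 LD3_c46) (LK LD1_c3 LD2_c4 LD3_c16) Lrfl Lrfl
theorem f562654 : Led Lsl_ef (LP (LK LD1_c6 LD2_c14 LD3_c46)) = (LP (LK LD1_c11 LD2_c39 LD3_c34)) :=
  Lgr Lrot29 (Lpr_bt (f239208 IH) (Lpr_et (K38.f547103 IH) (Lpr_bt (f562648 IH) (Lpn (LP (LK LD1_c11 LD2_c39 LD3_c34))))))
theorem f562658 : Led Lsl_et (LP (LK LD1_c6 LD2_c14 LD3_c46)) = (LP (LK LD1_c11 LD2_c39 LD3_c34)) :=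
  Lgr Lrot87 (Lpr_ef (f562654 IH) (Lpn (LP (LK LD1_c11 LD2_c39 LD3_c34))))
theorem f547106 : Led Lsl_at (LP (LK LD1_c5 LD2_c49 LD3_c12)) = (LP (LK LD1_c6 LD2_c14 LD3_c47)) :=
  Lgr Lrot100 (Lpr_af (K38.f547104 IH) (Lpn (LP (LK LD1_c6 LD2_c14 LD3_c47))))
theorem f176622 : Led Lsl_bt (LP (LK LD1_c4 LD2_c41 LD3_c39)) = (LP (LK LD1_c5 LD2_c49 LD3_c12)) :=
  Lgr Lrot128 (Lpe (K13.f176619 IH) (Lpe (K10.f176605 IH) (Lpr_cf (K10.f176600 IH) (Lpe (f176620 IH) (Lpe (K38.f176621 IH) (Lpn (LP (LK LD1_c5 LD2_c49 LD3_c12))))))))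
theorem f449622 : Led Lsl_af (LP (LK LD1_c4 LD2_c41 LD3_c39)) = (LP (LK LD1_c3 LD2_c4 LD3_c28)) :=
  Lgr Lrot0 (Lpr_at (K36.f449620 IH) (Lpn (LP (LK LD1_c3 LD2_c4 LD3_c28))))
theorem f410889 : Led Lsl_bt (LP (LK LD1_c6 LD2_c15 LD3_c0)) = (LP (LK LD1_c3 LD2_c4 LD3_c28)) :=
  Lre_b IH (LK LD1_c6 LD2_c15 LD3_c0) (LK LD1_c3 LD2_c4 LD3_c28) Lrfl Lrfl
theorem f562650 : Led Lsl_af (LP (LK LD1_c6 LD2_c15 LD3_c0)) = (LP (LK LD1_c11 LD2_c39 LD3_c34)) :=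
  Lgr Lrot36 (Lpr_bt (f410889 IH) (Lpe (f449622 IH) (Lpr_bt (f176622 IH) (Lpr_at (f547106 IH) (Lpr_bt (f562648 IH) (Lpn (LP (LK LD1_c11 LD2_c39 LD3_c34))))))))
theorem f418055 : Led Lsl_et (LP (LK LD1_c6 LD2_c15 LD3_c0)) = (LP (LK LD1_c3 LD2_c4 LD3_c26)) :=
  Lre_e IH (LK LD1_c6 LD2_c15 LD3_c0) (LK LD1_c3 LD2_c4 LD3_c26) Lrfl Lrfl
theorem f562660 : Led Lsl_af (LP (LK LD1_c6 LD2_c14 LD3_c46)) = (LP (LK LD1_c3 LD2_c4 LD3_c26)) :=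
  Lgr Lrot50 (Lpr_et (f562658 IH) (Lpe (f562650 IH) (Lpr_et (f418055 IH) (Lpn (LP (LK LD1_c3 LD2_c4 LD3_c26))))))
theorem f562664 : Led Lsl_gf (LP (LK LD1_c6 LD2_c14 LD3_c46)) = (LP (LK LD1_c5 LD2_c49 LD3_c38)) :=
  Lgr Lrot76 (Lpr_af (f562660 IH) (Lpr_ff (K37.f449976 IH) (Lpr_gt (K38.f179942 IH) (Lpn (LP (LK LD1_c5 LD2_c49 LD3_c38))))))
theorem f26679 : Led Lsl_bt (LP (LK LD1_c1 LD2_c4 LD3_c4)) = (LP (LK LD1_c2 LD2_c14 LD3_c3)) :=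
  Lre_b IH (LK LD1_c1 LD2_c4 LD3_c4) (LK LD1_c2 LD2_c14 LD3_c3) Lrfl Lrfl
theorem f449981 : Led Lsl_ff (LP (LK LD1_c1 LD2_c4 LD3_c4)) = (LP (LK LD1_c0 LD2_c37 LD3_c36)) :=
  Lgr Lrot25 (Lpr_bt (f26679 IH) (Lpr_ft (K37.f449978 IH) (Lpr_bt (K38.f179940 IH) (Lpn (LP (LK LD1_c0 LD2_c37 LD3_c36))))))
theorem f450072 : Led Lsl_af (LP (LK LD1_c0 LD2_c37 LD3_c38)) = (LP (LK LD1_c1 LD2_c4 LD3_c4)) :=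
  Lgr Lrot45 (Lpr_ft (K37.f450070 IH) (Lpe (K37.f450064 IH) (Lpe (f449981 IH) (Lpn (LP (LK LD1_c1 LD2_c4 LD3_c4))))))
theorem f418048 : Led Lsl_at (LP (LK LD1_c4 LD2_c34 LD3_c15)) = (LP (LK LD1_c2 LD2_c14 LD3_c3)) :=
  Lre_a IH (LK LD1_c4 LD2_c34 LD3_c15) (LK LD1_c2 LD2_c14 LD3_c3) Lrfl Lrfl
theorem f450481 : Led Lsl_bt (LP (LK LD1_c2 LD2_c51 LD3_c0)) = (LP (LK LD1_c4 LD2_c34 LD3_c15)) :=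
  Lgr Lrot62 (Lpe (f421037 IH) (Lpe (K37.f146338 IH) (Lpr_af (f450072 IH) (Lpe (K37.f26797 IH) (Lpe (f418048 IH) (Lpn (LP (LK LD1_c4 LD2_c34 LD3_c15))))))))
theorem f450483 : Led Lsl_bf (LP (LK LD1_c2 LD2_c51 LD3_c0)) = (LP (LK LD1_c4 LD2_c34 LD3_c15)) :=
  Lgr Lrot24 (Lpr_bt (f450481 IH) (Lpn (LP (LK LD1_c4 LD2_c34 LD3_c15))))
theorem f562672 : Led Lsl_cf (LP (LK LD1_c6 LD2_c14 LD3_c46)) = (LP (LK LD1_c4 LD2_c34 LD3_c15)) :=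
  Lgr Lrot58 (Lpr_gf (f562664 IH) (Lpr_cf (K38.f547077 IH) (Lpr_bt (K38.f80636 IH) (Lpqs (K37.f546836 IH) (Lpe (K37.f503198 IH) (Lpe (K38.f450157 IH) (Lpe (f421023 IH) (Lpe (f558268 IH) (Lpe (f502764 IH) (Lpr_gf (f558530 IH) (Lpr_bf (f450483 IH) (Lpn (LP (LK LD1_c4 LD2_c34 LD3_c15))))))))))))))
def v1543 : LQ := Led Lsl_gt (LP (LK LD1_c1 LD2_c21 LD3_c29))
theorem f496192 : Led Lsl_gt (LP (LK LD1_c1 LD2_c21 LD3_c29)) = v1543 :=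
  Lrfl
theorem f241217 : Led Lsl_cf (LP (LK LD1_c18 LD2_c2 LD3_c34)) = (LP (LK LD1_c12 LD2_c5 LD3_c6)) :=
  Lgr Lrot11 (Lpr_ct (K13.f241210 IH) (Lpn (LP (LK LD1_c12 LD2_c5 LD3_c6))))
theorem f241201 : Led Lsl_dt (LP (LK LD1_c18 LD2_c2 LD3_c34)) = (LP (LK LD1_c16 LD2_c33 LD3_c54)) :=
  Lgr Lrot105 (Lpe (K13.f241200 IH) (Lpr_df (K13.f241192 IH) (Lpe (K13.f69382 IH) (Lpe (K12.f69381 IH) (Lpr_gt (K13.f101073 IH) (Lpr_dt (K13.f241042 IH) (Lpe (K13.f241077 IH) (Lpr_dt (K12.f210959 IH) (Lpe (K12.f101403 IH) (Lpn (LP (LK LD1_c16 LD2_c33 LD3_c54))))))))))))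
theorem f241506 : Led Lsl_cf (LP (LK LD1_c3 LD2_c4 LD3_c28)) = (LP (LK LD1_c2 LD2_c9 LD3_c33)) :=
  Lgr Lrot55 (Lpr_dt (K13.f38108 IH) (Lpr_ct (K13.f241489 IH) (Lpr_dt (K13.f241500 IH) (Lpr_ct (K13.f101412 IH) (Lpr_dt (K13.f198052 IH) (Lpr_ct (K13.f176686 IH) (Lpe (K12.f198047 IH) (Lpr_ct (K10.f101421 IH) (Lpr_dt (K12.f229371 IH) (Lpe (f241217 IH) (Lpr_dt (f241201 IH) (Lpr_ct (K12.f101403 IH) (Lpe (K12.f210957 IH) (Lpr_ct (K13.f164294 IH) (Lpe (K12.f198343 IH) (Lpn (LP (LK LD1_c2 LD2_c9 LD3_c33))))))))))))))))))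
theorem f241828 : Led Lsl_bt (LP (LK LD1_c3 LD2_c4 LD3_c28)) = (LP (LK LD1_c6 LD2_c15 LD3_c0)) :=
  Lre_b IH (LK LD1_c3 LD2_c4 LD3_c28) (LK LD1_c6 LD2_c15 LD3_c0) Lrfl Lrfl
theorem f177689 : Led Lsl_bt (LP (LK LD1_c4 LD2_c34 LD3_c17)) = (LP (LK LD1_c2 LD2_c14 LD3_c5)) :=
  Lre_b IH (LK LD1_c4 LD2_c34 LD3_c17) (LK LD1_c2 LD2_c14 LD3_c5) Lrfl Lrfl
theorem f418038 : Led Lsl_ct (LP (LK LD1_c6 LD2_c15 LD3_c0)) = (LP (LK LD1_c4 LD2_c34 LD3_c17)) :=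
  Lgr Lrot83 (Lpe (f241828 IH) (Lpr_cf (f241506 IH) (Lpr_bf (K12.f210946 IH) (Lpe (K10.f26669 IH) (Lpe (f177689 IH) (Lpn (LP (LK LD1_c4 LD2_c34 LD3_c17))))))))
theorem f418043 : Led Lsl_et (LP (LK LD1_c3 LD2_c4 LD3_c26)) = (LP (LK LD1_c6 LD2_c15 LD3_c0)) :=
  Lre_e IH (LK LD1_c3 LD2_c4 LD3_c26) (LK LD1_c6 LD2_c15 LD3_c0) Lrfl Lrfl
theorem f418044 : Led Lsl_et (LP (LK LD1_c4 LD2_c34 LD3_c17)) = (LP (LK LD1_c2 LD2_c14 LD3_c3)) :=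
  Lre_e IH (LK LD1_c4 LD2_c34 LD3_c17) (LK LD1_c2 LD2_c14 LD3_c3) Lrfl Lrfl
theorem f418045 : Led Lsl_cf (LP (LK LD1_c3 LD2_c4 LD3_c26)) = (LP (LK LD1_c2 LD2_c14 LD3_c3)) :=
  Lgr Lrot39 (Lpr_et (f418043 IH) (Lpr_ct (f418038 IH) (Lpr_et (f418044 IH) (Lpn (LP (LK LD1_c2 LD2_c14 LD3_c3))))))
theorem f210737 : Led Lsl_ct (LP (LK LD1_c2 LD2_c50 LD3_c56)) = (LP (LK LD1_c1 LD2_c21 LD3_c29)) :=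
  Lre_c IH (LK LD1_c2 LD2_c50 LD3_c56) (LK LD1_c1 LD2_c21 LD3_c29) Lrfl Lrfl
theorem f449973 : Led Lsl_ff (LP (LK LD1_c2 LD2_c14 LD3_c3)) = (LP (LK LD1_c1 LD2_c21 LD3_c29)) :=
  Lgr Lrot23 (Lpe (f418045 IH) (Lpr_ft (K37.f449968 IH) (Lpr_ct (f210737 IH) (Lpn (LP (LK LD1_c1 LD2_c21 LD3_c29))))))
theorem f418506 : Led Lsl_at (LP (LK LD1_c2 LD2_c14 LD3_c3)) = (LP (LK LD1_c4 LD2_c34 LD3_c15)) :=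
  Lre_a IH (LK LD1_c2 LD2_c14 LD3_c3) (LK LD1_c4 LD2_c34 LD3_c15) Lrfl Lrfl
theorem f496193 : Led Lsl_gf (LP (LK LD1_c4 LD2_c34 LD3_c15)) = v1543 :=
  Lgr Lrot76 (Lpe (f418506 IH) (Lpr_ff (f449973 IH) (Lpr_gt (f496192 IH) (Lpn v1543))))
theorem f497714 : Led Lsl_ft (LP (LK LD1_c7 LD2_c18 LD3_c55)) = (LP (LK LD1_c7 LD2_c17 LD3_c8)) :=
  Lgr Lrot75 (Lpe (K2.f94499 IH) (Lpr_ff (K32.f497712 IH) (Lpe (K24.f18025 IH) (Lpn (LP (LK LD1_c7 LD2_c17 LD3_c8))))))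
theorem f497732 : Led Lsl_at (LP (LK LD1_c7 LD2_c19 LD3_c4)) = (LP (LK LD1_c7 LD2_c17 LD3_c8)) :=
  Lgr Lrot107 (Lpe (K32.f147330 IH) (Lpr_af (K32.f497726 IH) (Lpe (K24.f97469 IH) (Lpn (LP (LK LD1_c7 LD2_c17 LD3_c8))))))
theorem f499797 : Led Lsl_af (LP (LK LD1_c7 LD2_c19 LD3_c4)) = (LP (LK LD1_c7 LD2_c17 LD3_c8)) :=
  Lgr Lrot0 (Lpr_at (f497732 IH) (Lpn (LP (LK LD1_c7 LD2_c17 LD3_c8))))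
theorem f548763 : Led Lsl_gf (LP (LK LD1_c7 LD2_c19 LD3_c4)) = (LP (LK LD1_c11 LD2_c23 LD3_c1)) :=
  Lgr Lrot76 (Lpr_af (f499797 IH) (Lpe (f497714 IH) (Lpr_gt (K38.f548761 IH) (Lpn (LP (LK LD1_c11 LD2_c23 LD3_c1))))))
theorem f109483 : Led Lsl_ct (LP (LK LD1_c7 LD2_c19 LD3_c4)) = (LP (LK LD1_c7 LD2_c0 LD3_c17)) :=
  Lgr Lrot64 (Lpr_bt (K32.f94457 IH) (Lpe (K8.f94456 IH) (Lpe (K8.f93169 IH) (Lpe (K2.f94416 IH) (Lpe (K8.f109475 IH) (Lpr_cf (K3.f109477 IH) (Lpr_gf (K8.f108547 IH) (Lpe (K2.f17905 IH) (Lpr_ct (K2.f17788 IH) (Lpe (K8.f17802 IH) (Lpn (LP (LK LD1_c7 LD2_c0 LD3_c17)))))))))))))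
theorem f540432 : Led Lsl_ct (LP (LK LD1_c2 LD2_c17 LD3_c47)) = (LP (LK LD1_c3 LD2_c36 LD3_c5)) :=
  Lgr Lrot15 (Lpe (K11.f26886 IH) (Lpr_cf (K8.f36518 IH) (Lpr_ef (K36.f540430 IH) (Lpn (LP (LK LD1_c3 LD2_c36 LD3_c5))))))
theorem f548769 : v1543 = (LP (LK LD1_c2 LD2_c17 LD3_c47)) :=
  (Llr Lrot150 (Lpe (f496192 IH) (Lpe (f210737 IH) (Lpr_gf (K38.f548765 IH) (Lpe (K38.f425839 IH) (Lpe (f548763 IH) (Lpr_ct (f109483 IH) (Lpr_gt (K8.f17802 IH) (Lpe (K4.f17884 IH) (Lpe (K8.f17909 IH) (Lpe (f540432 IH) (Lpn (LP (LK LD1_c2 LD2_c17 LD3_c47)))))))))))))).symm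
theorem f202263 : Led Lsl_ct (LP (LK LD1_c1 LD2_c28 LD3_c39)) = (LP (LK LD1_c3 LD2_c4 LD3_c13)) :=
  Lre_c IH (LK LD1_c1 LD2_c28 LD3_c39) (LK LD1_c3 LD2_c4 LD3_c13) Lrfl Lrfl
theorem f202194 : Led Lsl_gt (LP (LK LD1_c6 LD2_c14 LD3_c39)) = (LP (LK LD1_c3 LD2_c4 LD3_c13)) :=
  Lre_g IH (LK LD1_c6 LD2_c14 LD3_c39) (LK LD1_c3 LD2_c4 LD3_c13) Lrfl Lrfl
theorem f3028 : Led Lsl_dt (LP (LK LD1_c0 LD2_c55 LD3_c12)) = (LP (LK LD1_c1 LD2_c56 LD3_c52)) :=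
  Lre_d IH (LK LD1_c0 LD2_c55 LD3_c12) (LK LD1_c1 LD2_c56 LD3_c52) Lrfl Lrfl
theorem f558905 : Led Lsl_gt (LP (LK LD1_c3 LD2_c10 LD3_c4)) = (LP (LK LD1_c4 LD2_c0 LD3_c8)) :=
  Lgr Lrot94 (Lpe (f239187 IH) (Lpr_gt (f558899 IH) (Lpr_dt (K37.f36503 IH) (Lpr_gt (K8.f36494 IH) (Lpr_dt (K37.f36495 IH) (Lpe (K37.f3029 IH) (Lpe (f3028 IH) (Lpe (K8.f3037 IH) (Lpe (f3048 IH) (Lpn (LP (LK LD1_c4 LD2_c0 LD3_c8))))))))))))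
theorem f227732 : Led Lsl_gf (LP (LK LD1_c1 LD2_c28 LD3_c49)) = (LP (LK LD1_c2 LD2_c28 LD3_c1)) :=
  Lgr Lrot138 (Lpr_dt (K12.f210312 IH) (Lpr_gt (K12.f210316 IH) (Lpe (K12.f227712 IH) (Lpr_et (K12.f227720 IH) (Lpr_gt (K12.f227730 IH) (Lpe (K12.f36451 IH) (Lpr_dt (K12.f210948 IH) (Lpe (K11.f198347 IH) (Lpe (K10.f175816 IH) (Lpr_et (K13.f175843 IH) (Lpn (LP (LK LD1_c2 LD2_c28 LD3_c1)))))))))))))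
theorem f227735 : Led Lsl_gt (LP (LK LD1_c2 LD2_c8 LD3_c55)) = (LP (LK LD1_c3 LD2_c4 LD3_c40)) :=
  Lgr Lrot112 (Lpr_df (K12.f227689 IH) (Lpr_et (K12.f227694 IH) (Lpr_gf (f227732 IH) (Lpe (K13.f175843 IH) (Lpr_dt (K10.f175816 IH) (Lpr_gf (K11.f198347 IH) (Lpe (K12.f210948 IH) (Lpr_gf (K12.f210955 IH) (Lpe (K10.f101371 IH) (Lpr_dt (K10.f60453 IH) (Lpn (LP (LK LD1_c3 LD2_c4 LD3_c40)))))))))))))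
theorem f205458 : Led Lsl_ef (LP (LK LD1_c1 LD2_c1 LD3_c54)) = (LP (LK LD1_c0 LD2_c42 LD3_c5)) :=
  Lgr Lrot88 (Lpr_et (K14.f205455 IH) (Lpn (LP (LK LD1_c0 LD2_c42 LD3_c5))))
theorem f210620 : Led Lsl_gf (LP (LK LD1_c1 LD2_c21 LD3_c28)) = (LP (LK LD1_c2 LD2_c10 LD3_c43)) :=
  Lgr Lrot138 (Lpr_dt (K10.f24563 IH) (Lpr_gt (K14.f210302 IH) (Lpe (K1.f36470 IH) (Lpe (f205458 IH) (Lpr_gt (K11.f210575 IH) (Lpe (K10.f198049 IH) (Lpe (K12.f198047 IH) (Lpr_gt (K10.f198033 IH) (Lpe (K10.f101298 IH) (Lpr_et (K13.f101376 IH) (Lpn (LP (LK LD1_c2 LD2_c10 LD3_c43)))))))))))))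
theorem f241800 : Led Lsl_dt (LP (LK LD1_c2 LD2_c9 LD3_c0)) = (LP (LK LD1_c2 LD2_c10 LD3_c43)) :=
  Lgr Lrot136 (Lpr_et (K13.f241794 IH) (Lpe (f227735 IH) (Lpr_ef (K12.f227677 IH) (Lpe (K12.f227669 IH) (Lpe (K18.f227702 IH) (Lpe (K10.f193378 IH) (Lpe (K12.f198565 IH) (Lpe (K12.f24562 IH) (Lpr_dt (K37.f24569 IH) (Lpr_gf (f210620 IH) (Lpn (LP (LK LD1_c2 LD2_c10 LD3_c43)))))))))))))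
theorem f558961 : Led Lsl_cf (LP (LK LD1_c2 LD2_c10 LD3_c43)) = (LP (LK LD1_c1 LD2_c56 LD3_c50)) :=
  Lgr Lrot14 (Lpe (f241800 IH) (Lpr_gf (K37.f243011 IH) (Lpe (K13.f36329 IH) (Lpe (K12.f36328 IH) (Lpr_ct (K13.f56333 IH) (Lpr_gt (K13.f198449 IH) (Lpr_dt (K37.f198450 IH) (Lpr_gt (f558905 IH) (Lpr_dt (f3048 IH) (Lpn (LP (LK LD1_c1 LD2_c56 LD3_c50))))))))))))
theorem f558977 : Led Lsl_gf (LP (LK LD1_c3 LD2_c33 LD3_c5)) = (LP (LK LD1_c4 LD2_c56 LD3_c61)) :=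
  Lgr Lrot104 (Lpr_ct (K37.f542925 IH) (Lpr_df (K37.f241403 IH) (Lpr_cf (f558961 IH) (Lpr_gf (K8.f80900 IH) (Lpr_cf (K39.f496232 IH) (Lpq (K39.f536773 IH) (Lpr_gf (K12.f182400 IH) (Lpe (K12.f192844 IH) (Lpr_gt (K13.f29629 IH) (Lpe (K32.f242508 IH) (Lpn (LP (LK LD1_c4 LD2_c56 LD3_c61)))))))))))))
theorem f11766 : Led Lsl_dt (LP (LK LD1_c3 LD2_c33 LD3_c5)) = (LP (LK LD1_c1 LD2_c43 LD3_c17)) :=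
  Lre_d IH (LK LD1_c3 LD2_c33 LD3_c5) (LK LD1_c1 LD2_c43 LD3_c17) Lrfl Lrfl
theorem f426494 : Led Lsl_gf (LP (LK LD1_c11 LD2_c41 LD3_c44)) = (LP (LK LD1_c13 LD2_c41 LD3_c27)) :=
  Lgr Lrot147 (Lpr_ct (K28.f81629 IH) (Lpr_gt (K28.f426490 IH) (Lpr_ct (K28.f88615 IH) (Lpe (K5.f87915 IH) (Lpe (K3.f87916 IH) (Lpr_gf (K3.f88613 IH) (Lpe (K3.f89692 IH) (Lpr_gf (K8.f157348 IH) (Lpe (K8.f96504 IH) (Lpn (LP (LK LD1_c13 LD2_c41 LD3_c27))))))))))))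
theorem f426529 : Led Lsl_dt (LP (LK LD1_c29 LD2_c35 LD3_c38)) = (LP (LK LD1_c20 LD2_c41 LD3_c45)) :=
  Lre_d IH (LK LD1_c29 LD2_c35 LD3_c38) (LK LD1_c20 LD2_c41 LD3_c45) Lrfl Lrfl
theorem f116656 : Led Lsl_et (LP (LK LD1_c7 LD2_c33 LD3_c42)) = (LP (LK LD1_c14 LD2_c15 LD3_c39)) :=
  Lre_e IH (LK LD1_c7 LD2_c33 LD3_c42) (LK LD1_c14 LD2_c15 LD3_c39) Lrfl Lrfl
theorem f426530 : Led Lsl_dt (LP (LK LD1_c11 LD2_c41 LD3_c44)) = (LP (LK LD1_c7 LD2_c33 LD3_c42)) :=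
  Lgr Lrot77 (Lpe (K28.f426507 IH) (Lpe (f426529 IH) (Lpr_ef (K28.f426523 IH) (Lpe (K28.f116612 IH) (Lpe (f116656 IH) (Lpn (LP (LK LD1_c7 LD2_c33 LD3_c42))))))))
theorem f558983 : Led Lsl_dt (LP (LK LD1_c7 LD2_c12 LD3_c0)) = (LP (LK LD1_c9 LD2_c45 LD3_c10)) :=
  Lgr Lrot182 (Lpe (K28.f439378 IH) (Lpe (K28.f94458 IH) (Lpe (K7.f92366 IH) (Lpe (f426530 IH) (Lpr_gf (f426494 IH) (Lpe (K8.f96505 IH) (Lpe (K8.f162330 IH) (Lpe (f162608 IH) (Lpe (f11770 IH) (Lpe (K7.f11769 IH) (Lpe (K6.f11768 IH) (Lpe (K6.f11654 IH) (Lpe (K2.f11523 IH) (Lpe (K8.f11765 IH) (Lpr_cf (K8.f11741 IH) (Lpe (f11766 IH) (Lpr_gf (f558977 IH) (Lpe (K32.f172842 IH) (Lpe (K32.f242514 IH) (Lpn (LP (LK LD1_c9 LD2_c45 LD3_c10))))))))))))))))))))))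
theorem f439353 : Led Lsl_ft (LP (LK LD1_c7 LD2_c12 LD3_c0)) = (LP (LK LD1_c7 LD2_c5 LD3_c37)) :=
  Lgr Lrot75 (Lpe (K28.f116215 IH) (Lpr_ff (K24.f439349 IH) (Lpe (K28.f94427 IH) (Lpn (LP (LK LD1_c7 LD2_c5 LD3_c37))))))
theorem f439402 : Led Lsl_af (LP (LK LD1_c7 LD2_c12 LD3_c0)) = (LP (LK LD1_c7 LD2_c5 LD3_c37)) :=
  Lgr Lrot31 (Lpe (K28.f439378 IH) (Lpr_gf (K28.f439381 IH) (Lpr_ft (f439353 IH) (Lpn (LP (LK LD1_c7 LD2_c5 LD3_c37))))))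
theorem f552211 : Led Lsl_dt (LP (LK LD1_c8 LD2_c38 LD3_c11)) = (LP (LK LD1_c7 LD2_c5 LD3_c37)) :=
  Lgr Lrot79 (Lpe (K32.f315747 IH) (Lpr_df (K39.f552209 IH) (Lpe (K28.f94427 IH) (Lpn (LP (LK LD1_c7 LD2_c5 LD3_c37))))))
theorem f559051 : Led Lsl_df (LP (LK LD1_c7 LD2_c12 LD3_c0)) = (LP (LK LD1_c9 LD2_c45 LD3_c10)) :=
  Lgr Lrot38 (Lpr_dt (f558983 IH) (Lpn (LP (LK LD1_c9 LD2_c45 LD3_c10))))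
theorem f559055 : Led Lsl_df (LP (LK LD1_c8 LD2_c38 LD3_c11)) = (LP (LK LD1_c7 LD2_c5 LD3_c37)) :=
  Lgr Lrot13 (Lpe (K32.f402906 IH) (Lpr_dt (f552211 IH) (Lpr_ct (K37.f439383 IH) (Lpr_af (f439402 IH) (Lpe (f439353 IH) (Lpr_dt (f558983 IH) (Lpr_ct (K32.f242514 IH) (Lpe (f559051 IH) (Lpr_ct (K28.f439368 IH) (Lpn (LP (LK LD1_c7 LD2_c5 LD3_c37))))))))))))
theorem f402912 : Led Lsl_dt (LP (LK LD1_c4 LD2_c20 LD3_c7)) = (LP (LK LD1_c8 LD2_c38 LD3_c10)) :=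
  Lre_d IH (LK LD1_c4 LD2_c20 LD3_c7) (LK LD1_c8 LD2_c38 LD3_c10) Lrfl Lrfl
theorem f402921 : Led Lsl_et (LP (LK LD1_c8 LD2_c38 LD3_c10)) = (LP (LK LD1_c16 LD2_c10 LD3_c29)) :=
  Lre_e IH (LK LD1_c8 LD2_c38 LD3_c10) (LK LD1_c16 LD2_c10 LD3_c29) Lrfl Lrfl
theorem f439380 : Led Lsl_et (LP (LK LD1_c13 LD2_c26 LD3_c39)) = (LP (LK LD1_c7 LD2_c5 LD3_c37)) :=
  Lre_e IH (LK LD1_c13 LD2_c26 LD3_c39) (LK LD1_c7 LD2_c5 LD3_c37) Lrfl Lrfl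
theorem f559059 : Led Lsl_dt (LP (LK LD1_c16 LD2_c10 LD3_c29)) = (LP (LK LD1_c13 LD2_c26 LD3_c39)) :=
  Lgr Lrot77 (Lpe (f402921 IH) (Lpe (f402912 IH) (Lpe (K32.f402908 IH) (Lpr_df (f559055 IH) (Lpe (f439380 IH) (Lpn (LP (LK LD1_c13 LD2_c26 LD3_c39))))))))
theorem f559065 : Led Lsl_df (LP (LK LD1_c16 LD2_c10 LD3_c29)) = (LP (LK LD1_c13 LD2_c26 LD3_c39)) :=
  Lgr Lrot38 (Lpr_dt (f559059 IH) (Lpn (LP (LK LD1_c13 LD2_c26 LD3_c39))))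
theorem f439387 : Led Lsl_et (LP (LK LD1_c7 LD2_c12 LD3_c0)) = (LP (LK LD1_c13 LD2_c38 LD3_c8)) :=
  Lre_e IH (LK LD1_c7 LD2_c12 LD3_c0) (LK LD1_c13 LD2_c38 LD3_c8) Lrfl Lrfl
theorem f439610 : Led Lsl_at (LP (LK LD1_c13 LD2_c38 LD3_c8)) = (LP (LK LD1_c13 LD2_c26 LD3_c39)) :=
  Lgr Lrot80 (Lpe (f439387 IH) (Lpr_af (f439402 IH) (Lpe (f439380 IH) (Lpn (LP (LK LD1_c13 LD2_c26 LD3_c39))))))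
theorem f439397 : Led Lsl_dt (LP (LK LD1_c23 LD2_c3 LD3_c15)) = (LP (LK LD1_c13 LD2_c38 LD3_c8)) :=
  Lre_d IH (LK LD1_c23 LD2_c3 LD3_c15) (LK LD1_c13 LD2_c38 LD3_c8) Lrfl Lrfl
theorem f559067 : Led Lsl_at (LP (LK LD1_c16 LD2_c10 LD3_c29)) = (LP (LK LD1_c23 LD2_c3 LD3_c15)) :=
  Lgr Lrot51 (Lpr_df (f559065 IH) (Lpe (f439610 IH) (Lpe (f439397 IH) (Lpn (LP (LK LD1_c23 LD2_c3 LD3_c15))))))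
theorem f402911 : Led Lsl_dt (LP (LK LD1_c8 LD2_c38 LD3_c10)) = (LP (LK LD1_c4 LD2_c20 LD3_c7)) :=
  Lre_d IH (LK LD1_c8 LD2_c38 LD3_c10) (LK LD1_c4 LD2_c20 LD3_c7) Lrfl Lrfl
theorem f421339 : Led Lsl_af (LP (LK LD1_c8 LD2_c38 LD3_c10)) = (LP (LK LD1_c15 LD2_c7 LD3_c57)) :=
  Lgr Lrot117 (Lpr_dt (f402911 IH) (Lpr_at (K38.f421330 IH) (Lpr_dt (K39.f94970 IH) (Lpn (LP (LK LD1_c15 LD2_c7 LD3_c57))))))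
theorem f559071 : Led Lsl_ef (LP (LK LD1_c15 LD2_c7 LD3_c57)) = (LP (LK LD1_c23 LD2_c3 LD3_c15)) :=
  Lgr Lrot20 (Lpe (f421339 IH) (Lpr_et (f402921 IH) (Lpr_at (f559067 IH) (Lpn (LP (LK LD1_c23 LD2_c3 LD3_c15))))))
theorem f439386 : Led Lsl_dt (LP (LK LD1_c13 LD2_c38 LD3_c8)) = (LP (LK LD1_c23 LD2_c3 LD3_c15)) :=
  Lre_d IH (LK LD1_c13 LD2_c38 LD3_c8) (LK LD1_c23 LD2_c3 LD3_c15) Lrfl Lrfl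
theorem f559075 : Led Lsl_et (LP (LK LD1_c8 LD2_c2 LD3_c15)) = (LP (LK LD1_c9 LD2_c45 LD3_c10)) :=
  Lgr Lrot71 (Lpe (K39.f421341 IH) (Lpr_ef (f559071 IH) (Lpe (f439386 IH) (Lpe (f439387 IH) (Lpr_df (f559051 IH) (Lpn (LP (LK LD1_c9 LD2_c45 LD3_c10))))))))
theorem f443198 : Led Lsl_dt (LP (LK LD1_c4 LD2_c2 LD3_c17)) = (LP (LK LD1_c8 LD2_c5 LD3_c6)) :=
  Lre_d IH (LK LD1_c4 LD2_c2 LD3_c17) (LK LD1_c8 LD2_c5 LD3_c6) Lrfl Lrfl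
theorem f554453 : Led Lsl_et (LP (LK LD1_c4 LD2_c0 LD3_c26)) = (LP (LK LD1_c8 LD2_c1 LD3_c51)) :=
  Lre_e IH (LK LD1_c4 LD2_c0 LD3_c26) (LK LD1_c8 LD2_c1 LD3_c51) Lrfl Lrfl
theorem f559079 : Led Lsl_gf (LP (LK LD1_c8 LD2_c1 LD3_c51)) = (LP (LK LD1_c9 LD2_c45 LD3_c10)) :=
  Lgr Lrot141 (Lpe (f554453 IH) (Lpr_dt (K39.f29520 IH) (Lpe (K39.f554423 IH) (Lpe (K39.f53123 IH) (Lpr_et (K39.f53112 IH) (Lpr_gt (K39.f552265 IH) (Lpr_dt (f443198 IH) (Lpr_gt (K39.f552310 IH) (Lpe (K39.f94970 IH) (Lpr_et (f559075 IH) (Lpn (LP (LK LD1_c9 LD2_c45 LD3_c10)))))))))))))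
theorem f559081 : Led Lsl_bf (LP (LK LD1_c8 LD2_c1 LD3_c51)) = (LP (LK LD1_c7 LD2_c33 LD3_c46)) :=
  Lgr Lrot34 (Lpr_gf (f559079 IH) (Lpe (K32.f242497 IH) (Lpr_ct (K13.f241808 IH) (Lpe (K13.f29629 IH) (Lpr_cf (K16.f29614 IH) (Lpe (K16.f269120 IH) (Lpe (K16.f210588 IH) (Lpr_ct (K38.f61374 IH) (Lpe (K38.f61376 IH) (Lpr_cf (K38.f548900 IH) (Lpn (LP (LK LD1_c7 LD2_c33 LD3_c46)))))))))))))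
theorem f69831 : Led Lsl_bt (LP (LK LD1_c8 LD2_c5 LD3_c25)) = (LP (LK LD1_c15 LD2_c13 LD3_c42)) :=
  Lre_b IH (LK LD1_c8 LD2_c5 LD3_c25) (LK LD1_c15 LD2_c13 LD3_c42) Lrfl Lrfl
theorem f346748 : Led Lsl_at (LP (LK LD1_c4 LD2_c4 LD3_c49)) = (LP (LK LD1_c4 LD2_c22 LD3_c57)) :=
  Lgr Lrot66 (Lpr_ff (K23.f346746 IH) (Lpr_af (K23.f346682 IH) (Lpe (K23.f346674 IH) (Lpn (LP (LK LD1_c4 LD2_c22 LD3_c57))))))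
theorem f238888 : Led Lsl_bt (LP (LK LD1_c8 LD2_c10 LD3_c27)) = (LP (LK LD1_c4 LD2_c4 LD3_c49)) :=
  Lre_b IH (LK LD1_c8 LD2_c10 LD3_c27) (LK LD1_c4 LD2_c4 LD3_c49) Lrfl Lrfl
theorem f551698 : Led Lsl_at (LP (LK LD1_c15 LD2_c13 LD3_c42)) = (LP (LK LD1_c8 LD2_c10 LD3_c27)) :=
  Lgr Lrot67 (Lpe (f69831 IH) (Lpe (K2.f69879 IH) (Lpr_bf (K39.f551695 IH) (Lpe (f346748 IH) (Lpe (f238888 IH) (Lpn (LP (LK LD1_c8 LD2_c10 LD3_c27))))))))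
theorem f554441 : Led Lsl_gt (LP (LK LD1_c8 LD2_c45 LD3_c28)) = (LP (LK LD1_c8 LD2_c1 LD3_c50)) :=
  Lgr Lrot5 (Lpe (K39.f70033 IH) (Lpr_at (f551698 IH) (Lpr_gf (K39.f554423 IH) (Lpn (LP (LK LD1_c8 LD2_c1 LD3_c50))))))
theorem f559077 : Led Lsl_gt (LP (LK LD1_c8 LD2_c1 LD3_c51)) = (LP (LK LD1_c9 LD2_c45 LD3_c10)) :=
  Lgr Lrot131 (Lpe (f554453 IH) (Lpr_dt (K39.f29520 IH) (Lpe (f554441 IH) (Lpe (K39.f70028 IH) (Lpe (K39.f552339 IH) (Lpe (K39.f158618 IH) (Lpr_dt (K39.f81416 IH) (Lpr_gf (K39.f552335 IH) (Lpe (K39.f94970 IH) (Lpr_et (f559075 IH) (Lpn (LP (LK LD1_c9 LD2_c45 LD3_c10)))))))))))))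
def v2339 : LQ := Led Lsl_dt (LP (LK LD1_c1 LD2_c42 LD3_c51))
theorem f514727 : Led Lsl_dt (LP (LK LD1_c1 LD2_c42 LD3_c51)) = v2339 :=
  Lrfl
theorem f514729 : Led Lsl_df (LP (LK LD1_c1 LD2_c42 LD3_c51)) = v2339 :=
  Lgr Lrot38 (Lpr_dt (f514727 IH) (Lpn v2339))
theorem f519565 : Led Lsl_ff v2339 = v2414 :=
  Lgr Lrot19 (Lpe (f514729 IH) (Lpe (K24.f108274 IH) (Lpr_dt (f519562 IH) (Lpn v2414))))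
theorem f540330 : v2339 = (LP (LK LD1_c1 LD2_c55 LD3_c36)) :=
  Lefun (Lecon (Lfl_ff (f519565 IH)) (f540323 IH)) (K31.f272466 IH)
def v1809 : LQ := Led Lsl_dt (LP (LK LD1_c1 LD2_c27 LD3_c54))
theorem f503033 : Led Lsl_dt (LP (LK LD1_c1 LD2_c27 LD3_c54)) = v1809 :=
  Lrfl
theorem f496219 : Led Lsl_gt (LP (LK LD1_c2 LD2_c24 LD3_c16)) = K31.v1551 :=
  Lgr Lrot65 (Lpr_cf (K39.f3023 IH) (Lpr_bt (K39.f29562 IH) (Lpr_gf (K39.f37051 IH) (Lpe (K7.f37044 IH) (Lpr_ct (K7.f37043 IH) (Lpr_gf (K5.f101598 IH) (Lpe (K5.f100421 IH) (Lpe (K8.f101675 IH) (Lpe (K31.f37914 IH) (Lpr_ct (K31.f496216 IH) (Lpn K31.v1551)))))))))))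
theorem f503038 : Led Lsl_gf (LP (LK LD1_c1 LD2_c57 LD3_c60)) = v1809 :=
  Lgr Lrot134 (Lpr_df (K35.f193661 IH) (Lpr_et (K13.f181317 IH) (Lpe (K10.f193663 IH) (Lpe (K0.f2959 IH) (Lpr_dt (K0.f2947 IH) (Lpr_gt (K31.f205261 IH) (Lpe (K13.f38135 IH) (Lpr_et (K11.f80808 IH) (Lpr_gt (K31.f205238 IH) (Lpr_dt (f503033 IH) (Lpn v1809)))))))))))
theorem f536918 : (LP (LK LD1_c2 LD2_c24 LD3_c16)) = v1809 :=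
  Lefun (Lecon (Lfl_gt (f496219 IH)) (K39.f536769 IH).symm) (f503038 IH)
theorem f3038 : Led Lsl_ct (LP (LK LD1_c2 LD2_c24 LD3_c16)) = (LP (LK LD1_c1 LD2_c56 LD3_c51)) :=
  Lgr Lrot59 (Lpr_cf (K39.f3023 IH) (Lpn (LP (LK LD1_c1 LD2_c56 LD3_c51))))
theorem f450366 : Led Lsl_bt (LP (LK LD1_c2 LD2_c50 LD3_c40)) = (LP (LK LD1_c3 LD2_c5 LD3_c43)) :=
  Lgr Lrot119 (Lpe (K38.f450247 IH) (Lpr_bf (f450309 IH) (Lpe (K39.f421057 IH) (Lpn (LP (LK LD1_c3 LD2_c5 LD3_c43))))))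
theorem f450368 : Led Lsl_bf (LP (LK LD1_c5 LD2_c49 LD3_c10)) = (LP (LK LD1_c6 LD2_c17 LD3_c8)) :=
  Lgr Lrot93 (Lpr_dt (K37.f450217 IH) (Lpr_bt (f450366 IH) (Lpr_dt (f421063 IH) (Lpn (LP (LK LD1_c6 LD2_c17 LD3_c8))))))
theorem f559090 : Led Lsl_dt (LP (LK LD1_c6 LD2_c17 LD3_c3)) = (LP (LK LD1_c5 LD2_c14 LD3_c6)) :=
  Lgr Lrot182 (Lpr_gf (f450227 IH) (Lpr_bf (f450368 IH) (Lpe (f558175 IH) (Lpr_df (K39.f158608 IH) (Lpe (K39.f158210 IH) (Lpe (K39.f29562 IH) (Lpe (f3038 IH) (Lpqs (f536918 IH) (Lpe (f503033 IH) (Lpe (K31.f205238 IH) (Lpe (K31.f205243 IH) (Lpe (K13.f59384 IH) (Lpq (f540330 IH) (Lpe (f514727 IH) (Lpe (K24.f94426 IH) (Lpe (K28.f94427 IH) (Lpe (K28.f439368 IH) (Lpr_df (f559051 IH) (Lpe (f559077 IH) (Lpr_bf (f559081 IH) (Lpe (f548919 IH) (Lpn (LP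 (LK LD1_c5 LD2_c14 LD3_c6))))))))))))))))))))))))
theorem f186338 : Led Lsl_bt (LP (LK LD1_c0 LD2_c41 LD3_c2)) = (LP (LK LD1_c1 LD2_c28 LD3_c51)) :=
  Lre_b IH (LK LD1_c0 LD2_c41 LD3_c2) (LK LD1_c1 LD2_c28 LD3_c51) Lrfl Lrfl
theorem f450175 : Led Lsl_ft (LP (LK LD1_c1 LD2_c28 LD3_c51)) = (LP (LK LD1_c1 LD2_c21 LD3_c20)) :=
  Lgr Lrot75 (Lpe (f186338 IH) (Lpr_ff (K37.f450171 IH) (Lpe (K38.f176675 IH) (Lpn (LP (LK LD1_c1 LD2_c21 LD3_c20))))))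
theorem f186339 : Led Lsl_gt (LP (LK LD1_c1 LD2_c28 LD3_c51)) = (LP (LK LD1_c3 LD2_c5 LD3_c38)) :=
  Lre_g IH (LK LD1_c1 LD2_c28 LD3_c51) (LK LD1_c3 LD2_c5 LD3_c38) Lrfl Lrfl
theorem f450244 : Led Lsl_at (LP (LK LD1_c1 LD2_c21 LD3_c20)) = (LP (LK LD1_c2 LD2_c50 LD3_c40)) :=
  Lre_a IH (LK LD1_c1 LD2_c21 LD3_c20) (LK LD1_c2 LD2_c50 LD3_c40) Lrfl Lrfl
theorem f450463 : Led Lsl_gt (LP (LK LD1_c3 LD2_c5 LD3_c38)) = (LP (LK LD1_c2 LD2_c50 LD3_c40)) :=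
  Lgr Lrot46 (Lpe (f186339 IH) (Lpr_ft (f450175 IH) (Lpr_at (f450244 IH) (Lpn (LP (LK LD1_c2 LD2_c50 LD3_c40))))))
theorem f450465 : Led Lsl_ct (LP (LK LD1_c3 LD2_c5 LD3_c38)) = (LP (LK LD1_c6 LD2_c16 LD3_c60)) :=
  Lre_c IH (LK LD1_c3 LD2_c5 LD3_c38) (LK LD1_c6 LD2_c16 LD3_c60) Lrfl Lrfl
theorem f87932 : Led Lsl_dt (LP (LK LD1_c3 LD2_c49 LD3_c7)) = (LP (LK LD1_c1 LD2_c51 LD3_c34)) :=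
  Lre_d IH (LK LD1_c3 LD2_c49 LD3_c7) (LK LD1_c1 LD2_c51 LD3_c34) Lrfl Lrfl
theorem f559094 : Led Lsl_gt (LP (LK LD1_c6 LD2_c16 LD3_c60)) = (LP (LK LD1_c3 LD2_c49 LD3_c7)) :=
  Lgr Lrot94 (Lpe (f450465 IH) (Lpr_gt (f450463 IH) (Lpr_dt (K37.f450219 IH) (Lpe (f450227 IH) (Lpr_dt (f559090 IH) (Lpr_cf (K38.f548900 IH) (Lpe (f502723 IH) (Lpe (K36.f87162 IH) (Lpe (f87932 IH) (Lpn (LP (LK LD1_c3 LD2_c49 LD3_c7))))))))))))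
theorem f205234 : Led Lsl_ct (LP (LK LD1_c3 LD2_c4 LD3_c19)) = (LP (LK LD1_c1 LD2_c28 LD3_c43)) :=
  Lre_c IH (LK LD1_c3 LD2_c4 LD3_c19) (LK LD1_c1 LD2_c28 LD3_c43) Lrfl Lrfl
theorem f205233 : Led Lsl_bt (LP (LK LD1_c3 LD2_c4 LD3_c19)) = (LP (LK LD1_c1 LD2_c28 LD3_c15)) :=
  Lre_b IH (LK LD1_c3 LD2_c4 LD3_c19) (LK LD1_c1 LD2_c28 LD3_c15) Lrfl Lrfl
theorem f421287 : Led Lsl_ct (LP (LK LD1_c5 LD2_c47 LD3_c16)) = (LP (LK LD1_c2 LD2_c49 LD3_c33)) :=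
  Lre_c IH (LK LD1_c5 LD2_c47 LD3_c16) (LK LD1_c2 LD2_c49 LD3_c33) Lrfl Lrfl
theorem f559106 : Led Lsl_bf (LP (LK LD1_c6 LD2_c16 LD3_c60)) = (LP (LK LD1_c5 LD2_c47 LD3_c16)) :=
  Lgr Lrot165 (Lpr_gt (f559094 IH) (Lpr_ct (K37.f546799 IH) (Lpq (K37.f546804 IH) (Lpr_gt (K37.f202278 IH) (Lpe (f205234 IH) (Lpr_bt (f205233 IH) (Lpe (K11.f205227 IH) (Lpr_bf (K38.f176633 IH) (Lpr_ct (K38.f176676 IH) (Lpr_gt (K38.f496173 IH) (Lpq (K38.f548944 IH) (Lpe (f421287 IH) (Lpn (LP (LK LD1_c5 LD2_c47 LD3_c16)))))))))))))))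
theorem f559108 : Led Lsl_gf (LP (LK LD1_c2 LD2_c50 LD3_c41)) = K37.v2435 :=
  Lgr Lrot181 (Lpr_ct (K38.f176676 IH) (Lpr_gt (K38.f496173 IH) (Lpq (K38.f548944 IH) (Lpe (f421287 IH) (Lpe (f559106 IH) (Lpr_gt (f559094 IH) (Lpe (K37.f97151 IH) (Lpr_ct (K3.f97141 IH) (Lpr_gt (K33.f108526 IH) (Lpe (K36.f98474 IH) (Lpr_bt (K37.f519728 IH) (Lpn K37.v2435))))))))))))
theorem f202187 : Led Lsl_et (LP (LK LD1_c2 LD2_c15 LD3_c17)) = (LP (LK LD1_c1 LD2_c4 LD3_c43)) :=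
  Lre_e IH (LK LD1_c2 LD2_c15 LD3_c17) (LK LD1_c1 LD2_c4 LD3_c43) Lrfl Lrfl
theorem f193813 : Led Lsl_gt (LP (LK LD1_c9 LD2_c8 LD3_c35)) = (LP (LK LD1_c4 LD2_c36 LD3_c12)) :=
  Lre_g IH (LK LD1_c9 LD2_c8 LD3_c35) (LK LD1_c4 LD2_c36 LD3_c12) Lrfl Lrfl
theorem f559118 : Led Lsl_dt (LP (LK LD1_c5 LD2_c49 LD3_c12)) = (LP (LK LD1_c9 LD2_c8 LD3_c35)) :=
  Lgr Lrot136 (Lpr_et (K38.f176693 IH) (Lpr_gf (f559108 IH) (Lpq (K37.f543803 IH) (Lpe (K37.f202190 IH) (Lpr_dt (K32.f202189 IH) (Lpe (K11.f202163 IH) (Lpe (K11.f112739 IH) (Lpe (K8.f112400 IH) (Lpe (f202187 IH) (Lpr_dt (K39.f202188 IH) (Lpe (f193813 IH) (Lpn (LP (LK LD1_c9 LD2_c8 LD3_c35))))))))))))))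
theorem f71073 : Led Lsl_gt (LP (LK LD1_c17 LD2_c0 LD3_c44)) = (LP (LK LD1_c9 LD2_c8 LD3_c35)) :=
  Lre_g IH (LK LD1_c17 LD2_c0 LD3_c44) (LK LD1_c9 LD2_c8 LD3_c35) Lrfl Lrfl
theorem f71072 : Led Lsl_dt (LP (LK LD1_c9 LD2_c8 LD3_c13)) = (LP (LK LD1_c17 LD2_c0 LD3_c44)) :=
  Lre_d IH (LK LD1_c9 LD2_c8 LD3_c13) (LK LD1_c17 LD2_c0 LD3_c44) Lrfl Lrfl
theorem f71075 : Led Lsl_et (LP (LK LD1_c5 LD2_c54 LD3_c22)) = (LP (LK LD1_c2 LD2_c53 LD3_c33)) :=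
  Lre_e IH (LK LD1_c5 LD2_c54 LD3_c22) (LK LD1_c2 LD2_c53 LD3_c33) Lrfl Lrfl
theorem f557841 : Led Lsl_ct (LP (LK LD1_c5 LD2_c41 LD3_c15)) = (LP (LK LD1_c5 LD2_c54 LD3_c22)) :=
  Lgr Lrot111 (Lpe (f301888 IH) (Lpe (K39.f301894 IH) (Lpr_af (f557837 IH) (Lpn (LP (LK LD1_c5 LD2_c54 LD3_c22))))))
theorem f558838 : Led Lsl_dt (LP (LK LD1_c5 LD2_c54 LD3_c22)) = (LP (LK LD1_c3 LD2_c38 LD3_c25)) :=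
  Lgr Lrot120 (Lpe (f557841 IH) (Lpe (f302056 IH) (Lpe (f558836 IH) (Lpr_df (f558827 IH) (Lpr_cf (K8.f158507 IH) (Lpe (K28.f109550 IH) (Lpe (K32.f497688 IH) (Lpe (K32.f497592 IH) (Lpe (K24.f97497 IH) (Lpn (LP (LK LD1_c3 LD2_c38 LD3_c25))))))))))))
theorem f559100 : Led Lsl_df (LP (LK LD1_c6 LD2_c16 LD3_c60)) = (LP (LK LD1_c7 LD2_c0 LD3_c41)) :=
  Lgr Lrot153 (Lpr_gt (f559094 IH) (Lpr_dt (f87932 IH) (Lpe (K3.f87933 IH) (Lpe (K37.f88599 IH) (Lpe (K34.f87189 IH) (Lpr_df (K34.f157527 IH) (Lpr_gf (K4.f109546 IH) (Lpe (K4.f109060 IH) (Lpe (K28.f426635 IH) (Lpn (LP (LK LD1_c7 LD2_c0 LD3_c41))))))))))))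
theorem f204469 : Led Lsl_ct (LP (LK LD1_c1 LD2_c28 LD3_c43)) = (LP (LK LD1_c3 LD2_c4 LD3_c19)) :=
  Lre_c IH (LK LD1_c1 LD2_c28 LD3_c43) (LK LD1_c3 LD2_c4 LD3_c19) Lrfl Lrfl
theorem f559104 : Led Lsl_df (LP (LK LD1_c3 LD2_c39 LD3_c22)) = (LP (LK LD1_c3 LD2_c4 LD3_c19)) :=
  Lgr Lrot162 (Lpr_cf (K8.f121863 IH) (Lpe (K4.f95987 IH) (Lpe (K3.f64640 IH) (Lpe (K28.f64795 IH) (Lpe (f559100 IH) (Lpr_gt (f559094 IH) (Lpr_ct (K37.f546799 IH) (Lpq (K37.f546804 IH) (Lpr_gt (K37.f202278 IH) (Lpr_ct (f204469 IH) (Lpn (LP (LK LD1_c3 LD2_c4 LD3_c19)))))))))))))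
theorem f559131 : Led Lsl_gt (LP (LK LD1_c2 LD2_c50 LD3_c41)) = (LP (LK LD1_c3 LD2_c4 LD3_c19)) :=
  Lgr Lrot137 (Lpe (K38.f176693 IH) (Lpr_dt (f559118 IH) (Lpe (f71073 IH) (Lpe (f71072 IH) (Lpr_et (K2.f71045 IH) (Lpe (K37.f71074 IH) (Lpe (f71075 IH) (Lpr_dt (f558838 IH) (Lpe (K32.f121892 IH) (Lpr_df (f559104 IH) (Lpn (LP (LK LD1_c3 LD2_c4 LD3_c19)))))))))))))
theorem f559133 : Led Lsl_ef (LP (LK LD1_c3 LD2_c4 LD3_c19)) = (LP (LK LD1_c2 LD2_c49 LD3_c39)) :=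
  Lgr Lrot17 (Lpe (f559131 IH) (Lpe (K38.f176693 IH) (Lpr_dt (f559118 IH) (Lpe (f71073 IH) (Lpe (f71072 IH) (Lpe (K38.f71091 IH) (Lpr_ef (K38.f546575 IH) (Lpe (K8.f100424 IH) (Lpe (K7.f40033 IH) (Lpr_df (K7.f156747 IH) (Lpn (LP (LK LD1_c2 LD2_c49 LD3_c39)))))))))))))
theorem f59104 : Led Lsl_gt (LP (LK LD1_c3 LD2_c4 LD3_c19)) = (LP (LK LD1_c6 LD2_c14 LD3_c39)) :=
  Lre_g IH (LK LD1_c3 LD2_c4 LD3_c19) (LK LD1_c6 LD2_c14 LD3_c39) Lrfl Lrfl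
theorem f551935 : Led Lsl_ef (LP (LK LD1_c3 LD2_c57 LD3_c28)) = (LP (LK LD1_c3 LD2_c36 LD3_c57)) :=
  Lgr Lrot88 (Lpr_et (K39.f551925 IH) (Lpn (LP (LK LD1_c3 LD2_c36 LD3_c57))))
theorem f559141 : Led Lsl_dt (LP (LK LD1_c6 LD2_c14 LD3_c39)) = (LP (LK LD1_c3 LD2_c36 LD3_c55)) :=
  Lgr Lrot171 (Lpe (f59104 IH) (Lpr_ef (f559133 IH) (Lpe (K7.f156747 IH) (Lpe (K7.f37892 IH) (Lpe (K1.f40026 IH) (Lpr_et (K39.f101648 IH) (Lpe (K39.f156753 IH) (Lpr_ef (f551935 IH) (Lpr_dt (K33.f96532 IH) (Lpe (K6.f17480 IH) (Lpn (LP (LK LD1_c3 LD2_c36 LD3_c55)))))))))))))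
theorem f547096 : Led Lsl_af (LP (LK LD1_c2 LD2_c50 LD3_c41)) = (LP (LK LD1_c3 LD2_c4 LD3_c16)) :=
  Lgr Lrot0 (Lpr_at (K38.f547094 IH) (Lpn (LP (LK LD1_c3 LD2_c4 LD3_c16))))
theorem f559110 : Led Lsl_ff (LP (LK LD1_c3 LD2_c4 LD3_c16)) = (LP (LK LD1_c6 LD2_c14 LD3_c39)) :=
  Lgr Lrot52 (Lpe (f547096 IH) (Lpr_gf (f559108 IH) (Lpq (K37.f543803 IH) (Lpe (f202194 IH) (Lpn (LP (LK LD1_c6 LD2_c14 LD3_c39)))))))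
theorem f176694 : Led Lsl_dt (LP (LK LD1_c2 LD2_c50 LD3_c42)) = (LP (LK LD1_c1 LD2_c21 LD3_c20)) :=
  Lre_d IH (LK LD1_c2 LD2_c50 LD3_c42) (LK LD1_c1 LD2_c21 LD3_c20) Lrfl Lrfl
theorem f450187 : Led Lsl_ct (LP (LK LD1_c5 LD2_c49 LD3_c15)) = (LP (LK LD1_c2 LD2_c50 LD3_c42)) :=
  Lre_c IH (LK LD1_c5 LD2_c49 LD3_c15) (LK LD1_c2 LD2_c50 LD3_c42) Lrfl Lrfl
theorem f450222 : Led Lsl_dt (LP (LK LD1_c11 LD2_c27 LD3_c38)) = (LP (LK LD1_c5 LD2_c49 LD3_c15)) :=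
  Lre_d IH (LK LD1_c11 LD2_c27 LD3_c38) (LK LD1_c5 LD2_c49 LD3_c15) Lrfl Lrfl
theorem f559147 : Led Lsl_cf (LP (LK LD1_c11 LD2_c27 LD3_c38)) = (LP (LK LD1_c13 LD2_c41 LD3_c27)) :=
  Lgr Lrot116 (Lpr_dt (f450222 IH) (Lpr_ct (f450187 IH) (Lpr_dt (f176694 IH) (Lpr_ct (K38.f176632 IH) (Lpr_af (f547096 IH) (Lpr_ff (f559110 IH) (Lpr_dt (f559141 IH) (Lpr_ct (K6.f96503 IH) (Lpr_dt (K37.f96518 IH) (Lpn (LP (LK LD1_c13 LD2_c41 LD3_c27))))))))))))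
theorem f559149 : Led Lsl_cf (LP (LK LD1_c6 LD2_c14 LD3_c39)) = (LP (LK LD1_c3 LD2_c5 LD3_c39)) :=
  Lgr Lrot118 (Lpr_dt (f559141 IH) (Lpr_ct (K6.f96503 IH) (Lpr_dt (K37.f96518 IH) (Lpe (f559147 IH) (Lpr_dt (f450222 IH) (Lpr_ct (f450187 IH) (Lpe (K38.f450184 IH) (Lpe (K38.f450185 IH) (Lpr_dt (K37.f450199 IH) (Lpn (LP (LK LD1_c3 LD2_c5 LD3_c39))))))))))))
theorem f562682 : Led Lsl_gt (LP (LK LD1_c6 LD2_c14 LD3_c46)) = (LP (LK LD1_c5 LD2_c46 LD3_c23)) :=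
  Lgr Lrot149 (Lpr_cf (f562672 IH) (Lpr_gf (f496193 IH) (Lpqs (f548769 IH) (Lpr_bf (K35.f210061 IH) (Lpr_ct (f202263 IH) (Lpe (f202194 IH) (Lpr_cf (f559149 IH) (Lpr_bt (K38.f450245 IH) (Lpr_gf (K38.f503211 IH) (Lpqs (K38.f548772 IH) (Lpe (K38.f425836 IH) (Lpe (K38.f425837 IH) (Lpn (LP (LK LD1_c5 LD2_c46 LD3_c23)))))))))))))))
theorem f562662 : Led Lsl_ct (LP (LK LD1_c6 LD2_c14 LD3_c46)) = (LP (LK LD1_c4 LD2_c34 LD3_c15)) :=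
  Lgr Lrot111 (Lpr_af (f562660 IH) (Lpr_cf (f418045 IH) (Lpe (f418048 IH) (Lpn (LP (LK LD1_c4 LD2_c34 LD3_c15))))))
def v1545 : LQ := Led Lsl_at (LP (LK LD1_c1 LD2_c21 LD3_c29))
theorem f496196 : Led Lsl_at (LP (LK LD1_c1 LD2_c21 LD3_c29)) = v1545 :=
  Lrfl
theorem f496198 : Led Lsl_ff (LP (LK LD1_c4 LD2_c34 LD3_c15)) = v1545 :=
  Lgr Lrot30 (Lpr_at (f418048 IH) (Lpr_ft (K37.f449978 IH) (Lpr_at (f496196 IH) (Lpn v1545))))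
theorem f496199 : Led Lsl_ft (LP (LK LD1_c4 LD2_c34 LD3_c15)) = v1545 :=
  Lgr Lrot48 (Lpr_ff (f496198 IH) (Lpn v1545))
theorem f496197 : Led Lsl_af (LP (LK LD1_c1 LD2_c21 LD3_c29)) = v1545 :=
  Lgr Lrot0 (Lpr_at (f496196 IH) (Lpn v1545))
def v1544 : LQ := Led Lsl_gf (LP (LK LD1_c1 LD2_c21 LD3_c29))
theorem f496195 : Led Lsl_gf (LP (LK LD1_c1 LD2_c21 LD3_c29)) = v1544 :=
  Lrfl
theorem f496200 : Led Lsl_gt (LP (LK LD1_c4 LD2_c34 LD3_c15)) = v1544 :=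
  Lgr Lrot5 (Lpr_ft (f496199 IH) (Lpe (f496197 IH) (Lpr_gf (f496195 IH) (Lpn v1544))))
theorem f547083 : v1544 = (LP (LK LD1_c2 LD2_c17 LD3_c50)) :=
  (Llr Lrot181 (Lpe (f496195 IH) (Lpr_ct (K37.f179941 IH) (Lpr_gt (K38.f179942 IH) (Lpr_cf (K38.f547077 IH) (Lpr_bt (K38.f80636 IH) (Lpqs (K37.f546836 IH) (Lpe (K37.f503197 IH) (Lpe (f186338 IH) (Lpr_ct (K37.f186337 IH) (Lpr_gt (K11.f210296 IH) (Lpe (K11.f25970 IH) (Lpr_bt (f25972 IH) (Lpn (LP (LK LD1_c2 LD2_c17 LD3_c50)))))))))))))))).symm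
theorem f237363 : Led Lsl_bt (LP (LK LD1_c8 LD2_c43 LD3_c60)) = (LP (LK LD1_c4 LD2_c23 LD3_c7)) :=
  Lre_b IH (LK LD1_c8 LD2_c43 LD3_c60) (LK LD1_c4 LD2_c23 LD3_c7) Lrfl Lrfl
theorem f552205 : Led Lsl_df (LP (LK LD1_c8 LD2_c43 LD3_c60)) = (LP (LK LD1_c7 LD2_c19 LD3_c4)) :=
  Lgr Lrot12 (Lpr_bt (f237363 IH) (Lpr_dt (K39.f552197 IH) (Lpr_bt (K32.f147317 IH) (Lpn (LP (LK LD1_c7 LD2_c19 LD3_c4))))))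
theorem f181127 : Led Lsl_ef (LP (LK LD1_c1 LD2_c3 LD3_c37)) = (LP (LK LD1_c0 LD2_c34 LD3_c10)) :=
  Lgr Lrot88 (Lpr_et (K9.f181119 IH) (Lpn (LP (LK LD1_c0 LD2_c34 LD3_c10))))
theorem f237352 : Led Lsl_bt (LP (LK LD1_c1 LD2_c3 LD3_c37)) = (LP (LK LD1_c2 LD2_c8 LD3_c61)) :=
  Lgr Lrot119 (Lpr_ef (f181127 IH) (Lpe (K10.f181138 IH) (Lpr_ef (K14.f237348 IH) (Lpn (LP (LK LD1_c2 LD2_c8 LD3_c61))))))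
theorem f186358 : Led Lsl_bt (LP (LK LD1_c4 LD2_c32 LD3_c7)) = (LP (LK LD1_c2 LD2_c13 LD3_c6)) :=
  Lre_b IH (LK LD1_c4 LD2_c32 LD3_c7) (LK LD1_c2 LD2_c13 LD3_c6) Lrfl Lrfl
theorem f237351 : Led Lsl_bt (LP (LK LD1_c4 LD2_c23 LD3_c7)) = (LP (LK LD1_c8 LD2_c43 LD3_c60)) :=
  Lre_b IH (LK LD1_c4 LD2_c23 LD3_c7) (LK LD1_c8 LD2_c43 LD3_c60) Lrfl Lrfl
theorem f237365 : Led Lsl_cf (LP (LK LD1_c4 LD2_c32 LD3_c7)) = (LP (LK LD1_c8 LD2_c43 LD3_c60)) :=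
  Lgr Lrot97 (Lpr_bt (f186358 IH) (Lpr_ct (K18.f181121 IH) (Lpr_bt (f237352 IH) (Lpr_ct (K16.f237340 IH) (Lpr_bt (f237351 IH) (Lpn (LP (LK LD1_c8 LD2_c43 LD3_c60))))))))
theorem f237367 : Led Lsl_ct (LP (LK LD1_c4 LD2_c32 LD3_c7)) = (LP (LK LD1_c8 LD2_c43 LD3_c60)) :=
  Lgr Lrot59 (Lpr_cf (f237365 IH) (Lpn (LP (LK LD1_c8 LD2_c43 LD3_c60))))
theorem f186359 : Led Lsl_bt (LP (LK LD1_c1 LD2_c28 LD3_c44)) = (LP (LK LD1_c3 LD2_c5 LD3_c27)) :=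
  Lre_b IH (LK LD1_c1 LD2_c28 LD3_c44) (LK LD1_c3 LD2_c5 LD3_c27) Lrfl Lrfl
theorem f186360 : Led Lsl_df (LP (LK LD1_c4 LD2_c32 LD3_c7)) = (LP (LK LD1_c3 LD2_c5 LD3_c27)) :=
  Lgr Lrot12 (Lpr_bt (f186358 IH) (Lpr_dt (K18.f186349 IH) (Lpr_bt (f186359 IH) (Lpn (LP (LK LD1_c3 LD2_c5 LD3_c27))))))
theorem f562686 : Led Lsl_gt (LP (LK LD1_c4 LD2_c41 LD3_c31)) = (LP (LK LD1_c3 LD2_c5 LD3_c27)) :=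
  Lgr Lrot49 (Lpe (f36582 IH) (Lpq (f547083 IH) (Lpe (f496200 IH) (Lpe (f562662 IH) (Lpr_gt (f562682 IH) (Lpr_dt (K38.f100243 IH) (Lpe (f548763 IH) (Lpe (f552205 IH) (Lpe (f237367 IH) (Lpr_df (f186360 IH) (Lpn (LP (LK LD1_c3 LD2_c5 LD3_c27)))))))))))))
def v481 : LQ := Led Lsl_ft (LP (LK LD1_c0 LD2_c42 LD3_c9))
theorem f453552 : Led Lsl_ft (LP (LK LD1_c0 LD2_c42 LD3_c9)) = v481 :=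
  Lrfl
theorem f453555 : Led Lsl_ff (LP (LK LD1_c0 LD2_c42 LD3_c9)) = v481 :=
  Lgr Lrot3 (Lpr_ft (f453552 IH) (Lpn v481))
theorem f36595 : Led Lsl_ft (LP (LK LD1_c1 LD2_c5 LD3_c50)) = (LP (LK LD1_c2 LD2_c17 LD3_c50)) :=
  Lre_f IH (LK LD1_c1 LD2_c5 LD3_c50) (LK LD1_c2 LD2_c17 LD3_c50) Lrfl Lrfl
theorem f453557 : Led Lsl_et (LP (LK LD1_c2 LD2_c17 LD3_c50)) = v481 :=
  Lgr Lrot69 (Lpe (f36595 IH) (Lpe (f26877 IH) (Lpr_ff (K11.f205719 IH) (Lpe (K35.f69241 IH) (Lpr_ff (f453555 IH) (Lpn v481))))))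
theorem f495968 : Led Lsl_bf (LP (LK LD1_c1 LD2_c20 LD3_c41)) = K37.v1508 :=
  Lgr Lrot24 (Lpr_bt (K37.f495967 IH) (Lpn K37.v1508))
theorem f68660 : Led Lsl_bt (LP (LK LD1_c0 LD2_c42 LD3_c9)) = (LP (LK LD1_c0 LD2_c18 LD3_c50)) :=
  Lre_b IH (LK LD1_c0 LD2_c42 LD3_c9) (LK LD1_c0 LD2_c18 LD3_c50) Lrfl Lrfl
theorem f453556 : Led Lsl_bt (LP (LK LD1_c0 LD2_c42 LD3_c11)) = v481 :=
  Lgr Lrot35 (Lpe (K11.f169782 IH) (Lpe (f68660 IH) (Lpr_ff (f453555 IH) (Lpn v481))))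
theorem f537693 : (LP (LK LD1_c1 LD2_c20 LD3_c41)) = v481 :=
  Lefun (Lecon (Lfl_bf (f495968 IH)) (K37.f537307 IH)) (f453556 IH)
theorem f56297 : Led Lsl_et (LP (LK LD1_c2 LD2_c16 LD3_c55)) = (LP (LK LD1_c1 LD2_c5 LD3_c27)) :=
  Lre_e IH (LK LD1_c2 LD2_c16 LD3_c55) (LK LD1_c1 LD2_c5 LD3_c27) Lrfl Lrfl
theorem f34958 : Led Lsl_dt (LP (LK LD1_c4 LD2_c35 LD3_c25)) = (LP (LK LD1_c9 LD2_c7 LD3_c23)) :=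
  Lre_d IH (LK LD1_c4 LD2_c35 LD3_c25) (LK LD1_c9 LD2_c7 LD3_c23) Lrfl Lrfl
theorem f34983 : Led Lsl_gt (LP (LK LD1_c2 LD2_c14 LD3_c57)) = (LP (LK LD1_c4 LD2_c35 LD3_c25)) :=
  Lre_g IH (LK LD1_c2 LD2_c14 LD3_c57) (LK LD1_c4 LD2_c35 LD3_c25) Lrfl Lrfl
theorem f181122 : Led Lsl_bt (LP (LK LD1_c2 LD2_c13 LD3_c6)) = (LP (LK LD1_c4 LD2_c32 LD3_c7)) :=
  Lre_b IH (LK LD1_c2 LD2_c13 LD3_c6) (LK LD1_c4 LD2_c32 LD3_c7) Lrfl Lrfl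
theorem f186347 : Led Lsl_dt (LP (LK LD1_c4 LD2_c32 LD3_c7)) = (LP (LK LD1_c3 LD2_c5 LD3_c27)) :=
  Lgr Lrot79 (Lpe (f181122 IH) (Lpr_df (K16.f186327 IH) (Lpe (K32.f186346 IH) (Lpn (LP (LK LD1_c3 LD2_c5 LD3_c27))))))
def v1413 : LQ := Led Lsl_bt (LP (LK LD1_c1 LD2_c13 LD3_c46))
theorem f495432 : Led Lsl_bt (LP (LK LD1_c1 LD2_c13 LD3_c46)) = v1413 :=
  Lrfl
theorem f495435 : Led Lsl_ff (LP (LK LD1_c2 LD2_c33 LD3_c48)) = v1413 :=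
  Lgr Lrot25 (Lpr_bt (K37.f198572 IH) (Lpe (K18.f302517 IH) (Lpr_bt (f495432 IH) (Lpn v1413))))
theorem f308141 : Led Lsl_et (LP (LK LD1_c2 LD2_c33 LD3_c48)) = (LP (LK LD1_c1 LD2_c13 LD3_c52)) :=
  Lre_e IH (LK LD1_c2 LD2_c33 LD3_c48) (LK LD1_c1 LD2_c13 LD3_c52) Lrfl Lrfl
theorem f166405 : Led Lsl_bt (LP (LK LD1_c1 LD2_c12 LD3_c23)) = (LP (LK LD1_c2 LD2_c30 LD3_c42)) :=
  Lre_b IH (LK LD1_c1 LD2_c12 LD3_c23) (LK LD1_c2 LD2_c30 LD3_c42) Lrfl Lrfl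
theorem f406379 : Led Lsl_ff (LP (LK LD1_c4 LD2_c32 LD3_c7)) = (LP (LK LD1_c2 LD2_c30 LD3_c42)) :=
  Lgr Lrot25 (Lpr_bt (f186358 IH) (Lpr_ft (K19.f302513 IH) (Lpr_bt (f166405 IH) (Lpn (LP (LK LD1_c2 LD2_c30 LD3_c42))))))
theorem f495437 : Led Lsl_et (LP (LK LD1_c4 LD2_c32 LD3_c7)) = v1413 :=
  Lgr Lrot69 (Lpr_ff (f406379 IH) (Lpe (K39.f308142 IH) (Lpe (K19.f308131 IH) (Lpe (f308141 IH) (Lpr_ff (f495435 IH) (Lpn v1413))))))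
theorem f562692 : (LP (LK LD1_c2 LD2_c14 LD3_c57)) = v1413 :=
  (Llr Lrot138 (Lpr_gt (f34983 IH) (Lpr_dt (f34958 IH) (Lpr_gt (K36.f71796 IH) (Lpr_df (K36.f547930 IH) (Lpr_et (f56297 IH) (Lpe (K8.f72984 IH) (Lpqs (f537693 IH) (Lpe (f453557 IH) (Lpr_dt (f36582 IH) (Lpr_gt (f562686 IH) (Lpe (f186347 IH) (Lpr_et (f495437 IH) (Lpn v1413)))))))))))))).symm
theorem f495438 : Led Lsl_ft (LP (LK LD1_c2 LD2_c33 LD3_c48)) = v1413 :=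
  Lgr Lrot48 (Lpr_ff (f495435 IH) (Lpn v1413))
theorem f417958 : Led Lsl_dt (LP (LK LD1_c5 LD2_c13 LD3_c48)) = (LP (LK LD1_c2 LD2_c33 LD3_c48)) :=
  Lre_d IH (LK LD1_c5 LD2_c13 LD3_c48) (LK LD1_c2 LD2_c33 LD3_c48) Lrfl Lrfl
theorem f562704 : Led Lsl_ff (LP (LK LD1_c5 LD2_c13 LD3_c48)) = (LP (LK LD1_c4 LD2_c35 LD3_c34)) :=
  Lgr Lrot19 (Lpr_dt (f417958 IH) (Lpr_ft (f495438 IH) (Lpq (f562692 IH) (Lpr_dt (K39.f34904 IH) (Lpn (LP (LK LD1_c4 LD2_c35 LD3_c34)))))))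
theorem f562711 : Led Lsl_at (LP (LK LD1_c5 LD2_c13 LD3_c48)) = (LP (LK LD1_c4 LD2_c35 LD3_c36)) :=
  Lgr Lrot26 (Lpr_ff (f562704 IH) (Lpr_gt (K39.f553506 IH) (Lpe (K39.f551795 IH) (Lpn (LP (LK LD1_c4 LD2_c35 LD3_c36))))))
theorem f198709 : Led Lsl_bt (LP (LK LD1_c2 LD2_c33 LD3_c50)) = (LP (LK LD1_c5 LD2_c13 LD3_c48)) :=
  Lre_b IH (LK LD1_c2 LD2_c33 LD3_c50) (LK LD1_c5 LD2_c13 LD3_c48) Lrfl Lrfl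
theorem f185791 : Led Lsl_ft (LP (LK LD1_c2 LD2_c33 LD3_c41)) = (LP (LK LD1_c5 LD2_c13 LD3_c36)) :=
  Lre_f IH (LK LD1_c2 LD2_c33 LD3_c41) (LK LD1_c5 LD2_c13 LD3_c36) Lrfl Lrfl
theorem f307993 : Led Lsl_at (LP (LK LD1_c5 LD2_c13 LD3_c36)) = (LP (LK LD1_c5 LD2_c6 LD3_c56)) :=
  Lgr Lrot66 (Lpe (f185791 IH) (Lpr_af (K38.f307987 IH) (Lpe (K19.f166401 IH) (Lpn (LP (LK LD1_c5 LD2_c6 LD3_c56))))))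
theorem f307995 : Led Lsl_af (LP (LK LD1_c5 LD2_c13 LD3_c36)) = (LP (LK LD1_c5 LD2_c6 LD3_c56)) :=
  Lgr Lrot0 (Lpr_at (f307993 IH) (Lpn (LP (LK LD1_c5 LD2_c6 LD3_c56))))
theorem f185756 : Led Lsl_et (LP (LK LD1_c1 LD2_c13 LD3_c48)) = (LP (LK LD1_c2 LD2_c33 LD3_c41)) :=
  Lre_e IH (LK LD1_c1 LD2_c13 LD3_c48) (LK LD1_c2 LD2_c33 LD3_c41) Lrfl Lrfl
theorem f166256 : Led Lsl_et (LP (LK LD1_c2 LD2_c30 LD3_c50)) = (LP (LK LD1_c1 LD2_c12 LD3_c25)) :=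
  Lre_e IH (LK LD1_c2 LD2_c30 LD3_c50) (LK LD1_c1 LD2_c12 LD3_c25) Lrfl Lrfl
theorem f166280 : Led Lsl_ft (LP (LK LD1_c5 LD2_c7 LD3_c1)) = (LP (LK LD1_c2 LD2_c30 LD3_c50)) :=
  Lre_f IH (LK LD1_c5 LD2_c7 LD3_c1) (LK LD1_c2 LD2_c30 LD3_c50) Lrfl Lrfl
theorem f307981 : Led Lsl_et (LP (LK LD1_c5 LD2_c13 LD3_c36)) = (LP (LK LD1_c5 LD2_c7 LD3_c1)) :=
  Lgr Lrot69 (Lpe (f185791 IH) (Lpe (f185756 IH) (Lpr_ff (K19.f307975 IH) (Lpe (f166256 IH) (Lpe (f166280 IH) (Lpn (LP (LK LD1_c5 LD2_c7 LD3_c1))))))))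
theorem f308111 : Led Lsl_af (LP (LK LD1_c5 LD2_c13 LD3_c51)) = (LP (LK LD1_c5 LD2_c7 LD3_c1)) :=
  Lgr Lrot50 (Lpr_et (K19.f308109 IH) (Lpe (f307995 IH) (Lpr_et (f307981 IH) (Lpn (LP (LK LD1_c5 LD2_c7 LD3_c1))))))
theorem f302596 : Led Lsl_dt (LP (LK LD1_c5 LD2_c13 LD3_c51)) = (LP (LK LD1_c10 LD2_c17 LD3_c53)) :=
  Lre_d IH (LK LD1_c5 LD2_c13 LD3_c51) (LK LD1_c10 LD2_c17 LD3_c53) Lrfl Lrfl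
theorem f405198 : Led Lsl_dt (LP (LK LD1_c10 LD2_c4 LD3_c43)) = (LP (LK LD1_c5 LD2_c7 LD3_c1)) :=
  Lre_d IH (LK LD1_c10 LD2_c4 LD3_c43) (LK LD1_c5 LD2_c7 LD3_c1) Lrfl Lrfl
theorem f405199 : Led Lsl_at (LP (LK LD1_c10 LD2_c17 LD3_c53)) = (LP (LK LD1_c10 LD2_c4 LD3_c43)) :=
  Lgr Lrot51 (Lpe (f302596 IH) (Lpr_af (f308111 IH) (Lpe (f405198 IH) (Lpn (LP (LK LD1_c10 LD2_c4 LD3_c43))))))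
theorem f186551 : Led Lsl_ft (LP (LK LD1_c5 LD2_c13 LD3_c50)) = (LP (LK LD1_c10 LD2_c17 LD3_c53)) :=
  Lre_f IH (LK LD1_c5 LD2_c13 LD3_c50) (LK LD1_c10 LD2_c17 LD3_c53) Lrfl Lrfl
theorem f405208 : Led Lsl_ft (LP (LK LD1_c10 LD2_c4 LD3_c43)) = (LP (LK LD1_c5 LD2_c7 LD3_c0)) :=
  Lre_f IH (LK LD1_c10 LD2_c4 LD3_c43) (LK LD1_c5 LD2_c7 LD3_c0) Lrfl Lrfl
theorem f405209 : Led Lsl_af (LP (LK LD1_c5 LD2_c13 LD3_c50)) = (LP (LK LD1_c5 LD2_c7 LD3_c0)) :=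
  Lgr Lrot45 (Lpr_ft (f186551 IH) (Lpr_at (f405199 IH) (Lpr_ft (f405208 IH) (Lpn (LP (LK LD1_c5 LD2_c7 LD3_c0))))))
theorem f405214 : Led Lsl_at (LP (LK LD1_c5 LD2_c13 LD3_c50)) = (LP (LK LD1_c5 LD2_c7 LD3_c0)) :=
  Lgr Lrot100 (Lpr_af (f405209 IH) (Lpn (LP (LK LD1_c5 LD2_c7 LD3_c0))))
theorem f198574 : Led Lsl_et (LP (LK LD1_c2 LD2_c33 LD3_c50)) = (LP (LK LD1_c5 LD2_c13 LD3_c50)) :=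
  Lre_e IH (LK LD1_c2 LD2_c33 LD3_c50) (LK LD1_c5 LD2_c13 LD3_c50) Lrfl Lrfl
theorem f168211 : Led Lsl_et (LP (LK LD1_c5 LD2_c7 LD3_c0)) = (LP (LK LD1_c2 LD2_c30 LD3_c51)) :=
  Lre_e IH (LK LD1_c5 LD2_c7 LD3_c0) (LK LD1_c2 LD2_c30 LD3_c51) Lrfl Lrfl
theorem f405220 : Led Lsl_af (LP (LK LD1_c2 LD2_c33 LD3_c50)) = (LP (LK LD1_c2 LD2_c30 LD3_c51)) :=
  Lgr Lrot50 (Lpr_et (f198574 IH) (Lpr_at (f405214 IH) (Lpr_et (f168211 IH) (Lpn (LP (LK LD1_c2 LD2_c30 LD3_c51))))))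
theorem f168208 : Led Lsl_bt (LP (LK LD1_c5 LD2_c6 LD3_c59)) = (LP (LK LD1_c2 LD2_c30 LD3_c51)) :=
  Lre_b IH (LK LD1_c5 LD2_c6 LD3_c59) (LK LD1_c2 LD2_c30 LD3_c51) Lrfl Lrfl
theorem f308038 : Led Lsl_dt (LP (LK LD1_c5 LD2_c6 LD3_c59)) = (LP (LK LD1_c2 LD2_c30 LD3_c49)) :=
  Lre_d IH (LK LD1_c5 LD2_c6 LD3_c59) (LK LD1_c2 LD2_c30 LD3_c49) Lrfl Lrfl
theorem f387300 : Led Lsl_dt (LP (LK LD1_c2 LD2_c55 LD3_c23)) = (LP (LK LD1_c5 LD2_c58 LD3_c2)) :=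
  Lre_d IH (LK LD1_c2 LD2_c55 LD3_c23) (LK LD1_c5 LD2_c58 LD3_c2) Lrfl Lrfl
theorem f539687 : Led Lsl_af (LP (LK LD1_c5 LD2_c6 LD3_c59)) = (LP (LK LD1_c5 LD2_c58 LD3_c2)) :=
  Lgr Lrot117 (Lpr_dt (f308038 IH) (Lpr_at (K36.f539681 IH) (Lpr_dt (f387300 IH) (Lpn (LP (LK LD1_c5 LD2_c58 LD3_c2))))))
theorem f562717 : Led Lsl_bf (LP (LK LD1_c5 LD2_c58 LD3_c2)) = (LP (LK LD1_c4 LD2_c35 LD3_c36)) :=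
  Lgr Lrot81 (Lpe (f539687 IH) (Lpr_bt (f168208 IH) (Lpe (f405220 IH) (Lpr_bt (f198709 IH) (Lpr_at (f562711 IH) (Lpn (LP (LK LD1_c4 LD2_c35 LD3_c36))))))))
theorem f539701 : Led Lsl_ff (LP (LK LD1_c5 LD2_c57 LD3_c45)) = (LP (LK LD1_c5 LD2_c58 LD3_c2)) :=
  Lgr Lrot19 (Lpr_dt (K36.f426216 IH) (Lpr_ft (K36.f539697 IH) (Lpr_dt (f387300 IH) (Lpn (LP (LK LD1_c5 LD2_c58 LD3_c2))))))
theorem f34957 : Led Lsl_dt (LP (LK LD1_c9 LD2_c7 LD3_c20)) = (LP (LK LD1_c4 LD2_c35 LD3_c23)) :=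
  Lre_d IH (LK LD1_c9 LD2_c7 LD3_c20) (LK LD1_c4 LD2_c35 LD3_c23) Lrfl Lrfl
theorem f427788 : Led Lsl_bf (LP (LK LD1_c9 LD2_c7 LD3_c20)) = (LP (LK LD1_c5 LD2_c57 LD3_c45)) :=
  Lgr Lrot93 (Lpr_dt (f34957 IH) (Lpr_bt (K36.f427784 IH) (Lpr_dt (K36.f426217 IH) (Lpn (LP (LK LD1_c5 LD2_c57 LD3_c45))))))
theorem f562730 : Led Lsl_ft (LP (LK LD1_c9 LD2_c7 LD3_c20)) = (LP (LK LD1_c4 LD2_c35 LD3_c36)) :=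
  Lgr Lrot75 (Lpr_bf (f427788 IH) (Lpr_ff (f539701 IH) (Lpr_bf (f562717 IH) (Lpn (LP (LK LD1_c4 LD2_c35 LD3_c36))))))
theorem f562736 : Led Lsl_ff (LP (LK LD1_c9 LD2_c7 LD3_c20)) = (LP (LK LD1_c4 LD2_c35 LD3_c36)) :=
  Lgr Lrot3 (Lpr_ft (f562730 IH) (Lpn (LP (LK LD1_c4 LD2_c35 LD3_c36))))
theorem f562738 : Led Lsl_at (LP (LK LD1_c9 LD2_c7 LD3_c20)) = (LP (LK LD1_c4 LD2_c35 LD3_c34)) :=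
  Lgr Lrot66 (Lpr_ff (f562736 IH) (Lpe (f562711 IH) (Lpr_ff (f562704 IH) (Lpn (LP (LK LD1_c4 LD2_c35 LD3_c34))))))
theorem f421463 : Led Lsl_ct (LP (LK LD1_c10 LD2_c4 LD3_c27)) = (LP (LK LD1_c5 LD2_c6 LD3_c51)) :=
  Lre_c IH (LK LD1_c10 LD2_c4 LD3_c27) (LK LD1_c5 LD2_c6 LD3_c51) Lrfl Lrfl
theorem f56280 : Led Lsl_ct (LP (LK LD1_c4 LD2_c39 LD3_c47)) = (LP (LK LD1_c9 LD2_c15 LD3_c4)) :=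
  Lre_c IH (LK LD1_c4 LD2_c39 LD3_c47) (LK LD1_c9 LD2_c15 LD3_c4) Lrfl Lrfl
theorem f542752 : Led Lsl_ff (LP (LK LD1_c10 LD2_c4 LD3_c27)) = (LP (LK LD1_c9 LD2_c15 LD3_c4)) :=
  Lgr Lrot23 (Lpr_ct (f421463 IH) (Lpr_ft (K36.f542744 IH) (Lpr_ct (f56280 IH) (Lpn (LP (LK LD1_c9 LD2_c15 LD3_c4))))))
theorem f542762 : Led Lsl_ft (LP (LK LD1_c10 LD2_c4 LD3_c27)) = (LP (LK LD1_c9 LD2_c15 LD3_c4)) :=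
  Lgr Lrot48 (Lpr_ff (f542752 IH) (Lpn (LP (LK LD1_c9 LD2_c15 LD3_c4))))
theorem f542769 : Led Lsl_at (LP (LK LD1_c9 LD2_c15 LD3_c4)) = (LP (LK LD1_c17 LD2_c9 LD3_c27)) :=
  Lre_a IH (LK LD1_c9 LD2_c15 LD3_c4) (LK LD1_c17 LD2_c9 LD3_c27) Lrfl Lrfl
theorem f542770 : Led Lsl_ft (LP (LK LD1_c17 LD2_c9 LD3_c27)) = (LP (LK LD1_c9 LD2_c15 LD3_c0)) :=
  Lre_f IH (LK LD1_c17 LD2_c9 LD3_c27) (LK LD1_c9 LD2_c15 LD3_c0) Lrfl Lrfl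
theorem f542771 : Led Lsl_af (LP (LK LD1_c10 LD2_c4 LD3_c27)) = (LP (LK LD1_c9 LD2_c15 LD3_c0)) :=
  Lgr Lrot45 (Lpr_ft (f542762 IH) (Lpr_at (f542769 IH) (Lpr_ft (f542770 IH) (Lpn (LP (LK LD1_c9 LD2_c15 LD3_c0))))))
theorem f190937 : Led Lsl_ct (LP (LK LD1_c4 LD2_c39 LD3_c44)) = (LP (LK LD1_c9 LD2_c15 LD3_c0)) :=
  Lre_c IH (LK LD1_c4 LD2_c39 LD3_c44) (LK LD1_c9 LD2_c15 LD3_c0) Lrfl Lrfl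
theorem f542779 : Led Lsl_at (LP (LK LD1_c5 LD2_c6 LD3_c51)) = (LP (LK LD1_c4 LD2_c39 LD3_c44)) :=
  Lgr Lrot107 (Lpe (f421463 IH) (Lpr_af (f542771 IH) (Lpe (f190937 IH) (Lpn (LP (LK LD1_c4 LD2_c39 LD3_c44))))))
theorem f56215 : Led Lsl_dt (LP (LK LD1_c2 LD2_c16 LD3_c54)) = (LP (LK LD1_c4 LD2_c39 LD3_c47)) :=
  Lre_d IH (LK LD1_c2 LD2_c16 LD3_c54) (LK LD1_c4 LD2_c39 LD3_c47) Lrfl Lrfl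
theorem f542661 : Led Lsl_ff (LP (LK LD1_c5 LD2_c6 LD3_c51)) = (LP (LK LD1_c4 LD2_c39 LD3_c47)) :=
  Lgr Lrot19 (Lpe (K36.f194022 IH) (Lpr_ft (K36.f495324 IH) (Lpqs (K36.f542648 IH) (Lpr_dt (f56215 IH) (Lpn (LP (LK LD1_c4 LD2_c39 LD3_c47)))))))
theorem f553508 : Led Lsl_gf (LP (LK LD1_c4 LD2_c35 LD3_c34)) = (LP (LK LD1_c4 LD2_c39 LD3_c47)) :=
  Lgr Lrot47 (Lpr_gt (K39.f553506 IH) (Lpe (f542779 IH) (Lpr_ff (f542661 IH) (Lpn (LP (LK LD1_c4 LD2_c39 LD3_c47))))))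
theorem f562740 : Led Lsl_gf (LP (LK LD1_c4 LD2_c39 LD3_c47)) = (LP (LK LD1_c4 LD2_c35 LD3_c36)) :=
  Lgr Lrot47 (Lpe (f553508 IH) (Lpe (f562738 IH) (Lpr_ff (f562736 IH) (Lpn (LP (LK LD1_c4 LD2_c35 LD3_c36))))))
theorem f56246 : Led Lsl_dt (LP (LK LD1_c9 LD2_c15 LD3_c3)) = (LP (LK LD1_c4 LD2_c39 LD3_c46)) :=
  Lre_d IH (LK LD1_c9 LD2_c15 LD3_c3) (LK LD1_c4 LD2_c39 LD3_c46) Lrfl Lrfl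
theorem f34972 : Led Lsl_gt (LP (LK LD1_c8 LD2_c38 LD3_c13)) = (LP (LK LD1_c4 LD2_c20 LD3_c11)) :=
  Lre_g IH (LK LD1_c8 LD2_c38 LD3_c13) (LK LD1_c4 LD2_c20 LD3_c11) Lrfl Lrfl
theorem f34973 : Led Lsl_dt (LP (LK LD1_c4 LD2_c20 LD3_c11)) = (LP (LK LD1_c8 LD2_c38 LD3_c16)) :=
  Lre_d IH (LK LD1_c4 LD2_c20 LD3_c11) (LK LD1_c8 LD2_c38 LD3_c16) Lrfl Lrfl
theorem f562742 : Led Lsl_gf (LP (LK LD1_c9 LD2_c15 LD3_c3)) = (LP (LK LD1_c8 LD2_c38 LD3_c16)) :=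
  Lgr Lrot143 (Lpr_dt (f56246 IH) (Lpe (K39.f56245 IH) (Lpe (K36.f56214 IH) (Lpr_gf (f562740 IH) (Lpe (K39.f34909 IH) (Lpe (K38.f34971 IH) (Lpr_cf (K37.f34942 IH) (Lpr_gt (f34972 IH) (Lpr_dt (f34973 IH) (Lpn (LP (LK LD1_c8 LD2_c38 LD3_c16))))))))))))
theorem f210964 : Led Lsl_gt (LP (LK LD1_c8 LD2_c51 LD3_c56)) = (LP (LK LD1_c16 LD2_c34 LD3_c33)) :=
  Lre_g IH (LK LD1_c8 LD2_c51 LD3_c56) (LK LD1_c16 LD2_c34 LD3_c33) Lrfl Lrfl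
theorem f112849 : Led Lsl_et (LP (LK LD1_c8 LD2_c45 LD3_c38)) = (LP (LK LD1_c16 LD2_c23 LD3_c49)) :=
  Lre_e IH (LK LD1_c8 LD2_c45 LD3_c38) (LK LD1_c16 LD2_c23 LD3_c49) Lrfl Lrfl
theorem f547340 : Led Lsl_at (LP (LK LD1_c16 LD2_c23 LD3_c49)) = (LP (LK LD1_c9 LD2_c51 LD3_c26)) :=
  Lgr Lrot80 (Lpe (f112849 IH) (Lpr_af (K38.f547334 IH) (Lpe (K38.f547323 IH) (Lpn (LP (LK LD1_c9 LD2_c51 LD3_c26))))))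
theorem f547342 : Led Lsl_af (LP (LK LD1_c16 LD2_c23 LD3_c49)) = (LP (LK LD1_c9 LD2_c51 LD3_c26)) :=
  Lgr Lrot0 (Lpr_at (f547340 IH) (Lpn (LP (LK LD1_c9 LD2_c51 LD3_c26))))
theorem f547348 : Led Lsl_gf (LP (LK LD1_c16 LD2_c23 LD3_c49)) = (LP (LK LD1_c16 LD2_c34 LD3_c33)) :=
  Lgr Lrot76 (Lpr_af (f547342 IH) (Lpr_ff (K36.f273157 IH) (Lpr_gt (f210964 IH) (Lpn (LP (LK LD1_c16 LD2_c34 LD3_c33))))))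
theorem f112841 : Led Lsl_gt (LP (LK LD1_c11 LD2_c37 LD3_c27)) = (LP (LK LD1_c5 LD2_c56 LD3_c6)) :=
  Lre_g IH (LK LD1_c11 LD2_c37 LD3_c27) (LK LD1_c5 LD2_c56 LD3_c6) Lrfl Lrfl
theorem f112843 : Led Lsl_et (LP (LK LD1_c16 LD2_c23 LD3_c49)) = (LP (LK LD1_c8 LD2_c45 LD3_c38)) :=
  Lre_e IH (LK LD1_c16 LD2_c23 LD3_c49) (LK LD1_c8 LD2_c45 LD3_c38) Lrfl Lrfl
theorem f112844 : Led Lsl_df (LP (LK LD1_c11 LD2_c37 LD3_c27)) = (LP (LK LD1_c16 LD2_c23 LD3_c49)) :=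
  Lgr Lrot170 (Lpr_gt (f112841 IH) (Lpe (K6.f112840 IH) (Lpr_et (K37.f112839 IH) (Lpr_gt (K6.f24074 IH) (Lpr_dt (K2.f69446 IH) (Lpr_gt (K4.f81782 IH) (Lpr_df (K4.f112626 IH) (Lpr_et (K38.f112838 IH) (Lpr_gt (K38.f112842 IH) (Lpe (f112843 IH) (Lpn (LP (LK LD1_c16 LD2_c23 LD3_c49)))))))))))))
theorem f112857 : Led Lsl_dt (LP (LK LD1_c1 LD2_c23 LD3_c13)) = (LP (LK LD1_c2 LD2_c54 LD3_c32)) :=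
  Lre_d IH (LK LD1_c1 LD2_c23 LD3_c13) (LK LD1_c2 LD2_c54 LD3_c32) Lrfl Lrfl
theorem f82151 : Led Lsl_gt (LP (LK LD1_c2 LD2_c54 LD3_c32)) = (LP (LK LD1_c5 LD2_c56 LD3_c25)) :=
  Lre_g IH (LK LD1_c2 LD2_c54 LD3_c32) (LK LD1_c5 LD2_c56 LD3_c25) Lrfl Lrfl
theorem f112858 : Led Lsl_dt (LP (LK LD1_c11 LD2_c38 LD3_c8)) = (LP (LK LD1_c5 LD2_c56 LD3_c25)) :=
  Lre_d IH (LK LD1_c11 LD2_c38 LD3_c8) (LK LD1_c5 LD2_c56 LD3_c25) Lrfl Lrfl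
theorem f547350 : Led Lsl_et (LP (LK LD1_c11 LD2_c38 LD3_c8)) = (LP (LK LD1_c16 LD2_c34 LD3_c33)) :=
  Lgr Lrot121 (Lpr_dt (f112858 IH) (Lpe (f82151 IH) (Lpe (f112857 IH) (Lpr_et (K2.f81813 IH) (Lpe (K6.f24074 IH) (Lpe (K37.f112839 IH) (Lpr_dt (K6.f112840 IH) (Lpe (f112841 IH) (Lpr_df (f112844 IH) (Lpr_gf (f547348 IH) (Lpn (LP (LK LD1_c16 LD2_c34 LD3_c33)))))))))))))
theorem f559833 : Led Lsl_et (LP (LK LD1_c4 LD2_c38 LD3_c23)) = (LP (LK LD1_c8 LD2_c38 LD3_c13)) :=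
  Lgr Lrot87 (Lpr_ef (f559812 IH) (Lpn (LP (LK LD1_c8 LD2_c38 LD3_c13))))
theorem f559802 : Led Lsl_dt (LP (LK LD1_c4 LD2_c38 LD3_c23)) = (LP (LK LD1_c9 LD2_c12 LD3_c37)) :=
  Lre_d IH (LK LD1_c4 LD2_c38 LD3_c23) (LK LD1_c9 LD2_c12 LD3_c37) Lrfl Lrfl
theorem f562754 : Led Lsl_gt (LP (LK LD1_c5 LD2_c56 LD3_c25)) = (LP (LK LD1_c9 LD2_c12 LD3_c37)) :=
  Lgr Lrot112 (Lpe (f112858 IH) (Lpr_et (f547350 IH) (Lpe (f210964 IH) (Lpr_ef (K38.f542883 IH) (Lpr_dt (K36.f56249 IH) (Lpr_gf (f562742 IH) (Lpe (f34973 IH) (Lpe (f34972 IH) (Lpe (f559833 IH) (Lpr_dt (f559802 IH) (Lpn (LP (LK LD1_c9 LD2_c12 LD3_c37)))))))))))))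
theorem f562756 : Led Lsl_at (LP (LK LD1_c5 LD2_c56 LD3_c28)) = (LP (LK LD1_c9 LD2_c12 LD3_c37)) :=
  Lgr Lrot26 (Lpe (K2.f82128 IH) (Lpr_gt (f82151 IH) (Lpr_gt (f562754 IH) (Lpn (LP (LK LD1_c9 LD2_c12 LD3_c37))))))
theorem f161926 : Led Lsl_dt (LP (LK LD1_c0 LD2_c38 LD3_c32)) = (LP (LK LD1_c1 LD2_c23 LD3_c19)) :=
  Lre_d IH (LK LD1_c0 LD2_c38 LD3_c32) (LK LD1_c1 LD2_c23 LD3_c19) Lrfl Lrfl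
theorem f452845 : Led Lsl_ct (LP (LK LD1_c1 LD2_c23 LD3_c19)) = (LP (LK LD1_c2 LD2_c54 LD3_c51)) :=
  Lre_c IH (LK LD1_c1 LD2_c23 LD3_c19) (LK LD1_c2 LD2_c54 LD3_c51) Lrfl Lrfl
theorem f500554 : Led Lsl_dt (LP (LK LD1_c2 LD2_c54 LD3_c51)) = (LP (LK LD1_c5 LD2_c57 LD3_c11)) :=
  Lre_d IH (LK LD1_c2 LD2_c54 LD3_c51) (LK LD1_c5 LD2_c57 LD3_c11) Lrfl Lrfl
theorem f500555 : Led Lsl_ct (LP (LK LD1_c5 LD2_c57 LD3_c11)) = (LP (LK LD1_c11 LD2_c39 LD3_c43)) :=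
  Lre_c IH (LK LD1_c5 LD2_c57 LD3_c11) (LK LD1_c11 LD2_c39 LD3_c43) Lrfl Lrfl
theorem f559804 : Led Lsl_ct (LP (LK LD1_c17 LD2_c6 LD3_c51)) = (LP (LK LD1_c9 LD2_c12 LD3_c37)) :=
  Lre_c IH (LK LD1_c17 LD2_c6 LD3_c51) (LK LD1_c9 LD2_c12 LD3_c37) Lrfl Lrfl
theorem f562775 : Led Lsl_dt (LP (LK LD1_c11 LD2_c39 LD3_c43)) = (LP (LK LD1_c17 LD2_c6 LD3_c51)) :=
  Lgr Lrot120 (Lpe (f500555 IH) (Lpe (f500554 IH) (Lpe (f452845 IH) (Lpe (f161926 IH) (Lpe (K38.f82181 IH) (Lpe (K2.f82145 IH) (Lpr_ft (K2.f82128 IH) (Lpr_at (f562756 IH) (Lpe (f559804 IH) (Lpn (LP (LK LD1_c17 LD2_c6 LD3_c51))))))))))))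
theorem f559803 : Led Lsl_ct (LP (LK LD1_c9 LD2_c12 LD3_c37)) = (LP (LK LD1_c17 LD2_c6 LD3_c51)) :=
  Lre_c IH (LK LD1_c9 LD2_c12 LD3_c37) (LK LD1_c17 LD2_c6 LD3_c51) Lrfl Lrfl
theorem f452839 : Led Lsl_dt (LP (LK LD1_c5 LD2_c56 LD3_c24)) = (LP (LK LD1_c2 LD2_c54 LD3_c31)) :=
  Lre_d IH (LK LD1_c5 LD2_c56 LD3_c24) (LK LD1_c2 LD2_c54 LD3_c31) Lrfl Lrfl
theorem f158164 : Led Lsl_dt (LP (LK LD1_c2 LD2_c10 LD3_c27)) = (LP (LK LD1_c4 LD2_c26 LD3_c27)) :=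
  Lre_d IH (LK LD1_c2 LD2_c10 LD3_c27) (LK LD1_c4 LD2_c26 LD3_c27) Lrfl Lrfl
theorem f198012 : Led Lsl_ct (LP (LK LD1_c8 LD2_c50 LD3_c24)) = (LP (LK LD1_c4 LD2_c26 LD3_c27)) :=
  Lre_c IH (LK LD1_c8 LD2_c50 LD3_c24) (LK LD1_c4 LD2_c26 LD3_c27) Lrfl Lrfl
theorem f559842 : Led Lsl_gf (LP (LK LD1_c8 LD2_c50 LD3_c24)) = (LP (LK LD1_c16 LD2_c19 LD3_c40)) :=
  Lgr Lrot104 (Lpr_ct (f198012 IH) (Lpe (f158164 IH) (Lpe (K39.f176058 IH) (Lpq (K37.f545833 IH) (Lpe (K37.f452832 IH) (Lpe (K38.f82181 IH) (Lpe (K39.f112846 IH) (Lpe (f452839 IH) (Lpr_gt (f559837 IH) (Lpr_ct (f173319 IH) (Lpn (LP (LK LD1_c16 LD2_c19 LD3_c40)))))))))))))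
theorem f546285 : Led Lsl_dt (LP (LK LD1_c8 LD2_c50 LD3_c24)) = (LP (LK LD1_c16 LD2_c31 LD3_c23)) :=
  Lre_d IH (LK LD1_c8 LD2_c50 LD3_c24) (LK LD1_c16 LD2_c31 LD3_c23) Lrfl Lrfl
theorem f562793 : Led Lsl_gf (LP (LK LD1_c11 LD2_c39 LD3_c43)) = (LP (LK LD1_c16 LD2_c31 LD3_c23)) :=
  Lgr Lrot143 (Lpr_dt (f562775 IH) (Lpe (f559803 IH) (Lpe (f559802 IH) (Lpr_gf (f559796 IH) (Lpe (K39.f545141 IH) (Lpe (K38.f547577 IH) (Lpe (f173303 IH) (Lpe (f559842 IH) (Lpr_dt (f546285 IH) (Lpn (LP (LK LD1_c16 LD2_c31 LD3_c23))))))))))))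
theorem f562802 : Led Lsl_ct (LP (LK LD1_c11 LD2_c39 LD3_c43)) = (LP (LK LD1_c5 LD2_c57 LD3_c11)) :=
  Lre_c IH (LK LD1_c11 LD2_c39 LD3_c43) (LK LD1_c5 LD2_c57 LD3_c11) Lrfl Lrfl
theorem f562803 : Led Lsl_gt (LP (LK LD1_c5 LD2_c57 LD3_c11)) = (LP (LK LD1_c11 LD2_c39 LD3_c41)) :=
  Lre_g IH (LK LD1_c5 LD2_c57 LD3_c11) (LK LD1_c11 LD2_c39 LD3_c41) Lrfl Lrfl
theorem f546296 : Led Lsl_gt (LP (LK LD1_c8 LD2_c50 LD3_c24)) = (LP (LK LD1_c16 LD2_c31 LD3_c21)) :=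
  Lre_g IH (LK LD1_c8 LD2_c50 LD3_c24) (LK LD1_c16 LD2_c31 LD3_c21) Lrfl Lrfl
theorem f193838 : Led Lsl_ct (LP (LK LD1_c11 LD2_c57 LD3_c48)) = (LP (LK LD1_c21 LD2_c2 LD3_c53)) :=
  Lre_c IH (LK LD1_c11 LD2_c57 LD3_c48) (LK LD1_c21 LD2_c2 LD3_c53) Lrfl Lrfl
theorem f406988 : Led Lsl_ff (LP (LK LD1_c16 LD2_c19 LD3_c40)) = (LP (LK LD1_c21 LD2_c2 LD3_c53)) :=
  Lgr Lrot23 (Lpr_ct (f173303 IH) (Lpr_ft (K38.f297244 IH) (Lpr_ct (f193838 IH) (Lpn (LP (LK LD1_c21 LD2_c2 LD3_c53))))))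
theorem f406993 : Led Lsl_ft (LP (LK LD1_c16 LD2_c19 LD3_c40)) = (LP (LK LD1_c21 LD2_c2 LD3_c53)) :=
  Lgr Lrot48 (Lpr_ff (f406988 IH) (Lpn (LP (LK LD1_c21 LD2_c2 LD3_c53))))
theorem f559848 : Led Lsl_af (LP (LK LD1_c16 LD2_c31 LD3_c21)) = (LP (LK LD1_c21 LD2_c2 LD3_c53)) :=
  Lgr Lrot31 (Lpe (f546296 IH) (Lpr_gf (f559842 IH) (Lpr_ft (f406993 IH) (Lpn (LP (LK LD1_c21 LD2_c2 LD3_c53))))))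
theorem f547585 : Led Lsl_af (LP (LK LD1_c11 LD2_c57 LD3_c48)) = (LP (LK LD1_c11 LD2_c38 LD3_c0)) :=
  Lgr Lrot0 (Lpr_at (K38.f547579 IH) (Lpn (LP (LK LD1_c11 LD2_c38 LD3_c0))))
theorem f559858 : Led Lsl_ct (LP (LK LD1_c16 LD2_c31 LD3_c21)) = (LP (LK LD1_c11 LD2_c38 LD3_c0)) :=
  Lgr Lrot111 (Lpr_af (f559848 IH) (Lpe (f193838 IH) (Lpr_af (f547585 IH) (Lpn (LP (LK LD1_c11 LD2_c38 LD3_c0))))))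
theorem f553437 : Led Lsl_ct (LP (LK LD1_c5 LD2_c56 LD3_c24)) = (LP (LK LD1_c11 LD2_c38 LD3_c4)) :=
  Lre_c IH (LK LD1_c5 LD2_c56 LD3_c24) (LK LD1_c11 LD2_c38 LD3_c4) Lrfl Lrfl
theorem f562758 : Led Lsl_dt (LP (LK LD1_c20 LD2_c36 LD3_c57)) = (LP (LK LD1_c11 LD2_c38 LD3_c4)) :=
  Lre_d IH (LK LD1_c20 LD2_c36 LD3_c57) (LK LD1_c11 LD2_c38 LD3_c4) Lrfl Lrfl
theorem f562804 : Led Lsl_ct (LP (LK LD1_c11 LD2_c39 LD3_c41)) = (LP (LK LD1_c20 LD2_c36 LD3_c57)) :=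
  Lgr Lrot110 (Lpe (f562803 IH) (Lpe (f562802 IH) (Lpr_gf (f562793 IH) (Lpe (f546285 IH) (Lpr_gt (f546296 IH) (Lpr_ct (f559858 IH) (Lpe (f559839 IH) (Lpr_ct (f553437 IH) (Lpe (f562758 IH) (Lpn (LP (LK LD1_c20 LD2_c36 LD3_c57))))))))))))
theorem f559841 : Led Lsl_ct (LP (LK LD1_c11 LD2_c38 LD3_c4)) = (LP (LK LD1_c5 LD2_c56 LD3_c24)) :=
  Lre_c IH (LK LD1_c11 LD2_c38 LD3_c4) (LK LD1_c5 LD2_c56 LD3_c24) Lrfl Lrfl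
theorem f553423 : Led Lsl_ct (LP (LK LD1_c2 LD2_c54 LD3_c31)) = (LP (LK LD1_c5 LD2_c56 LD3_c23)) :=
  Lre_c IH (LK LD1_c2 LD2_c54 LD3_c31) (LK LD1_c5 LD2_c56 LD3_c23) Lrfl Lrfl
theorem f198510 : Led Lsl_ct (LP (LK LD1_c5 LD2_c56 LD3_c23)) = (LP (LK LD1_c2 LD2_c54 LD3_c31)) :=
  Lre_c IH (LK LD1_c5 LD2_c56 LD3_c23) (LK LD1_c2 LD2_c54 LD3_c31) Lrfl Lrfl
theorem f553447 : Led Lsl_af (LP (LK LD1_c5 LD2_c56 LD3_c23)) = (LP (LK LD1_c11 LD2_c36 LD3_c50)) :=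
  Lgr Lrot68 (Lpr_ct (f198510 IH) (Lpr_at (K39.f553443 IH) (Lpr_ct (f210974 IH) (Lpn (LP (LK LD1_c11 LD2_c36 LD3_c50))))))
theorem f553455 : Led Lsl_ft (LP (LK LD1_c5 LD2_c56 LD3_c21)) = (LP (LK LD1_c11 LD2_c36 LD3_c50)) :=
  Lgr Lrot4 (Lpe (K38.f198269 IH) (Lpr_ff (K39.f553453 IH) (Lpe (f193891 IH) (Lpn (LP (LK LD1_c11 LD2_c36 LD3_c50))))))
theorem f562817 : Led Lsl_df (LP (LK LD1_c11 LD2_c39 LD3_c41)) = (LP (LK LD1_c17 LD2_c6 LD3_c59)) :=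
  Lgr Lrot106 (Lpr_ct (f562804 IH) (Lpr_dt (f562758 IH) (Lpr_ct (f559841 IH) (Lpr_dt (f452839 IH) (Lpr_ct (f553423 IH) (Lpr_af (f553447 IH) (Lpe (f553455 IH) (Lpr_dt (K38.f545256 IH) (Lpr_ct (f546090 IH) (Lpn (LP (LK LD1_c17 LD2_c6 LD3_c59))))))))))))
theorem f494500 : Led Lsl_dt (LP (LK LD1_c2 LD2_c16 LD3_c16)) = (LP (LK LD1_c1 LD2_c5 LD3_c3)) :=
  Lre_d IH (LK LD1_c2 LD2_c16 LD3_c16) (LK LD1_c1 LD2_c5 LD3_c3) Lrfl Lrfl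
theorem f116971 : Led Lsl_dt (LP (LK LD1_c2 LD2_c16 LD3_c15)) = (LP (LK LD1_c4 LD2_c38 LD3_c24)) :=
  Lre_d IH (LK LD1_c2 LD2_c16 LD3_c15) (LK LD1_c4 LD2_c38 LD3_c24) Lrfl Lrfl
theorem f541654 : Led Lsl_ct (LP (LK LD1_c9 LD2_c12 LD3_c38)) = (LP (LK LD1_c4 LD2_c38 LD3_c24)) :=
  Lre_c IH (LK LD1_c9 LD2_c12 LD3_c38) (LK LD1_c4 LD2_c38 LD3_c24) Lrfl Lrfl
theorem f541653 : Led Lsl_dt (LP (LK LD1_c17 LD2_c6 LD3_c54)) = (LP (LK LD1_c9 LD2_c12 LD3_c38)) :=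
  Lre_d IH (LK LD1_c17 LD2_c6 LD3_c54) (LK LD1_c9 LD2_c12 LD3_c38) Lrfl Lrfl
theorem f562824 : Led Lsl_gt (LP (LK LD1_c11 LD2_c39 LD3_c41)) = (LP (LK LD1_c17 LD2_c6 LD3_c54)) :=
  Lgr Lrot49 (Lpr_df (f562817 IH) (Lpe (f541651 IH) (Lpe (f541567 IH) (Lpr_gt (f176557 IH) (Lpr_dt (f494500 IH) (Lpr_gt (f116970 IH) (Lpr_dt (f116971 IH) (Lpe (f541654 IH) (Lpe (f541653 IH) (Lpn (LP (LK LD1_c17 LD2_c6 LD3_c54))))))))))))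
theorem f562829 : Led Lsl_ft (LP (LK LD1_c5 LD2_c57 LD3_c11)) = (LP (LK LD1_c11 LD2_c39 LD3_c45)) :=
  Lre_f IH (LK LD1_c5 LD2_c57 LD3_c11) (LK LD1_c11 LD2_c39 LD3_c45) Lrfl Lrfl
theorem f562830 : Led Lsl_at (LP (LK LD1_c11 LD2_c39 LD3_c45)) = (LP (LK LD1_c17 LD2_c6 LD3_c54)) :=
  Lgr Lrot26 (Lpe (f562829 IH) (Lpr_gt (f562803 IH) (Lpr_gt (f562824 IH) (Lpn (LP (LK LD1_c17 LD2_c6 LD3_c54))))))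
theorem f24472 : Led Lsl_dt (LP (LK LD1_c5 LD2_c57 LD3_c11)) = (LP (LK LD1_c2 LD2_c54 LD3_c51)) :=
  Lre_d IH (LK LD1_c5 LD2_c57 LD3_c11) (LK LD1_c2 LD2_c54 LD3_c51) Lrfl Lrfl
theorem f24471 : Led Lsl_ct (LP (LK LD1_c2 LD2_c54 LD3_c51)) = (LP (LK LD1_c1 LD2_c23 LD3_c19)) :=
  Lre_c IH (LK LD1_c2 LD2_c54 LD3_c51) (LK LD1_c1 LD2_c23 LD3_c19) Lrfl Lrfl
theorem f82178 : Led Lsl_dt (LP (LK LD1_c1 LD2_c23 LD3_c19)) = (LP (LK LD1_c0 LD2_c38 LD3_c32)) :=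
  Lre_d IH (LK LD1_c1 LD2_c23 LD3_c19) (LK LD1_c0 LD2_c38 LD3_c32) Lrfl Lrfl
theorem f82141 : Led Lsl_ct (LP (LK LD1_c2 LD2_c54 LD3_c32)) = (LP (LK LD1_c5 LD2_c56 LD3_c27)) :=
  Lre_c IH (LK LD1_c2 LD2_c54 LD3_c32) (LK LD1_c5 LD2_c56 LD3_c27) Lrfl Lrfl
theorem f562832 : Led Lsl_dt (LP (LK LD1_c5 LD2_c56 LD3_c27)) = (LP (LK LD1_c11 LD2_c38 LD3_c16)) :=
  Lre_d IH (LK LD1_c5 LD2_c56 LD3_c27) (LK LD1_c11 LD2_c38 LD3_c16) Lrfl Lrfl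
theorem f562852 : Led Lsl_ct (LP (LK LD1_c11 LD2_c38 LD3_c16)) = (LP (LK LD1_c17 LD2_c6 LD3_c54)) :=
  Lgr Lrot98 (Lpe (f562832 IH) (Lpe (f82141 IH) (Lpe (f112857 IH) (Lpe (K2.f24488 IH) (Lpe (f82178 IH) (Lpe (f24471 IH) (Lpe (f24472 IH) (Lpr_ft (f562829 IH) (Lpr_at (f562830 IH) (Lpn (LP (LK LD1_c17 LD2_c6 LD3_c54))))))))))))
theorem f500580 : Led Lsl_ft (LP (LK LD1_c1 LD2_c23 LD3_c19)) = (LP (LK LD1_c2 LD2_c54 LD3_c52)) :=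
  Lre_f IH (LK LD1_c1 LD2_c23 LD3_c19) (LK LD1_c2 LD2_c54 LD3_c52) Lrfl Lrfl
theorem f562863 : Led Lsl_at (LP (LK LD1_c2 LD2_c54 LD3_c52)) = (LP (LK LD1_c4 LD2_c38 LD3_c24)) :=
  Lgr Lrot33 (Lpe (f500580 IH) (Lpr_dt (f82178 IH) (Lpr_ct (K2.f24488 IH) (Lpr_dt (f112857 IH) (Lpr_ct (f82141 IH) (Lpr_dt (f562832 IH) (Lpr_ct (f562852 IH) (Lpr_dt (f541653 IH) (Lpr_ct (f541654 IH) (Lpn (LP (LK LD1_c4 LD2_c38 LD3_c24))))))))))))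
theorem f71435 : Led Lsl_at (LP (LK LD1_c2 LD2_c54 LD3_c19)) = (LP (LK LD1_c1 LD2_c23 LD3_c19)) :=
  Lre_a IH (LK LD1_c2 LD2_c54 LD3_c19) (LK LD1_c1 LD2_c23 LD3_c19) Lrfl Lrfl
theorem f562873 : Led Lsl_ff (LP (LK LD1_c2 LD2_c54 LD3_c19)) = (LP (LK LD1_c4 LD2_c38 LD3_c24)) :=
  Lgr Lrot30 (Lpr_at (f71435 IH) (Lpr_ft (f500580 IH) (Lpr_at (f562863 IH) (Lpn (LP (LK LD1_c4 LD2_c38 LD3_c24))))))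
theorem f562924 : Led Lsl_ft (LP (LK LD1_c2 LD2_c54 LD3_c19)) = (LP (LK LD1_c4 LD2_c38 LD3_c24)) :=
  Lgr Lrot48 (Lpr_ff (f562873 IH) (Lpn (LP (LK LD1_c4 LD2_c38 LD3_c24))))
theorem f161438 : Led Lsl_gt (LP (LK LD1_c2 LD2_c54 LD3_c19)) = (LP (LK LD1_c5 LD2_c55 LD3_c58)) :=
  Lre_g IH (LK LD1_c2 LD2_c54 LD3_c19) (LK LD1_c5 LD2_c55 LD3_c58) Lrfl Lrfl
theorem f562867 : Led Lsl_af (LP (LK LD1_c2 LD2_c54 LD3_c52)) = (LP (LK LD1_c4 LD2_c38 LD3_c24)) :=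
  Lgr Lrot0 (Lpr_at (f562863 IH) (Lpn (LP (LK LD1_c4 LD2_c38 LD3_c24))))
theorem f562993 : Led Lsl_gt (LP (LK LD1_c5 LD2_c55 LD3_c58)) = (LP (LK LD1_c2 LD2_c54 LD3_c52)) :=
  Lgr Lrot46 (Lpe (f161438 IH) (Lpr_ft (f562924 IH) (Lpe (f562867 IH) (Lpn (LP (LK LD1_c2 LD2_c54 LD3_c52))))))
theorem f71411 : Led Lsl_bt (LP (LK LD1_c1 LD2_c23 LD3_c26)) = (LP (LK LD1_c2 LD2_c54 LD3_c52)) :=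
  Lre_b IH (LK LD1_c1 LD2_c23 LD3_c26) (LK LD1_c2 LD2_c54 LD3_c52) Lrfl Lrfl
def v1661 : LQ := Led Lsl_ct (LP (LK LD1_c1 LD2_c23 LD3_c26))
theorem f500612 : Led Lsl_ct (LP (LK LD1_c1 LD2_c23 LD3_c26)) = v1661 :=
  Lrfl
theorem f500381 : Led Lsl_cf (LP (LK LD1_c1 LD2_c22 LD3_c30)) = K38.v1616 :=
  Lgr Lrot11 (Lpr_ct (K38.f500380 IH) (Lpn K38.v1616))
theorem f500616 : Led Lsl_gf K38.v1616 = v1661 :=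
  Lgr Lrot104 (Lpe (f500381 IH) (Lpe (K38.f24521 IH) (Lpe (K12.f210988 IH) (Lpr_gf (K10.f175543 IH) (Lpe (K10.f56045 IH) (Lpe (K10.f176716 IH) (Lpe (K10.f175499 IH) (Lpr_gt (K11.f71420 IH) (Lpr_ct (f500612 IH) (Lpn v1661))))))))))
theorem f428279 : Led Lsl_ct (LP (LK LD1_c5 LD2_c58 LD3_c57)) = (LP (LK LD1_c11 LD2_c42 LD3_c19)) :=
  Lre_c IH (LK LD1_c5 LD2_c58 LD3_c57) (LK LD1_c11 LD2_c42 LD3_c19) Lrfl Lrfl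
theorem f562996 : Led Lsl_bf (LP (LK LD1_c5 LD2_c55 LD3_c58)) = (LP (LK LD1_c5 LD2_c58 LD3_c57)) :=
  Lgr Lrot156 (Lpr_gt (f562993 IH) (Lpe (f71411 IH) (Lpr_ct (f500612 IH) (Lpe (f500616 IH) (Lpe (K38.f500380 IH) (Lpr_bt (f24526 IH) (Lpr_gt (K38.f548695 IH) (Lpr_ct (K37.f139007 IH) (Lpr_gt (f562609 IH) (Lpe (f428279 IH) (Lpn (LP (LK LD1_c5 LD2_c58 LD3_c57)))))))))))))
theorem f71434 : Led Lsl_at (LP (LK LD1_c2 LD2_c15 LD3_c22)) = (LP (LK LD1_c4 LD2_c36 LD3_c3)) :=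
  Lre_a IH (LK LD1_c2 LD2_c15 LD3_c22) (LK LD1_c4 LD2_c36 LD3_c3) Lrfl Lrfl
theorem f24470 : Led Lsl_bt (LP (LK LD1_c1 LD2_c23 LD3_c19)) = (LP (LK LD1_c0 LD2_c38 LD3_c34)) :=
  Lre_b IH (LK LD1_c1 LD2_c23 LD3_c19) (LK LD1_c0 LD2_c38 LD3_c34) Lrfl Lrfl
theorem f71436 : Led Lsl_bt (LP (LK LD1_c4 LD2_c36 LD3_c3)) = (LP (LK LD1_c2 LD2_c54 LD3_c19)) :=
  Lgr Lrot62 (Lpe (f71434 IH) (Lpe (K38.f71433 IH) (Lpr_af (K2.f71417 IH) (Lpe (f24470 IH) (Lpe (f71435 IH) (Lpn (LP (LK LD1_c2 LD2_c54 LD3_c19))))))))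
theorem f563007 : Led Lsl_bf (LP (LK LD1_c6 LD2_c13 LD3_c21)) = (LP (LK LD1_c4 LD2_c59 LD3_c9)) :=
  Lgr Lrot165 (Lpr_gt (K38.f546839 IH) (Lpr_ct (K38.f549008 IH) (Lpr_gt (K38.f72069 IH) (Lpe (K38.f71992 IH) (Lpr_bt (f71436 IH) (Lpr_gt (f161438 IH) (Lpr_bf (f562996 IH) (Lpr_ct (f428279 IH) (Lpe (f562604 IH) (Lpe (f545761 IH) (Lpn (LP (LK LD1_c4 LD2_c59 LD3_c9)))))))))))))
theorem f537744 : Led Lsl_bt (LP (LK LD1_c2 LD2_c52 LD3_c34)) = (LP (LK LD1_c5 LD2_c52 LD3_c35)) :=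
  Lre_b IH (LK LD1_c2 LD2_c52 LD3_c34) (LK LD1_c5 LD2_c52 LD3_c35) Lrfl Lrfl
theorem f452789 : Led Lsl_ct (LP (LK LD1_c2 LD2_c52 LD3_c34)) = (LP (LK LD1_c5 LD2_c52 LD3_c36)) :=
  Lre_c IH (LK LD1_c2 LD2_c52 LD3_c34) (LK LD1_c5 LD2_c52 LD3_c36) Lrfl Lrfl
theorem f545798 : Led Lsl_at (LP (LK LD1_c4 LD2_c59 LD3_c8)) = (LP (LK LD1_c9 LD2_c48 LD3_c7)) :=
  Lre_a IH (LK LD1_c4 LD2_c59 LD3_c8) (LK LD1_c9 LD2_c48 LD3_c7) Lrfl Lrfl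
theorem f545799 : Led Lsl_ft (LP (LK LD1_c9 LD2_c48 LD3_c47)) = (LP (LK LD1_c4 LD2_c59 LD3_c8)) :=
  Lre_f IH (LK LD1_c9 LD2_c48 LD3_c47) (LK LD1_c4 LD2_c59 LD3_c8) Lrfl Lrfl
theorem f562401 : Led Lsl_gt (LP (LK LD1_c9 LD2_c48 LD3_c47)) = (LP (LK LD1_c11 LD2_c28 LD3_c20)) :=
  Lgr Lrot5 (Lpr_ft (f545799 IH) (Lpr_at (f545798 IH) (Lpr_gf (f562399 IH) (Lpn (LP (LK LD1_c11 LD2_c28 LD3_c20))))))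
theorem f186117 : Led Lsl_bt (LP (LK LD1_c5 LD2_c49 LD3_c53)) = (LP (LK LD1_c2 LD2_c51 LD3_c5)) :=
  Lre_b IH (LK LD1_c5 LD2_c49 LD3_c53) (LK LD1_c2 LD2_c51 LD3_c5) Lrfl Lrfl
theorem f563015 : Led Lsl_gf (LP (LK LD1_c5 LD2_c52 LD3_c36)) = (LP (LK LD1_c4 LD2_c39 LD3_c18)) :=
  Lgr Lrot129 (Lpe (f452789 IH) (Lpr_bt (f537744 IH) (Lpr_gt (K38.f548995 IH) (Lpr_bf (f563007 IH) (Lpr_ct (f545761 IH) (Lpr_gt (f562401 IH) (Lpe (f186120 IH) (Lpr_bt (f186117 IH) (Lpr_gt (K11.f186109 IH) (Lpr_ct (K10.f176062 IH) (Lpn (LP (LK LD1_c4 LD2_c39 LD3_c18)))))))))))))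
theorem f563019 : Led Lsl_dt (LP (LK LD1_c5 LD2_c52 LD3_c36)) = (LP (LK LD1_c6 LD2_c3 LD3_c30)) :=
  Lgr Lrot57 (Lpr_gf (f563015 IH) (Lpe (K10.f176062 IH) (Lpr_gt (K10.f176705 IH) (Lpe (K10.f176709 IH) (Lpr_gt (K9.f175413 IH) (Lpe (K9.f175393 IH) (Lpe (K10.f9433 IH) (Lpe (K10.f175662 IH) (Lpe (K10.f175389 IH) (Lpn (LP (LK LD1_c6 LD2_c3 LD3_c30))))))))))))
theorem f211758 : Led Lsl_ct (LP (LK LD1_c2 LD2_c52 LD3_c36)) = (LP (LK LD1_c1 LD2_c22 LD3_c20)) :=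
  Lre_c IH (LK LD1_c2 LD2_c52 LD3_c36) (LK LD1_c1 LD2_c22 LD3_c20) Lrfl Lrfl
theorem f452734 : Led Lsl_gt (LP (LK LD1_c5 LD2_c52 LD3_c41)) = (LP (LK LD1_c2 LD2_c52 LD3_c36)) :=
  Lre_g IH (LK LD1_c5 LD2_c52 LD3_c41) (LK LD1_c2 LD2_c52 LD3_c36) Lrfl Lrfl
theorem f563029 : Led Lsl_df (LP (LK LD1_c5 LD2_c52 LD3_c41)) = (LP (LK LD1_c5 LD2_c49 LD3_c58)) :=
  Lgr Lrot155 (Lpr_gt (f452734 IH) (Lpr_ct (f211758 IH) (Lpr_gt (K35.f452779 IH) (Lpr_ct (f452789 IH) (Lpr_dt (f563019 IH) (Lpe (K11.f176720 IH) (Lpr_gf (K11.f176728 IH) (Lpe (K11.f176615 IH) (Lpe (K11.f186113 IH) (Lpn (LP (LK LD1_c5 LD2_c49 LD3_c58))))))))))))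
theorem f563047 : Led Lsl_cf (LP (LK LD1_c5 LD2_c52 LD3_c41)) = (LP (LK LD1_c2 LD2_c57 LD3_c52)) :=
  Lgr Lrot14 (Lpr_df (f563029 IH) (Lpr_gf (K11.f186115 IH) (Lpr_df (K10.f176560 IH) (Lpe (K9.f24002 IH) (Lpr_ct (K9.f24003 IH) (Lpr_gt (K9.f23956 IH) (Lpr_dt (K9.f23939 IH) (Lpr_gt (K10.f177687 IH) (Lpr_dt (K10.f26668 IH) (Lpn (LP (LK LD1_c2 LD2_c57 LD3_c52))))))))))))
theorem f452733 : Led Lsl_ct (LP (LK LD1_c1 LD2_c22 LD3_c20)) = (LP (LK LD1_c2 LD2_c52 LD3_c36)) :=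
  Lre_c IH (LK LD1_c1 LD2_c22 LD3_c20) (LK LD1_c2 LD2_c52 LD3_c36) Lrfl Lrfl
theorem f211757 : Led Lsl_bt (LP (LK LD1_c1 LD2_c22 LD3_c20)) = (LP (LK LD1_c0 LD2_c38 LD3_c13)) :=
  Lre_b IH (LK LD1_c1 LD2_c22 LD3_c20) (LK LD1_c0 LD2_c38 LD3_c13) Lrfl Lrfl
def v1615 : LQ := Led Lsl_ct (LP (LK LD1_c1 LD2_c22 LD3_c29))
theorem f500375 : Led Lsl_ct (LP (LK LD1_c1 LD2_c22 LD3_c29)) = v1615 :=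
  Lrfl
theorem f500615 : Led Lsl_df K38.v1268 = v1661 :=
  Lgr Lrot106 (Lpe (K38.f494418 IH) (Lpr_dt (K2.f37712 IH) (Lpr_ct (K11.f34728 IH) (Lpe (K1.f27205 IH) (Lpe (K2.f71449 IH) (Lpr_af (K10.f71441 IH) (Lpe (K10.f71467 IH) (Lpr_dt (K2.f71429 IH) (Lpr_ct (f500612 IH) (Lpn v1661))))))))))
theorem f500376 : Led Lsl_cf (LP (LK LD1_c1 LD2_c22 LD3_c29)) = v1615 :=
  Lgr Lrot11 (Lpr_ct (f500375 IH) (Lpn v1615))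
def v1267 : LQ := Led Lsl_gf (LP (LK LD1_c1 LD2_c4 LD3_c47))
theorem f494406 : Led Lsl_gf (LP (LK LD1_c1 LD2_c4 LD3_c47)) = v1267 :=
  Lrfl
theorem f494409 : Led Lsl_dt (LP (LK LD1_c2 LD2_c12 LD3_c35)) = v1267 :=
  Lgr Lrot57 (Lpe (K10.f175513 IH) (Lpe (K10.f56044 IH) (Lpe (K10.f175543 IH) (Lpr_dt (K10.f175545 IH) (Lpr_gt (K10.f27236 IH) (Lpe (K1.f27205 IH) (Lpe (K11.f34728 IH) (Lpe (K2.f37712 IH) (Lpr_gf (f494406 IH) (Lpn v1267))))))))))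
theorem f500379 : Led Lsl_gt K38.v1268 = v1615 :=
  Lgr Lrot150 (Lpe (K38.f494416 IH) (Lpr_gf (f494406 IH) (Lpe (f494409 IH) (Lpr_gt (K16.f185980 IH) (Lpr_ct (K16.f179895 IH) (Lpr_gt (K11.f193799 IH) (Lpr_ct (K12.f211711 IH) (Lpe (K12.f211739 IH) (Lpr_cf (f500376 IH) (Lpn v1615))))))))))
def v1614 : LQ := Led Lsl_ct (LP (LK LD1_c1 LD2_c22 LD3_c28))
theorem f500373 : Led Lsl_ct (LP (LK LD1_c1 LD2_c22 LD3_c28)) = v1614 :=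
  Lrfl
theorem f500374 : Led Lsl_cf (LP (LK LD1_c1 LD2_c22 LD3_c28)) = v1614 :=
  Lgr Lrot11 (Lpr_ct (f500373 IH) (Lpn v1614))
theorem f500377 : Led Lsl_df v1614 = v1615 :=
  Lgr Lrot106 (Lpe (f500374 IH) (Lpr_dt (K36.f211764 IH) (Lpr_ct (K37.f211753 IH) (Lpe (K10.f175547 IH) (Lpr_ct (K12.f210988 IH) (Lpe (K38.f450255 IH) (Lpr_ff (K38.f450292 IH) (Lpe (K12.f211734 IH) (Lpr_ct (f500375 IH) (Lpn v1615))))))))))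
theorem f500618 : Led Lsl_gt v1615 = v1661 :=
  Lgr Lrot94 (Lpe (f500375 IH) (Lpe (K12.f151850 IH) (Lpr_dt (K7.f20332 IH) (Lpe (K12.f211765 IH) (Lpr_dt (K12.f211763 IH) (Lpr_cf (f500374 IH) (Lpr_df (f500377 IH) (Lpe (f500379 IH) (Lpr_df (f500615 IH) (Lpn v1661))))))))))
theorem f442452 : Led Lsl_gt (LP (LK LD1_c2 LD2_c54 LD3_c52)) = (LP (LK LD1_c5 LD2_c55 LD3_c59)) :=
  Lre_g IH (LK LD1_c2 LD2_c54 LD3_c52) (LK LD1_c5 LD2_c55 LD3_c59) Lrfl Lrfl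
theorem f563056 : Led Lsl_bf (LP (LK LD1_c5 LD2_c55 LD3_c59)) = (LP (LK LD1_c2 LD2_c57 LD3_c52)) :=
  Lgr Lrot34 (Lpe (f442452 IH) (Lpe (f71411 IH) (Lpr_ct (f500612 IH) (Lpe (f500618 IH) (Lpe (f500375 IH) (Lpe (K12.f26579 IH) (Lpe (f211757 IH) (Lpr_ct (f452733 IH) (Lpe (f452734 IH) (Lpr_cf (f563047 IH) (Lpn (LP (LK LD1_c2 LD2_c57 LD3_c52)))))))))))))
theorem f424775 : Led Lsl_gt (LP (LK LD1_c5 LD2_c55 LD3_c59)) = (LP (LK LD1_c2 LD2_c54 LD3_c19)) :=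
  Lre_g IH (LK LD1_c5 LD2_c55 LD3_c59) (LK LD1_c2 LD2_c54 LD3_c19) Lrfl Lrfl
theorem f536428 : Led Lsl_at (LP (LK LD1_c17 LD2_c0 LD3_c54)) = (LP (LK LD1_c9 LD2_c9 LD3_c3)) :=
  Lre_a IH (LK LD1_c17 LD2_c0 LD3_c54) (LK LD1_c9 LD2_c9 LD3_c3) Lrfl Lrfl
theorem f536429 : Led Lsl_ft (LP (LK LD1_c9 LD2_c8 LD3_c21)) = (LP (LK LD1_c17 LD2_c0 LD3_c54)) :=
  Lre_f IH (LK LD1_c9 LD2_c8 LD3_c21) (LK LD1_c17 LD2_c0 LD3_c54) Lrfl Lrfl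
theorem f536430 : Led Lsl_gf (LP (LK LD1_c11 LD2_c31 LD3_c39)) = (LP (LK LD1_c9 LD2_c8 LD3_c21)) :=
  Lgr Lrot47 (Lpr_gt (K35.f536426 IH) (Lpe (f536428 IH) (Lpe (f536429 IH) (Lpn (LP (LK LD1_c9 LD2_c8 LD3_c21))))))
def v1742 : LQ := Led Lsl_gf (LP (LK LD1_c1 LD2_c24 LD3_c44))
theorem f501224 : Led Lsl_gf (LP (LK LD1_c1 LD2_c24 LD3_c44)) = v1742 :=
  Lrfl
def v951 : LQ := Led Lsl_dt K36.v121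
theorem f490701 : Led Lsl_dt K36.v121 = v951 :=
  Lrfl
theorem f490704 : Led Lsl_ff (LP (LK LD1_c2 LD2_c16 LD3_c43)) = v951 :=
  Lgr Lrot19 (Lpr_dt (K10.f26685 IH) (Lpr_ft (K36.f448992 IH) (Lpr_dt (f490701 IH) (Lpn v951))))
theorem f501225 : Led Lsl_gt v951 = v1742 :=
  Lgr Lrot5 (Lpe (f490704 IH) (Lpr_at (K35.f334649 IH) (Lpr_gf (f501224 IH) (Lpn v1742))))
theorem f490709 : Led Lsl_ef K36.v121 = K36.v952 :=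
  Lgr Lrot88 (Lpr_et (K36.f490707 IH) (Lpn K36.v952))
theorem f152011 : Led Lsl_et (LP (LK LD1_c0 LD2_c16 LD3_c61)) = (LP (LK LD1_c0 LD2_c38 LD3_c9)) :=
  Lre_e IH (LK LD1_c0 LD2_c16 LD3_c61) (LK LD1_c0 LD2_c38 LD3_c9) Lrfl Lrfl
theorem f537142 : K36.v121 = (LP (LK LD1_c0 LD2_c38 LD3_c9)) :=
  Lefun (Lecon (Lfl_ef (f490709 IH)) (K36.f536953 IH)) (f152011 IH)
theorem f537341 : v951 = (LP (LK LD1_c1 LD2_c22 LD3_c20)) :=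
  Lefun (Lecon (f490701 IH) (f537142 IH)) (K38.f437294 IH)
theorem f537736 : v1742 = (LP (LK LD1_c2 LD2_c52 LD3_c34)) :=
  Lefun (Lecon (f501225 IH) (f537341 IH)) (K35.f452779 IH)
theorem f563058 : Led Lsl_gf (LP (LK LD1_c5 LD2_c52 LD3_c41)) = (LP (LK LD1_c2 LD2_c58 LD3_c7)) :=
  Lgr Lrot129 (Lpr_cf (f563047 IH) (Lpe (f563056 IH) (Lpr_gt (f424775 IH) (Lpe (f71436 IH) (Lpr_ct (K38.f71992 IH) (Lpe (f536430 IH) (Lpe (K35.f452808 IH) (Lpr_bt (K35.f452807 IH) (Lpq (f537736 IH) (Lpe (f501224 IH) (Lpr_ct (K35.f172126 IH) (Lpn (LP (LK LD1_c2 LD2_c58 LD3_c7))))))))))))))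
theorem f563060 : Led Lsl_af (LP (LK LD1_c2 LD2_c52 LD3_c36)) = (LP (LK LD1_c4 LD2_c39 LD3_c32)) :=
  Lgr Lrot31 (Lpe (f452734 IH) (Lpr_gf (f563058 IH) (Lpe (K35.f334677 IH) (Lpn (LP (LK LD1_c4 LD2_c39 LD3_c32))))))
theorem f334665 : Led Lsl_at (LP (LK LD1_c4 LD2_c39 LD3_c30)) = (LP (LK LD1_c2 LD2_c58 LD3_c7)) :=
  Lgr Lrot100 (Lpr_af (K35.f334661 IH) (Lpn (LP (LK LD1_c2 LD2_c58 LD3_c7))))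
theorem f563068 : Led Lsl_ft (LP (LK LD1_c2 LD2_c52 LD3_c36)) = (LP (LK LD1_c4 LD2_c39 LD3_c30)) :=
  Lgr Lrot101 (Lpr_af (f563060 IH) (Lpr_ff (K35.f334677 IH) (Lpe (f334665 IH) (Lpn (LP (LK LD1_c4 LD2_c39 LD3_c30))))))
theorem f563076 : Led Lsl_gt (LP (LK LD1_c2 LD2_c52 LD3_c36)) = (LP (LK LD1_c5 LD2_c52 LD3_c40)) :=
  Lre_g IH (LK LD1_c2 LD2_c52 LD3_c36) (LK LD1_c5 LD2_c52 LD3_c40) Lrfl Lrfl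
theorem f563077 : Led Lsl_gt (LP (LK LD1_c5 LD2_c52 LD3_c40)) = (LP (LK LD1_c2 LD2_c58 LD3_c7)) :=
  Lgr Lrot46 (Lpe (f563076 IH) (Lpr_ft (f563068 IH) (Lpr_at (f334665 IH) (Lpn (LP (LK LD1_c2 LD2_c58 LD3_c7))))))
theorem f563083 : Led Lsl_cf (LP (LK LD1_c5 LD2_c52 LD3_c40)) = (LP (LK LD1_c2 LD2_c57 LD3_c53)) :=
  Lgr Lrot166 (Lpr_gt (f563077 IH) (Lpr_dt (K36.f186284 IH) (Lpr_gt (K11.f9343 IH) (Lpr_dt (K0.f9339 IH) (Lpr_ct (K0.f9378 IH) (Lpe (K0.f9363 IH) (Lpe (K9.f9417 IH) (Lpe (K10.f9418 IH) (Lpe (K10.f9419 IH) (Lpn (LP (LK LD1_c2 LD2_c57 LD3_c53))))))))))))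
theorem f428173 : Led Lsl_ct (LP (LK LD1_c11 LD2_c41 LD3_c42)) = (LP (LK LD1_c5 LD2_c58 LD3_c38)) :=
  Lre_c IH (LK LD1_c11 LD2_c41 LD3_c42) (LK LD1_c5 LD2_c58 LD3_c38) Lrfl Lrfl
theorem f539505 : Led Lsl_bt (LP (LK LD1_c20 LD2_c41 LD3_c42)) = (LP (LK LD1_c11 LD2_c41 LD3_c42)) :=
  Lre_b IH (LK LD1_c20 LD2_c41 LD3_c42) (LK LD1_c11 LD2_c41 LD3_c42) Lrfl Lrfl
theorem f539506 : Led Lsl_bt (LP (LK LD1_c6 LD2_c1 LD3_c29)) = (LP (LK LD1_c11 LD2_c47 LD3_c33)) :=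
  Lre_b IH (LK LD1_c6 LD2_c1 LD3_c29) (LK LD1_c11 LD2_c47 LD3_c33) Lrfl Lrfl
theorem f539507 : Led Lsl_cf (LP (LK LD1_c20 LD2_c41 LD3_c42)) = (LP (LK LD1_c11 LD2_c47 LD3_c33)) :=
  Lgr Lrot97 (Lpr_bt (f539505 IH) (Lpr_ct (f428173 IH) (Lpr_bt (f539502 IH) (Lpr_ct (K36.f500878 IH) (Lpr_bt (f539506 IH) (Lpn (LP (LK LD1_c11 LD2_c47 LD3_c33))))))))
theorem f539513 : Led Lsl_ct (LP (LK LD1_c20 LD2_c41 LD3_c42)) = (LP (LK LD1_c11 LD2_c47 LD3_c33)) :=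
  Lgr Lrot59 (Lpr_cf (f539507 IH) (Lpn (LP (LK LD1_c11 LD2_c47 LD3_c33))))
theorem f539519 : Led Lsl_at (LP (LK LD1_c29 LD2_c35 LD3_c35)) = (LP (LK LD1_c20 LD2_c41 LD3_c42)) :=
  Lre_a IH (LK LD1_c29 LD2_c35 LD3_c35) (LK LD1_c20 LD2_c41 LD3_c42) Lrfl Lrfl
theorem f539528 : Led Lsl_at (LP (LK LD1_c11 LD2_c47 LD3_c33)) = (LP (LK LD1_c20 LD2_c49 LD3_c41)) :=
  Lre_a IH (LK LD1_c11 LD2_c47 LD3_c33) (LK LD1_c20 LD2_c49 LD3_c41) Lrfl Lrfl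
theorem f539529 : Led Lsl_cf (LP (LK LD1_c29 LD2_c35 LD3_c35)) = (LP (LK LD1_c20 LD2_c49 LD3_c41)) :=
  Lgr Lrot1 (Lpr_at (f539519 IH) (Lpr_ct (f539513 IH) (Lpr_at (f539528 IH) (Lpn (LP (LK LD1_c20 LD2_c49 LD3_c41))))))
theorem f428329 : Led Lsl_bt (LP (LK LD1_c29 LD2_c35 LD3_c35)) = (LP (LK LD1_c20 LD2_c42 LD3_c10)) :=
  Lre_b IH (LK LD1_c29 LD2_c35 LD3_c35) (LK LD1_c20 LD2_c42 LD3_c10) Lrfl Lrfl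
theorem f428328 : Led Lsl_ct (LP (LK LD1_c20 LD2_c42 LD3_c10)) = (LP (LK LD1_c11 LD2_c43 LD3_c5)) :=
  Lre_c IH (LK LD1_c20 LD2_c42 LD3_c10) (LK LD1_c11 LD2_c43 LD3_c5) Lrfl Lrfl
theorem f428327 : Led Lsl_bt (LP (LK LD1_c11 LD2_c43 LD3_c5)) = (LP (LK LD1_c20 LD2_c41 LD3_c37)) :=
  Lre_b IH (LK LD1_c11 LD2_c43 LD3_c5) (LK LD1_c20 LD2_c41 LD3_c37) Lrfl Lrfl
theorem f428270 : Led Lsl_et (LP (LK LD1_c5 LD2_c58 LD3_c28)) = (LP (LK LD1_c2 LD2_c55 LD3_c42)) :=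
  Lre_e IH (LK LD1_c5 LD2_c58 LD3_c28) (LK LD1_c2 LD2_c55 LD3_c42) Lrfl Lrfl
theorem f428271 : Led Lsl_et (LP (LK LD1_c2 LD2_c55 LD3_c53)) = (LP (LK LD1_c5 LD2_c58 LD3_c55)) :=
  Lre_e IH (LK LD1_c2 LD2_c55 LD3_c53) (LK LD1_c5 LD2_c58 LD3_c55) Lrfl Lrfl
theorem f428272 : Led Lsl_bf (LP (LK LD1_c5 LD2_c58 LD3_c28)) = (LP (LK LD1_c5 LD2_c58 LD3_c55)) :=
  Lgr Lrot96 (Lpr_et (f428270 IH) (Lpr_bt (K36.f428258 IH) (Lpr_et (f428271 IH) (Lpn (LP (LK LD1_c5 LD2_c58 LD3_c55))))))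
theorem f428285 : Led Lsl_ct (LP (LK LD1_c5 LD2_c58 LD3_c28)) = (LP (LK LD1_c11 LD2_c41 LD3_c30)) :=
  Lre_c IH (LK LD1_c5 LD2_c58 LD3_c28) (LK LD1_c11 LD2_c41 LD3_c30) Lrfl Lrfl
theorem f428286 : Led Lsl_bt (LP (LK LD1_c11 LD2_c41 LD3_c30)) = (LP (LK LD1_c20 LD2_c41 LD3_c30)) :=
  Lre_b IH (LK LD1_c11 LD2_c41 LD3_c30) (LK LD1_c20 LD2_c41 LD3_c30) Lrfl Lrfl
theorem f427044 : Led Lsl_ct (LP (LK LD1_c11 LD2_c42 LD3_c17)) = (LP (LK LD1_c5 LD2_c58 LD3_c55)) :=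
  Lre_c IH (LK LD1_c11 LD2_c42 LD3_c17) (LK LD1_c5 LD2_c58 LD3_c55) Lrfl Lrfl
theorem f428287 : Led Lsl_bt (LP (LK LD1_c20 LD2_c42 LD3_c32)) = (LP (LK LD1_c11 LD2_c42 LD3_c17)) :=
  Lre_b IH (LK LD1_c20 LD2_c42 LD3_c32) (LK LD1_c11 LD2_c42 LD3_c17) Lrfl Lrfl
theorem f428288 : Led Lsl_ct (LP (LK LD1_c20 LD2_c41 LD3_c30)) = (LP (LK LD1_c20 LD2_c42 LD3_c32)) :=
  Lgr Lrot83 (Lpe (f428286 IH) (Lpe (f428285 IH) (Lpr_bf (f428272 IH) (Lpe (f427044 IH) (Lpe (f428287 IH) (Lpn (LP (LK LD1_c20 LD2_c42 LD3_c32))))))))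
theorem f428293 : Led Lsl_cf (LP (LK LD1_c20 LD2_c41 LD3_c30)) = (LP (LK LD1_c20 LD2_c42 LD3_c32)) :=
  Lgr Lrot11 (Lpr_ct (f428288 IH) (Lpn (LP (LK LD1_c20 LD2_c42 LD3_c32))))
theorem f428305 : Led Lsl_et (LP (LK LD1_c20 LD2_c41 LD3_c30)) = (LP (LK LD1_c11 LD2_c41 LD3_c35)) :=
  Lre_e IH (LK LD1_c20 LD2_c41 LD3_c30) (LK LD1_c11 LD2_c41 LD3_c35) Lrfl Lrfl
theorem f428306 : Led Lsl_et (LP (LK LD1_c11 LD2_c42 LD3_c21)) = (LP (LK LD1_c20 LD2_c42 LD3_c32)) :=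
  Lre_e IH (LK LD1_c11 LD2_c42 LD3_c21) (LK LD1_c20 LD2_c42 LD3_c32) Lrfl Lrfl
theorem f428307 : Led Lsl_ct (LP (LK LD1_c11 LD2_c41 LD3_c35)) = (LP (LK LD1_c11 LD2_c42 LD3_c21)) :=
  Lgr Lrot15 (Lpe (f428305 IH) (Lpr_cf (f428293 IH) (Lpe (f428306 IH) (Lpn (LP (LK LD1_c11 LD2_c42 LD3_c21))))))
theorem f428309 : Led Lsl_at (LP (LK LD1_c20 LD2_c41 LD3_c37)) = (LP (LK LD1_c11 LD2_c41 LD3_c35)) :=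
  Lre_a IH (LK LD1_c20 LD2_c41 LD3_c37) (LK LD1_c11 LD2_c41 LD3_c35) Lrfl Lrfl
theorem f428310 : Led Lsl_at (LP (LK LD1_c11 LD2_c42 LD3_c21)) = (LP (LK LD1_c20 LD2_c42 LD3_c37)) :=
  Lre_a IH (LK LD1_c11 LD2_c42 LD3_c21) (LK LD1_c20 LD2_c42 LD3_c37) Lrfl Lrfl
theorem f428311 : Led Lsl_cf (LP (LK LD1_c20 LD2_c41 LD3_c37)) = (LP (LK LD1_c20 LD2_c42 LD3_c37)) :=
  Lgr Lrot1 (Lpr_at (f428309 IH) (Lpr_ct (f428307 IH) (Lpr_at (f428310 IH) (Lpn (LP (LK LD1_c20 LD2_c42 LD3_c37))))))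
theorem f428324 : Led Lsl_ct (LP (LK LD1_c20 LD2_c41 LD3_c37)) = (LP (LK LD1_c20 LD2_c42 LD3_c37)) :=
  Lgr Lrot59 (Lpr_cf (f428311 IH) (Lpn (LP (LK LD1_c20 LD2_c42 LD3_c37))))
theorem f539549 : Led Lsl_bt (LP (LK LD1_c20 LD2_c42 LD3_c37)) = (LP (LK LD1_c20 LD2_c49 LD3_c41)) :=
  Lgr Lrot128 (Lpe (f428324 IH) (Lpe (f428327 IH) (Lpe (f428328 IH) (Lpe (f428329 IH) (Lpr_cf (f539529 IH) (Lpn (LP (LK LD1_c20 LD2_c49 LD3_c41))))))))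
theorem f539552 : Led Lsl_bf (LP (LK LD1_c20 LD2_c42 LD3_c37)) = (LP (LK LD1_c20 LD2_c49 LD3_c41)) :=
  Lgr Lrot24 (Lpr_bt (f539549 IH) (Lpn (LP (LK LD1_c20 LD2_c49 LD3_c41))))
theorem f428316 : Led Lsl_at (LP (LK LD1_c20 LD2_c42 LD3_c37)) = (LP (LK LD1_c11 LD2_c42 LD3_c21)) :=
  Lre_a IH (LK LD1_c20 LD2_c42 LD3_c37) (LK LD1_c11 LD2_c42 LD3_c21) Lrfl Lrfl
theorem f428315 : Led Lsl_bt (LP (LK LD1_c11 LD2_c42 LD3_c21)) = (LP (LK LD1_c5 LD2_c58 LD3_c58)) :=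
  Lre_b IH (LK LD1_c11 LD2_c42 LD3_c21) (LK LD1_c5 LD2_c58 LD3_c58) Lrfl Lrfl
theorem f539555 : Led Lsl_at (LP (LK LD1_c5 LD2_c58 LD3_c58)) = (LP (LK LD1_c6 LD2_c1 LD3_c29)) :=
  Lgr Lrot67 (Lpe (f428315 IH) (Lpe (f428316 IH) (Lpr_bf (f539552 IH) (Lpe (f539528 IH) (Lpe (f539506 IH) (Lpn (LP (LK LD1_c6 LD2_c1 LD3_c29))))))))
theorem f500727 : Led Lsl_dt (LP (LK LD1_c5 LD2_c58 LD3_c58)) = (LP (LK LD1_c11 LD2_c42 LD3_c22)) :=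
  Lre_d IH (LK LD1_c5 LD2_c58 LD3_c58) (LK LD1_c11 LD2_c42 LD3_c22) Lrfl Lrfl
theorem f500895 : Led Lsl_dt (LP (LK LD1_c11 LD2_c47 LD3_c28)) = (LP (LK LD1_c6 LD2_c1 LD3_c27)) :=
  Lre_d IH (LK LD1_c11 LD2_c47 LD3_c28) (LK LD1_c6 LD2_c1 LD3_c27) Lrfl Lrfl
theorem f539412 : Led Lsl_ff (LP (LK LD1_c5 LD2_c58 LD3_c58)) = (LP (LK LD1_c6 LD2_c1 LD3_c27)) :=
  Lgr Lrot19 (Lpr_dt (f500727 IH) (Lpr_ft (K36.f539408 IH) (Lpr_dt (f500895 IH) (Lpn (LP (LK LD1_c6 LD2_c1 LD3_c27))))))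
theorem f548688 : Led Lsl_gf (LP (LK LD1_c5 LD2_c53 LD3_c7)) = (LP (LK LD1_c6 LD2_c1 LD3_c27)) :=
  Lgr Lrot47 (Lpr_gt (K38.f548649 IH) (Lpe (f539555 IH) (Lpr_ff (f539412 IH) (Lpn (LP (LK LD1_c6 LD2_c1 LD3_c27))))))
theorem f563121 : Led Lsl_bf (LP (LK LD1_c6 LD2_c1 LD3_c26)) = (LP (LK LD1_c2 LD2_c57 LD3_c53)) :=
  Lgr Lrot165 (Lpr_gt (f500896 IH) (Lpr_ct (K36.f9396 IH) (Lpe (f548688 IH) (Lpe (K38.f24541 IH) (Lpr_bt (K38.f24537 IH) (Lpr_gt (K38.f24428 IH) (Lpe (f211757 IH) (Lpr_ct (f452733 IH) (Lpr_gt (f563076 IH) (Lpr_cf (f563083 IH) (Lpn (LP (LK LD1_c2 LD2_c57 LD3_c53)))))))))))))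
theorem f428158 : Led Lsl_ct (LP (LK LD1_c5 LD2_c58 LD3_c38)) = (LP (LK LD1_c11 LD2_c41 LD3_c42)) :=
  Lre_c IH (LK LD1_c5 LD2_c58 LD3_c38) (LK LD1_c11 LD2_c41 LD3_c42) Lrfl Lrfl
theorem f186287 : Led Lsl_bt (LP (LK LD1_c1 LD2_c24 LD3_c44)) = (LP (LK LD1_c2 LD2_c58 LD3_c6)) :=
  Lre_b IH (LK LD1_c1 LD2_c24 LD3_c44) (LK LD1_c2 LD2_c58 LD3_c6) Lrfl Lrfl
theorem f436302 : Led Lsl_at (LP (LK LD1_c4 LD2_c34 LD3_c51)) = (LP (LK LD1_c2 LD2_c14 LD3_c35)) :=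
  Lre_a IH (LK LD1_c4 LD2_c34 LD3_c51) (LK LD1_c2 LD2_c14 LD3_c35) Lrfl Lrfl
theorem f20390 : Led Lsl_gt (LP (LK LD1_c4 LD2_c34 LD3_c61)) = (LP (LK LD1_c2 LD2_c14 LD3_c35)) :=
  Lre_g IH (LK LD1_c4 LD2_c34 LD3_c61) (LK LD1_c2 LD2_c14 LD3_c35) Lrfl Lrfl
theorem f548614 : Led Lsl_gf (LP (LK LD1_c4 LD2_c34 LD3_c61)) = (LP (LK LD1_c2 LD2_c58 LD3_c6)) :=
  Lgr Lrot47 (Lpr_gt (f20390 IH) (Lpe (f436302 IH) (Lpr_ff (K38.f548610 IH) (Lpn (LP (LK LD1_c2 LD2_c58 LD3_c6))))))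
theorem f494355 : Led Lsl_ct (LP (LK LD1_c4 LD2_c34 LD3_c61)) = (LP (LK LD1_c9 LD2_c6 LD3_c46)) :=
  Lre_c IH (LK LD1_c4 LD2_c34 LD3_c61) (LK LD1_c9 LD2_c6 LD3_c46) Lrfl Lrfl
theorem f563133 : Led Lsl_gf (LP (LK LD1_c11 LD2_c41 LD3_c42)) = (LP (LK LD1_c9 LD2_c6 LD3_c46)) :=
  Lgr Lrot129 (Lpe (f428158 IH) (Lpr_bt (f539502 IH) (Lpe (f545454 IH) (Lpr_bf (f563121 IH) (Lpe (f563083 IH) (Lpr_gt (f563077 IH) (Lpe (K35.f172126 IH) (Lpr_bt (f186287 IH) (Lpe (f548614 IH) (Lpr_ct (f494355 IH) (Lpn (LP (LK LD1_c9 LD2_c6 LD3_c46)))))))))))))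
theorem f157626 : Led Lsl_gt (LP (LK LD1_c2 LD2_c55 LD3_c48)) = (LP (LK LD1_c1 LD2_c23 LD3_c51)) :=
  Lre_g IH (LK LD1_c2 LD2_c55 LD3_c48) (LK LD1_c1 LD2_c23 LD3_c51) Lrfl Lrfl
theorem f563139 : Led Lsl_cf (LP (LK LD1_c2 LD2_c55 LD3_c48)) = K35.v1738 :=
  Lgr Lrot169 (Lpr_gt (f157626 IH) (Lpe (K36.f426083 IH) (Lpe (f428171 IH) (Lpe (f428173 IH) (Lpr_gf (f563133 IH) (Lpe (f494355 IH) (Lpr_gf (f548614 IH) (Lpe (K38.f22438 IH) (Lpr_gt (K35.f501208 IH) (Lpn K35.v1738))))))))))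
theorem f563161 : Led Lsl_et (LP (LK LD1_c2 LD2_c55 LD3_c48)) = (LP (LK LD1_c2 LD2_c46 LD3_c6)) :=
  Lgr Lrot158 (Lpr_cf (f563139 IH) (Lpqs (K35.f541444 IH) (Lpq (K35.f541444 IH) (Lpq (K38.f548135 IH) (Lpe (K36.f495714 IH) (Lpe (K30.f380257 IH) (Lpn (LP (LK LD1_c2 LD2_c46 LD3_c6)))))))))
theorem f563686 : Led Lsl_bf (LP (LK LD1_c2 LD2_c55 LD3_c48)) = (LP (LK LD1_c4 LD2_c36 LD3_c2)) :=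
  Lgr Lrot96 (Lpr_et (f563161 IH) (Lpe (f551983 IH) (Lpr_et (f563684 IH) (Lpn (LP (LK LD1_c4 LD2_c36 LD3_c2))))))
theorem f101740 : Led Lsl_ct (LP (LK LD1_c2 LD2_c27 LD3_c21)) = (LP (LK LD1_c4 LD2_c58 LD3_c55)) :=
  Lre_c IH (LK LD1_c2 LD2_c27 LD3_c21) (LK LD1_c4 LD2_c58 LD3_c55) Lrfl Lrfl
def v1385 : LQ := Led Lsl_gt (LP (LK LD1_c1 LD2_c10 LD3_c56))
theorem f495270 : Led Lsl_gt (LP (LK LD1_c1 LD2_c10 LD3_c56)) = v1385 :=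
  Lrfl
theorem f539842 : (LP (LK LD1_c2 LD2_c14 LD3_c39)) = v1385 :=
  (Llr Lrot26 (Lpe (K36.f211079 IH) (Lpr_ff (K36.f500367 IH) (Lpqs (K36.f539826 IH) (Lpr_gt (K36.f72493 IH) (Lpr_gt (f495270 IH) (Lpn v1385))))))).symm
theorem f563713 : Led Lsl_gf (LP (LK LD1_c2 LD2_c55 LD3_c48)) = (LP (LK LD1_c5 LD2_c45 LD3_c2)) :=
  Lgr Lrot124 (Lpr_bf (f563686 IH) (Lpr_ct (f71483 IH) (Lpr_gt (f563709 IH) (Lpe (f101740 IH) (Lpr_bt (K6.f101714 IH) (Lpr_gt (f495270 IH) (Lpq (f539842 IH) (Lpr_ct (K36.f211061 IH) (Lpr_gt (K36.f24262 IH) (Lpq (K36.f539086 IH) (Lpe (K38.f500887 IH) (Lpr_bt (K36.f500886 IH) (Lpn (LP (LK LD1_c5 LD2_c45 LD3_c2)))))))))))))))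
theorem f563163 : Led Lsl_ft (LP (LK LD1_c2 LD2_c55 LD3_c48)) = (LP (LK LD1_c2 LD2_c51 LD3_c44)) :=
  Lgr Lrot4 (Lpr_cf (f563139 IH) (Lpqs (K35.f541444 IH) (Lpq (K35.f541444 IH) (Lpq (K38.f548135 IH) (Lpq (K36.f541426 IH) (Lpe (K36.f500186 IH) (Lpe (K37.f208541 IH) (Lpn (LP (LK LD1_c2 LD2_c51 LD3_c44))))))))))
theorem f563171 : Led Lsl_ef (LP (LK LD1_c2 LD2_c55 LD3_c48)) = (LP (LK LD1_c2 LD2_c46 LD3_c6)) :=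
  Lgr Lrot21 (Lpr_ft (f563163 IH) (Lpr_et (K37.f208577 IH) (Lpr_ft (K38.f208580 IH) (Lpr_et (K38.f500711 IH) (Lpqs (K38.f541400 IH) (Lpr_ft (K38.f423314 IH) (Lpn (LP (LK LD1_c2 LD2_c46 LD3_c6)))))))))
theorem f548501 : Led Lsl_df (LP (LK LD1_c10 LD2_c6 LD3_c19)) = (LP (LK LD1_c5 LD2_c37 LD3_c57)) :=
  Lgr Lrot38 (Lpr_dt (K38.f548495 IH) (Lpn (LP (LK LD1_c5 LD2_c37 LD3_c57))))
theorem f563720 : Led Lsl_gt (LP (LK LD1_c5 LD2_c40 LD3_c18)) = (LP (LK LD1_c5 LD2_c44 LD3_c22)) :=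
  Lgr Lrot112 (Lpe (K31.f382016 IH) (Lpe (f563171 IH) (Lpr_gf (f563713 IH) (Lpe (K36.f539595 IH) (Lpr_dt (K38.f545575 IH) (Lpe (f548512 IH) (Lpr_df (f548501 IH) (Lpr_gf (f558425 IH) (Lpe (f558429 IH) (Lpr_dt (K39.f556126 IH) (Lpn (LP (LK LD1_c5 LD2_c44 LD3_c22)))))))))))))
theorem f557543 : Led Lsl_et (LP (LK LD1_c2 LD2_c44 LD3_c52)) = (LP (LK LD1_c5 LD2_c37 LD3_c57)) :=
  Lre_e IH (LK LD1_c2 LD2_c44 LD3_c52) (LK LD1_c5 LD2_c37 LD3_c57) Lrfl Lrfl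
theorem f422715 : Led Lsl_dt (LP (LK LD1_c2 LD2_c44 LD3_c52)) = (LP (LK LD1_c5 LD2_c37 LD3_c56)) :=
  Lre_d IH (LK LD1_c2 LD2_c44 LD3_c52) (LK LD1_c5 LD2_c37 LD3_c56) Lrfl Lrfl
theorem f563725 : Led Lsl_ef (LP (LK LD1_c2 LD2_c47 LD3_c37)) = (LP (LK LD1_c2 LD2_c47 LD3_c42)) :=
  Lgr Lrot167 (Lpr_gt (K30.f382011 IH) (Lpr_dt (K31.f382016 IH) (Lpr_gt (f563720 IH) (Lpe (K39.f556126 IH) (Lpr_et (f558429 IH) (Lpe (f558425 IH) (Lpe (f557543 IH) (Lpr_dt (f422715 IH) (Lpe (f561532 IH) (Lpe (f181476 IH) (Lpn (LP (LK LD1_c2 LD2_c47 LD3_c42)))))))))))))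
theorem f381959 : Led Lsl_gf (LP (LK LD1_c2 LD2_c47 LD3_c37)) = (LP (LK LD1_c2 LD2_c46 LD3_c8)) :=
  Lgr Lrot76 (Lpr_af (K27.f381783 IH) (Lpe (K27.f381812 IH) (Lpr_gt (K31.f381957 IH) (Lpn (LP (LK LD1_c2 LD2_c46 LD3_c8))))))
theorem f137178 : Led Lsl_ct (LP (LK LD1_c6 LD2_c0 LD3_c1)) = (LP (LK LD1_c2 LD2_c56 LD3_c20)) :=
  Lre_c IH (LK LD1_c6 LD2_c0 LD3_c1) (LK LD1_c2 LD2_c56 LD3_c20) Lrfl Lrfl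
theorem f109917 : Led Lsl_dt (LP (LK LD1_c3 LD2_c29 LD3_c60)) = (LP (LK LD1_c1 LD2_c41 LD3_c40)) :=
  Lre_d IH (LK LD1_c3 LD2_c29 LD3_c60) (LK LD1_c1 LD2_c41 LD3_c40) Lrfl Lrfl
theorem f501745 : Led Lsl_gt (LP (LK LD1_c2 LD2_c56 LD3_c20)) = (LP (LK LD1_c2 LD2_c51 LD3_c47)) :=
  Lgr Lrot94 (Lpe (f137178 IH) (Lpr_gt (K36.f501741 IH) (Lpr_dt (f109917 IH) (Lpr_gt (K28.f103772 IH) (Lpr_dt (K28.f426588 IH) (Lpe (K32.f426578 IH) (Lpe (K38.f426602 IH) (Lpe (f427306 IH) (Lpe (K6.f135922 IH) (Lpn (LP (LK LD1_c2 LD2_c51 LD3_c47))))))))))))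
theorem f496039 : Led Lsl_ef (LP (LK LD1_c1 LD2_c21 LD3_c0)) = K38.v1521 :=
  Lgr Lrot88 (Lpr_et (K38.f496036 IH) (Lpn K38.v1521))
theorem f496041 : Led Lsl_ct K38.v391 = K38.v1521 :=
  Lgr Lrot15 (Lpe (K38.f452601 IH) (Lpe (K5.f66378 IH) (Lpr_ef (f496039 IH) (Lpn K38.v1521))))
theorem f547775 : K38.v1521 = (LP (LK LD1_c2 LD2_c44 LD3_c56)) :=
  Lefun (Lecon (f496041 IH) (K38.f547758 IH)) (K39.f380450 IH)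
theorem f380452 : Led Lsl_dt (LP (LK LD1_c2 LD2_c44 LD3_c56)) = (LP (LK LD1_c5 LD2_c38 LD3_c1)) :=
  Lre_d IH (LK LD1_c2 LD2_c44 LD3_c56) (LK LD1_c5 LD2_c38 LD3_c1) Lrfl Lrfl
theorem f563731 : Led Lsl_gf (LP (LK LD1_c5 LD2_c38 LD3_c1)) = (LP (LK LD1_c5 LD2_c43 LD3_c21)) :=
  Lgr Lrot145 (Lpe (f380452 IH) (Lpq (f547775 IH) (Lpe (f496039 IH) (Lpr_gt (K8.f20562 IH) (Lpe (f501872 IH) (Lpr_gt (f501745 IH) (Lpe (K7.f136322 IH) (Lpr_et (K36.f500192 IH) (Lpqs (K36.f541384 IH) (Lpe (f381959 IH) (Lpr_ef (f563725 IH) (Lpr_dt (f181476 IH) (Lpn (LP (LK LD1_c5 LD2_c43 LD3_c21)))))))))))))))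
theorem f181524 : Led Lsl_bt (LP (LK LD1_c4 LD2_c57 LD3_c18)) = (LP (LK LD1_c2 LD2_c26 LD3_c35)) :=
  Lre_b IH (LK LD1_c4 LD2_c57 LD3_c18) (LK LD1_c2 LD2_c26 LD3_c35) Lrfl Lrfl
theorem f563735 : Led Lsl_bf (LP (LK LD1_c5 LD2_c38 LD3_c1)) = (LP (LK LD1_c2 LD2_c46 LD3_c55)) :=
  Lgr Lrot34 (Lpr_gf (f563731 IH) (Lpe (f381397 IH) (Lpr_ct (K39.f381396 IH) (Lpr_gf (K27.f381394 IH) (Lpe (K20.f164994 IH) (Lpe (K27.f381384 IH) (Lpe (f181524 IH) (Lpr_ct (K39.f181523 IH) (Lpr_gf (K31.f181504 IH) (Lpe (K31.f174141 IH) (Lpn (LP (LK LD1_c2 LD2_c46 LD3_c55)))))))))))))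
theorem f381837 : Led Lsl_dt (LP (LK LD1_c2 LD2_c47 LD3_c52)) = (LP (LK LD1_c1 LD2_c20 LD3_c12)) :=
  Lre_d IH (LK LD1_c2 LD2_c47 LD3_c52) (LK LD1_c1 LD2_c20 LD3_c12) Lrfl Lrfl
theorem f561428 : Led Lsl_gf (LP (LK LD1_c2 LD2_c47 LD3_c52)) = (LP (LK LD1_c5 LD2_c38 LD3_c1)) :=
  Lgr Lrot143 (Lpr_dt (f381837 IH) (Lpe (K27.f381955 IH) (Lpe (f381818 IH) (Lpr_gf (f561424 IH) (Lpe (f160999 IH) (Lpr_gf (f544923 IH) (Lpe (f382483 IH) (Lpr_gt (K39.f556134 IH) (Lpr_dt (f380452 IH) (Lpn (LP (LK LD1_c5 LD2_c38 LD3_c1))))))))))))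
theorem f381611 : Led Lsl_bt (LP (LK LD1_c1 LD2_c20 LD3_c14)) = (LP (LK LD1_c2 LD2_c47 LD3_c52)) :=
  Lre_b IH (LK LD1_c1 LD2_c20 LD3_c14) (LK LD1_c2 LD2_c47 LD3_c52) Lrfl Lrfl
theorem f562292 : Led Lsl_dt (LP (LK LD1_c5 LD2_c39 LD3_c57)) = (LP (LK LD1_c11 LD2_c10 LD3_c48)) :=
  Lre_d IH (LK LD1_c5 LD2_c39 LD3_c57) (LK LD1_c11 LD2_c10 LD3_c48) Lrfl Lrfl
theorem f383673 : Led Lsl_af (LP (LK LD1_c8 LD2_c25 LD3_c27)) = (LP (LK LD1_c5 LD2_c44 LD3_c24)) :=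
  Lgr Lrot45 (Lpr_ft (K27.f383453 IH) (Lpe (K27.f383602 IH) (Lpr_ft (K27.f383671 IH) (Lpn (LP (LK LD1_c5 LD2_c44 LD3_c24))))))
theorem f383681 : Led Lsl_gt (LP (LK LD1_c11 LD2_c17 LD3_c57)) = (LP (LK LD1_c11 LD2_c17 LD3_c3)) :=
  Lgr Lrot5 (Lpr_ft (K27.f383671 IH) (Lpe (f383673 IH) (Lpe (K32.f381169 IH) (Lpn (LP (LK LD1_c11 LD2_c17 LD3_c3))))))
theorem f562293 : Led Lsl_ct (LP (LK LD1_c11 LD2_c10 LD3_c48)) = (LP (LK LD1_c5 LD2_c43 LD3_c29)) :=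
  Lgr Lrot7 (Lpe (f562292 IH) (Lpr_gf (f562290 IH) (Lpr_df (K39.f552485 IH) (Lpe (K39.f495874 IH) (Lpe (K30.f382427 IH) (Lpr_gt (K27.f270641 IH) (Lpr_dt (K27.f381991 IH) (Lpr_gt (f383681 IH) (Lpr_dt (f381171 IH) (Lpn (LP (LK LD1_c5 LD2_c43 LD3_c29))))))))))))
theorem f563742 : Led Lsl_bt (LP (LK LD1_c11 LD2_c10 LD3_c48)) = (LP (LK LD1_c9 LD2_c45 LD3_c35)) :=
  Lgr Lrot130 (Lpr_ct (f562293 IH) (Lpe (K32.f381172 IH) (Lpe (K27.f381174 IH) (Lpr_bt (f381611 IH) (Lpr_gf (f561428 IH) (Lpr_bf (f563735 IH) (Lpr_ct (K31.f174141 IH) (Lpe (K39.f181514 IH) (Lpe (f561681 IH) (Lpr_gf (f561679 IH) (Lpn (LP (LK LD1_c9 LD2_c45 LD3_c35)))))))))))))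
theorem f563750 : Led Lsl_ff (LP (LK LD1_c11 LD2_c10 LD3_c48)) = (LP (LK LD1_c5 LD2_c47 LD3_c2)) :=
  Lgr Lrot25 (Lpr_bt (f563742 IH) (Lpe (f561675 IH) (Lpr_bt (K17.f73130 IH) (Lpn (LP (LK LD1_c5 LD2_c47 LD3_c2))))))
theorem f563753 : Led Lsl_ft (LP (LK LD1_c5 LD2_c39 LD3_c57)) = (LP (LK LD1_c2 LD2_c49 LD3_c23)) :=
  Lgr Lrot54 (Lpe (f562150 IH) (Lpr_ff (f563750 IH) (Lpe (K2.f72853 IH) (Lpn (LP (LK LD1_c2 LD2_c49 LD3_c23))))))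
theorem f73151 : Led Lsl_gt (LP (LK LD1_c2 LD2_c49 LD3_c27)) = (LP (LK LD1_c1 LD2_c20 LD3_c52)) :=
  Lre_g IH (LK LD1_c2 LD2_c49 LD3_c27) (LK LD1_c1 LD2_c20 LD3_c52) Lrfl Lrfl
theorem f563759 : Led Lsl_gt (LP (LK LD1_c5 LD2_c39 LD3_c57)) = (LP (LK LD1_c2 LD2_c49 LD3_c27)) :=
  Lgr Lrot5 (Lpr_ft (f563753 IH) (Lpr_at (K39.f72944 IH) (Lpe (f73151 IH) (Lpn (LP (LK LD1_c2 LD2_c49 LD3_c27))))))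
theorem f72509 : Led Lsl_et (LP (LK LD1_c2 LD2_c26 LD3_c43)) = (LP (LK LD1_c1 LD2_c10 LD3_c37)) :=
  Lre_e IH (LK LD1_c2 LD2_c26 LD3_c43) (LK LD1_c1 LD2_c10 LD3_c37) Lrfl Lrfl
theorem f562298 : Led Lsl_gt (LP (LK LD1_c11 LD2_c10 LD3_c48)) = (LP (LK LD1_c5 LD2_c47 LD3_c11)) :=
  Lgr Lrot139 (Lpe (f562292 IH) (Lpr_gf (f562290 IH) (Lpe (f72487 IH) (Lpe (f72488 IH) (Lpe (f72506 IH) (Lpe (f72507 IH) (Lpr_et (f72509 IH) (Lpr_gf (K35.f495248 IH) (Lpr_ef (K37.f542190 IH) (Lpe (K37.f542151 IH) (Lpn (LP (LK LD1_c5 LD2_c47 LD3_c11)))))))))))))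
theorem f174860 : Led Lsl_gt (LP (LK LD1_c2 LD2_c48 LD3_c14)) = (LP (LK LD1_c5 LD2_c44 LD3_c3)) :=
  Lre_g IH (LK LD1_c2 LD2_c48 LD3_c14) (LK LD1_c5 LD2_c44 LD3_c3) Lrfl Lrfl
theorem f383973 : Led Lsl_ct (LP (LK LD1_c5 LD2_c44 LD3_c3)) = (LP (LK LD1_c11 LD2_c6 LD3_c36)) :=
  Lgr Lrot110 (Lpe (f174860 IH) (Lpe (K27.f174521 IH) (Lpe (K27.f171855 IH) (Lpr_df (K27.f383963 IH) (Lpr_gt (K27.f178970 IH) (Lpe (K17.f211990 IH) (Lpr_gt (K32.f165144 IH) (Lpr_ct (K36.f165160 IH) (Lpe (K35.f383972 IH) (Lpn (LP (LK LD1_c11 LD2_c6 LD3_c36))))))))))))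
theorem f140402 : Led Lsl_gt (LP (LK LD1_c5 LD2_c44 LD3_c3)) = (LP (LK LD1_c2 LD2_c48 LD3_c1)) :=
  Lre_g IH (LK LD1_c5 LD2_c44 LD3_c3) (LK LD1_c2 LD2_c48 LD3_c1) Lrfl Lrfl
theorem f140401 : Led Lsl_dt (LP (LK LD1_c2 LD2_c48 LD3_c1)) = (LP (LK LD1_c5 LD2_c44 LD3_c5)) :=
  Lre_d IH (LK LD1_c2 LD2_c48 LD3_c1) (LK LD1_c5 LD2_c44 LD3_c5) Lrfl Lrfl
theorem f382457 : Led Lsl_dt (LP (LK LD1_c11 LD2_c18 LD3_c12)) = (LP (LK LD1_c11 LD2_c6 LD3_c27)) :=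
  Lgr Lrot6 (Lpr_gt (K39.f173387 IH) (Lpr_ct (K20.f270607 IH) (Lpe (K20.f270608 IH) (Lpr_ct (K20.f270600 IH) (Lpe (K39.f381581 IH) (Lpe (K27.f381651 IH) (Lpr_gf (K27.f382449 IH) (Lpe (K27.f211951 IH) (Lpe (K39.f211952 IH) (Lpn (LP (LK LD1_c11 LD2_c6 LD3_c27))))))))))))
theorem f542636 : Led Lsl_ct (LP (LK LD1_c5 LD2_c47 LD3_c11)) = (LP (LK LD1_c11 LD2_c6 LD3_c27)) :=
  Lgr Lrot7 (Lpr_df (K37.f542151 IH) (Lpe (K37.f424029 IH) (Lpe (K36.f381792 IH) (Lpr_gf (K36.f542634 IH) (Lpe (f383973 IH) (Lpr_gt (f140402 IH) (Lpr_dt (f140401 IH) (Lpr_gt (K20.f140405 IH) (Lpr_dt (f382457 IH) (Lpn (LP (LK LD1_c11 LD2_c6 LD3_c27))))))))))))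
theorem f563763 : Led Lsl_cf (LP (LK LD1_c4 LD2_c31 LD3_c4)) = (LP (LK LD1_c2 LD2_c49 LD3_c27)) :=
  Lgr Lrot169 (Lpr_gt (K28.f211953 IH) (Lpe (K17.f211844 IH) (Lpe (K17.f211950 IH) (Lpe (K27.f211951 IH) (Lpe (K39.f211952 IH) (Lpe (f542636 IH) (Lpe (f562298 IH) (Lpe (f562292 IH) (Lpr_gt (f563759 IH) (Lpn (LP (LK LD1_c2 LD2_c49 LD3_c27))))))))))))
theorem f563769 : Led Lsl_bf (LP (LK LD1_c4 LD2_c5 LD3_c52)) = (LP (LK LD1_c2 LD2_c49 LD3_c27)) :=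
  Lgr Lrot34 (Lpr_gf (K36.f541275 IH) (Lpe (K12.f179875 IH) (Lpr_ct (K9.f179874 IH) (Lpr_gf (K9.f179854 IH) (Lpe (K9.f172545 IH) (Lpr_gf (K12.f172673 IH) (Lpe (K17.f172677 IH) (Lpr_ct (K18.f211943 IH) (Lpe (K28.f211953 IH) (Lpr_cf (f563763 IH) (Lpn (LP (LK LD1_c2 LD2_c49 LD3_c27)))))))))))))
theorem f563773 : Led Lsl_et (LP (LK LD1_c4 LD2_c5 LD3_c49)) = (LP (LK LD1_c2 LD2_c49 LD3_c27)) :=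
  Lgr Lrot74 (Lpe (f541333 IH) (Lpe (K36.f60845 IH) (Lpr_bf (f563769 IH) (Lpn (LP (LK LD1_c2 LD2_c49 LD3_c27))))))
theorem f186709 : Led Lsl_dt (LP (LK LD1_c1 LD2_c13 LD3_c58)) = (LP (LK LD1_c2 LD2_c33 LD3_c60)) :=
  Lre_d IH (LK LD1_c1 LD2_c13 LD3_c58) (LK LD1_c2 LD2_c33 LD3_c60) Lrfl Lrfl
theorem f308061 : Led Lsl_gt (LP (LK LD1_c5 LD2_c14 LD3_c15)) = (LP (LK LD1_c2 LD2_c33 LD3_c60)) :=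
  Lre_g IH (LK LD1_c5 LD2_c14 LD3_c15) (LK LD1_c2 LD2_c33 LD3_c60) Lrfl Lrfl
theorem f563777 : Led Lsl_dt (LP (LK LD1_c4 LD2_c5 LD3_c49)) = (LP (LK LD1_c5 LD2_c14 LD3_c15)) :=
  Lgr Lrot136 (Lpr_et (f563773 IH) (Lpe (f563759 IH) (Lpr_ef (f562284 IH) (Lpr_dt (f55860 IH) (Lpe (f55841 IH) (Lpr_df (f559488 IH) (Lpr_gf (K37.f535995 IH) (Lpqs (K37.f537524 IH) (Lpe (K27.f308048 IH) (Lpr_dt (f186709 IH) (Lpe (f308061 IH) (Lpn (LP (LK LD1_c5 LD2_c14 LD3_c15))))))))))))))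
theorem f387151 : Led Lsl_ff (LP (LK LD1_c2 LD2_c27 LD3_c13)) = (LP (LK LD1_c2 LD2_c33 LD3_c59)) :=
  Lgr Lrot3 (Lpr_ft (K32.f387143 IH) (Lpn (LP (LK LD1_c2 LD2_c33 LD3_c59))))
theorem f308073 : Led Lsl_dt (LP (LK LD1_c5 LD2_c14 LD3_c12)) = (LP (LK LD1_c2 LD2_c33 LD3_c59)) :=
  Lre_d IH (LK LD1_c5 LD2_c14 LD3_c12) (LK LD1_c2 LD2_c33 LD3_c59) Lrfl Lrfl
theorem f387245 : Led Lsl_ft (LP (LK LD1_c4 LD2_c58 LD3_c47)) = (LP (LK LD1_c5 LD2_c14 LD3_c12)) :=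
  Lgr Lrot54 (Lpe (K39.f387070 IH) (Lpr_ff (f387151 IH) (Lpe (f308073 IH) (Lpn (LP (LK LD1_c5 LD2_c14 LD3_c12))))))
theorem f308438 : Led Lsl_at (LP (LK LD1_c5 LD2_c14 LD3_c12)) = (LP (LK LD1_c2 LD2_c33 LD3_c60)) :=
  Lre_a IH (LK LD1_c5 LD2_c14 LD3_c12) (LK LD1_c2 LD2_c33 LD3_c60) Lrfl Lrfl
theorem f387252 : Led Lsl_gt (LP (LK LD1_c4 LD2_c58 LD3_c47)) = (LP (LK LD1_c5 LD2_c14 LD3_c15)) :=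
  Lgr Lrot5 (Lpr_ft (f387245 IH) (Lpr_at (f308438 IH) (Lpe (f308061 IH) (Lpn (LP (LK LD1_c5 LD2_c14 LD3_c15))))))
theorem f563779 : Led Lsl_et (LP (LK LD1_c2 LD2_c27 LD3_c13)) = (LP (LK LD1_c4 LD2_c57 LD3_c24)) :=
  Lgr Lrot122 (Lpr_dt (K39.f387070 IH) (Lpr_gt (f387252 IH) (Lpe (f563777 IH) (Lpr_et (f563773 IH) (Lpr_gt (f73151 IH) (Lpr_dt (K37.f80035 IH) (Lpr_gt (K39.f172180 IH) (Lpr_df (f558310 IH) (Lpr_et (f558298 IH) (Lpe (f558302 IH) (Lpn (LP (LK LD1_c4 LD2_c57 LD3_c24)))))))))))))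
theorem f165691 : Led Lsl_bt (LP (LK LD1_c2 LD2_c30 LD3_c52)) = (LP (LK LD1_c1 LD2_c12 LD3_c28)) :=
  Lre_b IH (LK LD1_c2 LD2_c30 LD3_c52) (LK LD1_c1 LD2_c12 LD3_c28) Lrfl Lrfl
theorem f248848 : Led Lsl_bt (LP (LK LD1_c1 LD2_c13 LD3_c59)) = (LP (LK LD1_c2 LD2_c33 LD3_c60)) :=
  Lre_b IH (LK LD1_c1 LD2_c13 LD3_c59) (LK LD1_c2 LD2_c33 LD3_c60) Lrfl Lrfl
theorem f250205 : Led Lsl_ff (LP (LK LD1_c2 LD2_c30 LD3_c52)) = (LP (LK LD1_c2 LD2_c33 LD3_c60)) :=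
  Lgr Lrot25 (Lpr_bt (f165691 IH) (Lpr_ft (K14.f250202 IH) (Lpr_bt (f248848 IH) (Lpn (LP (LK LD1_c2 LD2_c33 LD3_c60))))))
theorem f387247 : Led Lsl_af (LP (LK LD1_c4 LD2_c58 LD3_c47)) = (LP (LK LD1_c2 LD2_c30 LD3_c52)) :=
  Lgr Lrot45 (Lpr_ft (f387245 IH) (Lpr_at (f308438 IH) (Lpe (f250205 IH) (Lpn (LP (LK LD1_c2 LD2_c30 LD3_c52))))))
theorem f248849 : Led Lsl_gt (LP (LK LD1_c2 LD2_c33 LD3_c60)) = (LP (LK LD1_c5 LD2_c14 LD3_c14)) :=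
  Lre_g IH (LK LD1_c2 LD2_c33 LD3_c60) (LK LD1_c5 LD2_c14 LD3_c14) Lrfl Lrfl
theorem f387282 : Led Lsl_gf (LP (LK LD1_c4 LD2_c58 LD3_c47)) = (LP (LK LD1_c5 LD2_c14 LD3_c14)) :=
  Lgr Lrot76 (Lpr_af (f387247 IH) (Lpr_ff (f250205 IH) (Lpr_gt (f248849 IH) (Lpn (LP (LK LD1_c5 LD2_c14 LD3_c14))))))
theorem f165065 : Led Lsl_et (LP (LK LD1_c1 LD2_c18 LD3_c41)) = (LP (LK LD1_c2 LD2_c24 LD3_c49)) :=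
  Lgr Lrot74 (Lpe (K35.f165064 IH) (Lpr_ef (K9.f165062 IH) (Lpe (K36.f53222 IH) (Lpn (LP (LK LD1_c2 LD2_c24 LD3_c49))))))
theorem f53228 : Led Lsl_gt (LP (LK LD1_c2 LD2_c24 LD3_c49)) = (LP (LK LD1_c4 LD2_c53 LD3_c51)) :=
  Lre_g IH (LK LD1_c2 LD2_c24 LD3_c49) (LK LD1_c4 LD2_c53 LD3_c51) Lrfl Lrfl
theorem f563787 : Led Lsl_df (LP (LK LD1_c5 LD2_c14 LD3_c14)) = (LP (LK LD1_c4 LD2_c53 LD3_c51)) :=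
  Lgr Lrot135 (Lpe (f387282 IH) (Lpe (K39.f387070 IH) (Lpr_et (f563779 IH) (Lpr_gt (f381403 IH) (Lpe (f381402 IH) (Lpr_dt (K36.f40177 IH) (Lpr_gt (K27.f381384 IH) (Lpe (K27.f165140 IH) (Lpr_et (f165065 IH) (Lpr_gt (f53228 IH) (Lpn (LP (LK LD1_c4 LD2_c53 LD3_c51)))))))))))))
theorem f176849 : Led Lsl_bt (LP (LK LD1_c2 LD2_c51 LD3_c2)) = (LP (LK LD1_c1 LD2_c21 LD3_c34)) :=
  Lre_b IH (LK LD1_c2 LD2_c51 LD3_c2) (LK LD1_c1 LD2_c21 LD3_c34) Lrfl Lrfl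
theorem f198355 : Led Lsl_cf (LP (LK LD1_c2 LD2_c51 LD3_c2)) = (LP (LK LD1_c3 LD2_c5 LD3_c45)) :=
  Lgr Lrot97 (Lpr_bt (f176849 IH) (Lpr_ct (K11.f176817 IH) (Lpr_bt (K11.f198351 IH) (Lpr_ct (K16.f172128 IH) (Lpr_bt (f186027 IH) (Lpn (LP (LK LD1_c3 LD2_c5 LD3_c45))))))))
theorem f418598 : Led Lsl_dt (LP (LK LD1_c4 LD2_c35 LD3_c9)) = (LP (LK LD1_c4 LD2_c31 LD3_c13)) :=
  Lgr Lrot79 (Lpe (f418597 IH) (Lpr_df (f418595 IH) (Lpe (K39.f211828 IH) (Lpn (LP (LK LD1_c4 LD2_c31 LD3_c13))))))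
theorem f418605 : Led Lsl_at (LP (LK LD1_c9 LD2_c7 LD3_c0)) = (LP (LK LD1_c4 LD2_c35 LD3_c9)) :=
  Lre_a IH (LK LD1_c9 LD2_c7 LD3_c0) (LK LD1_c4 LD2_c35 LD3_c9) Lrfl Lrfl
theorem f418606 : Led Lsl_df (LP (LK LD1_c9 LD2_c7 LD3_c0)) = (LP (LK LD1_c9 LD2_c0 LD3_c27)) :=
  Lgr Lrot18 (Lpr_at (f418605 IH) (Lpr_dt (f418598 IH) (Lpr_at (f211825 IH) (Lpn (LP (LK LD1_c9 LD2_c0 LD3_c27))))))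
theorem f418608 : Led Lsl_dt (LP (LK LD1_c9 LD2_c7 LD3_c0)) = (LP (LK LD1_c9 LD2_c0 LD3_c27)) :=
  Lgr Lrot42 (Lpr_df (f418606 IH) (Lpn (LP (LK LD1_c9 LD2_c0 LD3_c27))))
theorem f562536 : Led Lsl_gf (LP (LK LD1_c4 LD2_c59 LD3_c9)) = (LP (LK LD1_c9 LD2_c7 LD3_c0)) :=
  Lgr Lrot147 (Lpr_ct (f545761 IH) (Lpr_gt (f562401 IH) (Lpr_ct (f186118 IH) (Lpe (f421068 IH) (Lpr_cf (f198355 IH) (Lpe (f186452 IH) (Lpr_cf (f558367 IH) (Lpr_gf (f562532 IH) (Lpe (f418608 IH) (Lpn (LP (LK LD1_c9 LD2_c7 LD3_c0))))))))))))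
theorem f211823 : Led Lsl_ef (LP (LK LD1_c4 LD2_c31 LD3_c13)) = (LP (LK LD1_c6 LD2_c4 LD3_c10)) :=
  Lgr Lrot88 (Lpr_et (K39.f211816 IH) (Lpn (LP (LK LD1_c6 LD2_c4 LD3_c10))))
theorem f211826 : Led Lsl_et (LP (LK LD1_c9 LD2_c0 LD3_c27)) = (LP (LK LD1_c11 LD2_c51 LD3_c53)) :=
  Lgr Lrot123 (Lpe (f211825 IH) (Lpr_ef (f211823 IH) (Lpe (K39.f26709 IH) (Lpn (LP (LK LD1_c11 LD2_c51 LD3_c53))))))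
theorem f563795 : Led Lsl_ef (LP (LK LD1_c6 LD2_c17 LD3_c12)) = (LP (LK LD1_c4 LD2_c53 LD3_c51)) :=
  Lgr Lrot114 (Lpr_gt (f450409 IH) (Lpe (f211826 IH) (Lpe (f418606 IH) (Lpe (f562536 IH) (Lpe (f387204 IH) (Lpr_et (K38.f387208 IH) (Lpr_gt (K32.f186693 IH) (Lpr_dt (f186709 IH) (Lpr_gt (f248849 IH) (Lpr_df (f563787 IH) (Lpn (LP (LK LD1_c4 LD2_c53 LD3_c51)))))))))))))
theorem f75517 : Led Lsl_dt (LP (LK LD1_c2 LD2_c26 LD3_c36)) = (LP (LK LD1_c4 LD2_c57 LD3_c25)) :=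
  Lre_d IH (LK LD1_c2 LD2_c26 LD3_c36) (LK LD1_c4 LD2_c57 LD3_c25) Lrfl Lrfl
theorem f563802 : Led Lsl_gf (LP (LK LD1_c3 LD2_c5 LD3_c44)) = (LP (LK LD1_c4 LD2_c57 LD3_c25)) :=
  Lgr Lrot134 (Lpe (f421027 IH) (Lpr_et (f421029 IH) (Lpr_gt (f186028 IH) (Lpr_ef (f563795 IH) (Lpe (f563787 IH) (Lpe (f387282 IH) (Lpe (K39.f387070 IH) (Lpr_et (f563779 IH) (Lpr_gt (f381403 IH) (Lpr_dt (f75517 IH) (Lpn (LP (LK LD1_c4 LD2_c57 LD3_c25)))))))))))))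
theorem f563806 : Led Lsl_ct (LP (LK LD1_c8 LD2_c48 LD3_c58)) = (LP (LK LD1_c4 LD2_c57 LD3_c25)) :=
  Lgr Lrot8 (Lpr_gt (K39.f149424 IH) (Lpr_dt (K39.f149423 IH) (Lpr_gt (K8.f149414 IH) (Lpr_dt (K38.f138775 IH) (Lpr_cf (f541832 IH) (Lpe (K8.f56025 IH) (Lpq (K38.f548772 IH) (Lpe (K38.f503210 IH) (Lpe (K37.f421031 IH) (Lpr_gf (f563802 IH) (Lpn (LP (LK LD1_c4 LD2_c57 LD3_c25)))))))))))))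
theorem f450004 : Led Lsl_bt (LP (LK LD1_c1 LD2_c21 LD3_c33)) = (LP (LK LD1_c2 LD2_c51 LD3_c1)) :=
  Lre_b IH (LK LD1_c1 LD2_c21 LD3_c33) (LK LD1_c2 LD2_c51 LD3_c1) Lrfl Lrfl
def v1485 : LQ := Led Lsl_ct (LP (LK LD1_c1 LD2_c19 LD3_c45))
theorem f495808 : Led Lsl_ct (LP (LK LD1_c1 LD2_c19 LD3_c45)) = v1485 :=
  Lrfl
theorem f450154 : Led Lsl_at (LP (LK LD1_c0 LD2_c41 LD3_c5)) = (LP (LK LD1_c0 LD2_c37 LD3_c32)) :=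
  Lgr Lrot100 (Lpr_af (K37.f450141 IH) (Lpn (LP (LK LD1_c0 LD2_c37 LD3_c32))))
theorem f452226 : Led Lsl_gt (LP (LK LD1_c0 LD2_c37 LD3_c31)) = K36.v335 :=
  Lgr Lrot5 (Lpe (f449090 IH) (Lpr_at (f450154 IH) (Lpr_gf (K38.f452225 IH) (Lpn K36.v335))))
theorem f452219 : Led Lsl_cf (LP (LK LD1_c0 LD2_c29 LD3_c17)) = K36.v335 :=
  Lgr Lrot108 (Lpr_ft (K6.f146285 IH) (Lpr_ct (K11.f20775 IH) (Lpr_ft (K36.f452217 IH) (Lpn K36.v335))))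
theorem f495810 : Led Lsl_gf (LP (LK LD1_c2 LD2_c51 LD3_c3)) = v1485 :=
  Lgr Lrot104 (Lpr_ct (K38.f146335 IH) (Lpe (K11.f146336 IH) (Lpe (K11.f146333 IH) (Lpe (K9.f146327 IH) (Lpr_cf (f452219 IH) (Lpe (f452226 IH) (Lpe (K24.f61334 IH) (Lpr_gt (K12.f171780 IH) (Lpr_ct (f495808 IH) (Lpn v1485))))))))))
theorem f380083 : Led Lsl_bt (LP (LK LD1_c1 LD2_c19 LD3_c45)) = (LP (LK LD1_c2 LD2_c46 LD3_c35)) :=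
  Lre_b IH (LK LD1_c1 LD2_c19 LD3_c45) (LK LD1_c2 LD2_c46 LD3_c35) Lrfl Lrfl
theorem f177118 : Led Lsl_dt (LP (LK LD1_c1 LD2_c19 LD3_c45)) = (LP (LK LD1_c0 LD2_c36 LD3_c54)) :=
  Lre_d IH (LK LD1_c1 LD2_c19 LD3_c45) (LK LD1_c0 LD2_c36 LD3_c54) Lrfl Lrfl
theorem f495817 : Led Lsl_dt K36.v385 = K39.v1486 :=
  Lgr Lrot60 (Lpe (K36.f452552 IH) (Lpe (f177118 IH) (Lpr_ff (K39.f495815 IH) (Lpn K39.v1486))))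
theorem f452545 : Led Lsl_dt (LP (LK LD1_c1 LD2_c19 LD3_c42)) = (LP (LK LD1_c2 LD2_c46 LD3_c35)) :=
  Lre_d IH (LK LD1_c1 LD2_c19 LD3_c42) (LK LD1_c2 LD2_c46 LD3_c35) Lrfl Lrfl
theorem f537003 : K39.v1486 = (LP (LK LD1_c2 LD2_c46 LD3_c35)) :=
  Lefun (Lecon (f495817 IH) ((K36.f536818 IH).symm.trans (K36.f536719 IH).symm)) (f452545 IH)
theorem f450134 : Led Lsl_af (LP (LK LD1_c1 LD2_c28 LD3_c56)) = (LP (LK LD1_c1 LD2_c21 LD3_c21)) :=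
  Lgr Lrot0 (Lpr_at (K37.f450132 IH) (Lpn (LP (LK LD1_c1 LD2_c21 LD3_c21))))
theorem f450179 : Led Lsl_af (LP (LK LD1_c1 LD2_c28 LD3_c52)) = (LP (LK LD1_c1 LD2_c21 LD3_c19)) :=
  Lgr Lrot45 (Lpr_ft (K37.f450177 IH) (Lpe (f450134 IH) (Lpr_ft (K37.f450120 IH) (Lpn (LP (LK LD1_c1 LD2_c21 LD3_c19))))))
theorem f495819 : Led Lsl_gt (LP (LK LD1_c1 LD2_c28 LD3_c56)) = K39.v1486 :=
  Lgr Lrot5 (Lpr_ft (K37.f450120 IH) (Lpe (f450179 IH) (Lpr_gf (K39.f495818 IH) (Lpn K39.v1486))))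
theorem f557443 : Led Lsl_cf (LP (LK LD1_c4 LD2_c0 LD3_c42)) = (LP (LK LD1_c3 LD2_c5 LD3_c44)) :=
  Lgr Lrot163 (Lpr_gf (K39.f94964 IH) (Lpr_cf (K36.f541772 IH) (Lpr_gf (f557441 IH) (Lpe (f450004 IH) (Lpr_ct (f176854 IH) (Lpr_gf (f495810 IH) (Lpe (f495808 IH) (Lpr_bt (f380083 IH) (Lpq (f537003 IH) (Lpe (f495819 IH) (Lpe (K37.f186039 IH) (Lpn (LP (LK LD1_c3 LD2_c5 LD3_c44))))))))))))))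
theorem f563812 : Led Lsl_gt (LP (LK LD1_c11 LD2_c28 LD3_c14)) = (LP (LK LD1_c8 LD2_c48 LD3_c58)) :=
  Lgr Lrot9 (Lpe (f558266 IH) (Lpr_gt (K8.f158247 IH) (Lpe (K28.f158256 IH) (Lpe (K28.f203287 IH) (Lpr_ct (K8.f29487 IH) (Lpe (K39.f29488 IH) (Lpr_cf (f557443 IH) (Lpr_gf (f563802 IH) (Lpe (f563806 IH) (Lpn (LP (LK LD1_c8 LD2_c48 LD3_c58))))))))))))
theorem f563814 : Led Lsl_bt (LP (LK LD1_c6 LD2_c25 LD3_c3)) = (LP (LK LD1_c11 LD2_c28 LD3_c14)) :=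
  Lgr Lrot130 (Lpe (K8.f161805 IH) (Lpe (K6.f119724 IH) (Lpe (K8.f119705 IH) (Lpr_bt (K8.f119717 IH) (Lpe (f138570 IH) (Lpe (K8.f69424 IH) (Lpe (f558262 IH) (Lpr_gf (f563802 IH) (Lpe (f563806 IH) (Lpe (f563812 IH) (Lpn (LP (LK LD1_c11 LD2_c28 LD3_c14)))))))))))))
theorem f495845 : Led Lsl_ct (LP (LK LD1_c5 LD2_c43 LD3_c0)) = (LP (LK LD1_c11 LD2_c16 LD3_c18)) :=
  Lre_c IH (LK LD1_c5 LD2_c43 LD3_c0) (LK LD1_c11 LD2_c16 LD3_c18) Lrfl Lrfl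
theorem f563836 : Led Lsl_bf (LP (LK LD1_c11 LD2_c37 LD3_c31)) = (LP (LK LD1_c11 LD2_c16 LD3_c18)) :=
  Lgr Lrot90 (Lpr_ct (K8.f161809 IH) (Lpr_bt (f563814 IH) (Lpr_ct (f421062 IH) (Lpe (f558272 IH) (Lpr_ct (f495845 IH) (Lpn (LP (LK LD1_c11 LD2_c16 LD3_c18))))))))
theorem f563838 : Led Lsl_bt (LP (LK LD1_c11 LD2_c37 LD3_c31)) = (LP (LK LD1_c11 LD2_c16 LD3_c18)) :=
  Lgr Lrot127 (Lpr_bf (f563836 IH) (Lpn (LP (LK LD1_c11 LD2_c16 LD3_c18))))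
theorem f210793 : Led Lsl_bt (LP (LK LD1_c12 LD2_c11 LD3_c0)) = (LP (LK LD1_c6 LD2_c17 LD3_c10)) :=
  Lre_b IH (LK LD1_c12 LD2_c11 LD3_c0) (LK LD1_c6 LD2_c17 LD3_c10) Lrfl Lrfl
theorem f179925 : Led Lsl_ct (LP (LK LD1_c2 LD2_c50 LD3_c59)) = (LP (LK LD1_c5 LD2_c49 LD3_c43)) :=
  Lre_c IH (LK LD1_c2 LD2_c50 LD3_c59) (LK LD1_c5 LD2_c49 LD3_c43) Lrfl Lrfl
theorem f179926 : Led Lsl_gt (LP (LK LD1_c11 LD2_c28 LD3_c7)) = (LP (LK LD1_c5 LD2_c49 LD3_c43)) :=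
  Lre_g IH (LK LD1_c11 LD2_c28 LD3_c7) (LK LD1_c5 LD2_c49 LD3_c43) Lrfl Lrfl
theorem f210794 : Led Lsl_ct (LP (LK LD1_c12 LD2_c11 LD3_c0)) = (LP (LK LD1_c11 LD2_c28 LD3_c7)) :=
  Lgr Lrot64 (Lpr_bt (f210793 IH) (Lpe (f210790 IH) (Lpe (f210789 IH) (Lpr_ct (f186035 IH) (Lpr_gf (K36.f210782 IH) (Lpe (K30.f172701 IH) (Lpe (K14.f179920 IH) (Lpe (K37.f179922 IH) (Lpr_ct (f179925 IH) (Lpe (f179926 IH) (Lpn (LP (LK LD1_c11 LD2_c28 LD3_c7)))))))))))))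
theorem f210799 : Led Lsl_cf (LP (LK LD1_c12 LD2_c11 LD3_c0)) = (LP (LK LD1_c11 LD2_c28 LD3_c7)) :=
  Lgr Lrot11 (Lpr_ct (f210794 IH) (Lpn (LP (LK LD1_c11 LD2_c28 LD3_c7))))
theorem f558282 : Led Lsl_bf (LP (LK LD1_c11 LD2_c28 LD3_c7)) = (LP (LK LD1_c8 LD2_c48 LD3_c17)) :=
  Lgr Lrot90 (Lpe (f210799 IH) (Lpr_bt (f210793 IH) (Lpr_ct (f558280 IH) (Lpr_bt (f38249 IH) (Lpr_ct (f137580 IH) (Lpn (LP (LK LD1_c8 LD2_c48 LD3_c17))))))))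
theorem f563844 : Led Lsl_gf (LP (LK LD1_c11 LD2_c28 LD3_c7)) = (LP (LK LD1_c11 LD2_c16 LD3_c18)) :=
  Lgr Lrot124 (Lpr_bf (f558282 IH) (Lpr_ct (K28.f70383 IH) (Lpr_gt (K28.f38248 IH) (Lpe (K4.f38233 IH) (Lpr_bt (K6.f70374 IH) (Lpe (K4.f117670 IH) (Lpr_ct (K4.f116790 IH) (Lpr_gt (K8.f117678 IH) (Lpe (K8.f161809 IH) (Lpr_bt (f563838 IH) (Lpn (LP (LK LD1_c11 LD2_c16 LD3_c18)))))))))))))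
theorem f547060 : Led Lsl_ct (LP (LK LD1_c5 LD2_c49 LD3_c39)) = (LP (LK LD1_c3 LD2_c48 LD3_c21)) :=
  Lgr Lrot59 (Lpr_cf (K38.f547056 IH) (Lpn (LP (LK LD1_c3 LD2_c48 LD3_c21))))
theorem f558278 : Led Lsl_dt (LP (LK LD1_c5 LD2_c43 LD3_c0)) = (LP (LK LD1_c4 LD2_c34 LD3_c15)) :=
  Lgr Lrot79 (Lpr_bf (f558272 IH) (Lpe (f421065 IH) (Lpr_bf (f450483 IH) (Lpn (LP (LK LD1_c4 LD2_c34 LD3_c15))))))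
theorem f495846 : Led Lsl_ct (LP (LK LD1_c11 LD2_c16 LD3_c18)) = (LP (LK LD1_c5 LD2_c43 LD3_c0)) :=
  Lre_c IH (LK LD1_c11 LD2_c16 LD3_c18) (LK LD1_c5 LD2_c43 LD3_c0) Lrfl Lrfl
theorem f562676 : Led Lsl_dt (LP (LK LD1_c11 LD2_c40 LD3_c38)) = (LP (LK LD1_c11 LD2_c16 LD3_c18)) :=
  Lgr Lrot140 (Lpe (K37.f162973 IH) (Lpe (K8.f127431 IH) (Lpe (f547060 IH) (Lpe (K37.f449967 IH) (Lpe (K37.f449976 IH) (Lpe (f562660 IH) (Lpr_cf (f562672 IH) (Lpe (f558278 IH) (Lpe (f495846 IH) (Lpn (LP (LK LD1_c11 LD2_c16 LD3_c18))))))))))))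
theorem f209740 : Led Lsl_gt (LP (LK LD1_c6 LD2_c55 LD3_c59)) = (LP (LK LD1_c4 LD2_c44 LD3_c10)) :=
  Lgr Lrot9 (Lpr_df (K37.f209736 IH) (Lpr_gt (K38.f116637 IH) (Lpe (K7.f109565 IH) (Lpe (K7.f136752 IH) (Lpr_ct (K7.f17903 IH) (Lpr_df (K4.f89577 IH) (Lpe (K4.f111853 IH) (Lpe (K37.f111879 IH) (Lpe (K4.f111874 IH) (Lpn (LP (LK LD1_c4 LD2_c44 LD3_c10))))))))))))
theorem f501578 : Led Lsl_ct (LP (LK LD1_c9 LD2_c49 LD3_c43)) = (LP (LK LD1_c6 LD2_c32 LD3_c53)) :=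
  Lgr Lrot111 (Lpe (K39.f136433 IH) (Lpe (K32.f136407 IH) (Lpr_af (K36.f501574 IH) (Lpn (LP (LK LD1_c6 LD2_c32 LD3_c53))))))
theorem f563848 : Led Lsl_dt (LP (LK LD1_c11 LD2_c28 LD3_c7)) = (LP (LK LD1_c9 LD2_c49 LD3_c43)) :=
  Lgr Lrot105 (Lpr_gf (f563844 IH) (Lpe (f562676 IH) (Lpe (K8.f72807 IH) (Lpe (K37.f209732 IH) (Lpr_gt (f209740 IH) (Lpr_dt (K5.f127257 IH) (Lpe (K3.f97869 IH) (Lpe (K36.f428975 IH) (Lpe (f501578 IH) (Lpn (LP (LK LD1_c9 LD2_c49 LD3_c43))))))))))))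
theorem f424995 : Led Lsl_ct (LP (LK LD1_c9 LD2_c49 LD3_c41)) = (LP (LK LD1_c13 LD2_c17 LD3_c22)) :=
  Lgr Lrot59 (Lpr_cf (f162906 IH) (Lpn (LP (LK LD1_c13 LD2_c17 LD3_c22))))
theorem f497756 : Led Lsl_ff (LP (LK LD1_c9 LD2_c49 LD3_c41)) = (LP (LK LD1_c14 LD2_c12 LD3_c25)) :=
  Lgr Lrot23 (Lpr_ct (f424995 IH) (Lpr_ft (K32.f497752 IH) (Lpr_ct (K32.f419812 IH) (Lpn (LP (LK LD1_c14 LD2_c12 LD3_c25))))))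
theorem f497772 : Led Lsl_at (LP (LK LD1_c9 LD2_c49 LD3_c41)) = (LP (LK LD1_c14 LD2_c12 LD3_c22)) :=
  Lgr Lrot66 (Lpr_ff (f497756 IH) (Lpe (K39.f497762 IH) (Lpr_ff (K39.f497770 IH) (Lpn (LP (LK LD1_c14 LD2_c12 LD3_c22))))))
theorem f502116 : Led Lsl_gt (LP (LK LD1_c9 LD2_c49 LD3_c43)) = (LP (LK LD1_c14 LD2_c12 LD3_c22)) :=
  Lgr Lrot46 (Lpr_gf (K39.f502114 IH) (Lpe (f497756 IH) (Lpr_at (f497772 IH) (Lpn (LP (LK LD1_c14 LD2_c12 LD3_c22))))))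
theorem f301973 : Led Lsl_ct (LP (LK LD1_c4 LD2_c41 LD3_c28)) = (LP (LK LD1_c9 LD2_c17 LD3_c51)) :=
  Lre_c IH (LK LD1_c4 LD2_c41 LD3_c28) (LK LD1_c9 LD2_c17 LD3_c51) Lrfl Lrfl
theorem f563850 : Led Lsl_dt (LP (LK LD1_c14 LD2_c12 LD3_c22)) = (LP (LK LD1_c9 LD2_c17 LD3_c51)) :=
  Lgr Lrot113 (Lpe (f502116 IH) (Lpe (f563848 IH) (Lpr_gf (f563844 IH) (Lpr_ct (f495846 IH) (Lpr_gt (f172840 IH) (Lpr_dt (K38.f172839 IH) (Lpr_gt (K38.f495844 IH) (Lpq (K38.f546908 IH) (Lpr_dt (K38.f549492 IH) (Lpr_ct (f301973 IH) (Lpn (LP (LK LD1_c9 LD2_c17 LD3_c51)))))))))))))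
theorem f94631 : Led Lsl_bt (LP (LK LD1_c7 LD2_c1 LD3_c33)) = (LP (LK LD1_c3 LD2_c29 LD3_c58)) :=
  Lre_b IH (LK LD1_c7 LD2_c1 LD3_c33) (LK LD1_c3 LD2_c29 LD3_c58) Lrfl Lrfl
theorem f426860 : Led Lsl_ff (LP (LK LD1_c7 LD2_c1 LD3_c33)) = (LP (LK LD1_c6 LD2_c51 LD3_c51)) :=
  Lgr Lrot25 (Lpr_bt (f94631 IH) (Lpr_ft (K37.f426856 IH) (Lpe (K37.f136947 IH) (Lpn (LP (LK LD1_c6 LD2_c51 LD3_c51))))))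
theorem f427065 : Led Lsl_df (LP (LK LD1_c6 LD2_c33 LD3_c23)) = (LP (LK LD1_c7 LD2_c1 LD3_c33)) :=
  Lgr Lrot78 (Lpr_ft (K37.f427057 IH) (Lpr_dt (K37.f209738 IH) (Lpe (f426860 IH) (Lpn (LP (LK LD1_c7 LD2_c1 LD3_c33))))))
theorem f427067 : Led Lsl_ff (LP (LK LD1_c6 LD2_c33 LD3_c23)) = (LP (LK LD1_c6 LD2_c55 LD3_c59)) :=
  Lgr Lrot3 (Lpr_ft (K37.f427057 IH) (Lpn (LP (LK LD1_c6 LD2_c55 LD3_c59))))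
theorem f427073 : Led Lsl_ct (LP (LK LD1_c6 LD2_c33 LD3_c23)) = (LP (LK LD1_c11 LD2_c30 LD3_c30)) :=
  Lgr Lrot40 (Lpr_ff (f427067 IH) (Lpr_cf (K37.f209728 IH) (Lpr_ff (K37.f426900 IH) (Lpn (LP (LK LD1_c11 LD2_c30 LD3_c30))))))
theorem f301974 : Led Lsl_gt (LP (LK LD1_c9 LD2_c17 LD3_c51)) = (LP (LK LD1_c17 LD2_c12 LD3_c54)) :=
  Lre_g IH (LK LD1_c9 LD2_c17 LD3_c51) (LK LD1_c17 LD2_c12 LD3_c54) Lrfl Lrfl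
theorem f563857 : Led Lsl_df (LP (LK LD1_c11 LD2_c30 LD3_c30)) = (LP (LK LD1_c17 LD2_c12 LD3_c54)) :=
  Lgr Lrot84 (Lpe (f427073 IH) (Lpr_df (f427065 IH) (Lpr_gf (K36.f137191 IH) (Lpr_df (K38.f94895 IH) (Lpe (K36.f428978 IH) (Lpe (f501578 IH) (Lpr_gt (f502116 IH) (Lpr_dt (f563850 IH) (Lpr_gt (f301974 IH) (Lpn (LP (LK LD1_c17 LD2_c12 LD3_c54))))))))))))
theorem f36572 : Led Lsl_at (LP (LK LD1_c2 LD2_c17 LD3_c47)) = (LP (LK LD1_c1 LD2_c5 LD3_c50)) :=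
  Lre_a IH (LK LD1_c2 LD2_c17 LD3_c47) (LK LD1_c1 LD2_c5 LD3_c50) Lrfl Lrfl
theorem f26878 : Led Lsl_gt (LP (LK LD1_c2 LD2_c17 LD3_c48)) = (LP (LK LD1_c1 LD2_c5 LD3_c50)) :=
  Lre_g IH (LK LD1_c2 LD2_c17 LD3_c48) (LK LD1_c1 LD2_c5 LD3_c50) Lrfl Lrfl
theorem f538126 : Led Lsl_gt (LP (LK LD1_c2 LD2_c17 LD3_c1)) = (LP (LK LD1_c2 LD2_c17 LD3_c48)) :=
  Lgr Lrot5 (Lpr_ft (K35.f538120 IH) (Lpr_at (f36572 IH) (Lpe (f26878 IH) (Lpn (LP (LK LD1_c2 LD2_c17 LD3_c48))))))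
theorem f36578 : Led Lsl_dt (LP (LK LD1_c2 LD2_c17 LD3_c48)) = (LP (LK LD1_c4 LD2_c41 LD3_c26)) :=
  Lre_d IH (LK LD1_c2 LD2_c17 LD3_c48) (LK LD1_c4 LD2_c41 LD3_c26) Lrfl Lrfl
theorem f538128 : Led Lsl_ct (LP (LK LD1_c9 LD2_c17 LD3_c50)) = (LP (LK LD1_c4 LD2_c41 LD3_c26)) :=
  Lre_c IH (LK LD1_c9 LD2_c17 LD3_c50) (LK LD1_c4 LD2_c41 LD3_c26) Lrfl Lrfl
theorem f563869 : Led Lsl_dt (LP (LK LD1_c14 LD2_c12 LD3_c31)) = (LP (LK LD1_c9 LD2_c17 LD3_c50)) :=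
  Lgr Lrot105 (Lpe (K37.f426118 IH) (Lpr_df (f563857 IH) (Lpe (f301974 IH) (Lpe (f301973 IH) (Lpe (K38.f549504 IH) (Lpr_dt (K35.f80180 IH) (Lpr_gt (f538126 IH) (Lpr_dt (f36578 IH) (Lpe (f538128 IH) (Lpn (LP (LK LD1_c9 LD2_c17 LD3_c50))))))))))))
theorem f75555 : Led Lsl_gt (LP (LK LD1_c5 LD2_c43 LD3_c55)) = (LP (LK LD1_c2 LD2_c47 LD3_c59)) :=
  Lre_g IH (LK LD1_c5 LD2_c43 LD3_c55) (LK LD1_c2 LD2_c47 LD3_c59) Lrfl Lrfl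
theorem f563882 : Led Lsl_bf (LP (LK LD1_c5 LD2_c43 LD3_c55)) = (LP (LK LD1_c4 LD2_c41 LD3_c26)) :=
  Lgr Lrot184 (Lpr_gt (f75555 IH) (Lpr_dt (K36.f75561 IH) (Lpr_ct (K36.f75562 IH) (Lpe (K36.f381924 IH) (Lpe (K36.f539660 IH) (Lpr_dt (K36.f428109 IH) (Lpe (f541802 IH) (Lpr_bt (K36.f499024 IH) (Lpr_gt (K36.f420045 IH) (Lpr_dt (K36.f69455 IH) (Lpr_ct (K6.f69440 IH) (Lpr_bt (K8.f69454 IH) (Lpe (K24.f426059 IH) (Lpr_dt (K28.f426030 IH) (Lpr_ct (K28.f426069 IH) (Lpr_bt (K37.f139333 IH) (Lpr_gt (K37.f426118 IH) (Lpr_dt (f563869 IH) (Lpr_ct (f538128 IH) (Lpn (LP (LK LD1_c4 LD2_c41 LD3_c26))))))))))))))))))))))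
theorem f563173 : Led Lsl_ff (LP (LK LD1_c2 LD2_c55 LD3_c48)) = (LP (LK LD1_c2 LD2_c51 LD3_c44)) :=
  Lgr Lrot3 (Lpr_ft (f563163 IH) (Lpn (LP (LK LD1_c2 LD2_c51 LD3_c44))))
theorem f423267 : Led Lsl_af (LP (LK LD1_c2 LD2_c12 LD3_c61)) = (LP (LK LD1_c1 LD2_c19 LD3_c25)) :=
  Lgr Lrot117 (Lpe (K31.f174826 IH) (Lpr_at (K31.f422995 IH) (Lpr_dt (K31.f423256 IH) (Lpn (LP (LK LD1_c1 LD2_c19 LD3_c25))))))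
theorem f495717 : Led Lsl_at (LP (LK LD1_c4 LD2_c31 LD3_c58)) = K36.v1467 :=
  Lgr Lrot80 (Lpe (K36.f174829 IH) (Lpr_af (f423267 IH) (Lpr_ef (K38.f495716 IH) (Lpn K36.v1467))))
theorem f563157 : Led Lsl_at (LP (LK LD1_c2 LD2_c55 LD3_c48)) = (LP (LK LD1_c5 LD2_c41 LD3_c19)) :=
  Lgr Lrot107 (Lpr_cf (f563139 IH) (Lpqs (K35.f541444 IH) (Lpq (K35.f541444 IH) (Lpq (K38.f548135 IH) (Lpe (f495717 IH) (Lpe (K37.f181541 IH) (Lpn (LP (LK LD1_c5 LD2_c41 LD3_c19)))))))))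
theorem f563177 : Led Lsl_gf (LP (LK LD1_c5 LD2_c41 LD3_c19)) = (LP (LK LD1_c2 LD2_c55 LD3_c50)) :=
  Lgr Lrot76 (Lpe (f563157 IH) (Lpr_ff (f563173 IH) (Lpr_gt (f539933 IH) (Lpn (LP (LK LD1_c2 LD2_c55 LD3_c50))))))
theorem f181540 : Led Lsl_ct (LP (LK LD1_c2 LD2_c46 LD3_c45)) = (LP (LK LD1_c5 LD2_c41 LD3_c22)) :=
  Lre_c IH (LK LD1_c2 LD2_c46 LD3_c45) (LK LD1_c5 LD2_c41 LD3_c22) Lrfl Lrfl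
theorem f386837 : Led Lsl_bt (LP (LK LD1_c1 LD2_c23 LD3_c58)) = (LP (LK LD1_c2 LD2_c55 LD3_c50)) :=
  Lre_b IH (LK LD1_c1 LD2_c23 LD3_c58) (LK LD1_c2 LD2_c55 LD3_c50) Lrfl Lrfl
theorem f101711 : Led Lsl_bf (LP (LK LD1_c2 LD2_c27 LD3_c23)) = (LP (LK LD1_c3 LD2_c3 LD3_c24)) :=
  Lgr Lrot24 (Lpr_bt (K6.f99531 IH) (Lpn (LP (LK LD1_c3 LD2_c3 LD3_c24))))
theorem f563181 : Led Lsl_gt (LP (LK LD1_c5 LD2_c41 LD3_c22)) = (LP (LK LD1_c6 LD2_c13 LD3_c15)) :=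
  Lgr Lrot65 (Lpe (f181540 IH) (Lpr_bt (K38.f181545 IH) (Lpr_gf (f563177 IH) (Lpe (f386837 IH) (Lpr_ct (K36.f500729 IH) (Lpqs (K36.f539220 IH) (Lpe (K36.f9394 IH) (Lpe (K31.f176570 IH) (Lpr_gf (K36.f495287 IH) (Lpqs (K36.f539786 IH) (Lpr_bf (f101711 IH) (Lpr_ct (K6.f101716 IH) (Lpn (LP (LK LD1_c6 LD2_c13 LD3_c15)))))))))))))))
theorem f181509 : Led Lsl_et (LP (LK LD1_c5 LD2_c41 LD3_c22)) = (LP (LK LD1_c2 LD2_c46 LD3_c43)) :=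
  Lre_e IH (LK LD1_c5 LD2_c41 LD3_c22) (LK LD1_c2 LD2_c46 LD3_c43) Lrfl Lrfl
theorem f553421 : Led Lsl_bt (LP (LK LD1_c2 LD2_c54 LD3_c31)) = (LP (LK LD1_c5 LD2_c41 LD3_c22)) :=
  Lgr Lrot119 (Lpr_ef (K39.f553419 IH) (Lpe (K10.f181549 IH) (Lpe (f181509 IH) (Lpn (LP (LK LD1_c5 LD2_c41 LD3_c22))))))
theorem f100430 : Led Lsl_bt (LP (LK LD1_c2 LD2_c10 LD3_c10)) = (LP (LK LD1_c3 LD2_c3 LD3_c16)) :=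
  Lgr Lrot35 (Lpe (K8.f100429 IH) (Lpr_bf (K7.f37865 IH) (Lpr_ff (K5.f100426 IH) (Lpn (LP (LK LD1_c3 LD2_c3 LD3_c16))))))
theorem f99755 : Led Lsl_et (LP (LK LD1_c4 LD2_c25 LD3_c39)) = (LP (LK LD1_c2 LD2_c10 LD3_c10)) :=
  Lre_e IH (LK LD1_c4 LD2_c25 LD3_c39) (LK LD1_c2 LD2_c10 LD3_c10) Lrfl Lrfl
theorem f546579 : Led Lsl_bt (LP (LK LD1_c4 LD2_c36 LD3_c10)) = (LP (LK LD1_c4 LD2_c25 LD3_c39)) :=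
  Lgr Lrot119 (Lpr_ef (K38.f546575 IH) (Lpe (f100430 IH) (Lpe (f99755 IH) (Lpn (LP (LK LD1_c4 LD2_c25 LD3_c39))))))
theorem f175582 : Led Lsl_ct (LP (LK LD1_c8 LD2_c44 LD3_c50)) = (LP (LK LD1_c5 LD2_c0 LD3_c3)) :=
  Lgr Lrot59 (Lpr_cf (K31.f175579 IH) (Lpn (LP (LK LD1_c5 LD2_c0 LD3_c3))))
theorem f563185 : Led Lsl_gf (LP (LK LD1_c5 LD2_c56 LD3_c23)) = (LP (LK LD1_c5 LD2_c0 LD3_c3)) :=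
  Lgr Lrot129 (Lpe (f553423 IH) (Lpr_bt (f553421 IH) (Lpr_gt (f563181 IH) (Lpe (K6.f101722 IH) (Lpr_ct (K6.f101715 IH) (Lpe (K36.f539778 IH) (Lpe (K38.f546581 IH) (Lpr_bt (f546579 IH) (Lpe (K31.f500920 IH) (Lpr_ct (f175582 IH) (Lpn (LP (LK LD1_c5 LD2_c0 LD3_c3)))))))))))))
theorem f428176 : Led Lsl_bt (LP (LK LD1_c1 LD2_c23 LD3_c51)) = (LP (LK LD1_c0 LD2_c38 LD3_c46)) :=
  Lre_b IH (LK LD1_c1 LD2_c23 LD3_c51) (LK LD1_c0 LD2_c38 LD3_c46) Lrfl Lrfl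
theorem f541429 : Led Lsl_gf (LP (LK LD1_c2 LD2_c55 LD3_c45)) = (LP (LK LD1_c5 LD2_c41 LD3_c19)) :=
  Lgr Lrot129 (Lpr_cf (K36.f426083 IH) (Lpr_bt (f428176 IH) (Lpqs (K38.f539221 IH) (Lpe (K38.f500395 IH) (Lpe (K36.f24261 IH) (Lpr_ct (K10.f24238 IH) (Lpr_gt (K9.f177138 IH) (Lpe (K7.f20328 IH) (Lpr_bt (K7.f20327 IH) (Lpq (K37.f539936 IH) (Lpr_gt (K36.f541427 IH) (Lpe (K37.f181536 IH) (Lpn (LP (LK LD1_c5 LD2_c41 LD3_c19)))))))))))))))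
theorem f563191 : Led Lsl_bf (LP (LK LD1_c5 LD2_c56 LD3_c23)) = (LP (LK LD1_c4 LD2_c31 LD3_c58)) :=
  Lgr Lrot34 (Lpr_gf (f563185 IH) (Lpe (f175581 IH) (Lpe (K37.f541534 IH) (Lpe (K36.f211065 IH) (Lpr_cf (K36.f211068 IH) (Lpr_gf (K38.f500395 IH) (Lpq (K38.f539221 IH) (Lpe (f428176 IH) (Lpe (K36.f426083 IH) (Lpr_gf (f541429 IH) (Lpr_cf (K37.f181536 IH) (Lpn (LP (LK LD1_c4 LD2_c31 LD3_c58))))))))))))))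
theorem f562812 : Led Lsl_dt (LP (LK LD1_c5 LD2_c56 LD3_c23)) = (LP (LK LD1_c11 LD2_c38 LD3_c3)) :=
  Lre_d IH (LK LD1_c5 LD2_c56 LD3_c23) (LK LD1_c11 LD2_c38 LD3_c3) Lrfl Lrfl
theorem f563194 : Led Lsl_bt (LP (LK LD1_c11 LD2_c38 LD3_c3)) = (LP (LK LD1_c9 LD2_c1 LD3_c40)) :=
  Lgr Lrot95 (Lpe (f562812 IH) (Lpr_bf (f563191 IH) (Lpe (K38.f174843 IH) (Lpn (LP (LK LD1_c9 LD2_c1 LD3_c40))))))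
theorem f176453 : Led Lsl_bt (LP (LK LD1_c1 LD2_c5 LD3_c13)) = (LP (LK LD1_c2 LD2_c16 LD3_c16)) :=
  Lre_b IH (LK LD1_c1 LD2_c5 LD3_c13) (LK LD1_c2 LD2_c16 LD3_c16) Lrfl Lrfl
theorem f176770 : Led Lsl_gt (LP (LK LD1_c9 LD2_c12 LD3_c40)) = (LP (LK LD1_c17 LD2_c6 LD3_c58)) :=
  Lre_g IH (LK LD1_c9 LD2_c12 LD3_c40) (LK LD1_c17 LD2_c6 LD3_c58) Lrfl Lrfl
theorem f563202 : Led Lsl_ct (LP (LK LD1_c11 LD2_c38 LD3_c3)) = (LP (LK LD1_c17 LD2_c6 LD3_c58)) :=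
  Lgr Lrot63 (Lpr_bt (f563194 IH) (Lpr_gt (K38.f548246 IH) (Lpe (K36.f176515 IH) (Lpe (K9.f176518 IH) (Lpr_gt (K9.f176081 IH) (Lpe (K10.f9412 IH) (Lpr_bt (f176453 IH) (Lpr_gt (K37.f142146 IH) (Lpr_ct (f176769 IH) (Lpr_gt (f176770 IH) (Lpn (LP (LK LD1_c17 LD2_c6 LD3_c58)))))))))))))
theorem f24473 : Led Lsl_gt (LP (LK LD1_c11 LD2_c39 LD3_c42)) = (LP (LK LD1_c5 LD2_c57 LD3_c11)) :=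
  Lre_g IH (LK LD1_c11 LD2_c39 LD3_c42) (LK LD1_c5 LD2_c57 LD3_c11) Lrfl Lrfl
theorem f546336 : Led Lsl_df (LP (LK LD1_c11 LD2_c39 LD3_c42)) = (LP (LK LD1_c17 LD2_c6 LD3_c58)) :=
  Lgr Lrot153 (Lpr_gt (f24473 IH) (Lpr_dt (f24472 IH) (Lpe (f452845 IH) (Lpe (f161926 IH) (Lpe (K37.f82182 IH) (Lpe (K37.f418493 IH) (Lpr_gf (K37.f546334 IH) (Lpe (f541585 IH) (Lpr_gt (f176770 IH) (Lpn (LP (LK LD1_c17 LD2_c6 LD3_c58))))))))))))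
theorem f545186 : Led Lsl_ct (LP (LK LD1_c11 LD2_c38 LD3_c1)) = (LP (LK LD1_c5 LD2_c56 LD3_c22)) :=
  Lre_c IH (LK LD1_c11 LD2_c38 LD3_c1) (LK LD1_c5 LD2_c56 LD3_c22) Lrfl Lrfl
theorem f545190 : Led Lsl_dt (LP (LK LD1_c20 LD2_c36 LD3_c51)) = (LP (LK LD1_c11 LD2_c38 LD3_c1)) :=
  Lre_d IH (LK LD1_c20 LD2_c36 LD3_c51) (LK LD1_c11 LD2_c38 LD3_c1) Lrfl Lrfl
theorem f563206 : Led Lsl_cf (LP (LK LD1_c20 LD2_c36 LD3_c51)) = (LP (LK LD1_c11 LD2_c39 LD3_c42)) :=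
  Lgr Lrot55 (Lpr_dt (f545190 IH) (Lpr_ct (f545186 IH) (Lpr_dt (K39.f545141 IH) (Lpr_ct (K38.f198269 IH) (Lpr_dt (K38.f545256 IH) (Lpr_ct (f546090 IH) (Lpe (f562817 IH) (Lpr_ct (f562804 IH) (Lpr_dt (f562758 IH) (Lpr_ct (f559841 IH) (Lpr_dt (f452839 IH) (Lpr_ct (f553423 IH) (Lpr_dt (f562812 IH) (Lpr_ct (f563202 IH) (Lpe (f546336 IH) (Lpn (LP (LK LD1_c11 LD2_c39 LD3_c42))))))))))))))))))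
theorem f72292 : Led Lsl_ct (LP (LK LD1_c9 LD2_c9 LD3_c34)) = (LP (LK LD1_c17 LD2_c2 LD3_c32)) :=
  Lre_c IH (LK LD1_c9 LD2_c9 LD3_c34) (LK LD1_c17 LD2_c2 LD3_c32) Lrfl Lrfl
theorem f545209 : Led Lsl_af (LP (LK LD1_c11 LD2_c38 LD3_c1)) = (LP (LK LD1_c17 LD2_c2 LD3_c32)) :=
  Lgr Lrot68 (Lpr_ct (f545186 IH) (Lpr_at (K39.f545206 IH) (Lpr_ct (f72292 IH) (Lpn (LP (LK LD1_c17 LD2_c2 LD3_c32))))))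
theorem f545213 : Led Lsl_dt (LP (LK LD1_c11 LD2_c38 LD3_c1)) = (LP (LK LD1_c20 LD2_c36 LD3_c51)) :=
  Lre_d IH (LK LD1_c11 LD2_c38 LD3_c1) (LK LD1_c20 LD2_c36 LD3_c51) Lrfl Lrfl
theorem f72368 : Led Lsl_dt (LP (LK LD1_c26 LD2_c57 LD3_c37)) = (LP (LK LD1_c17 LD2_c2 LD3_c32)) :=
  Lre_d IH (LK LD1_c26 LD2_c57 LD3_c37) (LK LD1_c17 LD2_c2 LD3_c32) Lrfl Lrfl
theorem f545214 : Led Lsl_at (LP (LK LD1_c20 LD2_c36 LD3_c51)) = (LP (LK LD1_c26 LD2_c57 LD3_c37)) :=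
  Lgr Lrot51 (Lpe (f545213 IH) (Lpr_af (f545209 IH) (Lpe (f72368 IH) (Lpn (LP (LK LD1_c26 LD2_c57 LD3_c37))))))
theorem f545233 : Led Lsl_af (LP (LK LD1_c20 LD2_c36 LD3_c51)) = (LP (LK LD1_c26 LD2_c57 LD3_c37)) :=
  Lgr Lrot0 (Lpr_at (f545214 IH) (Lpn (LP (LK LD1_c26 LD2_c57 LD3_c37))))
theorem f563210 : Led Lsl_ft (LP (LK LD1_c20 LD2_c36 LD3_c57)) = (LP (LK LD1_c26 LD2_c57 LD3_c37)) :=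
  Lgr Lrot142 (Lpr_dt (f562758 IH) (Lpr_ct (f559841 IH) (Lpr_dt (f452839 IH) (Lpr_ct (f553423 IH) (Lpr_dt (f562812 IH) (Lpr_ct (f563202 IH) (Lpe (f546336 IH) (Lpe (f563206 IH) (Lpr_af (f545233 IH) (Lpn (LP (LK LD1_c26 LD2_c57 LD3_c37))))))))))))
theorem f563216 : Led Lsl_ff (LP (LK LD1_c20 LD2_c36 LD3_c57)) = (LP (LK LD1_c26 LD2_c57 LD3_c37)) :=
  Lgr Lrot3 (Lpr_ft (f563210 IH) (Lpn (LP (LK LD1_c26 LD2_c57 LD3_c37))))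
theorem f545247 : Led Lsl_dt (LP (LK LD1_c17 LD2_c2 LD3_c32)) = (LP (LK LD1_c26 LD2_c57 LD3_c37)) :=
  Lre_d IH (LK LD1_c17 LD2_c2 LD3_c32) (LK LD1_c26 LD2_c57 LD3_c37) Lrfl Lrfl
theorem f563222 : Led Lsl_ft (LP (LK LD1_c11 LD2_c38 LD3_c4)) = (LP (LK LD1_c17 LD2_c2 LD3_c32)) :=
  Lgr Lrot54 (Lpe (f562758 IH) (Lpr_ff (f563216 IH) (Lpe (f545247 IH) (Lpn (LP (LK LD1_c17 LD2_c2 LD3_c32))))))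
theorem f198266 : Led Lsl_ct (LP (LK LD1_c5 LD2_c56 LD3_c22)) = (LP (LK LD1_c11 LD2_c38 LD3_c1)) :=
  Lre_c IH (LK LD1_c5 LD2_c56 LD3_c22) (LK LD1_c11 LD2_c38 LD3_c1) Lrfl Lrfl
theorem f553473 : Led Lsl_ct (LP (LK LD1_c20 LD2_c35 LD3_c7)) = (LP (LK LD1_c11 LD2_c36 LD3_c51)) :=
  Lre_c IH (LK LD1_c20 LD2_c35 LD3_c7) (LK LD1_c11 LD2_c36 LD3_c51) Lrfl Lrfl
theorem f553474 : Led Lsl_ft (LP (LK LD1_c11 LD2_c38 LD3_c1)) = (LP (LK LD1_c20 LD2_c35 LD3_c7)) :=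
  Lgr Lrot4 (Lpe (f198266 IH) (Lpr_ff (K39.f553468 IH) (Lpe (f553473 IH) (Lpn (LP (LK LD1_c20 LD2_c35 LD3_c7))))))
theorem f563224 : Led Lsl_af (LP (LK LD1_c11 LD2_c38 LD3_c4)) = (LP (LK LD1_c20 LD2_c35 LD3_c7)) :=
  Lgr Lrot45 (Lpr_ft (f563222 IH) (Lpe (f545209 IH) (Lpr_ft (f553474 IH) (Lpn (LP (LK LD1_c20 LD2_c35 LD3_c7))))))
theorem f553438 : Led Lsl_dt (LP (LK LD1_c11 LD2_c38 LD3_c4)) = (LP (LK LD1_c20 LD2_c36 LD3_c57)) :=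
  Lre_d IH (LK LD1_c11 LD2_c38 LD3_c4) (LK LD1_c20 LD2_c36 LD3_c57) Lrfl Lrfl
theorem f559870 : Led Lsl_dt (LP (LK LD1_c29 LD2_c31 LD3_c9)) = (LP (LK LD1_c20 LD2_c35 LD3_c7)) :=
  Lre_d IH (LK LD1_c29 LD2_c31 LD3_c9) (LK LD1_c20 LD2_c35 LD3_c7) Lrfl Lrfl
theorem f563239 : Led Lsl_at (LP (LK LD1_c20 LD2_c36 LD3_c57)) = (LP (LK LD1_c29 LD2_c31 LD3_c9)) :=
  Lgr Lrot51 (Lpe (f553438 IH) (Lpr_af (f563224 IH) (Lpe (f559870 IH) (Lpn (LP (LK LD1_c29 LD2_c31 LD3_c9))))))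
theorem f563335 : Led Lsl_ff (LP (LK LD1_c20 LD2_c36 LD3_c51)) = (LP (LK LD1_c29 LD2_c31 LD3_c9)) :=
  Lgr Lrot30 (Lpr_at (f545214 IH) (Lpe (f563216 IH) (Lpr_at (f563239 IH) (Lpn (LP (LK LD1_c29 LD2_c31 LD3_c9))))))
theorem f563337 : Led Lsl_ft (LP (LK LD1_c20 LD2_c36 LD3_c51)) = (LP (LK LD1_c29 LD2_c31 LD3_c9)) :=
  Lgr Lrot48 (Lpr_ff (f563335 IH) (Lpn (LP (LK LD1_c29 LD2_c31 LD3_c9))))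
theorem f563249 : Led Lsl_gt (LP (LK LD1_c20 LD2_c36 LD3_c51)) = (LP (LK LD1_c29 LD2_c32 LD3_c13)) :=
  Lre_g IH (LK LD1_c20 LD2_c36 LD3_c51) (LK LD1_c29 LD2_c32 LD3_c13) Lrfl Lrfl
theorem f563333 : Led Lsl_af (LP (LK LD1_c20 LD2_c36 LD3_c57)) = (LP (LK LD1_c29 LD2_c31 LD3_c9)) :=
  Lgr Lrot0 (Lpr_at (f563239 IH) (Lpn (LP (LK LD1_c29 LD2_c31 LD3_c9))))
theorem f563341 : Led Lsl_gt (LP (LK LD1_c29 LD2_c32 LD3_c13)) = (LP (LK LD1_c20 LD2_c36 LD3_c57)) :=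
  Lgr Lrot46 (Lpe (f563249 IH) (Lpr_ft (f563337 IH) (Lpe (f563333 IH) (Lpn (LP (LK LD1_c20 LD2_c36 LD3_c57))))))
theorem f559809 : Led Lsl_dt (LP (LK LD1_c9 LD2_c12 LD3_c37)) = (LP (LK LD1_c4 LD2_c38 LD3_c23)) :=
  Lre_d IH (LK LD1_c9 LD2_c12 LD3_c37) (LK LD1_c4 LD2_c38 LD3_c23) Lrfl Lrfl
theorem f562759 : Led Lsl_ct (LP (LK LD1_c11 LD2_c38 LD3_c7)) = (LP (LK LD1_c5 LD2_c56 LD3_c25)) :=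
  Lre_c IH (LK LD1_c11 LD2_c38 LD3_c7) (LK LD1_c5 LD2_c56 LD3_c25) Lrfl Lrfl
theorem f82158 : Led Lsl_gt (LP (LK LD1_c11 LD2_c38 LD3_c7)) = (LP (LK LD1_c20 LD2_c37 LD3_c0)) :=
  Lre_g IH (LK LD1_c11 LD2_c38 LD3_c7) (LK LD1_c20 LD2_c37 LD3_c0) Lrfl Lrfl
theorem f563345 : Led Lsl_df (LP (LK LD1_c29 LD2_c32 LD3_c13)) = (LP (LK LD1_c20 LD2_c37 LD3_c0)) :=
  Lgr Lrot153 (Lpr_gt (f563341 IH) (Lpr_dt (f562758 IH) (Lpe (f553437 IH) (Lpe (f452838 IH) (Lpe (f559800 IH) (Lpe (f559809 IH) (Lpe (f562754 IH) (Lpe (f562759 IH) (Lpr_gt (f82158 IH) (Lpn (LP (LK LD1_c20 LD2_c37 LD3_c0))))))))))))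
theorem f562810 : Led Lsl_cf (LP (LK LD1_c11 LD2_c39 LD3_c41)) = (LP (LK LD1_c20 LD2_c36 LD3_c57)) :=
  Lgr Lrot11 (Lpr_ct (f562804 IH) (Lpn (LP (LK LD1_c20 LD2_c36 LD3_c57))))
theorem f227840 : Led Lsl_ct (LP (LK LD1_c5 LD2_c56 LD3_c27)) = (LP (LK LD1_c2 LD2_c54 LD3_c32)) :=
  Lre_c IH (LK LD1_c5 LD2_c56 LD3_c27) (LK LD1_c2 LD2_c54 LD3_c32) Lrfl Lrfl
theorem f227841 : Led Lsl_dt (LP (LK LD1_c11 LD2_c38 LD3_c16)) = (LP (LK LD1_c5 LD2_c56 LD3_c27)) :=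
  Lre_d IH (LK LD1_c11 LD2_c38 LD3_c16) (LK LD1_c5 LD2_c56 LD3_c27) Lrfl Lrfl
theorem f198231 : Led Lsl_ct (LP (LK LD1_c4 LD2_c38 LD3_c23)) = (LP (LK LD1_c2 LD2_c16 LD3_c15)) :=
  Lre_c IH (LK LD1_c4 LD2_c38 LD3_c23) (LK LD1_c2 LD2_c16 LD3_c15) Lrfl Lrfl
theorem f176785 : Led Lsl_ct (LP (LK LD1_c4 LD2_c38 LD3_c24)) = (LP (LK LD1_c9 LD2_c12 LD3_c38)) :=
  Lre_c IH (LK LD1_c4 LD2_c38 LD3_c24) (LK LD1_c9 LD2_c12 LD3_c38) Lrfl Lrfl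
theorem f562779 : Led Lsl_dt (LP (LK LD1_c9 LD2_c12 LD3_c38)) = (LP (LK LD1_c17 LD2_c6 LD3_c54)) :=
  Lre_d IH (LK LD1_c9 LD2_c12 LD3_c38) (LK LD1_c17 LD2_c6 LD3_c54) Lrfl Lrfl
theorem f562780 : Led Lsl_cf (LP (LK LD1_c11 LD2_c38 LD3_c16)) = (LP (LK LD1_c17 LD2_c6 LD3_c54)) :=
  Lgr Lrot55 (Lpr_dt (f227841 IH) (Lpr_ct (f227840 IH) (Lpr_dt (K2.f82145 IH) (Lpr_ct (K38.f82181 IH) (Lpr_dt (f161926 IH) (Lpr_ct (f452845 IH) (Lpr_dt (f500554 IH) (Lpr_ct (f500555 IH) (Lpr_dt (f562775 IH) (Lpr_ct (f559804 IH) (Lpr_dt (f559809 IH) (Lpr_ct (f198231 IH) (Lpr_dt (f116971 IH) (Lpr_ct (f176785 IH) (Lpr_dt (f562779 IH) (Lpn (LP (LK LD1_c17 LD2_c6 LD3_c54))))))))))))))))))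
theorem f82153 : Led Lsl_gt (LP (LK LD1_c5 LD2_c56 LD3_c26)) = (LP (LK LD1_c2 LD2_c54 LD3_c32)) :=
  Lre_g IH (LK LD1_c5 LD2_c56 LD3_c26) (LK LD1_c2 LD2_c54 LD3_c32) Lrfl Lrfl
theorem f562833 : Led Lsl_ct (LP (LK LD1_c11 LD2_c38 LD3_c11)) = (LP (LK LD1_c5 LD2_c56 LD3_c26)) :=
  Lre_c IH (LK LD1_c11 LD2_c38 LD3_c11) (LK LD1_c5 LD2_c56 LD3_c26) Lrfl Lrfl
theorem f563347 : Led Lsl_gt (LP (LK LD1_c20 LD2_c37 LD3_c0)) = (LP (LK LD1_c11 LD2_c38 LD3_c11)) :=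
  Lgr Lrot146 (Lpe (f563345 IH) (Lpr_gt (f563341 IH) (Lpe (f562810 IH) (Lpr_gt (f562824 IH) (Lpe (f562780 IH) (Lpr_dt (f227841 IH) (Lpe (f82141 IH) (Lpe (f82153 IH) (Lpe (f562833 IH) (Lpn (LP (LK LD1_c11 LD2_c38 LD3_c11))))))))))))
theorem f563352 : Led Lsl_df (LP (LK LD1_c20 LD2_c37 LD3_c0)) = (LP (LK LD1_c29 LD2_c32 LD3_c13)) :=
  Lgr Lrot155 (Lpr_gt (f563347 IH) (Lpr_ct (f562833 IH) (Lpr_gt (f82153 IH) (Lpr_ct (f82141 IH) (Lpr_dt (f562832 IH) (Lpr_cf (f562780 IH) (Lpe (f562824 IH) (Lpr_cf (f562810 IH) (Lpe (f563341 IH) (Lpn (LP (LK LD1_c29 LD2_c32 LD3_c13))))))))))))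
theorem f82157 : Led Lsl_ct (LP (LK LD1_c5 LD2_c56 LD3_c25)) = (LP (LK LD1_c11 LD2_c38 LD3_c7)) :=
  Lre_c IH (LK LD1_c5 LD2_c56 LD3_c25) (LK LD1_c11 LD2_c38 LD3_c7) Lrfl Lrfl
theorem f175587 : Led Lsl_dt (LP (LK LD1_c16 LD2_c22 LD3_c20)) = (LP (LK LD1_c8 LD2_c44 LD3_c50)) :=
  Lre_d IH (LK LD1_c16 LD2_c22 LD3_c20) (LK LD1_c8 LD2_c44 LD3_c50) Lrfl Lrfl
theorem f545270 : Led Lsl_ct (LP (LK LD1_c20 LD2_c37 LD3_c0)) = (LP (LK LD1_c16 LD2_c22 LD3_c20)) :=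
  Lgr Lrot110 (Lpe (f82158 IH) (Lpe (f82157 IH) (Lpe (f82151 IH) (Lpe (f112857 IH) (Lpr_gt (K38.f24489 IH) (Lpr_ct (K38.f198269 IH) (Lpr_gt (K38.f545266 IH) (Lpe (K31.f175579 IH) (Lpe (f175587 IH) (Lpn (LP (LK LD1_c16 LD2_c22 LD3_c20))))))))))))
theorem f545272 : Led Lsl_cf (LP (LK LD1_c20 LD2_c37 LD3_c0)) = (LP (LK LD1_c16 LD2_c22 LD3_c20)) :=
  Lgr Lrot11 (Lpr_ct (f545270 IH) (Lpn (LP (LK LD1_c16 LD2_c22 LD3_c20))))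
theorem f175584 : Led Lsl_dt (LP (LK LD1_c8 LD2_c44 LD3_c50)) = (LP (LK LD1_c16 LD2_c22 LD3_c20)) :=
  Lre_d IH (LK LD1_c8 LD2_c44 LD3_c50) (LK LD1_c16 LD2_c22 LD3_c20) Lrfl Lrfl
theorem f99684 : Led Lsl_dt (LP (LK LD1_c8 LD2_c48 LD3_c52)) = (LP (LK LD1_c4 LD2_c25 LD3_c39)) :=
  Lre_d IH (LK LD1_c8 LD2_c48 LD3_c52) (LK LD1_c4 LD2_c25 LD3_c39) Lrfl Lrfl
theorem f99685 : Led Lsl_gt (LP (LK LD1_c16 LD2_c22 LD3_c21)) = (LP (LK LD1_c8 LD2_c48 LD3_c52)) :=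
  Lre_g IH (LK LD1_c16 LD2_c22 LD3_c21) (LK LD1_c8 LD2_c48 LD3_c52) Lrfl Lrfl
theorem f545194 : Led Lsl_gt (LP (LK LD1_c20 LD2_c36 LD3_c49)) = (LP (LK LD1_c11 LD2_c38 LD3_c1)) :=
  Lre_g IH (LK LD1_c20 LD2_c36 LD3_c49) (LK LD1_c11 LD2_c38 LD3_c1) Lrfl Lrfl
theorem f563362 : Led Lsl_cf (LP (LK LD1_c16 LD2_c22 LD3_c21)) = (LP (LK LD1_c20 LD2_c36 LD3_c49)) :=
  Lgr Lrot166 (Lpr_gt (f99685 IH) (Lpr_dt (f99684 IH) (Lpe (K31.f500920 IH) (Lpr_dt (f175584 IH) (Lpe (f545272 IH) (Lpr_df (f563352 IH) (Lpe (f563249 IH) (Lpe (f545213 IH) (Lpe (f545194 IH) (Lpn (LP (LK LD1_c20 LD2_c36 LD3_c49))))))))))))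
theorem f99763 : Led Lsl_ct (LP (LK LD1_c8 LD2_c48 LD3_c52)) = (LP (LK LD1_c16 LD2_c29 LD3_c16)) :=
  Lre_c IH (LK LD1_c8 LD2_c48 LD3_c52) (LK LD1_c16 LD2_c29 LD3_c16) Lrfl Lrfl
theorem f176367 : Led Lsl_dt (LP (LK LD1_c16 LD2_c29 LD3_c16)) = (LP (LK LD1_c26 LD2_c26 LD3_c20)) :=
  Lre_d IH (LK LD1_c16 LD2_c29 LD3_c16) (LK LD1_c26 LD2_c26 LD3_c20) Lrfl Lrfl
theorem f175652 : Led Lsl_ct (LP (LK LD1_c16 LD2_c55 LD3_c60)) = (LP (LK LD1_c26 LD2_c26 LD3_c20)) :=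
  Lre_c IH (LK LD1_c16 LD2_c55 LD3_c60) (LK LD1_c26 LD2_c26 LD3_c20) Lrfl Lrfl
theorem f175399 : Led Lsl_gt (LP (LK LD1_c26 LD2_c52 LD3_c26)) = (LP (LK LD1_c16 LD2_c55 LD3_c60)) :=
  Lre_g IH (LK LD1_c26 LD2_c52 LD3_c26) (LK LD1_c16 LD2_c55 LD3_c60) Lrfl Lrfl
theorem f563228 : Led Lsl_gt (LP (LK LD1_c11 LD2_c38 LD3_c4)) = (LP (LK LD1_c20 LD2_c36 LD3_c49)) :=
  Lgr Lrot5 (Lpr_ft (f563222 IH) (Lpe (f545209 IH) (Lpe (f545194 IH) (Lpn (LP (LK LD1_c20 LD2_c36 LD3_c49))))))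
theorem f545191 : Led Lsl_gt (LP (LK LD1_c29 LD2_c32 LD3_c14)) = (LP (LK LD1_c20 LD2_c36 LD3_c51)) :=
  Lre_g IH (LK LD1_c29 LD2_c32 LD3_c14) (LK LD1_c20 LD2_c36 LD3_c51) Lrfl Lrfl
theorem f563218 : Led Lsl_gt (LP (LK LD1_c20 LD2_c36 LD3_c57)) = (LP (LK LD1_c29 LD2_c32 LD3_c14)) :=
  Lgr Lrot5 (Lpr_ft (f563210 IH) (Lpe (f545233 IH) (Lpe (f545191 IH) (Lpn (LP (LK LD1_c29 LD2_c32 LD3_c14))))))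
theorem f563376 : Led Lsl_cf (LP (LK LD1_c26 LD2_c52 LD3_c26)) = (LP (LK LD1_c29 LD2_c32 LD3_c14)) :=
  Lgr Lrot169 (Lpr_gt (f175399 IH) (Lpr_ct (f175652 IH) (Lpe (f176367 IH) (Lpe (f99763 IH) (Lpe (f99685 IH) (Lpr_cf (f563362 IH) (Lpe (f563228 IH) (Lpe (f562758 IH) (Lpr_gt (f563218 IH) (Lpn (LP (LK LD1_c29 LD2_c32 LD3_c14))))))))))))
theorem f563380 : Led Lsl_ct (LP (LK LD1_c26 LD2_c52 LD3_c26)) = (LP (LK LD1_c29 LD2_c32 LD3_c14)) :=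
  Lgr Lrot59 (Lpr_cf (f563376 IH) (Lpn (LP (LK LD1_c29 LD2_c32 LD3_c14))))
theorem f500545 : Led Lsl_ct (LP (LK LD1_c5 LD2_c57 LD3_c1)) = (LP (LK LD1_c2 LD2_c54 LD3_c48)) :=
  Lre_c IH (LK LD1_c5 LD2_c57 LD3_c1) (LK LD1_c2 LD2_c54 LD3_c48) Lrfl Lrfl
theorem f99688 : Led Lsl_ct (LP (LK LD1_c4 LD2_c36 LD3_c37)) = (LP (LK LD1_c9 LD2_c9 LD3_c18)) :=
  Lre_c IH (LK LD1_c4 LD2_c36 LD3_c37) (LK LD1_c9 LD2_c9 LD3_c18) Lrfl Lrfl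
theorem f546082 : Led Lsl_ff (LP (LK LD1_c5 LD2_c57 LD3_c1)) = (LP (LK LD1_c9 LD2_c9 LD3_c18)) :=
  Lgr Lrot23 (Lpr_ct (f500545 IH) (Lpr_ft (f546079 IH) (Lpr_ct (f99688 IH) (Lpn (LP (LK LD1_c9 LD2_c9 LD3_c18))))))
theorem f500578 : Led Lsl_dt (LP (LK LD1_c5 LD2_c57 LD3_c1)) = (LP (LK LD1_c11 LD2_c39 LD3_c22)) :=
  Lre_d IH (LK LD1_c5 LD2_c57 LD3_c1) (LK LD1_c11 LD2_c39 LD3_c22) Lrfl Lrfl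
theorem f387419 : Led Lsl_dt (LP (LK LD1_c17 LD2_c2 LD3_c20)) = (LP (LK LD1_c9 LD2_c9 LD3_c18)) :=
  Lre_d IH (LK LD1_c17 LD2_c2 LD3_c20) (LK LD1_c9 LD2_c9 LD3_c18) Lrfl Lrfl
theorem f546097 : Led Lsl_ft (LP (LK LD1_c11 LD2_c39 LD3_c22)) = (LP (LK LD1_c17 LD2_c2 LD3_c20)) :=
  Lgr Lrot54 (Lpe (f500578 IH) (Lpr_ff (f546082 IH) (Lpe (f387419 IH) (Lpn (LP (LK LD1_c17 LD2_c2 LD3_c20))))))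
theorem f546122 : Led Lsl_ff (LP (LK LD1_c11 LD2_c39 LD3_c22)) = (LP (LK LD1_c17 LD2_c2 LD3_c20)) :=
  Lgr Lrot3 (Lpr_ft (f546097 IH) (Lpn (LP (LK LD1_c17 LD2_c2 LD3_c20))))
theorem f546132 : Led Lsl_at (LP (LK LD1_c9 LD2_c12 LD3_c46)) = (LP (LK LD1_c17 LD2_c2 LD3_c20)) :=
  Lre_a IH (LK LD1_c9 LD2_c12 LD3_c46) (LK LD1_c17 LD2_c2 LD3_c20) Lrfl Lrfl
theorem f176268 : Led Lsl_ft (LP (LK LD1_c16 LD2_c55 LD3_c60)) = (LP (LK LD1_c9 LD2_c12 LD3_c46)) :=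
  Lre_f IH (LK LD1_c16 LD2_c55 LD3_c60) (LK LD1_c9 LD2_c12 LD3_c46) Lrfl Lrfl
theorem f546133 : Led Lsl_at (LP (LK LD1_c11 LD2_c39 LD3_c22)) = (LP (LK LD1_c16 LD2_c55 LD3_c60)) :=
  Lgr Lrot66 (Lpr_ff (f546122 IH) (Lpe (f546132 IH) (Lpe (f176268 IH) (Lpn (LP (LK LD1_c16 LD2_c55 LD3_c60))))))
theorem f546144 : Led Lsl_gf (LP (LK LD1_c26 LD2_c52 LD3_c26)) = (LP (LK LD1_c17 LD2_c2 LD3_c20)) :=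
  Lgr Lrot47 (Lpr_gt (f175399 IH) (Lpe (f546133 IH) (Lpr_ff (f546122 IH) (Lpn (LP (LK LD1_c17 LD2_c2 LD3_c20))))))
theorem f546092 : Led Lsl_at (LP (LK LD1_c4 LD2_c38 LD3_c27)) = (LP (LK LD1_c9 LD2_c9 LD3_c18)) :=
  Lre_a IH (LK LD1_c4 LD2_c38 LD3_c27) (LK LD1_c9 LD2_c9 LD3_c18) Lrfl Lrfl
theorem f176349 : Led Lsl_ft (LP (LK LD1_c9 LD2_c4 LD3_c24)) = (LP (LK LD1_c4 LD2_c38 LD3_c27)) :=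
  Lre_f IH (LK LD1_c9 LD2_c4 LD3_c24) (LK LD1_c4 LD2_c38 LD3_c27) Lrfl Lrfl
theorem f546093 : Led Lsl_at (LP (LK LD1_c5 LD2_c57 LD3_c1)) = (LP (LK LD1_c9 LD2_c4 LD3_c24)) :=
  Lgr Lrot66 (Lpr_ff (f546082 IH) (Lpe (f546092 IH) (Lpe (f176349 IH) (Lpn (LP (LK LD1_c9 LD2_c4 LD3_c24))))))
theorem f546101 : Led Lsl_gf (LP (LK LD1_c16 LD2_c55 LD3_c59)) = (LP (LK LD1_c9 LD2_c9 LD3_c18)) :=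
  Lgr Lrot47 (Lpr_gt (K38.f175588 IH) (Lpe (f546093 IH) (Lpr_ff (f546082 IH) (Lpn (LP (LK LD1_c9 LD2_c9 LD3_c18))))))
theorem f175609 : Led Lsl_ct (LP (LK LD1_c16 LD2_c55 LD3_c59)) = (LP (LK LD1_c9 LD2_c50 LD3_c43)) :=
  Lgr Lrot59 (Lpr_cf (K38.f175598 IH) (Lpn (LP (LK LD1_c9 LD2_c50 LD3_c43))))
theorem f553470 : Led Lsl_dt (LP (LK LD1_c11 LD2_c38 LD3_c3)) = (LP (LK LD1_c5 LD2_c56 LD3_c23)) :=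
  Lre_d IH (LK LD1_c11 LD2_c38 LD3_c3) (LK LD1_c5 LD2_c56 LD3_c23) Lrfl Lrfl
theorem f563204 : Led Lsl_cf (LP (LK LD1_c11 LD2_c38 LD3_c3)) = (LP (LK LD1_c17 LD2_c6 LD3_c58)) :=
  Lgr Lrot11 (Lpr_ct (f563202 IH) (Lpn (LP (LK LD1_c17 LD2_c6 LD3_c58))))
theorem f546341 : Led Lsl_dt (LP (LK LD1_c11 LD2_c39 LD3_c42)) = (LP (LK LD1_c17 LD2_c6 LD3_c58)) :=
  Lgr Lrot42 (Lpr_df (f546336 IH) (Lpn (LP (LK LD1_c17 LD2_c6 LD3_c58))))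
theorem f563243 : Led Lsl_cf (LP (LK LD1_c11 LD2_c39 LD3_c42)) = (LP (LK LD1_c20 LD2_c36 LD3_c51)) :=
  Lgr Lrot118 (Lpr_dt (f546341 IH) (Lpe (f563204 IH) (Lpr_dt (f553470 IH) (Lpr_ct (f198510 IH) (Lpr_dt (f452838 IH) (Lpr_ct (f553437 IH) (Lpr_af (f563224 IH) (Lpe (f553474 IH) (Lpr_dt (f545213 IH) (Lpn (LP (LK LD1_c20 LD2_c36 LD3_c51))))))))))))
theorem f563386 : Led Lsl_gt (LP (LK LD1_c9 LD2_c50 LD3_c43)) = (LP (LK LD1_c11 LD2_c38 LD3_c3)) :=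
  Lgr Lrot150 (Lpe (f175609 IH) (Lpr_gf (f546101 IH) (Lpe (f387419 IH) (Lpe (f546144 IH) (Lpr_ct (f563380 IH) (Lpr_gt (f545191 IH) (Lpe (f563243 IH) (Lpr_df (f546336 IH) (Lpe (f563202 IH) (Lpn (LP (LK LD1_c11 LD2_c38 LD3_c3))))))))))))
theorem f175615 : Led Lsl_dt (LP (LK LD1_c9 LD2_c4 LD3_c24)) = (LP (LK LD1_c16 LD2_c55 LD3_c60)) :=
  Lre_d IH (LK LD1_c9 LD2_c4 LD3_c24) (LK LD1_c16 LD2_c55 LD3_c60) Lrfl Lrfl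
theorem f557725 : Led Lsl_ft (LP (LK LD1_c5 LD2_c0 LD3_c3)) = (LP (LK LD1_c8 LD2_c0 LD3_c4)) :=
  Lgr Lrot48 (Lpr_ff (f557717 IH) (Lpn (LP (LK LD1_c8 LD2_c0 LD3_c4))))
theorem f158394 : Led Lsl_at (LP (LK LD1_c8 LD2_c0 LD3_c4)) = (LP (LK LD1_c3 LD2_c59 LD3_c30)) :=
  Lre_a IH (LK LD1_c8 LD2_c0 LD3_c4) (LK LD1_c3 LD2_c59 LD3_c30) Lrfl Lrfl
theorem f563187 : Led Lsl_gt (LP (LK LD1_c5 LD2_c56 LD3_c23)) = (LP (LK LD1_c3 LD2_c59 LD3_c30)) :=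
  Lgr Lrot46 (Lpr_gf (f563185 IH) (Lpr_ft (f557725 IH) (Lpr_at (f158394 IH) (Lpn (LP (LK LD1_c3 LD2_c59 LD3_c30))))))
theorem f161657 : Led Lsl_dt (LP (LK LD1_c3 LD2_c59 LD3_c30)) = (LP (LK LD1_c8 LD2_c0 LD3_c8)) :=
  Lre_d IH (LK LD1_c3 LD2_c59 LD3_c30) (LK LD1_c8 LD2_c0 LD3_c8) Lrfl Lrfl
theorem f425927 : Led Lsl_ct (LP (LK LD1_c15 LD2_c4 LD3_c49)) = (LP (LK LD1_c8 LD2_c0 LD3_c8)) :=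
  Lre_c IH (LK LD1_c15 LD2_c4 LD3_c49) (LK LD1_c8 LD2_c0 LD3_c8) Lrfl Lrfl
theorem f425928 : Led Lsl_dt (LP (LK LD1_c24 LD2_c53 LD3_c25)) = (LP (LK LD1_c15 LD2_c4 LD3_c49)) :=
  Lre_d IH (LK LD1_c24 LD2_c53 LD3_c25) (LK LD1_c15 LD2_c4 LD3_c49) Lrfl Lrfl
theorem f563388 : Led Lsl_gt (LP (LK LD1_c16 LD2_c55 LD3_c60)) = (LP (LK LD1_c24 LD2_c53 LD3_c25)) :=
  Lgr Lrot49 (Lpe (f175615 IH) (Lpe (K38.f175588 IH) (Lpr_cf (K38.f175598 IH) (Lpr_gt (f563386 IH) (Lpr_dt (f553470 IH) (Lpr_gt (f563187 IH) (Lpr_dt (f161657 IH) (Lpe (f425927 IH) (Lpe (f425928 IH) (Lpn (LP (LK LD1_c24 LD2_c53 LD3_c25))))))))))))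
theorem f175398 : Led Lsl_dt (LP (LK LD1_c16 LD2_c55 LD3_c60)) = (LP (LK LD1_c9 LD2_c4 LD3_c24)) :=
  Lre_d IH (LK LD1_c16 LD2_c55 LD3_c60) (LK LD1_c9 LD2_c4 LD3_c24) Lrfl Lrfl
theorem f99693 : Led Lsl_gt (LP (LK LD1_c9 LD2_c4 LD3_c24)) = (LP (LK LD1_c16 LD2_c55 LD3_c58)) :=
  Lre_g IH (LK LD1_c9 LD2_c4 LD3_c24) (LK LD1_c16 LD2_c55 LD3_c58) Lrfl Lrfl
theorem f210713 : Led Lsl_bt (LP (LK LD1_c11 LD2_c32 LD3_c10)) = (LP (LK LD1_c5 LD2_c52 LD3_c60)) :=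
  Lre_b IH (LK LD1_c11 LD2_c32 LD3_c10) (LK LD1_c5 LD2_c52 LD3_c60) Lrfl Lrfl
theorem f539031 : Led Lsl_cf (LP (LK LD1_c16 LD2_c55 LD3_c58)) = (LP (LK LD1_c11 LD2_c32 LD3_c10)) :=
  Lgr Lrot58 (Lpe (f99693 IH) (Lpe (K38.f9406 IH) (Lpr_bt (K38.f175397 IH) (Lpe (K10.f9427 IH) (Lpe (f175718 IH) (Lpr_ct (f175719 IH) (Lpr_gf (f539027 IH) (Lpe (K38.f380391 IH) (Lpe (f210712 IH) (Lpe (f210713 IH) (Lpn (LP (LK LD1_c11 LD2_c32 LD3_c10)))))))))))))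

end

end K40

end

end Cfsg.Agent.Helper28.S1692
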