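import Cfsg.Agent.Lib.Helper28.S1692.Seeds40

set_option autoImplicit false
set_option maxRecDepth 100000
set_option linter.all false

namespace Cfsg.Agent.Helper28.S1692

open Cfsg.Agent.Helper28
open Cfsg.Spor.ON (Gen)

noncomputable section

namespace K41
abbrev LD1_c0 := D1.c0
abbrev LD1_c1 := D1.c1
abbrev LD1_c2 := D1.c2
abbrev LD1_c3 := D1.c3
abbrev LD1_c4 := D1.c4
abbrev LD1_c5 := D1.c5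
abbrev LD1_c6 := D1.c6
abbrev LD1_c7 := D1.c7
abbrev LD1_c8 := D1.c8
abbrev LD1_c9 := D1.c9
abbrev LD1_c10 := D1.c10
abbrev LD1_c11 := D1.c11
abbrev LD1_c12 := D1.c12
abbrev LD1_c13 := D1.c13
abbrev LD1_c14 := D1.c14
abbrev LD1_c15 := D1.c15
abbrev LD1_c16 := D1.c16
abbrev LD1_c17 := D1.c17
abbrev LD1_c18 := D1.c18
abbrev LD1_c19 := D1.c19
abbrev LD1_c20 := D1.c20
abbrev LD1_c21 := D1.c21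
abbrev LD1_c22 := D1.c22
abbrev LD1_c23 := D1.c23
abbrev LD1_c24 := D1.c24
abbrev LD1_c25 := D1.c25
abbrev LD1_c26 := D1.c26
abbrev LD1_c27 := D1.c27
abbrev LD1_c28 := D1.c28
abbrev LD1_c29 := D1.c29
abbrev LD1_c30 := D1.c30
abbrev LD1_c31 := D1.c31
abbrev LD1_c32 := D1.c32
abbrev LD2_c0 := D2.c0
abbrev LD2_c1 := D2.c1
abbrev LD2_c2 := D2.c2
abbrev LD2_c3 := D2.c3
abbrev LD2_c4 := D2.c4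
abbrev LD2_c5 := D2.c5
abbrev LD2_c6 := D2.c6
abbrev LD2_c7 := D2.c7
abbrev LD2_c8 := D2.c8
abbrev LD2_c9 := D2.c9
abbrev LD2_c10 := D2.c10
abbrev LD2_c11 := D2.c11
abbrev LD2_c12 := D2.c12
abbrev LD2_c13 := D2.c13
abbrev LD2_c14 := D2.c14
abbrev LD2_c15 := D2.c15
abbrev LD2_c16 := D2.c16
abbrev LD2_c17 := D2.c17
abbrev LD2_c18 := D2.c18
abbrev LD2_c19 := D2.c19
abbrev LD2_c20 := D2.c20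
abbrev LD2_c21 := D2.c21
abbrev LD2_c22 := D2.c22
abbrev LD2_c23 := D2.c23
abbrev LD2_c24 := D2.c24
abbrev LD2_c25 := D2.c25
abbrev LD2_c26 := D2.c26
abbrev LD2_c27 := D2.c27
abbrev LD2_c28 := D2.c28
abbrev LD2_c29 := D2.c29
abbrev LD2_c30 := D2.c30
abbrev LD2_c31 := D2.c31
abbrev LD2_c32 := D2.c32
abbrev LD2_c33 := D2.c33
abbrev LD2_c34 := D2.c34
abbrev LD2_c35 := D2.c35
abbrev LD2_c36 := D2.c36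
abbrev LD2_c37 := D2.c37
abbrev LD2_c38 := D2.c38
abbrev LD2_c39 := D2.c39
abbrev LD2_c40 := D2.c40
abbrev LD2_c41 := D2.c41
abbrev LD2_c42 := D2.c42
abbrev LD2_c43 := D2.c43
abbrev LD2_c44 := D2.c44
abbrev LD2_c45 := D2.c45
abbrev LD2_c46 := D2.c46
abbrev LD2_c47 := D2.c47
abbrev LD2_c48 := D2.c48
abbrev LD2_c49 := D2.c49
abbrev LD2_c50 := D2.c50
abbrev LD2_c51 := D2.c51
abbrev LD2_c52 := D2.c52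
abbrev LD2_c53 := D2.c53
abbrev LD2_c54 := D2.c54
abbrev LD2_c55 := D2.c55
abbrev LD2_c56 := D2.c56
abbrev LD2_c57 := D2.c57
abbrev LD2_c58 := D2.c58
abbrev LD2_c59 := D2.c59
abbrev LD3_c0 := D3.c0
abbrev LD3_c1 := D3.c1
abbrev LD3_c2 := D3.c2
abbrev LD3_c3 := D3.c3
abbrev LD3_c4 := D3.c4
abbrev LD3_c5 := D3.c5
abbrev LD3_c6 := D3.c6
abbrev LD3_c7 := D3.c7
abbrev LD3_c8 := D3.c8
abbrev LD3_c9 := D3.c9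
abbrev LD3_c10 := D3.c10
abbrev LD3_c11 := D3.c11
abbrev LD3_c12 := D3.c12
abbrev LD3_c13 := D3.c13
abbrev LD3_c14 := D3.c14
abbrev LD3_c15 := D3.c15
abbrev LD3_c16 := D3.c16
abbrev LD3_c17 := D3.c17
abbrev LD3_c18 := D3.c18
abbrev LD3_c19 := D3.c19
abbrev LD3_c20 := D3.c20
abbrev LD3_c21 := D3.c21
abbrev LD3_c22 := D3.c22
abbrev LD3_c23 := D3.c23
abbrev LD3_c24 := D3.c24
abbrev LD3_c25 := D3.c25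
abbrev LD3_c26 := D3.c26
abbrev LD3_c27 := D3.c27
abbrev LD3_c28 := D3.c28
abbrev LD3_c29 := D3.c29
abbrev LD3_c30 := D3.c30
abbrev LD3_c31 := D3.c31
abbrev LD3_c32 := D3.c32
abbrev LD3_c33 := D3.c33
abbrev LD3_c34 := D3.c34
abbrev LD3_c35 := D3.c35
abbrev LD3_c36 := D3.c36
abbrev LD3_c37 := D3.c37
abbrev LD3_c38 := D3.c38
abbrev LD3_c39 := D3.c39
abbrev LD3_c40 := D3.c40
abbrev LD3_c41 := D3.c41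
abbrev LD3_c42 := D3.c42
abbrev LD3_c43 := D3.c43
abbrev LD3_c44 := D3.c44
abbrev LD3_c45 := D3.c45
abbrev LD3_c46 := D3.c46
abbrev LD3_c47 := D3.c47
abbrev LD3_c48 := D3.c48
abbrev LD3_c49 := D3.c49
abbrev LD3_c50 := D3.c50
abbrev LD3_c51 := D3.c51
abbrev LD3_c52 := D3.c52
abbrev LD3_c53 := D3.c53
abbrev LD3_c54 := D3.c54
abbrev LD3_c55 := D3.c55
abbrev LD3_c56 := D3.c56
abbrev LD3_c57 := D3.c57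
abbrev LD3_c58 := D3.c58
abbrev LD3_c59 := D3.c59
abbrev LD3_c60 := D3.c60
abbrev LD3_c61 := D3.c61
abbrev LG_g := Gen.g
abbrev Lsl_gt : Gen × Bool := sl_gt
alias Lfl_gt := fl_gt
alias Lpr_gt := pr_gt
abbrev Lsl_gf : Gen × Bool := sl_gf
alias Lfl_gf := fl_gf
alias Lpr_gf := pr_gf
alias Lre_g := re_g
alias Leoe_g := eoe_g
abbrev LG_a := Gen.a
abbrev Lsl_at : Gen × Bool := sl_at
alias Lfl_at := fl_at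
alias Lpr_at := pr_at
abbrev Lsl_af : Gen × Bool := sl_af
alias Lfl_af := fl_af
alias Lpr_af := pr_af
alias Lre_a := re_a
alias Leoe_a := eoe_a
abbrev LG_b := Gen.b
abbrev Lsl_bt : Gen × Bool := sl_bt
alias Lfl_bt := fl_bt
alias Lpr_bt := pr_bt
abbrev Lsl_bf : Gen × Bool := sl_bf
alias Lfl_bf := fl_bf
alias Lpr_bf := pr_bf
alias Lre_b := re_b
alias Leoe_b := eoe_b
abbrev LG_c := Gen.c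
abbrev Lsl_ct : Gen × Bool := sl_ct
alias Lfl_ct := fl_ct
alias Lpr_ct := pr_ct
abbrev Lsl_cf : Gen × Bool := sl_cf
alias Lfl_cf := fl_cf
alias Lpr_cf := pr_cf
alias Lre_c := re_c
alias Leoe_c := eoe_c
abbrev LG_d := Gen.d
abbrev Lsl_dt : Gen × Bool := sl_dt
alias Lfl_dt := fl_dt
alias Lpr_dt := pr_dt
abbrev Lsl_df : Gen × Bool := sl_df
alias Lfl_df := fl_df
alias Lpr_df := pr_df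
alias Lre_d := re_d
alias Leoe_d := eoe_d
abbrev LG_e := Gen.e
abbrev Lsl_et : Gen × Bool := sl_et
alias Lfl_et := fl_et
alias Lpr_et := pr_et
abbrev Lsl_ef : Gen × Bool := sl_ef
alias Lfl_ef := fl_ef
alias Lpr_ef := pr_ef
alias Lre_e := re_e
alias Leoe_e := eoe_e
abbrev LG_f := Gen.f
abbrev Lsl_ft : Gen × Bool := sl_ft
alias Lfl_ft := fl_ft
alias Lpr_ft := pr_ft
abbrev Lsl_ff : Gen × Bool := sl_ff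
alias Lfl_ff := fl_ff
alias Lpr_ff := pr_ff
alias Lre_f := re_f
alias Leoe_f := eoe_f
abbrev LK := Pt.mk
abbrev LQ : Type := Qt rels S
abbrev LP (p : Pt) : LQ := P p
abbrev Led (l : Gen × Bool) (c : LQ) : LQ := ed l c
abbrev LEOK (x : Gen) (p : Pt) : Prop := EntryOK rels S fwd inv o plet idx x p
alias Lpe := pe
alias Lpn := pn
alias Lgr := gr
alias Lpq := pq
alias Lpqs := pqs
alias Llr := lr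
alias Leop := eop
alias Lefun := efun
alias Lecon := econ
theorem Lrfl {α : Sort _} {a : α} : a = a := rfl
alias Lrot0 := rot0
alias Lrot1 := rot1
alias Lrot2 := rot2
alias Lrot3 := rot3
alias Lrot4 := rot4
alias Lrot5 := rot5
alias Lrot6 := rot6
alias Lrot7 := rot7
alias Lrot8 := rot8
alias Lrot9 := rot9
alias Lrot10 := rot10
alias Lrot11 := rot11
alias Lrot12 := rot12
alias Lrot13 := rot13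
alias Lrot14 := rot14
alias Lrot15 := rot15
alias Lrot17 := rot17
alias Lrot18 := rot18
alias Lrot19 := rot19
alias Lrot20 := rot20
alias Lrot21 := rot21
alias Lrot22 := rot22
alias Lrot23 := rot23
alias Lrot24 := rot24
alias Lrot25 := rot25
alias Lrot26 := rot26
alias Lrot27 := rot27
alias Lrot28 := rot28
alias Lrot29 := rot29
alias Lrot30 := rot30
alias Lrot31 := rot31
alias Lrot32 := rot32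
alias Lrot33 := rot33
alias Lrot34 := rot34
alias Lrot35 := rot35
alias Lrot36 := rot36
alias Lrot37 := rot37
alias Lrot38 := rot38
alias Lrot39 := rot39
alias Lrot40 := rot40
alias Lrot41 := rot41
alias Lrot42 := rot42
alias Lrot43 := rot43
alias Lrot44 := rot44
alias Lrot45 := rot45
alias Lrot46 := rot46
alias Lrot47 := rot47
alias Lrot48 := rot48
alias Lrot49 := rot49
alias Lrot50 := rot50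
alias Lrot51 := rot51
alias Lrot52 := rot52
alias Lrot53 := rot53
alias Lrot54 := rot54
alias Lrot56 := rot56
alias Lrot57 := rot57
alias Lrot58 := rot58
alias Lrot59 := rot59
alias Lrot60 := rot60
alias Lrot61 := rot61
alias Lrot62 := rot62
alias Lrot63 := rot63
alias Lrot64 := rot64
alias Lrot65 := rot65
alias Lrot66 := rot66
alias Lrot67 := rot67
alias Lrot68 := rot68
alias Lrot69 := rot69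
alias Lrot70 := rot70
alias Lrot71 := rot71
alias Lrot72 := rot72
alias Lrot73 := rot73
alias Lrot74 := rot74
alias Lrot75 := rot75
alias Lrot76 := rot76
alias Lrot77 := rot77
alias Lrot78 := rot78
alias Lrot79 := rot79
alias Lrot80 := rot80
alias Lrot81 := rot81
alias Lrot82 := rot82
alias Lrot83 := rot83
alias Lrot84 := rot84
alias Lrot85 := rot85
alias Lrot86 := rot86
alias Lrot87 := rot87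
alias Lrot88 := rot88
alias Lrot89 := rot89
alias Lrot90 := rot90
alias Lrot91 := rot91
alias Lrot92 := rot92
alias Lrot93 := rot93
alias Lrot94 := rot94
alias Lrot95 := rot95
alias Lrot96 := rot96
alias Lrot97 := rot97
alias Lrot98 := rot98
alias Lrot99 := rot99
alias Lrot100 := rot100
alias Lrot101 := rot101
alias Lrot102 := rot102
alias Lrot103 := rot103
alias Lrot104 := rot104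
alias Lrot105 := rot105
alias Lrot106 := rot106
alias Lrot107 := rot107
alias Lrot108 := rot108
alias Lrot109 := rot109
alias Lrot110 := rot110
alias Lrot111 := rot111
alias Lrot112 := rot112
alias Lrot114 := rot114
alias Lrot115 := rot115
alias Lrot116 := rot116
alias Lrot117 := rot117
alias Lrot118 := rot118
alias Lrot119 := rot119
alias Lrot120 := rot120
alias Lrot121 := rot121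
alias Lrot122 := rot122
alias Lrot123 := rot123
alias Lrot124 := rot124
alias Lrot125 := rot125
alias Lrot126 := rot126
alias Lrot127 := rot127
alias Lrot128 := rot128
alias Lrot129 := rot129
alias Lrot130 := rot130
alias Lrot131 := rot131
alias Lrot132 := rot132
alias Lrot134 := rot134
alias Lrot135 := rot135
alias Lrot136 := rot136
alias Lrot137 := rot137
alias Lrot138 := rot138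
alias Lrot139 := rot139
alias Lrot140 := rot140
alias Lrot141 := rot141
alias Lrot142 := rot142
alias Lrot143 := rot143
alias Lrot144 := rot144
alias Lrot145 := rot145
alias Lrot147 := rot147
alias Lrot149 := rot149
alias Lrot150 := rot150
alias Lrot151 := rot151
alias Lrot152 := rot152
alias Lrot153 := rot153
alias Lrot154 := rot154
alias Lrot155 := rot155
alias Lrot156 := rot156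
alias Lrot157 := rot157
alias Lrot158 := rot158
alias Lrot159 := rot159
alias Lrot160 := rot160
alias Lrot162 := rot162
alias Lrot163 := rot163
alias Lrot164 := rot164
alias Lrot165 := rot165
alias Lrot166 := rot166
alias Lrot167 := rot167
alias Lrot168 := rot168
alias Lrot169 := rot169
alias Lrot170 := rot170
alias Lrot171 := rot171
alias Lrot172 := rot172
alias Lrot173 := rot173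
alias Lrot175 := rot175
alias Lrot176 := rot176
alias Lrot177 := rot177
alias Lrot180 := rot180
alias Lrot181 := rot181
alias Lrot182 := rot182
alias Lrot183 := rot183
alias Lrot184 := rot184
alias Lrot185 := rot185
alias Lrot186 := rot186
alias Lrot189 := rot189
alias Lrot190 := rot190

section
variable (IH : IHT)
include IH

theorem f539040 : Led Lsl_ct (LP (LK LD1_c16 LD2_c55 LD3_c58)) = (LP (LK LD1_c11 LD2_c32 LD3_c10)) :=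
  Lgr Lrot59 (Lpr_cf (K40.f539031 IH) (Lpn (LP (LK LD1_c11 LD2_c32 LD3_c10))))
theorem f161191 : Led Lsl_bt (LP (LK LD1_c2 LD2_c27 LD3_c0)) = (LP (LK LD1_c4 LD2_c58 LD3_c17)) :=
  Lre_b IH (LK LD1_c2 LD2_c27 LD3_c0) (LK LD1_c4 LD2_c58 LD3_c17) Lrfl Lrfl
theorem f161192 : Led Lsl_ct (LP (LK LD1_c3 LD2_c59 LD3_c18)) = (LP (LK LD1_c2 LD2_c27 LD3_c0)) :=
  Lgr Lrot83 (Lpe (K32.f161190 IH) (Lpe (K35.f161189 IH) (Lpe (K35.f158337 IH) (Lpr_cf (K35.f161114 IH) (Lpe (f161191 IH) (Lpn (LP (LK LD1_c2 LD2_c27 LD3_c0))))))))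
theorem f161205 : Led Lsl_af (LP (LK LD1_c3 LD2_c59 LD3_c18)) = (LP (LK LD1_c2 LD2_c27 LD3_c7)) :=
  Lgr Lrot68 (Lpr_ct (f161192 IH) (Lpr_at (K32.f161203 IH) (Lpr_ct (K36.f161204 IH) (Lpn (LP (LK LD1_c2 LD2_c27 LD3_c7))))))
theorem f421265 : Led Lsl_at (LP (LK LD1_c5 LD2_c13 LD3_c55)) = (LP (LK LD1_c4 LD2_c58 LD3_c30)) :=
  Lgr Lrot67 (Lpe (K32.f421264 IH) (Lpr_af (K32.f421260 IH) (Lpe (K35.f161200 IH) (Lpr_af (f161205 IH) (Lpe (K32.f161216 IH) (Lpn (LP (LK LD1_c4 LD2_c58 LD3_c30))))))))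
theorem f387105 : Led Lsl_ft (LP (LK LD1_c4 LD2_c58 LD3_c30)) = (LP (LK LD1_c9 LD2_c47 LD3_c38)) :=
  Lre_f IH (LK LD1_c4 LD2_c58 LD3_c30) (LK LD1_c9 LD2_c47 LD3_c38) Lrfl Lrfl
theorem f427983 : Led Lsl_af (LP (LK LD1_c5 LD2_c7 LD3_c12)) = (LP (LK LD1_c9 LD2_c47 LD3_c38)) :=
  Lgr Lrot45 (Lpr_ft (K36.f427981 IH) (Lpr_at (f421265 IH) (Lpr_ft (f387105 IH) (Lpn (LP (LK LD1_c9 LD2_c47 LD3_c38))))))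
theorem f557711 : Led Lsl_af (LP (LK LD1_c5 LD2_c0 LD3_c3)) = (LP (LK LD1_c8 LD2_c0 LD3_c9)) :=
  Lgr Lrot50 (Lpr_et (K40.f557709 IH) (Lpe (f427983 IH) (Lpr_et (K36.f427969 IH) (Lpn (LP (LK LD1_c8 LD2_c0 LD3_c9))))))
theorem f158422 : Led Lsl_ft (LP (LK LD1_c3 LD2_c59 LD3_c30)) = (LP (LK LD1_c8 LD2_c0 LD3_c9)) :=
  Lre_f IH (LK LD1_c3 LD2_c59 LD3_c30) (LK LD1_c8 LD2_c0 LD3_c9) Lrfl Lrfl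
theorem f563196 : Led Lsl_ct (LP (LK LD1_c8 LD2_c0 LD3_c8)) = (LP (LK LD1_c15 LD2_c4 LD3_c49)) :=
  Lre_c IH (LK LD1_c8 LD2_c0 LD3_c8) (LK LD1_c15 LD2_c4 LD3_c49) Lrfl Lrfl
theorem f563310 : Led Lsl_dt (LP (LK LD1_c15 LD2_c4 LD3_c49)) = (LP (LK LD1_c24 LD2_c53 LD3_c25)) :=
  Lre_d IH (LK LD1_c15 LD2_c4 LD3_c49) (LK LD1_c24 LD2_c53 LD3_c25) Lrfl Lrfl
theorem f563356 : Led Lsl_ct (LP (LK LD1_c24 LD2_c53 LD3_c25)) = (LP (LK LD1_c29 LD2_c32 LD3_c13)) :=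
  Lgr Lrot41 (Lpe (f563310 IH) (Lpe (f563196 IH) (Lpe (K40.f161657 IH) (Lpr_ft (f158422 IH) (Lpe (f557711 IH) (Lpe (K40.f175582 IH) (Lpe (K40.f175587 IH) (Lpe (K40.f545270 IH) (Lpr_df (K40.f563352 IH) (Lpn (LP (LK LD1_c29 LD2_c32 LD3_c13))))))))))))
theorem f563394 : Led Lsl_gt (LP (LK LD1_c11 LD2_c32 LD3_c10)) = (LP (LK LD1_c11 LD2_c37 LD3_c61)) :=
  Lgr Lrot150 (Lpe (f539040 IH) (Lpe (K40.f99693 IH) (Lpe (K40.f175398 IH) (Lpr_gt (K40.f563388 IH) (Lpr_ct (f563356 IH) (Lpr_gt (K40.f563341 IH) (Lpe (K40.f562810 IH) (Lpr_df (K40.f562817 IH) (Lpe (K40.f546090 IH) (Lpn (LP (LK LD1_c11 LD2_c37 LD3_c61))))))))))))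
theorem f539042 : Led Lsl_gt (LP (LK LD1_c16 LD2_c55 LD3_c58)) = (LP (LK LD1_c9 LD2_c9 LD3_c18)) :=
  Lre_g IH (LK LD1_c16 LD2_c55 LD3_c58) (LK LD1_c9 LD2_c9 LD3_c18) Lrfl Lrfl
theorem f539043 : Led Lsl_dt (LP (LK LD1_c9 LD2_c9 LD3_c18)) = (LP (LK LD1_c17 LD2_c2 LD3_c20)) :=
  Lre_d IH (LK LD1_c9 LD2_c9 LD3_c18) (LK LD1_c17 LD2_c2 LD3_c20) Lrfl Lrfl
theorem f545220 : Led Lsl_dt (LP (LK LD1_c11 LD2_c37 LD3_c61)) = (LP (LK LD1_c5 LD2_c56 LD3_c21)) :=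
  Lre_d IH (LK LD1_c11 LD2_c37 LD3_c61) (LK LD1_c5 LD2_c56 LD3_c21) Lrfl Lrfl
theorem f175589 : Led Lsl_dt (LP (LK LD1_c5 LD2_c0 LD3_c3)) = (LP (LK LD1_c9 LD2_c50 LD3_c41)) :=
  Lre_d IH (LK LD1_c5 LD2_c0 LD3_c3) (LK LD1_c9 LD2_c50 LD3_c41) Lrfl Lrfl
theorem f175586 : Led Lsl_ct (LP (LK LD1_c18 LD2_c1 LD3_c44)) = (LP (LK LD1_c9 LD2_c50 LD3_c41)) :=
  Lre_c IH (LK LD1_c18 LD2_c1 LD3_c44) (LK LD1_c9 LD2_c50 LD3_c41) Lrfl Lrfl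
theorem f563399 : Led Lsl_dt (LP (LK LD1_c26 LD2_c52 LD3_c26)) = (LP (LK LD1_c18 LD2_c1 LD3_c44)) :=
  Lgr Lrot105 (Lpr_gf (K40.f546144 IH) (Lpe (f539043 IH) (Lpe (f539042 IH) (Lpr_cf (K40.f539031 IH) (Lpr_gt (f563394 IH) (Lpr_dt (f545220 IH) (Lpr_gt (K38.f545266 IH) (Lpr_dt (f175589 IH) (Lpe (f175586 IH) (Lpn (LP (LK LD1_c18 LD2_c1 LD3_c44))))))))))))
theorem f562760 : Led Lsl_gt (LP (LK LD1_c20 LD2_c37 LD3_c1)) = (LP (LK LD1_c11 LD2_c38 LD3_c7)) :=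
  Lre_g IH (LK LD1_c20 LD2_c37 LD3_c1) (LK LD1_c11 LD2_c38 LD3_c7) Lrfl Lrfl
theorem f563250 : Led Lsl_dt (LP (LK LD1_c20 LD2_c37 LD3_c1)) = (LP (LK LD1_c29 LD2_c32 LD3_c14)) :=
  Lgr Lrot6 (Lpr_gt (f562760 IH) (Lpr_ct (K40.f562759 IH) (Lpr_gt (K40.f562754 IH) (Lpr_ct (K40.f559803 IH) (Lpe (K40.f562775 IH) (Lpe (K40.f500555 IH) (Lpe (K40.f24473 IH) (Lpr_cf (K40.f563243 IH) (Lpe (K40.f545191 IH) (Lpn (LP (LK LD1_c29 LD2_c32 LD3_c14))))))))))))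
theorem f545193 : Led Lsl_gt (LP (LK LD1_c11 LD2_c38 LD3_c1)) = (LP (LK LD1_c20 LD2_c36 LD3_c48)) :=
  Lre_g IH (LK LD1_c11 LD2_c38 LD3_c1) (LK LD1_c20 LD2_c36 LD3_c48) Lrfl Lrfl
theorem f563241 : Led Lsl_gf (LP (LK LD1_c11 LD2_c38 LD3_c4)) = (LP (LK LD1_c20 LD2_c36 LD3_c48)) :=
  Lgr Lrot76 (Lpr_af (K40.f563224 IH) (Lpe (K40.f553474 IH) (Lpr_gt (f545193 IH) (Lpn (LP (LK LD1_c20 LD2_c36 LD3_c48))))))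
theorem f99756 : Led Lsl_dt (LP (LK LD1_c4 LD2_c25 LD3_c39)) = (LP (LK LD1_c8 LD2_c48 LD3_c52)) :=
  Lre_d IH (LK LD1_c4 LD2_c25 LD3_c39) (LK LD1_c8 LD2_c48 LD3_c52) Lrfl Lrfl
theorem f101325 : Led Lsl_gt (LP (LK LD1_c16 LD2_c22 LD3_c22)) = (LP (LK LD1_c8 LD2_c44 LD3_c51)) :=
  Lre_g IH (LK LD1_c16 LD2_c22 LD3_c22) (LK LD1_c8 LD2_c44 LD3_c51) Lrfl Lrfl
theorem f545922 : Led Lsl_gt (LP (LK LD1_c8 LD2_c48 LD3_c52)) = (LP (LK LD1_c16 LD2_c22 LD3_c22)) :=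
  Lgr Lrot5 (Lpr_ft (K37.f545905 IH) (Lpe (K38.f545880 IH) (Lpe (f101325 IH) (Lpn (LP (LK LD1_c16 LD2_c22 LD3_c22))))))
theorem f563283 : Led Lsl_ct (LP (LK LD1_c16 LD2_c22 LD3_c22)) = (LP (LK LD1_c20 LD2_c36 LD3_c48)) :=
  Lgr Lrot152 (Lpe (f545922 IH) (Lpe (f99756 IH) (Lpe (K31.f500920 IH) (Lpr_ct (K40.f175582 IH) (Lpe (K40.f563185 IH) (Lpr_ct (K40.f198510 IH) (Lpe (K40.f452839 IH) (Lpe (K40.f559841 IH) (Lpr_gf (f563241 IH) (Lpn (LP (LK LD1_c20 LD2_c36 LD3_c48))))))))))))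
theorem f546103 : Led Lsl_dt (LP (LK LD1_c8 LD2_c44 LD3_c51)) = (LP (LK LD1_c4 LD2_c23 LD3_c33)) :=
  Lre_d IH (LK LD1_c8 LD2_c44 LD3_c51) (LK LD1_c4 LD2_c23 LD3_c33) Lrfl Lrfl
theorem f101310 : Led Lsl_at (LP (LK LD1_c2 LD2_c10 LD3_c27)) = (LP (LK LD1_c4 LD2_c25 LD3_c39)) :=
  Lre_a IH (LK LD1_c2 LD2_c10 LD3_c27) (LK LD1_c4 LD2_c25 LD3_c39) Lrfl Lrfl
theorem f542330 : Led Lsl_ft (LP (LK LD1_c4 LD2_c23 LD3_c33)) = (LP (LK LD1_c2 LD2_c10 LD3_c27)) :=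
  Lre_f IH (LK LD1_c4 LD2_c23 LD3_c33) (LK LD1_c2 LD2_c10 LD3_c27) Lrfl Lrfl
theorem f549853 : Led Lsl_gf (LP (LK LD1_c8 LD2_c0 LD3_c6)) = (LP (LK LD1_c4 LD2_c23 LD3_c33)) :=
  Lgr Lrot47 (Lpr_gt (K38.f549851 IH) (Lpe (f101310 IH) (Lpe (f542330 IH) (Lpn (LP (LK LD1_c4 LD2_c23 LD3_c33))))))
theorem f37067 : Led Lsl_dt (LP (LK LD1_c8 LD2_c0 LD3_c6)) = (LP (LK LD1_c15 LD2_c4 LD3_c47)) :=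
  Lre_d IH (LK LD1_c8 LD2_c0 LD3_c6) (LK LD1_c15 LD2_c4 LD3_c47) Lrfl Lrfl
theorem f562782 : Led Lsl_df (LP (LK LD1_c11 LD2_c39 LD3_c43)) = (LP (LK LD1_c17 LD2_c6 LD3_c51)) :=
  Lgr Lrot38 (Lpr_dt (K40.f562775 IH) (Lpn (LP (LK LD1_c17 LD2_c6 LD3_c51))))
theorem f563252 : Led Lsl_df (LP (LK LD1_c20 LD2_c37 LD3_c1)) = (LP (LK LD1_c29 LD2_c32 LD3_c14)) :=
  Lgr Lrot155 (Lpr_gt (f562760 IH) (Lpr_ct (K40.f562759 IH) (Lpr_gt (K40.f562754 IH) (Lpr_ct (K40.f559803 IH) (Lpe (f562782 IH) (Lpe (K40.f500555 IH) (Lpe (K40.f24473 IH) (Lpr_cf (K40.f563243 IH) (Lpe (K40.f545191 IH) (Lpn (LP (LK LD1_c29 LD2_c32 LD3_c14))))))))))))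
theorem f563287 : Led Lsl_cf (LP (LK LD1_c15 LD2_c4 LD3_c47)) = (LP (LK LD1_c20 LD2_c37 LD3_c1)) :=
  Lgr Lrot14 (Lpe (f37067 IH) (Lpr_gf (f549853 IH) (Lpe (f546103 IH) (Lpe (f101325 IH) (Lpr_ct (f563283 IH) (Lpe (f563241 IH) (Lpr_dt (K40.f553438 IH) (Lpr_gt (K40.f563218 IH) (Lpe (f563252 IH) (Lpn (LP (LK LD1_c20 LD2_c37 LD3_c1))))))))))))
theorem f563308 : Led Lsl_ct (LP (LK LD1_c15 LD2_c4 LD3_c47)) = (LP (LK LD1_c20 LD2_c37 LD3_c1)) :=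
  Lgr Lrot59 (Lpr_cf (f563287 IH) (Lpn (LP (LK LD1_c20 LD2_c37 LD3_c1))))
theorem f556626 : Led Lsl_bt (LP (LK LD1_c4 LD2_c26 LD3_c26)) = (LP (LK LD1_c8 LD2_c50 LD3_c19)) :=
  Lre_b IH (LK LD1_c4 LD2_c26 LD3_c26) (LK LD1_c8 LD2_c50 LD3_c19) Lrfl Lrfl
theorem f556677 : Led Lsl_ff (LP (LK LD1_c4 LD2_c26 LD3_c26)) = (LP (LK LD1_c8 LD2_c0 LD3_c6)) :=
  Lgr Lrot25 (Lpr_bt (f556626 IH) (Lpr_ft (K39.f556650 IH) (Lpr_bt (K39.f424928 IH) (Lpn (LP (LK LD1_c8 LD2_c0 LD3_c6))))))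
theorem f175585 : Led Lsl_dt (LP (LK LD1_c9 LD2_c50 LD3_c41)) = (LP (LK LD1_c5 LD2_c0 LD3_c3)) :=
  Lre_d IH (LK LD1_c9 LD2_c50 LD3_c41) (LK LD1_c5 LD2_c0 LD3_c3) Lrfl Lrfl
theorem f563403 : Led Lsl_at (LP (LK LD1_c4 LD2_c26 LD3_c26)) = (LP (LK LD1_c8 LD2_c44 LD3_c50)) :=
  Lgr Lrot33 (Lpr_ff (f556677 IH) (Lpr_dt (f37067 IH) (Lpr_ct (f563308 IH) (Lpr_dt (f563250 IH) (Lpe (K40.f563376 IH) (Lpr_dt (f563399 IH) (Lpr_ct (f175586 IH) (Lpr_dt (f175585 IH) (Lpe (K31.f175579 IH) (Lpn (LP (LK LD1_c8 LD2_c44 LD3_c50))))))))))))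
theorem f209875 : Led Lsl_dt (LP (LK LD1_c8 LD2_c50 LD3_c20)) = (LP (LK LD1_c4 LD2_c26 LD3_c26)) :=
  Lre_d IH (LK LD1_c8 LD2_c50 LD3_c20) (LK LD1_c4 LD2_c26 LD3_c26) Lrfl Lrfl
theorem f563414 : Led Lsl_af (LP (LK LD1_c8 LD2_c50 LD3_c20)) = (LP (LK LD1_c16 LD2_c22 LD3_c20)) :=
  Lgr Lrot117 (Lpr_dt (f209875 IH) (Lpr_at (f563403 IH) (Lpr_dt (K40.f175584 IH) (Lpn (LP (LK LD1_c16 LD2_c22 LD3_c20))))))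
theorem f101365 : Led Lsl_ct (LP (LK LD1_c8 LD2_c50 LD3_c20)) = (LP (LK LD1_c16 LD2_c31 LD3_c14)) :=
  Lre_c IH (LK LD1_c8 LD2_c50 LD3_c20) (LK LD1_c16 LD2_c31 LD3_c14) Lrfl Lrfl
theorem f563419 : Led Lsl_at (LP (LK LD1_c16 LD2_c31 LD3_c14)) = (LP (LK LD1_c20 LD2_c37 LD3_c0)) :=
  Lgr Lrot107 (Lpe (f101365 IH) (Lpr_af (f563414 IH) (Lpe (K40.f545270 IH) (Lpn (LP (LK LD1_c20 LD2_c37 LD3_c0))))))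
theorem f563263 : Led Lsl_gf (LP (LK LD1_c20 LD2_c37 LD3_c1)) = (LP (LK LD1_c11 LD2_c38 LD3_c11)) :=
  Lgr Lrot144 (Lpr_dt (f563250 IH) (Lpr_gt (K40.f545191 IH) (Lpr_dt (K40.f545190 IH) (Lpe (K40.f198266 IH) (Lpe (K38.f119836 IH) (Lpe (K38.f24489 IH) (Lpe (K2.f82145 IH) (Lpe (K40.f82153 IH) (Lpe (K40.f562833 IH) (Lpn (LP (LK LD1_c11 LD2_c38 LD3_c11))))))))))))
theorem f158751 : Led Lsl_dt (LP (LK LD1_c21 LD2_c30 LD3_c8)) = (LP (LK LD1_c12 LD2_c23 LD3_c9)) :=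
  Lre_d IH (LK LD1_c21 LD2_c30 LD3_c8) (LK LD1_c12 LD2_c23 LD3_c9) Lrfl Lrfl
theorem f158752 : Led Lsl_dt (LP (LK LD1_c8 LD2_c49 LD3_c18)) = (LP (LK LD1_c16 LD2_c29 LD3_c51)) :=
  Lre_d IH (LK LD1_c8 LD2_c49 LD3_c18) (LK LD1_c16 LD2_c29 LD3_c51) Lrfl Lrfl
theorem f158753 : Led Lsl_af (LP (LK LD1_c21 LD2_c30 LD3_c8)) = (LP (LK LD1_c16 LD2_c29 LD3_c51)) :=
  Lgr Lrot117 (Lpr_dt (f158751 IH) (Lpr_at (K39.f158744 IH) (Lpr_dt (f158752 IH) (Lpn (LP (LK LD1_c16 LD2_c29 LD3_c51))))))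
theorem f158807 : Led Lsl_et (LP (LK LD1_c8 LD2_c49 LD3_c19)) = (LP (LK LD1_c16 LD2_c29 LD3_c51)) :=
  Lre_e IH (LK LD1_c8 LD2_c49 LD3_c19) (LK LD1_c16 LD2_c29 LD3_c51) Lrfl Lrfl
theorem f424915 : Led Lsl_af (LP (LK LD1_c8 LD2_c49 LD3_c19)) = (LP (LK LD1_c15 LD2_c4 LD3_c47)) :=
  Lgr Lrot50 (Lpr_et (f158807 IH) (Lpe (f158753 IH) (Lpr_et (K39.f163025 IH) (Lpn (LP (LK LD1_c15 LD2_c4 LD3_c47))))))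
theorem f424976 : Led Lsl_ct (LP (LK LD1_c8 LD2_c49 LD3_c19)) = (LP (LK LD1_c16 LD2_c29 LD3_c55)) :=
  Lre_c IH (LK LD1_c8 LD2_c49 LD3_c19) (LK LD1_c16 LD2_c29 LD3_c55) Lrfl Lrfl
theorem f563306 : Led Lsl_at (LP (LK LD1_c16 LD2_c29 LD3_c55)) = (LP (LK LD1_c20 LD2_c37 LD3_c1)) :=
  Lgr Lrot107 (Lpe (f424976 IH) (Lpr_af (f424915 IH) (Lpr_cf (f563287 IH) (Lpn (LP (LK LD1_c20 LD2_c37 LD3_c1))))))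
theorem f563350 : Led Lsl_ft (LP (LK LD1_c20 LD2_c37 LD3_c0)) = (LP (LK LD1_c16 LD2_c29 LD3_c55)) :=
  Lgr Lrot2 (Lpr_gt (K40.f563347 IH) (Lpe (f563263 IH) (Lpe (f563306 IH) (Lpn (LP (LK LD1_c16 LD2_c29 LD3_c55))))))
theorem f563427 : Led Lsl_ff (LP (LK LD1_c16 LD2_c31 LD3_c14)) = (LP (LK LD1_c20 LD2_c37 LD3_c1)) :=
  Lgr Lrot30 (Lpr_at (f563419 IH) (Lpr_ft (f563350 IH) (Lpr_at (f563306 IH) (Lpn (LP (LK LD1_c20 LD2_c37 LD3_c1))))))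
theorem f563436 : Led Lsl_ft (LP (LK LD1_c16 LD2_c31 LD3_c14)) = (LP (LK LD1_c20 LD2_c37 LD3_c1)) :=
  Lgr Lrot48 (Lpr_ff (f563427 IH) (Lpn (LP (LK LD1_c20 LD2_c37 LD3_c1))))
theorem f563442 : Led Lsl_ff (LP (LK LD1_c8 LD2_c50 LD3_c20)) = (LP (LK LD1_c15 LD2_c4 LD3_c47)) :=
  Lgr Lrot23 (Lpr_ct (f101365 IH) (Lpr_ft (f563436 IH) (Lpe (f563287 IH) (Lpn (LP (LK LD1_c15 LD2_c4 LD3_c47))))))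
theorem f563416 : Led Lsl_at (LP (LK LD1_c8 LD2_c50 LD3_c20)) = (LP (LK LD1_c16 LD2_c22 LD3_c20)) :=
  Lgr Lrot100 (Lpr_af (f563414 IH) (Lpn (LP (LK LD1_c16 LD2_c22 LD3_c20))))
theorem f99683 : Led Lsl_ct (LP (LK LD1_c4 LD2_c25 LD3_c39)) = (LP (LK LD1_c2 LD2_c15 LD3_c30)) :=
  Lre_c IH (LK LD1_c4 LD2_c25 LD3_c39) (LK LD1_c2 LD2_c15 LD3_c30) Lrfl Lrfl
theorem f82124 : Led Lsl_ct (LP (LK LD1_c11 LD2_c38 LD3_c17)) = (LP (LK LD1_c5 LD2_c56 LD3_c28)) :=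
  Lre_c IH (LK LD1_c11 LD2_c38 LD3_c17) (LK LD1_c5 LD2_c56 LD3_c28) Lrfl Lrfl
theorem f540517 : Led Lsl_gt (LP (LK LD1_c26 LD2_c55 LD3_c45)) = (LP (LK LD1_c17 LD2_c1 LD3_c18)) :=
  Lre_g IH (LK LD1_c26 LD2_c55 LD3_c45) (LK LD1_c17 LD2_c1 LD3_c18) Lrfl Lrfl
theorem f540518 : Led Lsl_ct (LP (LK LD1_c17 LD2_c0 LD3_c44)) = (LP (LK LD1_c26 LD2_c55 LD3_c45)) :=
  Lre_c IH (LK LD1_c17 LD2_c0 LD3_c44) (LK LD1_c26 LD2_c55 LD3_c45) Lrfl Lrfl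
theorem f71076 : Led Lsl_gt (LP (LK LD1_c9 LD2_c8 LD3_c34)) = (LP (LK LD1_c17 LD2_c0 LD3_c44)) :=
  Lre_g IH (LK LD1_c9 LD2_c8 LD3_c34) (LK LD1_c17 LD2_c0 LD3_c44) Lrfl Lrfl
theorem f420804 : Led Lsl_bt (LP (LK LD1_c17 LD2_c1 LD3_c13)) = (LP (LK LD1_c9 LD2_c8 LD3_c34)) :=
  Lre_b IH (LK LD1_c17 LD2_c1 LD3_c13) (LK LD1_c9 LD2_c8 LD3_c34) Lrfl Lrfl
theorem f37558 : Led Lsl_af (LP (LK LD1_c2 LD2_c26 LD3_c54)) = (LP (LK LD1_c2 LD2_c9 LD3_c57)) :=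
  Lgr Lrot0 (Lpr_at (K1.f37554 IH) (Lpn (LP (LK LD1_c2 LD2_c9 LD3_c57))))
theorem f82134 : Led Lsl_bt (LP (LK LD1_c4 LD2_c24 LD3_c52)) = (LP (LK LD1_c2 LD2_c9 LD3_c57)) :=
  Lre_b IH (LK LD1_c4 LD2_c24 LD3_c52) (LK LD1_c2 LD2_c9 LD3_c57) Lrfl Lrfl
theorem f82135 : Led Lsl_at (LP (LK LD1_c8 LD2_c46 LD3_c60)) = (LP (LK LD1_c4 LD2_c24 LD3_c52)) :=
  Lre_a IH (LK LD1_c8 LD2_c46 LD3_c60) (LK LD1_c4 LD2_c24 LD3_c52) Lrfl Lrfl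
theorem f82136 : Led Lsl_at (LP (LK LD1_c2 LD2_c54 LD3_c32)) = (LP (LK LD1_c5 LD2_c55 LD3_c50)) :=
  Lre_a IH (LK LD1_c2 LD2_c54 LD3_c32) (LK LD1_c5 LD2_c55 LD3_c50) Lrfl Lrfl
theorem f82137 : Led Lsl_bf (LP (LK LD1_c8 LD2_c46 LD3_c60)) = (LP (LK LD1_c5 LD2_c55 LD3_c50)) :=
  Lgr Lrot81 (Lpr_at (f82135 IH) (Lpr_bt (f82134 IH) (Lpe (f37558 IH) (Lpr_bt (K2.f82129 IH) (Lpr_at (f82136 IH) (Lpn (LP (LK LD1_c5 LD2_c55 LD3_c50))))))))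
theorem f442503 : Led Lsl_ct (LP (LK LD1_c5 LD2_c55 LD3_c50)) = (LP (LK LD1_c11 LD2_c36 LD3_c54)) :=
  Lre_c IH (LK LD1_c5 LD2_c55 LD3_c50) (LK LD1_c11 LD2_c36 LD3_c54) Lrfl Lrfl
theorem f442594 : Led Lsl_gt (LP (LK LD1_c11 LD2_c36 LD3_c54)) = (LP (LK LD1_c20 LD2_c35 LD3_c11)) :=
  Lre_g IH (LK LD1_c11 LD2_c36 LD3_c54) (LK LD1_c20 LD2_c35 LD3_c11) Lrfl Lrfl
theorem f540519 : Led Lsl_ct (LP (LK LD1_c17 LD2_c1 LD3_c13)) = (LP (LK LD1_c20 LD2_c35 LD3_c11)) :=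
  Lgr Lrot10 (Lpr_bt (f420804 IH) (Lpr_gt (f71076 IH) (Lpr_ct (f540518 IH) (Lpr_gt (f540517 IH) (Lpr_cf (K39.f540501 IH) (Lpr_bt (K39.f540500 IH) (Lpe (K36.f540497 IH) (Lpr_bf (f82137 IH) (Lpr_ct (f442503 IH) (Lpr_gt (f442594 IH) (Lpn (LP (LK LD1_c20 LD2_c35 LD3_c11)))))))))))))
theorem f420803 : Led Lsl_gt (LP (LK LD1_c4 LD2_c36 LD3_c12)) = (LP (LK LD1_c9 LD2_c8 LD3_c34)) :=
  Lre_g IH (LK LD1_c4 LD2_c36 LD3_c12) (LK LD1_c9 LD2_c8 LD3_c34) Lrfl Lrfl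
theorem f420764 : Led Lsl_bt (LP (LK LD1_c3 LD2_c0 LD3_c60)) = (LP (LK LD1_c4 LD2_c36 LD3_c12)) :=
  Lgr Lrot127 (Lpr_bf (K39.f420759 IH) (Lpn (LP (LK LD1_c4 LD2_c36 LD3_c12))))
theorem f82132 : Led Lsl_ct (LP (LK LD1_c5 LD2_c56 LD3_c28)) = (LP (LK LD1_c11 LD2_c38 LD3_c17)) :=
  Lre_c IH (LK LD1_c5 LD2_c56 LD3_c28) (LK LD1_c11 LD2_c38 LD3_c17) Lrfl Lrfl
theorem f540532 : Led Lsl_gf (LP (LK LD1_c11 LD2_c38 LD3_c17)) = (LP (LK LD1_c20 LD2_c35 LD3_c11)) :=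
  Lgr Lrot126 (Lpe (f82132 IH) (Lpe (K2.f82117 IH) (Lpr_gt (K12.f37572 IH) (Lpr_ct (K18.f37574 IH) (Lpe (K12.f227522 IH) (Lpe (K12.f27263 IH) (Lpr_bt (f420764 IH) (Lpr_gt (f420803 IH) (Lpe (f420804 IH) (Lpr_ct (f540519 IH) (Lpn (LP (LK LD1_c20 LD2_c35 LD3_c11)))))))))))))
theorem f549855 : Led Lsl_gt (LP (LK LD1_c15 LD2_c4 LD3_c47)) = (LP (LK LD1_c17 LD2_c1 LD3_c13)) :=
  Lgr Lrot9 (Lpe (f37067 IH) (Lpr_gt (K38.f549851 IH) (Lpr_ct (f99683 IH) (Lpqs (K37.f542336 IH) (Lpr_gt (K37.f500533 IH) (Lpr_ct (K37.f82071 IH) (Lpe (K2.f82075 IH) (Lpe (f82124 IH) (Lpr_gf (f540532 IH) (Lpe (f540519 IH) (Lpn (LP (LK LD1_c17 LD2_c1 LD3_c13)))))))))))))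
theorem f563464 : Led Lsl_gf (LP (LK LD1_c16 LD2_c22 LD3_c20)) = (LP (LK LD1_c17 LD2_c1 LD3_c13)) :=
  Lgr Lrot76 (Lpe (f563416 IH) (Lpr_ff (f563442 IH) (Lpr_gt (f549855 IH) (Lpn (LP (LK LD1_c17 LD2_c1 LD3_c13))))))
theorem f176364 : Led Lsl_ct (LP (LK LD1_c26 LD2_c26 LD3_c20)) = (LP (LK LD1_c16 LD2_c55 LD3_c60)) :=
  Lre_c IH (LK LD1_c26 LD2_c26 LD3_c20) (LK LD1_c16 LD2_c55 LD3_c60) Lrfl Lrfl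
theorem f540527 : Led Lsl_cf (LP (LK LD1_c17 LD2_c1 LD3_c13)) = (LP (LK LD1_c20 LD2_c35 LD3_c11)) :=
  Lgr Lrot11 (Lpr_ct (f540519 IH) (Lpn (LP (LK LD1_c20 LD2_c35 LD3_c11))))
theorem f442592 : Led Lsl_dt (LP (LK LD1_c20 LD2_c35 LD3_c14)) = (LP (LK LD1_c11 LD2_c36 LD3_c54)) :=
  Lre_d IH (LK LD1_c20 LD2_c35 LD3_c14) (LK LD1_c11 LD2_c36 LD3_c54) Lrfl Lrfl
theorem f563468 : Led Lsl_gf (LP (LK LD1_c26 LD2_c26 LD3_c20)) = (LP (LK LD1_c20 LD2_c35 LD3_c14)) :=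
  Lgr Lrot147 (Lpr_ct (f176364 IH) (Lpr_gt (K40.f563388 IH) (Lpr_ct (f563356 IH) (Lpr_df (K40.f563345 IH) (Lpr_cf (K40.f545272 IH) (Lpr_gf (f563464 IH) (Lpr_cf (f540527 IH) (Lpe (f442594 IH) (Lpe (f442592 IH) (Lpn (LP (LK LD1_c20 LD2_c35 LD3_c14))))))))))))
theorem f562785 : Led Lsl_ft (LP (LK LD1_c20 LD2_c35 LD3_c14)) = (LP (LK LD1_c11 LD2_c39 LD3_c43)) :=
  Lre_f IH (LK LD1_c20 LD2_c35 LD3_c14) (LK LD1_c11 LD2_c39 LD3_c43) Lrfl Lrfl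
theorem f563470 : Led Lsl_at (LP (LK LD1_c11 LD2_c39 LD3_c43)) = (LP (LK LD1_c20 LD2_c35 LD3_c43)) :=
  Lre_a IH (LK LD1_c11 LD2_c39 LD3_c43) (LK LD1_c20 LD2_c35 LD3_c43) Lrfl Lrfl
theorem f563471 : Led Lsl_gt (LP (LK LD1_c26 LD2_c26 LD3_c20)) = (LP (LK LD1_c20 LD2_c35 LD3_c43)) :=
  Lgr Lrot46 (Lpr_gf (f563468 IH) (Lpr_ft (f562785 IH) (Lpr_at (f563470 IH) (Lpn (LP (LK LD1_c20 LD2_c35 LD3_c43))))))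
theorem f540535 : Led Lsl_ct (LP (LK LD1_c20 LD2_c35 LD3_c43)) = (LP (LK LD1_c11 LD2_c37 LD3_c9)) :=
  Lre_c IH (LK LD1_c20 LD2_c35 LD3_c43) (LK LD1_c11 LD2_c37 LD3_c9) Lrfl Lrfl
theorem f500534 : Led Lsl_dt (LP (LK LD1_c5 LD2_c55 LD3_c60)) = (LP (LK LD1_c11 LD2_c37 LD3_c9)) :=
  Lre_d IH (LK LD1_c5 LD2_c55 LD3_c60) (LK LD1_c11 LD2_c37 LD3_c9) Lrfl Lrfl
theorem f72004 : Led Lsl_ct (LP (LK LD1_c2 LD2_c54 LD3_c19)) = (LP (LK LD1_c5 LD2_c55 LD3_c60)) :=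
  Lre_c IH (LK LD1_c2 LD2_c54 LD3_c19) (LK LD1_c5 LD2_c55 LD3_c60) Lrfl Lrfl
theorem f500524 : Led Lsl_ct (LP (LK LD1_c11 LD2_c37 LD3_c5)) = (LP (LK LD1_c5 LD2_c55 LD3_c59)) :=
  Lre_c IH (LK LD1_c11 LD2_c37 LD3_c5) (LK LD1_c5 LD2_c55 LD3_c59) Lrfl Lrfl
theorem f563480 : Led Lsl_gt (LP (LK LD1_c18 LD2_c1 LD3_c44)) = (LP (LK LD1_c11 LD2_c37 LD3_c5)) :=
  Lgr Lrot9 (Lpe (f563399 IH) (Lpr_gt (K40.f175399 IH) (Lpr_ct (K40.f175652 IH) (Lpr_gt (f563471 IH) (Lpr_ct (f540535 IH) (Lpe (f500534 IH) (Lpe (f72004 IH) (Lpe (K40.f424775 IH) (Lpe (f500524 IH) (Lpn (LP (LK LD1_c11 LD2_c37 LD3_c5))))))))))))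
theorem f175590 : Led Lsl_ct (LP (LK LD1_c9 LD2_c50 LD3_c41)) = (LP (LK LD1_c18 LD2_c1 LD3_c44)) :=
  Lre_c IH (LK LD1_c9 LD2_c50 LD3_c41) (LK LD1_c18 LD2_c1 LD3_c44) Lrfl Lrfl
theorem f563407 : Led Lsl_bt (LP (LK LD1_c9 LD2_c50 LD3_c41)) = (LP (LK LD1_c5 LD2_c0 LD3_c4)) :=
  Lre_b IH (LK LD1_c9 LD2_c50 LD3_c41) (LK LD1_c5 LD2_c0 LD3_c4) Lrfl Lrfl
theorem f26703 : Led Lsl_bt (LP (LK LD1_c9 LD2_c14 LD3_c40)) = (LP (LK LD1_c4 LD2_c39 LD3_c29)) :=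
  Lre_b IH (LK LD1_c9 LD2_c14 LD3_c40) (LK LD1_c4 LD2_c39 LD3_c29) Lrfl Lrfl
theorem f26705 : Led Lsl_df (LP (LK LD1_c9 LD2_c14 LD3_c40)) = (LP (LK LD1_c6 LD2_c4 LD3_c10)) :=
  Lgr Lrot12 (Lpr_bt (f26703 IH) (Lpr_dt (K10.f26698 IH) (Lpr_bt (K39.f26704 IH) (Lpn (LP (LK LD1_c6 LD2_c4 LD3_c10))))))
theorem f557697 : Led Lsl_gf (LP (LK LD1_c5 LD2_c14 LD3_c13)) = (LP (LK LD1_c4 LD2_c58 LD3_c34)) :=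
  Lgr Lrot76 (Lpe (K36.f301853 IH) (Lpe (K27.f308039 IH) (Lpr_gt (K40.f557679 IH) (Lpn (LP (LK LD1_c4 LD2_c58 LD3_c34))))))
theorem f558489 : Led Lsl_gt (LP (LK LD1_c9 LD2_c14 LD3_c40)) = (LP (LK LD1_c5 LD2_c0 LD3_c4)) :=
  Lgr Lrot139 (Lpr_df (f26705 IH) (Lpe (K39.f556071 IH) (Lpe (K40.f556075 IH) (Lpr_dt (K40.f558482 IH) (Lpr_gf (K40.f387287 IH) (Lpe (K39.f308071 IH) (Lpr_et (K39.f308072 IH) (Lpr_gf (f557697 IH) (Lpe (K40.f545818 IH) (Lpr_dt (K37.f104896 IH) (Lpn (LP (LK LD1_c5 LD2_c0 LD3_c4)))))))))))))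
theorem f26694 : Led Lsl_bt (LP (LK LD1_c4 LD2_c39 LD3_c29)) = (LP (LK LD1_c9 LD2_c14 LD3_c40)) :=
  Lre_b IH (LK LD1_c4 LD2_c39 LD3_c29) (LK LD1_c9 LD2_c14 LD3_c40) Lrfl Lrfl
theorem f500523 : Led Lsl_ct (LP (LK LD1_c5 LD2_c55 LD3_c59)) = (LP (LK LD1_c11 LD2_c37 LD3_c5)) :=
  Lre_c IH (LK LD1_c5 LD2_c55 LD3_c59) (LK LD1_c11 LD2_c37 LD3_c5) Lrfl Lrfl
theorem f563490 : Led Lsl_bf (LP (LK LD1_c2 LD2_c57 LD3_c52)) = (LP (LK LD1_c5 LD2_c55 LD3_c59)) :=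
  Lgr Lrot165 (Lpe (K10.f185960 IH) (Lpr_ct (K10.f175671 IH) (Lpr_gt (K10.f176724 IH) (Lpe (K11.f176720 IH) (Lpr_bt (f26694 IH) (Lpr_gt (f558489 IH) (Lpe (f563407 IH) (Lpr_ct (f175590 IH) (Lpr_gt (f563480 IH) (Lpe (f500523 IH) (Lpn (LP (LK LD1_c5 LD2_c55 LD3_c59)))))))))))))
theorem f26667 : Led Lsl_dt (LP (LK LD1_c2 LD2_c57 LD3_c52)) = (LP (LK LD1_c2 LD2_c14 LD3_c5)) :=
  Lre_d IH (LK LD1_c2 LD2_c57 LD3_c52) (LK LD1_c2 LD2_c14 LD3_c5) Lrfl Lrfl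
theorem f26670 : Led Lsl_bt (LP (LK LD1_c2 LD2_c14 LD3_c5)) = (LP (LK LD1_c4 LD2_c34 LD3_c17)) :=
  Lre_b IH (LK LD1_c2 LD2_c14 LD3_c5) (LK LD1_c4 LD2_c34 LD3_c17) Lrfl Lrfl
theorem f563496 : Led Lsl_dt (LP (LK LD1_c4 LD2_c34 LD3_c17)) = (LP (LK LD1_c5 LD2_c55 LD3_c59)) :=
  Lgr Lrot79 (Lpe (f26670 IH) (Lpe (f26667 IH) (Lpr_bf (f563490 IH) (Lpn (LP (LK LD1_c5 LD2_c55 LD3_c59))))))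
theorem f442442 : Led Lsl_dt (LP (LK LD1_c1 LD2_c23 LD3_c20)) = (LP (LK LD1_c2 LD2_c54 LD3_c52)) :=
  Lre_d IH (LK LD1_c1 LD2_c23 LD3_c20) (LK LD1_c2 LD2_c54 LD3_c52) Lrfl Lrfl
theorem f563539 : Led Lsl_gt (LP (LK LD1_c2 LD2_c14 LD3_c3)) = (LP (LK LD1_c2 LD2_c17 LD3_c1)) :=
  Lgr Lrot131 (Lpe (K40.f418044 IH) (Lpr_dt (f563496 IH) (Lpe (K40.f442452 IH) (Lpe (f442442 IH) (Lpe (K37.f500533 IH) (Lpq (K37.f542336 IH) (Lpe (K37.f80220 IH) (Lpr_dt (K6.f80219 IH) (Lpe (K4.f26401 IH) (Lpe (K8.f79943 IH) (Lpr_et (K35.f79950 IH) (Lpn (LP (LK LD1_c2 LD2_c17 LD3_c1))))))))))))))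
theorem f563543 : K40.v1545 = (LP (LK LD1_c2 LD2_c17 LD3_c48)) :=
  (Llr Lrot26 (Lpe (K40.f496196 IH) (Lpe (K37.f449978 IH) (Lpr_gt (f563539 IH) (Lpr_gt (K40.f538126 IH) (Lpn (LP (LK LD1_c2 LD2_c17 LD3_c48)))))))).symm
theorem f563550 : Led Lsl_ff (LP (LK LD1_c5 LD2_c43 LD3_c0)) = (LP (LK LD1_c4 LD2_c41 LD3_c26)) :=
  Lgr Lrot19 (Lpr_dt (K40.f558278 IH) (Lpr_ft (K40.f496199 IH) (Lpqs (f563543 IH) (Lpr_dt (K40.f36578 IH) (Lpn (LP (LK LD1_c4 LD2_c41 LD3_c26)))))))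
theorem f563556 : Led Lsl_ft (LP (LK LD1_c5 LD2_c43 LD3_c0)) = (LP (LK LD1_c4 LD2_c41 LD3_c26)) :=
  Lgr Lrot48 (Lpr_ff (f563550 IH) (Lpn (LP (LK LD1_c4 LD2_c41 LD3_c26))))
theorem f563890 : Led Lsl_ft (LP (LK LD1_c5 LD2_c43 LD3_c55)) = (LP (LK LD1_c5 LD2_c49 LD3_c48)) :=
  Lgr Lrot75 (Lpr_bf (K40.f563882 IH) (Lpe (f563556 IH) (Lpr_bf (K40.f558272 IH) (Lpn (LP (LK LD1_c5 LD2_c49 LD3_c48))))))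
theorem f563896 : Led Lsl_ff (LP (LK LD1_c5 LD2_c43 LD3_c55)) = (LP (LK LD1_c5 LD2_c49 LD3_c48)) :=
  Lgr Lrot3 (Lpr_ft (f563890 IH) (Lpn (LP (LK LD1_c5 LD2_c49 LD3_c48))))
theorem f75553 : Led Lsl_et (LP (LK LD1_c1 LD2_c20 LD3_c15)) = (LP (LK LD1_c0 LD2_c37 LD3_c4)) :=
  Lre_e IH (LK LD1_c1 LD2_c20 LD3_c15) (LK LD1_c0 LD2_c37 LD3_c4) Lrfl Lrfl
theorem f75543 : Led Lsl_et (LP (LK LD1_c0 LD2_c39 LD3_c44)) = (LP (LK LD1_c1 LD2_c26 LD3_c3)) :=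
  Lre_e IH (LK LD1_c0 LD2_c39 LD3_c44) (LK LD1_c1 LD2_c26 LD3_c3) Lrfl Lrfl
theorem f75548 : Led Lsl_gt (LP (LK LD1_c1 LD2_c26 LD3_c3)) = (LP (LK LD1_c3 LD2_c0 LD3_c33)) :=
  Lre_g IH (LK LD1_c1 LD2_c26 LD3_c3) (LK LD1_c3 LD2_c0 LD3_c33) Lrfl Lrfl
theorem f75556 : Led Lsl_df (LP (LK LD1_c5 LD2_c43 LD3_c55)) = (LP (LK LD1_c3 LD2_c0 LD3_c33)) :=
  Lgr Lrot135 (Lpr_gt (K40.f75555 IH) (Lpe (K40.f75554 IH) (Lpr_et (f75553 IH) (Lpr_gt (K27.f75552 IH) (Lpe (K36.f75551 IH) (Lpr_dt (K7.f26544 IH) (Lpr_gt (K0.f23682 IH) (Lpr_df (K4.f75506 IH) (Lpr_et (f75543 IH) (Lpr_gt (f75548 IH) (Lpn (LP (LK LD1_c3 LD2_c0 LD3_c33)))))))))))))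
theorem f75558 : Led Lsl_dt (LP (LK LD1_c5 LD2_c43 LD3_c55)) = (LP (LK LD1_c3 LD2_c0 LD3_c33)) :=
  Lgr Lrot42 (Lpr_df (f75556 IH) (Lpn (LP (LK LD1_c3 LD2_c0 LD3_c33))))
theorem f563898 : Led Lsl_ft (LP (LK LD1_c3 LD2_c0 LD3_c33)) = (LP (LK LD1_c2 LD2_c51 LD3_c0)) :=
  Lgr Lrot54 (Lpe (f75558 IH) (Lpr_ff (f563896 IH) (Lpe (K40.f421065 IH) (Lpn (LP (LK LD1_c2 LD2_c51 LD3_c0))))))
theorem f75549 : Led Lsl_et (LP (LK LD1_c5 LD2_c59 LD3_c14)) = (LP (LK LD1_c3 LD2_c0 LD3_c33)) :=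
  Lgr Lrot122 (Lpr_dt (K40.f75547 IH) (Lpr_gt (K38.f75546 IH) (Lpe (K36.f75545 IH) (Lpr_et (K39.f75544 IH) (Lpr_gt (K28.f56886 IH) (Lpr_dt (K7.f26544 IH) (Lpr_gt (K0.f23682 IH) (Lpr_df (K4.f75506 IH) (Lpr_et (f75543 IH) (Lpr_gt (f75548 IH) (Lpn (LP (LK LD1_c3 LD2_c0 LD3_c33)))))))))))))
theorem f421059 : Led Lsl_et (LP (LK LD1_c2 LD2_c51 LD3_c0)) = (LP (LK LD1_c5 LD2_c49 LD3_c49)) :=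
  Lre_e IH (LK LD1_c2 LD2_c51 LD3_c0) (LK LD1_c5 LD2_c49 LD3_c49) Lrfl Lrfl
theorem f562607 : Led Lsl_ef (LP (LK LD1_c5 LD2_c38 LD3_c44)) = (LP (LK LD1_c10 LD2_c15 LD3_c24)) :=
  Lgr Lrot17 (Lpr_gf (K40.f558459 IH) (Lpe (K40.f427721 IH) (Lpr_dt (K40.f427753 IH) (Lpr_gf (K36.f427750 IH) (Lpe (K36.f308032 IH) (Lpq (K40.f537821 IH) (Lpe (K37.f500625 IH) (Lpr_ef (K38.f539338 IH) (Lpr_dt (K36.f75542 IH) (Lpr_gf (K40.f562602 IH) (Lpe (K40.f562568 IH) (Lpn (LP (LK LD1_c10 LD2_c15 LD3_c24))))))))))))))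
theorem f563906 : Led Lsl_ff (LP (LK LD1_c5 LD2_c59 LD3_c14)) = (LP (LK LD1_c5 LD2_c38 LD3_c44)) :=
  Lgr Lrot72 (Lpr_et (f75549 IH) (Lpr_ft (f563898 IH) (Lpr_et (f421059 IH) (Lpe (K40.f562560 IH) (Lpe (f562607 IH) (Lpn (LP (LK LD1_c5 LD2_c38 LD3_c44))))))))
theorem f563914 : Led Lsl_ft (LP (LK LD1_c5 LD2_c59 LD3_c14)) = (LP (LK LD1_c5 LD2_c38 LD3_c44)) :=
  Lgr Lrot48 (Lpr_ff (f563906 IH) (Lpn (LP (LK LD1_c5 LD2_c38 LD3_c44))))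
theorem f545320 : Led Lsl_dt (LP (LK LD1_c5 LD2_c59 LD3_c13)) = (LP (LK LD1_c11 LD2_c42 LD3_c59)) :=
  Lre_d IH (LK LD1_c5 LD2_c59 LD3_c13) (LK LD1_c11 LD2_c42 LD3_c59) Lrfl Lrfl
theorem f24459 : Led Lsl_bt (LP (LK LD1_c2 LD2_c45 LD3_c16)) = (LP (LK LD1_c1 LD2_c18 LD3_c57)) :=
  Lre_b IH (LK LD1_c2 LD2_c45 LD3_c16) (LK LD1_c1 LD2_c18 LD3_c57) Lrfl Lrfl
theorem f211674 : Led Lsl_ct (LP (LK LD1_c4 LD2_c31 LD3_c13)) = (LP (LK LD1_c2 LD2_c45 LD3_c16)) :=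
  Lgr Lrot83 (Lpe (K39.f211673 IH) (Lpr_cf (K12.f211671 IH) (Lpe (K12.f198487 IH) (Lpe (K11.f24248 IH) (Lpe (f24459 IH) (Lpn (LP (LK LD1_c2 LD2_c45 LD3_c16))))))))
theorem f418602 : Led Lsl_ct (LP (LK LD1_c9 LD2_c7 LD3_c1)) = (LP (LK LD1_c4 LD2_c35 LD3_c9)) :=
  Lre_c IH (LK LD1_c9 LD2_c7 LD3_c1) (LK LD1_c4 LD2_c35 LD3_c9) Lrfl Lrfl
theorem f418603 : Led Lsl_dt (LP (LK LD1_c16 LD2_c59 LD3_c11)) = (LP (LK LD1_c9 LD2_c7 LD3_c1)) :=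
  Lre_d IH (LK LD1_c16 LD2_c59 LD3_c11) (LK LD1_c9 LD2_c7 LD3_c1) Lrfl Lrfl
theorem f563924 : Led Lsl_ct (LP (LK LD1_c11 LD2_c42 LD3_c59)) = (LP (LK LD1_c16 LD2_c59 LD3_c11)) :=
  Lgr Lrot41 (Lpe (f545320 IH) (Lpe (K38.f383273 IH) (Lpe (K40.f75547 IH) (Lpr_ft (f563914 IH) (Lpr_at (K40.f24494 IH) (Lpe (f211674 IH) (Lpe (K40.f418598 IH) (Lpe (f418602 IH) (Lpe (f418603 IH) (Lpn (LP (LK LD1_c16 LD2_c59 LD3_c11))))))))))))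
theorem f24497 : Led Lsl_ct (LP (LK LD1_c2 LD2_c54 LD3_c61)) = (LP (LK LD1_c5 LD2_c57 LD3_c27)) :=
  Lre_c IH (LK LD1_c2 LD2_c54 LD3_c61) (LK LD1_c5 LD2_c57 LD3_c27) Lrfl Lrfl
theorem f24500 : Led Lsl_at (LP (LK LD1_c11 LD2_c40 LD3_c3)) = (LP (LK LD1_c5 LD2_c57 LD3_c27)) :=
  Lre_a IH (LK LD1_c11 LD2_c40 LD3_c3) (LK LD1_c5 LD2_c57 LD3_c27) Lrfl Lrfl
theorem f563933 : Led Lsl_ft (LP (LK LD1_c5 LD2_c59 LD3_c13)) = (LP (LK LD1_c11 LD2_c40 LD3_c3)) :=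
  Lgr Lrot142 (Lpr_dt (f545320 IH) (Lpr_ct (f563924 IH) (Lpr_dt (f418603 IH) (Lpr_ct (f418602 IH) (Lpr_dt (K40.f418598 IH) (Lpr_ct (f211674 IH) (Lpe (K39.f24466 IH) (Lpr_ct (f24497 IH) (Lpe (f24500 IH) (Lpn (LP (LK LD1_c11 LD2_c40 LD3_c3))))))))))))
theorem f563937 : Led Lsl_gt (LP (LK LD1_c9 LD2_c48 LD3_c25)) = (LP (LK LD1_c5 LD2_c57 LD3_c27)) :=
  Lgr Lrot46 (Lpr_gf (K38.f545316 IH) (Lpr_ft (f563933 IH) (Lpr_at (f24500 IH) (Lpn (LP (LK LD1_c5 LD2_c57 LD3_c27))))))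
theorem f424545 : Led Lsl_gt (LP (LK LD1_c9 LD2_c48 LD3_c24)) = (LP (LK LD1_c4 LD2_c58 LD3_c61)) :=
  Lre_g IH (LK LD1_c9 LD2_c48 LD3_c24) (LK LD1_c4 LD2_c58 LD3_c61) Lrfl Lrfl
theorem f563943 : Led Lsl_bf (LP (LK LD1_c9 LD2_c48 LD3_c24)) = (LP (LK LD1_c11 LD2_c27 LD3_c33)) :=
  Lgr Lrot165 (Lpr_gt (f424545 IH) (Lpr_ct (K38.f545299 IH) (Lpr_gt (f563937 IH) (Lpe (f24497 IH) (Lpr_bt (K39.f24465 IH) (Lpr_gt (K11.f198559 IH) (Lpe (K35.f71409 IH) (Lpr_ct (K35.f202661 IH) (Lpr_gt (K38.f202656 IH) (Lpe (K38.f549008 IH) (Lpn (LP (LK LD1_c11 LD2_c27 LD3_c33)))))))))))))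
theorem f563947 : Led Lsl_bt (LP (LK LD1_c9 LD2_c48 LD3_c24)) = (LP (LK LD1_c11 LD2_c27 LD3_c33)) :=
  Lgr Lrot127 (Lpr_bf (f563943 IH) (Lpn (LP (LK LD1_c11 LD2_c27 LD3_c33))))
theorem f428276 : Led Lsl_ct (LP (LK LD1_c2 LD2_c55 LD3_c42)) = (LP (LK LD1_c5 LD2_c58 LD3_c35)) :=
  Lre_c IH (LK LD1_c2 LD2_c55 LD3_c42) (LK LD1_c5 LD2_c58 LD3_c35) Lrfl Lrfl
theorem f428278 : Led Lsl_gt (LP (LK LD1_c11 LD2_c41 LD3_c34)) = (LP (LK LD1_c5 LD2_c58 LD3_c35)) :=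
  Lre_g IH (LK LD1_c11 LD2_c41 LD3_c34) (LK LD1_c5 LD2_c58 LD3_c35) Lrfl Lrfl
theorem f563951 : Led Lsl_ct (LP (LK LD1_c9 LD2_c48 LD3_c24)) = (LP (LK LD1_c11 LD2_c41 LD3_c34)) :=
  Lgr Lrot64 (Lpr_bt (f563947 IH) (Lpe (K38.f546839 IH) (Lpr_bf (K40.f563007 IH) (Lpr_ct (K40.f545761 IH) (Lpr_gf (K40.f562604 IH) (Lpe (K40.f428279 IH) (Lpe (K40.f428275 IH) (Lpe (K36.f428258 IH) (Lpr_ct (f428276 IH) (Lpe (f428278 IH) (Lpn (LP (LK LD1_c11 LD2_c41 LD3_c34)))))))))))))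
theorem f563957 : Led Lsl_gf (LP (LK LD1_c9 LD2_c48 LD3_c24)) = (LP (LK LD1_c5 LD2_c0 LD3_c4)) :=
  Lgr Lrot147 (Lpr_ct (f563951 IH) (Lpr_gt (f428278 IH) (Lpr_ct (K36.f428264 IH) (Lpe (K36.f427771 IH) (Lpr_cf (K36.f500659 IH) (Lpq (K36.f539245 IH) (Lpe (K31.f101562 IH) (Lpe (K31.f100571 IH) (Lpe (K31.f100576 IH) (Lpe (K37.f500918 IH) (Lpn (LP (LK LD1_c5 LD2_c0 LD3_c4)))))))))))))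
theorem f501223 : Led Lsl_at (LP (LK LD1_c11 LD2_c27 LD3_c33)) = (LP (LK LD1_c5 LD2_c49 LD3_c19)) :=
  Lre_a IH (LK LD1_c11 LD2_c27 LD3_c33) (LK LD1_c5 LD2_c49 LD3_c19) Lrfl Lrfl
def v1741 : LQ := Led Lsl_gt (LP (LK LD1_c1 LD2_c24 LD3_c44))
theorem f501214 : Led Lsl_gt (LP (LK LD1_c1 LD2_c24 LD3_c44)) = v1741 :=
  Lrfl
theorem f211014 : Led Lsl_et (LP (LK LD1_c1 LD2_c28 LD3_c57)) = (LP (LK LD1_c0 LD2_c41 LD3_c5)) :=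
  Lre_e IH (LK LD1_c1 LD2_c28 LD3_c57) (LK LD1_c0 LD2_c41 LD3_c5) Lrfl Lrfl
theorem f501217 : Led Lsl_dt (LP (LK LD1_c1 LD2_c28 LD3_c57)) = v1741 :=
  Lgr Lrot56 (Lpr_et (f211014 IH) (Lpe (K11.f211010 IH) (Lpe (K6.f69275 IH) (Lpr_dt (K1.f20045 IH) (Lpr_gt (K2.f68533 IH) (Lpr_df (K4.f59565 IH) (Lpr_et (K9.f69272 IH) (Lpe (K9.f172121 IH) (Lpr_dt (K35.f22432 IH) (Lpr_gt (f501214 IH) (Lpn v1741)))))))))))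
theorem f501218 : Led Lsl_af (LP (LK LD1_c2 LD2_c50 LD3_c45)) = v1741 :=
  Lgr Lrot117 (Lpr_dt (K10.f176590 IH) (Lpr_at (K40.f450306 IH) (Lpr_dt (f501217 IH) (Lpn v1741))))
theorem f501221 : Led Lsl_at (LP (LK LD1_c2 LD2_c50 LD3_c45)) = v1741 :=
  Lgr Lrot100 (Lpr_af (f501218 IH) (Lpn v1741))
theorem f172127 : Led Lsl_ct (LP (LK LD1_c2 LD2_c58 LD3_c7)) = (LP (LK LD1_c1 LD2_c24 LD3_c44)) :=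
  Lre_c IH (LK LD1_c2 LD2_c58 LD3_c7) (LK LD1_c1 LD2_c24 LD3_c44) Lrfl Lrfl
theorem f334673 : Led Lsl_ff (LP (LK LD1_c2 LD2_c16 LD3_c45)) = (LP (LK LD1_c1 LD2_c24 LD3_c44)) :=
  Lgr Lrot23 (Lpr_ct (K10.f176614 IH) (Lpr_ft (K35.f334669 IH) (Lpr_ct (f172127 IH) (Lpn (LP (LK LD1_c1 LD2_c24 LD3_c44))))))
theorem f490705 : Led Lsl_at (LP (LK LD1_c2 LD2_c16 LD3_c45)) = K40.v951 :=
  Lgr Lrot66 (Lpr_ff (f334673 IH) (Lpe (K35.f334649 IH) (Lpr_ff (K40.f490704 IH) (Lpn K40.v951))))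
theorem f501215 : Led Lsl_gf K40.v951 = v1741 :=
  Lgr Lrot76 (Lpe (f490705 IH) (Lpr_ff (f334673 IH) (Lpr_gt (f501214 IH) (Lpn v1741))))
theorem f437295 : Led Lsl_gt (LP (LK LD1_c2 LD2_c52 LD3_c35)) = (LP (LK LD1_c1 LD2_c22 LD3_c20)) :=
  Lre_g IH (LK LD1_c2 LD2_c52 LD3_c35) (LK LD1_c1 LD2_c22 LD3_c20) Lrfl Lrfl
theorem f537748 : v1741 = (LP (LK LD1_c2 LD2_c52 LD3_c35)) :=
  Lefun (Lecon (f501215 IH) (K40.f537341 IH)) (Lfl_gt (f437295 IH))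
theorem f537756 : Led Lsl_bt (LP (LK LD1_c2 LD2_c52 LD3_c35)) = (LP (LK LD1_c5 LD2_c52 LD3_c38)) :=
  Lre_b IH (LK LD1_c2 LD2_c52 LD3_c35) (LK LD1_c5 LD2_c52 LD3_c38) Lrfl Lrfl
theorem f563949 : Led Lsl_af (LP (LK LD1_c9 LD2_c48 LD3_c24)) = (LP (LK LD1_c5 LD2_c52 LD3_c38)) :=
  Lgr Lrot36 (Lpr_bt (f563947 IH) (Lpr_at (f501223 IH) (Lpr_bt (K38.f176608 IH) (Lpr_at (f501221 IH) (Lpqs (f537748 IH) (Lpr_bt (f537756 IH) (Lpn (LP (LK LD1_c5 LD2_c52 LD3_c38)))))))))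
theorem f563964 : Led Lsl_ff (LP (LK LD1_c5 LD2_c52 LD3_c38)) = (LP (LK LD1_c9 LD2_c14 LD3_c40)) :=
  Lgr Lrot52 (Lpe (f563949 IH) (Lpr_gf (f563957 IH) (Lpe (f558489 IH) (Lpn (LP (LK LD1_c9 LD2_c14 LD3_c40))))))
theorem f563953 : Led Lsl_cf (LP (LK LD1_c9 LD2_c48 LD3_c24)) = (LP (LK LD1_c11 LD2_c41 LD3_c34)) :=
  Lgr Lrot11 (Lpr_ct (f563951 IH) (Lpn (LP (LK LD1_c11 LD2_c41 LD3_c34))))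
theorem f539404 : Led Lsl_dt (LP (LK LD1_c20 LD2_c41 LD3_c34)) = (LP (LK LD1_c11 LD2_c41 LD3_c34)) :=
  Lre_d IH (LK LD1_c20 LD2_c41 LD3_c34) (LK LD1_c11 LD2_c41 LD3_c34) Lrfl Lrfl
theorem f101559 : Led Lsl_dt (LP (LK LD1_c5 LD2_c43 LD3_c12)) = (LP (LK LD1_c2 LD2_c47 LD3_c36)) :=
  Lre_d IH (LK LD1_c5 LD2_c43 LD3_c12) (LK LD1_c2 LD2_c47 LD3_c36) Lrfl Lrfl
theorem f561227 : Led Lsl_dt (LP (LK LD1_c17 LD2_c54 LD3_c50)) = (LP (LK LD1_c11 LD2_c48 LD3_c1)) :=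
  Lre_d IH (LK LD1_c17 LD2_c54 LD3_c50) (LK LD1_c11 LD2_c48 LD3_c1) Lrfl Lrfl
theorem f562318 : Led Lsl_ct (LP (LK LD1_c11 LD2_c48 LD3_c1)) = (LP (LK LD1_c6 LD2_c1 LD3_c39)) :=
  Lre_c IH (LK LD1_c11 LD2_c48 LD3_c1) (LK LD1_c6 LD2_c1 LD3_c39) Lrfl Lrfl
theorem f175803 : Led Lsl_dt (LP (LK LD1_c6 LD2_c1 LD3_c39)) = (LP (LK LD1_c2 LD2_c56 LD3_c58)) :=
  Lre_d IH (LK LD1_c6 LD2_c1 LD3_c39) (LK LD1_c2 LD2_c56 LD3_c58) Lrfl Lrfl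
theorem f562367 : Led Lsl_ct (LP (LK LD1_c9 LD2_c50 LD3_c51)) = (LP (LK LD1_c17 LD2_c59 LD3_c3)) :=
  Lgr Lrot176 (Lpe (K40.f562366 IH) (Lpe (K40.f176555 IH) (Lpe (K40.f139364 IH) (Lpe (K40.f176563 IH) (Lpe (K36.f176564 IH) (Lpe (K40.f175802 IH) (Lpe (f175803 IH) (Lpe (f562318 IH) (Lpe (f561227 IH) (Lpe (K40.f100503 IH) (Lpe (K40.f100572 IH) (Lpe (K36.f101557 IH) (Lpe (f101559 IH) (Lpe (K40.f545784 IH) (Lpr_df (K40.f562341 IH) (Lpn (LP (LK LD1_c17 LD2_c59 LD3_c3))))))))))))))))))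
theorem f545773 : Led Lsl_dt (LP (LK LD1_c9 LD2_c48 LD3_c43)) = (LP (LK LD1_c17 LD2_c58 LD3_c57)) :=
  Lre_d IH (LK LD1_c9 LD2_c48 LD3_c43) (LK LD1_c17 LD2_c58 LD3_c57) Lrfl Lrfl
theorem f562433 : Led Lsl_gt (LP (LK LD1_c5 LD2_c59 LD3_c19)) = (LP (LK LD1_c11 LD2_c41 LD3_c34)) :=
  Lre_g IH (LK LD1_c5 LD2_c59 LD3_c19) (LK LD1_c11 LD2_c41 LD3_c34) Lrfl Lrfl
theorem f562434 : Led Lsl_dt (LP (LK LD1_c11 LD2_c41 LD3_c34)) = (LP (LK LD1_c20 LD2_c41 LD3_c34)) :=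
  Lre_d IH (LK LD1_c11 LD2_c41 LD3_c34) (LK LD1_c20 LD2_c41 LD3_c34) Lrfl Lrfl
theorem f562435 : Led Lsl_ct (LP (LK LD1_c17 LD2_c58 LD3_c57)) = (LP (LK LD1_c20 LD2_c41 LD3_c34)) :=
  Lgr Lrot7 (Lpe (f545773 IH) (Lpe (K40.f545769 IH) (Lpe (K37.f539891 IH) (Lpe (K40.f539892 IH) (Lpe (f562367 IH) (Lpr_gt (K40.f562429 IH) (Lpr_dt (K36.f500706 IH) (Lpr_gt (f562433 IH) (Lpr_dt (f562434 IH) (Lpn (LP (LK LD1_c20 LD2_c41 LD3_c34))))))))))))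
theorem f26696 : Led Lsl_dt (LP (LK LD1_c9 LD2_c14 LD3_c40)) = (LP (LK LD1_c6 LD2_c4 LD3_c10)) :=
  Lgr Lrot79 (Lpe (f26694 IH) (Lpr_df (K10.f26688 IH) (Lpe (K39.f26695 IH) (Lpn (LP (LK LD1_c6 LD2_c4 LD3_c10))))))
theorem f563974 : Led Lsl_df (LP (LK LD1_c6 LD2_c1 LD3_c26)) = (LP (LK LD1_c5 LD2_c38 LD3_c45)) :=
  Lgr Lrot106 (Lpe (K40.f545774 IH) (Lpr_dt (f545773 IH) (Lpr_ct (f562435 IH) (Lpr_dt (f539404 IH) (Lpe (f563953 IH) (Lpr_af (f563949 IH) (Lpr_ff (f563964 IH) (Lpr_dt (f26696 IH) (Lpe (K39.f198493 IH) (Lpn (LP (LK LD1_c5 LD2_c38 LD3_c45))))))))))))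
theorem f383265 : Led Lsl_et (LP (LK LD1_c1 LD2_c20 LD3_c6)) = (LP (LK LD1_c2 LD2_c47 LD3_c36)) :=
  Lre_e IH (LK LD1_c1 LD2_c20 LD3_c6) (LK LD1_c2 LD2_c47 LD3_c36) Lrfl Lrfl
theorem f563982 : Led Lsl_gf (LP (LK LD1_c5 LD2_c37 LD3_c19)) = (LP (LK LD1_c2 LD2_c45 LD3_c16)) :=
  Lgr Lrot141 (Lpe (K36.f383262 IH) (Lpr_dt (K27.f383251 IH) (Lpr_gt (K27.f174662 IH) (Lpe (K36.f381125 IH) (Lpr_et (f383265 IH) (Lpr_gt (K31.f101562 IH) (Lpr_dt (K36.f383266 IH) (Lpe (K40.f545454 IH) (Lpr_df (f563974 IH) (Lpr_et (K40.f24499 IH) (Lpn (LP (LK LD1_c2 LD2_c45 LD3_c16)))))))))))))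
theorem f557477 : Led Lsl_ct (LP (LK LD1_c6 LD2_c1 LD3_c34)) = (LP (LK LD1_c2 LD2_c56 LD3_c57)) :=
  Lre_c IH (LK LD1_c6 LD2_c1 LD3_c34) (LK LD1_c2 LD2_c56 LD3_c57) Lrfl Lrfl
theorem f450363 : Led Lsl_bt (LP (LK LD1_c5 LD2_c49 LD3_c11)) = (LP (LK LD1_c6 LD2_c17 LD3_c9)) :=
  Lgr Lrot127 (Lpr_bf (K40.f450309 IH) (Lpn (LP (LK LD1_c6 LD2_c17 LD3_c9))))
theorem f179911 : Led Lsl_bt (LP (LK LD1_c2 LD2_c26 LD3_c11)) = (LP (LK LD1_c1 LD2_c10 LD3_c19)) :=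
  Lre_b IH (LK LD1_c2 LD2_c26 LD3_c11) (LK LD1_c1 LD2_c10 LD3_c19) Lrfl Lrfl
theorem f556358 : Led Lsl_gt (LP (LK LD1_c4 LD2_c7 LD3_c14)) = (LP (LK LD1_c4 LD2_c31 LD3_c13)) :=
  Lgr Lrot149 (Lpe (K39.f556062 IH) (Lpr_gf (K39.f556073 IH) (Lpe (f450363 IH) (Lpr_ct (K38.f547108 IH) (Lpr_gf (K39.f556348 IH) (Lpe (K39.f179914 IH) (Lpr_bt (f179911 IH) (Lpe (K12.f185976 IH) (Lpe (f24459 IH) (Lpe (K40.f211821 IH) (Lpn (LP (LK LD1_c4 LD2_c31 LD3_c13)))))))))))))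
theorem f563988 : Led Lsl_gf (LP (LK LD1_c6 LD2_c1 LD3_c34)) = (LP (LK LD1_c5 LD2_c53 LD3_c2)) :=
  Lgr Lrot104 (Lpr_ct (f557477 IH) (Lpr_df (K40.f557463 IH) (Lpe (K40.f557461 IH) (Lpr_gf (f563982 IH) (Lpe (f211674 IH) (Lpe (f556358 IH) (Lpr_df (K39.f556063 IH) (Lpr_gt (K37.f211803 IH) (Lpr_ct (K36.f380378 IH) (Lpn (LP (LK LD1_c5 LD2_c53 LD3_c2))))))))))))
theorem f418969 : Led Lsl_dt (LP (LK LD1_c11 LD2_c32 LD3_c14)) = (LP (LK LD1_c5 LD2_c53 LD3_c2)) :=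
  Lre_d IH (LK LD1_c11 LD2_c32 LD3_c14) (LK LD1_c5 LD2_c53 LD3_c2) Lrfl Lrfl
theorem f387449 : Led Lsl_ct (LP (LK LD1_c6 LD2_c1 LD3_c31)) = (LP (LK LD1_c2 LD2_c56 LD3_c56)) :=
  Lre_c IH (LK LD1_c6 LD2_c1 LD3_c31) (LK LD1_c2 LD2_c56 LD3_c56) Lrfl Lrfl
theorem f539075 : Led Lsl_gf (LP (LK LD1_c11 LD2_c47 LD3_c34)) = (LP (LK LD1_c11 LD2_c32 LD3_c14)) :=
  Lgr Lrot143 (Lpr_dt (K36.f500916 IH) (Lpe (K36.f500878 IH) (Lpe (K36.f383266 IH) (Lpe (K31.f101562 IH) (Lpe (f101559 IH) (Lpe (K28.f101560 IH) (Lpe (f387449 IH) (Lpr_gt (K36.f539025 IH) (Lpr_dt (K38.f418976 IH) (Lpn (LP (LK LD1_c11 LD2_c32 LD3_c14))))))))))))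
theorem f564069 : Led Lsl_gf (LP (LK LD1_c11 LD2_c48 LD3_c1)) = (LP (LK LD1_c11 LD2_c43 LD3_c12)) :=
  Lgr Lrot104 (Lpr_ct (f562318 IH) (Lpe (K40.f539265 IH) (Lpe (K40.f175799 IH) (Lpe (K40.f176565 IH) (Lpe (f557477 IH) (Lpr_gf (f563988 IH) (Lpe (f418969 IH) (Lpe (f539075 IH) (Lpr_ct (K36.f539340 IH) (Lpn (LP (LK LD1_c11 LD2_c43 LD3_c12))))))))))))
theorem f500732 : Led Lsl_ft (LP (LK LD1_c11 LD2_c43 LD3_c12)) = (LP (LK LD1_c5 LD2_c59 LD3_c18)) :=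
  Lre_f IH (LK LD1_c11 LD2_c43 LD3_c12) (LK LD1_c5 LD2_c59 LD3_c18) Lrfl Lrfl
theorem f564078 : Led Lsl_gt (LP (LK LD1_c11 LD2_c48 LD3_c1)) = (LP (LK LD1_c11 LD2_c41 LD3_c36)) :=
  Lgr Lrot46 (Lpr_gf (f564069 IH) (Lpr_ft (f500732 IH) (Lpr_at (K36.f500733 IH) (Lpn (LP (LK LD1_c11 LD2_c41 LD3_c36))))))
theorem f545795 : Led Lsl_dt (LP (LK LD1_c9 LD2_c48 LD3_c44)) = (LP (LK LD1_c17 LD2_c58 LD3_c60)) :=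
  Lre_d IH (LK LD1_c9 LD2_c48 LD3_c44) (LK LD1_c17 LD2_c58 LD3_c60) Lrfl Lrfl
theorem f428277 : Led Lsl_gt (LP (LK LD1_c5 LD2_c58 LD3_c35)) = (LP (LK LD1_c11 LD2_c41 LD3_c33)) :=
  Lre_g IH (LK LD1_c5 LD2_c58 LD3_c35) (LK LD1_c11 LD2_c41 LD3_c33) Lrfl Lrfl
theorem f428340 : Led Lsl_dt (LP (LK LD1_c11 LD2_c41 LD3_c33)) = (LP (LK LD1_c20 LD2_c41 LD3_c33)) :=
  Lre_d IH (LK LD1_c11 LD2_c41 LD3_c33) (LK LD1_c20 LD2_c41 LD3_c33) Lrfl Lrfl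
theorem f564091 : Led Lsl_cf (LP (LK LD1_c17 LD2_c58 LD3_c60)) = (LP (LK LD1_c20 LD2_c41 LD3_c33)) :=
  Lgr Lrot14 (Lpe (f545795 IH) (Lpr_gf (K40.f545793 IH) (Lpe (K40.f559718 IH) (Lpe (K40.f559717 IH) (Lpr_ct (K40.f539266 IH) (Lpr_gt (f564078 IH) (Lpr_dt (K36.f428274 IH) (Lpr_gt (f428277 IH) (Lpr_dt (f428340 IH) (Lpn (LP (LK LD1_c20 LD2_c41 LD3_c33))))))))))))
theorem f545797 : Led Lsl_dt (LP (LK LD1_c17 LD2_c58 LD3_c60)) = (LP (LK LD1_c9 LD2_c48 LD3_c44)) :=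
  Lre_d IH (LK LD1_c17 LD2_c58 LD3_c60) (LK LD1_c9 LD2_c48 LD3_c44) Lrfl Lrfl
theorem f558526 : Led Lsl_dt (LP (LK LD1_c5 LD2_c57 LD3_c6)) = (LP (LK LD1_c5 LD2_c49 LD3_c49)) :=
  Lgr Lrot42 (Lpr_df (K40.f558519 IH) (Lpn (LP (LK LD1_c5 LD2_c49 LD3_c49))))
theorem f24503 : Led Lsl_ct (LP (LK LD1_c5 LD2_c57 LD3_c27)) = (LP (LK LD1_c2 LD2_c54 LD3_c61)) :=
  Lre_c IH (LK LD1_c5 LD2_c57 LD3_c27) (LK LD1_c2 LD2_c54 LD3_c61) Lrfl Lrfl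
theorem f24458 : Led Lsl_bt (LP (LK LD1_c1 LD2_c23 LD3_c25)) = (LP (LK LD1_c2 LD2_c54 LD3_c61)) :=
  Lre_b IH (LK LD1_c1 LD2_c23 LD3_c25) (LK LD1_c2 LD2_c54 LD3_c61) Lrfl Lrfl
theorem f24460 : Led Lsl_dt (LP (LK LD1_c2 LD2_c54 LD3_c61)) = (LP (LK LD1_c2 LD2_c45 LD3_c16)) :=
  Lgr Lrot79 (Lpe (f24458 IH) (Lpr_df (K10.f24456 IH) (Lpe (f24459 IH) (Lpn (LP (LK LD1_c2 LD2_c45 LD3_c16))))))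
theorem f563941 : Led Lsl_df (LP (LK LD1_c9 LD2_c48 LD3_c24)) = (LP (LK LD1_c6 LD2_c17 LD3_c9)) :=
  Lgr Lrot155 (Lpr_gt (f424545 IH) (Lpr_ct (K38.f545299 IH) (Lpr_gt (f563937 IH) (Lpr_ct (f24503 IH) (Lpr_dt (f24460 IH) (Lpe (f211674 IH) (Lpe (f556358 IH) (Lpe (K39.f556062 IH) (Lpr_gf (K39.f556073 IH) (Lpn (LP (LK LD1_c6 LD2_c17 LD3_c9))))))))))))
theorem f562439 : Led Lsl_cf (LP (LK LD1_c17 LD2_c58 LD3_c57)) = (LP (LK LD1_c20 LD2_c41 LD3_c34)) :=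
  Lgr Lrot14 (Lpe (f545773 IH) (Lpe (K40.f545769 IH) (Lpe (K37.f539891 IH) (Lpe (K40.f539892 IH) (Lpe (K40.f562411 IH) (Lpr_gt (K40.f562429 IH) (Lpr_dt (K36.f500706 IH) (Lpr_gt (f562433 IH) (Lpr_dt (f562434 IH) (Lpn (LP (LK LD1_c20 LD2_c41 LD3_c34))))))))))))
theorem f545772 : Led Lsl_dt (LP (LK LD1_c17 LD2_c58 LD3_c57)) = (LP (LK LD1_c9 LD2_c48 LD3_c43)) :=
  Lre_d IH (LK LD1_c17 LD2_c58 LD3_c57) (LK LD1_c9 LD2_c48 LD3_c43) Lrfl Lrfl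
theorem f563127 : Led Lsl_dt (LP (LK LD1_c6 LD2_c1 LD3_c26)) = (LP (LK LD1_c5 LD2_c38 LD3_c45)) :=
  Lgr Lrot79 (Lpr_bf (K40.f563121 IH) (Lpr_df (K10.f185966 IH) (Lpe (K39.f24454 IH) (Lpn (LP (LK LD1_c5 LD2_c38 LD3_c45))))))
theorem f564098 : Led Lsl_ct (LP (LK LD1_c9 LD2_c14 LD3_c40)) = (LP (LK LD1_c11 LD2_c41 LD3_c33)) :=
  Lgr Lrot176 (Lpr_df (f26705 IH) (Lpe (K39.f198495 IH) (Lpe (f563127 IH) (Lpe (K40.f545781 IH) (Lpe (f545772 IH) (Lpr_cf (f562439 IH) (Lpe (f562434 IH) (Lpe (f563951 IH) (Lpr_df (f563941 IH) (Lpe (K39.f421054 IH) (Lpe (f558526 IH) (Lpr_cf (K40.f558504 IH) (Lpe (f545797 IH) (Lpr_cf (f564091 IH) (Lpe (f428340 IH) (Lpn (LP (LK LD1_c11 LD2_c41 LD3_c33))))))))))))))))))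
theorem f563129 : Led Lsl_ft (LP (LK LD1_c6 LD2_c1 LD3_c26)) = (LP (LK LD1_c5 LD2_c49 LD3_c53)) :=
  Lgr Lrot75 (Lpr_bf (K40.f563121 IH) (Lpr_ff (K37.f450028 IH) (Lpe (K40.f186117 IH) (Lpn (LP (LK LD1_c5 LD2_c49 LD3_c53))))))
theorem f564100 : Led Lsl_af (LP (LK LD1_c5 LD2_c57 LD3_c6)) = (LP (LK LD1_c5 LD2_c49 LD3_c53)) :=
  Lgr Lrot109 (Lpr_cf (K40.f558504 IH) (Lpe (f545797 IH) (Lpr_cf (f564091 IH) (Lpe (f428340 IH) (Lpe (f564098 IH) (Lpr_df (f26705 IH) (Lpe (K39.f198495 IH) (Lpe (f563127 IH) (Lpr_ft (f563129 IH) (Lpn (LP (LK LD1_c5 LD2_c49 LD3_c53))))))))))))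
theorem f564105 : Led Lsl_at (LP (LK LD1_c9 LD2_c48 LD3_c44)) = (LP (LK LD1_c11 LD2_c28 LD3_c20)) :=
  Lgr Lrot107 (Lpe (K40.f558497 IH) (Lpr_af (f564100 IH) (Lpe (K40.f186118 IH) (Lpn (LP (LK LD1_c11 LD2_c28 LD3_c20))))))
theorem f564111 : Led Lsl_ff (LP (LK LD1_c9 LD2_c48 LD3_c44)) = (LP (LK LD1_c11 LD2_c42 LD3_c19)) :=
  Lgr Lrot52 (Lpr_at (f564105 IH) (Lpe (K40.f562401 IH) (Lpr_gf (K40.f562604 IH) (Lpn (LP (LK LD1_c11 LD2_c42 LD3_c19))))))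
theorem f562567 : Led Lsl_dt (LP (LK LD1_c20 LD2_c42 LD3_c34)) = (LP (LK LD1_c11 LD2_c42 LD3_c19)) :=
  Lre_d IH (LK LD1_c20 LD2_c42 LD3_c34) (LK LD1_c11 LD2_c42 LD3_c19) Lrfl Lrfl
theorem f564115 : Led Lsl_ft (LP (LK LD1_c17 LD2_c58 LD3_c60)) = (LP (LK LD1_c20 LD2_c42 LD3_c34)) :=
  Lgr Lrot54 (Lpe (f545795 IH) (Lpr_ff (f564111 IH) (Lpe (f562567 IH) (Lpn (LP (LK LD1_c20 LD2_c42 LD3_c34))))))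
theorem f564119 : Led Lsl_af (LP (LK LD1_c17 LD2_c58 LD3_c57)) = (LP (LK LD1_c20 LD2_c42 LD3_c34)) :=
  Lgr Lrot109 (Lpr_cf (f562439 IH) (Lpe (f562434 IH) (Lpe (f563951 IH) (Lpr_df (f563941 IH) (Lpe (K39.f421054 IH) (Lpe (f558526 IH) (Lpr_cf (K40.f558504 IH) (Lpe (f545797 IH) (Lpr_ft (f564115 IH) (Lpn (LP (LK LD1_c20 LD2_c42 LD3_c34))))))))))))
theorem f421069 : Led Lsl_dt (LP (LK LD1_c11 LD2_c28 LD3_c20)) = (LP (LK LD1_c20 LD2_c25 LD3_c53)) :=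
  Lre_d IH (LK LD1_c11 LD2_c28 LD3_c20) (LK LD1_c20 LD2_c25 LD3_c53) Lrfl Lrfl
theorem f564109 : Led Lsl_af (LP (LK LD1_c17 LD2_c58 LD3_c60)) = (LP (LK LD1_c20 LD2_c25 LD3_c53)) :=
  Lgr Lrot117 (Lpr_dt (f545797 IH) (Lpr_at (f564105 IH) (Lpr_dt (f421069 IH) (Lpn (LP (LK LD1_c20 LD2_c25 LD3_c53))))))
theorem f564129 : Led Lsl_ft (LP (LK LD1_c17 LD2_c58 LD3_c57)) = (LP (LK LD1_c20 LD2_c25 LD3_c53)) :=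
  Lgr Lrot101 (Lpr_af (f564119 IH) (Lpe (f564115 IH) (Lpr_af (f564109 IH) (Lpn (LP (LK LD1_c20 LD2_c25 LD3_c53))))))
theorem f176492 : Led Lsl_dt (LP (LK LD1_c11 LD2_c20 LD3_c38)) = (LP (LK LD1_c20 LD2_c18 LD3_c4)) :=
  Lre_d IH (LK LD1_c11 LD2_c20 LD3_c38) (LK LD1_c20 LD2_c18 LD3_c4) Lrfl Lrfl
theorem f558528 : Led Lsl_gf (LP (LK LD1_c17 LD2_c58 LD3_c60)) = (LP (LK LD1_c20 LD2_c18 LD3_c4)) :=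
  Lgr Lrot143 (Lpr_dt (f545797 IH) (Lpe (K40.f558497 IH) (Lpr_df (K40.f558519 IH) (Lpe (K39.f556076 IH) (Lpe (K39.f442636 IH) (Lpe (K37.f176455 IH) (Lpe (K37.f24005 IH) (Lpr_gt (K40.f176491 IH) (Lpr_dt (f176492 IH) (Lpn (LP (LK LD1_c20 LD2_c18 LD3_c4))))))))))))
theorem f564140 : Led Lsl_gt (LP (LK LD1_c17 LD2_c58 LD3_c57)) = (LP (LK LD1_c20 LD2_c18 LD3_c4)) :=
  Lgr Lrot5 (Lpr_ft (f564129 IH) (Lpe (f564109 IH) (Lpr_gf (f558528 IH) (Lpn (LP (LK LD1_c20 LD2_c18 LD3_c4))))))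
theorem f559507 : Led Lsl_dt (LP (LK LD1_c20 LD2_c18 LD3_c4)) = (LP (LK LD1_c11 LD2_c20 LD3_c38)) :=
  Lre_d IH (LK LD1_c20 LD2_c18 LD3_c4) (LK LD1_c11 LD2_c20 LD3_c38) Lrfl Lrfl
theorem f545341 : Led Lsl_df (LP (LK LD1_c11 LD2_c20 LD3_c32)) = (LP (LK LD1_c11 LD2_c43 LD3_c10)) :=
  Lgr Lrot38 (Lpr_dt (K38.f545332 IH) (Lpn (LP (LK LD1_c11 LD2_c43 LD3_c10))))
theorem f545350 : Led Lsl_gt (LP (LK LD1_c11 LD2_c43 LD3_c9)) = (LP (LK LD1_c5 LD2_c59 LD3_c18)) :=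
  Lre_g IH (LK LD1_c11 LD2_c43 LD3_c9) (LK LD1_c5 LD2_c59 LD3_c18) Lrfl Lrfl
theorem f562616 : Led Lsl_ct (LP (LK LD1_c11 LD2_c40 LD3_c8)) = (LP (LK LD1_c11 LD2_c43 LD3_c9)) :=
  Lgr Lrot152 (Lpe (K40.f562395 IH) (Lpe (K40.f545788 IH) (Lpr_gt (K40.f562609 IH) (Lpr_ct (K40.f562566 IH) (Lpe (K40.f562602 IH) (Lpr_ct (K38.f500888 IH) (Lpr_df (f545341 IH) (Lpe (K36.f500703 IH) (Lpe (f545350 IH) (Lpn (LP (LK LD1_c11 LD2_c43 LD3_c9))))))))))))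
theorem f539145 : Led Lsl_ct (LP (LK LD1_c11 LD2_c32 LD3_c26)) = (LP (LK LD1_c5 LD2_c53 LD3_c10)) :=
  Lre_c IH (LK LD1_c11 LD2_c32 LD3_c26) (LK LD1_c5 LD2_c53 LD3_c10) Lrfl Lrfl
theorem f72512 : Led Lsl_ct (LP (LK LD1_c9 LD2_c46 LD3_c25)) = (LP (LK LD1_c4 LD2_c57 LD3_c45)) :=
  Lre_c IH (LK LD1_c9 LD2_c46 LD3_c25) (LK LD1_c4 LD2_c57 LD3_c45) Lrfl Lrfl
theorem f500398 : Led Lsl_ct (LP (LK LD1_c5 LD2_c53 LD3_c10)) = (LP (LK LD1_c11 LD2_c32 LD3_c26)) :=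
  Lre_c IH (LK LD1_c5 LD2_c53 LD3_c10) (LK LD1_c11 LD2_c32 LD3_c26) Lrfl Lrfl
theorem f539138 : Led Lsl_gf (LP (LK LD1_c9 LD2_c46 LD3_c25)) = (LP (LK LD1_c11 LD2_c32 LD3_c26)) :=
  Lgr Lrot104 (Lpr_ct (f72512 IH) (Lpe (K40.f72507 IH) (Lpe (K37.f176813 IH) (Lpe (K36.f427519 IH) (Lpr_cf (K36.f500885 IH) (Lpqs (K36.f539086 IH) (Lpe (K36.f24262 IH) (Lpe (K36.f211076 IH) (Lpr_gt (K40.f450567 IH) (Lpr_ct (f500398 IH) (Lpn (LP (LK LD1_c11 LD2_c32 LD3_c26)))))))))))))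
theorem f562528 : Led Lsl_df (LP (LK LD1_c11 LD2_c43 LD3_c9)) = (LP (LK LD1_c9 LD2_c46 LD3_c25)) :=
  Lgr Lrot153 (Lpr_gt (f545350 IH) (Lpr_dt (K38.f500670 IH) (Lpe (K36.f427710 IH) (Lpe (K36.f75545 IH) (Lpe (K36.f428177 IH) (Lpe (K36.f500697 IH) (Lpr_gf (K40.f562524 IH) (Lpe (f539145 IH) (Lpe (f539138 IH) (Lpn (LP (LK LD1_c9 LD2_c46 LD3_c25))))))))))))
theorem f539144 : Led Lsl_dt (LP (LK LD1_c20 LD2_c29 LD3_c15)) = (LP (LK LD1_c11 LD2_c32 LD3_c26)) :=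
  Lre_d IH (LK LD1_c20 LD2_c29 LD3_c15) (LK LD1_c11 LD2_c32 LD3_c26) Lrfl Lrfl
theorem f564142 : Led Lsl_gt (LP (LK LD1_c20 LD2_c41 LD3_c34)) = (LP (LK LD1_c20 LD2_c29 LD3_c15)) :=
  Lgr Lrot180 (Lpe (f562439 IH) (Lpr_gt (f564140 IH) (Lpr_dt (f559507 IH) (Lpr_gt (K40.f557778 IH) (Lpr_dt (K40.f539325 IH) (Lpr_ct (f562616 IH) (Lpr_df (f562528 IH) (Lpr_gf (f539138 IH) (Lpe (f539144 IH) (Lpn (LP (LK LD1_c20 LD2_c29 LD3_c15))))))))))))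
theorem f442640 : Led Lsl_ct (LP (LK LD1_c11 LD2_c20 LD3_c34)) = (LP (LK LD1_c5 LD2_c45 LD3_c4)) :=
  Lre_c IH (LK LD1_c11 LD2_c20 LD3_c34) (LK LD1_c5 LD2_c45 LD3_c4) Lrfl Lrfl
theorem f442639 : Led Lsl_dt (LP (LK LD1_c20 LD2_c17 LD3_c60)) = (LP (LK LD1_c11 LD2_c20 LD3_c34)) :=
  Lre_d IH (LK LD1_c20 LD2_c17 LD3_c60) (LK LD1_c11 LD2_c20 LD3_c34) Lrfl Lrfl
theorem f539146 : Led Lsl_dt (LP (LK LD1_c11 LD2_c32 LD3_c26)) = (LP (LK LD1_c20 LD2_c29 LD3_c15)) :=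
  Lre_d IH (LK LD1_c11 LD2_c32 LD3_c26) (LK LD1_c20 LD2_c29 LD3_c15) Lrfl Lrfl
theorem f562520 : Led Lsl_cf (LP (LK LD1_c20 LD2_c17 LD3_c60)) = (LP (LK LD1_c20 LD2_c29 LD3_c15)) :=
  Lgr Lrot116 (Lpr_dt (f442639 IH) (Lpr_ct (f442640 IH) (Lpr_dt (K39.f442636 IH) (Lpr_ct (K40.f556102 IH) (Lpr_af (K36.f427719 IH) (Lpe (K36.f427706 IH) (Lpr_dt (K40.f562514 IH) (Lpr_ct (f500398 IH) (Lpr_dt (f539146 IH) (Lpn (LP (LK LD1_c20 LD2_c29 LD3_c15))))))))))))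
theorem f562459 : Led Lsl_gf (LP (LK LD1_c11 LD2_c20 LD3_c34)) = (LP (LK LD1_c9 LD2_c48 LD3_c40)) :=
  Lgr Lrot129 (Lpe (K37.f176456 IH) (Lpr_bt (K40.f562449 IH) (Lpr_gt (K40.f450570 IH) (Lpe (K40.f555902 IH) (Lpr_ct (K40.f500518 IH) (Lpr_gt (K40.f559672 IH) (Lpe (K40.f548303 IH) (Lpr_bt (K40.f548299 IH) (Lpe (K40.f539888 IH) (Lpr_ct (K36.f539841 IH) (Lpn (LP (LK LD1_c9 LD2_c48 LD3_c40)))))))))))))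
theorem f442635 : Led Lsl_dt (LP (LK LD1_c11 LD2_c20 LD3_c34)) = (LP (LK LD1_c20 LD2_c17 LD3_c60)) :=
  Lre_d IH (LK LD1_c11 LD2_c20 LD3_c34) (LK LD1_c20 LD2_c17 LD3_c60) Lrfl Lrfl
theorem f24544 : Led Lsl_ct (LP (LK LD1_c5 LD2_c53 LD3_c7)) = (LP (LK LD1_c2 LD2_c52 LD3_c52)) :=
  Lre_c IH (LK LD1_c5 LD2_c53 LD3_c7) (LK LD1_c2 LD2_c52 LD3_c52) Lrfl Lrfl
theorem f24545 : Led Lsl_dt (LP (LK LD1_c11 LD2_c32 LD3_c22)) = (LP (LK LD1_c5 LD2_c53 LD3_c7)) :=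
  Lre_d IH (LK LD1_c11 LD2_c32 LD3_c22) (LK LD1_c5 LD2_c53 LD3_c7) Lrfl Lrfl
theorem f562461 : Led Lsl_gt (LP (LK LD1_c20 LD2_c17 LD3_c60)) = (LP (LK LD1_c11 LD2_c32 LD3_c22)) :=
  Lgr Lrot49 (Lpe (f442635 IH) (Lpr_gf (f562459 IH) (Lpe (K36.f539841 IH) (Lpr_gt (K40.f559708 IH) (Lpe (K40.f559706 IH) (Lpe (K40.f548701 IH) (Lpr_dt (K38.f24538 IH) (Lpe (f24544 IH) (Lpe (f24545 IH) (Lpn (LP (LK LD1_c11 LD2_c32 LD3_c22))))))))))))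
theorem f24543 : Led Lsl_ct (LP (LK LD1_c11 LD2_c32 LD3_c22)) = (LP (LK LD1_c20 LD2_c29 LD3_c8)) :=
  Lre_c IH (LK LD1_c11 LD2_c32 LD3_c22) (LK LD1_c20 LD2_c29 LD3_c8) Lrfl Lrfl
theorem f450266 : Led Lsl_ff (LP (LK LD1_c4 LD2_c31 LD3_c13)) = (LP (LK LD1_c2 LD2_c45 LD3_c9)) :=
  Lgr Lrot25 (Lpr_bt (K39.f211828 IH) (Lpr_ft (K38.f450264 IH) (Lpr_bt (K38.f24536 IH) (Lpn (LP (LK LD1_c2 LD2_c45 LD3_c9))))))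
theorem f24493 : Led Lsl_at (LP (LK LD1_c2 LD2_c54 LD3_c61)) = (LP (LK LD1_c5 LD2_c57 LD3_c26)) :=
  Lre_a IH (LK LD1_c2 LD2_c54 LD3_c61) (LK LD1_c5 LD2_c57 LD3_c26) Lrfl Lrfl
theorem f24495 : Led Lsl_dt (LP (LK LD1_c5 LD2_c57 LD3_c26)) = (LP (LK LD1_c5 LD2_c38 LD3_c44)) :=
  Lgr Lrot44 (Lpe (f24493 IH) (Lpr_df (K39.f24466 IH) (Lpe (K40.f24494 IH) (Lpn (LP (LK LD1_c5 LD2_c38 LD3_c44))))))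
theorem f24505 : Led Lsl_ct (LP (LK LD1_c11 LD2_c40 LD3_c3)) = (LP (LK LD1_c5 LD2_c57 LD3_c26)) :=
  Lre_c IH (LK LD1_c11 LD2_c40 LD3_c3) (LK LD1_c5 LD2_c57 LD3_c26) Lrfl Lrfl
theorem f24542 : Led Lsl_dt (LP (LK LD1_c5 LD2_c53 LD3_c7)) = (LP (LK LD1_c11 LD2_c32 LD3_c22)) :=
  Lre_d IH (LK LD1_c5 LD2_c53 LD3_c7) (LK LD1_c11 LD2_c32 LD3_c22) Lrfl Lrfl
theorem f450441 : Led Lsl_df (LP (LK LD1_c11 LD2_c40 LD3_c3)) = (LP (LK LD1_c20 LD2_c29 LD3_c8)) :=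
  Lgr Lrot13 (Lpr_ct (f24505 IH) (Lpr_dt (f24495 IH) (Lpe (K40.f211831 IH) (Lpe (K40.f211825 IH) (Lpr_ff (f450266 IH) (Lpr_dt (K38.f24538 IH) (Lpr_ct (K38.f24541 IH) (Lpr_dt (f24542 IH) (Lpr_ct (f24543 IH) (Lpn (LP (LK LD1_c20 LD2_c29 LD3_c8))))))))))))
theorem f450445 : Led Lsl_dt (LP (LK LD1_c11 LD2_c40 LD3_c3)) = (LP (LK LD1_c20 LD2_c29 LD3_c8)) :=
  Lgr Lrot42 (Lpr_df (f450441 IH) (Lpn (LP (LK LD1_c20 LD2_c29 LD3_c8))))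
theorem f24510 : Led Lsl_ct (LP (LK LD1_c5 LD2_c57 LD3_c26)) = (LP (LK LD1_c11 LD2_c40 LD3_c3)) :=
  Lre_c IH (LK LD1_c5 LD2_c57 LD3_c26) (LK LD1_c11 LD2_c40 LD3_c3) Lrfl Lrfl
theorem f564150 : Led Lsl_gt (LP (LK LD1_c2 LD2_c55 LD3_c42)) = (LP (LK LD1_c5 LD2_c57 LD3_c26)) :=
  Lgr Lrot150 (Lpe (K36.f428264 IH) (Lpe (f428278 IH) (Lpe (f539404 IH) (Lpr_gt (f564142 IH) (Lpe (f562520 IH) (Lpr_gt (f562461 IH) (Lpr_ct (f24543 IH) (Lpe (f450445 IH) (Lpe (f24510 IH) (Lpn (LP (LK LD1_c5 LD2_c57 LD3_c26))))))))))))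
theorem f562534 : Led Lsl_gf (LP (LK LD1_c6 LD2_c7 LD3_c59)) = (LP (LK LD1_c5 LD2_c38 LD3_c44)) :=
  Lgr Lrot144 (Lpr_dt (K39.f555921 IH) (Lpr_gt (K39.f211082 IH) (Lpr_dt (K36.f211076 IH) (Lpe (K36.f211061 IH) (Lpe (K40.f211080 IH) (Lpe (K40.f211081 IH) (Lpe (K40.f559704 IH) (Lpr_gf (K40.f562532 IH) (Lpr_cf (K40.f211831 IH) (Lpn (LP (LK LD1_c5 LD2_c38 LD3_c44))))))))))))
theorem f539136 : Led Lsl_ct (LP (LK LD1_c11 LD2_c32 LD3_c29)) = (LP (LK LD1_c5 LD2_c53 LD3_c11)) :=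
  Lre_c IH (LK LD1_c11 LD2_c32 LD3_c29) (LK LD1_c5 LD2_c53 LD3_c11) Lrfl Lrfl
theorem f555918 : Led Lsl_dt (LP (LK LD1_c20 LD2_c29 LD3_c18)) = (LP (LK LD1_c11 LD2_c32 LD3_c29)) :=
  Lre_d IH (LK LD1_c20 LD2_c29 LD3_c18) (LK LD1_c11 LD2_c32 LD3_c29) Lrfl Lrfl
theorem f564154 : Led Lsl_gt (LP (LK LD1_c20 LD2_c41 LD3_c33)) = (LP (LK LD1_c20 LD2_c29 LD3_c18)) :=
  Lgr Lrot49 (Lpe (f428340 IH) (Lpe (f428277 IH) (Lpe (f428276 IH) (Lpr_gt (f564150 IH) (Lpr_dt (f24495 IH) (Lpe (f562534 IH) (Lpr_dt (K39.f555921 IH) (Lpe (f539136 IH) (Lpe (f555918 IH) (Lpn (LP (LK LD1_c20 LD2_c29 LD3_c18))))))))))))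
theorem f564087 : Led Lsl_ct (LP (LK LD1_c17 LD2_c58 LD3_c60)) = (LP (LK LD1_c20 LD2_c41 LD3_c33)) :=
  Lgr Lrot7 (Lpe (f545795 IH) (Lpr_gf (K40.f545793 IH) (Lpe (K40.f559718 IH) (Lpe (K40.f559717 IH) (Lpe (f562318 IH) (Lpr_gt (f564078 IH) (Lpr_dt (K36.f428274 IH) (Lpr_gt (f428277 IH) (Lpr_dt (f428340 IH) (Lpn (LP (LK LD1_c20 LD2_c41 LD3_c33))))))))))))
theorem f387416 : Led Lsl_ct (LP (LK LD1_c5 LD2_c57 LD3_c30)) = (LP (LK LD1_c2 LD2_c55 LD3_c1)) :=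
  Lre_c IH (LK LD1_c5 LD2_c57 LD3_c30) (LK LD1_c2 LD2_c55 LD3_c1) Lrfl Lrfl
theorem f386647 : Led Lsl_dt (LP (LK LD1_c11 LD2_c20 LD3_c36)) = (LP (LK LD1_c20 LD2_c18 LD3_c1)) :=
  Lre_d IH (LK LD1_c11 LD2_c20 LD3_c36) (LK LD1_c20 LD2_c18 LD3_c1) Lrfl Lrfl
theorem f564156 : Led Lsl_cf (LP (LK LD1_c20 LD2_c18 LD3_c1)) = (LP (LK LD1_c20 LD2_c29 LD3_c18)) :=
  Lgr Lrot99 (Lpe (f386647 IH) (Lpe (K40.f386646 IH) (Lpe (K27.f386660 IH) (Lpe (f387416 IH) (Lpe (K40.f557778 IH) (Lpe (f559507 IH) (Lpe (f558528 IH) (Lpr_ct (f564087 IH) (Lpr_gt (f564154 IH) (Lpn (LP (LK LD1_c20 LD2_c29 LD3_c18))))))))))))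
theorem f564161 : Led Lsl_ct (LP (LK LD1_c20 LD2_c18 LD3_c1)) = (LP (LK LD1_c20 LD2_c29 LD3_c18)) :=
  Lgr Lrot59 (Lpr_cf (f564156 IH) (Lpn (LP (LK LD1_c20 LD2_c29 LD3_c18))))
theorem f426323 : Led Lsl_dt (LP (LK LD1_c3 LD2_c0 LD3_c12)) = (LP (LK LD1_c6 LD2_c7 LD3_c58)) :=
  Lre_d IH (LK LD1_c3 LD2_c0 LD3_c12) (LK LD1_c6 LD2_c7 LD3_c58) Lrfl Lrfl
theorem f562491 : Led Lsl_df (LP (LK LD1_c6 LD2_c7 LD3_c59)) = (LP (LK LD1_c5 LD2_c53 LD3_c11)) :=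
  Lgr Lrot78 (Lpr_ft (K36.f427718 IH) (Lpr_dt (f426323 IH) (Lpr_ft (K40.f562487 IH) (Lpn (LP (LK LD1_c5 LD2_c53 LD3_c11))))))
theorem f564165 : Led Lsl_cf (LP (LK LD1_c6 LD2_c8 LD3_c51)) = (LP (LK LD1_c6 LD2_c7 LD3_c59)) :=
  Lgr Lrot102 (Lpr_af (K40.f557452 IH) (Lpr_ff (K40.f558445 IH) (Lpe (K27.f386640 IH) (Lpr_ct (K40.f386646 IH) (Lpr_dt (f386647 IH) (Lpr_ct (f564161 IH) (Lpr_dt (f555918 IH) (Lpr_ct (f539136 IH) (Lpe (f562491 IH) (Lpn (LP (LK LD1_c6 LD2_c7 LD3_c59))))))))))))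
theorem f559641 : Led Lsl_ct (LP (LK LD1_c5 LD2_c12 LD3_c28)) = (LP (LK LD1_c3 LD2_c0 LD3_c12)) :=
  Lgr Lrot59 (Lpr_cf (K40.f559637 IH) (Lpn (LP (LK LD1_c3 LD2_c0 LD3_c12))))
theorem f564171 : Led Lsl_ft (LP (LK LD1_c6 LD2_c8 LD3_c51)) = (LP (LK LD1_c5 LD2_c12 LD3_c28)) :=
  Lgr Lrot4 (Lpr_cf (f564165 IH) (Lpe (K36.f427703 IH) (Lpe (f559641 IH) (Lpn (LP (LK LD1_c5 LD2_c12 LD3_c28))))))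
theorem f558441 : Led Lsl_cf (LP (LK LD1_c6 LD2_c7 LD3_c53)) = (LP (LK LD1_c5 LD2_c6 LD3_c31)) :=
  Lgr Lrot108 (Lpr_ft (K36.f427706 IH) (Lpr_ct (K40.f557461 IH) (Lpr_ft (K40.f558437 IH) (Lpn (LP (LK LD1_c5 LD2_c6 LD3_c31))))))
theorem f559639 : Led Lsl_at (LP (LK LD1_c5 LD2_c12 LD3_c28)) = (LP (LK LD1_c5 LD2_c6 LD3_c31)) :=
  Lgr Lrot107 (Lpr_cf (K40.f559637 IH) (Lpe (K40.f427702 IH) (Lpr_cf (f558441 IH) (Lpn (LP (LK LD1_c5 LD2_c6 LD3_c31))))))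
theorem f564192 : Led Lsl_gt (LP (LK LD1_c5 LD2_c49 LD3_c49)) = (LP (LK LD1_c5 LD2_c6 LD3_c31)) :=
  Lgr Lrot46 (Lpe (K39.f556076 IH) (Lpr_ft (f564171 IH) (Lpr_at (f559639 IH) (Lpn (LP (LK LD1_c5 LD2_c6 LD3_c31))))))
theorem f501342 : Led Lsl_bf (LP (LK LD1_c3 LD2_c0 LD3_c9)) = K40.v1763 :=
  Lgr Lrot61 (Lpr_ft (K36.f427698 IH) (Lpr_bt (K40.f501323 IH) (Lpr_ft (K40.f501341 IH) (Lpn K40.v1763))))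
theorem f559635 : Led Lsl_bf (LP (LK LD1_c5 LD2_c12 LD3_c28)) = (LP (LK LD1_c6 LD2_c7 LD3_c53)) :=
  Lgr Lrot96 (Lpr_et (K28.f302652 IH) (Lpqs (K40.f559624 IH) (Lpe (f501342 IH) (Lpr_et (K40.f427721 IH) (Lpn (LP (LK LD1_c6 LD2_c7 LD3_c53)))))))
theorem f450415 : Led Lsl_gf (LP (LK LD1_c6 LD2_c17 LD3_c13)) = (LP (LK LD1_c11 LD2_c51 LD3_c53)) :=
  Lgr Lrot47 (Lpr_gt (K40.f186452 IH) (Lpe (K40.f421053 IH) (Lpr_ff (K40.f450385 IH) (Lpn (LP (LK LD1_c11 LD2_c51 LD3_c53))))))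
theorem f559728 : Led Lsl_bf (LP (LK LD1_c6 LD2_c15 LD3_c28)) = (LP (LK LD1_c5 LD2_c37 LD3_c29)) :=
  Lgr Lrot24 (Lpr_bt (K40.f559726 IH) (Lpn (LP (LK LD1_c5 LD2_c37 LD3_c29))))
theorem f564204 : Led Lsl_gf (LP (LK LD1_c5 LD2_c49 LD3_c11)) = (LP (LK LD1_c6 LD2_c15 LD3_c28)) :=
  Lgr Lrot124 (Lpr_bf (K40.f450309 IH) (Lpe (K39.f421050 IH) (Lpr_gt (f564192 IH) (Lpe (K40.f557508 IH) (Lpe (f559635 IH) (Lpr_gt (K40.f387452 IH) (Lpr_ct (K40.f562552 IH) (Lpe (f450415 IH) (Lpr_cf (K40.f558367 IH) (Lpe (f559728 IH) (Lpn (LP (LK LD1_c6 LD2_c15 LD3_c28)))))))))))))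
theorem f564206 : Led Lsl_gt (LP (LK LD1_c5 LD2_c38 LD3_c38)) = (LP (LK LD1_c6 LD2_c15 LD3_c28)) :=
  Lgr Lrot5 (Lpe (K38.f450376 IH) (Lpr_at (K38.f450370 IH) (Lpr_gf (f564204 IH) (Lpn (LP (LK LD1_c6 LD2_c15 LD3_c28))))))
theorem f418985 : Led Lsl_et (LP (LK LD1_c2 LD2_c45 LD3_c10)) = (LP (LK LD1_c5 LD2_c38 LD3_c38)) :=
  Lre_e IH (LK LD1_c2 LD2_c45 LD3_c10) (LK LD1_c5 LD2_c38 LD3_c38) Lrfl Lrfl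
theorem f151852 : Led Lsl_bt (LP (LK LD1_c2 LD2_c52 LD3_c50)) = (LP (LK LD1_c1 LD2_c22 LD3_c29)) :=
  Lre_b IH (LK LD1_c2 LD2_c52 LD3_c50) (LK LD1_c1 LD2_c22 LD3_c29) Lrfl Lrfl
theorem f211751 : Led Lsl_df (LP (LK LD1_c2 LD2_c52 LD3_c50)) = (LP (LK LD1_c2 LD2_c45 LD3_c10)) :=
  Lgr Lrot12 (Lpr_bt (f151852 IH) (Lpr_dt (K12.f211739 IH) (Lpr_bt (K38.f211726 IH) (Lpn (LP (LK LD1_c2 LD2_c45 LD3_c10))))))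
theorem f101611 : Led Lsl_dt (LP (LK LD1_c1 LD2_c56 LD3_c29)) = (LP (LK LD1_c3 LD2_c59 LD3_c37)) :=
  Lre_d IH (LK LD1_c1 LD2_c56 LD3_c29) (LK LD1_c3 LD2_c59 LD3_c37) Lrfl Lrfl
theorem f564213 : Led Lsl_gf (LP (LK LD1_c2 LD2_c52 LD3_c50)) = (LP (LK LD1_c3 LD2_c59 LD3_c37)) :=
  Lgr Lrot145 (Lpr_df (f211751 IH) (Lpr_et (f418985 IH) (Lpr_gt (f564206 IH) (Lpe (K40.f112528 IH) (Lpr_gt (K40.f100471 IH) (Lpe (K40.f100480 IH) (Lpr_et (K7.f100451 IH) (Lpe (K5.f101598 IH) (Lpe (K8.f101610 IH) (Lpr_dt (f101611 IH) (Lpn (LP (LK LD1_c3 LD2_c59 LD3_c37)))))))))))))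
theorem f151854 : Led Lsl_ct (LP (LK LD1_c2 LD2_c52 LD3_c50)) = (LP (LK LD1_c5 LD2_c53 LD3_c5)) :=
  Lre_c IH (LK LD1_c2 LD2_c52 LD3_c50) (LK LD1_c5 LD2_c53 LD3_c5) Lrfl Lrfl
theorem f210950 : Led Lsl_bt (LP (LK LD1_c2 LD2_c57 LD3_c51)) = (LP (LK LD1_c1 LD2_c24 LD3_c38)) :=
  Lre_b IH (LK LD1_c2 LD2_c57 LD3_c51) (LK LD1_c1 LD2_c24 LD3_c38) Lrfl Lrfl
theorem f268298 : Led Lsl_ct (LP (LK LD1_c2 LD2_c57 LD3_c51)) = (LP (LK LD1_c6 LD2_c3 LD3_c27)) :=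
  Lre_c IH (LK LD1_c2 LD2_c57 LD3_c51) (LK LD1_c6 LD2_c3 LD3_c27) Lrfl Lrfl
theorem f563054 : Led Lsl_gt (LP (LK LD1_c5 LD2_c53 LD3_c5)) = (LP (LK LD1_c6 LD2_c3 LD3_c27)) :=
  Lgr Lrot65 (Lpe (f151854 IH) (Lpr_bt (f151852 IH) (Lpe (K12.f26579 IH) (Lpe (K40.f211757 IH) (Lpr_ct (K40.f452733 IH) (Lpe (K40.f452734 IH) (Lpr_cf (K40.f563047 IH) (Lpe (K11.f26784 IH) (Lpe (f210950 IH) (Lpr_ct (f268298 IH) (Lpn (LP (LK LD1_c6 LD2_c3 LD3_c27)))))))))))))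
theorem f210951 : Led Lsl_ct (LP (LK LD1_c6 LD2_c3 LD3_c27)) = (LP (LK LD1_c2 LD2_c57 LD3_c51)) :=
  Lre_c IH (LK LD1_c6 LD2_c3 LD3_c27) (LK LD1_c2 LD2_c57 LD3_c51) Lrfl Lrfl
theorem f211736 : Led Lsl_bt (LP (LK LD1_c1 LD2_c22 LD3_c29)) = (LP (LK LD1_c2 LD2_c52 LD3_c50)) :=
  Lre_b IH (LK LD1_c1 LD2_c22 LD3_c29) (LK LD1_c2 LD2_c52 LD3_c50) Lrfl Lrfl
theorem f211720 : Led Lsl_bt (LP (LK LD1_c2 LD2_c45 LD3_c10)) = (LP (LK LD1_c1 LD2_c18 LD3_c52)) :=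
  Lre_b IH (LK LD1_c2 LD2_c45 LD3_c10) (LK LD1_c1 LD2_c18 LD3_c52) Lrfl Lrfl
theorem f211737 : Led Lsl_dt (LP (LK LD1_c2 LD2_c52 LD3_c50)) = (LP (LK LD1_c2 LD2_c45 LD3_c10)) :=
  Lgr Lrot79 (Lpe (f211736 IH) (Lpr_df (K12.f211734 IH) (Lpe (f211720 IH) (Lpn (LP (LK LD1_c2 LD2_c45 LD3_c10))))))
theorem f211748 : Led Lsl_ct (LP (LK LD1_c2 LD2_c45 LD3_c10)) = (LP (LK LD1_c5 LD2_c38 LD3_c37)) :=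
  Lre_c IH (LK LD1_c2 LD2_c45 LD3_c10) (LK LD1_c5 LD2_c38 LD3_c37) Lrfl Lrfl
theorem f418982 : Led Lsl_dt (LP (LK LD1_c11 LD2_c8 LD3_c22)) = (LP (LK LD1_c5 LD2_c38 LD3_c37)) :=
  Lre_d IH (LK LD1_c11 LD2_c8 LD3_c22) (LK LD1_c5 LD2_c38 LD3_c37) Lrfl Lrfl
theorem f549848 : Led Lsl_ft (LP (LK LD1_c3 LD2_c59 LD3_c36)) = (LP (LK LD1_c2 LD2_c52 LD3_c45)) :=
  Lgr Lrot75 (Lpr_bf (K38.f549840 IH) (Lpqs (K36.f539836 IH) (Lpq (K36.f539826 IH) (Lpe (K36.f500371 IH) (Lpe (K39.f450550 IH) (Lpn (LP (LK LD1_c2 LD2_c52 LD3_c45))))))))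
theorem f547272 : Led Lsl_ff (LP (LK LD1_c5 LD2_c41 LD3_c37)) = (LP (LK LD1_c2 LD2_c53 LD3_c26)) :=
  Lgr Lrot3 (Lpr_ft (K38.f547268 IH) (Lpn (LP (LK LD1_c2 LD2_c53 LD3_c26))))
theorem f556735 : Led Lsl_cf (LP (LK LD1_c3 LD2_c59 LD3_c36)) = (LP (LK LD1_c5 LD2_c41 LD3_c37)) :=
  Lgr Lrot108 (Lpr_ft (f549848 IH) (Lpr_ct (K39.f556731 IH) (Lpe (f547272 IH) (Lpn (LP (LK LD1_c5 LD2_c41 LD3_c37))))))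
theorem f100443 : Led Lsl_dt (LP (LK LD1_c3 LD2_c57 LD3_c56)) = (LP (LK LD1_c7 LD2_c57 LD3_c12)) :=
  Lre_d IH (LK LD1_c3 LD2_c57 LD3_c56) (LK LD1_c7 LD2_c57 LD3_c12) Lrfl Lrfl
theorem f564217 : Led Lsl_gf (LP (LK LD1_c11 LD2_c8 LD3_c22)) = (LP (LK LD1_c7 LD2_c57 LD3_c12)) :=
  Lgr Lrot143 (Lpr_dt (f418982 IH) (Lpe (f211748 IH) (Lpe (f211737 IH) (Lpr_gf (f564213 IH) (Lpe (f101611 IH) (Lpe (K38.f112531 IH) (Lpr_cf (f556735 IH) (Lpr_gt (K38.f547274 IH) (Lpr_dt (f100443 IH) (Lpn (LP (LK LD1_c7 LD2_c57 LD3_c12))))))))))))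
theorem f418997 : Led Lsl_dt (LP (LK LD1_c5 LD2_c38 LD3_c37)) = (LP (LK LD1_c11 LD2_c8 LD3_c22)) :=
  Lre_d IH (LK LD1_c5 LD2_c38 LD3_c37) (LK LD1_c11 LD2_c8 LD3_c22) Lrfl Lrfl
theorem f179915 : Led Lsl_gt (LP (LK LD1_c9 LD2_c44 LD3_c36)) = (LP (LK LD1_c4 LD2_c56 LD3_c36)) :=
  Lre_g IH (LK LD1_c9 LD2_c44 LD3_c36) (LK LD1_c4 LD2_c56 LD3_c36) Lrfl Lrfl
theorem f564229 : Led Lsl_et (LP (LK LD1_c5 LD2_c38 LD3_c37)) = (LP (LK LD1_c9 LD2_c44 LD3_c36)) :=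
  Lgr Lrot121 (Lpr_dt (f418997 IH) (Lpr_gf (f564217 IH) (Lpe (f100443 IH) (Lpr_et (K38.f100442 IH) (Lpr_gf (K5.f100435 IH) (Lpe (K38.f546585 IH) (Lpr_dt (K38.f112751 IH) (Lpe (K38.f547294 IH) (Lpe (K38.f210450 IH) (Lpe (f179915 IH) (Lpn (LP (LK LD1_c9 LD2_c44 LD3_c36)))))))))))))
theorem f556350 : Led Lsl_ff (LP (LK LD1_c5 LD2_c49 LD3_c12)) = (LP (LK LD1_c9 LD2_c44 LD3_c36)) :=
  Lgr Lrot52 (Lpr_at (K40.f547106 IH) (Lpr_gf (K39.f556348 IH) (Lpe (f179915 IH) (Lpn (LP (LK LD1_c9 LD2_c44 LD3_c36))))))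
theorem f503080 : Led Lsl_ft (LP (LK LD1_c2 LD2_c50 LD3_c41)) = K37.v1816 :=
  Lgr Lrot48 (Lpr_ff (K38.f503078 IH) (Lpn K37.v1816))
theorem f547093 : Led Lsl_et (LP (LK LD1_c3 LD2_c4 LD3_c17)) = (LP (LK LD1_c6 LD2_c14 LD3_c48)) :=
  Lre_e IH (LK LD1_c3 LD2_c4 LD3_c17) (LK LD1_c6 LD2_c14 LD3_c48) Lrfl Lrfl
theorem f564235 : Led Lsl_ff (LP (LK LD1_c5 LD2_c38 LD3_c37)) = (LP (LK LD1_c6 LD2_c14 LD3_c48)) :=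
  Lgr Lrot72 (Lpr_et (f564229 IH) (Lpe (f556350 IH) (Lpr_et (K38.f176693 IH) (Lpr_ft (f503080 IH) (Lpq (K38.f547086 IH) (Lpr_et (f547093 IH) (Lpn (LP (LK LD1_c6 LD2_c14 LD3_c48)))))))))
theorem f564243 : Led Lsl_ft (LP (LK LD1_c5 LD2_c38 LD3_c37)) = (LP (LK LD1_c6 LD2_c14 LD3_c48)) :=
  Lgr Lrot48 (Lpr_ff (f564235 IH) (Lpn (LP (LK LD1_c6 LD2_c14 LD3_c48))))
theorem f564233 : Led Lsl_ef (LP (LK LD1_c5 LD2_c38 LD3_c37)) = (LP (LK LD1_c9 LD2_c44 LD3_c36)) :=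
  Lgr Lrot88 (Lpr_et (f564229 IH) (Lpn (LP (LK LD1_c9 LD2_c44 LD3_c36))))
theorem f438181 : Led Lsl_et (LP (LK LD1_c6 LD2_c14 LD3_c48)) = (LP (LK LD1_c3 LD2_c4 LD3_c17)) :=
  Lre_e IH (LK LD1_c6 LD2_c14 LD3_c48) (LK LD1_c3 LD2_c4 LD3_c17) Lrfl Lrfl
theorem f176682 : Led Lsl_et (LP (LK LD1_c2 LD2_c50 LD3_c41)) = (LP (LK LD1_c5 LD2_c49 LD3_c12)) :=
  Lre_e IH (LK LD1_c2 LD2_c50 LD3_c41) (LK LD1_c5 LD2_c49 LD3_c12) Lrfl Lrfl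
theorem f564251 : Led Lsl_ff (LP (LK LD1_c9 LD2_c44 LD3_c36)) = (LP (LK LD1_c5 LD2_c49 LD3_c12)) :=
  Lgr Lrot72 (Lpe (f564233 IH) (Lpr_ft (f564243 IH) (Lpr_et (f438181 IH) (Lpqs (K38.f547086 IH) (Lpe (K38.f503078 IH) (Lpr_et (f176682 IH) (Lpn (LP (LK LD1_c5 LD2_c49 LD3_c12)))))))))
theorem f564253 : Led Lsl_at (LP (LK LD1_c9 LD2_c44 LD3_c36)) = (LP (LK LD1_c12 LD2_c7 LD3_c50)) :=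
  Lgr Lrot66 (Lpr_ff (f564251 IH) (Lpr_af (K38.f547104 IH) (Lpe (K40.f547110 IH) (Lpn (LP (LK LD1_c12 LD2_c7 LD3_c50))))))
theorem f418999 : Led Lsl_at (LP (LK LD1_c11 LD2_c8 LD3_c20)) = (LP (LK LD1_c5 LD2_c38 LD3_c37)) :=
  Lre_a IH (LK LD1_c11 LD2_c8 LD3_c20) (LK LD1_c5 LD2_c38 LD3_c37) Lrfl Lrfl
theorem f564257 : Led Lsl_ef (LP (LK LD1_c11 LD2_c8 LD3_c20)) = (LP (LK LD1_c12 LD2_c7 LD3_c50)) :=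
  Lgr Lrot20 (Lpr_at (f418999 IH) (Lpr_et (f564229 IH) (Lpr_at (f564253 IH) (Lpn (LP (LK LD1_c12 LD2_c7 LD3_c50))))))
theorem f202195 : Led Lsl_et (LP (LK LD1_c12 LD2_c7 LD3_c32)) = (LP (LK LD1_c6 LD2_c14 LD3_c39)) :=
  Lre_e IH (LK LD1_c12 LD2_c7 LD3_c32) (LK LD1_c6 LD2_c14 LD3_c39) Lrfl Lrfl
theorem f564265 : Led Lsl_ft (LP (LK LD1_c11 LD2_c8 LD3_c20)) = (LP (LK LD1_c12 LD2_c7 LD3_c32)) :=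
  Lgr Lrot86 (Lpr_ef (f564257 IH) (Lpe (K40.f547113 IH) (Lpe (K38.f547103 IH) (Lpr_ff (K40.f559110 IH) (Lpe (f202195 IH) (Lpn (LP (LK LD1_c12 LD2_c7 LD3_c32))))))))
theorem f564273 : Led Lsl_ff (LP (LK LD1_c11 LD2_c8 LD3_c20)) = (LP (LK LD1_c12 LD2_c7 LD3_c32)) :=
  Lgr Lrot3 (Lpr_ft (f564265 IH) (Lpn (LP (LK LD1_c12 LD2_c7 LD3_c32))))
theorem f418992 : Led Lsl_ct (LP (LK LD1_c11 LD2_c8 LD3_c20)) = (LP (LK LD1_c5 LD2_c38 LD3_c36)) :=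
  Lre_c IH (LK LD1_c11 LD2_c8 LD3_c20) (LK LD1_c5 LD2_c38 LD3_c36) Lrfl Lrfl
theorem f564279 : Led Lsl_ct (LP (LK LD1_c6 LD2_c17 LD3_c1)) = (LP (LK LD1_c12 LD2_c7 LD3_c32)) :=
  Lgr Lrot40 (Lpr_ff (K39.f450387 IH) (Lpe (f418992 IH) (Lpr_ff (f564273 IH) (Lpn (LP (LK LD1_c12 LD2_c7 LD3_c32))))))
theorem f564283 : Led Lsl_cf (LP (LK LD1_c3 LD2_c5 LD3_c39)) = (LP (LK LD1_c6 LD2_c14 LD3_c39)) :=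
  Lgr Lrot39 (Lpr_et (K38.f450205 IH) (Lpr_ct (f564279 IH) (Lpr_et (f202195 IH) (Lpn (LP (LK LD1_c6 LD2_c14 LD3_c39))))))
theorem f176680 : Led Lsl_gt (LP (LK LD1_c2 LD2_c50 LD3_c39)) = (LP (LK LD1_c1 LD2_c21 LD3_c20)) :=
  Lre_g IH (LK LD1_c2 LD2_c50 LD3_c39) (LK LD1_c1 LD2_c21 LD3_c20) Lrfl Lrfl
theorem f450235 : Led Lsl_gt (LP (LK LD1_c3 LD2_c5 LD3_c39)) = (LP (LK LD1_c2 LD2_c50 LD3_c39)) :=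
  Lgr Lrot5 (Lpr_ft (K37.f450224 IH) (Lpr_at (K38.f450156 IH) (Lpe (f176680 IH) (Lpn (LP (LK LD1_c2 LD2_c50 LD3_c39))))))
theorem f450240 : Led Lsl_ct (LP (LK LD1_c2 LD2_c50 LD3_c39)) = (LP (LK LD1_c5 LD2_c49 LD3_c8)) :=
  Lre_c IH (LK LD1_c2 LD2_c50 LD3_c39) (LK LD1_c5 LD2_c49 LD3_c8) Lrfl Lrfl
theorem f564301 : Led Lsl_df (LP (LK LD1_c5 LD2_c49 LD3_c8)) = (LP (LK LD1_c3 LD2_c46 LD3_c19)) :=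
  Lgr Lrot162 (Lpe (f450240 IH) (Lpe (f450235 IH) (Lpr_cf (f564283 IH) (Lpe (K40.f59104 IH) (Lpe (K40.f559104 IH) (Lpr_gt (K32.f121892 IH) (Lpr_ct (K24.f97497 IH) (Lpr_gt (K28.f426565 IH) (Lpr_ct (K7.f92366 IH) (Lpn (LP (LK LD1_c3 LD2_c46 LD3_c19))))))))))))
theorem f496066 : Led Lsl_ct (LP (LK LD1_c1 LD2_c28 LD3_c40)) = (LP (LK LD1_c3 LD2_c5 LD3_c17)) :=
  Lre_c IH (LK LD1_c1 LD2_c28 LD3_c40) (LK LD1_c3 LD2_c5 LD3_c17) Lrfl Lrfl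
theorem f558848 : Led Lsl_gf (LP (LK LD1_c5 LD2_c47 LD3_c16)) = (LP (LK LD1_c3 LD2_c5 LD3_c17)) :=
  Lgr Lrot104 (Lpr_ct (K40.f421287 IH) (Lpe (K32.f149987 IH) (Lpe (K40.f150002 IH) (Lpr_gf (K40.f558844 IH) (Lpe (K38.f503158 IH) (Lpe (K38.f202641 IH) (Lpe (K37.f112391 IH) (Lpr_gt (K31.f59008 IH) (Lpr_ct (f496066 IH) (Lpn (LP (LK LD1_c3 LD2_c5 LD3_c17))))))))))))
theorem f559153 : Led Lsl_df (LP (LK LD1_c3 LD2_c5 LD3_c17)) = (LP (LK LD1_c3 LD2_c49 LD3_c6)) :=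
  Lgr Lrot155 (Lpe (f558848 IH) (Lpr_ct (K40.f421287 IH) (Lpqs (K38.f548944 IH) (Lpe (K38.f496174 IH) (Lpe (K40.f559149 IH) (Lpr_dt (K40.f559141 IH) (Lpe (K6.f96480 IH) (Lpe (K6.f136345 IH) (Lpr_cf (K6.f96148 IH) (Lpr_gf (K6.f88595 IH) (Lpn (LP (LK LD1_c3 LD2_c49 LD3_c6)))))))))))))
theorem f559157 : Led Lsl_dt (LP (LK LD1_c3 LD2_c5 LD3_c17)) = (LP (LK LD1_c3 LD2_c49 LD3_c6)) :=
  Lgr Lrot42 (Lpr_df (f559153 IH) (Lpn (LP (LK LD1_c3 LD2_c49 LD3_c6))))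
theorem f564311 : Led Lsl_gt (LP (LK LD1_c5 LD2_c49 LD3_c8)) = (LP (LK LD1_c3 LD2_c5 LD3_c17)) :=
  Lgr Lrot49 (Lpr_df (f564301 IH) (Lpe (K3.f92365 IH) (Lpe (K7.f92364 IH) (Lpr_gt (K28.f14696 IH) (Lpr_dt (K28.f14697 IH) (Lpr_gt (K28.f419391 IH) (Lpr_dt (K28.f88576 IH) (Lpe (K3.f87916 IH) (Lpe (f559157 IH) (Lpn (LP (LK LD1_c3 LD2_c5 LD3_c17))))))))))))
theorem f88607 : Led Lsl_et (LP (LK LD1_c3 LD2_c49 LD3_c6)) = (LP (LK LD1_c7 LD2_c39 LD3_c13)) :=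
  Lre_e IH (LK LD1_c3 LD2_c49 LD3_c6) (LK LD1_c7 LD2_c39 LD3_c13) Lrfl Lrfl
theorem f481038 : Led Lsl_ff (LP (LK LD1_c13 LD2_c43 LD3_c29)) = (LP (LK LD1_c7 LD2_c39 LD3_c13)) :=
  Lgr Lrot30 (Lpr_at (K33.f478045 IH) (Lpr_ft (K29.f481021 IH) (Lpr_at (K29.f96905 IH) (Lpn (LP (LK LD1_c7 LD2_c39 LD3_c13))))))
theorem f481436 : Led Lsl_gf (LP (LK LD1_c13 LD2_c43 LD3_c28)) = (LP (LK LD1_c7 LD2_c39 LD3_c13)) :=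
  Lgr Lrot47 (Lpr_gt (K37.f481225 IH) (Lpe (K33.f478045 IH) (Lpr_ff (f481038 IH) (Lpn (LP (LK LD1_c7 LD2_c39 LD3_c13))))))
theorem f481438 : Led Lsl_dt (LP (LK LD1_c13 LD2_c43 LD3_c28)) = (LP (LK LD1_c23 LD2_c9 LD3_c59)) :=
  Lre_d IH (LK LD1_c13 LD2_c43 LD3_c28) (LK LD1_c23 LD2_c9 LD3_c59) Lrfl Lrfl
theorem f478185 : Led Lsl_et (LP (LK LD1_c7 LD2_c12 LD3_c39)) = (LP (LK LD1_c13 LD2_c39 LD3_c1)) :=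
  Lre_e IH (LK LD1_c7 LD2_c12 LD3_c39) (LK LD1_c13 LD2_c39 LD3_c1) Lrfl Lrfl
theorem f490100 : Led Lsl_cf (LP (LK LD1_c13 LD2_c23 LD3_c52)) = (LP (LK LD1_c13 LD2_c39 LD3_c1)) :=
  Lgr Lrot39 (Lpr_et (K33.f463611 IH) (Lpr_ct (K37.f490096 IH) (Lpr_et (f478185 IH) (Lpn (LP (LK LD1_c13 LD2_c39 LD3_c1))))))
theorem f478014 : Led Lsl_dt (LP (LK LD1_c22 LD2_c41 LD3_c50)) = (LP (LK LD1_c13 LD2_c23 LD3_c52)) :=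
  Lre_d IH (LK LD1_c22 LD2_c41 LD3_c50) (LK LD1_c13 LD2_c23 LD3_c52) Lrfl Lrfl
theorem f478144 : Led Lsl_gt (LP (LK LD1_c3 LD2_c37 LD3_c20)) = (LP (LK LD1_c7 LD2_c15 LD3_c13)) :=
  Lre_g IH (LK LD1_c3 LD2_c37 LD3_c20) (LK LD1_c7 LD2_c15 LD3_c13) Lrfl Lrfl
theorem f108492 : Led Lsl_et (LP (LK LD1_c7 LD2_c12 LD3_c41)) = (LP (LK LD1_c3 LD2_c36 LD3_c9)) :=
  Lre_e IH (LK LD1_c7 LD2_c12 LD3_c41) (LK LD1_c3 LD2_c36 LD3_c9) Lrfl Lrfl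
theorem f478149 : Led Lsl_df (LP (LK LD1_c7 LD2_c15 LD3_c13)) = (LP (LK LD1_c7 LD2_c12 LD3_c41)) :=
  Lgr Lrot132 (Lpe (f478144 IH) (Lpe (K29.f456864 IH) (Lpr_gf (K29.f478142 IH) (Lpe (K29.f97024 IH) (Lpr_dt (K3.f97030 IH) (Lpr_gf (K3.f108524 IH) (Lpe (K3.f94481 IH) (Lpr_et (K3.f108307 IH) (Lpe (K24.f17899 IH) (Lpe (f108492 IH) (Lpn (LP (LK LD1_c7 LD2_c12 LD3_c41)))))))))))))
theorem f478156 : Led Lsl_bt (LP (LK LD1_c7 LD2_c15 LD3_c13)) = (LP (LK LD1_c13 LD2_c43 LD3_c39)) :=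
  Lre_b IH (LK LD1_c7 LD2_c15 LD3_c13) (LK LD1_c13 LD2_c43 LD3_c39) Lrfl Lrfl
theorem f478157 : Led Lsl_bt (LP (LK LD1_c13 LD2_c39 LD3_c1)) = (LP (LK LD1_c7 LD2_c12 LD3_c41)) :=
  Lre_b IH (LK LD1_c13 LD2_c39 LD3_c1) (LK LD1_c7 LD2_c12 LD3_c41) Lrfl Lrfl
theorem f478158 : Led Lsl_dt (LP (LK LD1_c13 LD2_c43 LD3_c39)) = (LP (LK LD1_c13 LD2_c39 LD3_c1)) :=
  Lgr Lrot79 (Lpe (f478156 IH) (Lpr_df (f478149 IH) (Lpe (f478157 IH) (Lpn (LP (LK LD1_c13 LD2_c39 LD3_c1))))))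
theorem f490107 : Led Lsl_gt (LP (LK LD1_c23 LD2_c9 LD3_c59)) = (LP (LK LD1_c13 LD2_c43 LD3_c39)) :=
  Lgr Lrot49 (Lpe (f481438 IH) (Lpr_gf (f481436 IH) (Lpe (K37.f89798 IH) (Lpr_gt (K29.f477989 IH) (Lpr_dt (K33.f477996 IH) (Lpe (K33.f478011 IH) (Lpr_dt (f478014 IH) (Lpr_cf (f490100 IH) (Lpe (f478158 IH) (Lpn (LP (LK LD1_c13 LD2_c43 LD3_c39))))))))))))
theorem f478161 : Led Lsl_dt (LP (LK LD1_c7 LD2_c15 LD3_c13)) = (LP (LK LD1_c7 LD2_c12 LD3_c41)) :=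
  Lgr Lrot42 (Lpr_df (f478149 IH) (Lpn (LP (LK LD1_c7 LD2_c12 LD3_c41))))
theorem f478169 : Led Lsl_bt (LP (LK LD1_c13 LD2_c43 LD3_c39)) = (LP (LK LD1_c7 LD2_c15 LD3_c13)) :=
  Lre_b IH (LK LD1_c13 LD2_c43 LD3_c39) (LK LD1_c7 LD2_c15 LD3_c13) Lrfl Lrfl
theorem f478174 : Led Lsl_bt (LP (LK LD1_c7 LD2_c12 LD3_c41)) = (LP (LK LD1_c13 LD2_c39 LD3_c1)) :=
  Lre_b IH (LK LD1_c7 LD2_c12 LD3_c41) (LK LD1_c13 LD2_c39 LD3_c1) Lrfl Lrfl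
theorem f478175 : Led Lsl_df (LP (LK LD1_c13 LD2_c43 LD3_c39)) = (LP (LK LD1_c13 LD2_c39 LD3_c1)) :=
  Lgr Lrot12 (Lpr_bt (f478169 IH) (Lpr_dt (f478161 IH) (Lpr_bt (f478174 IH) (Lpn (LP (LK LD1_c13 LD2_c39 LD3_c1))))))
theorem f478189 : Led Lsl_et (LP (LK LD1_c13 LD2_c39 LD3_c1)) = (LP (LK LD1_c7 LD2_c12 LD3_c39)) :=
  Lre_e IH (LK LD1_c13 LD2_c39 LD3_c1) (LK LD1_c7 LD2_c12 LD3_c39) Lrfl Lrfl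
theorem f564313 : Led Lsl_gt (LP (LK LD1_c7 LD2_c12 LD3_c39)) = (LP (LK LD1_c7 LD2_c33 LD3_c43)) :=
  Lgr Lrot131 (Lpe (f478189 IH) (Lpe (f478175 IH) (Lpe (f490107 IH) (Lpe (f481438 IH) (Lpr_gf (f481436 IH) (Lpe (f88607 IH) (Lpe (f559153 IH) (Lpe (f564311 IH) (Lpr_df (f564301 IH) (Lpr_et (K7.f94460 IH) (Lpn (LP (LK LD1_c7 LD2_c33 LD3_c43)))))))))))))
theorem f108432 : Led Lsl_bt (LP (LK LD1_c3 LD2_c32 LD3_c25)) = (LP (LK LD1_c7 LD2_c5 LD3_c52)) :=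
  Lre_b IH (LK LD1_c3 LD2_c32 LD3_c25) (LK LD1_c7 LD2_c5 LD3_c52) Lrfl Lrfl
theorem f465707 : Led Lsl_cf (LP (LK LD1_c7 LD2_c5 LD3_c52)) = (LP (LK LD1_c7 LD2_c5 LD3_c52)) :=
  Lgr Lrot97 (Lpr_bt (K33.f465702 IH) (Lpr_ct (K33.f108429 IH) (Lpr_bt (K28.f465700 IH) (Lpr_ct (K28.f108430 IH) (Lpr_bt (f108432 IH) (Lpn (LP (LK LD1_c7 LD2_c5 LD3_c52))))))))
theorem f94464 : Led Lsl_bf (LP (LK LD1_c7 LD2_c33 LD3_c43)) = (LP (LK LD1_c13 LD2_c46 LD3_c25)) :=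
  Lgr Lrot24 (Lpr_bt (K7.f94462 IH) (Lpn (LP (LK LD1_c13 LD2_c46 LD3_c25))))
theorem f564325 : Led Lsl_gf (LP (LK LD1_c7 LD2_c5 LD3_c52)) = (LP (LK LD1_c7 LD2_c16 LD3_c46)) :=
  Lgr Lrot126 (Lpr_cf (f465707 IH) (Lpr_bt (K33.f465702 IH) (Lpr_gt (K28.f465693 IH) (Lpr_ct (K37.f439449 IH) (Lpr_gt (K28.f464551 IH) (Lpr_cf (K37.f461803 IH) (Lpr_bt (K28.f461800 IH) (Lpr_gt (f564313 IH) (Lpr_bf (f94464 IH) (Lpr_ct (K7.f94467 IH) (Lpn (LP (LK LD1_c7 LD2_c16 LD3_c46)))))))))))))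
theorem f489463 : Led Lsl_gt (LP (LK LD1_c7 LD2_c5 LD3_c52)) = (LP (LK LD1_c13 LD2_c27 LD3_c7)) :=
  Lre_g IH (LK LD1_c7 LD2_c5 LD3_c52) (LK LD1_c13 LD2_c27 LD3_c7) Lrfl Lrfl
theorem f489466 : Led Lsl_ct (LP (LK LD1_c22 LD2_c46 LD3_c37)) = (LP (LK LD1_c13 LD2_c27 LD3_c7)) :=
  Lre_c IH (LK LD1_c22 LD2_c46 LD3_c37) (LK LD1_c13 LD2_c27 LD3_c7) Lrfl Lrfl
theorem f468857 : Led Lsl_dt (LP (LK LD1_c7 LD2_c6 LD3_c17)) = (LP (LK LD1_c13 LD2_c27 LD3_c47)) :=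
  Lre_d IH (LK LD1_c7 LD2_c6 LD3_c17) (LK LD1_c13 LD2_c27 LD3_c47) Lrfl Lrfl
theorem f489985 : Led Lsl_dt (LP (LK LD1_c13 LD2_c39 LD3_c10)) = (LP (LK LD1_c7 LD2_c12 LD3_c46)) :=
  Lre_d IH (LK LD1_c13 LD2_c39 LD3_c10) (LK LD1_c7 LD2_c12 LD3_c46) Lrfl Lrfl
theorem f510988 : Led Lsl_af (LP (LK LD1_c7 LD2_c6 LD3_c17)) = (LP (LK LD1_c7 LD2_c12 LD3_c46)) :=
  Lgr Lrot117 (Lpr_dt (f468857 IH) (Lpr_at (K33.f510961 IH) (Lpr_dt (f489985 IH) (Lpn (LP (LK LD1_c7 LD2_c12 LD3_c46))))))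
theorem f510920 : Led Lsl_ft (LP (LK LD1_c7 LD2_c5 LD3_c52)) = (LP (LK LD1_c7 LD2_c12 LD3_c46)) :=
  Lgr Lrot75 (Lpe (f108432 IH) (Lpr_ff (K33.f510918 IH) (Lpe (K33.f489979 IH) (Lpn (LP (LK LD1_c7 LD2_c12 LD3_c46))))))
theorem f510990 : Led Lsl_gf (LP (LK LD1_c7 LD2_c6 LD3_c17)) = (LP (LK LD1_c13 LD2_c27 LD3_c7)) :=
  Lgr Lrot76 (Lpr_af (f510988 IH) (Lpe (f510920 IH) (Lpr_gt (f489463 IH) (Lpn (LP (LK LD1_c13 LD2_c27 LD3_c7))))))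
theorem f97071 : Led Lsl_gt (LP (LK LD1_c7 LD2_c12 LD3_c12)) = (LP (LK LD1_c13 LD2_c38 LD3_c31)) :=
  Lre_g IH (LK LD1_c7 LD2_c12 LD3_c12) (LK LD1_c13 LD2_c38 LD3_c31) Lrfl Lrfl
theorem f510992 : Led Lsl_bf (LP (LK LD1_c13 LD2_c38 LD3_c31)) = (LP (LK LD1_c22 LD2_c46 LD3_c37)) :=
  Lgr Lrot34 (Lpe (f97071 IH) (Lpe (K28.f463845 IH) (Lpr_ct (K37.f463848 IH) (Lpe (K28.f468101 IH) (Lpe (K28.f439408 IH) (Lpr_gf (K24.f93157 IH) (Lpe (K33.f93165 IH) (Lpe (K33.f468826 IH) (Lpr_gf (f510990 IH) (Lpe (f489466 IH) (Lpn (LP (LK LD1_c22 LD2_c46 LD3_c37)))))))))))))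
theorem f64664 : Led Lsl_bt (LP (LK LD1_c3 LD2_c30 LD3_c55)) = (LP (LK LD1_c1 LD2_c41 LD3_c60)) :=
  Lre_b IH (LK LD1_c3 LD2_c30 LD3_c55) (LK LD1_c1 LD2_c41 LD3_c60) Lrfl Lrfl
theorem f513708 : Led Lsl_ff (LP (LK LD1_c3 LD2_c30 LD3_c55)) = (LP (LK LD1_c7 LD2_c0 LD3_c8)) :=
  Lgr Lrot25 (Lpr_bt (f64664 IH) (Lpr_ft (K34.f513706 IH) (Lpr_bt (K28.f463872 IH) (Lpn (LP (LK LD1_c7 LD2_c0 LD3_c8))))))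
theorem f513703 : Led Lsl_at (LP (LK LD1_c3 LD2_c30 LD3_c55)) = (LP (LK LD1_c7 LD2_c3 LD3_c48)) :=
  Lre_a IH (LK LD1_c3 LD2_c30 LD3_c55) (LK LD1_c7 LD2_c3 LD3_c48) Lrfl Lrfl
theorem f513996 : Led Lsl_gf (LP (LK LD1_c7 LD2_c3 LD3_c48)) = (LP (LK LD1_c13 LD2_c17 LD3_c9)) :=
  Lgr Lrot76 (Lpe (f513703 IH) (Lpr_ff (f513708 IH) (Lpr_gt (K28.f463874 IH) (Lpn (LP (LK LD1_c13 LD2_c17 LD3_c9))))))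
theorem f513999 : Led Lsl_gt (LP (LK LD1_c7 LD2_c3 LD3_c48)) = (LP (LK LD1_c3 LD2_c46 LD3_c36)) :=
  Lgr Lrot46 (Lpr_gf (f513996 IH) (Lpe (K28.f464080 IH) (Lpe (K4.f121866 IH) (Lpn (LP (LK LD1_c3 LD2_c46 LD3_c36))))))
theorem f513998 : Led Lsl_ct (LP (LK LD1_c13 LD2_c23 LD3_c19)) = (LP (LK LD1_c7 LD2_c3 LD3_c48)) :=
  Lre_c IH (LK LD1_c13 LD2_c23 LD3_c19) (LK LD1_c7 LD2_c3 LD3_c48) Lrfl Lrfl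
theorem f514002 : Led Lsl_gf (LP (LK LD1_c13 LD2_c23 LD3_c19)) = (LP (LK LD1_c13 LD2_c38 LD3_c31)) :=
  Lgr Lrot181 (Lpr_ct (f513998 IH) (Lpr_gt (f513999 IH) (Lpe (K28.f94548 IH) (Lpr_bt (K2.f92304 IH) (Lpe (K28.f465691 IH) (Lpe (K33.f465702 IH) (Lpe (f465707 IH) (Lpr_gt (f489463 IH) (Lpe (f489466 IH) (Lpe (f510992 IH) (Lpn (LP (LK LD1_c13 LD2_c38 LD3_c31)))))))))))))
theorem f18604 : Led Lsl_ct (LP (LK LD1_c1 LD2_c41 LD3_c54)) = (LP (LK LD1_c0 LD2_c47 LD3_c31)) :=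
  Lre_c IH (LK LD1_c1 LD2_c41 LD3_c54) (LK LD1_c0 LD2_c47 LD3_c31) Lrfl Lrfl
theorem f488213 : Led Lsl_gf (LP (LK LD1_c7 LD2_c12 LD3_c34)) = (LP (LK LD1_c7 LD2_c6 LD3_c10)) :=
  Lgr Lrot126 (Lpr_cf (K4.f17845 IH) (Lpr_bt (K4.f17831 IH) (Lpr_gt (K28.f461824 IH) (Lpr_ct (K28.f18609 IH) (Lpr_gt (K24.f18608 IH) (Lpe (f18604 IH) (Lpr_bt (K2.f18573 IH) (Lpr_gt (K28.f18599 IH) (Lpe (K34.f15848 IH) (Lpr_ct (K34.f488204 IH) (Lpn (LP (LK LD1_c7 LD2_c6 LD3_c10)))))))))))))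
theorem f513473 : Led Lsl_gf (LP (LK LD1_c13 LD2_c38 LD3_c36)) = (LP (LK LD1_c7 LD2_c12 LD3_c34)) :=
  Lgr Lrot76 (Lpe (K34.f513217 IH) (Lpr_ff (K34.f513465 IH) (Lpe (f488213 IH) (Lpn (LP (LK LD1_c7 LD2_c12 LD3_c34))))))
theorem f514004 : Led Lsl_bt (LP (LK LD1_c13 LD2_c23 LD3_c19)) = (LP (LK LD1_c13 LD2_c38 LD3_c36)) :=
  Lgr Lrot92 (Lpr_ct (f513998 IH) (Lpr_gt (f513999 IH) (Lpe (K28.f94548 IH) (Lpr_bt (K2.f92304 IH) (Lpe (K28.f465691 IH) (Lpr_ct (K33.f108429 IH) (Lpe (K28.f108427 IH) (Lpe (K3.f17843 IH) (Lpr_bt (K28.f17830 IH) (Lpe (f513473 IH) (Lpn (LP (LK LD1_c13 LD2_c38 LD3_c36)))))))))))))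
theorem f514007 : Led Lsl_bf (LP (LK LD1_c13 LD2_c23 LD3_c19)) = (LP (LK LD1_c13 LD2_c38 LD3_c36)) :=
  Lgr Lrot24 (Lpr_bt (f514004 IH) (Lpn (LP (LK LD1_c13 LD2_c38 LD3_c36))))
theorem f91105 : Led Lsl_at (LP (LK LD1_c13 LD2_c3 LD3_c28)) = (LP (LK LD1_c22 LD2_c13 LD3_c16)) :=
  Lre_a IH (LK LD1_c13 LD2_c3 LD3_c28) (LK LD1_c22 LD2_c13 LD3_c16) Lrfl Lrfl
theorem f513487 : Led Lsl_cf (LP (LK LD1_c13 LD2_c38 LD3_c52)) = (LP (LK LD1_c22 LD2_c13 LD3_c16)) :=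
  Lgr Lrot1 (Lpr_at (K34.f513483 IH) (Lpe (K34.f488210 IH) (Lpr_at (f91105 IH) (Lpn (LP (LK LD1_c22 LD2_c13 LD3_c16))))))
theorem f513489 : Led Lsl_ct (LP (LK LD1_c13 LD2_c38 LD3_c52)) = (LP (LK LD1_c22 LD2_c13 LD3_c16)) :=
  Lgr Lrot59 (Lpr_cf (f513487 IH) (Lpn (LP (LK LD1_c22 LD2_c13 LD3_c16))))
theorem f512703 : Led Lsl_et (LP (LK LD1_c22 LD2_c13 LD3_c16)) = (LP (LK LD1_c13 LD2_c3 LD3_c26)) :=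
  Lre_e IH (LK LD1_c22 LD2_c13 LD3_c16) (LK LD1_c13 LD2_c3 LD3_c26) Lrfl Lrfl
theorem f513491 : Led Lsl_cf (LP (LK LD1_c7 LD2_c12 LD3_c32)) = (LP (LK LD1_c13 LD2_c3 LD3_c26)) :=
  Lgr Lrot39 (Lpr_et (K34.f513218 IH) (Lpr_ct (f513489 IH) (Lpr_et (f512703 IH) (Lpn (LP (LK LD1_c13 LD2_c3 LD3_c26))))))
theorem f512699 : Led Lsl_at (LP (LK LD1_c22 LD2_c12 LD3_c37)) = (LP (LK LD1_c13 LD2_c2 LD3_c54)) :=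
  Lre_a IH (LK LD1_c22 LD2_c12 LD3_c37) (LK LD1_c13 LD2_c2 LD3_c54) Lrfl Lrfl
theorem f488217 : Led Lsl_at (LP (LK LD1_c6 LD2_c51 LD3_c58)) = (LP (LK LD1_c13 LD2_c3 LD3_c26)) :=
  Lre_a IH (LK LD1_c6 LD2_c51 LD3_c58) (LK LD1_c13 LD2_c3 LD3_c26) Lrfl Lrfl
theorem f512700 : Led Lsl_ff (LP (LK LD1_c22 LD2_c12 LD3_c37)) = (LP (LK LD1_c13 LD2_c3 LD3_c26)) :=
  Lgr Lrot30 (Lpr_at (f512699 IH) (Lpr_ft (K34.f512692 IH) (Lpr_at (f488217 IH) (Lpn (LP (LK LD1_c13 LD2_c3 LD3_c26))))))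
theorem f512704 : Led Lsl_ft (LP (LK LD1_c22 LD2_c12 LD3_c37)) = (LP (LK LD1_c13 LD2_c3 LD3_c26)) :=
  Lgr Lrot48 (Lpr_ff (f512700 IH) (Lpn (LP (LK LD1_c13 LD2_c3 LD3_c26))))
theorem f513493 : Led Lsl_ct (LP (LK LD1_c13 LD2_c38 LD3_c36)) = (LP (LK LD1_c22 LD2_c12 LD3_c37)) :=
  Lgr Lrot40 (Lpr_ff (K34.f513212 IH) (Lpr_cf (f513491 IH) (Lpe (f512704 IH) (Lpn (LP (LK LD1_c22 LD2_c12 LD3_c37))))))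
theorem f94472 : Led Lsl_bt (LP (LK LD1_c13 LD2_c46 LD3_c24)) = (LP (LK LD1_c7 LD2_c16 LD3_c46)) :=
  Lre_b IH (LK LD1_c13 LD2_c46 LD3_c24) (LK LD1_c7 LD2_c16 LD3_c46) Lrfl Lrfl
theorem f564329 : Led Lsl_gt (LP (LK LD1_c22 LD2_c12 LD3_c37)) = (LP (LK LD1_c13 LD2_c3 LD3_c16)) :=
  Lgr Lrot65 (Lpe (f513493 IH) (Lpe (f514007 IH) (Lpr_gf (f514002 IH) (Lpr_bf (f510992 IH) (Lpr_ct (f489466 IH) (Lpe (f489463 IH) (Lpr_cf (f465707 IH) (Lpr_gf (f564325 IH) (Lpe (f94472 IH) (Lpe (K7.f116610 IH) (Lpn (LP (LK LD1_c13 LD2_c3 LD3_c16)))))))))))))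
theorem f15883 : Led Lsl_bt (LP (LK LD1_c13 LD2_c2 LD3_c54)) = (LP (LK LD1_c6 LD2_c51 LD3_c35)) :=
  Lre_b IH (LK LD1_c13 LD2_c2 LD3_c54) (LK LD1_c6 LD2_c51 LD3_c35) Lrfl Lrfl
theorem f488207 : Led Lsl_bt (LP (LK LD1_c3 LD2_c24 LD3_c45)) = (LP (LK LD1_c6 LD2_c51 LD3_c58)) :=
  Lre_b IH (LK LD1_c3 LD2_c24 LD3_c45) (LK LD1_c6 LD2_c51 LD3_c58) Lrfl Lrfl
theorem f512670 : Led Lsl_ff (LP (LK LD1_c13 LD2_c2 LD3_c54)) = (LP (LK LD1_c6 LD2_c51 LD3_c58)) :=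
  Lgr Lrot25 (Lpr_bt (f15883 IH) (Lpr_ft (K34.f512668 IH) (Lpr_bt (f488207 IH) (Lpn (LP (LK LD1_c6 LD2_c51 LD3_c58))))))
theorem f512662 : Led Lsl_at (LP (LK LD1_c13 LD2_c2 LD3_c54)) = (LP (LK LD1_c22 LD2_c12 LD3_c37)) :=
  Lre_a IH (LK LD1_c13 LD2_c2 LD3_c54) (LK LD1_c22 LD2_c12 LD3_c37) Lrfl Lrfl
theorem f91085 : Led Lsl_gt (LP (LK LD1_c6 LD2_c51 LD3_c58)) = (LP (LK LD1_c13 LD2_c3 LD3_c25)) :=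
  Lre_g IH (LK LD1_c6 LD2_c51 LD3_c58) (LK LD1_c13 LD2_c3 LD3_c25) Lrfl Lrfl
theorem f513061 : Led Lsl_gf (LP (LK LD1_c22 LD2_c12 LD3_c37)) = (LP (LK LD1_c13 LD2_c3 LD3_c25)) :=
  Lgr Lrot76 (Lpe (f512662 IH) (Lpr_ff (f512670 IH) (Lpr_gt (f91085 IH) (Lpn (LP (LK LD1_c13 LD2_c3 LD3_c25))))))
theorem f564337 : Led Lsl_ft (LP (LK LD1_c13 LD2_c3 LD3_c25)) = (LP (LK LD1_c13 LD2_c19 LD3_c33)) :=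
  Lgr Lrot2 (Lpe (f513061 IH) (Lpr_gt (f564329 IH) (Lpe (K36.f426706 IH) (Lpn (LP (LK LD1_c13 LD2_c19 LD3_c33))))))
theorem f564343 : Led Lsl_ff (LP (LK LD1_c13 LD2_c3 LD3_c25)) = (LP (LK LD1_c13 LD2_c19 LD3_c33)) :=
  Lgr Lrot3 (Lpr_ft (f564337 IH) (Lpn (LP (LK LD1_c13 LD2_c19 LD3_c33))))
theorem f513496 : Led Lsl_cf (LP (LK LD1_c13 LD2_c38 LD3_c36)) = (LP (LK LD1_c22 LD2_c12 LD3_c37)) :=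
  Lgr Lrot11 (Lpr_ct (f513493 IH) (Lpn (LP (LK LD1_c22 LD2_c12 LD3_c37))))
theorem f17921 : Led Lsl_at (LP (LK LD1_c3 LD2_c36 LD3_c6)) = (LP (LK LD1_c7 LD2_c12 LD3_c31)) :=
  Lre_a IH (LK LD1_c3 LD2_c36 LD3_c6) (LK LD1_c7 LD2_c12 LD3_c31) Lrfl Lrfl
theorem f513475 : Led Lsl_gt (LP (LK LD1_c13 LD2_c38 LD3_c36)) = (LP (LK LD1_c7 LD2_c12 LD3_c31)) :=
  Lgr Lrot46 (Lpr_gf (f513473 IH) (Lpr_ft (K4.f17857 IH) (Lpr_at (f17921 IH) (Lpn (LP (LK LD1_c7 LD2_c12 LD3_c31))))))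
theorem f17922 : Led Lsl_dt (LP (LK LD1_c13 LD2_c17 LD3_c23)) = (LP (LK LD1_c22 LD2_c33 LD3_c10)) :=
  Lre_d IH (LK LD1_c13 LD2_c17 LD3_c23) (LK LD1_c22 LD2_c33 LD3_c10) Lrfl Lrfl
theorem f465423 : Led Lsl_bt (LP (LK LD1_c6 LD2_c57 LD3_c55)) = (LP (LK LD1_c13 LD2_c13 LD3_c28)) :=
  Lre_b IH (LK LD1_c6 LD2_c57 LD3_c55) (LK LD1_c13 LD2_c13 LD3_c28) Lrfl Lrfl
theorem f111820 : Led Lsl_bf (LP (LK LD1_c14 LD2_c12 LD3_c48)) = (LP (LK LD1_c22 LD2_c33 LD3_c10)) :=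
  Lgr Lrot93 (Lpr_dt (K4.f111374 IH) (Lpr_bt (K4.f111814 IH) (Lpr_dt (f17922 IH) (Lpn (LP (LK LD1_c22 LD2_c33 LD3_c10))))))
theorem f15830 : Led Lsl_bt (LP (LK LD1_c13 LD2_c3 LD3_c38)) = (LP (LK LD1_c6 LD2_c52 LD3_c2)) :=
  Lre_b IH (LK LD1_c13 LD2_c3 LD3_c38) (LK LD1_c6 LD2_c52 LD3_c2) Lrfl Lrfl
theorem f18370 : Led Lsl_ct (LP (LK LD1_c13 LD2_c3 LD3_c38)) = (LP (LK LD1_c22 LD2_c13 LD3_c41)) :=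
  Lre_c IH (LK LD1_c13 LD2_c3 LD3_c38) (LK LD1_c22 LD2_c13 LD3_c41) Lrfl Lrfl
theorem f19033 : Led Lsl_gt (LP (LK LD1_c30 LD2_c21 LD3_c57)) = (LP (LK LD1_c22 LD2_c13 LD3_c41)) :=
  Lre_g IH (LK LD1_c30 LD2_c21 LD3_c57) (LK LD1_c22 LD2_c13 LD3_c41) Lrfl Lrfl
theorem f472711 : Led Lsl_ct (LP (LK LD1_c22 LD2_c33 LD3_c10)) = (LP (LK LD1_c30 LD2_c21 LD3_c57)) :=
  Lgr Lrot64 (Lpe (f111820 IH) (Lpr_gf (K34.f465418 IH) (Lpe (f465423 IH) (Lpr_ct (K28.f469124 IH) (Lpe (K28.f19063 IH) (Lpe (K29.f19062 IH) (Lpe (K28.f15829 IH) (Lpe (f15830 IH) (Lpr_ct (f18370 IH) (Lpe (f19033 IH) (Lpn (LP (LK LD1_c30 LD2_c21 LD3_c57)))))))))))))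
theorem f472726 : Led Lsl_cf (LP (LK LD1_c22 LD2_c33 LD3_c10)) = (LP (LK LD1_c30 LD2_c21 LD3_c57)) :=
  Lgr Lrot11 (Lpr_ct (f472711 IH) (Lpn (LP (LK LD1_c30 LD2_c21 LD3_c57))))
theorem f473546 : Led Lsl_dt (LP (LK LD1_c13 LD2_c7 LD3_c28)) = (LP (LK LD1_c14 LD2_c41 LD3_c26)) :=
  Lgr Lrot42 (Lpr_df (K29.f473524 IH) (Lpn (LP (LK LD1_c14 LD2_c41 LD3_c26))))
theorem f473744 : Led Lsl_af (LP (LK LD1_c6 LD2_c56 LD3_c56)) = (LP (LK LD1_c3 LD2_c52 LD3_c41)) :=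
  Lgr Lrot45 (Lpr_ft (K29.f473743 IH) (Lpr_at (K29.f473730 IH) (Lpe (K29.f473683 IH) (Lpn (LP (LK LD1_c3 LD2_c52 LD3_c41))))))
theorem f473750 : Led Lsl_af (LP (LK LD1_c7 LD2_c47 LD3_c8)) = (LP (LK LD1_c6 LD2_c52 LD3_c2)) :=
  Lgr Lrot117 (Lpr_dt (K29.f459885 IH) (Lpe (f473744 IH) (Lpr_dt (K29.f473748 IH) (Lpn (LP (LK LD1_c6 LD2_c52 LD3_c2))))))
theorem f473678 : Led Lsl_at (LP (LK LD1_c3 LD2_c52 LD3_c34)) = (LP (LK LD1_c1 LD2_c52 LD3_c58)) :=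
  Lre_a IH (LK LD1_c3 LD2_c52 LD3_c34) (LK LD1_c1 LD2_c52 LD3_c58) Lrfl Lrfl
theorem f473679 : Led Lsl_ff (LP (LK LD1_c3 LD2_c52 LD3_c34)) = (LP (LK LD1_c3 LD2_c52 LD3_c35)) :=
  Lgr Lrot30 (Lpr_at (f473678 IH) (Lpr_ft (K29.f473674 IH) (Lpr_at (K30.f63048 IH) (Lpn (LP (LK LD1_c3 LD2_c52 LD3_c35))))))
theorem f473782 : Led Lsl_ct (LP (LK LD1_c3 LD2_c27 LD3_c24)) = (LP (LK LD1_c3 LD2_c52 LD3_c35)) :=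
  Lgr Lrot40 (Lpe (K29.f473743 IH) (Lpr_cf (K29.f473761 IH) (Lpr_ff (f473679 IH) (Lpn (LP (LK LD1_c3 LD2_c52 LD3_c35))))))
theorem f473801 : Led Lsl_ff (LP (LK LD1_c6 LD2_c52 LD3_c2)) = (LP (LK LD1_c6 LD2_c56 LD3_c55)) :=
  Lgr Lrot103 (Lpe (f473750 IH) (Lpe (K29.f473512 IH) (Lpe (f473546 IH) (Lpe (K29.f17062 IH) (Lpe (K29.f17061 IH) (Lpe (K29.f472219 IH) (Lpr_df (K29.f473795 IH) (Lpe (f473782 IH) (Lpe (K29.f90906 IH) (Lpn (LP (LK LD1_c6 LD2_c56 LD3_c55))))))))))))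
theorem f472972 : Led Lsl_bt (LP (LK LD1_c6 LD2_c52 LD3_c2)) = (LP (LK LD1_c13 LD2_c3 LD3_c38)) :=
  Lre_b IH (LK LD1_c6 LD2_c52 LD3_c2) (LK LD1_c13 LD2_c3 LD3_c38) Lrfl Lrfl
theorem f473828 : Led Lsl_ft (LP (LK LD1_c13 LD2_c3 LD3_c38)) = (LP (LK LD1_c13 LD2_c11 LD3_c26)) :=
  Lgr Lrot75 (Lpe (f472972 IH) (Lpr_ff (f473801 IH) (Lpe (K37.f90907 IH) (Lpn (LP (LK LD1_c13 LD2_c11 LD3_c26))))))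
theorem f473841 : Led Lsl_ff (LP (LK LD1_c13 LD2_c3 LD3_c38)) = (LP (LK LD1_c13 LD2_c11 LD3_c26)) :=
  Lgr Lrot3 (Lpr_ft (f473828 IH) (Lpn (LP (LK LD1_c13 LD2_c11 LD3_c26))))
theorem f90908 : Led Lsl_ct (LP (LK LD1_c22 LD2_c24 LD3_c10)) = (LP (LK LD1_c13 LD2_c11 LD3_c26)) :=
  Lre_c IH (LK LD1_c22 LD2_c24 LD3_c10) (LK LD1_c13 LD2_c11 LD3_c26) Lrfl Lrfl
theorem f473848 : Led Lsl_ft (LP (LK LD1_c22 LD2_c13 LD3_c41)) = (LP (LK LD1_c22 LD2_c24 LD3_c10)) :=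
  Lgr Lrot4 (Lpe (f18370 IH) (Lpr_ff (f473841 IH) (Lpe (f90908 IH) (Lpn (LP (LK LD1_c22 LD2_c24 LD3_c10))))))
theorem f18371 : Led Lsl_gt (LP (LK LD1_c22 LD2_c13 LD3_c41)) = (LP (LK LD1_c30 LD2_c21 LD3_c56)) :=
  Lre_g IH (LK LD1_c22 LD2_c13 LD3_c41) (LK LD1_c30 LD2_c21 LD3_c56) Lrfl Lrfl
theorem f473866 : Led Lsl_at (LP (LK LD1_c22 LD2_c24 LD3_c10)) = (LP (LK LD1_c30 LD2_c28 LD3_c10)) :=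
  Lre_a IH (LK LD1_c22 LD2_c24 LD3_c10) (LK LD1_c30 LD2_c28 LD3_c10) Lrfl Lrfl
theorem f473871 : Led Lsl_gt (LP (LK LD1_c30 LD2_c21 LD3_c56)) = (LP (LK LD1_c30 LD2_c28 LD3_c10)) :=
  Lgr Lrot46 (Lpe (f18371 IH) (Lpr_ft (f473848 IH) (Lpr_at (f473866 IH) (Lpn (LP (LK LD1_c30 LD2_c28 LD3_c10))))))
theorem f92936 : Led Lsl_gt (LP (LK LD1_c7 LD2_c32 LD3_c23)) = (LP (LK LD1_c3 LD2_c45 LD3_c50)) :=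
  Lre_g IH (LK LD1_c7 LD2_c32 LD3_c23) (LK LD1_c3 LD2_c45 LD3_c50) Lrfl Lrfl
theorem f111706 : Led Lsl_gf (LP (LK LD1_c7 LD2_c32 LD3_c23)) = (LP (LK LD1_c13 LD2_c17 LD3_c29)) :=
  Lgr Lrot47 (Lpr_gt (f92936 IH) (Lpr_af (K4.f111682 IH) (Lpe (K4.f17838 IH) (Lpn (LP (LK LD1_c13 LD2_c17 LD3_c29))))))
theorem f18592 : Led Lsl_dt (LP (LK LD1_c3 LD2_c30 LD3_c34)) = (LP (LK LD1_c1 LD2_c41 LD3_c54)) :=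
  Lre_d IH (LK LD1_c3 LD2_c30 LD3_c34) (LK LD1_c1 LD2_c41 LD3_c54) Lrfl Lrfl
theorem f18348 : Led Lsl_ct (LP (LK LD1_c7 LD2_c3 LD3_c8)) = (LP (LK LD1_c3 LD2_c30 LD3_c34)) :=
  Lre_c IH (LK LD1_c7 LD2_c3 LD3_c8) (LK LD1_c3 LD2_c30 LD3_c34) Lrfl Lrfl
theorem f18369 : Led Lsl_gt (LP (LK LD1_c13 LD2_c22 LD3_c33)) = (LP (LK LD1_c7 LD2_c3 LD3_c8)) :=
  Lre_g IH (LK LD1_c13 LD2_c22 LD3_c33) (LK LD1_c7 LD2_c3 LD3_c8) Lrfl Lrfl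
theorem f461849 : Led Lsl_ct (LP (LK LD1_c7 LD2_c32 LD3_c23)) = (LP (LK LD1_c13 LD2_c22 LD3_c33)) :=
  Lgr Lrot152 (Lpr_gf (f111706 IH) (Lpe (K28.f17847 IH) (Lpr_gt (K28.f461824 IH) (Lpr_ct (K28.f18609 IH) (Lpr_gt (K24.f18608 IH) (Lpr_ct (K2.f18571 IH) (Lpe (f18592 IH) (Lpe (f18348 IH) (Lpe (f18369 IH) (Lpn (LP (LK LD1_c13 LD2_c22 LD3_c33))))))))))))
theorem f111709 : Led Lsl_bt (LP (LK LD1_c22 LD2_c33 LD3_c19)) = (LP (LK LD1_c13 LD2_c17 LD3_c29)) :=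
  Lre_b IH (LK LD1_c22 LD2_c33 LD3_c19) (LK LD1_c13 LD2_c17 LD3_c29) Lrfl Lrfl
theorem f18364 : Led Lsl_ct (LP (LK LD1_c3 LD2_c30 LD3_c34)) = (LP (LK LD1_c7 LD2_c3 LD3_c8)) :=
  Lre_c IH (LK LD1_c3 LD2_c30 LD3_c34) (LK LD1_c7 LD2_c3 LD3_c8) Lrfl Lrfl
theorem f461861 : Led Lsl_ct (LP (LK LD1_c22 LD2_c33 LD3_c19)) = (LP (LK LD1_c30 LD2_c21 LD3_c56)) :=
  Lgr Lrot10 (Lpr_bt (f111709 IH) (Lpe (f111706 IH) (Lpr_ct (f461849 IH) (Lpr_gt (f18369 IH) (Lpe (f18364 IH) (Lpr_bt (K2.f18328 IH) (Lpr_gt (K28.f18363 IH) (Lpe (f15830 IH) (Lpr_ct (f18370 IH) (Lpr_gt (f18371 IH) (Lpn (LP (LK LD1_c30 LD2_c21 LD3_c56)))))))))))))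
theorem f17947 : Led Lsl_ft (LP (LK LD1_c13 LD2_c17 LD3_c26)) = (LP (LK LD1_c22 LD2_c33 LD3_c19)) :=
  Lre_f IH (LK LD1_c13 LD2_c17 LD3_c26) (LK LD1_c22 LD2_c33 LD3_c19) Lrfl Lrfl
theorem f17895 : Led Lsl_ct (LP (LK LD1_c22 LD2_c33 LD3_c18)) = (LP (LK LD1_c13 LD2_c17 LD3_c26)) :=
  Lre_c IH (LK LD1_c22 LD2_c33 LD3_c18) (LK LD1_c13 LD2_c17 LD3_c26) Lrfl Lrfl
theorem f461865 : Led Lsl_ff (LP (LK LD1_c22 LD2_c33 LD3_c18)) = (LP (LK LD1_c30 LD2_c21 LD3_c56)) :=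
  Lgr Lrot23 (Lpr_ct (f17895 IH) (Lpr_ft (f17947 IH) (Lpr_ct (f461861 IH) (Lpn (LP (LK LD1_c30 LD2_c21 LD3_c56))))))
theorem f89546 : Led Lsl_at (LP (LK LD1_c22 LD2_c33 LD3_c10)) = (LP (LK LD1_c13 LD2_c17 LD3_c26)) :=
  Lre_a IH (LK LD1_c22 LD2_c33 LD3_c10) (LK LD1_c13 LD2_c17 LD3_c26) Lrfl Lrfl
theorem f89547 : Led Lsl_at (LP (LK LD1_c14 LD2_c23 LD3_c32)) = (LP (LK LD1_c24 LD2_c1 LD3_c53)) :=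
  Lre_a IH (LK LD1_c14 LD2_c23 LD3_c32) (LK LD1_c24 LD2_c1 LD3_c53) Lrfl Lrfl
theorem f89548 : Led Lsl_ef (LP (LK LD1_c22 LD2_c33 LD3_c10)) = (LP (LK LD1_c24 LD2_c1 LD3_c53)) :=
  Lgr Lrot20 (Lpr_at (f89546 IH) (Lpr_et (K4.f89544 IH) (Lpr_at (f89547 IH) (Lpn (LP (LK LD1_c24 LD2_c1 LD3_c53))))))
theorem f89604 : Led Lsl_ct (LP (LK LD1_c31 LD2_c19 LD3_c56)) = (LP (LK LD1_c24 LD2_c1 LD3_c53)) :=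
  Lre_c IH (LK LD1_c31 LD2_c19 LD3_c56) (LK LD1_c24 LD2_c1 LD3_c53) Lrfl Lrfl
theorem f472728 : Led Lsl_ef (LP (LK LD1_c31 LD2_c19 LD3_c56)) = (LP (LK LD1_c30 LD2_c21 LD3_c57)) :=
  Lgr Lrot28 (Lpr_ct (f89604 IH) (Lpe (f89548 IH) (Lpr_ct (f472711 IH) (Lpn (LP (LK LD1_c30 LD2_c21 LD3_c57))))))
theorem f89593 : Led Lsl_at (LP (LK LD1_c31 LD2_c19 LD3_c56)) = (LP (LK LD1_c24 LD2_c1 LD3_c61)) :=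
  Lre_a IH (LK LD1_c31 LD2_c19 LD3_c56) (LK LD1_c24 LD2_c1 LD3_c61) Lrfl Lrfl
theorem f89552 : Led Lsl_ct (LP (LK LD1_c14 LD2_c23 LD3_c32)) = (LP (LK LD1_c24 LD2_c1 LD3_c61)) :=
  Lre_c IH (LK LD1_c14 LD2_c23 LD3_c32) (LK LD1_c24 LD2_c1 LD3_c61) Lrfl Lrfl
theorem f89553 : Led Lsl_ef (LP (LK LD1_c22 LD2_c33 LD3_c18)) = (LP (LK LD1_c24 LD2_c1 LD3_c61)) :=
  Lgr Lrot28 (Lpr_ct (f17895 IH) (Lpr_et (K4.f89544 IH) (Lpr_ct (f89552 IH) (Lpn (LP (LK LD1_c24 LD2_c1 LD3_c61))))))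
theorem f472730 : Led Lsl_at (LP (LK LD1_c22 LD2_c33 LD3_c18)) = (LP (LK LD1_c30 LD2_c21 LD3_c57)) :=
  Lgr Lrot80 (Lpr_ef (f89553 IH) (Lpe (f89593 IH) (Lpr_ef (f472728 IH) (Lpn (LP (LK LD1_c30 LD2_c21 LD3_c57))))))
theorem f473875 : Led Lsl_gf (LP (LK LD1_c30 LD2_c21 LD3_c57)) = (LP (LK LD1_c30 LD2_c28 LD3_c10)) :=
  Lgr Lrot76 (Lpe (f472730 IH) (Lpr_ff (f461865 IH) (Lpr_gt (f473871 IH) (Lpn (LP (LK LD1_c30 LD2_c28 LD3_c10))))))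
theorem f473873 : Led Lsl_ct (LP (LK LD1_c22 LD2_c23 LD3_c54)) = (LP (LK LD1_c30 LD2_c28 LD3_c10)) :=
  Lre_c IH (LK LD1_c22 LD2_c23 LD3_c54) (LK LD1_c30 LD2_c28 LD3_c10) Lrfl Lrfl
theorem f513063 : Led Lsl_dt (LP (LK LD1_c22 LD2_c13 LD3_c14)) = (LP (LK LD1_c13 LD2_c3 LD3_c25)) :=
  Lre_d IH (LK LD1_c22 LD2_c13 LD3_c14) (LK LD1_c13 LD2_c3 LD3_c25) Lrfl Lrfl
theorem f513498 : Led Lsl_gf (LP (LK LD1_c22 LD2_c23 LD3_c54)) = (LP (LK LD1_c22 LD2_c13 LD3_c14)) :=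
  Lgr Lrot147 (Lpr_ct (f473873 IH) (Lpe (f473875 IH) (Lpe (f472726 IH) (Lpe (f17922 IH) (Lpe (K34.f17919 IH) (Lpe (f513475 IH) (Lpr_cf (f513496 IH) (Lpr_gf (f513061 IH) (Lpe (f513063 IH) (Lpn (LP (LK LD1_c22 LD2_c13 LD3_c14))))))))))))
theorem f473874 : Led Lsl_dt (LP (LK LD1_c13 LD2_c11 LD3_c18)) = (LP (LK LD1_c22 LD2_c23 LD3_c54)) :=
  Lre_d IH (LK LD1_c13 LD2_c11 LD3_c18) (LK LD1_c22 LD2_c23 LD3_c54) Lrfl Lrfl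
theorem f475865 : Led Lsl_et (LP (LK LD1_c13 LD2_c11 LD3_c18)) = (LP (LK LD1_c6 LD2_c56 LD3_c47)) :=
  Lre_e IH (LK LD1_c13 LD2_c11 LD3_c18) (LK LD1_c6 LD2_c56 LD3_c47) Lrfl Lrfl
theorem f475330 : Led Lsl_at (LP (LK LD1_c13 LD2_c7 LD3_c26)) = (LP (LK LD1_c6 LD2_c54 LD3_c24)) :=
  Lre_a IH (LK LD1_c13 LD2_c7 LD3_c26) (LK LD1_c6 LD2_c54 LD3_c24) Lrfl Lrfl
theorem f475331 : Led Lsl_at (LP (LK LD1_c3 LD2_c27 LD3_c22)) = (LP (LK LD1_c6 LD2_c56 LD3_c47)) :=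
  Lre_a IH (LK LD1_c3 LD2_c27 LD3_c22) (LK LD1_c6 LD2_c56 LD3_c47) Lrfl Lrfl
theorem f475332 : Led Lsl_ff (LP (LK LD1_c13 LD2_c7 LD3_c26)) = (LP (LK LD1_c6 LD2_c56 LD3_c47)) :=
  Lgr Lrot30 (Lpr_at (f475330 IH) (Lpr_ft (K32.f475253 IH) (Lpr_at (f475331 IH) (Lpn (LP (LK LD1_c6 LD2_c56 LD3_c47))))))
theorem f472226 : Led Lsl_gt (LP (LK LD1_c13 LD2_c7 LD3_c25)) = (LP (LK LD1_c6 LD2_c54 LD3_c24)) :=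
  Lre_g IH (LK LD1_c13 LD2_c7 LD3_c25) (LK LD1_c6 LD2_c54 LD3_c24) Lrfl Lrfl
theorem f476169 : Led Lsl_gf (LP (LK LD1_c13 LD2_c7 LD3_c25)) = (LP (LK LD1_c6 LD2_c56 LD3_c47)) :=
  Lgr Lrot47 (Lpr_gt (f472226 IH) (Lpe (f475330 IH) (Lpr_ff (f475332 IH) (Lpn (LP (LK LD1_c6 LD2_c56 LD3_c47))))))
theorem f472544 : Led Lsl_dt (LP (LK LD1_c13 LD2_c7 LD3_c25)) = (LP (LK LD1_c22 LD2_c19 LD3_c23)) :=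
  Lre_d IH (LK LD1_c13 LD2_c7 LD3_c25) (LK LD1_c22 LD2_c19 LD3_c23) Lrfl Lrfl
theorem f17389 : Led Lsl_at (LP (LK LD1_c7 LD2_c13 LD3_c45)) = (LP (LK LD1_c3 LD2_c36 LD3_c47)) :=
  Lre_a IH (LK LD1_c7 LD2_c13 LD3_c45) (LK LD1_c3 LD2_c36 LD3_c47) Lrfl Lrfl
theorem f475853 : Led Lsl_gf (LP (LK LD1_c3 LD2_c36 LD3_c47)) = (LP (LK LD1_c7 LD2_c13 LD3_c37)) :=
  Lgr Lrot76 (Lpe (f17389 IH) (Lpr_ff (K34.f475836 IH) (Lpr_gt (K34.f475821 IH) (Lpn (LP (LK LD1_c7 LD2_c13 LD3_c37))))))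
theorem f17443 : Led Lsl_dt (LP (LK LD1_c3 LD2_c48 LD3_c23)) = (LP (LK LD1_c7 LD2_c37 LD3_c49)) :=
  Lre_d IH (LK LD1_c3 LD2_c48 LD3_c23) (LK LD1_c7 LD2_c37 LD3_c49) Lrfl Lrfl
theorem f17384 : Led Lsl_ct (LP (LK LD1_c14 LD2_c22 LD3_c53)) = (LP (LK LD1_c7 LD2_c37 LD3_c49)) :=
  Lre_c IH (LK LD1_c14 LD2_c22 LD3_c53) (LK LD1_c7 LD2_c37 LD3_c49) Lrfl Lrfl
theorem f17444 : Led Lsl_ct (LP (LK LD1_c7 LD2_c37 LD3_c49)) = (LP (LK LD1_c14 LD2_c22 LD3_c53)) :=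
  Lre_c IH (LK LD1_c7 LD2_c37 LD3_c49) (LK LD1_c14 LD2_c22 LD3_c53) Lrfl Lrfl
theorem f15418 : Led Lsl_ct (LP (LK LD1_c3 LD2_c52 LD3_c25)) = (LP (LK LD1_c7 LD2_c46 LD3_c42)) :=
  Lre_c IH (LK LD1_c3 LD2_c52 LD3_c25) (LK LD1_c7 LD2_c46 LD3_c42) Lrfl Lrfl
theorem f15416 : Led Lsl_bt (LP (LK LD1_c3 LD2_c52 LD3_c25)) = (LP (LK LD1_c3 LD2_c27 LD3_c31)) :=
  Lgr Lrot127 (Lpr_bf (K0.f15402 IH) (Lpn (LP (LK LD1_c3 LD2_c27 LD3_c31))))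
theorem f15897 : Led Lsl_bt (LP (LK LD1_c13 LD2_c7 LD3_c33)) = (LP (LK LD1_c6 LD2_c54 LD3_c27)) :=
  Lre_b IH (LK LD1_c13 LD2_c7 LD3_c33) (LK LD1_c6 LD2_c54 LD3_c27) Lrfl Lrfl
theorem f17072 : Led Lsl_ct (LP (LK LD1_c13 LD2_c7 LD3_c33)) = (LP (LK LD1_c22 LD2_c19 LD3_c32)) :=
  Lre_c IH (LK LD1_c13 LD2_c7 LD3_c33) (LK LD1_c22 LD2_c19 LD3_c32) Lrfl Lrfl
theorem f472297 : Led Lsl_gf (LP (LK LD1_c14 LD2_c22 LD3_c53)) = (LP (LK LD1_c22 LD2_c19 LD3_c32)) :=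
  Lgr Lrot126 (Lpe (f17444 IH) (Lpr_bt (K6.f93013 IH) (Lpr_gt (K34.f92784 IH) (Lpr_ct (K34.f472263 IH) (Lpr_gt (K34.f17069 IH) (Lpe (f15418 IH) (Lpr_bt (f15416 IH) (Lpr_gt (K29.f15394 IH) (Lpe (f15897 IH) (Lpr_ct (f17072 IH) (Lpn (LP (LK LD1_c22 LD2_c19 LD3_c32)))))))))))))
theorem f465276 : Led Lsl_ct (LP (LK LD1_c6 LD2_c56 LD3_c48)) = (LP (LK LD1_c3 LD2_c27 LD3_c22)) :=
  Lre_c IH (LK LD1_c6 LD2_c56 LD3_c48) (LK LD1_c3 LD2_c27 LD3_c22) Lrfl Lrfl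
theorem f470511 : Led Lsl_bf (LP (LK LD1_c3 LD2_c33 LD3_c24)) = (LP (LK LD1_c6 LD2_c56 LD3_c48)) :=
  Lgr Lrot24 (Lpr_bt (K28.f470509 IH) (Lpn (LP (LK LD1_c6 LD2_c56 LD3_c48))))
theorem f475190 : Led Lsl_ft (LP (LK LD1_c7 LD2_c13 LD3_c37)) = (LP (LK LD1_c6 LD2_c56 LD3_c48)) :=
  Lgr Lrot75 (Lpe (K32.f475097 IH) (Lpr_ff (K29.f475186 IH) (Lpr_bf (f470511 IH) (Lpn (LP (LK LD1_c6 LD2_c56 LD3_c48))))))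
theorem f475349 : Led Lsl_ct (LP (LK LD1_c6 LD2_c54 LD3_c24)) = (LP (LK LD1_c7 LD2_c13 LD3_c37)) :=
  Lgr Lrot40 (Lpr_ff (K32.f475341 IH) (Lpe (f465276 IH) (Lpe (f475190 IH) (Lpn (LP (LK LD1_c7 LD2_c13 LD3_c37))))))
theorem f472550 : Led Lsl_dt (LP (LK LD1_c22 LD2_c19 LD3_c23)) = (LP (LK LD1_c13 LD2_c7 LD3_c25)) :=
  Lre_d IH (LK LD1_c22 LD2_c19 LD3_c23) (LK LD1_c13 LD2_c7 LD3_c25) Lrfl Lrfl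
theorem f475855 : Led Lsl_gf (LP (LK LD1_c13 LD2_c7 LD3_c33)) = (LP (LK LD1_c22 LD2_c19 LD3_c23)) :=
  Lgr Lrot147 (Lpr_ct (f17072 IH) (Lpe (f472297 IH) (Lpr_ct (f17384 IH) (Lpe (f17443 IH) (Lpe (K28.f17323 IH) (Lpr_gf (f475853 IH) (Lpe (f475349 IH) (Lpe (f472226 IH) (Lpe (f472550 IH) (Lpn (LP (LK LD1_c22 LD2_c19 LD3_c23))))))))))))
theorem f97611 : Led Lsl_bt (LP (LK LD1_c22 LD2_c36 LD3_c50)) = (LP (LK LD1_c13 LD2_c20 LD3_c22)) :=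
  Lre_b IH (LK LD1_c22 LD2_c36 LD3_c50) (LK LD1_c13 LD2_c20 LD3_c22) Lrfl Lrfl
theorem f97612 : Led Lsl_bt (LP (LK LD1_c13 LD2_c7 LD3_c35)) = (LP (LK LD1_c22 LD2_c19 LD3_c33)) :=
  Lre_b IH (LK LD1_c13 LD2_c7 LD3_c35) (LK LD1_c22 LD2_c19 LD3_c33) Lrfl Lrfl
theorem f97613 : Led Lsl_df (LP (LK LD1_c22 LD2_c36 LD3_c50)) = (LP (LK LD1_c22 LD2_c19 LD3_c33)) :=
  Lgr Lrot12 (Lpr_bt (f97611 IH) (Lpr_dt (K33.f97608 IH) (Lpr_bt (f97612 IH) (Lpn (LP (LK LD1_c22 LD2_c19 LD3_c33))))))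
theorem f97623 : Led Lsl_et (LP (LK LD1_c22 LD2_c36 LD3_c50)) = (LP (LK LD1_c13 LD2_c20 LD3_c18)) :=
  Lre_e IH (LK LD1_c22 LD2_c36 LD3_c50) (LK LD1_c13 LD2_c20 LD3_c18) Lrfl Lrfl
theorem f97624 : Led Lsl_dt (LP (LK LD1_c13 LD2_c20 LD3_c18)) = (LP (LK LD1_c7 LD2_c1 LD3_c58)) :=
  Lre_d IH (LK LD1_c13 LD2_c20 LD3_c18) (LK LD1_c7 LD2_c1 LD3_c58) Lrfl Lrfl
theorem f97625 : Led Lsl_et (LP (LK LD1_c7 LD2_c1 LD3_c58)) = (LP (LK LD1_c13 LD2_c20 LD3_c19)) :=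
  Lre_e IH (LK LD1_c7 LD2_c1 LD3_c58) (LK LD1_c13 LD2_c20 LD3_c19) Lrfl Lrfl
theorem f97626 : Led Lsl_et (LP (LK LD1_c13 LD2_c7 LD3_c33)) = (LP (LK LD1_c22 LD2_c19 LD3_c33)) :=
  Lre_e IH (LK LD1_c13 LD2_c7 LD3_c33) (LK LD1_c22 LD2_c19 LD3_c33) Lrfl Lrfl
theorem f97627 : Led Lsl_dt (LP (LK LD1_c13 LD2_c20 LD3_c19)) = (LP (LK LD1_c13 LD2_c7 LD3_c33)) :=
  Lgr Lrot77 (Lpe (f97625 IH) (Lpe (f97624 IH) (Lpe (f97623 IH) (Lpr_df (f97613 IH) (Lpe (f97626 IH) (Lpn (LP (LK LD1_c13 LD2_c7 LD3_c33))))))))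
theorem f97638 : Led Lsl_gt (LP (LK LD1_c7 LD2_c1 LD3_c58)) = (LP (LK LD1_c13 LD2_c20 LD3_c16)) :=
  Lre_g IH (LK LD1_c7 LD2_c1 LD3_c58) (LK LD1_c13 LD2_c20 LD3_c16) Lrfl Lrfl
theorem f91086 : Led Lsl_dt (LP (LK LD1_c13 LD2_c3 LD3_c25)) = (LP (LK LD1_c22 LD2_c13 LD3_c14)) :=
  Lre_d IH (LK LD1_c13 LD2_c3 LD3_c25) (LK LD1_c22 LD2_c13 LD3_c14) Lrfl Lrfl
theorem f513504 : Led Lsl_ef (LP (LK LD1_c13 LD2_c20 LD3_c16)) = (LP (LK LD1_c13 LD2_c3 LD3_c25)) :=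
  Lgr Lrot17 (Lpe (f97638 IH) (Lpe (K33.f97637 IH) (Lpr_dt (f97627 IH) (Lpr_gf (f475855 IH) (Lpe (f472544 IH) (Lpr_gf (f476169 IH) (Lpe (f475865 IH) (Lpr_dt (f473874 IH) (Lpr_gf (f513498 IH) (Lpe (f91086 IH) (Lpn (LP (LK LD1_c13 LD2_c3 LD3_c25)))))))))))))
theorem f116639 : Led Lsl_et (LP (LK LD1_c13 LD2_c3 LD3_c15)) = (LP (LK LD1_c6 LD2_c51 LD3_c51)) :=
  Lre_e IH (LK LD1_c13 LD2_c3 LD3_c15) (LK LD1_c6 LD2_c51 LD3_c51) Lrfl Lrfl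
theorem f564347 : Led Lsl_ft (LP (LK LD1_c13 LD2_c20 LD3_c16)) = (LP (LK LD1_c13 LD2_c3 LD3_c15)) :=
  Lgr Lrot86 (Lpr_ef (f513504 IH) (Lpr_ff (f564343 IH) (Lpe (K36.f426705 IH) (Lpr_ff (K40.f426860 IH) (Lpe (f116639 IH) (Lpn (LP (LK LD1_c13 LD2_c3 LD3_c15))))))))
theorem f116646 : Led Lsl_et (LP (LK LD1_c7 LD2_c1 LD3_c49)) = (LP (LK LD1_c13 LD2_c20 LD3_c4)) :=
  Lre_e IH (LK LD1_c7 LD2_c1 LD3_c49) (LK LD1_c13 LD2_c20 LD3_c4) Lrfl Lrfl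
theorem f426874 : Led Lsl_at (LP (LK LD1_c13 LD2_c20 LD3_c4)) = (LP (LK LD1_c13 LD2_c3 LD3_c15)) :=
  Lgr Lrot80 (Lpe (f116646 IH) (Lpr_af (K37.f426868 IH) (Lpe (f116639 IH) (Lpn (LP (LK LD1_c13 LD2_c3 LD3_c15))))))
theorem f426876 : Led Lsl_af (LP (LK LD1_c13 LD2_c20 LD3_c4)) = (LP (LK LD1_c13 LD2_c3 LD3_c15)) :=
  Lgr Lrot0 (Lpr_at (f426874 IH) (Lpn (LP (LK LD1_c13 LD2_c3 LD3_c15))))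
theorem f127454 : Led Lsl_gt (LP (LK LD1_c22 LD2_c36 LD3_c28)) = (LP (LK LD1_c13 LD2_c20 LD3_c4)) :=
  Lre_g IH (LK LD1_c22 LD2_c36 LD3_c28) (LK LD1_c13 LD2_c20 LD3_c4) Lrfl Lrfl
theorem f564351 : Led Lsl_gt (LP (LK LD1_c13 LD2_c20 LD3_c16)) = (LP (LK LD1_c22 LD2_c36 LD3_c28)) :=
  Lgr Lrot5 (Lpr_ft (f564347 IH) (Lpe (f426876 IH) (Lpe (f127454 IH) (Lpn (LP (LK LD1_c22 LD2_c36 LD3_c28))))))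
theorem f564353 : Led Lsl_at (LP (LK LD1_c13 LD2_c20 LD3_c12)) = (LP (LK LD1_c22 LD2_c36 LD3_c28)) :=
  Lgr Lrot26 (Lpr_ff (K33.f512099 IH) (Lpr_gt (f97638 IH) (Lpr_gt (f564351 IH) (Lpn (LP (LK LD1_c22 LD2_c36 LD3_c28))))))
theorem f466284 : Led Lsl_at (LP (LK LD1_c13 LD2_c20 LD3_c17)) = (LP (LK LD1_c7 LD2_c1 LD3_c58)) :=
  Lre_a IH (LK LD1_c13 LD2_c20 LD3_c17) (LK LD1_c7 LD2_c1 LD3_c58) Lrfl Lrfl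
theorem f564361 : Led Lsl_ff (LP (LK LD1_c13 LD2_c20 LD3_c17)) = (LP (LK LD1_c22 LD2_c36 LD3_c28)) :=
  Lgr Lrot30 (Lpr_at (f466284 IH) (Lpe (K33.f512099 IH) (Lpr_at (f564353 IH) (Lpn (LP (LK LD1_c22 LD2_c36 LD3_c28))))))
theorem f564367 : Led Lsl_gf (LP (LK LD1_c7 LD2_c1 LD3_c58)) = (LP (LK LD1_c13 LD2_c20 LD3_c4)) :=
  Lgr Lrot76 (Lpe (f466284 IH) (Lpr_ff (f564361 IH) (Lpr_gt (f127454 IH) (Lpn (LP (LK LD1_c13 LD2_c20 LD3_c4))))))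
theorem f136393 : Led Lsl_et (LP (LK LD1_c7 LD2_c41 LD3_c55)) = (LP (LK LD1_c3 LD2_c50 LD3_c24)) :=
  Lre_e IH (LK LD1_c7 LD2_c41 LD3_c55) (LK LD1_c3 LD2_c50 LD3_c24) Lrfl Lrfl
theorem f136394 : Led Lsl_dt (LP (LK LD1_c7 LD2_c41 LD3_c55)) = (LP (LK LD1_c14 LD2_c30 LD3_c40)) :=
  Lre_d IH (LK LD1_c7 LD2_c41 LD3_c55) (LK LD1_c14 LD2_c30 LD3_c40) Lrfl Lrfl
theorem f564371 : Led Lsl_gt (LP (LK LD1_c13 LD2_c7 LD3_c33)) = (LP (LK LD1_c14 LD2_c30 LD3_c40)) :=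
  Lgr Lrot112 (Lpe (f97627 IH) (Lpr_et (K33.f97637 IH) (Lpr_gf (f564367 IH) (Lpe (f116646 IH) (Lpe (K37.f127448 IH) (Lpe (K37.f126570 IH) (Lpr_df (K5.f127421 IH) (Lpe (K6.f136359 IH) (Lpe (f136393 IH) (Lpr_dt (f136394 IH) (Lpn (LP (LK LD1_c14 LD2_c30 LD3_c40)))))))))))))
theorem f66386 : Led Lsl_et (LP (LK LD1_c7 LD2_c41 LD3_c56)) = (LP (LK LD1_c3 LD2_c50 LD3_c25)) :=
  Lre_e IH (LK LD1_c7 LD2_c41 LD3_c56) (LK LD1_c3 LD2_c50 LD3_c25) Lrfl Lrfl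
theorem f501874 : Led Lsl_cf (LP (LK LD1_c7 LD2_c41 LD3_c56)) = (LP (LK LD1_c9 LD2_c30 LD3_c9)) :=
  Lgr Lrot39 (Lpr_et (f66386 IH) (Lpr_ct (K36.f501868 IH) (Lpr_et (K37.f501862 IH) (Lpn (LP (LK LD1_c9 LD2_c30 LD3_c9))))))
theorem f501894 : Led Lsl_at (LP (LK LD1_c4 LD2_c48 LD3_c52)) = (LP (LK LD1_c9 LD2_c30 LD3_c9)) :=
  Lre_a IH (LK LD1_c4 LD2_c48 LD3_c52) (LK LD1_c9 LD2_c30 LD3_c9) Lrfl Lrfl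
theorem f502640 : Led Lsl_ct (LP (LK LD1_c9 LD2_c30 LD3_c11)) = (LP (LK LD1_c4 LD2_c48 LD3_c52)) :=
  Lre_c IH (LK LD1_c9 LD2_c30 LD3_c11) (LK LD1_c4 LD2_c48 LD3_c52) Lrfl Lrfl
theorem f502641 : Led Lsl_at (LP (LK LD1_c7 LD2_c41 LD3_c56)) = (LP (LK LD1_c9 LD2_c30 LD3_c11)) :=
  Lgr Lrot107 (Lpr_cf (f501874 IH) (Lpe (f501894 IH) (Lpe (f502640 IH) (Lpn (LP (LK LD1_c9 LD2_c30 LD3_c11))))))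
theorem f66370 : Led Lsl_dt (LP (LK LD1_c14 LD2_c30 LD3_c41)) = (LP (LK LD1_c7 LD2_c41 LD3_c56)) :=
  Lre_d IH (LK LD1_c14 LD2_c30 LD3_c41) (LK LD1_c7 LD2_c41 LD3_c56) Lrfl Lrfl
theorem f502645 : Led Lsl_af (LP (LK LD1_c14 LD2_c30 LD3_c41)) = (LP (LK LD1_c17 LD2_c31 LD3_c30)) :=
  Lgr Lrot117 (Lpr_dt (f66370 IH) (Lpr_at (f502641 IH) (Lpr_dt (K8.f109404 IH) (Lpn (LP (LK LD1_c17 LD2_c31 LD3_c30))))))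
theorem f66371 : Led Lsl_et (LP (LK LD1_c14 LD2_c30 LD3_c41)) = (LP (LK LD1_c7 LD2_c41 LD3_c58)) :=
  Lre_e IH (LK LD1_c14 LD2_c30 LD3_c41) (LK LD1_c7 LD2_c41 LD3_c58) Lrfl Lrfl
theorem f502652 : Led Lsl_at (LP (LK LD1_c7 LD2_c41 LD3_c58)) = (LP (LK LD1_c14 LD2_c18 LD3_c32)) :=
  Lgr Lrot80 (Lpe (f66371 IH) (Lpr_af (f502645 IH) (Lpr_ef (K8.f109417 IH) (Lpn (LP (LK LD1_c14 LD2_c18 LD3_c32))))))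
theorem f502654 : Led Lsl_af (LP (LK LD1_c7 LD2_c41 LD3_c58)) = (LP (LK LD1_c14 LD2_c18 LD3_c32)) :=
  Lgr Lrot0 (Lpr_at (f502652 IH) (Lpn (LP (LK LD1_c14 LD2_c18 LD3_c32))))
theorem f502659 : Led Lsl_bt (LP (LK LD1_c7 LD2_c41 LD3_c58)) = (LP (LK LD1_c14 LD2_c30 LD3_c40)) :=
  Lre_b IH (LK LD1_c7 LD2_c41 LD3_c58) (LK LD1_c14 LD2_c30 LD3_c40) Lrfl Lrfl
theorem f89708 : Led Lsl_dt (LP (LK LD1_c13 LD2_c9 LD3_c49)) = (LP (LK LD1_c22 LD2_c22 LD3_c23)) :=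
  Lre_d IH (LK LD1_c13 LD2_c9 LD3_c49) (LK LD1_c22 LD2_c22 LD3_c23) Lrfl Lrfl
theorem f501721 : Led Lsl_at (LP (LK LD1_c22 LD2_c22 LD3_c23)) = (LP (LK LD1_c23 LD2_c56 LD3_c31)) :=
  Lgr Lrot51 (Lpe (f89708 IH) (Lpr_af (K36.f501715 IH) (Lpe (K8.f109430 IH) (Lpn (LP (LK LD1_c23 LD2_c56 LD3_c31))))))
theorem f502660 : Led Lsl_bt (LP (LK LD1_c13 LD2_c9 LD3_c51)) = (LP (LK LD1_c22 LD2_c22 LD3_c23)) :=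
  Lre_b IH (LK LD1_c13 LD2_c9 LD3_c51) (LK LD1_c22 LD2_c22 LD3_c23) Lrfl Lrfl
theorem f502661 : Led Lsl_at (LP (LK LD1_c14 LD2_c30 LD3_c40)) = (LP (LK LD1_c13 LD2_c9 LD3_c51)) :=
  Lgr Lrot67 (Lpe (f502659 IH) (Lpr_af (f502654 IH) (Lpe (K8.f109421 IH) (Lpe (f501721 IH) (Lpe (f502660 IH) (Lpn (LP (LK LD1_c13 LD2_c9 LD3_c51))))))))
theorem f502664 : Led Lsl_af (LP (LK LD1_c14 LD2_c30 LD3_c40)) = (LP (LK LD1_c13 LD2_c9 LD3_c51)) :=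
  Lgr Lrot0 (Lpr_at (f502661 IH) (Lpn (LP (LK LD1_c13 LD2_c9 LD3_c51))))
theorem f564373 : Led Lsl_ft (LP (LK LD1_c22 LD2_c19 LD3_c23)) = (LP (LK LD1_c13 LD2_c9 LD3_c51)) :=
  Lgr Lrot2 (Lpe (f475855 IH) (Lpr_gt (f564371 IH) (Lpr_af (f502664 IH) (Lpn (LP (LK LD1_c13 LD2_c9 LD3_c51))))))
theorem f564392 : Led Lsl_ff (LP (LK LD1_c22 LD2_c19 LD3_c23)) = (LP (LK LD1_c13 LD2_c9 LD3_c51)) :=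
  Lgr Lrot3 (Lpr_ft (f564373 IH) (Lpn (LP (LK LD1_c13 LD2_c9 LD3_c51))))
theorem f97875 : Led Lsl_dt (LP (LK LD1_c6 LD2_c55 LD3_c56)) = (LP (LK LD1_c13 LD2_c9 LD3_c51)) :=
  Lre_d IH (LK LD1_c6 LD2_c55 LD3_c56) (LK LD1_c13 LD2_c9 LD3_c51) Lrfl Lrfl
theorem f564396 : Led Lsl_ft (LP (LK LD1_c13 LD2_c7 LD3_c25)) = (LP (LK LD1_c6 LD2_c55 LD3_c56)) :=
  Lgr Lrot54 (Lpe (f472550 IH) (Lpr_ff (f564392 IH) (Lpe (f97875 IH) (Lpn (LP (LK LD1_c6 LD2_c55 LD3_c56))))))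
theorem f428977 : Led Lsl_et (LP (LK LD1_c3 LD2_c27 LD3_c0)) = (LP (LK LD1_c6 LD2_c55 LD3_c56)) :=
  Lre_e IH (LK LD1_c3 LD2_c27 LD3_c0) (LK LD1_c6 LD2_c55 LD3_c56) Lrfl Lrfl
theorem f501586 : Led Lsl_af (LP (LK LD1_c7 LD2_c41 LD3_c55)) = (LP (LK LD1_c6 LD2_c55 LD3_c56)) :=
  Lgr Lrot50 (Lpr_et (f136393 IH) (Lpr_at (K36.f501580 IH) (Lpr_et (f428977 IH) (Lpn (LP (LK LD1_c6 LD2_c55 LD3_c56))))))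
theorem f564402 : Led Lsl_gt (LP (LK LD1_c6 LD2_c54 LD3_c24)) = (LP (LK LD1_c7 LD2_c41 LD3_c55)) :=
  Lgr Lrot46 (Lpe (f472226 IH) (Lpr_ft (f564396 IH) (Lpe (f501586 IH) (Lpn (LP (LK LD1_c7 LD2_c41 LD3_c55))))))
theorem f472225 : Led Lsl_bt (LP (LK LD1_c3 LD2_c26 LD3_c14)) = (LP (LK LD1_c6 LD2_c54 LD3_c24)) :=
  Lre_b IH (LK LD1_c3 LD2_c26 LD3_c14) (LK LD1_c6 LD2_c54 LD3_c24) Lrfl Lrfl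
theorem f136454 : Led Lsl_bt (LP (LK LD1_c3 LD2_c50 LD3_c26)) = (LP (LK LD1_c7 LD2_c41 LD3_c55)) :=
  Lre_b IH (LK LD1_c3 LD2_c50 LD3_c26) (LK LD1_c7 LD2_c41 LD3_c55) Lrfl Lrfl
theorem f136450 : Led Lsl_et (LP (LK LD1_c3 LD2_c50 LD3_c26)) = (LP (LK LD1_c1 LD2_c52 LD3_c7)) :=
  Lre_e IH (LK LD1_c3 LD2_c50 LD3_c26) (LK LD1_c1 LD2_c52 LD3_c7) Lrfl Lrfl
theorem f136452 : Led Lsl_cf (LP (LK LD1_c3 LD2_c50 LD3_c26)) = (LP (LK LD1_c7 LD2_c35 LD3_c23)) :=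
  Lgr Lrot39 (Lpr_et (f136450 IH) (Lpr_ct (K6.f136444 IH) (Lpr_et (K36.f136451 IH) (Lpn (LP (LK LD1_c7 LD2_c35 LD3_c23))))))
theorem f136456 : Led Lsl_ct (LP (LK LD1_c3 LD2_c50 LD3_c26)) = (LP (LK LD1_c7 LD2_c35 LD3_c23)) :=
  Lgr Lrot59 (Lpr_cf (f136452 IH) (Lpn (LP (LK LD1_c7 LD2_c35 LD3_c23))))
theorem f564412 : Led Lsl_gf (LP (LK LD1_c3 LD2_c47 LD3_c51)) = (LP (LK LD1_c7 LD2_c35 LD3_c23)) :=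
  Lgr Lrot126 (Lpe (K34.f457919 IH) (Lpr_bt (K33.f457776 IH) (Lpr_gt (K28.f16745 IH) (Lpe (K29.f473409 IH) (Lpr_gt (K28.f473434 IH) (Lpr_cf (K29.f472216 IH) (Lpr_bt (f472225 IH) (Lpr_gt (f564402 IH) (Lpe (f136454 IH) (Lpr_ct (f136456 IH) (Lpn (LP (LK LD1_c7 LD2_c35 LD3_c23)))))))))))))
theorem f457777 : Led Lsl_bt (LP (LK LD1_c1 LD2_c50 LD3_c57)) = (LP (LK LD1_c3 LD2_c47 LD3_c51)) :=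
  Lre_b IH (LK LD1_c1 LD2_c50 LD3_c57) (LK LD1_c3 LD2_c47 LD3_c51) Lrfl Lrfl
theorem f457778 : Led Lsl_cf (LP (LK LD1_c3 LD2_c27 LD3_c36)) = (LP (LK LD1_c3 LD2_c47 LD3_c51)) :=
  Lgr Lrot97 (Lpr_bt (K33.f457776 IH) (Lpr_ct (K28.f16755 IH) (Lpr_bt (K28.f455114 IH) (Lpr_ct (K24.f457774 IH) (Lpr_bt (f457777 IH) (Lpn (LP (LK LD1_c3 LD2_c47 LD3_c51))))))))
theorem f17020 : Led Lsl_gt (LP (LK LD1_c3 LD2_c27 LD3_c36)) = (LP (LK LD1_c6 LD2_c57 LD3_c22)) :=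
  Lre_g IH (LK LD1_c3 LD2_c27 LD3_c36) (LK LD1_c6 LD2_c57 LD3_c22) Lrfl Lrfl
theorem f457964 : Led Lsl_ct (LP (LK LD1_c13 LD2_c12 LD3_c32)) = (LP (LK LD1_c6 LD2_c57 LD3_c22)) :=
  Lre_c IH (LK LD1_c13 LD2_c12 LD3_c32) (LK LD1_c6 LD2_c57 LD3_c22) Lrfl Lrfl
theorem f530357 : Led Lsl_gt (LP (LK LD1_c7 LD2_c36 LD3_c54)) = K34.v2681 :=
  Lgr Lrot5 (Lpr_ft (K34.f492093 IH) (Lpr_at (K34.f459835 IH) (Lpr_gf (K34.f530356 IH) (Lpn K34.v2681))))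
theorem f457931 : Led Lsl_dt (LP (LK LD1_c6 LD2_c57 LD3_c24)) = (LP (LK LD1_c3 LD2_c27 LD3_c36)) :=
  Lre_d IH (LK LD1_c6 LD2_c57 LD3_c24) (LK LD1_c3 LD2_c27 LD3_c36) Lrfl Lrfl
theorem f492449 : Led Lsl_ft (LP (LK LD1_c3 LD2_c27 LD3_c36)) = (LP (LK LD1_c3 LD2_c52 LD3_c6)) :=
  Lgr Lrot54 (Lpe (f457931 IH) (Lpr_ff (K33.f492444 IH) (Lpe (K33.f458103 IH) (Lpn (LP (LK LD1_c3 LD2_c52 LD3_c6))))))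
theorem f493146 : Led Lsl_gt (LP (LK LD1_c6 LD2_c57 LD3_c22)) = (LP (LK LD1_c7 LD2_c45 LD3_c61)) :=
  Lgr Lrot46 (Lpe (f17020 IH) (Lpr_ft (f492449 IH) (Lpr_at (K33.f458100 IH) (Lpn (LP (LK LD1_c7 LD2_c45 LD3_c61))))))
theorem f472054 : Led Lsl_bt (LP (LK LD1_c13 LD2_c7 LD3_c54)) = (LP (LK LD1_c7 LD2_c36 LD3_c25)) :=
  Lgr Lrot127 (Lpr_bf (K34.f472052 IH) (Lpn (LP (LK LD1_c7 LD2_c36 LD3_c25))))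
theorem f534586 : Led Lsl_bt (LP (LK LD1_c13 LD2_c12 LD3_c32)) = (LP (LK LD1_c14 LD2_c20 LD3_c29)) :=
  Lgr Lrot92 (Lpr_ct (f457964 IH) (Lpr_gt (f493146 IH) (Lpe (K34.f492268 IH) (Lpr_bt (K34.f492266 IH) (Lpr_gt (f530357 IH) (Lpqs (K34.f532914 IH) (Lpr_ct (K35.f123489 IH) (Lpr_gt (K35.f203993 IH) (Lpr_cf (K35.f534582 IH) (Lpr_bt (f472054 IH) (Lpr_gt (K35.f457853 IH) (Lpn (LP (LK LD1_c14 LD2_c20 LD3_c29))))))))))))))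
theorem f14973 : Led Lsl_bt (LP (LK LD1_c3 LD2_c47 LD3_c51)) = (LP (LK LD1_c1 LD2_c50 LD3_c57)) :=
  Lre_b IH (LK LD1_c3 LD2_c47 LD3_c51) (LK LD1_c1 LD2_c50 LD3_c57) Lrfl Lrfl
theorem f534590 : Led Lsl_gf (LP (LK LD1_c7 LD2_c36 LD3_c29)) = (LP (LK LD1_c14 LD2_c20 LD3_c29)) :=
  Lgr Lrot181 (Lpr_ct (K29.f14841 IH) (Lpr_gt (K29.f14963 IH) (Lpr_cf (K34.f14777 IH) (Lpr_bt (K35.f14950 IH) (Lpr_gt (K1.f14965 IH) (Lpe (f14973 IH) (Lpe (f457778 IH) (Lpr_gt (f17020 IH) (Lpe (f457964 IH) (Lpr_bt (f534586 IH) (Lpn (LP (LK LD1_c14 LD2_c20 LD3_c29)))))))))))))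
theorem f471263 : Led Lsl_bf (LP (LK LD1_c7 LD2_c36 LD3_c29)) = (LP (LK LD1_c7 LD2_c47 LD3_c9)) :=
  Lgr Lrot24 (Lpr_bt (K29.f471261 IH) (Lpn (LP (LK LD1_c7 LD2_c47 LD3_c9))))
theorem f136489 : Led Lsl_ct (LP (LK LD1_c6 LD2_c55 LD3_c53)) = (LP (LK LD1_c13 LD2_c9 LD3_c47)) :=
  Lre_c IH (LK LD1_c6 LD2_c55 LD3_c53) (LK LD1_c13 LD2_c9 LD3_c47) Lrfl Lrfl
theorem f564416 : Led Lsl_gt (LP (LK LD1_c13 LD2_c30 LD3_c30)) = (LP (LK LD1_c13 LD2_c9 LD3_c47)) :=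
  Lgr Lrot65 (Lpr_cf (K29.f471265 IH) (Lpe (f471263 IH) (Lpr_gf (f534590 IH) (Lpe (f534586 IH) (Lpr_ct (f457964 IH) (Lpe (f17020 IH) (Lpr_cf (f457778 IH) (Lpr_gf (f564412 IH) (Lpe (K36.f136479 IH) (Lpr_ct (f136489 IH) (Lpn (LP (LK LD1_c13 LD2_c9 LD3_c47)))))))))))))
theorem f470938 : Led Lsl_bt (LP (LK LD1_c7 LD2_c7 LD3_c54)) = (LP (LK LD1_c13 LD2_c30 LD3_c30)) :=
  Lre_b IH (LK LD1_c7 LD2_c7 LD3_c54) (LK LD1_c13 LD2_c30 LD3_c30) Lrfl Lrfl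
theorem f470930 : Led Lsl_gt (LP (LK LD1_c14 LD2_c20 LD3_c33)) = (LP (LK LD1_c7 LD2_c36 LD3_c28)) :=
  Lre_g IH (LK LD1_c14 LD2_c20 LD3_c33) (LK LD1_c7 LD2_c36 LD3_c28) Lrfl Lrfl
theorem f491813 : Led Lsl_ff (LP (LK LD1_c1 LD2_c52 LD3_c43)) = (LP (LK LD1_c3 LD2_c47 LD3_c51)) :=
  Lgr Lrot25 (Lpr_bt (K33.f14881 IH) (Lpr_ft (K24.f459840 IH) (Lpqs (K33.f491808 IH) (Lpr_bt (f457777 IH) (Lpn (LP (LK LD1_c3 LD2_c47 LD3_c51)))))))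
theorem f459875 : Led Lsl_at (LP (LK LD1_c1 LD2_c52 LD3_c43)) = (LP (LK LD1_c3 LD2_c52 LD3_c5)) :=
  Lre_a IH (LK LD1_c1 LD2_c52 LD3_c43) (LK LD1_c3 LD2_c52 LD3_c5) Lrfl Lrfl
theorem f443470 : Led Lsl_gt (LP (LK LD1_c3 LD2_c47 LD3_c51)) = (LP (LK LD1_c7 LD2_c36 LD3_c47)) :=
  Lre_g IH (LK LD1_c3 LD2_c47 LD3_c51) (LK LD1_c7 LD2_c36 LD3_c47) Lrfl Lrfl
theorem f493256 : Led Lsl_gf (LP (LK LD1_c3 LD2_c52 LD3_c5)) = (LP (LK LD1_c7 LD2_c36 LD3_c47)) :=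
  Lgr Lrot76 (Lpe (f459875 IH) (Lpr_ff (f491813 IH) (Lpr_gt (f443470 IH) (Lpn (LP (LK LD1_c7 LD2_c36 LD3_c47))))))
theorem f492269 : Led Lsl_ct (LP (LK LD1_c7 LD2_c45 LD3_c61)) = (LP (LK LD1_c3 LD2_c52 LD3_c5)) :=
  Lre_c IH (LK LD1_c7 LD2_c45 LD3_c61) (LK LD1_c3 LD2_c52 LD3_c5) Lrfl Lrfl
theorem f95872 : Led Lsl_gt (LP (LK LD1_c3 LD2_c54 LD3_c5)) = (LP (LK LD1_c7 LD2_c49 LD3_c45)) :=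
  Lre_g IH (LK LD1_c3 LD2_c54 LD3_c5) (LK LD1_c7 LD2_c49 LD3_c45) Lrfl Lrfl
theorem f440284 : Led Lsl_ct (LP (LK LD1_c14 LD2_c46 LD3_c11)) = (LP (LK LD1_c7 LD2_c49 LD3_c45)) :=
  Lre_c IH (LK LD1_c14 LD2_c46 LD3_c11) (LK LD1_c7 LD2_c49 LD3_c45) Lrfl Lrfl
theorem f488320 : Led Lsl_cf (LP (LK LD1_c13 LD2_c41 LD3_c31)) = (LP (LK LD1_c7 LD2_c54 LD3_c51)) :=
  Lgr Lrot11 (Lpr_ct (K39.f468095 IH) (Lpn (LP (LK LD1_c7 LD2_c54 LD3_c51))))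
theorem f471501 : Led Lsl_gt (LP (LK LD1_c13 LD2_c41 LD3_c31)) = (LP (LK LD1_c7 LD2_c14 LD3_c22)) :=
  Lgr Lrot46 (Lpr_gf (K39.f471494 IH) (Lpr_ft (K29.f425476 IH) (Lpr_at (K29.f425305 IH) (Lpn (LP (LK LD1_c7 LD2_c14 LD3_c22))))))
theorem f471182 : Led Lsl_cf (LP (LK LD1_c1 LD2_c54 LD3_c39)) = (LP (LK LD1_c3 LD2_c42 LD3_c42)) :=
  Lgr Lrot11 (Lpr_ct (K29.f471174 IH) (Lpn (LP (LK LD1_c3 LD2_c42 LD3_c42))))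
theorem f488324 : Led Lsl_bf (LP (LK LD1_c7 LD2_c49 LD3_c45)) = (LP (LK LD1_c7 LD2_c54 LD3_c51)) :=
  Lgr Lrot34 (Lpe (f95872 IH) (Lpe (K5.f95870 IH) (Lpe (K5.f95857 IH) (Lpr_gf (K34.f471919 IH) (Lpr_cf (f471182 IH) (Lpr_gf (K29.f203949 IH) (Lpe (K29.f12385 IH) (Lpe (K29.f425432 IH) (Lpe (f471501 IH) (Lpr_cf (f488320 IH) (Lpn (LP (LK LD1_c7 LD2_c54 LD3_c51)))))))))))))
theorem f95873 : Led Lsl_ct (LP (LK LD1_c7 LD2_c49 LD3_c45)) = (LP (LK LD1_c14 LD2_c46 LD3_c11)) :=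
  Lre_c IH (LK LD1_c7 LD2_c49 LD3_c45) (LK LD1_c14 LD2_c46 LD3_c11) Lrfl Lrfl
theorem f471504 : Led Lsl_bt (LP (LK LD1_c7 LD2_c14 LD3_c9)) = (LP (LK LD1_c13 LD2_c41 LD3_c31)) :=
  Lre_b IH (LK LD1_c7 LD2_c14 LD3_c9) (LK LD1_c13 LD2_c41 LD3_c31) Lrfl Lrfl
theorem f96586 : Led Lsl_ct (LP (LK LD1_c13 LD2_c41 LD3_c32)) = (LP (LK LD1_c7 LD2_c14 LD3_c9)) :=
  Lre_c IH (LK LD1_c13 LD2_c41 LD3_c32) (LK LD1_c7 LD2_c14 LD3_c9) Lrfl Lrfl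
theorem f488328 : Led Lsl_bt (LP (LK LD1_c14 LD2_c46 LD3_c11)) = (LP (LK LD1_c13 LD2_c41 LD3_c32)) :=
  Lgr Lrot128 (Lpe (f95873 IH) (Lpr_bf (f488324 IH) (Lpe (K39.f468095 IH) (Lpe (f471504 IH) (Lpe (f96586 IH) (Lpn (LP (LK LD1_c13 LD2_c41 LD3_c32))))))))
theorem f465235 : Led Lsl_cf (LP (LK LD1_c1 LD2_c53 LD3_c20)) = (LP (LK LD1_c3 LD2_c36 LD3_c50)) :=
  Lgr Lrot11 (Lpr_ct (K28.f465228 IH) (Lpn (LP (LK LD1_c3 LD2_c36 LD3_c50))))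
theorem f465372 : Led Lsl_ct (LP (LK LD1_c3 LD2_c53 LD3_c29)) = (LP (LK LD1_c7 LD2_c13 LD3_c54)) :=
  Lgr Lrot83 (Lpe (K28.f15701 IH) (Lpe (K28.f446568 IH) (Lpe (K28.f446569 IH) (Lpr_cf (f465235 IH) (Lpe (K28.f17451 IH) (Lpn (LP (LK LD1_c7 LD2_c13 LD3_c54))))))))
theorem f465374 : Led Lsl_gt (LP (LK LD1_c13 LD2_c41 LD3_c7)) = (LP (LK LD1_c7 LD2_c13 LD3_c54)) :=
  Lre_g IH (LK LD1_c13 LD2_c41 LD3_c7) (LK LD1_c7 LD2_c13 LD3_c54) Lrfl Lrfl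
theorem f465383 : Led Lsl_ct (LP (LK LD1_c23 LD2_c6 LD3_c37)) = (LP (LK LD1_c13 LD2_c41 LD3_c7)) :=
  Lre_c IH (LK LD1_c23 LD2_c6 LD3_c37) (LK LD1_c13 LD2_c41 LD3_c7) Lrfl Lrfl
theorem f488338 : Led Lsl_gf (LP (LK LD1_c23 LD2_c6 LD3_c37)) = (LP (LK LD1_c13 LD2_c41 LD3_c32)) :=
  Lgr Lrot181 (Lpr_ct (f465383 IH) (Lpr_gt (f465374 IH) (Lpe (f465372 IH) (Lpr_bt (K28.f465231 IH) (Lpe (K28.f465254 IH) (Lpe (K5.f126454 IH) (Lpr_ct (K6.f126458 IH) (Lpr_gt (f95872 IH) (Lpe (f440284 IH) (Lpr_bt (f488328 IH) (Lpn (LP (LK LD1_c13 LD2_c41 LD3_c32)))))))))))))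
theorem f457720 : Led Lsl_bt (LP (LK LD1_c3 LD2_c44 LD3_c37)) = (LP (LK LD1_c7 LD2_c30 LD3_c22)) :=
  Lre_b IH (LK LD1_c3 LD2_c44 LD3_c37) (LK LD1_c7 LD2_c30 LD3_c22) Lrfl Lrfl
theorem f457729 : Led Lsl_gt (LP (LK LD1_c7 LD2_c30 LD3_c22)) = (LP (LK LD1_c14 LD2_c10 LD3_c30)) :=
  Lre_g IH (LK LD1_c7 LD2_c30 LD3_c22) (LK LD1_c14 LD2_c10 LD3_c30) Lrfl Lrfl
theorem f465431 : Led Lsl_bt (LP (LK LD1_c23 LD2_c6 LD3_c37)) = (LP (LK LD1_c14 LD2_c10 LD3_c30)) :=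
  Lgr Lrot92 (Lpr_ct (f465383 IH) (Lpr_gt (f465374 IH) (Lpe (f465372 IH) (Lpr_bt (K28.f465231 IH) (Lpe (K28.f465254 IH) (Lpr_ct (K5.f126452 IH) (Lpr_gt (K28.f465412 IH) (Lpe (K28.f457726 IH) (Lpr_bt (f457720 IH) (Lpr_gt (f457729 IH) (Lpn (LP (LK LD1_c14 LD2_c10 LD3_c30)))))))))))))
theorem f465433 : Led Lsl_bf (LP (LK LD1_c23 LD2_c6 LD3_c37)) = (LP (LK LD1_c14 LD2_c10 LD3_c30)) :=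
  Lgr Lrot24 (Lpr_bt (f465431 IH) (Lpn (LP (LK LD1_c14 LD2_c10 LD3_c30))))
theorem f493259 : Led Lsl_ct (LP (LK LD1_c14 LD2_c10 LD3_c30)) = (LP (LK LD1_c7 LD2_c36 LD3_c47)) :=
  Lgr Lrot64 (Lpe (f465433 IH) (Lpr_gf (f488338 IH) (Lpe (f488328 IH) (Lpr_ct (f440284 IH) (Lpe (f95872 IH) (Lpe (K6.f126458 IH) (Lpr_gf (K33.f492608 IH) (Lpr_bf (K33.f492356 IH) (Lpr_ct (f492269 IH) (Lpr_gf (f493256 IH) (Lpn (LP (LK LD1_c7 LD2_c36 LD3_c47)))))))))))))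
theorem f493261 : Led Lsl_cf (LP (LK LD1_c14 LD2_c10 LD3_c30)) = (LP (LK LD1_c7 LD2_c36 LD3_c47)) :=
  Lgr Lrot11 (Lpr_ct (f493259 IH) (Lpn (LP (LK LD1_c7 LD2_c36 LD3_c47))))
theorem f15720 : Led Lsl_bt (LP (LK LD1_c7 LD2_c30 LD3_c22)) = (LP (LK LD1_c3 LD2_c44 LD3_c37)) :=
  Lre_b IH (LK LD1_c7 LD2_c30 LD3_c22) (LK LD1_c3 LD2_c44 LD3_c37) Lrfl Lrfl
theorem f457731 : Led Lsl_bt (LP (LK LD1_c1 LD2_c54 LD3_c37)) = (LP (LK LD1_c3 LD2_c55 LD3_c56)) :=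
  Lre_b IH (LK LD1_c1 LD2_c54 LD3_c37) (LK LD1_c3 LD2_c55 LD3_c56) Lrfl Lrfl
theorem f457732 : Led Lsl_cf (LP (LK LD1_c7 LD2_c30 LD3_c22)) = (LP (LK LD1_c3 LD2_c55 LD3_c56)) :=
  Lgr Lrot97 (Lpr_bt (f15720 IH) (Lpr_ct (K28.f457726 IH) (Lpr_bt (K28.f14859 IH) (Lpr_ct (K29.f452057 IH) (Lpr_bt (f457731 IH) (Lpn (LP (LK LD1_c3 LD2_c55 LD3_c56))))))))
theorem f457723 : Led Lsl_bt (LP (LK LD1_c3 LD2_c55 LD3_c56)) = (LP (LK LD1_c1 LD2_c54 LD3_c37)) :=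
  Lre_b IH (LK LD1_c3 LD2_c55 LD3_c56) (LK LD1_c1 LD2_c54 LD3_c37) Lrfl Lrfl
theorem f493266 : Led Lsl_bf (LP (LK LD1_c14 LD2_c20 LD3_c33)) = (LP (LK LD1_c7 LD2_c36 LD3_c47)) :=
  Lgr Lrot165 (Lpr_gt (f470930 IH) (Lpr_ct (K29.f470928 IH) (Lpr_gt (K29.f96861 IH) (Lpe (K3.f96834 IH) (Lpr_bt (K28.f96832 IH) (Lpe (K29.f470920 IH) (Lpe (f457723 IH) (Lpe (f457732 IH) (Lpr_gt (f457729 IH) (Lpr_cf (f493261 IH) (Lpn (LP (LK LD1_c7 LD2_c36 LD3_c47)))))))))))))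
theorem f465435 : Led Lsl_ct (LP (LK LD1_c13 LD2_c41 LD3_c7)) = (LP (LK LD1_c23 LD2_c6 LD3_c37)) :=
  Lre_c IH (LK LD1_c13 LD2_c41 LD3_c7) (LK LD1_c23 LD2_c6 LD3_c37) Lrfl Lrfl
theorem f17494 : Led Lsl_ct (LP (LK LD1_c7 LD2_c14 LD3_c9)) = (LP (LK LD1_c13 LD2_c41 LD3_c32)) :=
  Lre_c IH (LK LD1_c7 LD2_c14 LD3_c9) (LK LD1_c13 LD2_c41 LD3_c32) Lrfl Lrfl
theorem f88014 : Led Lsl_gt (LP (LK LD1_c7 LD2_c47 LD3_c57)) = (LP (LK LD1_c3 LD2_c53 LD3_c4)) :=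
  Lre_g IH (LK LD1_c7 LD2_c47 LD3_c57) (LK LD1_c3 LD2_c53 LD3_c4) Lrfl Lrfl
theorem f488340 : Led Lsl_bt (LP (LK LD1_c13 LD2_c41 LD3_c7)) = (LP (LK LD1_c7 LD2_c47 LD3_c57)) :=
  Lgr Lrot130 (Lpr_ct (f465435 IH) (Lpr_gf (f488338 IH) (Lpe (f17494 IH) (Lpr_bt (f471504 IH) (Lpr_gf (K39.f471494 IH) (Lpr_bf (K29.f425491 IH) (Lpr_ct (K29.f425131 IH) (Lpe (K34.f471482 IH) (Lpe (K34.f88009 IH) (Lpe (f88014 IH) (Lpn (LP (LK LD1_c7 LD2_c47 LD3_c57)))))))))))))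
theorem f488342 : Led Lsl_bf (LP (LK LD1_c13 LD2_c41 LD3_c7)) = (LP (LK LD1_c7 LD2_c47 LD3_c57)) :=
  Lgr Lrot24 (Lpr_bt (f488340 IH) (Lpn (LP (LK LD1_c7 LD2_c47 LD3_c57))))
theorem f493270 : Led Lsl_ct (LP (LK LD1_c14 LD2_c20 LD3_c33)) = (LP (LK LD1_c7 LD2_c47 LD3_c57)) :=
  Lgr Lrot83 (Lpr_bf (f493266 IH) (Lpe (f493259 IH) (Lpe (f465431 IH) (Lpe (f465435 IH) (Lpr_bf (f488342 IH) (Lpn (LP (LK LD1_c7 LD2_c47 LD3_c57))))))))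
theorem f493276 : Led Lsl_cf (LP (LK LD1_c14 LD2_c20 LD3_c33)) = (LP (LK LD1_c7 LD2_c47 LD3_c57)) :=
  Lgr Lrot11 (Lpr_ct (f493270 IH) (Lpn (LP (LK LD1_c7 LD2_c47 LD3_c57))))
def v2697 : LQ := Led Lsl_at (LP (LK LD1_c1 LD2_c53 LD3_c18))
theorem f530453 : Led Lsl_at (LP (LK LD1_c1 LD2_c53 LD3_c18)) = v2697 :=
  Lrfl
theorem f530455 : Led Lsl_cf K34.v871 = v2697 :=
  Lgr Lrot1 (Lpe (K34.f490183 IH) (Lpr_ct (K34.f446577 IH) (Lpr_at (f530453 IH) (Lpn v2697))))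
theorem f530456 : Led Lsl_ct K34.v871 = v2697 :=
  Lgr Lrot59 (Lpr_cf (f530455 IH) (Lpn v2697))
def v2600 : LQ := Led Lsl_ft (LP (LK LD1_c1 LD2_c49 LD3_c22))
theorem f527713 : Led Lsl_ft (LP (LK LD1_c1 LD2_c49 LD3_c22)) = v2600 :=
  Lrfl
theorem f527715 : Led Lsl_ff (LP (LK LD1_c1 LD2_c49 LD3_c22)) = v2600 :=
  Lgr Lrot3 (Lpr_ft (f527713 IH) (Lpn v2600))
def v873 : LQ := Led Lsl_ft (LP (LK LD1_c0 LD2_c53 LD3_c14))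
theorem f490189 : Led Lsl_ft (LP (LK LD1_c0 LD2_c53 LD3_c14)) = v873 :=
  Lrfl
theorem f490190 : Led Lsl_af (LP (LK LD1_c0 LD2_c53 LD3_c15)) = v873 :=
  Lgr Lrot45 (Lpr_ft (K34.f490185 IH) (Lpe (K34.f490183 IH) (Lpr_ft (f490189 IH) (Lpn v873))))
def v2597 : LQ := Led Lsl_at (LP (LK LD1_c1 LD2_c49 LD3_c22))
theorem f527704 : Led Lsl_at (LP (LK LD1_c1 LD2_c49 LD3_c22)) = v2597 :=
  Lrfl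
theorem f527705 : Led Lsl_af (LP (LK LD1_c1 LD2_c49 LD3_c22)) = v2597 :=
  Lgr Lrot0 (Lpr_at (f527704 IH) (Lpn v2597))
def v817 : LQ := Led Lsl_gf (LP (LK LD1_c0 LD2_c51 LD3_c29))
theorem f459545 : Led Lsl_gf (LP (LK LD1_c0 LD2_c51 LD3_c29)) = v817 :=
  Lrfl
theorem f527706 : Led Lsl_ft v817 = v2597 :=
  Lgr Lrot2 (Lpe (f459545 IH) (Lpr_gt (K35.f64948 IH) (Lpr_af (f527705 IH) (Lpn v2597))))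
theorem f527707 : Led Lsl_ff v817 = v2597 :=
  Lgr Lrot3 (Lpr_ft (f527706 IH) (Lpn v2597))
theorem f527716 : Led Lsl_at v817 = v2600 :=
  Lgr Lrot66 (Lpr_ff (f527707 IH) (Lpe (f527704 IH) (Lpr_ff (f527715 IH) (Lpn v2600))))
def v2696 : LQ := Led Lsl_ft (LP (LK LD1_c1 LD2_c53 LD3_c17))
theorem f530449 : Led Lsl_ft (LP (LK LD1_c1 LD2_c53 LD3_c17)) = v2696 :=
  Lrfl
theorem f490191 : Led Lsl_ff (LP (LK LD1_c0 LD2_c53 LD3_c14)) = v873 :=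
  Lgr Lrot3 (Lpr_ft (f490189 IH) (Lpn v873))
theorem f530450 : Led Lsl_bf v873 = v2696 :=
  Lgr Lrot61 (Lpe (f490191 IH) (Lpr_bt (K34.f458199 IH) (Lpr_ft (f530449 IH) (Lpn v2696))))
theorem f527270 : Led Lsl_cf (LP (LK LD1_c1 LD2_c52 LD3_c25)) = K34.v2543 :=
  Lgr Lrot11 (Lpr_ct (K34.f527269 IH) (Lpn K34.v2543))
theorem f14906 : Led Lsl_bt (LP (LK LD1_c0 LD2_c24 LD3_c15)) = (LP (LK LD1_c0 LD2_c10 LD3_c49)) :=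
  Lre_b IH (LK LD1_c0 LD2_c24 LD3_c15) (LK LD1_c0 LD2_c10 LD3_c49) Lrfl Lrfl
theorem f11151 : Led Lsl_at (LP (LK LD1_c0 LD2_c23 LD3_c58)) = (LP (LK LD1_c0 LD2_c51 LD3_c29)) :=
  Lre_a IH (LK LD1_c0 LD2_c23 LD3_c58) (LK LD1_c0 LD2_c51 LD3_c29) Lrfl Lrfl
theorem f458195 : Led Lsl_ft (LP (LK LD1_c0 LD2_c53 LD3_c13)) = (LP (LK LD1_c0 LD2_c23 LD3_c58)) :=
  Lre_f IH (LK LD1_c0 LD2_c53 LD3_c13) (LK LD1_c0 LD2_c23 LD3_c58) Lrfl Lrfl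
theorem f459546 : Led Lsl_gt (LP (LK LD1_c0 LD2_c53 LD3_c13)) = v817 :=
  Lgr Lrot5 (Lpr_ft (f458195 IH) (Lpr_at (f11151 IH) (Lpr_gf (f459545 IH) (Lpn v817))))
theorem f527291 : Led Lsl_bf v817 = K34.v2543 :=
  Lgr Lrot34 (Lpe (f459546 IH) (Lpe (K28.f11163 IH) (Lpr_ct (K0.f15708 IH) (Lpr_gf (K24.f15749 IH) (Lpqs (K24.f457390 IH) (Lpe (K24.f451214 IH) (Lpe (K24.f11325 IH) (Lpe (f14906 IH) (Lpr_ct (K34.f451206 IH) (Lpe (K34.f95367 IH) (Lpr_cf (f527270 IH) (Lpn K34.v2543))))))))))))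
theorem f120860 : Led Lsl_et (LP (LK LD1_c7 LD2_c25 LD3_c34)) = (LP (LK LD1_c3 LD2_c42 LD3_c26)) :=
  Lre_e IH (LK LD1_c7 LD2_c25 LD3_c34) (LK LD1_c3 LD2_c42 LD3_c26) Lrfl Lrfl
theorem f458208 : Led Lsl_et (LP (LK LD1_c1 LD2_c53 LD3_c17)) = (LP (LK LD1_c3 LD2_c53 LD3_c25)) :=
  Lre_e IH (LK LD1_c1 LD2_c53 LD3_c17) (LK LD1_c3 LD2_c53 LD3_c25) Lrfl Lrfl
theorem f530496 : Led Lsl_af (LP (LK LD1_c7 LD2_c25 LD3_c34)) = (LP (LK LD1_c3 LD2_c53 LD3_c25)) :=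
  Lgr Lrot50 (Lpr_et (f120860 IH) (Lpq (K34.f530493 IH) (Lpe (K34.f530444 IH) (Lpr_et (f458208 IH) (Lpn (LP (LK LD1_c3 LD2_c53 LD3_c25)))))))
theorem f471190 : Led Lsl_et (LP (LK LD1_c1 LD2_c52 LD3_c24)) = (LP (LK LD1_c3 LD2_c51 LD3_c7)) :=
  Lre_e IH (LK LD1_c1 LD2_c52 LD3_c24) (LK LD1_c3 LD2_c51 LD3_c7) Lrfl Lrfl
theorem f471191 : Led Lsl_ct (LP (LK LD1_c3 LD2_c51 LD3_c7)) = (LP (LK LD1_c7 LD2_c25 LD3_c34)) :=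
  Lgr Lrot15 (Lpe (f471190 IH) (Lpr_cf (K34.f471184 IH) (Lpe (f120860 IH) (Lpn (LP (LK LD1_c7 LD2_c25 LD3_c34))))))
theorem f471217 : Led Lsl_cf (LP (LK LD1_c3 LD2_c51 LD3_c7)) = (LP (LK LD1_c7 LD2_c25 LD3_c34)) :=
  Lgr Lrot11 (Lpr_ct (f471191 IH) (Lpn (LP (LK LD1_c7 LD2_c25 LD3_c34))))
theorem f527154 : Led Lsl_cf (LP (LK LD1_c3 LD2_c53 LD3_c25)) = (LP (LK LD1_c7 LD2_c11 LD3_c15)) :=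
  Lgr Lrot11 (Lpr_ct (K34.f527149 IH) (Lpn (LP (LK LD1_c7 LD2_c11 LD3_c15))))
theorem f530500 : Led Lsl_at (LP (LK LD1_c3 LD2_c51 LD3_c7)) = (LP (LK LD1_c7 LD2_c11 LD3_c15)) :=
  Lgr Lrot107 (Lpr_cf (f471217 IH) (Lpr_af (f530496 IH) (Lpr_cf (f527154 IH) (Lpn (LP (LK LD1_c7 LD2_c11 LD3_c15))))))
def v2676 : LQ := Led Lsl_at (LP (LK LD1_c1 LD2_c52 LD3_c24))
theorem f530294 : Led Lsl_at (LP (LK LD1_c1 LD2_c52 LD3_c24)) = v2676 :=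
  Lrfl
theorem f530295 : Led Lsl_af (LP (LK LD1_c1 LD2_c52 LD3_c24)) = v2676 :=
  Lgr Lrot0 (Lpr_at (f530294 IH) (Lpn v2676))
theorem f527156 : Led Lsl_ef (LP (LK LD1_c3 LD2_c50 LD3_c54)) = (LP (LK LD1_c7 LD2_c11 LD3_c15)) :=
  Lgr Lrot28 (Lpr_ct (K34.f458203 IH) (Lpr_et (f458208 IH) (Lpr_ct (K34.f527149 IH) (Lpn (LP (LK LD1_c7 LD2_c11 LD3_c15))))))
theorem f530506 : v2676 = (LP (LK LD1_c3 LD2_c50 LD3_c54)) :=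
  (Llr Lrot50 (Lpe (f530295 IH) (Lpr_et (f471190 IH) (Lpr_at (f530500 IH) (Lpe (f527156 IH) (Lpn (LP (LK LD1_c3 LD2_c50 LD3_c54)))))))).symm
theorem f530296 : Led Lsl_ft (LP (LK LD1_c1 LD2_c52 LD3_c25)) = v2676 :=
  Lgr Lrot2 (Lpr_gt (K34.f95367 IH) (Lpr_gt (K2.f91751 IH) (Lpr_af (f530295 IH) (Lpn v2676))))
theorem f530515 : K34.v2543 = v2696 :=
  (Llr Lrot108 (Lpe (f527270 IH) (Lpr_ft (f530296 IH) (Lpqs (f530506 IH) (Lpr_ct (K34.f458203 IH) (Lpr_ft (f530449 IH) (Lpn v2696))))))).symm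
theorem f530516 : v873 = v817 :=
  Lefun (Lecon (Lfl_bf (f530450 IH)) (f530515 IH).symm) (Lfl_bf (f527291 IH))
theorem f530517 : (LP (LK LD1_c0 LD2_c53 LD3_c15)) = v2600 :=
  Lefun (Lecon (Lfl_af (f490190 IH)) (f530516 IH)) (f527716 IH)
theorem f530520 : (LP (LK LD1_c1 LD2_c49 LD3_c22)) = K34.v871 :=
  Lefun (Lecon (Lfl_ff (f527715 IH)) (f530517 IH).symm) (K34.f490185 IH)
theorem f530530 : v2697 = (LP (LK LD1_c3 LD2_c44 LD3_c40)) :=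
  Lefun (Lecon (f530456 IH) (f530520 IH).symm) (K29.f129761 IH)
theorem f490186 : Led Lsl_ff (LP (LK LD1_c0 LD2_c53 LD3_c15)) = K34.v871 :=
  Lgr Lrot3 (Lpr_ft (K34.f490185 IH) (Lpn K34.v871))
theorem f530457 : Led Lsl_ft (LP (LK LD1_c1 LD2_c53 LD3_c21)) = v2697 :=
  Lgr Lrot4 (Lpe (K28.f446568 IH) (Lpr_ff (f490186 IH) (Lpr_cf (f530455 IH) (Lpn v2697))))
theorem f472262 : Led Lsl_dt (LP (LK LD1_c3 LD2_c44 LD3_c40)) = (LP (LK LD1_c7 LD2_c30 LD3_c28)) :=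
  Lre_d IH (LK LD1_c3 LD2_c44 LD3_c40) (LK LD1_c7 LD2_c30 LD3_c28) Lrfl Lrfl
theorem f530539 : Led Lsl_ff (LP (LK LD1_c3 LD2_c53 LD3_c30)) = (LP (LK LD1_c7 LD2_c30 LD3_c28)) :=
  Lgr Lrot19 (Lpr_dt (K34.f465258 IH) (Lpr_ft (f530457 IH) (Lpqs (f530530 IH) (Lpr_dt (f472262 IH) (Lpn (LP (LK LD1_c7 LD2_c30 LD3_c28)))))))
theorem f530548 : Led Lsl_ft (LP (LK LD1_c3 LD2_c53 LD3_c30)) = (LP (LK LD1_c7 LD2_c30 LD3_c28)) :=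
  Lgr Lrot48 (Lpr_ff (f530539 IH) (Lpn (LP (LK LD1_c7 LD2_c30 LD3_c28))))
theorem f518100 : Led Lsl_bt (LP (LK LD1_c7 LD2_c48 LD3_c35)) = (LP (LK LD1_c3 LD2_c53 LD3_c30)) :=
  Lre_b IH (LK LD1_c7 LD2_c48 LD3_c35) (LK LD1_c3 LD2_c53 LD3_c30) Lrfl Lrfl
theorem f530550 : Led Lsl_bt (LP (LK LD1_c7 LD2_c30 LD3_c28)) = (LP (LK LD1_c14 LD2_c10 LD3_c42)) :=
  Lre_b IH (LK LD1_c7 LD2_c30 LD3_c28) (LK LD1_c14 LD2_c10 LD3_c42) Lrfl Lrfl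
theorem f530551 : Led Lsl_ff (LP (LK LD1_c7 LD2_c48 LD3_c35)) = (LP (LK LD1_c14 LD2_c10 LD3_c42)) :=
  Lgr Lrot25 (Lpr_bt (f518100 IH) (Lpr_ft (f530548 IH) (Lpr_bt (f530550 IH) (Lpn (LP (LK LD1_c14 LD2_c10 LD3_c42))))))
theorem f465376 : Led Lsl_dt (LP (LK LD1_c7 LD2_c48 LD3_c35)) = (LP (LK LD1_c3 LD2_c53 LD3_c29)) :=
  Lre_d IH (LK LD1_c7 LD2_c48 LD3_c35) (LK LD1_c3 LD2_c53 LD3_c29) Lrfl Lrfl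
theorem f472160 : Led Lsl_dt (LP (LK LD1_c7 LD2_c30 LD3_c27)) = (LP (LK LD1_c14 LD2_c10 LD3_c42)) :=
  Lre_d IH (LK LD1_c7 LD2_c30 LD3_c27) (LK LD1_c14 LD2_c10 LD3_c42) Lrfl Lrfl
theorem f530602 : Led Lsl_ft (LP (LK LD1_c3 LD2_c53 LD3_c29)) = (LP (LK LD1_c7 LD2_c30 LD3_c27)) :=
  Lgr Lrot54 (Lpe (f465376 IH) (Lpr_ff (f530551 IH) (Lpe (f472160 IH) (Lpn (LP (LK LD1_c7 LD2_c30 LD3_c27))))))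
theorem f530606 : Led Lsl_ff (LP (LK LD1_c7 LD2_c13 LD3_c54)) = (LP (LK LD1_c7 LD2_c7 LD3_c12)) :=
  Lgr Lrot23 (Lpe (K28.f465233 IH) (Lpr_ft (f530602 IH) (Lpe (K29.f472147 IH) (Lpn (LP (LK LD1_c7 LD2_c7 LD3_c12))))))
theorem f530614 : Led Lsl_ft (LP (LK LD1_c7 LD2_c13 LD3_c54)) = (LP (LK LD1_c7 LD2_c7 LD3_c12)) :=
  Lgr Lrot48 (Lpr_ff (f530606 IH) (Lpn (LP (LK LD1_c7 LD2_c7 LD3_c12))))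
theorem f465380 : Led Lsl_at (LP (LK LD1_c13 LD2_c41 LD3_c8)) = (LP (LK LD1_c7 LD2_c13 LD3_c54)) :=
  Lre_a IH (LK LD1_c13 LD2_c41 LD3_c8) (LK LD1_c7 LD2_c13 LD3_c54) Lrfl Lrfl
theorem f472149 : Led Lsl_at (LP (LK LD1_c7 LD2_c7 LD3_c12)) = (LP (LK LD1_c13 LD2_c29 LD3_c27)) :=
  Lre_a IH (LK LD1_c7 LD2_c7 LD3_c12) (LK LD1_c13 LD2_c29 LD3_c27) Lrfl Lrfl
theorem f530684 : Led Lsl_ff (LP (LK LD1_c13 LD2_c41 LD3_c8)) = (LP (LK LD1_c13 LD2_c29 LD3_c27)) :=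
  Lgr Lrot30 (Lpr_at (f465380 IH) (Lpr_ft (f530614 IH) (Lpr_at (f472149 IH) (Lpn (LP (LK LD1_c13 LD2_c29 LD3_c27))))))
theorem f531266 : Led Lsl_gf (LP (LK LD1_c13 LD2_c41 LD3_c7)) = (LP (LK LD1_c13 LD2_c29 LD3_c27)) :=
  Lgr Lrot47 (Lpr_gt (f465374 IH) (Lpe (f465380 IH) (Lpr_ff (f530684 IH) (Lpn (LP (LK LD1_c13 LD2_c29 LD3_c27))))))
theorem f475269 : Led Lsl_cf (LP (LK LD1_c3 LD2_c33 LD3_c10)) = (LP (LK LD1_c3 LD2_c39 LD3_c15)) :=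
  Lgr Lrot11 (Lpr_ct (K35.f475267 IH) (Lpn (LP (LK LD1_c3 LD2_c39 LD3_c15))))
theorem f465260 : Led Lsl_dt (LP (LK LD1_c13 LD2_c41 LD3_c9)) = (LP (LK LD1_c7 LD2_c13 LD3_c54)) :=
  Lre_d IH (LK LD1_c13 LD2_c41 LD3_c9) (LK LD1_c7 LD2_c13 LD3_c54) Lrfl Lrfl
theorem f108608 : Led Lsl_dt (LP (LK LD1_c7 LD2_c7 LD3_c12)) = (LP (LK LD1_c13 LD2_c29 LD3_c28)) :=
  Lre_d IH (LK LD1_c7 LD2_c7 LD3_c12) (LK LD1_c13 LD2_c29 LD3_c28) Lrfl Lrfl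
theorem f530688 : Led Lsl_ff (LP (LK LD1_c13 LD2_c41 LD3_c9)) = (LP (LK LD1_c13 LD2_c29 LD3_c28)) :=
  Lgr Lrot19 (Lpr_dt (f465260 IH) (Lpr_ft (f530614 IH) (Lpr_dt (f108608 IH) (Lpn (LP (LK LD1_c13 LD2_c29 LD3_c28))))))
theorem f518668 : Led Lsl_bt (LP (LK LD1_c13 LD2_c41 LD3_c9)) = (LP (LK LD1_c7 LD2_c13 LD3_c55)) :=
  Lre_b IH (LK LD1_c13 LD2_c41 LD3_c9) (LK LD1_c7 LD2_c13 LD3_c55) Lrfl Lrfl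
theorem f472318 : Led Lsl_bt (LP (LK LD1_c7 LD2_c7 LD3_c13)) = (LP (LK LD1_c13 LD2_c29 LD3_c28)) :=
  Lre_b IH (LK LD1_c7 LD2_c7 LD3_c13) (LK LD1_c13 LD2_c29 LD3_c28) Lrfl Lrfl
theorem f530693 : Led Lsl_ft (LP (LK LD1_c7 LD2_c13 LD3_c55)) = (LP (LK LD1_c7 LD2_c7 LD3_c13)) :=
  Lgr Lrot75 (Lpe (f518668 IH) (Lpr_ff (f530688 IH) (Lpe (f472318 IH) (Lpn (LP (LK LD1_c7 LD2_c7 LD3_c13))))))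
theorem f517463 : Led Lsl_at (LP (LK LD1_c7 LD2_c18 LD3_c28)) = (LP (LK LD1_c13 LD2_c41 LD3_c3)) :=
  Lgr Lrot100 (Lpr_af (K33.f517461 IH) (Lpn (LP (LK LD1_c13 LD2_c41 LD3_c3))))
theorem f98588 : Led Lsl_gt (LP (LK LD1_c13 LD2_c41 LD3_c4)) = (LP (LK LD1_c7 LD2_c13 LD3_c52)) :=
  Lre_g IH (LK LD1_c13 LD2_c41 LD3_c4) (LK LD1_c7 LD2_c13 LD3_c52) Lrfl Lrfl
theorem f518651 : Led Lsl_ff (LP (LK LD1_c7 LD2_c18 LD3_c28)) = (LP (LK LD1_c13 LD2_c41 LD3_c4)) :=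
  Lgr Lrot52 (Lpr_at (f517463 IH) (Lpe (K33.f98590 IH) (Lpe (f98588 IH) (Lpn (LP (LK LD1_c13 LD2_c41 LD3_c4))))))
theorem f518657 : Led Lsl_ft (LP (LK LD1_c7 LD2_c18 LD3_c28)) = (LP (LK LD1_c13 LD2_c41 LD3_c4)) :=
  Lgr Lrot48 (Lpr_ff (f518651 IH) (Lpn (LP (LK LD1_c13 LD2_c41 LD3_c4))))
theorem f481486 : Led Lsl_ct (LP (LK LD1_c13 LD2_c49 LD3_c42)) = (LP (LK LD1_c7 LD2_c18 LD3_c28)) :=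
  Lre_c IH (LK LD1_c13 LD2_c49 LD3_c42) (LK LD1_c7 LD2_c18 LD3_c28) Lrfl Lrfl
theorem f481478 : Led Lsl_ct (LP (LK LD1_c7 LD2_c18 LD3_c28)) = (LP (LK LD1_c13 LD2_c49 LD3_c42)) :=
  Lre_c IH (LK LD1_c7 LD2_c18 LD3_c28) (LK LD1_c13 LD2_c49 LD3_c42) Lrfl Lrfl
theorem f458679 : Led Lsl_ct (LP (LK LD1_c7 LD2_c53 LD3_c54)) = (LP (LK LD1_c14 LD2_c53 LD3_c48)) :=
  Lre_c IH (LK LD1_c7 LD2_c53 LD3_c54) (LK LD1_c14 LD2_c53 LD3_c48) Lrfl Lrfl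
theorem f465174 : Led Lsl_ct (LP (LK LD1_c23 LD2_c6 LD3_c61)) = (LP (LK LD1_c13 LD2_c41 LD3_c22)) :=
  Lre_c IH (LK LD1_c23 LD2_c6 LD3_c61) (LK LD1_c13 LD2_c41 LD3_c22) Lrfl Lrfl
theorem f465175 : Led Lsl_at (LP (LK LD1_c14 LD2_c53 LD3_c48)) = (LP (LK LD1_c23 LD2_c6 LD3_c61)) :=
  Lgr Lrot107 (Lpe (f458679 IH) (Lpr_af (K29.f465160 IH) (Lpe (f465174 IH) (Lpn (LP (LK LD1_c23 LD2_c6 LD3_c61))))))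
theorem f465177 : Led Lsl_af (LP (LK LD1_c14 LD2_c53 LD3_c48)) = (LP (LK LD1_c23 LD2_c6 LD3_c61)) :=
  Lgr Lrot0 (Lpr_at (f465175 IH) (Lpn (LP (LK LD1_c23 LD2_c6 LD3_c61))))
theorem f458659 : Led Lsl_et (LP (LK LD1_c14 LD2_c53 LD3_c48)) = (LP (LK LD1_c7 LD2_c53 LD3_c53)) :=
  Lre_e IH (LK LD1_c14 LD2_c53 LD3_c48) (LK LD1_c7 LD2_c53 LD3_c53) Lrfl Lrfl
theorem f465181 : Led Lsl_et (LP (LK LD1_c13 LD2_c41 LD3_c21)) = (LP (LK LD1_c23 LD2_c6 LD3_c61)) :=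
  Lre_e IH (LK LD1_c13 LD2_c41 LD3_c21) (LK LD1_c23 LD2_c6 LD3_c61) Lrfl Lrfl
theorem f465182 : Led Lsl_at (LP (LK LD1_c7 LD2_c53 LD3_c53)) = (LP (LK LD1_c13 LD2_c41 LD3_c21)) :=
  Lgr Lrot80 (Lpe (f458659 IH) (Lpr_af (f465177 IH) (Lpe (f465181 IH) (Lpn (LP (LK LD1_c13 LD2_c41 LD3_c21))))))
theorem f458636 : Led Lsl_ct (LP (LK LD1_c7 LD2_c53 LD3_c53)) = (LP (LK LD1_c3 LD2_c56 LD3_c5)) :=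
  Lre_c IH (LK LD1_c7 LD2_c53 LD3_c53) (LK LD1_c3 LD2_c56 LD3_c5) Lrfl Lrfl
theorem f458575 : Led Lsl_ct (LP (LK LD1_c3 LD2_c56 LD3_c4)) = (LP (LK LD1_c7 LD2_c53 LD3_c50)) :=
  Lre_c IH (LK LD1_c3 LD2_c56 LD3_c4) (LK LD1_c7 LD2_c53 LD3_c50) Lrfl Lrfl
theorem f458637 : Led Lsl_ff (LP (LK LD1_c7 LD2_c53 LD3_c53)) = (LP (LK LD1_c7 LD2_c53 LD3_c50)) :=
  Lgr Lrot23 (Lpr_ct (f458636 IH) (Lpr_ft (K29.f458632 IH) (Lpr_ct (f458575 IH) (Lpn (LP (LK LD1_c7 LD2_c53 LD3_c50))))))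
theorem f458576 : Led Lsl_gt (LP (LK LD1_c7 LD2_c53 LD3_c50)) = (LP (LK LD1_c14 LD2_c53 LD3_c36)) :=
  Lre_g IH (LK LD1_c7 LD2_c53 LD3_c50) (LK LD1_c14 LD2_c53 LD3_c36) Lrfl Lrfl
theorem f465184 : Led Lsl_gt (LP (LK LD1_c14 LD2_c53 LD3_c36)) = (LP (LK LD1_c13 LD2_c41 LD3_c21)) :=
  Lgr Lrot46 (Lpe (f458576 IH) (Lpe (f458637 IH) (Lpr_at (f465182 IH) (Lpn (LP (LK LD1_c13 LD2_c41 LD3_c21))))))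
theorem f160109 : Led Lsl_ct (LP (LK LD1_c13 LD2_c41 LD3_c21)) = (LP (LK LD1_c7 LD2_c13 LD3_c61)) :=
  Lre_c IH (LK LD1_c13 LD2_c41 LD3_c21) (LK LD1_c7 LD2_c13 LD3_c61) Lrfl Lrfl
theorem f98561 : Led Lsl_dt (LP (LK LD1_c7 LD2_c13 LD3_c52)) = (LP (LK LD1_c3 LD2_c36 LD3_c49)) :=
  Lre_d IH (LK LD1_c7 LD2_c13 LD3_c52) (LK LD1_c3 LD2_c36 LD3_c49) Lrfl Lrfl
theorem f465186 : Led Lsl_cf (LP (LK LD1_c14 LD2_c53 LD3_c36)) = (LP (LK LD1_c13 LD2_c41 LD3_c3)) :=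
  Lgr Lrot169 (Lpr_gt (f465184 IH) (Lpr_ct (f160109 IH) (Lpe (K29.f160108 IH) (Lpe (K29.f107952 IH) (Lpr_gf (K29.f160106 IH) (Lpe (K28.f11684 IH) (Lpe (K28.f160431 IH) (Lpe (f98561 IH) (Lpr_gt (K33.f98590 IH) (Lpn (LP (LK LD1_c13 LD2_c41 LD3_c3))))))))))))
theorem f465194 : Led Lsl_ct (LP (LK LD1_c14 LD2_c53 LD3_c36)) = (LP (LK LD1_c13 LD2_c41 LD3_c3)) :=
  Lgr Lrot59 (Lpr_cf (f465186 IH) (Lpn (LP (LK LD1_c13 LD2_c41 LD3_c3))))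
theorem f517465 : Led Lsl_at (LP (LK LD1_c13 LD2_c49 LD3_c42)) = (LP (LK LD1_c14 LD2_c53 LD3_c36)) :=
  Lgr Lrot107 (Lpe (f481478 IH) (Lpr_af (K33.f517461 IH) (Lpe (f465194 IH) (Lpn (LP (LK LD1_c14 LD2_c53 LD3_c36))))))
theorem f458577 : Led Lsl_gt (LP (LK LD1_c14 LD2_c53 LD3_c37)) = (LP (LK LD1_c7 LD2_c53 LD3_c50)) :=
  Lre_g IH (LK LD1_c14 LD2_c53 LD3_c37) (LK LD1_c7 LD2_c53 LD3_c50) Lrfl Lrfl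
theorem f518624 : Led Lsl_ff (LP (LK LD1_c13 LD2_c49 LD3_c42)) = (LP (LK LD1_c14 LD2_c53 LD3_c37)) :=
  Lgr Lrot52 (Lpr_at (f517465 IH) (Lpe (f458576 IH) (Lpe (f458577 IH) (Lpn (LP (LK LD1_c14 LD2_c53 LD3_c37))))))
theorem f518659 : Led Lsl_cf (LP (LK LD1_c14 LD2_c53 LD3_c37)) = (LP (LK LD1_c13 LD2_c41 LD3_c4)) :=
  Lgr Lrot108 (Lpe (f518624 IH) (Lpr_ct (f481486 IH) (Lpr_ft (f518657 IH) (Lpn (LP (LK LD1_c13 LD2_c41 LD3_c4))))))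
theorem f458570 : Led Lsl_ct (LP (LK LD1_c7 LD2_c53 LD3_c50)) = (LP (LK LD1_c3 LD2_c56 LD3_c4)) :=
  Lre_c IH (LK LD1_c7 LD2_c53 LD3_c50) (LK LD1_c3 LD2_c56 LD3_c4) Lrfl Lrfl
theorem f160454 : Led Lsl_dt (LP (LK LD1_c3 LD2_c36 LD3_c50)) = (LP (LK LD1_c7 LD2_c13 LD3_c55)) :=
  Lre_d IH (LK LD1_c3 LD2_c36 LD3_c50) (LK LD1_c7 LD2_c13 LD3_c55) Lrfl Lrfl
theorem f518666 : Led Lsl_gt (LP (LK LD1_c7 LD2_c13 LD3_c55)) = (LP (LK LD1_c13 LD2_c41 LD3_c4)) :=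
  Lgr Lrot9 (Lpe (f160454 IH) (Lpr_gt (K28.f17450 IH) (Lpr_ct (K28.f17379 IH) (Lpr_gt (K28.f456850 IH) (Lpqs (K28.f465133 IH) (Lpr_ct (K28.f446556 IH) (Lpe (K29.f446553 IH) (Lpe (f458570 IH) (Lpe (f458577 IH) (Lpr_cf (f518659 IH) (Lpn (LP (LK LD1_c13 LD2_c41 LD3_c4)))))))))))))
theorem f530707 : Led Lsl_af (LP (LK LD1_c7 LD2_c13 LD3_c52)) = (LP (LK LD1_c7 LD2_c7 LD3_c13)) :=
  Lgr Lrot31 (Lpe (f98588 IH) (Lpe (f518666 IH) (Lpr_ft (f530693 IH) (Lpn (LP (LK LD1_c7 LD2_c7 LD3_c13))))))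
theorem f11758 : Led Lsl_dt (LP (LK LD1_c3 LD2_c33 LD3_c9)) = (LP (LK LD1_c7 LD2_c7 LD3_c13)) :=
  Lre_d IH (LK LD1_c3 LD2_c33 LD3_c9) (LK LD1_c7 LD2_c7 LD3_c13) Lrfl Lrfl
theorem f530713 : Led Lsl_at (LP (LK LD1_c3 LD2_c36 LD3_c49)) = (LP (LK LD1_c3 LD2_c33 LD3_c9)) :=
  Lgr Lrot51 (Lpe (f98561 IH) (Lpr_af (f530707 IH) (Lpe (f11758 IH) (Lpn (LP (LK LD1_c3 LD2_c33 LD3_c9))))))
theorem f530768 : Led Lsl_ff (LP (LK LD1_c3 LD2_c36 LD3_c49)) = (LP (LK LD1_c3 LD2_c33 LD3_c10)) :=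
  Lgr Lrot52 (Lpr_at (f530713 IH) (Lpe (K8.f11605 IH) (Lpe (K35.f11827 IH) (Lpn (LP (LK LD1_c3 LD2_c33 LD3_c10))))))
theorem f530778 : K34.v2702 = (LP (LK LD1_c3 LD2_c39 LD3_c15)) :=
  (Llr Lrot4 (Lpe (K34.f530477 IH) (Lpe (K34.f471935 IH) (Lpr_ff (f530768 IH) (Lpr_cf (f475269 IH) (Lpn (LP (LK LD1_c3 LD2_c39 LD3_c15)))))))).symm
theorem f530783 : Led Lsl_at (LP (LK LD1_c3 LD2_c33 LD3_c10)) = (LP (LK LD1_c3 LD2_c36 LD3_c50)) :=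
  Lgr Lrot107 (Lpr_cf (f475269 IH) (Lpq (f530778 IH) (Lpe (K34.f530475 IH) (Lpr_cf (f465235 IH) (Lpn (LP (LK LD1_c3 LD2_c36 LD3_c50)))))))
theorem f160217 : Led Lsl_dt (LP (LK LD1_c7 LD2_c7 LD3_c16)) = (LP (LK LD1_c3 LD2_c33 LD3_c10)) :=
  Lre_d IH (LK LD1_c7 LD2_c7 LD3_c16) (LK LD1_c3 LD2_c33 LD3_c10) Lrfl Lrfl
theorem f530787 : Led Lsl_af (LP (LK LD1_c7 LD2_c7 LD3_c16)) = (LP (LK LD1_c7 LD2_c13 LD3_c55)) :=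
  Lgr Lrot117 (Lpr_dt (f160217 IH) (Lpr_at (f530783 IH) (Lpr_dt (f160454 IH) (Lpn (LP (LK LD1_c7 LD2_c13 LD3_c55))))))
theorem f530705 : Led Lsl_ff (LP (LK LD1_c7 LD2_c13 LD3_c55)) = (LP (LK LD1_c7 LD2_c7 LD3_c13)) :=
  Lgr Lrot3 (Lpr_ft (f530693 IH) (Lpn (LP (LK LD1_c7 LD2_c7 LD3_c13))))
theorem f530709 : Led Lsl_at (LP (LK LD1_c7 LD2_c13 LD3_c52)) = (LP (LK LD1_c7 LD2_c7 LD3_c13)) :=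
  Lgr Lrot100 (Lpr_af (f530707 IH) (Lpn (LP (LK LD1_c7 LD2_c7 LD3_c13))))
theorem f530797 : Led Lsl_ft (LP (LK LD1_c7 LD2_c7 LD3_c16)) = (LP (LK LD1_c7 LD2_c13 LD3_c52)) :=
  Lgr Lrot101 (Lpr_af (f530787 IH) (Lpr_ff (f530705 IH) (Lpe (f530709 IH) (Lpn (LP (LK LD1_c7 LD2_c13 LD3_c52))))))
theorem f530801 : Led Lsl_bt (LP (LK LD1_c13 LD2_c29 LD3_c32)) = (LP (LK LD1_c7 LD2_c7 LD3_c16)) :=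
  Lre_b IH (LK LD1_c13 LD2_c29 LD3_c32) (LK LD1_c7 LD2_c7 LD3_c16) Lrfl Lrfl
theorem f471941 : Led Lsl_bt (LP (LK LD1_c7 LD2_c13 LD3_c52)) = (LP (LK LD1_c13 LD2_c41 LD3_c1)) :=
  Lre_b IH (LK LD1_c7 LD2_c13 LD3_c52) (LK LD1_c13 LD2_c41 LD3_c1) Lrfl Lrfl
theorem f530810 : Led Lsl_ff (LP (LK LD1_c13 LD2_c29 LD3_c32)) = (LP (LK LD1_c13 LD2_c41 LD3_c1)) :=
  Lgr Lrot25 (Lpr_bt (f530801 IH) (Lpr_ft (f530797 IH) (Lpr_bt (f471941 IH) (Lpn (LP (LK LD1_c13 LD2_c41 LD3_c1))))))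
theorem f475278 : Led Lsl_dt (LP (LK LD1_c13 LD2_c29 LD3_c32)) = (LP (LK LD1_c7 LD2_c7 LD3_c15)) :=
  Lre_d IH (LK LD1_c13 LD2_c29 LD3_c32) (LK LD1_c7 LD2_c7 LD3_c15) Lrfl Lrfl
theorem f98600 : Led Lsl_dt (LP (LK LD1_c7 LD2_c13 LD3_c51)) = (LP (LK LD1_c13 LD2_c41 LD3_c1)) :=
  Lre_d IH (LK LD1_c7 LD2_c13 LD3_c51) (LK LD1_c13 LD2_c41 LD3_c1) Lrfl Lrfl
theorem f530861 : Led Lsl_ft (LP (LK LD1_c7 LD2_c7 LD3_c15)) = (LP (LK LD1_c7 LD2_c13 LD3_c51)) :=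
  Lgr Lrot54 (Lpe (f475278 IH) (Lpr_ff (f530810 IH) (Lpe (f98600 IH) (Lpn (LP (LK LD1_c7 LD2_c13 LD3_c51))))))
theorem f98503 : Led Lsl_gt (LP (LK LD1_c3 LD2_c33 LD3_c22)) = (LP (LK LD1_c7 LD2_c7 LD3_c36)) :=
  Lre_g IH (LK LD1_c3 LD2_c33 LD3_c22) (LK LD1_c7 LD2_c7 LD3_c36) Lrfl Lrfl
theorem f530867 : Led Lsl_af (LP (LK LD1_c7 LD2_c7 LD3_c36)) = (LP (LK LD1_c7 LD2_c13 LD3_c51)) :=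
  Lgr Lrot31 (Lpe (f98503 IH) (Lpe (K35.f475274 IH) (Lpr_ft (f530861 IH) (Lpn (LP (LK LD1_c7 LD2_c13 LD3_c51))))))
theorem f471932 : Led Lsl_bt (LP (LK LD1_c3 LD2_c36 LD3_c49)) = (LP (LK LD1_c7 LD2_c13 LD3_c51)) :=
  Lre_b IH (LK LD1_c3 LD2_c36 LD3_c49) (LK LD1_c7 LD2_c13 LD3_c51) Lrfl Lrfl
theorem f98587 : Led Lsl_et (LP (LK LD1_c7 LD2_c13 LD3_c52)) = (LP (LK LD1_c13 LD2_c41 LD3_c6)) :=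
  Lre_e IH (LK LD1_c7 LD2_c13 LD3_c52) (LK LD1_c13 LD2_c41 LD3_c6) Lrfl Lrfl
theorem f108560 : Led Lsl_et (LP (LK LD1_c13 LD2_c29 LD3_c31)) = (LP (LK LD1_c7 LD2_c7 LD3_c13)) :=
  Lre_e IH (LK LD1_c13 LD2_c29 LD3_c31) (LK LD1_c7 LD2_c7 LD3_c13) Lrfl Lrfl
theorem f530715 : Led Lsl_at (LP (LK LD1_c13 LD2_c41 LD3_c6)) = (LP (LK LD1_c13 LD2_c29 LD3_c31)) :=
  Lgr Lrot80 (Lpe (f98587 IH) (Lpr_af (f530707 IH) (Lpe (f108560 IH) (Lpn (LP (LK LD1_c13 LD2_c29 LD3_c31))))))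
theorem f98559 : Led Lsl_et (LP (LK LD1_c7 LD2_c5 LD3_c49)) = (LP (LK LD1_c13 LD2_c27 LD3_c2)) :=
  Lre_e IH (LK LD1_c7 LD2_c5 LD3_c49) (LK LD1_c13 LD2_c27 LD3_c2) Lrfl Lrfl
theorem f98560 : Led Lsl_et (LP (LK LD1_c3 LD2_c36 LD3_c49)) = (LP (LK LD1_c7 LD2_c13 LD3_c53)) :=
  Lre_e IH (LK LD1_c3 LD2_c36 LD3_c49) (LK LD1_c7 LD2_c13 LD3_c53) Lrfl Lrfl
theorem f98562 : Led Lsl_et (LP (LK LD1_c13 LD2_c41 LD3_c6)) = (LP (LK LD1_c7 LD2_c13 LD3_c52)) :=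
  Lre_e IH (LK LD1_c13 LD2_c41 LD3_c6) (LK LD1_c7 LD2_c13 LD3_c52) Lrfl Lrfl
theorem f98563 : Led Lsl_dt (LP (LK LD1_c13 LD2_c27 LD3_c2)) = (LP (LK LD1_c13 LD2_c41 LD3_c6)) :=
  Lgr Lrot77 (Lpe (f98559 IH) (Lpr_df (K28.f98550 IH) (Lpe (f98560 IH) (Lpe (f98561 IH) (Lpe (f98562 IH) (Lpn (LP (LK LD1_c13 LD2_c41 LD3_c6))))))))
theorem f108559 : Led Lsl_et (LP (LK LD1_c3 LD2_c33 LD3_c9)) = (LP (LK LD1_c7 LD2_c7 LD3_c14)) :=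
  Lre_e IH (LK LD1_c3 LD2_c33 LD3_c9) (LK LD1_c7 LD2_c7 LD3_c14) Lrfl Lrfl
theorem f11606 : Led Lsl_dt (LP (LK LD1_c7 LD2_c7 LD3_c13)) = (LP (LK LD1_c3 LD2_c33 LD3_c9)) :=
  Lre_d IH (LK LD1_c7 LD2_c7 LD3_c13) (LK LD1_c3 LD2_c33 LD3_c9) Lrfl Lrfl
theorem f108561 : Led Lsl_et (LP (LK LD1_c7 LD2_c12 LD3_c43)) = (LP (LK LD1_c13 LD2_c39 LD3_c6)) :=
  Lre_e IH (LK LD1_c7 LD2_c12 LD3_c43) (LK LD1_c13 LD2_c39 LD3_c6) Lrfl Lrfl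
theorem f108562 : Led Lsl_df (LP (LK LD1_c13 LD2_c29 LD3_c31)) = (LP (LK LD1_c13 LD2_c39 LD3_c6)) :=
  Lgr Lrot70 (Lpr_et (f108560 IH) (Lpr_dt (f11606 IH) (Lpr_et (f108559 IH) (Lpr_dt (K8.f108550 IH) (Lpr_et (f108561 IH) (Lpn (LP (LK LD1_c13 LD2_c39 LD3_c6))))))))
theorem f108568 : Led Lsl_dt (LP (LK LD1_c13 LD2_c29 LD3_c31)) = (LP (LK LD1_c13 LD2_c39 LD3_c6)) :=
  Lgr Lrot42 (Lpr_df (f108562 IH) (Lpn (LP (LK LD1_c13 LD2_c39 LD3_c6))))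
theorem f530719 : Led Lsl_af (LP (LK LD1_c13 LD2_c27 LD3_c2)) = (LP (LK LD1_c13 LD2_c39 LD3_c6)) :=
  Lgr Lrot117 (Lpr_dt (f98563 IH) (Lpr_at (f530715 IH) (Lpr_dt (f108568 IH) (Lpn (LP (LK LD1_c13 LD2_c39 LD3_c6))))))
theorem f98581 : Led Lsl_et (LP (LK LD1_c13 LD2_c27 LD3_c2)) = (LP (LK LD1_c7 LD2_c5 LD3_c49)) :=
  Lre_e IH (LK LD1_c13 LD2_c27 LD3_c2) (LK LD1_c7 LD2_c5 LD3_c49) Lrfl Lrfl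
theorem f530723 : Led Lsl_at (LP (LK LD1_c7 LD2_c5 LD3_c49)) = (LP (LK LD1_c7 LD2_c12 LD3_c43)) :=
  Lgr Lrot80 (Lpe (f98581 IH) (Lpr_af (f530719 IH) (Lpe (f108561 IH) (Lpn (LP (LK LD1_c7 LD2_c12 LD3_c43))))))
theorem f108557 : Led Lsl_df (LP (LK LD1_c7 LD2_c7 LD3_c14)) = (LP (LK LD1_c7 LD2_c12 LD3_c43)) :=
  Lgr Lrot38 (Lpr_dt (K8.f108550 IH) (Lpn (LP (LK LD1_c7 LD2_c12 LD3_c43))))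
theorem f530729 : Led Lsl_af (LP (LK LD1_c7 LD2_c13 LD3_c53)) = (LP (LK LD1_c7 LD2_c7 LD3_c14)) :=
  Lgr Lrot117 (Lpe (K28.f98550 IH) (Lpr_at (f530723 IH) (Lpe (f108557 IH) (Lpn (LP (LK LD1_c7 LD2_c7 LD3_c14))))))
theorem f530764 : Led Lsl_at (LP (LK LD1_c7 LD2_c13 LD3_c53)) = (LP (LK LD1_c7 LD2_c7 LD3_c14)) :=
  Lgr Lrot100 (Lpr_af (f530729 IH) (Lpn (LP (LK LD1_c7 LD2_c7 LD3_c14))))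
theorem f530766 : Led Lsl_af (LP (LK LD1_c3 LD2_c36 LD3_c49)) = (LP (LK LD1_c3 LD2_c33 LD3_c9)) :=
  Lgr Lrot50 (Lpr_et (f98560 IH) (Lpr_at (f530764 IH) (Lpr_et (K8.f108549 IH) (Lpn (LP (LK LD1_c3 LD2_c33 LD3_c9))))))
theorem f472155 : Led Lsl_at (LP (LK LD1_c13 LD2_c29 LD3_c27)) = (LP (LK LD1_c7 LD2_c7 LD3_c12)) :=
  Lre_a IH (LK LD1_c13 LD2_c29 LD3_c27) (LK LD1_c7 LD2_c7 LD3_c12) Lrfl Lrfl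
theorem f530871 : Led Lsl_bt (LP (LK LD1_c7 LD2_c7 LD3_c36)) = (LP (LK LD1_c13 LD2_c29 LD3_c27)) :=
  Lgr Lrot62 (Lpr_af (f530867 IH) (Lpe (f471932 IH) (Lpr_af (f530766 IH) (Lpe (K29.f11829 IH) (Lpe (f472155 IH) (Lpn (LP (LK LD1_c13 LD2_c29 LD3_c27))))))))
theorem f425238 : Led Lsl_et (LP (LK LD1_c7 LD2_c16 LD3_c37)) = (LP (LK LD1_c3 LD2_c38 LD3_c6)) :=
  Lre_e IH (LK LD1_c7 LD2_c16 LD3_c37) (LK LD1_c3 LD2_c38 LD3_c6) Lrfl Lrfl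
theorem f471937 : Led Lsl_ct (LP (LK LD1_c7 LD2_c13 LD3_c53)) = (LP (LK LD1_c7 LD2_c16 LD3_c37)) :=
  Lgr Lrot15 (Lpe (f98560 IH) (Lpr_cf (K34.f471930 IH) (Lpe (f425238 IH) (Lpn (LP (LK LD1_c7 LD2_c16 LD3_c37))))))
theorem f471948 : Led Lsl_cf (LP (LK LD1_c7 LD2_c13 LD3_c53)) = (LP (LK LD1_c7 LD2_c16 LD3_c37)) :=
  Lgr Lrot11 (Lpr_ct (f471937 IH) (Lpn (LP (LK LD1_c7 LD2_c16 LD3_c37))))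
theorem f98593 : Led Lsl_bt (LP (LK LD1_c7 LD2_c13 LD3_c53)) = (LP (LK LD1_c13 LD2_c41 LD3_c2)) :=
  Lre_b IH (LK LD1_c7 LD2_c13 LD3_c53) (LK LD1_c13 LD2_c41 LD3_c2) Lrfl Lrfl
theorem f471203 : Led Lsl_et (LP (LK LD1_c3 LD2_c38 LD3_c6)) = (LP (LK LD1_c7 LD2_c16 LD3_c37)) :=
  Lre_e IH (LK LD1_c3 LD2_c38 LD3_c6) (LK LD1_c7 LD2_c16 LD3_c37) Lrfl Lrfl
theorem f471204 : Led Lsl_bt (LP (LK LD1_c7 LD2_c16 LD3_c37)) = (LP (LK LD1_c7 LD2_c25 LD3_c34)) :=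
  Lgr Lrot119 (Lpe (f471203 IH) (Lpr_bf (K34.f471199 IH) (Lpe (f120860 IH) (Lpn (LP (LK LD1_c7 LD2_c25 LD3_c34))))))
theorem f471213 : Led Lsl_bf (LP (LK LD1_c7 LD2_c16 LD3_c37)) = (LP (LK LD1_c7 LD2_c25 LD3_c34)) :=
  Lgr Lrot24 (Lpr_bt (f471204 IH) (Lpn (LP (LK LD1_c7 LD2_c25 LD3_c34))))
theorem f471215 : Led Lsl_bt (LP (LK LD1_c7 LD2_c43 LD3_c31)) = (LP (LK LD1_c3 LD2_c51 LD3_c7)) :=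
  Lre_b IH (LK LD1_c7 LD2_c43 LD3_c31) (LK LD1_c3 LD2_c51 LD3_c7) Lrfl Lrfl
theorem f471950 : Led Lsl_ct (LP (LK LD1_c13 LD2_c41 LD3_c2)) = (LP (LK LD1_c7 LD2_c43 LD3_c31)) :=
  Lgr Lrot83 (Lpe (f98593 IH) (Lpr_cf (f471948 IH) (Lpr_bf (f471213 IH) (Lpe (f471191 IH) (Lpe (f471215 IH) (Lpn (LP (LK LD1_c7 LD2_c43 LD3_c31))))))))
theorem f98596 : Led Lsl_et (LP (LK LD1_c7 LD2_c13 LD3_c51)) = (LP (LK LD1_c13 LD2_c41 LD3_c2)) :=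
  Lre_e IH (LK LD1_c7 LD2_c13 LD3_c51) (LK LD1_c13 LD2_c41 LD3_c2) Lrfl Lrfl
theorem f471953 : Led Lsl_et (LP (LK LD1_c7 LD2_c43 LD3_c31)) = (LP (LK LD1_c3 LD2_c51 LD3_c5)) :=
  Lre_e IH (LK LD1_c7 LD2_c43 LD3_c31) (LK LD1_c3 LD2_c51 LD3_c5) Lrfl Lrfl
theorem f471954 : Led Lsl_cf (LP (LK LD1_c7 LD2_c13 LD3_c51)) = (LP (LK LD1_c3 LD2_c51 LD3_c5)) :=
  Lgr Lrot39 (Lpr_et (f98596 IH) (Lpr_ct (f471950 IH) (Lpr_et (f471953 IH) (Lpn (LP (LK LD1_c3 LD2_c51 LD3_c5))))))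
theorem f471957 : Led Lsl_at (LP (LK LD1_c7 LD2_c43 LD3_c29)) = (LP (LK LD1_c3 LD2_c51 LD3_c5)) :=
  Lre_a IH (LK LD1_c7 LD2_c43 LD3_c29) (LK LD1_c3 LD2_c51 LD3_c5) Lrfl Lrfl
theorem f530873 : Led Lsl_ct (LP (LK LD1_c7 LD2_c7 LD3_c36)) = (LP (LK LD1_c7 LD2_c43 LD3_c29)) :=
  Lgr Lrot111 (Lpr_af (f530867 IH) (Lpr_cf (f471954 IH) (Lpe (f471957 IH) (Lpn (LP (LK LD1_c7 LD2_c43 LD3_c29))))))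
theorem f136483 : Led Lsl_ct (LP (LK LD1_c13 LD2_c9 LD3_c47)) = (LP (LK LD1_c6 LD2_c55 LD3_c53)) :=
  Lre_c IH (LK LD1_c13 LD2_c9 LD3_c47) (LK LD1_c6 LD2_c55 LD3_c53) Lrfl Lrfl
theorem f564420 : Led Lsl_gf (LP (LK LD1_c7 LD2_c43 LD3_c29)) = (LP (LK LD1_c6 LD2_c55 LD3_c53)) :=
  Lgr Lrot129 (Lpe (f530873 IH) (Lpr_bt (f530871 IH) (Lpe (f531266 IH) (Lpr_bf (f488342 IH) (Lpe (f493276 IH) (Lpr_gt (f470930 IH) (Lpr_cf (K29.f470939 IH) (Lpr_bt (f470938 IH) (Lpr_gt (f564416 IH) (Lpr_ct (f136483 IH) (Lpn (LP (LK LD1_c6 LD2_c55 LD3_c53)))))))))))))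
theorem f493264 : Led Lsl_gt (LP (LK LD1_c23 LD2_c6 LD3_c37)) = (LP (LK LD1_c13 LD2_c41 LD3_c35)) :=
  Lgr Lrot82 (Lpr_bf (f465433 IH) (Lpr_ct (f493259 IH) (Lpe (f443470 IH) (Lpe (K34.f457919 IH) (Lpr_bt (K33.f457776 IH) (Lpe (K28.f468093 IH) (Lpr_bf (K28.f96588 IH) (Lpe (K28.f96535 IH) (Lpe (K28.f17496 IH) (Lpe (K35.f96587 IH) (Lpn (LP (LK LD1_c13 LD2_c41 LD3_c35)))))))))))))
theorem f465616 : Led Lsl_ct (LP (LK LD1_c7 LD2_c14 LD3_c10)) = (LP (LK LD1_c13 LD2_c41 LD3_c35)) :=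
  Lre_c IH (LK LD1_c7 LD2_c14 LD3_c10) (LK LD1_c13 LD2_c41 LD3_c35) Lrfl Lrfl
theorem f470518 : Led Lsl_bt (LP (LK LD1_c7 LD2_c14 LD3_c10)) = (LP (LK LD1_c13 LD2_c41 LD3_c34)) :=
  Lre_b IH (LK LD1_c7 LD2_c14 LD3_c10) (LK LD1_c13 LD2_c41 LD3_c34) Lrfl Lrfl
theorem f136455 : Led Lsl_ct (LP (LK LD1_c7 LD2_c41 LD3_c55)) = (LP (LK LD1_c14 LD2_c30 LD3_c38)) :=
  Lre_c IH (LK LD1_c7 LD2_c41 LD3_c55) (LK LD1_c14 LD2_c30 LD3_c38) Lrfl Lrfl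
theorem f136484 : Led Lsl_bf (LP (LK LD1_c13 LD2_c9 LD3_c47)) = (LP (LK LD1_c14 LD2_c30 LD3_c38)) :=
  Lgr Lrot90 (Lpr_ct (f136483 IH) (Lpr_bt (K36.f136479 IH) (Lpe (f136452 IH) (Lpr_bt (f136454 IH) (Lpr_ct (f136455 IH) (Lpn (LP (LK LD1_c14 LD2_c30 LD3_c38))))))))
theorem f136493 : Led Lsl_bt (LP (LK LD1_c13 LD2_c9 LD3_c47)) = (LP (LK LD1_c14 LD2_c30 LD3_c38)) :=
  Lgr Lrot127 (Lpr_bf (f136484 IH) (Lpn (LP (LK LD1_c14 LD2_c30 LD3_c38))))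
theorem f564426 : Led Lsl_gt (LP (LK LD1_c13 LD2_c41 LD3_c34)) = (LP (LK LD1_c14 LD2_c30 LD3_c38)) :=
  Lgr Lrot164 (Lpe (f470518 IH) (Lpr_ct (f465616 IH) (Lpe (f493264 IH) (Lpe (f465435 IH) (Lpr_gf (f531266 IH) (Lpe (f530871 IH) (Lpr_ct (f530873 IH) (Lpr_gf (f564420 IH) (Lpe (f136483 IH) (Lpr_bt (f136493 IH) (Lpn (LP (LK LD1_c14 LD2_c30 LD3_c38)))))))))))))
theorem f470521 : Led Lsl_cf (LP (LK LD1_c13 LD2_c41 LD3_c34)) = (LP (LK LD1_c14 LD2_c22 LD3_c43)) :=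
  Lgr Lrot11 (Lpr_ct (K28.f470516 IH) (Lpn (LP (LK LD1_c14 LD2_c22 LD3_c43))))
theorem f136466 : Led Lsl_bt (LP (LK LD1_c7 LD2_c41 LD3_c55)) = (LP (LK LD1_c3 LD2_c50 LD3_c26)) :=
  Lre_b IH (LK LD1_c7 LD2_c41 LD3_c55) (LK LD1_c3 LD2_c50 LD3_c26) Lrfl Lrfl
theorem f564428 : Led Lsl_gf (LP (LK LD1_c7 LD2_c30 LD3_c22)) = (LP (LK LD1_c3 LD2_c50 LD3_c26)) :=
  Lgr Lrot124 (Lpe (f457720 IH) (Lpr_ct (K28.f457726 IH) (Lpe (K28.f465429 IH) (Lpr_cf (K3.f17345 IH) (Lpr_bt (K28.f17342 IH) (Lpr_gt (K28.f17351 IH) (Lpe (f470521 IH) (Lpr_gt (f564426 IH) (Lpe (f136455 IH) (Lpr_bt (f136466 IH) (Lpn (LP (LK LD1_c3 LD2_c50 LD3_c26)))))))))))))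
theorem f136461 : Led Lsl_ft (LP (LK LD1_c3 LD2_c50 LD3_c26)) = (LP (LK LD1_c7 LD2_c41 LD3_c59)) :=
  Lre_f IH (LK LD1_c3 LD2_c50 LD3_c26) (LK LD1_c7 LD2_c41 LD3_c59) Lrfl Lrfl
theorem f564432 : Led Lsl_af (LP (LK LD1_c14 LD2_c10 LD3_c30)) = (LP (LK LD1_c7 LD2_c41 LD3_c59)) :=
  Lgr Lrot31 (Lpe (f457729 IH) (Lpr_gf (f564428 IH) (Lpr_ft (f136461 IH) (Lpn (LP (LK LD1_c7 LD2_c41 LD3_c59))))))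
theorem f501846 : Led Lsl_at (LP (LK LD1_c7 LD2_c35 LD3_c22)) = (LP (LK LD1_c3 LD2_c50 LD3_c26)) :=
  Lgr Lrot107 (Lpe (K6.f136349 IH) (Lpr_af (K36.f501842 IH) (Lpe (f136456 IH) (Lpn (LP (LK LD1_c3 LD2_c50 LD3_c26))))))
theorem f564439 : Led Lsl_ft (LP (LK LD1_c14 LD2_c10 LD3_c30)) = (LP (LK LD1_c7 LD2_c35 LD3_c22)) :=
  Lgr Lrot101 (Lpr_af (f564432 IH) (Lpe (f136461 IH) (Lpe (f501846 IH) (Lpn (LP (LK LD1_c7 LD2_c35 LD3_c22))))))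
theorem f564443 : Led Lsl_ff (LP (LK LD1_c7 LD2_c36 LD3_c47)) = (LP (LK LD1_c3 LD2_c50 LD3_c23)) :=
  Lgr Lrot23 (Lpe (f493261 IH) (Lpr_ft (f564439 IH) (Lpe (K6.f136343 IH) (Lpn (LP (LK LD1_c3 LD2_c50 LD3_c23))))))
theorem f564449 : Led Lsl_ff (LP (LK LD1_c14 LD2_c10 LD3_c30)) = (LP (LK LD1_c7 LD2_c35 LD3_c22)) :=
  Lgr Lrot3 (Lpr_ft (f564439 IH) (Lpn (LP (LK LD1_c7 LD2_c35 LD3_c22))))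
theorem f501691 : Led Lsl_ff (LP (LK LD1_c3 LD2_c47 LD3_c15)) = (LP (LK LD1_c1 LD2_c52 LD3_c6)) :=
  Lgr Lrot25 (Lpr_bt (K28.f109436 IH) (Lpr_ft (K36.f501689 IH) (Lpr_bt (K6.f96134 IH) (Lpn (LP (LK LD1_c1 LD2_c52 LD3_c6))))))
theorem f564527 : Led Lsl_ft (LP (LK LD1_c7 LD2_c36 LD3_c47)) = (LP (LK LD1_c3 LD2_c50 LD3_c23)) :=
  Lgr Lrot4 (Lpe (f493259 IH) (Lpr_ff (f564449 IH) (Lpe (K6.f136349 IH) (Lpn (LP (LK LD1_c3 LD2_c50 LD3_c23))))))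
theorem f564531 : Led Lsl_et (LP (LK LD1_c14 LD2_c10 LD3_c30)) = (LP (LK LD1_c7 LD2_c36 LD3_c47)) :=
  Lgr Lrot69 (Lpr_ff (f564449 IH) (Lpe (K6.f109411 IH) (Lpr_ff (f501691 IH) (Lpe (K6.f136342 IH) (Lpe (f564527 IH) (Lpn (LP (LK LD1_c7 LD2_c36 LD3_c47))))))))
theorem f564533 : Led Lsl_ef (LP (LK LD1_c23 LD2_c6 LD3_c37)) = (LP (LK LD1_c14 LD2_c20 LD3_c33)) :=
  Lgr Lrot29 (Lpr_bt (f465431 IH) (Lpr_et (f564531 IH) (Lpe (f493266 IH) (Lpn (LP (LK LD1_c14 LD2_c20 LD3_c33))))))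
theorem f110235 : Led Lsl_bt (LP (LK LD1_c14 LD2_c18 LD3_c31)) = (LP (LK LD1_c7 LD2_c35 LD3_c22)) :=
  Lre_b IH (LK LD1_c14 LD2_c18 LD3_c31) (LK LD1_c7 LD2_c35 LD3_c22) Lrfl Lrfl
theorem f564525 : Led Lsl_ft (LP (LK LD1_c23 LD2_c6 LD3_c37)) = (LP (LK LD1_c14 LD2_c18 LD3_c31)) :=
  Lgr Lrot75 (Lpr_bf (f465433 IH) (Lpr_ff (f564449 IH) (Lpe (f110235 IH) (Lpn (LP (LK LD1_c14 LD2_c18 LD3_c31))))))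
theorem f564539 : Led Lsl_ft (LP (LK LD1_c7 LD2_c41 LD3_c51)) = (LP (LK LD1_c14 LD2_c20 LD3_c33)) :=
  Lgr Lrot86 (Lpe (K8.f96162 IH) (Lpe (K36.f501689 IH) (Lpe (K6.f109431 IH) (Lpe (f564525 IH) (Lpr_ef (f564533 IH) (Lpn (LP (LK LD1_c14 LD2_c20 LD3_c33))))))))
theorem f564545 : Led Lsl_ff (LP (LK LD1_c7 LD2_c41 LD3_c51)) = (LP (LK LD1_c14 LD2_c20 LD3_c33)) :=
  Lgr Lrot3 (Lpr_ft (f564539 IH) (Lpn (LP (LK LD1_c14 LD2_c20 LD3_c33))))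
theorem f501703 : Led Lsl_af (LP (LK LD1_c14 LD2_c19 LD3_c35)) = (LP (LK LD1_c7 LD2_c41 LD3_c51)) :=
  Lgr Lrot0 (Lpr_at (K36.f501701 IH) (Lpn (LP (LK LD1_c7 LD2_c41 LD3_c51))))
theorem f564551 : Led Lsl_gf (LP (LK LD1_c14 LD2_c19 LD3_c35)) = (LP (LK LD1_c7 LD2_c36 LD3_c28)) :=
  Lgr Lrot76 (Lpr_af (f501703 IH) (Lpr_ff (f564545 IH) (Lpr_gt (f470930 IH) (Lpn (LP (LK LD1_c7 LD2_c36 LD3_c28))))))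
theorem f465124 : Led Lsl_bt (LP (LK LD1_c13 LD2_c29 LD3_c13)) = (LP (LK LD1_c22 LD2_c49 LD3_c33)) :=
  Lre_b IH (LK LD1_c13 LD2_c29 LD3_c13) (LK LD1_c22 LD2_c49 LD3_c33) Lrfl Lrfl
theorem f108030 : Led Lsl_ct (LP (LK LD1_c3 LD2_c33 LD3_c38)) = (LP (LK LD1_c3 LD2_c42 LD3_c17)) :=
  Lgr Lrot83 (Lpe (K8.f108029 IH) (Lpr_cf (K8.f108025 IH) (Lpe (K29.f26200 IH) (Lpe (K28.f26204 IH) (Lpe (K29.f26205 IH) (Lpn (LP (LK LD1_c3 LD2_c42 LD3_c17))))))))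
theorem f489517 : Led Lsl_gt (LP (LK LD1_c22 LD2_c49 LD3_c33)) = (LP (LK LD1_c22 LD2_c29 LD3_c9)) :=
  Lgr Lrot82 (Lpe (f465124 IH) (Lpr_ct (K28.f465125 IH) (Lpe (K28.f108067 IH) (Lpe (f108030 IH) (Lpr_bt (K8.f108043 IH) (Lpe (K28.f462037 IH) (Lpe (K29.f455314 IH) (Lpr_ct (K29.f455446 IH) (Lpe (K29.f455439 IH) (Lpe (K29.f455473 IH) (Lpn (LP (LK LD1_c22 LD2_c29 LD3_c9)))))))))))))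
theorem f11727 : Led Lsl_bt (LP (LK LD1_c22 LD2_c49 LD3_c33)) = (LP (LK LD1_c13 LD2_c29 LD3_c13)) :=
  Lre_b IH (LK LD1_c22 LD2_c49 LD3_c33) (LK LD1_c13 LD2_c29 LD3_c13) Lrfl Lrfl
theorem f471286 : Led Lsl_bt (LP (LK LD1_c13 LD2_c13 LD3_c57)) = (LP (LK LD1_c22 LD2_c28 LD3_c35)) :=
  Lre_b IH (LK LD1_c13 LD2_c13 LD3_c57) (LK LD1_c22 LD2_c28 LD3_c35) Lrfl Lrfl
theorem f471716 : Led Lsl_cf (LP (LK LD1_c22 LD2_c49 LD3_c33)) = (LP (LK LD1_c22 LD2_c28 LD3_c35)) :=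
  Lgr Lrot97 (Lpr_bt (f11727 IH) (Lpr_ct (K28.f465125 IH) (Lpr_bt (K29.f471714 IH) (Lpr_ct (K29.f471279 IH) (Lpr_bt (f471286 IH) (Lpn (LP (LK LD1_c22 LD2_c28 LD3_c35))))))))
theorem f455433 : Led Lsl_bt (LP (LK LD1_c22 LD2_c28 LD3_c35)) = (LP (LK LD1_c13 LD2_c13 LD3_c57)) :=
  Lre_b IH (LK LD1_c22 LD2_c28 LD3_c35) (LK LD1_c13 LD2_c13 LD3_c57) Lrfl Lrfl
theorem f468110 : Led Lsl_ct (LP (LK LD1_c13 LD2_c14 LD3_c26)) = (LP (LK LD1_c22 LD2_c29 LD3_c9)) :=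
  Lre_c IH (LK LD1_c13 LD2_c14 LD3_c26) (LK LD1_c22 LD2_c29 LD3_c9) Lrfl Lrfl
theorem f468111 : Led Lsl_bt (LP (LK LD1_c13 LD2_c14 LD3_c26)) = (LP (LK LD1_c22 LD2_c29 LD3_c8)) :=
  Lre_b IH (LK LD1_c13 LD2_c14 LD3_c26) (LK LD1_c22 LD2_c29 LD3_c8) Lrfl Lrfl
theorem f489519 : Led Lsl_gf (LP (LK LD1_c13 LD2_c30 LD3_c30)) = (LP (LK LD1_c22 LD2_c29 LD3_c8)) :=
  Lgr Lrot181 (Lpr_ct (K29.f471268 IH) (Lpe (K29.f460297 IH) (Lpe (K29.f160483 IH) (Lpe (K29.f160488 IH) (Lpr_gt (K29.f464991 IH) (Lpe (f455433 IH) (Lpe (f471716 IH) (Lpr_gt (f489517 IH) (Lpe (f468110 IH) (Lpr_bt (f468111 IH) (Lpn (LP (LK LD1_c22 LD2_c29 LD3_c8)))))))))))))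
theorem f564555 : Led Lsl_gt (LP (LK LD1_c13 LD2_c27 LD3_c53)) = (LP (LK LD1_c22 LD2_c28 LD3_c35)) :=
  Lgr Lrot82 (Lpr_bf (K36.f96545 IH) (Lpr_ct (K36.f145187 IH) (Lpr_gf (f564551 IH) (Lpr_cf (K29.f470939 IH) (Lpr_bt (f470938 IH) (Lpr_gf (f489519 IH) (Lpe (f468111 IH) (Lpr_ct (f468110 IH) (Lpe (f489517 IH) (Lpr_cf (f471716 IH) (Lpn (LP (LK LD1_c22 LD2_c28 LD3_c35)))))))))))))
theorem f96550 : Led Lsl_bt (LP (LK LD1_c7 LD2_c6 LD3_c23)) = (LP (LK LD1_c13 LD2_c27 LD3_c52)) :=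
  Lre_b IH (LK LD1_c7 LD2_c6 LD3_c23) (LK LD1_c13 LD2_c27 LD3_c52) Lrfl Lrfl
theorem f471886 : Led Lsl_ct (LP (LK LD1_c22 LD2_c49 LD3_c33)) = (LP (LK LD1_c22 LD2_c28 LD3_c35)) :=
  Lgr Lrot59 (Lpr_cf (f471716 IH) (Lpn (LP (LK LD1_c22 LD2_c28 LD3_c35))))
theorem f11694 : Led Lsl_gt (LP (LK LD1_c7 LD2_c51 LD3_c50)) = (LP (LK LD1_c14 LD2_c49 LD3_c45)) :=
  Lre_g IH (LK LD1_c7 LD2_c51 LD3_c50) (LK LD1_c14 LD2_c49 LD3_c45) Lrfl Lrfl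
theorem f470639 : Led Lsl_bt (LP (LK LD1_c13 LD2_c14 LD3_c31)) = (LP (LK LD1_c22 LD2_c29 LD3_c18)) :=
  Lre_b IH (LK LD1_c13 LD2_c14 LD3_c31) (LK LD1_c22 LD2_c29 LD3_c18) Lrfl Lrfl
theorem f564559 : Led Lsl_gf (LP (LK LD1_c13 LD2_c27 LD3_c52)) = (LP (LK LD1_c22 LD2_c29 LD3_c18)) :=
  Lgr Lrot124 (Lpe (f96550 IH) (Lpr_ct (K36.f96552 IH) (Lpr_gt (f564555 IH) (Lpe (f471886 IH) (Lpr_bt (f11727 IH) (Lpr_gt (K28.f11724 IH) (Lpe (K8.f11699 IH) (Lpr_gt (f11694 IH) (Lpe (K34.f470635 IH) (Lpr_bt (f470639 IH) (Lpn (LP (LK LD1_c22 LD2_c29 LD3_c18)))))))))))))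
theorem f145195 : Led Lsl_bt (LP (LK LD1_c7 LD2_c42 LD3_c41)) = (LP (LK LD1_c14 LD2_c19 LD3_c35)) :=
  Lgr Lrot119 (Lpe (K36.f97931 IH) (Lpr_bf (K36.f145189 IH) (Lpe (K36.f145186 IH) (Lpn (LP (LK LD1_c14 LD2_c19 LD3_c35))))))
theorem f470610 : Led Lsl_bt (LP (LK LD1_c22 LD2_c29 LD3_c18)) = (LP (LK LD1_c13 LD2_c14 LD3_c31)) :=
  Lre_b IH (LK LD1_c22 LD2_c29 LD3_c18) (LK LD1_c13 LD2_c14 LD3_c31) Lrfl Lrfl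
theorem f104065 : Led Lsl_gt (LP (LK LD1_c13 LD2_c29 LD3_c61)) = (LP (LK LD1_c7 LD2_c7 LD3_c31)) :=
  Lre_g IH (LK LD1_c13 LD2_c29 LD3_c61) (LK LD1_c7 LD2_c7 LD3_c31) Lrfl Lrfl
theorem f470637 : Led Lsl_ct (LP (LK LD1_c22 LD2_c29 LD3_c18)) = (LP (LK LD1_c13 LD2_c29 LD3_c61)) :=
  Lgr Lrot64 (Lpr_bt (f470610 IH) (Lpe (K34.f470564 IH) (Lpe (K28.f464202 IH) (Lpr_ct (K29.f470631 IH) (Lpe (K28.f468863 IH) (Lpr_cf (K28.f468869 IH) (Lpe (K28.f98516 IH) (Lpe (K28.f128169 IH) (Lpr_ct (K29.f460304 IH) (Lpe (f104065 IH) (Lpn (LP (LK LD1_c13 LD2_c29 LD3_c61)))))))))))))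
theorem f470640 : Led Lsl_cf (LP (LK LD1_c22 LD2_c29 LD3_c18)) = (LP (LK LD1_c13 LD2_c29 LD3_c61)) :=
  Lgr Lrot11 (Lpr_ct (f470637 IH) (Lpn (LP (LK LD1_c13 LD2_c29 LD3_c61))))
theorem f471983 : Led Lsl_bt (LP (LK LD1_c7 LD2_c37 LD3_c48)) = (LP (LK LD1_c13 LD2_c53 LD3_c56)) :=
  Lgr Lrot127 (Lpr_bf (K34.f471981 IH) (Lpn (LP (LK LD1_c13 LD2_c53 LD3_c56))))
theorem f473780 : Led Lsl_ct (LP (LK LD1_c1 LD2_c40 LD3_c18)) = (LP (LK LD1_c1 LD2_c52 LD3_c56)) :=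
  Lgr Lrot176 (Lpe (K28.f472790 IH) (Lpe (K29.f472839 IH) (Lpe (K29.f473082 IH) (Lpe (K28.f458001 IH) (Lpe (K29.f457996 IH) (Lpe (K29.f63049 IH) (Lpe (K29.f62775 IH) (Lpe (K29.f457796 IH) (Lpe (K28.f457801 IH) (Lpe (K28.f457802 IH) (Lpr_df (K28.f472951 IH) (Lpe (K28.f18372 IH) (Lpe (K29.f473748 IH) (Lpr_cf (K29.f473761 IH) (Lpe (K29.f473555 IH) (Lpn (LP (LK LD1_c1 LD2_c52 LD3_c56))))))))))))))))))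
theorem f472519 : Led Lsl_bt (LP (LK LD1_c1 LD2_c40 LD3_c18)) = (LP (LK LD1_c3 LD2_c27 LD3_c22)) :=
  Lre_b IH (LK LD1_c1 LD2_c40 LD3_c18) (LK LD1_c3 LD2_c27 LD3_c22) Lrfl Lrfl
theorem f465274 : Led Lsl_gt (LP (LK LD1_c3 LD2_c27 LD3_c22)) = (LP (LK LD1_c6 LD2_c56 LD3_c46)) :=
  Lre_g IH (LK LD1_c3 LD2_c27 LD3_c22) (LK LD1_c6 LD2_c56 LD3_c46) Lrfl Lrfl
theorem f473792 : Led Lsl_ct (LP (LK LD1_c6 LD2_c56 LD3_c46)) = (LP (LK LD1_c13 LD2_c11 LD3_c15)) :=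
  Lre_c IH (LK LD1_c6 LD2_c56 LD3_c46) (LK LD1_c13 LD2_c11 LD3_c15) Lrfl Lrfl
theorem f473793 : Led Lsl_gf (LP (LK LD1_c14 LD2_c22 LD3_c49)) = (LP (LK LD1_c13 LD2_c11 LD3_c15)) :=
  Lgr Lrot129 (Lpe (K34.f465508 IH) (Lpr_bt (f471983 IH) (Lpr_gt (K34.f123479 IH) (Lpe (K35.f162811 IH) (Lpr_ct (K28.f420091 IH) (Lpr_gt (K29.f473786 IH) (Lpe (f473780 IH) (Lpr_bt (f472519 IH) (Lpr_gt (f465274 IH) (Lpr_ct (f473792 IH) (Lpn (LP (LK LD1_c13 LD2_c11 LD3_c15)))))))))))))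
theorem f17448 : Led Lsl_bt (LP (LK LD1_c7 LD2_c13 LD3_c51)) = (LP (LK LD1_c3 LD2_c36 LD3_c49)) :=
  Lre_b IH (LK LD1_c7 LD2_c13 LD3_c51) (LK LD1_c3 LD2_c36 LD3_c49) Lrfl Lrfl
theorem f471187 : Led Lsl_ct (LP (LK LD1_c1 LD2_c52 LD3_c24)) = (LP (LK LD1_c3 LD2_c42 LD3_c26)) :=
  Lgr Lrot59 (Lpr_cf (K34.f471184 IH) (Lpn (LP (LK LD1_c3 LD2_c42 LD3_c26))))
theorem f14844 : Led Lsl_bt (LP (LK LD1_c3 LD2_c51 LD3_c5)) = (LP (LK LD1_c1 LD2_c52 LD3_c24)) :=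
  Lre_b IH (LK LD1_c3 LD2_c51 LD3_c5) (LK LD1_c1 LD2_c52 LD3_c24) Lrfl Lrfl
theorem f471933 : Led Lsl_ct (LP (LK LD1_c7 LD2_c13 LD3_c51)) = (LP (LK LD1_c3 LD2_c51 LD3_c5)) :=
  Lgr Lrot83 (Lpe (f471932 IH) (Lpr_cf (K34.f471930 IH) (Lpr_bf (K34.f471199 IH) (Lpe (f471187 IH) (Lpe (f14844 IH) (Lpn (LP (LK LD1_c3 LD2_c51 LD3_c5))))))))
theorem f471196 : Led Lsl_gt (LP (LK LD1_c3 LD2_c51 LD3_c5)) = (LP (LK LD1_c7 LD2_c43 LD3_c28)) :=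
  Lre_g IH (LK LD1_c3 LD2_c51 LD3_c5) (LK LD1_c7 LD2_c43 LD3_c28) Lrfl Lrfl
theorem f471971 : Led Lsl_ct (LP (LK LD1_c14 LD2_c33 LD3_c44)) = (LP (LK LD1_c7 LD2_c43 LD3_c28)) :=
  Lre_c IH (LK LD1_c14 LD2_c33 LD3_c44) (LK LD1_c7 LD2_c43 LD3_c28) Lrfl Lrfl
theorem f476384 : Led Lsl_bt (LP (LK LD1_c14 LD2_c33 LD3_c44)) = (LP (LK LD1_c13 LD2_c11 LD3_c15)) :=
  Lgr Lrot130 (Lpr_ct (f471971 IH) (Lpe (f471196 IH) (Lpe (f471933 IH) (Lpr_bt (f17448 IH) (Lpe (K28.f17401 IH) (Lpe (K28.f17378 IH) (Lpr_ct (K28.f17323 IH) (Lpe (K34.f17336 IH) (Lpe (K34.f17398 IH) (Lpr_gf (f473793 IH) (Lpn (LP (LK LD1_c13 LD2_c11 LD3_c15)))))))))))))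
theorem f476386 : Led Lsl_bf (LP (LK LD1_c14 LD2_c33 LD3_c44)) = (LP (LK LD1_c13 LD2_c11 LD3_c15)) :=
  Lgr Lrot24 (Lpr_bt (f476384 IH) (Lpn (LP (LK LD1_c13 LD2_c11 LD3_c15))))
theorem f470648 : Led Lsl_ct (LP (LK LD1_c13 LD2_c11 LD3_c15)) = (LP (LK LD1_c6 LD2_c56 LD3_c46)) :=
  Lre_c IH (LK LD1_c13 LD2_c11 LD3_c15) (LK LD1_c6 LD2_c56 LD3_c46) Lrfl Lrfl
theorem f476389 : Led Lsl_gt (LP (LK LD1_c14 LD2_c33 LD3_c44)) = (LP (LK LD1_c22 LD2_c29 LD3_c18)) :=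
  Lgr Lrot82 (Lpr_bf (f476386 IH) (Lpr_ct (f470648 IH) (Lpe (f465274 IH) (Lpe (f465276 IH) (Lpe (f470511 IH) (Lpe (K28.f98516 IH) (Lpe (K28.f128169 IH) (Lpr_ct (K29.f460304 IH) (Lpe (f104065 IH) (Lpe (f470637 IH) (Lpn (LP (LK LD1_c22 LD2_c29 LD3_c18)))))))))))))
theorem f471220 : Led Lsl_ct (LP (LK LD1_c7 LD2_c43 LD3_c28)) = (LP (LK LD1_c14 LD2_c33 LD3_c44)) :=
  Lre_c IH (LK LD1_c7 LD2_c43 LD3_c28) (LK LD1_c14 LD2_c33 LD3_c44) Lrfl Lrfl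
theorem f471186 : Led Lsl_bt (LP (LK LD1_c1 LD2_c52 LD3_c24)) = (LP (LK LD1_c3 LD2_c51 LD3_c5)) :=
  Lre_b IH (LK LD1_c1 LD2_c52 LD3_c24) (LK LD1_c3 LD2_c51 LD3_c5) Lrfl Lrfl
theorem f102620 : Led Lsl_gt (LP (LK LD1_c13 LD2_c7 LD3_c55)) = (LP (LK LD1_c6 LD2_c54 LD3_c42)) :=
  Lre_g IH (LK LD1_c13 LD2_c7 LD3_c55) (LK LD1_c6 LD2_c54 LD3_c42) Lrfl Lrfl
theorem f476391 : Led Lsl_bf (LP (LK LD1_c13 LD2_c7 LD3_c55)) = (LP (LK LD1_c13 LD2_c29 LD3_c61)) :=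
  Lgr Lrot156 (Lpr_gt (f102620 IH) (Lpe (K28.f425127 IH) (Lpe (K28.f425206 IH) (Lpr_gt (K34.f120859 IH) (Lpe (f471187 IH) (Lpr_bt (f471186 IH) (Lpr_gt (f471196 IH) (Lpr_ct (f471220 IH) (Lpr_gt (f476389 IH) (Lpr_cf (f470640 IH) (Lpn (LP (LK LD1_c13 LD2_c29 LD3_c61)))))))))))))
theorem f470959 : Led Lsl_ft (LP (LK LD1_c14 LD2_c21 LD3_c51)) = (LP (LK LD1_c7 LD2_c39 LD3_c24)) :=
  Lgr Lrot75 (Lpe (K34.f470958 IH) (Lpr_ff (K29.f470954 IH) (Lpe (K28.f203778 IH) (Lpn (LP (LK LD1_c7 LD2_c39 LD3_c24))))))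
theorem f470969 : Led Lsl_gt (LP (LK LD1_c14 LD2_c21 LD3_c51)) = (LP (LK LD1_c13 LD2_c7 LD3_c55)) :=
  Lgr Lrot5 (Lpr_ft (f470959 IH) (Lpr_at (K28.f425170 IH) (Lpe (f102620 IH) (Lpn (LP (LK LD1_c13 LD2_c7 LD3_c55))))))
theorem f425507 : Led Lsl_gt (LP (LK LD1_c7 LD2_c7 LD3_c53)) = (LP (LK LD1_c13 LD2_c30 LD3_c25)) :=
  Lre_g IH (LK LD1_c7 LD2_c7 LD3_c53) (LK LD1_c13 LD2_c30 LD3_c25) Lrfl Lrfl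
theorem f96860 : Led Lsl_ct (LP (LK LD1_c13 LD2_c30 LD3_c27)) = (LP (LK LD1_c7 LD2_c7 LD3_c53)) :=
  Lre_c IH (LK LD1_c13 LD2_c30 LD3_c27) (LK LD1_c7 LD2_c7 LD3_c53) Lrfl Lrfl
theorem f564565 : Led Lsl_gt (LP (LK LD1_c14 LD2_c19 LD3_c35)) = (LP (LK LD1_c13 LD2_c30 LD3_c27)) :=
  Lgr Lrot82 (Lpe (f145195 IH) (Lpr_ct (K36.f145209 IH) (Lpr_gf (f564559 IH) (Lpr_cf (f470640 IH) (Lpe (f476391 IH) (Lpe (f470969 IH) (Lpe (K34.f470958 IH) (Lpr_ct (K29.f470948 IH) (Lpe (f425507 IH) (Lpe (f96860 IH) (Lpn (LP (LK LD1_c13 LD2_c30 LD3_c27)))))))))))))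
theorem f97360 : Led Lsl_ct (LP (LK LD1_c7 LD2_c7 LD3_c53)) = (LP (LK LD1_c13 LD2_c30 LD3_c27)) :=
  Lre_c IH (LK LD1_c7 LD2_c7 LD3_c53) (LK LD1_c13 LD2_c30 LD3_c27) Lrfl Lrfl
theorem f470540 : Led Lsl_gt (LP (LK LD1_c13 LD2_c14 LD3_c32)) = (LP (LK LD1_c6 LD2_c58 LD3_c31)) :=
  Lre_g IH (LK LD1_c13 LD2_c14 LD3_c32) (LK LD1_c6 LD2_c58 LD3_c31) Lrfl Lrfl
theorem f470541 : Led Lsl_gf (LP (LK LD1_c13 LD2_c14 LD3_c32)) = (LP (LK LD1_c7 LD2_c8 LD3_c3)) :=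
  Lgr Lrot47 (Lpr_gt (f470540 IH) (Lpe (K28.f470533 IH) (Lpr_ff (K28.f470531 IH) (Lpn (LP (LK LD1_c7 LD2_c8 LD3_c3))))))
theorem f462561 : Led Lsl_ff (LP (LK LD1_c3 LD2_c42 LD3_c17)) = (LP (LK LD1_c3 LD2_c56 LD3_c7)) :=
  Lgr Lrot30 (Lpr_at (K8.f108132 IH) (Lpr_ft (K28.f462551 IH) (Lpr_at (K28.f462560 IH) (Lpn (LP (LK LD1_c3 LD2_c56 LD3_c7))))))
theorem f462657 : Led Lsl_gf (LP (LK LD1_c7 LD2_c25 LD3_c11)) = (LP (LK LD1_c7 LD2_c53 LD3_c56)) :=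
  Lgr Lrot76 (Lpe (K8.f108132 IH) (Lpr_ff (f462561 IH) (Lpr_gt (K28.f452022 IH) (Lpn (LP (LK LD1_c7 LD2_c53 LD3_c56))))))
theorem f470137 : Led Lsl_et (LP (LK LD1_c14 LD2_c49 LD3_c47)) = (LP (LK LD1_c7 LD2_c54 LD3_c52)) :=
  Lgr Lrot74 (Lpe (K8.f160019 IH) (Lpe (K28.f463119 IH) (Lpr_bf (K35.f470131 IH) (Lpn (LP (LK LD1_c7 LD2_c54 LD3_c52))))))
theorem f470139 : Led Lsl_cf (LP (LK LD1_c13 LD2_c13 LD3_c58)) = (LP (LK LD1_c7 LD2_c54 LD3_c52)) :=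
  Lgr Lrot39 (Lpe (K28.f464989 IH) (Lpe (K29.f11785 IH) (Lpr_et (f470137 IH) (Lpn (LP (LK LD1_c7 LD2_c54 LD3_c52))))))
theorem f463011 : Led Lsl_ff (LP (LK LD1_c3 LD2_c56 LD3_c13)) = (LP (LK LD1_c3 LD2_c54 LD3_c61)) :=
  Lgr Lrot25 (Lpr_bt (K28.f451837 IH) (Lpr_ft (K28.f462943 IH) (Lpr_bt (K28.f121198 IH) (Lpn (LP (LK LD1_c3 LD2_c54 LD3_c61))))))
theorem f121120 : Led Lsl_gt (LP (LK LD1_c3 LD2_c54 LD3_c61)) = (LP (LK LD1_c7 LD2_c51 LD3_c38)) :=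
  Lre_g IH (LK LD1_c3 LD2_c54 LD3_c61) (LK LD1_c7 LD2_c51 LD3_c38) Lrfl Lrfl
theorem f463244 : Led Lsl_gf (LP (LK LD1_c7 LD2_c54 LD3_c6)) = (LP (LK LD1_c7 LD2_c51 LD3_c38)) :=
  Lgr Lrot76 (Lpe (K28.f463118 IH) (Lpr_ff (f463011 IH) (Lpr_gt (f121120 IH) (Lpn (LP (LK LD1_c7 LD2_c51 LD3_c38))))))
theorem f121204 : Led Lsl_bt (LP (LK LD1_c14 LD2_c49 LD3_c33)) = (LP (LK LD1_c7 LD2_c51 LD3_c38)) :=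
  Lre_b IH (LK LD1_c14 LD2_c49 LD3_c33) (LK LD1_c7 LD2_c51 LD3_c38) Lrfl Lrfl
theorem f470544 : Led Lsl_cf (LP (LK LD1_c13 LD2_c14 LD3_c32)) = (LP (LK LD1_c14 LD2_c49 LD3_c33)) :=
  Lgr Lrot163 (Lpr_gf (f470541 IH) (Lpr_cf (K28.f108130 IH) (Lpr_gf (f462657 IH) (Lpr_bf (K39.f462870 IH) (Lpr_ct (K39.f160511 IH) (Lpr_gf (K39.f464983 IH) (Lpr_cf (f470139 IH) (Lpe (K35.f470131 IH) (Lpr_gf (f463244 IH) (Lpe (f121204 IH) (Lpn (LP (LK LD1_c14 LD2_c49 LD3_c33)))))))))))))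
theorem f458178 : Led Lsl_bt (LP (LK LD1_c6 LD2_c57 LD3_c39)) = (LP (LK LD1_c3 LD2_c27 LD3_c44)) :=
  Lre_b IH (LK LD1_c6 LD2_c57 LD3_c39) (LK LD1_c3 LD2_c27 LD3_c44) Lrfl Lrfl
theorem f458179 : Led Lsl_ct (LP (LK LD1_c6 LD2_c57 LD3_c39)) = (LP (LK LD1_c3 LD2_c27 LD3_c47)) :=
  Lre_c IH (LK LD1_c6 LD2_c57 LD3_c39) (LK LD1_c3 LD2_c27 LD3_c47) Lrfl Lrfl
theorem f470551 : Led Lsl_gt (LP (LK LD1_c7 LD2_c51 LD3_c46)) = (LP (LK LD1_c14 LD2_c49 LD3_c33)) :=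
  Lgr Lrot82 (Lpe (K8.f160006 IH) (Lpr_ct (K6.f129498 IH) (Lpr_gf (K28.f465457 IH) (Lpe (f458179 IH) (Lpr_bt (f458178 IH) (Lpe (K24.f457968 IH) (Lpe (K28.f458176 IH) (Lpe (K29.f470525 IH) (Lpe (f470540 IH) (Lpr_cf (f470544 IH) (Lpn (LP (LK LD1_c14 LD2_c49 LD3_c33)))))))))))))
theorem f470553 : Led Lsl_gf (LP (LK LD1_c7 LD2_c51 LD3_c50)) = (LP (LK LD1_c14 LD2_c49 LD3_c33)) :=
  Lgr Lrot76 (Lpe (K8.f11717 IH) (Lpe (K8.f11718 IH) (Lpr_gt (f470551 IH) (Lpn (LP (LK LD1_c14 LD2_c49 LD3_c33))))))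
theorem f470548 : Led Lsl_ct (LP (LK LD1_c13 LD2_c14 LD3_c32)) = (LP (LK LD1_c14 LD2_c49 LD3_c33)) :=
  Lgr Lrot59 (Lpr_cf (f470544 IH) (Lpn (LP (LK LD1_c14 LD2_c49 LD3_c33))))
theorem f96853 : Led Lsl_bt (LP (LK LD1_c1 LD2_c43 LD3_c30)) = (LP (LK LD1_c3 LD2_c33 LD3_c31)) :=
  Lre_b IH (LK LD1_c1 LD2_c43 LD3_c30) (LK LD1_c3 LD2_c33 LD3_c31) Lrfl Lrfl
theorem f96859 : Led Lsl_gt (LP (LK LD1_c3 LD2_c33 LD3_c31)) = (LP (LK LD1_c7 LD2_c7 LD3_c53)) :=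
  Lre_g IH (LK LD1_c3 LD2_c33 LD3_c31) (LK LD1_c7 LD2_c7 LD3_c53) Lrfl Lrfl
theorem f470918 : Led Lsl_bt (LP (LK LD1_c13 LD2_c14 LD3_c32)) = (LP (LK LD1_c7 LD2_c7 LD3_c53)) :=
  Lgr Lrot92 (Lpr_ct (f470548 IH) (Lpe (f470553 IH) (Lpr_cf (K8.f11699 IH) (Lpr_bt (K28.f11685 IH) (Lpe (K28.f160452 IH) (Lpe (f465235 IH) (Lpr_gt (K29.f470912 IH) (Lpr_cf (K3.f97329 IH) (Lpr_bt (f96853 IH) (Lpr_gt (f96859 IH) (Lpn (LP (LK LD1_c7 LD2_c7 LD3_c53)))))))))))))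
theorem f470992 : Led Lsl_bf (LP (LK LD1_c13 LD2_c14 LD3_c32)) = (LP (LK LD1_c7 LD2_c7 LD3_c53)) :=
  Lgr Lrot24 (Lpr_bt (f470918 IH) (Lpn (LP (LK LD1_c7 LD2_c7 LD3_c53))))
theorem f470363 : Led Lsl_cf (LP (LK LD1_c7 LD2_c53 LD3_c56)) = (LP (LK LD1_c7 LD2_c7 LD3_c3)) :=
  Lgr Lrot11 (Lpr_ct (K28.f470358 IH) (Lpn (LP (LK LD1_c7 LD2_c7 LD3_c3))))
theorem f470360 : Led Lsl_bt (LP (LK LD1_c7 LD2_c7 LD3_c3)) = (LP (LK LD1_c13 LD2_c29 LD3_c16)) :=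
  Lre_b IH (LK LD1_c7 LD2_c7 LD3_c3) (LK LD1_c13 LD2_c29 LD3_c16) Lrfl Lrfl
theorem f564569 : Led Lsl_gf (LP (LK LD1_c13 LD2_c27 LD3_c53)) = (LP (LK LD1_c13 LD2_c29 LD3_c16)) :=
  Lgr Lrot124 (Lpr_bf (K36.f96545 IH) (Lpr_ct (K36.f145187 IH) (Lpr_gt (f564565 IH) (Lpe (f97360 IH) (Lpe (f470992 IH) (Lpr_gt (f470540 IH) (Lpr_ct (K29.f470562 IH) (Lpr_gt (K28.f452022 IH) (Lpr_cf (f470363 IH) (Lpr_bt (f470360 IH) (Lpn (LP (LK LD1_c13 LD2_c29 LD3_c16)))))))))))))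
theorem f96549 : Led Lsl_ct (LP (LK LD1_c13 LD2_c27 LD3_c53)) = (LP (LK LD1_c7 LD2_c6 LD3_c23)) :=
  Lre_c IH (LK LD1_c13 LD2_c27 LD3_c53) (LK LD1_c7 LD2_c6 LD3_c23) Lrfl Lrfl
theorem f455327 : Led Lsl_bt (LP (LK LD1_c6 LD2_c58 LD3_c10)) = (LP (LK LD1_c3 LD2_c27 LD3_c60)) :=
  Lre_b IH (LK LD1_c6 LD2_c58 LD3_c10) (LK LD1_c3 LD2_c27 LD3_c60) Lrfl Lrfl
theorem f455452 : Led Lsl_bt (LP (LK LD1_c1 LD2_c40 LD3_c36)) = (LP (LK LD1_c1 LD2_c40 LD3_c36)) :=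
  Lgr Lrot35 (Lpr_ff (K28.f455237 IH) (Lpr_bf (K28.f455444 IH) (Lpe (K24.f455321 IH) (Lpn (LP (LK LD1_c1 LD2_c40 LD3_c36))))))
theorem f455318 : Led Lsl_bt (LP (LK LD1_c3 LD2_c27 LD3_c60)) = (LP (LK LD1_c6 LD2_c58 LD3_c10)) :=
  Lre_b IH (LK LD1_c3 LD2_c27 LD3_c60) (LK LD1_c6 LD2_c58 LD3_c10) Lrfl Lrfl
theorem f455454 : Led Lsl_cf (LP (LK LD1_c6 LD2_c58 LD3_c10)) = (LP (LK LD1_c6 LD2_c58 LD3_c10)) :=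
  Lgr Lrot97 (Lpr_bt (f455327 IH) (Lpr_ct (K24.f455160 IH) (Lpr_bt (f455452 IH) (Lpr_ct (K29.f455294 IH) (Lpr_bt (f455318 IH) (Lpn (LP (LK LD1_c6 LD2_c58 LD3_c10))))))))
theorem f564573 : Led Lsl_gt (LP (LK LD1_c7 LD2_c6 LD3_c23)) = (LP (LK LD1_c6 LD2_c58 LD3_c10)) :=
  Lgr Lrot149 (Lpe (f96549 IH) (Lpr_gf (f564569 IH) (Lpe (f470360 IH) (Lpe (f470363 IH) (Lpe (K28.f452022 IH) (Lpe (K29.f470562 IH) (Lpr_bt (K29.f455334 IH) (Lpe (K28.f455331 IH) (Lpe (f455327 IH) (Lpe (f455454 IH) (Lpn (LP (LK LD1_c6 LD2_c58 LD3_c10)))))))))))))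
theorem f145213 : Led Lsl_cf (LP (LK LD1_c7 LD2_c42 LD3_c41)) = (LP (LK LD1_c13 LD2_c27 LD3_c52)) :=
  Lgr Lrot11 (Lpr_ct (K36.f145209 IH) (Lpn (LP (LK LD1_c13 LD2_c27 LD3_c52))))
theorem f97932 : Led Lsl_gt (LP (LK LD1_c14 LD2_c32 LD3_c10)) = (LP (LK LD1_c7 LD2_c42 LD3_c41)) :=
  Lre_g IH (LK LD1_c14 LD2_c32 LD3_c10) (LK LD1_c7 LD2_c42 LD3_c41) Lrfl Lrfl
theorem f455400 : Led Lsl_gt (LP (LK LD1_c6 LD2_c58 LD3_c10)) = (LP (LK LD1_c13 LD2_c13 LD3_c60)) :=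
  Lre_g IH (LK LD1_c6 LD2_c58 LD3_c10) (LK LD1_c13 LD2_c13 LD3_c60) Lrfl Lrfl
theorem f455464 : Led Lsl_ct (LP (LK LD1_c22 LD2_c28 LD3_c39)) = (LP (LK LD1_c13 LD2_c13 LD3_c60)) :=
  Lre_c IH (LK LD1_c22 LD2_c28 LD3_c39) (LK LD1_c13 LD2_c13 LD3_c60) Lrfl Lrfl
theorem f465147 : Led Lsl_at (LP (LK LD1_c6 LD2_c58 LD3_c28)) = (LP (LK LD1_c7 LD2_c13 LD3_c60)) :=
  Lgr Lrot67 (Lpe (K29.f446479 IH) (Lpe (K24.f446478 IH) (Lpe (K28.f458629 IH) (Lpr_af (K29.f465142 IH) (Lpe (K29.f465146 IH) (Lpn (LP (LK LD1_c7 LD2_c13 LD3_c60))))))))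
theorem f465218 : Led Lsl_ct (LP (LK LD1_c7 LD2_c13 LD3_c60)) = (LP (LK LD1_c7 LD2_c13 LD3_c60)) :=
  Lgr Lrot111 (Lpe (f465147 IH) (Lpe (K29.f455446 IH) (Lpr_af (K29.f465210 IH) (Lpn (LP (LK LD1_c7 LD2_c13 LD3_c60))))))
theorem f455319 : Led Lsl_ft (LP (LK LD1_c6 LD2_c58 LD3_c10)) = (LP (LK LD1_c6 LD2_c58 LD3_c28)) :=
  Lgr Lrot75 (Lpe (f455318 IH) (Lpr_ff (K24.f455305 IH) (Lpe (K29.f455314 IH) (Lpn (LP (LK LD1_c6 LD2_c58 LD3_c28))))))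
theorem f465226 : Led Lsl_gt (LP (LK LD1_c13 LD2_c13 LD3_c60)) = (LP (LK LD1_c7 LD2_c13 LD3_c60)) :=
  Lgr Lrot46 (Lpe (f455400 IH) (Lpr_ft (f455319 IH) (Lpr_at (f465147 IH) (Lpn (LP (LK LD1_c7 LD2_c13 LD3_c60))))))
theorem f472128 : Led Lsl_bt (LP (LK LD1_c3 LD2_c33 LD3_c9)) = (LP (LK LD1_c7 LD2_c7 LD3_c12)) :=
  Lre_b IH (LK LD1_c3 LD2_c33 LD3_c9) (LK LD1_c7 LD2_c7 LD3_c12) Lrfl Lrfl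
theorem f108594 : Led Lsl_gt (LP (LK LD1_c7 LD2_c7 LD3_c12)) = (LP (LK LD1_c13 LD2_c29 LD3_c26)) :=
  Lre_g IH (LK LD1_c7 LD2_c7 LD3_c12) (LK LD1_c13 LD2_c29 LD3_c26) Lrfl Lrfl
theorem f472129 : Led Lsl_bt (LP (LK LD1_c22 LD2_c28 LD3_c39)) = (LP (LK LD1_c13 LD2_c29 LD3_c26)) :=
  Lgr Lrot92 (Lpr_ct (f455464 IH) (Lpr_gt (f465226 IH) (Lpe (f465218 IH) (Lpr_bt (K29.f465146 IH) (Lpr_gt (K30.f471336 IH) (Lpr_ct (K28.f90071 IH) (Lpr_gt (K29.f12400 IH) (Lpr_cf (K29.f472121 IH) (Lpr_bt (f472128 IH) (Lpr_gt (f108594 IH) (Lpn (LP (LK LD1_c13 LD2_c29 LD3_c26)))))))))))))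
theorem f465375 : Led Lsl_at (LP (LK LD1_c7 LD2_c13 LD3_c54)) = (LP (LK LD1_c13 LD2_c41 LD3_c8)) :=
  Lre_a IH (LK LD1_c7 LD2_c13 LD3_c54) (LK LD1_c13 LD2_c41 LD3_c8) Lrfl Lrfl
theorem f530616 : Led Lsl_gf (LP (LK LD1_c13 LD2_c41 LD3_c8)) = (LP (LK LD1_c13 LD2_c29 LD3_c26)) :=
  Lgr Lrot76 (Lpe (f465375 IH) (Lpr_ff (f530606 IH) (Lpr_gt (f108594 IH) (Lpn (LP (LK LD1_c13 LD2_c29 LD3_c26))))))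
theorem f96583 : Led Lsl_gt (LP (LK LD1_c7 LD2_c39 LD3_c26)) = (LP (LK LD1_c3 LD2_c49 LD3_c19)) :=
  Lre_g IH (LK LD1_c7 LD2_c39 LD3_c26) (LK LD1_c3 LD2_c49 LD3_c19) Lrfl Lrfl
theorem f530619 : Led Lsl_ct (LP (LK LD1_c13 LD2_c41 LD3_c8)) = (LP (LK LD1_c7 LD2_c39 LD3_c26)) :=
  Lgr Lrot91 (Lpr_gf (f530616 IH) (Lpe (f472129 IH) (Lpr_ct (f455464 IH) (Lpe (f455400 IH) (Lpr_cf (f455454 IH) (Lpr_bt (f455327 IH) (Lpe (K29.f464196 IH) (Lpe (K8.f17491 IH) (Lpr_ct (K28.f96568 IH) (Lpe (f96583 IH) (Lpn (LP (LK LD1_c7 LD2_c39 LD3_c26)))))))))))))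
theorem f162810 : Led Lsl_at (LP (LK LD1_c7 LD2_c21 LD3_c3)) = (LP (LK LD1_c13 LD2_c53 LD3_c54)) :=
  Lre_a IH (LK LD1_c7 LD2_c21 LD3_c3) (LK LD1_c13 LD2_c53 LD3_c54) Lrfl Lrfl
theorem f425153 : Led Lsl_at (LP (LK LD1_c7 LD2_c34 LD3_c50)) = (LP (LK LD1_c3 LD2_c49 LD3_c19)) :=
  Lgr Lrot67 (Lpr_bf (K8.f162798 IH) (Lpe (f162810 IH) (Lpe (K35.f162811 IH) (Lpr_af (K28.f425149 IH) (Lpr_bf (K28.f96588 IH) (Lpn (LP (LK LD1_c3 LD2_c49 LD3_c19))))))))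
theorem f472184 : Led Lsl_gf (LP (LK LD1_c7 LD2_c39 LD3_c26)) = (LP (LK LD1_c14 LD2_c10 LD3_c41)) :=
  Lgr Lrot47 (Lpr_gt (f96583 IH) (Lpe (f425153 IH) (Lpr_ff (K35.f472173 IH) (Lpn (LP (LK LD1_c14 LD2_c10 LD3_c41))))))
theorem f108050 : Led Lsl_bt (LP (LK LD1_c13 LD2_c30 LD3_c50)) = (LP (LK LD1_c7 LD2_c8 LD3_c4)) :=
  Lre_b IH (LK LD1_c13 LD2_c30 LD3_c50) (LK LD1_c7 LD2_c8 LD3_c4) Lrfl Lrfl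
theorem f460287 : Led Lsl_gt (LP (LK LD1_c7 LD2_c47 LD3_c10)) = (LP (LK LD1_c3 LD2_c52 LD3_c45)) :=
  Lre_g IH (LK LD1_c7 LD2_c47 LD3_c10) (LK LD1_c3 LD2_c52 LD3_c45) Lrfl Lrfl
theorem f476174 : Led Lsl_cf (LP (LK LD1_c7 LD2_c47 LD3_c10)) = (LP (LK LD1_c13 LD2_c30 LD3_c50)) :=
  Lgr Lrot160 (Lpr_gt (f460287 IH) (Lpe (K34.f463809 IH) (Lpr_bt (K34.f463753 IH) (Lpr_gt (K29.f463771 IH) (Lpr_ct (K34.f475102 IH) (Lpe (K29.f473567 IH) (Lpe (K8.f108032 IH) (Lpr_bt (K8.f108029 IH) (Lpr_gt (K39.f108039 IH) (Lpe (f108050 IH) (Lpn (LP (LK LD1_c13 LD2_c30 LD3_c50)))))))))))))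
theorem f460376 : Led Lsl_gt (LP (LK LD1_c13 LD2_c29 LD3_c59)) = (LP (LK LD1_c7 LD2_c47 LD3_c10)) :=
  Lgr Lrot5 (Lpr_ft (K35.f460291 IH) (Lpr_at (K28.f460290 IH) (Lpe (f460287 IH) (Lpn (LP (LK LD1_c7 LD2_c47 LD3_c10))))))
theorem f455361 : Led Lsl_gt (LP (LK LD1_c6 LD2_c58 LD3_c26)) = (LP (LK LD1_c13 LD2_c14 LD3_c22)) :=
  Lre_g IH (LK LD1_c6 LD2_c58 LD3_c26) (LK LD1_c13 LD2_c14 LD3_c22) Lrfl Lrfl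
theorem f463804 : Led Lsl_gt (LP (LK LD1_c13 LD2_c14 LD3_c22)) = (LP (LK LD1_c7 LD2_c7 LD3_c34)) :=
  Lgr Lrot46 (Lpe (f455361 IH) (Lpr_ft (K28.f463792 IH) (Lpr_at (K28.f160492 IH) (Lpn (LP (LK LD1_c7 LD2_c7 LD3_c34))))))
theorem f530626 : Led Lsl_bt (LP (LK LD1_c13 LD2_c41 LD3_c8)) = (LP (LK LD1_c13 LD2_c14 LD3_c22)) :=
  Lgr Lrot130 (Lpr_ct (f530619 IH) (Lpr_gf (f472184 IH) (Lpe (K35.f472165 IH) (Lpe (K35.f470555 IH) (Lpr_gf (K39.f488747 IH) (Lpe (f108050 IH) (Lpe (f476174 IH) (Lpe (f460376 IH) (Lpe (K29.f160483 IH) (Lpe (f463804 IH) (Lpn (LP (LK LD1_c13 LD2_c14 LD3_c22)))))))))))))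
theorem f530628 : Led Lsl_bf (LP (LK LD1_c13 LD2_c41 LD3_c8)) = (LP (LK LD1_c13 LD2_c14 LD3_c22)) :=
  Lgr Lrot24 (Lpr_bt (f530626 IH) (Lpn (LP (LK LD1_c13 LD2_c14 LD3_c22))))
theorem f564588 : Led Lsl_cf (LP (LK LD1_c14 LD2_c32 LD3_c10)) = (LP (LK LD1_c13 LD2_c14 LD3_c22)) :=
  Lgr Lrot160 (Lpr_gt (f97932 IH) (Lpr_cf (f145213 IH) (Lpr_bt (K36.f96553 IH) (Lpr_gt (f564573 IH) (Lpe (f455454 IH) (Lpr_gt (f455400 IH) (Lpe (f455464 IH) (Lpr_bt (f472129 IH) (Lpe (f530616 IH) (Lpr_bf (f530628 IH) (Lpn (LP (LK LD1_c13 LD2_c14 LD3_c22)))))))))))))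
theorem f552855 : Led Lsl_dt (LP (LK LD1_c7 LD2_c7 LD3_c34)) = (LP (LK LD1_c5 LD2_c42 LD3_c45)) :=
  Lgr Lrot42 (Lpr_df (K39.f552848 IH) (Lpn (LP (LK LD1_c5 LD2_c42 LD3_c45))))
theorem f172798 : Led Lsl_gt (LP (LK LD1_c5 LD2_c42 LD3_c45)) = (LP (LK LD1_c11 LD2_c15 LD3_c44)) :=
  Lre_g IH (LK LD1_c5 LD2_c42 LD3_c45) (LK LD1_c11 LD2_c15 LD3_c44) Lrfl Lrfl
theorem f411500 : Led Lsl_at (LP (LK LD1_c4 LD2_c23 LD3_c15)) = (LP (LK LD1_c7 LD2_c56 LD3_c22)) :=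
  Lgr Lrot100 (Lpr_af (K39.f270067 IH) (Lpn (LP (LK LD1_c7 LD2_c56 LD3_c22))))
theorem f181385 : Led Lsl_gt (LP (LK LD1_c14 LD2_c58 LD3_c39)) = (LP (LK LD1_c7 LD2_c56 LD3_c22)) :=
  Lre_g IH (LK LD1_c14 LD2_c58 LD3_c39) (LK LD1_c7 LD2_c56 LD3_c22) Lrfl Lrfl
theorem f411539 : Led Lsl_gt (LP (LK LD1_c8 LD2_c44 LD3_c14)) = (LP (LK LD1_c14 LD2_c58 LD3_c39)) :=
  Lgr Lrot5 (Lpr_ft (K39.f411516 IH) (Lpr_at (f411500 IH) (Lpe (f181385 IH) (Lpn (LP (LK LD1_c14 LD2_c58 LD3_c39))))))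
theorem f172767 : Led Lsl_bt (LP (LK LD1_c4 LD2_c56 LD3_c60)) = (LP (LK LD1_c5 LD2_c42 LD3_c45)) :=
  Lgr Lrot127 (Lpr_bf (K39.f172760 IH) (Lpn (LP (LK LD1_c5 LD2_c42 LD3_c45))))
theorem f552853 : Led Lsl_dt (LP (LK LD1_c7 LD2_c13 LD3_c32)) = (LP (LK LD1_c4 LD2_c56 LD3_c60)) :=
  Lgr Lrot79 (Lpr_bf (K29.f160488 IH) (Lpr_df (K39.f552848 IH) (Lpe (f172767 IH) (Lpn (LP (LK LD1_c4 LD2_c56 LD3_c60))))))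
theorem f172793 : Led Lsl_ct (LP (LK LD1_c9 LD2_c45 LD3_c6)) = (LP (LK LD1_c4 LD2_c56 LD3_c60)) :=
  Lre_c IH (LK LD1_c9 LD2_c45 LD3_c6) (LK LD1_c4 LD2_c56 LD3_c60) Lrfl Lrfl
theorem f172802 : Led Lsl_gt (LP (LK LD1_c17 LD2_c54 LD3_c40)) = (LP (LK LD1_c9 LD2_c45 LD3_c6)) :=
  Lre_g IH (LK LD1_c17 LD2_c54 LD3_c40) (LK LD1_c9 LD2_c45 LD3_c6) Lrfl Lrfl
theorem f553013 : Led Lsl_ct (LP (LK LD1_c14 LD2_c58 LD3_c39)) = (LP (LK LD1_c17 LD2_c54 LD3_c40)) :=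
  Lgr Lrot186 (Lpe (f411539 IH) (Lpr_dt (K39.f552919 IH) (Lpr_gt (K34.f425431 IH) (Lpe (K34.f471515 IH) (Lpe (K34.f465031 IH) (Lpe (K29.f160478 IH) (Lpr_dt (f552853 IH) (Lpe (f172793 IH) (Lpe (f172802 IH) (Lpn (LP (LK LD1_c17 LD2_c54 LD3_c40))))))))))))
theorem f553009 : Led Lsl_bf (LP (LK LD1_c8 LD2_c44 LD3_c14)) = (LP (LK LD1_c7 LD2_c14 LD3_c26)) :=
  Lgr Lrot93 (Lpr_dt (K39.f552919 IH) (Lpr_bt (K29.f425304 IH) (Lpr_dt (K28.f425337 IH) (Lpn (LP (LK LD1_c7 LD2_c14 LD3_c26))))))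
theorem f425319 : Led Lsl_ct (LP (LK LD1_c7 LD2_c14 LD3_c26)) = (LP (LK LD1_c13 LD2_c42 LD3_c0)) :=
  Lre_c IH (LK LD1_c7 LD2_c14 LD3_c26) (LK LD1_c13 LD2_c42 LD3_c0) Lrfl Lrfl
theorem f425364 : Led Lsl_gt (LP (LK LD1_c7 LD2_c8 LD3_c0)) = (LP (LK LD1_c13 LD2_c30 LD3_c44)) :=
  Lre_g IH (LK LD1_c7 LD2_c8 LD3_c0) (LK LD1_c13 LD2_c30 LD3_c44) Lrfl Lrfl
theorem f425365 : Led Lsl_gf (LP (LK LD1_c13 LD2_c42 LD3_c0)) = (LP (LK LD1_c13 LD2_c30 LD3_c44)) :=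
  Lgr Lrot76 (Lpr_af (K32.f425353 IH) (Lpe (K32.f425361 IH) (Lpr_gt (f425364 IH) (Lpn (LP (LK LD1_c13 LD2_c30 LD3_c44))))))
theorem f96775 : Led Lsl_gt (LP (LK LD1_c3 LD2_c36 LD3_c51)) = (LP (LK LD1_c7 LD2_c13 LD3_c56)) :=
  Lre_g IH (LK LD1_c3 LD2_c36 LD3_c51) (LK LD1_c7 LD2_c13 LD3_c56) Lrfl Lrfl
theorem f425330 : Led Lsl_ct (LP (LK LD1_c13 LD2_c42 LD3_c0)) = (LP (LK LD1_c7 LD2_c14 LD3_c26)) :=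
  Lre_c IH (LK LD1_c13 LD2_c42 LD3_c0) (LK LD1_c7 LD2_c14 LD3_c26) Lrfl Lrfl
theorem f471975 : Led Lsl_ct (LP (LK LD1_c7 LD2_c13 LD3_c56)) = (LP (LK LD1_c13 LD2_c30 LD3_c44)) :=
  Lgr Lrot152 (Lpe (f96775 IH) (Lpe (K28.f96774 IH) (Lpr_gt (K28.f17401 IH) (Lpr_ct (K34.f471935 IH) (Lpe (K34.f425236 IH) (Lpe (K29.f425309 IH) (Lpe (K29.f425311 IH) (Lpe (f425330 IH) (Lpr_gf (f425365 IH) (Lpn (LP (LK LD1_c13 LD2_c30 LD3_c44))))))))))))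
theorem f172769 : Led Lsl_ct (LP (LK LD1_c4 LD2_c56 LD3_c60)) = (LP (LK LD1_c9 LD2_c45 LD3_c6)) :=
  Lre_c IH (LK LD1_c4 LD2_c56 LD3_c60) (LK LD1_c9 LD2_c45 LD3_c6) Lrfl Lrfl
theorem f553024 : Led Lsl_bt (LP (LK LD1_c7 LD2_c13 LD3_c56)) = (LP (LK LD1_c11 LD2_c15 LD3_c44)) :=
  Lgr Lrot92 (Lpr_ct (f471975 IH) (Lpe (f425365 IH) (Lpe (f425319 IH) (Lpe (f553009 IH) (Lpr_gt (f411539 IH) (Lpr_ct (f553013 IH) (Lpr_gt (f172802 IH) (Lpe (f172769 IH) (Lpr_bt (f172767 IH) (Lpr_gt (f172798 IH) (Lpn (LP (LK LD1_c11 LD2_c15 LD3_c44)))))))))))))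
theorem f481475 : Led Lsl_gt (LP (LK LD1_c3 LD2_c39 LD3_c0)) = (LP (LK LD1_c7 LD2_c18 LD3_c27)) :=
  Lre_g IH (LK LD1_c3 LD2_c39 LD3_c0) (LK LD1_c7 LD2_c18 LD3_c27) Lrfl Lrfl
theorem f464896 : Led Lsl_et (LP (LK LD1_c3 LD2_c33 LD3_c12)) = (LP (LK LD1_c3 LD2_c27 LD3_c59)) :=
  Lgr Lrot69 (Lpe (K8.f128203 IH) (Lpe (K8.f96998 IH) (Lpe (K5.f128195 IH) (Lpe (K5.f128176 IH) (Lpr_ff (K28.f464864 IH) (Lpn (LP (LK LD1_c3 LD2_c27 LD3_c59))))))))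
theorem f160222 : Led Lsl_dt (LP (LK LD1_c7 LD2_c7 LD3_c20)) = (LP (LK LD1_c3 LD2_c33 LD3_c12)) :=
  Lre_d IH (LK LD1_c7 LD2_c7 LD3_c20) (LK LD1_c3 LD2_c33 LD3_c12) Lrfl Lrfl
theorem f160223 : Led Lsl_at (LP (LK LD1_c7 LD2_c13 LD3_c59)) = (LP (LK LD1_c7 LD2_c7 LD3_c20)) :=
  Lgr Lrot51 (Lpe (K8.f107973 IH) (Lpr_af (K8.f160209 IH) (Lpe (f160222 IH) (Lpn (LP (LK LD1_c7 LD2_c7 LD3_c20))))))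
theorem f107947 : Led Lsl_ft (LP (LK LD1_c3 LD2_c36 LD3_c51)) = (LP (LK LD1_c7 LD2_c13 LD3_c59)) :=
  Lre_f IH (LK LD1_c3 LD2_c36 LD3_c51) (LK LD1_c7 LD2_c13 LD3_c59) Lrfl Lrfl
theorem f160425 : Led Lsl_gt (LP (LK LD1_c7 LD2_c13 LD3_c56)) = (LP (LK LD1_c7 LD2_c7 LD3_c20)) :=
  Lgr Lrot46 (Lpe (f96775 IH) (Lpr_ft (f107947 IH) (Lpr_at (f160223 IH) (Lpn (LP (LK LD1_c7 LD2_c7 LD3_c20))))))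
theorem f483075 : Led Lsl_dt (LP (LK LD1_c7 LD2_c18 LD3_c27)) = (LP (LK LD1_c7 LD2_c13 LD3_c56)) :=
  Lgr Lrot171 (Lpe (f481475 IH) (Lpe (K30.f483074 IH) (Lpr_dt (K30.f481466 IH) (Lpr_gf (K30.f483068 IH) (Lpr_df (K28.f467982 IH) (Lpr_et (K28.f458610 IH) (Lpr_gf (K28.f458592 IH) (Lpe (f464896 IH) (Lpr_dt (K28.f160246 IH) (Lpe (f160425 IH) (Lpn (LP (LK LD1_c7 LD2_c13 LD3_c56)))))))))))))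
theorem f482974 : Led Lsl_bt (LP (LK LD1_c13 LD2_c49 LD3_c41)) = (LP (LK LD1_c7 LD2_c18 LD3_c27)) :=
  Lre_b IH (LK LD1_c13 LD2_c49 LD3_c41) (LK LD1_c7 LD2_c18 LD3_c27) Lrfl Lrfl
theorem f553031 : Led Lsl_df (LP (LK LD1_c13 LD2_c49 LD3_c41)) = (LP (LK LD1_c11 LD2_c15 LD3_c44)) :=
  Lgr Lrot12 (Lpr_bt (f482974 IH) (Lpr_dt (f483075 IH) (Lpr_bt (f553024 IH) (Lpn (LP (LK LD1_c11 LD2_c15 LD3_c44))))))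
theorem f11571 : Led Lsl_df (LP (LK LD1_c7 LD2_c6 LD3_c12)) = (LP (LK LD1_c7 LD2_c7 LD3_c18)) :=
  Lgr Lrot38 (Lpr_dt (K8.f11555 IH) (Lpn (LP (LK LD1_c7 LD2_c7 LD3_c18))))
theorem f513539 : Led Lsl_af (LP (LK LD1_c7 LD2_c7 LD3_c18)) = (LP (LK LD1_c7 LD2_c13 LD3_c57)) :=
  Lgr Lrot117 (Lpe (f11571 IH) (Lpr_at (K34.f513534 IH) (Lpr_dt (K28.f97036 IH) (Lpn (LP (LK LD1_c7 LD2_c13 LD3_c57))))))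
theorem f160248 : Led Lsl_gt (LP (LK LD1_c3 LD2_c33 LD3_c11)) = (LP (LK LD1_c7 LD2_c7 LD3_c17)) :=
  Lre_g IH (LK LD1_c3 LD2_c33 LD3_c11) (LK LD1_c7 LD2_c7 LD3_c17) Lrfl Lrfl
theorem f160249 : Led Lsl_gf (LP (LK LD1_c7 LD2_c13 LD3_c59)) = (LP (LK LD1_c7 LD2_c7 LD3_c17)) :=
  Lgr Lrot76 (Lpr_af (K30.f160240 IH) (Lpe (K30.f160239 IH) (Lpr_gt (f160248 IH) (Lpn (LP (LK LD1_c7 LD2_c7 LD3_c17))))))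
theorem f513549 : Led Lsl_ft (LP (LK LD1_c7 LD2_c7 LD3_c17)) = (LP (LK LD1_c7 LD2_c13 LD3_c57)) :=
  Lgr Lrot2 (Lpe (f160249 IH) (Lpr_gt (K8.f160227 IH) (Lpr_af (f513539 IH) (Lpn (LP (LK LD1_c7 LD2_c13 LD3_c57))))))
theorem f513558 : Led Lsl_ff (LP (LK LD1_c7 LD2_c7 LD3_c17)) = (LP (LK LD1_c7 LD2_c13 LD3_c57)) :=
  Lgr Lrot3 (Lpr_ft (f513549 IH) (Lpn (LP (LK LD1_c7 LD2_c13 LD3_c57))))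
theorem f513568 : Led Lsl_at (LP (LK LD1_c7 LD2_c7 LD3_c17)) = (LP (LK LD1_c7 LD2_c13 LD3_c56)) :=
  Lgr Lrot26 (Lpr_ff (f513558 IH) (Lpr_gt (K28.f97035 IH) (Lpr_gt (f96775 IH) (Lpn (LP (LK LD1_c7 LD2_c13 LD3_c56))))))
theorem f513543 : Led Lsl_at (LP (LK LD1_c7 LD2_c7 LD3_c18)) = (LP (LK LD1_c7 LD2_c13 LD3_c57)) :=
  Lgr Lrot100 (Lpr_af (f513539 IH) (Lpn (LP (LK LD1_c7 LD2_c13 LD3_c57))))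
theorem f513577 : Led Lsl_ff (LP (LK LD1_c7 LD2_c7 LD3_c18)) = (LP (LK LD1_c7 LD2_c13 LD3_c56)) :=
  Lgr Lrot30 (Lpr_at (f513543 IH) (Lpe (f513558 IH) (Lpr_at (f513568 IH) (Lpn (LP (LK LD1_c7 LD2_c13 LD3_c56))))))
theorem f513584 : Led Lsl_ft (LP (LK LD1_c7 LD2_c7 LD3_c18)) = (LP (LK LD1_c7 LD2_c13 LD3_c56)) :=
  Lgr Lrot48 (Lpr_ff (f513577 IH) (Lpn (LP (LK LD1_c7 LD2_c13 LD3_c56))))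
theorem f483079 : Led Lsl_df (LP (LK LD1_c7 LD2_c18 LD3_c27)) = (LP (LK LD1_c7 LD2_c13 LD3_c56)) :=
  Lgr Lrot38 (Lpr_dt (f483075 IH) (Lpn (LP (LK LD1_c7 LD2_c13 LD3_c56))))
theorem f513588 : Led Lsl_ff (LP (LK LD1_c7 LD2_c6 LD3_c12)) = (LP (LK LD1_c7 LD2_c18 LD3_c27)) :=
  Lgr Lrot19 (Lpr_dt (K8.f11555 IH) (Lpr_ft (f513584 IH) (Lpe (f483079 IH) (Lpn (LP (LK LD1_c7 LD2_c18 LD3_c27))))))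
theorem f11624 : Led Lsl_bt (LP (LK LD1_c7 LD2_c6 LD3_c12)) = (LP (LK LD1_c13 LD2_c27 LD3_c40)) :=
  Lre_b IH (LK LD1_c7 LD2_c6 LD3_c12) (LK LD1_c13 LD2_c27 LD3_c40) Lrfl Lrfl
theorem f513591 : Led Lsl_ft (LP (LK LD1_c13 LD2_c27 LD3_c40)) = (LP (LK LD1_c13 LD2_c49 LD3_c41)) :=
  Lgr Lrot75 (Lpe (f11624 IH) (Lpr_ff (f513588 IH) (Lpe (f482974 IH) (Lpn (LP (LK LD1_c13 LD2_c49 LD3_c41))))))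
theorem f513595 : Led Lsl_ff (LP (LK LD1_c13 LD2_c27 LD3_c40)) = (LP (LK LD1_c13 LD2_c49 LD3_c41)) :=
  Lgr Lrot3 (Lpr_ft (f513591 IH) (Lpn (LP (LK LD1_c13 LD2_c49 LD3_c41))))
theorem f513597 : Led Lsl_ct (LP (LK LD1_c13 LD2_c50 LD3_c1)) = (LP (LK LD1_c13 LD2_c49 LD3_c41)) :=
  Lgr Lrot40 (Lpr_ff (K35.f512958 IH) (Lpr_cf (K34.f488210 IH) (Lpr_ff (f513595 IH) (Lpn (LP (LK LD1_c13 LD2_c49 LD3_c41))))))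
theorem f486024 : Led Lsl_bt (LP (LK LD1_c3 LD2_c51 LD3_c10)) = (LP (LK LD1_c7 LD2_c43 LD3_c42)) :=
  Lre_b IH (LK LD1_c3 LD2_c51 LD3_c10) (LK LD1_c7 LD2_c43 LD3_c42) Lrfl Lrfl
theorem f486026 : Led Lsl_dt (LP (LK LD1_c7 LD2_c43 LD3_c42)) = (LP (LK LD1_c13 LD2_c50 LD3_c1)) :=
  Lgr Lrot79 (Lpe (f486024 IH) (Lpr_df (K34.f486022 IH) (Lpe (K35.f486025 IH) (Lpn (LP (LK LD1_c13 LD2_c50 LD3_c1))))))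
theorem f564596 : Led Lsl_gt (LP (LK LD1_c14 LD2_c32 LD3_c11)) = (LP (LK LD1_c7 LD2_c43 LD3_c42)) :=
  Lgr Lrot49 (Lpe (K36.f145205 IH) (Lpe (f97932 IH) (Lpr_cf (f564588 IH) (Lpr_gt (f463804 IH) (Lpr_dt (f552855 IH) (Lpr_gt (f172798 IH) (Lpe (f553031 IH) (Lpe (f513597 IH) (Lpe (f486026 IH) (Lpn (LP (LK LD1_c7 LD2_c43 LD3_c42))))))))))))
theorem f145221 : Led Lsl_gt (LP (LK LD1_c24 LD2_c14 LD3_c21)) = (LP (LK LD1_c14 LD2_c32 LD3_c11)) :=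
  Lre_g IH (LK LD1_c24 LD2_c14 LD3_c21) (LK LD1_c14 LD2_c32 LD3_c11) Lrfl Lrfl
theorem f564598 : Led Lsl_ft (LP (LK LD1_c24 LD2_c14 LD3_c21)) = (LP (LK LD1_c14 LD2_c34 LD3_c13)) :=
  Lgr Lrot2 (Lpr_gt (f145221 IH) (Lpr_gt (f564596 IH) (Lpe (K35.f486058 IH) (Lpn (LP (LK LD1_c14 LD2_c34 LD3_c13))))))
theorem f14854 : Led Lsl_ct (LP (LK LD1_c14 LD2_c34 LD3_c14)) = (LP (LK LD1_c7 LD2_c43 LD3_c42)) :=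
  Lre_c IH (LK LD1_c14 LD2_c34 LD3_c14) (LK LD1_c7 LD2_c43 LD3_c42) Lrfl Lrfl
theorem f14855 : Led Lsl_dt (LP (LK LD1_c24 LD2_c16 LD3_c50)) = (LP (LK LD1_c14 LD2_c34 LD3_c14)) :=
  Lre_d IH (LK LD1_c24 LD2_c16 LD3_c50) (LK LD1_c14 LD2_c34 LD3_c14) Lrfl Lrfl
theorem f11625 : Led Lsl_bt (LP (LK LD1_c13 LD2_c29 LD3_c38)) = (LP (LK LD1_c7 LD2_c7 LD3_c18)) :=
  Lre_b IH (LK LD1_c13 LD2_c29 LD3_c38) (LK LD1_c7 LD2_c7 LD3_c18) Lrfl Lrfl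
theorem f553036 : Led Lsl_ff (LP (LK LD1_c13 LD2_c29 LD3_c38)) = (LP (LK LD1_c11 LD2_c15 LD3_c44)) :=
  Lgr Lrot25 (Lpr_bt (f11625 IH) (Lpr_ft (f513584 IH) (Lpr_bt (f553024 IH) (Lpn (LP (LK LD1_c11 LD2_c15 LD3_c44))))))
theorem f553046 : Led Lsl_ft (LP (LK LD1_c13 LD2_c29 LD3_c38)) = (LP (LK LD1_c11 LD2_c15 LD3_c44)) :=
  Lgr Lrot48 (Lpr_ff (f553036 IH) (Lpn (LP (LK LD1_c11 LD2_c15 LD3_c44))))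
theorem f97351 : Led Lsl_ct (LP (LK LD1_c7 LD2_c8 LD3_c1)) = (LP (LK LD1_c13 LD2_c30 LD3_c47)) :=
  Lre_c IH (LK LD1_c7 LD2_c8 LD3_c1) (LK LD1_c13 LD2_c30 LD3_c47) Lrfl Lrfl
theorem f11570 : Led Lsl_ct (LP (LK LD1_c7 LD2_c7 LD3_c18)) = (LP (LK LD1_c13 LD2_c29 LD3_c39)) :=
  Lre_c IH (LK LD1_c7 LD2_c7 LD3_c18) (LK LD1_c13 LD2_c29 LD3_c39) Lrfl Lrfl
theorem f425230 : Led Lsl_ct (LP (LK LD1_c7 LD2_c14 LD3_c25)) = (LP (LK LD1_c3 LD2_c37 LD3_c1)) :=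
  Lre_c IH (LK LD1_c7 LD2_c14 LD3_c25) (LK LD1_c3 LD2_c37 LD3_c1) Lrfl Lrfl
theorem f475271 : Led Lsl_gt (LP (LK LD1_c13 LD2_c29 LD3_c39)) = (LP (LK LD1_c7 LD2_c14 LD3_c25)) :=
  Lgr Lrot150 (Lpe (f11570 IH) (Lpe (K8.f160227 IH) (Lpe (K8.f107973 IH) (Lpr_gt (K35.f160211 IH) (Lpr_ct (K35.f475267 IH) (Lpr_gt (K35.f12402 IH) (Lpe (K29.f425434 IH) (Lpe (K30.f425229 IH) (Lpe (f425230 IH) (Lpn (LP (LK LD1_c7 LD2_c14 LD3_c25))))))))))))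
theorem f425369 : Led Lsl_af (LP (LK LD1_c7 LD2_c14 LD3_c25)) = (LP (LK LD1_c7 LD2_c8 LD3_c0)) :=
  Lgr Lrot0 (Lpr_at (K32.f425362 IH) (Lpn (LP (LK LD1_c7 LD2_c8 LD3_c0))))
theorem f425418 : Led Lsl_ft (LP (LK LD1_c13 LD2_c30 LD3_c47)) = (LP (LK LD1_c7 LD2_c8 LD3_c0)) :=
  Lre_f IH (LK LD1_c13 LD2_c30 LD3_c47) (LK LD1_c7 LD2_c8 LD3_c0) Lrfl Lrfl
theorem f475313 : Led Lsl_gf (LP (LK LD1_c13 LD2_c29 LD3_c39)) = (LP (LK LD1_c13 LD2_c30 LD3_c47)) :=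
  Lgr Lrot47 (Lpr_gt (f475271 IH) (Lpr_af (f425369 IH) (Lpe (f425418 IH) (Lpn (LP (LK LD1_c13 LD2_c30 LD3_c47))))))
theorem f493675 : Led Lsl_gt (LP (LK LD1_c13 LD2_c29 LD3_c38)) = (LP (LK LD1_c7 LD2_c7 LD3_c37)) :=
  Lgr Lrot164 (Lpe (K35.f11567 IH) (Lpr_ct (f11570 IH) (Lpr_gf (f475313 IH) (Lpe (f97351 IH) (Lpe (K30.f425423 IH) (Lpr_bf (K33.f493665 IH) (Lpe (K33.f489563 IH) (Lpe (K33.f463787 IH) (Lpe (K28.f440158 IH) (Lpr_bt (K28.f440157 IH) (Lpn (LP (LK LD1_c7 LD2_c7 LD3_c37)))))))))))))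
theorem f89726 : Led Lsl_gt (LP (LK LD1_c7 LD2_c7 LD3_c37)) = (LP (LK LD1_c13 LD2_c30 LD3_c4)) :=
  Lre_g IH (LK LD1_c7 LD2_c7 LD3_c37) (LK LD1_c13 LD2_c30 LD3_c4) Lrfl Lrfl
theorem f553051 : Led Lsl_af (LP (LK LD1_c13 LD2_c30 LD3_c4)) = (LP (LK LD1_c11 LD2_c15 LD3_c44)) :=
  Lgr Lrot31 (Lpe (f89726 IH) (Lpe (f493675 IH) (Lpr_ft (f553046 IH) (Lpn (LP (LK LD1_c11 LD2_c15 LD3_c44))))))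
theorem f553061 : Led Lsl_at (LP (LK LD1_c13 LD2_c30 LD3_c4)) = (LP (LK LD1_c11 LD2_c15 LD3_c44)) :=
  Lgr Lrot100 (Lpr_af (f553051 IH) (Lpn (LP (LK LD1_c11 LD2_c15 LD3_c44))))
theorem f172800 : Led Lsl_gt (LP (LK LD1_c11 LD2_c15 LD3_c45)) = (LP (LK LD1_c5 LD2_c42 LD3_c45)) :=
  Lre_g IH (LK LD1_c11 LD2_c15 LD3_c45) (LK LD1_c5 LD2_c42 LD3_c45) Lrfl Lrfl
theorem f553098 : Led Lsl_ff (LP (LK LD1_c13 LD2_c30 LD3_c4)) = (LP (LK LD1_c11 LD2_c15 LD3_c45)) :=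
  Lgr Lrot52 (Lpr_at (f553061 IH) (Lpe (f172798 IH) (Lpe (f172800 IH) (Lpn (LP (LK LD1_c11 LD2_c15 LD3_c45))))))
theorem f553106 : Led Lsl_ft (LP (LK LD1_c13 LD2_c30 LD3_c4)) = (LP (LK LD1_c11 LD2_c15 LD3_c45)) :=
  Lgr Lrot48 (Lpr_ff (f553098 IH) (Lpn (LP (LK LD1_c11 LD2_c15 LD3_c45))))
theorem f553053 : Led Lsl_ct (LP (LK LD1_c22 LD2_c50 LD3_c55)) = (LP (LK LD1_c13 LD2_c30 LD3_c4)) :=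
  Lre_c IH (LK LD1_c22 LD2_c50 LD3_c55) (LK LD1_c13 LD2_c30 LD3_c4) Lrfl Lrfl
theorem f552861 : Led Lsl_ct (LP (LK LD1_c11 LD2_c15 LD3_c45)) = (LP (LK LD1_c20 LD2_c11 LD3_c18)) :=
  Lre_c IH (LK LD1_c11 LD2_c15 LD3_c45) (LK LD1_c20 LD2_c11 LD3_c18) Lrfl Lrfl
theorem f553113 : Led Lsl_ff (LP (LK LD1_c22 LD2_c50 LD3_c55)) = (LP (LK LD1_c20 LD2_c11 LD3_c18)) :=
  Lgr Lrot23 (Lpr_ct (f553053 IH) (Lpr_ft (f553106 IH) (Lpr_ct (f552861 IH) (Lpn (LP (LK LD1_c20 LD2_c11 LD3_c18))))))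
theorem f465655 : Led Lsl_ct (LP (LK LD1_c13 LD2_c30 LD3_c4)) = (LP (LK LD1_c22 LD2_c50 LD3_c55)) :=
  Lre_c IH (LK LD1_c13 LD2_c30 LD3_c4) (LK LD1_c22 LD2_c50 LD3_c55) Lrfl Lrfl
theorem f553040 : Led Lsl_ct (LP (LK LD1_c20 LD2_c11 LD3_c15)) = (LP (LK LD1_c11 LD2_c15 LD3_c44)) :=
  Lre_c IH (LK LD1_c20 LD2_c11 LD3_c15) (LK LD1_c11 LD2_c15 LD3_c44) Lrfl Lrfl
theorem f553065 : Led Lsl_at (LP (LK LD1_c22 LD2_c50 LD3_c55)) = (LP (LK LD1_c20 LD2_c11 LD3_c15)) :=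
  Lgr Lrot107 (Lpe (f465655 IH) (Lpr_af (f553051 IH) (Lpe (f553040 IH) (Lpn (LP (LK LD1_c20 LD2_c11 LD3_c15))))))
theorem f172803 : Led Lsl_ct (LP (LK LD1_c11 LD2_c15 LD3_c44)) = (LP (LK LD1_c20 LD2_c11 LD3_c15)) :=
  Lre_c IH (LK LD1_c11 LD2_c15 LD3_c44) (LK LD1_c20 LD2_c11 LD3_c15) Lrfl Lrfl
theorem f553043 : Led Lsl_dt (LP (LK LD1_c13 LD2_c49 LD3_c41)) = (LP (LK LD1_c11 LD2_c15 LD3_c44)) :=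
  Lgr Lrot60 (Lpe (f513591 IH) (Lpr_df (K35.f11568 IH) (Lpr_ff (f553036 IH) (Lpn (LP (LK LD1_c11 LD2_c15 LD3_c44))))))
theorem f553125 : Led Lsl_dt (LP (LK LD1_c20 LD2_c11 LD3_c18)) = (LP (LK LD1_c29 LD2_c21 LD3_c6)) :=
  Lre_d IH (LK LD1_c20 LD2_c11 LD3_c18) (LK LD1_c29 LD2_c21 LD3_c6) Lrfl Lrfl
theorem f553126 : Led Lsl_cf (LP (LK LD1_c24 LD2_c16 LD3_c50)) = (LP (LK LD1_c29 LD2_c21 LD3_c6)) :=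
  Lgr Lrot118 (Lpr_dt (f14855 IH) (Lpr_ct (f14854 IH) (Lpr_dt (f486026 IH) (Lpr_ct (f513597 IH) (Lpr_dt (f553043 IH) (Lpr_ct (f172803 IH) (Lpe (f553065 IH) (Lpr_ff (f553113 IH) (Lpr_dt (f553125 IH) (Lpn (LP (LK LD1_c29 LD2_c21 LD3_c6))))))))))))
theorem f553130 : Led Lsl_ct (LP (LK LD1_c24 LD2_c16 LD3_c50)) = (LP (LK LD1_c29 LD2_c21 LD3_c6)) :=
  Lgr Lrot59 (Lpr_cf (f553126 IH) (Lpn (LP (LK LD1_c29 LD2_c21 LD3_c6))))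
theorem f460450 : Led Lsl_dt (LP (LK LD1_c14 LD2_c34 LD3_c14)) = (LP (LK LD1_c24 LD2_c16 LD3_c50)) :=
  Lre_d IH (LK LD1_c14 LD2_c34 LD3_c14) (LK LD1_c24 LD2_c16 LD3_c50) Lrfl Lrfl
theorem f512962 : Led Lsl_ft (LP (LK LD1_c13 LD2_c50 LD3_c1)) = (LP (LK LD1_c13 LD2_c3 LD3_c28)) :=
  Lgr Lrot48 (Lpr_ff (K35.f512958 IH) (Lpn (LP (LK LD1_c13 LD2_c3 LD3_c28))))
theorem f553121 : Led Lsl_dt (LP (LK LD1_c29 LD2_c21 LD3_c6)) = (LP (LK LD1_c20 LD2_c11 LD3_c18)) :=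
  Lre_d IH (LK LD1_c29 LD2_c21 LD3_c6) (LK LD1_c20 LD2_c11 LD3_c18) Lrfl Lrfl
theorem f552852 : Led Lsl_ct (LP (LK LD1_c20 LD2_c11 LD3_c18)) = (LP (LK LD1_c11 LD2_c15 LD3_c45)) :=
  Lre_c IH (LK LD1_c20 LD2_c11 LD3_c18) (LK LD1_c11 LD2_c15 LD3_c45) Lrfl Lrfl
theorem f553138 : Led Lsl_df (LP (LK LD1_c13 LD2_c38 LD3_c52)) = (LP (LK LD1_c11 LD2_c15 LD3_c45)) :=
  Lgr Lrot177 (Lpr_ct (f513489 IH) (Lpe (f91105 IH) (Lpe (f512962 IH) (Lpe (K35.f486037 IH) (Lpr_ct (K29.f460439 IH) (Lpr_dt (f460450 IH) (Lpr_ct (f553130 IH) (Lpr_dt (f553121 IH) (Lpr_ct (f552852 IH) (Lpn (LP (LK LD1_c11 LD2_c15 LD3_c45))))))))))))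
theorem f553142 : Led Lsl_dt (LP (LK LD1_c13 LD2_c38 LD3_c52)) = (LP (LK LD1_c11 LD2_c15 LD3_c45)) :=
  Lgr Lrot42 (Lpr_df (f553138 IH) (Lpn (LP (LK LD1_c11 LD2_c15 LD3_c45))))
theorem f564619 : Led Lsl_dt (LP (LK LD1_c24 LD2_c14 LD3_c21)) = (LP (LK LD1_c22 LD2_c13 LD3_c16)) :=
  Lgr Lrot159 (Lpr_ft (f564598 IH) (Lpr_at (K35.f486058 IH) (Lpe (f14854 IH) (Lpe (f14855 IH) (Lpr_cf (f553126 IH) (Lpe (f553125 IH) (Lpe (f552861 IH) (Lpe (f553142 IH) (Lpr_cf (f513487 IH) (Lpn (LP (LK LD1_c22 LD2_c13 LD3_c16))))))))))))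
theorem f553100 : Led Lsl_at (LP (LK LD1_c13 LD2_c29 LD3_c38)) = (LP (LK LD1_c11 LD2_c15 LD3_c45)) :=
  Lgr Lrot66 (Lpr_ff (f553036 IH) (Lpe (f553061 IH) (Lpr_ff (f553098 IH) (Lpn (LP (LK LD1_c11 LD2_c15 LD3_c45))))))
theorem f97331 : Led Lsl_ct (LP (LK LD1_c3 LD2_c33 LD3_c33)) = (LP (LK LD1_c7 LD2_c8 LD3_c0)) :=
  Lre_c IH (LK LD1_c3 LD2_c33 LD3_c33) (LK LD1_c7 LD2_c8 LD3_c0) Lrfl Lrfl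
theorem f463784 : Led Lsl_bt (LP (LK LD1_c6 LD2_c58 LD3_c27)) = (LP (LK LD1_c13 LD2_c14 LD3_c24)) :=
  Lre_b IH (LK LD1_c6 LD2_c58 LD3_c27) (LK LD1_c13 LD2_c14 LD3_c24) Lrfl Lrfl
theorem f553038 : Led Lsl_gf (LP (LK LD1_c13 LD2_c14 LD3_c24)) = (LP (LK LD1_c11 LD2_c15 LD3_c44)) :=
  Lgr Lrot124 (Lpe (f463784 IH) (Lpr_ct (K28.f463752 IH) (Lpr_gt (K32.f463782 IH) (Lpr_cf (K32.f470791 IH) (Lpe (K29.f470817 IH) (Lpr_gt (K28.f10796 IH) (Lpr_ct (f97331 IH) (Lpr_gt (f425364 IH) (Lpe (f471975 IH) (Lpr_bt (f553024 IH) (Lpn (LP (LK LD1_c11 LD2_c15 LD3_c44)))))))))))))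
theorem f553184 : Led Lsl_gt (LP (LK LD1_c13 LD2_c14 LD3_c24)) = (LP (LK LD1_c11 LD2_c15 LD3_c45)) :=
  Lgr Lrot46 (Lpr_gf (f553038 IH) (Lpe (f553036 IH) (Lpr_at (f553100 IH) (Lpn (LP (LK LD1_c11 LD2_c15 LD3_c45))))))
theorem f463796 : Led Lsl_dt (LP (LK LD1_c6 LD2_c58 LD3_c26)) = (LP (LK LD1_c13 LD2_c14 LD3_c24)) :=
  Lre_d IH (LK LD1_c6 LD2_c58 LD3_c26) (LK LD1_c13 LD2_c14 LD3_c24) Lrfl Lrfl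
theorem f451105 : Led Lsl_bt (LP (LK LD1_c0 LD2_c23 LD3_c53)) = (LP (LK LD1_c0 LD2_c52 LD3_c56)) :=
  Lre_b IH (LK LD1_c0 LD2_c23 LD3_c53) (LK LD1_c0 LD2_c52 LD3_c56) Lrfl Lrfl
theorem f463800 : Led Lsl_cf (LP (LK LD1_c6 LD2_c58 LD3_c26)) = (LP (LK LD1_c3 LD2_c52 LD3_c45)) :=
  Lgr Lrot108 (Lpr_ft (K28.f463792 IH) (Lpr_ct (K29.f460304 IH) (Lpr_ft (K28.f460295 IH) (Lpn (LP (LK LD1_c3 LD2_c52 LD3_c45))))))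
theorem f471964 : Led Lsl_gt (LP (LK LD1_c7 LD2_c13 LD3_c51)) = (LP (LK LD1_c6 LD2_c58 LD3_c26)) :=
  Lgr Lrot65 (Lpr_cf (f471954 IH) (Lpr_bt (f14844 IH) (Lpe (K2.f91751 IH) (Lpe (f451105 IH) (Lpr_ct (K28.f451106 IH) (Lpe (K5.f64989 IH) (Lpe (K24.f87985 IH) (Lpr_gf (K24.f460405 IH) (Lpe (K28.f460275 IH) (Lpe (f463800 IH) (Lpn (LP (LK LD1_c6 LD2_c58 LD3_c26)))))))))))))
theorem f471197 : Led Lsl_dt (LP (LK LD1_c7 LD2_c43 LD3_c28)) = (LP (LK LD1_c14 LD2_c33 LD3_c45)) :=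
  Lre_d IH (LK LD1_c7 LD2_c43 LD3_c28) (LK LD1_c14 LD2_c33 LD3_c45) Lrfl Lrfl
theorem f564623 : Led Lsl_gf (LP (LK LD1_c24 LD2_c14 LD3_c21)) = (LP (LK LD1_c14 LD2_c33 LD3_c45)) :=
  Lgr Lrot143 (Lpr_dt (f564619 IH) (Lpe (f513489 IH) (Lpr_df (f553138 IH) (Lpe (f553184 IH) (Lpe (f463796 IH) (Lpe (f471964 IH) (Lpr_cf (f471954 IH) (Lpr_gt (f471196 IH) (Lpr_dt (f471197 IH) (Lpn (LP (LK LD1_c14 LD2_c33 LD3_c45))))))))))))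
theorem f564614 : Led Lsl_df (LP (LK LD1_c24 LD2_c14 LD3_c21)) = (LP (LK LD1_c22 LD2_c13 LD3_c16)) :=
  Lgr Lrot78 (Lpr_ft (f564598 IH) (Lpr_dt (K35.f486049 IH) (Lpr_ft (K35.f512960 IH) (Lpn (LP (LK LD1_c22 LD2_c13 LD3_c16))))))
theorem f476500 : Led Lsl_gt (LP (LK LD1_c22 LD2_c12 LD3_c36)) = (LP (LK LD1_c13 LD2_c2 LD3_c54)) :=
  Lre_g IH (LK LD1_c22 LD2_c12 LD3_c36) (LK LD1_c13 LD2_c2 LD3_c54) Lrfl Lrfl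
theorem f512706 : Led Lsl_gf (LP (LK LD1_c22 LD2_c12 LD3_c36)) = (LP (LK LD1_c13 LD2_c3 LD3_c26)) :=
  Lgr Lrot47 (Lpr_gt (f476500 IH) (Lpe (f512699 IH) (Lpr_ff (f512700 IH) (Lpn (LP (LK LD1_c13 LD2_c3 LD3_c26))))))
theorem f512006 : Led Lsl_bt (LP (LK LD1_c3 LD2_c30 LD3_c51)) = (LP (LK LD1_c6 LD2_c58 LD3_c54)) :=
  Lgr Lrot127 (Lpr_bf (K33.f512004 IH) (Lpn (LP (LK LD1_c6 LD2_c58 LD3_c54))))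
theorem f473450 : Led Lsl_bt (LP (LK LD1_c6 LD2_c51 LD3_c35)) = (LP (LK LD1_c13 LD2_c2 LD3_c54)) :=
  Lre_b IH (LK LD1_c6 LD2_c51 LD3_c35) (LK LD1_c13 LD2_c2 LD3_c54) Lrfl Lrfl
theorem f513165 : Led Lsl_cf (LP (LK LD1_c7 LD2_c12 LD3_c15)) = (LP (LK LD1_c13 LD2_c2 LD3_c54)) :=
  Lgr Lrot97 (Lpr_bt (K34.f116186 IH) (Lpr_ct (K33.f513161 IH) (Lpr_bt (f512006 IH) (Lpe (K29.f473446 IH) (Lpr_bt (f473450 IH) (Lpn (LP (LK LD1_c13 LD2_c2 LD3_c54))))))))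
theorem f17893 : Led Lsl_dt (LP (LK LD1_c13 LD2_c17 LD3_c26)) = (LP (LK LD1_c7 LD2_c0 LD3_c19)) :=
  Lre_d IH (LK LD1_c13 LD2_c17 LD3_c26) (LK LD1_c7 LD2_c0 LD3_c19) Lrfl Lrfl
theorem f17929 : Led Lsl_ft (LP (LK LD1_c22 LD2_c33 LD3_c10)) = (LP (LK LD1_c30 LD2_c34 LD3_c20)) :=
  Lre_f IH (LK LD1_c22 LD2_c33 LD3_c10) (LK LD1_c30 LD2_c34 LD3_c20) Lrfl Lrfl
theorem f492935 : Led Lsl_ft (LP (LK LD1_c30 LD2_c28 LD3_c30)) = (LP (LK LD1_c30 LD2_c21 LD3_c57)) :=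
  Lgr Lrot4 (Lpr_cf (K37.f492929 IH) (Lpe (f17929 IH) (Lpr_cf (f472726 IH) (Lpn (LP (LK LD1_c30 LD2_c21 LD3_c57))))))
theorem f17862 : Led Lsl_at (LP (LK LD1_c13 LD2_c17 LD3_c26)) = (LP (LK LD1_c22 LD2_c33 LD3_c10)) :=
  Lre_a IH (LK LD1_c13 LD2_c17 LD3_c26) (LK LD1_c22 LD2_c33 LD3_c10) Lrfl Lrfl
theorem f472724 : Led Lsl_af (LP (LK LD1_c22 LD2_c33 LD3_c18)) = (LP (LK LD1_c30 LD2_c21 LD3_c57)) :=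
  Lgr Lrot68 (Lpr_ct (f17895 IH) (Lpr_at (f17862 IH) (Lpr_ct (f472711 IH) (Lpn (LP (LK LD1_c30 LD2_c21 LD3_c57))))))
theorem f492953 : Led Lsl_gt (LP (LK LD1_c22 LD2_c24 LD3_c10)) = (LP (LK LD1_c22 LD2_c33 LD3_c18)) :=
  Lgr Lrot46 (Lpe (K37.f90911 IH) (Lpr_ft (f492935 IH) (Lpe (f472724 IH) (Lpn (LP (LK LD1_c22 LD2_c33 LD3_c18))))))
theorem f472510 : Led Lsl_gt (LP (LK LD1_c22 LD2_c24 LD3_c9)) = (LP (LK LD1_c13 LD2_c11 LD3_c26)) :=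
  Lre_g IH (LK LD1_c22 LD2_c24 LD3_c9) (LK LD1_c13 LD2_c11 LD3_c26) Lrfl Lrfl
theorem f513184 : Led Lsl_dt (LP (LK LD1_c22 LD2_c12 LD3_c36)) = (LP (LK LD1_c22 LD2_c24 LD3_c9)) :=
  Lgr Lrot6 (Lpr_gt (f476500 IH) (Lpe (f513165 IH) (Lpr_gt (K34.f513172 IH) (Lpr_ct (K4.f17859 IH) (Lpe (f17893 IH) (Lpe (f17895 IH) (Lpe (f492953 IH) (Lpe (K37.f90910 IH) (Lpe (f472510 IH) (Lpn (LP (LK LD1_c22 LD2_c24 LD3_c9))))))))))))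
theorem f473851 : Led Lsl_dt (LP (LK LD1_c6 LD2_c56 LD3_c50)) = (LP (LK LD1_c13 LD2_c11 LD3_c26)) :=
  Lre_d IH (LK LD1_c6 LD2_c56 LD3_c50) (LK LD1_c13 LD2_c11 LD3_c26) Lrfl Lrfl
theorem f475353 : Led Lsl_et (LP (LK LD1_c6 LD2_c56 LD3_c50)) = (LP (LK LD1_c3 LD2_c27 LD3_c22)) :=
  Lre_e IH (LK LD1_c6 LD2_c56 LD3_c50) (LK LD1_c3 LD2_c27 LD3_c22) Lrfl Lrfl
theorem f564630 : Led Lsl_ef (LP (LK LD1_c6 LD2_c56 LD3_c46)) = (LP (LK LD1_c7 LD2_c43 LD3_c28)) :=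
  Lgr Lrot17 (Lpe (f465274 IH) (Lpe (f475353 IH) (Lpr_dt (f473851 IH) (Lpe (f472510 IH) (Lpe (f513184 IH) (Lpr_gf (f512706 IH) (Lpe (f512703 IH) (Lpe (f564614 IH) (Lpr_gf (f564623 IH) (Lpe (f471197 IH) (Lpn (LP (LK LD1_c7 LD2_c43 LD3_c28)))))))))))))
theorem f564632 : Led Lsl_et (LP (LK LD1_c13 LD2_c11 LD3_c15)) = (LP (LK LD1_c14 LD2_c33 LD3_c44)) :=
  Lgr Lrot158 (Lpe (f473792 IH) (Lpr_ef (f564630 IH) (Lpe (f471971 IH) (Lpn (LP (LK LD1_c14 LD2_c33 LD3_c44))))))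
theorem f136497 : Led Lsl_dt (LP (LK LD1_c14 LD2_c30 LD3_c40)) = (LP (LK LD1_c7 LD2_c41 LD3_c55)) :=
  Lre_d IH (LK LD1_c14 LD2_c30 LD3_c40) (LK LD1_c7 LD2_c41 LD3_c55) Lrfl Lrfl
theorem f502670 : Led Lsl_at (LP (LK LD1_c7 LD2_c41 LD3_c55)) = (LP (LK LD1_c6 LD2_c55 LD3_c56)) :=
  Lgr Lrot51 (Lpe (f136497 IH) (Lpr_af (f502664 IH) (Lpe (f97875 IH) (Lpn (LP (LK LD1_c6 LD2_c55 LD3_c56))))))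
theorem f136467 : Led Lsl_ct (LP (LK LD1_c14 LD2_c30 LD3_c38)) = (LP (LK LD1_c7 LD2_c41 LD3_c55)) :=
  Lre_c IH (LK LD1_c14 LD2_c30 LD3_c38) (LK LD1_c7 LD2_c41 LD3_c55) Lrfl Lrfl
theorem f89705 : Led Lsl_ct (LP (LK LD1_c6 LD2_c55 LD3_c56)) = (LP (LK LD1_c13 LD2_c9 LD3_c50)) :=
  Lre_c IH (LK LD1_c6 LD2_c55 LD3_c56) (LK LD1_c13 LD2_c9 LD3_c50) Lrfl Lrfl
theorem f502673 : Led Lsl_af (LP (LK LD1_c14 LD2_c30 LD3_c38)) = (LP (LK LD1_c13 LD2_c9 LD3_c50)) :=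
  Lgr Lrot68 (Lpr_ct (f136467 IH) (Lpr_at (f502670 IH) (Lpr_ct (f89705 IH) (Lpn (LP (LK LD1_c13 LD2_c9 LD3_c50))))))
theorem f89710 : Led Lsl_bt (LP (LK LD1_c6 LD2_c55 LD3_c56)) = (LP (LK LD1_c13 LD2_c9 LD3_c49)) :=
  Lre_b IH (LK LD1_c6 LD2_c55 LD3_c56) (LK LD1_c13 LD2_c9 LD3_c49) Lrfl Lrfl
theorem f89711 : Led Lsl_ct (LP (LK LD1_c13 LD2_c9 LD3_c50)) = (LP (LK LD1_c6 LD2_c55 LD3_c56)) :=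
  Lre_c IH (LK LD1_c13 LD2_c9 LD3_c50) (LK LD1_c6 LD2_c55 LD3_c56) Lrfl Lrfl
theorem f96917 : Led Lsl_bf (LP (LK LD1_c13 LD2_c9 LD3_c50)) = (LP (LK LD1_c7 LD2_c12 LD3_c57)) :=
  Lgr Lrot90 (Lpr_ct (f89711 IH) (Lpr_bt (f89710 IH) (Lpr_ct (K36.f89706 IH) (Lpr_bt (K36.f96912 IH) (Lpr_ct (K36.f96916 IH) (Lpn (LP (LK LD1_c7 LD2_c12 LD3_c57))))))))
theorem f501645 : Led Lsl_at (LP (LK LD1_c7 LD2_c6 LD3_c23)) = (LP (LK LD1_c7 LD2_c12 LD3_c57)) :=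
  Lgr Lrot100 (Lpr_af (K36.f501643 IH) (Lpn (LP (LK LD1_c7 LD2_c12 LD3_c57))))
theorem f502677 : Led Lsl_at (LP (LK LD1_c13 LD2_c9 LD3_c47)) = (LP (LK LD1_c13 LD2_c27 LD3_c52)) :=
  Lgr Lrot67 (Lpr_bf (f136484 IH) (Lpr_af (f502673 IH) (Lpr_bf (f96917 IH) (Lpe (f501645 IH) (Lpe (K36.f96553 IH) (Lpn (LP (LK LD1_c13 LD2_c27 LD3_c52))))))))
theorem f564561 : Led Lsl_ff (LP (LK LD1_c13 LD2_c9 LD3_c47)) = (LP (LK LD1_c14 LD2_c33 LD3_c44)) :=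
  Lgr Lrot52 (Lpr_at (f502677 IH) (Lpr_gf (f564559 IH) (Lpe (f476389 IH) (Lpn (LP (LK LD1_c14 LD2_c33 LD3_c44))))))
theorem f136495 : Led Lsl_et (LP (LK LD1_c13 LD2_c9 LD3_c47)) = (LP (LK LD1_c6 LD2_c55 LD3_c52)) :=
  Lre_e IH (LK LD1_c13 LD2_c9 LD3_c47) (LK LD1_c6 LD2_c55 LD3_c52) Lrfl Lrfl
theorem f501602 : Led Lsl_ff (LP (LK LD1_c7 LD2_c41 LD3_c53)) = (LP (LK LD1_c6 LD2_c55 LD3_c52)) :=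
  Lgr Lrot23 (Lpr_ct (K6.f66380 IH) (Lpr_ft (K36.f501598 IH) (Lpr_ct (K6.f107306 IH) (Lpn (LP (LK LD1_c6 LD2_c55 LD3_c52))))))
theorem f136496 : Led Lsl_et (LP (LK LD1_c7 LD2_c41 LD3_c53)) = (LP (LK LD1_c14 LD2_c30 LD3_c38)) :=
  Lre_e IH (LK LD1_c7 LD2_c41 LD3_c53) (LK LD1_c14 LD2_c30 LD3_c38) Lrfl Lrfl
theorem f564638 : Led Lsl_ff (LP (LK LD1_c13 LD2_c11 LD3_c15)) = (LP (LK LD1_c14 LD2_c30 LD3_c38)) :=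
  Lgr Lrot72 (Lpr_et (f564632 IH) (Lpe (f564561 IH) (Lpr_et (f136495 IH) (Lpe (f501602 IH) (Lpr_et (f136496 IH) (Lpn (LP (LK LD1_c14 LD2_c30 LD3_c38))))))))
theorem f564642 : Led Lsl_ft (LP (LK LD1_c13 LD2_c11 LD3_c15)) = (LP (LK LD1_c14 LD2_c30 LD3_c38)) :=
  Lgr Lrot48 (Lpr_ff (f564638 IH) (Lpn (LP (LK LD1_c14 LD2_c30 LD3_c38))))
theorem f502675 : Led Lsl_at (LP (LK LD1_c14 LD2_c30 LD3_c38)) = (LP (LK LD1_c13 LD2_c9 LD3_c50)) :=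
  Lgr Lrot100 (Lpr_af (f502673 IH) (Lpn (LP (LK LD1_c13 LD2_c9 LD3_c50))))
theorem f564648 : Led Lsl_gt (LP (LK LD1_c14 LD2_c22 LD3_c49)) = (LP (LK LD1_c13 LD2_c9 LD3_c50)) :=
  Lgr Lrot46 (Lpr_gf (f473793 IH) (Lpr_ft (f564642 IH) (Lpr_at (f502675 IH) (Lpn (LP (LK LD1_c13 LD2_c9 LD3_c50))))))
theorem f471979 : Led Lsl_bf (LP (LK LD1_c14 LD2_c22 LD3_c49)) = (LP (LK LD1_c13 LD2_c41 LD3_c51)) :=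
  Lgr Lrot24 (Lpr_bt (K34.f471977 IH) (Lpn (LP (LK LD1_c13 LD2_c41 LD3_c51))))
theorem f96926 : Led Lsl_ct (LP (LK LD1_c7 LD2_c12 LD3_c57)) = (LP (LK LD1_c13 LD2_c39 LD3_c25)) :=
  Lre_c IH (LK LD1_c7 LD2_c12 LD3_c57) (LK LD1_c13 LD2_c39 LD3_c25) Lrfl Lrfl
theorem f564654 : Led Lsl_gf (LP (LK LD1_c22 LD2_c49 LD3_c33)) = (LP (LK LD1_c13 LD2_c39 LD3_c25)) :=
  Lgr Lrot126 (Lpr_cf (f471716 IH) (Lpr_bt (f455433 IH) (Lpr_gt (K29.f455432 IH) (Lpr_ct (K39.f465025 IH) (Lpr_gt (K34.f464704 IH) (Lpr_cf (K34.f471515 IH) (Lpe (f471979 IH) (Lpr_gt (f564648 IH) (Lpr_bf (f96917 IH) (Lpr_ct (f96926 IH) (Lpn (LP (LK LD1_c13 LD2_c39 LD3_c25)))))))))))))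
theorem f564658 : Led Lsl_gt (LP (LK LD1_c6 LD2_c58 LD3_c28)) = (LP (LK LD1_c7 LD2_c12 LD3_c57)) :=
  Lgr Lrot82 (Lpe (K29.f446479 IH) (Lpr_ct (K24.f446458 IH) (Lpe (K24.f455243 IH) (Lpe (K28.f455406 IH) (Lpr_bt (K35.f455431 IH) (Lpe (K29.f455432 IH) (Lpe (f455433 IH) (Lpe (f471716 IH) (Lpr_gf (f564654 IH) (Lpe (f96926 IH) (Lpn (LP (LK LD1_c7 LD2_c12 LD3_c57)))))))))))))
theorem f455328 : Led Lsl_ff (LP (LK LD1_c6 LD2_c58 LD3_c10)) = (LP (LK LD1_c6 LD2_c58 LD3_c28)) :=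
  Lgr Lrot25 (Lpr_bt (f455327 IH) (Lpr_ft (K28.f455323 IH) (Lpr_bt (K29.f446479 IH) (Lpn (LP (LK LD1_c6 LD2_c58 LD3_c28))))))
theorem f470457 : Led Lsl_at (LP (LK LD1_c6 LD2_c58 LD3_c10)) = (LP (LK LD1_c7 LD2_c7 LD3_c21)) :=
  Lgr Lrot33 (Lpr_ff (f455328 IH) (Lpr_dt (K29.f455342 IH) (Lpr_ct (K29.f455275 IH) (Lpr_dt (K29.f455343 IH) (Lpr_ct (K29.f470448 IH) (Lpr_dt (K29.f470442 IH) (Lpr_ct (K29.f470422 IH) (Lpr_dt (K29.f470430 IH) (Lpr_ct (K29.f470450 IH) (Lpn (LP (LK LD1_c7 LD2_c7 LD3_c21))))))))))))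
theorem f564662 : Led Lsl_gf (LP (LK LD1_c7 LD2_c7 LD3_c21)) = (LP (LK LD1_c7 LD2_c12 LD3_c57)) :=
  Lgr Lrot76 (Lpe (f470457 IH) (Lpr_ff (f455328 IH) (Lpr_gt (f564658 IH) (Lpn (LP (LK LD1_c7 LD2_c12 LD3_c57))))))
theorem f462942 : Led Lsl_bt (LP (LK LD1_c7 LD2_c13 LD3_c34)) = (LP (LK LD1_c13 LD2_c40 LD3_c39)) :=
  Lre_b IH (LK LD1_c7 LD2_c13 LD3_c34) (LK LD1_c13 LD2_c40 LD3_c39) Lrfl Lrfl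
theorem f564668 : Led Lsl_gt (LP (LK LD1_c13 LD2_c40 LD3_c39)) = (LP (LK LD1_c13 LD2_c39 LD3_c25)) :=
  Lgr Lrot82 (Lpe (f462942 IH) (Lpr_ct (K39.f462933 IH) (Lpr_gf (K39.f471158 IH) (Lpe (K29.f425427 IH) (Lpr_bt (K29.f425304 IH) (Lpr_gf (K29.f470833 IH) (Lpe (K29.f470402 IH) (Lpr_ct (K29.f470450 IH) (Lpr_gf (f564662 IH) (Lpe (K36.f96916 IH) (Lpn (LP (LK LD1_c13 LD2_c39 LD3_c25)))))))))))))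
theorem f11826 : Led Lsl_bt (LP (LK LD1_c13 LD2_c29 LD3_c16)) = (LP (LK LD1_c7 LD2_c7 LD3_c3)) :=
  Lre_b IH (LK LD1_c13 LD2_c29 LD3_c16) (LK LD1_c7 LD2_c7 LD3_c3) Lrfl Lrfl
theorem f160517 : Led Lsl_bt (LP (LK LD1_c13 LD2_c40 LD3_c39)) = (LP (LK LD1_c7 LD2_c13 LD3_c34)) :=
  Lre_b IH (LK LD1_c13 LD2_c40 LD3_c39) (LK LD1_c7 LD2_c13 LD3_c34) Lrfl Lrfl
theorem f470361 : Led Lsl_cf (LP (LK LD1_c13 LD2_c40 LD3_c39)) = (LP (LK LD1_c13 LD2_c29 LD3_c16)) :=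
  Lgr Lrot97 (Lpr_bt (f160517 IH) (Lpr_ct (K39.f462933 IH) (Lpe (K39.f462870 IH) (Lpr_ct (K28.f470358 IH) (Lpr_bt (f470360 IH) (Lpn (LP (LK LD1_c13 LD2_c29 LD3_c16))))))))
theorem f470502 : Led Lsl_gt (LP (LK LD1_c22 LD2_c29 LD3_c9)) = (LP (LK LD1_c13 LD2_c40 LD3_c39)) :=
  Lgr Lrot149 (Lpe (f468110 IH) (Lpr_gf (K29.f470500 IH) (Lpe (K29.f160437 IH) (Lpr_ct (K29.f160436 IH) (Lpe (K29.f11677 IH) (Lpe (K8.f11583 IH) (Lpr_bt (K28.f11659 IH) (Lpe (K28.f11760 IH) (Lpe (f11826 IH) (Lpe (f470361 IH) (Lpn (LP (LK LD1_c13 LD2_c40 LD3_c39)))))))))))))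
theorem f564670 : Led Lsl_ft (LP (LK LD1_c22 LD2_c29 LD3_c9)) = (LP (LK LD1_c13 LD2_c27 LD3_c53)) :=
  Lgr Lrot2 (Lpr_gt (f470502 IH) (Lpr_gt (f564668 IH) (Lpe (K36.f501647 IH) (Lpn (LP (LK LD1_c13 LD2_c27 LD3_c53))))))
theorem f564678 : Led Lsl_ff (LP (LK LD1_c22 LD2_c29 LD3_c9)) = (LP (LK LD1_c13 LD2_c27 LD3_c53)) :=
  Lgr Lrot3 (Lpr_ft (f564670 IH) (Lpn (LP (LK LD1_c13 LD2_c27 LD3_c53))))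
theorem f96554 : Led Lsl_et (LP (LK LD1_c7 LD2_c6 LD3_c21)) = (LP (LK LD1_c13 LD2_c27 LD3_c53)) :=
  Lre_e IH (LK LD1_c7 LD2_c6 LD3_c21) (LK LD1_c13 LD2_c27 LD3_c53) Lrfl Lrfl
theorem f472523 : Led Lsl_ct (LP (LK LD1_c13 LD2_c40 LD3_c39)) = (LP (LK LD1_c13 LD2_c29 LD3_c16)) :=
  Lgr Lrot83 (Lpe (f462942 IH) (Lpe (K39.f160511 IH) (Lpe (K39.f462931 IH) (Lpr_cf (f470363 IH) (Lpe (f11826 IH) (Lpn (LP (LK LD1_c13 LD2_c29 LD3_c16))))))))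
def v700 : LQ := Led Lsl_gt (LP (LK LD1_c0 LD2_c49 LD3_c17))
theorem f456835 : Led Lsl_gt (LP (LK LD1_c0 LD2_c49 LD3_c17)) = v700 :=
  Lrfl
theorem f461941 : (LP (LK LD1_c1 LD2_c40 LD3_c36)) = v700 :=
  Lefun (Lecon (Lfl_gf (K28.f455490 IH)) (K28.f461930 IH).symm) (f456835 IH)
theorem f455463 : Led Lsl_ct (LP (LK LD1_c13 LD2_c13 LD3_c60)) = (LP (LK LD1_c22 LD2_c28 LD3_c39)) :=
  Lre_c IH (LK LD1_c13 LD2_c13 LD3_c60) (LK LD1_c22 LD2_c28 LD3_c39) Lrfl Lrfl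
theorem f472530 : Led Lsl_gt (LP (LK LD1_c22 LD2_c28 LD3_c39)) = (LP (LK LD1_c13 LD2_c29 LD3_c16)) :=
  Lgr Lrot149 (Lpe (f455463 IH) (Lpe (f455400 IH) (Lpe (f455318 IH) (Lpr_ct (K24.f455160 IH) (Lpqs (f461941 IH) (Lpe (f456835 IH) (Lpe (K5.f106218 IH) (Lpr_bt (K28.f128167 IH) (Lpe (K39.f160509 IH) (Lpe (f160517 IH) (Lpr_ct (f472523 IH) (Lpn (LP (LK LD1_c13 LD2_c29 LD3_c16))))))))))))))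
theorem f564571 : Led Lsl_ff (LP (LK LD1_c13 LD2_c39 LD3_c25)) = (LP (LK LD1_c22 LD2_c28 LD3_c39)) :=
  Lgr Lrot52 (Lpe (K36.f501661 IH) (Lpr_gf (f564569 IH) (Lpe (f472530 IH) (Lpn (LP (LK LD1_c22 LD2_c28 LD3_c39))))))
theorem f564684 : Led Lsl_et (LP (LK LD1_c22 LD2_c29 LD3_c9)) = (LP (LK LD1_c22 LD2_c28 LD3_c39)) :=
  Lgr Lrot69 (Lpr_ff (f564678 IH) (Lpe (f96554 IH) (Lpr_ff (K36.f501665 IH) (Lpe (K36.f96911 IH) (Lpr_ff (f564571 IH) (Lpn (LP (LK LD1_c22 LD2_c28 LD3_c39))))))))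
theorem f564690 : Led Lsl_ef (LP (LK LD1_c22 LD2_c29 LD3_c9)) = (LP (LK LD1_c22 LD2_c28 LD3_c39)) :=
  Lgr Lrot88 (Lpr_et (f564684 IH) (Lpn (LP (LK LD1_c22 LD2_c28 LD3_c39))))
theorem f501630 : Led Lsl_ft (LP (LK LD1_c7 LD2_c6 LD3_c21)) = (LP (LK LD1_c7 LD2_c12 LD3_c55)) :=
  Lgr Lrot4 (Lpe (K37.f10238 IH) (Lpr_ff (K36.f501628 IH) (Lpe (K3.f10673 IH) (Lpn (LP (LK LD1_c7 LD2_c12 LD3_c55))))))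
theorem f564696 : Led Lsl_ft (LP (LK LD1_c13 LD2_c39 LD3_c25)) = (LP (LK LD1_c22 LD2_c28 LD3_c39)) :=
  Lgr Lrot86 (Lpe (K36.f96931 IH) (Lpe (f501630 IH) (Lpe (K36.f96543 IH) (Lpe (f564670 IH) (Lpr_ef (f564690 IH) (Lpn (LP (LK LD1_c22 LD2_c28 LD3_c39))))))))
theorem f564700 : Led Lsl_ff (LP (LK LD1_c13 LD2_c40 LD3_c24)) = (LP (LK LD1_c13 LD2_c29 LD3_c26)) :=
  Lgr Lrot25 (Lpr_bt (K36.f96912 IH) (Lpr_ft (f564696 IH) (Lpr_bt (f472129 IH) (Lpn (LP (LK LD1_c13 LD2_c29 LD3_c26))))))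
theorem f564712 : Led Lsl_gf (LP (LK LD1_c7 LD2_c39 LD3_c12)) = (LP (LK LD1_c13 LD2_c41 LD3_c8)) :=
  Lgr Lrot76 (Lpe (K36.f501713 IH) (Lpr_ff (f564700 IH) (Lpe (f530616 IH) (Lpn (LP (LK LD1_c13 LD2_c41 LD3_c8))))))
theorem f530624 : Led Lsl_cf (LP (LK LD1_c13 LD2_c41 LD3_c8)) = (LP (LK LD1_c7 LD2_c39 LD3_c26)) :=
  Lgr Lrot11 (Lpr_ct (f530619 IH) (Lpn (LP (LK LD1_c7 LD2_c39 LD3_c26))))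
theorem f472171 : Led Lsl_ef (LP (LK LD1_c7 LD2_c37 LD3_c9)) = (LP (LK LD1_c14 LD2_c10 LD3_c41)) :=
  Lgr Lrot28 (Lpr_ct (K29.f470948 IH) (Lpe (K28.f465612 IH) (Lpr_ct (K35.f472165 IH) (Lpn (LP (LK LD1_c14 LD2_c10 LD3_c41))))))
theorem f476654 : Led Lsl_bt (LP (LK LD1_c13 LD2_c12 LD3_c28)) = (LP (LK LD1_c14 LD2_c10 LD3_c41)) :=
  Lgr Lrot119 (Lpr_ef (K34.f476651 IH) (Lpe (K34.f470958 IH) (Lpr_ef (f472171 IH) (Lpn (LP (LK LD1_c14 LD2_c10 LD3_c41))))))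
theorem f476670 : Led Lsl_ff (LP (LK LD1_c13 LD2_c12 LD3_c28)) = (LP (LK LD1_c13 LD2_c53 LD3_c54)) :=
  Lgr Lrot3 (Lpr_ft (K34.f476660 IH) (Lpn (LP (LK LD1_c13 LD2_c53 LD3_c54))))
theorem f476676 : Led Lsl_ct (LP (LK LD1_c13 LD2_c12 LD3_c28)) = (LP (LK LD1_c7 LD2_c54 LD3_c42)) :=
  Lgr Lrot40 (Lpr_ff (f476670 IH) (Lpe (K8.f160386 IH) (Lpr_ff (K28.f462279 IH) (Lpn (LP (LK LD1_c7 LD2_c54 LD3_c42))))))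
theorem f533071 : Led Lsl_ft (LP (LK LD1_c22 LD2_c11 LD3_c5)) = (LP (LK LD1_c23 LD2_c28 LD3_c12)) :=
  Lgr Lrot4 (Lpr_cf (K4.f108905 IH) (Lpr_ff (K34.f533069 IH) (Lpe (K37.f489376 IH) (Lpn (LP (LK LD1_c23 LD2_c28 LD3_c12))))))
theorem f533975 : Led Lsl_at (LP (LK LD1_c23 LD2_c28 LD3_c12)) = (LP (LK LD1_c22 LD2_c32 LD3_c9)) :=
  Lgr Lrot66 (Lpe (f533071 IH) (Lpe (K24.f108959 IH) (Lpr_ff (K39.f533973 IH) (Lpn (LP (LK LD1_c22 LD2_c32 LD3_c9))))))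
theorem f534087 : Led Lsl_gt (LP (LK LD1_c22 LD2_c11 LD3_c5)) = (LP (LK LD1_c13 LD2_c16 LD3_c39)) :=
  Lgr Lrot5 (Lpr_ft (f533071 IH) (Lpr_at (f533975 IH) (Lpe (K39.f425679 IH) (Lpn (LP (LK LD1_c13 LD2_c16 LD3_c39))))))
theorem f114448 : Led Lsl_dt (LP (LK LD1_c14 LD2_c18 LD3_c57)) = (LP (LK LD1_c23 LD2_c56 LD3_c52)) :=
  Lre_d IH (LK LD1_c14 LD2_c18 LD3_c57) (LK LD1_c23 LD2_c56 LD3_c52) Lrfl Lrfl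
theorem f425678 : Led Lsl_et (LP (LK LD1_c22 LD2_c32 LD3_c11)) = (LP (LK LD1_c13 LD2_c16 LD3_c39)) :=
  Lre_e IH (LK LD1_c22 LD2_c32 LD3_c11) (LK LD1_c13 LD2_c16 LD3_c39) Lrfl Lrfl
theorem f162363 : Led Lsl_et (LP (LK LD1_c6 LD2_c59 LD3_c51)) = (LP (LK LD1_c13 LD2_c16 LD3_c42)) :=
  Lre_e IH (LK LD1_c6 LD2_c59 LD3_c51) (LK LD1_c13 LD2_c16 LD3_c42) Lrfl Lrfl
theorem f18700 : Led Lsl_dt (LP (LK LD1_c13 LD2_c16 LD3_c41)) = (LP (LK LD1_c6 LD2_c59 LD3_c51)) :=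
  Lre_d IH (LK LD1_c13 LD2_c16 LD3_c41) (LK LD1_c6 LD2_c59 LD3_c51) Lrfl Lrfl
theorem f162364 : Led Lsl_et (LP (LK LD1_c22 LD2_c32 LD3_c16)) = (LP (LK LD1_c13 LD2_c16 LD3_c41)) :=
  Lre_e IH (LK LD1_c22 LD2_c32 LD3_c16) (LK LD1_c13 LD2_c16 LD3_c41) Lrfl Lrfl
theorem f162365 : Led Lsl_et (LP (LK LD1_c13 LD2_c7 LD3_c22)) = (LP (LK LD1_c22 LD2_c19 LD3_c17)) :=
  Lre_e IH (LK LD1_c13 LD2_c7 LD3_c22) (LK LD1_c22 LD2_c19 LD3_c17) Lrfl Lrfl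
theorem f162366 : Led Lsl_df (LP (LK LD1_c22 LD2_c32 LD3_c16)) = (LP (LK LD1_c22 LD2_c19 LD3_c17)) :=
  Lgr Lrot70 (Lpr_et (f162364 IH) (Lpr_dt (f18700 IH) (Lpr_et (f162363 IH) (Lpr_dt (K8.f162354 IH) (Lpr_et (f162365 IH) (Lpn (LP (LK LD1_c22 LD2_c19 LD3_c17))))))))
theorem f425661 : Led Lsl_dt (LP (LK LD1_c22 LD2_c32 LD3_c16)) = (LP (LK LD1_c22 LD2_c19 LD3_c17)) :=
  Lgr Lrot42 (Lpr_df (f162366 IH) (Lpn (LP (LK LD1_c22 LD2_c19 LD3_c17))))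
theorem f425663 : Led Lsl_bt (LP (LK LD1_c30 LD2_c33 LD3_c58)) = (LP (LK LD1_c22 LD2_c32 LD3_c16)) :=
  Lre_b IH (LK LD1_c30 LD2_c33 LD3_c58) (LK LD1_c22 LD2_c32 LD3_c16) Lrfl Lrfl
theorem f425664 : Led Lsl_bt (LP (LK LD1_c22 LD2_c19 LD3_c17)) = (LP (LK LD1_c30 LD2_c25 LD3_c28)) :=
  Lre_b IH (LK LD1_c22 LD2_c19 LD3_c17) (LK LD1_c30 LD2_c25 LD3_c28) Lrfl Lrfl
theorem f425665 : Led Lsl_df (LP (LK LD1_c30 LD2_c33 LD3_c58)) = (LP (LK LD1_c30 LD2_c25 LD3_c28)) :=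
  Lgr Lrot12 (Lpr_bt (f425663 IH) (Lpr_dt (f425661 IH) (Lpr_bt (f425664 IH) (Lpn (LP (LK LD1_c30 LD2_c25 LD3_c28))))))
theorem f425668 : Led Lsl_et (LP (LK LD1_c30 LD2_c33 LD3_c58)) = (LP (LK LD1_c22 LD2_c32 LD3_c10)) :=
  Lre_e IH (LK LD1_c30 LD2_c33 LD3_c58) (LK LD1_c22 LD2_c32 LD3_c10) Lrfl Lrfl
theorem f425669 : Led Lsl_dt (LP (LK LD1_c22 LD2_c32 LD3_c10)) = (LP (LK LD1_c13 LD2_c16 LD3_c39)) :=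
  Lre_d IH (LK LD1_c22 LD2_c32 LD3_c10) (LK LD1_c13 LD2_c16 LD3_c39) Lrfl Lrfl
theorem f425670 : Led Lsl_et (LP (LK LD1_c13 LD2_c16 LD3_c39)) = (LP (LK LD1_c22 LD2_c32 LD3_c11)) :=
  Lre_e IH (LK LD1_c13 LD2_c16 LD3_c39) (LK LD1_c22 LD2_c32 LD3_c11) Lrfl Lrfl
theorem f425671 : Led Lsl_et (LP (LK LD1_c22 LD2_c19 LD3_c15)) = (LP (LK LD1_c30 LD2_c25 LD3_c28)) :=
  Lre_e IH (LK LD1_c22 LD2_c19 LD3_c15) (LK LD1_c30 LD2_c25 LD3_c28) Lrfl Lrfl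
theorem f425672 : Led Lsl_dt (LP (LK LD1_c22 LD2_c32 LD3_c11)) = (LP (LK LD1_c22 LD2_c19 LD3_c15)) :=
  Lgr Lrot77 (Lpe (f425670 IH) (Lpe (f425669 IH) (Lpe (f425668 IH) (Lpr_df (f425665 IH) (Lpe (f425671 IH) (Lpn (LP (LK LD1_c22 LD2_c19 LD3_c15))))))))
theorem f534089 : Led Lsl_gf (LP (LK LD1_c23 LD2_c56 LD3_c52)) = (LP (LK LD1_c22 LD2_c19 LD3_c15)) :=
  Lgr Lrot145 (Lpe (f114448 IH) (Lpr_et (K6.f114440 IH) (Lpr_gt (K8.f155642 IH) (Lpr_dt (K8.f129410 IH) (Lpr_gt (K8.f95634 IH) (Lpe (K5.f95626 IH) (Lpr_et (K4.f95627 IH) (Lpr_gt (f534087 IH) (Lpe (f425678 IH) (Lpr_dt (f425672 IH) (Lpn (LP (LK LD1_c22 LD2_c19 LD3_c15)))))))))))))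
theorem f122723 : Led Lsl_dt (LP (LK LD1_c22 LD2_c23 LD3_c6)) = (LP (LK LD1_c13 LD2_c10 LD3_c28)) :=
  Lre_d IH (LK LD1_c22 LD2_c23 LD3_c6) (LK LD1_c13 LD2_c10 LD3_c28) Lrfl Lrfl
theorem f145056 : Led Lsl_af (LP (LK LD1_c22 LD2_c23 LD3_c6)) = (LP (LK LD1_c23 LD2_c56 LD3_c52)) :=
  Lgr Lrot117 (Lpr_dt (f122723 IH) (Lpr_at (K6.f145052 IH) (Lpr_dt (f114448 IH) (Lpn (LP (LK LD1_c23 LD2_c56 LD3_c52))))))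
theorem f145058 : Led Lsl_at (LP (LK LD1_c22 LD2_c23 LD3_c6)) = (LP (LK LD1_c23 LD2_c56 LD3_c52)) :=
  Lgr Lrot100 (Lpr_af (f145056 IH) (Lpn (LP (LK LD1_c23 LD2_c56 LD3_c52))))
theorem f532971 : Led Lsl_ff (LP (LK LD1_c30 LD2_c7 LD3_c28)) = (LP (LK LD1_c31 LD2_c3 LD3_c24)) :=
  Lgr Lrot19 (Lpr_dt (K37.f111287 IH) (Lpr_ft (K34.f532965 IH) (Lpr_dt (K39.f473495 IH) (Lpn (LP (LK LD1_c31 LD2_c3 LD3_c24))))))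
theorem f97694 : Led Lsl_gt (LP (LK LD1_c31 LD2_c12 LD3_c57)) = (LP (LK LD1_c23 LD2_c46 LD3_c29)) :=
  Lre_g IH (LK LD1_c31 LD2_c12 LD3_c57) (LK LD1_c23 LD2_c46 LD3_c29) Lrfl Lrfl
theorem f532973 : Led Lsl_gf (LP (LK LD1_c31 LD2_c12 LD3_c57)) = (LP (LK LD1_c31 LD2_c3 LD3_c24)) :=
  Lgr Lrot47 (Lpr_gt (f97694 IH) (Lpr_af (K34.f111298 IH) (Lpr_ff (f532971 IH) (Lpn (LP (LK LD1_c31 LD2_c3 LD3_c24))))))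
theorem f488326 : Led Lsl_bt (LP (LK LD1_c7 LD2_c49 LD3_c45)) = (LP (LK LD1_c7 LD2_c54 LD3_c51)) :=
  Lgr Lrot127 (Lpr_bf (f488324 IH) (Lpn (LP (LK LD1_c7 LD2_c54 LD3_c51))))
theorem f533778 : Led Lsl_gf (LP (LK LD1_c14 LD2_c46 LD3_c11)) = (LP (LK LD1_c14 LD2_c18 LD3_c57)) :=
  Lgr Lrot126 (Lpe (f95873 IH) (Lpr_bt (f488326 IH) (Lpr_gt (K39.f465018 IH) (Lpe (K28.f464696 IH) (Lpr_gt (K35.f458567 IH) (Lpr_cf (K35.f471437 IH) (Lpr_bt (K35.f471436 IH) (Lpr_gt (K35.f533683 IH) (Lpr_bf (K35.f142492 IH) (Lpe (K6.f114442 IH) (Lpn (LP (LK LD1_c14 LD2_c18 LD3_c57)))))))))))))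
theorem f488337 : Led Lsl_et (LP (LK LD1_c24 LD2_c32 LD3_c25)) = (LP (LK LD1_c14 LD2_c46 LD3_c11)) :=
  Lre_e IH (LK LD1_c24 LD2_c32 LD3_c25) (LK LD1_c14 LD2_c46 LD3_c11) Lrfl Lrfl
theorem f114452 : Led Lsl_et (LP (LK LD1_c7 LD2_c35 LD3_c36)) = (LP (LK LD1_c14 LD2_c18 LD3_c57)) :=
  Lre_e IH (LK LD1_c7 LD2_c35 LD3_c36) (LK LD1_c14 LD2_c18 LD3_c57) Lrfl Lrfl
theorem f93220 : Led Lsl_dt (LP (LK LD1_c14 LD2_c10 LD3_c57)) = (LP (LK LD1_c23 LD2_c46 LD3_c29)) :=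
  Lre_d IH (LK LD1_c14 LD2_c10 LD3_c57) (LK LD1_c23 LD2_c46 LD3_c29) Lrfl Lrfl
theorem f533780 : Led Lsl_dt (LP (LK LD1_c24 LD2_c32 LD3_c25)) = (LP (LK LD1_c31 LD2_c12 LD3_c57)) :=
  Lgr Lrot136 (Lpr_et (f488337 IH) (Lpr_gf (f533778 IH) (Lpe (f114452 IH) (Lpr_dt (K8.f155541 IH) (Lpe (K32.f156695 IH) (Lpr_df (K7.f156685 IH) (Lpr_gf (K24.f116514 IH) (Lpe (K4.f93214 IH) (Lpr_dt (f93220 IH) (Lpe (f97694 IH) (Lpn (LP (LK LD1_c31 LD2_c12 LD3_c57)))))))))))))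
theorem f488335 : Led Lsl_bf (LP (LK LD1_c14 LD2_c46 LD3_c11)) = (LP (LK LD1_c13 LD2_c41 LD3_c32)) :=
  Lgr Lrot24 (Lpr_bt (f488328 IH) (Lpn (LP (LK LD1_c13 LD2_c41 LD3_c32))))
theorem f462755 : Led Lsl_ct (LP (LK LD1_c3 LD2_c27 LD3_c47)) = (LP (LK LD1_c6 LD2_c57 LD3_c39)) :=
  Lre_c IH (LK LD1_c3 LD2_c27 LD3_c47) (LK LD1_c6 LD2_c57 LD3_c39) Lrfl Lrfl
theorem f464635 : Led Lsl_gt (LP (LK LD1_c13 LD2_c13 LD3_c0)) = (LP (LK LD1_c6 LD2_c57 LD3_c39)) :=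
  Lre_g IH (LK LD1_c13 LD2_c13 LD3_c0) (LK LD1_c6 LD2_c57 LD3_c39) Lrfl Lrfl
theorem f459888 : Led Lsl_bt (LP (LK LD1_c1 LD2_c52 LD3_c57)) = (LP (LK LD1_c3 LD2_c52 LD3_c36)) :=
  Lre_b IH (LK LD1_c1 LD2_c52 LD3_c57) (LK LD1_c3 LD2_c52 LD3_c36) Lrfl Lrfl
theorem f458031 : Led Lsl_gt (LP (LK LD1_c3 LD2_c52 LD3_c36)) = (LP (LK LD1_c7 LD2_c47 LD3_c1)) :=
  Lre_g IH (LK LD1_c3 LD2_c52 LD3_c36) (LK LD1_c7 LD2_c47 LD3_c1) Lrfl Lrfl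
theorem f459889 : Led Lsl_bt (LP (LK LD1_c14 LD2_c41 LD3_c11)) = (LP (LK LD1_c7 LD2_c47 LD3_c1)) :=
  Lre_b IH (LK LD1_c14 LD2_c41 LD3_c11) (LK LD1_c7 LD2_c47 LD3_c1) Lrfl Lrfl
theorem f468882 : Led Lsl_ct (LP (LK LD1_c14 LD2_c41 LD3_c11)) = (LP (LK LD1_c13 LD2_c13 LD3_c0)) :=
  Lgr Lrot64 (Lpr_bt (f459889 IH) (Lpe (f458031 IH) (Lpe (f459888 IH) (Lpr_ct (K29.f457984 IH) (Lpr_gf (K29.f459884 IH) (Lpq (K29.f464226 IH) (Lpe (K24.f95136 IH) (Lpr_gf (K28.f468873 IH) (Lpe (K33.f468880 IH) (Lpr_ct (f462755 IH) (Lpe (f464635 IH) (Lpn (LP (LK LD1_c13 LD2_c13 LD3_c0))))))))))))))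
theorem f488351 : Led Lsl_gt (LP (LK LD1_c14 LD2_c46 LD3_c11)) = (LP (LK LD1_c14 LD2_c41 LD3_c11)) :=
  Lgr Lrot82 (Lpr_bf (f488335 IH) (Lpr_ct (f96586 IH) (Lpe (K39.f17489 IH) (Lpr_cf (K28.f96535 IH) (Lpe (K28.f96588 IH) (Lpr_gf (K28.f468873 IH) (Lpe (K33.f468880 IH) (Lpr_ct (f462755 IH) (Lpe (f464635 IH) (Lpe (f468882 IH) (Lpn (LP (LK LD1_c14 LD2_c41 LD3_c11)))))))))))))
theorem f468918 : Led Lsl_dt (LP (LK LD1_c14 LD2_c41 LD3_c11)) = (LP (LK LD1_c24 LD2_c25 LD3_c42)) :=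
  Lre_d IH (LK LD1_c14 LD2_c41 LD3_c11) (LK LD1_c24 LD2_c25 LD3_c42) Lrfl Lrfl
theorem f533985 : Led Lsl_gt (LP (LK LD1_c24 LD2_c25 LD3_c42)) = (LP (LK LD1_c22 LD2_c19 LD3_c15)) :=
  Lgr Lrot139 (Lpe (f468918 IH) (Lpe (f488351 IH) (Lpe (f488337 IH) (Lpr_dt (f533780 IH) (Lpr_gf (f532973 IH) (Lpe (K39.f473495 IH) (Lpr_et (K39.f533979 IH) (Lpe (K39.f425679 IH) (Lpe (f425678 IH) (Lpr_dt (f425672 IH) (Lpn (LP (LK LD1_c22 LD2_c19 LD3_c15)))))))))))))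
theorem f534091 : Led Lsl_ff (LP (LK LD1_c22 LD2_c23 LD3_c6)) = (LP (LK LD1_c24 LD2_c25 LD3_c42)) :=
  Lgr Lrot52 (Lpr_at (f145058 IH) (Lpr_gf (f534089 IH) (Lpe (f533985 IH) (Lpn (LP (LK LD1_c24 LD2_c25 LD3_c42))))))
theorem f534097 : Led Lsl_ft (LP (LK LD1_c22 LD2_c23 LD3_c6)) = (LP (LK LD1_c24 LD2_c25 LD3_c42)) :=
  Lgr Lrot48 (Lpr_ff (f534091 IH) (Lpn (LP (LK LD1_c24 LD2_c25 LD3_c42))))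
theorem f122722 : Led Lsl_dt (LP (LK LD1_c13 LD2_c10 LD3_c28)) = (LP (LK LD1_c22 LD2_c23 LD3_c6)) :=
  Lre_d IH (LK LD1_c13 LD2_c10 LD3_c28) (LK LD1_c22 LD2_c23 LD3_c6) Lrfl Lrfl
theorem f468914 : Led Lsl_dt (LP (LK LD1_c24 LD2_c25 LD3_c42)) = (LP (LK LD1_c14 LD2_c41 LD3_c11)) :=
  Lre_d IH (LK LD1_c24 LD2_c25 LD3_c42) (LK LD1_c14 LD2_c41 LD3_c11) Lrfl Lrfl
theorem f534102 : Led Lsl_ff (LP (LK LD1_c13 LD2_c10 LD3_c28)) = (LP (LK LD1_c14 LD2_c41 LD3_c11)) :=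
  Lgr Lrot19 (Lpr_dt (f122722 IH) (Lpr_ft (f534097 IH) (Lpr_dt (f468914 IH) (Lpn (LP (LK LD1_c14 LD2_c41 LD3_c11))))))
theorem f492810 : Led Lsl_bf (LP (LK LD1_c14 LD2_c2 LD3_c25)) = (LP (LK LD1_c7 LD2_c25 LD3_c55)) :=
  Lgr Lrot24 (Lpr_bt (K34.f492806 IH) (Lpn (LP (LK LD1_c7 LD2_c25 LD3_c55))))
theorem f533676 : Led Lsl_gf (LP (LK LD1_c14 LD2_c2 LD3_c25)) = (LP (LK LD1_c13 LD2_c8 LD3_c47)) :=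
  Lgr Lrot124 (Lpr_bf (f492810 IH) (Lpe (K34.f492812 IH) (Lpe (K34.f492113 IH) (Lpe (K35.f492117 IH) (Lpr_bt (K35.f492966 IH) (Lpr_gt (K35.f470891 IH) (Lpe (K37.f470889 IH) (Lpr_gt (K35.f533670 IH) (Lpe (K34.f142491 IH) (Lpr_bt (K35.f142503 IH) (Lpn (LP (LK LD1_c13 LD2_c8 LD3_c47)))))))))))))
theorem f458106 : Led Lsl_gt (LP (LK LD1_c7 LD2_c46 LD3_c1)) = (LP (LK LD1_c3 LD2_c52 LD3_c6)) :=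
  Lre_g IH (LK LD1_c7 LD2_c46 LD3_c1) (LK LD1_c3 LD2_c52 LD3_c6) Lrfl Lrfl
theorem f492481 : Led Lsl_gt (LP (LK LD1_c6 LD2_c57 LD3_c23)) = (LP (LK LD1_c7 LD2_c46 LD3_c1)) :=
  Lgr Lrot5 (Lpr_ft (K33.f492471 IH) (Lpr_at (K33.f458168 IH) (Lpe (f458106 IH) (Lpn (LP (LK LD1_c7 LD2_c46 LD3_c1))))))
theorem f458064 : Led Lsl_bt (LP (LK LD1_c14 LD2_c38 LD3_c61)) = (LP (LK LD1_c7 LD2_c46 LD3_c1)) :=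
  Lre_b IH (LK LD1_c14 LD2_c38 LD3_c61) (LK LD1_c7 LD2_c46 LD3_c1) Lrfl Lrfl
theorem f457772 : Led Lsl_ct (LP (LK LD1_c14 LD2_c38 LD3_c61)) = (LP (LK LD1_c14 LD2_c41 LD3_c38)) :=
  Lre_c IH (LK LD1_c14 LD2_c38 LD3_c61) (LK LD1_c14 LD2_c41 LD3_c38) Lrfl Lrfl
theorem f457989 : Led Lsl_gt (LP (LK LD1_c1 LD2_c52 LD3_c61)) = (LP (LK LD1_c3 LD2_c52 LD3_c47)) :=
  Lre_g IH (LK LD1_c1 LD2_c52 LD3_c61) (LK LD1_c3 LD2_c52 LD3_c47) Lrfl Lrfl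
theorem f457990 : Led Lsl_ct (LP (LK LD1_c7 LD2_c47 LD3_c16)) = (LP (LK LD1_c3 LD2_c52 LD3_c47)) :=
  Lre_c IH (LK LD1_c7 LD2_c47 LD3_c16) (LK LD1_c3 LD2_c52 LD3_c47) Lrfl Lrfl
theorem f457991 : Led Lsl_bt (LP (LK LD1_c7 LD2_c47 LD3_c16)) = (LP (LK LD1_c14 LD2_c41 LD3_c38)) :=
  Lre_b IH (LK LD1_c7 LD2_c47 LD3_c16) (LK LD1_c14 LD2_c41 LD3_c38) Lrfl Lrfl
theorem f15929 : Led Lsl_ct (LP (LK LD1_c13 LD2_c7 LD3_c19)) = (LP (LK LD1_c6 LD2_c54 LD3_c21)) :=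
  Lre_c IH (LK LD1_c13 LD2_c7 LD3_c19) (LK LD1_c6 LD2_c54 LD3_c21) Lrfl Lrfl
theorem f457992 : Led Lsl_gt (LP (LK LD1_c14 LD2_c41 LD3_c38)) = (LP (LK LD1_c13 LD2_c7 LD3_c19)) :=
  Lgr Lrot82 (Lpe (f457991 IH) (Lpr_ct (f457990 IH) (Lpe (f457989 IH) (Lpe (K34.f457988 IH) (Lpr_bt (K34.f457987 IH) (Lpr_gf (K29.f457980 IH) (Lpe (K0.f15886 IH) (Lpr_ct (K0.f15887 IH) (Lpe (K28.f15925 IH) (Lpe (f15929 IH) (Lpn (LP (LK LD1_c13 LD2_c7 LD3_c19)))))))))))))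
theorem f16698 : Led Lsl_ct (LP (LK LD1_c6 LD2_c54 LD3_c21)) = (LP (LK LD1_c13 LD2_c7 LD3_c19)) :=
  Lre_c IH (LK LD1_c6 LD2_c54 LD3_c21) (LK LD1_c13 LD2_c7 LD3_c19) Lrfl Lrfl
theorem f458063 : Led Lsl_bt (LP (LK LD1_c6 LD2_c54 LD3_c21)) = (LP (LK LD1_c13 LD2_c7 LD3_c18)) :=
  Lre_b IH (LK LD1_c6 LD2_c54 LD3_c21) (LK LD1_c13 LD2_c7 LD3_c18) Lrfl Lrfl
theorem f533678 : Led Lsl_gt (LP (LK LD1_c13 LD2_c7 LD3_c18)) = (LP (LK LD1_c14 LD2_c18 LD3_c57)) :=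
  Lgr Lrot82 (Lpe (f458063 IH) (Lpr_ct (f16698 IH) (Lpe (f457992 IH) (Lpe (f457772 IH) (Lpr_bt (f458064 IH) (Lpe (f492481 IH) (Lpe (K33.f492364 IH) (Lpr_ct (K34.f462814 IH) (Lpr_gf (f533676 IH) (Lpe (K6.f114446 IH) (Lpn (LP (LK LD1_c14 LD2_c18 LD3_c57)))))))))))))
theorem f534108 : Led Lsl_gf (LP (LK LD1_c13 LD2_c7 LD3_c18)) = (LP (LK LD1_c14 LD2_c41 LD3_c11)) :=
  Lgr Lrot47 (Lpr_gt (f533678 IH) (Lpe (K6.f145052 IH) (Lpr_ff (f534102 IH) (Lpn (LP (LK LD1_c14 LD2_c41 LD3_c11))))))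
theorem f489487 : Led Lsl_cf (LP (LK LD1_c13 LD2_c7 LD3_c18)) = (LP (LK LD1_c7 LD2_c49 LD3_c46)) :=
  Lgr Lrot11 (Lpr_ct (K28.f465549 IH) (Lpn (LP (LK LD1_c7 LD2_c49 LD3_c46))))
theorem f468912 : Led Lsl_cf (LP (LK LD1_c14 LD2_c41 LD3_c11)) = (LP (LK LD1_c13 LD2_c13 LD3_c0)) :=
  Lgr Lrot11 (Lpr_ct (f468882 IH) (Lpn (LP (LK LD1_c13 LD2_c13 LD3_c0))))
theorem f475427 : Led Lsl_bt (LP (LK LD1_c13 LD2_c7 LD3_c26)) = (LP (LK LD1_c6 LD2_c56 LD3_c58)) :=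
  Lgr Lrot127 (Lpr_bf (K34.f475423 IH) (Lpn (LP (LK LD1_c6 LD2_c56 LD3_c58))))
theorem f475480 : Led Lsl_gt (LP (LK LD1_c7 LD2_c47 LD3_c1)) = (LP (LK LD1_c6 LD2_c56 LD3_c58)) :=
  Lgr Lrot46 (Lpe (f458031 IH) (Lpr_ft (K34.f475461 IH) (Lpr_at (K34.f457831 IH) (Lpn (LP (LK LD1_c6 LD2_c56 LD3_c58))))))
theorem f492818 : Led Lsl_gt (LP (LK LD1_c14 LD2_c2 LD3_c25)) = (LP (LK LD1_c13 LD2_c13 LD3_c0)) :=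
  Lgr Lrot149 (Lpe (K34.f462814 IH) (Lpr_gf (K34.f492816 IH) (Lpe (K28.f129506 IH) (Lpe (K34.f17420 IH) (Lpe (K35.f475257 IH) (Lpe (K34.f475429 IH) (Lpr_bt (f475427 IH) (Lpe (f475480 IH) (Lpe (f459889 IH) (Lpr_ct (f468882 IH) (Lpn (LP (LK LD1_c13 LD2_c13 LD3_c0)))))))))))))
theorem f459838 : Led Lsl_at (LP (LK LD1_c1 LD2_c52 LD3_c39)) = (LP (LK LD1_c3 LD2_c51 LD3_c52)) :=
  Lre_a IH (LK LD1_c1 LD2_c52 LD3_c39) (LK LD1_c3 LD2_c51 LD3_c52) Lrfl Lrfl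
theorem f533429 : Led Lsl_gf (LP (LK LD1_c3 LD2_c51 LD3_c52)) = (LP (LK LD1_c7 LD2_c35 LD3_c35)) :=
  Lgr Lrot76 (Lpe (f459838 IH) (Lpr_ff (K34.f491787 IH) (Lpr_gt (K34.f533427 IH) (Lpn (LP (LK LD1_c7 LD2_c35 LD3_c35))))))
theorem f144914 : Led Lsl_gt (LP (LK LD1_c14 LD2_c28 LD3_c40)) = (LP (LK LD1_c7 LD2_c40 LD3_c47)) :=
  Lre_g IH (LK LD1_c14 LD2_c28 LD3_c40) (LK LD1_c7 LD2_c40 LD3_c47) Lrfl Lrfl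
theorem f534112 : Led Lsl_bt (LP (LK LD1_c7 LD2_c49 LD3_c46)) = (LP (LK LD1_c14 LD2_c28 LD3_c40)) :=
  Lgr Lrot22 (Lpe (f489487 IH) (Lpr_gf (f534108 IH) (Lpr_cf (f468912 IH) (Lpe (f492818 IH) (Lpr_bf (f492810 IH) (Lpe (K34.f492812 IH) (Lpr_gf (f533429 IH) (Lpe (K34.f116686 IH) (Lpr_bt (K6.f144877 IH) (Lpe (f144914 IH) (Lpn (LP (LK LD1_c14 LD2_c28 LD3_c40)))))))))))))
theorem f471224 : Led Lsl_gt (LP (LK LD1_c14 LD2_c3 LD3_c10)) = (LP (LK LD1_c7 LD2_c26 LD3_c2)) :=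
  Lre_g IH (LK LD1_c14 LD2_c3 LD3_c10) (LK LD1_c7 LD2_c26 LD3_c2) Lrfl Lrfl
theorem f488353 : Led Lsl_bf (LP (LK LD1_c14 LD2_c3 LD3_c10)) = (LP (LK LD1_c13 LD2_c13 LD3_c0)) :=
  Lgr Lrot156 (Lpr_gt (f471224 IH) (Lpe (K29.f471179 IH) (Lpe (f471182 IH) (Lpe (K34.f471919 IH) (Lpr_cf (K5.f95857 IH) (Lpr_bt (K5.f95870 IH) (Lpr_gt (f95872 IH) (Lpr_ct (f95873 IH) (Lpr_gt (f488351 IH) (Lpr_cf (f468912 IH) (Lpn (LP (LK LD1_c13 LD2_c13 LD3_c0)))))))))))))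
theorem f532269 : Led Lsl_ft (LP (LK LD1_c13 LD2_c53 LD3_c14)) = (LP (LK LD1_c14 LD2_c3 LD3_c11)) :=
  Lgr Lrot48 (Lpr_ff (K35.f532264 IH) (Lpn (LP (LK LD1_c14 LD2_c3 LD3_c11))))
theorem f532276 : Led Lsl_gt (LP (LK LD1_c13 LD2_c53 LD3_c14)) = (LP (LK LD1_c14 LD2_c3 LD3_c10)) :=
  Lgr Lrot5 (Lpr_ft (f532269 IH) (Lpr_at (K35.f471232 IH) (Lpe (f471224 IH) (Lpn (LP (LK LD1_c14 LD2_c3 LD3_c10))))))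
theorem f531846 : Led Lsl_at (LP (LK LD1_c3 LD2_c40 LD3_c12)) = (LP (LK LD1_c3 LD2_c42 LD3_c41)) :=
  Lgr Lrot100 (Lpr_af (K34.f531844 IH) (Lpn (LP (LK LD1_c3 LD2_c42 LD3_c41))))
theorem f532093 : Led Lsl_bt (LP (LK LD1_c7 LD2_c21 LD3_c12)) = (LP (LK LD1_c13 LD2_c53 LD3_c14)) :=
  Lgr Lrot62 (Lpr_af (K34.f532089 IH) (Lpe (K34.f470900 IH) (Lpe (f531846 IH) (Lpe (K29.f203933 IH) (Lpe (K35.f471763 IH) (Lpn (LP (LK LD1_c13 LD2_c53 LD3_c14))))))))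
theorem f144943 : Led Lsl_gt (LP (LK LD1_c3 LD2_c49 LD3_c57)) = (LP (LK LD1_c7 LD2_c40 LD3_c49)) :=
  Lre_g IH (LK LD1_c3 LD2_c49 LD3_c57) (LK LD1_c7 LD2_c40 LD3_c49) Lrfl Lrfl
theorem f534121 : Led Lsl_ct (LP (LK LD1_c7 LD2_c21 LD3_c12)) = (LP (LK LD1_c7 LD2_c40 LD3_c49)) :=
  Lgr Lrot63 (Lpr_bt (f532093 IH) (Lpr_gt (f532276 IH) (Lpr_bf (f488353 IH) (Lpe (f468912 IH) (Lpe (f534108 IH) (Lpr_cf (f489487 IH) (Lpr_bt (f534112 IH) (Lpr_gt (f144914 IH) (Lpr_ct (K6.f144907 IH) (Lpr_gt (f144943 IH) (Lpn (LP (LK LD1_c7 LD2_c40 LD3_c49)))))))))))))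
theorem f534127 : Led Lsl_cf (LP (LK LD1_c7 LD2_c21 LD3_c12)) = (LP (LK LD1_c7 LD2_c40 LD3_c49)) :=
  Lgr Lrot11 (Lpr_ct (f534121 IH) (Lpn (LP (LK LD1_c7 LD2_c40 LD3_c49))))
def v2750 : LQ := Led Lsl_at (LP (LK LD1_c1 LD2_c54 LD3_c37))
theorem f531750 : Led Lsl_at (LP (LK LD1_c1 LD2_c54 LD3_c37)) = v2750 :=
  Lrfl
theorem f531752 : Led Lsl_cf K34.v901 = v2750 :=
  Lgr Lrot1 (Lpe (K34.f490366 IH) (Lpr_ct (K29.f452057 IH) (Lpr_at (f531750 IH) (Lpn v2750))))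
theorem f531753 : Led Lsl_ct K34.v901 = v2750 :=
  Lgr Lrot59 (Lpr_cf (f531752 IH) (Lpn v2750))
theorem f531828 : v2750 = (LP (LK LD1_c3 LD2_c55 LD3_c52)) :=
  Lefun (Lecon (f531753 IH) (K34.f531818 IH).symm) (K29.f14919 IH)
theorem f457737 : Led Lsl_at (LP (LK LD1_c7 LD2_c53 LD3_c31)) = (LP (LK LD1_c3 LD2_c55 LD3_c56)) :=
  Lre_a IH (LK LD1_c7 LD2_c53 LD3_c31) (LK LD1_c3 LD2_c55 LD3_c56) Lrfl Lrfl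
theorem f532244 : Led Lsl_bt (LP (LK LD1_c14 LD2_c21 LD3_c47)) = (LP (LK LD1_c7 LD2_c53 LD3_c31)) :=
  Lgr Lrot62 (Lpr_af (K35.f532242 IH) (Lpr_bf (K28.f463725 IH) (Lpq (f531828 IH) (Lpe (f531750 IH) (Lpe (f457723 IH) (Lpe (f457737 IH) (Lpn (LP (LK LD1_c7 LD2_c53 LD3_c31)))))))))
theorem f532404 : Led Lsl_bf (LP (LK LD1_c14 LD2_c21 LD3_c47)) = (LP (LK LD1_c7 LD2_c53 LD3_c31)) :=
  Lgr Lrot24 (Lpr_bt (f532244 IH) (Lpn (LP (LK LD1_c7 LD2_c53 LD3_c31))))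
theorem f457736 : Led Lsl_at (LP (LK LD1_c7 LD2_c30 LD3_c22)) = (LP (LK LD1_c14 LD2_c10 LD3_c31)) :=
  Lre_a IH (LK LD1_c7 LD2_c30 LD3_c22) (LK LD1_c14 LD2_c10 LD3_c31) Lrfl Lrfl
theorem f457738 : Led Lsl_ct (LP (LK LD1_c14 LD2_c10 LD3_c31)) = (LP (LK LD1_c7 LD2_c53 LD3_c31)) :=
  Lgr Lrot111 (Lpe (f457736 IH) (Lpr_cf (f457732 IH) (Lpe (f457737 IH) (Lpn (LP (LK LD1_c7 LD2_c53 LD3_c31))))))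
theorem f534125 : Led Lsl_bf (LP (LK LD1_c14 LD2_c10 LD3_c31)) = (LP (LK LD1_c7 LD2_c40 LD3_c49)) :=
  Lgr Lrot90 (Lpr_ct (f457738 IH) (Lpe (f532404 IH) (Lpr_ct (K35.f532236 IH) (Lpe (K34.f532228 IH) (Lpr_ct (f534121 IH) (Lpn (LP (LK LD1_c7 LD2_c40 LD3_c49))))))))
theorem f564716 : Led Lsl_gt (LP (LK LD1_c7 LD2_c35 LD3_c22)) = (LP (LK LD1_c14 LD2_c10 LD3_c31)) :=
  Lgr Lrot164 (Lpe (f110235 IH) (Lpe (K6.f110236 IH) (Lpr_gf (f564712 IH) (Lpr_cf (f530624 IH) (Lpr_gf (f472184 IH) (Lpe (f476654 IH) (Lpr_ct (f476676 IH) (Lpe (K34.f462389 IH) (Lpr_cf (f534127 IH) (Lpe (f534125 IH) (Lpn (LP (LK LD1_c14 LD2_c10 LD3_c31)))))))))))))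
theorem f457751 : Led Lsl_cf (LP (LK LD1_c14 LD2_c10 LD3_c31)) = (LP (LK LD1_c7 LD2_c53 LD3_c31)) :=
  Lgr Lrot11 (Lpr_ct (f457738 IH) (Lpn (LP (LK LD1_c7 LD2_c53 LD3_c31))))
theorem f458084 : Led Lsl_bt (LP (LK LD1_c0 LD2_c53 LD3_c1)) = (LP (LK LD1_c1 LD2_c52 LD3_c43)) :=
  Lre_b IH (LK LD1_c0 LD2_c53 LD3_c1) (LK LD1_c1 LD2_c52 LD3_c43) Lrfl Lrfl
def v2683 : LQ := Led Lsl_gt (LP (LK LD1_c1 LD2_c52 LD3_c43))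
theorem f530382 : Led Lsl_gt (LP (LK LD1_c1 LD2_c52 LD3_c43)) = v2683 :=
  Lrfl
theorem f564724 : (LP (LK LD1_c3 LD2_c50 LD3_c23)) = v2683 :=
  (Llr Lrot125 (Lpr_ct (K6.f136349 IH) (Lpr_gt (f564716 IH) (Lpr_cf (f457751 IH) (Lpe (f532404 IH) (Lpr_gt (K34.f461112 IH) (Lpe (K28.f460674 IH) (Lpr_ct (K29.f464792 IH) (Lpe (K28.f464814 IH) (Lpe (K28.f14880 IH) (Lpr_bt (f458084 IH) (Lpr_gt (f530382 IH) (Lpn v2683))))))))))))).symm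
theorem f459874 : Led Lsl_at (LP (LK LD1_c3 LD2_c52 LD3_c5)) = (LP (LK LD1_c1 LD2_c52 LD3_c43)) :=
  Lre_a IH (LK LD1_c3 LD2_c52 LD3_c5) (LK LD1_c1 LD2_c52 LD3_c43) Lrfl Lrfl
theorem f492486 : Led Lsl_ff (LP (LK LD1_c3 LD2_c47 LD3_c51)) = (LP (LK LD1_c1 LD2_c52 LD3_c43)) :=
  Lgr Lrot30 (Lpr_at (K34.f457928 IH) (Lpr_ft (K34.f492484 IH) (Lpr_at (f459874 IH) (Lpn (LP (LK LD1_c1 LD2_c52 LD3_c43))))))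
theorem f530383 : Led Lsl_gf (LP (LK LD1_c7 LD2_c36 LD3_c48)) = v2683 :=
  Lgr Lrot76 (Lpe (K34.f457928 IH) (Lpr_ff (f492486 IH) (Lpr_gt (f530382 IH) (Lpn v2683))))
theorem f458169 : Led Lsl_gt (LP (LK LD1_c3 LD2_c52 LD3_c4)) = (LP (LK LD1_c1 LD2_c52 LD3_c43)) :=
  Lre_g IH (LK LD1_c3 LD2_c52 LD3_c4) (LK LD1_c1 LD2_c52 LD3_c43) Lrfl Lrfl
theorem f492492 : Led Lsl_gt (LP (LK LD1_c7 LD2_c36 LD3_c48)) = (LP (LK LD1_c3 LD2_c52 LD3_c4)) :=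
  Lgr Lrot5 (Lpr_ft (K34.f492484 IH) (Lpr_at (f459874 IH) (Lpe (f458169 IH) (Lpn (LP (LK LD1_c3 LD2_c52 LD3_c4))))))
theorem f564731 : Led Lsl_at (LP (LK LD1_c7 LD2_c36 LD3_c47)) = (LP (LK LD1_c3 LD2_c52 LD3_c4)) :=
  Lgr Lrot26 (Lpr_ff (f564443 IH) (Lpqs (f564724 IH) (Lpe (f530383 IH) (Lpr_gt (f492492 IH) (Lpn (LP (LK LD1_c3 LD2_c52 LD3_c4)))))))
theorem f564741 : Led Lsl_ff (LP (LK LD1_c7 LD2_c35 LD3_c23)) = (LP (LK LD1_c3 LD2_c52 LD3_c4)) :=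
  Lgr Lrot30 (Lpe (K36.f501842 IH) (Lpe (f564443 IH) (Lpr_at (f564731 IH) (Lpn (LP (LK LD1_c3 LD2_c52 LD3_c4))))))
theorem f564751 : Led Lsl_ft (LP (LK LD1_c7 LD2_c35 LD3_c23)) = (LP (LK LD1_c3 LD2_c52 LD3_c4)) :=
  Lgr Lrot48 (Lpr_ff (f564741 IH) (Lpn (LP (LK LD1_c3 LD2_c52 LD3_c4))))
theorem f492494 : Led Lsl_dt (LP (LK LD1_c3 LD2_c52 LD3_c4)) = (LP (LK LD1_c7 LD2_c45 LD3_c60)) :=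
  Lre_d IH (LK LD1_c3 LD2_c52 LD3_c4) (LK LD1_c7 LD2_c45 LD3_c60) Lrfl Lrfl
theorem f564755 : Led Lsl_ff (LP (LK LD1_c14 LD2_c18 LD3_c33)) = (LP (LK LD1_c7 LD2_c45 LD3_c60)) :=
  Lgr Lrot19 (Lpr_dt (K36.f136460 IH) (Lpr_ft (f564751 IH) (Lpr_dt (f492494 IH) (Lpn (LP (LK LD1_c7 LD2_c45 LD3_c60))))))
theorem f492972 : Led Lsl_bf (LP (LK LD1_c3 LD2_c52 LD3_c4)) = (LP (LK LD1_c7 LD2_c43 LD3_c28)) :=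
  Lgr Lrot34 (Lpe (f492492 IH) (Lpr_bf (K34.f492488 IH) (Lpr_ct (K34.f492964 IH) (Lpe (K34.f147960 IH) (Lpr_cf (K28.f425196 IH) (Lpe (f102620 IH) (Lpr_bf (f476391 IH) (Lpe (f470640 IH) (Lpe (f476389 IH) (Lpe (f471220 IH) (Lpn (LP (LK LD1_c7 LD2_c43 LD3_c28)))))))))))))
theorem f476388 : Led Lsl_dt (LP (LK LD1_c14 LD2_c33 LD3_c45)) = (LP (LK LD1_c7 LD2_c43 LD3_c28)) :=
  Lre_d IH (LK LD1_c14 LD2_c33 LD3_c45) (LK LD1_c7 LD2_c43 LD3_c28) Lrfl Lrfl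
theorem f492976 : Led Lsl_bt (LP (LK LD1_c7 LD2_c45 LD3_c60)) = (LP (LK LD1_c14 LD2_c33 LD3_c45)) :=
  Lgr Lrot95 (Lpe (f492494 IH) (Lpr_bf (f492972 IH) (Lpe (f476388 IH) (Lpn (LP (LK LD1_c14 LD2_c33 LD3_c45))))))
theorem f492978 : Led Lsl_bf (LP (LK LD1_c7 LD2_c45 LD3_c60)) = (LP (LK LD1_c14 LD2_c33 LD3_c45)) :=
  Lgr Lrot24 (Lpr_bt (f492976 IH) (Lpn (LP (LK LD1_c14 LD2_c33 LD3_c45))))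
theorem f564759 : Led Lsl_ft (LP (LK LD1_c13 LD2_c9 LD3_c48)) = (LP (LK LD1_c14 LD2_c33 LD3_c45)) :=
  Lgr Lrot75 (Lpr_bf (K36.f136487 IH) (Lpr_ff (f564755 IH) (Lpr_bf (f492978 IH) (Lpn (LP (LK LD1_c14 LD2_c33 LD3_c45))))))
theorem f501836 : Led Lsl_at (LP (LK LD1_c14 LD2_c32 LD3_c11)) = (LP (LK LD1_c13 LD2_c9 LD3_c48)) :=
  Lgr Lrot100 (Lpr_af (K36.f501834 IH) (Lpn (LP (LK LD1_c13 LD2_c9 LD3_c48))))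
theorem f145238 : Led Lsl_ft (LP (LK LD1_c24 LD2_c14 LD3_c23)) = (LP (LK LD1_c14 LD2_c32 LD3_c11)) :=
  Lre_f IH (LK LD1_c24 LD2_c14 LD3_c23) (LK LD1_c14 LD2_c32 LD3_c11) Lrfl Lrfl
theorem f564761 : Led Lsl_af (LP (LK LD1_c24 LD2_c14 LD3_c23)) = (LP (LK LD1_c14 LD2_c33 LD3_c45)) :=
  Lgr Lrot45 (Lpr_ft (f145238 IH) (Lpr_at (f501836 IH) (Lpr_ft (f564759 IH) (Lpn (LP (LK LD1_c14 LD2_c33 LD3_c45))))))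
theorem f502695 : Led Lsl_dt (LP (LK LD1_c24 LD2_c14 LD3_c23)) = (LP (LK LD1_c14 LD2_c32 LD3_c12)) :=
  Lre_d IH (LK LD1_c24 LD2_c14 LD3_c23) (LK LD1_c14 LD2_c32 LD3_c12) Lrfl Lrfl
theorem f564767 : Led Lsl_at (LP (LK LD1_c14 LD2_c32 LD3_c12)) = (LP (LK LD1_c7 LD2_c43 LD3_c28)) :=
  Lgr Lrot51 (Lpe (f502695 IH) (Lpr_af (f564761 IH) (Lpe (f471197 IH) (Lpn (LP (LK LD1_c7 LD2_c43 LD3_c28))))))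
theorem f564769 : Led Lsl_af (LP (LK LD1_c14 LD2_c32 LD3_c12)) = (LP (LK LD1_c7 LD2_c43 LD3_c28)) :=
  Lgr Lrot0 (Lpr_at (f564767 IH) (Lpn (LP (LK LD1_c7 LD2_c43 LD3_c28))))
theorem f136481 : Led Lsl_bf (LP (LK LD1_c6 LD2_c55 LD3_c53)) = (LP (LK LD1_c7 LD2_c35 LD3_c23)) :=
  Lgr Lrot24 (Lpr_bt (K36.f136479 IH) (Lpn (LP (LK LD1_c7 LD2_c35 LD3_c23))))
theorem f564743 : Led Lsl_ft (LP (LK LD1_c6 LD2_c55 LD3_c53)) = (LP (LK LD1_c7 LD2_c43 LD3_c28)) :=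
  Lgr Lrot75 (Lpr_bf (f136481 IH) (Lpr_ff (f564741 IH) (Lpr_bf (f492972 IH) (Lpn (LP (LK LD1_c7 LD2_c43 LD3_c28))))))
theorem f564773 : Led Lsl_gf (LP (LK LD1_c14 LD2_c32 LD3_c12)) = (LP (LK LD1_c7 LD2_c43 LD3_c29)) :=
  Lgr Lrot76 (Lpr_af (f564769 IH) (Lpe (f564743 IH) (Lpe (f564420 IH) (Lpn (LP (LK LD1_c7 LD2_c43 LD3_c29))))))
theorem f455440 : Led Lsl_bt (LP (LK LD1_c22 LD2_c29 LD3_c8)) = (LP (LK LD1_c13 LD2_c14 LD3_c26)) :=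
  Lre_b IH (LK LD1_c22 LD2_c29 LD3_c8) (LK LD1_c13 LD2_c14 LD3_c26) Lrfl Lrfl
theorem f564775 : Led Lsl_cf (LP (LK LD1_c14 LD2_c32 LD3_c12)) = (LP (LK LD1_c22 LD2_c29 LD3_c8)) :=
  Lgr Lrot163 (Lpr_gf (f564773 IH) (Lpe (f530873 IH) (Lpe (f98503 IH) (Lpe (K35.f160491 IH) (Lpr_ct (K28.f128101 IH) (Lpr_gf (K28.f455827 IH) (Lpq (K28.f461955 IH) (Lpe (K24.f446458 IH) (Lpr_bt (K29.f446479 IH) (Lpe (K29.f455439 IH) (Lpe (f455440 IH) (Lpn (LP (LK LD1_c22 LD2_c29 LD3_c8))))))))))))))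
theorem f564787 : Led Lsl_gf (LP (LK LD1_c13 LD2_c29 LD3_c27)) = (LP (LK LD1_c13 LD2_c40 LD3_c24)) :=
  Lgr Lrot124 (Lpe (f530871 IH) (Lpr_ct (f530873 IH) (Lpe (f564773 IH) (Lpr_cf (f564775 IH) (Lpr_bt (f455440 IH) (Lpr_gt (K29.f455439 IH) (Lpr_ct (K29.f455446 IH) (Lpr_gt (f564658 IH) (Lpe (K36.f96916 IH) (Lpe (K36.f96914 IH) (Lpn (LP (LK LD1_c13 LD2_c40 LD3_c24)))))))))))))
theorem f564710 : Led Lsl_ft (LP (LK LD1_c13 LD2_c40 LD3_c24)) = (LP (LK LD1_c13 LD2_c29 LD3_c26)) :=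
  Lgr Lrot48 (Lpr_ff (f564700 IH) (Lpn (LP (LK LD1_c13 LD2_c29 LD3_c26))))
theorem f564789 : Led Lsl_af (LP (LK LD1_c13 LD2_c41 LD3_c7)) = (LP (LK LD1_c13 LD2_c29 LD3_c26)) :=
  Lgr Lrot31 (Lpr_gf (f531266 IH) (Lpr_gf (f564787 IH) (Lpr_ft (f564710 IH) (Lpn (LP (LK LD1_c13 LD2_c29 LD3_c26))))))
theorem f88616 : Led Lsl_et (LP (LK LD1_c13 LD2_c40 LD3_c24)) = (LP (LK LD1_c7 LD2_c13 LD3_c22)) :=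
  Lre_e IH (LK LD1_c13 LD2_c40 LD3_c24) (LK LD1_c7 LD2_c13 LD3_c22) Lrfl Lrfl
theorem f501679 : Led Lsl_at (LP (LK LD1_c7 LD2_c39 LD3_c12)) = (LP (LK LD1_c13 LD2_c40 LD3_c24)) :=
  Lgr Lrot80 (Lpe (K6.f110232 IH) (Lpr_af (K36.f501671 IH) (Lpe (f88616 IH) (Lpn (LP (LK LD1_c13 LD2_c40 LD3_c24))))))
theorem f564799 : Led Lsl_ft (LP (LK LD1_c13 LD2_c41 LD3_c7)) = (LP (LK LD1_c7 LD2_c39 LD3_c12)) :=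
  Lgr Lrot101 (Lpr_af (f564789 IH) (Lpe (f564710 IH) (Lpe (f501679 IH) (Lpn (LP (LK LD1_c7 LD2_c39 LD3_c12))))))
theorem f88610 : Led Lsl_et (LP (LK LD1_c7 LD2_c39 LD3_c12)) = (LP (LK LD1_c3 LD2_c49 LD3_c5)) :=
  Lre_e IH (LK LD1_c7 LD2_c39 LD3_c12) (LK LD1_c3 LD2_c49 LD3_c5) Lrfl Lrfl
theorem f564547 : Led Lsl_ft (LP (LK LD1_c13 LD2_c40 LD3_c25)) = (LP (LK LD1_c7 LD2_c47 LD3_c57)) :=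
  Lgr Lrot4 (Lpe (K36.f96155 IH) (Lpr_ff (f564545 IH) (Lpr_cf (f493276 IH) (Lpn (LP (LK LD1_c7 LD2_c47 LD3_c57))))))
theorem f564803 : Led Lsl_ef (LP (LK LD1_c13 LD2_c41 LD3_c7)) = (LP (LK LD1_c7 LD2_c47 LD3_c57)) :=
  Lgr Lrot21 (Lpr_ft (f564799 IH) (Lpr_et (f88610 IH) (Lpr_ft (K36.f501681 IH) (Lpr_et (K6.f96151 IH) (Lpr_ft (f564547 IH) (Lpn (LP (LK LD1_c7 LD2_c47 LD3_c57))))))))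
theorem f564791 : Led Lsl_at (LP (LK LD1_c13 LD2_c41 LD3_c7)) = (LP (LK LD1_c13 LD2_c29 LD3_c26)) :=
  Lgr Lrot100 (Lpr_af (f564789 IH) (Lpn (LP (LK LD1_c13 LD2_c29 LD3_c26))))
theorem f468108 : Led Lsl_bf (LP (LK LD1_c22 LD2_c29 LD3_c9)) = (LP (LK LD1_c13 LD2_c40 LD3_c43)) :=
  Lgr Lrot24 (Lpr_bt (K29.f468103 IH) (Lpn (LP (LK LD1_c13 LD2_c40 LD3_c43))))
theorem f564686 : Led Lsl_ef (LP (LK LD1_c13 LD2_c40 LD3_c43)) = (LP (LK LD1_c13 LD2_c29 LD3_c26)) :=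
  Lgr Lrot29 (Lpe (f468108 IH) (Lpr_et (f564684 IH) (Lpr_bt (f472129 IH) (Lpn (LP (LK LD1_c13 LD2_c29 LD3_c26))))))
theorem f564809 : Led Lsl_at (LP (LK LD1_c13 LD2_c40 LD3_c43)) = (LP (LK LD1_c7 LD2_c47 LD3_c57)) :=
  Lgr Lrot80 (Lpr_ef (f564686 IH) (Lpe (f564791 IH) (Lpr_ef (f564803 IH) (Lpn (LP (LK LD1_c7 LD2_c47 LD3_c57))))))
theorem f461996 : Led Lsl_ct (LP (LK LD1_c23 LD2_c6 LD3_c16)) = (LP (LK LD1_c13 LD2_c40 LD3_c43)) :=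
  Lre_c IH (LK LD1_c23 LD2_c6 LD3_c16) (LK LD1_c13 LD2_c40 LD3_c43) Lrfl Lrfl
theorem f564811 : Led Lsl_af (LP (LK LD1_c23 LD2_c6 LD3_c16)) = (LP (LK LD1_c14 LD2_c20 LD3_c33)) :=
  Lgr Lrot68 (Lpr_ct (f461996 IH) (Lpr_at (f564809 IH) (Lpe (f493276 IH) (Lpn (LP (LK LD1_c14 LD2_c20 LD3_c33))))))
theorem f14862 : Led Lsl_bt (LP (LK LD1_c1 LD2_c50 LD3_c60)) = (LP (LK LD1_c3 LD2_c47 LD3_c46)) :=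
  Lre_b IH (LK LD1_c1 LD2_c50 LD3_c60) (LK LD1_c3 LD2_c47 LD3_c46) Lrfl Lrfl
theorem f14883 : Led Lsl_bt (LP (LK LD1_c14 LD2_c19 LD3_c55)) = (LP (LK LD1_c7 LD2_c36 LD3_c6)) :=
  Lre_b IH (LK LD1_c14 LD2_c19 LD3_c55) (LK LD1_c7 LD2_c36 LD3_c6) Lrfl Lrfl
theorem f425488 : Led Lsl_gt (LP (LK LD1_c7 LD2_c7 LD3_c51)) = (LP (LK LD1_c13 LD2_c30 LD3_c23)) :=
  Lre_g IH (LK LD1_c7 LD2_c7 LD3_c51) (LK LD1_c13 LD2_c30 LD3_c23) Lrfl Lrfl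
theorem f471490 : Led Lsl_ct (LP (LK LD1_c14 LD2_c19 LD3_c55)) = (LP (LK LD1_c13 LD2_c30 LD3_c23)) :=
  Lgr Lrot63 (Lpr_bt (f14883 IH) (Lpr_gt (K28.f14875 IH) (Lpe (f14862 IH) (Lpr_ct (K28.f14864 IH) (Lpr_gt (K5.f64662 IH) (Lpe (K24.f87985 IH) (Lpr_bt (K34.f458093 IH) (Lpr_gt (K34.f471482 IH) (Lpe (K29.f425484 IH) (Lpr_gt (f425488 IH) (Lpn (LP (LK LD1_c13 LD2_c30 LD3_c23)))))))))))))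
theorem f471519 : Led Lsl_cf (LP (LK LD1_c14 LD2_c19 LD3_c55)) = (LP (LK LD1_c13 LD2_c30 LD3_c23)) :=
  Lgr Lrot11 (Lpr_ct (f471490 IH) (Lpn (LP (LK LD1_c13 LD2_c30 LD3_c23))))
theorem f461993 : Led Lsl_ct (LP (LK LD1_c13 LD2_c40 LD3_c43)) = (LP (LK LD1_c23 LD2_c6 LD3_c16)) :=
  Lre_c IH (LK LD1_c13 LD2_c40 LD3_c43) (LK LD1_c23 LD2_c6 LD3_c16) Lrfl Lrfl
theorem f471523 : Led Lsl_gt (LP (LK LD1_c14 LD2_c19 LD3_c55)) = (LP (LK LD1_c23 LD2_c6 LD3_c16)) :=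
  Lgr Lrot149 (Lpr_cf (f471519 IH) (Lpe (f425488 IH) (Lpe (K29.f425296 IH) (Lpr_ct (K29.f425498 IH) (Lpe (K39.f471160 IH) (Lpe (K39.f462933 IH) (Lpr_bt (f462942 IH) (Lpe (f470502 IH) (Lpr_bf (f468108 IH) (Lpr_ct (f461993 IH) (Lpn (LP (LK LD1_c23 LD2_c6 LD3_c16)))))))))))))
theorem f564821 : Led Lsl_gf (LP (LK LD1_c14 LD2_c19 LD3_c55)) = (LP (LK LD1_c7 LD2_c41 LD3_c51)) :=
  Lgr Lrot47 (Lpr_gt (f471523 IH) (Lpr_af (f564811 IH) (Lpe (f564539 IH) (Lpn (LP (LK LD1_c7 LD2_c41 LD3_c51))))))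
theorem f145220 : Led Lsl_gt (LP (LK LD1_c13 LD2_c27 LD3_c52)) = (LP (LK LD1_c22 LD2_c47 LD3_c19)) :=
  Lre_g IH (LK LD1_c13 LD2_c27 LD3_c52) (LK LD1_c22 LD2_c47 LD3_c19) Lrfl Lrfl
theorem f564577 : Led Lsl_bf (LP (LK LD1_c22 LD2_c47 LD3_c19)) = (LP (LK LD1_c13 LD2_c30 LD3_c23)) :=
  Lgr Lrot34 (Lpe (f145220 IH) (Lpe (f96550 IH) (Lpr_ct (K36.f96552 IH) (Lpr_gf (f564569 IH) (Lpe (f472523 IH) (Lpe (f470502 IH) (Lpr_bf (f468108 IH) (Lpr_ct (f461993 IH) (Lpe (f471523 IH) (Lpr_cf (f471519 IH) (Lpn (LP (LK LD1_c13 LD2_c30 LD3_c23)))))))))))))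
theorem f564579 : Led Lsl_bt (LP (LK LD1_c22 LD2_c47 LD3_c19)) = (LP (LK LD1_c13 LD2_c30 LD3_c23)) :=
  Lgr Lrot127 (Lpr_bf (f564577 IH) (Lpn (LP (LK LD1_c13 LD2_c30 LD3_c23))))
theorem f14801 : Led Lsl_ct (LP (LK LD1_c7 LD2_c36 LD3_c6)) = (LP (LK LD1_c14 LD2_c19 LD3_c56)) :=
  Lre_c IH (LK LD1_c7 LD2_c36 LD3_c6) (LK LD1_c14 LD2_c19 LD3_c56) Lrfl Lrfl
theorem f564581 : Led Lsl_cf (LP (LK LD1_c22 LD2_c47 LD3_c19)) = (LP (LK LD1_c13 LD2_c29 LD3_c60)) :=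
  Lgr Lrot97 (Lpr_bt (f564579 IH) (Lpe (f471519 IH) (Lpr_bt (f14883 IH) (Lpr_ct (f14801 IH) (Lpe (K28.f463713 IH) (Lpn (LP (LK LD1_c13 LD2_c29 LD3_c60))))))))
theorem f564584 : Led Lsl_gt (LP (LK LD1_c22 LD2_c47 LD3_c19)) = (LP (LK LD1_c14 LD2_c33 LD3_c44)) :=
  Lgr Lrot149 (Lpr_cf (f564581 IH) (Lpe (K28.f104061 IH) (Lpe (K28.f160495 IH) (Lpr_ct (K5.f128081 IH) (Lpr_gf (K28.f463707 IH) (Lpe (K28.f14880 IH) (Lpr_bt (f458084 IH) (Lpe (f458169 IH) (Lpr_bf (f492972 IH) (Lpr_ct (f471220 IH) (Lpn (LP (LK LD1_c14 LD2_c33 LD3_c44)))))))))))))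
theorem f96161 : Led Lsl_bt (LP (LK LD1_c3 LD2_c50 LD3_c23)) = (LP (LK LD1_c7 LD2_c41 LD3_c51)) :=
  Lre_b IH (LK LD1_c3 LD2_c50 LD3_c23) (LK LD1_c7 LD2_c41 LD3_c51) Lrfl Lrfl
theorem f136347 : Led Lsl_bt (LP (LK LD1_c13 LD2_c40 LD3_c25)) = (LP (LK LD1_c7 LD2_c39 LD3_c12)) :=
  Lgr Lrot128 (Lpe (K36.f96155 IH) (Lpe (f96161 IH) (Lpr_cf (K6.f136343 IH) (Lpe (f110235 IH) (Lpe (K6.f110233 IH) (Lpn (LP (LK LD1_c7 LD2_c39 LD3_c12))))))))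
theorem f564823 : Led Lsl_gt (LP (LK LD1_c7 LD2_c43 LD3_c28)) = (LP (LK LD1_c14 LD2_c32 LD3_c10)) :=
  Lgr Lrot149 (Lpe (f471971 IH) (Lpe (f564584 IH) (Lpr_bf (f564577 IH) (Lpe (f471519 IH) (Lpr_gf (f564821 IH) (Lpr_cf (K6.f96152 IH) (Lpr_bt (f136347 IH) (Lpr_gf (f564712 IH) (Lpr_bf (f530628 IH) (Lpe (f564588 IH) (Lpn (LP (LK LD1_c14 LD2_c32 LD3_c10)))))))))))))
theorem f564592 : Led Lsl_ct (LP (LK LD1_c14 LD2_c32 LD3_c10)) = (LP (LK LD1_c13 LD2_c14 LD3_c22)) :=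
  Lgr Lrot59 (Lpr_cf (f564588 IH) (Lpn (LP (LK LD1_c13 LD2_c14 LD3_c22))))
theorem f104080 : Led Lsl_dt (LP (LK LD1_c22 LD2_c50 LD3_c45)) = (LP (LK LD1_c13 LD2_c29 LD3_c59)) :=
  Lre_d IH (LK LD1_c22 LD2_c50 LD3_c45) (LK LD1_c13 LD2_c29 LD3_c59) Lrfl Lrfl
theorem f460466 : Led Lsl_ct (LP (LK LD1_c24 LD2_c16 LD3_c48)) = (LP (LK LD1_c22 LD2_c50 LD3_c45)) :=
  Lgr Lrot40 (Lpr_ff (K29.f460462 IH) (Lpe (K29.f460310 IH) (Lpe (K29.f460314 IH) (Lpn (LP (LK LD1_c22 LD2_c50 LD3_c45))))))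
theorem f564837 : Led Lsl_ct (LP (LK LD1_c24 LD2_c14 LD3_c21)) = (LP (LK LD1_c24 LD2_c26 LD3_c11)) :=
  Lgr Lrot152 (Lpr_gf (f564623 IH) (Lpe (f471197 IH) (Lpr_gt (f564823 IH) (Lpr_ct (f564592 IH) (Lpr_gt (f463804 IH) (Lpr_ct (K29.f160483 IH) (Lpe (f104080 IH) (Lpe (f460466 IH) (Lpr_gf (K35.f460468 IH) (Lpn (LP (LK LD1_c24 LD2_c26 LD3_c11))))))))))))
theorem f564616 : Led Lsl_et (LP (LK LD1_c31 LD2_c25 LD3_c60)) = (LP (LK LD1_c24 LD2_c14 LD3_c21)) :=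
  Lre_e IH (LK LD1_c31 LD2_c25 LD3_c60) (LK LD1_c24 LD2_c14 LD3_c21) Lrfl Lrfl
theorem f460497 : Led Lsl_et (LP (LK LD1_c24 LD2_c26 LD3_c11)) = (LP (LK LD1_c31 LD2_c31 LD3_c33)) :=
  Lre_e IH (LK LD1_c24 LD2_c26 LD3_c11) (LK LD1_c31 LD2_c31 LD3_c33) Lrfl Lrfl
theorem f564842 : Led Lsl_cf (LP (LK LD1_c31 LD2_c25 LD3_c60)) = (LP (LK LD1_c31 LD2_c31 LD3_c33)) :=
  Lgr Lrot39 (Lpr_et (f564616 IH) (Lpr_ct (f564837 IH) (Lpr_et (f460497 IH) (Lpn (LP (LK LD1_c31 LD2_c31 LD3_c33))))))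
theorem f564846 : Led Lsl_ct (LP (LK LD1_c31 LD2_c25 LD3_c60)) = (LP (LK LD1_c31 LD2_c31 LD3_c33)) :=
  Lgr Lrot59 (Lpr_cf (f564842 IH) (Lpn (LP (LK LD1_c31 LD2_c31 LD3_c33))))
theorem f460476 : Led Lsl_et (LP (LK LD1_c31 LD2_c31 LD3_c33)) = (LP (LK LD1_c24 LD2_c26 LD3_c11)) :=
  Lre_e IH (LK LD1_c31 LD2_c31 LD3_c33) (LK LD1_c24 LD2_c26 LD3_c11) Lrfl Lrfl
theorem f512980 : Led Lsl_et (LP (LK LD1_c24 LD2_c15 LD3_c11)) = (LP (LK LD1_c31 LD2_c26 LD3_c31)) :=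
  Lre_e IH (LK LD1_c24 LD2_c15 LD3_c11) (LK LD1_c31 LD2_c26 LD3_c31) Lrfl Lrfl
theorem f512981 : Led Lsl_af (LP (LK LD1_c31 LD2_c31 LD3_c33)) = (LP (LK LD1_c31 LD2_c26 LD3_c31)) :=
  Lgr Lrot50 (Lpr_et (f460476 IH) (Lpr_at (K35.f512974 IH) (Lpr_et (f512980 IH) (Lpn (LP (LK LD1_c31 LD2_c26 LD3_c31))))))
theorem f513027 : Led Lsl_at (LP (LK LD1_c31 LD2_c31 LD3_c33)) = (LP (LK LD1_c31 LD2_c26 LD3_c31)) :=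
  Lgr Lrot100 (Lpr_af (f512981 IH) (Lpn (LP (LK LD1_c31 LD2_c26 LD3_c31))))
theorem f91058 : Led Lsl_ct (LP (LK LD1_c31 LD2_c26 LD3_c31)) = (LP (LK LD1_c24 LD2_c15 LD3_c12)) :=
  Lre_c IH (LK LD1_c31 LD2_c26 LD3_c31) (LK LD1_c24 LD2_c15 LD3_c12) Lrfl Lrfl
theorem f564848 : Led Lsl_af (LP (LK LD1_c31 LD2_c25 LD3_c60)) = (LP (LK LD1_c24 LD2_c15 LD3_c12)) :=
  Lgr Lrot68 (Lpr_ct (f564846 IH) (Lpr_at (f513027 IH) (Lpr_ct (f91058 IH) (Lpn (LP (LK LD1_c24 LD2_c15 LD3_c12))))))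
theorem f564854 : Led Lsl_at (LP (LK LD1_c24 LD2_c14 LD3_c21)) = (LP (LK LD1_c14 LD2_c32 LD3_c47)) :=
  Lgr Lrot80 (Lpe (f564616 IH) (Lpr_af (f564848 IH) (Lpe (K35.f91061 IH) (Lpn (LP (LK LD1_c14 LD2_c32 LD3_c47))))))
theorem f564617 : Led Lsl_ff (LP (LK LD1_c24 LD2_c14 LD3_c21)) = (LP (LK LD1_c14 LD2_c34 LD3_c13)) :=
  Lgr Lrot3 (Lpr_ft (f564598 IH) (Lpn (LP (LK LD1_c14 LD2_c34 LD3_c13))))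
theorem f11828 : Led Lsl_bt (LP (LK LD1_c7 LD2_c7 LD3_c15)) = (LP (LK LD1_c3 LD2_c33 LD3_c10)) :=
  Lre_b IH (LK LD1_c7 LD2_c7 LD3_c15) (LK LD1_c3 LD2_c33 LD3_c10) Lrfl Lrfl
theorem f530785 : Led Lsl_af (LP (LK LD1_c7 LD2_c7 LD3_c15)) = (LP (LK LD1_c13 LD2_c14 LD3_c22)) :=
  Lgr Lrot36 (Lpr_bt (f11828 IH) (Lpr_at (f530783 IH) (Lpr_bt (K28.f465232 IH) (Lpr_at (f465375 IH) (Lpr_bt (f530626 IH) (Lpn (LP (LK LD1_c13 LD2_c14 LD3_c22))))))))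
theorem f530880 : Led Lsl_ft (LP (LK LD1_c7 LD2_c7 LD3_c36)) = (LP (LK LD1_c13 LD2_c14 LD3_c22)) :=
  Lgr Lrot101 (Lpr_af (f530867 IH) (Lpe (f530861 IH) (Lpr_af (f530785 IH) (Lpn (LP (LK LD1_c13 LD2_c14 LD3_c22))))))
theorem f530608 : Led Lsl_ft (LP (LK LD1_c13 LD2_c41 LD3_c8)) = (LP (LK LD1_c13 LD2_c29 LD3_c27)) :=
  Lgr Lrot101 (Lpe (f465375 IH) (Lpr_ff (f530606 IH) (Lpe (f472155 IH) (Lpn (LP (LK LD1_c13 LD2_c29 LD3_c27))))))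
theorem f530882 : Led Lsl_bf (LP (LK LD1_c7 LD2_c7 LD3_c36)) = (LP (LK LD1_c13 LD2_c29 LD3_c27)) :=
  Lgr Lrot61 (Lpr_ft (f530880 IH) (Lpe (f530628 IH) (Lpr_ft (f530608 IH) (Lpn (LP (LK LD1_c13 LD2_c29 LD3_c27))))))
theorem f530877 : Led Lsl_et (LP (LK LD1_c7 LD2_c7 LD3_c36)) = (LP (LK LD1_c13 LD2_c30 LD3_c3)) :=
  Lre_e IH (LK LD1_c7 LD2_c7 LD3_c36) (LK LD1_c13 LD2_c30 LD3_c3) Lrfl Lrfl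
theorem f108598 : Led Lsl_et (LP (LK LD1_c22 LD2_c49 LD3_c57)) = (LP (LK LD1_c13 LD2_c29 LD3_c27)) :=
  Lre_e IH (LK LD1_c22 LD2_c49 LD3_c57) (LK LD1_c13 LD2_c29 LD3_c27) Lrfl Lrfl
theorem f530990 : Led Lsl_bt (LP (LK LD1_c13 LD2_c30 LD3_c3)) = (LP (LK LD1_c22 LD2_c49 LD3_c57)) :=
  Lgr Lrot119 (Lpe (f530877 IH) (Lpr_bf (f530882 IH) (Lpe (f108598 IH) (Lpn (LP (LK LD1_c22 LD2_c49 LD3_c57))))))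
theorem f108586 : Led Lsl_at (LP (LK LD1_c22 LD2_c49 LD3_c57)) = (LP (LK LD1_c13 LD2_c29 LD3_c29)) :=
  Lre_a IH (LK LD1_c22 LD2_c49 LD3_c57) (LK LD1_c13 LD2_c29 LD3_c29) Lrfl Lrfl
theorem f108553 : Led Lsl_bt (LP (LK LD1_c13 LD2_c29 LD3_c29)) = (LP (LK LD1_c7 LD2_c7 LD3_c14)) :=
  Lre_b IH (LK LD1_c13 LD2_c29 LD3_c29) (LK LD1_c7 LD2_c7 LD3_c14) Lrfl Lrfl
theorem f530992 : Led Lsl_af (LP (LK LD1_c13 LD2_c30 LD3_c3)) = (LP (LK LD1_c13 LD2_c41 LD3_c2)) :=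
  Lgr Lrot36 (Lpr_bt (f530990 IH) (Lpr_at (f108586 IH) (Lpr_bt (f108553 IH) (Lpe (f530729 IH) (Lpr_bt (f98593 IH) (Lpn (LP (LK LD1_c13 LD2_c41 LD3_c2))))))))
theorem f98553 : Led Lsl_bt (LP (LK LD1_c13 LD2_c41 LD3_c2)) = (LP (LK LD1_c7 LD2_c13 LD3_c53)) :=
  Lre_b IH (LK LD1_c13 LD2_c41 LD3_c2) (LK LD1_c7 LD2_c13 LD3_c53) Lrfl Lrfl
theorem f471219 : Led Lsl_bt (LP (LK LD1_c3 LD2_c51 LD3_c7)) = (LP (LK LD1_c7 LD2_c43 LD3_c31)) :=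
  Lre_b IH (LK LD1_c3 LD2_c51 LD3_c7) (LK LD1_c7 LD2_c43 LD3_c31) Lrfl Lrfl
theorem f471946 : Led Lsl_cf (LP (LK LD1_c13 LD2_c41 LD3_c2)) = (LP (LK LD1_c7 LD2_c43 LD3_c31)) :=
  Lgr Lrot97 (Lpr_bt (f98553 IH) (Lpr_ct (f471937 IH) (Lpr_bt (f471204 IH) (Lpe (f471217 IH) (Lpr_bt (f471219 IH) (Lpn (LP (LK LD1_c7 LD2_c43 LD3_c31))))))))
theorem f471956 : Led Lsl_at (LP (LK LD1_c14 LD2_c33 LD3_c47)) = (LP (LK LD1_c7 LD2_c43 LD3_c31)) :=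
  Lre_a IH (LK LD1_c14 LD2_c33 LD3_c47) (LK LD1_c7 LD2_c43 LD3_c31) Lrfl Lrfl
theorem f530996 : Led Lsl_ct (LP (LK LD1_c13 LD2_c30 LD3_c3)) = (LP (LK LD1_c14 LD2_c33 LD3_c47)) :=
  Lgr Lrot111 (Lpr_af (f530992 IH) (Lpr_cf (f471946 IH) (Lpe (f471956 IH) (Lpn (LP (LK LD1_c14 LD2_c33 LD3_c47))))))
theorem f531000 : Led Lsl_et (LP (LK LD1_c14 LD2_c33 LD3_c47)) = (LP (LK LD1_c7 LD2_c43 LD3_c29)) :=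
  Lre_e IH (LK LD1_c14 LD2_c33 LD3_c47) (LK LD1_c7 LD2_c43 LD3_c29) Lrfl Lrfl
theorem f531001 : Led Lsl_cf (LP (LK LD1_c7 LD2_c7 LD3_c36)) = (LP (LK LD1_c7 LD2_c43 LD3_c29)) :=
  Lgr Lrot39 (Lpr_et (f530877 IH) (Lpr_ct (f530996 IH) (Lpr_et (f531000 IH) (Lpn (LP (LK LD1_c7 LD2_c43 LD3_c29))))))
theorem f463765 : Led Lsl_ff (LP (LK LD1_c6 LD2_c58 LD3_c26)) = (LP (LK LD1_c3 LD2_c33 LD3_c22)) :=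
  Lgr Lrot25 (Lpr_bt (K34.f463753 IH) (Lpr_ft (K28.f463763 IH) (Lpr_bt (K35.f160491 IH) (Lpn (LP (LK LD1_c3 LD2_c33 LD3_c22))))))
theorem f463819 : Led Lsl_gf (LP (LK LD1_c13 LD2_c14 LD3_c23)) = (LP (LK LD1_c7 LD2_c7 LD3_c36)) :=
  Lgr Lrot76 (Lpe (K28.f463808 IH) (Lpr_ff (f463765 IH) (Lpr_gt (f98503 IH) (Lpn (LP (LK LD1_c7 LD2_c7 LD3_c36))))))
theorem f463813 : Led Lsl_ct (LP (LK LD1_c13 LD2_c14 LD3_c23)) = (LP (LK LD1_c7 LD2_c47 LD3_c11)) :=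
  Lgr Lrot59 (Lpr_cf (K35.f463811 IH) (Lpn (LP (LK LD1_c7 LD2_c47 LD3_c11))))
theorem f564424 : Led Lsl_gf (LP (LK LD1_c14 LD2_c34 LD3_c13)) = (LP (LK LD1_c13 LD2_c9 LD3_c48)) :=
  Lgr Lrot147 (Lpr_ct (K35.f460492 IH) (Lpr_gt (K35.f512985 IH) (Lpr_ct (K39.f460309 IH) (Lpe (K29.f460308 IH) (Lpe (f463813 IH) (Lpr_gf (f463819 IH) (Lpr_cf (f531001 IH) (Lpr_gf (f564420 IH) (Lpe (K36.f136486 IH) (Lpn (LP (LK LD1_c13 LD2_c9 LD3_c48))))))))))))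
theorem f564763 : Led Lsl_gt (LP (LK LD1_c14 LD2_c34 LD3_c13)) = (LP (LK LD1_c24 LD2_c14 LD3_c23)) :=
  Lgr Lrot46 (Lpr_gf (f564424 IH) (Lpr_ft (f564759 IH) (Lpe (f564761 IH) (Lpn (LP (LK LD1_c24 LD2_c14 LD3_c23))))))
theorem f564856 : Led Lsl_gt (LP (LK LD1_c24 LD2_c14 LD3_c23)) = (LP (LK LD1_c14 LD2_c32 LD3_c47)) :=
  Lgr Lrot46 (Lpe (f564763 IH) (Lpe (f564617 IH) (Lpr_at (f564854 IH) (Lpn (LP (LK LD1_c14 LD2_c32 LD3_c47))))))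
theorem f502718 : Led Lsl_dt (LP (LK LD1_c14 LD2_c32 LD3_c12)) = (LP (LK LD1_c24 LD2_c14 LD3_c23)) :=
  Lre_d IH (LK LD1_c14 LD2_c32 LD3_c12) (LK LD1_c24 LD2_c14 LD3_c23) Lrfl Lrfl
theorem f90991 : Led Lsl_bt (LP (LK LD1_c7 LD2_c43 LD3_c0)) = (LP (LK LD1_c14 LD2_c32 LD3_c47)) :=
  Lre_b IH (LK LD1_c7 LD2_c43 LD3_c0) (LK LD1_c14 LD2_c32 LD3_c47) Lrfl Lrfl
theorem f90992 : Led Lsl_bt (LP (LK LD1_c13 LD2_c3 LD3_c28)) = (LP (LK LD1_c6 LD2_c51 LD3_c60)) :=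
  Lre_b IH (LK LD1_c13 LD2_c3 LD3_c28) (LK LD1_c6 LD2_c51 LD3_c60) Lrfl Lrfl
theorem f90993 : Led Lsl_dt (LP (LK LD1_c14 LD2_c32 LD3_c47)) = (LP (LK LD1_c13 LD2_c3 LD3_c28)) :=
  Lgr Lrot79 (Lpe (f90991 IH) (Lpr_df (K34.f90988 IH) (Lpe (f90992 IH) (Lpn (LP (LK LD1_c13 LD2_c3 LD3_c28))))))
theorem f564860 : Led Lsl_gt (LP (LK LD1_c11 LD2_c15 LD3_c46)) = (LP (LK LD1_c13 LD2_c29 LD3_c38)) :=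
  Lgr Lrot49 (Lpe (K39.f552859 IH) (Lpr_gf (f463819 IH) (Lpr_cf (f531001 IH) (Lpe (f564773 IH) (Lpr_dt (f502718 IH) (Lpr_gt (f564856 IH) (Lpr_dt (f90993 IH) (Lpr_cf (K34.f488210 IH) (Lpr_df (K35.f11568 IH) (Lpn (LP (LK LD1_c13 LD2_c29 LD3_c38))))))))))))
theorem f241703 : Led Lsl_af (LP (LK LD1_c17 LD2_c54 LD3_c42)) = (LP (LK LD1_c16 LD2_c17 LD3_c22)) :=
  Lgr Lrot0 (Lpr_at (K13.f241699 IH) (Lpn (LP (LK LD1_c16 LD2_c17 LD3_c22))))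
theorem f237685 : Led Lsl_ft (LP (LK LD1_c8 LD2_c41 LD3_c50)) = (LP (LK LD1_c16 LD2_c17 LD3_c22)) :=
  Lre_f IH (LK LD1_c8 LD2_c41 LD3_c50) (LK LD1_c16 LD2_c17 LD3_c22) Lrfl Lrfl
theorem f237662 : Led Lsl_gt (LP (LK LD1_c8 LD2_c41 LD3_c50)) = (LP (LK LD1_c16 LD2_c17 LD3_c19)) :=
  Lre_g IH (LK LD1_c8 LD2_c41 LD3_c50) (LK LD1_c16 LD2_c17 LD3_c19) Lrfl Lrfl
theorem f417985 : Led Lsl_gf (LP (LK LD1_c17 LD2_c54 LD3_c42)) = (LP (LK LD1_c16 LD2_c17 LD3_c19)) :=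
  Lgr Lrot76 (Lpr_af (f241703 IH) (Lpe (f237685 IH) (Lpr_gt (f237662 IH) (Lpn (LP (LK LD1_c16 LD2_c17 LD3_c19))))))
theorem f172789 : Led Lsl_ct (LP (LK LD1_c17 LD2_c54 LD3_c42)) = (LP (LK LD1_c9 LD2_c45 LD3_c9)) :=
  Lre_c IH (LK LD1_c17 LD2_c54 LD3_c42) (LK LD1_c9 LD2_c45 LD3_c9) Lrfl Lrfl
theorem f552923 : Led Lsl_ct (LP (LK LD1_c8 LD2_c44 LD3_c12)) = (LP (LK LD1_c16 LD2_c17 LD3_c19)) :=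
  Lgr Lrot152 (Lpe (K37.f237296 IH) (Lpr_df (K39.f552914 IH) (Lpr_gt (K35.f425438 IH) (Lpr_ct (K35.f475302 IH) (Lpr_gt (K35.f465041 IH) (Lpe (f470139 IH) (Lpr_df (K39.f552869 IH) (Lpe (f172789 IH) (Lpr_gf (f417985 IH) (Lpn (LP (LK LD1_c16 LD2_c17 LD3_c19))))))))))))
theorem f564864 : Led Lsl_bf (LP (LK LD1_c4 LD2_c23 LD3_c15)) = (LP (LK LD1_c3 LD2_c37 LD3_c1)) :=
  Lgr Lrot165 (Lpr_gt (K37.f237296 IH) (Lpr_ct (f552923 IH) (Lpe (f417985 IH) (Lpe (K13.f172790 IH) (Lpr_bt (K39.f172774 IH) (Lpr_gt (f564860 IH) (Lpe (K35.f11567 IH) (Lpr_ct (f11570 IH) (Lpr_gt (f475271 IH) (Lpe (K32.f425314 IH) (Lpn (LP (LK LD1_c3 LD2_c37 LD3_c1)))))))))))))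
theorem f564870 : Led Lsl_et (LP (LK LD1_c4 LD2_c23 LD3_c14)) = (LP (LK LD1_c3 LD2_c37 LD3_c1)) :=
  Lgr Lrot74 (Lpe (K39.f237721 IH) (Lpe (K39.f237288 IH) (Lpr_bf (f564864 IH) (Lpn (LP (LK LD1_c3 LD2_c37 LD3_c1))))))
theorem f403153 : Led Lsl_et (LP (LK LD1_c14 LD2_c58 LD3_c34)) = (LP (LK LD1_c7 LD2_c56 LD3_c20)) :=
  Lre_e IH (LK LD1_c14 LD2_c58 LD3_c34) (LK LD1_c7 LD2_c56 LD3_c20) Lrfl Lrfl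
theorem f564878 : Led Lsl_ff (LP (LK LD1_c14 LD2_c58 LD3_c34)) = (LP (LK LD1_c13 LD2_c42 LD3_c1)) :=
  Lgr Lrot72 (Lpr_et (f403153 IH) (Lpr_ft (K38.f403149 IH) (Lpr_et (f564870 IH) (Lpr_ft (K30.f425284 IH) (Lpr_et (K32.f425322 IH) (Lpn (LP (LK LD1_c13 LD2_c42 LD3_c1))))))))
theorem f564889 : Led Lsl_ft (LP (LK LD1_c14 LD2_c58 LD3_c34)) = (LP (LK LD1_c13 LD2_c42 LD3_c1)) :=
  Lgr Lrot48 (Lpr_ff (f564878 IH) (Lpn (LP (LK LD1_c13 LD2_c42 LD3_c1))))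
theorem f229868 : Led Lsl_ct (LP (LK LD1_c24 LD2_c46 LD3_c0)) = (LP (LK LD1_c14 LD2_c58 LD3_c34)) :=
  Lre_c IH (LK LD1_c24 LD2_c46 LD3_c0) (LK LD1_c14 LD2_c58 LD3_c34) Lrfl Lrfl
theorem f425350 : Led Lsl_ct (LP (LK LD1_c13 LD2_c42 LD3_c1)) = (LP (LK LD1_c23 LD2_c7 LD3_c35)) :=
  Lre_c IH (LK LD1_c13 LD2_c42 LD3_c1) (LK LD1_c23 LD2_c7 LD3_c35) Lrfl Lrfl
theorem f564893 : Led Lsl_ff (LP (LK LD1_c24 LD2_c46 LD3_c0)) = (LP (LK LD1_c23 LD2_c7 LD3_c35)) :=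
  Lgr Lrot23 (Lpr_ct (f229868 IH) (Lpr_ft (f564889 IH) (Lpr_ct (f425350 IH) (Lpn (LP (LK LD1_c23 LD2_c7 LD3_c35))))))
theorem f229886 : Led Lsl_et (LP (LK LD1_c24 LD2_c46 LD3_c0)) = (LP (LK LD1_c14 LD2_c58 LD3_c33)) :=
  Lre_e IH (LK LD1_c24 LD2_c46 LD3_c0) (LK LD1_c14 LD2_c58 LD3_c33) Lrfl Lrfl
theorem f425417 : Led Lsl_ft (LP (LK LD1_c7 LD2_c14 LD3_c25)) = (LP (LK LD1_c13 LD2_c42 LD3_c0)) :=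
  Lre_f IH (LK LD1_c7 LD2_c14 LD3_c25) (LK LD1_c13 LD2_c42 LD3_c0) Lrfl Lrfl
theorem f564895 : Led Lsl_et (LP (LK LD1_c8 LD2_c44 LD3_c11)) = (LP (LK LD1_c7 LD2_c14 LD3_c25)) :=
  Lgr Lrot69 (Lpe (K38.f403141 IH) (Lpe (f229886 IH) (Lpr_ff (f564893 IH) (Lpe (K32.f425351 IH) (Lpe (f425417 IH) (Lpn (LP (LK LD1_c7 LD2_c14 LD3_c25))))))))
theorem f425379 : Led Lsl_et (LP (LK LD1_c7 LD2_c8 LD3_c0)) = (LP (LK LD1_c13 LD2_c30 LD3_c40)) :=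
  Lre_e IH (LK LD1_c7 LD2_c8 LD3_c0) (LK LD1_c13 LD2_c30 LD3_c40) Lrfl Lrfl
theorem f564897 : Led Lsl_af (LP (LK LD1_c8 LD2_c44 LD3_c11)) = (LP (LK LD1_c13 LD2_c30 LD3_c40)) :=
  Lgr Lrot50 (Lpr_et (f564895 IH) (Lpr_at (K32.f425362 IH) (Lpr_et (f425379 IH) (Lpn (LP (LK LD1_c13 LD2_c30 LD3_c40))))))
theorem f564927 : Led Lsl_ft (LP (LK LD1_c19 LD2_c21 LD3_c18)) = (LP (LK LD1_c13 LD2_c30 LD3_c40)) :=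
  Lgr Lrot101 (Lpe (K38.f550023 IH) (Lpr_ff (K38.f403147 IH) (Lpr_af (f564897 IH) (Lpn (LP (LK LD1_c13 LD2_c30 LD3_c40))))))
theorem f564932 : Led Lsl_ff (LP (LK LD1_c19 LD2_c21 LD3_c18)) = (LP (LK LD1_c13 LD2_c30 LD3_c40)) :=
  Lgr Lrot3 (Lpr_ft (f564927 IH) (Lpn (LP (LK LD1_c13 LD2_c30 LD3_c40))))
theorem f181565 : Led Lsl_bt (LP (LK LD1_c5 LD2_c41 LD3_c31)) = (LP (LK LD1_c2 LD2_c46 LD3_c49)) :=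
  Lre_b IH (LK LD1_c5 LD2_c41 LD3_c31) (LK LD1_c2 LD2_c46 LD3_c49) Lrfl Lrfl
theorem f197420 : Led Lsl_bt (LP (LK LD1_c1 LD2_c55 LD3_c29)) = (LP (LK LD1_c3 LD2_c57 LD3_c23)) :=
  Lre_b IH (LK LD1_c1 LD2_c55 LD3_c29) (LK LD1_c3 LD2_c57 LD3_c23) Lrfl Lrfl
theorem f410978 : Led Lsl_af (LP (LK LD1_c5 LD2_c41 LD3_c31)) = (LP (LK LD1_c3 LD2_c57 LD3_c23)) :=
  Lgr Lrot36 (Lpr_bt (f181565 IH) (Lpr_at (K31.f181564 IH) (Lpr_bt (K10.f181562 IH) (Lpr_at (K38.f410976 IH) (Lpr_bt (f197420 IH) (Lpn (LP (LK LD1_c3 LD2_c57 LD3_c23))))))))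
theorem f410992 : Led Lsl_dt (LP (LK LD1_c5 LD2_c41 LD3_c31)) = (LP (LK LD1_c11 LD2_c13 LD3_c12)) :=
  Lre_d IH (LK LD1_c5 LD2_c41 LD3_c31) (LK LD1_c11 LD2_c13 LD3_c12) Lrfl Lrfl
theorem f197442 : Led Lsl_dt (LP (LK LD1_c7 LD2_c56 LD3_c20)) = (LP (LK LD1_c3 LD2_c57 LD3_c23)) :=
  Lre_d IH (LK LD1_c7 LD2_c56 LD3_c20) (LK LD1_c3 LD2_c57 LD3_c23) Lrfl Lrfl
theorem f410993 : Led Lsl_at (LP (LK LD1_c11 LD2_c13 LD3_c12)) = (LP (LK LD1_c7 LD2_c56 LD3_c20)) :=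
  Lgr Lrot51 (Lpe (f410992 IH) (Lpr_af (f410978 IH) (Lpe (f197442 IH) (Lpn (LP (LK LD1_c7 LD2_c56 LD3_c20))))))
theorem f550029 : Led Lsl_cf (LP (LK LD1_c11 LD2_c13 LD3_c12)) = (LP (LK LD1_c19 LD2_c21 LD3_c18)) :=
  Lgr Lrot1 (Lpr_at (f410993 IH) (Lpr_ct (K38.f197441 IH) (Lpr_at (K38.f550023 IH) (Lpn (LP (LK LD1_c19 LD2_c21 LD3_c18))))))
theorem f98105 : Led Lsl_ct (LP (LK LD1_c7 LD2_c7 LD3_c59)) = (LP (LK LD1_c13 LD2_c30 LD3_c40)) :=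
  Lre_c IH (LK LD1_c7 LD2_c7 LD3_c59) (LK LD1_c13 LD2_c30 LD3_c40) Lrfl Lrfl
theorem f564934 : Led Lsl_ft (LP (LK LD1_c11 LD2_c13 LD3_c12)) = (LP (LK LD1_c7 LD2_c7 LD3_c59)) :=
  Lgr Lrot4 (Lpr_cf (f550029 IH) (Lpr_ff (f564932 IH) (Lpe (f98105 IH) (Lpn (LP (LK LD1_c7 LD2_c7 LD3_c59))))))
theorem f425532 : Led Lsl_et (LP (LK LD1_c3 LD2_c33 LD3_c33)) = (LP (LK LD1_c7 LD2_c7 LD3_c59)) :=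
  Lre_e IH (LK LD1_c3 LD2_c33 LD3_c33) (LK LD1_c7 LD2_c7 LD3_c59) Lrfl Lrfl
theorem f564872 : Led Lsl_af (LP (LK LD1_c4 LD2_c23 LD3_c14)) = (LP (LK LD1_c7 LD2_c7 LD3_c59)) :=
  Lgr Lrot50 (Lpr_et (f564870 IH) (Lpr_at (K28.f425298 IH) (Lpr_et (f425532 IH) (Lpn (LP (LK LD1_c7 LD2_c7 LD3_c59))))))
theorem f564938 : Led Lsl_gt (LP (LK LD1_c11 LD2_c13 LD3_c12)) = (LP (LK LD1_c8 LD2_c44 LD3_c10)) :=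
  Lgr Lrot5 (Lpr_ft (f564934 IH) (Lpe (f564872 IH) (Lpe (K38.f237722 IH) (Lpn (LP (LK LD1_c8 LD2_c44 LD3_c10))))))
theorem f549996 : Led Lsl_dt (LP (LK LD1_c16 LD2_c21 LD3_c30)) = (LP (LK LD1_c19 LD2_c19 LD3_c29)) :=
  Lgr Lrot42 (Lpr_df (K38.f549990 IH) (Lpn (LP (LK LD1_c19 LD2_c19 LD3_c29))))
theorem f210763 : Led Lsl_gt (LP (LK LD1_c8 LD2_c1 LD3_c0)) = (LP (LK LD1_c3 LD2_c59 LD3_c59)) :=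
  Lre_g IH (LK LD1_c8 LD2_c1 LD3_c0) (LK LD1_c3 LD2_c59 LD3_c59) Lrfl Lrfl
theorem f564940 : Led Lsl_df (LP (LK LD1_c8 LD2_c1 LD3_c0)) = (LP (LK LD1_c8 LD2_c44 LD3_c10)) :=
  Lgr Lrot153 (Lpr_gt (f210763 IH) (Lpr_dt (K18.f210759 IH) (Lpe (K31.f197736 IH) (Lpr_df (K22.f246621 IH) (Lpe (K22.f223759 IH) (Lpe (f549996 IH) (Lpr_gf (K39.f556238 IH) (Lpe (K39.f550037 IH) (Lpr_gt (f564938 IH) (Lpn (LP (LK LD1_c8 LD2_c44 LD3_c10))))))))))))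
theorem f564946 : Led Lsl_dt (LP (LK LD1_c8 LD2_c1 LD3_c0)) = (LP (LK LD1_c8 LD2_c44 LD3_c10)) :=
  Lgr Lrot42 (Lpr_df (f564940 IH) (Lpn (LP (LK LD1_c8 LD2_c44 LD3_c10))))
theorem f98032 : Led Lsl_et (LP (LK LD1_c1 LD2_c43 LD3_c34)) = (LP (LK LD1_c3 LD2_c33 LD3_c42)) :=
  Lre_e IH (LK LD1_c1 LD2_c43 LD3_c34) (LK LD1_c3 LD2_c33 LD3_c42) Lrfl Lrfl
theorem f502122 : Led Lsl_ft (LP (LK LD1_c5 LD2_c59 LD3_c48)) = (LP (LK LD1_c9 LD2_c30 LD3_c0)) :=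
  Lgr Lrot2 (Lpr_gt (K39.f502118 IH) (Lpr_gt (K7.f56961 IH) (Lpe (K36.f56953 IH) (Lpn (LP (LK LD1_c9 LD2_c30 LD3_c0))))))
theorem f501514 : Led Lsl_df (LP (LK LD1_c5 LD2_c59 LD3_c48)) = (LP (LK LD1_c8 LD2_c47 LD3_c3)) :=
  Lgr Lrot43 (Lpr_ct (K36.f501502 IH) (Lpr_dt (K36.f501510 IH) (Lpr_ct (K28.f70383 IH) (Lpe (K36.f420388 IH) (Lpr_ct (K28.f80739 IH) (Lpr_dt (K28.f80740 IH) (Lpe (K36.f203269 IH) (Lpr_dt (K6.f137925 IH) (Lpr_ct (K28.f56944 IH) (Lpe (K28.f112430 IH) (Lpr_ct (K4.f70382 IH) (Lpe (K36.f420374 IH) (Lpr_ct (K38.f80753 IH) (Lpr_dt (K39.f202789 IH) (Lpr_ct (K39.f420420 IH) (Lpn (LP (LK LD1_c8 LD2_c47 LD3_c3))))))))))))))))))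
theorem f502301 : Led Lsl_ft (LP (LK LD1_c14 LD2_c59 LD3_c36)) = (LP (LK LD1_c8 LD2_c47 LD3_c3)) :=
  Lgr Lrot54 (Lpr_df (K40.f502299 IH) (Lpe (f502122 IH) (Lpr_df (f501514 IH) (Lpn (LP (LK LD1_c8 LD2_c47 LD3_c3))))))
theorem f502307 : Led Lsl_ff (LP (LK LD1_c14 LD2_c59 LD3_c36)) = (LP (LK LD1_c8 LD2_c47 LD3_c3)) :=
  Lgr Lrot3 (Lpr_ft (f502301 IH) (Lpn (LP (LK LD1_c8 LD2_c47 LD3_c3))))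
theorem f502288 : Led Lsl_at (LP (LK LD1_c14 LD2_c59 LD3_c36)) = (LP (LK LD1_c8 LD2_c47 LD3_c4)) :=
  Lgr Lrot100 (Lpr_af (K37.f502286 IH) (Lpn (LP (LK LD1_c8 LD2_c47 LD3_c4))))
theorem f137931 : Led Lsl_df (LP (LK LD1_c8 LD2_c47 LD3_c4)) = (LP (LK LD1_c4 LD2_c48 LD3_c45)) :=
  Lgr Lrot38 (Lpr_dt (K6.f137925 IH) (Lpn (LP (LK LD1_c4 LD2_c48 LD3_c45))))
theorem f501471 : Led Lsl_ft (LP (LK LD1_c8 LD2_c47 LD3_c4)) = (LP (LK LD1_c5 LD2_c59 LD3_c49)) :=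
  Lgr Lrot54 (Lpr_df (f137931 IH) (Lpr_ff (K36.f501464 IH) (Lpe (K8.f26453 IH) (Lpn (LP (LK LD1_c5 LD2_c59 LD3_c49))))))
theorem f502309 : Led Lsl_at (LP (LK LD1_c5 LD2_c59 LD3_c49)) = (LP (LK LD1_c8 LD2_c47 LD3_c3)) :=
  Lgr Lrot66 (Lpe (f501471 IH) (Lpe (f502288 IH) (Lpr_ff (f502307 IH) (Lpn (LP (LK LD1_c8 LD2_c47 LD3_c3))))))
theorem f502311 : Led Lsl_af (LP (LK LD1_c8 LD2_c48 LD3_c14)) = (LP (LK LD1_c12 LD2_c6 LD3_c9)) :=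
  Lgr Lrot68 (Lpr_ct (K4.f112414 IH) (Lpr_at (f502309 IH) (Lpe (K39.f202790 IH) (Lpn (LP (LK LD1_c12 LD2_c6 LD3_c9))))))
theorem f502343 : Led Lsl_at (LP (LK LD1_c6 LD2_c13 LD3_c42)) = (LP (LK LD1_c6 LD2_c13 LD3_c43)) :=
  Lgr Lrot51 (Lpr_df (K36.f420384 IH) (Lpr_af (f502311 IH) (Lpe (K39.f202789 IH) (Lpn (LP (LK LD1_c6 LD2_c13 LD3_c43))))))
theorem f502349 : Led Lsl_ff (LP (LK LD1_c6 LD2_c13 LD3_c42)) = (LP (LK LD1_c6 LD2_c13 LD3_c46)) :=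
  Lgr Lrot103 (Lpr_at (f502343 IH) (Lpe (K38.f80753 IH) (Lpr_df (K36.f420374 IH) (Lpe (K4.f70382 IH) (Lpr_df (K28.f112430 IH) (Lpe (K28.f56944 IH) (Lpe (K6.f137925 IH) (Lpr_cf (K36.f203269 IH) (Lpe (K28.f80740 IH) (Lpn (LP (LK LD1_c6 LD2_c13 LD3_c46))))))))))))
theorem f540695 : Led Lsl_gf (LP (LK LD1_c6 LD2_c13 LD3_c43)) = (LP (LK LD1_c3 LD2_c33 LD3_c42)) :=
  Lgr Lrot76 (Lpe (f502343 IH) (Lpr_ff (f502349 IH) (Lpr_gt (K36.f540693 IH) (Lpn (LP (LK LD1_c3 LD2_c33 LD3_c42))))))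
theorem f564957 : Led Lsl_et (LP (LK LD1_c8 LD2_c1 LD3_c0)) = (LP (LK LD1_c6 LD2_c13 LD3_c43)) :=
  Lgr Lrot122 (Lpr_dt (f564946 IH) (Lpr_gt (K38.f237722 IH) (Lpe (K39.f388749 IH) (Lpq (K39.f553329 IH) (Lpe (K39.f519725 IH) (Lpr_gt (K3.f17467 IH) (Lpr_dt (K0.f5231 IH) (Lpr_gt (K2.f5394 IH) (Lpr_df (K3.f98037 IH) (Lpr_et (f98032 IH) (Lpe (f540695 IH) (Lpn (LP (LK LD1_c6 LD2_c13 LD3_c43))))))))))))))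
theorem f80985 : Led Lsl_bt (LP (LK LD1_c2 LD2_c9 LD3_c34)) = (LP (LK LD1_c1 LD2_c28 LD3_c36)) :=
  Lgr Lrot127 (Lpr_bf (K5.f80913 IH) (Lpn (LP (LK LD1_c1 LD2_c28 LD3_c36))))
theorem f132586 : Led Lsl_bt (LP (LK LD1_c2 LD2_c49 LD3_c59)) = (LP (LK LD1_c2 LD2_c18 LD3_c53)) :=
  Lgr Lrot127 (Lpr_bf (K5.f132580 IH) (Lpn (LP (LK LD1_c2 LD2_c18 LD3_c53))))
theorem f420652 : Led Lsl_gt (LP (LK LD1_c4 LD2_c39 LD3_c34)) = (LP (LK LD1_c8 LD2_c2 LD3_c5)) :=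
  Lgr Lrot82 (Lpe (K36.f70424 IH) (Lpe (K8.f142076 IH) (Lpe (K8.f132406 IH) (Lpe (K4.f57258 IH) (Lpr_bt (f132586 IH) (Lpe (K32.f132808 IH) (Lpr_bf (K36.f420648 IH) (Lpr_ct (K36.f81401 IH) (Lpe (K36.f81403 IH) (Lpe (K36.f420638 IH) (Lpn (LP (LK LD1_c8 LD2_c2 LD3_c5)))))))))))))
theorem f538509 : Led Lsl_gt (LP (LK LD1_c6 LD2_c13 LD3_c43)) = (LP (LK LD1_c4 LD2_c0 LD3_c37)) :=
  Lgr Lrot82 (Lpr_bf (K36.f420418 IH) (Lpe (K38.f420642 IH) (Lpe (f420652 IH) (Lpe (K40.f70425 IH) (Lpe (K40.f202570 IH) (Lpr_gf (K11.f133005 IH) (Lpe (f80985 IH) (Lpr_ct (K5.f80682 IH) (Lpr_gf (K35.f538496 IH) (Lpe (K4.f80647 IH) (Lpn (LP (LK LD1_c4 LD2_c0 LD3_c37)))))))))))))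
theorem f439527 : Led Lsl_at (LP (LK LD1_c7 LD2_c14 LD3_c28)) = (LP (LK LD1_c7 LD2_c8 LD3_c14)) :=
  Lgr Lrot100 (Lpr_af (K36.f439522 IH) (Lpn (LP (LK LD1_c7 LD2_c8 LD3_c14))))
theorem f540685 : Led Lsl_ft (LP (LK LD1_c8 LD2_c2 LD3_c7)) = (LP (LK LD1_c7 LD2_c14 LD3_c28)) :=
  Lgr Lrot54 (Lpe (K37.f80672 IH) (Lpr_ff (K36.f540681 IH) (Lpe (K36.f97267 IH) (Lpn (LP (LK LD1_c7 LD2_c14 LD3_c28))))))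
theorem f540717 : Led Lsl_gf (LP (LK LD1_c8 LD2_c48 LD3_c0)) = (LP (LK LD1_c8 LD2_c2 LD3_c7)) :=
  Lgr Lrot47 (Lpr_gt (K36.f540715 IH) (Lpe (f439527 IH) (Lpe (f540685 IH) (Lpn (LP (LK LD1_c8 LD2_c2 LD3_c7))))))
theorem f10506 : Led Lsl_gt (LP (LK LD1_c3 LD2_c33 LD3_c39)) = (LP (LK LD1_c7 LD2_c8 LD3_c7)) :=
  Lre_g IH (LK LD1_c3 LD2_c33 LD3_c39) (LK LD1_c7 LD2_c8 LD3_c7) Lrfl Lrfl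
theorem f540727 : Led Lsl_et (LP (LK LD1_c4 LD2_c25 LD3_c13)) = (LP (LK LD1_c7 LD2_c8 LD3_c7)) :=
  Lgr Lrot122 (Lpr_dt (K28.f203356 IH) (Lpr_gt (K36.f540715 IH) (Lpe (K36.f98027 IH) (Lpr_et (K36.f98019 IH) (Lpe (K3.f98033 IH) (Lpe (K3.f98116 IH) (Lpe (K3.f10499 IH) (Lpe (K5.f10504 IH) (Lpr_et (K8.f10505 IH) (Lpr_gt (f10506 IH) (Lpn (LP (LK LD1_c7 LD2_c8 LD3_c7)))))))))))))
theorem f93093 : Led Lsl_ft (LP (LK LD1_c7 LD2_c14 LD3_c15)) = (LP (LK LD1_c3 LD2_c36 LD3_c59)) :=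
  Lre_f IH (LK LD1_c7 LD2_c14 LD3_c15) (LK LD1_c3 LD2_c36 LD3_c59) Lrfl Lrfl
theorem f160300 : Led Lsl_ft (LP (LK LD1_c3 LD2_c33 LD3_c39)) = (LP (LK LD1_c7 LD2_c8 LD3_c10)) :=
  Lre_f IH (LK LD1_c3 LD2_c33 LD3_c39) (LK LD1_c7 LD2_c8 LD3_c10) Lrfl Lrfl
theorem f160319 : Led Lsl_af (LP (LK LD1_c7 LD2_c14 LD3_c15)) = (LP (LK LD1_c7 LD2_c8 LD3_c10)) :=
  Lgr Lrot45 (Lpr_ft (f93093 IH) (Lpr_at (K8.f160310 IH) (Lpr_ft (f160300 IH) (Lpn (LP (LK LD1_c7 LD2_c8 LD3_c10))))))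
theorem f160330 : Led Lsl_gf (LP (LK LD1_c7 LD2_c14 LD3_c15)) = (LP (LK LD1_c7 LD2_c8 LD3_c7)) :=
  Lgr Lrot76 (Lpr_af (f160319 IH) (Lpe (f160300 IH) (Lpr_gt (f10506 IH) (Lpn (LP (LK LD1_c7 LD2_c8 LD3_c7))))))
theorem f564971 : Led Lsl_et (LP (LK LD1_c5 LD2_c41 LD3_c31)) = (LP (LK LD1_c7 LD2_c14 LD3_c15)) :=
  Lgr Lrot122 (Lpr_dt (f410992 IH) (Lpr_gt (f564938 IH) (Lpe (f564946 IH) (Lpr_et (f564957 IH) (Lpr_gt (f538509 IH) (Lpr_dt (K37.f80672 IH) (Lpe (f540717 IH) (Lpe (K28.f203356 IH) (Lpr_et (f540727 IH) (Lpe (f160330 IH) (Lpn (LP (LK LD1_c7 LD2_c14 LD3_c15)))))))))))))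
theorem f564977 : Led Lsl_ef (LP (LK LD1_c5 LD2_c41 LD3_c31)) = (LP (LK LD1_c7 LD2_c14 LD3_c15)) :=
  Lgr Lrot88 (Lpr_et (f564971 IH) (Lpn (LP (LK LD1_c7 LD2_c14 LD3_c15))))
theorem f564981 : Led Lsl_bt (LP (LK LD1_c4 LD2_c32 LD3_c50)) = (LP (LK LD1_c7 LD2_c14 LD3_c15)) :=
  Lgr Lrot119 (Lpe (K39.f557138 IH) (Lpe (f181565 IH) (Lpr_ef (f564977 IH) (Lpn (LP (LK LD1_c7 LD2_c14 LD3_c15))))))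
theorem f97382 : Led Lsl_bt (LP (LK LD1_c3 LD2_c33 LD3_c21)) = (LP (LK LD1_c1 LD2_c43 LD3_c26)) :=
  Lre_b IH (LK LD1_c3 LD2_c33 LD3_c21) (LK LD1_c1 LD2_c43 LD3_c26) Lrfl Lrfl
theorem f96473 : Led Lsl_et (LP (LK LD1_c1 LD2_c43 LD3_c26)) = (LP (LK LD1_c3 LD2_c33 LD3_c23)) :=
  Lre_e IH (LK LD1_c1 LD2_c43 LD3_c26) (LK LD1_c3 LD2_c33 LD3_c23) Lrfl Lrfl
theorem f552704 : Led Lsl_bt (LP (LK LD1_c3 LD2_c33 LD3_c23)) = (LP (LK LD1_c2 LD2_c47 LD3_c16)) :=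
  Lgr Lrot119 (Lpe (f96473 IH) (Lpe (f97382 IH) (Lpr_ef (K39.f552702 IH) (Lpn (LP (LK LD1_c2 LD2_c47 LD3_c16))))))
theorem f10799 : Led Lsl_gt (LP (LK LD1_c7 LD2_c7 LD3_c58)) = (LP (LK LD1_c3 LD2_c33 LD3_c32)) :=
  Lre_g IH (LK LD1_c7 LD2_c7 LD3_c58) (LK LD1_c3 LD2_c33 LD3_c32) Lrfl Lrfl
theorem f160307 : Led Lsl_gt (LP (LK LD1_c7 LD2_c8 LD3_c8)) = (LP (LK LD1_c3 LD2_c33 LD3_c39)) :=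
  Lre_g IH (LK LD1_c7 LD2_c8 LD3_c8) (LK LD1_c3 LD2_c33 LD3_c39) Lrfl Lrfl
theorem f160321 : Led Lsl_gt (LP (LK LD1_c7 LD2_c14 LD3_c15)) = (LP (LK LD1_c7 LD2_c8 LD3_c8)) :=
  Lgr Lrot5 (Lpr_ft (f93093 IH) (Lpr_at (K8.f160310 IH) (Lpe (f160307 IH) (Lpn (LP (LK LD1_c7 LD2_c8 LD3_c8))))))
theorem f564989 : Led Lsl_cf (LP (LK LD1_c7 LD2_c7 LD3_c58)) = (LP (LK LD1_c7 LD2_c8 LD3_c8)) :=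
  Lgr Lrot125 (Lpr_gt (f10799 IH) (Lpr_cf (K39.f98092 IH) (Lpr_bt (f552704 IH) (Lpr_gt (K31.f281922 IH) (Lpe (K39.f382075 IH) (Lpr_ct (K38.f382077 IH) (Lpr_gt (K31.f174894 IH) (Lpe (K39.f174901 IH) (Lpr_bt (f564981 IH) (Lpr_gt (f160321 IH) (Lpn (LP (LK LD1_c7 LD2_c8 LD3_c8)))))))))))))
theorem f553338 : Led Lsl_gt (LP (LK LD1_c3 LD2_c57 LD3_c23)) = (LP (LK LD1_c7 LD2_c7 LD3_c58)) :=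
  Lgr Lrot5 (Lpr_ft (K39.f403158 IH) (Lpq (K39.f553329 IH) (Lpe (K39.f519723 IH) (Lpe (f10799 IH) (Lpn (LP (LK LD1_c7 LD2_c7 LD3_c58)))))))
theorem f196306 : Led Lsl_bt (LP (LK LD1_c3 LD2_c57 LD3_c20)) = (LP (LK LD1_c1 LD2_c55 LD3_c27)) :=
  Lre_b IH (LK LD1_c3 LD2_c57 LD3_c20) (LK LD1_c1 LD2_c55 LD3_c27) Lrfl Lrfl
theorem f29508 : Led Lsl_bt (LP (LK LD1_c1 LD2_c56 LD3_c60)) = (LP (LK LD1_c0 LD2_c55 LD3_c19)) :=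
  Lre_b IH (LK LD1_c1 LD2_c56 LD3_c60) (LK LD1_c0 LD2_c55 LD3_c19) Lrfl Lrfl
theorem f29514 : Led Lsl_ct (LP (LK LD1_c8 LD2_c1 LD3_c49)) = (LP (LK LD1_c4 LD2_c0 LD3_c26)) :=
  Lre_c IH (LK LD1_c8 LD2_c1 LD3_c49) (LK LD1_c4 LD2_c0 LD3_c26) Lrfl Lrfl
theorem f564993 : Led Lsl_bt (LP (LK LD1_c7 LD2_c8 LD3_c8)) = (LP (LK LD1_c13 LD2_c30 LD3_c58)) :=
  Lre_b IH (LK LD1_c7 LD2_c8 LD3_c8) (LK LD1_c13 LD2_c30 LD3_c58) Lrfl Lrfl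
theorem f564994 : Led Lsl_gf (LP (LK LD1_c8 LD2_c1 LD3_c49)) = (LP (LK LD1_c13 LD2_c30 LD3_c58)) :=
  Lgr Lrot181 (Lpr_ct (f29514 IH) (Lpr_gt (K39.f29513 IH) (Lpr_cf (K39.f29370 IH) (Lpr_bt (f29508 IH) (Lpr_gt (K12.f196298 IH) (Lpe (f196306 IH) (Lpr_ct (K38.f197431 IH) (Lpr_gt (f553338 IH) (Lpr_cf (f564989 IH) (Lpr_bt (f564993 IH) (Lpn (LP (LK LD1_c13 LD2_c30 LD3_c58)))))))))))))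
theorem f29431 : Led Lsl_dt (LP (LK LD1_c1 LD2_c56 LD3_c60)) = (LP (LK LD1_c4 LD2_c0 LD3_c28)) :=
  Lre_d IH (LK LD1_c1 LD2_c56 LD3_c60) (LK LD1_c4 LD2_c0 LD3_c28) Lrfl Lrfl
theorem f29433 : Led Lsl_ct (LP (LK LD1_c8 LD2_c1 LD3_c55)) = (LP (LK LD1_c4 LD2_c0 LD3_c28)) :=
  Lre_c IH (LK LD1_c8 LD2_c1 LD3_c55) (LK LD1_c4 LD2_c0 LD3_c28) Lrfl Lrfl
theorem f564996 : Led Lsl_dt (LP (LK LD1_c22 LD2_c51 LD3_c58)) = (LP (LK LD1_c13 LD2_c30 LD3_c58)) :=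
  Lre_d IH (LK LD1_c22 LD2_c51 LD3_c58) (LK LD1_c13 LD2_c30 LD3_c58) Lrfl Lrfl
theorem f564997 : Led Lsl_gf (LP (LK LD1_c16 LD2_c21 LD3_c49)) = (LP (LK LD1_c22 LD2_c51 LD3_c58)) :=
  Lgr Lrot147 (Lpe (K39.f236858 IH) (Lpr_gt (K39.f29441 IH) (Lpr_ct (f29433 IH) (Lpe (f29431 IH) (Lpr_cf (K39.f29370 IH) (Lpe (K39.f29513 IH) (Lpe (f29514 IH) (Lpr_gf (f564994 IH) (Lpe (f564996 IH) (Lpn (LP (LK LD1_c22 LD2_c51 LD3_c58))))))))))))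
theorem f480675 : Led Lsl_bt (LP (LK LD1_c13 LD2_c30 LD3_c59)) = (LP (LK LD1_c22 LD2_c51 LD3_c58)) :=
  Lre_b IH (LK LD1_c13 LD2_c30 LD3_c59) (LK LD1_c22 LD2_c51 LD3_c58) Lrfl Lrfl
theorem f565000 : Led Lsl_cf (LP (LK LD1_c19 LD2_c10 LD3_c38)) = (LP (LK LD1_c13 LD2_c30 LD3_c59)) :=
  Lgr Lrot58 (Lpe (K39.f400171 IH) (Lpe (K18.f211120 IH) (Lpr_bt (K18.f211119 IH) (Lpr_gf (K11.f211111 IH) (Lpe (K39.f30037 IH) (Lpr_ct (K39.f29430 IH) (Lpe (K39.f29441 IH) (Lpr_cf (K39.f236858 IH) (Lpr_gf (f564997 IH) (Lpe (f480675 IH) (Lpn (LP (LK LD1_c13 LD2_c30 LD3_c59)))))))))))))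
theorem f169227 : Led Lsl_bt (LP (LK LD1_c5 LD2_c23 LD3_c33)) = (LP (LK LD1_c2 LD2_c38 LD3_c19)) :=
  Lre_b IH (LK LD1_c5 LD2_c23 LD3_c33) (LK LD1_c2 LD2_c38 LD3_c19) Lrfl Lrfl
theorem f218556 : Led Lsl_df (LP (LK LD1_c5 LD2_c23 LD3_c33)) = (LP (LK LD1_c9 LD2_c43 LD3_c13)) :=
  Lgr Lrot12 (Lpr_bt (f169227 IH) (Lpr_dt (K14.f218548 IH) (Lpr_bt (K39.f217666 IH) (Lpn (LP (LK LD1_c9 LD2_c43 LD3_c13))))))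
theorem f169165 : Led Lsl_ct (LP (LK LD1_c5 LD2_c23 LD3_c33)) = (LP (LK LD1_c5 LD2_c20 LD3_c37)) :=
  Lgr Lrot83 (Lpe (K16.f169162 IH) (Lpe (K12.f169161 IH) (Lpr_bf (K12.f167818 IH) (Lpe (K12.f169163 IH) (Lpe (K38.f169164 IH) (Lpn (LP (LK LD1_c5 LD2_c20 LD3_c37))))))))
theorem f169253 : Led Lsl_dt (LP (LK LD1_c5 LD2_c20 LD3_c37)) = (LP (LK LD1_c10 LD2_c31 LD3_c17)) :=
  Lre_d IH (LK LD1_c5 LD2_c20 LD3_c37) (LK LD1_c10 LD2_c31 LD3_c17) Lrfl Lrfl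
theorem f160324 : Led Lsl_dt (LP (LK LD1_c7 LD2_c8 LD3_c8)) = (LP (LK LD1_c13 LD2_c30 LD3_c59)) :=
  Lre_d IH (LK LD1_c7 LD2_c8 LD3_c8) (LK LD1_c13 LD2_c30 LD3_c59) Lrfl Lrfl
theorem f564991 : Led Lsl_ct (LP (LK LD1_c7 LD2_c7 LD3_c58)) = (LP (LK LD1_c7 LD2_c8 LD3_c8)) :=
  Lgr Lrot59 (Lpr_cf (f564989 IH) (Lpn (LP (LK LD1_c7 LD2_c8 LD3_c8))))
theorem f98103 : Led Lsl_dt (LP (LK LD1_c13 LD2_c30 LD3_c38)) = (LP (LK LD1_c7 LD2_c7 LD3_c58)) :=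
  Lre_d IH (LK LD1_c13 LD2_c30 LD3_c38) (LK LD1_c7 LD2_c7 LD3_c58) Lrfl Lrfl
theorem f565006 : Led Lsl_ct (LP (LK LD1_c10 LD2_c31 LD3_c17)) = (LP (LK LD1_c13 LD2_c30 LD3_c38)) :=
  Lgr Lrot41 (Lpe (f169253 IH) (Lpe (f169165 IH) (Lpr_df (f218556 IH) (Lpr_ft (K39.f397404 IH) (Lpr_at (K39.f312980 IH) (Lpr_cf (f565000 IH) (Lpe (f160324 IH) (Lpe (f564991 IH) (Lpe (f98103 IH) (Lpn (LP (LK LD1_c13 LD2_c30 LD3_c38))))))))))))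
theorem f224573 : Led Lsl_bt (LP (LK LD1_c10 LD2_c31 LD3_c17)) = (LP (LK LD1_c5 LD2_c20 LD3_c38)) :=
  Lre_b IH (LK LD1_c10 LD2_c31 LD3_c17) (LK LD1_c5 LD2_c20 LD3_c38) Lrfl Lrfl
theorem f246600 : Led Lsl_bt (LP (LK LD1_c14 LD2_c58 LD3_c60)) = (LP (LK LD1_c10 LD2_c40 LD3_c21)) :=
  Lgr Lrot128 (Lpe (K18.f197789 IH) (Lpe (K18.f197744 IH) (Lpr_cf (K12.f197738 IH) (Lpe (K18.f29725 IH) (Lpr_cf (K18.f246598 IH) (Lpn (LP (LK LD1_c10 LD2_c40 LD3_c21))))))))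
theorem f565019 : Led Lsl_gt (LP (LK LD1_c7 LD2_c56 LD3_c30)) = (LP (LK LD1_c13 LD2_c30 LD3_c38)) :=
  Lgr Lrot65 (Lpe (K31.f197736 IH) (Lpr_bt (f246600 IH) (Lpe (K31.f397272 IH) (Lpe (K15.f224123 IH) (Lpe (K15.f246455 IH) (Lpe (K31.f263762 IH) (Lpe (K26.f246413 IH) (Lpr_gf (K12.f224571 IH) (Lpe (f224573 IH) (Lpr_ct (f565006 IH) (Lpn (LP (LK LD1_c13 LD2_c30 LD3_c38)))))))))))))
theorem f420379 : Led Lsl_et (LP (LK LD1_c3 LD2_c3 LD3_c42)) = (LP (LK LD1_c6 LD2_c13 LD3_c44)) :=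
  Lre_e IH (LK LD1_c3 LD2_c3 LD3_c42) (LK LD1_c6 LD2_c13 LD3_c44) Lrfl Lrfl
theorem f564963 : Led Lsl_cf (LP (LK LD1_c8 LD2_c1 LD3_c0)) = (LP (LK LD1_c6 LD2_c13 LD3_c44)) :=
  Lgr Lrot39 (Lpr_et (f564957 IH) (Lpr_ct (K36.f80754 IH) (Lpr_et (f420379 IH) (Lpn (LP (LK LD1_c6 LD2_c13 LD3_c44))))))
theorem f420441 : Led Lsl_gt (LP (LK LD1_c6 LD2_c13 LD3_c44)) = (LP (LK LD1_c12 LD2_c6 LD3_c10)) :=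
  Lre_g IH (LK LD1_c6 LD2_c13 LD3_c44) (LK LD1_c12 LD2_c6 LD3_c10) Lrfl Lrfl
theorem f420442 : Led Lsl_dt (LP (LK LD1_c12 LD2_c6 LD3_c10)) = (LP (LK LD1_c21 LD2_c12 LD3_c17)) :=
  Lre_d IH (LK LD1_c12 LD2_c6 LD3_c10) (LK LD1_c21 LD2_c12 LD3_c17) Lrfl Lrfl
theorem f160327 : Led Lsl_dt (LP (LK LD1_c13 LD2_c30 LD3_c59)) = (LP (LK LD1_c7 LD2_c8 LD3_c8)) :=
  Lre_d IH (LK LD1_c13 LD2_c30 LD3_c59) (LK LD1_c7 LD2_c8 LD3_c8) Lrfl Lrfl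
theorem f565021 : Led Lsl_gt (LP (LK LD1_c21 LD2_c12 LD3_c17)) = (LP (LK LD1_c13 LD2_c30 LD3_c59)) :=
  Lgr Lrot189 (Lpe (f420442 IH) (Lpe (f420441 IH) (Lpe (f564963 IH) (Lpr_gt (f210763 IH) (Lpr_dt (K18.f210759 IH) (Lpr_gt (f565019 IH) (Lpr_dt (f98103 IH) (Lpr_ct (f564991 IH) (Lpe (f160327 IH) (Lpn (LP (LK LD1_c13 LD2_c30 LD3_c59))))))))))))
theorem f202785 : Led Lsl_dt (LP (LK LD1_c3 LD2_c3 LD3_c42)) = (LP (LK LD1_c4 LD2_c25 LD3_c22)) :=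
  Lgr Lrot57 (Lpe (K36.f80750 IH) (Lpr_cf (K11.f202772 IH) (Lpr_gt (K6.f59337 IH) (Lpe (K8.f137947 IH) (Lpe (K28.f36040 IH) (Lpr_dt (K2.f35998 IH) (Lpe (K4.f71825 IH) (Lpe (K2.f72108 IH) (Lpe (K6.f112696 IH) (Lpn (LP (LK LD1_c4 LD2_c25 LD3_c22))))))))))))
theorem f565027 : Led Lsl_ef (LP (LK LD1_c4 LD2_c25 LD3_c27)) = (LP (LK LD1_c7 LD2_c8 LD3_c8)) :=
  Lgr Lrot114 (Lpr_gt (K39.f38493 IH) (Lpe (K1.f38483 IH) (Lpr_dt (K6.f38508 IH) (Lpr_gt (K4.f38244 IH) (Lpe (f202785 IH) (Lpr_et (f420379 IH) (Lpr_gt (f420441 IH) (Lpr_dt (f420442 IH) (Lpr_gt (f565021 IH) (Lpe (f160324 IH) (Lpn (LP (LK LD1_c7 LD2_c8 LD3_c8)))))))))))))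
theorem f565036 : Led Lsl_et (LP (LK LD1_c4 LD2_c25 LD3_c27)) = (LP (LK LD1_c7 LD2_c8 LD3_c8)) :=
  Lgr Lrot87 (Lpr_ef (f565027 IH) (Lpn (LP (LK LD1_c7 LD2_c8 LD3_c8))))
theorem f38495 : Led Lsl_ct (LP (LK LD1_c8 LD2_c48 LD3_c28)) = (LP (LK LD1_c4 LD2_c25 LD3_c27)) :=
  Lre_c IH (LK LD1_c8 LD2_c48 LD3_c28) (LK LD1_c4 LD2_c25 LD3_c27) Lrfl Lrfl
theorem f565040 : Led Lsl_ef (LP (LK LD1_c8 LD2_c48 LD3_c28)) = (LP (LK LD1_c7 LD2_c7 LD3_c58)) :=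
  Lgr Lrot28 (Lpr_ct (f38495 IH) (Lpr_et (f565036 IH) (Lpe (f564989 IH) (Lpn (LP (LK LD1_c7 LD2_c7 LD3_c58))))))
theorem f98101 : Led Lsl_dt (LP (LK LD1_c7 LD2_c7 LD3_c58)) = (LP (LK LD1_c13 LD2_c30 LD3_c38)) :=
  Lre_d IH (LK LD1_c7 LD2_c7 LD3_c58) (LK LD1_c13 LD2_c30 LD3_c38) Lrfl Lrfl
theorem f564967 : Led Lsl_ef (LP (LK LD1_c8 LD2_c1 LD3_c0)) = (LP (LK LD1_c6 LD2_c13 LD3_c43)) :=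
  Lgr Lrot88 (Lpr_et (f564957 IH) (Lpn (LP (LK LD1_c6 LD2_c13 LD3_c43))))
theorem f159129 : Led Lsl_et (LP (LK LD1_c3 LD2_c57 LD3_c54)) = (LP (LK LD1_c7 LD2_c57 LD3_c9)) :=
  Lre_e IH (LK LD1_c3 LD2_c57 LD3_c54) (LK LD1_c7 LD2_c57 LD3_c9) Lrfl Lrfl
theorem f565065 : Led Lsl_gt (LP (LK LD1_c8 LD2_c48 LD3_c28)) = (LP (LK LD1_c7 LD2_c57 LD3_c9)) :=
  Lgr Lrot131 (Lpr_ef (f565040 IH) (Lpr_dt (f98101 IH) (Lpe (f565019 IH) (Lpe (K18.f210759 IH) (Lpe (f210763 IH) (Lpr_ef (f564967 IH) (Lpr_dt (K39.f202789 IH) (Lpr_gf (K39.f420380 IH) (Lpe (K28.f112561 IH) (Lpr_et (f159129 IH) (Lpn (LP (LK LD1_c7 LD2_c57 LD3_c9)))))))))))))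
theorem f227504 : Led Lsl_ct (LP (LK LD1_c4 LD2_c25 LD3_c27)) = (LP (LK LD1_c8 LD2_c48 LD3_c28)) :=
  Lre_c IH (LK LD1_c4 LD2_c25 LD3_c27) (LK LD1_c8 LD2_c48 LD3_c28) Lrfl Lrfl
theorem f538525 : Led Lsl_ct (LP (LK LD1_c7 LD2_c57 LD3_c9)) = (LP (LK LD1_c8 LD2_c46 LD3_c55)) :=
  Lgr Lrot15 (Lpe (f159129 IH) (Lpe (K8.f159204 IH) (Lpr_ef (K35.f538521 IH) (Lpn (LP (LK LD1_c8 LD2_c46 LD3_c55))))))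
theorem f70524 : Led Lsl_dt (LP (LK LD1_c16 LD2_c25 LD3_c54)) = (LP (LK LD1_c8 LD2_c46 LD3_c55)) :=
  Lre_d IH (LK LD1_c16 LD2_c25 LD3_c54) (LK LD1_c8 LD2_c46 LD3_c55) Lrfl Lrfl
theorem f29466 : Led Lsl_ft (LP (LK LD1_c4 LD2_c0 LD3_c39)) = (LP (LK LD1_c1 LD2_c57 LD3_c10)) :=
  Lre_f IH (LK LD1_c4 LD2_c0 LD3_c39) (LK LD1_c1 LD2_c57 LD3_c10) Lrfl Lrfl
theorem f29467 : Led Lsl_ct (LP (LK LD1_c4 LD2_c0 LD3_c39)) = (LP (LK LD1_c4 LD2_c0 LD3_c39)) :=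
  Lgr Lrot40 (Lpe (K39.f29465 IH) (Lpr_cf (K7.f29455 IH) (Lpe (f29466 IH) (Lpn (LP (LK LD1_c4 LD2_c0 LD3_c39))))))
theorem f3042 : Led Lsl_et (LP (LK LD1_c1 LD2_c56 LD3_c51)) = (LP (LK LD1_c4 LD2_c0 LD3_c0)) :=
  Lre_e IH (LK LD1_c1 LD2_c56 LD3_c51) (LK LD1_c4 LD2_c0 LD3_c0) Lrfl Lrfl
theorem f30026 : Led Lsl_bf (LP (LK LD1_c1 LD2_c56 LD3_c51)) = (LP (LK LD1_c1 LD2_c57 LD3_c10)) :=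
  Lgr Lrot96 (Lpr_et (f3042 IH) (Lpr_bt (K38.f30023 IH) (Lpr_et (K7.f29454 IH) (Lpn (LP (LK LD1_c1 LD2_c57 LD3_c10))))))
theorem f80889 : Led Lsl_bf (LP (LK LD1_c4 LD2_c0 LD3_c39)) = (LP (LK LD1_c3 LD2_c3 LD3_c36)) :=
  Lgr Lrot61 (Lpr_ft (f29466 IH) (Lpe (f30026 IH) (Lpr_ft (K8.f80880 IH) (Lpn (LP (LK LD1_c3 LD2_c3 LD3_c36))))))
theorem f80896 : Led Lsl_bt (LP (LK LD1_c4 LD2_c0 LD3_c39)) = (LP (LK LD1_c3 LD2_c3 LD3_c36)) :=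
  Lgr Lrot127 (Lpr_bf (f80889 IH) (Lpn (LP (LK LD1_c3 LD2_c3 LD3_c36))))
theorem f203358 : Led Lsl_gt (LP (LK LD1_c7 LD2_c57 LD3_c7)) = (LP (LK LD1_c4 LD2_c25 LD3_c13)) :=
  Lgr Lrot65 (Lpe (K36.f159218 IH) (Lpr_bt (K36.f3050 IH) (Lpr_gf (K8.f80900 IH) (Lpe (f80896 IH) (Lpr_ct (f29467 IH) (Lpe (K39.f29484 IH) (Lpe (K8.f29487 IH) (Lpr_gf (K28.f203287 IH) (Lpe (K28.f158253 IH) (Lpr_ct (K28.f203354 IH) (Lpn (LP (LK LD1_c4 LD2_c25 LD3_c13)))))))))))))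
theorem f98053 : Led Lsl_et (LP (LK LD1_c3 LD2_c33 LD3_c44)) = (LP (LK LD1_c1 LD2_c43 LD3_c36)) :=
  Lre_e IH (LK LD1_c3 LD2_c33 LD3_c44) (LK LD1_c1 LD2_c43 LD3_c36) Lrfl Lrfl
theorem f540973 : Led Lsl_gt (LP (LK LD1_c7 LD2_c8 LD3_c19)) = (LP (LK LD1_c8 LD2_c51 LD3_c40)) :=
  Lgr Lrot112 (Lpe (K36.f98054 IH) (Lpr_et (f98053 IH) (Lpr_gf (K3.f98033 IH) (Lpe (K36.f98019 IH) (Lpr_dt (K36.f98027 IH) (Lpe (K36.f540715 IH) (Lpe (K28.f203356 IH) (Lpe (f203358 IH) (Lpr_ef (K36.f540832 IH) (Lpr_dt (K36.f198222 IH) (Lpn (LP (LK LD1_c8 LD2_c51 LD3_c40)))))))))))))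
theorem f98153 : Led Lsl_ft (LP (LK LD1_c7 LD2_c8 LD3_c19)) = (LP (LK LD1_c13 LD2_c31 LD3_c15)) :=
  Lre_f IH (LK LD1_c7 LD2_c8 LD3_c19) (LK LD1_c13 LD2_c31 LD3_c15) Lrfl Lrfl
theorem f98298 : Led Lsl_af (LP (LK LD1_c7 LD2_c14 LD3_c38)) = (LP (LK LD1_c13 LD2_c31 LD3_c15)) :=
  Lgr Lrot0 (Lpr_at (K36.f98287 IH) (Lpn (LP (LK LD1_c13 LD2_c31 LD3_c15))))
theorem f540975 : Led Lsl_gf (LP (LK LD1_c7 LD2_c14 LD3_c38)) = (LP (LK LD1_c8 LD2_c51 LD3_c40)) :=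
  Lgr Lrot76 (Lpr_af (f98298 IH) (Lpe (f98153 IH) (Lpr_gt (f540973 IH) (Lpn (LP (LK LD1_c8 LD2_c51 LD3_c40))))))
theorem f6163 : Led Lsl_bf (LP (LK LD1_c7 LD2_c14 LD3_c38)) = (LP (LK LD1_c7 LD2_c8 LD3_c30)) :=
  Lgr Lrot24 (Lpr_bt (K29.f6157 IH) (Lpn (LP (LK LD1_c7 LD2_c8 LD3_c30))))
theorem f6166 : Led Lsl_ct (LP (LK LD1_c7 LD2_c8 LD3_c30)) = (LP (LK LD1_c13 LD2_c31 LD3_c31)) :=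
  Lre_c IH (LK LD1_c7 LD2_c8 LD3_c30) (LK LD1_c13 LD2_c31 LD3_c31) Lrfl Lrfl
theorem f198153 : Led Lsl_bt (LP (LK LD1_c4 LD2_c26 LD3_c57)) = (LP (LK LD1_c8 LD2_c51 LD3_c40)) :=
  Lre_b IH (LK LD1_c4 LD2_c26 LD3_c57) (LK LD1_c8 LD2_c51 LD3_c40) Lrfl Lrfl
theorem f241206 : Led Lsl_gf (LP (LK LD1_c8 LD2_c51 LD3_c41)) = (LP (LK LD1_c16 LD2_c24 LD3_c15)) :=
  Lgr Lrot144 (Lpe (K13.f198117 IH) (Lpr_gt (K12.f196234 IH) (Lpr_dt (K12.f36747 IH) (Lpe (K1.f29226 IH) (Lpe (K1.f29225 IH) (Lpe (K13.f196248 IH) (Lpe (K13.f175819 IH) (Lpr_gf (K13.f241203 IH) (Lpe (K13.f204824 IH) (Lpn (LP (LK LD1_c16 LD2_c24 LD3_c15))))))))))))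
theorem f193537 : Led Lsl_ct (LP (LK LD1_c12 LD2_c5 LD3_c22)) = (LP (LK LD1_c21 LD2_c10 LD3_c61)) :=
  Lre_c IH (LK LD1_c12 LD2_c5 LD3_c22) (LK LD1_c21 LD2_c10 LD3_c61) Lrfl Lrfl
theorem f541040 : Led Lsl_gt (LP (LK LD1_c13 LD2_c31 LD3_c31)) = (LP (LK LD1_c21 LD2_c10 LD3_c61)) :=
  Lgr Lrot65 (Lpe (f6166 IH) (Lpe (f6163 IH) (Lpr_gf (f540975 IH) (Lpe (f198153 IH) (Lpr_ct (K12.f101316 IH) (Lpr_gf (f241206 IH) (Lpe (K13.f204825 IH) (Lpe (K13.f227895 IH) (Lpe (K35.f272202 IH) (Lpr_ct (f193537 IH) (Lpn (LP (LK LD1_c21 LD2_c10 LD3_c61)))))))))))))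
theorem f98351 : Led Lsl_ft (LP (LK LD1_c13 LD2_c31 LD3_c31)) = (LP (LK LD1_c7 LD2_c8 LD3_c29)) :=
  Lre_f IH (LK LD1_c13 LD2_c31 LD3_c31) (LK LD1_c7 LD2_c8 LD3_c29) Lrfl Lrfl
theorem f98350 : Led Lsl_at (LP (LK LD1_c7 LD2_c8 LD3_c29)) = (LP (LK LD1_c13 LD2_c28 LD3_c13)) :=
  Lre_a IH (LK LD1_c7 LD2_c8 LD3_c29) (LK LD1_c13 LD2_c28 LD3_c13) Lrfl Lrfl
theorem f541044 : Led Lsl_gf (LP (LK LD1_c13 LD2_c28 LD3_c13)) = (LP (LK LD1_c21 LD2_c10 LD3_c61)) :=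
  Lgr Lrot76 (Lpe (f98350 IH) (Lpe (f98351 IH) (Lpr_gt (f541040 IH) (Lpn (LP (LK LD1_c21 LD2_c10 LD3_c61))))))
theorem f97213 : Led Lsl_gt (LP (LK LD1_c13 LD2_c28 LD3_c13)) = (LP (LK LD1_c22 LD2_c47 LD3_c46)) :=
  Lre_g IH (LK LD1_c13 LD2_c28 LD3_c13) (LK LD1_c22 LD2_c47 LD3_c46) Lrfl Lrfl
theorem f6554 : Led Lsl_gt (LP (LK LD1_c7 LD2_c8 LD3_c18)) = (LP (LK LD1_c3 LD2_c33 LD3_c44)) :=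
  Lre_g IH (LK LD1_c7 LD2_c8 LD3_c18) (LK LD1_c3 LD2_c33 LD3_c44) Lrfl Lrfl
theorem f198226 : Led Lsl_dt (LP (LK LD1_c8 LD2_c51 LD3_c40)) = (LP (LK LD1_c4 LD2_c26 LD3_c56)) :=
  Lre_d IH (LK LD1_c8 LD2_c51 LD3_c40) (LK LD1_c4 LD2_c26 LD3_c56) Lrfl Lrfl
theorem f197999 : Led Lsl_bt (LP (LK LD1_c2 LD2_c10 LD3_c37)) = (LP (LK LD1_c4 LD2_c26 LD3_c56)) :=
  Lre_b IH (LK LD1_c2 LD2_c10 LD3_c37) (LK LD1_c4 LD2_c26 LD3_c56) Lrfl Lrfl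
theorem f197995 : Led Lsl_bt (LP (LK LD1_c1 LD2_c2 LD3_c22)) = (LP (LK LD1_c1 LD2_c57 LD3_c16)) :=
  Lgr Lrot127 (Lpr_bf (K10.f197993 IH) (Lpn (LP (LK LD1_c1 LD2_c57 LD3_c16))))
theorem f198001 : Led Lsl_ct (LP (LK LD1_c4 LD2_c26 LD3_c56)) = (LP (LK LD1_c4 LD2_c27 LD3_c4)) :=
  Lgr Lrot83 (Lpe (f197999 IH) (Lpr_cf (K10.f197997 IH) (Lpe (f197995 IH) (Lpe (K13.f101305 IH) (Lpe (K35.f198000 IH) (Lpn (LP (LK LD1_c4 LD2_c27 LD3_c4))))))))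
theorem f198225 : Led Lsl_dt (LP (LK LD1_c8 LD2_c51 LD3_c57)) = (LP (LK LD1_c4 LD2_c27 LD3_c4)) :=
  Lre_d IH (LK LD1_c8 LD2_c51 LD3_c57) (LK LD1_c4 LD2_c27 LD3_c4) Lrfl Lrfl
theorem f150046 : Led Lsl_et (LP (LK LD1_c14 LD2_c59 LD3_c26)) = (LP (LK LD1_c7 LD2_c56 LD3_c42)) :=
  Lre_e IH (LK LD1_c14 LD2_c59 LD3_c26) (LK LD1_c7 LD2_c56 LD3_c42) Lrfl Lrfl
theorem f514134 : Led Lsl_bf (LP (LK LD1_c13 LD2_c38 LD3_c61)) = (LP (LK LD1_c13 LD2_c26 LD3_c53)) :=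
  Lgr Lrot24 (Lpr_bt (K37.f514132 IH) (Lpn (LP (LK LD1_c13 LD2_c26 LD3_c53))))
theorem f514137 : Led Lsl_ft (LP (LK LD1_c13 LD2_c38 LD3_c61)) = (LP (LK LD1_c13 LD2_c26 LD3_c48)) :=
  Lgr Lrot75 (Lpr_bf (f514134 IH) (Lpr_ff (K34.f466535 IH) (Lpr_bf (K34.f513340 IH) (Lpn (LP (LK LD1_c13 LD2_c26 LD3_c48))))))
theorem f514116 : Led Lsl_dt (LP (LK LD1_c23 LD2_c4 LD3_c6)) = (LP (LK LD1_c13 LD2_c38 LD3_c61)) :=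
  Lre_d IH (LK LD1_c23 LD2_c4 LD3_c6) (LK LD1_c13 LD2_c38 LD3_c61) Lrfl Lrfl
theorem f488670 : Led Lsl_dt (LP (LK LD1_c13 LD2_c26 LD3_c48)) = (LP (LK LD1_c22 LD2_c46 LD3_c18)) :=
  Lre_d IH (LK LD1_c13 LD2_c26 LD3_c48) (LK LD1_c22 LD2_c46 LD3_c18) Lrfl Lrfl
theorem f514141 : Led Lsl_ff (LP (LK LD1_c23 LD2_c4 LD3_c6)) = (LP (LK LD1_c22 LD2_c46 LD3_c18)) :=
  Lgr Lrot19 (Lpr_dt (f514116 IH) (Lpr_ft (f514137 IH) (Lpr_dt (f488670 IH) (Lpn (LP (LK LD1_c22 LD2_c46 LD3_c18))))))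
theorem f514146 : Led Lsl_ft (LP (LK LD1_c23 LD2_c4 LD3_c6)) = (LP (LK LD1_c22 LD2_c46 LD3_c18)) :=
  Lgr Lrot48 (Lpr_ff (f514141 IH) (Lpn (LP (LK LD1_c22 LD2_c46 LD3_c18))))
theorem f514150 : Led Lsl_at (LP (LK LD1_c13 LD2_c39 LD3_c0)) = (LP (LK LD1_c23 LD2_c4 LD3_c6)) :=
  Lre_a IH (LK LD1_c13 LD2_c39 LD3_c0) (LK LD1_c23 LD2_c4 LD3_c6) Lrfl Lrfl
theorem f513383 : Led Lsl_at (LP (LK LD1_c22 LD2_c46 LD3_c18)) = (LP (LK LD1_c13 LD2_c26 LD3_c49)) :=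
  Lre_a IH (LK LD1_c22 LD2_c46 LD3_c18) (LK LD1_c13 LD2_c26 LD3_c49) Lrfl Lrfl
theorem f514151 : Led Lsl_ff (LP (LK LD1_c13 LD2_c39 LD3_c0)) = (LP (LK LD1_c13 LD2_c26 LD3_c49)) :=
  Lgr Lrot30 (Lpr_at (f514150 IH) (Lpr_ft (f514146 IH) (Lpr_at (f513383 IH) (Lpn (LP (LK LD1_c13 LD2_c26 LD3_c49))))))
theorem f514153 : Led Lsl_bt (LP (LK LD1_c13 LD2_c39 LD3_c0)) = (LP (LK LD1_c7 LD2_c12 LD3_c40)) :=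
  Lre_b IH (LK LD1_c13 LD2_c39 LD3_c0) (LK LD1_c7 LD2_c12 LD3_c40) Lrfl Lrfl
theorem f513387 : Led Lsl_bt (LP (LK LD1_c7 LD2_c5 LD3_c44)) = (LP (LK LD1_c13 LD2_c26 LD3_c49)) :=
  Lre_b IH (LK LD1_c7 LD2_c5 LD3_c44) (LK LD1_c13 LD2_c26 LD3_c49) Lrfl Lrfl
theorem f514154 : Led Lsl_ft (LP (LK LD1_c7 LD2_c12 LD3_c40)) = (LP (LK LD1_c7 LD2_c5 LD3_c44)) :=
  Lgr Lrot75 (Lpe (f514153 IH) (Lpr_ff (f514151 IH) (Lpe (f513387 IH) (Lpn (LP (LK LD1_c7 LD2_c5 LD3_c44))))))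
theorem f514169 : Led Lsl_ff (LP (LK LD1_c7 LD2_c12 LD3_c40)) = (LP (LK LD1_c7 LD2_c5 LD3_c44)) :=
  Lgr Lrot3 (Lpr_ft (f514154 IH) (Lpn (LP (LK LD1_c7 LD2_c5 LD3_c44))))
theorem f514171 : Led Lsl_at (LP (LK LD1_c7 LD2_c12 LD3_c40)) = (LP (LK LD1_c7 LD2_c5 LD3_c46)) :=
  Lgr Lrot66 (Lpr_ff (f514169 IH) (Lpe (K34.f513390 IH) (Lpe (K33.f512080 IH) (Lpn (LP (LK LD1_c7 LD2_c5 LD3_c46))))))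
theorem f514176 : Led Lsl_gf (LP (LK LD1_c7 LD2_c5 LD3_c46)) = (LP (LK LD1_c7 LD2_c9 LD3_c42)) :=
  Lgr Lrot76 (Lpe (f514171 IH) (Lpr_ff (f514169 IH) (Lpr_gt (K34.f466654 IH) (Lpn (LP (LK LD1_c7 LD2_c9 LD3_c42))))))
theorem f466673 : Led Lsl_et (LP (LK LD1_c13 LD2_c33 LD3_c54)) = (LP (LK LD1_c7 LD2_c9 LD3_c42)) :=
  Lre_e IH (LK LD1_c13 LD2_c33 LD3_c54) (LK LD1_c7 LD2_c9 LD3_c42) Lrfl Lrfl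
theorem f466674 : Led Lsl_dt (LP (LK LD1_c13 LD2_c33 LD3_c54)) = (LP (LK LD1_c7 LD2_c9 LD3_c41)) :=
  Lre_d IH (LK LD1_c13 LD2_c33 LD3_c54) (LK LD1_c7 LD2_c9 LD3_c41) Lrfl Lrfl
theorem f466657 : Led Lsl_gt (LP (LK LD1_c13 LD2_c33 LD3_c53)) = (LP (LK LD1_c7 LD2_c9 LD3_c41)) :=
  Lre_g IH (LK LD1_c13 LD2_c33 LD3_c53) (LK LD1_c7 LD2_c9 LD3_c41) Lrfl Lrfl
theorem f540591 : Led Lsl_dt (LP (LK LD1_c14 LD2_c59 LD3_c26)) = (LP (LK LD1_c13 LD2_c33 LD3_c53)) :=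
  Lgr Lrot136 (Lpr_et (f150046 IH) (Lpe (K7.f59249 IH) (Lpr_ef (K36.f540579 IH) (Lpr_dt (K33.f98565 IH) (Lpe (K28.f97407 IH) (Lpe (K33.f108404 IH) (Lpr_gf (f514176 IH) (Lpe (f466673 IH) (Lpr_dt (f466674 IH) (Lpe (f466657 IH) (Lpn (LP (LK LD1_c13 LD2_c33 LD3_c53)))))))))))))
theorem f150041 : Led Lsl_et (LP (LK LD1_c7 LD2_c56 LD3_c42)) = (LP (LK LD1_c14 LD2_c59 LD3_c26)) :=
  Lre_e IH (LK LD1_c7 LD2_c56 LD3_c42) (LK LD1_c14 LD2_c59 LD3_c26) Lrfl Lrfl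
theorem f540601 : Led Lsl_ef (LP (LK LD1_c14 LD2_c59 LD3_c34)) = (LP (LK LD1_c13 LD2_c33 LD3_c53)) :=
  Lgr Lrot73 (Lpr_dt (K39.f37843 IH) (Lpr_et (K39.f36053 IH) (Lpe (K36.f150063 IH) (Lpr_et (f150041 IH) (Lpr_dt (f540591 IH) (Lpn (LP (LK LD1_c13 LD2_c33 LD3_c53))))))))
theorem f540610 : Led Lsl_et (LP (LK LD1_c14 LD2_c59 LD3_c34)) = (LP (LK LD1_c13 LD2_c33 LD3_c53)) :=
  Lgr Lrot87 (Lpr_ef (f540601 IH) (Lpn (LP (LK LD1_c13 LD2_c33 LD3_c53))))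
theorem f466656 : Led Lsl_et (LP (LK LD1_c3 LD2_c34 LD3_c14)) = (LP (LK LD1_c7 LD2_c9 LD3_c41)) :=
  Lre_e IH (LK LD1_c3 LD2_c34 LD3_c14) (LK LD1_c7 LD2_c9 LD3_c41) Lrfl Lrfl
theorem f128140 : Led Lsl_dt (LP (LK LD1_c3 LD2_c34 LD3_c14)) = (LP (LK LD1_c1 LD2_c43 LD3_c47)) :=
  Lre_d IH (LK LD1_c3 LD2_c34 LD3_c14) (LK LD1_c1 LD2_c43 LD3_c47) Lrfl Lrfl
theorem f441991 : Led Lsl_ef (LP (LK LD1_c13 LD2_c26 LD3_c45)) = (LP (LK LD1_c7 LD2_c7 LD3_c0)) :=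
  Lgr Lrot88 (Lpr_et (K34.f97394 IH) (Lpn (LP (LK LD1_c7 LD2_c7 LD3_c0))))
theorem f540612 : Led Lsl_gf (LP (LK LD1_c8 LD2_c51 LD3_c57)) = (LP (LK LD1_c13 LD2_c26 LD3_c45)) :=
  Lgr Lrot138 (Lpr_dt (f198225 IH) (Lpe (K36.f538280 IH) (Lpe (K39.f37843 IH) (Lpr_et (f540610 IH) (Lpr_gt (f466657 IH) (Lpe (f466656 IH) (Lpr_dt (f128140 IH) (Lpe (K28.f466641 IH) (Lpe (K34.f96947 IH) (Lpe (f441991 IH) (Lpn (LP (LK LD1_c13 LD2_c26 LD3_c45)))))))))))))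
theorem f97426 : Led Lsl_gt (LP (LK LD1_c13 LD2_c26 LD3_c44)) = (LP (LK LD1_c7 LD2_c5 LD3_c42)) :=
  Lre_g IH (LK LD1_c13 LD2_c26 LD3_c44) (LK LD1_c7 LD2_c5 LD3_c42) Lrfl Lrfl
theorem f540979 : Led Lsl_cf (LP (LK LD1_c7 LD2_c8 LD3_c18)) = (LP (LK LD1_c13 LD2_c26 LD3_c44)) :=
  Lgr Lrot166 (Lpr_gt (f6554 IH) (Lpr_dt (K36.f98054 IH) (Lpr_gt (f540973 IH) (Lpr_dt (f198226 IH) (Lpr_ct (f198001 IH) (Lpe (f198225 IH) (Lpr_gf (f540612 IH) (Lpe (K34.f97393 IH) (Lpe (f97426 IH) (Lpn (LP (LK LD1_c13 LD2_c26 LD3_c44))))))))))))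
theorem f6134 : Led Lsl_dt (LP (LK LD1_c1 LD2_c43 LD3_c37)) = (LP (LK LD1_c3 LD2_c33 LD3_c47)) :=
  Lre_d IH (LK LD1_c1 LD2_c43 LD3_c37) (LK LD1_c3 LD2_c33 LD3_c47) Lrfl Lrfl
theorem f6533 : Led Lsl_ct (LP (LK LD1_c7 LD2_c8 LD3_c29)) = (LP (LK LD1_c3 LD2_c33 LD3_c47)) :=
  Lre_c IH (LK LD1_c7 LD2_c8 LD3_c29) (LK LD1_c3 LD2_c33 LD3_c47) Lrfl Lrfl
theorem f6539 : Led Lsl_gt (LP (LK LD1_c13 LD2_c31 LD3_c30)) = (LP (LK LD1_c7 LD2_c8 LD3_c29)) :=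
  Lre_g IH (LK LD1_c13 LD2_c31 LD3_c30) (LK LD1_c7 LD2_c8 LD3_c29) Lrfl Lrfl
theorem f97172 : Led Lsl_ft (LP (LK LD1_c13 LD2_c38 LD3_c27)) = (LP (LK LD1_c7 LD2_c12 LD3_c7)) :=
  Lre_f IH (LK LD1_c13 LD2_c38 LD3_c27) (LK LD1_c7 LD2_c12 LD3_c7) Lrfl Lrfl
theorem f97438 : Led Lsl_gt (LP (LK LD1_c13 LD2_c38 LD3_c27)) = (LP (LK LD1_c13 LD2_c26 LD3_c44)) :=
  Lgr Lrot5 (Lpr_ft (f97172 IH) (Lpr_at (K34.f97432 IH) (Lpe (f97426 IH) (Lpn (LP (LK LD1_c13 LD2_c26 LD3_c44))))))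
theorem f272252 : Led Lsl_et (LP (LK LD1_c8 LD2_c51 LD3_c57)) = (LP (LK LD1_c16 LD2_c34 LD3_c35)) :=
  Lre_e IH (LK LD1_c8 LD2_c51 LD3_c57) (LK LD1_c16 LD2_c34 LD3_c35) Lrfl Lrfl
theorem f540834 : Led Lsl_df (LP (LK LD1_c15 LD2_c6 LD3_c9)) = (LP (LK LD1_c16 LD2_c34 LD3_c35)) :=
  Lgr Lrot70 (Lpr_et (K8.f142201 IH) (Lpr_dt (K36.f142218 IH) (Lpr_et (K36.f540793 IH) (Lpr_dt (K35.f198230 IH) (Lpr_et (f272252 IH) (Lpn (LP (LK LD1_c16 LD2_c34 LD3_c35))))))))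
theorem f540900 : Led Lsl_dt (LP (LK LD1_c15 LD2_c6 LD3_c9)) = (LP (LK LD1_c16 LD2_c34 LD3_c35)) :=
  Lgr Lrot42 (Lpr_df (f540834 IH) (Lpn (LP (LK LD1_c16 LD2_c34 LD3_c35))))
theorem f438137 : Led Lsl_dt (LP (LK LD1_c8 LD2_c46 LD3_c55)) = (LP (LK LD1_c16 LD2_c25 LD3_c54)) :=
  Lre_d IH (LK LD1_c8 LD2_c46 LD3_c55) (LK LD1_c16 LD2_c25 LD3_c54) Lrfl Lrfl
theorem f70525 : Led Lsl_et (LP (LK LD1_c16 LD2_c25 LD3_c54)) = (LP (LK LD1_c26 LD2_c23 LD3_c16)) :=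
  Lre_e IH (LK LD1_c16 LD2_c25 LD3_c54) (LK LD1_c26 LD2_c23 LD3_c16) Lrfl Lrfl
theorem f538519 : Led Lsl_df (LP (LK LD1_c17 LD2_c2 LD3_c39)) = (LP (LK LD1_c26 LD2_c23 LD3_c16)) :=
  Lgr Lrot70 (Lpr_et (K28.f142193 IH) (Lpr_dt (K24.f142207 IH) (Lpr_et (K35.f538511 IH) (Lpr_dt (f438137 IH) (Lpr_et (f70525 IH) (Lpn (LP (LK LD1_c26 LD2_c23 LD3_c16))))))))
theorem f540902 : Led Lsl_af (LP (LK LD1_c26 LD2_c23 LD3_c16)) = (LP (LK LD1_c16 LD2_c34 LD3_c35)) :=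
  Lgr Lrot117 (Lpe (f538519 IH) (Lpr_at (K8.f142190 IH) (Lpr_dt (f540900 IH) (Lpn (LP (LK LD1_c16 LD2_c34 LD3_c35))))))
theorem f538527 : Led Lsl_et (LP (LK LD1_c26 LD2_c23 LD3_c16)) = (LP (LK LD1_c16 LD2_c25 LD3_c54)) :=
  Lre_e IH (LK LD1_c26 LD2_c23 LD3_c16) (LK LD1_c16 LD2_c25 LD3_c54) Lrfl Lrfl
theorem f540912 : Led Lsl_at (LP (LK LD1_c16 LD2_c25 LD3_c54)) = (LP (LK LD1_c8 LD2_c51 LD3_c57)) :=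
  Lgr Lrot80 (Lpe (f538527 IH) (Lpr_af (f540902 IH) (Lpe (f272252 IH) (Lpn (LP (LK LD1_c8 LD2_c51 LD3_c57))))))
theorem f411104 : Led Lsl_dt (LP (LK LD1_c12 LD2_c5 LD3_c21)) = (LP (LK LD1_c21 LD2_c10 LD3_c60)) :=
  Lre_d IH (LK LD1_c12 LD2_c5 LD3_c21) (LK LD1_c21 LD2_c10 LD3_c60) Lrfl Lrfl
theorem f538566 : Led Lsl_ft (LP (LK LD1_c21 LD2_c10 LD3_c60)) = (LP (LK LD1_c16 LD2_c25 LD3_c54)) :=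
  Lgr Lrot54 (Lpe (f411104 IH) (Lpr_ff (K35.f538564 IH) (Lpe (f70524 IH) (Lpn (LP (LK LD1_c16 LD2_c25 LD3_c54))))))
theorem f540916 : Led Lsl_gt (LP (LK LD1_c21 LD2_c10 LD3_c60)) = (LP (LK LD1_c13 LD2_c26 LD3_c45)) :=
  Lgr Lrot5 (Lpr_ft (f538566 IH) (Lpr_at (f540912 IH) (Lpr_gf (f540612 IH) (Lpn (LP (LK LD1_c13 LD2_c26 LD3_c45))))))
theorem f272182 : Led Lsl_at (LP (LK LD1_c12 LD2_c5 LD3_c22)) = (LP (LK LD1_c21 LD2_c10 LD3_c60)) :=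
  Lre_a IH (LK LD1_c12 LD2_c5 LD3_c22) (LK LD1_c21 LD2_c10 LD3_c60) Lrfl Lrfl
theorem f101416 : Led Lsl_gt (LP (LK LD1_c8 LD2_c51 LD3_c57)) = (LP (LK LD1_c16 LD2_c34 LD3_c34)) :=
  Lre_g IH (LK LD1_c8 LD2_c51 LD3_c57) (LK LD1_c16 LD2_c34 LD3_c34) Lrfl Lrfl
theorem f411101 : Led Lsl_gf (LP (LK LD1_c21 LD2_c10 LD3_c60)) = (LP (LK LD1_c16 LD2_c34 LD3_c34)) :=
  Lgr Lrot76 (Lpe (f272182 IH) (Lpr_ff (K35.f272234 IH) (Lpr_gt (f101416 IH) (Lpn (LP (LK LD1_c16 LD2_c34 LD3_c34))))))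
theorem f540918 : Led Lsl_ft (LP (LK LD1_c16 LD2_c34 LD3_c34)) = (LP (LK LD1_c13 LD2_c38 LD3_c26)) :=
  Lgr Lrot2 (Lpe (f411101 IH) (Lpr_gt (f540916 IH) (Lpe (K34.f97442 IH) (Lpn (LP (LK LD1_c13 LD2_c38 LD3_c26))))))
theorem f540924 : Led Lsl_ff (LP (LK LD1_c16 LD2_c34 LD3_c34)) = (LP (LK LD1_c13 LD2_c38 LD3_c26)) :=
  Lgr Lrot3 (Lpr_ft (f540918 IH) (Lpn (LP (LK LD1_c13 LD2_c38 LD3_c26))))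
theorem f97185 : Led Lsl_dt (LP (LK LD1_c7 LD2_c12 LD3_c7)) = (LP (LK LD1_c13 LD2_c38 LD3_c26)) :=
  Lre_d IH (LK LD1_c7 LD2_c12 LD3_c7) (LK LD1_c13 LD2_c38 LD3_c26) Lrfl Lrfl
theorem f540926 : Led Lsl_dt (LP (LK LD1_c16 LD2_c34 LD3_c34)) = (LP (LK LD1_c13 LD2_c38 LD3_c27)) :=
  Lgr Lrot60 (Lpr_ff (f540924 IH) (Lpe (f97185 IH) (Lpe (f97172 IH) (Lpn (LP (LK LD1_c13 LD2_c38 LD3_c27))))))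
theorem f540982 : Led Lsl_cf (LP (LK LD1_c13 LD2_c31 LD3_c30)) = (LP (LK LD1_c21 LD2_c10 LD3_c60)) :=
  Lgr Lrot169 (Lpr_gt (f6539 IH) (Lpr_ct (f6533 IH) (Lpe (f6134 IH) (Lpe (K36.f6544 IH) (Lpe (f6554 IH) (Lpr_cf (f540979 IH) (Lpe (f97438 IH) (Lpe (f540926 IH) (Lpe (f411101 IH) (Lpn (LP (LK LD1_c21 LD2_c10 LD3_c60))))))))))))
theorem f540989 : Led Lsl_et (LP (LK LD1_c13 LD2_c31 LD3_c30)) = (LP (LK LD1_c22 LD2_c52 LD3_c56)) :=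
  Lre_e IH (LK LD1_c13 LD2_c31 LD3_c30) (LK LD1_c22 LD2_c52 LD3_c56) Lrfl Lrfl
theorem f411105 : Led Lsl_et (LP (LK LD1_c29 LD2_c53 LD3_c16)) = (LP (LK LD1_c21 LD2_c10 LD3_c60)) :=
  Lre_e IH (LK LD1_c29 LD2_c53 LD3_c16) (LK LD1_c21 LD2_c10 LD3_c60) Lrfl Lrfl
theorem f540990 : Led Lsl_ct (LP (LK LD1_c22 LD2_c52 LD3_c56)) = (LP (LK LD1_c29 LD2_c53 LD3_c16)) :=
  Lgr Lrot15 (Lpe (f540989 IH) (Lpr_cf (f540982 IH) (Lpe (f411105 IH) (Lpn (LP (LK LD1_c29 LD2_c53 LD3_c16))))))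
theorem f541002 : Led Lsl_cf (LP (LK LD1_c22 LD2_c52 LD3_c56)) = (LP (LK LD1_c29 LD2_c53 LD3_c16)) :=
  Lgr Lrot11 (Lpr_ct (f540990 IH) (Lpn (LP (LK LD1_c29 LD2_c53 LD3_c16))))
theorem f272160 : Led Lsl_at (LP (LK LD1_c21 LD2_c11 LD3_c0)) = (LP (LK LD1_c29 LD2_c53 LD3_c16)) :=
  Lre_a IH (LK LD1_c21 LD2_c11 LD3_c0) (LK LD1_c29 LD2_c53 LD3_c16) Lrfl Lrfl
theorem f272171 : Led Lsl_ct (LP (LK LD1_c29 LD2_c53 LD3_c17)) = (LP (LK LD1_c21 LD2_c11 LD3_c0)) :=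
  Lre_c IH (LK LD1_c29 LD2_c53 LD3_c17) (LK LD1_c21 LD2_c11 LD3_c0) Lrfl Lrfl
theorem f541004 : Led Lsl_at (LP (LK LD1_c22 LD2_c52 LD3_c56)) = (LP (LK LD1_c29 LD2_c53 LD3_c17)) :=
  Lgr Lrot107 (Lpr_cf (f541002 IH) (Lpe (f272160 IH) (Lpe (f272171 IH) (Lpn (LP (LK LD1_c29 LD2_c53 LD3_c17))))))
theorem f541006 : Led Lsl_et (LP (LK LD1_c29 LD2_c53 LD3_c17)) = (LP (LK LD1_c21 LD2_c10 LD3_c61)) :=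
  Lre_e IH (LK LD1_c29 LD2_c53 LD3_c17) (LK LD1_c21 LD2_c10 LD3_c61) Lrfl Lrfl
theorem f541007 : Led Lsl_af (LP (LK LD1_c13 LD2_c31 LD3_c30)) = (LP (LK LD1_c21 LD2_c10 LD3_c61)) :=
  Lgr Lrot50 (Lpr_et (f540989 IH) (Lpr_at (f541004 IH) (Lpr_et (f541006 IH) (Lpn (LP (LK LD1_c21 LD2_c10 LD3_c61))))))
theorem f540995 : Led Lsl_gt (LP (LK LD1_c22 LD2_c47 LD3_c47)) = (LP (LK LD1_c13 LD2_c31 LD3_c30)) :=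
  Lre_g IH (LK LD1_c22 LD2_c47 LD3_c47) (LK LD1_c13 LD2_c31 LD3_c30) Lrfl Lrfl
theorem f98320 : Led Lsl_gt (LP (LK LD1_c13 LD2_c31 LD3_c29)) = (LP (LK LD1_c22 LD2_c47 LD3_c47)) :=
  Lre_g IH (LK LD1_c13 LD2_c31 LD3_c29) (LK LD1_c22 LD2_c47 LD3_c47) Lrfl Lrfl
theorem f541009 : Led Lsl_ft (LP (LK LD1_c13 LD2_c31 LD3_c29)) = (LP (LK LD1_c21 LD2_c10 LD3_c61)) :=
  Lgr Lrot2 (Lpr_gt (f98320 IH) (Lpr_gt (f540995 IH) (Lpr_af (f541007 IH) (Lpn (LP (LK LD1_c21 LD2_c10 LD3_c61))))))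
theorem f541016 : Led Lsl_ff (LP (LK LD1_c13 LD2_c31 LD3_c29)) = (LP (LK LD1_c21 LD2_c10 LD3_c61)) :=
  Lgr Lrot3 (Lpr_ft (f541009 IH) (Lpn (LP (LK LD1_c21 LD2_c10 LD3_c61))))
theorem f541047 : Led Lsl_af (LP (LK LD1_c22 LD2_c47 LD3_c46)) = (LP (LK LD1_c13 LD2_c31 LD3_c29)) :=
  Lgr Lrot31 (Lpe (f97213 IH) (Lpr_gf (f541044 IH) (Lpe (f541016 IH) (Lpn (LP (LK LD1_c13 LD2_c31 LD3_c29))))))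
theorem f193538 : Led Lsl_ct (LP (LK LD1_c21 LD2_c10 LD3_c61)) = (LP (LK LD1_c12 LD2_c5 LD3_c22)) :=
  Lre_c IH (LK LD1_c21 LD2_c10 LD3_c61) (LK LD1_c12 LD2_c5 LD3_c22) Lrfl Lrfl
theorem f272181 : Led Lsl_bt (LP (LK LD1_c6 LD2_c13 LD3_c13)) = (LP (LK LD1_c12 LD2_c5 LD3_c22)) :=
  Lre_b IH (LK LD1_c6 LD2_c13 LD3_c13) (LK LD1_c12 LD2_c5 LD3_c22) Lrfl Lrfl
theorem f272223 : Led Lsl_bt (LP (LK LD1_c8 LD2_c51 LD3_c57)) = (LP (LK LD1_c4 LD2_c27 LD3_c5)) :=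
  Lre_b IH (LK LD1_c8 LD2_c51 LD3_c57) (LK LD1_c4 LD2_c27 LD3_c5) Lrfl Lrfl
theorem f272224 : Led Lsl_ft (LP (LK LD1_c12 LD2_c5 LD3_c22)) = (LP (LK LD1_c8 LD2_c51 LD3_c57)) :=
  Lgr Lrot75 (Lpe (f272181 IH) (Lpr_ff (K16.f272221 IH) (Lpe (f272223 IH) (Lpn (LP (LK LD1_c8 LD2_c51 LD3_c57))))))
theorem f541012 : Led Lsl_cf (LP (LK LD1_c13 LD2_c31 LD3_c29)) = (LP (LK LD1_c8 LD2_c51 LD3_c57)) :=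
  Lgr Lrot108 (Lpr_ft (f541009 IH) (Lpr_ct (f193538 IH) (Lpr_ft (f272224 IH) (Lpn (LP (LK LD1_c8 LD2_c51 LD3_c57))))))
theorem f541052 : Led Lsl_ct (LP (LK LD1_c22 LD2_c47 LD3_c46)) = (LP (LK LD1_c16 LD2_c25 LD3_c54)) :=
  Lgr Lrot111 (Lpr_af (f541047 IH) (Lpr_cf (f541012 IH) (Lpe (f540912 IH) (Lpn (LP (LK LD1_c16 LD2_c25 LD3_c54))))))
theorem f97212 : Led Lsl_ct (LP (LK LD1_c7 LD2_c6 LD3_c32)) = (LP (LK LD1_c13 LD2_c28 LD3_c13)) :=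
  Lre_c IH (LK LD1_c7 LD2_c6 LD3_c32) (LK LD1_c13 LD2_c28 LD3_c13) Lrfl Lrfl
theorem f97198 : Led Lsl_gt (LP (LK LD1_c13 LD2_c28 LD3_c12)) = (LP (LK LD1_c7 LD2_c6 LD3_c32)) :=
  Lre_g IH (LK LD1_c13 LD2_c28 LD3_c12) (LK LD1_c7 LD2_c6 LD3_c32) Lrfl Lrfl
theorem f10605 : Led Lsl_dt (LP (LK LD1_c3 LD2_c32 LD3_c48)) = (LP (LK LD1_c7 LD2_c6 LD3_c32)) :=
  Lre_d IH (LK LD1_c3 LD2_c32 LD3_c48) (LK LD1_c7 LD2_c6 LD3_c32) Lrfl Lrfl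
theorem f5623 : Led Lsl_gt (LP (LK LD1_c1 LD2_c46 LD3_c16)) = (LP (LK LD1_c3 LD2_c38 LD3_c34)) :=
  Lre_g IH (LK LD1_c1 LD2_c46 LD3_c16) (LK LD1_c3 LD2_c38 LD3_c34) Lrfl Lrfl
theorem f5044 : Led Lsl_et (LP (LK LD1_c7 LD2_c17 LD3_c30)) = (LP (LK LD1_c3 LD2_c38 LD3_c34)) :=
  Lre_e IH (LK LD1_c7 LD2_c17 LD3_c30) (LK LD1_c3 LD2_c38 LD3_c34) Lrfl Lrfl
theorem f97199 : Led Lsl_df (LP (LK LD1_c13 LD2_c28 LD3_c12)) = (LP (LK LD1_c7 LD2_c17 LD3_c30)) :=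
  Lgr Lrot170 (Lpr_gt (f97198 IH) (Lpe (f10605 IH) (Lpr_et (K36.f10604 IH) (Lpr_gt (K3.f97186 IH) (Lpe (K3.f97188 IH) (Lpr_gt (K3.f383 IH) (Lpe (K3.f380 IH) (Lpr_et (K24.f5403 IH) (Lpr_gt (f5623 IH) (Lpe (f5044 IH) (Lpn (LP (LK LD1_c7 LD2_c17 LD3_c30)))))))))))))
theorem f565069 : Led Lsl_gf (LP (LK LD1_c4 LD2_c25 LD3_c27)) = (LP (LK LD1_c7 LD2_c17 LD3_c30)) :=
  Lgr Lrot147 (Lpr_ct (f227504 IH) (Lpr_gt (f565065 IH) (Lpr_ct (f538525 IH) (Lpe (f70524 IH) (Lpe (f541052 IH) (Lpe (f97213 IH) (Lpe (f97212 IH) (Lpe (f97198 IH) (Lpr_df (f97199 IH) (Lpn (LP (LK LD1_c7 LD2_c17 LD3_c30))))))))))))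
theorem f159206 : Led Lsl_et (LP (LK LD1_c7 LD2_c57 LD3_c9)) = (LP (LK LD1_c3 LD2_c57 LD3_c54)) :=
  Lre_e IH (LK LD1_c7 LD2_c57 LD3_c9) (LK LD1_c3 LD2_c57 LD3_c54) Lrfl Lrfl
theorem f538517 : Led Lsl_cf (LP (LK LD1_c7 LD2_c57 LD3_c9)) = (LP (LK LD1_c8 LD2_c46 LD3_c55)) :=
  Lgr Lrot39 (Lpr_et (f159206 IH) (Lpe (K8.f148977 IH) (Lpr_et (K35.f538511 IH) (Lpn (LP (LK LD1_c8 LD2_c46 LD3_c55))))))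
theorem f538515 : Led Lsl_bf (LP (LK LD1_c4 LD2_c37 LD3_c5)) = (LP (LK LD1_c8 LD2_c46 LD3_c55)) :=
  Lgr Lrot96 (Lpr_et (K35.f142136 IH) (Lpr_bt (K8.f142238 IH) (Lpr_et (K35.f538511 IH) (Lpn (LP (LK LD1_c8 LD2_c46 LD3_c55))))))
theorem f71463 : Led Lsl_bt (LP (LK LD1_c2 LD2_c15 LD3_c17)) = (LP (LK LD1_c1 LD2_c26 LD3_c19)) :=
  Lgr Lrot128 (Lpe (K39.f71462 IH) (Lpe (K37.f71461 IH) (Lpr_cf (K2.f71449 IH) (Lpe (K10.f27229 IH) (Lpe (K12.f27258 IH) (Lpn (LP (LK LD1_c1 LD2_c26 LD3_c19))))))))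
theorem f138514 : Led Lsl_ct (LP (LK LD1_c2 LD2_c15 LD3_c17)) = (LP (LK LD1_c1 LD2_c4 LD3_c45)) :=
  Lre_c IH (LK LD1_c2 LD2_c15 LD3_c17) (LK LD1_c1 LD2_c4 LD3_c45) Lrfl Lrfl
theorem f557787 : Led Lsl_bt (LP (LK LD1_c4 LD2_c36 LD3_c21)) = (LP (LK LD1_c2 LD2_c54 LD3_c25)) :=
  Lgr Lrot130 (Lpr_ct (K37.f198277 IH) (Lpe (K35.f71468 IH) (Lpe (f138514 IH) (Lpr_bt (f71463 IH) (Lpr_gf (K10.f198264 IH) (Lpe (K35.f177018 IH) (Lpr_ct (K35.f24482 IH) (Lpr_gf (K35.f500403 IH) (Lpq (K35.f541547 IH) (Lpe (K35.f494527 IH) (Lpr_gf (K40.f557783 IH) (Lpn (LP (LK LD1_c2 LD2_c54 LD3_c25))))))))))))))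
theorem f565071 : Led Lsl_bf (LP (LK LD1_c7 LD2_c17 LD3_c30)) = (LP (LK LD1_c9 LD2_c8 LD3_c13)) :=
  Lgr Lrot165 (Lpe (f565069 IH) (Lpr_ct (f227504 IH) (Lpr_gt (f565065 IH) (Lpr_cf (f538517 IH) (Lpe (f538515 IH) (Lpe (K37.f541431 IH) (Lpe (f557787 IH) (Lpr_ct (K37.f198277 IH) (Lpr_gt (K35.f202300 IH) (Lpe (K2.f71081 IH) (Lpn (LP (LK LD1_c9 LD2_c8 LD3_c13)))))))))))))
theorem f424934 : Led Lsl_ct (LP (LK LD1_c4 LD2_c0 LD3_c47)) = (LP (LK LD1_c8 LD2_c2 LD3_c18)) :=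
  Lre_c IH (LK LD1_c4 LD2_c0 LD3_c47) (LK LD1_c8 LD2_c2 LD3_c18) Lrfl Lrfl
theorem f556615 : Led Lsl_bt (LP (LK LD1_c4 LD2_c0 LD3_c47)) = (LP (LK LD1_c6 LD2_c13 LD3_c23)) :=
  Lgr Lrot127 (Lpr_bf (K39.f556587 IH) (Lpn (LP (LK LD1_c6 LD2_c13 LD3_c23))))
theorem f565083 : Led Lsl_gt (LP (LK LD1_c6 LD2_c13 LD3_c23)) = (LP (LK LD1_c4 LD2_c36 LD3_c21)) :=
  Lgr Lrot82 (Lpe (f556615 IH) (Lpr_ct (f424934 IH) (Lpe (K39.f424947 IH) (Lpe (K39.f556683 IH) (Lpr_bt (K39.f38503 IH) (Lpr_gf (f565069 IH) (Lpr_bf (f565071 IH) (Lpr_ct (K2.f71081 IH) (Lpe (K35.f202300 IH) (Lpe (K37.f198277 IH) (Lpn (LP (LK LD1_c4 LD2_c36 LD3_c21)))))))))))))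
theorem f101565 : Led Lsl_ct (LP (LK LD1_c3 LD2_c3 LD3_c29)) = (LP (LK LD1_c6 LD2_c13 LD3_c23)) :=
  Lre_c IH (LK LD1_c3 LD2_c3 LD3_c29) (LK LD1_c6 LD2_c13 LD3_c23) Lrfl Lrfl
theorem f565091 : Led Lsl_bt (LP (LK LD1_c3 LD2_c3 LD3_c29)) = (LP (LK LD1_c6 LD2_c13 LD3_c22)) :=
  Lre_b IH (LK LD1_c3 LD2_c3 LD3_c29) (LK LD1_c6 LD2_c13 LD3_c22) Lrfl Lrfl
theorem f541446 : Led Lsl_bt (LP (LK LD1_c2 LD2_c14 LD3_c34)) = (LP (LK LD1_c4 LD2_c34 LD3_c58)) :=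
  Lre_b IH (LK LD1_c2 LD2_c14 LD3_c34) (LK LD1_c4 LD2_c34 LD3_c58) Lrfl Lrfl
theorem f565092 : Led Lsl_gf (LP (LK LD1_c6 LD2_c13 LD3_c22)) = (LP (LK LD1_c4 LD2_c34 LD3_c58)) :=
  Lgr Lrot124 (Lpe (f565091 IH) (Lpr_ct (f101565 IH) (Lpr_gt (f565083 IH) (Lpe (K37.f202304 IH) (Lpe (K37.f538426 IH) (Lpr_gt (K40.f539933 IH) (Lpr_ct (K38.f539593 IH) (Lpe (K40.f563713 IH) (Lpr_cf (K40.f563139 IH) (Lpqs (K35.f541444 IH) (Lpr_bt (f541446 IH) (Lpn (LP (LK LD1_c4 LD2_c34 LD3_c58))))))))))))))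
theorem f565101 : Led Lsl_ct (LP (LK LD1_c6 LD2_c13 LD3_c22)) = (LP (LK LD1_c4 LD2_c25 LD3_c58)) :=
  Lgr Lrot91 (Lpr_gf (f565092 IH) (Lpe (f541446 IH) (Lpq (K35.f541444 IH) (Lpe (K40.f563139 IH) (Lpr_gf (K40.f563713 IH) (Lpe (K38.f539593 IH) (Lpr_bt (K38.f386802 IH) (Lpr_gf (K40.f500705 IH) (Lpqs (K39.f555895 IH) (Lpe (K36.f500514 IH) (Lpr_ct (K39.f81945 IH) (Lpe (K39.f556585 IH) (Lpn (LP (LK LD1_c4 LD2_c25 LD3_c58)))))))))))))))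
theorem f101564 : Led Lsl_bt (LP (LK LD1_c6 LD2_c13 LD3_c22)) = (LP (LK LD1_c3 LD2_c3 LD3_c29)) :=
  Lre_b IH (LK LD1_c6 LD2_c13 LD3_c22) (LK LD1_c3 LD2_c3 LD3_c29) Lrfl Lrfl
theorem f71457 : Led Lsl_ct (LP (LK LD1_c2 LD2_c15 LD3_c23)) = (LP (LK LD1_c4 LD2_c36 LD3_c13)) :=
  Lre_c IH (LK LD1_c2 LD2_c15 LD3_c23) (LK LD1_c4 LD2_c36 LD3_c13) Lrfl Lrfl
theorem f24485 : Led Lsl_ct (LP (LK LD1_c1 LD2_c22 LD3_c35)) = (LP (LK LD1_c2 LD2_c52 LD3_c59)) :=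
  Lre_c IH (LK LD1_c1 LD2_c22 LD3_c35) (LK LD1_c2 LD2_c52 LD3_c59) Lrfl Lrfl
theorem f565110 : Led Lsl_gt (LP (LK LD1_c2 LD2_c52 LD3_c59)) = (LP (LK LD1_c4 LD2_c25 LD3_c58)) :=
  Lgr Lrot65 (Lpe (f24485 IH) (Lpr_bt (K35.f24481 IH) (Lpe (K10.f71452 IH) (Lpe (K38.f71290 IH) (Lpr_ct (f71457 IH) (Lpe (K38.f547116 IH) (Lpe (K38.f172131 IH) (Lpe (K38.f99563 IH) (Lpe (f101564 IH) (Lpr_ct (f565101 IH) (Lpn (LP (LK LD1_c4 LD2_c25 LD3_c58)))))))))))))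
theorem f538897 : Led Lsl_ef (LP (LK LD1_c2 LD2_c52 LD3_c59)) = (LP (LK LD1_c4 LD2_c32 LD3_c8)) :=
  Lgr Lrot28 (Lpr_ct (K35.f24482 IH) (Lpr_et (K36.f495750 IH) (Lpq (K35.f538892 IH) (Lpr_ct (K31.f181777 IH) (Lpn (LP (LK LD1_c4 LD2_c32 LD3_c8)))))))
theorem f280488 : Led Lsl_ct (LP (LK LD1_c5 LD2_c42 LD3_c43)) = (LP (LK LD1_c11 LD2_c15 LD3_c37)) :=
  Lre_c IH (LK LD1_c5 LD2_c42 LD3_c43) (LK LD1_c11 LD2_c15 LD3_c37) Lrfl Lrfl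
theorem f423737 : Led Lsl_ct (LP (LK LD1_c20 LD2_c10 LD3_c41)) = (LP (LK LD1_c11 LD2_c16 LD3_c4)) :=
  Lgr Lrot59 (Lpr_cf (K31.f423733 IH) (Lpn (LP (LK LD1_c11 LD2_c16 LD3_c4))))
theorem f423745 : Led Lsl_gt (LP (LK LD1_c29 LD2_c20 LD3_c26)) = (LP (LK LD1_c20 LD2_c10 LD3_c41)) :=
  Lre_g IH (LK LD1_c29 LD2_c20 LD3_c26) (LK LD1_c20 LD2_c10 LD3_c41) Lrfl Lrfl
theorem f269680 : Led Lsl_ct (LP (LK LD1_c11 LD2_c15 LD3_c35)) = (LP (LK LD1_c5 LD2_c42 LD3_c42)) :=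
  Lre_c IH (LK LD1_c11 LD2_c15 LD3_c35) (LK LD1_c5 LD2_c42 LD3_c42) Lrfl Lrfl
theorem f418020 : Led Lsl_gt (LP (LK LD1_c20 LD2_c10 LD3_c51)) = (LP (LK LD1_c11 LD2_c15 LD3_c35)) :=
  Lre_g IH (LK LD1_c20 LD2_c10 LD3_c51) (LK LD1_c11 LD2_c15 LD3_c35) Lrfl Lrfl
theorem f424347 : Led Lsl_df (LP (LK LD1_c29 LD2_c20 LD3_c26)) = (LP (LK LD1_c20 LD2_c10 LD3_c51)) :=
  Lgr Lrot155 (Lpr_gt (f423745 IH) (Lpr_ct (f423737 IH) (Lpr_gt (K31.f174235 IH) (Lpr_ct (K16.f280363 IH) (Lpr_dt (K16.f280364 IH) (Lpe (K16.f181773 IH) (Lpe (K38.f418018 IH) (Lpe (f269680 IH) (Lpe (f418020 IH) (Lpn (LP (LK LD1_c20 LD2_c10 LD3_c51))))))))))))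
theorem f424349 : Led Lsl_gt (LP (LK LD1_c11 LD2_c15 LD3_c37)) = (LP (LK LD1_c20 LD2_c10 LD3_c51)) :=
  Lgr Lrot94 (Lpe (f280488 IH) (Lpr_gt (K38.f172764 IH) (Lpr_dt (K16.f172742 IH) (Lpr_gt (K31.f172463 IH) (Lpr_dt (K31.f172851 IH) (Lpe (K31.f411666 IH) (Lpe (K31.f411720 IH) (Lpe (f423745 IH) (Lpr_df (f424347 IH) (Lpn (LP (LK LD1_c20 LD2_c10 LD3_c51))))))))))))
theorem f552659 : Led Lsl_cf (LP (LK LD1_c11 LD2_c23 LD3_c11)) = (LP (LK LD1_c20 LD2_c10 LD3_c51)) :=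
  Lgr Lrot175 (Lpr_dt (K39.f552652 IH) (Lpe (K36.f382088 IH) (Lpr_gf (K31.f382084 IH) (Lpe (K31.f280501 IH) (Lpr_gf (K30.f280495 IH) (Lpr_dt (K16.f181772 IH) (Lpe (K38.f280486 IH) (Lpr_ct (f280488 IH) (Lpr_gt (f424349 IH) (Lpn (LP (LK LD1_c20 LD2_c10 LD3_c51))))))))))))
theorem f552654 : Led Lsl_df (LP (LK LD1_c11 LD2_c23 LD3_c11)) = (LP (LK LD1_c7 LD2_c59 LD3_c21)) :=
  Lgr Lrot38 (Lpr_dt (K39.f552652 IH) (Lpn (LP (LK LD1_c7 LD2_c59 LD3_c21))))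
theorem f280277 : Led Lsl_df (LP (LK LD1_c11 LD2_c16 LD3_c5)) = (LP (LK LD1_c16 LD2_c20 LD3_c35)) :=
  Lgr Lrot43 (Lpr_ct (K36.f280276 IH) (Lpr_dt (K20.f174234 IH) (Lpr_ct (K31.f174233 IH) (Lpr_dt (K16.f172745 IH) (Lpr_ct (K16.f172462 IH) (Lpr_dt (K16.f172833 IH) (Lpr_ct (K16.f172754 IH) (Lpr_dt (K16.f269673 IH) (Lpr_ct (K16.f280270 IH) (Lpr_dt (K16.f181774 IH) (Lpr_ct (K16.f181771 IH) (Lpr_dt (K16.f181770 IH) (Lpe (K16.f181762 IH) (Lpr_dt (K16.f181772 IH) (Lpr_ct (K16.f181773 IH) (Lpn (LP (LK LD1_c16 LD2_c20 LD3_c35))))))))))))))))))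
theorem f424345 : Led Lsl_dt (LP (LK LD1_c29 LD2_c20 LD3_c26)) = (LP (LK LD1_c20 LD2_c10 LD3_c51)) :=
  Lgr Lrot6 (Lpr_gt (f423745 IH) (Lpr_ct (f423737 IH) (Lpr_gt (K31.f174235 IH) (Lpr_ct (K16.f280363 IH) (Lpr_df (f280277 IH) (Lpe (K16.f181773 IH) (Lpe (K38.f418018 IH) (Lpe (f269680 IH) (Lpe (f418020 IH) (Lpn (LP (LK LD1_c20 LD2_c10 LD3_c51))))))))))))
theorem f418965 : Led Lsl_at (LP (LK LD1_c16 LD2_c52 LD3_c15)) = (LP (LK LD1_c11 LD2_c16 LD3_c4)) :=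
  Lgr Lrot66 (Lpr_ff (K31.f418963 IH) (Lpe (K31.f418943 IH) (Lpr_ff (K31.f418941 IH) (Lpn (LP (LK LD1_c11 LD2_c16 LD3_c4))))))
theorem f423735 : Led Lsl_at (LP (LK LD1_c20 LD2_c10 LD3_c41)) = (LP (LK LD1_c26 LD2_c17 LD3_c29)) :=
  Lgr Lrot107 (Lpr_cf (K31.f423733 IH) (Lpe (f418965 IH) (Lpe (K31.f398521 IH) (Lpn (LP (LK LD1_c26 LD2_c17 LD3_c29))))))
theorem f424097 : Led Lsl_ff (LP (LK LD1_c20 LD2_c10 LD3_c41)) = (LP (LK LD1_c26 LD2_c17 LD3_c23)) :=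
  Lgr Lrot103 (Lpr_at (f423735 IH) (Lpr_cf (K31.f398517 IH) (Lpe (K31.f398610 IH) (Lpr_cf (K31.f422965 IH) (Lpr_df (K31.f424088 IH) (Lpe (K31.f424090 IH) (Lpe (K31.f398497 IH) (Lpe (K31.f398481 IH) (Lpe (K31.f398504 IH) (Lpn (LP (LK LD1_c26 LD2_c17 LD3_c23))))))))))))
theorem f423766 : Led Lsl_af (LP (LK LD1_c26 LD2_c17 LD3_c23)) = (LP (LK LD1_c20 LD2_c10 LD3_c45)) :=
  Lgr Lrot0 (Lpr_at (K31.f423757 IH) (Lpn (LP (LK LD1_c20 LD2_c10 LD3_c45))))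
theorem f424215 : Led Lsl_ft (LP (LK LD1_c26 LD2_c17 LD3_c29)) = (LP (LK LD1_c20 LD2_c10 LD3_c45)) :=
  Lgr Lrot101 (Lpe (f423735 IH) (Lpr_ff (f424097 IH) (Lpr_af (f423766 IH) (Lpn (LP (LK LD1_c20 LD2_c10 LD3_c45))))))
theorem f424217 : Led Lsl_ff (LP (LK LD1_c26 LD2_c17 LD3_c29)) = (LP (LK LD1_c20 LD2_c10 LD3_c45)) :=
  Lgr Lrot3 (Lpr_ft (f424215 IH) (Lpn (LP (LK LD1_c20 LD2_c10 LD3_c45))))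
theorem f424219 : Led Lsl_at (LP (LK LD1_c26 LD2_c17 LD3_c29)) = (LP (LK LD1_c20 LD2_c10 LD3_c41)) :=
  Lgr Lrot66 (Lpr_ff (f424217 IH) (Lpe (K31.f423757 IH) (Lpe (K31.f423739 IH) (Lpn (LP (LK LD1_c20 LD2_c10 LD3_c41))))))
theorem f424222 : Led Lsl_gf (LP (LK LD1_c29 LD2_c20 LD3_c26)) = (LP (LK LD1_c20 LD2_c10 LD3_c45)) :=
  Lgr Lrot47 (Lpr_gt (f423745 IH) (Lpe (f424219 IH) (Lpr_ff (f424217 IH) (Lpn (LP (LK LD1_c20 LD2_c10 LD3_c45))))))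
theorem f423884 : Led Lsl_dt (LP (LK LD1_c11 LD2_c15 LD3_c32)) = (LP (LK LD1_c20 LD2_c10 LD3_c45)) :=
  Lre_d IH (LK LD1_c11 LD2_c15 LD3_c32) (LK LD1_c20 LD2_c10 LD3_c45) Lrfl Lrfl
theorem f411706 : Led Lsl_gt (LP (LK LD1_c11 LD2_c15 LD3_c30)) = (LP (LK LD1_c20 LD2_c10 LD3_c38)) :=
  Lre_g IH (LK LD1_c11 LD2_c15 LD3_c30) (LK LD1_c20 LD2_c10 LD3_c38) Lrfl Lrfl
theorem f424230 : Led Lsl_gf (LP (LK LD1_c11 LD2_c15 LD3_c32)) = (LP (LK LD1_c20 LD2_c10 LD3_c38)) :=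
  Lgr Lrot76 (Lpe (K39.f423786 IH) (Lpr_ff (K39.f424073 IH) (Lpr_gt (f411706 IH) (Lpn (LP (LK LD1_c20 LD2_c10 LD3_c38))))))
theorem f236503 : Led Lsl_gt (LP (LK LD1_c8 LD2_c44 LD3_c31)) = (LP (LK LD1_c4 LD2_c23 LD3_c32)) :=
  Lre_g IH (LK LD1_c8 LD2_c44 LD3_c31) (LK LD1_c4 LD2_c23 LD3_c32) Lrfl Lrfl
theorem f236504 : Led Lsl_bt (LP (LK LD1_c16 LD2_c21 LD3_c48)) = (LP (LK LD1_c8 LD2_c44 LD3_c31)) :=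
  Lre_b IH (LK LD1_c16 LD2_c21 LD3_c48) (LK LD1_c8 LD2_c44 LD3_c31) Lrfl Lrfl
theorem f411721 : Led Lsl_cf (LP (LK LD1_c20 LD2_c10 LD3_c38)) = (LP (LK LD1_c16 LD2_c21 LD3_c48)) :=
  Lgr Lrot163 (Lpe (f411706 IH) (Lpe (K39.f172852 IH) (Lpr_gf (K31.f411704 IH) (Lpe (K31.f236499 IH) (Lpr_ct (K13.f182335 IH) (Lpe (K13.f236488 IH) (Lpr_cf (K12.f39253 IH) (Lpr_bt (K39.f39251 IH) (Lpe (f236503 IH) (Lpe (f236504 IH) (Lpn (LP (LK LD1_c16 LD2_c21 LD3_c48)))))))))))))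
theorem f552667 : Led Lsl_gf (LP (LK LD1_c9 LD2_c1 LD3_c57)) = (LP (LK LD1_c16 LD2_c21 LD3_c48)) :=
  Lgr Lrot144 (Lpr_dt (K31.f181778 IH) (Lpe (K36.f422816 IH) (Lpe (f552654 IH) (Lpr_cf (f552659 IH) (Lpe (f424345 IH) (Lpr_gf (f424222 IH) (Lpe (f423884 IH) (Lpr_gf (f424230 IH) (Lpr_cf (f411721 IH) (Lpn (LP (LK LD1_c16 LD2_c21 LD3_c48))))))))))))
theorem f60668 : Led Lsl_et (LP (LK LD1_c2 LD2_c48 LD3_c57)) = (LP (LK LD1_c5 LD2_c46 LD3_c25)) :=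
  Lre_e IH (LK LD1_c2 LD2_c48 LD3_c57) (LK LD1_c5 LD2_c46 LD3_c25) Lrfl Lrfl
theorem f168270 : Led Lsl_bt (LP (LK LD1_c4 LD2_c56 LD3_c57)) = (LP (LK LD1_c2 LD2_c26 LD3_c19)) :=
  Lre_b IH (LK LD1_c4 LD2_c56 LD3_c57) (LK LD1_c2 LD2_c26 LD3_c19) Lrfl Lrfl
theorem f562280 : Led Lsl_bf (LP (LK LD1_c5 LD2_c39 LD3_c57)) = (LP (LK LD1_c6 LD2_c15 LD3_c25)) :=
  Lgr Lrot90 (Lpr_ct (K40.f562151 IH) (Lpr_bt (f168270 IH) (Lpr_ct (K40.f168263 IH) (Lpe (K40.f419021 IH) (Lpe (K40.f561687 IH) (Lpn (LP (LK LD1_c6 LD2_c15 LD3_c25))))))))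
theorem f547801 : Led Lsl_cf (LP (LK LD1_c3 LD2_c58 LD3_c55)) = (LP (LK LD1_c6 LD2_c14 LD3_c19)) :=
  Lgr Lrot11 (Lpr_ct (K35.f547795 IH) (Lpn (LP (LK LD1_c6 LD2_c14 LD3_c19))))
theorem f549653 : Led Lsl_gf (LP (LK LD1_c6 LD2_c14 LD3_c19)) = (LP (LK LD1_c4 LD2_c56 LD3_c34)) :=
  Lgr Lrot181 (Lpe (f547801 IH) (Lpr_gt (K39.f386168 IH) (Lpe (K39.f172692 IH) (Lpe (K39.f211163 IH) (Lpe (K39.f406895 IH) (Lpe (K38.f385886 IH) (Lpe (K38.f547713 IH) (Lpr_gt (K38.f549649 IH) (Lpe (K40.f168267 IH) (Lpe (K40.f419021 IH) (Lpn (LP (LK LD1_c4 LD2_c56 LD3_c34)))))))))))))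
theorem f552481 : Led Lsl_bf (LP (LK LD1_c2 LD2_c49 LD3_c26)) = (LP (LK LD1_c5 LD2_c37 LD3_c50)) :=
  Lgr Lrot24 (Lpr_bt (K39.f552479 IH) (Lpn (LP (LK LD1_c5 LD2_c37 LD3_c50))))
theorem f201328 : Led Lsl_bt (LP (LK LD1_c11 LD2_c6 LD3_c10)) = (LP (LK LD1_c5 LD2_c37 LD3_c6)) :=
  Lre_b IH (LK LD1_c11 LD2_c6 LD3_c10) (LK LD1_c5 LD2_c37 LD3_c6) Lrfl Lrfl
theorem f552483 : Led Lsl_cf (LP (LK LD1_c11 LD2_c6 LD3_c10)) = (LP (LK LD1_c5 LD2_c37 LD3_c50)) :=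
  Lgr Lrot97 (Lpr_bt (f201328 IH) (Lpr_ct (K39.f211971 IH) (Lpr_bt (K39.f211837 IH) (Lpe (K40.f552475 IH) (Lpr_bt (K39.f552479 IH) (Lpn (LP (LK LD1_c5 LD2_c37 LD3_c50))))))))
theorem f562296 : Led Lsl_gt (LP (LK LD1_c5 LD2_c46 LD3_c25)) = (LP (LK LD1_c11 LD2_c6 LD3_c10)) :=
  Lgr Lrot149 (Lpe (K2.f60698 IH) (Lpe (K38.f547819 IH) (Lpe (K18.f297015 IH) (Lpr_ct (K35.f547795 IH) (Lpr_gf (f549653 IH) (Lpr_cf (K40.f557132 IH) (Lpe (f562280 IH) (Lpr_gf (K40.f562290 IH) (Lpr_bf (f552481 IH) (Lpe (f552483 IH) (Lpn (LP (LK LD1_c11 LD2_c6 LD3_c10)))))))))))))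
theorem f565118 : Led Lsl_df (LP (LK LD1_c16 LD2_c21 LD3_c48)) = (LP (LK LD1_c11 LD2_c6 LD3_c10)) :=
  Lgr Lrot135 (Lpe (f552667 IH) (Lpe (K38.f181779 IH) (Lpe (f538897 IH) (Lpr_gt (f565110 IH) (Lpe (K39.f158178 IH) (Lpr_dt (K40.f158145 IH) (Lpr_gt (K40.f158156 IH) (Lpe (K8.f60358 IH) (Lpr_et (f60668 IH) (Lpr_gt (f562296 IH) (Lpn (LP (LK LD1_c11 LD2_c6 LD3_c10)))))))))))))
theorem f398553 : Led Lsl_cf (LP (LK LD1_c16 LD2_c19 LD3_c33)) = (LP (LK LD1_c9 LD2_c1 LD3_c57)) :=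
  Lgr Lrot11 (Lpr_ct (K31.f398551 IH) (Lpn (LP (LK LD1_c9 LD2_c1 LD3_c57))))
theorem f565125 : Led Lsl_gf (LP (LK LD1_c5 LD2_c46 LD3_c31)) = (LP (LK LD1_c11 LD2_c6 LD3_c10)) :=
  Lgr Lrot147 (Lpr_ct (K39.f60132 IH) (Lpe (K35.f547815 IH) (Lpr_ct (K18.f168271 IH) (Lpe (K30.f168281 IH) (Lpe (K30.f168287 IH) (Lpe (K31.f297084 IH) (Lpr_cf (f398553 IH) (Lpr_gf (f552667 IH) (Lpr_df (f565118 IH) (Lpn (LP (LK LD1_c11 LD2_c6 LD3_c10))))))))))))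
theorem f545955 : Led Lsl_ef (LP (LK LD1_c4 LD2_c23 LD3_c16)) = (LP (LK LD1_c2 LD2_c54 LD3_c47)) :=
  Lgr Lrot88 (Lpr_et (K37.f545951 IH) (Lpn (LP (LK LD1_c2 LD2_c54 LD3_c47))))
theorem f158165 : Led Lsl_gt (LP (LK LD1_c8 LD2_c50 LD3_c23)) = (LP (LK LD1_c4 LD2_c26 LD3_c27)) :=
  Lre_g IH (LK LD1_c8 LD2_c50 LD3_c23) (LK LD1_c4 LD2_c26 LD3_c27) Lrfl Lrfl
theorem f545907 : Led Lsl_gf (LP (LK LD1_c8 LD2_c50 LD3_c23)) = (LP (LK LD1_c5 LD2_c57 LD3_c0)) :=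
  Lgr Lrot47 (Lpr_gt (f158165 IH) (Lpe (K37.f101327 IH) (Lpr_ff (K37.f545887 IH) (Lpn (LP (LK LD1_c5 LD2_c57 LD3_c0))))))
theorem f450005 : Led Lsl_at (LP (LK LD1_c2 LD2_c51 LD3_c1)) = (LP (LK LD1_c5 LD2_c49 LD3_c48)) :=
  Lre_a IH (LK LD1_c2 LD2_c51 LD3_c1) (LK LD1_c5 LD2_c49 LD3_c48) Lrfl Lrfl
theorem f177762 : Led Lsl_bt (LP (LK LD1_c4 LD2_c34 LD3_c16)) = (LP (LK LD1_c2 LD2_c14 LD3_c4)) :=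
  Lre_b IH (LK LD1_c4 LD2_c34 LD3_c16) (LK LD1_c2 LD2_c14 LD3_c4) Lrfl Lrfl
theorem f558274 : Led Lsl_at (LP (LK LD1_c5 LD2_c43 LD3_c0)) = (LP (LK LD1_c4 LD2_c34 LD3_c16)) :=
  Lgr Lrot67 (Lpr_bf (K40.f558272 IH) (Lpe (f450005 IH) (Lpe (K40.f450004 IH) (Lpe (K37.f450000 IH) (Lpe (f177762 IH) (Lpn (LP (LK LD1_c4 LD2_c34 LD3_c16))))))))
theorem f80215 : Led Lsl_dt (LP (LK LD1_c2 LD2_c13 LD3_c31)) = (LP (LK LD1_c4 LD2_c33 LD3_c5)) :=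
  Lre_d IH (LK LD1_c2 LD2_c13 LD3_c31) (LK LD1_c4 LD2_c33 LD3_c5) Lrfl Lrfl
theorem f538130 : Led Lsl_gf (LP (LK LD1_c4 LD2_c33 LD3_c5)) = (LP (LK LD1_c4 LD2_c41 LD3_c26)) :=
  Lgr Lrot134 (Lpe (f80215 IH) (Lpr_et (K37.f80214 IH) (Lpr_gt (K10.f80213 IH) (Lpe (K38.f80212 IH) (Lpr_dt (K5.f79956 IH) (Lpr_gt (K5.f40608 IH) (Lpe (K8.f79943 IH) (Lpr_et (K35.f79950 IH) (Lpr_gt (K40.f538126 IH) (Lpr_dt (K40.f36578 IH) (Lpn (LP (LK LD1_c4 LD2_c41 LD3_c26)))))))))))))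
theorem f563558 : Led Lsl_gf (LP (LK LD1_c4 LD2_c34 LD3_c16)) = (LP (LK LD1_c4 LD2_c33 LD3_c5)) :=
  Lgr Lrot76 (Lpe (f558274 IH) (Lpr_ff (f563550 IH) (Lpe (f538130 IH) (Lpn (LP (LK LD1_c4 LD2_c33 LD3_c5))))))
theorem f418507 : Led Lsl_dt (LP (LK LD1_c2 LD2_c14 LD3_c3)) = (LP (LK LD1_c4 LD2_c34 LD3_c16)) :=
  Lre_d IH (LK LD1_c2 LD2_c14 LD3_c3) (LK LD1_c4 LD2_c34 LD3_c16) Lrfl Lrfl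
theorem f418056 : Led Lsl_et (LP (LK LD1_c2 LD2_c14 LD3_c3)) = (LP (LK LD1_c4 LD2_c34 LD3_c17)) :=
  Lre_e IH (LK LD1_c2 LD2_c14 LD3_c3) (LK LD1_c4 LD2_c34 LD3_c17) Lrfl Lrfl
theorem f563566 : Led Lsl_gt (LP (LK LD1_c4 LD2_c34 LD3_c17)) = (LP (LK LD1_c5 LD2_c5 LD3_c59)) :=
  Lgr Lrot137 (Lpe (f418056 IH) (Lpr_dt (f418507 IH) (Lpr_gf (f563558 IH) (Lpe (f80215 IH) (Lpr_et (K37.f80214 IH) (Lpe (K37.f422831 IH) (Lpqs (K37.f545959 IH) (Lpe (K37.f500571 IH) (Lpr_dt (K37.f500542 IH) (Lpr_gf (K37.f546334 IH) (Lpe (K37.f546673 IH) (Lpn (LP (LK LD1_c5 LD2_c5 LD3_c59))))))))))))))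
theorem f418047 : Led Lsl_gt (LP (LK LD1_c12 LD2_c8 LD3_c21)) = (LP (LK LD1_c6 LD2_c15 LD3_c0)) :=
  Lre_g IH (LK LD1_c12 LD2_c8 LD3_c21) (LK LD1_c6 LD2_c15 LD3_c0) Lrfl Lrfl
theorem f545125 : Led Lsl_ct (LP (LK LD1_c5 LD2_c5 LD3_c59)) = (LP (LK LD1_c10 LD2_c2 LD3_c52)) :=
  Lre_c IH (LK LD1_c5 LD2_c5 LD3_c59) (LK LD1_c10 LD2_c2 LD3_c52) Lrfl Lrfl
theorem f421142 : Led Lsl_ct (LP (LK LD1_c4 LD2_c26 LD3_c27)) = (LP (LK LD1_c8 LD2_c50 LD3_c24)) :=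
  Lre_c IH (LK LD1_c4 LD2_c26 LD3_c27) (LK LD1_c8 LD2_c50 LD3_c24) Lrfl Lrfl
theorem f563571 : Led Lsl_dt (LP (LK LD1_c12 LD2_c8 LD3_c21)) = (LP (LK LD1_c8 LD2_c50 LD3_c23)) :=
  Lgr Lrot6 (Lpr_gt (f418047 IH) (Lpr_ct (K40.f418038 IH) (Lpr_gt (f563566 IH) (Lpr_ct (f545125 IH) (Lpe (K40.f545126 IH) (Lpe (K40.f559858 IH) (Lpe (K40.f546296 IH) (Lpe (f421142 IH) (Lpe (f158165 IH) (Lpn (LP (LK LD1_c8 LD2_c50 LD3_c23))))))))))))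
theorem f565133 : Led Lsl_et (LP (LK LD1_c12 LD2_c8 LD3_c21)) = (LP (LK LD1_c11 LD2_c6 LD3_c10)) :=
  Lgr Lrot121 (Lpr_dt (f563571 IH) (Lpr_gf (f545907 IH) (Lpe (K37.f500546 IH) (Lpe (f545955 IH) (Lpe (K39.f381797 IH) (Lpe (K39.f80169 IH) (Lpr_dt (K38.f80170 IH) (Lpr_gf (K39.f427554 IH) (Lpe (K39.f60271 IH) (Lpr_gf (f565125 IH) (Lpn (LP (LK LD1_c11 LD2_c6 LD3_c10)))))))))))))
theorem f565137 : Led Lsl_ef (LP (LK LD1_c12 LD2_c8 LD3_c21)) = (LP (LK LD1_c11 LD2_c6 LD3_c10)) :=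
  Lgr Lrot88 (Lpr_et (f565133 IH) (Lpn (LP (LK LD1_c11 LD2_c6 LD3_c10))))
theorem f418054 : Led Lsl_dt (LP (LK LD1_c6 LD2_c15 LD3_c0)) = (LP (LK LD1_c12 LD2_c8 LD3_c22)) :=
  Lre_d IH (LK LD1_c6 LD2_c15 LD3_c0) (LK LD1_c12 LD2_c8 LD3_c22) Lrfl Lrfl
theorem f280371 : Led Lsl_dt (LP (LK LD1_c20 LD2_c11 LD3_c1)) = (LP (LK LD1_c11 LD2_c15 LD3_c39)) :=
  Lre_d IH (LK LD1_c20 LD2_c11 LD3_c1) (LK LD1_c11 LD2_c15 LD3_c39) Lrfl Lrfl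
theorem f297100 : Led Lsl_ft (LP (LK LD1_c16 LD2_c19 LD3_c35)) = (LP (LK LD1_c17 LD2_c54 LD3_c22)) :=
  Lgr Lrot54 (Lpe (K18.f173339 IH) (Lpr_ff (K18.f297082 IH) (Lpe (K39.f168258 IH) (Lpn (LP (LK LD1_c17 LD2_c54 LD3_c22))))))
theorem f385410 : Led Lsl_af (LP (LK LD1_c16 LD2_c56 LD3_c9)) = (LP (LK LD1_c17 LD2_c54 LD3_c22)) :=
  Lgr Lrot45 (Lpr_ft (K30.f385405 IH) (Lpe (K30.f297053 IH) (Lpr_ft (f297100 IH) (Lpn (LP (LK LD1_c17 LD2_c54 LD3_c22))))))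
theorem f561955 : Led Lsl_gt (LP (LK LD1_c16 LD2_c19 LD3_c35)) = (LP (LK LD1_c20 LD2_c11 LD3_c1)) :=
  Lgr Lrot5 (Lpr_ft (f297100 IH) (Lpe (f385410 IH) (Lpr_gf (K40.f561952 IH) (Lpn (LP (LK LD1_c20 LD2_c11 LD3_c1))))))
theorem f565123 : Led Lsl_dt (LP (LK LD1_c16 LD2_c21 LD3_c48)) = (LP (LK LD1_c11 LD2_c6 LD3_c10)) :=
  Lgr Lrot42 (Lpr_df (f565118 IH) (Lpn (LP (LK LD1_c11 LD2_c6 LD3_c10))))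
theorem f565127 : Led Lsl_gt (LP (LK LD1_c9 LD2_c1 LD3_c60)) = (LP (LK LD1_c16 LD2_c21 LD3_c48)) :=
  Lgr Lrot94 (Lpr_cf (K31.f407040 IH) (Lpr_gt (K31.f173341 IH) (Lpr_dt (K18.f173339 IH) (Lpr_gt (f561955 IH) (Lpr_dt (f280371 IH) (Lpe (K39.f551741 IH) (Lpe (K39.f60271 IH) (Lpr_gf (f565125 IH) (Lpe (f565123 IH) (Lpn (LP (LK LD1_c16 LD2_c21 LD3_c48))))))))))))
theorem f163144 : Led Lsl_af (LP (LK LD1_c1 LD2_c23 LD3_c1)) = (LP (LK LD1_c2 LD2_c14 LD3_c51)) :=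
  Lgr Lrot68 (Lpr_ct (K8.f138263 IH) (Lpr_at (K8.f163142 IH) (Lpr_ct (K7.f37064 IH) (Lpn (LP (LK LD1_c2 LD2_c14 LD3_c51))))))
theorem f542134 : Led Lsl_et (LP (LK LD1_c4 LD2_c32 LD3_c10)) = (LP (LK LD1_c2 LD2_c14 LD3_c51)) :=
  Lgr Lrot123 (Lpr_af (K36.f542132 IH) (Lpe (K36.f500500 IH) (Lpr_af (f163144 IH) (Lpn (LP (LK LD1_c2 LD2_c14 LD3_c51))))))
theorem f565144 : Led Lsl_gt (LP (LK LD1_c12 LD2_c8 LD3_c22)) = (LP (LK LD1_c15 LD2_c4 LD3_c47)) :=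
  Lgr Lrot139 (Lpe (f418054 IH) (Lpe (f418047 IH) (Lpr_ef (f565137 IH) (Lpe (f565118 IH) (Lpe (f565127 IH) (Lpe (K31.f280520 IH) (Lpr_et (f542134 IH) (Lpr_gf (K7.f37055 IH) (Lpe (K39.f37066 IH) (Lpr_dt (f37067 IH) (Lpn (LP (LK LD1_c15 LD2_c4 LD3_c47)))))))))))))
theorem f418053 : Led Lsl_gt (LP (LK LD1_c6 LD2_c14 LD3_c60)) = (LP (LK LD1_c3 LD2_c4 LD3_c26)) :=
  Lre_g IH (LK LD1_c6 LD2_c14 LD3_c60) (LK LD1_c3 LD2_c4 LD3_c26) Lrfl Lrfl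
theorem f565154 : Led Lsl_ef (LP (LK LD1_c6 LD2_c14 LD3_c60)) = (LP (LK LD1_c4 LD2_c41 LD3_c19)) :=
  Lgr Lrot114 (Lpr_gt (f418053 IH) (Lpe (K40.f418055 IH) (Lpr_dt (f418054 IH) (Lpr_gt (f565144 IH) (Lpe (f37067 IH) (Lpr_et (K39.f37066 IH) (Lpe (K7.f37055 IH) (Lpr_dt (K11.f37060 IH) (Lpr_gt (K32.f202896 IH) (Lpr_df (K32.f420337 IH) (Lpn (LP (LK LD1_c4 LD2_c41 LD3_c19)))))))))))))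
theorem f420350 : Led Lsl_bf (LP (LK LD1_c2 LD2_c48 LD3_c56)) = (LP (LK LD1_c4 LD2_c41 LD3_c19)) :=
  Lgr Lrot34 (Lpe (K39.f206787 IH) (Lpr_bf (K2.f73396 IH) (Lpr_ct (K8.f73398 IH) (Lpe (K4.f79922 IH) (Lpe (K5.f60869 IH) (Lpr_gf (K38.f119077 IH) (Lpe (K8.f117615 IH) (Lpr_ct (K5.f117813 IH) (Lpe (K5.f66271 IH) (Lpr_cf (K36.f420347 IH) (Lpn (LP (LK LD1_c4 LD2_c41 LD3_c19)))))))))))))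
theorem f498960 : Led Lsl_ff (LP (LK LD1_c2 LD2_c16 LD3_c48)) = (LP (LK LD1_c2 LD2_c48 LD3_c56)) :=
  Lgr Lrot25 (Lpr_bt (K36.f205726 IH) (Lpr_ft (K36.f498958 IH) (Lpe (f420350 IH) (Lpn (LP (LK LD1_c2 LD2_c48 LD3_c56))))))
theorem f100242 : Led Lsl_et (LP (LK LD1_c5 LD2_c46 LD3_c23)) = (LP (LK LD1_c2 LD2_c48 LD3_c56)) :=
  Lre_e IH (LK LD1_c5 LD2_c46 LD3_c23) (LK LD1_c2 LD2_c48 LD3_c56) Lrfl Lrfl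
theorem f565166 : Led Lsl_ft (LP (LK LD1_c6 LD2_c14 LD3_c60)) = (LP (LK LD1_c5 LD2_c46 LD3_c23)) :=
  Lgr Lrot86 (Lpr_ef (f565154 IH) (Lpe (K36.f498958 IH) (Lpr_ef (K38.f549861 IH) (Lpr_ff (f498960 IH) (Lpe (f100242 IH) (Lpn (LP (LK LD1_c5 LD2_c46 LD3_c23))))))))
theorem f498993 : Led Lsl_at (LP (LK LD1_c2 LD2_c16 LD3_c48)) = (LP (LK LD1_c2 LD2_c48 LD3_c55)) :=
  Lgr Lrot100 (Lpr_af (K36.f498982 IH) (Lpn (LP (LK LD1_c2 LD2_c48 LD3_c55))))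
theorem f499011 : Led Lsl_at (LP (LK LD1_c2 LD2_c16 LD3_c47)) = (LP (LK LD1_c2 LD2_c48 LD3_c56)) :=
  Lgr Lrot66 (Lpr_ff (K36.f499009 IH) (Lpe (f498993 IH) (Lpr_ff (f498960 IH) (Lpn (LP (LK LD1_c2 LD2_c48 LD3_c56))))))
theorem f56190 : Led Lsl_et (LP (LK LD1_c4 LD2_c39 LD3_c35)) = (LP (LK LD1_c2 LD2_c16 LD3_c47)) :=
  Lre_e IH (LK LD1_c4 LD2_c39 LD3_c35) (LK LD1_c2 LD2_c16 LD3_c47) Lrfl Lrfl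
theorem f499292 : Led Lsl_af (LP (LK LD1_c4 LD2_c39 LD3_c35)) = (LP (LK LD1_c5 LD2_c46 LD3_c23)) :=
  Lgr Lrot50 (Lpr_et (f56190 IH) (Lpr_at (f499011 IH) (Lpr_et (K38.f161546 IH) (Lpn (LP (LK LD1_c5 LD2_c46 LD3_c23))))))
theorem f565174 : Led Lsl_gt (LP (LK LD1_c3 LD2_c4 LD3_c26)) = (LP (LK LD1_c4 LD2_c39 LD3_c35)) :=
  Lgr Lrot46 (Lpe (f418053 IH) (Lpr_ft (f565166 IH) (Lpe (f499292 IH) (Lpn (LP (LK LD1_c4 LD2_c39 LD3_c35))))))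
theorem f71979 : Led Lsl_dt (LP (LK LD1_c1 LD2_c23 LD3_c9)) = (LP (LK LD1_c2 LD2_c54 LD3_c19)) :=
  Lre_d IH (LK LD1_c1 LD2_c23 LD3_c9) (LK LD1_c2 LD2_c54 LD3_c19) Lrfl Lrfl
def v1295 : LQ := Led Lsl_gt (LP (LK LD1_c1 LD2_c5 LD3_c50))
theorem f494675 : Led Lsl_gt (LP (LK LD1_c1 LD2_c5 LD3_c50)) = v1295 :=
  Lrfl
theorem f563541 : (LP (LK LD1_c2 LD2_c14 LD3_c3)) = v1295 :=
  (Llr Lrot122 (Lpe (K40.f418044 IH) (Lpr_dt (f563496 IH) (Lpr_gt (K40.f424775 IH) (Lpe (f71979 IH) (Lpr_et (K40.f71972 IH) (Lpe (K8.f163037 IH) (Lpr_dt (K8.f35231 IH) (Lpe (K8.f150446 IH) (Lpr_df (K8.f26844 IH) (Lpr_et (K40.f26877 IH) (Lpr_gt (f494675 IH) (Lpn v1295))))))))))))).symm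
theorem f25994 : Led Lsl_bt (LP (LK LD1_c0 LD2_c30 LD3_c5)) = (LP (LK LD1_c1 LD2_c5 LD3_c50)) :=
  Lre_b IH (LK LD1_c0 LD2_c30 LD3_c5) (LK LD1_c1 LD2_c5 LD3_c50) Lrfl Lrfl
theorem f142048 : Led Lsl_et (LP (LK LD1_c2 LD2_c49 LD3_c57)) = (LP (LK LD1_c5 LD2_c47 LD3_c51)) :=
  Lre_e IH (LK LD1_c2 LD2_c49 LD3_c57) (LK LD1_c5 LD2_c47 LD3_c51) Lrfl Lrfl
theorem f142079 : Led Lsl_ct (LP (LK LD1_c5 LD2_c47 LD3_c51)) = (LP (LK LD1_c4 LD2_c39 LD3_c35)) :=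
  Lgr Lrot15 (Lpe (f142048 IH) (Lpr_cf (K8.f142076 IH) (Lpe (f56190 IH) (Lpn (LP (LK LD1_c4 LD2_c39 LD3_c35))))))
theorem f565182 : Led Lsl_bf (LP (LK LD1_c2 LD2_c50 LD3_c39)) = (LP (LK LD1_c5 LD2_c47 LD3_c51)) :=
  Lgr Lrot156 (Lpr_gt (f176680 IH) (Lpe (K38.f176631 IH) (Lpe (K38.f176635 IH) (Lpr_gt (K10.f25940 IH) (Lpe (K10.f25926 IH) (Lpr_bt (f25994 IH) (Lpr_gt (f494675 IH) (Lpq (f563541 IH) (Lpe (K40.f418045 IH) (Lpr_gt (f565174 IH) (Lpe (f142079 IH) (Lpn (LP (LK LD1_c5 LD2_c47 LD3_c51))))))))))))))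
theorem f450237 : Led Lsl_dt (LP (LK LD1_c2 LD2_c50 LD3_c39)) = (LP (LK LD1_c5 LD2_c49 LD3_c9)) :=
  Lre_d IH (LK LD1_c2 LD2_c50 LD3_c39) (LK LD1_c5 LD2_c49 LD3_c9) Lrfl Lrfl
theorem f142042 : Led Lsl_dt (LP (LK LD1_c11 LD2_c25 LD3_c24)) = (LP (LK LD1_c5 LD2_c47 LD3_c51)) :=
  Lre_d IH (LK LD1_c11 LD2_c25 LD3_c24) (LK LD1_c5 LD2_c47 LD3_c51) Lrfl Lrfl
theorem f565186 : Led Lsl_bt (LP (LK LD1_c5 LD2_c49 LD3_c9)) = (LP (LK LD1_c11 LD2_c25 LD3_c24)) :=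
  Lgr Lrot95 (Lpe (f450237 IH) (Lpr_bf (f565182 IH) (Lpe (f142042 IH) (Lpn (LP (LK LD1_c11 LD2_c25 LD3_c24))))))
theorem f498349 : Led Lsl_at (LP (LK LD1_c12 LD2_c8 LD3_c50)) = (LP (LK LD1_c11 LD2_c25 LD3_c12)) :=
  Lgr Lrot100 (Lpr_af (K36.f498347 IH) (Lpn (LP (LK LD1_c11 LD2_c25 LD3_c12))))
theorem f142083 : Led Lsl_cf (LP (LK LD1_c5 LD2_c47 LD3_c51)) = (LP (LK LD1_c4 LD2_c39 LD3_c35)) :=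
  Lgr Lrot11 (Lpr_ct (f142079 IH) (Lpn (LP (LK LD1_c4 LD2_c39 LD3_c35))))
theorem f499296 : Led Lsl_at (LP (LK LD1_c5 LD2_c47 LD3_c51)) = (LP (LK LD1_c6 LD2_c4 LD3_c14)) :=
  Lgr Lrot107 (Lpr_cf (f142083 IH) (Lpr_af (f499292 IH) (Lpr_cf (K38.f425837 IH) (Lpn (LP (LK LD1_c6 LD2_c4 LD3_c14))))))
theorem f499300 : Led Lsl_af (LP (LK LD1_c11 LD2_c25 LD3_c24)) = (LP (LK LD1_c11 LD2_c51 LD3_c59)) :=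
  Lgr Lrot117 (Lpr_dt (f142042 IH) (Lpr_at (f499296 IH) (Lpr_dt (K8.f75494 IH) (Lpn (LP (LK LD1_c11 LD2_c51 LD3_c59))))))
theorem f548739 : Led Lsl_ff (LP (LK LD1_c12 LD2_c8 LD3_c50)) = (LP (LK LD1_c11 LD2_c25 LD3_c24)) :=
  Lgr Lrot30 (Lpr_at (f498349 IH) (Lpr_ft (K38.f548737 IH) (Lpe (f499300 IH) (Lpn (LP (LK LD1_c11 LD2_c25 LD3_c24))))))
theorem f565193 : Led Lsl_ff (LP (LK LD1_c5 LD2_c49 LD3_c9)) = (LP (LK LD1_c6 LD2_c15 LD3_c21)) :=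
  Lgr Lrot25 (Lpr_bt (f565186 IH) (Lpe (f548739 IH) (Lpr_bt (K8.f149228 IH) (Lpn (LP (LK LD1_c6 LD2_c15 LD3_c21))))))
theorem f565199 : Led Lsl_ft (LP (LK LD1_c5 LD2_c49 LD3_c9)) = (LP (LK LD1_c6 LD2_c15 LD3_c21)) :=
  Lgr Lrot48 (Lpr_ff (f565193 IH) (Lpn (LP (LK LD1_c6 LD2_c15 LD3_c21))))
theorem f565203 : Led Lsl_ff (LP (LK LD1_c2 LD2_c50 LD3_c39)) = (LP (LK LD1_c3 LD2_c4 LD3_c45)) :=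
  Lgr Lrot19 (Lpr_dt (f450237 IH) (Lpr_ft (f565199 IH) (Lpr_dt (K8.f80639 IH) (Lpn (LP (LK LD1_c3 LD2_c4 LD3_c45))))))
theorem f565207 : Led Lsl_at (LP (LK LD1_c2 LD2_c50 LD3_c39)) = (LP (LK LD1_c3 LD2_c5 LD3_c38)) :=
  Lgr Lrot26 (Lpr_ff (f565203 IH) (Lpqs (K37.f546836 IH) (Lpe (K37.f503197 IH) (Lpr_gt (K40.f186339 IH) (Lpn (LP (LK LD1_c3 LD2_c5 LD3_c38)))))))
theorem f497292 : Led Lsl_af (LP (LK LD1_c3 LD2_c4 LD3_c45)) = (LP (LK LD1_c2 LD2_c49 LD3_c33)) :=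
  Lgr Lrot0 (Lpr_at (K32.f497290 IH) (Lpn (LP (LK LD1_c2 LD2_c49 LD3_c33))))
theorem f565217 : Led Lsl_ff (LP (LK LD1_c2 LD2_c49 LD3_c33)) = (LP (LK LD1_c3 LD2_c5 LD3_c38)) :=
  Lgr Lrot30 (Lpe (f497292 IH) (Lpe (f565203 IH) (Lpr_at (f565207 IH) (Lpn (LP (LK LD1_c3 LD2_c5 LD3_c38))))))
theorem f565227 : Led Lsl_ft (LP (LK LD1_c2 LD2_c49 LD3_c33)) = (LP (LK LD1_c3 LD2_c5 LD3_c38)) :=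
  Lgr Lrot48 (Lpr_ff (f565217 IH) (Lpn (LP (LK LD1_c3 LD2_c5 LD3_c38))))
theorem f565231 : Led Lsl_ef (LP (LK LD1_c2 LD2_c49 LD3_c19)) = (LP (LK LD1_c3 LD2_c5 LD3_c38)) :=
  Lgr Lrot21 (Lpe (K32.f497432 IH) (Lpq (K36.f539754 IH) (Lpe (K36.f503106 IH) (Lpq (K32.f497189 IH) (Lpe (K32.f496027 IH) (Lpr_et (K38.f149993 IH) (Lpr_ft (f565227 IH) (Lpn (LP (LK LD1_c3 LD2_c5 LD3_c38))))))))))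
theorem f100561 : Led Lsl_dt (LP (LK LD1_c1 LD2_c56 LD3_c15)) = (LP (LK LD1_c3 LD2_c59 LD3_c3)) :=
  Lre_d IH (LK LD1_c1 LD2_c56 LD3_c15) (LK LD1_c3 LD2_c59 LD3_c3) Lrfl Lrfl
theorem f548957 : Led Lsl_et (LP (LK LD1_c1 LD2_c56 LD3_c15)) = (LP (LK LD1_c3 LD2_c59 LD3_c4)) :=
  Lre_e IH (LK LD1_c1 LD2_c56 LD3_c15) (LK LD1_c3 LD2_c59 LD3_c4) Lrfl Lrfl
theorem f210479 : Led Lsl_dt (LP (LK LD1_c3 LD2_c5 LD3_c38)) = (LP (LK LD1_c6 LD2_c16 LD3_c61)) :=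
  Lre_d IH (LK LD1_c3 LD2_c5 LD3_c38) (LK LD1_c6 LD2_c16 LD3_c61) Lrfl Lrfl
theorem f301908 : Led Lsl_df (LP (LK LD1_c4 LD2_c34 LD3_c8)) = (LP (LK LD1_c2 LD2_c46 LD3_c40)) :=
  Lgr Lrot12 (Lpr_bt (K36.f301907 IH) (Lpr_dt (K18.f301901 IH) (Lpr_bt (K35.f301887 IH) (Lpn (LP (LK LD1_c2 LD2_c46 LD3_c40))))))
theorem f545724 : Led Lsl_ef (LP (LK LD1_c2 LD2_c34 LD3_c2)) = (LP (LK LD1_c2 LD2_c46 LD3_c40)) :=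
  Lgr Lrot167 (Lpe (K37.f544435 IH) (Lpr_dt (K38.f545711 IH) (Lpr_gt (K38.f55830 IH) (Lpe (K36.f55881 IH) (Lpr_et (K36.f73388 IH) (Lpe (K8.f73426 IH) (Lpe (K8.f73435 IH) (Lpr_dt (K36.f73436 IH) (Lpe (K40.f428014 IH) (Lpr_df (f301908 IH) (Lpn (LP (LK LD1_c2 LD2_c46 LD3_c40)))))))))))))
theorem f565238 : Led Lsl_gt (LP (LK LD1_c4 LD2_c34 LD3_c8)) = (LP (LK LD1_c6 LD2_c16 LD3_c61)) :=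
  Lgr Lrot112 (Lpr_df (f301908 IH) (Lpe (f545724 IH) (Lpe (K36.f421683 IH) (Lpr_ef (K36.f427918 IH) (Lpr_dt (K36.f205800 IH) (Lpe (K36.f205806 IH) (Lpe (K8.f138841 IH) (Lpr_gf (K8.f158851 IH) (Lpr_ef (f565231 IH) (Lpr_dt (f210479 IH) (Lpn (LP (LK LD1_c6 LD2_c16 LD3_c61)))))))))))))
theorem f565240 : Led Lsl_gt (LP (LK LD1_c3 LD2_c59 LD3_c4)) = (LP (LK LD1_c2 LD2_c46 LD3_c40)) :=
  Lgr Lrot137 (Lpe (f548957 IH) (Lpr_dt (f100561 IH) (Lpe (K40.f561539 IH) (Lpe (K39.f383418 IH) (Lpr_et (K39.f506390 IH) (Lpq (K36.f537668 IH) (Lpr_gf (K8.f158851 IH) (Lpr_ef (f565231 IH) (Lpr_dt (f210479 IH) (Lpe (f565238 IH) (Lpr_df (f301908 IH) (Lpn (LP (LK LD1_c2 LD2_c46 LD3_c40))))))))))))))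
theorem f565250 : Led Lsl_et (LP (LK LD1_c2 LD2_c34 LD3_c2)) = (LP (LK LD1_c2 LD2_c46 LD3_c40)) :=
  Lgr Lrot122 (Lpr_dt (K36.f421692 IH) (Lpe (K36.f541316 IH) (Lpe (K36.f79920 IH) (Lpr_et (K36.f137991 IH) (Lpr_gt (K36.f541277 IH) (Lpr_dt (K39.f383418 IH) (Lpr_gt (K40.f561539 IH) (Lpe (f100561 IH) (Lpr_et (f548957 IH) (Lpr_gt (f565240 IH) (Lpn (LP (LK LD1_c2 LD2_c46 LD3_c40)))))))))))))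
theorem f302049 : Led Lsl_et (LP (LK LD1_c1 LD2_c12 LD3_c30)) = (LP (LK LD1_c2 LD2_c30 LD3_c61)) :=
  Lre_e IH (LK LD1_c1 LD2_c12 LD3_c30) (LK LD1_c2 LD2_c30 LD3_c61) Lrfl Lrfl
theorem f565256 : Led Lsl_ff (LP (LK LD1_c2 LD2_c34 LD3_c2)) = (LP (LK LD1_c2 LD2_c30 LD3_c61)) :=
  Lgr Lrot72 (Lpr_et (f565250 IH) (Lpe (K36.f302038 IH) (Lpr_et (K38.f61380 IH) (Lpr_ft (K32.f301795 IH) (Lpr_et (f302049 IH) (Lpn (LP (LK LD1_c2 LD2_c30 LD3_c61))))))))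
theorem f495458 : Led Lsl_at (LP (LK LD1_c2 LD2_c34 LD3_c2)) = (LP (LK LD1_c5 LD2_c14 LD3_c23)) :=
  Lre_a IH (LK LD1_c2 LD2_c34 LD3_c2) (LK LD1_c5 LD2_c14 LD3_c23) Lrfl Lrfl
theorem f565329 : Led Lsl_ft (LP (LK LD1_c5 LD2_c14 LD3_c23)) = (LP (LK LD1_c5 LD2_c7 LD3_c17)) :=
  Lgr Lrot101 (Lpe (f495458 IH) (Lpr_ff (f565256 IH) (Lpe (K36.f301854 IH) (Lpn (LP (LK LD1_c5 LD2_c7 LD3_c17))))))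
theorem f421703 : Led Lsl_gt (LP (LK LD1_c5 LD2_c7 LD3_c24)) = (LP (LK LD1_c2 LD2_c30 LD3_c61)) :=
  Lre_g IH (LK LD1_c5 LD2_c7 LD3_c24) (LK LD1_c2 LD2_c30 LD3_c61) Lrfl Lrfl
theorem f565352 : Led Lsl_gt (LP (LK LD1_c5 LD2_c14 LD3_c23)) = (LP (LK LD1_c5 LD2_c7 LD3_c24)) :=
  Lgr Lrot5 (Lpr_ft (f565329 IH) (Lpr_at (K36.f301854 IH) (Lpe (f421703 IH) (Lpn (LP (LK LD1_c5 LD2_c7 LD3_c24))))))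
theorem f495457 : Led Lsl_at (LP (LK LD1_c5 LD2_c14 LD3_c23)) = (LP (LK LD1_c2 LD2_c34 LD3_c2)) :=
  Lre_a IH (LK LD1_c5 LD2_c14 LD3_c23) (LK LD1_c2 LD2_c34 LD3_c2) Lrfl Lrfl
theorem f565252 : Led Lsl_ef (LP (LK LD1_c5 LD2_c14 LD3_c23)) = (LP (LK LD1_c5 LD2_c41 LD3_c15)) :=
  Lgr Lrot20 (Lpr_at (f495457 IH) (Lpr_et (f565250 IH) (Lpr_at (K40.f301888 IH) (Lpn (LP (LK LD1_c5 LD2_c41 LD3_c15))))))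
theorem f450383 : Led Lsl_et (LP (LK LD1_c2 LD2_c50 LD3_c43)) = (LP (LK LD1_c1 LD2_c21 LD3_c20)) :=
  Lre_e IH (LK LD1_c2 LD2_c50 LD3_c43) (LK LD1_c1 LD2_c21 LD3_c20) Lrfl Lrfl
theorem f450380 : Led Lsl_dt (LP (LK LD1_c2 LD2_c50 LD3_c43)) = (LP (LK LD1_c5 LD2_c49 LD3_c19)) :=
  Lre_d IH (LK LD1_c2 LD2_c50 LD3_c43) (LK LD1_c5 LD2_c49 LD3_c19) Lrfl Lrfl
theorem f176613 : Led Lsl_gt (LP (LK LD1_c11 LD2_c27 LD3_c42)) = (LP (LK LD1_c5 LD2_c49 LD3_c19)) :=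
  Lre_g IH (LK LD1_c11 LD2_c27 LD3_c42) (LK LD1_c5 LD2_c49 LD3_c19) Lrfl Lrfl
theorem f100456 : Led Lsl_gt (LP (LK LD1_c3 LD2_c3 LD3_c27)) = (LP (LK LD1_c6 LD2_c13 LD3_c17)) :=
  Lre_g IH (LK LD1_c3 LD2_c3 LD3_c27) (LK LD1_c6 LD2_c13 LD3_c17) Lrfl Lrfl
theorem f548949 : Led Lsl_dt (LP (LK LD1_c6 LD2_c13 LD3_c17)) = (LP (LK LD1_c11 LD2_c27 LD3_c42)) :=
  Lgr Lrot171 (Lpe (f100456 IH) (Lpe (K36.f100455 IH) (Lpe (K7.f100445 IH) (Lpr_gf (K7.f156751 IH) (Lpe (K7.f149982 IH) (Lpr_et (K38.f149993 IH) (Lpqs (K38.f548944 IH) (Lpe (K38.f496173 IH) (Lpe (f450383 IH) (Lpr_dt (f450380 IH) (Lpe (f176613 IH) (Lpn (LP (LK LD1_c11 LD2_c27 LD3_c42))))))))))))))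
theorem f565368 : Led Lsl_et (LP (LK LD1_c6 LD2_c13 LD3_c17)) = (LP (LK LD1_c5 LD2_c7 LD3_c24)) :=
  Lgr Lrot122 (Lpr_dt (f548949 IH) (Lpr_gt (f176613 IH) (Lpe (f450380 IH) (Lpr_et (f450383 IH) (Lpr_gt (K38.f496173 IH) (Lpq (K38.f548944 IH) (Lpr_dt (K32.f73289 IH) (Lpe (K40.f421285 IH) (Lpr_df (K40.f302050 IH) (Lpe (f565252 IH) (Lpr_gt (f565352 IH) (Lpn (LP (LK LD1_c5 LD2_c7 LD3_c24))))))))))))))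
theorem f565373 : Led Lsl_ef (LP (LK LD1_c6 LD2_c13 LD3_c17)) = (LP (LK LD1_c5 LD2_c7 LD3_c24)) :=
  Lgr Lrot88 (Lpr_et (f565368 IH) (Lpn (LP (LK LD1_c5 LD2_c7 LD3_c24))))
theorem f100587 : Led Lsl_ct (LP (LK LD1_c6 LD2_c13 LD3_c17)) = (LP (LK LD1_c12 LD2_c5 LD3_c26)) :=
  Lre_c IH (LK LD1_c6 LD2_c13 LD3_c17) (LK LD1_c12 LD2_c5 LD3_c26) Lrfl Lrfl
theorem f565363 : Led Lsl_ct (LP (LK LD1_c10 LD2_c5 LD3_c14)) = (LP (LK LD1_c5 LD2_c7 LD3_c24)) :=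
  Lre_c IH (LK LD1_c10 LD2_c5 LD3_c14) (LK LD1_c5 LD2_c7 LD3_c24) Lrfl Lrfl
theorem f565375 : Led Lsl_et (LP (LK LD1_c12 LD2_c5 LD3_c26)) = (LP (LK LD1_c10 LD2_c5 LD3_c14)) :=
  Lgr Lrot158 (Lpe (f100587 IH) (Lpr_ef (f565373 IH) (Lpe (f565363 IH) (Lpn (LP (LK LD1_c10 LD2_c5 LD3_c14))))))
theorem f557833 : Led Lsl_cf (LP (LK LD1_c5 LD2_c14 LD3_c23)) = (LP (LK LD1_c2 LD2_c53 LD3_c33)) :=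
  Lgr Lrot1 (Lpr_at (f495457 IH) (Lpr_ct (K36.f421680 IH) (Lpr_at (K40.f557827 IH) (Lpn (LP (LK LD1_c2 LD2_c53 LD3_c33))))))
theorem f565364 : Led Lsl_bf (LP (LK LD1_c8 LD2_c38 LD3_c55)) = (LP (LK LD1_c10 LD2_c5 LD3_c14)) :=
  Lgr Lrot156 (Lpr_gt (K32.f402922 IH) (Lpe (K32.f239242 IH) (Lpr_ct (K15.f239243 IH) (Lpr_gt (K12.f31537 IH) (Lpe (K11.f201418 IH) (Lpr_bt (K36.f72245 IH) (Lpr_gt (K36.f138620 IH) (Lpe (f557833 IH) (Lpr_gt (f565352 IH) (Lpe (f565363 IH) (Lpn (LP (LK LD1_c10 LD2_c5 LD3_c14)))))))))))))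
theorem f158224 : Led Lsl_et (LP (LK LD1_c4 LD2_c0 LD3_c47)) = (LP (LK LD1_c1 LD2_c57 LD3_c9)) :=
  Lre_e IH (LK LD1_c4 LD2_c0 LD3_c47) (LK LD1_c1 LD2_c57 LD3_c9) Lrfl Lrfl
theorem f421357 : Led Lsl_ft (LP (LK LD1_c8 LD2_c2 LD3_c21)) = (LP (LK LD1_c4 LD2_c0 LD3_c47)) :=
  Lre_f IH (LK LD1_c8 LD2_c2 LD3_c21) (LK LD1_c4 LD2_c0 LD3_c47) Lrfl Lrfl
theorem f421358 : Led Lsl_et (LP (LK LD1_c8 LD2_c38 LD3_c55)) = (LP (LK LD1_c8 LD2_c2 LD3_c21)) :=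
  Lgr Lrot69 (Lpr_ff (K36.f421351 IH) (Lpe (K32.f158207 IH) (Lpe (K8.f158183 IH) (Lpe (f158224 IH) (Lpe (f421357 IH) (Lpn (LP (LK LD1_c8 LD2_c2 LD3_c21))))))))
theorem f565377 : Led Lsl_bf (LP (LK LD1_c12 LD2_c5 LD3_c26)) = (LP (LK LD1_c8 LD2_c2 LD3_c21)) :=
  Lgr Lrot96 (Lpr_et (f565375 IH) (Lpe (f565364 IH) (Lpr_et (f421358 IH) (Lpn (LP (LK LD1_c8 LD2_c2 LD3_c21))))))
theorem f421348 : Led Lsl_ft (LP (LK LD1_c4 LD2_c0 LD3_c47)) = (LP (LK LD1_c8 LD2_c2 LD3_c21)) :=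
  Lre_f IH (LK LD1_c4 LD2_c0 LD3_c47) (LK LD1_c8 LD2_c2 LD3_c21) Lrfl Lrfl
theorem f565386 : Led Lsl_ft (LP (LK LD1_c12 LD2_c5 LD3_c26)) = (LP (LK LD1_c6 LD2_c13 LD3_c23)) :=
  Lgr Lrot75 (Lpr_bf (f565377 IH) (Lpe (f421348 IH) (Lpr_bf (K39.f556587 IH) (Lpn (LP (LK LD1_c6 LD2_c13 LD3_c23))))))
theorem f565392 : Led Lsl_ff (LP (LK LD1_c12 LD2_c5 LD3_c26)) = (LP (LK LD1_c6 LD2_c13 LD3_c23)) :=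
  Lgr Lrot3 (Lpr_ft (f565386 IH) (Lpn (LP (LK LD1_c6 LD2_c13 LD3_c23))))
theorem f565400 : Led Lsl_at (LP (LK LD1_c12 LD2_c5 LD3_c26)) = (LP (LK LD1_c6 LD2_c13 LD3_c20)) :=
  Lgr Lrot26 (Lpr_ff (f565392 IH) (Lpr_gt (f565083 IH) (Lpe (K37.f539929 IH) (Lpn (LP (LK LD1_c6 LD2_c13 LD3_c20))))))
theorem f424937 : Led Lsl_ct (LP (LK LD1_c8 LD2_c0 LD3_c10)) = (LP (LK LD1_c15 LD2_c4 LD3_c46)) :=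
  Lre_c IH (LK LD1_c8 LD2_c0 LD3_c10) (LK LD1_c15 LD2_c4 LD3_c46) Lrfl Lrfl
theorem f424944 : Led Lsl_at (LP (LK LD1_c4 LD2_c0 LD3_c47)) = (LP (LK LD1_c8 LD2_c0 LD3_c10)) :=
  Lgr Lrot107 (Lpe (K39.f424943 IH) (Lpr_af (K39.f424932 IH) (Lpe (f424937 IH) (Lpn (LP (LK LD1_c8 LD2_c0 LD3_c10))))))
theorem f424952 : Led Lsl_bt (LP (LK LD1_c8 LD2_c0 LD3_c10)) = (LP (LK LD1_c3 LD2_c59 LD3_c33)) :=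
  Lre_b IH (LK LD1_c8 LD2_c0 LD3_c10) (LK LD1_c3 LD2_c59 LD3_c33) Lrfl Lrfl
theorem f158362 : Led Lsl_af (LP (LK LD1_c6 LD2_c13 LD3_c15)) = (LP (LK LD1_c3 LD2_c59 LD3_c33)) :=
  Lgr Lrot0 (Lpr_at (K8.f158360 IH) (Lpn (LP (LK LD1_c3 LD2_c59 LD3_c33))))
theorem f556613 : Led Lsl_at (LP (LK LD1_c4 LD2_c58 LD3_c55)) = (LP (LK LD1_c6 LD2_c13 LD3_c23)) :=
  Lgr Lrot67 (Lpr_bf (K6.f101717 IH) (Lpr_af (f158362 IH) (Lpe (f424952 IH) (Lpe (f424944 IH) (Lpr_bf (K39.f556587 IH) (Lpn (LP (LK LD1_c6 LD2_c13 LD3_c23))))))))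
theorem f565411 : Led Lsl_ff (LP (LK LD1_c4 LD2_c58 LD3_c55)) = (LP (LK LD1_c6 LD2_c13 LD3_c20)) :=
  Lgr Lrot30 (Lpr_at (f556613 IH) (Lpe (f565392 IH) (Lpr_at (f565400 IH) (Lpn (LP (LK LD1_c6 LD2_c13 LD3_c20))))))
theorem f565421 : Led Lsl_gf (LP (LK LD1_c6 LD2_c13 LD3_c23)) = (LP (LK LD1_c4 LD2_c36 LD3_c23)) :=
  Lgr Lrot76 (Lpe (f556613 IH) (Lpr_ff (f565411 IH) (Lpr_gt (K39.f546820 IH) (Lpn (LP (LK LD1_c4 LD2_c36 LD3_c23))))))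
theorem f175030 : Led Lsl_gt (LP (LK LD1_c6 LD2_c13 LD3_c12)) = (LP (LK LD1_c12 LD2_c5 LD3_c20)) :=
  Lre_g IH (LK LD1_c6 LD2_c13 LD3_c12) (LK LD1_c12 LD2_c5 LD3_c20) Lrfl Lrfl
theorem f35491 : Led Lsl_gt (LP (LK LD1_c4 LD2_c24 LD3_c53)) = (LP (LK LD1_c8 LD2_c46 LD3_c59)) :=
  Lre_g IH (LK LD1_c4 LD2_c24 LD3_c53) (LK LD1_c8 LD2_c46 LD3_c59) Lrfl Lrfl
theorem f210627 : Led Lsl_bf (LP (LK LD1_c8 LD2_c46 LD3_c59)) = (LP (LK LD1_c4 LD2_c36 LD3_c23)) :=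
  Lgr Lrot34 (Lpe (f35491 IH) (Lpe (K1.f35490 IH) (Lpr_ct (K1.f35486 IH) (Lpr_gf (K11.f210618 IH) (Lpe (K12.f198068 IH) (Lpr_gf (K10.f198296 IH) (Lpe (f71463 IH) (Lpr_ct (f138514 IH) (Lpe (K38.f112370 IH) (Lpe (K38.f198304 IH) (Lpn (LP (LK LD1_c4 LD2_c36 LD3_c23)))))))))))))
theorem f210635 : Led Lsl_bt (LP (LK LD1_c8 LD2_c46 LD3_c59)) = (LP (LK LD1_c4 LD2_c36 LD3_c23)) :=
  Lgr Lrot127 (Lpr_bf (f210627 IH) (Lpn (LP (LK LD1_c4 LD2_c36 LD3_c23))))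
theorem f565429 : Led Lsl_cf (LP (LK LD1_c12 LD2_c5 LD3_c20)) = (LP (LK LD1_c8 LD2_c46 LD3_c59)) :=
  Lgr Lrot58 (Lpe (f175030 IH) (Lpe (K35.f193532 IH) (Lpr_bt (K35.f101355 IH) (Lpe (K12.f69404 IH) (Lpe (K39.f101308 IH) (Lpr_ct (K38.f172130 IH) (Lpe (K38.f99563 IH) (Lpe (K39.f193539 IH) (Lpr_gf (f565421 IH) (Lpe (f210635 IH) (Lpn (LP (LK LD1_c8 LD2_c46 LD3_c59)))))))))))))
theorem f538548 : Led Lsl_bt (LP (LK LD1_c7 LD2_c57 LD3_c9)) = (LP (LK LD1_c3 LD2_c57 LD3_c56)) :=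
  Lre_b IH (LK LD1_c7 LD2_c57 LD3_c9) (LK LD1_c3 LD2_c57 LD3_c56) Lrfl Lrfl
theorem f565436 : Led Lsl_gt (LP (LK LD1_c12 LD2_c5 LD3_c20)) = (LP (LK LD1_c8 LD2_c46 LD3_c55)) :=
  Lgr Lrot149 (Lpr_cf (f565429 IH) (Lpe (f35491 IH) (Lpe (K1.f35490 IH) (Lpr_ct (K1.f35486 IH) (Lpr_gf (K11.f210618 IH) (Lpe (K12.f198068 IH) (Lpe (K36.f210681 IH) (Lpr_gf (K38.f541435 IH) (Lpe (f538548 IH) (Lpr_ct (f538525 IH) (Lpn (LP (LK LD1_c8 LD2_c46 LD3_c55)))))))))))))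
theorem f210672 : Led Lsl_gt (LP (LK LD1_c1 LD2_c22 LD3_c25)) = (LP (LK LD1_c2 LD2_c52 LD3_c44)) :=
  Lre_g IH (LK LD1_c1 LD2_c22 LD3_c25) (LK LD1_c2 LD2_c52 LD3_c44) Lrfl Lrfl
theorem f210714 : Led Lsl_ct (LP (LK LD1_c5 LD2_c52 LD3_c55)) = (LP (LK LD1_c2 LD2_c52 LD3_c44)) :=
  Lre_c IH (LK LD1_c5 LD2_c52 LD3_c55) (LK LD1_c2 LD2_c52 LD3_c44) Lrfl Lrfl
theorem f565438 : Led Lsl_bt (LP (LK LD1_c5 LD2_c52 LD3_c55)) = (LP (LK LD1_c6 LD2_c13 LD3_c20)) :=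
  Lgr Lrot22 (Lpr_ct (f210714 IH) (Lpe (f210672 IH) (Lpe (K36.f210678 IH) (Lpr_gf (K38.f541435 IH) (Lpe (f538548 IH) (Lpr_ct (f538525 IH) (Lpe (f565436 IH) (Lpr_cf (f565429 IH) (Lpr_bt (f210635 IH) (Lpe (K39.f546820 IH) (Lpn (LP (LK LD1_c6 LD2_c13 LD3_c20)))))))))))))
theorem f565450 : Led Lsl_ff (LP (LK LD1_c5 LD2_c52 LD3_c55)) = (LP (LK LD1_c6 LD2_c13 LD3_c15)) :=
  Lgr Lrot25 (Lpr_bt (f565438 IH) (Lpe (f565411 IH) (Lpr_bt (K6.f101722 IH) (Lpn (LP (LK LD1_c6 LD2_c13 LD3_c15))))))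
theorem f565462 : Led Lsl_ft (LP (LK LD1_c5 LD2_c52 LD3_c55)) = (LP (LK LD1_c6 LD2_c13 LD3_c15)) :=
  Lgr Lrot48 (Lpr_ff (f565450 IH) (Lpn (LP (LK LD1_c6 LD2_c13 LD3_c15))))
theorem f210683 : Led Lsl_ct (LP (LK LD1_c2 LD2_c52 LD3_c44)) = (LP (LK LD1_c5 LD2_c52 LD3_c55)) :=
  Lre_c IH (LK LD1_c2 LD2_c52 LD3_c44) (LK LD1_c5 LD2_c52 LD3_c55) Lrfl Lrfl
theorem f101728 : Led Lsl_ct (LP (LK LD1_c6 LD2_c13 LD3_c15)) = (LP (LK LD1_c3 LD2_c3 LD3_c24)) :=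
  Lre_c IH (LK LD1_c6 LD2_c13 LD3_c15) (LK LD1_c3 LD2_c3 LD3_c24) Lrfl Lrfl
theorem f565464 : Led Lsl_ff (LP (LK LD1_c2 LD2_c52 LD3_c44)) = (LP (LK LD1_c3 LD2_c3 LD3_c24)) :=
  Lgr Lrot23 (Lpr_ct (f210683 IH) (Lpr_ft (f565462 IH) (Lpr_ct (f101728 IH) (Lpn (LP (LK LD1_c3 LD2_c3 LD3_c24))))))
theorem f139406 : Led Lsl_ft (LP (LK LD1_c0 LD2_c54 LD3_c61)) = (LP (LK LD1_c1 LD2_c27 LD3_c36)) :=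
  Lgr Lrot48 (Lpr_ff (K6.f139401 IH) (Lpn (LP (LK LD1_c1 LD2_c27 LD3_c36))))
theorem f565512 : Led Lsl_et (LP (LK LD1_c2 LD2_c52 LD3_c44)) = (LP (LK LD1_c2 LD2_c33 LD3_c51)) :=
  Lgr Lrot69 (Lpr_ff (f565464 IH) (Lpe (K8.f99512 IH) (Lpe (f139406 IH) (Lpe (K39.f101696 IH) (Lpe (K32.f421191 IH) (Lpn (LP (LK LD1_c2 LD2_c33 LD3_c51))))))))
theorem f565514 : Led Lsl_af (LP (LK LD1_c2 LD2_c52 LD3_c44)) = (LP (LK LD1_c3 LD2_c59 LD3_c38)) :=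
  Lgr Lrot50 (Lpr_et (f565512 IH) (Lpe (K36.f427998 IH) (Lpr_et (K36.f427960 IH) (Lpn (LP (LK LD1_c3 LD2_c59 LD3_c38))))))
def v1607 : LQ := Led Lsl_gf (LP (LK LD1_c1 LD2_c22 LD3_c25))
theorem f500350 : Led Lsl_gf (LP (LK LD1_c1 LD2_c22 LD3_c25)) = v1607 :=
  Lrfl
theorem f158400 : Led Lsl_ft (LP (LK LD1_c1 LD2_c56 LD3_c29)) = (LP (LK LD1_c3 LD2_c59 LD3_c38)) :=
  Lre_f IH (LK LD1_c1 LD2_c56 LD3_c29) (LK LD1_c3 LD2_c59 LD3_c38) Lrfl Lrfl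
theorem f565528 : v1607 = (LP (LK LD1_c1 LD2_c56 LD3_c29)) :=
  (Llr Lrot47 (Lpe (f500350 IH) (Lpr_gt (f210672 IH) (Lpr_af (f565514 IH) (Lpe (f158400 IH) (Lpn (LP (LK LD1_c1 LD2_c56 LD3_c29)))))))).symm
theorem f565531 : Led Lsl_gf (LP (LK LD1_c2 LD2_c57 LD3_c50)) = (LP (LK LD1_c2 LD2_c52 LD3_c46)) :=
  Lgr Lrot172 (Lpr_ct (K36.f192673 IH) (Lpr_dt (K35.f175361 IH) (Lpe (f210951 IH) (Lpe (f563054 IH) (Lpe (f151854 IH) (Lpr_gf (f564213 IH) (Lpr_dt (K38.f158373 IH) (Lpq (f565528 IH) (Lpe (f500350 IH) (Lpr_ct (K38.f210666 IH) (Lpn (LP (LK LD1_c2 LD2_c52 LD3_c46)))))))))))))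
theorem f192679 : Led Lsl_dt (LP (LK LD1_c2 LD2_c57 LD3_c50)) = (LP (LK LD1_c6 LD2_c3 LD3_c24)) :=
  Lre_d IH (LK LD1_c2 LD2_c57 LD3_c50) (LK LD1_c6 LD2_c3 LD3_c24) Lrfl Lrfl
theorem f192691 : Led Lsl_gt (LP (LK LD1_c6 LD2_c3 LD3_c24)) = (LP (LK LD1_c11 LD2_c50 LD3_c31)) :=
  Lre_g IH (LK LD1_c6 LD2_c3 LD3_c24) (LK LD1_c11 LD2_c50 LD3_c31) Lrfl Lrfl
theorem f547209 : Led Lsl_et (LP (LK LD1_c2 LD2_c15 LD3_c15)) = (LP (LK LD1_c2 LD2_c52 LD3_c46)) :=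
  Lgr Lrot87 (Lpr_ef (K38.f547201 IH) (Lpn (LP (LK LD1_c2 LD2_c52 LD3_c46))))
theorem f565539 : Led Lsl_df (LP (LK LD1_c11 LD2_c50 LD3_c31)) = (LP (LK LD1_c12 LD2_c7 LD3_c32)) :=
  Lgr Lrot132 (Lpe (f192691 IH) (Lpe (f192679 IH) (Lpr_gf (f565531 IH) (Lpe (f547209 IH) (Lpr_dt (K11.f71050 IH) (Lpr_gf (K11.f202161 IH) (Lpe (K32.f202189 IH) (Lpr_et (K37.f202190 IH) (Lpe (K40.f202194 IH) (Lpe (f202195 IH) (Lpn (LP (LK LD1_c12 LD2_c7 LD3_c32)))))))))))))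
theorem f565547 : Led Lsl_gt (LP (LK LD1_c11 LD2_c50 LD3_c31)) = (LP (LK LD1_c7 LD2_c57 LD3_c12)) :=
  Lgr Lrot112 (Lpr_df (f565539 IH) (Lpr_et (f202195 IH) (Lpe (K40.f59104 IH) (Lpr_ef (K40.f559133 IH) (Lpe (K7.f156747 IH) (Lpe (K7.f37892 IH) (Lpe (K1.f40026 IH) (Lpe (K5.f35531 IH) (Lpe (K38.f100442 IH) (Lpr_dt (f100443 IH) (Lpn (LP (LK LD1_c7 LD2_c57 LD3_c12)))))))))))))
theorem f271856 : Led Lsl_ft (LP (LK LD1_c4 LD2_c39 LD3_c16)) = (LP (LK LD1_c2 LD2_c57 LD3_c50)) :=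
  Lgr Lrot75 (Lpr_bf (K39.f176806 IH) (Lpr_ff (K16.f271854 IH) (Lpr_bf (K36.f192719 IH) (Lpn (LP (LK LD1_c2 LD2_c57 LD3_c50))))))
theorem f411341 : Led Lsl_dt (LP (LK LD1_c9 LD2_c14 LD3_c10)) = (LP (LK LD1_c4 LD2_c39 LD3_c16)) :=
  Lre_d IH (LK LD1_c9 LD2_c14 LD3_c10) (LK LD1_c4 LD2_c39 LD3_c16) Lrfl Lrfl
theorem f411342 : Led Lsl_ff (LP (LK LD1_c9 LD2_c14 LD3_c10)) = (LP (LK LD1_c6 LD2_c3 LD3_c24)) :=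
  Lgr Lrot19 (Lpr_dt (f411341 IH) (Lpr_ft (f271856 IH) (Lpr_dt (f192679 IH) (Lpn (LP (LK LD1_c6 LD2_c3 LD3_c24))))))
theorem f565549 : Led Lsl_at (LP (LK LD1_c9 LD2_c14 LD3_c10)) = (LP (LK LD1_c7 LD2_c57 LD3_c12)) :=
  Lgr Lrot26 (Lpr_ff (f411342 IH) (Lpr_gt (f192691 IH) (Lpr_gt (f565547 IH) (Lpn (LP (LK LD1_c7 LD2_c57 LD3_c12))))))
theorem f72383 : Led Lsl_ct (LP (LK LD1_c2 LD2_c53 LD3_c9)) = (LP (LK LD1_c5 LD2_c53 LD3_c37)) :=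
  Lre_c IH (LK LD1_c2 LD2_c53 LD3_c9) (LK LD1_c5 LD2_c53 LD3_c37) Lrfl Lrfl
theorem f539989 : Led Lsl_ff (LP (LK LD1_c3 LD2_c57 LD3_c56)) = (LP (LK LD1_c5 LD2_c53 LD3_c37)) :=
  Lgr Lrot23 (Lpr_ct (K38.f538223 IH) (Lpr_ft (K35.f538286 IH) (Lpq (K36.f539982 IH) (Lpr_ct (f72383 IH) (Lpn (LP (LK LD1_c5 LD2_c53 LD3_c37)))))))
theorem f539991 : Led Lsl_dt (LP (LK LD1_c11 LD2_c33 LD3_c13)) = (LP (LK LD1_c5 LD2_c53 LD3_c37)) :=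
  Lre_d IH (LK LD1_c11 LD2_c33 LD3_c13) (LK LD1_c5 LD2_c53 LD3_c37) Lrfl Lrfl
theorem f539992 : Led Lsl_ft (LP (LK LD1_c7 LD2_c57 LD3_c12)) = (LP (LK LD1_c11 LD2_c33 LD3_c13)) :=
  Lgr Lrot54 (Lpe (f100443 IH) (Lpr_ff (f539989 IH) (Lpe (f539991 IH) (Lpn (LP (LK LD1_c11 LD2_c33 LD3_c13))))))
theorem f565555 : Led Lsl_af (LP (LK LD1_c6 LD2_c3 LD3_c24)) = (LP (LK LD1_c11 LD2_c33 LD3_c13)) :=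
  Lgr Lrot45 (Lpe (f411342 IH) (Lpr_at (f565549 IH) (Lpr_ft (f539992 IH) (Lpn (LP (LK LD1_c11 LD2_c33 LD3_c13))))))
theorem f565563 : Led Lsl_gf (LP (LK LD1_c6 LD2_c3 LD3_c24)) = (LP (LK LD1_c11 LD2_c8 LD3_c22)) :=
  Lgr Lrot76 (Lpr_af (f565555 IH) (Lpe (f539992 IH) (Lpe (f564217 IH) (Lpn (LP (LK LD1_c11 LD2_c8 LD3_c22))))))
theorem f192755 : Led Lsl_dt (LP (LK LD1_c16 LD2_c33 LD3_c60)) = (LP (LK LD1_c15 LD2_c10 LD3_c6)) :=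
  Lgr Lrot42 (Lpr_df (K16.f192741 IH) (Lpn (LP (LK LD1_c15 LD2_c10 LD3_c6))))
theorem f192711 : Led Lsl_bt (LP (LK LD1_c15 LD2_c10 LD3_c6)) = (LP (LK LD1_c24 LD2_c59 LD3_c12)) :=
  Lre_b IH (LK LD1_c15 LD2_c10 LD3_c6) (LK LD1_c24 LD2_c59 LD3_c12) Lrfl Lrfl
theorem f192684 : Led Lsl_et (LP (LK LD1_c2 LD2_c57 LD3_c50)) = (LP (LK LD1_c4 LD2_c1 LD3_c21)) :=
  Lgr Lrot87 (Lpr_ef (K36.f192674 IH) (Lpn (LP (LK LD1_c4 LD2_c1 LD3_c21))))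
theorem f192686 : Led Lsl_dt (LP (LK LD1_c6 LD2_c3 LD3_c24)) = (LP (LK LD1_c2 LD2_c57 LD3_c50)) :=
  Lre_d IH (LK LD1_c6 LD2_c3 LD3_c24) (LK LD1_c2 LD2_c57 LD3_c50) Lrfl Lrfl
theorem f192687 : Led Lsl_et (LP (LK LD1_c11 LD2_c50 LD3_c33)) = (LP (LK LD1_c6 LD2_c3 LD3_c24)) :=
  Lre_e IH (LK LD1_c11 LD2_c50 LD3_c33) (LK LD1_c6 LD2_c3 LD3_c24) Lrfl Lrfl
theorem f192671 : Led Lsl_dt (LP (LK LD1_c4 LD2_c1 LD3_c21)) = (LP (LK LD1_c8 LD2_c3 LD3_c23)) :=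
  Lre_d IH (LK LD1_c4 LD2_c1 LD3_c21) (LK LD1_c8 LD2_c3 LD3_c23) Lrfl Lrfl
theorem f192688 : Led Lsl_et (LP (LK LD1_c8 LD2_c3 LD3_c23)) = (LP (LK LD1_c15 LD2_c10 LD3_c3)) :=
  Lre_e IH (LK LD1_c8 LD2_c3 LD3_c23) (LK LD1_c15 LD2_c10 LD3_c3) Lrfl Lrfl
theorem f192689 : Led Lsl_df (LP (LK LD1_c11 LD2_c50 LD3_c33)) = (LP (LK LD1_c15 LD2_c10 LD3_c3)) :=
  Lgr Lrot70 (Lpr_et (f192687 IH) (Lpr_dt (f192686 IH) (Lpr_et (f192684 IH) (Lpr_dt (f192671 IH) (Lpr_et (f192688 IH) (Lpn (LP (LK LD1_c15 LD2_c10 LD3_c3))))))))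
theorem f192695 : Led Lsl_ft (LP (LK LD1_c11 LD2_c50 LD3_c33)) = (LP (LK LD1_c20 LD2_c52 LD3_c50)) :=
  Lre_f IH (LK LD1_c11 LD2_c50 LD3_c33) (LK LD1_c20 LD2_c52 LD3_c50) Lrfl Lrfl
theorem f192696 : Led Lsl_ft (LP (LK LD1_c24 LD2_c59 LD3_c12)) = (LP (LK LD1_c15 LD2_c10 LD3_c3)) :=
  Lre_f IH (LK LD1_c24 LD2_c59 LD3_c12) (LK LD1_c15 LD2_c10 LD3_c3) Lrfl Lrfl
theorem f192697 : Led Lsl_dt (LP (LK LD1_c20 LD2_c52 LD3_c50)) = (LP (LK LD1_c24 LD2_c59 LD3_c12)) :=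
  Lgr Lrot60 (Lpe (f192695 IH) (Lpr_df (f192689 IH) (Lpe (f192696 IH) (Lpn (LP (LK LD1_c24 LD2_c59 LD3_c12))))))
theorem f192708 : Led Lsl_df (LP (LK LD1_c20 LD2_c52 LD3_c50)) = (LP (LK LD1_c24 LD2_c59 LD3_c12)) :=
  Lgr Lrot38 (Lpr_dt (f192697 IH) (Lpn (LP (LK LD1_c24 LD2_c59 LD3_c12))))
theorem f192759 : Led Lsl_bf (LP (LK LD1_c16 LD2_c33 LD3_c60)) = (LP (LK LD1_c20 LD2_c52 LD3_c50)) :=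
  Lgr Lrot93 (Lpr_dt (f192755 IH) (Lpr_bt (f192711 IH) (Lpe (f192708 IH) (Lpn (LP (LK LD1_c20 LD2_c52 LD3_c50))))))
theorem f192761 : Led Lsl_bt (LP (LK LD1_c8 LD2_c51 LD3_c39)) = (LP (LK LD1_c11 LD2_c50 LD3_c33)) :=
  Lgr Lrot35 (Lpe (K16.f192739 IH) (Lpr_bf (f192759 IH) (Lpe (f192695 IH) (Lpn (LP (LK LD1_c11 LD2_c50 LD3_c33))))))
theorem f192764 : Led Lsl_bf (LP (LK LD1_c4 LD2_c26 LD3_c55)) = (LP (LK LD1_c6 LD2_c3 LD3_c24)) :=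
  Lgr Lrot96 (Lpr_et (K16.f101410 IH) (Lpr_bt (f192761 IH) (Lpr_et (f192687 IH) (Lpn (LP (LK LD1_c6 LD2_c3 LD3_c24))))))
theorem f192767 : Led Lsl_bt (LP (LK LD1_c4 LD2_c26 LD3_c55)) = (LP (LK LD1_c6 LD2_c3 LD3_c24)) :=
  Lgr Lrot127 (Lpr_bf (f192764 IH) (Lpn (LP (LK LD1_c6 LD2_c3 LD3_c24))))
theorem f211721 : Led Lsl_ct (LP (LK LD1_c5 LD2_c38 LD3_c37)) = (LP (LK LD1_c2 LD2_c45 LD3_c10)) :=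
  Lre_c IH (LK LD1_c5 LD2_c38 LD3_c37) (LK LD1_c2 LD2_c45 LD3_c10) Lrfl Lrfl
theorem f211722 : Led Lsl_bt (LP (LK LD1_c4 LD2_c58 LD3_c12)) = (LP (LK LD1_c5 LD2_c38 LD3_c37)) :=
  Lgr Lrot128 (Lpe (K10.f56077 IH) (Lpr_bf (K12.f198071 IH) (Lpr_cf (K12.f211713 IH) (Lpe (f211720 IH) (Lpe (f211721 IH) (Lpn (LP (LK LD1_c5 LD2_c38 LD3_c37))))))))
theorem f419005 : Led Lsl_bf (LP (LK LD1_c6 LD2_c9 LD3_c15)) = (LP (LK LD1_c11 LD2_c8 LD3_c22)) :=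
  Lgr Lrot93 (Lpr_dt (K10.f198079 IH) (Lpr_bt (f211722 IH) (Lpr_dt (f418997 IH) (Lpn (LP (LK LD1_c11 LD2_c8 LD3_c22))))))
theorem f419007 : Led Lsl_bt (LP (LK LD1_c6 LD2_c9 LD3_c15)) = (LP (LK LD1_c11 LD2_c8 LD3_c22)) :=
  Lgr Lrot127 (Lpr_bf (f419005 IH) (Lpn (LP (LK LD1_c11 LD2_c8 LD3_c22))))
theorem f565567 : Led Lsl_bt (LP (LK LD1_c8 LD2_c46 LD3_c1)) = (LP (LK LD1_c4 LD2_c58 LD3_c8)) :=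
  Lgr Lrot130 (Lpr_ct (K13.f204825 IH) (Lpr_gf (K13.f227500 IH) (Lpe (K12.f192769 IH) (Lpr_bt (f192767 IH) (Lpr_gf (f565563 IH) (Lpe (f419007 IH) (Lpr_ct (K36.f272782 IH) (Lpe (K12.f37695 IH) (Lpe (K12.f37670 IH) (Lpe (K11.f37386 IH) (Lpn (LP (LK LD1_c4 LD2_c58 LD3_c8)))))))))))))
theorem f6174 : Led Lsl_ct (LP (LK LD1_c7 LD2_c14 LD3_c38)) = (LP (LK LD1_c13 LD2_c42 LD3_c16)) :=
  Lre_c IH (LK LD1_c7 LD2_c14 LD3_c38) (LK LD1_c13 LD2_c42 LD3_c16) Lrfl Lrfl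
theorem f272725 : Led Lsl_gf (LP (LK LD1_c4 LD2_c58 LD3_c8)) = (LP (LK LD1_c4 LD2_c25 LD3_c2)) :=
  Lgr Lrot143 (Lpe (K12.f227550 IH) (Lpe (K12.f211035 IH) (Lpe (K11.f211033 IH) (Lpr_gf (K11.f211040 IH) (Lpr_df (K1.f27249 IH) (Lpe (K11.f35655 IH) (Lpe (K18.f227828 IH) (Lpr_gt (K18.f272723 IH) (Lpr_dt (K1.f35484 IH) (Lpn (LP (LK LD1_c4 LD2_c25 LD3_c2))))))))))))
theorem f37581 : Led Lsl_bt (LP (LK LD1_c8 LD2_c47 LD3_c15)) = (LP (LK LD1_c4 LD2_c25 LD3_c2)) :=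
  Lre_b IH (LK LD1_c8 LD2_c47 LD3_c15) (LK LD1_c4 LD2_c25 LD3_c2) Lrfl Lrfl
theorem f227814 : Led Lsl_ct (LP (LK LD1_c8 LD2_c47 LD3_c15)) = (LP (LK LD1_c16 LD2_c26 LD3_c37)) :=
  Lre_c IH (LK LD1_c8 LD2_c47 LD3_c15) (LK LD1_c16 LD2_c26 LD3_c37) Lrfl Lrfl
theorem f565579 : Led Lsl_gt (LP (LK LD1_c13 LD2_c42 LD3_c16)) = (LP (LK LD1_c16 LD2_c26 LD3_c37)) :=
  Lgr Lrot149 (Lpe (f6174 IH) (Lpr_gf (f540975 IH) (Lpe (f198153 IH) (Lpr_ct (K12.f101316 IH) (Lpr_gf (f241206 IH) (Lpe (K13.f204825 IH) (Lpr_bt (f565567 IH) (Lpr_gf (f272725 IH) (Lpe (f37581 IH) (Lpr_ct (f227814 IH) (Lpn (LP (LK LD1_c16 LD2_c26 LD3_c37)))))))))))))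
theorem f38364 : Led Lsl_bt (LP (LK LD1_c2 LD2_c10 LD3_c8)) = (LP (LK LD1_c4 LD2_c25 LD3_c28)) :=
  Lre_b IH (LK LD1_c2 LD2_c10 LD3_c8) (LK LD1_c4 LD2_c25 LD3_c28) Lrfl Lrfl
theorem f565583 : Led Lsl_gf (LP (LK LD1_c7 LD2_c8 LD3_c30)) = (LP (LK LD1_c4 LD2_c25 LD3_c28)) :=
  Lgr Lrot124 (Lpe (K29.f6157 IH) (Lpr_ct (f6174 IH) (Lpr_gt (f565579 IH) (Lpe (f227814 IH) (Lpr_bt (f37581 IH) (Lpe (f272725 IH) (Lpe (K40.f227597 IH) (Lpr_gt (K12.f38392 IH) (Lpe (K1.f38057 IH) (Lpr_bt (f38364 IH) (Lpn (LP (LK LD1_c4 LD2_c25 LD3_c28)))))))))))))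
theorem f6536 : Led Lsl_gt (LP (LK LD1_c3 LD2_c37 LD3_c6)) = (LP (LK LD1_c7 LD2_c14 LD3_c35)) :=
  Lre_g IH (LK LD1_c3 LD2_c37 LD3_c6) (LK LD1_c7 LD2_c14 LD3_c35) Lrfl Lrfl
theorem f98305 : Led Lsl_gt (LP (LK LD1_c7 LD2_c14 LD3_c35)) = (LP (LK LD1_c13 LD2_c31 LD3_c15)) :=
  Lgr Lrot46 (Lpe (f6536 IH) (Lpr_ft (K36.f6171 IH) (Lpr_at (K36.f98287 IH) (Lpn (LP (LK LD1_c13 LD2_c31 LD3_c15))))))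
theorem f137626 : Led Lsl_dt (LP (LK LD1_c2 LD2_c10 LD3_c6)) = (LP (LK LD1_c4 LD2_c25 LD3_c28)) :=
  Lre_d IH (LK LD1_c2 LD2_c10 LD3_c6) (LK LD1_c4 LD2_c25 LD3_c28) Lrfl Lrfl
theorem f565589 : Led Lsl_df (LP (LK LD1_c7 LD2_c14 LD3_c35)) = (LP (LK LD1_c7 LD2_c57 LD3_c9)) :=
  Lgr Lrot153 (Lpr_gt (f98305 IH) (Lpr_dt (K36.f6159 IH) (Lpe (K36.f6160 IH) (Lpe (K29.f6156 IH) (Lpr_gf (f565583 IH) (Lpe (f137626 IH) (Lpe (K39.f38493 IH) (Lpe (f38495 IH) (Lpr_gt (f565065 IH) (Lpn (LP (LK LD1_c7 LD2_c57 LD3_c9))))))))))))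
theorem f98189 : Led Lsl_dt (LP (LK LD1_c7 LD2_c8 LD3_c20)) = (LP (LK LD1_c13 LD2_c31 LD3_c15)) :=
  Lre_d IH (LK LD1_c7 LD2_c8 LD3_c20) (LK LD1_c13 LD2_c31 LD3_c15) Lrfl Lrfl
theorem f98187 : Led Lsl_gt (LP (LK LD1_c7 LD2_c6 LD3_c33)) = (LP (LK LD1_c3 LD2_c33 LD3_c46)) :=
  Lre_g IH (LK LD1_c7 LD2_c6 LD3_c33) (LK LD1_c3 LD2_c33 LD3_c46) Lrfl Lrfl
theorem f565631 : Led Lsl_ef (LP (LK LD1_c3 LD2_c33 LD3_c46)) = (LP (LK LD1_c3 LD2_c59 LD3_c59)) :=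
  Lgr Lrot17 (Lpe (f98187 IH) (Lpr_ef (K36.f98170 IH) (Lpr_dt (f98189 IH) (Lpe (f98305 IH) (Lpr_df (f565589 IH) (Lpe (f565065 IH) (Lpr_ef (f565040 IH) (Lpr_dt (f98101 IH) (Lpe (f565019 IH) (Lpe (K18.f210759 IH) (Lpn (LP (LK LD1_c3 LD2_c59 LD3_c59)))))))))))))
theorem f6145 : Led Lsl_gt (LP (LK LD1_c3 LD2_c33 LD3_c46)) = (LP (LK LD1_c1 LD2_c43 LD3_c37)) :=
  Lre_g IH (LK LD1_c3 LD2_c33 LD3_c46) (LK LD1_c1 LD2_c43 LD3_c37) Lrfl Lrfl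
theorem f6547 : Led Lsl_et (LP (LK LD1_c0 LD2_c48 LD3_c25)) = (LP (LK LD1_c1 LD2_c43 LD3_c37)) :=
  Lre_e IH (LK LD1_c0 LD2_c48 LD3_c25) (LK LD1_c1 LD2_c43 LD3_c37) Lrfl Lrfl
theorem f98098 : Led Lsl_gt (LP (LK LD1_c3 LD2_c33 LD3_c32)) = (LP (LK LD1_c7 LD2_c7 LD3_c57)) :=
  Lre_g IH (LK LD1_c3 LD2_c33 LD3_c32) (LK LD1_c7 LD2_c7 LD3_c57) Lrfl Lrfl
theorem f98099 : Led Lsl_dt (LP (LK LD1_c7 LD2_c7 LD3_c57)) = (LP (LK LD1_c13 LD2_c30 LD3_c37)) :=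
  Lre_d IH (LK LD1_c7 LD2_c7 LD3_c57) (LK LD1_c13 LD2_c30 LD3_c37) Lrfl Lrfl
theorem f565642 : Led Lsl_gt (LP (LK LD1_c13 LD2_c30 LD3_c37)) = (LP (LK LD1_c7 LD2_c56 LD3_c30)) :=
  Lgr Lrot139 (Lpe (f98099 IH) (Lpe (f98098 IH) (Lpe (K39.f10798 IH) (Lpr_dt (K5.f10792 IH) (Lpe (K3.f6103 IH) (Lpe (K3.f6562 IH) (Lpr_et (f6547 IH) (Lpe (f6145 IH) (Lpr_ef (f565631 IH) (Lpr_dt (K18.f210759 IH) (Lpn (LP (LK LD1_c7 LD2_c56 LD3_c30)))))))))))))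
theorem f168728 : Led Lsl_dt (LP (LK LD1_c5 LD2_c20 LD3_c50)) = (LP (LK LD1_c10 LD2_c31 LD3_c47)) :=
  Lre_d IH (LK LD1_c5 LD2_c20 LD3_c50) (LK LD1_c10 LD2_c31 LD3_c47) Lrfl Lrfl
theorem f168710 : Led Lsl_gt (LP (LK LD1_c10 LD2_c31 LD3_c45)) = (LP (LK LD1_c5 LD2_c20 LD3_c50)) :=
  Lre_g IH (LK LD1_c10 LD2_c31 LD3_c45) (LK LD1_c5 LD2_c20 LD3_c50) Lrfl Lrfl
theorem f237460 : Led Lsl_at (LP (LK LD1_c8 LD2_c43 LD3_c29)) = (LP (LK LD1_c16 LD2_c20 LD3_c16)) :=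
  Lre_a IH (LK LD1_c8 LD2_c43 LD3_c29) (LK LD1_c16 LD2_c20 LD3_c16) Lrfl Lrfl
theorem f397369 : Led Lsl_at (LP (LK LD1_c19 LD2_c10 LD3_c39)) = (LP (LK LD1_c14 LD2_c58 LD3_c22)) :=
  Lgr Lrot66 (Lpr_ff (K39.f397364 IH) (Lpe (f237460 IH) (Lpe (K18.f297440 IH) (Lpn (LP (LK LD1_c14 LD2_c58 LD3_c22))))))
theorem f400169 : Led Lsl_gt (LP (LK LD1_c16 LD2_c20 LD3_c16)) = (LP (LK LD1_c9 LD2_c43 LD3_c13)) :=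
  Lgr Lrot5 (Lpe (K39.f397364 IH) (Lpr_at (f397369 IH) (Lpr_gf (K39.f400167 IH) (Lpn (LP (LK LD1_c9 LD2_c43 LD3_c13))))))
theorem f168624 : Led Lsl_gt (LP (LK LD1_c4 LD2_c55 LD3_c18)) = (LP (LK LD1_c9 LD2_c42 LD3_c8)) :=
  Lre_g IH (LK LD1_c4 LD2_c55 LD3_c18) (LK LD1_c9 LD2_c42 LD3_c8) Lrfl Lrfl
theorem f370102 : Led Lsl_gt (LP (LK LD1_c9 LD2_c42 LD3_c8)) = (LP (LK LD1_c16 LD2_c40 LD3_c53)) :=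
  Lgr Lrot46 (Lpe (f168624 IH) (Lpr_ft (K27.f370068 IH) (Lpr_at (K31.f367390 IH) (Lpn (LP (LK LD1_c16 LD2_c40 LD3_c53))))))
theorem f168668 : Led Lsl_bt (LP (LK LD1_c17 LD2_c50 LD3_c41)) = (LP (LK LD1_c9 LD2_c42 LD3_c8)) :=
  Lre_b IH (LK LD1_c17 LD2_c50 LD3_c41) (LK LD1_c9 LD2_c42 LD3_c8) Lrfl Lrfl
theorem f168729 : Led Lsl_ct (LP (LK LD1_c17 LD2_c50 LD3_c41)) = (LP (LK LD1_c10 LD2_c31 LD3_c45)) :=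
  Lgr Lrot64 (Lpr_bt (f168668 IH) (Lpe (f168624 IH) (Lpe (K27.f168596 IH) (Lpr_ct (K14.f168063 IH) (Lpe (K9.f168085 IH) (Lpe (K12.f55159 IH) (Lpe (K9.f55165 IH) (Lpe (K22.f41158 IH) (Lpr_ct (K38.f167930 IH) (Lpe (f168710 IH) (Lpn (LP (LK LD1_c10 LD2_c31 LD3_c45)))))))))))))
theorem f370105 : Led Lsl_gf (LP (LK LD1_c10 LD2_c31 LD3_c45)) = (LP (LK LD1_c5 LD2_c24 LD3_c12)) :=
  Lgr Lrot129 (Lpe (f168729 IH) (Lpr_bt (f168668 IH) (Lpr_gt (f370102 IH) (Lpe (K27.f370060 IH) (Lpr_ct (K27.f369166 IH) (Lpe (K27.f369168 IH) (Lpe (K22.f201194 IH) (Lpr_bt (K22.f168726 IH) (Lpr_gt (K22.f331745 IH) (Lpr_ct (K38.f331721 IH) (Lpn (LP (LK LD1_c5 LD2_c24 LD3_c12)))))))))))))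
theorem f169230 : Led Lsl_dt (LP (LK LD1_c10 LD2_c31 LD3_c17)) = (LP (LK LD1_c5 LD2_c20 LD3_c37)) :=
  Lre_d IH (LK LD1_c10 LD2_c31 LD3_c17) (LK LD1_c5 LD2_c20 LD3_c37) Lrfl Lrfl
theorem f169234 : Led Lsl_gt (LP (LK LD1_c19 LD2_c4 LD3_c5)) = (LP (LK LD1_c10 LD2_c31 LD3_c17)) :=
  Lre_g IH (LK LD1_c19 LD2_c4 LD3_c5) (LK LD1_c10 LD2_c31 LD3_c17) Lrfl Lrfl
theorem f400175 : Led Lsl_dt (LP (LK LD1_c10 LD2_c31 LD3_c45)) = (LP (LK LD1_c19 LD2_c4 LD3_c5)) :=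
  Lgr Lrot57 (Lpr_gf (f370105 IH) (Lpe (K38.f331721 IH) (Lpe (K22.f331743 IH) (Lpe (K18.f297418 IH) (Lpr_gt (f400169 IH) (Lpe (f218556 IH) (Lpr_cf (K38.f169219 IH) (Lpe (f169230 IH) (Lpe (f169234 IH) (Lpn (LP (LK LD1_c19 LD2_c4 LD3_c5))))))))))))
theorem f400177 : Led Lsl_df (LP (LK LD1_c10 LD2_c31 LD3_c45)) = (LP (LK LD1_c19 LD2_c4 LD3_c5)) :=
  Lgr Lrot38 (Lpr_dt (f400175 IH) (Lpn (LP (LK LD1_c19 LD2_c4 LD3_c5))))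
theorem f297401 : Led Lsl_gf (LP (LK LD1_c16 LD2_c22 LD3_c42)) = (LP (LK LD1_c24 LD2_c46 LD3_c27)) :=
  Lgr Lrot47 (Lpr_gt (K31.f39303 IH) (Lpe (K18.f201533 IH) (Lpr_ff (K18.f297393 IH) (Lpn (LP (LK LD1_c24 LD2_c46 LD3_c27))))))
theorem f29634 : Led Lsl_gt (LP (LK LD1_c4 LD2_c23 LD3_c13)) = (LP (LK LD1_c2 LD2_c9 LD3_c3)) :=
  Lre_g IH (LK LD1_c4 LD2_c23 LD3_c13) (LK LD1_c2 LD2_c9 LD3_c3) Lrfl Lrfl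
theorem f400040 : Led Lsl_dt (LP (LK LD1_c8 LD2_c44 LD3_c7)) = (LP (LK LD1_c4 LD2_c23 LD3_c13)) :=
  Lre_d IH (LK LD1_c8 LD2_c44 LD3_c7) (LK LD1_c4 LD2_c23 LD3_c13) Lrfl Lrfl
theorem f400041 : Led Lsl_gt (LP (LK LD1_c14 LD2_c58 LD3_c59)) = (LP (LK LD1_c8 LD2_c44 LD3_c7)) :=
  Lgr Lrot94 (Lpe (K18.f210770 IH) (Lpe (f297401 IH) (Lpr_dt (K31.f400033 IH) (Lpe (K31.f237284 IH) (Lpr_dt (K31.f237283 IH) (Lpe (K38.f237286 IH) (Lpe (K39.f388749 IH) (Lpe (f29634 IH) (Lpe (f400040 IH) (Lpn (LP (LK LD1_c8 LD2_c44 LD3_c7))))))))))))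
theorem f201540 : Led Lsl_at (LP (LK LD1_c8 LD2_c44 LD3_c59)) = (LP (LK LD1_c4 LD2_c23 LD3_c36)) :=
  Lre_a IH (LK LD1_c8 LD2_c44 LD3_c59) (LK LD1_c4 LD2_c23 LD3_c36) Lrfl Lrfl
theorem f400043 : Led Lsl_gf (LP (LK LD1_c4 LD2_c23 LD3_c36)) = (LP (LK LD1_c8 LD2_c44 LD3_c7)) :=
  Lgr Lrot76 (Lpe (f201540 IH) (Lpr_ff (K18.f297406 IH) (Lpr_gt (f400041 IH) (Lpn (LP (LK LD1_c8 LD2_c44 LD3_c7))))))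
theorem f29608 : Led Lsl_gt (LP (LK LD1_c4 LD2_c0 LD3_c22)) = (LP (LK LD1_c8 LD2_c1 LD3_c41)) :=
  Lre_g IH (LK LD1_c4 LD2_c0 LD3_c22) (LK LD1_c8 LD2_c1 LD3_c41) Lrfl Lrfl
theorem f218515 : Led Lsl_bt (LP (LK LD1_c5 LD2_c24 LD3_c13)) = (LP (LK LD1_c2 LD2_c38 LD3_c39)) :=
  Lre_b IH (LK LD1_c5 LD2_c24 LD3_c13) (LK LD1_c2 LD2_c38 LD3_c39) Lrfl Lrfl
theorem f218516 : Led Lsl_ct (LP (LK LD1_c10 LD2_c39 LD3_c13)) = (LP (LK LD1_c5 LD2_c24 LD3_c13)) :=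
  Lre_c IH (LK LD1_c10 LD2_c39 LD3_c13) (LK LD1_c5 LD2_c24 LD3_c13) Lrfl Lrfl
theorem f200635 : Led Lsl_bf (LP (LK LD1_c0 LD2_c14 LD3_c8)) = (LP (LK LD1_c0 LD2_c11 LD3_c23)) :=
  Lgr Lrot24 (Lpr_bt (K11.f200633 IH) (Lpn (LP (LK LD1_c0 LD2_c11 LD3_c23))))
theorem f29607 : Led Lsl_bt (LP (LK LD1_c1 LD2_c56 LD3_c58)) = (LP (LK LD1_c4 LD2_c0 LD3_c22)) :=
  Lre_b IH (LK LD1_c1 LD2_c56 LD3_c58) (LK LD1_c4 LD2_c0 LD3_c22) Lrfl Lrfl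
theorem f277529 : Led Lsl_df (LP (LK LD1_c10 LD2_c39 LD3_c13)) = (LP (LK LD1_c8 LD2_c1 LD3_c41)) :=
  Lgr Lrot183 (Lpr_ct (f218516 IH) (Lpr_bt (f218515 IH) (Lpr_gt (K16.f217633 IH) (Lpr_dt (K16.f277503 IH) (Lpe (K15.f256921 IH) (Lpr_bt (K15.f226903 IH) (Lpr_gt (K12.f200699 IH) (Lpr_dt (K12.f200698 IH) (Lpr_ct (K11.f53023 IH) (Lpe (f200635 IH) (Lpe (K11.f3055 IH) (Lpr_dt (K0.f2907 IH) (Lpe (K10.f197385 IH) (Lpr_bt (K10.f197380 IH) (Lpr_gt (K10.f29603 IH) (Lpr_dt (K11.f28935 IH) (Lpr_ct (K13.f28936 IH) (Lpr_bt (f29607 IH) (Lpr_gt (f29608 IH) (Lpn (LP (LK LD1_c8 LD2_c1 LD3_c41))))))))))))))))))))))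
theorem f277543 : Led Lsl_dt (LP (LK LD1_c2 LD2_c38 LD3_c38)) = (LP (LK LD1_c5 LD2_c24 LD3_c13)) :=
  Lre_d IH (LK LD1_c2 LD2_c38 LD3_c38) (LK LD1_c5 LD2_c24 LD3_c13) Lrfl Lrfl
theorem f277544 : Led Lsl_gt (LP (LK LD1_c5 LD2_c24 LD3_c11)) = (LP (LK LD1_c2 LD2_c38 LD3_c38)) :=
  Lre_g IH (LK LD1_c5 LD2_c24 LD3_c11) (LK LD1_c2 LD2_c38 LD3_c38) Lrfl Lrfl
theorem f312934 : Led Lsl_dt (LP (LK LD1_c10 LD2_c35 LD3_c6)) = (LP (LK LD1_c5 LD2_c22 LD3_c19)) :=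
  Lre_d IH (LK LD1_c10 LD2_c35 LD3_c6) (LK LD1_c5 LD2_c22 LD3_c19) Lrfl Lrfl
theorem f217682 : Led Lsl_gt (LP (LK LD1_c10 LD2_c36 LD3_c32)) = (LP (LK LD1_c5 LD2_c23 LD3_c2)) :=
  Lre_g IH (LK LD1_c10 LD2_c36 LD3_c32) (LK LD1_c5 LD2_c23 LD3_c2) Lrfl Lrfl
theorem f168715 : Led Lsl_cf (LP (LK LD1_c9 LD2_c42 LD3_c58)) = (LP (LK LD1_c10 LD2_c31 LD3_c46)) :=
  Lgr Lrot11 (Lpr_ct (K22.f168703 IH) (Lpn (LP (LK LD1_c10 LD2_c31 LD3_c46))))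
theorem f331748 : Led Lsl_at (LP (LK LD1_c5 LD2_c24 LD3_c12)) = (LP (LK LD1_c2 LD2_c38 LD3_c38)) :=
  Lre_a IH (LK LD1_c5 LD2_c24 LD3_c12) (LK LD1_c2 LD2_c38 LD3_c38) Lrfl Lrfl
theorem f331754 : Led Lsl_gt (LP (LK LD1_c10 LD2_c31 LD3_c46)) = (LP (LK LD1_c5 LD2_c24 LD3_c11)) :=
  Lgr Lrot5 (Lpr_ft (K22.f331740 IH) (Lpr_at (f331748 IH) (Lpe (f277544 IH) (Lpn (LP (LK LD1_c5 LD2_c24 LD3_c11))))))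
theorem f397373 : Led Lsl_df (LP (LK LD1_c10 LD2_c36 LD3_c32)) = (LP (LK LD1_c5 LD2_c24 LD3_c11)) :=
  Lgr Lrot153 (Lpr_gt (f217682 IH) (Lpr_dt (K31.f228687 IH) (Lpe (K31.f228688 IH) (Lpe (f312934 IH) (Lpe (K39.f224728 IH) (Lpr_df (K39.f397362 IH) (Lpe (K39.f331736 IH) (Lpr_cf (f168715 IH) (Lpr_gt (f331754 IH) (Lpn (LP (LK LD1_c5 LD2_c24 LD3_c11))))))))))))
theorem f397375 : Led Lsl_dt (LP (LK LD1_c10 LD2_c36 LD3_c32)) = (LP (LK LD1_c5 LD2_c24 LD3_c11)) :=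
  Lgr Lrot42 (Lpr_df (f397373 IH) (Lpn (LP (LK LD1_c5 LD2_c24 LD3_c11))))
theorem f400046 : Led Lsl_ct (LP (LK LD1_c16 LD2_c21 LD3_c25)) = (LP (LK LD1_c8 LD2_c44 LD3_c7)) :=
  Lre_c IH (LK LD1_c16 LD2_c21 LD3_c25) (LK LD1_c8 LD2_c44 LD3_c7) Lrfl Lrfl
theorem f400051 : Led Lsl_gf (LP (LK LD1_c10 LD2_c36 LD3_c32)) = (LP (LK LD1_c16 LD2_c21 LD3_c25)) :=
  Lgr Lrot144 (Lpr_dt (f397375 IH) (Lpr_gt (f277544 IH) (Lpr_dt (f277543 IH) (Lpe (f218516 IH) (Lpr_df (f277529 IH) (Lpe (f29608 IH) (Lpe (K18.f201463 IH) (Lpr_gf (f400043 IH) (Lpe (f400046 IH) (Lpn (LP (LK LD1_c16 LD2_c21 LD3_c25))))))))))))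
theorem f303201 : Led Lsl_at (LP (LK LD1_c10 LD2_c36 LD3_c29)) = (LP (LK LD1_c5 LD2_c23 LD3_c2)) :=
  Lre_a IH (LK LD1_c10 LD2_c36 LD3_c29) (LK LD1_c5 LD2_c23 LD3_c2) Lrfl Lrfl
theorem f400066 : Led Lsl_ff (LP (LK LD1_c10 LD2_c36 LD3_c29)) = (LP (LK LD1_c16 LD2_c21 LD3_c25)) :=
  Lgr Lrot52 (Lpr_at (f303201 IH) (Lpe (f217682 IH) (Lpr_gf (f400051 IH) (Lpn (LP (LK LD1_c16 LD2_c21 LD3_c25))))))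
theorem f400075 : Led Lsl_ft (LP (LK LD1_c10 LD2_c36 LD3_c29)) = (LP (LK LD1_c16 LD2_c21 LD3_c25)) :=
  Lgr Lrot48 (Lpr_ff (f400066 IH) (Lpn (LP (LK LD1_c16 LD2_c21 LD3_c25))))
theorem f312945 : Led Lsl_at (LP (LK LD1_c5 LD2_c23 LD3_c2)) = (LP (LK LD1_c10 LD2_c36 LD3_c29)) :=
  Lre_a IH (LK LD1_c5 LD2_c23 LD3_c2) (LK LD1_c10 LD2_c36 LD3_c29) Lrfl Lrfl
theorem f224711 : Led Lsl_bt (LP (LK LD1_c5 LD2_c20 LD3_c38)) = (LP (LK LD1_c10 LD2_c31 LD3_c17)) :=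
  Lre_b IH (LK LD1_c5 LD2_c20 LD3_c38) (LK LD1_c10 LD2_c31 LD3_c17) Lrfl Lrfl
theorem f303179 : Led Lsl_ff (LP (LK LD1_c5 LD2_c23 LD3_c2)) = (LP (LK LD1_c10 LD2_c31 LD3_c17)) :=
  Lgr Lrot25 (Lpr_bt (K31.f217667 IH) (Lpr_ft (K18.f303177 IH) (Lpr_bt (f224711 IH) (Lpn (LP (LK LD1_c10 LD2_c31 LD3_c17))))))
theorem f400077 : Led Lsl_af (LP (LK LD1_c10 LD2_c31 LD3_c17)) = (LP (LK LD1_c16 LD2_c21 LD3_c25)) :=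
  Lgr Lrot45 (Lpe (f303179 IH) (Lpr_at (f312945 IH) (Lpr_ft (f400075 IH) (Lpn (LP (LK LD1_c16 LD2_c21 LD3_c25))))))
theorem f400084 : Led Lsl_gt (LP (LK LD1_c10 LD2_c36 LD3_c29)) = (LP (LK LD1_c19 LD2_c4 LD3_c5)) :=
  Lgr Lrot5 (Lpr_ft (f400075 IH) (Lpe (f400077 IH) (Lpe (f169234 IH) (Lpn (LP (LK LD1_c19 LD2_c4 LD3_c5))))))
theorem f565650 : Led Lsl_cf (LP (LK LD1_c13 LD2_c30 LD3_c37)) = (LP (LK LD1_c10 LD2_c36 LD3_c29)) :=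
  Lgr Lrot166 (Lpr_gt (f565642 IH) (Lpe (K18.f210742 IH) (Lpr_gt (K38.f2987 IH) (Lpe (K38.f550011 IH) (Lpr_ct (K38.f550001 IH) (Lpe (f168728 IH) (Lpe (f168710 IH) (Lpr_df (f400177 IH) (Lpe (f400084 IH) (Lpn (LP (LK LD1_c10 LD2_c36 LD3_c29))))))))))))
theorem f98094 : Led Lsl_dt (LP (LK LD1_c7 LD2_c7 LD3_c59)) = (LP (LK LD1_c3 LD2_c33 LD3_c32)) :=
  Lre_d IH (LK LD1_c7 LD2_c7 LD3_c59) (LK LD1_c3 LD2_c33 LD3_c32) Lrfl Lrfl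
theorem f312930 : Led Lsl_dt (LP (LK LD1_c5 LD2_c23 LD3_c1)) = (LP (LK LD1_c10 LD2_c36 LD3_c29)) :=
  Lre_d IH (LK LD1_c5 LD2_c23 LD3_c1) (LK LD1_c10 LD2_c36 LD3_c29) Lrfl Lrfl
theorem f312961 : Led Lsl_ff (LP (LK LD1_c2 LD2_c38 LD3_c0)) = (LP (LK LD1_c5 LD2_c20 LD3_c37)) :=
  Lgr Lrot3 (Lpr_ft (K38.f312926 IH) (Lpn (LP (LK LD1_c5 LD2_c20 LD3_c37))))
theorem f312938 : Led Lsl_at (LP (LK LD1_c2 LD2_c38 LD3_c0)) = (LP (LK LD1_c5 LD2_c23 LD3_c1)) :=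
  Lre_a IH (LK LD1_c2 LD2_c38 LD3_c0) (LK LD1_c5 LD2_c23 LD3_c1) Lrfl Lrfl
theorem f169233 : Led Lsl_gt (LP (LK LD1_c5 LD2_c20 LD3_c37)) = (LP (LK LD1_c10 LD2_c31 LD3_c14)) :=
  Lre_g IH (LK LD1_c5 LD2_c20 LD3_c37) (LK LD1_c10 LD2_c31 LD3_c14) Lrfl Lrfl
theorem f312973 : Led Lsl_gf (LP (LK LD1_c5 LD2_c23 LD3_c1)) = (LP (LK LD1_c10 LD2_c31 LD3_c14)) :=
  Lgr Lrot76 (Lpe (f312938 IH) (Lpr_ff (f312961 IH) (Lpr_gt (f169233 IH) (Lpn (LP (LK LD1_c10 LD2_c31 LD3_c14))))))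
theorem f277541 : Led Lsl_at (LP (LK LD1_c10 LD2_c39 LD3_c9)) = (LP (LK LD1_c5 LD2_c24 LD3_c13)) :=
  Lre_a IH (LK LD1_c10 LD2_c39 LD3_c9) (LK LD1_c5 LD2_c24 LD3_c13) Lrfl Lrfl
theorem f331767 : Led Lsl_ff (LP (LK LD1_c10 LD2_c31 LD3_c47)) = (LP (LK LD1_c5 LD2_c24 LD3_c13)) :=
  Lgr Lrot30 (Lpr_at (K22.f331638 IH) (Lpr_ft (K22.f331765 IH) (Lpr_at (f277541 IH) (Lpn (LP (LK LD1_c5 LD2_c24 LD3_c13))))))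
theorem f331773 : Led Lsl_gf (LP (LK LD1_c19 LD2_c4 LD3_c39)) = (LP (LK LD1_c10 LD2_c39 LD3_c11)) :=
  Lgr Lrot76 (Lpe (K22.f331638 IH) (Lpr_ff (f331767 IH) (Lpr_gt (K14.f218497 IH) (Lpn (LP (LK LD1_c10 LD2_c39 LD3_c11))))))
theorem f551538 : Led Lsl_df (LP (LK LD1_c10 LD2_c39 LD3_c11)) = (LP (LK LD1_c10 LD2_c31 LD3_c14)) :=
  Lgr Lrot153 (Lpe (f331773 IH) (Lpr_dt (K22.f168720 IH) (Lpe (K22.f168703 IH) (Lpe (K27.f168717 IH) (Lpr_gf (K39.f551534 IH) (Lpr_df (K16.f238825 IH) (Lpe (K16.f169232 IH) (Lpr_cf (K38.f169219 IH) (Lpr_gt (f169233 IH) (Lpn (LP (LK LD1_c10 LD2_c31 LD3_c14))))))))))))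
theorem f551542 : Led Lsl_dt (LP (LK LD1_c10 LD2_c39 LD3_c11)) = (LP (LK LD1_c10 LD2_c31 LD3_c14)) :=
  Lgr Lrot42 (Lpr_df (f551538 IH) (Lpn (LP (LK LD1_c10 LD2_c31 LD3_c14))))
theorem f565669 : Led Lsl_gf (LP (LK LD1_c7 LD2_c7 LD3_c59)) = (LP (LK LD1_c10 LD2_c39 LD3_c13)) :=
  Lgr Lrot144 (Lpr_dt (f98094 IH) (Lpr_gt (f98098 IH) (Lpr_dt (f98099 IH) (Lpr_cf (f565650 IH) (Lpe (f312930 IH) (Lpr_gf (f312973 IH) (Lpe (f551542 IH) (Lpe (K14.f218497 IH) (Lpe (f218516 IH) (Lpn (LP (LK LD1_c10 LD2_c39 LD3_c13))))))))))))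
theorem f98104 : Led Lsl_dt (LP (LK LD1_c3 LD2_c33 LD3_c32)) = (LP (LK LD1_c7 LD2_c7 LD3_c59)) :=
  Lre_d IH (LK LD1_c3 LD2_c33 LD3_c32) (LK LD1_c7 LD2_c7 LD3_c59) Lrfl Lrfl
theorem f4988 : Led Lsl_et (LP (LK LD1_c3 LD2_c38 LD3_c33)) = (LP (LK LD1_c1 LD2_c46 LD3_c15)) :=
  Lre_e IH (LK LD1_c3 LD2_c38 LD3_c33) (LK LD1_c1 LD2_c46 LD3_c15) Lrfl Lrfl
theorem f5114 : Led Lsl_dt (LP (LK LD1_c3 LD2_c38 LD3_c33)) = (LP (LK LD1_c7 LD2_c17 LD3_c26)) :=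
  Lre_d IH (LK LD1_c3 LD2_c38 LD3_c33) (LK LD1_c7 LD2_c17 LD3_c26) Lrfl Lrfl
theorem f69737 : Led Lsl_dt (LP (LK LD1_c4 LD2_c1 LD3_c23)) = (LP (LK LD1_c8 LD2_c3 LD3_c27)) :=
  Lre_d IH (LK LD1_c4 LD2_c1 LD3_c23) (LK LD1_c8 LD2_c3 LD3_c27) Lrfl Lrfl
theorem f565683 : Led Lsl_gt (LP (LK LD1_c7 LD2_c17 LD3_c26)) = (LP (LK LD1_c8 LD2_c3 LD3_c27)) :=
  Lgr Lrot112 (Lpe (f5114 IH) (Lpr_et (f4988 IH) (Lpr_gf (K3.f98490 IH) (Lpe (K39.f98106 IH) (Lpr_dt (f98104 IH) (Lpr_gf (f565669 IH) (Lpr_df (f277529 IH) (Lpe (f29608 IH) (Lpr_ef (K18.f69725 IH) (Lpr_dt (f69737 IH) (Lpn (LP (LK LD1_c8 LD2_c3 LD3_c27)))))))))))))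
theorem f565685 : Led Lsl_gf (LP (LK LD1_c7 LD2_c19 LD3_c21)) = (LP (LK LD1_c8 LD2_c3 LD3_c27)) :=
  Lgr Lrot76 (Lpe (K0.f5126 IH) (Lpe (K0.f5124 IH) (Lpr_gt (f565683 IH) (Lpn (LP (LK LD1_c8 LD2_c3 LD3_c27))))))
theorem f5208 : Led Lsl_ct (LP (LK LD1_c7 LD2_c17 LD3_c35)) = (LP (LK LD1_c13 LD2_c47 LD3_c47)) :=
  Lre_c IH (LK LD1_c7 LD2_c17 LD3_c35) (LK LD1_c13 LD2_c47 LD3_c47) Lrfl Lrfl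
theorem f196168 : Led Lsl_bt (LP (LK LD1_c4 LD2_c1 LD3_c24)) = (LP (LK LD1_c8 LD2_c3 LD3_c27)) :=
  Lre_b IH (LK LD1_c4 LD2_c1 LD3_c24) (LK LD1_c8 LD2_c3 LD3_c27) Lrfl Lrfl
theorem f240036 : Led Lsl_bt (LP (LK LD1_c8 LD2_c3 LD3_c40)) = (LP (LK LD1_c4 LD2_c1 LD3_c31)) :=
  Lre_b IH (LK LD1_c8 LD2_c3 LD3_c40) (LK LD1_c4 LD2_c1 LD3_c31) Lrfl Lrfl
theorem f239977 : Led Lsl_ct (LP (LK LD1_c8 LD2_c3 LD3_c40)) = (LP (LK LD1_c15 LD2_c10 LD3_c25)) :=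
  Lre_c IH (LK LD1_c8 LD2_c3 LD3_c40) (LK LD1_c15 LD2_c10 LD3_c25) Lrfl Lrfl
theorem f565689 : Led Lsl_gt (LP (LK LD1_c13 LD2_c47 LD3_c47)) = (LP (LK LD1_c15 LD2_c10 LD3_c25)) :=
  Lgr Lrot65 (Lpe (f5208 IH) (Lpr_bt (K24.f5424 IH) (Lpr_gf (f565685 IH) (Lpe (f196168 IH) (Lpr_ct (K13.f196174 IH) (Lpe (K13.f240055 IH) (Lpr_cf (K13.f240053 IH) (Lpr_gf (K13.f240057 IH) (Lpe (f240036 IH) (Lpr_ct (f239977 IH) (Lpn (LP (LK LD1_c15 LD2_c10 LD3_c25)))))))))))))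
theorem f315204 : Led Lsl_ff (LP (LK LD1_c8 LD2_c3 LD3_c15)) = (LP (LK LD1_c8 LD2_c3 LD3_c36)) :=
  Lgr Lrot19 (Lpr_dt (K13.f211588 IH) (Lpr_ft (K20.f315198 IH) (Lpr_dt (K20.f242572 IH) (Lpn (LP (LK LD1_c8 LD2_c3 LD3_c36))))))
theorem f544519 : Led Lsl_bt (LP (LK LD1_c4 LD2_c20 LD3_c33)) = (LP (LK LD1_c8 LD2_c3 LD3_c36)) :=
  Lgr Lrot35 (Lpr_ff (K39.f315733 IH) (Lpr_bf (K37.f544509 IH) (Lpr_ff (f315204 IH) (Lpn (LP (LK LD1_c8 LD2_c3 LD3_c36))))))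
theorem f242044 : Led Lsl_bt (LP (LK LD1_c5 LD2_c5 LD3_c10)) = (LP (LK LD1_c10 LD2_c1 LD3_c25)) :=
  Lre_b IH (LK LD1_c5 LD2_c5 LD3_c10) (LK LD1_c10 LD2_c1 LD3_c25) Lrfl Lrfl
theorem f565693 : Led Lsl_gf (LP (LK LD1_c7 LD2_c17 LD3_c35)) = (LP (LK LD1_c10 LD2_c1 LD3_c25)) :=
  Lgr Lrot181 (Lpr_ct (f5208 IH) (Lpr_gt (f565689 IH) (Lpe (f239977 IH) (Lpr_bt (f240036 IH) (Lpe (K13.f240057 IH) (Lpe (f544519 IH) (Lpe (K13.f231546 IH) (Lpr_gt (K13.f240733 IH) (Lpr_cf (K13.f242023 IH) (Lpr_bt (f242044 IH) (Lpn (LP (LK LD1_c10 LD2_c1 LD3_c25)))))))))))))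
theorem f5014 : Led Lsl_et (LP (LK LD1_c1 LD2_c46 LD3_c6)) = (LP (LK LD1_c3 LD2_c38 LD3_c15)) :=
  Lre_e IH (LK LD1_c1 LD2_c46 LD3_c6) (LK LD1_c3 LD2_c38 LD3_c15) Lrfl Lrfl
theorem f5015 : Led Lsl_ft (LP (LK LD1_c3 LD2_c38 LD3_c15)) = (LP (LK LD1_c7 LD2_c16 LD3_c53)) :=
  Lre_f IH (LK LD1_c3 LD2_c38 LD3_c15) (LK LD1_c7 LD2_c16 LD3_c53) Lrfl Lrfl
theorem f5016 : Led Lsl_ft (LP (LK LD1_c7 LD2_c17 LD3_c27)) = (LP (LK LD1_c3 LD2_c38 LD3_c33)) :=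
  Lre_f IH (LK LD1_c7 LD2_c17 LD3_c27) (LK LD1_c3 LD2_c38 LD3_c33) Lrfl Lrfl
theorem f5017 : Led Lsl_et (LP (LK LD1_c7 LD2_c16 LD3_c53)) = (LP (LK LD1_c7 LD2_c17 LD3_c27)) :=
  Lgr Lrot69 (Lpe (f5015 IH) (Lpe (f5014 IH) (Lpr_ff (K0.f5005 IH) (Lpe (f4988 IH) (Lpe (f5016 IH) (Lpn (LP (LK LD1_c7 LD2_c17 LD3_c27))))))))
theorem f5160 : Led Lsl_ct (LP (LK LD1_c7 LD2_c17 LD3_c27)) = (LP (LK LD1_c3 LD2_c38 LD3_c37)) :=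
  Lre_c IH (LK LD1_c7 LD2_c17 LD3_c27) (LK LD1_c3 LD2_c38 LD3_c37) Lrfl Lrfl
theorem f5161 : Led Lsl_et (LP (LK LD1_c3 LD2_c38 LD3_c37)) = (LP (LK LD1_c3 LD2_c39 LD3_c34)) :=
  Lgr Lrot158 (Lpe (f5160 IH) (Lpe (f5017 IH) (Lpr_cf (K0.f5150 IH) (Lpn (LP (LK LD1_c3 LD2_c39 LD3_c34))))))
theorem f5169 : Led Lsl_at (LP (LK LD1_c1 LD2_c46 LD3_c16)) = (LP (LK LD1_c3 LD2_c38 LD3_c15)) :=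
  Lre_a IH (LK LD1_c1 LD2_c46 LD3_c16) (LK LD1_c3 LD2_c38 LD3_c15) Lrfl Lrfl
theorem f5170 : Led Lsl_af (LP (LK LD1_c3 LD2_c38 LD3_c33)) = (LP (LK LD1_c1 LD2_c46 LD3_c42)) :=
  Lgr Lrot68 (Lpr_ct (K0.f5134 IH) (Lpr_at (f5169 IH) (Lpr_ct (K0.f5164 IH) (Lpn (LP (LK LD1_c1 LD2_c46 LD3_c42))))))
theorem f4999 : Led Lsl_gt (LP (LK LD1_c7 LD2_c17 LD3_c25)) = (LP (LK LD1_c3 LD2_c38 LD3_c33)) :=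
  Lre_g IH (LK LD1_c7 LD2_c17 LD3_c25) (LK LD1_c3 LD2_c38 LD3_c33) Lrfl Lrfl
theorem f5226 : Led Lsl_ft (LP (LK LD1_c3 LD2_c39 LD3_c34)) = (LP (LK LD1_c1 LD2_c46 LD3_c42)) :=
  Lre_f IH (LK LD1_c3 LD2_c39 LD3_c34) (LK LD1_c1 LD2_c46 LD3_c42) Lrfl Lrfl
theorem f5657 : Led Lsl_gf (LP (LK LD1_c7 LD2_c17 LD3_c25)) = (LP (LK LD1_c3 LD2_c39 LD3_c34)) :=
  Lgr Lrot47 (Lpr_gt (f4999 IH) (Lpr_af (f5170 IH) (Lpe (f5226 IH) (Lpn (LP (LK LD1_c3 LD2_c39 LD3_c34))))))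
theorem f4998 : Led Lsl_et (LP (LK LD1_c1 LD2_c46 LD3_c15)) = (LP (LK LD1_c3 LD2_c38 LD3_c33)) :=
  Lre_e IH (LK LD1_c1 LD2_c46 LD3_c15) (LK LD1_c3 LD2_c38 LD3_c33) Lrfl Lrfl
theorem f542503 : Led Lsl_ef (LP (LK LD1_c7 LD2_c17 LD3_c25)) = (LP (LK LD1_c4 LD2_c36 LD3_c43)) :=
  Lgr Lrot114 (Lpr_gt (f4999 IH) (Lpe (f4998 IH) (Lpr_dt (K0.f4975 IH) (Lpe (K3.f5051 IH) (Lpr_df (K3.f97188 IH) (Lpr_et (K36.f97124 IH) (Lpr_gt (K39.f542493 IH) (Lpr_dt (K36.f420377 IH) (Lpr_gt (K39.f160715 IH) (Lpe (K6.f137913 IH) (Lpn (LP (LK LD1_c4 LD2_c36 LD3_c43)))))))))))))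
theorem f558224 : Led Lsl_gf (LP (LK LD1_c13 LD2_c42 LD3_c2)) = (LP (LK LD1_c9 LD2_c9 LD3_c25)) :=
  Lgr Lrot154 (Lpr_dt (K40.f97271 IH) (Lpr_ct (K40.f558218 IH) (Lpe (K11.f112590 IH) (Lpe (K4.f37457 IH) (Lpe (K4.f37077 IH) (Lpe (K8.f37048 IH) (Lpr_ct (K28.f203354 IH) (Lpe (K28.f203285 IH) (Lpr_dt (K6.f137913 IH) (Lpn (LP (LK LD1_c9 LD2_c9 LD3_c25))))))))))))
theorem f240838 : Led Lsl_dt (LP (LK LD1_c5 LD2_c5 LD3_c9)) = (LP (LK LD1_c10 LD2_c1 LD3_c25)) :=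
  Lre_d IH (LK LD1_c5 LD2_c5 LD3_c9) (LK LD1_c10 LD2_c1 LD3_c25) Lrfl Lrfl
theorem f240842 : Led Lsl_gt (LP (LK LD1_c10 LD2_c1 LD3_c23)) = (LP (LK LD1_c5 LD2_c5 LD3_c9)) :=
  Lre_g IH (LK LD1_c10 LD2_c1 LD3_c23) (LK LD1_c5 LD2_c5 LD3_c9) Lrfl Lrfl
theorem f565699 : Led Lsl_et (LP (LK LD1_c7 LD2_c14 LD3_c27)) = (LP (LK LD1_c10 LD2_c1 LD3_c23)) :=
  Lgr Lrot121 (Lpr_dt (K40.f442176 IH) (Lpr_gf (f558224 IH) (Lpe (K6.f137913 IH) (Lpe (f542503 IH) (Lpr_gf (f5657 IH) (Lpe (f5161 IH) (Lpr_dt (K24.f5212 IH) (Lpr_gf (f565693 IH) (Lpe (f240838 IH) (Lpe (f240842 IH) (Lpn (LP (LK LD1_c10 LD2_c1 LD3_c23)))))))))))))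
theorem f540731 : Led Lsl_ef (LP (LK LD1_c4 LD2_c25 LD3_c13)) = (LP (LK LD1_c7 LD2_c8 LD3_c7)) :=
  Lgr Lrot88 (Lpr_et (f540727 IH) (Lpn (LP (LK LD1_c7 LD2_c8 LD3_c7))))
theorem f10507 : Led Lsl_dt (LP (LK LD1_c7 LD2_c8 LD3_c7)) = (LP (LK LD1_c13 LD2_c30 LD3_c57)) :=
  Lre_d IH (LK LD1_c7 LD2_c8 LD3_c7) (LK LD1_c13 LD2_c30 LD3_c57) Lrfl Lrfl
theorem f565705 : Led Lsl_gf (LP (LK LD1_c13 LD2_c30 LD3_c57)) = (LP (LK LD1_c11 LD2_c23 LD3_c27)) :=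
  Lgr Lrot145 (Lpe (f10507 IH) (Lpe (f540731 IH) (Lpe (K28.f203285 IH) (Lpr_dt (K6.f137913 IH) (Lpe (f558224 IH) (Lpe (K40.f442176 IH) (Lpr_et (f565699 IH) (Lpr_gt (f240842 IH) (Lpe (K13.f240833 IH) (Lpr_dt (K39.f197509 IH) (Lpn (LP (LK LD1_c11 LD2_c23 LD3_c27)))))))))))))
theorem f30402 : Led Lsl_dt (LP (LK LD1_c8 LD2_c1 LD3_c7)) = (LP (LK LD1_c4 LD2_c0 LD3_c2)) :=
  Lre_d IH (LK LD1_c8 LD2_c1 LD3_c7) (LK LD1_c4 LD2_c0 LD3_c2) Lrfl Lrfl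
theorem f538874 : Led Lsl_gf (LP (LK LD1_c8 LD2_c1 LD3_c7)) = (LP (LK LD1_c6 LD2_c15 LD3_c15)) :=
  Lgr Lrot143 (Lpr_dt (f30402 IH) (Lpr_cf (K39.f495667 IH) (Lpe (K39.f495672 IH) (Lpr_gf (K35.f538870 IH) (Lpe (K37.f410519 IH) (Lpr_gf (K10.f193760 IH) (Lpr_cf (K10.f70008 IH) (Lpr_gt (K10.f193723 IH) (Lpr_dt (K13.f60458 IH) (Lpn (LP (LK LD1_c6 LD2_c15 LD3_c15))))))))))))
theorem f410597 : Led Lsl_bt (LP (LK LD1_c12 LD2_c8 LD3_c44)) = (LP (LK LD1_c6 LD2_c15 LD3_c15)) :=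
  Lre_b IH (LK LD1_c12 LD2_c8 LD3_c44) (LK LD1_c6 LD2_c15 LD3_c15) Lrfl Lrfl
theorem f46855 : Led Lsl_ft (LP (LK LD1_c4 LD2_c4 LD3_c54)) = (LP (LK LD1_c8 LD2_c10 LD3_c31)) :=
  Lre_f IH (LK LD1_c4 LD2_c4 LD3_c54) (LK LD1_c8 LD2_c10 LD3_c31) Lrfl Lrfl
theorem f553826 : Led Lsl_gt (LP (LK LD1_c4 LD2_c4 LD3_c54)) = (LP (LK LD1_c8 LD2_c10 LD3_c32)) :=
  Lgr Lrot5 (Lpr_ft (f46855 IH) (Lpr_at (K40.f46628 IH) (Lpr_gf (K39.f553824 IH) (Lpn (LP (LK LD1_c8 LD2_c10 LD3_c32))))))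
theorem f101673 : Led Lsl_et (LP (LK LD1_c1 LD2_c55 LD3_c31)) = (LP (LK LD1_c0 LD2_c54 LD3_c35)) :=
  Lre_e IH (LK LD1_c1 LD2_c55 LD3_c31) (LK LD1_c0 LD2_c54 LD3_c35) Lrfl Lrfl
theorem f428716 : Led Lsl_dt (LP (LK LD1_c1 LD2_c55 LD3_c31)) = (LP (LK LD1_c3 LD2_c57 LD3_c30)) :=
  Lre_d IH (LK LD1_c1 LD2_c55 LD3_c31) (LK LD1_c3 LD2_c57 LD3_c30) Lrfl Lrfl
theorem f172305 : Led Lsl_gt (LP (LK LD1_c7 LD2_c56 LD3_c26)) = (LP (LK LD1_c3 LD2_c57 LD3_c30)) :=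
  Lre_g IH (LK LD1_c7 LD2_c56 LD3_c26) (LK LD1_c3 LD2_c57 LD3_c30) Lrfl Lrfl
theorem f556802 : Led Lsl_dt (LP (LK LD1_c5 LD2_c37 LD3_c42)) = (LP (LK LD1_c7 LD2_c56 LD3_c26)) :=
  Lgr Lrot136 (Lpr_et (K39.f556790 IH) (Lpe (f553826 IH) (Lpr_ef (K2.f73381 IH) (Lpr_dt (K38.f73394 IH) (Lpe (K24.f158965 IH) (Lpe (K38.f36300 IH) (Lpe (K8.f36299 IH) (Lpe (f101673 IH) (Lpr_dt (f428716 IH) (Lpe (f172305 IH) (Lpn (LP (LK LD1_c7 LD2_c56 LD3_c26)))))))))))))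
theorem f553820 : Led Lsl_at (LP (LK LD1_c8 LD2_c10 LD3_c32)) = (LP (LK LD1_c4 LD2_c4 LD3_c52)) :=
  Lre_a IH (LK LD1_c8 LD2_c10 LD3_c32) (LK LD1_c4 LD2_c4 LD3_c52) Lrfl Lrfl
theorem f556798 : Led Lsl_af (LP (LK LD1_c5 LD2_c37 LD3_c42)) = (LP (LK LD1_c5 LD2_c46 LD3_c52)) :=
  Lgr Lrot50 (Lpr_et (K39.f556790 IH) (Lpr_at (f553820 IH) (Lpr_et (K39.f553930 IH) (Lpn (LP (LK LD1_c5 LD2_c46 LD3_c52))))))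
theorem f556804 : Led Lsl_af (LP (LK LD1_c11 LD2_c23 LD3_c54)) = (LP (LK LD1_c7 LD2_c56 LD3_c26)) :=
  Lgr Lrot117 (Lpr_dt (K39.f421125 IH) (Lpe (f556798 IH) (Lpr_dt (f556802 IH) (Lpn (LP (LK LD1_c7 LD2_c56 LD3_c26))))))
theorem f172306 : Led Lsl_bt (LP (LK LD1_c14 LD2_c58 LD3_c46)) = (LP (LK LD1_c7 LD2_c56 LD3_c26)) :=
  Lre_b IH (LK LD1_c14 LD2_c58 LD3_c46) (LK LD1_c7 LD2_c56 LD3_c26) Lrfl Lrfl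
theorem f556819 : Led Lsl_at (LP (LK LD1_c11 LD2_c23 LD3_c27)) = (LP (LK LD1_c14 LD2_c58 LD3_c46)) :=
  Lgr Lrot67 (Lpe (K39.f197492 IH) (Lpr_af (K37.f270209 IH) (Lpe (K39.f421114 IH) (Lpr_af (f556804 IH) (Lpe (f172306 IH) (Lpn (LP (LK LD1_c14 LD2_c58 LD3_c46))))))))
theorem f410586 : Led Lsl_dt (LP (LK LD1_c6 LD2_c15 LD3_c14)) = (LP (LK LD1_c12 LD2_c8 LD3_c44)) :=
  Lre_d IH (LK LD1_c6 LD2_c15 LD3_c14) (LK LD1_c12 LD2_c8 LD3_c44) Lrfl Lrfl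
theorem f310150 : Led Lsl_ff (LP (LK LD1_c4 LD2_c11 LD3_c28)) = (LP (LK LD1_c4 LD2_c17 LD3_c41)) :=
  Lgr Lrot25 (Lpr_bt (K20.f171033 IH) (Lpr_ft (K19.f310137 IH) (Lpr_bt (K38.f7989 IH) (Lpn (LP (LK LD1_c4 LD2_c17 LD3_c41))))))
theorem f403487 : Led Lsl_ft (LP (LK LD1_c4 LD2_c11 LD3_c28)) = (LP (LK LD1_c4 LD2_c17 LD3_c41)) :=
  Lgr Lrot48 (Lpr_ff (f310150 IH) (Lpn (LP (LK LD1_c4 LD2_c17 LD3_c41))))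
theorem f171030 : Led Lsl_at (LP (LK LD1_c8 LD2_c22 LD3_c41)) = (LP (LK LD1_c4 LD2_c11 LD3_c28)) :=
  Lre_a IH (LK LD1_c8 LD2_c22 LD3_c41) (LK LD1_c4 LD2_c11 LD3_c28) Lrfl Lrfl
theorem f170238 : Led Lsl_at (LP (LK LD1_c4 LD2_c17 LD3_c41)) = (LP (LK LD1_c8 LD2_c34 LD3_c23)) :=
  Lre_a IH (LK LD1_c4 LD2_c17 LD3_c41) (LK LD1_c8 LD2_c34 LD3_c23) Lrfl Lrfl
theorem f403493 : Led Lsl_ff (LP (LK LD1_c8 LD2_c22 LD3_c41)) = (LP (LK LD1_c8 LD2_c34 LD3_c23)) :=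
  Lgr Lrot30 (Lpr_at (f171030 IH) (Lpr_ft (f403487 IH) (Lpr_at (f170238 IH) (Lpn (LP (LK LD1_c8 LD2_c34 LD3_c23))))))
theorem f171021 : Led Lsl_ct (LP (LK LD1_c8 LD2_c22 LD3_c41)) = (LP (LK LD1_c4 LD2_c11 LD3_c36)) :=
  Lre_c IH (LK LD1_c8 LD2_c22 LD3_c41) (LK LD1_c4 LD2_c11 LD3_c36) Lrfl Lrfl
theorem f170237 : Led Lsl_ct (LP (LK LD1_c4 LD2_c17 LD3_c49)) = (LP (LK LD1_c8 LD2_c34 LD3_c23)) :=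
  Lre_c IH (LK LD1_c4 LD2_c17 LD3_c49) (LK LD1_c8 LD2_c34 LD3_c23) Lrfl Lrfl
theorem f403501 : Led Lsl_ft (LP (LK LD1_c4 LD2_c11 LD3_c36)) = (LP (LK LD1_c4 LD2_c17 LD3_c49)) :=
  Lgr Lrot4 (Lpe (f171021 IH) (Lpr_ff (f403493 IH) (Lpe (f170237 IH) (Lpn (LP (LK LD1_c4 LD2_c17 LD3_c49))))))
theorem f170204 : Led Lsl_at (LP (LK LD1_c4 LD2_c17 LD3_c49)) = (LP (LK LD1_c2 LD2_c6 LD3_c13)) :=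
  Lre_a IH (LK LD1_c4 LD2_c17 LD3_c49) (LK LD1_c2 LD2_c6 LD3_c13) Lrfl Lrfl
theorem f53426 : Led Lsl_gt (LP (LK LD1_c4 LD2_c17 LD3_c48)) = (LP (LK LD1_c2 LD2_c6 LD3_c13)) :=
  Lre_g IH (LK LD1_c4 LD2_c17 LD3_c48) (LK LD1_c2 LD2_c6 LD3_c13) Lrfl Lrfl
theorem f403511 : Led Lsl_gt (LP (LK LD1_c4 LD2_c11 LD3_c36)) = (LP (LK LD1_c4 LD2_c17 LD3_c48)) :=
  Lgr Lrot5 (Lpr_ft (f403501 IH) (Lpr_at (f170204 IH) (Lpe (f53426 IH) (Lpn (LP (LK LD1_c4 LD2_c17 LD3_c48))))))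
theorem f171020 : Led Lsl_at (LP (LK LD1_c4 LD2_c11 LD3_c28)) = (LP (LK LD1_c8 LD2_c22 LD3_c41)) :=
  Lre_a IH (LK LD1_c4 LD2_c11 LD3_c28) (LK LD1_c8 LD2_c22 LD3_c41) Lrfl Lrfl
theorem f403489 : Led Lsl_gf (LP (LK LD1_c8 LD2_c22 LD3_c41)) = (LP (LK LD1_c8 LD2_c34 LD3_c21)) :=
  Lgr Lrot76 (Lpe (f171020 IH) (Lpr_ff (f310150 IH) (Lpr_gt (K38.f7990 IH) (Lpn (LP (LK LD1_c8 LD2_c34 LD3_c21))))))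
theorem f280114 : Led Lsl_gt (LP (LK LD1_c14 LD2_c57 LD3_c36)) = (LP (LK LD1_c8 LD2_c41 LD3_c54)) :=
  Lgr Lrot5 (Lpr_ft (K16.f280097 IH) (Lpr_at (K16.f280107 IH) (Lpe (K38.f237483 IH) (Lpn (LP (LK LD1_c8 LD2_c41 LD3_c54))))))
theorem f258389 : Led Lsl_bt (LP (LK LD1_c29 LD2_c43 LD3_c51)) = (LP (LK LD1_c20 LD2_c54 LD3_c48)) :=
  Lre_b IH (LK LD1_c29 LD2_c43 LD3_c51) (LK LD1_c20 LD2_c54 LD3_c48) Lrfl Lrfl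
theorem f361459 : Led Lsl_at (LP (LK LD1_c32 LD2_c47 LD3_c10)) = (LP (LK LD1_c29 LD2_c43 LD3_c51)) :=
  Lre_a IH (LK LD1_c32 LD2_c47 LD3_c10) (LK LD1_c29 LD2_c43 LD3_c51) Lrfl Lrfl
theorem f237552 : Led Lsl_dt (LP (LK LD1_c16 LD2_c17 LD3_c38)) = (LP (LK LD1_c26 LD2_c15 LD3_c29)) :=
  Lre_d IH (LK LD1_c16 LD2_c17 LD3_c38) (LK LD1_c26 LD2_c15 LD3_c29) Lrfl Lrfl
theorem f237553 : Led Lsl_bf (LP (LK LD1_c17 LD2_c43 LD3_c33)) = (LP (LK LD1_c26 LD2_c15 LD3_c29)) :=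
  Lgr Lrot93 (Lpr_dt (K26.f237551 IH) (Lpr_bt (K38.f237541 IH) (Lpr_dt (f237552 IH) (Lpn (LP (LK LD1_c26 LD2_c15 LD3_c29))))))
theorem f237600 : Led Lsl_bt (LP (LK LD1_c17 LD2_c43 LD3_c33)) = (LP (LK LD1_c26 LD2_c15 LD3_c29)) :=
  Lgr Lrot127 (Lpr_bf (f237553 IH) (Lpn (LP (LK LD1_c26 LD2_c15 LD3_c29))))
theorem f237604 : Led Lsl_at (LP (LK LD1_c26 LD2_c15 LD3_c29)) = (LP (LK LD1_c32 LD2_c6 LD3_c29)) :=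
  Lre_a IH (LK LD1_c26 LD2_c15 LD3_c29) (LK LD1_c32 LD2_c6 LD3_c29) Lrfl Lrfl
theorem f361460 : Led Lsl_bf (LP (LK LD1_c32 LD2_c47 LD3_c10)) = (LP (LK LD1_c32 LD2_c6 LD3_c29)) :=
  Lgr Lrot81 (Lpr_at (f361459 IH) (Lpr_bt (f258389 IH) (Lpr_at (K26.f361427 IH) (Lpr_bt (f237600 IH) (Lpr_at (f237604 IH) (Lpn (LP (LK LD1_c32 LD2_c6 LD3_c29))))))))
theorem f378621 : Led Lsl_dt (LP (LK LD1_c32 LD2_c47 LD3_c10)) = (LP (LK LD1_c29 LD2_c43 LD3_c49)) :=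
  Lre_d IH (LK LD1_c32 LD2_c47 LD3_c10) (LK LD1_c29 LD2_c43 LD3_c49) Lrfl Lrfl
theorem f282009 : Led Lsl_dt (LP (LK LD1_c26 LD2_c15 LD3_c25)) = (LP (LK LD1_c32 LD2_c6 LD3_c29)) :=
  Lre_d IH (LK LD1_c26 LD2_c15 LD3_c25) (LK LD1_c32 LD2_c6 LD3_c29) Lrfl Lrfl
theorem f378622 : Led Lsl_bt (LP (LK LD1_c29 LD2_c43 LD3_c49)) = (LP (LK LD1_c26 LD2_c15 LD3_c25)) :=
  Lgr Lrot95 (Lpe (f378621 IH) (Lpr_bf (f361460 IH) (Lpe (f282009 IH) (Lpn (LP (LK LD1_c26 LD2_c15 LD3_c25))))))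
theorem f378624 : Led Lsl_bf (LP (LK LD1_c29 LD2_c43 LD3_c49)) = (LP (LK LD1_c26 LD2_c15 LD3_c25)) :=
  Lgr Lrot24 (Lpr_bt (f378622 IH) (Lpn (LP (LK LD1_c26 LD2_c15 LD3_c25))))
theorem f282039 : Led Lsl_et (LP (LK LD1_c29 LD2_c43 LD3_c49)) = (LP (LK LD1_c20 LD2_c54 LD3_c44)) :=
  Lre_e IH (LK LD1_c29 LD2_c43 LD3_c49) (LK LD1_c20 LD2_c54 LD3_c44) Lrfl Lrfl
theorem f282019 : Led Lsl_et (LP (LK LD1_c16 LD2_c17 LD3_c32)) = (LP (LK LD1_c26 LD2_c15 LD3_c25)) :=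
  Lre_e IH (LK LD1_c16 LD2_c17 LD3_c32) (LK LD1_c26 LD2_c15 LD3_c25) Lrfl Lrfl
theorem f378626 : Led Lsl_bt (LP (LK LD1_c20 LD2_c54 LD3_c44)) = (LP (LK LD1_c16 LD2_c17 LD3_c32)) :=
  Lgr Lrot119 (Lpe (f282039 IH) (Lpr_bf (f378624 IH) (Lpe (f282019 IH) (Lpn (LP (LK LD1_c16 LD2_c17 LD3_c32))))))
theorem f282002 : Led Lsl_ff (LP (LK LD1_c20 LD2_c54 LD3_c39)) = (LP (LK LD1_c16 LD2_c17 LD3_c32)) :=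
  Lgr Lrot30 (Lpr_at (K17.f270806 IH) (Lpr_ft (K17.f280124 IH) (Lpr_at (K17.f270796 IH) (Lpn (LP (LK LD1_c16 LD2_c17 LD3_c32))))))
theorem f378628 : Led Lsl_bf (LP (LK LD1_c15 LD2_c39 LD3_c20)) = (LP (LK LD1_c20 LD2_c54 LD3_c39)) :=
  Lgr Lrot61 (Lpr_ft (K17.f282040 IH) (Lpr_bt (f378626 IH) (Lpe (f282002 IH) (Lpn (LP (LK LD1_c20 LD2_c54 LD3_c39))))))
theorem f170212 : Led Lsl_ct (LP (LK LD1_c8 LD2_c34 LD3_c43)) = (LP (LK LD1_c4 LD2_c17 LD3_c48)) :=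
  Lre_c IH (LK LD1_c8 LD2_c34 LD3_c43) (LK LD1_c4 LD2_c17 LD3_c48) Lrfl Lrfl
theorem f188829 : Led Lsl_bt (LP (LK LD1_c8 LD2_c34 LD3_c43)) = (LP (LK LD1_c16 LD2_c5 LD3_c54)) :=
  Lre_b IH (LK LD1_c8 LD2_c34 LD3_c43) (LK LD1_c16 LD2_c5 LD3_c54) Lrfl Lrfl
theorem f403515 : Led Lsl_gf (LP (LK LD1_c15 LD2_c39 LD3_c20)) = (LP (LK LD1_c16 LD2_c5 LD3_c54)) :=
  Lgr Lrot124 (Lpr_bf (f378628 IH) (Lpr_ct (K17.f282024 IH) (Lpr_gt (f280114 IH) (Lpe (K38.f237564 IH) (Lpr_bt (K38.f184384 IH) (Lpe (f403489 IH) (Lpr_ct (f171021 IH) (Lpr_gt (f403511 IH) (Lpe (f170212 IH) (Lpr_bt (f188829 IH) (Lpn (LP (LK LD1_c16 LD2_c5 LD3_c54)))))))))))))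
theorem f403517 : Led Lsl_gt (LP (LK LD1_c11 LD2_c52 LD3_c1)) = (LP (LK LD1_c16 LD2_c5 LD3_c54)) :=
  Lgr Lrot5 (Lpe (K17.f282042 IH) (Lpr_at (K17.f270807 IH) (Lpr_gf (f403515 IH) (Lpn (LP (LK LD1_c16 LD2_c5 LD3_c54))))))
theorem f282045 : Led Lsl_gt (LP (LK LD1_c20 LD2_c54 LD3_c43)) = (LP (LK LD1_c11 LD2_c52 LD3_c1)) :=
  Lre_g IH (LK LD1_c20 LD2_c54 LD3_c43) (LK LD1_c11 LD2_c52 LD3_c1) Lrfl Lrfl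
theorem f53349 : Led Lsl_bt (LP (LK LD1_c15 LD2_c46 LD3_c14)) = (LP (LK LD1_c8 LD2_c22 LD3_c55)) :=
  Lre_b IH (LK LD1_c15 LD2_c46 LD3_c14) (LK LD1_c8 LD2_c22 LD3_c55) Lrfl Lrfl
theorem f390351 : Led Lsl_ff (LP (LK LD1_c8 LD2_c34 LD3_c40)) = (LP (LK LD1_c8 LD2_c22 LD3_c55)) :=
  Lgr Lrot25 (Lpr_bt (K20.f318721 IH) (Lpr_ft (K31.f390349 IH) (Lpr_bt (f53349 IH) (Lpn (LP (LK LD1_c8 LD2_c22 LD3_c55))))))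
theorem f392808 : Led Lsl_ft (LP (LK LD1_c8 LD2_c34 LD3_c40)) = (LP (LK LD1_c8 LD2_c22 LD3_c55)) :=
  Lgr Lrot48 (Lpr_ff (f390351 IH) (Lpn (LP (LK LD1_c8 LD2_c22 LD3_c55))))
theorem f170215 : Led Lsl_gt (LP (LK LD1_c8 LD2_c34 LD3_c40)) = (LP (LK LD1_c8 LD2_c35 LD3_c44)) :=
  Lre_g IH (LK LD1_c8 LD2_c34 LD3_c40) (LK LD1_c8 LD2_c35 LD3_c44) Lrfl Lrfl
theorem f1080 : Led Lsl_bt (LP (LK LD1_c2 LD2_c5 LD3_c33)) = (LP (LK LD1_c0 LD2_c59 LD3_c48)) :=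
  Lre_b IH (LK LD1_c2 LD2_c5 LD3_c33) (LK LD1_c0 LD2_c59 LD3_c48) Lrfl Lrfl
theorem f1213 : Led Lsl_gt (LP (LK LD1_c2 LD2_c6 LD3_c31)) = (LP (LK LD1_c1 LD2_c0 LD3_c14)) :=
  Lre_g IH (LK LD1_c2 LD2_c6 LD3_c31) (LK LD1_c1 LD2_c0 LD3_c14) Lrfl Lrfl
theorem f52066 : Led Lsl_ct (LP (LK LD1_c4 LD2_c18 LD3_c28)) = (LP (LK LD1_c2 LD2_c6 LD3_c31)) :=
  Lre_c IH (LK LD1_c4 LD2_c18 LD3_c28) (LK LD1_c2 LD2_c6 LD3_c31) Lrfl Lrfl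
theorem f52067 : Led Lsl_bt (LP (LK LD1_c4 LD2_c18 LD3_c28)) = (LP (LK LD1_c8 LD2_c35 LD3_c45)) :=
  Lre_b IH (LK LD1_c4 LD2_c18 LD3_c28) (LK LD1_c8 LD2_c35 LD3_c45) Lrfl Lrfl
theorem f271494 : Led Lsl_gt (LP (LK LD1_c15 LD2_c57 LD3_c7)) = (LP (LK LD1_c8 LD2_c35 LD3_c45)) :=
  Lgr Lrot164 (Lpe (K30.f271493 IH) (Lpr_ct (K16.f271475 IH) (Lpr_gf (K15.f243316 IH) (Lpe (K14.f188966 IH) (Lpe (K12.f1044 IH) (Lpe (f1080 IH) (Lpr_ct (K30.f1082 IH) (Lpe (f1213 IH) (Lpe (f52066 IH) (Lpr_bt (f52067 IH) (Lpn (LP (LK LD1_c8 LD2_c35 LD3_c45)))))))))))))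
theorem f271510 : Led Lsl_ct (LP (LK LD1_c16 LD2_c7 LD3_c2)) = (LP (LK LD1_c8 LD2_c35 LD3_c45)) :=
  Lre_c IH (LK LD1_c16 LD2_c7 LD3_c2) (LK LD1_c8 LD2_c35 LD3_c45) Lrfl Lrfl
theorem f271511 : Led Lsl_bt (LP (LK LD1_c16 LD2_c7 LD3_c2)) = (LP (LK LD1_c8 LD2_c35 LD3_c44)) :=
  Lre_b IH (LK LD1_c16 LD2_c7 LD3_c2) (LK LD1_c8 LD2_c35 LD3_c44) Lrfl Lrfl
theorem f271512 : Led Lsl_gf (LP (LK LD1_c8 LD2_c34 LD3_c43)) = (LP (LK LD1_c8 LD2_c35 LD3_c44)) :=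
  Lgr Lrot181 (Lpr_ct (f170212 IH) (Lpr_gt (f53426 IH) (Lpe (K20.f167298 IH) (Lpr_bt (K20.f170230 IH) (Lpr_gt (K17.f170231 IH) (Lpe (K30.f188826 IH) (Lpe (K30.f271480 IH) (Lpr_gt (f271494 IH) (Lpe (f271510 IH) (Lpr_bt (f271511 IH) (Lpn (LP (LK LD1_c8 LD2_c35 LD3_c44)))))))))))))
theorem f392813 : Led Lsl_af (LP (LK LD1_c8 LD2_c34 LD3_c43)) = (LP (LK LD1_c8 LD2_c22 LD3_c55)) :=
  Lgr Lrot31 (Lpr_gf (f271512 IH) (Lpe (f170215 IH) (Lpr_ft (f392808 IH) (Lpn (LP (LK LD1_c8 LD2_c22 LD3_c55))))))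
theorem f390355 : Led Lsl_at (LP (LK LD1_c17 LD2_c55 LD3_c45)) = (LP (LK LD1_c15 LD2_c46 LD3_c14)) :=
  Lgr Lrot100 (Lpr_af (K31.f390353 IH) (Lpn (LP (LK LD1_c15 LD2_c46 LD3_c14))))
theorem f174080 : Led Lsl_ct (LP (LK LD1_c19 LD2_c50 LD3_c29)) = (LP (LK LD1_c10 LD2_c59 LD3_c43)) :=
  Lre_c IH (LK LD1_c19 LD2_c50 LD3_c29) (LK LD1_c10 LD2_c59 LD3_c43) Lrfl Lrfl
theorem f318692 : Led Lsl_gt (LP (LK LD1_c29 LD2_c7 LD3_c18)) = (LP (LK LD1_c19 LD2_c50 LD3_c29)) :=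
  Lre_g IH (LK LD1_c29 LD2_c7 LD3_c18) (LK LD1_c19 LD2_c50 LD3_c29) Lrfl Lrfl
theorem f392560 : Led Lsl_ct (LP (LK LD1_c24 LD2_c52 LD3_c42)) = (LP (LK LD1_c29 LD2_c7 LD3_c18)) :=
  Lgr Lrot152 (Lpe (K31.f318598 IH) (Lpe (K20.f174026 IH) (Lpr_gt (K38.f392530 IH) (Lpr_ct (K38.f281656 IH) (Lpr_gt (K31.f174095 IH) (Lpr_ct (K9.f174073 IH) (Lpe (K20.f174091 IH) (Lpe (f174080 IH) (Lpe (f318692 IH) (Lpn (LP (LK LD1_c29 LD2_c7 LD3_c18))))))))))))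
theorem f279935 : Led Lsl_bt (LP (LK LD1_c26 LD2_c10 LD3_c47)) = (LP (LK LD1_c25 LD2_c27 LD3_c52)) :=
  Lgr Lrot127 (Lpr_bf (K38.f279933 IH) (Lpn (LP (LK LD1_c25 LD2_c27 LD3_c52))))
theorem f279940 : Led Lsl_bt (LP (LK LD1_c15 LD2_c34 LD3_c8)) = (LP (LK LD1_c25 LD2_c27 LD3_c51)) :=
  Lre_b IH (LK LD1_c15 LD2_c34 LD3_c8) (LK LD1_c25 LD2_c27 LD3_c51) Lrfl Lrfl
theorem f170334 : Led Lsl_bt (LP (LK LD1_c4 LD2_c8 LD3_c22)) = (LP (LK LD1_c8 LD2_c16 LD3_c48)) :=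
  Lre_b IH (LK LD1_c4 LD2_c8 LD3_c22) (LK LD1_c8 LD2_c16 LD3_c48) Lrfl Lrfl
theorem f170381 : Led Lsl_bt (LP (LK LD1_c25 LD2_c27 LD3_c51)) = (LP (LK LD1_c15 LD2_c34 LD3_c8)) :=
  Lre_b IH (LK LD1_c25 LD2_c27 LD3_c51) (LK LD1_c15 LD2_c34 LD3_c8) Lrfl Lrfl
theorem f222800 : Led Lsl_ct (LP (LK LD1_c4 LD2_c9 LD3_c32)) = (LP (LK LD1_c8 LD2_c18 LD3_c59)) :=
  Lre_c IH (LK LD1_c4 LD2_c9 LD3_c32) (LK LD1_c8 LD2_c18 LD3_c59) Lrfl Lrfl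
theorem f222801 : Led Lsl_gt (LP (LK LD1_c15 LD2_c38 LD3_c31)) = (LP (LK LD1_c8 LD2_c18 LD3_c59)) :=
  Lre_g IH (LK LD1_c15 LD2_c38 LD3_c31) (LK LD1_c8 LD2_c18 LD3_c59) Lrfl Lrfl
theorem f222802 : Led Lsl_ct (LP (LK LD1_c25 LD2_c27 LD3_c51)) = (LP (LK LD1_c15 LD2_c38 LD3_c31)) :=
  Lgr Lrot64 (Lpr_bt (f170381 IH) (Lpe (K38.f170342 IH) (Lpe (f170334 IH) (Lpr_ct (K13.f170336 IH) (Lpe (K14.f212500 IH) (Lpe (K14.f222797 IH) (Lpr_gf (K12.f222786 IH) (Lpe (K38.f222789 IH) (Lpr_ct (f222800 IH) (Lpe (f222801 IH) (Lpn (LP (LK LD1_c15 LD2_c38 LD3_c31)))))))))))))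
theorem f279941 : Led Lsl_bt (LP (LK LD1_c15 LD2_c38 LD3_c31)) = (LP (LK LD1_c25 LD2_c33 LD3_c55)) :=
  Lre_b IH (LK LD1_c15 LD2_c38 LD3_c31) (LK LD1_c25 LD2_c33 LD3_c55) Lrfl Lrfl
theorem f279942 : Led Lsl_cf (LP (LK LD1_c26 LD2_c10 LD3_c47)) = (LP (LK LD1_c25 LD2_c33 LD3_c55)) :=
  Lgr Lrot97 (Lpr_bt (f279935 IH) (Lpr_ct (K38.f279931 IH) (Lpr_bt (f279940 IH) (Lpr_ct (f222802 IH) (Lpr_bt (f279941 IH) (Lpn (LP (LK LD1_c25 LD2_c33 LD3_c55))))))))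
theorem f279938 : Led Lsl_gt (LP (LK LD1_c16 LD2_c13 LD3_c60)) = (LP (LK LD1_c26 LD2_c10 LD3_c47)) :=
  Lre_g IH (LK LD1_c16 LD2_c13 LD3_c60) (LK LD1_c26 LD2_c10 LD3_c47) Lrfl Lrfl
theorem f279951 : Led Lsl_ct (LP (LK LD1_c8 LD2_c40 LD3_c5)) = (LP (LK LD1_c16 LD2_c13 LD3_c60)) :=
  Lre_c IH (LK LD1_c8 LD2_c40 LD3_c5) (LK LD1_c16 LD2_c13 LD3_c60) Lrfl Lrfl
theorem f279952 : Led Lsl_bt (LP (LK LD1_c8 LD2_c40 LD3_c5)) = (LP (LK LD1_c16 LD2_c13 LD3_c59)) :=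
  Lre_b IH (LK LD1_c8 LD2_c40 LD3_c5) (LK LD1_c16 LD2_c13 LD3_c59) Lrfl Lrfl
theorem f279950 : Led Lsl_bt (LP (LK LD1_c25 LD2_c33 LD3_c55)) = (LP (LK LD1_c15 LD2_c38 LD3_c31)) :=
  Lre_b IH (LK LD1_c25 LD2_c33 LD3_c55) (LK LD1_c15 LD2_c38 LD3_c31) Lrfl Lrfl
theorem f222790 : Led Lsl_ct (LP (LK LD1_c8 LD2_c18 LD3_c59)) = (LP (LK LD1_c4 LD2_c9 LD3_c32)) :=
  Lre_c IH (LK LD1_c8 LD2_c18 LD3_c59) (LK LD1_c4 LD2_c9 LD3_c32) Lrfl Lrfl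
theorem f246288 : Led Lsl_gt (LP (LK LD1_c4 LD2_c9 LD3_c32)) = (LP (LK LD1_c8 LD2_c19 LD3_c4)) :=
  Lre_g IH (LK LD1_c4 LD2_c9 LD3_c32) (LK LD1_c8 LD2_c19 LD3_c4) Lrfl Lrfl
theorem f256058 : Led Lsl_ct (LP (LK LD1_c15 LD2_c38 LD3_c43)) = (LP (LK LD1_c8 LD2_c19 LD3_c4)) :=
  Lre_c IH (LK LD1_c15 LD2_c38 LD3_c43) (LK LD1_c8 LD2_c19 LD3_c4) Lrfl Lrfl
theorem f256059 : Led Lsl_bt (LP (LK LD1_c15 LD2_c38 LD3_c43)) = (LP (LK LD1_c25 LD2_c34 LD3_c2)) :=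
  Lre_b IH (LK LD1_c15 LD2_c38 LD3_c43) (LK LD1_c25 LD2_c34 LD3_c2) Lrfl Lrfl
theorem f279953 : Led Lsl_gf (LP (LK LD1_c16 LD2_c13 LD3_c59)) = (LP (LK LD1_c25 LD2_c34 LD3_c2)) :=
  Lgr Lrot124 (Lpe (f279952 IH) (Lpr_ct (f279951 IH) (Lpr_gt (f279938 IH) (Lpr_cf (f279942 IH) (Lpr_bt (f279950 IH) (Lpr_gt (f222801 IH) (Lpr_ct (f222790 IH) (Lpr_gt (f246288 IH) (Lpe (f256058 IH) (Lpr_bt (f256059 IH) (Lpn (LP (LK LD1_c25 LD2_c34 LD3_c2)))))))))))))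
theorem f392582 : Led Lsl_dt (LP (LK LD1_c19 LD2_c50 LD3_c29)) = (LP (LK LD1_c25 LD2_c34 LD3_c2)) :=
  Lgr Lrot57 (Lpe (f318692 IH) (Lpe (f392560 IH) (Lpr_gt (K30.f318496 IH) (Lpr_dt (K20.f318488 IH) (Lpe (K30.f318494 IH) (Lpr_dt (K30.f238397 IH) (Lpr_cf (K38.f392576 IH) (Lpe (K38.f279955 IH) (Lpr_gf (f279953 IH) (Lpn (LP (LK LD1_c25 LD2_c34 LD3_c2))))))))))))
theorem f174079 : Led Lsl_ct (LP (LK LD1_c10 LD2_c59 LD3_c43)) = (LP (LK LD1_c19 LD2_c50 LD3_c29)) :=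
  Lre_c IH (LK LD1_c10 LD2_c59 LD3_c43) (LK LD1_c19 LD2_c50 LD3_c29) Lrfl Lrfl
theorem f392597 : Led Lsl_ct (LP (LK LD1_c17 LD2_c55 LD3_c45)) = (LP (LK LD1_c25 LD2_c34 LD3_c2)) :=
  Lgr Lrot151 (Lpe (K31.f140447 IH) (Lpe (K30.f318716 IH) (Lpr_gf (K20.f219577 IH) (Lpr_dt (K20.f219564 IH) (Lpr_gt (K20.f318564 IH) (Lpe (K20.f319008 IH) (Lpe (K20.f318688 IH) (Lpr_ct (f174079 IH) (Lpr_dt (f392582 IH) (Lpn (LP (LK LD1_c25 LD2_c34 LD3_c2))))))))))))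
theorem f392590 : Led Lsl_bt (LP (LK LD1_c25 LD2_c34 LD3_c2)) = (LP (LK LD1_c15 LD2_c38 LD3_c43)) :=
  Lre_b IH (LK LD1_c25 LD2_c34 LD3_c2) (LK LD1_c15 LD2_c38 LD3_c43) Lrfl Lrfl
theorem f392601 : Led Lsl_bt (LP (LK LD1_c8 LD2_c19 LD3_c4)) = (LP (LK LD1_c15 LD2_c38 LD3_c42)) :=
  Lre_b IH (LK LD1_c8 LD2_c19 LD3_c4) (LK LD1_c15 LD2_c38 LD3_c42) Lrfl Lrfl
theorem f52215 : Led Lsl_ct (LP (LK LD1_c15 LD2_c38 LD3_c42)) = (LP (LK LD1_c15 LD2_c39 LD3_c24)) :=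
  Lre_c IH (LK LD1_c15 LD2_c38 LD3_c42) (LK LD1_c15 LD2_c39 LD3_c24) Lrfl Lrfl
theorem f392602 : Led Lsl_bf (LP (LK LD1_c17 LD2_c55 LD3_c45)) = (LP (LK LD1_c15 LD2_c39 LD3_c24)) :=
  Lgr Lrot90 (Lpr_ct (f392597 IH) (Lpr_bt (f392590 IH) (Lpr_ct (f256058 IH) (Lpr_bt (f392601 IH) (Lpr_ct (f52215 IH) (Lpn (LP (LK LD1_c15 LD2_c39 LD3_c24))))))))
theorem f392817 : Led Lsl_at (LP (LK LD1_c16 LD2_c5 LD3_c54)) = (LP (LK LD1_c15 LD2_c39 LD3_c24)) :=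
  Lgr Lrot67 (Lpe (f188829 IH) (Lpr_af (f392813 IH) (Lpe (f53349 IH) (Lpe (f390355 IH) (Lpr_bf (f392602 IH) (Lpn (LP (LK LD1_c15 LD2_c39 LD3_c24))))))))
theorem f392875 : Led Lsl_af (LP (LK LD1_c16 LD2_c5 LD3_c54)) = (LP (LK LD1_c15 LD2_c39 LD3_c24)) :=
  Lgr Lrot0 (Lpr_at (f392817 IH) (Lpn (LP (LK LD1_c15 LD2_c39 LD3_c24))))
theorem f403519 : Led Lsl_ft (LP (LK LD1_c20 LD2_c54 LD3_c43)) = (LP (LK LD1_c15 LD2_c39 LD3_c24)) :=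
  Lgr Lrot2 (Lpr_gt (f282045 IH) (Lpr_gt (f403517 IH) (Lpr_af (f392875 IH) (Lpn (LP (LK LD1_c15 LD2_c39 LD3_c24))))))
theorem f403526 : Led Lsl_ff (LP (LK LD1_c20 LD2_c54 LD3_c43)) = (LP (LK LD1_c15 LD2_c39 LD3_c24)) :=
  Lgr Lrot3 (Lpr_ft (f403519 IH) (Lpn (LP (LK LD1_c15 LD2_c39 LD3_c24))))
theorem f361965 : Led Lsl_ft (LP (LK LD1_c8 LD2_c16 LD3_c38)) = (LP (LK LD1_c4 LD2_c9 LD3_c32)) :=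
  Lgr Lrot75 (Lpe (K38.f236117 IH) (Lpr_ff (K26.f361963 IH) (Lpe (K38.f222789 IH) (Lpn (LP (LK LD1_c4 LD2_c9 LD3_c32))))))
theorem f236118 : Led Lsl_gt (LP (LK LD1_c8 LD2_c16 LD3_c38)) = (LP (LK LD1_c15 LD2_c33 LD3_c46)) :=
  Lre_g IH (LK LD1_c8 LD2_c16 LD3_c38) (LK LD1_c15 LD2_c33 LD3_c46) Lrfl Lrfl
theorem f372275 : Led Lsl_at (LP (LK LD1_c4 LD2_c9 LD3_c32)) = (LP (LK LD1_c8 LD2_c19 LD3_c6)) :=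
  Lre_a IH (LK LD1_c4 LD2_c9 LD3_c32) (LK LD1_c8 LD2_c19 LD3_c6) Lrfl Lrfl
theorem f378544 : Led Lsl_gt (LP (LK LD1_c15 LD2_c33 LD3_c46)) = (LP (LK LD1_c8 LD2_c19 LD3_c6)) :=
  Lgr Lrot46 (Lpe (f236118 IH) (Lpr_ft (f361965 IH) (Lpr_at (f372275 IH) (Lpn (LP (LK LD1_c8 LD2_c19 LD3_c6))))))
theorem f378546 : Led Lsl_bt (LP (LK LD1_c25 LD2_c27 LD3_c26)) = (LP (LK LD1_c15 LD2_c33 LD3_c46)) :=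
  Lre_b IH (LK LD1_c25 LD2_c27 LD3_c26) (LK LD1_c15 LD2_c33 LD3_c46) Lrfl Lrfl
theorem f282028 : Led Lsl_bt (LP (LK LD1_c8 LD2_c19 LD3_c22)) = (LP (LK LD1_c15 LD2_c34 LD3_c10)) :=
  Lgr Lrot127 (Lpr_bf (K17.f282026 IH) (Lpn (LP (LK LD1_c15 LD2_c34 LD3_c10))))
theorem f282046 : Led Lsl_gt (LP (LK LD1_c15 LD2_c39 LD3_c20)) = (LP (LK LD1_c20 LD2_c54 LD3_c43)) :=
  Lgr Lrot5 (Lpr_ft (K17.f282040 IH) (Lpr_at (K17.f270797 IH) (Lpe (f282045 IH) (Lpn (LP (LK LD1_c20 LD2_c54 LD3_c43))))))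
theorem f378547 : Led Lsl_ct (LP (LK LD1_c25 LD2_c27 LD3_c26)) = (LP (LK LD1_c20 LD2_c54 LD3_c43)) :=
  Lgr Lrot10 (Lpr_bt (f378546 IH) (Lpr_gt (f378544 IH) (Lpr_ct (K38.f372280 IH) (Lpe (K38.f372689 IH) (Lpr_cf (K38.f270991 IH) (Lpr_bt (K38.f219932 IH) (Lpr_gt (K38.f279989 IH) (Lpe (f282028 IH) (Lpr_ct (K17.f273796 IH) (Lpr_gt (f282046 IH) (Lpn (LP (LK LD1_c20 LD2_c54 LD3_c43)))))))))))))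
theorem f378551 : Led Lsl_cf (LP (LK LD1_c25 LD2_c27 LD3_c26)) = (LP (LK LD1_c20 LD2_c54 LD3_c43)) :=
  Lgr Lrot11 (Lpr_ct (f378547 IH) (Lpn (LP (LK LD1_c20 LD2_c54 LD3_c43))))
theorem f403530 : Led Lsl_ft (LP (LK LD1_c25 LD2_c27 LD3_c26)) = (LP (LK LD1_c15 LD2_c38 LD3_c42)) :=
  Lgr Lrot4 (Lpr_cf (f378551 IH) (Lpr_ff (f403526 IH) (Lpe (f52215 IH) (Lpn (LP (LK LD1_c15 LD2_c38 LD3_c42))))))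
theorem f378550 : Led Lsl_bt (LP (LK LD1_c15 LD2_c33 LD3_c46)) = (LP (LK LD1_c25 LD2_c27 LD3_c26)) :=
  Lre_b IH (LK LD1_c15 LD2_c33 LD3_c46) (LK LD1_c25 LD2_c27 LD3_c26) Lrfl Lrfl
theorem f378560 : Led Lsl_bt (LP (LK LD1_c15 LD2_c38 LD3_c42)) = (LP (LK LD1_c8 LD2_c19 LD3_c4)) :=
  Lre_b IH (LK LD1_c15 LD2_c38 LD3_c42) (LK LD1_c8 LD2_c19 LD3_c4) Lrfl Lrfl
theorem f403595 : Led Lsl_ff (LP (LK LD1_c15 LD2_c33 LD3_c46)) = (LP (LK LD1_c8 LD2_c19 LD3_c4)) :=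
  Lgr Lrot25 (Lpr_bt (f378550 IH) (Lpr_ft (f403530 IH) (Lpr_bt (f378560 IH) (Lpn (LP (LK LD1_c8 LD2_c19 LD3_c4))))))
theorem f246287 : Led Lsl_bt (LP (LK LD1_c2 LD2_c2 LD3_c3)) = (LP (LK LD1_c4 LD2_c9 LD3_c32)) :=
  Lre_b IH (LK LD1_c2 LD2_c2 LD3_c3) (LK LD1_c4 LD2_c9 LD3_c32) Lrfl Lrfl
theorem f361953 : Led Lsl_ff (LP (LK LD1_c8 LD2_c16 LD3_c38)) = (LP (LK LD1_c4 LD2_c9 LD3_c32)) :=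
  Lgr Lrot25 (Lpr_bt (K31.f222256 IH) (Lpr_ft (K26.f361949 IH) (Lpr_bt (f246287 IH) (Lpn (LP (LK LD1_c4 LD2_c9 LD3_c32))))))
theorem f378558 : Led Lsl_gf (LP (LK LD1_c15 LD2_c33 LD3_c48)) = (LP (LK LD1_c8 LD2_c19 LD3_c4)) :=
  Lgr Lrot76 (Lpe (K31.f270976 IH) (Lpr_ff (f361953 IH) (Lpr_gt (f246288 IH) (Lpn (LP (LK LD1_c8 LD2_c19 LD3_c4))))))
theorem f372602 : Led Lsl_ft (LP (LK LD1_c15 LD2_c33 LD3_c48)) = (LP (LK LD1_c8 LD2_c19 LD3_c6)) :=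
  Lgr Lrot75 (Lpr_bf (K31.f361978 IH) (Lpr_ff (K30.f372592 IH) (Lpe (K38.f372273 IH) (Lpn (LP (LK LD1_c8 LD2_c19 LD3_c6))))))
theorem f234726 : Led Lsl_gt (LP (LK LD1_c8 LD2_c19 LD3_c5)) = (LP (LK LD1_c4 LD2_c9 LD3_c32)) :=
  Lre_g IH (LK LD1_c8 LD2_c19 LD3_c5) (LK LD1_c4 LD2_c9 LD3_c32) Lrfl Lrfl
theorem f372704 : Led Lsl_gt (LP (LK LD1_c15 LD2_c33 LD3_c48)) = (LP (LK LD1_c8 LD2_c19 LD3_c5)) :=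
  Lgr Lrot5 (Lpr_ft (f372602 IH) (Lpr_at (K38.f361942 IH) (Lpe (f234726 IH) (Lpn (LP (LK LD1_c8 LD2_c19 LD3_c5))))))
theorem f403600 : Led Lsl_at (LP (LK LD1_c15 LD2_c33 LD3_c46)) = (LP (LK LD1_c8 LD2_c19 LD3_c5)) :=
  Lgr Lrot26 (Lpr_ff (f403595 IH) (Lpe (f378558 IH) (Lpr_gt (f372704 IH) (Lpn (LP (LK LD1_c8 LD2_c19 LD3_c5))))))
theorem f403602 : Led Lsl_af (LP (LK LD1_c15 LD2_c33 LD3_c46)) = (LP (LK LD1_c8 LD2_c19 LD3_c5)) :=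
  Lgr Lrot0 (Lpr_at (f403600 IH) (Lpn (LP (LK LD1_c8 LD2_c19 LD3_c5))))
theorem f270982 : Led Lsl_gt (LP (LK LD1_c15 LD2_c33 LD3_c47)) = (LP (LK LD1_c8 LD2_c16 LD3_c38)) :=
  Lre_g IH (LK LD1_c15 LD2_c33 LD3_c47) (LK LD1_c8 LD2_c16 LD3_c38) Lrfl Lrfl
theorem f403631 : Led Lsl_ft (LP (LK LD1_c15 LD2_c33 LD3_c47)) = (LP (LK LD1_c8 LD2_c19 LD3_c5)) :=
  Lgr Lrot2 (Lpr_gt (f270982 IH) (Lpr_gt (f236118 IH) (Lpr_af (f403602 IH) (Lpn (LP (LK LD1_c8 LD2_c19 LD3_c5))))))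
theorem f403639 : Led Lsl_ff (LP (LK LD1_c15 LD2_c33 LD3_c47)) = (LP (LK LD1_c8 LD2_c19 LD3_c5)) :=
  Lgr Lrot3 (Lpr_ft (f403631 IH) (Lpn (LP (LK LD1_c8 LD2_c19 LD3_c5))))
theorem f53369 : Led Lsl_ct (LP (LK LD1_c2 LD2_c6 LD3_c28)) = (LP (LK LD1_c4 LD2_c18 LD3_c22)) :=
  Lre_c IH (LK LD1_c2 LD2_c6 LD3_c28) (LK LD1_c4 LD2_c18 LD3_c22) Lrfl Lrfl
theorem f53149 : Led Lsl_ct (LP (LK LD1_c4 LD2_c11 LD3_c45)) = (LP (LK LD1_c2 LD2_c3 LD3_c3)) :=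
  Lre_c IH (LK LD1_c4 LD2_c11 LD3_c45) (LK LD1_c2 LD2_c3 LD3_c3) Lrfl Lrfl
theorem f304830 : Led Lsl_ft (LP (LK LD1_c4 LD2_c18 LD3_c22)) = (LP (LK LD1_c4 LD2_c11 LD3_c45)) :=
  Lgr Lrot4 (Lpe (f53369 IH) (Lpr_ff (K19.f304818 IH) (Lpe (f53149 IH) (Lpn (LP (LK LD1_c4 LD2_c11 LD3_c45))))))
theorem f53153 : Led Lsl_ct (LP (LK LD1_c2 LD2_c3 LD3_c3)) = (LP (LK LD1_c4 LD2_c11 LD3_c45)) :=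
  Lre_c IH (LK LD1_c2 LD2_c3 LD3_c3) (LK LD1_c4 LD2_c11 LD3_c45) Lrfl Lrfl
theorem f166998 : Led Lsl_bt (LP (LK LD1_c4 LD2_c11 LD3_c45)) = (LP (LK LD1_c2 LD2_c24 LD3_c28)) :=
  Lgr Lrot128 (Lpe (f53153 IH) (Lpe (K19.f166997 IH) (Lpr_cf (K9.f166994 IH) (Lpe (K15.f2867 IH) (Lpe (K15.f2868 IH) (Lpn (LP (LK LD1_c2 LD2_c24 LD3_c28))))))))
theorem f276606 : Led Lsl_at (LP (LK LD1_c2 LD2_c23 LD3_c56)) = (LP (LK LD1_c4 LD2_c52 LD3_c19)) :=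
  Lre_a IH (LK LD1_c2 LD2_c23 LD3_c56) (LK LD1_c4 LD2_c52 LD3_c19) Lrfl Lrfl
theorem f276607 : Led Lsl_ft (LP (LK LD1_c2 LD2_c24 LD3_c28)) = (LP (LK LD1_c2 LD2_c23 LD3_c56)) :=
  Lgr Lrot2 (Lpr_gt (K16.f253953 IH) (Lpr_gt (K16.f276602 IH) (Lpe (f276606 IH) (Lpn (LP (LK LD1_c2 LD2_c23 LD3_c56))))))
theorem f304844 : Led Lsl_bf (LP (LK LD1_c4 LD2_c18 LD3_c22)) = (LP (LK LD1_c2 LD2_c23 LD3_c56)) :=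
  Lgr Lrot61 (Lpr_ft (f304830 IH) (Lpr_bt (f166998 IH) (Lpr_ft (f276607 IH) (Lpn (LP (LK LD1_c2 LD2_c23 LD3_c56))))))
theorem f53370 : Led Lsl_gt (LP (LK LD1_c4 LD2_c18 LD3_c22)) = (LP (LK LD1_c8 LD2_c35 LD3_c29)) :=
  Lre_g IH (LK LD1_c4 LD2_c18 LD3_c22) (LK LD1_c8 LD2_c35 LD3_c29) Lrfl Lrfl
theorem f304850 : Led Lsl_bt (LP (LK LD1_c16 LD2_c6 LD3_c52)) = (LP (LK LD1_c8 LD2_c35 LD3_c29)) :=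
  Lre_b IH (LK LD1_c16 LD2_c6 LD3_c52) (LK LD1_c8 LD2_c35 LD3_c29) Lrfl Lrfl
theorem f304859 : Led Lsl_ct (LP (LK LD1_c16 LD2_c6 LD3_c52)) = (LP (LK LD1_c15 LD2_c33 LD3_c47)) :=
  Lgr Lrot64 (Lpr_bt (f304850 IH) (Lpe (f53370 IH) (Lpr_bf (f304844 IH) (Lpr_ct (K16.f1707 IH) (Lpr_gf (K16.f279196 IH) (Lpe (K17.f279255 IH) (Lpe (K17.f292467 IH) (Lpe (K31.f270927 IH) (Lpr_ct (K31.f270972 IH) (Lpe (f270982 IH) (Lpn (LP (LK LD1_c15 LD2_c33 LD3_c47)))))))))))))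
theorem f304863 : Led Lsl_cf (LP (LK LD1_c16 LD2_c6 LD3_c52)) = (LP (LK LD1_c15 LD2_c33 LD3_c47)) :=
  Lgr Lrot11 (Lpr_ct (f304859 IH) (Lpn (LP (LK LD1_c15 LD2_c33 LD3_c47))))
theorem f253957 : Led Lsl_ct (LP (LK LD1_c15 LD2_c38 LD3_c45)) = (LP (LK LD1_c8 LD2_c19 LD3_c5)) :=
  Lre_c IH (LK LD1_c15 LD2_c38 LD3_c45) (LK LD1_c8 LD2_c19 LD3_c5) Lrfl Lrfl
theorem f403645 : Led Lsl_ft (LP (LK LD1_c16 LD2_c6 LD3_c52)) = (LP (LK LD1_c15 LD2_c38 LD3_c45)) :=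
  Lgr Lrot4 (Lpr_cf (f304863 IH) (Lpr_ff (f403639 IH) (Lpe (f253957 IH) (Lpn (LP (LK LD1_c15 LD2_c38 LD3_c45))))))
theorem f304862 : Led Lsl_bt (LP (LK LD1_c8 LD2_c35 LD3_c29)) = (LP (LK LD1_c16 LD2_c6 LD3_c52)) :=
  Lre_b IH (LK LD1_c8 LD2_c35 LD3_c29) (LK LD1_c16 LD2_c6 LD3_c52) Lrfl Lrfl
theorem f53148 : Led Lsl_bt (LP (LK LD1_c2 LD2_c3 LD3_c3)) = (LP (LK LD1_c0 LD2_c58 LD3_c25)) :=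
  Lre_b IH (LK LD1_c2 LD2_c3 LD3_c3) (LK LD1_c0 LD2_c58 LD3_c25) Lrfl Lrfl
theorem f167030 : Led Lsl_bf (LP (LK LD1_c4 LD2_c11 LD3_c45)) = (LP (LK LD1_c2 LD2_c24 LD3_c28)) :=
  Lgr Lrot90 (Lpr_ct (f53149 IH) (Lpr_bt (f53148 IH) (Lpr_ct (K9.f167000 IH) (Lpr_bt (K14.f167006 IH) (Lpr_ct (K15.f2870 IH) (Lpn (LP (LK LD1_c2 LD2_c24 LD3_c28))))))))
theorem f180084 : Led Lsl_gt (LP (LK LD1_c4 LD2_c11 LD3_c45)) = (LP (LK LD1_c8 LD2_c23 LD3_c3)) :=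
  Lre_g IH (LK LD1_c4 LD2_c11 LD3_c45) (LK LD1_c8 LD2_c23 LD3_c3) Lrfl Lrfl
theorem f253956 : Led Lsl_bt (LP (LK LD1_c8 LD2_c18 LD3_c59)) = (LP (LK LD1_c4 LD2_c9 LD3_c30)) :=
  Lre_b IH (LK LD1_c8 LD2_c18 LD3_c59) (LK LD1_c4 LD2_c9 LD3_c30) Lrfl Lrfl
theorem f253958 : Led Lsl_bf (LP (LK LD1_c8 LD2_c23 LD3_c3)) = (LP (LK LD1_c15 LD2_c38 LD3_c45)) :=
  Lgr Lrot34 (Lpe (f180084 IH) (Lpr_bf (f167030 IH) (Lpr_ct (K15.f2868 IH) (Lpr_gf (K16.f253951 IH) (Lpe (K14.f53637 IH) (Lpe (K14.f250509 IH) (Lpe (f253956 IH) (Lpr_ct (f222790 IH) (Lpe (f234726 IH) (Lpe (f253957 IH) (Lpn (LP (LK LD1_c15 LD2_c38 LD3_c45)))))))))))))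
theorem f403647 : Led Lsl_ff (LP (LK LD1_c8 LD2_c35 LD3_c29)) = (LP (LK LD1_c8 LD2_c23 LD3_c3)) :=
  Lgr Lrot25 (Lpr_bt (f304862 IH) (Lpr_ft (f403645 IH) (Lpe (f253958 IH) (Lpn (LP (LK LD1_c8 LD2_c23 LD3_c3))))))
theorem f403649 : Led Lsl_ft (LP (LK LD1_c8 LD2_c35 LD3_c29)) = (LP (LK LD1_c8 LD2_c23 LD3_c3)) :=
  Lgr Lrot48 (Lpr_ff (f403647 IH) (Lpn (LP (LK LD1_c8 LD2_c23 LD3_c3))))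
theorem f178385 : Led Lsl_at (LP (LK LD1_c4 LD2_c11 LD3_c45)) = (LP (LK LD1_c8 LD2_c23 LD3_c2)) :=
  Lre_a IH (LK LD1_c4 LD2_c11 LD3_c45) (LK LD1_c8 LD2_c23 LD3_c2) Lrfl Lrfl
theorem f304848 : Led Lsl_gt (LP (LK LD1_c8 LD2_c35 LD3_c29)) = (LP (LK LD1_c8 LD2_c23 LD3_c2)) :=
  Lgr Lrot46 (Lpe (f53370 IH) (Lpr_ft (f304830 IH) (Lpr_at (f178385 IH) (Lpn (LP (LK LD1_c8 LD2_c23 LD3_c2))))))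
theorem f304841 : Led Lsl_at (LP (LK LD1_c8 LD2_c35 LD3_c28)) = (LP (LK LD1_c4 LD2_c18 LD3_c22)) :=
  Lre_a IH (LK LD1_c8 LD2_c35 LD3_c28) (LK LD1_c4 LD2_c18 LD3_c22) Lrfl Lrfl
theorem f304842 : Led Lsl_ff (LP (LK LD1_c8 LD2_c35 LD3_c28)) = (LP (LK LD1_c8 LD2_c23 LD3_c2)) :=
  Lgr Lrot30 (Lpr_at (f304841 IH) (Lpr_ft (f304830 IH) (Lpr_at (f178385 IH) (Lpn (LP (LK LD1_c8 LD2_c23 LD3_c2))))))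
theorem f304839 : Led Lsl_gt (LP (LK LD1_c8 LD2_c35 LD3_c30)) = (LP (LK LD1_c4 LD2_c18 LD3_c22)) :=
  Lre_g IH (LK LD1_c8 LD2_c35 LD3_c30) (LK LD1_c4 LD2_c18 LD3_c22) Lrfl Lrfl
theorem f304878 : Led Lsl_gf (LP (LK LD1_c8 LD2_c35 LD3_c30)) = (LP (LK LD1_c8 LD2_c23 LD3_c2)) :=
  Lgr Lrot47 (Lpr_gt (f304839 IH) (Lpe (f304841 IH) (Lpr_ff (f304842 IH) (Lpn (LP (LK LD1_c8 LD2_c23 LD3_c2))))))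
theorem f403651 : Led Lsl_af (LP (LK LD1_c8 LD2_c35 LD3_c30)) = (LP (LK LD1_c8 LD2_c23 LD3_c3)) :=
  Lgr Lrot31 (Lpr_gf (f304878 IH) (Lpe (f304848 IH) (Lpr_ft (f403649 IH) (Lpn (LP (LK LD1_c8 LD2_c23 LD3_c3))))))
theorem f403653 : Led Lsl_at (LP (LK LD1_c8 LD2_c35 LD3_c30)) = (LP (LK LD1_c8 LD2_c23 LD3_c3)) :=
  Lgr Lrot100 (Lpr_af (f403651 IH) (Lpn (LP (LK LD1_c8 LD2_c23 LD3_c3))))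
theorem f53154 : Led Lsl_gt (LP (LK LD1_c8 LD2_c23 LD3_c4)) = (LP (LK LD1_c4 LD2_c11 LD3_c45)) :=
  Lre_g IH (LK LD1_c8 LD2_c23 LD3_c4) (LK LD1_c4 LD2_c11 LD3_c45) Lrfl Lrfl
theorem f403658 : Led Lsl_ff (LP (LK LD1_c8 LD2_c35 LD3_c30)) = (LP (LK LD1_c8 LD2_c23 LD3_c4)) :=
  Lgr Lrot52 (Lpr_at (f403653 IH) (Lpe (f180084 IH) (Lpe (f53154 IH) (Lpn (LP (LK LD1_c8 LD2_c23 LD3_c4))))))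
theorem f403664 : Led Lsl_ft (LP (LK LD1_c8 LD2_c35 LD3_c30)) = (LP (LK LD1_c8 LD2_c23 LD3_c4)) :=
  Lgr Lrot48 (Lpr_ff (f403658 IH) (Lpn (LP (LK LD1_c8 LD2_c23 LD3_c4))))
theorem f304861 : Led Lsl_bt (LP (LK LD1_c16 LD2_c6 LD3_c53)) = (LP (LK LD1_c8 LD2_c35 LD3_c30)) :=
  Lre_b IH (LK LD1_c16 LD2_c6 LD3_c53) (LK LD1_c8 LD2_c35 LD3_c30) Lrfl Lrfl
theorem f387472 : Led Lsl_bt (LP (LK LD1_c8 LD2_c23 LD3_c4)) = (LP (LK LD1_c15 LD2_c46 LD3_c23)) :=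
  Lre_b IH (LK LD1_c8 LD2_c23 LD3_c4) (LK LD1_c15 LD2_c46 LD3_c23) Lrfl Lrfl
theorem f403668 : Led Lsl_ff (LP (LK LD1_c16 LD2_c6 LD3_c53)) = (LP (LK LD1_c15 LD2_c46 LD3_c23)) :=
  Lgr Lrot25 (Lpr_bt (f304861 IH) (Lpr_ft (f403664 IH) (Lpr_bt (f387472 IH) (Lpn (LP (LK LD1_c15 LD2_c46 LD3_c23))))))
theorem f219562 : Led Lsl_gf (LP (LK LD1_c15 LD2_c24 LD3_c7)) = (LP (LK LD1_c15 LD2_c47 LD3_c36)) :=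
  Lgr Lrot76 (Lpe (K20.f53929 IH) (Lpr_ff (K20.f219410 IH) (Lpr_gt (K20.f53331 IH) (Lpn (LP (LK LD1_c15 LD2_c47 LD3_c36))))))
theorem f387467 : Led Lsl_gf (LP (LK LD1_c15 LD2_c46 LD3_c14)) = (LP (LK LD1_c17 LD2_c55 LD3_c43)) :=
  Lgr Lrot144 (Lpr_dt (K31.f381104 IH) (Lpr_gt (K31.f165025 IH) (Lpr_dt (K30.f253859 IH) (Lpr_cf (K30.f319607 IH) (Lpe (K30.f380904 IH) (Lpr_gf (K30.f318568 IH) (Lpe (K30.f318566 IH) (Lpr_gf (f219562 IH) (Lpr_cf (K20.f275403 IH) (Lpn (LP (LK LD1_c17 LD2_c55 LD3_c43))))))))))))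
theorem f42002 : Led Lsl_gt (LP (LK LD1_c10 LD2_c32 LD3_c39)) = (LP (LK LD1_c5 LD2_c21 LD3_c13)) :=
  Lre_g IH (LK LD1_c10 LD2_c32 LD3_c39) (LK LD1_c5 LD2_c21 LD3_c13) Lrfl Lrfl
theorem f42003 : Led Lsl_ct (LP (LK LD1_c19 LD2_c5 LD3_c50)) = (LP (LK LD1_c10 LD2_c32 LD3_c39)) :=
  Lre_c IH (LK LD1_c19 LD2_c5 LD3_c50) (LK LD1_c10 LD2_c32 LD3_c39) Lrfl Lrfl
theorem f256062 : Led Lsl_bf (LP (LK LD1_c15 LD2_c47 LD3_c36)) = (LP (LK LD1_c19 LD2_c5 LD3_c50)) :=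
  Lgr Lrot34 (Lpe (K20.f53331 IH) (Lpe (K20.f53330 IH) (Lpr_ct (K12.f219412 IH) (Lpr_gf (K14.f256056 IH) (Lpe (K15.f2868 IH) (Lpe (K15.f192374 IH) (Lpe (K20.f42001 IH) (Lpe (K20.f41987 IH) (Lpe (f42002 IH) (Lpe (f42003 IH) (Lpn (LP (LK LD1_c19 LD2_c5 LD3_c50)))))))))))))
theorem f256064 : Led Lsl_bt (LP (LK LD1_c15 LD2_c47 LD3_c36)) = (LP (LK LD1_c19 LD2_c5 LD3_c50)) :=
  Lgr Lrot127 (Lpr_bf (f256062 IH) (Lpn (LP (LK LD1_c19 LD2_c5 LD3_c50))))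
theorem f167005 : Led Lsl_gt (LP (LK LD1_c2 LD2_c3 LD3_c3)) = (LP (LK LD1_c4 LD2_c11 LD3_c42)) :=
  Lre_g IH (LK LD1_c2 LD2_c3 LD3_c3) (LK LD1_c4 LD2_c11 LD3_c42) Lrfl Lrfl
theorem f167041 : Led Lsl_ct (LP (LK LD1_c8 LD2_c22 LD3_c60)) = (LP (LK LD1_c4 LD2_c11 LD3_c42)) :=
  Lre_c IH (LK LD1_c8 LD2_c22 LD3_c60) (LK LD1_c4 LD2_c11 LD3_c42) Lrfl Lrfl
theorem f170404 : Led Lsl_bt (LP (LK LD1_c8 LD2_c22 LD3_c60)) = (LP (LK LD1_c15 LD2_c46 LD3_c19)) :=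
  Lre_b IH (LK LD1_c8 LD2_c22 LD3_c60) (LK LD1_c15 LD2_c46 LD3_c19) Lrfl Lrfl
theorem f192377 : Led Lsl_gf (LP (LK LD1_c19 LD2_c5 LD3_c50)) = (LP (LK LD1_c15 LD2_c46 LD3_c19)) :=
  Lgr Lrot181 (Lpr_ct (f42003 IH) (Lpr_gt (f42002 IH) (Lpr_cf (K20.f41987 IH) (Lpr_bt (K20.f42001 IH) (Lpr_gt (K15.f192374 IH) (Lpe (f166998 IH) (Lpr_ct (f53149 IH) (Lpr_gt (f167005 IH) (Lpe (f167041 IH) (Lpr_bt (f170404 IH) (Lpn (LP (LK LD1_c15 LD2_c46 LD3_c19)))))))))))))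
theorem f192383 : Led Lsl_bt (LP (LK LD1_c15 LD2_c46 LD3_c23)) = (LP (LK LD1_c8 LD2_c23 LD3_c4)) :=
  Lre_b IH (LK LD1_c15 LD2_c46 LD3_c23) (LK LD1_c8 LD2_c23 LD3_c4) Lrfl Lrfl
theorem f387469 : Led Lsl_cf (LP (LK LD1_c15 LD2_c46 LD3_c14)) = (LP (LK LD1_c15 LD2_c46 LD3_c23)) :=
  Lgr Lrot58 (Lpr_gf (f387467 IH) (Lpe (K20.f275405 IH) (Lpr_bt (f256064 IH) (Lpr_gf (f192377 IH) (Lpe (f170404 IH) (Lpr_ct (f167041 IH) (Lpe (f167005 IH) (Lpe (f53149 IH) (Lpe (f53154 IH) (Lpe (f192383 IH) (Lpn (LP (LK LD1_c15 LD2_c46 LD3_c23)))))))))))))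
theorem f387473 : Led Lsl_ct (LP (LK LD1_c15 LD2_c46 LD3_c14)) = (LP (LK LD1_c15 LD2_c46 LD3_c23)) :=
  Lgr Lrot59 (Lpr_cf (f387469 IH) (Lpn (LP (LK LD1_c15 LD2_c46 LD3_c23))))
theorem f403672 : Led Lsl_ct (LP (LK LD1_c16 LD2_c6 LD3_c53)) = (LP (LK LD1_c16 LD2_c5 LD3_c51)) :=
  Lgr Lrot40 (Lpr_ff (f403668 IH) (Lpe (f387473 IH) (Lpe (K31.f390349 IH) (Lpn (LP (LK LD1_c16 LD2_c5 LD3_c51))))))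
theorem f392425 : Led Lsl_gt (LP (LK LD1_c15 LD2_c3 LD3_c40)) = (LP (LK LD1_c19 LD2_c50 LD3_c33)) :=
  Lgr Lrot5 (Lpe (K30.f318874 IH) (Lpr_at (K30.f318673 IH) (Lpr_gf (K31.f392397 IH) (Lpn (LP (LK LD1_c19 LD2_c50 LD3_c33))))))
theorem f403681 : Led Lsl_gf (LP (LK LD1_c16 LD2_c6 LD3_c53)) = (LP (LK LD1_c16 LD2_c13 LD3_c59)) :=
  Lgr Lrot104 (Lpr_ct (f403672 IH) (Lpr_df (K20.f318726 IH) (Lpe (K20.f226180 IH) (Lpe (K20.f226199 IH) (Lpe (K31.f281677 IH) (Lpe (f392425 IH) (Lpe (K30.f318870 IH) (Lpe (K38.f392570 IH) (Lpr_ct (K38.f392574 IH) (Lpn (LP (LK LD1_c16 LD2_c13 LD3_c59))))))))))))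
theorem f403657 : Led Lsl_at (LP (LK LD1_c26 LD2_c3 LD3_c40)) = (LP (LK LD1_c16 LD2_c6 LD3_c53)) :=
  Lre_a IH (LK LD1_c26 LD2_c3 LD3_c40) (LK LD1_c16 LD2_c6 LD3_c53) Lrfl Lrfl
theorem f403683 : Led Lsl_ff (LP (LK LD1_c26 LD2_c3 LD3_c40)) = (LP (LK LD1_c25 LD2_c34 LD3_c2)) :=
  Lgr Lrot52 (Lpr_at (f403657 IH) (Lpr_gf (f403681 IH) (Lpr_gf (f279953 IH) (Lpn (LP (LK LD1_c25 LD2_c34 LD3_c2))))))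
theorem f390140 : Led Lsl_at (LP (LK LD1_c16 LD2_c5 LD3_c51)) = (LP (LK LD1_c24 LD2_c52 LD3_c53)) :=
  Lgr Lrot51 (Lpr_df (K20.f318726 IH) (Lpr_af (K31.f390135 IH) (Lpe (K31.f387477 IH) (Lpn (LP (LK LD1_c24 LD2_c52 LD3_c53))))))
theorem f390159 : Led Lsl_af (LP (LK LD1_c16 LD2_c5 LD3_c51)) = (LP (LK LD1_c24 LD2_c52 LD3_c53)) :=
  Lgr Lrot0 (Lpr_at (f390140 IH) (Lpn (LP (LK LD1_c24 LD2_c52 LD3_c53))))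
theorem f390359 : Led Lsl_ft (LP (LK LD1_c17 LD2_c55 LD3_c45)) = (LP (LK LD1_c24 LD2_c52 LD3_c53)) :=
  Lgr Lrot101 (Lpr_af (K31.f390353 IH) (Lpe (K31.f390349 IH) (Lpr_af (f390159 IH) (Lpn (LP (LK LD1_c24 LD2_c52 LD3_c53))))))
theorem f390363 : Led Lsl_ff (LP (LK LD1_c17 LD2_c55 LD3_c45)) = (LP (LK LD1_c24 LD2_c52 LD3_c53)) :=
  Lgr Lrot3 (Lpr_ft (f390359 IH) (Lpn (LP (LK LD1_c24 LD2_c52 LD3_c53))))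
theorem f403685 : Led Lsl_ct (LP (LK LD1_c26 LD2_c3 LD3_c40)) = (LP (LK LD1_c24 LD2_c52 LD3_c53)) :=
  Lgr Lrot40 (Lpr_ff (f403683 IH) (Lpe (f392597 IH) (Lpr_ff (f390363 IH) (Lpn (LP (LK LD1_c24 LD2_c52 LD3_c53))))))
theorem f403656 : Led Lsl_at (LP (LK LD1_c16 LD2_c6 LD3_c53)) = (LP (LK LD1_c26 LD2_c3 LD3_c40)) :=
  Lre_a IH (LK LD1_c16 LD2_c6 LD3_c53) (LK LD1_c26 LD2_c3 LD3_c40) Lrfl Lrfl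
theorem f387475 : Led Lsl_gt (LP (LK LD1_c15 LD2_c46 LD3_c23)) = (LP (LK LD1_c25 LD2_c43 LD3_c4)) :=
  Lre_g IH (LK LD1_c15 LD2_c46 LD3_c23) (LK LD1_c25 LD2_c43 LD3_c4) Lrfl Lrfl
theorem f403674 : Led Lsl_gf (LP (LK LD1_c26 LD2_c3 LD3_c40)) = (LP (LK LD1_c25 LD2_c43 LD3_c4)) :=
  Lgr Lrot76 (Lpe (f403656 IH) (Lpr_ff (f403668 IH) (Lpr_gt (f387475 IH) (Lpn (LP (LK LD1_c25 LD2_c43 LD3_c4))))))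
theorem f403691 : Led Lsl_cf (LP (LK LD1_c25 LD2_c43 LD3_c4)) = (LP (LK LD1_c16 LD2_c5 LD3_c17)) :=
  Lgr Lrot169 (Lpe (f403674 IH) (Lpr_ct (f403685 IH) (Lpr_df (K31.f381102 IH) (Lpe (K31.f390138 IH) (Lpr_gf (K31.f390161 IH) (Lpe (K20.f178136 IH) (Lpr_gf (K20.f289592 IH) (Lpr_df (K30.f318857 IH) (Lpr_gt (K20.f270905 IH) (Lpn (LP (LK LD1_c16 LD2_c5 LD3_c17))))))))))))
theorem f403694 : Led Lsl_ct (LP (LK LD1_c25 LD2_c43 LD3_c4)) = (LP (LK LD1_c16 LD2_c5 LD3_c17)) :=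
  Lgr Lrot59 (Lpr_cf (f403691 IH) (Lpn (LP (LK LD1_c16 LD2_c5 LD3_c17))))
theorem f403693 : Led Lsl_bt (LP (LK LD1_c25 LD2_c43 LD3_c4)) = (LP (LK LD1_c31 LD2_c58 LD3_c51)) :=
  Lre_b IH (LK LD1_c25 LD2_c43 LD3_c4) (LK LD1_c31 LD2_c58 LD3_c51) Lrfl Lrfl
theorem f372800 : Led Lsl_ct (LP (LK LD1_c15 LD2_c24 LD3_c2)) = (LP (LK LD1_c8 LD2_c40 LD3_c20)) :=
  Lgr Lrot40 (Lpr_ff (K38.f372798 IH) (Lpr_cf (K31.f219474 IH) (Lpe (K30.f372491 IH) (Lpn (LP (LK LD1_c8 LD2_c40 LD3_c20))))))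
theorem f372530 : Led Lsl_gt (LP (LK LD1_c16 LD2_c14 LD3_c27)) = (LP (LK LD1_c8 LD2_c40 LD3_c20)) :=
  Lre_g IH (LK LD1_c16 LD2_c14 LD3_c27) (LK LD1_c8 LD2_c40 LD3_c20) Lrfl Lrfl
theorem f292721 : Led Lsl_bt (LP (LK LD1_c4 LD2_c21 LD3_c13)) = (LP (LK LD1_c8 LD2_c40 LD3_c2)) :=
  Lre_b IH (LK LD1_c4 LD2_c21 LD3_c13) (LK LD1_c8 LD2_c40 LD3_c2) Lrfl Lrfl
theorem f292722 : Led Lsl_gt (LP (LK LD1_c8 LD2_c40 LD3_c2)) = (LP (LK LD1_c16 LD2_c13 LD3_c51)) :=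
  Lre_g IH (LK LD1_c8 LD2_c40 LD3_c2) (LK LD1_c16 LD2_c13 LD3_c51) Lrfl Lrfl
theorem f292724 : Led Lsl_bt (LP (LK LD1_c26 LD2_c10 LD3_c39)) = (LP (LK LD1_c16 LD2_c13 LD3_c51)) :=
  Lre_b IH (LK LD1_c26 LD2_c10 LD3_c39) (LK LD1_c16 LD2_c13 LD3_c51) Lrfl Lrfl
theorem f372816 : Led Lsl_ct (LP (LK LD1_c26 LD2_c10 LD3_c39)) = (LP (LK LD1_c16 LD2_c14 LD3_c27)) :=
  Lgr Lrot64 (Lpr_bt (f292724 IH) (Lpe (f292722 IH) (Lpe (f292721 IH) (Lpr_ct (K17.f292659 IH) (Lpr_gf (K18.f276650 IH) (Lpe (K12.f53651 IH) (Lpe (K26.f53904 IH) (Lpe (K38.f292725 IH) (Lpr_ct (f372800 IH) (Lpe (f372530 IH) (Lpn (LP (LK LD1_c16 LD2_c14 LD3_c27)))))))))))))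
theorem f403698 : Led Lsl_gt (LP (LK LD1_c31 LD2_c58 LD3_c51)) = (LP (LK LD1_c26 LD2_c10 LD3_c39)) :=
  Lgr Lrot82 (Lpe (f403693 IH) (Lpr_ct (f403694 IH) (Lpe (K20.f270905 IH) (Lpe (K20.f318852 IH) (Lpr_bt (K20.f53932 IH) (Lpe (K26.f53904 IH) (Lpe (K38.f292725 IH) (Lpr_ct (f372800 IH) (Lpe (f372530 IH) (Lpe (f372816 IH) (Lpn (LP (LK LD1_c26 LD2_c10 LD3_c39)))))))))))))
theorem f397142 : Led Lsl_ff (LP (LK LD1_c8 LD2_c18 LD3_c40)) = (LP (LK LD1_c15 LD2_c33 LD3_c58)) :=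
  Lgr Lrot3 (Lpr_ft (K38.f397113 IH) (Lpn (LP (LK LD1_c15 LD2_c33 LD3_c58))))
theorem f397177 : Led Lsl_cf (LP (LK LD1_c15 LD2_c33 LD3_c58)) = (LP (LK LD1_c17 LD2_c42 LD3_c46)) :=
  Lgr Lrot108 (Lpe (f397142 IH) (Lpr_ct (K38.f236753 IH) (Lpr_ft (K38.f397173 IH) (Lpn (LP (LK LD1_c17 LD2_c42 LD3_c46))))))
theorem f279983 : Led Lsl_bt (LP (LK LD1_c8 LD2_c41 LD3_c46)) = (LP (LK LD1_c16 LD2_c17 LD3_c9)) :=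
  Lre_b IH (LK LD1_c8 LD2_c41 LD3_c46) (LK LD1_c16 LD2_c17 LD3_c9) Lrfl Lrfl
theorem f397189 : Led Lsl_bt (LP (LK LD1_c26 LD2_c15 LD3_c1)) = (LP (LK LD1_c17 LD2_c42 LD3_c46)) :=
  Lgr Lrot128 (Lpe (K38.f279930 IH) (Lpe (f279983 IH) (Lpe (K38.f279923 IH) (Lpr_bf (K38.f279978 IH) (Lpr_cf (f397177 IH) (Lpn (LP (LK LD1_c17 LD2_c42 LD3_c46))))))))
theorem f397193 : Led Lsl_bf (LP (LK LD1_c26 LD2_c15 LD3_c1)) = (LP (LK LD1_c17 LD2_c42 LD3_c46)) :=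
  Lgr Lrot24 (Lpr_bt (f397189 IH) (Lpn (LP (LK LD1_c17 LD2_c42 LD3_c46))))
theorem f232617 : Led Lsl_at (LP (LK LD1_c9 LD2_c35 LD3_c57)) = (LP (LK LD1_c4 LD2_c51 LD3_c52)) :=
  Lre_a IH (LK LD1_c9 LD2_c35 LD3_c57) (LK LD1_c4 LD2_c51 LD3_c52) Lrfl Lrfl
theorem f232621 : Led Lsl_gt (LP (LK LD1_c9 LD2_c35 LD3_c56)) = (LP (LK LD1_c4 LD2_c51 LD3_c52)) :=
  Lre_g IH (LK LD1_c9 LD2_c35 LD3_c56) (LK LD1_c4 LD2_c51 LD3_c52) Lrfl Lrfl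
theorem f372594 : Led Lsl_gt (LP (LK LD1_c15 LD2_c37 LD3_c41)) = (LP (LK LD1_c9 LD2_c35 LD3_c56)) :=
  Lgr Lrot5 (Lpr_ft (K30.f372585 IH) (Lpr_at (f232617 IH) (Lpe (f232621 IH) (Lpn (LP (LK LD1_c9 LD2_c35 LD3_c56))))))
theorem f221807 : Led Lsl_bt (LP (LK LD1_c2 LD2_c2 LD3_c6)) = (LP (LK LD1_c4 LD2_c9 LD3_c40)) :=
  Lre_b IH (LK LD1_c2 LD2_c2 LD3_c6) (LK LD1_c4 LD2_c9 LD3_c40) Lrfl Lrfl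
theorem f221808 : Led Lsl_gt (LP (LK LD1_c4 LD2_c9 LD3_c40)) = (LP (LK LD1_c8 LD2_c19 LD3_c20)) :=
  Lre_g IH (LK LD1_c4 LD2_c9 LD3_c40) (LK LD1_c8 LD2_c19 LD3_c20) Lrfl Lrfl
theorem f221809 : Led Lsl_bt (LP (LK LD1_c15 LD2_c39 LD3_c13)) = (LP (LK LD1_c8 LD2_c19 LD3_c20)) :=
  Lre_b IH (LK LD1_c15 LD2_c39 LD3_c13) (LK LD1_c8 LD2_c19 LD3_c20) Lrfl Lrfl
theorem f232622 : Led Lsl_ct (LP (LK LD1_c15 LD2_c39 LD3_c13)) = (LP (LK LD1_c9 LD2_c35 LD3_c56)) :=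
  Lgr Lrot64 (Lpr_bt (f221809 IH) (Lpe (f221808 IH) (Lpe (f221807 IH) (Lpr_ct (K15.f217108 IH) (Lpe (K12.f220608 IH) (Lpe (K12.f44941 IH) (Lpe (K14.f222094 IH) (Lpe (K30.f222125 IH) (Lpr_ct (K30.f232604 IH) (Lpe (f232621 IH) (Lpn (LP (LK LD1_c9 LD2_c35 LD3_c56)))))))))))))
theorem f273790 : Led Lsl_gt (LP (LK LD1_c8 LD2_c19 LD3_c20)) = (LP (LK LD1_c15 LD2_c34 LD3_c18)) :=
  Lgr Lrot46 (Lpe (f221808 IH) (Lpr_ft (K17.f273781 IH) (Lpr_at (K17.f273786 IH) (Lpn (LP (LK LD1_c15 LD2_c34 LD3_c18))))))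
theorem f52188 : Led Lsl_bt (LP (LK LD1_c8 LD2_c16 LD3_c51)) = (LP (LK LD1_c4 LD2_c8 LD3_c23)) :=
  Lre_b IH (LK LD1_c8 LD2_c16 LD3_c51) (LK LD1_c4 LD2_c8 LD3_c23) Lrfl Lrfl
theorem f258526 : Led Lsl_at (LP (LK LD1_c15 LD2_c34 LD3_c18)) = (LP (LK LD1_c8 LD2_c16 LD3_c51)) :=
  Lre_a IH (LK LD1_c15 LD2_c34 LD3_c18) (LK LD1_c8 LD2_c16 LD3_c51) Lrfl Lrfl
theorem f258527 : Led Lsl_bf (LP (LK LD1_c15 LD2_c34 LD3_c18)) = (LP (LK LD1_c8 LD2_c19 LD3_c34)) :=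
  Lgr Lrot81 (Lpr_at (f258526 IH) (Lpr_bt (f52188 IH) (Lpr_at (K15.f258522 IH) (Lpr_bt (K30.f170578 IH) (Lpr_at (K16.f236675 IH) (Lpn (LP (LK LD1_c8 LD2_c19 LD3_c34))))))))
theorem f372596 : Led Lsl_gf (LP (LK LD1_c8 LD2_c18 LD3_c42)) = (LP (LK LD1_c15 LD2_c33 LD3_c58)) :=
  Lgr Lrot181 (Lpr_ct (K30.f366332 IH) (Lpr_gt (f372594 IH) (Lpe (f232622 IH) (Lpr_bt (f221809 IH) (Lpr_gt (f273790 IH) (Lpr_bf (f258527 IH) (Lpr_ct (K16.f236677 IH) (Lpe (K30.f280099 IH) (Lpe (K38.f279923 IH) (Lpr_bt (K38.f279976 IH) (Lpn (LP (LK LD1_c15 LD2_c33 LD3_c58)))))))))))))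
theorem f372519 : Led Lsl_ff (LP (LK LD1_c16 LD2_c14 LD3_c28)) = (LP (LK LD1_c9 LD2_c35 LD3_c48)) :=
  Lgr Lrot3 (Lpr_ft (K30.f372513 IH) (Lpn (LP (LK LD1_c9 LD2_c35 LD3_c48))))
theorem f372529 : Led Lsl_at (LP (LK LD1_c16 LD2_c14 LD3_c28)) = (LP (LK LD1_c8 LD2_c40 LD3_c20)) :=
  Lre_a IH (LK LD1_c16 LD2_c14 LD3_c28) (LK LD1_c8 LD2_c40 LD3_c20) Lrfl Lrfl
theorem f372531 : Led Lsl_gf (LP (LK LD1_c16 LD2_c14 LD3_c27)) = (LP (LK LD1_c9 LD2_c35 LD3_c48)) :=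
  Lgr Lrot47 (Lpr_gt (f372530 IH) (Lpe (f372529 IH) (Lpr_ff (f372519 IH) (Lpn (LP (LK LD1_c9 LD2_c35 LD3_c48))))))
theorem f372819 : Led Lsl_cf (LP (LK LD1_c26 LD2_c10 LD3_c39)) = (LP (LK LD1_c16 LD2_c14 LD3_c27)) :=
  Lgr Lrot11 (Lpr_ct (f372816 IH) (Lpn (LP (LK LD1_c16 LD2_c14 LD3_c27))))
theorem f279949 : Led Lsl_bt (LP (LK LD1_c8 LD2_c40 LD3_c6)) = (LP (LK LD1_c16 LD2_c14 LD3_c2)) :=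
  Lre_b IH (LK LD1_c8 LD2_c40 LD3_c6) (LK LD1_c16 LD2_c14 LD3_c2) Lrfl Lrfl
theorem f279216 : Led Lsl_ct (LP (LK LD1_c16 LD2_c14 LD3_c2)) = (LP (LK LD1_c26 LD2_c10 LD3_c57)) :=
  Lre_c IH (LK LD1_c16 LD2_c14 LD3_c2) (LK LD1_c26 LD2_c10 LD3_c57) Lrfl Lrfl
theorem f397968 : Led Lsl_ct (LP (LK LD1_c24 LD2_c54 LD3_c53)) = (LP (LK LD1_c15 LD2_c6 LD3_c52)) :=
  Lre_c IH (LK LD1_c24 LD2_c54 LD3_c53) (LK LD1_c15 LD2_c6 LD3_c52) Lrfl Lrfl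
theorem f397969 : Led Lsl_bt (LP (LK LD1_c26 LD2_c10 LD3_c57)) = (LP (LK LD1_c24 LD2_c54 LD3_c53)) :=
  Lgr Lrot128 (Lpe (f279216 IH) (Lpe (f279949 IH) (Lpe (K38.f39744 IH) (Lpr_bf (K38.f397961 IH) (Lpe (f397968 IH) (Lpn (LP (LK LD1_c24 LD2_c54 LD3_c53))))))))
theorem f279235 : Led Lsl_ct (LP (LK LD1_c26 LD2_c10 LD3_c57)) = (LP (LK LD1_c16 LD2_c14 LD3_c2)) :=
  Lre_c IH (LK LD1_c26 LD2_c10 LD3_c57) (LK LD1_c16 LD2_c14 LD3_c2) Lrfl Lrfl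
theorem f397986 : Led Lsl_gt (LP (LK LD1_c26 LD2_c10 LD3_c39)) = (LP (LK LD1_c16 LD2_c14 LD3_c2)) :=
  Lgr Lrot149 (Lpr_cf (f372819 IH) (Lpr_gf (f372531 IH) (Lpe (K30.f372711 IH) (Lpr_ct (K30.f372580 IH) (Lpr_gf (f372596 IH) (Lpr_cf (f397177 IH) (Lpe (f397193 IH) (Lpr_gf (K38.f397979 IH) (Lpe (f397969 IH) (Lpr_ct (f279235 IH) (Lpn (LP (LK LD1_c16 LD2_c14 LD3_c2)))))))))))))
theorem f397988 : Led Lsl_at (LP (LK LD1_c26 LD2_c10 LD3_c56)) = (LP (LK LD1_c16 LD2_c14 LD3_c2)) :=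
  Lre_a IH (LK LD1_c26 LD2_c10 LD3_c56) (LK LD1_c16 LD2_c14 LD3_c2) Lrfl Lrfl
theorem f403700 : Led Lsl_ft (LP (LK LD1_c31 LD2_c58 LD3_c51)) = (LP (LK LD1_c26 LD2_c10 LD3_c56)) :=
  Lgr Lrot2 (Lpr_gt (f403698 IH) (Lpr_gt (f397986 IH) (Lpe (f397988 IH) (Lpn (LP (LK LD1_c26 LD2_c10 LD3_c56))))))
theorem f403704 : Led Lsl_ff (LP (LK LD1_c31 LD2_c58 LD3_c51)) = (LP (LK LD1_c26 LD2_c10 LD3_c56)) :=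
  Lgr Lrot3 (Lpr_ft (f403700 IH) (Lpn (LP (LK LD1_c26 LD2_c10 LD3_c56))))
theorem f398136 : Led Lsl_at (LP (LK LD1_c16 LD2_c14 LD3_c2)) = (LP (LK LD1_c26 LD2_c10 LD3_c56)) :=
  Lre_a IH (LK LD1_c16 LD2_c14 LD3_c2) (LK LD1_c26 LD2_c10 LD3_c56) Lrfl Lrfl
theorem f398131 : Led Lsl_ft (LP (LK LD1_c26 LD2_c10 LD3_c45)) = (LP (LK LD1_c16 LD2_c14 LD3_c2)) :=
  Lre_f IH (LK LD1_c26 LD2_c10 LD3_c45) (LK LD1_c16 LD2_c14 LD3_c2) Lrfl Lrfl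
theorem f403706 : Led Lsl_at (LP (LK LD1_c31 LD2_c58 LD3_c51)) = (LP (LK LD1_c26 LD2_c10 LD3_c45)) :=
  Lgr Lrot66 (Lpr_ff (f403704 IH) (Lpe (f398136 IH) (Lpe (f398131 IH) (Lpn (LP (LK LD1_c26 LD2_c10 LD3_c45))))))
theorem f398105 : Led Lsl_bt (LP (LK LD1_c26 LD2_c10 LD3_c45)) = (LP (LK LD1_c16 LD2_c13 LD3_c58)) :=
  Lre_b IH (LK LD1_c26 LD2_c10 LD3_c45) (LK LD1_c16 LD2_c13 LD3_c58) Lrfl Lrfl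
theorem f398108 : Led Lsl_at (LP (LK LD1_c16 LD2_c13 LD3_c58)) = (LP (LK LD1_c8 LD2_c40 LD3_c5)) :=
  Lre_a IH (LK LD1_c16 LD2_c13 LD3_c58) (LK LD1_c8 LD2_c40 LD3_c5) Lrfl Lrfl
theorem f403708 : Led Lsl_af (LP (LK LD1_c25 LD2_c43 LD3_c4)) = (LP (LK LD1_c16 LD2_c13 LD3_c59)) :=
  Lgr Lrot36 (Lpr_bt (f403693 IH) (Lpr_at (f403706 IH) (Lpr_bt (f398105 IH) (Lpr_at (f398108 IH) (Lpr_bt (f279952 IH) (Lpn (LP (LK LD1_c16 LD2_c13 LD3_c59))))))))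
theorem f387476 : Led Lsl_gt (LP (LK LD1_c25 LD2_c43 LD3_c5)) = (LP (LK LD1_c15 LD2_c46 LD3_c23)) :=
  Lre_g IH (LK LD1_c25 LD2_c43 LD3_c5) (LK LD1_c15 LD2_c46 LD3_c23) Lrfl Lrfl
theorem f403714 : Led Lsl_ft (LP (LK LD1_c25 LD2_c43 LD3_c5)) = (LP (LK LD1_c16 LD2_c13 LD3_c59)) :=
  Lgr Lrot2 (Lpr_gt (f387476 IH) (Lpr_gt (f387475 IH) (Lpr_af (f403708 IH) (Lpn (LP (LK LD1_c16 LD2_c13 LD3_c59))))))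
theorem f403719 : Led Lsl_ff (LP (LK LD1_c25 LD2_c43 LD3_c5)) = (LP (LK LD1_c16 LD2_c13 LD3_c59)) :=
  Lgr Lrot3 (Lpr_ft (f403714 IH) (Lpn (LP (LK LD1_c16 LD2_c13 LD3_c59))))
theorem f388079 : Led Lsl_df (LP (LK LD1_c15 LD2_c45 LD3_c45)) = (LP (LK LD1_c19 LD2_c49 LD3_c23)) :=
  Lgr Lrot38 (Lpr_dt (K31.f388035 IH) (Lpn (LP (LK LD1_c19 LD2_c49 LD3_c23))))
theorem f319050 : Led Lsl_ct (LP (LK LD1_c15 LD2_c45 LD3_c45)) = (LP (LK LD1_c25 LD2_c42 LD3_c24)) :=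
  Lre_c IH (LK LD1_c15 LD2_c45 LD3_c45) (LK LD1_c25 LD2_c42 LD3_c24) Lrfl Lrfl
theorem f403723 : Led Lsl_at (LP (LK LD1_c25 LD2_c43 LD3_c5)) = (LP (LK LD1_c25 LD2_c42 LD3_c24)) :=
  Lgr Lrot33 (Lpr_ff (f403719 IH) (Lpr_dt (K38.f279955 IH) (Lpe (K38.f392576 IH) (Lpr_dt (K38.f238395 IH) (Lpr_ct (K38.f238392 IH) (Lpr_dt (K31.f318498 IH) (Lpr_ct (K31.f388037 IH) (Lpe (f388079 IH) (Lpr_ct (f319050 IH) (Lpn (LP (LK LD1_c25 LD2_c42 LD3_c24))))))))))))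
theorem f403710 : Led Lsl_at (LP (LK LD1_c25 LD2_c43 LD3_c4)) = (LP (LK LD1_c16 LD2_c13 LD3_c59)) :=
  Lgr Lrot100 (Lpr_af (f403708 IH) (Lpn (LP (LK LD1_c16 LD2_c13 LD3_c59))))
theorem f403729 : Led Lsl_ff (LP (LK LD1_c25 LD2_c43 LD3_c4)) = (LP (LK LD1_c25 LD2_c42 LD3_c24)) :=
  Lgr Lrot30 (Lpr_at (f403710 IH) (Lpe (f403719 IH) (Lpr_at (f403723 IH) (Lpn (LP (LK LD1_c25 LD2_c42 LD3_c24))))))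
theorem f403737 : Led Lsl_ft (LP (LK LD1_c25 LD2_c43 LD3_c4)) = (LP (LK LD1_c25 LD2_c42 LD3_c24)) :=
  Lgr Lrot48 (Lpr_ff (f403729 IH) (Lpn (LP (LK LD1_c25 LD2_c42 LD3_c24))))
theorem f319049 : Led Lsl_ct (LP (LK LD1_c25 LD2_c42 LD3_c24)) = (LP (LK LD1_c15 LD2_c45 LD3_c45)) :=
  Lre_c IH (LK LD1_c25 LD2_c42 LD3_c24) (LK LD1_c15 LD2_c45 LD3_c45) Lrfl Lrfl
theorem f403739 : Led Lsl_ff (LP (LK LD1_c16 LD2_c5 LD3_c17)) = (LP (LK LD1_c15 LD2_c45 LD3_c45)) :=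
  Lgr Lrot23 (Lpe (f403691 IH) (Lpr_ft (f403737 IH) (Lpr_ct (f319049 IH) (Lpn (LP (LK LD1_c15 LD2_c45 LD3_c45))))))
theorem f403743 : Led Lsl_ft (LP (LK LD1_c17 LD2_c56 LD3_c26)) = (LP (LK LD1_c19 LD2_c49 LD3_c23)) :=
  Lgr Lrot54 (Lpr_df (K20.f319126 IH) (Lpr_ff (f403739 IH) (Lpr_df (f388079 IH) (Lpn (LP (LK LD1_c19 LD2_c49 LD3_c23))))))
theorem f384665 : Led Lsl_at (LP (LK LD1_c15 LD2_c3 LD3_c42)) = (LP (LK LD1_c9 LD2_c46 LD3_c27)) :=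
  Lgr Lrot51 (Lpr_df (K30.f384663 IH) (Lpe (K30.f167168 IH) (Lpr_df (K30.f384278 IH) (Lpn (LP (LK LD1_c9 LD2_c46 LD3_c27))))))
theorem f140456 : Led Lsl_gt (LP (LK LD1_c17 LD2_c56 LD3_c27)) = (LP (LK LD1_c9 LD2_c46 LD3_c27)) :=
  Lre_g IH (LK LD1_c17 LD2_c56 LD3_c27) (LK LD1_c9 LD2_c46 LD3_c27) Lrfl Lrfl
theorem f384676 : Led Lsl_gf (LP (LK LD1_c17 LD2_c56 LD3_c27)) = (LP (LK LD1_c9 LD2_c46 LD3_c29)) :=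
  Lgr Lrot47 (Lpr_gt (f140456 IH) (Lpe (f384665 IH) (Lpr_ff (K30.f384672 IH) (Lpn (LP (LK LD1_c9 LD2_c46 LD3_c29))))))
theorem f403749 : Led Lsl_af (LP (LK LD1_c17 LD2_c56 LD3_c27)) = (LP (LK LD1_c19 LD2_c49 LD3_c23)) :=
  Lgr Lrot31 (Lpr_gf (f384676 IH) (Lpe (K30.f319129 IH) (Lpr_ft (f403743 IH) (Lpn (LP (LK LD1_c19 LD2_c49 LD3_c23))))))
theorem f318426 : Led Lsl_gt (LP (LK LD1_c16 LD2_c5 LD3_c18)) = (LP (LK LD1_c8 LD2_c34 LD3_c20)) :=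
  Lre_g IH (LK LD1_c16 LD2_c5 LD3_c18) (LK LD1_c8 LD2_c34 LD3_c20) Lrfl Lrfl
theorem f384678 : Led Lsl_dt (LP (LK LD1_c17 LD2_c56 LD3_c27)) = (LP (LK LD1_c16 LD2_c5 LD3_c18)) :=
  Lgr Lrot57 (Lpr_gf (f384676 IH) (Lpe (K30.f140438 IH) (Lpr_gt (K30.f140435 IH) (Lpr_dt (K9.f173652 IH) (Lpr_gt (K9.f173083 IH) (Lpr_dt (K17.f173084 IH) (Lpe (K30.f318859 IH) (Lpr_df (K30.f318857 IH) (Lpe (f318426 IH) (Lpn (LP (LK LD1_c16 LD2_c5 LD3_c18))))))))))))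
theorem f403755 : Led Lsl_at (LP (LK LD1_c16 LD2_c5 LD3_c18)) = (LP (LK LD1_c15 LD2_c45 LD3_c45)) :=
  Lgr Lrot51 (Lpe (f384678 IH) (Lpr_af (f403749 IH) (Lpe (K31.f388035 IH) (Lpn (LP (LK LD1_c15 LD2_c45 LD3_c45))))))
theorem f403712 : Led Lsl_at (LP (LK LD1_c16 LD2_c5 LD3_c17)) = (LP (LK LD1_c15 LD2_c45 LD3_c46)) :=
  Lgr Lrot107 (Lpe (f403694 IH) (Lpr_af (f403708 IH) (Lpe (K38.f392574 IH) (Lpn (LP (LK LD1_c15 LD2_c45 LD3_c46))))))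
theorem f403763 : Led Lsl_ff (LP (LK LD1_c16 LD2_c5 LD3_c18)) = (LP (LK LD1_c15 LD2_c45 LD3_c46)) :=
  Lgr Lrot30 (Lpr_at (f403755 IH) (Lpe (f403739 IH) (Lpr_at (f403712 IH) (Lpn (LP (LK LD1_c15 LD2_c45 LD3_c46))))))
theorem f403769 : Led Lsl_ft (LP (LK LD1_c16 LD2_c5 LD3_c18)) = (LP (LK LD1_c15 LD2_c45 LD3_c46)) :=
  Lgr Lrot48 (Lpr_ff (f403763 IH) (Lpn (LP (LK LD1_c15 LD2_c45 LD3_c46))))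
theorem f403773 : Led Lsl_ff (LP (LK LD1_c17 LD2_c56 LD3_c27)) = (LP (LK LD1_c19 LD2_c50 LD3_c24)) :=
  Lgr Lrot19 (Lpr_dt (f384678 IH) (Lpr_ft (f403769 IH) (Lpr_dt (K38.f392567 IH) (Lpn (LP (LK LD1_c19 LD2_c50 LD3_c24))))))
theorem f384537 : Led Lsl_df (LP (LK LD1_c19 LD2_c49 LD3_c58)) = (LP (LK LD1_c15 LD2_c43 LD3_c32)) :=
  Lgr Lrot38 (Lpr_dt (K31.f384534 IH) (Lpn (LP (LK LD1_c15 LD2_c43 LD3_c32))))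
theorem f173436 : Led Lsl_gt (LP (LK LD1_c16 LD2_c56 LD3_c29)) = (LP (LK LD1_c9 LD2_c4 LD3_c47)) :=
  Lre_g IH (LK LD1_c16 LD2_c56 LD3_c29) (LK LD1_c9 LD2_c4 LD3_c47) Lrfl Lrfl
theorem f392151 : Led Lsl_ct (LP (LK LD1_c17 LD2_c56 LD3_c27)) = (LP (LK LD1_c16 LD2_c56 LD3_c29)) :=
  Lgr Lrot8 (Lpr_gt (f140456 IH) (Lpe (K30.f384278 IH) (Lpr_gt (K31.f167113 IH) (Lpe (f384537 IH) (Lpe (K30.f381108 IH) (Lpr_df (K30.f384343 IH) (Lpr_gf (K31.f392148 IH) (Lpe (K31.f391738 IH) (Lpe (f173436 IH) (Lpn (LP (LK LD1_c16 LD2_c56 LD3_c29))))))))))))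
theorem f403777 : Led Lsl_ft (LP (LK LD1_c16 LD2_c56 LD3_c29)) = (LP (LK LD1_c10 LD2_c59 LD3_c39)) :=
  Lgr Lrot4 (Lpe (f392151 IH) (Lpr_ff (f403773 IH) (Lpe (K38.f175235 IH) (Lpn (LP (LK LD1_c10 LD2_c59 LD3_c39))))))
theorem f403783 : Led Lsl_af (LP (LK LD1_c16 LD2_c47 LD3_c17)) = (LP (LK LD1_c10 LD2_c59 LD3_c39)) :=
  Lgr Lrot31 (Lpr_gf (K31.f390156 IH) (Lpe (f173436 IH) (Lpr_ft (f403777 IH) (Lpn (LP (LK LD1_c10 LD2_c59 LD3_c39))))))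
theorem f403787 : Led Lsl_at (LP (LK LD1_c8 LD2_c58 LD3_c18)) = (LP (LK LD1_c5 LD2_c33 LD3_c50)) :=
  Lgr Lrot51 (Lpe (K31.f318412 IH) (Lpr_af (f403783 IH) (Lpe (K31.f174096 IH) (Lpn (LP (LK LD1_c5 LD2_c33 LD3_c50))))))
theorem f403793 : Led Lsl_ff (LP (LK LD1_c8 LD2_c58 LD3_c18)) = (LP (LK LD1_c5 LD2_c33 LD3_c28)) :=
  Lgr Lrot30 (Lpr_at (f403787 IH) (Lpe (K38.f392395 IH) (Lpr_at (K38.f392394 IH) (Lpn (LP (LK LD1_c5 LD2_c33 LD3_c28))))))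
theorem f403801 : Led Lsl_ft (LP (LK LD1_c8 LD2_c58 LD3_c18)) = (LP (LK LD1_c5 LD2_c33 LD3_c28)) :=
  Lgr Lrot48 (Lpr_ff (f403793 IH) (Lpn (LP (LK LD1_c5 LD2_c33 LD3_c28))))
theorem f392528 : Led Lsl_at (LP (LK LD1_c5 LD2_c33 LD3_c28)) = (LP (LK LD1_c10 LD2_c58 LD3_c54)) :=
  Lre_a IH (LK LD1_c5 LD2_c33 LD3_c28) (LK LD1_c10 LD2_c58 LD3_c54) Lrfl Lrfl
theorem f403807 : Led Lsl_gt (LP (LK LD1_c5 LD2_c33 LD3_c51)) = (LP (LK LD1_c10 LD2_c58 LD3_c54)) :=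
  Lgr Lrot46 (Lpr_gf (K30.f387615 IH) (Lpr_ft (f403801 IH) (Lpr_at (f392528 IH) (Lpn (LP (LK LD1_c10 LD2_c58 LD3_c54))))))
theorem f387602 : Led Lsl_bf (LP (LK LD1_c5 LD2_c33 LD3_c51)) = (LP (LK LD1_c10 LD2_c57 LD3_c32)) :=
  Lgr Lrot24 (Lpr_bt (K30.f387597 IH) (Lpn (LP (LK LD1_c10 LD2_c57 LD3_c32))))
theorem f280659 : Led Lsl_bt (LP (LK LD1_c2 LD2_c42 LD3_c29)) = (LP (LK LD1_c4 LD2_c29 LD3_c58)) :=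
  Lgr Lrot127 (Lpr_bf (K20.f280650 IH) (Lpn (LP (LK LD1_c4 LD2_c29 LD3_c58))))
theorem f173540 : Led Lsl_ct (LP (LK LD1_c16 LD2_c45 LD3_c31)) = (LP (LK LD1_c8 LD2_c57 LD3_c2)) :=
  Lre_c IH (LK LD1_c16 LD2_c45 LD3_c31) (LK LD1_c8 LD2_c57 LD3_c2) Lrfl Lrfl
theorem f403813 : Led Lsl_bt (LP (LK LD1_c16 LD2_c45 LD3_c31)) = (LP (LK LD1_c10 LD2_c58 LD3_c54)) :=
  Lgr Lrot92 (Lpr_ct (f173540 IH) (Lpe (K31.f281100 IH) (Lpe (K20.f213345 IH) (Lpr_bt (f280659 IH) (Lpe (K31.f281706 IH) (Lpr_ct (K27.f224507 IH) (Lpe (K30.f224494 IH) (Lpr_cf (K31.f387574 IH) (Lpe (f387602 IH) (Lpr_gt (f403807 IH) (Lpn (LP (LK LD1_c10 LD2_c58 LD3_c54)))))))))))))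
theorem f392526 : Led Lsl_ft (LP (LK LD1_c10 LD2_c58 LD3_c54)) = (LP (LK LD1_c5 LD2_c33 LD3_c50)) :=
  Lgr Lrot48 (Lpr_ff (K38.f392395 IH) (Lpn (LP (LK LD1_c5 LD2_c33 LD3_c50))))
theorem f281645 : Led Lsl_bt (LP (LK LD1_c1 LD2_c17 LD3_c60)) = (LP (LK LD1_c2 LD2_c42 LD3_c61)) :=
  Lre_b IH (LK LD1_c1 LD2_c17 LD3_c60) (LK LD1_c2 LD2_c42 LD3_c61) Lrfl Lrfl
theorem f281646 : Led Lsl_bf (LP (LK LD1_c5 LD2_c33 LD3_c50)) = (LP (LK LD1_c8 LD2_c59 LD3_c8)) :=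
  Lgr Lrot156 (Lpr_gt (K31.f174095 IH) (Lpe (f281645 IH) (Lpr_ct (K14.f173007 IH) (Lpr_gt (K30.f172997 IH) (Lpe (K31.f175180 IH) (Lpr_bt (K30.f174381 IH) (Lpr_gt (K12.f174380 IH) (Lpr_ct (K24.f168107 IH) (Lpr_gt (K20.f174116 IH) (Lpr_cf (K20.f281631 IH) (Lpn (LP (LK LD1_c8 LD2_c59 LD3_c8)))))))))))))
theorem f281648 : Led Lsl_bt (LP (LK LD1_c5 LD2_c33 LD3_c50)) = (LP (LK LD1_c8 LD2_c59 LD3_c8)) :=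
  Lgr Lrot127 (Lpr_bf (f281646 IH) (Lpn (LP (LK LD1_c8 LD2_c59 LD3_c8))))
theorem f403819 : Led Lsl_ff (LP (LK LD1_c16 LD2_c45 LD3_c31)) = (LP (LK LD1_c8 LD2_c59 LD3_c8)) :=
  Lgr Lrot25 (Lpr_bt (f403813 IH) (Lpr_ft (f392526 IH) (Lpr_bt (f281648 IH) (Lpn (LP (LK LD1_c8 LD2_c59 LD3_c8))))))
theorem f403823 : Led Lsl_ft (LP (LK LD1_c16 LD2_c45 LD3_c31)) = (LP (LK LD1_c8 LD2_c59 LD3_c8)) :=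
  Lgr Lrot48 (Lpr_ff (f403819 IH) (Lpn (LP (LK LD1_c8 LD2_c59 LD3_c8))))
theorem f218734 : Led Lsl_ct (LP (LK LD1_c8 LD2_c57 LD3_c2)) = (LP (LK LD1_c16 LD2_c45 LD3_c31)) :=
  Lre_c IH (LK LD1_c8 LD2_c57 LD3_c2) (LK LD1_c16 LD2_c45 LD3_c31) Lrfl Lrfl
theorem f403825 : Led Lsl_ff (LP (LK LD1_c8 LD2_c57 LD3_c2)) = (LP (LK LD1_c5 LD2_c32 LD3_c17)) :=
  Lgr Lrot23 (Lpr_ct (f218734 IH) (Lpr_ft (f403823 IH) (Lpe (K20.f281631 IH) (Lpn (LP (LK LD1_c5 LD2_c32 LD3_c17))))))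
theorem f403830 : Led Lsl_at (LP (LK LD1_c8 LD2_c57 LD3_c2)) = (LP (LK LD1_c5 LD2_c32 LD3_c18)) :=
  Lgr Lrot26 (Lpr_ff (f403825 IH) (Lpr_gt (K20.f281081 IH) (Lpe (K24.f281469 IH) (Lpn (LP (LK LD1_c5 LD2_c32 LD3_c18))))))
theorem f168125 : Led Lsl_cf (LP (LK LD1_c8 LD2_c58 LD3_c14)) = (LP (LK LD1_c5 LD2_c32 LD3_c18)) :=
  Lgr Lrot11 (Lpr_ct (K24.f168109 IH) (Lpn (LP (LK LD1_c5 LD2_c32 LD3_c18))))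
theorem f403834 : Led Lsl_af (LP (LK LD1_c16 LD2_c45 LD3_c31)) = (LP (LK LD1_c8 LD2_c58 LD3_c14)) :=
  Lgr Lrot68 (Lpr_ct (f173540 IH) (Lpr_at (f403830 IH) (Lpe (f168125 IH) (Lpn (LP (LK LD1_c8 LD2_c58 LD3_c14))))))
theorem f238399 : Led Lsl_bt (LP (LK LD1_c5 LD2_c33 LD3_c28)) = (LP (LK LD1_c2 LD2_c42 LD3_c52)) :=
  Lre_b IH (LK LD1_c5 LD2_c33 LD3_c28) (LK LD1_c2 LD2_c42 LD3_c52) Lrfl Lrfl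
theorem f403844 : Led Lsl_at (LP (LK LD1_c2 LD2_c42 LD3_c52)) = (LP (LK LD1_c4 LD2_c30 LD3_c4)) :=
  Lgr Lrot67 (Lpe (f238399 IH) (Lpe (K38.f392394 IH) (Lpe (f403813 IH) (Lpr_af (f403834 IH) (Lpe (K31.f168119 IH) (Lpn (LP (LK LD1_c4 LD2_c30 LD3_c4))))))))
theorem f319840 : Led Lsl_et (LP (LK LD1_c5 LD2_c33 LD3_c31)) = (LP (LK LD1_c2 LD2_c42 LD3_c52)) :=
  Lre_e IH (LK LD1_c5 LD2_c33 LD3_c31) (LK LD1_c2 LD2_c42 LD3_c52) Lrfl Lrfl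
theorem f388390 : Led Lsl_et (LP (LK LD1_c4 LD2_c30 LD3_c4)) = (LP (LK LD1_c8 LD2_c58 LD3_c17)) :=
  Lre_e IH (LK LD1_c4 LD2_c30 LD3_c4) (LK LD1_c8 LD2_c58 LD3_c17) Lrfl Lrfl
theorem f403852 : Led Lsl_af (LP (LK LD1_c5 LD2_c33 LD3_c31)) = (LP (LK LD1_c8 LD2_c58 LD3_c17)) :=
  Lgr Lrot50 (Lpr_et (f319840 IH) (Lpr_at (f403844 IH) (Lpr_et (f388390 IH) (Lpn (LP (LK LD1_c8 LD2_c58 LD3_c17))))))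
theorem f403858 : Led Lsl_ct (LP (LK LD1_c5 LD2_c33 LD3_c31)) = (LP (LK LD1_c10 LD2_c58 LD3_c60)) :=
  Lre_c IH (LK LD1_c5 LD2_c33 LD3_c31) (LK LD1_c10 LD2_c58 LD3_c60) Lrfl Lrfl
theorem f403859 : Led Lsl_at (LP (LK LD1_c10 LD2_c58 LD3_c60)) = (LP (LK LD1_c16 LD2_c47 LD3_c14)) :=
  Lgr Lrot107 (Lpe (f403858 IH) (Lpr_af (f403852 IH) (Lpe (K31.f168150 IH) (Lpn (LP (LK LD1_c16 LD2_c47 LD3_c14))))))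
theorem f403863 : Led Lsl_af (LP (LK LD1_c10 LD2_c58 LD3_c60)) = (LP (LK LD1_c16 LD2_c47 LD3_c14)) :=
  Lgr Lrot0 (Lpr_at (f403859 IH) (Lpn (LP (LK LD1_c16 LD2_c47 LD3_c14))))
theorem f382996 : Led Lsl_et (LP (LK LD1_c10 LD2_c58 LD3_c60)) = (LP (LK LD1_c5 LD2_c33 LD3_c29)) :=
  Lre_e IH (LK LD1_c10 LD2_c58 LD3_c60) (LK LD1_c5 LD2_c33 LD3_c29) Lrfl Lrfl
theorem f388454 : Led Lsl_et (LP (LK LD1_c8 LD2_c58 LD3_c15)) = (LP (LK LD1_c16 LD2_c47 LD3_c14)) :=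
  Lre_e IH (LK LD1_c8 LD2_c58 LD3_c15) (LK LD1_c16 LD2_c47 LD3_c14) Lrfl Lrfl
theorem f403871 : Led Lsl_at (LP (LK LD1_c5 LD2_c33 LD3_c29)) = (LP (LK LD1_c8 LD2_c58 LD3_c15)) :=
  Lgr Lrot80 (Lpe (f382996 IH) (Lpr_af (f403863 IH) (Lpe (f388454 IH) (Lpn (LP (LK LD1_c8 LD2_c58 LD3_c15))))))
theorem f199453 : Led Lsl_ct (LP (LK LD1_c8 LD2_c10 LD3_c7)) = (LP (LK LD1_c15 LD2_c22 LD3_c51)) :=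
  Lre_c IH (LK LD1_c8 LD2_c10 LD3_c7) (LK LD1_c15 LD2_c22 LD3_c51) Lrfl Lrfl
theorem f332705 : Led Lsl_cf (LP (LK LD1_c8 LD2_c27 LD3_c38)) = (LP (LK LD1_c11 LD2_c2 LD3_c47)) :=
  Lgr Lrot108 (Lpr_ft (K22.f332701 IH) (Lpr_ct (f199453 IH) (Lpr_ft (K30.f199444 IH) (Lpn (LP (LK LD1_c11 LD2_c2 LD3_c47))))))
theorem f385138 : Led Lsl_gf (LP (LK LD1_c8 LD2_c58 LD3_c15)) = (LP (LK LD1_c15 LD2_c54 LD3_c47)) :=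
  Lgr Lrot147 (Lpr_ct (K22.f168120 IH) (Lpr_gt (K22.f319765 IH) (Lpr_ct (K31.f238488 IH) (Lpe (K22.f238472 IH) (Lpr_cf (f332705 IH) (Lpe (K19.f199435 IH) (Lpe (K30.f244597 IH) (Lpr_gf (K31.f384938 IH) (Lpe (K30.f331965 IH) (Lpn (LP (LK LD1_c15 LD2_c54 LD3_c47))))))))))))
theorem f403875 : Led Lsl_ff (LP (LK LD1_c5 LD2_c33 LD3_c29)) = (LP (LK LD1_c8 LD2_c58 LD3_c19)) :=
  Lgr Lrot52 (Lpr_at (f403871 IH) (Lpr_gf (f385138 IH) (Lpr_gf (K30.f387631 IH) (Lpn (LP (LK LD1_c8 LD2_c58 LD3_c19))))))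
theorem f403881 : Led Lsl_ft (LP (LK LD1_c5 LD2_c33 LD3_c29)) = (LP (LK LD1_c8 LD2_c58 LD3_c19)) :=
  Lgr Lrot48 (Lpr_ff (f403875 IH) (Lpn (LP (LK LD1_c8 LD2_c58 LD3_c19))))
theorem f332520 : Led Lsl_af (LP (LK LD1_c10 LD2_c58 LD3_c47)) = (LP (LK LD1_c15 LD2_c54 LD3_c47)) :=
  Lgr Lrot68 (Lpr_ct (K22.f332518 IH) (Lpe (K30.f332448 IH) (Lpe (K30.f218362 IH) (Lpn (LP (LK LD1_c15 LD2_c54 LD3_c47))))))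
theorem f388009 : Led Lsl_gt (LP (LK LD1_c10 LD2_c58 LD3_c48)) = (LP (LK LD1_c5 LD2_c33 LD3_c26)) :=
  Lre_g IH (LK LD1_c10 LD2_c58 LD3_c48) (LK LD1_c5 LD2_c33 LD3_c26) Lrfl Lrfl
theorem f401326 : Led Lsl_ft (LP (LK LD1_c10 LD2_c58 LD3_c48)) = (LP (LK LD1_c15 LD2_c54 LD3_c47)) :=
  Lgr Lrot2 (Lpr_gt (f388009 IH) (Lpr_gt (K22.f332517 IH) (Lpr_af (f332520 IH) (Lpn (LP (LK LD1_c15 LD2_c54 LD3_c47))))))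
theorem f401334 : Led Lsl_ff (LP (LK LD1_c10 LD2_c58 LD3_c48)) = (LP (LK LD1_c15 LD2_c54 LD3_c47)) :=
  Lgr Lrot3 (Lpr_ft (f401326 IH) (Lpn (LP (LK LD1_c15 LD2_c54 LD3_c47))))
theorem f332427 : Led Lsl_ff (LP (LK LD1_c10 LD2_c41 LD3_c20)) = (LP (LK LD1_c9 LD2_c44 LD3_c14)) :=
  Lgr Lrot19 (Lpr_dt (K30.f218377 IH) (Lpr_ft (K22.f332415 IH) (Lpr_dt (K31.f332426 IH) (Lpn (LP (LK LD1_c9 LD2_c44 LD3_c14))))))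
theorem f401340 : Led Lsl_ct (LP (LK LD1_c10 LD2_c58 LD3_c48)) = (LP (LK LD1_c9 LD2_c44 LD3_c14)) :=
  Lgr Lrot40 (Lpr_ff (f401334 IH) (Lpr_cf (K30.f218362 IH) (Lpr_ff (f332427 IH) (Lpn (LP (LK LD1_c9 LD2_c44 LD3_c14))))))
theorem f387884 : Led Lsl_ct (LP (LK LD1_c15 LD2_c20 LD3_c45)) = (LP (LK LD1_c8 LD2_c8 LD3_c61)) :=
  Lre_c IH (LK LD1_c15 LD2_c20 LD3_c45) (LK LD1_c8 LD2_c8 LD3_c61) Lrfl Lrfl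
theorem f388518 : Led Lsl_af (LP (LK LD1_c15 LD2_c54 LD3_c15)) = (LP (LK LD1_c25 LD2_c5 LD3_c8)) :=
  Lgr Lrot0 (Lpr_at (K30.f388511 IH) (Lpn (LP (LK LD1_c25 LD2_c5 LD3_c8))))
theorem f389087 : Led Lsl_gf (LP (LK LD1_c15 LD2_c54 LD3_c15)) = (LP (LK LD1_c10 LD2_c58 LD3_c59)) :=
  Lgr Lrot76 (Lpr_af (f388518 IH) (Lpe (K30.f388529 IH) (Lpr_gt (K31.f389085 IH) (Lpn (LP (LK LD1_c10 LD2_c58 LD3_c59))))))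
theorem f401345 : Led Lsl_gf (LP (LK LD1_c10 LD2_c58 LD3_c48)) = (LP (LK LD1_c5 LD2_c33 LD3_c29)) :=
  Lgr Lrot147 (Lpr_ct (f401340 IH) (Lpe (K31.f332466 IH) (Lpe (K30.f319646 IH) (Lpe (K31.f388477 IH) (Lpe (f387884 IH) (Lpr_gf (K31.f389559 IH) (Lpe (K30.f389543 IH) (Lpr_gf (f389087 IH) (Lpe (K31.f275509 IH) (Lpn (LP (LK LD1_c5 LD2_c33 LD3_c29))))))))))))
theorem f403887 : Led Lsl_af (LP (LK LD1_c5 LD2_c33 LD3_c26)) = (LP (LK LD1_c8 LD2_c58 LD3_c19)) :=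
  Lgr Lrot31 (Lpe (f388009 IH) (Lpr_gf (f401345 IH) (Lpr_ft (f403881 IH) (Lpn (LP (LK LD1_c8 LD2_c58 LD3_c19))))))
theorem f403848 : Led Lsl_af (LP (LK LD1_c5 LD2_c33 LD3_c29)) = (LP (LK LD1_c8 LD2_c58 LD3_c15)) :=
  Lgr Lrot68 (Lpr_ct (K27.f221042 IH) (Lpr_at (f403844 IH) (Lpr_ct (K22.f168162 IH) (Lpn (LP (LK LD1_c8 LD2_c58 LD3_c15))))))
theorem f403895 : Led Lsl_ft (LP (LK LD1_c5 LD2_c33 LD3_c26)) = (LP (LK LD1_c8 LD2_c58 LD3_c15)) :=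
  Lgr Lrot101 (Lpr_af (f403887 IH) (Lpe (f403881 IH) (Lpr_af (f403848 IH) (Lpn (LP (LK LD1_c8 LD2_c58 LD3_c15))))))
theorem f403903 : Led Lsl_ff (LP (LK LD1_c5 LD2_c33 LD3_c26)) = (LP (LK LD1_c8 LD2_c58 LD3_c15)) :=
  Lgr Lrot3 (Lpr_ft (f403895 IH) (Lpn (LP (LK LD1_c8 LD2_c58 LD3_c15))))
theorem f403909 : Led Lsl_ft (LP (LK LD1_c10 LD2_c58 LD3_c50)) = (LP (LK LD1_c15 LD2_c54 LD3_c31)) :=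
  Lgr Lrot54 (Lpe (K30.f332535 IH) (Lpr_ff (f403903 IH) (Lpe (K31.f388450 IH) (Lpn (LP (LK LD1_c15 LD2_c54 LD3_c31))))))
theorem f403915 : Led Lsl_ff (LP (LK LD1_c15 LD2_c53 LD3_c31)) = (LP (LK LD1_c15 LD2_c20 LD3_c47)) :=
  Lgr Lrot23 (Lpr_ct (K30.f387999 IH) (Lpr_ft (f403909 IH) (Lpr_ct (K30.f387922 IH) (Lpn (LP (LK LD1_c15 LD2_c20 LD3_c47))))))
theorem f403919 : Led Lsl_at (LP (LK LD1_c15 LD2_c53 LD3_c31)) = (LP (LK LD1_c15 LD2_c20 LD3_c48)) :=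
  Lgr Lrot26 (Lpr_ff (f403915 IH) (Lpe (K30.f387920 IH) (Lpr_gt (K30.f387548 IH) (Lpn (LP (LK LD1_c15 LD2_c20 LD3_c48))))))
theorem f403921 : Led Lsl_af (LP (LK LD1_c15 LD2_c53 LD3_c31)) = (LP (LK LD1_c15 LD2_c20 LD3_c48)) :=
  Lgr Lrot0 (Lpr_at (f403919 IH) (Lpn (LP (LK LD1_c15 LD2_c20 LD3_c48))))
theorem f403938 : Led Lsl_ft (LP (LK LD1_c15 LD2_c53 LD3_c32)) = (LP (LK LD1_c15 LD2_c20 LD3_c48)) :=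
  Lgr Lrot2 (Lpr_gt (K31.f216390 IH) (Lpr_gt (K30.f235369 IH) (Lpr_af (f403921 IH) (Lpn (LP (LK LD1_c15 LD2_c20 LD3_c48))))))
theorem f403944 : Led Lsl_ff (LP (LK LD1_c15 LD2_c53 LD3_c32)) = (LP (LK LD1_c15 LD2_c20 LD3_c48)) :=
  Lgr Lrot3 (Lpr_ft (f403938 IH) (Lpn (LP (LK LD1_c15 LD2_c20 LD3_c48))))
theorem f275535 : Led Lsl_bt (LP (LK LD1_c15 LD2_c53 LD3_c32)) = (LP (LK LD1_c25 LD2_c49 LD3_c34)) :=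
  Lre_b IH (LK LD1_c15 LD2_c53 LD3_c32) (LK LD1_c25 LD2_c49 LD3_c34) Lrfl Lrfl
theorem f403948 : Led Lsl_ft (LP (LK LD1_c25 LD2_c49 LD3_c34)) = (LP (LK LD1_c25 LD2_c12 LD3_c0)) :=
  Lgr Lrot75 (Lpe (f275535 IH) (Lpr_ff (f403944 IH) (Lpe (K30.f290454 IH) (Lpn (LP (LK LD1_c25 LD2_c12 LD3_c0))))))
theorem f275538 : Led Lsl_cf (LP (LK LD1_c10 LD2_c58 LD3_c59)) = (LP (LK LD1_c15 LD2_c53 LD3_c32)) :=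
  Lgr Lrot11 (Lpr_ct (K31.f275533 IH) (Lpn (LP (LK LD1_c15 LD2_c53 LD3_c32))))
theorem f235325 : Led Lsl_bt (LP (LK LD1_c25 LD2_c49 LD3_c34)) = (LP (LK LD1_c15 LD2_c53 LD3_c32)) :=
  Lre_b IH (LK LD1_c25 LD2_c49 LD3_c34) (LK LD1_c15 LD2_c53 LD3_c32) Lrfl Lrfl
theorem f275545 : Led Lsl_ct (LP (LK LD1_c16 LD2_c41 LD3_c13)) = (LP (LK LD1_c25 LD2_c49 LD3_c34)) :=
  Lgr Lrot83 (Lpr_bf (K27.f223498 IH) (Lpe (K27.f223482 IH) (Lpe (K31.f275510 IH) (Lpr_cf (f275538 IH) (Lpe (f235325 IH) (Lpn (LP (LK LD1_c25 LD2_c49 LD3_c34))))))))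
theorem f403950 : Led Lsl_ff (LP (LK LD1_c16 LD2_c41 LD3_c13)) = (LP (LK LD1_c25 LD2_c10 LD3_c24)) :=
  Lgr Lrot23 (Lpr_ct (f275545 IH) (Lpr_ft (f403948 IH) (Lpr_ct (K30.f290453 IH) (Lpn (LP (LK LD1_c25 LD2_c10 LD3_c24))))))
theorem f403962 : Led Lsl_ft (LP (LK LD1_c16 LD2_c41 LD3_c13)) = (LP (LK LD1_c25 LD2_c10 LD3_c24)) :=
  Lgr Lrot48 (Lpr_ff (f403950 IH) (Lpn (LP (LK LD1_c25 LD2_c10 LD3_c24))))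
theorem f233910 : Led Lsl_bt (LP (LK LD1_c25 LD2_c10 LD3_c24)) = (LP (LK LD1_c15 LD2_c19 LD3_c22)) :=
  Lre_b IH (LK LD1_c25 LD2_c10 LD3_c24) (LK LD1_c15 LD2_c19 LD3_c22) Lrfl Lrfl
theorem f403964 : Led Lsl_ff (LP (LK LD1_c24 LD2_c58 LD3_c18)) = (LP (LK LD1_c15 LD2_c19 LD3_c22)) :=
  Lgr Lrot25 (Lpe (K27.f223498 IH) (Lpr_ft (f403962 IH) (Lpr_bt (f233910 IH) (Lpn (LP (LK LD1_c15 LD2_c19 LD3_c22))))))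
theorem f403990 : Led Lsl_at (LP (LK LD1_c24 LD2_c58 LD3_c18)) = (LP (LK LD1_c15 LD2_c19 LD3_c25)) :=
  Lgr Lrot26 (Lpr_ff (f403964 IH) (Lpr_gt (K30.f227114 IH) (Lpe (K31.f233903 IH) (Lpn (LP (LK LD1_c15 LD2_c19 LD3_c25))))))
theorem f403994 : Led Lsl_af (LP (LK LD1_c15 LD2_c9 LD3_c21)) = (LP (LK LD1_c8 LD2_c8 LD3_c17)) :=
  Lgr Lrot68 (Lpr_ct (K27.f223482 IH) (Lpr_at (f403990 IH) (Lpr_ct (K31.f220814 IH) (Lpn (LP (LK LD1_c8 LD2_c8 LD3_c17))))))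
theorem f404006 : Led Lsl_ft (LP (LK LD1_c15 LD2_c9 LD3_c22)) = (LP (LK LD1_c8 LD2_c8 LD3_c17)) :=
  Lgr Lrot2 (Lpr_gt (K31.f223485 IH) (Lpr_gt (K27.f187922 IH) (Lpr_af (f403994 IH) (Lpn (LP (LK LD1_c8 LD2_c8 LD3_c17))))))
theorem f404016 : Led Lsl_ff (LP (LK LD1_c15 LD2_c9 LD3_c22)) = (LP (LK LD1_c8 LD2_c8 LD3_c17)) :=
  Lgr Lrot3 (Lpr_ft (f404006 IH) (Lpn (LP (LK LD1_c8 LD2_c8 LD3_c17))))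
theorem f404024 : Led Lsl_at (LP (LK LD1_c15 LD2_c9 LD3_c22)) = (LP (LK LD1_c8 LD2_c8 LD3_c16)) :=
  Lgr Lrot26 (Lpr_ff (f404016 IH) (Lpr_gt (K31.f53029 IH) (Lpr_gt (K20.f211282 IH) (Lpn (LP (LK LD1_c8 LD2_c8 LD3_c16))))))
theorem f404030 : Led Lsl_af (LP (LK LD1_c15 LD2_c9 LD3_c11)) = (LP (LK LD1_c8 LD2_c8 LD3_c40)) :=
  Lgr Lrot117 (Lpe (K31.f390973 IH) (Lpr_at (f404024 IH) (Lpr_dt (K20.f290532 IH) (Lpn (LP (LK LD1_c8 LD2_c8 LD3_c40))))))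
theorem f390068 : Led Lsl_dt (LP (LK LD1_c25 LD2_c10 LD3_c9)) = (LP (LK LD1_c24 LD2_c58 LD3_c38)) :=
  Lgr Lrot42 (Lpr_df (K31.f390062 IH) (Lpn (LP (LK LD1_c24 LD2_c58 LD3_c38))))
theorem f393055 : Led Lsl_dt (LP (LK LD1_c8 LD2_c8 LD3_c41)) = (LP (LK LD1_c8 LD2_c8 LD3_c17)) :=
  Lgr Lrot6 (Lpr_gt (K13.f196435 IH) (Lpr_ct (K17.f196434 IH) (Lpr_gt (K31.f200829 IH) (Lpr_ct (K31.f393051 IH) (Lpe (f390068 IH) (Lpe (K31.f220803 IH) (Lpe (K31.f200811 IH) (Lpe (K30.f200810 IH) (Lpe (K31.f53029 IH) (Lpn (LP (LK LD1_c8 LD2_c8 LD3_c17))))))))))))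
theorem f404022 : Led Lsl_ft (LP (LK LD1_c15 LD2_c9 LD3_c11)) = (LP (LK LD1_c8 LD2_c8 LD3_c41)) :=
  Lgr Lrot54 (Lpe (K31.f390977 IH) (Lpr_ff (f404016 IH) (Lpe (f393055 IH) (Lpn (LP (LK LD1_c8 LD2_c8 LD3_c41))))))
theorem f403877 : Led Lsl_ft (LP (LK LD1_c10 LD2_c58 LD3_c58)) = (LP (LK LD1_c8 LD2_c8 LD3_c40)) :=
  Lgr Lrot75 (Lpe (K27.f221043 IH) (Lpr_ff (f403875 IH) (Lpr_bf (K20.f318387 IH) (Lpn (LP (LK LD1_c8 LD2_c8 LD3_c40))))))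
theorem f404040 : Led Lsl_at (LP (LK LD1_c8 LD2_c8 LD3_c41)) = (LP (LK LD1_c10 LD2_c58 LD3_c58)) :=
  Lgr Lrot66 (Lpe (f404022 IH) (Lpr_af (f404030 IH) (Lpe (f403877 IH) (Lpn (LP (LK LD1_c10 LD2_c58 LD3_c58))))))
theorem f200954 : Led Lsl_et (LP (LK LD1_c15 LD2_c20 LD3_c8)) = (LP (LK LD1_c8 LD2_c8 LD3_c41)) :=
  Lre_e IH (LK LD1_c15 LD2_c20 LD3_c8) (LK LD1_c8 LD2_c8 LD3_c41) Lrfl Lrfl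
theorem f275514 : Led Lsl_et (LP (LK LD1_c10 LD2_c58 LD3_c58)) = (LP (LK LD1_c19 LD2_c49 LD3_c26)) :=
  Lre_e IH (LK LD1_c10 LD2_c58 LD3_c58) (LK LD1_c19 LD2_c49 LD3_c26) Lrfl Lrfl
theorem f404046 : Led Lsl_af (LP (LK LD1_c15 LD2_c20 LD3_c8)) = (LP (LK LD1_c19 LD2_c49 LD3_c26)) :=
  Lgr Lrot50 (Lpr_et (f200954 IH) (Lpr_at (f404040 IH) (Lpr_et (f275514 IH) (Lpn (LP (LK LD1_c19 LD2_c49 LD3_c26))))))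
theorem f404053 : Led Lsl_ct (LP (LK LD1_c15 LD2_c20 LD3_c8)) = (LP (LK LD1_c25 LD2_c11 LD3_c23)) :=
  Lre_c IH (LK LD1_c15 LD2_c20 LD3_c8) (LK LD1_c25 LD2_c11 LD3_c23) Lrfl Lrfl
theorem f404054 : Led Lsl_ct (LP (LK LD1_c29 LD2_c6 LD3_c52)) = (LP (LK LD1_c19 LD2_c49 LD3_c26)) :=
  Lre_c IH (LK LD1_c29 LD2_c6 LD3_c52) (LK LD1_c19 LD2_c49 LD3_c26) Lrfl Lrfl
theorem f404055 : Led Lsl_at (LP (LK LD1_c25 LD2_c11 LD3_c23)) = (LP (LK LD1_c29 LD2_c6 LD3_c52)) :=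
  Lgr Lrot107 (Lpe (f404053 IH) (Lpr_af (f404046 IH) (Lpe (f404054 IH) (Lpn (LP (LK LD1_c29 LD2_c6 LD3_c52))))))
theorem f404058 : Led Lsl_af (LP (LK LD1_c25 LD2_c11 LD3_c23)) = (LP (LK LD1_c29 LD2_c6 LD3_c52)) :=
  Lgr Lrot0 (Lpr_at (f404055 IH) (Lpn (LP (LK LD1_c29 LD2_c6 LD3_c52))))
theorem f196449 : Led Lsl_et (LP (LK LD1_c25 LD2_c11 LD3_c23)) = (LP (LK LD1_c15 LD2_c20 LD3_c7)) :=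
  Lre_e IH (LK LD1_c25 LD2_c11 LD3_c23) (LK LD1_c15 LD2_c20 LD3_c7) Lrfl Lrfl
theorem f404063 : Led Lsl_et (LP (LK LD1_c19 LD2_c49 LD3_c20)) = (LP (LK LD1_c29 LD2_c6 LD3_c52)) :=
  Lre_e IH (LK LD1_c19 LD2_c49 LD3_c20) (LK LD1_c29 LD2_c6 LD3_c52) Lrfl Lrfl
theorem f404064 : Led Lsl_at (LP (LK LD1_c15 LD2_c20 LD3_c7)) = (LP (LK LD1_c19 LD2_c49 LD3_c20)) :=
  Lgr Lrot80 (Lpe (f196449 IH) (Lpr_af (f404058 IH) (Lpe (f404063 IH) (Lpn (LP (LK LD1_c19 LD2_c49 LD3_c20))))))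
theorem f391031 : Led Lsl_af (LP (LK LD1_c29 LD2_c6 LD3_c50)) = (LP (LK LD1_c25 LD2_c11 LD3_c18)) :=
  Lgr Lrot0 (Lpr_at (K31.f391029 IH) (Lpn (LP (LK LD1_c25 LD2_c11 LD3_c18))))
theorem f391057 : Led Lsl_gf (LP (LK LD1_c29 LD2_c6 LD3_c50)) = (LP (LK LD1_c24 LD2_c50 LD3_c50)) :=
  Lgr Lrot76 (Lpr_af (f391031 IH) (Lpe (K31.f391037 IH) (Lpr_gt (K31.f391055 IH) (Lpn (LP (LK LD1_c24 LD2_c50 LD3_c50))))))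
theorem f404068 : Led Lsl_ff (LP (LK LD1_c15 LD2_c20 LD3_c7)) = (LP (LK LD1_c24 LD2_c50 LD3_c50)) :=
  Lgr Lrot52 (Lpr_at (f404064 IH) (Lpe (K31.f238406 IH) (Lpr_gf (f391057 IH) (Lpn (LP (LK LD1_c24 LD2_c50 LD3_c50))))))
theorem f404072 : Led Lsl_ft (LP (LK LD1_c15 LD2_c20 LD3_c7)) = (LP (LK LD1_c24 LD2_c50 LD3_c50)) :=
  Lgr Lrot48 (Lpr_ff (f404068 IH) (Lpn (LP (LK LD1_c24 LD2_c50 LD3_c50))))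
theorem f196440 : Led Lsl_bf (LP (LK LD1_c15 LD2_c20 LD3_c7)) = (LP (LK LD1_c24 LD2_c48 LD3_c42)) :=
  Lgr Lrot24 (Lpr_bt (K13.f196437 IH) (Lpn (LP (LK LD1_c24 LD2_c48 LD3_c42))))
theorem f404076 : Led Lsl_ff (LP (LK LD1_c24 LD2_c48 LD3_c42)) = (LP (LK LD1_c15 LD2_c2 LD3_c19)) :=
  Lgr Lrot25 (Lpe (f196440 IH) (Lpr_ft (f404072 IH) (Lpr_bt (K31.f219055 IH) (Lpn (LP (LK LD1_c15 LD2_c2 LD3_c19))))))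
theorem f404080 : Led Lsl_at (LP (LK LD1_c24 LD2_c48 LD3_c42)) = (LP (LK LD1_c15 LD2_c2 LD3_c20)) :=
  Lgr Lrot26 (Lpr_ff (f404076 IH) (Lpr_gt (K31.f374727 IH) (Lpr_gt (K31.f374637 IH) (Lpn (LP (LK LD1_c15 LD2_c2 LD3_c20))))))
theorem f218742 : Led Lsl_cf (LP (LK LD1_c16 LD2_c45 LD3_c30)) = (LP (LK LD1_c15 LD2_c2 LD3_c20)) :=
  Lgr Lrot11 (Lpr_ct (K31.f218739 IH) (Lpn (LP (LK LD1_c15 LD2_c2 LD3_c20))))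
theorem f404084 : Led Lsl_af (LP (LK LD1_c25 LD2_c12 LD3_c18)) = (LP (LK LD1_c16 LD2_c45 LD3_c30)) :=
  Lgr Lrot68 (Lpr_ct (K13.f196450 IH) (Lpr_at (f404080 IH) (Lpe (f218742 IH) (Lpn (LP (LK LD1_c16 LD2_c45 LD3_c30))))))
theorem f196452 : Led Lsl_et (LP (LK LD1_c25 LD2_c12 LD3_c18)) = (LP (LK LD1_c31 LD2_c48 LD3_c49)) :=
  Lre_e IH (LK LD1_c25 LD2_c12 LD3_c18) (LK LD1_c31 LD2_c48 LD3_c49) Lrfl Lrfl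
theorem f218744 : Led Lsl_et (LP (LK LD1_c26 LD2_c44 LD3_c21)) = (LP (LK LD1_c16 LD2_c45 LD3_c30)) :=
  Lre_e IH (LK LD1_c26 LD2_c44 LD3_c21) (LK LD1_c16 LD2_c45 LD3_c30) Lrfl Lrfl
theorem f404090 : Led Lsl_at (LP (LK LD1_c31 LD2_c48 LD3_c49)) = (LP (LK LD1_c26 LD2_c44 LD3_c21)) :=
  Lgr Lrot80 (Lpe (f196452 IH) (Lpr_af (f404084 IH) (Lpe (f218744 IH) (Lpn (LP (LK LD1_c26 LD2_c44 LD3_c21))))))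
theorem f404168 : Led Lsl_bt (LP (LK LD1_c25 LD2_c12 LD3_c19)) = (LP (LK LD1_c31 LD2_c48 LD3_c49)) :=
  Lre_b IH (LK LD1_c25 LD2_c12 LD3_c19) (LK LD1_c31 LD2_c48 LD3_c49) Lrfl Lrfl
theorem f403841 : Led Lsl_bt (LP (LK LD1_c26 LD2_c44 LD3_c21)) = (LP (LK LD1_c16 LD2_c45 LD3_c32)) :=
  Lre_b IH (LK LD1_c26 LD2_c44 LD3_c21) (LK LD1_c16 LD2_c45 LD3_c32) Lrfl Lrfl
theorem f281106 : Led Lsl_et (LP (LK LD1_c16 LD2_c45 LD3_c32)) = (LP (LK LD1_c8 LD2_c57 LD3_c2)) :=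
  Lre_e IH (LK LD1_c16 LD2_c45 LD3_c32) (LK LD1_c8 LD2_c57 LD3_c2) Lrfl Lrfl
theorem f403836 : Led Lsl_af (LP (LK LD1_c16 LD2_c45 LD3_c32)) = (LP (LK LD1_c10 LD2_c56 LD3_c15)) :=
  Lgr Lrot50 (Lpr_et (f281106 IH) (Lpr_at (f403830 IH) (Lpr_et (K31.f168128 IH) (Lpn (LP (LK LD1_c10 LD2_c56 LD3_c15))))))
theorem f403838 : Led Lsl_at (LP (LK LD1_c16 LD2_c45 LD3_c32)) = (LP (LK LD1_c10 LD2_c56 LD3_c15)) :=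
  Lgr Lrot100 (Lpr_af (f403836 IH) (Lpn (LP (LK LD1_c10 LD2_c56 LD3_c15))))
theorem f404169 : Led Lsl_af (LP (LK LD1_c25 LD2_c12 LD3_c19)) = (LP (LK LD1_c19 LD2_c45 LD3_c8)) :=
  Lgr Lrot36 (Lpr_bt (f404168 IH) (Lpr_at (f404090 IH) (Lpr_bt (f403841 IH) (Lpr_at (f403838 IH) (Lpr_bt (K31.f168148 IH) (Lpn (LP (LK LD1_c19 LD2_c45 LD3_c8))))))))
theorem f404171 : Led Lsl_at (LP (LK LD1_c25 LD2_c12 LD3_c19)) = (LP (LK LD1_c19 LD2_c45 LD3_c8)) :=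
  Lgr Lrot100 (Lpr_af (f404169 IH) (Lpn (LP (LK LD1_c19 LD2_c45 LD3_c8))))
theorem f404178 : Led Lsl_et (LP (LK LD1_c15 LD2_c21 LD3_c3)) = (LP (LK LD1_c25 LD2_c12 LD3_c19)) :=
  Lre_e IH (LK LD1_c15 LD2_c21 LD3_c3) (LK LD1_c25 LD2_c12 LD3_c19) Lrfl Lrfl
theorem f168166 : Led Lsl_et (LP (LK LD1_c19 LD2_c45 LD3_c8)) = (LP (LK LD1_c10 LD2_c56 LD3_c14)) :=
  Lre_e IH (LK LD1_c19 LD2_c45 LD3_c8) (LK LD1_c10 LD2_c56 LD3_c14) Lrfl Lrfl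
theorem f404179 : Led Lsl_af (LP (LK LD1_c15 LD2_c21 LD3_c3)) = (LP (LK LD1_c10 LD2_c56 LD3_c14)) :=
  Lgr Lrot50 (Lpr_et (f404178 IH) (Lpr_at (f404171 IH) (Lpr_et (f168166 IH) (Lpn (LP (LK LD1_c10 LD2_c56 LD3_c14))))))
theorem f404181 : Led Lsl_at (LP (LK LD1_c15 LD2_c20 LD3_c6)) = (LP (LK LD1_c16 LD2_c47 LD3_c13)) :=
  Lgr Lrot107 (Lpe (K13.f196444 IH) (Lpr_af (f404179 IH) (Lpe (K31.f168159 IH) (Lpn (LP (LK LD1_c16 LD2_c47 LD3_c13))))))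
theorem f393871 : Led Lsl_df (LP (LK LD1_c15 LD2_c20 LD3_c6)) = (LP (LK LD1_c15 LD2_c19 LD3_c24)) :=
  Lgr Lrot38 (Lpr_dt (K31.f393059 IH) (Lpn (LP (LK LD1_c15 LD2_c19 LD3_c24))))
theorem f393877 : Led Lsl_at (LP (LK LD1_c25 LD2_c10 LD3_c27)) = (LP (LK LD1_c15 LD2_c19 LD3_c24)) :=
  Lre_a IH (LK LD1_c25 LD2_c10 LD3_c27) (LK LD1_c15 LD2_c19 LD3_c24) Lrfl Lrfl
theorem f404309 : Led Lsl_df (LP (LK LD1_c25 LD2_c10 LD3_c27)) = (LP (LK LD1_c16 LD2_c47 LD3_c13)) :=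
  Lgr Lrot18 (Lpr_at (f393877 IH) (Lpe (f393871 IH) (Lpr_at (f404181 IH) (Lpn (LP (LK LD1_c16 LD2_c47 LD3_c13))))))
theorem f52959 : Led Lsl_dt (LP (LK LD1_c4 LD2_c4 LD3_c14)) = (LP (LK LD1_c1 LD2_c59 LD3_c2)) :=
  Lre_d IH (LK LD1_c4 LD2_c4 LD3_c14) (LK LD1_c1 LD2_c59 LD3_c2) Lrfl Lrfl
theorem f404338 : Led Lsl_gt (LP (LK LD1_c25 LD2_c10 LD3_c27)) = (LP (LK LD1_c15 LD2_c50 LD3_c2)) :=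
  Lgr Lrot9 (Lpr_df (f404309 IH) (Lpr_gt (K31.f388657 IH) (Lpr_ct (K30.f52970 IH) (Lpr_gt (K27.f50291 IH) (Lpr_ct (K9.f50281 IH) (Lpe (f52959 IH) (Lpe (K20.f52296 IH) (Lpe (K11.f52299 IH) (Lpe (K11.f200760 IH) (Lpn (LP (LK LD1_c15 LD2_c50 LD3_c2))))))))))))
theorem f332551 : Led Lsl_at (LP (LK LD1_c19 LD2_c49 LD3_c8)) = (LP (LK LD1_c15 LD2_c50 LD3_c2)) :=
  Lgr Lrot66 (Lpr_ff (K22.f332547 IH) (Lpr_af (K22.f332165 IH) (Lpe (K31.f331919 IH) (Lpn (LP (LK LD1_c15 LD2_c50 LD3_c2))))))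
theorem f404340 : Led Lsl_gf (LP (LK LD1_c25 LD2_c10 LD3_c27)) = (LP (LK LD1_c17 LD2_c53 LD3_c32)) :=
  Lgr Lrot47 (Lpr_gt (f404338 IH) (Lpe (f332551 IH) (Lpr_ff (K22.f332547 IH) (Lpn (LP (LK LD1_c17 LD2_c53 LD3_c32))))))
theorem f286687 : Led Lsl_dt (LP (LK LD1_c15 LD2_c54 LD3_c45)) = (LP (LK LD1_c25 LD2_c50 LD3_c58)) :=
  Lre_d IH (LK LD1_c15 LD2_c54 LD3_c45) (LK LD1_c25 LD2_c50 LD3_c58) Lrfl Lrfl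
theorem f393255 : Led Lsl_bt (LP (LK LD1_c15 LD2_c21 LD3_c2)) = (LP (LK LD1_c8 LD2_c9 LD3_c11)) :=
  Lre_b IH (LK LD1_c15 LD2_c21 LD3_c2) (LK LD1_c8 LD2_c9 LD3_c11) Lrfl Lrfl
theorem f52255 : Led Lsl_bt (LP (LK LD1_c1 LD2_c59 LD3_c4)) = (LP (LK LD1_c4 LD2_c4 LD3_c15)) :=
  Lre_b IH (LK LD1_c1 LD2_c59 LD3_c4) (LK LD1_c4 LD2_c4 LD3_c15) Lrfl Lrfl
theorem f51179 : Led Lsl_gt (LP (LK LD1_c15 LD2_c49 LD3_c60)) = (LP (LK LD1_c8 LD2_c25 LD3_c46)) :=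
  Lre_g IH (LK LD1_c15 LD2_c49 LD3_c60) (LK LD1_c8 LD2_c25 LD3_c46) Lrfl Lrfl
theorem f393269 : Led Lsl_ct (LP (LK LD1_c15 LD2_c21 LD3_c2)) = (LP (LK LD1_c15 LD2_c49 LD3_c60)) :=
  Lgr Lrot64 (Lpr_bt (f393255 IH) (Lpr_gf (K31.f393259 IH) (Lpe (f52255 IH) (Lpr_ct (K10.f52236 IH) (Lpe (K12.f27976 IH) (Lpe (K12.f52270 IH) (Lpe (K12.f223590 IH) (Lpe (K10.f27656 IH) (Lpr_ct (K12.f51188 IH) (Lpe (f51179 IH) (Lpn (LP (LK LD1_c15 LD2_c49 LD3_c60)))))))))))))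
theorem f52728 : Led Lsl_df (LP (LK LD1_c4 LD2_c13 LD3_c26)) = (LP (LK LD1_c4 LD2_c14 LD3_c50)) :=
  Lgr Lrot18 (Lpr_at (K10.f51146 IH) (Lpr_dt (K10.f52724 IH) (Lpr_at (K31.f52649 IH) (Lpn (LP (LK LD1_c4 LD2_c14 LD3_c50))))))
theorem f393278 : Led Lsl_gf (LP (LK LD1_c15 LD2_c21 LD3_c2)) = (LP (LK LD1_c19 LD2_c20 LD3_c10)) :=
  Lgr Lrot147 (Lpr_ct (f393269 IH) (Lpr_gt (f51179 IH) (Lpr_ct (K10.f51169 IH) (Lpr_df (f52728 IH) (Lpe (K30.f52789 IH) (Lpe (K31.f390015 IH) (Lpr_cf (K31.f390010 IH) (Lpe (K31.f223582 IH) (Lpr_df (K31.f390965 IH) (Lpn (LP (LK LD1_c19 LD2_c20 LD3_c10))))))))))))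
theorem f244562 : Led Lsl_df (LP (LK LD1_c11 LD2_c9 LD3_c11)) = (LP (LK LD1_c15 LD2_c22 LD3_c60)) :=
  Lgr Lrot38 (Lpr_dt (K30.f244547 IH) (Lpn (LP (LK LD1_c15 LD2_c22 LD3_c60))))
theorem f388154 : Led Lsl_gf (LP (LK LD1_c19 LD2_c11 LD3_c57)) = (LP (LK LD1_c15 LD2_c22 LD3_c60)) :=
  Lgr Lrot147 (Lpr_ct (K31.f228431 IH) (Lpr_gt (K31.f286792 IH) (Lpe (K18.f256972 IH) (Lpe (K30.f244539 IH) (Lpe (K17.f244624 IH) (Lpr_gf (K31.f371466 IH) (Lpr_cf (K31.f388150 IH) (Lpe (K31.f179335 IH) (Lpr_df (f244562 IH) (Lpn (LP (LK LD1_c15 LD2_c22 LD3_c60))))))))))))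
theorem f388724 : Led Lsl_gt (LP (LK LD1_c20 LD2_c2 LD3_c44)) = (LP (LK LD1_c11 LD2_c9 LD3_c11)) :=
  Lgr Lrot94 (Lpr_cf (K31.f247321 IH) (Lpr_gt (K31.f213846 IH) (Lpe (K18.f295526 IH) (Lpr_gt (K31.f388718 IH) (Lpr_dt (K31.f388160 IH) (Lpe (K31.f52752 IH) (Lpr_df (K31.f387945 IH) (Lpr_gf (f388154 IH) (Lpe (K30.f244547 IH) (Lpn (LP (LK LD1_c11 LD2_c9 LD3_c11))))))))))))
theorem f218286 : Led Lsl_dt (LP (LK LD1_c10 LD2_c41 LD3_c16)) = (LP (LK LD1_c5 LD2_c25 LD3_c13)) :=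
  Lre_d IH (LK LD1_c10 LD2_c41 LD3_c16) (LK LD1_c5 LD2_c25 LD3_c13) Lrfl Lrfl
theorem f218295 : Led Lsl_gt (LP (LK LD1_c19 LD2_c20 LD3_c50)) = (LP (LK LD1_c10 LD2_c41 LD3_c16)) :=
  Lre_g IH (LK LD1_c19 LD2_c20 LD3_c50) (LK LD1_c10 LD2_c41 LD3_c16) Lrfl Lrfl
theorem f332121 : Led Lsl_dt (LP (LK LD1_c25 LD2_c14 LD3_c55)) = (LP (LK LD1_c19 LD2_c20 LD3_c50)) :=
  Lgr Lrot57 (Lpr_gf (K30.f244056 IH) (Lpe (K30.f244055 IH) (Lpe (K31.f286717 IH) (Lpr_dt (K31.f286779 IH) (Lpr_gt (K31.f332117 IH) (Lpe (K30.f331962 IH) (Lpr_cf (K12.f218241 IH) (Lpe (f218286 IH) (Lpe (f218295 IH) (Lpn (LP (LK LD1_c19 LD2_c20 LD3_c50))))))))))))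
theorem f332134 : Led Lsl_df (LP (LK LD1_c25 LD2_c14 LD3_c55)) = (LP (LK LD1_c19 LD2_c20 LD3_c50)) :=
  Lgr Lrot38 (Lpr_dt (f332121 IH) (Lpn (LP (LK LD1_c19 LD2_c20 LD3_c50))))
theorem f393884 : Led Lsl_gt (LP (LK LD1_c25 LD2_c50 LD3_c58)) = (LP (LK LD1_c19 LD2_c20 LD3_c50)) :=
  Lgr Lrot49 (Lpe (f286687 IH) (Lpr_gf (K31.f393880 IH) (Lpe (K31.f253211 IH) (Lpe (f393278 IH) (Lpr_dt (K31.f393227 IH) (Lpr_gt (f388724 IH) (Lpr_dt (K30.f244547 IH) (Lpe (K30.f244074 IH) (Lpr_df (f332134 IH) (Lpn (LP (LK LD1_c19 LD2_c20 LD3_c50))))))))))))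
theorem f393886 : Led Lsl_at (LP (LK LD1_c19 LD2_c20 LD3_c48)) = (LP (LK LD1_c10 LD2_c41 LD3_c16)) :=
  Lre_a IH (LK LD1_c19 LD2_c20 LD3_c48) (LK LD1_c10 LD2_c41 LD3_c16) Lrfl Lrfl
theorem f393887 : Led Lsl_ft (LP (LK LD1_c25 LD2_c50 LD3_c58)) = (LP (LK LD1_c19 LD2_c20 LD3_c48)) :=
  Lgr Lrot2 (Lpr_gt (f393884 IH) (Lpr_gt (f218295 IH) (Lpe (f393886 IH) (Lpn (LP (LK LD1_c19 LD2_c20 LD3_c48))))))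
theorem f393891 : Led Lsl_ff (LP (LK LD1_c25 LD2_c50 LD3_c58)) = (LP (LK LD1_c19 LD2_c20 LD3_c48)) :=
  Lgr Lrot3 (Lpr_ft (f393887 IH) (Lpn (LP (LK LD1_c19 LD2_c20 LD3_c48))))
theorem f332147 : Led Lsl_at (LP (LK LD1_c10 LD2_c41 LD3_c16)) = (LP (LK LD1_c19 LD2_c20 LD3_c48)) :=
  Lre_a IH (LK LD1_c10 LD2_c41 LD3_c16) (LK LD1_c19 LD2_c20 LD3_c48) Lrfl Lrfl
theorem f332146 : Led Lsl_ft (LP (LK LD1_c19 LD2_c20 LD3_c53)) = (LP (LK LD1_c10 LD2_c41 LD3_c16)) :=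
  Lre_f IH (LK LD1_c19 LD2_c20 LD3_c53) (LK LD1_c10 LD2_c41 LD3_c16) Lrfl Lrfl
theorem f393893 : Led Lsl_at (LP (LK LD1_c25 LD2_c50 LD3_c58)) = (LP (LK LD1_c19 LD2_c20 LD3_c53)) :=
  Lgr Lrot66 (Lpr_ff (f393891 IH) (Lpe (f332147 IH) (Lpe (f332146 IH) (Lpn (LP (LK LD1_c19 LD2_c20 LD3_c53))))))
theorem f389259 : Led Lsl_bt (LP (LK LD1_c19 LD2_c20 LD3_c53)) = (LP (LK LD1_c10 LD2_c41 LD3_c27)) :=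
  Lre_b IH (LK LD1_c19 LD2_c20 LD3_c53) (LK LD1_c10 LD2_c41 LD3_c27) Lrfl Lrfl
theorem f226251 : Led Lsl_at (LP (LK LD1_c10 LD2_c41 LD3_c27)) = (LP (LK LD1_c5 LD2_c25 LD3_c20)) :=
  Lre_a IH (LK LD1_c10 LD2_c41 LD3_c27) (LK LD1_c5 LD2_c25 LD3_c20) Lrfl Lrfl
theorem f384847 : Led Lsl_bt (LP (LK LD1_c5 LD2_c25 LD3_c20)) = (LP (LK LD1_c10 LD2_c41 LD3_c34)) :=
  Lre_b IH (LK LD1_c5 LD2_c25 LD3_c20) (LK LD1_c10 LD2_c41 LD3_c34) Lrfl Lrfl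
theorem f393896 : Led Lsl_at (LP (LK LD1_c10 LD2_c41 LD3_c34)) = (LP (LK LD1_c19 LD2_c21 LD3_c16)) :=
  Lre_a IH (LK LD1_c10 LD2_c41 LD3_c34) (LK LD1_c19 LD2_c21 LD3_c16) Lrfl Lrfl
theorem f393897 : Led Lsl_bf (LP (LK LD1_c25 LD2_c50 LD3_c58)) = (LP (LK LD1_c19 LD2_c21 LD3_c16)) :=
  Lgr Lrot81 (Lpr_at (f393893 IH) (Lpr_bt (f389259 IH) (Lpr_at (f226251 IH) (Lpr_bt (f384847 IH) (Lpr_at (f393896 IH) (Lpn (LP (LK LD1_c19 LD2_c21 LD3_c16))))))))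
theorem f286688 : Led Lsl_dt (LP (LK LD1_c25 LD2_c50 LD3_c58)) = (LP (LK LD1_c15 LD2_c54 LD3_c45)) :=
  Lre_d IH (LK LD1_c25 LD2_c50 LD3_c58) (LK LD1_c15 LD2_c54 LD3_c45) Lrfl Lrfl
theorem f331850 : Led Lsl_dt (LP (LK LD1_c10 LD2_c41 LD3_c33)) = (LP (LK LD1_c19 LD2_c21 LD3_c16)) :=
  Lre_d IH (LK LD1_c10 LD2_c41 LD3_c33) (LK LD1_c19 LD2_c21 LD3_c16) Lrfl Lrfl
theorem f393901 : Led Lsl_bt (LP (LK LD1_c15 LD2_c54 LD3_c45)) = (LP (LK LD1_c10 LD2_c41 LD3_c33)) :=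
  Lgr Lrot95 (Lpe (f286688 IH) (Lpr_bf (f393897 IH) (Lpe (f331850 IH) (Lpn (LP (LK LD1_c10 LD2_c41 LD3_c33))))))
theorem f39301 : Led Lsl_bt (LP (LK LD1_c4 LD2_c23 LD3_c36)) = (LP (LK LD1_c2 LD2_c9 LD3_c12)) :=
  Lre_b IH (LK LD1_c4 LD2_c23 LD3_c36) (LK LD1_c2 LD2_c9 LD3_c12) Lrfl Lrfl
theorem f181880 : Led Lsl_dt (LP (LK LD1_c16 LD2_c22 LD3_c43)) = (LP (LK LD1_c8 LD2_c44 LD3_c60)) :=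
  Lre_d IH (LK LD1_c16 LD2_c22 LD3_c43) (LK LD1_c8 LD2_c44 LD3_c60) Lrfl Lrfl
theorem f393906 : Led Lsl_gf (LP (LK LD1_c16 LD2_c22 LD3_c43)) = (LP (LK LD1_c10 LD2_c41 LD3_c33)) :=
  Lgr Lrot85 (Lpr_dt (f181880 IH) (Lpr_ct (K31.f181879 IH) (Lpr_bt (f39301 IH) (Lpr_gt (K13.f39191 IH) (Lpr_dt (K1.f38928 IH) (Lpr_ct (K1.f28950 IH) (Lpr_bt (K13.f29622 IH) (Lpr_gt (K9.f20212 IH) (Lpr_dt (K9.f20237 IH) (Lpr_ct (K9.f181794 IH) (Lpr_bt (K15.f224865 IH) (Lpr_gt (K13.f197267 IH) (Lpe (K15.f243660 IH) (Lpr_ct (K13.f196938 IH) (Lpr_bt (K18.f179413 IH) (Lpr_gt (K18.f179414 IH) (Lpe (K18.f286681 IH) (Lpr_ct (K30.f52743 IH) (Lpr_bt (f393901 IH) (Lpn (LP (LK LD1_c10 LD2_c41 LD3_c33))))))))))))))))))))))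
theorem f331852 : Led Lsl_ff (LP (LK LD1_c19 LD2_c19 LD3_c29)) = (LP (LK LD1_c10 LD2_c41 LD3_c33)) :=
  Lgr Lrot3 (Lpr_ft (K38.f331848 IH) (Lpn (LP (LK LD1_c10 LD2_c41 LD3_c33))))
theorem f331836 : Led Lsl_at (LP (LK LD1_c19 LD2_c19 LD3_c29)) = (LP (LK LD1_c10 LD2_c41 LD3_c11)) :=
  Lgr Lrot100 (Lpr_af (K22.f331834 IH) (Lpn (LP (LK LD1_c10 LD2_c41 LD3_c11))))
theorem f393910 : Led Lsl_gt (LP (LK LD1_c16 LD2_c22 LD3_c43)) = (LP (LK LD1_c10 LD2_c41 LD3_c11)) :=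
  Lgr Lrot46 (Lpr_gf (f393906 IH) (Lpe (f331852 IH) (Lpr_at (f331836 IH) (Lpn (LP (LK LD1_c10 LD2_c41 LD3_c11))))))
theorem f374579 : Led Lsl_cf (LP (LK LD1_c16 LD2_c22 LD3_c43)) = (LP (LK LD1_c10 LD2_c38 LD3_c44)) :=
  Lgr Lrot11 (Lpr_ct (K39.f374575 IH) (Lpn (LP (LK LD1_c10 LD2_c38 LD3_c44))))
theorem f330218 : Led Lsl_dt (LP (LK LD1_c18 LD2_c2 LD3_c47)) = (LP (LK LD1_c9 LD2_c51 LD3_c32)) :=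
  Lre_d IH (LK LD1_c18 LD2_c2 LD3_c47) (LK LD1_c9 LD2_c51 LD3_c32) Lrfl Lrfl
theorem f338199 : Led Lsl_dt (LP (LK LD1_c9 LD2_c42 LD3_c49)) = (LP (LK LD1_c17 LD2_c51 LD3_c51)) :=
  Lre_d IH (LK LD1_c9 LD2_c42 LD3_c49) (LK LD1_c17 LD2_c51 LD3_c51) Lrfl Lrfl
theorem f346070 : Led Lsl_ff (LP (LK LD1_c18 LD2_c2 LD3_c47)) = (LP (LK LD1_c17 LD2_c51 LD3_c51)) :=
  Lgr Lrot19 (Lpr_dt (f330218 IH) (Lpr_ft (K25.f346063 IH) (Lpr_dt (f338199 IH) (Lpn (LP (LK LD1_c17 LD2_c51 LD3_c51))))))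
theorem f346077 : Led Lsl_at (LP (LK LD1_c18 LD2_c2 LD3_c47)) = (LP (LK LD1_c27 LD2_c44 LD3_c31)) :=
  Lre_a IH (LK LD1_c18 LD2_c2 LD3_c47) (LK LD1_c27 LD2_c44 LD3_c31) Lrfl Lrfl
theorem f338101 : Led Lsl_at (LP (LK LD1_c27 LD2_c38 LD3_c24)) = (LP (LK LD1_c17 LD2_c51 LD3_c51)) :=
  Lre_a IH (LK LD1_c27 LD2_c38 LD3_c24) (LK LD1_c17 LD2_c51 LD3_c51) Lrfl Lrfl
theorem f346078 : Led Lsl_ft (LP (LK LD1_c27 LD2_c44 LD3_c31)) = (LP (LK LD1_c27 LD2_c38 LD3_c24)) :=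
  Lgr Lrot101 (Lpe (f346077 IH) (Lpr_ff (f346070 IH) (Lpe (f338101 IH) (Lpn (LP (LK LD1_c27 LD2_c38 LD3_c24))))))
theorem f346083 : Led Lsl_ff (LP (LK LD1_c27 LD2_c44 LD3_c31)) = (LP (LK LD1_c27 LD2_c38 LD3_c24)) :=
  Lgr Lrot3 (Lpr_ft (f346078 IH) (Lpn (LP (LK LD1_c27 LD2_c38 LD3_c24))))
theorem f331710 : Led Lsl_ct (LP (LK LD1_c17 LD2_c51 LD3_c47)) = (LP (LK LD1_c9 LD2_c42 LD3_c48)) :=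
  Lre_c IH (LK LD1_c17 LD2_c51 LD3_c47) (LK LD1_c9 LD2_c42 LD3_c48) Lrfl Lrfl
theorem f338077 : Led Lsl_bt (LP (LK LD1_c18 LD2_c2 LD3_c41)) = (LP (LK LD1_c17 LD2_c51 LD3_c47)) :=
  Lgr Lrot128 (Lpr_cf (K22.f235182 IH) (Lpr_bf (K22.f318284 IH) (Lpe (K38.f331721 IH) (Lpr_bf (K27.f338075 IH) (Lpe (f331710 IH) (Lpn (LP (LK LD1_c17 LD2_c51 LD3_c47))))))))
theorem f338093 : Led Lsl_dt (LP (LK LD1_c17 LD2_c51 LD3_c47)) = (LP (LK LD1_c27 LD2_c38 LD3_c24)) :=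
  Lre_d IH (LK LD1_c17 LD2_c51 LD3_c47) (LK LD1_c27 LD2_c38 LD3_c24) Lrfl Lrfl
theorem f338094 : Led Lsl_bf (LP (LK LD1_c27 LD2_c44 LD3_c27)) = (LP (LK LD1_c27 LD2_c38 LD3_c24)) :=
  Lgr Lrot93 (Lpr_dt (K38.f235184 IH) (Lpr_bt (f338077 IH) (Lpr_dt (f338093 IH) (Lpn (LP (LK LD1_c27 LD2_c38 LD3_c24))))))
theorem f338098 : Led Lsl_bt (LP (LK LD1_c27 LD2_c44 LD3_c27)) = (LP (LK LD1_c27 LD2_c38 LD3_c24)) :=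
  Lgr Lrot127 (Lpr_bf (f338094 IH) (Lpn (LP (LK LD1_c27 LD2_c38 LD3_c24))))
theorem f338131 : Led Lsl_ft (LP (LK LD1_c19 LD2_c18 LD3_c23)) = (LP (LK LD1_c27 LD2_c44 LD3_c27)) :=
  Lgr Lrot4 (Lpe (K22.f338130 IH) (Lpr_ff (K22.f338125 IH) (Lpe (K22.f235192 IH) (Lpn (LP (LK LD1_c27 LD2_c44 LD3_c27))))))
theorem f346088 : Led Lsl_bt (LP (LK LD1_c27 LD2_c44 LD3_c31)) = (LP (LK LD1_c19 LD2_c18 LD3_c23)) :=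
  Lgr Lrot35 (Lpr_ff (f346083 IH) (Lpe (f338098 IH) (Lpe (f338131 IH) (Lpn (LP (LK LD1_c19 LD2_c18 LD3_c23))))))
theorem f346082 : Led Lsl_dt (LP (LK LD1_c18 LD2_c2 LD3_c46)) = (LP (LK LD1_c27 LD2_c44 LD3_c31)) :=
  Lre_d IH (LK LD1_c18 LD2_c2 LD3_c46) (LK LD1_c27 LD2_c44 LD3_c31) Lrfl Lrfl
theorem f331656 : Led Lsl_dt (LP (LK LD1_c19 LD2_c18 LD3_c23)) = (LP (LK LD1_c10 LD2_c39 LD3_c42)) :=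
  Lre_d IH (LK LD1_c19 LD2_c18 LD3_c23) (LK LD1_c10 LD2_c39 LD3_c42) Lrfl Lrfl
theorem f346092 : Led Lsl_bf (LP (LK LD1_c18 LD2_c2 LD3_c46)) = (LP (LK LD1_c10 LD2_c39 LD3_c42)) :=
  Lgr Lrot93 (Lpr_dt (f346082 IH) (Lpr_bt (f346088 IH) (Lpr_dt (f331656 IH) (Lpn (LP (LK LD1_c10 LD2_c39 LD3_c42))))))
theorem f331657 : Led Lsl_ct (LP (LK LD1_c5 LD2_c24 LD3_c38)) = (LP (LK LD1_c10 LD2_c39 LD3_c42)) :=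
  Lre_c IH (LK LD1_c5 LD2_c24 LD3_c38) (LK LD1_c10 LD2_c39 LD3_c42) Lrfl Lrfl
theorem f42178 : Led Lsl_bt (LP (LK LD1_c2 LD2_c37 LD3_c3)) = (LP (LK LD1_c5 LD2_c20 LD3_c50)) :=
  Lre_b IH (LK LD1_c2 LD2_c37 LD3_c3) (LK LD1_c5 LD2_c20 LD3_c50) Lrfl Lrfl
theorem f168719 : Led Lsl_at (LP (LK LD1_c5 LD2_c20 LD3_c50)) = (LP (LK LD1_c10 LD2_c31 LD3_c46)) :=
  Lre_a IH (LK LD1_c5 LD2_c20 LD3_c50) (LK LD1_c10 LD2_c31 LD3_c46) Lrfl Lrfl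
theorem f217662 : Led Lsl_bt (LP (LK LD1_c2 LD2_c38 LD3_c51)) = (LP (LK LD1_c1 LD2_c16 LD3_c17)) :=
  Lre_b IH (LK LD1_c2 LD2_c38 LD3_c51) (LK LD1_c1 LD2_c16 LD3_c17) Lrfl Lrfl
theorem f318248 : Led Lsl_bt (LP (LK LD1_c10 LD2_c31 LD3_c46)) = (LP (LK LD1_c5 LD2_c24 LD3_c38)) :=
  Lgr Lrot62 (Lpe (f168719 IH) (Lpe (f42178 IH) (Lpr_af (K20.f318238 IH) (Lpe (f217662 IH) (Lpe (K22.f318247 IH) (Lpn (LP (LK LD1_c5 LD2_c24 LD3_c38))))))))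
theorem f346095 : Led Lsl_ct (LP (LK LD1_c18 LD2_c2 LD3_c46)) = (LP (LK LD1_c17 LD2_c48 LD3_c28)) :=
  Lgr Lrot83 (Lpr_bf (f346092 IH) (Lpe (f331657 IH) (Lpe (f318248 IH) (Lpe (K22.f168703 IH) (Lpe (K22.f331583 IH) (Lpn (LP (LK LD1_c17 LD2_c48 LD3_c28))))))))
theorem f346097 : Led Lsl_cf (LP (LK LD1_c18 LD2_c2 LD3_c46)) = (LP (LK LD1_c17 LD2_c48 LD3_c28)) :=
  Lgr Lrot11 (Lpr_ct (f346095 IH) (Lpn (LP (LK LD1_c17 LD2_c48 LD3_c28))))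
theorem f225192 : Led Lsl_gt (LP (LK LD1_c4 LD2_c30 LD3_c13)) = (LP (LK LD1_c2 LD2_c12 LD3_c7)) :=
  Lre_g IH (LK LD1_c4 LD2_c30 LD3_c13) (LK LD1_c2 LD2_c12 LD3_c7) Lrfl Lrfl
theorem f388283 : Led Lsl_ct (LP (LK LD1_c8 LD2_c58 LD3_c38)) = (LP (LK LD1_c4 LD2_c30 LD3_c13)) :=
  Lre_c IH (LK LD1_c8 LD2_c58 LD3_c38) (LK LD1_c4 LD2_c30 LD3_c13) Lrfl Lrfl
theorem f389419 : Led Lsl_bt (LP (LK LD1_c8 LD2_c58 LD3_c38)) = (LP (LK LD1_c16 LD2_c47 LD3_c44)) :=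
  Lre_b IH (LK LD1_c8 LD2_c58 LD3_c38) (LK LD1_c16 LD2_c47 LD3_c44) Lrfl Lrfl
theorem f389420 : Led Lsl_gt (LP (LK LD1_c9 LD2_c42 LD3_c49)) = (LP (LK LD1_c16 LD2_c47 LD3_c44)) :=
  Lgr Lrot164 (Lpe (K25.f346050 IH) (Lpr_ct (K13.f213447 IH) (Lpe (K12.f48129 IH) (Lpe (K12.f31169 IH) (Lpr_gf (K13.f235208 IH) (Lpr_bf (K38.f389411 IH) (Lpr_ct (K38.f225180 IH) (Lpe (f225192 IH) (Lpe (f388283 IH) (Lpr_bt (f389419 IH) (Lpn (LP (LK LD1_c16 LD2_c47 LD3_c44)))))))))))))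
theorem f345299 : Led Lsl_at (LP (LK LD1_c9 LD2_c51 LD3_c32)) = (LP (LK LD1_c18 LD2_c2 LD3_c46)) :=
  Lre_a IH (LK LD1_c9 LD2_c51 LD3_c32) (LK LD1_c18 LD2_c2 LD3_c46) Lrfl Lrfl
theorem f389422 : Led Lsl_gf (LP (LK LD1_c18 LD2_c2 LD3_c46)) = (LP (LK LD1_c16 LD2_c47 LD3_c44)) :=
  Lgr Lrot76 (Lpe (f345299 IH) (Lpr_ff (K25.f346055 IH) (Lpr_gt (f389420 IH) (Lpn (LP (LK LD1_c16 LD2_c47 LD3_c44))))))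
theorem f225190 : Led Lsl_gt (LP (LK LD1_c4 LD2_c56 LD3_c13)) = (LP (LK LD1_c9 LD2_c44 LD3_c5)) :=
  Lre_g IH (LK LD1_c4 LD2_c56 LD3_c13) (LK LD1_c9 LD2_c44 LD3_c5) Lrfl Lrfl
theorem f332246 : Led Lsl_bt (LP (LK LD1_c17 LD2_c53 LD3_c26)) = (LP (LK LD1_c9 LD2_c44 LD3_c5)) :=
  Lre_b IH (LK LD1_c17 LD2_c53 LD3_c26) (LK LD1_c9 LD2_c44 LD3_c5) Lrfl Lrfl
theorem f393914 : Led Lsl_cf (LP (LK LD1_c16 LD2_c47 LD3_c44)) = (LP (LK LD1_c17 LD2_c53 LD3_c26)) :=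
  Lgr Lrot160 (Lpe (f389422 IH) (Lpr_cf (f346097 IH) (Lpr_bt (K22.f331583 IH) (Lpr_gt (K39.f331736 IH) (Lpe (f374579 IH) (Lpr_gt (f393910 IH) (Lpr_cf (K22.f332238 IH) (Lpr_bt (K22.f332221 IH) (Lpr_gt (f225190 IH) (Lpe (f332246 IH) (Lpn (LP (LK LD1_c17 LD2_c53 LD3_c26)))))))))))))
theorem f41154 : Led Lsl_ct (LP (LK LD1_c4 LD2_c55 LD3_c34)) = (LP (LK LD1_c9 LD2_c42 LD3_c49)) :=
  Lre_c IH (LK LD1_c4 LD2_c55 LD3_c34) (LK LD1_c9 LD2_c42 LD3_c49) Lrfl Lrfl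
theorem f393920 : Led Lsl_gf (LP (LK LD1_c4 LD2_c56 LD3_c18)) = (LP (LK LD1_c9 LD2_c44 LD3_c5)) :=
  Lgr Lrot181 (Lpr_ct (K20.f217439 IH) (Lpr_gt (K20.f168805 IH) (Lpe (K20.f55371 IH) (Lpr_bt (K20.f168731 IH) (Lpr_gt (K20.f55169 IH) (Lpe (K22.f41153 IH) (Lpr_ct (f41154 IH) (Lpr_gt (f389420 IH) (Lpr_cf (f393914 IH) (Lpr_bt (f332246 IH) (Lpn (LP (LK LD1_c9 LD2_c44 LD3_c5)))))))))))))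
theorem f218660 : Led Lsl_gt (LP (LK LD1_c9 LD2_c42 LD3_c47)) = (LP (LK LD1_c4 LD2_c55 LD3_c34)) :=
  Lre_g IH (LK LD1_c9 LD2_c42 LD3_c47) (LK LD1_c4 LD2_c55 LD3_c34) Lrfl Lrfl
theorem f218661 : Led Lsl_bt (LP (LK LD1_c17 LD2_c51 LD3_c44)) = (LP (LK LD1_c9 LD2_c42 LD3_c47)) :=
  Lre_b IH (LK LD1_c17 LD2_c51 LD3_c44) (LK LD1_c9 LD2_c42 LD3_c47) Lrfl Lrfl
theorem f404342 : Led Lsl_cf (LP (LK LD1_c25 LD2_c10 LD3_c27)) = (LP (LK LD1_c17 LD2_c51 LD3_c44)) :=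
  Lgr Lrot58 (Lpr_gf (f404340 IH) (Lpe (K22.f318379 IH) (Lpr_bt (K22.f332206 IH) (Lpr_gf (f393920 IH) (Lpe (f332246 IH) (Lpe (f393914 IH) (Lpe (f389420 IH) (Lpe (f41154 IH) (Lpe (f218660 IH) (Lpe (f218661 IH) (Lpn (LP (LK LD1_c17 LD2_c51 LD3_c44)))))))))))))
theorem f404336 : Led Lsl_dt (LP (LK LD1_c25 LD2_c10 LD3_c27)) = (LP (LK LD1_c16 LD2_c47 LD3_c13)) :=
  Lgr Lrot42 (Lpr_df (f404309 IH) (Lpn (LP (LK LD1_c16 LD2_c47 LD3_c13))))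
theorem f52481 : Led Lsl_at (LP (LK LD1_c8 LD2_c3 LD3_c5)) = (LP (LK LD1_c4 LD2_c1 LD3_c9)) :=
  Lre_a IH (LK LD1_c8 LD2_c3 LD3_c5) (LK LD1_c4 LD2_c1 LD3_c9) Lrfl Lrfl
theorem f52490 : Led Lsl_gt (LP (LK LD1_c8 LD2_c9 LD3_c16)) = (LP (LK LD1_c8 LD2_c3 LD3_c4)) :=
  Lgr Lrot5 (Lpr_ft (K10.f52461 IH) (Lpr_at (f52481 IH) (Lpe (K31.f52489 IH) (Lpn (LP (LK LD1_c8 LD2_c3 LD3_c4))))))
theorem f52492 : Led Lsl_ct (LP (LK LD1_c8 LD2_c3 LD3_c4)) = (LP (LK LD1_c15 LD2_c9 LD3_c34)) :=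
  Lre_c IH (LK LD1_c8 LD2_c3 LD3_c4) (LK LD1_c15 LD2_c9 LD3_c34) Lrfl Lrfl
theorem f404348 : Led Lsl_gt (LP (LK LD1_c15 LD2_c9 LD3_c34)) = (LP (LK LD1_c17 LD2_c51 LD3_c44)) :=
  Lgr Lrot150 (Lpe (f52492 IH) (Lpe (f52490 IH) (Lpe (K10.f52485 IH) (Lpe (K31.f393353 IH) (Lpr_ct (K31.f393315 IH) (Lpr_gt (K31.f393356 IH) (Lpe (K31.f168123 IH) (Lpe (f404336 IH) (Lpr_cf (f404342 IH) (Lpn (LP (LK LD1_c17 LD2_c51 LD3_c44))))))))))))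
theorem f391051 : Led Lsl_ct (LP (LK LD1_c17 LD2_c48 LD3_c36)) = (LP (LK LD1_c27 LD2_c35 LD3_c46)) :=
  Lre_c IH (LK LD1_c17 LD2_c48 LD3_c36) (LK LD1_c27 LD2_c35 LD3_c46) Lrfl Lrfl
theorem f391052 : Led Lsl_bt (LP (LK LD1_c15 LD2_c9 LD3_c34)) = (LP (LK LD1_c17 LD2_c48 LD3_c36)) :=
  Lgr Lrot128 (Lpe (f52492 IH) (Lpe (K31.f52501 IH) (Lpe (K31.f52547 IH) (Lpr_bf (K31.f391048 IH) (Lpe (f391051 IH) (Lpn (LP (LK LD1_c17 LD2_c48 LD3_c36))))))))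
theorem f391097 : Led Lsl_bf (LP (LK LD1_c15 LD2_c9 LD3_c34)) = (LP (LK LD1_c17 LD2_c48 LD3_c36)) :=
  Lgr Lrot24 (Lpr_bt (f391052 IH) (Lpn (LP (LK LD1_c17 LD2_c48 LD3_c36))))
theorem f238413 : Led Lsl_bt (LP (LK LD1_c10 LD2_c58 LD3_c55)) = (LP (LK LD1_c19 LD2_c49 LD3_c20)) :=
  Lre_b IH (LK LD1_c10 LD2_c58 LD3_c55) (LK LD1_c19 LD2_c49 LD3_c20) Lrfl Lrfl
theorem f41173 : Led Lsl_at (LP (LK LD1_c9 LD2_c40 LD3_c56)) = (LP (LK LD1_c4 LD2_c54 LD3_c39)) :=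
  Lre_a IH (LK LD1_c9 LD2_c40 LD3_c56) (LK LD1_c4 LD2_c54 LD3_c39) Lrfl Lrfl
theorem f41196 : Led Lsl_ct (LP (LK LD1_c15 LD2_c1 LD3_c9)) = (LP (LK LD1_c9 LD2_c40 LD3_c56)) :=
  Lgr Lrot111 (Lpe (K1.f41195 IH) (Lpr_cf (K1.f41167 IH) (Lpe (f41173 IH) (Lpn (LP (LK LD1_c9 LD2_c40 LD3_c56))))))
theorem f392399 : Led Lsl_gt (LP (LK LD1_c17 LD2_c48 LD3_c36)) = (LP (LK LD1_c9 LD2_c40 LD3_c56)) :=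
  Lgr Lrot65 (Lpe (K31.f391054 IH) (Lpe (K31.f391048 IH) (Lpe (K31.f238383 IH) (Lpe (f238413 IH) (Lpr_ct (K38.f238392 IH) (Lpr_gf (K31.f392389 IH) (Lpe (K20.f174081 IH) (Lpr_gf (K9.f174074 IH) (Lpe (K1.f54745 IH) (Lpr_ct (f41196 IH) (Lpn (LP (LK LD1_c9 LD2_c40 LD3_c56)))))))))))))
theorem f174086 : Led Lsl_bt (LP (LK LD1_c10 LD2_c59 LD3_c42)) = (LP (LK LD1_c5 LD2_c33 LD3_c52)) :=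
  Lre_b IH (LK LD1_c10 LD2_c59 LD3_c42) (LK LD1_c5 LD2_c33 LD3_c52) Lrfl Lrfl
theorem f174087 : Led Lsl_ct (LP (LK LD1_c10 LD2_c59 LD3_c42)) = (LP (LK LD1_c5 LD2_c33 LD3_c58)) :=
  Lre_c IH (LK LD1_c10 LD2_c59 LD3_c42) (LK LD1_c5 LD2_c33 LD3_c58) Lrfl Lrfl
theorem f174089 : Led Lsl_ct (LP (LK LD1_c10 LD2_c40 LD3_c55)) = (LP (LK LD1_c10 LD2_c39 LD3_c4)) :=
  Lre_c IH (LK LD1_c10 LD2_c40 LD3_c55) (LK LD1_c10 LD2_c39 LD3_c4) Lrfl Lrfl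
theorem f174090 : Led Lsl_bt (LP (LK LD1_c10 LD2_c40 LD3_c55)) = (LP (LK LD1_c19 LD2_c20 LD3_c18)) :=
  Lre_b IH (LK LD1_c10 LD2_c40 LD3_c55) (LK LD1_c19 LD2_c20 LD3_c18) Lrfl Lrfl
theorem f392407 : Led Lsl_gf (LP (LK LD1_c27 LD2_c35 LD3_c46)) = (LP (LK LD1_c19 LD2_c20 LD3_c18)) :=
  Lgr Lrot181 (Lpr_ct (K31.f391054 IH) (Lpr_gt (f392399 IH) (Lpe (f41196 IH) (Lpr_bt (K1.f54745 IH) (Lpe (K9.f174074 IH) (Lpe (f174086 IH) (Lpr_ct (f174087 IH) (Lpr_gt (K14.f174088 IH) (Lpe (f174089 IH) (Lpr_bt (f174090 IH) (Lpn (LP (LK LD1_c19 LD2_c20 LD3_c18)))))))))))))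
theorem f173140 : Led Lsl_ct (LP (LK LD1_c19 LD2_c17 LD3_c36)) = (LP (LK LD1_c19 LD2_c20 LD3_c18)) :=
  Lre_c IH (LK LD1_c19 LD2_c17 LD3_c36) (LK LD1_c19 LD2_c20 LD3_c18) Lrfl Lrfl
theorem f392423 : Led Lsl_bt (LP (LK LD1_c19 LD2_c17 LD3_c36)) = (LP (LK LD1_c10 LD2_c39 LD3_c5)) :=
  Lre_b IH (LK LD1_c19 LD2_c17 LD3_c36) (LK LD1_c10 LD2_c39 LD3_c5) Lrfl Lrfl
theorem f404350 : Led Lsl_gt (LP (LK LD1_c17 LD2_c53 LD3_c28)) = (LP (LK LD1_c10 LD2_c39 LD3_c5)) :=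
  Lgr Lrot164 (Lpe (K22.f332223 IH) (Lpe (K22.f200768 IH) (Lpe (f404338 IH) (Lpr_cf (f404342 IH) (Lpe (f404348 IH) (Lpr_bf (f391097 IH) (Lpr_ct (f391051 IH) (Lpr_gf (f392407 IH) (Lpe (f173140 IH) (Lpr_bt (f392423 IH) (Lpn (LP (LK LD1_c10 LD2_c39 LD3_c5)))))))))))))
theorem f226121 : Led Lsl_cf (LP (LK LD1_c10 LD2_c55 LD3_c3)) = (LP (LK LD1_c10 LD2_c59 LD3_c19)) :=
  Lgr Lrot11 (Lpr_ct (K22.f226033 IH) (Lpn (LP (LK LD1_c10 LD2_c59 LD3_c19))))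
theorem f388354 : Led Lsl_df (LP (LK LD1_c5 LD2_c33 LD3_c38)) = (LP (LK LD1_c4 LD2_c30 LD3_c55)) :=
  Lgr Lrot155 (Lpe (K22.f319786 IH) (Lpr_ct (K22.f319790 IH) (Lpr_gt (K22.f319791 IH) (Lpe (f226121 IH) (Lpr_dt (K30.f388343 IH) (Lpr_cf (K30.f319156 IH) (Lpr_gf (K30.f385083 IH) (Lpe (K30.f179484 IH) (Lpr_gf (K30.f386380 IH) (Lpn (LP (LK LD1_c4 LD2_c30 LD3_c55))))))))))))
theorem f388358 : Led Lsl_dt (LP (LK LD1_c5 LD2_c33 LD3_c38)) = (LP (LK LD1_c4 LD2_c30 LD3_c55)) :=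
  Lgr Lrot42 (Lpr_df (f388354 IH) (Lpn (LP (LK LD1_c4 LD2_c30 LD3_c55))))
theorem f397368 : Led Lsl_dt (LP (LK LD1_c10 LD2_c39 LD3_c5)) = (LP (LK LD1_c19 LD2_c17 LD3_c37)) :=
  Lre_d IH (LK LD1_c10 LD2_c39 LD3_c5) (LK LD1_c19 LD2_c17 LD3_c37) Lrfl Lrfl
theorem f404352 : Led Lsl_cf (LP (LK LD1_c14 LD2_c58 LD3_c46)) = (LP (LK LD1_c19 LD2_c17 LD3_c37)) :=
  Lgr Lrot89 (Lpr_bt (f172306 IH) (Lpr_gt (f172305 IH) (Lpr_dt (K39.f172304 IH) (Lpr_ct (K39.f172303 IH) (Lpr_bt (K9.f40139 IH) (Lpr_gt (K9.f172291 IH) (Lpr_dt (K9.f171300 IH) (Lpe (K39.f226008 IH) (Lpr_bt (K22.f225694 IH) (Lpr_gt (K22.f225695 IH) (Lpr_dt (f388358 IH) (Lpr_ct (K30.f174001 IH) (Lpr_bt (K31.f225320 IH) (Lpe (K31.f319213 IH) (Lpr_dt (K30.f297474 IH) (Lpr_ct (K11.f200760 IH) (Lpr_bt (K22.f332223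 IH) (Lpr_gt (f404350 IH) (Lpr_dt (f397368 IH) (Lpn (LP (LK LD1_c19 LD2_c17 LD3_c37))))))))))))))))))))))
theorem f173141 : Led Lsl_ct (LP (LK LD1_c5 LD2_c24 LD3_c10)) = (LP (LK LD1_c10 LD2_c39 LD3_c5)) :=
  Lre_c IH (LK LD1_c5 LD2_c24 LD3_c10) (LK LD1_c10 LD2_c39 LD3_c5) Lrfl Lrfl
theorem f217681 : Led Lsl_bt (LP (LK LD1_c2 LD2_c38 LD3_c1)) = (LP (LK LD1_c5 LD2_c23 LD3_c2)) :=
  Lre_b IH (LK LD1_c2 LD2_c38 LD3_c1) (LK LD1_c5 LD2_c23 LD3_c2) Lrfl Lrfl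
theorem f303189 : Led Lsl_ft (LP (LK LD1_c5 LD2_c23 LD3_c2)) = (LP (LK LD1_c10 LD2_c31 LD3_c17)) :=
  Lgr Lrot75 (Lpe (f217681 IH) (Lpr_ff (K18.f303187 IH) (Lpe (f224573 IH) (Lpn (LP (LK LD1_c10 LD2_c31 LD3_c17))))))
theorem f400069 : Led Lsl_at (LP (LK LD1_c10 LD2_c31 LD3_c17)) = (LP (LK LD1_c16 LD2_c21 LD3_c25)) :=
  Lgr Lrot66 (Lpe (f303189 IH) (Lpe (f303201 IH) (Lpr_ff (f400066 IH) (Lpn (LP (LK LD1_c16 LD2_c21 LD3_c25))))))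
theorem f217685 : Led Lsl_gt (LP (LK LD1_c5 LD2_c23 LD3_c2)) = (LP (LK LD1_c10 LD2_c36 LD3_c31)) :=
  Lre_g IH (LK LD1_c5 LD2_c23 LD3_c2) (LK LD1_c10 LD2_c36 LD3_c31) Lrfl Lrfl
theorem f400111 : Led Lsl_gt (LP (LK LD1_c10 LD2_c36 LD3_c31)) = (LP (LK LD1_c16 LD2_c21 LD3_c25)) :=
  Lgr Lrot46 (Lpe (f217685 IH) (Lpr_ft (f303189 IH) (Lpr_at (f400069 IH) (Lpn (LP (LK LD1_c16 LD2_c21 LD3_c25))))))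
theorem f375057 : Led Lsl_gt (LP (LK LD1_c15 LD2_c2 LD3_c6)) = (LP (LK LD1_c10 LD2_c40 LD3_c55)) :=
  Lgr Lrot5 (Lpr_ft (K31.f370177 IH) (Lpr_at (K31.f224011 IH) (Lpe (K14.f246518 IH) (Lpn (LP (LK LD1_c10 LD2_c40 LD3_c55))))))
theorem f373283 : Led Lsl_et (LP (LK LD1_c10 LD2_c40 LD3_c26)) = (LP (LK LD1_c19 LD2_c19 LD3_c43)) :=
  Lre_e IH (LK LD1_c10 LD2_c40 LD3_c26) (LK LD1_c19 LD2_c19 LD3_c43) Lrfl Lrfl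
theorem f373284 : Led Lsl_bf (LP (LK LD1_c25 LD2_c4 LD3_c40)) = (LP (LK LD1_c19 LD2_c19 LD3_c43)) :=
  Lgr Lrot96 (Lpr_et (K31.f196519 IH) (Lpr_bt (K27.f373276 IH) (Lpr_et (f373283 IH) (Lpn (LP (LK LD1_c19 LD2_c19 LD3_c43))))))
theorem f196493 : Led Lsl_at (LP (LK LD1_c15 LD2_c15 LD3_c29)) = (LP (LK LD1_c25 LD2_c4 LD3_c40)) :=
  Lre_a IH (LK LD1_c15 LD2_c15 LD3_c29) (LK LD1_c25 LD2_c4 LD3_c40) Lrfl Lrfl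
theorem f196495 : Led Lsl_ct (LP (LK LD1_c25 LD2_c4 LD3_c40)) = (LP (LK LD1_c31 LD2_c39 LD3_c44)) :=
  Lgr Lrot111 (Lpe (f196493 IH) (Lpr_cf (K13.f196485 IH) (Lpe (K27.f196494 IH) (Lpn (LP (LK LD1_c31 LD2_c39 LD3_c44))))))
theorem f167988 : Led Lsl_at (LP (LK LD1_c19 LD2_c4 LD3_c53)) = (LP (LK LD1_c10 LD2_c31 LD3_c59)) :=
  Lre_a IH (LK LD1_c19 LD2_c4 LD3_c53) (LK LD1_c10 LD2_c31 LD3_c59) Lrfl Lrfl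
theorem f167989 : Led Lsl_ct (LP (LK LD1_c24 LD2_c50 LD3_c38)) = (LP (LK LD1_c19 LD2_c4 LD3_c53)) :=
  Lgr Lrot111 (Lpe (K27.f167987 IH) (Lpr_cf (K27.f167980 IH) (Lpe (f167988 IH) (Lpn (LP (LK LD1_c19 LD2_c4 LD3_c53))))))
theorem f373289 : Led Lsl_ct (LP (LK LD1_c10 LD2_c40 LD3_c28)) = (LP (LK LD1_c19 LD2_c19 LD3_c43)) :=
  Lre_c IH (LK LD1_c10 LD2_c40 LD3_c28) (LK LD1_c19 LD2_c19 LD3_c43) Lrfl Lrfl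
theorem f373290 : Led Lsl_bt (LP (LK LD1_c19 LD2_c4 LD3_c53)) = (LP (LK LD1_c10 LD2_c40 LD3_c28)) :=
  Lgr Lrot128 (Lpe (f167989 IH) (Lpe (K27.f373271 IH) (Lpe (f196495 IH) (Lpr_bf (f373284 IH) (Lpe (f373289 IH) (Lpn (LP (LK LD1_c10 LD2_c40 LD3_c28))))))))
theorem f373294 : Led Lsl_bf (LP (LK LD1_c19 LD2_c4 LD3_c53)) = (LP (LK LD1_c10 LD2_c40 LD3_c28)) :=
  Lgr Lrot24 (Lpr_bt (f373290 IH) (Lpn (LP (LK LD1_c10 LD2_c40 LD3_c28))))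
theorem f168028 : Led Lsl_et (LP (LK LD1_c19 LD2_c4 LD3_c53)) = (LP (LK LD1_c10 LD2_c31 LD3_c57)) :=
  Lre_e IH (LK LD1_c19 LD2_c4 LD3_c53) (LK LD1_c10 LD2_c31 LD3_c57) Lrfl Lrfl
theorem f373301 : Led Lsl_et (LP (LK LD1_c5 LD2_c24 LD3_c53)) = (LP (LK LD1_c10 LD2_c40 LD3_c28)) :=
  Lre_e IH (LK LD1_c5 LD2_c24 LD3_c53) (LK LD1_c10 LD2_c40 LD3_c28) Lrfl Lrfl
theorem f373302 : Led Lsl_bt (LP (LK LD1_c10 LD2_c31 LD3_c57)) = (LP (LK LD1_c5 LD2_c24 LD3_c53)) :=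
  Lgr Lrot119 (Lpe (f168028 IH) (Lpr_bf (f373294 IH) (Lpe (f373301 IH) (Lpn (LP (LK LD1_c5 LD2_c24 LD3_c53))))))
theorem f374647 : Led Lsl_gf (LP (LK LD1_c5 LD2_c24 LD3_c53)) = (LP (LK LD1_c10 LD2_c31 LD3_c61)) :=
  Lgr Lrot47 (Lpr_gt (K31.f374645 IH) (Lpe (K27.f373730 IH) (Lpr_ff (K39.f374539 IH) (Lpn (LP (LK LD1_c10 LD2_c31 LD3_c61))))))
theorem f375060 : Led Lsl_bt (LP (LK LD1_c10 LD2_c39 LD3_c4)) = (LP (LK LD1_c5 LD2_c24 LD3_c10)) :=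
  Lre_b IH (LK LD1_c10 LD2_c39 LD3_c4) (LK LD1_c5 LD2_c24 LD3_c10) Lrfl Lrfl
theorem f375061 : Led Lsl_gf (LP (LK LD1_c10 LD2_c31 LD3_c46)) = (LP (LK LD1_c5 LD2_c24 LD3_c10)) :=
  Lgr Lrot181 (Lpe (f168715 IH) (Lpr_gt (K39.f331736 IH) (Lpe (K39.f374575 IH) (Lpr_bt (K39.f374552 IH) (Lpe (f374647 IH) (Lpe (f373302 IH) (Lpe (K27.f168002 IH) (Lpr_gt (f375057 IH) (Lpe (K14.f246519 IH) (Lpr_bt (f375060 IH) (Lpn (LP (LK LD1_c5 LD2_c24 LD3_c10)))))))))))))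
theorem f400115 : Led Lsl_dt (LP (LK LD1_c10 LD2_c36 LD3_c31)) = (LP (LK LD1_c5 LD2_c24 LD3_c10)) :=
  Lgr Lrot6 (Lpr_gt (f400111 IH) (Lpr_ct (f400046 IH) (Lpe (f400043 IH) (Lpr_ct (K18.f39302 IH) (Lpe (f181880 IH) (Lpr_cf (f374579 IH) (Lpe (K39.f331736 IH) (Lpr_cf (f168715 IH) (Lpr_gf (f375061 IH) (Lpn (LP (LK LD1_c5 LD2_c24 LD3_c10))))))))))))
theorem f556837 : Led Lsl_ct (LP (LK LD1_c12 LD2_c8 LD3_c44)) = (LP (LK LD1_c10 LD2_c36 LD3_c31)) :=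
  Lgr Lrot41 (Lpe (f410586 IH) (Lpe (K39.f410591 IH) (Lpe (K39.f410573 IH) (Lpe (K39.f410577 IH) (Lpr_at (f556819 IH) (Lpr_cf (f404352 IH) (Lpe (f397368 IH) (Lpe (f173141 IH) (Lpe (f400115 IH) (Lpn (LP (LK LD1_c10 LD2_c36 LD3_c31))))))))))))
theorem f565711 : Led Lsl_bf (LP (LK LD1_c13 LD2_c30 LD3_c57)) = (LP (LK LD1_c8 LD2_c44 LD3_c5)) :=
  Lgr Lrot34 (Lpr_gf (f565705 IH) (Lpe (K39.f197492 IH) (Lpr_ct (K13.f60757 IH) (Lpe (K39.f538850 IH) (Lpe (K38.f29252 IH) (Lpr_gf (f538874 IH) (Lpe (f410597 IH) (Lpr_ct (f556837 IH) (Lpe (f217685 IH) (Lpr_cf (K31.f403270 IH) (Lpn (LP (LK LD1_c8 LD2_c44 LD3_c5)))))))))))))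
theorem f160333 : Led Lsl_et (LP (LK LD1_c13 LD2_c30 LD3_c57)) = (LP (LK LD1_c22 LD2_c51 LD3_c57)) :=
  Lre_e IH (LK LD1_c13 LD2_c30 LD3_c57) (LK LD1_c22 LD2_c51 LD3_c57) Lrfl Lrfl
theorem f403275 : Led Lsl_et (LP (LK LD1_c16 LD2_c21 LD3_c23)) = (LP (LK LD1_c8 LD2_c44 LD3_c5)) :=
  Lre_e IH (LK LD1_c16 LD2_c21 LD3_c23) (LK LD1_c8 LD2_c44 LD3_c5) Lrfl Lrfl
theorem f565717 : Led Lsl_bt (LP (LK LD1_c22 LD2_c51 LD3_c57)) = (LP (LK LD1_c16 LD2_c21 LD3_c23)) :=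
  Lgr Lrot119 (Lpe (f160333 IH) (Lpr_bf (f565711 IH) (Lpe (f403275 IH) (Lpn (LP (LK LD1_c16 LD2_c21 LD3_c23))))))
theorem f203357 : Led Lsl_et (LP (LK LD1_c8 LD2_c48 LD3_c0)) = (LP (LK LD1_c16 LD2_c28 LD3_c8)) :=
  Lre_e IH (LK LD1_c8 LD2_c48 LD3_c0) (LK LD1_c16 LD2_c28 LD3_c8) Lrfl Lrfl
theorem f160332 : Led Lsl_dt (LP (LK LD1_c13 LD2_c30 LD3_c57)) = (LP (LK LD1_c7 LD2_c8 LD3_c7)) :=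
  Lre_d IH (LK LD1_c13 LD2_c30 LD3_c57) (LK LD1_c7 LD2_c8 LD3_c7) Lrfl Lrfl
theorem f540746 : Led Lsl_et (LP (LK LD1_c22 LD2_c51 LD3_c57)) = (LP (LK LD1_c13 LD2_c30 LD3_c57)) :=
  Lre_e IH (LK LD1_c22 LD2_c51 LD3_c57) (LK LD1_c13 LD2_c30 LD3_c57) Lrfl Lrfl
theorem f540747 : Led Lsl_dt (LP (LK LD1_c16 LD2_c28 LD3_c8)) = (LP (LK LD1_c22 LD2_c51 LD3_c57)) :=
  Lgr Lrot77 (Lpe (f203357 IH) (Lpe (K28.f203356 IH) (Lpr_ef (f540731 IH) (Lpe (f160332 IH) (Lpe (f540746 IH) (Lpn (LP (LK LD1_c22 LD2_c51 LD3_c57))))))))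
theorem f426450 : Led Lsl_bt (LP (LK LD1_c8 LD2_c48 LD3_c3)) = (LP (LK LD1_c16 LD2_c28 LD3_c8)) :=
  Lre_b IH (LK LD1_c8 LD2_c48 LD3_c3) (LK LD1_c16 LD2_c28 LD3_c8) Lrfl Lrfl
theorem f565723 : Led Lsl_df (LP (LK LD1_c8 LD2_c48 LD3_c3)) = (LP (LK LD1_c16 LD2_c21 LD3_c23)) :=
  Lgr Lrot12 (Lpr_bt (f426450 IH) (Lpr_dt (f540747 IH) (Lpr_bt (f565717 IH) (Lpn (LP (LK LD1_c16 LD2_c21 LD3_c23))))))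
theorem f565727 : Led Lsl_dt (LP (LK LD1_c8 LD2_c48 LD3_c3)) = (LP (LK LD1_c16 LD2_c21 LD3_c23)) :=
  Lgr Lrot42 (Lpr_df (f565723 IH) (Lpn (LP (LK LD1_c16 LD2_c21 LD3_c23))))
theorem f203361 : Led Lsl_et (LP (LK LD1_c4 LD2_c25 LD3_c15)) = (LP (LK LD1_c8 LD2_c48 LD3_c3)) :=
  Lre_e IH (LK LD1_c4 LD2_c25 LD3_c15) (LK LD1_c8 LD2_c48 LD3_c3) Lrfl Lrfl
theorem f403282 : Led Lsl_dt (LP (LK LD1_c8 LD2_c44 LD3_c5)) = (LP (LK LD1_c4 LD2_c23 LD3_c12)) :=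
  Lre_d IH (LK LD1_c8 LD2_c44 LD3_c5) (LK LD1_c4 LD2_c23 LD3_c12) Lrfl Lrfl
theorem f565731 : Led Lsl_ef (LP (LK LD1_c2 LD2_c10 LD3_c2)) = (LP (LK LD1_c4 LD2_c23 LD3_c12)) :=
  Lgr Lrot73 (Lpr_dt (K6.f38009 IH) (Lpr_et (f203361 IH) (Lpr_dt (f565727 IH) (Lpr_et (f403275 IH) (Lpr_dt (f403282 IH) (Lpn (LP (LK LD1_c4 LD2_c23 LD3_c12))))))))
theorem f38569 : Led Lsl_et (LP (LK LD1_c2 LD2_c10 LD3_c6)) = (LP (LK LD1_c1 LD2_c2 LD3_c8)) :=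
  Lre_e IH (LK LD1_c2 LD2_c10 LD3_c6) (LK LD1_c1 LD2_c2 LD3_c8) Lrfl Lrfl
theorem f6514 : Led Lsl_at (LP (LK LD1_c13 LD2_c28 LD3_c14)) = (LP (LK LD1_c7 LD2_c8 LD3_c30)) :=
  Lre_a IH (LK LD1_c13 LD2_c28 LD3_c14) (LK LD1_c7 LD2_c8 LD3_c30) Lrfl Lrfl
theorem f98336 : Led Lsl_ft (LP (LK LD1_c7 LD2_c6 LD3_c32)) = (LP (LK LD1_c13 LD2_c28 LD3_c14)) :=
  Lre_f IH (LK LD1_c7 LD2_c6 LD3_c32) (LK LD1_c13 LD2_c28 LD3_c14) Lrfl Lrfl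
theorem f565586 : Led Lsl_gt (LP (LK LD1_c7 LD2_c6 LD3_c32)) = (LP (LK LD1_c4 LD2_c25 LD3_c28)) :=
  Lgr Lrot5 (Lpr_ft (f98336 IH) (Lpr_at (f6514 IH) (Lpr_gf (f565583 IH) (Lpn (LP (LK LD1_c4 LD2_c25 LD3_c28))))))
theorem f10490 : Led Lsl_gt (LP (LK LD1_c7 LD2_c6 LD3_c31)) = (LP (LK LD1_c3 LD2_c32 LD3_c48)) :=
  Lre_g IH (LK LD1_c7 LD2_c6 LD3_c31) (LK LD1_c3 LD2_c32 LD3_c48) Lrfl Lrfl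
theorem f565735 : Led Lsl_ef (LP (LK LD1_c7 LD2_c6 LD3_c31)) = (LP (LK LD1_c8 LD2_c1 LD3_c1)) :=
  Lgr Lrot167 (Lpr_gt (f10490 IH) (Lpr_dt (f10605 IH) (Lpr_gt (f565586 IH) (Lpe (f137626 IH) (Lpr_et (f38569 IH) (Lpr_gt (K6.f38008 IH) (Lpr_ef (f565731 IH) (Lpr_dt (K31.f29620 IH) (Lpe (K31.f403280 IH) (Lpe (K18.f210757 IH) (Lpn (LP (LK LD1_c8 LD2_c1 LD3_c1)))))))))))))
theorem f6525 : Led Lsl_gt (LP (LK LD1_c3 LD2_c33 LD3_c48)) = (LP (LK LD1_c7 LD2_c6 LD3_c31)) :=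
  Lre_g IH (LK LD1_c3 LD2_c33 LD3_c48) (LK LD1_c7 LD2_c6 LD3_c31) Lrfl Lrfl
theorem f400048 : Led Lsl_dt (LP (LK LD1_c4 LD2_c23 LD3_c13)) = (LP (LK LD1_c8 LD2_c44 LD3_c7)) :=
  Lre_d IH (LK LD1_c4 LD2_c23 LD3_c13) (LK LD1_c8 LD2_c44 LD3_c7) Lrfl Lrfl
theorem f400049 : Led Lsl_et (LP (LK LD1_c4 LD2_c23 LD3_c13)) = (LP (LK LD1_c8 LD2_c44 LD3_c8)) :=
  Lre_e IH (LK LD1_c4 LD2_c23 LD3_c13) (LK LD1_c8 LD2_c44 LD3_c8) Lrfl Lrfl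
theorem f565747 : Led Lsl_gf (LP (LK LD1_c4 LD2_c26 LD3_c56)) = (LP (LK LD1_c8 LD2_c44 LD3_c8)) :=
  Lgr Lrot138 (Lpr_dt (K36.f198222 IH) (Lpe (f540975 IH) (Lpe (K29.f6155 IH) (Lpe (K3.f10590 IH) (Lpr_gt (f6525 IH) (Lpr_ef (f565735 IH) (Lpr_dt (K18.f210757 IH) (Lpr_gt (f400041 IH) (Lpe (f400048 IH) (Lpr_et (f400049 IH) (Lpn (LP (LK LD1_c8 LD2_c44 LD3_c8)))))))))))))
theorem f193493 : Led Lsl_bt (LP (LK LD1_c3 LD2_c3 LD3_c18)) = (LP (LK LD1_c6 LD2_c13 LD3_c5)) :=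
  Lre_b IH (LK LD1_c3 LD2_c3 LD3_c18) (LK LD1_c6 LD2_c13 LD3_c5) Lrfl Lrfl
theorem f538554 : Led Lsl_at (LP (LK LD1_c4 LD2_c26 LD3_c56)) = (LP (LK LD1_c7 LD2_c57 LD3_c9)) :=
  Lgr Lrot107 (Lpr_cf (K36.f198026 IH) (Lpr_af (K35.f538549 IH) (Lpe (f538525 IH) (Lpn (LP (LK LD1_c7 LD2_c57 LD3_c9))))))
theorem f271872 : Led Lsl_ft (LP (LK LD1_c6 LD2_c13 LD3_c5)) = (LP (LK LD1_c4 LD2_c26 LD3_c56)) :=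
  Lgr Lrot75 (Lpe (f193493 IH) (Lpr_ff (K16.f271870 IH) (Lpe (K36.f101318 IH) (Lpn (LP (LK LD1_c4 LD2_c26 LD3_c56))))))
theorem f565067 : Led Lsl_gf (LP (LK LD1_c8 LD2_c48 LD3_c28)) = (LP (LK LD1_c6 LD2_c13 LD3_c5)) :=
  Lgr Lrot47 (Lpr_gt (f565065 IH) (Lpe (f538554 IH) (Lpe (f271872 IH) (Lpn (LP (LK LD1_c6 LD2_c13 LD3_c5))))))
theorem f38417 : Led Lsl_gt (LP (LK LD1_c4 LD2_c25 LD3_c29)) = (LP (LK LD1_c8 LD2_c48 LD3_c13)) :=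
  Lre_g IH (LK LD1_c4 LD2_c25 LD3_c29) (LK LD1_c8 LD2_c48 LD3_c13) Lrfl Lrfl
theorem f35639 : Led Lsl_bt (LP (LK LD1_c2 LD2_c9 LD3_c53)) = (LP (LK LD1_c1 LD2_c2 LD3_c2)) :=
  Lre_b IH (LK LD1_c2 LD2_c9 LD3_c53) (LK LD1_c1 LD2_c2 LD3_c2) Lrfl Lrfl
theorem f38475 : Led Lsl_cf (LP (LK LD1_c2 LD2_c10 LD3_c6)) = (LP (LK LD1_c2 LD2_c9 LD3_c53)) :=
  Lgr Lrot11 (Lpr_ct (K1.f38464 IH) (Lpn (LP (LK LD1_c2 LD2_c9 LD3_c53))))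
theorem f227488 : Led Lsl_bf (LP (LK LD1_c8 LD2_c48 LD3_c13)) = (LP (LK LD1_c8 LD2_c48 LD3_c28)) :=
  Lgr Lrot34 (Lpe (f38417 IH) (Lpe (K36.f38402 IH) (Lpr_ct (K1.f38405 IH) (Lpr_gf (K12.f227477 IH) (Lpr_cf (K12.f227468 IH) (Lpe (K10.f35642 IH) (Lpe (f35639 IH) (Lpe (f38475 IH) (Lpe (K39.f38493 IH) (Lpe (f38495 IH) (Lpn (LP (LK LD1_c8 LD2_c48 LD3_c28)))))))))))))
theorem f227502 : Led Lsl_bt (LP (LK LD1_c8 LD2_c48 LD3_c13)) = (LP (LK LD1_c8 LD2_c48 LD3_c28)) :=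
  Lgr Lrot127 (Lpr_bf (f227488 IH) (Lpn (LP (LK LD1_c8 LD2_c48 LD3_c28))))
theorem f565751 : Led Lsl_ct (LP (LK LD1_c8 LD2_c48 LD3_c13)) = (LP (LK LD1_c8 LD2_c44 LD3_c8)) :=
  Lgr Lrot64 (Lpr_bt (f227502 IH) (Lpr_gf (f565067 IH) (Lpe (f193493 IH) (Lpe (K16.f241257 IH) (Lpe (K13.f37972 IH) (Lpe (K1.f36889 IH) (Lpr_gf (K13.f198438 IH) (Lpe (K35.f198000 IH) (Lpe (K36.f198026 IH) (Lpr_gf (f565747 IH) (Lpn (LP (LK LD1_c8 LD2_c44 LD3_c8)))))))))))))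
theorem f541019 : Led Lsl_ct (LP (LK LD1_c13 LD2_c31 LD3_c29)) = (LP (LK LD1_c8 LD2_c51 LD3_c57)) :=
  Lgr Lrot40 (Lpr_ff (f541016 IH) (Lpe (f193537 IH) (Lpr_ff (K35.f272234 IH) (Lpn (LP (LK LD1_c8 LD2_c51 LD3_c57))))))
theorem f6541 : Led Lsl_gt (LP (LK LD1_c7 LD2_c8 LD3_c29)) = (LP (LK LD1_c13 LD2_c31 LD3_c29)) :=
  Lre_g IH (LK LD1_c7 LD2_c8 LD3_c29) (LK LD1_c13 LD2_c31 LD3_c29) Lrfl Lrfl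
theorem f6461 : Led Lsl_ct (LP (LK LD1_c3 LD2_c33 LD3_c47)) = (LP (LK LD1_c7 LD2_c8 LD3_c29)) :=
  Lre_c IH (LK LD1_c3 LD2_c33 LD3_c47) (LK LD1_c7 LD2_c8 LD3_c29) Lrfl Lrfl
theorem f6468 : Led Lsl_gt (LP (LK LD1_c7 LD2_c8 LD3_c28)) = (LP (LK LD1_c3 LD2_c33 LD3_c47)) :=
  Lre_g IH (LK LD1_c7 LD2_c8 LD3_c28) (LK LD1_c3 LD2_c33 LD3_c47) Lrfl Lrfl
theorem f565759 : Led Lsl_df (LP (LK LD1_c4 LD2_c25 LD3_c29)) = (LP (LK LD1_c7 LD2_c8 LD3_c28)) :=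
  Lgr Lrot155 (Lpr_gt (f38417 IH) (Lpr_ct (f565751 IH) (Lpe (f565747 IH) (Lpr_ct (f198001 IH) (Lpr_dt (K35.f198230 IH) (Lpe (f541019 IH) (Lpe (f6541 IH) (Lpe (f6461 IH) (Lpe (f6468 IH) (Lpn (LP (LK LD1_c7 LD2_c8 LD3_c28))))))))))))
theorem f38403 : Led Lsl_ct (LP (LK LD1_c4 LD2_c25 LD3_c29)) = (LP (LK LD1_c4 LD2_c24 LD3_c53)) :=
  Lgr Lrot83 (Lpe (K36.f38402 IH) (Lpr_cf (K1.f38399 IH) (Lpr_bf (K1.f35634 IH) (Lpe (K1.f35486 IH) (Lpe (K36.f35638 IH) (Lpn (LP (LK LD1_c4 LD2_c24 LD3_c53))))))))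
theorem f36217 : Led Lsl_at (LP (LK LD1_c8 LD2_c46 LD3_c61)) = (LP (LK LD1_c4 LD2_c24 LD3_c53)) :=
  Lre_a IH (LK LD1_c8 LD2_c46 LD3_c61) (LK LD1_c4 LD2_c24 LD3_c53) Lrfl Lrfl
theorem f36001 : Led Lsl_ft (LP (LK LD1_c4 LD2_c24 LD3_c45)) = (LP (LK LD1_c8 LD2_c46 LD3_c61)) :=
  Lre_f IH (LK LD1_c4 LD2_c24 LD3_c45) (LK LD1_c8 LD2_c46 LD3_c61) Lrfl Lrfl
theorem f36021 : Led Lsl_dt (LP (LK LD1_c4 LD2_c24 LD3_c45)) = (LP (LK LD1_c8 LD2_c46 LD3_c60)) :=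
  Lre_d IH (LK LD1_c4 LD2_c24 LD3_c45) (LK LD1_c8 LD2_c46 LD3_c60) Lrfl Lrfl
theorem f210641 : Led Lsl_ct (LP (LK LD1_c8 LD2_c46 LD3_c60)) = (LP (LK LD1_c16 LD2_c26 LD3_c2)) :=
  Lre_c IH (LK LD1_c8 LD2_c46 LD3_c60) (LK LD1_c16 LD2_c26 LD3_c2) Lrfl Lrfl
theorem f420833 : Led Lsl_dt (LP (LK LD1_c16 LD2_c26 LD3_c2)) = (LP (LK LD1_c26 LD2_c23 LD3_c27)) :=
  Lre_d IH (LK LD1_c16 LD2_c26 LD3_c2) (LK LD1_c26 LD2_c23 LD3_c27) Lrfl Lrfl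
theorem f541037 : Led Lsl_ct (LP (LK LD1_c13 LD2_c31 LD3_c27)) = (LP (LK LD1_c7 LD2_c8 LD3_c28)) :=
  Lre_c IH (LK LD1_c13 LD2_c31 LD3_c27) (LK LD1_c7 LD2_c8 LD3_c28) Lrfl Lrfl
theorem f565763 : Led Lsl_dt (LP (LK LD1_c22 LD2_c52 LD3_c47)) = (LP (LK LD1_c13 LD2_c31 LD3_c27)) :=
  Lre_d IH (LK LD1_c22 LD2_c52 LD3_c47) (LK LD1_c13 LD2_c31 LD3_c27) Lrfl Lrfl
theorem f565768 : Led Lsl_ct (LP (LK LD1_c26 LD2_c23 LD3_c27)) = (LP (LK LD1_c22 LD2_c52 LD3_c47)) :=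
  Lgr Lrot41 (Lpe (f420833 IH) (Lpe (f210641 IH) (Lpe (f36021 IH) (Lpr_ft (f36001 IH) (Lpr_at (f36217 IH) (Lpe (f38403 IH) (Lpr_df (f565759 IH) (Lpe (f541037 IH) (Lpe (f565763 IH) (Lpn (LP (LK LD1_c22 LD2_c52 LD3_c47))))))))))))
theorem f565790 : Led Lsl_cf (LP (LK LD1_c26 LD2_c23 LD3_c27)) = (LP (LK LD1_c22 LD2_c52 LD3_c47)) :=
  Lgr Lrot11 (Lpr_ct (f565768 IH) (Lpn (LP (LK LD1_c22 LD2_c52 LD3_c47))))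
theorem f38470 : Led Lsl_dt (LP (LK LD1_c26 LD2_c23 LD3_c27)) = (LP (LK LD1_c16 LD2_c26 LD3_c2)) :=
  Lre_d IH (LK LD1_c26 LD2_c23 LD3_c27) (LK LD1_c16 LD2_c26 LD3_c2) Lrfl Lrfl
theorem f38469 : Led Lsl_ct (LP (LK LD1_c16 LD2_c26 LD3_c2)) = (LP (LK LD1_c8 LD2_c46 LD3_c60)) :=
  Lre_c IH (LK LD1_c16 LD2_c26 LD3_c2) (LK LD1_c8 LD2_c46 LD3_c60) Lrfl Lrfl
theorem f112923 : Led Lsl_dt (LP (LK LD1_c8 LD2_c46 LD3_c60)) = (LP (LK LD1_c4 LD2_c24 LD3_c45)) :=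
  Lre_d IH (LK LD1_c8 LD2_c46 LD3_c60) (LK LD1_c4 LD2_c24 LD3_c45) Lrfl Lrfl
theorem f38471 : Led Lsl_at (LP (LK LD1_c4 LD2_c25 LD3_c21)) = (LP (LK LD1_c2 LD2_c10 LD3_c6)) :=
  Lre_a IH (LK LD1_c4 LD2_c25 LD3_c21) (LK LD1_c2 LD2_c10 LD3_c6) Lrfl Lrfl
theorem f38472 : Led Lsl_at (LP (LK LD1_c2 LD2_c9 LD3_c53)) = (LP (LK LD1_c4 LD2_c24 LD3_c45)) :=
  Lre_a IH (LK LD1_c2 LD2_c9 LD3_c53) (LK LD1_c4 LD2_c24 LD3_c45) Lrfl Lrfl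
theorem f38473 : Led Lsl_cf (LP (LK LD1_c4 LD2_c25 LD3_c21)) = (LP (LK LD1_c4 LD2_c24 LD3_c45)) :=
  Lgr Lrot1 (Lpr_at (f38471 IH) (Lpr_ct (K1.f38464 IH) (Lpr_at (f38472 IH) (Lpn (LP (LK LD1_c4 LD2_c24 LD3_c45))))))
theorem f72139 : Led Lsl_gt (LP (LK LD1_c8 LD2_c48 LD3_c13)) = (LP (LK LD1_c4 LD2_c25 LD3_c21)) :=
  Lre_g IH (LK LD1_c8 LD2_c48 LD3_c13) (LK LD1_c4 LD2_c25 LD3_c21) Lrfl Lrfl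
theorem f98315 : Led Lsl_dt (LP (LK LD1_c13 LD2_c28 LD3_c14)) = (LP (LK LD1_c7 LD2_c6 LD3_c33)) :=
  Lre_d IH (LK LD1_c13 LD2_c28 LD3_c14) (LK LD1_c7 LD2_c6 LD3_c33) Lrfl Lrfl
theorem f98165 : Led Lsl_gt (LP (LK LD1_c7 LD2_c8 LD3_c27)) = (LP (LK LD1_c13 LD2_c28 LD3_c14)) :=
  Lre_g IH (LK LD1_c7 LD2_c8 LD3_c27) (LK LD1_c13 LD2_c28 LD3_c14) Lrfl Lrfl
theorem f565755 : Led Lsl_dt (LP (LK LD1_c4 LD2_c25 LD3_c21)) = (LP (LK LD1_c7 LD2_c8 LD3_c27)) :=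
  Lgr Lrot115 (Lpe (f72139 IH) (Lpr_ct (f565751 IH) (Lpe (f565747 IH) (Lpr_dt (K36.f198222 IH) (Lpe (f540975 IH) (Lpr_dt (K3.f6517 IH) (Lpr_ct (K36.f98311 IH) (Lpe (f98315 IH) (Lpe (f98165 IH) (Lpn (LP (LK LD1_c7 LD2_c8 LD3_c27))))))))))))
theorem f6470 : Led Lsl_ct (LP (LK LD1_c7 LD2_c8 LD3_c27)) = (LP (LK LD1_c13 LD2_c31 LD3_c25)) :=
  Lre_c IH (LK LD1_c7 LD2_c8 LD3_c27) (LK LD1_c13 LD2_c31 LD3_c25) Lrfl Lrfl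
theorem f565797 : Led Lsl_dt (LP (LK LD1_c13 LD2_c31 LD3_c25)) = (LP (LK LD1_c22 LD2_c52 LD3_c41)) :=
  Lre_d IH (LK LD1_c13 LD2_c31 LD3_c25) (LK LD1_c22 LD2_c52 LD3_c41) Lrfl Lrfl
theorem f565792 : Led Lsl_dt (LP (LK LD1_c13 LD2_c31 LD3_c27)) = (LP (LK LD1_c22 LD2_c52 LD3_c47)) :=
  Lre_d IH (LK LD1_c13 LD2_c31 LD3_c27) (LK LD1_c22 LD2_c52 LD3_c47) Lrfl Lrfl
theorem f565793 : Led Lsl_ct (LP (LK LD1_c7 LD2_c8 LD3_c28)) = (LP (LK LD1_c13 LD2_c31 LD3_c27)) :=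
  Lre_c IH (LK LD1_c7 LD2_c8 LD3_c28) (LK LD1_c13 LD2_c31 LD3_c27) Lrfl Lrfl
theorem f565757 : Led Lsl_dt (LP (LK LD1_c4 LD2_c25 LD3_c29)) = (LP (LK LD1_c7 LD2_c8 LD3_c28)) :=
  Lgr Lrot6 (Lpr_gt (f38417 IH) (Lpr_ct (f565751 IH) (Lpe (f565747 IH) (Lpr_ct (f198001 IH) (Lpe (f198225 IH) (Lpe (f541019 IH) (Lpe (f6541 IH) (Lpe (f6461 IH) (Lpe (f6468 IH) (Lpn (LP (LK LD1_c7 LD2_c8 LD3_c28))))))))))))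
theorem f36204 : Led Lsl_dt (LP (LK LD1_c8 LD2_c47 LD3_c15)) = (LP (LK LD1_c4 LD2_c24 LD3_c53)) :=
  Lre_d IH (LK LD1_c8 LD2_c47 LD3_c15) (LK LD1_c4 LD2_c24 LD3_c53) Lrfl Lrfl
theorem f38461 : Led Lsl_ct (LP (LK LD1_c16 LD2_c26 LD3_c37)) = (LP (LK LD1_c8 LD2_c47 LD3_c15)) :=
  Lre_c IH (LK LD1_c16 LD2_c26 LD3_c37) (LK LD1_c8 LD2_c47 LD3_c15) Lrfl Lrfl
theorem f38462 : Led Lsl_dt (LP (LK LD1_c26 LD2_c23 LD3_c56)) = (LP (LK LD1_c16 LD2_c26 LD3_c37)) :=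
  Lre_d IH (LK LD1_c26 LD2_c23 LD3_c56) (LK LD1_c16 LD2_c26 LD3_c37) Lrfl Lrfl
theorem f565798 : Led Lsl_ct (LP (LK LD1_c22 LD2_c52 LD3_c41)) = (LP (LK LD1_c26 LD2_c23 LD3_c56)) :=
  Lgr Lrot176 (Lpe (f565797 IH) (Lpe (f6470 IH) (Lpe (f565755 IH) (Lpr_cf (f38473 IH) (Lpe (f112923 IH) (Lpe (f38469 IH) (Lpe (f38470 IH) (Lpr_cf (f565790 IH) (Lpe (f565792 IH) (Lpe (f565793 IH) (Lpe (f565757 IH) (Lpr_cf (K1.f38459 IH) (Lpe (f36204 IH) (Lpe (f38461 IH) (Lpe (f38462 IH) (Lpn (LP (LK LD1_c26 LD2_c23 LD3_c56))))))))))))))))))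
theorem f565073 : Led Lsl_at (LP (LK LD1_c7 LD2_c17 LD3_c30)) = (LP (LK LD1_c4 LD2_c25 LD3_c29)) :=
  Lgr Lrot67 (Lpr_bf (f565071 IH) (Lpe (K39.f71061 IH) (Lpr_bf (K38.f71475 IH) (Lpe (K1.f38396 IH) (Lpe (K1.f38398 IH) (Lpn (LP (LK LD1_c4 LD2_c25 LD3_c29))))))))
theorem f565805 : Led Lsl_ft (LP (LK LD1_c4 LD2_c25 LD3_c21)) = (LP (LK LD1_c7 LD2_c17 LD3_c30)) :=
  Lgr Lrot142 (Lpr_dt (f565755 IH) (Lpr_ct (f6470 IH) (Lpr_dt (f565797 IH) (Lpr_ct (f565798 IH) (Lpr_dt (f38462 IH) (Lpr_ct (f38461 IH) (Lpr_dt (f36204 IH) (Lpe (K1.f38459 IH) (Lpe (f565073 IH) (Lpn (LP (LK LD1_c7 LD2_c17 LD3_c30))))))))))))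
theorem f38594 : Led Lsl_gt (LP (LK LD1_c4 LD2_c25 LD3_c21)) = (LP (LK LD1_c8 LD2_c48 LD3_c12)) :=
  Lre_g IH (LK LD1_c4 LD2_c25 LD3_c21) (LK LD1_c8 LD2_c48 LD3_c12) Lrfl Lrfl
theorem f565813 : Led Lsl_gt (LP (LK LD1_c8 LD2_c48 LD3_c12)) = (LP (LK LD1_c4 LD2_c25 LD3_c29)) :=
  Lgr Lrot46 (Lpe (f38594 IH) (Lpr_ft (f565805 IH) (Lpr_at (f565073 IH) (Lpn (LP (LK LD1_c4 LD2_c25 LD3_c29))))))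
theorem f441964 : Led Lsl_gt (LP (LK LD1_c7 LD2_c8 LD3_c14)) = (LP (LK LD1_c13 LD2_c31 LD3_c6)) :=
  Lre_g IH (LK LD1_c7 LD2_c8 LD3_c14) (LK LD1_c13 LD2_c31 LD3_c6) Lrfl Lrfl
theorem f179935 : Led Lsl_ct (LP (LK LD1_c1 LD2_c28 LD3_c10)) = (LP (LK LD1_c0 LD2_c40 LD3_c60)) :=
  Lre_c IH (LK LD1_c1 LD2_c28 LD3_c10) (LK LD1_c0 LD2_c40 LD3_c60) Lrfl Lrfl
theorem f559167 : Led Lsl_dt (LP (LK LD1_c3 LD2_c4 LD3_c17)) = (LP (LK LD1_c3 LD2_c33 LD3_c26)) :=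
  Lgr Lrot6 (Lpr_gt (K38.f179938 IH) (Lpr_ct (f179935 IH) (Lpr_gt (K31.f59008 IH) (Lpr_ct (f496066 IH) (Lpr_df (f559153 IH) (Lpe (K3.f88584 IH) (Lpr_gf (K8.f137219 IH) (Lpr_cf (K8.f162821 IH) (Lpe (K37.f162833 IH) (Lpn (LP (LK LD1_c3 LD2_c33 LD3_c26))))))))))))
theorem f543814 : Led Lsl_gt (LP (LK LD1_c3 LD2_c33 LD3_c41)) = (LP (LK LD1_c3 LD2_c4 LD3_c17)) :=
  Lgr Lrot5 (Lpr_ft (K37.f519733 IH) (Lpq (K37.f543803 IH) (Lpr_at (K37.f503026 IH) (Lpe (K38.f179938 IH) (Lpn (LP (LK LD1_c3 LD2_c4 LD3_c17)))))))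
theorem f181592 : Led Lsl_bf (LP (LK LD1_c5 LD2_c41 LD3_c46)) = (LP (LK LD1_c4 LD2_c23 LD3_c11)) :=
  Lgr Lrot24 (Lpr_bt (K10.f181588 IH) (Lpn (LP (LK LD1_c4 LD2_c23 LD3_c11))))
theorem f40110 : Led Lsl_bf (LP (LK LD1_c3 LD2_c57 LD3_c29)) = (LP (LK LD1_c2 LD2_c9 LD3_c8)) :=
  Lgr Lrot24 (Lpr_bt (K1.f40096 IH) (Lpn (LP (LK LD1_c2 LD2_c9 LD3_c8))))
theorem f542299 : Led Lsl_gt (LP (LK LD1_c5 LD2_c41 LD3_c46)) = (LP (LK LD1_c3 LD2_c57 LD3_c29)) :=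
  Lgr Lrot164 (Lpr_bf (f181592 IH) (Lpe (K10.f181594 IH) (Lpr_gf (K35.f272452 IH) (Lpr_cf (K39.f272391 IH) (Lpe (K13.f181718 IH) (Lpe (K16.f181715 IH) (Lpr_ct (K16.f181719 IH) (Lpqs (K37.f542289 IH) (Lpe (K37.f494159 IH) (Lpe (K1.f40113 IH) (Lpe (f40110 IH) (Lpn (LP (LK LD1_c3 LD2_c57 LD3_c29))))))))))))))
theorem f559183 : Led Lsl_ef (LP (LK LD1_c3 LD2_c33 LD3_c41)) = (LP (LK LD1_c3 LD2_c4 LD3_c0)) :=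
  Lgr Lrot167 (Lpr_gt (f543814 IH) (Lpr_dt (f559167 IH) (Lpr_gt (K37.f162833 IH) (Lpe (K39.f160383 IH) (Lpr_et (K39.f551672 IH) (Lpr_gt (f542299 IH) (Lpe (K1.f40094 IH) (Lpr_dt (K1.f40080 IH) (Lpr_gt (K8.f161371 IH) (Lpe (K8.f149207 IH) (Lpn (LP (LK LD1_c3 LD2_c4 LD3_c0)))))))))))))
theorem f101268 : Led Lsl_et (LP (LK LD1_c1 LD2_c27 LD3_c32)) = (LP (LK LD1_c3 LD2_c3 LD3_c17)) :=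
  Lre_e IH (LK LD1_c1 LD2_c27 LD3_c32) (LK LD1_c3 LD2_c3 LD3_c17) Lrfl Lrfl
theorem f559191 : Led Lsl_gf (LP (LK LD1_c3 LD2_c33 LD3_c41)) = (LP (LK LD1_c3 LD2_c4 LD3_c16)) :=
  Lgr Lrot141 (Lpr_ef (f559183 IH) (Lpr_dt (K8.f149207 IH) (Lpr_gt (K8.f38025 IH) (Lpr_df (K8.f70535 IH) (Lpr_et (f101268 IH) (Lpr_gt (K38.f547116 IH) (Lpr_dt (K38.f418481 IH) (Lpr_gt (K38.f424552 IH) (Lpe (K38.f137503 IH) (Lpr_et (K38.f137502 IH) (Lpn (LP (LK LD1_c3 LD2_c4 LD3_c16)))))))))))))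
theorem f551678 : Led Lsl_ct (LP (LK LD1_c3 LD2_c33 LD3_c41)) = (LP (LK LD1_c3 LD2_c5 LD3_c15)) :=
  Lgr Lrot7 (Lpe (K37.f98039 IH) (Lpe (K2.f92340 IH) (Lpe (K37.f522544 IH) (Lpr_gf (K39.f551676 IH) (Lpe (K37.f181332 IH) (Lpr_gt (K37.f175541 IH) (Lpe (K40.f546871 IH) (Lpr_gt (K40.f538158 IH) (Lpr_dt (K37.f538153 IH) (Lpn (LP (LK LD1_c3 LD2_c5 LD3_c15))))))))))))
theorem f559199 : Led Lsl_df (LP (LK LD1_c3 LD2_c5 LD3_c20)) = (LP (LK LD1_c3 LD2_c36 LD3_c31)) :=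
  Lgr Lrot162 (Lpe (K38.f503141 IH) (Lpe (K36.f503148 IH) (Lpe (f551678 IH) (Lpr_gf (f559191 IH) (Lpe (K39.f556346 IH) (Lpr_gt (K3.f96769 IH) (Lpr_ct (K3.f6112 IH) (Lpe (K3.f96767 IH) (Lpr_ct (K3.f88485 IH) (Lpn (LP (LK LD1_c3 LD2_c36 LD3_c31))))))))))))
theorem f202280 : Led Lsl_ct (LP (LK LD1_c3 LD2_c5 LD3_c26)) = (LP (LK LD1_c6 LD2_c16 LD3_c42)) :=
  Lre_c IH (LK LD1_c3 LD2_c5 LD3_c26) (LK LD1_c6 LD2_c16 LD3_c42) Lrfl Lrfl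
theorem f202284 : Led Lsl_bt (LP (LK LD1_c6 LD2_c16 LD3_c42)) = (LP (LK LD1_c12 LD2_c10 LD3_c26)) :=
  Lre_b IH (LK LD1_c6 LD2_c16 LD3_c42) (LK LD1_c12 LD2_c10 LD3_c26) Lrfl Lrfl
theorem f424641 : Led Lsl_bf (LP (LK LD1_c12 LD2_c24 LD3_c0)) = (LP (LK LD1_c14 LD2_c23 LD3_c43)) :=
  Lgr Lrot90 (Lpe (K36.f125732 IH) (Lpr_bt (K36.f78347 IH) (Lpr_ct (K36.f78346 IH) (Lpr_bt (K37.f78395 IH) (Lpr_ct (K36.f424637 IH) (Lpn (LP (LK LD1_c14 LD2_c23 LD3_c43))))))))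
theorem f424700 : Led Lsl_bt (LP (LK LD1_c9 LD2_c24 LD3_c29)) = (LP (LK LD1_c14 LD2_c12 LD3_c52)) :=
  Lgr Lrot35 (Lpr_ff (K36.f424698 IH) (Lpr_bf (f424641 IH) (Lpe (K36.f129456 IH) (Lpn (LP (LK LD1_c14 LD2_c12 LD3_c52))))))
theorem f559225 : Led Lsl_gt (LP (LK LD1_c12 LD2_c10 LD3_c26)) = (LP (LK LD1_c21 LD2_c16 LD3_c6)) :=
  Lgr Lrot190 (Lpe (f202284 IH) (Lpe (f202280 IH) (Lpe (K37.f202277 IH) (Lpe (K37.f202278 IH) (Lpqs (K37.f546804 IH) (Lpe (K37.f503151 IH) (Lpe (K38.f210466 IH) (Lpr_df (f559199 IH) (Lpe (K6.f88497 IH) (Lpr_bf (K28.f136338 IH) (Lpr_cf (K3.f110227 IH) (Lpe (K3.f109399 IH) (Lpe (K6.f130400 IH) (Lpe (K6.f130303 IH) (Lpr_cf (K6.f130306 IH) (Lpe (K8.f130317 IH) (Lpr_gf (K8.f130326 IH) (Lpe (f424700 IH) (Lpr_cf (K36.f424690 IH) (Lpr_df (K37.f546787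 IH) (Lpn (LP (LK LD1_c21 LD2_c16 LD3_c6)))))))))))))))))))))))
theorem f202274 : Led Lsl_ct (LP (LK LD1_c6 LD2_c16 LD3_c42)) = (LP (LK LD1_c3 LD2_c5 LD3_c26)) :=
  Lre_c IH (LK LD1_c6 LD2_c16 LD3_c42) (LK LD1_c3 LD2_c5 LD3_c26) Lrfl Lrfl
theorem f559235 : Led Lsl_cf (LP (LK LD1_c12 LD2_c49 LD3_c28)) = (LP (LK LD1_c21 LD2_c16 LD3_c6)) :=
  Lgr Lrot125 (Lpr_gt (K28.f207898 IH) (Lpe (K7.f99063 IH) (Lpr_bt (K7.f99000 IH) (Lpr_gt (K3.f103018 IH) (Lpe (K36.f103007 IH) (Lpe (K40.f558792 IH) (Lpr_gt (K39.f202273 IH) (Lpe (f202274 IH) (Lpr_bt (f202284 IH) (Lpr_gt (f559225 IH) (Lpn (LP (LK LD1_c21 LD2_c16 LD3_c6)))))))))))))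
theorem f546785 : Led Lsl_bf (LP (LK LD1_c13 LD2_c31 LD3_c7)) = (LP (LK LD1_c21 LD2_c16 LD3_c6)) :=
  Lgr Lrot24 (Lpr_bt (K37.f546783 IH) (Lpn (LP (LK LD1_c21 LD2_c16 LD3_c6))))
theorem f559242 : Led Lsl_gt (LP (LK LD1_c8 LD2_c46 LD3_c14)) = (LP (LK LD1_c13 LD2_c31 LD3_c7)) :=
  Lgr Lrot164 (Lpe (K6.f137534 IH) (Lpe (K4.f110350 IH) (Lpe (K3.f94803 IH) (Lpe (K3.f103299 IH) (Lpe (K3.f103018 IH) (Lpe (K7.f99000 IH) (Lpr_ct (K7.f99063 IH) (Lpe (K28.f207898 IH) (Lpr_cf (f559235 IH) (Lpe (f546785 IH) (Lpn (LP (LK LD1_c13 LD2_c31 LD3_c7)))))))))))))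
theorem f426353 : Led Lsl_at (LP (LK LD1_c11 LD2_c42 LD3_c7)) = (LP (LK LD1_c5 LD2_c58 LD3_c51)) :=
  Lre_a IH (LK LD1_c11 LD2_c42 LD3_c7) (LK LD1_c5 LD2_c58 LD3_c51) Lrfl Lrfl
theorem f426913 : Led Lsl_at (LP (LK LD1_c2 LD2_c55 LD3_c51)) = (LP (LK LD1_c5 LD2_c51 LD3_c33)) :=
  Lgr Lrot67 (Lpe (K40.f74303 IH) (Lpe (f426353 IH) (Lpr_bf (K36.f426503 IH) (Lpr_af (K37.f426911 IH) (Lpe (K37.f139333 IH) (Lpn (LP (LK LD1_c5 LD2_c51 LD3_c33))))))))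
theorem f426928 : Led Lsl_ff (LP (LK LD1_c2 LD2_c55 LD3_c51)) = (LP (LK LD1_c2 LD2_c55 LD3_c9)) :=
  Lgr Lrot52 (Lpr_at (f426913 IH) (Lpe (K6.f74691 IH) (Lpr_gf (K4.f74560 IH) (Lpn (LP (LK LD1_c2 LD2_c55 LD3_c9))))))
theorem f79687 : Led Lsl_bt (LP (LK LD1_c11 LD2_c30 LD3_c30)) = (LP (LK LD1_c5 LD2_c51 LD3_c33)) :=
  Lre_b IH (LK LD1_c11 LD2_c30 LD3_c30) (LK LD1_c5 LD2_c51 LD3_c33) Lrfl Lrfl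
theorem f426908 : Led Lsl_ff (LP (LK LD1_c2 LD2_c55 LD3_c20)) = (LP (LK LD1_c5 LD2_c51 LD3_c33)) :=
  Lgr Lrot25 (Lpr_bt (K8.f72561 IH) (Lpr_ft (K37.f426906 IH) (Lpr_bt (f79687 IH) (Lpn (LP (LK LD1_c5 LD2_c51 LD3_c33))))))
theorem f426930 : Led Lsl_at (LP (LK LD1_c2 LD2_c55 LD3_c20)) = (LP (LK LD1_c2 LD2_c55 LD3_c9)) :=
  Lgr Lrot66 (Lpr_ff (f426908 IH) (Lpe (f426913 IH) (Lpr_ff (f426928 IH) (Lpn (LP (LK LD1_c2 LD2_c55 LD3_c9))))))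
theorem f137586 : Led Lsl_at (LP (LK LD1_c5 LD2_c57 LD3_c38)) = (LP (LK LD1_c11 LD2_c40 LD3_c16)) :=
  Lre_a IH (LK LD1_c5 LD2_c57 LD3_c38) (LK LD1_c11 LD2_c40 LD3_c16) Lrfl Lrfl
theorem f426934 : Led Lsl_bf (LP (LK LD1_c11 LD2_c40 LD3_c39)) = (LP (LK LD1_c11 LD2_c40 LD3_c16)) :=
  Lgr Lrot81 (Lpr_at (K37.f72806 IH) (Lpr_bt (K37.f72524 IH) (Lpr_at (f426930 IH) (Lpr_bt (K6.f137572 IH) (Lpr_at (f137586 IH) (Lpn (LP (LK LD1_c11 LD2_c40 LD3_c16))))))))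
theorem f111861 : Led Lsl_bt (LP (LK LD1_c12 LD2_c1 LD3_c30)) = (LP (LK LD1_c14 LD2_c12 LD3_c31)) :=
  Lgr Lrot127 (Lpr_bf (K4.f111859 IH) (Lpn (LP (LK LD1_c14 LD2_c12 LD3_c31))))
theorem f81926 : Led Lsl_dt (LP (LK LD1_c2 LD2_c54 LD3_c12)) = (LP (LK LD1_c5 LD2_c55 LD3_c43)) :=
  Lre_d IH (LK LD1_c2 LD2_c54 LD3_c12) (LK LD1_c5 LD2_c55 LD3_c43) Lrfl Lrfl
theorem f161845 : Led Lsl_gt (LP (LK LD1_c5 LD2_c55 LD3_c43)) = (LP (LK LD1_c7 LD2_c31 LD3_c36)) :=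
  Lgr Lrot49 (Lpe (f81926 IH) (Lpr_gf (K8.f161843 IH) (Lpe (K8.f161826 IH) (Lpe (K8.f161010 IH) (Lpe (K7.f149684 IH) (Lpr_gt (K8.f161266 IH) (Lpr_dt (K8.f160919 IH) (Lpr_cf (K8.f160881 IH) (Lpe (K8.f160891 IH) (Lpn (LP (LK LD1_c7 LD2_c31 LD3_c36))))))))))))
theorem f426486 : Led Lsl_ct (LP (LK LD1_c11 LD2_c40 LD3_c16)) = (LP (LK LD1_c5 LD2_c58 LD3_c18)) :=
  Lre_c IH (LK LD1_c11 LD2_c40 LD3_c16) (LK LD1_c5 LD2_c58 LD3_c18) Lrfl Lrfl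
theorem f427010 : Led Lsl_gf (LP (LK LD1_c11 LD2_c41 LD3_c10)) = (LP (LK LD1_c5 LD2_c58 LD3_c18)) :=
  Lgr Lrot126 (Lpe (K5.f112648 IH) (Lpr_bt (K8.f112658 IH) (Lpe (K8.f161759 IH) (Lpe (K8.f161710 IH) (Lpr_gt (f161845 IH) (Lpe (K4.f96082 IH) (Lpr_bt (f111861 IH) (Lpe (K37.f426898 IH) (Lpr_bf (f426934 IH) (Lpr_ct (f426486 IH) (Lpn (LP (LK LD1_c5 LD2_c58 LD3_c18)))))))))))))
theorem f112638 : Led Lsl_dt (LP (LK LD1_c11 LD2_c37 LD3_c43)) = (LP (LK LD1_c5 LD2_c56 LD3_c14)) :=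
  Lre_d IH (LK LD1_c11 LD2_c37 LD3_c43) (LK LD1_c5 LD2_c56 LD3_c14) Lrfl Lrfl
theorem f427018 : Led Lsl_gt (LP (LK LD1_c11 LD2_c42 LD3_c5)) = (LP (LK LD1_c11 LD2_c40 LD3_c16)) :=
  Lgr Lrot9 (Lpr_df (K36.f202985 IH) (Lpr_gt (K8.f160681 IH) (Lpr_ct (K8.f72138 IH) (Lpr_gt (K5.f37079 IH) (Lpe (K5.f112636 IH) (Lpe (f112638 IH) (Lpr_cf (K37.f112654 IH) (Lpr_gf (f427010 IH) (Lpe (f426486 IH) (Lpn (LP (LK LD1_c11 LD2_c40 LD3_c16))))))))))))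
theorem f427020 : Led Lsl_dt (LP (LK LD1_c5 LD2_c58 LD3_c18)) = (LP (LK LD1_c11 LD2_c41 LD3_c16)) :=
  Lre_d IH (LK LD1_c5 LD2_c58 LD3_c18) (LK LD1_c11 LD2_c41 LD3_c16) Lrfl Lrfl
theorem f98030 : Led Lsl_ct (LP (LK LD1_c13 LD2_c31 LD3_c7)) = (LP (LK LD1_c7 LD2_c8 LD3_c14)) :=
  Lre_c IH (LK LD1_c13 LD2_c31 LD3_c7) (LK LD1_c7 LD2_c8 LD3_c14) Lrfl Lrfl
theorem f559244 : Led Lsl_cf (LP (LK LD1_c11 LD2_c41 LD3_c16)) = (LP (LK LD1_c13 LD2_c31 LD3_c6)) :=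
  Lgr Lrot99 (Lpe (f427020 IH) (Lpe (f426486 IH) (Lpe (f427018 IH) (Lpr_cf (K36.f202974 IH) (Lpe (K36.f110356 IH) (Lpr_df (K6.f137536 IH) (Lpr_gt (f559242 IH) (Lpr_ct (f98030 IH) (Lpr_gt (f441964 IH) (Lpn (LP (LK LD1_c13 LD2_c31 LD3_c6))))))))))))
theorem f137597 : Led Lsl_dt (LP (LK LD1_c11 LD2_c41 LD3_c16)) = (LP (LK LD1_c5 LD2_c58 LD3_c18)) :=
  Lre_d IH (LK LD1_c11 LD2_c41 LD3_c16) (LK LD1_c5 LD2_c58 LD3_c18) Lrfl Lrfl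
theorem f427009 : Led Lsl_ct (LP (LK LD1_c5 LD2_c58 LD3_c18)) = (LP (LK LD1_c11 LD2_c40 LD3_c16)) :=
  Lre_c IH (LK LD1_c5 LD2_c58 LD3_c18) (LK LD1_c11 LD2_c40 LD3_c16) Lrfl Lrfl
theorem f426456 : Led Lsl_dt (LP (LK LD1_c11 LD2_c40 LD3_c16)) = (LP (LK LD1_c12 LD2_c6 LD3_c18)) :=
  Lgr Lrot44 (Lpe (f137586 IH) (Lpr_df (K7.f137575 IH) (Lpr_af (K28.f426444 IH) (Lpn (LP (LK LD1_c12 LD2_c6 LD3_c18))))))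
theorem f420436 : Led Lsl_dt (LP (LK LD1_c6 LD2_c13 LD3_c50)) = (LP (LK LD1_c3 LD2_c57 LD3_c47)) :=
  Lgr Lrot42 (Lpr_df (K28.f202787 IH) (Lpn (LP (LK LD1_c3 LD2_c57 LD3_c47))))
theorem f559248 : Led Lsl_dt (LP (LK LD1_c7 LD2_c56 LD3_c56)) = (LP (LK LD1_c13 LD2_c31 LD3_c6)) :=
  Lgr Lrot173 (Lpe (K6.f37050 IH) (Lpr_df (K28.f202057 IH) (Lpr_cf (K28.f202950 IH) (Lpe (K28.f202954 IH) (Lpr_cf (K40.f426340 IH) (Lpe (K28.f137594 IH) (Lpe (K28.f426342 IH) (Lpe (K28.f203356 IH) (Lpe (K28.f203354 IH) (Lpe (f420436 IH) (Lpe (K28.f38210 IH) (Lpe (f426456 IH) (Lpe (f427009 IH) (Lpe (f137597 IH) (Lpr_cf (f559244 IH) (Lpn (LP (LK LD1_c13 LD2_c31 LD3_c6))))))))))))))))))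
theorem f565820 : Led Lsl_ef (LP (LK LD1_c8 LD2_c48 LD3_c12)) = (LP (LK LD1_c7 LD2_c56 LD3_c56)) :=
  Lgr Lrot167 (Lpr_gt (f565813 IH) (Lpr_dt (f565757 IH) (Lpr_gt (f6468 IH) (Lpe (f6134 IH) (Lpr_et (K3.f6121 IH) (Lpr_gt (K3.f6563 IH) (Lpe (K36.f98019 IH) (Lpr_dt (K36.f98027 IH) (Lpr_gt (f441964 IH) (Lpe (f559248 IH) (Lpn (LP (LK LD1_c7 LD2_c56 LD3_c56)))))))))))))
theorem f565826 : Led Lsl_et (LP (LK LD1_c8 LD2_c48 LD3_c12)) = (LP (LK LD1_c7 LD2_c56 LD3_c56)) :=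
  Lgr Lrot87 (Lpr_ef (f565820 IH) (Lpn (LP (LK LD1_c7 LD2_c56 LD3_c56))))
theorem f138755 : Led Lsl_et (LP (LK LD1_c8 LD2_c2 LD3_c11)) = (LP (LK LD1_c15 LD2_c7 LD3_c53)) :=
  Lre_e IH (LK LD1_c8 LD2_c2 LD3_c11) (LK LD1_c15 LD2_c7 LD3_c53) Lrfl Lrfl
theorem f565828 : Led Lsl_bf (LP (LK LD1_c8 LD2_c48 LD3_c12)) = (LP (LK LD1_c15 LD2_c7 LD3_c53)) :=
  Lgr Lrot96 (Lpr_et (f565826 IH) (Lpe (K6.f138773 IH) (Lpr_et (f138755 IH) (Lpn (LP (LK LD1_c15 LD2_c7 LD3_c53))))))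
theorem f565433 : Led Lsl_ct (LP (LK LD1_c12 LD2_c5 LD3_c20)) = (LP (LK LD1_c8 LD2_c46 LD3_c59)) :=
  Lgr Lrot59 (Lpr_cf (f565429 IH) (Lpn (LP (LK LD1_c8 LD2_c46 LD3_c59))))
theorem f559768 : Led Lsl_cf (LP (LK LD1_c4 LD2_c32 LD3_c27)) = (LP (LK LD1_c8 LD2_c0 LD3_c11)) :=
  Lgr Lrot39 (Lpr_et (K39.f411663 IH) (Lpr_ct (K38.f174561 IH) (Lpr_et (K40.f559758 IH) (Lpn (LP (LK LD1_c8 LD2_c0 LD3_c11))))))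
theorem f565431 : Led Lsl_bt (LP (LK LD1_c12 LD2_c5 LD3_c20)) = (LP (LK LD1_c8 LD2_c0 LD3_c11)) :=
  Lgr Lrot128 (Lpr_cf (f565429 IH) (Lpr_bf (f210627 IH) (Lpe (K38.f210637 IH) (Lpe (K40.f548177 IH) (Lpr_cf (f559768 IH) (Lpn (LP (LK LD1_c8 LD2_c0 LD3_c11))))))))
theorem f138756 : Led Lsl_et (LP (LK LD1_c8 LD2_c48 LD3_c5)) = (LP (LK LD1_c4 LD2_c25 LD3_c16)) :=
  Lre_e IH (LK LD1_c8 LD2_c48 LD3_c5) (LK LD1_c4 LD2_c25 LD3_c16) Lrfl Lrfl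
theorem f138757 : Led Lsl_ct (LP (LK LD1_c15 LD2_c7 LD3_c53)) = (LP (LK LD1_c8 LD2_c48 LD3_c5)) :=
  Lgr Lrot15 (Lpe (f138755 IH) (Lpr_cf (K6.f138747 IH) (Lpe (f138756 IH) (Lpn (LP (LK LD1_c8 LD2_c48 LD3_c5))))))
theorem f565838 : Led Lsl_gt (LP (LK LD1_c15 LD2_c4 LD3_c46)) = (LP (LK LD1_c8 LD2_c48 LD3_c5)) :=
  Lgr Lrot65 (Lpe (f424937 IH) (Lpr_bt (f424952 IH) (Lpe (K40.f138567 IH) (Lpe (f565431 IH) (Lpr_ct (f565433 IH) (Lpe (f35491 IH) (Lpe (f38403 IH) (Lpe (f565813 IH) (Lpr_bf (f565828 IH) (Lpr_ct (f138757 IH) (Lpn (LP (LK LD1_c8 LD2_c48 LD3_c5)))))))))))))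
theorem f425923 : Led Lsl_ct (LP (LK LD1_c8 LD2_c0 LD3_c6)) = (LP (LK LD1_c3 LD2_c59 LD3_c30)) :=
  Lre_c IH (LK LD1_c8 LD2_c0 LD3_c6) (LK LD1_c3 LD2_c59 LD3_c30) Lrfl Lrfl
theorem f556723 : Led Lsl_gt (LP (LK LD1_c8 LD2_c0 LD3_c13)) = (LP (LK LD1_c5 LD2_c41 LD3_c22)) :=
  Lgr Lrot149 (Lpe (K36.f427959 IH) (Lpr_gf (K39.f556719 IH) (Lpr_bf (K39.f450552 IH) (Lpr_ct (K36.f211072 IH) (Lpq (K36.f537904 IH) (Lpq (K39.f555895 IH) (Lpe (K39.f500704 IH) (Lpr_cf (K36.f500659 IH) (Lpq (K36.f539245 IH) (Lpr_bt (K36.f500907 IH) (Lpq (K36.f539248 IH) (Lpr_gf (K40.f541429 IH) (Lpe (K38.f181545 IH) (Lpr_ct (K40.f181540 IH) (Lpn (LP (LK LD1_c5 LD2_c41 LD3_c22)))))))))))))))))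
theorem f138760 : Led Lsl_cf (LP (LK LD1_c15 LD2_c7 LD3_c53)) = (LP (LK LD1_c8 LD2_c48 LD3_c5)) :=
  Lgr Lrot11 (Lpr_ct (f138757 IH) (Lpn (LP (LK LD1_c8 LD2_c48 LD3_c5))))
theorem f565842 : Led Lsl_gf (LP (LK LD1_c8 LD2_c50 LD3_c19)) = (LP (LK LD1_c15 LD2_c7 LD3_c53)) :=
  Lgr Lrot129 (Lpe (K39.f556627 IH) (Lpr_bt (K39.f556640 IH) (Lpr_gt (f556723 IH) (Lpe (K40.f553421 IH) (Lpr_ct (K40.f553423 IH) (Lpr_gt (K40.f563187 IH) (Lpe (f425923 IH) (Lpr_bt (K39.f424939 IH) (Lpr_gt (f565838 IH) (Lpe (f138760 IH) (Lpn (LP (LK LD1_c15 LD2_c7 LD3_c53)))))))))))))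
theorem f181546 : Led Lsl_ct (LP (LK LD1_c5 LD2_c41 LD3_c22)) = (LP (LK LD1_c2 LD2_c46 LD3_c45)) :=
  Lre_c IH (LK LD1_c5 LD2_c41 LD3_c22) (LK LD1_c2 LD2_c46 LD3_c45) Lrfl Lrfl
theorem f538258 : Led Lsl_bt (LP (LK LD1_c3 LD2_c57 LD3_c56)) = (LP (LK LD1_c7 LD2_c57 LD3_c9)) :=
  Lre_b IH (LK LD1_c3 LD2_c57 LD3_c56) (LK LD1_c7 LD2_c57 LD3_c9) Lrfl Lrfl
theorem f138759 : Led Lsl_bt (LP (LK LD1_c8 LD2_c48 LD3_c5)) = (LP (LK LD1_c4 LD2_c25 LD3_c19)) :=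
  Lre_b IH (LK LD1_c8 LD2_c48 LD3_c5) (LK LD1_c4 LD2_c25 LD3_c19) Lrfl Lrfl
theorem f565848 : Led Lsl_gt (LP (LK LD1_c7 LD2_c57 LD3_c9)) = (LP (LK LD1_c4 LD2_c25 LD3_c19)) :=
  Lgr Lrot164 (Lpe (f538258 IH) (Lpr_ct (K38.f538223 IH) (Lpr_gf (K36.f500417 IH) (Lpq (K36.f541365 IH) (Lpe (f181546 IH) (Lpe (f556723 IH) (Lpe (K39.f556640 IH) (Lpr_ct (K39.f556627 IH) (Lpr_gf (f565842 IH) (Lpr_cf (f138760 IH) (Lpr_bt (f138759 IH) (Lpn (LP (LK LD1_c4 LD2_c25 LD3_c19))))))))))))))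
theorem f565621 : Led Lsl_dt (LP (LK LD1_c7 LD2_c14 LD3_c35)) = (LP (LK LD1_c7 LD2_c57 LD3_c9)) :=
  Lgr Lrot42 (Lpr_df (f565589 IH) (Lpn (LP (LK LD1_c7 LD2_c57 LD3_c9))))
theorem f6303 : Led Lsl_et (LP (LK LD1_c1 LD2_c45 LD3_c29)) = (LP (LK LD1_c3 LD2_c37 LD3_c6)) :=
  Lre_e IH (LK LD1_c1 LD2_c45 LD3_c29) (LK LD1_c3 LD2_c37 LD3_c6) Lrfl Lrfl
theorem f6301 : Led Lsl_dt (LP (LK LD1_c1 LD2_c45 LD3_c29)) = (LP (LK LD1_c0 LD2_c49 LD3_c24)) :=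
  Lre_d IH (LK LD1_c1 LD2_c45 LD3_c29) (LK LD1_c0 LD2_c49 LD3_c24) Lrfl Lrfl
theorem f528298 : Led Lsl_et (LP (LK LD1_c3 LD2_c37 LD3_c11)) = (LP (LK LD1_c7 LD2_c14 LD3_c52)) :=
  Lre_e IH (LK LD1_c3 LD2_c37 LD3_c11) (LK LD1_c7 LD2_c14 LD3_c52) Lrfl Lrfl
theorem f489553 : Led Lsl_gt (LP (LK LD1_c13 LD2_c42 LD3_c46)) = (LP (LK LD1_c7 LD2_c14 LD3_c52)) :=
  Lre_g IH (LK LD1_c13 LD2_c42 LD3_c46) (LK LD1_c7 LD2_c14 LD3_c52) Lrfl Lrfl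
theorem f427431 : Led Lsl_dt (LP (LK LD1_c8 LD2_c48 LD3_c9)) = (LP (LK LD1_c4 LD2_c25 LD3_c19)) :=
  Lre_d IH (LK LD1_c8 LD2_c48 LD3_c9) (LK LD1_c4 LD2_c25 LD3_c19) Lrfl Lrfl
theorem f565852 : Led Lsl_ef (LP (LK LD1_c13 LD2_c42 LD3_c46)) = (LP (LK LD1_c8 LD2_c48 LD3_c9)) :=
  Lgr Lrot114 (Lpr_gt (f489553 IH) (Lpe (f528298 IH) (Lpr_dt (K39.f481294 IH) (Lpr_gt (K33.f6023 IH) (Lpe (f6301 IH) (Lpr_et (f6303 IH) (Lpr_gt (f6536 IH) (Lpr_dt (f565621 IH) (Lpr_gt (f565848 IH) (Lpe (f427431 IH) (Lpn (LP (LK LD1_c8 LD2_c48 LD3_c9)))))))))))))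
theorem f565859 : Led Lsl_et (LP (LK LD1_c13 LD2_c42 LD3_c46)) = (LP (LK LD1_c8 LD2_c48 LD3_c9)) :=
  Lgr Lrot87 (Lpr_ef (f565852 IH) (Lpn (LP (LK LD1_c8 LD2_c48 LD3_c9))))
theorem f72123 : Led Lsl_et (LP (LK LD1_c4 LD2_c25 LD3_c19)) = (LP (LK LD1_c2 LD2_c10 LD3_c3)) :=
  Lre_e IH (LK LD1_c4 LD2_c25 LD3_c19) (LK LD1_c2 LD2_c10 LD3_c3) Lrfl Lrfl
theorem f72119 : Led Lsl_et (LP (LK LD1_c4 LD2_c25 LD3_c18)) = (LP (LK LD1_c8 LD2_c48 LD3_c8)) :=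
  Lre_e IH (LK LD1_c4 LD2_c25 LD3_c18) (LK LD1_c8 LD2_c48 LD3_c8) Lrfl Lrfl
theorem f565863 : Led Lsl_df (LP (LK LD1_c13 LD2_c42 LD3_c46)) = (LP (LK LD1_c8 LD2_c48 LD3_c8)) :=
  Lgr Lrot70 (Lpr_et (f565859 IH) (Lpr_dt (f427431 IH) (Lpr_et (f72123 IH) (Lpr_dt (K36.f72115 IH) (Lpr_et (f72119 IH) (Lpn (LP (LK LD1_c8 LD2_c48 LD3_c8))))))))
theorem f470700 : Led Lsl_dt (LP (LK LD1_c13 LD2_c42 LD3_c47)) = (LP (LK LD1_c7 LD2_c14 LD3_c52)) :=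
  Lre_d IH (LK LD1_c13 LD2_c42 LD3_c47) (LK LD1_c7 LD2_c14 LD3_c52) Lrfl Lrfl
theorem f470699 : Led Lsl_et (LP (LK LD1_c13 LD2_c42 LD3_c47)) = (LP (LK LD1_c7 LD2_c14 LD3_c53)) :=
  Lre_e IH (LK LD1_c13 LD2_c42 LD3_c47) (LK LD1_c7 LD2_c14 LD3_c53) Lrfl Lrfl
theorem f80769 : Led Lsl_et (LP (LK LD1_c8 LD2_c48 LD3_c8)) = (LP (LK LD1_c4 LD2_c25 LD3_c18)) :=
  Lre_e IH (LK LD1_c8 LD2_c48 LD3_c8) (LK LD1_c4 LD2_c25 LD3_c18) Lrfl Lrfl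
theorem f80772 : Led Lsl_gt (LP (LK LD1_c6 LD2_c13 LD3_c48)) = (LP (LK LD1_c4 LD2_c25 LD3_c18)) :=
  Lgr Lrot5 (Lpe (K11.f38147 IH) (Lpr_at (K11.f38145 IH) (Lpr_gf (K36.f80763 IH) (Lpn (LP (LK LD1_c4 LD2_c25 LD3_c18))))))
theorem f565869 : Led Lsl_et (LP (LK LD1_c3 LD2_c38 LD3_c27)) = (LP (LK LD1_c6 LD2_c13 LD3_c48)) :=
  Lgr Lrot185 (Lpr_dt (K28.f18035 IH) (Lpr_gf (K33.f464220 IH) (Lpe (K33.f16740 IH) (Lpr_gf (K34.f489549 IH) (Lpe (f470699 IH) (Lpr_dt (f470700 IH) (Lpe (f489553 IH) (Lpr_df (f565863 IH) (Lpr_et (f80769 IH) (Lpe (f80772 IH) (Lpn (LP (LK LD1_c6 LD2_c13 LD3_c48)))))))))))))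
theorem f70360 : Led Lsl_gt (LP (LK LD1_c4 LD2_c25 LD3_c25)) = (LP (LK LD1_c8 LD2_c48 LD3_c22)) :=
  Lre_g IH (LK LD1_c4 LD2_c25 LD3_c25) (LK LD1_c8 LD2_c48 LD3_c22) Lrfl Lrfl
theorem f565879 : Led Lsl_et (LP (LK LD1_c6 LD2_c52 LD3_c24)) = (LP (LK LD1_c8 LD2_c48 LD3_c22)) :=
  Lgr Lrot122 (Lpr_dt (K33.f16740 IH) (Lpe (K33.f464220 IH) (Lpe (K28.f18035 IH) (Lpr_et (f565869 IH) (Lpr_gt (f80772 IH) (Lpr_dt (K28.f38538 IH) (Lpr_gt (K6.f38528 IH) (Lpe (K4.f38515 IH) (Lpr_et (K6.f38583 IH) (Lpr_gt (f70360 IH) (Lpn (LP (LK LD1_c8 LD2_c48 LD3_c22)))))))))))))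
theorem f565887 : Led Lsl_ef (LP (LK LD1_c6 LD2_c52 LD3_c24)) = (LP (LK LD1_c8 LD2_c48 LD3_c22)) :=
  Lgr Lrot88 (Lpr_et (f565879 IH) (Lpn (LP (LK LD1_c8 LD2_c48 LD3_c22))))
theorem f457460 : Led Lsl_bf (LP (LK LD1_c7 LD2_c4 LD3_c24)) = (LP (LK LD1_c6 LD2_c52 LD3_c24)) :=
  Lgr Lrot24 (Lpr_bt (K33.f457458 IH) (Lpn (LP (LK LD1_c6 LD2_c52 LD3_c24))))
theorem f457473 : Led Lsl_et (LP (LK LD1_c7 LD2_c4 LD3_c24)) = (LP (LK LD1_c13 LD2_c24 LD3_c35)) :=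
  Lre_e IH (LK LD1_c7 LD2_c4 LD3_c24) (LK LD1_c13 LD2_c24 LD3_c35) Lrfl Lrfl
theorem f565891 : Led Lsl_bt (LP (LK LD1_c13 LD2_c24 LD3_c35)) = (LP (LK LD1_c8 LD2_c48 LD3_c22)) :=
  Lgr Lrot119 (Lpe (f457473 IH) (Lpr_bf (f457460 IH) (Lpr_ef (f565887 IH) (Lpn (LP (LK LD1_c8 LD2_c48 LD3_c22))))))
theorem f510983 : Led Lsl_ct (LP (LK LD1_c13 LD2_c24 LD3_c35)) = (LP (LK LD1_c22 LD2_c42 LD3_c48)) :=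
  Lre_c IH (LK LD1_c13 LD2_c24 LD3_c35) (LK LD1_c22 LD2_c42 LD3_c48) Lrfl Lrfl
theorem f38272 : Led Lsl_bt (LP (LK LD1_c2 LD2_c10 LD3_c7)) = (LP (LK LD1_c4 LD2_c25 LD3_c25)) :=
  Lre_b IH (LK LD1_c2 LD2_c10 LD3_c7) (LK LD1_c4 LD2_c25 LD3_c25) Lrfl Lrfl
theorem f445058 : Led Lsl_ct (LP (LK LD1_c4 LD2_c24 LD3_c39)) = (LP (LK LD1_c4 LD2_c58 LD3_c1)) :=
  Lgr Lrot15 (Lpe (K40.f34750 IH) (Lpr_cf (K40.f445044 IH) (Lpe (K40.f37398 IH) (Lpn (LP (LK LD1_c4 LD2_c58 LD3_c1))))))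
theorem f445069 : Led Lsl_cf (LP (LK LD1_c4 LD2_c24 LD3_c39)) = (LP (LK LD1_c4 LD2_c58 LD3_c1)) :=
  Lgr Lrot11 (Lpr_ct (f445058 IH) (Lpn (LP (LK LD1_c4 LD2_c58 LD3_c1))))
theorem f101825 : Led Lsl_gt (LP (LK LD1_c4 LD2_c24 LD3_c57)) = (LP (LK LD1_c4 LD2_c58 LD3_c1)) :=
  Lgr Lrot5 (Lpr_ft (K2.f35912 IH) (Lpr_at (K40.f99388 IH) (Lpe (K40.f37387 IH) (Lpn (LP (LK LD1_c4 LD2_c58 LD3_c1))))))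
theorem f565903 : Led Lsl_gt (LP (LK LD1_c22 LD2_c42 LD3_c48)) = (LP (LK LD1_c16 LD2_c26 LD3_c16)) :=
  Lgr Lrot65 (Lpe (f510983 IH) (Lpr_bt (f565891 IH) (Lpe (f70360 IH) (Lpe (f38272 IH) (Lpr_ct (K37.f38274 IH) (Lpe (K40.f34749 IH) (Lpr_cf (f445069 IH) (Lpe (f101825 IH) (Lpe (K2.f35934 IH) (Lpr_ct (K4.f35935 IH) (Lpn (LP (LK LD1_c16 LD2_c26 LD3_c16)))))))))))))
theorem f35944 : Led Lsl_at (LP (LK LD1_c26 LD2_c23 LD3_c22)) = (LP (LK LD1_c16 LD2_c26 LD3_c16)) :=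
  Lre_a IH (LK LD1_c26 LD2_c23 LD3_c22) (LK LD1_c16 LD2_c26 LD3_c16) Lrfl Lrfl
theorem f81646 : Led Lsl_ft (LP (LK LD1_c16 LD2_c25 LD3_c58)) = (LP (LK LD1_c26 LD2_c23 LD3_c22)) :=
  Lre_f IH (LK LD1_c16 LD2_c25 LD3_c58) (LK LD1_c26 LD2_c23 LD3_c22) Lrfl Lrfl
theorem f565905 : Led Lsl_gf (LP (LK LD1_c22 LD2_c42 LD3_c48)) = (LP (LK LD1_c16 LD2_c25 LD3_c58)) :=
  Lgr Lrot47 (Lpr_gt (f565903 IH) (Lpe (f35944 IH) (Lpe (f81646 IH) (Lpn (LP (LK LD1_c16 LD2_c25 LD3_c58))))))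
theorem f489436 : Led Lsl_et (LP (LK LD1_c13 LD2_c24 LD3_c34)) = (LP (LK LD1_c22 LD2_c42 LD3_c48)) :=
  Lre_e IH (LK LD1_c13 LD2_c24 LD3_c34) (LK LD1_c22 LD2_c42 LD3_c48) Lrfl Lrfl
theorem f108412 : Led Lsl_dt (LP (LK LD1_c13 LD2_c27 LD3_c5)) = (LP (LK LD1_c7 LD2_c5 LD3_c50)) :=
  Lre_d IH (LK LD1_c13 LD2_c27 LD3_c5) (LK LD1_c7 LD2_c5 LD3_c50) Lrfl Lrfl
theorem f466669 : Led Lsl_ct (LP (LK LD1_c13 LD2_c33 LD3_c56)) = (LP (LK LD1_c7 LD2_c9 LD3_c42)) :=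
  Lre_c IH (LK LD1_c13 LD2_c33 LD3_c56) (LK LD1_c7 LD2_c9 LD3_c42) Lrfl Lrfl
theorem f514179 : Led Lsl_gf (LP (LK LD1_c13 LD2_c27 LD3_c5)) = (LP (LK LD1_c22 LD2_c42 LD3_c47)) :=
  Lgr Lrot143 (Lpr_dt (f108412 IH) (Lpe (K24.f98570 IH) (Lpe (K8.f98547 IH) (Lpe (K28.f97407 IH) (Lpe (K33.f108404 IH) (Lpr_gf (f514176 IH) (Lpe (f466669 IH) (Lpe (K34.f466663 IH) (Lpr_dt (K33.f460766 IH) (Lpn (LP (LK LD1_c22 LD2_c42 LD3_c47))))))))))))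
theorem f108334 : Led Lsl_dt (LP (LK LD1_c7 LD2_c5 LD3_c50)) = (LP (LK LD1_c13 LD2_c27 LD3_c5)) :=
  Lre_d IH (LK LD1_c7 LD2_c5 LD3_c50) (LK LD1_c13 LD2_c27 LD3_c5) Lrfl Lrfl
theorem f81645 : Led Lsl_et (LP (LK LD1_c8 LD2_c46 LD3_c57)) = (LP (LK LD1_c16 LD2_c25 LD3_c58)) :=
  Lre_e IH (LK LD1_c8 LD2_c46 LD3_c57) (LK LD1_c16 LD2_c25 LD3_c58) Lrfl Lrfl
theorem f35961 : Led Lsl_dt (LP (LK LD1_c2 LD2_c9 LD3_c51)) = (LP (LK LD1_c4 LD2_c24 LD3_c44)) :=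
  Lre_d IH (LK LD1_c2 LD2_c9 LD3_c51) (LK LD1_c4 LD2_c24 LD3_c44) Lrfl Lrfl
theorem f427014 : Led Lsl_gt (LP (LK LD1_c7 LD2_c56 LD3_c44)) = (LP (LK LD1_c11 LD2_c41 LD3_c16)) :=
  Lgr Lrot94 (Lpe (K11.f78324 IH) (Lpr_gt (K7.f59249 IH) (Lpe (K7.f150039 IH) (Lpr_gt (K36.f36048 IH) (Lpr_dt (f35961 IH) (Lpe (K2.f35962 IH) (Lpr_df (K5.f81636 IH) (Lpr_gf (f427010 IH) (Lpe (f137597 IH) (Lpn (LP (LK LD1_c11 LD2_c41 LD3_c16))))))))))))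
theorem f565912 : Led Lsl_et (LP (LK LD1_c7 LD2_c5 LD3_c50)) = (LP (LK LD1_c7 LD2_c56 LD3_c44)) :=
  Lgr Lrot121 (Lpr_dt (f108334 IH) (Lpr_gf (f514179 IH) (Lpe (K33.f460766 IH) (Lpr_et (f489436 IH) (Lpr_gf (f565905 IH) (Lpe (f81645 IH) (Lpr_dt (K37.f81592 IH) (Lpr_gf (f427010 IH) (Lpe (f137597 IH) (Lpe (f427014 IH) (Lpn (LP (LK LD1_c7 LD2_c56 LD3_c44)))))))))))))
theorem f78285 : Led Lsl_et (LP (LK LD1_c4 LD2_c42 LD3_c37)) = (LP (LK LD1_c9 LD2_c19 LD3_c28)) :=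
  Lre_e IH (LK LD1_c4 LD2_c42 LD3_c37) (LK LD1_c9 LD2_c19 LD3_c28) Lrfl Lrfl
theorem f565916 : Led Lsl_bf (LP (LK LD1_c7 LD2_c5 LD3_c50)) = (LP (LK LD1_c9 LD2_c19 LD3_c28)) :=
  Lgr Lrot96 (Lpr_et (f565912 IH) (Lpe (K8.f78330 IH) (Lpr_et (f78285 IH) (Lpn (LP (LK LD1_c9 LD2_c19 LD3_c28))))))
theorem f108353 : Led Lsl_ct (LP (LK LD1_c7 LD2_c5 LD3_c50)) = (LP (LK LD1_c3 LD2_c32 LD3_c23)) :=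
  Lre_c IH (LK LD1_c7 LD2_c5 LD3_c50) (LK LD1_c3 LD2_c32 LD3_c23) Lrfl Lrfl
theorem f210857 : Led Lsl_ct (LP (LK LD1_c4 LD2_c42 LD3_c38)) = (LP (LK LD1_c9 LD2_c19 LD3_c28)) :=
  Lre_c IH (LK LD1_c4 LD2_c42 LD3_c38) (LK LD1_c9 LD2_c19 LD3_c28) Lrfl Lrfl
theorem f201964 : Led Lsl_bt (LP (LK LD1_c2 LD2_c18 LD3_c48)) = (LP (LK LD1_c4 LD2_c42 LD3_c38)) :=
  Lre_b IH (LK LD1_c2 LD2_c18 LD3_c48) (LK LD1_c4 LD2_c42 LD3_c38) Lrfl Lrfl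
theorem f210821 : Led Lsl_cf (LP (LK LD1_c2 LD2_c18 LD3_c48)) = (LP (LK LD1_c3 LD2_c57 LD3_c40)) :=
  Lgr Lrot1 (Lpr_at (K37.f201962 IH) (Lpe (K4.f99303 IH) (Lpr_at (K37.f210819 IH) (Lpn (LP (LK LD1_c3 LD2_c57 LD3_c40))))))
theorem f565956 : Led Lsl_bt (LP (LK LD1_c3 LD2_c32 LD3_c23)) = (LP (LK LD1_c3 LD2_c57 LD3_c40)) :=
  Lgr Lrot128 (Lpe (f108353 IH) (Lpr_bf (f565916 IH) (Lpe (f210857 IH) (Lpe (f201964 IH) (Lpr_cf (f210821 IH) (Lpn (LP (LK LD1_c3 LD2_c57 LD3_c40))))))))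
theorem f108357 : Led Lsl_gt (LP (LK LD1_c13 LD2_c27 LD3_c4)) = (LP (LK LD1_c7 LD2_c5 LD3_c50)) :=
  Lre_g IH (LK LD1_c13 LD2_c27 LD3_c4) (LK LD1_c7 LD2_c5 LD3_c50) Lrfl Lrfl
theorem f208975 : Led Lsl_dt (LP (LK LD1_c7 LD2_c17 LD3_c23)) = (LP (LK LD1_c3 LD2_c38 LD3_c31)) :=
  Lre_d IH (LK LD1_c7 LD2_c17 LD3_c23) (LK LD1_c3 LD2_c38 LD3_c31) Lrfl Lrfl
theorem f489384 : Led Lsl_cf (LP (LK LD1_c13 LD2_c27 LD3_c4)) = (LP (LK LD1_c7 LD2_c19 LD3_c1)) :=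
  Lgr Lrot169 (Lpr_gt (f108357 IH) (Lpr_ct (f108353 IH) (Lpe (K8.f98547 IH) (Lpe (K24.f98569 IH) (Lpr_gf (K34.f455811 IH) (Lpqs (K34.f460763 IH) (Lpe (K28.f450704 IH) (Lpr_gf (K33.f466195 IH) (Lpe (f208975 IH) (Lpr_gt (K35.f439524 IH) (Lpn (LP (LK LD1_c7 LD2_c19 LD3_c1)))))))))))))
theorem f455387 : Led Lsl_et (LP (LK LD1_c1 LD2_c40 LD3_c37)) = (LP (LK LD1_c3 LD2_c28 LD3_c3)) :=
  Lre_e IH (LK LD1_c1 LD2_c40 LD3_c37) (LK LD1_c3 LD2_c28 LD3_c3) Lrfl Lrfl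
theorem f535402 : Led Lsl_bt (LP (LK LD1_c3 LD2_c28 LD3_c3)) = K35.v2767 :=
  Lgr Lrot119 (Lpe (f455387 IH) (Lpe (K28.f458562 IH) (Lpr_ef (K35.f535400 IH) (Lpn K35.v2767))))
theorem f535407 : Led Lsl_bt (LP (LK LD1_c7 LD2_c19 LD3_c1)) = (LP (LK LD1_c6 LD2_c58 LD3_c21)) :=
  Lgr Lrot95 (Lpr_df (K35.f535404 IH) (Lpe (f535402 IH) (Lpe (K29.f446444 IH) (Lpn (LP (LK LD1_c6 LD2_c58 LD3_c21))))))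
theorem f565958 : Led Lsl_bf (LP (LK LD1_c7 LD2_c19 LD3_c12)) = (LP (LK LD1_c6 LD2_c13 LD3_c54)) :=
  Lgr Lrot156 (Lpe (K29.f470661 IH) (Lpe (f535407 IH) (Lpe (f489384 IH) (Lpr_gt (f108357 IH) (Lpe (K24.f98570 IH) (Lpr_bt (f565956 IH) (Lpr_gt (K40.f70196 IH) (Lpr_ct (K40.f561093 IH) (Lpr_gt (K40.f205548 IH) (Lpe (K11.f205477 IH) (Lpn (LP (LK LD1_c6 LD2_c13 LD3_c54)))))))))))))
theorem f565964 : Led Lsl_et (LP (LK LD1_c7 LD2_c19 LD3_c12)) = (LP (LK LD1_c8 LD2_c50 LD3_c34)) :=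
  Lgr Lrot74 (Lpr_bf (f565958 IH) (Lpe (K11.f38132 IH) (Lpe (K4.f38137 IH) (Lpn (LP (LK LD1_c8 LD2_c50 LD3_c34))))))
theorem f565972 : Led Lsl_ef (LP (LK LD1_c7 LD2_c19 LD3_c12)) = (LP (LK LD1_c8 LD2_c50 LD3_c34)) :=
  Lgr Lrot88 (Lpr_et (f565964 IH) (Lpn (LP (LK LD1_c8 LD2_c50 LD3_c34))))
theorem f38224 : Led Lsl_ft (LP (LK LD1_c4 LD2_c26 LD3_c30)) = (LP (LK LD1_c8 LD2_c50 LD3_c34)) :=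
  Lre_f IH (LK LD1_c4 LD2_c26 LD3_c30) (LK LD1_c8 LD2_c50 LD3_c34) Lrfl Lrfl
theorem f38223 : Led Lsl_et (LP (LK LD1_c2 LD2_c10 LD3_c28)) = (LP (LK LD1_c4 LD2_c26 LD3_c30)) :=
  Lre_e IH (LK LD1_c2 LD2_c10 LD3_c28) (LK LD1_c4 LD2_c26 LD3_c30) Lrfl Lrfl
theorem f565980 : Led Lsl_et (LP (LK LD1_c3 LD2_c39 LD3_c29)) = (LP (LK LD1_c3 LD2_c3 LD3_c45)) :=
  Lgr Lrot69 (Lpe (K28.f439586 IH) (Lpr_ef (f565972 IH) (Lpe (f38224 IH) (Lpe (f38223 IH) (Lpr_ff (K28.f38111 IH) (Lpn (LP (LK LD1_c3 LD2_c3 LD3_c45))))))))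
theorem f93152 : Led Lsl_dt (LP (LK LD1_c3 LD2_c39 LD3_c29)) = (LP (LK LD1_c1 LD2_c46 LD3_c41)) :=
  Lre_d IH (LK LD1_c3 LD2_c39 LD3_c29) (LK LD1_c1 LD2_c46 LD3_c41) Lrfl Lrfl
theorem f93168 : Led Lsl_et (LP (LK LD1_c7 LD2_c6 LD3_c18)) = (LP (LK LD1_c13 LD2_c27 LD3_c50)) :=
  Lre_e IH (LK LD1_c7 LD2_c6 LD3_c18) (LK LD1_c13 LD2_c27 LD3_c50) Lrfl Lrfl
theorem f38580 : Led Lsl_et (LP (LK LD1_c4 LD2_c25 LD3_c20)) = (LP (LK LD1_c8 LD2_c48 LD3_c11)) :=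
  Lre_e IH (LK LD1_c4 LD2_c25 LD3_c20) (LK LD1_c8 LD2_c48 LD3_c11) Lrfl Lrfl
theorem f565986 : Led Lsl_gf (LP (LK LD1_c13 LD2_c27 LD3_c50)) = (LP (LK LD1_c8 LD2_c48 LD3_c11)) :=
  Lgr Lrot141 (Lpe (f93168 IH) (Lpr_dt (K33.f93161 IH) (Lpe (K24.f93157 IH) (Lpe (f93152 IH) (Lpr_et (f565980 IH) (Lpr_gt (K28.f38225 IH) (Lpe (K28.f202057 IH) (Lpe (K6.f38573 IH) (Lpe (K4.f38579 IH) (Lpr_et (f38580 IH) (Lpn (LP (LK LD1_c8 LD2_c48 LD3_c11)))))))))))))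
theorem f524949 : Led Lsl_dt (LP (LK LD1_c13 LD2_c31 LD3_c47)) = (LP (LK LD1_c13 LD2_c27 LD3_c50)) :=
  Lre_d IH (LK LD1_c13 LD2_c31 LD3_c47) (LK LD1_c13 LD2_c27 LD3_c50) Lrfl Lrfl
theorem f524948 : Led Lsl_et (LP (LK LD1_c13 LD2_c31 LD3_c47)) = (LP (LK LD1_c7 LD2_c8 LD3_c39)) :=
  Lre_e IH (LK LD1_c13 LD2_c31 LD3_c47) (LK LD1_c7 LD2_c8 LD3_c39) Lrfl Lrfl
theorem f524943 : Led Lsl_gf (LP (LK LD1_c3 LD2_c33 LD3_c55)) = (LP (LK LD1_c7 LD2_c8 LD3_c39)) :=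
  Lgr Lrot76 (Lpr_af (K35.f524935 IH) (Lpe (K35.f524562 IH) (Lpr_gt (K24.f93154 IH) (Lpn (LP (LK LD1_c7 LD2_c8 LD3_c39))))))
theorem f6535 : Led Lsl_et (LP (LK LD1_c1 LD2_c43 LD3_c40)) = (LP (LK LD1_c3 LD2_c33 LD3_c47)) :=
  Lre_e IH (LK LD1_c1 LD2_c43 LD3_c40) (LK LD1_c3 LD2_c33 LD3_c47) Lrfl Lrfl
theorem f6466 : Led Lsl_gt (LP (LK LD1_c3 LD2_c33 LD3_c47)) = (LP (LK LD1_c7 LD2_c8 LD3_c27)) :=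
  Lre_g IH (LK LD1_c3 LD2_c33 LD3_c47) (LK LD1_c7 LD2_c8 LD3_c27) Lrfl Lrfl
theorem f98166 : Led Lsl_et (LP (LK LD1_c13 LD2_c31 LD3_c26)) = (LP (LK LD1_c7 LD2_c8 LD3_c27)) :=
  Lre_e IH (LK LD1_c13 LD2_c31 LD3_c26) (LK LD1_c7 LD2_c8 LD3_c27) Lrfl Lrfl
theorem f565992 : Led Lsl_dt (LP (LK LD1_c13 LD2_c31 LD3_c26)) = (LP (LK LD1_c8 LD2_c48 LD3_c11)) :=
  Lgr Lrot136 (Lpr_et (f98166 IH) (Lpe (f6466 IH) (Lpe (f6535 IH) (Lpr_dt (K34.f6008 IH) (Lpe (K24.f6071 IH) (Lpe (K34.f456039 IH) (Lpr_gf (f524943 IH) (Lpe (f524948 IH) (Lpr_dt (f524949 IH) (Lpr_gf (f565986 IH) (Lpn (LP (LK LD1_c8 LD2_c48 LD3_c11)))))))))))))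
theorem f566003 : Led Lsl_ft (LP (LK LD1_c22 LD2_c52 LD3_c45)) = (LP (LK LD1_c13 LD2_c31 LD3_c26)) :=
  Lre_f IH (LK LD1_c22 LD2_c52 LD3_c45) (LK LD1_c13 LD2_c31 LD3_c26) Lrfl Lrfl
theorem f72154 : Led Lsl_ft (LP (LK LD1_c8 LD2_c48 LD3_c11)) = (LP (LK LD1_c16 LD2_c28 LD3_c19)) :=
  Lre_f IH (LK LD1_c8 LD2_c48 LD3_c11) (LK LD1_c16 LD2_c28 LD3_c19) Lrfl Lrfl
theorem f566004 : Led Lsl_df (LP (LK LD1_c22 LD2_c52 LD3_c45)) = (LP (LK LD1_c16 LD2_c28 LD3_c19)) :=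
  Lgr Lrot78 (Lpr_ft (f566003 IH) (Lpr_dt (f565992 IH) (Lpr_ft (f72154 IH) (Lpn (LP (LK LD1_c16 LD2_c28 LD3_c19))))))
theorem f566013 : Led Lsl_dt (LP (LK LD1_c22 LD2_c52 LD3_c45)) = (LP (LK LD1_c16 LD2_c28 LD3_c19)) :=
  Lgr Lrot42 (Lpr_df (f566004 IH) (Lpn (LP (LK LD1_c16 LD2_c28 LD3_c19))))
theorem f70977 : Led Lsl_bt (LP (LK LD1_c11 LD2_c33 LD3_c39)) = (LP (LK LD1_c20 LD2_c30 LD3_c47)) :=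
  Lre_b IH (LK LD1_c11 LD2_c33 LD3_c39) (LK LD1_c20 LD2_c30 LD3_c47) Lrfl Lrfl
theorem f72142 : Led Lsl_bt (LP (LK LD1_c16 LD2_c28 LD3_c19)) = (LP (LK LD1_c17 LD2_c0 LD3_c41)) :=
  Lgr Lrot119 (Lpr_ef (K2.f72133 IH) (Lpe (f70977 IH) (Lpe (K2.f70962 IH) (Lpn (LP (LK LD1_c17 LD2_c0 LD3_c41))))))
theorem f70990 : Led Lsl_dt (LP (LK LD1_c17 LD2_c0 LD3_c41)) = (LP (LK LD1_c26 LD2_c55 LD3_c42)) :=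
  Lre_d IH (LK LD1_c17 LD2_c0 LD3_c41) (LK LD1_c26 LD2_c55 LD3_c42) Lrfl Lrfl
theorem f566017 : Led Lsl_bf (LP (LK LD1_c22 LD2_c52 LD3_c45)) = (LP (LK LD1_c26 LD2_c55 LD3_c42)) :=
  Lgr Lrot93 (Lpr_dt (f566013 IH) (Lpr_bt (f72142 IH) (Lpr_dt (f70990 IH) (Lpn (LP (LK LD1_c26 LD2_c55 LD3_c42))))))
theorem f566019 : Led Lsl_ft (LP (LK LD1_c17 LD2_c0 LD3_c40)) = (LP (LK LD1_c26 LD2_c55 LD3_c42)) :=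
  Lre_f IH (LK LD1_c17 LD2_c0 LD3_c40) (LK LD1_c26 LD2_c55 LD3_c42) Lrfl Lrfl
theorem f566020 : Led Lsl_bt (LP (LK LD1_c13 LD2_c31 LD3_c26)) = (LP (LK LD1_c17 LD2_c0 LD3_c40)) :=
  Lgr Lrot35 (Lpe (f566003 IH) (Lpr_bf (f566017 IH) (Lpe (f566019 IH) (Lpn (LP (LK LD1_c17 LD2_c0 LD3_c40))))))
theorem f566002 : Led Lsl_et (LP (LK LD1_c7 LD2_c8 LD3_c27)) = (LP (LK LD1_c13 LD2_c31 LD3_c26)) :=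
  Lre_e IH (LK LD1_c7 LD2_c8 LD3_c27) (LK LD1_c13 LD2_c31 LD3_c26) Lrfl Lrfl
theorem f424558 : Led Lsl_et (LP (LK LD1_c17 LD2_c0 LD3_c40)) = (LP (LK LD1_c9 LD2_c8 LD3_c12)) :=
  Lre_e IH (LK LD1_c17 LD2_c0 LD3_c40) (LK LD1_c9 LD2_c8 LD3_c12) Lrfl Lrfl
theorem f566022 : Led Lsl_bf (LP (LK LD1_c7 LD2_c8 LD3_c27)) = (LP (LK LD1_c9 LD2_c8 LD3_c12)) :=
  Lgr Lrot96 (Lpr_et (f566002 IH) (Lpr_bt (f566020 IH) (Lpr_et (f424558 IH) (Lpn (LP (LK LD1_c9 LD2_c8 LD3_c12))))))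
theorem f6304 : Led Lsl_et (LP (LK LD1_c3 LD2_c33 LD3_c47)) = (LP (LK LD1_c1 LD2_c43 LD3_c40)) :=
  Lre_e IH (LK LD1_c3 LD2_c33 LD3_c47) (LK LD1_c1 LD2_c43 LD3_c40) Lrfl Lrfl
theorem f6305 : Led Lsl_bt (LP (LK LD1_c3 LD2_c37 LD3_c6)) = (LP (LK LD1_c3 LD2_c33 LD3_c47)) :=
  Lgr Lrot119 (Lpe (f6303 IH) (Lpr_bf (K29.f6280 IH) (Lpe (f6304 IH) (Lpn (LP (LK LD1_c3 LD2_c33 LD3_c47))))))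
theorem f6469 : Led Lsl_gt (LP (LK LD1_c13 LD2_c42 LD3_c15)) = (LP (LK LD1_c7 LD2_c14 LD3_c37)) :=
  Lre_g IH (LK LD1_c13 LD2_c42 LD3_c15) (LK LD1_c7 LD2_c14 LD3_c37) Lrfl Lrfl
theorem f418491 : Led Lsl_ct (LP (LK LD1_c9 LD2_c8 LD3_c12)) = (LP (LK LD1_c17 LD2_c0 LD3_c43)) :=
  Lre_c IH (LK LD1_c9 LD2_c8 LD3_c12) (LK LD1_c17 LD2_c0 LD3_c43) Lrfl Lrfl
theorem f420800 : Led Lsl_ft (LP (LK LD1_c4 LD2_c36 LD3_c12)) = (LP (LK LD1_c9 LD2_c8 LD3_c37)) :=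
  Lre_f IH (LK LD1_c4 LD2_c36 LD3_c12) (LK LD1_c9 LD2_c8 LD3_c37) Lrfl Lrfl
theorem f420801 : Led Lsl_bf (LP (LK LD1_c6 LD2_c9 LD3_c17)) = (LP (LK LD1_c9 LD2_c8 LD3_c37)) :=
  Lgr Lrot61 (Lpr_ft (K1.f27257 IH) (Lpr_bt (f420764 IH) (Lpr_ft (f420800 IH) (Lpn (LP (LK LD1_c9 LD2_c8 LD3_c37))))))
theorem f37560 : Led Lsl_bt (LP (LK LD1_c2 LD2_c9 LD3_c57)) = (LP (LK LD1_c4 LD2_c24 LD3_c52)) :=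
  Lre_b IH (LK LD1_c2 LD2_c9 LD3_c57) (LK LD1_c4 LD2_c24 LD3_c52) Lrfl Lrfl
theorem f272534 : Led Lsl_gt (LP (LK LD1_c4 LD2_c24 LD3_c52)) = (LP (LK LD1_c8 LD2_c47 LD3_c12)) :=
  Lre_g IH (LK LD1_c4 LD2_c24 LD3_c52) (LK LD1_c8 LD2_c47 LD3_c12) Lrfl Lrfl
theorem f272535 : Led Lsl_bt (LP (LK LD1_c16 LD2_c26 LD3_c29)) = (LP (LK LD1_c8 LD2_c47 LD3_c12)) :=
  Lre_b IH (LK LD1_c16 LD2_c26 LD3_c29) (LK LD1_c8 LD2_c47 LD3_c12) Lrfl Lrfl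
theorem f272536 : Led Lsl_ct (LP (LK LD1_c16 LD2_c26 LD3_c29)) = (LP (LK LD1_c26 LD2_c23 LD3_c47)) :=
  Lre_c IH (LK LD1_c16 LD2_c26 LD3_c29) (LK LD1_c26 LD2_c23 LD3_c47) Lrfl Lrfl
theorem f420812 : Led Lsl_ct (LP (LK LD1_c9 LD2_c8 LD3_c37)) = (LP (LK LD1_c17 LD2_c1 LD3_c21)) :=
  Lre_c IH (LK LD1_c9 LD2_c8 LD3_c37) (LK LD1_c17 LD2_c1 LD3_c21) Lrfl Lrfl
theorem f420813 : Led Lsl_gt (LP (LK LD1_c26 LD2_c23 LD3_c47)) = (LP (LK LD1_c17 LD2_c1 LD3_c21)) :=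
  Lgr Lrot65 (Lpe (f272536 IH) (Lpr_bt (f272535 IH) (Lpe (f272534 IH) (Lpe (f37560 IH) (Lpr_ct (K12.f35462 IH) (Lpe (K18.f37556 IH) (Lpr_cf (K36.f272531 IH) (Lpr_gf (K12.f38371 IH) (Lpr_bf (f420801 IH) (Lpr_ct (f420812 IH) (Lpn (LP (LK LD1_c17 LD2_c1 LD3_c21)))))))))))))
theorem f420815 : Led Lsl_at (LP (LK LD1_c26 LD2_c55 LD3_c45)) = (LP (LK LD1_c17 LD2_c1 LD3_c21)) :=
  Lre_a IH (LK LD1_c26 LD2_c55 LD3_c45) (LK LD1_c17 LD2_c1 LD3_c21) Lrfl Lrfl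
theorem f420816 : Led Lsl_ft (LP (LK LD1_c17 LD2_c0 LD3_c43)) = (LP (LK LD1_c26 LD2_c55 LD3_c45)) :=
  Lre_f IH (LK LD1_c17 LD2_c0 LD3_c43) (LK LD1_c26 LD2_c55 LD3_c45) Lrfl Lrfl
theorem f420817 : Led Lsl_gf (LP (LK LD1_c26 LD2_c23 LD3_c47)) = (LP (LK LD1_c17 LD2_c0 LD3_c43)) :=
  Lgr Lrot47 (Lpr_gt (f420813 IH) (Lpe (f420815 IH) (Lpe (f420816 IH) (Lpn (LP (LK LD1_c17 LD2_c0 LD3_c43))))))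
theorem f420825 : Led Lsl_gt (LP (LK LD1_c8 LD2_c47 LD3_c12)) = (LP (LK LD1_c16 LD2_c26 LD3_c3)) :=
  Lre_g IH (LK LD1_c8 LD2_c47 LD3_c12) (LK LD1_c16 LD2_c26 LD3_c3) Lrfl Lrfl
theorem f566037 : Led Lsl_cf (LP (LK LD1_c13 LD2_c42 LD3_c15)) = (LP (LK LD1_c16 LD2_c26 LD3_c3)) :=
  Lgr Lrot125 (Lpr_gt (f6469 IH) (Lpe (K36.f6467 IH) (Lpr_bt (f6305 IH) (Lpr_gt (f6466 IH) (Lpr_bf (f566022 IH) (Lpr_ct (f418491 IH) (Lpe (f420817 IH) (Lpe (f272536 IH) (Lpr_bt (f272535 IH) (Lpr_gt (f420825 IH) (Lpn (LP (LK LD1_c16 LD2_c26 LD3_c3)))))))))))))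
theorem f442591 : Led Lsl_ft (LP (LK LD1_c8 LD2_c46 LD3_c60)) = (LP (LK LD1_c16 LD2_c26 LD3_c3)) :=
  Lre_f IH (LK LD1_c8 LD2_c46 LD3_c60) (LK LD1_c16 LD2_c26 LD3_c3) Lrfl Lrfl
theorem f566043 : Led Lsl_ft (LP (LK LD1_c13 LD2_c42 LD3_c15)) = (LP (LK LD1_c16 LD2_c26 LD3_c2)) :=
  Lgr Lrot4 (Lpr_cf (f566037 IH) (Lpe (f442591 IH) (Lpe (f38469 IH) (Lpn (LP (LK LD1_c16 LD2_c26 LD3_c2))))))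
theorem f38488 : Led Lsl_at (LP (LK LD1_c16 LD2_c26 LD3_c2)) = (LP (LK LD1_c8 LD2_c47 LD3_c14)) :=
  Lre_a IH (LK LD1_c16 LD2_c26 LD3_c2) (LK LD1_c8 LD2_c47 LD3_c14) Lrfl Lrfl
theorem f566051 : Led Lsl_gt (LP (LK LD1_c7 LD2_c14 LD3_c37)) = (LP (LK LD1_c8 LD2_c47 LD3_c14)) :=
  Lgr Lrot46 (Lpe (f6469 IH) (Lpr_ft (f566043 IH) (Lpr_at (f38488 IH) (Lpn (LP (LK LD1_c8 LD2_c47 LD3_c14))))))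
theorem f6540 : Led Lsl_gt (LP (LK LD1_c7 LD2_c14 LD3_c36)) = (LP (LK LD1_c3 LD2_c37 LD3_c6)) :=
  Lre_g IH (LK LD1_c7 LD2_c14 LD3_c36) (LK LD1_c3 LD2_c37 LD3_c6) Lrfl Lrfl
theorem f38496 : Led Lsl_ct (LP (LK LD1_c8 LD2_c47 LD3_c14)) = (LP (LK LD1_c4 LD2_c24 LD3_c52)) :=
  Lre_c IH (LK LD1_c8 LD2_c47 LD3_c14) (LK LD1_c4 LD2_c24 LD3_c52) Lrfl Lrfl
theorem f38491 : Led Lsl_dt (LP (LK LD1_c4 LD2_c24 LD3_c52)) = (LP (LK LD1_c2 LD2_c9 LD3_c53)) :=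
  Lre_d IH (LK LD1_c4 LD2_c24 LD3_c52) (LK LD1_c2 LD2_c9 LD3_c53) Lrfl Lrfl
theorem f566061 : Led Lsl_df (LP (LK LD1_c7 LD2_c14 LD3_c36)) = (LP (LK LD1_c6 LD2_c13 LD3_c5)) :=
  Lgr Lrot155 (Lpr_gt (f6540 IH) (Lpr_ct (K36.f6467 IH) (Lpr_gt (f566051 IH) (Lpr_ct (f38496 IH) (Lpr_dt (f38491 IH) (Lpe (K1.f38464 IH) (Lpe (K39.f38493 IH) (Lpe (f38495 IH) (Lpr_gf (f565067 IH) (Lpn (LP (LK LD1_c6 LD2_c13 LD3_c5))))))))))))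
theorem f98289 : Led Lsl_gf (LP (LK LD1_c7 LD2_c14 LD3_c36)) = (LP (LK LD1_c13 LD2_c31 LD3_c15)) :=
  Lgr Lrot47 (Lpr_gt (f6540 IH) (Lpr_af (K36.f98282 IH) (Lpe (K36.f98133 IH) (Lpn (LP (LK LD1_c13 LD2_c31 LD3_c15))))))
theorem f10594 : Led Lsl_et (LP (LK LD1_c3 LD2_c33 LD3_c48)) = (LP (LK LD1_c3 LD2_c37 LD3_c7)) :=
  Lgr Lrot87 (Lpr_ef (K3.f10590 IH) (Lpn (LP (LK LD1_c3 LD2_c37 LD3_c7))))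
theorem f98175 : Led Lsl_at (LP (LK LD1_c3 LD2_c37 LD3_c7)) = (LP (LK LD1_c7 LD2_c8 LD3_c20)) :=
  Lgr Lrot80 (Lpe (f10594 IH) (Lpe (K36.f6149 IH) (Lpr_ef (K36.f98170 IH) (Lpn (LP (LK LD1_c7 LD2_c8 LD3_c20))))))
theorem f6548 : Led Lsl_gt (LP (LK LD1_c1 LD2_c45 LD3_c26)) = (LP (LK LD1_c3 LD2_c37 LD3_c4)) :=
  Lre_g IH (LK LD1_c1 LD2_c45 LD3_c26) (LK LD1_c3 LD2_c37 LD3_c4) Lrfl Lrfl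
theorem f98426 : Led Lsl_gt (LP (LK LD1_c3 LD2_c37 LD3_c4)) = (LP (LK LD1_c7 LD2_c8 LD3_c20)) :=
  Lgr Lrot46 (Lpe (f6548 IH) (Lpr_ft (K3.f6523 IH) (Lpr_at (f98175 IH) (Lpn (LP (LK LD1_c7 LD2_c8 LD3_c20))))))
theorem f17612 : Led Lsl_et (LP (LK LD1_c7 LD2_c14 LD3_c32)) = (LP (LK LD1_c3 LD2_c37 LD3_c4)) :=
  Lre_e IH (LK LD1_c7 LD2_c14 LD3_c32) (LK LD1_c3 LD2_c37 LD3_c4) Lrfl Lrfl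
theorem f17613 : Led Lsl_dt (LP (LK LD1_c7 LD2_c14 LD3_c32)) = (LP (LK LD1_c13 LD2_c42 LD3_c8)) :=
  Lre_d IH (LK LD1_c7 LD2_c14 LD3_c32) (LK LD1_c13 LD2_c42 LD3_c8) Lrfl Lrfl
theorem f5213 : Led Lsl_dt (LP (LK LD1_c3 LD2_c38 LD3_c15)) = (LP (LK LD1_c7 LD2_c16 LD3_c52)) :=
  Lre_d IH (LK LD1_c3 LD2_c38 LD3_c15) (LK LD1_c7 LD2_c16 LD3_c52) Lrfl Lrfl
theorem f17614 : Led Lsl_gt (LP (LK LD1_c13 LD2_c42 LD3_c8)) = (LP (LK LD1_c7 LD2_c16 LD3_c52)) :=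
  Lgr Lrot112 (Lpe (f17613 IH) (Lpr_et (f17612 IH) (Lpe (f6548 IH) (Lpe (K3.f6120 IH) (Lpr_dt (K3.f6096 IH) (Lpe (K2.f6681 IH) (Lpe (K3.f10485 IH) (Lpr_gf (K3.f17501 IH) (Lpe (K0.f5030 IH) (Lpr_dt (f5213 IH) (Lpn (LP (LK LD1_c7 LD2_c16 LD3_c52)))))))))))))
theorem f5596 : Led Lsl_at (LP (LK LD1_c3 LD2_c38 LD3_c36)) = (LP (LK LD1_c7 LD2_c16 LD3_c52)) :=
  Lre_a IH (LK LD1_c3 LD2_c38 LD3_c36) (LK LD1_c7 LD2_c16 LD3_c52) Lrfl Lrfl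
theorem f5518 : Led Lsl_ft (LP (LK LD1_c7 LD2_c17 LD3_c35)) = (LP (LK LD1_c3 LD2_c38 LD3_c36)) :=
  Lre_f IH (LK LD1_c7 LD2_c17 LD3_c35) (LK LD1_c3 LD2_c38 LD3_c36) Lrfl Lrfl
theorem f17617 : Led Lsl_gf (LP (LK LD1_c13 LD2_c42 LD3_c8)) = (LP (LK LD1_c7 LD2_c17 LD3_c35)) :=
  Lgr Lrot47 (Lpr_gt (f17614 IH) (Lpe (f5596 IH) (Lpe (f5518 IH) (Lpn (LP (LK LD1_c7 LD2_c17 LD3_c35))))))
theorem f193494 : Led Lsl_et (LP (LK LD1_c6 LD2_c13 LD3_c5)) = (LP (LK LD1_c4 LD2_c2 LD3_c6)) :=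
  Lgr Lrot74 (Lpe (f193493 IH) (Lpr_ef (K12.f193491 IH) (Lpe (K35.f190291 IH) (Lpn (LP (LK LD1_c4 LD2_c2 LD3_c6))))))
theorem f566077 : Led Lsl_gf (LP (LK LD1_c3 LD2_c39 LD3_c34)) = (LP (LK LD1_c4 LD2_c2 LD3_c6)) :=
  Lgr Lrot141 (Lpe (f5161 IH) (Lpr_dt (K24.f5212 IH) (Lpe (f17617 IH) (Lpe (f17613 IH) (Lpr_et (f17612 IH) (Lpr_gt (f98426 IH) (Lpr_dt (f98189 IH) (Lpe (f98289 IH) (Lpr_df (f566061 IH) (Lpr_et (f193494 IH) (Lpn (LP (LK LD1_c4 LD2_c2 LD3_c6)))))))))))))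
theorem f5421 : Led Lsl_bt (LP (LK LD1_c3 LD2_c38 LD3_c37)) = (LP (LK LD1_c3 LD2_c39 LD3_c34)) :=
  Lgr Lrot127 (Lpr_bf (K24.f5417 IH) (Lpn (LP (LK LD1_c3 LD2_c39 LD3_c34))))
theorem f5037 : Led Lsl_ct (LP (LK LD1_c3 LD2_c38 LD3_c37)) = (LP (LK LD1_c7 LD2_c17 LD3_c27)) :=
  Lre_c IH (LK LD1_c3 LD2_c38 LD3_c37) (LK LD1_c7 LD2_c17 LD3_c27) Lrfl Lrfl
theorem f5121 : Led Lsl_dt (LP (LK LD1_c1 LD2_c46 LD3_c42)) = (LP (LK LD1_c3 LD2_c39 LD3_c33)) :=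
  Lre_d IH (LK LD1_c1 LD2_c46 LD3_c42) (LK LD1_c3 LD2_c39 LD3_c33) Lrfl Lrfl
theorem f5122 : Led Lsl_at (LP (LK LD1_c3 LD2_c38 LD3_c33)) = (LP (LK LD1_c1 LD2_c46 LD3_c42)) :=
  Lgr Lrot51 (Lpe (K0.f4989 IH) (Lpr_af (K0.f5112 IH) (Lpe (f5121 IH) (Lpn (LP (LK LD1_c1 LD2_c46 LD3_c42))))))
theorem f5196 : Led Lsl_gt (LP (LK LD1_c3 LD2_c39 LD3_c32)) = (LP (LK LD1_c1 LD2_c46 LD3_c42)) :=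
  Lre_g IH (LK LD1_c3 LD2_c39 LD3_c32) (LK LD1_c1 LD2_c46 LD3_c42) Lrfl Lrfl
theorem f5686 : Led Lsl_gt (LP (LK LD1_c7 LD2_c17 LD3_c27)) = (LP (LK LD1_c3 LD2_c39 LD3_c32)) :=
  Lgr Lrot5 (Lpr_ft (f5016 IH) (Lpr_at (f5122 IH) (Lpe (f5196 IH) (Lpn (LP (LK LD1_c3 LD2_c39 LD3_c32))))))
theorem f193105 : Led Lsl_bt (LP (LK LD1_c4 LD2_c4 LD3_c50)) = (LP (LK LD1_c1 LD2_c59 LD3_c29)) :=
  Lre_b IH (LK LD1_c4 LD2_c4 LD3_c50) (LK LD1_c1 LD2_c59 LD3_c29) Lrfl Lrfl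
theorem f566085 : Led Lsl_cf (LP (LK LD1_c3 LD2_c39 LD3_c32)) = (LP (LK LD1_c4 LD2_c4 LD3_c50)) :=
  Lgr Lrot58 (Lpe (f5686 IH) (Lpe (f5037 IH) (Lpr_bt (f5421 IH) (Lpr_gf (f566077 IH) (Lpe (K35.f34651 IH) (Lpr_ct (K13.f34065 IH) (Lpr_gf (K13.f243018 IH) (Lpe (K13.f194134 IH) (Lpe (K20.f262416 IH) (Lpe (f193105 IH) (Lpn (LP (LK LD1_c4 LD2_c4 LD3_c50)))))))))))))
theorem f542475 : Led Lsl_bt (LP (LK LD1_c2 LD2_c7 LD3_c46)) = (LP (LK LD1_c4 LD2_c2 LD3_c0)) :=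
  Lgr Lrot22 (Lpe (K19.f240623 IH) (Lpe (K19.f31041 IH) (Lpe (K11.f201418 IH) (Lpr_gf (K11.f201429 IH) (Lpe (K37.f201432 IH) (Lpr_ct (K32.f185090 IH) (Lpr_gf (K40.f495442 IH) (Lpqs (K40.f542404 IH) (Lpr_cf (K16.f181709 IH) (Lpr_bt (K35.f80941 IH) (Lpe (K10.f194127 IH) (Lpn (LP (LK LD1_c4 LD2_c2 LD3_c0))))))))))))))
theorem f201556 : Led Lsl_bt (LP (LK LD1_c2 LD2_c33 LD3_c42)) = (LP (LK LD1_c5 LD2_c13 LD3_c37)) :=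
  Lre_b IH (LK LD1_c2 LD2_c33 LD3_c42) (LK LD1_c5 LD2_c13 LD3_c37) Lrfl Lrfl
theorem f566103 : Led Lsl_gf (LP (LK LD1_c3 LD2_c38 LD3_c37)) = (LP (LK LD1_c5 LD2_c13 LD3_c37)) :=
  Lgr Lrot181 (Lpr_ct (f5037 IH) (Lpr_gt (f5686 IH) (Lpr_cf (f566085 IH) (Lpr_bt (f193105 IH) (Lpr_gt (K20.f262416 IH) (Lpe (f542475 IH) (Lpe (K19.f240623 IH) (Lpr_gt (K19.f31589 IH) (Lpr_cf (K11.f201557 IH) (Lpr_bt (f201556 IH) (Lpn (LP (LK LD1_c5 LD2_c13 LD3_c37)))))))))))))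
theorem f201565 : Led Lsl_ef (LP (LK LD1_c4 LD2_c25 LD3_c29)) = (LP (LK LD1_c5 LD2_c13 LD3_c37)) :=
  Lgr Lrot88 (Lpr_et (K36.f201561 IH) (Lpn (LP (LK LD1_c5 LD2_c13 LD3_c37))))
theorem f201567 : Led Lsl_ct (LP (LK LD1_c4 LD2_c20 LD3_c40)) = (LP (LK LD1_c5 LD2_c13 LD3_c37)) :=
  Lgr Lrot15 (Lpr_ef (K36.f35803 IH) (Lpe (f38403 IH) (Lpr_ef (f201565 IH) (Lpn (LP (LK LD1_c5 LD2_c13 LD3_c37))))))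
theorem f160723 : Led Lsl_gt (LP (LK LD1_c8 LD2_c48 LD3_c60)) = (LP (LK LD1_c4 LD2_c25 LD3_c45)) :=
  Lre_g IH (LK LD1_c8 LD2_c48 LD3_c60) (LK LD1_c4 LD2_c25 LD3_c45) Lrfl Lrfl
theorem f566111 : Led Lsl_bt (LP (LK LD1_c7 LD2_c17 LD3_c27)) = (LP (LK LD1_c8 LD2_c48 LD3_c60)) :=
  Lgr Lrot130 (Lpr_ct (f5160 IH) (Lpr_gf (f566103 IH) (Lpe (f201567 IH) (Lpr_bt (K36.f28637 IH) (Lpe (K13.f31772 IH) (Lpe (K32.f31776 IH) (Lpr_ct (K32.f402909 IH) (Lpr_gf (K36.f427892 IH) (Lpr_cf (K36.f203304 IH) (Lpe (f160723 IH) (Lpn (LP (LK LD1_c8 LD2_c48 LD3_c60)))))))))))))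
theorem f5032 : Led Lsl_ft (LP (LK LD1_c3 LD2_c38 LD3_c33)) = (LP (LK LD1_c7 LD2_c17 LD3_c27)) :=
  Lre_f IH (LK LD1_c3 LD2_c38 LD3_c33) (LK LD1_c7 LD2_c17 LD3_c27) Lrfl Lrfl
theorem f5411 : Led Lsl_bt (LP (LK LD1_c7 LD2_c17 LD3_c24)) = (LP (LK LD1_c3 LD2_c38 LD3_c33)) :=
  Lre_b IH (LK LD1_c7 LD2_c17 LD3_c24) (LK LD1_c3 LD2_c38 LD3_c33) Lrfl Lrfl
theorem f566124 : Led Lsl_ff (LP (LK LD1_c7 LD2_c17 LD3_c24)) = (LP (LK LD1_c8 LD2_c48 LD3_c60)) :=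
  Lgr Lrot25 (Lpr_bt (f5411 IH) (Lpr_ft (f5032 IH) (Lpr_bt (f566111 IH) (Lpn (LP (LK LD1_c8 LD2_c48 LD3_c60))))))
theorem f5221 : Led Lsl_at (LP (LK LD1_c3 LD2_c38 LD3_c15)) = (LP (LK LD1_c1 LD2_c46 LD3_c16)) :=
  Lre_a IH (LK LD1_c3 LD2_c38 LD3_c15) (LK LD1_c1 LD2_c46 LD3_c16) Lrfl Lrfl
theorem f5172 : Led Lsl_bt (LP (LK LD1_c7 LD2_c16 LD3_c47)) = (LP (LK LD1_c3 LD2_c38 LD3_c15)) :=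
  Lre_b IH (LK LD1_c7 LD2_c16 LD3_c47) (LK LD1_c3 LD2_c38 LD3_c15) Lrfl Lrfl
theorem f5406 : Led Lsl_bt (LP (LK LD1_c3 LD2_c38 LD3_c33)) = (LP (LK LD1_c7 LD2_c17 LD3_c24)) :=
  Lre_b IH (LK LD1_c3 LD2_c38 LD3_c33) (LK LD1_c7 LD2_c17 LD3_c24) Lrfl Lrfl
theorem f5407 : Led Lsl_af (LP (LK LD1_c7 LD2_c16 LD3_c47)) = (LP (LK LD1_c7 LD2_c17 LD3_c24)) :=
  Lgr Lrot36 (Lpr_bt (f5172 IH) (Lpr_at (f5221 IH) (Lpr_bt (K24.f5404 IH) (Lpe (f5170 IH) (Lpr_bt (f5406 IH) (Lpn (LP (LK LD1_c7 LD2_c17 LD3_c24))))))))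
theorem f566136 : Led Lsl_gf (LP (LK LD1_c7 LD2_c16 LD3_c47)) = (LP (LK LD1_c4 LD2_c25 LD3_c45)) :=
  Lgr Lrot76 (Lpr_af (f5407 IH) (Lpr_ff (f566124 IH) (Lpr_gt (f160723 IH) (Lpn (LP (LK LD1_c4 LD2_c25 LD3_c45))))))
theorem f5194 : Led Lsl_bt (LP (LK LD1_c3 LD2_c38 LD3_c15)) = (LP (LK LD1_c7 LD2_c16 LD3_c47)) :=
  Lre_b IH (LK LD1_c3 LD2_c38 LD3_c15) (LK LD1_c7 LD2_c16 LD3_c47) Lrfl Lrfl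
theorem f5185 : Led Lsl_gt (LP (LK LD1_c1 LD2_c46 LD3_c42)) = (LP (LK LD1_c3 LD2_c39 LD3_c31)) :=
  Lre_g IH (LK LD1_c1 LD2_c46 LD3_c42) (LK LD1_c3 LD2_c39 LD3_c31) Lrfl Lrfl
theorem f5197 : Led Lsl_ct (LP (LK LD1_c7 LD2_c19 LD3_c13)) = (LP (LK LD1_c3 LD2_c39 LD3_c31)) :=
  Lre_c IH (LK LD1_c7 LD2_c19 LD3_c13) (LK LD1_c3 LD2_c39 LD3_c31) Lrfl Lrfl
theorem f203344 : Led Lsl_bt (LP (LK LD1_c2 LD2_c10 LD3_c15)) = (LP (LK LD1_c4 LD2_c25 LD3_c45)) :=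
  Lre_b IH (LK LD1_c2 LD2_c10 LD3_c15) (LK LD1_c4 LD2_c25 LD3_c45) Lrfl Lrfl
theorem f566140 : Led Lsl_bt (LP (LK LD1_c7 LD2_c19 LD3_c13)) = (LP (LK LD1_c4 LD2_c37 LD3_c4)) :=
  Lgr Lrot130 (Lpr_ct (f5197 IH) (Lpe (f5185 IH) (Lpe (K0.f5164 IH) (Lpr_bt (f5194 IH) (Lpr_gf (f566136 IH) (Lpe (f203344 IH) (Lpr_ct (K36.f421409 IH) (Lpe (K36.f428077 IH) (Lpe (K36.f421471 IH) (Lpe (K40.f557669 IH) (Lpn (LP (LK LD1_c4 LD2_c37 LD3_c4)))))))))))))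
theorem f420971 : Led Lsl_ct (LP (LK LD1_c5 LD2_c53 LD3_c59)) = (LP (LK LD1_c2 LD2_c53 LD3_c21)) :=
  Lre_c IH (LK LD1_c5 LD2_c53 LD3_c59) (LK LD1_c2 LD2_c53 LD3_c21) Lrfl Lrfl
theorem f201417 : Led Lsl_bt (LP (LK LD1_c2 LD2_c53 LD3_c18)) = (LP (LK LD1_c5 LD2_c53 LD3_c50)) :=
  Lre_b IH (LK LD1_c2 LD2_c53 LD3_c18) (LK LD1_c5 LD2_c53 LD3_c50) Lrfl Lrfl
theorem f566157 : Led Lsl_gf (LP (LK LD1_c3 LD2_c38 LD3_c15)) = (LP (LK LD1_c5 LD2_c53 LD3_c50)) :=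
  Lgr Lrot181 (Lpr_ct (K0.f5164 IH) (Lpr_gt (f5185 IH) (Lpe (f5197 IH) (Lpr_bt (f566140 IH) (Lpr_gt (K40.f557669 IH) (Lpe (K36.f421472 IH) (Lpr_ct (f420971 IH) (Lpr_gt (K37.f138516 IH) (Lpe (K37.f71813 IH) (Lpr_bt (f201417 IH) (Lpn (LP (LK LD1_c5 LD2_c53 LD3_c50)))))))))))))
theorem f5180 : Led Lsl_at (LP (LK LD1_c13 LD2_c46 LD3_c43)) = (LP (LK LD1_c7 LD2_c17 LD3_c35)) :=
  Lre_a IH (LK LD1_c13 LD2_c46 LD3_c43) (LK LD1_c7 LD2_c17 LD3_c35) Lrfl Lrfl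
theorem f5179 : Led Lsl_ft (LP (LK LD1_c7 LD2_c16 LD3_c52)) = (LP (LK LD1_c13 LD2_c46 LD3_c43)) :=
  Lre_f IH (LK LD1_c7 LD2_c16 LD3_c52) (LK LD1_c13 LD2_c46 LD3_c43) Lrfl Lrfl
theorem f565695 : Led Lsl_gt (LP (LK LD1_c7 LD2_c16 LD3_c52)) = (LP (LK LD1_c10 LD2_c1 LD3_c25)) :=
  Lgr Lrot5 (Lpr_ft (f5179 IH) (Lpr_at (f5180 IH) (Lpr_gf (f565693 IH) (Lpn (LP (LK LD1_c10 LD2_c1 LD3_c25))))))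
theorem f566165 : Led Lsl_gt (LP (LK LD1_c5 LD2_c46 LD3_c38)) = (LP (LK LD1_c6 LD2_c13 LD3_c44)) :=
  Lgr Lrot131 (Lpr_ef (K13.f240840 IH) (Lpr_dt (f240838 IH) (Lpe (f565695 IH) (Lpe (f5213 IH) (Lpr_gf (f566157 IH) (Lpe (K37.f72098 IH) (Lpr_dt (K2.f72095 IH) (Lpe (K6.f112696 IH) (Lpe (f202785 IH) (Lpr_et (f420379 IH) (Lpn (LP (LK LD1_c6 LD2_c13 LD3_c44)))))))))))))
theorem f181599 : Led Lsl_ft (LP (LK LD1_c2 LD2_c26 LD3_c23)) = (LP (LK LD1_c1 LD2_c10 LD3_c26)) :=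
  Lre_f IH (LK LD1_c2 LD2_c26 LD3_c23) (LK LD1_c1 LD2_c10 LD3_c26) Lrfl Lrfl
theorem f538872 : Led Lsl_gt (LP (LK LD1_c2 LD2_c24 LD3_c14)) = (LP (LK LD1_c1 LD2_c56 LD3_c45)) :=
  Lgr Lrot46 (Lpr_gf (K35.f538870 IH) (Lpr_ft (f181599 IH) (Lpr_at (K38.f273171 IH) (Lpn (LP (LK LD1_c1 LD2_c56 LD3_c45))))))
theorem f80757 : Led Lsl_dt (LP (LK LD1_c6 LD2_c13 LD3_c44)) = (LP (LK LD1_c12 LD2_c6 LD3_c11)) :=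
  Lre_d IH (LK LD1_c6 LD2_c13 LD3_c44) (LK LD1_c12 LD2_c6 LD3_c11) Lrfl Lrfl
theorem f566175 : Led Lsl_cf (LP (LK LD1_c9 LD2_c42 LD3_c59)) = (LP (LK LD1_c12 LD2_c6 LD3_c11)) :=
  Lgr Lrot89 (Lpr_bt (K27.f218490 IH) (Lpr_gt (K17.f277523 IH) (Lpr_dt (K17.f178072 IH) (Lpr_ct (K12.f178071 IH) (Lpr_bt (K12.f177959 IH) (Lpe (K9.f177920 IH) (Lpr_dt (K9.f165206 IH) (Lpr_ct (K9.f165205 IH) (Lpr_bt (K13.f171761 IH) (Lpr_gt (K13.f193281 IH) (Lpr_dt (K1.f2988 IH) (Lpr_ct (K8.f2966 IH) (Lpr_bt (K8.f2967 IH) (Lpr_gt (f538872 IH) (Lpe (K13.f197451 IH) (Lpr_ct (K13.f197462 IH) (Lpr_bt (K38.f197464 IH) (Lpr_gt (f566165 IH) (Lpr_dt (f80757 IH) (Lpn (LP (LK LD1_c12 LD2_c6 LD3_c11))))))))))))))))))))))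
theorem f552779 : Led Lsl_ct (LP (LK LD1_c13 LD2_c30 LD3_c9)) = (LP (LK LD1_c17 LD2_c52 LD3_c6)) :=
  Lgr Lrot7 (Lpe (K39.f519649 IH) (Lpr_gf (K39.f552775 IH) (Lpe (K31.f406927 IH) (Lpe (K31.f225111 IH) (Lpe (K18.f225001 IH) (Lpr_gt (K39.f297372 IH) (Lpe (K39.f397390 IH) (Lpe (K38.f312913 IH) (Lpe (K38.f549978 IH) (Lpn (LP (LK LD1_c17 LD2_c52 LD3_c6))))))))))))
theorem f564923 : Led Lsl_at (LP (LK LD1_c4 LD2_c23 LD3_c14)) = (LP (LK LD1_c7 LD2_c7 LD3_c59)) :=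
  Lgr Lrot107 (Lpe (K31.f237282 IH) (Lpr_af (f564897 IH) (Lpe (f98105 IH) (Lpn (LP (LK LD1_c7 LD2_c7 LD3_c59))))))
theorem f565671 : Led Lsl_gt (LP (LK LD1_c7 LD2_c56 LD3_c20)) = (LP (LK LD1_c10 LD2_c39 LD3_c13)) :=
  Lgr Lrot5 (Lpr_ft (K38.f403149 IH) (Lpr_at (f564923 IH) (Lpr_gf (f565669 IH) (Lpn (LP (LK LD1_c10 LD2_c39 LD3_c13))))))
theorem f566189 : Led Lsl_bf (LP (LK LD1_c10 LD2_c39 LD3_c13)) = (LP (LK LD1_c12 LD2_c6 LD3_c11)) :=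
  Lgr Lrot34 (Lpe (f565671 IH) (Lpe (K38.f229858 IH) (Lpr_ct (K13.f229285 IH) (Lpr_gf (K13.f238985 IH) (Lpe (K13.f239093 IH) (Lpe (K13.f239097 IH) (Lpe (K16.f237613 IH) (Lpr_ct (K16.f237690 IH) (Lpr_gf (K38.f550035 IH) (Lpr_cf (f566175 IH) (Lpn (LP (LK LD1_c12 LD2_c6 LD3_c11)))))))))))))
theorem f566191 : Led Lsl_bt (LP (LK LD1_c9 LD2_c2 LD3_c31)) = (LP (LK LD1_c7 LD2_c7 LD3_c59)) :=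
  Lgr Lrot92 (Lpr_ct (K38.f269011 IH) (Lpe (K38.f281768 IH) (Lpe (K38.f549912 IH) (Lpr_bt (K38.f549933 IH) (Lpe (K39.f552792 IH) (Lpr_ct (f552779 IH) (Lpr_gt (K38.f168709 IH) (Lpr_cf (f566175 IH) (Lpe (f566189 IH) (Lpe (f565669 IH) (Lpn (LP (LK LD1_c7 LD2_c7 LD3_c59)))))))))))))
theorem f281765 : Led Lsl_bt (LP (LK LD1_c26 LD2_c49 LD3_c42)) = (LP (LK LD1_c16 LD2_c52 LD3_c50)) :=
  Lre_b IH (LK LD1_c26 LD2_c49 LD3_c42) (LK LD1_c16 LD2_c52 LD3_c50) Lrfl Lrfl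
theorem f564929 : Led Lsl_bt (LP (LK LD1_c13 LD2_c30 LD3_c40)) = (LP (LK LD1_c22 LD2_c51 LD3_c31)) :=
  Lre_b IH (LK LD1_c13 LD2_c30 LD3_c40) (LK LD1_c22 LD2_c51 LD3_c31) Lrfl Lrfl
theorem f566193 : Led Lsl_cf (LP (LK LD1_c26 LD2_c49 LD3_c42)) = (LP (LK LD1_c22 LD2_c51 LD3_c31)) :=
  Lgr Lrot97 (Lpr_bt (f281765 IH) (Lpr_ct (K16.f268991 IH) (Lpr_bt (f566191 IH) (Lpr_ct (f98105 IH) (Lpr_bt (f564929 IH) (Lpn (LP (LK LD1_c22 LD2_c51 LD3_c31))))))))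
theorem f566198 : Led Lsl_et (LP (LK LD1_c13 LD2_c30 LD3_c46)) = (LP (LK LD1_c22 LD2_c51 LD3_c31)) :=
  Lre_e IH (LK LD1_c13 LD2_c30 LD3_c46) (LK LD1_c22 LD2_c51 LD3_c31) Lrfl Lrfl
theorem f489546 : Led Lsl_ct (LP (LK LD1_c22 LD2_c51 LD3_c24)) = (LP (LK LD1_c13 LD2_c30 LD3_c46)) :=
  Lre_c IH (LK LD1_c22 LD2_c51 LD3_c24) (LK LD1_c13 LD2_c30 LD3_c46) Lrfl Lrfl
theorem f566199 : Led Lsl_et (LP (LK LD1_c26 LD2_c49 LD3_c42)) = (LP (LK LD1_c22 LD2_c51 LD3_c24)) :=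
  Lgr Lrot158 (Lpr_cf (f566193 IH) (Lpe (f566198 IH) (Lpe (f489546 IH) (Lpn (LP (LK LD1_c22 LD2_c51 LD3_c24))))))
theorem f566204 : Led Lsl_ef (LP (LK LD1_c26 LD2_c49 LD3_c42)) = (LP (LK LD1_c22 LD2_c51 LD3_c24)) :=
  Lgr Lrot88 (Lpr_et (f566199 IH) (Lpn (LP (LK LD1_c22 LD2_c51 LD3_c24))))
theorem f471274 : Led Lsl_bt (LP (LK LD1_c13 LD2_c30 LD3_c34)) = (LP (LK LD1_c22 LD2_c51 LD3_c24)) :=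
  Lre_b IH (LK LD1_c13 LD2_c30 LD3_c34) (LK LD1_c22 LD2_c51 LD3_c24) Lrfl Lrfl
theorem f566208 : Led Lsl_et (LP (LK LD1_c16 LD2_c52 LD3_c50)) = (LP (LK LD1_c13 LD2_c30 LD3_c34)) :=
  Lgr Lrot74 (Lpe (f281765 IH) (Lpr_ef (f566204 IH) (Lpe (f471274 IH) (Lpn (LP (LK LD1_c13 LD2_c30 LD3_c34))))))
theorem f281741 : Led Lsl_at (LP (LK LD1_c9 LD2_c2 LD3_c37)) = (LP (LK LD1_c16 LD2_c52 LD3_c50)) :=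
  Lre_a IH (LK LD1_c9 LD2_c2 LD3_c37) (LK LD1_c16 LD2_c52 LD3_c50) Lrfl Lrfl
theorem f411853 : Led Lsl_et (LP (LK LD1_c16 LD2_c53 LD3_c3)) = (LP (LK LD1_c9 LD2_c2 LD3_c37)) :=
  Lre_e IH (LK LD1_c16 LD2_c53 LD3_c3) (LK LD1_c9 LD2_c2 LD3_c37) Lrfl Lrfl
theorem f566212 : Led Lsl_af (LP (LK LD1_c16 LD2_c53 LD3_c3)) = (LP (LK LD1_c13 LD2_c30 LD3_c34)) :=
  Lgr Lrot50 (Lpr_et (f411853 IH) (Lpr_at (f281741 IH) (Lpr_et (f566208 IH) (Lpn (LP (LK LD1_c13 LD2_c30 LD3_c34))))))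
theorem f493679 : Led Lsl_ft (LP (LK LD1_c22 LD2_c51 LD3_c26)) = (LP (LK LD1_c13 LD2_c30 LD3_c34)) :=
  Lre_f IH (LK LD1_c22 LD2_c51 LD3_c26) (LK LD1_c13 LD2_c30 LD3_c34) Lrfl Lrfl
theorem f425318 : Led Lsl_bt (LP (LK LD1_c13 LD2_c30 LD3_c35)) = (LP (LK LD1_c7 LD2_c8 LD3_c1)) :=
  Lre_b IH (LK LD1_c13 LD2_c30 LD3_c35) (LK LD1_c7 LD2_c8 LD3_c1) Lrfl Lrfl
theorem f425390 : Led Lsl_ct (LP (LK LD1_c13 LD2_c30 LD3_c35)) = (LP (LK LD1_c22 LD2_c51 LD3_c26)) :=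
  Lre_c IH (LK LD1_c13 LD2_c30 LD3_c35) (LK LD1_c22 LD2_c51 LD3_c26) Lrfl Lrfl
theorem f464838 : Led Lsl_bt (LP (LK LD1_c13 LD2_c30 LD3_c13)) = (LP (LK LD1_c7 LD2_c7 LD3_c45)) :=
  Lre_b IH (LK LD1_c13 LD2_c30 LD3_c13) (LK LD1_c7 LD2_c7 LD3_c45) Lrfl Lrfl
theorem f464959 : Led Lsl_ct (LP (LK LD1_c13 LD2_c30 LD3_c13)) = (LP (LK LD1_c22 LD2_c51 LD3_c4)) :=
  Lre_c IH (LK LD1_c13 LD2_c30 LD3_c13) (LK LD1_c22 LD2_c51 LD3_c4) Lrfl Lrfl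
theorem f493677 : Led Lsl_gt (LP (LK LD1_c22 LD2_c51 LD3_c26)) = (LP (LK LD1_c22 LD2_c51 LD3_c4)) :=
  Lgr Lrot65 (Lpe (f425390 IH) (Lpr_bt (f425318 IH) (Lpe (K30.f425423 IH) (Lpr_bf (K33.f493665 IH) (Lpe (K33.f489563 IH) (Lpe (K33.f463787 IH) (Lpe (K28.f440158 IH) (Lpe (K28.f97378 IH) (Lpe (f464838 IH) (Lpr_ct (f464959 IH) (Lpn (LP (LK LD1_c22 LD2_c51 LD3_c4)))))))))))))
theorem f566217 : Led Lsl_gf (LP (LK LD1_c16 LD2_c53 LD3_c3)) = (LP (LK LD1_c22 LD2_c51 LD3_c4)) :=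
  Lgr Lrot76 (Lpr_af (f566212 IH) (Lpe (f493679 IH) (Lpr_gt (f493677 IH) (Lpn (LP (LK LD1_c22 LD2_c51 LD3_c4))))))
theorem f181378 : Led Lsl_ct (LP (LK LD1_c16 LD2_c53 LD3_c3)) = (LP (LK LD1_c9 LD2_c2 LD3_c38)) :=
  Lre_c IH (LK LD1_c16 LD2_c53 LD3_c3) (LK LD1_c9 LD2_c2 LD3_c38) Lrfl Lrfl
theorem f63105 : Led Lsl_ct (LP (LK LD1_c7 LD2_c3 LD3_c55)) = (LP (LK LD1_c13 LD2_c23 LD3_c22)) :=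
  Lre_c IH (LK LD1_c7 LD2_c3 LD3_c55) (LK LD1_c13 LD2_c23 LD3_c22) Lrfl Lrfl
theorem f466605 : Led Lsl_bt (LP (LK LD1_c7 LD2_c7 LD3_c45)) = (LP (LK LD1_c13 LD2_c30 LD3_c13)) :=
  Lre_b IH (LK LD1_c7 LD2_c7 LD3_c45) (LK LD1_c13 LD2_c30 LD3_c13) Lrfl Lrfl
theorem f466606 : Led Lsl_df (LP (LK LD1_c13 LD2_c23 LD3_c22)) = (LP (LK LD1_c13 LD2_c30 LD3_c13)) :=
  Lgr Lrot12 (Lpr_bt (K33.f466481 IH) (Lpr_dt (K28.f466601 IH) (Lpr_bt (f466605 IH) (Lpn (LP (LK LD1_c13 LD2_c30 LD3_c13))))))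
theorem f475819 : Led Lsl_ff (LP (LK LD1_c7 LD2_c13 LD3_c46)) = (LP (LK LD1_c13 LD2_c40 LD3_c48)) :=
  Lgr Lrot3 (Lpr_ft (K34.f475812 IH) (Lpn (LP (LK LD1_c13 LD2_c40 LD3_c48))))
theorem f475805 : Led Lsl_bt (LP (LK LD1_c7 LD2_c13 LD3_c46)) = (LP (LK LD1_c13 LD2_c40 LD3_c44)) :=
  Lgr Lrot127 (Lpr_bf (K34.f475801 IH) (Lpn (LP (LK LD1_c13 LD2_c40 LD3_c44))))
theorem f475858 : Led Lsl_ft (LP (LK LD1_c13 LD2_c40 LD3_c44)) = (LP (LK LD1_c7 LD2_c47 LD3_c58)) :=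
  Lgr Lrot75 (Lpe (f475805 IH) (Lpr_ff (f475819 IH) (Lpr_bf (K35.f475259 IH) (Lpn (LP (LK LD1_c7 LD2_c47 LD3_c58))))))
theorem f475860 : Led Lsl_gt (LP (LK LD1_c13 LD2_c40 LD3_c44)) = (LP (LK LD1_c7 LD2_c47 LD3_c57)) :=
  Lgr Lrot5 (Lpr_ft (f475858 IH) (Lpr_at (K34.f475099 IH) (Lpe (f88014 IH) (Lpn (LP (LK LD1_c7 LD2_c47 LD3_c57))))))
theorem f471488 : Led Lsl_dt (LP (LK LD1_c7 LD2_c47 LD3_c57)) = (LP (LK LD1_c14 LD2_c42 LD3_c55)) :=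
  Lre_d IH (LK LD1_c7 LD2_c47 LD3_c57) (LK LD1_c14 LD2_c42 LD3_c55) Lrfl Lrfl
theorem f476525 : Led Lsl_gf (LP (LK LD1_c13 LD2_c30 LD3_c13)) = (LP (LK LD1_c14 LD2_c42 LD3_c55)) :=
  Lgr Lrot143 (Lpe (f466606 IH) (Lpe (f63105 IH) (Lpe (K34.f63089 IH) (Lpr_gf (K34.f476510 IH) (Lpe (K34.f471462 IH) (Lpr_gf (K34.f475796 IH) (Lpr_cf (K34.f461990 IH) (Lpr_gt (f475860 IH) (Lpr_dt (f471488 IH) (Lpn (LP (LK LD1_c14 LD2_c42 LD3_c55))))))))))))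
theorem f471489 : Led Lsl_dt (LP (LK LD1_c14 LD2_c42 LD3_c55)) = (LP (LK LD1_c7 LD2_c47 LD3_c57)) :=
  Lre_d IH (LK LD1_c14 LD2_c42 LD3_c55) (LK LD1_c7 LD2_c47 LD3_c57) Lrfl Lrfl
theorem f566221 : Led Lsl_df (LP (LK LD1_c9 LD2_c2 LD3_c38)) = (LP (LK LD1_c7 LD2_c7 LD3_c51)) :=
  Lgr Lrot162 (Lpe (f181378 IH) (Lpr_gf (f566217 IH) (Lpe (f464959 IH) (Lpr_gf (f476525 IH) (Lpr_dt (f471489 IH) (Lpr_gt (f88014 IH) (Lpr_ct (K34.f88009 IH) (Lpr_gt (K34.f471482 IH) (Lpe (K29.f425484 IH) (Lpn (LP (LK LD1_c7 LD2_c7 LD3_c51))))))))))))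
theorem f181393 : Led Lsl_gt (LP (LK LD1_c16 LD2_c53 LD3_c5)) = (LP (LK LD1_c9 LD2_c2 LD3_c38)) :=
  Lre_g IH (LK LD1_c16 LD2_c53 LD3_c5) (LK LD1_c9 LD2_c2 LD3_c38) Lrfl Lrfl
theorem f559145 : Led Lsl_df (LP (LK LD1_c6 LD2_c14 LD3_c39)) = (LP (LK LD1_c3 LD2_c36 LD3_c55)) :=
  Lgr Lrot38 (Lpr_dt (K40.f559141 IH) (Lpn (LP (LK LD1_c3 LD2_c36 LD3_c55))))
theorem f519732 : Led Lsl_dt (LP (LK LD1_c1 LD2_c46 LD3_c11)) = K37.v2435 :=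
  Lgr Lrot60 (Lpe (K4.f121848 IH) (Lpr_df (K37.f441965 IH) (Lpr_ff (K37.f519731 IH) (Lpn K37.v2435))))
theorem f519734 : Led Lsl_et (LP (LK LD1_c13 LD2_c47 LD3_c8)) = (LP (LK LD1_c7 LD2_c17 LD3_c11)) :=
  Lre_e IH (LK LD1_c13 LD2_c47 LD3_c8) (LK LD1_c7 LD2_c17 LD3_c11) Lrfl Lrfl
theorem f566227 : Led Lsl_df (LP (LK LD1_c16 LD2_c53 LD3_c5)) = (LP (LK LD1_c13 LD2_c47 LD3_c8)) :=
  Lgr Lrot170 (Lpr_gt (f181393 IH) (Lpr_df (f566221 IH) (Lpr_et (K29.f162846 IH) (Lpr_gt (K8.f162848 IH) (Lpe (f559145 IH) (Lpr_gt (K40.f202194 IH) (Lpqs (K37.f543803 IH) (Lpe (f519732 IH) (Lpr_et (K37.f97538 IH) (Lpr_gt (K37.f18037 IH) (Lpe (f519734 IH) (Lpn (LP (LK LD1_c13 LD2_c47 LD3_c8))))))))))))))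
theorem f543594 : Led Lsl_gf (LP (LK LD1_c12 LD2_c7 LD3_c48)) = (LP (LK LD1_c7 LD2_c17 LD3_c11)) :=
  Lgr Lrot181 (Lpr_ct (K37.f543383 IH) (Lpr_gt (K37.f419741 IH) (Lpe (K37.f514059 IH) (Lpr_bt (K37.f514132 IH) (Lpr_gt (K37.f514039 IH) (Lpe (K35.f116472 IH) (Lpr_ct (K33.f116242 IH) (Lpe (K37.f469384 IH) (Lpe (K40.f543580 IH) (Lpr_bt (K37.f543584 IH) (Lpn (LP (LK LD1_c7 LD2_c17 LD3_c11)))))))))))))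
theorem f75754 : Led Lsl_dt (LP (LK LD1_c12 LD2_c7 LD3_c48)) = (LP (LK LD1_c6 LD2_c14 LD3_c45)) :=
  Lre_d IH (LK LD1_c12 LD2_c7 LD3_c48) (LK LD1_c6 LD2_c14 LD3_c45) Lrfl Lrfl
theorem f75740 : Led Lsl_gt (LP (LK LD1_c6 LD2_c14 LD3_c45)) = (LP (LK LD1_c12 LD2_c7 LD3_c30)) :=
  Lre_g IH (LK LD1_c6 LD2_c14 LD3_c45) (LK LD1_c12 LD2_c7 LD3_c30) Lrfl Lrfl
theorem f543596 : Led Lsl_dt (LP (LK LD1_c21 LD2_c13 LD3_c44)) = (LP (LK LD1_c12 LD2_c7 LD3_c30)) :=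
  Lre_d IH (LK LD1_c21 LD2_c13 LD3_c44) (LK LD1_c12 LD2_c7 LD3_c30) Lrfl Lrfl
theorem f160385 : Led Lsl_et (LP (LK LD1_c3 LD2_c36 LD3_c56)) = (LP (LK LD1_c7 LD2_c14 LD3_c6)) :=
  Lre_e IH (LK LD1_c3 LD2_c36 LD3_c56) (LK LD1_c7 LD2_c14 LD3_c6) Lrfl Lrfl
theorem f420518 : Led Lsl_gt (LP (LK LD1_c12 LD2_c7 LD3_c30)) = (LP (LK LD1_c6 LD2_c14 LD3_c38)) :=
  Lre_g IH (LK LD1_c12 LD2_c7 LD3_c30) (LK LD1_c6 LD2_c14 LD3_c38) Lrfl Lrfl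
theorem f548902 : Led Lsl_ef (LP (LK LD1_c13 LD2_c14 LD3_c3)) = (LP (LK LD1_c21 LD2_c13 LD3_c44)) :=
  Lgr Lrot17 (Lpr_gf (K28.f465592 IH) (Lpe (f160385 IH) (Lpr_dt (K39.f160384 IH) (Lpe (K39.f548898 IH) (Lpr_df (K38.f548884 IH) (Lpe (K6.f18026 IH) (Lpe (K3.f97505 IH) (Lpe (K37.f543725 IH) (Lpe (f420518 IH) (Lpe (f543596 IH) (Lpn (LP (LK LD1_c21 LD2_c13 LD3_c44)))))))))))))
theorem f465626 : Led Lsl_ef (LP (LK LD1_c6 LD2_c58 LD3_c14)) = (LP (LK LD1_c7 LD2_c7 LD3_c56)) :=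
  Lgr Lrot88 (Lpr_et (K28.f465621 IH) (Lpn (LP (LK LD1_c7 LD2_c7 LD3_c56))))
theorem f425487 : Led Lsl_dt (LP (LK LD1_c7 LD2_c7 LD3_c56)) = (LP (LK LD1_c13 LD2_c30 LD3_c35)) :=
  Lre_d IH (LK LD1_c7 LD2_c7 LD3_c56) (LK LD1_c13 LD2_c30 LD3_c35) Lrfl Lrfl
theorem f566235 : Led Lsl_gf (LP (LK LD1_c16 LD2_c53 LD3_c5)) = (LP (LK LD1_c13 LD2_c30 LD3_c35)) :=
  Lgr Lrot145 (Lpr_df (f566227 IH) (Lpr_et (f519734 IH) (Lpe (f543594 IH) (Lpr_dt (f75754 IH) (Lpr_gt (f75740 IH) (Lpe (f543596 IH) (Lpe (f548902 IH) (Lpr_gt (K28.f465394 IH) (Lpr_ef (f465626 IH) (Lpr_dt (f425487 IH) (Lpn (LP (LK LD1_c13 LD2_c30 LD3_c35)))))))))))))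
theorem f471468 : Led Lsl_ft (LP (LK LD1_c13 LD2_c30 LD3_c35)) = (LP (LK LD1_c7 LD2_c7 LD3_c55)) :=
  Lre_f IH (LK LD1_c13 LD2_c30 LD3_c35) (LK LD1_c7 LD2_c7 LD3_c55) Lrfl Lrfl
theorem f566237 : Led Lsl_af (LP (LK LD1_c9 LD2_c2 LD3_c38)) = (LP (LK LD1_c7 LD2_c7 LD3_c55)) :=
  Lgr Lrot31 (Lpe (f181393 IH) (Lpr_gf (f566235 IH) (Lpr_ft (f471468 IH) (Lpn (LP (LK LD1_c7 LD2_c7 LD3_c55))))))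
theorem f181388 : Led Lsl_ft (LP (LK LD1_c9 LD2_c2 LD3_c38)) = (LP (LK LD1_c16 LD2_c53 LD3_c6)) :=
  Lre_f IH (LK LD1_c9 LD2_c2 LD3_c38) (LK LD1_c16 LD2_c53 LD3_c6) Lrfl Lrfl
theorem f566239 : Led Lsl_at (LP (LK LD1_c16 LD2_c53 LD3_c6)) = (LP (LK LD1_c13 LD2_c30 LD3_c35)) :=
  Lgr Lrot66 (Lpe (f181388 IH) (Lpr_af (f566237 IH) (Lpe (f471468 IH) (Lpn (LP (LK LD1_c13 LD2_c30 LD3_c35))))))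
theorem f465629 : Led Lsl_dt (LP (LK LD1_c13 LD2_c30 LD3_c35)) = (LP (LK LD1_c7 LD2_c7 LD3_c56)) :=
  Lre_d IH (LK LD1_c13 LD2_c30 LD3_c35) (LK LD1_c7 LD2_c7 LD3_c56) Lrfl Lrfl
theorem f566243 : Led Lsl_df (LP (LK LD1_c16 LD2_c53 LD3_c6)) = (LP (LK LD1_c13 LD2_c30 LD3_c25)) :=
  Lgr Lrot18 (Lpr_at (f566239 IH) (Lpr_dt (f465629 IH) (Lpr_at (K28.f425306 IH) (Lpn (LP (LK LD1_c13 LD2_c30 LD3_c25))))))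
theorem f181638 : Led Lsl_ft (LP (LK LD1_c11 LD2_c13 LD3_c40)) = (LP (LK LD1_c5 LD2_c41 LD3_c43)) :=
  Lre_f IH (LK LD1_c11 LD2_c13 LD3_c40) (LK LD1_c5 LD2_c41 LD3_c43) Lrfl Lrfl
theorem f181370 : Led Lsl_et (LP (LK LD1_c4 LD2_c32 LD3_c33)) = (LP (LK LD1_c9 LD2_c2 LD3_c38)) :=
  Lre_e IH (LK LD1_c4 LD2_c32 LD3_c33) (LK LD1_c9 LD2_c2 LD3_c38) Lrfl Lrfl
theorem f269022 : Led Lsl_ef (LP (LK LD1_c11 LD2_c13 LD3_c40)) = (LP (LK LD1_c16 LD2_c53 LD3_c6)) :=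
  Lgr Lrot21 (Lpr_ft (f181638 IH) (Lpr_et (K16.f181650 IH) (Lpr_ft (K16.f269009 IH) (Lpr_et (f181370 IH) (Lpr_ft (f181388 IH) (Lpn (LP (LK LD1_c16 LD2_c53 LD3_c6))))))))
theorem f465602 : Led Lsl_et (LP (LK LD1_c13 LD2_c14 LD3_c4)) = (LP (LK LD1_c13 LD2_c30 LD3_c25)) :=
  Lgr Lrot69 (Lpr_ff (K28.f465595 IH) (Lpe (f160385 IH) (Lpe (K8.f162841 IH) (Lpe (K29.f162846 IH) (Lpe (K29.f162847 IH) (Lpn (LP (LK LD1_c13 LD2_c30 LD3_c25))))))))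
theorem f465609 : Led Lsl_dt (LP (LK LD1_c22 LD2_c28 LD3_c45)) = (LP (LK LD1_c13 LD2_c14 LD3_c4)) :=
  Lre_d IH (LK LD1_c22 LD2_c28 LD3_c45) (LK LD1_c13 LD2_c14 LD3_c4) Lrfl Lrfl
theorem f566381 : Led Lsl_et (LP (LK LD1_c20 LD2_c8 LD3_c23)) = (LP (LK LD1_c22 LD2_c28 LD3_c45)) :=
  Lgr Lrot71 (Lpe (K16.f181632 IH) (Lpr_ef (f269022 IH) (Lpr_df (f566243 IH) (Lpe (f465602 IH) (Lpe (f465609 IH) (Lpn (LP (LK LD1_c22 LD2_c28 LD3_c45))))))))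
theorem f566398 : Led Lsl_ef (LP (LK LD1_c20 LD2_c8 LD3_c23)) = (LP (LK LD1_c22 LD2_c28 LD3_c45)) :=
  Lgr Lrot88 (Lpr_et (f566381 IH) (Lpn (LP (LK LD1_c22 LD2_c28 LD3_c45))))
theorem f181663 : Led Lsl_ft (LP (LK LD1_c20 LD2_c8 LD3_c23)) = (LP (LK LD1_c11 LD2_c13 LD3_c39)) :=
  Lre_f IH (LK LD1_c20 LD2_c8 LD3_c23) (LK LD1_c11 LD2_c13 LD3_c39) Lrfl Lrfl
theorem f160377 : Led Lsl_dt (LP (LK LD1_c7 LD2_c14 LD3_c6)) = (LP (LK LD1_c13 LD2_c41 LD3_c30)) :=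
  Lre_d IH (LK LD1_c7 LD2_c14 LD3_c6) (LK LD1_c13 LD2_c41 LD3_c30) Lrfl Lrfl
theorem f465610 : Led Lsl_ff (LP (LK LD1_c22 LD2_c28 LD3_c45)) = (LP (LK LD1_c13 LD2_c41 LD3_c30)) :=
  Lgr Lrot19 (Lpr_dt (f465609 IH) (Lpr_ft (K28.f465604 IH) (Lpr_dt (f160377 IH) (Lpn (LP (LK LD1_c13 LD2_c41 LD3_c30))))))
theorem f566412 : Led Lsl_et (LP (LK LD1_c11 LD2_c6 LD3_c50)) = (LP (LK LD1_c13 LD2_c41 LD3_c30)) :=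
  Lgr Lrot69 (Lpr_ff (K39.f557048 IH) (Lpe (K16.f181609 IH) (Lpe (f181663 IH) (Lpr_ef (f566398 IH) (Lpr_ff (f465610 IH) (Lpn (LP (LK LD1_c13 LD2_c41 LD3_c30))))))))
theorem f162820 : Led Lsl_ct (LP (LK LD1_c13 LD2_c41 LD3_c30)) = (LP (LK LD1_c23 LD2_c7 LD3_c3)) :=
  Lre_c IH (LK LD1_c13 LD2_c41 LD3_c30) (LK LD1_c23 LD2_c7 LD3_c3) Lrfl Lrfl
theorem f566414 : Led Lsl_ef (LP (LK LD1_c20 LD2_c0 LD3_c8)) = (LP (LK LD1_c23 LD2_c7 LD3_c3)) :=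
  Lgr Lrot28 (Lpr_ct (K39.f557043 IH) (Lpr_et (f566412 IH) (Lpr_ct (f162820 IH) (Lpn (LP (LK LD1_c23 LD2_c7 LD3_c3))))))
theorem f566416 : Led Lsl_et (LP (LK LD1_c20 LD2_c0 LD3_c8)) = (LP (LK LD1_c23 LD2_c7 LD3_c3)) :=
  Lgr Lrot87 (Lpr_ef (f566414 IH) (Lpn (LP (LK LD1_c23 LD2_c7 LD3_c3))))
theorem f551568 : Led Lsl_ct (LP (LK LD1_c7 LD2_c56 LD3_c23)) = (LP (LK LD1_c14 LD2_c58 LD3_c41)) :=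
  Lre_c IH (LK LD1_c7 LD2_c56 LD3_c23) (LK LD1_c14 LD2_c58 LD3_c41) Lrfl Lrfl
theorem f557089 : Led Lsl_af (LP (LK LD1_c20 LD2_c0 LD3_c8)) = (LP (LK LD1_c14 LD2_c58 LD3_c41)) :=
  Lgr Lrot68 (Lpr_ct (K39.f557043 IH) (Lpr_at (K39.f557085 IH) (Lpr_ct (f551568 IH) (Lpn (LP (LK LD1_c14 LD2_c58 LD3_c41))))))
theorem f96576 : Led Lsl_at (LP (LK LD1_c23 LD2_c7 LD3_c3)) = (LP (LK LD1_c13 LD2_c41 LD3_c40)) :=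
  Lre_a IH (LK LD1_c23 LD2_c7 LD3_c3) (LK LD1_c13 LD2_c41 LD3_c40) Lrfl Lrfl
theorem f566418 : Led Lsl_ef (LP (LK LD1_c14 LD2_c58 LD3_c41)) = (LP (LK LD1_c13 LD2_c41 LD3_c40)) :=
  Lgr Lrot20 (Lpe (f557089 IH) (Lpr_et (f566416 IH) (Lpr_at (f96576 IH) (Lpn (LP (LK LD1_c13 LD2_c41 LD3_c40))))))
theorem f566420 : Led Lsl_et (LP (LK LD1_c14 LD2_c58 LD3_c41)) = (LP (LK LD1_c13 LD2_c41 LD3_c40)) :=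
  Lgr Lrot87 (Lpr_ef (f566418 IH) (Lpn (LP (LK LD1_c13 LD2_c41 LD3_c40))))
theorem f162823 : Led Lsl_at (LP (LK LD1_c13 LD2_c41 LD3_c40)) = (LP (LK LD1_c23 LD2_c7 LD3_c3)) :=
  Lre_a IH (LK LD1_c13 LD2_c41 LD3_c40) (LK LD1_c23 LD2_c7 LD3_c3) Lrfl Lrfl
theorem f566423 : Led Lsl_af (LP (LK LD1_c14 LD2_c58 LD3_c41)) = (LP (LK LD1_c20 LD2_c0 LD3_c8)) :=
  Lgr Lrot50 (Lpr_et (f566420 IH) (Lpr_at (f162823 IH) (Lpe (f566414 IH) (Lpn (LP (LK LD1_c20 LD2_c0 LD3_c8))))))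
theorem f557099 : Led Lsl_df (LP (LK LD1_c20 LD2_c9 LD3_c21)) = (LP (LK LD1_c14 LD2_c58 LD3_c41)) :=
  Lgr Lrot38 (Lpr_dt (K39.f557095 IH) (Lpn (LP (LK LD1_c14 LD2_c58 LD3_c41))))
theorem f566427 : Led Lsl_at (LP (LK LD1_c20 LD2_c9 LD3_c21)) = (LP (LK LD1_c26 LD2_c50 LD3_c13)) :=
  Lgr Lrot51 (Lpr_df (f557099 IH) (Lpr_af (f566423 IH) (Lpr_df (K39.f557050 IH) (Lpn (LP (LK LD1_c26 LD2_c50 LD3_c13))))))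
theorem f561537 : Led Lsl_ct (LP (LK LD1_c26 LD2_c50 LD3_c13)) = (LP (LK LD1_c16 LD2_c53 LD3_c45)) :=
  Lre_c IH (LK LD1_c26 LD2_c50 LD3_c13) (LK LD1_c16 LD2_c53 LD3_c45) Lrfl Lrfl
theorem f566433 : Led Lsl_af (LP (LK LD1_c11 LD2_c14 LD3_c21)) = (LP (LK LD1_c16 LD2_c53 LD3_c45)) :=
  Lgr Lrot68 (Lpr_ct (K39.f551611 IH) (Lpr_at (f566427 IH) (Lpr_ct (f561537 IH) (Lpn (LP (LK LD1_c16 LD2_c53 LD3_c45))))))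
theorem f68602 : Led Lsl_dt (LP (LK LD1_c11 LD2_c14 LD3_c21)) = (LP (LK LD1_c5 LD2_c42 LD3_c0)) :=
  Lre_d IH (LK LD1_c11 LD2_c14 LD3_c21) (LK LD1_c5 LD2_c42 LD3_c0) Lrfl Lrfl
theorem f566439 : Led Lsl_at (LP (LK LD1_c5 LD2_c42 LD3_c0)) = (LP (LK LD1_c9 LD2_c3 LD3_c0)) :=
  Lgr Lrot51 (Lpe (f68602 IH) (Lpr_af (f566433 IH) (Lpe (K39.f551614 IH) (Lpn (LP (LK LD1_c9 LD2_c3 LD3_c0))))))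
theorem f566450 : Led Lsl_et (LP (LK LD1_c11 LD2_c14 LD3_c15)) = (LP (LK LD1_c5 LD2_c42 LD3_c0)) :=
  Lre_e IH (LK LD1_c11 LD2_c14 LD3_c15) (LK LD1_c5 LD2_c42 LD3_c0) Lrfl Lrfl
theorem f566451 : Led Lsl_et (LP (LK LD1_c9 LD2_c3 LD3_c0)) = (LP (LK LD1_c16 LD2_c53 LD3_c46)) :=
  Lre_e IH (LK LD1_c9 LD2_c3 LD3_c0) (LK LD1_c16 LD2_c53 LD3_c46) Lrfl Lrfl
theorem f566452 : Led Lsl_af (LP (LK LD1_c11 LD2_c14 LD3_c15)) = (LP (LK LD1_c16 LD2_c53 LD3_c46)) :=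
  Lgr Lrot50 (Lpr_et (f566450 IH) (Lpr_at (f566439 IH) (Lpr_et (f566451 IH) (Lpn (LP (LK LD1_c16 LD2_c53 LD3_c46))))))
theorem f501095 : Led Lsl_ct (LP (LK LD1_c11 LD2_c14 LD3_c15)) = (LP (LK LD1_c5 LD2_c41 LD3_c58)) :=
  Lre_c IH (LK LD1_c11 LD2_c14 LD3_c15) (LK LD1_c5 LD2_c41 LD3_c58) Lrfl Lrfl
theorem f566458 : Led Lsl_ct (LP (LK LD1_c9 LD2_c3 LD3_c1)) = (LP (LK LD1_c16 LD2_c53 LD3_c46)) :=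
  Lre_c IH (LK LD1_c9 LD2_c3 LD3_c1) (LK LD1_c16 LD2_c53 LD3_c46) Lrfl Lrfl
theorem f566459 : Led Lsl_at (LP (LK LD1_c5 LD2_c41 LD3_c58)) = (LP (LK LD1_c9 LD2_c3 LD3_c1)) :=
  Lgr Lrot107 (Lpe (f501095 IH) (Lpr_af (f566452 IH) (Lpe (f566458 IH) (Lpn (LP (LK LD1_c9 LD2_c3 LD3_c1))))))
theorem f566470 : Led Lsl_ft (LP (LK LD1_c11 LD2_c14 LD3_c16)) = (LP (LK LD1_c5 LD2_c41 LD3_c58)) :=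
  Lre_f IH (LK LD1_c11 LD2_c14 LD3_c16) (LK LD1_c5 LD2_c41 LD3_c58) Lrfl Lrfl
theorem f551640 : Led Lsl_ft (LP (LK LD1_c9 LD2_c3 LD3_c1)) = (LP (LK LD1_c16 LD2_c53 LD3_c49)) :=
  Lre_f IH (LK LD1_c9 LD2_c3 LD3_c1) (LK LD1_c16 LD2_c53 LD3_c49) Lrfl Lrfl
theorem f566471 : Led Lsl_af (LP (LK LD1_c11 LD2_c14 LD3_c16)) = (LP (LK LD1_c16 LD2_c53 LD3_c49)) :=
  Lgr Lrot45 (Lpr_ft (f566470 IH) (Lpr_at (f566459 IH) (Lpr_ft (f551640 IH) (Lpn (LP (LK LD1_c16 LD2_c53 LD3_c49))))))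
theorem f268964 : Led Lsl_dt (LP (LK LD1_c11 LD2_c14 LD3_c16)) = (LP (LK LD1_c5 LD2_c41 LD3_c59)) :=
  Lre_d IH (LK LD1_c11 LD2_c14 LD3_c16) (LK LD1_c5 LD2_c41 LD3_c59) Lrfl Lrfl
theorem f566482 : Led Lsl_dt (LP (LK LD1_c11 LD2_c13 LD3_c20)) = (LP (LK LD1_c16 LD2_c53 LD3_c49)) :=
  Lgr Lrot44 (Lpe (K16.f268936 IH) (Lpe (f268964 IH) (Lpr_af (f566471 IH) (Lpn (LP (LK LD1_c16 LD2_c53 LD3_c49))))))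
theorem f566490 : Led Lsl_df (LP (LK LD1_c11 LD2_c13 LD3_c20)) = (LP (LK LD1_c16 LD2_c53 LD3_c49)) :=
  Lgr Lrot38 (Lpr_dt (f566482 IH) (Lpn (LP (LK LD1_c16 LD2_c53 LD3_c49))))
theorem f566499 : Led Lsl_dt (LP (LK LD1_c5 LD2_c41 LD3_c34)) = (LP (LK LD1_c9 LD2_c3 LD3_c1)) :=
  Lgr Lrot60 (Lpe (K16.f280553 IH) (Lpr_df (f566490 IH) (Lpe (f551640 IH) (Lpn (LP (LK LD1_c9 LD2_c3 LD3_c1))))))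
theorem f281820 : Led Lsl_bf (LP (LK LD1_c5 LD2_c41 LD3_c34)) = (LP (LK LD1_c9 LD2_c2 LD3_c2)) :=
  Lgr Lrot24 (Lpr_bt (K16.f281813 IH) (Lpn (LP (LK LD1_c9 LD2_c2 LD3_c2))))
theorem f566465 : Led Lsl_bt (LP (LK LD1_c9 LD2_c3 LD3_c1)) = (LP (LK LD1_c4 LD2_c32 LD3_c59)) :=
  Lre_b IH (LK LD1_c9 LD2_c3 LD3_c1) (LK LD1_c4 LD2_c32 LD3_c59) Lrfl Lrfl
theorem f566502 : Led Lsl_df (LP (LK LD1_c9 LD2_c2 LD3_c2)) = (LP (LK LD1_c4 LD2_c32 LD3_c59)) :=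
  Lgr Lrot12 (Lpe (f281820 IH) (Lpr_dt (f566499 IH) (Lpr_bt (f566465 IH) (Lpn (LP (LK LD1_c4 LD2_c32 LD3_c59))))))
theorem f281816 : Led Lsl_at (LP (LK LD1_c9 LD2_c2 LD3_c2)) = (LP (LK LD1_c4 LD2_c32 LD3_c15)) :=
  Lre_a IH (LK LD1_c9 LD2_c2 LD3_c2) (LK LD1_c4 LD2_c32 LD3_c15) Lrfl Lrfl
theorem f542287 : Led Lsl_dt (LP (LK LD1_c4 LD2_c32 LD3_c15)) = (LP (LK LD1_c9 LD2_c2 LD3_c11)) :=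
  Lre_d IH (LK LD1_c4 LD2_c32 LD3_c15) (LK LD1_c9 LD2_c2 LD3_c11) Lrfl Lrfl
theorem f566515 : Led Lsl_at (LP (LK LD1_c9 LD2_c2 LD3_c11)) = (LP (LK LD1_c4 LD2_c32 LD3_c59)) :=
  Lgr Lrot51 (Lpe (f542287 IH) (Lpe (f281816 IH) (Lpr_df (f566502 IH) (Lpn (LP (LK LD1_c4 LD2_c32 LD3_c59))))))
theorem f542293 : Led Lsl_et (LP (LK LD1_c4 LD2_c32 LD3_c16)) = (LP (LK LD1_c9 LD2_c2 LD3_c11)) :=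
  Lre_e IH (LK LD1_c4 LD2_c32 LD3_c16) (LK LD1_c9 LD2_c2 LD3_c11) Lrfl Lrfl
theorem f494148 : Led Lsl_et (LP (LK LD1_c4 LD2_c32 LD3_c59)) = (LP (LK LD1_c2 LD2_c13 LD3_c27)) :=
  Lre_e IH (LK LD1_c4 LD2_c32 LD3_c59) (LK LD1_c2 LD2_c13 LD3_c27) Lrfl Lrfl
theorem f566536 : Led Lsl_af (LP (LK LD1_c4 LD2_c32 LD3_c16)) = (LP (LK LD1_c2 LD2_c13 LD3_c27)) :=
  Lgr Lrot50 (Lpr_et (f542293 IH) (Lpr_at (f566515 IH) (Lpr_et (f494148 IH) (Lpn (LP (LK LD1_c2 LD2_c13 LD3_c27))))))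
theorem f26954 : Led Lsl_ct (LP (LK LD1_c4 LD2_c32 LD3_c16)) = (LP (LK LD1_c9 LD2_c2 LD3_c13)) :=
  Lre_c IH (LK LD1_c4 LD2_c32 LD3_c16) (LK LD1_c9 LD2_c2 LD3_c13) Lrfl Lrfl
theorem f549332 : Led Lsl_ct (LP (LK LD1_c4 LD2_c32 LD3_c58)) = (LP (LK LD1_c2 LD2_c13 LD3_c27)) :=
  Lre_c IH (LK LD1_c4 LD2_c32 LD3_c58) (LK LD1_c2 LD2_c13 LD3_c27) Lrfl Lrfl
theorem f566545 : Led Lsl_at (LP (LK LD1_c9 LD2_c2 LD3_c13)) = (LP (LK LD1_c4 LD2_c32 LD3_c58)) :=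
  Lgr Lrot107 (Lpe (f26954 IH) (Lpr_af (f566536 IH) (Lpe (f549332 IH) (Lpn (LP (LK LD1_c4 LD2_c32 LD3_c58))))))
theorem f566551 : Led Lsl_ft (LP (LK LD1_c4 LD2_c32 LD3_c58)) = (LP (LK LD1_c9 LD2_c3 LD3_c13)) :=
  Lre_f IH (LK LD1_c4 LD2_c32 LD3_c58) (LK LD1_c9 LD2_c3 LD3_c13) Lrfl Lrfl
theorem f566552 : Led Lsl_at (LP (LK LD1_c9 LD2_c3 LD3_c13)) = (LP (LK LD1_c4 LD2_c33 LD3_c2)) :=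
  Lre_a IH (LK LD1_c9 LD2_c3 LD3_c13) (LK LD1_c4 LD2_c33 LD3_c2) Lrfl Lrfl
theorem f566553 : Led Lsl_ff (LP (LK LD1_c9 LD2_c2 LD3_c13)) = (LP (LK LD1_c4 LD2_c33 LD3_c2)) :=
  Lgr Lrot30 (Lpr_at (f566545 IH) (Lpr_ft (f566551 IH) (Lpr_at (f566552 IH) (Lpn (LP (LK LD1_c4 LD2_c33 LD3_c2))))))
theorem f551591 : Led Lsl_gt (LP (LK LD1_c9 LD2_c3 LD3_c9)) = (LP (LK LD1_c4 LD2_c32 LD3_c58)) :=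
  Lre_g IH (LK LD1_c9 LD2_c3 LD3_c9) (LK LD1_c4 LD2_c32 LD3_c58) Lrfl Lrfl
theorem f566555 : Led Lsl_gt (LP (LK LD1_c4 LD2_c33 LD3_c2)) = (LP (LK LD1_c9 LD2_c3 LD3_c9)) :=
  Lgr Lrot5 (Lpe (f566553 IH) (Lpr_at (f566545 IH) (Lpe (f551591 IH) (Lpn (LP (LK LD1_c9 LD2_c3 LD3_c9))))))
theorem f422833 : Led Lsl_ct (LP (LK LD1_c2 LD2_c13 LD3_c30)) = (LP (LK LD1_c4 LD2_c33 LD3_c2)) :=
  Lre_c IH (LK LD1_c2 LD2_c13 LD3_c30) (LK LD1_c4 LD2_c33 LD3_c2) Lrfl Lrfl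
theorem f69246 : Led Lsl_et (LP (LK LD1_c1 LD2_c31 LD3_c20)) = (LP (LK LD1_c0 LD2_c42 LD3_c7)) :=
  Lre_e IH (LK LD1_c1 LD2_c31 LD3_c20) (LK LD1_c0 LD2_c42 LD3_c7) Lrfl Lrfl
def v1906 : LQ := Led Lsl_ft (LP (LK LD1_c1 LD2_c31 LD3_c20))
theorem f506343 : Led Lsl_ft (LP (LK LD1_c1 LD2_c31 LD3_c20)) = v1906 :=
  Lrfl
theorem f506344 : Led Lsl_ff (LP (LK LD1_c1 LD2_c31 LD3_c20)) = v1906 :=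
  Lgr Lrot3 (Lpr_ft (f506343 IH) (Lpn v1906))
theorem f559962 : v1906 = (LP (LK LD1_c2 LD2_c44 LD3_c32)) :=
  (Llr Lrot72 (Lpe (f506344 IH) (Lpr_et (f69246 IH) (Lpqs (K36.f496750 IH) (Lpe (K32.f494664 IH) (Lpr_et (K37.f161042 IH) (Lpqs (K37.f537888 IH) (Lpe (K38.f495423 IH) (Lpe (K18.f164967 IH) (Lpn (LP (LK LD1_c2 LD2_c44 LD3_c32)))))))))))).symm
theorem f117779 : Led Lsl_dt (LP (LK LD1_c3 LD2_c10 LD3_c19)) = (LP (LK LD1_c1 LD2_c31 LD3_c20)) :=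
  Lre_d IH (LK LD1_c3 LD2_c10 LD3_c19) (LK LD1_c1 LD2_c31 LD3_c20) Lrfl Lrfl
theorem f559965 : Led Lsl_ff (LP (LK LD1_c3 LD2_c10 LD3_c19)) = (LP (LK LD1_c5 LD2_c37 LD3_c13)) :=
  Lgr Lrot19 (Lpr_dt (f117779 IH) (Lpr_ft (f506343 IH) (Lpqs (f559962 IH) (Lpr_dt (K39.f164971 IH) (Lpn (LP (LK LD1_c5 LD2_c37 LD3_c13)))))))
theorem f559974 : Led Lsl_ft (LP (LK LD1_c3 LD2_c10 LD3_c19)) = (LP (LK LD1_c5 LD2_c37 LD3_c13)) :=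
  Lgr Lrot48 (Lpr_ff (f559965 IH) (Lpn (LP (LK LD1_c5 LD2_c37 LD3_c13))))
theorem f559983 : Led Lsl_gt (LP (LK LD1_c3 LD2_c10 LD3_c19)) = (LP (LK LD1_c2 LD2_c13 LD3_c30)) :=
  Lgr Lrot5 (Lpr_ft (f559974 IH) (Lpr_at (K27.f289310 IH) (Lpr_gf (K37.f546683 IH) (Lpn (LP (LK LD1_c2 LD2_c13 LD3_c30))))))
def v1904 : LQ := Led Lsl_gt (LP (LK LD1_c1 LD2_c31 LD3_c20))
theorem f506337 : Led Lsl_gt (LP (LK LD1_c1 LD2_c31 LD3_c20)) = v1904 :=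
  Lrfl
def v1903 : LQ := Led Lsl_et (LP (LK LD1_c1 LD2_c31 LD3_c17))
theorem f506333 : Led Lsl_et (LP (LK LD1_c1 LD2_c31 LD3_c17)) = v1903 :=
  Lrfl
theorem f538017 : (LP (LK LD1_c2 LD2_c44 LD3_c37)) = v1903 :=
  Lefun (Lecon (Lfl_ef (K36.f502819 IH)) (K36.f537836 IH)) (f506333 IH)
theorem f506334 : Led Lsl_bf (LP (LK LD1_c1 LD2_c31 LD3_c20)) = v1903 :=
  Lgr Lrot96 (Lpr_et (f69246 IH) (Lpr_bt (K32.f117766 IH) (Lpr_et (f506333 IH) (Lpn v1903))))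
theorem f552530 : K36.v1511 = v1904 :=
  (Llr Lrot92 (Lpe (K36.f495977 IH) (Lpe (K10.f175423 IH) (Lpe (K9.f80290 IH) (Lpqs (K39.f537927 IH) (Lpe (K39.f495692 IH) (Lpr_bt (K39.f495688 IH) (Lpr_gt (K39.f552518 IH) (Lpr_ct (K35.f210373 IH) (Lpe (K39.f289393 IH) (Lpe (K38.f211941 IH) (Lpqs (f538017 IH) (Lpe (f506334 IH) (Lpr_gt (f506337 IH) (Lpn v1904))))))))))))))).symm
theorem f551833 : Led Lsl_dt (LP (LK LD1_c9 LD2_c1 LD3_c20)) = (LP (LK LD1_c9 LD2_c45 LD3_c15)) :=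
  Lgr Lrot6 (Lpr_gt (K39.f551823 IH) (Lpe (K38.f210370 IH) (Lpr_gt (K38.f210369 IH) (Lpr_ct (K32.f210364 IH) (Lpe (K39.f226002 IH) (Lpe (K39.f226022 IH) (Lpe (K39.f381410 IH) (Lpe (K39.f172476 IH) (Lpe (K39.f381423 IH) (Lpn (LP (LK LD1_c9 LD2_c45 LD3_c15))))))))))))
theorem f566557 : Led Lsl_cf (LP (LK LD1_c9 LD2_c45 LD3_c15)) = (LP (LK LD1_c9 LD2_c3 LD3_c9)) :=
  Lgr Lrot99 (Lpe (f551833 IH) (Lpr_cf (K39.f547749 IH) (Lpe (K38.f547731 IH) (Lpe (K38.f547315 IH) (Lpqs (K38.f547308 IH) (Lpqs (f552530 IH) (Lpe (f506337 IH) (Lpe (f117779 IH) (Lpr_gt (f559983 IH) (Lpr_ct (f422833 IH) (Lpr_gt (f566555 IH) (Lpn (LP (LK LD1_c9 LD2_c3 LD3_c9))))))))))))))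
theorem f566563 : Led Lsl_ct (LP (LK LD1_c9 LD2_c45 LD3_c15)) = (LP (LK LD1_c9 LD2_c3 LD3_c9)) :=
  Lgr Lrot59 (Lpr_cf (f566557 IH) (Lpn (LP (LK LD1_c9 LD2_c3 LD3_c9))))
theorem f566571 : Led Lsl_af (LP (LK LD1_c11 LD2_c11 LD3_c33)) = (LP (LK LD1_c9 LD2_c3 LD3_c9)) :=
  Lgr Lrot68 (Lpr_ct (K39.f422811 IH) (Lpr_at (K39.f557202 IH) (Lpr_ct (f566563 IH) (Lpn (LP (LK LD1_c9 LD2_c3 LD3_c9))))))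
theorem f566575 : Led Lsl_et (LP (LK LD1_c11 LD2_c11 LD3_c33)) = (LP (LK LD1_c20 LD2_c6 LD3_c12)) :=
  Lre_e IH (LK LD1_c11 LD2_c11 LD3_c33) (LK LD1_c20 LD2_c6 LD3_c12) Lrfl Lrfl
theorem f566562 : Led Lsl_et (LP (LK LD1_c16 LD2_c53 LD3_c53)) = (LP (LK LD1_c9 LD2_c3 LD3_c9)) :=
  Lre_e IH (LK LD1_c16 LD2_c53 LD3_c53) (LK LD1_c9 LD2_c3 LD3_c9) Lrfl Lrfl
theorem f566576 : Led Lsl_at (LP (LK LD1_c20 LD2_c6 LD3_c12)) = (LP (LK LD1_c16 LD2_c53 LD3_c53)) :=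
  Lgr Lrot80 (Lpe (f566575 IH) (Lpr_af (f566571 IH) (Lpe (f566562 IH) (Lpn (LP (LK LD1_c16 LD2_c53 LD3_c53))))))
theorem f566580 : Led Lsl_ct (LP (LK LD1_c11 LD2_c11 LD3_c34)) = (LP (LK LD1_c20 LD2_c6 LD3_c12)) :=
  Lre_c IH (LK LD1_c11 LD2_c11 LD3_c34) (LK LD1_c20 LD2_c6 LD3_c12) Lrfl Lrfl
theorem f551839 : Led Lsl_et (LP (LK LD1_c9 LD2_c45 LD3_c15)) = (LP (LK LD1_c17 LD2_c54 LD3_c54)) :=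
  Lre_e IH (LK LD1_c9 LD2_c45 LD3_c15) (LK LD1_c17 LD2_c54 LD3_c54) Lrfl Lrfl
theorem f566565 : Led Lsl_ct (LP (LK LD1_c17 LD2_c54 LD3_c54)) = (LP (LK LD1_c16 LD2_c53 LD3_c53)) :=
  Lgr Lrot15 (Lpe (f551839 IH) (Lpr_cf (f566557 IH) (Lpe (f566562 IH) (Lpn (LP (LK LD1_c16 LD2_c53 LD3_c53))))))
theorem f566568 : Led Lsl_cf (LP (LK LD1_c17 LD2_c54 LD3_c54)) = (LP (LK LD1_c16 LD2_c53 LD3_c53)) :=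
  Lgr Lrot11 (Lpr_ct (f566565 IH) (Lpn (LP (LK LD1_c16 LD2_c53 LD3_c53))))
theorem f566581 : Led Lsl_af (LP (LK LD1_c11 LD2_c11 LD3_c34)) = (LP (LK LD1_c17 LD2_c54 LD3_c54)) :=
  Lgr Lrot68 (Lpr_ct (f566580 IH) (Lpr_at (f566576 IH) (Lpe (f566568 IH) (Lpn (LP (LK LD1_c17 LD2_c54 LD3_c54))))))
theorem f566583 : Led Lsl_at (LP (LK LD1_c11 LD2_c11 LD3_c34)) = (LP (LK LD1_c17 LD2_c54 LD3_c54)) :=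
  Lgr Lrot100 (Lpr_af (f566581 IH) (Lpn (LP (LK LD1_c17 LD2_c54 LD3_c54))))
theorem f553530 : Led Lsl_et (LP (LK LD1_c5 LD2_c40 LD3_c26)) = (LP (LK LD1_c11 LD2_c11 LD3_c34)) :=
  Lre_e IH (LK LD1_c5 LD2_c40 LD3_c26) (LK LD1_c11 LD2_c11 LD3_c34) Lrfl Lrfl
theorem f424151 : Led Lsl_et (LP (LK LD1_c17 LD2_c54 LD3_c54)) = (LP (LK LD1_c9 LD2_c45 LD3_c15)) :=
  Lre_e IH (LK LD1_c17 LD2_c54 LD3_c54) (LK LD1_c9 LD2_c45 LD3_c15) Lrfl Lrfl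
theorem f566588 : Led Lsl_af (LP (LK LD1_c5 LD2_c40 LD3_c26)) = (LP (LK LD1_c9 LD2_c45 LD3_c15)) :=
  Lgr Lrot50 (Lpr_et (f553530 IH) (Lpr_at (f566583 IH) (Lpr_et (f424151 IH) (Lpn (LP (LK LD1_c9 LD2_c45 LD3_c15))))))
theorem f380630 : Led Lsl_bt (LP (LK LD1_c5 LD2_c40 LD3_c26)) = (LP (LK LD1_c2 LD2_c46 LD3_c11)) :=
  Lre_b IH (LK LD1_c5 LD2_c40 LD3_c26) (LK LD1_c2 LD2_c46 LD3_c11) Lrfl Lrfl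
theorem f380297 : Led Lsl_dt (LP (LK LD1_c2 LD2_c44 LD3_c53)) = (LP (LK LD1_c1 LD2_c18 LD3_c45)) :=
  Lre_d IH (LK LD1_c2 LD2_c44 LD3_c53) (LK LD1_c1 LD2_c18 LD3_c45) Lrfl Lrfl
theorem f548256 : Led Lsl_at (LP (LK LD1_c2 LD2_c46 LD3_c11)) = (LP (LK LD1_c2 LD2_c44 LD3_c53)) :=
  Lgr Lrot51 (Lpr_df (K38.f548254 IH) (Lpqs (K38.f544920 IH) (Lpqs (K40.f547788 IH) (Lpe (K38.f495639 IH) (Lpe (f380297 IH) (Lpn (LP (LK LD1_c2 LD2_c44 LD3_c53))))))))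
theorem f561336 : Led Lsl_at (LP (LK LD1_c5 LD2_c37 LD3_c52)) = (LP (LK LD1_c11 LD2_c7 LD3_c3)) :=
  Lre_a IH (LK LD1_c5 LD2_c37 LD3_c52) (LK LD1_c11 LD2_c7 LD3_c3) Lrfl Lrfl
theorem f566590 : Led Lsl_bt (LP (LK LD1_c11 LD2_c7 LD3_c3)) = (LP (LK LD1_c9 LD2_c45 LD3_c15)) :=
  Lgr Lrot62 (Lpe (f561336 IH) (Lpe (K40.f561365 IH) (Lpe (f548256 IH) (Lpe (f380630 IH) (Lpr_af (f566588 IH) (Lpn (LP (LK LD1_c9 LD2_c45 LD3_c15))))))))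
theorem f381434 : Led Lsl_bt (LP (LK LD1_c2 LD2_c26 LD3_c31)) = (LP (LK LD1_c4 LD2_c57 LD3_c5)) :=
  Lre_b IH (LK LD1_c2 LD2_c26 LD3_c31) (LK LD1_c4 LD2_c57 LD3_c5) Lrfl Lrfl
theorem f226031 : Led Lsl_gt (LP (LK LD1_c2 LD2_c47 LD3_c25)) = (LP (LK LD1_c5 LD2_c42 LD3_c53)) :=
  Lre_g IH (LK LD1_c2 LD2_c47 LD3_c25) (LK LD1_c5 LD2_c42 LD3_c53) Lrfl Lrfl
theorem f566600 : Led Lsl_ct (LP (LK LD1_c11 LD2_c7 LD3_c3)) = (LP (LK LD1_c5 LD2_c42 LD3_c53)) :=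
  Lgr Lrot63 (Lpr_bt (f566590 IH) (Lpr_gt (K39.f381423 IH) (Lpe (f381434 IH) (Lpr_ct (K27.f216427 IH) (Lpr_gt (K36.f381373 IH) (Lpr_cf (K36.f381408 IH) (Lpr_bt (K36.f172747 IH) (Lpr_gt (K36.f172746 IH) (Lpr_ct (K36.f172501 IH) (Lpr_gt (f226031 IH) (Lpn (LP (LK LD1_c5 LD2_c42 LD3_c53)))))))))))))
theorem f280360 : Led Lsl_gt (LP (LK LD1_c5 LD2_c42 LD3_c53)) = (LP (LK LD1_c9 LD2_c2 LD3_c1)) :=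
  Lgr Lrot46 (Lpe (f226031 IH) (Lpr_ft (K16.f280352 IH) (Lpr_at (K16.f174502 IH) (Lpn (LP (LK LD1_c9 LD2_c2 LD3_c1))))))
theorem f566614 : Led Lsl_gf (LP (LK LD1_c11 LD2_c7 LD3_c3)) = (LP (LK LD1_c7 LD2_c59 LD3_c22)) :=
  Lgr Lrot147 (Lpr_ct (f566600 IH) (Lpr_gt (f280360 IH) (Lpr_ct (K16.f181771 IH) (Lpe (K16.f181766 IH) (Lpe (K16.f181735 IH) (Lpe (K31.f281973 IH) (Lpe (K31.f172464 IH) (Lpr_gf (K31.f411660 IH) (Lpe (K39.f382090 IH) (Lpn (LP (LK LD1_c7 LD2_c59 LD3_c22))))))))))))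
theorem f566621 : Led Lsl_dt (LP (LK LD1_c11 LD2_c7 LD3_c3)) = (LP (LK LD1_c5 LD2_c37 LD3_c51)) :=
  Lre_d IH (LK LD1_c11 LD2_c7 LD3_c3) (LK LD1_c5 LD2_c37 LD3_c51) Lrfl Lrfl
theorem f382087 : Led Lsl_dt (LP (LK LD1_c3 LD2_c59 LD3_c1)) = (LP (LK LD1_c7 LD2_c59 LD3_c22)) :=
  Lre_d IH (LK LD1_c3 LD2_c59 LD3_c1) (LK LD1_c7 LD2_c59 LD3_c22) Lrfl Lrfl
theorem f549594 : Led Lsl_dt (LP (LK LD1_c5 LD2_c42 LD3_c42)) = (LP (LK LD1_c4 LD2_c22 LD3_c29)) :=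
  Lgr Lrot42 (Lpr_df (K38.f549589 IH) (Lpn (LP (LK LD1_c4 LD2_c22 LD3_c29))))
theorem f566624 : Led Lsl_cf (LP (LK LD1_c5 LD2_c37 LD3_c51)) = (LP (LK LD1_c4 LD2_c22 LD3_c29)) :=
  Lgr Lrot14 (Lpe (f566621 IH) (Lpr_gf (f566614 IH) (Lpe (f382087 IH) (Lpr_gf (K31.f382084 IH) (Lpr_ct (K30.f280504 IH) (Lpr_gt (K30.f172854 IH) (Lpr_dt (K16.f172833 IH) (Lpr_gt (K38.f172762 IH) (Lpr_dt (f549594 IH) (Lpn (LP (LK LD1_c4 LD2_c22 LD3_c29))))))))))))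
theorem f39307 : Led Lsl_ct (LP (LK LD1_c8 LD2_c44 LD3_c38)) = (LP (LK LD1_c16 LD2_c21 LD3_c61)) :=
  Lre_c IH (LK LD1_c8 LD2_c44 LD3_c38) (LK LD1_c16 LD2_c21 LD3_c61) Lrfl Lrfl
theorem f418411 : Led Lsl_gt (LP (LK LD1_c16 LD2_c19 LD3_c29)) = (LP (LK LD1_c16 LD2_c21 LD3_c61)) :=
  Lgr Lrot149 (Lpe (K31.f398493 IH) (Lpe (K31.f178968 IH) (Lpe (K31.f237461 IH) (Lpr_ct (K13.f229317 IH) (Lpe (K13.f39296 IH) (Lpe (K1.f39004 IH) (Lpr_bt (K39.f39007 IH) (Lpe (K38.f39305 IH) (Lpe (K39.f39306 IH) (Lpr_ct (f39307 IH) (Lpn (LP (LK LD1_c16 LD2_c21 LD3_c61)))))))))))))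
theorem f174451 : Led Lsl_ct (LP (LK LD1_c16 LD2_c21 LD3_c61)) = (LP (LK LD1_c8 LD2_c44 LD3_c38)) :=
  Lre_c IH (LK LD1_c16 LD2_c21 LD3_c61) (LK LD1_c8 LD2_c44 LD3_c38) Lrfl Lrfl
theorem f566640 : Led Lsl_gt (LP (LK LD1_c5 LD2_c37 LD3_c51)) = (LP (LK LD1_c9 LD2_c1 LD3_c18)) :=
  Lgr Lrot150 (Lpr_cf (f566624 IH) (Lpe (K38.f173332 IH) (Lpe (K31.f173329 IH) (Lpr_gt (K31.f178968 IH) (Lpr_ct (K31.f398493 IH) (Lpr_gt (f418411 IH) (Lpr_ct (f174451 IH) (Lpe (K39.f551844 IH) (Lpr_cf (K39.f552525 IH) (Lpn (LP (LK LD1_c9 LD2_c1 LD3_c18))))))))))))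
theorem f566594 : Led Lsl_dt (LP (LK LD1_c5 LD2_c37 LD3_c51)) = (LP (LK LD1_c11 LD2_c7 LD3_c3)) :=
  Lre_d IH (LK LD1_c5 LD2_c37 LD3_c51) (LK LD1_c11 LD2_c7 LD3_c3) Lrfl Lrfl
theorem f280411 : Led Lsl_at (LP (LK LD1_c11 LD2_c15 LD3_c21)) = (LP (LK LD1_c5 LD2_c42 LD3_c55)) :=
  Lre_a IH (LK LD1_c11 LD2_c15 LD3_c21) (LK LD1_c5 LD2_c42 LD3_c55) Lrfl Lrfl
theorem f280425 : Led Lsl_gf (LP (LK LD1_c11 LD2_c16 LD3_c4)) = (LP (LK LD1_c16 LD2_c52 LD3_c2)) :=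
  Lgr Lrot47 (Lpr_gt (K31.f174235 IH) (Lpe (f280411 IH) (Lpr_ff (K16.f280404 IH) (Lpn (LP (LK LD1_c16 LD2_c52 LD3_c2))))))
theorem f422977 : Led Lsl_dt (LP (LK LD1_c11 LD2_c16 LD3_c4)) = (LP (LK LD1_c5 LD2_c45 LD3_c25)) :=
  Lgr Lrot60 (Lpe (K31.f418937 IH) (Lpe (K31.f398527 IH) (Lpr_ff (K31.f422971 IH) (Lpn (LP (LK LD1_c5 LD2_c45 LD3_c25))))))
theorem f557336 : Led Lsl_gt (LP (LK LD1_c4 LD2_c57 LD3_c6)) = (LP (LK LD1_c2 LD2_c46 LD3_c5)) :=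
  Lgr Lrot9 (Lpe (K39.f495245 IH) (Lpr_gt (K39.f557334 IH) (Lpe (K39.f418619 IH) (Lpr_gt (K39.f174223 IH) (Lpr_ct (K31.f174233 IH) (Lpe (K38.f172500 IH) (Lpe (K36.f172415 IH) (Lpe (K30.f172854 IH) (Lpe (K30.f280504 IH) (Lpn (LP (LK LD1_c2 LD2_c46 LD3_c5))))))))))))
theorem f566612 : Led Lsl_gt (LP (LK LD1_c11 LD2_c7 LD3_c3)) = (LP (LK LD1_c9 LD2_c45 LD3_c18)) :=
  Lgr Lrot180 (Lpr_ct (f566600 IH) (Lpr_gt (f280360 IH) (Lpr_dt (K16.f181768 IH) (Lpe (f280425 IH) (Lpr_dt (f422977 IH) (Lpe (K31.f422865 IH) (Lpr_df (K31.f423269 IH) (Lpe (f557336 IH) (Lpe (K39.f495245 IH) (Lpn (LP (LK LD1_c9 LD2_c45 LD3_c18))))))))))))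
theorem f73117 : Led Lsl_gt (LP (LK LD1_c11 LD2_c23 LD3_c49)) = (LP (LK LD1_c5 LD2_c46 LD3_c50)) :=
  Lre_g IH (LK LD1_c11 LD2_c23 LD3_c49) (LK LD1_c5 LD2_c46 LD3_c50) Lrfl Lrfl
theorem f566648 : Led Lsl_ct (LP (LK LD1_c9 LD2_c45 LD3_c18)) = (LP (LK LD1_c11 LD2_c23 LD3_c49)) :=
  Lgr Lrot152 (Lpe (f566612 IH) (Lpe (f566594 IH) (Lpr_gt (f566640 IH) (Lpe (K39.f552525 IH) (Lpr_gt (K39.f100245 IH) (Lpr_ct (K38.f197512 IH) (Lpe (K40.f73043 IH) (Lpe (K40.f73036 IH) (Lpe (f73117 IH) (Lpn (LP (LK LD1_c11 LD2_c23 LD3_c49))))))))))))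
theorem f566607 : Led Lsl_cf (LP (LK LD1_c11 LD2_c7 LD3_c3)) = (LP (LK LD1_c5 LD2_c42 LD3_c53)) :=
  Lgr Lrot11 (Lpr_ct (f566600 IH) (Lpn (LP (LK LD1_c5 LD2_c42 LD3_c53))))
theorem f542260 : Led Lsl_dt (LP (LK LD1_c20 LD2_c21 LD3_c41)) = (LP (LK LD1_c11 LD2_c23 LD3_c49)) :=
  Lre_d IH (LK LD1_c20 LD2_c21 LD3_c41) (LK LD1_c11 LD2_c23 LD3_c49) Lrfl Lrfl
theorem f566661 : Led Lsl_ct (LP (LK LD1_c29 LD2_c20 LD3_c26)) = (LP (LK LD1_c20 LD2_c21 LD3_c41)) :=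
  Lgr Lrot110 (Lpr_gf (f424222 IH) (Lpr_cf (K31.f423751 IH) (Lpe (K31.f280881 IH) (Lpe (K16.f280362 IH) (Lpr_gt (f226031 IH) (Lpe (f566607 IH) (Lpr_gt (f566612 IH) (Lpr_ct (f566648 IH) (Lpe (f542260 IH) (Lpn (LP (LK LD1_c20 LD2_c21 LD3_c41))))))))))))
theorem f566664 : Led Lsl_cf (LP (LK LD1_c29 LD2_c20 LD3_c26)) = (LP (LK LD1_c20 LD2_c21 LD3_c41)) :=
  Lgr Lrot11 (Lpr_ct (f566661 IH) (Lpn (LP (LK LD1_c20 LD2_c21 LD3_c41))))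
theorem f382086 : Led Lsl_at (LP (LK LD1_c7 LD2_c59 LD3_c20)) = (LP (LK LD1_c3 LD2_c59 LD3_c1)) :=
  Lre_a IH (LK LD1_c7 LD2_c59 LD3_c20) (LK LD1_c3 LD2_c59 LD3_c1) Lrfl Lrfl
theorem f542263 : Led Lsl_dt (LP (LK LD1_c11 LD2_c23 LD3_c49)) = (LP (LK LD1_c20 LD2_c21 LD3_c41)) :=
  Lre_d IH (LK LD1_c11 LD2_c23 LD3_c49) (LK LD1_c20 LD2_c21 LD3_c41) Lrfl Lrfl
theorem f566666 : Led Lsl_ff (LP (LK LD1_c7 LD2_c59 LD3_c20)) = (LP (LK LD1_c4 LD2_c57 LD3_c6)) :=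
  Lgr Lrot103 (Lpr_at (f382086 IH) (Lpe (K39.f382089 IH) (Lpe (K39.f552652 IH) (Lpr_cf (f552659 IH) (Lpe (f424345 IH) (Lpr_cf (f566664 IH) (Lpe (f542263 IH) (Lpe (f566648 IH) (Lpe (K39.f424150 IH) (Lpn (LP (LK LD1_c4 LD2_c57 LD3_c6))))))))))))
theorem f566672 : Led Lsl_ft (LP (LK LD1_c7 LD2_c59 LD3_c20)) = (LP (LK LD1_c4 LD2_c57 LD3_c6)) :=
  Lgr Lrot48 (Lpr_ff (f566666 IH) (Lpn (LP (LK LD1_c4 LD2_c57 LD3_c6))))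
theorem f566678 : Led Lsl_bf (LP (LK LD1_c7 LD2_c59 LD3_c20)) = (LP (LK LD1_c4 LD2_c57 LD3_c9)) :=
  Lgr Lrot61 (Lpr_ft (f566672 IH) (Lpr_bt (K40.f495241 IH) (Lpqs (K40.f557348 IH) (Lpr_ft (K40.f383883 IH) (Lpn (LP (LK LD1_c4 LD2_c57 LD3_c9)))))))
theorem f552468 : Led Lsl_cf (LP (LK LD1_c5 LD2_c47 LD3_c10)) = (LP (LK LD1_c11 LD2_c6 LD3_c26)) :=
  Lgr Lrot11 (Lpr_ct (K39.f552449 IH) (Lpn (LP (LK LD1_c11 LD2_c6 LD3_c26))))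
theorem f495254 : Led Lsl_ft (LP (LK LD1_c1 LD2_c10 LD3_c37)) = (LP (LK LD1_c0 LD2_c32 LD3_c42)) :=
  Lre_f IH (LK LD1_c1 LD2_c10 LD3_c37) (LK LD1_c0 LD2_c32 LD3_c42) Lrfl Lrfl
theorem f495255 : Led Lsl_gt (LP (LK LD1_c1 LD2_c10 LD3_c37)) = K30.v1384 :=
  Lgr Lrot5 (Lpr_ft (f495254 IH) (Lpr_at (K9.f40140 IH) (Lpr_gf (K30.f495253 IH) (Lpn K30.v1384))))
theorem f557355 : Led Lsl_ct (LP (LK LD1_c2 LD2_c26 LD3_c32)) = (LP (LK LD1_c4 LD2_c57 LD3_c9)) :=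
  Lre_c IH (LK LD1_c2 LD2_c26 LD3_c32) (LK LD1_c4 LD2_c57 LD3_c9) Lrfl Lrfl
theorem f558330 : K30.v1384 = (LP (LK LD1_c2 LD2_c26 LD3_c32)) :=
  (Llr Lrot150 (Lpe (f495255 IH) (Lpe (K38.f171853 IH) (Lpe (K31.f381672 IH) (Lpe (K27.f381648 IH) (Lpr_gt (K37.f382451 IH) (Lpr_ct (K27.f211946 IH) (Lpr_gt (K39.f242672 IH) (Lpe (f552468 IH) (Lpr_df (K40.f558310 IH) (Lpe (f557355 IH) (Lpn (LP (LK LD1_c2 LD2_c26 LD3_c32)))))))))))))).symm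
theorem f174656 : Led Lsl_bt (LP (LK LD1_c0 LD2_c37 LD3_c5)) = (LP (LK LD1_c1 LD2_c3 LD3_c47)) :=
  Lre_b IH (LK LD1_c0 LD2_c37 LD3_c5) (LK LD1_c1 LD2_c3 LD3_c47) Lrfl Lrfl
theorem f552574 : Led Lsl_cf (LP (LK LD1_c8 LD2_c43 LD3_c40)) = (LP (LK LD1_c8 LD2_c44 LD3_c19)) :=
  Lgr Lrot11 (Lpr_ct (K39.f552572 IH) (Lpn (LP (LK LD1_c8 LD2_c44 LD3_c19))))
theorem f424128 : Led Lsl_bf (LP (LK LD1_c5 LD2_c40 LD3_c17)) = (LP (LK LD1_c8 LD2_c44 LD3_c19)) :=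
  Lgr Lrot24 (Lpr_bt (K31.f424124 IH) (Lpn (LP (LK LD1_c8 LD2_c44 LD3_c19))))
theorem f566691 : Led Lsl_gf (LP (LK LD1_c7 LD2_c59 LD3_c20)) = (LP (LK LD1_c5 LD2_c40 LD3_c17)) :=
  Lgr Lrot124 (Lpr_bf (f566678 IH) (Lpr_ct (K40.f557356 IH) (Lpq (f558330 IH) (Lpe (K30.f495253 IH) (Lpe (K1.f40115 IH) (Lpr_bt (f174656 IH) (Lpr_gt (K37.f494159 IH) (Lpq (K37.f542289 IH) (Lpe (K16.f181716 IH) (Lpr_gt (K39.f80984 IH) (Lpr_cf (f552574 IH) (Lpe (f424128 IH) (Lpn (LP (LK LD1_c5 LD2_c40 LD3_c17)))))))))))))))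
theorem f181979 : Led Lsl_bt (LP (LK LD1_c0 LD2_c28 LD3_c11)) = (LP (LK LD1_c1 LD2_c1 LD3_c44)) :=
  Lre_b IH (LK LD1_c0 LD2_c28 LD3_c11) (LK LD1_c1 LD2_c1 LD3_c44) Lrfl Lrfl
theorem f424225 : Led Lsl_bt (LP (LK LD1_c4 LD2_c23 LD3_c23)) = (LP (LK LD1_c2 LD2_c9 LD3_c7)) :=
  Lre_b IH (LK LD1_c4 LD2_c23 LD3_c23) (LK LD1_c2 LD2_c9 LD3_c7) Lrfl Lrfl
theorem f566697 : Led Lsl_cf (LP (LK LD1_c7 LD2_c59 LD3_c20)) = (LP (LK LD1_c4 LD2_c23 LD3_c23)) :=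
  Lgr Lrot163 (Lpr_gf (f566691 IH) (Lpe (K31.f424090 IH) (Lpe (K31.f181744 IH) (Lpe (K16.f181408 IH) (Lpr_ct (K13.f181416 IH) (Lpe (K9.f80916 IH) (Lpe (K1.f28950 IH) (Lpr_bt (f181979 IH) (Lpe (K31.f80230 IH) (Lpe (f424225 IH) (Lpn (LP (LK LD1_c4 LD2_c23 LD3_c23)))))))))))))
theorem f423915 : Led Lsl_dt (LP (LK LD1_c11 LD2_c15 LD3_c49)) = (LP (LK LD1_c20 LD2_c10 LD3_c12)) :=
  Lgr Lrot6 (Lpr_gt (K40.f280307 IH) (Lpr_ct (K36.f280306 IH) (Lpr_gt (K36.f280302 IH) (Lpr_ct (K16.f181767 IH) (Lpe (K16.f181774 IH) (Lpe (K16.f280270 IH) (Lpr_gf (K36.f423903 IH) (Lpe (K38.f423905 IH) (Lpe (K40.f423908 IH) (Lpn (LP (LK LD1_c20 LD2_c10 LD3_c12))))))))))))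
theorem f424060 : Led Lsl_gf (LP (LK LD1_c11 LD2_c15 LD3_c49)) = (LP (LK LD1_c5 LD2_c42 LD3_c51)) :=
  Lgr Lrot144 (Lpr_dt (f423915 IH) (Lpr_gt (K40.f423908 IH) (Lpr_dt (K36.f422924 IH) (Lpe (K31.f172845 IH) (Lpe (K31.f172844 IH) (Lpe (K31.f172438 IH) (Lpe (K16.f172745 IH) (Lpe (K36.f172746 IH) (Lpe (K36.f280889 IH) (Lpn (LP (LK LD1_c5 LD2_c42 LD3_c51))))))))))))
theorem f561371 : Led Lsl_bt (LP (LK LD1_c11 LD2_c7 LD3_c5)) = (LP (LK LD1_c5 LD2_c47 LD3_c10)) :=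
  Lgr Lrot127 (Lpr_bf (K40.f561369 IH) (Lpn (LP (LK LD1_c5 LD2_c47 LD3_c10))))
theorem f566685 : Led Lsl_dt (LP (LK LD1_c7 LD2_c59 LD3_c20)) = (LP (LK LD1_c11 LD2_c7 LD3_c5)) :=
  Lgr Lrot79 (Lpr_bf (f566678 IH) (Lpe (K40.f558316 IH) (Lpe (f561371 IH) (Lpn (LP (LK LD1_c11 LD2_c7 LD3_c5))))))
theorem f566706 : Led Lsl_cf (LP (LK LD1_c11 LD2_c7 LD3_c5)) = (LP (LK LD1_c11 LD2_c15 LD3_c49)) :=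
  Lgr Lrot99 (Lpe (f566685 IH) (Lpr_cf (f566697 IH) (Lpe (K39.f542234 IH) (Lpe (K31.f172493 IH) (Lpr_gf (K31.f280524 IH) (Lpe (K16.f181770 IH) (Lpe (K38.f281966 IH) (Lpr_ct (K36.f281968 IH) (Lpe (f424060 IH) (Lpn (LP (LK LD1_c11 LD2_c15 LD3_c49))))))))))))
theorem f566710 : Led Lsl_df (LP (LK LD1_c7 LD2_c59 LD3_c20)) = (LP (LK LD1_c11 LD2_c7 LD3_c5)) :=
  Lgr Lrot162 (Lpr_cf (f566697 IH) (Lpe (K39.f542234 IH) (Lpe (K31.f172493 IH) (Lpr_gf (K31.f280524 IH) (Lpr_dt (K16.f181766 IH) (Lpe (K38.f281966 IH) (Lpr_ct (K36.f281968 IH) (Lpe (f424060 IH) (Lpe (f566706 IH) (Lpn (LP (LK LD1_c11 LD2_c7 LD3_c5))))))))))))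
theorem f566716 : Led Lsl_ft (LP (LK LD1_c9 LD2_c45 LD3_c18)) = (LP (LK LD1_c11 LD2_c7 LD3_c5)) :=
  Lgr Lrot54 (Lpe (K39.f424150 IH) (Lpe (f566672 IH) (Lpr_df (f566710 IH) (Lpn (LP (LK LD1_c11 LD2_c7 LD3_c5))))))
theorem f566719 : Led Lsl_ff (LP (LK LD1_c9 LD2_c45 LD3_c18)) = (LP (LK LD1_c11 LD2_c7 LD3_c5)) :=
  Lgr Lrot3 (Lpr_ft (f566716 IH) (Lpn (LP (LK LD1_c11 LD2_c7 LD3_c5))))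
theorem f566733 : Led Lsl_ft (LP (LK LD1_c11 LD2_c23 LD3_c49)) = (LP (LK LD1_c11 LD2_c15 LD3_c49)) :=
  Lgr Lrot4 (Lpe (f566648 IH) (Lpr_ff (f566719 IH) (Lpr_cf (f566706 IH) (Lpn (LP (LK LD1_c11 LD2_c15 LD3_c49))))))
theorem f68608 : Led Lsl_gt (LP (LK LD1_c5 LD2_c46 LD3_c50)) = (LP (LK LD1_c11 LD2_c23 LD3_c48)) :=
  Lre_g IH (LK LD1_c5 LD2_c46 LD3_c50) (LK LD1_c11 LD2_c23 LD3_c48) Lrfl Lrfl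
theorem f566742 : Led Lsl_af (LP (LK LD1_c11 LD2_c23 LD3_c48)) = (LP (LK LD1_c11 LD2_c15 LD3_c49)) :=
  Lgr Lrot31 (Lpe (f68608 IH) (Lpe (f73117 IH) (Lpr_ft (f566733 IH) (Lpn (LP (LK LD1_c11 LD2_c15 LD3_c49))))))
theorem f566744 : Led Lsl_ct (LP (LK LD1_c7 LD2_c59 LD3_c22)) = (LP (LK LD1_c11 LD2_c23 LD3_c48)) :=
  Lgr Lrot98 (Lpe (f382087 IH) (Lpe (K39.f382089 IH) (Lpe (K39.f552652 IH) (Lpr_cf (f552659 IH) (Lpe (f424345 IH) (Lpr_cf (f566664 IH) (Lpe (f542263 IH) (Lpr_ft (f566733 IH) (Lpe (f566742 IH) (Lpn (LP (LK LD1_c11 LD2_c23 LD3_c48))))))))))))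
theorem f561547 : Led Lsl_bt (LP (LK LD1_c7 LD2_c59 LD3_c22)) = (LP (LK LD1_c3 LD2_c59 LD3_c3)) :=
  Lre_b IH (LK LD1_c7 LD2_c59 LD3_c22) (LK LD1_c3 LD2_c59 LD3_c3) Lrfl Lrfl
theorem f225655 : Led Lsl_at (LP (LK LD1_c2 LD2_c46 LD3_c16)) = (LP (LK LD1_c5 LD2_c40 LD3_c41)) :=
  Lre_a IH (LK LD1_c2 LD2_c46 LD3_c16) (LK LD1_c5 LD2_c40 LD3_c41) Lrfl Lrfl
theorem f225656 : Led Lsl_df (LP (LK LD1_c4 LD2_c19 LD3_c53)) = (LP (LK LD1_c5 LD2_c40 LD3_c41)) :=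
  Lgr Lrot18 (Lpr_at (K36.f225654 IH) (Lpr_dt (K12.f225451 IH) (Lpr_at (f225655 IH) (Lpn (LP (LK LD1_c5 LD2_c40 LD3_c41))))))
theorem f386965 : Led Lsl_ft (LP (LK LD1_c5 LD2_c37 LD3_c40)) = (LP (LK LD1_c5 LD2_c40 LD3_c41)) :=
  Lgr Lrot54 (Lpe (K39.f383418 IH) (Lpr_ff (K36.f386961 IH) (Lpr_df (f225656 IH) (Lpn (LP (LK LD1_c5 LD2_c40 LD3_c41))))))
theorem f561541 : Led Lsl_gf (LP (LK LD1_c2 LD2_c46 LD3_c16)) = (LP (LK LD1_c3 LD2_c59 LD3_c3)) :=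
  Lgr Lrot76 (Lpe (K36.f225665 IH) (Lpe (f386965 IH) (Lpr_gt (K40.f561539 IH) (Lpn (LP (LK LD1_c3 LD2_c59 LD3_c3))))))
theorem f68606 : Led Lsl_bt (LP (LK LD1_c2 LD2_c49 LD3_c9)) = (LP (LK LD1_c1 LD2_c20 LD3_c46)) :=
  Lre_b IH (LK LD1_c2 LD2_c49 LD3_c9) (LK LD1_c1 LD2_c20 LD3_c46) Lrfl Lrfl
theorem f68600 : Led Lsl_bt (LP (LK LD1_c2 LD2_c46 LD3_c60)) = (LP (LK LD1_c1 LD2_c19 LD3_c57)) :=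
  Lre_b IH (LK LD1_c2 LD2_c46 LD3_c60) (LK LD1_c1 LD2_c19 LD3_c57) Lrfl Lrfl
theorem f566750 : Led Lsl_gt (LP (LK LD1_c5 LD2_c40 LD3_c42)) = (LP (LK LD1_c5 LD2_c42 LD3_c0)) :=
  Lgr Lrot149 (Lpe (K39.f225428 IH) (Lpr_gf (f561541 IH) (Lpe (f561547 IH) (Lpr_ct (f566744 IH) (Lpe (f68608 IH) (Lpe (K40.f68607 IH) (Lpr_bt (f68606 IH) (Lpe (K10.f68579 IH) (Lpe (f68600 IH) (Lpr_ct (K39.f68604 IH) (Lpn (LP (LK LD1_c5 LD2_c42 LD3_c0)))))))))))))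
theorem f566752 : Led Lsl_gt (LP (LK LD1_c11 LD2_c14 LD3_c21)) = (LP (LK LD1_c20 LD2_c9 LD3_c20)) :=
  Lre_g IH (LK LD1_c11 LD2_c14 LD3_c21) (LK LD1_c20 LD2_c9 LD3_c20) Lrfl Lrfl
theorem f566753 : Led Lsl_df (LP (LK LD1_c15 LD2_c3 LD3_c49)) = (LP (LK LD1_c20 LD2_c9 LD3_c20)) :=
  Lgr Lrot84 (Lpe (K9.f40194 IH) (Lpe (K38.f100551 IH) (Lpe (K35.f100563 IH) (Lpe (K40.f181363 IH) (Lpe (K40.f561551 IH) (Lpe (K39.f174943 IH) (Lpr_gt (f566750 IH) (Lpr_dt (K39.f551610 IH) (Lpr_gt (f566752 IH) (Lpn (LP (LK LD1_c20 LD2_c9 LD3_c20))))))))))))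
theorem f384179 : Led Lsl_ct (LP (LK LD1_c15 LD2_c3 LD3_c49)) = (LP (LK LD1_c7 LD2_c59 LD3_c8)) :=
  Lre_c IH (LK LD1_c15 LD2_c3 LD3_c49) (LK LD1_c7 LD2_c59 LD3_c8) Lrfl Lrfl
theorem f40870 : Led Lsl_at (LP (LK LD1_c3 LD2_c59 LD3_c10)) = (LP (LK LD1_c7 LD2_c59 LD3_c8)) :=
  Lre_a IH (LK LD1_c3 LD2_c59 LD3_c10) (LK LD1_c7 LD2_c59 LD3_c8) Lrfl Lrfl
theorem f566763 : Led Lsl_ft (LP (LK LD1_c1 LD2_c56 LD3_c17)) = (LP (LK LD1_c3 LD2_c59 LD3_c10)) :=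
  Lre_f IH (LK LD1_c1 LD2_c56 LD3_c17) (LK LD1_c3 LD2_c59 LD3_c10) Lrfl Lrfl
theorem f552377 : Led Lsl_dt (LP (LK LD1_c7 LD2_c56 LD3_c27)) = (LP (LK LD1_c14 LD2_c58 LD3_c52)) :=
  Lre_d IH (LK LD1_c7 LD2_c56 LD3_c27) (LK LD1_c14 LD2_c58 LD3_c52) Lrfl Lrfl
theorem f566764 : Led Lsl_ct (LP (LK LD1_c14 LD2_c58 LD3_c52)) = (LP (LK LD1_c20 LD2_c9 LD3_c20)) :=
  Lgr Lrot53 (Lpe (f552377 IH) (Lpe (K39.f197745 IH) (Lpe (f428716 IH) (Lpe (K39.f171775 IH) (Lpe (K40.f172367 IH) (Lpr_ft (f566763 IH) (Lpr_at (f40870 IH) (Lpe (f384179 IH) (Lpr_df (f566753 IH) (Lpn (LP (LK LD1_c20 LD2_c9 LD3_c20))))))))))))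
theorem f101649 : Led Lsl_ft (LP (LK LD1_c1 LD2_c55 LD3_c31)) = (LP (LK LD1_c3 LD2_c57 LD3_c31)) :=
  Lre_f IH (LK LD1_c1 LD2_c55 LD3_c31) (LK LD1_c3 LD2_c57 LD3_c31) Lrfl Lrfl
theorem f68721 : Led Lsl_gt (LP (LK LD1_c2 LD2_c46 LD3_c54)) = (LP (LK LD1_c5 LD2_c41 LD3_c44)) :=
  Lre_g IH (LK LD1_c2 LD2_c46 LD3_c54) (LK LD1_c5 LD2_c41 LD3_c44) Lrfl Lrfl
theorem f551967 : Led Lsl_af (LP (LK LD1_c5 LD2_c41 LD3_c44)) = (LP (LK LD1_c3 LD2_c57 LD3_c31)) :=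
  Lgr Lrot31 (Lpe (f68721 IH) (Lpr_gf (K39.f551965 IH) (Lpr_ft (f101649 IH) (Lpn (LP (LK LD1_c3 LD2_c57 LD3_c31))))))
theorem f566766 : Led Lsl_ct (LP (LK LD1_c3 LD2_c58 LD3_c56)) = (LP (LK LD1_c5 LD2_c41 LD3_c44)) :=
  Lgr Lrot98 (Lpe (K1.f40171 IH) (Lpe (f384179 IH) (Lpr_df (f566753 IH) (Lpe (f566764 IH) (Lpe (f552377 IH) (Lpe (K39.f197745 IH) (Lpe (f428716 IH) (Lpr_ft (f101649 IH) (Lpe (f551967 IH) (Lpn (LP (LK LD1_c5 LD2_c41 LD3_c44))))))))))))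
theorem f181590 : Led Lsl_dt (LP (LK LD1_c5 LD2_c41 LD3_c44)) = (LP (LK LD1_c11 LD2_c13 LD3_c41)) :=
  Lre_d IH (LK LD1_c5 LD2_c41 LD3_c44) (LK LD1_c11 LD2_c13 LD3_c41) Lrfl Lrfl
theorem f181591 : Led Lsl_ct (LP (LK LD1_c11 LD2_c13 LD3_c41)) = (LP (LK LD1_c20 LD2_c8 LD3_c24)) :=
  Lre_c IH (LK LD1_c11 LD2_c13 LD3_c41) (LK LD1_c20 LD2_c8 LD3_c24) Lrfl Lrfl
theorem f39875 : Led Lsl_ft (LP (LK LD1_c7 LD2_c56 LD3_c27)) = (LP (LK LD1_c14 LD2_c58 LD3_c54)) :=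
  Lre_f IH (LK LD1_c7 LD2_c56 LD3_c27) (LK LD1_c14 LD2_c58 LD3_c54) Lrfl Lrfl
theorem f566768 : Led Lsl_af (LP (LK LD1_c20 LD2_c8 LD3_c24)) = (LP (LK LD1_c14 LD2_c58 LD3_c54)) :=
  Lgr Lrot109 (Lpe (f181591 IH) (Lpe (f181590 IH) (Lpe (f566766 IH) (Lpe (K1.f40171 IH) (Lpe (f384179 IH) (Lpr_df (f566753 IH) (Lpe (f566764 IH) (Lpe (f552377 IH) (Lpr_ft (f39875 IH) (Lpn (LP (LK LD1_c14 LD2_c58 LD3_c54))))))))))))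
theorem f39874 : Led Lsl_gt (LP (LK LD1_c7 LD2_c56 LD3_c27)) = (LP (LK LD1_c14 LD2_c58 LD3_c49)) :=
  Lre_g IH (LK LD1_c7 LD2_c56 LD3_c27) (LK LD1_c14 LD2_c58 LD3_c49) Lrfl Lrfl
theorem f566780 : Led Lsl_gf (LP (LK LD1_c20 LD2_c8 LD3_c24)) = (LP (LK LD1_c14 LD2_c58 LD3_c49)) :=
  Lgr Lrot76 (Lpr_af (f566768 IH) (Lpe (f39875 IH) (Lpr_gt (f39874 IH) (Lpn (LP (LK LD1_c14 LD2_c58 LD3_c49))))))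
theorem f556811 : Led Lsl_cf (LP (LK LD1_c11 LD2_c6 LD3_c44)) = (LP (LK LD1_c14 LD2_c58 LD3_c49)) :=
  Lgr Lrot175 (Lpr_dt (K39.f402574 IH) (Lpe (K39.f387057 IH) (Lpe (K38.f319450 IH) (Lpe (K39.f172332 IH) (Lpe (K39.f387052 IH) (Lpr_dt (f556802 IH) (Lpr_gt (f172305 IH) (Lpr_ct (K39.f197745 IH) (Lpr_gt (f39874 IH) (Lpn (LP (LK LD1_c14 LD2_c58 LD3_c49))))))))))))
theorem f556813 : Led Lsl_ct (LP (LK LD1_c11 LD2_c6 LD3_c44)) = (LP (LK LD1_c14 LD2_c58 LD3_c49)) :=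
  Lgr Lrot59 (Lpr_cf (f556811 IH) (Lpn (LP (LK LD1_c14 LD2_c58 LD3_c49))))
theorem f398546 : Led Lsl_bt (LP (LK LD1_c8 LD2_c42 LD3_c57)) = (LP (LK LD1_c15 LD2_c3 LD3_c52)) :=
  Lgr Lrot95 (Lpr_df (K31.f398544 IH) (Lpe (K39.f382075 IH) (Lpe (K39.f382081 IH) (Lpn (LP (LK LD1_c15 LD2_c3 LD3_c52))))))
theorem f424064 : Led Lsl_ft (LP (LK LD1_c16 LD2_c19 LD3_c29)) = (LP (LK LD1_c11 LD2_c15 LD3_c30)) :=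
  Lgr Lrot4 (Lpe (K31.f398493 IH) (Lpr_ff (K31.f423857 IH) (Lpe (K31.f411666 IH) (Lpn (LP (LK LD1_c11 LD2_c15 LD3_c30))))))
theorem f423851 : Led Lsl_af (LP (LK LD1_c16 LD2_c19 LD3_c31)) = (LP (LK LD1_c11 LD2_c15 LD3_c30)) :=
  Lgr Lrot68 (Lpr_ct (K31.f385877 IH) (Lpr_at (K31.f423847 IH) (Lpr_ct (K39.f172852 IH) (Lpn (LP (LK LD1_c11 LD2_c15 LD3_c30))))))
theorem f424312 : Led Lsl_gt (LP (LK LD1_c16 LD2_c21 LD3_c61)) = (LP (LK LD1_c16 LD2_c19 LD3_c31)) :=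
  Lgr Lrot46 (Lpe (f418411 IH) (Lpr_ft (f424064 IH) (Lpe (f423851 IH) (Lpn (LP (LK LD1_c16 LD2_c19 LD3_c31))))))
theorem f566786 : Led Lsl_bt (LP (LK LD1_c11 LD2_c13 LD3_c41)) = (LP (LK LD1_c8 LD2_c44 LD3_c15)) :=
  Lgr Lrot22 (Lpr_ct (f181591 IH) (Lpr_gf (f566780 IH) (Lpe (f556813 IH) (Lpe (K39.f427681 IH) (Lpe (f398546 IH) (Lpr_ct (K31.f385874 IH) (Lpe (f424312 IH) (Lpe (f39307 IH) (Lpr_bt (K39.f39306 IH) (Lpe (K39.f424198 IH) (Lpn (LP (LK LD1_c8 LD2_c44 LD3_c15)))))))))))))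
theorem f418227 : Led Lsl_gt (LP (LK LD1_c4 LD2_c23 LD3_c28)) = (LP (LK LD1_c8 LD2_c44 LD3_c15)) :=
  Lre_g IH (LK LD1_c4 LD2_c23 LD3_c28) (LK LD1_c8 LD2_c44 LD3_c15) Lrfl Lrfl
theorem f566800 : Led Lsl_gt (LP (LK LD1_c20 LD2_c8 LD3_c24)) = (LP (LK LD1_c14 LD2_c58 LD3_c50)) :=
  Lgr Lrot65 (Lpe (f181591 IH) (Lpr_bt (f566786 IH) (Lpe (f418227 IH) (Lpe (K39.f39438 IH) (Lpr_ct (K39.f39439 IH) (Lpe (K39.f418221 IH) (Lpe (K7.f29374 IH) (Lpe (K39.f29406 IH) (Lpr_bf (K39.f552371 IH) (Lpe (K39.f552373 IH) (Lpn (LP (LK LD1_c14 LD2_c58 LD3_c50)))))))))))))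
theorem f30015 : Led Lsl_bt (LP (LK LD1_c8 LD2_c1 LD3_c4)) = (LP (LK LD1_c8 LD2_c1 LD3_c52)) :=
  Lgr Lrot127 (Lpr_bf (K35.f30013 IH) (Lpn (LP (LK LD1_c8 LD2_c1 LD3_c52))))
theorem f238876 : Led Lsl_gt (LP (LK LD1_c3 LD2_c57 LD3_c30)) = (LP (LK LD1_c7 LD2_c56 LD3_c25)) :=
  Lre_g IH (LK LD1_c3 LD2_c57 LD3_c30) (LK LD1_c7 LD2_c56 LD3_c25) Lrfl Lrfl
theorem f549207 : Led Lsl_bf (LP (LK LD1_c7 LD2_c56 LD3_c25)) = (LP (LK LD1_c5 LD2_c46 LD3_c36)) :=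
  Lgr Lrot34 (Lpe (f238876 IH) (Lpe (K40.f39881 IH) (Lpr_ct (K1.f38951 IH) (Lpr_gf (K13.f236493 IH) (Lpe (K13.f182335 IH) (Lpe (K13.f196300 IH) (Lpe (K38.f30443 IH) (Lpr_ct (K38.f29252 IH) (Lpr_gf (K38.f549202 IH) (Lpe (K38.f193968 IH) (Lpn (LP (LK LD1_c5 LD2_c46 LD3_c36)))))))))))))
theorem f566802 : Led Lsl_gf (LP (LK LD1_c11 LD2_c13 LD3_c41)) = (LP (LK LD1_c7 LD2_c56 LD3_c25)) :=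
  Lgr Lrot181 (Lpr_ct (f181591 IH) (Lpr_gt (f566800 IH) (Lpr_cf (K39.f552373 IH) (Lpe (K39.f552371 IH) (Lpr_gt (K39.f29406 IH) (Lpe (f30015 IH) (Lpr_ct (K35.f30017 IH) (Lpr_gt (K38.f538844 IH) (Lpe (K38.f193968 IH) (Lpe (f549207 IH) (Lpn (LP (LK LD1_c7 LD2_c56 LD3_c25)))))))))))))
theorem f551749 : Led Lsl_dt (LP (LK LD1_c11 LD2_c13 LD3_c41)) = (LP (LK LD1_c5 LD2_c41 LD3_c44)) :=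
  Lre_d IH (LK LD1_c11 LD2_c13 LD3_c41) (LK LD1_c5 LD2_c41 LD3_c44) Lrfl Lrfl
theorem f319429 : Led Lsl_gt (LP (LK LD1_c2 LD2_c44 LD3_c48)) = (LP (LK LD1_c5 LD2_c37 LD3_c41)) :=
  Lre_g IH (LK LD1_c2 LD2_c44 LD3_c48) (LK LD1_c5 LD2_c37 LD3_c41) Lrfl Lrfl
theorem f566806 : Led Lsl_dt (LP (LK LD1_c5 LD2_c37 LD3_c41)) = (LP (LK LD1_c7 LD2_c56 LD3_c25)) :=
  Lgr Lrot115 (Lpe (f319429 IH) (Lpr_ct (K39.f172332 IH) (Lpr_gt (K38.f319450 IH) (Lpe (K38.f427679 IH) (Lpr_gt (K38.f40205 IH) (Lpr_dt (K1.f40171 IH) (Lpr_ct (f566766 IH) (Lpe (f551749 IH) (Lpr_gf (f566802 IH) (Lpn (LP (LK LD1_c7 LD2_c56 LD3_c25))))))))))))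
theorem f566810 : Led Lsl_et (LP (LK LD1_c5 LD2_c37 LD3_c41)) = (LP (LK LD1_c11 LD2_c6 LD3_c48)) :=
  Lre_e IH (LK LD1_c5 LD2_c37 LD3_c41) (LK LD1_c11 LD2_c6 LD3_c48) Lrfl Lrfl
theorem f566818 : Led Lsl_gt (LP (LK LD1_c11 LD2_c6 LD3_c48)) = (LP (LK LD1_c12 LD2_c7 LD3_c32)) :=
  Lgr Lrot137 (Lpe (f566810 IH) (Lpr_dt (f566806 IH) (Lpe (f238876 IH) (Lpe (f428716 IH) (Lpr_et (f101673 IH) (Lpe (K5.f35531 IH) (Lpe (K38.f100442 IH) (Lpr_dt (f100443 IH) (Lpe (f565547 IH) (Lpr_df (f565539 IH) (Lpn (LP (LK LD1_c12 LD2_c7 LD3_c32)))))))))))))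
theorem f538256 : Led Lsl_dt (LP (LK LD1_c7 LD2_c57 LD3_c12)) = (LP (LK LD1_c3 LD2_c57 LD3_c56)) :=
  Lre_d IH (LK LD1_c7 LD2_c57 LD3_c12) (LK LD1_c3 LD2_c57 LD3_c56) Lrfl Lrfl
theorem f559576 : Led Lsl_gt (LP (LK LD1_c6 LD2_c9 LD3_c2)) = (LP (LK LD1_c6 LD2_c16 LD3_c17)) :=
  Lgr Lrot137 (Lpe (K39.f24009 IH) (Lpr_dt (K38.f24014 IH) (Lpr_gf (K40.f559572 IH) (Lpe (K38.f174721 IH) (Lpq (K38.f541389 IH) (Lpe (K38.f500423 IH) (Lpe (K35.f157873 IH) (Lpr_ef (K35.f538219 IH) (Lpr_dt (K35.f500418 IH) (Lpe (K35.f538254 IH) (Lpr_df (K35.f538260 IH) (Lpn (LP (LK LD1_c6 LD2_c16 LD3_c17))))))))))))))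
theorem f566824 : Led Lsl_cf (LP (LK LD1_c11 LD2_c6 LD3_c48)) = (LP (LK LD1_c6 LD2_c9 LD3_c2)) :=
  Lgr Lrot166 (Lpr_gt (f566818 IH) (Lpe (f565539 IH) (Lpr_gt (f565547 IH) (Lpr_dt (f538256 IH) (Lpr_ct (K38.f538223 IH) (Lpe (K35.f500419 IH) (Lpe (K35.f538254 IH) (Lpr_df (K35.f538260 IH) (Lpe (f559576 IH) (Lpn (LP (LK LD1_c6 LD2_c9 LD3_c2))))))))))))
theorem f268453 : Led Lsl_ff (LP (LK LD1_c2 LD2_c49 LD3_c12)) = (LP (LK LD1_c3 LD2_c0 LD3_c52)) :=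
  Lgr Lrot25 (Lpr_bt (K39.f175876 IH) (Lpr_ft (K15.f268451 IH) (Lpr_bt (K39.f175909 IH) (Lpn (LP (LK LD1_c3 LD2_c0 LD3_c52))))))
theorem f285260 : Led Lsl_ff (LP (LK LD1_c6 LD2_c9 LD3_c2)) = (LP (LK LD1_c5 LD2_c0 LD3_c31)) :=
  Lgr Lrot72 (Lpr_et (K39.f24012 IH) (Lpe (f268453 IH) (Lpe (K39.f180362 IH) (Lpr_ft (K39.f285258 IH) (Lpr_et (K39.f185135 IH) (Lpn (LP (LK LD1_c5 LD2_c0 LD3_c31))))))))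
theorem f566830 : Led Lsl_ft (LP (LK LD1_c11 LD2_c6 LD3_c48)) = (LP (LK LD1_c9 LD2_c51 LD3_c20)) :=
  Lgr Lrot4 (Lpr_cf (f566824 IH) (Lpr_ff (f285260 IH) (Lpe (K39.f175710 IH) (Lpn (LP (LK LD1_c9 LD2_c51 LD3_c20))))))
theorem f566836 : Led Lsl_ff (LP (LK LD1_c11 LD2_c6 LD3_c48)) = (LP (LK LD1_c9 LD2_c51 LD3_c20)) :=
  Lgr Lrot3 (Lpr_ft (f566830 IH) (Lpn (LP (LK LD1_c9 LD2_c51 LD3_c20))))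
theorem f506385 : Led Lsl_et (LP (LK LD1_c11 LD2_c6 LD3_c48)) = (LP (LK LD1_c5 LD2_c37 LD3_c41)) :=
  Lre_e IH (LK LD1_c11 LD2_c6 LD3_c48) (LK LD1_c5 LD2_c37 LD3_c41) Lrfl Lrfl
theorem f566838 : Led Lsl_ft (LP (LK LD1_c5 LD2_c37 LD3_c41)) = (LP (LK LD1_c5 LD2_c46 LD3_c52)) :=
  Lgr Lrot86 (Lpe (f506385 IH) (Lpr_ff (f566836 IH) (Lpe (K39.f204943 IH) (Lpe (K39.f553890 IH) (Lpr_ef (K39.f553928 IH) (Lpn (LP (LK LD1_c5 LD2_c46 LD3_c52))))))))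
theorem f566811 : Led Lsl_df (LP (LK LD1_c5 LD2_c37 LD3_c41)) = (LP (LK LD1_c7 LD2_c56 LD3_c25)) :=
  Lgr Lrot38 (Lpr_dt (f566806 IH) (Lpn (LP (LK LD1_c7 LD2_c56 LD3_c25))))
theorem f566844 : Led Lsl_ff (LP (LK LD1_c7 LD2_c56 LD3_c25)) = (LP (LK LD1_c11 LD2_c23 LD3_c54)) :=
  Lgr Lrot19 (Lpe (f566811 IH) (Lpr_ft (f566838 IH) (Lpr_dt (K39.f412358 IH) (Lpn (LP (LK LD1_c11 LD2_c23 LD3_c54))))))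
theorem f557162 : Led Lsl_ft (LP (LK LD1_c12 LD2_c7 LD3_c18)) = (LP (LK LD1_c7 LD2_c56 LD3_c26)) :=
  Lgr Lrot2 (Lpr_gt (K39.f557160 IH) (Lpr_gt (K39.f553935 IH) (Lpr_af (f556804 IH) (Lpn (LP (LK LD1_c7 LD2_c56 LD3_c26))))))
theorem f566846 : Led Lsl_at (LP (LK LD1_c7 LD2_c56 LD3_c25)) = (LP (LK LD1_c12 LD2_c7 LD3_c18)) :=
  Lgr Lrot66 (Lpr_ff (f566844 IH) (Lpr_af (f556804 IH) (Lpe (f557162 IH) (Lpn (LP (LK LD1_c12 LD2_c7 LD3_c18))))))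
theorem f566855 : Led Lsl_gf (LP (LK LD1_c12 LD2_c7 LD3_c18)) = (LP (LK LD1_c7 LD2_c56 LD3_c24)) :=
  Lgr Lrot76 (Lpe (f566846 IH) (Lpr_ff (f566844 IH) (Lpe (K39.f553932 IH) (Lpn (LP (LK LD1_c7 LD2_c56 LD3_c24))))))
theorem f547217 : Led Lsl_et (LP (LK LD1_c6 LD2_c14 LD3_c30)) = (LP (LK LD1_c12 LD2_c7 LD3_c19)) :=
  Lre_e IH (LK LD1_c6 LD2_c14 LD3_c30) (LK LD1_c12 LD2_c7 LD3_c19) Lrfl Lrfl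
theorem f566862 : Led Lsl_gt (LP (LK LD1_c12 LD2_c7 LD3_c19)) = (LP (LK LD1_c6 LD2_c14 LD3_c48)) :=
  Lgr Lrot131 (Lpe (f547217 IH) (Lpr_dt (K39.f112409 IH) (Lpr_gf (f566855 IH) (Lpe (K39.f99603 IH) (Lpe (f542299 IH) (Lpe (K39.f551672 IH) (Lpr_dt (K39.f160383 IH) (Lpe (K37.f162833 IH) (Lpe (f559167 IH) (Lpr_et (f547093 IH) (Lpn (LP (LK LD1_c6 LD2_c14 LD3_c48)))))))))))))
theorem f418991 : Led Lsl_at (LP (LK LD1_c5 LD2_c38 LD3_c37)) = (LP (LK LD1_c11 LD2_c8 LD3_c20)) :=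
  Lre_a IH (LK LD1_c5 LD2_c38 LD3_c37) (LK LD1_c11 LD2_c8 LD3_c20) Lrfl Lrfl
theorem f564267 : Led Lsl_af (LP (LK LD1_c6 LD2_c14 LD3_c48)) = (LP (LK LD1_c12 LD2_c7 LD3_c32)) :=
  Lgr Lrot45 (Lpe (f564235 IH) (Lpr_at (f418991 IH) (Lpr_ft (f564265 IH) (Lpn (LP (LK LD1_c12 LD2_c7 LD3_c32))))))
theorem f566864 : Led Lsl_gf (LP (LK LD1_c12 LD2_c7 LD3_c19)) = (LP (LK LD1_c11 LD2_c8 LD3_c20)) :=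
  Lgr Lrot47 (Lpr_gt (f566862 IH) (Lpr_af (f564267 IH) (Lpe (f564265 IH) (Lpn (LP (LK LD1_c11 LD2_c8 LD3_c20))))))
theorem f112407 : Led Lsl_et (LP (LK LD1_c12 LD2_c7 LD3_c19)) = (LP (LK LD1_c6 LD2_c14 LD3_c30)) :=
  Lre_e IH (LK LD1_c12 LD2_c7 LD3_c19) (LK LD1_c6 LD2_c14 LD3_c30) Lrfl Lrfl
theorem f210680 : Led Lsl_gt (LP (LK LD1_c11 LD2_c32 LD3_c5)) = (LP (LK LD1_c5 LD2_c52 LD3_c58)) :=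
  Lre_g IH (LK LD1_c11 LD2_c32 LD3_c5) (LK LD1_c5 LD2_c52 LD3_c58) Lrfl Lrfl
theorem f547213 : Led Lsl_dt (LP (LK LD1_c12 LD2_c7 LD3_c19)) = (LP (LK LD1_c11 LD2_c32 LD3_c5)) :=
  Lgr Lrot136 (Lpr_et (f112407 IH) (Lpe (K39.f112406 IH) (Lpe (K39.f112395 IH) (Lpr_dt (K4.f75082 IH) (Lpe (K4.f112393 IH) (Lpe (K4.f37812 IH) (Lpe (K6.f71047 IH) (Lpr_ef (K38.f547201 IH) (Lpr_dt (K36.f210684 IH) (Lpe (f210680 IH) (Lpn (LP (LK LD1_c11 LD2_c32 LD3_c5)))))))))))))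
theorem f566870 : Led Lsl_df (LP (LK LD1_c9 LD2_c8 LD3_c34)) = (LP (LK LD1_c12 LD2_c7 LD3_c50)) :=
  Lgr Lrot168 (Lpe (f420803 IH) (Lpe (K39.f202188 IH) (Lpr_et (K40.f202187 IH) (Lpe (K6.f71047 IH) (Lpr_ef (K38.f547201 IH) (Lpr_dt (K36.f210684 IH) (Lpe (f210680 IH) (Lpe (f547213 IH) (Lpr_gf (f566864 IH) (Lpr_ef (f564257 IH) (Lpn (LP (LK LD1_c12 LD2_c7 LD3_c50)))))))))))))
theorem f71077 : Led Lsl_gt (LP (LK LD1_c5 LD2_c53 LD3_c55)) = (LP (LK LD1_c2 LD2_c53 LD3_c34)) :=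
  Lre_g IH (LK LD1_c5 LD2_c53 LD3_c55) (LK LD1_c2 LD2_c53 LD3_c34) Lrfl Lrfl
theorem f71078 : Led Lsl_dt (LP (LK LD1_c2 LD2_c53 LD3_c34)) = (LP (LK LD1_c5 LD2_c54 LD3_c23)) :=
  Lre_d IH (LK LD1_c2 LD2_c53 LD3_c34) (LK LD1_c5 LD2_c54 LD3_c23) Lrfl Lrfl
theorem f418986 : Led Lsl_ct (LP (LK LD1_c5 LD2_c38 LD3_c36)) = (LP (LK LD1_c11 LD2_c8 LD3_c20)) :=
  Lre_c IH (LK LD1_c5 LD2_c38 LD3_c36) (LK LD1_c11 LD2_c8 LD3_c20) Lrfl Lrfl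
theorem f562538 : Led Lsl_gt (LP (LK LD1_c9 LD2_c51 LD3_c20)) = (LP (LK LD1_c11 LD2_c8 LD3_c20)) :=
  Lgr Lrot65 (Lpe (K38.f175705 IH) (Lpr_bt (K38.f175698 IH) (Lpe (K11.f176839 IH) (Lpe (K40.f176849 IH) (Lpr_ct (K39.f421043 IH) (Lpe (K40.f186452 IH) (Lpr_cf (K40.f558367 IH) (Lpr_gf (K40.f562532 IH) (Lpr_bf (K39.f450286 IH) (Lpr_ct (f418986 IH) (Lpn (LP (LK LD1_c11 LD2_c8 LD3_c20)))))))))))))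
theorem f566882 : Led Lsl_gt (LP (LK LD1_c5 LD2_c54 LD3_c23)) = (LP (LK LD1_c10 LD2_c1 LD3_c20)) :=
  Lgr Lrot139 (Lpe (f71078 IH) (Lpe (f71077 IH) (Lpe (K2.f71045 IH) (Lpr_dt (K40.f71072 IH) (Lpe (f71076 IH) (Lpr_df (f566870 IH) (Lpe (f564257 IH) (Lpe (f562538 IH) (Lpe (K39.f204943 IH) (Lpr_dt (K39.f205032 IH) (Lpn (LP (LK LD1_c10 LD2_c1 LD3_c20)))))))))))))
theorem f255285 : Led Lsl_bt (LP (LK LD1_c5 LD2_c5 LD3_c8)) = (LP (LK LD1_c10 LD2_c1 LD3_c20)) :=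
  Lre_b IH (LK LD1_c5 LD2_c5 LD3_c8) (LK LD1_c10 LD2_c1 LD3_c20) Lrfl Lrfl
theorem f566890 : Led Lsl_bf (LP (LK LD1_c5 LD2_c54 LD3_c23)) = (LP (LK LD1_c8 LD2_c3 LD3_c16)) :=
  Lgr Lrot156 (Lpr_gt (f566882 IH) (Lpe (f255285 IH) (Lpr_ct (K15.f255281 IH) (Lpe (K20.f255279 IH) (Lpr_cf (K13.f231546 IH) (Lpr_bt (f544519 IH) (Lpr_gt (K13.f197248 IH) (Lpe (K13.f239961 IH) (Lpe (K13.f242559 IH) (Lpr_cf (K13.f242142 IH) (Lpn (LP (LK LD1_c8 LD2_c3 LD3_c16)))))))))))))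
theorem f557820 : Led Lsl_dt (LP (LK LD1_c5 LD2_c54 LD3_c23)) = (LP (LK LD1_c2 LD2_c53 LD3_c34)) :=
  Lre_d IH (LK LD1_c5 LD2_c54 LD3_c23) (LK LD1_c2 LD2_c53 LD3_c34) Lrfl Lrfl
theorem f428089 : Led Lsl_ct (LP (LK LD1_c11 LD2_c35 LD3_c11)) = (LP (LK LD1_c5 LD2_c54 LD3_c51)) :=
  Lre_c IH (LK LD1_c11 LD2_c35 LD3_c11) (LK LD1_c5 LD2_c54 LD3_c51) Lrfl Lrfl
theorem f566888 : Led Lsl_gf (LP (LK LD1_c11 LD2_c35 LD3_c11)) = (LP (LK LD1_c18 LD2_c18 LD3_c54)) :=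
  Lgr Lrot104 (Lpr_ct (f428089 IH) (Lpe (K36.f186705 IH) (Lpe (K35.f186690 IH) (Lpe (K35.f137409 IH) (Lpe (K35.f166374 IH) (Lpe (K40.f138193 IH) (Lpe (f557820 IH) (Lpr_gt (f566882 IH) (Lpr_ct (K39.f205040 IH) (Lpn (LP (LK LD1_c18 LD2_c18 LD3_c54))))))))))))
theorem f428088 : Led Lsl_ct (LP (LK LD1_c5 LD2_c54 LD3_c51)) = (LP (LK LD1_c11 LD2_c35 LD3_c11)) :=
  Lre_c IH (LK LD1_c5 LD2_c54 LD3_c51) (LK LD1_c11 LD2_c35 LD3_c11) Lrfl Lrfl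
theorem f566899 : Led Lsl_bt (LP (LK LD1_c5 LD2_c54 LD3_c51)) = (LP (LK LD1_c9 LD2_c9 LD3_c51)) :=
  Lgr Lrot22 (Lpr_ct (f428088 IH) (Lpr_gf (f566888 IH) (Lpe (K39.f205040 IH) (Lpe (f566882 IH) (Lpr_bf (f566890 IH) (Lpe (K13.f242142 IH) (Lpr_gf (K13.f242559 IH) (Lpr_cf (K13.f239961 IH) (Lpr_bt (K38.f240052 IH) (Lpr_gf (K38.f547699 IH) (Lpn (LP (LK LD1_c9 LD2_c9 LD3_c51)))))))))))))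
theorem f541339 : Led Lsl_et (LP (LK LD1_c11 LD2_c35 LD3_c12)) = (LP (LK LD1_c5 LD2_c54 LD3_c51)) :=
  Lre_e IH (LK LD1_c11 LD2_c35 LD3_c12) (LK LD1_c5 LD2_c54 LD3_c51) Lrfl Lrfl
theorem f440240 : Led Lsl_dt (LP (LK LD1_c3 LD2_c36 LD3_c3)) = (LP (LK LD1_c7 LD2_c7 LD3_c35)) :=
  Lgr Lrot42 (Lpr_df (K39.f127354 IH) (Lpn (LP (LK LD1_c7 LD2_c7 LD3_c35))))
theorem f109500 : Led Lsl_et (LP (LK LD1_c7 LD2_c12 LD3_c30)) = (LP (LK LD1_c3 LD2_c36 LD3_c3)) :=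
  Lre_e IH (LK LD1_c7 LD2_c12 LD3_c30) (LK LD1_c3 LD2_c36 LD3_c3) Lrfl Lrfl
theorem f109512 : Led Lsl_dt (LP (LK LD1_c13 LD2_c38 LD3_c50)) = (LP (LK LD1_c7 LD2_c12 LD3_c30)) :=
  Lre_d IH (LK LD1_c13 LD2_c38 LD3_c50) (LK LD1_c7 LD2_c12 LD3_c30) Lrfl Lrfl
theorem f552717 : Led Lsl_ef (LP (LK LD1_c13 LD2_c38 LD3_c50)) = (LP (LK LD1_c9 LD2_c9 LD3_c51)) :=
  Lgr Lrot73 (Lpr_dt (f109512 IH) (Lpr_et (f109500 IH) (Lpr_dt (f440240 IH) (Lpr_et (K40.f552715 IH) (Lpr_dt (K38.f119052 IH) (Lpn (LP (LK LD1_c9 LD2_c9 LD3_c51))))))))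
theorem f566906 : Led Lsl_bf (LP (LK LD1_c11 LD2_c35 LD3_c12)) = (LP (LK LD1_c13 LD2_c38 LD3_c50)) :=
  Lgr Lrot96 (Lpr_et (f541339 IH) (Lpr_bt (f566899 IH) (Lpe (f552717 IH) (Lpn (LP (LK LD1_c13 LD2_c38 LD3_c50))))))
theorem f109527 : Led Lsl_dt (LP (LK LD1_c7 LD2_c12 LD3_c30)) = (LP (LK LD1_c13 LD2_c38 LD3_c50)) :=
  Lre_d IH (LK LD1_c7 LD2_c12 LD3_c30) (LK LD1_c13 LD2_c38 LD3_c50) Lrfl Lrfl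
theorem f566913 : Led Lsl_dt (LP (LK LD1_c11 LD2_c35 LD3_c12)) = (LP (LK LD1_c7 LD2_c33 LD3_c45)) :=
  Lgr Lrot79 (Lpr_bf (f566906 IH) (Lpe (f109527 IH) (Lpr_bf (K3.f109510 IH) (Lpn (LP (LK LD1_c7 LD2_c33 LD3_c45))))))
theorem f109538 : Led Lsl_at (LP (LK LD1_c7 LD2_c33 LD3_c45)) = (LP (LK LD1_c3 LD2_c46 LD3_c23)) :=
  Lre_a IH (LK LD1_c7 LD2_c33 LD3_c45) (LK LD1_c3 LD2_c46 LD3_c23) Lrfl Lrfl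
theorem f523479 : Led Lsl_dt (LP (LK LD1_c3 LD2_c46 LD3_c23)) = (LP (LK LD1_c7 LD2_c33 LD3_c50)) :=
  Lre_d IH (LK LD1_c3 LD2_c46 LD3_c23) (LK LD1_c7 LD2_c33 LD3_c50) Lrfl Lrfl
theorem f566917 : Led Lsl_af (LP (LK LD1_c11 LD2_c35 LD3_c12)) = (LP (LK LD1_c7 LD2_c33 LD3_c50)) :=
  Lgr Lrot117 (Lpr_dt (f566913 IH) (Lpr_at (f109538 IH) (Lpr_dt (f523479 IH) (Lpn (LP (LK LD1_c7 LD2_c33 LD3_c50))))))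
theorem f428018 : Led Lsl_dt (LP (LK LD1_c5 LD2_c53 LD3_c57)) = (LP (LK LD1_c11 LD2_c33 LD3_c42)) :=
  Lre_d IH (LK LD1_c5 LD2_c53 LD3_c57) (LK LD1_c11 LD2_c33 LD3_c42) Lrfl Lrfl
theorem f109041 : Led Lsl_et (LP (LK LD1_c3 LD2_c46 LD3_c23)) = (LP (LK LD1_c1 LD2_c50 LD3_c15)) :=
  Lre_e IH (LK LD1_c3 LD2_c46 LD3_c23) (LK LD1_c1 LD2_c50 LD3_c15) Lrfl Lrfl
theorem f523481 : Led Lsl_dt (LP (LK LD1_c7 LD2_c33 LD3_c50)) = (LP (LK LD1_c3 LD2_c46 LD3_c23)) :=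
  Lre_d IH (LK LD1_c7 LD2_c33 LD3_c50) (LK LD1_c3 LD2_c46 LD3_c23) Lrfl Lrfl
theorem f543944 : Led Lsl_et (LP (LK LD1_c11 LD2_c33 LD3_c42)) = (LP (LK LD1_c7 LD2_c33 LD3_c50)) :=
  Lgr Lrot71 (Lpe (f428018 IH) (Lpr_ef (K37.f543938 IH) (Lpe (K3.f94546 IH) (Lpe (f109041 IH) (Lpe (f523481 IH) (Lpn (LP (LK LD1_c7 LD2_c33 LD3_c50))))))))
theorem f566926 : Led Lsl_at (LP (LK LD1_c5 LD2_c54 LD3_c51)) = (LP (LK LD1_c11 LD2_c33 LD3_c42)) :=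
  Lgr Lrot80 (Lpe (f541339 IH) (Lpr_af (f566917 IH) (Lpe (f543944 IH) (Lpn (LP (LK LD1_c11 LD2_c33 LD3_c42))))))
theorem f428019 : Led Lsl_ct (LP (LK LD1_c11 LD2_c33 LD3_c42)) = (LP (LK LD1_c20 LD2_c31 LD3_c3)) :=
  Lre_c IH (LK LD1_c11 LD2_c33 LD3_c42) (LK LD1_c20 LD2_c31 LD3_c3) Lrfl Lrfl
theorem f566930 : Led Lsl_af (LP (LK LD1_c11 LD2_c35 LD3_c11)) = (LP (LK LD1_c20 LD2_c31 LD3_c3)) :=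
  Lgr Lrot68 (Lpr_ct (f428089 IH) (Lpr_at (f566926 IH) (Lpr_ct (f428019 IH) (Lpn (LP (LK LD1_c20 LD2_c31 LD3_c3))))))
theorem f556889 : Led Lsl_dt (LP (LK LD1_c11 LD2_c34 LD3_c34)) = (LP (LK LD1_c8 LD2_c10 LD3_c32)) :=
  Lgr Lrot42 (Lpr_df (K39.f556882 IH) (Lpn (LP (LK LD1_c8 LD2_c10 LD3_c32))))
theorem f556793 : Led Lsl_df (LP (LK LD1_c5 LD2_c54 LD3_c53)) = (LP (LK LD1_c4 LD2_c39 LD3_c42)) :=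
  Lgr Lrot168 (Lpe (K39.f137411 IH) (Lpe (K39.f137410 IH) (Lpr_et (K39.f500448 IH) (Lpr_gf (K39.f551653 IH) (Lpe (K16.f269078 IH) (Lpr_dt (K39.f269095 IH) (Lpe (K39.f551649 IH) (Lpe (K6.f104821 IH) (Lpe (K39.f59418 IH) (Lpr_ef (K39.f556786 IH) (Lpn (LP (LK LD1_c4 LD2_c39 LD3_c42)))))))))))))
theorem f553869 : Led Lsl_ct (LP (LK LD1_c5 LD2_c54 LD3_c53)) = (LP (LK LD1_c11 LD2_c35 LD3_c13)) :=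
  Lre_c IH (LK LD1_c5 LD2_c54 LD3_c53) (LK LD1_c11 LD2_c35 LD3_c13) Lrfl Lrfl
theorem f553885 : Led Lsl_dt (LP (LK LD1_c11 LD2_c35 LD3_c13)) = (LP (LK LD1_c20 LD2_c33 LD3_c13)) :=
  Lre_d IH (LK LD1_c11 LD2_c35 LD3_c13) (LK LD1_c20 LD2_c33 LD3_c13) Lrfl Lrfl
theorem f553881 : Led Lsl_ct (LP (LK LD1_c20 LD2_c33 LD3_c13)) = (LP (LK LD1_c27 LD2_c57 LD3_c35)) :=
  Lgr Lrot59 (Lpr_cf (K39.f553879 IH) (Lpn (LP (LK LD1_c27 LD2_c57 LD3_c35))))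
theorem f205058 : Led Lsl_dt (LP (LK LD1_c27 LD2_c57 LD3_c35)) = (LP (LK LD1_c18 LD2_c18 LD3_c54)) :=
  Lre_d IH (LK LD1_c27 LD2_c57 LD3_c35) (LK LD1_c18 LD2_c18 LD3_c54) Lrfl Lrfl
theorem f205042 : Led Lsl_ct (LP (LK LD1_c18 LD2_c18 LD3_c54)) = (LP (LK LD1_c10 LD2_c1 LD3_c20)) :=
  Lre_c IH (LK LD1_c18 LD2_c18 LD3_c54) (LK LD1_c10 LD2_c1 LD3_c20) Lrfl Lrfl
theorem f556908 : Led Lsl_af (LP (LK LD1_c10 LD2_c1 LD3_c20)) = (LP (LK LD1_c8 LD2_c10 LD3_c34)) :=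
  Lgr Lrot109 (Lpe (f205042 IH) (Lpe (f205058 IH) (Lpe (f553881 IH) (Lpe (f553885 IH) (Lpe (f553869 IH) (Lpr_df (f556793 IH) (Lpr_cf (K39.f553811 IH) (Lpe (f556889 IH) (Lpr_ft (K39.f556894 IH) (Lpn (LP (LK LD1_c8 LD2_c10 LD3_c34))))))))))))
theorem f556917 : Led Lsl_at (LP (LK LD1_c8 LD2_c10 LD3_c33)) = (LP (LK LD1_c11 LD2_c34 LD3_c34)) :=
  Lgr Lrot66 (Lpr_ff (K39.f553899 IH) (Lpr_af (f556908 IH) (Lpe (K39.f556894 IH) (Lpn (LP (LK LD1_c11 LD2_c34 LD3_c34))))))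
theorem f556923 : Led Lsl_gt (LP (LK LD1_c10 LD2_c1 LD3_c20)) = (LP (LK LD1_c5 LD2_c54 LD3_c21)) :=
  Lgr Lrot5 (Lpe (K39.f553899 IH) (Lpr_at (f556917 IH) (Lpe (K39.f138622 IH) (Lpn (LP (LK LD1_c5 LD2_c54 LD3_c21))))))
theorem f556952 : Led Lsl_bt (LP (LK LD1_c11 LD2_c34 LD3_c33)) = (LP (LK LD1_c5 LD2_c54 LD3_c21)) :=
  Lre_b IH (LK LD1_c11 LD2_c34 LD3_c33) (LK LD1_c5 LD2_c54 LD3_c21) Lrfl Lrfl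
theorem f239282 : Led Lsl_ct (LP (LK LD1_c11 LD2_c34 LD3_c33)) = (LP (LK LD1_c20 LD2_c32 LD3_c21)) :=
  Lre_c IH (LK LD1_c11 LD2_c34 LD3_c33) (LK LD1_c20 LD2_c32 LD3_c21) Lrfl Lrfl
theorem f556953 : Led Lsl_gf (LP (LK LD1_c18 LD2_c39 LD3_c32)) = (LP (LK LD1_c20 LD2_c32 LD3_c21)) :=
  Lgr Lrot126 (Lpe (K38.f212071 IH) (Lpe (K38.f212069 IH) (Lpe (K13.f240614 IH) (Lpr_ct (K13.f240960 IH) (Lpr_gt (K14.f255311 IH) (Lpe (K15.f255281 IH) (Lpr_bt (f255285 IH) (Lpr_gt (f556923 IH) (Lpe (f556952 IH) (Lpr_ct (f239282 IH) (Lpn (LP (LK LD1_c20 LD2_c32 LD3_c21)))))))))))))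
theorem f212080 : Led Lsl_ct (LP (LK LD1_c18 LD2_c39 LD3_c32)) = (LP (LK LD1_c10 LD2_c15 LD3_c23)) :=
  Lre_c IH (LK LD1_c18 LD2_c39 LD3_c32) (LK LD1_c10 LD2_c15 LD3_c23) Lrfl Lrfl
theorem f193623 : Led Lsl_ct (LP (LK LD1_c9 LD2_c15 LD3_c3)) = (LP (LK LD1_c17 LD2_c9 LD3_c29)) :=
  Lre_c IH (LK LD1_c9 LD2_c15 LD3_c3) (LK LD1_c17 LD2_c9 LD3_c29) Lrfl Lrfl
theorem f542829 : Led Lsl_ff (LP (LK LD1_c18 LD2_c39 LD3_c32)) = (LP (LK LD1_c17 LD2_c9 LD3_c29)) :=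
  Lgr Lrot23 (Lpr_ct (f212080 IH) (Lpr_ft (K36.f542821 IH) (Lpr_ct (f193623 IH) (Lpn (LP (LK LD1_c17 LD2_c9 LD3_c29))))))
theorem f542832 : Led Lsl_at (LP (LK LD1_c27 LD2_c1 LD3_c24)) = (LP (LK LD1_c17 LD2_c9 LD3_c29)) :=
  Lre_a IH (LK LD1_c27 LD2_c1 LD3_c24) (LK LD1_c17 LD2_c9 LD3_c29) Lrfl Lrfl
theorem f542833 : Led Lsl_ft (LP (LK LD1_c17 LD2_c9 LD3_c21)) = (LP (LK LD1_c27 LD2_c1 LD3_c24)) :=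
  Lre_f IH (LK LD1_c17 LD2_c9 LD3_c21) (LK LD1_c27 LD2_c1 LD3_c24) Lrfl Lrfl
theorem f542834 : Led Lsl_at (LP (LK LD1_c18 LD2_c39 LD3_c32)) = (LP (LK LD1_c17 LD2_c9 LD3_c21)) :=
  Lgr Lrot66 (Lpr_ff (f542829 IH) (Lpe (f542832 IH) (Lpe (f542833 IH) (Lpn (LP (LK LD1_c17 LD2_c9 LD3_c21))))))
theorem f542847 : Led Lsl_af (LP (LK LD1_c18 LD2_c39 LD3_c32)) = (LP (LK LD1_c17 LD2_c9 LD3_c21)) :=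
  Lgr Lrot0 (Lpr_at (f542834 IH) (Lpn (LP (LK LD1_c17 LD2_c9 LD3_c21))))
theorem f542866 : Led Lsl_ft (LP (LK LD1_c27 LD2_c1 LD3_c24)) = (LP (LK LD1_c17 LD2_c9 LD3_c21)) :=
  Lre_f IH (LK LD1_c27 LD2_c1 LD3_c24) (LK LD1_c17 LD2_c9 LD3_c21) Lrfl Lrfl
theorem f556956 : Led Lsl_gt (LP (LK LD1_c27 LD2_c1 LD3_c24)) = (LP (LK LD1_c20 LD2_c32 LD3_c21)) :=
  Lgr Lrot5 (Lpr_ft (f542866 IH) (Lpe (f542847 IH) (Lpr_gf (f556953 IH) (Lpn (LP (LK LD1_c20 LD2_c32 LD3_c21))))))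
theorem f542793 : Led Lsl_ct (LP (LK LD1_c17 LD2_c9 LD3_c23)) = (LP (LK LD1_c27 LD2_c1 LD3_c24)) :=
  Lre_c IH (LK LD1_c17 LD2_c9 LD3_c23) (LK LD1_c27 LD2_c1 LD3_c24) Lrfl Lrfl
theorem f387053 : Led Lsl_bt (LP (LK LD1_c11 LD2_c6 LD3_c49)) = (LP (LK LD1_c5 LD2_c37 LD3_c42)) :=
  Lre_b IH (LK LD1_c11 LD2_c6 LD3_c49) (LK LD1_c5 LD2_c37 LD3_c42) Lrfl Lrfl
theorem f404357 : Led Lsl_bt (LP (LK LD1_c7 LD2_c56 LD3_c26)) = (LP (LK LD1_c14 LD2_c58 LD3_c46)) :=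
  Lre_b IH (LK LD1_c7 LD2_c56 LD3_c26) (LK LD1_c14 LD2_c58 LD3_c46) Lrfl Lrfl
theorem f556806 : Led Lsl_df (LP (LK LD1_c11 LD2_c6 LD3_c49)) = (LP (LK LD1_c14 LD2_c58 LD3_c46)) :=
  Lgr Lrot12 (Lpr_bt (f387053 IH) (Lpr_dt (f556802 IH) (Lpr_bt (f404357 IH) (Lpn (LP (LK LD1_c14 LD2_c58 LD3_c46))))))
theorem f556835 : Led Lsl_af (LP (LK LD1_c5 LD2_c46 LD3_c38)) = (LP (LK LD1_c11 LD2_c6 LD3_c49)) :=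
  Lgr Lrot117 (Lpr_dt (K39.f197509 IH) (Lpr_at (f556819 IH) (Lpe (f556806 IH) (Lpn (LP (LK LD1_c11 LD2_c6 LD3_c49))))))
theorem f240835 : Led Lsl_at (LP (LK LD1_c5 LD2_c5 LD3_c9)) = (LP (LK LD1_c10 LD2_c1 LD3_c24)) :=
  Lre_a IH (LK LD1_c5 LD2_c5 LD3_c9) (LK LD1_c10 LD2_c1 LD3_c24) Lrfl Lrfl
theorem f556853 : Led Lsl_et (LP (LK LD1_c10 LD2_c1 LD3_c24)) = (LP (LK LD1_c11 LD2_c6 LD3_c49)) :=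
  Lgr Lrot123 (Lpe (f240835 IH) (Lpe (K13.f240833 IH) (Lpr_af (f556835 IH) (Lpn (LP (LK LD1_c11 LD2_c6 LD3_c49))))))
theorem f556857 : Led Lsl_ef (LP (LK LD1_c10 LD2_c1 LD3_c24)) = (LP (LK LD1_c11 LD2_c6 LD3_c49)) :=
  Lgr Lrot88 (Lpr_et (f556853 IH) (Lpn (LP (LK LD1_c11 LD2_c6 LD3_c49))))
theorem f556775 : Led Lsl_bt (LP (LK LD1_c5 LD2_c37 LD3_c42)) = (LP (LK LD1_c11 LD2_c6 LD3_c49)) :=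
  Lre_b IH (LK LD1_c5 LD2_c37 LD3_c42) (LK LD1_c11 LD2_c6 LD3_c49) Lrfl Lrfl
theorem f556859 : Led Lsl_bt (LP (LK LD1_c10 LD2_c1 LD3_c24)) = (LP (LK LD1_c8 LD2_c10 LD3_c32)) :=
  Lgr Lrot119 (Lpr_ef (f556857 IH) (Lpe (f556775 IH) (Lpr_ef (K39.f556800 IH) (Lpn (LP (LK LD1_c8 LD2_c10 LD3_c32))))))
theorem f56255 : Led Lsl_bt (LP (LK LD1_c4 LD2_c39 LD3_c43)) = (LP (LK LD1_c9 LD2_c14 LD3_c59)) :=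
  Lre_b IH (LK LD1_c4 LD2_c39 LD3_c43) (LK LD1_c9 LD2_c14 LD3_c59) Lrfl Lrfl
theorem f556861 : Led Lsl_cf (LP (LK LD1_c10 LD2_c1 LD3_c24)) = (LP (LK LD1_c9 LD2_c14 LD3_c59)) :=
  Lgr Lrot97 (Lpr_bt (f556859 IH) (Lpe (K39.f553811 IH) (Lpr_bt (K39.f8406 IH) (Lpr_ct (K36.f8408 IH) (Lpr_bt (f56255 IH) (Lpn (LP (LK LD1_c9 LD2_c14 LD3_c59))))))))
theorem f556863 : Led Lsl_ct (LP (LK LD1_c10 LD2_c1 LD3_c24)) = (LP (LK LD1_c9 LD2_c14 LD3_c59)) :=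
  Lgr Lrot59 (Lpr_cf (f556861 IH) (Lpn (LP (LK LD1_c9 LD2_c14 LD3_c59))))
theorem f240787 : Led Lsl_et (LP (LK LD1_c5 LD2_c46 LD3_c45)) = (LP (LK LD1_c5 LD2_c5 LD3_c5)) :=
  Lgr Lrot74 (Lpe (K13.f60643 IH) (Lpr_ef (K13.f240779 IH) (Lpe (K13.f240663 IH) (Lpn (LP (LK LD1_c5 LD2_c5 LD3_c5))))))
theorem f240846 : Led Lsl_ct (LP (LK LD1_c5 LD2_c5 LD3_c5)) = (LP (LK LD1_c5 LD2_c5 LD3_c9)) :=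
  Lgr Lrot15 (Lpe (f240787 IH) (Lpr_cf (K38.f197465 IH) (Lpr_ef (K13.f240840 IH) (Lpn (LP (LK LD1_c5 LD2_c5 LD3_c9))))))
theorem f556865 : Led Lsl_af (LP (LK LD1_c5 LD2_c5 LD3_c5)) = (LP (LK LD1_c9 LD2_c14 LD3_c59)) :=
  Lgr Lrot68 (Lpr_ct (f240846 IH) (Lpr_at (f240835 IH) (Lpr_ct (f556863 IH) (Lpn (LP (LK LD1_c9 LD2_c14 LD3_c59))))))
theorem f272346 : Led Lsl_bt (LP (LK LD1_c5 LD2_c12 LD3_c53)) = (LP (LK LD1_c2 LD2_c33 LD3_c17)) :=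
  Lre_b IH (LK LD1_c5 LD2_c12 LD3_c53) (LK LD1_c2 LD2_c33 LD3_c17) Lrfl Lrfl
theorem f272347 : Led Lsl_ff (LP (LK LD1_c5 LD2_c12 LD3_c53)) = (LP (LK LD1_c5 LD2_c5 LD3_c5)) :=
  Lgr Lrot25 (Lpr_bt (f272346 IH) (Lpr_ft (K16.f272344 IH) (Lpr_bt (K13.f240692 IH) (Lpn (LP (LK LD1_c5 LD2_c5 LD3_c5))))))
theorem f273147 : Led Lsl_at (LP (LK LD1_c5 LD2_c12 LD3_c53)) = (LP (LK LD1_c10 LD2_c16 LD3_c6)) :=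
  Lre_a IH (LK LD1_c5 LD2_c12 LD3_c53) (LK LD1_c10 LD2_c16 LD3_c6) Lrfl Lrfl
theorem f556867 : Led Lsl_ft (LP (LK LD1_c10 LD2_c16 LD3_c6)) = (LP (LK LD1_c9 LD2_c14 LD3_c59)) :=
  Lgr Lrot101 (Lpe (f273147 IH) (Lpr_ff (f272347 IH) (Lpr_af (f556865 IH) (Lpn (LP (LK LD1_c9 LD2_c14 LD3_c59))))))
theorem f556871 : Led Lsl_ff (LP (LK LD1_c10 LD2_c16 LD3_c6)) = (LP (LK LD1_c9 LD2_c14 LD3_c59)) :=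
  Lgr Lrot3 (Lpr_ft (f556867 IH) (Lpn (LP (LK LD1_c9 LD2_c14 LD3_c59))))
theorem f556873 : Led Lsl_bt (LP (LK LD1_c10 LD2_c16 LD3_c6)) = (LP (LK LD1_c9 LD2_c14 LD3_c61)) :=
  Lgr Lrot35 (Lpr_ff (f556871 IH) (Lpe (f56255 IH) (Lpe (K36.f542806 IH) (Lpn (LP (LK LD1_c9 LD2_c14 LD3_c61))))))
theorem f411042 : Led Lsl_dt (LP (LK LD1_c18 LD2_c40 LD3_c37)) = (LP (LK LD1_c10 LD2_c16 LD3_c6)) :=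
  Lre_d IH (LK LD1_c18 LD2_c40 LD3_c37) (LK LD1_c10 LD2_c16 LD3_c6) Lrfl Lrfl
theorem f556876 : Led Lsl_bf (LP (LK LD1_c18 LD2_c40 LD3_c37)) = (LP (LK LD1_c17 LD2_c9 LD3_c23)) :=
  Lgr Lrot93 (Lpr_dt (f411042 IH) (Lpr_bt (f556873 IH) (Lpr_dt (K38.f542792 IH) (Lpn (LP (LK LD1_c17 LD2_c9 LD3_c23))))))
theorem f556886 : Led Lsl_ct (LP (LK LD1_c11 LD2_c34 LD3_c34)) = (LP (LK LD1_c20 LD2_c32 LD3_c23)) :=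
  Lre_c IH (LK LD1_c11 LD2_c34 LD3_c34) (LK LD1_c20 LD2_c32 LD3_c23) Lrfl Lrfl
theorem f556931 : Led Lsl_gt (LP (LK LD1_c20 LD2_c32 LD3_c23)) = (LP (LK LD1_c11 LD2_c35 LD3_c23)) :=
  Lre_g IH (LK LD1_c20 LD2_c32 LD3_c23) (LK LD1_c11 LD2_c35 LD3_c23) Lrfl Lrfl
theorem f421249 : Led Lsl_ct (LP (LK LD1_c5 LD2_c54 LD3_c60)) = (LP (LK LD1_c11 LD2_c35 LD3_c23)) :=
  Lre_c IH (LK LD1_c5 LD2_c54 LD3_c60) (LK LD1_c11 LD2_c35 LD3_c23) Lrfl Lrfl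
theorem f556959 : Led Lsl_bt (LP (LK LD1_c5 LD2_c54 LD3_c60)) = (LP (LK LD1_c11 LD2_c35 LD3_c22)) :=
  Lre_b IH (LK LD1_c5 LD2_c54 LD3_c60) (LK LD1_c11 LD2_c35 LD3_c22) Lrfl Lrfl
theorem f556960 : Led Lsl_gf (LP (LK LD1_c18 LD2_c40 LD3_c37)) = (LP (LK LD1_c11 LD2_c35 LD3_c22)) :=
  Lgr Lrot124 (Lpr_bf (f556876 IH) (Lpr_ct (f542793 IH) (Lpr_gt (f556956 IH) (Lpe (f239282 IH) (Lpr_bt (f556952 IH) (Lpr_gt (K39.f138622 IH) (Lpr_ct (f556886 IH) (Lpr_gt (f556931 IH) (Lpe (f421249 IH) (Lpr_bt (f556959 IH) (Lpn (LP (LK LD1_c11 LD2_c35 LD3_c22)))))))))))))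
theorem f411030 : Led Lsl_at (LP (LK LD1_c10 LD2_c16 LD3_c7)) = (LP (LK LD1_c18 LD2_c40 LD3_c37)) :=
  Lre_a IH (LK LD1_c10 LD2_c16 LD3_c7) (LK LD1_c18 LD2_c40 LD3_c37) Lrfl Lrfl
theorem f240927 : Led Lsl_bt (LP (LK LD1_c10 LD2_c16 LD3_c7)) = (LP (LK LD1_c5 LD2_c12 LD3_c54)) :=
  Lre_b IH (LK LD1_c10 LD2_c16 LD3_c7) (LK LD1_c5 LD2_c12 LD3_c54) Lrfl Lrfl
theorem f266521 : Led Lsl_bt (LP (LK LD1_c5 LD2_c5 LD3_c6)) = (LP (LK LD1_c10 LD2_c1 LD3_c18)) :=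
  Lre_b IH (LK LD1_c5 LD2_c5 LD3_c6) (LK LD1_c10 LD2_c1 LD3_c18) Lrfl Lrfl
theorem f272998 : Led Lsl_ff (LP (LK LD1_c10 LD2_c16 LD3_c7)) = (LP (LK LD1_c10 LD2_c1 LD3_c18)) :=
  Lgr Lrot25 (Lpr_bt (f240927 IH) (Lpr_ft (K16.f272996 IH) (Lpr_bt (f266521 IH) (Lpn (LP (LK LD1_c10 LD2_c1 LD3_c18))))))
theorem f556962 : Led Lsl_gt (LP (LK LD1_c10 LD2_c1 LD3_c18)) = (LP (LK LD1_c11 LD2_c35 LD3_c22)) :=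
  Lgr Lrot5 (Lpe (f272998 IH) (Lpr_at (f411030 IH) (Lpr_gf (f556960 IH) (Lpn (LP (LK LD1_c11 LD2_c35 LD3_c22))))))
theorem f266508 : Led Lsl_gt (LP (LK LD1_c8 LD2_c37 LD3_c55)) = (LP (LK LD1_c10 LD2_c0 LD3_c60)) :=
  Lgr Lrot189 (Lpe (K32.f191284 IH) (Lpe (K11.f191277 IH) (Lpr_ct (K11.f31724 IH) (Lpe (K10.f189867 IH) (Lpr_dt (K10.f28997 IH) (Lpe (K12.f225638 IH) (Lpr_dt (K12.f33355 IH) (Lpr_ct (K15.f266485 IH) (Lpe (K15.f266507 IH) (Lpn (LP (LK LD1_c10 LD2_c0 LD3_c60))))))))))))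
theorem f255318 : Led Lsl_bt (LP (LK LD1_c10 LD2_c1 LD3_c20)) = (LP (LK LD1_c5 LD2_c5 LD3_c8)) :=
  Lre_b IH (LK LD1_c10 LD2_c1 LD3_c20) (LK LD1_c5 LD2_c5 LD3_c8) Lrfl Lrfl
theorem f556966 : Led Lsl_gf (LP (LK LD1_c18 LD2_c18 LD3_c54)) = (LP (LK LD1_c11 LD2_c35 LD3_c23)) :=
  Lgr Lrot126 (Lpe (K39.f205040 IH) (Lpr_bt (f255318 IH) (Lpe (K14.f255132 IH) (Lpr_ct (K14.f255313 IH) (Lpr_gt (f266508 IH) (Lpe (K15.f266510 IH) (Lpr_bt (f266521 IH) (Lpr_gt (f556962 IH) (Lpe (f556959 IH) (Lpr_ct (f421249 IH) (Lpn (LP (LK LD1_c11 LD2_c35 LD3_c23)))))))))))))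
theorem f566936 : Led Lsl_ft (LP (LK LD1_c11 LD2_c35 LD3_c23)) = (LP (LK LD1_c20 LD2_c31 LD3_c3)) :=
  Lgr Lrot2 (Lpe (f556966 IH) (Lpe (f566888 IH) (Lpr_af (f566930 IH) (Lpn (LP (LK LD1_c20 LD2_c31 LD3_c3))))))
theorem f566940 : Led Lsl_ff (LP (LK LD1_c11 LD2_c35 LD3_c23)) = (LP (LK LD1_c20 LD2_c31 LD3_c3)) :=
  Lgr Lrot3 (Lpr_ft (f566936 IH) (Lpn (LP (LK LD1_c20 LD2_c31 LD3_c3))))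
theorem f421250 : Led Lsl_ct (LP (LK LD1_c11 LD2_c35 LD3_c23)) = (LP (LK LD1_c5 LD2_c54 LD3_c60)) :=
  Lre_c IH (LK LD1_c11 LD2_c35 LD3_c23) (LK LD1_c5 LD2_c54 LD3_c60) Lrfl Lrfl
theorem f566942 : Led Lsl_ft (LP (LK LD1_c5 LD2_c54 LD3_c60)) = (LP (LK LD1_c11 LD2_c33 LD3_c42)) :=
  Lgr Lrot4 (Lpe (f421250 IH) (Lpr_ff (f566940 IH) (Lpe (f428019 IH) (Lpn (LP (LK LD1_c11 LD2_c33 LD3_c42))))))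
theorem f421248 : Led Lsl_dt (LP (LK LD1_c2 LD2_c53 LD3_c50)) = (LP (LK LD1_c5 LD2_c54 LD3_c60)) :=
  Lre_d IH (LK LD1_c2 LD2_c53 LD3_c50) (LK LD1_c5 LD2_c54 LD3_c60) Lrfl Lrfl
theorem f428024 : Led Lsl_dt (LP (LK LD1_c11 LD2_c33 LD3_c42)) = (LP (LK LD1_c5 LD2_c53 LD3_c57)) :=
  Lre_d IH (LK LD1_c11 LD2_c33 LD3_c42) (LK LD1_c5 LD2_c53 LD3_c57) Lrfl Lrfl
theorem f566948 : Led Lsl_ff (LP (LK LD1_c2 LD2_c53 LD3_c50)) = (LP (LK LD1_c5 LD2_c53 LD3_c57)) :=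
  Lgr Lrot19 (Lpr_dt (f421248 IH) (Lpr_ft (f566942 IH) (Lpr_dt (f428024 IH) (Lpn (LP (LK LD1_c5 LD2_c53 LD3_c57))))))
def v1632 : LQ := Led Lsl_at (LP (LK LD1_c1 LD2_c22 LD3_c54))
theorem f500446 : Led Lsl_at (LP (LK LD1_c1 LD2_c22 LD3_c54)) = v1632 :=
  Lrfl
theorem f500447 : Led Lsl_af (LP (LK LD1_c1 LD2_c22 LD3_c54)) = v1632 :=
  Lgr Lrot0 (Lpr_at (f500446 IH) (Lpn v1632))
theorem f500449 : Led Lsl_ft (LP (LK LD1_c1 LD2_c22 LD3_c55)) = v1632 :=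
  Lgr Lrot2 (Lpr_gt (K35.f171697 IH) (Lpr_gt (K35.f137409 IH) (Lpr_af (f500447 IH) (Lpn v1632))))
theorem f566965 : v1632 = (LP (LK LD1_c2 LD2_c53 LD3_c20)) :=
  (Llr Lrot4 (Lpe (f500449 IH) (Lpe (K35.f201595 IH) (Lpr_ff (f566948 IH) (Lpe (K37.f428023 IH) (Lpn (LP (LK LD1_c2 LD2_c53 LD3_c20)))))))).symm
theorem f556435 : Led Lsl_bt (LP (LK LD1_c2 LD2_c53 LD3_c20)) = (LP (LK LD1_c4 LD2_c5 LD3_c39)) :=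
  Lgr Lrot127 (Lpr_bf (K39.f556433 IH) (Lpn (LP (LK LD1_c4 LD2_c5 LD3_c39))))
theorem f566970 : Led Lsl_ff (LP (LK LD1_c2 LD2_c53 LD3_c49)) = (LP (LK LD1_c4 LD2_c5 LD3_c39)) :=
  Lgr Lrot25 (Lpr_bt (K37.f171698 IH) (Lpr_ft (f500449 IH) (Lpqs (f566965 IH) (Lpr_bt (f556435 IH) (Lpn (LP (LK LD1_c4 LD2_c5 LD3_c39)))))))
theorem f55910 : Led Lsl_gt (LP (LK LD1_c2 LD2_c0 LD3_c6)) = (LP (LK LD1_c4 LD2_c5 LD3_c38)) :=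
  Lre_g IH (LK LD1_c2 LD2_c0 LD3_c6) (LK LD1_c4 LD2_c5 LD3_c38) Lrfl Lrfl
theorem f567070 : Led Lsl_af (LP (LK LD1_c4 LD2_c5 LD3_c38)) = (LP (LK LD1_c2 LD2_c53 LD3_c49)) :=
  Lgr Lrot31 (Lpe (f55910 IH) (Lpe (K39.f192677 IH) (Lpe (f566970 IH) (Lpn (LP (LK LD1_c2 LD2_c53 LD3_c49))))))
theorem f239275 : Led Lsl_dt (LP (LK LD1_c2 LD2_c53 LD3_c51)) = (LP (LK LD1_c1 LD2_c22 LD3_c55)) :=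
  Lre_d IH (LK LD1_c2 LD2_c53 LD3_c51) (LK LD1_c1 LD2_c22 LD3_c55) Lrfl Lrfl
theorem f112389 : Led Lsl_dt (LP (LK LD1_c2 LD2_c53 LD3_c20)) = (LP (LK LD1_c5 LD2_c53 LD3_c58)) :=
  Lre_d IH (LK LD1_c2 LD2_c53 LD3_c20) (LK LD1_c5 LD2_c53 LD3_c58) Lrfl Lrfl
theorem f566972 : Led Lsl_ff (LP (LK LD1_c2 LD2_c53 LD3_c51)) = (LP (LK LD1_c5 LD2_c53 LD3_c58)) :=
  Lgr Lrot19 (Lpr_dt (f239275 IH) (Lpr_ft (f500449 IH) (Lpqs (f566965 IH) (Lpr_dt (f112389 IH) (Lpn (LP (LK LD1_c5 LD2_c53 LD3_c58)))))))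
theorem f566978 : Led Lsl_ft (LP (LK LD1_c2 LD2_c53 LD3_c51)) = (LP (LK LD1_c5 LD2_c53 LD3_c58)) :=
  Lgr Lrot48 (Lpr_ff (f566972 IH) (Lpn (LP (LK LD1_c5 LD2_c53 LD3_c58))))
theorem f71115 : Led Lsl_dt (LP (LK LD1_c1 LD2_c22 LD3_c55)) = (LP (LK LD1_c2 LD2_c53 LD3_c51)) :=
  Lre_d IH (LK LD1_c1 LD2_c22 LD3_c55) (LK LD1_c2 LD2_c53 LD3_c51) Lrfl Lrfl
theorem f205037 : Led Lsl_dt (LP (LK LD1_c10 LD2_c1 LD3_c20)) = (LP (LK LD1_c5 LD2_c5 LD3_c7)) :=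
  Lre_d IH (LK LD1_c10 LD2_c1 LD3_c20) (LK LD1_c5 LD2_c5 LD3_c7) Lrfl Lrfl
theorem f566886 : Led Lsl_gt (LP (LK LD1_c2 LD2_c53 LD3_c51)) = (LP (LK LD1_c5 LD2_c6 LD3_c53)) :=
  Lgr Lrot49 (Lpe (f71115 IH) (Lpe (K37.f71114 IH) (Lpe (K35.f71066 IH) (Lpr_gt (f71077 IH) (Lpr_dt (f71078 IH) (Lpr_gt (f566882 IH) (Lpr_dt (f205037 IH) (Lpr_cf (K39.f205038 IH) (Lpr_df (K39.f186249 IH) (Lpn (LP (LK LD1_c5 LD2_c6 LD3_c53))))))))))))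
theorem f566984 : Led Lsl_af (LP (LK LD1_c2 LD2_c53 LD3_c47)) = (LP (LK LD1_c5 LD2_c53 LD3_c58)) :=
  Lgr Lrot31 (Lpr_gf (K39.f553857 IH) (Lpe (f566886 IH) (Lpr_ft (f566978 IH) (Lpn (LP (LK LD1_c5 LD2_c53 LD3_c58))))))
theorem f500466 : Led Lsl_et (LP (LK LD1_c2 LD2_c53 LD3_c47)) = (LP (LK LD1_c5 LD2_c54 LD3_c55)) :=
  Lre_e IH (LK LD1_c2 LD2_c53 LD3_c47) (LK LD1_c5 LD2_c54 LD3_c55) Lrfl Lrfl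
theorem f543916 : Led Lsl_et (LP (LK LD1_c11 LD2_c33 LD3_c44)) = (LP (LK LD1_c5 LD2_c53 LD3_c58)) :=
  Lre_e IH (LK LD1_c11 LD2_c33 LD3_c44) (LK LD1_c5 LD2_c53 LD3_c58) Lrfl Lrfl
theorem f566991 : Led Lsl_at (LP (LK LD1_c5 LD2_c54 LD3_c55)) = (LP (LK LD1_c11 LD2_c33 LD3_c44)) :=
  Lgr Lrot80 (Lpe (f500466 IH) (Lpr_af (f566984 IH) (Lpe (f543916 IH) (Lpn (LP (LK LD1_c11 LD2_c33 LD3_c44))))))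
theorem f202268 : Led Lsl_dt (LP (LK LD1_c11 LD2_c35 LD3_c18)) = (LP (LK LD1_c5 LD2_c54 LD3_c55)) :=
  Lre_d IH (LK LD1_c11 LD2_c35 LD3_c18) (LK LD1_c5 LD2_c54 LD3_c55) Lrfl Lrfl
theorem f436717 : Led Lsl_et (LP (LK LD1_c5 LD2_c53 LD3_c58)) = (LP (LK LD1_c11 LD2_c33 LD3_c44)) :=
  Lre_e IH (LK LD1_c5 LD2_c53 LD3_c58) (LK LD1_c11 LD2_c33 LD3_c44) Lrfl Lrfl
theorem f543912 : Led Lsl_dt (LP (LK LD1_c11 LD2_c33 LD3_c44)) = (LP (LK LD1_c6 LD2_c16 LD3_c37)) :=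
  Lgr Lrot77 (Lpe (f436717 IH) (Lpe (f112389 IH) (Lpr_ef (K37.f543908 IH) (Lpe (K37.f543898 IH) (Lpe (K40.f420478 IH) (Lpn (LP (LK LD1_c6 LD2_c16 LD3_c37))))))))
theorem f566999 : Led Lsl_af (LP (LK LD1_c11 LD2_c35 LD3_c18)) = (LP (LK LD1_c6 LD2_c16 LD3_c37)) :=
  Lgr Lrot117 (Lpr_dt (f202268 IH) (Lpr_at (f566991 IH) (Lpr_dt (f543912 IH) (Lpn (LP (LK LD1_c6 LD2_c16 LD3_c37))))))
theorem f202267 : Led Lsl_et (LP (LK LD1_c11 LD2_c35 LD3_c18)) = (LP (LK LD1_c5 LD2_c54 LD3_c56)) :=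
  Lre_e IH (LK LD1_c11 LD2_c35 LD3_c18) (LK LD1_c5 LD2_c54 LD3_c56) Lrfl Lrfl
theorem f543902 : Led Lsl_et (LP (LK LD1_c3 LD2_c5 LD3_c24)) = (LP (LK LD1_c6 LD2_c16 LD3_c37)) :=
  Lre_e IH (LK LD1_c3 LD2_c5 LD3_c24) (LK LD1_c6 LD2_c16 LD3_c37) Lrfl Lrfl
theorem f567008 : Led Lsl_at (LP (LK LD1_c5 LD2_c54 LD3_c56)) = (LP (LK LD1_c3 LD2_c5 LD3_c24)) :=
  Lgr Lrot80 (Lpe (f202267 IH) (Lpr_af (f566999 IH) (Lpe (f543902 IH) (Lpn (LP (LK LD1_c3 LD2_c5 LD3_c24))))))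
theorem f567027 : Led Lsl_ff (LP (LK LD1_c5 LD2_c54 LD3_c56)) = (LP (LK LD1_c3 LD2_c5 LD3_c23)) :=
  Lgr Lrot52 (Lpr_at (f567008 IH) (Lpe (K37.f202668 IH) (Lpe (K40.f538158 IH) (Lpn (LP (LK LD1_c3 LD2_c5 LD3_c23))))))
theorem f567034 : Led Lsl_ft (LP (LK LD1_c5 LD2_c54 LD3_c56)) = (LP (LK LD1_c3 LD2_c5 LD3_c23)) :=
  Lgr Lrot48 (Lpr_ff (f567027 IH) (Lpn (LP (LK LD1_c3 LD2_c5 LD3_c23))))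
theorem f567043 : Led Lsl_af (LP (LK LD1_c6 LD2_c16 LD3_c18)) = (LP (LK LD1_c3 LD2_c5 LD3_c23)) :=
  Lgr Lrot31 (Lpe (K39.f202259 IH) (Lpe (K37.f202252 IH) (Lpr_ft (f567034 IH) (Lpn (LP (LK LD1_c3 LD2_c5 LD3_c23))))))
theorem f567025 : Led Lsl_af (LP (LK LD1_c5 LD2_c54 LD3_c56)) = (LP (LK LD1_c3 LD2_c5 LD3_c24)) :=
  Lgr Lrot0 (Lpr_at (f567008 IH) (Lpn (LP (LK LD1_c3 LD2_c5 LD3_c24))))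
theorem f567053 : Led Lsl_ft (LP (LK LD1_c6 LD2_c16 LD3_c18)) = (LP (LK LD1_c3 LD2_c5 LD3_c24)) :=
  Lgr Lrot101 (Lpr_af (f567043 IH) (Lpe (f567034 IH) (Lpr_af (f567025 IH) (Lpn (LP (LK LD1_c3 LD2_c5 LD3_c24))))))
theorem f567057 : Led Lsl_ff (LP (LK LD1_c8 LD2_c12 LD3_c5)) = (LP (LK LD1_c4 LD2_c32 LD3_c40)) :=
  Lgr Lrot19 (Lpr_dt (K39.f538266 IH) (Lpr_ft (f567053 IH) (Lpr_dt (K37.f543898 IH) (Lpn (LP (LK LD1_c4 LD2_c32 LD3_c40))))))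
def v1634 : LQ := Led Lsl_et (LP (LK LD1_c1 LD2_c22 LD3_c55))
theorem f500457 : Led Lsl_et (LP (LK LD1_c1 LD2_c22 LD3_c55)) = v1634 :=
  Lrfl
theorem f500459 : Led Lsl_ef (LP (LK LD1_c1 LD2_c22 LD3_c55)) = v1634 :=
  Lgr Lrot88 (Lpr_et (f500457 IH) (Lpn v1634))
theorem f567063 : (LP (LK LD1_c2 LD2_c53 LD3_c49)) = v1634 :=
  (Llr Lrot86 (Lpr_ff (f566970 IH) (Lpe (K39.f422806 IH) (Lpr_ff (f567057 IH) (Lpe (K37.f543914 IH) (Lpq (f566965 IH) (Lpe (f500449 IH) (Lpr_ef (f500459 IH) (Lpn v1634))))))))).symm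
def v1633 : LQ := Led Lsl_ft (LP (LK LD1_c1 LD2_c22 LD3_c54))
theorem f500452 : Led Lsl_ft (LP (LK LD1_c1 LD2_c22 LD3_c54)) = v1633 :=
  Lrfl
theorem f500453 : Led Lsl_af (LP (LK LD1_c1 LD2_c22 LD3_c55)) = v1633 :=
  Lgr Lrot45 (Lpr_ft (f500449 IH) (Lpe (f500447 IH) (Lpr_ft (f500452 IH) (Lpn v1633))))
theorem f567074 : Led Lsl_et (LP (LK LD1_c4 LD2_c5 LD3_c38)) = v1633 :=
  Lgr Lrot123 (Lpr_af (f567070 IH) (Lpqs (f567063 IH) (Lpe (f500457 IH) (Lpr_af (f500453 IH) (Lpn v1633)))))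
theorem f567075 : Led Lsl_ef (LP (LK LD1_c4 LD2_c5 LD3_c38)) = v1633 :=
  Lgr Lrot88 (Lpr_et (f567074 IH) (Lpn v1633))
theorem f567038 : Led Lsl_ff (LP (LK LD1_c2 LD2_c53 LD3_c48)) = (LP (LK LD1_c4 LD2_c32 LD3_c39)) :=
  Lgr Lrot19 (Lpr_dt (K37.f71112 IH) (Lpr_ft (f567034 IH) (Lpe (K38.f546893 IH) (Lpn (LP (LK LD1_c4 LD2_c32 LD3_c39))))))
theorem f567076 : Led Lsl_ft (LP (LK LD1_c4 LD2_c5 LD3_c38)) = (LP (LK LD1_c4 LD2_c7 LD3_c4)) :=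
  Lgr Lrot86 (Lpr_ef (f567075 IH) (Lpe (f500452 IH) (Lpe (K37.f71111 IH) (Lpr_ff (f567038 IH) (Lpr_ef (K40.f561452 IH) (Lpn (LP (LK LD1_c4 LD2_c7 LD3_c4))))))))
theorem f567078 : Led Lsl_af (LP (LK LD1_c4 LD2_c5 LD3_c39)) = (LP (LK LD1_c4 LD2_c7 LD3_c4)) :=
  Lgr Lrot45 (Lpe (f566970 IH) (Lpe (f567070 IH) (Lpr_ft (f567076 IH) (Lpn (LP (LK LD1_c4 LD2_c7 LD3_c4))))))
theorem f538298 : Led Lsl_gt (LP (LK LD1_c2 LD2_c15 LD3_c37)) = (LP (LK LD1_c4 LD2_c5 LD3_c39)) :=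
  Lgr Lrot5 (Lpr_ft (K35.f538292 IH) (Lpr_at (K35.f192667 IH) (Lpe (K39.f192677 IH) (Lpn (LP (LK LD1_c4 LD2_c5 LD3_c39))))))
theorem f567082 : Led Lsl_gt (LP (LK LD1_c4 LD2_c5 LD3_c38)) = (LP (LK LD1_c2 LD2_c15 LD3_c37)) :=
  Lgr Lrot5 (Lpr_ft (f567076 IH) (Lpe (f567078 IH) (Lpe (f538298 IH) (Lpn (LP (LK LD1_c2 LD2_c15 LD3_c37))))))
theorem f161374 : Led Lsl_dt (LP (LK LD1_c2 LD2_c15 LD3_c37)) = (LP (LK LD1_c4 LD2_c36 LD3_c50)) :=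
  Lre_d IH (LK LD1_c2 LD2_c15 LD3_c37) (LK LD1_c4 LD2_c36 LD3_c50) Lrfl Lrfl
theorem f161373 : Led Lsl_et (LP (LK LD1_c2 LD2_c15 LD3_c37)) = (LP (LK LD1_c1 LD2_c4 LD3_c51)) :=
  Lre_e IH (LK LD1_c2 LD2_c15 LD3_c37) (LK LD1_c1 LD2_c4 LD3_c51) Lrfl Lrfl
theorem f538289 : Led Lsl_ff (LP (LK LD1_c2 LD2_c15 LD3_c37)) = (LP (LK LD1_c4 LD2_c5 LD3_c40)) :=
  Lgr Lrot72 (Lpr_et (f161373 IH) (Lpr_ft (K8.f139525 IH) (Lpr_et (K35.f538211 IH) (Lpr_ft (K35.f538286 IH) (Lpe (K35.f501202 IH) (Lpn (LP (LK LD1_c4 LD2_c5 LD3_c40))))))))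
theorem f540023 : Led Lsl_ft (LP (LK LD1_c4 LD2_c36 LD3_c50)) = (LP (LK LD1_c6 LD2_c16 LD3_c10)) :=
  Lgr Lrot54 (Lpe (f161374 IH) (Lpr_ff (f538289 IH) (Lpr_df (K36.f540009 IH) (Lpn (LP (LK LD1_c6 LD2_c16 LD3_c10))))))
theorem f540005 : Led Lsl_af (LP (LK LD1_c4 LD2_c5 LD3_c41)) = (LP (LK LD1_c6 LD2_c16 LD3_c10)) :=
  Lgr Lrot117 (Lpr_dt (K35.f175362 IH) (Lpr_at (K37.f192715 IH) (Lpr_dt (K36.f540003 IH) (Lpn (LP (LK LD1_c6 LD2_c16 LD3_c10))))))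
theorem f132788 : Led Lsl_ft (LP (LK LD1_c6 LD2_c16 LD3_c12)) = (LP (LK LD1_c3 LD2_c5 LD3_c10)) :=
  Lre_f IH (LK LD1_c6 LD2_c16 LD3_c12) (LK LD1_c3 LD2_c5 LD3_c10) Lrfl Lrfl
theorem f538272 : Led Lsl_gt (LP (LK LD1_c6 LD2_c16 LD3_c12)) = (LP (LK LD1_c4 LD2_c5 LD3_c41)) :=
  Lgr Lrot5 (Lpr_ft (f132788 IH) (Lpr_at (K8.f132780 IH) (Lpr_gf (K38.f538270 IH) (Lpn (LP (LK LD1_c4 LD2_c5 LD3_c41))))))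
theorem f540025 : Led Lsl_gt (LP (LK LD1_c4 LD2_c36 LD3_c50)) = (LP (LK LD1_c6 LD2_c16 LD3_c12)) :=
  Lgr Lrot5 (Lpr_ft (f540023 IH) (Lpe (f540005 IH) (Lpe (f538272 IH) (Lpn (LP (LK LD1_c6 LD2_c16 LD3_c12))))))
theorem f132789 : Led Lsl_dt (LP (LK LD1_c6 LD2_c16 LD3_c12)) = (LP (LK LD1_c3 LD2_c5 LD3_c11)) :=
  Lre_d IH (LK LD1_c6 LD2_c16 LD3_c12) (LK LD1_c3 LD2_c5 LD3_c11) Lrfl Lrfl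
theorem f132790 : Led Lsl_ct (LP (LK LD1_c3 LD2_c5 LD3_c11)) = (LP (LK LD1_c6 LD2_c16 LD3_c2)) :=
  Lre_c IH (LK LD1_c3 LD2_c5 LD3_c11) (LK LD1_c6 LD2_c16 LD3_c2) Lrfl Lrfl
theorem f132844 : Led Lsl_et (LP (LK LD1_c6 LD2_c16 LD3_c2)) = (LP (LK LD1_c9 LD2_c19 LD3_c49)) :=
  Lgr Lrot158 (Lpe (f132790 IH) (Lpr_ef (K38.f132841 IH) (Lpe (K6.f132843 IH) (Lpn (LP (LK LD1_c9 LD2_c19 LD3_c49))))))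
theorem f132624 : Led Lsl_dt (LP (LK LD1_c6 LD2_c16 LD3_c2)) = (LP (LK LD1_c12 LD2_c9 LD3_c42)) :=
  Lre_d IH (LK LD1_c6 LD2_c16 LD3_c2) (LK LD1_c12 LD2_c9 LD3_c42) Lrfl Lrfl
theorem f547524 : Led Lsl_et (LP (LK LD1_c7 LD2_c59 LD3_c13)) = (LP (LK LD1_c3 LD2_c59 LD3_c20)) :=
  Lgr Lrot123 (Lpe (K38.f423531 IH) (Lpr_ef (K38.f547522 IH) (Lpe (K37.f208723 IH) (Lpn (LP (LK LD1_c3 LD2_c59 LD3_c20))))))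
theorem f157817 : Led Lsl_et (LP (LK LD1_c3 LD2_c59 LD3_c23)) = (LP (LK LD1_c1 LD2_c56 LD3_c23)) :=
  Lre_e IH (LK LD1_c3 LD2_c59 LD3_c23) (LK LD1_c1 LD2_c56 LD3_c23) Lrfl Lrfl
theorem f157818 : Led Lsl_dt (LP (LK LD1_c3 LD2_c59 LD3_c23)) = (LP (LK LD1_c7 LD2_c59 LD3_c61)) :=
  Lre_d IH (LK LD1_c3 LD2_c59 LD3_c23) (LK LD1_c7 LD2_c59 LD3_c61) Lrfl Lrfl
theorem f552394 : Led Lsl_gf (LP (LK LD1_c12 LD2_c9 LD3_c42)) = (LP (LK LD1_c7 LD2_c59 LD3_c61)) :=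
  Lgr Lrot145 (Lpe (f132624 IH) (Lpr_et (f132844 IH) (Lpr_gt (K39.f552389 IH) (Lpr_dt (K39.f386974 IH) (Lpe (K39.f552380 IH) (Lpe (K38.f382079 IH) (Lpr_et (f547524 IH) (Lpr_gt (K8.f101692 IH) (Lpe (f157817 IH) (Lpr_dt (f157818 IH) (Lpn (LP (LK LD1_c7 LD2_c59 LD3_c61)))))))))))))
theorem f161202 : Led Lsl_gt (LP (LK LD1_c7 LD2_c59 LD3_c60)) = (LP (LK LD1_c3 LD2_c59 LD3_c23)) :=
  Lre_g IH (LK LD1_c7 LD2_c59 LD3_c60) (LK LD1_c3 LD2_c59 LD3_c23) Lrfl Lrfl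
theorem f567086 : Led Lsl_cf (LP (LK LD1_c4 LD2_c5 LD3_c38)) = (LP (LK LD1_c7 LD2_c59 LD3_c60)) :=
  Lgr Lrot166 (Lpr_gt (f567082 IH) (Lpr_dt (f161374 IH) (Lpr_gt (f540025 IH) (Lpr_dt (f132789 IH) (Lpr_ct (f132790 IH) (Lpe (K39.f132774 IH) (Lpr_gf (f552394 IH) (Lpe (f157818 IH) (Lpe (f161202 IH) (Lpn (LP (LK LD1_c7 LD2_c59 LD3_c60))))))))))))
theorem f34914 : Led Lsl_gt (LP (LK LD1_c4 LD2_c20 LD3_c11)) = (LP (LK LD1_c2 LD2_c7 LD3_c34)) :=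
  Lre_g IH (LK LD1_c4 LD2_c20 LD3_c11) (LK LD1_c2 LD2_c7 LD3_c34) Lrfl Lrfl
theorem f567094 : Led Lsl_bf (LP (LK LD1_c4 LD2_c20 LD3_c11)) = (LP (LK LD1_c7 LD2_c59 LD3_c60)) :=
  Lgr Lrot156 (Lpr_gt (f34914 IH) (Lpe (K36.f31750 IH) (Lpr_ct (K0.f31755 IH) (Lpr_gt (K11.f32017 IH) (Lpe (K11.f32020 IH) (Lpr_bt (K16.f201589 IH) (Lpe (K37.f542357 IH) (Lpe (K37.f192668 IH) (Lpr_gt (f55910 IH) (Lpr_cf (f567086 IH) (Lpn (LP (LK LD1_c7 LD2_c59 LD3_c60)))))))))))))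
theorem f34984 : Led Lsl_ct (LP (LK LD1_c4 LD2_c35 LD3_c33)) = (LP (LK LD1_c2 LD2_c14 LD3_c57)) :=
  Lre_c IH (LK LD1_c4 LD2_c35 LD3_c33) (LK LD1_c2 LD2_c14 LD3_c57) Lrfl Lrfl
theorem f567096 : Led Lsl_bf (LP (LK LD1_c2 LD2_c33 LD3_c23)) = (LP (LK LD1_c4 LD2_c35 LD3_c33)) :=
  Lgr Lrot156 (Lpe (K10.f196099 IH) (Lpe (K36.f192664 IH) (Lpe (K37.f192668 IH) (Lpr_gt (f55910 IH) (Lpr_cf (f567086 IH) (Lpe (f567094 IH) (Lpr_gt (f34914 IH) (Lpe (K2.f34887 IH) (Lpr_gt (K39.f34903 IH) (Lpe (f34984 IH) (Lpn (LP (LK LD1_c4 LD2_c35 LD3_c33)))))))))))))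
theorem f567106 : Led Lsl_ft (LP (LK LD1_c5 LD2_c13 LD3_c41)) = (LP (LK LD1_c4 LD2_c35 LD3_c33)) :=
  Lgr Lrot75 (Lpe (K38.f227933 IH) (Lpr_ff (K16.f269139 IH) (Lpr_bf (f567096 IH) (Lpn (LP (LK LD1_c4 LD2_c35 LD3_c33))))))
theorem f567112 : Led Lsl_af (LP (LK LD1_c5 LD2_c54 LD3_c20)) = (LP (LK LD1_c4 LD2_c35 LD3_c33)) :=
  Lgr Lrot31 (Lpr_gf (K36.f421332 IH) (Lpe (K37.f542365 IH) (Lpr_ft (f567106 IH) (Lpn (LP (LK LD1_c4 LD2_c35 LD3_c33))))))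
theorem f239281 : Led Lsl_dt (LP (LK LD1_c5 LD2_c54 LD3_c20)) = (LP (LK LD1_c11 LD2_c34 LD3_c33)) :=
  Lre_d IH (LK LD1_c5 LD2_c54 LD3_c20) (LK LD1_c11 LD2_c34 LD3_c33) Lrfl Lrfl
theorem f35218 : Led Lsl_dt (LP (LK LD1_c9 LD2_c7 LD3_c37)) = (LP (LK LD1_c4 LD2_c35 LD3_c33)) :=
  Lre_d IH (LK LD1_c9 LD2_c7 LD3_c37) (LK LD1_c4 LD2_c35 LD3_c33) Lrfl Lrfl
theorem f567116 : Led Lsl_at (LP (LK LD1_c11 LD2_c34 LD3_c33)) = (LP (LK LD1_c9 LD2_c7 LD3_c37)) :=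
  Lgr Lrot51 (Lpe (f239281 IH) (Lpr_af (f567112 IH) (Lpe (f35218 IH) (Lpn (LP (LK LD1_c9 LD2_c7 LD3_c37))))))
theorem f239264 : Led Lsl_ct (LP (LK LD1_c20 LD2_c32 LD3_c21)) = (LP (LK LD1_c11 LD2_c34 LD3_c33)) :=
  Lre_c IH (LK LD1_c20 LD2_c32 LD3_c21) (LK LD1_c11 LD2_c34 LD3_c33) Lrfl Lrfl
theorem f562714 : Led Lsl_ct (LP (LK LD1_c9 LD2_c7 LD3_c37)) = (LP (LK LD1_c16 LD2_c59 LD3_c47)) :=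
  Lre_c IH (LK LD1_c9 LD2_c7 LD3_c37) (LK LD1_c16 LD2_c59 LD3_c47) Lrfl Lrfl
theorem f567120 : Led Lsl_af (LP (LK LD1_c20 LD2_c32 LD3_c21)) = (LP (LK LD1_c16 LD2_c59 LD3_c47)) :=
  Lgr Lrot68 (Lpr_ct (f239264 IH) (Lpr_at (f567116 IH) (Lpr_ct (f562714 IH) (Lpn (LP (LK LD1_c16 LD2_c59 LD3_c47))))))
theorem f56247 : Led Lsl_ct (LP (LK LD1_c17 LD2_c9 LD3_c29)) = (LP (LK LD1_c9 LD2_c15 LD3_c3)) :=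
  Lre_c IH (LK LD1_c17 LD2_c9 LD3_c29) (LK LD1_c9 LD2_c15 LD3_c3) Lrfl Lrfl
theorem f542818 : Led Lsl_ft (LP (LK LD1_c18 LD2_c39 LD3_c32)) = (LP (LK LD1_c17 LD2_c9 LD3_c29)) :=
  Lgr Lrot4 (Lpe (K38.f212071 IH) (Lpr_ff (K36.f542812 IH) (Lpe (f56247 IH) (Lpn (LP (LK LD1_c17 LD2_c9 LD3_c29))))))
theorem f542865 : Led Lsl_at (LP (LK LD1_c17 LD2_c9 LD3_c29)) = (LP (LK LD1_c27 LD2_c1 LD3_c24)) :=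
  Lre_a IH (LK LD1_c17 LD2_c9 LD3_c29) (LK LD1_c27 LD2_c1 LD3_c24) Lrfl Lrfl
theorem f544897 : Led Lsl_gf (LP (LK LD1_c27 LD2_c1 LD3_c24)) = (LP (LK LD1_c18 LD2_c42 LD3_c28)) :=
  Lgr Lrot76 (Lpe (f542865 IH) (Lpe (f542818 IH) (Lpr_gt (K38.f544895 IH) (Lpn (LP (LK LD1_c18 LD2_c42 LD3_c28))))))
theorem f567142 : Led Lsl_ft (LP (LK LD1_c18 LD2_c42 LD3_c28)) = (LP (LK LD1_c16 LD2_c59 LD3_c47)) :=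
  Lgr Lrot2 (Lpe (f544897 IH) (Lpr_gt (f556956 IH) (Lpr_af (f567120 IH) (Lpn (LP (LK LD1_c16 LD2_c59 LD3_c47))))))
theorem f567144 : Led Lsl_ff (LP (LK LD1_c18 LD2_c42 LD3_c28)) = (LP (LK LD1_c16 LD2_c59 LD3_c47)) :=
  Lgr Lrot3 (Lpr_ft (f567142 IH) (Lpn (LP (LK LD1_c16 LD2_c59 LD3_c47))))
theorem f567146 : Led Lsl_ft (LP (LK LD1_c10 LD2_c17 LD3_c32)) = (LP (LK LD1_c9 LD2_c7 LD3_c37)) :=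
  Lgr Lrot4 (Lpe (K38.f229363 IH) (Lpr_ff (f567144 IH) (Lpe (f562714 IH) (Lpn (LP (LK LD1_c9 LD2_c7 LD3_c37))))))
theorem f242534 : Led Lsl_bt (LP (LK LD1_c5 LD2_c13 LD3_c44)) = (LP (LK LD1_c10 LD2_c17 LD3_c32)) :=
  Lre_b IH (LK LD1_c5 LD2_c13 LD3_c44) (LK LD1_c10 LD2_c17 LD3_c32) Lrfl Lrfl
theorem f269135 : Led Lsl_ff (LP (LK LD1_c5 LD2_c13 LD3_c44)) = (LP (LK LD1_c5 LD2_c13 LD3_c2)) :=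
  Lgr Lrot19 (Lpr_dt (K17.f164689 IH) (Lpr_ft (K16.f269132 IH) (Lpr_dt (K13.f196105 IH) (Lpn (LP (LK LD1_c5 LD2_c13 LD3_c2))))))
theorem f567148 : Led Lsl_bf (LP (LK LD1_c5 LD2_c13 LD3_c2)) = (LP (LK LD1_c9 LD2_c7 LD3_c37)) :=
  Lgr Lrot61 (Lpe (f269135 IH) (Lpr_bt (f242534 IH) (Lpr_ft (f567146 IH) (Lpn (LP (LK LD1_c9 LD2_c7 LD3_c37))))))
theorem f196106 : Led Lsl_et (LP (LK LD1_c5 LD2_c13 LD3_c2)) = (LP (LK LD1_c10 LD2_c16 LD3_c24)) :=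
  Lre_e IH (LK LD1_c5 LD2_c13 LD3_c2) (LK LD1_c10 LD2_c16 LD3_c24) Lrfl Lrfl
theorem f567133 : Led Lsl_et (LP (LK LD1_c16 LD2_c59 LD3_c48)) = (LP (LK LD1_c9 LD2_c7 LD3_c37)) :=
  Lre_e IH (LK LD1_c16 LD2_c59 LD3_c48) (LK LD1_c9 LD2_c7 LD3_c37) Lrfl Lrfl
theorem f567151 : Led Lsl_bt (LP (LK LD1_c10 LD2_c16 LD3_c24)) = (LP (LK LD1_c16 LD2_c59 LD3_c48)) :=
  Lgr Lrot119 (Lpe (f196106 IH) (Lpr_bf (f567148 IH) (Lpe (f567133 IH) (Lpn (LP (LK LD1_c16 LD2_c59 LD3_c48))))))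
theorem f237364 : Led Lsl_et (LP (LK LD1_c10 LD2_c16 LD3_c24)) = (LP (LK LD1_c5 LD2_c13 LD3_c2)) :=
  Lre_e IH (LK LD1_c10 LD2_c16 LD3_c24) (LK LD1_c5 LD2_c13 LD3_c2) Lrfl Lrfl
theorem f147343 : Led Lsl_et (LP (LK LD1_c3 LD2_c39 LD3_c26)) = (LP (LK LD1_c7 LD2_c19 LD3_c5)) :=
  Lre_e IH (LK LD1_c3 LD2_c39 LD3_c26) (LK LD1_c7 LD2_c19 LD3_c5) Lrfl Lrfl
theorem f552207 : Led Lsl_df (LP (LK LD1_c10 LD2_c16 LD3_c24)) = (LP (LK LD1_c7 LD2_c19 LD3_c5)) :=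
  Lgr Lrot70 (Lpr_et (f237364 IH) (Lpr_dt (K13.f181140 IH) (Lpr_et (K16.f237354 IH) (Lpr_dt (K39.f552197 IH) (Lpr_et (f147343 IH) (Lpn (LP (LK LD1_c7 LD2_c19 LD3_c5))))))))
theorem f147341 : Led Lsl_bt (LP (LK LD1_c13 LD2_c50 LD3_c39)) = (LP (LK LD1_c7 LD2_c19 LD3_c5)) :=
  Lre_b IH (LK LD1_c13 LD2_c50 LD3_c39) (LK LD1_c7 LD2_c19 LD3_c5) Lrfl Lrfl
theorem f567155 : Led Lsl_df (LP (LK LD1_c13 LD2_c50 LD3_c39)) = (LP (LK LD1_c16 LD2_c59 LD3_c48)) :=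
  Lgr Lrot12 (Lpr_bt (f147341 IH) (Lpe (f552207 IH) (Lpr_bt (f567151 IH) (Lpn (LP (LK LD1_c16 LD2_c59 LD3_c48))))))
theorem f567159 : Led Lsl_dt (LP (LK LD1_c13 LD2_c50 LD3_c39)) = (LP (LK LD1_c16 LD2_c59 LD3_c48)) :=
  Lgr Lrot42 (Lpr_df (f567155 IH) (Lpn (LP (LK LD1_c16 LD2_c59 LD3_c48))))
theorem f147333 : Led Lsl_et (LP (LK LD1_c7 LD2_c19 LD3_c4)) = (LP (LK LD1_c13 LD2_c50 LD3_c39)) :=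
  Lre_e IH (LK LD1_c7 LD2_c19 LD3_c4) (LK LD1_c13 LD2_c50 LD3_c39) Lrfl Lrfl
theorem f405149 : Led Lsl_et (LP (LK LD1_c2 LD2_c33 LD3_c43)) = (LP (LK LD1_c5 LD2_c13 LD3_c41)) :=
  Lre_e IH (LK LD1_c2 LD2_c33 LD3_c43) (LK LD1_c5 LD2_c13 LD3_c41) Lrfl Lrfl
theorem f405150 : Led Lsl_et (LP (LK LD1_c5 LD2_c6 LD3_c43)) = (LP (LK LD1_c2 LD2_c30 LD3_c38)) :=
  Lre_e IH (LK LD1_c5 LD2_c6 LD3_c43) (LK LD1_c2 LD2_c30 LD3_c38) Lrfl Lrfl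
theorem f406381 : Led Lsl_ft (LP (LK LD1_c8 LD2_c43 LD3_c60)) = (LP (LK LD1_c5 LD2_c6 LD3_c43)) :=
  Lgr Lrot4 (Lpe (K40.f237367 IH) (Lpr_ff (K40.f406379 IH) (Lpe (K36.f177122 IH) (Lpn (LP (LK LD1_c5 LD2_c6 LD3_c43))))))
theorem f567110 : Led Lsl_ef (LP (LK LD1_c8 LD2_c43 LD3_c60)) = (LP (LK LD1_c4 LD2_c35 LD3_c33)) :=
  Lgr Lrot21 (Lpr_ft (f406381 IH) (Lpr_et (f405150 IH) (Lpe (K32.f308139 IH) (Lpr_et (f405149 IH) (Lpr_ft (f567106 IH) (Lpn (LP (LK LD1_c4 LD2_c35 LD3_c33))))))))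
theorem f567165 : Led Lsl_df (LP (LK LD1_c7 LD2_c19 LD3_c4)) = (LP (LK LD1_c8 LD2_c43 LD3_c60)) :=
  Lgr Lrot70 (Lpr_et (f147333 IH) (Lpr_dt (f567159 IH) (Lpr_et (f567133 IH) (Lpr_dt (f35218 IH) (Lpe (f567110 IH) (Lpn (LP (LK LD1_c8 LD2_c43 LD3_c60))))))))
theorem f567104 : Led Lsl_et (LP (LK LD1_c8 LD2_c43 LD3_c60)) = (LP (LK LD1_c4 LD2_c35 LD3_c33)) :=
  Lgr Lrot74 (Lpe (K40.f237351 IH) (Lpe (K16.f237354 IH) (Lpr_bf (f567096 IH) (Lpn (LP (LK LD1_c4 LD2_c35 LD3_c33))))))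
theorem f567182 : Led Lsl_gf (LP (LK LD1_c8 LD2_c50 LD3_c21)) = (LP (LK LD1_c4 LD2_c35 LD3_c33)) :=
  Lgr Lrot138 (Lpe (K39.f209869 IH) (Lpr_gt (K39.f46848 IH) (Lpe (K39.f46828 IH) (Lpr_et (K28.f56260 IH) (Lpr_gt (K39.f206787 IH) (Lpe (f100242 IH) (Lpr_dt (K38.f100243 IH) (Lpe (K40.f548763 IH) (Lpr_df (f567165 IH) (Lpr_et (f567104 IH) (Lpn (LP (LK LD1_c4 LD2_c35 LD3_c33)))))))))))))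
theorem f567100 : Led Lsl_bt (LP (LK LD1_c2 LD2_c33 LD3_c23)) = (LP (LK LD1_c4 LD2_c35 LD3_c33)) :=
  Lgr Lrot127 (Lpr_bf (f567096 IH) (Lpn (LP (LK LD1_c4 LD2_c35 LD3_c33))))
theorem f240590 : Led Lsl_bt (LP (LK LD1_c8 LD2_c4 LD3_c42)) = (LP (LK LD1_c4 LD2_c2 LD3_c1)) :=
  Lre_b IH (LK LD1_c8 LD2_c4 LD3_c42) (LK LD1_c4 LD2_c2 LD3_c1) Lrfl Lrfl
theorem f240593 : Led Lsl_bt (LP (LK LD1_c4 LD2_c2 LD3_c1)) = (LP (LK LD1_c8 LD2_c4 LD3_c42)) :=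
  Lre_b IH (LK LD1_c4 LD2_c2 LD3_c1) (LK LD1_c8 LD2_c4 LD3_c42) Lrfl Lrfl
theorem f240594 : Led Lsl_ct (LP (LK LD1_c8 LD2_c4 LD3_c42)) = (LP (LK LD1_c8 LD2_c4 LD3_c42)) :=
  Lgr Lrot83 (Lpe (f240593 IH) (Lpe (K13.f194137 IH) (Lpr_bf (K13.f240591 IH) (Lpe (K13.f194138 IH) (Lpe (f240590 IH) (Lpn (LP (LK LD1_c8 LD2_c4 LD3_c42))))))))
theorem f201599 : Led Lsl_ct (LP (LK LD1_c5 LD2_c13 LD3_c61)) = (LP (LK LD1_c10 LD2_c18 LD3_c0)) :=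
  Lre_c IH (LK LD1_c5 LD2_c13 LD3_c61) (LK LD1_c10 LD2_c18 LD3_c0) Lrfl Lrfl
theorem f242041 : Led Lsl_gt (LP (LK LD1_c4 LD2_c20 LD3_c6)) = (LP (LK LD1_c5 LD2_c5 LD3_c10)) :=
  Lgr Lrot9 (Lpe (K14.f201577 IH) (Lpr_gt (K11.f201574 IH) (Lpe (K11.f201557 IH) (Lpe (K12.f31587 IH) (Lpe (K13.f239240 IH) (Lpe (K13.f31844 IH) (Lpr_cf (K19.f241014 IH) (Lpe (K24.f242038 IH) (Lpr_cf (K13.f242023 IH) (Lpn (LP (LK LD1_c5 LD2_c5 LD3_c10))))))))))))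
theorem f241020 : Led Lsl_bt (LP (LK LD1_c4 LD2_c20 LD3_c36)) = (LP (LK LD1_c8 LD2_c38 LD3_c56)) :=
  Lre_b IH (LK LD1_c4 LD2_c20 LD3_c36) (LK LD1_c8 LD2_c38 LD3_c56) Lrfl Lrfl
theorem f552312 : Led Lsl_gf (LP (LK LD1_c8 LD2_c5 LD3_c6)) = (LP (LK LD1_c8 LD2_c38 LD3_c56)) :=
  Lgr Lrot124 (Lpe (K39.f552303 IH) (Lpr_ct (K39.f552304 IH) (Lpr_gt (K39.f201615 IH) (Lpe (f201599 IH) (Lpe (K39.f201597 IH) (Lpr_gt (f242041 IH) (Lpe (K13.f242023 IH) (Lpr_gt (K24.f242038 IH) (Lpe (K13.f240960 IH) (Lpr_bt (f241020 IH) (Lpn (LP (LK LD1_c8 LD2_c38 LD3_c56)))))))))))))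
theorem f552314 : Led Lsl_at (LP (LK LD1_c15 LD2_c13 LD3_c20)) = (LP (LK LD1_c8 LD2_c5 LD3_c6)) :=
  Lre_a IH (LK LD1_c15 LD2_c13 LD3_c20) (LK LD1_c8 LD2_c5 LD3_c6) Lrfl Lrfl
theorem f552315 : Led Lsl_ft (LP (LK LD1_c8 LD2_c5 LD3_c1)) = (LP (LK LD1_c15 LD2_c13 LD3_c20)) :=
  Lre_f IH (LK LD1_c8 LD2_c5 LD3_c1) (LK LD1_c15 LD2_c13 LD3_c20) Lrfl Lrfl
theorem f552316 : Led Lsl_gt (LP (LK LD1_c8 LD2_c5 LD3_c1)) = (LP (LK LD1_c8 LD2_c38 LD3_c56)) :=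
  Lgr Lrot5 (Lpr_ft (f552315 IH) (Lpr_at (f552314 IH) (Lpr_gf (f552312 IH) (Lpn (LP (LK LD1_c8 LD2_c38 LD3_c56))))))
theorem f402916 : Led Lsl_dt (LP (LK LD1_c4 LD2_c20 LD3_c35)) = (LP (LK LD1_c8 LD2_c38 LD3_c56)) :=
  Lre_d IH (LK LD1_c4 LD2_c20 LD3_c35) (LK LD1_c8 LD2_c38 LD3_c56) Lrfl Lrfl
theorem f240639 : Led Lsl_et (LP (LK LD1_c4 LD2_c20 LD3_c35)) = (LP (LK LD1_c8 LD2_c4 LD3_c42)) :=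
  Lgr Lrot74 (Lpe (K32.f239242 IH) (Lpr_ef (K13.f240612 IH) (Lpe (f240590 IH) (Lpn (LP (LK LD1_c8 LD2_c4 LD3_c42))))))
theorem f552323 : Led Lsl_gf (LP (LK LD1_c8 LD2_c2 LD3_c10)) = (LP (LK LD1_c8 LD2_c4 LD3_c42)) :=
  Lgr Lrot141 (Lpe (K32.f158207 IH) (Lpe (K39.f158608 IH) (Lpr_gt (K8.f70220 IH) (Lpe (K36.f81379 IH) (Lpr_et (K39.f81395 IH) (Lpr_gt (K39.f81414 IH) (Lpr_dt (K39.f81416 IH) (Lpr_gt (f552316 IH) (Lpe (f402916 IH) (Lpr_et (f240639 IH) (Lpn (LP (LK LD1_c8 LD2_c4 LD3_c42)))))))))))))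
theorem f552325 : Led Lsl_gt (LP (LK LD1_c8 LD2_c2 LD3_c17)) = (LP (LK LD1_c8 LD2_c4 LD3_c42)) :=
  Lgr Lrot5 (Lpr_ft (K36.f158240 IH) (Lpr_at (K36.f203346 IH) (Lpr_gf (f552323 IH) (Lpn (LP (LK LD1_c8 LD2_c4 LD3_c42))))))
theorem f5195 : Led Lsl_gt (LP (LK LD1_c7 LD2_c16 LD3_c47)) = (LP (LK LD1_c13 LD2_c46 LD3_c27)) :=
  Lre_g IH (LK LD1_c7 LD2_c16 LD3_c47) (LK LD1_c13 LD2_c46 LD3_c27) Lrfl Lrfl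
theorem f566101 : Led Lsl_ct (LP (LK LD1_c13 LD2_c46 LD3_c27)) = (LP (LK LD1_c8 LD2_c2 LD3_c17)) :=
  Lgr Lrot91 (Lpe (f5195 IH) (Lpe (f5194 IH) (Lpr_ct (K0.f5164 IH) (Lpe (f5196 IH) (Lpr_cf (f566085 IH) (Lpr_bt (f193105 IH) (Lpr_gf (K13.f240586 IH) (Lpe (f240590 IH) (Lpr_ct (f240594 IH) (Lpe (f552325 IH) (Lpn (LP (LK LD1_c8 LD2_c2 LD3_c17)))))))))))))
theorem f567190 : Led Lsl_bf (LP (LK LD1_c8 LD2_c50 LD3_c21)) = (LP (LK LD1_c13 LD2_c46 LD3_c27)) :=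
  Lgr Lrot34 (Lpr_gf (f567182 IH) (Lpe (f567100 IH) (Lpr_ct (K13.f181139 IH) (Lpe (K13.f196103 IH) (Lpe (K13.f192981 IH) (Lpr_gf (K13.f240586 IH) (Lpe (f240590 IH) (Lpr_ct (f240594 IH) (Lpe (f552325 IH) (Lpe (f566101 IH) (Lpn (LP (LK LD1_c13 LD2_c46 LD3_c27)))))))))))))
theorem f567203 : Led Lsl_gt (LP (LK LD1_c8 LD2_c50 LD3_c21)) = (LP (LK LD1_c4 LD2_c35 LD3_c35)) :=
  Lgr Lrot82 (Lpr_bf (f567190 IH) (Lpr_ct (f566101 IH) (Lpe (K36.f427921 IH) (Lpe (K32.f402909 IH) (Lpr_bt (K32.f31776 IH) (Lpe (K13.f31771 IH) (Lpe (K2.f34781 IH) (Lpe (K2.f34887 IH) (Lpe (K38.f34908 IH) (Lpe (K38.f34910 IH) (Lpn (LP (LK LD1_c4 LD2_c35 LD3_c35)))))))))))))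
theorem f35191 : Led Lsl_ct (LP (LK LD1_c2 LD2_c14 LD3_c57)) = (LP (LK LD1_c4 LD2_c35 LD3_c33)) :=
  Lre_c IH (LK LD1_c2 LD2_c14 LD3_c57) (LK LD1_c4 LD2_c35 LD3_c33) Lrfl Lrfl
theorem f562702 : Led Lsl_ff (LP (LK LD1_c5 LD2_c13 LD3_c41)) = (LP (LK LD1_c4 LD2_c35 LD3_c33)) :=
  Lgr Lrot23 (Lpr_ct (K37.f418131 IH) (Lpr_ft (K40.f495438 IH) (Lpq (K40.f562692 IH) (Lpr_ct (f35191 IH) (Lpn (LP (LK LD1_c4 LD2_c35 LD3_c33)))))))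
theorem f567205 : Led Lsl_at (LP (LK LD1_c5 LD2_c13 LD3_c41)) = (LP (LK LD1_c4 LD2_c35 LD3_c35)) :=
  Lgr Lrot26 (Lpr_ff (f562702 IH) (Lpe (f567182 IH) (Lpr_gt (f567203 IH) (Lpn (LP (LK LD1_c4 LD2_c35 LD3_c35))))))
theorem f544431 : Led Lsl_bf (LP (LK LD1_c5 LD2_c14 LD3_c24)) = (LP (LK LD1_c4 LD2_c2 LD3_c2)) :=
  Lgr Lrot34 (Lpr_gf (K37.f421684 IH) (Lpe (K37.f71814 IH) (Lpe (K37.f442672 IH) (Lpe (K37.f239266 IH) (Lpr_cf (K37.f544422 IH) (Lpe (K37.f47087 IH) (Lpe (K35.f47086 IH) (Lpr_ct (K12.f47085 IH) (Lpe (K13.f241818 IH) (Lpr_cf (K13.f242770 IH) (Lpn (LP (LK LD1_c4 LD2_c2 LD3_c2)))))))))))))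
theorem f239260 : Led Lsl_bt (LP (LK LD1_c2 LD2_c53 LD3_c33)) = (LP (LK LD1_c5 LD2_c54 LD3_c20)) :=
  Lre_b IH (LK LD1_c2 LD2_c53 LD3_c33) (LK LD1_c5 LD2_c54 LD3_c20) Lrfl Lrfl
theorem f567098 : Led Lsl_at (LP (LK LD1_c5 LD2_c54 LD3_c20)) = (LP (LK LD1_c4 LD2_c35 LD3_c33)) :=
  Lgr Lrot67 (Lpe (f239260 IH) (Lpe (K40.f557827 IH) (Lpr_bf (f544431 IH) (Lpr_af (K16.f269126 IH) (Lpr_bf (f567096 IH) (Lpn (LP (LK LD1_c4 LD2_c35 LD3_c33))))))))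
theorem f567217 : Led Lsl_ff (LP (LK LD1_c5 LD2_c54 LD3_c20)) = (LP (LK LD1_c4 LD2_c35 LD3_c35)) :=
  Lgr Lrot30 (Lpr_at (f567098 IH) (Lpe (f562702 IH) (Lpr_at (f567205 IH) (Lpn (LP (LK LD1_c4 LD2_c35 LD3_c35))))))
theorem f547081 : Led Lsl_et (LP (LK LD1_c5 LD2_c49 LD3_c38)) = (LP (LK LD1_c3 LD2_c10 LD3_c10)) :=
  Lgr Lrot158 (Lpr_cf (K38.f547077 IH) (Lpe (K36.f149239 IH) (Lpr_cf (K8.f161811 IH) (Lpn (LP (LK LD1_c3 LD2_c10 LD3_c10))))))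
theorem f158823 : Led Lsl_et (LP (LK LD1_c4 LD2_c25 LD3_c40)) = (LP (LK LD1_c8 LD2_c48 LD3_c53)) :=
  Lre_e IH (LK LD1_c4 LD2_c25 LD3_c40) (LK LD1_c8 LD2_c48 LD3_c53) Lrfl Lrfl
theorem f567180 : Led Lsl_gt (LP (LK LD1_c8 LD2_c48 LD3_c53)) = (LP (LK LD1_c4 LD2_c35 LD3_c33)) :=
  Lgr Lrot131 (Lpe (f158823 IH) (Lpe (K8.f158731 IH) (Lpe (K8.f158834 IH) (Lpe (K8.f117721 IH) (Lpr_gf (K32.f161817 IH) (Lpe (f547081 IH) (Lpr_dt (K38.f547072 IH) (Lpr_gf (K32.f147328 IH) (Lpr_df (f567165 IH) (Lpr_et (f567104 IH) (Lpn (LP (LK LD1_c4 LD2_c35 LD3_c33)))))))))))))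
theorem f567225 : Led Lsl_gf (LP (LK LD1_c8 LD2_c48 LD3_c53)) = (LP (LK LD1_c4 LD2_c35 LD3_c35)) :=
  Lgr Lrot47 (Lpr_gt (f567180 IH) (Lpe (f567098 IH) (Lpr_ff (f567217 IH) (Lpn (LP (LK LD1_c4 LD2_c35 LD3_c35))))))
theorem f185156 : Led Lsl_gt (LP (LK LD1_c2 LD2_c33 LD3_c21)) = (LP (LK LD1_c5 LD2_c12 LD3_c58)) :=
  Lre_g IH (LK LD1_c2 LD2_c33 LD3_c21) (LK LD1_c5 LD2_c12 LD3_c58) Lrfl Lrfl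
theorem f551790 : Led Lsl_ef (LP (LK LD1_c4 LD2_c35 LD3_c35)) = (LP (LK LD1_c5 LD2_c13 LD3_c39)) :=
  Lgr Lrot28 (Lpr_ct (K38.f34910 IH) (Lpr_et (K39.f551784 IH) (Lpr_ct (K32.f308085 IH) (Lpn (LP (LK LD1_c5 LD2_c13 LD3_c39))))))
theorem f240926 : Led Lsl_gt (LP (LK LD1_c5 LD2_c6 LD3_c42)) = (LP (LK LD1_c10 LD2_c4 LD3_c7)) :=
  Lre_g IH (LK LD1_c5 LD2_c6 LD3_c42) (LK LD1_c10 LD2_c4 LD3_c7) Lrfl Lrfl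
theorem f308187 : Led Lsl_gf (LP (LK LD1_c10 LD2_c17 LD3_c29)) = (LP (LK LD1_c10 LD2_c4 LD3_c7)) :=
  Lgr Lrot76 (Lpe (K19.f308168 IH) (Lpr_ff (K19.f308169 IH) (Lpr_gt (f240926 IH) (Lpn (LP (LK LD1_c10 LD2_c4 LD3_c7))))))
theorem f567233 : Led Lsl_dt (LP (LK LD1_c5 LD2_c12 LD3_c58)) = (LP (LK LD1_c10 LD2_c4 LD3_c7)) :=
  Lgr Lrot171 (Lpe (f185156 IH) (Lpq (K38.f537896 IH) (Lpe (K38.f506318 IH) (Lpr_dt (K4.f116806 IH) (Lpe (K8.f112487 IH) (Lpr_df (K8.f158731 IH) (Lpr_et (f158823 IH) (Lpr_gf (f567225 IH) (Lpr_ef (f551790 IH) (Lpr_dt (K36.f308171 IH) (Lpr_gf (f308187 IH) (Lpn (LP (LK LD1_c10 LD2_c4 LD3_c7))))))))))))))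
theorem f567240 : Led Lsl_et (LP (LK LD1_c5 LD2_c12 LD3_c58)) = (LP (LK LD1_c10 LD2_c16 LD3_c12)) :=
  Lre_e IH (LK LD1_c5 LD2_c12 LD3_c58) (LK LD1_c10 LD2_c16 LD3_c12) Lrfl Lrfl
theorem f166377 : Led Lsl_bt (LP (LK LD1_c1 LD2_c12 LD3_c21)) = (LP (LK LD1_c0 LD2_c33 LD3_c30)) :=
  Lre_b IH (LK LD1_c1 LD2_c12 LD3_c21) (LK LD1_c0 LD2_c33 LD3_c30) Lrfl Lrfl
theorem f421420 : Led Lsl_gt (LP (LK LD1_c4 LD2_c25 LD3_c42)) = (LP (LK LD1_c2 LD2_c30 LD3_c38)) :=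
  Lgr Lrot65 (Lpr_cf (K32.f421407 IH) (Lpr_bt (K32.f387096 IH) (Lpr_gf (K28.f387085 IH) (Lpe (K28.f186692 IH) (Lpe (K10.f186682 IH) (Lpe (K9.f31679 IH) (Lpe (K2.f34920 IH) (Lpe (K9.f166370 IH) (Lpe (f166377 IH) (Lpr_ct (K32.f166378 IH) (Lpn (LP (LK LD1_c2 LD2_c30 LD3_c38)))))))))))))
theorem f158702 : Led Lsl_et (LP (LK LD1_c2 LD2_c10 LD3_c11)) = (LP (LK LD1_c4 LD2_c25 LD3_c42)) :=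
  Lre_e IH (LK LD1_c2 LD2_c10 LD3_c11) (LK LD1_c4 LD2_c25 LD3_c42) Lrfl Lrfl
theorem f567241 : Led Lsl_gt (LP (LK LD1_c10 LD2_c16 LD3_c12)) = (LP (LK LD1_c5 LD2_c46 LD3_c25)) :=
  Lgr Lrot131 (Lpe (f567240 IH) (Lpr_dt (f567233 IH) (Lpe (f240926 IH) (Lpe (K36.f308135 IH) (Lpe (f421420 IH) (Lpe (f158702 IH) (Lpr_dt (K8.f148960 IH) (Lpr_gf (K8.f157018 IH) (Lpe (K8.f60358 IH) (Lpr_et (f60668 IH) (Lpn (LP (LK LD1_c5 LD2_c46 LD3_c25)))))))))))))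
theorem f405147 : Led Lsl_et (LP (LK LD1_c2 LD2_c30 LD3_c38)) = (LP (LK LD1_c5 LD2_c6 LD3_c43)) :=
  Lre_e IH (LK LD1_c2 LD2_c30 LD3_c38) (LK LD1_c5 LD2_c6 LD3_c43) Lrfl Lrfl
theorem f423881 : Led Lsl_dt (LP (LK LD1_c20 LD2_c10 LD3_c3)) = (LP (LK LD1_c11 LD2_c15 LD3_c6)) :=
  Lre_d IH (LK LD1_c20 LD2_c10 LD3_c3) (LK LD1_c11 LD2_c15 LD3_c6) Lrfl Lrfl
theorem f552588 : Led Lsl_gt (LP (LK LD1_c11 LD2_c13 LD3_c29)) = (LP (LK LD1_c8 LD2_c44 LD3_c25)) :=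
  Lgr Lrot94 (Lpe (K38.f269669 IH) (Lpr_gt (K38.f172817 IH) (Lpr_dt (K16.f269673 IH) (Lpe (K36.f423882 IH) (Lpr_dt (f423881 IH) (Lpe (K36.f423869 IH) (Lpe (K36.f423865 IH) (Lpr_gf (K39.f552581 IH) (Lpe (K39.f542241 IH) (Lpn (LP (LK LD1_c8 LD2_c44 LD3_c25))))))))))))
theorem f552598 : Led Lsl_et (LP (LK LD1_c4 LD2_c23 LD3_c23)) = (LP (LK LD1_c8 LD2_c44 LD3_c26)) :=
  Lre_e IH (LK LD1_c4 LD2_c23 LD3_c23) (LK LD1_c8 LD2_c44 LD3_c26) Lrfl Lrfl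
theorem f567249 : Led Lsl_gf (LP (LK LD1_c5 LD2_c6 LD3_c43)) = (LP (LK LD1_c8 LD2_c44 LD3_c26)) :=
  Lgr Lrot141 (Lpe (f405147 IH) (Lpr_dt (K36.f308135 IH) (Lpr_gt (f240926 IH) (Lpe (f567233 IH) (Lpr_et (f567240 IH) (Lpr_gt (f567241 IH) (Lpr_dt (K38.f549890 IH) (Lpr_gt (f552588 IH) (Lpe (K39.f542237 IH) (Lpr_et (f552598 IH) (Lpn (LP (LK LD1_c8 LD2_c44 LD3_c26)))))))))))))
theorem f308228 : Led Lsl_ft (LP (LK LD1_c5 LD2_c6 LD3_c47)) = (LP (LK LD1_c10 LD2_c4 LD3_c20)) :=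
  Lre_f IH (LK LD1_c5 LD2_c6 LD3_c47) (LK LD1_c10 LD2_c4 LD3_c20) Lrfl Lrfl
theorem f424479 : Led Lsl_ft (LP (LK LD1_c12 LD2_c8 LD3_c30)) = (LP (LK LD1_c6 LD2_c15 LD3_c5)) :=
  Lre_f IH (LK LD1_c12 LD2_c8 LD3_c30) (LK LD1_c6 LD2_c15 LD3_c5) Lrfl Lrfl
theorem f424480 : Led Lsl_dt (LP (LK LD1_c10 LD2_c4 LD3_c20)) = (LP (LK LD1_c12 LD2_c8 LD3_c30)) :=
  Lgr Lrot60 (Lpe (f308228 IH) (Lpr_df (K37.f424472 IH) (Lpe (f424479 IH) (Lpn (LP (LK LD1_c12 LD2_c8 LD3_c30))))))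
theorem f424489 : Led Lsl_df (LP (LK LD1_c10 LD2_c4 LD3_c20)) = (LP (LK LD1_c12 LD2_c8 LD3_c30)) :=
  Lgr Lrot38 (Lpr_dt (f424480 IH) (Lpn (LP (LK LD1_c12 LD2_c8 LD3_c30))))
theorem f424491 : Led Lsl_bt (LP (LK LD1_c21 LD2_c14 LD3_c46)) = (LP (LK LD1_c12 LD2_c8 LD3_c30)) :=
  Lre_b IH (LK LD1_c21 LD2_c14 LD3_c46) (LK LD1_c12 LD2_c8 LD3_c30) Lrfl Lrfl
theorem f424492 : Led Lsl_dt (LP (LK LD1_c18 LD2_c22 LD3_c50)) = (LP (LK LD1_c21 LD2_c14 LD3_c46)) :=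
  Lgr Lrot79 (Lpe (K19.f308207 IH) (Lpr_df (f424489 IH) (Lpe (f424491 IH) (Lpn (LP (LK LD1_c21 LD2_c14 LD3_c46))))))
theorem f424494 : Led Lsl_ft (LP (LK LD1_c21 LD2_c14 LD3_c46)) = (LP (LK LD1_c12 LD2_c8 LD3_c28)) :=
  Lre_f IH (LK LD1_c21 LD2_c14 LD3_c46) (LK LD1_c12 LD2_c8 LD3_c28) Lrfl Lrfl
theorem f424495 : Led Lsl_df (LP (LK LD1_c10 LD2_c4 LD3_c10)) = (LP (LK LD1_c12 LD2_c8 LD3_c28)) :=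
  Lgr Lrot78 (Lpr_ft (K19.f308203 IH) (Lpr_dt (f424492 IH) (Lpr_ft (f424494 IH) (Lpn (LP (LK LD1_c12 LD2_c8 LD3_c28))))))
theorem f424499 : Led Lsl_et (LP (LK LD1_c6 LD2_c15 LD3_c4)) = (LP (LK LD1_c12 LD2_c8 LD3_c28)) :=
  Lre_e IH (LK LD1_c6 LD2_c15 LD3_c4) (LK LD1_c12 LD2_c8 LD3_c28) Lrfl Lrfl
theorem f424500 : Led Lsl_dt (LP (LK LD1_c5 LD2_c6 LD3_c43)) = (LP (LK LD1_c6 LD2_c15 LD3_c4)) :=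
  Lgr Lrot77 (Lpe (f405147 IH) (Lpe (K19.f166413 IH) (Lpe (K36.f308181 IH) (Lpr_df (f424495 IH) (Lpe (f424499 IH) (Lpn (LP (LK LD1_c6 LD2_c15 LD3_c4))))))))
theorem f538946 : Led Lsl_bt (LP (LK LD1_c2 LD2_c16 LD3_c46)) = (LP (LK LD1_c2 LD2_c44 LD3_c59)) :=
  Lgr Lrot95 (Lpr_df (K10.f176718 IH) (Lpe (K36.f101579 IH) (Lpr_df (K36.f538942 IH) (Lpn (LP (LK LD1_c2 LD2_c44 LD3_c59))))))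
theorem f380372 : Led Lsl_gt (LP (LK LD1_c5 LD2_c38 LD3_c7)) = (LP (LK LD1_c2 LD2_c44 LD3_c59)) :=
  Lre_g IH (LK LD1_c5 LD2_c38 LD3_c7) (LK LD1_c2 LD2_c44 LD3_c59) Lrfl Lrfl
theorem f380366 : Led Lsl_bt (LP (LK LD1_c11 LD2_c7 LD3_c29)) = (LP (LK LD1_c5 LD2_c38 LD3_c7)) :=
  Lre_b IH (LK LD1_c11 LD2_c7 LD3_c29) (LK LD1_c5 LD2_c38 LD3_c7) Lrfl Lrfl
theorem f173308 : Led Lsl_gt (LP (LK LD1_c8 LD2_c42 LD3_c61)) = (LP (LK LD1_c4 LD2_c22 LD3_c33)) :=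
  Lre_g IH (LK LD1_c8 LD2_c42 LD3_c61) (LK LD1_c4 LD2_c22 LD3_c33) Lrfl Lrfl
theorem f380310 : Led Lsl_gt (LP (LK LD1_c2 LD2_c45 LD3_c5)) = (LP (LK LD1_c5 LD2_c38 LD3_c7)) :=
  Lre_g IH (LK LD1_c2 LD2_c45 LD3_c5) (LK LD1_c5 LD2_c38 LD3_c7) Lrfl Lrfl
theorem f380367 : Led Lsl_cf (LP (LK LD1_c8 LD2_c42 LD3_c61)) = (LP (LK LD1_c11 LD2_c7 LD3_c29)) :=
  Lgr Lrot160 (Lpr_gt (f173308 IH) (Lpe (K30.f173300 IH) (Lpr_bt (K30.f173293 IH) (Lpr_gt (K10.f175513 IH) (Lpr_ct (K10.f20790 IH) (Lpe (K9.f164674 IH) (Lpr_cf (K36.f380349 IH) (Lpr_bt (K36.f380311 IH) (Lpr_gt (f380310 IH) (Lpe (f380366 IH) (Lpn (LP (LK LD1_c11 LD2_c7 LD3_c29)))))))))))))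
theorem f563575 : Led Lsl_gf (LP (LK LD1_c8 LD2_c42 LD3_c61)) = (LP (LK LD1_c10 LD2_c2 LD3_c52)) :=
  Lgr Lrot129 (Lpr_cf (f380367 IH) (Lpr_bt (f380366 IH) (Lpr_gt (f380372 IH) (Lpe (f538946 IH) (Lpr_ct (K10.f24222 IH) (Lpr_gt (K10.f26660 IH) (Lpe (K10.f26669 IH) (Lpr_bt (f26670 IH) (Lpr_gt (f563566 IH) (Lpr_ct (f545125 IH) (Lpn (LP (LK LD1_c10 LD2_c2 LD3_c52)))))))))))))
theorem f173299 : Led Lsl_at (LP (LK LD1_c8 LD2_c42 LD3_c55)) = (LP (LK LD1_c4 LD2_c22 LD3_c33)) :=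
  Lre_a IH (LK LD1_c8 LD2_c42 LD3_c55) (LK LD1_c4 LD2_c22 LD3_c33) Lrfl Lrfl
theorem f563577 : Led Lsl_ff (LP (LK LD1_c8 LD2_c42 LD3_c55)) = (LP (LK LD1_c10 LD2_c2 LD3_c52)) :=
  Lgr Lrot52 (Lpr_at (f173299 IH) (Lpe (f173308 IH) (Lpr_gf (f563575 IH) (Lpn (LP (LK LD1_c10 LD2_c2 LD3_c52))))))
theorem f563585 : Led Lsl_ft (LP (LK LD1_c8 LD2_c42 LD3_c55)) = (LP (LK LD1_c10 LD2_c2 LD3_c52)) :=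
  Lgr Lrot48 (Lpr_ff (f563577 IH) (Lpn (LP (LK LD1_c10 LD2_c2 LD3_c52))))
theorem f193890 : Led Lsl_dt (LP (LK LD1_c6 LD2_c7 LD3_c42)) = (LP (LK LD1_c11 LD2_c57 LD3_c48)) :=
  Lre_d IH (LK LD1_c6 LD2_c7 LD3_c42) (LK LD1_c11 LD2_c57 LD3_c48) Lrfl Lrfl
theorem f547587 : Led Lsl_af (LP (LK LD1_c6 LD2_c7 LD3_c42)) = (LP (LK LD1_c10 LD2_c2 LD3_c52)) :=
  Lgr Lrot117 (Lpr_dt (f193890 IH) (Lpr_at (K38.f547579 IH) (Lpr_dt (K40.f545126 IH) (Lpn (LP (LK LD1_c10 LD2_c2 LD3_c52))))))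
theorem f164700 : Led Lsl_gt (LP (LK LD1_c1 LD2_c18 LD3_c49)) = (LP (LK LD1_c2 LD2_c45 LD3_c2)) :=
  Lre_g IH (LK LD1_c1 LD2_c18 LD3_c49) (LK LD1_c2 LD2_c45 LD3_c2) Lrfl Lrfl
theorem f198561 : Led Lsl_bt (LP (LK LD1_c5 LD2_c38 LD3_c21)) = (LP (LK LD1_c2 LD2_c45 LD3_c2)) :=
  Lre_b IH (LK LD1_c5 LD2_c38 LD3_c21) (LK LD1_c2 LD2_c45 LD3_c2) Lrfl Lrfl
theorem f198562 : Led Lsl_ct (LP (LK LD1_c5 LD2_c38 LD3_c21)) = (LP (LK LD1_c11 LD2_c8 LD3_c1)) :=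
  Lre_c IH (LK LD1_c5 LD2_c38 LD3_c21) (LK LD1_c11 LD2_c8 LD3_c1) Lrfl Lrfl
theorem f193398 : Led Lsl_bt (LP (LK LD1_c3 LD2_c0 LD3_c2)) = (LP (LK LD1_c1 LD2_c25 LD3_c49)) :=
  Lre_b IH (LK LD1_c3 LD2_c0 LD3_c2) (LK LD1_c1 LD2_c25 LD3_c49) Lrfl Lrfl
theorem f198563 : Led Lsl_gt (LP (LK LD1_c11 LD2_c8 LD3_c1)) = (LP (LK LD1_c6 LD2_c7 LD3_c42)) :=
  Lgr Lrot65 (Lpe (f198562 IH) (Lpr_bt (f198561 IH) (Lpe (f164700 IH) (Lpe (K36.f164699 IH) (Lpr_ct (K36.f24523 IH) (Lpe (K9.f8412 IH) (Lpe (K11.f24248 IH) (Lpr_gf (K11.f198508 IH) (Lpe (f193398 IH) (Lpr_ct (K38.f193828 IH) (Lpn (LP (LK LD1_c6 LD2_c7 LD3_c42)))))))))))))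
theorem f563589 : Led Lsl_gt (LP (LK LD1_c8 LD2_c42 LD3_c55)) = (LP (LK LD1_c11 LD2_c8 LD3_c1)) :=
  Lgr Lrot5 (Lpr_ft (f563585 IH) (Lpe (f547587 IH) (Lpe (f198563 IH) (Lpn (LP (LK LD1_c11 LD2_c8 LD3_c1))))))
theorem f385859 : Led Lsl_et (LP (LK LD1_c4 LD2_c22 LD3_c31)) = (LP (LK LD1_c8 LD2_c42 LD3_c55)) :=
  Lre_e IH (LK LD1_c4 LD2_c22 LD3_c31) (LK LD1_c8 LD2_c42 LD3_c55) Lrfl Lrfl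
theorem f563593 : Led Lsl_df (LP (LK LD1_c5 LD2_c56 LD3_c26)) = (LP (LK LD1_c11 LD2_c8 LD3_c1)) :=
  Lgr Lrot135 (Lpr_gt (K40.f82153 IH) (Lpe (K40.f112857 IH) (Lpr_et (K2.f81813 IH) (Lpr_gt (K6.f81817 IH) (Lpr_ef (K38.f500559 IH) (Lpq (K38.f547554 IH) (Lpr_dt (K31.f172851 IH) (Lpr_gt (K31.f411699 IH) (Lpe (K30.f297109 IH) (Lpr_et (f385859 IH) (Lpr_gt (f563589 IH) (Lpn (LP (LK LD1_c11 LD2_c8 LD3_c1))))))))))))))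
theorem f563266 : Led Lsl_ct (LP (LK LD1_c5 LD2_c56 LD3_c26)) = (LP (LK LD1_c11 LD2_c38 LD3_c11)) :=
  Lre_c IH (LK LD1_c5 LD2_c56 LD3_c26) (LK LD1_c11 LD2_c38 LD3_c11) Lrfl Lrfl
theorem f563311 : Led Lsl_gt (LP (LK LD1_c9 LD2_c12 LD3_c37)) = (LP (LK LD1_c5 LD2_c56 LD3_c26)) :=
  Lgr Lrot9 (Lpe (K40.f559802 IH) (Lpr_gt (K40.f559800 IH) (Lpr_ct (K40.f553423 IH) (Lpr_gt (K40.f563187 IH) (Lpr_ct (K38.f424931 IH) (Lpe (K39.f163024 IH) (Lpr_cf (f563287 IH) (Lpr_gf (f563263 IH) (Lpe (f563266 IH) (Lpn (LP (LK LD1_c5 LD2_c56 LD3_c26))))))))))))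
theorem f160842 : Led Lsl_ft (LP (LK LD1_c1 LD2_c1 LD3_c50)) = (LP (LK LD1_c0 LD2_c42 LD3_c1)) :=
  Lgr Lrot142 (Lpr_dt (K6.f36523 IH) (Lpr_ct (K8.f35870 IH) (Lpr_dt (K8.f36524 IH) (Lpr_ct (K8.f160826 IH) (Lpr_dt (K8.f64576 IH) (Lpr_ct (K8.f64589 IH) (Lpr_dt (K8.f69237 IH) (Lpr_ct (K8.f69248 IH) (Lpe (K11.f69253 IH) (Lpn (LP (LK LD1_c0 LD2_c42 LD3_c1))))))))))))
theorem f36596 : Led Lsl_ft (LP (LK LD1_c4 LD2_c24 LD3_c3)) = (LP (LK LD1_c2 LD2_c9 LD3_c26)) :=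
  Lre_f IH (LK LD1_c4 LD2_c24 LD3_c3) (LK LD1_c2 LD2_c9 LD3_c26) Lrfl Lrfl
theorem f506299 : Led Lsl_ef (LP (LK LD1_c4 LD2_c24 LD3_c3)) = K36.v1896 :=
  Lgr Lrot21 (Lpr_ft (f36596 IH) (Lpr_et (K40.f36564 IH) (Lpr_ft (f160842 IH) (Lpr_et (K35.f149591 IH) (Lpr_ft (K36.f506296 IH) (Lpn K36.v1896))))))
theorem f563600 : Led Lsl_ef (LP (LK LD1_c5 LD2_c48 LD3_c39)) = (LP (LK LD1_c11 LD2_c8 LD3_c1)) :=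
  Lgr Lrot114 (Lpr_gt (K40.f210300 IH) (Lpr_ef (f506299 IH) (Lpq (K36.f537797 IH) (Lpr_dt (K6.f72987 IH) (Lpr_gt (K7.f142033 IH) (Lpe (K8.f70482 IH) (Lpe (K38.f545145 IH) (Lpe (K40.f559796 IH) (Lpr_dt (K40.f559802 IH) (Lpr_gt (f563311 IH) (Lpr_df (f563593 IH) (Lpn (LP (LK LD1_c11 LD2_c8 LD3_c1))))))))))))))
theorem f540436 : Led Lsl_et (LP (LK LD1_c2 LD2_c9 LD3_c24)) = (LP (LK LD1_c3 LD2_c36 LD3_c5)) :=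
  Lgr Lrot87 (Lpr_ef (K36.f540430 IH) (Lpn (LP (LK LD1_c3 LD2_c36 LD3_c5))))
theorem f563606 : Led Lsl_gf (LP (LK LD1_c5 LD2_c48 LD3_c39)) = (LP (LK LD1_c3 LD2_c36 LD3_c5)) :=
  Lgr Lrot141 (Lpr_ef (f563600 IH) (Lpe (f563593 IH) (Lpr_gt (K40.f82153 IH) (Lpe (K40.f112857 IH) (Lpr_et (K2.f81813 IH) (Lpr_gt (K6.f81817 IH) (Lpr_dt (K6.f81823 IH) (Lpr_gt (K8.f161922 IH) (Lpe (K40.f36586 IH) (Lpr_et (f540436 IH) (Lpn (LP (LK LD1_c3 LD2_c36 LD3_c5)))))))))))))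
theorem f210470 : Led Lsl_ct (LP (LK LD1_c5 LD2_c48 LD3_c39)) = (LP (LK LD1_c2 LD2_c50 LD3_c22)) :=
  Lre_c IH (LK LD1_c5 LD2_c48 LD3_c39) (LK LD1_c2 LD2_c50 LD3_c22) Lrfl Lrfl
theorem f499298 : Led Lsl_af (LP (LK LD1_c5 LD2_c47 LD3_c51)) = (LP (LK LD1_c6 LD2_c4 LD3_c14)) :=
  Lgr Lrot0 (Lpr_at (f499296 IH) (Lpn (LP (LK LD1_c6 LD2_c4 LD3_c14))))
theorem f557385 : Led Lsl_gt (LP (LK LD1_c2 LD2_c50 LD3_c22)) = (LP (LK LD1_c5 LD2_c47 LD3_c51)) :=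
  Lgr Lrot46 (Lpr_gf (K40.f557381 IH) (Lpr_ft (K40.f548747 IH) (Lpe (f499298 IH) (Lpn (LP (LK LD1_c5 LD2_c47 LD3_c51))))))
theorem f17907 : Led Lsl_dt (LP (LK LD1_c1 LD2_c44 LD3_c55)) = (LP (LK LD1_c3 LD2_c36 LD3_c5)) :=
  Lre_d IH (LK LD1_c1 LD2_c44 LD3_c55) (LK LD1_c3 LD2_c36 LD3_c5) Lrfl Lrfl
theorem f563616 : Led Lsl_dt (LP (LK LD1_c4 LD2_c39 LD3_c35)) = (LP (LK LD1_c7 LD2_c18 LD3_c47)) :=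
  Lgr Lrot27 (Lpe (f142079 IH) (Lpe (f557385 IH) (Lpe (f210470 IH) (Lpr_gf (f563606 IH) (Lpe (f17907 IH) (Lpr_gt (K3.f10765 IH) (Lpr_ct (K8.f120457 IH) (Lpe (K24.f120462 IH) (Lpe (K24.f116644 IH) (Lpn (LP (LK LD1_c7 LD2_c18 LD3_c47))))))))))))
theorem f567262 : Led Lsl_gt (LP (LK LD1_c6 LD2_c15 LD3_c4)) = (LP (LK LD1_c7 LD2_c18 LD3_c47)) :=
  Lgr Lrot139 (Lpe (f424500 IH) (Lpr_gf (f567249 IH) (Lpe (f552598 IH) (Lpr_dt (K39.f542237 IH) (Lpe (f552588 IH) (Lpe (K38.f549890 IH) (Lpr_et (K4.f60653 IH) (Lpr_gf (K8.f142087 IH) (Lpe (f56190 IH) (Lpr_dt (f563616 IH) (Lpn (LP (LK LD1_c7 LD2_c18 LD3_c47)))))))))))))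
theorem f567264 : Led Lsl_ft (LP (LK LD1_c6 LD2_c15 LD3_c4)) = (LP (LK LD1_c7 LD2_c19 LD3_c4)) :=
  Lgr Lrot2 (Lpr_gt (f567262 IH) (Lpe (K24.f151506 IH) (Lpe (K40.f497732 IH) (Lpn (LP (LK LD1_c7 LD2_c19 LD3_c4))))))
theorem f567266 : Led Lsl_af (LP (LK LD1_c6 LD2_c15 LD3_c4)) = (LP (LK LD1_c7 LD2_c18 LD3_c55)) :=
  Lgr Lrot45 (Lpr_ft (f567264 IH) (Lpr_at (K40.f497732 IH) (Lpe (K32.f497718 IH) (Lpn (LP (LK LD1_c7 LD2_c18 LD3_c55))))))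
theorem f567268 : Led Lsl_at (LP (LK LD1_c6 LD2_c15 LD3_c4)) = (LP (LK LD1_c7 LD2_c18 LD3_c55)) :=
  Lgr Lrot100 (Lpr_af (f567266 IH) (Lpn (LP (LK LD1_c7 LD2_c18 LD3_c55))))
theorem f406383 : Led Lsl_ft (LP (LK LD1_c4 LD2_c32 LD3_c7)) = (LP (LK LD1_c2 LD2_c30 LD3_c42)) :=
  Lgr Lrot48 (Lpr_ff (K40.f406379 IH) (Lpn (LP (LK LD1_c2 LD2_c30 LD3_c42))))
theorem f177123 : Led Lsl_ct (LP (LK LD1_c2 LD2_c30 LD3_c42)) = (LP (LK LD1_c5 LD2_c6 LD3_c43)) :=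
  Lre_c IH (LK LD1_c2 LD2_c30 LD3_c42) (LK LD1_c5 LD2_c6 LD3_c43) Lrfl Lrfl
theorem f406385 : Led Lsl_ff (LP (LK LD1_c8 LD2_c43 LD3_c60)) = (LP (LK LD1_c5 LD2_c6 LD3_c43)) :=
  Lgr Lrot23 (Lpe (K40.f237365 IH) (Lpr_ft (f406383 IH) (Lpr_ct (f177123 IH) (Lpn (LP (LK LD1_c5 LD2_c6 LD3_c43))))))
theorem f424466 : Led Lsl_bt (LP (LK LD1_c3 LD2_c4 LD3_c30)) = (LP (LK LD1_c6 LD2_c15 LD3_c4)) :=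
  Lre_b IH (LK LD1_c3 LD2_c4 LD3_c30) (LK LD1_c6 LD2_c15 LD3_c4) Lrfl Lrfl
theorem f424467 : Led Lsl_df (LP (LK LD1_c5 LD2_c6 LD3_c43)) = (LP (LK LD1_c6 LD2_c15 LD3_c4)) :=
  Lgr Lrot12 (Lpr_bt (K36.f402995 IH) (Lpr_dt (K37.f424464 IH) (Lpr_bt (f424466 IH) (Lpn (LP (LK LD1_c6 LD2_c15 LD3_c4))))))
theorem f567173 : Led Lsl_ft (LP (LK LD1_c7 LD2_c19 LD3_c4)) = (LP (LK LD1_c6 LD2_c15 LD3_c4)) :=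
  Lgr Lrot54 (Lpr_df (f567165 IH) (Lpr_ff (f406385 IH) (Lpr_df (f424467 IH) (Lpn (LP (LK LD1_c6 LD2_c15 LD3_c4))))))
theorem f205914 : Led Lsl_dt (LP (LK LD1_c12 LD2_c51 LD3_c14)) = (LP (LK LD1_c7 LD2_c0 LD3_c16)) :=
  Lgr Lrot27 (Lpe (K39.f205905 IH) (Lpr_gf (K36.f205910 IH) (Lpe (K36.f97928 IH) (Lpe (K36.f120451 IH) (Lpr_df (K4.f111029 IH) (Lpe (K36.f116626 IH) (Lpr_ct (K28.f116571 IH) (Lpr_gt (K37.f157317 IH) (Lpe (K2.f94489 IH) (Lpn (LP (LK LD1_c7 LD2_c0 LD3_c16))))))))))))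
theorem f567483 : Led Lsl_dt (LP (LK LD1_c6 LD2_c16 LD3_c44)) = (LP (LK LD1_c9 LD2_c49 LD3_c42)) :=
  Lgr Lrot140 (Lpe (K32.f186387 IH) (Lpe (K40.f186347 IH) (Lpr_cf (K40.f237365 IH) (Lpr_df (K40.f552205 IH) (Lpr_ft (f567173 IH) (Lpr_at (f567268 IH) (Lpe (K37.f94502 IH) (Lpe (f205914 IH) (Lpe (K39.f205905 IH) (Lpn (LP (LK LD1_c9 LD2_c49 LD3_c42))))))))))))
theorem f14607 : Led Lsl_bt (LP (LK LD1_c6 LD2_c54 LD3_c46)) = (LP (LK LD1_c3 LD2_c26 LD3_c28)) :=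
  Lre_b IH (LK LD1_c6 LD2_c54 LD3_c46) (LK LD1_c3 LD2_c26 LD3_c28) Lrfl Lrfl
theorem f567491 : Led Lsl_bf (LP (LK LD1_c12 LD2_c10 LD3_c31)) = (LP (LK LD1_c8 LD2_c48 LD3_c7)) :=
  Lgr Lrot184 (Lpr_gt (K32.f186385 IH) (Lpr_dt (f567483 IH) (Lpr_ct (K39.f205905 IH) (Lpr_bt (K32.f144034 IH) (Lpr_gt (K11.f57451 IH) (Lpr_dt (K6.f57450 IH) (Lpe (K6.f145141 IH) (Lpr_bt (f14607 IH) (Lpr_gt (K3.f14606 IH) (Lpe (K4.f112181 IH) (Lpr_ct (K5.f112117 IH) (Lpr_bt (K4.f83771 IH) (Lpe (K4.f112352 IH) (Lpr_dt (K2.f70926 IH) (Lpr_ct (K2.f70925 IH) (Lpr_bt (K4.f71124 IH) (Lpe (K6.f72112 IH) (Lpr_dt (K36.f72115 IH) (Lpr_ct (K28.f72116 IH) (Lpn (LP (LK LD1_c8 LD2_c48 LD3_c7))))))))))))))))))))))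
theorem f186383 : Led Lsl_ct (LP (LK LD1_c6 LD2_c16 LD3_c44)) = (LP (LK LD1_c3 LD2_c5 LD3_c27)) :=
  Lre_c IH (LK LD1_c6 LD2_c16 LD3_c44) (LK LD1_c3 LD2_c5 LD3_c27) Lrfl Lrfl
theorem f26924 : Led Lsl_ft (LP (LK LD1_c4 LD2_c41 LD3_c31)) = (LP (LK LD1_c2 LD2_c17 LD3_c49)) :=
  Lre_f IH (LK LD1_c4 LD2_c41 LD3_c31) (LK LD1_c2 LD2_c17 LD3_c49) Lrfl Lrfl
theorem f562688 : Led Lsl_gf (LP (LK LD1_c4 LD2_c41 LD3_c24)) = (LP (LK LD1_c3 LD2_c5 LD3_c27)) :=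
  Lgr Lrot76 (Lpe (K16.f26833 IH) (Lpe (f26924 IH) (Lpr_gt (K40.f562686 IH) (Lpn (LP (LK LD1_c3 LD2_c5 LD3_c27))))))
theorem f210070 : Led Lsl_bt (LP (LK LD1_c9 LD2_c17 LD3_c48)) = (LP (LK LD1_c17 LD2_c12 LD3_c53)) :=
  Lre_b IH (LK LD1_c9 LD2_c17 LD3_c48) (LK LD1_c17 LD2_c12 LD3_c53) Lrfl Lrfl
theorem f567503 : Led Lsl_gt (LP (LK LD1_c17 LD2_c12 LD3_c53)) = (LP (LK LD1_c21 LD2_c12 LD3_c20)) :=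
  Lgr Lrot164 (Lpe (f210070 IH) (Lpr_ct (K35.f26920 IH) (Lpr_gf (f562688 IH) (Lpe (f186383 IH) (Lpe (K32.f186385 IH) (Lpr_bf (f567491 IH) (Lpr_ct (K28.f72117 IH) (Lpe (f80772 IH) (Lpe (K6.f38156 IH) (Lpr_bt (K6.f38216 IH) (Lpn (LP (LK LD1_c21 LD2_c12 LD3_c20)))))))))))))
theorem f80191 : Led Lsl_bt (LP (LK LD1_c17 LD2_c9 LD3_c54)) = (LP (LK LD1_c9 LD2_c15 LD3_c22)) :=
  Lre_b IH (LK LD1_c17 LD2_c9 LD3_c54) (LK LD1_c9 LD2_c15 LD3_c22) Lrfl Lrfl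
theorem f538112 : Led Lsl_ff (LP (LK LD1_c17 LD2_c9 LD3_c54)) = (LP (LK LD1_c17 LD2_c12 LD3_c53)) :=
  Lgr Lrot25 (Lpr_bt (f80191 IH) (Lpr_ft (K35.f538110 IH) (Lpr_bt (f210070 IH) (Lpn (LP (LK LD1_c17 LD2_c12 LD3_c53))))))
theorem f567507 : Led Lsl_at (LP (LK LD1_c17 LD2_c9 LD3_c54)) = (LP (LK LD1_c17 LD2_c24 LD3_c37)) :=
  Lgr Lrot26 (Lpr_ff (f538112 IH) (Lpr_gt (f567503 IH) (Lpr_gt (K6.f80827 IH) (Lpn (LP (LK LD1_c17 LD2_c24 LD3_c37))))))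
theorem f419518 : Led Lsl_ff (LP (LK LD1_c17 LD2_c19 LD3_c56)) = (LP (LK LD1_c17 LD2_c24 LD3_c37)) :=
  Lgr Lrot23 (Lpr_ct (K11.f14067 IH) (Lpr_ft (K37.f419514 IH) (Lpr_ct (K37.f40576 IH) (Lpn (LP (LK LD1_c17 LD2_c24 LD3_c37))))))
theorem f567513 : Led Lsl_af (LP (LK LD1_c17 LD2_c12 LD3_c53)) = (LP (LK LD1_c17 LD2_c19 LD3_c56)) :=
  Lgr Lrot45 (Lpe (f538112 IH) (Lpr_at (f567507 IH) (Lpe (f419518 IH) (Lpn (LP (LK LD1_c17 LD2_c19 LD3_c56))))))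
theorem f419473 : Led Lsl_ft (LP (LK LD1_c9 LD2_c23 LD3_c21)) = (LP (LK LD1_c9 LD2_c26 LD3_c34)) :=
  Lgr Lrot54 (Lpr_df (K28.f419355 IH) (Lpr_ff (K37.f419471 IH) (Lpe (K11.f204051 IH) (Lpn (LP (LK LD1_c9 LD2_c26 LD3_c34))))))
theorem f419516 : Led Lsl_af (LP (LK LD1_c9 LD2_c23 LD3_c22)) = (LP (LK LD1_c9 LD2_c26 LD3_c34)) :=
  Lgr Lrot45 (Lpr_ft (K37.f419514 IH) (Lpe (K37.f419479 IH) (Lpr_ft (f419473 IH) (Lpn (LP (LK LD1_c9 LD2_c26 LD3_c34))))))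
theorem f567520 : Led Lsl_ct (LP (LK LD1_c17 LD2_c12 LD3_c53)) = (LP (LK LD1_c9 LD2_c26 LD3_c34)) :=
  Lgr Lrot111 (Lpr_af (f567513 IH) (Lpe (K11.f14115 IH) (Lpr_af (f419516 IH) (Lpn (LP (LK LD1_c9 LD2_c26 LD3_c34))))))
theorem f210152 : Led Lsl_bt (LP (LK LD1_c17 LD2_c12 LD3_c53)) = (LP (LK LD1_c9 LD2_c17 LD3_c48)) :=
  Lre_b IH (LK LD1_c17 LD2_c12 LD3_c53) (LK LD1_c9 LD2_c17 LD3_c48) Lrfl Lrfl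
theorem f538104 : Led Lsl_gt (LP (LK LD1_c9 LD2_c17 LD3_c48)) = (LP (LK LD1_c11 LD2_c26 LD3_c55)) :=
  Lgr Lrot5 (Lpe (K35.f538102 IH) (Lpr_at (K35.f538087 IH) (Lpe (K40.f210536 IH) (Lpn (LP (LK LD1_c11 LD2_c26 LD3_c55))))))
theorem f210541 : Led Lsl_bt (LP (LK LD1_c20 LD2_c24 LD3_c49)) = (LP (LK LD1_c11 LD2_c26 LD3_c55)) :=
  Lre_b IH (LK LD1_c20 LD2_c24 LD3_c49) (LK LD1_c11 LD2_c26 LD3_c55) Lrfl Lrfl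
theorem f210543 : Led Lsl_ct (LP (LK LD1_c20 LD2_c24 LD3_c49)) = (LP (LK LD1_c11 LD2_c26 LD3_c58)) :=
  Lre_c IH (LK LD1_c20 LD2_c24 LD3_c49) (LK LD1_c11 LD2_c26 LD3_c58) Lrfl Lrfl
theorem f202482 : Led Lsl_df (LP (LK LD1_c20 LD2_c30 LD3_c49)) = (LP (LK LD1_c12 LD2_c34 LD3_c14)) :=
  Lgr Lrot38 (Lpr_dt (K34.f202475 IH) (Lpn (LP (LK LD1_c12 LD2_c34 LD3_c14))))
theorem f204095 : Led Lsl_gf (LP (LK LD1_c17 LD2_c14 LD3_c60)) = (LP (LK LD1_c21 LD2_c6 LD3_c52)) :=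
  Lgr Lrot144 (Lpr_dt (K11.f204087 IH) (Lpr_gt (K11.f79938 IH) (Lpe (f202482 IH) (Lpr_cf (K34.f202453 IH) (Lpe (K32.f40535 IH) (Lpe (K32.f40413 IH) (Lpe (K6.f14141 IH) (Lpe (K11.f14131 IH) (Lpr_cf (K11.f204058 IH) (Lpn (LP (LK LD1_c21 LD2_c6 LD3_c52))))))))))))
theorem f148276 : Led Lsl_bf (LP (LK LD1_c0 LD2_c10 LD3_c17)) = (LP (LK LD1_c0 LD2_c10 LD3_c17)) :=
  Lgr Lrot93 (Lpr_dt (K7.f4831 IH) (Lpr_bt (K7.f148238 IH) (Lpr_dt (K7.f4829 IH) (Lpn (LP (LK LD1_c0 LD2_c10 LD3_c17))))))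
theorem f122193 : Led Lsl_ct (LP (LK LD1_c7 LD2_c22 LD3_c17)) = (LP (LK LD1_c13 LD2_c56 LD3_c18)) :=
  Lre_c IH (LK LD1_c7 LD2_c22 LD3_c17) (LK LD1_c13 LD2_c56 LD3_c18) Lrfl Lrfl
theorem f204097 : Led Lsl_bf (LP (LK LD1_c21 LD2_c6 LD3_c52)) = (LP (LK LD1_c13 LD2_c56 LD3_c18)) :=
  Lgr Lrot184 (Lpe (f204095 IH) (Lpr_dt (K11.f204087 IH) (Lpr_ct (K11.f152455 IH) (Lpr_bt (K11.f152454 IH) (Lpe (K7.f152598 IH) (Lpr_dt (K7.f128889 IH) (Lpe (K32.f152610 IH) (Lpe (K7.f116063 IH) (Lpr_gt (K7.f148289 IH) (Lpr_dt (K7.f148288 IH) (Lpr_ct (K7.f23670 IH) (Lpe (f148276 IH) (Lpe (K34.f148236 IH) (Lpr_dt (K11.f120986 IH) (Lpr_ct (K4.f120963 IH) (Lpr_bt (K6.f121004 IH) (Lpr_gt (K6.f142327 IH) (Lpe (K8.f142643 IH) (Lpr_ct (f122193 IH) (Lpn (LP (LK LD1_c13 LD2_c56 LD3_c18))))))))))))))))))))))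
theorem f204102 : Led Lsl_bt (LP (LK LD1_c17 LD2_c23 LD3_c43)) = (LP (LK LD1_c13 LD2_c57 LD3_c13)) :=
  Lgr Lrot128 (Lpr_cf (K11.f204058 IH) (Lpr_bf (f204097 IH) (Lpe (f122193 IH) (Lpr_bf (K6.f142539 IH) (Lpe (K5.f129384 IH) (Lpn (LP (LK LD1_c13 LD2_c57 LD3_c13))))))))
theorem f204104 : Led Lsl_bf (LP (LK LD1_c17 LD2_c23 LD3_c43)) = (LP (LK LD1_c13 LD2_c57 LD3_c13)) :=
  Lgr Lrot24 (Lpr_bt (f204102 IH) (Lpn (LP (LK LD1_c13 LD2_c57 LD3_c13))))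
theorem f567522 : Led Lsl_gt (LP (LK LD1_c11 LD2_c26 LD3_c58)) = (LP (LK LD1_c13 LD2_c55 LD3_c32)) :=
  Lgr Lrot65 (Lpe (f210543 IH) (Lpr_bt (f210541 IH) (Lpe (f538104 IH) (Lpe (f210152 IH) (Lpr_ct (f567520 IH) (Lpe (K11.f14009 IH) (Lpe (K0.f14003 IH) (Lpe (K11.f14131 IH) (Lpr_bf (f204104 IH) (Lpr_ct (K5.f129384 IH) (Lpn (LP (LK LD1_c13 LD2_c55 LD3_c32)))))))))))))
theorem f567532 : Led Lsl_bt (LP (LK LD1_c5 LD2_c48 LD3_c46)) = (LP (LK LD1_c11 LD2_c26 LD3_c58)) :=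
  Lre_b IH (LK LD1_c5 LD2_c48 LD3_c46) (LK LD1_c11 LD2_c26 LD3_c58) Lrfl Lrfl
theorem f452695 : Led Lsl_gt (LP (LK LD1_c2 LD2_c13 LD3_c52)) = K38.v408 :=
  Lgr Lrot46 (Lpe (K8.f58855 IH) (Lpe (K38.f143120 IH) (Lpr_at (K38.f452690 IH) (Lpn K38.v408))))
theorem f202352 : Led Lsl_gf (LP (LK LD1_c4 LD2_c38 LD3_c46)) = (LP (LK LD1_c2 LD2_c56 LD3_c59)) :=
  Lgr Lrot76 (Lpr_af (K8.f158862 IH) (Lpe (K8.f158866 IH) (Lpr_gt (K11.f202346 IH) (Lpn (LP (LK LD1_c2 LD2_c56 LD3_c59))))))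
theorem f128356 : Led Lsl_df (LP (LK LD1_c9 LD2_c23 LD3_c42)) = (LP (LK LD1_c9 LD2_c8 LD3_c0)) :=
  Lgr Lrot38 (Lpr_dt (K7.f128351 IH) (Lpn (LP (LK LD1_c9 LD2_c8 LD3_c0))))
theorem f202247 : Led Lsl_gt (LP (LK LD1_c2 LD2_c15 LD3_c6)) = (LP (LK LD1_c1 LD2_c24 LD3_c15)) :=
  Lgr Lrot94 (Lpe (K4.f40642 IH) (Lpr_gt (K4.f104779 IH) (Lpe (f128356 IH) (Lpr_gt (K7.f137470 IH) (Lpr_dt (K6.f71139 IH) (Lpe (K6.f71138 IH) (Lpr_df (K6.f137398 IH) (Lpr_gf (K11.f202241 IH) (Lpe (K11.f202214 IH) (Lpn (LP (LK LD1_c1 LD2_c24 LD3_c15))))))))))))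
theorem f136313 : Led Lsl_bf (LP (LK LD1_c2 LD2_c15 LD3_c6)) = (LP (LK LD1_c2 LD2_c51 LD3_c47)) :=
  Lgr Lrot90 (Lpr_ct (K4.f34734 IH) (Lpr_bt (K4.f34735 IH) (Lpe (K3.f91756 IH) (Lpr_bt (K8.f104297 IH) (Lpr_ct (K6.f136307 IH) (Lpn (LP (LK LD1_c2 LD2_c51 LD3_c47))))))))
theorem f452697 : Led Lsl_bt (LP (LK LD1_c2 LD2_c14 LD3_c11)) = K38.v408 :=
  Lgr Lrot92 (Lpr_ct (K6.f135849 IH) (Lpr_gt (K6.f135860 IH) (Lpr_cf (K36.f136315 IH) (Lpe (f136313 IH) (Lpr_gt (f202247 IH) (Lpr_ct (K11.f202208 IH) (Lpe (f202352 IH) (Lpe (K8.f58860 IH) (Lpr_bt (K8.f58857 IH) (Lpr_gt (f452695 IH) (Lpn K38.v408)))))))))))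
theorem f20781 : Led Lsl_gt (LP (LK LD1_c2 LD2_c13 LD3_c2)) = (LP (LK LD1_c4 LD2_c32 LD3_c1)) :=
  Lre_g IH (LK LD1_c2 LD2_c13 LD3_c2) (LK LD1_c4 LD2_c32 LD3_c1) Lrfl Lrfl
theorem f567533 : Led Lsl_df (LP (LK LD1_c2 LD2_c50 LD3_c25)) = (LP (LK LD1_c4 LD2_c32 LD3_c1)) :=
  Lgr Lrot183 (Lpr_ct (K40.f210538 IH) (Lpr_bt (f567532 IH) (Lpr_gt (f567522 IH) (Lpr_dt (K5.f123527 IH) (Lpr_ct (K6.f127937 IH) (Lpe (K6.f127962 IH) (Lpe (K6.f136922 IH) (Lpe (K6.f135882 IH) (Lpr_ct (K6.f135834 IH) (Lpr_bt (f452697 IH) (Lpqs (K38.f537243 IH) (Lpr_gt (K38.f494277 IH) (Lpqs (K38.f537296 IH) (Lpr_dt (K38.f424521 IH) (Lpr_ct (K35.f494323 IH) (Lpqs (K39.f537083 IH) (Lpe (K10.f198319 IH) (Lpr_gt (K9.f20771 IH) (Lpe (K9.f20761 IH) (Lpr_ct (K10.f20778 IH) (Lpr_bt (K10.f20780 IH)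 (Lpr_gt (f20781 IH) (Lpn (LP (LK LD1_c4 LD2_c32 LD3_c1)))))))))))))))))))))))))
theorem f567538 : Led Lsl_dt (LP (LK LD1_c2 LD2_c50 LD3_c25)) = (LP (LK LD1_c4 LD2_c32 LD3_c1)) :=
  Lgr Lrot42 (Lpr_df (f567533 IH) (Lpn (LP (LK LD1_c4 LD2_c32 LD3_c1))))
theorem f567558 : Led Lsl_bt (LP (LK LD1_c4 LD2_c32 LD3_c1)) = (LP (LK LD1_c9 LD2_c1 LD3_c51)) :=
  Lre_b IH (LK LD1_c4 LD2_c32 LD3_c1) (LK LD1_c9 LD2_c1 LD3_c51) Lrfl Lrfl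
theorem f567559 : Led Lsl_dt (LP (LK LD1_c9 LD2_c1 LD3_c51)) = (LP (LK LD1_c5 LD2_c48 LD3_c45)) :=
  Lgr Lrot79 (Lpe (f567558 IH) (Lpe (f567538 IH) (Lpe (K40.f210534 IH) (Lpn (LP (LK LD1_c5 LD2_c48 LD3_c45))))))
theorem f557391 : Led Lsl_gt (LP (LK LD1_c5 LD2_c48 LD3_c45)) = (LP (LK LD1_c11 LD2_c25 LD3_c24)) :=
  Lgr Lrot46 (Lpr_gf (K40.f557388 IH) (Lpr_ft (K38.f548737 IH) (Lpe (f499300 IH) (Lpn (LP (LK LD1_c11 LD2_c25 LD3_c24))))))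
theorem f142072 : Led Lsl_dt (LP (LK LD1_c5 LD2_c47 LD3_c51)) = (LP (LK LD1_c11 LD2_c25 LD3_c24)) :=
  Lre_d IH (LK LD1_c5 LD2_c47 LD3_c51) (LK LD1_c11 LD2_c25 LD3_c24) Lrfl Lrfl
theorem f142041 : Led Lsl_et (LP (LK LD1_c5 LD2_c47 LD3_c51)) = (LP (LK LD1_c2 LD2_c49 LD3_c57)) :=
  Lre_e IH (LK LD1_c5 LD2_c47 LD3_c51) (LK LD1_c2 LD2_c49 LD3_c57) Lrfl Lrfl
theorem f138910 : Led Lsl_et (LP (LK LD1_c1 LD2_c10 LD3_c48)) = (LP (LK LD1_c2 LD2_c27 LD3_c3)) :=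
  Lre_e IH (LK LD1_c1 LD2_c10 LD3_c48) (LK LD1_c2 LD2_c27 LD3_c3) Lrfl Lrfl
theorem f567568 : Led Lsl_et (LP (LK LD1_c9 LD2_c1 LD3_c51)) = (LP (LK LD1_c4 LD2_c58 LD3_c24)) :=
  Lgr Lrot122 (Lpr_dt (f567559 IH) (Lpr_gt (f557391 IH) (Lpe (f142072 IH) (Lpr_et (f142041 IH) (Lpr_gt (K8.f142081 IH) (Lpe (K8.f157006 IH) (Lpr_gt (K8.f138970 IH) (Lpe (K8.f82038 IH) (Lpr_et (f138910 IH) (Lpr_gt (K37.f157022 IH) (Lpn (LP (LK LD1_c4 LD2_c58 LD3_c24)))))))))))))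
theorem f567575 : Led Lsl_ef (LP (LK LD1_c9 LD2_c1 LD3_c51)) = (LP (LK LD1_c4 LD2_c58 LD3_c24)) :=
  Lgr Lrot88 (Lpr_et (f567568 IH) (Lpn (LP (LK LD1_c4 LD2_c58 LD3_c24))))
theorem f420742 : Led Lsl_bf (LP (LK LD1_c4 LD2_c35 LD3_c35)) = (LP (LK LD1_c5 LD2_c53 LD3_c53)) :=
  Lgr Lrot24 (Lpr_bt (K38.f420740 IH) (Lpn (LP (LK LD1_c5 LD2_c53 LD3_c53))))
theorem f547705 : Led Lsl_dt (LP (LK LD1_c9 LD2_c9 LD3_c51)) = (LP (LK LD1_c4 LD2_c37 LD3_c1)) :=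
  Lre_d IH (LK LD1_c9 LD2_c9 LD3_c51) (LK LD1_c4 LD2_c37 LD3_c1) Lrfl Lrfl
theorem f566904 : Led Lsl_bf (LP (LK LD1_c2 LD2_c53 LD3_c46)) = (LP (LK LD1_c4 LD2_c37 LD3_c1)) :=
  Lgr Lrot93 (Lpr_dt (K36.f186705 IH) (Lpr_bt (f566899 IH) (Lpr_dt (f547705 IH) (Lpn (LP (LK LD1_c4 LD2_c37 LD3_c1))))))
theorem f567231 : Led Lsl_cf (LP (LK LD1_c4 LD2_c58 LD3_c24)) = (LP (LK LD1_c4 LD2_c37 LD3_c1)) :=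
  Lgr Lrot58 (Lpe (K37.f157022 IH) (Lpe (K36.f421412 IH) (Lpr_bt (K32.f203301 IH) (Lpr_gf (f567225 IH) (Lpr_bf (f420742 IH) (Lpr_ct (K37.f539734 IH) (Lpe (K38.f539728 IH) (Lpe (K37.f186698 IH) (Lpe (K35.f186691 IH) (Lpr_bf (f566904 IH) (Lpn (LP (LK LD1_c4 LD2_c37 LD3_c1)))))))))))))
theorem f567577 : Led Lsl_ct (LP (LK LD1_c9 LD2_c1 LD3_c51)) = (LP (LK LD1_c7 LD2_c7 LD3_c35)) :=
  Lgr Lrot15 (Lpr_ef (f567575 IH) (Lpr_cf (f567231 IH) (Lpe (K40.f552715 IH) (Lpn (LP (LK LD1_c7 LD2_c7 LD3_c35))))))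
theorem f185837 : Led Lsl_bt (LP (LK LD1_c9 LD2_c1 LD3_c51)) = (LP (LK LD1_c4 LD2_c32 LD3_c1)) :=
  Lre_b IH (LK LD1_c9 LD2_c1 LD3_c51) (LK LD1_c4 LD2_c32 LD3_c1) Lrfl Lrfl
theorem f172720 : Led Lsl_ft (LP (LK LD1_c1 LD2_c20 LD3_c5)) = (LP (LK LD1_c0 LD2_c37 LD3_c2)) :=
  Lre_f IH (LK LD1_c1 LD2_c20 LD3_c5) (LK LD1_c0 LD2_c37 LD3_c2) Lrfl Lrfl
theorem f495849 : Led Lsl_bf (LP (LK LD1_c1 LD2_c20 LD3_c5)) = K37.v1496 :=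
  Lgr Lrot61 (Lpr_ft (f172720 IH) (Lpr_bt (K40.f172695 IH) (Lpr_ft (K37.f495848 IH) (Lpn K37.v1496))))
theorem f538140 : Led Lsl_ct (LP (LK LD1_c2 LD2_c13 LD3_c31)) = (LP (LK LD1_c4 LD2_c33 LD3_c1)) :=
  Lre_c IH (LK LD1_c2 LD2_c13 LD3_c31) (LK LD1_c4 LD2_c33 LD3_c1) Lrfl Lrfl
theorem f567592 : Led Lsl_gf (LP (LK LD1_c4 LD2_c33 LD3_c1)) = (LP (LK LD1_c7 LD2_c7 LD3_c35)) :=
  Lgr Lrot126 (Lpe (f538140 IH) (Lpqs (K37.f546720 IH) (Lpe (f495849 IH) (Lpe (K13.f242636 IH) (Lpr_ct (K13.f185817 IH) (Lpe (K15.f185834 IH) (Lpe (K10.f20759 IH) (Lpr_bt (K10.f20780 IH) (Lpr_gt (f20781 IH) (Lpe (f185837 IH) (Lpr_ct (f567577 IH) (Lpn (LP (LK LD1_c7 LD2_c7 LD3_c35))))))))))))))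
theorem f563618 : Led Lsl_df (LP (LK LD1_c4 LD2_c39 LD3_c35)) = (LP (LK LD1_c7 LD2_c18 LD3_c47)) :=
  Lgr Lrot162 (Lpe (f142079 IH) (Lpe (f557385 IH) (Lpe (f210470 IH) (Lpr_gf (f563606 IH) (Lpr_dt (K8.f17909 IH) (Lpr_gt (K3.f10765 IH) (Lpr_ct (K8.f120457 IH) (Lpe (K24.f120462 IH) (Lpe (K24.f116644 IH) (Lpn (LP (LK LD1_c7 LD2_c18 LD3_c47))))))))))))
theorem f205160 : Led Lsl_bt (LP (LK LD1_c12 LD2_c23 LD3_c45)) = (LP (LK LD1_c6 LD2_c25 LD3_c30)) :=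
  Lre_b IH (LK LD1_c12 LD2_c23 LD3_c45) (LK LD1_c6 LD2_c25 LD3_c30) Lrfl Lrfl
theorem f566687 : Led Lsl_et (LP (LK LD1_c7 LD2_c59 LD3_c20)) = (LP (LK LD1_c12 LD2_c23 LD3_c45)) :=
  Lgr Lrot74 (Lpr_bf (f566678 IH) (Lpr_ef (K40.f558339 IH) (Lpe (f205160 IH) (Lpn (LP (LK LD1_c12 LD2_c23 LD3_c45))))))
theorem f542243 : Led Lsl_et (LP (LK LD1_c8 LD2_c44 LD3_c26)) = (LP (LK LD1_c4 LD2_c23 LD3_c23)) :=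
  Lre_e IH (LK LD1_c8 LD2_c44 LD3_c26) (LK LD1_c4 LD2_c23 LD3_c23) Lrfl Lrfl
theorem f566701 : Led Lsl_ct (LP (LK LD1_c12 LD2_c23 LD3_c45)) = (LP (LK LD1_c8 LD2_c44 LD3_c26)) :=
  Lgr Lrot15 (Lpe (f566687 IH) (Lpr_cf (f566697 IH) (Lpe (f542243 IH) (Lpn (LP (LK LD1_c8 LD2_c44 LD3_c26))))))
theorem f567563 : Led Lsl_gf (LP (LK LD1_c9 LD2_c1 LD3_c51)) = (LP (LK LD1_c12 LD2_c23 LD3_c45)) :=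
  Lgr Lrot144 (Lpr_dt (f567559 IH) (Lpr_gt (f557391 IH) (Lpr_dt (f142042 IH) (Lpr_cf (f142083 IH) (Lpr_df (f563618 IH) (Lpe (f567262 IH) (Lpe (f424500 IH) (Lpr_gf (f567249 IH) (Lpe (f566701 IH) (Lpn (LP (LK LD1_c12 LD2_c23 LD3_c45))))))))))))
theorem f567567 : Led Lsl_bt (LP (LK LD1_c6 LD2_c25 LD3_c30)) = (LP (LK LD1_c12 LD2_c23 LD3_c45)) :=
  Lre_b IH (LK LD1_c6 LD2_c25 LD3_c30) (LK LD1_c12 LD2_c23 LD3_c45) Lrfl Lrfl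
theorem f567602 : Led Lsl_cf (LP (LK LD1_c4 LD2_c57 LD3_c14)) = (LP (LK LD1_c6 LD2_c25 LD3_c30)) :=
  Lgr Lrot58 (Lpr_gf (K40.f558471 IH) (Lpr_cf (K35.f242750 IH) (Lpr_bt (K35.f185773 IH) (Lpr_gf (K13.f242636 IH) (Lpr_bf (f495849 IH) (Lpq (K37.f546720 IH) (Lpr_ct (f538140 IH) (Lpr_gf (f567592 IH) (Lpe (f567577 IH) (Lpr_gf (f567563 IH) (Lpe (f567567 IH) (Lpn (LP (LK LD1_c6 LD2_c25 LD3_c30))))))))))))))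
theorem f301871 : Led Lsl_ff (LP (LK LD1_c3 LD2_c10 LD3_c26)) = (LP (LK LD1_c2 LD2_c30 LD3_c53)) :=
  Lgr Lrot25 (Lpr_bt (K36.f176654 IH) (Lpr_ft (K18.f301869 IH) (Lpr_bt (K32.f68555 IH) (Lpn (LP (LK LD1_c2 LD2_c30 LD3_c53))))))
theorem f558476 : Led Lsl_gt (LP (LK LD1_c4 LD2_c57 LD3_c14)) = (LP (LK LD1_c6 LD2_c25 LD3_c31)) :=
  Lgr Lrot46 (Lpr_gf (K40.f558471 IH) (Lpe (f301871 IH) (Lpr_at (K36.f176660 IH) (Lpn (LP (LK LD1_c6 LD2_c25 LD3_c31))))))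
theorem f172730 : Led Lsl_gt (LP (LK LD1_c2 LD2_c47 LD3_c27)) = (LP (LK LD1_c1 LD2_c20 LD3_c2)) :=
  Lre_g IH (LK LD1_c2 LD2_c47 LD3_c27) (LK LD1_c1 LD2_c20 LD3_c2) Lrfl Lrfl
theorem f567614 : Led Lsl_bt (LP (LK LD1_c5 LD2_c41 LD3_c17)) = (LP (LK LD1_c2 LD2_c47 LD3_c27)) :=
  Lgr Lrot22 (Lpe (K36.f205111 IH) (Lpe (f558476 IH) (Lpr_cf (f567602 IH) (Lpe (K40.f176666 IH) (Lpe (K18.f176642 IH) (Lpr_ct (K11.f25946 IH) (Lpr_gf (K11.f205154 IH) (Lpr_cf (K11.f172699 IH) (Lpr_bt (K40.f172695 IH) (Lpe (f172730 IH) (Lpn (LP (LK LD1_c2 LD2_c47 LD3_c27)))))))))))))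
theorem f68564 : Led Lsl_at (LP (LK LD1_c9 LD2_c5 LD3_c44)) = (LP (LK LD1_c4 LD2_c34 LD3_c10)) :=
  Lre_a IH (LK LD1_c9 LD2_c5 LD3_c44) (LK LD1_c4 LD2_c34 LD3_c10) Lrfl Lrfl
theorem f302010 : Led Lsl_ff (LP (LK LD1_c2 LD2_c50 LD3_c46)) = (LP (LK LD1_c4 LD2_c34 LD3_c10)) :=
  Lgr Lrot30 (Lpr_at (K36.f176672 IH) (Lpr_ft (K40.f302008 IH) (Lpr_at (f68564 IH) (Lpn (LP (LK LD1_c4 LD2_c34 LD3_c10))))))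
theorem f428073 : Led Lsl_gf (LP (LK LD1_c5 LD2_c49 LD3_c21)) = (LP (LK LD1_c6 LD2_c4 LD3_c15)) :=
  Lgr Lrot76 (Lpe (K36.f176672 IH) (Lpr_ff (f302010 IH) (Lpr_gt (K32.f428070 IH) (Lpn (LP (LK LD1_c6 LD2_c4 LD3_c15))))))
theorem f503164 : Led Lsl_cf (LP (LK LD1_c11 LD2_c51 LD3_c59)) = (LP (LK LD1_c12 LD2_c10 LD3_c31)) :=
  Lgr Lrot11 (Lpr_ct (K32.f503162 IH) (Lpn (LP (LK LD1_c12 LD2_c10 LD3_c31))))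
theorem f548757 : Led Lsl_dt (LP (LK LD1_c13 LD2_c9 LD3_c56)) = (LP (LK LD1_c12 LD2_c10 LD3_c31)) :=
  Lgr Lrot173 (Lpe (K36.f116605 IH) (Lpe (K36.f116581 IH) (Lpr_cf (K7.f116622 IH) (Lpe (K38.f547072 IH) (Lpr_cf (K38.f547077 IH) (Lpe (K8.f149232 IH) (Lpr_cf (K37.f543983 IH) (Lpe (K38.f72562 IH) (Lpe (K37.f209732 IH) (Lpr_df (K37.f209736 IH) (Lpr_cf (K38.f548751 IH) (Lpe (K38.f100243 IH) (Lpr_cf (K38.f425837 IH) (Lpe (K38.f75500 IH) (Lpr_cf (f503164 IH) (Lpn (LP (LK LD1_c12 LD2_c10 LD3_c31))))))))))))))))))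
theorem f162963 : Led Lsl_df (LP (LK LD1_c12 LD2_c1 LD3_c52)) = (LP (LK LD1_c6 LD2_c25 LD3_c8)) :=
  Lgr Lrot155 (Lpr_gt (K8.f162953 IH) (Lpr_ct (K6.f138974 IH) (Lpe (K6.f139052 IH) (Lpe (K6.f71914 IH) (Lpr_dt (K6.f71913 IH) (Lpe (K6.f71842 IH) (Lpr_gf (K4.f112473 IH) (Lpe (K8.f69206 IH) (Lpe (K24.f112483 IH) (Lpn (LP (LK LD1_c6 LD2_c25 LD3_c8))))))))))))
theorem f150244 : Led Lsl_bt (LP (LK LD1_c9 LD2_c49 LD3_c13)) = (LP (LK LD1_c17 LD2_c59 LD3_c38)) :=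
  Lre_b IH (LK LD1_c9 LD2_c49 LD3_c13) (LK LD1_c17 LD2_c59 LD3_c38) Lrfl Lrfl
theorem f150353 : Led Lsl_dt (LP (LK LD1_c17 LD2_c59 LD3_c38)) = (LP (LK LD1_c11 LD2_c40 LD3_c34)) :=
  Lgr Lrot79 (Lpe (f150244 IH) (Lpr_df (K8.f150281 IH) (Lpe (K8.f150283 IH) (Lpn (LP (LK LD1_c11 LD2_c40 LD3_c34))))))
theorem f540096 : Led Lsl_bt (LP (LK LD1_c5 LD2_c43 LD3_c1)) = (LP (LK LD1_c11 LD2_c16 LD3_c21)) :=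
  Lre_b IH (LK LD1_c5 LD2_c43 LD3_c1) (LK LD1_c11 LD2_c16 LD3_c21) Lrfl Lrfl
theorem f567623 : Led Lsl_gf (LP (LK LD1_c17 LD2_c59 LD3_c38)) = (LP (LK LD1_c11 LD2_c16 LD3_c21)) :=
  Lgr Lrot85 (Lpr_dt (f150353 IH) (Lpe (K8.f150284 IH) (Lpr_bt (K8.f150287 IH) (Lpr_gt (K24.f205749 IH) (Lpe (f162963 IH) (Lpe (K8.f161799 IH) (Lpr_bt (K8.f162965 IH) (Lpe (K37.f424981 IH) (Lpr_dt (f548757 IH) (Lpe (f503164 IH) (Lpr_bt (K32.f75474 IH) (Lpe (f428073 IH) (Lpe (K40.f176668 IH) (Lpr_ct (K40.f205115 IH) (Lpr_bt (f567614 IH) (Lpr_gt (f172730 IH) (Lpr_dt (K37.f424379 IH) (Lpr_ct (K37.f176857 IH) (Lpr_bt (f540096 IH) (Lpn (LP (LK LD1_c11 LD2_c16 LD3_c21))))))))))))))))))))))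
theorem f104722 : Led Lsl_bt (LP (LK LD1_c6 LD2_c31 LD3_c6)) = (LP (LK LD1_c12 LD2_c30 LD3_c50)) :=
  Lre_b IH (LK LD1_c6 LD2_c31 LD3_c6) (LK LD1_c12 LD2_c30 LD3_c50) Lrfl Lrfl
theorem f162912 : Led Lsl_bt (LP (LK LD1_c6 LD2_c36 LD3_c38)) = (LP (LK LD1_c12 LD2_c39 LD3_c7)) :=
  Lre_b IH (LK LD1_c6 LD2_c36 LD3_c38) (LK LD1_c12 LD2_c39 LD3_c7) Lrfl Lrfl
theorem f162913 : Led Lsl_ct (LP (LK LD1_c12 LD2_c30 LD3_c50)) = (LP (LK LD1_c6 LD2_c36 LD3_c38)) :=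
  Lgr Lrot83 (Lpe (f104722 IH) (Lpr_cf (K40.f104720 IH) (Lpe (K8.f95239 IH) (Lpr_cf (K8.f162908 IH) (Lpe (f162912 IH) (Lpn (LP (LK LD1_c6 LD2_c36 LD3_c38))))))))
theorem f93370 : Led Lsl_ct (LP (LK LD1_c7 LD2_c31 LD3_c3)) = (LP (LK LD1_c14 LD2_c11 LD3_c26)) :=
  Lre_c IH (LK LD1_c7 LD2_c31 LD3_c3) (LK LD1_c14 LD2_c11 LD3_c26) Lrfl Lrfl
theorem f419921 : Led Lsl_af (LP (LK LD1_c12 LD2_c30 LD3_c50)) = (LP (LK LD1_c14 LD2_c11 LD3_c26)) :=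
  Lgr Lrot68 (Lpr_ct (f162913 IH) (Lpr_at (K32.f419917 IH) (Lpr_ct (f93370 IH) (Lpn (LP (LK LD1_c14 LD2_c11 LD3_c26))))))
theorem f419943 : Led Lsl_at (LP (LK LD1_c12 LD2_c30 LD3_c50)) = (LP (LK LD1_c14 LD2_c11 LD3_c26)) :=
  Lgr Lrot100 (Lpr_af (f419921 IH) (Lpn (LP (LK LD1_c14 LD2_c11 LD3_c26))))
theorem f93386 : Led Lsl_ct (LP (LK LD1_c14 LD2_c11 LD3_c26)) = (LP (LK LD1_c7 LD2_c31 LD3_c3)) :=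
  Lre_c IH (LK LD1_c14 LD2_c11 LD3_c26) (LK LD1_c7 LD2_c31 LD3_c3) Lrfl Lrfl
theorem f419945 : Led Lsl_cf (LP (LK LD1_c12 LD2_c30 LD3_c50)) = (LP (LK LD1_c6 LD2_c36 LD3_c38)) :=
  Lgr Lrot1 (Lpr_at (f419943 IH) (Lpr_ct (f93386 IH) (Lpe (K36.f419919 IH) (Lpn (LP (LK LD1_c6 LD2_c36 LD3_c38))))))
theorem f135962 : Led Lsl_gt (LP (LK LD1_c4 LD2_c37 LD3_c61)) = (LP (LK LD1_c9 LD2_c11 LD3_c39)) :=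
  Lre_g IH (LK LD1_c4 LD2_c37 LD3_c61) (LK LD1_c9 LD2_c11 LD3_c39) Lrfl Lrfl
theorem f135963 : Led Lsl_ct (LP (LK LD1_c9 LD2_c11 LD3_c39)) = (LP (LK LD1_c17 LD2_c5 LD3_c19)) :=
  Lre_c IH (LK LD1_c9 LD2_c11 LD3_c39) (LK LD1_c17 LD2_c5 LD3_c19) Lrfl Lrfl
theorem f419947 : Led Lsl_gf (LP (LK LD1_c12 LD2_c30 LD3_c50)) = (LP (LK LD1_c17 LD2_c5 LD3_c19)) :=
  Lgr Lrot129 (Lpr_cf (f419945 IH) (Lpr_bt (f162912 IH) (Lpe (K8.f162923 IH) (Lpe (K7.f56803 IH) (Lpr_ct (K7.f56806 IH) (Lpe (K6.f135944 IH) (Lpe (K6.f80098 IH) (Lpr_bt (K7.f135961 IH) (Lpr_gt (f135962 IH) (Lpr_ct (f135963 IH) (Lpn (LP (LK LD1_c17 LD2_c5 LD3_c19)))))))))))))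
theorem f79137 : Led Lsl_ct (LP (LK LD1_c6 LD2_c36 LD3_c37)) = (LP (LK LD1_c12 LD2_c39 LD3_c5)) :=
  Lre_c IH (LK LD1_c6 LD2_c36 LD3_c37) (LK LD1_c12 LD2_c39 LD3_c5) Lrfl Lrfl
theorem f419928 : Led Lsl_ft (LP (LK LD1_c12 LD2_c39 LD3_c5)) = (LP (LK LD1_c14 LD2_c11 LD3_c26)) :=
  Lgr Lrot4 (Lpe (f79137 IH) (Lpr_ff (K32.f419926 IH) (Lpe (f93386 IH) (Lpn (LP (LK LD1_c14 LD2_c11 LD3_c26))))))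
theorem f419949 : Led Lsl_gt (LP (LK LD1_c12 LD2_c39 LD3_c5)) = (LP (LK LD1_c17 LD2_c5 LD3_c19)) :=
  Lgr Lrot5 (Lpr_ft (f419928 IH) (Lpe (f419921 IH) (Lpr_gf (f419947 IH) (Lpn (LP (LK LD1_c17 LD2_c5 LD3_c19))))))
theorem f113068 : Led Lsl_gt (LP (LK LD1_c6 LD2_c28 LD3_c23)) = (LP (LK LD1_c3 LD2_c12 LD3_c9)) :=
  Lre_g IH (LK LD1_c6 LD2_c28 LD3_c23) (LK LD1_c3 LD2_c12 LD3_c9) Lrfl Lrfl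
theorem f419951 : Led Lsl_bf (LP (LK LD1_c6 LD2_c28 LD3_c23)) = (LP (LK LD1_c9 LD2_c11 LD3_c39)) :=
  Lgr Lrot156 (Lpr_gt (f113068 IH) (Lpr_bf (K30.f128866 IH) (Lpr_ct (K3.f69278 IH) (Lpr_gt (K3.f94119 IH) (Lpr_cf (K2.f79120 IH) (Lpr_bt (K7.f79117 IH) (Lpr_gt (K7.f79123 IH) (Lpr_ct (f79137 IH) (Lpr_gt (f419949 IH) (Lpe (f135963 IH) (Lpn (LP (LK LD1_c9 LD2_c11 LD3_c39)))))))))))))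
theorem f419957 : Led Lsl_gf (LP (LK LD1_c6 LD2_c28 LD3_c23)) = (LP (LK LD1_c3 LD2_c12 LD3_c18)) :=
  Lgr Lrot124 (Lpr_bf (f419951 IH) (Lpr_ct (f135963 IH) (Lpe (f419947 IH) (Lpr_cf (f419945 IH) (Lpr_bt (f162912 IH) (Lpe (K8.f162923 IH) (Lpr_ct (K6.f146715 IH) (Lpe (K7.f146678 IH) (Lpe (K32.f151456 IH) (Lpr_bt (K8.f128832 IH) (Lpn (LP (LK LD1_c3 LD2_c12 LD3_c18)))))))))))))
theorem f160772 : Led Lsl_gf (LP (LK LD1_c1 LD2_c33 LD3_c30)) = (LP (LK LD1_c3 LD2_c1 LD3_c51)) :=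
  Lgr Lrot147 (Lpr_ct (K8.f160759 IH) (Lpr_gt (K8.f23448 IH) (Lpr_ct (K4.f23447 IH) (Lpe (K4.f23437 IH) (Lpr_cf (K2.f23426 IH) (Lpe (K0.f23449 IH) (Lpe (K0.f23450 IH) (Lpe (K5.f124590 IH) (Lpr_df (K32.f129624 IH) (Lpn (LP (LK LD1_c3 LD2_c1 LD3_c51))))))))))))
theorem f157760 : Led Lsl_dt (LP (LK LD1_c1 LD2_c33 LD3_c7)) = (LP (LK LD1_c3 LD2_c13 LD3_c22)) :=
  Lre_d IH (LK LD1_c1 LD2_c33 LD3_c7) (LK LD1_c3 LD2_c13 LD3_c22) Lrfl Lrfl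
theorem f157761 : Led Lsl_bt (LP (LK LD1_c3 LD2_c13 LD3_c22)) = (LP (LK LD1_c3 LD2_c20 LD3_c16)) :=
  Lgr Lrot95 (Lpe (f157760 IH) (Lpe (K8.f68461 IH) (Lpr_df (K8.f157758 IH) (Lpn (LP (LK LD1_c3 LD2_c20 LD3_c16))))))
theorem f160793 : Led Lsl_cf (LP (LK LD1_c3 LD2_c7 LD3_c46)) = (LP (LK LD1_c3 LD2_c13 LD3_c22)) :=
  Lgr Lrot58 (Lpr_gf (K8.f160787 IH) (Lpe (K8.f61154 IH) (Lpe (K11.f61152 IH) (Lpr_gf (K7.f149971 IH) (Lpr_bf (K7.f149973 IH) (Lpr_ct (K7.f40425 IH) (Lpe (K7.f36254 IH) (Lpe (K1.f36239 IH) (Lpe (K4.f56750 IH) (Lpe (f157761 IH) (Lpn (LP (LK LD1_c3 LD2_c13 LD3_c22)))))))))))))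
theorem f129131 : Led Lsl_gt (LP (LK LD1_c6 LD2_c30 LD3_c34)) = (LP (LK LD1_c3 LD2_c13 LD3_c22)) :=
  Lre_g IH (LK LD1_c6 LD2_c30 LD3_c34) (LK LD1_c3 LD2_c13 LD3_c22) Lrfl Lrfl
theorem f419961 : Led Lsl_ct (LP (LK LD1_c6 LD2_c28 LD3_c23)) = (LP (LK LD1_c6 LD2_c30 LD3_c34)) :=
  Lgr Lrot152 (Lpr_gf (f419957 IH) (Lpe (K8.f82335 IH) (Lpe (K5.f128895 IH) (Lpr_ct (K5.f128902 IH) (Lpe (f160772 IH) (Lpr_ct (K8.f160759 IH) (Lpr_df (K8.f110455 IH) (Lpr_cf (f160793 IH) (Lpe (f129131 IH) (Lpn (LP (LK LD1_c6 LD2_c30 LD3_c34))))))))))))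
theorem f419965 : Led Lsl_df (LP (LK LD1_c6 LD2_c30 LD3_c34)) = (LP (LK LD1_c4 LD2_c41 LD3_c44)) :=
  Lgr Lrot162 (Lpe (f419961 IH) (Lpr_gf (f419957 IH) (Lpr_cf (K8.f155514 IH) (Lpe (K8.f69151 IH) (Lpr_dt (K7.f69129 IH) (Lpr_gt (K2.f69185 IH) (Lpr_ct (K5.f79109 IH) (Lpr_gt (K4.f120783 IH) (Lpe (K4.f120787 IH) (Lpn (LP (LK LD1_c4 LD2_c41 LD3_c44))))))))))))
theorem f152457 : Led Lsl_ct (LP (LK LD1_c1 LD2_c31 LD3_c50)) = (LP (LK LD1_c3 LD2_c7 LD3_c18)) :=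
  Lgr Lrot59 (Lpr_cf (K7.f152451 IH) (Lpn (LP (LK LD1_c3 LD2_c7 LD3_c18))))
theorem f152495 : Led Lsl_df (LP (LK LD1_c3 LD2_c17 LD3_c0)) = (LP (LK LD1_c6 LD2_c28 LD3_c23)) :=
  Lgr Lrot155 (Lpe (K4.f120182 IH) (Lpr_ct (K4.f120119 IH) (Lpr_gt (K7.f152484 IH) (Lpr_ct (K7.f104715 IH) (Lpr_dt (K7.f104716 IH) (Lpe (f152457 IH) (Lpe (K7.f69152 IH) (Lpe (K7.f128886 IH) (Lpe (f113068 IH) (Lpn (LP (LK LD1_c6 LD2_c28 LD3_c23))))))))))))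
theorem f419971 : Led Lsl_ct (LP (LK LD1_c6 LD2_c30 LD3_c34)) = (LP (LK LD1_c6 LD2_c28 LD3_c23)) :=
  Lgr Lrot176 (Lpr_df (f419965 IH) (Lpr_cf (K4.f120787 IH) (Lpe (K3.f82401 IH) (Lpr_cf (K3.f110005 IH) (Lpr_df (K4.f118723 IH) (Lpe (K4.f11290 IH) (Lpe (K8.f131623 IH) (Lpr_cf (K8.f131612 IH) (Lpe (K5.f60990 IH) (Lpe (K2.f60965 IH) (Lpr_df (K2.f77983 IH) (Lpr_cf (K2.f77845 IH) (Lpr_df (K3.f77870 IH) (Lpe (K6.f77865 IH) (Lpr_df (f152495 IH) (Lpn (LP (LK LD1_c6 LD2_c28 LD3_c23))))))))))))))))))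
theorem f152493 : Led Lsl_dt (LP (LK LD1_c3 LD2_c17 LD3_c0)) = (LP (LK LD1_c6 LD2_c28 LD3_c23)) :=
  Lgr Lrot6 (Lpe (K4.f120182 IH) (Lpr_ct (K4.f120119 IH) (Lpr_gt (K7.f152484 IH) (Lpr_ct (K7.f104715 IH) (Lpe (K8.f104687 IH) (Lpe (f152457 IH) (Lpe (K7.f69152 IH) (Lpe (K7.f128886 IH) (Lpe (f113068 IH) (Lpn (LP (LK LD1_c6 LD2_c28 LD3_c23))))))))))))
theorem f419974 : Led Lsl_gf (LP (LK LD1_c6 LD2_c30 LD3_c34)) = (LP (LK LD1_c3 LD2_c13 LD3_c27)) :=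
  Lgr Lrot104 (Lpr_ct (f419971 IH) (Lpe (f152493 IH) (Lpe (K4.f77868 IH) (Lpr_gf (K3.f94933 IH) (Lpr_cf (K3.f91414 IH) (Lpe (K3.f61831 IH) (Lpe (K8.f91437 IH) (Lpr_gt (K5.f91438 IH) (Lpe (K5.f129023 IH) (Lpn (LP (LK LD1_c3 LD2_c13 LD3_c27))))))))))))
theorem f419953 : Led Lsl_bt (LP (LK LD1_c6 LD2_c28 LD3_c23)) = (LP (LK LD1_c9 LD2_c11 LD3_c39)) :=
  Lgr Lrot127 (Lpr_bf (f419951 IH) (Lpn (LP (LK LD1_c9 LD2_c11 LD3_c39))))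
theorem f498087 : Led Lsl_gt (LP (LK LD1_c9 LD2_c11 LD3_c39)) = (LP (LK LD1_c6 LD2_c38 LD3_c52)) :=
  Lgr Lrot164 (Lpe (f419953 IH) (Lpr_ct (f419961 IH) (Lpr_gf (f419974 IH) (Lpr_cf (K5.f129023 IH) (Lpe (K5.f91438 IH) (Lpr_bf (K8.f160803 IH) (Lpr_ct (K4.f64542 IH) (Lpe (K4.f64561 IH) (Lpe (K8.f117719 IH) (Lpr_bt (K32.f498080 IH) (Lpn (LP (LK LD1_c6 LD2_c38 LD3_c52)))))))))))))
theorem f14101 : Led Lsl_bt (LP (LK LD1_c4 LD2_c46 LD3_c44)) = (LP (LK LD1_c9 LD2_c26 LD3_c7)) :=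
  Lre_b IH (LK LD1_c4 LD2_c46 LD3_c44) (LK LD1_c9 LD2_c26 LD3_c7) Lrfl Lrfl
theorem f14102 : Led Lsl_at (LP (LK LD1_c2 LD2_c27 LD3_c41)) = (LP (LK LD1_c4 LD2_c46 LD3_c44)) :=
  Lre_a IH (LK LD1_c2 LD2_c27 LD3_c41) (LK LD1_c4 LD2_c46 LD3_c44) Lrfl Lrfl
theorem f77289 : Led Lsl_bt (LP (LK LD1_c3 LD2_c8 LD3_c15)) = (LP (LK LD1_c2 LD2_c27 LD3_c41)) :=
  Lgr Lrot62 (Lpe (K2.f77162 IH) (Lpr_bf (K3.f77287 IH) (Lpe (K7.f14088 IH) (Lpe (f14101 IH) (Lpe (f14102 IH) (Lpn (LP (LK LD1_c2 LD2_c27 LD3_c41))))))))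
theorem f142046 : Led Lsl_df (LP (LK LD1_c6 LD2_c37 LD3_c23)) = (LP (LK LD1_c9 LD2_c11 LD3_c39)) :=
  Lgr Lrot183 (Lpr_ct (K4.f79340 IH) (Lpr_bt (K4.f78137 IH) (Lpe (K2.f79021 IH) (Lpr_dt (K2.f78718 IH) (Lpr_ct (K2.f77212 IH) (Lpr_bt (f77289 IH) (Lpr_gt (K2.f14023 IH) (Lpe (K2.f72542 IH) (Lpr_ct (K2.f72468 IH) (Lpr_bt (K8.f72476 IH) (Lpr_gt (K8.f137302 IH) (Lpr_dt (K5.f117231 IH) (Lpr_ct (K5.f117230 IH) (Lpr_bt (K5.f132329 IH) (Lpr_gt (K8.f132406 IH) (Lpr_dt (K8.f142036 IH) (Lpr_ct (K6.f58896 IH) (Lpr_bt (K7.f135961 IH) (Lpr_gt (f135962 IH) (Lpn (LP (LK LD1_c9 LD2_c11 LD3_c39))))))))))))))))))))))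
theorem f142051 : Led Lsl_dt (LP (LK LD1_c6 LD2_c37 LD3_c23)) = (LP (LK LD1_c9 LD2_c11 LD3_c39)) :=
  Lgr Lrot42 (Lpr_df (f142046 IH) (Lpn (LP (LK LD1_c9 LD2_c11 LD3_c39))))
theorem f567625 : Led Lsl_dt (LP (LK LD1_c14 LD2_c11 LD3_c31)) = (LP (LK LD1_c11 LD2_c16 LD3_c21)) :=
  Lgr Lrot57 (Lpe (K6.f96246 IH) (Lpe (K6.f15579 IH) (Lpr_gt (K6.f141549 IH) (Lpr_dt (f142051 IH) (Lpr_gt (f498087 IH) (Lpe (K32.f498076 IH) (Lpr_cf (K8.f150284 IH) (Lpe (f150353 IH) (Lpr_gf (f567623 IH) (Lpn (LP (LK LD1_c11 LD2_c16 LD3_c21))))))))))))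
theorem f567628 : Led Lsl_at (LP (LK LD1_c11 LD2_c16 LD3_c21)) = (LP (LK LD1_c20 LD2_c12 LD3_c21)) :=
  Lre_a IH (LK LD1_c11 LD2_c16 LD3_c21) (LK LD1_c20 LD2_c12 LD3_c21) Lrfl Lrfl
theorem f567629 : Led Lsl_df (LP (LK LD1_c20 LD2_c40 LD3_c25)) = (LP (LK LD1_c20 LD2_c12 LD3_c21)) :=
  Lgr Lrot18 (Lpr_at (K6.f130483 IH) (Lpr_dt (f567625 IH) (Lpr_at (f567628 IH) (Lpn (LP (LK LD1_c20 LD2_c12 LD3_c21))))))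
theorem f567633 : Led Lsl_dt (LP (LK LD1_c20 LD2_c40 LD3_c25)) = (LP (LK LD1_c20 LD2_c12 LD3_c21)) :=
  Lgr Lrot42 (Lpr_df (f567629 IH) (Lpn (LP (LK LD1_c20 LD2_c12 LD3_c21))))
theorem f151324 : Led Lsl_gf (LP (LK LD1_c12 LD2_c37 LD3_c28)) = (LP (LK LD1_c17 LD2_c0 LD3_c36)) :=
  Lgr Lrot47 (Lpr_gt (K11.f151322 IH) (Lpr_af (K7.f99463 IH) (Lpe (K7.f101778 IH) (Lpn (LP (LK LD1_c17 LD2_c0 LD3_c36))))))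
theorem f151071 : Led Lsl_dt (LP (LK LD1_c12 LD2_c37 LD3_c28)) = (LP (LK LD1_c6 LD2_c35 LD3_c43)) :=
  Lre_d IH (LK LD1_c12 LD2_c37 LD3_c28) (LK LD1_c6 LD2_c35 LD3_c43) Lrfl Lrfl
theorem f151271 : Led Lsl_gt (LP (LK LD1_c12 LD2_c1 LD3_c12)) = (LP (LK LD1_c11 LD2_c35 LD3_c8)) :=
  Lgr Lrot46 (Lpr_gf (K11.f151252 IH) (Lpe (K7.f149532 IH) (Lpr_at (K7.f101798 IH) (Lpn (LP (LK LD1_c11 LD2_c35 LD3_c8))))))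
theorem f151326 : Led Lsl_gf (LP (LK LD1_c6 LD2_c35 LD3_c44)) = (LP (LK LD1_c6 LD2_c10 LD3_c11)) :=
  Lgr Lrot143 (Lpr_dt (K32.f14094 IH) (Lpe (K7.f14116 IH) (Lpe (f151071 IH) (Lpr_gf (f151324 IH) (Lpr_df (K7.f101800 IH) (Lpe (f151271 IH) (Lpe (K11.f100170 IH) (Lpr_gt (K4.f18287 IH) (Lpr_dt (K2.f18286 IH) (Lpn (LP (LK LD1_c6 LD2_c10 LD3_c11))))))))))))
theorem f74011 : Led Lsl_at (LP (LK LD1_c3 LD2_c30 LD3_c12)) = (LP (LK LD1_c7 LD2_c2 LD3_c8)) :=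
  Lre_a IH (LK LD1_c3 LD2_c30 LD3_c12) (LK LD1_c7 LD2_c2 LD3_c8) Lrfl Lrfl
theorem f151329 : Led Lsl_gt (LP (LK LD1_c6 LD2_c35 LD3_c44)) = (LP (LK LD1_c7 LD2_c2 LD3_c8)) :=
  Lgr Lrot46 (Lpr_gf (f151326 IH) (Lpr_ft (K2.f18270 IH) (Lpr_at (f74011 IH) (Lpn (LP (LK LD1_c7 LD2_c2 LD3_c8))))))
theorem f79220 : Led Lsl_dt (LP (LK LD1_c4 LD2_c45 LD3_c16)) = (LP (LK LD1_c9 LD2_c23 LD3_c13)) :=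
  Lre_d IH (LK LD1_c4 LD2_c45 LD3_c16) (LK LD1_c9 LD2_c23 LD3_c13) Lrfl Lrfl
theorem f151333 : Led Lsl_gt (LP (LK LD1_c9 LD2_c23 LD3_c13)) = (LP (LK LD1_c11 LD2_c40 LD3_c49)) :=
  Lgr Lrot49 (Lpe (f79220 IH) (Lpe (K3.f91385 IH) (Lpe (K0.f14040 IH) (Lpr_gt (K7.f96627 IH) (Lpr_dt (K32.f150825 IH) (Lpr_gt (f151329 IH) (Lpe (K7.f100164 IH) (Lpr_cf (K6.f100158 IH) (Lpe (K8.f75200 IH) (Lpn (LP (LK LD1_c11 LD2_c40 LD3_c49))))))))))))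
theorem f151337 : Led Lsl_gf (LP (LK LD1_c9 LD2_c23 LD3_c13)) = (LP (LK LD1_c9 LD2_c16 LD3_c0)) :=
  Lgr Lrot47 (Lpr_gt (f151333 IH) (Lpr_af (K2.f75211 IH) (Lpe (K2.f74017 IH) (Lpn (LP (LK LD1_c9 LD2_c16 LD3_c0))))))
theorem f77301 : Led Lsl_dt (LP (LK LD1_c9 LD2_c23 LD3_c13)) = (LP (LK LD1_c4 LD2_c45 LD3_c16)) :=
  Lre_d IH (LK LD1_c9 LD2_c23 LD3_c13) (LK LD1_c4 LD2_c45 LD3_c16) Lrfl Lrfl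
theorem f151342 : Led Lsl_df (LP (LK LD1_c12 LD2_c16 LD3_c9)) = (LP (LK LD1_c21 LD2_c3 LD3_c25)) :=
  Lgr Lrot153 (Lpr_gt (K34.f77300 IH) (Lpr_dt (K4.f77292 IH) (Lpe (K3.f14083 IH) (Lpe (K3.f14082 IH) (Lpe (K3.f17122 IH) (Lpe (f77301 IH) (Lpr_gf (f151337 IH) (Lpr_cf (K2.f74004 IH) (Lpr_gt (K11.f72916 IH) (Lpn (LP (LK LD1_c21 LD2_c3 LD3_c25))))))))))))
theorem f14351 : Led Lsl_ct (LP (LK LD1_c9 LD2_c23 LD3_c17)) = (LP (LK LD1_c17 LD2_c19 LD3_c47)) :=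
  Lre_c IH (LK LD1_c9 LD2_c23 LD3_c17) (LK LD1_c17 LD2_c19 LD3_c47) Lrfl Lrfl
theorem f151348 : Led Lsl_dt (LP (LK LD1_c22 LD2_c11 LD3_c3)) = (LP (LK LD1_c17 LD2_c19 LD3_c47)) :=
  Lgr Lrot27 (Lpe (K6.f14090 IH) (Lpe (K6.f72604 IH) (Lpe (K7.f77306 IH) (Lpe (K34.f77300 IH) (Lpr_df (f151342 IH) (Lpr_gt (K11.f79652 IH) (Lpe (K2.f76410 IH) (Lpe (K7.f151310 IH) (Lpr_ct (f14351 IH) (Lpn (LP (LK LD1_c17 LD2_c19 LD3_c47))))))))))))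
theorem f151350 : Led Lsl_df (LP (LK LD1_c22 LD2_c11 LD3_c3)) = (LP (LK LD1_c17 LD2_c19 LD3_c47)) :=
  Lgr Lrot38 (Lpr_dt (f151348 IH) (Lpn (LP (LK LD1_c17 LD2_c19 LD3_c47))))
theorem f567635 : Led Lsl_bf (LP (LK LD1_c17 LD2_c19 LD3_c47)) = (LP (LK LD1_c20 LD2_c12 LD3_c21)) :=
  Lgr Lrot93 (Lpe (f151350 IH) (Lpe (K6.f72596 IH) (Lpr_dt (f567633 IH) (Lpn (LP (LK LD1_c20 LD2_c12 LD3_c21))))))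
theorem f14350 : Led Lsl_ct (LP (LK LD1_c17 LD2_c19 LD3_c47)) = (LP (LK LD1_c9 LD2_c23 LD3_c17)) :=
  Lre_c IH (LK LD1_c17 LD2_c19 LD3_c47) (LK LD1_c9 LD2_c23 LD3_c17) Lrfl Lrfl
theorem f151352 : Led Lsl_bt (LP (LK LD1_c9 LD2_c23 LD3_c17)) = (LP (LK LD1_c17 LD2_c19 LD3_c45)) :=
  Lre_b IH (LK LD1_c9 LD2_c23 LD3_c17) (LK LD1_c17 LD2_c19 LD3_c45) Lrfl Lrfl
theorem f412071 : Led Lsl_ct (LP (LK LD1_c11 LD2_c16 LD3_c30)) = (LP (LK LD1_c20 LD2_c12 LD3_c21)) :=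
  Lre_c IH (LK LD1_c11 LD2_c16 LD3_c30) (LK LD1_c20 LD2_c12 LD3_c21) Lrfl Lrfl
theorem f268743 : Led Lsl_ct (LP (LK LD1_c2 LD2_c47 LD3_c31)) = (LP (LK LD1_c5 LD2_c43 LD3_c5)) :=
  Lre_c IH (LK LD1_c2 LD2_c47 LD3_c31) (LK LD1_c5 LD2_c43 LD3_c5) Lrfl Lrfl
theorem f268744 : Led Lsl_ct (LP (LK LD1_c9 LD2_c2 LD3_c55)) = (LP (LK LD1_c4 LD2_c32 LD3_c45)) :=
  Lre_c IH (LK LD1_c9 LD2_c2 LD3_c55) (LK LD1_c4 LD2_c32 LD3_c45) Lrfl Lrfl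
theorem f268745 : Led Lsl_at (LP (LK LD1_c5 LD2_c43 LD3_c5)) = (LP (LK LD1_c9 LD2_c2 LD3_c55)) :=
  Lgr Lrot107 (Lpe (f268743 IH) (Lpr_af (K16.f268736 IH) (Lpe (f268744 IH) (Lpn (LP (LK LD1_c9 LD2_c2 LD3_c55))))))
theorem f412051 : Led Lsl_bt (LP (LK LD1_c11 LD2_c16 LD3_c28)) = (LP (LK LD1_c5 LD2_c43 LD3_c5)) :=
  Lre_b IH (LK LD1_c11 LD2_c16 LD3_c28) (LK LD1_c5 LD2_c43 LD3_c5) Lrfl Lrfl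
theorem f412052 : Led Lsl_at (LP (LK LD1_c20 LD2_c12 LD3_c28)) = (LP (LK LD1_c11 LD2_c16 LD3_c28)) :=
  Lre_a IH (LK LD1_c20 LD2_c12 LD3_c28) (LK LD1_c11 LD2_c16 LD3_c28) Lrfl Lrfl
theorem f412053 : Led Lsl_bt (LP (LK LD1_c9 LD2_c2 LD3_c55)) = (LP (LK LD1_c16 LD2_c53 LD3_c34)) :=
  Lre_b IH (LK LD1_c9 LD2_c2 LD3_c55) (LK LD1_c16 LD2_c53 LD3_c34) Lrfl Lrfl
theorem f412054 : Led Lsl_at (LP (LK LD1_c16 LD2_c53 LD3_c34)) = (LP (LK LD1_c26 LD2_c49 LD3_c61)) :=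
  Lre_a IH (LK LD1_c16 LD2_c53 LD3_c34) (LK LD1_c26 LD2_c49 LD3_c61) Lrfl Lrfl
theorem f412055 : Led Lsl_bf (LP (LK LD1_c20 LD2_c12 LD3_c28)) = (LP (LK LD1_c26 LD2_c49 LD3_c61)) :=
  Lgr Lrot81 (Lpr_at (f412052 IH) (Lpr_bt (f412051 IH) (Lpr_at (f268745 IH) (Lpr_bt (f412053 IH) (Lpr_at (f412054 IH) (Lpn (LP (LK LD1_c26 LD2_c49 LD3_c61))))))))
theorem f412061 : Led Lsl_et (LP (LK LD1_c20 LD2_c12 LD3_c28)) = (LP (LK LD1_c11 LD2_c16 LD3_c30)) :=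
  Lre_e IH (LK LD1_c20 LD2_c12 LD3_c28) (LK LD1_c11 LD2_c16 LD3_c30) Lrfl Lrfl
theorem f412062 : Led Lsl_et (LP (LK LD1_c16 LD2_c53 LD3_c35)) = (LP (LK LD1_c26 LD2_c49 LD3_c61)) :=
  Lre_e IH (LK LD1_c16 LD2_c53 LD3_c35) (LK LD1_c26 LD2_c49 LD3_c61) Lrfl Lrfl
theorem f412063 : Led Lsl_bt (LP (LK LD1_c11 LD2_c16 LD3_c30)) = (LP (LK LD1_c16 LD2_c53 LD3_c35)) :=
  Lgr Lrot119 (Lpe (f412061 IH) (Lpr_bf (f412055 IH) (Lpe (f412062 IH) (Lpn (LP (LK LD1_c16 LD2_c53 LD3_c35))))))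
theorem f412068 : Led Lsl_bf (LP (LK LD1_c11 LD2_c16 LD3_c30)) = (LP (LK LD1_c16 LD2_c53 LD3_c35)) :=
  Lgr Lrot24 (Lpr_bt (f412063 IH) (Lpn (LP (LK LD1_c16 LD2_c53 LD3_c35))))
theorem f567641 : Led Lsl_ct (LP (LK LD1_c17 LD2_c19 LD3_c45)) = (LP (LK LD1_c16 LD2_c53 LD3_c35)) :=
  Lgr Lrot83 (Lpe (f151352 IH) (Lpe (f14350 IH) (Lpr_bf (f567635 IH) (Lpe (f412071 IH) (Lpr_bf (f412068 IH) (Lpn (LP (LK LD1_c16 LD2_c53 LD3_c35))))))))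
theorem f567645 : Led Lsl_cf (LP (LK LD1_c17 LD2_c19 LD3_c45)) = (LP (LK LD1_c16 LD2_c53 LD3_c35)) :=
  Lgr Lrot11 (Lpr_ct (f567641 IH) (Lpn (LP (LK LD1_c16 LD2_c53 LD3_c35))))
theorem f151314 : Led Lsl_bt (LP (LK LD1_c17 LD2_c19 LD3_c45)) = (LP (LK LD1_c9 LD2_c23 LD3_c17)) :=
  Lre_b IH (LK LD1_c17 LD2_c19 LD3_c45) (LK LD1_c9 LD2_c23 LD3_c17) Lrfl Lrfl
theorem f62954 : Led Lsl_bt (LP (LK LD1_c3 LD2_c1 LD3_c42)) = (LP (LK LD1_c1 LD2_c26 LD3_c56)) :=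
  Lre_b IH (LK LD1_c3 LD2_c1 LD3_c42) (LK LD1_c1 LD2_c26 LD3_c56) Lrfl Lrfl
theorem f567649 : Led Lsl_dt (LP (LK LD1_c12 LD2_c31 LD3_c17)) = (LP (LK LD1_c16 LD2_c53 LD3_c35)) :=
  Lgr Lrot182 (Lpe (K36.f425598 IH) (Lpr_bf (K36.f425596 IH) (Lpe (K11.f156481 IH) (Lpr_df (K8.f157302 IH) (Lpr_gf (K6.f64439 IH) (Lpe (K6.f64412 IH) (Lpe (K4.f64307 IH) (Lpe (K1.f57251 IH) (Lpe (K2.f57260 IH) (Lpe (K3.f104234 IH) (Lpr_cf (K2.f65687 IH) (Lpe (K1.f65666 IH) (Lpr_gf (K1.f65640 IH) (Lpe (f62954 IH) (Lpe (K2.f18288 IH) (Lpe (K2.f19123 IH) (Lpe (K7.f151278 IH) (Lpe (f151314 IH) (Lpr_cf (f567645 IH) (Lpn (LP (LK LD1_c16 LD2_c53 LD3_c35))))))))))))))))))))))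
theorem f567653 : Led Lsl_df (LP (LK LD1_c12 LD2_c31 LD3_c17)) = (LP (LK LD1_c16 LD2_c53 LD3_c35)) :=
  Lgr Lrot38 (Lpr_dt (f567649 IH) (Lpn (LP (LK LD1_c16 LD2_c53 LD3_c35))))
theorem f428652 : Led Lsl_at (LP (LK LD1_c12 LD2_c31 LD3_c17)) = (LP (LK LD1_c9 LD2_c10 LD3_c22)) :=
  Lgr Lrot100 (Lpr_af (K36.f428650 IH) (Lpn (LP (LK LD1_c9 LD2_c10 LD3_c22))))
theorem f412073 : Led Lsl_at (LP (LK LD1_c9 LD2_c2 LD3_c57)) = (LP (LK LD1_c16 LD2_c53 LD3_c35)) :=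
  Lre_a IH (LK LD1_c9 LD2_c2 LD3_c57) (LK LD1_c16 LD2_c53 LD3_c35) Lrfl Lrfl
theorem f567655 : Led Lsl_dt (LP (LK LD1_c9 LD2_c10 LD3_c22)) = (LP (LK LD1_c9 LD2_c2 LD3_c57)) :=
  Lgr Lrot44 (Lpe (f428652 IH) (Lpr_df (f567653 IH) (Lpe (f412073 IH) (Lpn (LP (LK LD1_c9 LD2_c2 LD3_c57))))))
theorem f412066 : Led Lsl_bt (LP (LK LD1_c9 LD2_c2 LD3_c57)) = (LP (LK LD1_c4 LD2_c32 LD3_c47)) :=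
  Lre_b IH (LK LD1_c9 LD2_c2 LD3_c57) (LK LD1_c4 LD2_c32 LD3_c47) Lrfl Lrfl
theorem f567657 : Led Lsl_df (LP (LK LD1_c4 LD2_c37 LD3_c23)) = (LP (LK LD1_c4 LD2_c32 LD3_c47)) :=
  Lgr Lrot12 (Lpr_bt (K36.f428654 IH) (Lpr_dt (f567655 IH) (Lpr_bt (f412066 IH) (Lpn (LP (LK LD1_c4 LD2_c32 LD3_c47))))))
theorem f448943 : Led Lsl_ct (LP (LK LD1_c2 LD2_c51 LD3_c13)) = (LP (LK LD1_c1 LD2_c21 LD3_c41)) :=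
  Lre_c IH (LK LD1_c2 LD2_c51 LD3_c13) (LK LD1_c1 LD2_c21 LD3_c41) Lrfl Lrfl
theorem f209993 : Led Lsl_dt (LP (LK LD1_c1 LD2_c21 LD3_c39)) = (LP (LK LD1_c0 LD2_c37 LD3_c47)) :=
  Lre_d IH (LK LD1_c1 LD2_c21 LD3_c39) (LK LD1_c0 LD2_c37 LD3_c47) Lrfl Lrfl
theorem f496432 : Led Lsl_ff (LP (LK LD1_c1 LD2_c21 LD3_c39)) = (LP (LK LD1_c1 LD2_c22 LD3_c16)) :=
  Lgr Lrot19 (Lpr_dt (f209993 IH) (Lpr_ft (K31.f452679 IH) (Lpq (K36.f496431 IH) (Lpe (K36.f452209 IH) (Lpn (LP (LK LD1_c1 LD2_c22 LD3_c16)))))))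
theorem f496444 : Led Lsl_ft (LP (LK LD1_c1 LD2_c21 LD3_c39)) = (LP (LK LD1_c1 LD2_c22 LD3_c16)) :=
  Lgr Lrot48 (Lpr_ff (f496432 IH) (Lpn (LP (LK LD1_c1 LD2_c22 LD3_c16))))
theorem f27153 : Led Lsl_gf (LP (LK LD1_c0 LD2_c13 LD3_c44)) = (LP (LK LD1_c0 LD2_c8 LD3_c6)) :=
  Lgr Lrot144 (Lpr_dt (K5.f13593 IH) (Lpr_gt (K0.f13588 IH) (Lpr_dt (K1.f13589 IH) (Lpe (K0.f20076 IH) (Lpe (K0.f26607 IH) (Lpe (K0.f25181 IH) (Lpe (K0.f25186 IH) (Lpr_gf (K0.f27150 IH) (Lpe (K0.f23034 IH) (Lpn (LP (LK LD1_c0 LD2_c8 LD3_c6))))))))))))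
theorem f88494 : Led Lsl_bt (LP (LK LD1_c0 LD2_c29 LD3_c26)) = (LP (LK LD1_c1 LD2_c4 LD3_c18)) :=
  Lre_b IH (LK LD1_c0 LD2_c29 LD3_c26) (LK LD1_c1 LD2_c4 LD3_c18) Lrfl Lrfl
theorem f209988 : Led Lsl_gt (LP (LK LD1_c1 LD2_c4 LD3_c18)) = (LP (LK LD1_c1 LD2_c21 LD3_c39)) :=
  Lgr Lrot82 (Lpe (f88494 IH) (Lpr_ct (K5.f26720 IH) (Lpr_gf (f27153 IH) (Lpe (K1.f21006 IH) (Lpr_bt (K6.f73013 IH) (Lpr_gf (K4.f99651 IH) (Lpe (K36.f99634 IH) (Lpr_ct (K36.f99635 IH) (Lpr_gf (K36.f209983 IH) (Lpe (K36.f16660 IH) (Lpn (LP (LK LD1_c1 LD2_c21 LD3_c39)))))))))))))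
theorem f151984 : Led Lsl_at (LP (LK LD1_c0 LD2_c38 LD3_c8)) = (LP (LK LD1_c1 LD2_c22 LD3_c15)) :=
  Lre_a IH (LK LD1_c0 LD2_c38 LD3_c8) (LK LD1_c1 LD2_c22 LD3_c15) Lrfl Lrfl
theorem f209991 : Led Lsl_gf (LP (LK LD1_c1 LD2_c22 LD3_c15)) = (LP (LK LD1_c1 LD2_c21 LD3_c39)) :=
  Lgr Lrot76 (Lpe (f151984 IH) (Lpe (K7.f152020 IH) (Lpr_gt (f209988 IH) (Lpn (LP (LK LD1_c1 LD2_c21 LD3_c39))))))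
def v1255 : LQ := Led Lsl_gf (LP (LK LD1_c1 LD2_c4 LD3_c18))
theorem f494344 : Led Lsl_gf (LP (LK LD1_c1 LD2_c4 LD3_c18)) = v1255 :=
  Lrfl
theorem f152030 : Led Lsl_ff (LP (LK LD1_c2 LD2_c14 LD3_c24)) = (LP (LK LD1_c1 LD2_c22 LD3_c15)) :=
  Lgr Lrot30 (Lpr_at (K24.f152029 IH) (Lpr_ft (K7.f152020 IH) (Lpr_at (f151984 IH) (Lpn (LP (LK LD1_c1 LD2_c22 LD3_c15))))))
theorem f494345 : Led Lsl_gt (LP (LK LD1_c1 LD2_c22 LD3_c15)) = v1255 :=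
  Lgr Lrot5 (Lpe (f152030 IH) (Lpr_at (K24.f152029 IH) (Lpr_gf (f494344 IH) (Lpn v1255))))
theorem f496456 : v1255 = (LP (LK LD1_c1 LD2_c21 LD3_c41)) :=
  (Llr Lrot46 (Lpe (f494345 IH) (Lpr_gf (f209991 IH) (Lpr_ft (f496444 IH) (Lpr_at (K32.f496423 IH) (Lpn (LP (LK LD1_c1 LD2_c21 LD3_c41)))))))).symm
theorem f97370 : Led Lsl_bt (LP (LK LD1_c0 LD2_c51 LD3_c8)) = (LP (LK LD1_c1 LD2_c48 LD3_c46)) :=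
  Lre_b IH (LK LD1_c0 LD2_c51 LD3_c8) (LK LD1_c1 LD2_c48 LD3_c46) Lrfl Lrfl
theorem f124186 : Led Lsl_cf (LP (LK LD1_c1 LD2_c4 LD3_c18)) = (LP (LK LD1_c1 LD2_c48 LD3_c46)) :=
  Lgr Lrot97 (Lpr_bt (K36.f56655 IH) (Lpr_ct (K5.f26720 IH) (Lpr_bt (K4.f124152 IH) (Lpr_ct (K5.f97369 IH) (Lpr_bt (f97370 IH) (Lpn (LP (LK LD1_c1 LD2_c48 LD3_c46))))))))
theorem f108701 : Led Lsl_ct (LP (LK LD1_c9 LD2_c10 LD3_c22)) = (LP (LK LD1_c4 LD2_c37 LD3_c30)) :=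
  Lre_c IH (LK LD1_c9 LD2_c10 LD3_c22) (LK LD1_c4 LD2_c37 LD3_c30) Lrfl Lrfl
theorem f108702 : Led Lsl_bt (LP (LK LD1_c9 LD2_c10 LD3_c22)) = (LP (LK LD1_c4 LD2_c37 LD3_c23)) :=
  Lre_b IH (LK LD1_c9 LD2_c10 LD3_c22) (LK LD1_c4 LD2_c37 LD3_c23) Lrfl Lrfl
theorem f499958 : Led Lsl_gf (LP (LK LD1_c2 LD2_c51 LD3_c13)) = (LP (LK LD1_c4 LD2_c37 LD3_c23)) :=
  Lgr Lrot181 (Lpr_ct (f448943 IH) (Lpq (f496456 IH) (Lpe (f494344 IH) (Lpr_cf (f124186 IH) (Lpr_bt (K36.f148078 IH) (Lpr_gt (K7.f116076 IH) (Lpe (K7.f148059 IH) (Lpe (K36.f208858 IH) (Lpr_gt (K28.f108697 IH) (Lpe (f108701 IH) (Lpr_bt (f108702 IH) (Lpn (LP (LK LD1_c4 LD2_c37 LD3_c23))))))))))))))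
theorem f175520 : Led Lsl_ct (LP (LK LD1_c4 LD2_c32 LD3_c47)) = (LP (LK LD1_c2 LD2_c13 LD3_c22)) :=
  Lre_c IH (LK LD1_c4 LD2_c32 LD3_c47) (LK LD1_c2 LD2_c13 LD3_c22) Lrfl Lrfl
theorem f496168 : Led Lsl_gf (LP (LK LD1_c4 LD2_c32 LD3_c47)) = K38.v1537 :=
  Lgr Lrot104 (Lpr_ct (f175520 IH) (Lpe (K10.f26794 IH) (Lpe (K10.f174527 IH) (Lpe (K13.f242634 IH) (Lpe (K18.f242722 IH) (Lpe (K24.f334609 IH) (Lpr_df (K24.f380091 IH) (Lpr_gt (K24.f171792 IH) (Lpr_ct (K38.f496165 IH) (Lpn K38.v1537))))))))))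
theorem f301910 : Led Lsl_df (LP (LK LD1_c2 LD2_c13 LD3_c59)) = (LP (LK LD1_c1 LD2_c19 LD3_c44)) :=
  Lgr Lrot38 (Lpr_dt (K18.f301901 IH) (Lpn (LP (LK LD1_c1 LD2_c19 LD3_c44))))
theorem f567660 : Led Lsl_dt (LP (LK LD1_c2 LD2_c51 LD3_c13)) = (LP (LK LD1_c3 LD2_c5 LD3_c31)) :=
  Lgr Lrot105 (Lpr_gf (f499958 IH) (Lpr_df (f567657 IH) (Lpr_gf (f496168 IH) (Lpe (K38.f496165 IH) (Lpr_gt (K12.f171780 IH) (Lpr_dt (K40.f177118 IH) (Lpr_gt (K18.f176986 IH) (Lpe (f301910 IH) (Lpr_cf (K18.f301913 IH) (Lpn (LP (LK LD1_c3 LD2_c5 LD3_c31))))))))))))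
theorem f567664 : Led Lsl_df (LP (LK LD1_c5 LD2_c50 LD3_c6)) = (LP (LK LD1_c6 LD2_c16 LD3_c50)) :=
  Lgr Lrot12 (Lpr_bt (K32.f496405 IH) (Lpr_dt (f567660 IH) (Lpr_bt (K40.f301924 IH) (Lpn (LP (LK LD1_c6 LD2_c16 LD3_c50))))))
theorem f448946 : Led Lsl_gt (LP (LK LD1_c5 LD2_c50 LD3_c6)) = (LP (LK LD1_c11 LD2_c28 LD3_c36)) :=
  Lre_g IH (LK LD1_c5 LD2_c50 LD3_c6) (LK LD1_c11 LD2_c28 LD3_c36) Lrfl Lrfl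
theorem f119054 : Led Lsl_bt (LP (LK LD1_c17 LD2_c2 LD3_c45)) = (LP (LK LD1_c9 LD2_c9 LD3_c45)) :=
  Lre_b IH (LK LD1_c17 LD2_c2 LD3_c45) (LK LD1_c9 LD2_c9 LD3_c45) Lrfl Lrfl
theorem f157251 : Led Lsl_ff (LP (LK LD1_c17 LD2_c2 LD3_c45)) = (LP (LK LD1_c16 LD2_c29 LD3_c32)) :=
  Lgr Lrot25 (Lpr_bt (f119054 IH) (Lpr_ft (K8.f157249 IH) (Lpr_bt (K37.f157238 IH) (Lpn (LP (LK LD1_c16 LD2_c29 LD3_c32))))))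
theorem f425626 : Led Lsl_af (LP (LK LD1_c17 LD2_c19 LD3_c35)) = (LP (LK LD1_c17 LD2_c2 LD3_c45)) :=
  Lgr Lrot45 (Lpr_ft (K37.f424802 IH) (Lpr_at (K37.f425618 IH) (Lpe (f157251 IH) (Lpn (LP (LK LD1_c17 LD2_c2 LD3_c45))))))
theorem f499554 : Led Lsl_gt (LP (LK LD1_c14 LD2_c7 LD3_c59)) = (LP (LK LD1_c17 LD2_c19 LD3_c35)) :=
  Lgr Lrot46 (Lpr_gf (K37.f499552 IH) (Lpe (f157251 IH) (Lpe (f425626 IH) (Lpn (LP (LK LD1_c17 LD2_c19 LD3_c35))))))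
theorem f101982 : Led Lsl_bt (LP (LK LD1_c4 LD2_c45 LD3_c1)) = (LP (LK LD1_c9 LD2_c22 LD3_c46)) :=
  Lre_b IH (LK LD1_c4 LD2_c45 LD3_c1) (LK LD1_c9 LD2_c22 LD3_c46) Lrfl Lrfl
theorem f78666 : Led Lsl_bt (LP (LK LD1_c4 LD2_c40 LD3_c26)) = (LP (LK LD1_c2 LD2_c17 LD3_c18)) :=
  Lre_b IH (LK LD1_c4 LD2_c40 LD3_c26) (LK LD1_c2 LD2_c17 LD3_c18) Lrfl Lrfl
theorem f97558 : Led Lsl_bt (LP (LK LD1_c1 LD2_c7 LD3_c40)) = (LP (LK LD1_c2 LD2_c20 LD3_c37)) :=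
  Lre_b IH (LK LD1_c1 LD2_c7 LD3_c40) (LK LD1_c2 LD2_c20 LD3_c37) Lrfl Lrfl
theorem f103325 : Led Lsl_ff (LP (LK LD1_c4 LD2_c40 LD3_c26)) = (LP (LK LD1_c2 LD2_c20 LD3_c37)) :=
  Lgr Lrot25 (Lpr_bt (f78666 IH) (Lpr_ft (K3.f103316 IH) (Lpr_bt (f97558 IH) (Lpn (LP (LK LD1_c2 LD2_c20 LD3_c37))))))
theorem f104548 : Led Lsl_at (LP (LK LD1_c4 LD2_c40 LD3_c26)) = (LP (LK LD1_c9 LD2_c16 LD3_c16)) :=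
  Lre_a IH (LK LD1_c4 LD2_c40 LD3_c26) (LK LD1_c9 LD2_c16 LD3_c16) Lrfl Lrfl
theorem f97559 : Led Lsl_gt (LP (LK LD1_c2 LD2_c20 LD3_c37)) = (LP (LK LD1_c4 LD2_c44 LD3_c56)) :=
  Lre_g IH (LK LD1_c2 LD2_c20 LD3_c37) (LK LD1_c4 LD2_c44 LD3_c56) Lrfl Lrfl
theorem f441932 : Led Lsl_gf (LP (LK LD1_c9 LD2_c16 LD3_c16)) = (LP (LK LD1_c4 LD2_c44 LD3_c56)) :=
  Lgr Lrot76 (Lpe (f104548 IH) (Lpr_ff (f103325 IH) (Lpr_gt (f97559 IH) (Lpn (LP (LK LD1_c4 LD2_c44 LD3_c56))))))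
theorem f104525 : Led Lsl_dt (LP (LK LD1_c4 LD2_c40 LD3_c26)) = (LP (LK LD1_c9 LD2_c16 LD3_c17)) :=
  Lre_d IH (LK LD1_c4 LD2_c40 LD3_c26) (LK LD1_c9 LD2_c16 LD3_c17) Lrfl Lrfl
theorem f104526 : Led Lsl_at (LP (LK LD1_c9 LD2_c16 LD3_c16)) = (LP (LK LD1_c4 LD2_c40 LD3_c26)) :=
  Lre_a IH (LK LD1_c9 LD2_c16 LD3_c16) (LK LD1_c4 LD2_c40 LD3_c26) Lrfl Lrfl
theorem f104527 : Led Lsl_dt (LP (LK LD1_c11 LD2_c33 LD3_c1)) = (LP (LK LD1_c9 LD2_c16 LD3_c16)) :=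
  Lgr Lrot44 (Lpr_af (K24.f104522 IH) (Lpe (f104525 IH) (Lpe (f104526 IH) (Lpn (LP (LK LD1_c9 LD2_c16 LD3_c16))))))
theorem f104542 : Led Lsl_dt (LP (LK LD1_c4 LD2_c44 LD3_c58)) = (LP (LK LD1_c9 LD2_c22 LD3_c36)) :=
  Lre_d IH (LK LD1_c4 LD2_c44 LD3_c58) (LK LD1_c9 LD2_c22 LD3_c36) Lrfl Lrfl
theorem f104543 : Led Lsl_ft (LP (LK LD1_c9 LD2_c16 LD3_c16)) = (LP (LK LD1_c4 LD2_c44 LD3_c58)) :=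
  Lgr Lrot54 (Lpe (f104527 IH) (Lpr_ff (K28.f104538 IH) (Lpe (f104542 IH) (Lpn (LP (LK LD1_c4 LD2_c44 LD3_c58))))))
theorem f104552 : Led Lsl_ff (LP (LK LD1_c9 LD2_c16 LD3_c16)) = (LP (LK LD1_c4 LD2_c44 LD3_c58)) :=
  Lgr Lrot3 (Lpr_ft (f104543 IH) (Lpn (LP (LK LD1_c4 LD2_c44 LD3_c58))))
theorem f104537 : Led Lsl_dt (LP (LK LD1_c9 LD2_c22 LD3_c36)) = (LP (LK LD1_c4 LD2_c44 LD3_c58)) :=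
  Lre_d IH (LK LD1_c9 LD2_c22 LD3_c36) (LK LD1_c4 LD2_c44 LD3_c58) Lrfl Lrfl
theorem f104562 : Led Lsl_dt (LP (LK LD1_c9 LD2_c16 LD3_c16)) = (LP (LK LD1_c11 LD2_c33 LD3_c1)) :=
  Lgr Lrot60 (Lpr_ff (f104552 IH) (Lpe (f104537 IH) (Lpe (K24.f104529 IH) (Lpn (LP (LK LD1_c11 LD2_c33 LD3_c1))))))
theorem f157272 : Led Lsl_cf (LP (LK LD1_c12 LD2_c31 LD3_c26)) = (LP (LK LD1_c12 LD2_c9 LD3_c8)) :=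
  Lgr Lrot11 (Lpr_ct (K8.f157270 IH) (Lpn (LP (LK LD1_c12 LD2_c9 LD3_c8))))
theorem f428661 : Led Lsl_cf (LP (LK LD1_c9 LD2_c22 LD3_c46)) = (LP (LK LD1_c14 LD2_c1 LD3_c40)) :=
  Lgr Lrot1 (Lpe (K8.f138354 IH) (Lpe (f157272 IH) (Lpr_at (K32.f428576 IH) (Lpn (LP (LK LD1_c14 LD2_c1 LD3_c40))))))
theorem f441935 : Led Lsl_dt (LP (LK LD1_c9 LD2_c22 LD3_c32)) = (LP (LK LD1_c4 LD2_c44 LD3_c56)) :=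
  Lre_d IH (LK LD1_c9 LD2_c22 LD3_c32) (LK LD1_c4 LD2_c44 LD3_c56) Lrfl Lrfl
theorem f441936 : Led Lsl_gt (LP (LK LD1_c9 LD2_c22 LD3_c46)) = (LP (LK LD1_c9 LD2_c22 LD3_c32)) :=
  Lgr Lrot94 (Lpr_cf (f428661 IH) (Lpr_gt (K32.f125601 IH) (Lpr_dt (K32.f130909 IH) (Lpr_gt (K7.f107212 IH) (Lpe (K30.f207947 IH) (Lpr_cf (K28.f207945 IH) (Lpe (f104562 IH) (Lpr_gf (f441932 IH) (Lpe (f441935 IH) (Lpn (LP (LK LD1_c9 LD2_c22 LD3_c32))))))))))))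
theorem f441942 : Led Lsl_bt (LP (LK LD1_c17 LD2_c19 LD3_c2)) = (LP (LK LD1_c9 LD2_c22 LD3_c32)) :=
  Lre_b IH (LK LD1_c17 LD2_c19 LD3_c2) (LK LD1_c9 LD2_c22 LD3_c32) Lrfl Lrfl
theorem f499556 : Led Lsl_cf (LP (LK LD1_c14 LD2_c7 LD3_c59)) = (LP (LK LD1_c17 LD2_c19 LD3_c2)) :=
  Lgr Lrot160 (Lpr_gt (f499554 IH) (Lpe (K37.f101922 IH) (Lpr_bt (K37.f101920 IH) (Lpr_gt (K3.f99153 IH) (Lpr_ct (K3.f58736 IH) (Lpe (K3.f101914 IH) (Lpe (K3.f101983 IH) (Lpr_bt (f101982 IH) (Lpr_gt (f441936 IH) (Lpe (f441942 IH) (Lpn (LP (LK LD1_c17 LD2_c19 LD3_c2)))))))))))))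
theorem f78524 : Led Lsl_gt (LP (LK LD1_c4 LD2_c46 LD3_c2)) = (LP (LK LD1_c9 LD2_c24 LD3_c39)) :=
  Lre_g IH (LK LD1_c4 LD2_c46 LD3_c2) (LK LD1_c9 LD2_c24 LD3_c39) Lrfl Lrfl
theorem f78690 : Led Lsl_bt (LP (LK LD1_c17 LD2_c21 LD3_c51)) = (LP (LK LD1_c9 LD2_c24 LD3_c39)) :=
  Lre_b IH (LK LD1_c17 LD2_c21 LD3_c51) (LK LD1_c9 LD2_c24 LD3_c39) Lrfl Lrfl
theorem f420123 : Led Lsl_ct (LP (LK LD1_c17 LD2_c21 LD3_c51)) = (LP (LK LD1_c13 LD2_c58 LD3_c35)) :=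
  Lgr Lrot64 (Lpr_bt (f78690 IH) (Lpe (f78524 IH) (Lpe (K37.f78513 IH) (Lpr_ct (K5.f78517 IH) (Lpr_gf (K3.f78502 IH) (Lpe (K1.f13660 IH) (Lpe (K3.f78492 IH) (Lpe (K37.f78506 IH) (Lpr_ct (K36.f78508 IH) (Lpr_gf (K37.f420121 IH) (Lpn (LP (LK LD1_c13 LD2_c58 LD3_c35)))))))))))))
theorem f420126 : Led Lsl_cf (LP (LK LD1_c17 LD2_c21 LD3_c51)) = (LP (LK LD1_c13 LD2_c58 LD3_c35)) :=
  Lgr Lrot11 (Lpr_ct (f420123 IH) (Lpn (LP (LK LD1_c13 LD2_c58 LD3_c35))))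
theorem f499564 : Led Lsl_ft (LP (LK LD1_c17 LD2_c21 LD3_c51)) = (LP (LK LD1_c17 LD2_c19 LD3_c2)) :=
  Lgr Lrot4 (Lpr_cf (f420126 IH) (Lpr_ff (K37.f499508 IH) (Lpr_cf (f499556 IH) (Lpn (LP (LK LD1_c17 LD2_c19 LD3_c2))))))
theorem f499569 : Led Lsl_ff (LP (LK LD1_c17 LD2_c21 LD3_c51)) = (LP (LK LD1_c17 LD2_c19 LD3_c2)) :=
  Lgr Lrot3 (Lpr_ft (f499564 IH) (Lpn (LP (LK LD1_c17 LD2_c19 LD3_c2))))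
theorem f499560 : Led Lsl_bt (LP (LK LD1_c9 LD2_c22 LD3_c32)) = (LP (LK LD1_c17 LD2_c19 LD3_c2)) :=
  Lre_b IH (LK LD1_c9 LD2_c22 LD3_c32) (LK LD1_c17 LD2_c19 LD3_c2) Lrfl Lrfl
theorem f499573 : Led Lsl_ft (LP (LK LD1_c9 LD2_c24 LD3_c39)) = (LP (LK LD1_c9 LD2_c22 LD3_c32)) :=
  Lgr Lrot75 (Lpe (f78690 IH) (Lpr_ff (f499569 IH) (Lpe (f499560 IH) (Lpn (LP (LK LD1_c9 LD2_c22 LD3_c32))))))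
theorem f102942 : Led Lsl_at (LP (LK LD1_c2 LD2_c20 LD3_c37)) = (LP (LK LD1_c4 LD2_c44 LD3_c58)) :=
  Lre_a IH (LK LD1_c2 LD2_c20 LD3_c37) (LK LD1_c4 LD2_c44 LD3_c58) Lrfl Lrfl
theorem f104560 : Led Lsl_ft (LP (LK LD1_c4 LD2_c40 LD3_c26)) = (LP (LK LD1_c2 LD2_c20 LD3_c37)) :=
  Lgr Lrot101 (Lpe (f104526 IH) (Lpr_ff (f104552 IH) (Lpe (f102942 IH) (Lpn (LP (LK LD1_c2 LD2_c20 LD3_c37))))))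
theorem f103466 : Led Lsl_gt (LP (LK LD1_c4 LD2_c40 LD3_c26)) = (LP (LK LD1_c9 LD2_c16 LD3_c14)) :=
  Lre_g IH (LK LD1_c4 LD2_c40 LD3_c26) (LK LD1_c9 LD2_c16 LD3_c14) Lrfl Lrfl
theorem f104568 : Led Lsl_gt (LP (LK LD1_c9 LD2_c16 LD3_c14)) = (LP (LK LD1_c4 LD2_c44 LD3_c58)) :=
  Lgr Lrot46 (Lpe (f103466 IH) (Lpr_ft (f104560 IH) (Lpr_at (f102942 IH) (Lpn (LP (LK LD1_c4 LD2_c44 LD3_c58))))))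
theorem f428622 : Led Lsl_dt (LP (LK LD1_c9 LD2_c24 LD3_c39)) = (LP (LK LD1_c9 LD2_c16 LD3_c14)) :=
  Lgr Lrot57 (Lpe (f78524 IH) (Lpe (K28.f78570 IH) (Lpe (K36.f428617 IH) (Lpr_dt (K36.f428619 IH) (Lpr_gt (K7.f66468 IH) (Lpr_dt (K24.f66469 IH) (Lpr_cf (K24.f150802 IH) (Lpe (f104542 IH) (Lpe (f104568 IH) (Lpn (LP (LK LD1_c9 LD2_c16 LD3_c14))))))))))))
theorem f428657 : Led Lsl_df (LP (LK LD1_c9 LD2_c24 LD3_c39)) = (LP (LK LD1_c9 LD2_c16 LD3_c14)) :=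
  Lgr Lrot38 (Lpr_dt (f428622 IH) (Lpn (LP (LK LD1_c9 LD2_c16 LD3_c14))))
theorem f499575 : Led Lsl_ff (LP (LK LD1_c9 LD2_c16 LD3_c14)) = (LP (LK LD1_c4 LD2_c44 LD3_c56)) :=
  Lgr Lrot19 (Lpe (f428657 IH) (Lpr_ft (f499573 IH) (Lpr_dt (f441935 IH) (Lpn (LP (LK LD1_c4 LD2_c44 LD3_c56))))))
theorem f104549 : Led Lsl_at (LP (LK LD1_c4 LD2_c44 LD3_c58)) = (LP (LK LD1_c2 LD2_c20 LD3_c37)) :=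
  Lre_a IH (LK LD1_c4 LD2_c44 LD3_c58) (LK LD1_c2 LD2_c20 LD3_c37) Lrfl Lrfl
theorem f104554 : Led Lsl_gt (LP (LK LD1_c9 LD2_c16 LD3_c16)) = (LP (LK LD1_c4 LD2_c44 LD3_c57)) :=
  Lgr Lrot5 (Lpr_ft (f104543 IH) (Lpr_at (f104549 IH) (Lpe (K32.f98948 IH) (Lpn (LP (LK LD1_c4 LD2_c44 LD3_c57))))))
theorem f499579 : Led Lsl_at (LP (LK LD1_c9 LD2_c16 LD3_c14)) = (LP (LK LD1_c4 LD2_c44 LD3_c57)) :=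
  Lgr Lrot26 (Lpr_ff (f499575 IH) (Lpe (f441932 IH) (Lpr_gt (f104554 IH) (Lpn (LP (LK LD1_c4 LD2_c44 LD3_c57))))))
theorem f104556 : Led Lsl_dt (LP (LK LD1_c4 LD2_c44 LD3_c57)) = (LP (LK LD1_c9 LD2_c22 LD3_c34)) :=
  Lre_d IH (LK LD1_c4 LD2_c44 LD3_c57) (LK LD1_c9 LD2_c22 LD3_c34) Lrfl Lrfl
theorem f499583 : Led Lsl_af (LP (LK LD1_c9 LD2_c24 LD3_c39)) = (LP (LK LD1_c9 LD2_c22 LD3_c34)) :=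
  Lgr Lrot117 (Lpr_dt (f428622 IH) (Lpr_at (f499579 IH) (Lpr_dt (f104556 IH) (Lpn (LP (LK LD1_c9 LD2_c22 LD3_c34))))))
theorem f499585 : Led Lsl_at (LP (LK LD1_c9 LD2_c24 LD3_c39)) = (LP (LK LD1_c9 LD2_c22 LD3_c34)) :=
  Lgr Lrot100 (Lpr_af (f499583 IH) (Lpn (LP (LK LD1_c9 LD2_c22 LD3_c34))))
theorem f428595 : Led Lsl_bt (LP (LK LD1_c9 LD2_c22 LD3_c34)) = (LP (LK LD1_c5 LD2_c58 LD3_c14)) :=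
  Lgr Lrot127 (Lpr_bf (K32.f428590 IH) (Lpn (LP (LK LD1_c5 LD2_c58 LD3_c14))))
theorem f496625 : Led Lsl_at (LP (LK LD1_c5 LD2_c58 LD3_c14)) = (LP (LK LD1_c5 LD2_c59 LD3_c51)) :=
  Lgr Lrot51 (Lpe (K32.f72616 IH) (Lpr_af (K32.f496368 IH) (Lpr_df (K32.f496622 IH) (Lpn (LP (LK LD1_c5 LD2_c59 LD3_c51))))))
theorem f161295 : Led Lsl_bt (LP (LK LD1_c5 LD2_c59 LD3_c51)) = (LP (LK LD1_c11 LD2_c44 LD3_c11)) :=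
  Lre_b IH (LK LD1_c5 LD2_c59 LD3_c51) (LK LD1_c11 LD2_c44 LD3_c11) Lrfl Lrfl
theorem f499587 : Led Lsl_af (LP (LK LD1_c17 LD2_c21 LD3_c51)) = (LP (LK LD1_c11 LD2_c44 LD3_c11)) :=
  Lgr Lrot36 (Lpr_bt (f78690 IH) (Lpr_at (f499585 IH) (Lpr_bt (f428595 IH) (Lpr_at (f496625 IH) (Lpr_bt (f161295 IH) (Lpn (LP (LK LD1_c11 LD2_c44 LD3_c11))))))))
theorem f105020 : Led Lsl_bt (LP (LK LD1_c11 LD2_c41 LD3_c1)) = (LP (LK LD1_c5 LD2_c58 LD3_c12)) :=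
  Lre_b IH (LK LD1_c11 LD2_c41 LD3_c1) (LK LD1_c5 LD2_c58 LD3_c12) Lrfl Lrfl
theorem f206675 : Led Lsl_ct (LP (LK LD1_c11 LD2_c41 LD3_c1)) = (LP (LK LD1_c17 LD2_c22 LD3_c20)) :=
  Lgr Lrot10 (Lpr_bt (f105020 IH) (Lpr_gt (K8.f105016 IH) (Lpr_ct (K8.f104989 IH) (Lpe (K4.f105009 IH) (Lpe (K2.f72821 IH) (Lpr_bt (K6.f58724 IH) (Lpe (K3.f78502 IH) (Lpe (K37.f78506 IH) (Lpr_ct (K36.f78508 IH) (Lpr_gt (K37.f205831 IH) (Lpn (LP (LK LD1_c17 LD2_c22 LD3_c20)))))))))))))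
theorem f206678 : Led Lsl_cf (LP (LK LD1_c11 LD2_c41 LD3_c1)) = (LP (LK LD1_c17 LD2_c22 LD3_c20)) :=
  Lgr Lrot11 (Lpr_ct (f206675 IH) (Lpn (LP (LK LD1_c17 LD2_c22 LD3_c20))))
theorem f499550 : Led Lsl_ft (LP (LK LD1_c11 LD2_c41 LD3_c1)) = (LP (LK LD1_c11 LD2_c44 LD3_c11)) :=
  Lgr Lrot4 (Lpr_cf (f206678 IH) (Lpr_ff (K37.f499546 IH) (Lpe (K37.f112429 IH) (Lpn (LP (LK LD1_c11 LD2_c44 LD3_c11))))))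
theorem f499589 : Led Lsl_at (LP (LK LD1_c17 LD2_c19 LD3_c2)) = (LP (LK LD1_c11 LD2_c41 LD3_c1)) :=
  Lgr Lrot66 (Lpe (f499564 IH) (Lpr_af (f499587 IH) (Lpe (f499550 IH) (Lpn (LP (LK LD1_c11 LD2_c41 LD3_c1))))))
theorem f499563 : Led Lsl_dt (LP (LK LD1_c9 LD2_c22 LD3_c30)) = (LP (LK LD1_c17 LD2_c19 LD3_c2)) :=
  Lre_d IH (LK LD1_c9 LD2_c22 LD3_c30) (LK LD1_c17 LD2_c19 LD3_c2) Lrfl Lrfl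
theorem f74771 : Led Lsl_dt (LP (LK LD1_c11 LD2_c41 LD3_c1)) = (LP (LK LD1_c5 LD2_c58 LD3_c11)) :=
  Lre_d IH (LK LD1_c11 LD2_c41 LD3_c1) (LK LD1_c5 LD2_c58 LD3_c11) Lrfl Lrfl
theorem f499591 : Led Lsl_af (LP (LK LD1_c9 LD2_c22 LD3_c30)) = (LP (LK LD1_c5 LD2_c58 LD3_c11)) :=
  Lgr Lrot117 (Lpr_dt (f499563 IH) (Lpr_at (f499589 IH) (Lpr_dt (f74771 IH) (Lpn (LP (LK LD1_c5 LD2_c58 LD3_c11))))))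
theorem f74768 : Led Lsl_at (LP (LK LD1_c11 LD2_c31 LD3_c18)) = (LP (LK LD1_c5 LD2_c52 LD3_c12)) :=
  Lre_a IH (LK LD1_c11 LD2_c31 LD3_c18) (LK LD1_c5 LD2_c52 LD3_c12) Lrfl Lrfl
theorem f499595 : Led Lsl_ct (LP (LK LD1_c9 LD2_c22 LD3_c30)) = (LP (LK LD1_c11 LD2_c31 LD3_c18)) :=
  Lgr Lrot111 (Lpr_af (f499591 IH) (Lpe (K32.f74763 IH) (Lpe (f74768 IH) (Lpn (LP (LK LD1_c11 LD2_c31 LD3_c18))))))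
theorem f98954 : Led Lsl_bt (LP (LK LD1_c9 LD2_c22 LD3_c30)) = (LP (LK LD1_c4 LD2_c44 LD3_c56)) :=
  Lre_b IH (LK LD1_c9 LD2_c22 LD3_c30) (LK LD1_c4 LD2_c44 LD3_c56) Lrfl Lrfl
theorem f102943 : Led Lsl_bf (LP (LK LD1_c9 LD2_c16 LD3_c11)) = (LP (LK LD1_c4 LD2_c44 LD3_c58)) :=
  Lgr Lrot81 (Lpr_at (K7.f94791 IH) (Lpr_bt (K37.f94798 IH) (Lpr_at (K3.f102938 IH) (Lpr_bt (f97558 IH) (Lpr_at (f102942 IH) (Lpn (LP (LK LD1_c4 LD2_c44 LD3_c58))))))))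
theorem f104550 : Led Lsl_bf (LP (LK LD1_c9 LD2_c16 LD3_c16)) = (LP (LK LD1_c4 LD2_c44 LD3_c48)) :=
  Lgr Lrot61 (Lpr_ft (f104543 IH) (Lpe (f102943 IH) (Lpr_ft (K7.f102914 IH) (Lpn (LP (LK LD1_c4 LD2_c44 LD3_c48))))))
theorem f110815 : Led Lsl_at (LP (LK LD1_c4 LD2_c40 LD3_c30)) = (LP (LK LD1_c9 LD2_c16 LD3_c23)) :=
  Lre_a IH (LK LD1_c4 LD2_c40 LD3_c30) (LK LD1_c9 LD2_c16 LD3_c23) Lrfl Lrfl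
theorem f110865 : Led Lsl_gf (LP (LK LD1_c9 LD2_c16 LD3_c23)) = (LP (LK LD1_c9 LD2_c21 LD3_c60)) :=
  Lgr Lrot76 (Lpe (f110815 IH) (Lpr_ff (K37.f110855 IH) (Lpr_gt (K37.f98848 IH) (Lpn (LP (LK LD1_c9 LD2_c21 LD3_c60))))))
theorem f74772 : Led Lsl_at (LP (LK LD1_c5 LD2_c52 LD3_c12)) = (LP (LK LD1_c11 LD2_c31 LD3_c18)) :=
  Lre_a IH (LK LD1_c5 LD2_c52 LD3_c12) (LK LD1_c11 LD2_c31 LD3_c18) Lrfl Lrfl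
theorem f496400 : Led Lsl_gf (LP (LK LD1_c11 LD2_c31 LD3_c18)) = (LP (LK LD1_c11 LD2_c28 LD3_c36)) :=
  Lgr Lrot76 (Lpe (f74772 IH) (Lpr_ff (K32.f496389 IH) (Lpr_gt (f448946 IH) (Lpn (LP (LK LD1_c11 LD2_c28 LD3_c36))))))
theorem f499610 : Led Lsl_ct (LP (LK LD1_c9 LD2_c16 LD3_c23)) = (LP (LK LD1_c11 LD2_c28 LD3_c36)) :=
  Lgr Lrot91 (Lpr_gf (f110865 IH) (Lpe (K37.f163504 IH) (Lpr_ct (K37.f163433 IH) (Lpe (K32.f104478 IH) (Lpr_cf (K32.f104463 IH) (Lpe (f104550 IH) (Lpr_gf (f441932 IH) (Lpe (f98954 IH) (Lpr_ct (f499595 IH) (Lpr_gf (f496400 IH) (Lpn (LP (LK LD1_c11 LD2_c28 LD3_c36)))))))))))))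
theorem f499616 : Led Lsl_cf (LP (LK LD1_c9 LD2_c16 LD3_c23)) = (LP (LK LD1_c11 LD2_c28 LD3_c36)) :=
  Lgr Lrot11 (Lpr_ct (f499610 IH) (Lpn (LP (LK LD1_c11 LD2_c28 LD3_c36))))
theorem f110661 : Led Lsl_at (LP (LK LD1_c9 LD2_c22 LD3_c0)) = (LP (LK LD1_c4 LD2_c44 LD3_c38)) :=
  Lre_a IH (LK LD1_c9 LD2_c22 LD3_c0) (LK LD1_c4 LD2_c44 LD3_c38) Lrfl Lrfl
theorem f110861 : Led Lsl_ft (LP (LK LD1_c9 LD2_c16 LD3_c23)) = (LP (LK LD1_c9 LD2_c22 LD3_c0)) :=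
  Lgr Lrot101 (Lpe (f110815 IH) (Lpr_ff (K37.f110855 IH) (Lpe (f110661 IH) (Lpn (LP (LK LD1_c9 LD2_c22 LD3_c0))))))
theorem f103251 : Led Lsl_gt (LP (LK LD1_c9 LD2_c21 LD3_c61)) = (LP (LK LD1_c4 LD2_c44 LD3_c38)) :=
  Lre_g IH (LK LD1_c9 LD2_c21 LD3_c61) (LK LD1_c4 LD2_c44 LD3_c38) Lrfl Lrfl
theorem f110880 : Led Lsl_gt (LP (LK LD1_c9 LD2_c16 LD3_c23)) = (LP (LK LD1_c9 LD2_c21 LD3_c61)) :=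
  Lgr Lrot5 (Lpr_ft (f110861 IH) (Lpr_at (f110661 IH) (Lpe (f103251 IH) (Lpn (LP (LK LD1_c9 LD2_c21 LD3_c61))))))
theorem f98894 : Led Lsl_dt (LP (LK LD1_c4 LD2_c44 LD3_c38)) = (LP (LK LD1_c4 LD2_c46 LD3_c50)) :=
  Lgr Lrot79 (Lpe (K37.f98847 IH) (Lpr_df (K3.f98883 IH) (Lpe (K11.f98893 IH) (Lpn (LP (LK LD1_c4 LD2_c46 LD3_c50))))))
theorem f420112 : Led Lsl_cf (LP (LK LD1_c14 LD2_c3 LD3_c54)) = (LP (LK LD1_c9 LD2_c21 LD3_c61)) :=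
  Lgr Lrot166 (Lpr_gt (K37.f420106 IH) (Lpe (K37.f420104 IH) (Lpr_gt (K37.f205831 IH) (Lpr_dt (K37.f205830 IH) (Lpr_ct (K37.f98856 IH) (Lpe (K40.f205839 IH) (Lpe (K40.f206689 IH) (Lpe (f98894 IH) (Lpe (f103251 IH) (Lpn (LP (LK LD1_c9 LD2_c21 LD3_c61))))))))))))
theorem f301929 : Led Lsl_gt (LP (LK LD1_c6 LD2_c16 LD3_c50)) = (LP (LK LD1_c12 LD2_c10 LD3_c35)) :=
  Lre_g IH (LK LD1_c6 LD2_c16 LD3_c50) (LK LD1_c12 LD2_c10 LD3_c35) Lrfl Lrfl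
theorem f301930 : Led Lsl_ct (LP (LK LD1_c12 LD2_c10 LD3_c35)) = (LP (LK LD1_c21 LD2_c16 LD3_c13)) :=
  Lre_c IH (LK LD1_c12 LD2_c10 LD3_c35) (LK LD1_c21 LD2_c16 LD3_c13) Lrfl Lrfl
theorem f567671 : Led Lsl_gf (LP (LK LD1_c17 LD2_c19 LD3_c6)) = (LP (LK LD1_c21 LD2_c16 LD3_c13)) :=
  Lgr Lrot104 (Lpe (K40.f424863 IH) (Lpe (K40.f206143 IH) (Lpr_cf (f420112 IH) (Lpe (f110880 IH) (Lpr_cf (f499616 IH) (Lpe (f448946 IH) (Lpr_df (f567664 IH) (Lpr_gt (f301929 IH) (Lpr_ct (f301930 IH) (Lpn (LP (LK LD1_c21 LD2_c16 LD3_c13))))))))))))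
theorem f146398 : Led Lsl_ct (LP (LK LD1_c2 LD2_c13 LD3_c61)) = (LP (LK LD1_c1 LD2_c4 LD3_c1)) :=
  Lre_c IH (LK LD1_c2 LD2_c13 LD3_c61) (LK LD1_c1 LD2_c4 LD3_c1) Lrfl Lrfl
theorem f211017 : Led Lsl_bt (LP (LK LD1_c2 LD2_c13 LD3_c61)) = (LP (LK LD1_c4 LD2_c34 LD3_c13)) :=
  Lre_b IH (LK LD1_c2 LD2_c13 LD3_c61) (LK LD1_c4 LD2_c34 LD3_c13) Lrfl Lrfl
theorem f567677 : Led Lsl_gt (LP (LK LD1_c7 LD2_c51 LD3_c55)) = (LP (LK LD1_c4 LD2_c34 LD3_c13)) :=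
  Lgr Lrot164 (Lpe (K40.f144404 IH) (Lpr_ct (K40.f424861 IH) (Lpr_gf (f567671 IH) (Lpe (f301930 IH) (Lpe (f301929 IH) (Lpe (K40.f301924 IH) (Lpe (K18.f301913 IH) (Lpe (K17.f37274 IH) (Lpe (f146398 IH) (Lpr_bt (f211017 IH) (Lpn (LP (LK LD1_c4 LD2_c34 LD3_c13)))))))))))))
theorem f156726 : Led Lsl_cf (LP (LK LD1_c14 LD2_c20 LD3_c12)) = (LP (LK LD1_c7 LD2_c49 LD3_c61)) :=
  Lgr Lrot11 (Lpr_ct (K7.f156723 IH) (Lpn (LP (LK LD1_c7 LD2_c49 LD3_c61))))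
theorem f122978 : Led Lsl_at (LP (LK LD1_c3 LD2_c55 LD3_c7)) = (LP (LK LD1_c7 LD2_c51 LD3_c57)) :=
  Lre_a IH (LK LD1_c3 LD2_c55 LD3_c7) (LK LD1_c7 LD2_c51 LD3_c57) Lrfl Lrfl
theorem f145291 : Led Lsl_gf (LP (LK LD1_c7 LD2_c51 LD3_c57)) = (LP (LK LD1_c7 LD2_c49 LD3_c60)) :=
  Lgr Lrot76 (Lpe (f122978 IH) (Lpr_ff (K6.f145287 IH) (Lpr_gt (K7.f122985 IH) (Lpn (LP (LK LD1_c7 LD2_c49 LD3_c60))))))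
theorem f206136 : Led Lsl_af (LP (LK LD1_c7 LD2_c49 LD3_c61)) = (LP (LK LD1_c7 LD2_c51 LD3_c55)) :=
  Lgr Lrot45 (Lpr_ft (K28.f206102 IH) (Lpr_at (K28.f205991 IH) (Lpr_ft (K40.f206134 IH) (Lpn (LP (LK LD1_c7 LD2_c51 LD3_c55))))))
theorem f206141 : Led Lsl_gt (LP (LK LD1_c7 LD2_c51 LD3_c57)) = (LP (LK LD1_c7 LD2_c49 LD3_c61)) :=
  Lgr Lrot46 (Lpr_gf (f145291 IH) (Lpr_ft (K40.f206134 IH) (Lpe (f206136 IH) (Lpn (LP (LK LD1_c7 LD2_c49 LD3_c61))))))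
theorem f567685 : Led Lsl_cf (LP (LK LD1_c7 LD2_c51 LD3_c57)) = (LP (LK LD1_c4 LD2_c34 LD3_c13)) :=
  Lgr Lrot169 (Lpr_gt (f206141 IH) (Lpe (f156726 IH) (Lpe (K24.f205971 IH) (Lpe (K11.f157332 IH) (Lpr_gf (K11.f205997 IH) (Lpe (K8.f156524 IH) (Lpr_gf (K8.f162610 IH) (Lpe (K40.f162608 IH) (Lpr_gt (f567677 IH) (Lpn (LP (LK LD1_c4 LD2_c34 LD3_c13))))))))))))
theorem f567692 : Led Lsl_dt (LP (LK LD1_c9 LD2_c5 LD3_c23)) = (LP (LK LD1_c4 LD2_c34 LD3_c13)) :=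
  Lgr Lrot120 (Lpr_cf (K32.f437296 IH) (Lpr_df (K6.f145107 IH) (Lpr_cf (K6.f145141 IH) (Lpe (K6.f57450 IH) (Lpr_cf (K6.f145272 IH) (Lpr_df (K6.f145274 IH) (Lpe (K6.f145287 IH) (Lpr_at (f122978 IH) (Lpr_cf (f567685 IH) (Lpn (LP (LK LD1_c4 LD2_c34 LD3_c13))))))))))))
theorem f225445 : Led Lsl_bt (LP (LK LD1_c4 LD2_c34 LD3_c13)) = (LP (LK LD1_c2 LD2_c13 LD3_c61)) :=
  Lre_b IH (LK LD1_c4 LD2_c34 LD3_c13) (LK LD1_c2 LD2_c13 LD3_c61) Lrfl Lrfl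
theorem f567696 : Led Lsl_df (LP (LK LD1_c4 LD2_c33 LD3_c56)) = (LP (LK LD1_c2 LD2_c13 LD3_c61)) :=
  Lgr Lrot12 (Lpr_bt (K32.f437284 IH) (Lpr_dt (f567692 IH) (Lpr_bt (f225445 IH) (Lpn (LP (LK LD1_c2 LD2_c13 LD3_c61))))))
theorem f567698 : Led Lsl_dt (LP (LK LD1_c4 LD2_c33 LD3_c56)) = (LP (LK LD1_c2 LD2_c13 LD3_c61)) :=
  Lgr Lrot42 (Lpr_df (f567696 IH) (Lpn (LP (LK LD1_c2 LD2_c13 LD3_c61))))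
theorem f567700 : Led Lsl_ff (LP (LK LD1_c4 LD2_c34 LD3_c5)) = (LP (LK LD1_c2 LD2_c13 LD3_c61)) :=
  Lgr Lrot19 (Lpe (K38.f548857 IH) (Lpe (K38.f499994 IH) (Lpr_dt (f567698 IH) (Lpn (LP (LK LD1_c2 LD2_c13 LD3_c61))))))
theorem f334600 : Led Lsl_gt (LP (LK LD1_c1 LD2_c3 LD3_c38)) = (LP (LK LD1_c0 LD2_c33 LD3_c31)) :=
  Lgr Lrot137 (Lpr_ef (K22.f334592 IH) (Lpe (K19.f313668 IH) (Lpe (K9.f9536 IH) (Lpe (K0.f9519 IH) (Lpr_et (K0.f9531 IH) (Lpe (K0.f20964 IH) (Lpe (K6.f21201 IH) (Lpr_dt (K9.f176871 IH) (Lpe (K11.f60174 IH) (Lpe (K11.f177101 IH) (Lpn (LP (LK LD1_c0 LD2_c33 LD3_c31)))))))))))))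
theorem f301965 : Led Lsl_gf (LP (LK LD1_c1 LD2_c21 LD3_c26)) = (LP (LK LD1_c2 LD2_c13 LD3_c59)) :=
  Lgr Lrot47 (Lpe (K32.f146396 IH) (Lpe (K36.f301959 IH) (Lpr_ff (K36.f301957 IH) (Lpn (LP (LK LD1_c2 LD2_c13 LD3_c59))))))
theorem f380668 : Led Lsl_gf (LP (LK LD1_c4 LD2_c34 LD3_c12)) = (LP (LK LD1_c2 LD2_c50 LD3_c54)) :=
  Lgr Lrot104 (Lpr_ct (K18.f302621 IH) (Lpe (K11.f166384 IH) (Lpe (K11.f166388 IH) (Lpe (f334600 IH) (Lpe (K40.f181451 IH) (Lpr_gf (K24.f380666 IH) (Lpe (K18.f301901 IH) (Lpe (f301965 IH) (Lpr_ct (K31.f146402 IH) (Lpn (LP (LK LD1_c2 LD2_c50 LD3_c54))))))))))))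
theorem f380670 : Led Lsl_ft (LP (LK LD1_c2 LD2_c50 LD3_c54)) = (LP (LK LD1_c1 LD2_c21 LD3_c25)) :=
  Lre_f IH (LK LD1_c2 LD2_c50 LD3_c54) (LK LD1_c1 LD2_c21 LD3_c25) Lrfl Lrfl
theorem f380671 : Led Lsl_af (LP (LK LD1_c2 LD2_c13 LD3_c61)) = (LP (LK LD1_c1 LD2_c21 LD3_c25)) :=
  Lgr Lrot31 (Lpe (K18.f301926 IH) (Lpr_gf (f380668 IH) (Lpr_ft (f380670 IH) (Lpn (LP (LK LD1_c1 LD2_c21 LD3_c25))))))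
theorem f567702 : Led Lsl_at (LP (LK LD1_c4 LD2_c34 LD3_c5)) = (LP (LK LD1_c2 LD2_c50 LD3_c54)) :=
  Lgr Lrot66 (Lpr_ff (f567700 IH) (Lpr_af (f380671 IH) (Lpe (f380670 IH) (Lpn (LP (LK LD1_c2 LD2_c50 LD3_c54))))))
theorem f548859 : Led Lsl_et (LP (LK LD1_c9 LD2_c5 LD3_c38)) = (LP (LK LD1_c4 LD2_c34 LD3_c5)) :=
  Lre_e IH (LK LD1_c9 LD2_c5 LD3_c38) (LK LD1_c4 LD2_c34 LD3_c5) Lrfl Lrfl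
theorem f491558 : Led Lsl_et (LP (LK LD1_c2 LD2_c50 LD3_c54)) = (LP (LK LD1_c5 LD2_c49 LD3_c35)) :=
  Lre_e IH (LK LD1_c2 LD2_c50 LD3_c54) (LK LD1_c5 LD2_c49 LD3_c35) Lrfl Lrfl
theorem f567704 : Led Lsl_af (LP (LK LD1_c9 LD2_c5 LD3_c38)) = (LP (LK LD1_c5 LD2_c49 LD3_c35)) :=
  Lgr Lrot50 (Lpr_et (f548859 IH) (Lpr_at (f567702 IH) (Lpr_et (f491558 IH) (Lpn (LP (LK LD1_c5 LD2_c49 LD3_c35))))))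
theorem f505173 : Led Lsl_ct (LP (LK LD1_c9 LD2_c5 LD3_c38)) = (LP (LK LD1_c4 LD2_c34 LD3_c3)) :=
  Lre_c IH (LK LD1_c9 LD2_c5 LD3_c38) (LK LD1_c4 LD2_c34 LD3_c3) Lrfl Lrfl
theorem f567708 : Led Lsl_ct (LP (LK LD1_c2 LD2_c50 LD3_c55)) = (LP (LK LD1_c5 LD2_c49 LD3_c35)) :=
  Lre_c IH (LK LD1_c2 LD2_c50 LD3_c55) (LK LD1_c5 LD2_c49 LD3_c35) Lrfl Lrfl
theorem f567709 : Led Lsl_at (LP (LK LD1_c4 LD2_c34 LD3_c3)) = (LP (LK LD1_c2 LD2_c50 LD3_c55)) :=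
  Lgr Lrot107 (Lpe (f505173 IH) (Lpr_af (f567704 IH) (Lpe (f567708 IH) (Lpn (LP (LK LD1_c2 LD2_c50 LD3_c55))))))
theorem f567718 : Led Lsl_ft (LP (LK LD1_c9 LD2_c5 LD3_c39)) = (LP (LK LD1_c4 LD2_c34 LD3_c3)) :=
  Lre_f IH (LK LD1_c9 LD2_c5 LD3_c39) (LK LD1_c4 LD2_c34 LD3_c3) Lrfl Lrfl
theorem f567719 : Led Lsl_ft (LP (LK LD1_c2 LD2_c50 LD3_c55)) = (LP (LK LD1_c5 LD2_c49 LD3_c1)) :=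
  Lre_f IH (LK LD1_c2 LD2_c50 LD3_c55) (LK LD1_c5 LD2_c49 LD3_c1) Lrfl Lrfl
theorem f567720 : Led Lsl_af (LP (LK LD1_c9 LD2_c5 LD3_c39)) = (LP (LK LD1_c5 LD2_c49 LD3_c1)) :=
  Lgr Lrot45 (Lpr_ft (f567718 IH) (Lpr_at (f567709 IH) (Lpr_ft (f567719 IH) (Lpn (LP (LK LD1_c5 LD2_c49 LD3_c1))))))
theorem f143150 : Led Lsl_dt (LP (LK LD1_c9 LD2_c5 LD3_c39)) = (LP (LK LD1_c4 LD2_c34 LD3_c4)) :=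
  Lre_d IH (LK LD1_c9 LD2_c5 LD3_c39) (LK LD1_c4 LD2_c34 LD3_c4) Lrfl Lrfl
theorem f143132 : Led Lsl_at (LP (LK LD1_c4 LD2_c34 LD3_c4)) = (LP (LK LD1_c9 LD2_c5 LD3_c27)) :=
  Lre_a IH (LK LD1_c4 LD2_c34 LD3_c4) (LK LD1_c9 LD2_c5 LD3_c27) Lrfl Lrfl
theorem f567732 : Led Lsl_dt (LP (LK LD1_c9 LD2_c5 LD3_c27)) = (LP (LK LD1_c5 LD2_c49 LD3_c1)) :=
  Lgr Lrot44 (Lpe (f143132 IH) (Lpe (f143150 IH) (Lpr_af (f567720 IH) (Lpn (LP (LK LD1_c5 LD2_c49 LD3_c1))))))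
theorem f146424 : Led Lsl_et (LP (LK LD1_c5 LD2_c49 LD3_c1)) = (LP (LK LD1_c2 LD2_c50 LD3_c34)) :=
  Lre_e IH (LK LD1_c5 LD2_c49 LD3_c1) (LK LD1_c2 LD2_c50 LD3_c34) Lrfl Lrfl
theorem f57180 : Led Lsl_dt (LP (LK LD1_c2 LD2_c50 LD3_c34)) = (LP (LK LD1_c1 LD2_c21 LD3_c17)) :=
  Lre_d IH (LK LD1_c2 LD2_c50 LD3_c34) (LK LD1_c1 LD2_c21 LD3_c17) Lrfl Lrfl
theorem f567746 : Led Lsl_ef (LP (LK LD1_c9 LD2_c5 LD3_c27)) = (LP (LK LD1_c4 LD2_c34 LD3_c39)) :=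
  Lgr Lrot73 (Lpr_dt (f567732 IH) (Lpr_et (f146424 IH) (Lpr_dt (f57180 IH) (Lpe (K6.f146440 IH) (Lpr_dt (K6.f92118 IH) (Lpn (LP (LK LD1_c4 LD2_c34 LD3_c39))))))))
theorem f567753 : Led Lsl_et (LP (LK LD1_c9 LD2_c5 LD3_c27)) = (LP (LK LD1_c4 LD2_c34 LD3_c39)) :=
  Lgr Lrot87 (Lpr_ef (f567746 IH) (Lpn (LP (LK LD1_c4 LD2_c34 LD3_c39))))
theorem f437340 : Led Lsl_ct (LP (LK LD1_c16 LD2_c57 LD3_c26)) = (LP (LK LD1_c9 LD2_c5 LD3_c27)) :=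
  Lre_c IH (LK LD1_c16 LD2_c57 LD3_c26) (LK LD1_c9 LD2_c5 LD3_c27) Lrfl Lrfl
theorem f567757 : Led Lsl_ef (LP (LK LD1_c16 LD2_c57 LD3_c26)) = (LP (LK LD1_c9 LD2_c6 LD3_c9)) :=
  Lgr Lrot28 (Lpr_ct (f437340 IH) (Lpr_et (f567753 IH) (Lpr_ct (K6.f92119 IH) (Lpn (LP (LK LD1_c9 LD2_c6 LD3_c9))))))
theorem f437359 : Led Lsl_at (LP (LK LD1_c16 LD2_c57 LD3_c26)) = (LP (LK LD1_c9 LD2_c5 LD3_c32)) :=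
  Lre_a IH (LK LD1_c16 LD2_c57 LD3_c26) (LK LD1_c9 LD2_c5 LD3_c32) Lrfl Lrfl
theorem f139838 : Led Lsl_ct (LP (LK LD1_c5 LD2_c50 LD3_c19)) = (LP (LK LD1_c2 LD2_c51 LD3_c24)) :=
  Lre_c IH (LK LD1_c5 LD2_c50 LD3_c19) (LK LD1_c2 LD2_c51 LD3_c24) Lrfl Lrfl
theorem f143133 : Led Lsl_ct (LP (LK LD1_c4 LD2_c34 LD3_c4)) = (LP (LK LD1_c9 LD2_c5 LD3_c32)) :=
  Lre_c IH (LK LD1_c4 LD2_c34 LD3_c4) (LK LD1_c9 LD2_c5 LD3_c32) Lrfl Lrfl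
theorem f143134 : Led Lsl_ef (LP (LK LD1_c5 LD2_c50 LD3_c19)) = (LP (LK LD1_c9 LD2_c5 LD3_c32)) :=
  Lgr Lrot28 (Lpr_ct (f139838 IH) (Lpr_et (K6.f143128 IH) (Lpr_ct (f143133 IH) (Lpn (LP (LK LD1_c9 LD2_c5 LD3_c32))))))
theorem f567759 : Led Lsl_at (LP (LK LD1_c5 LD2_c50 LD3_c19)) = (LP (LK LD1_c9 LD2_c6 LD3_c9)) :=
  Lgr Lrot80 (Lpr_ef (f143134 IH) (Lpe (f437359 IH) (Lpr_ef (f567757 IH) (Lpn (LP (LK LD1_c9 LD2_c6 LD3_c9))))))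
theorem f139815 : Led Lsl_gt (LP (LK LD1_c2 LD2_c51 LD3_c21)) = (LP (LK LD1_c5 LD2_c50 LD3_c16)) :=
  Lre_g IH (LK LD1_c2 LD2_c51 LD3_c21) (LK LD1_c5 LD2_c50 LD3_c16) Lrfl Lrfl
theorem f614746 : Led Lsl_gt (LP (LK LD1_c5 LD2_c50 LD3_c16)) = (LP (LK LD1_c9 LD2_c6 LD3_c9)) :=
  Lgr Lrot46 (Lpe (f139815 IH) (Lpr_ft (K6.f139812 IH) (Lpr_at (f567759 IH) (Lpn (LP (LK LD1_c9 LD2_c6 LD3_c9))))))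
theorem f92130 : Led Lsl_ct (LP (LK LD1_c9 LD2_c6 LD3_c9)) = (LP (LK LD1_c4 LD2_c34 LD3_c39)) :=
  Lre_c IH (LK LD1_c9 LD2_c6 LD3_c9) (LK LD1_c4 LD2_c34 LD3_c39) Lrfl Lrfl
theorem f614828 : Led Lsl_cf (LP (LK LD1_c5 LD2_c50 LD3_c16)) = (LP (LK LD1_c2 LD2_c57 LD3_c26)) :=
  Lgr Lrot169 (Lpr_gt (f614746 IH) (Lpr_ct (f92130 IH) (Lpe (K6.f92118 IH) (Lpr_cf (K6.f92110 IH) (Lpe (K32.f146019 IH) (Lpr_cf (K35.f435573 IH) (Lpe (K32.f68929 IH) (Lpe (K11.f68640 IH) (Lpr_gt (K29.f22977 IH) (Lpn (LP (LK LD1_c2 LD2_c57 LD3_c26))))))))))))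
theorem f614832 : Led Lsl_ct (LP (LK LD1_c5 LD2_c50 LD3_c16)) = (LP (LK LD1_c2 LD2_c57 LD3_c26)) :=
  Lgr Lrot59 (Lpr_cf (f614828 IH) (Lpn (LP (LK LD1_c2 LD2_c57 LD3_c26))))
theorem f437261 : Led Lsl_bt (LP (LK LD1_c16 LD2_c57 LD3_c26)) = (LP (LK LD1_c26 LD2_c53 LD3_c17)) :=
  Lre_b IH (LK LD1_c16 LD2_c57 LD3_c26) (LK LD1_c26 LD2_c53 LD3_c17) Lrfl Lrfl
theorem f135641 : Led Lsl_bt (LP (LK LD1_c16 LD2_c57 LD3_c54)) = (LP (LK LD1_c9 LD2_c6 LD3_c9)) :=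
  Lre_b IH (LK LD1_c16 LD2_c57 LD3_c54) (LK LD1_c9 LD2_c6 LD3_c9) Lrfl Lrfl
theorem f567761 : Led Lsl_et (LP (LK LD1_c26 LD2_c53 LD3_c17)) = (LP (LK LD1_c16 LD2_c57 LD3_c54)) :=
  Lgr Lrot74 (Lpe (f437261 IH) (Lpr_ef (f567757 IH) (Lpe (f135641 IH) (Lpn (LP (LK LD1_c16 LD2_c57 LD3_c54))))))
theorem f437457 : Led Lsl_ft (LP (LK LD1_c16 LD2_c57 LD3_c25)) = (LP (LK LD1_c26 LD2_c53 LD3_c17)) :=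
  Lre_f IH (LK LD1_c16 LD2_c57 LD3_c25) (LK LD1_c26 LD2_c53 LD3_c17) Lrfl Lrfl
theorem f438783 : Led Lsl_ft (LP (LK LD1_c16 LD2_c57 LD3_c54)) = (LP (LK LD1_c9 LD2_c6 LD3_c8)) :=
  Lre_f IH (LK LD1_c16 LD2_c57 LD3_c54) (LK LD1_c9 LD2_c6 LD3_c8) Lrfl Lrfl
theorem f567765 : Led Lsl_et (LP (LK LD1_c9 LD2_c6 LD3_c8)) = (LP (LK LD1_c4 LD2_c34 LD3_c40)) :=
  Lre_e IH (LK LD1_c9 LD2_c6 LD3_c8) (LK LD1_c4 LD2_c34 LD3_c40) Lrfl Lrfl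
theorem f567766 : Led Lsl_ff (LP (LK LD1_c9 LD2_c5 LD3_c23)) = (LP (LK LD1_c4 LD2_c34 LD3_c40)) :=
  Lgr Lrot72 (Lpr_et (K32.f437301 IH) (Lpr_ft (f437457 IH) (Lpr_et (f567761 IH) (Lpr_ft (f438783 IH) (Lpr_et (f567765 IH) (Lpn (LP (LK LD1_c4 LD2_c34 LD3_c40))))))))
theorem f437299 : Led Lsl_at (LP (LK LD1_c9 LD2_c5 LD3_c23)) = (LP (LK LD1_c4 LD2_c48 LD3_c12)) :=
  Lgr Lrot107 (Lpr_cf (K32.f437296 IH) (Lpe (K6.f57249 IH) (Lpr_cf (K6.f145272 IH) (Lpn (LP (LK LD1_c4 LD2_c48 LD3_c12))))))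
theorem f135828 : Led Lsl_ft (LP (LK LD1_c9 LD2_c5 LD3_c49)) = (LP (LK LD1_c5 LD2_c48 LD3_c6)) :=
  Lgr Lrot101 (Lpr_af (K8.f92190 IH) (Lpr_ff (K6.f135825 IH) (Lpr_af (K6.f57444 IH) (Lpn (LP (LK LD1_c5 LD2_c48 LD3_c6))))))
theorem f145114 : Led Lsl_dt (LP (LK LD1_c5 LD2_c48 LD3_c6)) = (LP (LK LD1_c6 LD2_c54 LD3_c46)) :=
  Lgr Lrot60 (Lpe (f135828 IH) (Lpr_df (K11.f135821 IH) (Lpr_ff (K6.f145112 IH) (Lpn (LP (LK LD1_c6 LD2_c54 LD3_c46))))))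
theorem f143170 : Led Lsl_ct (LP (LK LD1_c2 LD2_c13 LD3_c51)) = (LP (LK LD1_c4 LD2_c33 LD3_c56)) :=
  Lre_c IH (LK LD1_c2 LD2_c13 LD3_c51) (LK LD1_c4 LD2_c33 LD3_c56) Lrfl Lrfl
theorem f437285 : Led Lsl_ct (LP (LK LD1_c9 LD2_c5 LD3_c23)) = (LP (LK LD1_c5 LD2_c48 LD3_c6)) :=
  Lgr Lrot83 (Lpe (K32.f437284 IH) (Lpe (f143170 IH) (Lpr_bf (K32.f437279 IH) (Lpe (K6.f135840 IH) (Lpe (K6.f57248 IH) (Lpn (LP (LK LD1_c5 LD2_c48 LD3_c6))))))))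
theorem f558051 : Led Lsl_gf (LP (LK LD1_c14 LD2_c19 LD3_c50)) = (LP (LK LD1_c12 LD2_c10 LD3_c40)) :=
  Lgr Lrot104 (Lpe (K0.f14749 IH) (Lpe (K0.f14713 IH) (Lpe (K0.f14712 IH) (Lpe (K11.f14735 IH) (Lpe (K11.f139674 IH) (Lpe (K11.f24855 IH) (Lpe (K7.f144366 IH) (Lpr_gt (K40.f11770 IH) (Lpr_ct (K40.f558037 IH) (Lpn (LP (LK LD1_c12 LD2_c10 LD3_c40))))))))))))
theorem f567683 : Led Lsl_df (LP (LK LD1_c9 LD2_c5 LD3_c23)) = (LP (LK LD1_c4 LD2_c34 LD3_c13)) :=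
  Lgr Lrot153 (Lpr_gt (K32.f437291 IH) (Lpr_dt (K32.f205935 IH) (Lpe (K11.f13335 IH) (Lpe (K11.f205929 IH) (Lpr_gf (K11.f16679 IH) (Lpe (K0.f14729 IH) (Lpr_gf (f558051 IH) (Lpe (K40.f558037 IH) (Lpr_gt (f567677 IH) (Lpn (LP (LK LD1_c4 LD2_c34 LD3_c13))))))))))))
theorem f567689 : Led Lsl_ct (LP (LK LD1_c7 LD2_c51 LD3_c57)) = (LP (LK LD1_c4 LD2_c34 LD3_c13)) :=
  Lgr Lrot59 (Lpr_cf (f567685 IH) (Lpn (LP (LK LD1_c4 LD2_c34 LD3_c13))))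
theorem f567776 : Led Lsl_df (LP (LK LD1_c7 LD2_c51 LD3_c57)) = (LP (LK LD1_c4 LD2_c34 LD3_c40)) :=
  Lgr Lrot157 (Lpr_ct (f567689 IH) (Lpe (f567683 IH) (Lpr_ct (f437285 IH) (Lpr_dt (f145114 IH) (Lpr_ct (K8.f145145 IH) (Lpr_dt (K6.f57468 IH) (Lpe (K11.f144018 IH) (Lpe (f437299 IH) (Lpr_ff (f567766 IH) (Lpn (LP (LK LD1_c4 LD2_c34 LD3_c40))))))))))))
theorem f567782 : Led Lsl_gt (LP (LK LD1_c7 LD2_c36 LD3_c14)) = (LP (LK LD1_c4 LD2_c34 LD3_c40)) :=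
  Lgr Lrot49 (Lpr_df (K11.f205948 IH) (Lpe (K11.f13329 IH) (Lpe (K11.f12920 IH) (Lpr_gt (K37.f13328 IH) (Lpe (K37.f205866 IH) (Lpe (K32.f437306 IH) (Lpr_dt (f567692 IH) (Lpe (f567689 IH) (Lpr_df (f567776 IH) (Lpn (LP (LK LD1_c4 LD2_c34 LD3_c40))))))))))))
theorem f567785 : Led Lsl_cf (LP (LK LD1_c9 LD2_c5 LD3_c49)) = (LP (LK LD1_c4 LD2_c34 LD3_c40)) :=
  Lgr Lrot99 (Lpr_df (K11.f135821 IH) (Lpr_cf (K8.f145131 IH) (Lpr_gf (K8.f145118 IH) (Lpe (K11.f15659 IH) (Lpr_gf (K3.f17110 IH) (Lpe (K0.f16062 IH) (Lpr_gt (K7.f16116 IH) (Lpr_ct (K7.f16118 IH) (Lpr_gt (f567782 IH) (Lpn (LP (LK LD1_c4 LD2_c34 LD3_c40))))))))))))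
theorem f567778 : Led Lsl_dt (LP (LK LD1_c7 LD2_c51 LD3_c57)) = (LP (LK LD1_c4 LD2_c34 LD3_c40)) :=
  Lgr Lrot42 (Lpr_df (f567776 IH) (Lpn (LP (LK LD1_c4 LD2_c34 LD3_c40))))
theorem f567772 : Led Lsl_ft (LP (LK LD1_c9 LD2_c5 LD3_c23)) = (LP (LK LD1_c4 LD2_c34 LD3_c40)) :=
  Lgr Lrot48 (Lpr_ff (f567766 IH) (Lpn (LP (LK LD1_c4 LD2_c34 LD3_c40))))
theorem f614558 : Led Lsl_af (LP (LK LD1_c3 LD2_c18 LD3_c57)) = (LP (LK LD1_c4 LD2_c34 LD3_c40)) :=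
  Lgr Lrot109 (Lpe (K6.f145268 IH) (Lpr_df (K6.f135781 IH) (Lpe (K6.f145137 IH) (Lpr_df (K6.f145124 IH) (Lpr_cf (f567785 IH) (Lpe (f567778 IH) (Lpr_cf (f567685 IH) (Lpe (f567692 IH) (Lpr_ft (f567772 IH) (Lpn (LP (LK LD1_c4 LD2_c34 LD3_c40))))))))))))
theorem f144435 : Led Lsl_et (LP (LK LD1_c3 LD2_c18 LD3_c57)) = (LP (LK LD1_c6 LD2_c41 LD3_c53)) :=
  Lre_e IH (LK LD1_c3 LD2_c18 LD3_c57) (LK LD1_c6 LD2_c41 LD3_c53) Lrfl Lrfl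
theorem f614560 : Led Lsl_at (LP (LK LD1_c6 LD2_c41 LD3_c53)) = (LP (LK LD1_c9 LD2_c6 LD3_c8)) :=
  Lgr Lrot80 (Lpe (f144435 IH) (Lpr_af (f614558 IH) (Lpe (f567765 IH) (Lpn (LP (LK LD1_c9 LD2_c6 LD3_c8))))))
theorem f144441 : Led Lsl_ft (LP (LK LD1_c12 LD2_c48 LD3_c61)) = (LP (LK LD1_c6 LD2_c41 LD3_c53)) :=
  Lre_f IH (LK LD1_c12 LD2_c48 LD3_c61) (LK LD1_c6 LD2_c41 LD3_c53) Lrfl Lrfl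
theorem f438782 : Led Lsl_ft (LP (LK LD1_c9 LD2_c6 LD3_c8)) = (LP (LK LD1_c16 LD2_c57 LD3_c54)) :=
  Lre_f IH (LK LD1_c9 LD2_c6 LD3_c8) (LK LD1_c16 LD2_c57 LD3_c54) Lrfl Lrfl
theorem f614566 : Led Lsl_af (LP (LK LD1_c12 LD2_c48 LD3_c61)) = (LP (LK LD1_c16 LD2_c57 LD3_c54)) :=
  Lgr Lrot45 (Lpr_ft (f144441 IH) (Lpr_at (f614560 IH) (Lpr_ft (f438782 IH) (Lpn (LP (LK LD1_c16 LD2_c57 LD3_c54))))))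
theorem f614568 : Led Lsl_at (LP (LK LD1_c12 LD2_c48 LD3_c61)) = (LP (LK LD1_c16 LD2_c57 LD3_c54)) :=
  Lgr Lrot100 (Lpr_af (f614566 IH) (Lpn (LP (LK LD1_c16 LD2_c57 LD3_c54))))
theorem f139826 : Led Lsl_bt (LP (LK LD1_c6 LD2_c41 LD3_c57)) = (LP (LK LD1_c12 LD2_c48 LD3_c61)) :=
  Lre_b IH (LK LD1_c6 LD2_c41 LD3_c57) (LK LD1_c12 LD2_c48 LD3_c61) Lrfl Lrfl
theorem f139825 : Led Lsl_at (LP (LK LD1_c3 LD2_c19 LD3_c11)) = (LP (LK LD1_c6 LD2_c41 LD3_c57)) :=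
  Lre_a IH (LK LD1_c3 LD2_c19 LD3_c11) (LK LD1_c6 LD2_c41 LD3_c57) Lrfl Lrfl
theorem f614570 : Led Lsl_af (LP (LK LD1_c5 LD2_c50 LD3_c19)) = (LP (LK LD1_c9 LD2_c6 LD3_c9)) :=
  Lgr Lrot36 (Lpe (K6.f139813 IH) (Lpr_at (f139825 IH) (Lpr_bt (f139826 IH) (Lpr_at (f614568 IH) (Lpr_bt (f135641 IH) (Lpn (LP (LK LD1_c9 LD2_c6 LD3_c9))))))))
theorem f135647 : Led Lsl_ft (LP (LK LD1_c4 LD2_c34 LD3_c38)) = (LP (LK LD1_c9 LD2_c6 LD3_c9)) :=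
  Lre_f IH (LK LD1_c4 LD2_c34 LD3_c38) (LK LD1_c9 LD2_c6 LD3_c9) Lrfl Lrfl
theorem f614575 : Led Lsl_gt (LP (LK LD1_c4 LD2_c34 LD3_c38)) = (LP (LK LD1_c9 LD2_c6 LD3_c6)) :=
  Lre_g IH (LK LD1_c4 LD2_c34 LD3_c38) (LK LD1_c9 LD2_c6 LD3_c6) Lrfl Lrfl
theorem f614576 : Led Lsl_gf (LP (LK LD1_c5 LD2_c50 LD3_c19)) = (LP (LK LD1_c9 LD2_c6 LD3_c6)) :=
  Lgr Lrot76 (Lpr_af (f614570 IH) (Lpe (f135647 IH) (Lpr_gt (f614575 IH) (Lpn (LP (LK LD1_c9 LD2_c6 LD3_c6))))))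
theorem f143139 : Led Lsl_ft (LP (LK LD1_c1 LD2_c21 LD3_c45)) = (LP (LK LD1_c2 LD2_c51 LD3_c24)) :=
  Lre_f IH (LK LD1_c1 LD2_c21 LD3_c45) (LK LD1_c2 LD2_c51 LD3_c24) Lrfl Lrfl
theorem f537657 : K31.v1574 = (LP (LK LD1_c2 LD2_c51 LD3_c24)) :=
  Lefun (Lecon (K35.f500156 IH) (K35.f537263 IH)) (f143139 IH)
theorem f435405 : Led Lsl_cf (LP (LK LD1_c1 LD2_c8 LD3_c6)) = (LP (LK LD1_c2 LD2_c16 LD3_c27)) :=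
  Lgr Lrot11 (Lpr_ct (K32.f435403 IH) (Lpn (LP (LK LD1_c2 LD2_c16 LD3_c27))))
theorem f614578 : Led Lsl_ct (LP (LK LD1_c4 LD2_c38 LD3_c57)) = (LP (LK LD1_c9 LD2_c6 LD3_c6)) :=
  Lgr Lrot152 (Lpe (K35.f27078 IH) (Lpe (K11.f26933 IH) (Lpr_gt (K8.f27026 IH) (Lpe (f435405 IH) (Lpe (K32.f146055 IH) (Lpr_ct (K6.f139833 IH) (Lpr_df (K35.f500153 IH) (Lpqs (f537657 IH) (Lpe (f139838 IH) (Lpr_gf (f614576 IH) (Lpn (LP (LK LD1_c9 LD2_c6 LD3_c6)))))))))))))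
theorem f614838 : Led Lsl_af (LP (LK LD1_c5 LD2_c50 LD3_c16)) = (LP (LK LD1_c9 LD2_c6 LD3_c6)) :=
  Lgr Lrot68 (Lpr_ct (f614832 IH) (Lpr_at (K35.f508149 IH) (Lpr_ct (f614578 IH) (Lpn (LP (LK LD1_c9 LD2_c6 LD3_c6))))))
theorem f139820 : Led Lsl_gt (LP (LK LD1_c5 LD2_c50 LD3_c17)) = (LP (LK LD1_c2 LD2_c51 LD3_c21)) :=
  Lre_g IH (LK LD1_c5 LD2_c50 LD3_c17) (LK LD1_c2 LD2_c51 LD3_c21) Lrfl Lrfl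
theorem f614861 : Led Lsl_ft (LP (LK LD1_c5 LD2_c50 LD3_c17)) = (LP (LK LD1_c9 LD2_c6 LD3_c6)) :=
  Lgr Lrot2 (Lpr_gt (f139820 IH) (Lpr_gt (f139815 IH) (Lpr_af (f614838 IH) (Lpn (LP (LK LD1_c9 LD2_c6 LD3_c6))))))
theorem f58950 : Led Lsl_dt (LP (LK LD1_c1 LD2_c4 LD3_c11)) = (LP (LK LD1_c2 LD2_c14 LD3_c16)) :=
  Lre_d IH (LK LD1_c1 LD2_c4 LD3_c11) (LK LD1_c2 LD2_c14 LD3_c16) Lrfl Lrfl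
theorem f79854 : Led Lsl_ct (LP (LK LD1_c4 LD2_c34 LD3_c38)) = (LP (LK LD1_c2 LD2_c14 LD3_c16)) :=
  Lre_c IH (LK LD1_c4 LD2_c34 LD3_c38) (LK LD1_c2 LD2_c14 LD3_c16) Lrfl Lrfl
theorem f92162 : Led Lsl_gt (LP (LK LD1_c9 LD2_c6 LD3_c7)) = (LP (LK LD1_c4 LD2_c34 LD3_c38)) :=
  Lre_g IH (LK LD1_c9 LD2_c6 LD3_c7) (LK LD1_c4 LD2_c34 LD3_c38) Lrfl Lrfl
theorem f419090 : Led Lsl_cf (LP (LK LD1_c9 LD2_c6 LD3_c7)) = (LP (LK LD1_c4 LD2_c38 LD3_c58)) :=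
  Lgr Lrot169 (Lpr_gt (f92162 IH) (Lpr_ct (f79854 IH) (Lpe (f58950 IH) (Lpr_cf (K6.f92135 IH) (Lpe (K32.f20101 IH) (Lpe (K35.f27083 IH) (Lpe (K16.f204267 IH) (Lpe (K11.f204259 IH) (Lpr_gt (K32.f419087 IH) (Lpn (LP (LK LD1_c4 LD2_c38 LD3_c58))))))))))))
theorem f419096 : Led Lsl_ct (LP (LK LD1_c9 LD2_c6 LD3_c7)) = (LP (LK LD1_c4 LD2_c38 LD3_c58)) :=
  Lgr Lrot59 (Lpr_cf (f419090 IH) (Lpn (LP (LK LD1_c4 LD2_c38 LD3_c58))))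
theorem f614834 : Led Lsl_ft (LP (LK LD1_c5 LD2_c50 LD3_c16)) = (LP (LK LD1_c9 LD2_c6 LD3_c7)) :=
  Lgr Lrot4 (Lpr_cf (f614828 IH) (Lpr_ff (K35.f508145 IH) (Lpe (f419096 IH) (Lpn (LP (LK LD1_c9 LD2_c6 LD3_c7))))))
theorem f614863 : Led Lsl_af (LP (LK LD1_c5 LD2_c50 LD3_c17)) = (LP (LK LD1_c9 LD2_c6 LD3_c7)) :=
  Lgr Lrot45 (Lpr_ft (f614861 IH) (Lpe (f614838 IH) (Lpr_ft (f614834 IH) (Lpn (LP (LK LD1_c9 LD2_c6 LD3_c7))))))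
theorem f615352 : Led Lsl_gf (LP (LK LD1_c5 LD2_c50 LD3_c17)) = (LP (LK LD1_c9 LD2_c6 LD3_c9)) :=
  Lgr Lrot76 (Lpr_af (f614863 IH) (Lpe (f614834 IH) (Lpr_gt (f614746 IH) (Lpn (LP (LK LD1_c9 LD2_c6 LD3_c9))))))
theorem f614869 : Led Lsl_ff (LP (LK LD1_c5 LD2_c50 LD3_c17)) = (LP (LK LD1_c9 LD2_c6 LD3_c6)) :=
  Lgr Lrot3 (Lpr_ft (f614861 IH) (Lpn (LP (LK LD1_c9 LD2_c6 LD3_c6))))
theorem f508240 : Led Lsl_ff (LP (LK LD1_c2 LD2_c57 LD3_c27)) = (LP (LK LD1_c4 LD2_c38 LD3_c57)) :=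
  Lgr Lrot19 (Lpr_dt (K35.f204309 IH) (Lpr_ft (K35.f435628 IH) (Lpr_dt (K35.f508179 IH) (Lpn (LP (LK LD1_c4 LD2_c38 LD3_c57))))))
theorem f508246 : Led Lsl_ft (LP (LK LD1_c2 LD2_c57 LD3_c27)) = (LP (LK LD1_c4 LD2_c38 LD3_c57)) :=
  Lgr Lrot48 (Lpr_ff (f508240 IH) (Lpn (LP (LK LD1_c4 LD2_c38 LD3_c57))))
theorem f614876 : Led Lsl_ct (LP (LK LD1_c5 LD2_c50 LD3_c17)) = (LP (LK LD1_c2 LD2_c57 LD3_c27)) :=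
  Lgr Lrot40 (Lpr_ff (f614869 IH) (Lpe (f614578 IH) (Lpe (f508246 IH) (Lpn (LP (LK LD1_c2 LD2_c57 LD3_c27))))))
theorem f535799 : Led Lsl_gt (LP (LK LD1_c5 LD2_c51 LD3_c56)) = (LP (LK LD1_c2 LD2_c52 LD3_c12)) :=
  Lre_g IH (LK LD1_c5 LD2_c51 LD3_c56) (LK LD1_c2 LD2_c52 LD3_c12) Lrfl Lrfl
theorem f535800 : Led Lsl_ft (LP (LK LD1_c5 LD2_c51 LD3_c56)) = (LP (LK LD1_c3 LD2_c3 LD3_c0)) :=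
  Lgr Lrot2 (Lpr_gt (f535799 IH) (Lpr_gt (K35.f535796 IH) (Lpr_af (K35.f504367 IH) (Lpn (LP (LK LD1_c3 LD2_c3 LD3_c0))))))
theorem f535808 : Led Lsl_ff (LP (LK LD1_c5 LD2_c51 LD3_c56)) = (LP (LK LD1_c3 LD2_c3 LD3_c0)) :=
  Lgr Lrot3 (Lpr_ft (f535800 IH) (Lpn (LP (LK LD1_c3 LD2_c3 LD3_c0))))
theorem f535810 : Led Lsl_ct (LP (LK LD1_c5 LD2_c51 LD3_c56)) = (LP (LK LD1_c3 LD2_c3 LD3_c4)) :=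
  Lgr Lrot40 (Lpr_ff (f535808 IH) (Lpe (K9.f24639 IH) (Lpe (K32.f453014 IH) (Lpn (LP (LK LD1_c3 LD2_c3 LD3_c4))))))
theorem f615354 : Led Lsl_gf (LP (LK LD1_c5 LD2_c51 LD3_c56)) = (LP (LK LD1_c5 LD2_c50 LD3_c22)) :=
  Lgr Lrot147 (Lpr_ct (f535810 IH) (Lpe (K32.f503649 IH) (Lpr_ct (K35.f435587 IH) (Lpe (K35.f204309 IH) (Lpe (f614876 IH) (Lpr_gf (f615352 IH) (Lpe (K6.f92119 IH) (Lpr_gf (K35.f536245 IH) (Lpqs (K35.f537647 IH) (Lpe (K35.f500021 IH) (Lpn (LP (LK LD1_c5 LD2_c50 LD3_c22)))))))))))))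
theorem f535804 : Led Lsl_df (LP (LK LD1_c5 LD2_c51 LD3_c56)) = (LP (LK LD1_c6 LD2_c21 LD3_c41)) :=
  Lgr Lrot78 (Lpr_ft (f535800 IH) (Lpr_dt (K9.f139900 IH) (Lpe (K35.f504383 IH) (Lpn (LP (LK LD1_c6 LD2_c21 LD3_c41))))))
theorem f446048 : Led Lsl_dt (LP (LK LD1_c2 LD2_c51 LD3_c22)) = (LP (LK LD1_c5 LD2_c50 LD3_c22)) :=
  Lre_d IH (LK LD1_c2 LD2_c51 LD3_c22) (LK LD1_c5 LD2_c50 LD3_c22) Lrfl Lrfl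
theorem f448922 : Led Lsl_dt (LP (LK LD1_c1 LD2_c21 LD3_c41)) = (LP (LK LD1_c0 LD2_c37 LD3_c48)) :=
  Lre_d IH (LK LD1_c1 LD2_c21 LD3_c41) (LK LD1_c0 LD2_c37 LD3_c48) Lrfl Lrfl
theorem f496477 : Led Lsl_gt (LP (LK LD1_c5 LD2_c50 LD3_c8)) = (LP (LK LD1_c2 LD2_c51 LD3_c14)) :=
  Lre_g IH (LK LD1_c5 LD2_c50 LD3_c8) (LK LD1_c2 LD2_c51 LD3_c14) Lrfl Lrfl
theorem f615357 : Led Lsl_et (LP (LK LD1_c6 LD2_c21 LD3_c41)) = (LP (LK LD1_c5 LD2_c50 LD3_c8)) :=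
  Lgr Lrot185 (Lpe (f535804 IH) (Lpr_gf (f615354 IH) (Lpe (f446048 IH) (Lpe (K35.f139897 IH) (Lpe (K35.f143140 IH) (Lpr_dt (K36.f26548 IH) (Lpe (K11.f21185 IH) (Lpe (f448922 IH) (Lpr_et (K32.f448947 IH) (Lpe (f496477 IH) (Lpn (LP (LK LD1_c5 LD2_c50 LD3_c8)))))))))))))
theorem f615361 : Led Lsl_ef (LP (LK LD1_c6 LD2_c21 LD3_c41)) = (LP (LK LD1_c5 LD2_c50 LD3_c8)) :=
  Lgr Lrot88 (Lpr_et (f615357 IH) (Lpn (LP (LK LD1_c5 LD2_c50 LD3_c8))))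
theorem f139917 : Led Lsl_et (LP (LK LD1_c1 LD2_c27 LD3_c24)) = (LP (LK LD1_c3 LD2_c3 LD3_c0)) :=
  Lre_e IH (LK LD1_c1 LD2_c27 LD3_c24) (LK LD1_c3 LD2_c3 LD3_c0) Lrfl Lrfl
def v1794 : LQ := Led Lsl_at (LP (LK LD1_c1 LD2_c27 LD3_c20))
theorem f502943 : Led Lsl_at (LP (LK LD1_c1 LD2_c27 LD3_c20)) = v1794 :=
  Lrfl
theorem f502945 : Led Lsl_cf K32.v461 = v1794 :=
  Lgr Lrot1 (Lpe (K32.f453010 IH) (Lpr_ct (K16.f413472 IH) (Lpr_at (f502943 IH) (Lpn v1794))))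
theorem f502947 : Led Lsl_ft (LP (LK LD1_c1 LD2_c27 LD3_c24)) = v1794 :=
  Lgr Lrot4 (Lpe (K9.f59839 IH) (Lpr_ff (K32.f453015 IH) (Lpr_cf (f502945 IH) (Lpn v1794))))
theorem f502948 : Led Lsl_ff (LP (LK LD1_c1 LD2_c27 LD3_c24)) = v1794 :=
  Lgr Lrot3 (Lpr_ft (f502947 IH) (Lpn v1794))
theorem f502946 : Led Lsl_ct K32.v461 = v1794 :=
  Lgr Lrot59 (Lpr_cf (f502945 IH) (Lpn v1794))
theorem f503338 : v1794 = (LP (LK LD1_c2 LD2_c17 LD3_c35)) :=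
  Lefun (Lecon (f502946 IH) (K32.f503330 IH)) (K16.f180335 IH)
theorem f503795 : Led Lsl_ft (LP (LK LD1_c6 LD2_c30 LD3_c24)) = (LP (LK LD1_c4 LD2_c41 LD3_c6)) :=
  Lgr Lrot4 (Lpr_cf (K35.f503791 IH) (Lpe (K32.f23240 IH) (Lpe (K32.f23231 IH) (Lpn (LP (LK LD1_c4 LD2_c41 LD3_c6))))))
theorem f535814 : Led Lsl_et (LP (LK LD1_c5 LD2_c51 LD3_c56)) = (LP (LK LD1_c6 LD2_c30 LD3_c24)) :=
  Lgr Lrot69 (Lpr_ff (f535808 IH) (Lpe (f139917 IH) (Lpr_ff (f502948 IH) (Lpqs (f503338 IH) (Lpe (K32.f413651 IH) (Lpe (f503795 IH) (Lpn (LP (LK LD1_c6 LD2_c30 LD3_c24)))))))))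
theorem f416039 : Led Lsl_et (LP (LK LD1_c3 LD2_c59 LD3_c13)) = (LP (LK LD1_c7 LD2_c59 LD3_c48)) :=
  Lre_e IH (LK LD1_c3 LD2_c59 LD3_c13) (LK LD1_c7 LD2_c59 LD3_c48) Lrfl Lrfl
theorem f615363 : Led Lsl_dt (LP (LK LD1_c7 LD2_c59 LD3_c48)) = (LP (LK LD1_c5 LD2_c50 LD3_c8)) :=
  Lgr Lrot77 (Lpe (f416039 IH) (Lpe (K32.f454661 IH) (Lpe (f535814 IH) (Lpr_df (f535804 IH) (Lpr_ef (f615361 IH) (Lpn (LP (LK LD1_c5 LD2_c50 LD3_c8))))))))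
theorem f40930 : Led Lsl_et (LP (LK LD1_c7 LD2_c59 LD3_c48)) = (LP (LK LD1_c3 LD2_c59 LD3_c13)) :=
  Lre_e IH (LK LD1_c7 LD2_c59 LD3_c48) (LK LD1_c3 LD2_c59 LD3_c13) Lrfl Lrfl
theorem f171784 : Led Lsl_et (LP (LK LD1_c0 LD2_c54 LD3_c59)) = (LP (LK LD1_c1 LD2_c56 LD3_c20)) :=
  Lre_e IH (LK LD1_c0 LD2_c54 LD3_c59) (LK LD1_c1 LD2_c56 LD3_c20) Lrfl Lrfl
theorem f615367 : Led Lsl_dt (LP (LK LD1_c2 LD2_c46 LD3_c15)) = (LP (LK LD1_c2 LD2_c51 LD3_c14)) :=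
  Lgr Lrot37 (Lpr_et (K20.f226747 IH) (Lpr_gt (K27.f226750 IH) (Lpr_dt (K27.f171771 IH) (Lpr_gt (K9.f171757 IH) (Lpe (K1.f41038 IH) (Lpr_et (f171784 IH) (Lpr_gt (K32.f36237 IH) (Lpe (f40930 IH) (Lpr_dt (f615363 IH) (Lpr_gt (f496477 IH) (Lpn (LP (LK LD1_c2 LD2_c51 LD3_c14)))))))))))))
theorem f496416 : Led Lsl_ft (LP (LK LD1_c2 LD2_c51 LD3_c14)) = (LP (LK LD1_c5 LD2_c50 LD3_c9)) :=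
  Lre_f IH (LK LD1_c2 LD2_c51 LD3_c14) (LK LD1_c5 LD2_c50 LD3_c9) Lrfl Lrfl
theorem f615375 : Led Lsl_df (LP (LK LD1_c5 LD2_c40 LD3_c40)) = (LP (LK LD1_c5 LD2_c50 LD3_c9)) :=
  Lgr Lrot78 (Lpr_ft (K20.f289435 IH) (Lpr_dt (f615367 IH) (Lpr_ft (f496416 IH) (Lpn (LP (LK LD1_c5 LD2_c50 LD3_c9))))))
theorem f289478 : Led Lsl_et (LP (LK LD1_c5 LD2_c40 LD3_c37)) = (LP (LK LD1_c2 LD2_c46 LD3_c14)) :=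
  Lre_e IH (LK LD1_c5 LD2_c40 LD3_c37) (LK LD1_c2 LD2_c46 LD3_c14) Lrfl Lrfl
theorem f165139 : Led Lsl_et (LP (LK LD1_c2 LD2_c44 LD3_c43)) = (LP (LK LD1_c5 LD2_c37 LD3_c32)) :=
  Lre_e IH (LK LD1_c2 LD2_c44 LD3_c43) (LK LD1_c5 LD2_c37 LD3_c32) Lrfl Lrfl
theorem f165112 : Led Lsl_ft (LP (LK LD1_c5 LD2_c37 LD3_c32)) = (LP (LK LD1_c11 LD2_c6 LD3_c41)) :=
  Lre_f IH (LK LD1_c5 LD2_c37 LD3_c32) (LK LD1_c11 LD2_c6 LD3_c41) Lrfl Lrfl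
theorem f289480 : Led Lsl_ef (LP (LK LD1_c11 LD2_c11 LD3_c59)) = (LP (LK LD1_c11 LD2_c6 LD3_c41)) :=
  Lgr Lrot21 (Lpr_ft (K36.f289479 IH) (Lpr_et (f289478 IH) (Lpr_ft (K20.f289471 IH) (Lpr_et (f165139 IH) (Lpr_ft (f165112 IH) (Lpn (LP (LK LD1_c11 LD2_c6 LD3_c41))))))))
theorem f165107 : Led Lsl_bt (LP (LK LD1_c5 LD2_c37 LD3_c35)) = (LP (LK LD1_c11 LD2_c6 LD3_c41)) :=
  Lre_b IH (LK LD1_c5 LD2_c37 LD3_c35) (LK LD1_c11 LD2_c6 LD3_c41) Lrfl Lrfl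
theorem f289483 : Led Lsl_et (LP (LK LD1_c5 LD2_c40 LD3_c40)) = (LP (LK LD1_c5 LD2_c37 LD3_c35)) :=
  Lgr Lrot74 (Lpe (K36.f289482 IH) (Lpr_ef (f289480 IH) (Lpe (f165107 IH) (Lpn (LP (LK LD1_c5 LD2_c37 LD3_c35))))))
theorem f496419 : Led Lsl_ff (LP (LK LD1_c1 LD2_c22 LD3_c17)) = (LP (LK LD1_c1 LD2_c21 LD3_c41)) :=
  Lgr Lrot3 (Lpr_ft (K32.f496410 IH) (Lpn (LP (LK LD1_c1 LD2_c21 LD3_c41))))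
theorem f496460 : Led Lsl_et (LP (LK LD1_c1 LD2_c22 LD3_c17)) = (LP (LK LD1_c2 LD2_c52 LD3_c25)) :=
  Lre_e IH (LK LD1_c1 LD2_c22 LD3_c17) (LK LD1_c2 LD2_c52 LD3_c25) Lrfl Lrfl
theorem f496461 : Led Lsl_ft (LP (LK LD1_c2 LD2_c52 LD3_c25)) = (LP (LK LD1_c5 LD2_c52 LD3_c14)) :=
  Lre_f IH (LK LD1_c2 LD2_c52 LD3_c25) (LK LD1_c5 LD2_c52 LD3_c14) Lrfl Lrfl
theorem f452688 : Led Lsl_et (LP (LK LD1_c2 LD2_c51 LD3_c14)) = (LP (LK LD1_c1 LD2_c21 LD3_c41)) :=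
  Lre_e IH (LK LD1_c2 LD2_c51 LD3_c14) (LK LD1_c1 LD2_c21 LD3_c41) Lrfl Lrfl
theorem f496463 : Led Lsl_et (LP (LK LD1_c5 LD2_c52 LD3_c14)) = (LP (LK LD1_c5 LD2_c50 LD3_c9)) :=
  Lgr Lrot69 (Lpe (f496461 IH) (Lpe (f496460 IH) (Lpr_ff (f496419 IH) (Lpe (f452688 IH) (Lpe (K32.f496462 IH) (Lpn (LP (LK LD1_c5 LD2_c50 LD3_c9))))))))
theorem f615381 : Led Lsl_dt (LP (LK LD1_c5 LD2_c14 LD3_c42)) = (LP (LK LD1_c5 LD2_c52 LD3_c14)) :=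
  Lgr Lrot77 (Lpr_ef (K17.f288091 IH) (Lpe (K17.f165087 IH) (Lpe (f289483 IH) (Lpr_df (f615375 IH) (Lpe (f496463 IH) (Lpn (LP (LK LD1_c5 LD2_c52 LD3_c14))))))))
theorem f180726 : Led Lsl_ft (LP (LK LD1_c2 LD2_c34 LD3_c9)) = (LP (LK LD1_c5 LD2_c14 LD3_c42)) :=
  Lre_f IH (LK LD1_c2 LD2_c34 LD3_c9) (LK LD1_c5 LD2_c14 LD3_c42) Lrfl Lrfl
theorem f496415 : Led Lsl_ft (LP (LK LD1_c5 LD2_c52 LD3_c14)) = (LP (LK LD1_c2 LD2_c52 LD3_c25)) :=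
  Lre_f IH (LK LD1_c5 LD2_c52 LD3_c14) (LK LD1_c2 LD2_c52 LD3_c25) Lrfl Lrfl
theorem f615389 : Led Lsl_df (LP (LK LD1_c2 LD2_c34 LD3_c9)) = (LP (LK LD1_c2 LD2_c52 LD3_c25)) :=
  Lgr Lrot78 (Lpr_ft (f180726 IH) (Lpr_dt (f615381 IH) (Lpr_ft (f496415 IH) (Lpn (LP (LK LD1_c2 LD2_c52 LD3_c25))))))
theorem f180710 : Led Lsl_cf (LP (LK LD1_c2 LD2_c34 LD3_c9)) = (LP (LK LD1_c5 LD2_c9 LD3_c59)) :=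
  Lgr Lrot11 (Lpr_ct (K17.f180695 IH) (Lpn (LP (LK LD1_c5 LD2_c9 LD3_c59))))
theorem f165752 : Led Lsl_cf (LP (LK LD1_c5 LD2_c2 LD3_c38)) = (LP (LK LD1_c2 LD2_c31 LD3_c20)) :=
  Lgr Lrot11 (Lpr_ct (K17.f165651 IH) (Lpn (LP (LK LD1_c2 LD2_c31 LD3_c20))))
theorem f288223 : Led Lsl_at (LP (LK LD1_c2 LD2_c34 LD3_c9)) = (LP (LK LD1_c2 LD2_c31 LD3_c20)) :=
  Lgr Lrot107 (Lpr_cf (f180710 IH) (Lpr_af (K17.f288217 IH) (Lpr_cf (f165752 IH) (Lpn (LP (LK LD1_c2 LD2_c31 LD3_c20))))))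
theorem f163570 : Led Lsl_et (LP (LK LD1_c2 LD2_c52 LD3_c25)) = (LP (LK LD1_c1 LD2_c22 LD3_c17)) :=
  Lre_e IH (LK LD1_c2 LD2_c52 LD3_c25) (LK LD1_c1 LD2_c22 LD3_c17) Lrfl Lrfl
theorem f496417 : Led Lsl_ef (LP (LK LD1_c5 LD2_c52 LD3_c14)) = (LP (LK LD1_c5 LD2_c50 LD3_c9)) :=
  Lgr Lrot21 (Lpr_ft (f496415 IH) (Lpr_et (f163570 IH) (Lpr_ft (K32.f496410 IH) (Lpr_et (K32.f448947 IH) (Lpr_ft (f496416 IH) (Lpn (LP (LK LD1_c5 LD2_c50 LD3_c9))))))))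
theorem f437505 : Led Lsl_et (LP (LK LD1_c1 LD2_c21 LD3_c39)) = (LP (LK LD1_c2 LD2_c51 LD3_c10)) :=
  Lre_e IH (LK LD1_c1 LD2_c21 LD3_c39) (LK LD1_c2 LD2_c51 LD3_c10) Lrfl Lrfl
theorem f496440 : Led Lsl_ft (LP (LK LD1_c2 LD2_c51 LD3_c10)) = (LP (LK LD1_c5 LD2_c50 LD3_c2)) :=
  Lre_f IH (LK LD1_c2 LD2_c51 LD3_c10) (LK LD1_c5 LD2_c50 LD3_c2) Lrfl Lrfl
theorem f496441 : Led Lsl_ft (LP (LK LD1_c5 LD2_c52 LD3_c10)) = (LP (LK LD1_c2 LD2_c52 LD3_c22)) :=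
  Lre_f IH (LK LD1_c5 LD2_c52 LD3_c10) (LK LD1_c2 LD2_c52 LD3_c22) Lrfl Lrfl
theorem f496442 : Led Lsl_et (LP (LK LD1_c5 LD2_c50 LD3_c2)) = (LP (LK LD1_c5 LD2_c52 LD3_c10)) :=
  Lgr Lrot69 (Lpe (f496440 IH) (Lpe (f437505 IH) (Lpr_ff (f496432 IH) (Lpe (K32.f206498 IH) (Lpe (f496441 IH) (Lpn (LP (LK LD1_c5 LD2_c52 LD3_c10))))))))
theorem f496488 : Led Lsl_at (LP (LK LD1_c5 LD2_c52 LD3_c14)) = (LP (LK LD1_c5 LD2_c50 LD3_c2)) :=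
  Lgr Lrot80 (Lpr_ef (f496417 IH) (Lpr_af (K32.f496482 IH) (Lpe (f496442 IH) (Lpn (LP (LK LD1_c5 LD2_c50 LD3_c2))))))
theorem f496452 : Led Lsl_ft (LP (LK LD1_c5 LD2_c50 LD3_c2)) = (LP (LK LD1_c2 LD2_c51 LD3_c10)) :=
  Lre_f IH (LK LD1_c5 LD2_c50 LD3_c2) (LK LD1_c2 LD2_c51 LD3_c10) Lrfl Lrfl
theorem f496497 : Led Lsl_af (LP (LK LD1_c2 LD2_c52 LD3_c25)) = (LP (LK LD1_c2 LD2_c51 LD3_c10)) :=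
  Lgr Lrot45 (Lpr_ft (f496461 IH) (Lpr_at (f496488 IH) (Lpr_ft (f496452 IH) (Lpn (LP (LK LD1_c2 LD2_c51 LD3_c10))))))
theorem f615391 : Led Lsl_dt (LP (LK LD1_c2 LD2_c31 LD3_c20)) = (LP (LK LD1_c2 LD2_c51 LD3_c10)) :=
  Lgr Lrot44 (Lpe (f288223 IH) (Lpr_df (f615389 IH) (Lpr_af (f496497 IH) (Lpn (LP (LK LD1_c2 LD2_c51 LD3_c10))))))
theorem f22378 : Led Lsl_et (LP (LK LD1_c2 LD2_c52 LD3_c11)) = (LP (LK LD1_c5 LD2_c51 LD3_c55)) :=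
  Lre_e IH (LK LD1_c2 LD2_c52 LD3_c11) (LK LD1_c5 LD2_c51 LD3_c55) Lrfl Lrfl
theorem f165679 : Led Lsl_gt (LP (LK LD1_c2 LD2_c30 LD3_c56)) = (LP (LK LD1_c5 LD2_c7 LD3_c10)) :=
  Lre_g IH (LK LD1_c2 LD2_c30 LD3_c56) (LK LD1_c5 LD2_c7 LD3_c10) Lrfl Lrfl
theorem f301782 : Led Lsl_et (LP (LK LD1_c10 LD2_c4 LD3_c60)) = (LP (LK LD1_c5 LD2_c7 LD3_c10)) :=
  Lre_e IH (LK LD1_c10 LD2_c4 LD3_c60) (LK LD1_c5 LD2_c7 LD3_c10) Lrfl Lrfl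
theorem f640643 : Led Lsl_dt (LP (LK LD1_c10 LD2_c4 LD3_c60)) = K38.v4867 :=
  Lgr Lrot136 (Lpr_et (f301782 IH) (Lpe (f165679 IH) (Lpe (K18.f68558 IH) (Lpr_dt (K10.f68549 IH) (Lpe (K10.f3290 IH) (Lpe (K7.f3763 IH) (Lpe (K9.f3764 IH) (Lpe (K17.f22380 IH) (Lpr_dt (f615391 IH) (Lpr_gf (K38.f640641 IH) (Lpn K38.v4867)))))))))))
theorem f640644 : Led Lsl_gt (LP (LK LD1_c5 LD2_c51 LD3_c55)) = (LP (LK LD1_c10 LD2_c4 LD3_c60)) :=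
  Lgr Lrot137 (Lpe (f22378 IH) (Lpr_dt (K35.f22377 IH) (Lpe (K35.f22245 IH) (Lpr_df (K10.f22216 IH) (Lpr_et (K7.f22227 IH) (Lpe (K9.f3764 IH) (Lpe (K17.f22380 IH) (Lpr_dt (f615391 IH) (Lpr_gf (K38.f640641 IH) (Lpe (f640643 IH) (Lpn (LP (LK LD1_c10 LD2_c4 LD3_c60)))))))))))))
theorem f640645 : Led Lsl_gt (LP (LK LD1_c5 LD2_c51 LD3_c55)) = (LP (LK LD1_c10 LD2_c4 LD3_c60)) :=
  Leop (Lpe (f640644 IH) (Lpn (LP (LK LD1_c5 LD2_c51 LD3_c55))))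
theorem seed_284 : LEOK LG_g (LK LD1_c5 LD2_c51 LD3_c55) :=
  Leoe_g (LK LD1_c5 LD2_c51 LD3_c55) (f640645 IH)
def v4900 : LQ := Led Lsl_gf (LP (LK LD1_c2 LD2_c52 LD3_c22))
theorem f640775 : Led Lsl_gf (LP (LK LD1_c2 LD2_c52 LD3_c22)) = v4900 :=
  Lrfl
theorem f615395 : Led Lsl_dt (LP (LK LD1_c2 LD2_c34 LD3_c9)) = (LP (LK LD1_c2 LD2_c52 LD3_c25)) :=
  Lgr Lrot42 (Lpr_df (f615389 IH) (Lpn (LP (LK LD1_c2 LD2_c52 LD3_c25))))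
theorem f180707 : Led Lsl_bt (LP (LK LD1_c5 LD2_c14 LD3_c39)) = (LP (LK LD1_c2 LD2_c34 LD3_c9)) :=
  Lre_b IH (LK LD1_c5 LD2_c14 LD3_c39) (LK LD1_c2 LD2_c34 LD3_c9) Lrfl Lrfl
theorem f74755 : Led Lsl_bt (LP (LK LD1_c2 LD2_c52 LD3_c25)) = (LP (LK LD1_c5 LD2_c52 LD3_c11)) :=
  Lre_b IH (LK LD1_c2 LD2_c52 LD3_c25) (LK LD1_c5 LD2_c52 LD3_c11) Lrfl Lrfl
theorem f615399 : Led Lsl_df (LP (LK LD1_c5 LD2_c14 LD3_c39)) = (LP (LK LD1_c5 LD2_c52 LD3_c11)) :=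
  Lgr Lrot12 (Lpr_bt (f180707 IH) (Lpr_dt (f615395 IH) (Lpr_bt (f74755 IH) (Lpn (LP (LK LD1_c5 LD2_c52 LD3_c11))))))
theorem f299954 : Led Lsl_ft (LP (LK LD1_c5 LD2_c14 LD3_c39)) = (LP (LK LD1_c10 LD2_c18 LD3_c50)) :=
  Lre_f IH (LK LD1_c5 LD2_c14 LD3_c39) (LK LD1_c10 LD2_c18 LD3_c50) Lrfl Lrfl
theorem f74752 : Led Lsl_ft (LP (LK LD1_c11 LD2_c31 LD3_c17)) = (LP (LK LD1_c5 LD2_c52 LD3_c11)) :=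
  Lre_f IH (LK LD1_c11 LD2_c31 LD3_c17) (LK LD1_c5 LD2_c52 LD3_c11) Lrfl Lrfl
theorem f615408 : Led Lsl_dt (LP (LK LD1_c10 LD2_c18 LD3_c50)) = (LP (LK LD1_c11 LD2_c31 LD3_c17)) :=
  Lgr Lrot60 (Lpe (f299954 IH) (Lpr_df (f615399 IH) (Lpe (f74752 IH) (Lpn (LP (LK LD1_c11 LD2_c31 LD3_c17))))))
theorem f177283 : Led Lsl_ft (LP (LK LD1_c10 LD2_c6 LD3_c45)) = (LP (LK LD1_c18 LD2_c25 LD3_c54)) :=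
  Lre_f IH (LK LD1_c10 LD2_c6 LD3_c45) (LK LD1_c18 LD2_c25 LD3_c54) Lrfl Lrfl
theorem f180738 : Led Lsl_et (LP (LK LD1_c10 LD2_c18 LD3_c48)) = (LP (LK LD1_c5 LD2_c14 LD3_c38)) :=
  Lre_e IH (LK LD1_c10 LD2_c18 LD3_c48) (LK LD1_c5 LD2_c14 LD3_c38) Lrfl Lrfl
theorem f299947 : Led Lsl_ft (LP (LK LD1_c18 LD2_c43 LD3_c43)) = (LP (LK LD1_c10 LD2_c18 LD3_c48)) :=
  Lre_f IH (LK LD1_c18 LD2_c43 LD3_c43) (LK LD1_c10 LD2_c18 LD3_c48) Lrfl Lrfl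
theorem f299948 : Led Lsl_et (LP (LK LD1_c18 LD2_c25 LD3_c54)) = (LP (LK LD1_c18 LD2_c43 LD3_c43)) :=
  Lgr Lrot69 (Lpe (f177283 IH) (Lpe (K32.f177274 IH) (Lpr_ff (K32.f299945 IH) (Lpe (f180738 IH) (Lpe (f299947 IH) (Lpn (LP (LK LD1_c18 LD2_c43 LD3_c43))))))))
theorem f165111 : Led Lsl_ct (LP (LK LD1_c10 LD2_c6 LD3_c48)) = (LP (LK LD1_c18 LD2_c25 LD3_c54)) :=
  Lre_c IH (LK LD1_c10 LD2_c6 LD3_c48) (LK LD1_c18 LD2_c25 LD3_c54) Lrfl Lrfl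
theorem f180725 : Led Lsl_ct (LP (LK LD1_c18 LD2_c43 LD3_c43)) = (LP (LK LD1_c10 LD2_c18 LD3_c50)) :=
  Lre_c IH (LK LD1_c18 LD2_c43 LD3_c43) (LK LD1_c10 LD2_c18 LD3_c50) Lrfl Lrfl
theorem f299950 : Led Lsl_ef (LP (LK LD1_c10 LD2_c6 LD3_c48)) = (LP (LK LD1_c10 LD2_c18 LD3_c50)) :=
  Lgr Lrot28 (Lpr_ct (f165111 IH) (Lpr_et (f299948 IH) (Lpr_ct (f180725 IH) (Lpn (LP (LK LD1_c10 LD2_c18 LD3_c50))))))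
theorem f299952 : Led Lsl_et (LP (LK LD1_c10 LD2_c6 LD3_c48)) = (LP (LK LD1_c10 LD2_c18 LD3_c50)) :=
  Lgr Lrot87 (Lpr_ef (f299950 IH) (Lpn (LP (LK LD1_c10 LD2_c18 LD3_c50))))
theorem f165108 : Led Lsl_bt (LP (LK LD1_c10 LD2_c6 LD3_c48)) = (LP (LK LD1_c5 LD2_c8 LD3_c10)) :=
  Lre_b IH (LK LD1_c10 LD2_c6 LD3_c48) (LK LD1_c5 LD2_c8 LD3_c10) Lrfl Lrfl
theorem f165109 : Led Lsl_dt (LP (LK LD1_c11 LD2_c6 LD3_c41)) = (LP (LK LD1_c10 LD2_c6 LD3_c48)) :=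
  Lgr Lrot79 (Lpe (f165107 IH) (Lpr_df (K17.f165104 IH) (Lpe (f165108 IH) (Lpn (LP (LK LD1_c10 LD2_c6 LD3_c48))))))
theorem f289485 : Led Lsl_et (LP (LK LD1_c11 LD2_c11 LD3_c59)) = (LP (LK LD1_c11 LD2_c6 LD3_c41)) :=
  Lgr Lrot87 (Lpr_ef (f289480 IH) (Lpn (LP (LK LD1_c11 LD2_c6 LD3_c41))))
theorem f74751 : Led Lsl_bt (LP (LK LD1_c11 LD2_c31 LD3_c17)) = (LP (LK LD1_c5 LD2_c52 LD3_c14)) :=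
  Lre_b IH (LK LD1_c11 LD2_c31 LD3_c17) (LK LD1_c5 LD2_c52 LD3_c14) Lrfl Lrfl
theorem f496465 : Led Lsl_ef (LP (LK LD1_c11 LD2_c31 LD3_c17)) = (LP (LK LD1_c11 LD2_c28 LD3_c35)) :=
  Lgr Lrot29 (Lpr_bt (f74751 IH) (Lpr_et (f496463 IH) (Lpr_bt (K32.f496333 IH) (Lpn (LP (LK LD1_c11 LD2_c28 LD3_c35))))))
theorem f496467 : Led Lsl_et (LP (LK LD1_c11 LD2_c31 LD3_c17)) = (LP (LK LD1_c11 LD2_c28 LD3_c35)) :=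
  Lgr Lrot87 (Lpr_ef (f496465 IH) (Lpn (LP (LK LD1_c11 LD2_c28 LD3_c35))))
theorem f615410 : Led Lsl_df (LP (LK LD1_c11 LD2_c11 LD3_c59)) = (LP (LK LD1_c11 LD2_c28 LD3_c35)) :=
  Lgr Lrot70 (Lpr_et (f289485 IH) (Lpr_dt (f165109 IH) (Lpr_et (f299952 IH) (Lpr_dt (f615408 IH) (Lpr_et (f496467 IH) (Lpn (LP (LK LD1_c11 LD2_c28 LD3_c35))))))))
theorem f383395 : Led Lsl_at (LP (LK LD1_c11 LD2_c11 LD3_c59)) = (LP (LK LD1_c17 LD2_c55 LD3_c1)) :=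
  Lgr Lrot100 (Lpr_af (K36.f383391 IH) (Lpn (LP (LK LD1_c17 LD2_c55 LD3_c1))))
theorem f496326 : Led Lsl_at (LP (LK LD1_c20 LD2_c25 LD3_c58)) = (LP (LK LD1_c11 LD2_c28 LD3_c35)) :=
  Lre_a IH (LK LD1_c20 LD2_c25 LD3_c58) (LK LD1_c11 LD2_c28 LD3_c35) Lrfl Lrfl
theorem f615412 : Led Lsl_dt (LP (LK LD1_c17 LD2_c55 LD3_c1)) = (LP (LK LD1_c20 LD2_c25 LD3_c58)) :=
  Lgr Lrot44 (Lpe (f383395 IH) (Lpr_df (f615410 IH) (Lpe (f496326 IH) (Lpn (LP (LK LD1_c20 LD2_c25 LD3_c58))))))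
theorem f615418 : Led Lsl_df (LP (LK LD1_c17 LD2_c55 LD3_c1)) = (LP (LK LD1_c20 LD2_c25 LD3_c58)) :=
  Lgr Lrot38 (Lpr_dt (f615412 IH) (Lpn (LP (LK LD1_c20 LD2_c25 LD3_c58))))
theorem f381383 : Led Lsl_ft (LP (LK LD1_c17 LD2_c55 LD3_c1)) = (LP (LK LD1_c9 LD2_c45 LD3_c23)) :=
  Lre_f IH (LK LD1_c17 LD2_c55 LD3_c1) (LK LD1_c9 LD2_c45 LD3_c23) Lrfl Lrfl
theorem f496334 : Led Lsl_ft (LP (LK LD1_c11 LD2_c28 LD3_c30)) = (LP (LK LD1_c20 LD2_c25 LD3_c58)) :=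
  Lre_f IH (LK LD1_c11 LD2_c28 LD3_c30) (LK LD1_c20 LD2_c25 LD3_c58) Lrfl Lrfl
theorem f615422 : Led Lsl_dt (LP (LK LD1_c9 LD2_c45 LD3_c23)) = (LP (LK LD1_c11 LD2_c28 LD3_c30)) :=
  Lgr Lrot60 (Lpe (f381383 IH) (Lpr_df (f615418 IH) (Lpe (f496334 IH) (Lpn (LP (LK LD1_c11 LD2_c28 LD3_c30))))))
theorem f615424 : Led Lsl_df (LP (LK LD1_c11 LD2_c6 LD3_c47)) = (LP (LK LD1_c9 LD2_c48 LD3_c12)) :=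
  Lgr Lrot12 (Lpr_bt (K36.f383403 IH) (Lpr_dt (f615422 IH) (Lpr_bt (K32.f496317 IH) (Lpn (LP (LK LD1_c9 LD2_c48 LD3_c12))))))
theorem f615428 : Led Lsl_dt (LP (LK LD1_c11 LD2_c6 LD3_c47)) = (LP (LK LD1_c9 LD2_c48 LD3_c12)) :=
  Lgr Lrot42 (Lpr_df (f615424 IH) (Lpn (LP (LK LD1_c9 LD2_c48 LD3_c12))))
theorem f319503 : Led Lsl_at (LP (LK LD1_c5 LD2_c37 LD3_c46)) = (LP (LK LD1_c11 LD2_c6 LD3_c47)) :=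
  Lre_a IH (LK LD1_c5 LD2_c37 LD3_c46) (LK LD1_c11 LD2_c6 LD3_c47) Lrfl Lrfl
theorem f615430 : Led Lsl_df (LP (LK LD1_c5 LD2_c37 LD3_c46)) = (LP (LK LD1_c5 LD2_c52 LD3_c6)) :=
  Lgr Lrot18 (Lpr_at (f319503 IH) (Lpr_dt (f615428 IH) (Lpr_at (K32.f496512 IH) (Lpn (LP (LK LD1_c5 LD2_c52 LD3_c6))))))
theorem f319510 : Led Lsl_bt (LP (LK LD1_c5 LD2_c37 LD3_c46)) = (LP (LK LD1_c2 LD2_c44 LD3_c50)) :=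
  Lre_b IH (LK LD1_c5 LD2_c37 LD3_c46) (LK LD1_c2 LD2_c44 LD3_c50) Lrfl Lrfl
theorem f22797 : Led Lsl_bt (LP (LK LD1_c2 LD2_c52 LD3_c22)) = (LP (LK LD1_c5 LD2_c52 LD3_c6)) :=
  Lre_b IH (LK LD1_c2 LD2_c52 LD3_c22) (LK LD1_c5 LD2_c52 LD3_c6) Lrfl Lrfl
theorem f615432 : Led Lsl_dt (LP (LK LD1_c2 LD2_c44 LD3_c50)) = (LP (LK LD1_c2 LD2_c52 LD3_c22)) :=
  Lgr Lrot79 (Lpe (f319510 IH) (Lpr_df (f615430 IH) (Lpe (f22797 IH) (Lpn (LP (LK LD1_c2 LD2_c52 LD3_c22))))))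
theorem f319455 : Led Lsl_et (LP (LK LD1_c2 LD2_c44 LD3_c50)) = (LP (LK LD1_c1 LD2_c18 LD3_c44)) :=
  Lre_e IH (LK LD1_c2 LD2_c44 LD3_c50) (LK LD1_c1 LD2_c18 LD3_c44) Lrfl Lrfl
theorem f40944 : Led Lsl_et (LP (LK LD1_c0 LD2_c32 LD3_c43)) = (LP (LK LD1_c1 LD2_c10 LD3_c39)) :=
  Lre_e IH (LK LD1_c0 LD2_c32 LD3_c43) (LK LD1_c1 LD2_c10 LD3_c39) Lrfl Lrfl
theorem f174927 : Led Lsl_et (LP (LK LD1_c4 LD2_c57 LD3_c54)) = (LP (LK LD1_c2 LD2_c26 LD3_c46)) :=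
  Lre_e IH (LK LD1_c4 LD2_c57 LD3_c54) (LK LD1_c2 LD2_c26 LD3_c46) Lrfl Lrfl
theorem f640777 : Led Lsl_dt (LP (LK LD1_c4 LD2_c57 LD3_c54)) = v4900 :=
  Lgr Lrot136 (Lpr_et (f174927 IH) (Lpe (K32.f58953 IH) (Lpe (f40944 IH) (Lpr_dt (K1.f40727 IH) (Lpr_gf (K9.f174886 IH) (Lpe (K30.f20640 IH) (Lpe (K31.f319418 IH) (Lpe (f319455 IH) (Lpr_dt (f615432 IH) (Lpr_gf (f640775 IH) (Lpn v4900)))))))))))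
theorem f415705 : Led Lsl_gt (LP (LK LD1_c9 LD2_c46 LD3_c39)) = (LP (LK LD1_c4 LD2_c57 LD3_c54)) :=
  Lre_g IH (LK LD1_c9 LD2_c46 LD3_c39) (LK LD1_c4 LD2_c57 LD3_c54) Lrfl Lrfl
theorem f319460 : Led Lsl_at (LP (LK LD1_c2 LD2_c44 LD3_c50)) = (LP (LK LD1_c2 LD2_c46 LD3_c15)) :=
  Lgr Lrot80 (Lpe (K20.f319430 IH) (Lpr_af (K20.f319451 IH) (Lpe (K20.f226747 IH) (Lpn (LP (LK LD1_c2 LD2_c46 LD3_c15))))))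
theorem f615369 : Led Lsl_df (LP (LK LD1_c2 LD2_c44 LD3_c50)) = (LP (LK LD1_c2 LD2_c52 LD3_c22)) :=
  Lgr Lrot18 (Lpr_at (f319460 IH) (Lpr_dt (f615367 IH) (Lpr_at (K32.f496474 IH) (Lpn (LP (LK LD1_c2 LD2_c52 LD3_c22))))))
theorem f319511 : Led Lsl_cf (LP (LK LD1_c2 LD2_c44 LD3_c50)) = (LP (LK LD1_c5 LD2_c31 LD3_c51)) :=
  Lgr Lrot11 (Lpr_ct (K20.f319505 IH) (Lpn (LP (LK LD1_c5 LD2_c31 LD3_c51))))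
theorem f40990 : Led Lsl_et (LP (LK LD1_c1 LD2_c10 LD3_c38)) = (LP (LK LD1_c2 LD2_c26 LD3_c45)) :=
  Lre_e IH (LK LD1_c1 LD2_c10 LD3_c38) (LK LD1_c2 LD2_c26 LD3_c45) Lrfl Lrfl
theorem f40915 : Led Lsl_ct (LP (LK LD1_c2 LD2_c26 LD3_c48)) = (LP (LK LD1_c4 LD2_c57 LD3_c51)) :=
  Lre_c IH (LK LD1_c2 LD2_c26 LD3_c48) (LK LD1_c4 LD2_c57 LD3_c51) Lrfl Lrfl
theorem f140252 : Led Lsl_af (LP (LK LD1_c5 LD2_c45 LD3_c54)) = (LP (LK LD1_c4 LD2_c57 LD3_c51)) :=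
  Lgr Lrot68 (Lpr_ct (K9.f140248 IH) (Lpr_at (K1.f40901 IH) (Lpr_ct (f40915 IH) (Lpn (LP (LK LD1_c4 LD2_c57 LD3_c51))))))
theorem f40975 : Led Lsl_ft (LP (LK LD1_c2 LD2_c26 LD3_c45)) = (LP (LK LD1_c4 LD2_c57 LD3_c51)) :=
  Lre_f IH (LK LD1_c2 LD2_c26 LD3_c45) (LK LD1_c4 LD2_c57 LD3_c51) Lrfl Lrfl
theorem f140573 : Led Lsl_gf (LP (LK LD1_c2 LD2_c48 LD3_c43)) = (LP (LK LD1_c2 LD2_c26 LD3_c45)) :=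
  Lgr Lrot47 (Lpr_gt (K9.f140247 IH) (Lpr_af (f140252 IH) (Lpe (f40975 IH) (Lpn (LP (LK LD1_c2 LD2_c26 LD3_c45))))))
theorem f140310 : Led Lsl_et (LP (LK LD1_c5 LD2_c45 LD3_c57)) = (LP (LK LD1_c2 LD2_c48 LD3_c43)) :=
  Lre_e IH (LK LD1_c5 LD2_c45 LD3_c57) (LK LD1_c2 LD2_c48 LD3_c43) Lrfl Lrfl
theorem f140311 : Led Lsl_dt (LP (LK LD1_c5 LD2_c45 LD3_c57)) = (LP (LK LD1_c11 LD2_c22 LD3_c18)) :=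
  Lre_d IH (LK LD1_c5 LD2_c45 LD3_c57) (LK LD1_c11 LD2_c22 LD3_c18) Lrfl Lrfl
theorem f173936 : Led Lsl_gt (LP (LK LD1_c11 LD2_c22 LD3_c18)) = (LP (LK LD1_c10 LD2_c55 LD3_c26)) :=
  Lgr Lrot112 (Lpe (f140311 IH) (Lpr_et (f140310 IH) (Lpr_gf (f140573 IH) (Lpe (f40990 IH) (Lpr_dt (K9.f173647 IH) (Lpe (K9.f173033 IH) (Lpe (K12.f173052 IH) (Lpe (K12.f173933 IH) (Lpe (K17.f173934 IH) (Lpr_dt (K17.f173935 IH) (Lpn (LP (LK LD1_c10 LD2_c55 LD3_c26)))))))))))))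
theorem f173940 : Led Lsl_gt (LP (LK LD1_c11 LD2_c22 LD3_c17)) = (LP (LK LD1_c5 LD2_c45 LD3_c57)) :=
  Lre_g IH (LK LD1_c11 LD2_c22 LD3_c17) (LK LD1_c5 LD2_c45 LD3_c57) Lrfl Lrfl
theorem f640780 : Led Lsl_ct (LP (LK LD1_c9 LD2_c46 LD3_c39)) = (LP (LK LD1_c11 LD2_c22 LD3_c17)) :=
  Lgr Lrot8 (Lpr_gt (f415705 IH) (Lpr_dt (f640777 IH) (Lpe (f640775 IH) (Lpe (f615369 IH) (Lpr_cf (f319511 IH) (Lpe (K17.f173938 IH) (Lpe (f173936 IH) (Lpe (f140311 IH) (Lpe (f173940 IH) (Lpn (LP (LK LD1_c11 LD2_c22 LD3_c17))))))))))))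
theorem f640781 : Led Lsl_ct (LP (LK LD1_c9 LD2_c46 LD3_c39)) = (LP (LK LD1_c11 LD2_c22 LD3_c17)) :=
  Leop (Lpe (f640780 IH) (Lpn (LP (LK LD1_c9 LD2_c46 LD3_c39))))
theorem seed_285 : LEOK LG_c (LK LD1_c9 LD2_c46 LD3_c39) :=
  Leoe_c (LK LD1_c9 LD2_c46 LD3_c39) (f640781 IH)
theorem f640779 : Led Lsl_df (LP (LK LD1_c4 LD2_c57 LD3_c54)) = v4900 :=
  Lgr Lrot38 (Lpr_dt (f640777 IH) (Lpn v4900))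
theorem f415670 : Led Lsl_et (LP (LK LD1_c4 LD2_c33 LD3_c40)) = (LP (LK LD1_c9 LD2_c4 LD3_c58)) :=
  Lre_e IH (LK LD1_c4 LD2_c33 LD3_c40) (LK LD1_c9 LD2_c4 LD3_c58) Lrfl Lrfl
theorem f415671 : Led Lsl_ct (LP (LK LD1_c9 LD2_c4 LD3_c58)) = (LP (LK LD1_c4 LD2_c57 LD3_c54)) :=
  Lgr Lrot15 (Lpe (f415670 IH) (Lpr_cf (K32.f415654 IH) (Lpe (f174927 IH) (Lpn (LP (LK LD1_c4 LD2_c57 LD3_c54))))))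
theorem f415701 : Led Lsl_cf (LP (LK LD1_c9 LD2_c4 LD3_c58)) = (LP (LK LD1_c4 LD2_c57 LD3_c54)) :=
  Lgr Lrot11 (Lpr_ct (f415671 IH) (Lpn (LP (LK LD1_c4 LD2_c57 LD3_c54))))
theorem f415703 : Led Lsl_dt (LP (LK LD1_c16 LD2_c56 LD3_c52)) = (LP (LK LD1_c9 LD2_c4 LD3_c58)) :=
  Lre_d IH (LK LD1_c16 LD2_c56 LD3_c52) (LK LD1_c9 LD2_c4 LD3_c58) Lrfl Lrfl
theorem f418613 : Led Lsl_et (LP (LK LD1_c1 LD2_c3 LD3_c52)) = (LP (LK LD1_c2 LD2_c13 LD3_c44)) :=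
  Lre_e IH (LK LD1_c1 LD2_c3 LD3_c52) (LK LD1_c2 LD2_c13 LD3_c44) Lrfl Lrfl
theorem f415707 : Led Lsl_et (LP (LK LD1_c9 LD2_c4 LD3_c58)) = (LP (LK LD1_c4 LD2_c33 LD3_c40)) :=
  Lre_e IH (LK LD1_c9 LD2_c4 LD3_c58) (LK LD1_c4 LD2_c33 LD3_c40) Lrfl Lrfl
theorem f415706 : Led Lsl_dt (LP (LK LD1_c9 LD2_c4 LD3_c58)) = (LP (LK LD1_c16 LD2_c56 LD3_c52)) :=
  Lre_d IH (LK LD1_c9 LD2_c4 LD3_c58) (LK LD1_c16 LD2_c56 LD3_c52) Lrfl Lrfl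
theorem f242693 : Led Lsl_dt (LP (LK LD1_c5 LD2_c28 LD3_c31)) = (LP (LK LD1_c10 LD2_c48 LD3_c10)) :=
  Lre_d IH (LK LD1_c5 LD2_c28 LD3_c31) (LK LD1_c10 LD2_c48 LD3_c10) Lrfl Lrfl
theorem f418614 : Led Lsl_gt (LP (LK LD1_c16 LD2_c56 LD3_c52)) = (LP (LK LD1_c10 LD2_c48 LD3_c10)) :=
  Lgr Lrot112 (Lpe (f415706 IH) (Lpr_et (f415707 IH) (Lpe (K32.f415678 IH) (Lpe (f418613 IH) (Lpr_dt (K12.f42262 IH) (Lpe (K9.f167840 IH) (Lpe (K12.f167918 IH) (Lpr_gf (K12.f226552 IH) (Lpe (K17.f226688 IH) (Lpr_dt (f242693 IH) (Lpn (LP (LK LD1_c10 LD2_c48 LD3_c10)))))))))))))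
theorem f418616 : Led Lsl_gf (LP (LK LD1_c16 LD2_c56 LD3_c52)) = (LP (LK LD1_c19 LD2_c49 LD3_c1)) :=
  Lgr Lrot47 (Lpr_gt (f418614 IH) (Lpr_af (K17.f289171 IH) (Lpe (K17.f225383 IH) (Lpn (LP (LK LD1_c19 LD2_c49 LD3_c1))))))
theorem f289195 : Led Lsl_dt (LP (LK LD1_c10 LD2_c58 LD3_c36)) = (LP (LK LD1_c19 LD2_c49 LD3_c1)) :=
  Lre_d IH (LK LD1_c10 LD2_c58 LD3_c36) (LK LD1_c19 LD2_c49 LD3_c1) Lrfl Lrfl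
theorem f179219 : Led Lsl_gt (LP (LK LD1_c5 LD2_c28 LD3_c31)) = (LP (LK LD1_c10 LD2_c48 LD3_c8)) :=
  Lre_g IH (LK LD1_c5 LD2_c28 LD3_c31) (LK LD1_c10 LD2_c48 LD3_c8) Lrfl Lrfl
theorem f289200 : Led Lsl_gt (LP (LK LD1_c10 LD2_c48 LD3_c8)) = (LP (LK LD1_c10 LD2_c58 LD3_c36)) :=
  Lgr Lrot46 (Lpe (f179219 IH) (Lpr_ft (K17.f289196 IH) (Lpr_at (K17.f289186 IH) (Lpn (LP (LK LD1_c10 LD2_c58 LD3_c36))))))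
theorem f640776 : Led Lsl_gt (LP (LK LD1_c5 LD2_c50 LD3_c9)) = v4900 :=
  Lgr Lrot5 (Lpr_ft (K32.f496462 IH) (Lpr_at (K32.f496474 IH) (Lpr_gf (f640775 IH) (Lpn v4900))))
theorem f615379 : Led Lsl_dt (LP (LK LD1_c5 LD2_c40 LD3_c40)) = (LP (LK LD1_c5 LD2_c50 LD3_c9)) :=
  Lgr Lrot42 (Lpr_df (f615375 IH) (Lpn (LP (LK LD1_c5 LD2_c50 LD3_c9))))
theorem f319431 : Led Lsl_gt (LP (LK LD1_c2 LD2_c44 LD3_c50)) = (LP (LK LD1_c5 LD2_c37 LD3_c47)) :=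
  Lre_g IH (LK LD1_c2 LD2_c44 LD3_c50) (LK LD1_c5 LD2_c37 LD3_c47) Lrfl Lrfl
theorem f319499 : Led Lsl_gt (LP (LK LD1_c5 LD2_c37 LD3_c47)) = (LP (LK LD1_c5 LD2_c40 LD3_c40)) :=
  Lgr Lrot46 (Lpe (f319431 IH) (Lpr_ft (K20.f319475 IH) (Lpr_at (K20.f319493 IH) (Lpn (LP (LK LD1_c5 LD2_c40 LD3_c40))))))
theorem f640786 : Led Lsl_ct (LP (LK LD1_c10 LD2_c48 LD3_c8)) = (LP (LK LD1_c5 LD2_c37 LD3_c47)) :=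
  Lgr Lrot8 (Lpr_gt (f289200 IH) (Lpr_dt (f289195 IH) (Lpe (f418616 IH) (Lpr_dt (f415703 IH) (Lpr_cf (f415701 IH) (Lpr_df (f640779 IH) (Lpe (f640776 IH) (Lpe (f615379 IH) (Lpe (f319499 IH) (Lpn (LP (LK LD1_c5 LD2_c37 LD3_c47))))))))))))
theorem f640787 : Led Lsl_ct (LP (LK LD1_c10 LD2_c48 LD3_c8)) = (LP (LK LD1_c5 LD2_c37 LD3_c47)) :=
  Leop (Lpe (f640786 IH) (Lpn (LP (LK LD1_c10 LD2_c48 LD3_c8))))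
theorem seed_286 : LEOK LG_c (LK LD1_c10 LD2_c48 LD3_c8) :=
  Leoe_c (LK LD1_c10 LD2_c48 LD3_c8) (f640787 IH)
theorem f415708 : Led Lsl_et (LP (LK LD1_c2 LD2_c26 LD3_c46)) = (LP (LK LD1_c4 LD2_c57 LD3_c54)) :=
  Lre_e IH (LK LD1_c2 LD2_c26 LD3_c46) (LK LD1_c4 LD2_c57 LD3_c54) Lrfl Lrfl
theorem f503763 : Led Lsl_at (LP (LK LD1_c4 LD2_c57 LD3_c54)) = (LP (LK LD1_c7 LD2_c59 LD3_c48)) :=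
  Lgr Lrot80 (Lpe (f415708 IH) (Lpr_af (K32.f503757 IH) (Lpe (f40930 IH) (Lpn (LP (LK LD1_c7 LD2_c59 LD3_c48))))))
theorem f640785 : Led Lsl_at (LP (LK LD1_c5 LD2_c50 LD3_c8)) = v4900 :=
  Lgr Lrot51 (Lpe (f615363 IH) (Lpe (f503763 IH) (Lpr_df (f640779 IH) (Lpn v4900))))
theorem f22788 : Led Lsl_gt (LP (LK LD1_c2 LD2_c52 LD3_c22)) = (LP (LK LD1_c5 LD2_c52 LD3_c9)) :=
  Lre_g IH (LK LD1_c2 LD2_c52 LD3_c22) (LK LD1_c5 LD2_c52 LD3_c9) Lrfl Lrfl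
theorem f496490 : Led Lsl_gf (LP (LK LD1_c5 LD2_c50 LD3_c9)) = (LP (LK LD1_c5 LD2_c52 LD3_c9)) :=
  Lgr Lrot76 (Lpr_af (K32.f496482 IH) (Lpe (K32.f496453 IH) (Lpr_gt (f22788 IH) (Lpn (LP (LK LD1_c5 LD2_c52 LD3_c9))))))
theorem f640793 : Led Lsl_ff (LP (LK LD1_c5 LD2_c50 LD3_c8)) = (LP (LK LD1_c5 LD2_c52 LD3_c9)) :=
  Lgr Lrot52 (Lpr_at (f640785 IH) (Lpe (f640776 IH) (Lpr_gf (f496490 IH) (Lpn (LP (LK LD1_c5 LD2_c52 LD3_c9))))))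
theorem f640794 : Led Lsl_ft (LP (LK LD1_c5 LD2_c52 LD3_c9)) = (LP (LK LD1_c5 LD2_c50 LD3_c8)) :=
  Leop (Lpr_ff (f640793 IH) (Lpn (LP (LK LD1_c5 LD2_c52 LD3_c9))))
theorem seed_287 : LEOK LG_f (LK LD1_c5 LD2_c52 LD3_c9) :=
  Leoe_f (LK LD1_c5 LD2_c52 LD3_c9) (f640794 IH)
def v4916 : LQ := Led Lsl_ct (LP (LK LD1_c2 LD2_c52 LD3_c42))
theorem f640901 : Led Lsl_ct (LP (LK LD1_c2 LD2_c52 LD3_c42)) = v4916 :=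
  Lrfl
theorem f151877 : Led Lsl_bt (LP (LK LD1_c9 LD2_c6 LD3_c38)) = (LP (LK LD1_c4 LD2_c35 LD3_c3)) :=
  Lre_b IH (LK LD1_c9 LD2_c6 LD3_c38) (LK LD1_c4 LD2_c35 LD3_c3) Lrfl Lrfl
theorem f436282 : Led Lsl_ct (LP (LK LD1_c9 LD2_c6 LD3_c38)) = (LP (LK LD1_c16 LD2_c58 LD3_c40)) :=
  Lre_c IH (LK LD1_c9 LD2_c6 LD3_c38) (LK LD1_c16 LD2_c58 LD3_c40) Lrfl Lrfl
theorem f436283 : Led Lsl_gt (LP (LK LD1_c26 LD2_c53 LD3_c32)) = (LP (LK LD1_c16 LD2_c58 LD3_c40)) :=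
  Lre_g IH (LK LD1_c26 LD2_c53 LD3_c32) (LK LD1_c16 LD2_c58 LD3_c40) Lrfl Lrfl
theorem f151905 : Led Lsl_gt (LP (LK LD1_c2 LD2_c14 LD3_c38)) = (LP (LK LD1_c1 LD2_c22 LD3_c22)) :=
  Lgr Lrot5 (Lpr_ft (K7.f25223 IH) (Lpr_at (K7.f151894 IH) (Lpe (K24.f22528 IH) (Lpn (LP (LK LD1_c1 LD2_c22 LD3_c22))))))
def v4210 : LQ := Led Lsl_ct (LP (LK LD1_c2 LD2_c15 LD3_c26))
theorem f631903 : Led Lsl_ct (LP (LK LD1_c2 LD2_c15 LD3_c26)) = v4210 :=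
  Lrfl
theorem f631905 : Led Lsl_cf (LP (LK LD1_c2 LD2_c15 LD3_c26)) = v4210 :=
  Lgr Lrot11 (Lpr_ct (f631903 IH) (Lpn v4210))
theorem f640903 : Led Lsl_gf v4210 = v4916 :=
  Lgr Lrot104 (Lpe (f631905 IH) (Lpe (K32.f23026 IH) (Lpr_cf (K24.f82914 IH) (Lpe (K24.f26065 IH) (Lpe (K24.f445604 IH) (Lpe (f151905 IH) (Lpe (K24.f25241 IH) (Lpr_gt (K32.f436278 IH) (Lpr_ct (f640901 IH) (Lpn v4916))))))))))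
theorem f72010 : Led Lsl_bt (LP (LK LD1_c2 LD2_c15 LD3_c26)) = (LP (LK LD1_c4 LD2_c36 LD3_c20)) :=
  Lre_b IH (LK LD1_c2 LD2_c15 LD3_c26) (LK LD1_c4 LD2_c36 LD3_c20) Lrfl Lrfl
theorem f138487 : Led Lsl_gt (LP (LK LD1_c4 LD2_c36 LD3_c20)) = (LP (LK LD1_c9 LD2_c8 LD3_c49)) :=
  Lre_g IH (LK LD1_c4 LD2_c36 LD3_c20) (LK LD1_c9 LD2_c8 LD3_c49) Lrfl Lrfl
theorem f631907 : Led Lsl_bt (LP (LK LD1_c17 LD2_c1 LD3_c33)) = (LP (LK LD1_c9 LD2_c8 LD3_c49)) :=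
  Lre_b IH (LK LD1_c17 LD2_c1 LD3_c33) (LK LD1_c9 LD2_c8 LD3_c49) Lrfl Lrfl
theorem f640904 : Led Lsl_cf (LP (LK LD1_c26 LD2_c53 LD3_c32)) = (LP (LK LD1_c17 LD2_c1 LD3_c33)) :=
  Lgr Lrot160 (Lpr_gt (f436283 IH) (Lpe (f436282 IH) (Lpr_bt (f151877 IH) (Lpr_gt (K32.f436278 IH) (Lpr_ct (f640901 IH) (Lpe (f640903 IH) (Lpe (f631903 IH) (Lpr_bt (f72010 IH) (Lpr_gt (f138487 IH) (Lpe (f631907 IH) (Lpn (LP (LK LD1_c17 LD2_c1 LD3_c33)))))))))))))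
theorem f640905 : Led Lsl_ct (LP (LK LD1_c17 LD2_c1 LD3_c33)) = (LP (LK LD1_c26 LD2_c53 LD3_c32)) :=
  Leop (Lpr_cf (f640904 IH) (Lpn (LP (LK LD1_c17 LD2_c1 LD3_c33))))
theorem seed_288 : LEOK LG_c (LK LD1_c17 LD2_c1 LD3_c33) :=
  Leoe_c (LK LD1_c17 LD2_c1 LD3_c33) (f640905 IH)
def v4986 : LQ := Led Lsl_et (LP (LK LD1_c2 LD2_c54 LD3_c58))
theorem f641188 : Led Lsl_et (LP (LK LD1_c2 LD2_c54 LD3_c58)) = v4986 :=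
  Lrfl
theorem f641189 : Led Lsl_ef (LP (LK LD1_c2 LD2_c54 LD3_c58)) = v4986 :=
  Lgr Lrot88 (Lpr_et (f641188 IH) (Lpn v4986))
theorem f23850 : Led Lsl_et (LP (LK LD1_c0 LD2_c38 LD3_c34)) = (LP (LK LD1_c1 LD2_c23 LD3_c23)) :=
  Lre_e IH (LK LD1_c0 LD2_c38 LD3_c34) (LK LD1_c1 LD2_c23 LD3_c23) Lrfl Lrfl
theorem f198534 : Led Lsl_et (LP (LK LD1_c5 LD2_c53 LD3_c14)) = (LP (LK LD1_c2 LD2_c52 LD3_c57)) :=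
  Lre_e IH (LK LD1_c5 LD2_c53 LD3_c14) (LK LD1_c2 LD2_c52 LD3_c57) Lrfl Lrfl
theorem f182484 : Led Lsl_gt (LP (LK LD1_c8 LD2_c12 LD3_c14)) = (LP (LK LD1_c4 LD2_c5 LD3_c46)) :=
  Lre_g IH (LK LD1_c8 LD2_c12 LD3_c14) (LK LD1_c4 LD2_c5 LD3_c46) Lrfl Lrfl
theorem f641190 : Led Lsl_df (LP (LK LD1_c8 LD2_c12 LD3_c14)) = v4986 :=
  Lgr Lrot170 (Lpr_gt (f182484 IH) (Lpe (K40.f198525 IH) (Lpr_et (f198534 IH) (Lpr_gt (K16.f198527 IH) (Lpr_dt (K16.f24479 IH) (Lpe (K10.f24468 IH) (Lpe (K40.f23851 IH) (Lpr_et (f23850 IH) (Lpr_gt (K0.f23785 IH) (Lpr_ef (f641189 IH) (Lpn v4986)))))))))))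
theorem f641193 : Led Lsl_et (LP (LK LD1_c8 LD2_c12 LD3_c14)) = (LP (LK LD1_c6 LD2_c3 LD3_c7)) :=
  Lgr Lrot71 (Lpr_df (f641190 IH) (Lpe (f641188 IH) (Lpr_df (K0.f23843 IH) (Lpe (K0.f23870 IH) (Lpe (K35.f23874 IH) (Lpn (LP (LK LD1_c6 LD2_c3 LD3_c7))))))))
theorem f641194 : Led Lsl_et (LP (LK LD1_c8 LD2_c12 LD3_c14)) = (LP (LK LD1_c6 LD2_c3 LD3_c7)) :=
  Leop (Lpe (f641193 IH) (Lpn (LP (LK LD1_c8 LD2_c12 LD3_c14))))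
theorem seed_289 : LEOK LG_e (LK LD1_c8 LD2_c12 LD3_c14) :=
  Leoe_e (LK LD1_c8 LD2_c12 LD3_c14) (f641194 IH)
def v5056 : LQ := Led Lsl_ft (LP (LK LD1_c2 LD2_c56 LD3_c47))
theorem f641562 : Led Lsl_ft (LP (LK LD1_c2 LD2_c56 LD3_c47)) = v5056 :=
  Lrfl
theorem f76028 : Led Lsl_gt (LP (LK LD1_c2 LD2_c56 LD3_c47)) = (LP (LK LD1_c6 LD2_c1 LD3_c5)) :=
  Lre_g IH (LK LD1_c2 LD2_c56 LD3_c47) (LK LD1_c6 LD2_c1 LD3_c5) Lrfl Lrfl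
def v5055 : LQ := Led Lsl_at (LP (LK LD1_c2 LD2_c56 LD3_c47))
theorem f641539 : Led Lsl_at (LP (LK LD1_c2 LD2_c56 LD3_c47)) = v5055 :=
  Lrfl
theorem f641540 : Led Lsl_af (LP (LK LD1_c2 LD2_c56 LD3_c47)) = v5055 :=
  Lgr Lrot0 (Lpr_at (f641539 IH) (Lpn v5055))
theorem f444599 : Led Lsl_ct (LP (LK LD1_c1 LD2_c24 LD3_c9)) = (LP (LK LD1_c2 LD2_c56 LD3_c47)) :=
  Lre_c IH (LK LD1_c1 LD2_c24 LD3_c9) (LK LD1_c2 LD2_c56 LD3_c47) Lrfl Lrfl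
def v1693 : LQ := Led Lsl_at (LP (LK LD1_c1 LD2_c24 LD3_c9))
theorem f500838 : Led Lsl_at (LP (LK LD1_c1 LD2_c24 LD3_c9)) = v1693 :=
  Lrfl
theorem f500839 : Led Lsl_af (LP (LK LD1_c1 LD2_c24 LD3_c9)) = v1693 :=
  Lgr Lrot0 (Lpr_at (f500838 IH) (Lpn v1693))
theorem f641542 : Led Lsl_cf v1693 = v5055 :=
  Lgr Lrot1 (Lpe (f500839 IH) (Lpr_ct (f444599 IH) (Lpr_at (f641539 IH) (Lpn v5055))))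
theorem f383330 : Led Lsl_gt (LP (LK LD1_c1 LD2_c24 LD3_c10)) = (LP (LK LD1_c0 LD2_c38 LD3_c51)) :=
  Lre_g IH (LK LD1_c1 LD2_c24 LD3_c10) (LK LD1_c0 LD2_c38 LD3_c51) Lrfl Lrfl
theorem f500847 : Led Lsl_ft (LP (LK LD1_c1 LD2_c24 LD3_c10)) = v1693 :=
  Lgr Lrot2 (Lpr_gt (f383330 IH) (Lpr_gt (K32.f140847 IH) (Lpr_af (f500839 IH) (Lpn v1693))))
theorem f500856 : Led Lsl_ff (LP (LK LD1_c1 LD2_c24 LD3_c10)) = v1693 :=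
  Lgr Lrot3 (Lpr_ft (f500847 IH) (Lpn v1693))
theorem f500858 : Led Lsl_ct (LP (LK LD1_c1 LD2_c24 LD3_c10)) = (LP (LK LD1_c2 LD2_c56 LD3_c51)) :=
  Lre_c IH (LK LD1_c1 LD2_c24 LD3_c10) (LK LD1_c2 LD2_c56 LD3_c51) Lrfl Lrfl
theorem f641544 : Led Lsl_ft (LP (LK LD1_c2 LD2_c56 LD3_c51)) = v5055 :=
  Lgr Lrot4 (Lpe (f500858 IH) (Lpr_ff (f500856 IH) (Lpr_cf (f641542 IH) (Lpn v5055))))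
theorem f641563 : Led Lsl_af (LP (LK LD1_c2 LD2_c56 LD3_c51)) = v5056 :=
  Lgr Lrot45 (Lpr_ft (f641544 IH) (Lpe (f641540 IH) (Lpr_ft (f641562 IH) (Lpn v5056))))
theorem f641566 : Led Lsl_gt (LP (LK LD1_c6 LD2_c1 LD3_c5)) = (LP (LK LD1_c2 LD2_c56 LD3_c51)) :=
  Lgr Lrot46 (Lpe (f76028 IH) (Lpr_ft (f641562 IH) (Lpe (f641563 IH) (Lpn (LP (LK LD1_c2 LD2_c56 LD3_c51))))))
theorem f641567 : Led Lsl_gt (LP (LK LD1_c6 LD2_c1 LD3_c5)) = (LP (LK LD1_c2 LD2_c56 LD3_c51)) :=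
  Leop (Lpe (f641566 IH) (Lpn (LP (LK LD1_c6 LD2_c1 LD3_c5))))
theorem seed_290 : LEOK LG_g (LK LD1_c6 LD2_c1 LD3_c5) :=
  Leoe_g (LK LD1_c6 LD2_c1 LD3_c5) (f641567 IH)
theorem f76027 : Led Lsl_dt (LP (LK LD1_c6 LD2_c1 LD3_c5)) = (LP (LK LD1_c11 LD2_c46 LD3_c47)) :=
  Lre_d IH (LK LD1_c6 LD2_c1 LD3_c5) (LK LD1_c11 LD2_c46 LD3_c47) Lrfl Lrfl
theorem f76026 : Led Lsl_gt (LP (LK LD1_c11 LD2_c46 LD3_c47)) = (LP (LK LD1_c20 LD2_c17 LD3_c35)) :=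
  Lre_g IH (LK LD1_c11 LD2_c46 LD3_c47) (LK LD1_c20 LD2_c17 LD3_c35) Lrfl Lrfl
theorem f500853 : Led Lsl_ct (LP (LK LD1_c2 LD2_c56 LD3_c51)) = (LP (LK LD1_c1 LD2_c24 LD3_c10)) :=
  Lre_c IH (LK LD1_c2 LD2_c56 LD3_c51) (LK LD1_c1 LD2_c24 LD3_c10) Lrfl Lrfl
theorem f616288 : Led Lsl_dt (LP (LK LD1_c2 LD2_c56 LD3_c44)) = (LP (LK LD1_c1 LD2_c24 LD3_c8)) :=
  Lre_d IH (LK LD1_c2 LD2_c56 LD3_c44) (LK LD1_c1 LD2_c24 LD3_c8) Lrfl Lrfl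
theorem f641569 : Led Lsl_ct (LP (LK LD1_c6 LD2_c0 LD3_c60)) = (LP (LK LD1_c2 LD2_c56 LD3_c44)) :=
  Lre_c IH (LK LD1_c6 LD2_c0 LD3_c60) (LK LD1_c2 LD2_c56 LD3_c44) Lrfl Lrfl
theorem f641570 : Led Lsl_gt (LP (LK LD1_c11 LD2_c46 LD3_c34)) = (LP (LK LD1_c6 LD2_c0 LD3_c60)) :=
  Lre_g IH (LK LD1_c11 LD2_c46 LD3_c34) (LK LD1_c6 LD2_c0 LD3_c60) Lrfl Lrfl
theorem f641571 : Led Lsl_ct (LP (LK LD1_c20 LD2_c17 LD3_c35)) = (LP (LK LD1_c11 LD2_c46 LD3_c34)) :=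
  Lgr Lrot152 (Lpe (f76026 IH) (Lpe (f76027 IH) (Lpr_gt (f641566 IH) (Lpr_ct (f500853 IH) (Lpr_gt (f383330 IH) (Lpr_ct (K9.f140228 IH) (Lpe (f616288 IH) (Lpe (f641569 IH) (Lpe (f641570 IH) (Lpn (LP (LK LD1_c11 LD2_c46 LD3_c34))))))))))))
theorem f76025 : Led Lsl_dt (LP (LK LD1_c11 LD2_c20 LD3_c16)) = (LP (LK LD1_c20 LD2_c17 LD3_c35)) :=
  Lre_d IH (LK LD1_c11 LD2_c20 LD3_c16) (LK LD1_c20 LD2_c17 LD3_c35) Lrfl Lrfl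
theorem f76018 : Led Lsl_ct (LP (LK LD1_c5 LD2_c44 LD3_c58)) = (LP (LK LD1_c11 LD2_c20 LD3_c16)) :=
  Lre_c IH (LK LD1_c5 LD2_c44 LD3_c58) (LK LD1_c11 LD2_c20 LD3_c16) Lrfl Lrfl
theorem f75877 : Led Lsl_dt (LP (LK LD1_c2 LD2_c48 LD3_c16)) = (LP (LK LD1_c5 LD2_c44 LD3_c58)) :=
  Lre_d IH (LK LD1_c2 LD2_c48 LD3_c16) (LK LD1_c5 LD2_c44 LD3_c58) Lrfl Lrfl
def v4787 : LQ := Led Lsl_at (LP (LK LD1_c2 LD2_c48 LD3_c15))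
theorem f638986 : Led Lsl_at (LP (LK LD1_c2 LD2_c48 LD3_c15)) = v4787 :=
  Lrfl
theorem f638987 : Led Lsl_af (LP (LK LD1_c2 LD2_c48 LD3_c15)) = v4787 :=
  Lgr Lrot0 (Lpr_at (f638986 IH) (Lpn v4787))
theorem f444613 : Led Lsl_gt (LP (LK LD1_c1 LD2_c20 LD3_c20)) = (LP (LK LD1_c2 LD2_c48 LD3_c15)) :=
  Lre_g IH (LK LD1_c1 LD2_c20 LD3_c20) (LK LD1_c2 LD2_c48 LD3_c15) Lrfl Lrfl
theorem f638993 : Led Lsl_ft (LP (LK LD1_c2 LD2_c48 LD3_c16)) = v4787 :=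
  Lgr Lrot2 (Lpr_gt (K5.f75865 IH) (Lpr_gt (f444613 IH) (Lpr_af (f638987 IH) (Lpn v4787))))
theorem f638989 : Led Lsl_ct (LP (LK LD1_c5 LD2_c44 LD3_c53)) = (LP (LK LD1_c2 LD2_c48 LD3_c15)) :=
  Lre_c IH (LK LD1_c5 LD2_c44 LD3_c53) (LK LD1_c2 LD2_c48 LD3_c15) Lrfl Lrfl
theorem f638994 : Led Lsl_dt (LP (LK LD1_c11 LD2_c20 LD3_c0)) = (LP (LK LD1_c5 LD2_c44 LD3_c53)) :=
  Lre_d IH (LK LD1_c11 LD2_c20 LD3_c0) (LK LD1_c5 LD2_c44 LD3_c53) Lrfl Lrfl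
theorem f638995 : Led Lsl_ct (LP (LK LD1_c20 LD2_c17 LD3_c11)) = (LP (LK LD1_c11 LD2_c20 LD3_c0)) :=
  Lre_c IH (LK LD1_c20 LD2_c17 LD3_c11) (LK LD1_c11 LD2_c20 LD3_c0) Lrfl Lrfl
theorem f641580 : Led Lsl_df (LP (LK LD1_c20 LD2_c17 LD3_c11)) = (LP (LK LD1_c11 LD2_c46 LD3_c34)) :=
  Lgr Lrot13 (Lpr_ct (f638995 IH) (Lpr_dt (f638994 IH) (Lpr_ct (f638989 IH) (Lpr_af (f638987 IH) (Lpe (f638993 IH) (Lpr_dt (f75877 IH) (Lpr_ct (f76018 IH) (Lpr_dt (f76025 IH) (Lpr_ct (f641571 IH) (Lpn (LP (LK LD1_c11 LD2_c46 LD3_c34))))))))))))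
theorem f641581 : Led Lsl_dt (LP (LK LD1_c11 LD2_c46 LD3_c34)) = (LP (LK LD1_c20 LD2_c17 LD3_c11)) :=
  Leop (Lpr_df (f641580 IH) (Lpn (LP (LK LD1_c11 LD2_c46 LD3_c34))))
theorem seed_291 : LEOK LG_d (LK LD1_c11 LD2_c46 LD3_c34) :=
  Leoe_d (LK LD1_c11 LD2_c46 LD3_c34) (f641581 IH)
def v5057 : LQ := Led Lsl_at (LP (LK LD1_c2 LD2_c56 LD3_c48))
theorem f641644 : Led Lsl_at (LP (LK LD1_c2 LD2_c56 LD3_c48)) = v5057 :=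
  Lrfl
theorem f500845 : Led Lsl_dt (LP (LK LD1_c1 LD2_c24 LD3_c9)) = (LP (LK LD1_c2 LD2_c56 LD3_c48)) :=
  Lre_d IH (LK LD1_c1 LD2_c24 LD3_c9) (LK LD1_c2 LD2_c56 LD3_c48) Lrfl Lrfl
theorem f641646 : Led Lsl_df v1693 = v5057 :=
  Lgr Lrot18 (Lpe (f500839 IH) (Lpr_dt (f500845 IH) (Lpr_at (f641644 IH) (Lpn v5057))))
theorem f500850 : Led Lsl_dt (LP (LK LD1_c1 LD2_c24 LD3_c10)) = (LP (LK LD1_c2 LD2_c56 LD3_c52)) :=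
  Lre_d IH (LK LD1_c1 LD2_c24 LD3_c10) (LK LD1_c2 LD2_c56 LD3_c52) Lrfl Lrfl
theorem f641648 : Led Lsl_ft (LP (LK LD1_c2 LD2_c56 LD3_c52)) = v5057 :=
  Lgr Lrot54 (Lpe (f500850 IH) (Lpr_ff (f500856 IH) (Lpr_df (f641646 IH) (Lpn v5057))))
theorem f641645 : Led Lsl_af (LP (LK LD1_c2 LD2_c56 LD3_c48)) = v5057 :=
  Lgr Lrot0 (Lpr_at (f641644 IH) (Lpn v5057))
theorem f641643 : Led Lsl_gt (LP (LK LD1_c6 LD2_c1 LD3_c10)) = (LP (LK LD1_c2 LD2_c56 LD3_c48)) :=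
  Lre_g IH (LK LD1_c6 LD2_c1 LD3_c10) (LK LD1_c2 LD2_c56 LD3_c48) Lrfl Lrfl
theorem f641650 : Led Lsl_gt (LP (LK LD1_c2 LD2_c56 LD3_c52)) = (LP (LK LD1_c6 LD2_c1 LD3_c10)) :=
  Lgr Lrot5 (Lpr_ft (f641648 IH) (Lpe (f641645 IH) (Lpe (f641643 IH) (Lpn (LP (LK LD1_c6 LD2_c1 LD3_c10))))))
theorem f641651 : Led Lsl_gt (LP (LK LD1_c2 LD2_c56 LD3_c52)) = (LP (LK LD1_c6 LD2_c1 LD3_c10)) :=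
  Leop (Lpe (f641650 IH) (Lpn (LP (LK LD1_c2 LD2_c56 LD3_c52))))
theorem seed_292 : LEOK LG_g (LK LD1_c2 LD2_c56 LD3_c52) :=
  Leoe_g (LK LD1_c2 LD2_c56 LD3_c52) (f641651 IH)
theorem f383331 : Led Lsl_dt (LP (LK LD1_c2 LD2_c56 LD3_c52)) = (LP (LK LD1_c1 LD2_c24 LD3_c10)) :=
  Lre_d IH (LK LD1_c2 LD2_c56 LD3_c52) (LK LD1_c1 LD2_c24 LD3_c10) Lrfl Lrfl
theorem f74962 : Led Lsl_gt (LP (LK LD1_c1 LD2_c24 LD3_c8)) = (LP (LK LD1_c2 LD2_c56 LD3_c42)) :=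
  Lre_g IH (LK LD1_c1 LD2_c24 LD3_c8) (LK LD1_c2 LD2_c56 LD3_c42) Lrfl Lrfl
theorem f414699 : Led Lsl_ct (LP (LK LD1_c2 LD2_c56 LD3_c42)) = (LP (LK LD1_c6 LD2_c0 LD3_c53)) :=
  Lre_c IH (LK LD1_c2 LD2_c56 LD3_c42) (LK LD1_c6 LD2_c0 LD3_c53) Lrfl Lrfl
theorem f641653 : Led Lsl_dt (LP (LK LD1_c6 LD2_c0 LD3_c53)) = (LP (LK LD1_c11 LD2_c46 LD3_c15)) :=
  Lre_d IH (LK LD1_c6 LD2_c0 LD3_c53) (LK LD1_c11 LD2_c46 LD3_c15) Lrfl Lrfl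
theorem f641654 : Led Lsl_ct (LP (LK LD1_c6 LD2_c1 LD3_c10)) = (LP (LK LD1_c11 LD2_c46 LD3_c60)) :=
  Lre_c IH (LK LD1_c6 LD2_c1 LD3_c10) (LK LD1_c11 LD2_c46 LD3_c60) Lrfl Lrfl
theorem f641655 : Led Lsl_gt (LP (LK LD1_c11 LD2_c46 LD3_c60)) = (LP (LK LD1_c20 LD2_c16 LD3_c52)) :=
  Lre_g IH (LK LD1_c11 LD2_c46 LD3_c60) (LK LD1_c20 LD2_c16 LD3_c52) Lrfl Lrfl
theorem f641656 : Led Lsl_cf (LP (LK LD1_c11 LD2_c46 LD3_c15)) = (LP (LK LD1_c20 LD2_c16 LD3_c52)) :=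
  Lgr Lrot99 (Lpe (f641653 IH) (Lpe (f414699 IH) (Lpe (f74962 IH) (Lpe (K9.f140228 IH) (Lpe (f383330 IH) (Lpe (f383331 IH) (Lpr_gt (f641650 IH) (Lpr_ct (f641654 IH) (Lpr_gt (f641655 IH) (Lpn (LP (LK LD1_c20 LD2_c16 LD3_c52))))))))))))
theorem f641476 : Led Lsl_dt (LP (LK LD1_c11 LD2_c46 LD3_c15)) = (LP (LK LD1_c6 LD2_c0 LD3_c53)) :=
  Lre_d IH (LK LD1_c11 LD2_c46 LD3_c15) (LK LD1_c6 LD2_c0 LD3_c53) Lrfl Lrfl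
theorem f414691 : Led Lsl_ct (LP (LK LD1_c6 LD2_c0 LD3_c53)) = (LP (LK LD1_c2 LD2_c56 LD3_c42)) :=
  Lre_c IH (LK LD1_c6 LD2_c0 LD3_c53) (LK LD1_c2 LD2_c56 LD3_c42) Lrfl Lrfl
def v5047 : LQ := Led Lsl_at (LP (LK LD1_c2 LD2_c56 LD3_c42))
theorem f641472 : Led Lsl_at (LP (LK LD1_c2 LD2_c56 LD3_c42)) = v5047 :=
  Lrfl
theorem f641473 : Led Lsl_af (LP (LK LD1_c2 LD2_c56 LD3_c42)) = v5047 :=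
  Lgr Lrot0 (Lpr_at (f641472 IH) (Lpn v5047))
theorem f641475 : Led Lsl_ft (LP (LK LD1_c2 LD2_c56 LD3_c43)) = v5047 :=
  Lgr Lrot2 (Lpr_gt (K9.f140227 IH) (Lpr_gt (f74962 IH) (Lpr_af (f641473 IH) (Lpn v5047))))
theorem f564044 : Led Lsl_dt (LP (LK LD1_c2 LD2_c56 LD3_c43)) = (LP (LK LD1_c6 LD2_c0 LD3_c57)) :=
  Lre_d IH (LK LD1_c2 LD2_c56 LD3_c43) (LK LD1_c6 LD2_c0 LD3_c57) Lrfl Lrfl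
theorem f564045 : Led Lsl_ct (LP (LK LD1_c6 LD2_c0 LD3_c57)) = (LP (LK LD1_c11 LD2_c46 LD3_c24)) :=
  Lre_c IH (LK LD1_c6 LD2_c0 LD3_c57) (LK LD1_c11 LD2_c46 LD3_c24) Lrfl Lrfl
theorem f641667 : Led Lsl_dt (LP (LK LD1_c11 LD2_c19 LD3_c47)) = (LP (LK LD1_c20 LD2_c16 LD3_c52)) :=
  Lre_d IH (LK LD1_c11 LD2_c19 LD3_c47) (LK LD1_c20 LD2_c16 LD3_c52) Lrfl Lrfl
theorem f641668 : Led Lsl_ct (LP (LK LD1_c20 LD2_c16 LD3_c51)) = (LP (LK LD1_c11 LD2_c19 LD3_c47)) :=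
  Lre_c IH (LK LD1_c20 LD2_c16 LD3_c51) (LK LD1_c11 LD2_c19 LD3_c47) Lrfl Lrfl
theorem f641670 : Led Lsl_dt (LP (LK LD1_c11 LD2_c46 LD3_c24)) = (LP (LK LD1_c20 LD2_c16 LD3_c51)) :=
  Lgr Lrot32 (Lpe (f564045 IH) (Lpe (f564044 IH) (Lpr_ft (f641475 IH) (Lpe (f641473 IH) (Lpe (f414691 IH) (Lpe (f641476 IH) (Lpr_cf (f641656 IH) (Lpe (f641667 IH) (Lpe (f641668 IH) (Lpn (LP (LK LD1_c20 LD2_c16 LD3_c51))))))))))))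
theorem f641671 : Led Lsl_dt (LP (LK LD1_c11 LD2_c46 LD3_c24)) = (LP (LK LD1_c20 LD2_c16 LD3_c51)) :=
  Leop (Lpe (f641670 IH) (Lpn (LP (LK LD1_c11 LD2_c46 LD3_c24))))
theorem seed_293 : LEOK LG_d (LK LD1_c11 LD2_c46 LD3_c24) :=
  Leoe_d (LK LD1_c11 LD2_c46 LD3_c24) (f641671 IH)
theorem f452857 : Led Lsl_et (LP (LK LD1_c0 LD2_c38 LD3_c45)) = (LP (LK LD1_c1 LD2_c23 LD3_c55)) :=
  Lre_e IH (LK LD1_c0 LD2_c38 LD3_c45) (LK LD1_c1 LD2_c23 LD3_c55) Lrfl Lrfl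
theorem f75832 : Led Lsl_et (LP (LK LD1_c1 LD2_c24 LD3_c1)) = (LP (LK LD1_c0 LD2_c38 LD3_c48)) :=
  Lre_e IH (LK LD1_c1 LD2_c24 LD3_c1) (LK LD1_c0 LD2_c38 LD3_c48) Lrfl Lrfl
def v5035 : LQ := Led Lsl_gf (LP (LK LD1_c2 LD2_c56 LD3_c18))
theorem f641432 : Led Lsl_gf (LP (LK LD1_c2 LD2_c56 LD3_c18)) = v5035 :=
  Lrfl
def v1680 : LQ := Led Lsl_gt (LP (LK LD1_c1 LD2_c23 LD3_c55))
theorem f500735 : Led Lsl_gt (LP (LK LD1_c1 LD2_c23 LD3_c55)) = v1680 :=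
  Lrfl
def v5020 : LQ := Led Lsl_at (LP (LK LD1_c2 LD2_c55 LD3_c57))
theorem f641351 : Led Lsl_at (LP (LK LD1_c2 LD2_c55 LD3_c57)) = v5020 :=
  Lrfl
theorem f641352 : Led Lsl_af (LP (LK LD1_c2 LD2_c55 LD3_c57)) = v5020 :=
  Lgr Lrot0 (Lpr_at (f641351 IH) (Lpn v5020))
def v5013 : LQ := Led Lsl_et (LP (LK LD1_c2 LD2_c55 LD3_c36))
theorem f641312 : Led Lsl_et (LP (LK LD1_c2 LD2_c55 LD3_c36)) = v5013 :=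
  Lrfl
theorem f500678 : Led Lsl_ft (LP (LK LD1_c1 LD2_c23 LD3_c42)) = (LP (LK LD1_c2 LD2_c55 LD3_c36)) :=
  Lre_f IH (LK LD1_c1 LD2_c23 LD3_c42) (LK LD1_c2 LD2_c55 LD3_c36) Lrfl Lrfl
theorem f452856 : Led Lsl_et (LP (LK LD1_c0 LD2_c38 LD3_c40)) = (LP (LK LD1_c1 LD2_c23 LD3_c42)) :=
  Lre_e IH (LK LD1_c0 LD2_c38 LD3_c40) (LK LD1_c1 LD2_c23 LD3_c42) Lrfl Lrfl
theorem f426123 : Led Lsl_ft (LP (LK LD1_c1 LD2_c23 LD3_c43)) = (LP (LK LD1_c0 LD2_c38 LD3_c40)) :=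
  Lre_f IH (LK LD1_c1 LD2_c23 LD3_c43) (LK LD1_c0 LD2_c38 LD3_c40) Lrfl Lrfl
theorem f426041 : Led Lsl_et (LP (LK LD1_c2 LD2_c55 LD3_c37)) = (LP (LK LD1_c1 LD2_c23 LD3_c43)) :=
  Lre_e IH (LK LD1_c2 LD2_c55 LD3_c37) (LK LD1_c1 LD2_c23 LD3_c43) Lrfl Lrfl
theorem f641316 : Led Lsl_ff (LP (LK LD1_c2 LD2_c55 LD3_c37)) = v5013 :=
  Lgr Lrot72 (Lpr_et (f426041 IH) (Lpr_ft (f426123 IH) (Lpr_et (f452856 IH) (Lpr_ft (f500678 IH) (Lpr_et (f641312 IH) (Lpn v5013))))))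
theorem f426016 : Led Lsl_at (LP (LK LD1_c2 LD2_c55 LD3_c37)) = (LP (LK LD1_c1 LD2_c23 LD3_c55)) :=
  Lre_a IH (LK LD1_c2 LD2_c55 LD3_c37) (LK LD1_c1 LD2_c23 LD3_c55) Lrfl Lrfl
theorem f76296 : Led Lsl_gt (LP (LK LD1_c2 LD2_c55 LD3_c57)) = (LP (LK LD1_c1 LD2_c23 LD3_c55)) :=
  Lre_g IH (LK LD1_c2 LD2_c55 LD3_c57) (LK LD1_c1 LD2_c23 LD3_c55) Lrfl Lrfl
theorem f641320 : Led Lsl_gf (LP (LK LD1_c2 LD2_c55 LD3_c57)) = v5013 :=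
  Lgr Lrot47 (Lpr_gt (f76296 IH) (Lpe (f426016 IH) (Lpr_ff (f641316 IH) (Lpn v5013))))
theorem f500736 : Led Lsl_ft (LP (LK LD1_c1 LD2_c23 LD3_c55)) = (LP (LK LD1_c2 LD2_c55 LD3_c59)) :=
  Lre_f IH (LK LD1_c1 LD2_c23 LD3_c55) (LK LD1_c2 LD2_c55 LD3_c59) Lrfl Lrfl
theorem f641317 : Led Lsl_at (LP (LK LD1_c2 LD2_c55 LD3_c59)) = v5013 :=
  Lgr Lrot66 (Lpe (f500736 IH) (Lpe (f426016 IH) (Lpr_ff (f641316 IH) (Lpn v5013))))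
theorem f641325 : Led Lsl_gt v1680 = v5013 :=
  Lgr Lrot46 (Lpe (f500735 IH) (Lpr_ft (f500736 IH) (Lpr_at (f641317 IH) (Lpn v5013))))
theorem f641353 : Led Lsl_ft v1680 = v5020 :=
  Lgr Lrot2 (Lpr_gt (f641325 IH) (Lpe (f641320 IH) (Lpr_af (f641352 IH) (Lpn v5020))))
theorem f641354 : Led Lsl_ff v1680 = v5020 :=
  Lgr Lrot3 (Lpr_ft (f641353 IH) (Lpn v5020))
theorem f442861 : Led Lsl_bt (LP (LK LD1_c2 LD2_c54 LD3_c53)) = (LP (LK LD1_c1 LD2_c23 LD3_c21)) :=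
  Lre_b IH (LK LD1_c2 LD2_c54 LD3_c53) (LK LD1_c1 LD2_c23 LD3_c21) Lrfl Lrfl
theorem f144092 : Led Lsl_bt (LP (LK LD1_c2 LD2_c15 LD3_c25)) = (LP (LK LD1_c4 LD2_c36 LD3_c31)) :=
  Lre_b IH (LK LD1_c2 LD2_c15 LD3_c25) (LK LD1_c4 LD2_c36 LD3_c31) Lrfl Lrfl
theorem f507047 : Led Lsl_ff (LP (LK LD1_c2 LD2_c54 LD3_c53)) = (LP (LK LD1_c4 LD2_c36 LD3_c31)) :=
  Lgr Lrot25 (Lpr_bt (f442861 IH) (Lpr_ft (K35.f500591 IH) (Lpqs (K35.f507042 IH) (Lpr_bt (f144092 IH) (Lpn (LP (LK LD1_c4 LD2_c36 LD3_c31)))))))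
theorem f641665 : Led Lsl_ct (LP (LK LD1_c11 LD2_c46 LD3_c15)) = (LP (LK LD1_c20 LD2_c16 LD3_c52)) :=
  Lgr Lrot59 (Lpr_cf (f641656 IH) (Lpn (LP (LK LD1_c20 LD2_c16 LD3_c52))))
theorem f501071 : Led Lsl_bt (LP (LK LD1_c11 LD2_c46 LD3_c15)) = (LP (LK LD1_c20 LD2_c47 LD3_c59)) :=
  Lre_b IH (LK LD1_c11 LD2_c46 LD3_c15) (LK LD1_c20 LD2_c47 LD3_c59) Lrfl Lrfl
theorem f501070 : Led Lsl_gt (LP (LK LD1_c20 LD2_c47 LD3_c59)) = (LP (LK LD1_c20 LD2_c52 LD3_c32)) :=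
  Lre_g IH (LK LD1_c20 LD2_c47 LD3_c59) (LK LD1_c20 LD2_c52 LD3_c32) Lrfl Lrfl
theorem f501067 : Led Lsl_ct (LP (LK LD1_c20 LD2_c52 LD3_c32)) = (LP (LK LD1_c11 LD2_c50 LD3_c17)) :=
  Lre_c IH (LK LD1_c20 LD2_c52 LD3_c32) (LK LD1_c11 LD2_c50 LD3_c17) Lrfl Lrfl
theorem f501066 : Led Lsl_gt (LP (LK LD1_c11 LD2_c50 LD3_c17)) = (LP (LK LD1_c6 LD2_c3 LD3_c15)) :=
  Lre_g IH (LK LD1_c11 LD2_c50 LD3_c17) (LK LD1_c6 LD2_c3 LD3_c15) Lrfl Lrfl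
theorem f501065 : Led Lsl_ct (LP (LK LD1_c2 LD2_c57 LD3_c44)) = (LP (LK LD1_c6 LD2_c3 LD3_c15)) :=
  Lre_c IH (LK LD1_c2 LD2_c57 LD3_c44) (LK LD1_c6 LD2_c3 LD3_c15) Lrfl Lrfl
theorem f501053 : Led Lsl_bt (LP (LK LD1_c2 LD2_c57 LD3_c44)) = (LP (LK LD1_c1 LD2_c24 LD3_c35)) :=
  Lre_b IH (LK LD1_c2 LD2_c57 LD3_c44) (LK LD1_c1 LD2_c24 LD3_c35) Lrfl Lrfl
theorem f641702 : Led Lsl_bf (LP (LK LD1_c2 LD2_c57 LD3_c36)) = (LP (LK LD1_c6 LD2_c1 LD3_c10)) :=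
  Lgr Lrot34 (Lpe (K32.f501055 IH) (Lpe (f501053 IH) (Lpr_ct (f501065 IH) (Lpe (f501066 IH) (Lpe (f501067 IH) (Lpe (f501070 IH) (Lpe (f501071 IH) (Lpr_ct (f641665 IH) (Lpe (f641655 IH) (Lpe (f641654 IH) (Lpn (LP (LK LD1_c6 LD2_c1 LD3_c10)))))))))))))
theorem f507115 : Led Lsl_ff (LP (LK LD1_c4 LD2_c39 LD3_c4)) = (LP (LK LD1_c2 LD2_c57 LD3_c36)) :=
  Lgr Lrot19 (Lpr_dt (K32.f144075 IH) (Lpr_ft (K35.f507111 IH) (Lpr_dt (K32.f501075 IH) (Lpn (LP (LK LD1_c2 LD2_c57 LD3_c36))))))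
theorem f140898 : Led Lsl_bt (LP (LK LD1_c4 LD2_c39 LD3_c4)) = (LP (LK LD1_c9 LD2_c13 LD3_c58)) :=
  Lre_b IH (LK LD1_c4 LD2_c39 LD3_c4) (LK LD1_c9 LD2_c13 LD3_c58) Lrfl Lrfl
theorem f641712 : Led Lsl_ft (LP (LK LD1_c9 LD2_c13 LD3_c58)) = (LP (LK LD1_c6 LD2_c1 LD3_c10)) :=
  Lgr Lrot75 (Lpe (f140898 IH) (Lpr_ff (f507115 IH) (Lpr_bf (f641702 IH) (Lpn (LP (LK LD1_c6 LD2_c1 LD3_c10))))))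
theorem f641721 : Led Lsl_ff (LP (LK LD1_c9 LD2_c13 LD3_c58)) = (LP (LK LD1_c6 LD2_c1 LD3_c10)) :=
  Lgr Lrot3 (Lpr_ft (f641712 IH) (Lpn (LP (LK LD1_c6 LD2_c1 LD3_c10))))
theorem f564017 : Led Lsl_gt (LP (LK LD1_c2 LD2_c56 LD3_c48)) = (LP (LK LD1_c6 LD2_c1 LD3_c9)) :=
  Lre_g IH (LK LD1_c2 LD2_c56 LD3_c48) (LK LD1_c6 LD2_c1 LD3_c9) Lrfl Lrfl
theorem f641728 : Led Lsl_at (LP (LK LD1_c9 LD2_c13 LD3_c58)) = (LP (LK LD1_c6 LD2_c1 LD3_c9)) :=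
  Lgr Lrot26 (Lpr_ff (f641721 IH) (Lpr_gt (f641643 IH) (Lpr_gt (f564017 IH) (Lpn (LP (LK LD1_c6 LD2_c1 LD3_c9))))))
theorem f641718 : Led Lsl_dt (LP (LK LD1_c9 LD2_c9 LD3_c11)) = (LP (LK LD1_c9 LD2_c13 LD3_c58)) :=
  Lre_d IH (LK LD1_c9 LD2_c9 LD3_c11) (LK LD1_c9 LD2_c13 LD3_c58) Lrfl Lrfl
theorem f564002 : Led Lsl_dt (LP (LK LD1_c6 LD2_c1 LD3_c9)) = (LP (LK LD1_c5 LD2_c59 LD3_c7)) :=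
  Lre_d IH (LK LD1_c6 LD2_c1 LD3_c9) (LK LD1_c5 LD2_c59 LD3_c7) Lrfl Lrfl
theorem f641734 : Led Lsl_af (LP (LK LD1_c9 LD2_c9 LD3_c11)) = (LP (LK LD1_c5 LD2_c59 LD3_c7)) :=
  Lgr Lrot117 (Lpr_dt (f641718 IH) (Lpr_at (f641728 IH) (Lpr_dt (f564002 IH) (Lpn (LP (LK LD1_c5 LD2_c59 LD3_c7))))))
theorem f507053 : Led Lsl_et (LP (LK LD1_c9 LD2_c9 LD3_c11)) = (LP (LK LD1_c4 LD2_c36 LD3_c31)) :=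
  Lre_e IH (LK LD1_c9 LD2_c9 LD3_c11) (LK LD1_c4 LD2_c36 LD3_c31) Lrfl Lrfl
theorem f564012 : Led Lsl_et (LP (LK LD1_c2 LD2_c55 LD3_c57)) = (LP (LK LD1_c5 LD2_c59 LD3_c7)) :=
  Lre_e IH (LK LD1_c2 LD2_c55 LD3_c57) (LK LD1_c5 LD2_c59 LD3_c7) Lrfl Lrfl
theorem f641739 : (LP (LK LD1_c4 LD2_c36 LD3_c31)) = v5020 :=
  (Llr Lrot123 (Lpe (f507053 IH) (Lpr_af (f641734 IH) (Lpe (f564012 IH) (Lpr_af (f641352 IH) (Lpn v5020)))))).symm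
theorem f641742 : v1680 = (LP (LK LD1_c2 LD2_c54 LD3_c53)) :=
  Lefun (Lecon (Lfl_ff (f641354 IH)) (f641739 IH).symm) (Lfl_ff (f507047 IH))
theorem f507061 : Led Lsl_et (LP (LK LD1_c5 LD2_c57 LD3_c17)) = (LP (LK LD1_c2 LD2_c54 LD3_c53)) :=
  Lre_e IH (LK LD1_c5 LD2_c57 LD3_c17) (LK LD1_c2 LD2_c54 LD3_c53) Lrfl Lrfl
theorem f641849 : Led Lsl_df v5035 = (LP (LK LD1_c5 LD2_c57 LD3_c17)) :=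
  Lgr Lrot170 (Lpe (f641432 IH) (Lpe (K32.f75529 IH) (Lpr_et (f75832 IH) (Lpr_gt (K0.f26404 IH) (Lpr_dt (K2.f74567 IH) (Lpr_gt (K2.f72457 IH) (Lpe (K37.f72537 IH) (Lpr_et (f452857 IH) (Lpr_gt (f500735 IH) (Lpqs (f641742 IH) (Lpe (f507061 IH) (Lpn (LP (LK LD1_c5 LD2_c57 LD3_c17))))))))))))))
theorem f507062 : Led Lsl_ft (LP (LK LD1_c11 LD2_c39 LD3_c56)) = (LP (LK LD1_c5 LD2_c57 LD3_c17)) :=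
  Lre_f IH (LK LD1_c11 LD2_c39 LD3_c56) (LK LD1_c5 LD2_c57 LD3_c17) Lrfl Lrfl
theorem f435475 : Led Lsl_cf (LP (LK LD1_c2 LD2_c22 LD3_c11)) = (LP (LK LD1_c4 LD2_c43 LD3_c35)) :=
  Lgr Lrot166 (Lpe (K32.f415367 IH) (Lpr_dt (K29.f57182 IH) (Lpr_gt (K32.f415361 IH) (Lpr_dt (K29.f135526 IH) (Lpr_ct (K35.f135533 IH) (Lpr_df (K32.f435386 IH) (Lpe (K32.f435277 IH) (Lpe (K32.f69088 IH) (Lpr_gf (K32.f154567 IH) (Lpn (LP (LK LD1_c4 LD2_c43 LD3_c35))))))))))))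
theorem f411203 : Led Lsl_et (LP (LK LD1_c1 LD2_c26 LD3_c12)) = (LP (LK LD1_c3 LD2_c0 LD3_c51)) :=
  Lre_e IH (LK LD1_c1 LD2_c26 LD3_c12) (LK LD1_c3 LD2_c0 LD3_c51) Lrfl Lrfl
theorem f444206 : Led Lsl_cf (LP (LK LD1_c3 LD2_c6 LD3_c44)) = (LP (LK LD1_c3 LD2_c0 LD3_c51)) :=
  Lgr Lrot39 (Lpr_et (K17.f61681 IH) (Lpr_ct (K32.f444198 IH) (Lpr_et (f411203 IH) (Lpn (LP (LK LD1_c3 LD2_c0 LD3_c51))))))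
theorem f444220 : Led Lsl_ct (LP (LK LD1_c3 LD2_c6 LD3_c44)) = (LP (LK LD1_c3 LD2_c0 LD3_c51)) :=
  Lgr Lrot59 (Lpr_cf (f444206 IH) (Lpn (LP (LK LD1_c3 LD2_c0 LD3_c51))))
theorem f507141 : Led Lsl_gf (LP (LK LD1_c5 LD2_c57 LD3_c19)) = (LP (LK LD1_c3 LD2_c0 LD3_c51)) :=
  Lgr Lrot172 (Lpr_ct (K32.f442917 IH) (Lpr_dt (K35.f507131 IH) (Lpr_cf (f435475 IH) (Lpe (K32.f26285 IH) (Lpe (K7.f26284 IH) (Lpe (K24.f26269 IH) (Lpr_dt (K24.f26279 IH) (Lpr_gt (K32.f442831 IH) (Lpr_ct (f444220 IH) (Lpn (LP (LK LD1_c3 LD2_c0 LD3_c51))))))))))))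
theorem f69085 : Led Lsl_dt (LP (LK LD1_c2 LD2_c57 LD3_c11)) = (LP (LK LD1_c1 LD2_c24 LD3_c21)) :=
  Lre_d IH (LK LD1_c2 LD2_c57 LD3_c11) (LK LD1_c1 LD2_c24 LD3_c21) Lrfl Lrfl
theorem f210136 : Led Lsl_at (LP (LK LD1_c4 LD2_c38 LD3_c42)) = (LP (LK LD1_c2 LD2_c57 LD3_c11)) :=
  Lgr Lrot100 (Lpr_af (K16.f210134 IH) (Lpn (LP (LK LD1_c2 LD2_c57 LD3_c11))))
theorem f26825 : Led Lsl_ft (LP (LK LD1_c2 LD2_c16 LD3_c22)) = (LP (LK LD1_c4 LD2_c38 LD3_c42)) :=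
  Lre_f IH (LK LD1_c2 LD2_c16 LD3_c22) (LK LD1_c4 LD2_c38 LD3_c42) Lrfl Lrfl
theorem f26831 : Led Lsl_gt (LP (LK LD1_c2 LD2_c16 LD3_c22)) = (LP (LK LD1_c4 LD2_c38 LD3_c41)) :=
  Lre_g IH (LK LD1_c2 LD2_c16 LD3_c22) (LK LD1_c4 LD2_c38 LD3_c41) Lrfl Lrfl
theorem f210147 : Led Lsl_gt (LP (LK LD1_c4 LD2_c38 LD3_c41)) = (LP (LK LD1_c2 LD2_c57 LD3_c11)) :=
  Lgr Lrot46 (Lpe (f26831 IH) (Lpr_ft (f26825 IH) (Lpr_at (f210136 IH) (Lpn (LP (LK LD1_c2 LD2_c57 LD3_c11))))))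
theorem f507143 : Led Lsl_dt (LP (LK LD1_c5 LD2_c57 LD3_c19)) = (LP (LK LD1_c4 LD2_c38 LD3_c41)) :=
  Lgr Lrot57 (Lpr_gf (f507141 IH) (Lpe (f444220 IH) (Lpe (K32.f505186 IH) (Lpe (K32.f505193 IH) (Lpe (K24.f153699 IH) (Lpr_dt (K7.f69090 IH) (Lpe (K11.f69064 IH) (Lpe (f69085 IH) (Lpe (f210147 IH) (Lpn (LP (LK LD1_c4 LD2_c38 LD3_c41))))))))))))
theorem f442920 : Led Lsl_bt (LP (LK LD1_c11 LD2_c39 LD3_c56)) = (LP (LK LD1_c5 LD2_c57 LD3_c19)) :=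
  Lre_b IH (LK LD1_c11 LD2_c39 LD3_c56) (LK LD1_c5 LD2_c57 LD3_c19) Lrfl Lrfl
theorem f507147 : Led Lsl_bt (LP (LK LD1_c4 LD2_c38 LD3_c41)) = (LP (LK LD1_c9 LD2_c13 LD3_c12)) :=
  Lre_b IH (LK LD1_c4 LD2_c38 LD3_c41) (LK LD1_c9 LD2_c13 LD3_c12) Lrfl Lrfl
theorem f507148 : Led Lsl_df (LP (LK LD1_c11 LD2_c39 LD3_c56)) = (LP (LK LD1_c9 LD2_c13 LD3_c12)) :=
  Lgr Lrot12 (Lpr_bt (f442920 IH) (Lpr_dt (f507143 IH) (Lpr_bt (f507147 IH) (Lpn (LP (LK LD1_c9 LD2_c13 LD3_c12))))))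
theorem f641852 : Led Lsl_ft v5035 = (LP (LK LD1_c9 LD2_c13 LD3_c12)) :=
  Lgr Lrot54 (Lpr_df (f641849 IH) (Lpe (f507062 IH) (Lpr_df (f507148 IH) (Lpn (LP (LK LD1_c9 LD2_c13 LD3_c12))))))
theorem f75835 : Led Lsl_gt (LP (LK LD1_c2 LD2_c56 LD3_c18)) = (LP (LK LD1_c5 LD2_c59 LD3_c61)) :=
  Lre_g IH (LK LD1_c2 LD2_c56 LD3_c18) (LK LD1_c5 LD2_c59 LD3_c61) Lrfl Lrfl
theorem f641944 : Led Lsl_af (LP (LK LD1_c5 LD2_c59 LD3_c61)) = (LP (LK LD1_c9 LD2_c13 LD3_c12)) :=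
  Lgr Lrot31 (Lpe (f75835 IH) (Lpr_gf (f641432 IH) (Lpr_ft (f641852 IH) (Lpn (LP (LK LD1_c9 LD2_c13 LD3_c12))))))
theorem f75836 : Led Lsl_dt (LP (LK LD1_c5 LD2_c59 LD3_c61)) = (LP (LK LD1_c11 LD2_c44 LD3_c30)) :=
  Lre_d IH (LK LD1_c5 LD2_c59 LD3_c61) (LK LD1_c11 LD2_c44 LD3_c30) Lrfl Lrfl
theorem f507150 : Led Lsl_df (LP (LK LD1_c5 LD2_c57 LD3_c19)) = (LP (LK LD1_c4 LD2_c38 LD3_c41)) :=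
  Lgr Lrot38 (Lpr_dt (f507143 IH) (Lpn (LP (LK LD1_c4 LD2_c38 LD3_c41))))
theorem f442911 : Led Lsl_bt (LP (LK LD1_c5 LD2_c57 LD3_c19)) = (LP (LK LD1_c11 LD2_c39 LD3_c56)) :=
  Lre_b IH (LK LD1_c5 LD2_c57 LD3_c19) (LK LD1_c11 LD2_c39 LD3_c56) Lrfl Lrfl
theorem f210149 : Led Lsl_bt (LP (LK LD1_c9 LD2_c13 LD3_c12)) = (LP (LK LD1_c4 LD2_c38 LD3_c41)) :=
  Lre_b IH (LK LD1_c9 LD2_c13 LD3_c12) (LK LD1_c4 LD2_c38 LD3_c41) Lrfl Lrfl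
theorem f507156 : Led Lsl_dt (LP (LK LD1_c11 LD2_c39 LD3_c56)) = (LP (LK LD1_c9 LD2_c13 LD3_c12)) :=
  Lgr Lrot79 (Lpe (f442911 IH) (Lpr_df (f507150 IH) (Lpe (f210149 IH) (Lpn (LP (LK LD1_c9 LD2_c13 LD3_c12))))))
theorem f641948 : Led Lsl_at (LP (LK LD1_c11 LD2_c44 LD3_c30)) = (LP (LK LD1_c11 LD2_c39 LD3_c56)) :=
  Lgr Lrot51 (Lpe (f75836 IH) (Lpr_af (f641944 IH) (Lpe (f507156 IH) (Lpn (LP (LK LD1_c11 LD2_c39 LD3_c56))))))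
theorem f507158 : Led Lsl_at (LP (LK LD1_c5 LD2_c57 LD3_c17)) = (LP (LK LD1_c11 LD2_c39 LD3_c51)) :=
  Lre_a IH (LK LD1_c5 LD2_c57 LD3_c17) (LK LD1_c11 LD2_c39 LD3_c51) Lrfl Lrfl
theorem f641954 : Led Lsl_ff (LP (LK LD1_c11 LD2_c44 LD3_c30)) = (LP (LK LD1_c11 LD2_c39 LD3_c51)) :=
  Lgr Lrot30 (Lpr_at (f641948 IH) (Lpr_ft (f507062 IH) (Lpr_at (f507158 IH) (Lpn (LP (LK LD1_c11 LD2_c39 LD3_c51))))))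
theorem f641960 : Led Lsl_ft (LP (LK LD1_c11 LD2_c44 LD3_c30)) = (LP (LK LD1_c11 LD2_c39 LD3_c51)) :=
  Lgr Lrot48 (Lpr_ff (f641954 IH) (Lpn (LP (LK LD1_c11 LD2_c39 LD3_c51))))
theorem f211018 : Led Lsl_dt (LP (LK LD1_c2 LD2_c51 LD3_c1)) = (LP (LK LD1_c1 LD2_c21 LD3_c32)) :=
  Lre_d IH (LK LD1_c2 LD2_c51 LD3_c1) (LK LD1_c1 LD2_c21 LD3_c32) Lrfl Lrfl
theorem f381926 : Led Lsl_at (LP (LK LD1_c2 LD2_c47 LD3_c49)) = (LP (LK LD1_c1 LD2_c20 LD3_c15)) :=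
  Lre_a IH (LK LD1_c2 LD2_c47 LD3_c49) (LK LD1_c1 LD2_c20 LD3_c15) Lrfl Lrfl
theorem f541753 : Led Lsl_gf (LP (LK LD1_c2 LD2_c47 LD3_c58)) = (LP (LK LD1_c2 LD2_c47 LD3_c55)) :=
  Lgr Lrot47 (Lpr_gt (K40.f381930 IH) (Lpe (f381926 IH) (Lpr_ff (K36.f541745 IH) (Lpn (LP (LK LD1_c2 LD2_c47 LD3_c55))))))
theorem f541792 : Led Lsl_cf (LP (LK LD1_c4 LD2_c0 LD3_c48)) = (LP (LK LD1_c6 LD2_c8 LD3_c32)) :=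
  Lgr Lrot1 (Lpr_at (K39.f29480 IH) (Lpr_ct (K36.f541790 IH) (Lpr_at (K40.f75811 IH) (Lpn (LP (LK LD1_c6 LD2_c8 LD3_c32))))))
theorem f558651 : Led Lsl_ct (LP (LK LD1_c2 LD2_c47 LD3_c58)) = (LP (LK LD1_c4 LD2_c57 LD3_c24)) :=
  Lgr Lrot110 (Lpr_gf (f541753 IH) (Lpe (K36.f75562 IH) (Lpe (K40.f381930 IH) (Lpe (K40.f541758 IH) (Lpr_gt (K40.f558645 IH) (Lpe (f541792 IH) (Lpr_gt (K40.f37070 IH) (Lpr_ct (K36.f541822 IH) (Lpe (K40.f558306 IH) (Lpn (LP (LK LD1_c4 LD2_c57 LD3_c24))))))))))))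
theorem f563808 : Led Lsl_gf (LP (LK LD1_c2 LD2_c51 LD3_c1)) = (LP (LK LD1_c2 LD2_c47 LD3_c59)) :=
  Lgr Lrot143 (Lpr_dt (f211018 IH) (Lpr_cf (K37.f421025 IH) (Lpe (K37.f421031 IH) (Lpr_gf (K40.f563802 IH) (Lpe (K40.f75517 IH) (Lpe (K40.f381403 IH) (Lpe (f558651 IH) (Lpr_gt (K40.f381930 IH) (Lpr_dt (K40.f75554 IH) (Lpn (LP (LK LD1_c2 LD2_c47 LD3_c59))))))))))))
def v1549 : LQ := Led Lsl_gt (LP (LK LD1_c1 LD2_c21 LD3_c32))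
theorem f496209 : Led Lsl_gt (LP (LK LD1_c1 LD2_c21 LD3_c32)) = v1549 :=
  Lrfl
def v1771 : LQ := Led Lsl_gf (LP (LK LD1_c1 LD2_c26 LD3_c3))
theorem f502796 : Led Lsl_gf (LP (LK LD1_c1 LD2_c26 LD3_c3)) = v1771 :=
  Lrfl
theorem f557418 : Led Lsl_ct (LP (LK LD1_c8 LD2_c2 LD3_c9)) = (LP (LK LD1_c5 LD2_c49 LD3_c47)) :=
  Lgr Lrot8 (Lpr_gt (K39.f158270 IH) (Lpr_dt (K36.f438204 IH) (Lpr_gt (K36.f81397 IH) (Lpr_dt (K36.f81379 IH) (Lpr_cf (K36.f539666 IH) (Lpe (K36.f381697 IH) (Lpe (K36.f539662 IH) (Lpe (K37.f185774 IH) (Lpr_gf (K40.f557404 IH) (Lpn (LP (LK LD1_c5 LD2_c49 LD3_c47))))))))))))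
theorem f502785 : Led Lsl_ct (LP (LK LD1_c1 LD2_c26 LD3_c3)) = K39.v1769 :=
  Lgr Lrot15 (Lpe (f75543 IH) (Lpe (K32.f20242 IH) (Lpr_ef (K40.f502783 IH) (Lpn K39.v1769))))
theorem f558695 : v1771 = (LP (LK LD1_c1 LD2_c21 LD3_c32)) :=
  (Llr Lrot104 (Lpe (f502796 IH) (Lpr_ct (f502785 IH) (Lpqs (K40.f557423 IH) (Lpe (K40.f421034 IH) (Lpe (f557418 IH) (Lpe (K40.f29483 IH) (Lpr_cf (K37.f541810 IH) (Lpr_gf (K40.f558683 IH) (Lpe (K40.f421047 IH) (Lpr_gt (K38.f421035 IH) (Lpe (K37.f421025 IH) (Lpn (LP (LK LD1_c1 LD2_c21 LD3_c32))))))))))))))).symm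
theorem f558696 : (LP (LK LD1_c1 LD2_c26 LD3_c3)) = v1549 :=
  Lefun (Lecon (Lfl_gf (f502796 IH)) (f558695 IH)) (f496209 IH)
theorem f616260 : Led Lsl_et (LP (LK LD1_c5 LD2_c43 LD3_c52)) = (LP (LK LD1_c2 LD2_c47 LD3_c59)) :=
  Lre_e IH (LK LD1_c5 LD2_c43 LD3_c52) (LK LD1_c2 LD2_c47 LD3_c59) Lrfl Lrfl
theorem f542572 : Led Lsl_dt (LP (LK LD1_c5 LD2_c43 LD3_c52)) = (LP (LK LD1_c2 LD2_c47 LD3_c57)) :=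
  Lre_d IH (LK LD1_c5 LD2_c43 LD3_c52) (LK LD1_c2 LD2_c47 LD3_c57) Lrfl Lrfl
theorem f542574 : Led Lsl_gt (LP (LK LD1_c5 LD2_c43 LD3_c51)) = (LP (LK LD1_c2 LD2_c47 LD3_c57)) :=
  Lre_g IH (LK LD1_c5 LD2_c43 LD3_c51) (LK LD1_c2 LD2_c47 LD3_c57) Lrfl Lrfl
theorem f542575 : Led Lsl_dt (LP (LK LD1_c11 LD2_c17 LD3_c45)) = (LP (LK LD1_c5 LD2_c43 LD3_c51)) :=
  Lre_d IH (LK LD1_c11 LD2_c17 LD3_c45) (LK LD1_c5 LD2_c43 LD3_c51) Lrfl Lrfl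
theorem f616261 : Led Lsl_ef (LP (LK LD1_c5 LD2_c59 LD3_c61)) = (LP (LK LD1_c11 LD2_c17 LD3_c45)) :=
  Lgr Lrot17 (Lpe (f75835 IH) (Lpr_ef (K32.f75816 IH) (Lpr_dt (K32.f75531 IH) (Lpqs (f558696 IH) (Lpe (f496209 IH) (Lpe (f211018 IH) (Lpr_gf (f563808 IH) (Lpe (f616260 IH) (Lpr_dt (f542572 IH) (Lpe (f542574 IH) (Lpe (f542575 IH) (Lpn (LP (LK LD1_c11 LD2_c17 LD3_c45))))))))))))))
theorem f616271 : Led Lsl_et (LP (LK LD1_c5 LD2_c59 LD3_c61)) = (LP (LK LD1_c11 LD2_c17 LD3_c45)) :=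
  Lgr Lrot87 (Lpr_ef (f616261 IH) (Lpn (LP (LK LD1_c11 LD2_c17 LD3_c45))))
theorem f502636 : Led Lsl_dt (LP (LK LD1_c11 LD2_c44 LD3_c30)) = (LP (LK LD1_c5 LD2_c59 LD3_c61)) :=
  Lre_d IH (LK LD1_c11 LD2_c44 LD3_c30) (LK LD1_c5 LD2_c59 LD3_c61) Lrfl Lrfl
theorem f616276 : Led Lsl_et (LP (LK LD1_c5 LD2_c43 LD3_c51)) = (LP (LK LD1_c11 LD2_c17 LD3_c46)) :=
  Lre_e IH (LK LD1_c5 LD2_c43 LD3_c51) (LK LD1_c11 LD2_c17 LD3_c46) Lrfl Lrfl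
theorem f616277 : Led Lsl_dt (LP (LK LD1_c11 LD2_c17 LD3_c46)) = (LP (LK LD1_c11 LD2_c20 LD3_c2)) :=
  Lre_d IH (LK LD1_c11 LD2_c17 LD3_c46) (LK LD1_c11 LD2_c20 LD3_c2) Lrfl Lrfl
theorem f616278 : Led Lsl_ef (LP (LK LD1_c11 LD2_c44 LD3_c30)) = (LP (LK LD1_c11 LD2_c20 LD3_c2)) :=
  Lgr Lrot73 (Lpr_dt (f502636 IH) (Lpr_et (f616271 IH) (Lpr_dt (f542575 IH) (Lpr_et (f616276 IH) (Lpr_dt (f616277 IH) (Lpn (LP (LK LD1_c11 LD2_c20 LD3_c2))))))))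
theorem f507786 : Led Lsl_et (LP (LK LD1_c11 LD2_c39 LD3_c51)) = (LP (LK LD1_c5 LD2_c57 LD3_c15)) :=
  Lre_e IH (LK LD1_c11 LD2_c39 LD3_c51) (LK LD1_c5 LD2_c57 LD3_c15) Lrfl Lrfl
def v5022 : LQ := Led Lsl_ft (LP (LK LD1_c2 LD2_c55 LD3_c57))
theorem f641359 : Led Lsl_ft (LP (LK LD1_c2 LD2_c55 LD3_c57)) = v5022 :=
  Lrfl
theorem f641361 : Led Lsl_ff (LP (LK LD1_c2 LD2_c55 LD3_c57)) = v5022 :=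
  Lgr Lrot3 (Lpr_ft (f641359 IH) (Lpn v5022))
theorem f641362 : Led Lsl_at v1680 = v5022 :=
  Lgr Lrot66 (Lpr_ff (f641354 IH) (Lpe (f641351 IH) (Lpr_ff (f641361 IH) (Lpn v5022))))
theorem f500588 : Led Lsl_at (LP (LK LD1_c2 LD2_c54 LD3_c53)) = (LP (LK LD1_c5 LD2_c57 LD3_c15)) :=
  Lre_a IH (LK LD1_c2 LD2_c54 LD3_c53) (LK LD1_c5 LD2_c57 LD3_c15) Lrfl Lrfl
theorem f641755 : v5022 = (LP (LK LD1_c5 LD2_c57 LD3_c15)) :=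
  Lefun (Lecon (f641362 IH) (f641742 IH)) (f500588 IH)
theorem f641964 : Led Lsl_ff (LP (LK LD1_c11 LD2_c20 LD3_c2)) = (LP (LK LD1_c5 LD2_c59 LD3_c7)) :=
  Lgr Lrot72 (Lpe (f616278 IH) (Lpr_ft (f641960 IH) (Lpr_et (f507786 IH) (Lpq (f641755 IH) (Lpe (f641361 IH) (Lpr_et (f564012 IH) (Lpn (LP (LK LD1_c5 LD2_c59 LD3_c7)))))))))
theorem f616268 : Led Lsl_dt (LP (LK LD1_c11 LD2_c20 LD3_c2)) = (LP (LK LD1_c11 LD2_c17 LD3_c46)) :=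
  Lre_d IH (LK LD1_c11 LD2_c20 LD3_c2) (LK LD1_c11 LD2_c17 LD3_c46) Lrfl Lrfl
theorem f641970 : Led Lsl_ft (LP (LK LD1_c11 LD2_c17 LD3_c46)) = (LP (LK LD1_c6 LD2_c1 LD3_c9)) :=
  Lgr Lrot54 (Lpe (f616268 IH) (Lpr_ff (f641964 IH) (Lpe (f564002 IH) (Lpn (LP (LK LD1_c6 LD2_c1 LD3_c9))))))
theorem f641977 : Led Lsl_ff (LP (LK LD1_c11 LD2_c17 LD3_c46)) = (LP (LK LD1_c6 LD2_c1 LD3_c9)) :=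
  Lgr Lrot3 (Lpr_ft (f641970 IH) (Lpn (LP (LK LD1_c6 LD2_c1 LD3_c9))))
theorem f641981 : Led Lsl_ct (LP (LK LD1_c11 LD2_c17 LD3_c46)) = (LP (LK LD1_c20 LD2_c13 LD3_c55)) :=
  Lre_c IH (LK LD1_c11 LD2_c17 LD3_c46) (LK LD1_c20 LD2_c13 LD3_c55) Lrfl Lrfl
theorem f564021 : Led Lsl_ct (LP (LK LD1_c11 LD2_c46 LD3_c58)) = (LP (LK LD1_c6 LD2_c1 LD3_c9)) :=
  Lre_c IH (LK LD1_c11 LD2_c46 LD3_c58) (LK LD1_c6 LD2_c1 LD3_c9) Lrfl Lrfl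
theorem f641982 : Led Lsl_ft (LP (LK LD1_c20 LD2_c13 LD3_c55)) = (LP (LK LD1_c11 LD2_c46 LD3_c58)) :=
  Lgr Lrot4 (Lpe (f641981 IH) (Lpr_ff (f641977 IH) (Lpe (f564021 IH) (Lpn (LP (LK LD1_c11 LD2_c46 LD3_c58))))))
theorem f507725 : Led Lsl_ct (LP (LK LD1_c17 LD2_c8 LD3_c20)) = (LP (LK LD1_c9 LD2_c13 LD3_c58)) :=
  Lre_c IH (LK LD1_c17 LD2_c8 LD3_c20) (LK LD1_c9 LD2_c13 LD3_c58) Lrfl Lrfl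
theorem f564024 : Led Lsl_ct (LP (LK LD1_c6 LD2_c1 LD3_c9)) = (LP (LK LD1_c11 LD2_c46 LD3_c58)) :=
  Lre_c IH (LK LD1_c6 LD2_c1 LD3_c9) (LK LD1_c11 LD2_c46 LD3_c58) Lrfl Lrfl
theorem f641732 : Led Lsl_af (LP (LK LD1_c17 LD2_c8 LD3_c20)) = (LP (LK LD1_c11 LD2_c46 LD3_c58)) :=
  Lgr Lrot68 (Lpr_ct (f507725 IH) (Lpr_at (f641728 IH) (Lpr_ct (f564024 IH) (Lpn (LP (LK LD1_c11 LD2_c46 LD3_c58))))))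
theorem f140906 : Led Lsl_ct (LP (LK LD1_c9 LD2_c13 LD3_c58)) = (LP (LK LD1_c17 LD2_c8 LD3_c20)) :=
  Lre_c IH (LK LD1_c9 LD2_c13 LD3_c58) (LK LD1_c17 LD2_c8 LD3_c20) Lrfl Lrfl
theorem f641660 : Led Lsl_ct (LP (LK LD1_c11 LD2_c46 LD3_c60)) = (LP (LK LD1_c6 LD2_c1 LD3_c10)) :=
  Lre_c IH (LK LD1_c11 LD2_c46 LD3_c60) (LK LD1_c6 LD2_c1 LD3_c10) Lrfl Lrfl
theorem f641724 : Led Lsl_ft (LP (LK LD1_c17 LD2_c8 LD3_c20)) = (LP (LK LD1_c11 LD2_c46 LD3_c60)) :=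
  Lgr Lrot4 (Lpe (f140906 IH) (Lpr_ff (f641721 IH) (Lpe (f641660 IH) (Lpn (LP (LK LD1_c11 LD2_c46 LD3_c60))))))
theorem f641985 : Led Lsl_af (LP (LK LD1_c20 LD2_c13 LD3_c55)) = (LP (LK LD1_c11 LD2_c46 LD3_c60)) :=
  Lgr Lrot45 (Lpr_ft (f641982 IH) (Lpe (f641732 IH) (Lpr_ft (f641724 IH) (Lpn (LP (LK LD1_c11 LD2_c46 LD3_c60))))))
theorem f641991 : Led Lsl_dt (LP (LK LD1_c20 LD2_c13 LD3_c55)) = (LP (LK LD1_c20 LD2_c16 LD3_c39)) :=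
  Lre_d IH (LK LD1_c20 LD2_c13 LD3_c55) (LK LD1_c20 LD2_c16 LD3_c39) Lrfl Lrfl
theorem f641658 : Led Lsl_dt (LP (LK LD1_c20 LD2_c49 LD3_c4)) = (LP (LK LD1_c11 LD2_c46 LD3_c60)) :=
  Lre_d IH (LK LD1_c20 LD2_c49 LD3_c4) (LK LD1_c11 LD2_c46 LD3_c60) Lrfl Lrfl
theorem f641996 : Led Lsl_at (LP (LK LD1_c20 LD2_c16 LD3_c39)) = (LP (LK LD1_c20 LD2_c49 LD3_c4)) :=
  Lgr Lrot51 (Lpe (f641991 IH) (Lpr_af (f641985 IH) (Lpe (f641658 IH) (Lpn (LP (LK LD1_c20 LD2_c49 LD3_c4))))))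
theorem f641999 : Led Lsl_af (LP (LK LD1_c20 LD2_c16 LD3_c39)) = (LP (LK LD1_c20 LD2_c49 LD3_c4)) :=
  Lgr Lrot0 (Lpr_at (f641996 IH) (Lpn (LP (LK LD1_c20 LD2_c49 LD3_c4))))
theorem f642001 : Led Lsl_gt (LP (LK LD1_c11 LD2_c19 LD3_c41)) = (LP (LK LD1_c20 LD2_c16 LD3_c39)) :=
  Lre_g IH (LK LD1_c11 LD2_c19 LD3_c41) (LK LD1_c20 LD2_c16 LD3_c39) Lrfl Lrfl
theorem f641629 : Led Lsl_gt (LP (LK LD1_c20 LD2_c16 LD3_c40)) = (LP (LK LD1_c11 LD2_c19 LD3_c41)) :=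
  Lre_g IH (LK LD1_c20 LD2_c16 LD3_c40) (LK LD1_c11 LD2_c19 LD3_c41) Lrfl Lrfl
theorem f642002 : Led Lsl_ft (LP (LK LD1_c20 LD2_c16 LD3_c40)) = (LP (LK LD1_c20 LD2_c49 LD3_c4)) :=
  Lgr Lrot2 (Lpr_gt (f641629 IH) (Lpr_gt (f642001 IH) (Lpr_af (f641999 IH) (Lpn (LP (LK LD1_c20 LD2_c49 LD3_c4))))))
theorem f642008 : Led Lsl_ff (LP (LK LD1_c20 LD2_c16 LD3_c40)) = (LP (LK LD1_c20 LD2_c49 LD3_c4)) :=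
  Lgr Lrot3 (Lpr_ft (f642002 IH) (Lpn (LP (LK LD1_c20 LD2_c49 LD3_c4))))
theorem f641659 : Led Lsl_dt (LP (LK LD1_c11 LD2_c46 LD3_c60)) = (LP (LK LD1_c20 LD2_c49 LD3_c4)) :=
  Lre_d IH (LK LD1_c11 LD2_c46 LD3_c60) (LK LD1_c20 LD2_c49 LD3_c4) Lrfl Lrfl
theorem f642012 : Led Lsl_dt (LP (LK LD1_c20 LD2_c16 LD3_c40)) = (LP (LK LD1_c17 LD2_c8 LD3_c20)) :=
  Lgr Lrot60 (Lpr_ff (f642008 IH) (Lpe (f641659 IH) (Lpe (f641724 IH) (Lpn (LP (LK LD1_c17 LD2_c8 LD3_c20))))))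
theorem f641987 : Led Lsl_dt (LP (LK LD1_c20 LD2_c16 LD3_c39)) = (LP (LK LD1_c20 LD2_c13 LD3_c55)) :=
  Lre_d IH (LK LD1_c20 LD2_c16 LD3_c39) (LK LD1_c20 LD2_c13 LD3_c55) Lrfl Lrfl
theorem f564036 : Led Lsl_dt (LP (LK LD1_c11 LD2_c46 LD3_c58)) = (LP (LK LD1_c20 LD2_c49 LD3_c2)) :=
  Lre_d IH (LK LD1_c11 LD2_c46 LD3_c58) (LK LD1_c20 LD2_c49 LD3_c2) Lrfl Lrfl
theorem f641988 : Led Lsl_ff (LP (LK LD1_c20 LD2_c16 LD3_c39)) = (LP (LK LD1_c20 LD2_c49 LD3_c2)) :=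
  Lgr Lrot19 (Lpr_dt (f641987 IH) (Lpr_ft (f641982 IH) (Lpr_dt (f564036 IH) (Lpn (LP (LK LD1_c20 LD2_c49 LD3_c2))))))
theorem f641992 : Led Lsl_ft (LP (LK LD1_c20 LD2_c16 LD3_c39)) = (LP (LK LD1_c20 LD2_c49 LD3_c2)) :=
  Lgr Lrot48 (Lpr_ff (f641988 IH) (Lpn (LP (LK LD1_c20 LD2_c49 LD3_c2))))
theorem f642004 : Led Lsl_af (LP (LK LD1_c20 LD2_c16 LD3_c40)) = (LP (LK LD1_c20 LD2_c49 LD3_c2)) :=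
  Lgr Lrot45 (Lpr_ft (f642002 IH) (Lpe (f641999 IH) (Lpr_ft (f641992 IH) (Lpn (LP (LK LD1_c20 LD2_c49 LD3_c2))))))
theorem f642014 : Led Lsl_af (LP (LK LD1_c11 LD2_c46 LD3_c58)) = (LP (LK LD1_c17 LD2_c8 LD3_c20)) :=
  Lgr Lrot117 (Lpr_dt (f564036 IH) (Lpe (f642004 IH) (Lpr_dt (f642012 IH) (Lpn (LP (LK LD1_c17 LD2_c8 LD3_c20))))))
theorem f641716 : Led Lsl_ff (LP (LK LD1_c17 LD2_c8 LD3_c20)) = (LP (LK LD1_c11 LD2_c46 LD3_c60)) :=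
  Lgr Lrot23 (Lpr_ct (f507725 IH) (Lpr_ft (f641712 IH) (Lpr_ct (f641654 IH) (Lpn (LP (LK LD1_c11 LD2_c46 LD3_c60))))))
theorem f642017 : Led Lsl_gf (LP (LK LD1_c11 LD2_c46 LD3_c58)) = (LP (LK LD1_c20 LD2_c16 LD3_c52)) :=
  Lgr Lrot76 (Lpr_af (f642014 IH) (Lpr_ff (f641716 IH) (Lpr_gt (f641655 IH) (Lpn (LP (LK LD1_c20 LD2_c16 LD3_c52))))))
theorem f562470 : Led Lsl_gt (LP (LK LD1_c5 LD2_c44 LD3_c20)) = (LP (LK LD1_c11 LD2_c18 LD3_c47)) :=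
  Lre_g IH (LK LD1_c5 LD2_c44 LD3_c20) (LK LD1_c11 LD2_c18 LD3_c47) Lrfl Lrfl
theorem f500746 : Led Lsl_et (LP (LK LD1_c2 LD2_c55 LD3_c58)) = (LP (LK LD1_c1 LD2_c23 LD3_c57)) :=
  Lre_e IH (LK LD1_c2 LD2_c55 LD3_c58) (LK LD1_c1 LD2_c23 LD3_c57) Lrfl Lrfl
theorem f105166 : Led Lsl_dt (LP (LK LD1_c2 LD2_c55 LD3_c58)) = (LP (LK LD1_c1 LD2_c23 LD3_c55)) :=
  Lre_d IH (LK LD1_c2 LD2_c55 LD3_c58) (LK LD1_c1 LD2_c23 LD3_c55) Lrfl Lrfl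
theorem f500772 : Led Lsl_dt (LP (LK LD1_c5 LD2_c59 LD3_c6)) = (LP (LK LD1_c2 LD2_c55 LD3_c57)) :=
  Lre_d IH (LK LD1_c5 LD2_c59 LD3_c6) (LK LD1_c2 LD2_c55 LD3_c57) Lrfl Lrfl
theorem f563994 : Led Lsl_ef (LP (LK LD1_c11 LD2_c18 LD3_c47)) = (LP (LK LD1_c5 LD2_c59 LD3_c6)) :=
  Lgr Lrot17 (Lpe (f562470 IH) (Lpr_ef (K40.f562457 IH) (Lpe (K40.f562475 IH) (Lpr_gf (f563982 IH) (Lpe (f24460 IH) (Lpq (K39.f556084 IH) (Lpe (K39.f500765 IH) (Lpe (f500746 IH) (Lpr_dt (f105166 IH) (Lpe (f76296 IH) (Lpe (f500772 IH) (Lpn (LP (LK LD1_c5 LD2_c59 LD3_c6))))))))))))))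
theorem f564006 : Led Lsl_et (LP (LK LD1_c11 LD2_c18 LD3_c47)) = (LP (LK LD1_c5 LD2_c59 LD3_c6)) :=
  Lgr Lrot87 (Lpr_ef (f563994 IH) (Lpn (LP (LK LD1_c5 LD2_c59 LD3_c6))))
theorem f564013 : Led Lsl_dt (LP (LK LD1_c5 LD2_c59 LD3_c7)) = (LP (LK LD1_c6 LD2_c1 LD3_c9)) :=
  Lre_d IH (LK LD1_c5 LD2_c59 LD3_c7) (LK LD1_c6 LD2_c1 LD3_c9) Lrfl Lrfl
theorem f564014 : Led Lsl_et (LP (LK LD1_c6 LD2_c1 LD3_c9)) = (LP (LK LD1_c11 LD2_c46 LD3_c59)) :=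
  Lre_e IH (LK LD1_c6 LD2_c1 LD3_c9) (LK LD1_c11 LD2_c46 LD3_c59) Lrfl Lrfl
theorem f564015 : Led Lsl_df (LP (LK LD1_c11 LD2_c18 LD3_c47)) = (LP (LK LD1_c11 LD2_c46 LD3_c59)) :=
  Lgr Lrot70 (Lpr_et (f564006 IH) (Lpr_dt (f500772 IH) (Lpr_et (f564012 IH) (Lpr_dt (f564013 IH) (Lpr_et (f564014 IH) (Lpn (LP (LK LD1_c11 LD2_c46 LD3_c59))))))))
theorem f383328 : Led Lsl_et (LP (LK LD1_c1 LD2_c20 LD3_c20)) = (LP (LK LD1_c0 LD2_c37 LD3_c6)) :=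
  Lre_e IH (LK LD1_c1 LD2_c20 LD3_c20) (LK LD1_c0 LD2_c37 LD3_c6) Lrfl Lrfl
theorem f383329 : Led Lsl_dt (LP (LK LD1_c1 LD2_c20 LD3_c20)) = (LP (LK LD1_c0 LD2_c38 LD3_c51)) :=
  Lre_d IH (LK LD1_c1 LD2_c20 LD3_c20) (LK LD1_c0 LD2_c38 LD3_c51) Lrfl Lrfl
theorem f564003 : Led Lsl_et (LP (LK LD1_c11 LD2_c46 LD3_c59)) = (LP (LK LD1_c6 LD2_c1 LD3_c9)) :=
  Lre_e IH (LK LD1_c11 LD2_c46 LD3_c59) (LK LD1_c6 LD2_c1 LD3_c9) Lrfl Lrfl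
theorem f564019 : Led Lsl_gf (LP (LK LD1_c2 LD2_c56 LD3_c52)) = (LP (LK LD1_c6 LD2_c1 LD3_c9)) :=
  Lgr Lrot138 (Lpr_dt (f383331 IH) (Lpr_gt (f383330 IH) (Lpe (f383329 IH) (Lpr_et (f383328 IH) (Lpr_gt (K27.f75568 IH) (Lpe (K27.f383322 IH) (Lpr_dt (K40.f383257 IH) (Lpr_gt (f562470 IH) (Lpr_df (f564015 IH) (Lpr_et (f564003 IH) (Lpn (LP (LK LD1_c6 LD2_c1 LD3_c9)))))))))))))
theorem f500851 : Led Lsl_ct (LP (LK LD1_c2 LD2_c56 LD3_c52)) = (LP (LK LD1_c6 LD2_c1 LD3_c23)) :=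
  Lre_c IH (LK LD1_c2 LD2_c56 LD3_c52) (LK LD1_c6 LD2_c1 LD3_c23) Lrfl Lrfl
theorem f500852 : Led Lsl_dt (LP (LK LD1_c6 LD2_c1 LD3_c23)) = (LP (LK LD1_c11 LD2_c47 LD3_c24)) :=
  Lre_d IH (LK LD1_c6 LD2_c1 LD3_c23) (LK LD1_c11 LD2_c47 LD3_c24) Lrfl Lrfl
theorem f642021 : Led Lsl_gt (LP (LK LD1_c11 LD2_c19 LD3_c47)) = (LP (LK LD1_c20 LD2_c14 LD3_c46)) :=
  Lre_g IH (LK LD1_c11 LD2_c19 LD3_c47) (LK LD1_c20 LD2_c14 LD3_c46) Lrfl Lrfl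
theorem f641627 : Led Lsl_ct (LP (LK LD1_c20 LD2_c14 LD3_c46)) = (LP (LK LD1_c11 LD2_c46 LD3_c36)) :=
  Lre_c IH (LK LD1_c20 LD2_c14 LD3_c46) (LK LD1_c11 LD2_c46 LD3_c36) Lrfl Lrfl
theorem f641583 : Led Lsl_gt (LP (LK LD1_c11 LD2_c46 LD3_c36)) = (LP (LK LD1_c20 LD2_c16 LD3_c56)) :=
  Lre_g IH (LK LD1_c11 LD2_c46 LD3_c36) (LK LD1_c20 LD2_c16 LD3_c56) Lrfl Lrfl
theorem f642022 : Led Lsl_cf (LP (LK LD1_c11 LD2_c47 LD3_c24)) = (LP (LK LD1_c20 LD2_c16 LD3_c56)) :=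
  Lgr Lrot99 (Lpe (f500852 IH) (Lpe (f500851 IH) (Lpr_gf (f564019 IH) (Lpe (f564021 IH) (Lpr_gf (f642017 IH) (Lpe (f641667 IH) (Lpr_gt (f642021 IH) (Lpr_ct (f641627 IH) (Lpr_gt (f641583 IH) (Lpn (LP (LK LD1_c20 LD2_c16 LD3_c56))))))))))))
theorem f564025 : Led Lsl_dt (LP (LK LD1_c11 LD2_c47 LD3_c24)) = (LP (LK LD1_c6 LD2_c1 LD3_c23)) :=
  Lre_d IH (LK LD1_c11 LD2_c47 LD3_c24) (LK LD1_c6 LD2_c1 LD3_c23) Lrfl Lrfl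
theorem f564027 : Led Lsl_ct (LP (LK LD1_c6 LD2_c1 LD3_c23)) = (LP (LK LD1_c2 LD2_c56 LD3_c52)) :=
  Lre_c IH (LK LD1_c6 LD2_c1 LD3_c23) (LK LD1_c2 LD2_c56 LD3_c52) Lrfl Lrfl
theorem f641524 : Led Lsl_dt (LP (LK LD1_c2 LD2_c56 LD3_c47)) = (LP (LK LD1_c6 LD2_c1 LD3_c7)) :=
  Lre_d IH (LK LD1_c2 LD2_c56 LD3_c47) (LK LD1_c6 LD2_c1 LD3_c7) Lrfl Lrfl
theorem f641526 : Led Lsl_ct (LP (LK LD1_c6 LD2_c1 LD3_c7)) = (LP (LK LD1_c11 LD2_c46 LD3_c54)) :=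
  Lre_c IH (LK LD1_c6 LD2_c1 LD3_c7) (LK LD1_c11 LD2_c46 LD3_c54) Lrfl Lrfl
theorem f642030 : Led Lsl_dt (LP (LK LD1_c11 LD2_c46 LD3_c54)) = (LP (LK LD1_c20 LD2_c16 LD3_c56)) :=
  Lgr Lrot32 (Lpe (f641526 IH) (Lpe (f641524 IH) (Lpr_ft (f641562 IH) (Lpe (f641563 IH) (Lpe (f500858 IH) (Lpe (f383331 IH) (Lpe (f564027 IH) (Lpe (f564025 IH) (Lpr_cf (f642022 IH) (Lpn (LP (LK LD1_c20 LD2_c16 LD3_c56))))))))))))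
theorem f642031 : Led Lsl_dt (LP (LK LD1_c11 LD2_c46 LD3_c54)) = (LP (LK LD1_c20 LD2_c16 LD3_c56)) :=
  Leop (Lpe (f642030 IH) (Lpn (LP (LK LD1_c11 LD2_c46 LD3_c54))))
theorem seed_294 : LEOK LG_d (LK LD1_c11 LD2_c46 LD3_c54) :=
  Leoe_d (LK LD1_c11 LD2_c46 LD3_c54) (f642031 IH)
theorem f642224 : Led Lsl_et (LP (LK LD1_c9 LD2_c48 LD3_c36)) = (LP (LK LD1_c4 LD2_c59 LD3_c3)) :=
  Lre_e IH (LK LD1_c9 LD2_c48 LD3_c36) (LK LD1_c4 LD2_c59 LD3_c3) Lrfl Lrfl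
theorem f144093 : Led Lsl_cf (LP (LK LD1_c1 LD2_c7 LD3_c22)) = (LP (LK LD1_c2 LD2_c15 LD3_c25)) :=
  Lgr Lrot11 (Lpr_ct (K32.f144089 IH) (Lpn (LP (LK LD1_c2 LD2_c15 LD3_c25))))
theorem f82936 : Led Lsl_ct (LP (LK LD1_c1 LD2_c32 LD3_c58)) = (LP (LK LD1_c0 LD2_c43 LD3_c0)) :=
  Lre_c IH (LK LD1_c1 LD2_c32 LD3_c58) (LK LD1_c0 LD2_c43 LD3_c0) Lrfl Lrfl
theorem f446235 : Led Lsl_gt (LP (LK LD1_c1 LD2_c4 LD3_c25)) = (LP (LK LD1_c1 LD2_c32 LD3_c58)) :=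
  Lgr Lrot150 (Lpe (K7.f25219 IH) (Lpe (K32.f25232 IH) (Lpe (K32.f144062 IH) (Lpr_gt (K32.f446233 IH) (Lpr_ct (K35.f22524 IH) (Lpr_gt (K35.f414556 IH) (Lpr_ct (K32.f13575 IH) (Lpe (K11.f13563 IH) (Lpe (f82936 IH) (Lpn (LP (LK LD1_c1 LD2_c32 LD3_c58))))))))))))
theorem f25246 : Led Lsl_ft (LP (LK LD1_c1 LD2_c4 LD3_c25)) = (LP (LK LD1_c2 LD2_c14 LD3_c38)) :=
  Lre_f IH (LK LD1_c1 LD2_c4 LD3_c25) (LK LD1_c2 LD2_c14 LD3_c38) Lrfl Lrfl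
theorem f446243 : Led Lsl_gf (LP (LK LD1_c1 LD2_c22 LD3_c24)) = (LP (LK LD1_c1 LD2_c32 LD3_c58)) :=
  Lgr Lrot76 (Lpe (K7.f151940 IH) (Lpe (f25246 IH) (Lpr_gt (f446235 IH) (Lpn (LP (LK LD1_c1 LD2_c32 LD3_c58))))))
theorem f446246 : Led Lsl_bt (LP (LK LD1_c3 LD2_c12 LD3_c61)) = (LP (LK LD1_c1 LD2_c32 LD3_c58)) :=
  Lre_b IH (LK LD1_c3 LD2_c12 LD3_c61) (LK LD1_c1 LD2_c32 LD3_c58) Lrfl Lrfl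
theorem f446247 : Led Lsl_ct (LP (LK LD1_c3 LD2_c12 LD3_c61)) = (LP (LK LD1_c6 LD2_c29 LD3_c54)) :=
  Lre_c IH (LK LD1_c3 LD2_c12 LD3_c61) (LK LD1_c6 LD2_c29 LD3_c54) Lrfl Lrfl
theorem f641979 : Led Lsl_at (LP (LK LD1_c11 LD2_c17 LD3_c46)) = (LP (LK LD1_c6 LD2_c1 LD3_c10)) :=
  Lgr Lrot66 (Lpr_ff (f641977 IH) (Lpe (f641728 IH) (Lpr_ff (f641721 IH) (Lpn (LP (LK LD1_c6 LD2_c1 LD3_c10))))))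
theorem f641652 : Led Lsl_dt (LP (LK LD1_c6 LD2_c1 LD3_c10)) = (LP (LK LD1_c11 LD2_c46 LD3_c61)) :=
  Lre_d IH (LK LD1_c6 LD2_c1 LD3_c10) (LK LD1_c11 LD2_c46 LD3_c61) Lrfl Lrfl
theorem f642118 : Led Lsl_af (LP (LK LD1_c11 LD2_c20 LD3_c2)) = (LP (LK LD1_c11 LD2_c46 LD3_c61)) :=
  Lgr Lrot117 (Lpr_dt (f616268 IH) (Lpr_at (f641979 IH) (Lpr_dt (f641652 IH) (Lpn (LP (LK LD1_c11 LD2_c46 LD3_c61))))))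
theorem f642120 : Led Lsl_et (LP (LK LD1_c11 LD2_c39 LD3_c56)) = (LP (LK LD1_c11 LD2_c46 LD3_c61)) :=
  Lgr Lrot123 (Lpe (f641948 IH) (Lpr_ef (f616278 IH) (Lpr_af (f642118 IH) (Lpn (LP (LK LD1_c11 LD2_c46 LD3_c61))))))
theorem f642133 : Led Lsl_ef (LP (LK LD1_c11 LD2_c39 LD3_c56)) = (LP (LK LD1_c11 LD2_c46 LD3_c61)) :=
  Lgr Lrot88 (Lpr_et (f642120 IH) (Lpn (LP (LK LD1_c11 LD2_c46 LD3_c61))))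
theorem f641664 : Led Lsl_dt (LP (LK LD1_c11 LD2_c46 LD3_c61)) = (LP (LK LD1_c6 LD2_c1 LD3_c10)) :=
  Lre_d IH (LK LD1_c11 LD2_c46 LD3_c61) (LK LD1_c6 LD2_c1 LD3_c10) Lrfl Lrfl
theorem f383346 : Led Lsl_gt (LP (LK LD1_c2 LD2_c56 LD3_c7)) = (LP (LK LD1_c1 LD2_c24 LD3_c10)) :=
  Lre_g IH (LK LD1_c2 LD2_c56 LD3_c7) (LK LD1_c1 LD2_c24 LD3_c10) Lrfl Lrfl
theorem f75946 : Led Lsl_et (LP (LK LD1_c4 LD2_c49 LD3_c0)) = (LP (LK LD1_c2 LD2_c56 LD3_c7)) :=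
  Lre_e IH (LK LD1_c4 LD2_c49 LD3_c0) (LK LD1_c2 LD2_c56 LD3_c7) Lrfl Lrfl
theorem f75912 : Led Lsl_dt (LP (LK LD1_c4 LD2_c49 LD3_c0)) = (LP (LK LD1_c9 LD2_c30 LD3_c36)) :=
  Lre_d IH (LK LD1_c4 LD2_c49 LD3_c0) (LK LD1_c9 LD2_c30 LD3_c36) Lrfl Lrfl
theorem f641663 : Led Lsl_gt (LP (LK LD1_c4 LD2_c49 LD3_c9)) = (LP (LK LD1_c9 LD2_c30 LD3_c36)) :=
  Lre_g IH (LK LD1_c4 LD2_c49 LD3_c9) (LK LD1_c9 LD2_c30 LD3_c36) Lrfl Lrfl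
theorem f502757 : Led Lsl_dt (LP (LK LD1_c9 LD2_c31 LD3_c1)) = (LP (LK LD1_c4 LD2_c49 LD3_c9)) :=
  Lre_d IH (LK LD1_c9 LD2_c31 LD3_c1) (LK LD1_c4 LD2_c49 LD3_c9) Lrfl Lrfl
theorem f502758 : Led Lsl_et (LP (LK LD1_c9 LD2_c31 LD3_c1)) = (LP (LK LD1_c17 LD2_c32 LD3_c40)) :=
  Lre_e IH (LK LD1_c9 LD2_c31 LD3_c1) (LK LD1_c17 LD2_c32 LD3_c40) Lrfl Lrfl
theorem f642135 : Led Lsl_gt (LP (LK LD1_c11 LD2_c39 LD3_c56)) = (LP (LK LD1_c17 LD2_c32 LD3_c40)) :=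
  Lgr Lrot131 (Lpr_ef (f642133 IH) (Lpr_dt (f641664 IH) (Lpe (f641650 IH) (Lpe (f500850 IH) (Lpe (f383346 IH) (Lpe (f75946 IH) (Lpr_dt (f75912 IH) (Lpe (f641663 IH) (Lpe (f502757 IH) (Lpr_et (f502758 IH) (Lpn (LP (LK LD1_c17 LD2_c32 LD3_c40)))))))))))))
theorem f642137 : Led Lsl_gf (LP (LK LD1_c11 LD2_c39 LD3_c51)) = (LP (LK LD1_c17 LD2_c32 LD3_c40)) :=
  Lgr Lrot76 (Lpe (f507158 IH) (Lpe (f507062 IH) (Lpr_gt (f642135 IH) (Lpn (LP (LK LD1_c17 LD2_c32 LD3_c40))))))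
theorem f414269 : Led Lsl_gt (LP (LK LD1_c2 LD2_c22 LD3_c24)) = (LP (LK LD1_c4 LD2_c49 LD3_c9)) :=
  Lre_g IH (LK LD1_c2 LD2_c22 LD3_c24) (LK LD1_c4 LD2_c49 LD3_c9) Lrfl Lrfl
theorem f76205 : Led Lsl_dt (LP (LK LD1_c1 LD2_c8 LD3_c20)) = (LP (LK LD1_c2 LD2_c22 LD3_c24)) :=
  Lre_d IH (LK LD1_c1 LD2_c8 LD3_c20) (LK LD1_c2 LD2_c22 LD3_c24) Lrfl Lrfl
theorem f76206 : Led Lsl_et (LP (LK LD1_c1 LD2_c8 LD3_c20)) = (LP (LK LD1_c0 LD2_c31 LD3_c16)) :=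
  Lre_e IH (LK LD1_c1 LD2_c8 LD3_c20) (LK LD1_c0 LD2_c31 LD3_c16) Lrfl Lrfl
theorem f74635 : Led Lsl_et (LP (LK LD1_c2 LD2_c22 LD3_c20)) = (LP (LK LD1_c1 LD2_c8 LD3_c18)) :=
  Lre_e IH (LK LD1_c2 LD2_c22 LD3_c20) (LK LD1_c1 LD2_c8 LD3_c18) Lrfl Lrfl
theorem f427466 : Led Lsl_gt (LP (LK LD1_c9 LD2_c30 LD3_c23)) = (LP (LK LD1_c4 LD2_c48 LD3_c57)) :=
  Lre_g IH (LK LD1_c9 LD2_c30 LD3_c23) (LK LD1_c4 LD2_c48 LD3_c57) Lrfl Lrfl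
theorem f642139 : Led Lsl_dt (LP (LK LD1_c11 LD2_c39 LD3_c51)) = (LP (LK LD1_c9 LD2_c30 LD3_c23)) :=
  Lgr Lrot171 (Lpr_gf (f642137 IH) (Lpe (f502758 IH) (Lpr_dt (f502757 IH) (Lpe (f414269 IH) (Lpe (f76205 IH) (Lpr_et (f76206 IH) (Lpe (K3.f26571 IH) (Lpe (f74635 IH) (Lpr_dt (K40.f74636 IH) (Lpe (f427466 IH) (Lpn (LP (LK LD1_c9 LD2_c30 LD3_c23)))))))))))))
theorem f427774 : Led Lsl_et (LP (LK LD1_c1 LD2_c23 LD3_c43)) = (LP (LK LD1_c2 LD2_c55 LD3_c37)) :=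
  Lre_e IH (LK LD1_c1 LD2_c23 LD3_c43) (LK LD1_c2 LD2_c55 LD3_c37) Lrfl Lrfl
def v5014 : LQ := Led Lsl_gt (LP (LK LD1_c2 LD2_c55 LD3_c37))
theorem f641327 : Led Lsl_gt (LP (LK LD1_c2 LD2_c55 LD3_c37)) = v5014 :=
  Lrfl
theorem f642146 : (LP (LK LD1_c5 LD2_c57 LD3_c15)) = v5014 :=
  (Llr Lrot122 (Lpe (f507786 IH) (Lpr_dt (f642139 IH) (Lpr_gt (f427466 IH) (Lpe (K40.f74636 IH) (Lpr_et (f74635 IH) (Lpr_gt (K3.f26571 IH) (Lpr_dt (K3.f26570 IH) (Lpr_gt (K40.f426255 IH) (Lpe (K24.f426057 IH) (Lpr_et (f427774 IH) (Lpr_gt (f641327 IH) (Lpn v5014))))))))))))).symm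
theorem f641319 : Led Lsl_ft (LP (LK LD1_c2 LD2_c55 LD3_c37)) = v5013 :=
  Lgr Lrot48 (Lpr_ff (f641316 IH) (Lpn v5013))
def v4997 : LQ := Led Lsl_ft (LP (LK LD1_c2 LD2_c55 LD3_c5))
theorem f641247 : Led Lsl_ft (LP (LK LD1_c2 LD2_c55 LD3_c5)) = v4997 :=
  Lrfl
theorem f427125 : Led Lsl_at (LP (LK LD1_c1 LD2_c23 LD3_c42)) = (LP (LK LD1_c2 LD2_c55 LD3_c5)) :=
  Lre_a IH (LK LD1_c1 LD2_c23 LD3_c42) (LK LD1_c2 LD2_c55 LD3_c5) Lrfl Lrfl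
theorem f641237 : Led Lsl_ft (LP (LK LD1_c2 LD2_c55 LD3_c36)) = (LP (LK LD1_c1 LD2_c23 LD3_c42)) :=
  Lre_f IH (LK LD1_c2 LD2_c55 LD3_c36) (LK LD1_c1 LD2_c23 LD3_c42) Lrfl Lrfl
theorem f641248 : Led Lsl_af (LP (LK LD1_c2 LD2_c55 LD3_c36)) = v4997 :=
  Lgr Lrot45 (Lpr_ft (f641237 IH) (Lpr_at (f427125 IH) (Lpr_ft (f641247 IH) (Lpn v4997))))
theorem f641251 : Led Lsl_ff (LP (LK LD1_c2 LD2_c55 LD3_c5)) = v4997 :=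
  Lgr Lrot3 (Lpr_ft (f641247 IH) (Lpn v4997))
theorem f427503 : Led Lsl_et (LP (LK LD1_c2 LD2_c55 LD3_c5)) = (LP (LK LD1_c1 LD2_c23 LD3_c29)) :=
  Lre_e IH (LK LD1_c2 LD2_c55 LD3_c5) (LK LD1_c1 LD2_c23 LD3_c29) Lrfl Lrfl
theorem f426315 : Led Lsl_ft (LP (LK LD1_c1 LD2_c23 LD3_c29)) = (LP (LK LD1_c0 LD2_c38 LD3_c45)) :=
  Lre_f IH (LK LD1_c1 LD2_c23 LD3_c29) (LK LD1_c0 LD2_c38 LD3_c45) Lrfl Lrfl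
theorem f641254 : Led Lsl_et (LP (LK LD1_c2 LD2_c55 LD3_c59)) = v4997 :=
  Lgr Lrot69 (Lpe (f500736 IH) (Lpe (f452857 IH) (Lpe (f426315 IH) (Lpe (f427503 IH) (Lpr_ff (f641251 IH) (Lpn v4997))))))
theorem f641313 : Led Lsl_af (LP (LK LD1_c2 LD2_c55 LD3_c59)) = v5013 :=
  Lgr Lrot50 (Lpr_et (f641254 IH) (Lpe (f641248 IH) (Lpr_et (f641312 IH) (Lpn v5013))))
theorem f641328 : Led Lsl_gf (LP (LK LD1_c2 LD2_c55 LD3_c59)) = v5014 :=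
  Lgr Lrot76 (Lpr_af (f641313 IH) (Lpe (f641319 IH) (Lpr_gt (f641327 IH) (Lpn v5014))))
def v5015 : LQ := Led Lsl_gf (LP (LK LD1_c2 LD2_c55 LD3_c37))
theorem f641333 : Led Lsl_gf (LP (LK LD1_c2 LD2_c55 LD3_c37)) = v5015 :=
  Lrfl
theorem f426005 : Led Lsl_at (LP (LK LD1_c1 LD2_c23 LD3_c55)) = (LP (LK LD1_c2 LD2_c55 LD3_c37)) :=
  Lre_a IH (LK LD1_c1 LD2_c23 LD3_c55) (LK LD1_c2 LD2_c55 LD3_c37) Lrfl Lrfl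
theorem f641249 : Led Lsl_ft (LP (LK LD1_c2 LD2_c55 LD3_c59)) = (LP (LK LD1_c1 LD2_c23 LD3_c55)) :=
  Lre_f IH (LK LD1_c2 LD2_c55 LD3_c59) (LK LD1_c1 LD2_c23 LD3_c55) Lrfl Lrfl
theorem f641334 : Led Lsl_gt (LP (LK LD1_c2 LD2_c55 LD3_c59)) = v5015 :=
  Lgr Lrot5 (Lpr_ft (f641249 IH) (Lpr_at (f426005 IH) (Lpr_gf (f641333 IH) (Lpn v5015))))
theorem f642149 : v5020 = v5015 :=
  (Llr Lrot26 (Lpe (f641351 IH) (Lpr_ff (f641361 IH) (Lpqs (f641755 IH) (Lpqs (f642146 IH) (Lpe (f641328 IH) (Lpr_gt (f641334 IH) (Lpn v5015)))))))).symm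
theorem f426014 : Led Lsl_at (LP (LK LD1_c2 LD2_c55 LD3_c47)) = (LP (LK LD1_c5 LD2_c58 LD3_c37)) :=
  Lre_a IH (LK LD1_c2 LD2_c55 LD3_c47) (LK LD1_c5 LD2_c58 LD3_c37) Lrfl Lrfl
theorem f426015 : Led Lsl_bt (LP (LK LD1_c1 LD2_c23 LD3_c55)) = (LP (LK LD1_c2 LD2_c55 LD3_c47)) :=
  Lre_b IH (LK LD1_c1 LD2_c23 LD3_c55) (LK LD1_c2 LD2_c55 LD3_c47) Lrfl Lrfl
theorem f426017 : Led Lsl_at (LP (LK LD1_c5 LD2_c58 LD3_c1)) = (LP (LK LD1_c2 LD2_c55 LD3_c52)) :=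
  Lre_a IH (LK LD1_c5 LD2_c58 LD3_c1) (LK LD1_c2 LD2_c55 LD3_c52) Lrfl Lrfl
theorem f426018 : Led Lsl_bf (LP (LK LD1_c2 LD2_c55 LD3_c37)) = (LP (LK LD1_c2 LD2_c55 LD3_c52)) :=
  Lgr Lrot81 (Lpr_at (f426016 IH) (Lpr_bt (f426015 IH) (Lpr_at (f426014 IH) (Lpr_bt (K24.f426009 IH) (Lpr_at (f426017 IH) (Lpn (LP (LK LD1_c2 LD2_c55 LD3_c52))))))))
theorem f427042 : Led Lsl_ct (LP (LK LD1_c2 LD2_c55 LD3_c52)) = (LP (LK LD1_c5 LD2_c58 LD3_c52)) :=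
  Lre_c IH (LK LD1_c2 LD2_c55 LD3_c52) (LK LD1_c5 LD2_c58 LD3_c52) Lrfl Lrfl
theorem f642177 : Led Lsl_gf (LP (LK LD1_c6 LD2_c29 LD3_c54)) = (LP (LK LD1_c5 LD2_c58 LD3_c52)) :=
  Lgr Lrot126 (Lpe (f446247 IH) (Lpr_bt (f446246 IH) (Lpe (f446243 IH) (Lpe (K7.f22554 IH) (Lpe (K32.f151920 IH) (Lpr_cf (f144093 IH) (Lpr_bt (f144092 IH) (Lpqs (f641739 IH) (Lpqs (f642149 IH) (Lpe (f641333 IH) (Lpr_bf (f426018 IH) (Lpr_ct (f427042 IH) (Lpn (LP (LK LD1_c5 LD2_c58 LD3_c52)))))))))))))))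
theorem f505783 : Led Lsl_at (LP (LK LD1_c12 LD2_c29 LD3_c30)) = (LP (LK LD1_c6 LD2_c29 LD3_c54)) :=
  Lre_a IH (LK LD1_c12 LD2_c29 LD3_c30) (LK LD1_c6 LD2_c29 LD3_c54) Lrfl Lrfl
theorem f427041 : Led Lsl_gt (LP (LK LD1_c9 LD2_c48 LD3_c34)) = (LP (LK LD1_c5 LD2_c58 LD3_c52)) :=
  Lre_g IH (LK LD1_c9 LD2_c48 LD3_c34) (LK LD1_c5 LD2_c58 LD3_c52) Lrfl Lrfl
theorem f642179 : Led Lsl_ff (LP (LK LD1_c12 LD2_c29 LD3_c30)) = (LP (LK LD1_c9 LD2_c48 LD3_c34)) :=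
  Lgr Lrot52 (Lpr_at (f505783 IH) (Lpr_gf (f642177 IH) (Lpe (f427041 IH) (Lpn (LP (LK LD1_c9 LD2_c48 LD3_c34))))))
theorem f505244 : Led Lsl_ct (LP (LK LD1_c12 LD2_c29 LD3_c30)) = (LP (LK LD1_c6 LD2_c30 LD3_c3)) :=
  Lre_c IH (LK LD1_c12 LD2_c29 LD3_c30) (LK LD1_c6 LD2_c30 LD3_c3) Lrfl Lrfl
def v4912 : LQ := Led Lsl_at (LP (LK LD1_c2 LD2_c52 LD3_c39))
theorem f640879 : Led Lsl_at (LP (LK LD1_c2 LD2_c52 LD3_c39)) = v4912 :=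
  Lrfl
theorem f446019 : Led Lsl_bt (LP (LK LD1_c6 LD2_c30 LD3_c4)) = (LP (LK LD1_c3 LD2_c13 LD3_c0)) :=
  Lre_b IH (LK LD1_c6 LD2_c30 LD3_c4) (LK LD1_c3 LD2_c13 LD3_c0) Lrfl Lrfl
theorem f442847 : Led Lsl_bt (LP (LK LD1_c5 LD2_c48 LD3_c61)) = (LP (LK LD1_c11 LD2_c27 LD3_c22)) :=
  Lre_b IH (LK LD1_c5 LD2_c48 LD3_c61) (LK LD1_c11 LD2_c27 LD3_c22) Lrfl Lrfl
theorem f505134 : Led Lsl_ff (LP (LK LD1_c6 LD2_c30 LD3_c4)) = (LP (LK LD1_c11 LD2_c27 LD3_c22)) :=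
  Lgr Lrot25 (Lpr_bt (f446019 IH) (Lpr_ft (K32.f505130 IH) (Lpr_bt (f442847 IH) (Lpn (LP (LK LD1_c11 LD2_c27 LD3_c22))))))
theorem f505760 : Led Lsl_et (LP (LK LD1_c6 LD2_c30 LD3_c4)) = (LP (LK LD1_c3 LD2_c12 LD3_c61)) :=
  Lre_e IH (LK LD1_c6 LD2_c30 LD3_c4) (LK LD1_c3 LD2_c12 LD3_c61) Lrfl Lrfl
theorem f445614 : Led Lsl_bt (LP (LK LD1_c5 LD2_c52 LD3_c51)) = (LP (LK LD1_c11 LD2_c31 LD3_c59)) :=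
  Lre_b IH (LK LD1_c5 LD2_c52 LD3_c51) (LK LD1_c11 LD2_c31 LD3_c59) Lrfl Lrfl
theorem f438593 : Led Lsl_bt (LP (LK LD1_c11 LD2_c27 LD3_c22)) = (LP (LK LD1_c5 LD2_c48 LD3_c61)) :=
  Lre_b IH (LK LD1_c11 LD2_c27 LD3_c22) (LK LD1_c5 LD2_c48 LD3_c61) Lrfl Lrfl
theorem f505124 : Led Lsl_et (LP (LK LD1_c11 LD2_c31 LD3_c59)) = (LP (LK LD1_c11 LD2_c27 LD3_c22)) :=
  Lgr Lrot74 (Lpe (f445614 IH) (Lpr_ef (K32.f505122 IH) (Lpe (f438593 IH) (Lpn (LP (LK LD1_c11 LD2_c27 LD3_c22))))))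
theorem f505761 : Led Lsl_ft (LP (LK LD1_c5 LD2_c52 LD3_c49)) = (LP (LK LD1_c11 LD2_c31 LD3_c59)) :=
  Lre_f IH (LK LD1_c5 LD2_c52 LD3_c49) (LK LD1_c11 LD2_c31 LD3_c59) Lrfl Lrfl
theorem f505762 : Led Lsl_et (LP (LK LD1_c2 LD2_c52 LD3_c39)) = (LP (LK LD1_c5 LD2_c52 LD3_c49)) :=
  Lre_e IH (LK LD1_c2 LD2_c52 LD3_c39) (LK LD1_c5 LD2_c52 LD3_c49) Lrfl Lrfl
theorem f505763 : Led Lsl_ft (LP (LK LD1_c3 LD2_c12 LD3_c61)) = (LP (LK LD1_c2 LD2_c52 LD3_c39)) :=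
  Lgr Lrot86 (Lpe (f505760 IH) (Lpr_ff (f505134 IH) (Lpe (f505124 IH) (Lpe (f505761 IH) (Lpe (f505762 IH) (Lpn (LP (LK LD1_c2 LD2_c52 LD3_c39))))))))
theorem f505247 : Led Lsl_at (LP (LK LD1_c6 LD2_c30 LD3_c3)) = (LP (LK LD1_c3 LD2_c12 LD3_c61)) :=
  Lre_a IH (LK LD1_c6 LD2_c30 LD3_c3) (LK LD1_c3 LD2_c12 LD3_c61) Lrfl Lrfl
theorem f640882 : Led Lsl_ff (LP (LK LD1_c6 LD2_c30 LD3_c3)) = v4912 :=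
  Lgr Lrot30 (Lpr_at (f505247 IH) (Lpr_ft (f505763 IH) (Lpr_at (f640879 IH) (Lpn v4912))))
theorem f640886 : Led Lsl_ft (LP (LK LD1_c6 LD2_c30 LD3_c3)) = v4912 :=
  Lgr Lrot48 (Lpr_ff (f640882 IH) (Lpn v4912))
theorem f428360 : Led Lsl_ct (LP (LK LD1_c4 LD2_c59 LD3_c3)) = (LP (LK LD1_c9 LD2_c48 LD3_c34)) :=
  Lre_c IH (LK LD1_c4 LD2_c59 LD3_c3) (LK LD1_c9 LD2_c48 LD3_c34) Lrfl Lrfl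
theorem f642213 : v4912 = (LP (LK LD1_c4 LD2_c59 LD3_c3)) :=
  (Llr Lrot4 (Lpe (f640886 IH) (Lpe (f505244 IH) (Lpr_ff (f642179 IH) (Lpe (f428360 IH) (Lpn (LP (LK LD1_c4 LD2_c59 LD3_c3)))))))).symm
theorem f445623 : Led Lsl_bt (LP (LK LD1_c1 LD2_c22 LD3_c22)) = (LP (LK LD1_c2 LD2_c52 LD3_c39)) :=
  Lre_b IH (LK LD1_c1 LD2_c22 LD3_c22) (LK LD1_c2 LD2_c52 LD3_c39) Lrfl Lrfl
def v1604 : LQ := Led Lsl_ft (LP (LK LD1_c1 LD2_c22 LD3_c21))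
theorem f500328 : Led Lsl_ft (LP (LK LD1_c1 LD2_c22 LD3_c21)) = v1604 :=
  Lrfl
theorem f500314 : Led Lsl_af (LP (LK LD1_c1 LD2_c22 LD3_c21)) = K32.v1602 :=
  Lgr Lrot0 (Lpr_at (K32.f500313 IH) (Lpn K32.v1602))
theorem f500329 : Led Lsl_af (LP (LK LD1_c1 LD2_c22 LD3_c22)) = v1604 :=
  Lgr Lrot45 (Lpr_ft (K32.f500318 IH) (Lpe (f500314 IH) (Lpr_ft (f500328 IH) (Lpn v1604))))
theorem f500331 : Led Lsl_ff (LP (LK LD1_c1 LD2_c22 LD3_c21)) = v1604 :=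
  Lgr Lrot3 (Lpr_ft (f500328 IH) (Lpn v1604))
theorem f500333 : Led Lsl_ct K32.v1321 = v1604 :=
  Lgr Lrot40 (Lpe (K32.f494826 IH) (Lpr_cf (K24.f438449 IH) (Lpr_ff (f500331 IH) (Lpn v1604))))
theorem f504850 : v1604 = (LP (LK LD1_c1 LD2_c33 LD3_c0)) :=
  Lefun (Lecon (f500333 IH) (K32.f504845 IH).symm) (K32.f82683 IH)
theorem f140747 : Led Lsl_bt (LP (LK LD1_c3 LD2_c13 LD3_c12)) = (LP (LK LD1_c1 LD2_c33 LD3_c0)) :=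
  Lre_b IH (LK LD1_c3 LD2_c13 LD3_c12) (LK LD1_c1 LD2_c33 LD3_c0) Lrfl Lrfl
theorem f505661 : Led Lsl_at (LP (LK LD1_c6 LD2_c30 LD3_c21)) = (LP (LK LD1_c3 LD2_c13 LD3_c12)) :=
  Lre_a IH (LK LD1_c6 LD2_c30 LD3_c21) (LK LD1_c3 LD2_c13 LD3_c12) Lrfl Lrfl
theorem f640881 : Led Lsl_bf (LP (LK LD1_c6 LD2_c30 LD3_c21)) = v4912 :=
  Lgr Lrot81 (Lpr_at (f505661 IH) (Lpr_bt (f140747 IH) (Lpq (f504850 IH) (Lpe (f500329 IH) (Lpr_bt (f445623 IH) (Lpr_at (f640879 IH) (Lpn v4912)))))))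
theorem f505705 : Led Lsl_et (LP (LK LD1_c6 LD2_c30 LD3_c21)) = (LP (LK LD1_c12 LD2_c30 LD3_c4)) :=
  Lre_e IH (LK LD1_c6 LD2_c30 LD3_c21) (LK LD1_c12 LD2_c30 LD3_c4) Lrfl Lrfl
theorem f642456 : Led Lsl_bf (LP (LK LD1_c9 LD2_c48 LD3_c36)) = (LP (LK LD1_c12 LD2_c30 LD3_c4)) :=
  Lgr Lrot96 (Lpr_et (f642224 IH) (Lpq (f642213 IH) (Lpe (f640881 IH) (Lpr_et (f505705 IH) (Lpn (LP (LK LD1_c12 LD2_c30 LD3_c4)))))))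
theorem f140794 : Led Lsl_at (LP (LK LD1_c6 LD2_c30 LD3_c23)) = (LP (LK LD1_c12 LD2_c30 LD3_c4)) :=
  Lre_a IH (LK LD1_c6 LD2_c30 LD3_c23) (LK LD1_c12 LD2_c30 LD3_c4) Lrfl Lrfl
theorem f83707 : Led Lsl_bt (LP (LK LD1_c3 LD2_c13 LD3_c14)) = (LP (LK LD1_c6 LD2_c30 LD3_c23)) :=
  Lre_b IH (LK LD1_c3 LD2_c13 LD3_c14) (LK LD1_c6 LD2_c30 LD3_c23) Lrfl Lrfl
theorem f505118 : Led Lsl_at (LP (LK LD1_c2 LD2_c52 LD3_c40)) = (LP (LK LD1_c3 LD2_c13 LD3_c14)) :=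
  Lgr Lrot26 (Lpe (K32.f445617 IH) (Lpr_gt (K32.f505109 IH) (Lpr_gt (K32.f454866 IH) (Lpn (LP (LK LD1_c3 LD2_c13 LD3_c14))))))
theorem f445674 : Led Lsl_bt (LP (LK LD1_c5 LD2_c52 LD3_c49)) = (LP (LK LD1_c2 LD2_c52 LD3_c40)) :=
  Lre_b IH (LK LD1_c5 LD2_c52 LD3_c49) (LK LD1_c2 LD2_c52 LD3_c40) Lrfl Lrfl
theorem f642462 : Led Lsl_at (LP (LK LD1_c9 LD2_c48 LD3_c36)) = (LP (LK LD1_c5 LD2_c52 LD3_c49)) :=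
  Lgr Lrot67 (Lpr_bf (f642456 IH) (Lpe (f140794 IH) (Lpe (f83707 IH) (Lpe (f505118 IH) (Lpe (f445674 IH) (Lpn (LP (LK LD1_c5 LD2_c52 LD3_c49))))))))
theorem f642458 : Led Lsl_ct (LP (LK LD1_c17 LD2_c58 LD3_c49)) = (LP (LK LD1_c9 LD2_c48 LD3_c36)) :=
  Lre_c IH (LK LD1_c17 LD2_c58 LD3_c49) (LK LD1_c9 LD2_c48 LD3_c36) Lrfl Lrfl
theorem f445603 : Led Lsl_ct (LP (LK LD1_c5 LD2_c52 LD3_c49)) = (LP (LK LD1_c11 LD2_c31 LD3_c57)) :=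
  Lre_c IH (LK LD1_c5 LD2_c52 LD3_c49) (LK LD1_c11 LD2_c31 LD3_c57) Lrfl Lrfl
theorem f642470 : Led Lsl_af (LP (LK LD1_c17 LD2_c58 LD3_c49)) = (LP (LK LD1_c11 LD2_c31 LD3_c57)) :=
  Lgr Lrot68 (Lpr_ct (f642458 IH) (Lpr_at (f642462 IH) (Lpr_ct (f445603 IH) (Lpn (LP (LK LD1_c11 LD2_c31 LD3_c57))))))
theorem f642210 : Led Lsl_et (LP (LK LD1_c17 LD2_c58 LD3_c49)) = (LP (LK LD1_c9 LD2_c48 LD3_c34)) :=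
  Lre_e IH (LK LD1_c17 LD2_c58 LD3_c49) (LK LD1_c9 LD2_c48 LD3_c34) Lrfl Lrfl
theorem f505779 : Led Lsl_et (LP (LK LD1_c5 LD2_c52 LD3_c48)) = (LP (LK LD1_c11 LD2_c31 LD3_c57)) :=
  Lre_e IH (LK LD1_c5 LD2_c52 LD3_c48) (LK LD1_c11 LD2_c31 LD3_c57) Lrfl Lrfl
theorem f642509 : Led Lsl_at (LP (LK LD1_c9 LD2_c48 LD3_c34)) = (LP (LK LD1_c5 LD2_c52 LD3_c48)) :=
  Lgr Lrot80 (Lpe (f642210 IH) (Lpr_af (f642470 IH) (Lpe (f505779 IH) (Lpn (LP (LK LD1_c5 LD2_c52 LD3_c48))))))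
theorem f642211 : Led Lsl_ft (LP (LK LD1_c12 LD2_c29 LD3_c30)) = (LP (LK LD1_c9 LD2_c48 LD3_c34)) :=
  Lgr Lrot48 (Lpr_ff (f642179 IH) (Lpn (LP (LK LD1_c9 LD2_c48 LD3_c34))))
theorem f22538 : Led Lsl_gt (LP (LK LD1_c11 LD2_c31 LD3_c55)) = (LP (LK LD1_c5 LD2_c52 LD3_c48)) :=
  Lre_g IH (LK LD1_c11 LD2_c31 LD3_c55) (LK LD1_c5 LD2_c52 LD3_c48) Lrfl Lrfl
theorem f642511 : Led Lsl_gt (LP (LK LD1_c12 LD2_c29 LD3_c30)) = (LP (LK LD1_c11 LD2_c31 LD3_c55)) :=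
  Lgr Lrot5 (Lpr_ft (f642211 IH) (Lpr_at (f642509 IH) (Lpe (f22538 IH) (Lpn (LP (LK LD1_c11 LD2_c31 LD3_c55))))))
theorem f505246 : Led Lsl_ct (LP (LK LD1_c6 LD2_c30 LD3_c3)) = (LP (LK LD1_c12 LD2_c29 LD3_c30)) :=
  Lre_c IH (LK LD1_c6 LD2_c30 LD3_c3) (LK LD1_c12 LD2_c29 LD3_c30) Lrfl Lrfl
theorem f505212 : Led Lsl_ft (LP (LK LD1_c2 LD2_c19 LD3_c32)) = (LP (LK LD1_c1 LD2_c32 LD3_c7)) :=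
  Lgr Lrot54 (Lpr_df (K32.f505193 IH) (Lpe (K32.f79753 IH) (Lpr_df (K32.f79746 IH) (Lpn (LP (LK LD1_c1 LD2_c32 LD3_c7))))))
theorem f505220 : Led Lsl_af (LP (LK LD1_c2 LD2_c19 LD3_c33)) = (LP (LK LD1_c1 LD2_c32 LD3_c7)) :=
  Lgr Lrot31 (Lpe (K24.f153710 IH) (Lpr_gf (K24.f153699 IH) (Lpr_ft (f505212 IH) (Lpn (LP (LK LD1_c1 LD2_c32 LD3_c7))))))
theorem f505226 : Led Lsl_at (LP (LK LD1_c2 LD2_c19 LD3_c43)) = (LP (LK LD1_c1 LD2_c32 LD3_c60)) :=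
  Lgr Lrot51 (Lpe (K24.f26279 IH) (Lpr_af (f505220 IH) (Lpe (K11.f79728 IH) (Lpn (LP (LK LD1_c1 LD2_c32 LD3_c60))))))
theorem f79821 : Led Lsl_ct (LP (LK LD1_c1 LD2_c32 LD3_c60)) = (LP (LK LD1_c3 LD2_c13 LD3_c0)) :=
  Lre_c IH (LK LD1_c1 LD2_c32 LD3_c60) (LK LD1_c3 LD2_c13 LD3_c0) Lrfl Lrfl
theorem f505228 : Led Lsl_af (LP (LK LD1_c2 LD2_c52 LD3_c38)) = (LP (LK LD1_c3 LD2_c13 LD3_c0)) :=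
  Lgr Lrot68 (Lpe (K24.f438434 IH) (Lpr_at (f505226 IH) (Lpr_ct (f79821 IH) (Lpn (LP (LK LD1_c3 LD2_c13 LD3_c0))))))
theorem f56701 : Led Lsl_bt (LP (LK LD1_c2 LD2_c52 LD3_c38)) = (LP (LK LD1_c5 LD2_c52 LD3_c45)) :=
  Lre_b IH (LK LD1_c2 LD2_c52 LD3_c38) (LK LD1_c5 LD2_c52 LD3_c45) Lrfl Lrfl
theorem f56732 : Led Lsl_at (LP (LK LD1_c5 LD2_c52 LD3_c45)) = (LP (LK LD1_c11 LD2_c31 LD3_c49)) :=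
  Lre_a IH (LK LD1_c5 LD2_c52 LD3_c45) (LK LD1_c11 LD2_c31 LD3_c49) Lrfl Lrfl
theorem f505230 : Led Lsl_at (LP (LK LD1_c12 LD2_c29 LD3_c44)) = (LP (LK LD1_c6 LD2_c30 LD3_c4)) :=
  Lre_a IH (LK LD1_c12 LD2_c29 LD3_c44) (LK LD1_c6 LD2_c30 LD3_c4) Lrfl Lrfl
theorem f505231 : Led Lsl_bt (LP (LK LD1_c11 LD2_c31 LD3_c49)) = (LP (LK LD1_c12 LD2_c29 LD3_c44)) :=
  Lgr Lrot62 (Lpe (f56732 IH) (Lpe (f56701 IH) (Lpr_af (f505228 IH) (Lpe (f446019 IH) (Lpe (f505230 IH) (Lpn (LP (LK LD1_c12 LD2_c29 LD3_c44))))))))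
theorem f56735 : Led Lsl_et (LP (LK LD1_c5 LD2_c52 LD3_c43)) = (LP (LK LD1_c11 LD2_c31 LD3_c49)) :=
  Lre_e IH (LK LD1_c5 LD2_c52 LD3_c43) (LK LD1_c11 LD2_c31 LD3_c49) Lrfl Lrfl
theorem f505236 : Led Lsl_et (LP (LK LD1_c12 LD2_c29 LD3_c44)) = (LP (LK LD1_c6 LD2_c30 LD3_c3)) :=
  Lre_e IH (LK LD1_c12 LD2_c29 LD3_c44) (LK LD1_c6 LD2_c30 LD3_c3) Lrfl Lrfl
theorem f505237 : Led Lsl_bf (LP (LK LD1_c5 LD2_c52 LD3_c43)) = (LP (LK LD1_c6 LD2_c30 LD3_c3)) :=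
  Lgr Lrot96 (Lpr_et (f56735 IH) (Lpr_bt (f505231 IH) (Lpr_et (f505236 IH) (Lpn (LP (LK LD1_c6 LD2_c30 LD3_c3))))))
theorem f76299 : Led Lsl_ct (LP (LK LD1_c5 LD2_c59 LD3_c5)) = (LP (LK LD1_c2 LD2_c55 LD3_c57)) :=
  Lre_c IH (LK LD1_c5 LD2_c59 LD3_c5) (LK LD1_c2 LD2_c55 LD3_c57) Lrfl Lrfl
theorem f507067 : Led Lsl_ct (LP (LK LD1_c5 LD2_c57 LD3_c15)) = (LP (LK LD1_c11 LD2_c39 LD3_c50)) :=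
  Lre_c IH (LK LD1_c5 LD2_c57 LD3_c15) (LK LD1_c11 LD2_c39 LD3_c50) Lrfl Lrfl
theorem f641758 : Led Lsl_ff (LP (LK LD1_c5 LD2_c59 LD3_c5)) = (LP (LK LD1_c11 LD2_c39 LD3_c50)) :=
  Lgr Lrot23 (Lpr_ct (f76299 IH) (Lpr_ft (f641359 IH) (Lpqs (f641755 IH) (Lpr_ct (f507067 IH) (Lpn (LP (LK LD1_c11 LD2_c39 LD3_c50)))))))
theorem f641767 : Led Lsl_ft (LP (LK LD1_c5 LD2_c59 LD3_c5)) = (LP (LK LD1_c11 LD2_c39 LD3_c50)) :=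
  Lgr Lrot48 (Lpr_ff (f641758 IH) (Lpn (LP (LK LD1_c11 LD2_c39 LD3_c50))))
theorem f74961 : Led Lsl_et (LP (LK LD1_c0 LD2_c38 LD3_c50)) = (LP (LK LD1_c1 LD2_c24 LD3_c8)) :=
  Lre_e IH (LK LD1_c0 LD2_c38 LD3_c50) (LK LD1_c1 LD2_c24 LD3_c8) Lrfl Lrfl
theorem f76289 : Led Lsl_dt (LP (LK LD1_c2 LD2_c56 LD3_c42)) = (LP (LK LD1_c6 LD2_c0 LD3_c54)) :=
  Lre_d IH (LK LD1_c2 LD2_c56 LD3_c42) (LK LD1_c6 LD2_c0 LD3_c54) Lrfl Lrfl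
theorem f76290 : Led Lsl_gt (LP (LK LD1_c6 LD2_c0 LD3_c54)) = (LP (LK LD1_c11 LD2_c46 LD3_c16)) :=
  Lre_g IH (LK LD1_c6 LD2_c0 LD3_c54) (LK LD1_c11 LD2_c46 LD3_c16) Lrfl Lrfl
theorem f76291 : Led Lsl_dt (LP (LK LD1_c11 LD2_c42 LD3_c43)) = (LP (LK LD1_c11 LD2_c46 LD3_c16)) :=
  Lre_d IH (LK LD1_c11 LD2_c42 LD3_c43) (LK LD1_c11 LD2_c46 LD3_c16) Lrfl Lrfl
theorem f76292 : Led Lsl_et (LP (LK LD1_c11 LD2_c42 LD3_c43)) = (LP (LK LD1_c5 LD2_c59 LD3_c5)) :=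
  Lre_e IH (LK LD1_c11 LD2_c42 LD3_c43) (LK LD1_c5 LD2_c59 LD3_c5) Lrfl Lrfl
theorem f76293 : Led Lsl_gf (LP (LK LD1_c9 LD2_c16 LD3_c32)) = (LP (LK LD1_c5 LD2_c59 LD3_c5)) :=
  Lgr Lrot141 (Lpe (K4.f74528 IH) (Lpr_dt (K28.f74526 IH) (Lpr_gt (K2.f69352 IH) (Lpe (K4.f72644 IH) (Lpr_et (f74961 IH) (Lpr_gt (f74962 IH) (Lpr_dt (f76289 IH) (Lpr_gt (f76290 IH) (Lpe (f76291 IH) (Lpr_et (f76292 IH) (Lpn (LP (LK LD1_c5 LD2_c59 LD3_c5)))))))))))))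
theorem f443014 : Led Lsl_at (LP (LK LD1_c11 LD2_c39 LD3_c50)) = (LP (LK LD1_c5 LD2_c57 LD3_c16)) :=
  Lre_a IH (LK LD1_c11 LD2_c39 LD3_c50) (LK LD1_c5 LD2_c57 LD3_c16) Lrfl Lrfl
theorem f641776 : Led Lsl_gt (LP (LK LD1_c9 LD2_c16 LD3_c32)) = (LP (LK LD1_c5 LD2_c57 LD3_c16)) :=
  Lgr Lrot46 (Lpr_gf (f76293 IH) (Lpr_ft (f641767 IH) (Lpr_at (f443014 IH) (Lpn (LP (LK LD1_c5 LD2_c57 LD3_c16))))))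
theorem f74973 : Led Lsl_bt (LP (LK LD1_c4 LD2_c58 LD3_c60)) = (LP (LK LD1_c5 LD2_c47 LD3_c27)) :=
  Lgr Lrot127 (Lpr_bf (K4.f74970 IH) (Lpn (LP (LK LD1_c5 LD2_c47 LD3_c27))))
theorem f442865 : Led Lsl_ct (LP (LK LD1_c2 LD2_c54 LD3_c53)) = (LP (LK LD1_c5 LD2_c57 LD3_c16)) :=
  Lre_c IH (LK LD1_c2 LD2_c54 LD3_c53) (LK LD1_c5 LD2_c57 LD3_c16) Lrfl Lrfl
theorem f82927 : Led Lsl_bt (LP (LK LD1_c1 LD2_c33 LD3_c0)) = (LP (LK LD1_c3 LD2_c13 LD3_c12)) :=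
  Lre_b IH (LK LD1_c1 LD2_c33 LD3_c0) (LK LD1_c3 LD2_c13 LD3_c12) Lrfl Lrfl
theorem f641779 : Led Lsl_gf (LP (LK LD1_c5 LD2_c47 LD3_c27)) = (LP (LK LD1_c3 LD2_c13 LD3_c12)) :=
  Lgr Lrot124 (Lpe (f74973 IH) (Lpe (K4.f76259 IH) (Lpr_gt (f641776 IH) (Lpe (f442865 IH) (Lpr_bt (f442861 IH) (Lpe (K32.f442859 IH) (Lpr_ct (K24.f452304 IH) (Lpe (K11.f452307 IH) (Lpe (K24.f82682 IH) (Lpr_bt (f82927 IH) (Lpn (LP (LK LD1_c3 LD2_c13 LD3_c12)))))))))))))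
theorem f505184 : Led Lsl_ft (LP (LK LD1_c3 LD2_c11 LD3_c27)) = (LP (LK LD1_c2 LD2_c19 LD3_c43)) :=
  Lgr Lrot48 (Lpr_ff (K32.f505174 IH) (Lpn (LP (LK LD1_c2 LD2_c19 LD3_c43))))
theorem f453642 : Led Lsl_ft (LP (LK LD1_c1 LD2_c33 LD3_c2)) = (LP (LK LD1_c3 LD2_c13 LD3_c17)) :=
  Lre_f IH (LK LD1_c1 LD2_c33 LD3_c2) (LK LD1_c3 LD2_c13 LD3_c17) Lrfl Lrfl
theorem f505481 : Led Lsl_ef (LP (LK LD1_c3 LD2_c11 LD3_c27)) = (LP (LK LD1_c3 LD2_c13 LD3_c17)) :=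
  Lgr Lrot21 (Lpr_ft (f505184 IH) (Lpr_et (K24.f26271 IH) (Lpr_ft (K32.f494826 IH) (Lpq (K32.f504845 IH) (Lpr_et (K24.f82707 IH) (Lpr_ft (f453642 IH) (Lpn (LP (LK LD1_c3 LD2_c13 LD3_c17)))))))))
theorem f505488 : Led Lsl_ct (LP (LK LD1_c6 LD2_c30 LD3_c25)) = (LP (LK LD1_c3 LD2_c13 LD3_c17)) :=
  Lre_c IH (LK LD1_c6 LD2_c30 LD3_c25) (LK LD1_c3 LD2_c13 LD3_c17) Lrfl Lrfl
theorem f505489 : Led Lsl_et (LP (LK LD1_c5 LD2_c52 LD3_c47)) = (LP (LK LD1_c6 LD2_c30 LD3_c25)) :=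
  Lgr Lrot158 (Lpe (K32.f505171 IH) (Lpr_ef (f505481 IH) (Lpe (f505488 IH) (Lpn (LP (LK LD1_c6 LD2_c30 LD3_c25))))))
theorem f505496 : Led Lsl_ef (LP (LK LD1_c5 LD2_c52 LD3_c47)) = (LP (LK LD1_c6 LD2_c30 LD3_c25)) :=
  Lgr Lrot88 (Lpr_et (f505489 IH) (Lpn (LP (LK LD1_c6 LD2_c30 LD3_c25))))
theorem f442848 : Led Lsl_bt (LP (LK LD1_c5 LD2_c52 LD3_c47)) = (LP (LK LD1_c11 LD2_c31 LD3_c54)) :=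
  Lre_b IH (LK LD1_c5 LD2_c52 LD3_c47) (LK LD1_c11 LD2_c31 LD3_c54) Lrfl Lrfl
theorem f505509 : Led Lsl_bt (LP (LK LD1_c12 LD2_c30 LD3_c10)) = (LP (LK LD1_c6 LD2_c30 LD3_c25)) :=
  Lre_b IH (LK LD1_c12 LD2_c30 LD3_c10) (LK LD1_c6 LD2_c30 LD3_c25) Lrfl Lrfl
theorem f505657 : Led Lsl_et (LP (LK LD1_c11 LD2_c31 LD3_c54)) = (LP (LK LD1_c12 LD2_c30 LD3_c10)) :=
  Lgr Lrot74 (Lpe (f442848 IH) (Lpr_ef (f505496 IH) (Lpe (f505509 IH) (Lpn (LP (LK LD1_c12 LD2_c30 LD3_c10))))))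
theorem f56714 : Led Lsl_ft (LP (LK LD1_c5 LD2_c52 LD3_c45)) = (LP (LK LD1_c11 LD2_c31 LD3_c54)) :=
  Lre_f IH (LK LD1_c5 LD2_c52 LD3_c45) (LK LD1_c11 LD2_c31 LD3_c54) Lrfl Lrfl
theorem f56712 : Led Lsl_et (LP (LK LD1_c2 LD2_c52 LD3_c37)) = (LP (LK LD1_c5 LD2_c52 LD3_c45)) :=
  Lre_e IH (LK LD1_c2 LD2_c52 LD3_c37) (LK LD1_c5 LD2_c52 LD3_c45) Lrfl Lrfl
theorem f140801 : Led Lsl_ft (LP (LK LD1_c12 LD2_c30 LD3_c10)) = (LP (LK LD1_c6 LD2_c30 LD3_c23)) :=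
  Lre_f IH (LK LD1_c12 LD2_c30 LD3_c10) (LK LD1_c6 LD2_c30 LD3_c23) Lrfl Lrfl
theorem f140795 : Led Lsl_et (LP (LK LD1_c6 LD2_c30 LD3_c23)) = (LP (LK LD1_c3 LD2_c13 LD3_c12)) :=
  Lre_e IH (LK LD1_c6 LD2_c30 LD3_c23) (LK LD1_c3 LD2_c13 LD3_c12) Lrfl Lrfl
theorem f505659 : Led Lsl_ff (LP (LK LD1_c2 LD2_c52 LD3_c37)) = (LP (LK LD1_c3 LD2_c13 LD3_c12)) :=
  Lgr Lrot72 (Lpr_et (f56712 IH) (Lpr_ft (f56714 IH) (Lpr_et (f505657 IH) (Lpr_ft (f140801 IH) (Lpr_et (f140795 IH) (Lpn (LP (LK LD1_c3 LD2_c13 LD3_c12))))))))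
theorem f500320 : Led Lsl_at (LP (LK LD1_c2 LD2_c52 LD3_c37)) = (LP (LK LD1_c5 LD2_c52 LD3_c43)) :=
  Lre_a IH (LK LD1_c2 LD2_c52 LD3_c37) (LK LD1_c5 LD2_c52 LD3_c43) Lrfl Lrfl

end

end K41

end

end Cfsg.Agent.Helper28.S1692
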