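import Cfsg.Agent.Lib.Helper28.S1692.Seeds41

set_option autoImplicit false
set_option maxRecDepth 100000
set_option linter.all false

namespace Cfsg.Agent.Helper28.S1692

open Cfsg.Agent.Helper28
open Cfsg.Spor.ON (Gen)

noncomputable section

namespace K42
abbrev LD1_c0 := D1.c0
abbrev LD1_c1 := D1.c1
abbrev LD1_c2 := D1.c2
abbrev LD1_c3 := D1.c3
abbrev LD1_c4 := D1.c4
abbrev LD1_c5 := D1.c5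
abbrev LD1_c6 := D1.c6
abbrev LD1_c7 := D1.c7
abbrev LD1_c8 := D1.c8
abbrev LD1_c9 := D1.c9
abbrev LD1_c10 := D1.c10
abbrev LD1_c11 := D1.c11
abbrev LD1_c12 := D1.c12
abbrev LD1_c13 := D1.c13
abbrev LD1_c14 := D1.c14
abbrev LD1_c15 := D1.c15
abbrev LD1_c16 := D1.c16
abbrev LD1_c17 := D1.c17
abbrev LD1_c18 := D1.c18
abbrev LD1_c19 := D1.c19
abbrev LD1_c20 := D1.c20
abbrev LD1_c21 := D1.c21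
abbrev LD1_c22 := D1.c22
abbrev LD1_c23 := D1.c23
abbrev LD1_c24 := D1.c24
abbrev LD1_c25 := D1.c25
abbrev LD1_c26 := D1.c26
abbrev LD1_c27 := D1.c27
abbrev LD1_c28 := D1.c28
abbrev LD1_c29 := D1.c29
abbrev LD1_c30 := D1.c30
abbrev LD1_c31 := D1.c31
abbrev LD1_c32 := D1.c32
abbrev LD2_c0 := D2.c0
abbrev LD2_c1 := D2.c1
abbrev LD2_c2 := D2.c2
abbrev LD2_c3 := D2.c3
abbrev LD2_c4 := D2.c4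
abbrev LD2_c5 := D2.c5
abbrev LD2_c6 := D2.c6
abbrev LD2_c7 := D2.c7
abbrev LD2_c8 := D2.c8
abbrev LD2_c9 := D2.c9
abbrev LD2_c10 := D2.c10
abbrev LD2_c11 := D2.c11
abbrev LD2_c12 := D2.c12
abbrev LD2_c13 := D2.c13
abbrev LD2_c14 := D2.c14
abbrev LD2_c15 := D2.c15
abbrev LD2_c16 := D2.c16
abbrev LD2_c17 := D2.c17
abbrev LD2_c18 := D2.c18
abbrev LD2_c19 := D2.c19
abbrev LD2_c20 := D2.c20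
abbrev LD2_c21 := D2.c21
abbrev LD2_c22 := D2.c22
abbrev LD2_c23 := D2.c23
abbrev LD2_c24 := D2.c24
abbrev LD2_c25 := D2.c25
abbrev LD2_c26 := D2.c26
abbrev LD2_c27 := D2.c27
abbrev LD2_c28 := D2.c28
abbrev LD2_c29 := D2.c29
abbrev LD2_c30 := D2.c30
abbrev LD2_c31 := D2.c31
abbrev LD2_c32 := D2.c32
abbrev LD2_c33 := D2.c33
abbrev LD2_c34 := D2.c34
abbrev LD2_c35 := D2.c35
abbrev LD2_c36 := D2.c36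
abbrev LD2_c37 := D2.c37
abbrev LD2_c38 := D2.c38
abbrev LD2_c39 := D2.c39
abbrev LD2_c40 := D2.c40
abbrev LD2_c41 := D2.c41
abbrev LD2_c42 := D2.c42
abbrev LD2_c43 := D2.c43
abbrev LD2_c44 := D2.c44
abbrev LD2_c45 := D2.c45
abbrev LD2_c46 := D2.c46
abbrev LD2_c47 := D2.c47
abbrev LD2_c48 := D2.c48
abbrev LD2_c49 := D2.c49
abbrev LD2_c50 := D2.c50
abbrev LD2_c51 := D2.c51
abbrev LD2_c52 := D2.c52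
abbrev LD2_c53 := D2.c53
abbrev LD2_c54 := D2.c54
abbrev LD2_c55 := D2.c55
abbrev LD2_c56 := D2.c56
abbrev LD2_c57 := D2.c57
abbrev LD2_c58 := D2.c58
abbrev LD2_c59 := D2.c59
abbrev LD3_c0 := D3.c0
abbrev LD3_c1 := D3.c1
abbrev LD3_c2 := D3.c2
abbrev LD3_c3 := D3.c3
abbrev LD3_c4 := D3.c4
abbrev LD3_c5 := D3.c5
abbrev LD3_c6 := D3.c6
abbrev LD3_c7 := D3.c7
abbrev LD3_c8 := D3.c8
abbrev LD3_c9 := D3.c9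
abbrev LD3_c10 := D3.c10
abbrev LD3_c11 := D3.c11
abbrev LD3_c12 := D3.c12
abbrev LD3_c13 := D3.c13
abbrev LD3_c14 := D3.c14
abbrev LD3_c15 := D3.c15
abbrev LD3_c16 := D3.c16
abbrev LD3_c17 := D3.c17
abbrev LD3_c18 := D3.c18
abbrev LD3_c19 := D3.c19
abbrev LD3_c20 := D3.c20
abbrev LD3_c21 := D3.c21
abbrev LD3_c22 := D3.c22
abbrev LD3_c23 := D3.c23
abbrev LD3_c24 := D3.c24
abbrev LD3_c25 := D3.c25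
abbrev LD3_c26 := D3.c26
abbrev LD3_c27 := D3.c27
abbrev LD3_c28 := D3.c28
abbrev LD3_c29 := D3.c29
abbrev LD3_c30 := D3.c30
abbrev LD3_c31 := D3.c31
abbrev LD3_c32 := D3.c32
abbrev LD3_c33 := D3.c33
abbrev LD3_c34 := D3.c34
abbrev LD3_c35 := D3.c35
abbrev LD3_c36 := D3.c36
abbrev LD3_c37 := D3.c37
abbrev LD3_c38 := D3.c38
abbrev LD3_c39 := D3.c39
abbrev LD3_c40 := D3.c40
abbrev LD3_c41 := D3.c41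
abbrev LD3_c42 := D3.c42
abbrev LD3_c43 := D3.c43
abbrev LD3_c44 := D3.c44
abbrev LD3_c45 := D3.c45
abbrev LD3_c46 := D3.c46
abbrev LD3_c47 := D3.c47
abbrev LD3_c48 := D3.c48
abbrev LD3_c49 := D3.c49
abbrev LD3_c50 := D3.c50
abbrev LD3_c51 := D3.c51
abbrev LD3_c52 := D3.c52
abbrev LD3_c53 := D3.c53
abbrev LD3_c54 := D3.c54
abbrev LD3_c55 := D3.c55
abbrev LD3_c56 := D3.c56
abbrev LD3_c57 := D3.c57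
abbrev LD3_c58 := D3.c58
abbrev LD3_c59 := D3.c59
abbrev LD3_c60 := D3.c60
abbrev LD3_c61 := D3.c61
abbrev LG_g := Gen.g
abbrev Lsl_gt : Gen × Bool := sl_gt
alias Lfl_gt := fl_gt
alias Lpr_gt := pr_gt
abbrev Lsl_gf : Gen × Bool := sl_gf
alias Lfl_gf := fl_gf
alias Lpr_gf := pr_gf
alias Lre_g := re_g
alias Leoe_g := eoe_g
abbrev LG_a := Gen.a
abbrev Lsl_at : Gen × Bool := sl_at
alias Lfl_at := fl_at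
alias Lpr_at := pr_at
abbrev Lsl_af : Gen × Bool := sl_af
alias Lfl_af := fl_af
alias Lpr_af := pr_af
alias Lre_a := re_a
alias Leoe_a := eoe_a
abbrev LG_b := Gen.b
abbrev Lsl_bt : Gen × Bool := sl_bt
alias Lfl_bt := fl_bt
alias Lpr_bt := pr_bt
abbrev Lsl_bf : Gen × Bool := sl_bf
alias Lfl_bf := fl_bf
alias Lpr_bf := pr_bf
alias Lre_b := re_b
alias Leoe_b := eoe_b
abbrev LG_c := Gen.c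
abbrev Lsl_ct : Gen × Bool := sl_ct
alias Lfl_ct := fl_ct
alias Lpr_ct := pr_ct
abbrev Lsl_cf : Gen × Bool := sl_cf
alias Lfl_cf := fl_cf
alias Lpr_cf := pr_cf
alias Lre_c := re_c
alias Leoe_c := eoe_c
abbrev LG_d := Gen.d
abbrev Lsl_dt : Gen × Bool := sl_dt
alias Lfl_dt := fl_dt
alias Lpr_dt := pr_dt
abbrev Lsl_df : Gen × Bool := sl_df
alias Lfl_df := fl_df
alias Lpr_df := pr_df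
alias Lre_d := re_d
alias Leoe_d := eoe_d
abbrev LG_e := Gen.e
abbrev Lsl_et : Gen × Bool := sl_et
alias Lfl_et := fl_et
alias Lpr_et := pr_et
abbrev Lsl_ef : Gen × Bool := sl_ef
alias Lfl_ef := fl_ef
alias Lpr_ef := pr_ef
alias Lre_e := re_e
alias Leoe_e := eoe_e
abbrev LG_f := Gen.f
abbrev Lsl_ft : Gen × Bool := sl_ft
alias Lfl_ft := fl_ft
alias Lpr_ft := pr_ft
abbrev Lsl_ff : Gen × Bool := sl_ff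
alias Lfl_ff := fl_ff
alias Lpr_ff := pr_ff
alias Lre_f := re_f
alias Leoe_f := eoe_f
abbrev LK := Pt.mk
abbrev LQ : Type := Qt rels S
abbrev LP (p : Pt) : LQ := P p
abbrev Led (l : Gen × Bool) (c : LQ) : LQ := ed l c
abbrev LEOK (x : Gen) (p : Pt) : Prop := EntryOK rels S fwd inv o plet idx x p
alias Lpe := pe
alias Lpn := pn
alias Lgr := gr
alias Lpq := pq
alias Lpqs := pqs
alias Llr := lr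
alias Leop := eop
alias Lefun := efun
alias Lecon := econ
theorem Lrfl {α : Sort _} {a : α} : a = a := rfl
alias Lrot0 := rot0
alias Lrot1 := rot1
alias Lrot2 := rot2
alias Lrot3 := rot3
alias Lrot4 := rot4
alias Lrot5 := rot5
alias Lrot6 := rot6
alias Lrot7 := rot7
alias Lrot8 := rot8
alias Lrot9 := rot9
alias Lrot10 := rot10
alias Lrot11 := rot11
alias Lrot12 := rot12
alias Lrot13 := rot13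
alias Lrot14 := rot14
alias Lrot15 := rot15
alias Lrot16 := rot16
alias Lrot17 := rot17
alias Lrot18 := rot18
alias Lrot19 := rot19
alias Lrot20 := rot20
alias Lrot21 := rot21
alias Lrot22 := rot22
alias Lrot23 := rot23
alias Lrot24 := rot24
alias Lrot25 := rot25
alias Lrot26 := rot26
alias Lrot27 := rot27
alias Lrot28 := rot28
alias Lrot29 := rot29
alias Lrot30 := rot30
alias Lrot31 := rot31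
alias Lrot32 := rot32
alias Lrot33 := rot33
alias Lrot34 := rot34
alias Lrot35 := rot35
alias Lrot36 := rot36
alias Lrot37 := rot37
alias Lrot38 := rot38
alias Lrot39 := rot39
alias Lrot40 := rot40
alias Lrot41 := rot41
alias Lrot42 := rot42
alias Lrot43 := rot43
alias Lrot44 := rot44
alias Lrot45 := rot45
alias Lrot46 := rot46
alias Lrot47 := rot47
alias Lrot48 := rot48
alias Lrot49 := rot49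
alias Lrot50 := rot50
alias Lrot51 := rot51
alias Lrot52 := rot52
alias Lrot53 := rot53
alias Lrot54 := rot54
alias Lrot55 := rot55
alias Lrot56 := rot56
alias Lrot57 := rot57
alias Lrot58 := rot58
alias Lrot59 := rot59
alias Lrot60 := rot60
alias Lrot61 := rot61
alias Lrot62 := rot62
alias Lrot63 := rot63
alias Lrot64 := rot64
alias Lrot65 := rot65
alias Lrot66 := rot66
alias Lrot67 := rot67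
alias Lrot68 := rot68
alias Lrot69 := rot69
alias Lrot70 := rot70
alias Lrot71 := rot71
alias Lrot72 := rot72
alias Lrot73 := rot73
alias Lrot74 := rot74
alias Lrot75 := rot75
alias Lrot76 := rot76
alias Lrot77 := rot77
alias Lrot78 := rot78
alias Lrot79 := rot79
alias Lrot80 := rot80
alias Lrot81 := rot81
alias Lrot82 := rot82
alias Lrot83 := rot83
alias Lrot84 := rot84
alias Lrot85 := rot85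
alias Lrot86 := rot86
alias Lrot87 := rot87
alias Lrot88 := rot88
alias Lrot89 := rot89
alias Lrot90 := rot90
alias Lrot91 := rot91
alias Lrot92 := rot92
alias Lrot93 := rot93
alias Lrot94 := rot94
alias Lrot95 := rot95
alias Lrot96 := rot96
alias Lrot97 := rot97
alias Lrot98 := rot98
alias Lrot99 := rot99
alias Lrot100 := rot100
alias Lrot101 := rot101
alias Lrot103 := rot103
alias Lrot104 := rot104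
alias Lrot105 := rot105
alias Lrot106 := rot106
alias Lrot107 := rot107
alias Lrot108 := rot108
alias Lrot109 := rot109
alias Lrot110 := rot110
alias Lrot111 := rot111
alias Lrot112 := rot112
alias Lrot113 := rot113
alias Lrot114 := rot114
alias Lrot116 := rot116
alias Lrot117 := rot117
alias Lrot118 := rot118
alias Lrot119 := rot119
alias Lrot120 := rot120
alias Lrot121 := rot121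
alias Lrot122 := rot122
alias Lrot123 := rot123
alias Lrot124 := rot124
alias Lrot125 := rot125
alias Lrot126 := rot126
alias Lrot127 := rot127
alias Lrot128 := rot128
alias Lrot129 := rot129
alias Lrot130 := rot130
alias Lrot131 := rot131
alias Lrot133 := rot133
alias Lrot134 := rot134
alias Lrot135 := rot135
alias Lrot136 := rot136
alias Lrot137 := rot137
alias Lrot138 := rot138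
alias Lrot139 := rot139
alias Lrot141 := rot141
alias Lrot142 := rot142
alias Lrot143 := rot143
alias Lrot144 := rot144
alias Lrot145 := rot145
alias Lrot146 := rot146
alias Lrot147 := rot147
alias Lrot148 := rot148
alias Lrot149 := rot149
alias Lrot150 := rot150
alias Lrot151 := rot151
alias Lrot152 := rot152
alias Lrot153 := rot153
alias Lrot154 := rot154
alias Lrot155 := rot155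
alias Lrot156 := rot156
alias Lrot157 := rot157
alias Lrot158 := rot158
alias Lrot159 := rot159
alias Lrot160 := rot160
alias Lrot161 := rot161
alias Lrot162 := rot162
alias Lrot163 := rot163
alias Lrot164 := rot164
alias Lrot165 := rot165
alias Lrot166 := rot166
alias Lrot167 := rot167
alias Lrot168 := rot168
alias Lrot169 := rot169
alias Lrot170 := rot170
alias Lrot171 := rot171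
alias Lrot173 := rot173
alias Lrot174 := rot174
alias Lrot176 := rot176
alias Lrot177 := rot177
alias Lrot178 := rot178
alias Lrot179 := rot179
alias Lrot180 := rot180
alias Lrot181 := rot181
alias Lrot182 := rot182
alias Lrot185 := rot185
alias Lrot186 := rot186
alias Lrot187 := rot187
alias Lrot189 := rot189
alias Lrot190 := rot190
alias Lrot191 := rot191

section
variable (IH : IHT)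
include IH

theorem f641799 : Led Lsl_gt (LP (LK LD1_c5 LD2_c47 LD3_c27)) = (LP (LK LD1_c5 LD2_c52 LD3_c43)) :=
  Lgr Lrot46 (Lpr_gf (K41.f641779 IH) (Lpe (K41.f505659 IH) (Lpr_at (K41.f500320 IH) (Lpn (LP (LK LD1_c5 LD2_c52 LD3_c43))))))
theorem f76295 : Led Lsl_ct (LP (LK LD1_c2 LD2_c55 LD3_c57)) = (LP (LK LD1_c5 LD2_c59 LD3_c5)) :=
  Lre_c IH (LK LD1_c2 LD2_c55 LD3_c57) (LK LD1_c5 LD2_c59 LD3_c5) Lrfl Lrfl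
theorem f426003 : Led Lsl_at (LP (LK LD1_c5 LD2_c58 LD3_c37)) = (LP (LK LD1_c2 LD2_c55 LD3_c47)) :=
  Lre_a IH (LK LD1_c5 LD2_c58 LD3_c37) (LK LD1_c2 LD2_c55 LD3_c47) Lrfl Lrfl
theorem f426004 : Led Lsl_bt (LP (LK LD1_c2 LD2_c55 LD3_c47)) = (LP (LK LD1_c1 LD2_c23 LD3_c55)) :=
  Lre_b IH (LK LD1_c2 LD2_c55 LD3_c47) (LK LD1_c1 LD2_c23 LD3_c55) Lrfl Lrfl
theorem f426006 : Led Lsl_at (LP (LK LD1_c2 LD2_c55 LD3_c52)) = (LP (LK LD1_c5 LD2_c58 LD3_c1)) :=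
  Lre_a IH (LK LD1_c2 LD2_c55 LD3_c52) (LK LD1_c5 LD2_c58 LD3_c1) Lrfl Lrfl
theorem f426007 : Led Lsl_bt (LP (LK LD1_c2 LD2_c55 LD3_c37)) = (LP (LK LD1_c2 LD2_c55 LD3_c52)) :=
  Lgr Lrot62 (Lpe (K41.f426005 IH) (Lpe (f426004 IH) (Lpe (f426003 IH) (Lpr_bf (K24.f425996 IH) (Lpe (f426006 IH) (Lpn (LP (LK LD1_c2 LD2_c55 LD3_c52))))))))
theorem f641318 : Led Lsl_bt (LP (LK LD1_c5 LD2_c58 LD3_c56)) = K41.v5013 :=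
  Lgr Lrot35 (Lpe (K24.f426128 IH) (Lpe (f426007 IH) (Lpr_ff (K41.f641316 IH) (Lpn K41.v5013))))
theorem f642513 : Led Lsl_ct (LP (LK LD1_c5 LD2_c58 LD3_c56)) = (LP (LK LD1_c11 LD2_c31 LD3_c55)) :=
  Lgr Lrot10 (Lpr_bt (f641318 IH) (Lpe (K41.f641320 IH) (Lpr_ct (f76295 IH) (Lpe (K41.f76293 IH) (Lpr_cf (K4.f76259 IH) (Lpr_bt (K41.f74973 IH) (Lpr_gt (f641799 IH) (Lpr_bf (K41.f505237 IH) (Lpr_ct (K41.f505246 IH) (Lpr_gt (K41.f642511 IH) (Lpn (LP (LK LD1_c11 LD2_c31 LD3_c55)))))))))))))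
theorem f427035 : Led Lsl_ct (LP (LK LD1_c5 LD2_c58 LD3_c52)) = (LP (LK LD1_c2 LD2_c55 LD3_c52)) :=
  Lre_c IH (LK LD1_c5 LD2_c58 LD3_c52) (LK LD1_c2 LD2_c55 LD3_c52) Lrfl Lrfl
theorem f642518 : Led Lsl_ff (LP (LK LD1_c5 LD2_c58 LD3_c52)) = (LP (LK LD1_c11 LD2_c31 LD3_c55)) :=
  Lgr Lrot23 (Lpr_ct (f427035 IH) (Lpr_ft (K24.f426128 IH) (Lpr_ct (f642513 IH) (Lpn (LP (LK LD1_c11 LD2_c31 LD3_c55))))))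
theorem f74305 : Led Lsl_et (LP (LK LD1_c5 LD2_c58 LD3_c52)) = (LP (LK LD1_c2 LD2_c55 LD3_c51)) :=
  Lre_e IH (LK LD1_c5 LD2_c58 LD3_c52) (LK LD1_c2 LD2_c55 LD3_c51) Lrfl Lrfl
theorem f139336 : Led Lsl_et (LP (LK LD1_c5 LD2_c51 LD3_c33)) = (LP (LK LD1_c11 LD2_c30 LD3_c31)) :=
  Lre_e IH (LK LD1_c5 LD2_c51 LD3_c33) (LK LD1_c11 LD2_c30 LD3_c31) Lrfl Lrfl
theorem f426926 : Led Lsl_af (LP (LK LD1_c5 LD2_c58 LD3_c52)) = (LP (LK LD1_c11 LD2_c30 LD3_c31)) :=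
  Lgr Lrot50 (Lpr_et (f74305 IH) (Lpr_at (K41.f426913 IH) (Lpr_et (f139336 IH) (Lpn (LP (LK LD1_c11 LD2_c30 LD3_c31))))))
theorem f427030 : Led Lsl_at (LP (LK LD1_c5 LD2_c58 LD3_c52)) = (LP (LK LD1_c11 LD2_c30 LD3_c31)) :=
  Lgr Lrot100 (Lpr_af (f426926 IH) (Lpn (LP (LK LD1_c11 LD2_c30 LD3_c31))))
theorem f642524 : Led Lsl_gf (LP (LK LD1_c11 LD2_c30 LD3_c31)) = (LP (LK LD1_c5 LD2_c52 LD3_c48)) :=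
  Lgr Lrot76 (Lpe (f427030 IH) (Lpr_ff (f642518 IH) (Lpr_gt (K41.f22538 IH) (Lpn (LP (LK LD1_c5 LD2_c52 LD3_c48))))))
theorem f427036 : Led Lsl_ct (LP (LK LD1_c5 LD2_c58 LD3_c1)) = (LP (LK LD1_c11 LD2_c30 LD3_c31)) :=
  Lgr Lrot111 (Lpe (f426006 IH) (Lpe (f427035 IH) (Lpr_af (f426926 IH) (Lpn (LP (LK LD1_c11 LD2_c30 LD3_c31))))))
theorem f22537 : Led Lsl_ct (LP (LK LD1_c2 LD2_c52 LD3_c39)) = (LP (LK LD1_c5 LD2_c52 LD3_c48)) :=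
  Lre_c IH (LK LD1_c2 LD2_c52 LD3_c39) (LK LD1_c5 LD2_c52 LD3_c48) Lrfl Lrfl
theorem f22536 : Led Lsl_bt (LP (LK LD1_c2 LD2_c52 LD3_c39)) = (LP (LK LD1_c1 LD2_c22 LD3_c22)) :=
  Lre_b IH (LK LD1_c2 LD2_c52 LD3_c39) (LK LD1_c1 LD2_c22 LD3_c22) Lrfl Lrfl
theorem f25237 : Led Lsl_ct (LP (LK LD1_c4 LD2_c34 LD3_c57)) = (LP (LK LD1_c9 LD2_c6 LD3_c26)) :=
  Lre_c IH (LK LD1_c4 LD2_c34 LD3_c57) (LK LD1_c9 LD2_c6 LD3_c26) Lrfl Lrfl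
theorem f151693 : Led Lsl_gt (LP (LK LD1_c16 LD2_c57 LD3_c60)) = (LP (LK LD1_c9 LD2_c6 LD3_c26)) :=
  Lre_g IH (LK LD1_c16 LD2_c57 LD3_c60) (LK LD1_c9 LD2_c6 LD3_c26) Lrfl Lrfl
theorem f71330 : Led Lsl_bt (LP (LK LD1_c1 LD2_c4 LD3_c46)) = (LP (LK LD1_c2 LD2_c15 LD3_c19)) :=
  Lre_b IH (LK LD1_c1 LD2_c4 LD3_c46) (LK LD1_c2 LD2_c15 LD3_c19) Lrfl Lrfl
theorem f83081 : Led Lsl_gt (LP (LK LD1_c2 LD2_c15 LD3_c19)) = (LP (LK LD1_c4 LD2_c36 LD3_c18)) :=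
  Lre_g IH (LK LD1_c2 LD2_c15 LD3_c19) (LK LD1_c4 LD2_c36 LD3_c18) Lrfl Lrfl
theorem f445624 : Led Lsl_bt (LP (LK LD1_c9 LD2_c8 LD3_c44)) = (LP (LK LD1_c4 LD2_c36 LD3_c18)) :=
  Lre_b IH (LK LD1_c9 LD2_c8 LD3_c44) (LK LD1_c4 LD2_c36 LD3_c18) Lrfl Lrfl
theorem f445625 : Led Lsl_cf (LP (LK LD1_c16 LD2_c57 LD3_c60)) = (LP (LK LD1_c9 LD2_c8 LD3_c44)) :=
  Lgr Lrot160 (Lpr_gt (f151693 IH) (Lpe (f25237 IH) (Lpr_bt (K7.f25243 IH) (Lpr_gt (K41.f151905 IH) (Lpr_ct (K24.f445604 IH) (Lpr_gt (K24.f26065 IH) (Lpe (K4.f26355 IH) (Lpr_bt (f71330 IH) (Lpr_gt (f83081 IH) (Lpe (f445624 IH) (Lpn (LP (LK LD1_c9 LD2_c8 LD3_c44)))))))))))))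
theorem f642528 : Led Lsl_gt (LP (LK LD1_c5 LD2_c58 LD3_c37)) = (LP (LK LD1_c9 LD2_c8 LD3_c44)) :=
  Lgr Lrot82 (Lpr_bf (K24.f425996 IH) (Lpr_ct (f427036 IH) (Lpr_gf (f642524 IH) (Lpe (f22537 IH) (Lpr_bt (f22536 IH) (Lpe (K41.f151905 IH) (Lpe (K7.f25243 IH) (Lpr_ct (f25237 IH) (Lpe (f151693 IH) (Lpr_cf (f445625 IH) (Lpn (LP (LK LD1_c9 LD2_c8 LD3_c44)))))))))))))
theorem f426011 : Led Lsl_dt (LP (LK LD1_c5 LD2_c58 LD3_c37)) = (LP (LK LD1_c11 LD2_c41 LD3_c40)) :=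
  Lre_d IH (LK LD1_c5 LD2_c58 LD3_c37) (LK LD1_c11 LD2_c41 LD3_c40) Lrfl Lrfl
theorem f25244 : Led Lsl_ct (LP (LK LD1_c9 LD2_c6 LD3_c26)) = (LP (LK LD1_c4 LD2_c34 LD3_c57)) :=
  Lre_c IH (LK LD1_c9 LD2_c6 LD3_c26) (LK LD1_c4 LD2_c34 LD3_c57) Lrfl Lrfl
theorem f436280 : Led Lsl_ct (LP (LK LD1_c16 LD2_c58 LD3_c40)) = (LP (LK LD1_c9 LD2_c6 LD3_c38)) :=
  Lre_c IH (LK LD1_c16 LD2_c58 LD3_c40) (LK LD1_c9 LD2_c6 LD3_c38) Lrfl Lrfl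
theorem f642532 : Led Lsl_gt (LP (LK LD1_c11 LD2_c41 LD3_c40)) = (LP (LK LD1_c17 LD2_c1 LD3_c33)) :=
  Lgr Lrot9 (Lpe (f426011 IH) (Lpr_gt (f642528 IH) (Lpe (f445625 IH) (Lpr_gt (f151693 IH) (Lpr_ct (f25244 IH) (Lpe (K7.f151745 IH) (Lpe (f436280 IH) (Lpe (K41.f436283 IH) (Lpr_cf (K41.f640904 IH) (Lpn (LP (LK LD1_c17 LD2_c1 LD3_c33))))))))))))
theorem f539504 : Led Lsl_ct (LP (LK LD1_c6 LD2_c1 LD3_c30)) = (LP (LK LD1_c11 LD2_c47 LD3_c35)) :=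
  Lre_c IH (LK LD1_c6 LD2_c1 LD3_c30) (LK LD1_c11 LD2_c47 LD3_c35) Lrfl Lrfl
theorem f436284 : Led Lsl_ct (LP (LK LD1_c5 LD2_c52 LD3_c53)) = (LP (LK LD1_c11 LD2_c32 LD3_c0)) :=
  Lre_c IH (LK LD1_c5 LD2_c52 LD3_c53) (LK LD1_c11 LD2_c32 LD3_c0) Lrfl Lrfl
theorem f642540 : Led Lsl_gf (LP (LK LD1_c11 LD2_c47 LD3_c35)) = (LP (LK LD1_c11 LD2_c32 LD3_c0)) :=
  Lgr Lrot126 (Lpe (f539504 IH) (Lpe (K40.f539494 IH) (Lpr_gt (f642532 IH) (Lpe (K41.f640904 IH) (Lpr_gt (K41.f436283 IH) (Lpe (K41.f436282 IH) (Lpr_bt (K41.f151877 IH) (Lpr_gt (K32.f436278 IH) (Lpe (K32.f22533 IH) (Lpr_ct (f436284 IH) (Lpn (LP (LK LD1_c11 LD2_c32 LD3_c0)))))))))))))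
theorem f428292 : Led Lsl_ct (LP (LK LD1_c5 LD2_c58 LD3_c55)) = (LP (LK LD1_c11 LD2_c42 LD3_c17)) :=
  Lre_c IH (LK LD1_c5 LD2_c58 LD3_c55) (LK LD1_c11 LD2_c42 LD3_c17) Lrfl Lrfl
theorem f539453 : Led Lsl_ct (LP (LK LD1_c11 LD2_c47 LD3_c35)) = (LP (LK LD1_c6 LD2_c1 LD3_c30)) :=
  Lre_c IH (LK LD1_c11 LD2_c47 LD3_c35) (LK LD1_c6 LD2_c1 LD3_c30) Lrfl Lrfl
theorem f539454 : Led Lsl_at (LP (LK LD1_c11 LD2_c42 LD3_c17)) = (LP (LK LD1_c11 LD2_c47 LD3_c35)) :=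
  Lgr Lrot107 (Lpe (f428292 IH) (Lpr_af (K40.f539447 IH) (Lpe (f539453 IH) (Lpn (LP (LK LD1_c11 LD2_c47 LD3_c35))))))
theorem f438661 : Led Lsl_gt (LP (LK LD1_c20 LD2_c28 LD3_c39)) = (LP (LK LD1_c11 LD2_c32 LD3_c0)) :=
  Lre_g IH (LK LD1_c20 LD2_c28 LD3_c39) (LK LD1_c11 LD2_c32 LD3_c0) Lrfl Lrfl
theorem f642542 : Led Lsl_ff (LP (LK LD1_c11 LD2_c42 LD3_c17)) = (LP (LK LD1_c20 LD2_c28 LD3_c39)) :=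
  Lgr Lrot52 (Lpr_at (f539454 IH) (Lpr_gf (f642540 IH) (Lpe (f438661 IH) (Lpn (LP (LK LD1_c20 LD2_c28 LD3_c39))))))
theorem f642906 : Led Lsl_ct (LP (LK LD1_c11 LD2_c42 LD3_c18)) = (LP (LK LD1_c20 LD2_c28 LD3_c39)) :=
  Lgr Lrot40 (Lpe (K40.f428334 IH) (Lpe (K40.f427044 IH) (Lpr_ff (f642542 IH) (Lpn (LP (LK LD1_c20 LD2_c28 LD3_c39))))))
theorem f502605 : Led Lsl_af (LP (LK LD1_c2 LD2_c56 LD3_c18)) = (LP (LK LD1_c4 LD2_c48 LD3_c57)) :=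
  Lgr Lrot0 (Lpr_at (K40.f502603 IH) (Lpn (LP (LK LD1_c4 LD2_c48 LD3_c57))))
theorem f502620 : Led Lsl_ft (LP (LK LD1_c9 LD2_c30 LD3_c24)) = (LP (LK LD1_c4 LD2_c48 LD3_c57)) :=
  Lre_f IH (LK LD1_c9 LD2_c30 LD3_c24) (LK LD1_c4 LD2_c48 LD3_c57) Lrfl Lrfl
theorem f641433 : Led Lsl_gt (LP (LK LD1_c9 LD2_c30 LD3_c24)) = K41.v5035 :=
  Lgr Lrot5 (Lpr_ft (f502620 IH) (Lpe (f502605 IH) (Lpr_gf (K41.f641432 IH) (Lpn K41.v5035))))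
theorem f495140 : Led Lsl_ft (LP (LK LD1_c2 LD2_c22 LD3_c17)) = (LP (LK LD1_c4 LD2_c48 LD3_c49)) :=
  Lre_f IH (LK LD1_c2 LD2_c22 LD3_c17) (LK LD1_c4 LD2_c48 LD3_c49) Lrfl Lrfl
theorem f501977 : Led Lsl_gf (LP (LK LD1_c2 LD2_c56 LD3_c29)) = (LP (LK LD1_c4 LD2_c48 LD3_c48)) :=
  Lgr Lrot76 (Lpr_af (K37.f501941 IH) (Lpe (f495140 IH) (Lpr_gt (K24.f56918 IH) (Lpn (LP (LK LD1_c4 LD2_c48 LD3_c48))))))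
theorem f442879 : Led Lsl_gt (LP (LK LD1_c2 LD2_c54 LD3_c53)) = (LP (LK LD1_c5 LD2_c57 LD3_c14)) :=
  Lre_g IH (LK LD1_c2 LD2_c54 LD3_c53) (LK LD1_c5 LD2_c57 LD3_c14) Lrfl Lrfl
theorem f442880 : Led Lsl_dt (LP (LK LD1_c5 LD2_c57 LD3_c14)) = (LP (LK LD1_c11 LD2_c39 LD3_c49)) :=
  Lre_d IH (LK LD1_c5 LD2_c57 LD3_c14) (LK LD1_c11 LD2_c39 LD3_c49) Lrfl Lrfl
theorem f641853 : Led Lsl_gf (LP (LK LD1_c5 LD2_c59 LD3_c8)) = (LP (LK LD1_c11 LD2_c39 LD3_c49)) :=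
  Lgr Lrot134 (Lpe (K24.f452973 IH) (Lpr_et (K24.f452972 IH) (Lpe (f501977 IH) (Lpr_ef (K37.f501927 IH) (Lpr_dt (K40.f501924 IH) (Lpr_gt (f641433 IH) (Lpr_df (K41.f641849 IH) (Lpr_et (K41.f507061 IH) (Lpr_gt (f442879 IH) (Lpr_dt (f442880 IH) (Lpn (LP (LK LD1_c11 LD2_c39 LD3_c49)))))))))))))
theorem f428280 : Led Lsl_at (LP (LK LD1_c5 LD2_c58 LD3_c28)) = (LP (LK LD1_c2 LD2_c55 LD3_c58)) :=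
  Lre_a IH (LK LD1_c5 LD2_c58 LD3_c28) (LK LD1_c2 LD2_c55 LD3_c58) Lrfl Lrfl
theorem f641855 : Led Lsl_ff (LP (LK LD1_c5 LD2_c58 LD3_c28)) = (LP (LK LD1_c11 LD2_c39 LD3_c49)) :=
  Lgr Lrot52 (Lpr_at (f428280 IH) (Lpe (K24.f105167 IH) (Lpr_gf (f641853 IH) (Lpn (LP (LK LD1_c11 LD2_c39 LD3_c49))))))
theorem f428283 : Led Lsl_bt (LP (LK LD1_c5 LD2_c58 LD3_c28)) = (LP (LK LD1_c5 LD2_c58 LD3_c55)) :=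
  Lgr Lrot127 (Lpr_bf (K40.f428272 IH) (Lpn (LP (LK LD1_c5 LD2_c58 LD3_c55))))
theorem f641863 : Led Lsl_bt (LP (LK LD1_c11 LD2_c42 LD3_c18)) = (LP (LK LD1_c11 LD2_c39 LD3_c49)) :=
  Lgr Lrot35 (Lpe (K40.f428334 IH) (Lpe (f428283 IH) (Lpr_ff (f641855 IH) (Lpn (LP (LK LD1_c11 LD2_c39 LD3_c49))))))
theorem f641364 : Led Lsl_ft (LP (LK LD1_c2 LD2_c55 LD3_c58)) = (LP (LK LD1_c5 LD2_c59 LD3_c10)) :=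
  Lre_f IH (LK LD1_c2 LD2_c55 LD3_c58) (LK LD1_c5 LD2_c59 LD3_c10) Lrfl Lrfl
theorem f641861 : Led Lsl_at (LP (LK LD1_c5 LD2_c59 LD3_c10)) = (LP (LK LD1_c11 LD2_c39 LD3_c49)) :=
  Lgr Lrot66 (Lpe (f641364 IH) (Lpe (f428280 IH) (Lpr_ff (f641855 IH) (Lpn (LP (LK LD1_c11 LD2_c39 LD3_c49))))))
def v5023 : LQ := Led Lsl_gt (LP (LK LD1_c2 LD2_c55 LD3_c58))
theorem f641363 : Led Lsl_gt (LP (LK LD1_c2 LD2_c55 LD3_c58)) = v5023 :=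
  Lrfl
theorem f641941 : Led Lsl_gt v5023 = (LP (LK LD1_c11 LD2_c39 LD3_c49)) :=
  Lgr Lrot46 (Lpe (f641363 IH) (Lpr_ft (f641364 IH) (Lpr_at (f641861 IH) (Lpn (LP (LK LD1_c11 LD2_c39 LD3_c49))))))
def v1606 : LQ := Led Lsl_ct (LP (LK LD1_c1 LD2_c22 LD3_c23))
theorem f500339 : Led Lsl_ct (LP (LK LD1_c1 LD2_c22 LD3_c23)) = v1606 :=
  Lrfl
def v4985 : LQ := Led Lsl_ct (LP (LK LD1_c2 LD2_c54 LD3_c58))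
theorem f641182 : Led Lsl_ct (LP (LK LD1_c2 LD2_c54 LD3_c58)) = v4985 :=
  Lrfl
theorem f641183 : Led Lsl_cf (LP (LK LD1_c2 LD2_c54 LD3_c58)) = v4985 :=
  Lgr Lrot11 (Lpr_ct (f641182 IH) (Lpn v4985))
theorem f23789 : Led Lsl_ct (LP (LK LD1_c1 LD2_c33 LD3_c44)) = (LP (LK LD1_c3 LD2_c14 LD3_c27)) :=
  Lre_c IH (LK LD1_c1 LD2_c33 LD3_c44) (LK LD1_c3 LD2_c14 LD3_c27) Lrfl Lrfl
theorem f641187 : Led Lsl_gt v1606 = v4985 :=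
  Lgr Lrot150 (Lpe (f500339 IH) (Lpe (K32.f22527 IH) (Lpe (K32.f438457 IH) (Lpr_gt (K32.f454595 IH) (Lpr_ct (K24.f446136 IH) (Lpr_gt (K24.f446151 IH) (Lpr_ct (f23789 IH) (Lpe (K0.f23787 IH) (Lpr_cf (f641183 IH) (Lpn v4985))))))))))
theorem f23852 : Led Lsl_bt (LP (LK LD1_c2 LD2_c54 LD3_c58)) = (LP (LK LD1_c5 LD2_c57 LD3_c23)) :=
  Lre_b IH (LK LD1_c2 LD2_c54 LD3_c58) (LK LD1_c5 LD2_c57 LD3_c23) Lrfl Lrfl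
theorem f642920 : v5023 = (LP (LK LD1_c5 LD2_c57 LD3_c23)) :=
  (Llr Lrot124 (Lpr_gt (f641941 IH) (Lpe (f641863 IH) (Lpr_ct (f642906 IH) (Lpr_gt (f438661 IH) (Lpe (f436284 IH) (Lpr_bt (K32.f22533 IH) (Lpr_gt (K32.f22527 IH) (Lpr_ct (f500339 IH) (Lpr_gt (f641187 IH) (Lpe (f641182 IH) (Lpr_bt (f23852 IH) (Lpn (LP (LK LD1_c5 LD2_c57 LD3_c23))))))))))))))).symm
theorem f642921 : Led Lsl_gt (LP (LK LD1_c5 LD2_c57 LD3_c23)) = (LP (LK LD1_c11 LD2_c39 LD3_c49)) :=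
  Leop (Lpe (f641941 IH) (Lpqs (f642920 IH) (Lpn (LP (LK LD1_c5 LD2_c57 LD3_c23)))))
theorem seed_295 : LEOK LG_g (LK LD1_c5 LD2_c57 LD3_c23) :=
  Leoe_g (LK LD1_c5 LD2_c57 LD3_c23) (f642921 IH)
def v3911 : LQ := Led Lsl_bt K35.v1118
theorem f627861 : Led Lsl_bt K35.v1118 = v3911 :=
  Lrfl
theorem f491588 : Led Lsl_cf K32.v267 = K35.v1118 :=
  Lgr Lrot11 (Lpr_ct (K35.f491587 IH) (Lpn K35.v1118))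
theorem f27170 : Led Lsl_cf (LP (LK LD1_c1 LD2_c4 LD3_c37)) = (LP (LK LD1_c0 LD2_c30 LD3_c48)) :=
  Lgr Lrot39 (Lpr_et (K2.f27164 IH) (Lpr_ct (K0.f27155 IH) (Lpr_et (K29.f27169 IH) (Lpn (LP (LK LD1_c0 LD2_c30 LD3_c48))))))
theorem f82240 : Led Lsl_ft (LP (LK LD1_c1 LD2_c4 LD3_c37)) = (LP (LK LD1_c2 LD2_c15 LD3_c2)) :=
  Lre_f IH (LK LD1_c1 LD2_c4 LD3_c37) (LK LD1_c2 LD2_c15 LD3_c2) Lrfl Lrfl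
theorem f452348 : Led Lsl_ct (LP (LK LD1_c2 LD2_c15 LD3_c2)) = K29.v349 :=
  Lgr Lrot40 (Lpe (f82240 IH) (Lpr_cf (f27170 IH) (Lpr_ff (K29.f452345 IH) (Lpn K29.v349))))
theorem f435604 : Led Lsl_bt (LP (LK LD1_c2 LD2_c53 LD3_c56)) = (LP (LK LD1_c1 LD2_c22 LD3_c58)) :=
  Lre_b IH (LK LD1_c2 LD2_c53 LD3_c56) (LK LD1_c1 LD2_c22 LD3_c58) Lrfl Lrfl
theorem f435597 : Led Lsl_ct (LP (LK LD1_c2 LD2_c53 LD3_c56)) = (LP (LK LD1_c5 LD2_c55 LD3_c11)) :=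
  Lre_c IH (LK LD1_c2 LD2_c53 LD3_c56) (LK LD1_c5 LD2_c55 LD3_c11) Lrfl Lrfl
theorem f27093 : Led Lsl_bt (LP (LK LD1_c2 LD2_c16 LD3_c28)) = (LP (LK LD1_c4 LD2_c38 LD3_c54)) :=
  Lre_b IH (LK LD1_c2 LD2_c16 LD3_c28) (LK LD1_c4 LD2_c38 LD3_c54) Lrfl Lrfl
theorem f438498 : Led Lsl_bt (LP (LK LD1_c9 LD2_c6 LD3_c3)) = (LP (LK LD1_c4 LD2_c34 LD3_c36)) :=
  Lre_b IH (LK LD1_c9 LD2_c6 LD3_c3) (LK LD1_c4 LD2_c34 LD3_c36) Lrfl Lrfl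
theorem f446102 : Led Lsl_at (LP (LK LD1_c11 LD2_c40 LD3_c0)) = (LP (LK LD1_c5 LD2_c57 LD3_c23)) :=
  Lre_a IH (LK LD1_c11 LD2_c40 LD3_c0) (LK LD1_c5 LD2_c57 LD3_c23) Lrfl Lrfl
theorem f643050 : Led Lsl_ff (LP (LK LD1_c11 LD2_c40 LD3_c0)) = (LP (LK LD1_c5 LD2_c59 LD3_c8)) :=
  Lgr Lrot52 (Lpr_at (f446102 IH) (Lpq (f642920 IH) (Lpe (f641363 IH) (Lpe (K24.f105167 IH) (Lpn (LP (LK LD1_c5 LD2_c59 LD3_c8)))))))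
theorem f643058 : Led Lsl_ft (LP (LK LD1_c11 LD2_c40 LD3_c0)) = (LP (LK LD1_c5 LD2_c59 LD3_c8)) :=
  Lgr Lrot48 (Lpr_ff (f643050 IH) (Lpn (LP (LK LD1_c5 LD2_c59 LD3_c8))))
theorem f23853 : Led Lsl_bt (LP (LK LD1_c6 LD2_c32 LD3_c35)) = (LP (LK LD1_c3 LD2_c14 LD3_c27)) :=
  Lre_b IH (LK LD1_c6 LD2_c32 LD3_c35) (LK LD1_c3 LD2_c14 LD3_c27) Lrfl Lrfl
theorem f23854 : Led Lsl_dt (LP (LK LD1_c5 LD2_c57 LD3_c23)) = (LP (LK LD1_c6 LD2_c32 LD3_c35)) :=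
  Lgr Lrot79 (Lpe (f23852 IH) (Lpr_df (K0.f23843 IH) (Lpe (f23853 IH) (Lpn (LP (LK LD1_c6 LD2_c32 LD3_c35))))))
theorem f446103 : Led Lsl_at (LP (LK LD1_c6 LD2_c32 LD3_c35)) = (LP (LK LD1_c12 LD2_c32 LD3_c46)) :=
  Lre_a IH (LK LD1_c6 LD2_c32 LD3_c35) (LK LD1_c12 LD2_c32 LD3_c46) Lrfl Lrfl
theorem f446104 : Led Lsl_df (LP (LK LD1_c11 LD2_c40 LD3_c0)) = (LP (LK LD1_c12 LD2_c32 LD3_c46)) :=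
  Lgr Lrot18 (Lpr_at (f446102 IH) (Lpr_dt (f23854 IH) (Lpr_at (f446103 IH) (Lpn (LP (LK LD1_c12 LD2_c32 LD3_c46))))))
theorem f452977 : Led Lsl_df (LP (LK LD1_c9 LD2_c30 LD3_c8)) = (LP (LK LD1_c5 LD2_c59 LD3_c8)) :=
  Lgr Lrot38 (Lpr_dt (K24.f452973 IH) (Lpn (LP (LK LD1_c5 LD2_c59 LD3_c8))))
theorem f643064 : Led Lsl_ff (LP (LK LD1_c12 LD2_c32 LD3_c46)) = (LP (LK LD1_c9 LD2_c30 LD3_c8)) :=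
  Lgr Lrot19 (Lpe (f446104 IH) (Lpr_ft (f643058 IH) (Lpe (f452977 IH) (Lpn (LP (LK LD1_c9 LD2_c30 LD3_c8))))))
theorem f139850 : Led Lsl_bt (LP (LK LD1_c2 LD2_c51 LD3_c24)) = (LP (LK LD1_c1 LD2_c21 LD3_c48)) :=
  Lre_b IH (LK LD1_c2 LD2_c51 LD3_c24) (LK LD1_c1 LD2_c21 LD3_c48) Lrfl Lrfl
theorem f79858 : Led Lsl_bt (LP (LK LD1_c3 LD2_c8 LD3_c42)) = (LP (LK LD1_c1 LD2_c30 LD3_c30)) :=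
  Lre_b IH (LK LD1_c3 LD2_c8 LD3_c42) (LK LD1_c1 LD2_c30 LD3_c30) Lrfl Lrfl
theorem f79860 : Led Lsl_ct (LP (LK LD1_c3 LD2_c8 LD3_c42)) = (LP (LK LD1_c6 LD2_c21 LD3_c55)) :=
  Lre_c IH (LK LD1_c3 LD2_c8 LD3_c42) (LK LD1_c6 LD2_c21 LD3_c55) Lrfl Lrfl
theorem f104832 : Led Lsl_bt (LP (LK LD1_c4 LD2_c38 LD3_c51)) = (LP (LK LD1_c2 LD2_c16 LD3_c29)) :=
  Lre_b IH (LK LD1_c4 LD2_c38 LD3_c51) (LK LD1_c2 LD2_c16 LD3_c29) Lrfl Lrfl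
theorem f614583 : Led Lsl_gt (LP (LK LD1_c6 LD2_c21 LD3_c55)) = (LP (LK LD1_c6 LD2_c50 LD3_c24)) :=
  Lgr Lrot65 (Lpe (f79860 IH) (Lpr_bt (f79858 IH) (Lpe (K31.f146034 IH) (Lpe (f139850 IH) (Lpr_ct (K6.f139831 IH) (Lpr_gf (K41.f614576 IH) (Lpe (K41.f614578 IH) (Lpe (K35.f27078 IH) (Lpe (f104832 IH) (Lpe (K40.f557992 IH) (Lpn (LP (LK LD1_c6 LD2_c50 LD3_c24)))))))))))))
theorem f79861 : Led Lsl_gt (LP (LK LD1_c12 LD2_c17 LD3_c30)) = (LP (LK LD1_c6 LD2_c21 LD3_c55)) :=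
  Lre_g IH (LK LD1_c12 LD2_c17 LD3_c30) (LK LD1_c6 LD2_c21 LD3_c55) Lrfl Lrfl
theorem f614585 : Led Lsl_ft (LP (LK LD1_c12 LD2_c17 LD3_c30)) = (LP (LK LD1_c6 LD2_c44 LD3_c15)) :=
  Lgr Lrot2 (Lpr_gt (f79861 IH) (Lpr_gt (f614583 IH) (Lpr_af (K40.f207834 IH) (Lpn (LP (LK LD1_c6 LD2_c44 LD3_c15))))))
theorem f157774 : Led Lsl_ct (LP (LK LD1_c6 LD2_c44 LD3_c15)) = (LP (LK LD1_c3 LD2_c20 LD3_c17)) :=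
  Lre_c IH (LK LD1_c6 LD2_c44 LD3_c15) (LK LD1_c3 LD2_c20 LD3_c17) Lrfl Lrfl
theorem f614626 : Led Lsl_cf (LP (LK LD1_c12 LD2_c17 LD3_c30)) = (LP (LK LD1_c6 LD2_c44 LD3_c18)) :=
  Lgr Lrot108 (Lpr_ft (f614585 IH) (Lpr_ct (f157774 IH) (Lpr_ft (K40.f209304 IH) (Lpn (LP (LK LD1_c6 LD2_c44 LD3_c18))))))
theorem f207327 : Led Lsl_gt (LP (LK LD1_c2 LD2_c16 LD3_c7)) = (LP (LK LD1_c4 LD2_c37 LD3_c58)) :=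
  Lre_g IH (LK LD1_c2 LD2_c16 LD3_c7) (LK LD1_c4 LD2_c37 LD3_c58) Lrfl Lrfl
theorem f207328 : Led Lsl_gt (LP (LK LD1_c4 LD2_c37 LD3_c58)) = (LP (LK LD1_c3 LD2_c20 LD3_c23)) :=
  Lgr Lrot46 (Lpe (f207327 IH) (Lpr_ft (K35.f207314 IH) (Lpr_at (K35.f207316 IH) (Lpn (LP (LK LD1_c3 LD2_c20 LD3_c23))))))
theorem f614634 : Led Lsl_bt (LP (LK LD1_c2 LD2_c16 LD3_c27)) = (LP (LK LD1_c4 LD2_c37 LD3_c58)) :=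
  Lgr Lrot22 (Lpe (K41.f435405 IH) (Lpe (K24.f68362 IH) (Lpe (K6.f92125 IH) (Lpr_gf (K31.f79848 IH) (Lpe (f79858 IH) (Lpr_ct (f79860 IH) (Lpe (f79861 IH) (Lpr_cf (f614626 IH) (Lpr_bt (K40.f207336 IH) (Lpe (f207328 IH) (Lpn (LP (LK LD1_c4 LD2_c37 LD3_c58)))))))))))))
theorem f435531 : Led Lsl_bt (LP (LK LD1_c2 LD2_c57 LD3_c23)) = (LP (LK LD1_c1 LD2_c24 LD3_c26)) :=
  Lre_b IH (LK LD1_c2 LD2_c57 LD3_c23) (LK LD1_c1 LD2_c24 LD3_c26) Lrfl Lrfl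
theorem f614644 : Led Lsl_ff (LP (LK LD1_c2 LD2_c57 LD3_c23)) = (LP (LK LD1_c4 LD2_c37 LD3_c58)) :=
  Lgr Lrot25 (Lpr_bt (f435531 IH) (Lpr_ft (K35.f500986 IH) (Lpqs (K35.f506957 IH) (Lpr_bt (f614634 IH) (Lpn (LP (LK LD1_c4 LD2_c37 LD3_c58)))))))
theorem f614666 : Led Lsl_ft (LP (LK LD1_c2 LD2_c57 LD3_c23)) = (LP (LK LD1_c4 LD2_c37 LD3_c58)) :=
  Lgr Lrot48 (Lpr_ff (f614644 IH) (Lpn (LP (LK LD1_c4 LD2_c37 LD3_c58))))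
theorem f443701 : Led Lsl_gt (LP (LK LD1_c6 LD2_c22 LD3_c1)) = (LP (LK LD1_c3 LD2_c8 LD3_c42)) :=
  Lre_g IH (LK LD1_c6 LD2_c22 LD3_c1) (LK LD1_c3 LD2_c8 LD3_c42) Lrfl Lrfl
theorem f443702 : Led Lsl_bt (LP (LK LD1_c12 LD2_c17 LD3_c43)) = (LP (LK LD1_c6 LD2_c22 LD3_c1)) :=
  Lre_b IH (LK LD1_c12 LD2_c17 LD3_c43) (LK LD1_c6 LD2_c22 LD3_c1) Lrfl Lrfl
theorem f435549 : Led Lsl_bt (LP (LK LD1_c1 LD2_c30 LD3_c30)) = (LP (LK LD1_c3 LD2_c8 LD3_c42)) :=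
  Lre_b IH (LK LD1_c1 LD2_c30 LD3_c30) (LK LD1_c3 LD2_c8 LD3_c42) Lrfl Lrfl
theorem f146040 : Led Lsl_bt (LP (LK LD1_c0 LD2_c38 LD3_c56)) = (LP (LK LD1_c1 LD2_c24 LD3_c24)) :=
  Lre_b IH (LK LD1_c0 LD2_c38 LD3_c56) (LK LD1_c1 LD2_c24 LD3_c24) Lrfl Lrfl
theorem f69213 : Led Lsl_gt (LP (LK LD1_c1 LD2_c24 LD3_c24)) = (LP (LK LD1_c2 LD2_c57 LD3_c18)) :=
  Lre_g IH (LK LD1_c1 LD2_c24 LD3_c24) (LK LD1_c2 LD2_c57 LD3_c18) Lrfl Lrfl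
theorem f443703 : Led Lsl_ct (LP (LK LD1_c2 LD2_c57 LD3_c18)) = (LP (LK LD1_c6 LD2_c2 LD3_c27)) :=
  Lre_c IH (LK LD1_c2 LD2_c57 LD3_c18) (LK LD1_c6 LD2_c2 LD3_c27) Lrfl Lrfl
theorem f443704 : Led Lsl_gt (LP (LK LD1_c6 LD2_c2 LD3_c27)) = (LP (LK LD1_c11 LD2_c49 LD3_c14)) :=
  Lre_g IH (LK LD1_c6 LD2_c2 LD3_c27) (LK LD1_c11 LD2_c49 LD3_c14) Lrfl Lrfl
theorem f443705 : Led Lsl_ct (LP (LK LD1_c12 LD2_c17 LD3_c43)) = (LP (LK LD1_c11 LD2_c49 LD3_c14)) :=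
  Lgr Lrot63 (Lpr_bt (f443702 IH) (Lpr_gt (f443701 IH) (Lpe (f435549 IH) (Lpr_ct (K31.f79855 IH) (Lpr_gt (K9.f67106 IH) (Lpr_cf (K11.f61870 IH) (Lpr_bt (f146040 IH) (Lpr_gt (f69213 IH) (Lpr_ct (f443703 IH) (Lpr_gt (f443704 IH) (Lpn (LP (LK LD1_c11 LD2_c49 LD3_c14)))))))))))))
theorem f614591 : Led Lsl_bt (LP (LK LD1_c2 LD2_c57 LD3_c18)) = (LP (LK LD1_c4 LD2_c38 LD3_c57)) :=
  Lgr Lrot92 (Lpr_ct (f443703 IH) (Lpr_gt (f443704 IH) (Lpe (f443705 IH) (Lpr_bt (f443702 IH) (Lpr_gt (f443701 IH) (Lpr_ct (f79860 IH) (Lpr_gt (f614583 IH) (Lpr_cf (K40.f557992 IH) (Lpr_bt (f104832 IH) (Lpr_gt (K35.f27078 IH) (Lpn (LP (LK LD1_c4 LD2_c38 LD3_c57)))))))))))))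
theorem f204550 : Led Lsl_ct (LP (LK LD1_c6 LD2_c2 LD3_c27)) = (LP (LK LD1_c2 LD2_c57 LD3_c18)) :=
  Lre_c IH (LK LD1_c6 LD2_c2 LD3_c27) (LK LD1_c2 LD2_c57 LD3_c18) Lrfl Lrfl
theorem f443716 : Led Lsl_bt (LP (LK LD1_c11 LD2_c49 LD3_c15)) = (LP (LK LD1_c6 LD2_c2 LD3_c27)) :=
  Lre_b IH (LK LD1_c11 LD2_c49 LD3_c15) (LK LD1_c6 LD2_c2 LD3_c27) Lrfl Lrfl
theorem f614593 : Led Lsl_bt (LP (LK LD1_c9 LD2_c6 LD3_c6)) = (LP (LK LD1_c16 LD2_c57 LD3_c53)) :=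
  Lre_b IH (LK LD1_c9 LD2_c6 LD3_c6) (LK LD1_c16 LD2_c57 LD3_c53) Lrfl Lrfl
theorem f614594 : Led Lsl_cf (LP (LK LD1_c11 LD2_c49 LD3_c15)) = (LP (LK LD1_c16 LD2_c57 LD3_c53)) :=
  Lgr Lrot97 (Lpr_bt (f443716 IH) (Lpr_ct (f204550 IH) (Lpr_bt (f614591 IH) (Lpr_ct (K41.f614578 IH) (Lpr_bt (f614593 IH) (Lpn (LP (LK LD1_c16 LD2_c57 LD3_c53))))))))
theorem f614618 : Led Lsl_ct (LP (LK LD1_c11 LD2_c49 LD3_c15)) = (LP (LK LD1_c16 LD2_c57 LD3_c53)) :=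
  Lgr Lrot59 (Lpr_cf (f614594 IH) (Lpn (LP (LK LD1_c16 LD2_c57 LD3_c53))))
theorem f204551 : Led Lsl_bt (LP (LK LD1_c6 LD2_c2 LD3_c27)) = (LP (LK LD1_c11 LD2_c49 LD3_c15)) :=
  Lre_b IH (LK LD1_c6 LD2_c2 LD3_c27) (LK LD1_c11 LD2_c49 LD3_c15) Lrfl Lrfl
theorem f614581 : Led Lsl_bf (LP (LK LD1_c2 LD2_c57 LD3_c18)) = (LP (LK LD1_c4 LD2_c38 LD3_c57)) :=
  Lgr Lrot34 (Lpe (f69213 IH) (Lpe (f146040 IH) (Lpe (K11.f61870 IH) (Lpe (K9.f67106 IH) (Lpe (K31.f79855 IH) (Lpe (K31.f146034 IH) (Lpe (f139850 IH) (Lpr_ct (K6.f139831 IH) (Lpr_gf (K41.f614576 IH) (Lpe (K41.f614578 IH) (Lpn (LP (LK LD1_c4 LD2_c38 LD3_c57)))))))))))))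
theorem f614580 : Led Lsl_bt (LP (LK LD1_c16 LD2_c57 LD3_c53)) = (LP (LK LD1_c9 LD2_c6 LD3_c6)) :=
  Lre_b IH (LK LD1_c16 LD2_c57 LD3_c53) (LK LD1_c9 LD2_c6 LD3_c6) Lrfl Lrfl
theorem f614621 : Led Lsl_cf (LP (LK LD1_c4 LD2_c38 LD3_c57)) = (LP (LK LD1_c9 LD2_c6 LD3_c6)) :=
  Lgr Lrot97 (Lpe (f614581 IH) (Lpr_ct (f443703 IH) (Lpr_bt (f204551 IH) (Lpr_ct (f614618 IH) (Lpr_bt (f614580 IH) (Lpn (LP (LK LD1_c9 LD2_c6 LD3_c6))))))))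
theorem f614867 : Led Lsl_cf (LP (LK LD1_c5 LD2_c50 LD3_c17)) = (LP (LK LD1_c2 LD2_c57 LD3_c27)) :=
  Lgr Lrot108 (Lpr_ft (K41.f614861 IH) (Lpe (f614621 IH) (Lpe (K41.f508240 IH) (Lpn (LP (LK LD1_c2 LD2_c57 LD3_c27))))))
theorem f141153 : Led Lsl_ct (LP (LK LD1_c1 LD2_c21 LD3_c45)) = (LP (LK LD1_c2 LD2_c51 LD3_c21)) :=
  Lre_c IH (LK LD1_c1 LD2_c21 LD3_c45) (LK LD1_c2 LD2_c51 LD3_c21) Lrfl Lrfl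
theorem f146046 : Led Lsl_bt (LP (LK LD1_c2 LD2_c51 LD3_c25)) = (LP (LK LD1_c1 LD2_c21 LD3_c46)) :=
  Lre_b IH (LK LD1_c2 LD2_c51 LD3_c25) (LK LD1_c1 LD2_c21 LD3_c46) Lrfl Lrfl
theorem f146050 : Led Lsl_ct (LP (LK LD1_c2 LD2_c51 LD3_c25)) = (LP (LK LD1_c5 LD2_c50 LD3_c29)) :=
  Lre_c IH (LK LD1_c2 LD2_c51 LD3_c25) (LK LD1_c5 LD2_c50 LD3_c29) Lrfl Lrfl
theorem f436266 : Led Lsl_gt (LP (LK LD1_c5 LD2_c50 LD3_c29)) = (LP (LK LD1_c11 LD2_c28 LD3_c55)) :=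
  Lre_g IH (LK LD1_c5 LD2_c50 LD3_c29) (LK LD1_c11 LD2_c28 LD3_c55) Lrfl Lrfl
theorem f614882 : Led Lsl_cf (LP (LK LD1_c11 LD2_c28 LD3_c55)) = (LP (LK LD1_c9 LD2_c13 LD3_c33)) :=
  Lgr Lrot58 (Lpe (f436266 IH) (Lpe (f146050 IH) (Lpr_bt (f146046 IH) (Lpe (K9.f139883 IH) (Lpe (K9.f139804 IH) (Lpr_ct (f141153 IH) (Lpe (K41.f139820 IH) (Lpr_cf (f614867 IH) (Lpr_gf (K35.f204277 IH) (Lpe (K40.f419081 IH) (Lpn (LP (LK LD1_c9 LD2_c13 LD3_c33)))))))))))))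
theorem f104834 : Led Lsl_ft (LP (LK LD1_c4 LD2_c38 LD3_c51)) = (LP (LK LD1_c9 LD2_c13 LD3_c33)) :=
  Lre_f IH (LK LD1_c4 LD2_c38 LD3_c51) (LK LD1_c9 LD2_c13 LD3_c33) Lrfl Lrfl
theorem f614989 : Led Lsl_ft (LP (LK LD1_c11 LD2_c28 LD3_c55)) = (LP (LK LD1_c6 LD2_c50 LD3_c24)) :=
  Lgr Lrot4 (Lpr_cf (f614882 IH) (Lpe (f104834 IH) (Lpe (K40.f557965 IH) (Lpn (LP (LK LD1_c6 LD2_c50 LD3_c24))))))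
def v1874 : LQ := Led Lsl_at (LP (LK LD1_c1 LD2_c30 LD3_c26))
theorem f504666 : Led Lsl_at (LP (LK LD1_c1 LD2_c30 LD3_c26)) = v1874 :=
  Lrfl
theorem f504669 : Led Lsl_cf K32.v470 = v1874 :=
  Lgr Lrot1 (Lpe (K32.f453511 IH) (Lpr_ct (K32.f435552 IH) (Lpr_at (f504666 IH) (Lpn v1874))))
theorem f453515 : Led Lsl_ff (LP (LK LD1_c0 LD2_c41 LD3_c47)) = K32.v470 :=
  Lgr Lrot3 (Lpr_ft (K32.f453514 IH) (Lpn K32.v470))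
theorem f504671 : Led Lsl_ft (LP (LK LD1_c1 LD2_c30 LD3_c30)) = v1874 :=
  Lgr Lrot4 (Lpe (K32.f79851 IH) (Lpr_ff (f453515 IH) (Lpr_cf (f504669 IH) (Lpn v1874))))
theorem f504672 : Led Lsl_ff (LP (LK LD1_c1 LD2_c30 LD3_c30)) = v1874 :=
  Lgr Lrot3 (Lpr_ft (f504671 IH) (Lpn v1874))
theorem f504670 : Led Lsl_ct K32.v470 = v1874 :=
  Lgr Lrot59 (Lpr_cf (f504669 IH) (Lpn v1874))
theorem f504867 : v1874 = (LP (LK LD1_c1 LD2_c21 LD3_c46)) :=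
  Lefun (Lecon (f504670 IH) (K32.f504860 IH)) (K24.f436245 IH)
theorem f506189 : Led Lsl_ff (LP (LK LD1_c2 LD2_c51 LD3_c25)) = (LP (LK LD1_c3 LD2_c8 LD3_c42)) :=
  Lgr Lrot25 (Lpr_bt (f146046 IH) (Lpq (f504867 IH) (Lpe (f504672 IH) (Lpr_bt (f435549 IH) (Lpn (LP (LK LD1_c3 LD2_c8 LD3_c42)))))))
theorem f79859 : Led Lsl_ct (LP (LK LD1_c6 LD2_c21 LD3_c55)) = (LP (LK LD1_c3 LD2_c8 LD3_c42)) :=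
  Lre_c IH (LK LD1_c6 LD2_c21 LD3_c55) (LK LD1_c3 LD2_c8 LD3_c42) Lrfl Lrfl
theorem f506193 : Led Lsl_ft (LP (LK LD1_c5 LD2_c50 LD3_c29)) = (LP (LK LD1_c6 LD2_c21 LD3_c55)) :=
  Lgr Lrot4 (Lpe (f146050 IH) (Lpr_ff (f506189 IH) (Lpe (f79859 IH) (Lpn (LP (LK LD1_c6 LD2_c21 LD3_c55))))))
theorem f506224 : Led Lsl_at (LP (LK LD1_c6 LD2_c21 LD3_c55)) = (LP (LK LD1_c12 LD2_c17 LD3_c31)) :=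
  Lre_a IH (LK LD1_c6 LD2_c21 LD3_c55) (LK LD1_c12 LD2_c17 LD3_c31) Lrfl Lrfl
theorem f506225 : Led Lsl_gt (LP (LK LD1_c11 LD2_c28 LD3_c55)) = (LP (LK LD1_c12 LD2_c17 LD3_c31)) :=
  Lgr Lrot46 (Lpe (f436266 IH) (Lpr_ft (f506193 IH) (Lpr_at (f506224 IH) (Lpn (LP (LK LD1_c12 LD2_c17 LD3_c31))))))
theorem f207876 : Led Lsl_at (LP (LK LD1_c6 LD2_c50 LD3_c24)) = (LP (LK LD1_c6 LD2_c44 LD3_c15)) :=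
  Lgr Lrot100 (Lpr_af (K40.f207834 IH) (Lpn (LP (LK LD1_c6 LD2_c44 LD3_c15))))
theorem f614995 : Led Lsl_gt (LP (LK LD1_c12 LD2_c17 LD3_c31)) = (LP (LK LD1_c6 LD2_c44 LD3_c15)) :=
  Lgr Lrot46 (Lpe (f506225 IH) (Lpr_ft (f614989 IH) (Lpr_at (f207876 IH) (Lpn (LP (LK LD1_c6 LD2_c44 LD3_c15))))))
theorem f506197 : Led Lsl_ft (LP (LK LD1_c2 LD2_c51 LD3_c25)) = (LP (LK LD1_c3 LD2_c8 LD3_c42)) :=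
  Lgr Lrot48 (Lpr_ff (f506189 IH) (Lpn (LP (LK LD1_c3 LD2_c8 LD3_c42))))
theorem f146047 : Led Lsl_ct (LP (LK LD1_c5 LD2_c50 LD3_c29)) = (LP (LK LD1_c2 LD2_c51 LD3_c25)) :=
  Lre_c IH (LK LD1_c5 LD2_c50 LD3_c29) (LK LD1_c2 LD2_c51 LD3_c25) Lrfl Lrfl
theorem f506201 : Led Lsl_ff (LP (LK LD1_c5 LD2_c50 LD3_c29)) = (LP (LK LD1_c6 LD2_c21 LD3_c55)) :=
  Lgr Lrot23 (Lpr_ct (f146047 IH) (Lpr_ft (f506197 IH) (Lpr_ct (f79860 IH) (Lpn (LP (LK LD1_c6 LD2_c21 LD3_c55))))))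
theorem f436263 : Led Lsl_at (LP (LK LD1_c5 LD2_c50 LD3_c29)) = (LP (LK LD1_c11 LD2_c28 LD3_c52)) :=
  Lre_a IH (LK LD1_c5 LD2_c50 LD3_c29) (LK LD1_c11 LD2_c28 LD3_c52) Lrfl Lrfl
theorem f506209 : Led Lsl_at (LP (LK LD1_c12 LD2_c17 LD3_c31)) = (LP (LK LD1_c6 LD2_c21 LD3_c55)) :=
  Lre_a IH (LK LD1_c12 LD2_c17 LD3_c31) (LK LD1_c6 LD2_c21 LD3_c55) Lrfl Lrfl
theorem f506210 : Led Lsl_ft (LP (LK LD1_c11 LD2_c28 LD3_c52)) = (LP (LK LD1_c12 LD2_c17 LD3_c31)) :=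
  Lgr Lrot101 (Lpe (f436263 IH) (Lpr_ff (f506201 IH) (Lpe (f506209 IH) (Lpn (LP (LK LD1_c12 LD2_c17 LD3_c31))))))
theorem f506220 : Led Lsl_ff (LP (LK LD1_c11 LD2_c28 LD3_c52)) = (LP (LK LD1_c12 LD2_c17 LD3_c31)) :=
  Lgr Lrot3 (Lpr_ft (f506210 IH) (Lpn (LP (LK LD1_c12 LD2_c17 LD3_c31))))
theorem f436267 : Led Lsl_at (LP (LK LD1_c11 LD2_c28 LD3_c52)) = (LP (LK LD1_c5 LD2_c50 LD3_c29)) :=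
  Lre_a IH (LK LD1_c11 LD2_c28 LD3_c52) (LK LD1_c5 LD2_c50 LD3_c29) Lrfl Lrfl
theorem f614997 : Led Lsl_gf (LP (LK LD1_c5 LD2_c50 LD3_c29)) = (LP (LK LD1_c6 LD2_c44 LD3_c15)) :=
  Lgr Lrot76 (Lpe (f436267 IH) (Lpr_ff (f506220 IH) (Lpr_gt (f614995 IH) (Lpn (LP (LK LD1_c6 LD2_c44 LD3_c15))))))
theorem f444000 : Led Lsl_bt (LP (LK LD1_c1 LD2_c24 LD3_c26)) = (LP (LK LD1_c2 LD2_c57 LD3_c23)) :=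
  Lre_b IH (LK LD1_c1 LD2_c24 LD3_c26) (LK LD1_c2 LD2_c57 LD3_c23) Lrfl Lrfl
theorem f157775 : Led Lsl_bt (LP (LK LD1_c3 LD2_c20 LD3_c17)) = (LP (LK LD1_c1 LD2_c36 LD3_c34)) :=
  Lre_b IH (LK LD1_c3 LD2_c20 LD3_c17) (LK LD1_c1 LD2_c36 LD3_c34) Lrfl Lrfl
def v2149 : LQ := Led Lsl_gf (LP (LK LD1_c1 LD2_c36 LD3_c34))
theorem f509240 : Led Lsl_gf (LP (LK LD1_c1 LD2_c36 LD3_c34)) = v2149 :=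
  Lrfl
theorem f615000 : (LP (LK LD1_c2 LD2_c57 LD3_c23)) = v2149 :=
  (Llr Lrot22 (Lpe (f444000 IH) (Lpe (K32.f444001 IH) (Lpr_gf (K32.f416954 IH) (Lpe (K24.f92116 IH) (Lpe (K24.f146042 IH) (Lpe (f146046 IH) (Lpr_ct (f146050 IH) (Lpr_gf (f614997 IH) (Lpe (K40.f157778 IH) (Lpr_bt (f157775 IH) (Lpr_gf (f509240 IH) (Lpn v2149))))))))))))).symm
theorem f206813 : Led Lsl_gt (LP (LK LD1_c1 LD2_c36 LD3_c34)) = (LP (LK LD1_c3 LD2_c20 LD3_c22)) :=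
  Lre_g IH (LK LD1_c1 LD2_c36 LD3_c34) (LK LD1_c3 LD2_c20 LD3_c22) Lrfl Lrfl
theorem f615003 : Led Lsl_at (LP (LK LD1_c4 LD2_c37 LD3_c58)) = (LP (LK LD1_c3 LD2_c20 LD3_c22)) :=
  Lgr Lrot26 (Lpe (f614666 IH) (Lpqs (f615000 IH) (Lpe (f509240 IH) (Lpr_gt (f206813 IH) (Lpn (LP (LK LD1_c3 LD2_c20 LD3_c22)))))))
theorem f435446 : Led Lsl_bt (LP (LK LD1_c6 LD2_c32 LD3_c40)) = (LP (LK LD1_c3 LD2_c14 LD3_c33)) :=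
  Lre_b IH (LK LD1_c6 LD2_c32 LD3_c40) (LK LD1_c3 LD2_c14 LD3_c33) Lrfl Lrfl
theorem f614642 : Led Lsl_ef (LP (LK LD1_c6 LD2_c32 LD3_c40)) = (LP (LK LD1_c4 LD2_c37 LD3_c58)) :=
  Lgr Lrot29 (Lpr_bt (f435446 IH) (Lpr_et (K32.f435444 IH) (Lpr_bt (f614634 IH) (Lpn (LP (LK LD1_c4 LD2_c37 LD3_c58))))))
theorem f614721 : Led Lsl_et (LP (LK LD1_c6 LD2_c32 LD3_c40)) = (LP (LK LD1_c4 LD2_c37 LD3_c58)) :=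
  Lgr Lrot87 (Lpr_ef (f614642 IH) (Lpn (LP (LK LD1_c4 LD2_c37 LD3_c58))))
theorem f206822 : Led Lsl_et (LP (LK LD1_c3 LD2_c20 LD3_c22)) = (LP (LK LD1_c6 LD2_c44 LD3_c31)) :=
  Lre_e IH (LK LD1_c3 LD2_c20 LD3_c22) (LK LD1_c6 LD2_c44 LD3_c31) Lrfl Lrfl
theorem f615009 : Led Lsl_af (LP (LK LD1_c6 LD2_c32 LD3_c40)) = (LP (LK LD1_c6 LD2_c44 LD3_c31)) :=
  Lgr Lrot50 (Lpr_et (f614721 IH) (Lpr_at (f615003 IH) (Lpr_et (f206822 IH) (Lpn (LP (LK LD1_c6 LD2_c44 LD3_c31))))))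
theorem f151952 : Led Lsl_bt (LP (LK LD1_c3 LD2_c14 LD3_c33)) = (LP (LK LD1_c6 LD2_c32 LD3_c40)) :=
  Lre_b IH (LK LD1_c3 LD2_c14 LD3_c33) (LK LD1_c6 LD2_c32 LD3_c40) Lrfl Lrfl
theorem f82920 : Led Lsl_bt (LP (LK LD1_c5 LD2_c57 LD3_c24)) = (LP (LK LD1_c2 LD2_c54 LD3_c59)) :=
  Lre_b IH (LK LD1_c5 LD2_c57 LD3_c24) (LK LD1_c2 LD2_c54 LD3_c59) Lrfl Lrfl
theorem f435454 : Led Lsl_dt (LP (LK LD1_c6 LD2_c32 LD3_c40)) = (LP (LK LD1_c5 LD2_c57 LD3_c24)) :=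
  Lgr Lrot79 (Lpe (f151952 IH) (Lpr_df (K32.f435452 IH) (Lpe (f82920 IH) (Lpn (LP (LK LD1_c5 LD2_c57 LD3_c24))))))
theorem f206815 : Led Lsl_et (LP (LK LD1_c6 LD2_c44 LD3_c31)) = (LP (LK LD1_c3 LD2_c20 LD3_c22)) :=
  Lre_e IH (LK LD1_c6 LD2_c44 LD3_c31) (LK LD1_c3 LD2_c20 LD3_c22) Lrfl Lrfl
theorem f99667 : Led Lsl_et (LP (LK LD1_c2 LD2_c15 LD3_c59)) = (LP (LK LD1_c1 LD2_c4 LD3_c58)) :=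
  Lre_e IH (LK LD1_c2 LD2_c15 LD3_c59) (LK LD1_c1 LD2_c4 LD3_c58) Lrfl Lrfl
theorem f99668 : Led Lsl_dt (LP (LK LD1_c2 LD2_c15 LD3_c59)) = (LP (LK LD1_c4 LD2_c37 LD3_c34)) :=
  Lre_d IH (LK LD1_c2 LD2_c15 LD3_c59) (LK LD1_c4 LD2_c37 LD3_c34) Lrfl Lrfl
theorem f99669 : Led Lsl_gt (LP (LK LD1_c9 LD2_c10 LD3_c47)) = (LP (LK LD1_c4 LD2_c37 LD3_c34)) :=
  Lre_g IH (LK LD1_c9 LD2_c10 LD3_c47) (LK LD1_c4 LD2_c37 LD3_c34) Lrfl Lrfl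
theorem f206816 : Led Lsl_dt (LP (LK LD1_c6 LD2_c44 LD3_c31)) = (LP (LK LD1_c9 LD2_c10 LD3_c47)) :=
  Lgr Lrot136 (Lpr_et (f206815 IH) (Lpe (f206813 IH) (Lpe (K35.f206812 IH) (Lpr_dt (K11.f206791 IH) (Lpe (K4.f73023 IH) (Lpr_df (K4.f73004 IH) (Lpr_gf (K4.f99651 IH) (Lpe (f99667 IH) (Lpr_dt (f99668 IH) (Lpe (f99669 IH) (Lpn (LP (LK LD1_c9 LD2_c10 LD3_c47)))))))))))))
theorem f206820 : Led Lsl_df (LP (LK LD1_c6 LD2_c44 LD3_c31)) = (LP (LK LD1_c9 LD2_c10 LD3_c47)) :=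
  Lgr Lrot38 (Lpr_dt (f206816 IH) (Lpn (LP (LK LD1_c9 LD2_c10 LD3_c47))))
theorem f615037 : Led Lsl_at (LP (LK LD1_c5 LD2_c57 LD3_c24)) = (LP (LK LD1_c9 LD2_c10 LD3_c47)) :=
  Lgr Lrot51 (Lpe (f435454 IH) (Lpr_af (f615009 IH) (Lpr_df (f206820 IH) (Lpn (LP (LK LD1_c9 LD2_c10 LD3_c47))))))
theorem f507751 : Led Lsl_ff (LP (LK LD1_c4 LD2_c36 LD3_c33)) = (LP (LK LD1_c2 LD2_c54 LD3_c59)) :=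
  Lgr Lrot19 (Lpr_dt (K32.f442817 IH) (Lpr_ft (K35.f507747 IH) (Lpr_dt (K32.f435447 IH) (Lpn (LP (LK LD1_c2 LD2_c54 LD3_c59))))))
theorem f442816 : Led Lsl_bt (LP (LK LD1_c4 LD2_c36 LD3_c33)) = (LP (LK LD1_c9 LD2_c9 LD3_c12)) :=
  Lre_b IH (LK LD1_c4 LD2_c36 LD3_c33) (LK LD1_c9 LD2_c9 LD3_c12) Lrfl Lrfl
theorem f507753 : Led Lsl_ft (LP (LK LD1_c9 LD2_c9 LD3_c12)) = (LP (LK LD1_c5 LD2_c57 LD3_c24)) :=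
  Lgr Lrot75 (Lpe (f442816 IH) (Lpr_ff (f507751 IH) (Lpe (f82920 IH) (Lpn (LP (LK LD1_c5 LD2_c57 LD3_c24))))))
theorem f507761 : Led Lsl_at (LP (LK LD1_c17 LD2_c2 LD3_c15)) = (LP (LK LD1_c9 LD2_c9 LD3_c12)) :=
  Lre_a IH (LK LD1_c17 LD2_c2 LD3_c15) (LK LD1_c9 LD2_c9 LD3_c12) Lrfl Lrfl
theorem f615041 : Led Lsl_ff (LP (LK LD1_c17 LD2_c2 LD3_c15)) = (LP (LK LD1_c9 LD2_c10 LD3_c47)) :=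
  Lgr Lrot30 (Lpr_at (f507761 IH) (Lpr_ft (f507753 IH) (Lpr_at (f615037 IH) (Lpn (LP (LK LD1_c9 LD2_c10 LD3_c47))))))
theorem f615045 : Led Lsl_ft (LP (LK LD1_c17 LD2_c2 LD3_c15)) = (LP (LK LD1_c9 LD2_c10 LD3_c47)) :=
  Lgr Lrot48 (Lpr_ff (f615041 IH) (Lpn (LP (LK LD1_c9 LD2_c10 LD3_c47))))
theorem f206825 : Led Lsl_ft (LP (LK LD1_c6 LD2_c44 LD3_c31)) = (LP (LK LD1_c12 LD2_c53 LD3_c33)) :=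
  Lre_f IH (LK LD1_c6 LD2_c44 LD3_c31) (LK LD1_c12 LD2_c53 LD3_c33) Lrfl Lrfl
theorem f615057 : Led Lsl_df (LP (LK LD1_c17 LD2_c2 LD3_c15)) = (LP (LK LD1_c12 LD2_c53 LD3_c33)) :=
  Lgr Lrot78 (Lpr_ft (f615045 IH) (Lpe (f206820 IH) (Lpr_ft (f206825 IH) (Lpn (LP (LK LD1_c12 LD2_c53 LD3_c33))))))
theorem f507757 : Led Lsl_at (LP (LK LD1_c4 LD2_c36 LD3_c33)) = (LP (LK LD1_c2 LD2_c54 LD3_c58)) :=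
  Lgr Lrot26 (Lpr_ff (f507751 IH) (Lpr_gt (K32.f23926 IH) (Lpr_gt (K0.f23785 IH) (Lpn (LP (LK LD1_c2 LD2_c54 LD3_c58))))))
theorem f442813 : Led Lsl_bt (LP (LK LD1_c9 LD2_c9 LD3_c12)) = (LP (LK LD1_c4 LD2_c36 LD3_c33)) :=
  Lre_b IH (LK LD1_c9 LD2_c9 LD3_c12) (LK LD1_c4 LD2_c36 LD3_c33) Lrfl Lrfl
theorem f446117 : Led Lsl_at (LP (LK LD1_c5 LD2_c57 LD3_c23)) = (LP (LK LD1_c11 LD2_c40 LD3_c0)) :=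
  Lre_a IH (LK LD1_c5 LD2_c57 LD3_c23) (LK LD1_c11 LD2_c40 LD3_c0) Lrfl Lrfl
theorem f507762 : Led Lsl_bf (LP (LK LD1_c17 LD2_c2 LD3_c15)) = (LP (LK LD1_c11 LD2_c40 LD3_c0)) :=
  Lgr Lrot81 (Lpr_at (f507761 IH) (Lpr_bt (f442813 IH) (Lpr_at (f507757 IH) (Lpr_bt (f23852 IH) (Lpr_at (f446117 IH) (Lpn (LP (LK LD1_c11 LD2_c40 LD3_c0))))))))
theorem f507764 : Led Lsl_bt (LP (LK LD1_c17 LD2_c2 LD3_c15)) = (LP (LK LD1_c11 LD2_c40 LD3_c0)) :=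
  Lgr Lrot127 (Lpr_bf (f507762 IH) (Lpn (LP (LK LD1_c11 LD2_c40 LD3_c0))))
theorem f446113 : Led Lsl_dt (LP (LK LD1_c11 LD2_c40 LD3_c0)) = (LP (LK LD1_c12 LD2_c32 LD3_c46)) :=
  Lgr Lrot42 (Lpr_df (f446104 IH) (Lpn (LP (LK LD1_c12 LD2_c32 LD3_c46))))
theorem f615061 : Led Lsl_bt (LP (LK LD1_c12 LD2_c32 LD3_c46)) = (LP (LK LD1_c12 LD2_c53 LD3_c33)) :=
  Lgr Lrot95 (Lpe (f446113 IH) (Lpe (f507764 IH) (Lpr_df (f615057 IH) (Lpn (LP (LK LD1_c12 LD2_c53 LD3_c33))))))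
theorem f206824 : Led Lsl_ft (LP (LK LD1_c12 LD2_c53 LD3_c33)) = (LP (LK LD1_c6 LD2_c44 LD3_c31)) :=
  Lre_f IH (LK LD1_c12 LD2_c53 LD3_c33) (LK LD1_c6 LD2_c44 LD3_c31) Lrfl Lrfl
theorem f643066 : Led Lsl_bt (LP (LK LD1_c6 LD2_c44 LD3_c31)) = (LP (LK LD1_c9 LD2_c30 LD3_c8)) :=
  Lgr Lrot35 (Lpe (f206824 IH) (Lpe (f615061 IH) (Lpr_ff (f643064 IH) (Lpn (LP (LK LD1_c9 LD2_c30 LD3_c8))))))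
theorem f643070 : Led Lsl_bf (LP (LK LD1_c3 LD2_c20 LD3_c22)) = (LP (LK LD1_c4 LD2_c48 LD3_c48)) :=
  Lgr Lrot96 (Lpr_et (f206822 IH) (Lpr_bt (f643066 IH) (Lpr_et (K24.f452972 IH) (Lpn (LP (LK LD1_c4 LD2_c48 LD3_c48))))))
theorem f506207 : Led Lsl_ct (LP (LK LD1_c6 LD2_c22 LD3_c2)) = (LP (LK LD1_c12 LD2_c17 LD3_c31)) :=
  Lre_c IH (LK LD1_c6 LD2_c22 LD3_c2) (LK LD1_c12 LD2_c17 LD3_c31) Lrfl Lrfl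
theorem f436257 : Led Lsl_gt (LP (LK LD1_c2 LD2_c51 LD3_c25)) = (LP (LK LD1_c5 LD2_c50 LD3_c27)) :=
  Lre_g IH (LK LD1_c2 LD2_c51 LD3_c25) (LK LD1_c5 LD2_c50 LD3_c27) Lrfl Lrfl
theorem f504681 : Led Lsl_at (LP (LK LD1_c3 LD2_c8 LD3_c42)) = (LP (LK LD1_c6 LD2_c22 LD3_c2)) :=
  Lre_a IH (LK LD1_c3 LD2_c8 LD3_c42) (LK LD1_c6 LD2_c22 LD3_c2) Lrfl Lrfl
theorem f506204 : Led Lsl_gt (LP (LK LD1_c5 LD2_c50 LD3_c27)) = (LP (LK LD1_c6 LD2_c22 LD3_c2)) :=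
  Lgr Lrot46 (Lpe (f436257 IH) (Lpr_ft (f506197 IH) (Lpr_at (f504681 IH) (Lpn (LP (LK LD1_c6 LD2_c22 LD3_c2))))))
theorem f505197 : Led Lsl_et (LP (LK LD1_c6 LD2_c2 LD3_c37)) = (LP (LK LD1_c2 LD2_c57 LD3_c23)) :=
  Lre_e IH (LK LD1_c6 LD2_c2 LD3_c37) (LK LD1_c2 LD2_c57 LD3_c23) Lrfl Lrfl
theorem f505200 : Led Lsl_dt (LP (LK LD1_c6 LD2_c2 LD3_c37)) = (LP (LK LD1_c11 LD2_c49 LD3_c28)) :=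
  Lre_d IH (LK LD1_c6 LD2_c2 LD3_c37) (LK LD1_c11 LD2_c49 LD3_c28) Lrfl Lrfl
theorem f156972 : Led Lsl_df (LP (LK LD1_c4 LD2_c37 LD3_c6)) = (LP (LK LD1_c6 LD2_c38 LD3_c56)) :=
  Lgr Lrot38 (Lpr_dt (K8.f156966 IH) (Lpn (LP (LK LD1_c6 LD2_c38 LD3_c56))))
theorem f206810 : Led Lsl_gf (LP (LK LD1_c1 LD2_c5 LD3_c27)) = (LP (LK LD1_c1 LD2_c20 LD3_c40)) :=
  Lgr Lrot143 (Lpr_dt (K6.f99642 IH) (Lpe (K6.f99639 IH) (Lpr_df (f156972 IH) (Lpe (K8.f156960 IH) (Lpe (K8.f132534 IH) (Lpe (K7.f26508 IH) (Lpe (K6.f26507 IH) (Lpr_gt (K4.f24318 IH) (Lpr_dt (K11.f206791 IH) (Lpn (LP (LK LD1_c1 LD2_c20 LD3_c40))))))))))))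
theorem f99626 : Led Lsl_et (LP (LK LD1_c2 LD2_c15 LD3_c45)) = (LP (LK LD1_c4 LD2_c37 LD3_c7)) :=
  Lre_e IH (LK LD1_c2 LD2_c15 LD3_c45) (LK LD1_c4 LD2_c37 LD3_c7) Lrfl Lrfl
theorem f100073 : Led Lsl_gt (LP (LK LD1_c4 LD2_c37 LD3_c7)) = (LP (LK LD1_c9 LD2_c9 LD3_c59)) :=
  Lre_g IH (LK LD1_c4 LD2_c37 LD3_c7) (LK LD1_c9 LD2_c9 LD3_c59) Lrfl Lrfl
theorem f100080 : Led Lsl_dt (LP (LK LD1_c9 LD2_c9 LD3_c59)) = (LP (LK LD1_c17 LD2_c3 LD3_c6)) :=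
  Lre_d IH (LK LD1_c9 LD2_c9 LD3_c59) (LK LD1_c17 LD2_c3 LD3_c6) Lrfl Lrfl
theorem f615065 : Led Lsl_gf (LP (LK LD1_c11 LD2_c49 LD3_c28)) = (LP (LK LD1_c17 LD2_c3 LD3_c6)) :=
  Lgr Lrot134 (Lpe (f505200 IH) (Lpr_et (f505197 IH) (Lpqs (f615000 IH) (Lpe (f509240 IH) (Lpe (K35.f206812 IH) (Lpr_dt (K11.f206791 IH) (Lpe (f206810 IH) (Lpr_df (K5.f99624 IH) (Lpr_et (f99626 IH) (Lpr_gt (f100073 IH) (Lpr_dt (f100080 IH) (Lpn (LP (LK LD1_c17 LD2_c3 LD3_c6))))))))))))))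
theorem f505202 : Led Lsl_dt (LP (LK LD1_c11 LD2_c49 LD3_c28)) = (LP (LK LD1_c6 LD2_c2 LD3_c37)) :=
  Lre_d IH (LK LD1_c11 LD2_c49 LD3_c28) (LK LD1_c6 LD2_c2 LD3_c37) Lrfl Lrfl
theorem f444150 : Led Lsl_ct (LP (LK LD1_c6 LD2_c2 LD3_c37)) = (LP (LK LD1_c11 LD2_c49 LD3_c24)) :=
  Lre_c IH (LK LD1_c6 LD2_c2 LD3_c37) (LK LD1_c11 LD2_c49 LD3_c24) Lrfl Lrfl
theorem f505205 : Led Lsl_dt (LP (LK LD1_c20 LD2_c51 LD3_c53)) = (LP (LK LD1_c11 LD2_c49 LD3_c24)) :=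
  Lre_d IH (LK LD1_c20 LD2_c51 LD3_c53) (LK LD1_c11 LD2_c49 LD3_c24) Lrfl Lrfl
theorem f99959 : Led Lsl_gt (LP (LK LD1_c9 LD2_c9 LD3_c58)) = (LP (LK LD1_c17 LD2_c3 LD3_c1)) :=
  Lre_g IH (LK LD1_c9 LD2_c9 LD3_c58) (LK LD1_c17 LD2_c3 LD3_c1) Lrfl Lrfl
theorem f99960 : Led Lsl_dt (LP (LK LD1_c17 LD2_c3 LD3_c1)) = (LP (LK LD1_c26 LD2_c57 LD3_c52)) :=
  Lre_d IH (LK LD1_c17 LD2_c3 LD3_c1) (LK LD1_c26 LD2_c57 LD3_c52) Lrfl Lrfl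
theorem f615067 : Led Lsl_gf (LP (LK LD1_c20 LD2_c51 LD3_c53)) = (LP (LK LD1_c26 LD2_c57 LD3_c52)) :=
  Lgr Lrot143 (Lpr_dt (f505205 IH) (Lpe (f444150 IH) (Lpe (f505202 IH) (Lpr_gf (f615065 IH) (Lpe (f100080 IH) (Lpe (f100073 IH) (Lpe (K6.f99961 IH) (Lpr_gt (f99959 IH) (Lpr_dt (f99960 IH) (Lpn (LP (LK LD1_c26 LD2_c57 LD3_c52))))))))))))
theorem f614692 : Led Lsl_dt (LP (LK LD1_c11 LD2_c49 LD3_c24)) = (LP (LK LD1_c20 LD2_c51 LD3_c53)) :=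
  Lre_d IH (LK LD1_c11 LD2_c49 LD3_c24) (LK LD1_c20 LD2_c51 LD3_c53) Lrfl Lrfl
theorem f614693 : Led Lsl_et (LP (LK LD1_c11 LD2_c49 LD3_c24)) = (LP (LK LD1_c6 LD2_c2 LD3_c35)) :=
  Lre_e IH (LK LD1_c11 LD2_c49 LD3_c24) (LK LD1_c6 LD2_c2 LD3_c35) Lrfl Lrfl
theorem f99920 : Led Lsl_et (LP (LK LD1_c4 LD2_c37 LD3_c6)) = (LP (LK LD1_c9 LD2_c9 LD3_c58)) :=
  Lre_e IH (LK LD1_c4 LD2_c37 LD3_c6) (LK LD1_c9 LD2_c9 LD3_c58) Lrfl Lrfl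
theorem f156978 : Led Lsl_et (LP (LK LD1_c1 LD2_c35 LD3_c24)) = (LP (LK LD1_c3 LD2_c17 LD3_c44)) :=
  Lre_e IH (LK LD1_c1 LD2_c35 LD3_c24) (LK LD1_c3 LD2_c17 LD3_c44) Lrfl Lrfl
theorem f615069 : Led Lsl_gt (LP (LK LD1_c6 LD2_c2 LD3_c35)) = (LP (LK LD1_c3 LD2_c17 LD3_c44)) :=
  Lgr Lrot131 (Lpe (f614693 IH) (Lpr_dt (f614692 IH) (Lpr_gf (f615067 IH) (Lpe (f99960 IH) (Lpe (f99959 IH) (Lpe (f99920 IH) (Lpr_dt (K8.f156966 IH) (Lpe (K8.f156960 IH) (Lpe (K8.f132534 IH) (Lpr_et (f156978 IH) (Lpn (LP (LK LD1_c3 LD2_c17 LD3_c44)))))))))))))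
theorem f435532 : Led Lsl_ct (LP (LK LD1_c2 LD2_c57 LD3_c23)) = (LP (LK LD1_c6 LD2_c2 LD3_c35)) :=
  Lre_c IH (LK LD1_c2 LD2_c57 LD3_c23) (LK LD1_c6 LD2_c2 LD3_c35) Lrfl Lrfl
theorem f207337 : Led Lsl_at (LP (LK LD1_c2 LD2_c16 LD3_c7)) = (LP (LK LD1_c1 LD2_c36 LD3_c34)) :=
  Lgr Lrot100 (Lpr_af (K35.f207325 IH) (Lpn (LP (LK LD1_c1 LD2_c36 LD3_c34))))
theorem f509241 : Led Lsl_gt (LP (LK LD1_c4 LD2_c37 LD3_c60)) = v2149 :=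
  Lgr Lrot5 (Lpr_ft (K35.f207319 IH) (Lpr_at (f207337 IH) (Lpr_gf (f509240 IH) (Lpn v2149))))
theorem f538062 : Led Lsl_dt (LP (LK LD1_c4 LD2_c37 LD3_c60)) = (LP (LK LD1_c2 LD2_c57 LD3_c20)) :=
  Lgr Lrot42 (Lpr_df (K35.f538056 IH) (Lpn (LP (LK LD1_c2 LD2_c57 LD3_c20))))
theorem f204614 : Led Lsl_gt (LP (LK LD1_c2 LD2_c57 LD3_c20)) = (LP (LK LD1_c6 LD2_c2 LD3_c15)) :=
  Lre_g IH (LK LD1_c2 LD2_c57 LD3_c20) (LK LD1_c6 LD2_c2 LD3_c15) Lrfl Lrfl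
theorem f419122 : Led Lsl_ct (LP (LK LD1_c6 LD2_c2 LD3_c15)) = (LP (LK LD1_c11 LD2_c48 LD3_c55)) :=
  Lre_c IH (LK LD1_c6 LD2_c2 LD3_c15) (LK LD1_c11 LD2_c48 LD3_c55) Lrfl Lrfl
theorem f103907 : Led Lsl_ct (LP (LK LD1_c3 LD2_c17 LD3_c44)) = (LP (LK LD1_c6 LD2_c38 LD3_c55)) :=
  Lre_c IH (LK LD1_c3 LD2_c17 LD3_c44) (LK LD1_c6 LD2_c38 LD3_c55) Lrfl Lrfl
theorem f495361 : Led Lsl_ft (LP (LK LD1_c1 LD2_c12 LD3_c34)) = (LP (LK LD1_c2 LD2_c31 LD3_c2)) :=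
  Lre_f IH (LK LD1_c1 LD2_c12 LD3_c34) (LK LD1_c2 LD2_c31 LD3_c2) Lrfl Lrfl
def v1400 : LQ := Led Lsl_et (LP (LK LD1_c1 LD2_c12 LD3_c34))
theorem f495357 : Led Lsl_et (LP (LK LD1_c1 LD2_c12 LD3_c34)) = v1400 :=
  Lrfl
theorem f495359 : Led Lsl_ef (LP (LK LD1_c1 LD2_c12 LD3_c34)) = v1400 :=
  Lgr Lrot88 (Lpr_et (f495357 IH) (Lpn v1400))
theorem f419045 : Led Lsl_bt (LP (LK LD1_c2 LD2_c14 LD3_c18)) = (LP (LK LD1_c4 LD2_c34 LD3_c40)) :=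
  Lre_b IH (LK LD1_c2 LD2_c14 LD3_c18) (LK LD1_c4 LD2_c34 LD3_c40) Lrfl Lrfl
theorem f494279 : Led Lsl_bt (LP (LK LD1_c3 LD2_c10 LD3_c21)) = (LP (LK LD1_c6 LD2_c25 LD3_c23)) :=
  Lre_b IH (LK LD1_c3 LD2_c10 LD3_c21) (LK LD1_c6 LD2_c25 LD3_c23) Lrfl Lrfl
theorem f494281 : Led Lsl_gt (LP (LK LD1_c6 LD2_c25 LD3_c23)) = (LP (LK LD1_c12 LD2_c23 LD3_c38)) :=
  Lre_g IH (LK LD1_c6 LD2_c25 LD3_c23) (LK LD1_c12 LD2_c23 LD3_c38) Lrfl Lrfl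
theorem f567787 : Led Lsl_cf (LP (LK LD1_c9 LD2_c23 LD3_c7)) = (LP (LK LD1_c12 LD2_c23 LD3_c38)) :=
  Lgr Lrot125 (Lpe (K7.f118985 IH) (Lpe (K7.f118990 IH) (Lpr_bt (K7.f156859 IH) (Lpr_gt (K41.f567782 IH) (Lpe (f419045 IH) (Lpr_ct (K38.f176875 IH) (Lpr_gt (K38.f494277 IH) (Lpe (K38.f494280 IH) (Lpr_bt (f494279 IH) (Lpr_gt (f494281 IH) (Lpn (LP (LK LD1_c12 LD2_c23 LD3_c38)))))))))))))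
theorem f567791 : Led Lsl_ct (LP (LK LD1_c9 LD2_c23 LD3_c7)) = (LP (LK LD1_c12 LD2_c23 LD3_c38)) :=
  Lgr Lrot59 (Lpr_cf (f567787 IH) (Lpn (LP (LK LD1_c12 LD2_c23 LD3_c38))))
theorem f118983 : Led Lsl_ft (LP (LK LD1_c4 LD2_c46 LD3_c17)) = (LP (LK LD1_c9 LD2_c23 LD3_c7)) :=
  Lgr Lrot48 (Lpr_ff (K7.f118973 IH) (Lpn (LP (LK LD1_c9 LD2_c23 LD3_c7))))
theorem f113804 : Led Lsl_bt (LP (LK LD1_c9 LD2_c23 LD3_c1)) = (LP (LK LD1_c4 LD2_c46 LD3_c17)) :=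
  Lgr Lrot62 (Lpe (K7.f101892 IH) (Lpe (K4.f99183 IH) (Lpr_af (K4.f113787 IH) (Lpe (K5.f78051 IH) (Lpe (K7.f113803 IH) (Lpn (LP (LK LD1_c4 LD2_c46 LD3_c17))))))))
theorem f118994 : Led Lsl_bf (LP (LK LD1_c4 LD2_c46 LD3_c26)) = (LP (LK LD1_c9 LD2_c23 LD3_c7)) :=
  Lgr Lrot61 (Lpe (K36.f118975 IH) (Lpr_bt (f113804 IH) (Lpr_ft (f118983 IH) (Lpn (LP (LK LD1_c9 LD2_c23 LD3_c7))))))
theorem f567803 : Led Lsl_ct (LP (LK LD1_c9 LD2_c29 LD3_c56)) = (LP (LK LD1_c6 LD2_c25 LD3_c23)) :=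
  Lgr Lrot64 (Lpr_bt (K28.f56963 IH) (Lpe (K28.f56900 IH) (Lpe (K7.f56870 IH) (Lpr_ct (K28.f56944 IH) (Lpe (K28.f56962 IH) (Lpr_cf (K28.f203027 IH) (Lpr_gf (K36.f118980 IH) (Lpr_bf (f118994 IH) (Lpr_ct (f567791 IH) (Lpe (f494281 IH) (Lpn (LP (LK LD1_c6 LD2_c25 LD3_c23)))))))))))))
theorem f78091 : Led Lsl_ct (LP (LK LD1_c2 LD2_c21 LD3_c8)) = (LP (LK LD1_c4 LD2_c46 LD3_c18)) :=
  Lre_c IH (LK LD1_c2 LD2_c21 LD3_c8) (LK LD1_c4 LD2_c46 LD3_c18) Lrfl Lrfl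
theorem f567813 : Led Lsl_gt (LP (LK LD1_c4 LD2_c46 LD3_c18)) = (LP (LK LD1_c6 LD2_c25 LD3_c23)) :=
  Lgr Lrot65 (Lpe (f78091 IH) (Lpr_bt (K5.f78051 IH) (Lpe (K3.f60998 IH) (Lpe (K3.f78064 IH) (Lpr_ct (K3.f69677 IH) (Lpe (K3.f26571 IH) (Lpe (K3.f78065 IH) (Lpe (K32.f203098 IH) (Lpe (K28.f56963 IH) (Lpr_ct (f567803 IH) (Lpn (LP (LK LD1_c6 LD2_c25 LD3_c23)))))))))))))
theorem f156845 : Led Lsl_gt (LP (LK LD1_c9 LD2_c25 LD3_c13)) = (LP (LK LD1_c4 LD2_c46 LD3_c18)) :=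
  Lre_g IH (LK LD1_c9 LD2_c25 LD3_c13) (LK LD1_c4 LD2_c46 LD3_c18) Lrfl Lrfl
theorem f567810 : Led Lsl_at (LP (LK LD1_c12 LD2_c23 LD3_c39)) = (LP (LK LD1_c6 LD2_c25 LD3_c23)) :=
  Lre_a IH (LK LD1_c12 LD2_c23 LD3_c39) (LK LD1_c6 LD2_c25 LD3_c23) Lrfl Lrfl
theorem f567815 : Led Lsl_ft (LP (LK LD1_c9 LD2_c25 LD3_c13)) = (LP (LK LD1_c12 LD2_c23 LD3_c39)) :=
  Lgr Lrot2 (Lpr_gt (f156845 IH) (Lpr_gt (f567813 IH) (Lpe (f567810 IH) (Lpn (LP (LK LD1_c12 LD2_c23 LD3_c39))))))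
theorem f567821 : Led Lsl_ff (LP (LK LD1_c9 LD2_c25 LD3_c13)) = (LP (LK LD1_c12 LD2_c23 LD3_c39)) :=
  Lgr Lrot3 (Lpr_ft (f567815 IH) (Lpn (LP (LK LD1_c12 LD2_c23 LD3_c39))))
theorem f130946 : Led Lsl_ct (LP (LK LD1_c9 LD2_c25 LD3_c13)) = (LP (LK LD1_c9 LD2_c24 LD3_c33)) :=
  Lre_c IH (LK LD1_c9 LD2_c25 LD3_c13) (LK LD1_c9 LD2_c24 LD3_c33) Lrfl Lrfl
theorem f567823 : Led Lsl_ct (LP (LK LD1_c17 LD2_c19 LD3_c10)) = (LP (LK LD1_c12 LD2_c23 LD3_c39)) :=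
  Lgr Lrot40 (Lpe (K28.f158916 IH) (Lpe (f130946 IH) (Lpr_ff (f567821 IH) (Lpn (LP (LK LD1_c12 LD2_c23 LD3_c39))))))
theorem f102266 : Led Lsl_bt (LP (LK LD1_c17 LD2_c19 LD3_c10)) = (LP (LK LD1_c9 LD2_c22 LD3_c43)) :=
  Lre_b IH (LK LD1_c17 LD2_c19 LD3_c10) (LK LD1_c9 LD2_c22 LD3_c43) Lrfl Lrfl
theorem f158918 : Led Lsl_at (LP (LK LD1_c4 LD2_c45 LD3_c61)) = (LP (LK LD1_c9 LD2_c22 LD3_c44)) :=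
  Lgr Lrot100 (Lpr_af (K40.f158907 IH) (Lpn (LP (LK LD1_c9 LD2_c22 LD3_c44))))
theorem f158892 : Led Lsl_ff (LP (LK LD1_c4 LD2_c45 LD3_c61)) = (LP (LK LD1_c9 LD2_c22 LD3_c43)) :=
  Lgr Lrot23 (Lpr_ct (K8.f150424 IH) (Lpr_ft (K8.f158886 IH) (Lpr_ct (K8.f157643 IH) (Lpn (LP (LK LD1_c9 LD2_c22 LD3_c43))))))
theorem f125753 : Led Lsl_gf (LP (LK LD1_c9 LD2_c22 LD3_c44)) = (LP (LK LD1_c4 LD2_c46 LD3_c1)) :=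
  Lgr Lrot47 (Lpr_gt (K8.f76272 IH) (Lpe (K5.f113717 IH) (Lpr_ff (K36.f125743 IH) (Lpn (LP (LK LD1_c4 LD2_c46 LD3_c1))))))
theorem f158921 : Led Lsl_gt (LP (LK LD1_c9 LD2_c22 LD3_c43)) = (LP (LK LD1_c4 LD2_c46 LD3_c1)) :=
  Lgr Lrot5 (Lpe (f158892 IH) (Lpr_at (f158918 IH) (Lpr_gf (f125753 IH) (Lpn (LP (LK LD1_c4 LD2_c46 LD3_c1))))))
theorem f125759 : Led Lsl_gt (LP (LK LD1_c9 LD2_c24 LD3_c30)) = (LP (LK LD1_c12 LD2_c24 LD3_c0)) :=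
  Lgr Lrot5 (Lpr_ft (K5.f125717 IH) (Lpr_at (K5.f125716 IH) (Lpe (K36.f125727 IH) (Lpn (LP (LK LD1_c12 LD2_c24 LD3_c0))))))
theorem f115052 : Led Lsl_ct (LP (LK LD1_c4 LD2_c46 LD3_c17)) = (LP (LK LD1_c9 LD2_c25 LD3_c10)) :=
  Lre_c IH (LK LD1_c4 LD2_c46 LD3_c17) (LK LD1_c9 LD2_c25 LD3_c10) Lrfl Lrfl
theorem f567827 : Led Lsl_gt (LP (LK LD1_c9 LD2_c25 LD3_c10)) = (LP (LK LD1_c12 LD2_c23 LD3_c39)) :=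
  Lgr Lrot65 (Lpe (f115052 IH) (Lpe (K7.f115043 IH) (Lpr_gf (K36.f118967 IH) (Lpe (K36.f78347 IH) (Lpr_ct (K36.f125728 IH) (Lpe (f125759 IH) (Lpe (K5.f125721 IH) (Lpe (f158921 IH) (Lpe (f102266 IH) (Lpr_ct (f567823 IH) (Lpn (LP (LK LD1_c12 LD2_c23 LD3_c39)))))))))))))
theorem f567805 : Led Lsl_at (LP (LK LD1_c6 LD2_c25 LD3_c23)) = (LP (LK LD1_c12 LD2_c23 LD3_c39)) :=
  Lre_a IH (LK LD1_c6 LD2_c25 LD3_c23) (LK LD1_c12 LD2_c23 LD3_c39) Lrfl Lrfl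
theorem f567806 : Led Lsl_cf (LP (LK LD1_c17 LD2_c19 LD3_c10)) = (LP (LK LD1_c12 LD2_c23 LD3_c39)) :=
  Lgr Lrot1 (Lpe (K28.f203063 IH) (Lpr_ct (f567803 IH) (Lpr_at (f567805 IH) (Lpn (LP (LK LD1_c12 LD2_c23 LD3_c39))))))
theorem f26550 : Led Lsl_gt (LP (LK LD1_c11 LD2_c43 LD3_c60)) = (LP (LK LD1_c5 LD2_c59 LD3_c43)) :=
  Lre_g IH (LK LD1_c11 LD2_c43 LD3_c60) (LK LD1_c5 LD2_c59 LD3_c43) Lrfl Lrfl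
theorem f424582 : Led Lsl_gt (LP (LK LD1_c17 LD2_c19 LD3_c10)) = (LP (LK LD1_c11 LD2_c43 LD3_c60)) :=
  Lgr Lrot5 (Lpe (K28.f158910 IH) (Lpr_at (K40.f163229 IH) (Lpe (f26550 IH) (Lpn (LP (LK LD1_c11 LD2_c43 LD3_c60))))))
theorem f203092 : Led Lsl_ff (LP (LK LD1_c9 LD2_c29 LD3_c56)) = (LP (LK LD1_c5 LD2_c59 LD3_c43)) :=
  Lgr Lrot25 (Lpr_bt (K28.f56963 IH) (Lpr_ft (K28.f203090 IH) (Lpr_bt (K7.f26522 IH) (Lpn (LP (LK LD1_c5 LD2_c59 LD3_c43))))))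
theorem f203069 : Led Lsl_at (LP (LK LD1_c9 LD2_c29 LD3_c56)) = (LP (LK LD1_c17 LD2_c19 LD3_c10)) :=
  Lgr Lrot100 (Lpr_af (K28.f203063 IH) (Lpn (LP (LK LD1_c17 LD2_c19 LD3_c10))))
theorem f203190 : Led Lsl_gf (LP (LK LD1_c17 LD2_c19 LD3_c10)) = (LP (LK LD1_c11 LD2_c43 LD3_c59)) :=
  Lgr Lrot76 (Lpe (f203069 IH) (Lpr_ff (f203092 IH) (Lpr_gt (K7.f26532 IH) (Lpn (LP (LK LD1_c11 LD2_c43 LD3_c59))))))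
theorem f424584 : Led Lsl_at (LP (LK LD1_c17 LD2_c21 LD3_c45)) = (LP (LK LD1_c11 LD2_c43 LD3_c60)) :=
  Lgr Lrot26 (Lpe (K28.f156836 IH) (Lpe (f203190 IH) (Lpr_gt (f424582 IH) (Lpn (LP (LK LD1_c11 LD2_c43 LD3_c60))))))
theorem f130913 : Led Lsl_bt (LP (LK LD1_c7 LD2_c24 LD3_c57)) = (LP (LK LD1_c14 LD2_c1 LD3_c36)) :=
  Lre_b IH (LK LD1_c7 LD2_c24 LD3_c57) (LK LD1_c14 LD2_c1 LD3_c36) Lrfl Lrfl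
theorem f130914 : Led Lsl_cf (LP (LK LD1_c17 LD2_c21 LD3_c45)) = (LP (LK LD1_c14 LD2_c1 LD3_c36)) :=
  Lgr Lrot97 (Lpr_bt (K28.f79223 IH) (Lpr_ct (K7.f79937 IH) (Lpr_bt (K7.f79941 IH) (Lpr_ct (K7.f130911 IH) (Lpr_bt (f130913 IH) (Lpn (LP (LK LD1_c14 LD2_c1 LD3_c36))))))))
theorem f424588 : Led Lsl_cf (LP (LK LD1_c17 LD2_c22 LD3_c18)) = (LP (LK LD1_c11 LD2_c43 LD3_c60)) :=
  Lgr Lrot1 (Lpe (K11.f205842 IH) (Lpe (f130914 IH) (Lpr_at (f424584 IH) (Lpn (LP (LK LD1_c11 LD2_c43 LD3_c60))))))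
theorem f161175 : Led Lsl_bt (LP (LK LD1_c17 LD2_c10 LD3_c60)) = (LP (LK LD1_c11 LD2_c33 LD3_c56)) :=
  Lgr Lrot127 (Lpr_bf (K8.f161173 IH) (Lpn (LP (LK LD1_c11 LD2_c33 LD3_c56))))
theorem f557882 : Led Lsl_cf (LP (LK LD1_c17 LD2_c10 LD3_c60)) = (LP (LK LD1_c11 LD2_c27 LD3_c53)) :=
  Lgr Lrot97 (Lpr_bt (f161175 IH) (Lpe (K8.f161163 IH) (Lpe (K32.f161183 IH) (Lpe (K8.f157845 IH) (Lpr_bt (K40.f557878 IH) (Lpn (LP (LK LD1_c11 LD2_c27 LD3_c53))))))))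
theorem f301980 : Led Lsl_gf (LP (LK LD1_c11 LD2_c27 LD3_c53)) = (LP (LK LD1_c12 LD2_c10 LD3_c35)) :=
  Lgr Lrot76 (Lpe (K40.f301975 IH) (Lpr_ff (K40.f301968 IH) (Lpr_gt (K41.f301929 IH) (Lpn (LP (LK LD1_c12 LD2_c10 LD3_c35))))))
theorem f567842 : Led Lsl_df (LP (LK LD1_c9 LD2_c25 LD3_c10)) = (LP (LK LD1_c12 LD2_c10 LD3_c35)) :=
  Lgr Lrot155 (Lpr_gt (f567827 IH) (Lpe (f567806 IH) (Lpr_gt (f424582 IH) (Lpe (f424588 IH) (Lpe (K37.f205846 IH) (Lpe (K7.f150145 IH) (Lpe (K8.f110858 IH) (Lpr_cf (f557882 IH) (Lpr_gf (f301980 IH) (Lpn (LP (LK LD1_c12 LD2_c10 LD3_c35))))))))))))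
theorem f115050 : Led Lsl_ct (LP (LK LD1_c9 LD2_c25 LD3_c10)) = (LP (LK LD1_c4 LD2_c46 LD3_c17)) :=
  Lre_c IH (LK LD1_c9 LD2_c25 LD3_c10) (LK LD1_c4 LD2_c46 LD3_c17) Lrfl Lrfl
theorem f118977 : Led Lsl_gt (LP (LK LD1_c9 LD2_c23 LD3_c1)) = (LP (LK LD1_c4 LD2_c46 LD3_c25)) :=
  Lgr Lrot5 (Lpr_ft (K7.f118964 IH) (Lpr_at (K5.f112455 IH) (Lpe (K11.f78348 IH) (Lpn (LP (LK LD1_c4 LD2_c46 LD3_c25))))))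
def v413 : LQ := Led Lsl_gf (LP (LK LD1_c0 LD2_c37 LD3_c61))
theorem f452715 : Led Lsl_gf (LP (LK LD1_c0 LD2_c37 LD3_c61)) = v413 :=
  Lrfl
def v2950 : LQ := Led Lsl_dt v413
theorem f536276 : Led Lsl_dt v413 = v2950 :=
  Lrfl
theorem f536277 : Led Lsl_df v413 = v2950 :=
  Lgr Lrot38 (Lpr_dt (f536276 IH) (Lpn v2950))
def v1254 : LQ := Led Lsl_ct (LP (LK LD1_c1 LD2_c4 LD3_c17))
theorem f494335 : Led Lsl_ct (LP (LK LD1_c1 LD2_c4 LD3_c17)) = v1254 :=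
  Lrfl
theorem f152003 : Led Lsl_at (LP (LK LD1_c1 LD2_c4 LD3_c17)) = (LP (LK LD1_c0 LD2_c29 LD3_c25)) :=
  Lre_a IH (LK LD1_c1 LD2_c4 LD3_c17) (LK LD1_c0 LD2_c29 LD3_c25) Lrfl Lrfl
theorem f152004 : Led Lsl_ff (LP (LK LD1_c1 LD2_c4 LD3_c17)) = (LP (LK LD1_c0 LD2_c38 LD3_c7)) :=
  Lgr Lrot30 (Lpr_at (f152003 IH) (Lpr_ft (K7.f151999 IH) (Lpr_at (K7.f151811 IH) (Lpn (LP (LK LD1_c0 LD2_c38 LD3_c7))))))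
theorem f494338 : Led Lsl_ff K35.v414 = v1254 :=
  Lgr Lrot23 (Lpe (K35.f452719 IH) (Lpe (f152004 IH) (Lpr_ct (f494335 IH) (Lpn v1254))))
theorem f452717 : Led Lsl_af (LP (LK LD1_c0 LD2_c37 LD3_c61)) = K35.v414 :=
  Lgr Lrot0 (Lpr_at (K35.f452716 IH) (Lpn K35.v414))
theorem f494341 : Led Lsl_gf v413 = v1254 :=
  Lgr Lrot47 (Lpe (f452715 IH) (Lpr_af (f452717 IH) (Lpr_ff (f494338 IH) (Lpn v1254))))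
theorem f494337 : Led Lsl_cf (LP (LK LD1_c1 LD2_c4 LD3_c17)) = v1254 :=
  Lgr Lrot11 (Lpr_ct (f494335 IH) (Lpn v1254))
theorem f536278 : Led Lsl_gf K35.v935 = v2950 :=
  Lgr Lrot143 (Lpe (K35.f490632 IH) (Lpe (K36.f448920 IH) (Lpe (K36.f26548 IH) (Lpe (K7.f26481 IH) (Lpe (K8.f26551 IH) (Lpr_gf (K8.f163579 IH) (Lpr_cf (f494337 IH) (Lpe (f494341 IH) (Lpr_dt (f536276 IH) (Lpn v2950))))))))))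
theorem f536755 : v2950 = (LP (LK LD1_c0 LD2_c29 LD3_c16)) :=
  Lefun (Lecon (f536278 IH) (K35.f536674 IH)) (Lfl_gt (K9.f22427 IH))
theorem f536880 : v413 = (LP (LK LD1_c1 LD2_c4 LD3_c5)) :=
  Lefun (Lecon (Lfl_df (f536277 IH)) (f536755 IH)) (K9.f26631 IH)
theorem f554045 : Led Lsl_bt (LP (LK LD1_c7 LD2_c14 LD3_c28)) = (LP (LK LD1_c5 LD2_c50 LD3_c48)) :=
  Lgr Lrot127 (Lpr_bf (K39.f554038 IH) (Lpn (LP (LK LD1_c5 LD2_c50 LD3_c48))))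
theorem f567848 : Led Lsl_ct (LP (LK LD1_c9 LD2_c25 LD3_c30)) = (LP (LK LD1_c7 LD2_c14 LD3_c28)) :=
  Lgr Lrot191 (Lpe (K11.f78426 IH) (Lpe (f118977 IH) (Lpr_bf (K7.f115043 IH) (Lpe (f115050 IH) (Lpr_df (f567842 IH) (Lpe (K41.f301929 IH) (Lpe (K40.f301924 IH) (Lpe (K18.f301921 IH) (Lpr_df (K41.f301910 IH) (Lpe (K18.f176986 IH) (Lpe (K36.f225440 IH) (Lpr_cf (K36.f495800 IH) (Lpqs (K36.f536654 IH) (Lpq (K36.f536715 IH) (Lpr_df (K36.f448995 IH) (Lpqs (K35.f536782 IH) (Lpr_gf (f452715 IH) (Lpqs (f536880 IH) (Lpe (K12.f210942 IH) (Lpe (K36.f36447 IH) (Lpr_df (K36.f227404 IH) (Lpe (K36.f255485 IH) (Lpe (f554045 IH) (Lpn (LP (LK LD1_c7 LD2_c14 LD3_c28))))))))))))))))))))))))))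
theorem f544066 : Led Lsl_dt (LP (LK LD1_c16 LD2_c24 LD3_c33)) = (LP (LK LD1_c9 LD2_c25 LD3_c29)) :=
  Lgr Lrot42 (Lpr_df (K37.f544062 IH) (Lpn (LP (LK LD1_c9 LD2_c25 LD3_c29))))
theorem f427410 : Led Lsl_gf (LP (LK LD1_c5 LD2_c47 LD3_c22)) = (LP (LK LD1_c6 LD2_c13 LD3_c42)) :=
  Lgr Lrot144 (Lpe (K40.f157849 IH) (Lpr_gt (K40.f427408 IH) (Lpr_dt (K6.f38519 IH) (Lpe (K6.f38517 IH) (Lpe (K6.f38548 IH) (Lpr_gf (K6.f137623 IH) (Lpe (K5.f80447 IH) (Lpe (K5.f80681 IH) (Lpr_cf (K36.f420636 IH) (Lpn (LP (LK LD1_c6 LD2_c13 LD3_c42))))))))))))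
theorem f540791 : Led Lsl_ct (LP (LK LD1_c5 LD2_c47 LD3_c22)) = (LP (LK LD1_c4 LD2_c24 LD3_c18)) :=
  Lgr Lrot152 (Lpr_gf (f427410 IH) (Lpr_df (K36.f420384 IH) (Lpr_gt (K39.f160715 IH) (Lpr_ct (K6.f137954 IH) (Lpe (K36.f138646 IH) (Lpr_ct (K36.f36032 IH) (Lpr_df (K36.f137916 IH) (Lpe (K8.f133013 IH) (Lpr_gf (K36.f540783 IH) (Lpn (LP (LK LD1_c4 LD2_c24 LD3_c18))))))))))))
theorem f567854 : Led Lsl_ft (LP (LK LD1_c7 LD2_c57 LD3_c16)) = (LP (LK LD1_c7 LD2_c8 LD3_c14)) :=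
  Lgr Lrot142 (Lpr_dt (K40.f157837 IH) (Lpr_ct (f540791 IH) (Lpr_dt (K36.f202813 IH) (Lpr_ct (K37.f540675 IH) (Lpr_dt (f544066 IH) (Lpr_ct (K36.f78396 IH) (Lpr_dt (K11.f78426 IH) (Lpr_ct (f567848 IH) (Lpr_af (K36.f439522 IH) (Lpn (LP (LK LD1_c7 LD2_c8 LD3_c14))))))))))))
theorem f567864 : Led Lsl_ff (LP (LK LD1_c7 LD2_c57 LD3_c16)) = (LP (LK LD1_c7 LD2_c8 LD3_c14)) :=
  Lgr Lrot3 (Lpr_ft (f567854 IH) (Lpn (LP (LK LD1_c7 LD2_c8 LD3_c14))))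
theorem f157855 : Led Lsl_et (LP (LK LD1_c7 LD2_c57 LD3_c16)) = (LP (LK LD1_c15 LD2_c0 LD3_c4)) :=
  Lre_e IH (LK LD1_c7 LD2_c57 LD3_c16) (LK LD1_c15 LD2_c0 LD3_c4) Lrfl Lrfl
theorem f92332 : Led Lsl_ft (LP (LK LD1_c7 LD2_c19 LD3_c3)) = (LP (LK LD1_c3 LD2_c39 LD3_c24)) :=
  Lre_f IH (LK LD1_c7 LD2_c19 LD3_c3) (LK LD1_c3 LD2_c39 LD3_c24) Lrfl Lrfl
theorem f121827 : Led Lsl_et (LP (LK LD1_c13 LD2_c50 LD3_c38)) = (LP (LK LD1_c7 LD2_c19 LD3_c3)) :=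
  Lre_e IH (LK LD1_c13 LD2_c50 LD3_c38) (LK LD1_c7 LD2_c19 LD3_c3) Lrfl Lrfl
theorem f567868 : Led Lsl_ft (LP (LK LD1_c15 LD2_c0 LD3_c4)) = (LP (LK LD1_c13 LD2_c50 LD3_c38)) :=
  Lgr Lrot86 (Lpe (f157855 IH) (Lpr_ff (f567864 IH) (Lpe (K36.f98043 IH) (Lpe (f92332 IH) (Lpe (f121827 IH) (Lpn (LP (LK LD1_c13 LD2_c50 LD3_c38))))))))
theorem f207686 : Led Lsl_bt (LP (LK LD1_c7 LD2_c57 LD3_c18)) = (LP (LK LD1_c15 LD2_c0 LD3_c4)) :=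
  Lre_b IH (LK LD1_c7 LD2_c57 LD3_c18) (LK LD1_c15 LD2_c0 LD3_c4) Lrfl Lrfl
theorem f207757 : Led Lsl_ft (LP (LK LD1_c15 LD2_c0 LD3_c7)) = (LP (LK LD1_c7 LD2_c57 LD3_c18)) :=
  Lre_f IH (LK LD1_c15 LD2_c0 LD3_c7) (LK LD1_c7 LD2_c57 LD3_c18) Lrfl Lrfl
theorem f567870 : Led Lsl_bf (LP (LK LD1_c15 LD2_c0 LD3_c7)) = (LP (LK LD1_c13 LD2_c50 LD3_c38)) :=
  Lgr Lrot61 (Lpr_ft (f207757 IH) (Lpr_bt (f207686 IH) (Lpr_ft (f567868 IH) (Lpn (LP (LK LD1_c13 LD2_c50 LD3_c38))))))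
theorem f121835 : Led Lsl_et (LP (LK LD1_c7 LD2_c19 LD3_c3)) = (LP (LK LD1_c13 LD2_c50 LD3_c38)) :=
  Lre_e IH (LK LD1_c7 LD2_c19 LD3_c3) (LK LD1_c13 LD2_c50 LD3_c38) Lrfl Lrfl
theorem f439470 : Led Lsl_bt (LP (LK LD1_c13 LD2_c50 LD3_c31)) = (LP (LK LD1_c7 LD2_c19 LD3_c3)) :=
  Lre_b IH (LK LD1_c13 LD2_c50 LD3_c31) (LK LD1_c7 LD2_c19 LD3_c3) Lrfl Lrfl
theorem f567884 : Led Lsl_et (LP (LK LD1_c15 LD2_c0 LD3_c7)) = (LP (LK LD1_c13 LD2_c50 LD3_c31)) :=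
  Lgr Lrot74 (Lpr_bf (f567870 IH) (Lpe (f121835 IH) (Lpe (f439470 IH) (Lpn (LP (LK LD1_c13 LD2_c50 LD3_c31))))))
theorem f567890 : Led Lsl_ef (LP (LK LD1_c15 LD2_c0 LD3_c7)) = (LP (LK LD1_c13 LD2_c50 LD3_c31)) :=
  Lgr Lrot88 (Lpr_et (f567884 IH) (Lpn (LP (LK LD1_c13 LD2_c50 LD3_c31))))
theorem f207728 : Led Lsl_ft (LP (LK LD1_c3 LD2_c57 LD3_c59)) = (LP (LK LD1_c4 LD2_c26 LD3_c36)) :=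
  Lgr Lrot4 (Lpe (K24.f40666 IH) (Lpr_ff (K24.f207726 IH) (Lpe (K8.f101684 IH) (Lpn (LP (LK LD1_c4 LD2_c26 LD3_c36))))))
theorem f94563 : Led Lsl_ft (LP (LK LD1_c7 LD2_c18 LD3_c60)) = (LP (LK LD1_c13 LD2_c50 LD3_c31)) :=
  Lre_f IH (LK LD1_c7 LD2_c18 LD3_c60) (LK LD1_c13 LD2_c50 LD3_c31) Lrfl Lrfl
theorem f567896 : Led Lsl_et (LP (LK LD1_c4 LD2_c26 LD3_c36)) = (LP (LK LD1_c7 LD2_c18 LD3_c60)) :=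
  Lgr Lrot69 (Lpe (f207728 IH) (Lpe (K24.f157851 IH) (Lpe (f207757 IH) (Lpr_ef (f567890 IH) (Lpe (f94563 IH) (Lpn (LP (LK LD1_c7 LD2_c18 LD3_c60))))))))
theorem f94551 : Led Lsl_ct (LP (LK LD1_c7 LD2_c18 LD3_c60)) = (LP (LK LD1_c13 LD2_c50 LD3_c30)) :=
  Lre_c IH (LK LD1_c7 LD2_c18 LD3_c60) (LK LD1_c13 LD2_c50 LD3_c30) Lrfl Lrfl
theorem f567900 : Led Lsl_ef (LP (LK LD1_c8 LD2_c50 LD3_c45)) = (LP (LK LD1_c13 LD2_c50 LD3_c30)) :=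
  Lgr Lrot28 (Lpr_ct (K8.f80130 IH) (Lpr_et (f567896 IH) (Lpr_ct (f94551 IH) (Lpn (LP (LK LD1_c13 LD2_c50 LD3_c30))))))
theorem f567908 : Led Lsl_et (LP (LK LD1_c8 LD2_c50 LD3_c45)) = (LP (LK LD1_c13 LD2_c50 LD3_c30)) :=
  Lgr Lrot87 (Lpr_ef (f567900 IH) (Lpn (LP (LK LD1_c13 LD2_c50 LD3_c30))))
theorem f149271 : Led Lsl_et (LP (LK LD1_c12 LD2_c31 LD3_c40)) = (LP (LK LD1_c6 LD2_c31 LD3_c55)) :=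
  Lre_e IH (LK LD1_c12 LD2_c31 LD3_c40) (LK LD1_c6 LD2_c31 LD3_c55) Lrfl Lrfl
theorem f567910 : Led Lsl_af (LP (LK LD1_c12 LD2_c31 LD3_c40)) = (LP (LK LD1_c13 LD2_c50 LD3_c30)) :=
  Lgr Lrot50 (Lpr_et (f149271 IH) (Lpe (K28.f207811 IH) (Lpr_et (f567908 IH) (Lpn (LP (LK LD1_c13 LD2_c50 LD3_c30))))))
theorem f156732 : Led Lsl_et (LP (LK LD1_c3 LD2_c57 LD3_c58)) = (LP (LK LD1_c7 LD2_c57 LD3_c15)) :=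
  Lre_e IH (LK LD1_c3 LD2_c57 LD3_c58) (LK LD1_c7 LD2_c57 LD3_c15) Lrfl Lrfl
theorem f156733 : Led Lsl_ct (LP (LK LD1_c7 LD2_c57 LD3_c15)) = (LP (LK LD1_c12 LD2_c31 LD3_c40)) :=
  Lgr Lrot15 (Lpe (f156732 IH) (Lpr_cf (K7.f156728 IH) (Lpe (f149271 IH) (Lpn (LP (LK LD1_c12 LD2_c31 LD3_c40))))))
theorem f156742 : Led Lsl_cf (LP (LK LD1_c7 LD2_c57 LD3_c15)) = (LP (LK LD1_c12 LD2_c31 LD3_c40)) :=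
  Lgr Lrot11 (Lpr_ct (f156733 IH) (Lpn (LP (LK LD1_c12 LD2_c31 LD3_c40))))
theorem f567912 : Led Lsl_at (LP (LK LD1_c7 LD2_c57 LD3_c15)) = (LP (LK LD1_c7 LD2_c18 LD3_c60)) :=
  Lgr Lrot107 (Lpr_cf (f156742 IH) (Lpr_af (f567910 IH) (Lpe (f94551 IH) (Lpn (LP (LK LD1_c7 LD2_c18 LD3_c60))))))
theorem f439465 : Led Lsl_bt (LP (LK LD1_c7 LD2_c18 LD3_c60)) = (LP (LK LD1_c3 LD2_c39 LD3_c24)) :=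
  Lre_b IH (LK LD1_c7 LD2_c18 LD3_c60) (LK LD1_c3 LD2_c39 LD3_c24) Lrfl Lrfl
theorem f567914 : Led Lsl_bf (LP (LK LD1_c7 LD2_c57 LD3_c15)) = (LP (LK LD1_c9 LD2_c19 LD3_c43)) :=
  Lgr Lrot81 (Lpr_at (f567912 IH) (Lpr_bt (f439465 IH) (Lpe (K35.f439460 IH) (Lpr_bt (K39.f97261 IH) (Lpr_at (K40.f554069 IH) (Lpn (LP (LK LD1_c9 LD2_c19 LD3_c43))))))))
theorem f156741 : Led Lsl_bt (LP (LK LD1_c12 LD2_c31 LD3_c40)) = (LP (LK LD1_c6 LD2_c31 LD3_c57)) :=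
  Lre_b IH (LK LD1_c12 LD2_c31 LD3_c40) (LK LD1_c6 LD2_c31 LD3_c57) Lrfl Lrfl
theorem f160762 : Led Lsl_et (LP (LK LD1_c3 LD2_c14 LD3_c8)) = (LP (LK LD1_c6 LD2_c31 LD3_c57)) :=
  Lre_e IH (LK LD1_c3 LD2_c14 LD3_c8) (LK LD1_c6 LD2_c31 LD3_c57) Lrfl Lrfl
theorem f440036 : Led Lsl_ct (LP (LK LD1_c6 LD2_c31 LD3_c57)) = (LP (LK LD1_c3 LD2_c40 LD3_c53)) :=
  Lgr Lrot15 (Lpe (f160762 IH) (Lpr_cf (K6.f129267 IH) (Lpe (K4.f122457 IH) (Lpn (LP (LK LD1_c3 LD2_c40 LD3_c53))))))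
theorem f122453 : Led Lsl_bt (LP (LK LD1_c3 LD2_c40 LD3_c53)) = (LP (LK LD1_c7 LD2_c21 LD3_c51)) :=
  Lre_b IH (LK LD1_c3 LD2_c40 LD3_c53) (LK LD1_c7 LD2_c21 LD3_c51) Lrfl Lrfl
theorem f567924 : Led Lsl_ct (LP (LK LD1_c7 LD2_c21 LD3_c51)) = (LP (LK LD1_c9 LD2_c19 LD3_c43)) :=
  Lgr Lrot83 (Lpe (f122453 IH) (Lpe (f440036 IH) (Lpe (f156741 IH) (Lpe (f156733 IH) (Lpr_bf (f567914 IH) (Lpn (LP (LK LD1_c9 LD2_c19 LD3_c43))))))))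
theorem f439099 : Led Lsl_ft (LP (LK LD1_c13 LD2_c55 LD3_c23)) = (LP (LK LD1_c7 LD2_c21 LD3_c51)) :=
  Lre_f IH (LK LD1_c13 LD2_c55 LD3_c23) (LK LD1_c7 LD2_c21 LD3_c51) Lrfl Lrfl
theorem f567931 : Led Lsl_cf (LP (LK LD1_c13 LD2_c55 LD3_c23)) = (LP (LK LD1_c17 LD2_c15 LD3_c25)) :=
  Lgr Lrot108 (Lpr_ft (f439099 IH) (Lpr_ct (f567924 IH) (Lpr_ft (K40.f210892 IH) (Lpn (LP (LK LD1_c17 LD2_c15 LD3_c25))))))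
theorem f210889 : Led Lsl_ft (LP (LK LD1_c17 LD2_c15 LD3_c25)) = (LP (LK LD1_c9 LD2_c19 LD3_c43)) :=
  Lre_f IH (LK LD1_c17 LD2_c15 LD3_c25) (LK LD1_c9 LD2_c19 LD3_c43) Lrfl Lrfl
theorem f210890 : Led Lsl_dt (LP (LK LD1_c12 LD2_c8 LD3_c18)) = (LP (LK LD1_c17 LD2_c15 LD3_c25)) :=
  Lgr Lrot60 (Lpe (K37.f210888 IH) (Lpr_df (K39.f210886 IH) (Lpe (f210889 IH) (Lpn (LP (LK LD1_c17 LD2_c15 LD3_c25))))))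
theorem f210903 : Led Lsl_et (LP (LK LD1_c12 LD2_c8 LD3_c18)) = (LP (LK LD1_c6 LD2_c14 LD3_c58)) :=
  Lre_e IH (LK LD1_c12 LD2_c8 LD3_c18) (LK LD1_c6 LD2_c14 LD3_c58) Lrfl Lrfl
theorem f543556 : Led Lsl_cf (LP (LK LD1_c12 LD2_c8 LD3_c18)) = (LP (LK LD1_c14 LD2_c5 LD3_c12)) :=
  Lgr Lrot39 (Lpr_et (f210903 IH) (Lpr_ct (K11.f75744 IH) (Lpr_et (K37.f543554 IH) (Lpn (LP (LK LD1_c14 LD2_c5 LD3_c12))))))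
theorem f469316 : Led Lsl_dt (LP (LK LD1_c23 LD2_c38 LD3_c23)) = (LP (LK LD1_c14 LD2_c5 LD3_c12)) :=
  Lre_d IH (LK LD1_c23 LD2_c38 LD3_c23) (LK LD1_c14 LD2_c5 LD3_c12) Lrfl Lrfl
theorem f208994 : Led Lsl_dt (LP (LK LD1_c13 LD2_c55 LD3_c23)) = (LP (LK LD1_c23 LD2_c26 LD3_c7)) :=
  Lre_d IH (LK LD1_c13 LD2_c55 LD3_c23) (LK LD1_c23 LD2_c26 LD3_c7) Lrfl Lrfl
theorem f560464 : Led Lsl_ct (LP (LK LD1_c23 LD2_c26 LD3_c7)) = (LP (LK LD1_c23 LD2_c38 LD3_c42)) :=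
  Lgr Lrot59 (Lpr_cf (K39.f560460 IH) (Lpn (LP (LK LD1_c23 LD2_c38 LD3_c42))))
theorem f439639 : Led Lsl_dt (LP (LK LD1_c23 LD2_c38 LD3_c42)) = (LP (LK LD1_c14 LD2_c5 LD3_c24)) :=
  Lre_d IH (LK LD1_c23 LD2_c38 LD3_c42) (LK LD1_c14 LD2_c5 LD3_c24) Lrfl Lrfl
theorem f439574 : Led Lsl_dt (LP (LK LD1_c7 LD2_c27 LD3_c49)) = (LP (LK LD1_c3 LD2_c43 LD3_c37)) :=
  Lre_d IH (LK LD1_c7 LD2_c27 LD3_c49) (LK LD1_c3 LD2_c43 LD3_c37) Lrfl Lrfl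
theorem f554231 : Led Lsl_dt (LP (LK LD1_c7 LD2_c21 LD3_c51)) = (LP (LK LD1_c13 LD2_c55 LD3_c22)) :=
  Lre_d IH (LK LD1_c7 LD2_c21 LD3_c51) (LK LD1_c13 LD2_c55 LD3_c22) Lrfl Lrfl
theorem f560444 : Led Lsl_af (LP (LK LD1_c7 LD2_c21 LD3_c51)) = (LP (LK LD1_c12 LD2_c8 LD3_c31)) :=
  Lgr Lrot117 (Lpr_dt (f554231 IH) (Lpr_at (K39.f560433 IH) (Lpr_dt (K39.f554059 IH) (Lpn (LP (LK LD1_c12 LD2_c8 LD3_c31))))))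
theorem f59099 : Led Lsl_dt (LP (LK LD1_c1 LD2_c28 LD3_c15)) = (LP (LK LD1_c3 LD2_c4 LD3_c32)) :=
  Lre_d IH (LK LD1_c1 LD2_c28 LD3_c15) (LK LD1_c3 LD2_c4 LD3_c32) Lrfl Lrfl
theorem f210881 : Led Lsl_dt (LP (LK LD1_c6 LD2_c15 LD3_c7)) = (LP (LK LD1_c9 LD2_c19 LD3_c43)) :=
  Lgr Lrot77 (Lpe (K39.f205235 IH) (Lpe (f59099 IH) (Lpr_ef (K37.f210879 IH) (Lpe (K37.f59071 IH) (Lpe (K39.f205314 IH) (Lpn (LP (LK LD1_c9 LD2_c19 LD3_c43))))))))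
theorem f543605 : Led Lsl_at (LP (LK LD1_c9 LD2_c19 LD3_c43)) = (LP (LK LD1_c7 LD2_c17 LD3_c19)) :=
  Lgr Lrot51 (Lpe (f210881 IH) (Lpr_af (K37.f543603 IH) (Lpe (K39.f439566 IH) (Lpn (LP (LK LD1_c7 LD2_c17 LD3_c19))))))
theorem f567927 : Led Lsl_cf (LP (LK LD1_c12 LD2_c8 LD3_c31)) = (LP (LK LD1_c7 LD2_c17 LD3_c19)) :=
  Lgr Lrot1 (Lpe (f560444 IH) (Lpr_ct (f567924 IH) (Lpr_at (f543605 IH) (Lpn (LP (LK LD1_c7 LD2_c17 LD3_c19))))))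
theorem f559040 : Led Lsl_dt (LP (LK LD1_c12 LD2_c8 LD3_c31)) = (LP (LK LD1_c21 LD2_c14 LD3_c36)) :=
  Lre_d IH (LK LD1_c12 LD2_c8 LD3_c31) (LK LD1_c21 LD2_c14 LD3_c36) Lrfl Lrfl
theorem f559042 : Led Lsl_ct (LP (LK LD1_c21 LD2_c14 LD3_c36)) = (LP (LK LD1_c29 LD2_c55 LD3_c22)) :=
  Lre_c IH (LK LD1_c21 LD2_c14 LD3_c36) (LK LD1_c29 LD2_c55 LD3_c22) Lrfl Lrfl
theorem f542007 : Led Lsl_dt (LP (LK LD1_c23 LD2_c29 LD3_c49)) = (LP (LK LD1_c13 LD2_c57 LD3_c53)) :=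
  Lre_d IH (LK LD1_c23 LD2_c29 LD3_c49) (LK LD1_c13 LD2_c57 LD3_c53) Lrfl Lrfl
theorem f542010 : Led Lsl_et (LP (LK LD1_c31 LD2_c5 LD3_c21)) = (LP (LK LD1_c23 LD2_c29 LD3_c49)) :=
  Lre_e IH (LK LD1_c31 LD2_c5 LD3_c21) (LK LD1_c23 LD2_c29 LD3_c49) Lrfl Lrfl
theorem f205642 : Led Lsl_et (LP (LK LD1_c21 LD2_c14 LD3_c35)) = (LP (LK LD1_c29 LD2_c55 LD3_c22)) :=
  Lre_e IH (LK LD1_c21 LD2_c14 LD3_c35) (LK LD1_c29 LD2_c55 LD3_c22) Lrfl Lrfl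
theorem f542011 : Led Lsl_df (LP (LK LD1_c31 LD2_c5 LD3_c21)) = (LP (LK LD1_c29 LD2_c55 LD3_c22)) :=
  Lgr Lrot70 (Lpr_et (f542010 IH) (Lpr_dt (f542007 IH) (Lpr_et (K36.f542005 IH) (Lpe (K39.f205637 IH) (Lpr_et (f205642 IH) (Lpn (LP (LK LD1_c29 LD2_c55 LD3_c22))))))))
theorem f567960 : Led Lsl_ct (LP (LK LD1_c31 LD2_c5 LD3_c21)) = (LP (LK LD1_c23 LD2_c38 LD3_c23)) :=
  Lgr Lrot176 (Lpr_df (f542011 IH) (Lpe (f559042 IH) (Lpe (f559040 IH) (Lpr_cf (f567927 IH) (Lpe (K39.f439638 IH) (Lpr_cf (K34.f439220 IH) (Lpe (f439574 IH) (Lpe (K39.f439576 IH) (Lpe (f439639 IH) (Lpe (f560464 IH) (Lpe (f208994 IH) (Lpr_cf (f567931 IH) (Lpe (f210890 IH) (Lpr_cf (f543556 IH) (Lpe (f469316 IH) (Lpn (LP (LK LD1_c23 LD2_c38 LD3_c23))))))))))))))))))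
theorem f567962 : Led Lsl_ft (LP (LK LD1_c12 LD2_c8 LD3_c31)) = (LP (LK LD1_c21 LD2_c14 LD3_c50)) :=
  Lre_f IH (LK LD1_c12 LD2_c8 LD3_c31) (LK LD1_c21 LD2_c14 LD3_c50) Lrfl Lrfl
theorem f567963 : Led Lsl_af (LP (LK LD1_c13 LD2_c55 LD3_c23)) = (LP (LK LD1_c21 LD2_c14 LD3_c50)) :=
  Lgr Lrot109 (Lpr_cf (f567931 IH) (Lpe (f210890 IH) (Lpr_cf (f543556 IH) (Lpe (f469316 IH) (Lpe (f567960 IH) (Lpr_df (f542011 IH) (Lpe (f559042 IH) (Lpe (f559040 IH) (Lpr_ft (f567962 IH) (Lpn (LP (LK LD1_c21 LD2_c14 LD3_c50))))))))))))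
theorem f567968 : Led Lsl_at (LP (LK LD1_c7 LD2_c21 LD3_c51)) = (LP (LK LD1_c12 LD2_c8 LD3_c31)) :=
  Lgr Lrot66 (Lpe (f439099 IH) (Lpr_af (f567963 IH) (Lpe (f567962 IH) (Lpn (LP (LK LD1_c12 LD2_c8 LD3_c31))))))
theorem f255502 : Led Lsl_et (LP (LK LD1_c12 LD2_c8 LD3_c31)) = (LP (LK LD1_c6 LD2_c15 LD3_c6)) :=
  Lre_e IH (LK LD1_c12 LD2_c8 LD3_c31) (LK LD1_c6 LD2_c15 LD3_c6) Lrfl Lrfl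
theorem f567979 : Led Lsl_af (LP (LK LD1_c3 LD2_c40 LD3_c49)) = (LP (LK LD1_c6 LD2_c15 LD3_c6)) :=
  Lgr Lrot50 (Lpr_et (K39.f159762 IH) (Lpr_at (f567968 IH) (Lpr_et (f255502 IH) (Lpn (LP (LK LD1_c6 LD2_c15 LD3_c6))))))
theorem f131997 : Led Lsl_bt (LP (LK LD1_c1 LD2_c47 LD3_c23)) = (LP (LK LD1_c3 LD2_c40 LD3_c49)) :=
  Lre_b IH (LK LD1_c1 LD2_c47 LD3_c23) (LK LD1_c3 LD2_c40 LD3_c49) Lrfl Lrfl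
theorem f131999 : Led Lsl_ft (LP (LK LD1_c3 LD2_c40 LD3_c49)) = (LP (LK LD1_c3 LD2_c43 LD3_c36)) :=
  Lgr Lrot75 (Lpe (f131997 IH) (Lpr_ff (K5.f131993 IH) (Lpe (K24.f131998 IH) (Lpn (LP (LK LD1_c3 LD2_c43 LD3_c36))))))
theorem f209168 : Led Lsl_at (LP (LK LD1_c3 LD2_c43 LD3_c36)) = (LP (LK LD1_c7 LD2_c27 LD3_c44)) :=
  Lre_a IH (LK LD1_c3 LD2_c43 LD3_c36) (LK LD1_c7 LD2_c27 LD3_c44) Lrfl Lrfl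
theorem f567997 : Led Lsl_ft (LP (LK LD1_c7 LD2_c27 LD3_c44)) = (LP (LK LD1_c6 LD2_c15 LD3_c6)) :=
  Lgr Lrot101 (Lpe (f209168 IH) (Lpe (f131999 IH) (Lpr_af (f567979 IH) (Lpn (LP (LK LD1_c6 LD2_c15 LD3_c6))))))
theorem f567999 : Led Lsl_bf (LP (LK LD1_c7 LD2_c28 LD3_c10)) = (LP (LK LD1_c6 LD2_c15 LD3_c6)) :=
  Lgr Lrot61 (Lpe (K7.f122178 IH) (Lpr_bt (K24.f209108 IH) (Lpr_ft (f567997 IH) (Lpn (LP (LK LD1_c6 LD2_c15 LD3_c6))))))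
theorem f144291 : Led Lsl_gt (LP (LK LD1_c7 LD2_c28 LD3_c10)) = (LP (LK LD1_c7 LD2_c21 LD3_c57)) :=
  Lgr Lrot5 (Lpe (K7.f122178 IH) (Lpr_at (K7.f122176 IH) (Lpr_gf (K34.f144289 IH) (Lpn (LP (LK LD1_c7 LD2_c21 LD3_c57))))))
theorem f124598 : Led Lsl_cf (LP (LK LD1_c1 LD2_c48 LD3_c0)) = (LP (LK LD1_c3 LD2_c13 LD3_c34)) :=
  Lgr Lrot11 (Lpr_ct (K5.f124592 IH) (Lpn (LP (LK LD1_c3 LD2_c13 LD3_c34))))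
theorem f142463 : Led Lsl_ct (LP (LK LD1_c3 LD2_c40 LD3_c52)) = (LP (LK LD1_c6 LD2_c30 LD3_c48)) :=
  Lgr Lrot133 (Lpr_df (K6.f142359 IH) (Lpe (K5.f132147 IH) (Lpr_at (K5.f132032 IH) (Lpe (K4.f120964 IH) (Lpr_df (K4.f90286 IH) (Lpe (K2.f12090 IH) (Lpr_df (K4.f114995 IH) (Lpr_cf (f124598 IH) (Lpe (K8.f124609 IH) (Lpn (LP (LK LD1_c6 LD2_c30 LD3_c48))))))))))))
theorem f144378 : Led Lsl_bt (LP (LK LD1_c3 LD2_c41 LD3_c20)) = (LP (LK LD1_c1 LD2_c47 LD3_c36)) :=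
  Lre_b IH (LK LD1_c3 LD2_c41 LD3_c20) (LK LD1_c1 LD2_c47 LD3_c36) Lrfl Lrfl
theorem f527592 : Led Lsl_bt (LP (LK LD1_c1 LD2_c49 LD3_c4)) = K36.v2579 :=
  Lgr Lrot35 (Lpe (K6.f146890 IH) (Lpe (f144378 IH) (Lpr_ff (K36.f527591 IH) (Lpn K36.v2579))))
theorem f506309 : Led Lsl_gt (LP (LK LD1_c3 LD2_c10 LD3_c6)) = (LP (LK LD1_c6 LD2_c24 LD3_c60)) :=
  Lre_g IH (LK LD1_c3 LD2_c10 LD3_c6) (LK LD1_c6 LD2_c24 LD3_c60) Lrfl Lrfl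
theorem f568003 : Led Lsl_ct (LP (LK LD1_c6 LD2_c24 LD3_c60)) = (LP (LK LD1_c4 LD2_c42 LD3_c43)) :=
  Lgr Lrot91 (Lpe (f506309 IH) (Lpq (K36.f542015 IH) (Lpe (f527592 IH) (Lpe (K4.f116074 IH) (Lpr_gf (K6.f124614 IH) (Lpe (f142463 IH) (Lpr_bt (K34.f142453 IH) (Lpe (f144291 IH) (Lpr_bf (f567999 IH) (Lpe (K14.f255499 IH) (Lpr_gf (K39.f255509 IH) (Lpn (LP (LK LD1_c4 LD2_c42 LD3_c43))))))))))))))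
theorem f568023 : Led Lsl_bt (LP (LK LD1_c6 LD2_c24 LD3_c60)) = (LP (LK LD1_c12 LD2_c23 LD3_c0)) :=
  Lre_b IH (LK LD1_c6 LD2_c24 LD3_c60) (LK LD1_c12 LD2_c23 LD3_c0) Lrfl Lrfl
theorem f552156 : Led Lsl_cf (LP (LK LD1_c2 LD2_c18 LD3_c49)) = (LP (LK LD1_c3 LD2_c43 LD3_c36)) :=
  Lgr Lrot14 (Lpe (K14.f56617 IH) (Lpr_gf (K14.f227757 IH) (Lpe (K32.f177130 IH) (Lpe (K36.f177131 IH) (Lpr_ct (K39.f552150 IH) (Lpe (K39.f159448 IH) (Lpr_dt (K39.f439627 IH) (Lpr_gt (K24.f148296 IH) (Lpr_dt (K39.f208936 IH) (Lpn (LP (LK LD1_c3 LD2_c43 LD3_c36))))))))))))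
theorem f59386 : Led Lsl_dt (LP (LK LD1_c2 LD2_c9 LD3_c41)) = (LP (LK LD1_c1 LD2_c1 LD3_c57)) :=
  Lre_d IH (LK LD1_c2 LD2_c9 LD3_c41) (LK LD1_c1 LD2_c1 LD3_c57) Lrfl Lrfl
theorem f159662 : Led Lsl_dt (LP (LK LD1_c3 LD2_c43 LD3_c36)) = (LP (LK LD1_c1 LD2_c48 LD3_c52)) :=
  Lre_d IH (LK LD1_c3 LD2_c43 LD3_c36) (LK LD1_c1 LD2_c48 LD3_c52) Lrfl Lrfl
theorem f560148 : Led Lsl_gt (LP (LK LD1_c7 LD2_c20 LD3_c20)) = (LP (LK LD1_c3 LD2_c43 LD3_c36)) :=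
  Lgr Lrot180 (Lpr_ct (K39.f560142 IH) (Lpr_gt (K32.f59387 IH) (Lpr_dt (f59386 IH) (Lpr_gt (K32.f493990 IH) (Lpq (K35.f536830 IH) (Lpr_dt (K10.f81178 IH) (Lpe (K36.f159649 IH) (Lpr_df (K24.f159655 IH) (Lpe (K24.f12903 IH) (Lpe (f159662 IH) (Lpn (LP (LK LD1_c3 LD2_c43 LD3_c36)))))))))))))
theorem f554239 : Led Lsl_ft (LP (LK LD1_c7 LD2_c20 LD3_c20)) = (LP (LK LD1_c6 LD2_c24 LD3_c58)) :=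
  Lgr Lrot54 (Lpe (K39.f159461 IH) (Lpe (K40.f445796 IH) (Lpr_df (K39.f554226 IH) (Lpn (LP (LK LD1_c6 LD2_c24 LD3_c58))))))
theorem f558714 : Led Lsl_bt (LP (LK LD1_c11 LD2_c26 LD3_c57)) = (LP (LK LD1_c7 LD2_c20 LD3_c20)) :=
  Lgr Lrot35 (Lpr_ff (K40.f558712 IH) (Lpe (K37.f205609 IH) (Lpe (f554239 IH) (Lpn (LP (LK LD1_c7 LD2_c20 LD3_c20))))))
theorem f181452 : Led Lsl_at (LP (LK LD1_c2 LD2_c13 LD3_c2)) = (LP (LK LD1_c4 LD2_c31 LD3_c60)) :=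
  Lre_a IH (LK LD1_c2 LD2_c13 LD3_c2) (LK LD1_c4 LD2_c31 LD3_c60) Lrfl Lrfl
theorem f181454 : Led Lsl_ct (LP (LK LD1_c4 LD2_c31 LD3_c60)) = (LP (LK LD1_c4 LD2_c31 LD3_c60)) :=
  Lgr Lrot111 (Lpe (f181452 IH) (Lpr_cf (K10.f181446 IH) (Lpe (K40.f181453 IH) (Lpn (LP (LK LD1_c4 LD2_c31 LD3_c60))))))
theorem f495796 : Led Lsl_bt (LP (LK LD1_c4 LD2_c31 LD3_c60)) = K38.v1482 :=
  Lgr Lrot119 (Lpe (K40.f181701 IH) (Lpr_bf (K36.f452549 IH) (Lpr_ef (K38.f495795 IH) (Lpn K38.v1482))))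
theorem f496104 : Led Lsl_ct (LP (LK LD1_c5 LD2_c7 LD3_c38)) = (LP (LK LD1_c2 LD2_c31 LD3_c6)) :=
  Lre_c IH (LK LD1_c5 LD2_c7 LD3_c38) (LK LD1_c2 LD2_c31 LD3_c6) Lrfl Lrfl
theorem f561444 : Led Lsl_gf (LP (LK LD1_c4 LD2_c31 LD3_c60)) = (LP (LK LD1_c2 LD2_c31 LD3_c6)) :=
  Lgr Lrot129 (Lpe (f181454 IH) (Lpr_bt (f495796 IH) (Lpq (K38.f536995 IH) (Lpr_gt (K24.f334609 IH) (Lpe (K27.f68543 IH) (Lpr_ct (K36.f242752 IH) (Lpr_gt (K36.f539662 IH) (Lpr_cf (K40.f541762 IH) (Lpe (K40.f542618 IH) (Lpr_gt (K40.f561435 IH) (Lpr_ct (f496104 IH) (Lpn (LP (LK LD1_c2 LD2_c31 LD3_c6))))))))))))))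
theorem f206052 : Led Lsl_dt (LP (LK LD1_c5 LD2_c7 LD3_c43)) = (LP (LK LD1_c2 LD2_c31 LD3_c6)) :=
  Lre_d IH (LK LD1_c5 LD2_c7 LD3_c43) (LK LD1_c2 LD2_c31 LD3_c6) Lrfl Lrfl
theorem f558863 : Led Lsl_dt (LP (LK LD1_c6 LD2_c16 LD3_c33)) = (LP (LK LD1_c5 LD2_c7 LD3_c38)) :=
  Lgr Lrot105 (Lpr_gf (K40.f558861 IH) (Lpe (K40.f557413 IH) (Lpr_gf (K40.f558736 IH) (Lpe (K40.f496062 IH) (Lpr_gt (K31.f496057 IH) (Lpq (K37.f537105 IH) (Lpr_dt (K31.f206040 IH) (Lpq (K37.f537269 IH) (Lpe (K31.f496102 IH) (Lpr_dt (f206052 IH) (Lpe (f496104 IH) (Lpn (LP (LK LD1_c5 LD2_c7 LD3_c38))))))))))))))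
theorem f561462 : Led Lsl_ct (LP (LK LD1_c7 LD2_c21 LD3_c24)) = (LP (LK LD1_c6 LD2_c16 LD3_c33)) :=
  Lgr Lrot110 (Lpr_gf (K34.f202548 IH) (Lpr_cf (K37.f544139 IH) (Lpqs (K37.f537269 IH) (Lpr_gf (K31.f206041 IH) (Lpe (K31.f22374 IH) (Lpe (f561444 IH) (Lpr_ct (f181454 IH) (Lpr_gt (K40.f561458 IH) (Lpr_ct (K40.f496103 IH) (Lpe (f558863 IH) (Lpn (LP (LK LD1_c6 LD2_c16 LD3_c33)))))))))))))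
theorem f111116 : Led Lsl_dt (LP (LK LD1_c13 LD2_c19 LD3_c5)) = (LP (LK LD1_c7 LD2_c1 LD3_c16)) :=
  Lre_d IH (LK LD1_c13 LD2_c19 LD3_c5) (LK LD1_c7 LD2_c1 LD3_c16) Lrfl Lrfl
theorem f148306 : Led Lsl_dt (LP (LK LD1_c3 LD2_c40 LD3_c36)) = (LP (LK LD1_c7 LD2_c21 LD3_c24)) :=
  Lre_d IH (LK LD1_c3 LD2_c40 LD3_c36) (LK LD1_c7 LD2_c21 LD3_c24) Lrfl Lrfl
theorem f148307 : Led Lsl_bf (LP (LK LD1_c13 LD2_c19 LD3_c5)) = (LP (LK LD1_c7 LD2_c21 LD3_c24)) :=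
  Lgr Lrot93 (Lpr_dt (f111116 IH) (Lpr_bt (K7.f148294 IH) (Lpr_dt (f148306 IH) (Lpn (LP (LK LD1_c7 LD2_c21 LD3_c24))))))
theorem f568024 : Led Lsl_gt (LP (LK LD1_c12 LD2_c23 LD3_c0)) = (LP (LK LD1_c13 LD2_c19 LD3_c5)) :=
  Lgr Lrot164 (Lpe (f568023 IH) (Lpr_ct (f568003 IH) (Lpe (K32.f56618 IH) (Lpr_cf (f552156 IH) (Lpe (f560148 IH) (Lpe (f558714 IH) (Lpe (K40.f557411 IH) (Lpr_gf (K40.f558739 IH) (Lpe (f561462 IH) (Lpe (f148307 IH) (Lpn (LP (LK LD1_c13 LD2_c19 LD3_c5)))))))))))))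
theorem f122285 : Led Lsl_ff (LP (LK LD1_c6 LD2_c10 LD3_c42)) = (LP (LK LD1_c3 LD2_c45 LD3_c13)) :=
  Lgr Lrot3 (Lpr_ft (K6.f122281 IH) (Lpn (LP (LK LD1_c3 LD2_c45 LD3_c13))))
theorem f122275 : Led Lsl_at (LP (LK LD1_c6 LD2_c10 LD3_c42)) = (LP (LK LD1_c3 LD2_c50 LD3_c4)) :=
  Lgr Lrot100 (Lpr_af (K6.f122273 IH) (Lpn (LP (LK LD1_c3 LD2_c50 LD3_c4))))
theorem f158008 : Led Lsl_gf (LP (LK LD1_c3 LD2_c50 LD3_c4)) = (LP (LK LD1_c5 LD2_c51 LD3_c16)) :=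
  Lgr Lrot76 (Lpe (f122275 IH) (Lpr_ff (f122285 IH) (Lpr_gt (K8.f158001 IH) (Lpn (LP (LK LD1_c5 LD2_c51 LD3_c16))))))
theorem f157972 : Led Lsl_dt (LP (LK LD1_c3 LD2_c47 LD3_c24)) = (LP (LK LD1_c5 LD2_c51 LD3_c16)) :=
  Lgr Lrot79 (Lpr_bf (K6.f110091 IH) (Lpr_df (K8.f157966 IH) (Lpe (K8.f157971 IH) (Lpn (LP (LK LD1_c5 LD2_c51 LD3_c16))))))
theorem f568026 : Led Lsl_df (LP (LK LD1_c12 LD2_c23 LD3_c0)) = (LP (LK LD1_c7 LD2_c40 LD3_c44)) :=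
  Lgr Lrot153 (Lpr_gt (f568024 IH) (Lpr_dt (f111116 IH) (Lpe (K7.f103644 IH) (Lpr_df (K5.f122251 IH) (Lpr_gf (f158008 IH) (Lpe (f157972 IH) (Lpr_gf (K6.f144865 IH) (Lpe (K6.f96389 IH) (Lpr_gt (K8.f96335 IH) (Lpn (LP (LK LD1_c7 LD2_c40 LD3_c44))))))))))))
theorem f568011 : Led Lsl_bt (LP (LK LD1_c12 LD2_c23 LD3_c0)) = (LP (LK LD1_c6 LD2_c24 LD3_c60)) :=
  Lre_b IH (LK LD1_c12 LD2_c23 LD3_c0) (LK LD1_c6 LD2_c24 LD3_c60) Lrfl Lrfl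
theorem f568036 : Led Lsl_dt (LP (LK LD1_c6 LD2_c24 LD3_c60)) = (LP (LK LD1_c3 LD2_c54 LD3_c8)) :=
  Lgr Lrot79 (Lpe (f568011 IH) (Lpr_df (f568026 IH) (Lpr_bf (K33.f203207 IH) (Lpn (LP (LK LD1_c3 LD2_c54 LD3_c8))))))
theorem f568012 : Led Lsl_cf (LP (LK LD1_c6 LD2_c24 LD3_c60)) = (LP (LK LD1_c4 LD2_c42 LD3_c43)) :=
  Lgr Lrot11 (Lpr_ct (f568003 IH) (Lpn (LP (LK LD1_c4 LD2_c42 LD3_c43))))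
theorem f519709 : Led Lsl_ct (LP (LK LD1_c3 LD2_c54 LD3_c9)) = K36.v2432 :=
  Lgr Lrot64 (Lpe (K8.f162029 IH) (Lpe (K5.f121020 IH) (Lpe (K5.f121017 IH) (Lpe (K4.f121000 IH) (Lpr_gf (K5.f128047 IH) (Lpe (K5.f13548 IH) (Lpr_gf (K6.f90062 IH) (Lpe (K39.f12360 IH) (Lpe (K29.f425448 IH) (Lpr_gf (K36.f519706 IH) (Lpn K36.v2432)))))))))))
theorem f227748 : Led Lsl_ct (LP (LK LD1_c1 LD2_c28 LD3_c13)) = (LP (LK LD1_c1 LD2_c1 LD3_c53)) :=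
  Lgr Lrot59 (Lpr_cf (K12.f227743 IH) (Lpn (LP (LK LD1_c1 LD2_c1 LD3_c53))))
theorem f568038 : Led Lsl_df (LP (LK LD1_c3 LD2_c54 LD3_c9)) = (LP (LK LD1_c6 LD2_c24 LD3_c61)) :=
  Lgr Lrot43 (Lpr_ct (f519709 IH) (Lpqs (K37.f543004 IH) (Lpr_dt (K36.f38052 IH) (Lpr_ct (K38.f210310 IH) (Lpr_dt (K12.f210463 IH) (Lpq (K39.f537545 IH) (Lpe (K39.f536362 IH) (Lpqs (K39.f537824 IH) (Lpe (K39.f503177 IH) (Lpe (f568012 IH) (Lpr_dt (f568036 IH) (Lpr_ct (K36.f519701 IH) (Lpqs (K37.f542992 IH) (Lpr_dt (K37.f227756 IH) (Lpr_ct (f227748 IH) (Lpr_dt (K12.f36450 IH) (Lpr_ct (K36.f36455 IH) (Lpr_dt (K36.f227402 IH) (Lpe (K36.f413402 IH) (Lpn (LP (LK LD1_c6 LD2_c24 LD3_c61))))))))))))))))))))))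
theorem f568041 : Led Lsl_at (LP (LK LD1_c7 LD2_c23 LD3_c5)) = (LP (LK LD1_c6 LD2_c24 LD3_c61)) :=
  Lgr Lrot51 (Lpr_df (K39.f542045 IH) (Lpr_af (K36.f162049 IH) (Lpr_df (f568038 IH) (Lpn (LP (LK LD1_c6 LD2_c24 LD3_c61))))))
theorem f568059 : Led Lsl_af (LP (LK LD1_c7 LD2_c23 LD3_c5)) = (LP (LK LD1_c6 LD2_c24 LD3_c61)) :=
  Lgr Lrot0 (Lpr_at (f568041 IH) (Lpn (LP (LK LD1_c6 LD2_c24 LD3_c61))))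
theorem f542039 : Led Lsl_df (LP (LK LD1_c8 LD2_c2 LD3_c8)) = (LP (LK LD1_c4 LD2_c36 LD3_c6)) :=
  Lgr Lrot12 (Lpr_bt (K36.f542032 IH) (Lpr_dt (K11.f71058 IH) (Lpr_bt (K39.f138832 IH) (Lpn (LP (LK LD1_c4 LD2_c36 LD3_c6))))))
theorem f552132 : Led Lsl_cf (LP (LK LD1_c4 LD2_c36 LD3_c6)) = (LP (LK LD1_c2 LD2_c17 LD3_c56)) :=
  Lgr Lrot166 (Lpr_gt (K39.f552128 IH) (Lpe (K36.f239003 IH) (Lpr_gt (K36.f177131 IH) (Lpr_dt (K32.f177130 IH) (Lpr_ct (K32.f177129 IH) (Lpe (K12.f177112 IH) (Lpe (K13.f241804 IH) (Lpr_df (K37.f241403 IH) (Lpr_gf (K13.f227556 IH) (Lpn (LP (LK LD1_c2 LD2_c17 LD3_c56))))))))))))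
theorem f147269 : Led Lsl_gt (LP (LK LD1_c7 LD2_c23 LD3_c6)) = (LP (LK LD1_c3 LD2_c41 LD3_c20)) :=
  Lre_g IH (LK LD1_c7 LD2_c23 LD3_c6) (LK LD1_c3 LD2_c41 LD3_c20) Lrfl Lrfl
theorem f568069 : Led Lsl_ft (LP (LK LD1_c7 LD2_c23 LD3_c6)) = (LP (LK LD1_c6 LD2_c24 LD3_c61)) :=
  Lgr Lrot2 (Lpr_gt (f147269 IH) (Lpr_gt (K36.f147262 IH) (Lpr_af (f568059 IH) (Lpn (LP (LK LD1_c6 LD2_c24 LD3_c61))))))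
theorem f568071 : Led Lsl_df (LP (LK LD1_c3 LD2_c55 LD3_c2)) = (LP (LK LD1_c7 LD2_c23 LD3_c6)) :=
  Lgr Lrot157 (Lpr_ct (K8.f155664 IH) (Lpr_dt (K37.f542975 IH) (Lpr_ct (K38.f25951 IH) (Lpr_dt (K10.f185998 IH) (Lpe (f552132 IH) (Lpe (f542039 IH) (Lpe (K36.f542028 IH) (Lpr_af (f568059 IH) (Lpe (f568069 IH) (Lpn (LP (LK LD1_c7 LD2_c23 LD3_c6))))))))))))
theorem f568075 : Led Lsl_bt (LP (LK LD1_c7 LD2_c28 LD3_c35)) = (LP (LK LD1_c7 LD2_c23 LD3_c6)) :=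
  Lgr Lrot95 (Lpe (K8.f129401 IH) (Lpe (K8.f155650 IH) (Lpr_df (f568071 IH) (Lpn (LP (LK LD1_c7 LD2_c23 LD3_c6))))))
theorem f161955 : Led Lsl_cf (LP (LK LD1_c11 LD2_c36 LD3_c20)) = (LP (LK LD1_c7 LD2_c28 LD3_c35)) :=
  Lgr Lrot11 (Lpr_ct (K8.f161953 IH) (Lpn (LP (LK LD1_c7 LD2_c28 LD3_c35))))
theorem f567524 : Led Lsl_gf (LP (LK LD1_c11 LD2_c26 LD3_c58)) = (LP (LK LD1_c6 LD2_c55 LD3_c13)) :=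
  Lgr Lrot47 (Lpr_gt (K41.f567522 IH) (Lpe (K5.f123532 IH) (Lpr_ff (K5.f127999 IH) (Lpn (LP (LK LD1_c6 LD2_c55 LD3_c13))))))
theorem f210542 : Led Lsl_ct (LP (LK LD1_c11 LD2_c26 LD3_c58)) = (LP (LK LD1_c20 LD2_c24 LD3_c49)) :=
  Lre_c IH (LK LD1_c11 LD2_c26 LD3_c58) (LK LD1_c20 LD2_c24 LD3_c49) Lrfl Lrfl
theorem f568257 : Led Lsl_gf (LP (LK LD1_c11 LD2_c36 LD3_c20)) = (LP (LK LD1_c20 LD2_c24 LD3_c49)) :=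
  Lgr Lrot129 (Lpr_cf (f161955 IH) (Lpr_bt (f568075 IH) (Lpr_gt (f147269 IH) (Lpe (K37.f146883 IH) (Lpr_ct (K7.f146909 IH) (Lpr_gt (K6.f147446 IH) (Lpe (K8.f147451 IH) (Lpr_bt (K8.f128004 IH) (Lpe (f567524 IH) (Lpr_ct (f210542 IH) (Lpn (LP (LK LD1_c20 LD2_c24 LD3_c49)))))))))))))
theorem f557415 : Led Lsl_bt (LP (LK LD1_c11 LD2_c26 LD3_c58)) = (LP (LK LD1_c5 LD2_c48 LD3_c46)) :=
  Lre_b IH (LK LD1_c11 LD2_c26 LD3_c58) (LK LD1_c5 LD2_c48 LD3_c46) Lrfl Lrfl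
theorem f144376 : Led Lsl_gf (LP (LK LD1_c0 LD2_c53 LD3_c40)) = (LP (LK LD1_c1 LD2_c47 LD3_c36)) :=
  Lgr Lrot147 (Lpr_ct (K6.f11768 IH) (Lpr_gt (K7.f144373 IH) (Lpr_ct (K6.f129099 IH) (Lpe (K4.f12588 IH) (Lpe (K6.f12574 IH) (Lpe (K4.f4893 IH) (Lpe (K4.f4457 IH) (Lpe (K4.f4463 IH) (Lpe (K6.f124021 IH) (Lpn (LP (LK LD1_c1 LD2_c47 LD3_c36))))))))))))
theorem f147471 : Led Lsl_cf (LP (LK LD1_c1 LD2_c47 LD3_c36)) = (LP (LK LD1_c3 LD2_c13 LD3_c56)) :=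
  Lgr Lrot166 (Lpe (f144376 IH) (Lpr_dt (K6.f34694 IH) (Lpr_gt (K4.f11267 IH) (Lpe (K4.f121023 IH) (Lpr_ct (K4.f121247 IH) (Lpe (K5.f107571 IH) (Lpr_gf (K4.f124220 IH) (Lpr_df (K6.f147453 IH) (Lpe (K6.f147446 IH) (Lpn (LP (LK LD1_c3 LD2_c13 LD3_c56))))))))))))
theorem f542053 : Led Lsl_cf (LP (LK LD1_c3 LD2_c10 LD3_c7)) = (LP (LK LD1_c3 LD2_c41 LD3_c20)) :=
  Lgr Lrot97 (Lpr_bt (K36.f542049 IH) (Lpr_ct (K6.f147473 IH) (Lpr_bt (K6.f147436 IH) (Lpe (f147471 IH) (Lpr_bt (K37.f146883 IH) (Lpn (LP (LK LD1_c3 LD2_c41 LD3_c20))))))))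
theorem f205608 : Led Lsl_ct (LP (LK LD1_c3 LD2_c10 LD3_c5)) = (LP (LK LD1_c6 LD2_c24 LD3_c58)) :=
  Lre_c IH (LK LD1_c3 LD2_c10 LD3_c5) (LK LD1_c6 LD2_c24 LD3_c58) Lrfl Lrfl
theorem f538664 : Led Lsl_af (LP (LK LD1_c4 LD2_c0 LD3_c9)) = (LP (LK LD1_c6 LD2_c24 LD3_c58)) :=
  Lgr Lrot68 (Lpr_ct (K37.f3036 IH) (Lpr_at (K35.f538658 IH) (Lpr_ct (f205608 IH) (Lpn (LP (LK LD1_c6 LD2_c24 LD3_c58))))))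
theorem f445798 : Led Lsl_af (LP (LK LD1_c3 LD2_c42 LD3_c13)) = (LP (LK LD1_c3 LD2_c40 LD3_c6)) :=
  Lgr Lrot45 (Lpr_ft (K39.f445780 IH) (Lpe (K39.f445782 IH) (Lpr_ft (K40.f445796 IH) (Lpn (LP (LK LD1_c3 LD2_c40 LD3_c6))))))
theorem f159464 : Led Lsl_dt (LP (LK LD1_c7 LD2_c20 LD3_c20)) = (LP (LK LD1_c3 LD2_c40 LD3_c6)) :=
  Lre_d IH (LK LD1_c7 LD2_c20 LD3_c20) (LK LD1_c3 LD2_c40 LD3_c6) Lrfl Lrfl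
theorem f445815 : Led Lsl_at (LP (LK LD1_c6 LD2_c13 LD3_c32)) = (LP (LK LD1_c7 LD2_c20 LD3_c20)) :=
  Lgr Lrot51 (Lpe (K37.f443875 IH) (Lpr_af (f445798 IH) (Lpe (f159464 IH) (Lpn (LP (LK LD1_c7 LD2_c20 LD3_c20))))))
theorem f558724 : Led Lsl_bf (LP (LK LD1_c11 LD2_c26 LD3_c57)) = (LP (LK LD1_c7 LD2_c20 LD3_c20)) :=
  Lgr Lrot81 (Lpr_at (K40.f558720 IH) (Lpr_bt (K40.f554228 IH) (Lpe (f538664 IH) (Lpr_bt (K37.f443859 IH) (Lpr_at (f445815 IH) (Lpn (LP (LK LD1_c7 LD2_c20 LD3_c20))))))))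
theorem f568259 : Led Lsl_gf (LP (LK LD1_c5 LD2_c48 LD3_c46)) = (LP (LK LD1_c11 LD2_c26 LD3_c57)) :=
  Lgr Lrot124 (Lpe (f557415 IH) (Lpr_ct (f210542 IH) (Lpe (f568257 IH) (Lpr_cf (f161955 IH) (Lpr_bt (f568075 IH) (Lpr_gt (f147269 IH) (Lpe (f542053 IH) (Lpe (K32.f205653 IH) (Lpe (K39.f560142 IH) (Lpe (f558724 IH) (Lpn (LP (LK LD1_c11 LD2_c26 LD3_c57)))))))))))))
theorem f450239 : Led Lsl_ct (LP (LK LD1_c5 LD2_c49 LD3_c9)) = (LP (LK LD1_c11 LD2_c27 LD3_c31)) :=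
  Lre_c IH (LK LD1_c5 LD2_c49 LD3_c9) (LK LD1_c11 LD2_c27 LD3_c31) Lrfl Lrfl
theorem f568265 : Led Lsl_gt (LP (LK LD1_c11 LD2_c27 LD3_c31)) = (LP (LK LD1_c6 LD2_c16 LD3_c34)) :=
  Lgr Lrot65 (Lpe (f450239 IH) (Lpr_bt (K41.f565186 IH) (Lpe (K41.f557391 IH) (Lpe (K40.f557396 IH) (Lpr_ct (K40.f210538 IH) (Lpr_gf (f568259 IH) (Lpe (K40.f557407 IH) (Lpr_gf (K40.f558739 IH) (Lpe (K40.f558738 IH) (Lpr_ct (K38.f503158 IH) (Lpn (LP (LK LD1_c6 LD2_c16 LD3_c34)))))))))))))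
theorem f568273 : Led Lsl_df (LP (LK LD1_c11 LD2_c27 LD3_c31)) = (LP (LK LD1_c5 LD2_c57 LD3_c34)) :=
  Lgr Lrot153 (Lpr_gt (f568265 IH) (Lpr_dt (K40.f543874 IH) (Lpe (K3.f65225 IH) (Lpe (K6.f94545 IH) (Lpe (K2.f62825 IH) (Lpe (K34.f94530 IH) (Lpe (K28.f419462 IH) (Lpe (K28.f88615 IH) (Lpe (K28.f426572 IH) (Lpn (LP (LK LD1_c5 LD2_c57 LD3_c34))))))))))))
theorem f87908 : Led Lsl_ct (LP (LK LD1_c7 LD2_c34 LD3_c52)) = (LP (LK LD1_c3 LD2_c47 LD3_c1)) :=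
  Lre_c IH (LK LD1_c7 LD2_c34 LD3_c52) (LK LD1_c3 LD2_c47 LD3_c1) Lrfl Lrfl
theorem f88620 : Led Lsl_at (LP (LK LD1_c1 LD2_c51 LD3_c44)) = (LP (LK LD1_c3 LD2_c49 LD3_c20)) :=
  Lre_a IH (LK LD1_c1 LD2_c51 LD3_c44) (LK LD1_c3 LD2_c49 LD3_c20) Lrfl Lrfl
theorem f87794 : Led Lsl_bt (LP (LK LD1_c1 LD2_c50 LD3_c38)) = (LP (LK LD1_c3 LD2_c47 LD3_c1)) :=
  Lre_b IH (LK LD1_c1 LD2_c50 LD3_c38) (LK LD1_c3 LD2_c47 LD3_c1) Lrfl Lrfl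
theorem f87795 : Led Lsl_ft (LP (LK LD1_c3 LD2_c47 LD3_c1)) = (LP (LK LD1_c1 LD2_c51 LD3_c44)) :=
  Lgr Lrot75 (Lpe (f87794 IH) (Lpr_ff (K2.f87792 IH) (Lpe (K4.f87177 IH) (Lpn (LP (LK LD1_c1 LD2_c51 LD3_c44))))))
theorem f419393 : Led Lsl_gf (LP (LK LD1_c3 LD2_c46 LD3_c33)) = (LP (LK LD1_c3 LD2_c47 LD3_c1)) :=
  Lgr Lrot47 (Lpr_gt (K28.f419391 IH) (Lpe (f88620 IH) (Lpe (f87795 IH) (Lpn (LP (LK LD1_c3 LD2_c47 LD3_c1))))))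
theorem f568275 : Led Lsl_df (LP (LK LD1_c7 LD2_c33 LD3_c59)) = (LP (LK LD1_c12 LD2_c9 LD3_c58)) :=
  Lgr Lrot162 (Lpe (K28.f14698 IH) (Lpr_gf (f419393 IH) (Lpe (f87908 IH) (Lpe (K28.f426570 IH) (Lpe (f568273 IH) (Lpr_gt (f568265 IH) (Lpr_ct (K38.f543964 IH) (Lpr_gt (K40.f538158 IH) (Lpr_ct (K40.f496069 IH) (Lpn (LP (LK LD1_c12 LD2_c9 LD3_c58))))))))))))
theorem f546758 : Led Lsl_gt (LP (LK LD1_c6 LD2_c16 LD3_c38)) = (LP (LK LD1_c12 LD2_c9 LD3_c58)) :=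
  Lre_g IH (LK LD1_c6 LD2_c16 LD3_c38) (LK LD1_c12 LD2_c9 LD3_c58) Lrfl Lrfl
theorem f568293 : Led Lsl_dt (LP (LK LD1_c12 LD2_c10 LD3_c18)) = (LP (LK LD1_c6 LD2_c16 LD3_c38)) :=
  Lre_d IH (LK LD1_c12 LD2_c10 LD3_c18) (LK LD1_c6 LD2_c16 LD3_c38) Lrfl Lrfl
theorem f568294 : Led Lsl_gt (LP (LK LD1_c7 LD2_c34 LD3_c7)) = (LP (LK LD1_c12 LD2_c10 LD3_c18)) :=
  Lgr Lrot94 (Lpe (K28.f120256 IH) (Lpr_gt (K4.f94484 IH) (Lpr_dt (K34.f94483 IH) (Lpr_gt (K28.f14696 IH) (Lpr_dt (K28.f14697 IH) (Lpe (K28.f419383 IH) (Lpr_df (f568275 IH) (Lpe (f546758 IH) (Lpe (f568293 IH) (Lpn (LP (LK LD1_c12 LD2_c10 LD3_c18))))))))))))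
theorem f107402 : Led Lsl_bt (LP (LK LD1_c3 LD2_c14 LD3_c36)) = (LP (LK LD1_c6 LD2_c32 LD3_c44)) :=
  Lre_b IH (LK LD1_c3 LD2_c14 LD3_c36) (LK LD1_c6 LD2_c32 LD3_c44) Lrfl Lrfl
theorem f568304 : Led Lsl_ct (LP (LK LD1_c11 LD2_c44 LD3_c35)) = (LP (LK LD1_c12 LD2_c10 LD3_c18)) :=
  Lgr Lrot63 (Lpr_bt (K32.f426638 IH) (Lpr_gt (K8.f120259 IH) (Lpe (f107402 IH) (Lpr_ct (K3.f104291 IH) (Lpr_gt (K3.f103181 IH) (Lpr_cf (K2.f78103 IH) (Lpr_bt (K3.f78100 IH) (Lpe (K4.f120254 IH) (Lpr_ct (K28.f120256 IH) (Lpr_gt (f568294 IH) (Lpn (LP (LK LD1_c12 LD2_c10 LD3_c18)))))))))))))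
theorem f204730 : Led Lsl_dt (LP (LK LD1_c6 LD2_c16 LD3_c38)) = (LP (LK LD1_c12 LD2_c10 LD3_c18)) :=
  Lre_d IH (LK LD1_c6 LD2_c16 LD3_c38) (LK LD1_c12 LD2_c10 LD3_c18) Lrfl Lrfl
theorem f204727 : Led Lsl_gt (LP (LK LD1_c3 LD2_c5 LD3_c25)) = (LP (LK LD1_c6 LD2_c16 LD3_c38)) :=
  Lre_g IH (LK LD1_c3 LD2_c5 LD3_c25) (LK LD1_c6 LD2_c16 LD3_c38) Lrfl Lrfl
theorem f186355 : Led Lsl_gt (LP (LK LD1_c12 LD2_c10 LD3_c28)) = (LP (LK LD1_c6 LD2_c16 LD3_c41)) :=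
  Lre_g IH (LK LD1_c12 LD2_c10 LD3_c28) (LK LD1_c6 LD2_c16 LD3_c41) Lrfl Lrfl
theorem f568321 : Led Lsl_cf (LP (LK LD1_c7 LD2_c35 LD3_c60)) = (LP (LK LD1_c12 LD2_c10 LD3_c28)) :=
  Lgr Lrot166 (Lpe (K37.f426891 IH) (Lpr_dt (K37.f427146 IH) (Lpe (K37.f427150 IH) (Lpe (K32.f426633 IH) (Lpr_ct (f568304 IH) (Lpe (f204730 IH) (Lpe (f204727 IH) (Lpe (K37.f186354 IH) (Lpe (f186355 IH) (Lpn (LP (LK LD1_c12 LD2_c10 LD3_c28))))))))))))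
theorem f162517 : Led Lsl_ff (LP (LK LD1_c13 LD2_c41 LD3_c23)) = (LP (LK LD1_c11 LD2_c41 LD3_c43)) :=
  Lgr Lrot3 (Lpr_ft (K37.f162511 IH) (Lpn (LP (LK LD1_c11 LD2_c41 LD3_c43))))
theorem f162519 : Led Lsl_gf (LP (LK LD1_c7 LD2_c35 LD3_c60)) = (LP (LK LD1_c5 LD2_c58 LD3_c39)) :=
  Lgr Lrot76 (Lpe (K30.f162244 IH) (Lpr_ff (f162517 IH) (Lpr_gt (K37.f157597 IH) (Lpn (LP (LK LD1_c5 LD2_c58 LD3_c39))))))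
theorem f110507 : Led Lsl_bt (LP (LK LD1_c2 LD2_c17 LD3_c20)) = (LP (LK LD1_c4 LD2_c40 LD3_c30)) :=
  Lre_b IH (LK LD1_c2 LD2_c17 LD3_c20) (LK LD1_c4 LD2_c40 LD3_c30) Lrfl Lrfl
theorem f568336 : Led Lsl_bf (LP (LK LD1_c9 LD2_c16 LD3_c22)) = (LP (LK LD1_c12 LD2_c10 LD3_c28)) :=
  Lgr Lrot156 (Lpr_gt (K37.f110876 IH) (Lpe (f110507 IH) (Lpe (K4.f107556 IH) (Lpr_gt (K7.f128580 IH) (Lpe (K5.f128522 IH) (Lpr_bt (K5.f128562 IH) (Lpr_gt (K8.f157594 IH) (Lpr_ct (K36.f74775 IH) (Lpe (f162519 IH) (Lpr_cf (f568321 IH) (Lpn (LP (LK LD1_c12 LD2_c10 LD3_c28)))))))))))))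
theorem f420110 : Led Lsl_ct (LP (LK LD1_c14 LD2_c3 LD3_c54)) = (LP (LK LD1_c9 LD2_c21 LD3_c61)) :=
  Lgr Lrot8 (Lpr_gt (K37.f420106 IH) (Lpe (K37.f420104 IH) (Lpr_gt (K37.f205831 IH) (Lpr_dt (K37.f205830 IH) (Lpe (K11.f78061 IH) (Lpe (K40.f205839 IH) (Lpe (K40.f206689 IH) (Lpe (K41.f98894 IH) (Lpe (K41.f103251 IH) (Lpn (LP (LK LD1_c9 LD2_c21 LD3_c61))))))))))))
theorem f424840 : Led Lsl_ft (LP (LK LD1_c9 LD2_c21 LD3_c61)) = (LP (LK LD1_c9 LD2_c16 LD3_c22)) :=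
  Lgr Lrot4 (Lpe (f420110 IH) (Lpe (K37.f162604 IH) (Lpr_cf (K37.f424833 IH) (Lpn (LP (LK LD1_c9 LD2_c16 LD3_c22))))))
theorem f424842 : Led Lsl_ff (LP (LK LD1_c9 LD2_c21 LD3_c61)) = (LP (LK LD1_c9 LD2_c16 LD3_c22)) :=
  Lgr Lrot3 (Lpr_ft (f424840 IH) (Lpn (LP (LK LD1_c9 LD2_c16 LD3_c22))))
theorem f568330 : Led Lsl_ft (LP (LK LD1_c11 LD2_c27 LD3_c38)) = (LP (LK LD1_c12 LD2_c10 LD3_c28)) :=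
  Lgr Lrot4 (Lpr_cf (K40.f559147 IH) (Lpr_ff (K8.f162250 IH) (Lpr_cf (f568321 IH) (Lpn (LP (LK LD1_c12 LD2_c10 LD3_c28))))))
theorem f568340 : Led Lsl_bt (LP (LK LD1_c9 LD2_c21 LD3_c61)) = (LP (LK LD1_c11 LD2_c27 LD3_c38)) :=
  Lgr Lrot35 (Lpr_ff (f424842 IH) (Lpr_bf (f568336 IH) (Lpe (f568330 IH) (Lpn (LP (LK LD1_c11 LD2_c27 LD3_c38))))))
theorem f142150 : Led Lsl_bf (LP (LK LD1_c2 LD2_c15 LD3_c31)) = (LP (LK LD1_c1 LD2_c56 LD3_c49)) :=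
  Lgr Lrot24 (Lpr_bt (K6.f142140 IH) (Lpn (LP (LK LD1_c1 LD2_c56 LD3_c49))))
theorem f204811 : Led Lsl_bt (LP (LK LD1_c3 LD2_c5 LD3_c26)) = (LP (LK LD1_c1 LD2_c28 LD3_c47)) :=
  Lre_b IH (LK LD1_c3 LD2_c5 LD3_c26) (LK LD1_c1 LD2_c28 LD3_c47) Lrfl Lrfl
theorem f419440 : Led Lsl_dt (LP (LK LD1_c3 LD2_c46 LD3_c34)) = (LP (LK LD1_c7 LD2_c34 LD3_c0)) :=
  Lre_d IH (LK LD1_c3 LD2_c46 LD3_c34) (LK LD1_c7 LD2_c34 LD3_c0) Lrfl Lrfl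
theorem f97514 : Led Lsl_dt (LP (LK LD1_c13 LD2_c18 LD3_c13)) = (LP (LK LD1_c7 LD2_c0 LD3_c51)) :=
  Lre_d IH (LK LD1_c13 LD2_c18 LD3_c13) (LK LD1_c7 LD2_c0 LD3_c51) Lrfl Lrfl
theorem f419648 : Led Lsl_at (LP (LK LD1_c7 LD2_c34 LD3_c0)) = (LP (LK LD1_c13 LD2_c18 LD3_c13)) :=
  Lgr Lrot51 (Lpe (f419440 IH) (Lpr_af (K28.f419632 IH) (Lpe (f97514 IH) (Lpn (LP (LK LD1_c13 LD2_c18 LD3_c13))))))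
theorem f419673 : Led Lsl_et (LP (LK LD1_c14 LD2_c16 LD3_c2)) = (LP (LK LD1_c7 LD2_c34 LD3_c0)) :=
  Lre_e IH (LK LD1_c14 LD2_c16 LD3_c2) (LK LD1_c7 LD2_c34 LD3_c0) Lrfl Lrfl
theorem f157529 : Led Lsl_ff (LP (LK LD1_c3 LD2_c49 LD3_c23)) = (LP (LK LD1_c3 LD2_c46 LD3_c35)) :=
  Lgr Lrot3 (Lpr_ft (K34.f157525 IH) (Lpn (LP (LK LD1_c3 LD2_c46 LD3_c35))))
theorem f157533 : Led Lsl_dt (LP (LK LD1_c3 LD2_c49 LD3_c23)) = (LP (LK LD1_c3 LD2_c29 LD3_c38)) :=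
  Lgr Lrot60 (Lpr_ff (f157529 IH) (Lpe (K28.f94531 IH) (Lpr_ff (K4.f121854 IH) (Lpn (LP (LK LD1_c3 LD2_c29 LD3_c38))))))
theorem f110254 : Led Lsl_et (LP (LK LD1_c7 LD2_c39 LD3_c38)) = (LP (LK LD1_c3 LD2_c49 LD3_c23)) :=
  Lre_e IH (LK LD1_c7 LD2_c39 LD3_c38) (LK LD1_c3 LD2_c49 LD3_c23) Lrfl Lrfl
theorem f157538 : Led Lsl_dt (LP (LK LD1_c14 LD2_c26 LD3_c8)) = (LP (LK LD1_c7 LD2_c39 LD3_c38)) :=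
  Lre_d IH (LK LD1_c14 LD2_c26 LD3_c8) (LK LD1_c7 LD2_c39 LD3_c38) Lrfl Lrfl
theorem f97535 : Led Lsl_dt (LP (LK LD1_c7 LD2_c0 LD3_c51)) = (LP (LK LD1_c13 LD2_c18 LD3_c13)) :=
  Lre_d IH (LK LD1_c7 LD2_c0 LD3_c51) (LK LD1_c13 LD2_c18 LD3_c13) Lrfl Lrfl
theorem f157539 : Led Lsl_ef (LP (LK LD1_c14 LD2_c26 LD3_c8)) = (LP (LK LD1_c13 LD2_c18 LD3_c13)) :=
  Lgr Lrot73 (Lpr_dt (f157538 IH) (Lpr_et (f110254 IH) (Lpr_dt (f157533 IH) (Lpr_et (K3.f97504 IH) (Lpr_dt (f97535 IH) (Lpn (LP (LK LD1_c13 LD2_c18 LD3_c13))))))))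
theorem f419674 : Led Lsl_af (LP (LK LD1_c14 LD2_c16 LD3_c2)) = (LP (LK LD1_c14 LD2_c26 LD3_c8)) :=
  Lgr Lrot50 (Lpr_et (f419673 IH) (Lpr_at (f419648 IH) (Lpe (f157539 IH) (Lpn (LP (LK LD1_c14 LD2_c26 LD3_c8))))))
theorem f419687 : Led Lsl_dt (LP (LK LD1_c14 LD2_c16 LD3_c2)) = (LP (LK LD1_c7 LD2_c33 LD3_c60)) :=
  Lre_d IH (LK LD1_c14 LD2_c16 LD3_c2) (LK LD1_c7 LD2_c33 LD3_c60) Lrfl Lrfl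
theorem f110255 : Led Lsl_dt (LP (LK LD1_c7 LD2_c39 LD3_c38)) = (LP (LK LD1_c14 LD2_c26 LD3_c8)) :=
  Lre_d IH (LK LD1_c7 LD2_c39 LD3_c38) (LK LD1_c14 LD2_c26 LD3_c8) Lrfl Lrfl
theorem f419688 : Led Lsl_at (LP (LK LD1_c7 LD2_c33 LD3_c60)) = (LP (LK LD1_c7 LD2_c39 LD3_c38)) :=
  Lgr Lrot51 (Lpe (f419687 IH) (Lpr_af (f419674 IH) (Lpe (f110255 IH) (Lpn (LP (LK LD1_c7 LD2_c39 LD3_c38))))))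
theorem f419692 : Led Lsl_ct (LP (LK LD1_c14 LD2_c16 LD3_c1)) = (LP (LK LD1_c7 LD2_c33 LD3_c60)) :=
  Lre_c IH (LK LD1_c14 LD2_c16 LD3_c1) (LK LD1_c7 LD2_c33 LD3_c60) Lrfl Lrfl
theorem f419693 : Led Lsl_ct (LP (LK LD1_c7 LD2_c39 LD3_c38)) = (LP (LK LD1_c14 LD2_c26 LD3_c7)) :=
  Lre_c IH (LK LD1_c7 LD2_c39 LD3_c38) (LK LD1_c14 LD2_c26 LD3_c7) Lrfl Lrfl
theorem f419694 : Led Lsl_af (LP (LK LD1_c14 LD2_c16 LD3_c1)) = (LP (LK LD1_c14 LD2_c26 LD3_c7)) :=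
  Lgr Lrot68 (Lpr_ct (f419692 IH) (Lpr_at (f419688 IH) (Lpr_ct (f419693 IH) (Lpn (LP (LK LD1_c14 LD2_c26 LD3_c7))))))
theorem f419388 : Led Lsl_et (LP (LK LD1_c14 LD2_c16 LD3_c1)) = (LP (LK LD1_c7 LD2_c33 LD3_c59)) :=
  Lre_e IH (LK LD1_c14 LD2_c16 LD3_c1) (LK LD1_c7 LD2_c33 LD3_c59) Lrfl Lrfl
theorem f419703 : Led Lsl_et (LP (LK LD1_c7 LD2_c39 LD3_c37)) = (LP (LK LD1_c14 LD2_c26 LD3_c7)) :=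
  Lre_e IH (LK LD1_c7 LD2_c39 LD3_c37) (LK LD1_c14 LD2_c26 LD3_c7) Lrfl Lrfl
theorem f419704 : Led Lsl_at (LP (LK LD1_c7 LD2_c33 LD3_c59)) = (LP (LK LD1_c7 LD2_c39 LD3_c37)) :=
  Lgr Lrot80 (Lpe (f419388 IH) (Lpr_af (f419694 IH) (Lpe (f419703 IH) (Lpn (LP (LK LD1_c7 LD2_c39 LD3_c37))))))
theorem f568290 : Led Lsl_at (LP (LK LD1_c6 LD2_c16 LD3_c42)) = (LP (LK LD1_c12 LD2_c9 LD3_c58)) :=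
  Lre_a IH (LK LD1_c6 LD2_c16 LD3_c42) (LK LD1_c12 LD2_c9 LD3_c58) Lrfl Lrfl
theorem f568291 : Led Lsl_dt (LP (LK LD1_c7 LD2_c39 LD3_c37)) = (LP (LK LD1_c6 LD2_c16 LD3_c42)) :=
  Lgr Lrot44 (Lpe (f419704 IH) (Lpr_df (f568275 IH) (Lpe (f568290 IH) (Lpn (LP (LK LD1_c6 LD2_c16 LD3_c42))))))
theorem f568347 : Led Lsl_gf (LP (LK LD1_c7 LD2_c39 LD3_c37)) = (LP (LK LD1_c11 LD2_c27 LD3_c38)) :=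
  Lgr Lrot85 (Lpr_dt (f568291 IH) (Lpr_ct (K41.f202274 IH) (Lpr_bt (f204811 IH) (Lpe (K18.f204809 IH) (Lpe (K11.f166389 IH) (Lpr_ct (K18.f166406 IH) (Lpr_bt (K12.f166407 IH) (Lpe (K13.f241806 IH) (Lpe (K13.f196377 IH) (Lpe (K37.f542919 IH) (Lpe (f142150 IH) (Lpr_gt (K7.f142120 IH) (Lpr_dt (K8.f70482 IH) (Lpe (K6.f70444 IH) (Lpr_bt (K7.f70448 IH) (Lpe (K40.f424867 IH) (Lpe (K40.f206146 IH) (Lpr_ct (f420110 IH) (Lpr_bt (f568340 IH) (Lpn (LP (LK LD1_c11 LD2_c27 LD3_c38))))))))))))))))))))))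
theorem f568349 : Led Lsl_gt (LP (LK LD1_c7 LD2_c39 LD3_c35)) = (LP (LK LD1_c11 LD2_c27 LD3_c38)) :=
  Lgr Lrot5 (Lpe (K37.f419460 IH) (Lpr_at (f419704 IH) (Lpr_gf (f568347 IH) (Lpn (LP (LK LD1_c11 LD2_c27 LD3_c38))))))
theorem f157588 : Led Lsl_bf (LP (LK LD1_c7 LD2_c39 LD3_c35)) = (LP (LK LD1_c9 LD2_c15 LD3_c59)) :=
  Lgr Lrot24 (Lpr_bt (K8.f157581 IH) (Lpn (LP (LK LD1_c9 LD2_c15 LD3_c59))))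
theorem f558808 : Led Lsl_df (LP (LK LD1_c6 LD2_c16 LD3_c19)) = (LP (LK LD1_c7 LD2_c39 LD3_c35)) :=
  Lgr Lrot12 (Lpr_bt (K40.f558799 IH) (Lpr_dt (K11.f204051 IH) (Lpe (f157588 IH) (Lpn (LP (LK LD1_c7 LD2_c39 LD3_c35))))))
theorem f186063 : Led Lsl_ct (LP (LK LD1_c2 LD2_c50 LD3_c42)) = (LP (LK LD1_c5 LD2_c49 LD3_c15)) :=
  Lre_c IH (LK LD1_c2 LD2_c50 LD3_c42) (LK LD1_c5 LD2_c49 LD3_c15) Lrfl Lrfl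
theorem f450223 : Led Lsl_dt (LP (LK LD1_c5 LD2_c49 LD3_c15)) = (LP (LK LD1_c11 LD2_c27 LD3_c38)) :=
  Lre_d IH (LK LD1_c5 LD2_c49 LD3_c15) (LK LD1_c11 LD2_c27 LD3_c38) Lrfl Lrfl
theorem f564289 : Led Lsl_ct (LP (LK LD1_c11 LD2_c27 LD3_c38)) = (LP (LK LD1_c13 LD2_c41 LD3_c27)) :=
  Lgr Lrot41 (Lpe (f450223 IH) (Lpe (f186063 IH) (Lpe (K39.f450191 IH) (Lpe (K38.f450167 IH) (Lpr_at (K38.f450231 IH) (Lpr_cf (K41.f564283 IH) (Lpr_df (K41.f559145 IH) (Lpe (K6.f96480 IH) (Lpe (K8.f96504 IH) (Lpn (LP (LK LD1_c13 LD2_c41 LD3_c27))))))))))))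
theorem f426580 : Led Lsl_ct (LP (LK LD1_c5 LD2_c57 LD3_c34)) = (LP (LK LD1_c7 LD2_c42 LD3_c7)) :=
  Lgr Lrot59 (Lpr_cf (K28.f426575 IH) (Lpn (LP (LK LD1_c7 LD2_c42 LD3_c7))))
theorem f427173 : Led Lsl_df (LP (LK LD1_c7 LD2_c1 LD3_c31)) = (LP (LK LD1_c7 LD2_c42 LD3_c7)) :=
  Lgr Lrot162 (Lpe (K38.f427164 IH) (Lpr_gf (K38.f427169 IH) (Lpe (K38.f109001 IH) (Lpe (K28.f419435 IH) (Lpr_dt (K28.f14697 IH) (Lpr_gt (K28.f419391 IH) (Lpr_ct (K28.f87914 IH) (Lpe (K28.f426572 IH) (Lpr_ct (f426580 IH) (Lpn (LP (LK LD1_c7 LD2_c42 LD3_c7))))))))))))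
theorem f426843 : Led Lsl_ft (LP (LK LD1_c7 LD2_c42 LD3_c7)) = (LP (LK LD1_c5 LD2_c58 LD3_c39)) :=
  Lgr Lrot75 (Lpe (K32.f426577 IH) (Lpr_ff (K36.f426841 IH) (Lpe (K8.f110910 IH) (Lpn (LP (LK LD1_c5 LD2_c58 LD3_c39))))))
theorem f426500 : Led Lsl_at (LP (LK LD1_c5 LD2_c58 LD3_c39)) = (LP (LK LD1_c11 LD2_c41 LD3_c44)) :=
  Lre_a IH (LK LD1_c5 LD2_c58 LD3_c39) (LK LD1_c11 LD2_c41 LD3_c44) Lrfl Lrfl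
theorem f548927 : Led Lsl_dt (LP (LK LD1_c11 LD2_c24 LD3_c41)) = (LP (LK LD1_c5 LD2_c58 LD3_c59)) :=
  Lgr Lrot120 (Lpe (K40.f149995 IH) (Lpe (K32.f73289 IH) (Lpe (K40.f421287 IH) (Lpr_df (K38.f548921 IH) (Lpr_cf (K38.f427158 IH) (Lpr_df (f427173 IH) (Lpr_ft (f426843 IH) (Lpr_at (f426500 IH) (Lpe (K36.f81656 IH) (Lpn (LP (LK LD1_c5 LD2_c58 LD3_c59))))))))))))
theorem f61377 : Led Lsl_ct (LP (LK LD1_c5 LD2_c49 LD3_c28)) = (LP (LK LD1_c2 LD2_c50 LD3_c49)) :=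
  Lre_c IH (LK LD1_c5 LD2_c49 LD3_c28) (LK LD1_c2 LD2_c50 LD3_c49) Lrfl Lrfl
theorem f568354 : Led Lsl_gt (LP (LK LD1_c6 LD2_c16 LD3_c19)) = (LP (LK LD1_c5 LD2_c49 LD3_c28)) :=
  Lgr Lrot9 (Lpr_df (f558808 IH) (Lpr_gt (f568349 IH) (Lpr_ct (f564289 IH) (Lpe (K40.f426494 IH) (Lpr_ct (K28.f81629 IH) (Lpe (f548927 IH) (Lpe (K40.f149995 IH) (Lpe (K38.f421283 IH) (Lpe (f61377 IH) (Lpn (LP (LK LD1_c5 LD2_c49 LD3_c28))))))))))))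
theorem f556427 : Led Lsl_bf (LP (LK LD1_c4 LD2_c32 LD3_c40)) = (LP (LK LD1_c8 LD2_c12 LD3_c5)) :=
  Lgr Lrot24 (Lpr_bt (K39.f556424 IH) (Lpn (LP (LK LD1_c8 LD2_c12 LD3_c5))))
theorem f558781 : Led Lsl_dt (LP (LK LD1_c6 LD2_c16 LD3_c18)) = (LP (LK LD1_c8 LD2_c12 LD3_c5)) :=
  Lgr Lrot79 (Lpr_bf (K40.f558777 IH) (Lpr_df (K37.f543900 IH) (Lpr_bf (f556427 IH) (Lpn (LP (LK LD1_c8 LD2_c12 LD3_c5))))))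
theorem f61375 : Led Lsl_ct (LP (LK LD1_c2 LD2_c50 LD3_c49)) = (LP (LK LD1_c5 LD2_c49 LD3_c28)) :=
  Lre_c IH (LK LD1_c2 LD2_c50 LD3_c49) (LK LD1_c5 LD2_c49 LD3_c28) Lrfl Lrfl
theorem f548896 : Led Lsl_dt (LP (LK LD1_c5 LD2_c49 LD3_c28)) = (LP (LK LD1_c9 LD2_c25 LD3_c6)) :=
  Lgr Lrot120 (Lpe (f61375 IH) (Lpe (K36.f61353 IH) (Lpe (K38.f61374 IH) (Lpr_df (K38.f548884 IH) (Lpe (K6.f108909 IH) (Lpe (K6.f109551 IH) (Lpe (K32.f497525 IH) (Lpr_at (K32.f497661 IH) (Lpe (K28.f156861 IH) (Lpn (LP (LK LD1_c9 LD2_c25 LD3_c6))))))))))))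
theorem f568358 : Led Lsl_df (LP (LK LD1_c11 LD2_c28 LD3_c9)) = (LP (LK LD1_c12 LD2_c51 LD3_c31)) :=
  Lgr Lrot84 (Lpe (K39.f396270 IH) (Lpr_df (K39.f396310 IH) (Lpr_gf (K39.f556416 IH) (Lpe (f558781 IH) (Lpe (K39.f202259 IH) (Lpe (K40.f202266 IH) (Lpr_gt (f568354 IH) (Lpr_dt (f548896 IH) (Lpr_gt (K28.f158523 IH) (Lpn (LP (LK LD1_c12 LD2_c51 LD3_c31))))))))))))
theorem f396256 : Led Lsl_dt (LP (LK LD1_c5 LD2_c49 LD3_c44)) = (LP (LK LD1_c4 LD2_c32 LD3_c42)) :=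
  Lgr Lrot79 (Lpe (K39.f396255 IH) (Lpr_df (K24.f334607 IH) (Lpe (K24.f269089 IH) (Lpn (LP (LK LD1_c4 LD2_c32 LD3_c42))))))
theorem f551664 : Led Lsl_cf (LP (LK LD1_c7 LD2_c14 LD3_c5)) = (LP (LK LD1_c4 LD2_c32 LD3_c42)) :=
  Lgr Lrot11 (Lpr_ct (K39.f551657 IH) (Lpn (LP (LK LD1_c4 LD2_c32 LD3_c42))))
theorem f556342 : Led Lsl_cf (LP (LK LD1_c3 LD2_c33 LD3_c30)) = (LP (LK LD1_c4 LD2_c32 LD3_c30)) :=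
  Lgr Lrot39 (Lpr_et (K39.f556336 IH) (Lpr_ct (K16.f268852 IH) (Lpr_et (K39.f268868 IH) (Lpn (LP (LK LD1_c4 LD2_c32 LD3_c30))))))
theorem f556406 : Led Lsl_dt (LP (LK LD1_c6 LD2_c16 LD3_c24)) = (LP (LK LD1_c4 LD2_c32 LD3_c30)) :=
  Lgr Lrot42 (Lpr_df (K39.f556397 IH) (Lpn (LP (LK LD1_c4 LD2_c32 LD3_c30))))
theorem f556415 : Led Lsl_ct (LP (LK LD1_c12 LD2_c9 LD3_c61)) = (LP (LK LD1_c6 LD2_c16 LD3_c24)) :=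
  Lre_c IH (LK LD1_c12 LD2_c9 LD3_c61) (LK LD1_c6 LD2_c16 LD3_c24) Lrfl Lrfl
theorem f568421 : Led Lsl_dt (LP (LK LD1_c12 LD2_c51 LD3_c34)) = (LP (LK LD1_c12 LD2_c9 LD3_c61)) :=
  Lgr Lrot173 (Lpe (K8.f120305 IH) (Lpr_df (K8.f120634 IH) (Lpr_cf (K8.f162821 IH) (Lpe (K39.f160383 IH) (Lpr_cf (f551664 IH) (Lpe (f396256 IH) (Lpe (K39.f210469 IH) (Lpr_df (f568358 IH) (Lpe (K28.f103538 IH) (Lpe (K34.f158519 IH) (Lpe (K3.f6112 IH) (Lpe (K39.f96829 IH) (Lpr_cf (f556342 IH) (Lpe (f556406 IH) (Lpe (f556415 IH) (Lpn (LP (LK LD1_c12 LD2_c9 LD3_c61))))))))))))))))))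
theorem f102632 : Led Lsl_ft (LP (LK LD1_c3 LD2_c23 LD3_c40)) = (LP (LK LD1_c3 LD2_c50 LD3_c60)) :=
  Lgr Lrot4 (Lpr_cf (K3.f94921 IH) (Lpr_ff (K28.f102525 IH) (Lpr_cf (K3.f91756 IH) (Lpn (LP (LK LD1_c3 LD2_c50 LD3_c60))))))
theorem f149093 : Led Lsl_bf (LP (LK LD1_c4 LD2_c35 LD3_c49)) = (LP (LK LD1_c3 LD2_c50 LD3_c60)) :=
  Lgr Lrot61 (Lpr_ft (K7.f149090 IH) (Lpr_bt (K5.f61826 IH) (Lpr_ft (f102632 IH) (Lpn (LP (LK LD1_c3 LD2_c50 LD3_c60))))))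
theorem f272485 : Led Lsl_ct (LP (LK LD1_c2 LD2_c9 LD3_c28)) = (LP (LK LD1_c1 LD2_c27 LD3_c54)) :=
  Lgr Lrot59 (Lpr_cf (K31.f272458 IH) (Lpn (LP (LK LD1_c1 LD2_c27 LD3_c54))))
theorem f26799 : Led Lsl_bt (LP (LK LD1_c1 LD2_c5 LD3_c50)) = (LP (LK LD1_c0 LD2_c30 LD3_c5)) :=
  Lre_b IH (LK LD1_c1 LD2_c5 LD3_c50) (LK LD1_c0 LD2_c30 LD3_c5) Lrfl Lrfl
theorem f36485 : Led Lsl_cf (LP (LK LD1_c1 LD2_c5 LD3_c50)) = (LP (LK LD1_c2 LD2_c9 LD3_c26)) :=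
  Lgr Lrot97 (Lpr_bt (f26799 IH) (Lpr_ct (K10.f25926 IH) (Lpr_bt (K1.f36483 IH) (Lpr_ct (K13.f36430 IH) (Lpr_bt (K36.f36441 IH) (Lpn (LP (LK LD1_c2 LD2_c9 LD3_c26))))))))
theorem f36579 : Led Lsl_ct (LP (LK LD1_c4 LD2_c41 LD3_c25)) = (LP (LK LD1_c2 LD2_c17 LD3_c48)) :=
  Lre_c IH (LK LD1_c4 LD2_c41 LD3_c25) (LK LD1_c2 LD2_c17 LD3_c48) Lrfl Lrfl
theorem f59103 : Led Lsl_bt (LP (LK LD1_c1 LD2_c28 LD3_c15)) = (LP (LK LD1_c3 LD2_c4 LD3_c19)) :=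
  Lre_b IH (LK LD1_c1 LD2_c28 LD3_c15) (LK LD1_c3 LD2_c4 LD3_c19) Lrfl Lrfl
theorem f272489 : Led Lsl_bt (LP (LK LD1_c4 LD2_c41 LD3_c25)) = (LP (LK LD1_c6 LD2_c14 LD3_c39)) :=
  Lgr Lrot92 (Lpr_ct (f36579 IH) (Lpr_gt (K40.f26878 IH) (Lpr_cf (f36485 IH) (Lpr_bt (K36.f36573 IH) (Lpr_gt (K31.f35828 IH) (Lpr_ct (f272485 IH) (Lpr_gt (K31.f59072 IH) (Lpe (K37.f59061 IH) (Lpr_bt (f59103 IH) (Lpr_gt (K40.f59104 IH) (Lpn (LP (LK LD1_c6 LD2_c14 LD3_c39)))))))))))))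
theorem f272493 : Led Lsl_ct (LP (LK LD1_c2 LD2_c17 LD3_c48)) = (LP (LK LD1_c4 LD2_c41 LD3_c25)) :=
  Lre_c IH (LK LD1_c2 LD2_c17 LD3_c48) (LK LD1_c4 LD2_c41 LD3_c25) Lrfl Lrfl
theorem f26926 : Led Lsl_dt (LP (LK LD1_c4 LD2_c41 LD3_c26)) = (LP (LK LD1_c2 LD2_c17 LD3_c48)) :=
  Lre_d IH (LK LD1_c4 LD2_c41 LD3_c26) (LK LD1_c2 LD2_c17 LD3_c48) Lrfl Lrfl
theorem f268863 : Led Lsl_dt (LP (LK LD1_c5 LD2_c42 LD3_c37)) = (LP (LK LD1_c2 LD2_c47 LD3_c18)) :=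
  Lre_d IH (LK LD1_c5 LD2_c42 LD3_c37) (LK LD1_c2 LD2_c47 LD3_c18) Lrfl Lrfl
theorem f556401 : Led Lsl_bt (LP (LK LD1_c6 LD2_c16 LD3_c24)) = (LP (LK LD1_c5 LD2_c42 LD3_c37)) :=
  Lgr Lrot95 (Lpr_df (K39.f556397 IH) (Lpe (K39.f268855 IH) (Lpe (f268863 IH) (Lpn (LP (LK LD1_c5 LD2_c42 LD3_c37))))))
theorem f568435 : Led Lsl_gf (LP (LK LD1_c4 LD2_c41 LD3_c26)) = (LP (LK LD1_c5 LD2_c42 LD3_c37)) :=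
  Lgr Lrot85 (Lpr_dt (f26926 IH) (Lpr_ct (f272493 IH) (Lpr_bt (f272489 IH) (Lpr_gt (K40.f202194 IH) (Lpqs (K37.f543803 IH) (Lpe (K37.f519730 IH) (Lpe (K3.f97467 IH) (Lpr_bt (K6.f97500 IH) (Lpr_gt (K2.f18174 IH) (Lpr_dt (K3.f65872 IH) (Lpr_ct (K5.f91855 IH) (Lpe (f149093 IH) (Lpr_gt (K4.f104779 IH) (Lpe (K41.f128356 IH) (Lpe (K11.f158505 IH) (Lpr_bt (K8.f158504 IH) (Lpr_gt (K8.f158585 IH) (Lpr_dt (f568421 IH) (Lpr_ct (f556415 IH) (Lpr_bt (f556401 IH) (Lpn (LP (LK LD1_c5 LD2_c42 LD3_c37)))))))))))))))))))))))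
theorem f538136 : Led Lsl_et (LP (LK LD1_c2 LD2_c17 LD3_c48)) = (LP (LK LD1_c4 LD2_c41 LD3_c27)) :=
  Lre_e IH (LK LD1_c2 LD2_c17 LD3_c48) (LK LD1_c4 LD2_c41 LD3_c27) Lrfl Lrfl
theorem f268867 : Led Lsl_et (LP (LK LD1_c2 LD2_c47 LD3_c18)) = (LP (LK LD1_c1 LD2_c19 LD3_c61)) :=
  Lre_e IH (LK LD1_c2 LD2_c47 LD3_c18) (LK LD1_c1 LD2_c19 LD3_c61) Lrfl Lrfl
theorem f568442 : Led Lsl_gt (LP (LK LD1_c4 LD2_c41 LD3_c27)) = (LP (LK LD1_c4 LD2_c39 LD3_c48)) :=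
  Lgr Lrot137 (Lpe (f538136 IH) (Lpr_dt (K40.f36578 IH) (Lpr_gf (f568435 IH) (Lpe (K38.f268866 IH) (Lpr_et (f268867 IH) (Lpe (K31.f407064 IH) (Lpqs (K35.f538892 IH) (Lpe (K36.f495750 IH) (Lpr_dt (K36.f449869 IH) (Lpr_gf (K38.f549666 IH) (Lpr_df (K36.f542680 IH) (Lpn (LP (LK LD1_c4 LD2_c39 LD3_c48))))))))))))))
theorem f495434 : Led Lsl_ef (LP (LK LD1_c4 LD2_c32 LD3_c7)) = K40.v1413 :=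
  Lgr Lrot29 (Lpr_bt (K40.f186358 IH) (Lpr_et (K18.f186364 IH) (Lpr_bt (K40.f495432 IH) (Lpn K40.v1413))))
theorem f568444 : Led Lsl_gt (LP (LK LD1_c4 LD2_c32 LD3_c7)) = (LP (LK LD1_c2 LD2_c47 LD3_c18)) :=
  Lgr Lrot137 (Lpr_ef (f495434 IH) (Lpq (K40.f562692 IH) (Lpr_dt (K39.f34904 IH) (Lpr_gf (K40.f553508 IH) (Lpe (K40.f56215 IH) (Lpr_et (K36.f542655 IH) (Lpe (f568442 IH) (Lpe (f538136 IH) (Lpr_dt (K40.f36578 IH) (Lpr_gf (f568435 IH) (Lpe (K38.f268866 IH) (Lpn (LP (LK LD1_c2 LD2_c47 LD3_c18))))))))))))))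
theorem f268864 : Led Lsl_at (LP (LK LD1_c2 LD2_c47 LD3_c18)) = (LP (LK LD1_c1 LD2_c20 LD3_c2)) :=
  Lre_a IH (LK LD1_c2 LD2_c47 LD3_c18) (LK LD1_c1 LD2_c20 LD3_c2) Lrfl Lrfl
theorem f546727 : Led Lsl_ff (LP (LK LD1_c2 LD2_c47 LD3_c18)) = (LP (LK LD1_c4 LD2_c32 LD3_c61)) :=
  Lgr Lrot30 (Lpr_at (f268864 IH) (Lpr_ft (K37.f495848 IH) (Lpq (K37.f546720 IH) (Lpr_at (K37.f546725 IH) (Lpn (LP (LK LD1_c4 LD2_c32 LD3_c61)))))))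
theorem f546745 : Led Lsl_cf (LP (LK LD1_c3 LD2_c33 LD3_c21)) = (LP (LK LD1_c2 LD2_c47 LD3_c18)) :=
  Lgr Lrot108 (Lpe (K39.f440151 IH) (Lpr_ct (K37.f546734 IH) (Lpe (f546727 IH) (Lpn (LP (LK LD1_c2 LD2_c47 LD3_c18))))))
theorem f568454 : Led Lsl_gf (LP (LK LD1_c2 LD2_c13 LD3_c2)) = (LP (LK LD1_c4 LD2_c32 LD3_c1)) :=
  Lgr Lrot124 (Lpe (K10.f20780 IH) (Lpr_ct (K10.f20759 IH) (Lpr_gt (K9.f20765 IH) (Lpe (K18.f181121 IH) (Lpr_bt (K40.f181122 IH) (Lpr_gt (f568444 IH) (Lpe (f546745 IH) (Lpr_gt (K39.f89718 IH) (Lpe (K41.f567577 IH) (Lpr_bt (K41.f185837 IH) (Lpn (LP (LK LD1_c4 LD2_c32 LD3_c1)))))))))))))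
theorem f567535 : Led Lsl_ct (LP (LK LD1_c5 LD2_c48 LD3_c46)) = (LP (LK LD1_c2 LD2_c50 LD3_c25)) :=
  Lre_c IH (LK LD1_c5 LD2_c48 LD3_c46) (LK LD1_c2 LD2_c50 LD3_c25) Lrfl Lrfl
theorem f381998 : Led Lsl_ct (LP (LK LD1_c5 LD2_c43 LD3_c40)) = (LP (LK LD1_c2 LD2_c47 LD3_c53)) :=
  Lgr Lrot59 (Lpr_cf (K40.f381968 IH) (Lpn (LP (LK LD1_c2 LD2_c47 LD3_c53))))
theorem f382002 : Led Lsl_gt (LP (LK LD1_c2 LD2_c47 LD3_c53)) = (LP (LK LD1_c5 LD2_c43 LD3_c43)) :=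
  Lre_g IH (LK LD1_c2 LD2_c47 LD3_c53) (LK LD1_c5 LD2_c43 LD3_c43) Lrfl Lrfl
theorem f568261 : Led Lsl_cf (LP (LK LD1_c4 LD2_c32 LD3_c1)) = (LP (LK LD1_c5 LD2_c43 LD3_c43)) :=
  Lgr Lrot99 (Lpe (K41.f567538 IH) (Lpe (f567535 IH) (Lpr_gf (f568259 IH) (Lpe (K40.f557407 IH) (Lpr_gf (K40.f558739 IH) (Lpr_df (K40.f558868 IH) (Lpe (K40.f561454 IH) (Lpr_ct (f381998 IH) (Lpr_gt (f382002 IH) (Lpn (LP (LK LD1_c5 LD2_c43 LD3_c43))))))))))))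
theorem f568484 : Led Lsl_bt (LP (LK LD1_c5 LD2_c43 LD3_c43)) = (LP (LK LD1_c2 LD2_c53 LD3_c48)) :=
  Lgr Lrot22 (Lpe (f568261 IH) (Lpe (K41.f20781 IH) (Lpr_cf (K10.f181446 IH) (Lpr_gf (f568454 IH) (Lpe (K41.f185837 IH) (Lpr_ct (K41.f567577 IH) (Lpe (K39.f89718 IH) (Lpr_cf (f546745 IH) (Lpr_bt (K39.f268855 IH) (Lpe (K39.f551655 IH) (Lpn (LP (LK LD1_c2 LD2_c53 LD3_c48)))))))))))))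
theorem f202279 : Led Lsl_ct (LP (LK LD1_c5 LD2_c54 LD3_c52)) = (LP (LK LD1_c2 LD2_c53 LD3_c48)) :=
  Lre_c IH (LK LD1_c5 LD2_c54 LD3_c52) (LK LD1_c2 LD2_c53 LD3_c48) Lrfl Lrfl
theorem f546877 : Led Lsl_ft (LP (LK LD1_c2 LD2_c53 LD3_c48)) = (LP (LK LD1_c4 LD2_c32 LD3_c39)) :=
  Lgr Lrot4 (Lpe (f202279 IH) (Lpr_ff (K38.f546875 IH) (Lpe (K37.f175542 IH) (Lpn (LP (LK LD1_c4 LD2_c32 LD3_c39))))))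
theorem f568507 : Led Lsl_ff (LP (LK LD1_c5 LD2_c43 LD3_c43)) = (LP (LK LD1_c5 LD2_c7 LD3_c38)) :=
  Lgr Lrot25 (Lpr_bt (f568484 IH) (Lpr_ft (f546877 IH) (Lpr_bt (K40.f561446 IH) (Lpn (LP (LK LD1_c5 LD2_c7 LD3_c38))))))
theorem f568516 : Led Lsl_at (LP (LK LD1_c5 LD2_c43 LD3_c43)) = (LP (LK LD1_c5 LD2_c7 LD3_c38)) :=
  Lgr Lrot26 (Lpr_ff (f568507 IH) (Lpe (K40.f561454 IH) (Lpr_gt (K40.f561435 IH) (Lpn (LP (LK LD1_c5 LD2_c7 LD3_c38))))))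
theorem f568505 : Led Lsl_ef (LP (LK LD1_c5 LD2_c43 LD3_c43)) = (LP (LK LD1_c2 LD2_c53 LD3_c45)) :=
  Lgr Lrot29 (Lpr_bt (f568484 IH) (Lpr_et (K37.f71111 IH) (Lpr_bt (K36.f186704 IH) (Lpn (LP (LK LD1_c2 LD2_c53 LD3_c45))))))
theorem f568524 : Led Lsl_af (LP (LK LD1_c2 LD2_c53 LD3_c45)) = (LP (LK LD1_c2 LD2_c31 LD3_c4)) :=
  Lgr Lrot50 (Lpe (f568505 IH) (Lpr_at (f568516 IH) (Lpr_et (K40.f427500 IH) (Lpn (LP (LK LD1_c2 LD2_c31 LD3_c4))))))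
theorem f568528 : Led Lsl_at (LP (LK LD1_c2 LD2_c31 LD3_c2)) = (LP (LK LD1_c1 LD2_c12 LD3_c33)) :=
  Lre_a IH (LK LD1_c2 LD2_c31 LD3_c2) (LK LD1_c1 LD2_c12 LD3_c33) Lrfl Lrfl
theorem f568536 : K37.v1401 = (LP (LK LD1_c2 LD2_c31 LD3_c2)) :=
  (Llr Lrot111 (Lpe (K37.f495365 IH) (Lpr_af (f568524 IH) (Lpe (K27.f3284 IH) (Lpe (f568528 IH) (Lpn (LP (LK LD1_c2 LD2_c31 LD3_c2)))))))).symm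
theorem f495369 : Led Lsl_bt (LP (LK LD1_c4 LD2_c58 LD3_c24)) = K37.v1401 :=
  Lgr Lrot127 (Lpr_bf (K37.f495368 IH) (Lpn K37.v1401))
theorem f567570 : Led Lsl_ef (LP (LK LD1_c4 LD2_c32 LD3_c1)) = K37.v1401 :=
  Lgr Lrot29 (Lpr_bt (K41.f567558 IH) (Lpr_et (K41.f567568 IH) (Lpr_bt (f495369 IH) (Lpn K37.v1401))))
theorem f568509 : Led Lsl_ft (LP (LK LD1_c4 LD2_c32 LD3_c1)) = (LP (LK LD1_c2 LD2_c31 LD3_c6)) :=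
  Lgr Lrot4 (Lpr_cf (f568261 IH) (Lpr_ff (f568507 IH) (Lpe (K40.f496103 IH) (Lpn (LP (LK LD1_c2 LD2_c31 LD3_c6))))))
theorem f568550 : v1400 = (LP (LK LD1_c2 LD2_c31 LD3_c7)) :=
  (Llr Lrot21 (Lpe (f495359 IH) (Lpr_ft (f495361 IH) (Lpq (f568536 IH) (Lpe (f567570 IH) (Lpr_ft (f568509 IH) (Lpr_et (K31.f22373 IH) (Lpr_ft (K37.f495343 IH) (Lpn (LP (LK LD1_c2 LD2_c31 LD3_c7))))))))))).symm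
theorem f3289 : Led Lsl_dt (LP (LK LD1_c1 LD2_c12 LD3_c34)) = (LP (LK LD1_c2 LD2_c31 LD3_c10)) :=
  Lre_d IH (LK LD1_c1 LD2_c12 LD3_c34) (LK LD1_c2 LD2_c31 LD3_c10) Lrfl Lrfl
theorem f210998 : Led Lsl_gt (LP (LK LD1_c2 LD2_c45 LD3_c3)) = (LP (LK LD1_c1 LD2_c18 LD3_c49)) :=
  Lre_g IH (LK LD1_c2 LD2_c45 LD3_c3) (LK LD1_c1 LD2_c18 LD3_c49) Lrfl Lrfl
theorem f538958 : Led Lsl_gt (LP (LK LD1_c2 LD2_c58 LD3_c12)) = (LP (LK LD1_c2 LD2_c45 LD3_c3)) :=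
  Lgr Lrot5 (Lpr_ft (K36.f538950 IH) (Lpr_at (K36.f380443 IH) (Lpe (f210998 IH) (Lpn (LP (LK LD1_c2 LD2_c45 LD3_c3))))))
theorem f422731 : Led Lsl_dt (LP (LK LD1_c2 LD2_c45 LD3_c3)) = (LP (LK LD1_c5 LD2_c38 LD3_c26)) :=
  Lre_d IH (LK LD1_c2 LD2_c45 LD3_c3) (LK LD1_c5 LD2_c38 LD3_c26) Lrfl Lrfl
theorem f568559 : Led Lsl_ft (LP (LK LD1_c2 LD2_c31 LD3_c7)) = (LP (LK LD1_c1 LD2_c12 LD3_c33)) :=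
  Lre_f IH (LK LD1_c2 LD2_c31 LD3_c7) (LK LD1_c1 LD2_c12 LD3_c33) Lrfl Lrfl
theorem f495354 : Led Lsl_at (LP (LK LD1_c1 LD2_c12 LD3_c33)) = (LP (LK LD1_c2 LD2_c31 LD3_c2)) :=
  Lre_a IH (LK LD1_c1 LD2_c12 LD3_c33) (LK LD1_c2 LD2_c31 LD3_c2) Lrfl Lrfl
def v1402 : LQ := Led Lsl_gf (LP (LK LD1_c1 LD2_c12 LD3_c35))
theorem f495370 : Led Lsl_gf (LP (LK LD1_c1 LD2_c12 LD3_c35)) = v1402 :=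
  Lrfl
theorem f568568 : v1402 = (LP (LK LD1_c2 LD2_c31 LD3_c7)) :=
  (Llr Lrot47 (Lpe (f495370 IH) (Lpr_gt (K37.f495362 IH) (Lpqs (f568536 IH) (Lpe (f495354 IH) (Lpe (f568559 IH) (Lpn (LP (LK LD1_c2 LD2_c31 LD3_c7))))))))).symm
theorem f495371 : Led Lsl_gt (LP (LK LD1_c1 LD2_c12 LD3_c37)) = v1402 :=
  Lgr Lrot5 (Lpr_ft (K36.f3173 IH) (Lpr_at (K37.f3205 IH) (Lpr_gf (f495370 IH) (Lpn v1402))))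
theorem f151790 : Led Lsl_et (LP (LK LD1_c2 LD2_c14 LD3_c36)) = (LP (LK LD1_c1 LD2_c12 LD3_c37)) :=
  Lgr Lrot158 (Lpe (K7.f20330 IH) (Lpr_ef (K7.f151773 IH) (Lpe (K36.f3161 IH) (Lpn (LP (LK LD1_c1 LD2_c12 LD3_c37))))))
theorem f568578 : Led Lsl_gt (LP (LK LD1_c5 LD2_c38 LD3_c26)) = (LP (LK LD1_c4 LD2_c35 LD3_c1)) :=
  Lgr Lrot139 (Lpe (f422731 IH) (Lpe (f538958 IH) (Lpr_ef (K36.f186827 IH) (Lpr_dt (K36.f194038 IH) (Lpr_gf (K40.f557652 IH) (Lpe (f3289 IH) (Lpr_et (f495357 IH) (Lpqs (f568550 IH) (Lpq (f568568 IH) (Lpe (f495371 IH) (Lpe (f151790 IH) (Lpr_dt (K7.f20336 IH) (Lpn (LP (LK LD1_c4 LD2_c35 LD3_c1)))))))))))))))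
theorem f422734 : Led Lsl_dt (LP (LK LD1_c5 LD2_c38 LD3_c26)) = (LP (LK LD1_c2 LD2_c45 LD3_c3)) :=
  Lre_d IH (LK LD1_c5 LD2_c38 LD3_c26) (LK LD1_c2 LD2_c45 LD3_c3) Lrfl Lrfl
theorem f422732 : Led Lsl_ct (LP (LK LD1_c2 LD2_c45 LD3_c2)) = (LP (LK LD1_c5 LD2_c38 LD3_c22)) :=
  Lre_c IH (LK LD1_c2 LD2_c45 LD3_c2) (LK LD1_c5 LD2_c38 LD3_c22) Lrfl Lrfl
theorem f422735 : Led Lsl_dt (LP (LK LD1_c5 LD2_c38 LD3_c22)) = (LP (LK LD1_c11 LD2_c8 LD3_c3)) :=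
  Lre_d IH (LK LD1_c5 LD2_c38 LD3_c22) (LK LD1_c11 LD2_c8 LD3_c3) Lrfl Lrfl
theorem f151857 : Led Lsl_gt (LP (LK LD1_c9 LD2_c6 LD3_c50)) = (LP (LK LD1_c16 LD2_c58 LD3_c7)) :=
  Lre_g IH (LK LD1_c9 LD2_c6 LD3_c50) (LK LD1_c16 LD2_c58 LD3_c7) Lrfl Lrfl
theorem f568582 : Led Lsl_cf (LP (LK LD1_c11 LD2_c8 LD3_c3)) = (LP (LK LD1_c16 LD2_c58 LD3_c7)) :=
  Lgr Lrot99 (Lpe (f422735 IH) (Lpe (f422732 IH) (Lpe (K41.f164700 IH) (Lpe (K36.f177838 IH) (Lpe (f210998 IH) (Lpe (f422734 IH) (Lpr_gt (f568578 IH) (Lpr_ct (K7.f20337 IH) (Lpr_gt (f151857 IH) (Lpn (LP (LK LD1_c16 LD2_c58 LD3_c7))))))))))))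
theorem f568586 : Led Lsl_ct (LP (LK LD1_c11 LD2_c8 LD3_c3)) = (LP (LK LD1_c16 LD2_c58 LD3_c7)) :=
  Lgr Lrot59 (Lpr_cf (f568582 IH) (Lpn (LP (LK LD1_c16 LD2_c58 LD3_c7))))
theorem f20364 : Led Lsl_gt (LP (LK LD1_c16 LD2_c58 LD3_c7)) = (LP (LK LD1_c9 LD2_c6 LD3_c21)) :=
  Lre_g IH (LK LD1_c16 LD2_c58 LD3_c7) (LK LD1_c9 LD2_c6 LD3_c21) Lrfl Lrfl
theorem f568593 : Led Lsl_bt (LP (LK LD1_c11 LD2_c8 LD3_c3)) = (LP (LK LD1_c6 LD2_c3 LD3_c25)) :=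
  Lgr Lrot92 (Lpr_ct (f568586 IH) (Lpr_gt (f20364 IH) (Lpe (K7.f20355 IH) (Lpr_bt (K38.f500299 IH) (Lpqs (K38.f537706 IH) (Lpe (K11.f176728 IH) (Lpr_ct (K11.f176720 IH) (Lpr_gt (K10.f175389 IH) (Lpe (K10.f175385 IH) (Lpr_bt (K35.f175665 IH) (Lpr_gt (K35.f175374 IH) (Lpn (LP (LK LD1_c6 LD2_c3 LD3_c25))))))))))))))
theorem f151855 : Led Lsl_gt (LP (LK LD1_c11 LD2_c32 LD3_c18)) = (LP (LK LD1_c5 LD2_c53 LD3_c5)) :=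
  Lre_g IH (LK LD1_c11 LD2_c32 LD3_c18) (LK LD1_c5 LD2_c53 LD3_c5) Lrfl Lrfl
theorem f568603 : Led Lsl_cf (LP (LK LD1_c11 LD2_c32 LD3_c18)) = (LP (LK LD1_c9 LD2_c8 LD3_c7)) :=
  Lgr Lrot125 (Lpr_gt (f151855 IH) (Lpe (K41.f151854 IH) (Lpr_bt (K41.f151852 IH) (Lpe (K12.f151850 IH) (Lpe (K38.f151856 IH) (Lpr_ct (K7.f20337 IH) (Lpr_gt (f151857 IH) (Lpe (f568586 IH) (Lpr_bt (f568593 IH) (Lpr_gt (K35.f538254 IH) (Lpn (LP (LK LD1_c9 LD2_c8 LD3_c7)))))))))))))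
def v3000 : LQ := Led Lsl_dt K35.v434
theorem f536453 : Led Lsl_dt K35.v434 = v3000 :=
  Lrfl
def v1609 : LQ := Led Lsl_ct (LP (LK LD1_c1 LD2_c22 LD3_c26))
theorem f500355 : Led Lsl_ct (LP (LK LD1_c1 LD2_c22 LD3_c26)) = v1609 :=
  Lrfl
theorem f500356 : Led Lsl_cf (LP (LK LD1_c1 LD2_c22 LD3_c26)) = v1609 :=
  Lgr Lrot11 (Lpr_ct (f500355 IH) (Lpn v1609))
theorem f500382 : Led Lsl_df v1609 = K38.v1616 :=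
  Lgr Lrot43 (Lpe (f500356 IH) (Lpr_dt (K35.f210671 IH) (Lpr_ct (K12.f210669 IH) (Lpr_dt (K10.f27199 IH) (Lpr_ct (K12.f211711 IH) (Lpe (K12.f211734 IH) (Lpr_ct (K40.f500375 IH) (Lpe (K40.f500377 IH) (Lpe (K40.f500374 IH) (Lpr_dt (K36.f211764 IH) (Lpr_ct (K37.f211753 IH) (Lpe (K10.f175547 IH) (Lpr_ct (K12.f210988 IH) (Lpr_dt (K38.f24521 IH) (Lpr_ct (K38.f500380 IH) (Lpn K38.v1616))))))))))))))))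
theorem f500617 : Led Lsl_dt K38.v1268 = K40.v1661 :=
  Lgr Lrot57 (Lpr_gf (K38.f500383 IH) (Lpe (K38.f500380 IH) (Lpr_gt (K38.f24428 IH) (Lpr_dt (K35.f24420 IH) (Lpr_gt (K11.f24245 IH) (Lpr_dt (K35.f24246 IH) (Lpr_cf (f500356 IH) (Lpr_df (f500382 IH) (Lpr_gf (K40.f500616 IH) (Lpn K40.v1661))))))))))
theorem f536459 : Led Lsl_ct (LP (LK LD1_c2 LD2_c14 LD3_c44)) = v3000 :=
  Lgr Lrot151 (Lpr_gf (K12.f151850 IH) (Lpr_cf (K40.f500376 IH) (Lpe (K40.f500379 IH) (Lpr_dt (f500617 IH) (Lpe (K40.f500616 IH) (Lpe (K40.f500381 IH) (Lpr_gt (K38.f24428 IH) (Lpr_ct (K35.f452805 IH) (Lpr_dt (f536453 IH) (Lpn v3000))))))))))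
theorem f536448 : Led Lsl_cf K35.v441 = K35.v2998 :=
  Lgr Lrot11 (Lpr_ct (K35.f536425 IH) (Lpn K35.v2998))
def v1620 : LQ := Led Lsl_ct (LP (LK LD1_c1 LD2_c22 LD3_c33))
theorem f500396 : Led Lsl_ct (LP (LK LD1_c1 LD2_c22 LD3_c33)) = v1620 :=
  Lrfl
theorem f24553 : Led Lsl_ct (LP (LK LD1_c2 LD2_c53 LD3_c0)) = (LP (LK LD1_c1 LD2_c22 LD3_c36)) :=
  Lre_c IH (LK LD1_c2 LD2_c53 LD3_c0) (LK LD1_c1 LD2_c22 LD3_c36) Lrfl Lrfl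
def v1659 : LQ := Led Lsl_ct (LP (LK LD1_c1 LD2_c23 LD3_c25))
theorem f500603 : Led Lsl_ct (LP (LK LD1_c1 LD2_c23 LD3_c25)) = v1659 :=
  Lrfl
theorem f449155 : Led Lsl_ft (LP (LK LD1_c1 LD2_c18 LD3_c57)) = (LP (LK LD1_c2 LD2_c12 LD3_c35)) :=
  Lgr Lrot4 (Lpe (K10.f24240 IH) (Lpr_ff (K36.f449153 IH) (Lpe (K10.f20790 IH) (Lpn (LP (LK LD1_c2 LD2_c12 LD3_c35))))))
theorem f449165 : Led Lsl_af (LP (LK LD1_c1 LD2_c18 LD3_c57)) = (LP (LK LD1_c2 LD2_c12 LD3_c36)) :=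
  Lgr Lrot68 (Lpr_ct (K11.f24248 IH) (Lpr_at (K36.f449161 IH) (Lpr_ct (K10.f20738 IH) (Lpn (LP (LK LD1_c2 LD2_c12 LD3_c36))))))
theorem f450052 : Led Lsl_af (LP (LK LD1_c1 LD2_c18 LD3_c56)) = (LP (LK LD1_c2 LD2_c12 LD3_c35)) :=
  Lgr Lrot45 (Lpr_ft (K37.f450050 IH) (Lpe (f449165 IH) (Lpr_ft (f449155 IH) (Lpn (LP (LK LD1_c2 LD2_c12 LD3_c35))))))
theorem f500605 : Led Lsl_df (LP (LK LD1_c2 LD2_c53 LD3_c0)) = v1659 :=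
  Lgr Lrot106 (Lpr_ct (f24553 IH) (Lpr_dt (K16.f24479 IH) (Lpr_ct (K10.f24429 IH) (Lpe (K9.f24517 IH) (Lpr_ct (K12.f24552 IH) (Lpr_af (f450052 IH) (Lpe (f449155 IH) (Lpe (K10.f24456 IH) (Lpr_ct (f500603 IH) (Lpn v1659))))))))))
theorem f500397 : Led Lsl_cf (LP (LK LD1_c1 LD2_c22 LD3_c33)) = v1620 :=
  Lgr Lrot11 (Lpr_ct (f500396 IH) (Lpn v1620))
theorem f536449 : Led Lsl_df v1620 = K35.v2998 :=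
  Lgr Lrot43 (Lpe (f500397 IH) (Lpr_dt (K10.f24239 IH) (Lpr_ct (K10.f24238 IH) (Lpr_dt (K9.f24217 IH) (Lpr_ct (K10.f24240 IH) (Lpe (K10.f24456 IH) (Lpr_ct (f500603 IH) (Lpe (f500605 IH) (Lpr_ct (f24553 IH) (Lpr_dt (K16.f24479 IH) (Lpr_ct (K10.f24429 IH) (Lpe (K9.f24517 IH) (Lpr_ct (K12.f24552 IH) (Lpr_dt (K40.f452844 IH) (Lpr_ct (K35.f536425 IH) (Lpn K35.v2998))))))))))))))))
theorem f536458 : Led Lsl_gf K35.v2998 = v3000 :=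
  Lgr Lrot143 (Lpe (f536449 IH) (Lpe (f500396 IH) (Lpe (K16.f24258 IH) (Lpr_gf (K11.f198501 IH) (Lpe (K40.f23851 IH) (Lpr_gf (K35.f452841 IH) (Lpr_cf (f536448 IH) (Lpe (K35.f536424 IH) (Lpr_dt (f536453 IH) (Lpn v3000))))))))))
def v3017 : LQ := Led Lsl_bt K35.v441
theorem f536493 : Led Lsl_bt K35.v441 = v3017 :=
  Lrfl
theorem f568610 : Led Lsl_gt v3017 = (LP (LK LD1_c4 LD2_c37 LD3_c22)) :=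
  Lgr Lrot164 (Lpe (f536493 IH) (Lpr_ct (K35.f536425 IH) (Lpr_gf (f536458 IH) (Lpe (f536459 IH) (Lpr_gf (K12.f151850 IH) (Lpe (K41.f151852 IH) (Lpr_ct (K41.f151854 IH) (Lpe (f151855 IH) (Lpr_cf (f568603 IH) (Lpe (K35.f538241 IH) (Lpn (LP (LK LD1_c4 LD2_c37 LD3_c22)))))))))))))
theorem f452849 : Led Lsl_ft (LP (LK LD1_c2 LD2_c15 LD3_c28)) = K35.v441 :=
  Lgr Lrot54 (Lpr_df (K10.f175415 IH) (Lpe (K37.f450050 IH) (Lpr_df (K40.f452848 IH) (Lpn K35.v441))))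
theorem f71422 : Led Lsl_bt (LP (LK LD1_c4 LD2_c36 LD3_c35)) = (LP (LK LD1_c2 LD2_c15 LD3_c28)) :=
  Lre_b IH (LK LD1_c4 LD2_c36 LD3_c35) (LK LD1_c2 LD2_c15 LD3_c28) Lrfl Lrfl
theorem f536496 : Led Lsl_ff (LP (LK LD1_c4 LD2_c36 LD3_c35)) = v3017 :=
  Lgr Lrot25 (Lpr_bt (f71422 IH) (Lpr_ft (f452849 IH) (Lpr_bt (f536493 IH) (Lpn v3017))))
theorem f175496 : Led Lsl_bt (LP (LK LD1_c2 LD2_c15 LD3_c28)) = (LP (LK LD1_c4 LD2_c36 LD3_c35)) :=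
  Lre_b IH (LK LD1_c2 LD2_c15 LD3_c28) (LK LD1_c4 LD2_c36 LD3_c35) Lrfl Lrfl
theorem f26716 : Led Lsl_bt (LP (LK LD1_c4 LD2_c31 LD3_c15)) = (LP (LK LD1_c2 LD2_c12 LD3_c36)) :=
  Lre_b IH (LK LD1_c4 LD2_c31 LD3_c15) (LK LD1_c2 LD2_c12 LD3_c36) Lrfl Lrfl
theorem f175497 : Led Lsl_dt (LP (LK LD1_c4 LD2_c36 LD3_c35)) = (LP (LK LD1_c4 LD2_c31 LD3_c15)) :=
  Lgr Lrot79 (Lpe (f175496 IH) (Lpr_df (K10.f175415 IH) (Lpe (f26716 IH) (Lpn (LP (LK LD1_c4 LD2_c31 LD3_c15))))))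
theorem f179917 : Led Lsl_bt (LP (LK LD1_c2 LD2_c45 LD3_c15)) = (LP (LK LD1_c1 LD2_c18 LD3_c56)) :=
  Lre_b IH (LK LD1_c2 LD2_c45 LD3_c15) (LK LD1_c1 LD2_c18 LD3_c56) Lrfl Lrfl
theorem f26637 : Led Lsl_bt (LP (LK LD1_c2 LD2_c12 LD3_c36)) = (LP (LK LD1_c4 LD2_c31 LD3_c15)) :=
  Lre_b IH (LK LD1_c2 LD2_c12 LD3_c36) (LK LD1_c4 LD2_c31 LD3_c15) Lrfl Lrfl
theorem f450054 : Led Lsl_ff (LP (LK LD1_c2 LD2_c45 LD3_c15)) = (LP (LK LD1_c4 LD2_c31 LD3_c15)) :=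
  Lgr Lrot25 (Lpr_bt (f179917 IH) (Lpr_ft (K37.f450050 IH) (Lpr_bt (f26637 IH) (Lpn (LP (LK LD1_c4 LD2_c31 LD3_c15))))))
theorem f536497 : Led Lsl_dt (LP (LK LD1_c2 LD2_c45 LD3_c15)) = v3017 :=
  Lgr Lrot60 (Lpr_ff (f450054 IH) (Lpe (f175497 IH) (Lpr_ff (f536496 IH) (Lpn v3017))))
theorem f438069 : Led Lsl_dt (LP (LK LD1_c2 LD2_c15 LD3_c52)) = (LP (LK LD1_c4 LD2_c37 LD3_c22)) :=
  Lre_d IH (LK LD1_c2 LD2_c15 LD3_c52) (LK LD1_c4 LD2_c37 LD3_c22) Lrfl Lrfl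
theorem f547416 : Led Lsl_dt K36.v1511 = (LP (LK LD1_c4 LD2_c33 LD3_c6)) :=
  Lgr Lrot60 (Lpe (K38.f495981 IH) (Lpe (K38.f547160 IH) (Lpr_ff (K38.f547410 IH) (Lpn (LP (LK LD1_c4 LD2_c33 LD3_c6))))))
theorem f568616 : Led Lsl_gf (LP (LK LD1_c2 LD2_c45 LD3_c15)) = (LP (LK LD1_c5 LD2_c0 LD3_c34)) :=
  Lgr Lrot138 (Lpr_dt (f536497 IH) (Lpr_gt (f568610 IH) (Lpe (f438069 IH) (Lpr_et (K36.f438068 IH) (Lpr_gt (K7.f142116 IH) (Lpe (K38.f142122 IH) (Lpr_dt (K38.f142123 IH) (Lpr_gt (K38.f383986 IH) (Lpe (f547416 IH) (Lpe (K36.f495979 IH) (Lpn (LP (LK LD1_c5 LD2_c0 LD3_c34)))))))))))))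
theorem f210776 : Led Lsl_ct (LP (LK LD1_c5 LD2_c38 LD3_c41)) = (LP (LK LD1_c2 LD2_c45 LD3_c15)) :=
  Lre_c IH (LK LD1_c5 LD2_c38 LD3_c41) (LK LD1_c2 LD2_c45 LD3_c15) Lrfl Lrfl
theorem f210775 : Led Lsl_bt (LP (LK LD1_c5 LD2_c38 LD3_c41)) = (LP (LK LD1_c2 LD2_c45 LD3_c14)) :=
  Lre_b IH (LK LD1_c5 LD2_c38 LD3_c41) (LK LD1_c2 LD2_c45 LD3_c14) Lrfl Lrfl
theorem f227311 : Led Lsl_gt (LP (LK LD1_c2 LD2_c45 LD3_c14)) = (LP (LK LD1_c4 LD2_c1 LD3_c27)) :=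
  Lgr Lrot150 (Lpe (K12.f24566 IH) (Lpe (K11.f198270 IH) (Lpe (K10.f28533 IH) (Lpr_gt (K12.f227309 IH) (Lpr_ct (K12.f193389 IH) (Lpr_gt (K12.f210961 IH) (Lpr_ct (K12.f182394 IH) (Lpr_df (K11.f182365 IH) (Lpe (K13.f182388 IH) (Lpn (LP (LK LD1_c4 LD2_c1 LD3_c27))))))))))))
theorem f272557 : Led Lsl_bt (LP (LK LD1_c4 LD2_c22 LD3_c36)) = (LP (LK LD1_c8 LD2_c43 LD3_c6)) :=
  Lre_b IH (LK LD1_c4 LD2_c22 LD3_c36) (LK LD1_c8 LD2_c43 LD3_c6) Lrfl Lrfl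
theorem f568620 : Led Lsl_gt (LP (LK LD1_c8 LD2_c43 LD3_c6)) = (LP (LK LD1_c5 LD2_c0 LD3_c33)) :=
  Lgr Lrot164 (Lpe (f272557 IH) (Lpe (K18.f272551 IH) (Lpe (K13.f229355 IH) (Lpe (K13.f182388 IH) (Lpe (f227311 IH) (Lpe (f210775 IH) (Lpr_ct (f210776 IH) (Lpr_gf (f568616 IH) (Lpe (K36.f186112 IH) (Lpr_bt (K36.f175844 IH) (Lpn (LP (LK LD1_c5 LD2_c0 LD3_c33)))))))))))))
theorem f568636 : Led Lsl_ef (LP (LK LD1_c8 LD2_c43 LD3_c6)) = (LP (LK LD1_c4 LD2_c22 LD3_c36)) :=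
  Lgr Lrot167 (Lpr_gt (f568620 IH) (Lpr_dt (K13.f227854 IH) (Lpr_gt (K12.f29235 IH) (Lpe (K1.f29225 IH) (Lpr_et (K40.f30711 IH) (Lpr_gt (K1.f35820 IH) (Lpe (K1.f35811 IH) (Lpr_dt (K12.f35461 IH) (Lpr_gt (K12.f35897 IH) (Lpr_df (K18.f272542 IH) (Lpn (LP (LK LD1_c4 LD2_c22 LD3_c36)))))))))))))
theorem f568650 : Led Lsl_et (LP (LK LD1_c8 LD2_c43 LD3_c6)) = (LP (LK LD1_c4 LD2_c22 LD3_c36)) :=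
  Lgr Lrot87 (Lpr_ef (f568636 IH) (Lpn (LP (LK LD1_c4 LD2_c22 LD3_c36))))
theorem f227518 : Led Lsl_bt (LP (LK LD1_c4 LD2_c24 LD3_c61)) = (LP (LK LD1_c8 LD2_c47 LD3_c31)) :=
  Lre_b IH (LK LD1_c4 LD2_c24 LD3_c61) (LK LD1_c8 LD2_c47 LD3_c31) Lrfl Lrfl
theorem f173311 : Led Lsl_bt (LP (LK LD1_c8 LD2_c43 LD3_c6)) = (LP (LK LD1_c4 LD2_c22 LD3_c36)) :=
  Lre_b IH (LK LD1_c8 LD2_c43 LD3_c6) (LK LD1_c4 LD2_c22 LD3_c36) Lrfl Lrfl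
theorem f272544 : Led Lsl_dt (LP (LK LD1_c8 LD2_c47 LD3_c31)) = (LP (LK LD1_c8 LD2_c43 LD3_c6)) :=
  Lgr Lrot79 (Lpe (f227518 IH) (Lpr_df (K18.f272542 IH) (Lpe (f173311 IH) (Lpn (LP (LK LD1_c8 LD2_c43 LD3_c6))))))
theorem f272872 : Led Lsl_et (LP (LK LD1_c16 LD2_c27 LD3_c12)) = (LP (LK LD1_c8 LD2_c47 LD3_c31)) :=
  Lre_e IH (LK LD1_c16 LD2_c27 LD3_c12) (LK LD1_c8 LD2_c47 LD3_c31) Lrfl Lrfl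
theorem f568654 : Led Lsl_df (LP (LK LD1_c16 LD2_c27 LD3_c12)) = (LP (LK LD1_c8 LD2_c47 LD3_c33)) :=
  Lgr Lrot70 (Lpr_et (f272872 IH) (Lpr_dt (f272544 IH) (Lpr_et (f568650 IH) (Lpe (K18.f272542 IH) (Lpr_et (K40.f272548 IH) (Lpn (LP (LK LD1_c8 LD2_c47 LD3_c33))))))))
theorem f568662 : Led Lsl_ft (LP (LK LD1_c16 LD2_c27 LD3_c12)) = (LP (LK LD1_c22 LD2_c55 LD3_c33)) :=
  Lgr Lrot54 (Lpr_df (f568654 IH) (Lpe (K40.f453160 IH) (Lpr_df (K40.f560891 IH) (Lpn (LP (LK LD1_c22 LD2_c55 LD3_c33))))))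
theorem f568673 : Led Lsl_ff (LP (LK LD1_c16 LD2_c27 LD3_c12)) = (LP (LK LD1_c22 LD2_c55 LD3_c33)) :=
  Lgr Lrot3 (Lpr_ft (f568662 IH) (Lpn (LP (LK LD1_c22 LD2_c55 LD3_c33))))
theorem f565577 : Led Lsl_ff (LP (LK LD1_c8 LD2_c46 LD3_c1)) = (LP (LK LD1_c8 LD2_c47 LD3_c31)) :=
  Lgr Lrot25 (Lpr_bt (K41.f565567 IH) (Lpe (K31.f453145 IH) (Lpr_bt (f227518 IH) (Lpn (LP (LK LD1_c8 LD2_c47 LD3_c31))))))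
theorem f108107 : Led Lsl_dt (LP (LK LD1_c7 LD2_c13 LD3_c29)) = (LP (LK LD1_c13 LD2_c40 LD3_c34)) :=
  Lre_d IH (LK LD1_c7 LD2_c13 LD3_c29) (LK LD1_c13 LD2_c40 LD3_c34) Lrfl Lrfl
theorem f560592 : Led Lsl_ft (LP (LK LD1_c13 LD2_c40 LD3_c34)) = (LP (LK LD1_c13 LD2_c33 LD3_c3)) :=
  Lgr Lrot54 (Lpe (f108107 IH) (Lpr_ff (K40.f560588 IH) (Lpe (K40.f6059 IH) (Lpn (LP (LK LD1_c13 LD2_c33 LD3_c3))))))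
theorem f568679 : Led Lsl_et (LP (LK LD1_c8 LD2_c46 LD3_c1)) = (LP (LK LD1_c13 LD2_c40 LD3_c34)) :=
  Lgr Lrot69 (Lpr_ff (f565577 IH) (Lpe (f272872 IH) (Lpr_ff (f568673 IH) (Lpe (K40.f6065 IH) (Lpe (f560592 IH) (Lpn (LP (LK LD1_c13 LD2_c40 LD3_c34))))))))
theorem f108108 : Led Lsl_ct (LP (LK LD1_c13 LD2_c40 LD3_c34)) = (LP (LK LD1_c23 LD2_c6 LD3_c7)) :=
  Lre_c IH (LK LD1_c13 LD2_c40 LD3_c34) (LK LD1_c23 LD2_c6 LD3_c7) Lrfl Lrfl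
theorem f568681 : Led Lsl_ef (LP (LK LD1_c16 LD2_c24 LD3_c15)) = (LP (LK LD1_c23 LD2_c6 LD3_c7)) :=
  Lgr Lrot28 (Lpr_ct (K13.f204824 IH) (Lpr_et (f568679 IH) (Lpr_ct (f108108 IH) (Lpn (LP (LK LD1_c23 LD2_c6 LD3_c7))))))
theorem f108113 : Led Lsl_ct (LP (LK LD1_c23 LD2_c6 LD3_c7)) = (LP (LK LD1_c13 LD2_c40 LD3_c34)) :=
  Lre_c IH (LK LD1_c23 LD2_c6 LD3_c7) (LK LD1_c13 LD2_c40 LD3_c34) Lrfl Lrfl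
theorem f6064 : Led Lsl_ct (LP (LK LD1_c13 LD2_c33 LD3_c3)) = (LP (LK LD1_c22 LD2_c55 LD3_c32)) :=
  Lre_c IH (LK LD1_c13 LD2_c33 LD3_c3) (LK LD1_c22 LD2_c55 LD3_c32) Lrfl Lrfl
theorem f560594 : Led Lsl_ff (LP (LK LD1_c23 LD2_c6 LD3_c7)) = (LP (LK LD1_c22 LD2_c55 LD3_c32)) :=
  Lgr Lrot23 (Lpr_ct (f108113 IH) (Lpr_ft (f560592 IH) (Lpr_ct (f6064 IH) (Lpn (LP (LK LD1_c22 LD2_c55 LD3_c32))))))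
theorem f560602 : Led Lsl_et (LP (LK LD1_c30 LD2_c48 LD3_c0)) = (LP (LK LD1_c22 LD2_c55 LD3_c32)) :=
  Lre_e IH (LK LD1_c30 LD2_c48 LD3_c0) (LK LD1_c22 LD2_c55 LD3_c32) Lrfl Lrfl
theorem f568660 : Led Lsl_ct (LP (LK LD1_c16 LD2_c27 LD3_c12)) = (LP (LK LD1_c26 LD2_c24 LD3_c26)) :=
  Lre_c IH (LK LD1_c16 LD2_c27 LD3_c12) (LK LD1_c26 LD2_c24 LD3_c26) Lrfl Lrfl
theorem f560893 : Led Lsl_ct (LP (LK LD1_c30 LD2_c48 LD3_c0)) = (LP (LK LD1_c22 LD2_c55 LD3_c33)) :=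
  Lre_c IH (LK LD1_c30 LD2_c48 LD3_c0) (LK LD1_c22 LD2_c55 LD3_c33) Lrfl Lrfl
theorem f568677 : Led Lsl_ft (LP (LK LD1_c26 LD2_c24 LD3_c26)) = (LP (LK LD1_c30 LD2_c48 LD3_c0)) :=
  Lgr Lrot4 (Lpe (f568660 IH) (Lpr_ff (f568673 IH) (Lpe (f560893 IH) (Lpn (LP (LK LD1_c30 LD2_c48 LD3_c0))))))
theorem f568691 : Led Lsl_et (LP (LK LD1_c16 LD2_c27 LD3_c11)) = (LP (LK LD1_c26 LD2_c24 LD3_c26)) :=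
  Lre_e IH (LK LD1_c16 LD2_c27 LD3_c11) (LK LD1_c26 LD2_c24 LD3_c26) Lrfl Lrfl
theorem f568692 : Led Lsl_ft (LP (LK LD1_c16 LD2_c24 LD3_c15)) = (LP (LK LD1_c16 LD2_c27 LD3_c11)) :=
  Lgr Lrot86 (Lpr_ef (f568681 IH) (Lpr_ff (f560594 IH) (Lpe (f560602 IH) (Lpe (f568677 IH) (Lpe (f568691 IH) (Lpn (LP (LK LD1_c16 LD2_c27 LD3_c11))))))))
theorem f568698 : Led Lsl_ff (LP (LK LD1_c16 LD2_c24 LD3_c15)) = (LP (LK LD1_c16 LD2_c27 LD3_c11)) :=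
  Lgr Lrot3 (Lpr_ft (f568692 IH) (Lpn (LP (LK LD1_c16 LD2_c27 LD3_c11))))
theorem f453074 : Led Lsl_af (LP (LK LD1_c12 LD2_c8 LD3_c41)) = (LP (LK LD1_c16 LD2_c24 LD3_c15)) :=
  Lgr Lrot68 (Lpr_ct (K13.f197981 IH) (Lpr_at (K31.f453070 IH) (Lpr_ct (K13.f204825 IH) (Lpn (LP (LK LD1_c16 LD2_c24 LD3_c15))))))
theorem f568705 : Led Lsl_gf (LP (LK LD1_c12 LD2_c5 LD3_c7)) = (LP (LK LD1_c16 LD2_c27 LD3_c11)) :=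
  Lgr Lrot47 (Lpe (K13.f229378 IH) (Lpr_af (f453074 IH) (Lpr_ff (f568698 IH) (Lpn (LP (LK LD1_c16 LD2_c27 LD3_c11))))))
theorem f37593 : Led Lsl_ct (LP (LK LD1_c8 LD2_c47 LD3_c31)) = (LP (LK LD1_c16 LD2_c27 LD3_c11)) :=
  Lre_c IH (LK LD1_c8 LD2_c47 LD3_c31) (LK LD1_c16 LD2_c27 LD3_c11) Lrfl Lrfl
theorem f37591 : Led Lsl_bt (LP (LK LD1_c8 LD2_c47 LD3_c31)) = (LP (LK LD1_c4 LD2_c24 LD3_c61)) :=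
  Lre_b IH (LK LD1_c8 LD2_c47 LD3_c31) (LK LD1_c4 LD2_c24 LD3_c61) Lrfl Lrfl
theorem f38480 : Led Lsl_ct (LP (LK LD1_c4 LD2_c24 LD3_c52)) = (LP (LK LD1_c8 LD2_c47 LD3_c14)) :=
  Lre_c IH (LK LD1_c4 LD2_c24 LD3_c52) (LK LD1_c8 LD2_c47 LD3_c14) Lrfl Lrfl
theorem f568709 : Led Lsl_bt (LP (LK LD1_c6 LD2_c13 LD3_c6)) = (LP (LK LD1_c7 LD2_c14 LD3_c36)) :=
  Lgr Lrot130 (Lpr_ct (K13.f229377 IH) (Lpr_gf (f568705 IH) (Lpe (f37593 IH) (Lpr_bt (f37591 IH) (Lpe (K12.f35897 IH) (Lpe (K41.f82134 IH) (Lpr_ct (f38480 IH) (Lpe (K41.f566051 IH) (Lpe (K36.f6467 IH) (Lpe (K41.f6540 IH) (Lpn (LP (LK LD1_c7 LD2_c14 LD3_c36)))))))))))))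
theorem f566068 : Led Lsl_et (LP (LK LD1_c7 LD2_c14 LD3_c36)) = (LP (LK LD1_c13 LD2_c42 LD3_c14)) :=
  Lre_e IH (LK LD1_c7 LD2_c14 LD3_c36) (LK LD1_c13 LD2_c42 LD3_c14) Lrfl Lrfl
theorem f568713 : Led Lsl_bf (LP (LK LD1_c12 LD2_c5 LD3_c8)) = (LP (LK LD1_c13 LD2_c42 LD3_c14)) :=
  Lgr Lrot96 (Lpr_et (K16.f193510 IH) (Lpr_bt (f568709 IH) (Lpr_et (f566068 IH) (Lpn (LP (LK LD1_c13 LD2_c42 LD3_c14))))))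
theorem f568720 : Led Lsl_ft (LP (LK LD1_c23 LD2_c8 LD3_c4)) = (LP (LK LD1_c13 LD2_c42 LD3_c14)) :=
  Lre_f IH (LK LD1_c23 LD2_c8 LD3_c4) (LK LD1_c13 LD2_c42 LD3_c14) Lrfl Lrfl
theorem f568721 : Led Lsl_bt (LP (LK LD1_c21 LD2_c10 LD3_c32)) = (LP (LK LD1_c23 LD2_c8 LD3_c4)) :=
  Lgr Lrot35 (Lpe (K16.f193516 IH) (Lpr_bf (f568713 IH) (Lpe (f568720 IH) (Lpn (LP (LK LD1_c23 LD2_c8 LD3_c4))))))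
theorem f239043 : Led Lsl_bt (LP (LK LD1_c26 LD2_c31 LD3_c0)) = (LP (LK LD1_c16 LD2_c34 LD3_c5)) :=
  Lre_b IH (LK LD1_c26 LD2_c31 LD3_c0) (LK LD1_c16 LD2_c34 LD3_c5) Lrfl Lrfl
theorem f568727 : Led Lsl_ef (LP (LK LD1_c26 LD2_c31 LD3_c0)) = (LP (LK LD1_c23 LD2_c8 LD3_c4)) :=
  Lgr Lrot29 (Lpr_bt (f239043 IH) (Lpe (K16.f271890 IH) (Lpr_bt (f568721 IH) (Lpn (LP (LK LD1_c23 LD2_c8 LD3_c4))))))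
theorem f239062 : Led Lsl_ft (LP (LK LD1_c26 LD2_c31 LD3_c0)) = (LP (LK LD1_c16 LD2_c34 LD3_c0)) :=
  Lre_f IH (LK LD1_c26 LD2_c31 LD3_c0) (LK LD1_c16 LD2_c34 LD3_c0) Lrfl Lrfl
theorem f239057 : Led Lsl_et (LP (LK LD1_c16 LD2_c34 LD3_c0)) = (LP (LK LD1_c8 LD2_c51 LD3_c40)) :=
  Lre_e IH (LK LD1_c16 LD2_c34 LD3_c0) (LK LD1_c8 LD2_c51 LD3_c40) Lrfl Lrfl
theorem f568732 : Led Lsl_ft (LP (LK LD1_c13 LD2_c42 LD3_c14)) = (LP (LK LD1_c23 LD2_c8 LD3_c4)) :=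
  Lre_f IH (LK LD1_c13 LD2_c42 LD3_c14) (LK LD1_c23 LD2_c8 LD3_c4) Lrfl Lrfl
theorem f568733 : Led Lsl_ft (LP (LK LD1_c8 LD2_c51 LD3_c40)) = (LP (LK LD1_c7 LD2_c14 LD3_c36)) :=
  Lgr Lrot86 (Lpe (f239057 IH) (Lpe (f239062 IH) (Lpr_ef (f568727 IH) (Lpe (f568732 IH) (Lpe (f566068 IH) (Lpn (LP (LK LD1_c7 LD2_c14 LD3_c36))))))))
theorem f6428 : Led Lsl_at (LP (LK LD1_c3 LD2_c36 LD3_c21)) = (LP (LK LD1_c1 LD2_c45 LD3_c29)) :=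
  Lre_a IH (LK LD1_c3 LD2_c36 LD3_c21) (LK LD1_c1 LD2_c45 LD3_c29) Lrfl Lrfl
theorem f98121 : Led Lsl_at (LP (LK LD1_c3 LD2_c37 LD3_c6)) = (LP (LK LD1_c7 LD2_c8 LD3_c19)) :=
  Lgr Lrot80 (Lpe (K41.f6303 IH) (Lpe (f6428 IH) (Lpr_ef (K36.f98119 IH) (Lpn (LP (LK LD1_c7 LD2_c8 LD3_c19))))))
theorem f6464 : Led Lsl_ft (LP (LK LD1_c7 LD2_c14 LD3_c38)) = (LP (LK LD1_c3 LD2_c37 LD3_c6)) :=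
  Lre_f IH (LK LD1_c7 LD2_c14 LD3_c38) (LK LD1_c3 LD2_c37 LD3_c6) Lrfl Lrfl
theorem f6552 : Led Lsl_gt (LP (LK LD1_c13 LD2_c31 LD3_c13)) = (LP (LK LD1_c7 LD2_c8 LD3_c19)) :=
  Lre_g IH (LK LD1_c13 LD2_c31 LD3_c13) (LK LD1_c7 LD2_c8 LD3_c19) Lrfl Lrfl
theorem f98465 : Led Lsl_gt (LP (LK LD1_c7 LD2_c14 LD3_c38)) = (LP (LK LD1_c13 LD2_c31 LD3_c13)) :=
  Lgr Lrot5 (Lpr_ft (f6464 IH) (Lpr_at (f98121 IH) (Lpe (f6552 IH) (Lpn (LP (LK LD1_c13 LD2_c31 LD3_c13))))))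
theorem f568737 : Led Lsl_af (LP (LK LD1_c13 LD2_c31 LD3_c13)) = (LP (LK LD1_c7 LD2_c14 LD3_c36)) :=
  Lgr Lrot31 (Lpe (f98465 IH) (Lpr_gf (K41.f540975 IH) (Lpr_ft (f568733 IH) (Lpn (LP (LK LD1_c7 LD2_c14 LD3_c36))))))
theorem f565616 : Led Lsl_at (LP (LK LD1_c7 LD2_c14 LD3_c35)) = (LP (LK LD1_c8 LD2_c51 LD3_c40)) :=
  Lgr Lrot51 (Lpr_df (K41.f565589 IH) (Lpe (K41.f538554 IH) (Lpe (K41.f198226 IH) (Lpn (LP (LK LD1_c8 LD2_c51 LD3_c40))))))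
theorem f568749 : Led Lsl_ft (LP (LK LD1_c13 LD2_c31 LD3_c13)) = (LP (LK LD1_c7 LD2_c14 LD3_c35)) :=
  Lgr Lrot101 (Lpr_af (f568737 IH) (Lpe (f568733 IH) (Lpe (f565616 IH) (Lpn (LP (LK LD1_c7 LD2_c14 LD3_c35))))))
theorem f5677 : Led Lsl_et (LP (LK LD1_c7 LD2_c19 LD3_c15)) = (LP (LK LD1_c3 LD2_c39 LD3_c31)) :=
  Lre_e IH (LK LD1_c7 LD2_c19 LD3_c15) (LK LD1_c3 LD2_c39 LD3_c31) Lrfl Lrfl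
theorem f98055 : Led Lsl_dt (LP (LK LD1_c7 LD2_c19 LD3_c15)) = (LP (LK LD1_c13 LD2_c31 LD3_c13)) :=
  Lgr Lrot136 (Lpr_et (f5677 IH) (Lpe (K41.f5185 IH) (Lpe (K0.f5223 IH) (Lpr_dt (K0.f5231 IH) (Lpe (K2.f5238 IH) (Lpr_df (K3.f93150 IH) (Lpr_gf (K3.f98045 IH) (Lpe (K41.f98053 IH) (Lpr_dt (K36.f98054 IH) (Lpe (f6552 IH) (Lpn (LP (LK LD1_c13 LD2_c31 LD3_c13)))))))))))))
theorem f98058 : Led Lsl_df (LP (LK LD1_c7 LD2_c19 LD3_c15)) = (LP (LK LD1_c13 LD2_c31 LD3_c13)) :=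
  Lgr Lrot38 (Lpr_dt (f98055 IH) (Lpn (LP (LK LD1_c13 LD2_c31 LD3_c13))))
theorem f198227 : Led Lsl_ct (LP (LK LD1_c16 LD2_c33 LD3_c61)) = (LP (LK LD1_c8 LD2_c51 LD3_c40)) :=
  Lre_c IH (LK LD1_c16 LD2_c33 LD3_c61) (LK LD1_c8 LD2_c51 LD3_c40) Lrfl Lrfl
theorem f198229 : Led Lsl_dt (LP (LK LD1_c26 LD2_c30 LD3_c60)) = (LP (LK LD1_c16 LD2_c33 LD3_c61)) :=
  Lre_d IH (LK LD1_c26 LD2_c30 LD3_c60) (LK LD1_c16 LD2_c33 LD3_c61) Lrfl Lrfl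
theorem f540988 : Led Lsl_dt (LP (LK LD1_c13 LD2_c31 LD3_c30)) = (LP (LK LD1_c22 LD2_c52 LD3_c55)) :=
  Lre_d IH (LK LD1_c13 LD2_c31 LD3_c30) (LK LD1_c22 LD2_c52 LD3_c55) Lrfl Lrfl
theorem f540992 : Led Lsl_ct (LP (LK LD1_c22 LD2_c52 LD3_c55)) = (LP (LK LD1_c26 LD2_c30 LD3_c60)) :=
  Lgr Lrot41 (Lpe (f540988 IH) (Lpr_cf (K41.f540982 IH) (Lpe (K41.f411104 IH) (Lpr_ft (K35.f538560 IH) (Lpe (K35.f538549 IH) (Lpe (K41.f198001 IH) (Lpe (K41.f198226 IH) (Lpe (f198227 IH) (Lpe (f198229 IH) (Lpn (LP (LK LD1_c26 LD2_c30 LD3_c60))))))))))))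
theorem f568762 : Led Lsl_ct (LP (LK LD1_c7 LD2_c19 LD3_c15)) = (LP (LK LD1_c12 LD2_c5 LD3_c21)) :=
  Lgr Lrot133 (Lpr_df (f98058 IH) (Lpr_ft (f568749 IH) (Lpr_at (f565616 IH) (Lpe (f198227 IH) (Lpe (f198229 IH) (Lpe (f540992 IH) (Lpe (f540988 IH) (Lpr_cf (K41.f540982 IH) (Lpe (K41.f411104 IH) (Lpn (LP (LK LD1_c12 LD2_c5 LD3_c21))))))))))))
theorem f538282 : Led Lsl_gt (LP (LK LD1_c7 LD2_c56 LD3_c49)) = (LP (LK LD1_c12 LD2_c5 LD3_c21)) :=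
  Lgr Lrot46 (Lpr_gf (K36.f538280 IH) (Lpe (K35.f411106 IH) (Lpr_at (K35.f175027 IH) (Lpn (LP (LK LD1_c12 LD2_c5 LD3_c21))))))
theorem f556692 : Led Lsl_cf (LP (LK LD1_c7 LD2_c56 LD3_c49)) = (LP (LK LD1_c4 LD2_c24 LD3_c50)) :=
  Lgr Lrot11 (Lpr_ct (K39.f556685 IH) (Lpn (LP (LK LD1_c4 LD2_c24 LD3_c50))))
theorem f35475 : Led Lsl_bt (LP (LK LD1_c1 LD2_c2 LD3_c2)) = (LP (LK LD1_c2 LD2_c9 LD3_c53)) :=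
  Lre_b IH (LK LD1_c1 LD2_c2 LD3_c2) (LK LD1_c2 LD2_c9 LD3_c53) Lrfl Lrfl
theorem f539959 : Led Lsl_gf (LP (LK LD1_c4 LD2_c25 LD3_c5)) = (LP (LK LD1_c5 LD2_c53 LD3_c37)) :=
  Lgr Lrot129 (Lpe (K36.f418549 IH) (Lpr_bt (K40.f20398 IH) (Lpr_gt (K9.f20324 IH) (Lpe (K36.f20311 IH) (Lpe (K36.f20314 IH) (Lpr_gt (K36.f494354 IH) (Lpq (K36.f539953 IH) (Lpr_cf (K2.f72281 IH) (Lpr_bt (K36.f72381 IH) (Lpr_gt (K36.f72382 IH) (Lpr_ct (K41.f72383 IH) (Lpn (LP (LK LD1_c5 LD2_c53 LD3_c37))))))))))))))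
theorem f568772 : Led Lsl_bt (LP (LK LD1_c7 LD2_c19 LD3_c15)) = (LP (LK LD1_c5 LD2_c53 LD3_c37)) :=
  Lgr Lrot22 (Lpr_ct (f568762 IH) (Lpe (f538282 IH) (Lpr_cf (f556692 IH) (Lpe (K39.f35476 IH) (Lpe (f35475 IH) (Lpr_ct (K1.f35456 IH) (Lpe (K12.f35469 IH) (Lpe (K12.f35472 IH) (Lpr_bt (K37.f227674 IH) (Lpr_gf (f539959 IH) (Lpn (LP (LK LD1_c5 LD2_c53 LD3_c37)))))))))))))
theorem f556690 : Led Lsl_bf (LP (LK LD1_c7 LD2_c59 LD3_c54)) = (LP (LK LD1_c4 LD2_c24 LD3_c50)) :=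
  Lgr Lrot90 (Lpe (K38.f161352 IH) (Lpr_bt (K40.f37855 IH) (Lpr_ct (K39.f37854 IH) (Lpr_bt (K36.f37839 IH) (Lpr_ct (K39.f556685 IH) (Lpn (LP (LK LD1_c4 LD2_c24 LD3_c50))))))))
theorem f568774 : Led Lsl_gf (LP (LK LD1_c7 LD2_c59 LD3_c54)) = (LP (LK LD1_c4 LD2_c58 LD3_c55)) :=
  Lgr Lrot124 (Lpr_bf (f556690 IH) (Lpe (f556692 IH) (Lpr_gt (f538282 IH) (Lpe (f568762 IH) (Lpr_bt (f568772 IH) (Lpe (f539959 IH) (Lpe (K39.f418551 IH) (Lpe (K40.f556704 IH) (Lpe (K41.f101728 IH) (Lpe (K6.f101717 IH) (Lpn (LP (LK LD1_c4 LD2_c58 LD3_c55)))))))))))))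
theorem f568778 : Led Lsl_gt (LP (LK LD1_c4 LD2_c35 LD3_c53)) = (LP (LK LD1_c2 LD2_c15 LD3_c23)) :=
  Lgr Lrot149 (Lpr_cf (K38.f161352 IH) (Lpr_gf (f568774 IH) (Lpr_bf (K6.f101717 IH) (Lpr_ct (K41.f101728 IH) (Lpr_gf (K40.f556704 IH) (Lpr_cf (K39.f418551 IH) (Lpr_bt (K36.f227660 IH) (Lpe (K13.f227655 IH) (Lpr_bf (K39.f420737 IH) (Lpr_ct (K38.f71227 IH) (Lpn (LP (LK LD1_c2 LD2_c15 LD3_c23)))))))))))))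
theorem f568786 : Led Lsl_bt (LP (LK LD1_c7 LD2_c59 LD3_c54)) = (LP (LK LD1_c4 LD2_c24 LD3_c50)) :=
  Lgr Lrot92 (Lpe (K38.f161352 IH) (Lpr_gt (f568778 IH) (Lpe (K38.f71227 IH) (Lpe (K39.f420737 IH) (Lpr_gt (K13.f227655 IH) (Lpr_ct (K12.f35472 IH) (Lpr_gt (K12.f35469 IH) (Lpe (K1.f35456 IH) (Lpr_bt (f35475 IH) (Lpr_gt (K39.f35476 IH) (Lpn (LP (LK LD1_c4 LD2_c24 LD3_c50)))))))))))))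
theorem f71221 : Led Lsl_at (LP (LK LD1_c4 LD2_c36 LD3_c4)) = (LP (LK LD1_c2 LD2_c15 LD3_c23)) :=
  Lre_a IH (LK LD1_c4 LD2_c36 LD3_c4) (LK LD1_c2 LD2_c15 LD3_c23) Lrfl Lrfl
theorem f568780 : Led Lsl_gf (LP (LK LD1_c4 LD2_c35 LD3_c53)) = (LP (LK LD1_c2 LD2_c15 LD3_c13)) :=
  Lgr Lrot47 (Lpr_gt (f568778 IH) (Lpe (f71221 IH) (Lpe (K2.f71102 IH) (Lpn (LP (LK LD1_c2 LD2_c15 LD3_c13))))))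
theorem f420757 : Led Lsl_bf (LP (LK LD1_c4 LD2_c25 LD3_c21)) = (LP (LK LD1_c4 LD2_c35 LD3_c61)) :=
  Lgr Lrot81 (Lpr_at (K41.f38471 IH) (Lpr_bt (K39.f38501 IH) (Lpr_at (K11.f38367 IH) (Lpr_bt (K39.f420754 IH) (Lpr_at (K38.f418475 IH) (Lpn (LP (LK LD1_c4 LD2_c35 LD3_c61))))))))
theorem f556696 : Led Lsl_gt (LP (LK LD1_c4 LD2_c24 LD3_c50)) = (LP (LK LD1_c8 LD2_c46 LD3_c61)) :=
  Lre_g IH (LK LD1_c4 LD2_c24 LD3_c50) (LK LD1_c8 LD2_c46 LD3_c61) Lrfl Lrfl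
theorem f568794 : Led Lsl_cf (LP (LK LD1_c7 LD2_c17 LD3_c30)) = (LP (LK LD1_c8 LD2_c46 LD3_c61)) :=
  Lgr Lrot125 (Lpe (K41.f565069 IH) (Lpe (K41.f38495 IH) (Lpe (K41.f227488 IH) (Lpr_gt (K41.f72139 IH) (Lpr_bf (f420757 IH) (Lpr_ct (K38.f71978 IH) (Lpe (f568780 IH) (Lpr_cf (K38.f161352 IH) (Lpr_bt (f568786 IH) (Lpr_gt (f556696 IH) (Lpn (LP (LK LD1_c8 LD2_c46 LD3_c61)))))))))))))
theorem f71443 : Led Lsl_bt (LP (LK LD1_c1 LD2_c4 LD3_c45)) = (LP (LK LD1_c0 LD2_c29 LD3_c38)) :=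
  Lre_b IH (LK LD1_c1 LD2_c4 LD3_c45) (LK LD1_c0 LD2_c29 LD3_c38) Lrfl Lrfl
theorem f71444 : Led Lsl_at (LP (LK LD1_c2 LD2_c15 LD3_c13)) = (LP (LK LD1_c1 LD2_c4 LD3_c45)) :=
  Lre_a IH (LK LD1_c2 LD2_c15 LD3_c13) (LK LD1_c1 LD2_c4 LD3_c45) Lrfl Lrfl
theorem f71447 : Led Lsl_bf (LP (LK LD1_c2 LD2_c15 LD3_c13)) = (LP (LK LD1_c1 LD2_c23 LD3_c9)) :=
  Lgr Lrot81 (Lpr_at (f71444 IH) (Lpr_bt (f71443 IH) (Lpr_at (K2.f71438 IH) (Lpr_bt (K2.f71445 IH) (Lpr_at (K37.f71446 IH) (Lpn (LP (LK LD1_c1 LD2_c23 LD3_c9))))))))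
theorem f420829 : Led Lsl_ct (LP (LK LD1_c2 LD2_c54 LD3_c16)) = (LP (LK LD1_c1 LD2_c23 LD3_c9)) :=
  Lre_c IH (LK LD1_c2 LD2_c54 LD3_c16) (LK LD1_c1 LD2_c23 LD3_c9) Lrfl Lrfl
theorem f37511 : Led Lsl_ft (LP (LK LD1_c2 LD2_c26 LD3_c55)) = (LP (LK LD1_c1 LD2_c10 LD3_c43)) :=
  Lre_f IH (LK LD1_c2 LD2_c26 LD3_c55) (LK LD1_c1 LD2_c10 LD3_c43) Lrfl Lrfl
theorem f37552 : Led Lsl_at (LP (LK LD1_c1 LD2_c10 LD3_c43)) = (LP (LK LD1_c1 LD2_c2 LD3_c2)) :=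
  Lgr Lrot33 (Lpe (f37511 IH) (Lpr_dt (K1.f37495 IH) (Lpr_ct (K1.f37540 IH) (Lpr_dt (K1.f35459 IH) (Lpr_ct (K1.f35458 IH) (Lpr_dt (K1.f35457 IH) (Lpr_ct (K1.f35456 IH) (Lpr_dt (K1.f35454 IH) (Lpr_ct (K12.f35460 IH) (Lpn (LP (LK LD1_c1 LD2_c2 LD3_c2))))))))))))
theorem f82169 : Led Lsl_at (LP (LK LD1_c2 LD2_c54 LD3_c16)) = (LP (LK LD1_c1 LD2_c23 LD3_c13)) :=
  Lre_a IH (LK LD1_c2 LD2_c54 LD3_c16) (LK LD1_c1 LD2_c23 LD3_c13) Lrfl Lrfl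
theorem f82170 : Led Lsl_bt (LP (LK LD1_c4 LD2_c24 LD3_c45)) = (LP (LK LD1_c2 LD2_c54 LD3_c16)) :=
  Lgr Lrot62 (Lpe (K41.f38472 IH) (Lpe (f35475 IH) (Lpe (f37552 IH) (Lpr_bf (K2.f82146 IH) (Lpe (f82169 IH) (Lpn (LP (LK LD1_c2 LD2_c54 LD3_c16))))))))
theorem f420830 : Led Lsl_ct (LP (LK LD1_c4 LD2_c25 LD3_c21)) = (LP (LK LD1_c4 LD2_c24 LD3_c45)) :=
  Lgr Lrot83 (Lpr_bf (f420757 IH) (Lpe (K38.f71985 IH) (Lpr_bf (f71447 IH) (Lpe (f420829 IH) (Lpe (f82170 IH) (Lpn (LP (LK LD1_c4 LD2_c24 LD3_c45))))))))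
theorem f38593 : Led Lsl_et (LP (LK LD1_c2 LD2_c10 LD3_c4)) = (LP (LK LD1_c4 LD2_c25 LD3_c21)) :=
  Lre_e IH (LK LD1_c2 LD2_c10 LD3_c4) (LK LD1_c4 LD2_c25 LD3_c21) Lrfl Lrfl
theorem f72087 : Led Lsl_bt (LP (LK LD1_c4 LD2_c25 LD3_c21)) = (LP (LK LD1_c4 LD2_c35 LD3_c61)) :=
  Lgr Lrot119 (Lpe (f38593 IH) (Lpr_bf (K2.f71968 IH) (Lpe (K38.f71086 IH) (Lpn (LP (LK LD1_c4 LD2_c35 LD3_c61))))))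
theorem f545137 : Led Lsl_bf (LP (LK LD1_c2 LD2_c54 LD3_c30)) = (LP (LK LD1_c4 LD2_c24 LD3_c43)) :=
  Lgr Lrot96 (Lpr_et (K38.f545133 IH) (Lpr_bt (K6.f36007 IH) (Lpr_et (K35.f70499 IH) (Lpn (LP (LK LD1_c4 LD2_c24 LD3_c43))))))
theorem f559807 : Led Lsl_gt (LP (LK LD1_c4 LD2_c24 LD3_c45)) = (LP (LK LD1_c8 LD2_c46 LD3_c39)) :=
  Lgr Lrot65 (Lpe (f420830 IH) (Lpr_bt (f72087 IH) (Lpe (K38.f418476 IH) (Lpe (K38.f82184 IH) (Lpr_ct (K37.f82183 IH) (Lpr_gf (K37.f500541 IH) (Lpqs (K40.f545834 IH) (Lpe (K40.f198231 IH) (Lpr_gf (K40.f559796 IH) (Lpr_bf (f545137 IH) (Lpr_ct (K35.f137878 IH) (Lpn (LP (LK LD1_c8 LD2_c46 LD3_c39))))))))))))))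
theorem f568802 : Led Lsl_bf (LP (LK LD1_c4 LD2_c38 LD3_c23)) = (LP (LK LD1_c8 LD2_c46 LD3_c61)) :=
  Lgr Lrot34 (Lpr_gf (K40.f559796 IH) (Lpr_bf (f545137 IH) (Lpr_ct (K35.f137878 IH) (Lpe (f559807 IH) (Lpe (f420830 IH) (Lpe (K41.f72139 IH) (Lpr_bf (K41.f227488 IH) (Lpr_ct (K41.f38495 IH) (Lpr_gf (K41.f565069 IH) (Lpr_cf (f568794 IH) (Lpn (LP (LK LD1_c8 LD2_c46 LD3_c61)))))))))))))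
theorem f5627 : Led Lsl_ct (LP (LK LD1_c3 LD2_c38 LD3_c34)) = (LP (LK LD1_c7 LD2_c17 LD3_c28)) :=
  Lre_c IH (LK LD1_c3 LD2_c38 LD3_c34) (LK LD1_c7 LD2_c17 LD3_c28) Lrfl Lrfl
theorem f568797 : Led Lsl_et (LP (LK LD1_c7 LD2_c17 LD3_c28)) = (LP (LK LD1_c8 LD2_c46 LD3_c61)) :=
  Lgr Lrot158 (Lpe (f5627 IH) (Lpe (K41.f5044 IH) (Lpr_cf (f568794 IH) (Lpn (LP (LK LD1_c8 LD2_c46 LD3_c61))))))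
theorem f568804 : Led Lsl_bt (LP (LK LD1_c8 LD2_c38 LD3_c13)) = (LP (LK LD1_c7 LD2_c17 LD3_c28)) :=
  Lgr Lrot119 (Lpe (K40.f559833 IH) (Lpr_bf (f568802 IH) (Lpe (f568797 IH) (Lpn (LP (LK LD1_c7 LD2_c17 LD3_c28))))))
theorem f96999 : Led Lsl_et (LP (LK LD1_c3 LD2_c46 LD3_c24)) = (LP (LK LD1_c1 LD2_c50 LD3_c16)) :=
  Lre_e IH (LK LD1_c3 LD2_c46 LD3_c24) (LK LD1_c1 LD2_c50 LD3_c16) Lrfl Lrfl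
theorem f543940 : Led Lsl_bt (LP (LK LD1_c5 LD2_c53 LD3_c57)) = (LP (LK LD1_c3 LD2_c46 LD3_c24)) :=
  Lgr Lrot119 (Lpr_ef (K37.f543938 IH) (Lpe (K3.f98529 IH) (Lpe (f96999 IH) (Lpn (LP (LK LD1_c3 LD2_c46 LD3_c24))))))
theorem f568815 : Led Lsl_gt (LP (LK LD1_c3 LD2_c46 LD3_c24)) = (LP (LK LD1_c7 LD2_c17 LD3_c28)) :=
  Lgr Lrot164 (Lpe (f543940 IH) (Lpr_ct (K37.f227343 IH) (Lpe (K37.f112388 IH) (Lpe (K37.f71813 IH) (Lpe (K37.f71822 IH) (Lpe (K38.f420740 IH) (Lpr_ct (K38.f34910 IH) (Lpe (K38.f34971 IH) (Lpr_cf (K37.f34942 IH) (Lpr_bt (f568804 IH) (Lpn (LP (LK LD1_c7 LD2_c17 LD3_c28)))))))))))))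
theorem f94495 : Led Lsl_et (LP (LK LD1_c1 LD2_c50 LD3_c16)) = (LP (LK LD1_c3 LD2_c46 LD3_c24)) :=
  Lre_e IH (LK LD1_c1 LD2_c50 LD3_c16) (LK LD1_c3 LD2_c46 LD3_c24) Lrfl Lrfl
theorem f80702 : Led Lsl_et (LP (LK LD1_c4 LD2_c24 LD3_c18)) = (LP (LK LD1_c2 LD2_c9 LD3_c36)) :=
  Lre_e IH (LK LD1_c4 LD2_c24 LD3_c18) (LK LD1_c2 LD2_c9 LD3_c36) Lrfl Lrfl
theorem f506285 : Led Lsl_bf (LP (LK LD1_c4 LD2_c24 LD3_c18)) = K35.v1894 :=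
  Lgr Lrot96 (Lpr_et (f80702 IH) (Lpr_bt (K36.f202825 IH) (Lpr_et (K35.f506283 IH) (Lpn K35.v1894))))
theorem f540713 : Led Lsl_ft (LP (LK LD1_c4 LD2_c24 LD3_c18)) = (LP (LK LD1_c3 LD2_c32 LD3_c39)) :=
  Lgr Lrot75 (Lpr_bf (f506285 IH) (Lpq (K35.f537787 IH) (Lpe (K38.f206864 IH) (Lpr_bf (K36.f540703 IH) (Lpn (LP (LK LD1_c3 LD2_c32 LD3_c39)))))))
theorem f540785 : Led Lsl_gt (LP (LK LD1_c3 LD2_c9 LD3_c50)) = (LP (LK LD1_c3 LD2_c35 LD3_c47)) :=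
  Lgr Lrot46 (Lpr_gf (K36.f540783 IH) (Lpr_ft (f540713 IH) (Lpe (K36.f441596 IH) (Lpn (LP (LK LD1_c3 LD2_c35 LD3_c47))))))
theorem f118914 : Led Lsl_et (LP (LK LD1_c6 LD2_c24 LD3_c25)) = (LP (LK LD1_c3 LD2_c9 LD3_c50)) :=
  Lre_e IH (LK LD1_c6 LD2_c24 LD3_c25) (LK LD1_c3 LD2_c9 LD3_c50) Lrfl Lrfl
theorem f28646 : Led Lsl_bt (LP (LK LD1_c1 LD2_c0 LD3_c61)) = (LP (LK LD1_c2 LD2_c7 LD3_c48)) :=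
  Lre_b IH (LK LD1_c1 LD2_c0 LD3_c61) (LK LD1_c2 LD2_c7 LD3_c48) Lrfl Lrfl
theorem f35774 : Led Lsl_et (LP (LK LD1_c2 LD2_c7 LD3_c48)) = (LP (LK LD1_c1 LD2_c55 LD3_c37)) :=
  Lgr Lrot74 (Lpe (f28646 IH) (Lpr_ef (K1.f35772 IH) (Lpe (K1.f35601 IH) (Lpn (LP (LK LD1_c1 LD2_c55 LD3_c37))))))
theorem f36108 : Led Lsl_dt (LP (LK LD1_c2 LD2_c7 LD3_c48)) = (LP (LK LD1_c4 LD2_c20 LD3_c39)) :=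
  Lre_d IH (LK LD1_c2 LD2_c7 LD3_c48) (LK LD1_c4 LD2_c20 LD3_c39) Lrfl Lrfl
theorem f36114 : Led Lsl_gt (LP (LK LD1_c8 LD2_c38 LD3_c61)) = (LP (LK LD1_c4 LD2_c20 LD3_c39)) :=
  Lre_g IH (LK LD1_c8 LD2_c38 LD3_c61) (LK LD1_c4 LD2_c20 LD3_c39) Lrfl Lrfl
theorem f540796 : Led Lsl_dt (LP (LK LD1_c6 LD2_c24 LD3_c25)) = (LP (LK LD1_c8 LD2_c38 LD3_c61)) :=
  Lgr Lrot136 (Lpr_et (f118914 IH) (Lpr_gf (K36.f540783 IH) (Lpe (K36.f80706 IH) (Lpr_dt (K11.f80704 IH) (Lpe (K11.f202902 IH) (Lpr_df (K36.f150063 IH) (Lpe (K7.f36047 IH) (Lpe (f35774 IH) (Lpr_dt (f36108 IH) (Lpe (f36114 IH) (Lpn (LP (LK LD1_c8 LD2_c38 LD3_c61)))))))))))))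
theorem f568810 : Led Lsl_dt (LP (LK LD1_c7 LD2_c17 LD3_c28)) = (LP (LK LD1_c13 LD2_c47 LD3_c32)) :=
  Lre_d IH (LK LD1_c7 LD2_c17 LD3_c28) (LK LD1_c13 LD2_c47 LD3_c32) Lrfl Lrfl
theorem f568823 : Led Lsl_gf (LP (LK LD1_c8 LD2_c38 LD3_c61)) = (LP (LK LD1_c13 LD2_c47 LD3_c32)) :=
  Lgr Lrot134 (Lpe (f540796 IH) (Lpr_et (f118914 IH) (Lpr_gt (f540785 IH) (Lpe (K37.f98492 IH) (Lpr_dt (K3.f18054 IH) (Lpe (K3.f97281 IH) (Lpe (K3.f62822 IH) (Lpr_et (f94495 IH) (Lpr_gt (f568815 IH) (Lpr_dt (f568810 IH) (Lpn (LP (LK LD1_c13 LD2_c47 LD3_c32)))))))))))))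
theorem f541870 : Led Lsl_dt (LP (LK LD1_c7 LD2_c56 LD3_c48)) = (LP (LK LD1_c13 LD2_c38 LD3_c29)) :=
  Lgr Lrot42 (Lpr_df (K36.f541864 IH) (Lpn (LP (LK LD1_c13 LD2_c38 LD3_c29))))
theorem f568830 : Led Lsl_et (LP (LK LD1_c7 LD2_c56 LD3_c48)) = (LP (LK LD1_c4 LD2_c24 LD3_c50)) :=
  Lgr Lrot185 (Lpr_dt (f541870 IH) (Lpe (K36.f511220 IH) (Lpe (K36.f97143 IH) (Lpe (f540785 IH) (Lpe (f118914 IH) (Lpr_dt (f540796 IH) (Lpr_gf (f568823 IH) (Lpe (f568810 IH) (Lpr_et (f568797 IH) (Lpe (f556696 IH) (Lpn (LP (LK LD1_c4 LD2_c24 LD3_c50)))))))))))))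
theorem f38487 : Led Lsl_dt (LP (LK LD1_c8 LD2_c46 LD3_c61)) = (LP (LK LD1_c16 LD2_c26 LD3_c3)) :=
  Lre_d IH (LK LD1_c8 LD2_c46 LD3_c61) (LK LD1_c16 LD2_c26 LD3_c3) Lrfl Lrfl
theorem f556697 : Led Lsl_gt (LP (LK LD1_c16 LD2_c26 LD3_c3)) = (LP (LK LD1_c8 LD2_c47 LD3_c13)) :=
  Lre_g IH (LK LD1_c16 LD2_c26 LD3_c3) (LK LD1_c8 LD2_c47 LD3_c13) Lrfl Lrfl
theorem f568834 : Led Lsl_dt (LP (LK LD1_c7 LD2_c12 LD3_c9)) = (LP (LK LD1_c8 LD2_c47 LD3_c13)) :=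
  Lgr Lrot56 (Lpr_et (K34.f97411 IH) (Lpr_gt (K3.f97029 IH) (Lpe (K40.f97125 IH) (Lpr_dt (K36.f97143 IH) (Lpr_gt (K36.f511220 IH) (Lpe (f541870 IH) (Lpr_et (f568830 IH) (Lpr_gt (f556696 IH) (Lpr_dt (f38487 IH) (Lpr_gt (f556697 IH) (Lpn (LP (LK LD1_c8 LD2_c47 LD3_c13)))))))))))))
theorem f540977 : Led Lsl_ct (LP (LK LD1_c7 LD2_c8 LD3_c18)) = (LP (LK LD1_c13 LD2_c26 LD3_c44)) :=
  Lgr Lrot8 (Lpr_gt (K41.f6554 IH) (Lpr_dt (K36.f98054 IH) (Lpr_gt (K41.f540973 IH) (Lpr_dt (K41.f198226 IH) (Lpr_cf (K36.f198026 IH) (Lpe (K41.f198225 IH) (Lpr_gf (K41.f540612 IH) (Lpe (K34.f97393 IH) (Lpe (K41.f97426 IH) (Lpn (LP (LK LD1_c13 LD2_c26 LD3_c44))))))))))))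
theorem f6133 : Led Lsl_dt (LP (LK LD1_c3 LD2_c37 LD3_c6)) = (LP (LK LD1_c1 LD2_c45 LD3_c26)) :=
  Lre_d IH (LK LD1_c3 LD2_c37 LD3_c6) (LK LD1_c1 LD2_c45 LD3_c26) Lrfl Lrfl
theorem f98285 : Led Lsl_at (LP (LK LD1_c1 LD2_c45 LD3_c26)) = (LP (LK LD1_c3 LD2_c33 LD3_c44)) :=
  Lgr Lrot51 (Lpe (f6133 IH) (Lpr_af (K36.f98282 IH) (Lpe (K36.f98054 IH) (Lpn (LP (LK LD1_c3 LD2_c33 LD3_c44))))))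
theorem f98412 : Led Lsl_gt (LP (LK LD1_c3 LD2_c37 LD3_c7)) = (LP (LK LD1_c7 LD2_c8 LD3_c18)) :=
  Lgr Lrot5 (Lpr_ft (K29.f6137 IH) (Lpr_at (f98285 IH) (Lpe (K41.f6554 IH) (Lpn (LP (LK LD1_c7 LD2_c8 LD3_c18))))))
theorem f98057 : Led Lsl_ct (LP (LK LD1_c13 LD2_c31 LD3_c13)) = (LP (LK LD1_c22 LD2_c52 LD3_c15)) :=
  Lre_c IH (LK LD1_c13 LD2_c31 LD3_c13) (LK LD1_c22 LD2_c52 LD3_c15) Lrfl Lrfl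
theorem f568846 : Led Lsl_ct (LP (LK LD1_c16 LD2_c26 LD3_c33)) = (LP (LK LD1_c8 LD2_c47 LD3_c13)) :=
  Lre_c IH (LK LD1_c16 LD2_c26 LD3_c33) (LK LD1_c8 LD2_c47 LD3_c13) Lrfl Lrfl
theorem f568847 : Led Lsl_gt (LP (LK LD1_c22 LD2_c52 LD3_c15)) = (LP (LK LD1_c16 LD2_c26 LD3_c33)) :=
  Lgr Lrot187 (Lpe (f98057 IH) (Lpe (f98465 IH) (Lpr_dt (K3.f6517 IH) (Lpr_gt (f98412 IH) (Lpr_ct (f540977 IH) (Lpr_gt (K41.f97426 IH) (Lpr_ct (K34.f97420 IH) (Lpr_dt (f568834 IH) (Lpe (f568846 IH) (Lpn (LP (LK LD1_c16 LD2_c26 LD3_c33))))))))))))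
theorem f6519 : Led Lsl_gt (LP (LK LD1_c22 LD2_c47 LD3_c46)) = (LP (LK LD1_c13 LD2_c31 LD3_c31)) :=
  Lre_g IH (LK LD1_c22 LD2_c47 LD3_c46) (LK LD1_c13 LD2_c31 LD3_c31) Lrfl Lrfl
theorem f541054 : Led Lsl_cf (LP (LK LD1_c22 LD2_c47 LD3_c46)) = (LP (LK LD1_c16 LD2_c25 LD3_c54)) :=
  Lgr Lrot11 (Lpr_ct (K41.f541052 IH) (Lpn (LP (LK LD1_c16 LD2_c25 LD3_c54))))
theorem f538528 : Led Lsl_dt (LP (LK LD1_c17 LD2_c2 LD3_c39)) = (LP (LK LD1_c26 LD2_c23 LD3_c16)) :=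
  Lgr Lrot77 (Lpe (K8.f142200 IH) (Lpe (K8.f142240 IH) (Lpr_ef (K35.f538521 IH) (Lpe (K41.f70524 IH) (Lpe (K41.f538527 IH) (Lpn (LP (LK LD1_c26 LD2_c23 LD3_c16))))))))
theorem f142195 : Led Lsl_bt (LP (LK LD1_c9 LD2_c9 LD3_c50)) = (LP (LK LD1_c17 LD2_c2 LD3_c39)) :=
  Lre_b IH (LK LD1_c9 LD2_c9 LD3_c50) (LK LD1_c17 LD2_c2 LD3_c39) Lrfl Lrfl
theorem f538530 : Led Lsl_dt (LP (LK LD1_c17 LD2_c2 LD3_c52)) = (LP (LK LD1_c9 LD2_c9 LD3_c50)) :=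
  Lre_d IH (LK LD1_c17 LD2_c2 LD3_c52) (LK LD1_c9 LD2_c9 LD3_c50) Lrfl Lrfl
theorem f538531 : Led Lsl_bf (LP (LK LD1_c17 LD2_c2 LD3_c52)) = (LP (LK LD1_c26 LD2_c23 LD3_c16)) :=
  Lgr Lrot93 (Lpr_dt (f538530 IH) (Lpr_bt (f142195 IH) (Lpr_dt (f538528 IH) (Lpn (LP (LK LD1_c26 LD2_c23 LD3_c16))))))
theorem f538536 : Led Lsl_et (LP (LK LD1_c17 LD2_c2 LD3_c52)) = (LP (LK LD1_c9 LD2_c9 LD3_c56)) :=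
  Lre_e IH (LK LD1_c17 LD2_c2 LD3_c52) (LK LD1_c9 LD2_c9 LD3_c56) Lrfl Lrfl
theorem f538537 : Led Lsl_bt (LP (LK LD1_c9 LD2_c9 LD3_c56)) = (LP (LK LD1_c16 LD2_c25 LD3_c54)) :=
  Lgr Lrot119 (Lpe (f538536 IH) (Lpr_bf (f538531 IH) (Lpe (K41.f70525 IH) (Lpn (LP (LK LD1_c16 LD2_c25 LD3_c54))))))
theorem f538542 : Led Lsl_bf (LP (LK LD1_c9 LD2_c9 LD3_c56)) = (LP (LK LD1_c16 LD2_c25 LD3_c54)) :=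
  Lgr Lrot24 (Lpr_bt (f538537 IH) (Lpn (LP (LK LD1_c16 LD2_c25 LD3_c54))))
theorem f568841 : Led Lsl_ct (LP (LK LD1_c8 LD2_c47 LD3_c13)) = (LP (LK LD1_c16 LD2_c26 LD3_c33)) :=
  Lre_c IH (LK LD1_c8 LD2_c47 LD3_c13) (LK LD1_c16 LD2_c26 LD3_c33) Lrfl Lrfl
theorem f568838 : Led Lsl_bt (LP (LK LD1_c8 LD2_c47 LD3_c13)) = (LP (LK LD1_c16 LD2_c26 LD3_c32)) :=
  Lre_b IH (LK LD1_c8 LD2_c47 LD3_c13) (LK LD1_c16 LD2_c26 LD3_c32) Lrfl Lrfl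
theorem f568852 : Led Lsl_gf (LP (LK LD1_c9 LD2_c9 LD3_c56)) = (LP (LK LD1_c16 LD2_c26 LD3_c32)) :=
  Lgr Lrot124 (Lpr_bf (f538542 IH) (Lpe (f541054 IH) (Lpr_gt (f6519 IH) (Lpe (K41.f6166 IH) (Lpe (K41.f6163 IH) (Lpr_gt (f98465 IH) (Lpr_ct (f98057 IH) (Lpr_gt (f568847 IH) (Lpe (f568841 IH) (Lpr_bt (f568838 IH) (Lpn (LP (LK LD1_c16 LD2_c26 LD3_c32)))))))))))))
theorem f538541 : Led Lsl_at (LP (LK LD1_c4 LD2_c37 LD3_c29)) = (LP (LK LD1_c9 LD2_c9 LD3_c56)) :=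
  Lre_a IH (LK LD1_c4 LD2_c37 LD3_c29) (LK LD1_c9 LD2_c9 LD3_c56) Lrfl Lrfl
theorem f272213 : Led Lsl_af (LP (LK LD1_c5 LD2_c0 LD3_c32)) = (LP (LK LD1_c4 LD2_c27 LD3_c5)) :=
  Lgr Lrot0 (Lpr_at (K16.f272211 IH) (Lpn (LP (LK LD1_c4 LD2_c27 LD3_c5))))
theorem f540914 : Led Lsl_bf (LP (LK LD1_c4 LD2_c37 LD3_c29)) = (LP (LK LD1_c5 LD2_c0 LD3_c32)) :=
  Lgr Lrot81 (Lpr_at (f538541 IH) (Lpr_bt (f538537 IH) (Lpr_at (K41.f540912 IH) (Lpr_bt (K41.f272223 IH) (Lpe (f272213 IH) (Lpn (LP (LK LD1_c5 LD2_c0 LD3_c32))))))))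
theorem f239200 : Led Lsl_bt (LP (LK LD1_c8 LD2_c51 LD3_c52)) = (LP (LK LD1_c4 LD2_c27 LD3_c1)) :=
  Lre_b IH (LK LD1_c8 LD2_c51 LD3_c52) (LK LD1_c4 LD2_c27 LD3_c1) Lrfl Lrfl
theorem f540935 : Led Lsl_ft (LP (LK LD1_c4 LD2_c37 LD3_c29)) = (LP (LK LD1_c8 LD2_c51 LD3_c52)) :=
  Lgr Lrot75 (Lpr_bf (f540914 IH) (Lpr_ff (K16.f272194 IH) (Lpe (f239200 IH) (Lpn (LP (LK LD1_c8 LD2_c51 LD3_c52))))))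
theorem f540940 : Led Lsl_ff (LP (LK LD1_c4 LD2_c37 LD3_c29)) = (LP (LK LD1_c8 LD2_c51 LD3_c52)) :=
  Lgr Lrot3 (Lpr_ft (f540935 IH) (Lpn (LP (LK LD1_c8 LD2_c51 LD3_c52))))
theorem f568855 : Led Lsl_gt (LP (LK LD1_c8 LD2_c51 LD3_c52)) = (LP (LK LD1_c16 LD2_c26 LD3_c32)) :=
  Lgr Lrot5 (Lpe (f540940 IH) (Lpr_at (f538541 IH) (Lpr_gf (f568852 IH) (Lpn (LP (LK LD1_c16 LD2_c26 LD3_c32))))))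
theorem f80951 : Led Lsl_dt (LP (LK LD1_c4 LD2_c27 LD3_c0)) = (LP (LK LD1_c8 LD2_c51 LD3_c52)) :=
  Lre_d IH (LK LD1_c4 LD2_c27 LD3_c0) (LK LD1_c8 LD2_c51 LD3_c52) Lrfl Lrfl
theorem f108541 : Led Lsl_et (LP (LK LD1_c13 LD2_c38 LD3_c28)) = (LP (LK LD1_c7 LD2_c12 LD3_c8)) :=
  Lre_e IH (LK LD1_c13 LD2_c38 LD3_c28) (LK LD1_c7 LD2_c12 LD3_c8) Lrfl Lrfl
theorem f568859 : Led Lsl_dt (LP (LK LD1_c13 LD2_c38 LD3_c28)) = (LP (LK LD1_c16 LD2_c26 LD3_c32)) :=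
  Lgr Lrot56 (Lpr_et (f108541 IH) (Lpr_gt (K8.f108539 IH) (Lpe (K41.f540436 IH) (Lpr_dt (K40.f36586 IH) (Lpe (K8.f161931 IH) (Lpe (K7.f149581 IH) (Lpr_et (K40.f149623 IH) (Lpe (K40.f557783 IH) (Lpr_dt (f80951 IH) (Lpr_gt (f568855 IH) (Lpn (LP (LK LD1_c16 LD2_c26 LD3_c32)))))))))))))
theorem f142137 : Led Lsl_dt (LP (LK LD1_c4 LD2_c37 LD3_c5)) = (LP (LK LD1_c9 LD2_c9 LD3_c56)) :=
  Lre_d IH (LK LD1_c4 LD2_c37 LD3_c5) (LK LD1_c9 LD2_c9 LD3_c56) Lrfl Lrfl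
theorem f568865 : Led Lsl_gf (LP (LK LD1_c7 LD2_c12 LD3_c8)) = (LP (LK LD1_c4 LD2_c24 LD3_c3)) :=
  Lgr Lrot141 (Lpe (f108541 IH) (Lpr_dt (f568859 IH) (Lpe (f568852 IH) (Lpe (f142137 IH) (Lpr_et (K35.f142136 IH) (Lpr_gt (K7.f148994 IH) (Lpr_dt (K7.f141927 IH) (Lpe (K7.f149003 IH) (Lpe (K6.f72987 IH) (Lpqs (K36.f537797 IH) (Lpe (K41.f506299 IH) (Lpn (LP (LK LD1_c4 LD2_c24 LD3_c3))))))))))))))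
theorem f97078 : Led Lsl_df (LP (LK LD1_c3 LD2_c36 LD3_c33)) = (LP (LK LD1_c7 LD2_c12 LD3_c8)) :=
  Lgr Lrot12 (Lpr_bt (K4.f10242 IH) (Lpr_dt (K3.f97030 IH) (Lpr_bt (K8.f97077 IH) (Lpn (LP (LK LD1_c7 LD2_c12 LD3_c8))))))
theorem f17410 : Led Lsl_dt (LP (LK LD1_c3 LD2_c36 LD3_c46)) = (LP (LK LD1_c1 LD2_c45 LD3_c13)) :=
  Lre_d IH (LK LD1_c3 LD2_c36 LD3_c46) (LK LD1_c1 LD2_c45 LD3_c13) Lrfl Lrfl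
theorem f568875 : Led Lsl_gt (LP (LK LD1_c4 LD2_c32 LD3_c57)) = (LP (LK LD1_c5 LD2_c40 LD3_c19)) :=
  Lgr Lrot131 (Lpe (K39.f552709 IH) (Lpr_dt (f17410 IH) (Lpe (K3.f97907 IH) (Lpr_df (f97078 IH) (Lpr_gf (f568865 IH) (Lpr_ef (K41.f506299 IH) (Lpq (K36.f537797 IH) (Lpr_dt (K6.f72987 IH) (Lpr_gf (K7.f149003 IH) (Lpe (K7.f141927 IH) (Lpr_et (K39.f552700 IH) (Lpn (LP (LK LD1_c5 LD2_c40 LD3_c19))))))))))))))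
theorem f494141 : Led Lsl_ct (LP (LK LD1_c4 LD2_c32 LD3_c57)) = (LP (LK LD1_c2 LD2_c13 LD3_c28)) :=
  Lre_c IH (LK LD1_c4 LD2_c32 LD3_c57) (LK LD1_c2 LD2_c13 LD3_c28) Lrfl Lrfl
theorem f39894 : Led Lsl_gt (LP (LK LD1_c16 LD2_c21 LD3_c51)) = (LP (LK LD1_c8 LD2_c44 LD3_c46)) :=
  Lre_g IH (LK LD1_c16 LD2_c21 LD3_c51) (LK LD1_c8 LD2_c44 LD3_c46) Lrfl Lrfl
theorem f39893 : Led Lsl_ct (LP (LK LD1_c8 LD2_c44 LD3_c46)) = (LP (LK LD1_c4 LD2_c23 LD3_c32)) :=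
  Lre_c IH (LK LD1_c8 LD2_c44 LD3_c46) (LK LD1_c4 LD2_c23 LD3_c32) Lrfl Lrfl
theorem f388245 : Led Lsl_dt (LP (LK LD1_c4 LD2_c23 LD3_c32)) = (LP (LK LD1_c2 LD2_c9 LD3_c10)) :=
  Lre_d IH (LK LD1_c4 LD2_c23 LD3_c32) (LK LD1_c2 LD2_c9 LD3_c10) Lrfl Lrfl
theorem f172430 : Led Lsl_ct (LP (LK LD1_c1 LD2_c3 LD3_c49)) = (LP (LK LD1_c2 LD2_c9 LD3_c10)) :=
  Lre_c IH (LK LD1_c1 LD2_c3 LD3_c49) (LK LD1_c2 LD2_c9 LD3_c10) Lrfl Lrfl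
theorem f553947 : Led Lsl_gt (LP (LK LD1_c11 LD2_c11 LD3_c18)) = (LP (LK LD1_c11 LD2_c6 LD3_c18)) :=
  Lgr Lrot9 (Lpe (K39.f181296 IH) (Lpe (K37.f542301 IH) (Lpr_ct (K16.f181719 IH) (Lpqs (K37.f542289 IH) (Lpe (K37.f494162 IH) (Lpr_ct (f172430 IH) (Lpe (f388245 IH) (Lpe (f39893 IH) (Lpe (f39894 IH) (Lpr_cf (K39.f553939 IH) (Lpn (LP (LK LD1_c11 LD2_c6 LD3_c18)))))))))))))
theorem f547425 : Led Lsl_df K36.v1511 = (LP (LK LD1_c4 LD2_c33 LD3_c6)) :=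
  Lgr Lrot78 (Lpe (K36.f495980 IH) (Lpe (K38.f547166 IH) (Lpr_ft (K38.f547419 IH) (Lpn (LP (LK LD1_c4 LD2_c33 LD3_c6))))))
def v1230 : LQ := Led Lsl_gf (LP (LK LD1_c1 LD2_c3 LD3_c47))
theorem f494169 : Led Lsl_gf (LP (LK LD1_c1 LD2_c3 LD3_c47)) = v1230 :=
  Lrfl
theorem f568886 : (LP (LK LD1_c2 LD2_c13 LD3_c28)) = v1230 :=
  (Llr Lrot8 (Lpe (f494141 IH) (Lpr_gt (f568875 IH) (Lpr_dt (K39.f181296 IH) (Lpr_gt (f553947 IH) (Lpr_dt (K39.f547320 IH) (Lpe (K38.f547315 IH) (Lpqs (K38.f547308 IH) (Lpr_df (f547425 IH) (Lpe (K38.f383986 IH) (Lpe (K38.f142123 IH) (Lpr_gf (f494169 IH) (Lpn v1230))))))))))))).symm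
def v1509 : LQ := Led Lsl_et (LP (LK LD1_c1 LD2_c20 LD3_c41))
theorem f495972 : Led Lsl_et (LP (LK LD1_c1 LD2_c20 LD3_c41)) = v1509 :=
  Lrfl
theorem f69202 : Led Lsl_et (LP (LK LD1_c0 LD2_c18 LD3_c49)) = (LP (LK LD1_c0 LD2_c42 LD3_c9)) :=
  Lre_e IH (LK LD1_c0 LD2_c18 LD3_c49) (LK LD1_c0 LD2_c42 LD3_c9) Lrfl Lrfl
theorem f453554 : Led Lsl_ef (LP (LK LD1_c2 LD2_c17 LD3_c50)) = K40.v481 :=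
  Lgr Lrot21 (Lpr_ft (K40.f36574 IH) (Lpr_et (K8.f26843 IH) (Lpr_ft (K32.f205703 IH) (Lpr_et (f69202 IH) (Lpr_ft (K40.f453552 IH) (Lpn K40.v481))))))
theorem f537879 : (LP (LK LD1_c2 LD2_c17 LD3_c50)) = v1509 :=
  Lefun (Lecon (Lfl_ef (f453554 IH)) (K40.f537693 IH).symm) (f495972 IH)
theorem f449993 : Led Lsl_gt (LP (LK LD1_c2 LD2_c50 LD3_c59)) = (LP (LK LD1_c5 LD2_c49 LD3_c42)) :=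
  Lre_g IH (LK LD1_c2 LD2_c50 LD3_c59) (LK LD1_c5 LD2_c49 LD3_c42) Lrfl Lrfl
theorem f568893 : Led Lsl_dt (LP (LK LD1_c4 LD2_c32 LD3_c61)) = (LP (LK LD1_c5 LD2_c49 LD3_c42)) :=
  Lgr Lrot56 (Lpr_et (K38.f494150 IH) (Lpqs (f568886 IH) (Lpe (f494169 IH) (Lpe (K37.f116972 IH) (Lpr_dt (K7.f116898 IH) (Lpr_gt (K6.f96652 IH) (Lpr_df (K6.f116894 IH) (Lpr_et (f495972 IH) (Lpq (f537879 IH) (Lpq (K40.f547083 IH) (Lpe (K40.f496195 IH) (Lpr_dt (K37.f210806 IH) (Lpr_gt (f449993 IH) (Lpn (LP (LK LD1_c5 LD2_c49 LD3_c42))))))))))))))))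
theorem f568905 : Led Lsl_ff (LP (LK LD1_c5 LD2_c42 LD3_c37)) = (LP (LK LD1_c5 LD2_c49 LD3_c42)) :=
  Lgr Lrot19 (Lpr_dt (f268863 IH) (Lpr_ft (K38.f549530 IH) (Lpr_dt (f568893 IH) (Lpn (LP (LK LD1_c5 LD2_c49 LD3_c42))))))
theorem f268730 : Led Lsl_at (LP (LK LD1_c5 LD2_c42 LD3_c37)) = (LP (LK LD1_c2 LD2_c47 LD3_c28)) :=
  Lre_a IH (LK LD1_c5 LD2_c42 LD3_c37) (LK LD1_c2 LD2_c47 LD3_c28) Lrfl Lrfl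
theorem f568915 : Led Lsl_gf (LP (LK LD1_c5 LD2_c43 LD3_c0)) = (LP (LK LD1_c5 LD2_c49 LD3_c42)) :=
  Lgr Lrot47 (Lpr_gt (K40.f172840 IH) (Lpe (f268730 IH) (Lpr_ff (f568905 IH) (Lpn (LP (LK LD1_c5 LD2_c49 LD3_c42))))))
theorem f568917 : Led Lsl_af (LP (LK LD1_c5 LD2_c43 LD3_c0)) = (LP (LK LD1_c4 LD2_c34 LD3_c16)) :=
  Lgr Lrot31 (Lpr_gf (f568915 IH) (Lpe (f449993 IH) (Lpe (K37.f449983 IH) (Lpn (LP (LK LD1_c4 LD2_c34 LD3_c16))))))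
theorem f568923 : Led Lsl_at (LP (LK LD1_c4 LD2_c41 LD3_c26)) = (LP (LK LD1_c2 LD2_c50 LD3_c59)) :=
  Lgr Lrot66 (Lpe (K41.f563556 IH) (Lpr_af (f568917 IH) (Lpr_ff (K37.f449983 IH) (Lpn (LP (LK LD1_c2 LD2_c50 LD3_c59))))))
theorem f547075 : Led Lsl_df (LP (LK LD1_c5 LD2_c49 LD3_c38)) = (LP (LK LD1_c7 LD2_c16 LD3_c44)) :=
  Lgr Lrot38 (Lpr_dt (K38.f547072 IH) (Lpn (LP (LK LD1_c7 LD2_c16 LD3_c44))))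
theorem f206561 : Led Lsl_gt (LP (LK LD1_c7 LD2_c37 LD3_c42)) = (LP (LK LD1_c7 LD2_c31 LD3_c59)) :=
  Lgr Lrot5 (Lpr_ft (K34.f206090 IH) (Lpe (K8.f162656 IH) (Lpe (K8.f127429 IH) (Lpn (LP (LK LD1_c7 LD2_c31 LD3_c59))))))
theorem f206563 : Led Lsl_gf (LP (LK LD1_c7 LD2_c37 LD3_c42)) = (LP (LK LD1_c3 LD2_c48 LD3_c38)) :=
  Lgr Lrot47 (Lpr_gt (f206561 IH) (Lpe (K4.f109265 IH) (Lpr_ff (K4.f111513 IH) (Lpn (LP (LK LD1_c3 LD2_c48 LD3_c38))))))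
theorem f93073 : Led Lsl_dt (LP (LK LD1_c7 LD2_c37 LD3_c42)) = (LP (LK LD1_c3 LD2_c48 LD3_c20)) :=
  Lre_d IH (LK LD1_c7 LD2_c37 LD3_c42) (LK LD1_c3 LD2_c48 LD3_c20) Lrfl Lrfl
theorem f562666 : Led Lsl_dt (LP (LK LD1_c6 LD2_c14 LD3_c46)) = (LP (LK LD1_c7 LD2_c7 LD3_c49)) :=
  Lgr Lrot105 (Lpr_gf (K40.f562664 IH) (Lpr_df (f547075 IH) (Lpr_gf (K32.f147328 IH) (Lpe (K32.f147330 IH) (Lpr_gt (K8.f17802 IH) (Lpr_dt (K4.f89317 IH) (Lpe (f206563 IH) (Lpr_dt (f93073 IH) (Lpe (K3.f96771 IH) (Lpn (LP (LK LD1_c7 LD2_c7 LD3_c49))))))))))))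
theorem f179923 : Led Lsl_ct (LP (LK LD1_c5 LD2_c49 LD3_c43)) = (LP (LK LD1_c2 LD2_c50 LD3_c59)) :=
  Lre_c IH (LK LD1_c5 LD2_c49 LD3_c43) (LK LD1_c2 LD2_c50 LD3_c59) Lrfl Lrfl
theorem f179924 : Led Lsl_dt (LP (LK LD1_c11 LD2_c28 LD3_c8)) = (LP (LK LD1_c5 LD2_c49 LD3_c43)) :=
  Lre_d IH (LK LD1_c11 LD2_c28 LD3_c8) (LK LD1_c5 LD2_c49 LD3_c43) Lrfl Lrfl
theorem f568929 : Led Lsl_ct (LP (LK LD1_c7 LD2_c37 LD3_c42)) = (LP (LK LD1_c11 LD2_c28 LD3_c8)) :=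
  Lgr Lrot53 (Lpe (K34.f17318 IH) (Lpe (K3.f96771 IH) (Lpe (f562666 IH) (Lpr_cf (K40.f562672 IH) (Lpe (K40.f558278 IH) (Lpr_ft (K41.f563556 IH) (Lpr_at (f568923 IH) (Lpe (f179923 IH) (Lpe (f179924 IH) (Lpn (LP (LK LD1_c11 LD2_c28 LD3_c8))))))))))))
theorem f162650 : Led Lsl_ff (LP (LK LD1_c7 LD2_c37 LD3_c42)) = (LP (LK LD1_c7 LD2_c31 LD3_c61)) :=
  Lgr Lrot52 (Lpe (K34.f162177 IH) (Lpr_gf (K4.f111836 IH) (Lpr_gf (K8.f162648 IH) (Lpn (LP (LK LD1_c7 LD2_c31 LD3_c61))))))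
theorem f206084 : Led Lsl_bf (LP (LK LD1_c6 LD2_c33 LD3_c8)) = (LP (LK LD1_c7 LD2_c37 LD3_c42)) :=
  Lgr Lrot61 (Lpr_ft (K24.f206082 IH) (Lpr_bt (K8.f162639 IH) (Lpe (f162650 IH) (Lpn (LP (LK LD1_c7 LD2_c37 LD3_c42))))))
theorem f568946 : Led Lsl_gt (LP (LK LD1_c13 LD2_c9 LD3_c56)) = (LP (LK LD1_c11 LD2_c28 LD3_c8)) :=
  Lgr Lrot65 (Lpe (K36.f116605 IH) (Lpe (K37.f426501 IH) (Lpr_gf (K40.f426494 IH) (Lpe (K8.f96505 IH) (Lpr_ct (K8.f162606 IH) (Lpe (K8.f155517 IH) (Lpr_cf (K11.f205961 IH) (Lpe (K11.f24196 IH) (Lpr_bf (f206084 IH) (Lpr_ct (f568929 IH) (Lpn (LP (LK LD1_c11 LD2_c28 LD3_c8)))))))))))))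
theorem f449999 : Led Lsl_gt (LP (LK LD1_c5 LD2_c49 LD3_c43)) = (LP (LK LD1_c11 LD2_c28 LD3_c6)) :=
  Lre_g IH (LK LD1_c5 LD2_c49 LD3_c43) (LK LD1_c11 LD2_c28 LD3_c6) Lrfl Lrfl
theorem f568948 : Led Lsl_df (LP (LK LD1_c9 LD2_c48 LD3_c54)) = (LP (LK LD1_c11 LD2_c28 LD3_c6)) :=
  Lgr Lrot84 (Lpr_cf (K36.f136842 IH) (Lpe (K36.f136504 IH) (Lpe (K6.f89719 IH) (Lpe (K8.f96941 IH) (Lpe (K28.f90175 IH) (Lpe (K36.f116585 IH) (Lpr_gt (f568946 IH) (Lpr_dt (f179924 IH) (Lpr_gt (f449999 IH) (Lpn (LP (LK LD1_c11 LD2_c28 LD3_c6))))))))))))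
theorem f568957 : Led Lsl_gf (LP (LK LD1_c11 LD2_c16 LD3_c18)) = (LP (LK LD1_c11 LD2_c28 LD3_c6)) :=
  Lgr Lrot147 (Lpr_ct (K40.f495846 IH) (Lpr_gt (K40.f172840 IH) (Lpr_ct (K37.f176857 IH) (Lpe (K36.f540091 IH) (Lpe (K5.f92758 IH) (Lpr_gf (K32.f419843 IH) (Lpe (K32.f419811 IH) (Lpr_gf (K39.f497776 IH) (Lpr_df (f568948 IH) (Lpn (LP (LK LD1_c11 LD2_c28 LD3_c6))))))))))))
theorem f558276 : Led Lsl_bt (LP (LK LD1_c5 LD2_c43 LD3_c0)) = (LP (LK LD1_c5 LD2_c49 LD3_c48)) :=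
  Lgr Lrot127 (Lpr_bf (K40.f558272 IH) (Lpn (LP (LK LD1_c5 LD2_c49 LD3_c48))))
theorem f563552 : Led Lsl_at (LP (LK LD1_c2 LD2_c50 LD3_c59)) = (LP (LK LD1_c4 LD2_c41 LD3_c26)) :=
  Lgr Lrot66 (Lpe (K37.f449991 IH) (Lpe (K41.f558274 IH) (Lpr_ff (K41.f563550 IH) (Lpn (LP (LK LD1_c4 LD2_c41 LD3_c26))))))
theorem f449986 : Led Lsl_bt (LP (LK LD1_c1 LD2_c21 LD3_c30)) = (LP (LK LD1_c2 LD2_c50 LD3_c59)) :=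
  Lre_b IH (LK LD1_c1 LD2_c21 LD3_c30) (LK LD1_c2 LD2_c50 LD3_c59) Lrfl Lrfl
theorem f450086 : Led Lsl_af (LP (LK LD1_c1 LD2_c21 LD3_c30)) = (LP (LK LD1_c2 LD2_c14 LD3_c1)) :=
  Lgr Lrot45 (Lpe (K37.f449995 IH) (Lpr_at (K37.f450000 IH) (Lpr_ft (K40.f450084 IH) (Lpn (LP (LK LD1_c2 LD2_c14 LD3_c1))))))
theorem f175519 : Led Lsl_bt (LP (LK LD1_c4 LD2_c34 LD3_c14)) = (LP (LK LD1_c2 LD2_c14 LD3_c1)) :=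
  Lre_b IH (LK LD1_c4 LD2_c34 LD3_c14) (LK LD1_c2 LD2_c14 LD3_c1) Lrfl Lrfl
theorem f563884 : Led Lsl_at (LP (LK LD1_c5 LD2_c43 LD3_c55)) = (LP (LK LD1_c4 LD2_c34 LD3_c14)) :=
  Lgr Lrot67 (Lpr_bf (K40.f563882 IH) (Lpe (f563552 IH) (Lpe (f449986 IH) (Lpr_af (f450086 IH) (Lpe (f175519 IH) (Lpn (LP (LK LD1_c4 LD2_c34 LD3_c14))))))))
theorem f563900 : Led Lsl_gf (LP (LK LD1_c5 LD2_c43 LD3_c57)) = (LP (LK LD1_c5 LD2_c49 LD3_c48)) :=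
  Lgr Lrot47 (Lpe (K40.f558463 IH) (Lpe (f563884 IH) (Lpr_ff (K41.f563896 IH) (Lpn (LP (LK LD1_c5 LD2_c49 LD3_c48))))))
theorem f450229 : Led Lsl_bt (LP (LK LD1_c12 LD2_c10 LD3_c55)) = (LP (LK LD1_c6 LD2_c17 LD3_c3)) :=
  Lre_b IH (LK LD1_c12 LD2_c10 LD3_c55) (LK LD1_c6 LD2_c17 LD3_c3) Lrfl Lrfl
theorem f568961 : Led Lsl_ct (LP (LK LD1_c12 LD2_c10 LD3_c55)) = (LP (LK LD1_c11 LD2_c28 LD3_c6)) :=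
  Lgr Lrot64 (Lpr_bt (f450229 IH) (Lpr_gf (K40.f450227 IH) (Lpr_bf (K40.f450368 IH) (Lpe (K40.f558177 IH) (Lpe (K39.f502140 IH) (Lpr_cf (K36.f541777 IH) (Lpr_gf (f563900 IH) (Lpe (f558276 IH) (Lpr_ct (K40.f495845 IH) (Lpr_gf (f568957 IH) (Lpn (LP (LK LD1_c11 LD2_c28 LD3_c6)))))))))))))
theorem f563612 : Led Lsl_dt (LP (LK LD1_c5 LD2_c48 LD3_c39)) = (LP (LK LD1_c3 LD2_c36 LD3_c44)) :=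
  Lgr Lrot105 (Lpr_gf (K41.f563606 IH) (Lpe (K41.f17907 IH) (Lpr_gf (K3.f109485 IH) (Lpe (K4.f109479 IH) (Lpe (K36.f137191 IH) (Lpe (K40.f427065 IH) (Lpr_gt (K37.f24145 IH) (Lpr_dt (K37.f127408 IH) (Lpr_cf (K6.f97880 IH) (Lpn (LP (LK LD1_c3 LD2_c36 LD3_c44))))))))))))
theorem f127859 : Led Lsl_et (LP (LK LD1_c7 LD2_c7 LD3_c34)) = (LP (LK LD1_c3 LD2_c33 LD3_c20)) :=
  Lre_e IH (LK LD1_c7 LD2_c7 LD3_c34) (LK LD1_c3 LD2_c33 LD3_c20) Lrfl Lrfl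
theorem f552857 : Led Lsl_dt (LP (LK LD1_c3 LD2_c33 LD3_c20)) = (LP (LK LD1_c2 LD2_c47 LD3_c22)) :=
  Lgr Lrot77 (Lpe (f127859 IH) (Lpr_df (K39.f552848 IH) (Lpe (K39.f172759 IH) (Lpe (K16.f172833 IH) (Lpe (K16.f172732 IH) (Lpn (LP (LK LD1_c2 LD2_c47 LD3_c22))))))))
theorem f155646 : Led Lsl_gf (LP (LK LD1_c3 LD2_c48 LD3_c21)) = (LP (LK LD1_c7 LD2_c7 LD3_c30)) :=
  Lgr Lrot124 (Lpr_bf (K8.f144887 IH) (Lpe (K8.f132132 IH) (Lpe (K32.f144881 IH) (Lpe (K6.f114454 IH) (Lpr_bt (K7.f114436 IH) (Lpr_gt (K8.f155642 IH) (Lpr_ct (K6.f126480 IH) (Lpe (K8.f129351 IH) (Lpr_cf (K5.f129370 IH) (Lpe (K5.f127825 IH) (Lpn (LP (LK LD1_c7 LD2_c7 LD3_c30)))))))))))))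
theorem f155708 : Led Lsl_df (LP (LK LD1_c7 LD2_c12 LD3_c8)) = (LP (LK LD1_c3 LD2_c36 LD3_c33)) :=
  Lgr Lrot153 (Lpr_gt (K8.f108539 IH) (Lpr_dt (K8.f17909 IH) (Lpr_cf (K4.f17884 IH) (Lpr_df (K4.f89557 IH) (Lpr_gf (K8.f127427 IH) (Lpe (K8.f127431 IH) (Lpr_gf (f155646 IH) (Lpe (K32.f104075 IH) (Lpr_gt (K5.f127862 IH) (Lpn (LP (LK LD1_c3 LD2_c36 LD3_c33))))))))))))
theorem f562678 : Led Lsl_ct (LP (LK LD1_c3 LD2_c36 LD3_c5)) = K40.v1543 :=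
  Lgr Lrot152 (Lpe (K8.f108539 IH) (Lpr_df (f155708 IH) (Lpr_gt (K3.f97907 IH) (Lpr_ct (K3.f17387 IH) (Lpr_gt (K3.f17317 IH) (Lpe (K8.f96779 IH) (Lpe (f562666 IH) (Lpr_cf (K40.f562672 IH) (Lpr_gf (K40.f496193 IH) (Lpn K40.v1543))))))))))
theorem f563614 : Led Lsl_df (LP (LK LD1_c5 LD2_c43 LD3_c0)) = (LP (LK LD1_c4 LD2_c34 LD3_c15)) :=
  Lgr Lrot16 (Lpr_gt (K40.f172840 IH) (Lpr_dt (K38.f172839 IH) (Lpr_ct (K38.f172696 IH) (Lpe (f552857 IH) (Lpr_gf (K6.f127864 IH) (Lpe (f563612 IH) (Lpr_gf (K41.f563606 IH) (Lpr_ct (f562678 IH) (Lpe (K40.f496193 IH) (Lpn (LP (LK LD1_c4 LD2_c34 LD3_c15))))))))))))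
theorem f558732 : Led Lsl_cf (LP (LK LD1_c5 LD2_c49 LD3_c46)) = (LP (LK LD1_c5 LD2_c47 LD3_c47)) :=
  Lgr Lrot11 (Lpr_ct (K40.f558730 IH) (Lpn (LP (LK LD1_c5 LD2_c47 LD3_c47))))
theorem f80634 : Led Lsl_bt (LP (LK LD1_c3 LD2_c4 LD3_c45)) = (LP (LK LD1_c6 LD2_c15 LD3_c18)) :=
  Lre_b IH (LK LD1_c3 LD2_c4 LD3_c45) (LK LD1_c6 LD2_c15 LD3_c18) Lrfl Lrfl
theorem f496060 : Led Lsl_bt (LP (LK LD1_c2 LD2_c50 LD3_c7)) = (LP (LK LD1_c5 LD2_c48 LD3_c12)) :=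
  Lre_b IH (LK LD1_c2 LD2_c50 LD3_c7) (LK LD1_c5 LD2_c48 LD3_c12) Lrfl Lrfl
theorem f558885 : Led Lsl_gf (LP (LK LD1_c6 LD2_c15 LD3_c18)) = (LP (LK LD1_c5 LD2_c48 LD3_c12)) :=
  Lgr Lrot124 (Lpe (f80634 IH) (Lpr_ct (K40.f80635 IH) (Lpe (K40.f558745 IH) (Lpe (K40.f202281 IH) (Lpr_bt (K40.f536149 IH) (Lpqs (K40.f537847 IH) (Lpr_gt (K40.f558741 IH) (Lpe (f558732 IH) (Lpr_gt (K40.f558877 IH) (Lpe (K40.f496062 IH) (Lpr_bt (f496060 IH) (Lpn (LP (LK LD1_c5 LD2_c48 LD3_c12))))))))))))))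
theorem f562668 : Led Lsl_dt (LP (LK LD1_c11 LD2_c25 LD3_c60)) = (LP (LK LD1_c5 LD2_c48 LD3_c12)) :=
  Lre_d IH (LK LD1_c11 LD2_c25 LD3_c60) (LK LD1_c5 LD2_c48 LD3_c12) Lrfl Lrfl
theorem f568968 : Led Lsl_gf (LP (LK LD1_c12 LD2_c10 LD3_c55)) = (LP (LK LD1_c11 LD2_c25 LD3_c60)) :=
  Lgr Lrot147 (Lpr_ct (f568961 IH) (Lpe (f568957 IH) (Lpr_ct (K40.f495846 IH) (Lpr_df (f563614 IH) (Lpe (K40.f562662 IH) (Lpr_gf (K40.f562664 IH) (Lpr_cf (K38.f547077 IH) (Lpr_gf (f558885 IH) (Lpe (f562668 IH) (Lpn (LP (LK LD1_c11 LD2_c25 LD3_c60))))))))))))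
theorem f568965 : Led Lsl_cf (LP (LK LD1_c12 LD2_c10 LD3_c55)) = (LP (LK LD1_c11 LD2_c28 LD3_c6)) :=
  Lgr Lrot11 (Lpr_ct (f568961 IH) (Lpn (LP (LK LD1_c11 LD2_c28 LD3_c6))))
theorem f558772 : Led Lsl_bt (LP (LK LD1_c6 LD2_c17 LD3_c3)) = (LP (LK LD1_c12 LD2_c10 LD3_c55)) :=
  Lre_b IH (LK LD1_c6 LD2_c17 LD3_c3) (LK LD1_c12 LD2_c10 LD3_c55) Lrfl Lrfl
theorem f558763 : Led Lsl_cf (LP (LK LD1_c6 LD2_c17 LD3_c3)) = (LP (LK LD1_c9 LD2_c30 LD3_c16)) :=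
  Lgr Lrot11 (Lpr_ct (K40.f558761 IH) (Lpn (LP (LK LD1_c9 LD2_c30 LD3_c16))))
theorem f568963 : Led Lsl_bf (LP (LK LD1_c9 LD2_c30 LD3_c18)) = (LP (LK LD1_c11 LD2_c28 LD3_c6)) :=
  Lgr Lrot90 (Lpr_ct (K4.f104983 IH) (Lpr_bt (K4.f104990 IH) (Lpe (f558763 IH) (Lpr_bt (f558772 IH) (Lpr_ct (f568961 IH) (Lpn (LP (LK LD1_c11 LD2_c28 LD3_c6))))))))
theorem f209718 : Led Lsl_gt (LP (LK LD1_c14 LD2_c6 LD3_c38)) = (LP (LK LD1_c17 LD2_c58 LD3_c41)) :=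
  Lgr Lrot150 (Lpe (K32.f123948 IH) (Lpe (K32.f160689 IH) (Lpr_df (K6.f129355 IH) (Lpe (K5.f129557 IH) (Lpr_ct (K6.f129564 IH) (Lpr_gt (K8.f145038 IH) (Lpe (K5.f122705 IH) (Lpe (K6.f122694 IH) (Lpr_cf (K32.f209712 IH) (Lpn (LP (LK LD1_c17 LD2_c58 LD3_c41))))))))))))
theorem f92025 : Led Lsl_dt (LP (LK LD1_c13 LD2_c9 LD3_c59)) = (LP (LK LD1_c6 LD2_c55 LD3_c61)) :=
  Lre_d IH (LK LD1_c13 LD2_c9 LD3_c59) (LK LD1_c6 LD2_c55 LD3_c61) Lrfl Lrfl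
theorem f209726 : Led Lsl_bf (LP (LK LD1_c13 LD2_c9 LD3_c59)) = (LP (LK LD1_c17 LD2_c58 LD3_c41)) :=
  Lgr Lrot93 (Lpr_dt (f92025 IH) (Lpr_bt (K37.f209724 IH) (Lpr_dt (K32.f100589 IH) (Lpn (LP (LK LD1_c17 LD2_c58 LD3_c41))))))
theorem f209764 : Led Lsl_bt (LP (LK LD1_c13 LD2_c9 LD3_c59)) = (LP (LK LD1_c17 LD2_c58 LD3_c41)) :=
  Lgr Lrot127 (Lpr_bf (f209726 IH) (Lpn (LP (LK LD1_c17 LD2_c58 LD3_c41))))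
theorem f568971 : Led Lsl_ct (LP (LK LD1_c13 LD2_c9 LD3_c59)) = (LP (LK LD1_c11 LD2_c25 LD3_c60)) :=
  Lgr Lrot64 (Lpr_bt (f209764 IH) (Lpe (f209718 IH) (Lpr_bf (K32.f147871 IH) (Lpr_ct (K4.f104952 IH) (Lpe (K4.f104946 IH) (Lpe (K2.f72868 IH) (Lpr_gf (K4.f105009 IH) (Lpr_bf (f568963 IH) (Lpe (f568965 IH) (Lpr_gf (f568968 IH) (Lpn (LP (LK LD1_c11 LD2_c25 LD3_c60)))))))))))))
theorem f568953 : Led Lsl_dt (LP (LK LD1_c9 LD2_c48 LD3_c54)) = (LP (LK LD1_c11 LD2_c28 LD3_c6)) :=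
  Lgr Lrot42 (Lpr_df (f568948 IH) (Lpn (LP (LK LD1_c11 LD2_c28 LD3_c6))))
theorem f136849 : Led Lsl_gt (LP (LK LD1_c3 LD2_c27 LD3_c16)) = (LP (LK LD1_c6 LD2_c32 LD3_c54)) :=
  Lgr Lrot65 (Lpe (K5.f94701 IH) (Lpe (K5.f127583 IH) (Lpe (K8.f130328 IH) (Lpe (K8.f104795 IH) (Lpr_ct (K7.f104787 IH) (Lpe (K4.f26416 IH) (Lpe (K4.f26419 IH) (Lpe (K4.f26410 IH) (Lpe (K36.f40539 IH) (Lpr_ct (K36.f136847 IH) (Lpn (LP (LK LD1_c6 LD2_c32 LD3_c54)))))))))))))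
theorem f568978 : Led Lsl_gf (LP (LK LD1_c13 LD2_c9 LD3_c59)) = (LP (LK LD1_c11 LD2_c15 LD3_c27)) :=
  Lgr Lrot147 (Lpr_ct (f568971 IH) (Lpe (f568968 IH) (Lpr_ct (f568961 IH) (Lpe (f568953 IH) (Lpr_cf (K36.f136842 IH) (Lpe (f136849 IH) (Lpe (K5.f94701 IH) (Lpe (K5.f127680 IH) (Lpr_df (K38.f540094 IH) (Lpn (LP (LK LD1_c11 LD2_c15 LD3_c27))))))))))))
theorem f567638 : Led Lsl_bt (LP (LK LD1_c20 LD2_c10 LD3_c34)) = (LP (LK LD1_c11 LD2_c15 LD3_c27)) :=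
  Lre_b IH (LK LD1_c20 LD2_c10 LD3_c34) (LK LD1_c11 LD2_c15 LD3_c27) Lrfl Lrfl
theorem f74027 : Led Lsl_bt (LP (LK LD1_c17 LD2_c11 LD3_c16)) = (LP (LK LD1_c9 LD2_c16 LD3_c34)) :=
  Lre_b IH (LK LD1_c17 LD2_c11 LD3_c16) (LK LD1_c9 LD2_c16 LD3_c34) Lrfl Lrfl
theorem f568986 : Led Lsl_ct (LP (LK LD1_c20 LD2_c10 LD3_c34)) = (LP (LK LD1_c17 LD2_c11 LD3_c25)) :=
  Lgr Lrot10 (Lpr_bt (f567638 IH) (Lpe (f568978 IH) (Lpr_ct (f568971 IH) (Lpe (f568968 IH) (Lpr_cf (f568965 IH) (Lpe (f568963 IH) (Lpe (K4.f105009 IH) (Lpe (f74027 IH) (Lpr_ct (K2.f58404 IH) (Lpr_gt (K32.f74019 IH) (Lpn (LP (LK LD1_c17 LD2_c11 LD3_c25)))))))))))))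
theorem f568990 : Led Lsl_cf (LP (LK LD1_c20 LD2_c10 LD3_c34)) = (LP (LK LD1_c17 LD2_c11 LD3_c25)) :=
  Lgr Lrot11 (Lpr_ct (f568986 IH) (Lpn (LP (LK LD1_c17 LD2_c11 LD3_c25))))
theorem f38514 : Led Lsl_at (LP (LK LD1_c8 LD2_c48 LD3_c10)) = (LP (LK LD1_c4 LD2_c25 LD3_c24)) :=
  Lre_a IH (LK LD1_c8 LD2_c48 LD3_c10) (LK LD1_c4 LD2_c25 LD3_c24) Lrfl Lrfl
theorem f70377 : Led Lsl_bt (LP (LK LD1_c16 LD2_c28 LD3_c16)) = (LP (LK LD1_c8 LD2_c48 LD3_c10)) :=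
  Lre_b IH (LK LD1_c16 LD2_c28 LD3_c16) (LK LD1_c8 LD2_c48 LD3_c10) Lrfl Lrfl
theorem f70378 : Led Lsl_af (LP (LK LD1_c16 LD2_c28 LD3_c16)) = (LP (LK LD1_c16 LD2_c25 LD3_c22)) :=
  Lgr Lrot36 (Lpr_bt (f70377 IH) (Lpr_at (f38514 IH) (Lpr_bt (K6.f70374 IH) (Lpr_at (K6.f35295 IH) (Lpr_bt (K2.f36148 IH) (Lpn (LP (LK LD1_c16 LD2_c25 LD3_c22))))))))
theorem f101789 : Led Lsl_cf (LP (LK LD1_c17 LD2_c0 LD3_c36)) = (LP (LK LD1_c16 LD2_c28 LD3_c16)) :=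
  Lgr Lrot1 (Lpr_at (K7.f101783 IH) (Lpr_ct (K37.f81683 IH) (Lpe (f70378 IH) (Lpn (LP (LK LD1_c16 LD2_c28 LD3_c16))))))
theorem f101791 : Led Lsl_ct (LP (LK LD1_c17 LD2_c0 LD3_c36)) = (LP (LK LD1_c16 LD2_c28 LD3_c16)) :=
  Lgr Lrot59 (Lpr_cf (f101789 IH) (Lpn (LP (LK LD1_c16 LD2_c28 LD3_c16))))
theorem f569000 : Led Lsl_gt (LP (LK LD1_c20 LD2_c10 LD3_c34)) = (LP (LK LD1_c16 LD2_c28 LD3_c16)) :=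
  Lgr Lrot149 (Lpr_cf (f568990 IH) (Lpe (K32.f74019 IH) (Lpe (K34.f58220 IH) (Lpr_ct (K1.f13660 IH) (Lpe (K3.f78002 IH) (Lpr_cf (K3.f78582 IH) (Lpr_bt (K5.f78581 IH) (Lpr_gf (K11.f138157 IH) (Lpe (K7.f70906 IH) (Lpr_ct (f101791 IH) (Lpn (LP (LK LD1_c16 LD2_c28 LD3_c16)))))))))))))
theorem f568438 : Led Lsl_bt (LP (LK LD1_c11 LD2_c15 LD3_c27)) = (LP (LK LD1_c20 LD2_c10 LD3_c34)) :=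
  Lre_b IH (LK LD1_c11 LD2_c15 LD3_c27) (LK LD1_c20 LD2_c10 LD3_c34) Lrfl Lrfl
theorem f568437 : Led Lsl_ct (LP (LK LD1_c11 LD2_c15 LD3_c27)) = (LP (LK LD1_c5 LD2_c42 LD3_c37)) :=
  Lre_c IH (LK LD1_c11 LD2_c15 LD3_c27) (LK LD1_c5 LD2_c42 LD3_c37) Lrfl Lrfl
theorem f546731 : Led Lsl_ff (LP (LK LD1_c2 LD2_c47 LD3_c28)) = (LP (LK LD1_c4 LD2_c33 LD3_c5)) :=
  Lgr Lrot19 (Lpr_dt (K38.f172839 IH) (Lpr_ft (K37.f495848 IH) (Lpq (K37.f546720 IH) (Lpr_dt (K41.f80215 IH) (Lpn (LP (LK LD1_c4 LD2_c33 LD3_c5)))))))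
theorem f412091 : Led Lsl_at (LP (LK LD1_c2 LD2_c47 LD3_c28)) = (LP (LK LD1_c5 LD2_c42 LD3_c37)) :=
  Lre_a IH (LK LD1_c2 LD2_c47 LD3_c28) (LK LD1_c5 LD2_c42 LD3_c37) Lrfl Lrfl
theorem f563560 : Led Lsl_gt (LP (LK LD1_c4 LD2_c34 LD3_c16)) = (LP (LK LD1_c5 LD2_c42 LD3_c37)) :=
  Lgr Lrot46 (Lpr_gf (K41.f563558 IH) (Lpe (f546731 IH) (Lpr_at (f412091 IH) (Lpn (LP (LK LD1_c5 LD2_c42 LD3_c37))))))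
theorem f396306 : Led Lsl_ct (LP (LK LD1_c9 LD2_c5 LD3_c46)) = (LP (LK LD1_c4 LD2_c34 LD3_c16)) :=
  Lre_c IH (LK LD1_c9 LD2_c5 LD3_c46) (LK LD1_c4 LD2_c34 LD3_c16) Lrfl Lrfl
theorem f396307 : Led Lsl_gt (LP (LK LD1_c16 LD2_c57 LD3_c35)) = (LP (LK LD1_c9 LD2_c5 LD3_c46)) :=
  Lre_g IH (LK LD1_c16 LD2_c57 LD3_c35) (LK LD1_c9 LD2_c5 LD3_c46) Lrfl Lrfl
theorem f38578 : Led Lsl_bt (LP (LK LD1_c8 LD2_c48 LD3_c10)) = (LP (LK LD1_c16 LD2_c28 LD3_c16)) :=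
  Lre_b IH (LK LD1_c8 LD2_c48 LD3_c10) (LK LD1_c16 LD2_c28 LD3_c16) Lrfl Lrfl
theorem f38577 : Led Lsl_ct (LP (LK LD1_c8 LD2_c48 LD3_c10)) = (LP (LK LD1_c4 LD2_c25 LD3_c20)) :=
  Lre_c IH (LK LD1_c8 LD2_c48 LD3_c10) (LK LD1_c4 LD2_c25 LD3_c20) Lrfl Lrfl
theorem f569002 : Led Lsl_bf (LP (LK LD1_c16 LD2_c57 LD3_c35)) = (LP (LK LD1_c14 LD2_c59 LD3_c44)) :=
  Lgr Lrot165 (Lpr_gt (f396307 IH) (Lpr_ct (f396306 IH) (Lpr_gt (f563560 IH) (Lpe (f568437 IH) (Lpr_bt (f568438 IH) (Lpr_gt (f569000 IH) (Lpe (f38578 IH) (Lpr_ct (f38577 IH) (Lpr_gt (K5.f72135 IH) (Lpe (K8.f72138 IH) (Lpn (LP (LK LD1_c14 LD2_c59 LD3_c44)))))))))))))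
theorem f157357 : Led Lsl_bt (LP (LK LD1_c7 LD2_c32 LD3_c27)) = (LP (LK LD1_c5 LD2_c51 LD3_c23)) :=
  Lgr Lrot127 (Lpr_bf (K8.f157354 IH) (Lpn (LP (LK LD1_c5 LD2_c51 LD3_c23))))
theorem f569010 : Led Lsl_dt (LP (LK LD1_c9 LD2_c5 LD3_c46)) = (LP (LK LD1_c14 LD2_c12 LD3_c29)) :=
  Lgr Lrot182 (Lpe (f396307 IH) (Lpr_bf (f569002 IH) (Lpe (K8.f72137 IH) (Lpe (K36.f112679 IH) (Lpe (K36.f80725 IH) (Lpe (K11.f80720 IH) (Lpe (K11.f80727 IH) (Lpe (K11.f202214 IH) (Lpe (K41.f202247 IH) (Lpr_bf (K41.f136313 IH) (Lpe (K6.f136307 IH) (Lpe (K5.f130193 IH) (Lpe (K4.f65945 IH) (Lpe (f157357 IH) (Lpe (K8.f157324 IH) (Lpr_df (K8.f157352 IH) (Lpe (K8.f25304 IH) (Lpr_bf (K8.f162641 IH) (Lpe (K37.f93542 IH) (Lpn (LP (LK LD1_c14 LD2_c12 LD3_c29))))))))))))))))))))))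
theorem f177763 : Led Lsl_ct (LP (LK LD1_c4 LD2_c34 LD3_c16)) = (LP (LK LD1_c9 LD2_c5 LD3_c46)) :=
  Lre_c IH (LK LD1_c4 LD2_c34 LD3_c16) (LK LD1_c9 LD2_c5 LD3_c46) Lrfl Lrfl
theorem f538143 : Led Lsl_ct (LP (LK LD1_c9 LD2_c3 LD3_c25)) = (LP (LK LD1_c4 LD2_c33 LD3_c5)) :=
  Lre_c IH (LK LD1_c9 LD2_c3 LD3_c25) (LK LD1_c4 LD2_c33 LD3_c5) Lrfl Lrfl
theorem f93539 : Led Lsl_dt (LP (LK LD1_c6 LD2_c55 LD3_c61)) = (LP (LK LD1_c13 LD2_c9 LD3_c59)) :=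
  Lre_d IH (LK LD1_c6 LD2_c55 LD3_c61) (LK LD1_c13 LD2_c9 LD3_c59) Lrfl Lrfl
theorem f569027 : Led Lsl_gf (LP (LK LD1_c9 LD2_c3 LD3_c25)) = (LP (LK LD1_c13 LD2_c9 LD3_c59)) :=
  Lgr Lrot179 (Lpr_ct (f538143 IH) (Lpe (K41.f563558 IH) (Lpr_ct (f177763 IH) (Lpr_dt (f569010 IH) (Lpe (K37.f93541 IH) (Lpe (K8.f93540 IH) (Lpe (K28.f89127 IH) (Lpe (K28.f93523 IH) (Lpr_dt (f93539 IH) (Lpn (LP (LK LD1_c13 LD2_c9 LD3_c59))))))))))))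
theorem f538142 : Led Lsl_ct (LP (LK LD1_c4 LD2_c33 LD3_c5)) = (LP (LK LD1_c9 LD2_c3 LD3_c25)) :=
  Lre_c IH (LK LD1_c4 LD2_c33 LD3_c5) (LK LD1_c9 LD2_c3 LD3_c25) Lrfl Lrfl
theorem f568976 : Led Lsl_cf (LP (LK LD1_c13 LD2_c9 LD3_c59)) = (LP (LK LD1_c11 LD2_c25 LD3_c60)) :=
  Lgr Lrot11 (Lpr_ct (f568971 IH) (Lpn (LP (LK LD1_c11 LD2_c25 LD3_c60))))
theorem f116800 : Led Lsl_bt (LP (LK LD1_c6 LD2_c25 LD3_c5)) = (LP (LK LD1_c12 LD2_c23 LD3_c11)) :=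
  Lre_b IH (LK LD1_c6 LD2_c25 LD3_c5) (LK LD1_c12 LD2_c23 LD3_c11) Lrfl Lrfl
theorem f568984 : Led Lsl_gt (LP (LK LD1_c12 LD2_c11 LD3_c0)) = (LP (LK LD1_c11 LD2_c25 LD3_c60)) :=
  Lgr Lrot149 (Lpr_cf (K40.f210799 IH) (Lpr_gf (K40.f563844 IH) (Lpe (K40.f563838 IH) (Lpr_ct (K8.f161809 IH) (Lpe (K8.f117678 IH) (Lpe (K4.f116790 IH) (Lpr_bt (f116800 IH) (Lpr_gf (K32.f209766 IH) (Lpe (f209764 IH) (Lpr_ct (f568971 IH) (Lpn (LP (LK LD1_c11 LD2_c25 LD3_c60)))))))))))))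
theorem f210798 : Led Lsl_bt (LP (LK LD1_c6 LD2_c17 LD3_c10)) = (LP (LK LD1_c12 LD2_c11 LD3_c0)) :=
  Lre_b IH (LK LD1_c6 LD2_c17 LD3_c10) (LK LD1_c12 LD2_c11 LD3_c0) Lrfl Lrfl
theorem f569034 : Led Lsl_bt (LP (LK LD1_c4 LD2_c33 LD3_c5)) = (LP (LK LD1_c2 LD2_c47 LD3_c34)) :=
  Lgr Lrot22 (Lpr_ct (f538142 IH) (Lpr_gf (f569027 IH) (Lpr_cf (f568976 IH) (Lpe (f568984 IH) (Lpe (f210798 IH) (Lpr_ct (K40.f558280 IH) (Lpr_gf (K40.f160719 IH) (Lpr_cf (K40.f558171 IH) (Lpr_bt (f175519 IH) (Lpe (K16.f268723 IH) (Lpn (LP (LK LD1_c2 LD2_c47 LD3_c34)))))))))))))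
theorem f569044 : Led Lsl_ff (LP (LK LD1_c4 LD2_c33 LD3_c5)) = (LP (LK LD1_c2 LD2_c47 LD3_c28)) :=
  Lgr Lrot25 (Lpr_bt (f569034 IH) (Lpr_ft (K16.f172715 IH) (Lpr_bt (K40.f210791 IH) (Lpn (LP (LK LD1_c2 LD2_c47 LD3_c28))))))
theorem f569046 : Led Lsl_at (LP (LK LD1_c4 LD2_c33 LD3_c5)) = (LP (LK LD1_c5 LD2_c49 LD3_c42)) :=
  Lgr Lrot66 (Lpr_ff (f569044 IH) (Lpe (f268730 IH) (Lpr_ff (f568905 IH) (Lpn (LP (LK LD1_c5 LD2_c49 LD3_c42))))))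
theorem f568907 : Led Lsl_ct (LP (LK LD1_c11 LD2_c28 LD3_c4)) = (LP (LK LD1_c5 LD2_c49 LD3_c42)) :=
  Lre_c IH (LK LD1_c11 LD2_c28 LD3_c4) (LK LD1_c5 LD2_c49 LD3_c42) Lrfl Lrfl
theorem f569056 : Led Lsl_df (LP (LK LD1_c11 LD2_c28 LD3_c4)) = (LP (LK LD1_c14 LD2_c32 LD3_c55)) :=
  Lgr Lrot177 (Lpr_ct (f568907 IH) (Lpe (f569046 IH) (Lpr_ff (f569044 IH) (Lpr_dt (K38.f172839 IH) (Lpr_ct (K38.f172696 IH) (Lpe (K38.f540103 IH) (Lpr_ct (K32.f104075 IH) (Lpr_dt (K5.f104068 IH) (Lpr_ct (K7.f127831 IH) (Lpn (LP (LK LD1_c14 LD2_c32 LD3_c55))))))))))))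
theorem f568897 : Led Lsl_bt (LP (LK LD1_c5 LD2_c49 LD3_c42)) = (LP (LK LD1_c11 LD2_c28 LD3_c3)) :=
  Lre_b IH (LK LD1_c5 LD2_c49 LD3_c42) (LK LD1_c11 LD2_c28 LD3_c3) Lrfl Lrfl
theorem f202269 : Led Lsl_dt (LP (LK LD1_c6 LD2_c16 LD3_c13)) = (LP (LK LD1_c3 LD2_c5 LD3_c12)) :=
  Lre_d IH (LK LD1_c6 LD2_c16 LD3_c13) (LK LD1_c3 LD2_c5 LD3_c12) Lrfl Lrfl
theorem f569066 : Led Lsl_gt (LP (LK LD1_c11 LD2_c28 LD3_c3)) = (LP (LK LD1_c6 LD2_c16 LD3_c13)) :=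
  Lgr Lrot190 (Lpe (f568897 IH) (Lpe (f568907 IH) (Lpr_df (f569056 IH) (Lpr_gf (K32.f130280 IH) (Lpe (K5.f104170 IH) (Lpe (K2.f78119 IH) (Lpe (K3.f78135 IH) (Lpe (K3.f104162 IH) (Lpe (K3.f79320 IH) (Lpe (K3.f103565 IH) (Lpe (K3.f98647 IH) (Lpe (K24.f130690 IH) (Lpe (K4.f11638 IH) (Lpe (K3.f10780 IH) (Lpe (K3.f10779 IH) (Lpe (K3.f11534 IH) (Lpe (K37.f11637 IH) (Lpr_cf (K37.f546802 IH) (Lpq (K37.f546804 IH) (Lpe (f202269 IH) (Lpn (LP (LK LD1_c6 LD2_c16 LD3_c13)))))))))))))))))))))))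
theorem f569072 : Led Lsl_df (LP (LK LD1_c11 LD2_c28 LD3_c3)) = (LP (LK LD1_c7 LD2_c14 LD3_c8)) :=
  Lgr Lrot153 (Lpr_gt (f569066 IH) (Lpr_dt (f202269 IH) (Lpqs (K37.f546804 IH) (Lpe (K37.f546799 IH) (Lpe (K37.f88516 IH) (Lpe (K3.f87934 IH) (Lpe (K37.f120277 IH) (Lpr_gf (K37.f546865 IH) (Lpe (K37.f175542 IH) (Lpe (K40.f557858 IH) (Lpn (LP (LK LD1_c7 LD2_c14 LD3_c8)))))))))))))
theorem f202235 : Led Lsl_dt (LP (LK LD1_c3 LD2_c5 LD3_c12)) = (LP (LK LD1_c6 LD2_c16 LD3_c13)) :=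
  Lre_d IH (LK LD1_c3 LD2_c5 LD3_c12) (LK LD1_c6 LD2_c16 LD3_c13) Lrfl Lrfl
theorem f202294 : Led Lsl_et (LP (LK LD1_c3 LD2_c5 LD3_c12)) = (LP (LK LD1_c6 LD2_c16 LD3_c14)) :=
  Lre_e IH (LK LD1_c3 LD2_c5 LD3_c12) (LK LD1_c6 LD2_c16 LD3_c14) Lrfl Lrfl
theorem f569085 : Led Lsl_gf (LP (LK LD1_c4 LD2_c5 LD3_c45)) = (LP (LK LD1_c6 LD2_c16 LD3_c14)) :=
  Lgr Lrot141 (Lpe (K30.f182436 IH) (Lpr_dt (K39.f182433 IH) (Lpr_gt (K39.f198557 IH) (Lpr_df (K39.f541363 IH) (Lpe (K40.f561452 IH) (Lpe (K40.f557858 IH) (Lpe (f569072 IH) (Lpr_gt (f569066 IH) (Lpe (f202235 IH) (Lpr_et (f202294 IH) (Lpn (LP (LK LD1_c6 LD2_c16 LD3_c14)))))))))))))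
theorem f182431 : Led Lsl_ct (LP (LK LD1_c2 LD2_c0 LD3_c10)) = (LP (LK LD1_c4 LD2_c1 LD3_c25)) :=
  Lgr Lrot59 (Lpr_cf (K38.f182428 IH) (Lpn (LP (LK LD1_c4 LD2_c1 LD3_c25))))
theorem f182443 : Led Lsl_et (LP (LK LD1_c4 LD2_c1 LD3_c25)) = (LP (LK LD1_c8 LD2_c3 LD3_c31)) :=
  Lre_e IH (LK LD1_c4 LD2_c1 LD3_c25) (LK LD1_c8 LD2_c3 LD3_c31) Lrfl Lrfl
theorem f182444 : Led Lsl_cf (LP (LK LD1_c4 LD2_c5 LD3_c45)) = (LP (LK LD1_c8 LD2_c3 LD3_c31)) :=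
  Lgr Lrot39 (Lpr_et (K40.f182442 IH) (Lpr_ct (f182431 IH) (Lpr_et (f182443 IH) (Lpn (LP (LK LD1_c8 LD2_c3 LD3_c31))))))
theorem f182422 : Led Lsl_bt (LP (LK LD1_c8 LD2_c3 LD3_c31)) = (LP (LK LD1_c4 LD2_c1 LD3_c27)) :=
  Lre_b IH (LK LD1_c8 LD2_c3 LD3_c31) (LK LD1_c4 LD2_c1 LD3_c27) Lrfl Lrfl
theorem f419003 : Led Lsl_bf (LP (LK LD1_c4 LD2_c58 LD3_c12)) = (LP (LK LD1_c5 LD2_c38 LD3_c37)) :=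
  Lgr Lrot24 (Lpr_bt (K41.f211722 IH) (Lpn (LP (LK LD1_c5 LD2_c38 LD3_c37))))
theorem f548973 : Led Lsl_ct (LP (LK LD1_c11 LD2_c6 LD3_c45)) = (LP (LK LD1_c5 LD2_c37 LD3_c37)) :=
  Lre_c IH (LK LD1_c11 LD2_c6 LD3_c45) (LK LD1_c5 LD2_c37 LD3_c37) Lrfl Lrfl
theorem f112532 : Led Lsl_ct (LP (LK LD1_c12 LD2_c8 LD3_c53)) = (LP (LK LD1_c6 LD2_c15 LD3_c28)) :=
  Lre_c IH (LK LD1_c12 LD2_c8 LD3_c53) (LK LD1_c6 LD2_c15 LD3_c28) Lrfl Lrfl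
theorem f387059 : Led Lsl_et (LP (LK LD1_c5 LD2_c37 LD3_c37)) = (LP (LK LD1_c2 LD2_c44 LD3_c45)) :=
  Lre_e IH (LK LD1_c5 LD2_c37 LD3_c37) (LK LD1_c2 LD2_c44 LD3_c45) Lrfl Lrfl
theorem f558359 : Led Lsl_bt (LP (LK LD1_c6 LD2_c17 LD3_c13)) = (LP (LK LD1_c5 LD2_c37 LD3_c37)) :=
  Lgr Lrot119 (Lpr_ef (K40.f558355 IH) (Lpe (K38.f402571 IH) (Lpe (f387059 IH) (Lpn (LP (LK LD1_c5 LD2_c37 LD3_c37))))))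
theorem f548972 : Led Lsl_ct (LP (LK LD1_c5 LD2_c37 LD3_c37)) = (LP (LK LD1_c11 LD2_c6 LD3_c45)) :=
  Lre_c IH (LK LD1_c5 LD2_c37 LD3_c37) (LK LD1_c11 LD2_c6 LD3_c45) Lrfl Lrfl
theorem f559730 : Led Lsl_bf (LP (LK LD1_c12 LD2_c8 LD3_c53)) = (LP (LK LD1_c11 LD2_c6 LD3_c45)) :=
  Lgr Lrot90 (Lpr_ct (f112532 IH) (Lpr_bt (K40.f559726 IH) (Lpe (K40.f558367 IH) (Lpr_bt (f558359 IH) (Lpr_ct (f548972 IH) (Lpn (LP (LK LD1_c11 LD2_c6 LD3_c45))))))))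
theorem f569095 : Led Lsl_gt (LP (LK LD1_c12 LD2_c8 LD3_c53)) = (LP (LK LD1_c7 LD2_c39 LD3_c14)) :=
  Lgr Lrot82 (Lpr_bf (f559730 IH) (Lpr_ct (f548973 IH) (Lpr_gf (K38.f548970 IH) (Lpe (K41.f211721 IH) (Lpe (f419003 IH) (Lpr_gf (K12.f198329 IH) (Lpe (f182422 IH) (Lpe (f182444 IH) (Lpr_gf (f569085 IH) (Lpr_cf (K37.f546811 IH) (Lpn (LP (LK LD1_c7 LD2_c39 LD3_c14)))))))))))))
theorem f112538 : Led Lsl_ct (LP (LK LD1_c6 LD2_c15 LD3_c28)) = (LP (LK LD1_c12 LD2_c8 LD3_c53)) :=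
  Lre_c IH (LK LD1_c6 LD2_c15 LD3_c28) (LK LD1_c12 LD2_c8 LD3_c53) Lrfl Lrfl
theorem f101513 : Led Lsl_ct (LP (LK LD1_c6 LD2_c13 LD3_c21)) = (LP (LK LD1_c12 LD2_c5 LD3_c32)) :=
  Lre_c IH (LK LD1_c6 LD2_c13 LD3_c21) (LK LD1_c12 LD2_c5 LD3_c32) Lrfl Lrfl
theorem f202296 : Led Lsl_ct (LP (LK LD1_c9 LD2_c8 LD3_c61)) = (LP (LK LD1_c4 LD2_c36 LD3_c26)) :=
  Lre_c IH (LK LD1_c9 LD2_c8 LD3_c61) (LK LD1_c4 LD2_c36 LD3_c26) Lrfl Lrfl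
theorem f569097 : Led Lsl_gt (LP (LK LD1_c12 LD2_c5 LD3_c32)) = (LP (LK LD1_c9 LD2_c8 LD3_c61)) :=
  Lgr Lrot150 (Lpe (f101513 IH) (Lpe (K38.f548995 IH) (Lpr_df (K38.f548974 IH) (Lpr_gt (K41.f564206 IH) (Lpr_ct (f112538 IH) (Lpr_gt (f569095 IH) (Lpe (K37.f546811 IH) (Lpe (K37.f202292 IH) (Lpe (f202296 IH) (Lpn (LP (LK LD1_c9 LD2_c8 LD3_c61))))))))))))
theorem f202290 : Led Lsl_ct (LP (LK LD1_c4 LD2_c36 LD3_c26)) = (LP (LK LD1_c9 LD2_c8 LD3_c61)) :=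
  Lre_c IH (LK LD1_c4 LD2_c36 LD3_c26) (LK LD1_c9 LD2_c8 LD3_c61) Lrfl Lrfl
theorem f569100 : Led Lsl_bf (LP (LK LD1_c6 LD2_c16 LD3_c31)) = (LP (LK LD1_c4 LD2_c36 LD3_c26)) :=
  Lgr Lrot156 (Lpr_gt (K36.f539970 IH) (Lpe (K35.f176082 IH) (Lpr_ct (K10.f176062 IH) (Lpe (K40.f563015 IH) (Lpe (K40.f452789 IH) (Lpr_bt (K40.f537744 IH) (Lpr_gt (K38.f548995 IH) (Lpr_ct (f101513 IH) (Lpr_gt (f569097 IH) (Lpe (f202290 IH) (Lpn (LP (LK LD1_c4 LD2_c36 LD3_c26)))))))))))))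
theorem f569104 : Led Lsl_bt (LP (LK LD1_c6 LD2_c16 LD3_c31)) = (LP (LK LD1_c4 LD2_c36 LD3_c26)) :=
  Lgr Lrot127 (Lpr_bf (f569100 IH) (Lpn (LP (LK LD1_c4 LD2_c36 LD3_c26))))
theorem f569115 : Led Lsl_bf (LP (LK LD1_c3 LD2_c5 LD3_c22)) = (LP (LK LD1_c6 LD2_c16 LD3_c14)) :=
  Lgr Lrot93 (Lpr_dt (K36.f202627 IH) (Lpr_bt (f569104 IH) (Lpr_dt (K37.f202292 IH) (Lpn (LP (LK LD1_c6 LD2_c16 LD3_c14))))))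
theorem f546813 : Led Lsl_ct (LP (LK LD1_c6 LD2_c16 LD3_c14)) = (LP (LK LD1_c7 LD2_c39 LD3_c14)) :=
  Lgr Lrot59 (Lpr_cf (K37.f546811 IH) (Lpn (LP (LK LD1_c7 LD2_c39 LD3_c14))))
theorem f569120 : Led Lsl_gt (LP (LK LD1_c3 LD2_c5 LD3_c22)) = (LP (LK LD1_c5 LD2_c0 LD3_c31)) :=
  Lgr Lrot82 (Lpr_bf (f569115 IH) (Lpr_ct (f546813 IH) (Lpe (f569095 IH) (Lpe (f112538 IH) (Lpr_bt (K40.f559726 IH) (Lpr_gf (K40.f562532 IH) (Lpr_bf (K39.f450286 IH) (Lpr_ct (K41.f418986 IH) (Lpe (K41.f562538 IH) (Lpe (K38.f175705 IH) (Lpn (LP (LK LD1_c5 LD2_c0 LD3_c31)))))))))))))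
theorem f569122 : Led Lsl_gf (LP (LK LD1_c3 LD2_c5 LD3_c22)) = (LP (LK LD1_c6 LD2_c15 LD3_c51)) :=
  Lgr Lrot47 (Lpr_gt (f569120 IH) (Lpe (K39.f175717 IH) (Lpr_ff (K39.f552413 IH) (Lpn (LP (LK LD1_c6 LD2_c15 LD3_c51))))))
theorem f569132 : Led Lsl_ef (LP (LK LD1_c2 LD2_c15 LD3_c33)) = (LP (LK LD1_c4 LD2_c32 LD3_c49)) :=
  Lgr Lrot17 (Lpr_gf (K8.f161388 IH) (Lpr_ef (K36.f539963 IH) (Lpr_dt (K36.f268301 IH) (Lpe (K36.f539970 IH) (Lpe (K36.f202627 IH) (Lpr_gf (f569122 IH) (Lpe (K39.f112373 IH) (Lpr_dt (K38.f547457 IH) (Lpr_gf (K38.f174903 IH) (Lpe (K38.f174905 IH) (Lpn (LP (LK LD1_c4 LD2_c32 LD3_c49)))))))))))))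
theorem f551991 : Led Lsl_ft (LP (LK LD1_c2 LD2_c46 LD3_c59)) = (LP (LK LD1_c4 LD2_c32 LD3_c49)) :=
  Lgr Lrot4 (Lpe (K39.f181678 IH) (Lpr_ff (K39.f551987 IH) (Lpr_cf (K31.f382072 IH) (Lpn (LP (LK LD1_c4 LD2_c32 LD3_c49))))))
theorem f569136 : Led Lsl_ft (LP (LK LD1_c2 LD2_c15 LD3_c20)) = (LP (LK LD1_c4 LD2_c36 LD3_c2)) :=
  Lgr Lrot86 (Lpe (K35.f538422 IH) (Lpe (K38.f161367 IH) (Lpr_ef (f569132 IH) (Lpe (f551991 IH) (Lpr_ef (K40.f563677 IH) (Lpn (LP (LK LD1_c4 LD2_c36 LD3_c2))))))))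
theorem f538421 : Led Lsl_dt (LP (LK LD1_c4 LD2_c36 LD3_c22)) = (LP (LK LD1_c2 LD2_c15 LD3_c20)) :=
  Lre_d IH (LK LD1_c4 LD2_c36 LD3_c22) (LK LD1_c2 LD2_c15 LD3_c20) Lrfl Lrfl
theorem f569142 : Led Lsl_ff (LP (LK LD1_c4 LD2_c36 LD3_c22)) = (LP (LK LD1_c9 LD2_c8 LD3_c19)) :=
  Lgr Lrot19 (Lpr_dt (f538421 IH) (Lpr_ft (f569136 IH) (Lpr_dt (K38.f198498 IH) (Lpn (LP (LK LD1_c9 LD2_c8 LD3_c19))))))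
theorem f71470 : Led Lsl_ct (LP (LK LD1_c4 LD2_c36 LD3_c22)) = (LP (LK LD1_c9 LD2_c8 LD3_c54)) :=
  Lre_c IH (LK LD1_c4 LD2_c36 LD3_c22) (LK LD1_c9 LD2_c8 LD3_c54) Lrfl Lrfl
theorem f549768 : Led Lsl_ct (LP (LK LD1_c17 LD2_c0 LD3_c49)) = (LP (LK LD1_c9 LD2_c8 LD3_c19)) :=
  Lre_c IH (LK LD1_c17 LD2_c0 LD3_c49) (LK LD1_c9 LD2_c8 LD3_c19) Lrfl Lrfl
theorem f569144 : Led Lsl_ft (LP (LK LD1_c9 LD2_c8 LD3_c54)) = (LP (LK LD1_c17 LD2_c0 LD3_c49)) :=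
  Lgr Lrot4 (Lpe (f71470 IH) (Lpr_ff (f569142 IH) (Lpe (f549768 IH) (Lpn (LP (LK LD1_c17 LD2_c0 LD3_c49))))))
theorem f548967 : Led Lsl_dt (LP (LK LD1_c6 LD2_c13 LD3_c25)) = (LP (LK LD1_c5 LD2_c49 LD3_c17)) :=
  Lgr Lrot42 (Lpr_df (K39.f548964 IH) (Lpn (LP (LK LD1_c5 LD2_c49 LD3_c17))))
theorem f556060 : Led Lsl_bf (LP (LK LD1_c4 LD2_c7 LD3_c14)) = (LP (LK LD1_c5 LD2_c49 LD3_c17)) :=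
  Lgr Lrot93 (Lpr_dt (K39.f556058 IH) (Lpe (K39.f539905 IH) (Lpr_dt (f548967 IH) (Lpn (LP (LK LD1_c5 LD2_c49 LD3_c17))))))
theorem f176630 : Led Lsl_ct (LP (LK LD1_c5 LD2_c49 LD3_c17)) = (LP (LK LD1_c11 LD2_c27 LD3_c40)) :=
  Lre_c IH (LK LD1_c5 LD2_c49 LD3_c17) (LK LD1_c11 LD2_c27 LD3_c40) Lrfl Lrfl
theorem f179900 : Led Lsl_bt (LP (LK LD1_c1 LD2_c10 LD3_c19)) = (LP (LK LD1_c2 LD2_c26 LD3_c11)) :=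
  Lre_b IH (LK LD1_c1 LD2_c10 LD3_c19) (LK LD1_c2 LD2_c26 LD3_c11) Lrfl Lrfl
theorem f202658 : Led Lsl_ct (LP (LK LD1_c3 LD2_c5 LD3_c19)) = (LP (LK LD1_c6 LD2_c16 LD3_c23)) :=
  Lre_c IH (LK LD1_c3 LD2_c5 LD3_c19) (LK LD1_c6 LD2_c16 LD3_c23) Lrfl Lrfl
theorem f556362 : Led Lsl_gf (LP (LK LD1_c11 LD2_c27 LD3_c40)) = (LP (LK LD1_c6 LD2_c16 LD3_c23)) :=
  Lgr Lrot129 (Lpe (f176630 IH) (Lpe (f556060 IH) (Lpr_gt (K41.f556358 IH) (Lpe (K39.f211673 IH) (Lpr_ct (K40.f211676 IH) (Lpr_gt (K10.f179901 IH) (Lpe (K10.f179899 IH) (Lpr_bt (f179900 IH) (Lpe (K39.f556352 IH) (Lpr_ct (f202658 IH) (Lpn (LP (LK LD1_c6 LD2_c16 LD3_c23)))))))))))))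
theorem f176691 : Led Lsl_ct (LP (LK LD1_c11 LD2_c27 LD3_c40)) = (LP (LK LD1_c5 LD2_c49 LD3_c17)) :=
  Lre_c IH (LK LD1_c11 LD2_c27 LD3_c40) (LK LD1_c5 LD2_c49 LD3_c17) Lrfl Lrfl
theorem f539920 : Led Lsl_ct (LP (LK LD1_c12 LD2_c5 LD3_c38)) = (LP (LK LD1_c6 LD2_c13 LD3_c25)) :=
  Lre_c IH (LK LD1_c12 LD2_c5 LD3_c38) (LK LD1_c6 LD2_c13 LD3_c25) Lrfl Lrfl
theorem f172600 : Led Lsl_dt (LP (LK LD1_c4 LD2_c56 LD3_c44)) = (LP (LK LD1_c2 LD2_c26 LD3_c11)) :=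
  Lre_d IH (LK LD1_c4 LD2_c56 LD3_c44) (LK LD1_c2 LD2_c26 LD3_c11) Lrfl Lrfl
theorem f541361 : Led Lsl_gt (LP (LK LD1_c4 LD2_c56 LD3_c44)) = (LP (LK LD1_c4 LD2_c36 LD3_c22)) :=
  Lgr Lrot112 (Lpe (K30.f172594 IH) (Lpr_et (K30.f172666 IH) (Lpe (K36.f172629 IH) (Lpr_ef (K36.f541357 IH) (Lpr_dt (K8.f138519 IH) (Lpe (K8.f157870 IH) (Lpe (K8.f148988 IH) (Lpr_gf (K7.f148986 IH) (Lpr_ef (K35.f538413 IH) (Lpr_dt (K35.f71469 IH) (Lpn (LP (LK LD1_c4 LD2_c36 LD3_c22)))))))))))))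
theorem f556374 : Led Lsl_gf (LP (LK LD1_c12 LD2_c5 LD3_c38)) = (LP (LK LD1_c9 LD2_c8 LD3_c54)) :=
  Lgr Lrot104 (Lpr_ct (f539920 IH) (Lpr_df (K39.f548964 IH) (Lpe (f176691 IH) (Lpr_gf (f556362 IH) (Lpe (f202658 IH) (Lpr_gf (K39.f556352 IH) (Lpe (f172600 IH) (Lpr_gt (f541361 IH) (Lpr_ct (f71470 IH) (Lpn (LP (LK LD1_c9 LD2_c8 LD3_c54))))))))))))
theorem f443051 : Led Lsl_dt (LP (LK LD1_c2 LD2_c15 LD3_c21)) = (LP (LK LD1_c4 LD2_c36 LD3_c24)) :=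
  Lre_d IH (LK LD1_c2 LD2_c15 LD3_c21) (LK LD1_c4 LD2_c36 LD3_c24) Lrfl Lrfl
theorem f548179 : Led Lsl_bf (LP (LK LD1_c9 LD2_c2 LD3_c30)) = (LP (LK LD1_c4 LD2_c36 LD3_c24)) :=
  Lgr Lrot93 (Lpr_dt (K38.f423345 IH) (Lpr_bt (K40.f548177 IH) (Lpr_dt (f443051 IH) (Lpn (LP (LK LD1_c4 LD2_c36 LD3_c24))))))
theorem f500556 : Led Lsl_ct (LP (LK LD1_c4 LD2_c36 LD3_c24)) = (LP (LK LD1_c9 LD2_c8 LD3_c56)) :=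
  Lre_c IH (LK LD1_c4 LD2_c36 LD3_c24) (LK LD1_c9 LD2_c8 LD3_c56) Lrfl Lrfl
theorem f422788 : Led Lsl_ct (LP (LK LD1_c6 LD2_c13 LD3_c25)) = (LP (LK LD1_c12 LD2_c5 LD3_c38)) :=
  Lre_c IH (LK LD1_c6 LD2_c13 LD3_c25) (LK LD1_c12 LD2_c5 LD3_c38) Lrfl Lrfl
theorem f556745 : Led Lsl_gf (LP (LK LD1_c9 LD2_c8 LD3_c56)) = (LP (LK LD1_c12 LD2_c5 LD3_c38)) :=
  Lgr Lrot126 (Lpe (f500556 IH) (Lpe (f548179 IH) (Lpr_gt (K39.f556739 IH) (Lpr_ct (K37.f24007 IH) (Lpr_gt (K37.f539283 IH) (Lpe (K37.f450541 IH) (Lpr_bt (K37.f450547 IH) (Lpr_gt (K37.f539895 IH) (Lpe (K39.f539907 IH) (Lpr_ct (f422788 IH) (Lpn (LP (LK LD1_c12 LD2_c5 LD3_c38)))))))))))))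
theorem f569167 : Led Lsl_af (LP (LK LD1_c9 LD2_c8 LD3_c56)) = (LP (LK LD1_c17 LD2_c0 LD3_c49)) :=
  Lgr Lrot31 (Lpr_gf (f556745 IH) (Lpr_gf (f556374 IH) (Lpr_ft (f569144 IH) (Lpn (LP (LK LD1_c17 LD2_c0 LD3_c49))))))
theorem f548183 : Led Lsl_ct (LP (LK LD1_c9 LD2_c8 LD3_c56)) = (LP (LK LD1_c4 LD2_c36 LD3_c24)) :=
  Lre_c IH (LK LD1_c9 LD2_c8 LD3_c56) (LK LD1_c4 LD2_c36 LD3_c24) Lrfl Lrfl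
theorem f198499 : Led Lsl_ct (LP (LK LD1_c9 LD2_c8 LD3_c19)) = (LP (LK LD1_c17 LD2_c0 LD3_c49)) :=
  Lre_c IH (LK LD1_c9 LD2_c8 LD3_c19) (LK LD1_c17 LD2_c0 LD3_c49) Lrfl Lrfl
theorem f569171 : Led Lsl_at (LP (LK LD1_c4 LD2_c36 LD3_c24)) = (LP (LK LD1_c9 LD2_c8 LD3_c19)) :=
  Lgr Lrot107 (Lpe (f548183 IH) (Lpr_af (f569167 IH) (Lpe (f198499 IH) (Lpn (LP (LK LD1_c9 LD2_c8 LD3_c19))))))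
theorem f569180 : Led Lsl_af (LP (LK LD1_c4 LD2_c36 LD3_c24)) = (LP (LK LD1_c9 LD2_c8 LD3_c19)) :=
  Lgr Lrot0 (Lpr_at (f569171 IH) (Lpn (LP (LK LD1_c9 LD2_c8 LD3_c19))))
theorem f569146 : Led Lsl_ft (LP (LK LD1_c4 LD2_c36 LD3_c22)) = (LP (LK LD1_c9 LD2_c8 LD3_c19)) :=
  Lgr Lrot48 (Lpr_ff (f569142 IH) (Lpn (LP (LK LD1_c9 LD2_c8 LD3_c19))))
theorem f569182 : Led Lsl_gf (LP (LK LD1_c4 LD2_c36 LD3_c24)) = (LP (LK LD1_c9 LD2_c8 LD3_c53)) :=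
  Lgr Lrot76 (Lpr_af (f569180 IH) (Lpe (f569146 IH) (Lpr_gt (K35.f138489 IH) (Lpn (LP (LK LD1_c9 LD2_c8 LD3_c53))))))
theorem f549096 : Led Lsl_gt (LP (LK LD1_c4 LD2_c36 LD3_c24)) = (LP (LK LD1_c4 LD2_c56 LD3_c44)) :=
  Lgr Lrot49 (Lpe (f443051 IH) (Lpe (K39.f210643 IH) (Lpe (K2.f71081 IH) (Lpr_gt (K38.f71089 IH) (Lpr_dt (K38.f71090 IH) (Lpr_gt (K38.f549094 IH) (Lpr_dt (K30.f179913 IH) (Lpe (K39.f179914 IH) (Lpe (f172600 IH) (Lpn (LP (LK LD1_c4 LD2_c56 LD3_c44))))))))))))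
theorem f172589 : Led Lsl_at (LP (LK LD1_c9 LD2_c44 LD3_c45)) = (LP (LK LD1_c4 LD2_c56 LD3_c44)) :=
  Lre_a IH (LK LD1_c9 LD2_c44 LD3_c45) (LK LD1_c4 LD2_c56 LD3_c44) Lrfl Lrfl
theorem f569184 : Led Lsl_ff (LP (LK LD1_c9 LD2_c44 LD3_c45)) = (LP (LK LD1_c9 LD2_c8 LD3_c53)) :=
  Lgr Lrot52 (Lpr_at (f172589 IH) (Lpe (f549096 IH) (Lpr_gf (f569182 IH) (Lpn (LP (LK LD1_c9 LD2_c8 LD3_c53))))))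
theorem f569194 : Led Lsl_ft (LP (LK LD1_c9 LD2_c44 LD3_c45)) = (LP (LK LD1_c9 LD2_c8 LD3_c53)) :=
  Lgr Lrot48 (Lpr_ff (f569184 IH) (Lpn (LP (LK LD1_c9 LD2_c8 LD3_c53))))
theorem f138494 : Led Lsl_df (LP (LK LD1_c6 LD2_c16 LD3_c9)) = (LP (LK LD1_c9 LD2_c8 LD3_c53)) :=
  Lgr Lrot38 (Lpr_dt (K35.f138490 IH) (Lpn (LP (LK LD1_c9 LD2_c8 LD3_c53))))
theorem f569200 : Led Lsl_ff (LP (LK LD1_c4 LD2_c56 LD3_c42)) = (LP (LK LD1_c6 LD2_c16 LD3_c9)) :=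
  Lgr Lrot19 (Lpr_dt (K38.f172653 IH) (Lpr_ft (f569194 IH) (Lpe (f138494 IH) (Lpn (LP (LK LD1_c6 LD2_c16 LD3_c9))))))
theorem f385339 : Led Lsl_at (LP (LK LD1_c4 LD2_c56 LD3_c42)) = (LP (LK LD1_c2 LD2_c26 LD3_c11)) :=
  Lre_a IH (LK LD1_c4 LD2_c56 LD3_c42) (LK LD1_c2 LD2_c26 LD3_c11) Lrfl Lrfl
theorem f179912 : Led Lsl_ct (LP (LK LD1_c4 LD2_c56 LD3_c36)) = (LP (LK LD1_c2 LD2_c26 LD3_c11)) :=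
  Lre_c IH (LK LD1_c4 LD2_c56 LD3_c36) (LK LD1_c2 LD2_c26 LD3_c11) Lrfl Lrfl
theorem f210448 : Led Lsl_ct (LP (LK LD1_c17 LD2_c53 LD3_c52)) = (LP (LK LD1_c9 LD2_c44 LD3_c37)) :=
  Lre_c IH (LK LD1_c17 LD2_c53 LD3_c52) (LK LD1_c9 LD2_c44 LD3_c37) Lrfl Lrfl
theorem f227540 : Led Lsl_dt (LP (LK LD1_c27 LD2_c39 LD3_c21)) = (LP (LK LD1_c17 LD2_c53 LD3_c52)) :=
  Lre_d IH (LK LD1_c27 LD2_c39 LD3_c21) (LK LD1_c17 LD2_c53 LD3_c52) Lrfl Lrfl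
theorem f138492 : Led Lsl_ct (LP (LK LD1_c9 LD2_c8 LD3_c53)) = (LP (LK LD1_c17 LD2_c1 LD3_c42)) :=
  Lre_c IH (LK LD1_c9 LD2_c8 LD3_c53) (LK LD1_c17 LD2_c1 LD3_c42) Lrfl Lrfl
theorem f138493 : Led Lsl_dt (LP (LK LD1_c17 LD2_c1 LD3_c42)) = (LP (LK LD1_c26 LD2_c56 LD3_c45)) :=
  Lre_d IH (LK LD1_c17 LD2_c1 LD3_c42) (LK LD1_c26 LD2_c56 LD3_c45) Lrfl Lrfl
theorem f569210 : Led Lsl_cf (LP (LK LD1_c27 LD2_c39 LD3_c21)) = (LP (LK LD1_c26 LD2_c56 LD3_c45)) :=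
  Lgr Lrot116 (Lpr_dt (f227540 IH) (Lpr_ct (f210448 IH) (Lpr_dt (K30.f179913 IH) (Lpr_ct (f179912 IH) (Lpe (f385339 IH) (Lpr_ff (f569200 IH) (Lpr_dt (K35.f138490 IH) (Lpr_ct (f138492 IH) (Lpr_dt (f138493 IH) (Lpn (LP (LK LD1_c26 LD2_c56 LD3_c45))))))))))))
theorem f569212 : Led Lsl_ct (LP (LK LD1_c27 LD2_c39 LD3_c21)) = (LP (LK LD1_c26 LD2_c56 LD3_c45)) :=
  Lgr Lrot59 (Lpr_cf (f569210 IH) (Lpn (LP (LK LD1_c26 LD2_c56 LD3_c45))))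
theorem f385284 : Led Lsl_dt (LP (LK LD1_c17 LD2_c53 LD3_c52)) = (LP (LK LD1_c27 LD2_c39 LD3_c21)) :=
  Lre_d IH (LK LD1_c17 LD2_c53 LD3_c52) (LK LD1_c27 LD2_c39 LD3_c21) Lrfl Lrfl
theorem f210413 : Led Lsl_ct (LP (LK LD1_c9 LD2_c44 LD3_c37)) = (LP (LK LD1_c17 LD2_c53 LD3_c52)) :=
  Lre_c IH (LK LD1_c9 LD2_c44 LD3_c37) (LK LD1_c17 LD2_c53 LD3_c52) Lrfl Lrfl
theorem f172590 : Led Lsl_ct (LP (LK LD1_c9 LD2_c44 LD3_c47)) = (LP (LK LD1_c4 LD2_c56 LD3_c44)) :=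
  Lre_c IH (LK LD1_c9 LD2_c44 LD3_c47) (LK LD1_c4 LD2_c56 LD3_c44) Lrfl Lrfl
theorem f172664 : Led Lsl_dt (LP (LK LD1_c17 LD2_c53 LD3_c55)) = (LP (LK LD1_c9 LD2_c44 LD3_c47)) :=
  Lre_d IH (LK LD1_c17 LD2_c53 LD3_c55) (LK LD1_c9 LD2_c44 LD3_c47) Lrfl Lrfl
theorem f172662 : Led Lsl_ct (LP (LK LD1_c4 LD2_c56 LD3_c44)) = (LP (LK LD1_c9 LD2_c44 LD3_c47)) :=
  Lre_c IH (LK LD1_c4 LD2_c56 LD3_c44) (LK LD1_c9 LD2_c44 LD3_c47) Lrfl Lrfl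
theorem f385287 : Led Lsl_ff (LP (LK LD1_c11 LD2_c32 LD3_c31)) = (LP (LK LD1_c9 LD2_c44 LD3_c47)) :=
  Lgr Lrot23 (Lpr_ct (K38.f198530 IH) (Lpr_ft (K30.f385282 IH) (Lpr_ct (f172662 IH) (Lpn (LP (LK LD1_c9 LD2_c44 LD3_c47))))))
theorem f198553 : Led Lsl_dt (LP (LK LD1_c11 LD2_c32 LD3_c31)) = (LP (LK LD1_c20 LD2_c29 LD3_c21)) :=
  Lre_d IH (LK LD1_c11 LD2_c32 LD3_c31) (LK LD1_c20 LD2_c29 LD3_c21) Lrfl Lrfl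
theorem f385289 : Led Lsl_ft (LP (LK LD1_c20 LD2_c29 LD3_c21)) = (LP (LK LD1_c17 LD2_c53 LD3_c55)) :=
  Lgr Lrot54 (Lpe (f198553 IH) (Lpr_ff (f385287 IH) (Lpe (f172664 IH) (Lpn (LP (LK LD1_c17 LD2_c53 LD3_c55))))))
theorem f385296 : Led Lsl_ff (LP (LK LD1_c20 LD2_c29 LD3_c21)) = (LP (LK LD1_c17 LD2_c53 LD3_c55)) :=
  Lgr Lrot3 (Lpr_ft (f385289 IH) (Lpn (LP (LK LD1_c17 LD2_c53 LD3_c55))))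
theorem f569214 : Led Lsl_at (LP (LK LD1_c20 LD2_c29 LD3_c21)) = (LP (LK LD1_c26 LD2_c56 LD3_c45)) :=
  Lgr Lrot33 (Lpr_ff (f385296 IH) (Lpr_dt (f172664 IH) (Lpr_ct (f172590 IH) (Lpr_dt (f172600 IH) (Lpr_ct (K39.f179914 IH) (Lpr_dt (K38.f210450 IH) (Lpr_ct (f210413 IH) (Lpr_dt (f385284 IH) (Lpr_ct (f569212 IH) (Lpn (LP (LK LD1_c26 LD2_c56 LD3_c45))))))))))))
theorem f549789 : Led Lsl_gf (LP (LK LD1_c12 LD2_c5 LD3_c42)) = (LP (LK LD1_c20 LD2_c29 LD3_c20)) :=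
  Lgr Lrot129 (Lpe (K38.f549769 IH) (Lpr_bt (K38.f549778 IH) (Lpr_gt (K38.f99675 IH) (Lpe (K40.f509277 IH) (Lpr_ct (K39.f387413 IH) (Lpr_gt (K39.f387414 IH) (Lpr_cf (K37.f539897 IH) (Lpe (K39.f539905 IH) (Lpr_gt (K39.f100538 IH) (Lpe (K38.f549695 IH) (Lpn (LP (LK LD1_c20 LD2_c29 LD3_c20)))))))))))))
theorem f385280 : Led Lsl_ft (LP (LK LD1_c11 LD2_c32 LD3_c31)) = (LP (LK LD1_c9 LD2_c44 LD3_c47)) :=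
  Lgr Lrot4 (Lpe (K38.f198532 IH) (Lpr_ff (K30.f385275 IH) (Lpe (f172590 IH) (Lpn (LP (LK LD1_c9 LD2_c44 LD3_c47))))))
theorem f549791 : Led Lsl_af (LP (LK LD1_c12 LD2_c5 LD3_c42)) = (LP (LK LD1_c9 LD2_c44 LD3_c47)) :=
  Lgr Lrot31 (Lpr_gf (f549789 IH) (Lpe (K38.f385927 IH) (Lpr_ft (f385280 IH) (Lpn (LP (LK LD1_c9 LD2_c44 LD3_c47))))))
theorem f549771 : Led Lsl_dt (LP (LK LD1_c12 LD2_c5 LD3_c42)) = (LP (LK LD1_c21 LD2_c11 LD3_c26)) :=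
  Lre_d IH (LK LD1_c12 LD2_c5 LD3_c42) (LK LD1_c21 LD2_c11 LD3_c26) Lrfl Lrfl
theorem f549793 : Led Lsl_at (LP (LK LD1_c21 LD2_c11 LD3_c26)) = (LP (LK LD1_c17 LD2_c53 LD3_c55)) :=
  Lgr Lrot51 (Lpe (f549771 IH) (Lpr_af (f549791 IH) (Lpe (f172664 IH) (Lpn (LP (LK LD1_c17 LD2_c53 LD3_c55))))))
theorem f569224 : Led Lsl_ff (LP (LK LD1_c21 LD2_c11 LD3_c26)) = (LP (LK LD1_c26 LD2_c56 LD3_c45)) :=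
  Lgr Lrot30 (Lpr_at (f549793 IH) (Lpe (f385296 IH) (Lpr_at (f569214 IH) (Lpn (LP (LK LD1_c26 LD2_c56 LD3_c45))))))
theorem f569226 : Led Lsl_ft (LP (LK LD1_c21 LD2_c11 LD3_c26)) = (LP (LK LD1_c26 LD2_c56 LD3_c45)) :=
  Lgr Lrot48 (Lpr_ff (f569224 IH) (Lpn (LP (LK LD1_c26 LD2_c56 LD3_c45))))
theorem f569218 : Led Lsl_af (LP (LK LD1_c20 LD2_c29 LD3_c21)) = (LP (LK LD1_c26 LD2_c56 LD3_c45)) :=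
  Lgr Lrot0 (Lpr_at (f569214 IH) (Lpn (LP (LK LD1_c26 LD2_c56 LD3_c45))))
theorem f198531 : Led Lsl_dt (LP (LK LD1_c20 LD2_c29 LD3_c21)) = (LP (LK LD1_c11 LD2_c32 LD3_c31)) :=
  Lre_d IH (LK LD1_c20 LD2_c29 LD3_c21) (LK LD1_c11 LD2_c32 LD3_c31) Lrfl Lrfl
theorem f202305 : Led Lsl_ct (LP (LK LD1_c17 LD2_c0 LD3_c54)) = (LP (LK LD1_c9 LD2_c8 LD3_c22)) :=
  Lre_c IH (LK LD1_c17 LD2_c0 LD3_c54) (LK LD1_c9 LD2_c8 LD3_c22) Lrfl Lrfl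
theorem f202303 : Led Lsl_dt (LP (LK LD1_c9 LD2_c9 LD3_c1)) = (LP (LK LD1_c17 LD2_c2 LD3_c0)) :=
  Lre_d IH (LK LD1_c9 LD2_c9 LD3_c1) (LK LD1_c17 LD2_c2 LD3_c0) Lrfl Lrfl
theorem f569089 : Led Lsl_gf (LP (LK LD1_c20 LD2_c29 LD3_c21)) = (LP (LK LD1_c17 LD2_c2 LD3_c0)) :=
  Lgr Lrot143 (Lpr_dt (f198531 IH) (Lpe (K38.f198532 IH) (Lpr_df (K40.f198549 IH) (Lpr_gf (f569085 IH) (Lpe (K37.f202292 IH) (Lpe (K37.f71109 IH) (Lpe (f202305 IH) (Lpr_gt (K38.f202302 IH) (Lpr_dt (f202303 IH) (Lpn (LP (LK LD1_c17 LD2_c2 LD3_c0))))))))))))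
theorem f569231 : Led Lsl_gt (LP (LK LD1_c21 LD2_c11 LD3_c26)) = (LP (LK LD1_c17 LD2_c2 LD3_c0)) :=
  Lgr Lrot5 (Lpr_ft (f569226 IH) (Lpe (f569218 IH) (Lpr_gf (f569089 IH) (Lpn (LP (LK LD1_c17 LD2_c2 LD3_c0))))))
theorem f100900 : Led Lsl_ct (LP (LK LD1_c6 LD2_c13 LD3_c28)) = (LP (LK LD1_c12 LD2_c5 LD3_c45)) :=
  Lre_c IH (LK LD1_c6 LD2_c13 LD3_c28) (LK LD1_c12 LD2_c5 LD3_c45) Lrfl Lrfl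
theorem f100927 : Led Lsl_at (LP (LK LD1_c12 LD2_c5 LD3_c30)) = (LP (LK LD1_c6 LD2_c13 LD3_c28)) :=
  Lre_a IH (LK LD1_c12 LD2_c5 LD3_c30) (LK LD1_c6 LD2_c13 LD3_c28) Lrfl Lrfl
theorem f549690 : Led Lsl_ct (LP (LK LD1_c20 LD2_c29 LD3_c20)) = (LP (LK LD1_c12 LD2_c5 LD3_c30)) :=
  Lgr Lrot111 (Lpr_af (K38.f549681 IH) (Lpe (f100900 IH) (Lpe (f100927 IH) (Lpn (LP (LK LD1_c12 LD2_c5 LD3_c30))))))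
theorem f548661 : Led Lsl_dt (LP (LK LD1_c17 LD2_c2 LD3_c0)) = (LP (LK LD1_c9 LD2_c9 LD3_c1)) :=
  Lre_d IH (LK LD1_c17 LD2_c2 LD3_c0) (LK LD1_c9 LD2_c9 LD3_c1) Lrfl Lrfl
theorem f176628 : Led Lsl_gt (LP (LK LD1_c5 LD2_c49 LD3_c18)) = (LP (LK LD1_c2 LD2_c50 LD3_c43)) :=
  Lre_g IH (LK LD1_c5 LD2_c49 LD3_c18) (LK LD1_c2 LD2_c50 LD3_c43) Lrfl Lrfl
theorem f569234 : Led Lsl_dt (LP (LK LD1_c6 LD2_c13 LD3_c26)) = (LP (LK LD1_c5 LD2_c49 LD3_c18)) :=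
  Lgr Lrot57 (Lpe (K40.f100539 IH) (Lpe (f549690 IH) (Lpe (f549789 IH) (Lpr_dt (f549771 IH) (Lpr_gt (f569231 IH) (Lpr_dt (f548661 IH) (Lpe (K38.f548651 IH) (Lpe (K41.f450380 IH) (Lpe (f176628 IH) (Lpn (LP (LK LD1_c5 LD2_c49 LD3_c18))))))))))))
theorem f569239 : Led Lsl_df (LP (LK LD1_c6 LD2_c13 LD3_c26)) = (LP (LK LD1_c5 LD2_c49 LD3_c18)) :=
  Lgr Lrot38 (Lpr_dt (f569234 IH) (Lpn (LP (LK LD1_c5 LD2_c49 LD3_c18))))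
theorem f99509 : Led Lsl_et (LP (LK LD1_c1 LD2_c27 LD3_c39)) = (LP (LK LD1_c0 LD2_c40 LD3_c32)) :=
  Lre_e IH (LK LD1_c1 LD2_c27 LD3_c39) (LK LD1_c0 LD2_c40 LD3_c32) Lrfl Lrfl
theorem f569248 : Led Lsl_ef (LP (LK LD1_c6 LD2_c15 LD3_c22)) = (LP (LK LD1_c5 LD2_c49 LD3_c18)) :=
  Lgr Lrot17 (Lpe (K40.f60876 IH) (Lpe (K4.f60842 IH) (Lpr_dt (K8.f73831 IH) (Lpe (K4.f73823 IH) (Lpr_df (K4.f99497 IH) (Lpe (K4.f36621 IH) (Lpe (f99509 IH) (Lpr_dt (K38.f99510 IH) (Lpe (K38.f99511 IH) (Lpr_df (f569239 IH) (Lpn (LP (LK LD1_c5 LD2_c49 LD3_c18)))))))))))))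
theorem f569256 : Led Lsl_et (LP (LK LD1_c6 LD2_c15 LD3_c22)) = (LP (LK LD1_c5 LD2_c49 LD3_c18)) :=
  Lgr Lrot87 (Lpr_ef (f569248 IH) (Lpn (LP (LK LD1_c5 LD2_c49 LD3_c18))))
theorem f450419 : Led Lsl_ct (LP (LK LD1_c5 LD2_c49 LD3_c18)) = (LP (LK LD1_c11 LD2_c27 LD3_c41)) :=
  Lre_c IH (LK LD1_c5 LD2_c49 LD3_c18) (LK LD1_c11 LD2_c27 LD3_c41) Lrfl Lrfl
theorem f569260 : Led Lsl_ef (LP (LK LD1_c9 LD2_c44 LD3_c41)) = (LP (LK LD1_c11 LD2_c27 LD3_c41)) :=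
  Lgr Lrot28 (Lpe (K39.f556177 IH) (Lpr_et (f569256 IH) (Lpr_ct (f450419 IH) (Lpn (LP (LK LD1_c11 LD2_c27 LD3_c41))))))
theorem f541355 : Led Lsl_ef (LP (LK LD1_c4 LD2_c56 LD3_c41)) = (LP (LK LD1_c4 LD2_c42 LD3_c51)) :=
  Lgr Lrot28 (Lpr_ct (K39.f172692 IH) (Lpr_et (K36.f541353 IH) (Lpr_ct (K8.f59420 IH) (Lpn (LP (LK LD1_c4 LD2_c42 LD3_c51))))))
theorem f538428 : Led Lsl_ef (LP (LK LD1_c2 LD2_c54 LD3_c23)) = (LP (LK LD1_c4 LD2_c36 LD3_c21)) :=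
  Lgr Lrot28 (Lpr_ct (K8.f148989 IH) (Lpr_et (K35.f538422 IH) (Lpr_ct (K37.f202304 IH) (Lpn (LP (LK LD1_c4 LD2_c36 LD3_c21))))))
theorem f549023 : Led Lsl_dt (LP (LK LD1_c4 LD2_c36 LD3_c21)) = (LP (LK LD1_c9 LD2_c8 LD3_c52)) :=
  Lre_d IH (LK LD1_c4 LD2_c36 LD3_c21) (LK LD1_c9 LD2_c8 LD3_c52) Lrfl Lrfl
theorem f569273 : Led Lsl_gt (LP (LK LD1_c17 LD2_c1 LD3_c39)) = (LP (LK LD1_c9 LD2_c8 LD3_c52)) :=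
  Lre_g IH (LK LD1_c17 LD2_c1 LD3_c39) (LK LD1_c9 LD2_c8 LD3_c52) Lrfl Lrfl
theorem f569274 : Led Lsl_df (LP (LK LD1_c17 LD2_c1 LD3_c39)) = (LP (LK LD1_c11 LD2_c27 LD3_c41)) :=
  Lgr Lrot170 (Lpr_gt (f569273 IH) (Lpe (f549023 IH) (Lpe (f538428 IH) (Lpe (K8.f158660 IH) (Lpr_dt (K8.f99526 IH) (Lpr_gt (K8.f158656 IH) (Lpe (K8.f138526 IH) (Lpe (f541355 IH) (Lpr_gt (K39.f556184 IH) (Lpr_ef (f569260 IH) (Lpn (LP (LK LD1_c11 LD2_c27 LD3_c41)))))))))))))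
theorem f556182 : Led Lsl_gf (LP (LK LD1_c15 LD2_c3 LD3_c53)) = (LP (LK LD1_c9 LD2_c44 LD3_c42)) :=
  Lgr Lrot143 (Lpr_dt (K39.f181357 IH) (Lpr_cf (K39.f542199 IH) (Lpe (K37.f157832 IH) (Lpr_gf (K37.f172239 IH) (Lpe (K37.f172225 IH) (Lpe (K39.f60759 IH) (Lpr_cf (K39.f556177 IH) (Lpr_gt (K39.f380282 IH) (Lpr_dt (K39.f547284 IH) (Lpn (LP (LK LD1_c9 LD2_c44 LD3_c42))))))))))))
theorem f210664 : Led Lsl_dt (LP (LK LD1_c4 LD2_c36 LD3_c23)) = (LP (LK LD1_c9 LD2_c8 LD3_c55)) :=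
  Lre_d IH (LK LD1_c4 LD2_c36 LD3_c23) (LK LD1_c9 LD2_c8 LD3_c55) Lrfl Lrfl
theorem f569281 : Led Lsl_gf (LP (LK LD1_c17 LD2_c1 LD3_c39)) = (LP (LK LD1_c9 LD2_c8 LD3_c55)) :=
  Lgr Lrot145 (Lpr_df (f569274 IH) (Lpe (f569260 IH) (Lpr_gt (K39.f380282 IH) (Lpr_dt (K39.f547284 IH) (Lpe (f556182 IH) (Lpe (K39.f181362 IH) (Lpr_et (K39.f542201 IH) (Lpr_gt (K30.f174536 IH) (Lpe (K38.f547488 IH) (Lpr_dt (f210664 IH) (Lpn (LP (LK LD1_c9 LD2_c8 LD3_c55)))))))))))))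
theorem f101193 : Led Lsl_ct (LP (LK LD1_c12 LD2_c5 LD3_c5)) = (LP (LK LD1_c6 LD2_c13 LD3_c4)) :=
  Lre_c IH (LK LD1_c12 LD2_c5 LD3_c5) (LK LD1_c6 LD2_c13 LD3_c4) Lrfl Lrfl
theorem f101196 : Led Lsl_gt (LP (LK LD1_c21 LD2_c10 LD3_c25)) = (LP (LK LD1_c12 LD2_c5 LD3_c5)) :=
  Lre_g IH (LK LD1_c21 LD2_c10 LD3_c25) (LK LD1_c12 LD2_c5 LD3_c5) Lrfl Lrfl
theorem f569285 : Led Lsl_ct (LP (LK LD1_c17 LD2_c1 LD3_c39)) = (LP (LK LD1_c21 LD2_c10 LD3_c25)) :=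
  Lgr Lrot152 (Lpr_gf (f569281 IH) (Lpe (f210664 IH) (Lpe (K41.f565421 IH) (Lpr_ct (K39.f193539 IH) (Lpr_gt (K38.f99563 IH) (Lpr_ct (K38.f172131 IH) (Lpe (K38.f101243 IH) (Lpe (f101193 IH) (Lpe (f101196 IH) (Lpn (LP (LK LD1_c21 LD2_c10 LD3_c25))))))))))))
theorem f547502 : Led Lsl_dt (LP (LK LD1_c9 LD2_c8 LD3_c52)) = (LP (LK LD1_c4 LD2_c36 LD3_c21)) :=
  Lre_d IH (LK LD1_c9 LD2_c8 LD3_c52) (LK LD1_c4 LD2_c36 LD3_c21) Lrfl Lrfl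
theorem f546819 : Led Lsl_ct (LP (LK LD1_c21 LD2_c11 LD3_c12)) = (LP (LK LD1_c12 LD2_c5 LD3_c31)) :=
  Lre_c IH (LK LD1_c21 LD2_c11 LD3_c12) (LK LD1_c12 LD2_c5 LD3_c31) Lrfl Lrfl
theorem f101195 : Led Lsl_dt (LP (LK LD1_c12 LD2_c5 LD3_c5)) = (LP (LK LD1_c21 LD2_c10 LD3_c27)) :=
  Lre_d IH (LK LD1_c12 LD2_c5 LD3_c5) (LK LD1_c21 LD2_c10 LD3_c27) Lrfl Lrfl
theorem f101239 : Led Lsl_gt (LP (LK LD1_c21 LD2_c10 LD3_c27)) = (LP (LK LD1_c29 LD2_c52 LD3_c45)) :=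
  Lre_g IH (LK LD1_c21 LD2_c10 LD3_c27) (LK LD1_c29 LD2_c52 LD3_c45) Lrfl Lrfl
theorem f569298 : Led Lsl_df (LP (LK LD1_c21 LD2_c11 LD3_c12)) = (LP (LK LD1_c29 LD2_c52 LD3_c45)) :=
  Lgr Lrot174 (Lpr_ct (f546819 IH) (Lpe (K37.f546815 IH) (Lpr_gf (K37.f539929 IH) (Lpe (f547502 IH) (Lpe (f569273 IH) (Lpr_ct (f569285 IH) (Lpr_gt (f101196 IH) (Lpr_dt (f101195 IH) (Lpr_gt (f101239 IH) (Lpn (LP (LK LD1_c29 LD2_c52 LD3_c45))))))))))))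
theorem f101238 : Led Lsl_dt (LP (LK LD1_c21 LD2_c10 LD3_c27)) = (LP (LK LD1_c12 LD2_c5 LD3_c5)) :=
  Lre_d IH (LK LD1_c21 LD2_c10 LD3_c27) (LK LD1_c12 LD2_c5 LD3_c5) Lrfl Lrfl
theorem f549756 : Led Lsl_cf (LP (LK LD1_c21 LD2_c10 LD3_c27)) = (LP (LK LD1_c26 LD2_c55 LD3_c57)) :=
  Lgr Lrot55 (Lpr_dt (f101238 IH) (Lpr_ct (f101193 IH) (Lpr_dt (K38.f101243 IH) (Lpr_ct (K38.f172130 IH) (Lpr_dt (K38.f99510 IH) (Lpr_ct (K38.f101699 IH) (Lpr_dt (K38.f549029 IH) (Lpr_ct (K38.f549031 IH) (Lpr_dt (K38.f549026 IH) (Lpr_ct (K38.f418480 IH) (Lpr_dt (K38.f418483 IH) (Lpe (K38.f549016 IH) (Lpr_dt (K7.f100505 IH) (Lpe (K38.f549695 IH) (Lpr_dt (K38.f549715 IH) (Lpn (LP (LK LD1_c26 LD2_c55 LD3_c57))))))))))))))))))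
theorem f536446 : Led Lsl_ct (LP (LK LD1_c29 LD2_c27 LD3_c50)) = (LP (LK LD1_c20 LD2_c28 LD3_c14)) :=
  Lre_c IH (LK LD1_c29 LD2_c27 LD3_c50) (LK LD1_c20 LD2_c28 LD3_c14) Lrfl Lrfl
theorem f548987 : Led Lsl_df (LP (LK LD1_c29 LD2_c27 LD3_c50)) = (LP (LK LD1_c21 LD2_c14 LD3_c12)) :=
  Lgr Lrot38 (Lpr_dt (K38.f548983 IH) (Lpn (LP (LK LD1_c21 LD2_c14 LD3_c12))))
theorem f569304 : Led Lsl_gt (LP (LK LD1_c21 LD2_c11 LD3_c12)) = (LP (LK LD1_c21 LD2_c14 LD3_c12)) :=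
  Lgr Lrot49 (Lpr_df (f569298 IH) (Lpe (f101239 IH) (Lpr_cf (f549756 IH) (Lpr_gt (K38.f442799 IH) (Lpr_dt (K38.f202650 IH) (Lpe (K40.f536430 IH) (Lpr_dt (K38.f536437 IH) (Lpe (f536446 IH) (Lpr_df (f548987 IH) (Lpn (LP (LK LD1_c21 LD2_c14 LD3_c12))))))))))))
theorem f420823 : Led Lsl_dt (LP (LK LD1_c17 LD2_c0 LD3_c43)) = (LP (LK LD1_c26 LD2_c55 LD3_c44)) :=
  Lre_d IH (LK LD1_c17 LD2_c0 LD3_c43) (LK LD1_c26 LD2_c55 LD3_c44) Lrfl Lrfl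
theorem f424556 : Led Lsl_ct (LP (LK LD1_c17 LD2_c2 LD3_c5)) = (LP (LK LD1_c26 LD2_c55 LD3_c44)) :=
  Lre_c IH (LK LD1_c17 LD2_c2 LD3_c5) (LK LD1_c26 LD2_c55 LD3_c44) Lrfl Lrfl
theorem f99518 : Led Lsl_dt (LP (LK LD1_c3 LD2_c3 LD3_c17)) = (LP (LK LD1_c6 LD2_c13 LD3_c4)) :=
  Lre_d IH (LK LD1_c3 LD2_c3 LD3_c17) (LK LD1_c6 LD2_c13 LD3_c4) Lrfl Lrfl
theorem f101235 : Led Lsl_ct (LP (LK LD1_c6 LD2_c13 LD3_c4)) = (LP (LK LD1_c12 LD2_c5 LD3_c5)) :=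
  Lre_c IH (LK LD1_c6 LD2_c13 LD3_c4) (LK LD1_c12 LD2_c5 LD3_c5) Lrfl Lrfl
theorem f549713 : Led Lsl_ct (LP (LK LD1_c21 LD2_c10 LD3_c27)) = (LP (LK LD1_c26 LD2_c55 LD3_c57)) :=
  Lgr Lrot176 (Lpe (f101195 IH) (Lpe (f101235 IH) (Lpe (f99518 IH) (Lpe (K38.f172131 IH) (Lpe (K38.f99550 IH) (Lpe (K38.f101584 IH) (Lpe (K38.f186451 IH) (Lpe (K38.f549020 IH) (Lpr_df (K38.f549021 IH) (Lpe (K38.f418479 IH) (Lpe (K38.f418478 IH) (Lpe (K38.f549014 IH) (Lpe (K38.f100557 IH) (Lpe (f549690 IH) (Lpr_df (K38.f549697 IH) (Lpn (LP (LK LD1_c26 LD2_c55 LD3_c57))))))))))))))))))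
theorem f549059 : Led Lsl_ct (LP (LK LD1_c17 LD2_c1 LD3_c11)) = (LP (LK LD1_c9 LD2_c8 LD3_c33)) :=
  Lre_c IH (LK LD1_c17 LD2_c1 LD3_c11) (LK LD1_c9 LD2_c8 LD3_c33) Lrfl Lrfl
theorem f549088 : Led Lsl_ff (LP (LK LD1_c17 LD2_c1 LD3_c11)) = (LP (LK LD1_c12 LD2_c5 LD3_c5)) :=
  Lgr Lrot23 (Lpr_ct (f549059 IH) (Lpr_ft (K38.f549080 IH) (Lpr_ct (f101235 IH) (Lpn (LP (LK LD1_c12 LD2_c5 LD3_c5))))))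
theorem f549717 : Led Lsl_af (LP (LK LD1_c20 LD2_c38 LD3_c49)) = (LP (LK LD1_c17 LD2_c1 LD3_c11)) :=
  Lgr Lrot109 (Lpe (K38.f418479 IH) (Lpe (K38.f418478 IH) (Lpe (K38.f549014 IH) (Lpe (K38.f100557 IH) (Lpe (f549690 IH) (Lpr_df (K38.f549697 IH) (Lpe (f549713 IH) (Lpe (f101195 IH) (Lpe (f549088 IH) (Lpn (LP (LK LD1_c17 LD2_c1 LD3_c11))))))))))))
theorem f549721 : Led Lsl_dt (LP (LK LD1_c26 LD2_c56 LD3_c20)) = (LP (LK LD1_c17 LD2_c1 LD3_c11)) :=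
  Lre_d IH (LK LD1_c26 LD2_c56 LD3_c20) (LK LD1_c17 LD2_c1 LD3_c11) Lrfl Lrfl
theorem f549722 : Led Lsl_at (LP (LK LD1_c21 LD2_c11 LD3_c31)) = (LP (LK LD1_c26 LD2_c56 LD3_c20)) :=
  Lgr Lrot51 (Lpr_df (K38.f549021 IH) (Lpr_af (f549717 IH) (Lpe (f549721 IH) (Lpn (LP (LK LD1_c26 LD2_c56 LD3_c20))))))
theorem f549733 : Led Lsl_af (LP (LK LD1_c21 LD2_c11 LD3_c31)) = (LP (LK LD1_c26 LD2_c56 LD3_c20)) :=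
  Lgr Lrot0 (Lpr_at (f549722 IH) (Lpn (LP (LK LD1_c26 LD2_c56 LD3_c20))))
theorem f549736 : Led Lsl_ft (LP (LK LD1_c21 LD2_c10 LD3_c27)) = (LP (LK LD1_c26 LD2_c56 LD3_c20)) :=
  Lgr Lrot142 (Lpr_dt (f101238 IH) (Lpr_ct (f101193 IH) (Lpr_dt (K38.f101243 IH) (Lpr_ct (K38.f172130 IH) (Lpr_dt (K38.f99510 IH) (Lpr_ct (K38.f101699 IH) (Lpr_dt (K38.f549029 IH) (Lpr_ct (K38.f549031 IH) (Lpr_af (f549733 IH) (Lpn (LP (LK LD1_c26 LD2_c56 LD3_c20))))))))))))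
theorem f549742 : Led Lsl_gt (LP (LK LD1_c29 LD2_c52 LD3_c45)) = (LP (LK LD1_c21 LD2_c11 LD3_c31)) :=
  Lgr Lrot46 (Lpe (f101239 IH) (Lpr_ft (f549736 IH) (Lpe (f549733 IH) (Lpn (LP (LK LD1_c21 LD2_c11 LD3_c31))))))
theorem f569306 : Led Lsl_gf (LP (LK LD1_c17 LD2_c2 LD3_c5)) = (LP (LK LD1_c12 LD2_c5 LD3_c44)) :=
  Lgr Lrot104 (Lpr_ct (f424556 IH) (Lpe (f420823 IH) (Lpe (K41.f418491 IH) (Lpr_gf (K38.f424550 IH) (Lpe (K38.f424554 IH) (Lpe (f569304 IH) (Lpr_df (f569298 IH) (Lpr_gt (f549742 IH) (Lpr_ct (K38.f549020 IH) (Lpn (LP (LK LD1_c12 LD2_c5 LD3_c44))))))))))))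
theorem f569308 : Led Lsl_at (LP (LK LD1_c26 LD2_c55 LD3_c59)) = (LP (LK LD1_c17 LD2_c2 LD3_c5)) :=
  Lre_a IH (LK LD1_c26 LD2_c55 LD3_c59) (LK LD1_c17 LD2_c2 LD3_c5) Lrfl Lrfl
theorem f569309 : Led Lsl_ft (LP (LK LD1_c17 LD2_c0 LD3_c53)) = (LP (LK LD1_c26 LD2_c55 LD3_c59)) :=
  Lre_f IH (LK LD1_c17 LD2_c0 LD3_c53) (LK LD1_c26 LD2_c55 LD3_c59) Lrfl Lrfl
theorem f569310 : Led Lsl_gt (LP (LK LD1_c17 LD2_c0 LD3_c53)) = (LP (LK LD1_c12 LD2_c5 LD3_c44)) :=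
  Lgr Lrot5 (Lpr_ft (f569309 IH) (Lpr_at (f569308 IH) (Lpr_gf (f569306 IH) (Lpn (LP (LK LD1_c12 LD2_c5 LD3_c44))))))
theorem f548998 : Led Lsl_dt (LP (LK LD1_c12 LD2_c5 LD3_c32)) = (LP (LK LD1_c21 LD2_c11 LD3_c14)) :=
  Lre_d IH (LK LD1_c12 LD2_c5 LD3_c32) (LK LD1_c21 LD2_c11 LD3_c14) Lrfl Lrfl
theorem f173325 : Led Lsl_at (LP (LK LD1_c26 LD2_c17 LD3_c21)) = (LP (LK LD1_c16 LD2_c19 LD3_c40)) :=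
  Lre_a IH (LK LD1_c26 LD2_c17 LD3_c21) (LK LD1_c16 LD2_c19 LD3_c40) Lrfl Lrfl
theorem f559860 : Led Lsl_ft (LP (LK LD1_c16 LD2_c31 LD3_c21)) = (LP (LK LD1_c26 LD2_c17 LD3_c21)) :=
  Lgr Lrot101 (Lpr_af (K40.f559848 IH) (Lpe (K40.f406993 IH) (Lpe (f173325 IH) (Lpn (LP (LK LD1_c26 LD2_c17 LD3_c21))))))
theorem f559864 : Led Lsl_ff (LP (LK LD1_c16 LD2_c31 LD3_c21)) = (LP (LK LD1_c26 LD2_c17 LD3_c21)) :=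
  Lgr Lrot3 (Lpr_ft (f559860 IH) (Lpn (LP (LK LD1_c26 LD2_c17 LD3_c21))))
theorem f559856 : Led Lsl_at (LP (LK LD1_c16 LD2_c31 LD3_c21)) = (LP (LK LD1_c21 LD2_c2 LD3_c53)) :=
  Lgr Lrot100 (Lpr_af (K40.f559848 IH) (Lpn (LP (LK LD1_c21 LD2_c2 LD3_c53))))
theorem f406995 : Led Lsl_ct (LP (LK LD1_c16 LD2_c19 LD3_c28)) = (LP (LK LD1_c26 LD2_c17 LD3_c21)) :=
  Lre_c IH (LK LD1_c16 LD2_c19 LD3_c28) (LK LD1_c26 LD2_c17 LD3_c21) Lrfl Lrfl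
theorem f117656 : Led Lsl_gt (LP (LK LD1_c5 LD2_c55 LD3_c49)) = (LP (LK LD1_c2 LD2_c54 LD3_c16)) :=
  Lre_g IH (LK LD1_c5 LD2_c55 LD3_c49) (LK LD1_c2 LD2_c54 LD3_c16) Lrfl Lrfl
theorem f542334 : Led Lsl_ct (LP (LK LD1_c16 LD2_c29 LD3_c16)) = (LP (LK LD1_c8 LD2_c48 LD3_c52)) :=
  Lre_c IH (LK LD1_c16 LD2_c29 LD3_c16) (LK LD1_c8 LD2_c48 LD3_c52) Lrfl Lrfl
theorem f553482 : Led Lsl_gt (LP (LK LD1_c26 LD2_c17 LD3_c21)) = (LP (LK LD1_c16 LD2_c29 LD3_c16)) :=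
  Lgr Lrot150 (Lpe (f406995 IH) (Lpr_gf (K39.f553476 IH) (Lpe (K39.f82068 IH) (Lpr_gt (f117656 IH) (Lpr_ct (f420829 IH) (Lpr_gt (K37.f500522 IH) (Lpq (K37.f542336 IH) (Lpr_ct (K31.f99687 IH) (Lpe (K40.f99684 IH) (Lpe (f542334 IH) (Lpn (LP (LK LD1_c16 LD2_c29 LD3_c16)))))))))))))
theorem f559866 : Led Lsl_gf (LP (LK LD1_c21 LD2_c2 LD3_c53)) = (LP (LK LD1_c16 LD2_c29 LD3_c16)) :=
  Lgr Lrot76 (Lpe (f559856 IH) (Lpr_ff (f559864 IH) (Lpr_gt (f553482 IH) (Lpn (LP (LK LD1_c16 LD2_c29 LD3_c16))))))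
theorem f272508 : Led Lsl_gt (LP (LK LD1_c8 LD2_c47 LD3_c29)) = (LP (LK LD1_c9 LD2_c44 LD3_c38)) :=
  Lgr Lrot150 (Lpe (K18.f272408 IH) (Lpr_gf (K18.f272437 IH) (Lpe (K10.f33732 IH) (Lpr_gt (K12.f227812 IH) (Lpr_ct (K12.f182412 IH) (Lpr_gt (K12.f179916 IH) (Lpr_ct (K11.f182385 IH) (Lpe (K11.f182393 IH) (Lpe (K12.f182418 IH) (Lpn (LP (LK LD1_c9 LD2_c44 LD3_c38))))))))))))
theorem f559872 : Led Lsl_bf (LP (LK LD1_c9 LD2_c8 LD3_c32)) = (LP (LK LD1_c8 LD2_c48 LD3_c52)) :=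
  Lgr Lrot34 (Lpe (K38.f547294 IH) (Lpe (K38.f210378 IH) (Lpr_ct (K12.f182387 IH) (Lpe (f272508 IH) (Lpe (K18.f272408 IH) (Lpr_gf (K18.f272437 IH) (Lpe (K38.f193836 IH) (Lpr_ct (K40.f193838 IH) (Lpr_gf (f559866 IH) (Lpe (K40.f99763 IH) (Lpn (LP (LK LD1_c8 LD2_c48 LD3_c52)))))))))))))
theorem f559876 : Led Lsl_bt (LP (LK LD1_c9 LD2_c8 LD3_c32)) = (LP (LK LD1_c8 LD2_c48 LD3_c52)) :=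
  Lgr Lrot127 (Lpr_bf (f559872 IH) (Lpn (LP (LK LD1_c8 LD2_c48 LD3_c52))))
theorem f16206 : Led Lsl_et (LP (LK LD1_c8 LD2_c48 LD3_c52)) = (LP (LK LD1_c16 LD2_c29 LD3_c14)) :=
  Lre_e IH (LK LD1_c8 LD2_c48 LD3_c52) (LK LD1_c16 LD2_c29 LD3_c14) Lrfl Lrfl
theorem f559892 : Led Lsl_ef (LP (LK LD1_c9 LD2_c8 LD3_c32)) = (LP (LK LD1_c16 LD2_c31 LD3_c61)) :=
  Lgr Lrot29 (Lpr_bt (f559876 IH) (Lpr_et (f16206 IH) (Lpr_bt (K1.f16186 IH) (Lpn (LP (LK LD1_c16 LD2_c31 LD3_c61))))))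
theorem f420761 : Led Lsl_ct (LP (LK LD1_c9 LD2_c8 LD3_c32)) = (LP (LK LD1_c17 LD2_c1 LD3_c10)) :=
  Lre_c IH (LK LD1_c9 LD2_c8 LD3_c32) (LK LD1_c17 LD2_c1 LD3_c10) Lrfl Lrfl
theorem f16189 : Led Lsl_ct (LP (LK LD1_c26 LD2_c28 LD3_c30)) = (LP (LK LD1_c16 LD2_c31 LD3_c61)) :=
  Lre_c IH (LK LD1_c26 LD2_c28 LD3_c30) (LK LD1_c16 LD2_c31 LD3_c61) Lrfl Lrfl
theorem f559894 : Led Lsl_et (LP (LK LD1_c17 LD2_c1 LD3_c10)) = (LP (LK LD1_c26 LD2_c28 LD3_c30)) :=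
  Lgr Lrot158 (Lpe (f420761 IH) (Lpr_ef (f559892 IH) (Lpe (f16189 IH) (Lpn (LP (LK LD1_c26 LD2_c28 LD3_c30))))))
theorem f559902 : Led Lsl_ef (LP (LK LD1_c17 LD2_c1 LD3_c10)) = (LP (LK LD1_c26 LD2_c28 LD3_c30)) :=
  Lgr Lrot88 (Lpr_et (f559894 IH) (Lpn (LP (LK LD1_c26 LD2_c28 LD3_c30))))
theorem f101234 : Led Lsl_at (LP (LK LD1_c16 LD2_c32 LD3_c7)) = (LP (LK LD1_c26 LD2_c28 LD3_c30)) :=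
  Lre_a IH (LK LD1_c16 LD2_c32 LD3_c7) (LK LD1_c26 LD2_c28 LD3_c30) Lrfl Lrfl
theorem f101083 : Led Lsl_bt (LP (LK LD1_c12 LD2_c5 LD3_c18)) = (LP (LK LD1_c6 LD2_c13 LD3_c10)) :=
  Lre_b IH (LK LD1_c12 LD2_c5 LD3_c18) (LK LD1_c6 LD2_c13 LD3_c10) Lrfl Lrfl
theorem f42989 : Led Lsl_bt (LP (LK LD1_c8 LD2_c45 LD3_c23)) = (LP (LK LD1_c16 LD2_c23 LD3_c31)) :=
  Lre_b IH (LK LD1_c8 LD2_c45 LD3_c23) (LK LD1_c16 LD2_c23 LD3_c31) Lrfl Lrfl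
theorem f101104 : Led Lsl_df (LP (LK LD1_c12 LD2_c5 LD3_c18)) = (LP (LK LD1_c16 LD2_c23 LD3_c31)) :=
  Lgr Lrot12 (Lpr_bt (f101083 IH) (Lpr_dt (K13.f101097 IH) (Lpr_bt (f42989 IH) (Lpn (LP (LK LD1_c16 LD2_c23 LD3_c31))))))
theorem f101116 : Led Lsl_dt (LP (LK LD1_c12 LD2_c5 LD3_c18)) = (LP (LK LD1_c16 LD2_c23 LD3_c31)) :=
  Lgr Lrot42 (Lpr_df (f101104 IH) (Lpn (LP (LK LD1_c16 LD2_c23 LD3_c31))))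
theorem f101124 : Led Lsl_ft (LP (LK LD1_c16 LD2_c23 LD3_c31)) = (LP (LK LD1_c8 LD2_c51 LD3_c50)) :=
  Lre_f IH (LK LD1_c16 LD2_c23 LD3_c31) (LK LD1_c8 LD2_c51 LD3_c50) Lrfl Lrfl
theorem f101146 : Led Lsl_dt (LP (LK LD1_c8 LD2_c51 LD3_c50)) = (LP (LK LD1_c16 LD2_c34 LD3_c24)) :=
  Lre_d IH (LK LD1_c8 LD2_c51 LD3_c50) (LK LD1_c16 LD2_c34 LD3_c24) Lrfl Lrfl
theorem f101147 : Led Lsl_ff (LP (LK LD1_c12 LD2_c5 LD3_c18)) = (LP (LK LD1_c16 LD2_c34 LD3_c24)) :=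
  Lgr Lrot19 (Lpr_dt (f101116 IH) (Lpr_ft (f101124 IH) (Lpr_dt (f101146 IH) (Lpn (LP (LK LD1_c16 LD2_c34 LD3_c24))))))
theorem f42973 : Led Lsl_et (LP (LK LD1_c26 LD2_c31 LD3_c49)) = (LP (LK LD1_c16 LD2_c34 LD3_c24)) :=
  Lre_e IH (LK LD1_c26 LD2_c31 LD3_c49) (LK LD1_c16 LD2_c34 LD3_c24) Lrfl Lrfl
theorem f42963 : Led Lsl_bt (LP (LK LD1_c26 LD2_c31 LD3_c49)) = (LP (LK LD1_c16 LD2_c34 LD3_c25)) :=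
  Lre_b IH (LK LD1_c26 LD2_c31 LD3_c49) (LK LD1_c16 LD2_c34 LD3_c25) Lrfl Lrfl
theorem f16384 : Led Lsl_bt (LP (LK LD1_c26 LD2_c29 LD3_c20)) = (LP (LK LD1_c32 LD2_c9 LD3_c40)) :=
  Lre_b IH (LK LD1_c26 LD2_c29 LD3_c20) (LK LD1_c32 LD2_c9 LD3_c40) Lrfl Lrfl
theorem f42964 : Led Lsl_ff (LP (LK LD1_c26 LD2_c31 LD3_c49)) = (LP (LK LD1_c32 LD2_c9 LD3_c40)) :=
  Lgr Lrot25 (Lpr_bt (f42963 IH) (Lpr_ft (K9.f42953 IH) (Lpr_bt (f16384 IH) (Lpn (LP (LK LD1_c32 LD2_c9 LD3_c40))))))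
theorem f42974 : Led Lsl_et (LP (LK LD1_c26 LD2_c29 LD3_c19)) = (LP (LK LD1_c32 LD2_c9 LD3_c40)) :=
  Lre_e IH (LK LD1_c26 LD2_c29 LD3_c19) (LK LD1_c32 LD2_c9 LD3_c40) Lrfl Lrfl
theorem f42975 : Led Lsl_ft (LP (LK LD1_c16 LD2_c32 LD3_c33)) = (LP (LK LD1_c26 LD2_c29 LD3_c19)) :=
  Lre_f IH (LK LD1_c16 LD2_c32 LD3_c33) (LK LD1_c26 LD2_c29 LD3_c19) Lrfl Lrfl
theorem f101157 : Led Lsl_et (LP (LK LD1_c12 LD2_c5 LD3_c18)) = (LP (LK LD1_c16 LD2_c32 LD3_c33)) :=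
  Lgr Lrot69 (Lpr_ff (f101147 IH) (Lpe (f42973 IH) (Lpr_ff (f42964 IH) (Lpe (f42974 IH) (Lpe (f42975 IH) (Lpn (LP (LK LD1_c16 LD2_c32 LD3_c33))))))))
theorem f101132 : Led Lsl_ct (LP (LK LD1_c21 LD2_c10 LD3_c26)) = (LP (LK LD1_c12 LD2_c5 LD3_c18)) :=
  Lre_c IH (LK LD1_c21 LD2_c10 LD3_c26) (LK LD1_c12 LD2_c5 LD3_c18) Lrfl Lrfl
theorem f101169 : Led Lsl_ct (LP (LK LD1_c16 LD2_c32 LD3_c33)) = (LP (LK LD1_c26 LD2_c28 LD3_c44)) :=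
  Lre_c IH (LK LD1_c16 LD2_c32 LD3_c33) (LK LD1_c26 LD2_c28 LD3_c44) Lrfl Lrfl
theorem f101170 : Led Lsl_ef (LP (LK LD1_c21 LD2_c10 LD3_c26)) = (LP (LK LD1_c26 LD2_c28 LD3_c44)) :=
  Lgr Lrot28 (Lpr_ct (f101132 IH) (Lpr_et (f101157 IH) (Lpr_ct (f101169 IH) (Lpn (LP (LK LD1_c26 LD2_c28 LD3_c44))))))
theorem f101135 : Led Lsl_bt (LP (LK LD1_c21 LD2_c10 LD3_c26)) = (LP (LK LD1_c12 LD2_c5 LD3_c5)) :=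
  Lre_b IH (LK LD1_c21 LD2_c10 LD3_c26) (LK LD1_c12 LD2_c5 LD3_c5) Lrfl Lrfl
theorem f101178 : Led Lsl_bt (LP (LK LD1_c16 LD2_c32 LD3_c7)) = (LP (LK LD1_c26 LD2_c28 LD3_c44)) :=
  Lre_b IH (LK LD1_c16 LD2_c32 LD3_c7) (LK LD1_c26 LD2_c28 LD3_c44) Lrfl Lrfl
theorem f101179 : Led Lsl_et (LP (LK LD1_c12 LD2_c5 LD3_c5)) = (LP (LK LD1_c16 LD2_c32 LD3_c7)) :=
  Lgr Lrot74 (Lpe (f101135 IH) (Lpr_ef (f101170 IH) (Lpe (f101178 IH) (Lpn (LP (LK LD1_c16 LD2_c32 LD3_c7))))))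
theorem f559904 : Led Lsl_at (LP (LK LD1_c17 LD2_c1 LD3_c10)) = (LP (LK LD1_c12 LD2_c5 LD3_c5)) :=
  Lgr Lrot80 (Lpr_ef (f559902 IH) (Lpe (f101234 IH) (Lpe (f101179 IH) (Lpn (LP (LK LD1_c12 LD2_c5 LD3_c5))))))
theorem f559912 : Led Lsl_ff (LP (LK LD1_c17 LD2_c1 LD3_c10)) = (LP (LK LD1_c20 LD2_c38 LD3_c49)) :=
  Lgr Lrot30 (Lpr_at (f559904 IH) (Lpe (f549088 IH) (Lpe (f549717 IH) (Lpn (LP (LK LD1_c20 LD2_c38 LD3_c49))))))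
theorem f559920 : Led Lsl_ft (LP (LK LD1_c17 LD2_c1 LD3_c10)) = (LP (LK LD1_c20 LD2_c38 LD3_c49)) :=
  Lgr Lrot48 (Lpr_ff (f559912 IH) (Lpn (LP (LK LD1_c20 LD2_c38 LD3_c49))))
theorem f547299 : Led Lsl_dt (LP (LK LD1_c26 LD2_c56 LD3_c19)) = (LP (LK LD1_c17 LD2_c1 LD3_c10)) :=
  Lre_d IH (LK LD1_c26 LD2_c56 LD3_c19) (LK LD1_c17 LD2_c1 LD3_c10) Lrfl Lrfl
theorem f559922 : Led Lsl_ff (LP (LK LD1_c26 LD2_c56 LD3_c19)) = (LP (LK LD1_c21 LD2_c11 LD3_c31)) :=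
  Lgr Lrot19 (Lpr_dt (f547299 IH) (Lpr_ft (f559920 IH) (Lpe (K38.f549021 IH) (Lpn (LP (LK LD1_c21 LD2_c11 LD3_c31))))))
theorem f559924 : Led Lsl_at (LP (LK LD1_c26 LD2_c56 LD3_c19)) = (LP (LK LD1_c21 LD2_c10 LD3_c27)) :=
  Lgr Lrot66 (Lpr_ff (f559922 IH) (Lpr_af (f549733 IH) (Lpe (f549736 IH) (Lpn (LP (LK LD1_c21 LD2_c10 LD3_c27))))))
theorem f101241 : Led Lsl_gt (LP (LK LD1_c29 LD2_c52 LD3_c46)) = (LP (LK LD1_c21 LD2_c10 LD3_c27)) :=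
  Lre_g IH (LK LD1_c29 LD2_c52 LD3_c46) (LK LD1_c21 LD2_c10 LD3_c27) Lrfl Lrfl
theorem f559929 : Led Lsl_gf (LP (LK LD1_c29 LD2_c52 LD3_c46)) = (LP (LK LD1_c21 LD2_c11 LD3_c31)) :=
  Lgr Lrot47 (Lpr_gt (f101241 IH) (Lpe (f559924 IH) (Lpr_ff (f559922 IH) (Lpn (LP (LK LD1_c21 LD2_c11 LD3_c31))))))
theorem f569316 : Led Lsl_cf (LP (LK LD1_c21 LD2_c11 LD3_c14)) = (LP (LK LD1_c29 LD2_c52 LD3_c46)) :=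
  Lgr Lrot99 (Lpe (f548998 IH) (Lpe (f101513 IH) (Lpe (K38.f548995 IH) (Lpe (K38.f536432 IH) (Lpr_gf (K40.f536430 IH) (Lpe (K38.f202650 IH) (Lpr_gt (f569310 IH) (Lpr_ct (K38.f549031 IH) (Lpe (f559929 IH) (Lpn (LP (LK LD1_c29 LD2_c52 LD3_c46))))))))))))
theorem f548997 : Led Lsl_dt (LP (LK LD1_c21 LD2_c11 LD3_c14)) = (LP (LK LD1_c12 LD2_c5 LD3_c32)) :=
  Lre_d IH (LK LD1_c21 LD2_c11 LD3_c14) (LK LD1_c12 LD2_c5 LD3_c32) Lrfl Lrfl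
theorem f546841 : Led Lsl_ct (LP (LK LD1_c12 LD2_c5 LD3_c32)) = (LP (LK LD1_c6 LD2_c13 LD3_c21)) :=
  Lre_c IH (LK LD1_c12 LD2_c5 LD3_c32) (LK LD1_c6 LD2_c13 LD3_c21) Lrfl Lrfl
theorem f565087 : Led Lsl_dt (LP (LK LD1_c6 LD2_c13 LD3_c23)) = (LP (LK LD1_c12 LD2_c5 LD3_c35)) :=
  Lre_d IH (LK LD1_c6 LD2_c13 LD3_c23) (LK LD1_c12 LD2_c5 LD3_c35) Lrfl Lrfl
theorem f565402 : Led Lsl_ct (LP (LK LD1_c12 LD2_c5 LD3_c35)) = (LP (LK LD1_c21 LD2_c11 LD3_c17)) :=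
  Lre_c IH (LK LD1_c12 LD2_c5 LD3_c35) (LK LD1_c21 LD2_c11 LD3_c17) Lrfl Lrfl
theorem f569320 : Led Lsl_dt (LP (LK LD1_c21 LD2_c11 LD3_c17)) = (LP (LK LD1_c29 LD2_c52 LD3_c46)) :=
  Lgr Lrot32 (Lpe (f565402 IH) (Lpe (f565087 IH) (Lpe (K41.f565392 IH) (Lpr_at (K41.f565400 IH) (Lpe (K37.f176814 IH) (Lpe (K38.f101592 IH) (Lpe (f546841 IH) (Lpe (f548997 IH) (Lpr_cf (f569316 IH) (Lpn (LP (LK LD1_c29 LD2_c52 LD3_c46))))))))))))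
theorem f569326 : Led Lsl_gf (LP (LK LD1_c21 LD2_c11 LD3_c17)) = (LP (LK LD1_c21 LD2_c14 LD3_c12)) :=
  Lgr Lrot144 (Lpr_dt (f569320 IH) (Lpr_gt (f101241 IH) (Lpr_dt (f101238 IH) (Lpe (f101235 IH) (Lpe (f99518 IH) (Lpr_gf (K38.f547118 IH) (Lpe (K39.f71984 IH) (Lpr_gf (K38.f424550 IH) (Lpe (K38.f424554 IH) (Lpn (LP (LK LD1_c21 LD2_c14 LD3_c12))))))))))))
theorem f564225 : Led Lsl_dt (LP (LK LD1_c11 LD2_c32 LD3_c1)) = (LP (LK LD1_c5 LD2_c52 LD3_c55)) :=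
  Lre_d IH (LK LD1_c11 LD2_c32 LD3_c1) (LK LD1_c5 LD2_c52 LD3_c55) Lrfl Lrfl
theorem f99543 : Led Lsl_dt (LP (LK LD1_c6 LD2_c13 LD3_c15)) = (LP (LK LD1_c12 LD2_c5 LD3_c25)) :=
  Lre_d IH (LK LD1_c6 LD2_c13 LD3_c15) (LK LD1_c12 LD2_c5 LD3_c25) Lrfl Lrfl
theorem f565466 : Led Lsl_ff (LP (LK LD1_c11 LD2_c32 LD3_c1)) = (LP (LK LD1_c12 LD2_c5 LD3_c25)) :=
  Lgr Lrot19 (Lpr_dt (f564225 IH) (Lpr_ft (K41.f565462 IH) (Lpr_dt (f99543 IH) (Lpn (LP (LK LD1_c12 LD2_c5 LD3_c25))))))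
theorem f101724 : Led Lsl_dt (LP (LK LD1_c12 LD2_c5 LD3_c25)) = (LP (LK LD1_c6 LD2_c13 LD3_c15)) :=
  Lre_d IH (LK LD1_c12 LD2_c5 LD3_c25) (LK LD1_c6 LD2_c13 LD3_c15) Lrfl Lrfl
theorem f158368 : Led Lsl_dt (LP (LK LD1_c3 LD2_c59 LD3_c33)) = (LP (LK LD1_c8 LD2_c0 LD3_c12)) :=
  Lre_d IH (LK LD1_c3 LD2_c59 LD3_c33) (LK LD1_c8 LD2_c0 LD3_c12) Lrfl Lrfl
theorem f158369 : Led Lsl_af (LP (LK LD1_c12 LD2_c5 LD3_c25)) = (LP (LK LD1_c8 LD2_c0 LD3_c12)) :=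
  Lgr Lrot117 (Lpr_dt (f101724 IH) (Lpr_at (K8.f158360 IH) (Lpr_dt (f158368 IH) (Lpn (LP (LK LD1_c8 LD2_c0 LD3_c12))))))
theorem f158382 : Led Lsl_ft (LP (LK LD1_c15 LD2_c4 LD3_c54)) = (LP (LK LD1_c8 LD2_c0 LD3_c12)) :=
  Lre_f IH (LK LD1_c15 LD2_c4 LD3_c54) (LK LD1_c8 LD2_c0 LD3_c12) Lrfl Lrfl
theorem f565469 : Led Lsl_at (LP (LK LD1_c11 LD2_c32 LD3_c1)) = (LP (LK LD1_c15 LD2_c4 LD3_c54)) :=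
  Lgr Lrot66 (Lpr_ff (f565466 IH) (Lpr_af (f158369 IH) (Lpe (f158382 IH) (Lpn (LP (LK LD1_c15 LD2_c4 LD3_c54))))))
theorem f565481 : Led Lsl_af (LP (LK LD1_c11 LD2_c32 LD3_c1)) = (LP (LK LD1_c15 LD2_c4 LD3_c54)) :=
  Lgr Lrot0 (Lpr_at (f565469 IH) (Lpn (LP (LK LD1_c15 LD2_c4 LD3_c54))))
theorem f272869 : Led Lsl_dt (LP (LK LD1_c9 LD2_c47 LD3_c3)) = (LP (LK LD1_c17 LD2_c57 LD3_c15)) :=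
  Lre_d IH (LK LD1_c9 LD2_c47 LD3_c3) (LK LD1_c17 LD2_c57 LD3_c15) Lrfl Lrfl
theorem f424938 : Led Lsl_dt (LP (LK LD1_c15 LD2_c4 LD3_c50)) = (LP (LK LD1_c8 LD2_c0 LD3_c10)) :=
  Lre_d IH (LK LD1_c15 LD2_c4 LD3_c50) (LK LD1_c8 LD2_c0 LD3_c10) Lrfl Lrfl
theorem f556652 : Led Lsl_ft (LP (LK LD1_c17 LD2_c57 LD3_c15)) = (LP (LK LD1_c15 LD2_c4 LD3_c50)) :=
  Lgr Lrot54 (Lpe (f272869 IH) (Lpr_ff (K39.f556648 IH) (Lpe (f424938 IH) (Lpn (LP (LK LD1_c15 LD2_c4 LD3_c50))))))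
theorem f556658 : Led Lsl_ff (LP (LK LD1_c17 LD2_c57 LD3_c15)) = (LP (LK LD1_c15 LD2_c4 LD3_c50)) :=
  Lgr Lrot3 (Lpr_ft (f556652 IH) (Lpn (LP (LK LD1_c15 LD2_c4 LD3_c50))))
theorem f158388 : Led Lsl_bt (LP (LK LD1_c8 LD2_c0 LD3_c12)) = (LP (LK LD1_c15 LD2_c4 LD3_c50)) :=
  Lre_b IH (LK LD1_c8 LD2_c0 LD3_c12) (LK LD1_c15 LD2_c4 LD3_c50) Lrfl Lrfl
theorem f556673 : Led Lsl_bt (LP (LK LD1_c17 LD2_c57 LD3_c15)) = (LP (LK LD1_c15 LD2_c4 LD3_c54)) :=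
  Lgr Lrot35 (Lpr_ff (f556658 IH) (Lpe (f158388 IH) (Lpe (f158382 IH) (Lpn (LP (LK LD1_c15 LD2_c4 LD3_c54))))))
theorem f424948 : Led Lsl_dt (LP (LK LD1_c8 LD2_c2 LD3_c20)) = (LP (LK LD1_c4 LD2_c0 LD3_c47)) :=
  Lre_d IH (LK LD1_c8 LD2_c2 LD3_c20) (LK LD1_c4 LD2_c0 LD3_c47) Lrfl Lrfl
theorem f37059 : Led Lsl_dt (LP (LK LD1_c8 LD2_c0 LD3_c10)) = (LP (LK LD1_c15 LD2_c4 LD3_c50)) :=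
  Lre_d IH (LK LD1_c8 LD2_c0 LD3_c10) (LK LD1_c15 LD2_c4 LD3_c50) Lrfl Lrfl
theorem f424953 : Led Lsl_af (LP (LK LD1_c8 LD2_c2 LD3_c20)) = (LP (LK LD1_c15 LD2_c4 LD3_c50)) :=
  Lgr Lrot117 (Lpr_dt (f424948 IH) (Lpr_at (K41.f424944 IH) (Lpr_dt (f37059 IH) (Lpn (LP (LK LD1_c15 LD2_c4 LD3_c50))))))
theorem f424959 : Led Lsl_ft (LP (LK LD1_c8 LD2_c2 LD3_c20)) = (LP (LK LD1_c15 LD2_c8 LD3_c2)) :=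
  Lre_f IH (LK LD1_c8 LD2_c2 LD3_c20) (LK LD1_c15 LD2_c8 LD3_c2) Lrfl Lrfl
theorem f556654 : Led Lsl_af (LP (LK LD1_c17 LD2_c57 LD3_c15)) = (LP (LK LD1_c15 LD2_c8 LD3_c2)) :=
  Lgr Lrot45 (Lpr_ft (f556652 IH) (Lpe (f424953 IH) (Lpr_ft (f424959 IH) (Lpn (LP (LK LD1_c15 LD2_c8 LD3_c2))))))
theorem f565381 : Led Lsl_dt (LP (LK LD1_c12 LD2_c5 LD3_c26)) = (LP (LK LD1_c21 LD2_c11 LD3_c8)) :=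
  Lre_d IH (LK LD1_c12 LD2_c5 LD3_c26) (LK LD1_c21 LD2_c11 LD3_c8) Lrfl Lrfl
theorem f421364 : Led Lsl_dt (LP (LK LD1_c15 LD2_c8 LD3_c2)) = (LP (LK LD1_c8 LD2_c2 LD3_c21)) :=
  Lre_d IH (LK LD1_c15 LD2_c8 LD3_c2) (LK LD1_c8 LD2_c2 LD3_c21) Lrfl Lrfl
theorem f565384 : Led Lsl_bt (LP (LK LD1_c21 LD2_c11 LD3_c8)) = (LP (LK LD1_c15 LD2_c8 LD3_c2)) :=
  Lgr Lrot95 (Lpe (f565381 IH) (Lpr_bf (K41.f565377 IH) (Lpe (f421364 IH) (Lpn (LP (LK LD1_c15 LD2_c8 LD3_c2))))))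
theorem f565379 : Led Lsl_dt (LP (LK LD1_c21 LD2_c11 LD3_c8)) = (LP (LK LD1_c12 LD2_c5 LD3_c26)) :=
  Lre_d IH (LK LD1_c21 LD2_c11 LD3_c8) (LK LD1_c12 LD2_c5 LD3_c26) Lrfl Lrfl
theorem f565407 : Led Lsl_af (LP (LK LD1_c21 LD2_c11 LD3_c8)) = (LP (LK LD1_c12 LD2_c5 LD3_c31)) :=
  Lgr Lrot117 (Lpr_dt (f565379 IH) (Lpr_at (K41.f565400 IH) (Lpr_dt (K37.f546815 IH) (Lpn (LP (LK LD1_c12 LD2_c5 LD3_c31))))))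
theorem f565484 : Led Lsl_bt (LP (LK LD1_c11 LD2_c32 LD3_c1)) = (LP (LK LD1_c12 LD2_c5 LD3_c31)) :=
  Lgr Lrot62 (Lpr_af (f565481 IH) (Lpe (f556673 IH) (Lpr_af (f556654 IH) (Lpe (f565384 IH) (Lpr_af (f565407 IH) (Lpn (LP (LK LD1_c12 LD2_c5 LD3_c31))))))))
theorem f72430 : Led Lsl_dt (LP (LK LD1_c4 LD2_c58 LD3_c55)) = (LP (LK LD1_c9 LD2_c48 LD3_c11)) :=
  Lre_d IH (LK LD1_c4 LD2_c58 LD3_c55) (LK LD1_c9 LD2_c48 LD3_c11) Lrfl Lrfl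
theorem f101725 : Led Lsl_bt (LP (LK LD1_c9 LD2_c48 LD3_c11)) = (LP (LK LD1_c12 LD2_c5 LD3_c25)) :=
  Lgr Lrot95 (Lpe (f72430 IH) (Lpr_bf (K6.f101717 IH) (Lpe (f101724 IH) (Lpn (LP (LK LD1_c12 LD2_c5 LD3_c25))))))
theorem f565493 : Led Lsl_ff (LP (LK LD1_c9 LD2_c48 LD3_c11)) = (LP (LK LD1_c12 LD2_c5 LD3_c31)) :=
  Lgr Lrot25 (Lpr_bt (f101725 IH) (Lpe (f565466 IH) (Lpr_bt (f565484 IH) (Lpn (LP (LK LD1_c12 LD2_c5 LD3_c31))))))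
theorem f101736 : Led Lsl_ct (LP (LK LD1_c9 LD2_c48 LD3_c11)) = (LP (LK LD1_c17 LD2_c58 LD3_c25)) :=
  Lre_c IH (LK LD1_c9 LD2_c48 LD3_c11) (LK LD1_c17 LD2_c58 LD3_c25) Lrfl Lrfl
theorem f565495 : Led Lsl_ft (LP (LK LD1_c17 LD2_c58 LD3_c25)) = (LP (LK LD1_c21 LD2_c11 LD3_c12)) :=
  Lgr Lrot4 (Lpe (f101736 IH) (Lpr_ff (f565493 IH) (Lpe (f546819 IH) (Lpn (LP (LK LD1_c21 LD2_c11 LD3_c12))))))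
theorem f565499 : Led Lsl_ff (LP (LK LD1_c17 LD2_c58 LD3_c25)) = (LP (LK LD1_c21 LD2_c11 LD3_c12)) :=
  Lgr Lrot3 (Lpr_ft (f565495 IH) (Lpn (LP (LK LD1_c21 LD2_c11 LD3_c12))))
theorem f569328 : Led Lsl_af (LP (LK LD1_c21 LD2_c11 LD3_c17)) = (LP (LK LD1_c17 LD2_c58 LD3_c25)) :=
  Lgr Lrot31 (Lpr_gf (f569326 IH) (Lpe (f569304 IH) (Lpe (f565499 IH) (Lpn (LP (LK LD1_c17 LD2_c58 LD3_c25))))))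
theorem f565426 : Led Lsl_ct (LP (LK LD1_c21 LD2_c11 LD3_c17)) = (LP (LK LD1_c12 LD2_c5 LD3_c35)) :=
  Lre_c IH (LK LD1_c21 LD2_c11 LD3_c17) (LK LD1_c12 LD2_c5 LD3_c35) Lrfl Lrfl
theorem f569332 : Led Lsl_at (LP (LK LD1_c12 LD2_c5 LD3_c35)) = (LP (LK LD1_c9 LD2_c48 LD3_c11)) :=
  Lgr Lrot107 (Lpe (f565426 IH) (Lpr_af (f569328 IH) (Lpe (f101736 IH) (Lpn (LP (LK LD1_c9 LD2_c48 LD3_c11))))))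
theorem f556619 : Led Lsl_dt (LP (LK LD1_c12 LD2_c5 LD3_c35)) = (LP (LK LD1_c6 LD2_c13 LD3_c23)) :=
  Lre_d IH (LK LD1_c12 LD2_c5 LD3_c35) (LK LD1_c6 LD2_c13 LD3_c23) Lrfl Lrfl
theorem f565396 : Led Lsl_ft (LP (LK LD1_c21 LD2_c11 LD3_c8)) = (LP (LK LD1_c12 LD2_c5 LD3_c35)) :=
  Lgr Lrot54 (Lpe (f565381 IH) (Lpr_ff (K41.f565392 IH) (Lpe (f556619 IH) (Lpn (LP (LK LD1_c12 LD2_c5 LD3_c35))))))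
theorem f565419 : Led Lsl_ft (LP (LK LD1_c4 LD2_c58 LD3_c55)) = (LP (LK LD1_c6 LD2_c13 LD3_c20)) :=
  Lgr Lrot48 (Lpr_ff (K41.f565411 IH) (Lpn (LP (LK LD1_c6 LD2_c13 LD3_c20))))
theorem f565403 : Led Lsl_af (LP (LK LD1_c12 LD2_c5 LD3_c26)) = (LP (LK LD1_c6 LD2_c13 LD3_c20)) :=
  Lgr Lrot0 (Lpr_at (K41.f565400 IH) (Lpn (LP (LK LD1_c6 LD2_c13 LD3_c20))))
theorem f568776 : Led Lsl_gt (LP (LK LD1_c7 LD2_c59 LD3_c54)) = (LP (LK LD1_c12 LD2_c5 LD3_c26)) :=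
  Lgr Lrot46 (Lpr_gf (f568774 IH) (Lpr_ft (f565419 IH) (Lpe (f565403 IH) (Lpn (LP (LK LD1_c12 LD2_c5 LD3_c26))))))
theorem f71235 : Led Lsl_dt (LP (LK LD1_c2 LD2_c15 LD3_c23)) = (LP (LK LD1_c4 LD2_c36 LD3_c28)) :=
  Lre_d IH (LK LD1_c2 LD2_c15 LD3_c23) (LK LD1_c4 LD2_c36 LD3_c28) Lrfl Lrfl
theorem f202644 : Led Lsl_ft (LP (LK LD1_c4 LD2_c36 LD3_c28)) = (LP (LK LD1_c2 LD2_c15 LD3_c22)) :=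
  Lre_f IH (LK LD1_c4 LD2_c36 LD3_c28) (LK LD1_c2 LD2_c15 LD3_c22) Lrfl Lrfl
theorem f202645 : Led Lsl_gf (LP (LK LD1_c6 LD2_c16 LD3_c26)) = (LP (LK LD1_c4 LD2_c36 LD3_c28)) :=
  Lgr Lrot47 (Lpr_gt (K39.f202623 IH) (Lpe (K40.f71434 IH) (Lpe (f202644 IH) (Lpn (LP (LK LD1_c4 LD2_c36 LD3_c28))))))
theorem f202649 : Led Lsl_dt (LP (LK LD1_c6 LD2_c16 LD3_c26)) = (LP (LK LD1_c3 LD2_c5 LD3_c19)) :=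
  Lre_d IH (LK LD1_c6 LD2_c16 LD3_c26) (LK LD1_c3 LD2_c5 LD3_c19) Lrfl Lrfl
theorem f202660 : Led Lsl_ct (LP (LK LD1_c6 LD2_c16 LD3_c23)) = (LP (LK LD1_c3 LD2_c5 LD3_c19)) :=
  Lre_c IH (LK LD1_c6 LD2_c16 LD3_c23) (LK LD1_c3 LD2_c5 LD3_c19) Lrfl Lrfl
theorem f202659 : Led Lsl_dt (LP (LK LD1_c12 LD2_c9 LD3_c59)) = (LP (LK LD1_c6 LD2_c16 LD3_c23)) :=
  Lre_d IH (LK LD1_c12 LD2_c9 LD3_c59) (LK LD1_c6 LD2_c16 LD3_c23) Lrfl Lrfl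
theorem f568782 : Led Lsl_gt (LP (LK LD1_c21 LD2_c11 LD3_c8)) = (LP (LK LD1_c12 LD2_c9 LD3_c59)) :=
  Lgr Lrot49 (Lpe (f565381 IH) (Lpe (f568776 IH) (Lpe (K38.f425880 IH) (Lpr_gt (f568778 IH) (Lpr_dt (f71235 IH) (Lpe (f202645 IH) (Lpr_dt (f202649 IH) (Lpe (f202660 IH) (Lpe (f202659 IH) (Lpn (LP (LK LD1_c12 LD2_c9 LD3_c59))))))))))))
theorem f569345 : Led Lsl_gt (LP (LK LD1_c12 LD2_c9 LD3_c59)) = (LP (LK LD1_c9 LD2_c48 LD3_c11)) :=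
  Lgr Lrot46 (Lpe (f568782 IH) (Lpr_ft (f565396 IH) (Lpr_at (f569332 IH) (Lpn (LP (LK LD1_c9 LD2_c48 LD3_c11))))))
theorem f556376 : Led Lsl_dt (LP (LK LD1_c6 LD2_c16 LD3_c23)) = (LP (LK LD1_c12 LD2_c9 LD3_c59)) :=
  Lre_d IH (LK LD1_c6 LD2_c16 LD3_c23) (LK LD1_c12 LD2_c9 LD3_c59) Lrfl Lrfl
theorem f569353 : Led Lsl_et (LP (LK LD1_c6 LD2_c16 LD3_c23)) = (LP (LK LD1_c3 LD2_c5 LD3_c17)) :=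
  Lre_e IH (LK LD1_c6 LD2_c16 LD3_c23) (LK LD1_c3 LD2_c5 LD3_c17) Lrfl Lrfl
theorem f72429 : Led Lsl_et (LP (LK LD1_c4 LD2_c58 LD3_c55)) = (LP (LK LD1_c2 LD2_c27 LD3_c19)) :=
  Lre_e IH (LK LD1_c4 LD2_c58 LD3_c55) (LK LD1_c2 LD2_c27 LD3_c19) Lrfl Lrfl
theorem f569354 : Led Lsl_ef (LP (LK LD1_c5 LD2_c49 LD3_c8)) = (LP (LK LD1_c3 LD2_c4 LD3_c55)) :=
  Lgr Lrot114 (Lpr_gt (K41.f564311 IH) (Lpe (f569353 IH) (Lpr_dt (f556376 IH) (Lpr_gt (f569345 IH) (Lpe (f72430 IH) (Lpr_et (f72429 IH) (Lpr_gt (K6.f101748 IH) (Lpr_dt (K6.f81849 IH) (Lpe (K32.f163477 IH) (Lpe (K11.f202566 IH) (Lpn (LP (LK LD1_c3 LD2_c4 LD3_c55)))))))))))))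
theorem f569362 : Led Lsl_et (LP (LK LD1_c5 LD2_c49 LD3_c8)) = (LP (LK LD1_c3 LD2_c4 LD3_c55)) :=
  Lgr Lrot87 (Lpr_ef (f569354 IH) (Lpn (LP (LK LD1_c3 LD2_c4 LD3_c55))))
theorem f204757 : Led Lsl_ft (LP (LK LD1_c6 LD2_c16 LD3_c19)) = (LP (LK LD1_c12 LD2_c9 LD3_c58)) :=
  Lre_f IH (LK LD1_c6 LD2_c16 LD3_c19) (LK LD1_c12 LD2_c9 LD3_c58) Lrfl Lrfl
theorem f558824 : Led Lsl_at (LP (LK LD1_c12 LD2_c9 LD3_c58)) = (LP (LK LD1_c6 LD2_c16 LD3_c42)) :=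
  Lre_a IH (LK LD1_c12 LD2_c9 LD3_c58) (LK LD1_c6 LD2_c16 LD3_c42) Lrfl Lrfl
theorem f558825 : Led Lsl_df (LP (LK LD1_c3 LD2_c4 LD3_c19)) = (LP (LK LD1_c3 LD2_c39 LD3_c22)) :=
  Lgr Lrot13 (Lpr_ct (K40.f205234 IH) (Lpr_dt (K37.f202277 IH) (Lpr_ct (K41.f202280 IH) (Lpe (f558824 IH) (Lpe (f204757 IH) (Lpr_dt (K40.f558820 IH) (Lpr_ct (K8.f87301 IH) (Lpr_dt (K28.f157517 IH) (Lpe (K8.f121863 IH) (Lpn (LP (LK LD1_c3 LD2_c39 LD3_c22))))))))))))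
theorem f564299 : Led Lsl_dt (LP (LK LD1_c5 LD2_c49 LD3_c8)) = (LP (LK LD1_c3 LD2_c46 LD3_c19)) :=
  Lgr Lrot27 (Lpe (K41.f450240 IH) (Lpe (K41.f450235 IH) (Lpr_cf (K41.f564283 IH) (Lpe (K40.f59104 IH) (Lpr_df (f558825 IH) (Lpr_gt (K32.f121892 IH) (Lpr_ct (K24.f97497 IH) (Lpr_gt (K28.f426565 IH) (Lpr_ct (K7.f92366 IH) (Lpn (LP (LK LD1_c3 LD2_c46 LD3_c19))))))))))))
theorem f546902 : Led Lsl_bf (LP (LK LD1_c9 LD2_c2 LD3_c50)) = (LP (LK LD1_c5 LD2_c42 LD3_c47)) :=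
  Lgr Lrot24 (Lpr_bt (K38.f546896 IH) (Lpn (LP (LK LD1_c5 LD2_c42 LD3_c47))))
theorem f549607 : Led Lsl_et (LP (LK LD1_c9 LD2_c2 LD3_c50)) = (LP (LK LD1_c8 LD2_c14 LD3_c45)) :=
  Lgr Lrot74 (Lpr_bf (f546902 IH) (Lpr_ef (K38.f549603 IH) (Lpr_bf (K37.f544466 IH) (Lpn (LP (LK LD1_c8 LD2_c14 LD3_c45))))))
theorem f544468 : Led Lsl_bt (LP (LK LD1_c5 LD2_c7 LD3_c32)) = (LP (LK LD1_c8 LD2_c14 LD3_c45)) :=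
  Lgr Lrot127 (Lpr_bf (K37.f544466 IH) (Lpn (LP (LK LD1_c8 LD2_c14 LD3_c45))))
theorem f567229 : Led Lsl_gt (LP (LK LD1_c8 LD2_c14 LD3_c45)) = (LP (LK LD1_c5 LD2_c13 LD3_c53)) :=
  Lgr Lrot164 (Lpe (f544468 IH) (Lpr_ct (K40.f387116 IH) (Lpe (K37.f387098 IH) (Lpe (K32.f421403 IH) (Lpr_gf (K41.f567225 IH) (Lpr_bf (K41.f420742 IH) (Lpr_ct (K37.f539734 IH) (Lpe (K38.f539728 IH) (Lpe (K37.f186698 IH) (Lpe (K37.f421183 IH) (Lpn (LP (LK LD1_c5 LD2_c13 LD3_c53)))))))))))))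
theorem f569372 : Led Lsl_gt (LP (LK LD1_c10 LD2_c17 LD3_c54)) = (LP (LK LD1_c6 LD2_c16 LD3_c1)) :=
  Lgr Lrot139 (Lpe (K39.f171709 IH) (Lpe (f567229 IH) (Lpe (f549607 IH) (Lpe (K38.f546873 IH) (Lpe (K3.f109025 IH) (Lpe (f564299 IH) (Lpr_et (f569362 IH) (Lpr_gf (K11.f133005 IH) (Lpe (K5.f80273 IH) (Lpr_dt (K5.f80274 IH) (Lpn (LP (LK LD1_c6 LD2_c16 LD3_c1)))))))))))))
theorem f565448 : Led Lsl_ef (LP (LK LD1_c5 LD2_c52 LD3_c55)) = (LP (LK LD1_c5 LD2_c13 LD3_c53)) :=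
  Lgr Lrot29 (Lpr_bt (K41.f565438 IH) (Lpe (K38.f545728 IH) (Lpe (K37.f421183 IH) (Lpn (LP (LK LD1_c5 LD2_c13 LD3_c53))))))
theorem f569382 : Led Lsl_gf (LP (LK LD1_c5 LD2_c52 LD3_c55)) = (LP (LK LD1_c2 LD2_c53 LD3_c6)) :=
  Lgr Lrot141 (Lpr_ef (f565448 IH) (Lpr_dt (K39.f171709 IH) (Lpr_gt (f569372 IH) (Lpe (K5.f80274 IH) (Lpr_et (K5.f80273 IH) (Lpe (K11.f133005 IH) (Lpr_dt (K11.f202566 IH) (Lpr_gt (K11.f72414 IH) (Lpe (K6.f72358 IH) (Lpr_et (K38.f149285 IH) (Lpn (LP (LK LD1_c2 LD2_c53 LD3_c6)))))))))))))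
theorem f565442 : Led Lsl_bf (LP (LK LD1_c5 LD2_c52 LD3_c55)) = (LP (LK LD1_c6 LD2_c13 LD3_c20)) :=
  Lgr Lrot24 (Lpr_bt (K41.f565438 IH) (Lpn (LP (LK LD1_c6 LD2_c13 LD3_c20))))
theorem f422789 : Led Lsl_ct (LP (LK LD1_c6 LD2_c13 LD3_c20)) = (LP (LK LD1_c3 LD2_c3 LD3_c28)) :=
  Lre_c IH (LK LD1_c6 LD2_c13 LD3_c20) (LK LD1_c3 LD2_c3 LD3_c28) Lrfl Lrfl
theorem f72289 : Led Lsl_ct (LP (LK LD1_c4 LD2_c36 LD3_c52)) = (LP (LK LD1_c4 LD2_c34 LD3_c47)) :=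
  Lre_c IH (LK LD1_c4 LD2_c36 LD3_c52) (LK LD1_c4 LD2_c34 LD3_c47) Lrfl Lrfl
theorem f569389 : Led Lsl_gt (LP (LK LD1_c2 LD2_c54 LD3_c47)) = (LP (LK LD1_c4 LD2_c25 LD3_c60)) :=
  Lgr Lrot82 (Lpe (K39.f500570 IH) (Lpe (K38.f549016 IH) (Lpe (K38.f100552 IH) (Lpe (f422789 IH) (Lpe (f565442 IH) (Lpr_gf (f569382 IH) (Lpe (K2.f72267 IH) (Lpr_ct (f72289 IH) (Lpr_gf (K40.f557727 IH) (Lpe (K40.f161264 IH) (Lpn (LP (LK LD1_c4 LD2_c25 LD3_c60)))))))))))))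
theorem f425924 : Led Lsl_ct (LP (LK LD1_c2 LD2_c10 LD3_c20)) = (LP (LK LD1_c4 LD2_c26 LD3_c0)) :=
  Lre_c IH (LK LD1_c2 LD2_c10 LD3_c20) (LK LD1_c4 LD2_c26 LD3_c0) Lrfl Lrfl
theorem f569400 : Led Lsl_bf (LP (LK LD1_c4 LD2_c36 LD3_c21)) = (LP (LK LD1_c2 LD2_c54 LD3_c25)) :=
  Lgr Lrot165 (Lpe (K37.f539929 IH) (Lpr_ct (f422789 IH) (Lpr_gt (K38.f100552 IH) (Lpr_cf (K38.f549016 IH) (Lpr_bt (K39.f500570 IH) (Lpr_gt (f569389 IH) (Lpe (K39.f139016 IH) (Lpr_ct (f425924 IH) (Lpe (K40.f557781 IH) (Lpe (K6.f112851 IH) (Lpn (LP (LK LD1_c2 LD2_c54 LD3_c25)))))))))))))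
theorem f137822 : Led Lsl_af (LP (LK LD1_c4 LD2_c24 LD3_c34)) = (LP (LK LD1_c2 LD2_c54 LD3_c25)) :=
  Lgr Lrot0 (Lpr_at (K6.f137820 IH) (Lpn (LP (LK LD1_c2 LD2_c54 LD3_c25))))
theorem f538572 : Led Lsl_ft (LP (LK LD1_c4 LD2_c37 LD3_c28)) = (LP (LK LD1_c2 LD2_c54 LD3_c25)) :=
  Lgr Lrot2 (Lpr_gt (K36.f119048 IH) (Lpq (K35.f537988 IH) (Lpr_gt (K35.f538570 IH) (Lpr_af (f137822 IH) (Lpn (LP (LK LD1_c2 LD2_c54 LD3_c25)))))))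
theorem f547127 : Led Lsl_bf (LP (LK LD1_c4 LD2_c37 LD3_c28)) = (LP (LK LD1_c9 LD2_c8 LD3_c18)) :=
  Lgr Lrot156 (Lpr_gt (K36.f119048 IH) (Lpq (K35.f537988 IH) (Lpe (K35.f536552 IH) (Lpr_ct (K13.f175809 IH) (Lpe (K9.f175814 IH) (Lpe (K9.f69380 IH) (Lpr_bt (K38.f101275 IH) (Lpr_gt (K38.f547116 IH) (Lpr_ct (K38.f71227 IH) (Lpr_gt (K39.f71482 IH) (Lpe (K40.f420756 IH) (Lpn (LP (LK LD1_c9 LD2_c8 LD3_c18))))))))))))))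
theorem f569404 : Led Lsl_ft (LP (LK LD1_c4 LD2_c36 LD3_c21)) = (LP (LK LD1_c9 LD2_c8 LD3_c18)) :=
  Lgr Lrot75 (Lpr_bf (f569400 IH) (Lpe (f538572 IH) (Lpr_bf (f547127 IH) (Lpn (LP (LK LD1_c9 LD2_c8 LD3_c18))))))
theorem f547126 : Led Lsl_dt (LP (LK LD1_c9 LD2_c8 LD3_c18)) = (LP (LK LD1_c17 LD2_c0 LD3_c48)) :=
  Lre_d IH (LK LD1_c9 LD2_c8 LD3_c18) (LK LD1_c17 LD2_c0 LD3_c48) Lrfl Lrfl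
theorem f569408 : Led Lsl_ff (LP (LK LD1_c9 LD2_c8 LD3_c52)) = (LP (LK LD1_c17 LD2_c0 LD3_c48)) :=
  Lgr Lrot19 (Lpr_dt (f547502 IH) (Lpr_ft (f569404 IH) (Lpr_dt (f547126 IH) (Lpn (LP (LK LD1_c17 LD2_c0 LD3_c48))))))
theorem f569414 : Led Lsl_ft (LP (LK LD1_c9 LD2_c8 LD3_c52)) = (LP (LK LD1_c17 LD2_c0 LD3_c48)) :=
  Lgr Lrot48 (Lpr_ff (f569408 IH) (Lpn (LP (LK LD1_c17 LD2_c0 LD3_c48))))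
theorem f549024 : Led Lsl_gt (LP (LK LD1_c9 LD2_c8 LD3_c52)) = (LP (LK LD1_c17 LD2_c1 LD3_c38)) :=
  Lre_g IH (LK LD1_c9 LD2_c8 LD3_c52) (LK LD1_c17 LD2_c1 LD3_c38) Lrfl Lrfl
theorem f547499 : Led Lsl_ff (LP (LK LD1_c2 LD2_c15 LD3_c21)) = (LP (LK LD1_c4 LD2_c35 LD3_c53)) :=
  Lgr Lrot3 (Lpr_ft (K38.f547495 IH) (Lpn (LP (LK LD1_c4 LD2_c35 LD3_c53))))
theorem f547504 : Led Lsl_ft (LP (LK LD1_c4 LD2_c36 LD3_c23)) = (LP (LK LD1_c7 LD2_c59 LD3_c54)) :=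
  Lgr Lrot4 (Lpe (K38.f210637 IH) (Lpr_ff (f547499 IH) (Lpr_cf (K38.f161352 IH) (Lpn (LP (LK LD1_c7 LD2_c59 LD3_c54))))))
theorem f210638 : Led Lsl_dt (LP (LK LD1_c9 LD2_c8 LD3_c55)) = (LP (LK LD1_c4 LD2_c36 LD3_c23)) :=
  Lre_d IH (LK LD1_c9 LD2_c8 LD3_c55) (LK LD1_c4 LD2_c36 LD3_c23) Lrfl Lrfl
theorem f161365 : Led Lsl_dt (LP (LK LD1_c7 LD2_c59 LD3_c54)) = (LP (LK LD1_c15 LD2_c4 LD3_c38)) :=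
  Lre_d IH (LK LD1_c7 LD2_c59 LD3_c54) (LK LD1_c15 LD2_c4 LD3_c38) Lrfl Lrfl
theorem f547506 : Led Lsl_ff (LP (LK LD1_c9 LD2_c8 LD3_c55)) = (LP (LK LD1_c15 LD2_c4 LD3_c38)) :=
  Lgr Lrot19 (Lpr_dt (f210638 IH) (Lpr_ft (f547504 IH) (Lpr_dt (f161365 IH) (Lpn (LP (LK LD1_c15 LD2_c4 LD3_c38))))))
theorem f547510 : Led Lsl_ft (LP (LK LD1_c9 LD2_c8 LD3_c55)) = (LP (LK LD1_c15 LD2_c4 LD3_c38)) :=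
  Lgr Lrot48 (Lpr_ff (f547506 IH) (Lpn (LP (LK LD1_c15 LD2_c4 LD3_c38))))
theorem f569283 : Led Lsl_af (LP (LK LD1_c9 LD2_c8 LD3_c52)) = (LP (LK LD1_c15 LD2_c4 LD3_c38)) :=
  Lgr Lrot31 (Lpe (f569273 IH) (Lpr_gf (f569281 IH) (Lpr_ft (f547510 IH) (Lpn (LP (LK LD1_c15 LD2_c4 LD3_c38))))))
theorem f569416 : Led Lsl_af (LP (LK LD1_c9 LD2_c8 LD3_c55)) = (LP (LK LD1_c17 LD2_c0 LD3_c48)) :=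
  Lgr Lrot45 (Lpr_ft (f547510 IH) (Lpe (f569283 IH) (Lpr_ft (f569414 IH) (Lpn (LP (LK LD1_c17 LD2_c0 LD3_c48))))))
theorem f569422 : Led Lsl_gt (LP (LK LD1_c17 LD2_c1 LD3_c38)) = (LP (LK LD1_c9 LD2_c8 LD3_c55)) :=
  Lgr Lrot46 (Lpe (f549024 IH) (Lpr_ft (f569414 IH) (Lpe (f569416 IH) (Lpn (LP (LK LD1_c9 LD2_c8 LD3_c55))))))
theorem f427686 : Led Lsl_et (LP (LK LD1_c7 LD2_c59 LD3_c26)) = (LP (LK LD1_c3 LD2_c59 LD3_c2)) :=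
  Lre_e IH (LK LD1_c7 LD2_c59 LD3_c26) (LK LD1_c3 LD2_c59 LD3_c2) Lrfl Lrfl
theorem f423534 : Led Lsl_af (LP (LK LD1_c5 LD2_c41 LD3_c26)) = (LP (LK LD1_c7 LD2_c59 LD3_c13)) :=
  Lgr Lrot0 (Lpr_at (K38.f423531 IH) (Lpn (LP (LK LD1_c7 LD2_c59 LD3_c13))))
theorem f159077 : Led Lsl_ft (LP (LK LD1_c1 LD2_c22 LD3_c41)) = (LP (LK LD1_c2 LD2_c15 LD3_c7)) :=
  Lgr Lrot142 (Lpr_dt (K8.f69009 IH) (Lpr_ct (K4.f68999 IH) (Lpr_dt (K8.f69003 IH) (Lpr_ct (K8.f159075 IH) (Lpr_dt (K8.f149613 IH) (Lpr_ct (K8.f149612 IH) (Lpr_dt (K8.f149637 IH) (Lpr_ct (K8.f148989 IH) (Lpr_af (K36.f159045 IH) (Lpn (LP (LK LD1_c2 LD2_c15 LD3_c7))))))))))))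
theorem f161354 : Led Lsl_ff (LP (LK LD1_c2 LD2_c53 LD3_c11)) = (LP (LK LD1_c3 LD2_c59 LD3_c19)) :=
  Lgr Lrot23 (Lpr_ct (K4.f69008 IH) (Lpr_ft (f159077 IH) (Lpr_ct (K8.f161344 IH) (Lpn (LP (LK LD1_c3 LD2_c59 LD3_c19))))))
theorem f161358 : Led Lsl_af (LP (LK LD1_c3 LD2_c59 LD3_c20)) = (LP (LK LD1_c2 LD2_c53 LD3_c11)) :=
  Lgr Lrot31 (Lpr_gf (K8.f160946 IH) (Lpr_gf (K8.f161356 IH) (Lpe (f161354 IH) (Lpn (LP (LK LD1_c2 LD2_c53 LD3_c11))))))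
theorem f547518 : Led Lsl_ef (LP (LK LD1_c7 LD2_c59 LD3_c13)) = (LP (LK LD1_c3 LD2_c59 LD3_c20)) :=
  Lgr Lrot20 (Lpe (f423534 IH) (Lpr_et (K38.f547516 IH) (Lpe (f161358 IH) (Lpn (LP (LK LD1_c3 LD2_c59 LD3_c20))))))
theorem f111908 : Led Lsl_at (LP (LK LD1_c3 LD2_c15 LD3_c0)) = (LP (LK LD1_c3 LD2_c47 LD3_c1)) :=
  Lgr Lrot67 (Lpe (K5.f111907 IH) (Lpr_af (K5.f111903 IH) (Lpe (K4.f64623 IH) (Lpe (K2.f87773 IH) (Lpe (K8.f87789 IH) (Lpn (LP (LK LD1_c3 LD2_c47 LD3_c1))))))))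
theorem f419464 : Led Lsl_gf (LP (LK LD1_c3 LD2_c47 LD3_c1)) = (LP (LK LD1_c3 LD2_c46 LD3_c35)) :=
  Lgr Lrot76 (Lpe (f111908 IH) (Lpr_ff (K5.f111959 IH) (Lpr_gt (K28.f419462 IH) (Lpn (LP (LK LD1_c3 LD2_c46 LD3_c35))))))
theorem f88532 : Led Lsl_dt (LP (LK LD1_c3 LD2_c47 LD3_c1)) = (LP (LK LD1_c1 LD2_c50 LD3_c37)) :=
  Lre_d IH (LK LD1_c3 LD2_c47 LD3_c1) (LK LD1_c1 LD2_c50 LD3_c37) Lrfl Lrfl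
theorem f548931 : Led Lsl_df (LP (LK LD1_c3 LD2_c36 LD3_c31)) = (LP (LK LD1_c3 LD2_c5 LD3_c20)) :=
  Lgr Lrot84 (Lpe (K3.f88485 IH) (Lpe (f88532 IH) (Lpr_gf (f419464 IH) (Lpe (K28.f94531 IH) (Lpr_gf (K3.f109018 IH) (Lpe (K3.f109007 IH) (Lpe (K38.f427169 IH) (Lpe (K38.f548921 IH) (Lpr_gt (K38.f548929 IH) (Lpn (LP (LK LD1_c3 LD2_c5 LD3_c20))))))))))))
theorem f548938 : Led Lsl_dt (LP (LK LD1_c7 LD2_c59 LD3_c26)) = (LP (LK LD1_c7 LD2_c13 LD3_c22)) :=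
  Lgr Lrot56 (Lpr_et (f427686 IH) (Lpr_gt (K31.f382048 IH) (Lpr_ef (f547518 IH) (Lpr_dt (K8.f101693 IH) (Lpr_gt (K8.f160950 IH) (Lpe (K11.f138540 IH) (Lpr_et (K32.f158959 IH) (Lpr_gt (K38.f548929 IH) (Lpe (f548931 IH) (Lpr_gt (K3.f88498 IH) (Lpn (LP (LK LD1_c7 LD2_c13 LD3_c22)))))))))))))
theorem f556378 : Led Lsl_et (LP (LK LD1_c3 LD2_c5 LD3_c17)) = (LP (LK LD1_c6 LD2_c16 LD3_c23)) :=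
  Lre_e IH (LK LD1_c3 LD2_c5 LD3_c17) (LK LD1_c6 LD2_c16 LD3_c23) Lrfl Lrfl
theorem f569426 : Led Lsl_df (LP (LK LD1_c17 LD2_c1 LD3_c38)) = (LP (LK LD1_c11 LD2_c27 LD3_c40)) :=
  Lgr Lrot135 (Lpr_gt (f569422 IH) (Lpe (f210664 IH) (Lpr_et (K38.f547488 IH) (Lpr_gt (K31.f174550 IH) (Lpe (f427686 IH) (Lpr_dt (f548938 IH) (Lpe (K3.f88613 IH) (Lpe (K41.f559157 IH) (Lpr_et (f556378 IH) (Lpe (f556362 IH) (Lpn (LP (LK LD1_c11 LD2_c27 LD3_c40)))))))))))))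
theorem f556622 : Led Lsl_et (LP (LK LD1_c4 LD2_c0 LD3_c44)) = (LP (LK LD1_c6 LD2_c13 LD3_c23)) :=
  Lgr Lrot74 (Lpe (K7.f138821 IH) (Lpe (K41.f158224 IH) (Lpr_bf (K39.f556587 IH) (Lpn (LP (LK LD1_c6 LD2_c13 LD3_c23))))))
theorem f81009 : Led Lsl_gt (LP (LK LD1_c6 LD2_c16 LD3_c0)) = (LP (LK LD1_c3 LD2_c5 LD3_c6)) :=
  Lre_g IH (LK LD1_c6 LD2_c16 LD3_c0) (LK LD1_c3 LD2_c5 LD3_c6) Lrfl Lrfl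
theorem f569430 : Led Lsl_ef (LP (LK LD1_c6 LD2_c16 LD3_c0)) = (LP (LK LD1_c11 LD2_c27 LD3_c40)) :=
  Lgr Lrot114 (Lpr_gt (f81009 IH) (Lpe (K6.f81095 IH) (Lpr_dt (K5.f80260 IH) (Lpr_gt (K7.f132872 IH) (Lpr_df (K8.f149412 IH) (Lpr_et (f556622 IH) (Lpr_gt (K41.f565083 IH) (Lpr_dt (f549023 IH) (Lpr_gt (f549024 IH) (Lpr_df (f569426 IH) (Lpn (LP (LK LD1_c11 LD2_c27 LD3_c40)))))))))))))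
theorem f569432 : Led Lsl_et (LP (LK LD1_c6 LD2_c16 LD3_c0)) = (LP (LK LD1_c11 LD2_c27 LD3_c40)) :=
  Lgr Lrot87 (Lpr_ef (f569430 IH) (Lpn (LP (LK LD1_c11 LD2_c27 LD3_c40))))
theorem f556065 : Led Lsl_et (LP (LK LD1_c2 LD2_c0 LD3_c59)) = (LP (LK LD1_c4 LD2_c7 LD3_c14)) :=
  Lre_e IH (LK LD1_c2 LD2_c0 LD3_c59) (LK LD1_c4 LD2_c7 LD3_c14) Lrfl Lrfl
theorem f55872 : Led Lsl_bt (LP (LK LD1_c4 LD2_c7 LD3_c11)) = (LP (LK LD1_c2 LD2_c0 LD3_c59)) :=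
  Lre_b IH (LK LD1_c4 LD2_c7 LD3_c11) (LK LD1_c2 LD2_c0 LD3_c59) Lrfl Lrfl
theorem f556069 : Led Lsl_ef (LP (LK LD1_c4 LD2_c7 LD3_c11)) = (LP (LK LD1_c5 LD2_c49 LD3_c17)) :=
  Lgr Lrot29 (Lpr_bt (f55872 IH) (Lpr_et (f556065 IH) (Lpr_bt (K39.f556066 IH) (Lpn (LP (LK LD1_c5 LD2_c49 LD3_c17))))))
theorem f569434 : Led Lsl_cf (LP (LK LD1_c6 LD2_c16 LD3_c0)) = (LP (LK LD1_c4 LD2_c7 LD3_c11)) :=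
  Lgr Lrot39 (Lpr_et (f569432 IH) (Lpr_ct (f176691 IH) (Lpe (f556069 IH) (Lpn (LP (LK LD1_c4 LD2_c7 LD3_c11))))))
theorem f176020 : Led Lsl_gt (LP (LK LD1_c1 LD2_c25 LD3_c45)) = (LP (LK LD1_c2 LD2_c59 LD3_c57)) :=
  Lre_g IH (LK LD1_c1 LD2_c25 LD3_c45) (LK LD1_c2 LD2_c59 LD3_c57) Lrfl Lrfl
theorem f176035 : Led Lsl_ct (LP (LK LD1_c2 LD2_c59 LD3_c57)) = (LP (LK LD1_c6 LD2_c7 LD3_c30)) :=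
  Lre_c IH (LK LD1_c2 LD2_c59 LD3_c57) (LK LD1_c6 LD2_c7 LD3_c30) Lrfl Lrfl
theorem f569452 : Led Lsl_gf (LP (LK LD1_c6 LD2_c16 LD3_c0)) = (LP (LK LD1_c6 LD2_c7 LD3_c30)) :=
  Lgr Lrot129 (Lpr_cf (f569434 IH) (Lpr_bt (f55872 IH) (Lpr_gt (K39.f55999 IH) (Lpe (K9.f55877 IH) (Lpr_ct (K10.f55578 IH) (Lpr_gt (K9.f8081 IH) (Lpe (K10.f175944 IH) (Lpr_bt (K30.f175941 IH) (Lpr_gt (f176020 IH) (Lpr_ct (f176035 IH) (Lpn (LP (LK LD1_c6 LD2_c7 LD3_c30)))))))))))))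
theorem f569454 : Led Lsl_bt (LP (LK LD1_c2 LD2_c59 LD3_c57)) = (LP (LK LD1_c5 LD2_c37 LD3_c57)) :=
  Lgr Lrot92 (Lpr_ct (f176035 IH) (Lpe (f569452 IH) (Lpr_cf (f569434 IH) (Lpr_bt (f55872 IH) (Lpr_gt (K39.f55999 IH) (Lpr_ct (K40.f55968 IH) (Lpr_gt (K32.f55980 IH) (Lpr_cf (K40.f501329 IH) (Lpqs (K40.f558412 IH) (Lpr_bt (K40.f558420 IH) (Lpe (K40.f558425 IH) (Lpn (LP (LK LD1_c5 LD2_c37 LD3_c57))))))))))))))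
theorem f548387 : Led Lsl_ff (LP (LK LD1_c2 LD2_c50 LD3_c1)) = (LP (LK LD1_c5 LD2_c37 LD3_c57)) :=
  Lgr Lrot23 (Lpr_ct (K5.f132343 IH) (Lpr_ft (K38.f496048 IH) (Lpqs (K38.f548382 IH) (Lpr_ct (K38.f548373 IH) (Lpn (LP (LK LD1_c5 LD2_c37 LD3_c57)))))))
theorem f569464 : Led Lsl_ff (LP (LK LD1_c2 LD2_c59 LD3_c57)) = (LP (LK LD1_c2 LD2_c18 LD3_c54)) :=
  Lgr Lrot25 (Lpr_bt (f569454 IH) (Lpe (f548387 IH) (Lpr_bt (K8.f132806 IH) (Lpn (LP (LK LD1_c2 LD2_c18 LD3_c54))))))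
theorem f569466 : Led Lsl_at (LP (LK LD1_c2 LD2_c59 LD3_c57)) = (LP (LK LD1_c3 LD2_c5 LD3_c11)) :=
  Lgr Lrot66 (Lpr_ff (f569464 IH) (Lpe (K6.f132777 IH) (Lpe (K38.f132799 IH) (Lpn (LP (LK LD1_c3 LD2_c5 LD3_c11))))))
theorem f551753 : Led Lsl_gf (LP (LK LD1_c2 LD2_c59 LD3_c58)) = (LP (LK LD1_c2 LD2_c18 LD3_c54)) :=
  Lgr Lrot181 (Lpr_ct (K39.f176008 IH) (Lpr_gt (K39.f551751 IH) (Lpe (K12.f225556 IH) (Lpr_bt (K12.f181089 IH) (Lpr_gt (K12.f186818 IH) (Lpe (K36.f186837 IH) (Lpe (K36.f334866 IH) (Lpq (K38.f537970 IH) (Lpr_gt (K35.f501280 IH) (Lpq (K38.f547957 IH) (Lpe (K5.f132343 IH) (Lpr_bt (K8.f132806 IH) (Lpn (LP (LK LD1_c2 LD2_c18 LD3_c54)))))))))))))))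
theorem f569476 : Led Lsl_gf (LP (LK LD1_c3 LD2_c5 LD3_c11)) = (LP (LK LD1_c2 LD2_c59 LD3_c58)) :=
  Lgr Lrot76 (Lpe (f569466 IH) (Lpr_ff (f569464 IH) (Lpe (f551753 IH) (Lpn (LP (LK LD1_c2 LD2_c59 LD3_c58))))))
theorem f132775 : Led Lsl_ct (LP (LK LD1_c6 LD2_c16 LD3_c2)) = (LP (LK LD1_c3 LD2_c5 LD3_c11)) :=
  Lre_c IH (LK LD1_c6 LD2_c16 LD3_c2) (LK LD1_c3 LD2_c5 LD3_c11) Lrfl Lrfl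
theorem f33749 : Led Lsl_bt (LP (LK LD1_c4 LD2_c2 LD3_c12)) = (LP (LK LD1_c1 LD2_c58 LD3_c6)) :=
  Lre_b IH (LK LD1_c4 LD2_c2 LD3_c12) (LK LD1_c1 LD2_c58 LD3_c6) Lrfl Lrfl
theorem f181991 : Led Lsl_bt (LP (LK LD1_c0 LD2_c56 LD3_c39)) = (LP (LK LD1_c0 LD2_c55 LD3_c42)) :=
  Lgr Lrot127 (Lpr_bf (K9.f181989 IH) (Lpn (LP (LK LD1_c0 LD2_c55 LD3_c42))))
theorem f237440 : Led Lsl_ct (LP (LK LD1_c1 LD2_c58 LD3_c6)) = (LP (LK LD1_c0 LD2_c56 LD3_c39)) :=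
  Lgr Lrot83 (Lpe (f33749 IH) (Lpr_cf (K18.f237432 IH) (Lpe (K18.f69724 IH) (Lpe (K9.f69715 IH) (Lpe (f181991 IH) (Lpn (LP (LK LD1_c0 LD2_c56 LD3_c39))))))))
theorem f225117 : Led Lsl_bt (LP (LK LD1_c1 LD2_c58 LD3_c6)) = (LP (LK LD1_c4 LD2_c2 LD3_c12)) :=
  Lre_b IH (LK LD1_c1 LD2_c58 LD3_c6) (LK LD1_c4 LD2_c2 LD3_c12) Lrfl Lrfl
theorem f225146 : Led Lsl_gt (LP (LK LD1_c4 LD2_c2 LD3_c12)) = (LP (LK LD1_c8 LD2_c4 LD3_c54)) :=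
  Lre_g IH (LK LD1_c4 LD2_c2 LD3_c12) (LK LD1_c8 LD2_c4 LD3_c54) Lrfl Lrfl
theorem f563673 : Led Lsl_bt (LP (LK LD1_c6 LD2_c16 LD3_c2)) = (LP (LK LD1_c8 LD2_c4 LD3_c54)) :=
  Lgr Lrot92 (Lpr_ct (f132775 IH) (Lpr_gt (K38.f563665 IH) (Lpr_cf (K38.f182428 IH) (Lpr_bt (K38.f182440 IH) (Lpe (K9.f182451 IH) (Lpr_ct (K1.f46617 IH) (Lpr_gt (K9.f28218 IH) (Lpe (f237440 IH) (Lpr_bt (f225117 IH) (Lpr_gt (f225146 IH) (Lpn (LP (LK LD1_c8 LD2_c4 LD3_c54)))))))))))))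
theorem f385273 : Led Lsl_ff (LP (LK LD1_c8 LD2_c3 LD3_c31)) = (LP (LK LD1_c4 LD2_c56 LD3_c36)) :=
  Lgr Lrot23 (Lpe (f182444 IH) (Lpr_ft (K30.f385268 IH) (Lpr_ct (K39.f179914 IH) (Lpn (LP (LK LD1_c4 LD2_c56 LD3_c36))))))
theorem f385933 : Led Lsl_ft (LP (LK LD1_c8 LD2_c3 LD3_c31)) = (LP (LK LD1_c4 LD2_c56 LD3_c36)) :=
  Lgr Lrot48 (Lpr_ff (f385273 IH) (Lpn (LP (LK LD1_c4 LD2_c56 LD3_c36))))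
theorem f182421 : Led Lsl_bt (LP (LK LD1_c4 LD2_c1 LD3_c27)) = (LP (LK LD1_c8 LD2_c3 LD3_c31)) :=
  Lre_b IH (LK LD1_c4 LD2_c1 LD3_c27) (LK LD1_c8 LD2_c3 LD3_c31) Lrfl Lrfl
theorem f210323 : Led Lsl_bt (LP (LK LD1_c4 LD2_c56 LD3_c36)) = (LP (LK LD1_c2 LD2_c26 LD3_c5)) :=
  Lre_b IH (LK LD1_c4 LD2_c56 LD3_c36) (LK LD1_c2 LD2_c26 LD3_c5) Lrfl Lrfl
theorem f385936 : Led Lsl_ff (LP (LK LD1_c4 LD2_c1 LD3_c27)) = (LP (LK LD1_c2 LD2_c26 LD3_c5)) :=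
  Lgr Lrot25 (Lpr_bt (f182421 IH) (Lpr_ft (f385933 IH) (Lpr_bt (f210323 IH) (Lpn (LP (LK LD1_c2 LD2_c26 LD3_c5))))))
theorem f385943 : Led Lsl_at (LP (LK LD1_c4 LD2_c1 LD3_c27)) = (LP (LK LD1_c4 LD2_c2 LD3_c11)) :=
  Lgr Lrot26 (Lpr_ff (f385936 IH) (Lpe (K12.f210321 IH) (Lpr_gt (K12.f227780 IH) (Lpn (LP (LK LD1_c4 LD2_c2 LD3_c11))))))
theorem f385949 : Led Lsl_af (LP (LK LD1_c1 LD2_c57 LD3_c40)) = (LP (LK LD1_c1 LD2_c58 LD3_c4)) :=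
  Lgr Lrot50 (Lpr_et (K12.f229360 IH) (Lpr_at (f385943 IH) (Lpr_et (K18.f242138 IH) (Lpn (LP (LK LD1_c1 LD2_c58 LD3_c4))))))
theorem f385953 : Led Lsl_ft (LP (LK LD1_c1 LD2_c57 LD3_c39)) = (LP (LK LD1_c1 LD2_c58 LD3_c4)) :=
  Lgr Lrot2 (Lpe (K9.f181995 IH) (Lpr_gt (K9.f182449 IH) (Lpr_af (f385949 IH) (Lpn (LP (LK LD1_c1 LD2_c58 LD3_c4))))))
theorem f69743 : Led Lsl_bt (LP (LK LD1_c4 LD2_c1 LD3_c23)) = (LP (LK LD1_c1 LD2_c57 LD3_c39)) :=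
  Lre_b IH (LK LD1_c4 LD2_c1 LD3_c23) (LK LD1_c1 LD2_c57 LD3_c39) Lrfl Lrfl
theorem f34056 : Led Lsl_bt (LP (LK LD1_c1 LD2_c58 LD3_c4)) = (LP (LK LD1_c4 LD2_c2 LD3_c9)) :=
  Lre_b IH (LK LD1_c1 LD2_c58 LD3_c4) (LK LD1_c4 LD2_c2 LD3_c9) Lrfl Lrfl
theorem f385957 : Led Lsl_ff (LP (LK LD1_c4 LD2_c1 LD3_c23)) = (LP (LK LD1_c4 LD2_c2 LD3_c9)) :=
  Lgr Lrot25 (Lpr_bt (f69743 IH) (Lpr_ft (f385953 IH) (Lpr_bt (f34056 IH) (Lpn (LP (LK LD1_c4 LD2_c2 LD3_c9))))))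
theorem f211613 : Led Lsl_bt (LP (LK LD1_c1 LD2_c57 LD3_c43)) = (LP (LK LD1_c4 LD2_c1 LD3_c30)) :=
  Lre_b IH (LK LD1_c1 LD2_c57 LD3_c43) (LK LD1_c4 LD2_c1 LD3_c30) Lrfl Lrfl
theorem f242144 : Led Lsl_bt (LP (LK LD1_c4 LD2_c2 LD3_c9)) = (LP (LK LD1_c1 LD2_c58 LD3_c4)) :=
  Lre_b IH (LK LD1_c4 LD2_c2 LD3_c9) (LK LD1_c1 LD2_c58 LD3_c4) Lrfl Lrfl
theorem f242223 : Led Lsl_ct (LP (LK LD1_c4 LD2_c1 LD3_c30)) = (LP (LK LD1_c4 LD2_c2 LD3_c9)) :=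
  Lgr Lrot83 (Lpe (f211613 IH) (Lpr_cf (K13.f211610 IH) (Lpr_bf (K14.f242145 IH) (Lpe (K13.f34055 IH) (Lpe (f242144 IH) (Lpn (LP (LK LD1_c4 LD2_c2 LD3_c9))))))))
theorem f386130 : Led Lsl_ft (LP (LK LD1_c4 LD2_c2 LD3_c12)) = (LP (LK LD1_c4 LD2_c1 LD3_c30)) :=
  Lgr Lrot4 (Lpr_cf (K18.f237432 IH) (Lpr_ff (f385957 IH) (Lpe (f242223 IH) (Lpn (LP (LK LD1_c4 LD2_c1 LD3_c30))))))
theorem f242251 : Led Lsl_at (LP (LK LD1_c4 LD2_c1 LD3_c30)) = (LP (LK LD1_c8 LD2_c3 LD3_c39)) :=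
  Lre_a IH (LK LD1_c4 LD2_c1 LD3_c30) (LK LD1_c8 LD2_c3 LD3_c39) Lrfl Lrfl
theorem f386134 : Led Lsl_gt (LP (LK LD1_c8 LD2_c4 LD3_c54)) = (LP (LK LD1_c8 LD2_c3 LD3_c39)) :=
  Lgr Lrot46 (Lpe (f225146 IH) (Lpr_ft (f386130 IH) (Lpr_at (f242251 IH) (Lpn (LP (LK LD1_c8 LD2_c3 LD3_c39))))))
theorem f55993 : Led Lsl_bt (LP (LK LD1_c1 LD2_c25 LD3_c47)) = (LP (LK LD1_c0 LD2_c39 LD3_c39)) :=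
  Lre_b IH (LK LD1_c1 LD2_c25 LD3_c47) (LK LD1_c0 LD2_c39 LD3_c39) Lrfl Lrfl
theorem f193434 : Led Lsl_bt (LP (LK LD1_c1 LD2_c58 LD3_c7)) = (LP (LK LD1_c3 LD2_c0 LD3_c0)) :=
  Lgr Lrot128 (Lpr_cf (K10.f193407 IH) (Lpe (K9.f177800 IH) (Lpr_cf (K10.f177793 IH) (Lpe (f55993 IH) (Lpe (K38.f56005 IH) (Lpn (LP (LK LD1_c3 LD2_c0 LD3_c0))))))))
theorem f287318 : Led Lsl_at (LP (LK LD1_c1 LD2_c57 LD3_c43)) = (LP (LK LD1_c1 LD2_c58 LD3_c7)) :=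
  Lgr Lrot51 (Lpe (K13.f33824 IH) (Lpr_af (K17.f287313 IH) (Lpe (K13.f33722 IH) (Lpn (LP (LK LD1_c1 LD2_c58 LD3_c7))))))
theorem f211638 : Led Lsl_bt (LP (LK LD1_c4 LD2_c1 LD3_c30)) = (LP (LK LD1_c1 LD2_c57 LD3_c43)) :=
  Lre_b IH (LK LD1_c4 LD2_c1 LD3_c30) (LK LD1_c1 LD2_c57 LD3_c43) Lrfl Lrfl
theorem f242243 : Led Lsl_at (LP (LK LD1_c8 LD2_c3 LD3_c39)) = (LP (LK LD1_c4 LD2_c1 LD3_c30)) :=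
  Lre_a IH (LK LD1_c8 LD2_c3 LD3_c39) (LK LD1_c4 LD2_c1 LD3_c30) Lrfl Lrfl
theorem f547677 : Led Lsl_bf (LP (LK LD1_c8 LD2_c3 LD3_c39)) = (LP (LK LD1_c5 LD2_c5 LD3_c57)) :=
  Lgr Lrot81 (Lpr_at (f242243 IH) (Lpr_bt (f211638 IH) (Lpr_at (f287318 IH) (Lpr_bt (f193434 IH) (Lpr_at (K38.f547644 IH) (Lpn (LP (LK LD1_c5 LD2_c5 LD3_c57))))))))
theorem f59203 : Led Lsl_ct (LP (LK LD1_c4 LD2_c41 LD3_c22)) = (LP (LK LD1_c2 LD2_c17 LD3_c46)) :=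
  Lre_c IH (LK LD1_c4 LD2_c41 LD3_c22) (LK LD1_c2 LD2_c17 LD3_c46) Lrfl Lrfl
theorem f59201 : Led Lsl_bf (LP (LK LD1_c4 LD2_c42 LD3_c35)) = (LP (LK LD1_c4 LD2_c41 LD3_c22)) :=
  Lgr Lrot24 (Lpr_bt (K8.f59199 IH) (Lpn (LP (LK LD1_c4 LD2_c41 LD3_c22))))
theorem f569483 : Led Lsl_gt (LP (LK LD1_c4 LD2_c42 LD3_c35)) = (LP (LK LD1_c6 LD2_c7 LD3_c32)) :=
  Lgr Lrot82 (Lpr_bf (f59201 IH) (Lpr_ct (f59203 IH) (Lpqs (K37.f537888 IH) (Lpe (K37.f495424 IH) (Lpe (K38.f418116 IH) (Lpe (f547677 IH) (Lpe (f386134 IH) (Lpe (f563673 IH) (Lpr_ct (f132775 IH) (Lpr_gf (f569476 IH) (Lpe (K39.f176003 IH) (Lpn (LP (LK LD1_c6 LD2_c7 LD3_c32))))))))))))))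
theorem f237458 : Led Lsl_et (LP (LK LD1_c4 LD2_c22 LD3_c47)) = (LP (LK LD1_c8 LD2_c43 LD3_c25)) :=
  Lre_e IH (LK LD1_c4 LD2_c22 LD3_c47) (LK LD1_c8 LD2_c43 LD3_c25) Lrfl Lrfl
theorem f547735 : Led Lsl_bf (LP (LK LD1_c6 LD2_c24 LD3_c30)) = (LP (LK LD1_c8 LD2_c43 LD3_c25)) :=
  Lgr Lrot96 (Lpr_et (K38.f547733 IH) (Lpr_bt (K39.f237437 IH) (Lpr_et (f237458 IH) (Lpn (LP (LK LD1_c8 LD2_c43 LD3_c25))))))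
theorem f262383 : Led Lsl_ft (LP (LK LD1_c1 LD2_c57 LD3_c40)) = (LP (LK LD1_c1 LD2_c58 LD3_c3)) :=
  Lgr Lrot54 (Lpe (K13.f182370 IH) (Lpr_ff (K15.f262377 IH) (Lpe (K13.f193458 IH) (Lpn (LP (LK LD1_c1 LD2_c58 LD3_c3))))))
theorem f385955 : Led Lsl_af (LP (LK LD1_c1 LD2_c57 LD3_c39)) = (LP (LK LD1_c1 LD2_c58 LD3_c3)) :=
  Lgr Lrot45 (Lpr_ft (f385953 IH) (Lpe (f385949 IH) (Lpr_ft (f262383 IH) (Lpn (LP (LK LD1_c1 LD2_c58 LD3_c3))))))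
theorem f193468 : Led Lsl_bf (LP (LK LD1_c1 LD2_c58 LD3_c3)) = (LP (LK LD1_c2 LD2_c59 LD3_c59)) :=
  Lgr Lrot90 (Lpr_ct (K11.f34067 IH) (Lpr_bt (K11.f193462 IH) (Lpe (K9.f175954 IH) (Lpr_bt (K30.f175941 IH) (Lpr_ct (K37.f56002 IH) (Lpn (LP (LK LD1_c2 LD2_c59 LD3_c59))))))))
theorem f386157 : Led Lsl_bt (LP (LK LD1_c8 LD2_c3 LD3_c26)) = (LP (LK LD1_c6 LD2_c7 LD3_c32)) :=
  Lgr Lrot62 (Lpe (K18.f69740 IH) (Lpe (K18.f69724 IH) (Lpr_af (f385955 IH) (Lpr_bf (f193468 IH) (Lpe (K39.f176024 IH) (Lpn (LP (LK LD1_c6 LD2_c7 LD3_c32))))))))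
theorem f386132 : Led Lsl_ff (LP (LK LD1_c8 LD2_c4 LD3_c55)) = (LP (LK LD1_c8 LD2_c3 LD3_c39)) :=
  Lgr Lrot30 (Lpr_at (K18.f225113 IH) (Lpr_ft (f386130 IH) (Lpr_at (f242251 IH) (Lpn (LP (LK LD1_c8 LD2_c3 LD3_c39))))))
theorem f386142 : Led Lsl_ft (LP (LK LD1_c8 LD2_c4 LD3_c55)) = (LP (LK LD1_c8 LD2_c3 LD3_c39)) :=
  Lgr Lrot48 (Lpr_ff (f386132 IH) (Lpn (LP (LK LD1_c8 LD2_c3 LD3_c39))))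
theorem f211639 : Led Lsl_gt (LP (LK LD1_c8 LD2_c3 LD3_c38)) = (LP (LK LD1_c4 LD2_c1 LD3_c30)) :=
  Lre_g IH (LK LD1_c8 LD2_c3 LD3_c38) (LK LD1_c4 LD2_c1 LD3_c30) Lrfl Lrfl
theorem f386146 : Led Lsl_gt (LP (LK LD1_c8 LD2_c4 LD3_c55)) = (LP (LK LD1_c8 LD2_c3 LD3_c38)) :=
  Lgr Lrot5 (Lpr_ft (f386142 IH) (Lpr_at (f242243 IH) (Lpe (f211639 IH) (Lpn (LP (LK LD1_c8 LD2_c3 LD3_c38))))))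
theorem f569491 : Led Lsl_ct (LP (LK LD1_c8 LD2_c43 LD3_c25)) = (LP (LK LD1_c8 LD2_c3 LD3_c38)) :=
  Lgr Lrot10 (Lpe (f547735 IH) (Lpr_gt (K38.f545114 IH) (Lpr_ct (K38.f418116 IH) (Lpr_gt (K37.f495424 IH) (Lpq (K37.f537888 IH) (Lpe (f59203 IH) (Lpe (f59201 IH) (Lpr_gt (f569483 IH) (Lpe (f386157 IH) (Lpe (K18.f237445 IH) (Lpr_gt (f386146 IH) (Lpn (LP (LK LD1_c8 LD2_c3 LD3_c38))))))))))))))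
theorem f242244 : Led Lsl_cf (LP (LK LD1_c4 LD2_c1 LD3_c30)) = (LP (LK LD1_c4 LD2_c2 LD3_c9)) :=
  Lgr Lrot11 (Lpr_ct (f242223 IH) (Lpn (LP (LK LD1_c4 LD2_c2 LD3_c9))))
theorem f56194 : Led Lsl_ct (LP (LK LD1_c2 LD2_c4 LD3_c5)) = (LP (LK LD1_c1 LD2_c5 LD3_c23)) :=
  Lgr Lrot59 (Lpr_cf (K28.f56185 IH) (Lpn (LP (LK LD1_c1 LD2_c5 LD3_c23))))
theorem f569499 : Led Lsl_gf (LP (LK LD1_c8 LD2_c43 LD3_c25)) = (LP (LK LD1_c9 LD2_c14 LD3_c59)) :=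
  Lgr Lrot181 (Lpr_ct (f569491 IH) (Lpr_gt (f211639 IH) (Lpr_cf (f242244 IH) (Lpr_bt (f242144 IH) (Lpe (K13.f242135 IH) (Lpe (K1.f46613 IH) (Lpr_ct (f56194 IH) (Lpr_gt (K38.f8405 IH) (Lpe (K38.f56254 IH) (Lpr_bt (K41.f56255 IH) (Lpn (LP (LK LD1_c9 LD2_c14 LD3_c59)))))))))))))
theorem f569493 : Led Lsl_cf (LP (LK LD1_c8 LD2_c43 LD3_c25)) = (LP (LK LD1_c8 LD2_c3 LD3_c38)) :=
  Lgr Lrot11 (Lpr_ct (f569491 IH) (Lpn (LP (LK LD1_c8 LD2_c3 LD3_c38))))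
theorem f569503 : Led Lsl_bt (LP (LK LD1_c8 LD2_c3 LD3_c38)) = (LP (LK LD1_c8 LD2_c42 LD3_c53)) :=
  Lgr Lrot130 (Lpe (f569493 IH) (Lpr_gf (f569499 IH) (Lpe (K41.f556863 IH) (Lpr_bt (K41.f556859 IH) (Lpe (K41.f553826 IH) (Lpe (K2.f46843 IH) (Lpr_ct (K38.f56192 IH) (Lpr_gf (K38.f547179 IH) (Lpe (K38.f542665 IH) (Lpe (K38.f547839 IH) (Lpn (LP (LK LD1_c8 LD2_c42 LD3_c53)))))))))))))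
theorem f242249 : Led Lsl_dt (LP (LK LD1_c15 LD2_c10 LD3_c22)) = (LP (LK LD1_c8 LD2_c3 LD3_c38)) :=
  Lre_d IH (LK LD1_c15 LD2_c10 LD3_c22) (LK LD1_c8 LD2_c3 LD3_c38) Lrfl Lrfl
theorem f569507 : Led Lsl_bf (LP (LK LD1_c15 LD2_c10 LD3_c22)) = (LP (LK LD1_c8 LD2_c38 LD3_c18)) :=
  Lgr Lrot93 (Lpr_dt (f242249 IH) (Lpr_bt (f569503 IH) (Lpr_dt (K38.f547552 IH) (Lpn (LP (LK LD1_c8 LD2_c38 LD3_c18))))))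
theorem f569511 : Led Lsl_bt (LP (LK LD1_c15 LD2_c10 LD3_c22)) = (LP (LK LD1_c8 LD2_c38 LD3_c18)) :=
  Lgr Lrot127 (Lpr_bf (f569507 IH) (Lpn (LP (LK LD1_c8 LD2_c38 LD3_c18))))
theorem f386149 : Led Lsl_ct (LP (LK LD1_c15 LD2_c10 LD3_c22)) = (LP (LK LD1_c24 LD2_c59 LD3_c39)) :=
  Lre_c IH (LK LD1_c15 LD2_c10 LD3_c22) (LK LD1_c24 LD2_c59 LD3_c39) Lrfl Lrfl
theorem f46825 : Led Lsl_ct (LP (LK LD1_c15 LD2_c50 LD3_c13)) = (LP (LK LD1_c8 LD2_c25 LD3_c58)) :=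
  Lre_c IH (LK LD1_c15 LD2_c50 LD3_c13) (LK LD1_c8 LD2_c25 LD3_c58) Lrfl Lrfl
theorem f46832 : Led Lsl_gt (LP (LK LD1_c25 LD2_c46 LD3_c20)) = (LP (LK LD1_c15 LD2_c50 LD3_c13)) :=
  Lre_g IH (LK LD1_c25 LD2_c46 LD3_c20) (LK LD1_c15 LD2_c50 LD3_c13) Lrfl Lrfl
theorem f547846 : Led Lsl_ct (LP (LK LD1_c16 LD2_c10 LD3_c30)) = (LP (LK LD1_c25 LD2_c46 LD3_c20)) :=
  Lgr Lrot152 (Lpe (K38.f34976 IH) (Lpe (K38.f547552 IH) (Lpr_gt (K38.f547839 IH) (Lpr_ct (K38.f542665 IH) (Lpe (K38.f547179 IH) (Lpe (K28.f56238 IH) (Lpe (K2.f46841 IH) (Lpe (f46825 IH) (Lpe (f46832 IH) (Lpn (LP (LK LD1_c25 LD2_c46 LD3_c20))))))))))))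
theorem f46831 : Led Lsl_ct (LP (LK LD1_c8 LD2_c25 LD3_c58)) = (LP (LK LD1_c15 LD2_c50 LD3_c13)) :=
  Lre_c IH (LK LD1_c8 LD2_c25 LD3_c58) (LK LD1_c15 LD2_c50 LD3_c13) Lrfl Lrfl
theorem f569521 : Led Lsl_gf (LP (LK LD1_c24 LD2_c59 LD3_c39)) = (LP (LK LD1_c20 LD2_c30 LD3_c48)) :=
  Lgr Lrot126 (Lpe (f386149 IH) (Lpr_bt (f569511 IH) (Lpr_gt (K38.f34976 IH) (Lpr_ct (f547846 IH) (Lpr_gt (f46832 IH) (Lpe (f46831 IH) (Lpr_bt (K2.f46815 IH) (Lpe (K38.f547195 IH) (Lpe (K37.f420951 IH) (Lpr_ct (K37.f442687 IH) (Lpn (LP (LK LD1_c20 LD2_c30 LD3_c48)))))))))))))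
theorem f386148 : Led Lsl_ct (LP (LK LD1_c24 LD2_c59 LD3_c39)) = (LP (LK LD1_c15 LD2_c10 LD3_c22)) :=
  Lre_c IH (LK LD1_c24 LD2_c59 LD3_c39) (LK LD1_c15 LD2_c10 LD3_c22) Lrfl Lrfl
theorem f239506 : Led Lsl_bt (LP (LK LD1_c2 LD2_c33 LD3_c20)) = (LP (LK LD1_c5 LD2_c12 LD3_c56)) :=
  Lre_b IH (LK LD1_c2 LD2_c33 LD3_c20) (LK LD1_c5 LD2_c12 LD3_c56) Lrfl Lrfl
theorem f240712 : Led Lsl_bt (LP (LK LD1_c5 LD2_c5 LD3_c9)) = (LP (LK LD1_c2 LD2_c29 LD3_c54)) :=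
  Lre_b IH (LK LD1_c5 LD2_c5 LD3_c9) (LK LD1_c2 LD2_c29 LD3_c54) Lrfl Lrfl
theorem f242013 : Led Lsl_ft (LP (LK LD1_c5 LD2_c12 LD3_c56)) = (LP (LK LD1_c5 LD2_c5 LD3_c9)) :=
  Lgr Lrot75 (Lpe (f239506 IH) (Lpr_ff (K13.f242011 IH) (Lpe (f240712 IH) (Lpn (LP (LK LD1_c5 LD2_c5 LD3_c9))))))
theorem f241892 : Led Lsl_gt (LP (LK LD1_c5 LD2_c12 LD3_c56)) = (LP (LK LD1_c10 LD2_c16 LD3_c10)) :=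
  Lre_g IH (LK LD1_c5 LD2_c12 LD3_c56) (LK LD1_c10 LD2_c16 LD3_c10) Lrfl Lrfl
theorem f417969 : Led Lsl_gt (LP (LK LD1_c10 LD2_c16 LD3_c10)) = (LP (LK LD1_c10 LD2_c1 LD3_c24)) :=
  Lgr Lrot46 (Lpe (f241892 IH) (Lpr_ft (f242013 IH) (Lpr_at (K41.f240835 IH) (Lpn (LP (LK LD1_c10 LD2_c1 LD3_c24))))))
theorem f241898 : Led Lsl_dt (LP (LK LD1_c10 LD2_c16 LD3_c10)) = (LP (LK LD1_c18 LD2_c40 LD3_c42)) :=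
  Lre_d IH (LK LD1_c10 LD2_c16 LD3_c10) (LK LD1_c18 LD2_c40 LD3_c42) Lrfl Lrfl
theorem f569523 : Led Lsl_gt (LP (LK LD1_c18 LD2_c40 LD3_c42)) = (LP (LK LD1_c11 LD2_c33 LD3_c33)) :=
  Lgr Lrot9 (Lpe (f241898 IH) (Lpr_gt (f417969 IH) (Lpr_ct (K41.f556863 IH) (Lpe (f569499 IH) (Lpr_ct (f569491 IH) (Lpe (f242249 IH) (Lpe (f386148 IH) (Lpr_gf (f569521 IH) (Lpe (K37.f442687 IH) (Lpn (LP (LK LD1_c11 LD2_c33 LD3_c33))))))))))))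
theorem f72118 : Led Lsl_dt (LP (LK LD1_c5 LD2_c53 LD3_c50)) = (LP (LK LD1_c11 LD2_c33 LD3_c33)) :=
  Lre_d IH (LK LD1_c5 LD2_c53 LD3_c50) (LK LD1_c11 LD2_c33 LD3_c33) Lrfl Lrfl
theorem f72111 : Led Lsl_et (LP (LK LD1_c5 LD2_c53 LD3_c50)) = (LP (LK LD1_c2 LD2_c53 LD3_c16)) :=
  Lre_e IH (LK LD1_c5 LD2_c53 LD3_c50) (LK LD1_c2 LD2_c53 LD3_c16) Lrfl Lrfl
theorem f569529 : Led Lsl_et (LP (LK LD1_c10 LD2_c16 LD3_c10)) = (LP (LK LD1_c6 LD2_c13 LD3_c46)) :=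
  Lgr Lrot122 (Lpr_dt (f241898 IH) (Lpr_gt (f569523 IH) (Lpe (f72118 IH) (Lpr_et (f72111 IH) (Lpe (K6.f72112 IH) (Lpr_dt (K36.f72115 IH) (Lpe (K36.f80763 IH) (Lpe (K5.f80447 IH) (Lpr_et (K37.f80664 IH) (Lpe (K36.f538500 IH) (Lpn (LP (LK LD1_c6 LD2_c13 LD3_c46)))))))))))))
theorem f5035 : Led Lsl_at (LP (LK LD1_c7 LD2_c16 LD3_c53)) = (LP (LK LD1_c3 LD2_c38 LD3_c37)) :=
  Lre_a IH (LK LD1_c7 LD2_c16 LD3_c53) (LK LD1_c3 LD2_c38 LD3_c37) Lrfl Lrfl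
theorem f566105 : Led Lsl_gt (LP (LK LD1_c3 LD2_c38 LD3_c15)) = (LP (LK LD1_c5 LD2_c13 LD3_c37)) :=
  Lgr Lrot5 (Lpr_ft (K41.f5015 IH) (Lpr_at (f5035 IH) (Lpr_gf (K41.f566103 IH) (Lpn (LP (LK LD1_c5 LD2_c13 LD3_c37))))))
theorem f181112 : Led Lsl_bt (LP (LK LD1_c10 LD2_c16 LD3_c17)) = (LP (LK LD1_c5 LD2_c12 LD3_c61)) :=
  Lre_b IH (LK LD1_c10 LD2_c16 LD3_c17) (LK LD1_c5 LD2_c12 LD3_c61) Lrfl Lrfl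
theorem f420726 : Led Lsl_df (LP (LK LD1_c10 LD2_c16 LD3_c17)) = (LP (LK LD1_c5 LD2_c13 LD3_c37)) :=
  Lgr Lrot12 (Lpr_bt (f181112 IH) (Lpr_dt (K12.f201624 IH) (Lpr_bt (K41.f201556 IH) (Lpn (LP (LK LD1_c5 LD2_c13 LD3_c37))))))
theorem f569541 : Led Lsl_gf (LP (LK LD1_c18 LD2_c40 LD3_c42)) = (LP (LK LD1_c10 LD2_c16 LD3_c17)) :=
  Lgr Lrot134 (Lpe (f241898 IH) (Lpr_et (f569529 IH) (Lpr_gt (K36.f540693 IH) (Lpe (K41.f98032 IH) (Lpe (K3.f98037 IH) (Lpe (K2.f5800 IH) (Lpe (K2.f395 IH) (Lpr_et (K41.f5014 IH) (Lpr_gt (f566105 IH) (Lpe (f420726 IH) (Lpn (LP (LK LD1_c10 LD2_c16 LD3_c17)))))))))))))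
theorem f417971 : Led Lsl_dt (LP (LK LD1_c18 LD2_c40 LD3_c42)) = (LP (LK LD1_c10 LD2_c16 LD3_c10)) :=
  Lre_d IH (LK LD1_c18 LD2_c40 LD3_c42) (LK LD1_c10 LD2_c16 LD3_c10) Lrfl Lrfl
theorem f420394 : Led Lsl_et (LP (LK LD1_c3 LD2_c3 LD3_c43)) = (LP (LK LD1_c6 LD2_c13 LD3_c47)) :=
  Lre_e IH (LK LD1_c3 LD2_c3 LD3_c43) (LK LD1_c6 LD2_c13 LD3_c47) Lrfl Lrfl
theorem f569535 : Led Lsl_cf (LP (LK LD1_c10 LD2_c16 LD3_c10)) = (LP (LK LD1_c6 LD2_c13 LD3_c47)) :=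
  Lgr Lrot39 (Lpr_et (f569529 IH) (Lpr_ct (K11.f80742 IH) (Lpr_et (f420394 IH) (Lpn (LP (LK LD1_c6 LD2_c13 LD3_c47))))))
theorem f420390 : Led Lsl_dt (LP (LK LD1_c12 LD2_c6 LD3_c15)) = (LP (LK LD1_c6 LD2_c13 LD3_c47)) :=
  Lre_d IH (LK LD1_c12 LD2_c6 LD3_c15) (LK LD1_c6 LD2_c13 LD3_c47) Lrfl Lrfl
theorem f5186 : Led Lsl_dt (LP (LK LD1_c3 LD2_c39 LD3_c31)) = (LP (LK LD1_c7 LD2_c19 LD3_c14)) :=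
  Lre_d IH (LK LD1_c3 LD2_c39 LD3_c31) (LK LD1_c7 LD2_c19 LD3_c14) Lrfl Lrfl
theorem f569543 : Led Lsl_gf (LP (LK LD1_c12 LD2_c6 LD3_c15)) = (LP (LK LD1_c7 LD2_c19 LD3_c14)) :=
  Lgr Lrot154 (Lpr_dt (f420390 IH) (Lpe (f569535 IH) (Lpe (f417971 IH) (Lpr_gf (f569541 IH) (Lpr_df (f420726 IH) (Lpe (f566105 IH) (Lpr_ct (K0.f5164 IH) (Lpr_gt (K41.f5185 IH) (Lpr_dt (f5186 IH) (Lpn (LP (LK LD1_c7 LD2_c19 LD3_c14))))))))))))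
theorem f569577 : Led Lsl_cf (LP (LK LD1_c6 LD2_c13 LD3_c47)) = (LP (LK LD1_c10 LD2_c16 LD3_c10)) :=
  Lgr Lrot14 (Lpe (f420390 IH) (Lpr_gf (f569543 IH) (Lpe (f5186 IH) (Lpe (K41.f5185 IH) (Lpe (K0.f5173 IH) (Lpr_gt (f566105 IH) (Lpe (f420726 IH) (Lpe (f569541 IH) (Lpr_dt (f417971 IH) (Lpn (LP (LK LD1_c10 LD2_c16 LD3_c10))))))))))))
theorem f203283 : Led Lsl_gf (LP (LK LD1_c2 LD2_c53 LD3_c16)) = (LP (LK LD1_c2 LD2_c10 LD3_c2)) :=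
  Lgr Lrot129 (Lpe (K2.f72106 IH) (Lpe (K4.f35768 IH) (Lpr_gt (K7.f149582 IH) (Lpe (K8.f118947 IH) (Lpr_ct (K8.f148989 IH) (Lpe (K7.f148986 IH) (Lpr_cf (K28.f148979 IH) (Lpr_bt (K8.f148976 IH) (Lpr_gt (K28.f203267 IH) (Lpr_ct (K8.f38521 IH) (Lpn (LP (LK LD1_c2 LD2_c10 LD3_c2)))))))))))))
theorem f160717 : Led Lsl_gf (LP (LK LD1_c4 LD2_c25 LD3_c23)) = (LP (LK LD1_c5 LD2_c53 LD3_c49)) :=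
  Lgr Lrot181 (Lpr_ct (K40.f137580 IH) (Lpe (K28.f137578 IH) (Lpr_cf (K28.f160709 IH) (Lpr_bt (K40.f142204 IH) (Lpe (K8.f157209 IH) (Lpe (K8.f112744 IH) (Lpr_ct (K6.f83790 IH) (Lpr_gt (K7.f112752 IH) (Lpe (K6.f70923 IH) (Lpr_bt (K6.f71012 IH) (Lpn (LP (LK LD1_c5 LD2_c53 LD3_c49)))))))))))))
theorem f565733 : Led Lsl_gt (LP (LK LD1_c6 LD2_c13 LD3_c47)) = (LP (LK LD1_c4 LD2_c1 LD3_c23)) :=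
  Lgr Lrot131 (Lpe (f420394 IH) (Lpr_dt (K36.f420372 IH) (Lpr_gf (f160717 IH) (Lpe (K2.f72095 IH) (Lpr_gf (f203283 IH) (Lpr_ef (K41.f565731 IH) (Lpr_dt (K31.f29620 IH) (Lpe (K31.f403278 IH) (Lpr_df (K18.f201521 IH) (Lpr_et (K18.f69735 IH) (Lpn (LP (LK LD1_c4 LD2_c1 LD3_c23)))))))))))))
theorem f5166 : Led Lsl_dt (LP (LK LD1_c13 LD2_c46 LD3_c43)) = (LP (LK LD1_c7 LD2_c16 LD3_c53)) :=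
  Lre_d IH (LK LD1_c13 LD2_c46 LD3_c43) (LK LD1_c7 LD2_c16 LD3_c53) Lrfl Lrfl
theorem f5167 : Led Lsl_gt (LP (LK LD1_c7 LD2_c17 LD3_c32)) = (LP (LK LD1_c13 LD2_c46 LD3_c43)) :=
  Lre_g IH (LK LD1_c7 LD2_c17 LD3_c32) (LK LD1_c13 LD2_c46 LD3_c43) Lrfl Lrfl
theorem f569587 : Led Lsl_df (LP (LK LD1_c7 LD2_c17 LD3_c32)) = (LP (LK LD1_c10 LD2_c1 LD3_c24)) :=
  Lgr Lrot153 (Lpr_gt (f5167 IH) (Lpr_dt (f5166 IH) (Lpr_cf (K0.f5150 IH) (Lpe (K0.f5128 IH) (Lpr_gf (K41.f565685 IH) (Lpe (K41.f69737 IH) (Lpe (f565733 IH) (Lpr_cf (f569577 IH) (Lpr_gt (f417969 IH) (Lpn (LP (LK LD1_c10 LD2_c1 LD3_c24))))))))))))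
theorem f5618 : Led Lsl_gt (LP (LK LD1_c3 LD2_c38 LD3_c36)) = (LP (LK LD1_c7 LD2_c17 LD3_c32)) :=
  Lre_g IH (LK LD1_c3 LD2_c38 LD3_c36) (LK LD1_c7 LD2_c17 LD3_c32) Lrfl Lrfl
theorem f5622 : Led Lsl_et (LP (LK LD1_c1 LD2_c46 LD3_c16)) = (LP (LK LD1_c0 LD2_c49 LD3_c53)) :=
  Lre_e IH (LK LD1_c1 LD2_c46 LD3_c16) (LK LD1_c0 LD2_c49 LD3_c53) Lrfl Lrfl
theorem f128249 : Led Lsl_et (LP (LK LD1_c3 LD2_c33 LD3_c39)) = (LP (LK LD1_c1 LD2_c43 LD3_c32)) :=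
  Lre_e IH (LK LD1_c3 LD2_c33 LD3_c39) (LK LD1_c1 LD2_c43 LD3_c32) Lrfl Lrfl
theorem f160304 : Led Lsl_gt (LP (LK LD1_c13 LD2_c30 LD3_c61)) = (LP (LK LD1_c7 LD2_c8 LD3_c9)) :=
  Lre_g IH (LK LD1_c13 LD2_c30 LD3_c61) (LK LD1_c7 LD2_c8 LD3_c9) Lrfl Lrfl
theorem f80729 : Led Lsl_et (LP (LK LD1_c8 LD2_c2 LD3_c6)) = (LP (LK LD1_c4 LD2_c0 LD3_c35)) :=
  Lre_e IH (LK LD1_c8 LD2_c2 LD3_c6) (LK LD1_c4 LD2_c0 LD3_c35) Lrfl Lrfl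
theorem f160323 : Led Lsl_dt (LP (LK LD1_c7 LD2_c14 LD3_c15)) = (LP (LK LD1_c13 LD2_c41 LD3_c45)) :=
  Lre_d IH (LK LD1_c7 LD2_c14 LD3_c15) (LK LD1_c13 LD2_c41 LD3_c45) Lrfl Lrfl
theorem f160337 : Led Lsl_at (LP (LK LD1_c7 LD2_c14 LD3_c14)) = (LP (LK LD1_c7 LD2_c8 LD3_c9)) :=
  Lgr Lrot100 (Lpr_af (K8.f160317 IH) (Lpn (LP (LK LD1_c7 LD2_c8 LD3_c9))))
theorem f160388 : Led Lsl_ft (LP (LK LD1_c13 LD2_c41 LD3_c45)) = (LP (LK LD1_c7 LD2_c14 LD3_c14)) :=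
  Lre_f IH (LK LD1_c13 LD2_c41 LD3_c45) (LK LD1_c7 LD2_c14 LD3_c14) Lrfl Lrfl
theorem f160389 : Led Lsl_gt (LP (LK LD1_c13 LD2_c41 LD3_c45)) = (LP (LK LD1_c13 LD2_c30 LD3_c61)) :=
  Lgr Lrot5 (Lpr_ft (f160388 IH) (Lpr_at (f160337 IH) (Lpe (f160304 IH) (Lpn (LP (LK LD1_c13 LD2_c30 LD3_c61))))))
theorem f540733 : Led Lsl_dt (LP (LK LD1_c8 LD2_c2 LD3_c6)) = (LP (LK LD1_c13 LD2_c30 LD3_c61)) :=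
  Lgr Lrot56 (Lpr_et (f80729 IH) (Lpr_gt (K5.f80681 IH) (Lpe (K4.f80673 IH) (Lpr_dt (K37.f80672 IH) (Lpe (K41.f540717 IH) (Lpe (K28.f203356 IH) (Lpr_et (K41.f540727 IH) (Lpe (K41.f160330 IH) (Lpr_dt (f160323 IH) (Lpr_gt (f160389 IH) (Lpn (LP (LK LD1_c13 LD2_c30 LD3_c61)))))))))))))
theorem f569603 : Led Lsl_gf (LP (LK LD1_c8 LD2_c2 LD3_c6)) = (LP (LK LD1_c11 LD2_c6 LD3_c49)) :=
  Lgr Lrot138 (Lpr_dt (f540733 IH) (Lpr_gt (f160304 IH) (Lpe (K8.f128250 IH) (Lpr_et (f128249 IH) (Lpe (K3.f97314 IH) (Lpe (f5622 IH) (Lpr_dt (K0.f5135 IH) (Lpr_gt (f5618 IH) (Lpr_df (f569587 IH) (Lpr_et (K41.f556853 IH) (Lpn (LP (LK LD1_c11 LD2_c6 LD3_c49)))))))))))))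
theorem f112681 : Led Lsl_et (LP (LK LD1_c4 LD2_c0 LD3_c35)) = (LP (LK LD1_c8 LD2_c2 LD3_c6)) :=
  Lre_e IH (LK LD1_c4 LD2_c0 LD3_c35) (LK LD1_c8 LD2_c2 LD3_c6) Lrfl Lrfl
theorem f5628 : Led Lsl_gt (LP (LK LD1_c3 LD2_c38 LD3_c35)) = (LP (LK LD1_c1 LD2_c46 LD3_c16)) :=
  Lre_g IH (LK LD1_c3 LD2_c38 LD3_c35) (LK LD1_c1 LD2_c46 LD3_c16) Lrfl Lrfl
theorem f569609 : Led Lsl_et (LP (LK LD1_c1 LD2_c55 LD3_c39)) = (LP (LK LD1_c3 LD2_c38 LD3_c35)) :=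
  Lgr Lrot121 (Lpr_dt (K4.f37077 IH) (Lpe (K5.f37079 IH) (Lpe (K36.f112679 IH) (Lpr_et (f112681 IH) (Lpr_gf (f569603 IH) (Lpe (K41.f556853 IH) (Lpe (f569587 IH) (Lpe (f5618 IH) (Lpe (K0.f5135 IH) (Lpe (f5628 IH) (Lpn (LP (LK LD1_c3 LD2_c38 LD3_c35)))))))))))))
theorem f112598 : Led Lsl_et (LP (LK LD1_c4 LD2_c0 LD3_c34)) = (LP (LK LD1_c8 LD2_c2 LD3_c4)) :=
  Lre_e IH (LK LD1_c4 LD2_c0 LD3_c34) (LK LD1_c8 LD2_c2 LD3_c4) Lrfl Lrfl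
theorem f5040 : Led Lsl_gt (LP (LK LD1_c7 LD2_c16 LD3_c53)) = (LP (LK LD1_c3 LD2_c38 LD3_c35)) :=
  Lre_g IH (LK LD1_c7 LD2_c16 LD3_c53) (LK LD1_c3 LD2_c38 LD3_c35) Lrfl Lrfl
theorem f5033 : Led Lsl_ef (LP (LK LD1_c7 LD2_c16 LD3_c53)) = (LP (LK LD1_c7 LD2_c17 LD3_c27)) :=
  Lgr Lrot21 (Lpr_ft (K0.f5031 IH) (Lpr_et (K0.f5030 IH) (Lpr_ft (K0.f5019 IH) (Lpr_et (K41.f4998 IH) (Lpr_ft (K41.f5032 IH) (Lpn (LP (LK LD1_c7 LD2_c17 LD3_c27))))))))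
theorem f5042 : Led Lsl_dt (LP (LK LD1_c7 LD2_c17 LD3_c27)) = (LP (LK LD1_c13 LD2_c47 LD3_c31)) :=
  Lre_d IH (LK LD1_c7 LD2_c17 LD3_c27) (LK LD1_c13 LD2_c47 LD3_c31) Lrfl Lrfl
theorem f5129 : Led Lsl_af (LP (LK LD1_c13 LD2_c47 LD3_c31)) = (LP (LK LD1_c7 LD2_c19 LD3_c21)) :=
  Lgr Lrot0 (Lpr_at (K0.f5126 IH) (Lpn (LP (LK LD1_c7 LD2_c19 LD3_c21))))
theorem f5227 : Led Lsl_ft (LP (LK LD1_c3 LD2_c39 LD3_c33)) = (LP (LK LD1_c7 LD2_c19 LD3_c21)) :=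
  Lre_f IH (LK LD1_c3 LD2_c39 LD3_c33) (LK LD1_c7 LD2_c19 LD3_c21) Lrfl Lrfl
theorem f5521 : Led Lsl_gt (LP (LK LD1_c3 LD2_c39 LD3_c33)) = (LP (LK LD1_c7 LD2_c19 LD3_c18)) :=
  Lre_g IH (LK LD1_c3 LD2_c39 LD3_c33) (LK LD1_c7 LD2_c19 LD3_c18) Lrfl Lrfl
theorem f5681 : Led Lsl_gf (LP (LK LD1_c13 LD2_c47 LD3_c31)) = (LP (LK LD1_c7 LD2_c19 LD3_c18)) :=
  Lgr Lrot76 (Lpr_af (f5129 IH) (Lpe (f5227 IH) (Lpr_gt (f5521 IH) (Lpn (LP (LK LD1_c7 LD2_c19 LD3_c18))))))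
theorem f297412 : Led Lsl_gt (LP (LK LD1_c8 LD2_c1 LD3_c43)) = (LP (LK LD1_c8 LD2_c1 LD3_c0)) :=
  Lgr Lrot5 (Lpr_ft (K18.f297408 IH) (Lpr_at (K18.f210764 IH) (Lpe (K41.f210763 IH) (Lpn (LP (LK LD1_c8 LD2_c1 LD3_c0))))))
theorem f69741 : Led Lsl_ef (LP (LK LD1_c8 LD2_c1 LD3_c43)) = (LP (LK LD1_c8 LD2_c3 LD3_c26)) :=
  Lgr Lrot20 (Lpr_at (K18.f69739 IH) (Lpr_et (K18.f69735 IH) (Lpr_at (K18.f69740 IH) (Lpn (LP (LK LD1_c8 LD2_c3 LD3_c26))))))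
theorem f564955 : Led Lsl_dt (LP (LK LD1_c8 LD2_c3 LD3_c26)) = (LP (LK LD1_c7 LD2_c19 LD3_c18)) :=
  Lgr Lrot37 (Lpe (f69741 IH) (Lpr_gt (f297412 IH) (Lpr_dt (K41.f564946 IH) (Lpr_gt (K38.f237722 IH) (Lpe (K39.f388749 IH) (Lpq (K39.f553329 IH) (Lpe (K39.f519725 IH) (Lpr_gt (K3.f17467 IH) (Lpe (K24.f5178 IH) (Lpr_dt (K41.f5121 IH) (Lpr_gt (f5521 IH) (Lpn (LP (LK LD1_c7 LD2_c19 LD3_c18))))))))))))))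
theorem f569623 : Led Lsl_gt (LP (LK LD1_c8 LD2_c2 LD3_c4)) = (LP (LK LD1_c8 LD2_c3 LD3_c26)) :=
  Lgr Lrot137 (Lpe (f112598 IH) (Lpe (K4.f112587 IH) (Lpe (K4.f37457 IH) (Lpe (K4.f37077 IH) (Lpr_et (f569609 IH) (Lpe (f5040 IH) (Lpr_ef (f5033 IH) (Lpr_dt (f5042 IH) (Lpr_gf (f5681 IH) (Lpe (f564955 IH) (Lpn (LP (LK LD1_c8 LD2_c3 LD3_c26)))))))))))))
theorem f210773 : Led Lsl_ct (LP (LK LD1_c14 LD2_c58 LD3_c59)) = (LP (LK LD1_c24 LD2_c46 LD3_c27)) :=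
  Lre_c IH (LK LD1_c14 LD2_c58 LD3_c59) (LK LD1_c24 LD2_c46 LD3_c27) Lrfl Lrfl
theorem f297397 : Led Lsl_ft (LP (LK LD1_c8 LD2_c44 LD3_c59)) = (LP (LK LD1_c14 LD2_c58 LD3_c59)) :=
  Lgr Lrot4 (Lpe (K22.f201535 IH) (Lpr_ff (K18.f297393 IH) (Lpe (f210773 IH) (Lpn (LP (LK LD1_c14 LD2_c58 LD3_c59))))))
theorem f565644 : Led Lsl_gf (LP (LK LD1_c13 LD2_c30 LD3_c37)) = (LP (LK LD1_c8 LD2_c44 LD3_c59)) :=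
  Lgr Lrot47 (Lpr_gt (K41.f565642 IH) (Lpe (K18.f210756 IH) (Lpe (f297397 IH) (Lpn (LP (LK LD1_c8 LD2_c44 LD3_c59))))))
theorem f569631 : Led Lsl_ef (LP (LK LD1_c3 LD2_c57 LD3_c47)) = (LP (LK LD1_c7 LD2_c7 LD3_c57)) :=
  Lgr Lrot167 (Lpr_gt (K8.f37048 IH) (Lpr_dt (K4.f37077 IH) (Lpr_gt (K4.f37457 IH) (Lpr_df (K4.f112587 IH) (Lpr_et (f112598 IH) (Lpr_gt (f569623 IH) (Lpe (K18.f69731 IH) (Lpe (K22.f201536 IH) (Lpe (f565644 IH) (Lpe (K41.f98099 IH) (Lpn (LP (LK LD1_c7 LD2_c7 LD3_c57)))))))))))))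
theorem f569642 : Led Lsl_et (LP (LK LD1_c3 LD2_c57 LD3_c47)) = (LP (LK LD1_c7 LD2_c7 LD3_c57)) :=
  Lgr Lrot87 (Lpr_ef (f569631 IH) (Lpn (LP (LK LD1_c7 LD2_c7 LD3_c57))))
theorem f38204 : Led Lsl_at (LP (LK LD1_c6 LD2_c13 LD3_c48)) = (LP (LK LD1_c3 LD2_c3 LD3_c45)) :=
  Lre_a IH (LK LD1_c6 LD2_c13 LD3_c48) (LK LD1_c3 LD2_c3 LD3_c45) Lrfl Lrfl
theorem f38207 : Led Lsl_gt (LP (LK LD1_c4 LD2_c26 LD3_c28)) = (LP (LK LD1_c6 LD2_c13 LD3_c50)) :=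
  Lgr Lrot5 (Lpr_ft (K36.f38195 IH) (Lpr_at (f38204 IH) (Lpe (K28.f38206 IH) (Lpn (LP (LK LD1_c6 LD2_c13 LD3_c50))))))
theorem f546567 : Led Lsl_et (LP (LK LD1_c4 LD2_c0 LD3_c36)) = (LP (LK LD1_c5 LD2_c47 LD3_c22)) :=
  Lgr Lrot74 (Lpr_bf (K36.f206060 IH) (Lpr_ef (K38.f546565 IH) (Lpe (K40.f73417 IH) (Lpn (LP (LK LD1_c5 LD2_c47 LD3_c22))))))
theorem f565681 : Led Lsl_ef (LP (LK LD1_c6 LD2_c13 LD3_c42)) = (LP (LK LD1_c8 LD2_c1 LD3_c41)) :=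
  Lgr Lrot17 (Lpe (K39.f542493 IH) (Lpe (K36.f97124 IH) (Lpe (K3.f97188 IH) (Lpr_gf (K3.f5051 IH) (Lpe (K0.f4975 IH) (Lpr_gf (K3.f98490 IH) (Lpe (K39.f98106 IH) (Lpr_dt (K41.f98104 IH) (Lpr_gf (K41.f565669 IH) (Lpr_df (K41.f277529 IH) (Lpn (LP (LK LD1_c8 LD2_c1 LD3_c41)))))))))))))
theorem f569655 : Led Lsl_gf (LP (LK LD1_c3 LD2_c57 LD3_c23)) = (LP (LK LD1_c7 LD2_c7 LD3_c57)) :=
  Lgr Lrot138 (Lpr_dt (K38.f197440 IH) (Lpr_gt (K41.f565671 IH) (Lpr_df (K41.f277529 IH) (Lpe (f565681 IH) (Lpe (f427410 IH) (Lpe (f546567 IH) (Lpe (K36.f80721 IH) (Lpr_gt (f38207 IH) (Lpr_df (K28.f202787 IH) (Lpr_et (f569642 IH) (Lpn (LP (LK LD1_c7 LD2_c7 LD3_c57)))))))))))))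
theorem f128204 : Led Lsl_ft (LP (LK LD1_c1 LD2_c45 LD3_c22)) = (LP (LK LD1_c1 LD2_c43 LD3_c32)) :=
  Lgr Lrot4 (Lpe (K3.f17610 IH) (Lpr_ff (K5.f128201 IH) (Lpe (K38.f98467 IH) (Lpn (LP (LK LD1_c1 LD2_c43 LD3_c32))))))
theorem f553336 : Led Lsl_ef (LP (LK LD1_c3 LD2_c57 LD3_c23)) = (LP (LK LD1_c7 LD2_c8 LD3_c10)) :=
  Lgr Lrot21 (Lpr_ft (K39.f403158 IH) (Lpq (K39.f553329 IH) (Lpe (K39.f519725 IH) (Lpr_ft (f128204 IH) (Lpr_et (K8.f10505 IH) (Lpr_ft (K41.f160300 IH) (Lpn (LP (LK LD1_c7 LD2_c8 LD3_c10)))))))))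
theorem f80756 : Led Lsl_et (LP (LK LD1_c6 LD2_c13 LD3_c44)) = (LP (LK LD1_c3 LD2_c3 LD3_c42)) :=
  Lre_e IH (LK LD1_c6 LD2_c13 LD3_c44) (LK LD1_c3 LD2_c3 LD3_c42) Lrfl Lrfl
theorem f551700 : Led Lsl_bt (LP (LK LD1_c6 LD2_c14 LD3_c2)) = (LP (LK LD1_c4 LD2_c22 LD3_c57)) :=
  Lgr Lrot127 (Lpr_bf (K39.f551695 IH) (Lpn (LP (LK LD1_c4 LD2_c22 LD3_c57))))
theorem f59271 : Led Lsl_bt (LP (LK LD1_c5 LD2_c46 LD3_c41)) = (LP (LK LD1_c11 LD2_c23 LD3_c32)) :=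
  Lre_b IH (LK LD1_c5 LD2_c46 LD3_c41) (LK LD1_c11 LD2_c23 LD3_c32) Lrfl Lrfl
theorem f566187 : Led Lsl_gt (LP (LK LD1_c11 LD2_c23 LD3_c32)) = (LP (LK LD1_c12 LD2_c6 LD3_c11)) :=
  Lgr Lrot82 (Lpe (f59271 IH) (Lpr_ct (K13.f59272 IH) (Lpe (K13.f197474 IH) (Lpe (K2.f37245 IH) (Lpr_bt (f551700 IH) (Lpe (K13.f239097 IH) (Lpe (K16.f237613 IH) (Lpr_ct (K16.f237690 IH) (Lpr_gf (K38.f550035 IH) (Lpr_cf (K41.f566175 IH) (Lpn (LP (LK LD1_c12 LD2_c6 LD3_c11)))))))))))))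
theorem f569661 : Led Lsl_dt (LP (LK LD1_c7 LD2_c8 LD3_c10)) = (LP (LK LD1_c11 LD2_c23 LD3_c32)) :=
  Lgr Lrot136 (Lpe (f553336 IH) (Lpr_gf (f569655 IH) (Lpe (f569642 IH) (Lpe (K28.f202787 IH) (Lpe (f38207 IH) (Lpr_df (K36.f80721 IH) (Lpe (K36.f80751 IH) (Lpe (f80756 IH) (Lpr_dt (K41.f80757 IH) (Lpe (f566187 IH) (Lpn (LP (LK LD1_c11 LD2_c23 LD3_c32)))))))))))))
theorem f92531 : Led Lsl_et (LP (LK LD1_c3 LD2_c36 LD3_c59)) = (LP (LK LD1_c1 LD2_c45 LD3_c19)) :=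
  Lre_e IH (LK LD1_c3 LD2_c36 LD3_c59) (LK LD1_c1 LD2_c45 LD3_c19) Lrfl Lrfl
theorem f128240 : Led Lsl_af (LP (LK LD1_c3 LD2_c36 LD3_c59)) = (LP (LK LD1_c3 LD2_c33 LD3_c39)) :=
  Lgr Lrot50 (Lpr_et (f92531 IH) (Lpr_at (K5.f128233 IH) (Lpr_et (K8.f10505 IH) (Lpn (LP (LK LD1_c3 LD2_c33 LD3_c39))))))
theorem f10686 : Led Lsl_gt (LP (LK LD1_c7 LD2_c14 LD3_c13)) = (LP (LK LD1_c3 LD2_c36 LD3_c59)) :=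
  Lre_g IH (LK LD1_c7 LD2_c14 LD3_c13) (LK LD1_c3 LD2_c36 LD3_c59) Lrfl Lrfl
theorem f128265 : Led Lsl_ft (LP (LK LD1_c7 LD2_c8 LD3_c10)) = (LP (LK LD1_c3 LD2_c33 LD3_c39)) :=
  Lre_f IH (LK LD1_c7 LD2_c8 LD3_c10) (LK LD1_c3 LD2_c33 LD3_c39) Lrfl Lrfl
theorem f440149 : Led Lsl_gf (LP (LK LD1_c7 LD2_c14 LD3_c13)) = (LP (LK LD1_c7 LD2_c8 LD3_c10)) :=
  Lgr Lrot47 (Lpr_gt (f10686 IH) (Lpr_af (f128240 IH) (Lpe (f128265 IH) (Lpn (LP (LK LD1_c7 LD2_c8 LD3_c10))))))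
theorem f403143 : Led Lsl_cf (LP (LK LD1_c2 LD2_c8 LD3_c58)) = (LP (LK LD1_c2 LD2_c9 LD3_c3)) :=
  Lgr Lrot116 (Lpr_dt (K39.f403071 IH) (Lpr_ct (K16.f237690 IH) (Lpr_dt (K38.f403066 IH) (Lpr_ct (K38.f263756 IH) (Lpe (K38.f403101 IH) (Lpr_ff (K38.f403137 IH) (Lpr_dt (K31.f237283 IH) (Lpr_ct (K31.f237282 IH) (Lpr_dt (K38.f388759 IH) (Lpn (LP (LK LD1_c2 LD2_c9 LD3_c3))))))))))))
theorem f569675 : Led Lsl_ct (LP (LK LD1_c7 LD2_c14 LD3_c13)) = (LP (LK LD1_c4 LD2_c23 LD3_c13)) :=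
  Lgr Lrot186 (Lpr_gf (f440149 IH) (Lpr_dt (f569661 IH) (Lpr_gt (f566187 IH) (Lpe (K41.f566175 IH) (Lpe (K38.f550035 IH) (Lpr_ct (K16.f237614 IH) (Lpr_dt (K39.f388750 IH) (Lpr_cf (f403143 IH) (Lpe (K41.f29634 IH) (Lpn (LP (LK LD1_c4 LD2_c23 LD3_c13))))))))))))
theorem f410997 : Led Lsl_dt (LP (LK LD1_c11 LD2_c13 LD3_c12)) = (LP (LK LD1_c5 LD2_c41 LD3_c31)) :=
  Lre_d IH (LK LD1_c11 LD2_c13 LD3_c12) (LK LD1_c5 LD2_c41 LD3_c31) Lrfl Lrfl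
theorem f331763 : Led Lsl_ft (LP (LK LD1_c10 LD2_c31 LD3_c47)) = (LP (LK LD1_c5 LD2_c24 LD3_c13)) :=
  Lgr Lrot101 (Lpe (K38.f331658 IH) (Lpr_ff (K22.f331751 IH) (Lpe (K22.f331762 IH) (Lpn (LP (LK LD1_c5 LD2_c24 LD3_c13))))))
theorem f549959 : Led Lsl_gt (LP (LK LD1_c10 LD2_c31 LD3_c47)) = (LP (LK LD1_c10 LD2_c36 LD3_c23)) :=
  Lgr Lrot5 (Lpr_ft (f331763 IH) (Lpr_at (K22.f331762 IH) (Lpr_gf (K38.f549957 IH) (Lpn (LP (LK LD1_c10 LD2_c36 LD3_c23))))))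
theorem f312967 : Led Lsl_dt (LP (LK LD1_c10 LD2_c36 LD3_c23)) = (LP (LK LD1_c5 LD2_c22 LD3_c61)) :=
  Lre_d IH (LK LD1_c10 LD2_c36 LD3_c23) (LK LD1_c5 LD2_c22 LD3_c61) Lrfl Lrfl
theorem f312941 : Led Lsl_dt (LP (LK LD1_c10 LD2_c36 LD3_c29)) = (LP (LK LD1_c5 LD2_c23 LD3_c1)) :=
  Lre_d IH (LK LD1_c10 LD2_c36 LD3_c29) (LK LD1_c5 LD2_c23 LD3_c1) Lrfl Lrfl
theorem f312712 : Led Lsl_ct (LP (LK LD1_c10 LD2_c35 LD3_c5)) = (LP (LK LD1_c5 LD2_c23 LD3_c1)) :=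
  Lre_c IH (LK LD1_c10 LD2_c35 LD3_c5) (LK LD1_c5 LD2_c23 LD3_c1) Lrfl Lrfl
theorem f312908 : Led Lsl_ft (LP (LK LD1_c5 LD2_c23 LD3_c1)) = (LP (LK LD1_c10 LD2_c31 LD3_c16)) :=
  Lgr Lrot4 (Lpe (f312712 IH) (Lpr_ff (K38.f312905 IH) (Lpr_cf (K38.f169241 IH) (Lpn (LP (LK LD1_c10 LD2_c31 LD3_c16))))))
theorem f400073 : Led Lsl_dt (LP (LK LD1_c10 LD2_c31 LD3_c16)) = (LP (LK LD1_c16 LD2_c21 LD3_c25)) :=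
  Lgr Lrot60 (Lpe (f312908 IH) (Lpe (f312941 IH) (Lpr_ff (K41.f400066 IH) (Lpn (LP (LK LD1_c16 LD2_c21 LD3_c25))))))
theorem f550009 : Led Lsl_gt (LP (LK LD1_c5 LD2_c41 LD3_c31)) = (LP (LK LD1_c4 LD2_c23 LD3_c13)) :=
  Lgr Lrot189 (Lpe (f410997 IH) (Lpe (K39.f411497 IH) (Lpr_ct (K38.f550001 IH) (Lpr_gt (f549959 IH) (Lpr_dt (f312967 IH) (Lpr_gt (K38.f312963 IH) (Lpr_dt (f400073 IH) (Lpr_ct (K41.f400046 IH) (Lpe (K41.f400048 IH) (Lpn (LP (LK LD1_c4 LD2_c23 LD3_c13))))))))))))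
theorem f552769 : Led Lsl_ct (LP (LK LD1_c7 LD2_c7 LD3_c41)) = (LP (LK LD1_c5 LD2_c41 LD3_c31)) :=
  Lgr Lrot83 (Lpr_bf (K39.f552764 IH) (Lpr_cf (K16.f181762 IH) (Lpe (K16.f280535 IH) (Lpe (K16.f269058 IH) (Lpe (K41.f181565 IH) (Lpn (LP (LK LD1_c5 LD2_c41 LD3_c31))))))))
theorem f556340 : Led Lsl_bf (LP (LK LD1_c3 LD2_c33 LD3_c32)) = (LP (LK LD1_c4 LD2_c32 LD3_c28)) :=
  Lgr Lrot96 (Lpr_et (K39.f98106 IH) (Lpr_bt (K39.f98086 IH) (Lpr_et (K39.f556336 IH) (Lpn (LP (LK LD1_c4 LD2_c32 LD3_c28))))))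
theorem f569686 : Led Lsl_bt (LP (LK LD1_c7 LD2_c14 LD3_c13)) = (LP (LK LD1_c7 LD2_c7 LD3_c58)) :=
  Lgr Lrot22 (Lpr_ct (f569675 IH) (Lpe (f550009 IH) (Lpe (f552769 IH) (Lpr_gf (K39.f552775 IH) (Lpe (K31.f237325 IH) (Lpr_ct (K31.f181577 IH) (Lpr_gf (K31.f280545 IH) (Lpe (K16.f268852 IH) (Lpe (f556340 IH) (Lpe (K41.f10799 IH) (Lpn (LP (LK LD1_c7 LD2_c7 LD3_c58)))))))))))))
theorem f403146 : Led Lsl_bt (LP (LK LD1_c2 LD2_c13 LD3_c26)) = (LP (LK LD1_c4 LD2_c32 LD3_c55)) :=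
  Lre_b IH (LK LD1_c2 LD2_c13 LD3_c26) (LK LD1_c4 LD2_c32 LD3_c55) Lrfl Lrfl
theorem f552760 : Led Lsl_bt (LP (LK LD1_c7 LD2_c7 LD3_c41)) = (LP (LK LD1_c4 LD2_c22 LD3_c53)) :=
  Lgr Lrot119 (Lpr_ef (K39.f552758 IH) (Lpe (f403146 IH) (Lpe (K38.f549582 IH) (Lpn (LP (LK LD1_c4 LD2_c22 LD3_c53))))))
theorem f172470 : Led Lsl_bt (LP (LK LD1_c5 LD2_c42 LD3_c38)) = (LP (LK LD1_c2 LD2_c47 LD3_c19)) :=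
  Lre_b IH (LK LD1_c5 LD2_c42 LD3_c38) (LK LD1_c2 LD2_c47 LD3_c19) Lrfl Lrfl
theorem f96474 : Led Lsl_gt (LP (LK LD1_c3 LD2_c33 LD3_c23)) = (LP (LK LD1_c7 LD2_c7 LD3_c38)) :=
  Lre_g IH (LK LD1_c3 LD2_c33 LD3_c23) (LK LD1_c7 LD2_c7 LD3_c38) Lrfl Lrfl
theorem f569694 : Led Lsl_ct (LP (LK LD1_c5 LD2_c42 LD3_c38)) = (LP (LK LD1_c7 LD2_c7 LD3_c38)) :=
  Lgr Lrot63 (Lpr_bt (f172470 IH) (Lpr_gt (K31.f281973 IH) (Lpe (f552760 IH) (Lpr_ct (f552769 IH) (Lpr_gt (f550009 IH) (Lpe (f569675 IH) (Lpr_bt (f569686 IH) (Lpr_gt (K41.f10799 IH) (Lpr_ct (K39.f98089 IH) (Lpr_gt (f96474 IH) (Lpn (LP (LK LD1_c7 LD2_c7 LD3_c38)))))))))))))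
theorem f197421 : Led Lsl_ct (LP (LK LD1_c3 LD2_c57 LD3_c23)) = (LP (LK LD1_c3 LD2_c57 LD3_c20)) :=
  Lgr Lrot83 (Lpe (K41.f197420 IH) (Lpr_cf (K12.f197418 IH) (Lpe (K13.f197416 IH) (Lpe (K12.f39273 IH) (Lpe (K41.f196306 IH) (Lpn (LP (LK LD1_c3 LD2_c57 LD3_c20))))))))
theorem f569700 : Led Lsl_gf (LP (LK LD1_c3 LD2_c57 LD3_c20)) = (LP (LK LD1_c7 LD2_c7 LD3_c38)) :=
  Lgr Lrot126 (Lpe (f197421 IH) (Lpr_bt (K38.f101334 IH) (Lpr_gt (K11.f101331 IH) (Lpr_ct (K1.f39247 IH) (Lpe (K9.f174946 IH) (Lpe (K35.f172740 IH) (Lpr_bt (K39.f172416 IH) (Lpr_gt (K31.f172463 IH) (Lpe (f172470 IH) (Lpr_ct (f569694 IH) (Lpn (LP (LK LD1_c7 LD2_c7 LD3_c38)))))))))))))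
theorem f197790 : Led Lsl_dt (LP (LK LD1_c3 LD2_c57 LD3_c20)) = (LP (LK LD1_c7 LD2_c56 LD3_c18)) :=
  Lre_d IH (LK LD1_c3 LD2_c57 LD3_c20) (LK LD1_c7 LD2_c56 LD3_c18) Lrfl Lrfl
theorem f544086 : Led Lsl_et (LP (LK LD1_c4 LD2_c22 LD3_c46)) = (LP (LK LD1_c7 LD2_c12 LD3_c10)) :=
  Lgr Lrot74 (Lpr_bf (K39.f211163 IH) (Lpr_ef (f541355 IH) (Lpr_bf (K37.f544084 IH) (Lpn (LP (LK LD1_c7 LD2_c12 LD3_c10))))))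
theorem f569706 : Led Lsl_et (LP (LK LD1_c3 LD2_c57 LD3_c42)) = (LP (LK LD1_c7 LD2_c7 LD3_c38)) :=
  Lgr Lrot121 (Lpr_dt (K28.f150101 IH) (Lpr_gf (K28.f202905 IH) (Lpe (K11.f80704 IH) (Lpr_et (K36.f80706 IH) (Lpr_gf (K37.f544074 IH) (Lpe (f544086 IH) (Lpr_dt (K39.f181984 IH) (Lpr_gf (K39.f551536 IH) (Lpe (f197790 IH) (Lpr_gf (f569700 IH) (Lpn (LP (LK LD1_c7 LD2_c7 LD3_c38)))))))))))))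
theorem f569710 : Led Lsl_ef (LP (LK LD1_c3 LD2_c57 LD3_c42)) = (LP (LK LD1_c7 LD2_c7 LD3_c38)) :=
  Lgr Lrot88 (Lpr_et (f569706 IH) (Lpn (LP (LK LD1_c7 LD2_c7 LD3_c38))))
theorem f569714 : Led Lsl_et (LP (LK LD1_c2 LD2_c54 LD3_c20)) = (LP (LK LD1_c5 LD2_c42 LD3_c38)) :=
  Lgr Lrot158 (Lpe (K6.f81829 IH) (Lpr_ef (f569710 IH) (Lpe (f569694 IH) (Lpn (LP (LK LD1_c5 LD2_c42 LD3_c38))))))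
theorem f160296 : Led Lsl_cf (LP (LK LD1_c3 LD2_c33 LD3_c39)) = (LP (LK LD1_c3 LD2_c33 LD3_c8)) :=
  Lgr Lrot1 (Lpe (f128240 IH) (Lpr_ct (K8.f93085 IH) (Lpr_at (K8.f160292 IH) (Lpn (LP (LK LD1_c3 LD2_c33 LD3_c8))))))
theorem f128206 : Led Lsl_ft (LP (LK LD1_c7 LD2_c7 LD3_c11)) = (LP (LK LD1_c3 LD2_c33 LD3_c8)) :=
  Lre_f IH (LK LD1_c7 LD2_c7 LD3_c11) (LK LD1_c3 LD2_c33 LD3_c8) Lrfl Lrfl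
theorem f160301 : Led Lsl_ct (LP (LK LD1_c7 LD2_c8 LD3_c10)) = (LP (LK LD1_c7 LD2_c7 LD3_c11)) :=
  Lgr Lrot40 (Lpe (K41.f160300 IH) (Lpr_cf (f160296 IH) (Lpe (f128206 IH) (Lpn (LP (LK LD1_c7 LD2_c7 LD3_c11))))))
theorem f160308 : Led Lsl_cf (LP (LK LD1_c7 LD2_c8 LD3_c10)) = (LP (LK LD1_c7 LD2_c7 LD3_c11)) :=
  Lgr Lrot11 (Lpr_ct (f160301 IH) (Lpn (LP (LK LD1_c7 LD2_c7 LD3_c11))))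
theorem f400081 : Led Lsl_df (LP (LK LD1_c10 LD2_c31 LD3_c16)) = (LP (LK LD1_c16 LD2_c21 LD3_c25)) :=
  Lgr Lrot78 (Lpe (K38.f312919 IH) (Lpr_dt (K41.f312930 IH) (Lpr_ft (K41.f400075 IH) (Lpn (LP (LK LD1_c16 LD2_c21 LD3_c25))))))
theorem f173130 : Led Lsl_gt (LP (LK LD1_c2 LD2_c38 LD3_c38)) = (LP (LK LD1_c5 LD2_c24 LD3_c10)) :=
  Lre_g IH (LK LD1_c2 LD2_c38 LD3_c38) (LK LD1_c5 LD2_c24 LD3_c10) Lrfl Lrfl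
theorem f400113 : Led Lsl_df (LP (LK LD1_c10 LD2_c36 LD3_c31)) = (LP (LK LD1_c5 LD2_c24 LD3_c10)) :=
  Lgr Lrot153 (Lpr_gt (K41.f400111 IH) (Lpe (f400081 IH) (Lpe (K38.f169225 IH) (Lpr_df (K39.f397390 IH) (Lpe (K39.f297372 IH) (Lpe (K18.f297374 IH) (Lpe (K18.f217469 IH) (Lpe (K39.f218691 IH) (Lpr_gt (f173130 IH) (Lpn (LP (LK LD1_c5 LD2_c24 LD3_c10))))))))))))
theorem f173131 : Led Lsl_ct (LP (LK LD1_c10 LD2_c39 LD3_c5)) = (LP (LK LD1_c5 LD2_c24 LD3_c10)) :=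
  Lre_c IH (LK LD1_c10 LD2_c39 LD3_c5) (LK LD1_c5 LD2_c24 LD3_c10) Lrfl Lrfl
theorem f411711 : Led Lsl_ct (LP (LK LD1_c20 LD2_c10 LD3_c35)) = (LP (LK LD1_c11 LD2_c15 LD3_c28)) :=
  Lre_c IH (LK LD1_c20 LD2_c10 LD3_c35) (LK LD1_c11 LD2_c15 LD3_c28) Lrfl Lrfl
theorem f556843 : Led Lsl_gf (LP (LK LD1_c12 LD2_c8 LD3_c44)) = (LP (LK LD1_c11 LD2_c15 LD3_c28)) :=
  Lgr Lrot104 (Lpr_ct (K41.f556837 IH) (Lpr_df (f400113 IH) (Lpe (f173131 IH) (Lpe (K41.f404350 IH) (Lpe (K22.f332236 IH) (Lpr_gf (K22.f331831 IH) (Lpr_df (K22.f331792 IH) (Lpe (K31.f411725 IH) (Lpr_ct (f411711 IH) (Lpn (LP (LK LD1_c11 LD2_c15 LD3_c28))))))))))))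
theorem f411729 : Led Lsl_dt (LP (LK LD1_c5 LD2_c42 LD3_c38)) = (LP (LK LD1_c11 LD2_c15 LD3_c28)) :=
  Lre_d IH (LK LD1_c5 LD2_c42 LD3_c38) (LK LD1_c11 LD2_c15 LD3_c28) Lrfl Lrfl
theorem f569684 : Led Lsl_gf (LP (LK LD1_c7 LD2_c7 LD3_c11)) = (LP (LK LD1_c5 LD2_c42 LD3_c38)) :=
  Lgr Lrot147 (Lpe (f160308 IH) (Lpe (f440149 IH) (Lpr_ct (f569675 IH) (Lpe (K41.f400040 IH) (Lpe (K41.f400046 IH) (Lpe (K41.f400111 IH) (Lpe (K41.f556837 IH) (Lpr_gf (f556843 IH) (Lpe (f411729 IH) (Lpn (LP (LK LD1_c5 LD2_c42 LD3_c38))))))))))))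
theorem f569719 : Led Lsl_et (LP (LK LD1_c3 LD2_c57 LD3_c20)) = (LP (LK LD1_c7 LD2_c7 LD3_c11)) :=
  Lgr Lrot122 (Lpr_dt (f197790 IH) (Lpe (K39.f551536 IH) (Lpe (K39.f181984 IH) (Lpr_et (f544086 IH) (Lpe (K37.f544074 IH) (Lpr_dt (K36.f202813 IH) (Lpe (K36.f540777 IH) (Lpe (K28.f82053 IH) (Lpr_et (f569714 IH) (Lpe (f569684 IH) (Lpn (LP (LK LD1_c7 LD2_c7 LD3_c11)))))))))))))
theorem f569725 : Led Lsl_ef (LP (LK LD1_c3 LD2_c57 LD3_c20)) = (LP (LK LD1_c7 LD2_c7 LD3_c11)) :=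
  Lgr Lrot88 (Lpr_et (f569719 IH) (Lpn (LP (LK LD1_c7 LD2_c7 LD3_c11))))
theorem f569727 : Led Lsl_bt (LP (LK LD1_c3 LD2_c57 LD3_c22)) = (LP (LK LD1_c7 LD2_c7 LD3_c11)) :=
  Lgr Lrot119 (Lpe (K13.f225155 IH) (Lpe (K41.f196306 IH) (Lpr_ef (f569725 IH) (Lpn (LP (LK LD1_c7 LD2_c7 LD3_c11))))))
theorem f175004 : Led Lsl_ct (LP (LK LD1_c3 LD2_c57 LD3_c22)) = (LP (LK LD1_c1 LD2_c55 LD3_c28)) :=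
  Lre_c IH (LK LD1_c3 LD2_c57 LD3_c22) (LK LD1_c1 LD2_c55 LD3_c28) Lrfl Lrfl
theorem f552087 : Led Lsl_ct (LP (LK LD1_c5 LD2_c41 LD3_c38)) = (LP (LK LD1_c3 LD2_c5 LD3_c37)) :=
  Lgr Lrot152 (Lpr_gf (K39.f552076 IH) (Lpe (K38.f270163 IH) (Lpe (K13.f60778 IH) (Lpr_ct (K1.f60622 IH) (Lpr_gt (K13.f60765 IH) (Lpe (K13.f241304 IH) (Lpr_df (K13.f241344 IH) (Lpe (K13.f175009 IH) (Lpr_gf (K13.f240783 IH) (Lpn (LP (LK LD1_c3 LD2_c5 LD3_c37))))))))))))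
theorem f181560 : Led Lsl_bt (LP (LK LD1_c5 LD2_c41 LD3_c38)) = (LP (LK LD1_c2 LD2_c46 LD3_c52)) :=
  Lre_b IH (LK LD1_c5 LD2_c41 LD3_c38) (LK LD1_c2 LD2_c46 LD3_c52) Lrfl Lrfl
theorem f98111 : Led Lsl_bt (LP (LK LD1_c3 LD2_c33 LD3_c30)) = (LP (LK LD1_c1 LD2_c43 LD3_c29)) :=
  Lre_b IH (LK LD1_c3 LD2_c33 LD3_c30) (LK LD1_c1 LD2_c43 LD3_c29) Lrfl Lrfl
theorem f556330 : Led Lsl_bt (LP (LK LD1_c3 LD2_c33 LD3_c32)) = (LP (LK LD1_c4 LD2_c32 LD3_c28)) :=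
  Lgr Lrot119 (Lpe (K39.f10798 IH) (Lpe (f98111 IH) (Lpr_ef (K39.f556328 IH) (Lpn (LP (LK LD1_c4 LD2_c32 LD3_c28))))))
theorem f93101 : Led Lsl_gt (LP (LK LD1_c7 LD2_c13 LD3_c49)) = (LP (LK LD1_c3 LD2_c36 LD3_c48)) :=
  Lre_g IH (LK LD1_c7 LD2_c13 LD3_c49) (LK LD1_c3 LD2_c36 LD3_c48) Lrfl Lrfl
theorem f160314 : Led Lsl_gf (LP (LK LD1_c7 LD2_c13 LD3_c49)) = (LP (LK LD1_c7 LD2_c7 LD3_c11)) :=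
  Lgr Lrot47 (Lpr_gt (f93101 IH) (Lpr_af (K8.f160294 IH) (Lpe (f128206 IH) (Lpn (LP (LK LD1_c7 LD2_c7 LD3_c11))))))
theorem f569735 : Led Lsl_cf (LP (LK LD1_c7 LD2_c7 LD3_c39)) = (LP (LK LD1_c7 LD2_c13 LD3_c49)) :=
  Lgr Lrot125 (Lpr_gt (K39.f97381 IH) (Lpe (K39.f98089 IH) (Lpr_bt (f556330 IH) (Lpe (K31.f281794 IH) (Lpe (f181560 IH) (Lpr_ct (f552087 IH) (Lpe (K13.f240783 IH) (Lpe (f175004 IH) (Lpr_bt (f569727 IH) (Lpe (f160314 IH) (Lpn (LP (LK LD1_c7 LD2_c13 LD3_c49)))))))))))))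
theorem f569741 : Led Lsl_bf (LP (LK LD1_c7 LD2_c59 LD3_c12)) = (LP (LK LD1_c7 LD2_c13 LD3_c49)) :=
  Lgr Lrot34 (Lpe (K30.f174536 IH) (Lpe (K39.f174569 IH) (Lpr_ct (K39.f542197 IH) (Lpr_gf (K39.f549907 IH) (Lpe (K36.f536078 IH) (Lpr_gf (K31.f281794 IH) (Lpe (f556330 IH) (Lpr_ct (K39.f98089 IH) (Lpe (K39.f97381 IH) (Lpr_cf (f569735 IH) (Lpn (LP (LK LD1_c7 LD2_c13 LD3_c49)))))))))))))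
theorem f569743 : Led Lsl_gf (LP (LK LD1_c7 LD2_c7 LD3_c39)) = (LP (LK LD1_c3 LD2_c57 LD3_c20)) :=
  Lgr Lrot126 (Lpr_cf (f569735 IH) (Lpe (f569741 IH) (Lpr_gt (K31.f174550 IH) (Lpr_ct (K39.f174553 IH) (Lpr_gt (K36.f149994 IH) (Lpe (K39.f172303 IH) (Lpr_bt (K39.f181349 IH) (Lpr_gt (K11.f59266 IH) (Lpe (K38.f101334 IH) (Lpr_ct (f197421 IH) (Lpn (LP (LK LD1_c3 LD2_c57 LD3_c20)))))))))))))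
theorem f98110 : Led Lsl_dt (LP (LK LD1_c7 LD2_c7 LD3_c39)) = (LP (LK LD1_c13 LD2_c30 LD3_c7)) :=
  Lre_d IH (LK LD1_c7 LD2_c7 LD3_c39) (LK LD1_c13 LD2_c30 LD3_c7) Lrfl Lrfl
theorem f553352 : Led Lsl_gf (LP (LK LD1_c8 LD2_c43 LD3_c26)) = (LP (LK LD1_c13 LD2_c30 LD3_c7)) :=
  Lgr Lrot76 (Lpe (K18.f297142 IH) (Lpr_ff (K18.f297321 IH) (Lpr_gt (K39.f553350 IH) (Lpn (LP (LK LD1_c13 LD2_c30 LD3_c7))))))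
theorem f237455 : Led Lsl_bt (LP (LK LD1_c4 LD2_c22 LD3_c29)) = (LP (LK LD1_c8 LD2_c42 LD3_c52)) :=
  Lre_b IH (LK LD1_c4 LD2_c22 LD3_c29) (LK LD1_c8 LD2_c42 LD3_c52) Lrfl Lrfl
theorem f569509 : Led Lsl_ef (LP (LK LD1_c8 LD2_c3 LD3_c38)) = (LP (LK LD1_c8 LD2_c42 LD3_c52)) :=
  Lgr Lrot29 (Lpr_bt (f569503 IH) (Lpr_et (K38.f407098 IH) (Lpr_bt (f237455 IH) (Lpn (LP (LK LD1_c8 LD2_c42 LD3_c52))))))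
theorem f241342 : Led Lsl_dt (LP (LK LD1_c6 LD2_c14 LD3_c0)) = (LP (LK LD1_c3 LD2_c57 LD3_c22)) :=
  Lgr Lrot105 (Lpr_gf (K13.f241339 IH) (Lpe (K2.f69813 IH) (Lpe (K10.f197819 IH) (Lpe (K10.f175831 IH) (Lpr_gt (K13.f175836 IH) (Lpe (K1.f60624 IH) (Lpr_gt (K13.f60635 IH) (Lpe (K13.f175006 IH) (Lpe (f175004 IH) (Lpn (LP (LK LD1_c3 LD2_c57 LD3_c22))))))))))))
theorem f37175 : Led Lsl_bt (LP (LK LD1_c12 LD2_c6 LD3_c37)) = (LP (LK LD1_c6 LD2_c14 LD3_c0)) :=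
  Lre_b IH (LK LD1_c12 LD2_c6 LD3_c37) (LK LD1_c6 LD2_c14 LD3_c0) Lrfl Lrfl
theorem f569729 : Led Lsl_df (LP (LK LD1_c12 LD2_c6 LD3_c37)) = (LP (LK LD1_c7 LD2_c7 LD3_c11)) :=
  Lgr Lrot12 (Lpr_bt (f37175 IH) (Lpr_dt (f241342 IH) (Lpr_bt (f569727 IH) (Lpn (LP (LK LD1_c7 LD2_c7 LD3_c11))))))
theorem f552665 : Led Lsl_ct (LP (LK LD1_c11 LD2_c23 LD3_c11)) = (LP (LK LD1_c20 LD2_c10 LD3_c51)) :=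
  Lgr Lrot59 (Lpr_cf (K41.f552659 IH) (Lpn (LP (LK LD1_c20 LD2_c10 LD3_c51))))
theorem f60608 : Led Lsl_bt (LP (LK LD1_c2 LD2_c49 LD3_c1)) = (LP (LK LD1_c5 LD2_c46 LD3_c30)) :=
  Lre_b IH (LK LD1_c2 LD2_c49 LD3_c1) (LK LD1_c5 LD2_c46 LD3_c30) Lrfl Lrfl
theorem f241308 : Led Lsl_bt (LP (LK LD1_c6 LD2_c14 LD3_c0)) = (LP (LK LD1_c12 LD2_c6 LD3_c37)) :=
  Lre_b IH (LK LD1_c6 LD2_c14 LD3_c0) (LK LD1_c12 LD2_c6 LD3_c37) Lrfl Lrfl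
theorem f172766 : Led Lsl_ct (LP (LK LD1_c5 LD2_c42 LD3_c42)) = (LP (LK LD1_c11 LD2_c15 LD3_c35)) :=
  Lre_c IH (LK LD1_c5 LD2_c42 LD3_c42) (LK LD1_c11 LD2_c15 LD3_c35) Lrfl Lrfl
theorem f549591 : Led Lsl_bt (LP (LK LD1_c5 LD2_c42 LD3_c42)) = (LP (LK LD1_c11 LD2_c15 LD3_c34)) :=
  Lre_b IH (LK LD1_c5 LD2_c42 LD3_c42) (LK LD1_c11 LD2_c15 LD3_c34) Lrfl Lrfl
theorem f552669 : Led Lsl_gf (LP (LK LD1_c12 LD2_c6 LD3_c37)) = (LP (LK LD1_c11 LD2_c15 LD3_c34)) :=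
  Lgr Lrot124 (Lpe (f241308 IH) (Lpr_ct (K13.f241309 IH) (Lpr_gt (K13.f60629 IH) (Lpe (K1.f59285 IH) (Lpr_bt (f60608 IH) (Lpr_gt (K39.f60609 IH) (Lpr_ct (f552665 IH) (Lpr_gt (K41.f418020 IH) (Lpe (f172766 IH) (Lpr_bt (f549591 IH) (Lpn (LP (LK LD1_c11 LD2_c15 LD3_c34)))))))))))))
theorem f569751 : Led Lsl_dt (LP (LK LD1_c8 LD2_c42 LD3_c52)) = (LP (LK LD1_c11 LD2_c15 LD3_c34)) :=
  Lgr Lrot136 (Lpe (f569509 IH) (Lpe (f386146 IH) (Lpr_ef (K18.f225115 IH) (Lpr_dt (K22.f225127 IH) (Lpr_gf (f553352 IH) (Lpe (f98110 IH) (Lpr_gf (f569743 IH) (Lpr_ef (f569725 IH) (Lpe (f569729 IH) (Lpr_gf (f552669 IH) (Lpn (LP (LK LD1_c11 LD2_c15 LD3_c34)))))))))))))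
theorem f551842 : Led Lsl_ct (LP (LK LD1_c5 LD2_c46 LD3_c29)) = (LP (LK LD1_c9 LD2_c1 LD3_c18)) :=
  Lgr Lrot83 (Lpr_bf (K39.f551837 IH) (Lpr_cf (K38.f210370 IH) (Lpe (K38.f210372 IH) (Lpe (K35.f210373 IH) (Lpr_bf (K39.f418928 IH) (Lpn (LP (LK LD1_c9 LD2_c1 LD3_c18))))))))
theorem f551840 : Led Lsl_bt (LP (LK LD1_c5 LD2_c46 LD3_c29)) = (LP (LK LD1_c8 LD2_c42 LD3_c48)) :=
  Lgr Lrot127 (Lpr_bf (K39.f551837 IH) (Lpn (LP (LK LD1_c8 LD2_c42 LD3_c48))))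
theorem f101378 : Led Lsl_bt (LP (LK LD1_c6 LD2_c15 LD3_c14)) = (LP (LK LD1_c3 LD2_c4 LD3_c39)) :=
  Lre_b IH (LK LD1_c6 LD2_c15 LD3_c14) (LK LD1_c3 LD2_c4 LD3_c39) Lrfl Lrfl
theorem f241555 : Led Lsl_at (LP (LK LD1_c12 LD2_c8 LD3_c43)) = (LP (LK LD1_c6 LD2_c15 LD3_c14)) :=
  Lre_a IH (LK LD1_c12 LD2_c8 LD3_c43) (LK LD1_c6 LD2_c15 LD3_c14) Lrfl Lrfl
theorem f547338 : Led Lsl_bt (LP (LK LD1_c8 LD2_c45 LD3_c38)) = (LP (LK LD1_c12 LD2_c8 LD3_c43)) :=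
  Lgr Lrot62 (Lpr_af (K38.f547334 IH) (Lpe (K38.f547318 IH) (Lpe (K13.f241551 IH) (Lpe (f101378 IH) (Lpe (f241555 IH) (Lpn (LP (LK LD1_c12 LD2_c8 LD3_c43))))))))
theorem f566642 : Led Lsl_gt (LP (LK LD1_c12 LD2_c8 LD3_c43)) = (LP (LK LD1_c8 LD2_c42 LD3_c52)) :=
  Lgr Lrot164 (Lpe (f547338 IH) (Lpr_ct (K39.f547439 IH) (Lpe (K38.f174632 IH) (Lpe (K32.f210364 IH) (Lpe (K38.f210369 IH) (Lpe (f551840 IH) (Lpr_ct (f551842 IH) (Lpe (K41.f566640 IH) (Lpr_cf (K41.f566624 IH) (Lpr_bt (f237455 IH) (Lpn (LP (LK LD1_c8 LD2_c42 LD3_c52)))))))))))))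
theorem f569755 : Led Lsl_cf (LP (LK LD1_c19 LD2_c21 LD3_c16)) = (LP (LK LD1_c11 LD2_c15 LD3_c34)) :=
  Lgr Lrot89 (Lpe (K41.f393897 IH) (Lpr_gt (K41.f393884 IH) (Lpe (K41.f332134 IH) (Lpr_ct (K30.f244074 IH) (Lpr_bt (K30.f244053 IH) (Lpr_gt (K30.f199461 IH) (Lpe (K22.f332676 IH) (Lpr_ct (K20.f196405 IH) (Lpr_bt (K20.f168796 IH) (Lpr_gt (K9.f167840 IH) (Lpr_dt (K9.f167916 IH) (Lpr_ct (K9.f173419 IH) (Lpr_bt (K9.f174734 IH) (Lpr_gt (K9.f174733 IH) (Lpe (K38.f546382 IH) (Lpe (K38.f547434 IH) (Lpr_bt (f547338 IH) (Lpr_gt (f566642 IH) (Lpr_dt (f569751 IH) (Lpn (LP (LK LD1_c11 LD2_c15 LD3_c34))))))))))))))))))))))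
theorem f172765 : Led Lsl_bt (LP (LK LD1_c11 LD2_c15 LD3_c34)) = (LP (LK LD1_c5 LD2_c42 LD3_c42)) :=
  Lre_b IH (LK LD1_c11 LD2_c15 LD3_c34) (LK LD1_c5 LD2_c42 LD3_c42) Lrfl Lrfl
theorem f552771 : Led Lsl_bt (LP (LK LD1_c13 LD2_c30 LD3_c9)) = (LP (LK LD1_c8 LD2_c43 LD3_c35)) :=
  Lgr Lrot95 (Lpe (K39.f519649 IH) (Lpr_bf (K39.f552764 IH) (Lpe (K16.f181764 IH) (Lpn (LP (LK LD1_c8 LD2_c43 LD3_c35))))))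
theorem f569764 : Led Lsl_gf (LP (LK LD1_c19 LD2_c21 LD3_c16)) = (LP (LK LD1_c13 LD2_c30 LD3_c40)) :=
  Lgr Lrot129 (Lpr_cf (f569755 IH) (Lpr_bt (f172765 IH) (Lpr_gt (K38.f418018 IH) (Lpe (f552771 IH) (Lpr_ct (K41.f552779 IH) (Lpr_gt (K38.f168709 IH) (Lpr_cf (K41.f566175 IH) (Lpe (K41.f566189 IH) (Lpe (K41.f565669 IH) (Lpr_ct (K41.f98105 IH) (Lpn (LP (LK LD1_c13 LD2_c30 LD3_c40)))))))))))))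
theorem f569760 : Led Lsl_ct (LP (LK LD1_c19 LD2_c21 LD3_c16)) = (LP (LK LD1_c11 LD2_c15 LD3_c34)) :=
  Lgr Lrot59 (Lpr_cf (f569755 IH) (Lpn (LP (LK LD1_c11 LD2_c15 LD3_c34))))
theorem f549592 : Led Lsl_dt (LP (LK LD1_c11 LD2_c15 LD3_c34)) = (LP (LK LD1_c8 LD2_c42 LD3_c52)) :=
  Lgr Lrot79 (Lpe (f549591 IH) (Lpr_df (K38.f549589 IH) (Lpe (K38.f237411 IH) (Lpn (LP (LK LD1_c8 LD2_c42 LD3_c52))))))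
theorem f566173 : Led Lsl_ct (LP (LK LD1_c12 LD2_c6 LD3_c37)) = (LP (LK LD1_c10 LD2_c36 LD3_c23)) :=
  Lgr Lrot186 (Lpr_gf (f552669 IH) (Lpr_dt (f549592 IH) (Lpe (K38.f547729 IH) (Lpr_ct (K13.f197469 IH) (Lpr_gt (K41.f566165 IH) (Lpe (K41.f564963 IH) (Lpr_dt (K41.f564946 IH) (Lpe (K38.f549961 IH) (Lpr_gf (K38.f549957 IH) (Lpn (LP (LK LD1_c10 LD2_c36 LD3_c23))))))))))))
theorem f278296 : Led Lsl_ct (LP (LK LD1_c10 LD2_c36 LD3_c22)) = (LP (LK LD1_c5 LD2_c22 LD3_c61)) :=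
  Lre_c IH (LK LD1_c10 LD2_c36 LD3_c22) (LK LD1_c5 LD2_c22 LD3_c61) Lrfl Lrfl
theorem f312968 : Led Lsl_gt (LP (LK LD1_c19 LD2_c12 LD3_c39)) = (LP (LK LD1_c10 LD2_c36 LD3_c22)) :=
  Lre_g IH (LK LD1_c19 LD2_c12 LD3_c39) (LK LD1_c10 LD2_c36 LD3_c22) Lrfl Lrfl
theorem f569770 : Led Lsl_ct (LP (LK LD1_c28 LD2_c38 LD3_c53)) = (LP (LK LD1_c19 LD2_c12 LD3_c39)) :=
  Lre_c IH (LK LD1_c28 LD2_c38 LD3_c53) (LK LD1_c19 LD2_c12 LD3_c39) Lrfl Lrfl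
theorem f564925 : Led Lsl_dt (LP (LK LD1_c19 LD2_c14 LD3_c58)) = (LP (LK LD1_c13 LD2_c30 LD3_c40)) :=
  Lgr Lrot44 (Lpr_af (K38.f403164 IH) (Lpe (K38.f388748 IH) (Lpr_af (K41.f564897 IH) (Lpn (LP (LK LD1_c13 LD2_c30 LD3_c40))))))
theorem f569771 : Led Lsl_gf (LP (LK LD1_c28 LD2_c38 LD3_c53)) = (LP (LK LD1_c19 LD2_c14 LD3_c58)) :=
  Lgr Lrot147 (Lpr_ct (f569770 IH) (Lpr_gt (f312968 IH) (Lpr_ct (f278296 IH) (Lpe (f312967 IH) (Lpe (f566173 IH) (Lpr_gf (f552669 IH) (Lpe (f569760 IH) (Lpr_gf (f569764 IH) (Lpe (f564925 IH) (Lpn (LP (LK LD1_c19 LD2_c14 LD3_c58))))))))))))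
theorem f569783 : Led Lsl_ct (LP (LK LD1_c19 LD2_c12 LD3_c39)) = (LP (LK LD1_c28 LD2_c38 LD3_c53)) :=
  Lre_c IH (LK LD1_c19 LD2_c12 LD3_c39) (LK LD1_c28 LD2_c38 LD3_c53) Lrfl Lrfl
theorem f169236 : Led Lsl_ct (LP (LK LD1_c10 LD2_c37 LD3_c35)) = (LP (LK LD1_c19 LD2_c14 LD3_c58)) :=
  Lre_c IH (LK LD1_c10 LD2_c37 LD3_c35) (LK LD1_c19 LD2_c14 LD3_c58) Lrfl Lrfl
theorem f569784 : Led Lsl_bt (LP (LK LD1_c19 LD2_c12 LD3_c39)) = (LP (LK LD1_c19 LD2_c10 LD3_c50)) :=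
  Lgr Lrot130 (Lpr_ct (f569783 IH) (Lpr_gf (f569771 IH) (Lpe (f169236 IH) (Lpr_bt (K16.f221559 IH) (Lpr_gf (K18.f280038 IH) (Lpe (K18.f238636 IH) (Lpr_ct (K18.f280040 IH) (Lpe (K18.f280041 IH) (Lpe (K18.f196668 IH) (Lpe (K31.f196679 IH) (Lpn (LP (LK LD1_c19 LD2_c10 LD3_c50)))))))))))))
theorem f296778 : Led Lsl_bf (LP (LK LD1_c15 LD2_c22 LD3_c21)) = (LP (LK LD1_c25 LD2_c5 LD3_c21)) :=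
  Lgr Lrot24 (Lpr_bt (K30.f296775 IH) (Lpn (LP (LK LD1_c25 LD2_c5 LD3_c21))))
theorem f569788 : Led Lsl_bf (LP (LK LD1_c28 LD2_c38 LD3_c53)) = (LP (LK LD1_c25 LD2_c14 LD3_c1)) :=
  Lgr Lrot90 (Lpr_ct (f569770 IH) (Lpr_bt (f569784 IH) (Lpr_ct (K31.f296781 IH) (Lpe (f296778 IH) (Lpr_ct (K30.f244055 IH) (Lpn (LP (LK LD1_c25 LD2_c14 LD3_c1))))))))
theorem f244073 : Led Lsl_ct (LP (LK LD1_c25 LD2_c14 LD3_c1)) = (LP (LK LD1_c15 LD2_c22 LD3_c21)) :=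
  Lre_c IH (LK LD1_c25 LD2_c14 LD3_c1) (LK LD1_c15 LD2_c22 LD3_c21) Lrfl Lrfl
theorem f388702 : Led Lsl_at (LP (LK LD1_c15 LD2_c54 LD3_c38)) = (LP (LK LD1_c25 LD2_c14 LD3_c1)) :=
  Lgr Lrot107 (Lpe (K30.f52748 IH) (Lpr_af (K30.f388698 IH) (Lpe (f244073 IH) (Lpn (LP (LK LD1_c25 LD2_c14 LD3_c1))))))
theorem f218466 : Led Lsl_at (LP (LK LD1_c19 LD2_c21 LD3_c36)) = (LP (LK LD1_c10 LD2_c41 LD3_c47)) :=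
  Lre_a IH (LK LD1_c19 LD2_c21 LD3_c36) (LK LD1_c10 LD2_c41 LD3_c47) Lrfl Lrfl
theorem f388878 : Led Lsl_df (LP (LK LD1_c19 LD2_c21 LD3_c36)) = (LP (LK LD1_c25 LD2_c14 LD3_c1)) :=
  Lgr Lrot18 (Lpr_at (f218466 IH) (Lpe (K30.f387959 IH) (Lpr_at (f388702 IH) (Lpn (LP (LK LD1_c25 LD2_c14 LD3_c1))))))
theorem f388091 : Led Lsl_ft (LP (LK LD1_c25 LD2_c50 LD3_c28)) = (LP (LK LD1_c19 LD2_c21 LD3_c36)) :=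
  Lgr Lrot142 (Lpr_dt (K31.f218294 IH) (Lpr_ct (K31.f218367 IH) (Lpr_dt (K30.f52755 IH) (Lpr_ct (K20.f52833 IH) (Lpr_dt (K30.f220916 IH) (Lpr_ct (K30.f387967 IH) (Lpr_dt (K30.f387968 IH) (Lpr_ct (K30.f218457 IH) (Lpe (f218466 IH) (Lpn (LP (LK LD1_c19 LD2_c21 LD3_c36))))))))))))
theorem f388095 : Led Lsl_ff (LP (LK LD1_c25 LD2_c50 LD3_c28)) = (LP (LK LD1_c19 LD2_c21 LD3_c36)) :=
  Lgr Lrot3 (Lpr_ft (f388091 IH) (Lpn (LP (LK LD1_c19 LD2_c21 LD3_c36))))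
theorem f388882 : Led Lsl_ft (LP (LK LD1_c15 LD2_c54 LD3_c25)) = (LP (LK LD1_c25 LD2_c14 LD3_c1)) :=
  Lgr Lrot54 (Lpe (K31.f218294 IH) (Lpr_ff (f388095 IH) (Lpr_df (f388878 IH) (Lpn (LP (LK LD1_c25 LD2_c14 LD3_c1))))))
theorem f569794 : Led Lsl_ft (LP (LK LD1_c28 LD2_c38 LD3_c53)) = (LP (LK LD1_c25 LD2_c50 LD3_c27)) :=
  Lgr Lrot75 (Lpr_bf (f569788 IH) (Lpe (f388882 IH) (Lpe (K31.f388760 IH) (Lpn (LP (LK LD1_c25 LD2_c50 LD3_c27))))))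
theorem f411763 : Led Lsl_bt (LP (LK LD1_c20 LD2_c10 LD3_c40)) = (LP (LK LD1_c11 LD2_c15 LD3_c30)) :=
  Lre_b IH (LK LD1_c20 LD2_c10 LD3_c40) (LK LD1_c11 LD2_c15 LD3_c30) Lrfl Lrfl
theorem f424228 : Led Lsl_ft (LP (LK LD1_c26 LD2_c17 LD3_c22)) = (LP (LK LD1_c20 LD2_c10 LD3_c40)) :=
  Lgr Lrot75 (Lpe (K31.f398482 IH) (Lpr_ff (K39.f424073 IH) (Lpe (f411763 IH) (Lpn (LP (LK LD1_c20 LD2_c10 LD3_c40))))))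
theorem f424236 : Led Lsl_ff (LP (LK LD1_c26 LD2_c17 LD3_c22)) = (LP (LK LD1_c20 LD2_c10 LD3_c40)) :=
  Lgr Lrot3 (Lpr_ft (f424228 IH) (Lpn (LP (LK LD1_c20 LD2_c10 LD3_c40))))
theorem f220898 : Led Lsl_dt (LP (LK LD1_c8 LD2_c28 LD3_c24)) = (LP (LK LD1_c15 LD2_c54 LD3_c36)) :=
  Lre_d IH (LK LD1_c8 LD2_c28 LD3_c24) (LK LD1_c15 LD2_c54 LD3_c36) Lrfl Lrfl
theorem f398582 : Led Lsl_ct (LP (LK LD1_c26 LD2_c17 LD3_c22)) = (LP (LK LD1_c25 LD2_c50 LD3_c28)) :=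
  Lgr Lrot176 (Lpr_df (K31.f398491 IH) (Lpe (K30.f220901 IH) (Lpe (f220898 IH) (Lpe (K30.f52749 IH) (Lpe (K30.f52759 IH) (Lpe (K30.f52746 IH) (Lpr_df (K30.f387959 IH) (Lpe (K30.f218457 IH) (Lpe (K30.f387968 IH) (Lpe (K30.f387967 IH) (Lpe (K30.f220916 IH) (Lpe (K20.f52833 IH) (Lpe (K30.f52755 IH) (Lpe (K31.f218367 IH) (Lpe (K31.f218294 IH) (Lpn (LP (LK LD1_c25 LD2_c50 LD3_c28))))))))))))))))))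
theorem f424240 : Led Lsl_ct (LP (LK LD1_c19 LD2_c21 LD3_c36)) = (LP (LK LD1_c20 LD2_c10 LD3_c40)) :=
  Lgr Lrot40 (Lpe (f388091 IH) (Lpe (f398582 IH) (Lpr_ff (f424236 IH) (Lpn (LP (LK LD1_c20 LD2_c10 LD3_c40))))))
theorem f411762 : Led Lsl_bt (LP (LK LD1_c5 LD2_c42 LD3_c40)) = (LP (LK LD1_c11 LD2_c15 LD3_c28)) :=
  Lre_b IH (LK LD1_c5 LD2_c42 LD3_c40) (LK LD1_c11 LD2_c15 LD3_c28) Lrfl Lrfl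
theorem f424242 : Led Lsl_bf (LP (LK LD1_c19 LD2_c21 LD3_c36)) = (LP (LK LD1_c20 LD2_c10 LD3_c35)) :=
  Lgr Lrot90 (Lpr_ct (f424240 IH) (Lpr_bt (f411763 IH) (Lpr_ct (K31.f411666 IH) (Lpr_bt (f411762 IH) (Lpr_ct (K31.f411702 IH) (Lpn (LP (LK LD1_c20 LD2_c10 LD3_c35))))))))
theorem f424250 : Led Lsl_ft (LP (LK LD1_c16 LD2_c22 LD3_c42)) = (LP (LK LD1_c20 LD2_c10 LD3_c35)) :=
  Lgr Lrot75 (Lpr_bf (K31.f400027 IH) (Lpr_ff (f388095 IH) (Lpr_bf (f424242 IH) (Lpn (LP (LK LD1_c20 LD2_c10 LD3_c35))))))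
theorem f569821 : Led Lsl_df (LP (LK LD1_c28 LD2_c38 LD3_c53)) = (LP (LK LD1_c20 LD2_c10 LD3_c35)) :=
  Lgr Lrot78 (Lpr_ft (f569794 IH) (Lpe (K31.f400038 IH) (Lpr_ft (f424250 IH) (Lpn (LP (LK LD1_c20 LD2_c10 LD3_c35))))))
theorem f553354 : Led Lsl_ct (LP (LK LD1_c13 LD2_c30 LD3_c7)) = (LP (LK LD1_c22 LD2_c50 LD3_c61)) :=
  Lre_c IH (LK LD1_c13 LD2_c30 LD3_c7) (LK LD1_c22 LD2_c50 LD3_c61) Lrfl Lrfl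
theorem f569779 : Led Lsl_dt (LP (LK LD1_c19 LD2_c12 LD3_c39)) = (LP (LK LD1_c22 LD2_c50 LD3_c61)) :=
  Lgr Lrot27 (Lpe (f569770 IH) (Lpr_gf (f569771 IH) (Lpe (f169236 IH) (Lpe (K16.f169232 IH) (Lpr_df (K41.f218556 IH) (Lpe (K39.f400167 IH) (Lpr_ct (K18.f211125 IH) (Lpr_gt (K39.f553350 IH) (Lpr_ct (f553354 IH) (Lpn (LP (LK LD1_c22 LD2_c50 LD3_c61))))))))))))
theorem f553357 : Led Lsl_ct (LP (LK LD1_c22 LD2_c50 LD3_c61)) = (LP (LK LD1_c13 LD2_c30 LD3_c7)) :=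
  Lre_c IH (LK LD1_c22 LD2_c50 LD3_c61) (LK LD1_c13 LD2_c30 LD3_c7) Lrfl Lrfl
theorem f553379 : Led Lsl_at (LP (LK LD1_c8 LD2_c43 LD3_c28)) = (LP (LK LD1_c13 LD2_c30 LD3_c7)) :=
  Lgr Lrot100 (Lpr_af (K39.f553377 IH) (Lpn (LP (LK LD1_c13 LD2_c30 LD3_c7))))
theorem f569698 : Led Lsl_cf (LP (LK LD1_c5 LD2_c42 LD3_c38)) = (LP (LK LD1_c7 LD2_c7 LD3_c38)) :=
  Lgr Lrot11 (Lpr_ct (f569694 IH) (Lpn (LP (LK LD1_c7 LD2_c7 LD3_c38))))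
theorem f488638 : Led Lsl_dt (LP (LK LD1_c13 LD2_c30 LD3_c6)) = (LP (LK LD1_c7 LD2_c7 LD3_c38)) :=
  Lre_d IH (LK LD1_c13 LD2_c30 LD3_c6) (LK LD1_c7 LD2_c7 LD3_c38) Lrfl Lrfl
theorem f569825 : Led Lsl_ff (LP (LK LD1_c8 LD2_c43 LD3_c28)) = (LP (LK LD1_c13 LD2_c30 LD3_c6)) :=
  Lgr Lrot103 (Lpr_at (f553379 IH) (Lpe (f553357 IH) (Lpe (f569779 IH) (Lpe (f569770 IH) (Lpr_df (f569821 IH) (Lpe (K31.f411702 IH) (Lpe (f411729 IH) (Lpr_cf (f569698 IH) (Lpe (f488638 IH) (Lpn (LP (LK LD1_c13 LD2_c30 LD3_c6))))))))))))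
theorem f569831 : Led Lsl_ft (LP (LK LD1_c8 LD2_c43 LD3_c28)) = (LP (LK LD1_c13 LD2_c30 LD3_c6)) :=
  Lgr Lrot48 (Lpr_ff (f569825 IH) (Lpn (LP (LK LD1_c13 LD2_c30 LD3_c6))))
theorem f569833 : Led Lsl_af (LP (LK LD1_c8 LD2_c43 LD3_c27)) = (LP (LK LD1_c13 LD2_c30 LD3_c6)) :=
  Lgr Lrot45 (Lpr_ft (K39.f553371 IH) (Lpe (K39.f553377 IH) (Lpr_ft (f569831 IH) (Lpn (LP (LK LD1_c13 LD2_c30 LD3_c6))))))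
theorem f96475 : Led Lsl_dt (LP (LK LD1_c7 LD2_c7 LD3_c38)) = (LP (LK LD1_c13 LD2_c30 LD3_c6)) :=
  Lre_d IH (LK LD1_c7 LD2_c7 LD3_c38) (LK LD1_c13 LD2_c30 LD3_c6) Lrfl Lrfl
theorem f569842 : Led Lsl_at (LP (LK LD1_c4 LD2_c23 LD3_c2)) = (LP (LK LD1_c7 LD2_c7 LD3_c38)) :=
  Lgr Lrot51 (Lpe (K31.f406927 IH) (Lpr_af (f569833 IH) (Lpe (f96475 IH) (Lpn (LP (LK LD1_c7 LD2_c7 LD3_c38))))))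
theorem f569846 : Led Lsl_ef (LP (LK LD1_c4 LD2_c23 LD3_c2)) = (LP (LK LD1_c2 LD2_c9 LD3_c49)) :=
  Lgr Lrot20 (Lpr_at (f569842 IH) (Lpe (f569710 IH) (Lpe (K6.f137886 IH) (Lpn (LP (LK LD1_c2 LD2_c9 LD3_c49))))))
theorem f80697 : Led Lsl_et (LP (LK LD1_c4 LD2_c24 LD3_c16)) = (LP (LK LD1_c2 LD2_c9 LD3_c35)) :=
  Lre_e IH (LK LD1_c4 LD2_c24 LD3_c16) (LK LD1_c2 LD2_c9 LD3_c35) Lrfl Lrfl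
theorem f133043 : Led Lsl_dt (LP (LK LD1_c4 LD2_c24 LD3_c16)) = (LP (LK LD1_c8 LD2_c46 LD3_c10)) :=
  Lre_d IH (LK LD1_c4 LD2_c24 LD3_c16) (LK LD1_c8 LD2_c46 LD3_c10) Lrfl Lrfl
theorem f569852 : Led Lsl_gt (LP (LK LD1_c9 LD2_c3 LD3_c4)) = (LP (LK LD1_c8 LD2_c46 LD3_c10)) :=
  Lgr Lrot112 (Lpe (K39.f552751 IH) (Lpe (K39.f552758 IH) (Lpr_gf (K39.f552775 IH) (Lpr_ef (f569846 IH) (Lpr_dt (K7.f137898 IH) (Lpe (K6.f70446 IH) (Lpe (K8.f70500 IH) (Lpe (K5.f59360 IH) (Lpe (f80697 IH) (Lpr_dt (f133043 IH) (Lpn (LP (LK LD1_c8 LD2_c46 LD3_c10)))))))))))))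
theorem f277536 : Led Lsl_dt (LP (LK LD1_c5 LD2_c24 LD3_c13)) = (LP (LK LD1_c2 LD2_c38 LD3_c38)) :=
  Lre_d IH (LK LD1_c5 LD2_c24 LD3_c13) (LK LD1_c2 LD2_c38 LD3_c38) Lrfl Lrfl
theorem f218520 : Led Lsl_gt (LP (LK LD1_c10 LD2_c39 LD3_c12)) = (LP (LK LD1_c5 LD2_c24 LD3_c13)) :=
  Lre_g IH (LK LD1_c10 LD2_c39 LD3_c12) (LK LD1_c5 LD2_c24 LD3_c13) Lrfl Lrfl
theorem f569858 : Led Lsl_cf (LP (LK LD1_c9 LD2_c3 LD3_c4)) = (LP (LK LD1_c10 LD2_c39 LD3_c12)) :=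
  Lgr Lrot166 (Lpr_gt (f569852 IH) (Lpr_dt (K39.f133044 IH) (Lpr_gt (K39.f556248 IH) (Lpr_dt (K41.f410586 IH) (Lpr_ct (K41.f556837 IH) (Lpr_df (f400113 IH) (Lpe (f173130 IH) (Lpe (f277536 IH) (Lpe (f218520 IH) (Lpn (LP (LK LD1_c10 LD2_c39 LD3_c12))))))))))))
theorem f331769 : Led Lsl_gt (LP (LK LD1_c19 LD2_c4 LD3_c39)) = (LP (LK LD1_c10 LD2_c39 LD3_c12)) :=
  Lgr Lrot5 (Lpr_ft (K22.f331765 IH) (Lpr_at (K41.f277541 IH) (Lpe (f218520 IH) (Lpn (LP (LK LD1_c10 LD2_c39 LD3_c12))))))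
theorem f331756 : Led Lsl_ct (LP (LK LD1_c5 LD2_c24 LD3_c11)) = (LP (LK LD1_c10 LD2_c39 LD3_c8)) :=
  Lre_c IH (LK LD1_c5 LD2_c24 LD3_c11) (LK LD1_c10 LD2_c39 LD3_c8) Lrfl Lrfl
theorem f133009 : Led Lsl_af (LP (LK LD1_c4 LD2_c24 LD3_c16)) = (LP (LK LD1_c7 LD2_c56 LD3_c40)) :=
  Lgr Lrot50 (Lpr_et (f80697 IH) (Lpr_at (K6.f133003 IH) (Lpr_et (K39.f59404 IH) (Lpn (LP (LK LD1_c7 LD2_c56 LD3_c40))))))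
theorem f133041 : Led Lsl_at (LP (LK LD1_c4 LD2_c24 LD3_c16)) = (LP (LK LD1_c7 LD2_c56 LD3_c40)) :=
  Lgr Lrot100 (Lpr_af (f133009 IH) (Lpn (LP (LK LD1_c7 LD2_c56 LD3_c40))))
theorem f556200 : Led Lsl_af (LP (LK LD1_c8 LD2_c46 LD3_c10)) = (LP (LK LD1_c13 LD2_c41 LD3_c0)) :=
  Lgr Lrot117 (Lpr_dt (K39.f133044 IH) (Lpr_at (f133041 IH) (Lpr_dt (K39.f556198 IH) (Lpn (LP (LK LD1_c13 LD2_c41 LD3_c0))))))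
theorem f556212 : Led Lsl_cf (LP (LK LD1_c16 LD2_c21 LD3_c30)) = (LP (LK LD1_c8 LD2_c46 LD3_c10)) :=
  Lgr Lrot1 (Lpr_at (K39.f549992 IH) (Lpr_ct (K39.f556210 IH) (Lpe (f556200 IH) (Lpn (LP (LK LD1_c8 LD2_c46 LD3_c10))))))
theorem f569860 : Led Lsl_gt (LP (LK LD1_c10 LD2_c39 LD3_c8)) = (LP (LK LD1_c17 LD2_c53 LD3_c28)) :=
  Lgr Lrot150 (Lpe (f331756 IH) (Lpe (K41.f331754 IH) (Lpe (K22.f168720 IH) (Lpr_gt (f331769 IH) (Lpe (f569858 IH) (Lpr_gt (f569852 IH) (Lpe (f556212 IH) (Lpr_df (K38.f549990 IH) (Lpr_cf (K22.f332231 IH) (Lpn (LP (LK LD1_c17 LD2_c53 LD3_c28))))))))))))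
theorem f331758 : Led Lsl_dt (LP (LK LD1_c10 LD2_c39 LD3_c8)) = (LP (LK LD1_c19 LD2_c17 LD3_c40)) :=
  Lre_d IH (LK LD1_c10 LD2_c39 LD3_c8) (LK LD1_c19 LD2_c17 LD3_c40) Lrfl Lrfl
theorem f569862 : Led Lsl_gt (LP (LK LD1_c19 LD2_c17 LD3_c40)) = (LP (LK LD1_c22 LD2_c50 LD3_c61)) :=
  Lgr Lrot9 (Lpe (f331758 IH) (Lpr_gt (f569860 IH) (Lpe (K22.f332231 IH) (Lpr_gt (K22.f223759 IH) (Lpe (K18.f223757 IH) (Lpe (K22.f297422 IH) (Lpe (K22.f237459 IH) (Lpr_gf (f553352 IH) (Lpe (f553357 IH) (Lpn (LP (LK LD1_c22 LD2_c50 LD3_c61))))))))))))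
theorem f197883 : Led Lsl_bt (LP (LK LD1_c21 LD2_c12 LD3_c49)) = (LP (LK LD1_c12 LD2_c6 LD3_c45)) :=
  Lre_b IH (LK LD1_c21 LD2_c12 LD3_c49) (LK LD1_c12 LD2_c6 LD3_c45) Lrfl Lrfl
theorem f173150 : Led Lsl_bt (LP (LK LD1_c4 LD2_c28 LD3_c26)) = (LP (LK LD1_c2 LD2_c11 LD3_c19)) :=
  Lre_b IH (LK LD1_c4 LD2_c28 LD3_c26) (LK LD1_c2 LD2_c11 LD3_c19) Lrfl Lrfl
theorem f173151 : Led Lsl_ct (LP (LK LD1_c8 LD2_c54 LD3_c60)) = (LP (LK LD1_c4 LD2_c28 LD3_c26)) :=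
  Lre_c IH (LK LD1_c8 LD2_c54 LD3_c60) (LK LD1_c4 LD2_c28 LD3_c26) Lrfl Lrfl
theorem f173152 : Led Lsl_bt (LP (LK LD1_c4 LD2_c54 LD3_c36)) = (LP (LK LD1_c8 LD2_c54 LD3_c60)) :=
  Lgr Lrot128 (Lpe (K12.f173148 IH) (Lpr_bf (K9.f173126 IH) (Lpe (K14.f173149 IH) (Lpe (f173150 IH) (Lpe (f173151 IH) (Lpn (LP (LK LD1_c8 LD2_c54 LD3_c60))))))))
theorem f187354 : Led Lsl_gt (LP (LK LD1_c8 LD2_c54 LD3_c60)) = (LP (LK LD1_c16 LD2_c40 LD3_c55)) :=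
  Lre_g IH (LK LD1_c8 LD2_c54 LD3_c60) (LK LD1_c16 LD2_c40 LD3_c55) Lrfl Lrfl
theorem f187355 : Led Lsl_dt (LP (LK LD1_c16 LD2_c40 LD3_c55)) = (LP (LK LD1_c26 LD2_c39 LD3_c39)) :=
  Lre_d IH (LK LD1_c16 LD2_c40 LD3_c55) (LK LD1_c26 LD2_c39 LD3_c39) Lrfl Lrfl
theorem f549189 : Led Lsl_cf (LP (LK LD1_c21 LD2_c12 LD3_c49)) = (LP (LK LD1_c26 LD2_c39 LD3_c39)) :=
  Lgr Lrot89 (Lpr_bt (f197883 IH) (Lpr_gt (K16.f241358 IH) (Lpr_dt (K38.f549183 IH) (Lpr_ct (K38.f30444 IH) (Lpr_bt (K38.f30443 IH) (Lpr_gt (K13.f196300 IH) (Lpr_dt (K13.f174988 IH) (Lpr_ct (K12.f56556 IH) (Lpr_bt (K11.f56521 IH) (Lpr_gt (K12.f211834 IH) (Lpr_dt (K17.f267765 IH) (Lpr_ct (K14.f228900 IH) (Lpr_bt (K14.f228899 IH) (Lpe (K14.f250472 IH) (Lpe (K12.f187340 IH) (Lpr_ct (K12.f173148 IH) (Lpr_bt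 (f173152 IH) (Lpr_gt (f187354 IH) (Lpr_dt (f187355 IH) (Lpn (LP (LK LD1_c26 LD2_c39 LD3_c39))))))))))))))))))))))
theorem f197905 : Led Lsl_bt (LP (LK LD1_c6 LD2_c14 LD3_c4)) = (LP (LK LD1_c12 LD2_c6 LD3_c44)) :=
  Lre_b IH (LK LD1_c6 LD2_c14 LD3_c4) (LK LD1_c12 LD2_c6 LD3_c44) Lrfl Lrfl
theorem f369065 : Led Lsl_ft (LP (LK LD1_c8 LD2_c54 LD3_c60)) = (LP (LK LD1_c4 LD2_c55 LD3_c18)) :=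
  Lgr Lrot75 (Lpe (f173152 IH) (Lpr_ff (K27.f369061 IH) (Lpe (K31.f168064 IH) (Lpn (LP (LK LD1_c4 LD2_c55 LD3_c18))))))
theorem f168639 : Led Lsl_at (LP (LK LD1_c4 LD2_c55 LD3_c18)) = (LP (LK LD1_c9 LD2_c42 LD3_c10)) :=
  Lre_a IH (LK LD1_c4 LD2_c55 LD3_c18) (LK LD1_c9 LD2_c42 LD3_c10) Lrfl Lrfl
theorem f376613 : Led Lsl_gt (LP (LK LD1_c16 LD2_c40 LD3_c55)) = (LP (LK LD1_c9 LD2_c42 LD3_c10)) :=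
  Lgr Lrot46 (Lpe (f187354 IH) (Lpr_ft (f369065 IH) (Lpr_at (f168639 IH) (Lpn (LP (LK LD1_c9 LD2_c42 LD3_c10))))))
theorem f168635 : Led Lsl_ct (LP (LK LD1_c9 LD2_c42 LD3_c10)) = (LP (LK LD1_c16 LD2_c36 LD3_c34)) :=
  Lgr Lrot59 (Lpr_cf (K31.f168617 IH) (Lpn (LP (LK LD1_c16 LD2_c36 LD3_c34))))
theorem f370104 : Led Lsl_ct (LP (LK LD1_c8 LD2_c54 LD3_c59)) = (LP (LK LD1_c16 LD2_c40 LD3_c53)) :=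
  Lre_c IH (LK LD1_c8 LD2_c54 LD3_c59) (LK LD1_c16 LD2_c40 LD3_c53) Lrfl Lrfl
theorem f375095 : Led Lsl_ft (LP (LK LD1_c16 LD2_c36 LD3_c34)) = (LP (LK LD1_c8 LD2_c54 LD3_c59)) :=
  Lgr Lrot4 (Lpe (f168635 IH) (Lpr_ff (K31.f370097 IH) (Lpe (f370104 IH) (Lpn (LP (LK LD1_c8 LD2_c54 LD3_c59))))))
theorem f372857 : Led Lsl_at (LP (LK LD1_c8 LD2_c54 LD3_c59)) = (LP (LK LD1_c4 LD2_c28 LD3_c26)) :=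
  Lre_a IH (LK LD1_c8 LD2_c54 LD3_c59) (LK LD1_c4 LD2_c28 LD3_c26) Lrfl Lrfl
theorem f187457 : Led Lsl_gt (LP (LK LD1_c8 LD2_c54 LD3_c58)) = (LP (LK LD1_c4 LD2_c28 LD3_c26)) :=
  Lre_g IH (LK LD1_c8 LD2_c54 LD3_c58) (LK LD1_c4 LD2_c28 LD3_c26) Lrfl Lrfl
theorem f375223 : Led Lsl_gt (LP (LK LD1_c16 LD2_c36 LD3_c34)) = (LP (LK LD1_c8 LD2_c54 LD3_c58)) :=
  Lgr Lrot5 (Lpr_ft (f375095 IH) (Lpr_at (f372857 IH) (Lpe (f187457 IH) (Lpn (LP (LK LD1_c8 LD2_c54 LD3_c58))))))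
theorem f370071 : Led Lsl_ct (LP (LK LD1_c16 LD2_c40 LD3_c50)) = (LP (LK LD1_c8 LD2_c54 LD3_c58)) :=
  Lre_c IH (LK LD1_c16 LD2_c40 LD3_c50) (LK LD1_c8 LD2_c54 LD3_c58) Lrfl Lrfl
theorem f318356 : Led Lsl_gt (LP (LK LD1_c2 LD2_c35 LD3_c11)) = (LP (LK LD1_c2 LD2_c38 LD3_c32)) :=
  Lgr Lrot46 (Lpe (K12.f194609 IH) (Lpr_ft (K20.f318348 IH) (Lpr_at (K20.f224804 IH) (Lpn (LP (LK LD1_c2 LD2_c38 LD3_c32))))))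
theorem f318374 : Led Lsl_bt (LP (LK LD1_c2 LD2_c25 LD3_c38)) = (LP (LK LD1_c4 LD2_c55 LD3_c34)) :=
  Lre_b IH (LK LD1_c2 LD2_c25 LD3_c38) (LK LD1_c4 LD2_c55 LD3_c34) Lrfl Lrfl
theorem f318375 : Led Lsl_gt (LP (LK LD1_c4 LD2_c55 LD3_c34)) = (LP (LK LD1_c9 LD2_c42 LD3_c46)) :=
  Lre_g IH (LK LD1_c4 LD2_c55 LD3_c34) (LK LD1_c9 LD2_c42 LD3_c46) Lrfl Lrfl
theorem f370072 : Led Lsl_bf (LP (LK LD1_c9 LD2_c42 LD3_c46)) = (LP (LK LD1_c16 LD2_c40 LD3_c50)) :=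
  Lgr Lrot34 (Lpe (f318375 IH) (Lpe (f318374 IH) (Lpr_ct (K20.f318358 IH) (Lpe (f318356 IH) (Lpe (K12.f49228 IH) (Lpe (K12.f218735 IH) (Lpr_bf (K27.f370063 IH) (Lpr_ct (f173151 IH) (Lpe (f187457 IH) (Lpe (f370071 IH) (Lpn (LP (LK LD1_c16 LD2_c40 LD3_c50)))))))))))))
theorem f331686 : Led Lsl_gf (LP (LK LD1_c17 LD2_c48 LD3_c28)) = (LP (LK LD1_c9 LD2_c42 LD3_c46)) :=
  Lgr Lrot76 (Lpe (K22.f331582 IH) (Lpr_ff (K22.f331675 IH) (Lpr_gt (f318375 IH) (Lpn (LP (LK LD1_c9 LD2_c42 LD3_c46))))))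
theorem f331759 : Led Lsl_ct (LP (LK LD1_c10 LD2_c39 LD3_c8)) = (LP (LK LD1_c5 LD2_c24 LD3_c11)) :=
  Lre_c IH (LK LD1_c10 LD2_c39 LD3_c8) (LK LD1_c5 LD2_c24 LD3_c11) Lrfl Lrfl
theorem f376616 : Led Lsl_bf (LP (LK LD1_c16 LD2_c40 LD3_c55)) = (LP (LK LD1_c10 LD2_c39 LD3_c8)) :=
  Lgr Lrot165 (Lpr_gt (f376613 IH) (Lpr_ct (f168635 IH) (Lpr_gt (f375223 IH) (Lpe (f370071 IH) (Lpe (f370072 IH) (Lpe (f331686 IH) (Lpe (K27.f338073 IH) (Lpr_ct (K22.f168703 IH) (Lpr_gt (K41.f331754 IH) (Lpe (f331759 IH) (Lpn (LP (LK LD1_c10 LD2_c39 LD3_c8)))))))))))))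
theorem f331757 : Led Lsl_dt (LP (LK LD1_c19 LD2_c17 LD3_c40)) = (LP (LK LD1_c10 LD2_c39 LD3_c8)) :=
  Lre_d IH (LK LD1_c19 LD2_c17 LD3_c40) (LK LD1_c10 LD2_c39 LD3_c8) Lrfl Lrfl
theorem f376621 : Led Lsl_bt (LP (LK LD1_c26 LD2_c39 LD3_c39)) = (LP (LK LD1_c19 LD2_c17 LD3_c40)) :=
  Lgr Lrot95 (Lpe (f187355 IH) (Lpr_bf (f376616 IH) (Lpe (f331757 IH) (Lpn (LP (LK LD1_c19 LD2_c17 LD3_c40))))))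
theorem f376623 : Led Lsl_bf (LP (LK LD1_c26 LD2_c39 LD3_c39)) = (LP (LK LD1_c19 LD2_c17 LD3_c40)) :=
  Lgr Lrot24 (Lpr_bt (f376621 IH) (Lpn (LP (LK LD1_c19 LD2_c17 LD3_c40))))
theorem f549192 : Led Lsl_ct (LP (LK LD1_c12 LD2_c6 LD3_c44)) = (LP (LK LD1_c19 LD2_c17 LD3_c40)) :=
  Lgr Lrot83 (Lpe (f197905 IH) (Lpe (K10.f197839 IH) (Lpe (f197883 IH) (Lpr_cf (f549189 IH) (Lpr_bf (f376623 IH) (Lpn (LP (LK LD1_c19 LD2_c17 LD3_c40))))))))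
theorem f160328 : Led Lsl_at (LP (LK LD1_c7 LD2_c14 LD3_c15)) = (LP (LK LD1_c7 LD2_c8 LD3_c10)) :=
  Lgr Lrot100 (Lpr_af (K41.f160319 IH) (Lpn (LP (LK LD1_c7 LD2_c8 LD3_c10))))
theorem f93104 : Led Lsl_ft (LP (LK LD1_c3 LD2_c36 LD3_c59)) = (LP (LK LD1_c7 LD2_c14 LD3_c15)) :=
  Lre_f IH (LK LD1_c3 LD2_c36 LD3_c59) (LK LD1_c7 LD2_c14 LD3_c15) Lrfl Lrfl
theorem f93095 : Led Lsl_gt (LP (LK LD1_c3 LD2_c36 LD3_c59)) = (LP (LK LD1_c7 LD2_c14 LD3_c12)) :=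
  Lre_g IH (LK LD1_c3 LD2_c36 LD3_c59) (LK LD1_c7 LD2_c14 LD3_c12) Lrfl Lrfl
theorem f160334 : Led Lsl_gt (LP (LK LD1_c7 LD2_c14 LD3_c12)) = (LP (LK LD1_c7 LD2_c8 LD3_c10)) :=
  Lgr Lrot46 (Lpe (f93095 IH) (Lpr_ft (f93104 IH) (Lpr_at (f160328 IH) (Lpn (LP (LK LD1_c7 LD2_c8 LD3_c10))))))
theorem f160336 : Led Lsl_dt (LP (LK LD1_c13 LD2_c41 LD3_c41)) = (LP (LK LD1_c7 LD2_c14 LD3_c12)) :=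
  Lre_d IH (LK LD1_c13 LD2_c41 LD3_c41) (LK LD1_c7 LD2_c14 LD3_c12) Lrfl Lrfl
theorem f569864 : Led Lsl_gf (LP (LK LD1_c12 LD2_c6 LD3_c44)) = (LP (LK LD1_c13 LD2_c41 LD3_c41)) :=
  Lgr Lrot147 (Lpr_ct (f549192 IH) (Lpr_gt (f569862 IH) (Lpr_ct (f553357 IH) (Lpe (f98110 IH) (Lpr_cf (f569735 IH) (Lpr_gf (f160314 IH) (Lpe (f160301 IH) (Lpe (f160334 IH) (Lpe (f160336 IH) (Lpn (LP (LK LD1_c13 LD2_c41 LD3_c41))))))))))))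
theorem f93096 : Led Lsl_dt (LP (LK LD1_c7 LD2_c14 LD3_c12)) = (LP (LK LD1_c13 LD2_c41 LD3_c41)) :=
  Lre_d IH (LK LD1_c7 LD2_c14 LD3_c12) (LK LD1_c13 LD2_c41 LD3_c41) Lrfl Lrfl
theorem f6556 : Led Lsl_gt (LP (LK LD1_c3 LD2_c37 LD3_c5)) = (LP (LK LD1_c1 LD2_c45 LD3_c26)) :=
  Lre_g IH (LK LD1_c3 LD2_c37 LD3_c5) (LK LD1_c1 LD2_c45 LD3_c26) Lrfl Lrfl
theorem f569869 : Led Lsl_et (LP (LK LD1_c6 LD2_c14 LD3_c3)) = (LP (LK LD1_c3 LD2_c37 LD3_c5)) :=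
  Lgr Lrot185 (Lpr_dt (K39.f410579 IH) (Lpr_gf (f569864 IH) (Lpe (f93096 IH) (Lpe (f93095 IH) (Lpe (K8.f10685 IH) (Lpr_dt (K2.f10680 IH) (Lpe (K0.f6672 IH) (Lpe (K3.f6096 IH) (Lpr_et (K3.f6120 IH) (Lpe (f6556 IH) (Lpn (LP (LK LD1_c3 LD2_c37 LD3_c5)))))))))))))
theorem f6462 : Led Lsl_dt (LP (LK LD1_c1 LD2_c45 LD3_c26)) = (LP (LK LD1_c3 LD2_c37 LD3_c6)) :=
  Lre_d IH (LK LD1_c1 LD2_c45 LD3_c26) (LK LD1_c3 LD2_c37 LD3_c6) Lrfl Lrfl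
theorem f569879 : Led Lsl_et (LP (LK LD1_c7 LD2_c14 LD3_c12)) = (LP (LK LD1_c4 LD2_c25 LD3_c14)) :=
  Lgr Lrot122 (Lpr_dt (f93096 IH) (Lpe (f569864 IH) (Lpe (K39.f410579 IH) (Lpr_et (f569869 IH) (Lpr_gt (f6556 IH) (Lpr_dt (f6462 IH) (Lpr_gt (K41.f6536 IH) (Lpr_df (K41.f565589 IH) (Lpr_et (K41.f159206 IH) (Lpr_gt (K28.f203267 IH) (Lpn (LP (LK LD1_c4 LD2_c25 LD3_c14)))))))))))))
theorem f569883 : Led Lsl_ef (LP (LK LD1_c7 LD2_c14 LD3_c12)) = (LP (LK LD1_c4 LD2_c25 LD3_c14)) :=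
  Lgr Lrot88 (Lpr_et (f569879 IH) (Lpn (LP (LK LD1_c4 LD2_c25 LD3_c14))))
theorem f569887 : Led Lsl_ef (LP (LK LD1_c4 LD2_c0 LD3_c36)) = (LP (LK LD1_c5 LD2_c47 LD3_c22)) :=
  Lgr Lrot17 (Lpe (K36.f80751 IH) (Lpe (f80756 IH) (Lpr_dt (K41.f80757 IH) (Lpe (f566187 IH) (Lpe (f569661 IH) (Lpe (f160334 IH) (Lpr_ef (f569883 IH) (Lpr_dt (K6.f38518 IH) (Lpe (K40.f427408 IH) (Lpr_df (K40.f157849 IH) (Lpn (LP (LK LD1_c5 LD2_c47 LD3_c22)))))))))))))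
theorem f38489 : Led Lsl_gt (LP (LK LD1_c2 LD2_c10 LD3_c6)) = (LP (LK LD1_c4 LD2_c25 LD3_c26)) :=
  Lre_g IH (LK LD1_c2 LD2_c10 LD3_c6) (LK LD1_c4 LD2_c25 LD3_c26) Lrfl Lrfl
theorem f569891 : Led Lsl_ef (LP (LK LD1_c4 LD2_c25 LD3_c26)) = (LP (LK LD1_c4 LD2_c25 LD3_c17)) :=
  Lgr Lrot17 (Lpe (f38489 IH) (Lpe (K1.f38483 IH) (Lpr_dt (K6.f38508 IH) (Lpe (K28.f38248 IH) (Lpe (K36.f420372 IH) (Lpr_gf (K11.f80737 IH) (Lpr_ef (f569887 IH) (Lpe (K40.f157849 IH) (Lpr_gf (K36.f420301 IH) (Lpe (K28.f38540 IH) (Lpn (LP (LK LD1_c4 LD2_c25 LD3_c17)))))))))))))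
theorem f97202 : Led Lsl_et (LP (LK LD1_c3 LD2_c37 LD3_c3)) = (LP (LK LD1_c1 LD2_c45 LD3_c25)) :=
  Lre_e IH (LK LD1_c3 LD2_c37 LD3_c3) (LK LD1_c1 LD2_c45 LD3_c25) Lrfl Lrfl
theorem f569902 : Led Lsl_gt (LP (LK LD1_c4 LD2_c25 LD3_c26)) = (LP (LK LD1_c7 LD2_c17 LD3_c30)) :=
  Lgr Lrot137 (Lpr_ef (f569891 IH) (Lpr_dt (K28.f38540 IH) (Lpe (K39.f542501 IH) (Lpe (K36.f97203 IH) (Lpr_et (f97202 IH) (Lpe (K3.f97186 IH) (Lpe (K36.f10604 IH) (Lpr_dt (K41.f10605 IH) (Lpe (K41.f97198 IH) (Lpr_df (K41.f97199 IH) (Lpn (LP (LK LD1_c7 LD2_c17 LD3_c30)))))))))))))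
theorem f97207 : Led Lsl_et (LP (LK LD1_c3 LD2_c38 LD3_c34)) = (LP (LK LD1_c7 LD2_c17 LD3_c30)) :=
  Lre_e IH (LK LD1_c3 LD2_c38 LD3_c34) (LK LD1_c7 LD2_c17 LD3_c30) Lrfl Lrfl
theorem f5624 : Led Lsl_dt (LP (LK LD1_c3 LD2_c38 LD3_c34)) = (LP (LK LD1_c7 LD2_c17 LD3_c29)) :=
  Lre_d IH (LK LD1_c3 LD2_c38 LD3_c34) (LK LD1_c7 LD2_c17 LD3_c29) Lrfl Lrfl
theorem f5664 : Led Lsl_gt (LP (LK LD1_c7 LD2_c17 LD3_c29)) = (LP (LK LD1_c13 LD2_c47 LD3_c33)) :=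
  Lre_g IH (LK LD1_c7 LD2_c17 LD3_c29) (LK LD1_c13 LD2_c47 LD3_c33) Lrfl Lrfl
theorem f565703 : Led Lsl_ef (LP (LK LD1_c7 LD2_c14 LD3_c27)) = (LP (LK LD1_c10 LD2_c1 LD3_c23)) :=
  Lgr Lrot88 (Lpr_et (K41.f565699 IH) (Lpn (LP (LK LD1_c10 LD2_c1 LD3_c23))))
theorem f569904 : Led Lsl_df (LP (LK LD1_c13 LD2_c47 LD3_c33)) = (LP (LK LD1_c10 LD2_c1 LD3_c23)) :=
  Lgr Lrot168 (Lpe (f5664 IH) (Lpe (f5624 IH) (Lpr_et (f97207 IH) (Lpe (f569902 IH) (Lpr_ef (f569891 IH) (Lpr_dt (K28.f38540 IH) (Lpe (K39.f542501 IH) (Lpe (K36.f97203 IH) (Lpe (K40.f97270 IH) (Lpr_ef (f565703 IH) (Lpn (LP (LK LD1_c10 LD2_c1 LD3_c23)))))))))))))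
theorem f569619 : Led Lsl_ef (LP (LK LD1_c1 LD2_c55 LD3_c39)) = (LP (LK LD1_c3 LD2_c38 LD3_c35)) :=
  Lgr Lrot88 (Lpr_et (f569609 IH) (Lpn (LP (LK LD1_c3 LD2_c38 LD3_c35))))
theorem f5041 : Led Lsl_dt (LP (LK LD1_c3 LD2_c38 LD3_c35)) = (LP (LK LD1_c7 LD2_c17 LD3_c31)) :=
  Lre_d IH (LK LD1_c3 LD2_c38 LD3_c35) (LK LD1_c7 LD2_c17 LD3_c31) Lrfl Lrfl
theorem f569916 : Led Lsl_gt (LP (LK LD1_c13 LD2_c47 LD3_c33)) = (LP (LK LD1_c7 LD2_c17 LD3_c31)) :=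
  Lgr Lrot112 (Lpr_df (f569904 IH) (Lpe (f565703 IH) (Lpr_gf (K40.f558226 IH) (Lpe (f546567 IH) (Lpe (K36.f80721 IH) (Lpr_gf (K28.f38226 IH) (Lpe (K28.f202055 IH) (Lpe (K6.f36940 IH) (Lpr_ef (f569619 IH) (Lpr_dt (f5041 IH) (Lpn (LP (LK LD1_c7 LD2_c17 LD3_c31)))))))))))))
theorem f558214 : Led Lsl_cf (LP (LK LD1_c7 LD2_c14 LD3_c27)) = (LP (LK LD1_c4 LD2_c0 LD3_c34)) :=
  Lgr Lrot97 (Lpr_bt (K40.f558199 IH) (Lpe (K40.f206065 IH) (Lpr_bt (K40.f80743 IH) (Lpr_ct (K28.f80739 IH) (Lpr_bt (K11.f202795 IH) (Lpn (LP (LK LD1_c4 LD2_c0 LD3_c34))))))))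
theorem f80799 : Led Lsl_et (LP (LK LD1_c8 LD2_c2 LD3_c4)) = (LP (LK LD1_c4 LD2_c0 LD3_c34)) :=
  Lre_e IH (LK LD1_c8 LD2_c2 LD3_c4) (LK LD1_c4 LD2_c0 LD3_c34) Lrfl Lrfl
theorem f565701 : Led Lsl_cf (LP (LK LD1_c8 LD2_c2 LD3_c4)) = (LP (LK LD1_c10 LD2_c1 LD3_c23)) :=
  Lgr Lrot39 (Lpr_et (f80799 IH) (Lpe (f558214 IH) (Lpr_et (K41.f565699 IH) (Lpn (LP (LK LD1_c10 LD2_c1 LD3_c23))))))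
theorem f225130 : Led Lsl_dt (LP (LK LD1_c15 LD2_c13 LD3_c2)) = (LP (LK LD1_c8 LD2_c4 LD3_c55)) :=
  Lre_d IH (LK LD1_c15 LD2_c13 LD3_c2) (LK LD1_c8 LD2_c4 LD3_c55) Lrfl Lrfl
theorem f566089 : Led Lsl_ct (LP (LK LD1_c3 LD2_c39 LD3_c32)) = (LP (LK LD1_c4 LD2_c4 LD3_c50)) :=
  Lgr Lrot59 (Lpr_cf (K41.f566085 IH) (Lpn (LP (LK LD1_c4 LD2_c4 LD3_c50))))
theorem f193423 : Led Lsl_bt (LP (LK LD1_c4 LD2_c2 LD3_c21)) = (LP (LK LD1_c8 LD2_c5 LD3_c15)) :=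
  Lre_b IH (LK LD1_c4 LD2_c2 LD3_c21) (LK LD1_c8 LD2_c5 LD3_c15) Lrfl Lrfl
theorem f193424 : Led Lsl_dt (LP (LK LD1_c8 LD2_c5 LD3_c15)) = (LP (LK LD1_c4 LD2_c4 LD3_c50)) :=
  Lgr Lrot79 (Lpe (f193423 IH) (Lpr_df (K13.f193415 IH) (Lpe (K41.f193105 IH) (Lpn (LP (LK LD1_c4 LD2_c4 LD3_c50))))))
theorem f193426 : Led Lsl_ct (LP (LK LD1_c15 LD2_c13 LD3_c43)) = (LP (LK LD1_c8 LD2_c5 LD3_c15)) :=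
  Lre_c IH (LK LD1_c15 LD2_c13 LD3_c43) (LK LD1_c8 LD2_c5 LD3_c15) Lrfl Lrfl
theorem f193429 : Led Lsl_gt (LP (LK LD1_c25 LD2_c2 LD3_c50)) = (LP (LK LD1_c15 LD2_c13 LD3_c43)) :=
  Lre_g IH (LK LD1_c25 LD2_c2 LD3_c50) (LK LD1_c15 LD2_c13 LD3_c43) Lrfl Lrfl
theorem f569545 : Led Lsl_ct (LP (LK LD1_c18 LD2_c40 LD3_c42)) = (LP (LK LD1_c25 LD2_c2 LD3_c50)) :=
  Lgr Lrot152 (Lpr_gf (f569541 IH) (Lpr_df (f420726 IH) (Lpe (K41.f566103 IH) (Lpr_ct (K41.f5037 IH) (Lpr_gt (K41.f5686 IH) (Lpr_ct (f566089 IH) (Lpe (f193424 IH) (Lpe (f193426 IH) (Lpe (f193429 IH) (Lpn (LP (LK LD1_c25 LD2_c2 LD3_c50))))))))))))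
theorem f5176 : Led Lsl_ct (LP (LK LD1_c13 LD2_c46 LD3_c42)) = (LP (LK LD1_c7 LD2_c16 LD3_c52)) :=
  Lre_c IH (LK LD1_c13 LD2_c46 LD3_c42) (LK LD1_c7 LD2_c16 LD3_c52) Lrfl Lrfl
theorem f4089 : Led Lsl_dt (LP (LK LD1_c23 LD2_c14 LD3_c0)) = (LP (LK LD1_c13 LD2_c46 LD3_c42)) :=
  Lre_d IH (LK LD1_c23 LD2_c14 LD3_c0) (LK LD1_c13 LD2_c46 LD3_c42) Lrfl Lrfl
theorem f193433 : Led Lsl_dt (LP (LK LD1_c15 LD2_c13 LD3_c43)) = (LP (LK LD1_c25 LD2_c2 LD3_c51)) :=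
  Lre_d IH (LK LD1_c15 LD2_c13 LD3_c43) (LK LD1_c25 LD2_c2 LD3_c51) Lrfl Lrfl
theorem f569552 : Led Lsl_gf (LP (LK LD1_c23 LD2_c14 LD3_c0)) = (LP (LK LD1_c25 LD2_c2 LD3_c51)) :=
  Lgr Lrot154 (Lpr_dt (f4089 IH) (Lpr_ct (f5176 IH) (Lpe (K41.f5213 IH) (Lpr_gf (K41.f566157 IH) (Lpe (K37.f239272 IH) (Lpe (f569523 IH) (Lpr_ct (f569545 IH) (Lpr_gt (f193429 IH) (Lpr_dt (f193433 IH) (Lpn (LP (LK LD1_c25 LD2_c2 LD3_c51))))))))))))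
theorem f569554 : Led Lsl_at (LP (LK LD1_c13 LD2_c47 LD3_c46)) = (LP (LK LD1_c23 LD2_c14 LD3_c0)) :=
  Lre_a IH (LK LD1_c13 LD2_c47 LD3_c46) (LK LD1_c23 LD2_c14 LD3_c0) Lrfl Lrfl
theorem f5201 : Led Lsl_ft (LP (LK LD1_c23 LD2_c15 LD3_c36)) = (LP (LK LD1_c13 LD2_c47 LD3_c46)) :=
  Lre_f IH (LK LD1_c23 LD2_c15 LD3_c36) (LK LD1_c13 LD2_c47 LD3_c46) Lrfl Lrfl
theorem f569555 : Led Lsl_gt (LP (LK LD1_c23 LD2_c15 LD3_c36)) = (LP (LK LD1_c25 LD2_c2 LD3_c51)) :=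
  Lgr Lrot5 (Lpr_ft (f5201 IH) (Lpr_at (f569554 IH) (Lpr_gf (f569552 IH) (Lpn (LP (LK LD1_c25 LD2_c2 LD3_c51))))))
theorem f4233 : Led Lsl_dt (LP (LK LD1_c13 LD2_c47 LD3_c47)) = (LP (LK LD1_c23 LD2_c15 LD3_c36)) :=
  Lre_d IH (LK LD1_c13 LD2_c47 LD3_c47) (LK LD1_c23 LD2_c15 LD3_c36) Lrfl Lrfl
theorem f5206 : Led Lsl_gt (LP (LK LD1_c23 LD2_c13 LD3_c60)) = (LP (LK LD1_c13 LD2_c47 LD3_c47)) :=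
  Lre_g IH (LK LD1_c23 LD2_c13 LD3_c60) (LK LD1_c13 LD2_c47 LD3_c47) Lrfl Lrfl
theorem f193427 : Led Lsl_dt (LP (LK LD1_c25 LD2_c2 LD3_c51)) = (LP (LK LD1_c15 LD2_c13 LD3_c43)) :=
  Lre_d IH (LK LD1_c25 LD2_c2 LD3_c51) (LK LD1_c15 LD2_c13 LD3_c43) Lrfl Lrfl
theorem f193432 : Led Lsl_ct (LP (LK LD1_c8 LD2_c5 LD3_c15)) = (LP (LK LD1_c15 LD2_c13 LD3_c43)) :=
  Lre_c IH (LK LD1_c8 LD2_c5 LD3_c15) (LK LD1_c15 LD2_c13 LD3_c43) Lrfl Lrfl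
theorem f193412 : Led Lsl_bt (LP (LK LD1_c8 LD2_c5 LD3_c15)) = (LP (LK LD1_c4 LD2_c2 LD3_c21)) :=
  Lre_b IH (LK LD1_c8 LD2_c5 LD3_c15) (LK LD1_c4 LD2_c2 LD3_c21) Lrfl Lrfl
theorem f193095 : Led Lsl_bt (LP (LK LD1_c1 LD2_c59 LD3_c29)) = (LP (LK LD1_c4 LD2_c4 LD3_c50)) :=
  Lre_b IH (LK LD1_c1 LD2_c59 LD3_c29) (LK LD1_c4 LD2_c4 LD3_c50) Lrfl Lrfl
theorem f193413 : Led Lsl_df (LP (LK LD1_c8 LD2_c5 LD3_c15)) = (LP (LK LD1_c4 LD2_c4 LD3_c50)) :=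
  Lgr Lrot12 (Lpr_bt (f193412 IH) (Lpr_dt (K13.f193409 IH) (Lpr_bt (f193095 IH) (Lpn (LP (LK LD1_c4 LD2_c4 LD3_c50))))))
theorem f193431 : Led Lsl_gt (LP (LK LD1_c8 LD2_c10 LD3_c30)) = (LP (LK LD1_c4 LD2_c4 LD3_c50)) :=
  Lre_g IH (LK LD1_c8 LD2_c10 LD3_c30) (LK LD1_c4 LD2_c4 LD3_c50) Lrfl Lrfl
theorem f5217 : Led Lsl_ft (LP (LK LD1_c13 LD2_c47 LD3_c47)) = (LP (LK LD1_c7 LD2_c17 LD3_c34)) :=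
  Lre_f IH (LK LD1_c13 LD2_c47 LD3_c47) (LK LD1_c7 LD2_c17 LD3_c34) Lrfl Lrfl
theorem f5218 : Led Lsl_at (LP (LK LD1_c7 LD2_c17 LD3_c34)) = (LP (LK LD1_c13 LD2_c46 LD3_c42)) :=
  Lre_a IH (LK LD1_c7 LD2_c17 LD3_c34) (LK LD1_c13 LD2_c46 LD3_c42) Lrfl Lrfl
theorem f565691 : Led Lsl_gf (LP (LK LD1_c13 LD2_c46 LD3_c42)) = (LP (LK LD1_c15 LD2_c10 LD3_c25)) :=
  Lgr Lrot76 (Lpe (f5218 IH) (Lpe (f5217 IH) (Lpr_gt (K41.f565689 IH) (Lpn (LP (LK LD1_c15 LD2_c10 LD3_c25))))))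
theorem f240034 : Led Lsl_gt (LP (LK LD1_c15 LD2_c10 LD3_c24)) = (LP (LK LD1_c8 LD2_c3 LD3_c40)) :=
  Lre_g IH (LK LD1_c15 LD2_c10 LD3_c24) (LK LD1_c8 LD2_c3 LD3_c40) Lrfl Lrfl
theorem f566097 : Led Lsl_dt (LP (LK LD1_c15 LD2_c10 LD3_c24)) = (LP (LK LD1_c8 LD2_c10 LD3_c30)) :=
  Lgr Lrot6 (Lpr_gt (f240034 IH) (Lpr_ct (K41.f239977 IH) (Lpe (f565691 IH) (Lpr_ct (f5176 IH) (Lpe (K41.f5213 IH) (Lpr_cf (K0.f5173 IH) (Lpe (K41.f5196 IH) (Lpr_cf (K41.f566085 IH) (Lpe (f193431 IH) (Lpn (LP (LK LD1_c8 LD2_c10 LD3_c30))))))))))))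
theorem f225122 : Led Lsl_dt (LP (LK LD1_c8 LD2_c4 LD3_c55)) = (LP (LK LD1_c15 LD2_c13 LD3_c2)) :=
  Lre_d IH (LK LD1_c8 LD2_c4 LD3_c55) (LK LD1_c15 LD2_c13 LD3_c2) Lrfl Lrfl
theorem f386138 : Led Lsl_dt (LP (LK LD1_c15 LD2_c10 LD3_c23)) = (LP (LK LD1_c8 LD2_c3 LD3_c39)) :=
  Lre_d IH (LK LD1_c15 LD2_c10 LD3_c23) (LK LD1_c8 LD2_c3 LD3_c39) Lrfl Lrfl
theorem f386140 : Led Lsl_ft (LP (LK LD1_c15 LD2_c13 LD3_c2)) = (LP (LK LD1_c15 LD2_c10 LD3_c23)) :=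
  Lgr Lrot54 (Lpe (f225122 IH) (Lpr_ff (f386132 IH) (Lpe (f386138 IH) (Lpn (LP (LK LD1_c15 LD2_c10 LD3_c23))))))
theorem f386153 : Led Lsl_at (LP (LK LD1_c15 LD2_c10 LD3_c23)) = (LP (LK LD1_c8 LD2_c3 LD3_c40)) :=
  Lre_a IH (LK LD1_c15 LD2_c10 LD3_c23) (LK LD1_c8 LD2_c3 LD3_c40) Lrfl Lrfl
theorem f386154 : Led Lsl_gt (LP (LK LD1_c15 LD2_c13 LD3_c2)) = (LP (LK LD1_c15 LD2_c10 LD3_c24)) :=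
  Lgr Lrot5 (Lpr_ft (f386140 IH) (Lpr_at (f386153 IH) (Lpe (f240034 IH) (Lpn (LP (LK LD1_c15 LD2_c10 LD3_c24))))))
theorem f569558 : Led Lsl_ct (LP (LK LD1_c23 LD2_c13 LD3_c60)) = (LP (LK LD1_c15 LD2_c13 LD3_c2)) :=
  Lgr Lrot8 (Lpr_gt (f5206 IH) (Lpr_dt (f4233 IH) (Lpr_gt (f569555 IH) (Lpr_dt (f193427 IH) (Lpe (f193432 IH) (Lpr_df (f193413 IH) (Lpe (f193431 IH) (Lpe (f566097 IH) (Lpe (f386154 IH) (Lpn (LP (LK LD1_c15 LD2_c13 LD3_c2))))))))))))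
theorem f4101 : Led Lsl_gt (LP (LK LD1_c13 LD2_c46 LD3_c42)) = (LP (LK LD1_c23 LD2_c13 LD3_c60)) :=
  Lre_g IH (LK LD1_c13 LD2_c46 LD3_c42) (LK LD1_c23 LD2_c13 LD3_c60) Lrfl Lrfl
theorem f5214 : Led Lsl_ct (LP (LK LD1_c7 LD2_c16 LD3_c52)) = (LP (LK LD1_c13 LD2_c46 LD3_c42)) :=
  Lre_c IH (LK LD1_c7 LD2_c16 LD3_c52) (LK LD1_c13 LD2_c46 LD3_c42) Lrfl Lrfl
theorem f569629 : Led Lsl_gf (LP (LK LD1_c10 LD2_c1 LD3_c23)) = (LP (LK LD1_c7 LD2_c14 LD3_c32)) :=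
  Lgr Lrot147 (Lpe (f565701 IH) (Lpr_gt (f569623 IH) (Lpe (K18.f237445 IH) (Lpe (f225130 IH) (Lpe (f569558 IH) (Lpe (f4101 IH) (Lpe (f5214 IH) (Lpe (K41.f17614 IH) (Lpe (K41.f17613 IH) (Lpn (LP (LK LD1_c7 LD2_c14 LD3_c32))))))))))))
theorem f569915 : Led Lsl_et (LP (LK LD1_c3 LD2_c37 LD3_c4)) = (LP (LK LD1_c7 LD2_c14 LD3_c32)) :=
  Lre_e IH (LK LD1_c3 LD2_c37 LD3_c4) (LK LD1_c7 LD2_c14 LD3_c32) Lrfl Lrfl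
theorem f6549 : Led Lsl_dt (LP (LK LD1_c3 LD2_c37 LD3_c4)) = (LP (LK LD1_c7 LD2_c14 LD3_c31)) :=
  Lre_d IH (LK LD1_c3 LD2_c37 LD3_c4) (LK LD1_c7 LD2_c14 LD3_c31) Lrfl Lrfl
theorem f98428 : Led Lsl_gt (LP (LK LD1_c13 LD2_c42 LD3_c5)) = (LP (LK LD1_c7 LD2_c14 LD3_c31)) :=
  Lre_g IH (LK LD1_c13 LD2_c42 LD3_c5) (LK LD1_c7 LD2_c14 LD3_c31) Lrfl Lrfl
theorem f38541 : Led Lsl_et (LP (LK LD1_c7 LD2_c56 LD3_c57)) = (LP (LK LD1_c3 LD2_c57 LD3_c46)) :=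
  Lre_e IH (LK LD1_c7 LD2_c56 LD3_c57) (LK LD1_c3 LD2_c57 LD3_c46) Lrfl Lrfl
theorem f569929 : Led Lsl_df (LP (LK LD1_c13 LD2_c42 LD3_c5)) = (LP (LK LD1_c7 LD2_c56 LD3_c57)) :=
  Lgr Lrot170 (Lpr_gt (f98428 IH) (Lpe (f6549 IH) (Lpr_et (f569915 IH) (Lpe (f569629 IH) (Lpe (f569904 IH) (Lpr_gt (f569916 IH) (Lpe (f5041 IH) (Lpe (f569619 IH) (Lpr_gt (K6.f36940 IH) (Lpe (f38541 IH) (Lpn (LP (LK LD1_c7 LD2_c56 LD3_c57)))))))))))))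
theorem f38581 : Led Lsl_et (LP (LK LD1_c4 LD2_c25 LD3_c21)) = (LP (LK LD1_c2 LD2_c10 LD3_c4)) :=
  Lre_e IH (LK LD1_c4 LD2_c25 LD3_c21) (LK LD1_c2 LD2_c10 LD3_c4) Lrfl Lrfl
theorem f98181 : Led Lsl_et (LP (LK LD1_c7 LD2_c6 LD3_c33)) = (LP (LK LD1_c7 LD2_c8 LD3_c20)) :=
  Lgr Lrot87 (Lpr_ef (K36.f98170 IH) (Lpn (LP (LK LD1_c7 LD2_c8 LD3_c20))))
theorem f6542 : Led Lsl_at (LP (LK LD1_c3 LD2_c32 LD3_c48)) = (LP (LK LD1_c1 LD2_c43 LD3_c37)) :=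
  Lre_a IH (LK LD1_c3 LD2_c32 LD3_c48) (LK LD1_c1 LD2_c43 LD3_c37) Lrfl Lrfl
theorem f6131 : Led Lsl_ct (LP (LK LD1_c1 LD2_c43 LD3_c37)) = (LP (LK LD1_c3 LD2_c33 LD3_c44)) :=
  Lre_c IH (LK LD1_c1 LD2_c43 LD3_c37) (LK LD1_c3 LD2_c33 LD3_c44) Lrfl Lrfl
theorem f98345 : Led Lsl_af (LP (LK LD1_c1 LD2_c45 LD3_c26)) = (LP (LK LD1_c3 LD2_c33 LD3_c44)) :=
  Lgr Lrot68 (Lpr_ct (K36.f98333 IH) (Lpr_at (f6542 IH) (Lpr_ct (f6131 IH) (Lpn (LP (LK LD1_c3 LD2_c33 LD3_c44))))))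
theorem f98398 : Led Lsl_ft (LP (LK LD1_c7 LD2_c8 LD3_c20)) = (LP (LK LD1_c3 LD2_c33 LD3_c44)) :=
  Lre_f IH (LK LD1_c7 LD2_c8 LD3_c20) (LK LD1_c3 LD2_c33 LD3_c44) Lrfl Lrfl
theorem f98399 : Led Lsl_gf (LP (LK LD1_c3 LD2_c37 LD3_c5)) = (LP (LK LD1_c7 LD2_c8 LD3_c20)) :=
  Lgr Lrot47 (Lpr_gt (f6556 IH) (Lpr_af (f98345 IH) (Lpe (f98398 IH) (Lpn (LP (LK LD1_c7 LD2_c8 LD3_c20))))))
theorem f98352 : Led Lsl_dt (LP (LK LD1_c3 LD2_c37 LD3_c5)) = (LP (LK LD1_c7 LD2_c14 LD3_c34)) :=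
  Lre_d IH (LK LD1_c3 LD2_c37 LD3_c5) (LK LD1_c7 LD2_c14 LD3_c34) Lrfl Lrfl
theorem f569955 : Led Lsl_gf (LP (LK LD1_c13 LD2_c42 LD3_c5)) = (LP (LK LD1_c7 LD2_c14 LD3_c34)) :=
  Lgr Lrot134 (Lpr_df (f569929 IH) (Lpr_et (f38541 IH) (Lpe (K6.f38573 IH) (Lpe (f38581 IH) (Lpr_dt (K41.f565755 IH) (Lpr_gt (K41.f98165 IH) (Lpe (K36.f98169 IH) (Lpr_et (f98181 IH) (Lpe (f98399 IH) (Lpr_dt (f98352 IH) (Lpn (LP (LK LD1_c7 LD2_c14 LD3_c34)))))))))))))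
theorem f569877 : Led Lsl_ef (LP (LK LD1_c6 LD2_c14 LD3_c3)) = (LP (LK LD1_c3 LD2_c37 LD3_c5)) :=
  Lgr Lrot88 (Lpr_et (f569869 IH) (Lpn (LP (LK LD1_c3 LD2_c37 LD3_c5))))
theorem f569957 : Led Lsl_gf (LP (LK LD1_c6 LD2_c14 LD3_c3)) = (LP (LK LD1_c8 LD2_c2 LD3_c6)) :=
  Lgr Lrot141 (Lpr_ef (f569877 IH) (Lpr_dt (f98352 IH) (Lpe (f569955 IH) (Lpr_df (f569929 IH) (Lpr_et (f38541 IH) (Lpe (K6.f38573 IH) (Lpr_dt (K2.f38575 IH) (Lpr_gt (K5.f72135 IH) (Lpe (K36.f112679 IH) (Lpr_et (f112681 IH) (Lpn (LP (LK LD1_c8 LD2_c2 LD3_c6)))))))))))))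
theorem f277538 : Led Lsl_dt (LP (LK LD1_c10 LD2_c39 LD3_c13)) = (LP (LK LD1_c8 LD2_c1 LD3_c41)) :=
  Lgr Lrot42 (Lpr_df (K41.f277529 IH) (Lpn (LP (LK LD1_c8 LD2_c1 LD3_c41))))
theorem f569638 : Led Lsl_ct (LP (LK LD1_c7 LD2_c8 LD3_c7)) = (LP (LK LD1_c7 LD2_c7 LD3_c57)) :=
  Lgr Lrot15 (Lpe (K41.f540727 IH) (Lpe (K28.f203354 IH) (Lpr_ef (f569631 IH) (Lpn (LP (LK LD1_c7 LD2_c7 LD3_c57))))))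
theorem f540740 : Led Lsl_df (LP (LK LD1_c8 LD2_c2 LD3_c6)) = (LP (LK LD1_c13 LD2_c30 LD3_c61)) :=
  Lgr Lrot38 (Lpr_dt (f540733 IH) (Lpn (LP (LK LD1_c13 LD2_c30 LD3_c61))))
theorem f569659 : Led Lsl_ct (LP (LK LD1_c8 LD2_c1 LD3_c41)) = (LP (LK LD1_c8 LD2_c2 LD3_c6)) :=
  Lgr Lrot7 (Lpe (f277538 IH) (Lpe (K41.f565671 IH) (Lpe (K38.f197440 IH) (Lpr_gf (f569655 IH) (Lpe (f569638 IH) (Lpe (K41.f160330 IH) (Lpr_dt (f160323 IH) (Lpr_gt (f160389 IH) (Lpe (f540740 IH) (Lpn (LP (LK LD1_c8 LD2_c2 LD3_c6))))))))))))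
theorem f297414 : Led Lsl_ft (LP (LK LD1_c4 LD2_c0 LD3_c22)) = (LP (LK LD1_c3 LD2_c59 LD3_c59)) :=
  Lgr Lrot48 (Lpr_ff (K18.f297410 IH) (Lpn (LP (LK LD1_c3 LD2_c59 LD3_c59))))
theorem f406898 : Led Lsl_gt (LP (LK LD1_c8 LD2_c1 LD3_c41)) = (LP (LK LD1_c8 LD2_c1 LD3_c1)) :=
  Lgr Lrot46 (Lpe (K41.f29608 IH) (Lpr_ft (f297414 IH) (Lpr_at (K18.f210755 IH) (Lpn (LP (LK LD1_c8 LD2_c1 LD3_c1))))))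
theorem f93100 : Led Lsl_dt (LP (LK LD1_c13 LD2_c41 LD3_c42)) = (LP (LK LD1_c7 LD2_c14 LD3_c13)) :=
  Lre_d IH (LK LD1_c13 LD2_c41 LD3_c42) (LK LD1_c7 LD2_c14 LD3_c13) Lrfl Lrfl
theorem f569959 : Led Lsl_gt (LP (LK LD1_c12 LD2_c6 LD3_c44)) = (LP (LK LD1_c13 LD2_c41 LD3_c42)) :=
  Lgr Lrot49 (Lpe (K39.f410579 IH) (Lpr_gf (f569957 IH) (Lpe (f569659 IH) (Lpr_gt (f406898 IH) (Lpr_dt (K18.f210757 IH) (Lpr_gt (K41.f400041 IH) (Lpr_dt (K41.f400040 IH) (Lpe (f569675 IH) (Lpe (f93100 IH) (Lpn (LP (LK LD1_c13 LD2_c41 LD3_c42))))))))))))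
theorem f93099 : Led Lsl_dt (LP (LK LD1_c7 LD2_c14 LD3_c13)) = (LP (LK LD1_c13 LD2_c41 LD3_c42)) :=
  Lre_d IH (LK LD1_c7 LD2_c14 LD3_c13) (LK LD1_c13 LD2_c41 LD3_c42) Lrfl Lrfl
theorem f569963 : Led Lsl_et (LP (LK LD1_c7 LD2_c14 LD3_c13)) = (LP (LK LD1_c8 LD2_c48 LD3_c13)) :=
  Lgr Lrot185 (Lpr_dt (f93099 IH) (Lpe (f569959 IH) (Lpe (K39.f410579 IH) (Lpr_gf (f569957 IH) (Lpe (f112681 IH) (Lpr_dt (K36.f112679 IH) (Lpe (K5.f72135 IH) (Lpe (K2.f38575 IH) (Lpr_et (f38593 IH) (Lpe (K41.f72139 IH) (Lpn (LP (LK LD1_c8 LD2_c48 LD3_c13)))))))))))))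
theorem f239050 : Led Lsl_bt (LP (LK LD1_c11 LD2_c29 LD3_c14)) = (LP (LK LD1_c20 LD2_c26 LD3_c20)) :=
  Lre_b IH (LK LD1_c11 LD2_c29 LD3_c14) (LK LD1_c20 LD2_c26 LD3_c20) Lrfl Lrfl
theorem f239051 : Led Lsl_bt (LP (LK LD1_c16 LD2_c34 LD3_c0)) = (LP (LK LD1_c8 LD2_c51 LD3_c42)) :=
  Lre_b IH (LK LD1_c16 LD2_c34 LD3_c0) (LK LD1_c8 LD2_c51 LD3_c42) Lrfl Lrfl
theorem f239052 : Led Lsl_dt (LP (LK LD1_c20 LD2_c26 LD3_c20)) = (LP (LK LD1_c16 LD2_c34 LD3_c0)) :=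
  Lgr Lrot79 (Lpe (f239050 IH) (Lpr_df (K37.f239020 IH) (Lpe (f239051 IH) (Lpn (LP (LK LD1_c16 LD2_c34 LD3_c0))))))
theorem f239056 : Led Lsl_et (LP (LK LD1_c11 LD2_c29 LD3_c13)) = (LP (LK LD1_c20 LD2_c26 LD3_c20)) :=
  Lre_e IH (LK LD1_c11 LD2_c29 LD3_c13) (LK LD1_c20 LD2_c26 LD3_c20) Lrfl Lrfl
theorem f540969 : Led Lsl_dt (LP (LK LD1_c7 LD2_c57 LD3_c7)) = (LP (LK LD1_c11 LD2_c29 LD3_c13)) :=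
  Lgr Lrot77 (Lpr_ef (K36.f540832 IH) (Lpe (K41.f198226 IH) (Lpe (f239057 IH) (Lpe (f239052 IH) (Lpe (f239056 IH) (Lpn (LP (LK LD1_c11 LD2_c29 LD3_c13))))))))
theorem f38537 : Led Lsl_et (LP (LK LD1_c3 LD2_c57 LD3_c46)) = (LP (LK LD1_c7 LD2_c56 LD3_c57)) :=
  Lre_e IH (LK LD1_c3 LD2_c57 LD3_c46) (LK LD1_c7 LD2_c56 LD3_c57) Lrfl Lrfl
theorem f558232 : Led Lsl_gt (LP (LK LD1_c4 LD2_c26 LD3_c56)) = (LP (LK LD1_c7 LD2_c56 LD3_c57)) :=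
  Lgr Lrot131 (Lpe (K36.f540971 IH) (Lpr_dt (f540969 IH) (Lpr_gf (K40.f544082 IH) (Lpe (K40.f442176 IH) (Lpr_gf (K40.f558226 IH) (Lpe (f546567 IH) (Lpe (K36.f80721 IH) (Lpr_gf (K28.f38226 IH) (Lpe (K28.f202055 IH) (Lpr_et (f38537 IH) (Lpn (LP (LK LD1_c7 LD2_c56 LD3_c57)))))))))))))
theorem f426386 : Led Lsl_at (LP (LK LD1_c7 LD2_c56 LD3_c56)) = (LP (LK LD1_c4 LD2_c25 LD3_c17)) :=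
  Lgr Lrot66 (Lpr_ff (K28.f426384 IH) (Lpe (K28.f426368 IH) (Lpr_ff (K28.f426362 IH) (Lpn (LP (LK LD1_c4 LD2_c25 LD3_c17))))))
theorem f426418 : Led Lsl_at (LP (LK LD1_c3 LD2_c57 LD3_c46)) = (LP (LK LD1_c2 LD2_c10 LD3_c3)) :=
  Lgr Lrot67 (Lpe (K6.f38530 IH) (Lpe (f426386 IH) (Lpe (K28.f138750 IH) (Lpr_af (K28.f426400 IH) (Lpe (K8.f38539 IH) (Lpn (LP (LK LD1_c2 LD2_c10 LD3_c3))))))))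
theorem f80774 : Led Lsl_et (LP (LK LD1_c2 LD2_c10 LD3_c3)) = (LP (LK LD1_c4 LD2_c25 LD3_c19)) :=
  Lre_e IH (LK LD1_c2 LD2_c10 LD3_c3) (LK LD1_c4 LD2_c25 LD3_c19) Lrfl Lrfl
theorem f427427 : Led Lsl_af (LP (LK LD1_c7 LD2_c56 LD3_c57)) = (LP (LK LD1_c4 LD2_c25 LD3_c19)) :=
  Lgr Lrot50 (Lpr_et (f38541 IH) (Lpr_at (f426418 IH) (Lpr_et (f80774 IH) (Lpn (LP (LK LD1_c4 LD2_c25 LD3_c19))))))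
theorem f565749 : Led Lsl_ff (LP (LK LD1_c4 LD2_c25 LD3_c19)) = (LP (LK LD1_c8 LD2_c44 LD3_c8)) :=
  Lgr Lrot52 (Lpe (f427427 IH) (Lpe (f558232 IH) (Lpr_gf (K41.f565747 IH) (Lpn (LP (LK LD1_c8 LD2_c44 LD3_c8))))))
theorem f569653 : Led Lsl_ff (LP (LK LD1_c4 LD2_c23 LD3_c13)) = (LP (LK LD1_c7 LD2_c7 LD3_c57)) :=
  Lgr Lrot72 (Lpr_et (K41.f400049 IH) (Lpe (f565749 IH) (Lpr_et (K41.f72123 IH) (Lpe (K28.f426424 IH) (Lpr_et (f569642 IH) (Lpn (LP (LK LD1_c7 LD2_c7 LD3_c57))))))))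
theorem f569657 : Led Lsl_af (LP (LK LD1_c7 LD2_c7 LD3_c58)) = (LP (LK LD1_c4 LD2_c23 LD3_c13)) :=
  Lgr Lrot31 (Lpe (K41.f553338 IH) (Lpr_gf (f569655 IH) (Lpe (f569653 IH) (Lpn (LP (LK LD1_c4 LD2_c23 LD3_c13))))))
theorem f569677 : Led Lsl_af (LP (LK LD1_c7 LD2_c14 LD3_c13)) = (LP (LK LD1_c7 LD2_c8 LD3_c8)) :=
  Lgr Lrot68 (Lpr_ct (f569675 IH) (Lpe (f569657 IH) (Lpr_ct (K41.f564991 IH) (Lpn (LP (LK LD1_c7 LD2_c8 LD3_c8))))))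
theorem f569965 : Led Lsl_af (LP (LK LD1_c4 LD2_c25 LD3_c27)) = (LP (LK LD1_c8 LD2_c48 LD3_c13)) :=
  Lgr Lrot50 (Lpr_et (K41.f565036 IH) (Lpe (f569677 IH) (Lpr_et (f569963 IH) (Lpn (LP (LK LD1_c8 LD2_c48 LD3_c13))))))
theorem f569973 : Led Lsl_ft (LP (LK LD1_c4 LD2_c25 LD3_c26)) = (LP (LK LD1_c8 LD2_c48 LD3_c13)) :=
  Lgr Lrot2 (Lpr_gt (f569902 IH) (Lpe (K41.f565069 IH) (Lpr_af (f569965 IH) (Lpn (LP (LK LD1_c8 LD2_c48 LD3_c13))))))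
theorem f569981 : Led Lsl_ff (LP (LK LD1_c4 LD2_c25 LD3_c26)) = (LP (LK LD1_c8 LD2_c48 LD3_c13)) :=
  Lgr Lrot3 (Lpr_ft (f569973 IH) (Lpn (LP (LK LD1_c8 LD2_c48 LD3_c13))))
theorem f569900 : Led Lsl_et (LP (LK LD1_c4 LD2_c25 LD3_c26)) = (LP (LK LD1_c4 LD2_c25 LD3_c17)) :=
  Lgr Lrot87 (Lpr_ef (f569891 IH) (Lpn (LP (LK LD1_c4 LD2_c25 LD3_c17))))
theorem f569991 : Led Lsl_ft (LP (LK LD1_c7 LD2_c8 LD3_c7)) = (LP (LK LD1_c7 LD2_c14 LD3_c13)) :=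
  Lgr Lrot86 (Lpe (K41.f540727 IH) (Lpr_ff (K28.f426362 IH) (Lpe (f569900 IH) (Lpr_ff (f569981 IH) (Lpe (f569963 IH) (Lpn (LP (LK LD1_c7 LD2_c14 LD3_c13))))))))
theorem f569997 : Led Lsl_af (LP (LK LD1_c7 LD2_c8 LD3_c8)) = (LP (LK LD1_c7 LD2_c14 LD3_c13)) :=
  Lgr Lrot31 (Lpe (K41.f160321 IH) (Lpr_gf (K41.f160330 IH) (Lpr_ft (f569991 IH) (Lpn (LP (LK LD1_c7 LD2_c14 LD3_c13))))))
theorem f569885 : Led Lsl_at (LP (LK LD1_c7 LD2_c14 LD3_c12)) = (LP (LK LD1_c7 LD2_c8 LD3_c7)) :=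
  Lgr Lrot80 (Lpr_ef (f569883 IH) (Lpe (K28.f426368 IH) (Lpr_ef (K41.f540731 IH) (Lpn (LP (LK LD1_c7 LD2_c8 LD3_c7))))))
theorem f570005 : Led Lsl_ft (LP (LK LD1_c7 LD2_c8 LD3_c8)) = (LP (LK LD1_c7 LD2_c14 LD3_c12)) :=
  Lgr Lrot101 (Lpr_af (f569997 IH) (Lpe (f569991 IH) (Lpe (f569885 IH) (Lpn (LP (LK LD1_c7 LD2_c14 LD3_c12))))))
theorem f570011 : Led Lsl_ff (LP (LK LD1_c7 LD2_c8 LD3_c8)) = (LP (LK LD1_c7 LD2_c14 LD3_c12)) :=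
  Lgr Lrot3 (Lpr_ft (f570005 IH) (Lpn (LP (LK LD1_c7 LD2_c14 LD3_c12))))
theorem f552741 : Led Lsl_bt (LP (LK LD1_c3 LD2_c36 LD3_c48)) = (LP (LK LD1_c4 LD2_c32 LD3_c57)) :=
  Lgr Lrot95 (Lpe (K8.f93097 IH) (Lpr_bf (K39.f552738 IH) (Lpe (K39.f552726 IH) (Lpn (LP (LK LD1_c4 LD2_c32 LD3_c57))))))
theorem f181688 : Led Lsl_bt (LP (LK LD1_c2 LD2_c46 LD3_c49)) = (LP (LK LD1_c5 LD2_c41 LD3_c31)) :=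
  Lre_b IH (LK LD1_c2 LD2_c46 LD3_c49) (LK LD1_c5 LD2_c41 LD3_c31) Lrfl Lrfl
theorem f568884 : Led Lsl_cf (LP (LK LD1_c7 LD2_c14 LD3_c13)) = (LP (LK LD1_c4 LD2_c23 LD3_c13)) :=
  Lgr Lrot125 (Lpr_gt (f10686 IH) (Lpr_cf (K8.f93088 IH) (Lpr_bt (f552741 IH) (Lpr_gt (f568875 IH) (Lpe (K37.f181269 IH) (Lpr_ct (K37.f181299 IH) (Lpe (K30.f269080 IH) (Lpe (K16.f269058 IH) (Lpr_bt (f181688 IH) (Lpr_gt (f550009 IH) (Lpn (LP (LK LD1_c4 LD2_c23 LD3_c13)))))))))))))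
theorem f570019 : Led Lsl_cf (LP (LK LD1_c16 LD2_c20 LD3_c23)) = (LP (LK LD1_c13 LD2_c41 LD3_c41)) :=
  Lgr Lrot118 (Lpe (K39.f397390 IH) (Lpr_ct (K38.f169225 IH) (Lpr_dt (f400073 IH) (Lpr_ct (K41.f400046 IH) (Lpr_dt (K41.f400040 IH) (Lpe (f568884 IH) (Lpr_af (f569677 IH) (Lpr_ff (f570011 IH) (Lpr_dt (f93096 IH) (Lpn (LP (LK LD1_c13 LD2_c41 LD3_c41))))))))))))
theorem f404355 : Led Lsl_ct (LP (LK LD1_c14 LD2_c58 LD3_c46)) = (LP (LK LD1_c19 LD2_c17 LD3_c37)) :=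
  Lgr Lrot59 (Lpr_cf (K41.f404352 IH) (Lpn (LP (LK LD1_c19 LD2_c17 LD3_c37))))
theorem f553355 : Led Lsl_gf (LP (LK LD1_c19 LD2_c17 LD3_c37)) = (LP (LK LD1_c22 LD2_c50 LD3_c61)) :=
  Lgr Lrot129 (Lpe (f404355 IH) (Lpr_bt (K41.f172306 IH) (Lpr_gt (K41.f172305 IH) (Lpe (K40.f39881 IH) (Lpr_ct (K1.f38951 IH) (Lpr_gt (K14.f236888 IH) (Lpe (K13.f236594 IH) (Lpr_bt (K18.f236764 IH) (Lpr_gt (K39.f553350 IH) (Lpr_ct (f553354 IH) (Lpn (LP (LK LD1_c22 LD2_c50 LD3_c61)))))))))))))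
theorem f570025 : Led Lsl_gt (LP (LK LD1_c14 LD2_c58 LD3_c46)) = (LP (LK LD1_c13 LD2_c41 LD3_c41)) :=
  Lgr Lrot150 (Lpr_cf (K41.f404352 IH) (Lpr_gf (f553355 IH) (Lpe (f569779 IH) (Lpr_gt (f312968 IH) (Lpr_ct (f278296 IH) (Lpr_gt (K38.f312963 IH) (Lpe (K38.f169241 IH) (Lpr_df (K39.f397390 IH) (Lpr_cf (f570019 IH) (Lpn (LP (LK LD1_c13 LD2_c41 LD3_c41))))))))))))
theorem f556808 : Led Lsl_df (LP (LK LD1_c5 LD2_c37 LD3_c42)) = (LP (LK LD1_c7 LD2_c56 LD3_c26)) :=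
  Lgr Lrot38 (Lpr_dt (K41.f556802 IH) (Lpn (LP (LK LD1_c7 LD2_c56 LD3_c26))))
theorem f556815 : Led Lsl_dt (LP (LK LD1_c11 LD2_c6 LD3_c49)) = (LP (LK LD1_c14 LD2_c58 LD3_c46)) :=
  Lgr Lrot79 (Lpe (K41.f556775 IH) (Lpr_df (f556808 IH) (Lpe (K41.f172306 IH) (Lpn (LP (LK LD1_c14 LD2_c58 LD3_c46))))))
theorem f569539 : Led Lsl_ef (LP (LK LD1_c10 LD2_c16 LD3_c10)) = (LP (LK LD1_c6 LD2_c13 LD3_c46)) :=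
  Lgr Lrot88 (Lpr_et (f569529 IH) (Lpn (LP (LK LD1_c6 LD2_c13 LD3_c46))))
theorem f80741 : Led Lsl_dt (LP (LK LD1_c12 LD2_c6 LD3_c14)) = (LP (LK LD1_c6 LD2_c13 LD3_c46)) :=
  Lre_d IH (LK LD1_c12 LD2_c6 LD3_c14) (LK LD1_c6 LD2_c13 LD3_c46) Lrfl Lrfl
theorem f541088 : Led Lsl_gf (LP (LK LD1_c12 LD2_c6 LD3_c14)) = (LP (LK LD1_c12 LD2_c23 LD3_c46)) :=
  Lgr Lrot144 (Lpr_dt (f80741 IH) (Lpr_gt (K36.f540693 IH) (Lpr_dt (K36.f98027 IH) (Lpe (K41.f98030 IH) (Lpe (K37.f540723 IH) (Lpe (K36.f99184 IH) (Lpr_df (K4.f102103 IH) (Lpe (K36.f81101 IH) (Lpr_cf (K36.f541080 IH) (Lpn (LP (LK LD1_c12 LD2_c23 LD3_c46))))))))))))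
theorem f5692 : Led Lsl_et (LP (LK LD1_c7 LD2_c19 LD3_c17)) = (LP (LK LD1_c3 LD2_c39 LD3_c32)) :=
  Lre_e IH (LK LD1_c7 LD2_c19 LD3_c17) (LK LD1_c3 LD2_c39 LD3_c32) Lrfl Lrfl
theorem f569601 : Led Lsl_dt (LP (LK LD1_c7 LD2_c19 LD3_c17)) = (LP (LK LD1_c12 LD2_c23 LD3_c46)) :=
  Lgr Lrot136 (Lpr_et (f5692 IH) (Lpe (K41.f5686 IH) (Lpe (K41.f5017 IH) (Lpr_dt (K0.f5038 IH) (Lpe (f5167 IH) (Lpr_df (f569587 IH) (Lpe (f417969 IH) (Lpr_ef (f569539 IH) (Lpr_dt (K28.f80740 IH) (Lpr_gf (f541088 IH) (Lpn (LP (LK LD1_c12 LD2_c23 LD3_c46)))))))))))))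
theorem f570031 : Led Lsl_gf (LP (LK LD1_c7 LD2_c19 LD3_c17)) = (LP (LK LD1_c4 LD2_c25 LD3_c14)) :=
  Lgr Lrot138 (Lpr_dt (f569601 IH) (Lpe (f541088 IH) (Lpe (K28.f80740 IH) (Lpe (f569539 IH) (Lpr_gt (f417969 IH) (Lpr_ef (K41.f556857 IH) (Lpr_dt (f556815 IH) (Lpr_gt (f570025 IH) (Lpe (f93096 IH) (Lpr_et (f569879 IH) (Lpn (LP (LK LD1_c4 LD2_c25 LD3_c14)))))))))))))
theorem f29481 : Led Lsl_gt (LP (LK LD1_c4 LD2_c0 LD3_c39)) = (LP (LK LD1_c1 LD2_c57 LD3_c9)) :=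
  Lre_g IH (LK LD1_c4 LD2_c0 LD3_c39) (LK LD1_c1 LD2_c57 LD3_c9) Lrfl Lrfl
def v1376 : LQ := Led Lsl_gt (LP (LK LD1_c1 LD2_c9 LD3_c13))
theorem f495201 : Led Lsl_gt (LP (LK LD1_c1 LD2_c9 LD3_c13)) = v1376 :=
  Lrfl
theorem f496234 : Led Lsl_gt v1376 = K39.v1552 :=
  Lgr Lrot46 (Lpe (f495201 IH) (Lpr_ft (K35.f80863 IH) (Lpr_at (K39.f496229 IH) (Lpn K39.v1552))))
theorem f496220 : Led Lsl_ft (LP (LK LD1_c2 LD2_c24 LD3_c15)) = K31.v1551 :=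
  Lgr Lrot48 (Lpr_ff (K31.f496218 IH) (Lpn K31.v1551))
theorem f496225 : Led Lsl_af v1376 = K31.v1551 :=
  Lgr Lrot31 (Lpe (f495201 IH) (Lpe (K31.f3034 IH) (Lpr_ft (f496220 IH) (Lpn K31.v1551))))
theorem f496223 : Led Lsl_af (LP (LK LD1_c2 LD2_c24 LD3_c15)) = (LP (LK LD1_c2 LD2_c51 LD3_c6)) :=
  Lgr Lrot0 (Lpr_at (K31.f496221 IH) (Lpn (LP (LK LD1_c2 LD2_c51 LD3_c6))))
theorem f496227 : Led Lsl_ft v1376 = (LP (LK LD1_c2 LD2_c51 LD3_c6)) :=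
  Lgr Lrot101 (Lpr_af (f496225 IH) (Lpe (f496220 IH) (Lpr_af (f496223 IH) (Lpn (LP (LK LD1_c2 LD2_c51 LD3_c6))))))
theorem f496235 : Led Lsl_gf (LP (LK LD1_c2 LD2_c24 LD3_c15)) = K39.v1552 :=
  Lgr Lrot76 (Lpr_af (f496223 IH) (Lpe (f496227 IH) (Lpr_gt (f496234 IH) (Lpn K39.v1552))))
theorem f496236 : Led Lsl_ct (LP (LK LD1_c3 LD2_c3 LD3_c36)) = K39.v1552 :=
  Lgr Lrot64 (Lpe (K41.f80889 IH) (Lpe (K39.f29484 IH) (Lpr_bf (K6.f69362 IH) (Lpr_ct (K6.f59544 IH) (Lpe (K6.f101681 IH) (Lpe (K4.f40090 IH) (Lpr_gf (K8.f101650 IH) (Lpe (K31.f443880 IH) (Lpr_ct (K31.f3035 IH) (Lpr_gf (f496235 IH) (Lpn K39.v1552)))))))))))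
theorem f570039 : Led Lsl_bf (LP (LK LD1_c7 LD2_c19 LD3_c17)) = (LP (LK LD1_c4 LD2_c1 LD3_c18)) :=
  Lgr Lrot34 (Lpr_gf (f570031 IH) (Lpr_bf (K28.f38542 IH) (Lpe (K28.f158256 IH) (Lpe (K32.f158268 IH) (Lpe (K7.f29486 IH) (Lpe (f29481 IH) (Lpr_bf (K41.f80889 IH) (Lpr_ct (f496236 IH) (Lpq (K39.f536773 IH) (Lpr_gf (K12.f182400 IH) (Lpe (K39.f182402 IH) (Lpn (LP (LK LD1_c4 LD2_c1 LD3_c18))))))))))))))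
theorem f540967 : Led Lsl_bt (LP (LK LD1_c7 LD2_c57 LD3_c7)) = (LP (LK LD1_c4 LD2_c26 LD3_c58)) :=
  Lgr Lrot119 (Lpr_ef (K36.f540832 IH) (Lpe (K41.f197999 IH) (Lpe (K36.f101322 IH) (Lpn (LP (LK LD1_c4 LD2_c26 LD3_c58))))))
theorem f570043 : Led Lsl_ft (LP (LK LD1_c7 LD2_c19 LD3_c17)) = (LP (LK LD1_c7 LD2_c57 LD3_c7)) :=
  Lgr Lrot75 (Lpr_bf (f570039 IH) (Lpe (K36.f411215 IH) (Lpe (f540967 IH) (Lpn (LP (LK LD1_c7 LD2_c57 LD3_c7))))))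
theorem f570049 : Led Lsl_ff (LP (LK LD1_c7 LD2_c19 LD3_c17)) = (LP (LK LD1_c7 LD2_c57 LD3_c7)) :=
  Lgr Lrot3 (Lpr_ft (f570043 IH) (Lpn (LP (LK LD1_c7 LD2_c57 LD3_c7))))
theorem f570051 : Led Lsl_at (LP (LK LD1_c7 LD2_c19 LD3_c17)) = (LP (LK LD1_c4 LD2_c36 LD3_c43)) :=
  Lgr Lrot66 (Lpr_ff (f570049 IH) (Lpe (K36.f159128 IH) (Lpe (K36.f159125 IH) (Lpn (LP (LK LD1_c4 LD2_c36 LD3_c43))))))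
theorem f566092 : Led Lsl_et (LP (LK LD1_c3 LD2_c39 LD3_c32)) = (LP (LK LD1_c7 LD2_c19 LD3_c17)) :=
  Lre_e IH (LK LD1_c3 LD2_c39 LD3_c32) (LK LD1_c7 LD2_c19 LD3_c17) Lrfl Lrfl
theorem f570055 : Led Lsl_af (LP (LK LD1_c3 LD2_c39 LD3_c32)) = (LP (LK LD1_c7 LD2_c17 LD3_c25)) :=
  Lgr Lrot50 (Lpr_et (f566092 IH) (Lpr_at (f570051 IH) (Lpe (K41.f542503 IH) (Lpn (LP (LK LD1_c7 LD2_c17 LD3_c25))))))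
theorem f5132 : Led Lsl_af (LP (LK LD1_c7 LD2_c17 LD3_c27)) = (LP (LK LD1_c3 LD2_c39 LD3_c34)) :=
  Lgr Lrot117 (Lpr_dt (f5042 IH) (Lpr_at (K0.f5126 IH) (Lpr_dt (K0.f5128 IH) (Lpn (LP (LK LD1_c3 LD2_c39 LD3_c34))))))
theorem f5671 : Led Lsl_gf (LP (LK LD1_c7 LD2_c17 LD3_c27)) = (LP (LK LD1_c3 LD2_c39 LD3_c31)) :=
  Lgr Lrot76 (Lpr_af (f5132 IH) (Lpe (K0.f5163 IH) (Lpr_gt (K41.f5185 IH) (Lpn (LP (LK LD1_c3 LD2_c39 LD3_c31))))))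
theorem f570065 : Led Lsl_ft (LP (LK LD1_c3 LD2_c39 LD3_c31)) = (LP (LK LD1_c7 LD2_c17 LD3_c25)) :=
  Lgr Lrot2 (Lpe (f5671 IH) (Lpr_gt (K41.f5686 IH) (Lpr_af (f570055 IH) (Lpn (LP (LK LD1_c7 LD2_c17 LD3_c25))))))
theorem f5419 : Led Lsl_ct (LP (LK LD1_c7 LD2_c19 LD3_c14)) = (LP (LK LD1_c13 LD2_c50 LD3_c47)) :=
  Lre_c IH (LK LD1_c7 LD2_c19 LD3_c14) (LK LD1_c13 LD2_c50 LD3_c47) Lrfl Lrfl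
theorem f570067 : Led Lsl_dt (LP (LK LD1_c13 LD2_c50 LD3_c47)) = (LP (LK LD1_c23 LD2_c19 LD3_c54)) :=
  Lre_d IH (LK LD1_c13 LD2_c50 LD3_c47) (LK LD1_c23 LD2_c19 LD3_c54) Lrfl Lrfl
theorem f570068 : Led Lsl_cf (LP (LK LD1_c25 LD2_c2 LD3_c51)) = (LP (LK LD1_c23 LD2_c19 LD3_c54)) :=
  Lgr Lrot116 (Lpr_dt (f193427 IH) (Lpr_ct (f193426 IH) (Lpr_dt (f193424 IH) (Lpe (K41.f566085 IH) (Lpr_af (f570055 IH) (Lpe (f570065 IH) (Lpr_dt (f5186 IH) (Lpr_ct (f5419 IH) (Lpr_dt (f570067 IH) (Lpn (LP (LK LD1_c23 LD2_c19 LD3_c54))))))))))))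
theorem f538334 : Led Lsl_bt (LP (LK LD1_c4 LD2_c37 LD3_c3)) = (LP (LK LD1_c9 LD2_c9 LD3_c42)) :=
  Lre_b IH (LK LD1_c4 LD2_c37 LD3_c3) (LK LD1_c9 LD2_c9 LD3_c42) Lrfl Lrfl
theorem f538335 : Led Lsl_af (LP (LK LD1_c8 LD2_c5 LD3_c15)) = (LP (LK LD1_c9 LD2_c9 LD3_c42)) :=
  Lgr Lrot36 (Lpr_bt (f193412 IH) (Lpr_at (K16.f240565 IH) (Lpr_bt (K16.f197214 IH) (Lpr_at (K35.f538328 IH) (Lpr_bt (f538334 IH) (Lpn (LP (LK LD1_c9 LD2_c9 LD3_c42))))))))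
theorem f5190 : Led Lsl_dt (LP (LK LD1_c13 LD2_c50 LD3_c45)) = (LP (LK LD1_c7 LD2_c19 LD3_c13)) :=
  Lre_d IH (LK LD1_c13 LD2_c50 LD3_c45) (LK LD1_c7 LD2_c19 LD3_c13) Lrfl Lrfl
theorem f570073 : Led Lsl_ff (LP (LK LD1_c9 LD2_c9 LD3_c42)) = (LP (LK LD1_c13 LD2_c50 LD3_c45)) :=
  Lgr Lrot103 (Lpe (f538335 IH) (Lpe (f193426 IH) (Lpe (f193427 IH) (Lpr_cf (f570068 IH) (Lpe (f570067 IH) (Lpe (f5419 IH) (Lpe (f5186 IH) (Lpe (K41.f5197 IH) (Lpe (f5190 IH) (Lpn (LP (LK LD1_c13 LD2_c50 LD3_c45))))))))))))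
theorem f570081 : Led Lsl_ft (LP (LK LD1_c9 LD2_c9 LD3_c42)) = (LP (LK LD1_c13 LD2_c50 LD3_c45)) :=
  Lgr Lrot48 (Lpr_ff (f570073 IH) (Lpn (LP (LK LD1_c13 LD2_c50 LD3_c45))))
theorem f137871 : Led Lsl_dt (LP (LK LD1_c4 LD2_c36 LD3_c56)) = (LP (LK LD1_c9 LD2_c9 LD3_c42)) :=
  Lre_d IH (LK LD1_c4 LD2_c36 LD3_c56) (LK LD1_c9 LD2_c9 LD3_c42) Lrfl Lrfl
theorem f570090 : Led Lsl_ff (LP (LK LD1_c4 LD2_c36 LD3_c56)) = (LP (LK LD1_c7 LD2_c19 LD3_c13)) :=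
  Lgr Lrot19 (Lpr_dt (f137871 IH) (Lpr_ft (f570081 IH) (Lpr_dt (f5190 IH) (Lpn (LP (LK LD1_c7 LD2_c19 LD3_c13))))))
theorem f142215 : Led Lsl_dt (LP (LK LD1_c9 LD2_c9 LD3_c37)) = (LP (LK LD1_c4 LD2_c36 LD3_c54)) :=
  Lre_d IH (LK LD1_c9 LD2_c9 LD3_c37) (LK LD1_c4 LD2_c36 LD3_c54) Lrfl Lrfl
theorem f142225 : Led Lsl_ft (LP (LK LD1_c4 LD2_c36 LD3_c54)) = (LP (LK LD1_c4 LD2_c0 LD3_c7)) :=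
  Lgr Lrot54 (Lpe (f142215 IH) (Lpr_ff (K8.f142222 IH) (Lpe (K36.f142208 IH) (Lpn (LP (LK LD1_c4 LD2_c0 LD3_c7))))))
theorem f282226 : Led Lsl_ft (LP (LK LD1_c5 LD2_c8 LD3_c30)) = (LP (LK LD1_c6 LD2_c5 LD3_c42)) :=
  Lgr Lrot54 (Lpe (K14.f33196 IH) (Lpr_ff (K17.f282220 IH) (Lpr_df (K15.f231911 IH) (Lpn (LP (LK LD1_c6 LD2_c5 LD3_c42))))))
theorem f240449 : Led Lsl_bt (LP (LK LD1_c10 LD2_c7 LD3_c21)) = (LP (LK LD1_c5 LD2_c8 LD3_c30)) :=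
  Lre_b IH (LK LD1_c10 LD2_c7 LD3_c21) (LK LD1_c5 LD2_c8 LD3_c30) Lrfl Lrfl
theorem f183815 : Led Lsl_bt (LP (LK LD1_c6 LD2_c5 LD3_c42)) = (LP (LK LD1_c11 LD2_c54 LD3_c55)) :=
  Lre_b IH (LK LD1_c6 LD2_c5 LD3_c42) (LK LD1_c11 LD2_c54 LD3_c55) Lrfl Lrfl
theorem f282230 : Led Lsl_ff (LP (LK LD1_c10 LD2_c7 LD3_c21)) = (LP (LK LD1_c11 LD2_c54 LD3_c55)) :=
  Lgr Lrot25 (Lpr_bt (f240449 IH) (Lpr_ft (f282226 IH) (Lpr_bt (f183815 IH) (Lpn (LP (LK LD1_c11 LD2_c54 LD3_c55))))))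
theorem f240188 : Led Lsl_ct (LP (LK LD1_c10 LD2_c7 LD3_c21)) = (LP (LK LD1_c5 LD2_c8 LD3_c37)) :=
  Lre_c IH (LK LD1_c10 LD2_c7 LD3_c21) (LK LD1_c5 LD2_c8 LD3_c37) Lrfl Lrfl
theorem f195646 : Led Lsl_bt (LP (LK LD1_c8 LD2_c4 LD3_c3)) = (LP (LK LD1_c4 LD2_c1 LD3_c43)) :=
  Lre_b IH (LK LD1_c8 LD2_c4 LD3_c3) (LK LD1_c4 LD2_c1 LD3_c43) Lrfl Lrfl
theorem f195647 : Led Lsl_ct (LP (LK LD1_c11 LD2_c54 LD3_c55)) = (LP (LK LD1_c8 LD2_c4 LD3_c3)) :=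
  Lgr Lrot83 (Lpe (f183815 IH) (Lpe (K14.f183680 IH) (Lpr_bf (K14.f195628 IH) (Lpe (K13.f195645 IH) (Lpe (f195646 IH) (Lpn (LP (LK LD1_c8 LD2_c4 LD3_c3))))))))
theorem f195654 : Led Lsl_cf (LP (LK LD1_c11 LD2_c54 LD3_c55)) = (LP (LK LD1_c8 LD2_c4 LD3_c3)) :=
  Lgr Lrot11 (Lpr_ct (f195647 IH) (Lpn (LP (LK LD1_c8 LD2_c4 LD3_c3))))
theorem f282232 : Led Lsl_ft (LP (LK LD1_c5 LD2_c8 LD3_c37)) = (LP (LK LD1_c8 LD2_c4 LD3_c3)) :=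
  Lgr Lrot4 (Lpe (f240188 IH) (Lpr_ff (f282230 IH) (Lpr_cf (f195654 IH) (Lpn (LP (LK LD1_c8 LD2_c4 LD3_c3))))))
theorem f282238 : Led Lsl_at (LP (LK LD1_c10 LD2_c7 LD3_c43)) = (LP (LK LD1_c5 LD2_c8 LD3_c37)) :=
  Lre_a IH (LK LD1_c10 LD2_c7 LD3_c43) (LK LD1_c5 LD2_c8 LD3_c37) Lrfl Lrfl
theorem f195651 : Led Lsl_at (LP (LK LD1_c8 LD2_c4 LD3_c3)) = (LP (LK LD1_c15 LD2_c11 LD3_c15)) :=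
  Lre_a IH (LK LD1_c8 LD2_c4 LD3_c3) (LK LD1_c15 LD2_c11 LD3_c15) Lrfl Lrfl
theorem f282239 : Led Lsl_ff (LP (LK LD1_c10 LD2_c7 LD3_c43)) = (LP (LK LD1_c15 LD2_c11 LD3_c15)) :=
  Lgr Lrot30 (Lpr_at (f282238 IH) (Lpr_ft (f282232 IH) (Lpr_at (f195651 IH) (Lpn (LP (LK LD1_c15 LD2_c11 LD3_c15))))))
theorem f282252 : Led Lsl_ft (LP (LK LD1_c10 LD2_c7 LD3_c43)) = (LP (LK LD1_c15 LD2_c11 LD3_c15)) :=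
  Lgr Lrot48 (Lpr_ff (f282239 IH) (Lpn (LP (LK LD1_c15 LD2_c11 LD3_c15))))
theorem f282249 : Led Lsl_dt (LP (LK LD1_c10 LD2_c7 LD3_c43)) = (LP (LK LD1_c18 LD2_c27 LD3_c2)) :=
  Lre_d IH (LK LD1_c10 LD2_c7 LD3_c43) (LK LD1_c18 LD2_c27 LD3_c2) Lrfl Lrfl
theorem f282267 : Led Lsl_ct (LP (LK LD1_c18 LD2_c27 LD3_c2)) = (LP (LK LD1_c28 LD2_c2 LD3_c6)) :=
  Lre_c IH (LK LD1_c18 LD2_c27 LD3_c2) (LK LD1_c28 LD2_c2 LD3_c6) Lrfl Lrfl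
theorem f282268 : Led Lsl_dt (LP (LK LD1_c28 LD2_c2 LD3_c6)) = (LP (LK LD1_c32 LD2_c31 LD3_c3)) :=
  Lre_d IH (LK LD1_c28 LD2_c2 LD3_c6) (LK LD1_c32 LD2_c31 LD3_c3) Lrfl Lrfl
theorem f195661 : Led Lsl_at (LP (LK LD1_c15 LD2_c11 LD3_c15)) = (LP (LK LD1_c8 LD2_c4 LD3_c3)) :=
  Lre_a IH (LK LD1_c15 LD2_c11 LD3_c15) (LK LD1_c8 LD2_c4 LD3_c3) Lrfl Lrfl
theorem f231892 : Led Lsl_bt (LP (LK LD1_c5 LD2_c16 LD3_c10)) = (LP (LK LD1_c10 LD2_c21 LD3_c54)) :=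
  Lre_b IH (LK LD1_c5 LD2_c16 LD3_c10) (LK LD1_c10 LD2_c21 LD3_c54) Lrfl Lrfl
theorem f183681 : Led Lsl_bt (LP (LK LD1_c11 LD2_c54 LD3_c55)) = (LP (LK LD1_c6 LD2_c5 LD3_c42)) :=
  Lre_b IH (LK LD1_c11 LD2_c54 LD3_c55) (LK LD1_c6 LD2_c5 LD3_c42) Lrfl Lrfl
theorem f231941 : Led Lsl_dt (LP (LK LD1_c10 LD2_c21 LD3_c54)) = (LP (LK LD1_c11 LD2_c54 LD3_c55)) :=
  Lgr Lrot79 (Lpe (f231892 IH) (Lpr_df (K15.f231911 IH) (Lpe (f183681 IH) (Lpn (LP (LK LD1_c11 LD2_c54 LD3_c55))))))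
theorem f231908 : Led Lsl_ct (LP (LK LD1_c18 LD2_c48 LD3_c48)) = (LP (LK LD1_c10 LD2_c21 LD3_c54)) :=
  Lre_c IH (LK LD1_c18 LD2_c48 LD3_c48) (LK LD1_c10 LD2_c21 LD3_c54) Lrfl Lrfl
theorem f231958 : Led Lsl_dt (LP (LK LD1_c28 LD2_c18 LD3_c15)) = (LP (LK LD1_c18 LD2_c48 LD3_c48)) :=
  Lre_d IH (LK LD1_c28 LD2_c18 LD3_c15) (LK LD1_c18 LD2_c48 LD3_c48) Lrfl Lrfl
theorem f282269 : Led Lsl_ct (LP (LK LD1_c32 LD2_c31 LD3_c3)) = (LP (LK LD1_c28 LD2_c18 LD3_c15)) :=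
  Lgr Lrot41 (Lpe (f282268 IH) (Lpe (f282267 IH) (Lpe (f282249 IH) (Lpr_ft (f282252 IH) (Lpr_at (f195661 IH) (Lpe (f195647 IH) (Lpe (f231941 IH) (Lpe (f231908 IH) (Lpe (f231958 IH) (Lpn (LP (LK LD1_c28 LD2_c18 LD3_c15))))))))))))
theorem f282272 : Led Lsl_cf (LP (LK LD1_c32 LD2_c31 LD3_c3)) = (LP (LK LD1_c28 LD2_c18 LD3_c15)) :=
  Lgr Lrot11 (Lpr_ct (f282269 IH) (Lpn (LP (LK LD1_c28 LD2_c18 LD3_c15))))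
theorem f282271 : Led Lsl_at (LP (LK LD1_c28 LD2_c2 LD3_c14)) = (LP (LK LD1_c32 LD2_c31 LD3_c3)) :=
  Lre_a IH (LK LD1_c28 LD2_c2 LD3_c14) (LK LD1_c32 LD2_c31 LD3_c3) Lrfl Lrfl
theorem f231964 : Led Lsl_dt (LP (LK LD1_c18 LD2_c48 LD3_c48)) = (LP (LK LD1_c28 LD2_c18 LD3_c15)) :=
  Lre_d IH (LK LD1_c18 LD2_c48 LD3_c48) (LK LD1_c28 LD2_c18 LD3_c15) Lrfl Lrfl
theorem f45301 : Led Lsl_ct (LP (LK LD1_c10 LD2_c21 LD3_c54)) = (LP (LK LD1_c18 LD2_c48 LD3_c48)) :=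
  Lre_c IH (LK LD1_c10 LD2_c21 LD3_c54) (LK LD1_c18 LD2_c48 LD3_c48) Lrfl Lrfl
theorem f231959 : Led Lsl_df (LP (LK LD1_c10 LD2_c21 LD3_c54)) = (LP (LK LD1_c11 LD2_c54 LD3_c55)) :=
  Lgr Lrot38 (Lpr_dt (f231941 IH) (Lpn (LP (LK LD1_c11 LD2_c54 LD3_c55))))
theorem f195662 : Led Lsl_dt (LP (LK LD1_c15 LD2_c11 LD3_c16)) = (LP (LK LD1_c8 LD2_c4 LD3_c3)) :=
  Lre_d IH (LK LD1_c15 LD2_c11 LD3_c16) (LK LD1_c8 LD2_c4 LD3_c3) Lrfl Lrfl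
theorem f195664 : Led Lsl_ct (LP (LK LD1_c25 LD2_c0 LD3_c22)) = (LP (LK LD1_c15 LD2_c11 LD3_c16)) :=
  Lre_c IH (LK LD1_c25 LD2_c0 LD3_c22) (LK LD1_c15 LD2_c11 LD3_c16) Lrfl Lrfl
theorem f195670 : Led Lsl_dt (LP (LK LD1_c31 LD2_c44 LD3_c22)) = (LP (LK LD1_c25 LD2_c0 LD3_c22)) :=
  Lre_d IH (LK LD1_c31 LD2_c44 LD3_c22) (LK LD1_c25 LD2_c0 LD3_c22) Lrfl Lrfl
theorem f282277 : Led Lsl_ff (LP (LK LD1_c28 LD2_c2 LD3_c14)) = (LP (LK LD1_c31 LD2_c44 LD3_c22)) :=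
  Lgr Lrot103 (Lpr_at (f282271 IH) (Lpr_cf (f282272 IH) (Lpe (f231964 IH) (Lpe (f45301 IH) (Lpr_df (f231959 IH) (Lpr_cf (f195654 IH) (Lpe (f195662 IH) (Lpe (f195664 IH) (Lpe (f195670 IH) (Lpn (LP (LK LD1_c31 LD2_c44 LD3_c22))))))))))))
theorem f282282 : Led Lsl_ft (LP (LK LD1_c28 LD2_c2 LD3_c14)) = (LP (LK LD1_c31 LD2_c44 LD3_c22)) :=
  Lgr Lrot48 (Lpr_ff (f282277 IH) (Lpn (LP (LK LD1_c31 LD2_c44 LD3_c22))))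
theorem f239787 : Led Lsl_dt (LP (LK LD1_c18 LD2_c27 LD3_c5)) = (LP (LK LD1_c28 LD2_c2 LD3_c14)) :=
  Lre_d IH (LK LD1_c18 LD2_c27 LD3_c5) (LK LD1_c28 LD2_c2 LD3_c14) Lrfl Lrfl
theorem f282284 : Led Lsl_ff (LP (LK LD1_c18 LD2_c27 LD3_c5)) = (LP (LK LD1_c25 LD2_c0 LD3_c22)) :=
  Lgr Lrot19 (Lpr_dt (f239787 IH) (Lpr_ft (f282282 IH) (Lpr_dt (f195670 IH) (Lpn (LP (LK LD1_c25 LD2_c0 LD3_c22))))))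
theorem f239731 : Led Lsl_bt (LP (LK LD1_c10 LD2_c7 LD3_c44)) = (LP (LK LD1_c5 LD2_c8 LD3_c38)) :=
  Lre_b IH (LK LD1_c10 LD2_c7 LD3_c44) (LK LD1_c5 LD2_c8 LD3_c38) Lrfl Lrfl
theorem f239732 : Led Lsl_ct (LP (LK LD1_c18 LD2_c27 LD3_c5)) = (LP (LK LD1_c10 LD2_c7 LD3_c44)) :=
  Lre_c IH (LK LD1_c18 LD2_c27 LD3_c5) (LK LD1_c10 LD2_c7 LD3_c44) Lrfl Lrfl
theorem f34112 : Led Lsl_ct (LP (LK LD1_c8 LD2_c3 LD3_c48)) = (LP (LK LD1_c15 LD2_c10 LD3_c42)) :=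
  Lre_c IH (LK LD1_c8 LD2_c3 LD3_c48) (LK LD1_c15 LD2_c10 LD3_c42) Lrfl Lrfl
theorem f239733 : Led Lsl_bf (LP (LK LD1_c18 LD2_c27 LD3_c5)) = (LP (LK LD1_c15 LD2_c10 LD3_c42)) :=
  Lgr Lrot90 (Lpr_ct (f239732 IH) (Lpr_bt (f239731 IH) (Lpr_ct (K13.f239729 IH) (Lpr_bt (K37.f227908 IH) (Lpr_ct (f34112 IH) (Lpn (LP (LK LD1_c15 LD2_c10 LD3_c42))))))))
theorem f239785 : Led Lsl_bt (LP (LK LD1_c18 LD2_c27 LD3_c5)) = (LP (LK LD1_c15 LD2_c10 LD3_c42)) :=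
  Lgr Lrot127 (Lpr_bf (f239733 IH) (Lpn (LP (LK LD1_c15 LD2_c10 LD3_c42))))
theorem f239936 : Led Lsl_bt (LP (LK LD1_c15 LD2_c11 LD3_c16)) = (LP (LK LD1_c8 LD2_c4 LD3_c4)) :=
  Lre_b IH (LK LD1_c15 LD2_c11 LD3_c16) (LK LD1_c8 LD2_c4 LD3_c4) Lrfl Lrfl
theorem f240567 : Led Lsl_bt (LP (LK LD1_c15 LD2_c13 LD3_c43)) = (LP (LK LD1_c25 LD2_c0 LD3_c22)) :=
  Lgr Lrot128 (Lpe (f193432 IH) (Lpe (f193423 IH) (Lpr_cf (K13.f240563 IH) (Lpe (f239936 IH) (Lpe (f195664 IH) (Lpn (LP (LK LD1_c25 LD2_c0 LD3_c22))))))))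
theorem f282286 : Led Lsl_ft (LP (LK LD1_c15 LD2_c10 LD3_c42)) = (LP (LK LD1_c15 LD2_c13 LD3_c43)) :=
  Lgr Lrot75 (Lpe (f239785 IH) (Lpr_ff (f282284 IH) (Lpe (f240567 IH) (Lpn (LP (LK LD1_c15 LD2_c13 LD3_c43))))))
theorem f282289 : Led Lsl_ff (LP (LK LD1_c15 LD2_c10 LD3_c42)) = (LP (LK LD1_c15 LD2_c13 LD3_c43)) :=
  Lgr Lrot3 (Lpr_ft (f282286 IH) (Lpn (LP (LK LD1_c15 LD2_c13 LD3_c43))))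
theorem f69753 : Led Lsl_ct (LP (LK LD1_c15 LD2_c10 LD3_c42)) = (LP (LK LD1_c8 LD2_c3 LD3_c48)) :=
  Lre_c IH (LK LD1_c15 LD2_c10 LD3_c42) (LK LD1_c8 LD2_c3 LD3_c48) Lrfl Lrfl
theorem f282293 : Led Lsl_ft (LP (LK LD1_c8 LD2_c3 LD3_c48)) = (LP (LK LD1_c8 LD2_c5 LD3_c15)) :=
  Lgr Lrot4 (Lpe (f69753 IH) (Lpr_ff (f282289 IH) (Lpe (f193432 IH) (Lpn (LP (LK LD1_c8 LD2_c5 LD3_c15))))))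
theorem f282297 : Led Lsl_ff (LP (LK LD1_c4 LD2_c13 LD3_c27)) = (LP (LK LD1_c4 LD2_c4 LD3_c50)) :=
  Lgr Lrot19 (Lpr_dt (K37.f272165 IH) (Lpr_ft (f282293 IH) (Lpr_dt (f193424 IH) (Lpn (LP (LK LD1_c4 LD2_c4 LD3_c50))))))
theorem f282302 : Led Lsl_ft (LP (LK LD1_c4 LD2_c13 LD3_c27)) = (LP (LK LD1_c4 LD2_c4 LD3_c50)) :=
  Lgr Lrot48 (Lpr_ff (f282297 IH) (Lpn (LP (LK LD1_c4 LD2_c4 LD3_c50))))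
theorem f540836 : Led Lsl_ef (LP (LK LD1_c4 LD2_c36 LD3_c54)) = (LP (LK LD1_c4 LD2_c4 LD3_c50)) :=
  Lgr Lrot21 (Lpr_ft (f142225 IH) (Lpr_et (K36.f540793 IH) (Lpe (K35.f411106 IH) (Lpr_et (K35.f175017 IH) (Lpr_ft (f282302 IH) (Lpn (LP (LK LD1_c4 LD2_c4 LD3_c50))))))))
theorem f540838 : Led Lsl_at (LP (LK LD1_c4 LD2_c36 LD3_c56)) = (LP (LK LD1_c4 LD2_c4 LD3_c50)) :=
  Lgr Lrot80 (Lpe (K37.f112467 IH) (Lpe (K36.f137909 IH) (Lpr_ef (f540836 IH) (Lpn (LP (LK LD1_c4 LD2_c4 LD3_c50))))))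
theorem f570096 : Led Lsl_gf (LP (LK LD1_c8 LD2_c10 LD3_c30)) = (LP (LK LD1_c7 LD2_c19 LD3_c13)) :=
  Lgr Lrot47 (Lpr_gt (f193431 IH) (Lpe (f540838 IH) (Lpr_ff (f570090 IH) (Lpn (LP (LK LD1_c7 LD2_c19 LD3_c13))))))
theorem f5175 : Led Lsl_dt (LP (LK LD1_c7 LD2_c16 LD3_c52)) = (LP (LK LD1_c3 LD2_c38 LD3_c15)) :=
  Lre_d IH (LK LD1_c7 LD2_c16 LD3_c52) (LK LD1_c3 LD2_c38 LD3_c15) Lrfl Lrfl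
theorem f566099 : Led Lsl_df (LP (LK LD1_c15 LD2_c10 LD3_c24)) = (LP (LK LD1_c8 LD2_c10 LD3_c30)) :=
  Lgr Lrot155 (Lpr_gt (f240034 IH) (Lpr_ct (K41.f239977 IH) (Lpe (f565691 IH) (Lpr_ct (f5176 IH) (Lpr_dt (f5175 IH) (Lpr_cf (K0.f5173 IH) (Lpe (K41.f5196 IH) (Lpr_cf (K41.f566085 IH) (Lpe (f193431 IH) (Lpn (LP (LK LD1_c8 LD2_c10 LD3_c30))))))))))))
theorem f240031 : Led Lsl_dt (LP (LK LD1_c4 LD2_c1 LD3_c30)) = (LP (LK LD1_c8 LD2_c3 LD3_c40)) :=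
  Lre_d IH (LK LD1_c4 LD2_c1 LD3_c30) (LK LD1_c8 LD2_c3 LD3_c40) Lrfl Lrfl
theorem f242252 : Led Lsl_et (LP (LK LD1_c4 LD2_c1 LD3_c30)) = (LP (LK LD1_c8 LD2_c3 LD3_c41)) :=
  Lre_e IH (LK LD1_c4 LD2_c1 LD3_c30) (LK LD1_c8 LD2_c3 LD3_c41) Lrfl Lrfl
theorem f241419 : Led Lsl_ff (LP (LK LD1_c3 LD2_c3 LD3_c22)) = (LP (LK LD1_c2 LD2_c10 LD3_c41)) :=
  Lgr Lrot23 (Lpr_ct (K12.f101491 IH) (Lpr_ft (K13.f241413 IH) (Lpr_ct (K13.f101301 IH) (Lpn (LP (LK LD1_c2 LD2_c10 LD3_c41))))))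
theorem f241522 : Led Lsl_af (LP (LK LD1_c2 LD2_c10 LD3_c39)) = (LP (LK LD1_c3 LD2_c3 LD3_c22)) :=
  Lgr Lrot109 (Lpe (K10.f80929 IH) (Lpe (K12.f80940 IH) (Lpe (K13.f101361 IH) (Lpe (K13.f198444 IH) (Lpr_cf (K13.f241511 IH) (Lpr_df (K13.f241485 IH) (Lpe (K13.f101414 IH) (Lpe (K13.f101304 IH) (Lpe (f241419 IH) (Lpn (LP (LK LD1_c3 LD2_c3 LD3_c22))))))))))))
theorem f175028 : Led Lsl_bt (LP (LK LD1_c6 LD2_c13 LD3_c12)) = (LP (LK LD1_c3 LD2_c3 LD3_c22)) :=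
  Lre_b IH (LK LD1_c6 LD2_c13 LD3_c12) (LK LD1_c3 LD2_c3 LD3_c22) Lrfl Lrfl
theorem f538584 : Led Lsl_bf (LP (LK LD1_c12 LD2_c5 LD3_c21)) = (LP (LK LD1_c8 LD2_c46 LD3_c40)) :=
  Lgr Lrot81 (Lpr_at (K35.f175021 IH) (Lpr_bt (f175028 IH) (Lpe (f241522 IH) (Lpr_bt (K35.f80942 IH) (Lpr_at (K35.f538574 IH) (Lpn (LP (LK LD1_c8 LD2_c46 LD3_c40))))))))
theorem f566151 : Led Lsl_ef (LP (LK LD1_c7 LD2_c19 LD3_c13)) = (LP (LK LD1_c12 LD2_c5 LD3_c21)) :=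
  Lgr Lrot29 (Lpr_bt (K41.f566140 IH) (Lpr_et (K35.f538594 IH) (Lpe (f538584 IH) (Lpn (LP (LK LD1_c12 LD2_c5 LD3_c21))))))
theorem f97182 : Led Lsl_ft (LP (LK LD1_c7 LD2_c12 LD3_c7)) = (LP (LK LD1_c13 LD2_c38 LD3_c27)) :=
  Lre_f IH (LK LD1_c7 LD2_c12 LD3_c7) (LK LD1_c13 LD2_c38 LD3_c27) Lrfl Lrfl
theorem f540920 : Led Lsl_df (LP (LK LD1_c16 LD2_c34 LD3_c34)) = (LP (LK LD1_c13 LD2_c38 LD3_c27)) :=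
  Lgr Lrot78 (Lpr_ft (K41.f540918 IH) (Lpr_dt (K34.f97136 IH) (Lpr_ft (f97182 IH) (Lpn (LP (LK LD1_c13 LD2_c38 LD3_c27))))))
theorem f11558 : Led Lsl_et (LP (LK LD1_c1 LD2_c51 LD3_c35)) = (LP (LK LD1_c3 LD2_c49 LD3_c9)) :=
  Lre_e IH (LK LD1_c1 LD2_c51 LD3_c35) (LK LD1_c3 LD2_c49 LD3_c9) Lrfl Lrfl
theorem f97171 : Led Lsl_ft (LP (LK LD1_c3 LD2_c49 LD3_c9)) = (LP (LK LD1_c7 LD2_c39 LD3_c19)) :=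
  Lre_f IH (LK LD1_c3 LD2_c49 LD3_c9) (LK LD1_c7 LD2_c39 LD3_c19) Lrfl Lrfl
theorem f97452 : Led Lsl_et (LP (LK LD1_c7 LD2_c39 LD3_c19)) = (LP (LK LD1_c13 LD2_c38 LD3_c27)) :=
  Lgr Lrot69 (Lpe (f97171 IH) (Lpe (f11558 IH) (Lpr_ff (K33.f97450 IH) (Lpe (K34.f97135 IH) (Lpe (K41.f97172 IH) (Lpn (LP (LK LD1_c13 LD2_c38 LD3_c27))))))))
theorem f97454 : Led Lsl_ef (LP (LK LD1_c7 LD2_c39 LD3_c19)) = (LP (LK LD1_c13 LD2_c38 LD3_c27)) :=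
  Lgr Lrot88 (Lpr_et (f97452 IH) (Lpn (LP (LK LD1_c13 LD2_c38 LD3_c27))))
theorem f570102 : Led Lsl_gt (LP (LK LD1_c8 LD2_c3 LD3_c41)) = (LP (LK LD1_c7 LD2_c39 LD3_c19)) :=
  Lgr Lrot131 (Lpe (f242252 IH) (Lpr_dt (f240031 IH) (Lpe (f240034 IH) (Lpr_df (f566099 IH) (Lpr_gf (f570096 IH) (Lpr_ef (f566151 IH) (Lpr_dt (K41.f411104 IH) (Lpr_gf (K41.f411101 IH) (Lpr_df (f540920 IH) (Lpe (f97454 IH) (Lpn (LP (LK LD1_c7 LD2_c39 LD3_c19)))))))))))))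
theorem f211626 : Led Lsl_bt (LP (LK LD1_c4 LD2_c1 LD3_c32)) = (LP (LK LD1_c8 LD2_c3 LD3_c41)) :=
  Lre_b IH (LK LD1_c4 LD2_c1 LD3_c32) (LK LD1_c8 LD2_c3 LD3_c41) Lrfl Lrfl
theorem f172601 : Led Lsl_gt (LP (LK LD1_c4 LD2_c56 LD3_c43)) = (LP (LK LD1_c2 LD2_c26 LD3_c11)) :=
  Lre_g IH (LK LD1_c4 LD2_c56 LD3_c43) (LK LD1_c2 LD2_c26 LD3_c11) Lrfl Lrfl
theorem f210324 : Led Lsl_ct (LP (LK LD1_c9 LD2_c44 LD3_c46)) = (LP (LK LD1_c4 LD2_c56 LD3_c43)) :=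
  Lre_c IH (LK LD1_c9 LD2_c44 LD3_c46) (LK LD1_c4 LD2_c56 LD3_c43) Lrfl Lrfl
theorem f570108 : Led Lsl_bt (LP (LK LD1_c9 LD2_c44 LD3_c46)) = (LP (LK LD1_c7 LD2_c39 LD3_c19)) :=
  Lgr Lrot92 (Lpr_ct (f210324 IH) (Lpr_gt (f172601 IH) (Lpe (f179912 IH) (Lpr_bt (f210323 IH) (Lpe (K12.f210321 IH) (Lpr_ct (K12.f210314 IH) (Lpe (K12.f227675 IH) (Lpe (K18.f211615 IH) (Lpr_bt (f211626 IH) (Lpr_gt (f570102 IH) (Lpn (LP (LK LD1_c7 LD2_c39 LD3_c19)))))))))))))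
theorem f97181 : Led Lsl_ft (LP (LK LD1_c7 LD2_c39 LD3_c19)) = (LP (LK LD1_c3 LD2_c49 LD3_c9)) :=
  Lre_f IH (LK LD1_c7 LD2_c39 LD3_c19) (LK LD1_c3 LD2_c49 LD3_c9) Lrfl Lrfl
theorem f97166 : Led Lsl_bt (LP (LK LD1_c3 LD2_c49 LD3_c9)) = (LP (LK LD1_c7 LD2_c39 LD3_c14)) :=
  Lre_b IH (LK LD1_c3 LD2_c49 LD3_c9) (LK LD1_c7 LD2_c39 LD3_c14) Lrfl Lrfl
theorem f570113 : Led Lsl_ff (LP (LK LD1_c9 LD2_c44 LD3_c46)) = (LP (LK LD1_c7 LD2_c39 LD3_c14)) :=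
  Lgr Lrot25 (Lpr_bt (f570108 IH) (Lpr_ft (f97181 IH) (Lpr_bt (f97166 IH) (Lpn (LP (LK LD1_c7 LD2_c39 LD3_c14))))))
theorem f570120 : Led Lsl_ft (LP (LK LD1_c9 LD2_c44 LD3_c46)) = (LP (LK LD1_c7 LD2_c39 LD3_c14)) :=
  Lgr Lrot48 (Lpr_ff (f570113 IH) (Lpn (LP (LK LD1_c7 LD2_c39 LD3_c14))))
theorem f556386 : Led Lsl_ct (LP (LK LD1_c4 LD2_c56 LD3_c43)) = (LP (LK LD1_c9 LD2_c44 LD3_c46)) :=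
  Lre_c IH (LK LD1_c4 LD2_c56 LD3_c43) (LK LD1_c9 LD2_c44 LD3_c46) Lrfl Lrfl
theorem f569279 : Led Lsl_gt (LP (LK LD1_c9 LD2_c44 LD3_c46)) = (LP (LK LD1_c11 LD2_c27 LD3_c41)) :=
  Lgr Lrot94 (Lpe (f556386 IH) (Lpr_gt (f172601 IH) (Lpr_dt (K30.f172594 IH) (Lpr_gt (f541361 IH) (Lpr_dt (f538421 IH) (Lpe (K37.f198277 IH) (Lpe (f547502 IH) (Lpe (f569273 IH) (Lpr_df (f569274 IH) (Lpn (LP (LK LD1_c11 LD2_c27 LD3_c41))))))))))))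
theorem f547809 : Led Lsl_dt (LP (LK LD1_c11 LD2_c13 LD3_c22)) = (LP (LK LD1_c6 LD2_c14 LD3_c19)) :=
  Lgr Lrot113 (Lpe (K31.f172538 IH) (Lpe (K31.f172502 IH) (Lpe (K31.f172508 IH) (Lpr_ct (K10.f181558 IH) (Lpr_gt (K10.f174963 IH) (Lpr_dt (K31.f174964 IH) (Lpr_gt (K36.f411974 IH) (Lpe (K18.f175991 IH) (Lpr_ct (K35.f547795 IH) (Lpn (LP (LK LD1_c6 LD2_c14 LD3_c19))))))))))))
theorem f547811 : Led Lsl_dt (LP (LK LD1_c9 LD2_c44 LD3_c41)) = (LP (LK LD1_c11 LD2_c12 LD3_c56)) :=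
  Lgr Lrot6 (Lpr_gt (K39.f380282 IH) (Lpr_ct (K39.f210340 IH) (Lpe (K35.f385270 IH) (Lpr_ct (K35.f547795 IH) (Lpe (f547809 IH) (Lpr_cf (K39.f411690 IH) (Lpe (K31.f181695 IH) (Lpe (K39.f181692 IH) (Lpe (K39.f181493 IH) (Lpn (LP (LK LD1_c11 LD2_c12 LD3_c56))))))))))))
theorem f556175 : Led Lsl_ct (LP (LK LD1_c6 LD2_c15 LD3_c22)) = (LP (LK LD1_c9 LD2_c44 LD3_c41)) :=
  Lgr Lrot7 (Lpe (K39.f60812 IH) (Lpr_gf (K39.f556171 IH) (Lpe (K39.f411814 IH) (Lpe (K36.f172459 IH) (Lpe (K31.f181498 IH) (Lpe (K39.f423659 IH) (Lpr_dt (K31.f237379 IH) (Lpe (K39.f423592 IH) (Lpe (K39.f547813 IH) (Lpn (LP (LK LD1_c9 LD2_c44 LD3_c41))))))))))))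
theorem f176690 : Led Lsl_ct (LP (LK LD1_c11 LD2_c27 LD3_c41)) = (LP (LK LD1_c5 LD2_c49 LD3_c18)) :=
  Lre_c IH (LK LD1_c11 LD2_c27 LD3_c41) (LK LD1_c5 LD2_c49 LD3_c18) Lrfl Lrfl
theorem f569252 : Led Lsl_et (LP (LK LD1_c9 LD2_c44 LD3_c41)) = (LP (LK LD1_c11 LD2_c27 LD3_c41)) :=
  Lgr Lrot158 (Lpe (f556175 IH) (Lpr_ef (f569248 IH) (Lpe (f176690 IH) (Lpn (LP (LK LD1_c11 LD2_c27 LD3_c41))))))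
theorem f569351 : Led Lsl_gf (LP (LK LD1_c6 LD2_c16 LD3_c23)) = (LP (LK LD1_c11 LD2_c27 LD3_c41)) :=
  Lgr Lrot138 (Lpr_dt (f556376 IH) (Lpr_gt (f569345 IH) (Lpe (f72430 IH) (Lpr_et (f72429 IH) (Lpr_gt (K6.f101748 IH) (Lpr_ef (K38.f500427 IH) (Lpqs (K38.f541392 IH) (Lpr_dt (K31.f237379 IH) (Lpe (K39.f423592 IH) (Lpe (f547811 IH) (Lpr_et (f569252 IH) (Lpn (LP (LK LD1_c11 LD2_c27 LD3_c41))))))))))))))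
theorem f570124 : Led Lsl_af (LP (LK LD1_c6 LD2_c16 LD3_c23)) = (LP (LK LD1_c7 LD2_c39 LD3_c14)) :=
  Lgr Lrot31 (Lpr_gf (f569351 IH) (Lpe (f569279 IH) (Lpr_ft (f570120 IH) (Lpn (LP (LK LD1_c7 LD2_c39 LD3_c14))))))
theorem f556373 : Led Lsl_ft (LP (LK LD1_c6 LD2_c16 LD3_c23)) = (LP (LK LD1_c12 LD2_c9 LD3_c60)) :=
  Lre_f IH (LK LD1_c6 LD2_c16 LD3_c23) (LK LD1_c12 LD2_c9 LD3_c60) Lrfl Lrfl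
theorem f570132 : Led Lsl_at (LP (LK LD1_c12 LD2_c9 LD3_c60)) = (LP (LK LD1_c9 LD2_c44 LD3_c46)) :=
  Lgr Lrot66 (Lpe (f556373 IH) (Lpr_af (f570124 IH) (Lpe (f570120 IH) (Lpn (LP (LK LD1_c9 LD2_c44 LD3_c46))))))
theorem f569347 : Led Lsl_ct (LP (LK LD1_c12 LD2_c9 LD3_c59)) = (LP (LK LD1_c21 LD2_c15 LD3_c48)) :=
  Lre_c IH (LK LD1_c12 LD2_c9 LD3_c59) (LK LD1_c21 LD2_c15 LD3_c48) Lrfl Lrfl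
theorem f570141 : Led Lsl_dt (LP (LK LD1_c21 LD2_c15 LD3_c48)) = (LP (LK LD1_c29 LD2_c55 LD3_c43)) :=
  Lre_d IH (LK LD1_c21 LD2_c15 LD3_c48) (LK LD1_c29 LD2_c55 LD3_c43) Lrfl Lrfl
theorem f549012 : Led Lsl_cf (LP (LK LD1_c11 LD2_c27 LD3_c33)) = (LP (LK LD1_c17 LD2_c0 LD3_c51)) :=
  Lgr Lrot11 (Lpr_ct (K38.f549008 IH) (Lpn (LP (LK LD1_c17 LD2_c0 LD3_c51))))
theorem f71237 : Led Lsl_gt (LP (LK LD1_c9 LD2_c8 LD3_c20)) = (LP (LK LD1_c4 LD2_c36 LD3_c28)) :=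
  Lre_g IH (LK LD1_c9 LD2_c8 LD3_c20) (LK LD1_c4 LD2_c36 LD3_c28) Lrfl Lrfl
theorem f556354 : Led Lsl_dt (LP (LK LD1_c9 LD2_c8 LD3_c20)) = (LP (LK LD1_c4 LD2_c56 LD3_c43)) :=
  Lgr Lrot6 (Lpr_gt (f71237 IH) (Lpr_ct (K35.f202661 IH) (Lpr_gt (K38.f202656 IH) (Lpe (f549012 IH) (Lpe (K38.f450365 IH) (Lpr_cf (K38.f547111 IH) (Lpr_gf (K39.f556348 IH) (Lpe (K39.f179914 IH) (Lpe (f172601 IH) (Lpn (LP (LK LD1_c4 LD2_c56 LD3_c43))))))))))))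
theorem f556385 : Led Lsl_ct (LP (LK LD1_c17 LD2_c0 LD3_c50)) = (LP (LK LD1_c9 LD2_c8 LD3_c20)) :=
  Lre_c IH (LK LD1_c17 LD2_c0 LD3_c50) (LK LD1_c9 LD2_c8 LD3_c20) Lrfl Lrfl
theorem f556384 : Led Lsl_dt (LP (LK LD1_c26 LD2_c55 LD3_c52)) = (LP (LK LD1_c17 LD2_c0 LD3_c50)) :=
  Lre_d IH (LK LD1_c26 LD2_c55 LD3_c52) (LK LD1_c17 LD2_c0 LD3_c50) Lrfl Lrfl
theorem f570142 : Led Lsl_ct (LP (LK LD1_c29 LD2_c55 LD3_c43)) = (LP (LK LD1_c26 LD2_c55 LD3_c52)) :=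
  Lgr Lrot41 (Lpe (f570141 IH) (Lpe (f569347 IH) (Lpe (f556376 IH) (Lpr_ft (f556373 IH) (Lpr_at (f570132 IH) (Lpe (f556386 IH) (Lpe (f556354 IH) (Lpe (f556385 IH) (Lpe (f556384 IH) (Lpn (LP (LK LD1_c26 LD2_c55 LD3_c52))))))))))))
theorem f570144 : Led Lsl_cf (LP (LK LD1_c29 LD2_c55 LD3_c43)) = (LP (LK LD1_c26 LD2_c55 LD3_c52)) :=
  Lgr Lrot11 (Lpr_ct (f570142 IH) (Lpn (LP (LK LD1_c26 LD2_c55 LD3_c52))))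
theorem f570146 : Led Lsl_dt (LP (LK LD1_c29 LD2_c55 LD3_c43)) = (LP (LK LD1_c21 LD2_c15 LD3_c48)) :=
  Lre_d IH (LK LD1_c29 LD2_c55 LD3_c43) (LK LD1_c21 LD2_c15 LD3_c48) Lrfl Lrfl
theorem f556395 : Led Lsl_ct (LP (LK LD1_c21 LD2_c15 LD3_c48)) = (LP (LK LD1_c12 LD2_c9 LD3_c59)) :=
  Lre_c IH (LK LD1_c21 LD2_c15 LD3_c48) (LK LD1_c12 LD2_c9 LD3_c59) Lrfl Lrfl
theorem f556383 : Led Lsl_dt (LP (LK LD1_c17 LD2_c0 LD3_c50)) = (LP (LK LD1_c26 LD2_c55 LD3_c52)) :=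
  Lre_d IH (LK LD1_c17 LD2_c0 LD3_c50) (LK LD1_c26 LD2_c55 LD3_c52) Lrfl Lrfl
theorem f72007 : Led Lsl_ct (LP (LK LD1_c9 LD2_c8 LD3_c20)) = (LP (LK LD1_c17 LD2_c0 LD3_c50)) :=
  Lre_c IH (LK LD1_c9 LD2_c8 LD3_c20) (LK LD1_c17 LD2_c0 LD3_c50) Lrfl Lrfl
theorem f556356 : Led Lsl_df (LP (LK LD1_c9 LD2_c8 LD3_c20)) = (LP (LK LD1_c4 LD2_c56 LD3_c43)) :=
  Lgr Lrot155 (Lpr_gt (f71237 IH) (Lpr_ct (K35.f202661 IH) (Lpr_gt (K38.f202656 IH) (Lpe (f549012 IH) (Lpr_dt (K38.f450371 IH) (Lpr_cf (K38.f547111 IH) (Lpr_gf (K39.f556348 IH) (Lpe (K39.f179914 IH) (Lpe (f172601 IH) (Lpn (LP (LK LD1_c4 LD2_c56 LD3_c43))))))))))))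
theorem f570115 : Led Lsl_ft (LP (LK LD1_c4 LD2_c56 LD3_c43)) = (LP (LK LD1_c6 LD2_c16 LD3_c14)) :=
  Lgr Lrot4 (Lpe (f210324 IH) (Lpr_ff (f570113 IH) (Lpe (f546813 IH) (Lpn (LP (LK LD1_c6 LD2_c16 LD3_c14))))))
theorem f570147 : Led Lsl_af (LP (LK LD1_c3 LD2_c5 LD3_c19)) = (LP (LK LD1_c6 LD2_c16 LD3_c14)) :=
  Lgr Lrot109 (Lpe (f202660 IH) (Lpe (f202659 IH) (Lpe (f556395 IH) (Lpe (f570146 IH) (Lpr_cf (f570144 IH) (Lpe (f556383 IH) (Lpe (f72007 IH) (Lpr_df (f556356 IH) (Lpr_ft (f570115 IH) (Lpn (LP (LK LD1_c6 LD2_c16 LD3_c14))))))))))))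
def v1824 : LQ := Led Lsl_at (LP (LK LD1_c1 LD2_c28 LD3_c40))
theorem f503133 : Led Lsl_at (LP (LK LD1_c1 LD2_c28 LD3_c40)) = v1824 :=
  Lrfl
theorem f570153 : v1824 = (LP (LK LD1_c3 LD2_c5 LD3_c12)) :=
  (Llr Lrot80 (Lpe (f503133 IH) (Lpe (K39.f202621 IH) (Lpr_af (f570147 IH) (Lpe (f202294 IH) (Lpn (LP (LK LD1_c3 LD2_c5 LD3_c12)))))))).symm
theorem f503134 : Led Lsl_af (LP (LK LD1_c1 LD2_c28 LD3_c40)) = v1824 :=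
  Lgr Lrot0 (Lpr_at (f503133 IH) (Lpn v1824))
theorem f503136 : Led Lsl_ft (LP (LK LD1_c1 LD2_c28 LD3_c41)) = v1824 :=
  Lgr Lrot2 (Lpr_gt (K36.f202625 IH) (Lpr_gt (K31.f59008 IH) (Lpr_af (f503134 IH) (Lpn v1824))))
theorem f503139 : Led Lsl_ft (LP (LK LD1_c6 LD2_c16 LD3_c32)) = (LP (LK LD1_c3 LD2_c5 LD3_c22)) :=
  Lre_f IH (LK LD1_c6 LD2_c16 LD3_c32) (LK LD1_c3 LD2_c5 LD3_c22) Lrfl Lrfl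
theorem f570122 : Led Lsl_ff (LP (LK LD1_c4 LD2_c56 LD3_c43)) = (LP (LK LD1_c6 LD2_c16 LD3_c14)) :=
  Lgr Lrot23 (Lpr_ct (f556386 IH) (Lpr_ft (f570120 IH) (Lpe (K37.f546811 IH) (Lpn (LP (LK LD1_c6 LD2_c16 LD3_c14))))))
theorem f570162 : Led Lsl_ef (LP (LK LD1_c6 LD2_c16 LD3_c32)) = (LP (LK LD1_c4 LD2_c56 LD3_c43)) :=
  Lgr Lrot21 (Lpr_ft (f503139 IH) (Lpr_et (K36.f202626 IH) (Lpr_ft (f503136 IH) (Lpqs (f570153 IH) (Lpr_et (f202294 IH) (Lpe (f570122 IH) (Lpn (LP (LK LD1_c4 LD2_c56 LD3_c43)))))))))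
theorem f71220 : Led Lsl_gt (LP (LK LD1_c4 LD2_c36 LD3_c3)) = (LP (LK LD1_c9 LD2_c8 LD3_c20)) :=
  Lre_g IH (LK LD1_c4 LD2_c36 LD3_c3) (LK LD1_c9 LD2_c8 LD3_c20) Lrfl Lrfl
theorem f71215 : Led Lsl_et (LP (LK LD1_c1 LD2_c22 LD3_c40)) = (LP (LK LD1_c0 LD2_c38 LD3_c18)) :=
  Lre_e IH (LK LD1_c1 LD2_c22 LD3_c40) (LK LD1_c0 LD2_c38 LD3_c18) Lrfl Lrfl
theorem f71216 : Led Lsl_dt (LP (LK LD1_c1 LD2_c22 LD3_c40)) = (LP (LK LD1_c2 LD2_c53 LD3_c10)) :=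
  Lre_d IH (LK LD1_c1 LD2_c22 LD3_c40) (LK LD1_c2 LD2_c53 LD3_c10) Lrfl Lrfl
theorem f208591 : Led Lsl_at (LP (LK LD1_c4 LD2_c35 LD3_c59)) = (LP (LK LD1_c2 LD2_c53 LD3_c10)) :=
  Lgr Lrot51 (Lpe (K38.f71129 IH) (Lpr_af (K36.f208584 IH) (Lpe (K40.f208590 IH) (Lpn (LP (LK LD1_c2 LD2_c53 LD3_c10))))))
theorem f556743 : Led Lsl_gf (LP (LK LD1_c2 LD2_c53 LD3_c10)) = (LP (LK LD1_c4 LD2_c39 LD3_c23)) :=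
  Lgr Lrot76 (Lpe (f208591 IH) (Lpe (K40.f548169 IH) (Lpr_gt (K39.f556739 IH) (Lpn (LP (LK LD1_c4 LD2_c39 LD3_c23))))))
theorem f570170 : Led Lsl_gt (LP (LK LD1_c6 LD2_c16 LD3_c32)) = (LP (LK LD1_c6 LD2_c9 LD3_c2)) :=
  Lgr Lrot137 (Lpr_ef (f570162 IH) (Lpe (f556356 IH) (Lpe (f71220 IH) (Lpe (K38.f71219 IH) (Lpr_et (K39.f71218 IH) (Lpr_gf (K6.f71206 IH) (Lpe (f71215 IH) (Lpr_dt (f71216 IH) (Lpr_gf (f556743 IH) (Lpr_df (K39.f24000 IH) (Lpn (LP (LK LD1_c6 LD2_c9 LD3_c2)))))))))))))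
theorem f569128 : Led Lsl_ct (LP (LK LD1_c12 LD2_c10 LD3_c4)) = (LP (LK LD1_c6 LD2_c16 LD3_c32)) :=
  Lre_c IH (LK LD1_c12 LD2_c10 LD3_c4) (LK LD1_c6 LD2_c16 LD3_c32) Lrfl Lrfl
theorem f566822 : Led Lsl_ct (LP (LK LD1_c11 LD2_c6 LD3_c48)) = (LP (LK LD1_c6 LD2_c9 LD3_c2)) :=
  Lgr Lrot8 (Lpr_gt (K41.f566818 IH) (Lpe (K41.f565539 IH) (Lpr_gt (K41.f565547 IH) (Lpr_dt (K41.f538256 IH) (Lpr_cf (K38.f538215 IH) (Lpe (K35.f500419 IH) (Lpe (K35.f538254 IH) (Lpr_df (K35.f538260 IH) (Lpe (K41.f559576 IH) (Lpn (LP (LK LD1_c6 LD2_c9 LD3_c2))))))))))))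
theorem f101521 : Led Lsl_bt (LP (LK LD1_c3 LD2_c3 LD3_c34)) = (LP (LK LD1_c1 LD2_c27 LD3_c44)) :=
  Lre_b IH (LK LD1_c3 LD2_c3 LD3_c34) (LK LD1_c1 LD2_c27 LD3_c44) Lrfl Lrfl
theorem f566826 : Led Lsl_bt (LP (LK LD1_c11 LD2_c6 LD3_c48)) = (LP (LK LD1_c5 LD2_c46 LD3_c37)) :=
  Lgr Lrot128 (Lpr_cf (K41.f566824 IH) (Lpe (K39.f23999 IH) (Lpr_cf (K10.f175905 IH) (Lpe (f101521 IH) (Lpe (K13.f193969 IH) (Lpn (LP (LK LD1_c5 LD2_c46 LD3_c37))))))))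
theorem f176641 : Led Lsl_bt (LP (LK LD1_c0 LD2_c30 LD3_c7)) = (LP (LK LD1_c1 LD2_c5 LD3_c55)) :=
  Lre_b IH (LK LD1_c0 LD2_c30 LD3_c7) (LK LD1_c1 LD2_c5 LD3_c55) Lrfl Lrfl
theorem f176677 : Led Lsl_bt (LP (LK LD1_c2 LD2_c17 LD3_c55)) = (LP (LK LD1_c2 LD2_c50 LD3_c41)) :=
  Lgr Lrot128 (Lpe (K11.f36598 IH) (Lpe (f176641 IH) (Lpr_cf (K38.f176635 IH) (Lpe (K38.f176675 IH) (Lpe (K38.f176676 IH) (Lpn (LP (LK LD1_c2 LD2_c50 LD3_c41))))))))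
theorem f176683 : Led Lsl_bf (LP (LK LD1_c4 LD2_c41 LD3_c39)) = (LP (LK LD1_c5 LD2_c49 LD3_c12)) :=
  Lgr Lrot96 (Lpr_et (K37.f176681 IH) (Lpr_bt (f176677 IH) (Lpr_et (K41.f176682 IH) (Lpn (LP (LK LD1_c5 LD2_c49 LD3_c12))))))
theorem f186472 : Led Lsl_gt (LP (LK LD1_c3 LD2_c5 LD3_c41)) = (LP (LK LD1_c6 LD2_c17 LD3_c5)) :=
  Lre_g IH (LK LD1_c3 LD2_c5 LD3_c41) (LK LD1_c6 LD2_c17 LD3_c5) Lrfl Lrfl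
theorem f556364 : Led Lsl_bt (LP (LK LD1_c8 LD2_c14 LD3_c49)) = (LP (LK LD1_c6 LD2_c17 LD3_c5)) :=
  Lgr Lrot92 (Lpr_ct (K39.f556062 IH) (Lpr_gt (K41.f556358 IH) (Lpr_cf (K40.f211821 IH) (Lpr_bt (K41.f24459 IH) (Lpr_gt (K12.f185976 IH) (Lpr_ct (K10.f179899 IH) (Lpe (K10.f186467 IH) (Lpe (K36.f186470 IH) (Lpr_bt (K38.f186471 IH) (Lpr_gt (f186472 IH) (Lpn (LP (LK LD1_c6 LD2_c17 LD3_c5)))))))))))))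
theorem f186473 : Led Lsl_ct (LP (LK LD1_c6 LD2_c17 LD3_c5)) = (LP (LK LD1_c12 LD2_c10 LD3_c57)) :=
  Lre_c IH (LK LD1_c6 LD2_c17 LD3_c5) (LK LD1_c12 LD2_c10 LD3_c57) Lrfl Lrfl
theorem f556368 : Led Lsl_bf (LP (LK LD1_c11 LD2_c27 LD3_c40)) = (LP (LK LD1_c12 LD2_c10 LD3_c57)) :=
  Lgr Lrot90 (Lpr_ct (f176691 IH) (Lpe (f556060 IH) (Lpr_ct (K39.f556068 IH) (Lpr_bt (f556364 IH) (Lpr_ct (f186473 IH) (Lpn (LP (LK LD1_c12 LD2_c10 LD3_c57))))))))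
theorem f556370 : Led Lsl_bt (LP (LK LD1_c11 LD2_c27 LD3_c40)) = (LP (LK LD1_c12 LD2_c10 LD3_c57)) :=
  Lgr Lrot127 (Lpr_bf (f556368 IH) (Lpn (LP (LK LD1_c12 LD2_c10 LD3_c57))))
theorem f570178 : Led Lsl_gf (LP (LK LD1_c12 LD2_c10 LD3_c4)) = (LP (LK LD1_c12 LD2_c10 LD3_c57)) :=
  Lgr Lrot181 (Lpr_ct (f569128 IH) (Lpr_gt (f570170 IH) (Lpe (f566822 IH) (Lpr_bt (f566826 IH) (Lpr_gt (K13.f241474 IH) (Lpr_bf (f176683 IH) (Lpr_ct (K38.f176621 IH) (Lpr_gt (K39.f176629 IH) (Lpe (f176691 IH) (Lpr_bt (f556370 IH) (Lpn (LP (LK LD1_c12 LD2_c10 LD3_c57)))))))))))))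
theorem f569129 : Led Lsl_ct (LP (LK LD1_c6 LD2_c16 LD3_c32)) = (LP (LK LD1_c12 LD2_c10 LD3_c4)) :=
  Lre_c IH (LK LD1_c6 LD2_c16 LD3_c32) (LK LD1_c12 LD2_c10 LD3_c4) Lrfl Lrfl
theorem f556366 : Led Lsl_bf (LP (LK LD1_c8 LD2_c14 LD3_c49)) = (LP (LK LD1_c6 LD2_c17 LD3_c5)) :=
  Lgr Lrot24 (Lpr_bt (f556364 IH) (Lpn (LP (LK LD1_c6 LD2_c17 LD3_c5))))
theorem f570180 : Led Lsl_bt (LP (LK LD1_c6 LD2_c16 LD3_c32)) = (LP (LK LD1_c4 LD2_c56 LD3_c43)) :=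
  Lgr Lrot130 (Lpr_ct (f569129 IH) (Lpr_gf (f570178 IH) (Lpe (f186473 IH) (Lpe (f556366 IH) (Lpr_gf (K39.f556073 IH) (Lpe (K41.f450363 IH) (Lpr_ct (K38.f547108 IH) (Lpr_gf (K39.f556348 IH) (Lpe (K39.f179914 IH) (Lpe (f172601 IH) (Lpn (LP (LK LD1_c4 LD2_c56 LD3_c43)))))))))))))
theorem f97173 : Led Lsl_ct (LP (LK LD1_c7 LD2_c39 LD3_c19)) = (LP (LK LD1_c13 LD2_c38 LD3_c27)) :=
  Lgr Lrot40 (Lpe (f97171 IH) (Lpr_cf (K34.f97147 IH) (Lpe (K41.f97172 IH) (Lpn (LP (LK LD1_c13 LD2_c38 LD3_c27))))))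
theorem f570182 : Led Lsl_bf (LP (LK LD1_c12 LD2_c10 LD3_c4)) = (LP (LK LD1_c13 LD2_c38 LD3_c27)) :=
  Lgr Lrot90 (Lpr_ct (f569128 IH) (Lpr_bt (f570180 IH) (Lpr_ct (f556386 IH) (Lpr_bt (f570108 IH) (Lpr_ct (f97173 IH) (Lpn (LP (LK LD1_c13 LD2_c38 LD3_c27))))))))
theorem f570184 : Led Lsl_bt (LP (LK LD1_c12 LD2_c10 LD3_c4)) = (LP (LK LD1_c13 LD2_c38 LD3_c27)) :=
  Lgr Lrot127 (Lpr_bf (f570182 IH) (Lpn (LP (LK LD1_c13 LD2_c38 LD3_c27))))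
theorem f570172 : Led Lsl_gf (LP (LK LD1_c6 LD2_c16 LD3_c32)) = (LP (LK LD1_c9 LD2_c51 LD3_c22)) :=
  Lgr Lrot47 (Lpr_gt (f570170 IH) (Lpr_af (K39.f552403 IH) (Lpe (K39.f552411 IH) (Lpn (LP (LK LD1_c9 LD2_c51 LD3_c22))))))
theorem f6555 : Led Lsl_bt (LP (LK LD1_c7 LD2_c14 LD3_c29)) = (LP (LK LD1_c3 LD2_c37 LD3_c4)) :=
  Lre_b IH (LK LD1_c7 LD2_c14 LD3_c29) (LK LD1_c3 LD2_c37 LD3_c4) Lrfl Lrfl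
theorem f570191 : Led Lsl_cf (LP (LK LD1_c9 LD2_c51 LD3_c22)) = (LP (LK LD1_c7 LD2_c14 LD3_c29)) :=
  Lgr Lrot160 (Lpe (f570172 IH) (Lpe (f569128 IH) (Lpr_bt (f570184 IH) (Lpr_gt (K41.f97438 IH) (Lpe (K41.f540979 IH) (Lpr_gt (K41.f6554 IH) (Lpe (f6131 IH) (Lpe (K36.f6129 IH) (Lpr_gt (K41.f6548 IH) (Lpe (f6555 IH) (Lpn (LP (LK LD1_c7 LD2_c14 LD3_c29)))))))))))))
theorem f563622 : Led Lsl_bf (LP (LK LD1_c5 LD2_c48 LD3_c39)) = (LP (LK LD1_c6 LD2_c16 LD3_c15)) :=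
  Lgr Lrot34 (Lpr_gf (K41.f563606 IH) (Lpe (K8.f108503 IH) (Lpe (K3.f108528 IH) (Lpe (K3.f6124 IH) (Lpr_cf (K3.f17639 IH) (Lpr_gf (K3.f10600 IH) (Lpr_bf (K37.f519729 IH) (Lpq (K37.f543803 IH) (Lpr_ct (K37.f202261 IH) (Lpe (K35.f202231 IH) (Lpe (K40.f419044 IH) (Lpn (LP (LK LD1_c6 LD2_c16 LD3_c15))))))))))))))
theorem f175518 : Led Lsl_ct (LP (LK LD1_c2 LD2_c13 LD3_c22)) = (LP (LK LD1_c4 LD2_c32 LD3_c47)) :=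
  Lre_c IH (LK LD1_c2 LD2_c13 LD3_c22) (LK LD1_c4 LD2_c32 LD3_c47) Lrfl Lrfl
theorem f268732 : Led Lsl_af (LP (LK LD1_c2 LD2_c47 LD3_c33)) = (LP (LK LD1_c4 LD2_c32 LD3_c47)) :=
  Lgr Lrot68 (Lpr_ct (K36.f172708 IH) (Lpr_at (K16.f268725 IH) (Lpr_ct (f175518 IH) (Lpn (LP (LK LD1_c4 LD2_c32 LD3_c47))))))
theorem f540142 : Led Lsl_dt (LP (LK LD1_c4 LD2_c37 LD3_c23)) = (LP (LK LD1_c4 LD2_c32 LD3_c47)) :=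
  Lgr Lrot44 (Lpr_af (K36.f540134 IH) (Lpe (K30.f172702 IH) (Lpr_af (f268732 IH) (Lpn (LP (LK LD1_c4 LD2_c32 LD3_c47))))))
theorem f268731 : Led Lsl_bt (LP (LK LD1_c2 LD2_c13 LD3_c22)) = (LP (LK LD1_c4 LD2_c32 LD3_c41)) :=
  Lre_b IH (LK LD1_c2 LD2_c13 LD3_c22) (LK LD1_c4 LD2_c32 LD3_c41) Lrfl Lrfl
theorem f563628 : Led Lsl_gt (LP (LK LD1_c4 LD2_c32 LD3_c41)) = (LP (LK LD1_c6 LD2_c16 LD3_c16)) :=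
  Lgr Lrot190 (Lpe (f268731 IH) (Lpe (K41.f175520 IH) (Lpe (f540142 IH) (Lpr_gf (K36.f209983 IH) (Lpe (K39.f209987 IH) (Lpe (K39.f210028 IH) (Lpe (K32.f69010 IH) (Lpe (K8.f159022 IH) (Lpr_bf (K36.f159026 IH) (Lpe (K5.f57529 IH) (Lpe (K5.f130116 IH) (Lpe (K4.f103778 IH) (Lpe (K4.f111485 IH) (Lpr_cf (K4.f92452 IH) (Lpr_df (K36.f540257 IH) (Lpe (K40.f210300 IH) (Lpr_bf (f563622 IH) (Lpe (K40.f202281 IH) (Lpe (K40.f204762 IH) (Lpn (LP (LK LD1_c6 LD2_c16 LD3_c16))))))))))))))))))))))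
theorem f548171 : Led Lsl_ff (LP (LK LD1_c5 LD2_c41 LD3_c25)) = (LP (LK LD1_c2 LD2_c53 LD3_c10)) :=
  Lgr Lrot30 (Lpr_at (K38.f423346 IH) (Lpr_ft (K40.f548169 IH) (Lpr_at (f208591 IH) (Lpn (LP (LK LD1_c2 LD2_c53 LD3_c10))))))
theorem f500413 : Led Lsl_gt (LP (LK LD1_c2 LD2_c53 LD3_c10)) = (LP (LK LD1_c5 LD2_c53 LD3_c39)) :=
  Lre_g IH (LK LD1_c2 LD2_c53 LD3_c10) (LK LD1_c5 LD2_c53 LD3_c39) Lrfl Lrfl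
theorem f548235 : Led Lsl_gf (LP (LK LD1_c9 LD2_c2 LD3_c30)) = (LP (LK LD1_c5 LD2_c53 LD3_c39)) :=
  Lgr Lrot76 (Lpe (K38.f423346 IH) (Lpr_ff (f548171 IH) (Lpr_gt (f500413 IH) (Lpn (LP (LK LD1_c5 LD2_c53 LD3_c39))))))
theorem f59057 : Led Lsl_dt (LP (LK LD1_c3 LD2_c5 LD3_c13)) = (LP (LK LD1_c6 LD2_c16 LD3_c16)) :=
  Lre_d IH (LK LD1_c3 LD2_c5 LD3_c13) (LK LD1_c6 LD2_c16 LD3_c16) Lrfl Lrfl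
theorem f536150 : Led Lsl_et (LP (LK LD1_c3 LD2_c5 LD3_c13)) = (LP (LK LD1_c6 LD2_c16 LD3_c17)) :=
  Lre_e IH (LK LD1_c3 LD2_c5 LD3_c13) (LK LD1_c6 LD2_c16 LD3_c17) Lrfl Lrfl
theorem f559578 : Led Lsl_gf (LP (LK LD1_c9 LD2_c51 LD3_c22)) = (LP (LK LD1_c6 LD2_c16 LD3_c17)) :=
  Lgr Lrot76 (Lpe (K39.f175703 IH) (Lpe (K39.f285264 IH) (Lpr_gt (K41.f559576 IH) (Lpn (LP (LK LD1_c6 LD2_c16 LD3_c17))))))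
theorem f563633 : Led Lsl_df (LP (LK LD1_c5 LD2_c53 LD3_c39)) = (LP (LK LD1_c9 LD2_c51 LD3_c22)) :=
  Lgr Lrot135 (Lpe (f548235 IH) (Lpe (K39.f411664 IH) (Lpr_et (K39.f411663 IH) (Lpr_gt (K30.f174538 IH) (Lpe (K16.f269076 IH) (Lpr_dt (K37.f396320 IH) (Lpr_gt (f563628 IH) (Lpe (f59057 IH) (Lpr_et (f536150 IH) (Lpe (f559578 IH) (Lpn (LP (LK LD1_c9 LD2_c51 LD3_c22)))))))))))))
theorem f563637 : Led Lsl_dt (LP (LK LD1_c5 LD2_c53 LD3_c39)) = (LP (LK LD1_c9 LD2_c51 LD3_c22)) :=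
  Lgr Lrot42 (Lpr_df (f563633 IH) (Lpn (LP (LK LD1_c9 LD2_c51 LD3_c22))))
theorem f71033 : Led Lsl_dt (LP (LK LD1_c2 LD2_c53 LD3_c26)) = (LP (LK LD1_c5 LD2_c54 LD3_c6)) :=
  Lre_d IH (LK LD1_c2 LD2_c53 LD3_c26) (LK LD1_c5 LD2_c54 LD3_c6) Lrfl Lrfl
theorem f81867 : Led Lsl_gt (LP (LK LD1_c5 LD2_c54 LD3_c6)) = (LP (LK LD1_c11 LD2_c33 LD3_c61)) :=
  Lre_g IH (LK LD1_c5 LD2_c54 LD3_c6) (LK LD1_c11 LD2_c33 LD3_c61) Lrfl Lrfl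
theorem f570200 : Led Lsl_dt (LP (LK LD1_c11 LD2_c33 LD3_c61)) = (LP (LK LD1_c7 LD2_c14 LD3_c29)) :=
  Lgr Lrot105 (Lpe (f81867 IH) (Lpe (f71033 IH) (Lpe (K39.f556727 IH) (Lpe (K37.f176798 IH) (Lpqs (K37.f539961 IH) (Lpe (K37.f500412 IH) (Lpr_dt (f71216 IH) (Lpr_gt (f500413 IH) (Lpr_dt (f563637 IH) (Lpr_cf (f570191 IH) (Lpn (LP (LK LD1_c7 LD2_c14 LD3_c29)))))))))))))
theorem f570204 : Led Lsl_df (LP (LK LD1_c11 LD2_c33 LD3_c61)) = (LP (LK LD1_c7 LD2_c14 LD3_c29)) :=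
  Lgr Lrot38 (Lpr_dt (f570200 IH) (Lpn (LP (LK LD1_c7 LD2_c14 LD3_c29))))
theorem f570216 : Led Lsl_ef (LP (LK LD1_c4 LD2_c4 LD3_c53)) = (LP (LK LD1_c7 LD2_c14 LD3_c29)) :=
  Lgr Lrot114 (Lpr_gt (K39.f73479 IH) (Lpr_ef (K39.f73280 IH) (Lpr_dt (K2.f73317 IH) (Lpr_gt (K8.f73326 IH) (Lpr_df (K8.f99507 IH) (Lpr_et (K37.f539966 IH) (Lpr_gt (K39.f556727 IH) (Lpr_dt (f71033 IH) (Lpr_gt (f81867 IH) (Lpr_df (f570204 IH) (Lpn (LP (LK LD1_c7 LD2_c14 LD3_c29)))))))))))))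
theorem f570222 : Led Lsl_gf (LP (LK LD1_c8 LD2_c47 LD3_c47)) = (LP (LK LD1_c11 LD2_c33 LD3_c61)) :=
  Lgr Lrot145 (Lpe (K38.f418554 IH) (Lpr_et (K38.f542315 IH) (Lpr_gt (K30.f181300 IH) (Lpr_dt (K31.f181359 IH) (Lpr_gt (K39.f181374 IH) (Lpr_df (K39.f553773 IH) (Lpr_et (K39.f557128 IH) (Lpr_gt (K39.f55867 IH) (Lpr_ef (f570216 IH) (Lpe (f570204 IH) (Lpn (LP (LK LD1_c11 LD2_c33 LD3_c61)))))))))))))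
theorem f541318 : Led Lsl_at (LP (LK LD1_c8 LD2_c12 LD3_c17)) = (LP (LK LD1_c4 LD2_c5 LD3_c51)) :=
  Lre_a IH (LK LD1_c8 LD2_c12 LD3_c17) (LK LD1_c4 LD2_c5 LD3_c51) Lrfl Lrfl
theorem f541319 : Led Lsl_ft (LP (LK LD1_c4 LD2_c5 LD3_c56)) = (LP (LK LD1_c8 LD2_c12 LD3_c17)) :=
  Lre_f IH (LK LD1_c4 LD2_c5 LD3_c56) (LK LD1_c8 LD2_c12 LD3_c17) Lrfl Lrfl
theorem f541320 : Led Lsl_gt (LP (LK LD1_c4 LD2_c5 LD3_c56)) = (LP (LK LD1_c5 LD2_c14 LD3_c25)) :=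
  Lgr Lrot5 (Lpr_ft (f541319 IH) (Lpr_at (f541318 IH) (Lpr_gf (K36.f541316 IH) (Lpn (LP (LK LD1_c5 LD2_c14 LD3_c25))))))
theorem f55851 : Led Lsl_dt (LP (LK LD1_c2 LD2_c0 LD3_c14)) = (LP (LK LD1_c4 LD2_c5 LD3_c56)) :=
  Lre_d IH (LK LD1_c2 LD2_c0 LD3_c14) (LK LD1_c4 LD2_c5 LD3_c56) Lrfl Lrfl
theorem f565258 : Led Lsl_et (LP (LK LD1_c2 LD2_c0 LD3_c14)) = (LP (LK LD1_c4 LD2_c5 LD3_c57)) :=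
  Lre_e IH (LK LD1_c2 LD2_c0 LD3_c14) (LK LD1_c4 LD2_c5 LD3_c57) Lrfl Lrfl
theorem f450195 : Led Lsl_gt (LP (LK LD1_c2 LD2_c50 LD3_c42)) = (LP (LK LD1_c5 LD2_c49 LD3_c13)) :=
  Lre_g IH (LK LD1_c2 LD2_c50 LD3_c42) (LK LD1_c5 LD2_c49 LD3_c13) Lrfl Lrfl
theorem f450196 : Led Lsl_gf (LP (LK LD1_c6 LD2_c17 LD3_c0)) = (LP (LK LD1_c5 LD2_c49 LD3_c13)) :=
  Lgr Lrot76 (Lpe (K38.f450183 IH) (Lpr_ff (K37.f450181 IH) (Lpr_gt (f450195 IH) (Lpn (LP (LK LD1_c5 LD2_c49 LD3_c13))))))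
theorem f543894 : Led Lsl_df (LP (LK LD1_c3 LD2_c33 LD3_c28)) = (LP (LK LD1_c4 LD2_c32 LD3_c34)) :=
  Lgr Lrot13 (Lpr_ct (K29.f425482 IH) (Lpr_dt (K3.f110240 IH) (Lpr_ct (K3.f109896 IH) (Lpe (K28.f425063 IH) (Lpr_ff (K28.f425029 IH) (Lpr_dt (K37.f543888 IH) (Lpr_ct (K37.f177761 IH) (Lpr_dt (K39.f181399 IH) (Lpr_ct (K37.f181332 IH) (Lpn (LP (LK LD1_c4 LD2_c32 LD3_c34))))))))))))
theorem f564295 : Led Lsl_df (LP (LK LD1_c5 LD2_c49 LD3_c13)) = (LP (LK LD1_c4 LD2_c57 LD3_c19)) :=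
  Lgr Lrot153 (Lpe (f450196 IH) (Lpr_dt (K37.f450199 IH) (Lpr_cf (K41.f564283 IH) (Lpr_df (K41.f559145 IH) (Lpe (K8.f162848 IH) (Lpr_df (f543894 IH) (Lpr_gf (K39.f546906 IH) (Lpe (K40.f302034 IH) (Lpr_gt (K35.f541676 IH) (Lpn (LP (LK LD1_c4 LD2_c57 LD3_c19))))))))))))
theorem f565259 : Led Lsl_gf (LP (LK LD1_c4 LD2_c5 LD3_c57)) = (LP (LK LD1_c6 LD2_c17 LD3_c1)) :=
  Lgr Lrot141 (Lpe (f565258 IH) (Lpr_dt (f55851 IH) (Lpr_gt (f541320 IH) (Lpe (K36.f421692 IH) (Lpr_et (K41.f565250 IH) (Lpr_gt (K35.f541676 IH) (Lpe (f564295 IH) (Lpe (f450196 IH) (Lpe (K38.f450204 IH) (Lpr_et (K38.f450205 IH) (Lpn (LP (LK LD1_c6 LD2_c17 LD3_c1)))))))))))))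
theorem f60844 : Led Lsl_dt (LP (LK LD1_c4 LD2_c5 LD3_c57)) = (LP (LK LD1_c8 LD2_c12 LD3_c33)) :=
  Lre_d IH (LK LD1_c4 LD2_c5 LD3_c57) (LK LD1_c8 LD2_c12 LD3_c33) Lrfl Lrfl
theorem f556179 : Led Lsl_et (LP (LK LD1_c4 LD2_c57 LD3_c19)) = (LP (LK LD1_c2 LD2_c26 LD3_c33)) :=
  Lre_e IH (LK LD1_c4 LD2_c57 LD3_c19) (LK LD1_c2 LD2_c26 LD3_c33) Lrfl Lrfl
theorem f418556 : Led Lsl_dt (LP (LK LD1_c2 LD2_c14 LD3_c41)) = (LP (LK LD1_c4 LD2_c35 LD3_c7)) :=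
  Lre_d IH (LK LD1_c2 LD2_c14 LD3_c41) (LK LD1_c4 LD2_c35 LD3_c7) Lrfl Lrfl
theorem f565271 : Led Lsl_gt (LP (LK LD1_c8 LD2_c12 LD3_c33)) = (LP (LK LD1_c4 LD2_c35 LD3_c7)) :=
  Lgr Lrot139 (Lpe (f60844 IH) (Lpr_gf (f565259 IH) (Lpe (K38.f450205 IH) (Lpr_dt (K38.f450204 IH) (Lpr_gf (f450196 IH) (Lpr_df (f564295 IH) (Lpr_et (f556179 IH) (Lpe (K40.f559559 IH) (Lpe (K40.f542313 IH) (Lpr_dt (f418556 IH) (Lpn (LP (LK LD1_c4 LD2_c35 LD3_c7)))))))))))))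
theorem f570224 : Led Lsl_gt (LP (LK LD1_c12 LD2_c7 LD3_c32)) = (LP (LK LD1_c7 LD2_c14 LD3_c29)) :=
  Lgr Lrot94 (Lpe (K41.f564279 IH) (Lpe (f565259 IH) (Lpr_dt (f60844 IH) (Lpr_gt (f565271 IH) (Lpr_dt (K36.f418553 IH) (Lpr_cf (K39.f418551 IH) (Lpe (K36.f418555 IH) (Lpr_gf (f570222 IH) (Lpr_df (f570204 IH) (Lpn (LP (LK LD1_c7 LD2_c14 LD3_c29))))))))))))
theorem f558361 : Led Lsl_ct (LP (LK LD1_c6 LD2_c17 LD3_c13)) = (LP (LK LD1_c5 LD2_c37 LD3_c29)) :=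
  Lgr Lrot15 (Lpr_ef (K40.f558355 IH) (Lpe (K38.f381407 IH) (Lpe (K40.f165149 IH) (Lpn (LP (LK LD1_c5 LD2_c37 LD3_c29))))))
theorem f418990 : Led Lsl_et (LP (LK LD1_c5 LD2_c38 LD3_c36)) = (LP (LK LD1_c11 LD2_c8 LD3_c21)) :=
  Lre_e IH (LK LD1_c5 LD2_c38 LD3_c36) (LK LD1_c11 LD2_c8 LD3_c21) Lrfl Lrfl
theorem f450340 : Led Lsl_bf (LP (LK LD1_c5 LD2_c38 LD3_c36)) = (LP (LK LD1_c9 LD2_c0 LD3_c27)) :=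
  Lgr Lrot96 (Lpr_et (f418990 IH) (Lpr_bt (K40.f450316 IH) (Lpe (K39.f211819 IH) (Lpn (LP (LK LD1_c9 LD2_c0 LD3_c27))))))
theorem f449744 : Led Lsl_ff (LP (LK LD1_c3 LD2_c4 LD3_c25)) = (LP (LK LD1_c4 LD2_c58 LD3_c12)) :=
  Lgr Lrot19 (Lpe (K12.f38039 IH) (Lpr_ft (K36.f449738 IH) (Lpr_dt (K10.f198079 IH) (Lpn (LP (LK LD1_c4 LD2_c58 LD3_c12))))))
theorem f449734 : Led Lsl_at (LP (LK LD1_c3 LD2_c4 LD3_c25)) = (LP (LK LD1_c2 LD2_c45 LD3_c14)) :=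
  Lgr Lrot51 (Lpe (K12.f38048 IH) (Lpr_af (K36.f449728 IH) (Lpe (K12.f24567 IH) (Lpn (LP (LK LD1_c2 LD2_c45 LD3_c14))))))
theorem f449588 : Led Lsl_ff (LP (LK LD1_c4 LD2_c22 LD3_c38)) = (LP (LK LD1_c2 LD2_c45 LD3_c14)) :=
  Lgr Lrot23 (Lpr_ct (K12.f193394 IH) (Lpr_ft (K36.f449582 IH) (Lpr_ct (K12.f24566 IH) (Lpn (LP (LK LD1_c2 LD2_c45 LD3_c14))))))
theorem f449905 : Led Lsl_at (LP (LK LD1_c4 LD2_c22 LD3_c38)) = (LP (LK LD1_c4 LD2_c58 LD3_c12)) :=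
  Lgr Lrot66 (Lpr_ff (f449588 IH) (Lpe (f449734 IH) (Lpr_ff (f449744 IH) (Lpn (LP (LK LD1_c4 LD2_c58 LD3_c12))))))
theorem f210963 : Led Lsl_bt (LP (LK LD1_c8 LD2_c43 LD3_c8)) = (LP (LK LD1_c4 LD2_c22 LD3_c38)) :=
  Lre_b IH (LK LD1_c8 LD2_c43 LD3_c8) (LK LD1_c4 LD2_c22 LD3_c38) Lrfl Lrfl
theorem f418571 : Led Lsl_at (LP (LK LD1_c16 LD2_c19 LD3_c54)) = (LP (LK LD1_c8 LD2_c43 LD3_c8)) :=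
  Lre_a IH (LK LD1_c16 LD2_c19 LD3_c54) (LK LD1_c8 LD2_c43 LD3_c8) Lrfl Lrfl
theorem f449907 : Led Lsl_bf (LP (LK LD1_c16 LD2_c19 LD3_c54)) = (LP (LK LD1_c11 LD2_c8 LD3_c20)) :=
  Lgr Lrot81 (Lpr_at (f418571 IH) (Lpr_bt (f210963 IH) (Lpr_at (f449905 IH) (Lpr_bt (K41.f211722 IH) (Lpr_at (K41.f418991 IH) (Lpn (LP (LK LD1_c11 LD2_c8 LD3_c20))))))))
theorem f193397 : Led Lsl_bt (LP (LK LD1_c4 LD2_c22 LD3_c38)) = (LP (LK LD1_c8 LD2_c43 LD3_c8)) :=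
  Lre_b IH (LK LD1_c4 LD2_c22 LD3_c38) (LK LD1_c8 LD2_c43 LD3_c8) Lrfl Lrfl
theorem f198335 : Led Lsl_ct (LP (LK LD1_c8 LD2_c43 LD3_c8)) = (LP (LK LD1_c4 LD2_c31 LD3_c15)) :=
  Lgr Lrot83 (Lpe (f193397 IH) (Lpe (K12.f193389 IH) (Lpr_bf (K11.f198331 IH) (Lpe (K10.f20739 IH) (Lpe (f26716 IH) (Lpn (LP (LK LD1_c4 LD2_c31 LD3_c15))))))))
theorem f421072 : Led Lsl_cf (LP (LK LD1_c8 LD2_c43 LD3_c8)) = (LP (LK LD1_c4 LD2_c31 LD3_c15)) :=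
  Lgr Lrot11 (Lpr_ct (f198335 IH) (Lpn (LP (LK LD1_c4 LD2_c31 LD3_c15))))
theorem f418579 : Led Lsl_at (LP (LK LD1_c8 LD2_c43 LD3_c8)) = (LP (LK LD1_c16 LD2_c19 LD3_c54)) :=
  Lre_a IH (LK LD1_c8 LD2_c43 LD3_c8) (LK LD1_c16 LD2_c19 LD3_c54) Lrfl Lrfl
theorem f175557 : Led Lsl_at (LP (LK LD1_c9 LD2_c0 LD3_c28)) = (LP (LK LD1_c4 LD2_c31 LD3_c15)) :=
  Lre_a IH (LK LD1_c9 LD2_c0 LD3_c28) (LK LD1_c4 LD2_c31 LD3_c15) Lrfl Lrfl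
theorem f421074 : Led Lsl_ct (LP (LK LD1_c16 LD2_c19 LD3_c54)) = (LP (LK LD1_c9 LD2_c0 LD3_c28)) :=
  Lgr Lrot111 (Lpe (f418579 IH) (Lpr_cf (f421072 IH) (Lpe (f175557 IH) (Lpn (LP (LK LD1_c9 LD2_c0 LD3_c28))))))
theorem f450342 : Led Lsl_bt (LP (LK LD1_c9 LD2_c0 LD3_c28)) = (LP (LK LD1_c5 LD2_c38 LD3_c44)) :=
  Lgr Lrot128 (Lpe (f421074 IH) (Lpr_bf (f449907 IH) (Lpe (K41.f418986 IH) (Lpr_bf (f450340 IH) (Lpr_cf (K40.f211831 IH) (Lpn (LP (LK LD1_c5 LD2_c38 LD3_c44))))))))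
theorem f450352 : Led Lsl_bf (LP (LK LD1_c9 LD2_c0 LD3_c28)) = (LP (LK LD1_c5 LD2_c38 LD3_c44)) :=
  Lgr Lrot24 (Lpr_bt (f450342 IH) (Lpn (LP (LK LD1_c5 LD2_c38 LD3_c44))))
theorem f24555 : Led Lsl_bt (LP (LK LD1_c1 LD2_c18 LD3_c56)) = (LP (LK LD1_c2 LD2_c45 LD3_c15)) :=
  Lre_b IH (LK LD1_c1 LD2_c18 LD3_c56) (LK LD1_c2 LD2_c45 LD3_c15) Lrfl Lrfl
theorem f450058 : Led Lsl_ft (LP (LK LD1_c2 LD2_c45 LD3_c15)) = (LP (LK LD1_c4 LD2_c31 LD3_c15)) :=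
  Lgr Lrot75 (Lpe (f24555 IH) (Lpr_ff (K37.f450056 IH) (Lpe (f26716 IH) (Lpn (LP (LK LD1_c4 LD2_c31 LD3_c15))))))
theorem f24556 : Led Lsl_gt (LP (LK LD1_c2 LD2_c45 LD3_c15)) = (LP (LK LD1_c5 LD2_c38 LD3_c43)) :=
  Lre_g IH (LK LD1_c2 LD2_c45 LD3_c15) (LK LD1_c5 LD2_c38 LD3_c43) Lrfl Lrfl
theorem f175564 : Led Lsl_at (LP (LK LD1_c4 LD2_c31 LD3_c15)) = (LP (LK LD1_c9 LD2_c0 LD3_c28)) :=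
  Lre_a IH (LK LD1_c4 LD2_c31 LD3_c15) (LK LD1_c9 LD2_c0 LD3_c28) Lrfl Lrfl
theorem f450489 : Led Lsl_gt (LP (LK LD1_c5 LD2_c38 LD3_c43)) = (LP (LK LD1_c9 LD2_c0 LD3_c28)) :=
  Lgr Lrot46 (Lpe (f24556 IH) (Lpr_ft (f450058 IH) (Lpr_at (f175564 IH) (Lpn (LP (LK LD1_c9 LD2_c0 LD3_c28))))))
theorem f570196 : Led Lsl_ct (LP (LK LD1_c9 LD2_c51 LD3_c22)) = (LP (LK LD1_c7 LD2_c14 LD3_c29)) :=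
  Lgr Lrot59 (Lpr_cf (f570191 IH) (Lpn (LP (LK LD1_c7 LD2_c14 LD3_c29))))
theorem f570232 : Led Lsl_bf (LP (LK LD1_c5 LD2_c38 LD3_c43)) = (LP (LK LD1_c9 LD2_c51 LD3_c22)) :=
  Lgr Lrot156 (Lpr_gt (f450489 IH) (Lpr_bf (f450352 IH) (Lpe (K40.f211831 IH) (Lpe (K40.f562532 IH) (Lpe (f558361 IH) (Lpr_bt (f558359 IH) (Lpr_gt (K38.f548962 IH) (Lpr_ct (K41.f564279 IH) (Lpr_gt (f570224 IH) (Lpe (f570196 IH) (Lpn (LP (LK LD1_c9 LD2_c51 LD3_c22)))))))))))))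
theorem f547462 : Led Lsl_bf (LP (LK LD1_c6 LD2_c15 LD3_c51)) = (LP (LK LD1_c9 LD2_c0 LD3_c7)) :=
  Lgr Lrot24 (Lpr_bt (K39.f547459 IH) (Lpn (LP (LK LD1_c9 LD2_c0 LD3_c7))))
theorem f570242 : Led Lsl_ft (LP (LK LD1_c5 LD2_c38 LD3_c43)) = (LP (LK LD1_c9 LD2_c0 LD3_c7)) :=
  Lgr Lrot75 (Lpr_bf (f570232 IH) (Lpr_ff (K39.f552413 IH) (Lpr_bf (f547462 IH) (Lpn (LP (LK LD1_c9 LD2_c0 LD3_c7))))))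
theorem f568618 : Led Lsl_af (LP (LK LD1_c5 LD2_c38 LD3_c43)) = (LP (LK LD1_c4 LD2_c39 LD3_c48)) :=
  Lgr Lrot31 (Lpe (f24556 IH) (Lpr_gf (f568616 IH) (Lpr_ft (K36.f542674 IH) (Lpn (LP (LK LD1_c4 LD2_c39 LD3_c48))))))
theorem f570244 : Led Lsl_af (LP (LK LD1_c5 LD2_c0 LD3_c34)) = (LP (LK LD1_c9 LD2_c0 LD3_c7)) :=
  Lgr Lrot45 (Lpr_ft (K36.f542674 IH) (Lpe (f568618 IH) (Lpr_ft (f570242 IH) (Lpn (LP (LK LD1_c9 LD2_c0 LD3_c7))))))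
theorem f570250 : Led Lsl_gt (LP (LK LD1_c9 LD2_c0 LD3_c28)) = (LP (LK LD1_c5 LD2_c0 LD3_c34)) :=
  Lgr Lrot46 (Lpe (f450489 IH) (Lpr_ft (f570242 IH) (Lpe (f570244 IH) (Lpn (LP (LK LD1_c5 LD2_c0 LD3_c34))))))
theorem f562558 : Led Lsl_ef (LP (LK LD1_c10 LD2_c15 LD3_c24)) = (LP (LK LD1_c5 LD2_c38 LD3_c44)) :=
  Lgr Lrot28 (Lpr_ct (K40.f562552 IH) (Lpe (K39.f211819 IH) (Lpr_ct (K40.f211829 IH) (Lpn (LP (LK LD1_c5 LD2_c38 LD3_c44))))))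
theorem f562635 : Led Lsl_et (LP (LK LD1_c7 LD2_c59 LD3_c6)) = (LP (LK LD1_c9 LD2_c0 LD3_c28)) :=
  Lgr Lrot74 (Lpr_bf (K40.f562629 IH) (Lpr_ef (f562558 IH) (Lpe (f450342 IH) (Lpn (LP (LK LD1_c9 LD2_c0 LD3_c28))))))
theorem f181327 : Led Lsl_gt (LP (LK LD1_c4 LD2_c33 LD3_c6)) = (LP (LK LD1_c2 LD2_c13 LD3_c37)) :=
  Lre_g IH (LK LD1_c4 LD2_c33 LD3_c6) (LK LD1_c2 LD2_c13 LD3_c37) Lrfl Lrfl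
theorem f570254 : Led Lsl_dt (LP (LK LD1_c7 LD2_c59 LD3_c6)) = (LP (LK LD1_c5 LD2_c55 LD3_c58)) :=
  Lgr Lrot56 (Lpr_et (f562635 IH) (Lpr_gt (f570250 IH) (Lpr_ef (K36.f495979 IH) (Lpr_dt (f547416 IH) (Lpr_gt (f181327 IH) (Lpe (K38.f172354 IH) (Lpr_et (K38.f494185 IH) (Lpq (K37.f542326 IH) (Lpe (K37.f500526 IH) (Lpr_dt (K41.f71979 IH) (Lpr_gt (K40.f161438 IH) (Lpn (LP (LK LD1_c5 LD2_c55 LD3_c58))))))))))))))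
theorem f542799 : Led Lsl_ft (LP (LK LD1_c2 LD2_c16 LD3_c53)) = (LP (LK LD1_c4 LD2_c39 LD3_c45)) :=
  Lre_f IH (LK LD1_c2 LD2_c16 LD3_c53) (LK LD1_c4 LD2_c39 LD3_c45) Lrfl Lrfl
theorem f570246 : Led Lsl_ef (LP (LK LD1_c5 LD2_c38 LD3_c43)) = (LP (LK LD1_c4 LD2_c39 LD3_c45)) :=
  Lgr Lrot21 (Lpr_ft (f570242 IH) (Lpr_et (K39.f407824 IH) (Lpr_ft (K39.f547396 IH) (Lpe (K38.f546515 IH) (Lpr_ft (f542799 IH) (Lpn (LP (LK LD1_c4 LD2_c39 LD3_c45))))))))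
theorem f542777 : Led Lsl_dt (LP (LK LD1_c4 LD2_c39 LD3_c45)) = (LP (LK LD1_c9 LD2_c15 LD3_c2)) :=
  Lre_d IH (LK LD1_c4 LD2_c39 LD3_c45) (LK LD1_c9 LD2_c15 LD3_c2) Lrfl Lrfl
theorem f82058 : Led Lsl_ef (LP (LK LD1_c2 LD2_c14 LD3_c60)) = (LP (LK LD1_c1 LD2_c23 LD3_c20)) :=
  Lgr Lrot28 (Lpr_ct (K20.f34922 IH) (Lpr_et (K2.f81815 IH) (Lpr_ct (K37.f82057 IH) (Lpn (LP (LK LD1_c1 LD2_c23 LD3_c20))))))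
theorem f495436 : Led Lsl_dt (LP (LK LD1_c2 LD2_c33 LD3_c48)) = (LP (LK LD1_c5 LD2_c13 LD3_c48)) :=
  Lre_d IH (LK LD1_c2 LD2_c33 LD3_c48) (LK LD1_c5 LD2_c13 LD3_c48) Lrfl Lrfl
theorem f570262 : Led Lsl_gf (LP (LK LD1_c9 LD2_c15 LD3_c2)) = (LP (LK LD1_c5 LD2_c13 LD3_c48)) :=
  Lgr Lrot134 (Lpe (f542777 IH) (Lpe (f570246 IH) (Lpr_gt (f450489 IH) (Lpe (f562635 IH) (Lpr_dt (f570254 IH) (Lpr_gt (K40.f562993 IH) (Lpe (K41.f442442 IH) (Lpe (f82058 IH) (Lpe (K37.f542369 IH) (Lpr_dt (f495436 IH) (Lpn (LP (LK LD1_c5 LD2_c13 LD3_c48)))))))))))))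
theorem f175501 : Led Lsl_df (LP (LK LD1_c4 LD2_c36 LD3_c35)) = (LP (LK LD1_c4 LD2_c31 LD3_c15)) :=
  Lgr Lrot12 (Lpr_bt (f71422 IH) (Lpr_dt (K10.f175499 IH) (Lpr_bt (f26637 IH) (Lpn (LP (LK LD1_c4 LD2_c31 LD3_c15))))))
theorem f175556 : Led Lsl_at (LP (LK LD1_c4 LD2_c36 LD3_c35)) = (LP (LK LD1_c9 LD2_c9 LD3_c14)) :=
  Lre_a IH (LK LD1_c4 LD2_c36 LD3_c35) (LK LD1_c9 LD2_c9 LD3_c14) Lrfl Lrfl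
theorem f175558 : Led Lsl_dt (LP (LK LD1_c9 LD2_c9 LD3_c14)) = (LP (LK LD1_c9 LD2_c0 LD3_c28)) :=
  Lgr Lrot44 (Lpe (f175556 IH) (Lpr_df (f175501 IH) (Lpe (f175557 IH) (Lpn (LP (LK LD1_c9 LD2_c0 LD3_c28))))))
theorem f175561 : Led Lsl_df (LP (LK LD1_c9 LD2_c9 LD3_c14)) = (LP (LK LD1_c9 LD2_c0 LD3_c28)) :=
  Lgr Lrot38 (Lpr_dt (f175558 IH) (Lpn (LP (LK LD1_c9 LD2_c0 LD3_c28))))
theorem f538012 : Led Lsl_dt (LP (LK LD1_c2 LD2_c16 LD3_c0)) = (LP (LK LD1_c4 LD2_c37 LD3_c39)) :=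
  Lre_d IH (LK LD1_c2 LD2_c16 LD3_c0) (LK LD1_c4 LD2_c37 LD3_c39) Lrfl Lrfl
theorem f570268 : Led Lsl_gt (LP (LK LD1_c9 LD2_c9 LD3_c14)) = (LP (LK LD1_c4 LD2_c37 LD3_c39)) :=
  Lgr Lrot139 (Lpr_df (f175561 IH) (Lpe (f450489 IH) (Lpr_ef (f570246 IH) (Lpr_dt (f542777 IH) (Lpr_gf (f570262 IH) (Lpe (f495436 IH) (Lpr_et (K40.f308141 IH) (Lpr_gf (K40.f495442 IH) (Lpqs (K40.f542404 IH) (Lpr_ef (K35.f494524 IH) (Lpqs (K35.f538005 IH) (Lpr_dt (f538012 IH) (Lpn (LP (LK LD1_c4 LD2_c37 LD3_c39)))))))))))))))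
theorem f568612 : Led Lsl_gf (LP (LK LD1_c9 LD2_c9 LD3_c14)) = (LP (LK LD1_c4 LD2_c37 LD3_c22)) :=
  Lgr Lrot76 (Lpe (f175556 IH) (Lpr_ff (f536496 IH) (Lpr_gt (f568610 IH) (Lpn (LP (LK LD1_c4 LD2_c37 LD3_c22))))))
theorem f500410 : Led Lsl_dt (LP (LK LD1_c9 LD2_c7 LD3_c2)) = (LP (LK LD1_c4 LD2_c35 LD3_c11)) :=
  Lre_d IH (LK LD1_c9 LD2_c7 LD3_c2) (LK LD1_c4 LD2_c35 LD3_c11) Lrfl Lrfl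
theorem f541485 : Led Lsl_ff (LP (LK LD1_c9 LD2_c7 LD3_c2)) = (LP (LK LD1_c4 LD2_c37 LD3_c22)) :=
  Lgr Lrot19 (Lpr_dt (f500410 IH) (Lpr_ft (K36.f541481 IH) (Lpr_dt (f438069 IH) (Lpn (LP (LK LD1_c4 LD2_c37 LD3_c22))))))
theorem f570271 : Led Lsl_at (LP (LK LD1_c9 LD2_c7 LD3_c2)) = (LP (LK LD1_c4 LD2_c37 LD3_c39)) :=
  Lgr Lrot26 (Lpr_ff (f541485 IH) (Lpe (f568612 IH) (Lpr_gt (f570268 IH) (Lpn (LP (LK LD1_c4 LD2_c37 LD3_c39))))))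
theorem f570290 : Led Lsl_et (LP (LK LD1_c16 LD2_c59 LD3_c13)) = (LP (LK LD1_c9 LD2_c7 LD3_c2)) :=
  Lre_e IH (LK LD1_c16 LD2_c59 LD3_c13) (LK LD1_c9 LD2_c7 LD3_c2) Lrfl Lrfl
theorem f570291 : Led Lsl_et (LP (LK LD1_c4 LD2_c37 LD3_c39)) = (LP (LK LD1_c9 LD2_c10 LD3_c56)) :=
  Lre_e IH (LK LD1_c4 LD2_c37 LD3_c39) (LK LD1_c9 LD2_c10 LD3_c56) Lrfl Lrfl
theorem f570292 : Led Lsl_af (LP (LK LD1_c16 LD2_c59 LD3_c13)) = (LP (LK LD1_c9 LD2_c10 LD3_c56)) :=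
  Lgr Lrot50 (Lpr_et (f570290 IH) (Lpr_at (f570271 IH) (Lpr_et (f570291 IH) (Lpn (LP (LK LD1_c9 LD2_c10 LD3_c56))))))
theorem f570296 : Led Lsl_ct (LP (LK LD1_c16 LD2_c59 LD3_c13)) = (LP (LK LD1_c26 LD2_c54 LD3_c56)) :=
  Lre_c IH (LK LD1_c16 LD2_c59 LD3_c13) (LK LD1_c26 LD2_c54 LD3_c56) Lrfl Lrfl
theorem f570297 : Led Lsl_ct (LP (LK LD1_c17 LD2_c4 LD3_c12)) = (LP (LK LD1_c9 LD2_c10 LD3_c56)) :=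
  Lre_c IH (LK LD1_c17 LD2_c4 LD3_c12) (LK LD1_c9 LD2_c10 LD3_c56) Lrfl Lrfl
theorem f570298 : Led Lsl_at (LP (LK LD1_c26 LD2_c54 LD3_c56)) = (LP (LK LD1_c17 LD2_c4 LD3_c12)) :=
  Lgr Lrot107 (Lpe (f570296 IH) (Lpr_af (f570292 IH) (Lpe (f570297 IH) (Lpn (LP (LK LD1_c17 LD2_c4 LD3_c12))))))
theorem f570302 : Led Lsl_af (LP (LK LD1_c26 LD2_c54 LD3_c56)) = (LP (LK LD1_c17 LD2_c4 LD3_c12)) :=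
  Lgr Lrot0 (Lpr_at (f570298 IH) (Lpn (LP (LK LD1_c17 LD2_c4 LD3_c12))))
theorem f570309 : Led Lsl_et (LP (LK LD1_c26 LD2_c54 LD3_c56)) = (LP (LK LD1_c16 LD2_c59 LD3_c12)) :=
  Lre_e IH (LK LD1_c26 LD2_c54 LD3_c56) (LK LD1_c16 LD2_c59 LD3_c12) Lrfl Lrfl
theorem f570310 : Led Lsl_et (LP (LK LD1_c9 LD2_c10 LD3_c55)) = (LP (LK LD1_c17 LD2_c4 LD3_c12)) :=
  Lre_e IH (LK LD1_c9 LD2_c10 LD3_c55) (LK LD1_c17 LD2_c4 LD3_c12) Lrfl Lrfl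
theorem f570311 : Led Lsl_at (LP (LK LD1_c16 LD2_c59 LD3_c12)) = (LP (LK LD1_c9 LD2_c10 LD3_c55)) :=
  Lgr Lrot80 (Lpe (f570309 IH) (Lpr_af (f570302 IH) (Lpe (f570310 IH) (Lpn (LP (LK LD1_c9 LD2_c10 LD3_c55))))))
theorem f570314 : Led Lsl_ft (LP (LK LD1_c9 LD2_c10 LD3_c55)) = (LP (LK LD1_c4 LD2_c37 LD3_c38)) :=
  Lre_f IH (LK LD1_c9 LD2_c10 LD3_c55) (LK LD1_c4 LD2_c37 LD3_c38) Lrfl Lrfl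
theorem f570315 : Led Lsl_at (LP (LK LD1_c4 LD2_c37 LD3_c38)) = (LP (LK LD1_c9 LD2_c10 LD3_c21)) :=
  Lre_a IH (LK LD1_c4 LD2_c37 LD3_c38) (LK LD1_c9 LD2_c10 LD3_c21) Lrfl Lrfl
theorem f570316 : Led Lsl_ff (LP (LK LD1_c16 LD2_c59 LD3_c12)) = (LP (LK LD1_c9 LD2_c10 LD3_c21)) :=
  Lgr Lrot30 (Lpr_at (f570311 IH) (Lpr_ft (f570314 IH) (Lpr_at (f570315 IH) (Lpn (LP (LK LD1_c9 LD2_c10 LD3_c21))))))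
theorem f538245 : Led Lsl_gt (LP (LK LD1_c9 LD2_c10 LD3_c21)) = (LP (LK LD1_c17 LD2_c3 LD3_c31)) :=
  Lre_g IH (LK LD1_c9 LD2_c10 LD3_c21) (LK LD1_c17 LD2_c3 LD3_c31) Lrfl Lrfl
theorem f570318 : Led Lsl_gt (LP (LK LD1_c17 LD2_c3 LD3_c31)) = (LP (LK LD1_c9 LD2_c10 LD3_c55)) :=
  Lgr Lrot46 (Lpe (f538245 IH) (Lpe (f570316 IH) (Lpr_at (f570311 IH) (Lpn (LP (LK LD1_c9 LD2_c10 LD3_c55))))))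
theorem f568584 : Led Lsl_bt (LP (LK LD1_c11 LD2_c8 LD3_c8)) = (LP (LK LD1_c5 LD2_c38 LD3_c26)) :=
  Lre_b IH (LK LD1_c11 LD2_c8 LD3_c8) (LK LD1_c5 LD2_c38 LD3_c26) Lrfl Lrfl
theorem f538244 : Led Lsl_ct (LP (LK LD1_c4 LD2_c37 LD3_c22)) = (LP (LK LD1_c9 LD2_c10 LD3_c21)) :=
  Lre_c IH (LK LD1_c4 LD2_c37 LD3_c22) (LK LD1_c9 LD2_c10 LD3_c21) Lrfl Lrfl
theorem f568601 : Led Lsl_ct (LP (LK LD1_c11 LD2_c8 LD3_c8)) = (LP (LK LD1_c17 LD2_c3 LD3_c31)) :=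
  Lgr Lrot10 (Lpr_bt (f568584 IH) (Lpr_gt (f568578 IH) (Lpr_ct (K7.f20337 IH) (Lpr_gt (f151857 IH) (Lpe (f568586 IH) (Lpr_bt (f568593 IH) (Lpr_gt (K35.f538254 IH) (Lpe (K35.f538236 IH) (Lpr_ct (f538244 IH) (Lpr_gt (f538245 IH) (Lpn (LP (LK LD1_c17 LD2_c3 LD3_c31)))))))))))))
theorem f540943 : Led Lsl_ct (LP (LK LD1_c4 LD2_c37 LD3_c39)) = (LP (LK LD1_c9 LD2_c10 LD3_c55)) :=
  Lre_c IH (LK LD1_c4 LD2_c37 LD3_c39) (LK LD1_c9 LD2_c10 LD3_c55) Lrfl Lrfl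
theorem f541469 : Led Lsl_bf (LP (LK LD1_c9 LD2_c7 LD3_c2)) = (LP (LK LD1_c5 LD2_c53 LD3_c38)) :=
  Lgr Lrot93 (Lpr_dt (f500410 IH) (Lpr_bt (K36.f541463 IH) (Lpr_dt (K36.f72392 IH) (Lpn (LP (LK LD1_c5 LD2_c53 LD3_c38))))))
theorem f175360 : Led Lsl_et (LP (LK LD1_c2 LD2_c57 LD3_c51)) = (LP (LK LD1_c6 LD2_c3 LD3_c28)) :=
  Lre_e IH (LK LD1_c2 LD2_c57 LD3_c51) (LK LD1_c6 LD2_c3 LD3_c28) Lrfl Lrfl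
theorem f268295 : Led Lsl_et (LP (LK LD1_c9 LD2_c14 LD3_c13)) = (LP (LK LD1_c4 LD2_c39 LD3_c17)) :=
  Lre_e IH (LK LD1_c9 LD2_c14 LD3_c13) (LK LD1_c4 LD2_c39 LD3_c17) Lrfl Lrfl
theorem f268296 : Led Lsl_ff (LP (LK LD1_c2 LD2_c57 LD3_c51)) = (LP (LK LD1_c4 LD2_c39 LD3_c17)) :=
  Lgr Lrot72 (Lpr_et (f175360 IH) (Lpr_ft (K36.f175365 IH) (Lpr_et (K36.f268288 IH) (Lpr_ft (K36.f268294 IH) (Lpr_et (f268295 IH) (Lpn (LP (LK LD1_c4 LD2_c39 LD3_c17))))))))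
theorem f539974 : Led Lsl_af (LP (LK LD1_c5 LD2_c53 LD3_c38)) = (LP (LK LD1_c2 LD2_c57 LD3_c51)) :=
  Lgr Lrot45 (Lpr_ft (K36.f539972 IH) (Lpe (K36.f538239 IH) (Lpe (f268296 IH) (Lpn (LP (LK LD1_c2 LD2_c57 LD3_c51))))))
theorem f570285 : Led Lsl_bf (LP (LK LD1_c2 LD2_c16 LD3_c36)) = (LP (LK LD1_c4 LD2_c37 LD3_c39)) :=
  Lgr Lrot81 (Lpe (K36.f412390 IH) (Lpr_bt (K35.f175665 IH) (Lpe (f539974 IH) (Lpe (f541469 IH) (Lpr_at (f570271 IH) (Lpn (LP (LK LD1_c4 LD2_c37 LD3_c39))))))))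
theorem f151825 : Led Lsl_at (LP (LK LD1_c1 LD2_c4 LD3_c28)) = (LP (LK LD1_c0 LD2_c38 LD3_c13)) :=
  Lgr Lrot51 (Lpe (K40.f69330 IH) (Lpr_af (K7.f151818 IH) (Lpe (K35.f24420 IH) (Lpn (LP (LK LD1_c0 LD2_c38 LD3_c13))))))
theorem f396377 : Led Lsl_bt (LP (LK LD1_c2 LD2_c14 LD3_c35)) = (LP (LK LD1_c1 LD2_c4 LD3_c28)) :=
  Lre_b IH (LK LD1_c2 LD2_c14 LD3_c35) (LK LD1_c1 LD2_c4 LD3_c28) Lrfl Lrfl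
theorem f500296 : Led Lsl_bf (LP (LK LD1_c4 LD2_c34 LD3_c51)) = K38.v1600 :=
  Lgr Lrot81 (Lpr_at (K40.f436302 IH) (Lpr_bt (f396377 IH) (Lpr_at (f151825 IH) (Lpr_bt (K35.f436303 IH) (Lpr_at (K38.f500294 IH) (Lpn K38.v1600))))))
theorem f570322 : Led Lsl_gf (LP (LK LD1_c5 LD2_c38 LD3_c26)) = (LP (LK LD1_c4 LD2_c34 LD3_c51)) :=
  Lgr Lrot124 (Lpe (f568584 IH) (Lpr_ct (f568601 IH) (Lpr_gt (f570318 IH) (Lpe (f540943 IH) (Lpe (f570285 IH) (Lpe (K11.f186322 IH) (Lpr_ct (K11.f185968 IH) (Lpr_gt (K11.f186113 IH) (Lpe (K10.f176614 IH) (Lpq (K38.f537706 IH) (Lpe (f500296 IH) (Lpn (LP (LK LD1_c4 LD2_c34 LD3_c51))))))))))))))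
theorem f570334 : Led Lsl_et (LP (LK LD1_c2 LD2_c45 LD3_c3)) = (LP (LK LD1_c5 LD2_c38 LD3_c7)) :=
  Lgr Lrot121 (Lpr_dt (f422731 IH) (Lpr_gf (f570322 IH) (Lpe (K7.f20356 IH) (Lpr_et (K7.f20367 IH) (Lpr_gf (K7.f151711 IH) (Lpe (K38.f22383 IH) (Lpr_dt (K38.f22384 IH) (Lpr_gf (K38.f544935 IH) (Lpr_df (K36.f538942 IH) (Lpe (K41.f380372 IH) (Lpn (LP (LK LD1_c5 LD2_c38 LD3_c7)))))))))))))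
theorem f568557 : Led Lsl_dt (LP (LK LD1_c2 LD2_c31 LD3_c7)) = (LP (LK LD1_c5 LD2_c7 LD3_c42)) :=
  Lre_d IH (LK LD1_c2 LD2_c31 LD3_c7) (LK LD1_c5 LD2_c7 LD3_c42) Lrfl Lrfl
theorem f570342 : Led Lsl_gt (LP (LK LD1_c5 LD2_c7 LD3_c42)) = (LP (LK LD1_c2 LD2_c45 LD3_c18)) :=
  Lgr Lrot139 (Lpe (f568557 IH) (Lpq (f568568 IH) (Lpe (f495371 IH) (Lpe (f151790 IH) (Lpr_dt (K7.f20336 IH) (Lpe (f568578 IH) (Lpe (f422731 IH) (Lpr_et (f570334 IH) (Lpe (K41.f380310 IH) (Lpe (K35.f380290 IH) (Lpr_dt (K40.f380309 IH) (Lpn (LP (LK LD1_c2 LD2_c45 LD3_c18))))))))))))))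
theorem f568558 : Led Lsl_dt (LP (LK LD1_c5 LD2_c7 LD3_c42)) = (LP (LK LD1_c2 LD2_c31 LD3_c7)) :=
  Lre_d IH (LK LD1_c5 LD2_c7 LD3_c42) (LK LD1_c2 LD2_c31 LD3_c7) Lrfl Lrfl
theorem f3176 : Led Lsl_ft (LP (LK LD1_c2 LD2_c31 LD3_c16)) = (LP (LK LD1_c1 LD2_c12 LD3_c36)) :=
  Lre_f IH (LK LD1_c2 LD2_c31 LD3_c16) (LK LD1_c1 LD2_c12 LD3_c36) Lrfl Lrfl
theorem f3177 : Led Lsl_at (LP (LK LD1_c1 LD2_c12 LD3_c36)) = (LP (LK LD1_c2 LD2_c31 LD3_c11)) :=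
  Lre_a IH (LK LD1_c1 LD2_c12 LD3_c36) (LK LD1_c2 LD2_c31 LD3_c11) Lrfl Lrfl
theorem f3178 : Led Lsl_ct (LP (LK LD1_c5 LD2_c7 LD3_c50)) = (LP (LK LD1_c2 LD2_c31 LD3_c11)) :=
  Lre_c IH (LK LD1_c5 LD2_c7 LD3_c50) (LK LD1_c2 LD2_c31 LD3_c11) Lrfl Lrfl
theorem f3179 : Led Lsl_dt (LP (LK LD1_c10 LD2_c5 LD3_c58)) = (LP (LK LD1_c5 LD2_c7 LD3_c50)) :=
  Lre_d IH (LK LD1_c10 LD2_c5 LD3_c58) (LK LD1_c5 LD2_c7 LD3_c50) Lrfl Lrfl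
theorem f3169 : Led Lsl_dt (LP (LK LD1_c1 LD2_c12 LD3_c37)) = (LP (LK LD1_c2 LD2_c31 LD3_c16)) :=
  Lre_d IH (LK LD1_c1 LD2_c12 LD3_c37) (LK LD1_c2 LD2_c31 LD3_c16) Lrfl Lrfl
theorem f3170 : Led Lsl_ct (LP (LK LD1_c2 LD2_c31 LD3_c16)) = (LP (LK LD1_c5 LD2_c8 LD3_c1)) :=
  Lre_c IH (LK LD1_c2 LD2_c31 LD3_c16) (LK LD1_c5 LD2_c8 LD3_c1) Lrfl Lrfl
theorem f3171 : Led Lsl_dt (LP (LK LD1_c5 LD2_c8 LD3_c1)) = (LP (LK LD1_c10 LD2_c6 LD3_c33)) :=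
  Lre_d IH (LK LD1_c5 LD2_c8 LD3_c1) (LK LD1_c10 LD2_c6 LD3_c33) Lrfl Lrfl
theorem f3180 : Led Lsl_cf (LP (LK LD1_c10 LD2_c5 LD3_c58)) = (LP (LK LD1_c10 LD2_c6 LD3_c33)) :=
  Lgr Lrot161 (Lpr_dt (f3179 IH) (Lpr_ct (f3178 IH) (Lpe (f3177 IH) (Lpe (f3176 IH) (Lpr_dt (K7.f3166 IH) (Lpr_ct (K36.f3161 IH) (Lpr_dt (f3169 IH) (Lpr_ct (f3170 IH) (Lpr_dt (f3171 IH) (Lpn (LP (LK LD1_c10 LD2_c6 LD3_c33))))))))))))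
theorem f3191 : Led Lsl_dt (LP (LK LD1_c2 LD2_c31 LD3_c11)) = (LP (LK LD1_c1 LD2_c12 LD3_c35)) :=
  Lre_d IH (LK LD1_c2 LD2_c31 LD3_c11) (LK LD1_c1 LD2_c12 LD3_c35) Lrfl Lrfl
theorem f3167 : Led Lsl_ct (LP (LK LD1_c5 LD2_c8 LD3_c1)) = (LP (LK LD1_c2 LD2_c31 LD3_c16)) :=
  Lre_c IH (LK LD1_c5 LD2_c8 LD3_c1) (LK LD1_c2 LD2_c31 LD3_c16) Lrfl Lrfl
theorem f3168 : Led Lsl_dt (LP (LK LD1_c10 LD2_c6 LD3_c33)) = (LP (LK LD1_c5 LD2_c8 LD3_c1)) :=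
  Lre_d IH (LK LD1_c10 LD2_c6 LD3_c33) (LK LD1_c5 LD2_c8 LD3_c1) Lrfl Lrfl
theorem f3189 : Led Lsl_ct (LP (LK LD1_c10 LD2_c5 LD3_c58)) = (LP (LK LD1_c10 LD2_c6 LD3_c33)) :=
  Lgr Lrot59 (Lpr_cf (f3180 IH) (Lpn (LP (LK LD1_c10 LD2_c6 LD3_c33))))
theorem f3192 : Led Lsl_dt (LP (LK LD1_c5 LD2_c7 LD3_c50)) = (LP (LK LD1_c10 LD2_c5 LD3_c58)) :=
  Lre_d IH (LK LD1_c5 LD2_c7 LD3_c50) (LK LD1_c10 LD2_c5 LD3_c58) Lrfl Lrfl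
theorem f3195 : Led Lsl_ct (LP (LK LD1_c1 LD2_c12 LD3_c35)) = (LP (LK LD1_c1 LD2_c12 LD3_c35)) :=
  Lgr Lrot176 (Lpe (f3191 IH) (Lpe (f3178 IH) (Lpe (f3179 IH) (Lpr_cf (f3180 IH) (Lpe (f3171 IH) (Lpe (f3170 IH) (Lpe (f3169 IH) (Lpe (K36.f3161 IH) (Lpe (K7.f3166 IH) (Lpe (f3167 IH) (Lpe (f3168 IH) (Lpe (f3189 IH) (Lpe (f3192 IH) (Lpe (K38.f3193 IH) (Lpe (K38.f3194 IH) (Lpn (LP (LK LD1_c1 LD2_c12 LD3_c35))))))))))))))))))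
theorem f386772 : Led Lsl_dt (LP (LK LD1_c2 LD2_c53 LD3_c45)) = (LP (LK LD1_c5 LD2_c54 LD3_c49)) :=
  Lre_d IH (LK LD1_c2 LD2_c53 LD3_c45) (LK LD1_c5 LD2_c54 LD3_c49) Lrfl Lrfl
theorem f194068 : Led Lsl_ct (LP (LK LD1_c2 LD2_c45 LD3_c18)) = (LP (LK LD1_c5 LD2_c38 LD3_c46)) :=
  Lre_c IH (LK LD1_c2 LD2_c45 LD3_c18) (LK LD1_c5 LD2_c38 LD3_c46) Lrfl Lrfl
theorem f194069 : Led Lsl_gt (LP (LK LD1_c5 LD2_c38 LD3_c46)) = (LP (LK LD1_c11 LD2_c8 LD3_c27)) :=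
  Lre_g IH (LK LD1_c5 LD2_c38 LD3_c46) (LK LD1_c11 LD2_c8 LD3_c27) Lrfl Lrfl
theorem f570350 : Led Lsl_cf (LP (LK LD1_c5 LD2_c54 LD3_c49)) = (LP (LK LD1_c11 LD2_c8 LD3_c27)) :=
  Lgr Lrot99 (Lpe (f386772 IH) (Lpr_cf (K37.f495367 IH) (Lpe (K37.f495362 IH) (Lpe (f3195 IH) (Lpr_gf (f495370 IH) (Lpqs (f568568 IH) (Lpe (f568558 IH) (Lpr_gt (f570342 IH) (Lpr_ct (f194068 IH) (Lpr_gt (f194069 IH) (Lpn (LP (LK LD1_c11 LD2_c8 LD3_c27)))))))))))))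
theorem f3288 : Led Lsl_dt (LP (LK LD1_c5 LD2_c7 LD3_c37)) = (LP (LK LD1_c2 LD2_c31 LD3_c4)) :=
  Lre_d IH (LK LD1_c5 LD2_c7 LD3_c37) (LK LD1_c2 LD2_c31 LD3_c4) Lrfl Lrfl
theorem f568529 : Led Lsl_at (LP (LK LD1_c5 LD2_c54 LD3_c49)) = (LP (LK LD1_c5 LD2_c7 LD3_c37)) :=
  Lgr Lrot51 (Lpe (f386772 IH) (Lpr_af (f568524 IH) (Lpe (f3288 IH) (Lpn (LP (LK LD1_c5 LD2_c7 LD3_c37))))))
theorem f427494 : Led Lsl_ct (LP (LK LD1_c5 LD2_c7 LD3_c37)) = (LP (LK LD1_c10 LD2_c5 LD3_c31)) :=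
  Lre_c IH (LK LD1_c5 LD2_c7 LD3_c37) (LK LD1_c10 LD2_c5 LD3_c31) Lrfl Lrfl
theorem f570362 : Led Lsl_at (LP (LK LD1_c10 LD2_c5 LD3_c31)) = (LP (LK LD1_c11 LD2_c8 LD3_c27)) :=
  Lgr Lrot107 (Lpe (f427494 IH) (Lpe (f568529 IH) (Lpr_cf (f570350 IH) (Lpn (LP (LK LD1_c11 LD2_c8 LD3_c27))))))
theorem f422749 : Led Lsl_gt (LP (LK LD1_c11 LD2_c8 LD3_c28)) = (LP (LK LD1_c5 LD2_c38 LD3_c46)) :=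
  Lre_g IH (LK LD1_c11 LD2_c8 LD3_c28) (LK LD1_c5 LD2_c38 LD3_c46) Lrfl Lrfl
theorem f570395 : Led Lsl_ff (LP (LK LD1_c10 LD2_c5 LD3_c31)) = (LP (LK LD1_c11 LD2_c8 LD3_c28)) :=
  Lgr Lrot52 (Lpr_at (f570362 IH) (Lpe (f194069 IH) (Lpe (f422749 IH) (Lpn (LP (LK LD1_c11 LD2_c8 LD3_c28))))))
theorem f570404 : Led Lsl_ft (LP (LK LD1_c10 LD2_c5 LD3_c31)) = (LP (LK LD1_c11 LD2_c8 LD3_c28)) :=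
  Lgr Lrot48 (Lpr_ff (f570395 IH) (Lpn (LP (LK LD1_c11 LD2_c8 LD3_c28))))
theorem f570407 : Led Lsl_ft (LP (LK LD1_c10 LD2_c5 LD3_c33)) = (LP (LK LD1_c5 LD2_c7 LD3_c37)) :=
  Lre_f IH (LK LD1_c10 LD2_c5 LD3_c33) (LK LD1_c5 LD2_c7 LD3_c37) Lrfl Lrfl
theorem f570408 : Led Lsl_cf (LP (LK LD1_c10 LD2_c5 LD3_c33)) = (LP (LK LD1_c11 LD2_c8 LD3_c28)) :=
  Lgr Lrot108 (Lpr_ft (f570407 IH) (Lpr_ct (f427494 IH) (Lpr_ft (f570404 IH) (Lpn (LP (LK LD1_c11 LD2_c8 LD3_c28))))))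
theorem f570415 : Led Lsl_et (LP (LK LD1_c10 LD2_c5 LD3_c33)) = (LP (LK LD1_c18 LD2_c24 LD3_c13)) :=
  Lre_e IH (LK LD1_c10 LD2_c5 LD3_c33) (LK LD1_c18 LD2_c24 LD3_c13) Lrfl Lrfl
theorem f570403 : Led Lsl_et (LP (LK LD1_c20 LD2_c2 LD3_c2)) = (LP (LK LD1_c11 LD2_c8 LD3_c28)) :=
  Lre_e IH (LK LD1_c20 LD2_c2 LD3_c2) (LK LD1_c11 LD2_c8 LD3_c28) Lrfl Lrfl
theorem f570416 : Led Lsl_ct (LP (LK LD1_c18 LD2_c24 LD3_c13)) = (LP (LK LD1_c20 LD2_c2 LD3_c2)) :=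
  Lgr Lrot15 (Lpe (f570415 IH) (Lpr_cf (f570408 IH) (Lpe (f570403 IH) (Lpn (LP (LK LD1_c20 LD2_c2 LD3_c2))))))
theorem f570422 : Led Lsl_cf (LP (LK LD1_c18 LD2_c24 LD3_c13)) = (LP (LK LD1_c20 LD2_c2 LD3_c2)) :=
  Lgr Lrot11 (Lpr_ct (f570416 IH) (Lpn (LP (LK LD1_c20 LD2_c2 LD3_c2))))
theorem f421489 : Led Lsl_at (LP (LK LD1_c18 LD2_c24 LD3_c13)) = (LP (LK LD1_c10 LD2_c5 LD3_c48)) :=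
  Lre_a IH (LK LD1_c18 LD2_c24 LD3_c13) (LK LD1_c10 LD2_c5 LD3_c48) Lrfl Lrfl
theorem f421495 : Led Lsl_ct (LP (LK LD1_c10 LD2_c5 LD3_c48)) = (LP (LK LD1_c18 LD2_c24 LD3_c34)) :=
  Lre_c IH (LK LD1_c10 LD2_c5 LD3_c48) (LK LD1_c18 LD2_c24 LD3_c34) Lrfl Lrfl
theorem f570424 : Led Lsl_at (LP (LK LD1_c18 LD2_c24 LD3_c34)) = (LP (LK LD1_c20 LD2_c2 LD3_c2)) :=
  Lgr Lrot107 (Lpe (f421495 IH) (Lpe (f421489 IH) (Lpr_cf (f570422 IH) (Lpn (LP (LK LD1_c20 LD2_c2 LD3_c2))))))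
theorem f570427 : Led Lsl_et (LP (LK LD1_c10 LD2_c5 LD3_c47)) = (LP (LK LD1_c18 LD2_c24 LD3_c34)) :=
  Lre_e IH (LK LD1_c10 LD2_c5 LD3_c47) (LK LD1_c18 LD2_c24 LD3_c34) Lrfl Lrfl
theorem f570428 : Led Lsl_af (LP (LK LD1_c10 LD2_c5 LD3_c47)) = (LP (LK LD1_c11 LD2_c8 LD3_c28)) :=
  Lgr Lrot50 (Lpr_et (f570427 IH) (Lpr_at (f570424 IH) (Lpr_et (f570403 IH) (Lpn (LP (LK LD1_c11 LD2_c8 LD3_c28))))))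
theorem f570390 : Led Lsl_af (LP (LK LD1_c10 LD2_c5 LD3_c31)) = (LP (LK LD1_c11 LD2_c8 LD3_c27)) :=
  Lgr Lrot0 (Lpr_at (f570362 IH) (Lpn (LP (LK LD1_c11 LD2_c8 LD3_c27))))
theorem f570430 : Led Lsl_ft (LP (LK LD1_c10 LD2_c5 LD3_c47)) = (LP (LK LD1_c11 LD2_c8 LD3_c27)) :=
  Lgr Lrot101 (Lpr_af (f570428 IH) (Lpe (f570404 IH) (Lpr_af (f570390 IH) (Lpn (LP (LK LD1_c11 LD2_c8 LD3_c27))))))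
theorem f165698 : Led Lsl_ct (LP (LK LD1_c5 LD2_c7 LD3_c8)) = (LP (LK LD1_c10 LD2_c4 LD3_c55)) :=
  Lre_c IH (LK LD1_c5 LD2_c7 LD3_c8) (LK LD1_c10 LD2_c4 LD3_c55) Lrfl Lrfl
theorem f3286 : Led Lsl_ct (LP (LK LD1_c10 LD2_c5 LD3_c31)) = (LP (LK LD1_c5 LD2_c7 LD3_c37)) :=
  Lre_c IH (LK LD1_c10 LD2_c5 LD3_c31) (LK LD1_c5 LD2_c7 LD3_c37) Lrfl Lrfl
theorem f557662 : Led Lsl_gt (LP (LK LD1_c10 LD2_c4 LD3_c55)) = (LP (LK LD1_c10 LD2_c5 LD3_c31)) :=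
  Lgr Lrot150 (Lpe (f165698 IH) (Lpr_gf (K40.f557652 IH) (Lpe (f3289 IH) (Lpr_gt (K36.f3281 IH) (Lpe (K36.f3174 IH) (Lpr_gt (K27.f3278 IH) (Lpr_ct (K27.f3284 IH) (Lpe (f3288 IH) (Lpe (f3286 IH) (Lpn (LP (LK LD1_c10 LD2_c5 LD3_c31))))))))))))
theorem f570437 : Led Lsl_gt (LP (LK LD1_c10 LD2_c5 LD3_c47)) = (LP (LK LD1_c10 LD2_c4 LD3_c55)) :=
  Lgr Lrot5 (Lpr_ft (f570430 IH) (Lpe (f570390 IH) (Lpe (f557662 IH) (Lpn (LP (LK LD1_c10 LD2_c4 LD3_c55))))))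
theorem f421482 : Led Lsl_ct (LP (LK LD1_c5 LD2_c7 LD3_c46)) = (LP (LK LD1_c10 LD2_c5 LD3_c47)) :=
  Lre_c IH (LK LD1_c5 LD2_c7 LD3_c46) (LK LD1_c10 LD2_c5 LD3_c47) Lrfl Lrfl
theorem f71239 : Led Lsl_dt (LP (LK LD1_c2 LD2_c53 LD3_c21)) = (LP (LK LD1_c5 LD2_c53 LD3_c60)) :=
  Lre_d IH (LK LD1_c2 LD2_c53 LD3_c21) (LK LD1_c5 LD2_c53 LD3_c60) Lrfl Lrfl
theorem f421474 : Led Lsl_dt (LP (LK LD1_c5 LD2_c7 LD3_c46)) = (LP (LK LD1_c2 LD2_c31 LD3_c9)) :=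
  Lre_d IH (LK LD1_c5 LD2_c7 LD3_c46) (LK LD1_c2 LD2_c31 LD3_c9) Lrfl Lrfl
theorem f421475 : Led Lsl_bt (LP (LK LD1_c5 LD2_c53 LD3_c60)) = (LP (LK LD1_c5 LD2_c7 LD3_c46)) :=
  Lgr Lrot95 (Lpe (f71239 IH) (Lpr_bf (K36.f421465 IH) (Lpe (f421474 IH) (Lpn (LP (LK LD1_c5 LD2_c7 LD3_c46))))))
theorem f421479 : Led Lsl_bf (LP (LK LD1_c5 LD2_c53 LD3_c60)) = (LP (LK LD1_c5 LD2_c7 LD3_c46)) :=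
  Lgr Lrot24 (Lpr_bt (f421475 IH) (Lpn (LP (LK LD1_c5 LD2_c7 LD3_c46))))
theorem f198617 : Led Lsl_gf (LP (LK LD1_c5 LD2_c3 LD3_c30)) = (LP (LK LD1_c2 LD2_c29 LD3_c24)) :=
  Lgr Lrot147 (Lpe (K36.f198615 IH) (Lpr_gt (K11.f198596 IH) (Lpr_ct (K10.f186538 IH) (Lpe (K10.f21997 IH) (Lpr_cf (K10.f185187 IH) (Lpe (K10.f32885 IH) (Lpe (K8.f31618 IH) (Lpe (K8.f165584 IH) (Lpe (K10.f165587 IH) (Lpn (LP (LK LD1_c2 LD2_c29 LD3_c24))))))))))))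
theorem f198611 : Led Lsl_ct (LP (LK LD1_c2 LD2_c30 LD3_c15)) = (LP (LK LD1_c5 LD2_c3 LD3_c30)) :=
  Lgr Lrot8 (Lpr_gt (K11.f198596 IH) (Lpr_dt (K11.f164695 IH) (Lpr_gt (K10.f184889 IH) (Lpr_dt (K2.f26941 IH) (Lpe (K8.f35027 IH) (Lpr_df (K9.f35020 IH) (Lpr_gf (K9.f165811 IH) (Lpe (K36.f165822 IH) (Lpe (K36.f165828 IH) (Lpn (LP (LK LD1_c5 LD2_c3 LD3_c30))))))))))))
theorem f249936 : Led Lsl_bt (LP (LK LD1_c2 LD2_c30 LD3_c15)) = (LP (LK LD1_c5 LD2_c5 LD3_c55)) :=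
  Lre_b IH (LK LD1_c2 LD2_c30 LD3_c15) (LK LD1_c5 LD2_c5 LD3_c55) Lrfl Lrfl
theorem f570442 : Led Lsl_gf (LP (LK LD1_c5 LD2_c53 LD3_c60)) = (LP (LK LD1_c5 LD2_c5 LD3_c55)) :=
  Lgr Lrot124 (Lpr_bf (f421479 IH) (Lpr_ct (f421482 IH) (Lpr_gt (f570437 IH) (Lpe (f165698 IH) (Lpr_bt (K36.f165697 IH) (Lpr_gt (K10.f165671 IH) (Lpe (K10.f165663 IH) (Lpe (f198617 IH) (Lpe (f198611 IH) (Lpr_bt (f249936 IH) (Lpn (LP (LK LD1_c5 LD2_c5 LD3_c55)))))))))))))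
theorem f132784 : Led Lsl_ft (LP (LK LD1_c1 LD2_c28 LD3_c38)) = (LP (LK LD1_c3 LD2_c5 LD3_c11)) :=
  Lre_f IH (LK LD1_c1 LD2_c28 LD3_c38) (LK LD1_c3 LD2_c5 LD3_c11) Lrfl Lrfl
theorem f132829 : Led Lsl_et (LP (LK LD1_c3 LD2_c5 LD3_c11)) = (LP (LK LD1_c4 LD2_c42 LD3_c56)) :=
  Lgr Lrot69 (Lpe (f132784 IH) (Lpe (K6.f132795 IH) (Lpr_ff (K5.f132820 IH) (Lpe (K6.f104820 IH) (Lpe (K39.f132828 IH) (Lpn (LP (LK LD1_c4 LD2_c42 LD3_c56))))))))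
theorem f132776 : Led Lsl_dt (LP (LK LD1_c3 LD2_c5 LD3_c11)) = (LP (LK LD1_c6 LD2_c16 LD3_c12)) :=
  Lre_d IH (LK LD1_c3 LD2_c5 LD3_c11) (LK LD1_c6 LD2_c16 LD3_c12) Lrfl Lrfl
theorem f570451 : (LP (LK LD1_c2 LD2_c53 LD3_c21)) = K41.v1633 :=
  (Llr Lrot168 (Lpr_dt (f71239 IH) (Lpr_gf (f570442 IH) (Lpe (K39.f180382 IH) (Lpr_et (K39.f180354 IH) (Lpq (K39.f552396 IH) (Lpe (K39.f503109 IH) (Lpe (f132829 IH) (Lpr_dt (f132776 IH) (Lpe (K41.f540025 IH) (Lpe (K41.f161374 IH) (Lpe (K41.f567082 IH) (Lpr_ef (K41.f567075 IH) (Lpn K41.v1633)))))))))))))).symm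
theorem f428091 : Led Lsl_dt (LP (LK LD1_c2 LD2_c53 LD3_c47)) = (LP (LK LD1_c1 LD2_c22 LD3_c54)) :=
  Lre_d IH (LK LD1_c2 LD2_c53 LD3_c47) (LK LD1_c1 LD2_c22 LD3_c54) Lrfl Lrfl
theorem f570462 : Led Lsl_ff (LP (LK LD1_c2 LD2_c53 LD3_c47)) = (LP (LK LD1_c5 LD2_c53 LD3_c60)) :=
  Lgr Lrot19 (Lpr_dt (f428091 IH) (Lpr_ft (K41.f500452 IH) (Lpq (f570451 IH) (Lpr_dt (f71239 IH) (Lpn (LP (LK LD1_c5 LD2_c53 LD3_c60)))))))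
theorem f570467 : Led Lsl_ft (LP (LK LD1_c2 LD2_c53 LD3_c47)) = (LP (LK LD1_c5 LD2_c53 LD3_c60)) :=
  Lgr Lrot48 (Lpr_ff (f570462 IH) (Lpn (LP (LK LD1_c5 LD2_c53 LD3_c60))))
theorem f570470 : Led Lsl_af (LP (LK LD1_c2 LD2_c53 LD3_c51)) = (LP (LK LD1_c5 LD2_c53 LD3_c60)) :=
  Lgr Lrot45 (Lpr_ft (K41.f566978 IH) (Lpe (K41.f566984 IH) (Lpr_ft (f570467 IH) (Lpn (LP (LK LD1_c5 LD2_c53 LD3_c60))))))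
theorem f570476 : Led Lsl_gt (LP (LK LD1_c5 LD2_c54 LD3_c53)) = (LP (LK LD1_c2 LD2_c53 LD3_c51)) :=
  Lgr Lrot46 (Lpe (K39.f137411 IH) (Lpr_ft (f570467 IH) (Lpe (f570470 IH) (Lpn (LP (LK LD1_c2 LD2_c53 LD3_c51))))))
theorem f132783 : Led Lsl_et (LP (LK LD1_c1 LD2_c6 LD3_c29)) = (LP (LK LD1_c2 LD2_c18 LD3_c54)) :=
  Lre_e IH (LK LD1_c1 LD2_c6 LD3_c29) (LK LD1_c2 LD2_c18 LD3_c54) Lrfl Lrfl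
theorem f569472 : Led Lsl_et (LP (LK LD1_c2 LD2_c59 LD3_c57)) = (LP (LK LD1_c3 LD2_c5 LD3_c1)) :=
  Lgr Lrot69 (Lpr_ff (f569464 IH) (Lpe (f132783 IH) (Lpe (K6.f132800 IH) (Lpe (K39.f132804 IH) (Lpe (K6.f132805 IH) (Lpn (LP (LK LD1_c3 LD2_c5 LD3_c1))))))))
theorem f176021 : Led Lsl_dt (LP (LK LD1_c2 LD2_c59 LD3_c57)) = (LP (LK LD1_c6 LD2_c7 LD3_c31)) :=
  Lre_d IH (LK LD1_c2 LD2_c59 LD3_c57) (LK LD1_c6 LD2_c7 LD3_c31) Lrfl Lrfl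
theorem f570491 : Led Lsl_gf (LP (LK LD1_c6 LD2_c7 LD3_c31)) = (LP (LK LD1_c3 LD2_c0 LD3_c19)) :=
  Lgr Lrot134 (Lpe (f176021 IH) (Lpr_et (f569472 IH) (Lpr_gt (K39.f132966 IH) (Lpr_ef (K39.f556786 IH) (Lpe (K41.f556793 IH) (Lpr_gt (f570476 IH) (Lpe (K41.f71115 IH) (Lpr_et (K41.f500457 IH) (Lpq (K41.f567063 IH) (Lpr_gt (K37.f544444 IH) (Lpe (K35.f412434 IH) (Lpn (LP (LK LD1_c3 LD2_c0 LD3_c19))))))))))))))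
theorem f193625 : Led Lsl_dt (LP (LK LD1_c6 LD2_c7 LD3_c31)) = (LP (LK LD1_c2 LD2_c59 LD3_c57)) :=
  Lre_d IH (LK LD1_c6 LD2_c7 LD3_c31) (LK LD1_c2 LD2_c59 LD3_c57) Lrfl Lrfl
theorem f193622 : Led Lsl_dt (LP (LK LD1_c11 LD2_c57 LD3_c36)) = (LP (LK LD1_c6 LD2_c7 LD3_c30)) :=
  Lre_d IH (LK LD1_c11 LD2_c57 LD3_c36) (LK LD1_c6 LD2_c7 LD3_c30) Lrfl Lrfl
theorem f570497 : Led Lsl_gf (LP (LK LD1_c11 LD2_c57 LD3_c36)) = (LP (LK LD1_c10 LD2_c17 LD3_c57)) :=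
  Lgr Lrot143 (Lpr_dt (f193622 IH) (Lpe (f176035 IH) (Lpe (f193625 IH) (Lpr_gf (f570491 IH) (Lpr_df (K35.f412434 IH) (Lpe (K37.f544444 IH) (Lpe (K37.f171706 IH) (Lpe (K37.f421387 IH) (Lpr_dt (K39.f308593 IH) (Lpn (LP (LK LD1_c10 LD2_c17 LD3_c57))))))))))))
theorem f193627 : Led Lsl_dt (LP (LK LD1_c6 LD2_c7 LD3_c30)) = (LP (LK LD1_c11 LD2_c57 LD3_c36)) :=
  Lre_d IH (LK LD1_c6 LD2_c7 LD3_c30) (LK LD1_c11 LD2_c57 LD3_c36) Lrfl Lrfl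
theorem f570506 : Led Lsl_et (LP (LK LD1_c6 LD2_c7 LD3_c30)) = (LP (LK LD1_c6 LD2_c15 LD3_c44)) :=
  Lgr Lrot121 (Lpr_dt (f193627 IH) (Lpr_gf (f570497 IH) (Lpe (K39.f308593 IH) (Lpr_et (K32.f421281 IH) (Lpr_gf (K6.f138745 IH) (Lpe (K38.f547516 IH) (Lpr_dt (K38.f423542 IH) (Lpe (K40.f559584 IH) (Lpe (K39.f137996 IH) (Lpr_gf (K40.f541345 IH) (Lpn (LP (LK LD1_c6 LD2_c15 LD3_c44)))))))))))))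
theorem f55531 : Led Lsl_ct (LP (LK LD1_c8 LD2_c12 LD3_c46)) = (LP (LK LD1_c4 LD2_c6 LD3_c1)) :=
  Lre_c IH (LK LD1_c8 LD2_c12 LD3_c46) (LK LD1_c4 LD2_c6 LD3_c1) Lrfl Lrfl
theorem f553830 : Led Lsl_gt (LP (LK LD1_c4 LD2_c42 LD3_c58)) = (LP (LK LD1_c4 LD2_c39 LD3_c42)) :=
  Lgr Lrot9 (Lpr_df (K40.f436706 IH) (Lpr_gt (K38.f71126 IH) (Lpr_ct (K38.f71800 IH) (Lpr_gt (K38.f548114 IH) (Lpr_ct (f55531 IH) (Lpe (K36.f55530 IH) (Lpe (K2.f56484 IH) (Lpr_gf (K39.f553824 IH) (Lpe (K39.f553818 IH) (Lpn (LP (LK LD1_c4 LD2_c39 LD3_c42))))))))))))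
theorem f421255 : Led Lsl_dt (LP (LK LD1_c5 LD2_c54 LD3_c60)) = (LP (LK LD1_c2 LD2_c53 LD3_c50)) :=
  Lre_d IH (LK LD1_c5 LD2_c54 LD3_c60) (LK LD1_c2 LD2_c53 LD3_c50) Lrfl Lrfl
theorem f570484 : Led Lsl_gt (LP (LK LD1_c8 LD2_c12 LD3_c21)) = (LP (LK LD1_c5 LD2_c54 LD3_c60)) :=
  Lgr Lrot49 (Lpe (K36.f541340 IH) (Lpe (K40.f46871 IH) (Lpr_cf (K40.f559606 IH) (Lpr_gt (f553830 IH) (Lpe (K41.f556793 IH) (Lpr_gt (f570476 IH) (Lpr_dt (K41.f239275 IH) (Lpe (K35.f201595 IH) (Lpe (f421255 IH) (Lpn (LP (LK LD1_c5 LD2_c54 LD3_c60))))))))))))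
theorem f570509 : Led Lsl_et (LP (LK LD1_c2 LD2_c53 LD3_c50)) = (LP (LK LD1_c5 LD2_c54 LD3_c57)) :=
  Lgr Lrot121 (Lpr_dt (K41.f421248 IH) (Lpe (f570484 IH) (Lpe (K36.f541340 IH) (Lpr_et (K36.f541285 IH) (Lpr_gf (K40.f541345 IH) (Lpe (f570506 IH) (Lpr_dt (f193627 IH) (Lpr_gf (f570497 IH) (Lpe (K39.f308593 IH) (Lpr_gf (K37.f421387 IH) (Lpn (LP (LK LD1_c5 LD2_c54 LD3_c57)))))))))))))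
theorem f570515 : Led Lsl_ef (LP (LK LD1_c2 LD2_c53 LD3_c50)) = (LP (LK LD1_c5 LD2_c54 LD3_c57)) :=
  Lgr Lrot88 (Lpr_et (f570509 IH) (Lpn (LP (LK LD1_c5 LD2_c54 LD3_c57))))
theorem f570517 : Led Lsl_et (LP (LK LD1_c5 LD2_c54 LD3_c59)) = (LP (LK LD1_c8 LD2_c25 LD3_c51)) :=
  Lgr Lrot74 (Lpe (K37.f239265 IH) (Lpr_ef (f570515 IH) (Lpr_bf (K37.f544433 IH) (Lpn (LP (LK LD1_c8 LD2_c25 LD3_c51))))))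
theorem f239271 : Led Lsl_dt (LP (LK LD1_c5 LD2_c54 LD3_c59)) = (LP (LK LD1_c11 LD2_c35 LD3_c22)) :=
  Lre_d IH (LK LD1_c5 LD2_c54 LD3_c59) (LK LD1_c11 LD2_c35 LD3_c22) Lrfl Lrfl
theorem f569495 : Led Lsl_ef (LP (LK LD1_c8 LD2_c42 LD3_c52)) = (LP (LK LD1_c8 LD2_c3 LD3_c38)) :=
  Lgr Lrot28 (Lpe (K38.f237452 IH) (Lpr_et (f237458 IH) (Lpr_ct (f569491 IH) (Lpn (LP (LK LD1_c8 LD2_c3 LD3_c38))))))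
theorem f242248 : Led Lsl_dt (LP (LK LD1_c8 LD2_c3 LD3_c38)) = (LP (LK LD1_c15 LD2_c10 LD3_c22)) :=
  Lre_d IH (LK LD1_c8 LD2_c3 LD3_c38) (LK LD1_c15 LD2_c10 LD3_c22) Lrfl Lrfl
theorem f540891 : Led Lsl_af (LP (LK LD1_c4 LD2_c36 LD3_c56)) = (LP (LK LD1_c4 LD2_c4 LD3_c50)) :=
  Lgr Lrot0 (Lpr_at (f540838 IH) (Lpn (LP (LK LD1_c4 LD2_c4 LD3_c50))))
theorem f540894 : Led Lsl_gf (LP (LK LD1_c4 LD2_c36 LD3_c56)) = (LP (LK LD1_c8 LD2_c25 LD3_c51)) :=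
  Lgr Lrot76 (Lpr_af (f540891 IH) (Lpe (f282302 IH) (Lpr_gt (K37.f47087 IH) (Lpn (LP (LK LD1_c8 LD2_c25 LD3_c51))))))
theorem f570528 : Led Lsl_gf (LP (LK LD1_c15 LD2_c10 LD3_c22)) = (LP (LK LD1_c9 LD2_c9 LD3_c42)) :=
  Lgr Lrot134 (Lpe (f242248 IH) (Lpe (f569495 IH) (Lpe (K38.f547729 IH) (Lpr_ef (K13.f240774 IH) (Lpr_dt (K39.f240819 IH) (Lpr_gt (K41.f556962 IH) (Lpe (f239271 IH) (Lpr_et (f570517 IH) (Lpe (f540894 IH) (Lpr_dt (f137871 IH) (Lpn (LP (LK LD1_c9 LD2_c9 LD3_c42)))))))))))))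
theorem f544428 : Led Lsl_ct (LP (LK LD1_c5 LD2_c54 LD3_c59)) = (LP (LK LD1_c8 LD2_c25 LD3_c51)) :=
  Lgr Lrot59 (Lpr_cf (K37.f544422 IH) (Lpn (LP (LK LD1_c8 LD2_c25 LD3_c51))))
theorem f36126 : Led Lsl_gt (LP (LK LD1_c8 LD2_c38 LD3_c59)) = (LP (LK LD1_c16 LD2_c11 LD3_c57)) :=
  Lre_g IH (LK LD1_c8 LD2_c38 LD3_c59) (LK LD1_c16 LD2_c11 LD3_c57) Lrfl Lrfl
theorem f570532 : Led Lsl_df (LP (LK LD1_c8 LD2_c43 LD3_c25)) = (LP (LK LD1_c16 LD2_c11 LD3_c57)) :=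
  Lgr Lrot84 (Lpr_cf (f569493 IH) (Lpe (f242249 IH) (Lpr_gf (f570528 IH) (Lpe (f137871 IH) (Lpr_gf (f540894 IH) (Lpe (f544428 IH) (Lpr_gt (K37.f239266 IH) (Lpr_dt (K35.f36122 IH) (Lpr_gt (f36126 IH) (Lpn (LP (LK LD1_c16 LD2_c11 LD3_c57))))))))))))
theorem f273148 : Led Lsl_at (LP (LK LD1_c10 LD2_c16 LD3_c6)) = (LP (LK LD1_c5 LD2_c12 LD3_c53)) :=
  Lre_a IH (LK LD1_c10 LD2_c16 LD3_c6) (LK LD1_c5 LD2_c12 LD3_c53) Lrfl Lrfl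
theorem f569501 : Led Lsl_gt (LP (LK LD1_c8 LD2_c43 LD3_c25)) = (LP (LK LD1_c5 LD2_c12 LD3_c53)) :=
  Lgr Lrot46 (Lpr_gf (f569499 IH) (Lpe (K41.f556871 IH) (Lpr_at (f273148 IH) (Lpn (LP (LK LD1_c5 LD2_c12 LD3_c53))))))
theorem f411037 : Led Lsl_ct (LP (LK LD1_c5 LD2_c12 LD3_c53)) = (LP (LK LD1_c5 LD2_c12 LD3_c56)) :=
  Lgr Lrot40 (Lpr_ff (K41.f272347 IH) (Lpe (K13.f240697 IH) (Lpe (f242013 IH) (Lpn (LP (LK LD1_c5 LD2_c12 LD3_c56))))))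
theorem f80746 : Led Lsl_dt (LP (LK LD1_c6 LD2_c13 LD3_c47)) = (LP (LK LD1_c12 LD2_c6 LD3_c15)) :=
  Lre_d IH (LK LD1_c6 LD2_c13 LD3_c47) (LK LD1_c12 LD2_c6 LD3_c15) Lrfl Lrfl
theorem f420404 : Led Lsl_ct (LP (LK LD1_c21 LD2_c12 LD3_c19)) = (LP (LK LD1_c12 LD2_c6 LD3_c15)) :=
  Lre_c IH (LK LD1_c21 LD2_c12 LD3_c19) (LK LD1_c12 LD2_c6 LD3_c15) Lrfl Lrfl
theorem f420396 : Led Lsl_ct (LP (LK LD1_c12 LD2_c6 LD3_c15)) = (LP (LK LD1_c21 LD2_c12 LD3_c19)) :=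
  Lre_c IH (LK LD1_c12 LD2_c6 LD3_c15) (LK LD1_c21 LD2_c12 LD3_c19) Lrfl Lrfl
theorem f566159 : Led Lsl_gt (LP (LK LD1_c3 LD2_c38 LD3_c37)) = (LP (LK LD1_c5 LD2_c53 LD3_c50)) :=
  Lgr Lrot5 (Lpr_ft (K24.f5219 IH) (Lpr_at (K41.f5169 IH) (Lpr_gf (K41.f566157 IH) (Lpn (LP (LK LD1_c5 LD2_c53 LD3_c50))))))
theorem f36132 : Led Lsl_dt (LP (LK LD1_c8 LD2_c38 LD3_c59)) = (LP (LK LD1_c4 LD2_c20 LD3_c38)) :=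
  Lre_d IH (LK LD1_c8 LD2_c38 LD3_c59) (LK LD1_c4 LD2_c20 LD3_c38) Lrfl Lrfl
theorem f36164 : Led Lsl_ct (LP (LK LD1_c16 LD2_c11 LD3_c59)) = (LP (LK LD1_c8 LD2_c38 LD3_c59)) :=
  Lre_c IH (LK LD1_c16 LD2_c11 LD3_c59) (LK LD1_c8 LD2_c38 LD3_c59) Lrfl Lrfl
theorem f569579 : Led Lsl_gt (LP (LK LD1_c21 LD2_c12 LD3_c19)) = (LP (LK LD1_c16 LD2_c11 LD3_c59)) :=
  Lgr Lrot150 (Lpe (f420396 IH) (Lpr_gf (f569543 IH) (Lpe (f5186 IH) (Lpe (f5671 IH) (Lpr_ct (K41.f5160 IH) (Lpr_gt (f566159 IH) (Lpe (K37.f442672 IH) (Lpe (f36132 IH) (Lpe (f36164 IH) (Lpn (LP (LK LD1_c16 LD2_c11 LD3_c59))))))))))))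
theorem f442675 : Led Lsl_at (LP (LK LD1_c8 LD2_c39 LD3_c0)) = (LP (LK LD1_c16 LD2_c11 LD3_c59)) :=
  Lre_a IH (LK LD1_c8 LD2_c39 LD3_c0) (LK LD1_c16 LD2_c11 LD3_c59) Lrfl Lrfl
theorem f442676 : Led Lsl_ft (LP (LK LD1_c16 LD2_c12 LD3_c5)) = (LP (LK LD1_c8 LD2_c39 LD3_c0)) :=
  Lre_f IH (LK LD1_c16 LD2_c12 LD3_c5) (LK LD1_c8 LD2_c39 LD3_c0) Lrfl Lrfl
theorem f569581 : Led Lsl_gf (LP (LK LD1_c21 LD2_c12 LD3_c19)) = (LP (LK LD1_c16 LD2_c12 LD3_c5)) :=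
  Lgr Lrot47 (Lpr_gt (f569579 IH) (Lpe (f442675 IH) (Lpe (f442676 IH) (Lpn (LP (LK LD1_c16 LD2_c12 LD3_c5))))))
theorem f201573 : Led Lsl_ct (LP (LK LD1_c8 LD2_c39 LD3_c2)) = (LP (LK LD1_c16 LD2_c12 LD3_c5)) :=
  Lre_c IH (LK LD1_c8 LD2_c39 LD3_c2) (LK LD1_c16 LD2_c12 LD3_c5) Lrfl Lrfl
theorem f570539 : Led Lsl_gf (LP (LK LD1_c8 LD2_c39 LD3_c2)) = (LP (LK LD1_c16 LD2_c11 LD3_c57)) :=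
  Lgr Lrot147 (Lpr_ct (f201573 IH) (Lpe (f569581 IH) (Lpr_ct (f420404 IH) (Lpe (f80746 IH) (Lpr_cf (f569577 IH) (Lpe (f241892 IH) (Lpe (f411037 IH) (Lpe (f569501 IH) (Lpr_df (f570532 IH) (Lpn (LP (LK LD1_c16 LD2_c11 LD3_c57))))))))))))
theorem f36203 : Led Lsl_dt (LP (LK LD1_c4 LD2_c20 LD3_c40)) = (LP (LK LD1_c8 LD2_c39 LD3_c2)) :=
  Lre_d IH (LK LD1_c4 LD2_c20 LD3_c40) (LK LD1_c8 LD2_c39 LD3_c2) Lrfl Lrfl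
theorem f35492 : Led Lsl_dt (LP (LK LD1_c8 LD2_c46 LD3_c59)) = (LP (LK LD1_c16 LD2_c26 LD3_c0)) :=
  Lre_d IH (LK LD1_c8 LD2_c46 LD3_c59) (LK LD1_c16 LD2_c26 LD3_c0) Lrfl Lrfl
theorem f570537 : Led Lsl_dt (LP (LK LD1_c8 LD2_c43 LD3_c25)) = (LP (LK LD1_c16 LD2_c11 LD3_c57)) :=
  Lgr Lrot42 (Lpr_df (f570532 IH) (Lpn (LP (LK LD1_c16 LD2_c11 LD3_c57))))
theorem f225121 : Led Lsl_et (LP (LK LD1_c8 LD2_c43 LD3_c25)) = (LP (LK LD1_c4 LD2_c22 LD3_c47)) :=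
  Lre_e IH (LK LD1_c8 LD2_c43 LD3_c25) (LK LD1_c4 LD2_c22 LD3_c47) Lrfl Lrfl
theorem f6530 : Led Lsl_ct (LP (LK LD1_c7 LD2_c6 LD3_c31)) = (LP (LK LD1_c13 LD2_c28 LD3_c10)) :=
  Lre_c IH (LK LD1_c7 LD2_c6 LD3_c31) (LK LD1_c13 LD2_c28 LD3_c10) Lrfl Lrfl
theorem f331812 : Led Lsl_cf (LP (LK LD1_c8 LD2_c1 LD3_c1)) = (LP (LK LD1_c7 LD2_c56 LD3_c14)) :=
  Lgr Lrot118 (Lpr_dt (K18.f210757 IH) (Lpr_ct (f210773 IH) (Lpe (K18.f297384 IH) (Lpr_ct (K18.f218692 IH) (Lpr_dt (K18.f297374 IH) (Lpr_ct (K18.f225001 IH) (Lpe (K39.f297390 IH) (Lpr_ff (K22.f331805 IH) (Lpr_dt (K31.f331802 IH) (Lpn (LP (LK LD1_c7 LD2_c56 LD3_c14))))))))))))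
theorem f565741 : Led Lsl_et (LP (LK LD1_c13 LD2_c28 LD3_c10)) = (LP (LK LD1_c7 LD2_c56 LD3_c14)) :=
  Lgr Lrot158 (Lpe (f6530 IH) (Lpr_ef (K41.f565735 IH) (Lpr_cf (f331812 IH) (Lpn (LP (LK LD1_c7 LD2_c56 LD3_c14))))))
theorem f98433 : Led Lsl_dt (LP (LK LD1_c13 LD2_c28 LD3_c10)) = (LP (LK LD1_c22 LD2_c47 LD3_c41)) :=
  Lre_d IH (LK LD1_c13 LD2_c28 LD3_c10) (LK LD1_c22 LD2_c47 LD3_c41) Lrfl Lrfl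
theorem f570545 : Led Lsl_gt (LP (LK LD1_c16 LD2_c26 LD3_c0)) = (LP (LK LD1_c22 LD2_c47 LD3_c41)) :=
  Lgr Lrot139 (Lpe (f35492 IH) (Lpe (K41.f35491 IH) (Lpe (K36.f35794 IH) (Lpr_dt (f36203 IH) (Lpr_gf (f570539 IH) (Lpe (f570537 IH) (Lpr_et (f225121 IH) (Lpr_gf (K38.f401406 IH) (Lpe (f565741 IH) (Lpr_dt (f98433 IH) (Lpn (LP (LK LD1_c22 LD2_c47 LD3_c41)))))))))))))
theorem f38418 : Led Lsl_dt (LP (LK LD1_c8 LD2_c48 LD3_c13)) = (LP (LK LD1_c16 LD2_c28 LD3_c21)) :=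
  Lre_d IH (LK LD1_c8 LD2_c48 LD3_c13) (LK LD1_c16 LD2_c28 LD3_c21) Lrfl Lrfl
theorem f98432 : Led Lsl_dt (LP (LK LD1_c22 LD2_c47 LD3_c41)) = (LP (LK LD1_c13 LD2_c28 LD3_c10)) :=
  Lre_d IH (LK LD1_c22 LD2_c47 LD3_c41) (LK LD1_c13 LD2_c28 LD3_c10) Lrfl Lrfl
theorem f98340 : Led Lsl_dt (LP (LK LD1_c13 LD2_c28 LD3_c11)) = (LP (LK LD1_c7 LD2_c6 LD3_c31)) :=
  Lre_d IH (LK LD1_c13 LD2_c28 LD3_c11) (LK LD1_c7 LD2_c6 LD3_c31) Lrfl Lrfl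
theorem f570547 : Led Lsl_gt (LP (LK LD1_c16 LD2_c28 LD3_c21)) = (LP (LK LD1_c13 LD2_c28 LD3_c11)) :=
  Lgr Lrot49 (Lpe (f38418 IH) (Lpe (K41.f38417 IH) (Lpr_cf (K1.f38459 IH) (Lpr_gt (K41.f35491 IH) (Lpr_dt (f35492 IH) (Lpr_gt (f570545 IH) (Lpr_dt (f98432 IH) (Lpe (f6530 IH) (Lpe (f98340 IH) (Lpn (LP (LK LD1_c13 LD2_c28 LD3_c11))))))))))))
theorem f569942 : Led Lsl_dt (LP (LK LD1_c8 LD2_c48 LD3_c26)) = (LP (LK LD1_c4 LD2_c25 LD3_c26)) :=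
  Lre_d IH (LK LD1_c8 LD2_c48 LD3_c26) (LK LD1_c4 LD2_c25 LD3_c26) Lrfl Lrfl
theorem f569977 : Led Lsl_ff (LP (LK LD1_c8 LD2_c48 LD3_c26)) = (LP (LK LD1_c16 LD2_c28 LD3_c21)) :=
  Lgr Lrot19 (Lpr_dt (f569942 IH) (Lpr_ft (f569973 IH) (Lpr_dt (f38418 IH) (Lpn (LP (LK LD1_c16 LD2_c28 LD3_c21))))))
theorem f38595 : Led Lsl_dt (LP (LK LD1_c8 LD2_c48 LD3_c12)) = (LP (LK LD1_c16 LD2_c28 LD3_c20)) :=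
  Lre_d IH (LK LD1_c8 LD2_c48 LD3_c12) (LK LD1_c16 LD2_c28 LD3_c20) Lrfl Lrfl
theorem f6526 : Led Lsl_dt (LP (LK LD1_c7 LD2_c6 LD3_c31)) = (LP (LK LD1_c13 LD2_c28 LD3_c11)) :=
  Lre_d IH (LK LD1_c7 LD2_c6 LD3_c31) (LK LD1_c13 LD2_c28 LD3_c11) Lrfl Lrfl
theorem f565830 : Led Lsl_gf (LP (LK LD1_c16 LD2_c28 LD3_c20)) = (LP (LK LD1_c13 LD2_c28 LD3_c11)) :=
  Lgr Lrot134 (Lpe (f38595 IH) (Lpr_et (K41.f565826 IH) (Lpr_gt (K36.f159214 IH) (Lpr_ef (K36.f540832 IH) (Lpr_dt (K36.f198222 IH) (Lpe (K41.f540975 IH) (Lpe (K29.f6155 IH) (Lpe (K3.f10590 IH) (Lpr_gt (K41.f6525 IH) (Lpr_dt (f6526 IH) (Lpn (LP (LK LD1_c13 LD2_c28 LD3_c11)))))))))))))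
theorem f570549 : Led Lsl_at (LP (LK LD1_c8 LD2_c48 LD3_c26)) = (LP (LK LD1_c16 LD2_c28 LD3_c20)) :=
  Lgr Lrot26 (Lpr_ff (f569977 IH) (Lpr_gt (f570547 IH) (Lpe (f565830 IH) (Lpn (LP (LK LD1_c16 LD2_c28 LD3_c20))))))
theorem f38494 : Led Lsl_dt (LP (LK LD1_c4 LD2_c25 LD3_c27)) = (LP (LK LD1_c8 LD2_c48 LD3_c29)) :=
  Lre_d IH (LK LD1_c4 LD2_c25 LD3_c27) (LK LD1_c8 LD2_c48 LD3_c29) Lrfl Lrfl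
theorem f227510 : Led Lsl_dt (LP (LK LD1_c16 LD2_c28 LD3_c21)) = (LP (LK LD1_c8 LD2_c48 LD3_c13)) :=
  Lre_d IH (LK LD1_c16 LD2_c28 LD3_c21) (LK LD1_c8 LD2_c48 LD3_c13) Lrfl Lrfl
theorem f569971 : Led Lsl_at (LP (LK LD1_c8 LD2_c48 LD3_c29)) = (LP (LK LD1_c16 LD2_c28 LD3_c21)) :=
  Lgr Lrot51 (Lpe (f38494 IH) (Lpr_af (f569965 IH) (Lpe (f227510 IH) (Lpn (LP (LK LD1_c16 LD2_c28 LD3_c21))))))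
theorem f570568 : Led Lsl_ff (LP (LK LD1_c8 LD2_c48 LD3_c29)) = (LP (LK LD1_c16 LD2_c28 LD3_c20)) :=
  Lgr Lrot30 (Lpr_at (f569971 IH) (Lpe (f569977 IH) (Lpr_at (f570549 IH) (Lpn (LP (LK LD1_c16 LD2_c28 LD3_c20))))))
theorem f570573 : Led Lsl_ft (LP (LK LD1_c8 LD2_c48 LD3_c29)) = (LP (LK LD1_c16 LD2_c28 LD3_c20)) :=
  Lgr Lrot48 (Lpr_ff (f570568 IH) (Lpn (LP (LK LD1_c16 LD2_c28 LD3_c20))))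
theorem f565058 : Led Lsl_bt (LP (LK LD1_c16 LD2_c28 LD3_c38)) = (LP (LK LD1_c8 LD2_c48 LD3_c29)) :=
  Lre_b IH (LK LD1_c16 LD2_c28 LD3_c38) (LK LD1_c8 LD2_c48 LD3_c29) Lrfl Lrfl
theorem f138762 : Led Lsl_dt (LP (LK LD1_c24 LD2_c56 LD3_c45)) = (LP (LK LD1_c15 LD2_c7 LD3_c53)) :=
  Lre_d IH (LK LD1_c24 LD2_c56 LD3_c45) (LK LD1_c15 LD2_c7 LD3_c53) Lrfl Lrfl
theorem f565836 : Led Lsl_bt (LP (LK LD1_c16 LD2_c28 LD3_c20)) = (LP (LK LD1_c24 LD2_c56 LD3_c45)) :=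
  Lgr Lrot95 (Lpe (f38595 IH) (Lpr_bf (K41.f565828 IH) (Lpe (f138762 IH) (Lpn (LP (LK LD1_c24 LD2_c56 LD3_c45))))))
theorem f570577 : Led Lsl_ff (LP (LK LD1_c16 LD2_c28 LD3_c38)) = (LP (LK LD1_c24 LD2_c56 LD3_c45)) :=
  Lgr Lrot25 (Lpr_bt (f565058 IH) (Lpr_ft (f570573 IH) (Lpr_bt (f565836 IH) (Lpn (LP (LK LD1_c24 LD2_c56 LD3_c45))))))
theorem f570587 : Led Lsl_ft (LP (LK LD1_c16 LD2_c28 LD3_c38)) = (LP (LK LD1_c24 LD2_c56 LD3_c45)) :=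
  Lgr Lrot48 (Lpr_ff (f570577 IH) (Lpn (LP (LK LD1_c24 LD2_c56 LD3_c45))))
theorem f570594 : Led Lsl_dt (LP (LK LD1_c8 LD2_c48 LD3_c27)) = (LP (LK LD1_c16 LD2_c28 LD3_c38)) :=
  Lre_d IH (LK LD1_c8 LD2_c48 LD3_c27) (LK LD1_c16 LD2_c28 LD3_c38) Lrfl Lrfl
theorem f570595 : Led Lsl_ff (LP (LK LD1_c8 LD2_c48 LD3_c27)) = (LP (LK LD1_c15 LD2_c7 LD3_c53)) :=
  Lgr Lrot19 (Lpr_dt (f570594 IH) (Lpr_ft (f570587 IH) (Lpr_dt (f138762 IH) (Lpn (LP (LK LD1_c15 LD2_c7 LD3_c53))))))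
theorem f570600 : Led Lsl_at (LP (LK LD1_c8 LD2_c48 LD3_c27)) = (LP (LK LD1_c15 LD2_c7 LD3_c59)) :=
  Lgr Lrot26 (Lpr_ff (f570595 IH) (Lpe (K41.f565842 IH) (Lpr_gt (K39.f556681 IH) (Lpn (LP (LK LD1_c15 LD2_c7 LD3_c59))))))
theorem f570602 : Led Lsl_af (LP (LK LD1_c8 LD2_c48 LD3_c27)) = (LP (LK LD1_c15 LD2_c7 LD3_c59)) :=
  Lgr Lrot0 (Lpr_at (f570600 IH) (Lpn (LP (LK LD1_c15 LD2_c7 LD3_c59))))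
theorem f570583 : Led Lsl_dt (LP (LK LD1_c16 LD2_c28 LD3_c38)) = (LP (LK LD1_c8 LD2_c48 LD3_c27)) :=
  Lre_d IH (LK LD1_c16 LD2_c28 LD3_c38) (LK LD1_c8 LD2_c48 LD3_c27) Lrfl Lrfl
theorem f138769 : Led Lsl_dt (LP (LK LD1_c15 LD2_c7 LD3_c53)) = (LP (LK LD1_c24 LD2_c56 LD3_c45)) :=
  Lre_d IH (LK LD1_c15 LD2_c7 LD3_c53) (LK LD1_c24 LD2_c56 LD3_c45) Lrfl Lrfl
theorem f570584 : Led Lsl_ft (LP (LK LD1_c8 LD2_c48 LD3_c27)) = (LP (LK LD1_c15 LD2_c7 LD3_c53)) :=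
  Lgr Lrot54 (Lpe (f570583 IH) (Lpr_ff (f570577 IH) (Lpe (f138769 IH) (Lpn (LP (LK LD1_c15 LD2_c7 LD3_c53))))))
theorem f138771 : Led Lsl_et (LP (LK LD1_c15 LD2_c7 LD3_c53)) = (LP (LK LD1_c8 LD2_c2 LD3_c11)) :=
  Lre_e IH (LK LD1_c15 LD2_c7 LD3_c53) (LK LD1_c8 LD2_c2 LD3_c11) Lrfl Lrfl
theorem f138772 : Led Lsl_et (LP (LK LD1_c4 LD2_c25 LD3_c16)) = (LP (LK LD1_c8 LD2_c48 LD3_c5)) :=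
  Lre_e IH (LK LD1_c4 LD2_c25 LD3_c16) (LK LD1_c8 LD2_c48 LD3_c5) Lrfl Lrfl
theorem f426402 : Led Lsl_af (LP (LK LD1_c15 LD2_c7 LD3_c53)) = (LP (LK LD1_c8 LD2_c48 LD3_c5)) :=
  Lgr Lrot50 (Lpr_et (f138771 IH) (Lpr_at (K28.f426398 IH) (Lpr_et (f138772 IH) (Lpn (LP (LK LD1_c8 LD2_c48 LD3_c5))))))
theorem f426404 : Led Lsl_at (LP (LK LD1_c15 LD2_c7 LD3_c53)) = (LP (LK LD1_c8 LD2_c48 LD3_c5)) :=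
  Lgr Lrot100 (Lpr_af (f426402 IH) (Lpn (LP (LK LD1_c8 LD2_c48 LD3_c5))))
theorem f570608 : Led Lsl_ft (LP (LK LD1_c8 LD2_c48 LD3_c5)) = (LP (LK LD1_c15 LD2_c7 LD3_c59)) :=
  Lgr Lrot101 (Lpe (f426404 IH) (Lpe (f570584 IH) (Lpr_af (f570602 IH) (Lpn (LP (LK LD1_c15 LD2_c7 LD3_c59))))))
theorem f570612 : Led Lsl_cf (LP (LK LD1_c8 LD2_c48 LD3_c27)) = (LP (LK LD1_c15 LD2_c7 LD3_c59)) :=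
  Lgr Lrot108 (Lpr_ft (f570584 IH) (Lpr_ct (K41.f138757 IH) (Lpr_ft (f570608 IH) (Lpn (LP (LK LD1_c15 LD2_c7 LD3_c59))))))
theorem f138768 : Led Lsl_bt (LP (LK LD1_c4 LD2_c25 LD3_c19)) = (LP (LK LD1_c8 LD2_c48 LD3_c5)) :=
  Lre_b IH (LK LD1_c4 LD2_c25 LD3_c19) (LK LD1_c8 LD2_c48 LD3_c5) Lrfl Lrfl
theorem f570610 : Led Lsl_bf (LP (LK LD1_c8 LD2_c44 LD3_c8)) = (LP (LK LD1_c15 LD2_c7 LD3_c59)) :=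
  Lgr Lrot61 (Lpe (f565749 IH) (Lpr_bt (f138768 IH) (Lpr_ft (f570608 IH) (Lpn (LP (LK LD1_c15 LD2_c7 LD3_c59))))))
theorem f421360 : Led Lsl_ct (LP (LK LD1_c8 LD2_c2 LD3_c21)) = (LP (LK LD1_c15 LD2_c7 LD3_c61)) :=
  Lre_c IH (LK LD1_c8 LD2_c2 LD3_c21) (LK LD1_c15 LD2_c7 LD3_c61) Lrfl Lrfl
theorem f570620 : Led Lsl_gf (LP (LK LD1_c8 LD2_c48 LD3_c27)) = (LP (LK LD1_c15 LD2_c7 LD3_c61)) :=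
  Lgr Lrot126 (Lpr_cf (f570612 IH) (Lpe (f570610 IH) (Lpe (K41.f565747 IH) (Lpr_ct (K41.f198001 IH) (Lpe (K36.f538280 IH) (Lpr_cf (f556692 IH) (Lpe (f556690 IH) (Lpr_gt (f568776 IH) (Lpr_bf (K41.f565377 IH) (Lpr_ct (f421360 IH) (Lpn (LP (LK LD1_c15 LD2_c7 LD3_c61)))))))))))))
theorem f29236 : Led Lsl_bt (LP (LK LD1_c1 LD2_c57 LD3_c15)) = (LP (LK LD1_c4 LD2_c0 LD3_c53)) :=
  Lre_b IH (LK LD1_c1 LD2_c57 LD3_c15) (LK LD1_c4 LD2_c0 LD3_c53) Lrfl Lrfl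
theorem f570626 : Led Lsl_gt (LP (LK LD1_c4 LD2_c0 LD3_c53)) = (LP (LK LD1_c8 LD2_c2 LD3_c21)) :=
  Lgr Lrot82 (Lpe (f29236 IH) (Lpr_ct (K1.f29221 IH) (Lpe (K10.f29234 IH) (Lpe (K10.f198003 IH) (Lpr_bt (K41.f197999 IH) (Lpr_gf (K41.f565747 IH) (Lpr_bf (f570610 IH) (Lpe (f570612 IH) (Lpr_gf (f570620 IH) (Lpe (f421360 IH) (Lpn (LP (LK LD1_c8 LD2_c2 LD3_c21)))))))))))))
theorem f29542 : Led Lsl_et (LP (LK LD1_c1 LD2_c57 LD3_c12)) = (LP (LK LD1_c4 LD2_c0 LD3_c53)) :=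
  Lre_e IH (LK LD1_c1 LD2_c57 LD3_c12) (LK LD1_c4 LD2_c0 LD3_c53) Lrfl Lrfl
theorem f29470 : Led Lsl_dt (LP (LK LD1_c1 LD2_c57 LD3_c12)) = (LP (LK LD1_c4 LD2_c0 LD3_c52)) :=
  Lre_d IH (LK LD1_c1 LD2_c57 LD3_c12) (LK LD1_c4 LD2_c0 LD3_c52) Lrfl Lrfl
theorem f81437 : Led Lsl_gt (LP (LK LD1_c15 LD2_c13 LD3_c27)) = (LP (LK LD1_c8 LD2_c5 LD3_c8)) :=
  Lre_g IH (LK LD1_c15 LD2_c13 LD3_c27) (LK LD1_c8 LD2_c5 LD3_c8) Lrfl Lrfl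
theorem f570632 : Led Lsl_df (LP (LK LD1_c15 LD2_c13 LD3_c27)) = (LP (LK LD1_c8 LD2_c38 LD3_c55)) :=
  Lgr Lrot170 (Lpr_gt (f81437 IH) (Lpe (K39.f81436 IH) (Lpe (K39.f81406 IH) (Lpe (K36.f81447 IH) (Lpe (K40.f420483 IH) (Lpr_gt (K36.f29550 IH) (Lpe (f29470 IH) (Lpr_et (f29542 IH) (Lpr_gt (f570626 IH) (Lpe (K41.f421358 IH) (Lpn (LP (LK LD1_c8 LD2_c38 LD3_c55)))))))))))))
theorem f70428 : Led Lsl_et (LP (LK LD1_c8 LD2_c45 LD3_c25)) = (LP (LK LD1_c4 LD2_c23 LD3_c46)) :=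
  Lre_e IH (LK LD1_c8 LD2_c45 LD3_c25) (LK LD1_c4 LD2_c23 LD3_c46) Lrfl Lrfl
theorem f542380 : Led Lsl_et (LP (LK LD1_c9 LD2_c45 LD3_c10)) = (LP (LK LD1_c8 LD2_c2 LD3_c15)) :=
  Lgr Lrot74 (Lpe (K32.f242497 IH) (Lpe (K13.f242495 IH) (Lpr_bf (K38.f542371 IH) (Lpn (LP (LK LD1_c8 LD2_c2 LD3_c15))))))
theorem f570642 : Led Lsl_dt (LP (LK LD1_c8 LD2_c45 LD3_c25)) = (LP (LK LD1_c7 LD2_c16 LD3_c45)) :=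
  Lgr Lrot136 (Lpr_et (f70428 IH) (Lpr_gf (K36.f81447 IH) (Lpr_ef (K39.f81406 IH) (Lpr_dt (K39.f81436 IH) (Lpe (f81437 IH) (Lpr_df (f570632 IH) (Lpe (K38.f421382 IH) (Lpe (f542380 IH) (Lpe (K40.f559051 IH) (Lpe (K28.f439378 IH) (Lpn (LP (LK LD1_c7 LD2_c16 LD3_c45)))))))))))))
theorem f80627 : Led Lsl_et (LP (LK LD1_c3 LD2_c3 LD3_c57)) = (LP (LK LD1_c6 LD2_c14 LD3_c9)) :=
  Lre_e IH (LK LD1_c3 LD2_c3 LD3_c57) (LK LD1_c6 LD2_c14 LD3_c9) Lrfl Lrfl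
theorem f499069 : Led Lsl_af (LP (LK LD1_c8 LD2_c45 LD3_c25)) = (LP (LK LD1_c6 LD2_c14 LD3_c9)) :=
  Lgr Lrot50 (Lpr_et (f70428 IH) (Lpr_at (K36.f499059 IH) (Lpr_et (f80627 IH) (Lpn (LP (LK LD1_c6 LD2_c14 LD3_c9))))))
theorem f426675 : Led Lsl_af (LP (LK LD1_c7 LD2_c18 LD3_c48)) = (LP (LK LD1_c7 LD2_c16 LD3_c45)) :=
  Lgr Lrot68 (Lpr_ct (K24.f5552 IH) (Lpr_at (K28.f426671 IH) (Lpr_ct (K28.f5632 IH) (Lpn (LP (LK LD1_c7 LD2_c16 LD3_c45))))))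
theorem f570644 : Led Lsl_df (LP (LK LD1_c6 LD2_c14 LD3_c9)) = (LP (LK LD1_c7 LD2_c18 LD3_c48)) :=
  Lgr Lrot18 (Lpe (f499069 IH) (Lpr_dt (f570642 IH) (Lpe (f426675 IH) (Lpn (LP (LK LD1_c7 LD2_c18 LD3_c48))))))
theorem f80629 : Led Lsl_bt (LP (LK LD1_c6 LD2_c14 LD3_c9)) = (LP (LK LD1_c6 LD2_c15 LD3_c20)) :=
  Lgr Lrot119 (Lpe (f80627 IH) (Lpr_bf (K36.f80552 IH) (Lpe (K32.f80628 IH) (Lpn (LP (LK LD1_c6 LD2_c15 LD3_c20))))))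
theorem f98366 : Led Lsl_cf (LP (LK LD1_c3 LD2_c33 LD3_c43)) = (LP (LK LD1_c3 LD2_c32 LD3_c46)) :=
  Lgr Lrot11 (Lpr_ct (K36.f98356 IH) (Lpn (LP (LK LD1_c3 LD2_c32 LD3_c46))))
theorem f98114 : Led Lsl_df (LP (LK LD1_c1 LD2_c44 LD3_c61)) = (LP (LK LD1_c3 LD2_c33 LD3_c43)) :=
  Lgr Lrot12 (Lpr_bt (K3.f6088 IH) (Lpr_dt (K3.f98049 IH) (Lpr_bt (K36.f6560 IH) (Lpn (LP (LK LD1_c3 LD2_c33 LD3_c43))))))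
theorem f6411 : Led Lsl_dt (LP (LK LD1_c1 LD2_c43 LD3_c4)) = (LP (LK LD1_c3 LD2_c32 LD3_c46)) :=
  Lre_d IH (LK LD1_c1 LD2_c43 LD3_c4) (LK LD1_c3 LD2_c32 LD3_c46) Lrfl Lrfl
theorem f98368 : Led Lsl_at (LP (LK LD1_c3 LD2_c32 LD3_c46)) = (LP (LK LD1_c3 LD2_c33 LD3_c43)) :=
  Lgr Lrot33 (Lpr_ff (K36.f98193 IH) (Lpe (f98114 IH) (Lpe (K3.f10448 IH) (Lpr_dt (K36.f98195 IH) (Lpr_ct (K36.f98356 IH) (Lpr_dt (K36.f6566 IH) (Lpe (K29.f10620 IH) (Lpr_dt (f6411 IH) (Lpe (f98366 IH) (Lpn (LP (LK LD1_c3 LD2_c33 LD3_c43))))))))))))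
theorem f98202 : Led Lsl_gt (LP (LK LD1_c3 LD2_c33 LD3_c43)) = (LP (LK LD1_c7 LD2_c8 LD3_c15)) :=
  Lre_g IH (LK LD1_c3 LD2_c33 LD3_c43) (LK LD1_c7 LD2_c8 LD3_c15) Lrfl Lrfl
theorem f98372 : Led Lsl_gt (LP (LK LD1_c7 LD2_c8 LD3_c15)) = (LP (LK LD1_c3 LD2_c33 LD3_c43)) :=
  Lgr Lrot46 (Lpe (f98202 IH) (Lpe (K36.f98193 IH) (Lpr_at (f98368 IH) (Lpn (LP (LK LD1_c3 LD2_c33 LD3_c43))))))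
theorem f546832 : Led Lsl_ct (LP (LK LD1_c6 LD2_c14 LD3_c9)) = (LP (LK LD1_c7 LD2_c8 LD3_c15)) :=
  Lgr Lrot64 (Lpr_bt (f80629 IH) (Lpr_gf (K37.f546824 IH) (Lpe (K37.f97151 IH) (Lpr_ct (K3.f97141 IH) (Lpe (K3.f97128 IH) (Lpe (K3.f97122 IH) (Lpe (K3.f97186 IH) (Lpe (K36.f6115 IH) (Lpe (f98366 IH) (Lpe (f98372 IH) (Lpn (LP (LK LD1_c7 LD2_c8 LD3_c15)))))))))))))
theorem f570661 : Led Lsl_bt (LP (LK LD1_c7 LD2_c8 LD3_c15)) = (LP (LK LD1_c5 LD2_c49 LD3_c38)) :=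
  Lgr Lrot178 (Lpe (f546832 IH) (Lpr_df (f570644 IH) (Lpr_gf (K24.f439372 IH) (Lpe (K24.f439362 IH) (Lpe (K39.f439355 IH) (Lpe (K24.f159657 IH) (Lpe (K8.f108102 IH) (Lpe (K8.f142322 IH) (Lpe (K6.f124653 IH) (Lpr_df (K6.f125594 IH) (Lpr_gf (K6.f144341 IH) (Lpe (K6.f144347 IH) (Lpe (K6.f145268 IH) (Lpr_df (K6.f135781 IH) (Lpr_gf (K8.f145118 IH) (Lpr_bf (K3.f95144 IH) (Lpe (K3.f96771 IH) (Lpe (f562666 IH) (Lpr_gf (K40.f562664 IH) (Lpn (LP (LK LD1_c5 LD2_c49 LD3_c38))))))))))))))))))))))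
theorem f499294 : Led Lsl_at (LP (LK LD1_c4 LD2_c39 LD3_c35)) = (LP (LK LD1_c5 LD2_c46 LD3_c23)) :=
  Lgr Lrot100 (Lpr_af (K41.f499292 IH) (Lpn (LP (LK LD1_c5 LD2_c46 LD3_c23))))
theorem f562684 : Led Lsl_ft (LP (LK LD1_c5 LD2_c49 LD3_c38)) = (LP (LK LD1_c4 LD2_c39 LD3_c35)) :=
  Lgr Lrot2 (Lpe (K40.f562664 IH) (Lpr_gt (K40.f562682 IH) (Lpe (f499294 IH) (Lpn (LP (LK LD1_c4 LD2_c39 LD3_c35))))))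
theorem f6559 : Led Lsl_bt (LP (LK LD1_c1 LD2_c43 LD3_c5)) = (LP (LK LD1_c3 LD2_c32 LD3_c46)) :=
  Lre_b IH (LK LD1_c1 LD2_c43 LD3_c5) (LK LD1_c3 LD2_c32 LD3_c46) Lrfl Lrfl
theorem f98212 : Led Lsl_af (LP (LK LD1_c3 LD2_c32 LD3_c46)) = (LP (LK LD1_c3 LD2_c33 LD3_c43)) :=
  Lgr Lrot117 (Lpr_dt (K36.f6566 IH) (Lpe (K3.f6091 IH) (Lpr_dt (K36.f98195 IH) (Lpn (LP (LK LD1_c3 LD2_c33 LD3_c43))))))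
theorem f98200 : Led Lsl_ft (LP (LK LD1_c3 LD2_c32 LD3_c46)) = (LP (LK LD1_c3 LD2_c33 LD3_c43)) :=
  Lgr Lrot48 (Lpr_ff (K36.f98193 IH) (Lpn (LP (LK LD1_c3 LD2_c33 LD3_c43))))
theorem f10624 : Led Lsl_gt (LP (LK LD1_c3 LD2_c32 LD3_c46)) = (LP (LK LD1_c7 LD2_c6 LD3_c24)) :=
  Lre_g IH (LK LD1_c3 LD2_c32 LD3_c46) (LK LD1_c7 LD2_c6 LD3_c24) Lrfl Lrfl
theorem f98422 : Led Lsl_gf (LP (LK LD1_c3 LD2_c32 LD3_c46)) = (LP (LK LD1_c7 LD2_c6 LD3_c24)) :=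
  Lgr Lrot76 (Lpr_af (f98212 IH) (Lpe (f98200 IH) (Lpr_gt (f10624 IH) (Lpn (LP (LK LD1_c7 LD2_c6 LD3_c24))))))
theorem f563620 : Led Lsl_bt (LP (LK LD1_c4 LD2_c39 LD3_c35)) = (LP (LK LD1_c7 LD2_c6 LD3_c24)) :=
  Lgr Lrot22 (Lpe (K41.f142083 IH) (Lpe (K41.f557385 IH) (Lpe (K41.f210470 IH) (Lpr_gf (K41.f563606 IH) (Lpe (K8.f108503 IH) (Lpe (K3.f108528 IH) (Lpe (K3.f6124 IH) (Lpr_cf (K3.f17639 IH) (Lpr_bt (f6559 IH) (Lpr_gf (f98422 IH) (Lpn (LP (LK LD1_c7 LD2_c6 LD3_c24)))))))))))))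
theorem f570669 : Led Lsl_ff (LP (LK LD1_c7 LD2_c8 LD3_c15)) = (LP (LK LD1_c7 LD2_c6 LD3_c24)) :=
  Lgr Lrot25 (Lpr_bt (f570661 IH) (Lpr_ft (f562684 IH) (Lpr_bt (f563620 IH) (Lpn (LP (LK LD1_c7 LD2_c6 LD3_c24))))))
theorem f570673 : Led Lsl_at (LP (LK LD1_c7 LD2_c8 LD3_c15)) = (LP (LK LD1_c7 LD2_c6 LD3_c24)) :=
  Lgr Lrot26 (Lpr_ff (f570669 IH) (Lpe (f98422 IH) (Lpr_gt (f10624 IH) (Lpn (LP (LK LD1_c7 LD2_c6 LD3_c24))))))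
theorem f570667 : Led Lsl_ef (LP (LK LD1_c7 LD2_c8 LD3_c15)) = (LP (LK LD1_c6 LD2_c14 LD3_c8)) :=
  Lgr Lrot29 (Lpr_bt (f570661 IH) (Lpr_et (K41.f547081 IH) (Lpe (K36.f420655 IH) (Lpn (LP (LK LD1_c6 LD2_c14 LD3_c8))))))
theorem f70514 : Led Lsl_at (LP (LK LD1_c8 LD2_c49 LD3_c43)) = (LP (LK LD1_c4 LD2_c26 LD3_c10)) :=
  Lre_a IH (LK LD1_c8 LD2_c49 LD3_c43) (LK LD1_c4 LD2_c26 LD3_c10) Lrfl Lrfl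
theorem f499053 : Led Lsl_at (LP (LK LD1_c4 LD2_c39 LD3_c34)) = (LP (LK LD1_c6 LD2_c14 LD3_c8)) :=
  Lgr Lrot51 (Lpr_df (K40.f80221 IH) (Lpe (f70514 IH) (Lpr_df (K36.f499051 IH) (Lpn (LP (LK LD1_c6 LD2_c14 LD3_c8))))))
theorem f570681 : Led Lsl_ef (LP (LK LD1_c4 LD2_c39 LD3_c34)) = (LP (LK LD1_c7 LD2_c6 LD3_c24)) :=
  Lgr Lrot20 (Lpr_at (f499053 IH) (Lpe (f570667 IH) (Lpr_at (f570673 IH) (Lpn (LP (LK LD1_c7 LD2_c6 LD3_c24))))))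
theorem f570671 : Led Lsl_ft (LP (LK LD1_c7 LD2_c8 LD3_c15)) = (LP (LK LD1_c7 LD2_c6 LD3_c24)) :=
  Lgr Lrot48 (Lpr_ff (f570669 IH) (Lpn (LP (LK LD1_c7 LD2_c6 LD3_c24))))
theorem f570687 : Led Lsl_et (LP (LK LD1_c5 LD2_c46 LD3_c22)) = (LP (LK LD1_c8 LD2_c45 LD3_c24)) :=
  Lgr Lrot69 (Lpe (K40.f499013 IH) (Lpr_ef (f570681 IH) (Lpe (f570671 IH) (Lpr_ef (f570667 IH) (Lpe (K40.f498296 IH) (Lpn (LP (LK LD1_c8 LD2_c45 LD3_c24))))))))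
theorem f557409 : Led Lsl_et (LP (LK LD1_c12 LD2_c10 LD3_c34)) = (LP (LK LD1_c6 LD2_c16 LD3_c48)) :=
  Lre_e IH (LK LD1_c12 LD2_c10 LD3_c34) (LK LD1_c6 LD2_c16 LD3_c48) Lrfl Lrfl
theorem f558673 : Led Lsl_dt (LP (LK LD1_c8 LD2_c45 LD3_c24)) = (LP (LK LD1_c11 LD2_c17 LD3_c50)) :=
  Lgr Lrot42 (Lpr_df (K40.f558667 IH) (Lpn (LP (LK LD1_c11 LD2_c17 LD3_c50))))
theorem f558685 : Led Lsl_et (LP (LK LD1_c11 LD2_c17 LD3_c50)) = (LP (LK LD1_c20 LD2_c14 LD3_c1)) :=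
  Lre_e IH (LK LD1_c11 LD2_c17 LD3_c50) (LK LD1_c20 LD2_c14 LD3_c1) Lrfl Lrfl
theorem f570689 : Led Lsl_df (LP (LK LD1_c12 LD2_c10 LD3_c34)) = (LP (LK LD1_c20 LD2_c14 LD3_c1)) :=
  Lgr Lrot70 (Lpr_et (f557409 IH) (Lpe (K40.f541828 IH) (Lpr_et (f570687 IH) (Lpr_dt (f558673 IH) (Lpr_et (f558685 IH) (Lpn (LP (LK LD1_c20 LD2_c14 LD3_c1))))))))
theorem f207997 : Led Lsl_ff (LP (LK LD1_c8 LD2_c49 LD3_c46)) = (LP (LK LD1_c9 LD2_c9 LD3_c32)) :=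
  Lgr Lrot25 (Lpr_bt (K24.f161517 IH) (Lpe (K37.f207950 IH) (Lpr_bt (K40.f207959 IH) (Lpn (LP (LK LD1_c9 LD2_c9 LD3_c32))))))
theorem f161515 : Led Lsl_at (LP (LK LD1_c8 LD2_c49 LD3_c46)) = (LP (LK LD1_c9 LD2_c9 LD3_c35)) :=
  Lgr Lrot107 (Lpr_cf (K8.f161513 IH) (Lpr_af (K7.f149904 IH) (Lpe (K7.f80107 IH) (Lpn (LP (LK LD1_c9 LD2_c9 LD3_c35))))))
theorem f558064 : Led Lsl_gt (LP (LK LD1_c5 LD2_c49 LD3_c34)) = (LP (LK LD1_c9 LD2_c9 LD3_c35)) :=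
  Lgr Lrot46 (Lpr_gf (K40.f558060 IH) (Lpe (f207997 IH) (Lpr_at (f161515 IH) (Lpn (LP (LK LD1_c9 LD2_c9 LD3_c35))))))
theorem f132525 : Led Lsl_df (LP (LK LD1_c4 LD2_c34 LD3_c23)) = (LP (LK LD1_c3 LD2_c17 LD3_c42)) :=
  Lgr Lrot162 (Lpr_cf (K8.f132521 IH) (Lpe (K8.f59604 IH) (Lpe (K5.f56597 IH) (Lpe (K5.f56599 IH) (Lpe (K6.f116894 IH) (Lpr_gt (K6.f26492 IH) (Lpr_ct (K6.f26507 IH) (Lpr_gt (K7.f26508 IH) (Lpr_ct (K7.f103921 IH) (Lpn (LP (LK LD1_c3 LD2_c17 LD3_c42))))))))))))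
theorem f206795 : Led Lsl_dt (LP (LK LD1_c2 LD2_c48 LD3_c55)) = (LP (LK LD1_c4 LD2_c26 LD3_c7)) :=
  Lgr Lrot42 (Lpr_df (K36.f206793 IH) (Lpn (LP (LK LD1_c4 LD2_c26 LD3_c7))))
theorem f558068 : Led Lsl_cf (LP (LK LD1_c5 LD2_c49 LD3_c34)) = (LP (LK LD1_c4 LD2_c26 LD3_c7)) :=
  Lgr Lrot55 (Lpr_dt (K40.f558066 IH) (Lpr_ct (K8.f161570 IH) (Lpr_dt (K6.f56860 IH) (Lpr_ct (K7.f56851 IH) (Lpr_dt (K8.f75496 IH) (Lpe (K8.f161554 IH) (Lpr_dt (K39.f161542 IH) (Lpr_ct (K7.f40088 IH) (Lpe (K11.f206780 IH) (Lpr_ct (K8.f132528 IH) (Lpr_dt (K8.f132527 IH) (Lpr_ct (K7.f103921 IH) (Lpe (f132525 IH) (Lpr_ct (K40.f132519 IH) (Lpr_dt (f206795 IH) (Lpn (LP (LK LD1_c4 LD2_c26 LD3_c7))))))))))))))))))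
theorem f110573 : Led Lsl_ff (LP (LK LD1_c2 LD2_c21 LD3_c20)) = (LP (LK LD1_c4 LD2_c40 LD3_c33)) :=
  Lgr Lrot3 (Lpr_ft (K7.f110516 IH) (Lpn (LP (LK LD1_c4 LD2_c40 LD3_c33))))
theorem f110755 : Led Lsl_ft (LP (LK LD1_c2 LD2_c20 LD3_c35)) = (LP (LK LD1_c2 LD2_c17 LD3_c21)) :=
  Lgr Lrot54 (Lpe (K3.f102995 IH) (Lpr_ff (f110573 IH) (Lpe (K4.f58261 IH) (Lpn (LP (LK LD1_c2 LD2_c17 LD3_c21))))))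
theorem f103192 : Led Lsl_bt (LP (LK LD1_c4 LD2_c44 LD3_c55)) = (LP (LK LD1_c2 LD2_c20 LD3_c35)) :=
  Lre_b IH (LK LD1_c4 LD2_c44 LD3_c55) (LK LD1_c2 LD2_c20 LD3_c35) Lrfl Lrfl
theorem f110759 : Led Lsl_ff (LP (LK LD1_c4 LD2_c44 LD3_c55)) = (LP (LK LD1_c4 LD2_c40 LD3_c32)) :=
  Lgr Lrot25 (Lpr_bt (f103192 IH) (Lpr_ft (f110755 IH) (Lpr_bt (K28.f110345 IH) (Lpn (LP (LK LD1_c4 LD2_c40 LD3_c32))))))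
theorem f110762 : Led Lsl_ft (LP (LK LD1_c4 LD2_c44 LD3_c55)) = (LP (LK LD1_c4 LD2_c40 LD3_c32)) :=
  Lgr Lrot48 (Lpr_ff (f110759 IH) (Lpn (LP (LK LD1_c4 LD2_c40 LD3_c32))))
theorem f110662 : Led Lsl_at (LP (LK LD1_c4 LD2_c40 LD3_c32)) = (LP (LK LD1_c9 LD2_c16 LD3_c27)) :=
  Lre_a IH (LK LD1_c4 LD2_c40 LD3_c32) (LK LD1_c9 LD2_c16 LD3_c27) Lrfl Lrfl
theorem f110765 : Led Lsl_gt (LP (LK LD1_c9 LD2_c22 LD3_c28)) = (LP (LK LD1_c9 LD2_c16 LD3_c27)) :=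
  Lgr Lrot46 (Lpe (K28.f23502 IH) (Lpr_ft (f110762 IH) (Lpr_at (f110662 IH) (Lpn (LP (LK LD1_c9 LD2_c16 LD3_c27))))))
theorem f159153 : Led Lsl_gt (LP (LK LD1_c9 LD2_c16 LD3_c27)) = (LP (LK LD1_c9 LD2_c22 LD3_c29)) :=
  Lgr Lrot46 (Lpe (f110765 IH) (Lpe (K36.f159130 IH) (Lpr_at (K36.f159147 IH) (Lpn (LP (LK LD1_c9 LD2_c22 LD3_c29))))))
theorem f110931 : Led Lsl_at (LP (LK LD1_c6 LD2_c18 LD3_c21)) = (LP (LK LD1_c12 LD2_c12 LD3_c44)) :=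
  Lre_a IH (LK LD1_c6 LD2_c18 LD3_c21) (LK LD1_c12 LD2_c12 LD3_c44) Lrfl Lrfl
theorem f110658 : Led Lsl_at (LP (LK LD1_c9 LD2_c16 LD3_c27)) = (LP (LK LD1_c4 LD2_c40 LD3_c32)) :=
  Lre_a IH (LK LD1_c9 LD2_c16 LD3_c27) (LK LD1_c4 LD2_c40 LD3_c32) Lrfl Lrfl
theorem f110932 : Led Lsl_ct (LP (LK LD1_c12 LD2_c12 LD3_c44)) = (LP (LK LD1_c9 LD2_c16 LD3_c27)) :=
  Lgr Lrot111 (Lpe (f110931 IH) (Lpr_cf (K6.f110928 IH) (Lpe (f110658 IH) (Lpn (LP (LK LD1_c9 LD2_c16 LD3_c27))))))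
theorem f160734 : Led Lsl_gt (LP (LK LD1_c11 LD2_c37 LD3_c43)) = (LP (LK LD1_c12 LD2_c12 LD3_c44)) :=
  Lgr Lrot9 (Lpe (K5.f112631 IH) (Lpr_gt (K5.f112630 IH) (Lpe (K5.f112682 IH) (Lpe (K24.f158686 IH) (Lpe (K28.f160709 IH) (Lpr_df (K28.f112700 IH) (Lpr_cf (K36.f160728 IH) (Lpe (f159153 IH) (Lpe (f110932 IH) (Lpn (LP (LK LD1_c12 LD2_c12 LD3_c44))))))))))))
theorem f102327 : Led Lsl_dt (LP (LK LD1_c9 LD2_c22 LD3_c2)) = (LP (LK LD1_c4 LD2_c44 LD3_c39)) :=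
  Lre_d IH (LK LD1_c9 LD2_c22 LD3_c2) (LK LD1_c4 LD2_c44 LD3_c39) Lrfl Lrfl
theorem f58267 : Led Lsl_dt (LP (LK LD1_c4 LD2_c40 LD3_c34)) = (LP (LK LD1_c9 LD2_c16 LD3_c30)) :=
  Lre_d IH (LK LD1_c4 LD2_c40 LD3_c34) (LK LD1_c9 LD2_c16 LD3_c30) Lrfl Lrfl
theorem f110640 : Led Lsl_at (LP (LK LD1_c4 LD2_c44 LD3_c39)) = (LP (LK LD1_c4 LD2_c40 LD3_c34)) :=
  Lgr Lrot51 (Lpe (f102327 IH) (Lpr_af (K37.f110626 IH) (Lpe (f58267 IH) (Lpn (LP (LK LD1_c4 LD2_c40 LD3_c34))))))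
theorem f110644 : Led Lsl_bt (LP (LK LD1_c9 LD2_c22 LD3_c1)) = (LP (LK LD1_c4 LD2_c44 LD3_c39)) :=
  Lre_b IH (LK LD1_c9 LD2_c22 LD3_c1) (LK LD1_c4 LD2_c44 LD3_c39) Lrfl Lrfl
theorem f110645 : Led Lsl_at (LP (LK LD1_c17 LD2_c18 LD3_c13)) = (LP (LK LD1_c9 LD2_c22 LD3_c1)) :=
  Lre_a IH (LK LD1_c17 LD2_c18 LD3_c13) (LK LD1_c9 LD2_c22 LD3_c1) Lrfl Lrfl
theorem f110646 : Led Lsl_bt (LP (LK LD1_c4 LD2_c40 LD3_c34)) = (LP (LK LD1_c9 LD2_c16 LD3_c28)) :=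
  Lre_b IH (LK LD1_c4 LD2_c40 LD3_c34) (LK LD1_c9 LD2_c16 LD3_c28) Lrfl Lrfl
theorem f110647 : Led Lsl_at (LP (LK LD1_c9 LD2_c16 LD3_c28)) = (LP (LK LD1_c17 LD2_c11 LD3_c4)) :=
  Lre_a IH (LK LD1_c9 LD2_c16 LD3_c28) (LK LD1_c17 LD2_c11 LD3_c4) Lrfl Lrfl
theorem f110648 : Led Lsl_bf (LP (LK LD1_c17 LD2_c18 LD3_c13)) = (LP (LK LD1_c17 LD2_c11 LD3_c4)) :=
  Lgr Lrot81 (Lpr_at (f110645 IH) (Lpr_bt (f110644 IH) (Lpr_at (f110640 IH) (Lpr_bt (f110646 IH) (Lpr_at (f110647 IH) (Lpn (LP (LK LD1_c17 LD2_c11 LD3_c4))))))))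
theorem f110653 : Led Lsl_et (LP (LK LD1_c17 LD2_c18 LD3_c13)) = (LP (LK LD1_c9 LD2_c22 LD3_c0)) :=
  Lre_e IH (LK LD1_c17 LD2_c18 LD3_c13) (LK LD1_c9 LD2_c22 LD3_c0) Lrfl Lrfl
theorem f110654 : Led Lsl_et (LP (LK LD1_c9 LD2_c16 LD3_c27)) = (LP (LK LD1_c17 LD2_c11 LD3_c4)) :=
  Lre_e IH (LK LD1_c9 LD2_c16 LD3_c27) (LK LD1_c17 LD2_c11 LD3_c4) Lrfl Lrfl
theorem f110655 : Led Lsl_bt (LP (LK LD1_c9 LD2_c22 LD3_c0)) = (LP (LK LD1_c9 LD2_c16 LD3_c27)) :=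
  Lgr Lrot119 (Lpe (f110653 IH) (Lpr_bf (f110648 IH) (Lpe (f110654 IH) (Lpn (LP (LK LD1_c9 LD2_c16 LD3_c27))))))
theorem f110659 : Led Lsl_bf (LP (LK LD1_c9 LD2_c22 LD3_c0)) = (LP (LK LD1_c9 LD2_c16 LD3_c27)) :=
  Lgr Lrot24 (Lpr_bt (f110655 IH) (Lpn (LP (LK LD1_c9 LD2_c16 LD3_c27))))
theorem f150125 : Led Lsl_df (LP (LK LD1_c9 LD2_c16 LD3_c27)) = (LP (LK LD1_c14 LD2_c59 LD3_c27)) :=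
  Lgr Lrot12 (Lpe (f110659 IH) (Lpr_dt (K37.f110733 IH) (Lpr_bt (K7.f150117 IH) (Lpn (LP (LK LD1_c14 LD2_c59 LD3_c27))))))
theorem f150142 : Led Lsl_dt (LP (LK LD1_c9 LD2_c16 LD3_c27)) = (LP (LK LD1_c14 LD2_c59 LD3_c27)) :=
  Lgr Lrot42 (Lpr_df (f150125 IH) (Lpn (LP (LK LD1_c14 LD2_c59 LD3_c27))))
theorem f427016 : Led Lsl_gf (LP (LK LD1_c8 LD2_c46 LD3_c11)) = (LP (LK LD1_c11 LD2_c41 LD3_c16)) :=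
  Lgr Lrot147 (Lpr_ct (K11.f80701 IH) (Lpe (K28.f202905 IH) (Lpr_ct (K7.f138017 IH) (Lpe (f150142 IH) (Lpe (f110932 IH) (Lpe (f160734 IH) (Lpr_cf (K37.f112654 IH) (Lpr_gf (K41.f427010 IH) (Lpe (K41.f137597 IH) (Lpn (LP (LK LD1_c11 LD2_c41 LD3_c16))))))))))))
theorem f139075 : Led Lsl_dt (LP (LK LD1_c8 LD2_c45 LD3_c47)) = (LP (LK LD1_c9 LD2_c47 LD3_c51)) :=
  Lgr Lrot6 (Lpr_gt (K6.f36531 IH) (Lpr_ct (K4.f36530 IH) (Lpr_gt (K6.f36545 IH) (Lpr_ct (K6.f119879 IH) (Lpe (K6.f137646 IH) (Lpe (K4.f61791 IH) (Lpr_gf (K6.f139073 IH) (Lpr_cf (K6.f71914 IH) (Lpr_gf (K6.f139052 IH) (Lpn (LP (LK LD1_c9 LD2_c47 LD3_c51))))))))))))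
theorem f202894 : Led Lsl_gf (LP (LK LD1_c4 LD2_c23 LD3_c60)) = (LP (LK LD1_c3 LD2_c9 LD3_c57)) :=
  Lgr Lrot144 (Lpr_dt (K8.f161400 IH) (Lpr_gt (K6.f34880 IH) (Lpr_dt (K2.f34845 IH) (Lpe (K4.f35233 IH) (Lpe (K6.f35336 IH) (Lpr_gf (K6.f139052 IH) (Lpe (f139075 IH) (Lpr_gf (K11.f202890 IH) (Lpe (K11.f69250 IH) (Lpn (LP (LK LD1_c3 LD2_c9 LD3_c57))))))))))))
theorem f559254 : Led Lsl_bf (LP (LK LD1_c11 LD2_c24 LD3_c11)) = (LP (LK LD1_c13 LD2_c31 LD3_c6)) :=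
  Lgr Lrot34 (Lpr_gf (K38.f548813 IH) (Lpr_bf (K38.f499049 IH) (Lpr_ct (K32.f59558 IH) (Lpr_gf (K38.f420043 IH) (Lpe (K8.f112837 IH) (Lpr_gf (f202894 IH) (Lpe (K11.f202829 IH) (Lpr_ct (K11.f80705 IH) (Lpr_gf (f427016 IH) (Lpr_cf (K41.f559244 IH) (Lpn (LP (LK LD1_c13 LD2_c31 LD3_c6)))))))))))))
theorem f559256 : Led Lsl_bt (LP (LK LD1_c4 LD2_c26 LD3_c7)) = (LP (LK LD1_c6 LD2_c16 LD3_c48)) :=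
  Lgr Lrot92 (Lpe (f558068 IH) (Lpr_gt (f558064 IH) (Lpe (K32.f80108 IH) (Lpr_bt (K7.f150097 IH) (Lpr_gt (K7.f59247 IH) (Lpr_ct (K11.f78324 IH) (Lpr_gt (K41.f427014 IH) (Lpr_cf (K41.f559244 IH) (Lpe (f559254 IH) (Lpr_gt (K40.f548809 IH) (Lpn (LP (LK LD1_c6 LD2_c16 LD3_c48)))))))))))))
theorem f148970 : Led Lsl_et (LP (LK LD1_c8 LD2_c49 LD3_c37)) = (LP (LK LD1_c4 LD2_c26 LD3_c7)) :=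
  Lre_e IH (LK LD1_c8 LD2_c49 LD3_c37) (LK LD1_c4 LD2_c26 LD3_c7) Lrfl Lrfl
theorem f558675 : Led Lsl_et (LP (LK LD1_c6 LD2_c16 LD3_c48)) = (LP (LK LD1_c12 LD2_c10 LD3_c34)) :=
  Lre_e IH (LK LD1_c6 LD2_c16 LD3_c48) (LK LD1_c12 LD2_c10 LD3_c34) Lrfl Lrfl
theorem f559260 : Led Lsl_bf (LP (LK LD1_c8 LD2_c49 LD3_c37)) = (LP (LK LD1_c12 LD2_c10 LD3_c34)) :=
  Lgr Lrot96 (Lpr_et (f148970 IH) (Lpr_bt (f559256 IH) (Lpr_et (f558675 IH) (Lpn (LP (LK LD1_c12 LD2_c10 LD3_c34))))))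
theorem f148971 : Led Lsl_dt (LP (LK LD1_c8 LD2_c49 LD3_c37)) = (LP (LK LD1_c16 LD2_c30 LD3_c19)) :=
  Lre_d IH (LK LD1_c8 LD2_c49 LD3_c37) (LK LD1_c16 LD2_c30 LD3_c19) Lrfl Lrfl
theorem f570691 : Led Lsl_bt (LP (LK LD1_c16 LD2_c30 LD3_c19)) = (LP (LK LD1_c20 LD2_c14 LD3_c1)) :=
  Lgr Lrot95 (Lpe (f148971 IH) (Lpr_bf (f559260 IH) (Lpr_df (f570689 IH) (Lpn (LP (LK LD1_c20 LD2_c14 LD3_c1))))))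
theorem f558676 : Led Lsl_et (LP (LK LD1_c20 LD2_c14 LD3_c1)) = (LP (LK LD1_c11 LD2_c17 LD3_c50)) :=
  Lre_e IH (LK LD1_c20 LD2_c14 LD3_c1) (LK LD1_c11 LD2_c17 LD3_c50) Lrfl Lrfl
theorem f541818 : Led Lsl_dt (LP (LK LD1_c5 LD2_c46 LD3_c22)) = (LP (LK LD1_c6 LD2_c16 LD3_c48)) :=
  Lgr Lrot173 (Lpe (K36.f81401 IH) (Lpe (K36.f438204 IH) (Lpr_cf (K36.f541812 IH) (Lpe (K36.f176662 IH) (Lpr_cf (K36.f205111 IH) (Lpr_df (K36.f428102 IH) (Lpe (K36.f541806 IH) (Lpr_df (K36.f499051 IH) (Lpe (K36.f80626 IH) (Lpe (K36.f425764 IH) (Lpr_cf (K37.f541810 IH) (Lpr_df (K32.f68556 IH) (Lpr_cf (K35.f242750 IH) (Lpe (K37.f185774 IH) (Lpe (K40.f185811 IH) (Lpn (LP (LK LD1_c6 LD2_c16 LD3_c48))))))))))))))))))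
theorem f558669 : Led Lsl_at (LP (LK LD1_c6 LD2_c16 LD3_c48)) = (LP (LK LD1_c11 LD2_c17 LD3_c50)) :=
  Lgr Lrot51 (Lpe (f541818 IH) (Lpe (K36.f498995 IH) (Lpr_df (K40.f558667 IH) (Lpn (LP (LK LD1_c11 LD2_c17 LD3_c50))))))
theorem f559258 : Led Lsl_bf (LP (LK LD1_c8 LD2_c49 LD3_c51)) = (LP (LK LD1_c11 LD2_c17 LD3_c50)) :=
  Lgr Lrot81 (Lpr_at (K36.f117023 IH) (Lpr_bt (K8.f16157 IH) (Lpr_at (K36.f498978 IH) (Lpr_bt (f559256 IH) (Lpr_at (f558669 IH) (Lpn (LP (LK LD1_c11 LD2_c17 LD3_c50))))))))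
theorem f570698 : Led Lsl_ef (LP (LK LD1_c16 LD2_c30 LD3_c19)) = (LP (LK LD1_c8 LD2_c49 LD3_c51)) :=
  Lgr Lrot29 (Lpr_bt (f570691 IH) (Lpr_et (f558676 IH) (Lpe (f559258 IH) (Lpn (LP (LK LD1_c8 LD2_c49 LD3_c51))))))
theorem f206797 : Led Lsl_dt (LP (LK LD1_c16 LD2_c30 LD3_c19)) = (LP (LK LD1_c8 LD2_c49 LD3_c37)) :=
  Lre_d IH (LK LD1_c16 LD2_c30 LD3_c19) (LK LD1_c8 LD2_c49 LD3_c37) Lrfl Lrfl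
theorem f570702 : Led Lsl_et (LP (LK LD1_c2 LD2_c48 LD3_c55)) = (LP (LK LD1_c4 LD2_c41 LD3_c18)) :=
  Lgr Lrot71 (Lpr_df (K36.f206793 IH) (Lpe (f148970 IH) (Lpe (f206797 IH) (Lpr_ef (f570698 IH) (Lpe (K36.f498298 IH) (Lpn (LP (LK LD1_c4 LD2_c41 LD3_c18))))))))
theorem f570709 : Led Lsl_ef (LP (LK LD1_c5 LD2_c49 LD3_c38)) = (LP (LK LD1_c3 LD2_c10 LD3_c10)) :=
  Lgr Lrot21 (Lpr_ft (f562684 IH) (Lpr_et (K41.f56190 IH) (Lpr_ft (K36.f498999 IH) (Lpr_et (f570702 IH) (Lpr_ft (K36.f498300 IH) (Lpn (LP (LK LD1_c3 LD2_c10 LD3_c10))))))))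
theorem f449980 : Led Lsl_et (LP (LK LD1_c5 LD2_c38 LD3_c41)) = (LP (LK LD1_c2 LD2_c50 LD3_c56)) :=
  Lre_e IH (LK LD1_c5 LD2_c38 LD3_c41) (LK LD1_c2 LD2_c50 LD3_c56) Lrfl Lrfl
theorem f450491 : Led Lsl_dt (LP (LK LD1_c5 LD2_c38 LD3_c41)) = (LP (LK LD1_c11 LD2_c8 LD3_c24)) :=
  Lre_d IH (LK LD1_c5 LD2_c38 LD3_c41) (LK LD1_c11 LD2_c8 LD3_c24) Lrfl Lrfl
theorem f428066 : Led Lsl_dt (LP (LK LD1_c4 LD2_c26 LD3_c5)) = (LP (LK LD1_c8 LD2_c49 LD3_c33)) :=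
  Lre_d IH (LK LD1_c4 LD2_c26 LD3_c5) (LK LD1_c8 LD2_c49 LD3_c33) Lrfl Lrfl
theorem f570727 : Led Lsl_gf (LP (LK LD1_c11 LD2_c8 LD3_c24)) = (LP (LK LD1_c8 LD2_c49 LD3_c33)) :=
  Lgr Lrot134 (Lpe (f450491 IH) (Lpr_et (f449980 IH) (Lpr_gt (K38.f179942 IH) (Lpr_ef (f570709 IH) (Lpe (K32.f420039 IH) (Lpr_gt (K36.f420045 IH) (Lpe (K8.f69443 IH) (Lpr_et (K39.f81946 IH) (Lpe (K39.f555889 IH) (Lpr_dt (f428066 IH) (Lpn (LP (LK LD1_c8 LD2_c49 LD3_c33)))))))))))))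
theorem f210727 : Led Lsl_bt (LP (LK LD1_c5 LD2_c38 LD3_c42)) = (LP (LK LD1_c11 LD2_c8 LD3_c24)) :=
  Lre_b IH (LK LD1_c5 LD2_c38 LD3_c42) (LK LD1_c11 LD2_c8 LD3_c24) Lrfl Lrfl
theorem f570730 : Led Lsl_bt (LP (LK LD1_c16 LD2_c22 LD3_c20)) = (LP (LK LD1_c8 LD2_c49 LD3_c33)) :=
  Lgr Lrot22 (Lpe (K40.f545272 IH) (Lpe (K40.f82158 IH) (Lpe (K40.f82157 IH) (Lpe (K40.f82151 IH) (Lpe (K2.f82129 IH) (Lpr_ct (K12.f37670 IH) (Lpe (K18.f37697 IH) (Lpe (K18.f210717 IH) (Lpr_bt (f210727 IH) (Lpr_gf (f570727 IH) (Lpn (LP (LK LD1_c8 LD2_c49 LD3_c33)))))))))))))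
theorem f428064 : Led Lsl_dt (LP (LK LD1_c8 LD2_c49 LD3_c33)) = (LP (LK LD1_c4 LD2_c26 LD3_c5)) :=
  Lre_d IH (LK LD1_c8 LD2_c49 LD3_c33) (LK LD1_c4 LD2_c26 LD3_c5) Lrfl Lrfl
theorem f570734 : Led Lsl_bf (LP (LK LD1_c8 LD2_c44 LD3_c50)) = (LP (LK LD1_c4 LD2_c26 LD3_c5)) :=
  Lgr Lrot93 (Lpr_dt (K40.f175584 IH) (Lpr_bt (f570730 IH) (Lpr_dt (f428064 IH) (Lpn (LP (LK LD1_c4 LD2_c26 LD3_c5))))))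
theorem f82172 : Led Lsl_bt (LP (LK LD1_c1 LD2_c10 LD3_c43)) = (LP (LK LD1_c1 LD2_c23 LD3_c13)) :=
  Lgr Lrot127 (Lpr_bf (K2.f82146 IH) (Lpn (LP (LK LD1_c1 LD2_c23 LD3_c13))))
theorem f37564 : Led Lsl_af (LP (LK LD1_c1 LD2_c10 LD3_c43)) = (LP (LK LD1_c1 LD2_c2 LD3_c2)) :=
  Lgr Lrot117 (Lpr_dt (K2.f37335 IH) (Lpr_at (K1.f37554 IH) (Lpr_dt (K1.f35457 IH) (Lpn (LP (LK LD1_c1 LD2_c2 LD3_c2))))))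
theorem f38486 : Led Lsl_at (LP (LK LD1_c4 LD2_c24 LD3_c45)) = (LP (LK LD1_c2 LD2_c9 LD3_c53)) :=
  Lre_a IH (LK LD1_c4 LD2_c24 LD3_c45) (LK LD1_c2 LD2_c9 LD3_c53) Lrfl Lrfl
theorem f442495 : Led Lsl_at (LP (LK LD1_c1 LD2_c23 LD3_c13)) = (LP (LK LD1_c2 LD2_c54 LD3_c16)) :=
  Lre_a IH (LK LD1_c1 LD2_c23 LD3_c13) (LK LD1_c2 LD2_c54 LD3_c16) Lrfl Lrfl
theorem f442496 : Led Lsl_bf (LP (LK LD1_c4 LD2_c24 LD3_c45)) = (LP (LK LD1_c2 LD2_c54 LD3_c16)) :=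
  Lgr Lrot81 (Lpr_at (f38486 IH) (Lpr_bt (K41.f35639 IH) (Lpe (f37564 IH) (Lpr_bt (f82172 IH) (Lpr_at (f442495 IH) (Lpn (LP (LK LD1_c2 LD2_c54 LD3_c16))))))))
theorem f137829 : Led Lsl_bt (LP (LK LD1_c4 LD2_c24 LD3_c34)) = (LP (LK LD1_c8 LD2_c46 LD3_c39)) :=
  Lre_b IH (LK LD1_c4 LD2_c24 LD3_c34) (LK LD1_c8 LD2_c46 LD3_c39) Lrfl Lrfl
theorem f570742 : Led Lsl_gt (LP (LK LD1_c5 LD2_c50 LD3_c57)) = (LP (LK LD1_c8 LD2_c49 LD3_c23)) :=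
  Lgr Lrot65 (Lpe (K38.f137830 IH) (Lpr_bt (f137829 IH) (Lpe (f559807 IH) (Lpr_bf (f442496 IH) (Lpr_ct (f420829 IH) (Lpr_gf (K37.f500526 IH) (Lpqs (K37.f542326 IH) (Lpe (K37.f101290 IH) (Lpe (K31.f99767 IH) (Lpr_bf (f570734 IH) (Lpr_ct (K39.f138930 IH) (Lpn (LP (LK LD1_c8 LD2_c49 LD3_c23))))))))))))))
theorem f138908 : Led Lsl_et (LP (LK LD1_c4 LD2_c26 LD3_c0)) = (LP (LK LD1_c2 LD2_c10 LD3_c18)) :=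
  Lre_e IH (LK LD1_c4 LD2_c26 LD3_c0) (LK LD1_c2 LD2_c10 LD3_c18) Lrfl Lrfl
theorem f138909 : Led Lsl_ft (LP (LK LD1_c8 LD2_c49 LD3_c23)) = (LP (LK LD1_c4 LD2_c26 LD3_c0)) :=
  Lre_f IH (LK LD1_c8 LD2_c49 LD3_c23) (LK LD1_c4 LD2_c26 LD3_c0) Lrfl Lrfl
theorem f138912 : Led Lsl_ef (LP (LK LD1_c8 LD2_c49 LD3_c23)) = (LP (LK LD1_c4 LD2_c58 LD3_c27)) :=
  Lgr Lrot21 (Lpr_ft (f138909 IH) (Lpr_et (f138908 IH) (Lpr_ft (K6.f138897 IH) (Lpr_et (K41.f138910 IH) (Lpr_ft (K37.f138911 IH) (Lpn (LP (LK LD1_c4 LD2_c58 LD3_c27))))))))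
theorem f570746 : Led Lsl_gf (LP (LK LD1_c5 LD2_c7 LD3_c55)) = (LP (LK LD1_c9 LD2_c47 LD3_c36)) :=
  Lgr Lrot145 (Lpe (K38.f545041 IH) (Lpr_et (K8.f36541 IH) (Lpr_gt (K8.f161006 IH) (Lpr_dt (K8.f149236 IH) (Lpe (K8.f161010 IH) (Lpe (K7.f149692 IH) (Lpr_et (K6.f119697 IH) (Lpr_gt (f570742 IH) (Lpr_ef (f138912 IH) (Lpr_dt (K36.f138933 IH) (Lpn (LP (LK LD1_c9 LD2_c47 LD3_c36)))))))))))))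
theorem f421449 : Led Lsl_ft (LP (LK LD1_c9 LD2_c47 LD3_c36)) = (LP (LK LD1_c4 LD2_c58 LD3_c26)) :=
  Lre_f IH (LK LD1_c9 LD2_c47 LD3_c36) (LK LD1_c4 LD2_c58 LD3_c26) Lrfl Lrfl
theorem f141760 : Led Lsl_dt (LP (LK LD1_c4 LD2_c25 LD3_c49)) = (LP (LK LD1_c8 LD2_c49 LD3_c3)) :=
  Lre_d IH (LK LD1_c4 LD2_c25 LD3_c49) (LK LD1_c8 LD2_c49 LD3_c3) Lrfl Lrfl
theorem f421414 : Led Lsl_dt (LP (LK LD1_c4 LD2_c58 LD3_c26)) = (LP (LK LD1_c2 LD2_c27 LD3_c3)) :=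
  Lre_d IH (LK LD1_c4 LD2_c58 LD3_c26) (LK LD1_c2 LD2_c27 LD3_c3) Lrfl Lrfl
theorem f421426 : Led Lsl_at (LP (LK LD1_c8 LD2_c49 LD3_c3)) = (LP (LK LD1_c4 LD2_c58 LD3_c26)) :=
  Lgr Lrot51 (Lpe (f141760 IH) (Lpr_af (K36.f421423 IH) (Lpe (f421414 IH) (Lpn (LP (LK LD1_c4 LD2_c58 LD3_c26))))))
theorem f421443 : Led Lsl_af (LP (LK LD1_c8 LD2_c49 LD3_c3)) = (LP (LK LD1_c4 LD2_c58 LD3_c26)) :=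
  Lgr Lrot0 (Lpr_at (f421426 IH) (Lpn (LP (LK LD1_c4 LD2_c58 LD3_c26))))
theorem f570748 : Led Lsl_gt (LP (LK LD1_c5 LD2_c7 LD3_c55)) = (LP (LK LD1_c8 LD2_c49 LD3_c3)) :=
  Lgr Lrot46 (Lpr_gf (f570746 IH) (Lpr_ft (f421449 IH) (Lpe (f421443 IH) (Lpn (LP (LK LD1_c8 LD2_c49 LD3_c3))))))
theorem f141759 : Led Lsl_et (LP (LK LD1_c4 LD2_c25 LD3_c49)) = (LP (LK LD1_c2 LD2_c10 LD3_c13)) :=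
  Lre_e IH (LK LD1_c4 LD2_c25 LD3_c49) (LK LD1_c2 LD2_c10 LD3_c13) Lrfl Lrfl
theorem f570758 : Led Lsl_ef (LP (LK LD1_c4 LD2_c34 LD3_c19)) = (LP (LK LD1_c2 LD2_c49 LD3_c17)) :=
  Lgr Lrot114 (Lpr_gt (K11.f36535 IH) (Lpe (K8.f36541 IH) (Lpr_dt (K38.f545041 IH) (Lpr_gt (f570748 IH) (Lpe (f141760 IH) (Lpr_et (f141759 IH) (Lpr_gt (K6.f38522 IH) (Lpr_dt (K7.f141750 IH) (Lpe (K6.f141752 IH) (Lpe (K4.f79965 IH) (Lpn (LP (LK LD1_c2 LD2_c49 LD3_c17)))))))))))))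
theorem f428385 : Led Lsl_et (LP (LK LD1_c8 LD2_c0 LD3_c30)) = (LP (LK LD1_c15 LD2_c5 LD3_c11)) :=
  Lre_e IH (LK LD1_c8 LD2_c0 LD3_c30) (LK LD1_c15 LD2_c5 LD3_c11) Lrfl Lrfl
theorem f26391 : Led Lsl_et (LP (LK LD1_c9 LD2_c11 LD3_c51)) = (LP (LK LD1_c4 LD2_c38 LD3_c4)) :=
  Lre_e IH (LK LD1_c9 LD2_c11 LD3_c51) (LK LD1_c4 LD2_c38 LD3_c4) Lrfl Lrfl
theorem f570760 : Led Lsl_dt (LP (LK LD1_c15 LD2_c5 LD3_c11)) = (LP (LK LD1_c9 LD2_c11 LD3_c51)) :=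
  Lgr Lrot77 (Lpe (f428385 IH) (Lpr_df (K36.f498316 IH) (Lpr_ef (f570758 IH) (Lpr_df (K4.f80025 IH) (Lpe (f26391 IH) (Lpn (LP (LK LD1_c9 LD2_c11 LD3_c51))))))))
theorem f570766 : Led Lsl_df (LP (LK LD1_c15 LD2_c5 LD3_c11)) = (LP (LK LD1_c9 LD2_c11 LD3_c51)) :=
  Lgr Lrot38 (Lpr_dt (f570760 IH) (Lpn (LP (LK LD1_c9 LD2_c11 LD3_c51))))
theorem f497260 : Led Lsl_at (LP (LK LD1_c15 LD2_c5 LD3_c11)) = (LP (LK LD1_c8 LD2_c0 LD3_c32)) :=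
  Lre_a IH (LK LD1_c15 LD2_c5 LD3_c11) (LK LD1_c8 LD2_c0 LD3_c32) Lrfl Lrfl
theorem f499015 : Led Lsl_ft (LP (LK LD1_c2 LD2_c49 LD3_c57)) = (LP (LK LD1_c4 LD2_c34 LD3_c23)) :=
  Lgr Lrot4 (Lpr_cf (K8.f142076 IH) (Lpr_ff (K36.f499009 IH) (Lpe (K40.f132519 IH) (Lpn (LP (LK LD1_c4 LD2_c34 LD3_c23))))))
theorem f499083 : Led Lsl_ff (LP (LK LD1_c4 LD2_c38 LD3_c0)) = (LP (LK LD1_c3 LD2_c17 LD3_c42)) :=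
  Lgr Lrot19 (Lpe (K8.f142039 IH) (Lpr_ft (f499015 IH) (Lpr_dt (K8.f132523 IH) (Lpn (LP (LK LD1_c3 LD2_c17 LD3_c42))))))
theorem f499093 : Led Lsl_ft (LP (LK LD1_c4 LD2_c38 LD3_c0)) = (LP (LK LD1_c3 LD2_c17 LD3_c42)) :=
  Lgr Lrot48 (Lpr_ff (f499083 IH) (Lpn (LP (LK LD1_c3 LD2_c17 LD3_c42))))
theorem f499097 : Led Lsl_ff (LP (LK LD1_c2 LD2_c16 LD3_c8)) = (LP (LK LD1_c1 LD2_c35 LD3_c24)) :=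
  Lgr Lrot23 (Lpr_ct (K6.f80098 IH) (Lpr_ft (f499093 IH) (Lpr_ct (K8.f26509 IH) (Lpn (LP (LK LD1_c1 LD2_c35 LD3_c24))))))
theorem f499115 : Led Lsl_ft (LP (LK LD1_c4 LD2_c38 LD3_c1)) = (LP (LK LD1_c3 LD2_c17 LD3_c43)) :=
  Lgr Lrot54 (Lpe (K8.f79961 IH) (Lpr_ff (f499097 IH) (Lpe (K8.f132527 IH) (Lpn (LP (LK LD1_c3 LD2_c17 LD3_c43))))))
theorem f158133 : Led Lsl_gf (LP (LK LD1_c4 LD2_c38 LD3_c5)) = (LP (LK LD1_c6 LD2_c10 LD3_c55)) :=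
  Lgr Lrot143 (Lpr_dt (K40.f26395 IH) (Lpe (K0.f26381 IH) (Lpe (K4.f79965 IH) (Lpe (K6.f132544 IH) (Lpe (K8.f157013 IH) (Lpr_gf (K8.f158129 IH) (Lpe (K8.f142091 IH) (Lpr_gt (K8.f72999 IH) (Lpr_dt (K36.f73008 IH) (Lpn (LP (LK LD1_c6 LD2_c10 LD3_c55))))))))))))
theorem f499128 : Led Lsl_af (LP (LK LD1_c4 LD2_c38 LD3_c5)) = (LP (LK LD1_c3 LD2_c17 LD3_c43)) :=
  Lgr Lrot31 (Lpr_gf (f158133 IH) (Lpr_gf (K8.f79962 IH) (Lpr_ft (f499115 IH) (Lpn (LP (LK LD1_c3 LD2_c17 LD3_c43))))))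
theorem f428931 : Led Lsl_et (LP (LK LD1_c6 LD2_c38 LD3_c58)) = (LP (LK LD1_c3 LD2_c17 LD3_c43)) :=
  Lre_e IH (LK LD1_c6 LD2_c38 LD3_c58) (LK LD1_c3 LD2_c17 LD3_c43) Lrfl Lrfl
theorem f499134 : Led Lsl_at (LP (LK LD1_c9 LD2_c11 LD3_c52)) = (LP (LK LD1_c6 LD2_c38 LD3_c58)) :=
  Lgr Lrot80 (Lpe (K7.f141828 IH) (Lpr_af (f499128 IH) (Lpe (f428931 IH) (Lpn (LP (LK LD1_c6 LD2_c38 LD3_c58))))))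
theorem f141827 : Led Lsl_dt (LP (LK LD1_c17 LD2_c5 LD3_c41)) = (LP (LK LD1_c9 LD2_c11 LD3_c52)) :=
  Lre_d IH (LK LD1_c17 LD2_c5 LD3_c41) (LK LD1_c9 LD2_c11 LD3_c52) Lrfl Lrfl
theorem f428932 : Led Lsl_dt (LP (LK LD1_c6 LD2_c38 LD3_c58)) = (LP (LK LD1_c12 LD2_c43 LD3_c33)) :=
  Lre_d IH (LK LD1_c6 LD2_c38 LD3_c58) (LK LD1_c12 LD2_c43 LD3_c33) Lrfl Lrfl
theorem f499142 : Led Lsl_af (LP (LK LD1_c17 LD2_c5 LD3_c41)) = (LP (LK LD1_c12 LD2_c43 LD3_c33)) :=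
  Lgr Lrot117 (Lpr_dt (f141827 IH) (Lpr_at (f499134 IH) (Lpr_dt (f428932 IH) (Lpn (LP (LK LD1_c12 LD2_c43 LD3_c33))))))
theorem f141787 : Led Lsl_et (LP (LK LD1_c17 LD2_c5 LD3_c41)) = (LP (LK LD1_c9 LD2_c11 LD3_c53)) :=
  Lre_e IH (LK LD1_c17 LD2_c5 LD3_c41) (LK LD1_c9 LD2_c11 LD3_c53) Lrfl Lrfl
theorem f499220 : Led Lsl_et (LP (LK LD1_c6 LD2_c38 LD3_c60)) = (LP (LK LD1_c12 LD2_c43 LD3_c33)) :=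
  Lre_e IH (LK LD1_c6 LD2_c38 LD3_c60) (LK LD1_c12 LD2_c43 LD3_c33) Lrfl Lrfl
theorem f499221 : Led Lsl_at (LP (LK LD1_c9 LD2_c11 LD3_c53)) = (LP (LK LD1_c6 LD2_c38 LD3_c60)) :=
  Lgr Lrot80 (Lpe (f141787 IH) (Lpr_af (f499142 IH) (Lpe (f499220 IH) (Lpn (LP (LK LD1_c6 LD2_c38 LD3_c60))))))
theorem f100359 : Led Lsl_dt (LP (LK LD1_c4 LD2_c38 LD3_c6)) = (LP (LK LD1_c9 LD2_c11 LD3_c53)) :=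
  Lre_d IH (LK LD1_c4 LD2_c38 LD3_c6) (LK LD1_c9 LD2_c11 LD3_c53) Lrfl Lrfl
theorem f499227 : Led Lsl_dt (LP (LK LD1_c6 LD2_c38 LD3_c60)) = (LP (LK LD1_c3 LD2_c17 LD3_c44)) :=
  Lre_d IH (LK LD1_c6 LD2_c38 LD3_c60) (LK LD1_c3 LD2_c17 LD3_c44) Lrfl Lrfl
theorem f499228 : Led Lsl_af (LP (LK LD1_c4 LD2_c38 LD3_c6)) = (LP (LK LD1_c3 LD2_c17 LD3_c44)) :=
  Lgr Lrot117 (Lpr_dt (f100359 IH) (Lpr_at (f499221 IH) (Lpr_dt (f499227 IH) (Lpn (LP (LK LD1_c3 LD2_c17 LD3_c44))))))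
theorem f112887 : Led Lsl_ct (LP (LK LD1_c4 LD2_c38 LD3_c6)) = (LP (LK LD1_c9 LD2_c11 LD3_c51)) :=
  Lre_c IH (LK LD1_c4 LD2_c38 LD3_c6) (LK LD1_c9 LD2_c11 LD3_c51) Lrfl Lrfl
theorem f103916 : Led Lsl_ct (LP (LK LD1_c6 LD2_c38 LD3_c55)) = (LP (LK LD1_c3 LD2_c17 LD3_c44)) :=
  Lre_c IH (LK LD1_c6 LD2_c38 LD3_c55) (LK LD1_c3 LD2_c17 LD3_c44) Lrfl Lrfl
theorem f499236 : Led Lsl_at (LP (LK LD1_c9 LD2_c11 LD3_c51)) = (LP (LK LD1_c6 LD2_c38 LD3_c55)) :=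
  Lgr Lrot107 (Lpe (f112887 IH) (Lpr_af (f499228 IH) (Lpe (f103916 IH) (Lpn (LP (LK LD1_c6 LD2_c38 LD3_c55))))))
theorem f499253 : Led Lsl_af (LP (LK LD1_c9 LD2_c11 LD3_c51)) = (LP (LK LD1_c6 LD2_c38 LD3_c55)) :=
  Lgr Lrot0 (Lpr_at (f499236 IH) (Lpn (LP (LK LD1_c6 LD2_c38 LD3_c55))))
theorem f570768 : Led Lsl_dt (LP (LK LD1_c8 LD2_c0 LD3_c32)) = (LP (LK LD1_c6 LD2_c38 LD3_c55)) :=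
  Lgr Lrot44 (Lpe (f497260 IH) (Lpr_df (f570766 IH) (Lpr_af (f499253 IH) (Lpn (LP (LK LD1_c6 LD2_c38 LD3_c55))))))
theorem f615078 : Led Lsl_gt (LP (LK LD1_c11 LD2_c48 LD3_c55)) = (LP (LK LD1_c15 LD2_c5 LD3_c12)) :=
  Lgr Lrot150 (Lpe (f419122 IH) (Lpe (f204614 IH) (Lpe (f538062 IH) (Lpr_gt (f509241 IH) (Lpq (f615000 IH) (Lpr_ct (f435532 IH) (Lpr_gt (f615069 IH) (Lpr_ct (f103907 IH) (Lpe (f570768 IH) (Lpe (K36.f204163 IH) (Lpn (LP (LK LD1_c15 LD2_c5 LD3_c12)))))))))))))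
theorem f436252 : Led Lsl_bt (LP (LK LD1_c1 LD2_c21 LD3_c46)) = (LP (LK LD1_c2 LD2_c51 LD3_c25)) :=
  Lre_b IH (LK LD1_c1 LD2_c21 LD3_c46) (LK LD1_c2 LD2_c51 LD3_c25) Lrfl Lrfl
theorem f204176 : Led Lsl_ct (LP (LK LD1_c8 LD2_c0 LD3_c32)) = (LP (LK LD1_c15 LD2_c5 LD3_c12)) :=
  Lre_c IH (LK LD1_c8 LD2_c0 LD3_c32) (LK LD1_c15 LD2_c5 LD3_c12) Lrfl Lrfl
theorem f615080 : Led Lsl_gf (LP (LK LD1_c2 LD2_c51 LD3_c25)) = (LP (LK LD1_c3 LD2_c59 LD3_c46)) :=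
  Lgr Lrot124 (Lpe (f436252 IH) (Lpe (K32.f436255 IH) (Lpe (K11.f153578 IH) (Lpe (K32.f204242 IH) (Lpr_bt (K11.f204222 IH) (Lpr_gt (f204614 IH) (Lpr_ct (f419122 IH) (Lpr_gt (f615078 IH) (Lpe (f204176 IH) (Lpr_bt (K36.f204164 IH) (Lpn (LP (LK LD1_c3 LD2_c59 LD3_c46)))))))))))))
theorem f500024 : Led Lsl_at (LP (LK LD1_c5 LD2_c50 LD3_c28)) = (LP (LK LD1_c2 LD2_c51 LD3_c25)) :=
  Lre_a IH (LK LD1_c5 LD2_c50 LD3_c28) (LK LD1_c2 LD2_c51 LD3_c25) Lrfl Lrfl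
theorem f506199 : Led Lsl_ff (LP (LK LD1_c5 LD2_c50 LD3_c28)) = (LP (LK LD1_c6 LD2_c22 LD3_c2)) :=
  Lgr Lrot30 (Lpr_at (f500024 IH) (Lpr_ft (f506197 IH) (Lpr_at (f504681 IH) (Lpn (LP (LK LD1_c6 LD2_c22 LD3_c2))))))
theorem f615082 : Led Lsl_gt (LP (LK LD1_c6 LD2_c22 LD3_c2)) = (LP (LK LD1_c3 LD2_c59 LD3_c46)) :=
  Lgr Lrot5 (Lpe (f506199 IH) (Lpr_at (f500024 IH) (Lpr_gf (f615080 IH) (Lpn (LP (LK LD1_c3 LD2_c59 LD3_c46))))))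
theorem f208403 : Led Lsl_et (LP (LK LD1_c8 LD2_c0 LD3_c35)) = (LP (LK LD1_c3 LD2_c59 LD3_c45)) :=
  Lre_e IH (LK LD1_c8 LD2_c0 LD3_c35) (LK LD1_c3 LD2_c59 LD3_c45) Lrfl Lrfl
theorem f69031 : Led Lsl_et (LP (LK LD1_c3 LD2_c23 LD3_c60)) = (LP (LK LD1_c6 LD2_c50 LD3_c61)) :=
  Lre_e IH (LK LD1_c3 LD2_c23 LD3_c60) (LK LD1_c6 LD2_c50 LD3_c61) Lrfl Lrfl
theorem f497251 : Led Lsl_af (LP (LK LD1_c8 LD2_c0 LD3_c35)) = (LP (LK LD1_c6 LD2_c50 LD3_c61)) :=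
  Lgr Lrot50 (Lpr_et (f208403 IH) (Lpr_at (K32.f497242 IH) (Lpr_et (f69031 IH) (Lpn (LP (LK LD1_c6 LD2_c50 LD3_c61))))))
theorem f204174 : Led Lsl_ct (LP (LK LD1_c8 LD2_c0 LD3_c35)) = (LP (LK LD1_c3 LD2_c59 LD3_c46)) :=
  Lre_c IH (LK LD1_c8 LD2_c0 LD3_c35) (LK LD1_c3 LD2_c59 LD3_c46) Lrfl Lrfl
theorem f69042 : Led Lsl_ct (LP (LK LD1_c3 LD2_c23 LD3_c61)) = (LP (LK LD1_c6 LD2_c50 LD3_c61)) :=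
  Lre_c IH (LK LD1_c3 LD2_c23 LD3_c61) (LK LD1_c6 LD2_c50 LD3_c61) Lrfl Lrfl
theorem f497255 : Led Lsl_at (LP (LK LD1_c3 LD2_c59 LD3_c46)) = (LP (LK LD1_c3 LD2_c23 LD3_c61)) :=
  Lgr Lrot107 (Lpe (f204174 IH) (Lpr_af (f497251 IH) (Lpe (f69042 IH) (Lpn (LP (LK LD1_c3 LD2_c23 LD3_c61))))))
theorem f497258 : Led Lsl_af (LP (LK LD1_c3 LD2_c59 LD3_c46)) = (LP (LK LD1_c3 LD2_c23 LD3_c61)) :=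
  Lgr Lrot0 (Lpr_at (f497255 IH) (Lpn (LP (LK LD1_c3 LD2_c23 LD3_c61))))
theorem f615085 : Led Lsl_ft (LP (LK LD1_c5 LD2_c50 LD3_c27)) = (LP (LK LD1_c3 LD2_c23 LD3_c61)) :=
  Lgr Lrot2 (Lpr_gt (f506204 IH) (Lpr_gt (f615082 IH) (Lpr_af (f497258 IH) (Lpn (LP (LK LD1_c3 LD2_c23 LD3_c61))))))
theorem f62314 : Led Lsl_dt (LP (LK LD1_c3 LD2_c17 LD3_c27)) = (LP (LK LD1_c6 LD2_c38 LD3_c15)) :=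
  Lre_d IH (LK LD1_c3 LD2_c17 LD3_c27) (LK LD1_c6 LD2_c38 LD3_c15) Lrfl Lrfl
theorem f122277 : Led Lsl_ct (LP (LK LD1_c6 LD2_c10 LD3_c41)) = (LP (LK LD1_c3 LD2_c50 LD3_c4)) :=
  Lgr Lrot111 (Lpe (K7.f105222 IH) (Lpe (K7.f64402 IH) (Lpr_af (K6.f122273 IH) (Lpn (LP (LK LD1_c3 LD2_c50 LD3_c4))))))
theorem f136051 : Led Lsl_df (LP (LK LD1_c6 LD2_c10 LD3_c41)) = (LP (LK LD1_c4 LD2_c43 LD3_c8)) :=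
  Lgr Lrot78 (Lpe (K3.f105218 IH) (Lpe (K8.f105531 IH) (Lpr_ft (K6.f136042 IH) (Lpn (LP (LK LD1_c4 LD2_c43 LD3_c8))))))
theorem f146703 : Led Lsl_gt (LP (LK LD1_c6 LD2_c38 LD3_c15)) = (LP (LK LD1_c4 LD2_c43 LD3_c8)) :=
  Lgr Lrot49 (Lpe (f62314 IH) (Lpe (K32.f62203 IH) (Lpe (K4.f62179 IH) (Lpr_gt (K6.f146697 IH) (Lpe (K6.f146664 IH) (Lpr_gt (K4.f115829 IH) (Lpr_dt (K7.f122249 IH) (Lpe (f122277 IH) (Lpr_df (f136051 IH) (Lpn (LP (LK LD1_c4 LD2_c43 LD3_c8))))))))))))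
theorem f498320 : Led Lsl_gf (LP (LK LD1_c8 LD2_c0 LD3_c30)) = (LP (LK LD1_c5 LD2_c48 LD3_c14)) :=
  Lgr Lrot129 (Lpr_cf (K32.f498302 IH) (Lpr_bt (K32.f420030 IH) (Lpr_gt (f146703 IH) (Lpe (K36.f83099 IH) (Lpr_ct (K5.f104185 IH) (Lpr_gt (K2.f79144 IH) (Lpe (K6.f26265 IH) (Lpe (K6.f26363 IH) (Lpr_gt (K6.f61661 IH) (Lpr_ct (K8.f149699 IH) (Lpn (LP (LK LD1_c5 LD2_c48 LD3_c14)))))))))))))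
theorem f56769 : Led Lsl_at (LP (LK LD1_c5 LD2_c48 LD3_c14)) = (LP (LK LD1_c2 LD2_c50 LD3_c9)) :=
  Lre_a IH (LK LD1_c5 LD2_c48 LD3_c14) (LK LD1_c2 LD2_c50 LD3_c9) Lrfl Lrfl
theorem f146605 : Led Lsl_bt (LP (LK LD1_c6 LD2_c44 LD3_c21)) = (LP (LK LD1_c5 LD2_c48 LD3_c14)) :=
  Lgr Lrot62 (Lpe (K6.f141921 IH) (Lpe (K5.f130540 IH) (Lpr_af (K6.f146488 IH) (Lpe (K6.f56763 IH) (Lpe (f56769 IH) (Lpn (LP (LK LD1_c5 LD2_c48 LD3_c14))))))))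
theorem f498322 : Led Lsl_bf (LP (LK LD1_c8 LD2_c0 LD3_c30)) = (LP (LK LD1_c4 LD2_c46 LD3_c34)) :=
  Lgr Lrot34 (Lpr_gf (f498320 IH) (Lpe (f146605 IH) (Lpr_ct (K7.f139706 IH) (Lpe (K7.f141965 IH) (Lpe (K7.f116965 IH) (Lpe (K6.f96652 IH) (Lpe (K7.f56842 IH) (Lpr_ct (K7.f56843 IH) (Lpe (K4.f26446 IH) (Lpe (K8.f104950 IH) (Lpn (LP (LK LD1_c4 LD2_c46 LD3_c34)))))))))))))
theorem f150393 : Led Lsl_et (LP (LK LD1_c9 LD2_c25 LD3_c48)) = (LP (LK LD1_c4 LD2_c46 LD3_c34)) :=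
  Lre_e IH (LK LD1_c9 LD2_c25 LD3_c48) (LK LD1_c4 LD2_c46 LD3_c34) Lrfl Lrfl
theorem f498326 : Led Lsl_bt (LP (LK LD1_c15 LD2_c5 LD3_c11)) = (LP (LK LD1_c9 LD2_c25 LD3_c48)) :=
  Lgr Lrot119 (Lpe (f428385 IH) (Lpr_bf (f498322 IH) (Lpe (f150393 IH) (Lpn (LP (LK LD1_c9 LD2_c25 LD3_c48))))))
theorem f26392 : Led Lsl_et (LP (LK LD1_c2 LD2_c27 LD3_c30)) = (LP (LK LD1_c4 LD2_c59 LD3_c14)) :=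
  Lre_e IH (LK LD1_c2 LD2_c27 LD3_c30) (LK LD1_c4 LD2_c59 LD3_c14) Lrfl Lrfl
theorem f26393 : Led Lsl_bf (LP (LK LD1_c9 LD2_c11 LD3_c51)) = (LP (LK LD1_c4 LD2_c59 LD3_c14)) :=
  Lgr Lrot96 (Lpr_et (f26391 IH) (Lpr_bt (K0.f26382 IH) (Lpr_et (f26392 IH) (Lpn (LP (LK LD1_c4 LD2_c59 LD3_c14))))))
theorem f570770 : Led Lsl_dt (LP (LK LD1_c9 LD2_c25 LD3_c48)) = (LP (LK LD1_c4 LD2_c59 LD3_c14)) :=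
  Lgr Lrot79 (Lpe (f498326 IH) (Lpr_df (f570766 IH) (Lpr_bf (f26393 IH) (Lpn (LP (LK LD1_c4 LD2_c59 LD3_c14))))))
theorem f80044 : Led Lsl_et (LP (LK LD1_c4 LD2_c59 LD3_c14)) = (LP (LK LD1_c2 LD2_c27 LD3_c30)) :=
  Lre_e IH (LK LD1_c4 LD2_c59 LD3_c14) (LK LD1_c2 LD2_c27 LD3_c30) Lrfl Lrfl
theorem f495281 : Led Lsl_af (LP (LK LD1_c1 LD2_c10 LD3_c59)) = K32.v1387 :=
  Lgr Lrot45 (Lpr_ft (K32.f495276 IH) (Lpe (K32.f495275 IH) (Lpr_ft (K32.f495280 IH) (Lpn K32.v1387))))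
theorem f76099 : Led Lsl_et (LP (LK LD1_c1 LD2_c10 LD3_c59)) = (LP (LK LD1_c2 LD2_c27 LD3_c38)) :=
  Lre_e IH (LK LD1_c1 LD2_c10 LD3_c59) (LK LD1_c2 LD2_c27 LD3_c38) Lrfl Lrfl
theorem f499389 : Led Lsl_af (LP (LK LD1_c4 LD2_c59 LD3_c14)) = (LP (LK LD1_c2 LD2_c27 LD3_c38)) :=
  Lgr Lrot50 (Lpr_et (f80044 IH) (Lpqs (K32.f498254 IH) (Lpe (f495281 IH) (Lpr_et (f76099 IH) (Lpn (LP (LK LD1_c2 LD2_c27 LD3_c38)))))))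
theorem f499391 : Led Lsl_at (LP (LK LD1_c4 LD2_c59 LD3_c14)) = (LP (LK LD1_c2 LD2_c27 LD3_c38)) :=
  Lgr Lrot100 (Lpr_af (f499389 IH) (Lpn (LP (LK LD1_c2 LD2_c27 LD3_c38))))
theorem f76110 : Led Lsl_dt (LP (LK LD1_c2 LD2_c27 LD3_c38)) = (LP (LK LD1_c4 LD2_c59 LD3_c37)) :=
  Lre_d IH (LK LD1_c2 LD2_c27 LD3_c38) (LK LD1_c4 LD2_c59 LD3_c37) Lrfl Lrfl
theorem f570772 : Led Lsl_af (LP (LK LD1_c9 LD2_c25 LD3_c48)) = (LP (LK LD1_c4 LD2_c59 LD3_c37)) :=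
  Lgr Lrot117 (Lpr_dt (f570770 IH) (Lpr_at (f499391 IH) (Lpr_dt (f76110 IH) (Lpn (LP (LK LD1_c4 LD2_c59 LD3_c37))))))
theorem f498328 : Led Lsl_bf (LP (LK LD1_c15 LD2_c5 LD3_c11)) = (LP (LK LD1_c9 LD2_c25 LD3_c48)) :=
  Lgr Lrot24 (Lpr_bt (f498326 IH) (Lpn (LP (LK LD1_c9 LD2_c25 LD3_c48))))
theorem f570776 : Led Lsl_bt (LP (LK LD1_c3 LD2_c23 LD3_c61)) = (LP (LK LD1_c4 LD2_c59 LD3_c37)) :=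
  Lgr Lrot62 (Lpe (f497255 IH) (Lpe (K36.f204164 IH) (Lpe (f497260 IH) (Lpr_bf (f498328 IH) (Lpr_af (f570772 IH) (Lpn (LP (LK LD1_c4 LD2_c59 LD3_c37))))))))
theorem f570791 : Led Lsl_ft (LP (LK LD1_c4 LD2_c59 LD3_c37)) = (LP (LK LD1_c9 LD2_c49 LD3_c40)) :=
  Lre_f IH (LK LD1_c4 LD2_c59 LD3_c37) (LK LD1_c9 LD2_c49 LD3_c40) Lrfl Lrfl
theorem f615087 : Led Lsl_bf (LP (LK LD1_c5 LD2_c50 LD3_c27)) = (LP (LK LD1_c9 LD2_c49 LD3_c40)) :=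
  Lgr Lrot61 (Lpr_ft (f615085 IH) (Lpr_bt (f570776 IH) (Lpr_ft (f570791 IH) (Lpn (LP (LK LD1_c9 LD2_c49 LD3_c40))))))
theorem f497086 : Led Lsl_at (LP (LK LD1_c4 LD2_c46 LD3_c34)) = (LP (LK LD1_c2 LD2_c56 LD3_c35)) :=
  Lgr Lrot107 (Lpe (K8.f104951 IH) (Lpr_af (K32.f497062 IH) (Lpe (K4.f26425 IH) (Lpn (LP (LK LD1_c2 LD2_c56 LD3_c35))))))
theorem f570780 : Led Lsl_et (LP (LK LD1_c2 LD2_c56 LD3_c35)) = (LP (LK LD1_c4 LD2_c59 LD3_c37)) :=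
  Lgr Lrot123 (Lpe (f497086 IH) (Lpe (f150393 IH) (Lpr_af (f570772 IH) (Lpn (LP (LK LD1_c4 LD2_c59 LD3_c37))))))
theorem f570787 : Led Lsl_cf (LP (LK LD1_c2 LD2_c56 LD3_c37)) = (LP (LK LD1_c4 LD2_c59 LD3_c37)) :=
  Lgr Lrot39 (Lpr_et (K32.f497061 IH) (Lpr_ct (K4.f69051 IH) (Lpr_et (f570780 IH) (Lpn (LP (LK LD1_c4 LD2_c59 LD3_c37))))))
theorem f497065 : Led Lsl_ft (LP (LK LD1_c2 LD2_c56 LD3_c37)) = (LP (LK LD1_c6 LD2_c0 LD3_c45)) :=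
  Lre_f IH (LK LD1_c2 LD2_c56 LD3_c37) (LK LD1_c6 LD2_c0 LD3_c45) Lrfl Lrfl
theorem f570782 : Led Lsl_ft (LP (LK LD1_c9 LD2_c49 LD3_c40)) = (LP (LK LD1_c4 LD2_c59 LD3_c37)) :=
  Lre_f IH (LK LD1_c9 LD2_c49 LD3_c40) (LK LD1_c4 LD2_c59 LD3_c37) Lrfl Lrfl
theorem f570793 : Led Lsl_ct (LP (LK LD1_c6 LD2_c0 LD3_c45)) = (LP (LK LD1_c9 LD2_c49 LD3_c40)) :=
  Lgr Lrot40 (Lpe (f497065 IH) (Lpr_cf (f570787 IH) (Lpe (f570782 IH) (Lpn (LP (LK LD1_c9 LD2_c49 LD3_c40))))))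
theorem f570797 : Led Lsl_cf (LP (LK LD1_c6 LD2_c0 LD3_c45)) = (LP (LK LD1_c9 LD2_c49 LD3_c40)) :=
  Lgr Lrot11 (Lpr_ct (f570793 IH) (Lpn (LP (LK LD1_c9 LD2_c49 LD3_c40))))
theorem f497064 : Led Lsl_ft (LP (LK LD1_c9 LD2_c25 LD3_c53)) = (LP (LK LD1_c4 LD2_c46 LD3_c36)) :=
  Lre_f IH (LK LD1_c9 LD2_c25 LD3_c53) (LK LD1_c4 LD2_c46 LD3_c36) Lrfl Lrfl
theorem f497066 : Led Lsl_af (LP (LK LD1_c9 LD2_c25 LD3_c53)) = (LP (LK LD1_c6 LD2_c0 LD3_c45)) :=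
  Lgr Lrot45 (Lpr_ft (f497064 IH) (Lpr_at (K32.f497052 IH) (Lpr_ft (f497065 IH) (Lpn (LP (LK LD1_c6 LD2_c0 LD3_c45))))))
theorem f497068 : Led Lsl_at (LP (LK LD1_c9 LD2_c25 LD3_c53)) = (LP (LK LD1_c6 LD2_c0 LD3_c45)) :=
  Lgr Lrot100 (Lpr_af (f497066 IH) (Lpn (LP (LK LD1_c6 LD2_c0 LD3_c45))))
theorem f497074 : Led Lsl_ft (LP (LK LD1_c4 LD2_c46 LD3_c36)) = (LP (LK LD1_c9 LD2_c25 LD3_c53)) :=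
  Lre_f IH (LK LD1_c4 LD2_c46 LD3_c36) (LK LD1_c9 LD2_c25 LD3_c53) Lrfl Lrfl
theorem f104961 : Led Lsl_gt (LP (LK LD1_c4 LD2_c46 LD3_c36)) = (LP (LK LD1_c9 LD2_c25 LD3_c51)) :=
  Lre_g IH (LK LD1_c4 LD2_c46 LD3_c36) (LK LD1_c9 LD2_c25 LD3_c51) Lrfl Lrfl
theorem f497076 : Led Lsl_gt (LP (LK LD1_c9 LD2_c25 LD3_c51)) = (LP (LK LD1_c6 LD2_c0 LD3_c45)) :=
  Lgr Lrot46 (Lpe (f104961 IH) (Lpr_ft (f497074 IH) (Lpr_at (f497068 IH) (Lpn (LP (LK LD1_c6 LD2_c0 LD3_c45))))))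
theorem f643077 : Led Lsl_cf (LP (LK LD1_c9 LD2_c25 LD3_c51)) = (LP (LK LD1_c4 LD2_c48 LD3_c48)) :=
  Lgr Lrot160 (Lpr_gt (f497076 IH) (Lpr_cf (f570797 IH) (Lpe (f615087 IH) (Lpr_gt (f506204 IH) (Lpr_ct (f506207 IH) (Lpr_gt (f614995 IH) (Lpe (K40.f157778 IH) (Lpr_bt (f157775 IH) (Lpr_gt (f206813 IH) (Lpr_bf (f643070 IH) (Lpn (LP (LK LD1_c4 LD2_c48 LD3_c48)))))))))))))
theorem f499232 : Led Lsl_at (LP (LK LD1_c4 LD2_c38 LD3_c6)) = (LP (LK LD1_c3 LD2_c17 LD3_c44)) :=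
  Lgr Lrot100 (Lpr_af (f499228 IH) (Lpn (LP (LK LD1_c3 LD2_c17 LD3_c44))))
theorem f499249 : Led Lsl_ft (LP (LK LD1_c9 LD2_c11 LD3_c54)) = (LP (LK LD1_c4 LD2_c38 LD3_c6)) :=
  Lre_f IH (LK LD1_c9 LD2_c11 LD3_c54) (LK LD1_c4 LD2_c38 LD3_c6) Lrfl Lrfl
theorem f615071 : Led Lsl_gf (LP (LK LD1_c6 LD2_c2 LD3_c35)) = (LP (LK LD1_c9 LD2_c11 LD3_c54)) :=
  Lgr Lrot47 (Lpr_gt (f615069 IH) (Lpe (f499232 IH) (Lpe (f499249 IH) (Lpn (LP (LK LD1_c9 LD2_c11 LD3_c54))))))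
theorem f435554 : Led Lsl_ct (LP (LK LD1_c1 LD2_c30 LD3_c26)) = (LP (LK LD1_c0 LD2_c41 LD3_c46)) :=
  Lre_c IH (LK LD1_c1 LD2_c30 LD3_c26) (LK LD1_c0 LD2_c41 LD3_c46) Lrfl Lrfl
theorem f435563 : Led Lsl_bt (LP (LK LD1_c1 LD2_c30 LD3_c26)) = (LP (LK LD1_c3 LD2_c8 LD3_c29)) :=
  Lre_b IH (LK LD1_c1 LD2_c30 LD3_c26) (LK LD1_c3 LD2_c8 LD3_c29) Lrfl Lrfl
theorem f438667 : Led Lsl_gt (LP (LK LD1_c3 LD2_c8 LD3_c29)) = (LP (LK LD1_c6 LD2_c21 LD3_c36)) :=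
  Lre_g IH (LK LD1_c3 LD2_c8 LD3_c29) (LK LD1_c6 LD2_c21 LD3_c36) Lrfl Lrfl
theorem f443699 : Led Lsl_bt (LP (LK LD1_c12 LD2_c17 LD3_c2)) = (LP (LK LD1_c6 LD2_c21 LD3_c36)) :=
  Lre_b IH (LK LD1_c12 LD2_c17 LD3_c2) (LK LD1_c6 LD2_c21 LD3_c36) Lrfl Lrfl
theorem f615142 : Led Lsl_ct (LP (LK LD1_c12 LD2_c17 LD3_c2)) = (LP (LK LD1_c9 LD2_c11 LD3_c54)) :=
  Lgr Lrot64 (Lpr_bt (f443699 IH) (Lpe (f438667 IH) (Lpe (f435563 IH) (Lpr_ct (f435554 IH) (Lpe (K24.f82572 IH) (Lpr_cf (K11.f61870 IH) (Lpe (K29.f68641 IH) (Lpe (f435531 IH) (Lpr_ct (f435532 IH) (Lpr_gf (f615071 IH) (Lpn (LP (LK LD1_c9 LD2_c11 LD3_c54)))))))))))))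
theorem f615155 : Led Lsl_ff (LP (LK LD1_c12 LD2_c17 LD3_c2)) = (LP (LK LD1_c9 LD2_c11 LD3_c51)) :=
  Lgr Lrot23 (Lpr_ct (f615142 IH) (Lpr_ft (f499249 IH) (Lpr_ct (f112887 IH) (Lpn (LP (LK LD1_c9 LD2_c11 LD3_c51))))))
theorem f615163 : Led Lsl_ft (LP (LK LD1_c12 LD2_c17 LD3_c2)) = (LP (LK LD1_c9 LD2_c11 LD3_c51)) :=
  Lgr Lrot48 (Lpr_ff (f615155 IH) (Lpn (LP (LK LD1_c9 LD2_c11 LD3_c51))))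
theorem f615146 : Led Lsl_bt (LP (LK LD1_c6 LD2_c21 LD3_c36)) = (LP (LK LD1_c12 LD2_c17 LD3_c2)) :=
  Lre_b IH (LK LD1_c6 LD2_c21 LD3_c36) (LK LD1_c12 LD2_c17 LD3_c2) Lrfl Lrfl
theorem f105056 : Led Lsl_et (LP (LK LD1_c4 LD2_c59 LD3_c13)) = (LP (LK LD1_c9 LD2_c48 LD3_c53)) :=
  Lre_e IH (LK LD1_c4 LD2_c59 LD3_c13) (LK LD1_c9 LD2_c48 LD3_c53) Lrfl Lrfl
theorem f80038 : Led Lsl_et (LP (LK LD1_c17 LD2_c5 LD3_c36)) = (LP (LK LD1_c9 LD2_c11 LD3_c49)) :=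
  Lre_e IH (LK LD1_c17 LD2_c5 LD3_c36) (LK LD1_c9 LD2_c11 LD3_c49) Lrfl Lrfl
theorem f112880 : Led Lsl_bt (LP (LK LD1_c9 LD2_c48 LD3_c53)) = (LP (LK LD1_c17 LD2_c5 LD3_c36)) :=
  Lgr Lrot119 (Lpe (f105056 IH) (Lpr_bf (K40.f112878 IH) (Lpe (f80038 IH) (Lpn (LP (LK LD1_c17 LD2_c5 LD3_c36))))))
theorem f112884 : Led Lsl_ct (LP (LK LD1_c4 LD2_c59 LD3_c14)) = (LP (LK LD1_c9 LD2_c48 LD3_c53)) :=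
  Lre_c IH (LK LD1_c4 LD2_c59 LD3_c14) (LK LD1_c9 LD2_c48 LD3_c53) Lrfl Lrfl
theorem f112885 : Led Lsl_ct (LP (LK LD1_c17 LD2_c5 LD3_c36)) = (LP (LK LD1_c9 LD2_c11 LD3_c50)) :=
  Lre_c IH (LK LD1_c17 LD2_c5 LD3_c36) (LK LD1_c9 LD2_c11 LD3_c50) Lrfl Lrfl
theorem f112886 : Led Lsl_bt (LP (LK LD1_c9 LD2_c11 LD3_c50)) = (LP (LK LD1_c4 LD2_c38 LD3_c6)) :=
  Lre_b IH (LK LD1_c9 LD2_c11 LD3_c50) (LK LD1_c4 LD2_c38 LD3_c6) Lrfl Lrfl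
theorem f112888 : Led Lsl_bf (LP (LK LD1_c4 LD2_c59 LD3_c14)) = (LP (LK LD1_c9 LD2_c11 LD3_c51)) :=
  Lgr Lrot90 (Lpr_ct (f112884 IH) (Lpr_bt (f112880 IH) (Lpr_ct (f112885 IH) (Lpr_bt (f112886 IH) (Lpr_ct (f112887 IH) (Lpn (LP (LK LD1_c9 LD2_c11 LD3_c51))))))))
theorem f615165 : Led Lsl_ff (LP (LK LD1_c6 LD2_c21 LD3_c36)) = (LP (LK LD1_c4 LD2_c59 LD3_c14)) :=
  Lgr Lrot25 (Lpr_bt (f615146 IH) (Lpr_ft (f615163 IH) (Lpe (f112888 IH) (Lpn (LP (LK LD1_c4 LD2_c59 LD3_c14))))))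
theorem f495282 : Led Lsl_ft (LP (LK LD1_c4 LD2_c59 LD3_c29)) = (LP (LK LD1_c2 LD2_c27 LD3_c35)) :=
  Lre_f IH (LK LD1_c4 LD2_c59 LD3_c29) (LK LD1_c2 LD2_c27 LD3_c35) Lrfl Lrfl
theorem f615173 : Led Lsl_et (LP (LK LD1_c6 LD2_c21 LD3_c36)) = (LP (LK LD1_c4 LD2_c59 LD3_c29)) :=
  Lgr Lrot69 (Lpr_ff (f615165 IH) (Lpe (f26392 IH) (Lpqs (K32.f498254 IH) (Lpe (K32.f495280 IH) (Lpe (K8.f75443 IH) (Lpe (f495282 IH) (Lpn (LP (LK LD1_c4 LD2_c59 LD3_c29)))))))))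
theorem f615178 : Led Lsl_ef (LP (LK LD1_c6 LD2_c21 LD3_c36)) = (LP (LK LD1_c4 LD2_c59 LD3_c29)) :=
  Lgr Lrot88 (Lpr_et (f615173 IH) (Lpn (LP (LK LD1_c4 LD2_c59 LD3_c29))))
theorem f443700 : Led Lsl_ct (LP (LK LD1_c6 LD2_c21 LD3_c36)) = (LP (LK LD1_c12 LD2_c17 LD3_c3)) :=
  Lre_c IH (LK LD1_c6 LD2_c21 LD3_c36) (LK LD1_c12 LD2_c17 LD3_c3) Lrfl Lrfl
theorem f57026 : Led Lsl_ct (LP (LK LD1_c9 LD2_c49 LD3_c19)) = (LP (LK LD1_c4 LD2_c59 LD3_c29)) :=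
  Lre_c IH (LK LD1_c9 LD2_c49 LD3_c19) (LK LD1_c4 LD2_c59 LD3_c29) Lrfl Lrfl
theorem f615180 : Led Lsl_et (LP (LK LD1_c12 LD2_c17 LD3_c3)) = (LP (LK LD1_c9 LD2_c49 LD3_c19)) :=
  Lgr Lrot158 (Lpe (f443700 IH) (Lpr_ef (f615178 IH) (Lpe (f57026 IH) (Lpn (LP (LK LD1_c9 LD2_c49 LD3_c19))))))
theorem f499380 : Led Lsl_ft (LP (LK LD1_c9 LD2_c49 LD3_c19)) = (LP (LK LD1_c4 LD2_c59 LD3_c26)) :=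
  Lre_f IH (LK LD1_c9 LD2_c49 LD3_c19) (LK LD1_c4 LD2_c59 LD3_c26) Lrfl Lrfl
theorem f94950 : Led Lsl_et (LP (LK LD1_c4 LD2_c59 LD3_c26)) = (LP (LK LD1_c2 LD2_c27 LD3_c34)) :=
  Lre_e IH (LK LD1_c4 LD2_c59 LD3_c26) (LK LD1_c2 LD2_c27 LD3_c34) Lrfl Lrfl
theorem f496998 : Led Lsl_ff (LP (LK LD1_c4 LD2_c59 LD3_c13)) = (LP (LK LD1_c2 LD2_c27 LD3_c34)) :=
  Lgr Lrot19 (Lpe (K32.f105035 IH) (Lpr_ft (K32.f496994 IH) (Lpr_dt (K8.f74400 IH) (Lpn (LP (LK LD1_c2 LD2_c27 LD3_c34))))))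
theorem f615184 : Led Lsl_ff (LP (LK LD1_c12 LD2_c17 LD3_c3)) = (LP (LK LD1_c9 LD2_c48 LD3_c53)) :=
  Lgr Lrot72 (Lpr_et (f615180 IH) (Lpr_ft (f499380 IH) (Lpr_et (f94950 IH) (Lpe (f496998 IH) (Lpr_et (f105056 IH) (Lpn (LP (LK LD1_c9 LD2_c48 LD3_c53))))))))
theorem f499394 : Led Lsl_ct (LP (LK LD1_c4 LD2_c59 LD3_c35)) = (LP (LK LD1_c2 LD2_c27 LD3_c38)) :=
  Lre_c IH (LK LD1_c4 LD2_c59 LD3_c35) (LK LD1_c2 LD2_c27 LD3_c38) Lrfl Lrfl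
theorem f499395 : Led Lsl_at (LP (LK LD1_c9 LD2_c48 LD3_c53)) = (LP (LK LD1_c4 LD2_c59 LD3_c35)) :=
  Lgr Lrot107 (Lpe (f112884 IH) (Lpr_af (f499389 IH) (Lpe (f499394 IH) (Lpn (LP (LK LD1_c4 LD2_c59 LD3_c35))))))
theorem f499398 : Led Lsl_af (LP (LK LD1_c9 LD2_c48 LD3_c53)) = (LP (LK LD1_c4 LD2_c59 LD3_c35)) :=
  Lgr Lrot0 (Lpr_at (f499395 IH) (Lpn (LP (LK LD1_c4 LD2_c59 LD3_c35))))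
theorem f499420 : Led Lsl_ft (LP (LK LD1_c9 LD2_c49 LD3_c37)) = (LP (LK LD1_c4 LD2_c59 LD3_c35)) :=
  Lre_f IH (LK LD1_c9 LD2_c49 LD3_c37) (LK LD1_c4 LD2_c59 LD3_c35) Lrfl Lrfl
theorem f615186 : Led Lsl_at (LP (LK LD1_c12 LD2_c17 LD3_c3)) = (LP (LK LD1_c9 LD2_c49 LD3_c37)) :=
  Lgr Lrot66 (Lpr_ff (f615184 IH) (Lpr_af (f499398 IH) (Lpe (f499420 IH) (Lpn (LP (LK LD1_c9 LD2_c49 LD3_c37))))))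
theorem f499410 : Led Lsl_ct (LP (LK LD1_c9 LD2_c49 LD3_c37)) = (LP (LK LD1_c4 LD2_c59 LD3_c38)) :=
  Lre_c IH (LK LD1_c9 LD2_c49 LD3_c37) (LK LD1_c4 LD2_c59 LD3_c38) Lrfl Lrfl
theorem f615199 : Led Lsl_af (LP (LK LD1_c6 LD2_c21 LD3_c36)) = (LP (LK LD1_c4 LD2_c59 LD3_c38)) :=
  Lgr Lrot68 (Lpr_ct (f443700 IH) (Lpr_at (f615186 IH) (Lpr_ct (f499410 IH) (Lpn (LP (LK LD1_c4 LD2_c59 LD3_c38))))))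
theorem f495279 : Led Lsl_ft (LP (LK LD1_c2 LD2_c27 LD3_c38)) = (LP (LK LD1_c4 LD2_c59 LD3_c38)) :=
  Lre_f IH (LK LD1_c2 LD2_c27 LD3_c38) (LK LD1_c4 LD2_c59 LD3_c38) Lrfl Lrfl
theorem f615203 : Led Lsl_gf (LP (LK LD1_c3 LD2_c8 LD3_c29)) = (LP (LK LD1_c2 LD2_c27 LD3_c38)) :=
  Lgr Lrot47 (Lpr_gt (f438667 IH) (Lpr_af (f615199 IH) (Lpe (f495279 IH) (Lpn (LP (LK LD1_c2 LD2_c27 LD3_c38))))))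
theorem f504668 : Led Lsl_at (LP (LK LD1_c6 LD2_c21 LD3_c37)) = (LP (LK LD1_c3 LD2_c8 LD3_c29)) :=
  Lre_a IH (LK LD1_c6 LD2_c21 LD3_c37) (LK LD1_c3 LD2_c8 LD3_c29) Lrfl Lrfl
theorem f76100 : Led Lsl_gt (LP (LK LD1_c4 LD2_c59 LD3_c36)) = (LP (LK LD1_c2 LD2_c27 LD3_c38)) :=
  Lre_g IH (LK LD1_c4 LD2_c59 LD3_c36) (LK LD1_c2 LD2_c27 LD3_c38) Lrfl Lrfl
theorem f615205 : Led Lsl_ff (LP (LK LD1_c6 LD2_c21 LD3_c37)) = (LP (LK LD1_c4 LD2_c59 LD3_c36)) :=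
  Lgr Lrot52 (Lpr_at (f504668 IH) (Lpr_gf (f615203 IH) (Lpe (f76100 IH) (Lpn (LP (LK LD1_c4 LD2_c59 LD3_c36))))))
theorem f615223 : Led Lsl_ft (LP (LK LD1_c6 LD2_c21 LD3_c37)) = (LP (LK LD1_c4 LD2_c59 LD3_c36)) :=
  Lgr Lrot48 (Lpr_ff (f615205 IH) (Lpn (LP (LK LD1_c4 LD2_c59 LD3_c36))))
theorem f615227 : Led Lsl_bf (LP (LK LD1_c6 LD2_c22 LD3_c2)) = (LP (LK LD1_c4 LD2_c59 LD3_c36)) :=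
  Lgr Lrot61 (Lpe (f506199 IH) (Lpr_bt (K35.f505036 IH) (Lpr_ft (f615223 IH) (Lpn (LP (LK LD1_c4 LD2_c59 LD3_c36))))))
theorem f615229 : Led Lsl_ct (LP (LK LD1_c4 LD2_c59 LD3_c36)) = (LP (LK LD1_c9 LD2_c49 LD3_c38)) :=
  Lre_c IH (LK LD1_c4 LD2_c59 LD3_c36) (LK LD1_c9 LD2_c49 LD3_c38) Lrfl Lrfl
theorem f56903 : Led Lsl_bt (LP (LK LD1_c4 LD2_c48 LD3_c42)) = (LP (LK LD1_c2 LD2_c22 LD3_c17)) :=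
  Lre_b IH (LK LD1_c4 LD2_c48 LD3_c42) (LK LD1_c2 LD2_c22 LD3_c17) Lrfl Lrfl
theorem f643085 : Led Lsl_gt (LP (LK LD1_c9 LD2_c49 LD3_c38)) = (LP (LK LD1_c4 LD2_c59 LD3_c44)) :=
  Lgr Lrot65 (Lpe (f615229 IH) (Lpe (f615227 IH) (Lpe (f506204 IH) (Lpr_bf (f615087 IH) (Lpe (f570797 IH) (Lpe (f497076 IH) (Lpr_cf (f643077 IH) (Lpe (K24.f56918 IH) (Lpe (f56903 IH) (Lpr_ct (K28.f56909 IH) (Lpn (LP (LK LD1_c4 LD2_c59 LD3_c44)))))))))))))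
theorem f98031 : Led Lsl_ct (LP (LK LD1_c7 LD2_c6 LD3_c9)) = (LP (LK LD1_c13 LD2_c27 LD3_c38)) :=
  Lre_c IH (LK LD1_c7 LD2_c6 LD3_c9) (LK LD1_c13 LD2_c27 LD3_c38) Lrfl Lrfl
theorem f540701 : Led Lsl_gt (LP (LK LD1_c12 LD2_c6 LD3_c18)) = (LP (LK LD1_c13 LD2_c27 LD3_c38)) :=
  Lgr Lrot150 (Lpe (K28.f38209 IH) (Lpe (f38207 IH) (Lpr_df (K36.f80721 IH) (Lpe (K11.f80737 IH) (Lpr_ct (K28.f80739 IH) (Lpr_gt (K36.f540693 IH) (Lpe (K36.f98023 IH) (Lpe (K36.f98025 IH) (Lpe (K36.f98026 IH) (Lpn (LP (LK LD1_c13 LD2_c27 LD3_c38))))))))))))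
theorem f559264 : Led Lsl_bt (LP (LK LD1_c6 LD2_c13 LD3_c50)) = (LP (LK LD1_c11 LD2_c27 LD3_c25)) :=
  Lgr Lrot92 (Lpr_ct (K28.f38209 IH) (Lpr_gt (f540701 IH) (Lpe (f98031 IH) (Lpe (K36.f540761 IH) (Lpr_gt (K36.f141195 IH) (Lpr_ct (K7.f72355 IH) (Lpe (K40.f558060 IH) (Lpr_cf (f558068 IH) (Lpr_bt (f559256 IH) (Lpr_gt (K40.f557393 IH) (Lpn (LP (LK LD1_c11 LD2_c27 LD3_c25)))))))))))))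
theorem f426454 : Led Lsl_at (LP (LK LD1_c8 LD2_c48 LD3_c2)) = (LP (LK LD1_c12 LD2_c6 LD3_c18)) :=
  Lgr Lrot100 (Lpr_af (K28.f426444 IH) (Lpn (LP (LK LD1_c12 LD2_c6 LD3_c18))))
theorem f554036 : Led Lsl_gf (LP (LK LD1_c12 LD2_c6 LD3_c18)) = (LP (LK LD1_c8 LD2_c46 LD3_c26)) :=
  Lgr Lrot76 (Lpe (f426454 IH) (Lpr_ff (K28.f426465 IH) (Lpr_gt (K39.f554012 IH) (Lpn (LP (LK LD1_c8 LD2_c46 LD3_c26))))))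
theorem f538502 : Led Lsl_gt (LP (LK LD1_c8 LD2_c45 LD3_c41)) = (LP (LK LD1_c4 LD2_c24 LD3_c23)) :=
  Lgr Lrot94 (Lpe (K6.f137644 IH) (Lpr_gt (K6.f38198 IH) (Lpr_dt (K4.f38161 IH) (Lpr_gt (K7.f118962 IH) (Lpe (K5.f118942 IH) (Lpe (K36.f112684 IH) (Lpe (K5.f80684 IH) (Lpr_gf (K35.f538496 IH) (Lpe (K36.f80668 IH) (Lpn (LP (LK LD1_c4 LD2_c24 LD3_c23))))))))))))
theorem f559270 : Led Lsl_gf (LP (LK LD1_c8 LD2_c49 LD3_c43)) = (LP (LK LD1_c11 LD2_c27 LD3_c25)) :=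
  Lgr Lrot124 (Lpr_bf (K38.f499049 IH) (Lpr_ct (K32.f59558 IH) (Lpr_gt (K36.f420041 IH) (Lpe (K6.f119879 IH) (Lpr_bt (K7.f137656 IH) (Lpr_gt (f538502 IH) (Lpr_ct (K39.f80663 IH) (Lpe (f554036 IH) (Lpe (K28.f38209 IH) (Lpr_bt (f559264 IH) (Lpn (LP (LK LD1_c11 LD2_c27 LD3_c25)))))))))))))
theorem f559272 : Led Lsl_gf (LP (LK LD1_c5 LD2_c49 LD3_c47)) = (LP (LK LD1_c6 LD2_c8 LD3_c34)) :=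
  Lgr Lrot129 (Lpe (K41.f557418 IH) (Lpr_bt (K39.f553997 IH) (Lpr_gt (K32.f59387 IH) (Lpe (K39.f205593 IH) (Lpr_ct (K39.f80663 IH) (Lpe (f554036 IH) (Lpe (K28.f38209 IH) (Lpr_bt (f559264 IH) (Lpe (f559270 IH) (Lpr_ct (K36.f541806 IH) (Lpn (LP (LK LD1_c6 LD2_c8 LD3_c34)))))))))))))
theorem f29548 : Led Lsl_ft (LP (LK LD1_c4 LD2_c0 LD3_c52)) = (LP (LK LD1_c1 LD2_c57 LD3_c11)) :=
  Lre_f IH (LK LD1_c4 LD2_c0 LD3_c52) (LK LD1_c1 LD2_c57 LD3_c11) Lrfl Lrfl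
theorem f541800 : Led Lsl_ff (LP (LK LD1_c6 LD2_c8 LD3_c33)) = (LP (LK LD1_c3 LD2_c0 LD3_c34)) :=
  Lgr Lrot23 (Lpe (K38.f541794 IH) (Lpr_ft (f29548 IH) (Lpr_ct (K36.f541790 IH) (Lpn (LP (LK LD1_c3 LD2_c0 LD3_c34))))))
theorem f559274 : Led Lsl_af (LP (LK LD1_c5 LD2_c49 LD3_c47)) = (LP (LK LD1_c6 LD2_c8 LD3_c33)) :=
  Lgr Lrot31 (Lpr_gf (f559272 IH) (Lpe (K36.f75824 IH) (Lpe (f541800 IH) (Lpn (LP (LK LD1_c6 LD2_c8 LD3_c33))))))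
theorem f557434 : Led Lsl_et (LP (LK LD1_c5 LD2_c49 LD3_c47)) = (LP (LK LD1_c11 LD2_c28 LD3_c13)) :=
  Lre_e IH (LK LD1_c5 LD2_c49 LD3_c47) (LK LD1_c11 LD2_c28 LD3_c13) Lrfl Lrfl
theorem f559302 : Led Lsl_at (LP (LK LD1_c11 LD2_c28 LD3_c13)) = (LP (LK LD1_c5 LD2_c59 LD3_c41)) :=
  Lgr Lrot80 (Lpe (f557434 IH) (Lpr_af (f559274 IH) (Lpe (K32.f75830 IH) (Lpn (LP (LK LD1_c5 LD2_c59 LD3_c41))))))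
theorem f75854 : Led Lsl_ft (LP (LK LD1_c5 LD2_c59 LD3_c41)) = (LP (LK LD1_c11 LD2_c43 LD3_c58)) :=
  Lre_f IH (LK LD1_c5 LD2_c59 LD3_c41) (LK LD1_c11 LD2_c43 LD3_c58) Lrfl Lrfl
theorem f501938 : Led Lsl_et (LP (LK LD1_c17 LD2_c31 LD3_c46)) = (LP (LK LD1_c9 LD2_c30 LD3_c24)) :=
  Lre_e IH (LK LD1_c17 LD2_c31 LD3_c46) (LK LD1_c9 LD2_c30 LD3_c24) Lrfl Lrfl
theorem f558637 : Led Lsl_at (LP (LK LD1_c11 LD2_c43 LD3_c58)) = (LP (LK LD1_c17 LD2_c31 LD3_c46)) :=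
  Lgr Lrot80 (Lpr_ef (K40.f558634 IH) (Lpr_af (K40.f501925 IH) (Lpe (f501938 IH) (Lpn (LP (LK LD1_c17 LD2_c31 LD3_c46))))))
theorem f559310 : Led Lsl_ff (LP (LK LD1_c11 LD2_c28 LD3_c13)) = (LP (LK LD1_c17 LD2_c31 LD3_c46)) :=
  Lgr Lrot30 (Lpr_at (f559302 IH) (Lpr_ft (f75854 IH) (Lpr_at (f558637 IH) (Lpn (LP (LK LD1_c17 LD2_c31 LD3_c46))))))
theorem f559316 : Led Lsl_ft (LP (LK LD1_c11 LD2_c28 LD3_c13)) = (LP (LK LD1_c17 LD2_c31 LD3_c46)) :=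
  Lgr Lrot48 (Lpr_ff (f559310 IH) (Lpn (LP (LK LD1_c17 LD2_c31 LD3_c46))))
theorem f75844 : Led Lsl_dt (LP (LK LD1_c5 LD2_c59 LD3_c41)) = (LP (LK LD1_c2 LD2_c56 LD3_c10)) :=
  Lre_d IH (LK LD1_c5 LD2_c59 LD3_c41) (LK LD1_c2 LD2_c56 LD3_c10) Lrfl Lrfl
theorem f500809 : Led Lsl_at (LP (LK LD1_c2 LD2_c56 LD3_c10)) = (LP (LK LD1_c5 LD2_c59 LD3_c35)) :=
  Lre_a IH (LK LD1_c2 LD2_c56 LD3_c10) (LK LD1_c5 LD2_c59 LD3_c35) Lrfl Lrfl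
theorem f559308 : Led Lsl_df (LP (LK LD1_c11 LD2_c28 LD3_c13)) = (LP (LK LD1_c5 LD2_c59 LD3_c35)) :=
  Lgr Lrot18 (Lpr_at (f559302 IH) (Lpr_dt (f75844 IH) (Lpr_at (f500809 IH) (Lpn (LP (LK LD1_c5 LD2_c59 LD3_c35))))))
theorem f501920 : Led Lsl_ft (LP (LK LD1_c11 LD2_c43 LD3_c45)) = (LP (LK LD1_c5 LD2_c59 LD3_c35)) :=
  Lre_f IH (LK LD1_c11 LD2_c43 LD3_c45) (LK LD1_c5 LD2_c59 LD3_c35) Lrfl Lrfl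
theorem f559322 : Led Lsl_df (LP (LK LD1_c11 LD2_c43 LD3_c45)) = (LP (LK LD1_c17 LD2_c31 LD3_c46)) :=
  Lgr Lrot78 (Lpr_ft (f501920 IH) (Lpe (f559308 IH) (Lpr_ft (f559316 IH) (Lpn (LP (LK LD1_c17 LD2_c31 LD3_c46))))))
theorem f501933 : Led Lsl_et (LP (LK LD1_c9 LD2_c30 LD3_c24)) = (LP (LK LD1_c17 LD2_c31 LD3_c46)) :=
  Lre_e IH (LK LD1_c9 LD2_c30 LD3_c24) (LK LD1_c17 LD2_c31 LD3_c46) Lrfl Lrfl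
theorem f501947 : Led Lsl_dt (LP (LK LD1_c6 LD2_c0 LD3_c26)) = (LP (LK LD1_c2 LD2_c56 LD3_c29)) :=
  Lre_d IH (LK LD1_c6 LD2_c0 LD3_c26) (LK LD1_c2 LD2_c56 LD3_c29) Lrfl Lrfl
theorem f559326 : Led Lsl_et (LP (LK LD1_c11 LD2_c43 LD3_c45)) = (LP (LK LD1_c6 LD2_c0 LD3_c26)) :=
  Lgr Lrot71 (Lpr_df (f559322 IH) (Lpe (f501933 IH) (Lpe (K40.f501924 IH) (Lpe (K37.f501939 IH) (Lpe (f501947 IH) (Lpn (LP (LK LD1_c6 LD2_c0 LD3_c26))))))))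
theorem f502523 : Led Lsl_et (LP (LK LD1_c2 LD2_c56 LD3_c8)) = (LP (LK LD1_c5 LD2_c59 LD3_c35)) :=
  Lre_e IH (LK LD1_c2 LD2_c56 LD3_c8) (LK LD1_c5 LD2_c59 LD3_c35) Lrfl Lrfl
theorem f76137 : Led Lsl_ft (LP (LK LD1_c6 LD2_c0 LD3_c26)) = (LP (LK LD1_c2 LD2_c56 LD3_c28)) :=
  Lre_f IH (LK LD1_c6 LD2_c0 LD3_c26) (LK LD1_c2 LD2_c56 LD3_c28) Lrfl Lrfl
theorem f75045 : Led Lsl_dt (LP (LK LD1_c1 LD2_c26 LD3_c7)) = (LP (LK LD1_c3 LD2_c0 LD3_c35)) :=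
  Lre_d IH (LK LD1_c1 LD2_c26 LD3_c7) (LK LD1_c3 LD2_c0 LD3_c35) Lrfl Lrfl
theorem f75031 : Led Lsl_et (LP (LK LD1_c1 LD2_c24 LD3_c4)) = (LP (LK LD1_c0 LD2_c38 LD3_c49)) :=
  Lre_e IH (LK LD1_c1 LD2_c24 LD3_c4) (LK LD1_c0 LD2_c38 LD3_c49) Lrfl Lrfl
theorem f75046 : Led Lsl_dt (LP (LK LD1_c2 LD2_c56 LD3_c28)) = (LP (LK LD1_c1 LD2_c24 LD3_c4)) :=
  Lre_d IH (LK LD1_c2 LD2_c56 LD3_c28) (LK LD1_c1 LD2_c24 LD3_c4) Lrfl Lrfl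
theorem f75047 : Led Lsl_et (LP (LK LD1_c3 LD2_c0 LD3_c35)) = (LP (LK LD1_c2 LD2_c56 LD3_c28)) :=
  Lgr Lrot71 (Lpe (f75045 IH) (Lpe (K36.f75044 IH) (Lpr_df (K2.f75036 IH) (Lpe (f75031 IH) (Lpe (f75046 IH) (Lpn (LP (LK LD1_c2 LD2_c56 LD3_c28))))))))
theorem f76127 : Led Lsl_ef (LP (LK LD1_c3 LD2_c0 LD3_c35)) = (LP (LK LD1_c2 LD2_c56 LD3_c28)) :=
  Lgr Lrot88 (Lpr_et (f75047 IH) (Lpn (LP (LK LD1_c2 LD2_c56 LD3_c28))))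
theorem f559336 : Led Lsl_ff (LP (LK LD1_c2 LD2_c56 LD3_c8)) = (LP (LK LD1_c3 LD2_c0 LD3_c35)) :=
  Lgr Lrot72 (Lpr_et (f502523 IH) (Lpr_ft (K37.f501898 IH) (Lpr_et (f559326 IH) (Lpr_ft (f76137 IH) (Lpe (f76127 IH) (Lpn (LP (LK LD1_c3 LD2_c0 LD3_c35))))))))
theorem f76070 : Led Lsl_at (LP (LK LD1_c2 LD2_c56 LD3_c8)) = (LP (LK LD1_c1 LD2_c23 LD3_c61)) :=
  Lre_a IH (LK LD1_c2 LD2_c56 LD3_c8) (LK LD1_c1 LD2_c23 LD3_c61) Lrfl Lrfl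
theorem f559346 : Led Lsl_gf (LP (LK LD1_c2 LD2_c55 LD3_c7)) = (LP (LK LD1_c3 LD2_c0 LD3_c35)) :=
  Lgr Lrot47 (Lpe (K28.f424627 IH) (Lpe (f76070 IH) (Lpr_ff (f559336 IH) (Lpn (LP (LK LD1_c3 LD2_c0 LD3_c35))))))
theorem f559350 : Led Lsl_cf (LP (LK LD1_c4 LD2_c59 LD3_c15)) = (LP (LK LD1_c3 LD2_c0 LD3_c35)) :=
  Lgr Lrot166 (Lpr_gt (K4.f26410 IH) (Lpr_dt (K4.f26421 IH) (Lpe (K6.f137604 IH) (Lpr_dt (K6.f74692 IH) (Lpr_ct (K8.f74693 IH) (Lpe (K8.f74709 IH) (Lpe (K28.f137614 IH) (Lpe (K28.f137615 IH) (Lpr_gf (f559346 IH) (Lpn (LP (LK LD1_c3 LD2_c0 LD3_c35))))))))))))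
theorem f501751 : Led Lsl_gf (LP (LK LD1_c2 LD2_c56 LD3_c20)) = (LP (LK LD1_c2 LD2_c51 LD3_c43)) :=
  Lgr Lrot147 (Lpr_ct (K40.f137184 IH) (Lpr_gt (K36.f501741 IH) (Lpe (K3.f109929 IH) (Lpr_df (K8.f109935 IH) (Lpr_cf (K8.f157617 IH) (Lpe (K8.f150258 IH) (Lpe (K24.f426078 IH) (Lpr_gf (K24.f426091 IH) (Lpe (K6.f8363 IH) (Lpn (LP (LK LD1_c2 LD2_c51 LD3_c43))))))))))))
theorem f559371 : Led Lsl_bf (LP (LK LD1_c2 LD2_c56 LD3_c20)) = (LP (LK LD1_c3 LD2_c0 LD3_c35)) :=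
  Lgr Lrot34 (Lpr_gf (f501751 IH) (Lpe (K36.f159029 IH) (Lpr_ct (K8.f149638 IH) (Lpe (K32.f159073 IH) (Lpe (K11.f40405 IH) (Lpe (K8.f40335 IH) (Lpr_bf (K1.f40299 IH) (Lpr_ct (K0.f26407 IH) (Lpe (K4.f26410 IH) (Lpr_cf (f559350 IH) (Lpn (LP (LK LD1_c3 LD2_c0 LD3_c35)))))))))))))
theorem f501959 : Led Lsl_et (LP (LK LD1_c2 LD2_c56 LD3_c20)) = (LP (LK LD1_c6 LD2_c0 LD3_c2)) :=
  Lre_e IH (LK LD1_c2 LD2_c56 LD3_c20) (LK LD1_c6 LD2_c0 LD3_c2) Lrfl Lrfl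
theorem f559373 : Led Lsl_bt (LP (LK LD1_c6 LD2_c0 LD3_c2)) = (LP (LK LD1_c2 LD2_c56 LD3_c28)) :=
  Lgr Lrot119 (Lpe (f501959 IH) (Lpr_bf (f559371 IH) (Lpr_ef (f76127 IH) (Lpn (LP (LK LD1_c2 LD2_c56 LD3_c28))))))
theorem f501822 : Led Lsl_ct (LP (LK LD1_c11 LD2_c44 LD3_c31)) = (LP (LK LD1_c6 LD2_c0 LD3_c2)) :=
  Lre_c IH (LK LD1_c11 LD2_c44 LD3_c31) (LK LD1_c6 LD2_c0 LD3_c2) Lrfl Lrfl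
theorem f501819 : Led Lsl_bf (LP (LK LD1_c11 LD2_c44 LD3_c31)) = (LP (LK LD1_c12 LD2_c33 LD3_c8)) :=
  Lgr Lrot24 (Lpr_bt (K36.f501812 IH) (Lpn (LP (LK LD1_c12 LD2_c33 LD3_c8))))
theorem f76126 : Led Lsl_ct (LP (LK LD1_c2 LD2_c56 LD3_c28)) = (LP (LK LD1_c6 LD2_c0 LD3_c25)) :=
  Lre_c IH (LK LD1_c2 LD2_c56 LD3_c28) (LK LD1_c6 LD2_c0 LD3_c25) Lrfl Lrfl
theorem f559379 : Led Lsl_bt (LP (LK LD1_c6 LD2_c0 LD3_c25)) = (LP (LK LD1_c11 LD2_c45 LD3_c15)) :=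
  Lre_b IH (LK LD1_c6 LD2_c0 LD3_c25) (LK LD1_c11 LD2_c45 LD3_c15) Lrfl Lrfl
theorem f559380 : Led Lsl_cf (LP (LK LD1_c12 LD2_c33 LD3_c8)) = (LP (LK LD1_c11 LD2_c45 LD3_c15)) :=
  Lgr Lrot97 (Lpe (f501819 IH) (Lpr_ct (f501822 IH) (Lpr_bt (f559373 IH) (Lpr_ct (f76126 IH) (Lpr_bt (f559379 IH) (Lpn (LP (LK LD1_c11 LD2_c45 LD3_c15))))))))
theorem f559409 : Led Lsl_et (LP (LK LD1_c9 LD2_c48 LD3_c54)) = (LP (LK LD1_c11 LD2_c45 LD3_c15)) :=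
  Lgr Lrot158 (Lpr_cf (K36.f136842 IH) (Lpe (K36.f120466 IH) (Lpr_cf (f559380 IH) (Lpn (LP (LK LD1_c11 LD2_c45 LD3_c15))))))
theorem f105022 : Led Lsl_bt (LP (LK LD1_c4 LD2_c59 LD3_c15)) = (LP (LK LD1_c9 LD2_c48 LD3_c54)) :=
  Lre_b IH (LK LD1_c4 LD2_c59 LD3_c15) (LK LD1_c9 LD2_c48 LD3_c54) Lrfl Lrfl
theorem f559411 : Led Lsl_bt (LP (LK LD1_c11 LD2_c45 LD3_c15)) = (LP (LK LD1_c6 LD2_c0 LD3_c25)) :=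
  Lre_b IH (LK LD1_c11 LD2_c45 LD3_c15) (LK LD1_c6 LD2_c0 LD3_c25) Lrfl Lrfl
theorem f559414 : Led Lsl_ef (LP (LK LD1_c4 LD2_c59 LD3_c15)) = (LP (LK LD1_c6 LD2_c0 LD3_c25)) :=
  Lgr Lrot29 (Lpr_bt (f105022 IH) (Lpr_et (f559409 IH) (Lpr_bt (f559411 IH) (Lpn (LP (LK LD1_c6 LD2_c0 LD3_c25))))))
theorem f75393 : Led Lsl_et (LP (LK LD1_c2 LD2_c27 LD3_c39)) = (LP (LK LD1_c4 LD2_c59 LD3_c41)) :=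
  Lre_e IH (LK LD1_c2 LD2_c27 LD3_c39) (LK LD1_c4 LD2_c59 LD3_c41) Lrfl Lrfl
theorem f502107 : Led Lsl_ft (LP (LK LD1_c4 LD2_c59 LD3_c41)) = (LP (LK LD1_c9 LD2_c49 LD3_c48)) :=
  Lre_f IH (LK LD1_c4 LD2_c59 LD3_c41) (LK LD1_c9 LD2_c49 LD3_c48) Lrfl Lrfl
theorem f559420 : Led Lsl_ft (LP (LK LD1_c11 LD2_c45 LD3_c17)) = (LP (LK LD1_c6 LD2_c0 LD3_c25)) :=
  Lre_f IH (LK LD1_c11 LD2_c45 LD3_c17) (LK LD1_c6 LD2_c0 LD3_c25) Lrfl Lrfl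
theorem f559421 : Led Lsl_et (LP (LK LD1_c9 LD2_c49 LD3_c48)) = (LP (LK LD1_c11 LD2_c45 LD3_c17)) :=
  Lgr Lrot69 (Lpe (f502107 IH) (Lpe (f75393 IH) (Lpr_ff (K39.f502101 IH) (Lpr_ef (f559414 IH) (Lpe (f559420 IH) (Lpn (LP (LK LD1_c11 LD2_c45 LD3_c17))))))))
theorem f72685 : Led Lsl_dt (LP (LK LD1_c18 LD2_c0 LD3_c23)) = (LP (LK LD1_c9 LD2_c49 LD3_c46)) :=
  Lre_d IH (LK LD1_c18 LD2_c0 LD3_c23) (LK LD1_c9 LD2_c49 LD3_c46) Lrfl Lrfl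
theorem f104933 : Led Lsl_dt (LP (LK LD1_c11 LD2_c43 LD3_c49)) = (LP (LK LD1_c20 LD2_c44 LD3_c61)) :=
  Lre_d IH (LK LD1_c11 LD2_c43 LD3_c49) (LK LD1_c20 LD2_c44 LD3_c61) Lrfl Lrfl
theorem f502051 : Led Lsl_af (LP (LK LD1_c18 LD2_c0 LD3_c23)) = (LP (LK LD1_c20 LD2_c44 LD3_c61)) :=
  Lgr Lrot117 (Lpr_dt (f72685 IH) (Lpr_at (K37.f502047 IH) (Lpr_dt (f104933 IH) (Lpn (LP (LK LD1_c20 LD2_c44 LD3_c61))))))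
theorem f502464 : Led Lsl_et (LP (LK LD1_c18 LD2_c0 LD3_c23)) = (LP (LK LD1_c9 LD2_c49 LD3_c47)) :=
  Lre_e IH (LK LD1_c18 LD2_c0 LD3_c23) (LK LD1_c9 LD2_c49 LD3_c47) Lrfl Lrfl
theorem f502465 : Led Lsl_et (LP (LK LD1_c11 LD2_c43 LD3_c51)) = (LP (LK LD1_c20 LD2_c44 LD3_c61)) :=
  Lre_e IH (LK LD1_c11 LD2_c43 LD3_c51) (LK LD1_c20 LD2_c44 LD3_c61) Lrfl Lrfl
theorem f502466 : Led Lsl_at (LP (LK LD1_c9 LD2_c49 LD3_c47)) = (LP (LK LD1_c11 LD2_c43 LD3_c51)) :=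
  Lgr Lrot80 (Lpe (f502464 IH) (Lpr_af (f502051 IH) (Lpe (f502465 IH) (Lpn (LP (LK LD1_c11 LD2_c43 LD3_c51))))))
theorem f502480 : Led Lsl_ft (LP (LK LD1_c18 LD2_c0 LD3_c28)) = (LP (LK LD1_c9 LD2_c49 LD3_c47)) :=
  Lre_f IH (LK LD1_c18 LD2_c0 LD3_c28) (LK LD1_c9 LD2_c49 LD3_c47) Lrfl Lrfl
theorem f502481 : Led Lsl_ft (LP (LK LD1_c11 LD2_c43 LD3_c51)) = (LP (LK LD1_c20 LD2_c45 LD3_c5)) :=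
  Lre_f IH (LK LD1_c11 LD2_c43 LD3_c51) (LK LD1_c20 LD2_c45 LD3_c5) Lrfl Lrfl
theorem f502482 : Led Lsl_af (LP (LK LD1_c18 LD2_c0 LD3_c28)) = (LP (LK LD1_c20 LD2_c45 LD3_c5)) :=
  Lgr Lrot45 (Lpr_ft (f502480 IH) (Lpr_at (f502466 IH) (Lpr_ft (f502481 IH) (Lpn (LP (LK LD1_c20 LD2_c45 LD3_c5))))))
theorem f502486 : Led Lsl_dt (LP (LK LD1_c18 LD2_c0 LD3_c28)) = (LP (LK LD1_c9 LD2_c49 LD3_c48)) :=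
  Lre_d IH (LK LD1_c18 LD2_c0 LD3_c28) (LK LD1_c9 LD2_c49 LD3_c48) Lrfl Lrfl
theorem f502459 : Led Lsl_dt (LP (LK LD1_c11 LD2_c43 LD3_c52)) = (LP (LK LD1_c20 LD2_c45 LD3_c5)) :=
  Lre_d IH (LK LD1_c11 LD2_c43 LD3_c52) (LK LD1_c20 LD2_c45 LD3_c5) Lrfl Lrfl
theorem f502492 : Led Lsl_at (LP (LK LD1_c9 LD2_c49 LD3_c48)) = (LP (LK LD1_c11 LD2_c43 LD3_c52)) :=
  Lgr Lrot51 (Lpe (f502486 IH) (Lpr_af (f502482 IH) (Lpe (f502459 IH) (Lpn (LP (LK LD1_c11 LD2_c43 LD3_c52))))))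
theorem f502497 : Led Lsl_af (LP (LK LD1_c9 LD2_c49 LD3_c48)) = (LP (LK LD1_c11 LD2_c43 LD3_c52)) :=
  Lgr Lrot0 (Lpr_at (f502492 IH) (Lpn (LP (LK LD1_c11 LD2_c43 LD3_c52))))
theorem f502077 : Led Lsl_ft (LP (LK LD1_c2 LD2_c27 LD3_c40)) = (LP (LK LD1_c2 LD2_c56 LD3_c9)) :=
  Lgr Lrot54 (Lpe (K2.f56882 IH) (Lpr_ff (K37.f502071 IH) (Lpe (K4.f26415 IH) (Lpn (LP (LK LD1_c2 LD2_c56 LD3_c9))))))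
theorem f56939 : Led Lsl_et (LP (LK LD1_c4 LD2_c59 LD3_c44)) = (LP (LK LD1_c2 LD2_c27 LD3_c40)) :=
  Lre_e IH (LK LD1_c4 LD2_c59 LD3_c44) (LK LD1_c2 LD2_c27 LD3_c40) Lrfl Lrfl
theorem f56913 : Led Lsl_ft (LP (LK LD1_c9 LD2_c49 LD3_c55)) = (LP (LK LD1_c4 LD2_c59 LD3_c44)) :=
  Lre_f IH (LK LD1_c9 LD2_c49 LD3_c55) (LK LD1_c4 LD2_c59 LD3_c44) Lrfl Lrfl
theorem f104934 : Led Lsl_et (LP (LK LD1_c2 LD2_c56 LD3_c9)) = (LP (LK LD1_c5 LD2_c59 LD3_c38)) :=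
  Lre_e IH (LK LD1_c2 LD2_c56 LD3_c9) (LK LD1_c5 LD2_c59 LD3_c38) Lrfl Lrfl
theorem f502452 : Led Lsl_ft (LP (LK LD1_c5 LD2_c59 LD3_c38)) = (LP (LK LD1_c11 LD2_c43 LD3_c52)) :=
  Lre_f IH (LK LD1_c5 LD2_c59 LD3_c38) (LK LD1_c11 LD2_c43 LD3_c52) Lrfl Lrfl
theorem f502453 : Led Lsl_ef (LP (LK LD1_c9 LD2_c49 LD3_c55)) = (LP (LK LD1_c11 LD2_c43 LD3_c52)) :=
  Lgr Lrot21 (Lpr_ft (f56913 IH) (Lpr_et (f56939 IH) (Lpr_ft (f502077 IH) (Lpr_et (f104934 IH) (Lpr_ft (f502452 IH) (Lpn (LP (LK LD1_c11 LD2_c43 LD3_c52))))))))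
theorem f502457 : Led Lsl_et (LP (LK LD1_c9 LD2_c49 LD3_c55)) = (LP (LK LD1_c11 LD2_c43 LD3_c52)) :=
  Lgr Lrot87 (Lpr_ef (f502453 IH) (Lpn (LP (LK LD1_c11 LD2_c43 LD3_c52))))
theorem f559424 : Led Lsl_af (LP (LK LD1_c9 LD2_c49 LD3_c55)) = (LP (LK LD1_c11 LD2_c45 LD3_c17)) :=
  Lgr Lrot50 (Lpr_et (f502457 IH) (Lpe (f502497 IH) (Lpr_et (f559421 IH) (Lpn (LP (LK LD1_c11 LD2_c45 LD3_c17))))))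
theorem f56912 : Led Lsl_ft (LP (LK LD1_c4 LD2_c48 LD3_c42)) = (LP (LK LD1_c9 LD2_c29 LD3_c55)) :=
  Lre_f IH (LK LD1_c4 LD2_c48 LD3_c42) (LK LD1_c9 LD2_c29 LD3_c55) Lrfl Lrfl
theorem f56914 : Led Lsl_ct (LP (LK LD1_c9 LD2_c29 LD3_c55)) = (LP (LK LD1_c9 LD2_c49 LD3_c55)) :=
  Lgr Lrot40 (Lpe (f56912 IH) (Lpr_cf (K28.f56878 IH) (Lpe (f56913 IH) (Lpn (LP (LK LD1_c9 LD2_c49 LD3_c55))))))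
theorem f56925 : Led Lsl_cf (LP (LK LD1_c9 LD2_c29 LD3_c55)) = (LP (LK LD1_c9 LD2_c49 LD3_c55)) :=
  Lgr Lrot11 (Lpr_ct (f56914 IH) (Lpn (LP (LK LD1_c9 LD2_c49 LD3_c55))))
theorem f500826 : Led Lsl_ct (LP (LK LD1_c6 LD2_c0 LD3_c26)) = (LP (LK LD1_c11 LD2_c45 LD3_c17)) :=
  Lre_c IH (LK LD1_c6 LD2_c0 LD3_c26) (LK LD1_c11 LD2_c45 LD3_c17) Lrfl Lrfl
theorem f559428 : Led Lsl_at (LP (LK LD1_c9 LD2_c29 LD3_c55)) = (LP (LK LD1_c6 LD2_c0 LD3_c26)) :=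
  Lgr Lrot107 (Lpr_cf (f56925 IH) (Lpr_af (f559424 IH) (Lpe (f500826 IH) (Lpn (LP (LK LD1_c6 LD2_c0 LD3_c26))))))
theorem f559436 : Led Lsl_df (LP (LK LD1_c9 LD2_c29 LD3_c55)) = (LP (LK LD1_c4 LD2_c48 LD3_c49)) :=
  Lgr Lrot18 (Lpr_at (f559428 IH) (Lpr_dt (f501947 IH) (Lpe (K37.f501422 IH) (Lpn (LP (LK LD1_c4 LD2_c48 LD3_c49))))))
theorem f56930 : Led Lsl_ft (LP (LK LD1_c9 LD2_c29 LD3_c55)) = (LP (LK LD1_c4 LD2_c48 LD3_c42)) :=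
  Lre_f IH (LK LD1_c9 LD2_c29 LD3_c55) (LK LD1_c4 LD2_c48 LD3_c42) Lrfl Lrfl
theorem f559440 : Led Lsl_dt (LP (LK LD1_c4 LD2_c48 LD3_c42)) = (LP (LK LD1_c2 LD2_c22 LD3_c17)) :=
  Lgr Lrot60 (Lpe (f56930 IH) (Lpr_df (f559436 IH) (Lpe (f495140 IH) (Lpn (LP (LK LD1_c2 LD2_c22 LD3_c17))))))
theorem f559442 : Led Lsl_df (LP (LK LD1_c4 LD2_c48 LD3_c42)) = (LP (LK LD1_c2 LD2_c22 LD3_c17)) :=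
  Lgr Lrot38 (Lpr_dt (f559440 IH) (Lpn (LP (LK LD1_c2 LD2_c22 LD3_c17))))
theorem f559444 : Led Lsl_at (LP (LK LD1_c4 LD2_c48 LD3_c42)) = (LP (LK LD1_c2 LD2_c56 LD3_c28)) :=
  Lgr Lrot51 (Lpr_df (f559442 IH) (Lpq (K37.f501419 IH) (Lpe (K37.f500819 IH) (Lpe (f75046 IH) (Lpn (LP (LK LD1_c2 LD2_c56 LD3_c28)))))))
theorem f559446 : Led Lsl_af (LP (LK LD1_c4 LD2_c59 LD3_c44)) = (LP (LK LD1_c6 LD2_c0 LD3_c25)) :=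
  Lgr Lrot68 (Lpe (K28.f56878 IH) (Lpr_at (f559444 IH) (Lpr_ct (f76126 IH) (Lpn (LP (LK LD1_c6 LD2_c0 LD3_c25))))))
theorem f643107 : Led Lsl_gf (LP (LK LD1_c9 LD2_c49 LD3_c38)) = (LP (LK LD1_c11 LD2_c45 LD3_c17)) :=
  Lgr Lrot47 (Lpr_gt (f643085 IH) (Lpr_af (f559446 IH) (Lpe (f559420 IH) (Lpn (LP (LK LD1_c11 LD2_c45 LD3_c17))))))
theorem f504673 : Led Lsl_at (LP (LK LD1_c3 LD2_c8 LD3_c29)) = (LP (LK LD1_c6 LD2_c21 LD3_c37)) :=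
  Lre_a IH (LK LD1_c3 LD2_c8 LD3_c29) (LK LD1_c6 LD2_c21 LD3_c37) Lrfl Lrfl
theorem f615225 : Led Lsl_af (LP (LK LD1_c2 LD2_c51 LD3_c28)) = (LP (LK LD1_c4 LD2_c59 LD3_c36)) :=
  Lgr Lrot45 (Lpe (K35.f506161 IH) (Lpr_at (f504673 IH) (Lpr_ft (f615223 IH) (Lpn (LP (LK LD1_c4 LD2_c59 LD3_c36))))))
theorem f615222 : Led Lsl_ct (LP (LK LD1_c9 LD2_c49 LD3_c38)) = (LP (LK LD1_c4 LD2_c59 LD3_c36)) :=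
  Lre_c IH (LK LD1_c9 LD2_c49 LD3_c38) (LK LD1_c4 LD2_c59 LD3_c36) Lrfl Lrfl
theorem f615232 : Led Lsl_at (LP (LK LD1_c5 LD2_c50 LD3_c34)) = (LP (LK LD1_c9 LD2_c49 LD3_c38)) :=
  Lgr Lrot107 (Lpe (K35.f139893 IH) (Lpr_af (f615225 IH) (Lpe (f615222 IH) (Lpn (LP (LK LD1_c9 LD2_c49 LD3_c38))))))
theorem f504656 : Led Lsl_bt (LP (LK LD1_c3 LD2_c8 LD3_c26)) = (LP (LK LD1_c6 LD2_c21 LD3_c27)) :=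
  Lre_b IH (LK LD1_c3 LD2_c8 LD3_c26) (LK LD1_c6 LD2_c21 LD3_c27) Lrfl Lrfl
theorem f506121 : Led Lsl_ft (LP (LK LD1_c6 LD2_c21 LD3_c27)) = (LP (LK LD1_c5 LD2_c50 LD3_c34)) :=
  Lgr Lrot75 (Lpe (f504656 IH) (Lpr_ff (K35.f506114 IH) (Lpr_bf (K35.f500047 IH) (Lpn (LP (LK LD1_c5 LD2_c50 LD3_c34))))))
theorem f643116 : Led Lsl_gt (LP (LK LD1_c6 LD2_c21 LD3_c27)) = (LP (LK LD1_c11 LD2_c45 LD3_c17)) :=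
  Lgr Lrot5 (Lpr_ft (f506121 IH) (Lpr_at (f615232 IH) (Lpr_gf (f643107 IH) (Lpn (LP (LK LD1_c11 LD2_c45 LD3_c17))))))
theorem f559426 : Led Lsl_at (LP (LK LD1_c9 LD2_c49 LD3_c55)) = (LP (LK LD1_c11 LD2_c45 LD3_c17)) :=
  Lgr Lrot100 (Lpr_af (f559424 IH) (Lpn (LP (LK LD1_c11 LD2_c45 LD3_c17))))
theorem f56931 : Led Lsl_ft (LP (LK LD1_c4 LD2_c59 LD3_c44)) = (LP (LK LD1_c9 LD2_c49 LD3_c55)) :=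
  Lre_f IH (LK LD1_c4 LD2_c59 LD3_c44) (LK LD1_c9 LD2_c49 LD3_c55) Lrfl Lrfl
theorem f643119 : Led Lsl_gf (LP (LK LD1_c6 LD2_c21 LD3_c27)) = (LP (LK LD1_c4 LD2_c59 LD3_c44)) :=
  Lgr Lrot47 (Lpr_gt (f643116 IH) (Lpe (f559426 IH) (Lpe (f56931 IH) (Lpn (LP (LK LD1_c4 LD2_c59 LD3_c44))))))
theorem f438483 : Led Lsl_ct (LP (LK LD1_c3 LD2_c8 LD3_c29)) = (LP (LK LD1_c6 LD2_c21 LD3_c27)) :=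
  Lre_c IH (LK LD1_c3 LD2_c8 LD3_c29) (LK LD1_c6 LD2_c21 LD3_c27) Lrfl Lrfl
theorem f438482 : Led Lsl_bt (LP (LK LD1_c3 LD2_c8 LD3_c29)) = (LP (LK LD1_c1 LD2_c30 LD3_c26)) :=
  Lre_b IH (LK LD1_c3 LD2_c8 LD3_c29) (LK LD1_c1 LD2_c30 LD3_c26) Lrfl Lrfl
def v4481 : LQ := Led Lsl_gf (LP (LK LD1_c2 LD2_c22 LD3_c17))
theorem f634115 : Led Lsl_gf (LP (LK LD1_c2 LD2_c22 LD3_c17)) = v4481 :=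
  Lrfl
theorem f643138 : (LP (LK LD1_c4 LD2_c38 LD3_c54)) = v4481 :=
  (Llr Lrot22 (Lpe (f27093 IH) (Lpr_ct (K35.f27083 IH) (Lpr_gf (K32.f415355 IH) (Lpr_cf (K6.f139840 IH) (Lpe (K32.f438467 IH) (Lpe (f438482 IH) (Lpr_ct (f438483 IH) (Lpr_gf (f643119 IH) (Lpe (K28.f56909 IH) (Lpr_bt (f56903 IH) (Lpr_gf (f634115 IH) (Lpn v4481))))))))))))).symm
theorem f56904 : Led Lsl_ct (LP (LK LD1_c2 LD2_c22 LD3_c17)) = (LP (LK LD1_c4 LD2_c48 LD3_c47)) :=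
  Lre_c IH (LK LD1_c2 LD2_c22 LD3_c17) (LK LD1_c4 LD2_c48 LD3_c47) Lrfl Lrfl
theorem f56950 : Led Lsl_gt (LP (LK LD1_c4 LD2_c48 LD3_c47)) = (LP (LK LD1_c9 LD2_c30 LD3_c3)) :=
  Lre_g IH (LK LD1_c4 LD2_c48 LD3_c47) (LK LD1_c9 LD2_c30 LD3_c3) Lrfl Lrfl
theorem f643165 : Led Lsl_ct (LP (LK LD1_c9 LD2_c6 LD3_c3)) = (LP (LK LD1_c9 LD2_c30 LD3_c3)) :=
  Lgr Lrot63 (Lpr_bt (f438498 IH) (Lpr_gt (K35.f500164 IH) (Lpqs (K41.f537657 IH) (Lpe (K6.f139832 IH) (Lpe (K6.f139840 IH) (Lpe (K32.f415355 IH) (Lpe (K35.f27083 IH) (Lpr_bt (f27093 IH) (Lpqs (f643138 IH) (Lpe (f634115 IH) (Lpr_ct (f56904 IH) (Lpr_gt (f56950 IH) (Lpn (LP (LK LD1_c9 LD2_c30 LD3_c3)))))))))))))))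
theorem f501983 : Led Lsl_af (LP (LK LD1_c6 LD2_c0 LD3_c16)) = (LP (LK LD1_c9 LD2_c30 LD3_c6)) :=
  Lgr Lrot0 (Lpr_at (K37.f501975 IH) (Lpn (LP (LK LD1_c9 LD2_c30 LD3_c6))))
theorem f501424 : Led Lsl_ft (LP (LK LD1_c4 LD2_c48 LD3_c47)) = (LP (LK LD1_c9 LD2_c30 LD3_c6)) :=
  Lre_f IH (LK LD1_c4 LD2_c48 LD3_c47) (LK LD1_c9 LD2_c30 LD3_c6) Lrfl Lrfl
theorem f502593 : Led Lsl_gf (LP (LK LD1_c6 LD2_c0 LD3_c16)) = (LP (LK LD1_c9 LD2_c30 LD3_c3)) :=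
  Lgr Lrot76 (Lpr_af (f501983 IH) (Lpe (f501424 IH) (Lpr_gt (f56950 IH) (Lpn (LP (LK LD1_c9 LD2_c30 LD3_c3))))))
theorem f501946 : Led Lsl_ct (LP (LK LD1_c6 LD2_c0 LD3_c16)) = (LP (LK LD1_c2 LD2_c56 LD3_c29)) :=
  Lre_c IH (LK LD1_c6 LD2_c0 LD3_c16) (LK LD1_c2 LD2_c56 LD3_c29) Lrfl Lrfl
theorem f501980 : Led Lsl_ct (LP (LK LD1_c11 LD2_c45 LD3_c17)) = (LP (LK LD1_c6 LD2_c0 LD3_c26)) :=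
  Lre_c IH (LK LD1_c11 LD2_c45 LD3_c17) (LK LD1_c6 LD2_c0 LD3_c26) Lrfl Lrfl
theorem f76092 : Led Lsl_dt (LP (LK LD1_c4 LD2_c59 LD3_c37)) = (LP (LK LD1_c2 LD2_c27 LD3_c38)) :=
  Lre_d IH (LK LD1_c4 LD2_c59 LD3_c37) (LK LD1_c2 LD2_c27 LD3_c38) Lrfl Lrfl
theorem f643174 : Led Lsl_gf (LP (LK LD1_c9 LD2_c6 LD3_c3)) = (LP (LK LD1_c4 LD2_c59 LD3_c37)) :=
  Lgr Lrot147 (Lpr_ct (f643165 IH) (Lpe (f502593 IH) (Lpr_ct (f501946 IH) (Lpe (f501947 IH) (Lpe (f501980 IH) (Lpe (f643116 IH) (Lpe (f438483 IH) (Lpr_gf (f615203 IH) (Lpe (f76092 IH) (Lpn (LP (LK LD1_c4 LD2_c59 LD3_c37))))))))))))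
theorem f438668 : Led Lsl_dt (LP (LK LD1_c6 LD2_c21 LD3_c36)) = (LP (LK LD1_c12 LD2_c17 LD3_c4)) :=
  Lre_d IH (LK LD1_c6 LD2_c21 LD3_c36) (LK LD1_c12 LD2_c17 LD3_c4) Lrfl Lrfl
theorem f570783 : Led Lsl_dt (LP (LK LD1_c9 LD2_c49 LD3_c40)) = (LP (LK LD1_c4 LD2_c59 LD3_c38)) :=
  Lre_d IH (LK LD1_c9 LD2_c49 LD3_c40) (LK LD1_c4 LD2_c59 LD3_c38) Lrfl Lrfl
theorem f615201 : Led Lsl_at (LP (LK LD1_c12 LD2_c17 LD3_c4)) = (LP (LK LD1_c9 LD2_c49 LD3_c40)) :=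
  Lgr Lrot51 (Lpe (f438668 IH) (Lpr_af (f615199 IH) (Lpe (f570783 IH) (Lpn (LP (LK LD1_c9 LD2_c49 LD3_c40))))))
theorem f615246 : Led Lsl_af (LP (LK LD1_c12 LD2_c17 LD3_c4)) = (LP (LK LD1_c9 LD2_c49 LD3_c40)) :=
  Lgr Lrot0 (Lpr_at (f615201 IH) (Lpn (LP (LK LD1_c9 LD2_c49 LD3_c40))))
theorem f643176 : Led Lsl_gt (LP (LK LD1_c9 LD2_c6 LD3_c3)) = (LP (LK LD1_c12 LD2_c17 LD3_c4)) :=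
  Lgr Lrot46 (Lpr_gf (f643174 IH) (Lpr_ft (f570791 IH) (Lpe (f615246 IH) (Lpn (LP (LK LD1_c12 LD2_c17 LD3_c4))))))
theorem f67313 : Led Lsl_bt (LP (LK LD1_c6 LD2_c27 LD3_c2)) = (LP (LK LD1_c12 LD2_c25 LD3_c49)) :=
  Lre_b IH (LK LD1_c6 LD2_c27 LD3_c2) (LK LD1_c12 LD2_c25 LD3_c49) Lrfl Lrfl
theorem f622593 : Led Lsl_bt (LP (LK LD1_c11 LD2_c30 LD3_c60)) = (LP (LK LD1_c5 LD2_c51 LD3_c57)) :=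
  Lre_b IH (LK LD1_c11 LD2_c30 LD3_c60) (LK LD1_c5 LD2_c51 LD3_c57) Lrfl Lrfl
theorem f622888 : Led Lsl_et (LP (LK LD1_c12 LD2_c25 LD3_c49)) = (LP (LK LD1_c11 LD2_c30 LD3_c60)) :=
  Lgr Lrot74 (Lpe (f67313 IH) (Lpr_ef (K35.f622884 IH) (Lpe (f622593 IH) (Lpn (LP (LK LD1_c11 LD2_c30 LD3_c60))))))
theorem f416422 : Led Lsl_bt (LP (LK LD1_c6 LD2_c46 LD3_c38)) = (LP (LK LD1_c3 LD2_c21 LD3_c28)) :=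
  Lre_b IH (LK LD1_c6 LD2_c46 LD3_c38) (LK LD1_c3 LD2_c21 LD3_c28) Lrfl Lrfl
theorem f416533 : Led Lsl_dt (LP (LK LD1_c12 LD2_c25 LD3_c49)) = (LP (LK LD1_c6 LD2_c46 LD3_c38)) :=
  Lgr Lrot79 (Lpe (f67313 IH) (Lpr_df (K24.f416525 IH) (Lpe (f416422 IH) (Lpn (LP (LK LD1_c6 LD2_c46 LD3_c38))))))
theorem f416646 : Led Lsl_df (LP (LK LD1_c12 LD2_c25 LD3_c49)) = (LP (LK LD1_c6 LD2_c46 LD3_c38)) :=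
  Lgr Lrot38 (Lpr_dt (f416533 IH) (Lpn (LP (LK LD1_c6 LD2_c46 LD3_c38))))
theorem f100736 : Led Lsl_ef (LP (LK LD1_c1 LD2_c38 LD3_c21)) = (LP (LK LD1_c1 LD2_c27 LD3_c40)) :=
  Lgr Lrot28 (Lpr_ct (K2.f73674 IH) (Lpr_et (K9.f100730 IH) (Lpr_ct (K9.f100627 IH) (Lpn (LP (LK LD1_c1 LD2_c27 LD3_c40))))))
theorem f448990 : Led Lsl_gf (LP (LK LD1_c0 LD2_c40 LD3_c33)) = K36.v121 :=
  Lgr Lrot148 (Lpr_dt (K9.f59576 IH) (Lpe (K10.f186046 IH) (Lpr_dt (K11.f9389 IH) (Lpr_ct (K10.f9390 IH) (Lpe (K10.f9387 IH) (Lpe (K9.f9386 IH) (Lpr_df (K0.f9353 IH) (Lpe (K9.f9384 IH) (Lpr_ct (K36.f448985 IH) (Lpn K36.v121))))))))))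
theorem f452731 : Led Lsl_dt (LP (LK LD1_c1 LD2_c22 LD3_c20)) = (LP (LK LD1_c0 LD2_c38 LD3_c9)) :=
  Lre_d IH (LK LD1_c1 LD2_c22 LD3_c20) (LK LD1_c0 LD2_c38 LD3_c9) Lrfl Lrfl
theorem f452790 : Led Lsl_et (LP (LK LD1_c1 LD2_c22 LD3_c20)) = (LP (LK LD1_c2 LD2_c52 LD3_c32)) :=
  Lre_e IH (LK LD1_c1 LD2_c22 LD3_c20) (LK LD1_c2 LD2_c52 LD3_c32) Lrfl Lrfl
theorem f22599 : Led Lsl_gt (LP (LK LD1_c5 LD2_c52 LD3_c32)) = (LP (LK LD1_c2 LD2_c52 LD3_c32)) :=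
  Lre_g IH (LK LD1_c5 LD2_c52 LD3_c32) (LK LD1_c2 LD2_c52 LD3_c32) Lrfl Lrfl
theorem f622533 : Led Lsl_et (LP (LK LD1_c3 LD2_c21 LD3_c28)) = (LP (LK LD1_c5 LD2_c52 LD3_c32)) :=
  Lgr Lrot185 (Lpe (K24.f416525 IH) (Lpe (K17.f414818 IH) (Lpe (K17.f414273 IH) (Lpe (K17.f69274 IH) (Lpr_ef (f100736 IH) (Lpr_dt (K9.f100595 IH) (Lpr_gf (f448990 IH) (Lpqs (K40.f537142 IH) (Lpe (f452731 IH) (Lpr_et (f452790 IH) (Lpe (f22599 IH) (Lpn (LP (LK LD1_c5 LD2_c52 LD3_c32))))))))))))))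
theorem f615665 : Led Lsl_bt (LP (LK LD1_c5 LD2_c52 LD3_c32)) = (LP (LK LD1_c11 LD2_c31 LD3_c34)) :=
  Lre_b IH (LK LD1_c5 LD2_c52 LD3_c32) (LK LD1_c11 LD2_c31 LD3_c34) Lrfl Lrfl
theorem f622535 : Led Lsl_ef (LP (LK LD1_c6 LD2_c46 LD3_c38)) = (LP (LK LD1_c11 LD2_c31 LD3_c34)) :=
  Lgr Lrot29 (Lpr_bt (f416422 IH) (Lpr_et (f622533 IH) (Lpr_bt (f615665 IH) (Lpn (LP (LK LD1_c11 LD2_c31 LD3_c34))))))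
theorem f567744 : Led Lsl_df (LP (LK LD1_c9 LD2_c5 LD3_c27)) = (LP (LK LD1_c5 LD2_c49 LD3_c1)) :=
  Lgr Lrot38 (Lpr_dt (K41.f567732 IH) (Lpn (LP (LK LD1_c5 LD2_c49 LD3_c1))))
theorem f615652 : Led Lsl_dt (LP (LK LD1_c4 LD2_c33 LD3_c57)) = (LP (LK LD1_c2 LD2_c50 LD3_c55)) :=
  Lgr Lrot60 (Lpe (K32.f437262 IH) (Lpr_df (f567744 IH) (Lpe (K41.f567719 IH) (Lpn (LP (LK LD1_c2 LD2_c50 LD3_c55))))))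
theorem f437293 : Led Lsl_et (LP (LK LD1_c4 LD2_c33 LD3_c57)) = (LP (LK LD1_c2 LD2_c13 LD3_c51)) :=
  Lre_e IH (LK LD1_c4 LD2_c33 LD3_c57) (LK LD1_c2 LD2_c13 LD3_c51) Lrfl Lrfl
theorem f437287 : Led Lsl_gt (LP (LK LD1_c2 LD2_c13 LD3_c51)) = (LP (LK LD1_c1 LD2_c21 LD3_c43)) :=
  Lgr Lrot164 (Lpr_bf (K32.f437279 IH) (Lpr_ct (K6.f135845 IH) (Lpe (K6.f146480 IH) (Lpe (K11.f160972 IH) (Lpr_gf (K8.f160992 IH) (Lpe (K11.f72662 IH) (Lpr_ct (K8.f72661 IH) (Lpe (K37.f72646 IH) (Lpr_cf (K7.f26483 IH) (Lpr_bt (K7.f26482 IH) (Lpn (LP (LK LD1_c1 LD2_c21 LD3_c43)))))))))))))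
theorem f22544 : Led Lsl_gt (LP (LK LD1_c1 LD2_c22 LD3_c19)) = (LP (LK LD1_c2 LD2_c52 LD3_c30)) :=
  Lre_g IH (LK LD1_c1 LD2_c22 LD3_c19) (LK LD1_c2 LD2_c52 LD3_c30) Lrfl Lrfl
theorem f26564 : Led Lsl_et (LP (LK LD1_c5 LD2_c52 LD3_c26)) = (LP (LK LD1_c2 LD2_c52 LD3_c30)) :=
  Lre_e IH (LK LD1_c5 LD2_c52 LD3_c26) (LK LD1_c2 LD2_c52 LD3_c30) Lrfl Lrfl
theorem f211016 : Led Lsl_gt (LP (LK LD1_c5 LD2_c49 LD3_c37)) = (LP (LK LD1_c2 LD2_c50 LD3_c55)) :=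
  Lre_g IH (LK LD1_c5 LD2_c49 LD3_c37) (LK LD1_c2 LD2_c50 LD3_c55) Lrfl Lrfl
theorem f615654 : Led Lsl_dt (LP (LK LD1_c5 LD2_c52 LD3_c26)) = (LP (LK LD1_c5 LD2_c49 LD3_c37)) :=
  Lgr Lrot136 (Lpr_et (f26564 IH) (Lpe (f22544 IH) (Lpe (K7.f26563 IH) (Lpr_dt (K7.f26562 IH) (Lpe (K36.f22817 IH) (Lpr_df (K35.f26557 IH) (Lpe (f437287 IH) (Lpe (f437293 IH) (Lpr_dt (f615652 IH) (Lpe (f211016 IH) (Lpn (LP (LK LD1_c5 LD2_c49 LD3_c37)))))))))))))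
theorem f436225 : Led Lsl_gt (LP (LK LD1_c2 LD2_c52 LD3_c30)) = (LP (LK LD1_c5 LD2_c52 LD3_c5)) :=
  Lre_g IH (LK LD1_c2 LD2_c52 LD3_c30) (LK LD1_c5 LD2_c52 LD3_c5) Lrfl Lrfl
theorem f383920 : Led Lsl_ft (LP (LK LD1_c1 LD2_c10 LD3_c34)) = (LP (LK LD1_c2 LD2_c26 LD3_c28)) :=
  Lre_f IH (LK LD1_c1 LD2_c10 LD3_c34) (LK LD1_c2 LD2_c26 LD3_c28) Lrfl Lrfl
theorem f80118 : Led Lsl_dt (LP (LK LD1_c2 LD2_c15 LD3_c57)) = (LP (LK LD1_c4 LD2_c37 LD3_c29)) :=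
  Lre_d IH (LK LD1_c2 LD2_c15 LD3_c57) (LK LD1_c4 LD2_c37 LD3_c29) Lrfl Lrfl
theorem f538578 : Led Lsl_gt (LP (LK LD1_c4 LD2_c37 LD3_c29)) = (LP (LK LD1_c9 LD2_c10 LD3_c34)) :=
  Lre_g IH (LK LD1_c4 LD2_c37 LD3_c29) (LK LD1_c9 LD2_c10 LD3_c34) Lrfl Lrfl
theorem f538579 : Led Lsl_ct (LP (LK LD1_c9 LD2_c10 LD3_c34)) = (LP (LK LD1_c17 LD2_c3 LD3_c46)) :=
  Lre_c IH (LK LD1_c9 LD2_c10 LD3_c34) (LK LD1_c17 LD2_c3 LD3_c46) Lrfl Lrfl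
theorem f555892 : Led Lsl_ct (LP (LK LD1_c16 LD2_c30 LD3_c14)) = (LP (LK LD1_c8 LD2_c49 LD3_c33)) :=
  Lre_c IH (LK LD1_c16 LD2_c30 LD3_c14) (LK LD1_c8 LD2_c49 LD3_c33) Lrfl Lrfl
theorem f570744 : Led Lsl_gt (LP (LK LD1_c17 LD2_c3 LD3_c46)) = (LP (LK LD1_c16 LD2_c30 LD3_c14)) :=
  Lgr Lrot150 (Lpe (f538579 IH) (Lpe (f538578 IH) (Lpe (f80118 IH) (Lpq (K35.f537988 IH) (Lpr_gt (K35.f538570 IH) (Lpr_ct (K38.f137830 IH) (Lpr_gt (f570742 IH) (Lpr_ct (K39.f428063 IH) (Lpe (f428064 IH) (Lpe (f555892 IH) (Lpn (LP (LK LD1_c16 LD2_c30 LD3_c14)))))))))))))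
theorem f555891 : Led Lsl_ct (LP (LK LD1_c8 LD2_c49 LD3_c33)) = (LP (LK LD1_c16 LD2_c30 LD3_c14)) :=
  Lre_c IH (LK LD1_c8 LD2_c49 LD3_c33) (LK LD1_c16 LD2_c30 LD3_c14) Lrfl Lrfl
theorem f570732 : Led Lsl_bf (LP (LK LD1_c16 LD2_c22 LD3_c20)) = (LP (LK LD1_c8 LD2_c49 LD3_c33)) :=
  Lgr Lrot24 (Lpr_bt (f570730 IH) (Lpn (LP (LK LD1_c8 LD2_c49 LD3_c33))))
theorem f563382 : Led Lsl_df (LP (LK LD1_c26 LD2_c52 LD3_c26)) = (LP (LK LD1_c18 LD2_c1 LD3_c44)) :=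
  Lgr Lrot43 (Lpr_ct (K40.f563380 IH) (Lpe (K41.f563252 IH) (Lpe (K41.f563287 IH) (Lpr_dt (K39.f163024 IH) (Lpr_ct (K41.f425923 IH) (Lpr_dt (K40.f161657 IH) (Lpr_ct (K41.f563196 IH) (Lpr_dt (K41.f563310 IH) (Lpr_ct (K41.f563356 IH) (Lpe (K40.f563352 IH) (Lpr_ct (K40.f545270 IH) (Lpr_dt (K40.f175587 IH) (Lpr_ct (K40.f175582 IH) (Lpr_dt (K41.f175589 IH) (Lpr_ct (K41.f175590 IH) (Lpn (LP (LK LD1_c18 LD2_c1 LD3_c44))))))))))))))))))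
theorem f563384 : Led Lsl_ft (LP (LK LD1_c16 LD2_c22 LD3_c20)) = (LP (LK LD1_c8 LD2_c49 LD3_c19)) :=
  Lgr Lrot142 (Lpr_dt (K40.f175587 IH) (Lpr_ct (K40.f175582 IH) (Lpr_dt (K41.f175589 IH) (Lpr_ct (K41.f175590 IH) (Lpe (f563382 IH) (Lpr_ct (K40.f563380 IH) (Lpe (K41.f563252 IH) (Lpe (K41.f563287 IH) (Lpe (K39.f424919 IH) (Lpn (LP (LK LD1_c8 LD2_c49 LD3_c19))))))))))))
theorem f565146 : Led Lsl_gf (LP (LK LD1_c12 LD2_c8 LD3_c22)) = (LP (LK LD1_c16 LD2_c22 LD3_c20)) :=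
  Lgr Lrot47 (Lpr_gt (K41.f565144 IH) (Lpe (K39.f424919 IH) (Lpe (f563384 IH) (Lpn (LP (LK LD1_c16 LD2_c22 LD3_c20))))))
theorem f542335 : Led Lsl_dt (LP (LK LD1_c26 LD2_c26 LD3_c20)) = (LP (LK LD1_c16 LD2_c29 LD3_c16)) :=
  Lre_d IH (LK LD1_c26 LD2_c26 LD3_c20) (LK LD1_c16 LD2_c29 LD3_c16) Lrfl Lrfl
theorem f540547 : Led Lsl_dt (LP (LK LD1_c11 LD2_c36 LD3_c54)) = (LP (LK LD1_c20 LD2_c35 LD3_c14)) :=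
  Lre_d IH (LK LD1_c11 LD2_c36 LD3_c54) (LK LD1_c20 LD2_c35 LD3_c14) Lrfl Lrfl
theorem f442593 : Led Lsl_gt (LP (LK LD1_c20 LD2_c35 LD3_c12)) = (LP (LK LD1_c11 LD2_c36 LD3_c54)) :=
  Lre_g IH (LK LD1_c20 LD2_c35 LD3_c12) (LK LD1_c11 LD2_c36 LD3_c54) Lrfl Lrfl
theorem f565148 : Led Lsl_ct (LP (LK LD1_c12 LD2_c8 LD3_c22)) = (LP (LK LD1_c20 LD2_c35 LD3_c12)) :=
  Lgr Lrot8 (Lpr_gt (K41.f565144 IH) (Lpr_dt (K39.f163024 IH) (Lpr_gt (K38.f549851 IH) (Lpr_dt (K41.f99756 IH) (Lpe (f542334 IH) (Lpe (f542335 IH) (Lpr_gf (K41.f563468 IH) (Lpe (f540547 IH) (Lpe (f442593 IH) (Lpn (LP (LK LD1_c20 LD2_c35 LD3_c12))))))))))))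
theorem f36055 : Led Lsl_gt (LP (LK LD1_c8 LD2_c46 LD3_c60)) = (LP (LK LD1_c16 LD2_c26 LD3_c1)) :=
  Lre_g IH (LK LD1_c8 LD2_c46 LD3_c60) (LK LD1_c16 LD2_c26 LD3_c1) Lrfl Lrfl
theorem f570854 : Led Lsl_bt (LP (LK LD1_c9 LD2_c10 LD3_c34)) = (LP (LK LD1_c16 LD2_c26 LD3_c1)) :=
  Lgr Lrot92 (Lpr_ct (f538579 IH) (Lpr_gt (f570744 IH) (Lpe (f555891 IH) (Lpe (f570732 IH) (Lpe (f565146 IH) (Lpr_ct (f565148 IH) (Lpr_gt (f442593 IH) (Lpe (K41.f442503 IH) (Lpe (K41.f82137 IH) (Lpr_gt (f36055 IH) (Lpn (LP (LK LD1_c16 LD2_c26 LD3_c1)))))))))))))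
theorem f36192 : Led Lsl_gt (LP (LK LD1_c16 LD2_c26 LD3_c1)) = (LP (LK LD1_c8 LD2_c47 LD3_c15)) :=
  Lre_g IH (LK LD1_c16 LD2_c26 LD3_c1) (LK LD1_c8 LD2_c47 LD3_c15) Lrfl Lrfl
theorem f229357 : Led Lsl_gt (LP (LK LD1_c8 LD2_c47 LD3_c41)) = (LP (LK LD1_c9 LD2_c47 LD3_c13)) :=
  Lgr Lrot9 (Lpe (K12.f37685 IH) (Lpr_gt (K12.f37695 IH) (Lpr_ct (K12.f227548 IH) (Lpr_gt (K12.f229348 IH) (Lpr_ct (K11.f38407 IH) (Lpe (K12.f38410 IH) (Lpe (K12.f27263 IH) (Lpe (K12.f210715 IH) (Lpr_cf (K18.f210725 IH) (Lpn (LP (LK LD1_c9 LD2_c47 LD3_c13))))))))))))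
theorem f158170 : Led Lsl_et (LP (LK LD1_c4 LD2_c25 LD3_c58)) = (LP (LK LD1_c2 LD2_c10 LD3_c16)) :=
  Lre_e IH (LK LD1_c4 LD2_c25 LD3_c58) (LK LD1_c2 LD2_c10 LD3_c16) Lrfl Lrfl
theorem f158171 : Led Lsl_dt (LP (LK LD1_c4 LD2_c25 LD3_c58)) = (LP (LK LD1_c8 LD2_c49 LD3_c16)) :=
  Lre_d IH (LK LD1_c4 LD2_c25 LD3_c58) (LK LD1_c8 LD2_c49 LD3_c16) Lrfl Lrfl
theorem f548767 : Led Lsl_gt (LP (LK LD1_c11 LD2_c8 LD3_c24)) = (LP (LK LD1_c8 LD2_c49 LD3_c16)) :=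
  Lgr Lrot112 (Lpe (f450491 IH) (Lpr_et (f449980 IH) (Lpr_gf (K38.f548765 IH) (Lpe (K38.f161546 IH) (Lpr_dt (K39.f161542 IH) (Lpe (K7.f40086 IH) (Lpe (K7.f139611 IH) (Lpr_gf (K8.f148956 IH) (Lpe (f158170 IH) (Lpr_dt (f158171 IH) (Lpn (LP (LK LD1_c8 LD2_c49 LD3_c16)))))))))))))
theorem f424972 : Led Lsl_ct (LP (LK LD1_c8 LD2_c49 LD3_c16)) = (LP (LK LD1_c16 LD2_c29 LD3_c46)) :=
  Lre_c IH (LK LD1_c8 LD2_c49 LD3_c16) (LK LD1_c16 LD2_c29 LD3_c46) Lrfl Lrfl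
theorem f570862 : Led Lsl_gf (LP (LK LD1_c17 LD2_c3 LD3_c46)) = (LP (LK LD1_c16 LD2_c29 LD3_c46)) :=
  Lgr Lrot129 (Lpe (f538579 IH) (Lpr_bt (f570854 IH) (Lpr_gt (f36192 IH) (Lpe (K39.f82120 IH) (Lpr_ct (K1.f35485 IH) (Lpr_gt (f229357 IH) (Lpe (K18.f210717 IH) (Lpr_bt (f210727 IH) (Lpr_gt (f548767 IH) (Lpr_ct (f424972 IH) (Lpn (LP (LK LD1_c16 LD2_c29 LD3_c46)))))))))))))
theorem f424936 : Led Lsl_dt (LP (LK LD1_c15 LD2_c7 LD3_c60)) = (LP (LK LD1_c8 LD2_c2 LD3_c18)) :=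
  Lre_d IH (LK LD1_c15 LD2_c7 LD3_c60) (LK LD1_c8 LD2_c2 LD3_c18) Lrfl Lrfl
theorem f424963 : Led Lsl_bf (LP (LK LD1_c15 LD2_c7 LD3_c60)) = (LP (LK LD1_c8 LD2_c49 LD3_c16)) :=
  Lgr Lrot93 (Lpr_dt (f424936 IH) (Lpr_bt (K39.f424941 IH) (Lpr_dt (f158171 IH) (Lpn (LP (LK LD1_c8 LD2_c49 LD3_c16))))))
theorem f98284 : Led Lsl_ft (LP (LK LD1_c13 LD2_c42 LD3_c16)) = (LP (LK LD1_c7 LD2_c14 LD3_c37)) :=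
  Lre_f IH (LK LD1_c13 LD2_c42 LD3_c16) (LK LD1_c7 LD2_c14 LD3_c37) Lrfl Lrfl
theorem f565581 : Led Lsl_gf (LP (LK LD1_c13 LD2_c31 LD3_c14)) = (LP (LK LD1_c16 LD2_c26 LD3_c37)) :=
  Lgr Lrot76 (Lpe (K36.f98270 IH) (Lpe (f98284 IH) (Lpr_gt (K41.f565579 IH) (Lpn (LP (LK LD1_c16 LD2_c26 LD3_c37))))))
theorem f98066 : Led Lsl_ct (LP (LK LD1_c7 LD2_c8 LD3_c19)) = (LP (LK LD1_c13 LD2_c31 LD3_c14)) :=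
  Lre_c IH (LK LD1_c7 LD2_c8 LD3_c19) (LK LD1_c13 LD2_c31 LD3_c14) Lrfl Lrfl
theorem f98219 : Led Lsl_bt (LP (LK LD1_c7 LD2_c8 LD3_c19)) = (LP (LK LD1_c13 LD2_c31 LD3_c10)) :=
  Lre_b IH (LK LD1_c7 LD2_c8 LD3_c19) (LK LD1_c13 LD2_c31 LD3_c10) Lrfl Lrfl
theorem f570864 : Led Lsl_gf (LP (LK LD1_c15 LD2_c7 LD3_c60)) = (LP (LK LD1_c13 LD2_c31 LD3_c10)) :=
  Lgr Lrot124 (Lpr_bf (f424963 IH) (Lpr_ct (f424972 IH) (Lpe (f570862 IH) (Lpe (f538579 IH) (Lpr_bt (f570854 IH) (Lpr_gt (f36192 IH) (Lpr_ct (K41.f227814 IH) (Lpe (f565581 IH) (Lpe (f98066 IH) (Lpr_bt (f98219 IH) (Lpn (LP (LK LD1_c13 LD2_c31 LD3_c10)))))))))))))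
theorem f98408 : Led Lsl_ft (LP (LK LD1_c13 LD2_c31 LD3_c10)) = (LP (LK LD1_c22 LD2_c52 LD3_c12)) :=
  Lre_f IH (LK LD1_c13 LD2_c31 LD3_c10) (LK LD1_c22 LD2_c52 LD3_c12) Lrfl Lrfl
theorem f6515 : Led Lsl_bt (LP (LK LD1_c22 LD2_c47 LD3_c24)) = (LP (LK LD1_c13 LD2_c28 LD3_c14)) :=
  Lre_b IH (LK LD1_c22 LD2_c47 LD3_c24) (LK LD1_c13 LD2_c28 LD3_c14) Lrfl Lrfl
theorem f98300 : Led Lsl_bt (LP (LK LD1_c13 LD2_c31 LD3_c15)) = (LP (LK LD1_c22 LD2_c52 LD3_c12)) :=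
  Lre_b IH (LK LD1_c13 LD2_c31 LD3_c15) (LK LD1_c22 LD2_c52 LD3_c12) Lrfl Lrfl
theorem f98301 : Led Lsl_af (LP (LK LD1_c22 LD2_c47 LD3_c24)) = (LP (LK LD1_c22 LD2_c52 LD3_c12)) :=
  Lgr Lrot36 (Lpr_bt (f6515 IH) (Lpr_at (K41.f6514 IH) (Lpe (K41.f6163 IH) (Lpr_at (K36.f98287 IH) (Lpr_bt (f98300 IH) (Lpn (LP (LK LD1_c22 LD2_c52 LD3_c12))))))))
theorem f570866 : Led Lsl_gt (LP (LK LD1_c15 LD2_c7 LD3_c60)) = (LP (LK LD1_c22 LD2_c47 LD3_c24)) :=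
  Lgr Lrot46 (Lpr_gf (f570864 IH) (Lpr_ft (f98408 IH) (Lpe (f98301 IH) (Lpn (LP (LK LD1_c22 LD2_c47 LD3_c24))))))
theorem f138823 : Led Lsl_dt (LP (LK LD1_c8 LD2_c2 LD3_c18)) = (LP (LK LD1_c15 LD2_c7 LD3_c60)) :=
  Lre_d IH (LK LD1_c8 LD2_c2 LD3_c18) (LK LD1_c15 LD2_c7 LD3_c60) Lrfl Lrfl
theorem f556709 : Led Lsl_cf (LP (LK LD1_c8 LD2_c0 LD3_c9)) = (LP (LK LD1_c4 LD2_c26 LD3_c26)) :=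
  Lgr Lrot11 (Lpr_ct (K39.f556706 IH) (Lpn (LP (LK LD1_c4 LD2_c26 LD3_c26))))
theorem f570616 : Led Lsl_gt (LP (LK LD1_c8 LD2_c48 LD3_c27)) = (LP (LK LD1_c15 LD2_c4 LD3_c46)) :=
  Lgr Lrot149 (Lpr_cf (f570612 IH) (Lpe (K39.f556681 IH) (Lpe (K41.f556626 IH) (Lpe (f556709 IH) (Lpr_gf (K40.f556717 IH) (Lpe (f72289 IH) (Lpr_bt (K2.f72267 IH) (Lpe (K38.f549834 IH) (Lpe (K41.f424952 IH) (Lpr_ct (K41.f424937 IH) (Lpn (LP (LK LD1_c15 LD2_c4 LD3_c46)))))))))))))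
theorem f98363 : Led Lsl_dt (LP (LK LD1_c22 LD2_c47 LD3_c24)) = (LP (LK LD1_c13 LD2_c27 LD3_c60)) :=
  Lre_d IH (LK LD1_c22 LD2_c47 LD3_c24) (LK LD1_c13 LD2_c27 LD3_c60) Lrfl Lrfl
theorem f98206 : Led Lsl_ft (LP (LK LD1_c7 LD2_c8 LD3_c16)) = (LP (LK LD1_c13 LD2_c31 LD3_c11)) :=
  Lre_f IH (LK LD1_c7 LD2_c8 LD3_c16) (LK LD1_c13 LD2_c31 LD3_c11) Lrfl Lrfl
theorem f98204 : Led Lsl_ft (LP (LK LD1_c13 LD2_c27 LD3_c60)) = (LP (LK LD1_c7 LD2_c6 LD3_c25)) :=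
  Lre_f IH (LK LD1_c13 LD2_c27 LD3_c60) (LK LD1_c7 LD2_c6 LD3_c25) Lrfl Lrfl
theorem f98358 : Led Lsl_ct (LP (LK LD1_c13 LD2_c31 LD3_c11)) = (LP (LK LD1_c13 LD2_c27 LD3_c60)) :=
  Lgr Lrot40 (Lpe (f98206 IH) (Lpr_cf (K36.f98347 IH) (Lpe (f98204 IH) (Lpn (LP (LK LD1_c13 LD2_c27 LD3_c60))))))
theorem f98210 : Led Lsl_dt (LP (LK LD1_c22 LD2_c52 LD3_c12)) = (LP (LK LD1_c13 LD2_c31 LD3_c11)) :=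
  Lre_d IH (LK LD1_c22 LD2_c52 LD3_c12) (LK LD1_c13 LD2_c31 LD3_c11) Lrfl Lrfl
theorem f98203 : Led Lsl_et (LP (LK LD1_c7 LD2_c6 LD3_c25)) = (LP (LK LD1_c3 LD2_c32 LD3_c46)) :=
  Lre_e IH (LK LD1_c7 LD2_c6 LD3_c25) (LK LD1_c3 LD2_c32 LD3_c46) Lrfl Lrfl
theorem f98370 : Led Lsl_af (LP (LK LD1_c7 LD2_c6 LD3_c25)) = (LP (LK LD1_c7 LD2_c8 LD3_c16)) :=
  Lgr Lrot50 (Lpr_et (f98203 IH) (Lpr_at (f98368 IH) (Lpr_et (K36.f98205 IH) (Lpn (LP (LK LD1_c7 LD2_c8 LD3_c16))))))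
theorem f98374 : Led Lsl_at (LP (LK LD1_c7 LD2_c6 LD3_c25)) = (LP (LK LD1_c7 LD2_c8 LD3_c16)) :=
  Lgr Lrot100 (Lpr_af (f98370 IH) (Lpn (LP (LK LD1_c7 LD2_c8 LD3_c16))))
theorem f98381 : Led Lsl_af (LP (LK LD1_c13 LD2_c27 LD3_c60)) = (LP (LK LD1_c13 LD2_c31 LD3_c11)) :=
  Lgr Lrot45 (Lpr_ft (f98204 IH) (Lpr_at (f98374 IH) (Lpr_ft (f98206 IH) (Lpn (LP (LK LD1_c13 LD2_c31 LD3_c11))))))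
theorem f98209 : Led Lsl_dt (LP (LK LD1_c13 LD2_c27 LD3_c60)) = (LP (LK LD1_c22 LD2_c47 LD3_c24)) :=
  Lre_d IH (LK LD1_c13 LD2_c27 LD3_c60) (LK LD1_c22 LD2_c47 LD3_c24) Lrfl Lrfl
theorem f98386 : Led Lsl_at (LP (LK LD1_c22 LD2_c47 LD3_c24)) = (LP (LK LD1_c22 LD2_c52 LD3_c12)) :=
  Lgr Lrot51 (Lpe (f98209 IH) (Lpr_af (f98381 IH) (Lpe (f98210 IH) (Lpn (LP (LK LD1_c22 LD2_c52 LD3_c12))))))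
theorem f98360 : Led Lsl_ft (LP (LK LD1_c13 LD2_c27 LD3_c59)) = (LP (LK LD1_c22 LD2_c47 LD3_c24)) :=
  Lre_f IH (LK LD1_c13 LD2_c27 LD3_c59) (LK LD1_c22 LD2_c47 LD3_c24) Lrfl Lrfl
theorem f98390 : Led Lsl_gt (LP (LK LD1_c13 LD2_c27 LD3_c59)) = (LP (LK LD1_c22 LD2_c47 LD3_c21)) :=
  Lre_g IH (LK LD1_c13 LD2_c27 LD3_c59) (LK LD1_c22 LD2_c47 LD3_c21) Lrfl Lrfl
theorem f98391 : Led Lsl_gt (LP (LK LD1_c22 LD2_c47 LD3_c21)) = (LP (LK LD1_c22 LD2_c52 LD3_c12)) :=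
  Lgr Lrot46 (Lpe (f98390 IH) (Lpr_ft (f98360 IH) (Lpr_at (f98386 IH) (Lpn (LP (LK LD1_c22 LD2_c52 LD3_c12))))))
theorem f570870 : Led Lsl_dt (LP (LK LD1_c15 LD2_c4 LD3_c46)) = (LP (LK LD1_c22 LD2_c47 LD3_c21)) :=
  Lgr Lrot57 (Lpe (f570616 IH) (Lpr_cf (f570612 IH) (Lpr_gt (K39.f424947 IH) (Lpr_dt (f138823 IH) (Lpr_gt (f570866 IH) (Lpr_dt (f98363 IH) (Lpe (f98358 IH) (Lpe (f98210 IH) (Lpe (f98391 IH) (Lpn (LP (LK LD1_c22 LD2_c47 LD3_c21))))))))))))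
theorem f158246 : Led Lsl_et (LP (LK LD1_c15 LD2_c4 LD3_c46)) = (LP (LK LD1_c8 LD2_c0 LD3_c5)) :=
  Lre_e IH (LK LD1_c15 LD2_c4 LD3_c46) (LK LD1_c8 LD2_c0 LD3_c5) Lrfl Lrfl
theorem f138764 : Led Lsl_dt (LP (LK LD1_c8 LD2_c48 LD3_c5)) = (LP (LK LD1_c16 LD2_c28 LD3_c10)) :=
  Lre_d IH (LK LD1_c8 LD2_c48 LD3_c5) (LK LD1_c16 LD2_c28 LD3_c10) Lrfl Lrfl
theorem f98211 : Led Lsl_dt (LP (LK LD1_c13 LD2_c31 LD3_c11)) = (LP (LK LD1_c22 LD2_c52 LD3_c12)) :=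
  Lre_d IH (LK LD1_c13 LD2_c31 LD3_c11) (LK LD1_c22 LD2_c52 LD3_c12) Lrfl Lrfl
theorem f98207 : Led Lsl_ef (LP (LK LD1_c13 LD2_c27 LD3_c60)) = (LP (LK LD1_c13 LD2_c31 LD3_c11)) :=
  Lgr Lrot21 (Lpr_ft (f98204 IH) (Lpr_et (f98203 IH) (Lpr_ft (f98200 IH) (Lpr_et (K36.f98205 IH) (Lpr_ft (f98206 IH) (Lpn (LP (LK LD1_c13 LD2_c31 LD3_c11))))))))
theorem f98225 : Led Lsl_gt (LP (LK LD1_c13 LD2_c31 LD3_c9)) = (LP (LK LD1_c7 LD2_c8 LD3_c16)) :=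
  Lre_g IH (LK LD1_c13 LD2_c31 LD3_c9) (LK LD1_c7 LD2_c8 LD3_c16) Lrfl Lrfl
theorem f98383 : Led Lsl_gt (LP (LK LD1_c13 LD2_c27 LD3_c60)) = (LP (LK LD1_c13 LD2_c31 LD3_c9)) :=
  Lgr Lrot5 (Lpr_ft (f98204 IH) (Lpr_at (f98374 IH) (Lpe (f98225 IH) (Lpn (LP (LK LD1_c13 LD2_c31 LD3_c9))))))
theorem f98385 : Led Lsl_dt (LP (LK LD1_c13 LD2_c31 LD3_c9)) = (LP (LK LD1_c22 LD2_c52 LD3_c10)) :=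
  Lre_d IH (LK LD1_c13 LD2_c31 LD3_c9) (LK LD1_c22 LD2_c52 LD3_c10) Lrfl Lrfl
theorem f570880 : Led Lsl_gf (LP (LK LD1_c16 LD2_c28 LD3_c10)) = (LP (LK LD1_c22 LD2_c52 LD3_c10)) :=
  Lgr Lrot134 (Lpe (f138764 IH) (Lpr_et (K41.f138756 IH) (Lpe (K40.f160948 IH) (Lpe (f158246 IH) (Lpr_dt (f570870 IH) (Lpr_gt (f98391 IH) (Lpe (f98211 IH) (Lpe (f98207 IH) (Lpr_gt (f98383 IH) (Lpr_dt (f98385 IH) (Lpn (LP (LK LD1_c22 LD2_c52 LD3_c10)))))))))))))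
theorem f138766 : Led Lsl_dt (LP (LK LD1_c16 LD2_c28 LD3_c10)) = (LP (LK LD1_c8 LD2_c48 LD3_c5)) :=
  Lre_d IH (LK LD1_c16 LD2_c28 LD3_c10) (LK LD1_c8 LD2_c48 LD3_c5) Lrfl Lrfl
theorem f426406 : Led Lsl_at (LP (LK LD1_c24 LD2_c56 LD3_c45)) = (LP (LK LD1_c16 LD2_c28 LD3_c10)) :=
  Lgr Lrot51 (Lpe (f138769 IH) (Lpr_af (f426402 IH) (Lpe (f138766 IH) (Lpn (LP (LK LD1_c16 LD2_c28 LD3_c10))))))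
theorem f570882 : Led Lsl_gt (LP (LK LD1_c16 LD2_c28 LD3_c38)) = (LP (LK LD1_c22 LD2_c52 LD3_c10)) :=
  Lgr Lrot5 (Lpr_ft (f570587 IH) (Lpr_at (f426406 IH) (Lpr_gf (f570880 IH) (Lpn (LP (LK LD1_c22 LD2_c52 LD3_c10))))))
theorem f570570 : Led Lsl_bt (LP (LK LD1_c8 LD2_c48 LD3_c29)) = (LP (LK LD1_c16 LD2_c28 LD3_c38)) :=
  Lre_b IH (LK LD1_c8 LD2_c48 LD3_c29) (LK LD1_c16 LD2_c28 LD3_c38) Lrfl Lrfl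
theorem f565050 : Led Lsl_ct (LP (LK LD1_c8 LD2_c48 LD3_c29)) = (LP (LK LD1_c16 LD2_c28 LD3_c40)) :=
  Lre_c IH (LK LD1_c8 LD2_c48 LD3_c29) (LK LD1_c16 LD2_c28 LD3_c40) Lrfl Lrfl
theorem f421349 : Led Lsl_ef (LP (LK LD1_c8 LD2_c38 LD3_c55)) = (LP (LK LD1_c8 LD2_c2 LD3_c21)) :=
  Lgr Lrot21 (Lpr_ft (K32.f421328 IH) (Lpr_et (K36.f158216 IH) (Lpr_ft (K8.f158193 IH) (Lpr_et (K39.f156805 IH) (Lpr_ft (K41.f421348 IH) (Lpn (LP (LK LD1_c8 LD2_c2 LD3_c21))))))))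
theorem f556638 : Led Lsl_at (LP (LK LD1_c9 LD2_c47 LD3_c3)) = (LP (LK LD1_c8 LD2_c2 LD3_c21)) :=
  Lgr Lrot80 (Lpr_ef (K39.f556636 IH) (Lpe (K36.f421353 IH) (Lpr_ef (f421349 IH) (Lpn (LP (LK LD1_c8 LD2_c2 LD3_c21))))))
theorem f570628 : Led Lsl_gf (LP (LK LD1_c4 LD2_c0 LD3_c53)) = (LP (LK LD1_c8 LD2_c0 LD3_c10)) :=
  Lgr Lrot47 (Lpr_gt (f570626 IH) (Lpe (f556638 IH) (Lpr_ff (K39.f556648 IH) (Lpn (LP (LK LD1_c8 LD2_c0 LD3_c10))))))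
theorem f29338 : Led Lsl_bt (LP (LK LD1_c4 LD2_c0 LD3_c53)) = (LP (LK LD1_c1 LD2_c57 LD3_c15)) :=
  Lre_b IH (LK LD1_c4 LD2_c0 LD3_c53) (LK LD1_c1 LD2_c57 LD3_c15) Lrfl Lrfl
theorem f29339 : Led Lsl_ct (LP (LK LD1_c4 LD2_c0 LD3_c53)) = (LP (LK LD1_c4 LD2_c0 LD3_c53)) :=
  Lgr Lrot83 (Lpe (f29236 IH) (Lpe (K1.f29224 IH) (Lpr_bf (K7.f29335 IH) (Lpe (K1.f29221 IH) (Lpe (f29338 IH) (Lpn (LP (LK LD1_c4 LD2_c0 LD3_c53))))))))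
theorem f29537 : Led Lsl_ct (LP (LK LD1_c15 LD2_c8 LD3_c23)) = (LP (LK LD1_c8 LD2_c2 LD3_c31)) :=
  Lre_c IH (LK LD1_c15 LD2_c8 LD3_c23) (LK LD1_c8 LD2_c2 LD3_c31) Lrfl Lrfl
theorem f29546 : Led Lsl_gt (LP (LK LD1_c24 LD2_c57 LD3_c13)) = (LP (LK LD1_c15 LD2_c8 LD3_c23)) :=
  Lre_g IH (LK LD1_c24 LD2_c57 LD3_c13) (LK LD1_c15 LD2_c8 LD3_c23) Lrfl Lrfl
theorem f570885 : Led Lsl_cf (LP (LK LD1_c24 LD2_c57 LD3_c13)) = (LP (LK LD1_c22 LD2_c52 LD3_c10)) :=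
  Lgr Lrot169 (Lpr_gt (f29546 IH) (Lpr_ct (f29537 IH) (Lpe (K39.f29539 IH) (Lpe (f29339 IH) (Lpr_gf (f570628 IH) (Lpe (K39.f424935 IH) (Lpe (f570616 IH) (Lpe (f570583 IH) (Lpr_gt (f570882 IH) (Lpn (LP (LK LD1_c22 LD2_c52 LD3_c10))))))))))))
theorem f29540 : Led Lsl_ct (LP (LK LD1_c8 LD2_c2 LD3_c31)) = (LP (LK LD1_c15 LD2_c8 LD3_c23)) :=
  Lre_c IH (LK LD1_c8 LD2_c2 LD3_c31) (LK LD1_c15 LD2_c8 LD3_c23) Lrfl Lrfl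
theorem f30743 : Led Lsl_bt (LP (LK LD1_c8 LD2_c2 LD3_c31)) = (LP (LK LD1_c4 LD2_c0 LD3_c58)) :=
  Lre_b IH (LK LD1_c8 LD2_c2 LD3_c31) (LK LD1_c4 LD2_c0 LD3_c58) Lrfl Lrfl
theorem f36765 : Led Lsl_bt (LP (LK LD1_c15 LD2_c8 LD3_c49)) = (LP (LK LD1_c8 LD2_c2 LD3_c40)) :=
  Lre_b IH (LK LD1_c15 LD2_c8 LD3_c49) (LK LD1_c8 LD2_c2 LD3_c40) Lrfl Lrfl
theorem f36767 : Led Lsl_ct (LP (LK LD1_c15 LD2_c8 LD3_c49)) = (LP (LK LD1_c24 LD2_c57 LD3_c43)) :=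
  Lre_c IH (LK LD1_c15 LD2_c8 LD3_c49) (LK LD1_c24 LD2_c57 LD3_c43) Lrfl Lrfl
theorem f570887 : Led Lsl_gf (LP (LK LD1_c16 LD2_c28 LD3_c40)) = (LP (LK LD1_c24 LD2_c57 LD3_c43)) :=
  Lgr Lrot126 (Lpe (f565050 IH) (Lpr_bt (f570570 IH) (Lpr_gt (f570882 IH) (Lpe (f570885 IH) (Lpr_gt (f29546 IH) (Lpe (f29540 IH) (Lpr_bt (f30743 IH) (Lpr_gt (K13.f30799 IH) (Lpe (f36765 IH) (Lpr_ct (f36767 IH) (Lpn (LP (LK LD1_c24 LD2_c57 LD3_c43)))))))))))))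
theorem f565055 : Led Lsl_ct (LP (LK LD1_c16 LD2_c28 LD3_c40)) = (LP (LK LD1_c8 LD2_c48 LD3_c29)) :=
  Lre_c IH (LK LD1_c16 LD2_c28 LD3_c40) (LK LD1_c8 LD2_c48 LD3_c29) Lrfl Lrfl
theorem f38497 : Led Lsl_dt (LP (LK LD1_c8 LD2_c48 LD3_c29)) = (LP (LK LD1_c4 LD2_c25 LD3_c27)) :=
  Lre_d IH (LK LD1_c8 LD2_c48 LD3_c29) (LK LD1_c4 LD2_c25 LD3_c27) Lrfl Lrfl
theorem f193535 : Led Lsl_cf (LP (LK LD1_c6 LD2_c13 LD3_c5)) = (LP (LK LD1_c6 LD2_c13 LD3_c12)) :=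
  Lgr Lrot11 (Lpr_ct (K35.f193532 IH) (Lpn (LP (LK LD1_c6 LD2_c13 LD3_c12))))
theorem f36012 : Led Lsl_dt (LP (LK LD1_c4 LD2_c24 LD3_c43)) = (LP (LK LD1_c8 LD2_c46 LD3_c56)) :=
  Lre_d IH (LK LD1_c4 LD2_c24 LD3_c43) (LK LD1_c8 LD2_c46 LD3_c56) Lrfl Lrfl
theorem f570889 : Led Lsl_gt (LP (LK LD1_c8 LD2_c46 LD3_c56)) = (LP (LK LD1_c15 LD2_c8 LD3_c49)) :=
  Lgr Lrot9 (Lpe (f36012 IH) (Lpe (K35.f538568 IH) (Lpe (f193535 IH) (Lpe (K41.f565067 IH) (Lpr_ct (K41.f38495 IH) (Lpe (f38497 IH) (Lpe (f565055 IH) (Lpr_gf (f570887 IH) (Lpe (f36767 IH) (Lpn (LP (LK LD1_c15 LD2_c8 LD3_c49))))))))))))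
theorem f563358 : Led Lsl_ct (LP (LK LD1_c16 LD2_c22 LD3_c21)) = (LP (LK LD1_c20 LD2_c36 LD3_c49)) :=
  Lgr Lrot8 (Lpr_gt (K40.f99685 IH) (Lpr_dt (K40.f99684 IH) (Lpe (K31.f500920 IH) (Lpr_dt (K40.f175584 IH) (Lpe (K40.f545270 IH) (Lpr_df (K40.f563352 IH) (Lpe (K40.f563249 IH) (Lpe (K40.f545213 IH) (Lpe (K40.f545194 IH) (Lpn (LP (LK LD1_c20 LD2_c36 LD3_c49))))))))))))
theorem f570892 : Led Lsl_bf (LP (LK LD1_c22 LD2_c52 LD3_c10)) = (LP (LK LD1_c16 LD2_c22 LD3_c21)) :=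
  Lgr Lrot34 (Lpe (f570882 IH) (Lpe (f570570 IH) (Lpr_ct (f565050 IH) (Lpr_gf (f570887 IH) (Lpe (f36767 IH) (Lpe (f570889 IH) (Lpe (K39.f545180 IH) (Lpr_ct (K40.f198266 IH) (Lpe (K40.f545194 IH) (Lpe (f563358 IH) (Lpn (LP (LK LD1_c16 LD2_c22 LD3_c21)))))))))))))
theorem f426417 : Led Lsl_bt (LP (LK LD1_c8 LD2_c48 LD3_c9)) = (LP (LK LD1_c16 LD2_c28 LD3_c10)) :=
  Lre_b IH (LK LD1_c8 LD2_c48 LD3_c9) (LK LD1_c16 LD2_c28 LD3_c10) Lrfl Lrfl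
theorem f565606 : Led Lsl_ct (LP (LK LD1_c8 LD2_c48 LD3_c9)) = (LP (LK LD1_c16 LD2_c28 LD3_c15)) :=
  Lre_c IH (LK LD1_c8 LD2_c48 LD3_c9) (LK LD1_c16 LD2_c28 LD3_c15) Lrfl Lrfl
theorem f98414 : Led Lsl_dt (LP (LK LD1_c7 LD2_c8 LD3_c18)) = (LP (LK LD1_c13 LD2_c31 LD3_c12)) :=
  Lre_d IH (LK LD1_c7 LD2_c8 LD3_c18) (LK LD1_c13 LD2_c31 LD3_c12) Lrfl Lrfl
theorem f72124 : Led Lsl_dt (LP (LK LD1_c4 LD2_c25 LD3_c19)) = (LP (LK LD1_c8 LD2_c48 LD3_c9)) :=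
  Lre_d IH (LK LD1_c4 LD2_c25 LD3_c19) (LK LD1_c8 LD2_c48 LD3_c9) Lrfl Lrfl
theorem f565595 : Led Lsl_gt (LP (LK LD1_c13 LD2_c31 LD3_c12)) = (LP (LK LD1_c8 LD2_c48 LD3_c9)) :=
  Lgr Lrot139 (Lpe (f98414 IH) (Lpe (f98412 IH) (Lpe (K41.f10594 IH) (Lpr_dt (K3.f6518 IH) (Lpr_gf (K41.f565583 IH) (Lpe (K41.f137626 IH) (Lpr_et (K41.f38569 IH) (Lpe (K6.f38528 IH) (Lpe (K41.f72123 IH) (Lpr_dt (f72124 IH) (Lpn (LP (LK LD1_c8 LD2_c48 LD3_c9)))))))))))))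
theorem f98137 : Led Lsl_dt (LP (LK LD1_c13 LD2_c31 LD3_c12)) = (LP (LK LD1_c7 LD2_c8 LD3_c18)) :=
  Lre_d IH (LK LD1_c13 LD2_c31 LD3_c12) (LK LD1_c7 LD2_c8 LD3_c18) Lrfl Lrfl
theorem f6141 : Led Lsl_gt (LP (LK LD1_c1 LD2_c43 LD3_c37)) = (LP (LK LD1_c3 LD2_c33 LD3_c45)) :=
  Lre_g IH (LK LD1_c1 LD2_c43 LD3_c37) (LK LD1_c3 LD2_c33 LD3_c45) Lrfl Lrfl
theorem f6147 : Led Lsl_ct (LP (LK LD1_c3 LD2_c33 LD3_c45)) = (LP (LK LD1_c7 LD2_c8 LD3_c22)) :=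
  Lre_c IH (LK LD1_c3 LD2_c33 LD3_c45) (LK LD1_c7 LD2_c8 LD3_c22) Lrfl Lrfl
theorem f565604 : Led Lsl_dt (LP (LK LD1_c7 LD2_c8 LD3_c22)) = (LP (LK LD1_c13 LD2_c31 LD3_c18)) :=
  Lre_d IH (LK LD1_c7 LD2_c8 LD3_c22) (LK LD1_c13 LD2_c31 LD3_c18) Lrfl Lrfl
theorem f565605 : Led Lsl_ct (LP (LK LD1_c22 LD2_c52 LD3_c21)) = (LP (LK LD1_c13 LD2_c31 LD3_c18)) :=
  Lre_c IH (LK LD1_c22 LD2_c52 LD3_c21) (LK LD1_c13 LD2_c31 LD3_c18) Lrfl Lrfl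
theorem f565607 : Led Lsl_gf (LP (LK LD1_c22 LD2_c52 LD3_c21)) = (LP (LK LD1_c16 LD2_c28 LD3_c15)) :=
  Lgr Lrot104 (Lpr_ct (f565605 IH) (Lpe (f565604 IH) (Lpe (f6147 IH) (Lpe (f6141 IH) (Lpe (K36.f6544 IH) (Lpe (K41.f6554 IH) (Lpe (f98137 IH) (Lpr_gt (f565595 IH) (Lpr_ct (f565606 IH) (Lpn (LP (LK LD1_c16 LD2_c28 LD3_c15))))))))))))
theorem f565610 : Led Lsl_ct (LP (LK LD1_c13 LD2_c31 LD3_c18)) = (LP (LK LD1_c22 LD2_c52 LD3_c21)) :=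
  Lre_c IH (LK LD1_c13 LD2_c31 LD3_c18) (LK LD1_c22 LD2_c52 LD3_c21) Lrfl Lrfl
theorem f570903 : Led Lsl_bt (LP (LK LD1_c13 LD2_c31 LD3_c18)) = (LP (LK LD1_c11 LD2_c38 LD3_c0)) :=
  Lgr Lrot130 (Lpr_ct (f565610 IH) (Lpr_gf (f565607 IH) (Lpe (f565606 IH) (Lpr_bt (f426417 IH) (Lpr_gf (f570880 IH) (Lpr_bf (f570892 IH) (Lpr_ct (f563358 IH) (Lpe (K40.f563228 IH) (Lpe (K40.f553437 IH) (Lpr_gf (K40.f559839 IH) (Lpn (LP (LK LD1_c11 LD2_c38 LD3_c0)))))))))))))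
theorem f570911 : Led Lsl_et (LP (LK LD1_c22 LD2_c52 LD3_c22)) = (LP (LK LD1_c13 LD2_c31 LD3_c18)) :=
  Lre_e IH (LK LD1_c22 LD2_c52 LD3_c22) (LK LD1_c13 LD2_c31 LD3_c18) Lrfl Lrfl
theorem f570912 : Led Lsl_bf (LP (LK LD1_c22 LD2_c52 LD3_c22)) = (LP (LK LD1_c20 LD2_c36 LD3_c47)) :=
  Lgr Lrot96 (Lpr_et (f570911 IH) (Lpr_bt (f570903 IH) (Lpr_et (K38.f545128 IH) (Lpn (LP (LK LD1_c20 LD2_c36 LD3_c47))))))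
theorem f570917 : Led Lsl_bt (LP (LK LD1_c22 LD2_c52 LD3_c22)) = (LP (LK LD1_c20 LD2_c36 LD3_c47)) :=
  Lgr Lrot127 (Lpr_bf (f570912 IH) (Lpn (LP (LK LD1_c20 LD2_c36 LD3_c47))))
theorem f272811 : Led Lsl_bt (LP (LK LD1_c15 LD2_c10 LD3_c30)) = (LP (LK LD1_c24 LD2_c59 LD3_c44)) :=
  Lre_b IH (LK LD1_c15 LD2_c10 LD3_c30) (LK LD1_c24 LD2_c59 LD3_c44) Lrfl Lrfl
theorem f570919 : Led Lsl_af (LP (LK LD1_c22 LD2_c52 LD3_c22)) = (LP (LK LD1_c24 LD2_c59 LD3_c44)) :=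
  Lgr Lrot36 (Lpr_bt (f570917 IH) (Lpe (K38.f547589 IH) (Lpr_bt (K38.f193841 IH) (Lpe (K18.f297189 IH) (Lpr_bt (f272811 IH) (Lpn (LP (LK LD1_c24 LD2_c59 LD3_c44))))))))
theorem f570110 : Led Lsl_et (LP (LK LD1_c15 LD2_c10 LD3_c27)) = (LP (LK LD1_c24 LD2_c59 LD3_c44)) :=
  Lre_e IH (LK LD1_c15 LD2_c10 LD3_c27) (LK LD1_c24 LD2_c59 LD3_c44) Lrfl Lrfl
theorem f570925 : Led Lsl_at (LP (LK LD1_c13 LD2_c31 LD3_c18)) = (LP (LK LD1_c15 LD2_c10 LD3_c27)) :=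
  Lgr Lrot80 (Lpe (f570911 IH) (Lpr_af (f570919 IH) (Lpe (f570110 IH) (Lpn (LP (LK LD1_c15 LD2_c10 LD3_c27))))))
theorem f570105 : Led Lsl_dt (LP (LK LD1_c15 LD2_c10 LD3_c27)) = (LP (LK LD1_c8 LD2_c3 LD3_c41)) :=
  Lre_d IH (LK LD1_c15 LD2_c10 LD3_c27) (LK LD1_c8 LD2_c3 LD3_c41) Lrfl Lrfl
theorem f570929 : Led Lsl_af (LP (LK LD1_c7 LD2_c8 LD3_c22)) = (LP (LK LD1_c8 LD2_c3 LD3_c41)) :=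
  Lgr Lrot117 (Lpr_dt (f565604 IH) (Lpr_at (f570925 IH) (Lpr_dt (f570105 IH) (Lpn (LP (LK LD1_c8 LD2_c3 LD3_c41))))))
theorem f570935 : Led Lsl_et (LP (LK LD1_c7 LD2_c8 LD3_c22)) = (LP (LK LD1_c8 LD2_c3 LD3_c39)) :=
  Lgr Lrot123 (Lpr_af (f570929 IH) (Lpe (f242252 IH) (Lpe (f242243 IH) (Lpn (LP (LK LD1_c8 LD2_c3 LD3_c39))))))
theorem f570944 : Led Lsl_ef (LP (LK LD1_c7 LD2_c8 LD3_c22)) = (LP (LK LD1_c8 LD2_c3 LD3_c39)) :=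
  Lgr Lrot88 (Lpr_et (f570935 IH) (Lpn (LP (LK LD1_c8 LD2_c3 LD3_c39))))
theorem f6148 : Led Lsl_gt (LP (LK LD1_c7 LD2_c8 LD3_c22)) = (LP (LK LD1_c13 LD2_c31 LD3_c17)) :=
  Lre_g IH (LK LD1_c7 LD2_c8 LD3_c22) (LK LD1_c13 LD2_c31 LD3_c17) Lrfl Lrfl
theorem f98173 : Led Lsl_gt (LP (LK LD1_c13 LD2_c28 LD3_c14)) = (LP (LK LD1_c7 LD2_c8 LD3_c28)) :=
  Lre_g IH (LK LD1_c13 LD2_c28 LD3_c14) (LK LD1_c7 LD2_c8 LD3_c28) Lrfl Lrfl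
theorem f98190 : Led Lsl_gt (LP (LK LD1_c3 LD2_c33 LD3_c45)) = (LP (LK LD1_c7 LD2_c6 LD3_c33)) :=
  Lre_g IH (LK LD1_c3 LD2_c33 LD3_c45) (LK LD1_c7 LD2_c6 LD3_c33) Lrfl Lrfl
theorem f98330 : Led Lsl_ct (LP (LK LD1_c7 LD2_c8 LD3_c22)) = (LP (LK LD1_c3 LD2_c33 LD3_c45)) :=
  Lre_c IH (LK LD1_c7 LD2_c8 LD3_c22) (LK LD1_c3 LD2_c33 LD3_c45) Lrfl Lrfl
theorem f565770 : Led Lsl_df (LP (LK LD1_c16 LD2_c26 LD3_c1)) = (LP (LK LD1_c13 LD2_c31 LD3_c17)) :=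
  Lgr Lrot153 (Lpr_gt (f36192 IH) (Lpr_dt (K41.f36204 IH) (Lpe (K41.f38403 IH) (Lpr_df (K41.f565759 IH) (Lpe (f98173 IH) (Lpe (K36.f98169 IH) (Lpe (f98190 IH) (Lpe (f98330 IH) (Lpr_gt (f6148 IH) (Lpn (LP (LK LD1_c13 LD2_c31 LD3_c17))))))))))))
theorem f570511 : Led Lsl_ef (LP (LK LD1_c5 LD2_c54 LD3_c59)) = (LP (LK LD1_c8 LD2_c25 LD3_c51)) :=
  Lgr Lrot29 (Lpr_bt (K37.f421254 IH) (Lpr_et (f570509 IH) (Lpr_bt (K37.f544426 IH) (Lpn (LP (LK LD1_c8 LD2_c25 LD3_c51))))))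
theorem f386136 : Led Lsl_dt (LP (LK LD1_c8 LD2_c3 LD3_c39)) = (LP (LK LD1_c15 LD2_c10 LD3_c23)) :=
  Lre_d IH (LK LD1_c8 LD2_c3 LD3_c39) (LK LD1_c15 LD2_c10 LD3_c23) Lrfl Lrfl
theorem f242091 : Led Lsl_bt (LP (LK LD1_c4 LD2_c2 LD3_c13)) = (LP (LK LD1_c8 LD2_c4 LD3_c56)) :=
  Lre_b IH (LK LD1_c4 LD2_c2 LD3_c13) (LK LD1_c8 LD2_c4 LD3_c56) Lrfl Lrfl
theorem f287359 : Led Lsl_ff (LP (LK LD1_c8 LD2_c3 LD3_c40)) = (LP (LK LD1_c8 LD2_c4 LD3_c56)) :=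
  Lgr Lrot25 (Lpr_bt (K41.f240036 IH) (Lpr_ft (K17.f287357 IH) (Lpr_bt (f242091 IH) (Lpn (LP (LK LD1_c8 LD2_c4 LD3_c56))))))
theorem f287317 : Led Lsl_at (LP (LK LD1_c8 LD2_c3 LD3_c40)) = (LP (LK LD1_c15 LD2_c10 LD3_c23)) :=
  Lre_a IH (LK LD1_c8 LD2_c3 LD3_c40) (LK LD1_c15 LD2_c10 LD3_c23) Lrfl Lrfl
theorem f225119 : Led Lsl_gt (LP (LK LD1_c8 LD2_c4 LD3_c56)) = (LP (LK LD1_c15 LD2_c13 LD3_c3)) :=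
  Lre_g IH (LK LD1_c8 LD2_c4 LD3_c56) (LK LD1_c15 LD2_c13 LD3_c3) Lrfl Lrfl
theorem f408504 : Led Lsl_gf (LP (LK LD1_c15 LD2_c10 LD3_c23)) = (LP (LK LD1_c15 LD2_c13 LD3_c3)) :=
  Lgr Lrot76 (Lpe (f287317 IH) (Lpr_ff (f287359 IH) (Lpr_gt (f225119 IH) (Lpn (LP (LK LD1_c15 LD2_c13 LD3_c3))))))
theorem f570950 : Led Lsl_dt (LP (LK LD1_c8 LD2_c25 LD3_c51)) = (LP (LK LD1_c15 LD2_c13 LD3_c3)) :=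
  Lgr Lrot136 (Lpe (f570511 IH) (Lpr_gf (K37.f239268 IH) (Lpr_ef (K36.f35803 IH) (Lpr_dt (K36.f36188 IH) (Lpe (f36192 IH) (Lpr_df (f565770 IH) (Lpe (f6148 IH) (Lpr_ef (f570944 IH) (Lpr_dt (f386136 IH) (Lpr_gf (f408504 IH) (Lpn (LP (LK LD1_c15 LD2_c13 LD3_c3)))))))))))))
theorem f240850 : Led Lsl_ct (LP (LK LD1_c10 LD2_c1 LD3_c25)) = (LP (LK LD1_c18 LD2_c18 LD3_c59)) :=
  Lre_c IH (LK LD1_c10 LD2_c1 LD3_c25) (LK LD1_c18 LD2_c18 LD3_c59) Lrfl Lrfl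
theorem f408506 : Led Lsl_ct (LP (LK LD1_c25 LD2_c1 LD3_c60)) = (LP (LK LD1_c15 LD2_c13 LD3_c3)) :=
  Lre_c IH (LK LD1_c25 LD2_c1 LD3_c60) (LK LD1_c15 LD2_c13 LD3_c3) Lrfl Lrfl
theorem f570962 : Led Lsl_gt (LP (LK LD1_c18 LD2_c18 LD3_c59)) = (LP (LK LD1_c25 LD2_c1 LD3_c60)) :=
  Lgr Lrot187 (Lpe (f240850 IH) (Lpe (K41.f565695 IH) (Lpr_dt (f5175 IH) (Lpr_gt (f566105 IH) (Lpe (K36.f201563 IH) (Lpe (K37.f239268 IH) (Lpr_ct (f544428 IH) (Lpr_dt (f570950 IH) (Lpe (f408506 IH) (Lpn (LP (LK LD1_c25 LD2_c1 LD3_c60))))))))))))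
theorem f5525 : Led Lsl_ct (LP (LK LD1_c13 LD2_c46 LD3_c28)) = (LP (LK LD1_c23 LD2_c13 LD3_c39)) :=
  Lre_c IH (LK LD1_c13 LD2_c46 LD3_c28) (LK LD1_c23 LD2_c13 LD3_c39) Lrfl Lrfl
theorem f408507 : Led Lsl_ct (LP (LK LD1_c15 LD2_c13 LD3_c3)) = (LP (LK LD1_c25 LD2_c1 LD3_c60)) :=
  Lre_c IH (LK LD1_c15 LD2_c13 LD3_c3) (LK LD1_c25 LD2_c1 LD3_c60) Lrfl Lrfl
theorem f171711 : Led Lsl_dt (LP (LK LD1_c11 LD2_c35 LD3_c21)) = (LP (LK LD1_c5 LD2_c54 LD3_c57)) :=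
  Lre_d IH (LK LD1_c11 LD2_c35 LD3_c21) (LK LD1_c5 LD2_c54 LD3_c57) Lrfl Lrfl
theorem f570952 : Led Lsl_bf (LP (LK LD1_c11 LD2_c35 LD3_c21)) = (LP (LK LD1_c15 LD2_c13 LD3_c3)) :=
  Lgr Lrot93 (Lpr_dt (f171711 IH) (Lpr_bt (K37.f544426 IH) (Lpr_dt (f570950 IH) (Lpn (LP (LK LD1_c15 LD2_c13 LD3_c3))))))
theorem f201612 : Led Lsl_ct (LP (LK LD1_c10 LD2_c18 LD3_c0)) = (LP (LK LD1_c5 LD2_c13 LD3_c61)) :=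
  Lre_c IH (LK LD1_c10 LD2_c18 LD3_c0) (LK LD1_c5 LD2_c13 LD3_c61) Lrfl Lrfl
theorem f552308 : Led Lsl_gf (LP (LK LD1_c15 LD2_c13 LD3_c22)) = (LP (LK LD1_c11 LD2_c35 LD3_c21)) :=
  Lgr Lrot147 (Lpr_ct (K39.f552304 IH) (Lpr_gt (K39.f201615 IH) (Lpr_ct (f201612 IH) (Lpe (K37.f201613 IH) (Lpe (K16.f164082 IH) (Lpe (K32.f61383 IH) (Lpe (K32.f201594 IH) (Lpr_gf (K37.f421387 IH) (Lpe (f171711 IH) (Lpn (LP (LK LD1_c11 LD2_c35 LD3_c21))))))))))))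
theorem f552306 : Led Lsl_bt (LP (LK LD1_c8 LD2_c5 LD3_c6)) = (LP (LK LD1_c15 LD2_c13 LD3_c22)) :=
  Lre_b IH (LK LD1_c8 LD2_c5 LD3_c6) (LK LD1_c15 LD2_c13 LD3_c22) Lrfl Lrfl
theorem f552273 : Led Lsl_ct (LP (LK LD1_c8 LD2_c5 LD3_c6)) = (LP (LK LD1_c15 LD2_c13 LD3_c24)) :=
  Lre_c IH (LK LD1_c8 LD2_c5 LD3_c6) (LK LD1_c15 LD2_c13 LD3_c24) Lrfl Lrfl
theorem f570966 : Led Lsl_gf (LP (LK LD1_c23 LD2_c13 LD3_c39)) = (LP (LK LD1_c15 LD2_c13 LD3_c24)) :=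
  Lgr Lrot126 (Lpe (f5525 IH) (Lpr_bt (K24.f5513 IH) (Lpr_gt (K41.f565695 IH) (Lpr_ct (f240850 IH) (Lpr_gt (f570962 IH) (Lpe (f408507 IH) (Lpe (f570952 IH) (Lpe (f552308 IH) (Lpe (f552306 IH) (Lpr_ct (f552273 IH) (Lpn (LP (LK LD1_c15 LD2_c13 LD3_c24)))))))))))))
theorem f5533 : Led Lsl_ct (LP (LK LD1_c23 LD2_c13 LD3_c39)) = (LP (LK LD1_c13 LD2_c46 LD3_c28)) :=
  Lre_c IH (LK LD1_c23 LD2_c13 LD3_c39) (LK LD1_c13 LD2_c46 LD3_c28) Lrfl Lrfl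
theorem f5549 : Led Lsl_et (LP (LK LD1_c7 LD2_c16 LD3_c47)) = (LP (LK LD1_c3 LD2_c38 LD3_c13)) :=
  Lre_e IH (LK LD1_c7 LD2_c16 LD3_c47) (LK LD1_c3 LD2_c38 LD3_c13) Lrfl Lrfl
theorem f5077 : Led Lsl_et (LP (LK LD1_c3 LD2_c38 LD3_c32)) = (LP (LK LD1_c7 LD2_c17 LD3_c24)) :=
  Lre_e IH (LK LD1_c3 LD2_c38 LD3_c32) (LK LD1_c7 LD2_c17 LD3_c24) Lrfl Lrfl
theorem f5550 : Led Lsl_cf (LP (LK LD1_c7 LD2_c16 LD3_c47)) = (LP (LK LD1_c7 LD2_c17 LD3_c24)) :=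
  Lgr Lrot39 (Lpr_et (f5549 IH) (Lpr_ct (K28.f5547 IH) (Lpr_et (f5077 IH) (Lpn (LP (LK LD1_c7 LD2_c17 LD3_c24))))))
theorem f570973 : Led Lsl_gf (LP (LK LD1_c7 LD2_c17 LD3_c24)) = (LP (LK LD1_c8 LD2_c2 LD3_c13)) :=
  Lgr Lrot104 (Lpe (f5550 IH) (Lpe (K24.f5528 IH) (Lpe (f5533 IH) (Lpr_gf (f570966 IH) (Lpe (f552273 IH) (Lpr_gf (K41.f552312 IH) (Lpe (K41.f402916 IH) (Lpr_gt (K32.f421326 IH) (Lpr_ct (K36.f69467 IH) (Lpn (LP (LK LD1_c8 LD2_c2 LD3_c13))))))))))))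
theorem f570665 : Led Lsl_df (LP (LK LD1_c7 LD2_c8 LD3_c15)) = (LP (LK LD1_c3 LD2_c38 LD3_c12)) :=
  Lgr Lrot12 (Lpr_bt (f570661 IH) (Lpr_dt (K38.f547072 IH) (Lpr_bt (K7.f5633 IH) (Lpn (LP (LK LD1_c3 LD2_c38 LD3_c12))))))
theorem f570679 : Led Lsl_df (LP (LK LD1_c3 LD2_c39 LD3_c17)) = (LP (LK LD1_c7 LD2_c6 LD3_c24)) :=
  Lgr Lrot18 (Lpr_at (K28.f426671 IH) (Lpe (f570665 IH) (Lpr_at (f570673 IH) (Lpn (LP (LK LD1_c7 LD2_c6 LD3_c24))))))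
theorem f450126 : Led Lsl_ct (LP (LK LD1_c5 LD2_c49 LD3_c4)) = (LP (LK LD1_c11 LD2_c27 LD3_c27)) :=
  Lre_c IH (LK LD1_c5 LD2_c49 LD3_c4) (LK LD1_c11 LD2_c27 LD3_c27) Lrfl Lrfl
theorem f558688 : Led Lsl_df (LP (LK LD1_c11 LD2_c27 LD3_c27)) = (LP (LK LD1_c8 LD2_c2 LD3_c5)) :=
  Lgr Lrot84 (Lpe (f450126 IH) (Lpe (K40.f558478 IH) (Lpr_gf (K40.f558471 IH) (Lpe (K40.f68544 IH) (Lpr_gf (K40.f558683 IH) (Lpr_cf (K40.f548807 IH) (Lpr_gt (K40.f70512 IH) (Lpe (K40.f80221 IH) (Lpr_gt (K41.f420652 IH) (Lpn (LP (LK LD1_c8 LD2_c2 LD3_c5))))))))))))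
theorem f570979 : Led Lsl_gt (LP (LK LD1_c11 LD2_c27 LD3_c27)) = (LP (LK LD1_c8 LD2_c2 LD3_c12)) :=
  Lgr Lrot139 (Lpr_df (f558688 IH) (Lpe (K41.f420652 IH) (Lpr_ef (f570681 IH) (Lpe (f570679 IH) (Lpe (K24.f5070 IH) (Lpe (K0.f5065 IH) (Lpr_et (f5077 IH) (Lpr_gf (f570973 IH) (Lpe (K32.f69469 IH) (Lpr_dt (K40.f29504 IH) (Lpn (LP (LK LD1_c8 LD2_c2 LD3_c12)))))))))))))
theorem f420644 : Led Lsl_et (LP (LK LD1_c8 LD2_c2 LD3_c5)) = (LP (LK LD1_c15 LD2_c7 LD3_c50)) :=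
  Lre_e IH (LK LD1_c8 LD2_c2 LD3_c5) (LK LD1_c15 LD2_c7 LD3_c50) Lrfl Lrfl
theorem f421592 : Led Lsl_ct (LP (LK LD1_c8 LD2_c5 LD3_c0)) = (LP (LK LD1_c4 LD2_c2 LD3_c16)) :=
  Lre_c IH (LK LD1_c8 LD2_c5 LD3_c0) (LK LD1_c4 LD2_c2 LD3_c16) Lrfl Lrfl
theorem f443197 : Led Lsl_dt (LP (LK LD1_c15 LD2_c13 LD3_c16)) = (LP (LK LD1_c8 LD2_c5 LD3_c0)) :=
  Lre_d IH (LK LD1_c15 LD2_c13 LD3_c16) (LK LD1_c8 LD2_c5 LD3_c0) Lrfl Lrfl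
theorem f570976 : Led Lsl_gt (LP (LK LD1_c13 LD2_c47 LD3_c29)) = (LP (LK LD1_c15 LD2_c13 LD3_c16)) :=
  Lgr Lrot49 (Lpe (K24.f5101 IH) (Lpr_gf (f570973 IH) (Lpe (K36.f69467 IH) (Lpr_gt (K38.f69471 IH) (Lpr_dt (K39.f94970 IH) (Lpe (K39.f552335 IH) (Lpr_dt (K39.f158619 IH) (Lpe (f421592 IH) (Lpe (f443197 IH) (Lpn (LP (LK LD1_c15 LD2_c13 LD3_c16))))))))))))
theorem f443195 : Led Lsl_dt (LP (LK LD1_c8 LD2_c5 LD3_c0)) = (LP (LK LD1_c15 LD2_c13 LD3_c16)) :=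
  Lre_d IH (LK LD1_c8 LD2_c5 LD3_c0) (LK LD1_c15 LD2_c13 LD3_c16) Lrfl Lrfl
theorem f570978 : Led Lsl_et (LP (LK LD1_c8 LD2_c5 LD3_c0)) = (LP (LK LD1_c15 LD2_c13 LD3_c17)) :=
  Lre_e IH (LK LD1_c8 LD2_c5 LD3_c0) (LK LD1_c15 LD2_c13 LD3_c17) Lrfl Lrfl
theorem f570983 : Led Lsl_gf (LP (LK LD1_c15 LD2_c7 LD3_c50)) = (LP (LK LD1_c15 LD2_c13 LD3_c17)) :=
  Lgr Lrot141 (Lpe (f420644 IH) (Lpe (f558688 IH) (Lpr_gt (f570979 IH) (Lpe (K40.f29504 IH) (Lpr_et (K32.f69469 IH) (Lpe (f570973 IH) (Lpr_dt (K24.f5101 IH) (Lpr_gt (f570976 IH) (Lpe (f443195 IH) (Lpr_et (f570978 IH) (Lpn (LP (LK LD1_c15 LD2_c13 LD3_c17)))))))))))))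
theorem f158642 : Led Lsl_ct (LP (LK LD1_c8 LD2_c5 LD3_c2)) = (LP (LK LD1_c15 LD2_c13 LD3_c17)) :=
  Lre_c IH (LK LD1_c8 LD2_c5 LD3_c2) (LK LD1_c15 LD2_c13 LD3_c17) Lrfl Lrfl
theorem f210769 : Led Lsl_bt (LP (LK LD1_c15 LD2_c5 LD3_c43)) = (LP (LK LD1_c8 LD2_c1 LD3_c0)) :=
  Lre_b IH (LK LD1_c15 LD2_c5 LD3_c43) (LK LD1_c8 LD2_c1 LD3_c0) Lrfl Lrfl
theorem f570989 : Led Lsl_cf (LP (LK LD1_c15 LD2_c7 LD3_c50)) = (LP (LK LD1_c15 LD2_c5 LD3_c43)) :=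
  Lgr Lrot163 (Lpr_gf (f570983 IH) (Lpe (f158642 IH) (Lpr_gf (K39.f552341 IH) (Lpe (K39.f53110 IH) (Lpr_ct (K12.f53106 IH) (Lpe (K10.f6928 IH) (Lpe (K12.f193669 IH) (Lpr_bt (K38.f2986 IH) (Lpe (K41.f210763 IH) (Lpe (f210769 IH) (Lpn (LP (LK LD1_c15 LD2_c5 LD3_c43)))))))))))))
theorem f385890 : Led Lsl_bf (LP (LK LD1_c4 LD2_c56 LD3_c53)) = (LP (LK LD1_c4 LD2_c22 LD3_c48)) :=
  Lgr Lrot24 (Lpr_bt (K39.f385888 IH) (Lpn (LP (LK LD1_c4 LD2_c22 LD3_c48))))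
theorem f547799 : Led Lsl_bf (LP (LK LD1_c8 LD2_c1 LD3_c43)) = (LP (LK LD1_c6 LD2_c14 LD3_c19)) :=
  Lgr Lrot90 (Lpe (K22.f237428 IH) (Lpe (f385890 IH) (Lpr_ct (K30.f168282 IH) (Lpe (K18.f297017 IH) (Lpr_ct (K35.f547795 IH) (Lpn (LP (LK LD1_c6 LD2_c14 LD3_c19))))))))
theorem f556153 : Led Lsl_bt (LP (LK LD1_c6 LD2_c15 LD3_c22)) = (LP (LK LD1_c5 LD2_c37 LD3_c60)) :=
  Lgr Lrot127 (Lpr_bf (K39.f556151 IH) (Lpn (LP (LK LD1_c5 LD2_c37 LD3_c60))))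
theorem f556180 : Led Lsl_bt (LP (LK LD1_c8 LD2_c10 LD3_c26)) = (LP (LK LD1_c9 LD2_c44 LD3_c41)) :=
  Lgr Lrot128 (Lpe (K39.f192834 IH) (Lpe (K39.f418852 IH) (Lpr_cf (K39.f556140 IH) (Lpe (f556153 IH) (Lpr_cf (K39.f556177 IH) (Lpn (LP (LK LD1_c9 LD2_c44 LD3_c41))))))))
theorem f570991 : Led Lsl_gt (LP (LK LD1_c15 LD2_c7 LD3_c50)) = (LP (LK LD1_c15 LD2_c23 LD3_c31)) :=
  Lgr Lrot65 (Lpr_cf (f570989 IH) (Lpr_bt (f210769 IH) (Lpe (f297412 IH) (Lpr_bf (f547799 IH) (Lpe (K41.f547801 IH) (Lpr_gf (K35.f385270 IH) (Lpe (K39.f210340 IH) (Lpe (K39.f380282 IH) (Lpe (f556180 IH) (Lpr_ct (K39.f418854 IH) (Lpn (LP (LK LD1_c15 LD2_c23 LD3_c31)))))))))))))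
theorem f502420 : Led Lsl_bt (LP (LK LD1_c8 LD2_c2 LD3_c6)) = (LP (LK LD1_c15 LD2_c7 LD3_c50)) :=
  Lre_b IH (LK LD1_c8 LD2_c2 LD3_c6) (LK LD1_c15 LD2_c7 LD3_c50) Lrfl Lrfl
theorem f160391 : Led Lsl_bt (LP (LK LD1_c22 LD2_c51 LD3_c60)) = (LP (LK LD1_c13 LD2_c30 LD3_c61)) :=
  Lre_b IH (LK LD1_c22 LD2_c51 LD3_c60) (LK LD1_c13 LD2_c30 LD3_c61) Lrfl Lrfl
theorem f540744 : Led Lsl_dt (LP (LK LD1_c15 LD2_c7 LD3_c50)) = (LP (LK LD1_c22 LD2_c51 LD3_c60)) :=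
  Lgr Lrot79 (Lpe (f502420 IH) (Lpr_df (f540740 IH) (Lpe (f160391 IH) (Lpn (LP (LK LD1_c22 LD2_c51 LD3_c60))))))
theorem f29518 : Led Lsl_dt (LP (LK LD1_c8 LD2_c1 LD3_c50)) = (LP (LK LD1_c4 LD2_c0 LD3_c26)) :=
  Lre_d IH (LK LD1_c8 LD2_c1 LD3_c50) (LK LD1_c4 LD2_c0 LD3_c26) Lrfl Lrfl
theorem f29527 : Led Lsl_dt (LP (LK LD1_c15 LD2_c7 LD3_c11)) = (LP (LK LD1_c8 LD2_c1 LD3_c49)) :=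
  Lre_d IH (LK LD1_c15 LD2_c7 LD3_c11) (LK LD1_c8 LD2_c1 LD3_c49) Lrfl Lrfl
theorem f570985 : Led Lsl_gt (LP (LK LD1_c22 LD2_c51 LD3_c60)) = (LP (LK LD1_c15 LD2_c7 LD3_c11)) :=
  Lgr Lrot49 (Lpe (f540744 IH) (Lpr_gf (f570983 IH) (Lpe (f158642 IH) (Lpr_gt (K39.f552339 IH) (Lpr_dt (K39.f70028 IH) (Lpr_gt (K40.f554441 IH) (Lpr_dt (f29518 IH) (Lpe (K41.f29514 IH) (Lpe (f29527 IH) (Lpn (LP (LK LD1_c15 LD2_c7 LD3_c11))))))))))))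
theorem f554419 : Led Lsl_ct (LP (LK LD1_c15 LD2_c7 LD3_c11)) = (LP (LK LD1_c24 LD2_c55 LD3_c32)) :=
  Lre_c IH (LK LD1_c15 LD2_c7 LD3_c11) (LK LD1_c24 LD2_c55 LD3_c32) Lrfl Lrfl
theorem f570995 : Led Lsl_gt (LP (LK LD1_c24 LD2_c55 LD3_c32)) = (LP (LK LD1_c15 LD2_c23 LD3_c32)) :=
  Lgr Lrot150 (Lpe (f554419 IH) (Lpe (f570985 IH) (Lpe (f540744 IH) (Lpr_gt (f570991 IH) (Lpr_ct (K39.f192834 IH) (Lpr_gt (K39.f53125 IH) (Lpr_ct (K39.f192793 IH) (Lpe (K39.f53126 IH) (Lpe (K39.f192830 IH) (Lpn (LP (LK LD1_c15 LD2_c23 LD3_c32))))))))))))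
theorem f540737 : Led Lsl_bt (LP (LK LD1_c13 LD2_c30 LD3_c61)) = (LP (LK LD1_c22 LD2_c51 LD3_c60)) :=
  Lre_b IH (LK LD1_c13 LD2_c30 LD3_c61) (LK LD1_c22 LD2_c51 LD3_c60) Lrfl Lrfl
theorem f571007 : Led Lsl_ct (LP (LK LD1_c13 LD2_c30 LD3_c61)) = (LP (LK LD1_c17 LD2_c52 LD3_c5)) :=
  Lgr Lrot10 (Lpr_bt (f540737 IH) (Lpr_gt (f570985 IH) (Lpr_ct (f554419 IH) (Lpr_gt (f570995 IH) (Lpe (K39.f192832 IH) (Lpr_bt (K40.f238888 IH) (Lpe (K39.f225148 IH) (Lpe (K16.f238824 IH) (Lpr_ct (K16.f197791 IH) (Lpe (K39.f551534 IH) (Lpn (LP (LK LD1_c17 LD2_c52 LD3_c5)))))))))))))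
theorem f160325 : Led Lsl_dt (LP (LK LD1_c13 LD2_c41 LD3_c45)) = (LP (LK LD1_c7 LD2_c14 LD3_c15)) :=
  Lre_d IH (LK LD1_c13 LD2_c41 LD3_c45) (LK LD1_c7 LD2_c14 LD3_c15) Lrfl Lrfl
theorem f571013 : Led Lsl_gf (LP (LK LD1_c13 LD2_c30 LD3_c8)) = (LP (LK LD1_c17 LD2_c52 LD3_c5)) :=
  Lgr Lrot104 (Lpr_ct (K39.f98102 IH) (Lpe (K39.f97384 IH) (Lpe (K39.f98089 IH) (Lpe (K41.f10799 IH) (Lpr_cf (K41.f564989 IH) (Lpe (K41.f160321 IH) (Lpe (f160325 IH) (Lpr_gt (f160389 IH) (Lpr_ct (f571007 IH) (Lpn (LP (LK LD1_c17 LD2_c52 LD3_c5))))))))))))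
theorem f553346 : Led Lsl_df (LP (LK LD1_c10 LD2_c37 LD3_c36)) = (LP (LK LD1_c13 LD2_c30 LD3_c8)) :=
  Lgr Lrot38 (Lpr_dt (K39.f553340 IH) (Lpn (LP (LK LD1_c13 LD2_c30 LD3_c8))))
theorem f218546 : Led Lsl_dt (LP (LK LD1_c5 LD2_c23 LD3_c33)) = (LP (LK LD1_c9 LD2_c43 LD3_c13)) :=
  Lgr Lrot79 (Lpe (K16.f169162 IH) (Lpr_df (K13.f218386 IH) (Lpe (K39.f181883 IH) (Lpn (LP (LK LD1_c9 LD2_c43 LD3_c13))))))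
theorem f160299 : Led Lsl_dt (LP (LK LD1_c7 LD2_c8 LD3_c9)) = (LP (LK LD1_c3 LD2_c33 LD3_c39)) :=
  Lre_d IH (LK LD1_c7 LD2_c8 LD3_c9) (LK LD1_c3 LD2_c33 LD3_c39) Lrfl Lrfl
theorem f571029 : Led Lsl_ct (LP (LK LD1_c9 LD2_c43 LD3_c13)) = (LP (LK LD1_c13 LD2_c30 LD3_c57)) :=
  Lgr Lrot7 (Lpe (f218546 IH) (Lpe (K38.f169239 IH) (Lpr_df (f553346 IH) (Lpr_gf (f571013 IH) (Lpe (f571007 IH) (Lpr_gt (f160304 IH) (Lpr_dt (f160299 IH) (Lpr_gt (K41.f10506 IH) (Lpr_dt (K41.f10507 IH) (Lpn (LP (LK LD1_c13 LD2_c30 LD3_c57))))))))))))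
theorem f565010 : Led Lsl_cf (LP (LK LD1_c10 LD2_c31 LD3_c17)) = (LP (LK LD1_c13 LD2_c30 LD3_c38)) :=
  Lgr Lrot11 (Lpr_ct (K41.f565006 IH) (Lpn (LP (LK LD1_c13 LD2_c30 LD3_c38))))
theorem f570015 : Led Lsl_ft (LP (LK LD1_c13 LD2_c30 LD3_c59)) = (LP (LK LD1_c13 LD2_c41 LD3_c41)) :=
  Lgr Lrot54 (Lpe (K41.f160324 IH) (Lpr_ff (f570011 IH) (Lpe (f160336 IH) (Lpn (LP (LK LD1_c13 LD2_c41 LD3_c41))))))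
theorem f571037 : Led Lsl_at (LP (LK LD1_c13 LD2_c41 LD3_c41)) = (LP (LK LD1_c13 LD2_c30 LD3_c57)) :=
  Lgr Lrot33 (Lpe (f570015 IH) (Lpr_dt (K41.f160327 IH) (Lpe (K41.f564989 IH) (Lpr_dt (K41.f98101 IH) (Lpe (f565010 IH) (Lpr_dt (K41.f169230 IH) (Lpe (K38.f169219 IH) (Lpr_dt (f218546 IH) (Lpr_ct (f571029 IH) (Lpn (LP (LK LD1_c13 LD2_c30 LD3_c57))))))))))))
theorem f397407 : Led Lsl_ff (LP (LK LD1_c9 LD2_c43 LD3_c13)) = (LP (LK LD1_c10 LD2_c35 LD3_c6)) :=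
  Lgr Lrot3 (Lpr_ft (K39.f397404 IH) (Lpn (LP (LK LD1_c10 LD2_c35 LD3_c6))))
theorem f420440 : Led Lsl_dt (LP (LK LD1_c12 LD2_c6 LD3_c11)) = (LP (LK LD1_c6 LD2_c13 LD3_c44)) :=
  Lre_d IH (LK LD1_c12 LD2_c6 LD3_c11) (LK LD1_c6 LD2_c13 LD3_c44) Lrfl Lrfl
theorem f410995 : Led Lsl_gf (LP (LK LD1_c5 LD2_c41 LD3_c31)) = (LP (LK LD1_c4 LD2_c23 LD3_c12)) :=
  Lgr Lrot76 (Lpr_af (K41.f410978 IH) (Lpr_ff (K38.f403151 IH) (Lpr_gt (K31.f29619 IH) (Lpn (LP (LK LD1_c4 LD2_c23 LD3_c12))))))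
theorem f569673 : Led Lsl_cf (LP (LK LD1_c7 LD2_c14 LD3_c12)) = (LP (LK LD1_c4 LD2_c23 LD3_c12)) :=
  Lgr Lrot166 (Lpr_gt (f160334 IH) (Lpr_dt (f569661 IH) (Lpr_gt (f566187 IH) (Lpr_dt (f420440 IH) (Lpe (K41.f564963 IH) (Lpr_df (K41.f564940 IH) (Lpe (K41.f564938 IH) (Lpe (K41.f410992 IH) (Lpr_gf (f410995 IH) (Lpn (LP (LK LD1_c4 LD2_c23 LD3_c12))))))))))))
theorem f403272 : Led Lsl_ct (LP (LK LD1_c5 LD2_c23 LD3_c2)) = (LP (LK LD1_c8 LD2_c44 LD3_c5)) :=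
  Lgr Lrot59 (Lpr_cf (K31.f403270 IH) (Lpn (LP (LK LD1_c8 LD2_c44 LD3_c5))))
theorem f570021 : Led Lsl_ct (LP (LK LD1_c13 LD2_c41 LD3_c42)) = (LP (LK LD1_c10 LD2_c35 LD3_c6)) :=
  Lgr Lrot176 (Lpe (f93099 IH) (Lpr_cf (f568884 IH) (Lpe (K41.f400040 IH) (Lpe (K41.f400046 IH) (Lpe (f400073 IH) (Lpe (K38.f169225 IH) (Lpr_df (K39.f397390 IH) (Lpr_cf (f570019 IH) (Lpe (f93096 IH) (Lpr_cf (f569673 IH) (Lpe (K41.f403282 IH) (Lpe (f403272 IH) (Lpe (K38.f312965 IH) (Lpe (K31.f228688 IH) (Lpe (K41.f312934 IH) (Lpn (LP (LK LD1_c10 LD2_c35 LD3_c6))))))))))))))))))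
theorem f571035 : Led Lsl_ff (LP (LK LD1_c13 LD2_c41 LD3_c42)) = (LP (LK LD1_c13 LD2_c30 LD3_c57)) :=
  Lgr Lrot23 (Lpr_ct (f570021 IH) (Lpe (f397407 IH) (Lpr_ct (f571029 IH) (Lpn (LP (LK LD1_c13 LD2_c30 LD3_c57))))))
theorem f571039 : Led Lsl_af (LP (LK LD1_c13 LD2_c30 LD3_c59)) = (LP (LK LD1_c13 LD2_c41 LD3_c42)) :=
  Lgr Lrot45 (Lpr_ft (f570015 IH) (Lpr_at (f571037 IH) (Lpe (f571035 IH) (Lpn (LP (LK LD1_c13 LD2_c41 LD3_c42))))))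
theorem f160372 : Led Lsl_et (LP (LK LD1_c7 LD2_c8 LD3_c9)) = (LP (LK LD1_c3 LD2_c33 LD3_c40)) :=
  Lre_e IH (LK LD1_c7 LD2_c8 LD3_c9) (LK LD1_c3 LD2_c33 LD3_c40) Lrfl Lrfl
theorem f479515 : Led Lsl_gt (LP (LK LD1_c13 LD2_c14 LD3_c36)) = (LP (LK LD1_c22 LD2_c29 LD3_c26)) :=
  Lre_g IH (LK LD1_c13 LD2_c14 LD3_c36) (LK LD1_c22 LD2_c29 LD3_c26) Lrfl Lrfl
theorem f480670 : Led Lsl_et (LP (LK LD1_c13 LD2_c30 LD3_c59)) = (LP (LK LD1_c22 LD2_c29 LD3_c26)) :=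
  Lgr Lrot122 (Lpr_dt (K41.f160327 IH) (Lpr_gt (K41.f160307 IH) (Lpe (f160299 IH) (Lpr_et (f160372 IH) (Lpr_gt (K33.f10510 IH) (Lpe (K33.f464175 IH) (Lpr_gt (K29.f455955 IH) (Lpr_df (K29.f479481 IH) (Lpr_et (K29.f479488 IH) (Lpr_gt (f479515 IH) (Lpn (LP (LK LD1_c22 LD2_c29 LD3_c26)))))))))))))
theorem f529113 : Led Lsl_ft (LP (LK LD1_c13 LD2_c7 LD3_c45)) = (LP (LK LD1_c6 LD2_c57 LD3_c26)) :=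
  Lgr Lrot48 (Lpr_ff (K35.f529105 IH) (Lpn (LP (LK LD1_c6 LD2_c57 LD3_c26))))
theorem f464437 : Led Lsl_bt (LP (LK LD1_c22 LD2_c19 LD3_c46)) = (LP (LK LD1_c13 LD2_c7 LD3_c45)) :=
  Lre_b IH (LK LD1_c22 LD2_c19 LD3_c46) (LK LD1_c13 LD2_c7 LD3_c45) Lrfl Lrfl
theorem f488364 : Led Lsl_bt (LP (LK LD1_c6 LD2_c57 LD3_c26)) = (LP (LK LD1_c13 LD2_c12 LD3_c42)) :=
  Lre_b IH (LK LD1_c6 LD2_c57 LD3_c26) (LK LD1_c13 LD2_c12 LD3_c42) Lrfl Lrfl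
theorem f529117 : Led Lsl_ff (LP (LK LD1_c22 LD2_c19 LD3_c46)) = (LP (LK LD1_c13 LD2_c12 LD3_c42)) :=
  Lgr Lrot25 (Lpr_bt (f464437 IH) (Lpr_ft (f529113 IH) (Lpr_bt (f488364 IH) (Lpn (LP (LK LD1_c13 LD2_c12 LD3_c42))))))
theorem f477199 : Led Lsl_bt (LP (LK LD1_c13 LD2_c4 LD3_c0)) = (LP (LK LD1_c22 LD2_c14 LD3_c22)) :=
  Lre_b IH (LK LD1_c13 LD2_c4 LD3_c0) (LK LD1_c22 LD2_c14 LD3_c22) Lrfl Lrfl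
theorem f479430 : Led Lsl_dt (LP (LK LD1_c22 LD2_c14 LD3_c22)) = (LP (LK LD1_c22 LD2_c19 LD3_c46)) :=
  Lgr Lrot79 (Lpe (f477199 IH) (Lpr_df (K29.f479428 IH) (Lpe (f464437 IH) (Lpn (LP (LK LD1_c22 LD2_c19 LD3_c46))))))
theorem f480685 : Led Lsl_df (LP (LK LD1_c22 LD2_c14 LD3_c22)) = (LP (LK LD1_c22 LD2_c19 LD3_c46)) :=
  Lgr Lrot38 (Lpr_dt (f479430 IH) (Lpn (LP (LK LD1_c22 LD2_c19 LD3_c46))))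
theorem f488386 : Led Lsl_bt (LP (LK LD1_c6 LD2_c54 LD3_c12)) = (LP (LK LD1_c13 LD2_c7 LD3_c1)) :=
  Lre_b IH (LK LD1_c6 LD2_c54 LD3_c12) (LK LD1_c13 LD2_c7 LD3_c1) Lrfl Lrfl
theorem f488387 : Led Lsl_bt (LP (LK LD1_c13 LD2_c12 LD3_c42)) = (LP (LK LD1_c6 LD2_c57 LD3_c26)) :=
  Lre_b IH (LK LD1_c13 LD2_c12 LD3_c42) (LK LD1_c6 LD2_c57 LD3_c26) Lrfl Lrfl
theorem f488388 : Led Lsl_dt (LP (LK LD1_c13 LD2_c7 LD3_c1)) = (LP (LK LD1_c13 LD2_c12 LD3_c42)) :=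
  Lgr Lrot79 (Lpe (f488386 IH) (Lpr_df (K35.f488367 IH) (Lpe (f488387 IH) (Lpn (LP (LK LD1_c13 LD2_c12 LD3_c42))))))
theorem f529119 : Led Lsl_ft (LP (LK LD1_c22 LD2_c14 LD3_c22)) = (LP (LK LD1_c13 LD2_c7 LD3_c1)) :=
  Lgr Lrot54 (Lpr_df (f480685 IH) (Lpr_ff (f529117 IH) (Lpe (f488388 IH) (Lpn (LP (LK LD1_c13 LD2_c7 LD3_c1))))))
theorem f529125 : Led Lsl_ff (LP (LK LD1_c22 LD2_c14 LD3_c22)) = (LP (LK LD1_c13 LD2_c7 LD3_c1)) :=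
  Lgr Lrot3 (Lpr_ft (f529119 IH) (Lpn (LP (LK LD1_c13 LD2_c7 LD3_c1))))
theorem f469825 : Led Lsl_bt (LP (LK LD1_c13 LD2_c25 LD3_c57)) = (LP (LK LD1_c7 LD2_c5 LD3_c6)) :=
  Lre_b IH (LK LD1_c13 LD2_c25 LD3_c57) (LK LD1_c7 LD2_c5 LD3_c6) Lrfl Lrfl
theorem f477200 : Led Lsl_ct (LP (LK LD1_c22 LD2_c14 LD3_c22)) = (LP (LK LD1_c13 LD2_c25 LD3_c57)) :=
  Lgr Lrot83 (Lpe (f477199 IH) (Lpr_cf (K29.f477197 IH) (Lpe (K29.f477193 IH) (Lpe (K34.f455751 IH) (Lpe (f469825 IH) (Lpn (LP (LK LD1_c13 LD2_c25 LD3_c57))))))))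
theorem f488433 : Led Lsl_bt (LP (LK LD1_c3 LD2_c26 LD3_c8)) = (LP (LK LD1_c6 LD2_c54 LD3_c10)) :=
  Lre_b IH (LK LD1_c3 LD2_c26 LD3_c8) (LK LD1_c6 LD2_c54 LD3_c10) Lrfl Lrfl
theorem f13416 : Led Lsl_ct (LP (LK LD1_c1 LD2_c49 LD3_c17)) = (LP (LK LD1_c0 LD2_c51 LD3_c23)) :=
  Lre_c IH (LK LD1_c1 LD2_c49 LD3_c17) (LK LD1_c0 LD2_c51 LD3_c23) Lrfl Lrfl
theorem f483854 : Led Lsl_bt (LP (LK LD1_c3 LD2_c44 LD3_c31)) = (LP (LK LD1_c1 LD2_c49 LD3_c17)) :=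
  Lre_b IH (LK LD1_c3 LD2_c44 LD3_c31) (LK LD1_c1 LD2_c49 LD3_c17) Lrfl Lrfl
theorem f488435 : Led Lsl_ct (LP (LK LD1_c6 LD2_c54 LD3_c10)) = (LP (LK LD1_c3 LD2_c44 LD3_c31)) :=
  Lgr Lrot83 (Lpe (f488433 IH) (Lpr_cf (K35.f488431 IH) (Lpe (K34.f459514 IH) (Lpe (f13416 IH) (Lpe (f483854 IH) (Lpn (LP (LK LD1_c3 LD2_c44 LD3_c31))))))))
theorem f488444 : Led Lsl_et (LP (LK LD1_c13 LD2_c7 LD3_c1)) = (LP (LK LD1_c6 LD2_c54 LD3_c10)) :=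
  Lre_e IH (LK LD1_c13 LD2_c7 LD3_c1) (LK LD1_c6 LD2_c54 LD3_c10) Lrfl Lrfl
theorem f488445 : Led Lsl_et (LP (LK LD1_c3 LD2_c44 LD3_c31)) = (LP (LK LD1_c7 LD2_c30 LD3_c6)) :=
  Lre_e IH (LK LD1_c3 LD2_c44 LD3_c31) (LK LD1_c7 LD2_c30 LD3_c6) Lrfl Lrfl
theorem f488446 : Led Lsl_cf (LP (LK LD1_c13 LD2_c7 LD3_c1)) = (LP (LK LD1_c7 LD2_c30 LD3_c6)) :=
  Lgr Lrot39 (Lpr_et (f488444 IH) (Lpr_ct (f488435 IH) (Lpr_et (f488445 IH) (Lpn (LP (LK LD1_c7 LD2_c30 LD3_c6))))))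
theorem f529129 : Led Lsl_ft (LP (LK LD1_c13 LD2_c25 LD3_c57)) = (LP (LK LD1_c7 LD2_c30 LD3_c6)) :=
  Lgr Lrot4 (Lpe (f477200 IH) (Lpr_ff (f529125 IH) (Lpr_cf (f488446 IH) (Lpn (LP (LK LD1_c7 LD2_c30 LD3_c6))))))
theorem f462772 : Led Lsl_bt (LP (LK LD1_c13 LD2_c13 LD3_c4)) = (LP (LK LD1_c22 LD2_c27 LD3_c6)) :=
  Lre_b IH (LK LD1_c13 LD2_c13 LD3_c4) (LK LD1_c22 LD2_c27 LD3_c6) Lrfl Lrfl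
theorem f480245 : Led Lsl_dt (LP (LK LD1_c22 LD2_c27 LD3_c6)) = (LP (LK LD1_c13 LD2_c25 LD3_c57)) :=
  Lgr Lrot79 (Lpe (f462772 IH) (Lpr_df (K33.f480243 IH) (Lpe (f469825 IH) (Lpn (LP (LK LD1_c13 LD2_c25 LD3_c57))))))
theorem f488489 : Led Lsl_dt (LP (LK LD1_c7 LD2_c30 LD3_c6)) = (LP (LK LD1_c14 LD2_c10 LD3_c8)) :=
  Lre_d IH (LK LD1_c7 LD2_c30 LD3_c6) (LK LD1_c14 LD2_c10 LD3_c8) Lrfl Lrfl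
theorem f529135 : Led Lsl_ff (LP (LK LD1_c22 LD2_c27 LD3_c6)) = (LP (LK LD1_c14 LD2_c10 LD3_c8)) :=
  Lgr Lrot19 (Lpr_dt (f480245 IH) (Lpr_ft (f529129 IH) (Lpr_dt (f488489 IH) (Lpn (LP (LK LD1_c14 LD2_c10 LD3_c8))))))
theorem f529139 : Led Lsl_ft (LP (LK LD1_c22 LD2_c27 LD3_c6)) = (LP (LK LD1_c14 LD2_c10 LD3_c8)) :=
  Lgr Lrot48 (Lpr_ff (f529135 IH) (Lpn (LP (LK LD1_c14 LD2_c10 LD3_c8))))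
theorem f483849 : Led Lsl_bt (LP (LK LD1_c14 LD2_c10 LD3_c8)) = (LP (LK LD1_c7 LD2_c30 LD3_c10)) :=
  Lre_b IH (LK LD1_c14 LD2_c10 LD3_c8) (LK LD1_c7 LD2_c30 LD3_c10) Lrfl Lrfl
theorem f529141 : Led Lsl_ff (LP (LK LD1_c13 LD2_c13 LD3_c4)) = (LP (LK LD1_c7 LD2_c30 LD3_c10)) :=
  Lgr Lrot25 (Lpr_bt (f462772 IH) (Lpr_ft (f529139 IH) (Lpr_bt (f483849 IH) (Lpn (LP (LK LD1_c7 LD2_c30 LD3_c10))))))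
theorem f464355 : Led Lsl_dt (LP (LK LD1_c13 LD2_c25 LD3_c11)) = (LP (LK LD1_c7 LD2_c4 LD3_c43)) :=
  Lre_d IH (LK LD1_c13 LD2_c25 LD3_c11) (LK LD1_c7 LD2_c4 LD3_c43) Lrfl Lrfl
theorem f469190 : Led Lsl_df (LP (LK LD1_c13 LD2_c25 LD3_c33)) = (LP (LK LD1_c7 LD2_c51 LD3_c42)) :=
  Lgr Lrot38 (Lpr_dt (K28.f469183 IH) (Lpn (LP (LK LD1_c7 LD2_c51 LD3_c42))))
theorem f459014 : Led Lsl_ct (LP (LK LD1_c7 LD2_c4 LD3_c60)) = (LP (LK LD1_c13 LD2_c25 LD3_c38)) :=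
  Lre_c IH (LK LD1_c7 LD2_c4 LD3_c60) (LK LD1_c13 LD2_c25 LD3_c38) Lrfl Lrfl
theorem f480107 : Led Lsl_gt (LP (LK LD1_c13 LD2_c25 LD3_c38)) = (LP (LK LD1_c14 LD2_c6 LD3_c21)) :=
  Lgr Lrot94 (Lpe (f459014 IH) (Lpr_gt (K33.f458895 IH) (Lpr_dt (K24.f455642 IH) (Lpe (K28.f459010 IH) (Lpr_dt (K28.f455756 IH) (Lpe (K33.f459013 IH) (Lpr_df (f469190 IH) (Lpe (K28.f464632 IH) (Lpr_df (K33.f480103 IH) (Lpn (LP (LK LD1_c14 LD2_c6 LD3_c21))))))))))))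
theorem f480074 : Led Lsl_dt (LP (LK LD1_c7 LD2_c54 LD3_c18)) = (LP (LK LD1_c13 LD2_c25 LD3_c38)) :=
  Lgr Lrot42 (Lpr_df (K33.f480070 IH) (Lpn (LP (LK LD1_c13 LD2_c25 LD3_c38))))
theorem f470089 : Led Lsl_gt (LP (LK LD1_c14 LD2_c2 LD3_c30)) = (LP (LK LD1_c7 LD2_c54 LD3_c18)) :=
  Lgr Lrot9 (Lpe (K33.f469977 IH) (Lpr_gt (K33.f469972 IH) (Lpr_ct (K33.f469504 IH) (Lpr_gt (K33.f470085 IH) (Lpe (K33.f470069 IH) (Lpe (K33.f451758 IH) (Lpe (K32.f451755 IH) (Lpe (K33.f11205 IH) (Lpe (K33.f451886 IH) (Lpn (LP (LK LD1_c7 LD2_c54 LD3_c18))))))))))))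
theorem f480109 : Led Lsl_gf (LP (LK LD1_c13 LD2_c25 LD3_c11)) = (LP (LK LD1_c7 LD2_c25 LD3_c30)) :=
  Lgr Lrot148 (Lpr_dt (f464355 IH) (Lpr_gt (K28.f464353 IH) (Lpr_dt (K28.f132082 IH) (Lpr_ct (K28.f132089 IH) (Lpr_df (K33.f480103 IH) (Lpe (f480107 IH) (Lpe (f480074 IH) (Lpe (f470089 IH) (Lpr_ct (K33.f462387 IH) (Lpn (LP (LK LD1_c7 LD2_c25 LD3_c30))))))))))))
theorem f529143 : Led Lsl_at (LP (LK LD1_c13 LD2_c13 LD3_c4)) = (LP (LK LD1_c13 LD2_c25 LD3_c11)) :=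
  Lgr Lrot26 (Lpr_ff (f529141 IH) (Lpe (K33.f493137 IH) (Lpe (f480109 IH) (Lpn (LP (LK LD1_c13 LD2_c25 LD3_c11))))))
theorem f529148 : Led Lsl_af (LP (LK LD1_c7 LD2_c5 LD3_c6)) = (LP (LK LD1_c7 LD2_c4 LD3_c43)) :=
  Lgr Lrot117 (Lpe (K33.f480243 IH) (Lpr_at (f529143 IH) (Lpr_dt (f464355 IH) (Lpn (LP (LK LD1_c7 LD2_c4 LD3_c43))))))
theorem f529152 : Led Lsl_ft (LP (LK LD1_c7 LD2_c5 LD3_c5)) = (LP (LK LD1_c7 LD2_c4 LD3_c43)) :=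
  Lgr Lrot2 (Lpr_gt (K33.f455755 IH) (Lpr_gt (K33.f480247 IH) (Lpr_af (f529148 IH) (Lpn (LP (LK LD1_c7 LD2_c4 LD3_c43))))))
theorem f529161 : Led Lsl_ff (LP (LK LD1_c7 LD2_c5 LD3_c5)) = (LP (LK LD1_c7 LD2_c4 LD3_c43)) :=
  Lgr Lrot3 (Lpr_ft (f529152 IH) (Lpn (LP (LK LD1_c7 LD2_c4 LD3_c43))))
theorem f458326 : Led Lsl_bt (LP (LK LD1_c7 LD2_c5 LD3_c5)) = (LP (LK LD1_c13 LD2_c25 LD3_c56)) :=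
  Lre_b IH (LK LD1_c7 LD2_c5 LD3_c5) (LK LD1_c13 LD2_c25 LD3_c56) Lrfl Lrfl
theorem f464357 : Led Lsl_bt (LP (LK LD1_c13 LD2_c25 LD3_c10)) = (LP (LK LD1_c7 LD2_c4 LD3_c43)) :=
  Lre_b IH (LK LD1_c13 LD2_c25 LD3_c10) (LK LD1_c7 LD2_c4 LD3_c43) Lrfl Lrfl
theorem f529165 : Led Lsl_ft (LP (LK LD1_c13 LD2_c25 LD3_c56)) = (LP (LK LD1_c13 LD2_c25 LD3_c10)) :=
  Lgr Lrot75 (Lpe (f458326 IH) (Lpr_ff (f529161 IH) (Lpe (f464357 IH) (Lpn (LP (LK LD1_c13 LD2_c25 LD3_c10))))))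
theorem f479672 : Led Lsl_bt (LP (LK LD1_c3 LD2_c39 LD3_c40)) = (LP (LK LD1_c7 LD2_c19 LD3_c30)) :=
  Lre_b IH (LK LD1_c3 LD2_c39 LD3_c40) (LK LD1_c7 LD2_c19 LD3_c30) Lrfl Lrfl
theorem f463640 : Led Lsl_bt (LP (LK LD1_c13 LD2_c25 LD3_c56)) = (LP (LK LD1_c7 LD2_c5 LD3_c5)) :=
  Lre_b IH (LK LD1_c13 LD2_c25 LD3_c56) (LK LD1_c7 LD2_c5 LD3_c5) Lrfl Lrfl
theorem f479748 : Led Lsl_ct (LP (LK LD1_c7 LD2_c19 LD3_c30)) = (LP (LK LD1_c13 LD2_c25 LD3_c56)) :=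
  Lgr Lrot83 (Lpe (f479672 IH) (Lpr_cf (K33.f479667 IH) (Lpe (K33.f479652 IH) (Lpe (K33.f458325 IH) (Lpe (f463640 IH) (Lpn (LP (LK LD1_c13 LD2_c25 LD3_c56))))))))
theorem f479744 : Led Lsl_ft (LP (LK LD1_c13 LD2_c51 LD3_c20)) = (LP (LK LD1_c7 LD2_c19 LD3_c30)) :=
  Lre_f IH (LK LD1_c13 LD2_c51 LD3_c20) (LK LD1_c7 LD2_c19 LD3_c30) Lrfl Lrfl
theorem f529187 : Led Lsl_cf (LP (LK LD1_c13 LD2_c51 LD3_c20)) = (LP (LK LD1_c13 LD2_c25 LD3_c10)) :=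
  Lgr Lrot108 (Lpr_ft (f479744 IH) (Lpr_ct (f479748 IH) (Lpr_ft (f529165 IH) (Lpn (LP (LK LD1_c13 LD2_c25 LD3_c10))))))
theorem f479765 : Led Lsl_bt (LP (LK LD1_c13 LD2_c51 LD3_c20)) = (LP (LK LD1_c7 LD2_c19 LD3_c32)) :=
  Lre_b IH (LK LD1_c13 LD2_c51 LD3_c20) (LK LD1_c7 LD2_c19 LD3_c32) Lrfl Lrfl
theorem f459220 : Led Lsl_bt (LP (LK LD1_c7 LD2_c4 LD3_c43)) = (LP (LK LD1_c13 LD2_c25 LD3_c10)) :=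
  Lre_b IH (LK LD1_c7 LD2_c4 LD3_c43) (LK LD1_c13 LD2_c25 LD3_c10) Lrfl Lrfl
theorem f488255 : Led Lsl_bf (LP (LK LD1_c3 LD2_c31 LD3_c30)) = (LP (LK LD1_c7 LD2_c3 LD3_c43)) :=
  Lgr Lrot93 (Lpe (K34.f480118 IH) (Lpr_bt (K33.f487863 IH) (Lpr_dt (K34.f488253 IH) (Lpn (LP (LK LD1_c7 LD2_c3 LD3_c43))))))
theorem f529193 : Led Lsl_ct (LP (LK LD1_c7 LD2_c19 LD3_c32)) = (LP (LK LD1_c7 LD2_c3 LD3_c43)) :=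
  Lgr Lrot83 (Lpe (f479765 IH) (Lpr_cf (f529187 IH) (Lpe (f459220 IH) (Lpe (K28.f458227 IH) (Lpr_bf (f488255 IH) (Lpn (LP (LK LD1_c7 LD2_c3 LD3_c43))))))))
def v2503 : LQ := Led Lsl_at (LP (LK LD1_c1 LD2_c46 LD3_c51))
theorem f523643 : Led Lsl_at (LP (LK LD1_c1 LD2_c46 LD3_c51)) = v2503 :=
  Lrfl
theorem f520954 : Led Lsl_af (LP (LK LD1_c1 LD2_c45 LD3_c36)) = (LP (LK LD1_c3 LD2_c28 LD3_c6)) :=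
  Lgr Lrot117 (Lpr_dt (K29.f10817 IH) (Lpr_at (K34.f520946 IH) (Lpe (K29.f479551 IH) (Lpn (LP (LK LD1_c3 LD2_c28 LD3_c6))))))
theorem f470751 : Led Lsl_dt (LP (LK LD1_c3 LD2_c37 LD3_c29)) = (LP (LK LD1_c1 LD2_c45 LD3_c36)) :=
  Lre_d IH (LK LD1_c3 LD2_c37 LD3_c29) (LK LD1_c1 LD2_c45 LD3_c36) Lrfl Lrfl
theorem f520945 : Led Lsl_ft (LP (LK LD1_c1 LD2_c45 LD3_c36)) = K33.v2286 :=
  Lgr Lrot54 (Lpe (f470751 IH) (Lpr_ff (K34.f520941 IH) (Lpr_df (K33.f511706 IH) (Lpn K33.v2286))))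
theorem f455398 : Led Lsl_ct (LP (LK LD1_c6 LD2_c58 LD3_c22)) = (LP (LK LD1_c3 LD2_c28 LD3_c4)) :=
  Lre_c IH (LK LD1_c6 LD2_c58 LD3_c22) (LK LD1_c3 LD2_c28 LD3_c4) Lrfl Lrfl
theorem f519870 : Led Lsl_ft (LP (LK LD1_c3 LD2_c28 LD3_c4)) = (LP (LK LD1_c3 LD2_c28 LD3_c6)) :=
  Lgr Lrot4 (Lpe (f455398 IH) (Lpr_ff (K33.f519866 IH) (Lpe (K29.f446453 IH) (Lpn (LP (LK LD1_c3 LD2_c28 LD3_c6))))))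
theorem f520958 : Led Lsl_at K33.v2286 = (LP (LK LD1_c3 LD2_c28 LD3_c4)) :=
  Lgr Lrot66 (Lpe (f520945 IH) (Lpr_af (f520954 IH) (Lpe (f519870 IH) (Lpn (LP (LK LD1_c3 LD2_c28 LD3_c4))))))
theorem f520959 : Led Lsl_af K33.v2286 = (LP (LK LD1_c3 LD2_c28 LD3_c4)) :=
  Lgr Lrot0 (Lpr_at (f520958 IH) (Lpn (LP (LK LD1_c3 LD2_c28 LD3_c4))))
theorem f523645 : Led Lsl_df (LP (LK LD1_c3 LD2_c28 LD3_c4)) = v2503 :=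
  Lgr Lrot18 (Lpe (f520959 IH) (Lpe (K33.f511706 IH) (Lpr_at (f523643 IH) (Lpn v2503))))
theorem f511732 : Led Lsl_bt (LP (LK LD1_c1 LD2_c46 LD3_c51)) = (LP (LK LD1_c3 LD2_c39 LD3_c48)) :=
  Lre_b IH (LK LD1_c1 LD2_c46 LD3_c51) (LK LD1_c3 LD2_c39 LD3_c48) Lrfl Lrfl
theorem f520935 : Led Lsl_ft (LP (LK LD1_c3 LD2_c37 LD3_c29)) = (LP (LK LD1_c1 LD2_c46 LD3_c51)) :=
  Lgr Lrot75 (Lpe (K34.f470752 IH) (Lpr_ff (K34.f520933 IH) (Lpe (f511732 IH) (Lpn (LP (LK LD1_c1 LD2_c46 LD3_c51))))))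
theorem f523648 : Led Lsl_gt (LP (LK LD1_c3 LD2_c24 LD3_c61)) = v2503 :=
  Lgr Lrot46 (Lpr_gf (K32.f489535 IH) (Lpr_ft (f520935 IH) (Lpr_at (f523643 IH) (Lpn v2503))))
theorem f510545 : Led Lsl_ft (LP (LK LD1_c3 LD2_c24 LD3_c61)) = (LP (LK LD1_c3 LD2_c24 LD3_c58)) :=
  Lgr Lrot75 (Lpe (K24.f446488 IH) (Lpr_ff (K32.f510543 IH) (Lpe (K29.f11042 IH) (Lpn (LP (LK LD1_c3 LD2_c24 LD3_c58))))))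
theorem f510775 : Led Lsl_af (LP (LK LD1_c6 LD2_c52 LD3_c23)) = (LP (LK LD1_c7 LD2_c12 LD3_c24)) :=
  Lgr Lrot0 (Lpr_at (K33.f510773 IH) (Lpn (LP (LK LD1_c7 LD2_c12 LD3_c24))))
theorem f511203 : Led Lsl_at (LP (LK LD1_c3 LD2_c24 LD3_c58)) = (LP (LK LD1_c3 LD2_c35 LD3_c53)) :=
  Lgr Lrot107 (Lpe (K33.f11043 IH) (Lpr_af (f510775 IH) (Lpe (K33.f106224 IH) (Lpn (LP (LK LD1_c3 LD2_c35 LD3_c53))))))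
theorem f523649 : Led Lsl_gf (LP (LK LD1_c3 LD2_c35 LD3_c53)) = v2503 :=
  Lgr Lrot76 (Lpe (f511203 IH) (Lpe (f510545 IH) (Lpr_gt (f523648 IH) (Lpn v2503))))
theorem f529208 : Led Lsl_gf (LP (LK LD1_c7 LD2_c19 LD3_c32)) = (LP (LK LD1_c7 LD2_c12 LD3_c24)) :=
  Lgr Lrot104 (Lpr_ct (f529193 IH) (Lpe (K34.f488253 IH) (Lpe (K33.f487852 IH) (Lpe (K34.f487915 IH) (Lpe (K28.f446457 IH) (Lpe (K28.f455396 IH) (Lpr_df (f523645 IH) (Lpe (f523649 IH) (Lpr_ct (K33.f106224 IH) (Lpn (LP (LK LD1_c7 LD2_c12 LD3_c24))))))))))))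
theorem f473565 : Led Lsl_gt (LP (LK LD1_c3 LD2_c39 LD3_c13)) = (LP (LK LD1_c1 LD2_c53 LD3_c7)) :=
  Lgr Lrot164 (Lpe (K4.f5741 IH) (Lpr_ct (K28.f464119 IH) (Lpe (K28.f15900 IH) (Lpe (K28.f15899 IH) (Lpe (K28.f15892 IH) (Lpr_bf (K0.f15765 IH) (Lpr_ct (K0.f15884 IH) (Lpe (K29.f15901 IH) (Lpe (K29.f472219 IH) (Lpr_bt (K29.f473551 IH) (Lpn (LP (LK LD1_c1 LD2_c53 LD3_c7)))))))))))))
theorem f455256 : Led Lsl_at (LP (LK LD1_c6 LD2_c58 LD3_c11)) = (LP (LK LD1_c3 LD2_c28 LD3_c2)) :=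
  Lre_a IH (LK LD1_c6 LD2_c58 LD3_c11) (LK LD1_c3 LD2_c28 LD3_c2) Lrfl Lrfl
theorem f455257 : Led Lsl_ff (LP (LK LD1_c6 LD2_c58 LD3_c11)) = (LP (LK LD1_c6 LD2_c58 LD3_c29)) :=
  Lgr Lrot30 (Lpr_at (f455256 IH) (Lpr_ft (K24.f455253 IH) (Lpr_at (K24.f455252 IH) (Lpn (LP (LK LD1_c6 LD2_c58 LD3_c29))))))
theorem f15756 : Led Lsl_gt (LP (LK LD1_c6 LD2_c58 LD3_c17)) = (LP (LK LD1_c3 LD2_c28 LD3_c2)) :=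
  Lre_g IH (LK LD1_c6 LD2_c58 LD3_c17) (LK LD1_c3 LD2_c28 LD3_c2) Lrfl Lrfl
theorem f455419 : Led Lsl_gf (LP (LK LD1_c6 LD2_c58 LD3_c17)) = (LP (LK LD1_c6 LD2_c58 LD3_c29)) :=
  Lgr Lrot47 (Lpr_gt (f15756 IH) (Lpe (f455256 IH) (Lpr_ff (f455257 IH) (Lpn (LP (LK LD1_c6 LD2_c58 LD3_c29))))))
theorem f529206 : Led Lsl_df (LP (LK LD1_c7 LD2_c19 LD3_c32)) = (LP (LK LD1_c6 LD2_c58 LD3_c17)) :=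
  Lgr Lrot174 (Lpr_ct (f529193 IH) (Lpe (K34.f488253 IH) (Lpe (K34.f487921 IH) (Lpe (K29.f473563 IH) (Lpe (f473565 IH) (Lpe (K28.f464131 IH) (Lpr_gt (K28.f455309 IH) (Lpr_dt (K33.f446473 IH) (Lpe (f455419 IH) (Lpn (LP (LK LD1_c6 LD2_c58 LD3_c17))))))))))))
theorem f529214 : Led Lsl_et (LP (LK LD1_c6 LD2_c58 LD3_c17)) = (LP (LK LD1_c13 LD2_c14 LD3_c11)) :=
  Lre_e IH (LK LD1_c6 LD2_c58 LD3_c17) (LK LD1_c13 LD2_c14 LD3_c11) Lrfl Lrfl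
theorem f529215 : Led Lsl_gt (LP (LK LD1_c13 LD2_c14 LD3_c11)) = (LP (LK LD1_c22 LD2_c28 LD3_c56)) :=
  Lre_g IH (LK LD1_c13 LD2_c14 LD3_c11) (LK LD1_c22 LD2_c28 LD3_c56) Lrfl Lrfl
theorem f529216 : Led Lsl_ef (LP (LK LD1_c22 LD2_c28 LD3_c56)) = (LP (LK LD1_c13 LD2_c41 LD3_c42)) :=
  Lgr Lrot17 (Lpe (f529215 IH) (Lpe (f529214 IH) (Lpe (f529206 IH) (Lpr_gf (f529208 IH) (Lpe (K33.f464218 IH) (Lpe (K33.f464217 IH) (Lpe (K8.f160339 IH) (Lpr_dt (K8.f93090 IH) (Lpe (f10686 IH) (Lpe (f93100 IH) (Lpn (LP (LK LD1_c13 LD2_c41 LD3_c42)))))))))))))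
theorem f529218 : Led Lsl_et (LP (LK LD1_c22 LD2_c28 LD3_c56)) = (LP (LK LD1_c13 LD2_c41 LD3_c42)) :=
  Lgr Lrot87 (Lpr_ef (f529216 IH) (Lpn (LP (LK LD1_c13 LD2_c41 LD3_c42))))
theorem f571041 : Led Lsl_at (LP (LK LD1_c22 LD2_c29 LD3_c26)) = (LP (LK LD1_c22 LD2_c28 LD3_c56)) :=
  Lgr Lrot80 (Lpe (f480670 IH) (Lpr_af (f571039 IH) (Lpe (f529218 IH) (Lpn (LP (LK LD1_c22 LD2_c28 LD3_c56))))))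
theorem f312924 : Led Lsl_et (LP (LK LD1_c19 LD2_c10 LD3_c38)) = (LP (LK LD1_c28 LD2_c36 LD3_c43)) :=
  Lre_e IH (LK LD1_c19 LD2_c10 LD3_c38) (LK LD1_c28 LD2_c36 LD3_c43) Lrfl Lrfl
theorem f480673 : Led Lsl_ef (LP (LK LD1_c13 LD2_c30 LD3_c59)) = (LP (LK LD1_c22 LD2_c29 LD3_c26)) :=
  Lgr Lrot88 (Lpr_et (f480670 IH) (Lpn (LP (LK LD1_c22 LD2_c29 LD3_c26))))
theorem f565004 : Led Lsl_ct (LP (LK LD1_c28 LD2_c36 LD3_c43)) = (LP (LK LD1_c22 LD2_c29 LD3_c26)) :=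
  Lgr Lrot15 (Lpe (f312924 IH) (Lpr_cf (K41.f565000 IH) (Lpr_ef (f480673 IH) (Lpn (LP (LK LD1_c22 LD2_c29 LD3_c26))))))
theorem f403309 : Led Lsl_at (LP (LK LD1_c19 LD2_c10 LD3_c40)) = (LP (LK LD1_c28 LD2_c36 LD3_c43)) :=
  Lre_a IH (LK LD1_c19 LD2_c10 LD3_c40) (LK LD1_c28 LD2_c36 LD3_c43) Lrfl Lrfl
theorem f571045 : Led Lsl_cf (LP (LK LD1_c19 LD2_c10 LD3_c40)) = (LP (LK LD1_c22 LD2_c28 LD3_c56)) :=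
  Lgr Lrot1 (Lpr_at (f403309 IH) (Lpr_ct (f565004 IH) (Lpr_at (f571041 IH) (Lpn (LP (LK LD1_c22 LD2_c28 LD3_c56))))))
theorem f571059 : Led Lsl_ct (LP (LK LD1_c19 LD2_c10 LD3_c40)) = (LP (LK LD1_c22 LD2_c28 LD3_c56)) :=
  Lgr Lrot59 (Lpr_cf (f571045 IH) (Lpn (LP (LK LD1_c22 LD2_c28 LD3_c56))))
theorem f224730 : Led Lsl_bt (LP (LK LD1_c10 LD2_c35 LD3_c8)) = (LP (LK LD1_c19 LD2_c10 LD3_c40)) :=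
  Lre_b IH (LK LD1_c10 LD2_c35 LD3_c8) (LK LD1_c19 LD2_c10 LD3_c40) Lrfl Lrfl
theorem f224721 : Led Lsl_et (LP (LK LD1_c5 LD2_c20 LD3_c38)) = (LP (LK LD1_c10 LD2_c31 LD3_c19)) :=
  Lre_e IH (LK LD1_c5 LD2_c20 LD3_c38) (LK LD1_c10 LD2_c31 LD3_c19) Lrfl Lrfl
theorem f224714 : Led Lsl_et (LP (LK LD1_c10 LD2_c35 LD3_c8)) = (LP (LK LD1_c5 LD2_c22 LD3_c20)) :=
  Lre_e IH (LK LD1_c10 LD2_c35 LD3_c8) (LK LD1_c5 LD2_c22 LD3_c20) Lrfl Lrfl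
theorem f224722 : Led Lsl_ct (LP (LK LD1_c10 LD2_c31 LD3_c19)) = (LP (LK LD1_c10 LD2_c35 LD3_c8)) :=
  Lgr Lrot15 (Lpe (f224721 IH) (Lpr_cf (K12.f224706 IH) (Lpe (f224714 IH) (Lpn (LP (LK LD1_c10 LD2_c35 LD3_c8))))))
theorem f224729 : Led Lsl_bt (LP (LK LD1_c19 LD2_c4 LD3_c6)) = (LP (LK LD1_c10 LD2_c31 LD3_c19)) :=
  Lre_b IH (LK LD1_c19 LD2_c4 LD3_c6) (LK LD1_c10 LD2_c31 LD3_c19) Lrfl Lrfl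
theorem f400107 : Led Lsl_et (LP (LK LD1_c19 LD2_c4 LD3_c6)) = (LP (LK LD1_c10 LD2_c31 LD3_c17)) :=
  Lre_e IH (LK LD1_c19 LD2_c4 LD3_c6) (LK LD1_c10 LD2_c31 LD3_c17) Lrfl Lrfl
theorem f565012 : Led Lsl_et (LP (LK LD1_c13 LD2_c30 LD3_c38)) = (LP (LK LD1_c22 LD2_c51 LD3_c28)) :=
  Lre_e IH (LK LD1_c13 LD2_c30 LD3_c38) (LK LD1_c22 LD2_c51 LD3_c28) Lrfl Lrfl
theorem f565013 : Led Lsl_cf (LP (LK LD1_c19 LD2_c4 LD3_c6)) = (LP (LK LD1_c22 LD2_c51 LD3_c28)) :=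
  Lgr Lrot39 (Lpr_et (f400107 IH) (Lpr_ct (K41.f565006 IH) (Lpr_et (f565012 IH) (Lpn (LP (LK LD1_c22 LD2_c51 LD3_c28))))))
theorem f571063 : Led Lsl_bf (LP (LK LD1_c22 LD2_c51 LD3_c28)) = (LP (LK LD1_c22 LD2_c28 LD3_c56)) :=
  Lgr Lrot90 (Lpe (f565013 IH) (Lpr_bt (f224729 IH) (Lpr_ct (f224722 IH) (Lpr_bt (f224730 IH) (Lpr_ct (f571059 IH) (Lpn (LP (LK LD1_c22 LD2_c28 LD3_c56))))))))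
theorem f571065 : Led Lsl_bt (LP (LK LD1_c22 LD2_c51 LD3_c28)) = (LP (LK LD1_c22 LD2_c28 LD3_c56)) :=
  Lgr Lrot127 (Lpr_bf (f571063 IH) (Lpn (LP (LK LD1_c22 LD2_c28 LD3_c56))))
theorem f571069 : Led Lsl_bf (LP (LK LD1_c13 LD2_c30 LD3_c38)) = (LP (LK LD1_c13 LD2_c41 LD3_c42)) :=
  Lgr Lrot96 (Lpr_et (f565012 IH) (Lpr_bt (f571065 IH) (Lpr_et (f529218 IH) (Lpn (LP (LK LD1_c13 LD2_c41 LD3_c42))))))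
theorem f400045 : Led Lsl_ct (LP (LK LD1_c8 LD2_c44 LD3_c7)) = (LP (LK LD1_c16 LD2_c21 LD3_c25)) :=
  Lre_c IH (LK LD1_c8 LD2_c44 LD3_c7) (LK LD1_c16 LD2_c21 LD3_c25) Lrfl Lrfl
theorem f565008 : Led Lsl_af (LP (LK LD1_c8 LD2_c44 LD3_c7)) = (LP (LK LD1_c13 LD2_c30 LD3_c38)) :=
  Lgr Lrot68 (Lpr_ct (f400045 IH) (Lpe (K41.f400077 IH) (Lpr_ct (K41.f565006 IH) (Lpn (LP (LK LD1_c13 LD2_c30 LD3_c38))))))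
theorem f400056 : Led Lsl_bt (LP (LK LD1_c8 LD2_c44 LD3_c7)) = (LP (LK LD1_c16 LD2_c21 LD3_c24)) :=
  Lre_b IH (LK LD1_c8 LD2_c44 LD3_c7) (LK LD1_c16 LD2_c21 LD3_c24) Lrfl Lrfl
theorem f570003 : Led Lsl_at (LP (LK LD1_c13 LD2_c30 LD3_c59)) = (LP (LK LD1_c13 LD2_c41 LD3_c42)) :=
  Lgr Lrot51 (Lpe (K41.f160324 IH) (Lpr_af (f569997 IH) (Lpe (f93100 IH) (Lpn (LP (LK LD1_c13 LD2_c41 LD3_c42))))))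
theorem f480672 : Led Lsl_bt (LP (LK LD1_c22 LD2_c51 LD3_c58)) = (LP (LK LD1_c13 LD2_c30 LD3_c59)) :=
  Lre_b IH (LK LD1_c22 LD2_c51 LD3_c58) (LK LD1_c13 LD2_c30 LD3_c59) Lrfl Lrfl
theorem f571071 : Led Lsl_at (LP (LK LD1_c16 LD2_c21 LD3_c24)) = (LP (LK LD1_c22 LD2_c51 LD3_c58)) :=
  Lgr Lrot67 (Lpe (f400056 IH) (Lpr_af (f565008 IH) (Lpr_bf (f571069 IH) (Lpe (f570003 IH) (Lpe (f480672 IH) (Lpn (LP (LK LD1_c22 LD2_c51 LD3_c58))))))))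
theorem f571073 : Led Lsl_af (LP (LK LD1_c16 LD2_c21 LD3_c24)) = (LP (LK LD1_c22 LD2_c51 LD3_c58)) :=
  Lgr Lrot0 (Lpr_at (f571071 IH) (Lpn (LP (LK LD1_c22 LD2_c51 LD3_c58))))
theorem f400061 : Led Lsl_dt (LP (LK LD1_c16 LD2_c21 LD3_c24)) = (LP (LK LD1_c8 LD2_c44 LD3_c6)) :=
  Lre_d IH (LK LD1_c16 LD2_c21 LD3_c24) (LK LD1_c8 LD2_c44 LD3_c6) Lrfl Lrfl
theorem f564999 : Led Lsl_dt (LP (LK LD1_c13 LD2_c30 LD3_c58)) = (LP (LK LD1_c22 LD2_c51 LD3_c58)) :=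
  Lre_d IH (LK LD1_c13 LD2_c30 LD3_c58) (LK LD1_c22 LD2_c51 LD3_c58) Lrfl Lrfl
theorem f571077 : Led Lsl_at (LP (LK LD1_c8 LD2_c44 LD3_c6)) = (LP (LK LD1_c13 LD2_c30 LD3_c58)) :=
  Lgr Lrot51 (Lpe (f400061 IH) (Lpr_af (f571073 IH) (Lpe (f564999 IH) (Lpn (LP (LK LD1_c13 LD2_c30 LD3_c58))))))
theorem f565038 : Led Lsl_ef (LP (LK LD1_c8 LD2_c48 LD3_c27)) = (LP (LK LD1_c13 LD2_c30 LD3_c58)) :=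
  Lgr Lrot29 (Lpr_bt (K39.f38503 IH) (Lpr_et (K41.f565036 IH) (Lpr_bt (K41.f564993 IH) (Lpn (LP (LK LD1_c13 LD2_c30 LD3_c58))))))
theorem f571079 : Led Lsl_ef (LP (LK LD1_c8 LD2_c44 LD3_c6)) = (LP (LK LD1_c15 LD2_c7 LD3_c59)) :=
  Lgr Lrot20 (Lpr_at (f571077 IH) (Lpe (f565038 IH) (Lpr_at (f570600 IH) (Lpn (LP (LK LD1_c15 LD2_c7 LD3_c59))))))
theorem f571081 : Led Lsl_ct (LP (LK LD1_c8 LD2_c44 LD3_c6)) = (LP (LK LD1_c13 LD2_c30 LD3_c58)) :=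
  Lgr Lrot15 (Lpr_ef (f571079 IH) (Lpe (K39.f556683 IH) (Lpr_ef (f565038 IH) (Lpn (LP (LK LD1_c13 LD2_c30 LD3_c58))))))
theorem f29635 : Led Lsl_bt (LP (LK LD1_c8 LD2_c44 LD3_c6)) = (LP (LK LD1_c4 LD2_c23 LD3_c13)) :=
  Lre_b IH (LK LD1_c8 LD2_c44 LD3_c6) (LK LD1_c4 LD2_c23 LD3_c13) Lrfl Lrfl
theorem f29524 : Led Lsl_ct (LP (LK LD1_c4 LD2_c0 LD3_c26)) = (LP (LK LD1_c8 LD2_c1 LD3_c49)) :=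
  Lre_c IH (LK LD1_c4 LD2_c0 LD3_c26) (LK LD1_c8 LD2_c1 LD3_c49) Lrfl Lrfl
theorem f559087 : Led Lsl_bt (LP (LK LD1_c4 LD2_c0 LD3_c26)) = (LP (LK LD1_c8 LD2_c1 LD3_c48)) :=
  Lre_b IH (LK LD1_c4 LD2_c0 LD3_c26) (LK LD1_c8 LD2_c1 LD3_c48) Lrfl Lrfl
theorem f571101 : Led Lsl_gf (LP (LK LD1_c4 LD2_c32 LD3_c22)) = (LP (LK LD1_c8 LD2_c1 LD3_c48)) :=
  Lgr Lrot181 (Lpr_ct (K37.f181299 IH) (Lpe (K30.f269080 IH) (Lpe (K16.f269058 IH) (Lpr_bt (f181688 IH) (Lpr_gt (f550009 IH) (Lpe (f29635 IH) (Lpr_ct (f571081 IH) (Lpe (K41.f564994 IH) (Lpe (f29524 IH) (Lpr_bt (f559087 IH) (Lpn (LP (LK LD1_c8 LD2_c1 LD3_c48)))))))))))))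
theorem f450467 : Led Lsl_ct (LP (LK LD1_c6 LD2_c16 LD3_c60)) = (LP (LK LD1_c3 LD2_c5 LD3_c38)) :=
  Lre_c IH (LK LD1_c6 LD2_c16 LD3_c60) (LK LD1_c3 LD2_c5 LD3_c38) Lrfl Lrfl
theorem f565233 : Led Lsl_et (LP (LK LD1_c4 LD2_c42 LD3_c46)) = (LP (LK LD1_c6 LD2_c16 LD3_c60)) :=
  Lgr Lrot158 (Lpe (K4.f60941 IH) (Lpr_ef (K41.f565231 IH) (Lpe (f450467 IH) (Lpn (LP (LK LD1_c6 LD2_c16 LD3_c60))))))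
theorem f571110 : Led Lsl_et (LP (LK LD1_c7 LD2_c33 LD3_c46)) = (LP (LK LD1_c8 LD2_c1 LD3_c48)) :=
  Lgr Lrot185 (Lpe (K40.f502721 IH) (Lpe (K36.f87162 IH) (Lpe (K40.f87932 IH) (Lpe (K40.f559094 IH) (Lpe (f565233 IH) (Lpe (K39.f205760 IH) (Lpe (K8.f149289 IH) (Lpe (K7.f149021 IH) (Lpr_et (K39.f551573 IH) (Lpr_gf (f571101 IH) (Lpn (LP (LK LD1_c8 LD2_c1 LD3_c48)))))))))))))
theorem f559774 : Led Lsl_et (LP (LK LD1_c6 LD2_c15 LD3_c26)) = (LP (LK LD1_c12 LD2_c8 LD3_c53)) :=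
  Lre_e IH (LK LD1_c6 LD2_c15 LD3_c26) (LK LD1_c12 LD2_c8 LD3_c53) Lrfl Lrfl
theorem f571114 : Led Lsl_gf (LP (LK LD1_c12 LD2_c8 LD3_c52)) = (LP (LK LD1_c9 LD2_c2 LD3_c23)) :=
  Lgr Lrot134 (Lpe (K40.f60805 IH) (Lpr_et (f559774 IH) (Lpr_gt (f569095 IH) (Lpe (K37.f120282 IH) (Lpr_dt (K40.f87932 IH) (Lpr_gt (K36.f87162 IH) (Lpr_df (K40.f502721 IH) (Lpr_et (f571110 IH) (Lpe (f571101 IH) (Lpr_dt (K30.f181306 IH) (Lpn (LP (LK LD1_c9 LD2_c2 LD3_c23)))))))))))))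
theorem f172511 : Led Lsl_ct (LP (LK LD1_c11 LD2_c13 LD3_c23)) = (LP (LK LD1_c5 LD2_c41 LD3_c36)) :=
  Lre_c IH (LK LD1_c11 LD2_c13 LD3_c23) (LK LD1_c5 LD2_c41 LD3_c36) Lrfl Lrfl
theorem f172519 : Led Lsl_gt (LP (LK LD1_c20 LD2_c7 LD3_c60)) = (LP (LK LD1_c11 LD2_c13 LD3_c23)) :=
  Lre_g IH (LK LD1_c20 LD2_c7 LD3_c60) (LK LD1_c11 LD2_c13 LD3_c23) Lrfl Lrfl
theorem f571118 : Led Lsl_ct (LP (LK LD1_c12 LD2_c8 LD3_c52)) = (LP (LK LD1_c20 LD2_c7 LD3_c60)) :=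
  Lgr Lrot152 (Lpr_gf (f571114 IH) (Lpe (K30.f181306 IH) (Lpe (K39.f423602 IH) (Lpr_ct (K39.f542197 IH) (Lpe (K37.f542228 IH) (Lpr_ct (K39.f172441 IH) (Lpe (K38.f172536 IH) (Lpe (f172511 IH) (Lpe (f172519 IH) (Lpn (LP (LK LD1_c20 LD2_c7 LD3_c60))))))))))))
theorem f571120 : Led Lsl_cf (LP (LK LD1_c12 LD2_c8 LD3_c52)) = (LP (LK LD1_c20 LD2_c7 LD3_c60)) :=
  Lgr Lrot11 (Lpr_ct (f571118 IH) (Lpn (LP (LK LD1_c20 LD2_c7 LD3_c60))))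
theorem f60803 : Led Lsl_dt (LP (LK LD1_c12 LD2_c8 LD3_c52)) = (LP (LK LD1_c6 LD2_c15 LD3_c26)) :=
  Lre_d IH (LK LD1_c12 LD2_c8 LD3_c52) (LK LD1_c6 LD2_c15 LD3_c26) Lrfl Lrfl
theorem f60802 : Led Lsl_ct (LP (LK LD1_c3 LD2_c4 LD3_c47)) = (LP (LK LD1_c6 LD2_c15 LD3_c26)) :=
  Lre_c IH (LK LD1_c3 LD2_c4 LD3_c47) (LK LD1_c6 LD2_c15 LD3_c26) Lrfl Lrfl
theorem f281799 : Led Lsl_ct (LP (LK LD1_c5 LD2_c41 LD3_c39)) = (LP (LK LD1_c11 LD2_c13 LD3_c27)) :=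
  Lre_c IH (LK LD1_c5 LD2_c41 LD3_c39) (LK LD1_c11 LD2_c13 LD3_c27) Lrfl Lrfl
theorem f571122 : Led Lsl_gt (LP (LK LD1_c11 LD2_c13 LD3_c27)) = (LP (LK LD1_c20 LD2_c7 LD3_c60)) :=
  Lgr Lrot150 (Lpe (f281799 IH) (Lpe (K31.f411741 IH) (Lpr_df (K39.f547803 IH) (Lpr_gt (K35.f60466 IH) (Lpr_ct (K2.f60470 IH) (Lpr_gt (K40.f60729 IH) (Lpr_ct (f60802 IH) (Lpe (f60803 IH) (Lpr_cf (f571120 IH) (Lpn (LP (LK LD1_c20 LD2_c7 LD3_c60))))))))))))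
theorem f552112 : Led Lsl_bt (LP (LK LD1_c5 LD2_c41 LD3_c39)) = (LP (LK LD1_c11 LD2_c13 LD3_c26)) :=
  Lre_b IH (LK LD1_c5 LD2_c41 LD3_c39) (LK LD1_c11 LD2_c13 LD3_c26) Lrfl Lrfl
theorem f412359 : Led Lsl_ct (LP (LK LD1_c11 LD2_c23 LD3_c54)) = (LP (LK LD1_c20 LD2_c21 LD3_c48)) :=
  Lre_c IH (LK LD1_c11 LD2_c23 LD3_c54) (LK LD1_c20 LD2_c21 LD3_c48) Lrfl Lrfl
theorem f561607 : Led Lsl_gt (LP (LK LD1_c6 LD2_c15 LD3_c26)) = (LP (LK LD1_c7 LD2_c59 LD3_c7)) :=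
  Lgr Lrot187 (Lpe (f60802 IH) (Lpe (K40.f60729 IH) (Lpr_dt (K2.f60790 IH) (Lpr_gt (K36.f541703 IH) (Lpr_ct (K39.f181523 IH) (Lpr_gt (K31.f392343 IH) (Lpr_ct (K31.f174343 IH) (Lpr_dt (K40.f561594 IH) (Lpe (K38.f193576 IH) (Lpn (LP (LK LD1_c7 LD2_c59 LD3_c7))))))))))))
theorem f561610 : Led Lsl_bf (LP (LK LD1_c6 LD2_c15 LD3_c26)) = (LP (LK LD1_c5 LD2_c37 LD3_c36)) :=
  Lgr Lrot165 (Lpr_gt (f561607 IH) (Lpr_ct (K38.f193576 IH) (Lpr_gt (K38.f175988 IH) (Lpe (K30.f175984 IH) (Lpr_bt (K30.f175986 IH) (Lpe (K14.f255107 IH) (Lpe (K36.f319442 IH) (Lpr_ct (K39.f172332 IH) (Lpr_gt (K38.f319450 IH) (Lpe (K39.f387058 IH) (Lpn (LP (LK LD1_c5 LD2_c37 LD3_c36)))))))))))))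
theorem f561612 : Led Lsl_bt (LP (LK LD1_c12 LD2_c8 LD3_c52)) = (LP (LK LD1_c11 LD2_c6 LD3_c44)) :=
  Lgr Lrot95 (Lpe (K40.f60805 IH) (Lpr_bf (f561610 IH) (Lpe (K39.f402574 IH) (Lpn (LP (LK LD1_c11 LD2_c6 LD3_c44))))))
theorem f244542 : Led Lsl_ct (LP (LK LD1_c10 LD2_c46 LD3_c57)) = (LP (LK LD1_c19 LD2_c30 LD3_c15)) :=
  Lre_c IH (LK LD1_c10 LD2_c46 LD3_c57) (LK LD1_c19 LD2_c30 LD3_c15) Lrfl Lrfl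
theorem f244762 : Led Lsl_gt (LP (LK LD1_c19 LD2_c30 LD3_c15)) = (LP (LK LD1_c28 LD2_c52 LD3_c51)) :=
  Lre_g IH (LK LD1_c19 LD2_c30 LD3_c15) (LK LD1_c28 LD2_c52 LD3_c51) Lrfl Lrfl
theorem f224663 : Led Lsl_bt (LP (LK LD1_c2 LD2_c39 LD3_c14)) = (LP (LK LD1_c5 LD2_c25 LD3_c27)) :=
  Lre_b IH (LK LD1_c2 LD2_c39 LD3_c14) (LK LD1_c5 LD2_c25 LD3_c27) Lrfl Lrfl
theorem f224664 : Led Lsl_gt (LP (LK LD1_c5 LD2_c25 LD3_c27)) = (LP (LK LD1_c10 LD2_c41 LD3_c44)) :=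
  Lre_g IH (LK LD1_c5 LD2_c25 LD3_c27) (LK LD1_c10 LD2_c41 LD3_c44) Lrfl Lrfl
theorem f224665 : Led Lsl_bt (LP (LK LD1_c19 LD2_c21 LD3_c31)) = (LP (LK LD1_c10 LD2_c41 LD3_c44)) :=
  Lre_b IH (LK LD1_c19 LD2_c21 LD3_c31) (LK LD1_c10 LD2_c41 LD3_c44) Lrfl Lrfl
theorem f224666 : Led Lsl_ct (LP (LK LD1_c19 LD2_c21 LD3_c31)) = (LP (LK LD1_c28 LD2_c45 LD3_c57)) :=
  Lre_c IH (LK LD1_c19 LD2_c21 LD3_c31) (LK LD1_c28 LD2_c45 LD3_c57) Lrfl Lrfl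
theorem f224667 : Led Lsl_gf (LP (LK LD1_c25 LD2_c46 LD3_c6)) = (LP (LK LD1_c28 LD2_c45 LD3_c57)) :=
  Lgr Lrot126 (Lpe (K10.f52715 IH) (Lpr_bt (K12.f52785 IH) (Lpe (K12.f223752 IH) (Lpr_ct (K12.f224646 IH) (Lpr_gt (K12.f173118 IH) (Lpe (K12.f168017 IH) (Lpr_bt (f224663 IH) (Lpr_gt (f224664 IH) (Lpe (f224665 IH) (Lpr_ct (f224666 IH) (Lpn (LP (LK LD1_c28 LD2_c45 LD3_c57)))))))))))))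
theorem f392989 : Led Lsl_dt (LP (LK LD1_c28 LD2_c52 LD3_c51)) = (LP (LK LD1_c28 LD2_c45 LD3_c57)) :=
  Lgr Lrot57 (Lpe (f244762 IH) (Lpe (f244542 IH) (Lpr_gt (K31.f244713 IH) (Lpr_dt (K31.f392950 IH) (Lpe (K31.f389793 IH) (Lpr_dt (K10.f52771 IH) (Lpe (K10.f52791 IH) (Lpe (K10.f52779 IH) (Lpr_gf (f224667 IH) (Lpn (LP (LK LD1_c28 LD2_c45 LD3_c57))))))))))))
theorem f224671 : Led Lsl_ct (LP (LK LD1_c28 LD2_c45 LD3_c57)) = (LP (LK LD1_c19 LD2_c21 LD3_c31)) :=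
  Lre_c IH (LK LD1_c28 LD2_c45 LD3_c57) (LK LD1_c19 LD2_c21 LD3_c31) Lrfl Lrfl
theorem f173451 : Led Lsl_gt (LP (LK LD1_c4 LD2_c33 LD3_c36)) = (LP (LK LD1_c2 LD2_c43 LD3_c8)) :=
  Lre_g IH (LK LD1_c4 LD2_c33 LD3_c36) (LK LD1_c2 LD2_c43 LD3_c8) Lrfl Lrfl
theorem f173460 : Led Lsl_dt (LP (LK LD1_c2 LD2_c43 LD3_c8)) = (LP (LK LD1_c1 LD2_c18 LD3_c0)) :=
  Lre_d IH (LK LD1_c2 LD2_c43 LD3_c8) (LK LD1_c1 LD2_c18 LD3_c0) Lrfl Lrfl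
theorem f173461 : Led Lsl_ct (LP (LK LD1_c1 LD2_c18 LD3_c0)) = (LP (LK LD1_c2 LD2_c39 LD3_c7)) :=
  Lre_c IH (LK LD1_c1 LD2_c18 LD3_c0) (LK LD1_c2 LD2_c39 LD3_c7) Lrfl Lrfl
theorem f332338 : Led Lsl_dt (LP (LK LD1_c5 LD2_c25 LD3_c22)) = (LP (LK LD1_c2 LD2_c39 LD3_c7)) :=
  Lre_d IH (LK LD1_c5 LD2_c25 LD3_c22) (LK LD1_c2 LD2_c39 LD3_c7) Lrfl Lrfl
theorem f332344 : Led Lsl_gt (LP (LK LD1_c10 LD2_c41 LD3_c44)) = (LP (LK LD1_c5 LD2_c25 LD3_c22)) :=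
  Lre_g IH (LK LD1_c10 LD2_c41 LD3_c44) (LK LD1_c5 LD2_c25 LD3_c22) Lrfl Lrfl
theorem f391743 : Led Lsl_df (LP (LK LD1_c10 LD2_c41 LD3_c44)) = (LP (LK LD1_c15 LD2_c44 LD3_c7)) :=
  Lgr Lrot153 (Lpr_gt (f332344 IH) (Lpr_dt (f332338 IH) (Lpe (f173461 IH) (Lpe (f173460 IH) (Lpe (f173451 IH) (Lpr_df (K31.f391705 IH) (Lpe (K30.f183316 IH) (Lpe (K21.f225400 IH) (Lpr_gt (K30.f187030 IH) (Lpn (LP (LK LD1_c15 LD2_c44 LD3_c7))))))))))))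
theorem f391750 : Led Lsl_bt (LP (LK LD1_c10 LD2_c41 LD3_c44)) = (LP (LK LD1_c19 LD2_c21 LD3_c31)) :=
  Lre_b IH (LK LD1_c10 LD2_c41 LD3_c44) (LK LD1_c19 LD2_c21 LD3_c31) Lrfl Lrfl
theorem f391751 : Led Lsl_dt (LP (LK LD1_c19 LD2_c21 LD3_c31)) = (LP (LK LD1_c25 LD2_c14 LD3_c3)) :=
  Lgr Lrot79 (Lpe (f391750 IH) (Lpr_df (f391743 IH) (Lpe (K30.f256966 IH) (Lpn (LP (LK LD1_c25 LD2_c14 LD3_c3))))))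
theorem f388885 : Led Lsl_dt (LP (LK LD1_c15 LD2_c54 LD3_c24)) = (LP (LK LD1_c25 LD2_c50 LD3_c23)) :=
  Lre_d IH (LK LD1_c15 LD2_c54 LD3_c24) (LK LD1_c25 LD2_c50 LD3_c23) Lrfl Lrfl
theorem f393007 : Led Lsl_cf (LP (LK LD1_c28 LD2_c52 LD3_c51)) = (LP (LK LD1_c25 LD2_c50 LD3_c23)) :=
  Lgr Lrot118 (Lpr_dt (f392989 IH) (Lpr_ct (f224671 IH) (Lpr_dt (f391751 IH) (Lpr_ct (K30.f244545 IH) (Lpe (K30.f388906 IH) (Lpr_ct (K31.f388910 IH) (Lpe (K31.f388913 IH) (Lpe (K30.f388914 IH) (Lpr_dt (f388885 IH) (Lpn (LP (LK LD1_c25 LD2_c50 LD3_c23))))))))))))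
theorem f388569 : Led Lsl_at (LP (LK LD1_c15 LD2_c54 LD3_c36)) = (LP (LK LD1_c25 LD2_c50 LD3_c23)) :=
  Lre_a IH (LK LD1_c15 LD2_c54 LD3_c36) (LK LD1_c25 LD2_c50 LD3_c23) Lrfl Lrfl
theorem f393009 : Led Lsl_at (LP (LK LD1_c28 LD2_c52 LD3_c51)) = (LP (LK LD1_c25 LD2_c50 LD3_c42)) :=
  Lgr Lrot107 (Lpr_cf (f393007 IH) (Lpe (f388569 IH) (Lpe (K31.f220902 IH) (Lpn (LP (LK LD1_c25 LD2_c50 LD3_c42))))))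
theorem f393003 : Led Lsl_df (LP (LK LD1_c28 LD2_c52 LD3_c51)) = (LP (LK LD1_c28 LD2_c45 LD3_c57)) :=
  Lgr Lrot38 (Lpr_dt (f392989 IH) (Lpn (LP (LK LD1_c28 LD2_c45 LD3_c57))))
theorem f398577 : Led Lsl_at (LP (LK LD1_c26 LD2_c17 LD3_c22)) = (LP (LK LD1_c28 LD2_c45 LD3_c57)) :=
  Lgr Lrot51 (Lpr_df (K31.f398491 IH) (Lpe (f393009 IH) (Lpr_df (f393003 IH) (Lpn (LP (LK LD1_c28 LD2_c45 LD3_c57))))))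
theorem f332333 : Led Lsl_ct (LP (LK LD1_c5 LD2_c25 LD3_c22)) = (LP (LK LD1_c10 LD2_c41 LD3_c45)) :=
  Lre_c IH (LK LD1_c5 LD2_c25 LD3_c22) (LK LD1_c10 LD2_c41 LD3_c45) Lrfl Lrfl
theorem f391758 : Led Lsl_gt (LP (LK LD1_c10 LD2_c41 LD3_c45)) = (LP (LK LD1_c19 LD2_c21 LD3_c34)) :=
  Lre_g IH (LK LD1_c10 LD2_c41 LD3_c45) (LK LD1_c19 LD2_c21 LD3_c34) Lrfl Lrfl
theorem f225423 : Led Lsl_ct (LP (LK LD1_c8 LD2_c21 LD3_c53)) = (LP (LK LD1_c15 LD2_c44 LD3_c25)) :=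
  Lre_c IH (LK LD1_c8 LD2_c21 LD3_c53) (LK LD1_c15 LD2_c44 LD3_c25) Lrfl Lrfl
theorem f226964 : Led Lsl_dt (LP (LK LD1_c25 LD2_c40 LD3_c47)) = (LP (LK LD1_c15 LD2_c44 LD3_c25)) :=
  Lre_d IH (LK LD1_c25 LD2_c40 LD3_c47) (LK LD1_c15 LD2_c44 LD3_c25) Lrfl Lrfl
theorem f391759 : Led Lsl_ct (LP (LK LD1_c19 LD2_c21 LD3_c34)) = (LP (LK LD1_c25 LD2_c40 LD3_c47)) :=
  Lgr Lrot110 (Lpe (f391758 IH) (Lpe (f332333 IH) (Lpe (f332344 IH) (Lpr_df (f391743 IH) (Lpe (K30.f277409 IH) (Lpr_ct (K30.f277113 IH) (Lpe (K31.f277190 IH) (Lpr_ct (f225423 IH) (Lpe (f226964 IH) (Lpn (LP (LK LD1_c25 LD2_c40 LD3_c47))))))))))))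
theorem f391770 : Led Lsl_cf (LP (LK LD1_c19 LD2_c21 LD3_c34)) = (LP (LK LD1_c25 LD2_c40 LD3_c47)) :=
  Lgr Lrot11 (Lpr_ct (f391759 IH) (Lpn (LP (LK LD1_c25 LD2_c40 LD3_c47))))
theorem f218811 : Led Lsl_gt (LP (LK LD1_c19 LD2_c21 LD3_c34)) = (LP (LK LD1_c10 LD2_c41 LD3_c57)) :=
  Lre_g IH (LK LD1_c19 LD2_c21 LD3_c34) (LK LD1_c10 LD2_c41 LD3_c57) Lrfl Lrfl
theorem f221800 : Led Lsl_ct (LP (LK LD1_c10 LD2_c41 LD3_c57)) = (LP (LK LD1_c5 LD2_c25 LD3_c27)) :=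
  Lre_c IH (LK LD1_c10 LD2_c41 LD3_c57) (LK LD1_c5 LD2_c25 LD3_c27) Lrfl Lrfl
theorem f332308 : Led Lsl_dt (LP (LK LD1_c5 LD2_c25 LD3_c27)) = (LP (LK LD1_c2 LD2_c39 LD3_c9)) :=
  Lre_d IH (LK LD1_c5 LD2_c25 LD3_c27) (LK LD1_c2 LD2_c39 LD3_c9) Lrfl Lrfl
theorem f390444 : Led Lsl_dt (LP (LK LD1_c10 LD2_c59 LD3_c32)) = (LP (LK LD1_c19 LD2_c50 LD3_c16)) :=
  Lre_d IH (LK LD1_c10 LD2_c59 LD3_c32) (LK LD1_c19 LD2_c50 LD3_c16) Lrfl Lrfl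
theorem f391774 : Led Lsl_gt (LP (LK LD1_c19 LD2_c50 LD3_c16)) = (LP (LK LD1_c25 LD2_c40 LD3_c47)) :=
  Lgr Lrot9 (Lpe (f390444 IH) (Lpr_gt (K31.f390833 IH) (Lpr_ct (K31.f390760 IH) (Lpr_gt (K31.f390630 IH) (Lpr_ct (K31.f218848 IH) (Lpe (f332308 IH) (Lpe (f221800 IH) (Lpe (f218811 IH) (Lpr_cf (f391770 IH) (Lpn (LP (LK LD1_c25 LD2_c40 LD3_c47))))))))))))
theorem f226594 : Led Lsl_gt (LP (LK LD1_c2 LD2_c43 LD3_c8)) = (LP (LK LD1_c4 LD2_c33 LD3_c37)) :=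
  Lre_g IH (LK LD1_c2 LD2_c43 LD3_c8) (LK LD1_c4 LD2_c33 LD3_c37) Lrfl Lrfl
theorem f391789 : Led Lsl_dt (LP (LK LD1_c4 LD2_c33 LD3_c37)) = (LP (LK LD1_c8 LD2_c21 LD3_c53)) :=
  Lgr Lrot105 (Lpe (f226594 IH) (Lpe (K31.f332336 IH) (Lpe (K31.f390749 IH) (Lpe (K30.f387626 IH) (Lpr_gt (K31.f387798 IH) (Lpr_dt (f390444 IH) (Lpr_gt (f391774 IH) (Lpr_dt (f226964 IH) (Lpe (f225423 IH) (Lpn (LP (LK LD1_c8 LD2_c21 LD3_c53))))))))))))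
theorem f391791 : Led Lsl_df (LP (LK LD1_c4 LD2_c33 LD3_c37)) = (LP (LK LD1_c8 LD2_c21 LD3_c53)) :=
  Lgr Lrot38 (Lpr_dt (f391789 IH) (Lpn (LP (LK LD1_c8 LD2_c21 LD3_c53))))
theorem f218849 : Led Lsl_gt (LP (LK LD1_c4 LD2_c33 LD3_c37)) = (LP (LK LD1_c2 LD2_c13 LD3_c43)) :=
  Lre_g IH (LK LD1_c4 LD2_c33 LD3_c37) (LK LD1_c2 LD2_c13 LD3_c43) Lrfl Lrfl
theorem f173440 : Led Lsl_dt (LP (LK LD1_c2 LD2_c13 LD3_c43)) = (LP (LK LD1_c1 LD2_c18 LD3_c2)) :=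
  Lre_d IH (LK LD1_c2 LD2_c13 LD3_c43) (LK LD1_c1 LD2_c18 LD3_c2) Lrfl Lrfl
theorem f224764 : Led Lsl_gt (LP (LK LD1_c10 LD2_c41 LD3_c43)) = (LP (LK LD1_c5 LD2_c25 LD3_c27)) :=
  Lre_g IH (LK LD1_c10 LD2_c41 LD3_c43) (LK LD1_c5 LD2_c25 LD3_c27) Lrfl Lrfl
theorem f391796 : Led Lsl_df (LP (LK LD1_c10 LD2_c41 LD3_c43)) = (LP (LK LD1_c15 LD2_c44 LD3_c8)) :=
  Lgr Lrot153 (Lpr_gt (f224764 IH) (Lpr_dt (f332308 IH) (Lpe (K31.f218848 IH) (Lpe (f173440 IH) (Lpe (f218849 IH) (Lpr_df (f391791 IH) (Lpr_gf (K31.f277190 IH) (Lpe (K30.f277113 IH) (Lpe (K30.f277262 IH) (Lpn (LP (LK LD1_c15 LD2_c44 LD3_c8))))))))))))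
theorem f389215 : Led Lsl_ft (LP (LK LD1_c10 LD2_c35 LD3_c59)) = (LP (LK LD1_c15 LD2_c44 LD3_c8)) :=
  Lgr Lrot4 (Lpr_cf (K31.f277122 IH) (Lpr_ff (K31.f389213 IH) (Lpr_cf (K30.f384821 IH) (Lpn (LP (LK LD1_c15 LD2_c44 LD3_c8))))))
theorem f391803 : Led Lsl_ft (LP (LK LD1_c10 LD2_c41 LD3_c43)) = (LP (LK LD1_c5 LD2_c25 LD3_c24)) :=
  Lgr Lrot54 (Lpr_df (f391796 IH) (Lpe (f389215 IH) (Lpr_df (K31.f277315 IH) (Lpn (LP (LK LD1_c5 LD2_c25 LD3_c24))))))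
theorem f391826 : Led Lsl_af (LP (LK LD1_c10 LD2_c41 LD3_c44)) = (LP (LK LD1_c5 LD2_c25 LD3_c24)) :=
  Lgr Lrot31 (Lpe (f224664 IH) (Lpe (f224764 IH) (Lpr_ft (f391803 IH) (Lpn (LP (LK LD1_c5 LD2_c25 LD3_c24))))))
theorem f277372 : Led Lsl_df (LP (LK LD1_c10 LD2_c35 LD3_c58)) = (LP (LK LD1_c5 LD2_c25 LD3_c23)) :=
  Lgr Lrot38 (Lpr_dt (K30.f277357 IH) (Lpn (LP (LK LD1_c5 LD2_c25 LD3_c23))))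
theorem f391756 : Led Lsl_ft (LP (LK LD1_c10 LD2_c41 LD3_c44)) = (LP (LK LD1_c5 LD2_c25 LD3_c23)) :=
  Lgr Lrot54 (Lpr_df (f391743 IH) (Lpe (K31.f389227 IH) (Lpr_df (f277372 IH) (Lpn (LP (LK LD1_c5 LD2_c25 LD3_c23))))))
theorem f391832 : Led Lsl_at (LP (LK LD1_c5 LD2_c25 LD3_c23)) = (LP (LK LD1_c10 LD2_c41 LD3_c43)) :=
  Lgr Lrot66 (Lpe (f391756 IH) (Lpr_af (f391826 IH) (Lpe (f391803 IH) (Lpn (LP (LK LD1_c10 LD2_c41 LD3_c43))))))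
theorem f277384 : Led Lsl_et (LP (LK LD1_c10 LD2_c41 LD3_c49)) = (LP (LK LD1_c5 LD2_c25 LD3_c23)) :=
  Lre_e IH (LK LD1_c10 LD2_c41 LD3_c49) (LK LD1_c5 LD2_c25 LD3_c23) Lrfl Lrfl
theorem f391802 : Led Lsl_et (LP (LK LD1_c10 LD2_c41 LD3_c43)) = (LP (LK LD1_c19 LD2_c21 LD3_c30)) :=
  Lre_e IH (LK LD1_c10 LD2_c41 LD3_c43) (LK LD1_c19 LD2_c21 LD3_c30) Lrfl Lrfl
theorem f391836 : Led Lsl_af (LP (LK LD1_c10 LD2_c41 LD3_c49)) = (LP (LK LD1_c19 LD2_c21 LD3_c30)) :=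
  Lgr Lrot50 (Lpr_et (f277384 IH) (Lpr_at (f391832 IH) (Lpr_et (f391802 IH) (Lpn (LP (LK LD1_c19 LD2_c21 LD3_c30))))))
theorem f391842 : Led Lsl_ct (LP (LK LD1_c10 LD2_c41 LD3_c49)) = (LP (LK LD1_c19 LD2_c21 LD3_c43)) :=
  Lre_c IH (LK LD1_c10 LD2_c41 LD3_c49) (LK LD1_c19 LD2_c21 LD3_c43) Lrfl Lrfl
theorem f391843 : Led Lsl_ct (LP (LK LD1_c28 LD2_c45 LD3_c56)) = (LP (LK LD1_c19 LD2_c21 LD3_c30)) :=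
  Lre_c IH (LK LD1_c28 LD2_c45 LD3_c56) (LK LD1_c19 LD2_c21 LD3_c30) Lrfl Lrfl
theorem f391844 : Led Lsl_at (LP (LK LD1_c19 LD2_c21 LD3_c43)) = (LP (LK LD1_c28 LD2_c45 LD3_c56)) :=
  Lgr Lrot107 (Lpe (f391842 IH) (Lpr_af (f391836 IH) (Lpe (f391843 IH) (Lpn (LP (LK LD1_c28 LD2_c45 LD3_c56))))))
theorem f391849 : Led Lsl_af (LP (LK LD1_c19 LD2_c21 LD3_c43)) = (LP (LK LD1_c28 LD2_c45 LD3_c56)) :=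
  Lgr Lrot0 (Lpr_at (f391844 IH) (Lpn (LP (LK LD1_c28 LD2_c45 LD3_c56))))
theorem f391661 : Led Lsl_et (LP (LK LD1_c19 LD2_c21 LD3_c43)) = (LP (LK LD1_c10 LD2_c41 LD3_c48)) :=
  Lre_e IH (LK LD1_c19 LD2_c21 LD3_c43) (LK LD1_c10 LD2_c41 LD3_c48) Lrfl Lrfl
theorem f391819 : Led Lsl_et (LP (LK LD1_c19 LD2_c21 LD3_c29)) = (LP (LK LD1_c28 LD2_c45 LD3_c56)) :=
  Lre_e IH (LK LD1_c19 LD2_c21 LD3_c29) (LK LD1_c28 LD2_c45 LD3_c56) Lrfl Lrfl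
theorem f391853 : Led Lsl_at (LP (LK LD1_c10 LD2_c41 LD3_c48)) = (LP (LK LD1_c19 LD2_c21 LD3_c29)) :=
  Lgr Lrot80 (Lpe (f391661 IH) (Lpr_af (f391849 IH) (Lpe (f391819 IH) (Lpn (LP (LK LD1_c19 LD2_c21 LD3_c29))))))
theorem f332320 : Led Lsl_ct (LP (LK LD1_c10 LD2_c41 LD3_c43)) = (LP (LK LD1_c19 LD2_c21 LD3_c29)) :=
  Lre_c IH (LK LD1_c10 LD2_c41 LD3_c43) (LK LD1_c19 LD2_c21 LD3_c29) Lrfl Lrfl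
theorem f246559 : Led Lsl_gt (LP (LK LD1_c10 LD2_c41 LD3_c25)) = (LP (LK LD1_c19 LD2_c21 LD3_c5)) :=
  Lre_g IH (LK LD1_c10 LD2_c41 LD3_c25) (LK LD1_c19 LD2_c21 LD3_c5) Lrfl Lrfl
theorem f246542 : Led Lsl_dt (LP (LK LD1_c19 LD2_c21 LD3_c5)) = (LP (LK LD1_c28 LD2_c45 LD3_c47)) :=
  Lre_d IH (LK LD1_c19 LD2_c21 LD3_c5) (LK LD1_c28 LD2_c45 LD3_c47) Lrfl Lrfl
theorem f225176 : Led Lsl_ct (LP (LK LD1_c2 LD2_c13 LD3_c43)) = (LP (LK LD1_c4 LD2_c33 LD3_c17)) :=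
  Lre_c IH (LK LD1_c2 LD2_c13 LD3_c43) (LK LD1_c4 LD2_c33 LD3_c17) Lrfl Lrfl
theorem f391708 : Led Lsl_gt (LP (LK LD1_c4 LD2_c33 LD3_c17)) = (LP (LK LD1_c9 LD2_c3 LD3_c61)) :=
  Lre_g IH (LK LD1_c4 LD2_c33 LD3_c17) (LK LD1_c9 LD2_c3 LD3_c61) Lrfl Lrfl
theorem f391709 : Led Lsl_dt (LP (LK LD1_c9 LD2_c3 LD3_c61)) = (LP (LK LD1_c16 LD2_c55 LD3_c14)) :=
  Lre_d IH (LK LD1_c9 LD2_c3 LD3_c61) (LK LD1_c16 LD2_c55 LD3_c14) Lrfl Lrfl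
theorem f391710 : Led Lsl_gt (LP (LK LD1_c16 LD2_c55 LD3_c14)) = (LP (LK LD1_c19 LD2_c51 LD3_c13)) :=
  Lgr Lrot49 (Lpe (f391709 IH) (Lpe (f391708 IH) (Lpe (f225176 IH) (Lpr_gt (K31.f173421 IH) (Lpr_dt (K31.f391694 IH) (Lpe (K30.f384812 IH) (Lpe (K30.f277180 IH) (Lpe (K30.f226330 IH) (Lpe (K30.f226338 IH) (Lpn (LP (LK LD1_c19 LD2_c51 LD3_c13))))))))))))
theorem f391719 : Led Lsl_ct (LP (LK LD1_c26 LD2_c51 LD3_c21)) = (LP (LK LD1_c16 LD2_c55 LD3_c14)) :=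
  Lre_c IH (LK LD1_c26 LD2_c51 LD3_c21) (LK LD1_c16 LD2_c55 LD3_c14) Lrfl Lrfl
theorem f226256 : Led Lsl_gt (LP (LK LD1_c19 LD2_c21 LD3_c5)) = (LP (LK LD1_c10 LD2_c41 LD3_c38)) :=
  Lre_g IH (LK LD1_c19 LD2_c21 LD3_c5) (LK LD1_c10 LD2_c41 LD3_c38) Lrfl Lrfl
theorem f226257 : Led Lsl_dt (LP (LK LD1_c28 LD2_c45 LD3_c47)) = (LP (LK LD1_c19 LD2_c21 LD3_c5)) :=
  Lre_d IH (LK LD1_c28 LD2_c45 LD3_c47) (LK LD1_c19 LD2_c21 LD3_c5) Lrfl Lrfl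
theorem f391725 : Led Lsl_gf (LP (LK LD1_c26 LD2_c51 LD3_c21)) = (LP (LK LD1_c28 LD2_c45 LD3_c47)) :=
  Lgr Lrot147 (Lpr_ct (f391719 IH) (Lpr_gt (f391710 IH) (Lpr_ct (K30.f246557 IH) (Lpe (K30.f246533 IH) (Lpe (K14.f246497 IH) (Lpe (K14.f246531 IH) (Lpe (K30.f226245 IH) (Lpe (f226256 IH) (Lpe (f226257 IH) (Lpn (LP (LK LD1_c28 LD2_c45 LD3_c47))))))))))))
theorem f391805 : Led Lsl_df (LP (LK LD1_c19 LD2_c21 LD3_c29)) = (LP (LK LD1_c26 LD2_c51 LD3_c21)) :=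
  Lgr Lrot84 (Lpe (f332320 IH) (Lpr_df (f391796 IH) (Lpr_gf (K30.f277262 IH) (Lpr_df (K31.f277053 IH) (Lpe (K31.f277043 IH) (Lpe (K30.f226237 IH) (Lpr_gt (f246559 IH) (Lpr_dt (f246542 IH) (Lpe (f391725 IH) (Lpn (LP (LK LD1_c26 LD2_c51 LD3_c21))))))))))))
theorem f391817 : Led Lsl_dt (LP (LK LD1_c19 LD2_c21 LD3_c29)) = (LP (LK LD1_c26 LD2_c51 LD3_c21)) :=
  Lgr Lrot42 (Lpr_df (f391805 IH) (Lpn (LP (LK LD1_c26 LD2_c51 LD3_c21))))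
theorem f391857 : Led Lsl_af (LP (LK LD1_c19 LD2_c21 LD3_c42)) = (LP (LK LD1_c26 LD2_c51 LD3_c21)) :=
  Lgr Lrot117 (Lpr_dt (K31.f218421 IH) (Lpr_at (f391853 IH) (Lpr_dt (f391817 IH) (Lpn (LP (LK LD1_c26 LD2_c51 LD3_c21))))))
theorem f391862 : Led Lsl_ft (LP (LK LD1_c19 LD2_c21 LD3_c49)) = (LP (LK LD1_c26 LD2_c51 LD3_c21)) :=
  Lgr Lrot2 (Lpr_gt (K31.f391686 IH) (Lpr_gt (K31.f277377 IH) (Lpr_af (f391857 IH) (Lpn (LP (LK LD1_c26 LD2_c51 LD3_c21))))))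
theorem f391868 : Led Lsl_ff (LP (LK LD1_c19 LD2_c21 LD3_c49)) = (LP (LK LD1_c26 LD2_c51 LD3_c21)) :=
  Lgr Lrot3 (Lpr_ft (f391862 IH) (Lpn (LP (LK LD1_c26 LD2_c51 LD3_c21))))
theorem f389293 : Led Lsl_cf (LP (LK LD1_c11 LD2_c1 LD3_c6)) = (LP (LK LD1_c19 LD2_c21 LD3_c49)) :=
  Lgr Lrot11 (Lpr_ct (K31.f389290 IH) (Lpn (LP (LK LD1_c19 LD2_c21 LD3_c49))))
theorem f391716 : Led Lsl_ct (LP (LK LD1_c16 LD2_c55 LD3_c14)) = (LP (LK LD1_c26 LD2_c51 LD3_c21)) :=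
  Lre_c IH (LK LD1_c16 LD2_c55 LD3_c14) (LK LD1_c26 LD2_c51 LD3_c21) Lrfl Lrfl
theorem f391870 : Led Lsl_ft (LP (LK LD1_c11 LD2_c1 LD3_c6)) = (LP (LK LD1_c16 LD2_c55 LD3_c14)) :=
  Lgr Lrot4 (Lpr_cf (f389293 IH) (Lpr_ff (f391868 IH) (Lpe (f391716 IH) (Lpn (LP (LK LD1_c16 LD2_c55 LD3_c14))))))
theorem f382895 : Led Lsl_dt (LP (LK LD1_c11 LD2_c1 LD3_c6)) = (LP (LK LD1_c5 LD2_c34 LD3_c27)) :=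
  Lre_d IH (LK LD1_c11 LD2_c1 LD3_c6) (LK LD1_c5 LD2_c34 LD3_c27) Lrfl Lrfl
theorem f382892 : Led Lsl_df (LP (LK LD1_c16 LD2_c43 LD3_c46)) = (LP (LK LD1_c11 LD2_c1 LD3_c5)) :=
  Lgr Lrot162 (Lpr_cf (K31.f382882 IH) (Lpe (K30.f224202 IH) (Lpr_cf (K21.f277106 IH) (Lpe (K30.f172978 IH) (Lpr_dt (K30.f172958 IH) (Lpr_gt (K30.f172867 IH) (Lpr_ct (K31.f172932 IH) (Lpr_gt (K31.f172933 IH) (Lpr_ct (K31.f172979 IH) (Lpn (LP (LK LD1_c11 LD2_c1 LD3_c5))))))))))))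
theorem f218425 : Led Lsl_dt (LP (LK LD1_c10 LD2_c41 LD3_c48)) = (LP (LK LD1_c19 LD2_c21 LD3_c42)) :=
  Lre_d IH (LK LD1_c10 LD2_c41 LD3_c48) (LK LD1_c19 LD2_c21 LD3_c42) Lrfl Lrfl
theorem f225408 : Led Lsl_df (LP (LK LD1_c8 LD2_c21 LD3_c54)) = (LP (LK LD1_c10 LD2_c58 LD3_c30)) :=
  Lgr Lrot38 (Lpr_dt (K30.f225394 IH) (Lpn (LP (LK LD1_c10 LD2_c58 LD3_c30))))
theorem f277081 : Led Lsl_dt (LP (LK LD1_c19 LD2_c11 LD3_c40)) = (LP (LK LD1_c28 LD2_c37 LD3_c33)) :=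
  Lre_d IH (LK LD1_c19 LD2_c11 LD3_c40) (LK LD1_c28 LD2_c37 LD3_c33) Lrfl Lrfl
theorem f384455 : Led Lsl_cf (LP (LK LD1_c19 LD2_c52 LD3_c8)) = (LP (LK LD1_c28 LD2_c37 LD3_c33)) :=
  Lgr Lrot116 (Lpr_dt (K31.f384444 IH) (Lpr_ct (K22.f225412 IH) (Lpe (f225408 IH) (Lpr_ct (K17.f225416 IH) (Lpe (K17.f225417 IH) (Lpe (K17.f277016 IH) (Lpr_dt (K31.f277051 IH) (Lpr_ct (K31.f277032 IH) (Lpr_dt (f277081 IH) (Lpn (LP (LK LD1_c28 LD2_c37 LD3_c33))))))))))))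
theorem f277048 : Led Lsl_ct (LP (LK LD1_c10 LD2_c41 LD3_c24)) = (LP (LK LD1_c19 LD2_c21 LD3_c3)) :=
  Lre_c IH (LK LD1_c10 LD2_c41 LD3_c24) (LK LD1_c19 LD2_c21 LD3_c3) Lrfl Lrfl
theorem f277049 : Led Lsl_af (LP (LK LD1_c19 LD2_c11 LD3_c40)) = (LP (LK LD1_c19 LD2_c21 LD3_c3)) :=
  Lgr Lrot68 (Lpr_ct (K31.f277030 IH) (Lpr_at (K31.f277044 IH) (Lpr_ct (f277048 IH) (Lpn (LP (LK LD1_c19 LD2_c21 LD3_c3))))))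
theorem f277079 : Led Lsl_at (LP (LK LD1_c19 LD2_c11 LD3_c40)) = (LP (LK LD1_c19 LD2_c21 LD3_c3)) :=
  Lgr Lrot100 (Lpr_af (f277049 IH) (Lpn (LP (LK LD1_c19 LD2_c21 LD3_c3))))
theorem f277084 : Led Lsl_ff (LP (LK LD1_c19 LD2_c11 LD3_c40)) = (LP (LK LD1_c19 LD2_c20 LD3_c7)) :=
  Lgr Lrot52 (Lpr_at (f277079 IH) (Lpe (K30.f226296 IH) (Lpr_gf (K14.f246522 IH) (Lpn (LP (LK LD1_c19 LD2_c20 LD3_c7))))))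
theorem f277086 : Led Lsl_ft (LP (LK LD1_c28 LD2_c37 LD3_c33)) = (LP (LK LD1_c28 LD2_c45 LD3_c5)) :=
  Lgr Lrot54 (Lpe (f277081 IH) (Lpr_ff (f277084 IH) (Lpe (K30.f213040 IH) (Lpn (LP (LK LD1_c28 LD2_c45 LD3_c5))))))
theorem f277088 : Led Lsl_ff (LP (LK LD1_c28 LD2_c37 LD3_c33)) = (LP (LK LD1_c28 LD2_c45 LD3_c5)) :=
  Lgr Lrot3 (Lpr_ft (f277086 IH) (Lpn (LP (LK LD1_c28 LD2_c45 LD3_c5))))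
theorem f384462 : Led Lsl_ft (LP (LK LD1_c19 LD2_c52 LD3_c8)) = (LP (LK LD1_c19 LD2_c51 LD3_c13)) :=
  Lgr Lrot4 (Lpr_cf (f384455 IH) (Lpr_ff (f277088 IH) (Lpe (K30.f246557 IH) (Lpn (LP (LK LD1_c19 LD2_c51 LD3_c13))))))
theorem f173027 : Led Lsl_dt (LP (LK LD1_c10 LD2_c48 LD3_c28)) = (LP (LK LD1_c19 LD2_c32 LD3_c34)) :=
  Lre_d IH (LK LD1_c10 LD2_c48 LD3_c28) (LK LD1_c19 LD2_c32 LD3_c34) Lrfl Lrfl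
theorem f277288 : Led Lsl_af (LP (LK LD1_c19 LD2_c51 LD3_c13)) = (LP (LK LD1_c19 LD2_c32 LD3_c34)) :=
  Lgr Lrot117 (Lpr_dt (K30.f226338 IH) (Lpr_at (K30.f277284 IH) (Lpr_dt (f173027 IH) (Lpn (LP (LK LD1_c19 LD2_c32 LD3_c34))))))
theorem f277299 : Led Lsl_at (LP (LK LD1_c19 LD2_c51 LD3_c13)) = (LP (LK LD1_c19 LD2_c32 LD3_c34)) :=
  Lgr Lrot100 (Lpr_af (f277288 IH) (Lpn (LP (LK LD1_c19 LD2_c32 LD3_c34))))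
theorem f173001 : Led Lsl_dt (LP (LK LD1_c19 LD2_c32 LD3_c34)) = (LP (LK LD1_c10 LD2_c48 LD3_c28)) :=
  Lre_d IH (LK LD1_c19 LD2_c32 LD3_c34) (LK LD1_c10 LD2_c48 LD3_c28) Lrfl Lrfl
theorem f172982 : Led Lsl_gt (LP (LK LD1_c4 LD2_c33 LD3_c38)) = (LP (LK LD1_c2 LD2_c43 LD3_c10)) :=
  Lre_g IH (LK LD1_c4 LD2_c33 LD3_c38) (LK LD1_c2 LD2_c43 LD3_c10) Lrfl Lrfl
theorem f173002 : Led Lsl_ct (LP (LK LD1_c9 LD2_c4 LD3_c1)) = (LP (LK LD1_c4 LD2_c33 LD3_c38)) :=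
  Lre_c IH (LK LD1_c9 LD2_c4 LD3_c1) (LK LD1_c4 LD2_c33 LD3_c38) Lrfl Lrfl
theorem f173003 : Led Lsl_gt (LP (LK LD1_c9 LD2_c4 LD3_c1)) = (LP (LK LD1_c5 LD2_c34 LD3_c28)) :=
  Lre_g IH (LK LD1_c9 LD2_c4 LD3_c1) (LK LD1_c5 LD2_c34 LD3_c28) Lrfl Lrfl
theorem f173004 : Led Lsl_dt (LP (LK LD1_c5 LD2_c34 LD3_c28)) = (LP (LK LD1_c11 LD2_c1 LD3_c8)) :=
  Lre_d IH (LK LD1_c5 LD2_c34 LD3_c28) (LK LD1_c11 LD2_c1 LD3_c8) Lrfl Lrfl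
theorem f173005 : Led Lsl_gf (LP (LK LD1_c19 LD2_c32 LD3_c34)) = (LP (LK LD1_c11 LD2_c1 LD3_c8)) :=
  Lgr Lrot143 (Lpr_dt (f173001 IH) (Lpe (K30.f173000 IH) (Lpe (K31.f172999 IH) (Lpe (K30.f172978 IH) (Lpr_df (K31.f172968 IH) (Lpe (f172982 IH) (Lpe (f173002 IH) (Lpr_gt (f173003 IH) (Lpr_dt (f173004 IH) (Lpn (LP (LK LD1_c11 LD2_c1 LD3_c8))))))))))))
theorem f384464 : Led Lsl_gt (LP (LK LD1_c19 LD2_c52 LD3_c8)) = (LP (LK LD1_c11 LD2_c1 LD3_c8)) :=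
  Lgr Lrot5 (Lpr_ft (f384462 IH) (Lpr_at (f277299 IH) (Lpr_gf (f173005 IH) (Lpn (LP (LK LD1_c11 LD2_c1 LD3_c8))))))
theorem f391877 : Led Lsl_af (LP (LK LD1_c11 LD2_c1 LD3_c8)) = (LP (LK LD1_c16 LD2_c55 LD3_c14)) :=
  Lgr Lrot31 (Lpe (f384464 IH) (Lpe (K31.f277348 IH) (Lpr_ft (f391870 IH) (Lpn (LP (LK LD1_c16 LD2_c55 LD3_c14))))))
theorem f391879 : Led Lsl_ct (LP (LK LD1_c19 LD2_c21 LD3_c42)) = (LP (LK LD1_c11 LD2_c1 LD3_c8)) :=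
  Lgr Lrot98 (Lpe (f218425 IH) (Lpe (K31.f218410 IH) (Lpe (K30.f277357 IH) (Lpe (K31.f382878 IH) (Lpr_df (f382892 IH) (Lpe (K31.f172979 IH) (Lpe (f382895 IH) (Lpr_ft (f391870 IH) (Lpe (f391877 IH) (Lpn (LP (LK LD1_c11 LD2_c1 LD3_c8))))))))))))
theorem f391881 : Led Lsl_af (LP (LK LD1_c16 LD2_c55 LD3_c14)) = (LP (LK LD1_c11 LD2_c1 LD3_c8)) :=
  Lgr Lrot68 (Lpr_ct (f391716 IH) (Lpe (f391857 IH) (Lpr_ct (f391879 IH) (Lpn (LP (LK LD1_c11 LD2_c1 LD3_c8))))))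
theorem f391720 : Led Lsl_dt (LP (LK LD1_c16 LD2_c55 LD3_c14)) = (LP (LK LD1_c9 LD2_c3 LD3_c61)) :=
  Lre_d IH (LK LD1_c16 LD2_c55 LD3_c14) (LK LD1_c9 LD2_c3 LD3_c61) Lrfl Lrfl
theorem f391946 : Led Lsl_at (LP (LK LD1_c9 LD2_c3 LD3_c61)) = (LP (LK LD1_c5 LD2_c34 LD3_c28)) :=
  Lgr Lrot51 (Lpe (f391720 IH) (Lpr_af (f391881 IH) (Lpe (f173004 IH) (Lpn (LP (LK LD1_c5 LD2_c34 LD3_c28))))))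
theorem f391952 : Led Lsl_af (LP (LK LD1_c9 LD2_c3 LD3_c61)) = (LP (LK LD1_c5 LD2_c34 LD3_c28)) :=
  Lgr Lrot0 (Lpr_at (f391946 IH) (Lpn (LP (LK LD1_c5 LD2_c34 LD3_c28))))
theorem f225177 : Led Lsl_gt (LP (LK LD1_c9 LD2_c4 LD3_c0)) = (LP (LK LD1_c4 LD2_c33 LD3_c17)) :=
  Lre_g IH (LK LD1_c9 LD2_c4 LD3_c0) (LK LD1_c4 LD2_c33 LD3_c17) Lrfl Lrfl
theorem f391985 : Led Lsl_ft (LP (LK LD1_c9 LD2_c4 LD3_c0)) = (LP (LK LD1_c5 LD2_c34 LD3_c28)) :=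
  Lgr Lrot2 (Lpr_gt (f225177 IH) (Lpr_gt (f391708 IH) (Lpr_af (f391952 IH) (Lpn (LP (LK LD1_c5 LD2_c34 LD3_c28))))))
theorem f391993 : Led Lsl_ff (LP (LK LD1_c9 LD2_c4 LD3_c0)) = (LP (LK LD1_c5 LD2_c34 LD3_c28)) :=
  Lgr Lrot3 (Lpr_ft (f391985 IH) (Lpn (LP (LK LD1_c5 LD2_c34 LD3_c28))))
theorem f243870 : Led Lsl_dt (LP (LK LD1_c9 LD2_c4 LD3_c0)) = (LP (LK LD1_c16 LD2_c55 LD3_c16)) :=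
  Lre_d IH (LK LD1_c9 LD2_c4 LD3_c0) (LK LD1_c16 LD2_c55 LD3_c16) Lrfl Lrfl
theorem f173023 : Led Lsl_dt (LP (LK LD1_c11 LD2_c1 LD3_c8)) = (LP (LK LD1_c5 LD2_c34 LD3_c28)) :=
  Lre_d IH (LK LD1_c11 LD2_c1 LD3_c8) (LK LD1_c5 LD2_c34 LD3_c28) Lrfl Lrfl
theorem f391998 : Led Lsl_ft (LP (LK LD1_c16 LD2_c55 LD3_c16)) = (LP (LK LD1_c11 LD2_c1 LD3_c8)) :=
  Lgr Lrot54 (Lpe (f243870 IH) (Lpr_ff (f391993 IH) (Lpe (f173023 IH) (Lpn (LP (LK LD1_c11 LD2_c1 LD3_c8))))))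
theorem f392003 : Led Lsl_ct (LP (LK LD1_c26 LD2_c51 LD3_c24)) = (LP (LK LD1_c16 LD2_c55 LD3_c16)) :=
  Lre_c IH (LK LD1_c26 LD2_c51 LD3_c24) (LK LD1_c16 LD2_c55 LD3_c16) Lrfl Lrfl
theorem f391884 : Led Lsl_cf (LP (LK LD1_c19 LD2_c21 LD3_c42)) = (LP (LK LD1_c11 LD2_c1 LD3_c8)) :=
  Lgr Lrot11 (Lpr_ct (f391879 IH) (Lpn (LP (LK LD1_c11 LD2_c1 LD3_c8))))
theorem f392004 : Led Lsl_ff (LP (LK LD1_c26 LD2_c51 LD3_c24)) = (LP (LK LD1_c19 LD2_c21 LD3_c42)) :=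
  Lgr Lrot23 (Lpr_ct (f392003 IH) (Lpr_ft (f391998 IH) (Lpe (f391884 IH) (Lpn (LP (LK LD1_c19 LD2_c21 LD3_c42))))))
theorem f392009 : Led Lsl_ft (LP (LK LD1_c26 LD2_c51 LD3_c24)) = (LP (LK LD1_c19 LD2_c21 LD3_c42)) :=
  Lgr Lrot48 (Lpr_ff (f392004 IH) (Lpn (LP (LK LD1_c19 LD2_c21 LD3_c42))))
theorem f391859 : Led Lsl_at (LP (LK LD1_c19 LD2_c21 LD3_c42)) = (LP (LK LD1_c26 LD2_c51 LD3_c21)) :=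
  Lgr Lrot100 (Lpr_af (f391857 IH) (Lpn (LP (LK LD1_c26 LD2_c51 LD3_c21))))
theorem f392011 : Led Lsl_af (LP (LK LD1_c26 LD2_c51 LD3_c24)) = (LP (LK LD1_c19 LD2_c21 LD3_c49)) :=
  Lgr Lrot45 (Lpr_ft (f392009 IH) (Lpr_at (f391859 IH) (Lpe (f391868 IH) (Lpn (LP (LK LD1_c19 LD2_c21 LD3_c49))))))
theorem f224670 : Led Lsl_ct (LP (LK LD1_c10 LD2_c41 LD3_c44)) = (LP (LK LD1_c19 LD2_c21 LD3_c32)) :=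
  Lre_c IH (LK LD1_c10 LD2_c41 LD3_c44) (LK LD1_c19 LD2_c21 LD3_c32) Lrfl Lrfl
theorem f391828 : Led Lsl_at (LP (LK LD1_c19 LD2_c21 LD3_c32)) = (LP (LK LD1_c10 LD2_c41 LD3_c51)) :=
  Lgr Lrot107 (Lpe (f224670 IH) (Lpr_af (f391826 IH) (Lpe (K31.f226289 IH) (Lpn (LP (LK LD1_c10 LD2_c41 LD3_c51))))))
theorem f392018 : Led Lsl_dt (LP (LK LD1_c26 LD2_c51 LD3_c24)) = (LP (LK LD1_c19 LD2_c21 LD3_c32)) :=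
  Lgr Lrot44 (Lpr_af (f392011 IH) (Lpe (K31.f277314 IH) (Lpe (f391828 IH) (Lpn (LP (LK LD1_c19 LD2_c21 LD3_c32))))))
theorem f392025 : Led Lsl_ff (LP (LK LD1_c10 LD2_c41 LD3_c48)) = (LP (LK LD1_c19 LD2_c21 LD3_c32)) :=
  Lgr Lrot19 (Lpr_dt (f218425 IH) (Lpe (f392004 IH) (Lpr_dt (f392018 IH) (Lpn (LP (LK LD1_c19 LD2_c21 LD3_c32))))))
theorem f392034 : Led Lsl_ft (LP (LK LD1_c5 LD2_c25 LD3_c23)) = (LP (LK LD1_c10 LD2_c41 LD3_c44)) :=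
  Lgr Lrot4 (Lpe (K31.f277376 IH) (Lpr_ff (f392025 IH) (Lpe (f224670 IH) (Lpn (LP (LK LD1_c10 LD2_c41 LD3_c44))))))
theorem f392086 : Led Lsl_ff (LP (LK LD1_c10 LD2_c41 LD3_c47)) = (LP (LK LD1_c19 LD2_c21 LD3_c31)) :=
  Lgr Lrot25 (Lpr_bt (K30.f218404 IH) (Lpr_ft (f392034 IH) (Lpr_bt (f391750 IH) (Lpn (LP (LK LD1_c19 LD2_c21 LD3_c31))))))
theorem f392097 : Led Lsl_ft (LP (LK LD1_c10 LD2_c41 LD3_c47)) = (LP (LK LD1_c19 LD2_c21 LD3_c31)) :=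
  Lgr Lrot48 (Lpr_ff (f392086 IH) (Lpn (LP (LK LD1_c19 LD2_c21 LD3_c31))))
theorem f392101 : Led Lsl_ff (LP (LK LD1_c19 LD2_c21 LD3_c37)) = (LP (LK LD1_c28 LD2_c45 LD3_c57)) :=
  Lgr Lrot23 (Lpr_ct (K30.f218457 IH) (Lpr_ft (f392097 IH) (Lpr_ct (f224666 IH) (Lpn (LP (LK LD1_c28 LD2_c45 LD3_c57))))))
theorem f424238 : Led Lsl_at (LP (LK LD1_c19 LD2_c21 LD3_c37)) = (LP (LK LD1_c20 LD2_c10 LD3_c40)) :=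
  Lgr Lrot66 (Lpr_ff (f392101 IH) (Lpe (f398577 IH) (Lpr_ff (f424236 IH) (Lpn (LP (LK LD1_c20 LD2_c10 LD3_c40))))))
theorem f218460 : Led Lsl_bt (LP (LK LD1_c28 LD2_c46 LD3_c1)) = (LP (LK LD1_c19 LD2_c21 LD3_c37)) :=
  Lre_b IH (LK LD1_c28 LD2_c46 LD3_c1) (LK LD1_c19 LD2_c21 LD3_c37) Lrfl Lrfl
theorem f385878 : Led Lsl_bt (LP (LK LD1_c16 LD2_c19 LD3_c31)) = (LP (LK LD1_c26 LD2_c17 LD3_c28)) :=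
  Lre_b IH (LK LD1_c16 LD2_c19 LD3_c31) (LK LD1_c26 LD2_c17 LD3_c28) Lrfl Lrfl
theorem f424278 : Led Lsl_af (LP (LK LD1_c28 LD2_c46 LD3_c1)) = (LP (LK LD1_c26 LD2_c17 LD3_c28)) :=
  Lgr Lrot36 (Lpr_bt (f218460 IH) (Lpr_at (f424238 IH) (Lpr_bt (f411763 IH) (Lpe (K41.f423851 IH) (Lpr_bt (f385878 IH) (Lpn (LP (LK LD1_c26 LD2_c17 LD3_c28))))))))
theorem f218462 : Led Lsl_ct (LP (LK LD1_c28 LD2_c46 LD3_c1)) = (LP (LK LD1_c19 LD2_c21 LD3_c41)) :=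
  Lre_c IH (LK LD1_c28 LD2_c46 LD3_c1) (LK LD1_c19 LD2_c21 LD3_c41) Lrfl Lrfl
theorem f392084 : Led Lsl_at (LP (LK LD1_c19 LD2_c21 LD3_c41)) = (LP (LK LD1_c28 LD2_c46 LD3_c9)) :=
  Lre_a IH (LK LD1_c19 LD2_c21 LD3_c41) (LK LD1_c28 LD2_c46 LD3_c9) Lrfl Lrfl
theorem f424282 : Led Lsl_ct (LP (LK LD1_c28 LD2_c46 LD3_c9)) = (LP (LK LD1_c26 LD2_c17 LD3_c28)) :=
  Lgr Lrot111 (Lpe (f392084 IH) (Lpe (f218462 IH) (Lpr_af (f424278 IH) (Lpn (LP (LK LD1_c26 LD2_c17 LD3_c28))))))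
theorem f424286 : Led Lsl_cf (LP (LK LD1_c28 LD2_c46 LD3_c9)) = (LP (LK LD1_c26 LD2_c17 LD3_c28)) :=
  Lgr Lrot11 (Lpr_ct (f424282 IH) (Lpn (LP (LK LD1_c26 LD2_c17 LD3_c28))))
theorem f382082 : Led Lsl_ct (LP (LK LD1_c24 LD2_c52 LD3_c60)) = (LP (LK LD1_c15 LD2_c3 LD3_c52)) :=
  Lre_c IH (LK LD1_c24 LD2_c52 LD3_c60) (LK LD1_c15 LD2_c3 LD3_c52) Lrfl Lrfl
theorem f424288 : Led Lsl_bt (LP (LK LD1_c28 LD2_c46 LD3_c9)) = (LP (LK LD1_c24 LD2_c52 LD3_c60)) :=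
  Lgr Lrot128 (Lpr_cf (f424286 IH) (Lpe (f385878 IH) (Lpe (K31.f385874 IH) (Lpr_bf (K38.f398568 IH) (Lpe (f382082 IH) (Lpn (LP (LK LD1_c24 LD2_c52 LD3_c60))))))))
theorem f277379 : Led Lsl_bt (LP (LK LD1_c10 LD2_c41 LD3_c48)) = (LP (LK LD1_c19 LD2_c21 LD3_c41)) :=
  Lre_b IH (LK LD1_c10 LD2_c41 LD3_c48) (LK LD1_c19 LD2_c21 LD3_c41) Lrfl Lrfl
theorem f391834 : Led Lsl_af (LP (LK LD1_c10 LD2_c41 LD3_c48)) = (LP (LK LD1_c19 LD2_c21 LD3_c29)) :=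
  Lgr Lrot68 (Lpr_ct (K31.f277376 IH) (Lpr_at (f391832 IH) (Lpr_ct (f332320 IH) (Lpn (LP (LK LD1_c19 LD2_c21 LD3_c29))))))
theorem f423551 : Led Lsl_ct (LP (LK LD1_c11 LD2_c13 LD3_c4)) = (LP (LK LD1_c20 LD2_c7 LD3_c41)) :=
  Lre_c IH (LK LD1_c11 LD2_c13 LD3_c4) (LK LD1_c20 LD2_c7 LD3_c41) Lrfl Lrfl
theorem f423663 : Led Lsl_at (LP (LK LD1_c20 LD2_c7 LD3_c41)) = (LP (LK LD1_c24 LD2_c52 LD3_c60)) :=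
  Lgr Lrot107 (Lpe (f423551 IH) (Lpr_af (K38.f423536 IH) (Lpe (f382082 IH) (Lpn (LP (LK LD1_c24 LD2_c52 LD3_c60))))))
theorem f423672 : Led Lsl_af (LP (LK LD1_c20 LD2_c7 LD3_c41)) = (LP (LK LD1_c24 LD2_c52 LD3_c60)) :=
  Lgr Lrot0 (Lpr_at (f423663 IH) (Lpn (LP (LK LD1_c24 LD2_c52 LD3_c60))))
theorem f424290 : Led Lsl_bf (LP (LK LD1_c19 LD2_c21 LD3_c29)) = (LP (LK LD1_c20 LD2_c7 LD3_c41)) :=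
  Lgr Lrot81 (Lpe (f391834 IH) (Lpr_bt (f277379 IH) (Lpr_at (f392084 IH) (Lpr_bt (f424288 IH) (Lpe (f423672 IH) (Lpn (LP (LK LD1_c20 LD2_c7 LD3_c41))))))))
theorem f391866 : Led Lsl_ff (LP (LK LD1_c10 LD2_c41 LD3_c51)) = (LP (LK LD1_c19 LD2_c21 LD3_c29)) :=
  Lgr Lrot19 (Lpr_dt (K31.f277314 IH) (Lpr_ft (f391862 IH) (Lpe (f391805 IH) (Lpn (LP (LK LD1_c19 LD2_c21 LD3_c29))))))
theorem f277307 : Led Lsl_bt (LP (LK LD1_c10 LD2_c41 LD3_c51)) = (LP (LK LD1_c19 LD2_c21 LD3_c48)) :=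
  Lre_b IH (LK LD1_c10 LD2_c41 LD3_c51) (LK LD1_c19 LD2_c21 LD3_c48) Lrfl Lrfl
theorem f424296 : Led Lsl_ft (LP (LK LD1_c19 LD2_c21 LD3_c48)) = (LP (LK LD1_c20 LD2_c7 LD3_c41)) :=
  Lgr Lrot75 (Lpe (f277307 IH) (Lpr_ff (f391866 IH) (Lpr_bf (f424290 IH) (Lpn (LP (LK LD1_c20 LD2_c7 LD3_c41))))))
theorem f423533 : Led Lsl_ct (LP (LK LD1_c20 LD2_c7 LD3_c41)) = (LP (LK LD1_c11 LD2_c13 LD3_c4)) :=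
  Lre_c IH (LK LD1_c20 LD2_c7 LD3_c41) (LK LD1_c11 LD2_c13 LD3_c4) Lrfl Lrfl
theorem f423543 : Led Lsl_ft (LP (LK LD1_c11 LD2_c13 LD3_c4)) = (LP (LK LD1_c15 LD2_c3 LD3_c51)) :=
  Lgr Lrot54 (Lpe (K38.f423542 IH) (Lpr_ff (K38.f423538 IH) (Lpe (K39.f174552 IH) (Lpn (LP (LK LD1_c15 LD2_c3 LD3_c51))))))
theorem f424298 : Led Lsl_cf (LP (LK LD1_c19 LD2_c21 LD3_c48)) = (LP (LK LD1_c15 LD2_c3 LD3_c51)) :=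
  Lgr Lrot108 (Lpr_ft (f424296 IH) (Lpr_ct (f423533 IH) (Lpr_ft (f423543 IH) (Lpn (LP (LK LD1_c15 LD2_c3 LD3_c51))))))
theorem f571126 : Led Lsl_gf (LP (LK LD1_c20 LD2_c21 LD3_c48)) = (LP (LK LD1_c19 LD2_c21 LD3_c48)) :=
  Lgr Lrot129 (Lpe (f412359 IH) (Lpr_bt (K39.f421114 IH) (Lpe (K39.f552104 IH) (Lpe (f552112 IH) (Lpr_ct (f281799 IH) (Lpr_gt (f571122 IH) (Lpe (f571118 IH) (Lpr_bt (f561612 IH) (Lpe (K39.f552012 IH) (Lpe (f424298 IH) (Lpn (LP (LK LD1_c19 LD2_c21 LD3_c48)))))))))))))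
theorem f60457 : Led Lsl_ct (LP (LK LD1_c12 LD2_c8 LD3_c45)) = (LP (LK LD1_c6 LD2_c15 LD3_c15)) :=
  Lre_c IH (LK LD1_c12 LD2_c8 LD3_c45) (LK LD1_c6 LD2_c15 LD3_c15) Lrfl Lrfl
theorem f552108 : Led Lsl_gt (LP (LK LD1_c20 LD2_c8 LD3_c1)) = (LP (LK LD1_c12 LD2_c8 LD3_c45)) :=
  Lgr Lrot150 (Lpe (K39.f281808 IH) (Lpr_gf (K39.f552104 IH) (Lpe (K10.f197809 IH) (Lpe (K10.f197823 IH) (Lpr_ct (K1.f60438 IH) (Lpr_gt (K9.f60452 IH) (Lpr_ct (K13.f60455 IH) (Lpe (K38.f60456 IH) (Lpe (f60457 IH) (Lpn (LP (LK LD1_c12 LD2_c8 LD3_c45))))))))))))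
theorem f241775 : Led Lsl_bt (LP (LK LD1_c6 LD2_c15 LD3_c15)) = (LP (LK LD1_c12 LD2_c8 LD3_c44)) :=
  Lre_b IH (LK LD1_c6 LD2_c15 LD3_c15) (LK LD1_c12 LD2_c8 LD3_c44) Lrfl Lrfl
theorem f93105 : Led Lsl_dt (LP (LK LD1_c13 LD2_c40 LD3_c61)) = (LP (LK LD1_c7 LD2_c13 LD3_c49)) :=
  Lre_d IH (LK LD1_c13 LD2_c40 LD3_c61) (LK LD1_c7 LD2_c13 LD3_c49) Lrfl Lrfl
theorem f569739 : Led Lsl_gt (LP (LK LD1_c12 LD2_c8 LD3_c44)) = (LP (LK LD1_c13 LD2_c40 LD3_c61)) :=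
  Lgr Lrot49 (Lpe (K41.f410586 IH) (Lpe (K39.f556248 IH) (Lpr_cf (K39.f556240 IH) (Lpr_gt (K39.f236508 IH) (Lpr_dt (K22.f236832 IH) (Lpr_gt (K39.f553350 IH) (Lpr_dt (K39.f98109 IH) (Lpr_cf (f569735 IH) (Lpe (f93105 IH) (Lpn (LP (LK LD1_c13 LD2_c40 LD3_c61))))))))))))
theorem f571132 : Led Lsl_bf (LP (LK LD1_c13 LD2_c40 LD3_c61)) = (LP (LK LD1_c15 LD2_c3 LD3_c51)) :=
  Lgr Lrot34 (Lpe (f569739 IH) (Lpe (f241775 IH) (Lpr_ct (K13.f193727 IH) (Lpe (f552108 IH) (Lpe (K39.f281808 IH) (Lpr_gf (K39.f552104 IH) (Lpe (K39.f421114 IH) (Lpr_ct (f412359 IH) (Lpr_gf (f571126 IH) (Lpr_cf (f424298 IH) (Lpn (LP (LK LD1_c15 LD2_c3 LD3_c51)))))))))))))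
theorem f160316 : Led Lsl_et (LP (LK LD1_c13 LD2_c40 LD3_c61)) = (LP (LK LD1_c23 LD2_c6 LD3_c28)) :=
  Lre_e IH (LK LD1_c13 LD2_c40 LD3_c61) (LK LD1_c23 LD2_c6 LD3_c28) Lrfl Lrfl
theorem f423554 : Led Lsl_et (LP (LK LD1_c24 LD2_c52 LD3_c59)) = (LP (LK LD1_c15 LD2_c3 LD3_c51)) :=
  Lre_e IH (LK LD1_c24 LD2_c52 LD3_c59) (LK LD1_c15 LD2_c3 LD3_c51) Lrfl Lrfl
theorem f571134 : Led Lsl_bt (LP (LK LD1_c23 LD2_c6 LD3_c28)) = (LP (LK LD1_c24 LD2_c52 LD3_c59)) :=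
  Lgr Lrot119 (Lpe (f160316 IH) (Lpr_bf (f571132 IH) (Lpe (f423554 IH) (Lpn (LP (LK LD1_c24 LD2_c52 LD3_c59))))))
theorem f161364 : Led Lsl_et (LP (LK LD1_c7 LD2_c59 LD3_c54)) = (LP (LK LD1_c3 LD2_c59 LD3_c19)) :=
  Lre_e IH (LK LD1_c7 LD2_c59 LD3_c54) (LK LD1_c3 LD2_c59 LD3_c19) Lrfl Lrfl
theorem f547528 : Led Lsl_et (LP (LK LD1_c7 LD2_c59 LD3_c12)) = (LP (LK LD1_c4 LD2_c36 LD3_c23)) :=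
  Lgr Lrot69 (Lpe (K39.f423545 IH) (Lpr_ef (K38.f547522 IH) (Lpr_ff (f161354 IH) (Lpe (f161364 IH) (Lpe (f547504 IH) (Lpn (LP (LK LD1_c4 LD2_c36 LD3_c23))))))))
theorem f210650 : Led Lsl_et (LP (LK LD1_c9 LD2_c8 LD3_c55)) = (LP (LK LD1_c17 LD2_c1 LD3_c47)) :=
  Lre_e IH (LK LD1_c9 LD2_c8 LD3_c55) (LK LD1_c17 LD2_c1 LD3_c47) Lrfl Lrfl
theorem f547530 : Led Lsl_df (LP (LK LD1_c24 LD2_c52 LD3_c59)) = (LP (LK LD1_c17 LD2_c1 LD3_c47)) :=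
  Lgr Lrot70 (Lpr_et (f423554 IH) (Lpr_dt (K39.f174552 IH) (Lpr_et (f547528 IH) (Lpr_dt (f210664 IH) (Lpr_et (f210650 IH) (Lpn (LP (LK LD1_c17 LD2_c1 LD3_c47))))))))
theorem f547532 : Led Lsl_dt (LP (LK LD1_c24 LD2_c52 LD3_c59)) = (LP (LK LD1_c17 LD2_c1 LD3_c47)) :=
  Lgr Lrot42 (Lpr_df (f547530 IH) (Lpn (LP (LK LD1_c17 LD2_c1 LD3_c47))))
theorem f210639 : Led Lsl_bt (LP (LK LD1_c16 LD2_c26 LD3_c0)) = (LP (LK LD1_c9 LD2_c8 LD3_c55)) :=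
  Lgr Lrot95 (Lpe (f35492 IH) (Lpr_bf (K41.f210627 IH) (Lpe (f210638 IH) (Lpn (LP (LK LD1_c9 LD2_c8 LD3_c55))))))
theorem f210649 : Led Lsl_et (LP (LK LD1_c26 LD2_c23 LD3_c25)) = (LP (LK LD1_c16 LD2_c26 LD3_c0)) :=
  Lre_e IH (LK LD1_c26 LD2_c23 LD3_c25) (LK LD1_c16 LD2_c26 LD3_c0) Lrfl Lrfl
theorem f210651 : Led Lsl_bf (LP (LK LD1_c26 LD2_c23 LD3_c25)) = (LP (LK LD1_c17 LD2_c1 LD3_c47)) :=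
  Lgr Lrot96 (Lpr_et (f210649 IH) (Lpr_bt (f210639 IH) (Lpr_et (f210650 IH) (Lpn (LP (LK LD1_c17 LD2_c1 LD3_c47))))))
theorem f571138 : Led Lsl_df (LP (LK LD1_c23 LD2_c6 LD3_c28)) = (LP (LK LD1_c26 LD2_c23 LD3_c25)) :=
  Lgr Lrot12 (Lpr_bt (f571134 IH) (Lpr_dt (f547532 IH) (Lpe (f210651 IH) (Lpn (LP (LK LD1_c26 LD2_c23 LD3_c25))))))
theorem f571142 : Led Lsl_et (LP (LK LD1_c23 LD2_c6 LD3_c28)) = (LP (LK LD1_c13 LD2_c40 LD3_c61)) :=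
  Lre_e IH (LK LD1_c23 LD2_c6 LD3_c28) (LK LD1_c13 LD2_c40 LD3_c61) Lrfl Lrfl
theorem f210658 : Led Lsl_et (LP (LK LD1_c16 LD2_c26 LD3_c0)) = (LP (LK LD1_c26 LD2_c23 LD3_c25)) :=
  Lre_e IH (LK LD1_c16 LD2_c26 LD3_c0) (LK LD1_c26 LD2_c23 LD3_c25) Lrfl Lrfl
theorem f571143 : Led Lsl_et (LP (LK LD1_c7 LD2_c13 LD3_c49)) = (LP (LK LD1_c8 LD2_c46 LD3_c59)) :=
  Lgr Lrot71 (Lpe (f93105 IH) (Lpe (f571142 IH) (Lpr_df (f571138 IH) (Lpe (f210658 IH) (Lpe (f35492 IH) (Lpn (LP (LK LD1_c8 LD2_c46 LD3_c59))))))))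
theorem f571147 : Led Lsl_ef (LP (LK LD1_c7 LD2_c13 LD3_c49)) = (LP (LK LD1_c8 LD2_c46 LD3_c59)) :=
  Lgr Lrot88 (Lpr_et (f571143 IH) (Lpn (LP (LK LD1_c8 LD2_c46 LD3_c59))))
theorem f237434 : Led Lsl_dt (LP (LK LD1_c4 LD2_c22 LD3_c47)) = (LP (LK LD1_c8 LD2_c43 LD3_c24)) :=
  Lre_d IH (LK LD1_c4 LD2_c22 LD3_c47) (LK LD1_c8 LD2_c43 LD3_c24) Lrfl Lrfl
theorem f571151 : Led Lsl_gf (LP (LK LD1_c7 LD2_c56 LD3_c18)) = (LP (LK LD1_c8 LD2_c43 LD3_c24)) :=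
  Lgr Lrot134 (Lpe (f197790 IH) (Lpr_et (f569719 IH) (Lpe (f160314 IH) (Lpr_ef (f571147 IH) (Lpr_dt (f35492 IH) (Lpr_gt (f570545 IH) (Lpe (f98433 IH) (Lpr_et (f565741 IH) (Lpe (K38.f401406 IH) (Lpr_dt (f237434 IH) (Lpn (LP (LK LD1_c8 LD2_c43 LD3_c24)))))))))))))
theorem f552784 : Led Lsl_at (LP (LK LD1_c13 LD2_c30 LD3_c9)) = (LP (LK LD1_c7 LD2_c56 LD3_c18)) :=
  Lgr Lrot107 (Lpr_cf (K39.f552781 IH) (Lpr_af (K38.f549984 IH) (Lpe (K16.f197791 IH) (Lpn (LP (LK LD1_c7 LD2_c56 LD3_c18))))))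
theorem f98108 : Led Lsl_ft (LP (LK LD1_c7 LD2_c7 LD3_c40)) = (LP (LK LD1_c13 LD2_c30 LD3_c9)) :=
  Lre_f IH (LK LD1_c7 LD2_c7 LD3_c40) (LK LD1_c13 LD2_c30 LD3_c9) Lrfl Lrfl
theorem f571153 : Led Lsl_gt (LP (LK LD1_c7 LD2_c7 LD3_c40)) = (LP (LK LD1_c8 LD2_c43 LD3_c24)) :=
  Lgr Lrot5 (Lpr_ft (f98108 IH) (Lpr_at (f552784 IH) (Lpr_gf (f571151 IH) (Lpn (LP (LK LD1_c8 LD2_c43 LD3_c24))))))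
theorem f97000 : Led Lsl_dt (LP (LK LD1_c3 LD2_c46 LD3_c24)) = (LP (LK LD1_c7 LD2_c33 LD3_c51)) :=
  Lre_d IH (LK LD1_c3 LD2_c46 LD3_c24) (LK LD1_c7 LD2_c33 LD3_c51) Lrfl Lrfl
theorem f273019 : Led Lsl_dt (LP (LK LD1_c5 LD2_c12 LD3_c53)) = (LP (LK LD1_c10 LD2_c16 LD3_c7)) :=
  Lre_d IH (LK LD1_c5 LD2_c12 LD3_c53) (LK LD1_c10 LD2_c16 LD3_c7) Lrfl Lrfl
theorem f571166 : Led Lsl_gf (LP (LK LD1_c7 LD2_c33 LD3_c51)) = (LP (LK LD1_c10 LD2_c16 LD3_c7)) :=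
  Lgr Lrot134 (Lpe (f97000 IH) (Lpr_et (f96999 IH) (Lpr_gt (K3.f98498 IH) (Lpe (K39.f97383 IH) (Lpr_dt (K39.f97384 IH) (Lpr_gt (f571153 IH) (Lpe (f237434 IH) (Lpr_et (f237458 IH) (Lpr_gt (f569501 IH) (Lpr_dt (f273019 IH) (Lpn (LP (LK LD1_c10 LD2_c16 LD3_c7)))))))))))))
theorem f273120 : Led Lsl_et (LP (LK LD1_c5 LD2_c12 LD3_c53)) = (LP (LK LD1_c10 LD2_c16 LD3_c8)) :=
  Lre_e IH (LK LD1_c5 LD2_c12 LD3_c53) (LK LD1_c10 LD2_c16 LD3_c8) Lrfl Lrfl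
theorem f571178 : Led Lsl_gt (LP (LK LD1_c7 LD2_c5 LD3_c42)) = (LP (LK LD1_c10 LD2_c16 LD3_c8)) :=
  Lgr Lrot131 (Lpe (K34.f97392 IH) (Lpr_dt (K3.f97390 IH) (Lpe (K3.f97371 IH) (Lpe (K3.f10463 IH) (Lpe (K3.f98498 IH) (Lpe (f96999 IH) (Lpr_dt (f97000 IH) (Lpr_gf (f571166 IH) (Lpe (f273019 IH) (Lpr_et (f273120 IH) (Lpn (LP (LK LD1_c10 LD2_c16 LD3_c8)))))))))))))
theorem f98316 : Led Lsl_ct (LP (LK LD1_c22 LD2_c47 LD3_c47)) = (LP (LK LD1_c13 LD2_c28 LD3_c14)) :=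
  Lre_c IH (LK LD1_c22 LD2_c47 LD3_c47) (LK LD1_c13 LD2_c28 LD3_c14) Lrfl Lrfl
theorem f6557 : Led Lsl_gt (LP (LK LD1_c3 LD2_c33 LD3_c44)) = (LP (LK LD1_c7 LD2_c8 LD3_c17)) :=
  Lre_g IH (LK LD1_c3 LD2_c33 LD3_c44) (LK LD1_c7 LD2_c8 LD3_c17) Lrfl Lrfl
theorem f98313 : Led Lsl_gf (LP (LK LD1_c3 LD2_c37 LD3_c7)) = (LP (LK LD1_c7 LD2_c8 LD3_c17)) :=
  Lgr Lrot76 (Lpr_af (K36.f98303 IH) (Lpe (K36.f98184 IH) (Lpr_gt (f6557 IH) (Lpn (LP (LK LD1_c7 LD2_c8 LD3_c17))))))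
theorem f571180 : Led Lsl_cf (LP (LK LD1_c7 LD2_c8 LD3_c17)) = (LP (LK LD1_c10 LD2_c16 LD3_c8)) :=
  Lgr Lrot169 (Lpe (f98313 IH) (Lpr_ct (K36.f98311 IH) (Lpe (K41.f98315 IH) (Lpe (f98316 IH) (Lpe (K41.f98320 IH) (Lpr_cf (K41.f541012 IH) (Lpr_gf (K41.f540612 IH) (Lpe (K34.f97393 IH) (Lpr_gt (f571178 IH) (Lpn (LP (LK LD1_c10 LD2_c16 LD3_c8))))))))))))
theorem f241832 : Led Lsl_bt (LP (LK LD1_c10 LD2_c16 LD3_c8)) = (LP (LK LD1_c5 LD2_c12 LD3_c55)) :=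
  Lre_b IH (LK LD1_c10 LD2_c16 LD3_c8) (LK LD1_c5 LD2_c12 LD3_c55) Lrfl Lrfl
theorem f241545 : Led Lsl_at (LP (LK LD1_c4 LD2_c27 LD3_c6)) = (LP (LK LD1_c5 LD2_c0 LD3_c33)) :=
  Lgr Lrot100 (Lpr_af (K13.f241539 IH) (Lpn (LP (LK LD1_c5 LD2_c0 LD3_c33))))
theorem f568622 : Led Lsl_gf (LP (LK LD1_c8 LD2_c43 LD3_c6)) = (LP (LK LD1_c5 LD2_c12 LD3_c55)) :=
  Lgr Lrot47 (Lpr_gt (f568620 IH) (Lpe (f241545 IH) (Lpe (K16.f272332 IH) (Lpn (LP (LK LD1_c5 LD2_c12 LD3_c55))))))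
theorem f568626 : Led Lsl_ct (LP (LK LD1_c8 LD2_c43 LD3_c6)) = (LP (LK LD1_c5 LD2_c0 LD3_c29)) :=
  Lgr Lrot8 (Lpr_gt (f568620 IH) (Lpr_dt (K13.f227854 IH) (Lpr_gt (K12.f29235 IH) (Lpr_dt (K1.f29222 IH) (Lpe (K1.f29224 IH) (Lpe (K1.f29217 IH) (Lpe (K10.f29234 IH) (Lpr_df (K10.f37196 IH) (Lpe (K13.f227494 IH) (Lpn (LP (LK LD1_c5 LD2_c0 LD3_c29))))))))))))
theorem f571194 : Led Lsl_bf (LP (LK LD1_c3 LD2_c37 LD3_c5)) = (LP (LK LD1_c6 LD2_c14 LD3_c5)) :=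
  Lgr Lrot156 (Lpr_gt (f6556 IH) (Lpr_bf (K36.f6129 IH) (Lpr_ct (f6131 IH) (Lpr_gt (f6557 IH) (Lpr_cf (f571180 IH) (Lpr_bt (f241832 IH) (Lpe (f568622 IH) (Lpr_ct (f568626 IH) (Lpr_gt (K13.f227494 IH) (Lpe (K10.f37198 IH) (Lpn (LP (LK LD1_c6 LD2_c14 LD3_c5)))))))))))))
theorem f10684 : Led Lsl_gt (LP (LK LD1_c3 LD2_c32 LD3_c48)) = (LP (LK LD1_c7 LD2_c6 LD3_c30)) :=
  Lre_g IH (LK LD1_c3 LD2_c32 LD3_c48) (LK LD1_c7 LD2_c6 LD3_c30) Lrfl Lrfl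
theorem f211617 : Led Lsl_bt (LP (LK LD1_c8 LD2_c3 LD3_c41)) = (LP (LK LD1_c4 LD2_c1 LD3_c32)) :=
  Lre_b IH (LK LD1_c8 LD2_c3 LD3_c41) (LK LD1_c4 LD2_c1 LD3_c32) Lrfl Lrfl
theorem f571204 : Led Lsl_cf (LP (LK LD1_c7 LD2_c6 LD3_c30)) = (LP (LK LD1_c8 LD2_c3 LD3_c41)) :=
  Lgr Lrot163 (Lpe (f10684 IH) (Lpe (K36.f98333 IH) (Lpe (f6556 IH) (Lpr_bf (f571194 IH) (Lpr_ct (K10.f37198 IH) (Lpe (K13.f227494 IH) (Lpe (f568626 IH) (Lpr_bt (f173311 IH) (Lpe (K18.f272549 IH) (Lpe (f211617 IH) (Lpn (LP (LK LD1_c8 LD2_c3 LD3_c41)))))))))))))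
theorem f6529 : Led Lsl_gt (LP (LK LD1_c7 LD2_c6 LD3_c30)) = (LP (LK LD1_c3 LD2_c33 LD3_c48)) :=
  Lre_g IH (LK LD1_c7 LD2_c6 LD3_c30) (LK LD1_c3 LD2_c33 LD3_c48) Lrfl Lrfl
theorem f6173 : Led Lsl_gt (LP (LK LD1_c7 LD2_c8 LD3_c30)) = (LP (LK LD1_c13 LD2_c28 LD3_c12)) :=
  Lre_g IH (LK LD1_c7 LD2_c8 LD3_c30) (LK LD1_c13 LD2_c28 LD3_c12) Lrfl Lrfl
theorem f97204 : Led Lsl_dt (LP (LK LD1_c13 LD2_c28 LD3_c12)) = (LP (LK LD1_c7 LD2_c17 LD3_c30)) :=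
  Lgr Lrot42 (Lpr_df (K41.f97199 IH) (Lpn (LP (LK LD1_c7 LD2_c17 LD3_c30))))
theorem f36018 : Led Lsl_ft (LP (LK LD1_c8 LD2_c46 LD3_c61)) = (LP (LK LD1_c4 LD2_c24 LD3_c45)) :=
  Lre_f IH (LK LD1_c8 LD2_c46 LD3_c61) (LK LD1_c4 LD2_c24 LD3_c45) Lrfl Lrfl
theorem f565809 : Led Lsl_cf (LP (LK LD1_c8 LD2_c46 LD3_c61)) = (LP (LK LD1_c7 LD2_c17 LD3_c30)) :=
  Lgr Lrot108 (Lpr_ft (f36018 IH) (Lpe (K41.f38473 IH) (Lpr_ft (K41.f565805 IH) (Lpn (LP (LK LD1_c7 LD2_c17 LD3_c30))))))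
theorem f568796 : Led Lsl_dt (LP (LK LD1_c16 LD2_c26 LD3_c3)) = (LP (LK LD1_c8 LD2_c46 LD3_c61)) :=
  Lre_d IH (LK LD1_c16 LD2_c26 LD3_c3) (LK LD1_c8 LD2_c46 LD3_c61) Lrfl Lrfl
theorem f571214 : Led Lsl_df (LP (LK LD1_c8 LD2_c47 LD3_c12)) = (LP (LK LD1_c7 LD2_c39 LD3_c19)) :=
  Lgr Lrot153 (Lpr_gt (K41.f420825 IH) (Lpr_dt (f568796 IH) (Lpr_cf (f565809 IH) (Lpe (f97204 IH) (Lpe (f6173 IH) (Lpe (K3.f6518 IH) (Lpe (f6529 IH) (Lpr_cf (f571204 IH) (Lpr_gt (f570102 IH) (Lpn (LP (LK LD1_c7 LD2_c39 LD3_c19))))))))))))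
theorem f38479 : Led Lsl_dt (LP (LK LD1_c2 LD2_c9 LD3_c53)) = (LP (LK LD1_c4 LD2_c24 LD3_c52)) :=
  Lre_d IH (LK LD1_c2 LD2_c9 LD3_c53) (LK LD1_c4 LD2_c24 LD3_c52) Lrfl Lrfl
theorem f70521 : Led Lsl_gt (LP (LK LD1_c16 LD2_c25 LD3_c55)) = (LP (LK LD1_c8 LD2_c46 LD3_c56)) :=
  Lre_g IH (LK LD1_c16 LD2_c25 LD3_c55) (LK LD1_c8 LD2_c46 LD3_c56) Lrfl Lrfl
theorem f571232 : Led Lsl_df (LP (LK LD1_c16 LD2_c25 LD3_c55)) = (LP (LK LD1_c13 LD2_c26 LD3_c44)) :=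
  Lgr Lrot135 (Lpr_gt (f70521 IH) (Lpe (f36012 IH) (Lpr_et (K39.f36011 IH) (Lpr_gt (K6.f36004 IH) (Lpe (K1.f35991 IH) (Lpr_dt (f38479 IH) (Lpr_gt (K41.f272534 IH) (Lpr_df (f571214 IH) (Lpr_et (f97452 IH) (Lpr_gt (K41.f97438 IH) (Lpn (LP (LK LD1_c13 LD2_c26 LD3_c44)))))))))))))
theorem f410585 : Led Lsl_at (LP (LK LD1_c6 LD2_c15 LD3_c14)) = (LP (LK LD1_c12 LD2_c8 LD3_c43)) :=
  Lre_a IH (LK LD1_c6 LD2_c15 LD3_c14) (LK LD1_c12 LD2_c8 LD3_c43) Lrfl Lrfl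
theorem f556192 : Led Lsl_gf (LP (LK LD1_c12 LD2_c8 LD3_c43)) = (LP (LK LD1_c7 LD2_c56 LD3_c40)) :=
  Lgr Lrot76 (Lpe (f410585 IH) (Lpe (K39.f410583 IH) (Lpr_gt (K39.f556186 IH) (Lpn (LP (LK LD1_c7 LD2_c56 LD3_c40))))))
theorem f571240 : Led Lsl_ef (LP (LK LD1_c12 LD2_c8 LD3_c43)) = (LP (LK LD1_c13 LD2_c26 LD3_c44)) :=
  Lgr Lrot17 (Lpr_gf (f556192 IH) (Lpe (K39.f59404 IH) (Lpe (K8.f137947 IH) (Lpe (K6.f36039 IH) (Lpe (K5.f35994 IH) (Lpe (K6.f36004 IH) (Lpe (K39.f36011 IH) (Lpr_dt (f36012 IH) (Lpe (f70521 IH) (Lpr_df (f571232 IH) (Lpn (LP (LK LD1_c13 LD2_c26 LD3_c44)))))))))))))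
theorem f142227 : Led Lsl_et (LP (LK LD1_c9 LD2_c9 LD3_c37)) = (LP (LK LD1_c17 LD2_c2 LD3_c35)) :=
  Lre_e IH (LK LD1_c9 LD2_c9 LD3_c37) (LK LD1_c17 LD2_c2 LD3_c35) Lrfl Lrfl
theorem f193428 : Led Lsl_et (LP (LK LD1_c15 LD2_c13 LD3_c44)) = (LP (LK LD1_c8 LD2_c5 LD3_c15)) :=
  Lre_e IH (LK LD1_c15 LD2_c13 LD3_c44) (LK LD1_c8 LD2_c5 LD3_c15) Lrfl Lrfl
theorem f540840 : Led Lsl_dt (LP (LK LD1_c17 LD2_c2 LD3_c35)) = (LP (LK LD1_c15 LD2_c13 LD3_c44)) :=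
  Lgr Lrot77 (Lpe (f142227 IH) (Lpe (K36.f142217 IH) (Lpr_ef (f540836 IH) (Lpe (f193424 IH) (Lpe (f193428 IH) (Lpn (LP (LK LD1_c15 LD2_c13 LD3_c44))))))))
theorem f142255 : Led Lsl_at (LP (LK LD1_c9 LD2_c9 LD3_c40)) = (LP (LK LD1_c17 LD2_c2 LD3_c35)) :=
  Lre_a IH (LK LD1_c9 LD2_c9 LD3_c40) (LK LD1_c17 LD2_c2 LD3_c35) Lrfl Lrfl
theorem f540842 : Led Lsl_dt (LP (LK LD1_c17 LD2_c2 LD3_c37)) = (LP (LK LD1_c9 LD2_c9 LD3_c40)) :=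
  Lre_d IH (LK LD1_c17 LD2_c2 LD3_c37) (LK LD1_c9 LD2_c9 LD3_c40) Lrfl Lrfl
theorem f540843 : Led Lsl_af (LP (LK LD1_c17 LD2_c2 LD3_c37)) = (LP (LK LD1_c15 LD2_c13 LD3_c44)) :=
  Lgr Lrot117 (Lpr_dt (f540842 IH) (Lpr_at (f142255 IH) (Lpr_dt (f540840 IH) (Lpn (LP (LK LD1_c15 LD2_c13 LD3_c44))))))
theorem f540847 : Led Lsl_at (LP (LK LD1_c17 LD2_c2 LD3_c37)) = (LP (LK LD1_c15 LD2_c13 LD3_c44)) :=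
  Lgr Lrot100 (Lpr_af (f540843 IH) (Lpn (LP (LK LD1_c15 LD2_c13 LD3_c44))))
theorem f540856 : Led Lsl_et (LP (LK LD1_c9 LD2_c9 LD3_c42)) = (LP (LK LD1_c17 LD2_c2 LD3_c37)) :=
  Lre_e IH (LK LD1_c9 LD2_c9 LD3_c42) (LK LD1_c17 LD2_c2 LD3_c37) Lrfl Lrfl
theorem f540857 : Led Lsl_af (LP (LK LD1_c9 LD2_c9 LD3_c42)) = (LP (LK LD1_c8 LD2_c5 LD3_c15)) :=
  Lgr Lrot50 (Lpr_et (f540856 IH) (Lpr_at (f540847 IH) (Lpr_et (f193428 IH) (Lpn (LP (LK LD1_c8 LD2_c5 LD3_c15))))))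
theorem f570083 : Led Lsl_af (LP (LK LD1_c8 LD2_c3 LD3_c48)) = (LP (LK LD1_c13 LD2_c50 LD3_c45)) :=
  Lgr Lrot45 (Lpr_ft (f282293 IH) (Lpe (f540857 IH) (Lpr_ft (f570081 IH) (Lpn (LP (LK LD1_c13 LD2_c50 LD3_c45))))))
theorem f570530 : Led Lsl_gt (LP (LK LD1_c15 LD2_c10 LD3_c22)) = (LP (LK LD1_c8 LD2_c3 LD3_c48)) :=
  Lgr Lrot46 (Lpr_gf (f570528 IH) (Lpr_ft (f570081 IH) (Lpe (f570083 IH) (Lpn (LP (LK LD1_c8 LD2_c3 LD3_c48))))))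
theorem f175031 : Led Lsl_dt (LP (LK LD1_c12 LD2_c5 LD3_c20)) = (LP (LK LD1_c21 LD2_c10 LD3_c59)) :=
  Lre_d IH (LK LD1_c12 LD2_c5 LD3_c20) (LK LD1_c21 LD2_c10 LD3_c59) Lrfl Lrfl
theorem f571242 : Led Lsl_gf (LP (LK LD1_c16 LD2_c25 LD3_c55)) = (LP (LK LD1_c21 LD2_c10 LD3_c59)) :=
  Lgr Lrot134 (Lpr_df (f571232 IH) (Lpe (f571240 IH) (Lpr_gt (f566642 IH) (Lpr_ef (f569495 IH) (Lpr_dt (f242248 IH) (Lpr_gt (f570530 IH) (Lpe (K37.f272165 IH) (Lpe (K37.f175024 IH) (Lpr_gt (K41.f175030 IH) (Lpr_dt (f175031 IH) (Lpn (LP (LK LD1_c21 LD2_c10 LD3_c59)))))))))))))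
theorem f571246 : Led Lsl_ff (LP (LK LD1_c14 LD2_c59 LD3_c34)) = (LP (LK LD1_c21 LD2_c10 LD3_c59)) :=
  Lgr Lrot52 (Lpe (K39.f150084 IH) (Lpe (f70521 IH) (Lpr_gf (f571242 IH) (Lpn (LP (LK LD1_c21 LD2_c10 LD3_c59))))))
theorem f571259 : Led Lsl_ft (LP (LK LD1_c14 LD2_c59 LD3_c34)) = (LP (LK LD1_c21 LD2_c10 LD3_c59)) :=
  Lgr Lrot48 (Lpr_ff (f571246 IH) (Lpn (LP (LK LD1_c21 LD2_c10 LD3_c59))))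
theorem f565435 : Led Lsl_dt (LP (LK LD1_c21 LD2_c10 LD3_c59)) = (LP (LK LD1_c12 LD2_c5 LD3_c20)) :=
  Lre_d IH (LK LD1_c21 LD2_c10 LD3_c59) (LK LD1_c12 LD2_c5 LD3_c20) Lrfl Lrfl
theorem f571263 : Led Lsl_ff (LP (LK LD1_c7 LD2_c56 LD3_c49)) = (LP (LK LD1_c12 LD2_c5 LD3_c20)) :=
  Lgr Lrot19 (Lpr_dt (K39.f36054 IH) (Lpr_ft (f571259 IH) (Lpr_dt (f565435 IH) (Lpn (LP (LK LD1_c12 LD2_c5 LD3_c20))))))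
theorem f150053 : Led Lsl_ft (LP (LK LD1_c1 LD2_c22 LD3_c42)) = (LP (LK LD1_c2 LD2_c15 LD3_c8)) :=
  Lgr Lrot75 (Lpe (K6.f137896 IH) (Lpr_ff (K7.f150049 IH) (Lpe (K7.f37769 IH) (Lpn (LP (LK LD1_c2 LD2_c15 LD3_c8))))))
theorem f559781 : Led Lsl_ft (LP (LK LD1_c4 LD2_c35 LD3_c55)) = (LP (LK LD1_c8 LD2_c0 LD3_c11)) :=
  Lgr Lrot86 (Lpe (K39.f37856 IH) (Lpe (f150053 IH) (Lpr_ef (K38.f500427 IH) (Lpqs (K38.f541392 IH) (Lpr_ff (K39.f423574 IH) (Lpr_ef (K40.f559772 IH) (Lpn (LP (LK LD1_c8 LD2_c0 LD3_c11)))))))))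
theorem f571265 : Led Lsl_bt (LP (LK LD1_c8 LD2_c0 LD3_c11)) = (LP (LK LD1_c12 LD2_c5 LD3_c20)) :=
  Lgr Lrot35 (Lpe (f559781 IH) (Lpr_bf (K36.f37837 IH) (Lpr_ff (f571263 IH) (Lpn (LP (LK LD1_c12 LD2_c5 LD3_c20))))))
theorem f442645 : Led Lsl_ct (LP (LK LD1_c5 LD2_c53 LD3_c37)) = (LP (LK LD1_c2 LD2_c53 LD3_c9)) :=
  Lre_c IH (LK LD1_c5 LD2_c53 LD3_c37) (LK LD1_c2 LD2_c53 LD3_c9) Lrfl Lrfl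
theorem f81853 : Led Lsl_bf (LP (LK LD1_c2 LD2_c53 LD3_c26)) = (LP (LK LD1_c2 LD2_c54 LD3_c11)) :=
  Lgr Lrot24 (Lpr_bt (K6.f81842 IH) (Lpn (LP (LK LD1_c2 LD2_c54 LD3_c11))))
theorem f571267 : Led Lsl_gf (LP (LK LD1_c5 LD2_c53 LD3_c37)) = (LP (LK LD1_c2 LD2_c53 LD3_c26)) :=
  Lgr Lrot181 (Lpr_ct (f442645 IH) (Lpr_gt (K40.f541378 IH) (Lpr_cf (K41.f559768 IH) (Lpr_bt (f571265 IH) (Lpr_gt (K41.f565436 IH) (Lpe (K35.f538523 IH) (Lpr_ct (K36.f537986 IH) (Lpqs (K35.f541554 IH) (Lpqs (K36.f541553 IH) (Lpe (K36.f500517 IH) (Lpe (K39.f81855 IH) (Lpe (f81853 IH) (Lpn (LP (LK LD1_c2 LD2_c53 LD3_c26)))))))))))))))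
theorem f539981 : Led Lsl_dt (LP (LK LD1_c5 LD2_c53 LD3_c37)) = (LP (LK LD1_c11 LD2_c33 LD3_c13)) :=
  Lre_d IH (LK LD1_c5 LD2_c53 LD3_c37) (LK LD1_c11 LD2_c33 LD3_c13) Lrfl Lrfl
theorem f38047 : Led Lsl_bt (LP (LK LD1_c4 LD2_c25 LD3_c35)) = (LP (LK LD1_c8 LD2_c48 LD3_c42)) :=
  Lre_b IH (LK LD1_c4 LD2_c25 LD3_c35) (LK LD1_c8 LD2_c48 LD3_c42) Lrfl Lrfl
theorem f449748 : Led Lsl_ft (LP (LK LD1_c8 LD2_c48 LD3_c42)) = (LP (LK LD1_c11 LD2_c8 LD3_c22)) :=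
  Lgr Lrot75 (Lpe (f38047 IH) (Lpr_ff (K36.f449746 IH) (Lpr_bf (K41.f419005 IH) (Lpn (LP (LK LD1_c11 LD2_c8 LD3_c22))))))
theorem f564249 : Led Lsl_df (LP (LK LD1_c8 LD2_c48 LD3_c42)) = (LP (LK LD1_c6 LD2_c14 LD3_c48)) :=
  Lgr Lrot78 (Lpr_ft (f449748 IH) (Lpr_dt (K41.f418982 IH) (Lpr_ft (K41.f564243 IH) (Lpn (LP (LK LD1_c6 LD2_c14 LD3_c48))))))
theorem f571271 : Led Lsl_gt (LP (LK LD1_c11 LD2_c33 LD3_c13)) = (LP (LK LD1_c8 LD2_c48 LD3_c42)) :=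
  Lgr Lrot139 (Lpe (f539981 IH) (Lpr_gf (f571267 IH) (Lpe (K6.f81841 IH) (Lpr_dt (K6.f69348 IH) (Lpr_gf (K11.f137508 IH) (Lpe (K6.f80263 IH) (Lpr_et (K38.f137501 IH) (Lpe (K38.f179938 IH) (Lpe (K41.f438181 IH) (Lpe (f564249 IH) (Lpn (LP (LK LD1_c8 LD2_c48 LD3_c42)))))))))))))
theorem f539994 : Led Lsl_ft (LP (LK LD1_c3 LD2_c57 LD3_c56)) = (LP (LK LD1_c5 LD2_c53 LD3_c37)) :=
  Lgr Lrot48 (Lpr_ff (K41.f539989 IH) (Lpn (LP (LK LD1_c5 LD2_c53 LD3_c37))))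
theorem f539996 : Led Lsl_ff (LP (LK LD1_c7 LD2_c57 LD3_c12)) = (LP (LK LD1_c11 LD2_c33 LD3_c13)) :=
  Lgr Lrot19 (Lpr_dt (K41.f538256 IH) (Lpr_ft (f539994 IH) (Lpr_dt (f539981 IH) (Lpn (LP (LK LD1_c11 LD2_c33 LD3_c13))))))
theorem f565551 : Led Lsl_af (LP (LK LD1_c9 LD2_c14 LD3_c10)) = (LP (LK LD1_c7 LD2_c57 LD3_c12)) :=
  Lgr Lrot0 (Lpr_at (K41.f565549 IH) (Lpn (LP (LK LD1_c7 LD2_c57 LD3_c12))))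
theorem f571275 : Led Lsl_gf (LP (LK LD1_c9 LD2_c14 LD3_c10)) = (LP (LK LD1_c8 LD2_c48 LD3_c42)) :=
  Lgr Lrot76 (Lpr_af (f565551 IH) (Lpr_ff (f539996 IH) (Lpr_gt (f571271 IH) (Lpn (LP (LK LD1_c8 LD2_c48 LD3_c42))))))
theorem f268303 : Led Lsl_dt (LP (LK LD1_c4 LD2_c39 LD3_c16)) = (LP (LK LD1_c9 LD2_c14 LD3_c10)) :=
  Lre_d IH (LK LD1_c4 LD2_c39 LD3_c16) (LK LD1_c9 LD2_c14 LD3_c10) Lrfl Lrfl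
theorem f571289 : Led Lsl_et (LP (LK LD1_c4 LD2_c39 LD3_c16)) = (LP (LK LD1_c3 LD2_c3 LD3_c15)) :=
  Lgr Lrot121 (Lpr_dt (f268303 IH) (Lpr_gf (f571275 IH) (Lpr_df (f564249 IH) (Lpr_et (K41.f438181 IH) (Lpe (K41.f543814 IH) (Lpr_ef (K41.f559183 IH) (Lpr_dt (K8.f149207 IH) (Lpe (K8.f161371 IH) (Lpe (K1.f40080 IH) (Lpr_gf (K8.f101650 IH) (Lpn (LP (LK LD1_c3 LD2_c3 LD3_c15)))))))))))))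
theorem f192728 : Led Lsl_bt (LP (LK LD1_c2 LD2_c10 LD3_c36)) = (LP (LK LD1_c2 LD2_c57 LD3_c50)) :=
  Lgr Lrot119 (Lpr_ef (K12.f192726 IH) (Lpe (K36.f192664 IH) (Lpe (K41.f192684 IH) (Lpn (LP (LK LD1_c2 LD2_c57 LD3_c50))))))
theorem f271848 : Led Lsl_ff (LP (LK LD1_c4 LD2_c39 LD3_c16)) = (LP (LK LD1_c2 LD2_c57 LD3_c50)) :=
  Lgr Lrot25 (Lpr_bt (K37.f176799 IH) (Lpr_ft (K16.f271846 IH) (Lpr_bt (f192728 IH) (Lpn (LP (LK LD1_c2 LD2_c57 LD3_c50))))))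
theorem f571293 : Led Lsl_ff (LP (LK LD1_c4 LD2_c1 LD3_c21)) = (LP (LK LD1_c3 LD2_c57 LD3_c53)) :=
  Lgr Lrot72 (Lpe (K36.f192674 IH) (Lpe (f271848 IH) (Lpr_et (f571289 IH) (Lpe (K31.f159162 IH) (Lpr_et (K37.f158969 IH) (Lpn (LP (LK LD1_c3 LD2_c57 LD3_c53))))))))
theorem f571297 : Led Lsl_ft (LP (LK LD1_c8 LD2_c3 LD3_c23)) = (LP (LK LD1_c7 LD2_c57 LD3_c6)) :=
  Lgr Lrot54 (Lpe (K41.f192671 IH) (Lpr_ff (f571293 IH) (Lpe (K38.f159186 IH) (Lpn (LP (LK LD1_c7 LD2_c57 LD3_c6))))))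
theorem f541269 : Led Lsl_gt (LP (LK LD1_c5 LD2_c13 LD3_c54)) = (LP (LK LD1_c5 LD2_c8 LD3_c11)) :=
  Lgr Lrot5 (Lpr_ft (K36.f421200 IH) (Lpe (K36.f421455 IH) (Lpr_gf (K36.f541267 IH) (Lpn (LP (LK LD1_c5 LD2_c8 LD3_c11))))))
theorem f542361 : Led Lsl_gt (LP (LK LD1_c8 LD2_c3 LD3_c23)) = (LP (LK LD1_c9 LD2_c19 LD3_c25)) :=
  Lgr Lrot49 (Lpe (K41.f192671 IH) (Lpr_gf (K37.f542357 IH) (Lpe (K16.f164082 IH) (Lpr_gt (K32.f61381 IH) (Lpr_dt (K36.f61382 IH) (Lpr_gt (f541269 IH) (Lpe (K36.f177291 IH) (Lpe (K36.f541257 IH) (Lpe (K8.f59204 IH) (Lpn (LP (LK LD1_c9 LD2_c19 LD3_c25))))))))))))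
theorem f159171 : Led Lsl_dt (LP (LK LD1_c9 LD2_c9 LD3_c28)) = (LP (LK LD1_c4 LD2_c36 LD3_c45)) :=
  Lre_d IH (LK LD1_c9 LD2_c9 LD3_c28) (LK LD1_c4 LD2_c36 LD3_c45) Lrfl Lrfl
theorem f159172 : Led Lsl_at (LP (LK LD1_c7 LD2_c57 LD3_c6)) = (LP (LK LD1_c9 LD2_c9 LD3_c28)) :=
  Lgr Lrot51 (Lpe (K38.f101679 IH) (Lpr_af (K37.f159166 IH) (Lpe (f159171 IH) (Lpn (LP (LK LD1_c9 LD2_c9 LD3_c28))))))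
theorem f571305 : Led Lsl_gt (LP (LK LD1_c9 LD2_c19 LD3_c25)) = (LP (LK LD1_c9 LD2_c9 LD3_c28)) :=
  Lgr Lrot46 (Lpe (f542361 IH) (Lpr_ft (f571297 IH) (Lpr_at (f159172 IH) (Lpn (LP (LK LD1_c9 LD2_c9 LD3_c28))))))
theorem f225679 : Led Lsl_ct (LP (LK LD1_c10 LD2_c18 LD3_c34)) = (LP (LK LD1_c5 LD2_c14 LD3_c31)) :=
  Lre_c IH (LK LD1_c10 LD2_c18 LD3_c34) (LK LD1_c5 LD2_c14 LD3_c31) Lrfl Lrfl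
theorem f177307 : Led Lsl_ct (LP (LK LD1_c5 LD2_c8 LD3_c11)) = (LP (LK LD1_c10 LD2_c6 LD3_c53)) :=
  Lre_c IH (LK LD1_c5 LD2_c8 LD3_c11) (LK LD1_c10 LD2_c6 LD3_c53) Lrfl Lrfl
theorem f288160 : Led Lsl_ff (LP (LK LD1_c10 LD2_c18 LD3_c34)) = (LP (LK LD1_c10 LD2_c6 LD3_c53)) :=
  Lgr Lrot23 (Lpr_ct (f225679 IH) (Lpr_ft (K36.f288158 IH) (Lpr_ct (f177307 IH) (Lpn (LP (LK LD1_c10 LD2_c6 LD3_c53))))))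
theorem f225678 : Led Lsl_at (LP (LK LD1_c10 LD2_c18 LD3_c34)) = (LP (LK LD1_c5 LD2_c14 LD3_c32)) :=
  Lre_a IH (LK LD1_c10 LD2_c18 LD3_c34) (LK LD1_c5 LD2_c14 LD3_c32) Lrfl Lrfl
theorem f177308 : Led Lsl_at (LP (LK LD1_c5 LD2_c8 LD3_c12)) = (LP (LK LD1_c10 LD2_c6 LD3_c53)) :=
  Lre_a IH (LK LD1_c5 LD2_c8 LD3_c12) (LK LD1_c10 LD2_c6 LD3_c53) Lrfl Lrfl
theorem f288173 : Led Lsl_ft (LP (LK LD1_c5 LD2_c14 LD3_c32)) = (LP (LK LD1_c5 LD2_c8 LD3_c12)) :=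
  Lgr Lrot101 (Lpe (f225678 IH) (Lpr_ff (f288160 IH) (Lpe (f177308 IH) (Lpn (LP (LK LD1_c5 LD2_c8 LD3_c12))))))
theorem f542355 : Led Lsl_gt (LP (LK LD1_c8 LD2_c12 LD3_c6)) = (LP (LK LD1_c10 LD2_c6 LD3_c53)) :=
  Lgr Lrot46 (Lpr_gf (K37.f542353 IH) (Lpr_ft (f288173 IH) (Lpr_at (f177308 IH) (Lpn (LP (LK LD1_c10 LD2_c6 LD3_c53))))))
theorem f177300 : Led Lsl_ct (LP (LK LD1_c10 LD2_c6 LD3_c53)) = (LP (LK LD1_c5 LD2_c8 LD3_c11)) :=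
  Lre_c IH (LK LD1_c10 LD2_c6 LD3_c53) (LK LD1_c5 LD2_c8 LD3_c11) Lrfl Lrfl
theorem f563667 : Led Lsl_gf (LP (LK LD1_c4 LD2_c42 LD3_c35)) = (LP (LK LD1_c4 LD2_c1 LD3_c25)) :=
  Lgr Lrot104 (Lpr_ct (K36.f541257 IH) (Lpr_df (K36.f177291 IH) (Lpe (f177300 IH) (Lpe (f542355 IH) (Lpe (K37.f175317 IH) (Lpe (K41.f538272 IH) (Lpe (f132776 IH) (Lpr_gt (K38.f563665 IH) (Lpr_ct (f182431 IH) (Lpn (LP (LK LD1_c4 LD2_c1 LD3_c25))))))))))))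
theorem f182437 : Led Lsl_et (LP (LK LD1_c8 LD2_c3 LD3_c31)) = (LP (LK LD1_c4 LD2_c1 LD3_c25)) :=
  Lre_e IH (LK LD1_c8 LD2_c3 LD3_c31) (LK LD1_c4 LD2_c1 LD3_c25) Lrfl Lrfl
theorem f99607 : Led Lsl_dt (LP (LK LD1_c4 LD2_c36 LD3_c45)) = (LP (LK LD1_c9 LD2_c9 LD3_c28)) :=
  Lre_d IH (LK LD1_c4 LD2_c36 LD3_c45) (LK LD1_c9 LD2_c9 LD3_c28) Lrfl Lrfl
theorem f99606 : Led Lsl_et (LP (LK LD1_c4 LD2_c36 LD3_c45)) = (LP (LK LD1_c2 LD2_c15 LD3_c35)) :=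
  Lre_e IH (LK LD1_c4 LD2_c36 LD3_c45) (LK LD1_c2 LD2_c15 LD3_c35) Lrfl Lrfl
theorem f99517 : Led Lsl_et (LP (LK LD1_c3 LD2_c3 LD3_c17)) = (LP (LK LD1_c1 LD2_c27 LD3_c32)) :=
  Lre_e IH (LK LD1_c3 LD2_c3 LD3_c17) (LK LD1_c1 LD2_c27 LD3_c32) Lrfl Lrfl
theorem f101247 : Led Lsl_gt (LP (LK LD1_c6 LD2_c13 LD3_c4)) = (LP (LK LD1_c12 LD2_c5 LD3_c3)) :=
  Lre_g IH (LK LD1_c6 LD2_c13 LD3_c4) (LK LD1_c12 LD2_c5 LD3_c3) Lrfl Lrfl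
theorem f571307 : Led Lsl_dt (LP (LK LD1_c8 LD2_c3 LD3_c31)) = (LP (LK LD1_c12 LD2_c5 LD3_c3)) :=
  Lgr Lrot37 (Lpr_et (f182437 IH) (Lpe (f563667 IH) (Lpr_dt (K36.f59223 IH) (Lpr_gt (f571305 IH) (Lpe (f99607 IH) (Lpr_et (f99606 IH) (Lpr_gt (K5.f69325 IH) (Lpe (f99517 IH) (Lpr_dt (f99518 IH) (Lpr_gt (f101247 IH) (Lpn (LP (LK LD1_c12 LD2_c5 LD3_c3)))))))))))))
theorem f571313 : Led Lsl_ff (LP (LK LD1_c9 LD2_c44 LD3_c37)) = (LP (LK LD1_c12 LD2_c5 LD3_c3)) :=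
  Lgr Lrot19 (Lpr_dt (K30.f179913 IH) (Lpe (f385273 IH) (Lpr_dt (f571307 IH) (Lpn (LP (LK LD1_c12 LD2_c5 LD3_c3))))))
theorem f385963 : Led Lsl_ff (LP (LK LD1_c1 LD2_c57 LD3_c39)) = (LP (LK LD1_c1 LD2_c58 LD3_c4)) :=
  Lgr Lrot3 (Lpr_ft (f385953 IH) (Lpn (LP (LK LD1_c1 LD2_c58 LD3_c4))))
theorem f262298 : Led Lsl_ft (LP (LK LD1_c1 LD2_c56 LD3_c58)) = (LP (LK LD1_c1 LD2_c56 LD3_c41)) :=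
  Lgr Lrot54 (Lpe (K13.f201465 IH) (Lpr_ff (K15.f262292 IH) (Lpe (K12.f210732 IH) (Lpn (LP (LK LD1_c1 LD2_c56 LD3_c41))))))
theorem f385967 : Led Lsl_ft (LP (LK LD1_c3 LD2_c59 LD3_c60)) = (LP (LK LD1_c4 LD2_c2 LD3_c11)) :=
  Lgr Lrot86 (Lpe (K12.f210731 IH) (Lpe (f262298 IH) (Lpr_ef (K13.f69716 IH) (Lpr_ff (f385963 IH) (Lpe (K18.f242138 IH) (Lpn (LP (LK LD1_c4 LD2_c2 LD3_c11))))))))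
theorem f385971 : Led Lsl_ff (LP (LK LD1_c8 LD2_c1 LD3_c2)) = (LP (LK LD1_c5 LD2_c53 LD3_c16)) :=
  Lgr Lrot19 (Lpr_dt (K18.f210745 IH) (Lpr_ft (f385967 IH) (Lpe (K18.f227782 IH) (Lpn (LP (LK LD1_c5 LD2_c53 LD3_c16))))))
theorem f385979 : Led Lsl_at (LP (LK LD1_c8 LD2_c1 LD3_c2)) = (LP (LK LD1_c4 LD2_c56 LD3_c37)) :=
  Lgr Lrot26 (Lpr_ff (f385971 IH) (Lpr_gt (K18.f24434 IH) (Lpr_gt (K11.f211167 IH) (Lpn (LP (LK LD1_c4 LD2_c56 LD3_c37))))))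
theorem f385983 : Led Lsl_af (LP (LK LD1_c15 LD2_c5 LD3_c44)) = (LP (LK LD1_c9 LD2_c44 LD3_c38)) :=
  Lgr Lrot68 (Lpr_ct (K18.f210752 IH) (Lpr_at (f385979 IH) (Lpr_ct (K12.f182387 IH) (Lpn (LP (LK LD1_c9 LD2_c44 LD3_c38))))))
theorem f385997 : Led Lsl_ft (LP (LK LD1_c15 LD2_c10 LD3_c16)) = (LP (LK LD1_c9 LD2_c44 LD3_c38)) :=
  Lgr Lrot2 (Lpe (K18.f227444 IH) (Lpr_gt (K18.f272638 IH) (Lpr_af (f385983 IH) (Lpn (LP (LK LD1_c9 LD2_c44 LD3_c38))))))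
theorem f386003 : Led Lsl_ff (LP (LK LD1_c8 LD2_c3 LD3_c33)) = (LP (LK LD1_c4 LD2_c56 LD3_c37)) :=
  Lgr Lrot23 (Lpr_ct (K18.f182420 IH) (Lpr_ft (f385997 IH) (Lpr_ct (K12.f182418 IH) (Lpn (LP (LK LD1_c4 LD2_c56 LD3_c37))))))
theorem f571315 : Led Lsl_bt (LP (LK LD1_c8 LD2_c3 LD3_c33)) = (LP (LK LD1_c12 LD2_c5 LD3_c3)) :=
  Lgr Lrot35 (Lpr_ff (f386003 IH) (Lpe (K30.f210393 IH) (Lpr_ff (f571313 IH) (Lpn (LP (LK LD1_c12 LD2_c5 LD3_c3))))))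
theorem f272575 : Led Lsl_bt (LP (LK LD1_c4 LD2_c58 LD3_c5)) = (LP (LK LD1_c9 LD2_c47 LD3_c4)) :=
  Lre_b IH (LK LD1_c4 LD2_c58 LD3_c5) (LK LD1_c9 LD2_c47 LD3_c4) Lrfl Lrfl
theorem f272576 : Led Lsl_gt (LP (LK LD1_c17 LD2_c57 LD3_c17)) = (LP (LK LD1_c9 LD2_c47 LD3_c4)) :=
  Lre_g IH (LK LD1_c17 LD2_c57 LD3_c17) (LK LD1_c9 LD2_c47 LD3_c4) Lrfl Lrfl
theorem f549082 : Led Lsl_gf (LP (LK LD1_c11 LD2_c39 LD3_c18)) = (LP (LK LD1_c12 LD2_c5 LD3_c3)) :=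
  Lgr Lrot76 (Lpe (K38.f549053 IH) (Lpr_ff (K38.f549065 IH) (Lpr_gt (f101247 IH) (Lpn (LP (LK LD1_c12 LD2_c5 LD3_c3))))))
theorem f559914 : Led Lsl_gt (LP (LK LD1_c20 LD2_c38 LD3_c49)) = (LP (LK LD1_c21 LD2_c10 LD3_c25)) :=
  Lgr Lrot5 (Lpe (f559912 IH) (Lpr_at (f559904 IH) (Lpe (f101196 IH) (Lpn (LP (LK LD1_c21 LD2_c10 LD3_c25))))))
theorem f571319 : Led Lsl_bf (LP (LK LD1_c17 LD2_c57 LD3_c17)) = (LP (LK LD1_c17 LD2_c1 LD3_c39)) :=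
  Lgr Lrot156 (Lpr_gt (f272576 IH) (Lpe (f272575 IH) (Lpr_ct (K18.f82176 IH) (Lpr_gt (K18.f272564 IH) (Lpe (K18.f182420 IH) (Lpr_bt (f571315 IH) (Lpe (f549082 IH) (Lpr_ct (K38.f418479 IH) (Lpr_gt (f559914 IH) (Lpe (f569285 IH) (Lpn (LP (LK LD1_c17 LD2_c1 LD3_c39)))))))))))))
theorem f101052 : Led Lsl_bt (LP (LK LD1_c6 LD2_c13 LD3_c4)) = (LP (LK LD1_c3 LD2_c3 LD3_c20)) :=
  Lre_b IH (LK LD1_c6 LD2_c13 LD3_c4) (LK LD1_c3 LD2_c3 LD3_c20) Lrfl Lrfl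
theorem f36898 : Led Lsl_bt (LP (LK LD1_c8 LD2_c2 LD3_c3)) = (LP (LK LD1_c15 LD2_c7 LD3_c33)) :=
  Lre_b IH (LK LD1_c8 LD2_c2 LD3_c3) (LK LD1_c15 LD2_c7 LD3_c33) Lrfl Lrfl
theorem f571329 : Led Lsl_gf (LP (LK LD1_c17 LD2_c57 LD3_c17)) = (LP (LK LD1_c15 LD2_c7 LD3_c33)) :=
  Lgr Lrot124 (Lpr_bf (f571319 IH) (Lpr_ct (f569285 IH) (Lpr_gt (f101196 IH) (Lpe (f101235 IH) (Lpr_bt (f101052 IH) (Lpr_gt (K13.f101073 IH) (Lpr_ct (K13.f101382 IH) (Lpr_gt (K37.f241246 IH) (Lpr_cf (K1.f36886 IH) (Lpr_bt (f36898 IH) (Lpn (LP (LK LD1_c15 LD2_c7 LD3_c33)))))))))))))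
theorem f571323 : Led Lsl_ct (LP (LK LD1_c17 LD2_c57 LD3_c17)) = (LP (LK LD1_c27 LD2_c41 LD3_c51)) :=
  Lre_c IH (LK LD1_c17 LD2_c57 LD3_c17) (LK LD1_c27 LD2_c41 LD3_c51) Lrfl Lrfl
theorem f29529 : Led Lsl_dt (LP (LK LD1_c8 LD2_c1 LD3_c58)) = (LP (LK LD1_c15 LD2_c7 LD3_c33)) :=
  Lre_d IH (LK LD1_c8 LD2_c1 LD3_c58) (LK LD1_c15 LD2_c7 LD3_c33) Lrfl Lrfl
theorem f158188 : Led Lsl_ft (LP (LK LD1_c8 LD2_c2 LD3_c18)) = (LP (LK LD1_c15 LD2_c7 LD3_c61)) :=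
  Lre_f IH (LK LD1_c8 LD2_c2 LD3_c18) (LK LD1_c15 LD2_c7 LD3_c61) Lrfl Lrfl
theorem f556675 : Led Lsl_af (LP (LK LD1_c8 LD2_c50 LD3_c19)) = (LP (LK LD1_c15 LD2_c7 LD3_c61)) :=
  Lgr Lrot45 (Lpr_ft (K39.f556650 IH) (Lpe (K39.f424932 IH) (Lpr_ft (f158188 IH) (Lpn (LP (LK LD1_c15 LD2_c7 LD3_c61))))))
theorem f565844 : Led Lsl_gt (LP (LK LD1_c8 LD2_c2 LD3_c18)) = (LP (LK LD1_c15 LD2_c7 LD3_c53)) :=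
  Lgr Lrot5 (Lpr_ft (f158188 IH) (Lpe (f556675 IH) (Lpr_gf (K41.f565842 IH) (Lpn (LP (LK LD1_c15 LD2_c7 LD3_c53))))))
theorem f138767 : Led Lsl_ct (LP (LK LD1_c26 LD2_c25 LD3_c21)) = (LP (LK LD1_c16 LD2_c28 LD3_c10)) :=
  Lre_c IH (LK LD1_c26 LD2_c25 LD3_c21) (LK LD1_c16 LD2_c28 LD3_c10) Lrfl Lrfl
theorem f571331 : Led Lsl_gt (LP (LK LD1_c27 LD2_c41 LD3_c51)) = (LP (LK LD1_c26 LD2_c25 LD3_c21)) :=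
  Lgr Lrot150 (Lpe (f571323 IH) (Lpr_gf (f571329 IH) (Lpe (f29529 IH) (Lpe (K39.f556582 IH) (Lpr_ct (K41.f424934 IH) (Lpr_gt (f565844 IH) (Lpr_ct (K41.f138757 IH) (Lpe (f138766 IH) (Lpe (f138767 IH) (Lpn (LP (LK LD1_c26 LD2_c25 LD3_c21))))))))))))
theorem f138763 : Led Lsl_ct (LP (LK LD1_c31 LD2_c43 LD3_c17)) = (LP (LK LD1_c24 LD2_c56 LD3_c45)) :=
  Lre_c IH (LK LD1_c31 LD2_c43 LD3_c17) (LK LD1_c24 LD2_c56 LD3_c45) Lrfl Lrfl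
theorem f138765 : Led Lsl_ct (LP (LK LD1_c16 LD2_c28 LD3_c10)) = (LP (LK LD1_c26 LD2_c25 LD3_c21)) :=
  Lre_c IH (LK LD1_c16 LD2_c28 LD3_c10) (LK LD1_c26 LD2_c25 LD3_c21) Lrfl Lrfl
theorem f426411 : Led Lsl_af (LP (LK LD1_c31 LD2_c43 LD3_c17)) = (LP (LK LD1_c26 LD2_c25 LD3_c21)) :=
  Lgr Lrot68 (Lpr_ct (f138763 IH) (Lpr_at (f426406 IH) (Lpr_ct (f138765 IH) (Lpn (LP (LK LD1_c26 LD2_c25 LD3_c21))))))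
theorem f426413 : Led Lsl_at (LP (LK LD1_c31 LD2_c43 LD3_c17)) = (LP (LK LD1_c26 LD2_c25 LD3_c21)) :=
  Lgr Lrot100 (Lpr_af (f426411 IH) (Lpn (LP (LK LD1_c26 LD2_c25 LD3_c21))))
theorem f565059 : Led Lsl_ct (LP (LK LD1_c16 LD2_c28 LD3_c38)) = (LP (LK LD1_c26 LD2_c25 LD3_c40)) :=
  Lre_c IH (LK LD1_c16 LD2_c28 LD3_c38) (LK LD1_c26 LD2_c25 LD3_c40) Lrfl Lrfl
theorem f570581 : Led Lsl_ft (LP (LK LD1_c26 LD2_c25 LD3_c40)) = (LP (LK LD1_c31 LD2_c43 LD3_c17)) :=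
  Lgr Lrot4 (Lpe (f565059 IH) (Lpr_ff (f570577 IH) (Lpe (f138763 IH) (Lpn (LP (LK LD1_c31 LD2_c43 LD3_c17))))))
theorem f571334 : Led Lsl_gf (LP (LK LD1_c27 LD2_c41 LD3_c51)) = (LP (LK LD1_c26 LD2_c25 LD3_c40)) :=
  Lgr Lrot47 (Lpr_gt (f571331 IH) (Lpe (f426413 IH) (Lpe (f570581 IH) (Lpn (LP (LK LD1_c26 LD2_c25 LD3_c40))))))
theorem f571321 : Led Lsl_bt (LP (LK LD1_c17 LD2_c57 LD3_c17)) = (LP (LK LD1_c17 LD2_c1 LD3_c39)) :=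
  Lgr Lrot127 (Lpr_bf (f571319 IH) (Lpn (LP (LK LD1_c17 LD2_c1 LD3_c39))))
theorem f549100 : Led Lsl_ct (LP (LK LD1_c9 LD2_c8 LD3_c52)) = (LP (LK LD1_c17 LD2_c1 LD3_c40)) :=
  Lre_c IH (LK LD1_c9 LD2_c8 LD3_c52) (LK LD1_c17 LD2_c1 LD3_c40) Lrfl Lrfl
theorem f6142 : Led Lsl_dt (LP (LK LD1_c3 LD2_c33 LD3_c45)) = (LP (LK LD1_c7 LD2_c8 LD3_c23)) :=
  Lre_d IH (LK LD1_c3 LD2_c33 LD3_c45) (LK LD1_c7 LD2_c8 LD3_c23) Lrfl Lrfl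
theorem f565045 : Led Lsl_gf (LP (LK LD1_c8 LD2_c48 LD3_c29)) = (LP (LK LD1_c7 LD2_c8 LD3_c23)) :=
  Lgr Lrot134 (Lpe (f38494 IH) (Lpr_et (K41.f565036 IH) (Lpr_gt (K41.f160307 IH) (Lpe (K8.f10505 IH) (Lpr_dt (K5.f10504 IH) (Lpr_gt (K3.f6108 IH) (Lpe (K3.f6562 IH) (Lpr_et (K41.f6547 IH) (Lpr_gt (f6141 IH) (Lpr_dt (f6142 IH) (Lpn (LP (LK LD1_c7 LD2_c8 LD3_c23)))))))))))))
theorem f565052 : Led Lsl_bt (LP (LK LD1_c13 LD2_c31 LD3_c16)) = (LP (LK LD1_c7 LD2_c8 LD3_c23)) :=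
  Lre_b IH (LK LD1_c13 LD2_c31 LD3_c16) (LK LD1_c7 LD2_c8 LD3_c23) Lrfl Lrfl
theorem f565054 : Led Lsl_ct (LP (LK LD1_c13 LD2_c31 LD3_c16)) = (LP (LK LD1_c22 LD2_c52 LD3_c19)) :=
  Lre_c IH (LK LD1_c13 LD2_c31 LD3_c16) (LK LD1_c22 LD2_c52 LD3_c19) Lrfl Lrfl
theorem f571336 : Led Lsl_gt (LP (LK LD1_c17 LD2_c1 LD3_c40)) = (LP (LK LD1_c22 LD2_c52 LD3_c19)) :=
  Lgr Lrot149 (Lpe (f549100 IH) (Lpe (f569273 IH) (Lpe (f571321 IH) (Lpr_ct (f571323 IH) (Lpr_gf (f571334 IH) (Lpe (f565059 IH) (Lpr_bt (f565058 IH) (Lpr_gf (f565045 IH) (Lpe (f565052 IH) (Lpr_ct (f565054 IH) (Lpn (LP (LK LD1_c22 LD2_c52 LD3_c19)))))))))))))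
theorem f569276 : Led Lsl_dt (LP (LK LD1_c17 LD2_c1 LD3_c39)) = (LP (LK LD1_c11 LD2_c27 LD3_c41)) :=
  Lgr Lrot42 (Lpr_df (f569274 IH) (Lpn (LP (LK LD1_c11 LD2_c27 LD3_c41))))
theorem f210642 : Led Lsl_dt (LP (LK LD1_c4 LD2_c36 LD3_c24)) = (LP (LK LD1_c2 LD2_c15 LD3_c21)) :=
  Lre_d IH (LK LD1_c4 LD2_c36 LD3_c24) (LK LD1_c2 LD2_c15 LD3_c21) Lrfl Lrfl
theorem f569428 : Led Lsl_gf (LP (LK LD1_c6 LD2_c16 LD3_c9)) = (LP (LK LD1_c3 LD2_c5 LD3_c19)) :=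
  Lgr Lrot144 (Lpr_dt (K35.f138490 IH) (Lpe (f569182 IH) (Lpr_dt (f210642 IH) (Lpe (K38.f198304 IH) (Lpe (f210638 IH) (Lpe (f569422 IH) (Lpr_df (f569426 IH) (Lpr_gf (f556362 IH) (Lpe (f202658 IH) (Lpn (LP (LK LD1_c3 LD2_c5 LD3_c19))))))))))))
theorem f565053 : Led Lsl_ct (LP (LK LD1_c22 LD2_c52 LD3_c19)) = (LP (LK LD1_c13 LD2_c31 LD3_c16)) :=
  Lre_c IH (LK LD1_c22 LD2_c52 LD3_c19) (LK LD1_c13 LD2_c31 LD3_c16) Lrfl Lrfl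
theorem f571338 : Led Lsl_dt (LP (LK LD1_c7 LD2_c8 LD3_c21)) = (LP (LK LD1_c13 LD2_c31 LD3_c16)) :=
  Lre_d IH (LK LD1_c7 LD2_c8 LD3_c21) (LK LD1_c13 LD2_c31 LD3_c16) Lrfl Lrfl
theorem f571339 : Led Lsl_ct (LP (LK LD1_c6 LD2_c16 LD3_c9)) = (LP (LK LD1_c7 LD2_c8 LD3_c21)) :=
  Lgr Lrot110 (Lpr_gf (f569428 IH) (Lpe (f202660 IH) (Lpr_gf (f569351 IH) (Lpe (f569276 IH) (Lpr_gt (f569273 IH) (Lpr_ct (f549100 IH) (Lpr_gt (f571336 IH) (Lpr_ct (f565053 IH) (Lpe (f571338 IH) (Lpn (LP (LK LD1_c7 LD2_c8 LD3_c21))))))))))))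
theorem f548976 : Led Lsl_dt (LP (LK LD1_c5 LD2_c52 LD3_c35)) = (LP (LK LD1_c5 LD2_c38 LD3_c38)) :=
  Lgr Lrot42 (Lpr_df (K38.f548974 IH) (Lpn (LP (LK LD1_c5 LD2_c38 LD3_c38))))
theorem f100550 : Led Lsl_ft (LP (LK LD1_c6 LD2_c13 LD3_c19)) = (LP (LK LD1_c3 LD2_c3 LD3_c27)) :=
  Lre_f IH (LK LD1_c6 LD2_c13 LD3_c19) (LK LD1_c3 LD2_c3 LD3_c27) Lrfl Lrfl
theorem f549041 : Led Lsl_cf (LP (LK LD1_c4 LD2_c36 LD3_c10)) = (LP (LK LD1_c3 LD2_c3 LD3_c27)) :=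
  Lgr Lrot108 (Lpr_ft (K38.f549037 IH) (Lpe (K38.f549016 IH) (Lpr_ft (f100550 IH) (Lpn (LP (LK LD1_c3 LD2_c3 LD3_c27))))))
theorem f547296 : Led Lsl_dt (LP (LK LD1_c9 LD2_c8 LD3_c32)) = (LP (LK LD1_c4 LD2_c36 LD3_c10)) :=
  Lre_d IH (LK LD1_c9 LD2_c8 LD3_c32) (LK LD1_c4 LD2_c36 LD3_c10) Lrfl Lrfl
theorem f564210 : Led Lsl_cf (LP (LK LD1_c5 LD2_c38 LD3_c38)) = (LP (LK LD1_c9 LD2_c44 LD3_c36)) :=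
  Lgr Lrot166 (Lpr_gt (K41.f564206 IH) (Lpe (K40.f112528 IH) (Lpr_gt (K40.f100471 IH) (Lpr_dt (K7.f100452 IH) (Lpe (f549041 IH) (Lpe (f547296 IH) (Lpe (K38.f547294 IH) (Lpe (K38.f210450 IH) (Lpe (K41.f179915 IH) (Lpn (LP (LK LD1_c9 LD2_c44 LD3_c36))))))))))))
theorem f571357 : Led Lsl_gf (LP (LK LD1_c9 LD2_c44 LD3_c36)) = (LP (LK LD1_c7 LD2_c8 LD3_c21)) :=
  Lgr Lrot104 (Lpe (f564210 IH) (Lpe (f548976 IH) (Lpe (K38.f536432 IH) (Lpr_gf (K40.f536430 IH) (Lpe (K38.f71992 IH) (Lpe (K39.f202623 IH) (Lpe (K39.f202622 IH) (Lpe (f569428 IH) (Lpr_ct (f571339 IH) (Lpn (LP (LK LD1_c7 LD2_c8 LD3_c21))))))))))))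
theorem f564208 : Led Lsl_ct (LP (LK LD1_c5 LD2_c38 LD3_c38)) = (LP (LK LD1_c9 LD2_c44 LD3_c36)) :=
  Lgr Lrot8 (Lpr_gt (K41.f564206 IH) (Lpe (K40.f112528 IH) (Lpr_gt (K40.f100471 IH) (Lpr_dt (K7.f100452 IH) (Lpe (K38.f546581 IH) (Lpe (f547296 IH) (Lpe (K38.f547294 IH) (Lpe (K38.f210450 IH) (Lpe (K41.f179915 IH) (Lpn (LP (LK LD1_c9 LD2_c44 LD3_c36))))))))))))
theorem f571361 : Led Lsl_bt (LP (LK LD1_c6 LD2_c16 LD3_c9)) = (LP (LK LD1_c5 LD2_c5 LD3_c59)) :=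
  Lgr Lrot92 (Lpr_ct (f571339 IH) (Lpe (f571357 IH) (Lpe (f564208 IH) (Lpr_bt (K38.f211732 IH) (Lpe (K12.f211730 IH) (Lpr_ct (K10.f24222 IH) (Lpr_gt (K10.f26660 IH) (Lpe (K10.f26669 IH) (Lpr_bt (K41.f26670 IH) (Lpr_gt (K41.f563566 IH) (Lpn (LP (LK LD1_c5 LD2_c5 LD3_c59)))))))))))))
theorem f138496 : Led Lsl_et (LP (LK LD1_c3 LD2_c5 LD3_c9)) = (LP (LK LD1_c6 LD2_c16 LD3_c9)) :=
  Lre_e IH (LK LD1_c3 LD2_c5 LD3_c9) (LK LD1_c6 LD2_c16 LD3_c9) Lrfl Lrfl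
theorem f571368 : Led Lsl_bf (LP (LK LD1_c3 LD2_c5 LD3_c9)) = (LP (LK LD1_c2 LD2_c30 LD3_c16)) :=
  Lgr Lrot96 (Lpr_et (f138496 IH) (Lpr_bt (f571361 IH) (Lpr_et (K37.f164988 IH) (Lpn (LP (LK LD1_c2 LD2_c30 LD3_c16))))))
theorem f569458 : Led Lsl_bf (LP (LK LD1_c2 LD2_c59 LD3_c57)) = (LP (LK LD1_c5 LD2_c37 LD3_c57)) :=
  Lgr Lrot24 (Lpr_bt (f569454 IH) (Lpn (LP (LK LD1_c5 LD2_c37 LD3_c57))))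
theorem f571376 : Led Lsl_gf (LP (LK LD1_c3 LD2_c5 LD3_c9)) = (LP (LK LD1_c2 LD2_c59 LD3_c57)) :=
  Lgr Lrot124 (Lpr_bf (f571368 IH) (Lpr_ct (K38.f495425 IH) (Lpe (K38.f545112 IH) (Lpe (K8.f36548 IH) (Lpr_bt (K37.f36546 IH) (Lpqs (K38.f544988 IH) (Lpr_gt (K38.f501277 IH) (Lpqs (K38.f537804 IH) (Lpr_ct (K36.f204915 IH) (Lpq (K38.f537804 IH) (Lpe (K38.f501279 IH) (Lpqs (K38.f548366 IH) (Lpe (K38.f548374 IH) (Lpe (f569458 IH) (Lpn (LP (LK LD1_c2 LD2_c59 LD3_c57)))))))))))))))))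
theorem f547493 : Led Lsl_et (LP (LK LD1_c2 LD2_c15 LD3_c21)) = (LP (LK LD1_c4 LD2_c32 LD3_c24)) :=
  Lgr Lrot87 (Lpr_ef (K38.f547484 IH) (Lpn (LP (LK LD1_c4 LD2_c32 LD3_c24))))
theorem f548375 : Led Lsl_et (LP (LK LD1_c5 LD2_c37 LD3_c57)) = (LP (LK LD1_c2 LD2_c44 LD3_c52)) :=
  Lre_e IH (LK LD1_c5 LD2_c37 LD3_c57) (LK LD1_c2 LD2_c44 LD3_c52) Lrfl Lrfl
theorem f569462 : Led Lsl_ef (LP (LK LD1_c2 LD2_c59 LD3_c57)) = (LP (LK LD1_c3 LD2_c5 LD3_c1)) :=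
  Lgr Lrot29 (Lpr_bt (f569454 IH) (Lpr_et (f548375 IH) (Lpe (K39.f556755 IH) (Lpn (LP (LK LD1_c3 LD2_c5 LD3_c1))))))
theorem f571383 : Led Lsl_gt (LP (LK LD1_c5 LD2_c42 LD3_c1)) = (LP (LK LD1_c6 LD2_c15 LD3_c54)) :=
  Lgr Lrot139 (Lpe (K39.f269095 IH) (Lpe (K39.f552070 IH) (Lpe (f547493 IH) (Lpr_dt (f443051 IH) (Lpr_gf (f569182 IH) (Lpe (K35.f138490 IH) (Lpr_et (K35.f138488 IH) (Lpr_gf (f571376 IH) (Lpr_ef (f569462 IH) (Lpr_dt (K39.f132935 IH) (Lpn (LP (LK LD1_c6 LD2_c15 LD3_c54)))))))))))))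
theorem f556426 : Led Lsl_et (LP (LK LD1_c4 LD2_c5 LD3_c39)) = (LP (LK LD1_c8 LD2_c12 LD3_c5)) :=
  Lre_e IH (LK LD1_c4 LD2_c5 LD3_c39) (LK LD1_c8 LD2_c12 LD3_c5) Lrfl Lrfl
theorem f175979 : Led Lsl_gt (LP (LK LD1_c6 LD2_c7 LD3_c37)) = (LP (LK LD1_c2 LD2_c59 LD3_c60)) :=
  Lre_g IH (LK LD1_c6 LD2_c7 LD3_c37) (LK LD1_c2 LD2_c59 LD3_c60) Lrfl Lrfl
theorem f544507 : Led Lsl_dt (LP (LK LD1_c4 LD2_c5 LD3_c39)) = (LP (LK LD1_c6 LD2_c7 LD3_c37)) :=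
  Lgr Lrot57 (Lpe (K41.f538298 IH) (Lpe (K39.f159188 IH) (Lpe (K37.f544496 IH) (Lpr_dt (K37.f201613 IH) (Lpr_gt (K37.f544502 IH) (Lpr_dt (K37.f176025 IH) (Lpe (K37.f56002 IH) (Lpe (K39.f176018 IH) (Lpe (f175979 IH) (Lpn (LP (LK LD1_c6 LD2_c7 LD3_c37))))))))))))
theorem f138513 : Led Lsl_dt (LP (LK LD1_c3 LD2_c5 LD3_c9)) = (LP (LK LD1_c6 LD2_c16 LD3_c8)) :=
  Lre_d IH (LK LD1_c3 LD2_c5 LD3_c9) (LK LD1_c6 LD2_c16 LD3_c8) Lrfl Lrfl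
theorem f571392 : Led Lsl_gf (LP (LK LD1_c6 LD2_c7 LD3_c37)) = (LP (LK LD1_c6 LD2_c16 LD3_c8)) :=
  Lgr Lrot134 (Lpe (f544507 IH) (Lpr_et (f556426 IH) (Lpe (K39.f556416 IH) (Lpe (K16.f269078 IH) (Lpr_dt (K39.f269095 IH) (Lpr_gt (f571383 IH) (Lpe (K39.f132935 IH) (Lpe (f569462 IH) (Lpe (f571376 IH) (Lpr_dt (f138513 IH) (Lpn (LP (LK LD1_c6 LD2_c16 LD3_c8)))))))))))))
theorem f571398 : Led Lsl_gt (LP (LK LD1_c5 LD2_c49 LD3_c44)) = (LP (LK LD1_c3 LD2_c5 LD3_c18)) :=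
  Lgr Lrot139 (Lpr_df (K39.f396310 IH) (Lpr_gf (K39.f556416 IH) (Lpe (f556426 IH) (Lpr_dt (f544507 IH) (Lpr_gf (f571392 IH) (Lpe (f138513 IH) (Lpr_et (f138496 IH) (Lpr_gf (f569428 IH) (Lpe (K39.f503135 IH) (Lpr_dt (K39.f59009 IH) (Lpn (LP (LK LD1_c3 LD2_c5 LD3_c18)))))))))))))
theorem f546869 : Led Lsl_af (LP (LK LD1_c7 LD2_c0 LD3_c43)) = (LP (LK LD1_c9 LD2_c2 LD3_c50)) :=
  Lgr Lrot117 (Lpr_dt (K3.f64641 IH) (Lpr_at (K3.f109006 IH) (Lpr_dt (K37.f546867 IH) (Lpn (LP (LK LD1_c9 LD2_c2 LD3_c50))))))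
theorem f546879 : Led Lsl_ft (LP (LK LD1_c5 LD2_c54 LD3_c52)) = (LP (LK LD1_c9 LD2_c2 LD3_c50)) :=
  Lgr Lrot48 (Lpr_ff (K38.f546875 IH) (Lpn (LP (LK LD1_c9 LD2_c2 LD3_c50))))
theorem f556311 : Led Lsl_gt (LP (LK LD1_c5 LD2_c54 LD3_c52)) = (LP (LK LD1_c9 LD2_c45 LD3_c34)) :=
  Lgr Lrot5 (Lpr_ft (f546879 IH) (Lpe (f546869 IH) (Lpr_gf (K39.f556309 IH) (Lpn (LP (LK LD1_c9 LD2_c45 LD3_c34))))))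
theorem f541701 : Led Lsl_ct (LP (LK LD1_c9 LD2_c45 LD3_c34)) = (LP (LK LD1_c4 LD2_c57 LD3_c19)) :=
  Lre_c IH (LK LD1_c9 LD2_c45 LD3_c34) (LK LD1_c4 LD2_c57 LD3_c19) Lrfl Lrfl
theorem f59010 : Led Lsl_ct (LP (LK LD1_c3 LD2_c5 LD3_c18)) = (LP (LK LD1_c6 LD2_c16 LD3_c25)) :=
  Lre_c IH (LK LD1_c3 LD2_c5 LD3_c18) (LK LD1_c6 LD2_c16 LD3_c25) Lrfl Lrfl
theorem f450200 : Led Lsl_ct (LP (LK LD1_c11 LD2_c27 LD3_c34)) = (LP (LK LD1_c5 LD2_c49 LD3_c13)) :=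
  Lre_c IH (LK LD1_c11 LD2_c27 LD3_c34) (LK LD1_c5 LD2_c49 LD3_c13) Lrfl Lrfl
theorem f571400 : Led Lsl_gf (LP (LK LD1_c11 LD2_c27 LD3_c34)) = (LP (LK LD1_c6 LD2_c16 LD3_c25)) :=
  Lgr Lrot104 (Lpr_ct (f450200 IH) (Lpr_df (f564295 IH) (Lpe (f541701 IH) (Lpe (f556311 IH) (Lpe (K39.f202276 IH) (Lpr_gf (K39.f551653 IH) (Lpe (f396256 IH) (Lpr_gt (f571398 IH) (Lpr_ct (f59010 IH) (Lpn (LP (LK LD1_c6 LD2_c16 LD3_c25))))))))))))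
theorem f571404 : Led Lsl_df (LP (LK LD1_c4 LD2_c57 LD3_c19)) = (LP (LK LD1_c5 LD2_c49 LD3_c13)) :=
  Lgr Lrot162 (Lpe (f541701 IH) (Lpe (f556311 IH) (Lpe (K39.f202276 IH) (Lpr_gf (K39.f551653 IH) (Lpe (K39.f396310 IH) (Lpr_gt (f571398 IH) (Lpr_ct (f59010 IH) (Lpe (f571400 IH) (Lpr_ct (f450200 IH) (Lpn (LP (LK LD1_c5 LD2_c49 LD3_c13))))))))))))
theorem f565246 : Led Lsl_gt (LP (LK LD1_c5 LD2_c49 LD3_c15)) = (LP (LK LD1_c9 LD2_c2 LD3_c51)) :=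
  Lgr Lrot150 (Lpe (f186063 IH) (Lpe (K38.f176695 IH) (Lpe (K38.f548951 IH) (Lpr_gt (K41.f565240 IH) (Lpr_ct (K40.f302034 IH) (Lpe (K39.f546906 IH) (Lpr_ct (K16.f175536 IH) (Lpe (K39.f181399 IH) (Lpe (K37.f177761 IH) (Lpn (LP (LK LD1_c9 LD2_c2 LD3_c51))))))))))))
theorem f543890 : Led Lsl_df (LP (LK LD1_c7 LD2_c34 LD3_c7)) = (LP (LK LD1_c9 LD2_c2 LD3_c51)) :=
  Lgr Lrot38 (Lpr_dt (K37.f543888 IH) (Lpn (LP (LK LD1_c9 LD2_c2 LD3_c51))))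
theorem f571413 : Led Lsl_ct (LP (LK LD1_c5 LD2_c49 LD3_c27)) = (LP (LK LD1_c6 LD2_c16 LD3_c38)) :=
  Lgr Lrot7 (Lpe (K36.f61384 IH) (Lpr_gf (K36.f541698 IH) (Lpr_df (f571404 IH) (Lpe (f450195 IH) (Lpe (K40.f450187 IH) (Lpr_gt (f565246 IH) (Lpe (f543890 IH) (Lpr_gt (f568294 IH) (Lpr_dt (f568293 IH) (Lpn (LP (LK LD1_c6 LD2_c16 LD3_c38))))))))))))
theorem f202667 : Led Lsl_dt (LP (LK LD1_c3 LD2_c5 LD3_c15)) = (LP (LK LD1_c6 LD2_c16 LD3_c20)) :=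
  Lre_d IH (LK LD1_c3 LD2_c5 LD3_c15) (LK LD1_c6 LD2_c16 LD3_c20) Lrfl Lrfl
theorem f162483 : Led Lsl_at (LP (LK LD1_c3 LD2_c33 LD3_c26)) = (LP (LK LD1_c3 LD2_c36 LD3_c55)) :=
  Lgr Lrot107 (Lpe (K33.f96831 IH) (Lpr_af (K33.f162479 IH) (Lpe (K6.f96503 IH) (Lpn (LP (LK LD1_c3 LD2_c36 LD3_c55))))))
theorem f559169 : Led Lsl_af (LP (LK LD1_c3 LD2_c4 LD3_c17)) = (LP (LK LD1_c6 LD2_c14 LD3_c39)) :=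
  Lgr Lrot117 (Lpr_dt (K41.f559167 IH) (Lpr_at (f162483 IH) (Lpe (K41.f559145 IH) (Lpn (LP (LK LD1_c6 LD2_c14 LD3_c39))))))
theorem f559193 : Led Lsl_ff (LP (LK LD1_c6 LD2_c14 LD3_c39)) = (LP (LK LD1_c3 LD2_c4 LD3_c16)) :=
  Lgr Lrot52 (Lpe (f559169 IH) (Lpe (K41.f543814 IH) (Lpr_gf (K41.f559191 IH) (Lpn (LP (LK LD1_c3 LD2_c4 LD3_c16))))))
theorem f564287 : Led Lsl_ct (LP (LK LD1_c2 LD2_c50 LD3_c40)) = (LP (LK LD1_c3 LD2_c4 LD3_c16)) :=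
  Lgr Lrot40 (Lpe (K37.f450224 IH) (Lpr_cf (K41.f564283 IH) (Lpr_ff (f559193 IH) (Lpn (LP (LK LD1_c3 LD2_c4 LD3_c16))))))
theorem f450466 : Led Lsl_dt (LP (LK LD1_c6 LD2_c16 LD3_c61)) = (LP (LK LD1_c3 LD2_c5 LD3_c38)) :=
  Lre_d IH (LK LD1_c6 LD2_c16 LD3_c61) (LK LD1_c3 LD2_c5 LD3_c38) Lrfl Lrfl
theorem f571424 : Led Lsl_gf (LP (LK LD1_c5 LD2_c49 LD3_c27)) = (LP (LK LD1_c6 LD2_c16 LD3_c61)) :=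
  Lgr Lrot147 (Lpr_ct (f571413 IH) (Lpr_gt (f546758 IH) (Lpr_ct (K37.f543822 IH) (Lpe (f202667 IH) (Lpe (K41.f551678 IH) (Lpr_gf (K41.f559191 IH) (Lpe (f564287 IH) (Lpe (K40.f450463 IH) (Lpe (f450466 IH) (Lpn (LP (LK LD1_c6 LD2_c16 LD3_c61))))))))))))
theorem f558769 : Led Lsl_ct (LP (LK LD1_c12 LD2_c10 LD3_c51)) = (LP (LK LD1_c6 LD2_c16 LD3_c61)) :=
  Lre_c IH (LK LD1_c12 LD2_c10 LD3_c51) (LK LD1_c6 LD2_c16 LD3_c61) Lrfl Lrfl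
theorem f558818 : Led Lsl_dt (LP (LK LD1_c11 LD2_c35 LD3_c20)) = (LP (LK LD1_c6 LD2_c0 LD3_c8)) :=
  Lgr Lrot105 (Lpr_gf (K40.f558814 IH) (Lpe (K37.f110911 IH) (Lpe (K8.f157594 IH) (Lpe (K8.f128601 IH) (Lpr_gt (K34.f111961 IH) (Lpr_dt (f157533 IH) (Lpr_gt (K3.f95330 IH) (Lpr_dt (K3.f97508 IH) (Lpe (K7.f135973 IH) (Lpn (LP (LK LD1_c6 LD2_c0 LD3_c8))))))))))))
theorem f571426 : Led Lsl_gf (LP (LK LD1_c12 LD2_c10 LD3_c51)) = (LP (LK LD1_c11 LD2_c35 LD3_c20)) :=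
  Lgr Lrot147 (Lpr_ct (f558769 IH) (Lpe (f571424 IH) (Lpr_ct (f571413 IH) (Lpe (f568293 IH) (Lpe (f568304 IH) (Lpe (K36.f428994 IH) (Lpr_cf (K36.f428990 IH) (Lpe (K36.f135987 IH) (Lpe (f558818 IH) (Lpn (LP (LK LD1_c11 LD2_c35 LD3_c20))))))))))))
theorem f210480 : Led Lsl_ct (LP (LK LD1_c6 LD2_c16 LD3_c61)) = (LP (LK LD1_c12 LD2_c10 LD3_c51)) :=
  Lre_c IH (LK LD1_c6 LD2_c16 LD3_c61) (LK LD1_c12 LD2_c10 LD3_c51) Lrfl Lrfl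
theorem f202260 : Led Lsl_ct (LP (LK LD1_c5 LD2_c54 LD3_c56)) = (LP (LK LD1_c11 LD2_c35 LD3_c20)) :=
  Lre_c IH (LK LD1_c5 LD2_c54 LD3_c56) (LK LD1_c11 LD2_c35 LD3_c20) Lrfl Lrfl
theorem f571432 : Led Lsl_bt (LP (LK LD1_c6 LD2_c16 LD3_c61)) = (LP (LK LD1_c5 LD2_c46 LD3_c61)) :=
  Lgr Lrot22 (Lpr_ct (f210480 IH) (Lpr_gf (f571426 IH) (Lpe (f202260 IH) (Lpr_gf (K37.f202257 IH) (Lpe (K40.f202283 IH) (Lpr_ct (K11.f59053 IH) (Lpe (K11.f205161 IH) (Lpe (K11.f176658 IH) (Lpr_bt (K36.f176655 IH) (Lpe (K38.f548819 IH) (Lpn (LP (LK LD1_c5 LD2_c46 LD3_c61)))))))))))))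
theorem f558901 : Led Lsl_dt (LP (LK LD1_c11 LD2_c17 LD3_c27)) = (LP (LK LD1_c5 LD2_c43 LD3_c43)) :=
  Lre_d IH (LK LD1_c11 LD2_c17 LD3_c27) (LK LD1_c5 LD2_c43 LD3_c43) Lrfl Lrfl
theorem f568503 : Led Lsl_bf (LP (LK LD1_c11 LD2_c17 LD3_c27)) = (LP (LK LD1_c5 LD2_c54 LD3_c56)) :=
  Lgr Lrot93 (Lpr_dt (f558901 IH) (Lpr_bt (f568484 IH) (Lpr_dt (K37.f71112 IH) (Lpn (LP (LK LD1_c5 LD2_c54 LD3_c56))))))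
theorem f29549 : Led Lsl_at (LP (LK LD1_c1 LD2_c57 LD3_c11)) = (LP (LK LD1_c4 LD2_c0 LD3_c48)) :=
  Lre_a IH (LK LD1_c1 LD2_c57 LD3_c11) (LK LD1_c4 LD2_c0 LD3_c48) Lrfl Lrfl
theorem f548837 : Led Lsl_gf (LP (LK LD1_c4 LD2_c0 LD3_c48)) = (LP (LK LD1_c5 LD2_c49 LD3_c22)) :=
  Lgr Lrot76 (Lpe (f29549 IH) (Lpe (f29548 IH) (Lpr_gt (K38.f548834 IH) (Lpn (LP (LK LD1_c5 LD2_c49 LD3_c22))))))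
theorem f502616 : Led Lsl_bt (LP (LK LD1_c6 LD2_c8 LD3_c32)) = (LP (LK LD1_c11 LD2_c25 LD3_c18)) :=
  Lgr Lrot119 (Lpr_ef (K40.f502607 IH) (Lpe (K40.f136291 IH) (Lpr_ef (K40.f136285 IH) (Lpn (LP (LK LD1_c11 LD2_c25 LD3_c18))))))
theorem f571442 : Led Lsl_gf (LP (LK LD1_c11 LD2_c17 LD3_c27)) = (LP (LK LD1_c11 LD2_c25 LD3_c18)) :=
  Lgr Lrot124 (Lpr_bf (f568503 IH) (Lpr_ct (f202260 IH) (Lpe (f571426 IH) (Lpe (f210480 IH) (Lpr_bt (f571432 IH) (Lpr_gt (K38.f548819 IH) (Lpr_ct (K38.f176674 IH) (Lpe (f548837 IH) (Lpr_cf (K41.f541792 IH) (Lpr_bt (f502616 IH) (Lpn (LP (LK LD1_c11 LD2_c25 LD3_c18)))))))))))))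
theorem f382003 : Led Lsl_dt (LP (LK LD1_c5 LD2_c43 LD3_c43)) = (LP (LK LD1_c11 LD2_c17 LD3_c27)) :=
  Lre_d IH (LK LD1_c5 LD2_c43 LD3_c43) (LK LD1_c11 LD2_c17 LD3_c27) Lrfl Lrfl
theorem f132353 : Led Lsl_et (LP (LK LD1_c2 LD2_c50 LD3_c1)) = (LP (LK LD1_c1 LD2_c21 LD3_c3)) :=
  Lre_e IH (LK LD1_c2 LD2_c50 LD3_c1) (LK LD1_c1 LD2_c21 LD3_c3) Lrfl Lrfl
theorem f428113 : Led Lsl_af (LP (LK LD1_c5 LD2_c57 LD3_c54)) = (LP (LK LD1_c5 LD2_c57 LD3_c32)) :=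
  Lgr Lrot0 (Lpr_at (K38.f426188 IH) (Lpn (LP (LK LD1_c5 LD2_c57 LD3_c32))))
theorem f557524 : Led Lsl_gt (LP (LK LD1_c10 LD2_c3 LD3_c55)) = (LP (LK LD1_c5 LD2_c48 LD3_c0)) :=
  Lgr Lrot5 (Lpe (K38.f386850 IH) (Lpe (f428113 IH) (Lpr_gf (K40.f557522 IH) (Lpn (LP (LK LD1_c5 LD2_c48 LD3_c0))))))
theorem f571455 : Led Lsl_et (LP (LK LD1_c5 LD2_c43 LD3_c43)) = (LP (LK LD1_c2 LD2_c53 LD3_c45)) :=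
  Lgr Lrot121 (Lpr_dt (f382003 IH) (Lpr_gf (f571442 IH) (Lpe (K40.f132402 IH) (Lpr_et (K40.f132401 IH) (Lpr_gf (K40.f132397 IH) (Lpe (f132353 IH) (Lpr_dt (K5.f132350 IH) (Lpe (f557524 IH) (Lpr_df (K27.f169703 IH) (Lpe (K36.f427487 IH) (Lpn (LP (LK LD1_c2 LD2_c53 LD3_c45)))))))))))))
theorem f568589 : Led Lsl_gf (LP (LK LD1_c11 LD2_c8 LD3_c3)) = (LP (LK LD1_c5 LD2_c58 LD3_c50)) :=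
  Lgr Lrot147 (Lpr_ct (f568586 IH) (Lpr_gt (f20364 IH) (Lpr_ct (K7.f20343 IH) (Lpe (K7.f20356 IH) (Lpe (K7.f20357 IH) (Lpqs (K38.f541437 IH) (Lpr_gf (K38.f541425 IH) (Lpe (K37.f181541 IH) (Lpr_gf (K40.f563177 IH) (Lpe (K36.f386830 IH) (Lpn (LP (LK LD1_c5 LD2_c58 LD3_c50)))))))))))))
theorem f571458 : Led Lsl_et (LP (LK LD1_c5 LD2_c38 LD3_c22)) = (LP (LK LD1_c2 LD2_c50 LD3_c23)) :=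
  Lgr Lrot121 (Lpr_dt (f422735 IH) (Lpr_gf (f568589 IH) (Lpe (K36.f386841 IH) (Lpr_et (K36.f386831 IH) (Lpe (K36.f427487 IH) (Lpe (f571455 IH) (Lpr_dt (f382003 IH) (Lpr_gf (f571442 IH) (Lpe (K40.f132402 IH) (Lpe (K40.f558741 IH) (Lpn (LP (LK LD1_c2 LD2_c50 LD3_c23)))))))))))))
theorem f422779 : Led Lsl_ct (LP (LK LD1_c2 LD2_c50 LD3_c23)) = (LP (LK LD1_c1 LD2_c21 LD3_c12)) :=
  Lre_c IH (LK LD1_c2 LD2_c50 LD3_c23) (LK LD1_c1 LD2_c21 LD3_c12) Lrfl Lrfl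
def v1528 : LQ := Led Lsl_et (LP (LK LD1_c1 LD2_c21 LD3_c12))
theorem f496083 : Led Lsl_et (LP (LK LD1_c1 LD2_c21 LD3_c12)) = v1528 :=
  Lrfl
theorem f571464 : (LP (LK LD1_c2 LD2_c45 LD3_c2)) = v1528 :=
  (Llr Lrot39 (Lpr_ct (f422732 IH) (Lpr_et (f571458 IH) (Lpr_ct (f422779 IH) (Lpr_et (f496083 IH) (Lpn v1528)))))).symm
theorem f136311 : Led Lsl_dt (LP (LK LD1_c1 LD2_c21 LD3_c12)) = (LP (LK LD1_c2 LD2_c50 LD3_c24)) :=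
  Lre_d IH (LK LD1_c1 LD2_c21 LD3_c12) (LK LD1_c2 LD2_c50 LD3_c24) Lrfl Lrfl
theorem f136312 : Led Lsl_gt (LP (LK LD1_c2 LD2_c50 LD3_c24)) = (LP (LK LD1_c5 LD2_c48 LD3_c42)) :=
  Lre_g IH (LK LD1_c2 LD2_c50 LD3_c24) (LK LD1_c5 LD2_c48 LD3_c42) Lrfl Lrfl
theorem f181702 : Led Lsl_et (LP (LK LD1_c4 LD2_c31 LD3_c60)) = (LP (LK LD1_c2 LD2_c13 LD3_c0)) :=
  Lre_e IH (LK LD1_c4 LD2_c31 LD3_c60) (LK LD1_c2 LD2_c13 LD3_c0) Lrfl Lrfl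
theorem f571470 : Led Lsl_df (LP (LK LD1_c5 LD2_c48 LD3_c42)) = (LP (LK LD1_c4 LD2_c31 LD3_c60)) :=
  Lgr Lrot168 (Lpe (f136312 IH) (Lpe (f136311 IH) (Lpr_et (f496083 IH) (Lpq (f571464 IH) (Lpe (K41.f164700 IH) (Lpe (K35.f380322 IH) (Lpr_dt (K35.f380294 IH) (Lpe (K31.f172345 IH) (Lpe (K31.f423188 IH) (Lpr_gf (K30.f380248 IH) (Lpe (f181702 IH) (Lpn (LP (LK LD1_c4 LD2_c31 LD3_c60))))))))))))))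
theorem f571483 : Led Lsl_ct (LP (LK LD1_c5 LD2_c48 LD3_c42)) = (LP (LK LD1_c3 LD2_c40 LD3_c37)) :=
  Lgr Lrot7 (Lpr_df (f571470 IH) (Lpr_gf (f561444 IH) (Lpe (f206052 IH) (Lpr_gf (K31.f496102 IH) (Lpqs (K37.f537269 IH) (Lpe (K37.f544143 IH) (Lpe (K34.f202548 IH) (Lpr_dt (K34.f148318 IH) (Lpe (K7.f148312 IH) (Lpr_dt (K7.f13170 IH) (Lpn (LP (LK LD1_c3 LD2_c40 LD3_c37)))))))))))))
theorem f561464 : Led Lsl_bt (LP (LK LD1_c5 LD2_c7 LD3_c34)) = (LP (LK LD1_c2 LD2_c31 LD3_c6)) :=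
  Lre_b IH (LK LD1_c5 LD2_c7 LD3_c34) (LK LD1_c2 LD2_c31 LD3_c6) Lrfl Lrfl
theorem f549609 : Led Lsl_ct (LP (LK LD1_c5 LD2_c42 LD3_c47)) = (LP (LK LD1_c5 LD2_c7 LD3_c34)) :=
  Lgr Lrot15 (Lpr_ef (K38.f549603 IH) (Lpe (K37.f387109 IH) (Lpe (K37.f387120 IH) (Lpn (LP (LK LD1_c5 LD2_c7 LD3_c34))))))
theorem f571487 : Led Lsl_dt (LP (LK LD1_c3 LD2_c32 LD3_c35)) = (LP (LK LD1_c5 LD2_c42 LD3_c47)) :=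
  Lgr Lrot182 (Lpe (K3.f10785 IH) (Lpe (K3.f10784 IH) (Lpe (K4.f10778 IH) (Lpe (K3.f10777 IH) (Lpr_gf (K2.f10775 IH) (Lpr_bf (K3.f10436 IH) (Lpr_cf (K2.f17631 IH) (Lpe (K3.f10277 IH) (Lpe (K3.f10819 IH) (Lpe (K2.f6670 IH) (Lpe (K6.f11648 IH) (Lpr_df (K7.f142279 IH) (Lpe (K7.f147675 IH) (Lpe (K7.f12911 IH) (Lpe (f571483 IH) (Lpr_df (f571470 IH) (Lpr_gf (f561444 IH) (Lpe (f561464 IH) (Lpe (f549609 IH) (Lpn (LP (LK LD1_c5 LD2_c42 LD3_c47))))))))))))))))))))))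
theorem f571491 : Led Lsl_ff (LP (LK LD1_c7 LD2_c7 LD3_c35)) = (LP (LK LD1_c5 LD2_c42 LD3_c47)) :=
  Lgr Lrot19 (Lpe (K39.f127354 IH) (Lpr_ft (K3.f109498 IH) (Lpr_dt (f571487 IH) (Lpn (LP (LK LD1_c5 LD2_c42 LD3_c47))))))
theorem f571527 : Led Lsl_at (LP (LK LD1_c7 LD2_c7 LD3_c35)) = (LP (LK LD1_c5 LD2_c42 LD3_c46)) :=
  Lgr Lrot26 (Lpr_ff (f571491 IH) (Lpr_gt (K38.f172737 IH) (Lpr_gt (K38.f172736 IH) (Lpn (LP (LK LD1_c5 LD2_c42 LD3_c46))))))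
theorem f571535 : Led Lsl_af (LP (LK LD1_c4 LD2_c37 LD3_c1)) = (LP (LK LD1_c8 LD2_c12 LD3_c1)) :=
  Lgr Lrot50 (Lpe (K40.f552711 IH) (Lpr_at (f571527 IH) (Lpr_et (K38.f549624 IH) (Lpn (LP (LK LD1_c8 LD2_c12 LD3_c1))))))
theorem f439085 : Led Lsl_gt (LP (LK LD1_c4 LD2_c37 LD3_c2)) = (LP (LK LD1_c2 LD2_c15 LD3_c43)) :=
  Lre_g IH (LK LD1_c4 LD2_c37 LD3_c2) (LK LD1_c2 LD2_c15 LD3_c43) Lrfl Lrfl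
theorem f571543 : Led Lsl_ft (LP (LK LD1_c4 LD2_c37 LD3_c2)) = (LP (LK LD1_c8 LD2_c12 LD3_c1)) :=
  Lgr Lrot2 (Lpr_gt (f439085 IH) (Lpr_gt (K38.f119051 IH) (Lpr_af (f571535 IH) (Lpn (LP (LK LD1_c8 LD2_c12 LD3_c1))))))
theorem f571548 : Led Lsl_ff (LP (LK LD1_c4 LD2_c37 LD3_c2)) = (LP (LK LD1_c8 LD2_c12 LD3_c1)) :=
  Lgr Lrot3 (Lpr_ft (f571543 IH) (Lpn (LP (LK LD1_c8 LD2_c12 LD3_c1))))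
theorem f538363 : Led Lsl_gt (LP (LK LD1_c8 LD2_c12 LD3_c1)) = (LP (LK LD1_c4 LD2_c37 LD3_c4)) :=
  Lgr Lrot46 (Lpe (K38.f211643 IH) (Lpe (K16.f272040 IH) (Lpr_at (K35.f538352 IH) (Lpn (LP (LK LD1_c4 LD2_c37 LD3_c4))))))
theorem f571550 : Led Lsl_at (LP (LK LD1_c4 LD2_c37 LD3_c2)) = (LP (LK LD1_c5 LD2_c7 LD3_c44)) :=
  Lgr Lrot26 (Lpr_ff (f571548 IH) (Lpr_gt (f538363 IH) (Lpr_gt (K40.f557669 IH) (Lpn (LP (LK LD1_c5 LD2_c7 LD3_c44))))))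
theorem f571537 : Led Lsl_at (LP (LK LD1_c4 LD2_c37 LD3_c1)) = (LP (LK LD1_c8 LD2_c12 LD3_c1)) :=
  Lgr Lrot100 (Lpr_af (f571535 IH) (Lpn (LP (LK LD1_c8 LD2_c12 LD3_c1))))
theorem f571558 : Led Lsl_ff (LP (LK LD1_c4 LD2_c37 LD3_c1)) = (LP (LK LD1_c5 LD2_c7 LD3_c44)) :=
  Lgr Lrot30 (Lpr_at (f571537 IH) (Lpe (f571548 IH) (Lpr_at (f571550 IH) (Lpn (LP (LK LD1_c5 LD2_c7 LD3_c44))))))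
theorem f571566 : Led Lsl_ft (LP (LK LD1_c4 LD2_c37 LD3_c1)) = (LP (LK LD1_c5 LD2_c7 LD3_c44)) :=
  Lgr Lrot48 (Lpr_ff (f571558 IH) (Lpn (LP (LK LD1_c5 LD2_c7 LD3_c44))))
theorem f571552 : Led Lsl_af (LP (LK LD1_c4 LD2_c37 LD3_c2)) = (LP (LK LD1_c5 LD2_c7 LD3_c44)) :=
  Lgr Lrot0 (Lpr_at (f571550 IH) (Lpn (LP (LK LD1_c5 LD2_c7 LD3_c44))))
theorem f571574 : Led Lsl_gt (LP (LK LD1_c4 LD2_c4 LD3_c51)) = (LP (LK LD1_c4 LD2_c37 LD3_c2)) :=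
  Lgr Lrot46 (Lpr_gf (K40.f557795 IH) (Lpr_ft (f571566 IH) (Lpe (f571552 IH) (Lpn (LP (LK LD1_c4 LD2_c37 LD3_c2))))))
theorem f421416 : Led Lsl_gt (LP (LK LD1_c4 LD2_c58 LD3_c25)) = (LP (LK LD1_c2 LD2_c27 LD3_c3)) :=
  Lre_g IH (LK LD1_c4 LD2_c58 LD3_c25) (LK LD1_c2 LD2_c27 LD3_c3) Lrfl Lrfl
theorem f571577 : Led Lsl_cf (LP (LK LD1_c4 LD2_c58 LD3_c25)) = (LP (LK LD1_c4 LD2_c37 LD3_c2)) :=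
  Lgr Lrot125 (Lpr_gt (f421416 IH) (Lpe (K36.f421412 IH) (Lpr_bt (K32.f203301 IH) (Lpr_gt (K41.f567180 IH) (Lpe (K41.f567100 IH) (Lpr_ct (K13.f181139 IH) (Lpe (K10.f194129 IH) (Lpe (K10.f80928 IH) (Lpr_bt (K16.f80953 IH) (Lpr_gt (f571574 IH) (Lpn (LP (LK LD1_c4 LD2_c37 LD3_c2)))))))))))))
theorem f203351 : Led Lsl_at (LP (LK LD1_c4 LD2_c25 LD3_c42)) = (LP (LK LD1_c2 LD2_c10 LD3_c15)) :=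
  Lre_a IH (LK LD1_c4 LD2_c25 LD3_c42) (LK LD1_c2 LD2_c10 LD3_c15) Lrfl Lrfl
theorem f421410 : Led Lsl_at (LP (LK LD1_c4 LD2_c25 LD3_c49)) = (LP (LK LD1_c2 LD2_c27 LD3_c3)) :=
  Lgr Lrot107 (Lpe (K36.f421409 IH) (Lpe (f203351 IH) (Lpr_cf (K32.f421407 IH) (Lpn (LP (LK LD1_c2 LD2_c27 LD3_c3))))))
theorem f421425 : Led Lsl_ft (LP (LK LD1_c8 LD2_c49 LD3_c4)) = (LP (LK LD1_c4 LD2_c25 LD3_c49)) :=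
  Lre_f IH (LK LD1_c8 LD2_c49 LD3_c4) (LK LD1_c4 LD2_c25 LD3_c49) Lrfl Lrfl
theorem f421450 : Led Lsl_gt (LP (LK LD1_c8 LD2_c49 LD3_c4)) = (LP (LK LD1_c4 LD2_c58 LD3_c25)) :=
  Lgr Lrot5 (Lpr_ft (f421425 IH) (Lpr_at (f421410 IH) (Lpe (f421416 IH) (Lpn (LP (LK LD1_c4 LD2_c58 LD3_c25))))))
theorem f421363 : Led Lsl_ct (LP (LK LD1_c4 LD2_c25 LD3_c57)) = (LP (LK LD1_c8 LD2_c49 LD3_c4)) :=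
  Lre_c IH (LK LD1_c4 LD2_c25 LD3_c57) (LK LD1_c8 LD2_c49 LD3_c4) Lrfl Lrfl
theorem f158201 : Led Lsl_bt (LP (LK LD1_c4 LD2_c25 LD3_c57)) = (LP (LK LD1_c8 LD2_c49 LD3_c0)) :=
  Lre_b IH (LK LD1_c4 LD2_c25 LD3_c57) (LK LD1_c8 LD2_c49 LD3_c0) Lrfl Lrfl
theorem f36220 : Led Lsl_gt (LP (LK LD1_c4 LD2_c20 LD3_c37)) = (LP (LK LD1_c2 LD2_c7 LD3_c48)) :=
  Lre_g IH (LK LD1_c4 LD2_c20 LD3_c37) (LK LD1_c2 LD2_c7 LD3_c48) Lrfl Lrfl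
theorem f571591 : Led Lsl_bf (LP (LK LD1_c4 LD2_c20 LD3_c37)) = (LP (LK LD1_c4 LD2_c37 LD3_c2)) :=
  Lgr Lrot156 (Lpr_gt (f36220 IH) (Lpe (f28646 IH) (Lpr_ct (K0.f28651 IH) (Lpe (K11.f201371 IH) (Lpe (K13.f165474 IH) (Lpr_bt (K32.f204988 IH) (Lpr_gt (K32.f421366 IH) (Lpr_ct (f421363 IH) (Lpr_gt (f421450 IH) (Lpr_cf (f571577 IH) (Lpn (LP (LK LD1_c4 LD2_c37 LD3_c2)))))))))))))
theorem f315156 : Led Lsl_ft (LP (LK LD1_c1 LD2_c59 LD3_c17)) = (LP (LK LD1_c2 LD2_c7 LD3_c46)) :=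
  Lgr Lrot4 (Lpe (K10.f28790 IH) (Lpr_ff (K20.f315154 IH) (Lpr_cf (K19.f240623 IH) (Lpn (LP (LK LD1_c2 LD2_c7 LD3_c46))))))
theorem f315262 : Led Lsl_at (LP (LK LD1_c2 LD2_c7 LD3_c46)) = (LP (LK LD1_c2 LD2_c7 LD3_c33)) :=
  Lgr Lrot33 (Lpe (f315156 IH) (Lpr_dt (K13.f31582 IH) (Lpr_ct (K13.f194095 IH) (Lpe (K20.f240969 IH) (Lpr_ct (K13.f190045 IH) (Lpe (K23.f315258 IH) (Lpr_ct (K20.f216372 IH) (Lpr_dt (K20.f315252 IH) (Lpr_ct (K13.f239232 IH) (Lpn (LP (LK LD1_c2 LD2_c7 LD3_c33))))))))))))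
theorem f542374 : Led Lsl_bt (LP (LK LD1_c4 LD2_c2 LD3_c0)) = (LP (LK LD1_c2 LD2_c7 LD3_c46)) :=
  Lgr Lrot62 (Lpe (K20.f315184 IH) (Lpr_bf (K38.f542371 IH) (Lpe (K38.f421330 IH) (Lpe (K36.f239234 IH) (Lpe (f315262 IH) (Lpn (LP (LK LD1_c2 LD2_c7 LD3_c46))))))))
theorem f566081 : Led Lsl_cf (LP (LK LD1_c3 LD2_c38 LD3_c35)) = (LP (LK LD1_c2 LD2_c7 LD3_c48)) :=
  Lgr Lrot163 (Lpe (f5040 IH) (Lpr_cf (K0.f5150 IH) (Lpr_gf (K41.f566077 IH) (Lpe (K35.f34651 IH) (Lpr_ct (K13.f34065 IH) (Lpr_gf (K13.f243018 IH) (Lpe (K13.f194134 IH) (Lpr_bt (f542374 IH) (Lpe (K13.f28656 IH) (Lpe (K37.f28652 IH) (Lpn (LP (LK LD1_c2 LD2_c7 LD3_c48)))))))))))))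
theorem f571593 : Led Lsl_gf (LP (LK LD1_c8 LD2_c49 LD3_c0)) = (LP (LK LD1_c7 LD2_c17 LD3_c24)) :=
  Lgr Lrot124 (Lpe (f158201 IH) (Lpr_ct (f421363 IH) (Lpr_gt (f421450 IH) (Lpr_cf (f571577 IH) (Lpe (f571591 IH) (Lpr_gt (f36220 IH) (Lpe (f566081 IH) (Lpr_gt (f5628 IH) (Lpe (K0.f5134 IH) (Lpr_bt (K41.f5406 IH) (Lpn (LP (LK LD1_c7 LD2_c17 LD3_c24)))))))))))))
theorem f158186 : Led Lsl_ft (LP (LK LD1_c8 LD2_c49 LD3_c0)) = (LP (LK LD1_c4 LD2_c25 LD3_c45)) :=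
  Lre_f IH (LK LD1_c8 LD2_c49 LD3_c0) (LK LD1_c4 LD2_c25 LD3_c45) Lrfl Lrfl
theorem f158187 : Led Lsl_et (LP (LK LD1_c4 LD2_c0 LD3_c45)) = (LP (LK LD1_c8 LD2_c2 LD3_c18)) :=
  Lre_e IH (LK LD1_c4 LD2_c0 LD3_c45) (LK LD1_c8 LD2_c2 LD3_c18) Lrfl Lrfl
theorem f158189 : Led Lsl_ef (LP (LK LD1_c8 LD2_c49 LD3_c0)) = (LP (LK LD1_c15 LD2_c7 LD3_c61)) :=
  Lgr Lrot21 (Lpr_ft (f158186 IH) (Lpr_et (K32.f149425 IH) (Lpr_ft (K8.f158181 IH) (Lpr_et (f158187 IH) (Lpr_ft (f158188 IH) (Lpn (LP (LK LD1_c15 LD2_c7 LD3_c61))))))))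
theorem f98376 : Led Lsl_dt (LP (LK LD1_c7 LD2_c6 LD3_c25)) = (LP (LK LD1_c13 LD2_c27 LD3_c59)) :=
  Lre_d IH (LK LD1_c7 LD2_c6 LD3_c25) (LK LD1_c13 LD2_c27 LD3_c59) Lrfl Lrfl
theorem f98362 : Led Lsl_gt (LP (LK LD1_c22 LD2_c47 LD3_c22)) = (LP (LK LD1_c13 LD2_c27 LD3_c59)) :=
  Lre_g IH (LK LD1_c22 LD2_c47 LD3_c22) (LK LD1_c13 LD2_c27 LD3_c59) Lrfl Lrfl
theorem f571599 : Led Lsl_dt (LP (LK LD1_c15 LD2_c7 LD3_c61)) = (LP (LK LD1_c22 LD2_c47 LD3_c22)) :=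
  Lgr Lrot136 (Lpe (f158189 IH) (Lpr_gf (f571593 IH) (Lpe (f5077 IH) (Lpr_dt (K0.f5065 IH) (Lpe (K24.f5545 IH) (Lpr_df (f570679 IH) (Lpe (f10624 IH) (Lpe (f98203 IH) (Lpr_dt (f98376 IH) (Lpe (f98362 IH) (Lpn (LP (LK LD1_c22 LD2_c47 LD3_c22)))))))))))))
theorem f570622 : Led Lsl_gt (LP (LK LD1_c8 LD2_c48 LD3_c5)) = (LP (LK LD1_c15 LD2_c7 LD3_c61)) :=
  Lgr Lrot5 (Lpr_ft (f570608 IH) (Lpe (f570602 IH) (Lpr_gf (f570620 IH) (Lpn (LP (LK LD1_c15 LD2_c7 LD3_c61))))))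
theorem f556660 : Led Lsl_dt (LP (LK LD1_c8 LD2_c50 LD3_c19)) = (LP (LK LD1_c16 LD2_c31 LD3_c13)) :=
  Lre_d IH (LK LD1_c8 LD2_c50 LD3_c19) (LK LD1_c16 LD2_c31 LD3_c13) Lrfl Lrfl
theorem f98354 : Led Lsl_dt (LP (LK LD1_c13 LD2_c27 LD3_c59)) = (LP (LK LD1_c7 LD2_c6 LD3_c25)) :=
  Lre_d IH (LK LD1_c13 LD2_c27 LD3_c59) (LK LD1_c7 LD2_c6 LD3_c25) Lrfl Lrfl
theorem f6132 : Led Lsl_bt (LP (LK LD1_c3 LD2_c33 LD3_c44)) = (LP (LK LD1_c7 LD2_c8 LD3_c16)) :=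
  Lre_b IH (LK LD1_c3 LD2_c33 LD3_c44) (LK LD1_c7 LD2_c8 LD3_c16) Lrfl Lrfl
theorem f6543 : Led Lsl_bt (LP (LK LD1_c7 LD2_c6 LD3_c25)) = (LP (LK LD1_c3 LD2_c32 LD3_c48)) :=
  Lre_b IH (LK LD1_c7 LD2_c6 LD3_c25) (LK LD1_c3 LD2_c32 LD3_c48) Lrfl Lrfl
theorem f98331 : Led Lsl_ct (LP (LK LD1_c7 LD2_c8 LD3_c16)) = (LP (LK LD1_c7 LD2_c6 LD3_c25)) :=
  Lgr Lrot83 (Lpe (f6132 IH) (Lpe (f6131 IH) (Lpe (K29.f6122 IH) (Lpr_cf (K36.f98326 IH) (Lpe (f6543 IH) (Lpn (LP (LK LD1_c7 LD2_c6 LD3_c25))))))))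
theorem f98224 : Led Lsl_dt (LP (LK LD1_c13 LD2_c31 LD3_c10)) = (LP (LK LD1_c7 LD2_c8 LD3_c16)) :=
  Lre_d IH (LK LD1_c13 LD2_c31 LD3_c10) (LK LD1_c7 LD2_c8 LD3_c16) Lrfl Lrfl
theorem f571608 : Led Lsl_gt (LP (LK LD1_c16 LD2_c31 LD3_c13)) = (LP (LK LD1_c13 LD2_c31 LD3_c10)) :=
  Lgr Lrot49 (Lpe (f556660 IH) (Lpr_gf (K41.f565842 IH) (Lpr_cf (K41.f138760 IH) (Lpr_gt (f570622 IH) (Lpr_dt (f571599 IH) (Lpr_gt (f98362 IH) (Lpr_dt (f98354 IH) (Lpe (f98331 IH) (Lpe (f98224 IH) (Lpn (LP (LK LD1_c13 LD2_c31 LD3_c10))))))))))))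
theorem f567201 : Led Lsl_et (LP (LK LD1_c8 LD2_c50 LD3_c19)) = (LP (LK LD1_c13 LD2_c46 LD3_c27)) :=
  Lgr Lrot74 (Lpe (K41.f556626 IH) (Lpe (K39.f209868 IH) (Lpr_bf (K41.f567190 IH) (Lpn (LP (LK LD1_c13 LD2_c46 LD3_c27))))))
theorem f571628 : Led Lsl_df (LP (LK LD1_c3 LD2_c38 LD3_c12)) = (LP (LK LD1_c7 LD2_c8 LD3_c15)) :=
  Lgr Lrot135 (Lpe (K3.f5629 IH) (Lpe (K24.f5056 IH) (Lpr_et (K24.f5534 IH) (Lpr_gt (K41.f5195 IH) (Lpe (f567201 IH) (Lpr_dt (f556660 IH) (Lpr_gt (f571608 IH) (Lpe (K36.f98214 IH) (Lpr_et (K36.f98199 IH) (Lpr_gt (f98202 IH) (Lpn (LP (LK LD1_c7 LD2_c8 LD3_c15)))))))))))))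
theorem f381962 : Led Lsl_dt (LP (LK LD1_c5 LD2_c43 LD3_c40)) = (LP (LK LD1_c11 LD2_c17 LD3_c19)) :=
  Lre_d IH (LK LD1_c5 LD2_c43 LD3_c40) (LK LD1_c11 LD2_c17 LD3_c19) Lrfl Lrfl
theorem f108150 : Led Lsl_bt (LP (LK LD1_c14 LD2_c1 LD3_c55)) = (LP (LK LD1_c7 LD2_c25 LD3_c13)) :=
  Lre_b IH (LK LD1_c14 LD2_c1 LD3_c55) (LK LD1_c7 LD2_c25 LD3_c13) Lrfl Lrfl
theorem f571636 : Led Lsl_ct (LP (LK LD1_c11 LD2_c17 LD3_c19)) = (LP (LK LD1_c14 LD2_c1 LD3_c55)) :=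
  Lgr Lrot191 (Lpe (f381962 IH) (Lpr_gf (K40.f561454 IH) (Lpe (K40.f561446 IH) (Lpe (K38.f181400 IH) (Lpe (K37.f546867 IH) (Lpe (K3.f109025 IH) (Lpr_bf (K3.f94452 IH) (Lpe (K28.f5632 IH) (Lpr_df (f571628 IH) (Lpe (f98202 IH) (Lpe (K36.f6560 IH) (Lpe (K3.f6125 IH) (Lpe (K3.f6097 IH) (Lpe (K3.f6108 IH) (Lpe (K8.f6109 IH) (Lpr_cf (K8.f108023 IH) (Lpe (K8.f108090 IH) (Lpe (K39.f108091 IH) (Lpe (f108150 IH) (Lpn (LP (LK LD1_c14 LD2_c1 LD3_c55))))))))))))))))))))))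
theorem f382000 : Led Lsl_dt (LP (LK LD1_c5 LD2_c43 LD3_c44)) = (LP (LK LD1_c2 LD2_c47 LD3_c53)) :=
  Lre_d IH (LK LD1_c5 LD2_c43 LD3_c44) (LK LD1_c2 LD2_c47 LD3_c53) Lrfl Lrfl
theorem f382004 : Led Lsl_dt (LP (LK LD1_c11 LD2_c17 LD3_c19)) = (LP (LK LD1_c5 LD2_c43 LD3_c40)) :=
  Lre_d IH (LK LD1_c11 LD2_c17 LD3_c19) (LK LD1_c5 LD2_c43 LD3_c40) Lrfl Lrfl
theorem f558734 : Led Lsl_at (LP (LK LD1_c5 LD2_c49 LD3_c46)) = (LP (LK LD1_c5 LD2_c47 LD3_c47)) :=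
  Lgr Lrot33 (Lpr_ff (K40.f558706 IH) (Lpr_dt (K40.f132402 IH) (Lpe (K40.f558540 IH) (Lpr_dt (K37.f544157 IH) (Lpr_ct (K36.f203655 IH) (Lpe (K40.f558728 IH) (Lpe (K40.f557411 IH) (Lpr_dt (K40.f557414 IH) (Lpr_ct (K40.f558730 IH) (Lpn (LP (LK LD1_c5 LD2_c47 LD3_c47))))))))))))
theorem f558743 : Led Lsl_gf (LP (LK LD1_c2 LD2_c50 LD3_c23)) = (LP (LK LD1_c5 LD2_c47 LD3_c47)) :=
  Lgr Lrot47 (Lpr_gt (K40.f558741 IH) (Lpe (f558734 IH) (Lpr_ff (K40.f558706 IH) (Lpn (LP (LK LD1_c5 LD2_c47 LD3_c47))))))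
theorem f422777 : Led Lsl_dt (LP (LK LD1_c2 LD2_c50 LD3_c23)) = (LP (LK LD1_c5 LD2_c48 LD3_c41)) :=
  Lre_d IH (LK LD1_c2 LD2_c50 LD3_c23) (LK LD1_c5 LD2_c48 LD3_c41) Lrfl Lrfl
theorem f558889 : Led Lsl_gf (LP (LK LD1_c11 LD2_c17 LD3_c19)) = (LP (LK LD1_c5 LD2_c48 LD3_c41)) :=
  Lgr Lrot143 (Lpr_dt (f382004 IH) (Lpr_cf (K40.f381968 IH) (Lpe (f382000 IH) (Lpr_gf (K40.f558887 IH) (Lpe (K40.f496067 IH) (Lpe (K40.f558877 IH) (Lpr_cf (f558732 IH) (Lpe (f558743 IH) (Lpr_dt (f422777 IH) (Lpn (LP (LK LD1_c5 LD2_c48 LD3_c41))))))))))))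
theorem f422778 : Led Lsl_dt (LP (LK LD1_c5 LD2_c48 LD3_c41)) = (LP (LK LD1_c2 LD2_c50 LD3_c23)) :=
  Lre_d IH (LK LD1_c5 LD2_c48 LD3_c41) (LK LD1_c2 LD2_c50 LD3_c23) Lrfl Lrfl
theorem f206047 : Led Lsl_dt (LP (LK LD1_c2 LD2_c50 LD3_c7)) = (LP (LK LD1_c5 LD2_c48 LD3_c13)) :=
  Lre_d IH (LK LD1_c2 LD2_c50 LD3_c7) (LK LD1_c5 LD2_c48 LD3_c13) Lrfl Lrfl
theorem f206050 : Led Lsl_ct (LP (LK LD1_c11 LD2_c25 LD3_c61)) = (LP (LK LD1_c5 LD2_c48 LD3_c13)) :=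
  Lre_c IH (LK LD1_c11 LD2_c25 LD3_c61) (LK LD1_c5 LD2_c48 LD3_c13) Lrfl Lrfl
theorem f571649 : Led Lsl_gf (LP (LK LD1_c11 LD2_c25 LD3_c61)) = (LP (LK LD1_c14 LD2_c1 LD3_c55)) :=
  Lgr Lrot104 (Lpr_ct (f206050 IH) (Lpe (f206047 IH) (Lpr_cf (K31.f496058 IH) (Lpe (K40.f558877 IH) (Lpr_cf (f558732 IH) (Lpe (K40.f558741 IH) (Lpe (f422778 IH) (Lpe (f558889 IH) (Lpr_ct (f571636 IH) (Lpn (LP (LK LD1_c14 LD2_c1 LD3_c55))))))))))))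
theorem f206048 : Led Lsl_ct (LP (LK LD1_c5 LD2_c48 LD3_c13)) = (LP (LK LD1_c11 LD2_c25 LD3_c61)) :=
  Lre_c IH (LK LD1_c5 LD2_c48 LD3_c13) (LK LD1_c11 LD2_c25 LD3_c61) Lrfl Lrfl
theorem f568970 : Led Lsl_bt (LP (LK LD1_c5 LD2_c48 LD3_c13)) = (LP (LK LD1_c11 LD2_c25 LD3_c60)) :=
  Lre_b IH (LK LD1_c5 LD2_c48 LD3_c13) (LK LD1_c11 LD2_c25 LD3_c60) Lrfl Lrfl
theorem f571653 : Led Lsl_bt (LP (LK LD1_c11 LD2_c17 LD3_c19)) = (LP (LK LD1_c5 LD2_c43 LD3_c57)) :=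
  Lgr Lrot92 (Lpr_ct (f571636 IH) (Lpe (f571649 IH) (Lpe (f206048 IH) (Lpr_bt (f568970 IH) (Lpe (f568968 IH) (Lpr_ct (f568961 IH) (Lpe (f568957 IH) (Lpe (K40.f495845 IH) (Lpr_bt (f558276 IH) (Lpe (f563900 IH) (Lpn (LP (LK LD1_c5 LD2_c43 LD3_c57)))))))))))))
theorem f571661 : Led Lsl_gf (LP (LK LD1_c14 LD2_c1 LD3_c55)) = (LP (LK LD1_c11 LD2_c25 LD3_c61)) :=
  Lgr Lrot126 (Lpe (f571636 IH) (Lpr_bt (f571653 IH) (Lpe (K40.f558463 IH) (Lpe (K40.f558171 IH) (Lpe (K40.f160719 IH) (Lpe (K40.f558280 IH) (Lpr_bt (f210798 IH) (Lpr_gt (f568984 IH) (Lpe (f568970 IH) (Lpr_ct (f206048 IH) (Lpn (LP (LK LD1_c11 LD2_c25 LD3_c61)))))))))))))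
theorem f159726 : Led Lsl_bt (LP (LK LD1_c7 LD2_c25 LD3_c13)) = (LP (LK LD1_c14 LD2_c1 LD3_c55)) :=
  Lre_b IH (LK LD1_c7 LD2_c25 LD3_c13) (LK LD1_c14 LD2_c1 LD3_c55) Lrfl Lrfl
theorem f255487 : Led Lsl_ct (LP (LK LD1_c2 LD2_c51 LD3_c36)) = (LP (LK LD1_c1 LD2_c57 LD3_c5)) :=
  Lgr Lrot110 (Lpr_gf (K14.f255481 IH) (Lpe (K14.f36335 IH) (Lpe (K12.f36328 IH) (Lpr_df (K13.f36412 IH) (Lpr_gt (K32.f227704 IH) (Lpe (K12.f210305 IH) (Lpr_gt (K12.f38059 IH) (Lpr_ct (K39.f59141 IH) (Lpe (K11.f205283 IH) (Lpn (LP (LK LD1_c1 LD2_c57 LD3_c5))))))))))))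
theorem f552160 : Led Lsl_cf (LP (LK LD1_c4 LD2_c24 LD3_c28)) = (LP (LK LD1_c7 LD2_c25 LD3_c13)) :=
  Lgr Lrot99 (Lpe (K37.f210863 IH) (Lpe (K13.f239174 IH) (Lpe (K13.f210875 IH) (Lpe (f255487 IH) (Lpr_gf (K14.f255481 IH) (Lpe (K37.f36387 IH) (Lpe (K39.f239011 IH) (Lpr_ct (K39.f552150 IH) (Lpe (K39.f159448 IH) (Lpn (LP (LK LD1_c7 LD2_c25 LD3_c13))))))))))))
theorem f80894 : Led Lsl_dt (LP (LK LD1_c6 LD2_c13 LD3_c31)) = (LP (LK LD1_c3 LD2_c3 LD3_c35)) :=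
  Lre_d IH (LK LD1_c6 LD2_c13 LD3_c31) (LK LD1_c3 LD2_c3 LD3_c35) Lrfl Lrfl
theorem f552227 : Led Lsl_gt (LP (LK LD1_c4 LD2_c24 LD3_c28)) = (LP (LK LD1_c6 LD2_c13 LD3_c31)) :=
  Lgr Lrot180 (Lpr_ct (K39.f552217 IH) (Lpr_gt (K39.f108091 IH) (Lpr_dt (K8.f108090 IH) (Lpr_gt (K8.f108089 IH) (Lpr_dt (K37.f443875 IH) (Lpr_ct (K37.f80886 IH) (Lpe (K35.f80872 IH) (Lpe (K8.f80887 IH) (Lpe (f80894 IH) (Lpn (LP (LK LD1_c6 LD2_c13 LD3_c31))))))))))))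
theorem f159858 : Led Lsl_bf (LP (LK LD1_c7 LD2_c23 LD3_c19)) = (LP (LK LD1_c7 LD2_c29 LD3_c9)) :=
  Lgr Lrot93 (Lpr_dt (K8.f129360 IH) (Lpr_bt (K8.f147587 IH) (Lpr_dt (K8.f159854 IH) (Lpn (LP (LK LD1_c7 LD2_c29 LD3_c9))))))
theorem f571667 : Led Lsl_bt (LP (LK LD1_c14 LD2_c1 LD3_c41)) = (LP (LK LD1_c11 LD2_c25 LD3_c61)) :=
  Lgr Lrot22 (Lpr_ct (K32.f209710 IH) (Lpe (f209718 IH) (Lpe (K32.f123948 IH) (Lpe (K32.f160689 IH) (Lpr_bf (f159858 IH) (Lpe (K36.f160650 IH) (Lpe (f552227 IH) (Lpr_cf (f552160 IH) (Lpr_bt (f159726 IH) (Lpr_gf (f571661 IH) (Lpn (LP (LK LD1_c11 LD2_c25 LD3_c61)))))))))))))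
theorem f147841 : Led Lsl_bt (LP (LK LD1_c7 LD2_c28 LD3_c31)) = (LP (LK LD1_c14 LD2_c6 LD3_c36)) :=
  Lre_b IH (LK LD1_c7 LD2_c28 LD3_c31) (LK LD1_c14 LD2_c6 LD3_c36) Lrfl Lrfl
theorem f13395 : Led Lsl_dt (LP (LK LD1_c3 LD2_c40 LD3_c37)) = (LP (LK LD1_c1 LD2_c47 LD3_c15)) :=
  Lre_d IH (LK LD1_c3 LD2_c40 LD3_c37) (LK LD1_c1 LD2_c47 LD3_c15) Lrfl Lrfl
theorem f561440 : Led Lsl_cf (LP (LK LD1_c5 LD2_c48 LD3_c41)) = (LP (LK LD1_c7 LD2_c21 LD3_c26)) :=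
  Lgr Lrot166 (Lpe (f558889 IH) (Lpr_dt (f382004 IH) (Lpr_gt (K40.f561435 IH) (Lpe (K40.f558868 IH) (Lpr_ct (K40.f558866 IH) (Lpe (f148306 IH) (Lpe (K7.f148293 IH) (Lpe (f13395 IH) (Lpr_gf (K7.f148330 IH) (Lpn (LP (LK LD1_c7 LD2_c21 LD3_c26))))))))))))
theorem f571642 : Led Lsl_cf (LP (LK LD1_c11 LD2_c17 LD3_c19)) = (LP (LK LD1_c14 LD2_c1 LD3_c55)) :=
  Lgr Lrot11 (Lpr_ct (f571636 IH) (Lpn (LP (LK LD1_c14 LD2_c1 LD3_c55))))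
theorem f571674 : Led Lsl_gf (LP (LK LD1_c5 LD2_c48 LD3_c41)) = (LP (LK LD1_c11 LD2_c17 LD3_c19)) :=
  Lgr Lrot129 (Lpr_cf (f561440 IH) (Lpr_bt (K28.f151370 IH) (Lpe (K7.f151378 IH) (Lpe (f147841 IH) (Lpr_ct (K32.f123948 IH) (Lpr_gt (f209718 IH) (Lpe (K32.f209710 IH) (Lpr_bt (f571667 IH) (Lpe (f571661 IH) (Lpe (f571642 IH) (Lpn (LP (LK LD1_c11 LD2_c17 LD3_c19)))))))))))))
theorem f571476 : Led Lsl_dt (LP (LK LD1_c5 LD2_c48 LD3_c42)) = (LP (LK LD1_c4 LD2_c31 LD3_c60)) :=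
  Lgr Lrot42 (Lpr_df (f571470 IH) (Lpn (LP (LK LD1_c4 LD2_c31 LD3_c60))))
theorem f571485 : Led Lsl_cf (LP (LK LD1_c5 LD2_c48 LD3_c42)) = (LP (LK LD1_c3 LD2_c40 LD3_c37)) :=
  Lgr Lrot14 (Lpr_df (f571470 IH) (Lpr_gf (f561444 IH) (Lpe (f206052 IH) (Lpr_gf (K31.f496102 IH) (Lpe (K37.f544139 IH) (Lpe (K34.f202548 IH) (Lpr_dt (K34.f148318 IH) (Lpe (K7.f148312 IH) (Lpr_dt (K7.f13170 IH) (Lpn (LP (LK LD1_c3 LD2_c40 LD3_c37))))))))))))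
theorem f571680 : Led Lsl_ct (LP (LK LD1_c5 LD2_c48 LD3_c41)) = (LP (LK LD1_c7 LD2_c21 LD3_c26)) :=
  Lgr Lrot152 (Lpr_gf (f571674 IH) (Lpe (f381962 IH) (Lpr_gt (K40.f561435 IH) (Lpr_ct (f496104 IH) (Lpe (f561444 IH) (Lpr_ct (f181454 IH) (Lpe (f571476 IH) (Lpr_cf (f571485 IH) (Lpr_gf (K7.f148330 IH) (Lpn (LP (LK LD1_c7 LD2_c21 LD3_c26))))))))))))
theorem f571474 : Led Lsl_bt (LP (LK LD1_c5 LD2_c48 LD3_c42)) = (LP (LK LD1_c2 LD2_c50 LD3_c38)) :=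
  Lgr Lrot95 (Lpr_df (f571470 IH) (Lpr_bf (K40.f495794 IH) (Lpq (K38.f536995 IH) (Lpr_df (K24.f380091 IH) (Lpn (LP (LK LD1_c2 LD2_c50 LD3_c38)))))))
theorem f571699 : Led Lsl_bt (LP (LK LD1_c5 LD2_c48 LD3_c41)) = (LP (LK LD1_c6 LD2_c16 LD3_c16)) :=
  Lgr Lrot92 (Lpr_ct (f571680 IH) (Lpe (K7.f148330 IH) (Lpe (f571483 IH) (Lpr_bt (f571474 IH) (Lpr_gt (K24.f171792 IH) (Lpr_ct (K38.f496165 IH) (Lpe (K41.f496168 IH) (Lpe (f175518 IH) (Lpr_bt (f268731 IH) (Lpr_gt (f563628 IH) (Lpn (LP (LK LD1_c6 LD2_c16 LD3_c16)))))))))))))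
theorem f537852 : Led Lsl_bt (LP (LK LD1_c5 LD2_c48 LD3_c40)) = (LP (LK LD1_c2 LD2_c50 LD3_c24)) :=
  Lre_b IH (LK LD1_c5 LD2_c48 LD3_c40) (LK LD1_c2 LD2_c50 LD3_c24) Lrfl Lrfl
theorem f551620 : Led Lsl_bf (LP (LK LD1_c4 LD2_c32 LD3_c61)) = (LP (LK LD1_c7 LD2_c14 LD3_c8)) :=
  Lgr Lrot96 (Lpr_et (K38.f494150 IH) (Lpr_bt (K39.f494157 IH) (Lpr_et (K39.f551616 IH) (Lpn (LP (LK LD1_c7 LD2_c14 LD3_c8))))))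
theorem f568898 : Led Lsl_df (LP (LK LD1_c7 LD2_c14 LD3_c8)) = (LP (LK LD1_c11 LD2_c28 LD3_c3)) :=
  Lgr Lrot12 (Lpe (f551620 IH) (Lpr_dt (f568893 IH) (Lpr_bt (f568897 IH) (Lpn (LP (LK LD1_c11 LD2_c28 LD3_c3))))))
theorem f571703 : Led Lsl_gf (LP (LK LD1_c11 LD2_c28 LD3_c3)) = (LP (LK LD1_c6 LD2_c16 LD3_c16)) :=
  Lgr Lrot85 (Lpe (f568898 IH) (Lpr_ct (K37.f92529 IH) (Lpr_bt (K37.f92528 IH) (Lpe (K2.f92522 IH) (Lpr_dt (K2.f395 IH) (Lpr_ct (K2.f394 IH) (Lpe (K2.f5261 IH) (Lpr_gt (K2.f92342 IH) (Lpr_dt (K2.f10788 IH) (Lpr_ct (K2.f10781 IH) (Lpr_bt (K5.f84700 IH) (Lpe (K5.f134832 IH) (Lpr_dt (K5.f134775 IH) (Lpr_ct (K5.f134750 IH) (Lpr_bt (K6.f123226 IH) (Lpr_gt (K6.f134784 IH) (Lpr_dt (K28.f151400 IH) (Lpe (f561440 IH) (Lpr_bt (f571699 IH) (Lpn (LP (LK LD1_c6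 LD2_c16 LD3_c16))))))))))))))))))))))
theorem f496194 : Led Lsl_ct (LP (LK LD1_c5 LD2_c49 LD3_c42)) = (LP (LK LD1_c11 LD2_c28 LD3_c4)) :=
  Lre_c IH (LK LD1_c5 LD2_c49 LD3_c42) (LK LD1_c11 LD2_c28 LD3_c4) Lrfl Lrfl
theorem f97753 : Led Lsl_dt (LP (LK LD1_c1 LD2_c52 LD3_c16)) = (LP (LK LD1_c3 LD2_c50 LD3_c49)) :=
  Lre_d IH (LK LD1_c1 LD2_c52 LD3_c16) (LK LD1_c3 LD2_c50 LD3_c49) Lrfl Lrfl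
theorem f64394 : Led Lsl_ct (LP (LK LD1_c7 LD2_c42 LD3_c43)) = (LP (LK LD1_c3 LD2_c50 LD3_c49)) :=
  Lre_c IH (LK LD1_c7 LD2_c42 LD3_c43) (LK LD1_c3 LD2_c50 LD3_c49) Lrfl Lrfl
theorem f568927 : Led Lsl_gt (LP (LK LD1_c2 LD2_c47 LD3_c28)) = (LP (LK LD1_c2 LD2_c50 LD3_c59)) :=
  Lgr Lrot46 (Lpe (K40.f172840 IH) (Lpr_ft (K41.f563556 IH) (Lpr_at (f568923 IH) (Lpn (LP (LK LD1_c2 LD2_c50 LD3_c59))))))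
theorem f176858 : Led Lsl_gt (LP (LK LD1_c11 LD2_c16 LD3_c20)) = (LP (LK LD1_c5 LD2_c43 LD3_c1)) :=
  Lre_g IH (LK LD1_c11 LD2_c16 LD3_c20) (LK LD1_c5 LD2_c43 LD3_c1) Lrfl Lrfl
theorem f568944 : Led Lsl_df (LP (LK LD1_c7 LD2_c42 LD3_c43)) = (LP (LK LD1_c11 LD2_c16 LD3_c20)) :=
  Lgr Lrot155 (Lpr_gt (K5.f89306 IH) (Lpr_ct (K4.f89304 IH) (Lpe (f206563 IH) (Lpr_ct (f568929 IH) (Lpr_dt (f179924 IH) (Lpe (K40.f179925 IH) (Lpe (f568927 IH) (Lpe (K36.f176856 IH) (Lpe (f176858 IH) (Lpn (LP (LK LD1_c11 LD2_c16 LD3_c20))))))))))))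
theorem f569064 : Led Lsl_gt (LP (LK LD1_c11 LD2_c28 LD3_c4)) = (LP (LK LD1_c11 LD2_c16 LD3_c20)) :=
  Lgr Lrot49 (Lpr_df (f569056 IH) (Lpr_gf (K32.f130280 IH) (Lpe (K5.f111014 IH) (Lpr_gt (K36.f120451 IH) (Lpr_dt (K36.f97923 IH) (Lpr_gt (K36.f97922 IH) (Lpr_dt (f97753 IH) (Lpe (f64394 IH) (Lpr_df (f568944 IH) (Lpn (LP (LK LD1_c11 LD2_c16 LD3_c20))))))))))))
theorem f571705 : Led Lsl_ct (LP (LK LD1_c5 LD2_c48 LD3_c40)) = (LP (LK LD1_c11 LD2_c16 LD3_c20)) :=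
  Lgr Lrot10 (Lpr_bt (f537852 IH) (Lpr_gt (f136312 IH) (Lpr_ct (f571483 IH) (Lpr_gt (K7.f148317 IH) (Lpe (f571680 IH) (Lpr_bt (f571699 IH) (Lpe (f571703 IH) (Lpe (f568897 IH) (Lpr_ct (f496194 IH) (Lpr_gt (f569064 IH) (Lpn (LP (LK LD1_c11 LD2_c16 LD3_c20)))))))))))))
theorem f496074 : Led Lsl_dt (LP (LK LD1_c2 LD2_c50 LD3_c24)) = (LP (LK LD1_c1 LD2_c21 LD3_c12)) :=
  Lre_d IH (LK LD1_c2 LD2_c50 LD3_c24) (LK LD1_c1 LD2_c21 LD3_c12) Lrfl Lrfl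
theorem f571678 : Led Lsl_gf (LP (LK LD1_c2 LD2_c50 LD3_c24)) = (LP (LK LD1_c5 LD2_c48 LD3_c42)) :=
  Lgr Lrot143 (Lpr_dt (f496074 IH) (Lpe (f422779 IH) (Lpe (f422778 IH) (Lpr_gf (f571674 IH) (Lpe (f381962 IH) (Lpr_gf (K40.f561454 IH) (Lpe (K40.f496103 IH) (Lpe (f561444 IH) (Lpe (f571470 IH) (Lpn (LP (LK LD1_c5 LD2_c48 LD3_c42))))))))))))
theorem f548871 : Led Lsl_ct (LP (LK LD1_c2 LD2_c50 LD3_c38)) = K38.v2566 :=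
  Lgr Lrot59 (Lpr_cf (K38.f548870 IH) (Lpn K38.v2566))
theorem f571715 : Led Lsl_bf (LP (LK LD1_c5 LD2_c48 LD3_c42)) = (LP (LK LD1_c2 LD2_c50 LD3_c38)) :=
  Lgr Lrot156 (Lpe (f571678 IH) (Lpe (f537852 IH) (Lpr_ct (f571705 IH) (Lpr_gt (f176858 IH) (Lpe (K37.f176857 IH) (Lpr_bt (K36.f176855 IH) (Lpe (K11.f176851 IH) (Lpr_ct (K40.f176854 IH) (Lpe (K38.f548869 IH) (Lpe (f548871 IH) (Lpn (LP (LK LD1_c2 LD2_c50 LD3_c38)))))))))))))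
theorem f176883 : Led Lsl_ct (LP (LK LD1_c2 LD2_c50 LD3_c24)) = (LP (LK LD1_c5 LD2_c48 LD3_c43)) :=
  Lre_c IH (LK LD1_c2 LD2_c50 LD3_c24) (LK LD1_c5 LD2_c48 LD3_c43) Lrfl Lrfl
theorem f381920 : Led Lsl_bt (LP (LK LD1_c5 LD2_c43 LD3_c44)) = (LP (LK LD1_c2 LD2_c47 LD3_c59)) :=
  Lre_b IH (LK LD1_c5 LD2_c43 LD3_c44) (LK LD1_c2 LD2_c47 LD3_c59) Lrfl Lrfl
theorem f571719 : Led Lsl_gt (LP (LK LD1_c5 LD2_c48 LD3_c43)) = (LP (LK LD1_c11 LD2_c17 LD3_c28)) :=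
  Lgr Lrot149 (Lpe (f176883 IH) (Lpr_gf (f571678 IH) (Lpr_bf (f571715 IH) (Lpr_ct (f548871 IH) (Lpr_gf (K38.f548869 IH) (Lpe (K40.f176854 IH) (Lpr_bt (K40.f450004 IH) (Lpr_gf (K41.f563808 IH) (Lpe (f381920 IH) (Lpr_ct (K40.f382005 IH) (Lpn (LP (LK LD1_c11 LD2_c17 LD3_c28)))))))))))))
theorem f181456 : Led Lsl_dt (LP (LK LD1_c2 LD2_c13 LD3_c2)) = (LP (LK LD1_c4 LD2_c32 LD3_c2)) :=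
  Lre_d IH (LK LD1_c2 LD2_c13 LD3_c2) (LK LD1_c4 LD2_c32 LD3_c2) Lrfl Lrfl
theorem f186036 : Led Lsl_bt (LP (LK LD1_c4 LD2_c32 LD3_c2)) = (LP (LK LD1_c2 LD2_c13 LD3_c4)) :=
  Lre_b IH (LK LD1_c4 LD2_c32 LD3_c2) (LK LD1_c2 LD2_c13 LD3_c4) Lrfl Lrfl
theorem f548876 : Led Lsl_cf (LP (LK LD1_c4 LD2_c32 LD3_c2)) = (LP (LK LD1_c3 LD2_c42 LD3_c55)) :=
  Lgr Lrot97 (Lpr_bt (f186036 IH) (Lpr_ct (K38.f548873 IH) (Lpe (K38.f22618 IH) (Lpe (K8.f147736 IH) (Lpr_bt (K7.f12909 IH) (Lpn (LP (LK LD1_c3 LD2_c42 LD3_c55))))))))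
theorem f145091 : Led Lsl_at (LP (LK LD1_c3 LD2_c54 LD3_c47)) = (LP (LK LD1_c3 LD2_c53 LD3_c54)) :=
  Lgr Lrot67 (Lpe (K28.f142727 IH) (Lpe (K34.f144814 IH) (Lpr_bf (K6.f144868 IH) (Lpr_af (K6.f145088 IH) (Lpe (K36.f142481 IH) (Lpn (LP (LK LD1_c3 LD2_c53 LD3_c54))))))))
theorem f203573 : Led Lsl_af (LP (LK LD1_c7 LD2_c26 LD3_c33)) = (LP (LK LD1_c7 LD2_c21 LD3_c26)) :=
  Lgr Lrot117 (Lpr_dt (K28.f203571 IH) (Lpr_at (f145091 IH) (Lpr_dt (K28.f151400 IH) (Lpn (LP (LK LD1_c7 LD2_c21 LD3_c26))))))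
theorem f203599 : Led Lsl_gt (LP (LK LD1_c7 LD2_c26 LD3_c33)) = (LP (LK LD1_c3 LD2_c42 LD3_c55)) :=
  Lgr Lrot5 (Lpr_ft (K28.f203592 IH) (Lpe (f203573 IH) (Lpe (K28.f157765 IH) (Lpn (LP (LK LD1_c3 LD2_c42 LD3_c55))))))
theorem f540181 : Led Lsl_df (LP (LK LD1_c2 LD2_c50 LD3_c53)) = (LP (LK LD1_c2 LD2_c52 LD3_c27)) :=
  Lgr Lrot43 (Lpr_ct (K38.f210530 IH) (Lpr_dt (K18.f185777 IH) (Lpr_ct (K13.f185817 IH) (Lpr_dt (K13.f186344 IH) (Lpr_ct (K13.f176882 IH) (Lpr_dt (K17.f177090 IH) (Lpe (K36.f540162 IH) (Lpr_dt (K36.f540177 IH) (Lpr_ct (K18.f210598 IH) (Lpe (K16.f186327 IH) (Lpr_ct (K18.f181121 IH) (Lpr_dt (K9.f181117 IH) (Lpr_ct (K10.f20482 IH) (Lpr_dt (K10.f20500 IH) (Lpq (K36.f537311 IH) (Lpe (K36.f506326 IH) (Lpn (LP (LK LD1_c2 LD2_c52 LD3_c27)))))))))))))))))))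
theorem f558883 : Led Lsl_cf (LP (LK LD1_c7 LD2_c26 LD3_c33)) = (LP (LK LD1_c6 LD2_c16 LD3_c21)) :=
  Lgr Lrot89 (Lpr_bt (K28.f203580 IH) (Lpe (K33.f203198 IH) (Lpe (K32.f155733 IH) (Lpe (K4.f122109 IH) (Lpr_bt (K7.f122093 IH) (Lpe (K7.f151485 IH) (Lpr_dt (K8.f151493 IH) (Lpr_ct (K24.f205980 IH) (Lpr_bt (K36.f206164 IH) (Lpe (K36.f206165 IH) (Lpe (f540181 IH) (Lpr_ct (K38.f210530 IH) (Lpr_bt (K36.f185772 IH) (Lpr_gt (K36.f428096 IH) (Lpr_dt (K32.f75531 IH) (Lpr_ct (K41.f502785 IH) (Lpqs (K40.f557423 IH) (Lpr_bt (K40.f557431 IH) (Lpr_gt (K40.f558877 IH) (Lpr_dt (K40.f496067 IH) (Lpn (LP (LK LD1_c6 LD2_c16 LD3_c21)))))))))))))))))))))))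
theorem f568480 : Led Lsl_gf (LP (LK LD1_c6 LD2_c16 LD3_c21)) = (LP (LK LD1_c5 LD2_c43 LD3_c44)) :=
  Lgr Lrot147 (Lpe (f558883 IH) (Lpr_gt (f203599 IH) (Lpe (f548876 IH) (Lpe (f181456 IH) (Lpr_cf (K10.f181446 IH) (Lpr_gf (f568454 IH) (Lpr_cf (f568261 IH) (Lpe (f382002 IH) (Lpe (f382000 IH) (Lpn (LP (LK LD1_c5 LD2_c43 LD3_c44))))))))))))
theorem f571726 : Led Lsl_dt (LP (LK LD1_c5 LD2_c48 LD3_c43)) = (LP (LK LD1_c7 LD2_c49 LD3_c21)) :=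
  Lgr Lrot6 (Lpr_gt (f571719 IH) (Lpr_ct (K40.f382001 IH) (Lpe (f568480 IH) (Lpe (f558883 IH) (Lpr_df (K28.f203575 IH) (Lpe (K28.f147606 IH) (Lpe (K28.f203637 IH) (Lpr_cf (K28.f203648 IH) (Lpe (K36.f203661 IH) (Lpn (LP (LK LD1_c7 LD2_c49 LD3_c21))))))))))))
theorem f571691 : Led Lsl_af (LP (LK LD1_c5 LD2_c48 LD3_c41)) = (LP (LK LD1_c6 LD2_c16 LD3_c21)) :=
  Lgr Lrot68 (Lpr_ct (f571680 IH) (Lpe (f203573 IH) (Lpr_ct (K40.f558881 IH) (Lpn (LP (LK LD1_c6 LD2_c16 LD3_c21))))))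
theorem f571740 : Led Lsl_ft (LP (LK LD1_c5 LD2_c48 LD3_c41)) = (LP (LK LD1_c6 LD2_c16 LD3_c21)) :=
  Lgr Lrot142 (Lpr_dt (f422778 IH) (Lpr_ct (f422779 IH) (Lpr_dt (f136311 IH) (Lpr_ct (f176883 IH) (Lpr_dt (f571726 IH) (Lpr_ct (K6.f142509 IH) (Lpr_dt (K28.f151400 IH) (Lpe (f561440 IH) (Lpr_af (f571691 IH) (Lpn (LP (LK LD1_c6 LD2_c16 LD3_c21))))))))))))
theorem f496064 : Led Lsl_dt (LP (LK LD1_c6 LD2_c16 LD3_c21)) = (LP (LK LD1_c3 LD2_c5 LD3_c16)) :=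
  Lre_d IH (LK LD1_c6 LD2_c16 LD3_c21) (LK LD1_c3 LD2_c5 LD3_c16) Lrfl Lrfl
theorem f571746 : Led Lsl_ff (LP (LK LD1_c2 LD2_c50 LD3_c23)) = (LP (LK LD1_c3 LD2_c5 LD3_c16)) :=
  Lgr Lrot19 (Lpr_dt (f422777 IH) (Lpr_ft (f571740 IH) (Lpr_dt (f496064 IH) (Lpn (LP (LK LD1_c3 LD2_c5 LD3_c16))))))
def v1529 : LQ := Led Lsl_ft (LP (LK LD1_c1 LD2_c21 LD3_c12))
theorem f496086 : Led Lsl_ft (LP (LK LD1_c1 LD2_c21 LD3_c12)) = v1529 :=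
  Lrfl
theorem f571757 : v1529 = (LP (LK LD1_c2 LD2_c50 LD3_c7)) :=
  (Llr Lrot4 (Lpe (f496086 IH) (Lpe (f422779 IH) (Lpr_ff (f571746 IH) (Lpe (K40.f496062 IH) (Lpn (LP (LK LD1_c2 LD2_c50 LD3_c7)))))))).symm
theorem f496088 : Led Lsl_ff (LP (LK LD1_c1 LD2_c21 LD3_c12)) = v1529 :=
  Lgr Lrot3 (Lpr_ft (f496086 IH) (Lpn v1529))
def v1527 : LQ := Led Lsl_at (LP (LK LD1_c1 LD2_c21 LD3_c12))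
theorem f496076 : Led Lsl_at (LP (LK LD1_c1 LD2_c21 LD3_c12)) = v1527 :=
  Lrfl
theorem f496077 : Led Lsl_af (LP (LK LD1_c1 LD2_c21 LD3_c12)) = v1527 :=
  Lgr Lrot0 (Lpr_at (f496076 IH) (Lpn v1527))
theorem f496081 : Led Lsl_ft K40.v392 = v1527 :=
  Lgr Lrot2 (Lpe (K40.f452603 IH) (Lpr_gt (K40.f136310 IH) (Lpr_af (f496077 IH) (Lpn v1527))))
theorem f496082 : Led Lsl_ff K40.v392 = v1527 :=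
  Lgr Lrot3 (Lpr_ft (f496081 IH) (Lpn v1527))
theorem f496089 : Led Lsl_at K40.v392 = v1529 :=
  Lgr Lrot66 (Lpr_ff (f496082 IH) (Lpe (f496076 IH) (Lpr_ff (f496088 IH) (Lpn v1529))))
theorem f537843 : v1529 = v1527 :=
  Lefun (Lecon (f496089 IH) (K40.f537664 IH)) (f496076 IH)
theorem f571764 : Led Lsl_ff (LP (LK LD1_c2 LD2_c50 LD3_c24)) = (LP (LK LD1_c5 LD2_c48 LD3_c13)) :=
  Lgr Lrot19 (Lpr_dt (f496074 IH) (Lpq (K40.f537664 IH) (Lpr_ft (f496081 IH) (Lpq (f537843 IH) (Lpqs (f571757 IH) (Lpr_dt (f206047 IH) (Lpn (LP (LK LD1_c5 LD2_c48 LD3_c13)))))))))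
theorem f571768 : Led Lsl_ft (LP (LK LD1_c2 LD2_c50 LD3_c24)) = (LP (LK LD1_c5 LD2_c48 LD3_c13)) :=
  Lgr Lrot48 (Lpr_ff (f571764 IH) (Lpn (LP (LK LD1_c5 LD2_c48 LD3_c13))))
theorem f571791 : Led Lsl_ff (LP (LK LD1_c5 LD2_c48 LD3_c40)) = (LP (LK LD1_c11 LD2_c25 LD3_c60)) :=
  Lgr Lrot25 (Lpr_bt (f537852 IH) (Lpr_ft (f571768 IH) (Lpr_bt (f568970 IH) (Lpn (LP (LK LD1_c11 LD2_c25 LD3_c60))))))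
theorem f571774 : Led Lsl_at (LP (LK LD1_c5 LD2_c48 LD3_c40)) = (LP (LK LD1_c11 LD2_c26 LD3_c48)) :=
  Lre_a IH (LK LD1_c5 LD2_c48 LD3_c40) (LK LD1_c11 LD2_c26 LD3_c48) Lrfl Lrfl
theorem f571797 : Led Lsl_gf (LP (LK LD1_c11 LD2_c26 LD3_c48)) = (LP (LK LD1_c12 LD2_c10 LD3_c55)) :=
  Lgr Lrot76 (Lpe (f571774 IH) (Lpr_ff (f571791 IH) (Lpe (f568968 IH) (Lpn (LP (LK LD1_c12 LD2_c10 LD3_c55))))))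
theorem f103258 : Led Lsl_bt (LP (LK LD1_c4 LD2_c44 LD3_c44)) = (LP (LK LD1_c9 LD2_c22 LD3_c6)) :=
  Lre_b IH (LK LD1_c4 LD2_c44 LD3_c44) (LK LD1_c9 LD2_c22 LD3_c6) Lrfl Lrfl
theorem f110560 : Led Lsl_gt (LP (LK LD1_c9 LD2_c22 LD3_c6)) = (LP (LK LD1_c9 LD2_c30 LD3_c16)) :=
  Lgr Lrot164 (Lpe (f103258 IH) (Lpe (K3.f103230 IH) (Lpr_gf (K5.f110518 IH) (Lpr_cf (K3.f78504 IH) (Lpr_gf (K3.f78502 IH) (Lpe (K6.f58724 IH) (Lpr_ct (K2.f72821 IH) (Lpr_gf (K4.f105009 IH) (Lpe (K8.f104989 IH) (Lpr_bt (K4.f104990 IH) (Lpn (LP (LK LD1_c9 LD2_c30 LD3_c16)))))))))))))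
theorem f569076 : Led Lsl_cf (LP (LK LD1_c9 LD2_c22 LD3_c6)) = (LP (LK LD1_c6 LD2_c16 LD3_c13)) :=
  Lgr Lrot169 (Lpr_gt (f110560 IH) (Lpe (f558763 IH) (Lpr_df (K40.f558765 IH) (Lpr_cf (K38.f548900 IH) (Lpe (K38.f98530 IH) (Lpe (K37.f543942 IH) (Lpr_gf (K37.f543967 IH) (Lpr_df (f568898 IH) (Lpr_gt (f569066 IH) (Lpn (LP (LK LD1_c6 LD2_c16 LD3_c13))))))))))))
theorem f13526 : Led Lsl_ct (LP (LK LD1_c3 LD2_c11 LD3_c58)) = (LP (LK LD1_c1 LD2_c32 LD3_c24)) :=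
  Lre_c IH (LK LD1_c3 LD2_c11 LD3_c58) (LK LD1_c1 LD2_c32 LD3_c24) Lrfl Lrfl
theorem f209743 : Led Lsl_gf (LP (LK LD1_c3 LD2_c11 LD3_c58)) = (LP (LK LD1_c4 LD2_c44 LD3_c8)) :=
  Lgr Lrot181 (Lpr_ct (f13526 IH) (Lpe (K4.f79381 IH) (Lpe (K2.f61202 IH) (Lpr_bt (K2.f61515 IH) (Lpe (K2.f72469 IH) (Lpe (K37.f72524 IH) (Lpe (K37.f209728 IH) (Lpr_gt (K40.f209740 IH) (Lpe (K8.f111089 IH) (Lpr_bt (K5.f127264 IH) (Lpn (LP (LK LD1_c4 LD2_c44 LD3_c8)))))))))))))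
theorem f209747 : Led Lsl_gt (LP (LK LD1_c1 LD2_c26 LD3_c58)) = (LP (LK LD1_c2 LD2_c20 LD3_c3)) :=
  Lgr Lrot9 (Lpr_df (K3.f110333 IH) (Lpr_gt (K3.f104162 IH) (Lpe (K3.f79261 IH) (Lpr_gt (K2.f23342 IH) (Lpe (K0.f23329 IH) (Lpe (K3.f13497 IH) (Lpe (f13526 IH) (Lpr_gf (f209743 IH) (Lpe (K5.f25212 IH) (Lpn (LP (LK LD1_c2 LD2_c20 LD3_c3))))))))))))
theorem f127062 : Led Lsl_bf (LP (LK LD1_c3 LD2_c1 LD3_c12)) = (LP (LK LD1_c2 LD2_c20 LD3_c25)) :=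
  Lgr Lrot24 (Lpr_bt (K5.f127054 IH) (Lpn (LP (LK LD1_c2 LD2_c20 LD3_c25))))
theorem f126552 : Led Lsl_ft (LP (LK LD1_c3 LD2_c1 LD3_c12)) = (LP (LK LD1_c1 LD2_c49 LD3_c44)) :=
  Lgr Lrot54 (Lpe (K5.f66648 IH) (Lpr_ff (K7.f66655 IH) (Lpr_df (K5.f126508 IH) (Lpn (LP (LK LD1_c1 LD2_c49 LD3_c44))))))
theorem f128568 : Led Lsl_bt (LP (LK LD1_c1 LD2_c49 LD3_c44)) = (LP (LK LD1_c3 LD2_c12 LD3_c14)) :=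
  Lgr Lrot35 (Lpe (f126552 IH) (Lpr_bf (f127062 IH) (Lpr_ff (K5.f128563 IH) (Lpn (LP (LK LD1_c3 LD2_c12 LD3_c14))))))
theorem f24030 : Led Lsl_bt (LP (LK LD1_c1 LD2_c33 LD3_c61)) = (LP (LK LD1_c0 LD2_c43 LD3_c37)) :=
  Lre_b IH (LK LD1_c1 LD2_c33 LD3_c61) (LK LD1_c0 LD2_c43 LD3_c37) Lrfl Lrfl
theorem f24031 : Led Lsl_ct (LP (LK LD1_c1 LD2_c33 LD3_c61)) = (LP (LK LD1_c3 LD2_c14 LD3_c57)) :=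
  Lre_c IH (LK LD1_c1 LD2_c33 LD3_c61) (LK LD1_c3 LD2_c14 LD3_c57) Lrfl Lrfl
theorem f128584 : Led Lsl_gt (LP (LK LD1_c3 LD2_c6 LD3_c26)) = (LP (LK LD1_c3 LD2_c14 LD3_c57)) :=
  Lgr Lrot65 (Lpe (K3.f61785 IH) (Lpr_bt (K28.f110934 IH) (Lpr_gf (K5.f128578 IH) (Lpe (f128568 IH) (Lpe (K5.f126506 IH) (Lpe (K5.f23174 IH) (Lpe (K4.f23173 IH) (Lpe (K5.f24029 IH) (Lpe (f24030 IH) (Lpr_ct (f24031 IH) (Lpn (LP (LK LD1_c3 LD2_c14 LD3_c57)))))))))))))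
theorem f127467 : Led Lsl_dt (LP (LK LD1_c3 LD2_c14 LD3_c57)) = (LP (LK LD1_c6 LD2_c33 LD3_c20)) :=
  Lre_d IH (LK LD1_c3 LD2_c14 LD3_c57) (LK LD1_c6 LD2_c33 LD3_c20) Lrfl Lrfl
theorem f128586 : Led Lsl_gf (LP (LK LD1_c6 LD2_c18 LD3_c9)) = (LP (LK LD1_c6 LD2_c33 LD3_c20)) :=
  Lgr Lrot143 (Lpr_dt (K2.f61762 IH) (Lpe (K2.f61715 IH) (Lpe (K4.f25113 IH) (Lpr_gf (K2.f76707 IH) (Lpe (K2.f76699 IH) (Lpe (K3.f110335 IH) (Lpe (K3.f61792 IH) (Lpr_gt (f128584 IH) (Lpr_dt (f127467 IH) (Lpn (LP (LK LD1_c6 LD2_c33 LD3_c20))))))))))))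
theorem f128589 : Led Lsl_gt (LP (LK LD1_c6 LD2_c18 LD3_c4)) = (LP (LK LD1_c6 LD2_c33 LD3_c20)) :=
  Lgr Lrot5 (Lpe (K4.f114826 IH) (Lpr_at (K4.f114820 IH) (Lpr_gf (f128586 IH) (Lpn (LP (LK LD1_c6 LD2_c33 LD3_c20))))))
theorem f79969 : Led Lsl_dt (LP (LK LD1_c9 LD2_c21 LD3_c9)) = (LP (LK LD1_c4 LD2_c44 LD3_c8)) :=
  Lre_d IH (LK LD1_c9 LD2_c21 LD3_c9) (LK LD1_c4 LD2_c44 LD3_c8) Lrfl Lrfl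
theorem f209753 : Led Lsl_ct (LP (LK LD1_c6 LD2_c33 LD3_c20)) = (LP (LK LD1_c9 LD2_c21 LD3_c9)) :=
  Lgr Lrot110 (Lpe (f128589 IH) (Lpe (K2.f78730 IH) (Lpe (K2.f79048 IH) (Lpe (K2.f76474 IH) (Lpr_gt (K3.f76472 IH) (Lpr_ct (K3.f18899 IH) (Lpr_gt (f209747 IH) (Lpr_ct (K5.f25212 IH) (Lpe (f79969 IH) (Lpn (LP (LK LD1_c9 LD2_c21 LD3_c9))))))))))))
theorem f209755 : Led Lsl_cf (LP (LK LD1_c6 LD2_c33 LD3_c20)) = (LP (LK LD1_c9 LD2_c21 LD3_c9)) :=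
  Lgr Lrot11 (Lpr_ct (f209753 IH) (Lpn (LP (LK LD1_c9 LD2_c21 LD3_c9))))
theorem f79035 : Led Lsl_ct (LP (LK LD1_c6 LD2_c18 LD3_c9)) = (LP (LK LD1_c6 LD2_c18 LD3_c25)) :=
  Lgr Lrot59 (Lpr_cf (K2.f79032 IH) (Lpn (LP (LK LD1_c6 LD2_c18 LD3_c25))))
theorem f209757 : Led Lsl_gt (LP (LK LD1_c6 LD2_c49 LD3_c0)) = (LP (LK LD1_c9 LD2_c21 LD3_c9)) :=
  Lgr Lrot9 (Lpe (K4.f60977 IH) (Lpe (K4.f103509 IH) (Lpr_ct (K4.f24390 IH) (Lpr_gt (K4.f95263 IH) (Lpr_ct (K3.f79027 IH) (Lpe (K4.f78140 IH) (Lpe (f79035 IH) (Lpr_gf (f128586 IH) (Lpr_cf (f209755 IH) (Lpn (LP (LK LD1_c9 LD2_c21 LD3_c9))))))))))))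
theorem f127366 : Led Lsl_bt (LP (LK LD1_c6 LD2_c33 LD3_c19)) = (LP (LK LD1_c3 LD2_c14 LD3_c57)) :=
  Lre_b IH (LK LD1_c6 LD2_c33 LD3_c19) (LK LD1_c3 LD2_c14 LD3_c57) Lrfl Lrfl
theorem f540112 : Led Lsl_bt (LP (LK LD1_c6 LD2_c33 LD3_c20)) = (LP (LK LD1_c11 LD2_c16 LD3_c19)) :=
  Lgr Lrot95 (Lpe (f127467 IH) (Lpe (f127366 IH) (Lpr_df (K36.f540107 IH) (Lpn (LP (LK LD1_c11 LD2_c16 LD3_c19))))))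
theorem f568919 : Led Lsl_gt (LP (LK LD1_c11 LD2_c16 LD3_c19)) = (LP (LK LD1_c11 LD2_c28 LD3_c4)) :=
  Lgr Lrot82 (Lpe (f540112 IH) (Lpr_ct (f209753 IH) (Lpe (f209757 IH) (Lpe (K4.f79639 IH) (Lpe (K7.f112620 IH) (Lpe (K6.f81798 IH) (Lpr_bf (K40.f563836 IH) (Lpr_ct (K40.f495846 IH) (Lpr_gf (f568915 IH) (Lpe (f568907 IH) (Lpn (LP (LK LD1_c11 LD2_c28 LD3_c4)))))))))))))
theorem f179928 : Led Lsl_ct (LP (LK LD1_c20 LD2_c12 LD3_c20)) = (LP (LK LD1_c11 LD2_c16 LD3_c19)) :=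
  Lre_c IH (LK LD1_c20 LD2_c12 LD3_c20) (LK LD1_c11 LD2_c16 LD3_c19) Lrfl Lrfl
theorem f571808 : Led Lsl_bf (LP (LK LD1_c11 LD2_c26 LD3_c48)) = (LP (LK LD1_c20 LD2_c12 LD3_c20)) :=
  Lgr Lrot34 (Lpr_gf (f571797 IH) (Lpe (f558772 IH) (Lpr_ct (K40.f558761 IH) (Lpe (f110560 IH) (Lpr_cf (f569076 IH) (Lpe (f569066 IH) (Lpe (f568897 IH) (Lpr_ct (f496194 IH) (Lpe (f568919 IH) (Lpe (f179928 IH) (Lpn (LP (LK LD1_c20 LD2_c12 LD3_c20)))))))))))))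
theorem f540109 : Led Lsl_ct (LP (LK LD1_c11 LD2_c16 LD3_c19)) = (LP (LK LD1_c20 LD2_c12 LD3_c20)) :=
  Lre_c IH (LK LD1_c11 LD2_c16 LD3_c19) (LK LD1_c20 LD2_c12 LD3_c20) Lrfl Lrfl
theorem f540114 : Led Lsl_dt (LP (LK LD1_c6 LD2_c33 LD3_c19)) = (LP (LK LD1_c11 LD2_c16 LD3_c19)) :=
  Lgr Lrot42 (Lpr_df (K36.f540107 IH) (Lpn (LP (LK LD1_c11 LD2_c16 LD3_c19))))
theorem f65609 : Led Lsl_dt (LP (LK LD1_c3 LD2_c15 LD3_c27)) = (LP (LK LD1_c6 LD2_c34 LD3_c14)) :=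
  Lre_d IH (LK LD1_c3 LD2_c15 LD3_c27) (LK LD1_c6 LD2_c34 LD3_c14) Lrfl Lrfl
theorem f65617 : Led Lsl_gt (LP (LK LD1_c6 LD2_c34 LD3_c12)) = (LP (LK LD1_c3 LD2_c15 LD3_c27)) :=
  Lre_g IH (LK LD1_c6 LD2_c34 LD3_c12) (LK LD1_c3 LD2_c15 LD3_c27) Lrfl Lrfl
theorem f95997 : Led Lsl_bt (LP (LK LD1_c1 LD2_c27 LD3_c1)) = (LP (LK LD1_c3 LD2_c1 LD3_c59)) :=
  Lre_b IH (LK LD1_c1 LD2_c27 LD3_c1) (LK LD1_c3 LD2_c1 LD3_c59) Lrfl Lrfl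
theorem f65558 : Led Lsl_bt (LP (LK LD1_c1 LD2_c34 LD3_c29)) = (LP (LK LD1_c3 LD2_c15 LD3_c27)) :=
  Lre_b IH (LK LD1_c1 LD2_c34 LD3_c29) (LK LD1_c3 LD2_c15 LD3_c27) Lrfl Lrfl
theorem f436447 : Led Lsl_bf (LP (LK LD1_c6 LD2_c34 LD3_c12)) = (LP (LK LD1_c7 LD2_c41 LD3_c10)) :=
  Lgr Lrot156 (Lpr_gt (f65617 IH) (Lpe (f65558 IH) (Lpr_ct (K32.f65564 IH) (Lpe (K3.f96721 IH) (Lpe (K3.f95983 IH) (Lpr_bt (f95997 IH) (Lpr_gt (K8.f95998 IH) (Lpr_ct (K8.f95999 IH) (Lpr_gt (K8.f151479 IH) (Lpr_cf (K5.f121977 IH) (Lpn (LP (LK LD1_c7 LD2_c41 LD3_c10)))))))))))))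
theorem f549875 : Led Lsl_ft (LP (LK LD1_c4 LD2_c23 LD3_c20)) = (LP (LK LD1_c8 LD2_c44 LD3_c22)) :=
  Lre_f IH (LK LD1_c4 LD2_c23 LD3_c20) (LK LD1_c8 LD2_c44 LD3_c22) Lrfl Lrfl
theorem f549876 : Led Lsl_at (LP (LK LD1_c8 LD2_c44 LD3_c22)) = (LP (LK LD1_c4 LD2_c23 LD3_c25)) :=
  Lre_a IH (LK LD1_c8 LD2_c44 LD3_c22) (LK LD1_c4 LD2_c23 LD3_c25) Lrfl Lrfl
theorem f549877 : Led Lsl_gt (LP (LK LD1_c6 LD2_c25 LD3_c14)) = (LP (LK LD1_c4 LD2_c23 LD3_c25)) :=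
  Lgr Lrot46 (Lpr_gf (K38.f549873 IH) (Lpr_ft (f549875 IH) (Lpr_at (f549876 IH) (Lpn (LP (LK LD1_c4 LD2_c23 LD3_c25))))))
theorem f546685 : Led Lsl_dt (LP (LK LD1_c2 LD2_c9 LD3_c7)) = (LP (LK LD1_c4 LD2_c23 LD3_c25)) :=
  Lre_d IH (LK LD1_c2 LD2_c9 LD3_c7) (LK LD1_c4 LD2_c23 LD3_c25) Lrfl Lrfl
theorem f567177 : Led Lsl_et (LP (LK LD1_c2 LD2_c9 LD3_c7)) = (LP (LK LD1_c4 LD2_c23 LD3_c26)) :=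
  Lre_e IH (LK LD1_c2 LD2_c9 LD3_c7) (LK LD1_c4 LD2_c23 LD3_c26) Lrfl Lrfl
theorem f567178 : Led Lsl_gt (LP (LK LD1_c4 LD2_c23 LD3_c26)) = (LP (LK LD1_c8 LD2_c43 LD3_c60)) :=
  Lgr Lrot137 (Lpe (f567177 IH) (Lpr_dt (f546685 IH) (Lpe (f549877 IH) (Lpe (K38.f117788 IH) (Lpr_et (K38.f117792 IH) (Lpr_gf (K32.f161817 IH) (Lpe (K41.f547081 IH) (Lpr_dt (K38.f547072 IH) (Lpr_gf (K32.f147328 IH) (Lpr_df (K41.f567165 IH) (Lpn (LP (LK LD1_c8 LD2_c43 LD3_c60)))))))))))))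
theorem f568456 : Led Lsl_bt (LP (LK LD1_c8 LD2_c44 LD3_c26)) = (LP (LK LD1_c4 LD2_c23 LD3_c26)) :=
  Lre_b IH (LK LD1_c8 LD2_c44 LD3_c26) (LK LD1_c4 LD2_c23 LD3_c26) Lrfl Lrfl
theorem f558291 : Led Lsl_dt (LP (LK LD1_c12 LD2_c11 LD3_c0)) = (LP (LK LD1_c12 LD2_c23 LD3_c45)) :=
  Lgr Lrot79 (Lpe (f210798 IH) (Lpr_df (K40.f558289 IH) (Lpe (K41.f205160 IH) (Lpn (LP (LK LD1_c12 LD2_c23 LD3_c45))))))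
theorem f571817 : Led Lsl_gt (LP (LK LD1_c11 LD2_c26 LD3_c48)) = (LP (LK LD1_c12 LD2_c11 LD3_c0)) :=
  Lgr Lrot190 (Lpr_bf (f571808 IH) (Lpe (f540109 IH) (Lpe (f540114 IH) (Lpr_gf (K5.f127358 IH) (Lpr_bf (K4.f96712 IH) (Lpe (K4.f65610 IH) (Lpe (f65609 IH) (Lpe (f65617 IH) (Lpr_bf (f436447 IH) (Lpe (K5.f121971 IH) (Lpe (K5.f121979 IH) (Lpe (K8.f121984 IH) (Lpr_bf (K32.f162934 IH) (Lpe (K40.f109483 IH) (Lpr_df (K41.f567165 IH) (Lpe (f567178 IH) (Lpe (f568456 IH) (Lpe (K41.f566701 IH) (Lpe (f558291 IH) (Lpn (LP (LK LD1_c12 LD2_c11 LD3_c0))))))))))))))))))))))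
theorem f571810 : Led Lsl_dt (LP (LK LD1_c5 LD2_c48 LD3_c38)) = (LP (LK LD1_c11 LD2_c26 LD3_c48)) :=
  Lre_d IH (LK LD1_c5 LD2_c48 LD3_c38) (LK LD1_c11 LD2_c26 LD3_c48) Lrfl Lrfl
theorem f567565 : Led Lsl_cf (LP (LK LD1_c12 LD2_c23 LD3_c45)) = (LP (LK LD1_c8 LD2_c44 LD3_c26)) :=
  Lgr Lrot166 (Lpe (K41.f567563 IH) (Lpr_dt (K41.f567559 IH) (Lpr_gt (K41.f557391 IH) (Lpr_dt (K41.f142042 IH) (Lpr_ct (K41.f142079 IH) (Lpr_df (K41.f563618 IH) (Lpe (K41.f567262 IH) (Lpe (K41.f424500 IH) (Lpr_gf (K41.f567249 IH) (Lpn (LP (LK LD1_c8 LD2_c44 LD3_c26))))))))))))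
theorem f544004 : Led Lsl_ct (LP (LK LD1_c9 LD2_c17 LD3_c51)) = (LP (LK LD1_c4 LD2_c41 LD3_c28)) :=
  Lre_c IH (LK LD1_c9 LD2_c17 LD3_c51) (LK LD1_c4 LD2_c41 LD3_c28) Lrfl Lrfl
theorem f549496 : Led Lsl_df (LP (LK LD1_c2 LD2_c30 LD3_c42)) = (LP (LK LD1_c4 LD2_c41 LD3_c28)) :=
  Lgr Lrot38 (Lpr_dt (K38.f549492 IH) (Lpn (LP (LK LD1_c4 LD2_c41 LD3_c28))))
theorem f563855 : Led Lsl_cf (LP (LK LD1_c3 LD2_c45 LD3_c39)) = (LP (LK LD1_c6 LD2_c15 LD3_c4)) :=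
  Lgr Lrot161 (Lpr_dt (K32.f92480 IH) (Lpr_ct (K32.f419812 IH) (Lpe (K39.f497762 IH) (Lpr_ff (K39.f497770 IH) (Lpr_dt (K40.f563850 IH) (Lpr_ct (f544004 IH) (Lpe (f549496 IH) (Lpr_ct (K41.f177123 IH) (Lpr_dt (K41.f424500 IH) (Lpn (LP (LK LD1_c6 LD2_c15 LD3_c4))))))))))))
theorem f92481 : Led Lsl_dt (LP (LK LD1_c7 LD2_c31 LD3_c57)) = (LP (LK LD1_c3 LD2_c45 LD3_c39)) :=
  Lre_d IH (LK LD1_c7 LD2_c31 LD3_c57) (LK LD1_c3 LD2_c45 LD3_c39) Lrfl Lrfl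
theorem f419845 : Led Lsl_gt (LP (LK LD1_c13 LD2_c17 LD3_c42)) = (LP (LK LD1_c7 LD2_c31 LD3_c57)) :=
  Lgr Lrot5 (Lpr_ft (K5.f127835 IH) (Lpr_at (K5.f93038 IH) (Lpr_gf (K32.f419843 IH) (Lpn (LP (LK LD1_c7 LD2_c31 LD3_c57))))))
theorem f567251 : Led Lsl_dt (LP (LK LD1_c6 LD2_c55 LD3_c52)) = (LP (LK LD1_c8 LD2_c44 LD3_c26)) :=
  Lgr Lrot57 (Lpr_gf (K28.f136912 IH) (Lpr_cf (K8.f96779 IH) (Lpe (K5.f127866 IH) (Lpr_dt (K5.f104068 IH) (Lpr_gt (f419845 IH) (Lpr_dt (f92481 IH) (Lpr_cf (f563855 IH) (Lpe (K41.f424500 IH) (Lpr_gf (K41.f567249 IH) (Lpn (LP (LK LD1_c8 LD2_c44 LD3_c26))))))))))))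
theorem f571819 : Led Lsl_gf (LP (LK LD1_c5 LD2_c48 LD3_c38)) = (LP (LK LD1_c6 LD2_c15 LD3_c18)) :=
  Lgr Lrot144 (Lpr_dt (f571810 IH) (Lpr_gt (f571817 IH) (Lpr_dt (f558291 IH) (Lpr_cf (f567565 IH) (Lpe (f567251 IH) (Lpr_gf (K28.f136912 IH) (Lpe (f562666 IH) (Lpr_gf (K40.f562664 IH) (Lpr_cf (K38.f547077 IH) (Lpn (LP (LK LD1_c6 LD2_c15 LD3_c18))))))))))))
theorem f547546 : Led Lsl_ef (LP (LK LD1_c4 LD2_c31 LD3_c56)) = (LP (LK LD1_c2 LD2_c14 LD3_c27)) :=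
  Lgr Lrot28 (Lpe (K31.f181756 IH) (Lpr_et (K38.f547544 IH) (Lpe (K6.f35241 IH) (Lpn (LP (LK LD1_c2 LD2_c14 LD3_c27))))))
theorem f174534 : Led Lsl_bt (LP (LK LD1_c0 LD2_c37 LD3_c7)) = (LP (LK LD1_c0 LD2_c16 LD3_c34)) :=
  Lre_b IH (LK LD1_c0 LD2_c37 LD3_c7) (LK LD1_c0 LD2_c16 LD3_c34) Lrfl Lrfl
theorem f566689 : Led Lsl_gt (LP (LK LD1_c7 LD2_c59 LD3_c20)) = (LP (LK LD1_c4 LD2_c31 LD3_c56)) :=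
  Lgr Lrot82 (Lpr_bf (K41.f566678 IH) (Lpr_ct (K40.f557356 IH) (Lpq (K41.f558330 IH) (Lpe (K41.f495255 IH) (Lpe (K38.f171853 IH) (Lpr_bt (f174534 IH) (Lpe (K9.f23960 IH) (Lpe (K16.f181409 IH) (Lpe (K16.f181731 IH) (Lpe (K31.f181417 IH) (Lpr_cf (K31.f181756 IH) (Lpn (LP (LK LD1_c4 LD2_c31 LD3_c56))))))))))))))
theorem f538139 : Led Lsl_dt (LP (LK LD1_c4 LD2_c33 LD3_c5)) = (LP (LK LD1_c2 LD2_c13 LD3_c31)) :=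
  Lre_d IH (LK LD1_c4 LD2_c33 LD3_c5) (LK LD1_c2 LD2_c13 LD3_c31) Lrfl Lrfl
theorem f569031 : Led Lsl_dt (LP (LK LD1_c12 LD2_c23 LD3_c45)) = (LP (LK LD1_c12 LD2_c11 LD3_c0)) :=
  Lgr Lrot6 (Lpe (K41.f567563 IH) (Lpr_ct (K41.f567577 IH) (Lpe (K41.f567592 IH) (Lpr_ct (K38.f538141 IH) (Lpe (f538139 IH) (Lpe (f538143 IH) (Lpr_gf (f569027 IH) (Lpr_cf (f568976 IH) (Lpe (f568984 IH) (Lpn (LP (LK LD1_c12 LD2_c11 LD3_c0))))))))))))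
theorem f571821 : Led Lsl_ef (LP (LK LD1_c7 LD2_c59 LD3_c20)) = (LP (LK LD1_c12 LD2_c23 LD3_c45)) :=
  Lgr Lrot114 (Lpr_gt (f566689 IH) (Lpr_ef (f547546 IH) (Lpe (K36.f109943 IH) (Lpe (K8.f161483 IH) (Lpe (K8.f149236 IH) (Lpr_et (K36.f149239 IH) (Lpe (f571819 IH) (Lpr_dt (f571810 IH) (Lpr_gt (f571817 IH) (Lpe (f569031 IH) (Lpn (LP (LK LD1_c12 LD2_c23 LD3_c45)))))))))))))
theorem f423764 : Led Lsl_et (LP (LK LD1_c3 LD2_c59 LD3_c1)) = (LP (LK LD1_c7 LD2_c59 LD3_c23)) :=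
  Lre_e IH (LK LD1_c3 LD2_c59 LD3_c1) (LK LD1_c7 LD2_c59 LD3_c23) Lrfl Lrfl
theorem f571823 : Led Lsl_at (LP (LK LD1_c7 LD2_c59 LD3_c23)) = (LP (LK LD1_c12 LD2_c23 LD3_c45)) :=
  Lgr Lrot80 (Lpe (f423764 IH) (Lpe (K41.f382086 IH) (Lpr_ef (f571821 IH) (Lpn (LP (LK LD1_c12 LD2_c23 LD3_c45))))))
theorem f548918 : Led Lsl_bt (LP (LK LD1_c5 LD2_c14 LD3_c6)) = (LP (LK LD1_c10 LD2_c18 LD3_c11)) :=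
  Lre_b IH (LK LD1_c5 LD2_c14 LD3_c6) (LK LD1_c10 LD2_c18 LD3_c11) Lrfl Lrfl
theorem f559092 : Led Lsl_df (LP (LK LD1_c12 LD2_c10 LD3_c55)) = (LP (LK LD1_c10 LD2_c18 LD3_c11)) :=
  Lgr Lrot12 (Lpr_bt (f450229 IH) (Lpr_dt (K40.f559090 IH) (Lpr_bt (f548918 IH) (Lpn (LP (LK LD1_c10 LD2_c18 LD3_c11))))))
theorem f571832 : Led Lsl_ff (LP (LK LD1_c7 LD2_c59 LD3_c23)) = (LP (LK LD1_c10 LD2_c18 LD3_c11)) :=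
  Lgr Lrot103 (Lpr_at (f571823 IH) (Lpr_cf (f567565 IH) (Lpe (f567251 IH) (Lpe (K6.f107306 IH) (Lpr_df (K36.f136506 IH) (Lpe (K36.f136847 IH) (Lpr_df (f568948 IH) (Lpe (f568961 IH) (Lpr_df (f559092 IH) (Lpn (LP (LK LD1_c10 LD2_c18 LD3_c11))))))))))))
theorem f571836 : Led Lsl_ft (LP (LK LD1_c7 LD2_c59 LD3_c23)) = (LP (LK LD1_c10 LD2_c18 LD3_c11)) :=
  Lgr Lrot48 (Lpr_ff (f571832 IH) (Lpn (LP (LK LD1_c10 LD2_c18 LD3_c11))))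
theorem f571831 : Led Lsl_bt (LP (LK LD1_c3 LD2_c59 LD3_c4)) = (LP (LK LD1_c7 LD2_c59 LD3_c23)) :=
  Lre_b IH (LK LD1_c3 LD2_c59 LD3_c4) (LK LD1_c7 LD2_c59 LD3_c23) Lrfl Lrfl
theorem f61379 : Led Lsl_bt (LP (LK LD1_c10 LD2_c18 LD3_c11)) = (LP (LK LD1_c5 LD2_c14 LD3_c6)) :=
  Lre_b IH (LK LD1_c10 LD2_c18 LD3_c11) (LK LD1_c5 LD2_c14 LD3_c6) Lrfl Lrfl
theorem f571838 : Led Lsl_ff (LP (LK LD1_c3 LD2_c59 LD3_c4)) = (LP (LK LD1_c5 LD2_c14 LD3_c6)) :=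
  Lgr Lrot25 (Lpr_bt (f571831 IH) (Lpr_ft (f571836 IH) (Lpr_bt (f61379 IH) (Lpn (LP (LK LD1_c5 LD2_c14 LD3_c6))))))
theorem f571846 : Led Lsl_at (LP (LK LD1_c3 LD2_c59 LD3_c4)) = (LP (LK LD1_c5 LD2_c14 LD3_c5)) :=
  Lgr Lrot26 (Lpr_ff (f571838 IH) (Lpr_gt (K38.f61376 IH) (Lpr_gt (K37.f61378 IH) (Lpn (LP (LK LD1_c5 LD2_c14 LD3_c5))))))
theorem f571854 : Led Lsl_at (LP (LK LD1_c3 LD2_c59 LD3_c0)) = (LP (LK LD1_c1 LD2_c56 LD3_c15)) :=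
  Lre_a IH (LK LD1_c3 LD2_c59 LD3_c0) (LK LD1_c1 LD2_c56 LD3_c15) Lrfl Lrfl
theorem f571855 : Led Lsl_ef (LP (LK LD1_c3 LD2_c59 LD3_c0)) = (LP (LK LD1_c5 LD2_c14 LD3_c5)) :=
  Lgr Lrot20 (Lpr_at (f571854 IH) (Lpr_et (K41.f548957 IH) (Lpr_at (f571846 IH) (Lpn (LP (LK LD1_c5 LD2_c14 LD3_c5))))))
theorem f40674 : Led Lsl_et (LP (LK LD1_c0 LD2_c55 LD3_c1)) = (LP (LK LD1_c1 LD2_c56 LD3_c16)) :=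
  Lre_e IH (LK LD1_c0 LD2_c55 LD3_c1) (LK LD1_c1 LD2_c56 LD3_c16) Lrfl Lrfl
theorem f571863 : Led Lsl_gt (LP (LK LD1_c3 LD2_c59 LD3_c0)) = (LP (LK LD1_c1 LD2_c56 LD3_c16)) :=
  Lgr Lrot131 (Lpr_ef (f571855 IH) (Lpr_dt (K37.f546849 IH) (Lpe (K37.f450214 IH) (Lpe (K40.f450212 IH) (Lpr_gf (K37.f503197 IH) (Lpq (K37.f546836 IH) (Lpe (K38.f149220 IH) (Lpr_dt (K8.f149211 IH) (Lpe (K8.f40335 IH) (Lpe (K1.f40329 IH) (Lpr_et (f40674 IH) (Lpn (LP (LK LD1_c1 LD2_c56 LD3_c16))))))))))))))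
theorem f450384 : Led Lsl_et (LP (LK LD1_c1 LD2_c28 LD3_c51)) = (LP (LK LD1_c3 LD2_c5 LD3_c41)) :=
  Lre_e IH (LK LD1_c1 LD2_c28 LD3_c51) (LK LD1_c3 LD2_c5 LD3_c41) Lrfl Lrfl
theorem f186491 : Led Lsl_gt (LP (LK LD1_c6 LD2_c17 LD3_c6)) = (LP (LK LD1_c3 LD2_c5 LD3_c41)) :=
  Lre_g IH (LK LD1_c6 LD2_c17 LD3_c6) (LK LD1_c3 LD2_c5 LD3_c41) Lrfl Lrfl
theorem f99586 : Led Lsl_gt (LP (LK LD1_c3 LD2_c59 LD3_c5)) = (LP (LK LD1_c7 LD2_c59 LD3_c29)) :=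
  Lre_g IH (LK LD1_c3 LD2_c59 LD3_c5) (LK LD1_c7 LD2_c59 LD3_c29) Lrfl Lrfl
theorem f174888 : Led Lsl_dt (LP (LK LD1_c7 LD2_c56 LD3_c29)) = (LP (LK LD1_c3 LD2_c57 LD3_c31)) :=
  Lre_d IH (LK LD1_c7 LD2_c56 LD3_c29) (LK LD1_c3 LD2_c57 LD3_c31) Lrfl Lrfl
theorem f101445 : Led Lsl_dt (LP (LK LD1_c3 LD2_c59 LD3_c10)) = (LP (LK LD1_c1 LD2_c56 LD3_c18)) :=
  Lre_d IH (LK LD1_c3 LD2_c59 LD3_c10) (LK LD1_c1 LD2_c56 LD3_c18) Lrfl Lrfl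
theorem f101554 : Led Lsl_gt (LP (LK LD1_c7 LD2_c59 LD3_c29)) = (LP (LK LD1_c3 LD2_c59 LD3_c10)) :=
  Lre_g IH (LK LD1_c7 LD2_c59 LD3_c29) (LK LD1_c3 LD2_c59 LD3_c10) Lrfl Lrfl
theorem f557164 : Led Lsl_dt (LP (LK LD1_c4 LD2_c19 LD3_c52)) = (LP (LK LD1_c7 LD2_c59 LD3_c29)) :=
  Lgr Lrot57 (Lpe (K40.f386982 IH) (Lpe (K39.f551969 IH) (Lpr_gt (K39.f112406 IH) (Lpr_dt (K39.f112409 IH) (Lpr_gt (K39.f557160 IH) (Lpr_dt (f174888 IH) (Lpe (K31.f101544 IH) (Lpe (f101445 IH) (Lpe (f101554 IH) (Lpn (LP (LK LD1_c7 LD2_c59 LD3_c29))))))))))))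
theorem f571875 : Led Lsl_ef (LP (LK LD1_c6 LD2_c17 LD3_c6)) = (LP (LK LD1_c4 LD2_c19 LD3_c52)) :=
  Lgr Lrot114 (Lpr_gt (f186491 IH) (Lpe (f450384 IH) (Lpr_dt (K40.f450212 IH) (Lpr_gt (K37.f450214 IH) (Lpe (K37.f546849 IH) (Lpe (f571855 IH) (Lpr_gt (f571863 IH) (Lpr_dt (K9.f40146 IH) (Lpr_gt (f99586 IH) (Lpe (f557164 IH) (Lpn (LP (LK LD1_c4 LD2_c19 LD3_c52)))))))))))))
theorem f571882 : Led Lsl_et (LP (LK LD1_c6 LD2_c17 LD3_c6)) = (LP (LK LD1_c4 LD2_c19 LD3_c52)) :=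
  Lgr Lrot87 (Lpr_ef (f571875 IH) (Lpn (LP (LK LD1_c4 LD2_c19 LD3_c52))))
theorem f450393 : Led Lsl_gf (LP (LK LD1_c6 LD2_c17 LD3_c6)) = (LP (LK LD1_c5 LD2_c38 LD3_c36)) :=
  Lgr Lrot47 (Lpr_gt (f186491 IH) (Lpe (K38.f450254 IH) (Lpr_ff (K39.f450387 IH) (Lpn (LP (LK LD1_c5 LD2_c38 LD3_c36))))))
theorem f566868 : Led Lsl_df (LP (LK LD1_c5 LD2_c52 LD3_c60)) = (LP (LK LD1_c6 LD2_c17 LD3_c6)) :=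
  Lgr Lrot153 (Lpr_gt (K40.f210712 IH) (Lpr_dt (K38.f210711 IH) (Lpe (K36.f210678 IH) (Lpe (K38.f210679 IH) (Lpe (K41.f210680 IH) (Lpe (K41.f547213 IH) (Lpr_gf (K41.f566864 IH) (Lpe (K41.f418986 IH) (Lpe (f450393 IH) (Lpn (LP (LK LD1_c6 LD2_c17 LD3_c6))))))))))))
theorem f541273 : Led Lsl_gf (LP (LK LD1_c5 LD2_c13 LD3_c54)) = (LP (LK LD1_c2 LD2_c34 LD3_c6)) :=
  Lgr Lrot76 (Lpe (K36.f427995 IH) (Lpr_ff (K36.f427993 IH) (Lpr_gt (K36.f541271 IH) (Lpn (LP (LK LD1_c2 LD2_c34 LD3_c6))))))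
theorem f565519 : Led Lsl_ef (LP (LK LD1_c2 LD2_c52 LD3_c44)) = (LP (LK LD1_c2 LD2_c33 LD3_c51)) :=
  Lgr Lrot88 (Lpr_et (K41.f565512 IH) (Lpn (LP (LK LD1_c2 LD2_c33 LD3_c51))))
theorem f571888 : Led Lsl_gf (LP (LK LD1_c3 LD2_c59 LD3_c36)) = (LP (LK LD1_c2 LD2_c52 LD3_c44)) :=
  Lgr Lrot138 (Lpr_dt (K40.f549838 IH) (Lpe (K40.f559692 IH) (Lpr_df (f566868 IH) (Lpr_et (f571882 IH) (Lpr_gt (K40.f180231 IH) (Lpe (K12.f225545 IH) (Lpr_dt (K36.f225669 IH) (Lpe (f541273 IH) (Lpe (K36.f61382 IH) (Lpe (f565519 IH) (Lpn (LP (LK LD1_c2 LD2_c52 LD3_c44)))))))))))))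
theorem f99752 : Led Lsl_gt (LP (LK LD1_c4 LD2_c26 LD3_c3)) = (LP (LK LD1_c2 LD2_c10 LD3_c20)) :=
  Lre_g IH (LK LD1_c4 LD2_c26 LD3_c3) (LK LD1_c2 LD2_c10 LD3_c20) Lrfl Lrfl
theorem f571890 : Led Lsl_bt (LP (LK LD1_c5 LD2_c41 LD3_c37)) = (LP (LK LD1_c4 LD2_c26 LD3_c3)) :=
  Lgr Lrot130 (Lpe (K41.f556735 IH) (Lpr_gf (f571888 IH) (Lpe (K41.f210714 IH) (Lpr_bt (K41.f565438 IH) (Lpr_gf (K37.f539929 IH) (Lpr_bf (f569400 IH) (Lpr_ct (K6.f112851 IH) (Lpr_gf (K40.f557781 IH) (Lpe (f425924 IH) (Lpe (f99752 IH) (Lpn (LP (LK LD1_c4 LD2_c26 LD3_c3)))))))))))))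
theorem f571903 : Led Lsl_ff (LP (LK LD1_c2 LD2_c54 LD3_c11)) = (LP (LK LD1_c4 LD2_c26 LD3_c3)) :=
  Lgr Lrot25 (Lpe (f81853 IH) (Lpe (K41.f547272 IH) (Lpr_bt (f571890 IH) (Lpn (LP (LK LD1_c4 LD2_c26 LD3_c3))))))
theorem f571912 : Led Lsl_at (LP (LK LD1_c2 LD2_c54 LD3_c11)) = (LP (LK LD1_c4 LD2_c25 LD3_c3)) :=
  Lgr Lrot26 (Lpr_ff (f571903 IH) (Lpr_gt (f99752 IH) (Lpe (K40.f557736 IH) (Lpn (LP (LK LD1_c4 LD2_c25 LD3_c3))))))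
theorem f571916 : Led Lsl_af (LP (LK LD1_c4 LD2_c26 LD3_c3)) = (LP (LK LD1_c2 LD2_c52 LD3_c59)) :=
  Lgr Lrot45 (Lpe (f571903 IH) (Lpr_at (f571912 IH) (Lpr_ft (K36.f449799 IH) (Lpn (LP (LK LD1_c2 LD2_c52 LD3_c59))))))
theorem f210979 : Led Lsl_gt (LP (LK LD1_c4 LD2_c25 LD3_c3)) = (LP (LK LD1_c8 LD2_c47 LD3_c43)) :=
  Lre_g IH (LK LD1_c4 LD2_c25 LD3_c3) (LK LD1_c8 LD2_c47 LD3_c43) Lrfl Lrfl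
theorem f571920 : Led Lsl_gf (LP (LK LD1_c4 LD2_c26 LD3_c3)) = (LP (LK LD1_c8 LD2_c47 LD3_c43)) :=
  Lgr Lrot76 (Lpr_af (f571916 IH) (Lpe (K36.f449799 IH) (Lpr_gt (f210979 IH) (Lpn (LP (LK LD1_c8 LD2_c47 LD3_c43))))))
theorem f541467 : Led Lsl_bf (LP (LK LD1_c4 LD2_c35 LD3_c11)) = (LP (LK LD1_c2 LD2_c53 LD3_c9)) :=
  Lgr Lrot24 (Lpr_bt (K36.f541463 IH) (Lpn (LP (LK LD1_c2 LD2_c53 LD3_c9))))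
theorem f138895 : Led Lsl_bt (LP (LK LD1_c4 LD2_c26 LD3_c0)) = (LP (LK LD1_c2 LD2_c27 LD3_c16)) :=
  Lgr Lrot119 (Lpe (K39.f132475 IH) (Lpr_bf (K6.f138883 IH) (Lpe (K36.f138894 IH) (Lpn (LP (LK LD1_c2 LD2_c27 LD3_c16))))))
theorem f571269 : Led Lsl_ct K36.v1624 = (LP (LK LD1_c4 LD2_c26 LD3_c3)) :=
  Lgr Lrot91 (Lpe (K36.f500409 IH) (Lpr_bf (f541467 IH) (Lpr_ct (K41.f72383 IH) (Lpr_gf (f571267 IH) (Lpe (K39.f556731 IH) (Lpr_bt (K39.f450550 IH) (Lpr_gf (K39.f500361 IH) (Lpq (K39.f556053 IH) (Lpe (f138895 IH) (Lpr_ct (K40.f139015 IH) (Lpe (f99752 IH) (Lpn (LP (LK LD1_c4 LD2_c26 LD3_c3))))))))))))))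
theorem f149688 : Led Lsl_gt (LP (LK LD1_c2 LD2_c51 LD3_c41)) = (LP (LK LD1_c5 LD2_c50 LD3_c58)) :=
  Lre_g IH (LK LD1_c2 LD2_c51 LD3_c41) (LK LD1_c5 LD2_c50 LD3_c58) Lrfl Lrfl
theorem f571926 : Led Lsl_ct (LP (LK LD1_c5 LD2_c50 LD3_c58)) = (LP (LK LD1_c8 LD2_c47 LD3_c43)) :=
  Lgr Lrot91 (Lpe (f149688 IH) (Lpe (K40.f208538 IH) (Lpr_ct (K36.f208520 IH) (Lpr_gf (K37.f539931 IH) (Lpq (K36.f539248 IH) (Lpr_cf (K36.f426083 IH) (Lpr_bt (K40.f428176 IH) (Lpe (K36.f428177 IH) (Lpr_bf (K36.f500752 IH) (Lpq (K36.f541531 IH) (Lpq (K36.f541487 IH) (Lpr_ct (f571269 IH) (Lpr_gf (f571920 IH) (Lpn (LP (LK LD1_c8 LD2_c47 LD3_c43))))))))))))))))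
theorem f99577 : Led Lsl_ft (LP (LK LD1_c0 LD2_c54 LD3_c58)) = (LP (LK LD1_c1 LD2_c56 LD3_c18)) :=
  Lre_f IH (LK LD1_c0 LD2_c54 LD3_c58) (LK LD1_c1 LD2_c56 LD3_c18) Lrfl Lrfl
theorem f99578 : Led Lsl_ft (LP (LK LD1_c3 LD2_c3 LD3_c31)) = (LP (LK LD1_c1 LD2_c27 LD3_c39)) :=
  Lre_f IH (LK LD1_c3 LD2_c3 LD3_c31) (LK LD1_c1 LD2_c27 LD3_c39) Lrfl Lrfl
theorem f99579 : Led Lsl_et (LP (LK LD1_c1 LD2_c56 LD3_c18)) = (LP (LK LD1_c3 LD2_c3 LD3_c31)) :=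
  Lgr Lrot69 (Lpe (f99577 IH) (Lpe (K37.f99576 IH) (Lpr_ff (K4.f99557 IH) (Lpe (f99509 IH) (Lpe (f99578 IH) (Lpn (LP (LK LD1_c3 LD2_c3 LD3_c31))))))))
theorem f557152 : Led Lsl_cf (LP (LK LD1_c4 LD2_c36 LD3_c11)) = (LP (LK LD1_c3 LD2_c3 LD3_c31)) :=
  Lgr Lrot39 (Lpr_et (K39.f557146 IH) (Lpr_ct (K38.f39210 IH) (Lpr_et (f99579 IH) (Lpn (LP (LK LD1_c3 LD2_c3 LD3_c31))))))
theorem f100662 : Led Lsl_gt (LP (LK LD1_c6 LD2_c13 LD3_c17)) = (LP (LK LD1_c3 LD2_c3 LD3_c31)) :=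
  Lre_g IH (LK LD1_c6 LD2_c13 LD3_c17) (LK LD1_c3 LD2_c3 LD3_c31) Lrfl Lrfl
theorem f571940 : Led Lsl_bt (LP (LK LD1_c5 LD2_c50 LD3_c58)) = (LP (LK LD1_c6 LD2_c13 LD3_c17)) :=
  Lgr Lrot130 (Lpr_ct (f571926 IH) (Lpe (f210979 IH) (Lpr_cf (K36.f210975 IH) (Lpr_bt (K36.f26715 IH) (Lpe (K11.f193806 IH) (Lpe (f71443 IH) (Lpr_ct (K39.f71462 IH) (Lpe (K39.f112408 IH) (Lpr_cf (f557152 IH) (Lpe (f100662 IH) (Lpn (LP (LK LD1_c6 LD2_c13 LD3_c17)))))))))))))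
theorem f571934 : Led Lsl_dt (LP (LK LD1_c11 LD2_c29 LD3_c25)) = (LP (LK LD1_c5 LD2_c50 LD3_c58)) :=
  Lre_d IH (LK LD1_c11 LD2_c29 LD3_c25) (LK LD1_c5 LD2_c50 LD3_c58) Lrfl Lrfl
theorem f571942 : Led Lsl_bf (LP (LK LD1_c11 LD2_c29 LD3_c25)) = (LP (LK LD1_c11 LD2_c27 LD3_c42)) :=
  Lgr Lrot93 (Lpr_dt (f571934 IH) (Lpr_bt (f571940 IH) (Lpr_dt (K41.f548949 IH) (Lpn (LP (LK LD1_c11 LD2_c27 LD3_c42))))))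
theorem f571944 : Led Lsl_bt (LP (LK LD1_c11 LD2_c29 LD3_c25)) = (LP (LK LD1_c11 LD2_c27 LD3_c42)) :=
  Lgr Lrot127 (Lpr_bf (f571942 IH) (Lpn (LP (LK LD1_c11 LD2_c27 LD3_c42))))
theorem f548658 : Led Lsl_gt (LP (LK LD1_c9 LD2_c9 LD3_c1)) = (LP (LK LD1_c4 LD2_c36 LD3_c27)) :=
  Lre_g IH (LK LD1_c9 LD2_c9 LD3_c1) (LK LD1_c4 LD2_c36 LD3_c27) Lrfl Lrfl
theorem f202297 : Led Lsl_ct (LP (LK LD1_c2 LD2_c15 LD3_c22)) = (LP (LK LD1_c4 LD2_c36 LD3_c27)) :=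
  Lre_c IH (LK LD1_c2 LD2_c15 LD3_c22) (LK LD1_c4 LD2_c36 LD3_c27) Lrfl Lrfl
theorem f71988 : Led Lsl_bt (LP (LK LD1_c2 LD2_c15 LD3_c22)) = (LP (LK LD1_c1 LD2_c4 LD3_c47)) :=
  Lre_b IH (LK LD1_c2 LD2_c15 LD3_c22) (LK LD1_c1 LD2_c4 LD3_c47) Lrfl Lrfl
theorem f71425 : Led Lsl_ct (LP (LK LD1_c4 LD2_c36 LD3_c35)) = (LP (LK LD1_c9 LD2_c9 LD3_c15)) :=
  Lre_c IH (LK LD1_c4 LD2_c36 LD3_c35) (LK LD1_c9 LD2_c9 LD3_c15) Lrfl Lrfl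
theorem f548664 : Led Lsl_gt (LP (LK LD1_c9 LD2_c9 LD3_c15)) = (LP (LK LD1_c17 LD2_c2 LD3_c16)) :=
  Lre_g IH (LK LD1_c9 LD2_c9 LD3_c15) (LK LD1_c17 LD2_c2 LD3_c16) Lrfl Lrfl
theorem f571950 : Led Lsl_ct (LP (LK LD1_c11 LD2_c29 LD3_c25)) = (LP (LK LD1_c17 LD2_c2 LD3_c16)) :=
  Lgr Lrot10 (Lpr_bt (f571944 IH) (Lpr_gt (K41.f176613 IH) (Lpr_ct (K38.f548651 IH) (Lpr_gt (f548658 IH) (Lpe (f202297 IH) (Lpr_bt (f71988 IH) (Lpr_gt (K10.f71419 IH) (Lpe (f71422 IH) (Lpr_ct (f71425 IH) (Lpr_gt (f548664 IH) (Lpn (LP (LK LD1_c17 LD2_c2 LD3_c16)))))))))))))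
theorem f176612 : Led Lsl_bt (LP (LK LD1_c2 LD2_c50 LD3_c45)) = (LP (LK LD1_c5 LD2_c49 LD3_c19)) :=
  Lre_b IH (LK LD1_c2 LD2_c50 LD3_c45) (LK LD1_c5 LD2_c49 LD3_c19) Lrfl Lrfl
theorem f571954 : Led Lsl_gt K35.v1737 = (LP (LK LD1_c4 LD2_c36 LD3_c35)) :=
  Lgr Lrot82 (Lpe (K35.f501204 IH) (Lpr_ct (K10.f175671 IH) (Lpr_gf (K10.f176603 IH) (Lpe (K10.f176602 IH) (Lpr_bt (f176612 IH) (Lpe (K41.f176613 IH) (Lpe (f571944 IH) (Lpr_ct (f571950 IH) (Lpe (f548664 IH) (Lpe (f71425 IH) (Lpn (LP (LK LD1_c4 LD2_c36 LD3_c35)))))))))))))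
theorem f80233 : Led Lsl_dt (LP (LK LD1_c2 LD2_c10 LD3_c20)) = (LP (LK LD1_c4 LD2_c26 LD3_c4)) :=
  Lre_d IH (LK LD1_c2 LD2_c10 LD3_c20) (LK LD1_c4 LD2_c26 LD3_c4) Lrfl Lrfl
theorem f38357 : Led Lsl_bt (LP (LK LD1_c8 LD2_c48 LD3_c40)) = (LP (LK LD1_c4 LD2_c25 LD3_c34)) :=
  Lre_b IH (LK LD1_c8 LD2_c48 LD3_c40) (LK LD1_c4 LD2_c25 LD3_c34) Lrfl Lrfl
theorem f227606 : Led Lsl_df (LP (LK LD1_c8 LD2_c48 LD3_c40)) = (LP (LK LD1_c8 LD2_c43 LD3_c8)) :=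
  Lgr Lrot12 (Lpr_bt (f38357 IH) (Lpr_dt (K12.f227601 IH) (Lpr_bt (f193397 IH) (Lpn (LP (LK LD1_c8 LD2_c43 LD3_c8))))))
theorem f418574 : Led Lsl_dt (LP (LK LD1_c8 LD2_c48 LD3_c40)) = (LP (LK LD1_c8 LD2_c43 LD3_c8)) :=
  Lgr Lrot42 (Lpr_df (f227606 IH) (Lpn (LP (LK LD1_c8 LD2_c43 LD3_c8))))
theorem f571961 : Led Lsl_gt (LP (LK LD1_c4 LD2_c26 LD3_c4)) = (LP (LK LD1_c8 LD2_c48 LD3_c40)) :=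
  Lgr Lrot49 (Lpe (f80233 IH) (Lpe (f99752 IH) (Lpe (f571269 IH) (Lpqs (K36.f541487 IH) (Lpr_gt (K36.f99671 IH) (Lpr_dt (K35.f80217 IH) (Lpq (K35.f537995 IH) (Lpr_gt (f571954 IH) (Lpr_dt (f175497 IH) (Lpe (f198335 IH) (Lpe (f418574 IH) (Lpn (LP (LK LD1_c8 LD2_c48 LD3_c40))))))))))))))
theorem f80234 : Led Lsl_gt (LP (LK LD1_c8 LD2_c49 LD3_c31)) = (LP (LK LD1_c4 LD2_c26 LD3_c4)) :=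
  Lre_g IH (LK LD1_c8 LD2_c49 LD3_c31) (LK LD1_c4 LD2_c26 LD3_c4) Lrfl Lrfl
theorem f418578 : Led Lsl_at (LP (LK LD1_c16 LD2_c28 LD3_c60)) = (LP (LK LD1_c8 LD2_c48 LD3_c40)) :=
  Lre_a IH (LK LD1_c16 LD2_c28 LD3_c60) (LK LD1_c8 LD2_c48 LD3_c40) Lrfl Lrfl
theorem f571964 : Led Lsl_ft (LP (LK LD1_c8 LD2_c49 LD3_c31)) = (LP (LK LD1_c16 LD2_c28 LD3_c60)) :=
  Lgr Lrot2 (Lpr_gt (f80234 IH) (Lpr_gt (f571961 IH) (Lpe (f418578 IH) (Lpn (LP (LK LD1_c16 LD2_c28 LD3_c60))))))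
theorem f571981 : Led Lsl_ff (LP (LK LD1_c8 LD2_c49 LD3_c31)) = (LP (LK LD1_c16 LD2_c28 LD3_c60)) :=
  Lgr Lrot3 (Lpr_ft (f571964 IH) (Lpn (LP (LK LD1_c16 LD2_c28 LD3_c60))))
theorem f418580 : Led Lsl_df (LP (LK LD1_c16 LD2_c28 LD3_c60)) = (LP (LK LD1_c16 LD2_c19 LD3_c54)) :=
  Lgr Lrot18 (Lpr_at (f418578 IH) (Lpr_dt (f418574 IH) (Lpr_at (f418579 IH) (Lpn (LP (LK LD1_c16 LD2_c19 LD3_c54))))))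
theorem f449909 : Led Lsl_bt (LP (LK LD1_c16 LD2_c19 LD3_c54)) = (LP (LK LD1_c11 LD2_c8 LD3_c20)) :=
  Lgr Lrot127 (Lpr_bf (f449907 IH) (Lpn (LP (LK LD1_c11 LD2_c8 LD3_c20))))
theorem f272494 : Led Lsl_et (LP (LK LD1_c9 LD2_c17 LD3_c49)) = (LP (LK LD1_c4 LD2_c41 LD3_c25)) :=
  Lre_e IH (LK LD1_c9 LD2_c17 LD3_c49) (LK LD1_c4 LD2_c41 LD3_c25) Lrfl Lrfl
theorem f272495 : Led Lsl_et (LP (LK LD1_c6 LD2_c14 LD3_c39)) = (LP (LK LD1_c12 LD2_c7 LD3_c32)) :=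
  Lre_e IH (LK LD1_c6 LD2_c14 LD3_c39) (LK LD1_c12 LD2_c7 LD3_c32) Lrfl Lrfl
theorem f272496 : Led Lsl_bf (LP (LK LD1_c9 LD2_c17 LD3_c49)) = (LP (LK LD1_c12 LD2_c7 LD3_c32)) :=
  Lgr Lrot96 (Lpr_et (f272494 IH) (Lpr_bt (f272489 IH) (Lpr_et (f272495 IH) (Lpn (LP (LK LD1_c12 LD2_c7 LD3_c32))))))
theorem f564269 : Led Lsl_ff (LP (LK LD1_c16 LD2_c19 LD3_c54)) = (LP (LK LD1_c9 LD2_c17 LD3_c49)) :=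
  Lgr Lrot25 (Lpr_bt (f449909 IH) (Lpr_ft (K41.f564265 IH) (Lpe (f272496 IH) (Lpn (LP (LK LD1_c9 LD2_c17 LD3_c49))))))
theorem f571985 : Led Lsl_dt (LP (LK LD1_c8 LD2_c49 LD3_c31)) = (LP (LK LD1_c9 LD2_c17 LD3_c49)) :=
  Lgr Lrot60 (Lpr_ff (f571981 IH) (Lpr_df (f418580 IH) (Lpr_ff (f564269 IH) (Lpn (LP (LK LD1_c9 LD2_c17 LD3_c49))))))
theorem f272501 : Led Lsl_ct (LP (LK LD1_c4 LD2_c41 LD3_c27)) = (LP (LK LD1_c9 LD2_c17 LD3_c49)) :=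
  Lre_c IH (LK LD1_c4 LD2_c41 LD3_c27) (LK LD1_c9 LD2_c17 LD3_c49) Lrfl Lrfl
theorem f80218 : Led Lsl_gt (LP (LK LD1_c4 LD2_c37 LD3_c37)) = (LP (LK LD1_c2 LD2_c15 LD3_c61)) :=
  Lre_g IH (LK LD1_c4 LD2_c37 LD3_c37) (LK LD1_c2 LD2_c15 LD3_c61) Lrfl Lrfl
theorem f26879 : Led Lsl_et (LP (LK LD1_c4 LD2_c41 LD3_c27)) = (LP (LK LD1_c2 LD2_c17 LD3_c48)) :=
  Lre_e IH (LK LD1_c4 LD2_c41 LD3_c27) (LK LD1_c2 LD2_c17 LD3_c48) Lrfl Lrfl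
theorem f538132 : Led Lsl_df (LP (LK LD1_c4 LD2_c37 LD3_c37)) = (LP (LK LD1_c4 LD2_c41 LD3_c27)) :=
  Lgr Lrot170 (Lpr_gt (f80218 IH) (Lpe (K35.f80217 IH) (Lpr_et (K37.f80216 IH) (Lpr_gt (K2.f72252 IH) (Lpr_dt (K5.f79956 IH) (Lpr_gt (K5.f40608 IH) (Lpe (K8.f79943 IH) (Lpr_et (K35.f79950 IH) (Lpr_gt (K40.f538126 IH) (Lpe (f26879 IH) (Lpn (LP (LK LD1_c4 LD2_c41 LD3_c27)))))))))))))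
theorem f538134 : Led Lsl_dt (LP (LK LD1_c4 LD2_c37 LD3_c37)) = (LP (LK LD1_c4 LD2_c41 LD3_c27)) :=
  Lgr Lrot42 (Lpr_df (f538132 IH) (Lpn (LP (LK LD1_c4 LD2_c41 LD3_c27))))
theorem f26718 : Led Lsl_dt (LP (LK LD1_c4 LD2_c35 LD3_c11)) = (LP (LK LD1_c9 LD2_c7 LD3_c2)) :=
  Lre_d IH (LK LD1_c4 LD2_c35 LD3_c11) (LK LD1_c9 LD2_c7 LD3_c2) Lrfl Lrfl
theorem f549482 : Led Lsl_gt (LP (LK LD1_c9 LD2_c7 LD3_c2)) = (LP (LK LD1_c4 LD2_c37 LD3_c37)) :=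
  Lgr Lrot139 (Lpe (f26718 IH) (Lpe (K36.f26717 IH) (Lpq (K36.f541541 IH) (Lpe (K36.f494394 IH) (Lpr_dt (K8.f35229 IH) (Lpe (K8.f161435 IH) (Lpr_df (K8.f26844 IH) (Lpr_et (K40.f26877 IH) (Lpe (K40.f26878 IH) (Lpe (f26879 IH) (Lpe (f538132 IH) (Lpn (LP (LK LD1_c4 LD2_c37 LD3_c37))))))))))))))
theorem f210980 : Led Lsl_dt (LP (LK LD1_c8 LD2_c47 LD3_c43)) = (LP (LK LD1_c16 LD2_c27 LD3_c34)) :=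
  Lre_d IH (LK LD1_c8 LD2_c47 LD3_c43) (LK LD1_c16 LD2_c27 LD3_c34) Lrfl Lrfl
theorem f571998 : Led Lsl_gf (LP (LK LD1_c8 LD2_c49 LD3_c31)) = (LP (LK LD1_c16 LD2_c27 LD3_c34)) :=
  Lgr Lrot143 (Lpr_dt (f571985 IH) (Lpe (f272501 IH) (Lpe (f538134 IH) (Lpe (f549482 IH) (Lpe (f26718 IH) (Lpe (K36.f26717 IH) (Lpe (K36.f210969 IH) (Lpr_gt (f210979 IH) (Lpr_dt (f210980 IH) (Lpn (LP (LK LD1_c16 LD2_c27 LD3_c34))))))))))))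
theorem f418570 : Led Lsl_at (LP (LK LD1_c8 LD2_c48 LD3_c40)) = (LP (LK LD1_c16 LD2_c28 LD3_c60)) :=
  Lre_a IH (LK LD1_c8 LD2_c48 LD3_c40) (LK LD1_c16 LD2_c28 LD3_c60) Lrfl Lrfl
theorem f418572 : Led Lsl_dt (LP (LK LD1_c16 LD2_c28 LD3_c60)) = (LP (LK LD1_c16 LD2_c19 LD3_c54)) :=
  Lgr Lrot44 (Lpe (f418570 IH) (Lpr_df (f227606 IH) (Lpe (f418571 IH) (Lpn (LP (LK LD1_c16 LD2_c19 LD3_c54))))))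
theorem f272498 : Led Lsl_bt (LP (LK LD1_c9 LD2_c17 LD3_c49)) = (LP (LK LD1_c12 LD2_c7 LD3_c32)) :=
  Lgr Lrot127 (Lpr_bf (f272496 IH) (Lpn (LP (LK LD1_c12 LD2_c7 LD3_c32))))
theorem f564277 : Led Lsl_ft (LP (LK LD1_c16 LD2_c19 LD3_c54)) = (LP (LK LD1_c9 LD2_c17 LD3_c49)) :=
  Lgr Lrot75 (Lpr_bf (f449907 IH) (Lpr_ff (K41.f564273 IH) (Lpe (f272498 IH) (Lpn (LP (LK LD1_c9 LD2_c17 LD3_c49))))))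
theorem f571979 : Led Lsl_df (LP (LK LD1_c8 LD2_c49 LD3_c31)) = (LP (LK LD1_c9 LD2_c17 LD3_c49)) :=
  Lgr Lrot78 (Lpr_ft (f571964 IH) (Lpr_dt (f418572 IH) (Lpr_ft (f564277 IH) (Lpn (LP (LK LD1_c9 LD2_c17 LD3_c49))))))
theorem f572007 : Led Lsl_gt (LP (LK LD1_c4 LD2_c41 LD3_c25)) = (LP (LK LD1_c6 LD2_c14 LD3_c60)) :=
  Lgr Lrot131 (Lpe (f272494 IH) (Lpe (f571979 IH) (Lpr_gf (f571998 IH) (Lpe (f210980 IH) (Lpe (f210979 IH) (Lpr_ef (K36.f542120 IH) (Lpr_dt (K8.f35341 IH) (Lpe (K32.f420329 IH) (Lpr_df (K32.f420337 IH) (Lpe (K41.f565154 IH) (Lpn (LP (LK LD1_c6 LD2_c14 LD3_c60)))))))))))))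
theorem f418508 : Led Lsl_dt (LP (LK LD1_c6 LD2_c14 LD3_c60)) = (LP (LK LD1_c12 LD2_c8 LD3_c19)) :=
  Lre_d IH (LK LD1_c6 LD2_c14 LD3_c60) (LK LD1_c12 LD2_c8 LD3_c19) Lrfl Lrfl
theorem f572011 : Led Lsl_gf (LP (LK LD1_c6 LD2_c15 LD3_c4)) = (LP (LK LD1_c12 LD2_c8 LD3_c19)) :=
  Lgr Lrot143 (Lpe (K41.f424467 IH) (Lpe (K41.f177123 IH) (Lpr_df (f549496 IH) (Lpe (K38.f26854 IH) (Lpe (K38.f26922 IH) (Lpe (K40.f26878 IH) (Lpe (f36579 IH) (Lpr_gt (f572007 IH) (Lpr_dt (f418508 IH) (Lpn (LP (LK LD1_c12 LD2_c8 LD3_c19))))))))))))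
theorem f572015 : Led Lsl_et (LP (LK LD1_c8 LD2_c47 LD3_c43)) = (LP (LK LD1_c4 LD2_c25 LD3_c57)) :=
  Lgr Lrot122 (Lpr_dt (f210980 IH) (Lpe (f571998 IH) (Lpr_df (f571979 IH) (Lpr_et (f272494 IH) (Lpr_gt (f572007 IH) (Lpr_dt (f418508 IH) (Lpe (f572011 IH) (Lpe (K41.f424500 IH) (Lpr_et (K41.f405150 IH) (Lpr_gt (K32.f421366 IH) (Lpn (LP (LK LD1_c4 LD2_c25 LD3_c57)))))))))))))
theorem f99974 : Led Lsl_ft (LP (LK LD1_c1 LD2_c2 LD3_c11)) = (LP (LK LD1_c2 LD2_c10 LD3_c16)) :=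
  Lre_f IH (LK LD1_c1 LD2_c2 LD3_c11) (LK LD1_c2 LD2_c10 LD3_c16) Lrfl Lrfl
theorem f572023 : Led Lsl_ff (LP (LK LD1_c8 LD2_c47 LD3_c43)) = (LP (LK LD1_c4 LD2_c25 LD3_c58)) :=
  Lgr Lrot72 (Lpr_et (f572015 IH) (Lpr_ft (K32.f421379 IH) (Lpr_et (K38.f80165 IH) (Lpr_ft (f99974 IH) (Lpr_et (K39.f158178 IH) (Lpn (LP (LK LD1_c4 LD2_c25 LD3_c58))))))))
theorem f545816 : Led Lsl_bt (LP (LK LD1_c8 LD2_c44 LD3_c50)) = (LP (LK LD1_c4 LD2_c26 LD3_c5)) :=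
  Lgr Lrot128 (Lpr_cf (K31.f175579 IH) (Lpe (K40.f175581 IH) (Lpr_cf (K37.f545812 IH) (Lpr_bf (K39.f539818 IH) (Lpe (K39.f138930 IH) (Lpn (LP (LK LD1_c4 LD2_c26 LD3_c5))))))))
theorem f428053 : Led Lsl_ft (LP (LK LD1_c2 LD2_c10 LD3_c20)) = (LP (LK LD1_c4 LD2_c26 LD3_c5)) :=
  Lre_f IH (LK LD1_c2 LD2_c10 LD3_c20) (LK LD1_c4 LD2_c26 LD3_c5) Lrfl Lrfl
theorem f557747 : Led Lsl_af (LP (LK LD1_c8 LD2_c47 LD3_c43)) = (LP (LK LD1_c4 LD2_c26 LD3_c5)) :=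
  Lgr Lrot31 (Lpe (f210979 IH) (Lpr_gf (K40.f557736 IH) (Lpr_ft (f428053 IH) (Lpn (LP (LK LD1_c4 LD2_c26 LD3_c5))))))
theorem f563412 : Led Lsl_bf (LP (LK LD1_c15 LD2_c7 LD3_c61)) = (LP (LK LD1_c8 LD2_c47 LD3_c43)) :=
  Lgr Lrot81 (Lpe (f556675 IH) (Lpr_bt (K39.f198441 IH) (Lpr_at (K41.f563403 IH) (Lpr_bt (f545816 IH) (Lpe (f557747 IH) (Lpn (LP (LK LD1_c8 LD2_c47 LD3_c43))))))))
theorem f570624 : Led Lsl_cf (LP (LK LD1_c5 LD2_c50 LD3_c58)) = (LP (LK LD1_c8 LD2_c47 LD3_c43)) :=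
  Lgr Lrot58 (Lpe (f149688 IH) (Lpe (K6.f112851 IH) (Lpe (f569400 IH) (Lpe (K41.f565083 IH) (Lpe (K41.f556615 IH) (Lpr_ct (K41.f424934 IH) (Lpe (K39.f424947 IH) (Lpe (K39.f556683 IH) (Lpr_gf (f570620 IH) (Lpr_bf (f563412 IH) (Lpn (LP (LK LD1_c8 LD2_c47 LD3_c43)))))))))))))
theorem f572027 : Led Lsl_ft (LP (LK LD1_c5 LD2_c50 LD3_c58)) = (LP (LK LD1_c6 LD2_c13 LD3_c22)) :=
  Lgr Lrot4 (Lpr_cf (f570624 IH) (Lpr_ff (f572023 IH) (Lpe (K41.f565101 IH) (Lpn (LP (LK LD1_c6 LD2_c13 LD3_c22))))))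
theorem f572017 : Led Lsl_ef (LP (LK LD1_c5 LD2_c50 LD3_c58)) = (LP (LK LD1_c8 LD2_c49 LD3_c4)) :=
  Lgr Lrot28 (Lpr_ct (f571926 IH) (Lpr_et (f572015 IH) (Lpr_ct (f421363 IH) (Lpn (LP (LK LD1_c8 LD2_c49 LD3_c4))))))
theorem f572031 : Led Lsl_ef (LP (LK LD1_c4 LD2_c25 LD3_c50)) = (LP (LK LD1_c6 LD2_c13 LD3_c22)) :=
  Lgr Lrot21 (Lpr_ft (K11.f138867 IH) (Lpr_et (K36.f157893 IH) (Lpr_ft (K37.f421428 IH) (Lpe (f572017 IH) (Lpr_ft (f572027 IH) (Lpn (LP (LK LD1_c6 LD2_c13 LD3_c22))))))))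
theorem f142104 : Led Lsl_et (LP (LK LD1_c5 LD2_c47 LD3_c55)) = (LP (LK LD1_c11 LD2_c25 LD3_c27)) :=
  Lre_e IH (LK LD1_c5 LD2_c47 LD3_c55) (LK LD1_c11 LD2_c25 LD3_c27) Lrfl Lrfl
theorem f142100 : Led Lsl_dt (LP (LK LD1_c11 LD2_c25 LD3_c27)) = (LP (LK LD1_c20 LD2_c22 LD3_c52)) :=
  Lre_d IH (LK LD1_c11 LD2_c25 LD3_c27) (LK LD1_c20 LD2_c22 LD3_c52) Lrfl Lrfl
theorem f565103 : Led Lsl_dt (LP (LK LD1_c12 LD2_c5 LD3_c34)) = (LP (LK LD1_c6 LD2_c13 LD3_c22)) :=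
  Lre_d IH (LK LD1_c12 LD2_c5 LD3_c34) (LK LD1_c6 LD2_c13 LD3_c22) Lrfl Lrfl
theorem f572035 : Led Lsl_et (LP (LK LD1_c20 LD2_c22 LD3_c52)) = (LP (LK LD1_c12 LD2_c5 LD3_c34)) :=
  Lgr Lrot71 (Lpe (f142100 IH) (Lpe (f142104 IH) (Lpe (K8.f158135 IH) (Lpr_ef (f572031 IH) (Lpe (f565103 IH) (Lpn (LP (LK LD1_c12 LD2_c5 LD3_c34))))))))
theorem f572042 : Led Lsl_ef (LP (LK LD1_c20 LD2_c22 LD3_c52)) = (LP (LK LD1_c12 LD2_c5 LD3_c34)) :=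
  Lgr Lrot88 (Lpr_et (f572035 IH) (Lpn (LP (LK LD1_c12 LD2_c5 LD3_c34))))
theorem f569109 : Led Lsl_bt (LP (LK LD1_c6 LD2_c13 LD3_c24)) = (LP (LK LD1_c12 LD2_c5 LD3_c34)) :=
  Lre_b IH (LK LD1_c6 LD2_c13 LD3_c24) (LK LD1_c12 LD2_c5 LD3_c34) Lrfl Lrfl
theorem f564215 : Led Lsl_et (LP (LK LD1_c12 LD2_c5 LD3_c37)) = (LP (LK LD1_c6 LD2_c13 LD3_c24)) :=
  Lre_e IH (LK LD1_c12 LD2_c5 LD3_c37) (LK LD1_c6 LD2_c13 LD3_c24) Lrfl Lrfl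
theorem f572046 : Led Lsl_bt (LP (LK LD1_c20 LD2_c22 LD3_c52)) = (LP (LK LD1_c12 LD2_c5 LD3_c37)) :=
  Lgr Lrot119 (Lpr_ef (f572042 IH) (Lpe (f569109 IH) (Lpe (f564215 IH) (Lpn (LP (LK LD1_c12 LD2_c5 LD3_c37))))))
theorem f572050 : Led Lsl_df (LP (LK LD1_c9 LD2_c48 LD3_c8)) = (LP (LK LD1_c12 LD2_c5 LD3_c37)) :=
  Lgr Lrot12 (Lpe (K11.f205818 IH) (Lpr_dt (f142100 IH) (Lpr_bt (f572046 IH) (Lpn (LP (LK LD1_c12 LD2_c5 LD3_c37))))))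
theorem f572054 : Led Lsl_dt (LP (LK LD1_c9 LD2_c48 LD3_c8)) = (LP (LK LD1_c12 LD2_c5 LD3_c37)) :=
  Lgr Lrot42 (Lpr_df (f572050 IH) (Lpn (LP (LK LD1_c12 LD2_c5 LD3_c37))))
theorem f101588 : Led Lsl_dt (LP (LK LD1_c6 LD2_c13 LD3_c24)) = (LP (LK LD1_c3 LD2_c3 LD3_c29)) :=
  Lre_d IH (LK LD1_c6 LD2_c13 LD3_c24) (LK LD1_c3 LD2_c3 LD3_c29) Lrfl Lrfl
theorem f572057 : Led Lsl_ef (LP (LK LD1_c2 LD2_c27 LD3_c18)) = (LP (LK LD1_c3 LD2_c3 LD3_c29)) :=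
  Lgr Lrot73 (Lpr_dt (K8.f138870 IH) (Lpr_et (K11.f158456 IH) (Lpr_dt (f572054 IH) (Lpr_et (f564215 IH) (Lpr_dt (f101588 IH) (Lpn (LP (LK LD1_c3 LD2_c3 LD3_c29))))))))
theorem f202652 : Led Lsl_dt (LP (LK LD1_c9 LD2_c8 LD3_c21)) = (LP (LK LD1_c17 LD2_c0 LD3_c53)) :=
  Lre_d IH (LK LD1_c9 LD2_c8 LD3_c21) (LK LD1_c17 LD2_c0 LD3_c53) Lrfl Lrfl
theorem f569314 : Led Lsl_gt (LP (LK LD1_c11 LD2_c27 LD3_c33)) = (LP (LK LD1_c6 LD2_c13 LD3_c24)) :=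
  Lgr Lrot94 (Lpr_cf (f549012 IH) (Lpr_gt (K38.f72069 IH) (Lpr_dt (f202652 IH) (Lpr_gt (f569310 IH) (Lpr_dt (K38.f186451 IH) (Lpe (K38.f101699 IH) (Lpe (K38.f99510 IH) (Lpe (K38.f99563 IH) (Lpe (f101588 IH) (Lpn (LP (LK LD1_c6 LD2_c13 LD3_c24))))))))))))
theorem f572063 : Led Lsl_gt (LP (LK LD1_c5 LD2_c40 LD3_c1)) = (LP (LK LD1_c6 LD2_c15 LD3_c27)) :=
  Lgr Lrot112 (Lpr_df (K36.f536080 IH) (Lpqs (K38.f537430 IH) (Lpq (K38.f537713 IH) (Lpe (K38.f500288 IH) (Lpe (K8.f158158 IH) (Lpr_ef (f572057 IH) (Lpr_dt (K38.f100554 IH) (Lpe (f569314 IH) (Lpe (K38.f450365 IH) (Lpr_gf (K41.f564204 IH) (Lpe (K40.f112536 IH) (Lpr_dt (K40.f60730 IH) (Lpn (LP (LK LD1_c6 LD2_c15 LD3_c27)))))))))))))))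
theorem f386269 : Led Lsl_gt (LP (LK LD1_c5 LD2_c45 LD3_c11)) = (LP (LK LD1_c11 LD2_c20 LD3_c51)) :=
  Lre_g IH (LK LD1_c5 LD2_c45 LD3_c11) (LK LD1_c11 LD2_c20 LD3_c51) Lrfl Lrfl
theorem f572065 : Led Lsl_dt (LP (LK LD1_c11 LD2_c20 LD3_c51)) = (LP (LK LD1_c9 LD2_c2 LD3_c43)) :=
  Lgr Lrot105 (Lpe (f386269 IH) (Lpe (K30.f172686 IH) (Lpe (K31.f172621 IH) (Lpe (K36.f424386 IH) (Lpr_gt (f572063 IH) (Lpr_dt (K40.f73857 IH) (Lpr_gt (K40.f60835 IH) (Lpr_dt (K40.f561677 IH) (Lpr_cf (K40.f411877 IH) (Lpn (LP (LK LD1_c9 LD2_c2 LD3_c43))))))))))))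
theorem f385229 : Led Lsl_ff (LP (LK LD1_c9 LD2_c4 LD3_c43)) = (LP (LK LD1_c5 LD2_c45 LD3_c11)) :=
  Lgr Lrot19 (Lpr_dt (K30.f174586 IH) (Lpr_ft (K30.f385214 IH) (Lpr_dt (K30.f172686 IH) (Lpn (LP (LK LD1_c5 LD2_c45 LD3_c11))))))
theorem f385562 : Led Lsl_at (LP (LK LD1_c9 LD2_c4 LD3_c43)) = (LP (LK LD1_c16 LD2_c56 LD3_c21)) :=
  Lre_a IH (LK LD1_c9 LD2_c4 LD3_c43) (LK LD1_c16 LD2_c56 LD3_c21) Lrfl Lrfl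
theorem f386333 : Led Lsl_gf (LP (LK LD1_c16 LD2_c56 LD3_c21)) = (LP (LK LD1_c11 LD2_c20 LD3_c51)) :=
  Lgr Lrot76 (Lpe (f385562 IH) (Lpr_ff (f385229 IH) (Lpr_gt (f386269 IH) (Lpn (LP (LK LD1_c11 LD2_c20 LD3_c51))))))
theorem f210460 : Led Lsl_gt (LP (LK LD1_c20 LD2_c18 LD3_c28)) = (LP (LK LD1_c11 LD2_c20 LD3_c53)) :=
  Lre_g IH (LK LD1_c20 LD2_c18 LD3_c28) (LK LD1_c11 LD2_c20 LD3_c53) Lrfl Lrfl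
theorem f210461 : Led Lsl_gt (LP (LK LD1_c16 LD2_c22 LD3_c26)) = (LP (LK LD1_c20 LD2_c18 LD3_c28)) :=
  Lgr Lrot5 (Lpr_ft (K30.f210454 IH) (Lpr_at (K30.f172688 IH) (Lpe (f210460 IH) (Lpn (LP (LK LD1_c20 LD2_c18 LD3_c28))))))
theorem f280557 : Led Lsl_gt (LP (LK LD1_c2 LD2_c46 LD3_c50)) = (LP (LK LD1_c4 LD2_c32 LD3_c36)) :=
  Lgr Lrot5 (Lpr_ft (K20.f280543 IH) (Lpr_at (K16.f268828 IH) (Lpe (K40.f181348 IH) (Lpn (LP (LK LD1_c4 LD2_c32 LD3_c36))))))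
theorem f280560 : Led Lsl_ct (LP (LK LD1_c4 LD2_c32 LD3_c36)) = (LP (LK LD1_c9 LD2_c2 LD3_c41)) :=
  Lre_c IH (LK LD1_c4 LD2_c32 LD3_c36) (LK LD1_c9 LD2_c2 LD3_c41) Lrfl Lrfl
theorem f280562 : Led Lsl_dt (LP (LK LD1_c9 LD2_c2 LD3_c41)) = (LP (LK LD1_c16 LD2_c53 LD3_c10)) :=
  Lre_d IH (LK LD1_c9 LD2_c2 LD3_c41) (LK LD1_c16 LD2_c53 LD3_c10) Lrfl Lrfl
theorem f572078 : Led Lsl_ct (LP (LK LD1_c20 LD2_c18 LD3_c28)) = (LP (LK LD1_c16 LD2_c53 LD3_c10)) :=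
  Lgr Lrot151 (Lpe (f210461 IH) (Lpr_cf (K30.f385560 IH) (Lpr_gf (f386333 IH) (Lpr_dt (f572065 IH) (Lpe (K40.f411867 IH) (Lpr_ct (K39.f269083 IH) (Lpr_gt (f280557 IH) (Lpr_ct (f280560 IH) (Lpr_dt (f280562 IH) (Lpn (LP (LK LD1_c16 LD2_c53 LD3_c10))))))))))))
theorem f572081 : Led Lsl_cf (LP (LK LD1_c20 LD2_c18 LD3_c28)) = (LP (LK LD1_c16 LD2_c53 LD3_c10)) :=
  Lgr Lrot11 (Lpr_ct (f572078 IH) (Lpn (LP (LK LD1_c16 LD2_c53 LD3_c10))))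
theorem f181347 : Led Lsl_dt (LP (LK LD1_c2 LD2_c13 LD3_c19)) = (LP (LK LD1_c1 LD2_c3 LD3_c42)) :=
  Lre_d IH (LK LD1_c2 LD2_c13 LD3_c19) (LK LD1_c1 LD2_c3 LD3_c42) Lrfl Lrfl
theorem f551689 : Led Lsl_dt (LP (LK LD1_c2 LD2_c26 LD3_c9)) = (LP (LK LD1_c4 LD2_c32 LD3_c36)) :=
  Lgr Lrot57 (Lpe (K39.f386168 IH) (Lpr_cf (K41.f547801 IH) (Lpr_gt (K35.f60466 IH) (Lpr_dt (K39.f60879 IH) (Lpr_gt (K39.f551681 IH) (Lpr_dt (K16.f181344 IH) (Lpe (K30.f174559 IH) (Lpe (f181347 IH) (Lpe (K40.f181348 IH) (Lpn (LP (LK LD1_c4 LD2_c32 LD3_c36))))))))))))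
theorem f556294 : Led Lsl_af (LP (LK LD1_c9 LD2_c44 LD3_c42)) = (LP (LK LD1_c15 LD2_c3 LD3_c48)) :=
  Lgr Lrot0 (Lpr_at (K39.f556292 IH) (Lpn (LP (LK LD1_c15 LD2_c3 LD3_c48))))
theorem f572084 : Led Lsl_dt (LP (LK LD1_c20 LD2_c18 LD3_c28)) = (LP (LK LD1_c16 LD2_c52 LD3_c61)) :=
  Lgr Lrot120 (Lpr_cf (f572081 IH) (Lpe (f280562 IH) (Lpe (f280560 IH) (Lpe (f551689 IH) (Lpe (K39.f172692 IH) (Lpe (K39.f386170 IH) (Lpr_ft (K39.f556272 IH) (Lpe (f556294 IH) (Lpr_cf (K39.f551691 IH) (Lpn (LP (LK LD1_c16 LD2_c52 LD3_c61))))))))))))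
theorem f572092 : Led Lsl_ct (LP (LK LD1_c9 LD2_c44 LD3_c42)) = (LP (LK LD1_c16 LD2_c52 LD3_c61)) :=
  Lgr Lrot7 (Lpe (K39.f547284 IH) (Lpe (K39.f380282 IH) (Lpr_df (K39.f547813 IH) (Lpr_gf (K39.f423592 IH) (Lpe (K31.f280548 IH) (Lpe (K31.f406937 IH) (Lpr_dt (K37.f210429 IH) (Lpr_gt (f210461 IH) (Lpr_dt (f572084 IH) (Lpn (LP (LK LD1_c16 LD2_c52 LD3_c61))))))))))))
theorem f181722 : Led Lsl_dt (LP (LK LD1_c4 LD2_c32 LD3_c16)) = (LP (LK LD1_c2 LD2_c13 LD3_c11)) :=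
  Lre_d IH (LK LD1_c4 LD2_c32 LD3_c16) (LK LD1_c2 LD2_c13 LD3_c11) Lrfl Lrfl
theorem f181725 : Led Lsl_dt (LP (LK LD1_c8 LD2_c43 LD3_c41)) = (LP (LK LD1_c4 LD2_c22 LD3_c55)) :=
  Lre_d IH (LK LD1_c8 LD2_c43 LD3_c41) (LK LD1_c4 LD2_c22 LD3_c55) Lrfl Lrfl
theorem f117637 : Led Lsl_dt (LP (LK LD1_c6 LD2_c24 LD3_c36)) = (LP (LK LD1_c12 LD2_c22 LD3_c5)) :=
  Lre_d IH (LK LD1_c6 LD2_c24 LD3_c36) (LK LD1_c12 LD2_c22 LD3_c5) Lrfl Lrfl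
theorem f552447 : Led Lsl_gf (LP (LK LD1_c8 LD2_c43 LD3_c41)) = (LP (LK LD1_c12 LD2_c22 LD3_c5)) :=
  Lgr Lrot143 (Lpr_dt (f181725 IH) (Lpr_cf (K16.f181716 IH) (Lpe (f181722 IH) (Lpr_gf (K39.f552445 IH) (Lpe (K39.f164971 IH) (Lpe (K38.f407822 IH) (Lpe (K39.f547439 IH) (Lpr_gt (K38.f547449 IH) (Lpr_dt (f117637 IH) (Lpn (LP (LK LD1_c12 LD2_c22 LD3_c5))))))))))))
theorem f572100 : Led Lsl_bt (LP (LK LD1_c9 LD2_c44 LD3_c42)) = (LP (LK LD1_c12 LD2_c22 LD3_c5)) :=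
  Lgr Lrot22 (Lpr_ct (f572092 IH) (Lpe (K39.f181397 IH) (Lpe (K39.f181368 IH) (Lpe (K39.f551681 IH) (Lpe (K39.f60509 IH) (Lpr_ct (K1.f60450 IH) (Lpr_gf (K13.f193770 IH) (Lpe (K13.f80982 IH) (Lpr_bt (K40.f241744 IH) (Lpr_gf (f552447 IH) (Lpn (LP (LK LD1_c12 LD2_c22 LD3_c5)))))))))))))
theorem f572122 : Led Lsl_bf (LP (LK LD1_c9 LD2_c44 LD3_c42)) = (LP (LK LD1_c12 LD2_c22 LD3_c5)) :=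
  Lgr Lrot24 (Lpr_bt (f572100 IH) (Lpn (LP (LK LD1_c12 LD2_c22 LD3_c5))))
theorem f496035 : Led Lsl_ft (LP (LK LD1_c6 LD2_c24 LD3_c35)) = (LP (LK LD1_c12 LD2_c22 LD3_c5)) :=
  Lre_f IH (LK LD1_c6 LD2_c24 LD3_c35) (LK LD1_c12 LD2_c22 LD3_c5) Lrfl Lrfl
theorem f549566 : Led Lsl_bt (LP (LK LD1_c12 LD2_c22 LD3_c4)) = (LP (LK LD1_c6 LD2_c24 LD3_c35)) :=
  Lre_b IH (LK LD1_c12 LD2_c22 LD3_c4) (LK LD1_c6 LD2_c24 LD3_c35) Lrfl Lrfl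
theorem f572126 : Led Lsl_ft (LP (LK LD1_c9 LD2_c44 LD3_c42)) = (LP (LK LD1_c12 LD2_c22 LD3_c4)) :=
  Lgr Lrot75 (Lpr_bf (f572122 IH) (Lpe (f496035 IH) (Lpe (f549566 IH) (Lpn (LP (LK LD1_c12 LD2_c22 LD3_c4))))))
theorem f572128 : Led Lsl_ff (LP (LK LD1_c4 LD2_c56 LD3_c39)) = (LP (LK LD1_c6 LD2_c24 LD3_c32)) :=
  Lgr Lrot19 (Lpr_dt (K39.f547284 IH) (Lpr_ft (f572126 IH) (Lpr_dt (K38.f549817 IH) (Lpn (LP (LK LD1_c6 LD2_c24 LD3_c32))))))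
theorem f572132 : Led Lsl_ft (LP (LK LD1_c2 LD2_c26 LD3_c8)) = (LP (LK LD1_c3 LD2_c58 LD3_c53)) :=
  Lgr Lrot4 (Lpe (K39.f210340 IH) (Lpr_ff (f572128 IH) (Lpr_cf (K39.f549823 IH) (Lpn (LP (LK LD1_c3 LD2_c58 LD3_c53))))))
theorem f572144 : Led Lsl_ff (LP (LK LD1_c2 LD2_c26 LD3_c8)) = (LP (LK LD1_c3 LD2_c58 LD3_c53)) :=
  Lgr Lrot3 (Lpr_ft (f572132 IH) (Lpn (LP (LK LD1_c3 LD2_c58 LD3_c53))))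
theorem f572146 : Led Lsl_at (LP (LK LD1_c2 LD2_c26 LD3_c8)) = (LP (LK LD1_c3 LD2_c58 LD3_c54)) :=
  Lgr Lrot66 (Lpr_ff (f572144 IH) (Lpe (K39.f552049 IH) (Lpr_ff (K39.f552043 IH) (Lpn (LP (LK LD1_c3 LD2_c58 LD3_c54))))))
theorem f553762 : Led Lsl_dt (LP (LK LD1_c4 LD2_c32 LD3_c35)) = (LP (LK LD1_c2 LD2_c26 LD3_c8)) :=
  Lgr Lrot6 (Lpe (K39.f412020 IH) (Lpr_ct (K20.f269060 IH) (Lpr_gt (K39.f553747 IH) (Lpr_ct (K39.f60804 IH) (Lpe (K2.f60790 IH) (Lpe (K2.f60470 IH) (Lpe (K35.f60466 IH) (Lpe (K35.f547795 IH) (Lpr_gf (K35.f385270 IH) (Lpn (LP (LK LD1_c2 LD2_c26 LD3_c8))))))))))))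
theorem f572148 : Led Lsl_af (LP (LK LD1_c4 LD2_c32 LD3_c35)) = (LP (LK LD1_c2 LD2_c46 LD3_c56)) :=
  Lgr Lrot117 (Lpr_dt (f553762 IH) (Lpr_at (f572146 IH) (Lpe (K39.f552041 IH) (Lpn (LP (LK LD1_c2 LD2_c46 LD3_c56))))))
theorem f226760 : Led Lsl_ct (LP (LK LD1_c4 LD2_c32 LD3_c35)) = (LP (LK LD1_c9 LD2_c2 LD3_c39)) :=
  Lre_c IH (LK LD1_c4 LD2_c32 LD3_c35) (LK LD1_c9 LD2_c2 LD3_c39) Lrfl Lrfl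
theorem f572245 : Led Lsl_at (LP (LK LD1_c9 LD2_c2 LD3_c39)) = (LP (LK LD1_c5 LD2_c41 LD3_c50)) :=
  Lgr Lrot107 (Lpe (f226760 IH) (Lpr_af (f572148 IH) (Lpe (K31.f174343 IH) (Lpn (LP (LK LD1_c5 LD2_c41 LD3_c50))))))
theorem f572250 : Led Lsl_ff (LP (LK LD1_c9 LD2_c2 LD3_c39)) = (LP (LK LD1_c5 LD2_c41 LD3_c47)) :=
  Lgr Lrot52 (Lpr_at (f572245 IH) (Lpe (K31.f392343 IH) (Lpr_gf (K31.f181504 IH) (Lpn (LP (LK LD1_c5 LD2_c41 LD3_c47))))))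
theorem f572252 : Led Lsl_ft (LP (LK LD1_c9 LD2_c2 LD3_c39)) = (LP (LK LD1_c5 LD2_c41 LD3_c47)) :=
  Lgr Lrot48 (Lpr_ff (f572250 IH) (Lpn (LP (LK LD1_c5 LD2_c41 LD3_c47))))
theorem f572247 : Led Lsl_af (LP (LK LD1_c9 LD2_c2 LD3_c39)) = (LP (LK LD1_c5 LD2_c41 LD3_c50)) :=
  Lgr Lrot0 (Lpr_at (f572245 IH) (Lpn (LP (LK LD1_c5 LD2_c41 LD3_c50))))
theorem f280563 : Led Lsl_ct (LP (LK LD1_c9 LD2_c2 LD3_c41)) = (LP (LK LD1_c4 LD2_c32 LD3_c36)) :=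
  Lre_c IH (LK LD1_c9 LD2_c2 LD3_c41) (LK LD1_c4 LD2_c32 LD3_c36) Lrfl Lrfl
theorem f561590 : Led Lsl_af (LP (LK LD1_c9 LD2_c2 LD3_c41)) = (LP (LK LD1_c5 LD2_c41 LD3_c47)) :=
  Lgr Lrot68 (Lpr_ct (f280563 IH) (Lpr_at (K40.f561587 IH) (Lpr_ct (K31.f174141 IH) (Lpn (LP (LK LD1_c5 LD2_c41 LD3_c47))))))
theorem f572254 : Led Lsl_ff (LP (LK LD1_c5 LD2_c41 LD3_c50)) = (LP (LK LD1_c9 LD2_c2 LD3_c41)) :=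
  Lgr Lrot30 (Lpe (f572247 IH) (Lpr_ft (f572252 IH) (Lpe (f561590 IH) (Lpn (LP (LK LD1_c9 LD2_c2 LD3_c41))))))
theorem f174344 : Led Lsl_bt (LP (LK LD1_c5 LD2_c41 LD3_c50)) = (LP (LK LD1_c11 LD2_c13 LD3_c51)) :=
  Lre_b IH (LK LD1_c5 LD2_c41 LD3_c50) (LK LD1_c11 LD2_c13 LD3_c51) Lrfl Lrfl
theorem f542225 : Led Lsl_bt (LP (LK LD1_c16 LD2_c53 LD3_c9)) = (LP (LK LD1_c9 LD2_c2 LD3_c41)) :=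
  Lre_b IH (LK LD1_c16 LD2_c53 LD3_c9) (LK LD1_c9 LD2_c2 LD3_c41) Lrfl Lrfl
theorem f572257 : Led Lsl_ft (LP (LK LD1_c11 LD2_c13 LD3_c51)) = (LP (LK LD1_c16 LD2_c53 LD3_c9)) :=
  Lgr Lrot75 (Lpe (f174344 IH) (Lpr_ff (f572254 IH) (Lpe (f542225 IH) (Lpn (LP (LK LD1_c16 LD2_c53 LD3_c9))))))
theorem f402625 : Led Lsl_ct (LP (LK LD1_c20 LD2_c8 LD3_c31)) = (LP (LK LD1_c11 LD2_c13 LD3_c51)) :=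
  Lre_c IH (LK LD1_c20 LD2_c8 LD3_c31) (LK LD1_c11 LD2_c13 LD3_c51) Lrfl Lrfl
theorem f280564 : Led Lsl_bt (LP (LK LD1_c9 LD2_c2 LD3_c41)) = (LP (LK LD1_c16 LD2_c53 LD3_c9)) :=
  Lre_b IH (LK LD1_c9 LD2_c2 LD3_c41) (LK LD1_c16 LD2_c53 LD3_c9) Lrfl Lrfl
theorem f132985 : Led Lsl_bt (LP (LK LD1_c17 LD2_c15 LD3_c44)) = (LP (LK LD1_c9 LD2_c19 LD3_c50)) :=
  Lre_b IH (LK LD1_c17 LD2_c15 LD3_c44) (LK LD1_c9 LD2_c19 LD3_c50) Lrfl Lrfl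
theorem f561566 : Led Lsl_ct (LP (LK LD1_c16 LD2_c53 LD3_c9)) = (LP (LK LD1_c17 LD2_c15 LD3_c44)) :=
  Lgr Lrot83 (Lpe (f280564 IH) (Lpe (f280560 IH) (Lpr_bf (K40.f561561 IH) (Lpe (K40.f132974 IH) (Lpe (f132985 IH) (Lpn (LP (LK LD1_c17 LD2_c15 LD3_c44))))))))
theorem f572292 : Led Lsl_ff (LP (LK LD1_c20 LD2_c8 LD3_c31)) = (LP (LK LD1_c17 LD2_c15 LD3_c44)) :=
  Lgr Lrot23 (Lpr_ct (f402625 IH) (Lpr_ft (f572257 IH) (Lpr_ct (f561566 IH) (Lpn (LP (LK LD1_c17 LD2_c15 LD3_c44))))))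
theorem f572296 : Led Lsl_ft (LP (LK LD1_c20 LD2_c8 LD3_c31)) = (LP (LK LD1_c17 LD2_c15 LD3_c44)) :=
  Lgr Lrot48 (Lpr_ff (f572292 IH) (Lpn (LP (LK LD1_c17 LD2_c15 LD3_c44))))
theorem f569839 : Led Lsl_bt (LP (LK LD1_c11 LD2_c13 LD3_c49)) = (LP (LK LD1_c20 LD2_c8 LD3_c31)) :=
  Lre_b IH (LK LD1_c11 LD2_c13 LD3_c49) (LK LD1_c20 LD2_c8 LD3_c31) Lrfl Lrfl
theorem f572298 : Led Lsl_ff (LP (LK LD1_c11 LD2_c13 LD3_c49)) = (LP (LK LD1_c9 LD2_c19 LD3_c50)) :=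
  Lgr Lrot25 (Lpr_bt (f569839 IH) (Lpr_ft (f572296 IH) (Lpr_bt (f132985 IH) (Lpn (LP (LK LD1_c9 LD2_c19 LD3_c50))))))
theorem f572304 : Led Lsl_ft (LP (LK LD1_c5 LD2_c41 LD3_c49)) = (LP (LK LD1_c4 LD2_c42 LD3_c55)) :=
  Lgr Lrot4 (Lpe (K39.f181576 IH) (Lpr_ff (f572298 IH) (Lpe (K40.f132945 IH) (Lpn (LP (LK LD1_c4 LD2_c42 LD3_c55))))))
theorem f572313 : Led Lsl_gt (LP (LK LD1_c2 LD2_c46 LD3_c60)) = (LP (LK LD1_c3 LD2_c5 LD3_c0)) :=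
  Lgr Lrot46 (Lpr_gf (K39.f541713 IH) (Lpr_ft (f572304 IH) (Lpe (K6.f132964 IH) (Lpn (LP (LK LD1_c3 LD2_c5 LD3_c0))))))
theorem f494074 : Led Lsl_ct (LP (LK LD1_c2 LD2_c45 LD3_c57)) = (LP (LK LD1_c5 LD2_c39 LD3_c59)) :=
  Lre_c IH (LK LD1_c2 LD2_c45 LD3_c57) (LK LD1_c5 LD2_c39 LD3_c59) Lrfl Lrfl
theorem f537937 : Led Lsl_bt (LP (LK LD1_c2 LD2_c45 LD3_c57)) = (LP (LK LD1_c5 LD2_c39 LD3_c58)) :=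
  Lre_b IH (LK LD1_c2 LD2_c45 LD3_c57) (LK LD1_c5 LD2_c39 LD3_c58) Lrfl Lrfl
theorem f381219 : Led Lsl_bt (LP (LK LD1_c4 LD2_c57 LD3_c20)) = (LP (LK LD1_c5 LD2_c37 LD3_c44)) :=
  Lgr Lrot92 (Lpr_ct (K35.f381217 IH) (Lpr_gt (K35.f381215 IH) (Lpe (K27.f174137 IH) (Lpr_bt (K17.f174136 IH) (Lpr_gt (K9.f174128 IH) (Lpe (K9.f174110 IH) (Lpe (K12.f225924 IH) (Lpe (K36.f319420 IH) (Lpr_bt (K36.f319458 IH) (Lpr_gt (K39.f381218 IH) (Lpn (LP (LK LD1_c5 LD2_c37 LD3_c44)))))))))))))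
theorem f381223 : Led Lsl_bf (LP (LK LD1_c4 LD2_c57 LD3_c20)) = (LP (LK LD1_c5 LD2_c37 LD3_c44)) :=
  Lgr Lrot24 (Lpr_bt (f381219 IH) (Lpn (LP (LK LD1_c5 LD2_c37 LD3_c44))))
theorem f132973 : Led Lsl_ct (LP (LK LD1_c3 LD2_c5 LD3_c0)) = (LP (LK LD1_c6 LD2_c15 LD3_c53)) :=
  Lre_c IH (LK LD1_c3 LD2_c5 LD3_c0) (LK LD1_c6 LD2_c15 LD3_c53) Lrfl Lrfl
theorem f572318 : Led Lsl_gf (LP (LK LD1_c11 LD2_c6 LD3_c53)) = (LP (LK LD1_c6 LD2_c15 LD3_c53)) :=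
  Lgr Lrot129 (Lpe (K39.f381225 IH) (Lpe (f381223 IH) (Lpe (K39.f541728 IH) (Lpe (f537937 IH) (Lpr_ct (f494074 IH) (Lpe (K40.f553564 IH) (Lpe (K16.f68594 IH) (Lpr_bt (K39.f412326 IH) (Lpr_gt (f572313 IH) (Lpr_ct (f132973 IH) (Lpn (LP (LK LD1_c6 LD2_c15 LD3_c53)))))))))))))
theorem f381238 : Led Lsl_ct (LP (LK LD1_c11 LD2_c6 LD3_c53)) = (LP (LK LD1_c5 LD2_c37 LD3_c44)) :=
  Lre_c IH (LK LD1_c11 LD2_c6 LD3_c53) (LK LD1_c5 LD2_c37 LD3_c44) Lrfl Lrfl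
theorem f571870 : Led Lsl_ct (LP (LK LD1_c7 LD2_c59 LD3_c16)) = (LP (LK LD1_c3 LD2_c59 LD3_c0)) :=
  Lre_c IH (LK LD1_c7 LD2_c59 LD3_c16) (LK LD1_c3 LD2_c59 LD3_c0) Lrfl Lrfl
theorem f444727 : Led Lsl_ct (LP (LK LD1_c14 LD2_c58 LD3_c42)) = (LP (LK LD1_c7 LD2_c56 LD3_c24)) :=
  Lre_c IH (LK LD1_c14 LD2_c58 LD3_c42) (LK LD1_c7 LD2_c56 LD3_c24) Lrfl Lrfl
theorem f174729 : Led Lsl_gt (LP (LK LD1_c24 LD2_c46 LD3_c6)) = (LP (LK LD1_c14 LD2_c58 LD3_c42)) :=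
  Lre_g IH (LK LD1_c24 LD2_c46 LD3_c6) (LK LD1_c14 LD2_c58 LD3_c42) Lrfl Lrfl
theorem f551993 : Led Lsl_ft (LP (LK LD1_c11 LD2_c14 LD3_c17)) = (LP (LK LD1_c15 LD2_c3 LD3_c52)) :=
  Lgr Lrot54 (Lpe (K40.f551973 IH) (Lpr_ff (K39.f551987 IH) (Lpe (K39.f382081 IH) (Lpn (LP (LK LD1_c15 LD2_c3 LD3_c52))))))
theorem f559586 : Led Lsl_gf (LP (LK LD1_c15 LD2_c26 LD3_c25)) = (LP (LK LD1_c11 LD2_c14 LD3_c17)) :=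
  Lgr Lrot47 (Lpr_gt (K40.f559584 IH) (Lpr_af (K38.f423536 IH) (Lpe (f551993 IH) (Lpn (LP (LK LD1_c11 LD2_c14 LD3_c17))))))
theorem f571871 : Led Lsl_gf (LP (LK LD1_c7 LD2_c59 LD3_c16)) = (LP (LK LD1_c5 LD2_c41 LD3_c60)) :=
  Lgr Lrot147 (Lpr_ct (f571870 IH) (Lpr_gt (f571863 IH) (Lpr_ct (K1.f40112 IH) (Lpe (K39.f40118 IH) (Lpe (f444727 IH) (Lpe (f174729 IH) (Lpe (K39.f541312 IH) (Lpr_gf (f559586 IH) (Lpe (K40.f551973 IH) (Lpn (LP (LK LD1_c5 LD2_c41 LD3_c60))))))))))))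
theorem f572324 : Led Lsl_df (LP (LK LD1_c5 LD2_c37 LD3_c44)) = (LP (LK LD1_c3 LD2_c59 LD3_c0)) :=
  Lgr Lrot162 (Lpe (f381238 IH) (Lpr_gf (f572318 IH) (Lpe (f132973 IH) (Lpe (f572313 IH) (Lpr_dt (K39.f181677 IH) (Lpr_gt (K39.f175482 IH) (Lpr_ct (K40.f422810 IH) (Lpe (f571871 IH) (Lpr_ct (f571870 IH) (Lpn (LP (LK LD1_c3 LD2_c59 LD3_c0))))))))))))
theorem f402566 : Led Lsl_gt (LP (LK LD1_c3 LD2_c10 LD3_c29)) = (LP (LK LD1_c1 LD2_c31 LD3_c30)) :=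
  Lre_g IH (LK LD1_c3 LD2_c10 LD3_c29) (LK LD1_c1 LD2_c31 LD3_c30) Lrfl Lrfl
theorem f571860 : Led Lsl_et (LP (LK LD1_c3 LD2_c59 LD3_c0)) = (LP (LK LD1_c5 LD2_c14 LD3_c5)) :=
  Lgr Lrot87 (Lpr_ef (f571855 IH) (Lpn (LP (LK LD1_c5 LD2_c14 LD3_c5))))
theorem f176696 : Led Lsl_ct (LP (LK LD1_c5 LD2_c49 LD3_c8)) = (LP (LK LD1_c2 LD2_c50 LD3_c39)) :=
  Lre_c IH (LK LD1_c5 LD2_c49 LD3_c8) (LK LD1_c2 LD2_c50 LD3_c39) Lrfl Lrfl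
theorem f450241 : Led Lsl_dt (LP (LK LD1_c5 LD2_c49 LD3_c9)) = (LP (LK LD1_c2 LD2_c50 LD3_c39)) :=
  Lre_d IH (LK LD1_c5 LD2_c49 LD3_c9) (LK LD1_c2 LD2_c50 LD3_c39) Lrfl Lrfl
theorem f564309 : Led Lsl_gf (LP (LK LD1_c5 LD2_c49 LD3_c9)) = (LP (LK LD1_c9 LD2_c5 LD3_c41)) :=
  Lgr Lrot143 (Lpr_dt (f450241 IH) (Lpe (f176696 IH) (Lpr_df (K41.f564301 IH) (Lpe (K3.f92365 IH) (Lpe (K37.f93628 IH) (Lpe (K37.f93629 IH) (Lpe (K37.f546856 IH) (Lpr_gt (K40.f302040 IH) (Lpe (K40.f302050 IH) (Lpn (LP (LK LD1_c9 LD2_c5 LD3_c41))))))))))))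
theorem f572342 : Led Lsl_ef (LP (LK LD1_c3 LD2_c10 LD3_c29)) = (LP (LK LD1_c2 LD2_c50 LD3_c39)) :=
  Lgr Lrot114 (Lpr_gt (f402566 IH) (Lpe (K36.f402564 IH) (Lpr_dt (K39.f387003 IH) (Lpr_gt (K39.f381218 IH) (Lpr_df (f572324 IH) (Lpr_et (f571860 IH) (Lpr_gt (K40.f302040 IH) (Lpe (K40.f302050 IH) (Lpe (f564309 IH) (Lpe (K41.f450237 IH) (Lpn (LP (LK LD1_c2 LD2_c50 LD3_c39)))))))))))))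
theorem f564293 : Led Lsl_gt (LP (LK LD1_c5 LD2_c49 LD3_c9)) = (LP (LK LD1_c2 LD2_c50 LD3_c49)) :=
  Lgr Lrot49 (Lpe (K41.f450237 IH) (Lpe (K41.f450235 IH) (Lpr_cf (K41.f564283 IH) (Lpr_gt (K40.f202194 IH) (Lpqs (K37.f543803 IH) (Lpe (K37.f519730 IH) (Lpr_gt (K6.f18026 IH) (Lpe (K38.f548884 IH) (Lpe (K16.f61419 IH) (Lpr_df (K40.f61299 IH) (Lpn (LP (LK LD1_c2 LD2_c50 LD3_c49)))))))))))))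
theorem f572354 : Led Lsl_gf (LP (LK LD1_c3 LD2_c10 LD3_c29)) = (LP (LK LD1_c2 LD2_c51 LD3_c7)) :=
  Lgr Lrot141 (Lpr_ef (f572342 IH) (Lpr_dt (K41.f450237 IH) (Lpr_gt (f564293 IH) (Lpe (K36.f61353 IH) (Lpr_et (K38.f61380 IH) (Lpr_gt (K32.f61381 IH) (Lpr_dt (K36.f61382 IH) (Lpr_gt (f541269 IH) (Lpe (K36.f177301 IH) (Lpe (K36.f541261 IH) (Lpn (LP (LK LD1_c2 LD2_c51 LD3_c7)))))))))))))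
theorem f572348 : Led Lsl_ct (LP (LK LD1_c3 LD2_c10 LD3_c29)) = (LP (LK LD1_c3 LD2_c4 LD3_c55)) :=
  Lgr Lrot15 (Lpr_ef (f572342 IH) (Lpe (f176696 IH) (Lpr_ef (f569354 IH) (Lpn (LP (LK LD1_c3 LD2_c4 LD3_c55))))))
theorem f117887 : Led Lsl_bt (LP (LK LD1_c0 LD2_c40 LD3_c57)) = (LP (LK LD1_c1 LD2_c28 LD3_c31)) :=
  Lre_b IH (LK LD1_c0 LD2_c40 LD3_c57) (LK LD1_c1 LD2_c28 LD3_c31) Lrfl Lrfl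
theorem f500170 : Led Lsl_ct (LP (LK LD1_c3 LD2_c10 LD3_c24)) = K36.v1576 :=
  Lgr Lrot15 (Lpr_ef (K36.f205124 IH) (Lpe (K27.f205139 IH) (Lpr_ef (K36.f500169 IH) (Lpn K36.v1576))))
theorem f572364 : Led Lsl_bt (LP (LK LD1_c3 LD2_c10 LD3_c24)) = (LP (LK LD1_c2 LD2_c51 LD3_c7)) :=
  Lgr Lrot130 (Lpr_ct (f500170 IH) (Lpq (K36.f537862 IH) (Lpe (K32.f426316 IH) (Lpe (K32.f72886 IH) (Lpr_bt (K8.f75039 IH) (Lpe (K8.f160996 IH) (Lpe (f117887 IH) (Lpr_ct (K5.f58964 IH) (Lpe (K11.f132505 IH) (Lpe (f572348 IH) (Lpr_gf (f572354 IH) (Lpn (LP (LK LD1_c2 LD2_c51 LD3_c7))))))))))))))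
theorem f572366 : Led Lsl_bf (LP (LK LD1_c3 LD2_c10 LD3_c29)) = (LP (LK LD1_c2 LD2_c49 LD3_c57)) :=
  Lgr Lrot34 (Lpr_gf (f572354 IH) (Lpe (f572364 IH) (Lpr_ct (f500170 IH) (Lpq (K36.f537862 IH) (Lpe (K32.f426316 IH) (Lpe (K32.f72886 IH) (Lpe (K8.f72884 IH) (Lpe (K4.f72966 IH) (Lpr_ct (K4.f60359 IH) (Lpr_gf (K8.f142087 IH) (Lpe (K8.f142074 IH) (Lpn (LP (LK LD1_c2 LD2_c49 LD3_c57))))))))))))))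
theorem f506382 : Led Lsl_dt (LP (LK LD1_c3 LD2_c10 LD3_c29)) = (LP (LK LD1_c6 LD2_c25 LD3_c36)) :=
  Lre_d IH (LK LD1_c3 LD2_c10 LD3_c29) (LK LD1_c6 LD2_c25 LD3_c36) Lrfl Lrfl
theorem f572368 : Led Lsl_bt (LP (LK LD1_c6 LD2_c25 LD3_c36)) = (LP (LK LD1_c4 LD2_c38 LD3_c0)) :=
  Lgr Lrot95 (Lpe (f506382 IH) (Lpr_bf (f572366 IH) (Lpr_df (K8.f142039 IH) (Lpn (LP (LK LD1_c4 LD2_c38 LD3_c0))))))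
theorem f572372 : Led Lsl_bf (LP (LK LD1_c6 LD2_c25 LD3_c36)) = (LP (LK LD1_c4 LD2_c38 LD3_c0)) :=
  Lgr Lrot24 (Lpr_bt (f572368 IH) (Lpn (LP (LK LD1_c4 LD2_c38 LD3_c0))))
theorem f163264 : Led Lsl_ft (LP (LK LD1_c4 LD2_c58 LD3_c28)) = (LP (LK LD1_c5 LD2_c57 LD3_c50)) :=
  Lgr Lrot48 (Lpr_ff (K8.f163259 IH) (Lpn (LP (LK LD1_c5 LD2_c57 LD3_c50))))
theorem f163274 : Led Lsl_bt (LP (LK LD1_c5 LD2_c57 LD3_c50)) = (LP (LK LD1_c4 LD2_c58 LD3_c52)) :=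
  Lgr Lrot35 (Lpe (f163264 IH) (Lpe (K4.f69013 IH) (Lpr_ff (K8.f163272 IH) (Lpn (LP (LK LD1_c4 LD2_c58 LD3_c52))))))
theorem f572382 : Led Lsl_gf (LP (LK LD1_c6 LD2_c25 LD3_c36)) = (LP (LK LD1_c4 LD2_c58 LD3_c52)) :=
  Lgr Lrot124 (Lpr_bf (f572372 IH) (Lpr_ct (K6.f58896 IH) (Lpr_gt (K6.f80051 IH) (Lpe (K0.f26400 IH) (Lpr_bt (K0.f26403 IH) (Lpr_gt (K2.f56898 IH) (Lpr_ct (K8.f72661 IH) (Lpr_gt (K8.f72649 IH) (Lpr_cf (K37.f150377 IH) (Lpr_bt (f163274 IH) (Lpn (LP (LK LD1_c4 LD2_c58 LD3_c52)))))))))))))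
theorem f80670 : Led Lsl_bt (LP (LK LD1_c4 LD2_c0 LD3_c37)) = (LP (LK LD1_c1 LD2_c57 LD3_c3)) :=
  Lre_b IH (LK LD1_c4 LD2_c0 LD3_c37) (LK LD1_c1 LD2_c57 LD3_c3) Lrfl Lrfl
theorem f506376 : Led Lsl_bf (LP (LK LD1_c1 LD2_c31 LD3_c28)) = K39.v1916 :=
  Lgr Lrot24 (Lpr_bt (K39.f506375 IH) (Lpn K39.v1916))
theorem f99481 : Led Lsl_dt (LP (LK LD1_c2 LD2_c53 LD3_c42)) = (LP (LK LD1_c5 LD2_c54 LD3_c41)) :=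
  Lre_d IH (LK LD1_c2 LD2_c53 LD3_c42) (LK LD1_c5 LD2_c54 LD3_c41) Lrfl Lrfl
theorem f496578 : Led Lsl_dt K31.v1562 = (LP (LK LD1_c2 LD2_c52 LD3_c20)) :=
  Lgr Lrot159 (Lpe (K31.f496279 IH) (Lpr_at (K39.f210017 IH) (Lpr_cf (K32.f496570 IH) (Lpr_df (K11.f138183 IH) (Lpe (K8.f138164 IH) (Lpe (K32.f138173 IH) (Lpe (K32.f156811 IH) (Lpe (K11.f22765 IH) (Lpr_cf (K11.f22754 IH) (Lpn (LP (LK LD1_c2 LD2_c52 LD3_c20))))))))))))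
theorem f498484 : Led Lsl_ct (LP (LK LD1_c2 LD2_c18 LD3_c44)) = K31.v1562 :=
  Lgr Lrot176 (Lpr_df (K36.f138598 IH) (Lpe (K36.f71027 IH) (Lpe (K36.f498466 IH) (Lpr_cf (K36.f498479 IH) (Lpe (f99481 IH) (Lpe (K32.f496535 IH) (Lpe (K31.f210004 IH) (Lpr_cf (K32.f496570 IH) (Lpr_df (K11.f138183 IH) (Lpe (K8.f138164 IH) (Lpe (K32.f138173 IH) (Lpe (K32.f156811 IH) (Lpe (K11.f22765 IH) (Lpr_cf (K11.f22754 IH) (Lpe (f496578 IH) (Lpn K31.v1562))))))))))))))))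
theorem f538505 : Led Lsl_ct (LP (LK LD1_c3 LD2_c4 LD3_c55)) = (LP (LK LD1_c3 LD2_c10 LD3_c29)) :=
  Lgr Lrot91 (Lpr_gf (K11.f133005 IH) (Lpe (K41.f80985 IH) (Lpr_ct (K5.f80682 IH) (Lpr_gf (K35.f538496 IH) (Lpe (K4.f80647 IH) (Lpr_bt (f80670 IH) (Lpr_gf (K11.f205315 IH) (Lpr_bf (f506376 IH) (Lpq (K39.f537673 IH) (Lpr_ct (f498484 IH) (Lpqs (K36.f537279 IH) (Lpe (f402566 IH) (Lpn (LP (LK LD1_c3 LD2_c10 LD3_c29)))))))))))))))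
theorem f569366 : Led Lsl_ef (LP (LK LD1_c2 LD2_c50 LD3_c39)) = (LP (LK LD1_c3 LD2_c10 LD3_c29)) :=
  Lgr Lrot28 (Lpr_ct (K41.f450240 IH) (Lpr_et (f569362 IH) (Lpr_ct (f538505 IH) (Lpn (LP (LK LD1_c3 LD2_c10 LD3_c29))))))
theorem f138836 : Led Lsl_et (LP (LK LD1_c2 LD2_c27 LD3_c21)) = (LP (LK LD1_c1 LD2_c10 LD3_c53)) :=
  Lre_e IH (LK LD1_c2 LD2_c27 LD3_c21) (LK LD1_c1 LD2_c10 LD3_c53) Lrfl Lrfl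
theorem f138837 : Led Lsl_dt (LP (LK LD1_c2 LD2_c27 LD3_c21)) = (LP (LK LD1_c4 LD2_c58 LD3_c59)) :=
  Lre_d IH (LK LD1_c2 LD2_c27 LD3_c21) (LK LD1_c4 LD2_c58 LD3_c59) Lrfl Lrfl
theorem f572386 : Led Lsl_gt (LP (LK LD1_c5 LD2_c49 LD3_c19)) = (LP (LK LD1_c4 LD2_c58 LD3_c59)) :=
  Lgr Lrot112 (Lpe (K41.f450380 IH) (Lpr_et (K41.f450383 IH) (Lpe (K41.f176680 IH) (Lpr_ef (f569366 IH) (Lpr_dt (f506382 IH) (Lpr_gf (f572382 IH) (Lpe (K8.f101750 IH) (Lpe (K8.f72419 IH) (Lpe (f138836 IH) (Lpr_dt (f138837 IH) (Lpn (LP (LK LD1_c4 LD2_c58 LD3_c59)))))))))))))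
theorem f572399 : Led Lsl_et (LP (LK LD1_c4 LD2_c57 LD3_c15)) = (LP (LK LD1_c2 LD2_c27 LD3_c17)) :=
  Lgr Lrot122 (Lpr_dt (K39.f411814 IH) (Lpe (K39.f556171 IH) (Lpe (K39.f60813 IH) (Lpr_et (f569256 IH) (Lpr_gt (f176628 IH) (Lpr_dt (K41.f450380 IH) (Lpr_gt (f572386 IH) (Lpe (f138837 IH) (Lpr_et (f138836 IH) (Lpr_gt (K8.f72419 IH) (Lpn (LP (LK LD1_c2 LD2_c27 LD3_c17)))))))))))))
theorem f161321 : Led Lsl_dt (LP (LK LD1_c4 LD2_c58 LD3_c52)) = (LP (LK LD1_c2 LD2_c27 LD3_c17)) :=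
  Lre_d IH (LK LD1_c4 LD2_c58 LD3_c52) (LK LD1_c2 LD2_c27 LD3_c17) Lrfl Lrfl
theorem f163270 : Led Lsl_ff (LP (LK LD1_c2 LD2_c53 LD3_c24)) = (LP (LK LD1_c2 LD2_c27 LD3_c17)) :=
  Lgr Lrot19 (Lpr_dt (K8.f76304 IH) (Lpr_ft (K8.f163261 IH) (Lpr_dt (f161321 IH) (Lpn (LP (LK LD1_c2 LD2_c27 LD3_c17))))))
theorem f71032 : Led Lsl_et (LP (LK LD1_c2 LD2_c53 LD3_c26)) = (LP (LK LD1_c1 LD2_c22 LD3_c47)) :=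
  Lre_e IH (LK LD1_c2 LD2_c53 LD3_c26) (LK LD1_c1 LD2_c22 LD3_c47) Lrfl Lrfl
theorem f556733 : Led Lsl_ef (LP (LK LD1_c2 LD2_c52 LD3_c45)) = (LP (LK LD1_c2 LD2_c53 LD3_c24)) :=
  Lgr Lrot28 (Lpr_ct (K39.f556731 IH) (Lpr_et (f71032 IH) (Lpr_ct (K6.f71024 IH) (Lpn (LP (LK LD1_c2 LD2_c53 LD3_c24))))))
theorem f556721 : Led Lsl_ff (LP (LK LD1_c3 LD2_c59 LD3_c36)) = (LP (LK LD1_c2 LD2_c52 LD3_c45)) :=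
  Lgr Lrot52 (Lpr_at (K40.f549842 IH) (Lpe (K39.f556702 IH) (Lpr_gf (K39.f556719 IH) (Lpn (LP (LK LD1_c2 LD2_c52 LD3_c45))))))
theorem f559522 : Led Lsl_et (LP (LK LD1_c3 LD2_c59 LD3_c36)) = (LP (LK LD1_c5 LD2_c41 LD3_c35)) :=
  Lgr Lrot74 (Lpr_bf (K38.f549840 IH) (Lpqs (K36.f539836 IH) (Lpq (K36.f539826 IH) (Lpr_ef (K40.f559501 IH) (Lpe (K31.f172491 IH) (Lpn (LP (LK LD1_c5 LD2_c41 LD3_c35))))))))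
theorem f572402 : Led Lsl_ff (LP (LK LD1_c4 LD2_c57 LD3_c15)) = (LP (LK LD1_c5 LD2_c41 LD3_c35)) :=
  Lgr Lrot72 (Lpr_et (f572399 IH) (Lpe (f163270 IH) (Lpe (f556733 IH) (Lpe (f556721 IH) (Lpr_et (f559522 IH) (Lpn (LP (LK LD1_c5 LD2_c41 LD3_c35))))))))
theorem f572408 : Led Lsl_ft (LP (LK LD1_c4 LD2_c57 LD3_c15)) = (LP (LK LD1_c5 LD2_c41 LD3_c35)) :=
  Lgr Lrot48 (Lpr_ff (f572402 IH) (Lpn (LP (LK LD1_c5 LD2_c41 LD3_c35))))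
theorem f572384 : Led Lsl_ef (LP (LK LD1_c4 LD2_c57 LD3_c15)) = (LP (LK LD1_c2 LD2_c27 LD3_c17)) :=
  Lgr Lrot17 (Lpe (K36.f172459 IH) (Lpe (f556179 IH) (Lpe (f564295 IH) (Lpe (f450195 IH) (Lpe (K39.f450191 IH) (Lpe (K41.f176680 IH) (Lpr_ef (f569366 IH) (Lpr_dt (f506382 IH) (Lpr_gf (f572382 IH) (Lpe (K8.f101750 IH) (Lpn (LP (LK LD1_c2 LD2_c27 LD3_c17)))))))))))))
theorem f572412 : Led Lsl_ef (LP (LK LD1_c2 LD2_c53 LD3_c24)) = (LP (LK LD1_c2 LD2_c52 LD3_c45)) :=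
  Lgr Lrot21 (Lpr_ft (K8.f163278 IH) (Lpe (f572384 IH) (Lpr_ft (f572408 IH) (Lpe (K40.f559528 IH) (Lpr_ft (K41.f549848 IH) (Lpn (LP (LK LD1_c2 LD2_c52 LD3_c45))))))))
theorem f161201 : Led Lsl_et (LP (LK LD1_c4 LD2_c58 LD3_c17)) = (LP (LK LD1_c2 LD2_c26 LD3_c60)) :=
  Lre_e IH (LK LD1_c4 LD2_c58 LD3_c17) (LK LD1_c2 LD2_c26 LD3_c60) Lrfl Lrfl
theorem f450542 : Led Lsl_dt (LP (LK LD1_c2 LD2_c52 LD3_c45)) = (LP (LK LD1_c5 LD2_c52 LD3_c57)) :=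
  Lre_d IH (LK LD1_c2 LD2_c52 LD3_c45) (LK LD1_c5 LD2_c52 LD3_c57) Lrfl Lrfl
theorem f450556 : Led Lsl_at (LP (LK LD1_c2 LD2_c52 LD3_c47)) = (LP (LK LD1_c5 LD2_c52 LD3_c57)) :=
  Lre_a IH (LK LD1_c2 LD2_c52 LD3_c47) (LK LD1_c5 LD2_c52 LD3_c57) Lrfl Lrfl
theorem f449369 : Led Lsl_bt (LP (LK LD1_c2 LD2_c14 LD3_c42)) = (LP (LK LD1_c4 LD2_c35 LD3_c7)) :=
  Lre_b IH (LK LD1_c2 LD2_c14 LD3_c42) (LK LD1_c4 LD2_c35 LD3_c7) Lrfl Lrfl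
theorem f449384 : Led Lsl_ff (LP (LK LD1_c2 LD2_c52 LD3_c47)) = (LP (LK LD1_c4 LD2_c35 LD3_c7)) :=
  Lgr Lrot25 (Lpr_bt (K37.f380363 IH) (Lpr_ft (K36.f449380 IH) (Lpr_bt (f449369 IH) (Lpn (LP (LK LD1_c4 LD2_c35 LD3_c7))))))
theorem f559686 : Led Lsl_af (LP (LK LD1_c4 LD2_c35 LD3_c7)) = (LP (LK LD1_c8 LD2_c0 LD3_c18)) :=
  Lgr Lrot45 (Lpe (f449384 IH) (Lpr_at (f450556 IH) (Lpr_ft (K40.f559684 IH) (Lpn (LP (LK LD1_c8 LD2_c0 LD3_c18))))))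
theorem f565275 : Led Lsl_gf (LP (LK LD1_c8 LD2_c12 LD3_c33)) = (LP (LK LD1_c5 LD2_c52 LD3_c57)) :=
  Lgr Lrot47 (Lpr_gt (f565271 IH) (Lpr_af (f559686 IH) (Lpe (K40.f559684 IH) (Lpn (LP (LK LD1_c5 LD2_c52 LD3_c57))))))
theorem f60843 : Led Lsl_et (LP (LK LD1_c4 LD2_c5 LD3_c57)) = (LP (LK LD1_c2 LD2_c0 LD3_c14)) :=
  Lre_e IH (LK LD1_c4 LD2_c5 LD3_c57) (LK LD1_c2 LD2_c0 LD3_c14) Lrfl Lrfl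
theorem f79921 : Led Lsl_gt (LP (LK LD1_c2 LD2_c0 LD3_c14)) = (LP (LK LD1_c0 LD2_c57 LD3_c6)) :=
  Lre_g IH (LK LD1_c2 LD2_c0 LD3_c14) (LK LD1_c0 LD2_c57 LD3_c6) Lrfl Lrfl
theorem f55413 : Led Lsl_gt (LP (LK LD1_c2 LD2_c0 LD3_c16)) = (LP (LK LD1_c4 LD2_c5 LD3_c59)) :=
  Lre_g IH (LK LD1_c2 LD2_c0 LD3_c16) (LK LD1_c4 LD2_c5 LD3_c59) Lrfl Lrfl
theorem f572416 : Led Lsl_dt (LP (LK LD1_c4 LD2_c58 LD3_c17)) = (LP (LK LD1_c4 LD2_c5 LD3_c59)) :=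
  Lgr Lrot56 (Lpr_et (f161201 IH) (Lpr_gt (K8.f158466 IH) (Lpr_ef (f572412 IH) (Lpr_dt (f450542 IH) (Lpe (f565275 IH) (Lpe (f60844 IH) (Lpr_et (f60843 IH) (Lpr_gt (f79921 IH) (Lpr_dt (K38.f73284 IH) (Lpr_gt (f55413 IH) (Lpn (LP (LK LD1_c4 LD2_c5 LD3_c59)))))))))))))
theorem f548082 : Led Lsl_ct (LP (LK LD1_c8 LD2_c12 LD3_c38)) = (LP (LK LD1_c4 LD2_c5 LD3_c59)) :=
  Lre_c IH (LK LD1_c8 LD2_c12 LD3_c38) (LK LD1_c4 LD2_c5 LD3_c59) Lrfl Lrfl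
theorem f572430 : Led Lsl_gt (LP (LK LD1_c11 LD2_c33 LD3_c49)) = (LP (LK LD1_c8 LD2_c12 LD3_c38)) :=
  Lgr Lrot187 (Lpe (K38.f249937 IH) (Lpe (K38.f71265 IH) (Lpr_dt (K39.f71276 IH) (Lpr_gt (K36.f71238 IH) (Lpr_ct (K36.f421467 IH) (Lpr_gt (K36.f428068 IH) (Lpr_ct (K35.f161194 IH) (Lpr_dt (f572416 IH) (Lpe (f548082 IH) (Lpn (LP (LK LD1_c8 LD2_c12 LD3_c38))))))))))))
theorem f545683 : Led Lsl_ff (LP (LK LD1_c5 LD2_c55 LD3_c2)) = (LP (LK LD1_c11 LD2_c33 LD3_c49)) :=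
  Lgr Lrot3 (Lpr_ft (K38.f545672 IH) (Lpn (LP (LK LD1_c11 LD2_c33 LD3_c49))))
theorem f380280 : Led Lsl_et (LP (LK LD1_c4 LD2_c56 LD3_c40)) = (LP (LK LD1_c2 LD2_c26 LD3_c8)) :=
  Lre_e IH (LK LD1_c4 LD2_c56 LD3_c40) (LK LD1_c2 LD2_c26 LD3_c8) Lrfl Lrfl
theorem f572150 : Led Lsl_af (LP (LK LD1_c4 LD2_c56 LD3_c40)) = (LP (LK LD1_c5 LD2_c12 LD3_c25)) :=
  Lgr Lrot50 (Lpr_et (f380280 IH) (Lpr_at (f572146 IH) (Lpr_et (K39.f553851 IH) (Lpn (LP (LK LD1_c5 LD2_c12 LD3_c25))))))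
theorem f553837 : Led Lsl_dt (LP (LK LD1_c5 LD2_c53 LD3_c61)) = (LP (LK LD1_c5 LD2_c12 LD3_c25)) :=
  Lgr Lrot42 (Lpr_df (K39.f553828 IH) (Lpn (LP (LK LD1_c5 LD2_c12 LD3_c25))))
theorem f572152 : Led Lsl_at (LP (LK LD1_c2 LD2_c53 LD3_c52)) = (LP (LK LD1_c5 LD2_c53 LD3_c61)) :=
  Lgr Lrot51 (Lpr_df (K39.f553781 IH) (Lpr_af (f572150 IH) (Lpe (f553837 IH) (Lpn (LP (LK LD1_c5 LD2_c53 LD3_c61))))))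
theorem f443047 : Led Lsl_et (LP (LK LD1_c5 LD2_c55 LD3_c3)) = (LP (LK LD1_c2 LD2_c53 LD3_c52)) :=
  Lre_e IH (LK LD1_c5 LD2_c55 LD3_c3) (LK LD1_c2 LD2_c53 LD3_c52) Lrfl Lrfl
theorem f280580 : Led Lsl_et (LP (LK LD1_c5 LD2_c41 LD3_c51)) = (LP (LK LD1_c2 LD2_c46 LD3_c56)) :=
  Lre_e IH (LK LD1_c5 LD2_c41 LD3_c51) (LK LD1_c2 LD2_c46 LD3_c56) Lrfl Lrfl
theorem f561598 : Led Lsl_dt (LP (LK LD1_c11 LD2_c13 LD3_c55)) = (LP (LK LD1_c5 LD2_c41 LD3_c51)) :=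
  Lre_d IH (LK LD1_c11 LD2_c13 LD3_c55) (LK LD1_c5 LD2_c41 LD3_c51) Lrfl Lrfl
theorem f561599 : Led Lsl_ef (LP (LK LD1_c11 LD2_c13 LD3_c55)) = (LP (LK LD1_c5 LD2_c53 LD3_c61)) :=
  Lgr Lrot73 (Lpr_dt (f561598 IH) (Lpr_et (f280580 IH) (Lpr_dt (K40.f561594 IH) (Lpr_et (K39.f553851 IH) (Lpe (K39.f553828 IH) (Lpn (LP (LK LD1_c5 LD2_c53 LD3_c61))))))))
theorem f572156 : Led Lsl_af (LP (LK LD1_c5 LD2_c55 LD3_c3)) = (LP (LK LD1_c11 LD2_c13 LD3_c55)) :=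
  Lgr Lrot50 (Lpr_et (f443047 IH) (Lpr_at (f572152 IH) (Lpe (f561599 IH) (Lpn (LP (LK LD1_c11 LD2_c13 LD3_c55))))))
theorem f572160 : Led Lsl_ct (LP (LK LD1_c5 LD2_c55 LD3_c3)) = (LP (LK LD1_c11 LD2_c35 LD3_c34)) :=
  Lre_c IH (LK LD1_c5 LD2_c55 LD3_c3) (LK LD1_c11 LD2_c35 LD3_c34) Lrfl Lrfl
theorem f572161 : Led Lsl_ct (LP (LK LD1_c20 LD2_c8 LD3_c39)) = (LP (LK LD1_c11 LD2_c13 LD3_c55)) :=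
  Lre_c IH (LK LD1_c20 LD2_c8 LD3_c39) (LK LD1_c11 LD2_c13 LD3_c55) Lrfl Lrfl
theorem f572162 : Led Lsl_at (LP (LK LD1_c11 LD2_c35 LD3_c34)) = (LP (LK LD1_c20 LD2_c8 LD3_c39)) :=
  Lgr Lrot107 (Lpe (f572160 IH) (Lpr_af (f572156 IH) (Lpe (f572161 IH) (Lpn (LP (LK LD1_c20 LD2_c8 LD3_c39))))))
theorem f572182 : Led Lsl_et (LP (LK LD1_c5 LD2_c55 LD3_c2)) = (LP (LK LD1_c11 LD2_c35 LD3_c34)) :=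
  Lre_e IH (LK LD1_c5 LD2_c55 LD3_c2) (LK LD1_c11 LD2_c35 LD3_c34) Lrfl Lrfl
theorem f71753 : Led Lsl_ct (LP (LK LD1_c11 LD2_c33 LD3_c48)) = (LP (LK LD1_c5 LD2_c53 LD3_c61)) :=
  Lre_c IH (LK LD1_c11 LD2_c33 LD3_c48) (LK LD1_c5 LD2_c53 LD3_c61) Lrfl Lrfl
theorem f545651 : Led Lsl_ff (LP (LK LD1_c11 LD2_c33 LD3_c48)) = (LP (LK LD1_c5 LD2_c55 LD3_c4)) :=
  Lgr Lrot23 (Lpr_ct (f71753 IH) (Lpr_ft (K38.f545647 IH) (Lpr_ct (K38.f421258 IH) (Lpn (LP (LK LD1_c5 LD2_c55 LD3_c4))))))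
theorem f545676 : Led Lsl_af (LP (LK LD1_c5 LD2_c55 LD3_c2)) = (LP (LK LD1_c11 LD2_c33 LD3_c48)) :=
  Lgr Lrot45 (Lpr_ft (K38.f545672 IH) (Lpr_at (K38.f545643 IH) (Lpe (f545651 IH) (Lpn (LP (LK LD1_c11 LD2_c33 LD3_c48))))))
theorem f572183 : Led Lsl_ef (LP (LK LD1_c11 LD2_c33 LD3_c48)) = (LP (LK LD1_c20 LD2_c8 LD3_c39)) :=
  Lgr Lrot20 (Lpe (f545676 IH) (Lpr_et (f572182 IH) (Lpr_at (f572162 IH) (Lpn (LP (LK LD1_c20 LD2_c8 LD3_c39))))))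
theorem f572186 : Led Lsl_et (LP (LK LD1_c11 LD2_c33 LD3_c48)) = (LP (LK LD1_c20 LD2_c8 LD3_c39)) :=
  Lgr Lrot87 (Lpr_ef (f572183 IH) (Lpn (LP (LK LD1_c20 LD2_c8 LD3_c39))))
theorem f572179 : Led Lsl_af (LP (LK LD1_c11 LD2_c35 LD3_c34)) = (LP (LK LD1_c20 LD2_c8 LD3_c39)) :=
  Lgr Lrot0 (Lpr_at (f572162 IH) (Lpn (LP (LK LD1_c20 LD2_c8 LD3_c39))))
theorem f545681 : Led Lsl_et (LP (LK LD1_c11 LD2_c35 LD3_c34)) = (LP (LK LD1_c5 LD2_c55 LD3_c2)) :=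
  Lre_e IH (LK LD1_c11 LD2_c35 LD3_c34) (LK LD1_c5 LD2_c55 LD3_c2) Lrfl Lrfl
theorem f572189 : Led Lsl_af (LP (LK LD1_c11 LD2_c33 LD3_c48)) = (LP (LK LD1_c5 LD2_c55 LD3_c2)) :=
  Lgr Lrot50 (Lpr_et (f572186 IH) (Lpe (f572179 IH) (Lpr_et (f545681 IH) (Lpn (LP (LK LD1_c5 LD2_c55 LD3_c2))))))
theorem f572432 : Led Lsl_gf (LP (LK LD1_c11 LD2_c33 LD3_c48)) = (LP (LK LD1_c8 LD2_c12 LD3_c38)) :=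
  Lgr Lrot76 (Lpr_af (f572189 IH) (Lpr_ff (f545683 IH) (Lpr_gt (f572430 IH) (Lpn (LP (LK LD1_c8 LD2_c12 LD3_c38))))))
theorem f183036 : Led Lsl_ct (LP (LK LD1_c4 LD2_c5 LD3_c59)) = (LP (LK LD1_c8 LD2_c12 LD3_c38)) :=
  Lre_c IH (LK LD1_c4 LD2_c5 LD3_c59) (LK LD1_c8 LD2_c12 LD3_c38) Lrfl Lrfl
theorem f541330 : Led Lsl_gt (LP (LK LD1_c4 LD2_c5 LD3_c50)) = (LP (LK LD1_c8 LD2_c12 LD3_c18)) :=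
  Lre_g IH (LK LD1_c4 LD2_c5 LD3_c50) (LK LD1_c8 LD2_c12 LD3_c18) Lrfl Lrfl
theorem f572442 : Led Lsl_cf (LP (LK LD1_c5 LD2_c12 LD3_c25)) = (LP (LK LD1_c8 LD2_c12 LD3_c18)) :=
  Lgr Lrot99 (Lpe (f553837 IH) (Lpe (f71753 IH) (Lpr_gf (f572432 IH) (Lpe (f183036 IH) (Lpe (f55413 IH) (Lpe (K38.f73284 IH) (Lpr_gt (K36.f79919 IH) (Lpr_ct (K36.f541322 IH) (Lpr_gt (f541330 IH) (Lpn (LP (LK LD1_c8 LD2_c12 LD3_c18))))))))))))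
theorem f240693 : Led Lsl_gt (LP (LK LD1_c5 LD2_c5 LD3_c5)) = (LP (LK LD1_c10 LD2_c1 LD3_c17)) :=
  Lre_g IH (LK LD1_c5 LD2_c5 LD3_c5) (LK LD1_c10 LD2_c1 LD3_c17) Lrfl Lrfl
theorem f572459 : Led Lsl_bf (LP (LK LD1_c10 LD2_c1 LD3_c17)) = (LP (LK LD1_c8 LD2_c12 LD3_c18)) :=
  Lgr Lrot34 (Lpe (f240693 IH) (Lpe (K13.f240692 IH) (Lpr_ct (K13.f240656 IH) (Lpe (K13.f240679 IH) (Lpe (K12.f36336 IH) (Lpe (K12.f204930 IH) (Lpe (K38.f204932 IH) (Lpr_ct (K38.f204924 IH) (Lpe (K39.f186267 IH) (Lpr_cf (f572442 IH) (Lpn (LP (LK LD1_c8 LD2_c12 LD3_c18)))))))))))))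
theorem f552047 : Led Lsl_ft (LP (LK LD1_c2 LD2_c26 LD3_c9)) = (LP (LK LD1_c3 LD2_c58 LD3_c54)) :=
  Lgr Lrot48 (Lpr_ff (K39.f552043 IH) (Lpn (LP (LK LD1_c3 LD2_c58 LD3_c54))))
theorem f553855 : Led Lsl_ff (LP (LK LD1_c3 LD2_c5 LD3_c4)) = (LP (LK LD1_c5 LD2_c12 LD3_c25)) :=
  Lgr Lrot72 (Lpr_et (K35.f439083 IH) (Lpr_ft (K8.f132824 IH) (Lpe (K36.f541357 IH) (Lpr_ft (f552047 IH) (Lpr_et (K39.f553851 IH) (Lpn (LP (LK LD1_c5 LD2_c12 LD3_c25))))))))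
theorem f572450 : Led Lsl_ft (LP (LK LD1_c6 LD2_c15 LD3_c56)) = (LP (LK LD1_c8 LD2_c12 LD3_c18)) :=
  Lgr Lrot4 (Lpe (K8.f80999 IH) (Lpr_ff (f553855 IH) (Lpr_cf (f572442 IH) (Lpn (LP (LK LD1_c8 LD2_c12 LD3_c18))))))
theorem f572465 : Led Lsl_ft (LP (LK LD1_c10 LD2_c1 LD3_c17)) = (LP (LK LD1_c8 LD2_c46 LD3_c3)) :=
  Lgr Lrot75 (Lpr_bf (f572459 IH) (Lpe (f572450 IH) (Lpe (K8.f81067 IH) (Lpn (LP (LK LD1_c8 LD2_c46 LD3_c3))))))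
theorem f572470 : Led Lsl_ff (LP (LK LD1_c10 LD2_c1 LD3_c17)) = (LP (LK LD1_c8 LD2_c46 LD3_c3)) :=
  Lgr Lrot3 (Lpr_ft (f572465 IH) (Lpn (LP (LK LD1_c8 LD2_c46 LD3_c3))))
theorem f268265 : Led Lsl_ff (LP (LK LD1_c1 LD2_c24 LD3_c37)) = (LP (LK LD1_c2 LD2_c16 LD3_c37)) :=
  Lgr Lrot25 (Lpr_bt (K35.f175333 IH) (Lpr_ft (K15.f268263 IH) (Lpr_bt (K37.f176797 IH) (Lpn (LP (LK LD1_c2 LD2_c16 LD3_c37))))))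
theorem f425875 : Led Lsl_ft (LP (LK LD1_c2 LD2_c15 LD3_c34)) = (LP (LK LD1_c4 LD2_c35 LD3_c51)) :=
  Lgr Lrot48 (Lpr_ff (K36.f161384 IH) (Lpn (LP (LK LD1_c4 LD2_c35 LD3_c51))))
theorem f538407 : Led Lsl_ef (LP (LK LD1_c2 LD2_c16 LD3_c37)) = (LP (LK LD1_c4 LD2_c35 LD3_c51)) :=
  Lgr Lrot21 (Lpe (f268265 IH) (Lpr_et (K36.f175324 IH) (Lpr_ft (K35.f268217 IH) (Lpr_et (K35.f538399 IH) (Lpr_ft (f425875 IH) (Lpn (LP (LK LD1_c4 LD2_c35 LD3_c51))))))))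
theorem f268302 : Led Lsl_dt (LP (LK LD1_c4 LD2_c39 LD3_c17)) = (LP (LK LD1_c2 LD2_c16 LD3_c37)) :=
  Lre_d IH (LK LD1_c4 LD2_c39 LD3_c17) (LK LD1_c2 LD2_c16 LD3_c37) Lrfl Lrfl
theorem f494601 : Led Lsl_et (LP (LK LD1_c5 LD2_c50 LD3_c42)) = (LP (LK LD1_c11 LD2_c29 LD3_c9)) :=
  Lre_e IH (LK LD1_c5 LD2_c50 LD3_c42) (LK LD1_c11 LD2_c29 LD3_c9) Lrfl Lrfl
theorem f539968 : Led Lsl_dt (LP (LK LD1_c4 LD2_c35 LD3_c51)) = (LP (LK LD1_c5 LD2_c50 LD3_c42)) :=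
  Lgr Lrot77 (Lpr_ef (K36.f539963 IH) (Lpe (f268302 IH) (Lpe (f268295 IH) (Lpe (K36.f494553 IH) (Lpe (f494601 IH) (Lpn (LP (LK LD1_c5 LD2_c50 LD3_c42))))))))
theorem f540229 : Led Lsl_gt (LP (LK LD1_c3 LD2_c5 LD3_c3)) = (LP (LK LD1_c5 LD2_c50 LD3_c42)) :=
  Lgr Lrot5 (Lpr_ft (K38.f138524 IH) (Lpr_at (K8.f137332 IH) (Lpr_gf (K36.f540227 IH) (Lpn (LP (LK LD1_c5 LD2_c50 LD3_c42))))))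
theorem f563642 : Led Lsl_gf (LP (LK LD1_c3 LD2_c5 LD3_c4)) = (LP (LK LD1_c5 LD2_c12 LD3_c26)) :=
  Lgr Lrot141 (Lpe (K38.f158445 IH) (Lpr_dt (K8.f73838 IH) (Lpr_gt (f540229 IH) (Lpe (f539968 IH) (Lpe (f538407 IH) (Lpqs (K37.f539961 IH) (Lpe (K37.f500412 IH) (Lpr_dt (f71216 IH) (Lpr_gt (f500413 IH) (Lpr_df (f563633 IH) (Lpe (K39.f421677 IH) (Lpn (LP (LK LD1_c5 LD2_c12 LD3_c26))))))))))))))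
theorem f563648 : Led Lsl_gt (LP (LK LD1_c8 LD2_c46 LD3_c3)) = (LP (LK LD1_c9 LD2_c14 LD3_c59)) :=
  Lgr Lrot164 (Lpr_bf (K8.f81000 IH) (Lpr_ct (K38.f81072 IH) (Lpr_gf (f563642 IH) (Lpe (K39.f553795 IH) (Lpe (K39.f55867 IH) (Lpr_bf (K40.f46631 IH) (Lpr_ct (K28.f56228 IH) (Lpe (K38.f56253 IH) (Lpe (K38.f56254 IH) (Lpr_bt (K41.f56255 IH) (Lpn (LP (LK LD1_c9 LD2_c14 LD3_c59)))))))))))))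
theorem f572476 : Led Lsl_at (LP (LK LD1_c10 LD2_c1 LD3_c17)) = (LP (LK LD1_c8 LD2_c43 LD3_c25)) :=
  Lgr Lrot26 (Lpr_ff (f572470 IH) (Lpr_gt (f563648 IH) (Lpe (f569499 IH) (Lpn (LP (LK LD1_c8 LD2_c43 LD3_c25))))))
theorem f118915 : Led Lsl_at (LP (LK LD1_c8 LD2_c46 LD3_c3)) = (LP (LK LD1_c6 LD2_c24 LD3_c25)) :=
  Lgr Lrot80 (Lpe (K8.f81076 IH) (Lpr_af (K5.f118906 IH) (Lpe (f118914 IH) (Lpn (LP (LK LD1_c6 LD2_c24 LD3_c25))))))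
theorem f118917 : Led Lsl_af (LP (LK LD1_c8 LD2_c46 LD3_c3)) = (LP (LK LD1_c6 LD2_c24 LD3_c25)) :=
  Lgr Lrot0 (Lpr_at (f118915 IH) (Lpn (LP (LK LD1_c6 LD2_c24 LD3_c25))))
theorem f572478 : Led Lsl_ff (LP (LK LD1_c6 LD2_c24 LD3_c25)) = (LP (LK LD1_c8 LD2_c43 LD3_c25)) :=
  Lgr Lrot30 (Lpe (f118917 IH) (Lpe (f572470 IH) (Lpr_at (f572476 IH) (Lpn (LP (LK LD1_c8 LD2_c43 LD3_c25))))))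
theorem f572484 : Led Lsl_ft (LP (LK LD1_c8 LD2_c38 LD3_c61)) = (LP (LK LD1_c16 LD2_c11 LD3_c57)) :=
  Lgr Lrot54 (Lpe (f540796 IH) (Lpr_ff (f572478 IH) (Lpr_df (f570532 IH) (Lpn (LP (LK LD1_c16 LD2_c11 LD3_c57))))))
theorem f31847 : Led Lsl_gt (LP (LK LD1_c4 LD2_c20 LD3_c39)) = (LP (LK LD1_c8 LD2_c38 LD3_c60)) :=
  Lre_g IH (LK LD1_c4 LD2_c20 LD3_c39) (LK LD1_c8 LD2_c38 LD3_c60) Lrfl Lrfl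
theorem f572488 : Led Lsl_af (LP (LK LD1_c8 LD2_c38 LD3_c60)) = (LP (LK LD1_c16 LD2_c11 LD3_c57)) :=
  Lgr Lrot31 (Lpe (f31847 IH) (Lpe (f36114 IH) (Lpr_ft (f572484 IH) (Lpn (LP (LK LD1_c16 LD2_c11 LD3_c57))))))
theorem f112466 : Led Lsl_et (LP (LK LD1_c3 LD2_c9 LD3_c50)) = (LP (LK LD1_c6 LD2_c24 LD3_c25)) :=
  Lre_e IH (LK LD1_c3 LD2_c9 LD3_c50) (LK LD1_c6 LD2_c24 LD3_c25) Lrfl Lrfl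
theorem f112454 : Led Lsl_et (LP (LK LD1_c12 LD2_c21 LD3_c58)) = (LP (LK LD1_c6 LD2_c24 LD3_c24)) :=
  Lre_e IH (LK LD1_c12 LD2_c21 LD3_c58) (LK LD1_c6 LD2_c24 LD3_c24) Lrfl Lrfl
theorem f540806 : Led Lsl_et (LP (LK LD1_c8 LD2_c38 LD3_c61)) = (LP (LK LD1_c16 LD2_c12 LD3_c1)) :=
  Lre_e IH (LK LD1_c8 LD2_c38 LD3_c61) (LK LD1_c16 LD2_c12 LD3_c1) Lrfl Lrfl
theorem f540807 : Led Lsl_df (LP (LK LD1_c12 LD2_c21 LD3_c58)) = (LP (LK LD1_c16 LD2_c12 LD3_c1)) :=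
  Lgr Lrot70 (Lpr_et (f112454 IH) (Lpr_dt (K5.f112460 IH) (Lpr_et (f112466 IH) (Lpr_dt (f540796 IH) (Lpr_et (f540806 IH) (Lpn (LP (LK LD1_c16 LD2_c12 LD3_c1))))))))
theorem f540817 : Led Lsl_dt (LP (LK LD1_c12 LD2_c21 LD3_c58)) = (LP (LK LD1_c16 LD2_c12 LD3_c1)) :=
  Lgr Lrot42 (Lpr_df (f540807 IH) (Lpn (LP (LK LD1_c16 LD2_c12 LD3_c1))))
theorem f81091 : Led Lsl_et (LP (LK LD1_c8 LD2_c46 LD3_c2)) = (LP (LK LD1_c16 LD2_c24 LD3_c16)) :=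
  Lre_e IH (LK LD1_c8 LD2_c46 LD3_c2) (LK LD1_c16 LD2_c24 LD3_c16) Lrfl Lrfl
theorem f36128 : Led Lsl_et (LP (LK LD1_c26 LD2_c8 LD3_c46)) = (LP (LK LD1_c16 LD2_c11 LD3_c58)) :=
  Lre_e IH (LK LD1_c26 LD2_c8 LD3_c46) (LK LD1_c16 LD2_c11 LD3_c58) Lrfl Lrfl
theorem f538492 : Led Lsl_dt (LP (LK LD1_c16 LD2_c24 LD3_c16)) = (LP (LK LD1_c26 LD2_c8 LD3_c46)) :=
  Lgr Lrot77 (Lpe (f81091 IH) (Lpe (K5.f80684 IH) (Lpe (K35.f81070 IH) (Lpr_df (K35.f538486 IH) (Lpe (f36128 IH) (Lpn (LP (LK LD1_c26 LD2_c8 LD3_c46))))))))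
theorem f538494 : Led Lsl_df (LP (LK LD1_c16 LD2_c24 LD3_c16)) = (LP (LK LD1_c26 LD2_c8 LD3_c46)) :=
  Lgr Lrot38 (Lpr_dt (f538492 IH) (Lpn (LP (LK LD1_c26 LD2_c8 LD3_c46))))
theorem f540821 : Led Lsl_af (LP (LK LD1_c26 LD2_c8 LD3_c46)) = (LP (LK LD1_c16 LD2_c12 LD3_c1)) :=
  Lgr Lrot117 (Lpe (f538494 IH) (Lpr_at (K8.f118933 IH) (Lpr_dt (f540817 IH) (Lpn (LP (LK LD1_c16 LD2_c12 LD3_c1))))))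
theorem f540828 : Led Lsl_at (LP (LK LD1_c16 LD2_c11 LD3_c58)) = (LP (LK LD1_c8 LD2_c38 LD3_c61)) :=
  Lgr Lrot80 (Lpe (f36128 IH) (Lpr_af (f540821 IH) (Lpe (f540806 IH) (Lpn (LP (LK LD1_c8 LD2_c38 LD3_c61))))))
theorem f572496 : Led Lsl_ft (LP (LK LD1_c8 LD2_c38 LD3_c60)) = (LP (LK LD1_c16 LD2_c11 LD3_c58)) :=
  Lgr Lrot101 (Lpr_af (f572488 IH) (Lpe (f572484 IH) (Lpe (f540828 IH) (Lpn (LP (LK LD1_c16 LD2_c11 LD3_c58))))))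
theorem f572502 : Led Lsl_gt (LP (LK LD1_c8 LD2_c38 LD3_c60)) = (LP (LK LD1_c13 LD2_c47 LD3_c32)) :=
  Lgr Lrot5 (Lpr_ft (f572496 IH) (Lpr_at (f540828 IH) (Lpr_gf (f568823 IH) (Lpn (LP (LK LD1_c13 LD2_c47 LD3_c32))))))
theorem f572498 : Led Lsl_df (LP (LK LD1_c8 LD2_c38 LD3_c60)) = (LP (LK LD1_c10 LD2_c1 LD3_c17)) :=
  Lgr Lrot78 (Lpr_ft (f572496 IH) (Lpe (K35.f538486 IH) (Lpe (f572470 IH) (Lpn (LP (LK LD1_c10 LD2_c1 LD3_c17))))))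
theorem f572448 : Led Lsl_et (LP (LK LD1_c7 LD2_c59 LD3_c7)) = (LP (LK LD1_c8 LD2_c12 LD3_c18)) :=
  Lgr Lrot158 (Lpe (K38.f255117 IH) (Lpr_ef (K39.f553844 IH) (Lpr_cf (f572442 IH) (Lpn (LP (LK LD1_c8 LD2_c12 LD3_c18))))))
theorem f572463 : Led Lsl_et (LP (LK LD1_c10 LD2_c1 LD3_c17)) = (LP (LK LD1_c7 LD2_c56 LD3_c12)) :=
  Lgr Lrot74 (Lpr_bf (f572459 IH) (Lpe (f572448 IH) (Lpe (K38.f255115 IH) (Lpn (LP (LK LD1_c7 LD2_c56 LD3_c12))))))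
theorem f98317 : Led Lsl_ct (LP (LK LD1_c3 LD2_c33 LD3_c46)) = (LP (LK LD1_c7 LD2_c8 LD3_c25)) :=
  Lre_c IH (LK LD1_c3 LD2_c33 LD3_c46) (LK LD1_c7 LD2_c8 LD3_c25) Lrfl Lrfl
theorem f565635 : Led Lsl_et (LP (LK LD1_c7 LD2_c8 LD3_c25)) = (LP (LK LD1_c3 LD2_c57 LD3_c17)) :=
  Lgr Lrot158 (Lpe (f98317 IH) (Lpr_ef (K41.f565631 IH) (Lpe (K18.f297425 IH) (Lpn (LP (LK LD1_c3 LD2_c57 LD3_c17))))))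
theorem f98318 : Led Lsl_dt (LP (LK LD1_c7 LD2_c8 LD3_c25)) = (LP (LK LD1_c13 LD2_c31 LD3_c22)) :=
  Lre_d IH (LK LD1_c7 LD2_c8 LD3_c25) (LK LD1_c13 LD2_c31 LD3_c22) Lrfl Lrfl
theorem f568801 : Led Lsl_gt (LP (LK LD1_c8 LD2_c46 LD3_c61)) = (LP (LK LD1_c4 LD2_c24 LD3_c51)) :=
  Lre_g IH (LK LD1_c8 LD2_c46 LD3_c61) (LK LD1_c4 LD2_c24 LD3_c51) Lrfl Lrfl
theorem f445680 : Led Lsl_dt (LP (LK LD1_c4 LD2_c24 LD3_c51)) = (LP (LK LD1_c8 LD2_c47 LD3_c11)) :=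
  Lre_d IH (LK LD1_c4 LD2_c24 LD3_c51) (LK LD1_c8 LD2_c47 LD3_c11) Lrfl Lrfl
theorem f572510 : Led Lsl_gf (LP (LK LD1_c13 LD2_c31 LD3_c22)) = (LP (LK LD1_c8 LD2_c47 LD3_c11)) :=
  Lgr Lrot134 (Lpe (f98318 IH) (Lpr_et (f565635 IH) (Lpr_gt (K38.f244350 IH) (Lpe (f572463 IH) (Lpe (f572498 IH) (Lpr_gt (f572502 IH) (Lpe (f568810 IH) (Lpr_et (f568797 IH) (Lpr_gt (f568801 IH) (Lpr_dt (f445680 IH) (Lpn (LP (LK LD1_c8 LD2_c47 LD3_c11)))))))))))))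
theorem f565781 : Led Lsl_ct (LP (LK LD1_c13 LD2_c31 LD3_c22)) = (LP (LK LD1_c22 LD2_c52 LD3_c33)) :=
  Lre_c IH (LK LD1_c13 LD2_c31 LD3_c22) (LK LD1_c22 LD2_c52 LD3_c33) Lrfl Lrfl
theorem f38502 : Led Lsl_gt (LP (LK LD1_c4 LD2_c24 LD3_c51)) = (LP (LK LD1_c2 LD2_c9 LD3_c53)) :=
  Lre_g IH (LK LD1_c4 LD2_c24 LD3_c51) (LK LD1_c2 LD2_c9 LD3_c53) Lrfl Lrfl
theorem f565824 : Led Lsl_ct (LP (LK LD1_c8 LD2_c48 LD3_c12)) = (LP (LK LD1_c7 LD2_c56 LD3_c57)) :=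
  Lgr Lrot15 (Lpr_ef (K41.f565820 IH) (Lpe (K6.f37050 IH) (Lpe (f38541 IH) (Lpn (LP (LK LD1_c7 LD2_c56 LD3_c57))))))
theorem f565816 : Led Lsl_cf (LP (LK LD1_c8 LD2_c48 LD3_c12)) = (LP (LK LD1_c7 LD2_c56 LD3_c57)) :=
  Lgr Lrot169 (Lpr_gt (K41.f565813 IH) (Lpr_ct (K41.f38403 IH) (Lpe (K41.f36204 IH) (Lpe (K41.f38461 IH) (Lpe (K41.f565579 IH) (Lpe (K41.f6174 IH) (Lpr_gf (K41.f540975 IH) (Lpe (K36.f198222 IH) (Lpr_gt (f558232 IH) (Lpn (LP (LK LD1_c7 LD2_c56 LD3_c57))))))))))))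
theorem f565818 : Led Lsl_bt (LP (LK LD1_c7 LD2_c56 LD3_c57)) = (LP (LK LD1_c4 LD2_c25 LD3_c26)) :=
  Lgr Lrot92 (Lpe (f565816 IH) (Lpr_gt (K41.f565813 IH) (Lpr_cf (K1.f38459 IH) (Lpr_bt (K36.f35638 IH) (Lpr_gt (K11.f211056 IH) (Lpe (K11.f211049 IH) (Lpr_gt (K12.f211038 IH) (Lpe (K1.f37998 IH) (Lpr_bt (K39.f38393 IH) (Lpr_gt (f38489 IH) (Lpn (LP (LK LD1_c4 LD2_c25 LD3_c26)))))))))))))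
theorem f565834 : Led Lsl_ct (LP (LK LD1_c4 LD2_c25 LD3_c26)) = (LP (LK LD1_c4 LD2_c25 LD3_c19)) :=
  Lgr Lrot83 (Lpe (f565818 IH) (Lpe (f565824 IH) (Lpr_bf (K41.f565828 IH) (Lpr_cf (K41.f138760 IH) (Lpe (f138768 IH) (Lpn (LP (LK LD1_c4 LD2_c25 LD3_c19))))))))
theorem f565611 : Led Lsl_ct (LP (LK LD1_c16 LD2_c28 LD3_c15)) = (LP (LK LD1_c8 LD2_c48 LD3_c9)) :=
  Lre_c IH (LK LD1_c16 LD2_c28 LD3_c15) (LK LD1_c8 LD2_c48 LD3_c9) Lrfl Lrfl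
theorem f572514 : Led Lsl_gt (LP (LK LD1_c22 LD2_c52 LD3_c33)) = (LP (LK LD1_c16 LD2_c28 LD3_c15)) :=
  Lgr Lrot150 (Lpe (f565781 IH) (Lpr_gf (f572510 IH) (Lpe (f445680 IH) (Lpr_gt (f38502 IH) (Lpe (K41.f38475 IH) (Lpr_gt (f38489 IH) (Lpr_ct (f565834 IH) (Lpe (K41.f427431 IH) (Lpe (f565611 IH) (Lpn (LP (LK LD1_c16 LD2_c28 LD3_c15))))))))))))
theorem f211632 : Led Lsl_ct (LP (LK LD1_c15 LD2_c10 LD3_c27)) = (LP (LK LD1_c24 LD2_c59 LD3_c46)) :=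
  Lre_c IH (LK LD1_c15 LD2_c10 LD3_c27) (LK LD1_c24 LD2_c59 LD3_c46) Lrfl Lrfl
theorem f570927 : Led Lsl_af (LP (LK LD1_c22 LD2_c52 LD3_c21)) = (LP (LK LD1_c24 LD2_c59 LD3_c46)) :=
  Lgr Lrot68 (Lpr_ct (f565605 IH) (Lpr_at (f570925 IH) (Lpr_ct (f211632 IH) (Lpn (LP (LK LD1_c24 LD2_c59 LD3_c46))))))
theorem f572518 : Led Lsl_ft (LP (LK LD1_c22 LD2_c52 LD3_c33)) = (LP (LK LD1_c24 LD2_c59 LD3_c46)) :=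
  Lgr Lrot2 (Lpr_gt (f572514 IH) (Lpe (f565607 IH) (Lpr_af (f570927 IH) (Lpn (LP (LK LD1_c24 LD2_c59 LD3_c46))))))
theorem f572526 : Led Lsl_ff (LP (LK LD1_c22 LD2_c52 LD3_c33)) = (LP (LK LD1_c24 LD2_c59 LD3_c46)) :=
  Lgr Lrot3 (Lpr_ft (f572518 IH) (Lpn (LP (LK LD1_c24 LD2_c59 LD3_c46))))
theorem f98319 : Led Lsl_ct (LP (LK LD1_c22 LD2_c52 LD3_c33)) = (LP (LK LD1_c13 LD2_c31 LD3_c22)) :=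
  Lre_c IH (LK LD1_c22 LD2_c52 LD3_c33) (LK LD1_c13 LD2_c31 LD3_c22) Lrfl Lrfl
theorem f572530 : Led Lsl_ft (LP (LK LD1_c13 LD2_c31 LD3_c22)) = (LP (LK LD1_c15 LD2_c10 LD3_c27)) :=
  Lgr Lrot4 (Lpe (f98319 IH) (Lpr_ff (f572526 IH) (Lpe (f211632 IH) (Lpn (LP (LK LD1_c15 LD2_c10 LD3_c27))))))
theorem f572535 : Led Lsl_ff (LP (LK LD1_c7 LD2_c8 LD3_c25)) = (LP (LK LD1_c8 LD2_c3 LD3_c41)) :=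
  Lgr Lrot19 (Lpr_dt (f98318 IH) (Lpr_ft (f572530 IH) (Lpr_dt (f570105 IH) (Lpn (LP (LK LD1_c8 LD2_c3 LD3_c41))))))
theorem f6460 : Led Lsl_ct (LP (LK LD1_c7 LD2_c14 LD3_c37)) = (LP (LK LD1_c3 LD2_c37 LD3_c6)) :=
  Lre_c IH (LK LD1_c7 LD2_c14 LD3_c37) (LK LD1_c3 LD2_c37 LD3_c6) Lrfl Lrfl
theorem f98338 : Led Lsl_ct (LP (LK LD1_c13 LD2_c28 LD3_c10)) = (LP (LK LD1_c7 LD2_c6 LD3_c31)) :=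
  Lre_c IH (LK LD1_c13 LD2_c28 LD3_c10) (LK LD1_c7 LD2_c6 LD3_c31) Lrfl Lrfl
theorem f571226 : Led Lsl_gf (LP (LK LD1_c13 LD2_c28 LD3_c10)) = (LP (LK LD1_c7 LD2_c39 LD3_c19)) :=
  Lgr Lrot147 (Lpr_ct (f98338 IH) (Lpr_gt (K41.f10490 IH) (Lpe (K36.f98326 IH) (Lpe (f6133 IH) (Lpe (f6460 IH) (Lpe (K41.f6469 IH) (Lpr_cf (K41.f566037 IH) (Lpe (K41.f420825 IH) (Lpr_df (f571214 IH) (Lpn (LP (LK LD1_c7 LD2_c39 LD3_c19))))))))))))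
theorem f572543 : Led Lsl_at (LP (LK LD1_c7 LD2_c8 LD3_c25)) = (LP (LK LD1_c13 LD2_c28 LD3_c10)) :=
  Lgr Lrot26 (Lpr_ff (f572535 IH) (Lpr_gt (f570102 IH) (Lpe (f571226 IH) (Lpn (LP (LK LD1_c13 LD2_c28 LD3_c10))))))
theorem f570931 : Led Lsl_at (LP (LK LD1_c7 LD2_c8 LD3_c22)) = (LP (LK LD1_c8 LD2_c3 LD3_c41)) :=
  Lgr Lrot100 (Lpr_af (f570929 IH) (Lpn (LP (LK LD1_c8 LD2_c3 LD3_c41))))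
theorem f572551 : Led Lsl_ff (LP (LK LD1_c7 LD2_c8 LD3_c22)) = (LP (LK LD1_c13 LD2_c28 LD3_c10)) :=
  Lgr Lrot30 (Lpr_at (f570931 IH) (Lpe (f572535 IH) (Lpr_at (f572543 IH) (Lpn (LP (LK LD1_c13 LD2_c28 LD3_c10))))))
theorem f38492 : Led Lsl_gt (LP (LK LD1_c8 LD2_c47 LD3_c13)) = (LP (LK LD1_c4 LD2_c24 LD3_c52)) :=
  Lre_g IH (LK LD1_c8 LD2_c47 LD3_c13) (LK LD1_c4 LD2_c24 LD3_c52) Lrfl Lrfl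
theorem f38477 : Led Lsl_dt (LP (LK LD1_c4 LD2_c25 LD3_c28)) = (LP (LK LD1_c2 LD2_c10 LD3_c6)) :=
  Lre_d IH (LK LD1_c4 LD2_c25 LD3_c28) (LK LD1_c2 LD2_c10 LD3_c6) Lrfl Lrfl
theorem f568844 : Led Lsl_gf (LP (LK LD1_c7 LD2_c12 LD3_c9)) = (LP (LK LD1_c13 LD2_c28 LD3_c10)) :=
  Lgr Lrot144 (Lpr_dt (f568834 IH) (Lpr_gt (f38492 IH) (Lpr_dt (K41.f38491 IH) (Lpe (K1.f38464 IH) (Lpe (f38477 IH) (Lpe (K41.f565586 IH) (Lpe (K41.f10605 IH) (Lpe (K41.f10490 IH) (Lpe (f98338 IH) (Lpn (LP (LK LD1_c13 LD2_c28 LD3_c10))))))))))))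
theorem f572561 : Led Lsl_gf (LP (LK LD1_c8 LD2_c3 LD3_c41)) = (LP (LK LD1_c7 LD2_c12 LD3_c9)) :=
  Lgr Lrot76 (Lpe (f570931 IH) (Lpr_ff (f572551 IH) (Lpe (f568844 IH) (Lpn (LP (LK LD1_c7 LD2_c12 LD3_c9))))))
theorem f571210 : Led Lsl_ct (LP (LK LD1_c7 LD2_c6 LD3_c30)) = (LP (LK LD1_c8 LD2_c3 LD3_c41)) :=
  Lgr Lrot59 (Lpr_cf (f571204 IH) (Lpn (LP (LK LD1_c8 LD2_c3 LD3_c41))))
theorem f571208 : Led Lsl_bt (LP (LK LD1_c7 LD2_c6 LD3_c30)) = (LP (LK LD1_c4 LD2_c2 LD3_c11)) :=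
  Lgr Lrot128 (Lpr_cf (f571204 IH) (Lpe (f211626 IH) (Lpr_cf (K18.f211618 IH) (Lpr_bf (K12.f227772 IH) (Lpe (K12.f211048 IH) (Lpn (LP (LK LD1_c4 LD2_c2 LD3_c11))))))))
theorem f272500 : Led Lsl_ct (LP (LK LD1_c9 LD2_c17 LD3_c49)) = (LP (LK LD1_c4 LD2_c41 LD3_c27)) :=
  Lre_c IH (LK LD1_c9 LD2_c17 LD3_c49) (LK LD1_c4 LD2_c41 LD3_c27) Lrfl Lrfl
theorem f546395 : Led Lsl_et (LP (LK LD1_c4 LD2_c31 LD3_c2)) = (LP (LK LD1_c9 LD2_c0 LD3_c7)) :=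
  Lre_e IH (LK LD1_c4 LD2_c31 LD3_c2) (LK LD1_c9 LD2_c0 LD3_c7) Lrfl Lrfl
theorem f546396 : Led Lsl_gt (LP (LK LD1_c9 LD2_c0 LD3_c7)) = (LP (LK LD1_c4 LD2_c41 LD3_c27)) :=
  Lgr Lrot137 (Lpe (f546395 IH) (Lpr_dt (K38.f546380 IH) (Lpe (K9.f174733 IH) (Lpe (K38.f100415 IH) (Lpr_et (K38.f100414 IH) (Lpe (K2.f72252 IH) (Lpe (K37.f80216 IH) (Lpr_dt (K35.f80217 IH) (Lpe (f80218 IH) (Lpr_df (f538132 IH) (Lpn (LP (LK LD1_c4 LD2_c41 LD3_c27)))))))))))))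
theorem f547441 : Led Lsl_ct (LP (LK LD1_c16 LD2_c23 LD3_c49)) = (LP (LK LD1_c9 LD2_c0 LD3_c7)) :=
  Lgr Lrot15 (Lpe (K40.f112849 IH) (Lpr_cf (K38.f547434 IH) (Lpe (K39.f407824 IH) (Lpn (LP (LK LD1_c9 LD2_c0 LD3_c7))))))
theorem f570230 : Led Lsl_bt (LP (LK LD1_c16 LD2_c23 LD3_c49)) = (LP (LK LD1_c13 LD2_c26 LD3_c44)) :=
  Lgr Lrot92 (Lpr_ct (f547441 IH) (Lpr_gt (f546396 IH) (Lpe (f272500 IH) (Lpr_bt (f272498 IH) (Lpr_gt (f570224 IH) (Lpe (f570191 IH) (Lpe (f570172 IH) (Lpe (f569128 IH) (Lpr_bt (f570184 IH) (Lpr_gt (K41.f97438 IH) (Lpn (LP (LK LD1_c13 LD2_c26 LD3_c44)))))))))))))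
theorem f572577 : Led Lsl_gt (LP (LK LD1_c4 LD2_c31 LD3_c15)) = (LP (LK LD1_c9 LD2_c0 LD3_c7)) :=
  Lgr Lrot65 (Lpe (f198335 IH) (Lpr_bt (f210963 IH) (Lpr_gf (K12.f227332 IH) (Lpe (f571208 IH) (Lpr_ct (f571210 IH) (Lpr_gf (f572561 IH) (Lpe (K34.f97420 IH) (Lpe (K41.f97426 IH) (Lpe (f570230 IH) (Lpr_ct (f547441 IH) (Lpn (LP (LK LD1_c9 LD2_c0 LD3_c7)))))))))))))
theorem f161925 : Led Lsl_et (LP (LK LD1_c0 LD2_c38 LD3_c32)) = (LP (LK LD1_c0 LD2_c17 LD3_c8)) :=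
  Lre_e IH (LK LD1_c0 LD2_c38 LD3_c32) (LK LD1_c0 LD2_c17 LD3_c8) Lrfl Lrfl
theorem f452835 : Led Lsl_gt (LP (LK LD1_c1 LD2_c23 LD3_c19)) = (LP (LK LD1_c2 LD2_c54 LD3_c49)) :=
  Lre_g IH (LK LD1_c1 LD2_c23 LD3_c19) (LK LD1_c2 LD2_c54 LD3_c49) Lrfl Lrfl
theorem f500574 : Led Lsl_dt (LP (LK LD1_c5 LD2_c57 LD3_c4)) = (LP (LK LD1_c2 LD2_c54 LD3_c49)) :=
  Lre_d IH (LK LD1_c5 LD2_c57 LD3_c4) (LK LD1_c2 LD2_c54 LD3_c49) Lrfl Lrfl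
theorem f572588 : Led Lsl_ef (LP (LK LD1_c4 LD2_c31 LD3_c15)) = (LP (LK LD1_c5 LD2_c57 LD3_c4)) :=
  Lgr Lrot167 (Lpr_gt (f572577 IH) (Lpe (K39.f552431 IH) (Lpr_gt (K40.f552441 IH) (Lpe (K36.f71962 IH) (Lpr_et (K36.f71961 IH) (Lpr_gt (K6.f69439 IH) (Lpe (f161925 IH) (Lpr_dt (K40.f161926 IH) (Lpr_gt (f452835 IH) (Lpe (f500574 IH) (Lpn (LP (LK LD1_c5 LD2_c57 LD3_c4)))))))))))))
theorem f450496 : Led Lsl_et (LP (LK LD1_c2 LD2_c45 LD3_c15)) = (LP (LK LD1_c1 LD2_c21 LD3_c29)) :=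
  Lre_e IH (LK LD1_c2 LD2_c45 LD3_c15) (LK LD1_c1 LD2_c21 LD3_c29) Lrfl Lrfl
theorem f572596 : Led Lsl_ft (LP (LK LD1_c4 LD2_c34 LD3_c17)) = (LP (LK LD1_c5 LD2_c57 LD3_c4)) :=
  Lgr Lrot86 (Lpe (K41.f418056 IH) (Lpr_ff (K40.f449973 IH) (Lpe (f450496 IH) (Lpr_ff (f450054 IH) (Lpr_ef (f572588 IH) (Lpn (LP (LK LD1_c5 LD2_c57 LD3_c4))))))))
theorem f442801 : Led Lsl_ct (LP (LK LD1_c5 LD2_c55 LD3_c58)) = (LP (LK LD1_c11 LD2_c37 LD3_c4)) :=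
  Lre_c IH (LK LD1_c5 LD2_c55 LD3_c58) (LK LD1_c11 LD2_c37 LD3_c4) Lrfl Lrfl
theorem f563962 : Led Lsl_dt (LP (LK LD1_c11 LD2_c37 LD3_c4)) = (LP (LK LD1_c20 LD2_c35 LD3_c32)) :=
  Lre_d IH (LK LD1_c11 LD2_c37 LD3_c4) (LK LD1_c20 LD2_c35 LD3_c32) Lrfl Lrfl
theorem f540521 : Led Lsl_bt (LP (LK LD1_c9 LD2_c8 LD3_c34)) = (LP (LK LD1_c17 LD2_c1 LD3_c13)) :=
  Lre_b IH (LK LD1_c9 LD2_c8 LD3_c34) (LK LD1_c17 LD2_c1 LD3_c13) Lrfl Lrfl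
theorem f566872 : Led Lsl_dt (LP (LK LD1_c17 LD2_c1 LD3_c13)) = (LP (LK LD1_c15 LD2_c3 LD3_c47)) :=
  Lgr Lrot79 (Lpe (f540521 IH) (Lpr_df (K41.f566870 IH) (Lpe (K40.f562633 IH) (Lpn (LP (LK LD1_c15 LD2_c3 LD3_c47))))))
theorem f540531 : Led Lsl_dt (LP (LK LD1_c29 LD2_c31 LD3_c15)) = (LP (LK LD1_c20 LD2_c35 LD3_c11)) :=
  Lre_d IH (LK LD1_c29 LD2_c31 LD3_c15) (LK LD1_c20 LD2_c35 LD3_c11) Lrfl Lrfl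
theorem f546140 : Led Lsl_ct (LP (LK LD1_c26 LD2_c20 LD3_c17)) = (LP (LK LD1_c17 LD2_c2 LD3_c20)) :=
  Lre_c IH (LK LD1_c26 LD2_c20 LD3_c17) (LK LD1_c17 LD2_c2 LD3_c20) Lrfl Lrfl
theorem f545898 : Led Lsl_ft (LP (LK LD1_c16 LD2_c29 LD3_c16)) = (LP (LK LD1_c11 LD2_c39 LD3_c19)) :=
  Lgr Lrot4 (Lpe (K40.f99763 IH) (Lpr_ff (K37.f545887 IH) (Lpe (K37.f500547 IH) (Lpn (LP (LK LD1_c11 LD2_c39 LD3_c19))))))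
theorem f545855 : Led Lsl_at (LP (LK LD1_c26 LD2_c20 LD3_c17)) = (LP (LK LD1_c17 LD2_c7 LD3_c15)) :=
  Lre_a IH (LK LD1_c26 LD2_c20 LD3_c17) (LK LD1_c17 LD2_c7 LD3_c15) Lrfl Lrfl
theorem f545856 : Led Lsl_dt (LP (LK LD1_c16 LD2_c22 LD3_c23)) = (LP (LK LD1_c26 LD2_c20 LD3_c17)) :=
  Lre_d IH (LK LD1_c16 LD2_c22 LD3_c23) (LK LD1_c26 LD2_c20 LD3_c17) Lrfl Lrfl
theorem f545857 : Led Lsl_af (LP (LK LD1_c16 LD2_c22 LD3_c23)) = (LP (LK LD1_c11 LD2_c39 LD3_c19)) :=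
  Lgr Lrot117 (Lpr_dt (f545856 IH) (Lpr_at (f545855 IH) (Lpr_dt (K37.f545853 IH) (Lpn (LP (LK LD1_c11 LD2_c39 LD3_c19))))))
theorem f559868 : Led Lsl_gt (LP (LK LD1_c21 LD2_c2 LD3_c53)) = (LP (LK LD1_c16 LD2_c22 LD3_c23)) :=
  Lgr Lrot46 (Lpr_gf (f559866 IH) (Lpr_ft (f545898 IH) (Lpe (f545857 IH) (Lpn (LP (LK LD1_c16 LD2_c22 LD3_c23))))))
theorem f193889 : Led Lsl_ct (LP (LK LD1_c21 LD2_c2 LD3_c53)) = (LP (LK LD1_c11 LD2_c57 LD3_c48)) :=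
  Lre_c IH (LK LD1_c21 LD2_c2 LD3_c53) (LK LD1_c11 LD2_c57 LD3_c48) Lrfl Lrfl
theorem f297226 : Led Lsl_at (LP (LK LD1_c8 LD2_c43 LD3_c0)) = (LP (LK LD1_c16 LD2_c19 LD3_c28)) :=
  Lre_a IH (LK LD1_c8 LD2_c43 LD3_c0) (LK LD1_c16 LD2_c19 LD3_c28) Lrfl Lrfl
theorem f272566 : Led Lsl_bt (LP (LK LD1_c8 LD2_c43 LD3_c0)) = (LP (LK LD1_c4 LD2_c22 LD3_c37)) :=
  Lre_b IH (LK LD1_c8 LD2_c43 LD3_c0) (LK LD1_c4 LD2_c22 LD3_c37) Lrfl Lrfl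
theorem f297235 : Led Lsl_ff (LP (LK LD1_c8 LD2_c43 LD3_c0)) = (LP (LK LD1_c11 LD2_c57 LD3_c48)) :=
  Lgr Lrot25 (Lpr_bt (f272566 IH) (Lpr_ft (K18.f297233 IH) (Lpe (K38.f193832 IH) (Lpn (LP (LK LD1_c11 LD2_c57 LD3_c48))))))
theorem f553478 : Led Lsl_gt (LP (LK LD1_c11 LD2_c57 LD3_c48)) = (LP (LK LD1_c11 LD2_c36 LD3_c51)) :=
  Lgr Lrot5 (Lpe (f297235 IH) (Lpr_at (f297226 IH) (Lpr_gf (K39.f553476 IH) (Lpn (LP (LK LD1_c11 LD2_c36 LD3_c51))))))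
theorem f500525 : Led Lsl_dt (LP (LK LD1_c11 LD2_c36 LD3_c51)) = (LP (LK LD1_c5 LD2_c55 LD3_c49)) :=
  Lre_d IH (LK LD1_c11 LD2_c36 LD3_c51) (LK LD1_c5 LD2_c55 LD3_c49) Lrfl Lrfl
theorem f71939 : Led Lsl_dt (LP (LK LD1_c2 LD2_c54 LD3_c16)) = (LP (LK LD1_c5 LD2_c55 LD3_c50)) :=
  Lre_d IH (LK LD1_c2 LD2_c54 LD3_c16) (LK LD1_c5 LD2_c55 LD3_c50) Lrfl Lrfl
theorem f559940 : Led Lsl_gf (LP (LK LD1_c20 LD2_c35 LD3_c14)) = (LP (LK LD1_c26 LD2_c20 LD3_c17)) :=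
  Lgr Lrot143 (Lpr_dt (K41.f442592 IH) (Lpe (K41.f442503 IH) (Lpe (f71939 IH) (Lpe (f117656 IH) (Lpe (f500525 IH) (Lpe (f553478 IH) (Lpe (f193889 IH) (Lpr_gt (f559868 IH) (Lpr_dt (f545856 IH) (Lpn (LP (LK LD1_c26 LD2_c20 LD3_c17))))))))))))
theorem f540529 : Led Lsl_dt (LP (LK LD1_c20 LD2_c35 LD3_c11)) = (LP (LK LD1_c29 LD2_c31 LD3_c15)) :=
  Lre_d IH (LK LD1_c20 LD2_c35 LD3_c11) (LK LD1_c29 LD2_c31 LD3_c15) Lrfl Lrfl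
theorem f563484 : Led Lsl_dt (LP (LK LD1_c11 LD2_c37 LD3_c5)) = (LP (LK LD1_c20 LD2_c35 LD3_c33)) :=
  Lre_d IH (LK LD1_c11 LD2_c37 LD3_c5) (LK LD1_c20 LD2_c35 LD3_c33) Lrfl Lrfl
theorem f563487 : Led Lsl_cf (LP (LK LD1_c29 LD2_c31 LD3_c15)) = (LP (LK LD1_c20 LD2_c35 LD3_c33)) :=
  Lgr Lrot14 (Lpe (f540529 IH) (Lpe (K41.f442594 IH) (Lpe (K41.f442592 IH) (Lpr_gf (f559940 IH) (Lpr_ct (f546140 IH) (Lpe (K40.f546144 IH) (Lpr_dt (K41.f563399 IH) (Lpr_gt (K41.f563480 IH) (Lpr_dt (f563484 IH) (Lpn (LP (LK LD1_c20 LD2_c35 LD3_c33))))))))))))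
theorem f418042 : Led Lsl_dt (LP (LK LD1_c12 LD2_c8 LD3_c22)) = (LP (LK LD1_c6 LD2_c15 LD3_c0)) :=
  Lre_d IH (LK LD1_c12 LD2_c8 LD3_c22) (LK LD1_c6 LD2_c15 LD3_c0) Lrfl Lrfl
theorem f565150 : Led Lsl_cf (LP (LK LD1_c12 LD2_c8 LD3_c22)) = (LP (LK LD1_c20 LD2_c35 LD3_c12)) :=
  Lgr Lrot166 (Lpr_gt (K41.f565144 IH) (Lpr_dt (K39.f163024 IH) (Lpr_gt (K38.f549851 IH) (Lpr_dt (K41.f99756 IH) (Lpr_ct (K40.f99763 IH) (Lpe (f542335 IH) (Lpr_gf (K41.f563468 IH) (Lpe (f540547 IH) (Lpe (f442593 IH) (Lpn (LP (LK LD1_c20 LD2_c35 LD3_c12))))))))))))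
theorem f563482 : Led Lsl_dt (LP (LK LD1_c29 LD2_c31 LD3_c16)) = (LP (LK LD1_c20 LD2_c35 LD3_c12)) :=
  Lre_d IH (LK LD1_c29 LD2_c31 LD3_c16) (LK LD1_c20 LD2_c35 LD3_c12) Lrfl Lrfl
theorem f570256 : Led Lsl_cf (LP (LK LD1_c29 LD2_c31 LD3_c16)) = (LP (LK LD1_c20 LD2_c35 LD3_c32)) :=
  Lgr Lrot55 (Lpr_dt (f563482 IH) (Lpe (f565150 IH) (Lpr_dt (f418042 IH) (Lpr_ct (K40.f418038 IH) (Lpr_dt (K41.f563496 IH) (Lpr_ct (K41.f500523 IH) (Lpr_dt (f563484 IH) (Lpe (f563487 IH) (Lpr_dt (f540531 IH) (Lpe (K41.f540527 IH) (Lpr_dt (f566872 IH) (Lpr_ct (K40.f173313 IH) (Lpr_dt (f570254 IH) (Lpr_ct (f442801 IH) (Lpr_dt (f563962 IH) (Lpn (LP (LK LD1_c20 LD2_c35 LD3_c32))))))))))))))))))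
theorem f570258 : Led Lsl_at (LP (LK LD1_c5 LD2_c57 LD3_c8)) = (LP (LK LD1_c4 LD2_c34 LD3_c17)) :=
  Lgr Lrot33 (Lpe (K40.f562637 IH) (Lpr_dt (f570254 IH) (Lpr_ct (f442801 IH) (Lpr_dt (f563962 IH) (Lpe (f570256 IH) (Lpr_dt (f563482 IH) (Lpe (f565150 IH) (Lpr_dt (f418042 IH) (Lpr_ct (K40.f418038 IH) (Lpn (LP (LK LD1_c4 LD2_c34 LD3_c17))))))))))))
theorem f572598 : Led Lsl_af (LP (LK LD1_c7 LD2_c59 LD3_c6)) = (LP (LK LD1_c5 LD2_c57 LD3_c4)) :=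
  Lgr Lrot45 (Lpr_ft (K40.f562637 IH) (Lpr_at (f570258 IH) (Lpr_ft (f572596 IH) (Lpn (LP (LK LD1_c5 LD2_c57 LD3_c4))))))
theorem f572608 : Led Lsl_gt (LP (LK LD1_c5 LD2_c5 LD3_c59)) = (LP (LK LD1_c7 LD2_c59 LD3_c6)) :=
  Lgr Lrot46 (Lpe (K41.f563566 IH) (Lpr_ft (f572596 IH) (Lpe (f572598 IH) (Lpn (LP (LK LD1_c7 LD2_c59 LD3_c6))))))
theorem f546670 : Led Lsl_et (LP (LK LD1_c2 LD2_c30 LD3_c16)) = (LP (LK LD1_c5 LD2_c5 LD3_c59)) :=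
  Lre_e IH (LK LD1_c2 LD2_c30 LD3_c16) (LK LD1_c5 LD2_c5 LD3_c59) Lrfl Lrfl
theorem f572620 : Led Lsl_gf (LP (LK LD1_c5 LD2_c5 LD3_c58)) = (LP (LK LD1_c2 LD2_c33 LD3_c47)) :=
  Lgr Lrot145 (Lpe (K38.f3132 IH) (Lpr_et (f546670 IH) (Lpr_gt (f572608 IH) (Lpr_dt (f570254 IH) (Lpr_gt (K40.f562993 IH) (Lpe (K41.f442442 IH) (Lpe (f82058 IH) (Lpe (K37.f542369 IH) (Lpe (K38.f308151 IH) (Lpr_dt (K38.f308145 IH) (Lpn (LP (LK LD1_c2 LD2_c33 LD3_c47)))))))))))))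
theorem f572622 : Led Lsl_et (LP (LK LD1_c9 LD2_c0 LD3_c28)) = (LP (LK LD1_c7 LD2_c59 LD3_c6)) :=
  Lgr Lrot122 (Lpe (f175561 IH) (Lpr_gt (f570268 IH) (Lpe (f538012 IH) (Lpq (K35.f538005 IH) (Lpe (K35.f494524 IH) (Lpq (K40.f542404 IH) (Lpe (K40.f495442 IH) (Lpr_dt (K38.f308145 IH) (Lpe (f572620 IH) (Lpe (K38.f3132 IH) (Lpr_et (f546670 IH) (Lpr_gt (f572608 IH) (Lpn (LP (LK LD1_c7 LD2_c59 LD3_c6)))))))))))))))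
theorem f562644 : Led Lsl_ct (LP (LK LD1_c11 LD2_c39 LD3_c34)) = (LP (LK LD1_c5 LD2_c57 LD3_c8)) :=
  Lre_c IH (LK LD1_c11 LD2_c39 LD3_c34) (LK LD1_c5 LD2_c57 LD3_c8) Lrfl Lrfl
theorem f562674 : Led Lsl_et (LP (LK LD1_c5 LD2_c57 LD3_c8)) = (LP (LK LD1_c4 LD2_c34 LD3_c15)) :=
  Lgr Lrot158 (Lpe (f562644 IH) (Lpe (K40.f562658 IH) (Lpr_cf (K40.f562672 IH) (Lpn (LP (LK LD1_c4 LD2_c34 LD3_c15))))))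
theorem f572628 : Led Lsl_ff (LP (LK LD1_c9 LD2_c0 LD3_c28)) = (LP (LK LD1_c4 LD2_c41 LD3_c27)) :=
  Lgr Lrot72 (Lpr_et (f572622 IH) (Lpr_ft (K40.f562637 IH) (Lpr_et (f562674 IH) (Lpr_ft (K40.f496199 IH) (Lpqs (K41.f563543 IH) (Lpr_et (f538136 IH) (Lpn (LP (LK LD1_c4 LD2_c41 LD3_c27)))))))))
theorem f572634 : Led Lsl_ft (LP (LK LD1_c9 LD2_c0 LD3_c28)) = (LP (LK LD1_c4 LD2_c41 LD3_c27)) :=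
  Lgr Lrot48 (Lpr_ff (f572628 IH) (Lpn (LP (LK LD1_c4 LD2_c41 LD3_c27))))
theorem f572636 : Led Lsl_af (LP (LK LD1_c2 LD2_c45 LD3_c15)) = (LP (LK LD1_c4 LD2_c41 LD3_c27)) :=
  Lgr Lrot45 (Lpr_ft (f450058 IH) (Lpr_at (f175564 IH) (Lpr_ft (f572634 IH) (Lpn (LP (LK LD1_c4 LD2_c41 LD3_c27))))))
theorem f179918 : Led Lsl_ct (LP (LK LD1_c2 LD2_c45 LD3_c15)) = (LP (LK LD1_c5 LD2_c38 LD3_c41)) :=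
  Lre_c IH (LK LD1_c2 LD2_c45 LD3_c15) (LK LD1_c5 LD2_c38 LD3_c41) Lrfl Lrfl
theorem f572640 : Led Lsl_at (LP (LK LD1_c5 LD2_c38 LD3_c41)) = (LP (LK LD1_c9 LD2_c17 LD3_c49)) :=
  Lgr Lrot107 (Lpe (f179918 IH) (Lpr_af (f572636 IH) (Lpe (f272500 IH) (Lpn (LP (LK LD1_c9 LD2_c17 LD3_c49))))))
theorem f450487 : Led Lsl_ff (LP (LK LD1_c5 LD2_c38 LD3_c41)) = (LP (LK LD1_c8 LD2_c43 LD3_c8)) :=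
  Lgr Lrot23 (Lpr_ct (f210776 IH) (Lpr_ft (f450058 IH) (Lpe (f421072 IH) (Lpn (LP (LK LD1_c8 LD2_c43 LD3_c8))))))
theorem f97429 : Led Lsl_bt (LP (LK LD1_c13 LD2_c38 LD3_c28)) = (LP (LK LD1_c7 LD2_c12 LD3_c9)) :=
  Lre_b IH (LK LD1_c13 LD2_c38 LD3_c28) (LK LD1_c7 LD2_c12 LD3_c9) Lrfl Lrfl
theorem f6153 : Led Lsl_ct (LP (LK LD1_c7 LD2_c8 LD3_c20)) = (LP (LK LD1_c3 LD2_c33 LD3_c48)) :=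
  Lre_c IH (LK LD1_c7 LD2_c8 LD3_c20) (LK LD1_c3 LD2_c33 LD3_c48) Lrfl Lrfl
theorem f6522 : Led Lsl_bt (LP (LK LD1_c7 LD2_c8 LD3_c20)) = (LP (LK LD1_c13 LD2_c31 LD3_c11)) :=
  Lre_b IH (LK LD1_c7 LD2_c8 LD3_c20) (LK LD1_c13 LD2_c31 LD3_c11) Lrfl Lrfl
theorem f98343 : Led Lsl_gt (LP (LK LD1_c13 LD2_c27 LD3_c58)) = (LP (LK LD1_c7 LD2_c6 LD3_c25)) :=
  Lre_g IH (LK LD1_c13 LD2_c27 LD3_c58) (LK LD1_c7 LD2_c6 LD3_c25) Lrfl Lrfl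
theorem f98198 : Led Lsl_ft (LP (LK LD1_c13 LD2_c31 LD3_c11)) = (LP (LK LD1_c7 LD2_c8 LD3_c16)) :=
  Lre_f IH (LK LD1_c13 LD2_c31 LD3_c11) (LK LD1_c7 LD2_c8 LD3_c16) Lrfl Lrfl
theorem f98377 : Led Lsl_gf (LP (LK LD1_c13 LD2_c27 LD3_c58)) = (LP (LK LD1_c13 LD2_c31 LD3_c11)) :=
  Lgr Lrot47 (Lpr_gt (f98343 IH) (Lpr_af (f98370 IH) (Lpe (f98198 IH) (Lpn (LP (LK LD1_c13 LD2_c31 LD3_c11))))))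
theorem f132576 : Led Lsl_dt (LP (LK LD1_c2 LD2_c49 LD3_c59)) = (LP (LK LD1_c4 LD2_c36 LD3_c58)) :=
  Lgr Lrot6 (Lpr_gt (K5.f132574 IH) (Lpr_ct (K5.f56600 IH) (Lpr_gt (K5.f56599 IH) (Lpr_ct (K5.f56597 IH) (Lpe (K5.f60254 IH) (Lpe (K6.f60350 IH) (Lpr_gf (K6.f99804 IH) (Lpe (K6.f72270 IH) (Lpe (K6.f100227 IH) (Lpn (LP (LK LD1_c4 LD2_c36 LD3_c58))))))))))))
theorem f132590 : Led Lsl_bt (LP (LK LD1_c4 LD2_c36 LD3_c58)) = (LP (LK LD1_c4 LD2_c42 LD3_c48)) :=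
  Lgr Lrot95 (Lpe (f132576 IH) (Lpr_bf (K5.f132580 IH) (Lpe (K5.f60948 IH) (Lpn (LP (LK LD1_c4 LD2_c42 LD3_c48))))))
theorem f99781 : Led Lsl_ct (LP (LK LD1_c4 LD2_c36 LD3_c58)) = (LP (LK LD1_c9 LD2_c9 LD3_c43)) :=
  Lre_c IH (LK LD1_c4 LD2_c36 LD3_c58) (LK LD1_c9 LD2_c9 LD3_c43) Lrfl Lrfl
theorem f558141 : Led Lsl_ct (LP (LK LD1_c4 LD2_c25 LD3_c54)) = (LP (LK LD1_c5 LD2_c49 LD3_c54)) :=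
  Lgr Lrot59 (Lpr_cf (K40.f558137 IH) (Lpn (LP (LK LD1_c5 LD2_c49 LD3_c54))))
theorem f450125 : Led Lsl_ct (LP (LK LD1_c11 LD2_c27 LD3_c27)) = (LP (LK LD1_c5 LD2_c49 LD3_c4)) :=
  Lre_c IH (LK LD1_c11 LD2_c27 LD3_c27) (LK LD1_c5 LD2_c49 LD3_c4) Lrfl Lrfl
theorem f558193 : Led Lsl_gt (LP (LK LD1_c5 LD2_c49 LD3_c50)) = (LP (LK LD1_c11 LD2_c27 LD3_c27)) :=
  Lgr Lrot82 (Lpe (K40.f558139 IH) (Lpr_ct (f558141 IH) (Lpe (K40.f558131 IH) (Lpe (f99781 IH) (Lpr_bt (f132590 IH) (Lpr_gf (K8.f138138 IH) (Lpe (K8.f158599 IH) (Lpr_ct (K40.f558175 IH) (Lpr_gf (K40.f450123 IH) (Lpe (f450125 IH) (Lpn (LP (LK LD1_c11 LD2_c27 LD3_c27)))))))))))))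
theorem f558164 : Led Lsl_dt (LP (LK LD1_c4 LD2_c0 LD3_c45)) = (LP (LK LD1_c5 LD2_c49 LD3_c50)) :=
  Lgr Lrot60 (Lpe (K8.f158181 IH) (Lpe (K39.f149423 IH) (Lpr_ff (K40.f558158 IH) (Lpn (LP (LK LD1_c5 LD2_c49 LD3_c50))))))
theorem f227512 : Led Lsl_bt (LP (LK LD1_c4 LD2_c25 LD3_c27)) = (LP (LK LD1_c8 LD2_c48 LD3_c27)) :=
  Lre_b IH (LK LD1_c4 LD2_c25 LD3_c27) (LK LD1_c8 LD2_c48 LD3_c27) Lrfl Lrfl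
theorem f160326 : Led Lsl_bt (LP (LK LD1_c13 LD2_c30 LD3_c58)) = (LP (LK LD1_c7 LD2_c8 LD3_c8)) :=
  Lre_b IH (LK LD1_c13 LD2_c30 LD3_c58) (LK LD1_c7 LD2_c8 LD3_c8) Lrfl Lrfl
theorem f565029 : Led Lsl_et (LP (LK LD1_c8 LD2_c48 LD3_c27)) = (LP (LK LD1_c13 LD2_c30 LD3_c58)) :=
  Lgr Lrot74 (Lpe (f227512 IH) (Lpr_ef (K41.f565027 IH) (Lpe (f160326 IH) (Lpn (LP (LK LD1_c13 LD2_c30 LD3_c58))))))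
theorem f569688 : Led Lsl_bf (LP (LK LD1_c7 LD2_c14 LD3_c13)) = (LP (LK LD1_c7 LD2_c7 LD3_c58)) :=
  Lgr Lrot24 (Lpr_bt (f569686 IH) (Lpn (LP (LK LD1_c7 LD2_c7 LD3_c58))))
theorem f569999 : Led Lsl_at (LP (LK LD1_c13 LD2_c30 LD3_c58)) = (LP (LK LD1_c8 LD2_c44 LD3_c6)) :=
  Lgr Lrot67 (Lpe (K41.f564993 IH) (Lpr_af (f569997 IH) (Lpr_bf (f569688 IH) (Lpr_af (f569657 IH) (Lpe (f29635 IH) (Lpn (LP (LK LD1_c8 LD2_c44 LD3_c6))))))))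
theorem f570606 : Led Lsl_et (LP (LK LD1_c8 LD2_c44 LD3_c6)) = (LP (LK LD1_c15 LD2_c7 LD3_c59)) :=
  Lgr Lrot123 (Lpe (f569999 IH) (Lpe (f565029 IH) (Lpr_af (f570602 IH) (Lpn (LP (LK LD1_c15 LD2_c7 LD3_c59))))))
theorem f400059 : Led Lsl_dt (LP (LK LD1_c8 LD2_c44 LD3_c6)) = (LP (LK LD1_c16 LD2_c21 LD3_c24)) :=
  Lre_d IH (LK LD1_c8 LD2_c44 LD3_c6) (LK LD1_c16 LD2_c21 LD3_c24) Lrfl Lrfl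
theorem f570997 : Led Lsl_gf (LP (LK LD1_c16 LD2_c21 LD3_c24)) = (LP (LK LD1_c8 LD2_c44 LD3_c35)) :=
  Lgr Lrot134 (Lpe (f400059 IH) (Lpr_et (f570606 IH) (Lpr_gt (K39.f424947 IH) (Lpe (f158187 IH) (Lpr_dt (f558164 IH) (Lpr_gt (f558193 IH) (Lpr_df (f558688 IH) (Lpr_et (f420644 IH) (Lpr_gt (f570991 IH) (Lpe (K39.f554499 IH) (Lpn (LP (LK LD1_c8 LD2_c44 LD3_c35)))))))))))))
theorem f6521 : Led Lsl_bt (LP (LK LD1_c7 LD2_c6 LD3_c33)) = (LP (LK LD1_c13 LD2_c27 LD3_c60)) :=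
  Lre_b IH (LK LD1_c7 LD2_c6 LD3_c33) (LK LD1_c13 LD2_c27 LD3_c60) Lrfl Lrfl
theorem f6154 : Led Lsl_bt (LP (LK LD1_c13 LD2_c31 LD3_c11)) = (LP (LK LD1_c7 LD2_c8 LD3_c20)) :=
  Lre_b IH (LK LD1_c13 LD2_c31 LD3_c11) (LK LD1_c7 LD2_c8 LD3_c20) Lrfl Lrfl
theorem f98177 : Led Lsl_et (LP (LK LD1_c13 LD2_c27 LD3_c60)) = (LP (LK LD1_c13 LD2_c31 LD3_c11)) :=
  Lgr Lrot74 (Lpe (f6521 IH) (Lpr_ef (K36.f98170 IH) (Lpe (f6154 IH) (Lpn (LP (LK LD1_c13 LD2_c31 LD3_c11))))))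
theorem f570999 : Led Lsl_ef (LP (LK LD1_c13 LD2_c27 LD3_c58)) = (LP (LK LD1_c15 LD2_c23 LD3_c31)) :=
  Lgr Lrot17 (Lpr_gf (f98377 IH) (Lpe (f98177 IH) (Lpr_dt (f98209 IH) (Lpe (f570866 IH) (Lpe (f138823 IH) (Lpe (K39.f424947 IH) (Lpe (f570606 IH) (Lpr_dt (f400059 IH) (Lpr_gf (f570997 IH) (Lpr_df (K39.f554499 IH) (Lpn (LP (LK LD1_c15 LD2_c23 LD3_c31)))))))))))))
theorem f571003 : Led Lsl_et (LP (LK LD1_c13 LD2_c27 LD3_c58)) = (LP (LK LD1_c15 LD2_c23 LD3_c31)) :=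
  Lgr Lrot87 (Lpr_ef (f570999 IH) (Lpn (LP (LK LD1_c15 LD2_c23 LD3_c31))))
theorem f418855 : Led Lsl_et (LP (LK LD1_c8 LD2_c42 LD3_c47)) = (LP (LK LD1_c16 LD2_c19 LD3_c19)) :=
  Lre_e IH (LK LD1_c8 LD2_c42 LD3_c47) (LK LD1_c16 LD2_c19 LD3_c19) Lrfl Lrfl
theorem f571005 : Led Lsl_bf (LP (LK LD1_c13 LD2_c27 LD3_c58)) = (LP (LK LD1_c16 LD2_c19 LD3_c19)) :=
  Lgr Lrot96 (Lpr_et (f571003 IH) (Lpe (K39.f418850 IH) (Lpr_et (f418855 IH) (Lpn (LP (LK LD1_c16 LD2_c19 LD3_c19))))))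
theorem f556146 : Led Lsl_et (LP (LK LD1_c11 LD2_c7 LD3_c16)) = (LP (LK LD1_c5 LD2_c37 LD3_c60)) :=
  Lre_e IH (LK LD1_c11 LD2_c7 LD3_c16) (LK LD1_c5 LD2_c37 LD3_c60) Lrfl Lrfl
theorem f556147 : Led Lsl_ct (LP (LK LD1_c16 LD2_c19 LD3_c19)) = (LP (LK LD1_c11 LD2_c7 LD3_c16)) :=
  Lgr Lrot15 (Lpe (f418855 IH) (Lpr_cf (K39.f556140 IH) (Lpe (f556146 IH) (Lpn (LP (LK LD1_c11 LD2_c7 LD3_c16))))))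
theorem f557742 : Led Lsl_gt (LP (LK LD1_c11 LD2_c7 LD3_c16)) = (LP (LK LD1_c20 LD2_c0 LD3_c36)) :=
  Lre_g IH (LK LD1_c11 LD2_c7 LD3_c16) (LK LD1_c20 LD2_c0 LD3_c36) Lrfl Lrfl
theorem f572571 : Led Lsl_cf (LP (LK LD1_c20 LD2_c0 LD3_c36)) = (LP (LK LD1_c13 LD2_c38 LD3_c28)) :=
  Lgr Lrot58 (Lpe (f557742 IH) (Lpe (f556147 IH) (Lpe (f571005 IH) (Lpr_gf (f98377 IH) (Lpe (f6522 IH) (Lpr_ct (f6153 IH) (Lpe (f6529 IH) (Lpr_cf (f571204 IH) (Lpr_gf (f572561 IH) (Lpe (f97429 IH) (Lpn (LP (LK LD1_c13 LD2_c38 LD3_c28)))))))))))))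
theorem f572575 : Led Lsl_gt (LP (LK LD1_c8 LD2_c43 LD3_c8)) = (LP (LK LD1_c16 LD2_c19 LD3_c19)) :=
  Lgr Lrot82 (Lpe (f193397 IH) (Lpr_ct (K12.f193394 IH) (Lpe (K12.f227309 IH) (Lpe (K18.f211615 IH) (Lpr_bt (f211626 IH) (Lpr_gf (f572561 IH) (Lpe (f97429 IH) (Lpe (f572571 IH) (Lpe (f557742 IH) (Lpe (f556147 IH) (Lpn (LP (LK LD1_c16 LD2_c19 LD3_c19)))))))))))))
theorem f572646 : Led Lsl_gt (LP (LK LD1_c16 LD2_c19 LD3_c19)) = (LP (LK LD1_c9 LD2_c17 LD3_c49)) :=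
  Lgr Lrot46 (Lpe (f572575 IH) (Lpe (f450487 IH) (Lpr_at (f572640 IH) (Lpn (LP (LK LD1_c9 LD2_c17 LD3_c49))))))
theorem f438133 : Led Lsl_dt (LP (LK LD1_c4 LD2_c26 LD3_c4)) = (LP (LK LD1_c2 LD2_c10 LD3_c20)) :=
  Lre_d IH (LK LD1_c4 LD2_c26 LD3_c4) (LK LD1_c2 LD2_c10 LD3_c20) Lrfl Lrfl
theorem f139023 : Led Lsl_dt (LP (LK LD1_c8 LD2_c49 LD3_c22)) = (LP (LK LD1_c4 LD2_c26 LD3_c0)) :=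
  Lre_d IH (LK LD1_c8 LD2_c49 LD3_c22) (LK LD1_c4 LD2_c26 LD3_c0) Lrfl Lrfl
theorem f139029 : Led Lsl_gt (LP (LK LD1_c16 LD2_c29 LD3_c60)) = (LP (LK LD1_c8 LD2_c49 LD3_c22)) :=
  Lre_g IH (LK LD1_c16 LD2_c29 LD3_c60) (LK LD1_c8 LD2_c49 LD3_c22) Lrfl Lrfl
theorem f148922 : Led Lsl_ft (LP (LK LD1_c4 LD2_c25 LD3_c46)) = (LP (LK LD1_c2 LD2_c27 LD3_c1)) :=
  Lgr Lrot54 (Lpr_df (K6.f141735 IH) (Lpr_ff (K7.f148914 IH) (Lpe (K7.f82035 IH) (Lpn (LP (LK LD1_c2 LD2_c27 LD3_c1))))))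
theorem f557332 : Led Lsl_et (LP (LK LD1_c8 LD2_c44 LD3_c19)) = (LP (LK LD1_c11 LD2_c36 LD3_c50)) :=
  Lgr Lrot69 (Lpe (K31.f424139 IH) (Lpr_ef (K39.f557324 IH) (Lpe (f148922 IH) (Lpe (K38.f545151 IH) (Lpr_ff (K40.f553466 IH) (Lpn (LP (LK LD1_c11 LD2_c36 LD3_c50))))))))
theorem f557738 : Led Lsl_df (LP (LK LD1_c9 LD2_c3 LD3_c54)) = (LP (LK LD1_c5 LD2_c37 LD3_c60)) :=
  Lgr Lrot135 (Lpr_gt (K39.f424213 IH) (Lpe (K39.f424130 IH) (Lpr_et (f557332 IH) (Lpr_gt (K40.f557730 IH) (Lpe (K40.f160927 IH) (Lpr_dt (K8.f160919 IH) (Lpr_gt (K8.f66274 IH) (Lpe (K5.f66270 IH) (Lpr_et (K38.f496029 IH) (Lpqs (K39.f547765 IH) (Lpr_gt (K39.f547772 IH) (Lpn (LP (LK LD1_c5 LD2_c37 LD3_c60))))))))))))))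
def v1582 : LQ := Led Lsl_et (LP (LK LD1_c1 LD2_c21 LD3_c56))
theorem f500188 : Led Lsl_et (LP (LK LD1_c1 LD2_c21 LD3_c56)) = v1582 :=
  Lrfl
theorem f500190 : Led Lsl_ef (LP (LK LD1_c1 LD2_c21 LD3_c56)) = v1582 :=
  Lgr Lrot88 (Lpr_et (f500188 IH) (Lpn v1582))
theorem f500191 : Led Lsl_bt K36.v411 = v1582 :=
  Lgr Lrot119 (Lpe (K36.f452712 IH) (Lpe (K6.f8369 IH) (Lpr_ef (f500190 IH) (Lpn v1582))))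
theorem f541409 : v1582 = (LP (LK LD1_c2 LD2_c46 LD3_c7)) :=
  Lefun (Lecon (f500191 IH) (K36.f541403 IH)) (K39.f181310 IH)
theorem f557741 : Led Lsl_et (LP (LK LD1_c5 LD2_c37 LD3_c60)) = (LP (LK LD1_c11 LD2_c7 LD3_c16)) :=
  Lre_e IH (LK LD1_c5 LD2_c37 LD3_c60) (LK LD1_c11 LD2_c7 LD3_c16) Lrfl Lrfl
theorem f557743 : Led Lsl_df (LP (LK LD1_c16 LD2_c29 LD3_c60)) = (LP (LK LD1_c20 LD2_c0 LD3_c36)) :=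
  Lgr Lrot135 (Lpr_gt (f139029 IH) (Lpe (K39.f139009 IH) (Lpr_et (f138908 IH) (Lpr_gt (K8.f141956 IH) (Lpr_ef (f500190 IH) (Lpqs (f541409 IH) (Lpe (K39.f423641 IH) (Lpr_gt (K39.f423644 IH) (Lpr_df (f557738 IH) (Lpr_et (f557741 IH) (Lpr_gt (f557742 IH) (Lpn (LP (LK LD1_c20 LD2_c0 LD3_c36))))))))))))))
theorem f572648 : Led Lsl_cf (LP (LK LD1_c16 LD2_c19 LD3_c19)) = (LP (LK LD1_c11 LD2_c7 LD3_c16)) :=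
  Lgr Lrot166 (Lpr_gt (f572646 IH) (Lpe (f571979 IH) (Lpr_gt (f80234 IH) (Lpr_dt (f438133 IH) (Lpr_ct (f425924 IH) (Lpe (f139023 IH) (Lpe (f139029 IH) (Lpr_df (f557743 IH) (Lpe (f557742 IH) (Lpn (LP (LK LD1_c11 LD2_c7 LD3_c16))))))))))))
theorem f450389 : Led Lsl_ft (LP (LK LD1_c5 LD2_c38 LD3_c35)) = (LP (LK LD1_c9 LD2_c0 LD3_c27)) :=
  Lgr Lrot75 (Lpe (K38.f450257 IH) (Lpr_ff (K39.f450387 IH) (Lpr_bf (f450340 IH) (Lpn (LP (LK LD1_c9 LD2_c0 LD3_c27))))))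
theorem f563910 : Led Lsl_ct (LP (LK LD1_c5 LD2_c59 LD3_c14)) = (LP (LK LD1_c5 LD2_c38 LD3_c35)) :=
  Lgr Lrot40 (Lpr_ff (K41.f563906 IH) (Lpe (K40.f211829 IH) (Lpe (f450389 IH) (Lpn (LP (LK LD1_c5 LD2_c38 LD3_c35))))))
theorem f564281 : Led Lsl_bf (LP (LK LD1_c5 LD2_c59 LD3_c14)) = (LP (LK LD1_c4 LD2_c41 LD3_c27)) :=
  Lgr Lrot90 (Lpr_ct (f563910 IH) (Lpe (K38.f450252 IH) (Lpr_ct (K41.f564279 IH) (Lpe (f272496 IH) (Lpr_ct (f272500 IH) (Lpn (LP (LK LD1_c4 LD2_c41 LD3_c27))))))))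
theorem f427713 : Led Lsl_bt (LP (LK LD1_c6 LD2_c7 LD3_c55)) = (LP (LK LD1_c3 LD2_c0 LD3_c12)) :=
  Lre_b IH (LK LD1_c6 LD2_c7 LD3_c55) (LK LD1_c3 LD2_c0 LD3_c12) Lrfl Lrfl
theorem f557531 : Led Lsl_et (LP (LK LD1_c3 LD2_c0 LD3_c10)) = (LP (LK LD1_c6 LD2_c7 LD3_c55)) :=
  Lre_e IH (LK LD1_c3 LD2_c0 LD3_c10) (LK LD1_c6 LD2_c7 LD3_c55) Lrfl Lrfl
theorem f557532 : Led Lsl_ct (LP (LK LD1_c6 LD2_c7 LD3_c55)) = (LP (LK LD1_c10 LD2_c3 LD3_c54)) :=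
  Lgr Lrot15 (Lpe (f557531 IH) (Lpr_cf (K40.f557528 IH) (Lpe (K40.f387425 IH) (Lpn (LP (LK LD1_c10 LD2_c3 LD3_c54))))))
theorem f210999 : Led Lsl_ct (LP (LK LD1_c5 LD2_c38 LD3_c25)) = (LP (LK LD1_c2 LD2_c45 LD3_c3)) :=
  Lre_c IH (LK LD1_c5 LD2_c38 LD3_c25) (LK LD1_c2 LD2_c45 LD3_c3) Lrfl Lrfl
theorem f558461 : Led Lsl_gf (LP (LK LD1_c5 LD2_c38 LD3_c25)) = (LP (LK LD1_c10 LD2_c3 LD3_c54)) :=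
  Lgr Lrot181 (Lpr_ct (f210999 IH) (Lpr_gt (f210998 IH) (Lpe (K36.f177838 IH) (Lpr_bt (K36.f24532 IH) (Lpr_gt (K12.f24251 IH) (Lpe (K38.f24525 IH) (Lpe (K40.f210990 IH) (Lpr_gt (K40.f558455 IH) (Lpr_cf (K41.f558441 IH) (Lpr_bt (K40.f387409 IH) (Lpn (LP (LK LD1_c10 LD2_c3 LD3_c54)))))))))))))
theorem f548273 : Led Lsl_ct (LP (LK LD1_c2 LD2_c45 LD3_c3)) = (LP (LK LD1_c5 LD2_c38 LD3_c25)) :=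
  Lre_c IH (LK LD1_c2 LD2_c45 LD3_c3) (LK LD1_c5 LD2_c38 LD3_c25) Lrfl Lrfl
theorem f572650 : Led Lsl_bt (LP (LK LD1_c2 LD2_c45 LD3_c3)) = (LP (LK LD1_c5 LD2_c38 LD3_c24)) :=
  Lre_b IH (LK LD1_c2 LD2_c45 LD3_c3) (LK LD1_c5 LD2_c38 LD3_c24) Lrfl Lrfl
theorem f572651 : Led Lsl_gf (LP (LK LD1_c11 LD2_c7 LD3_c16)) = (LP (LK LD1_c5 LD2_c38 LD3_c24)) :=
  Lgr Lrot181 (Lpe (f572648 IH) (Lpr_gt (f572646 IH) (Lpe (f272501 IH) (Lpe (f564281 IH) (Lpe (K40.f427708 IH) (Lpe (f427713 IH) (Lpr_ct (f557532 IH) (Lpe (f558461 IH) (Lpe (f548273 IH) (Lpr_bt (f572650 IH) (Lpn (LP (LK LD1_c5 LD2_c38 LD3_c24)))))))))))))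
theorem f98342 : Led Lsl_ct (LP (LK LD1_c7 LD2_c14 LD3_c30)) = (LP (LK LD1_c3 LD2_c37 LD3_c4)) :=
  Lre_c IH (LK LD1_c7 LD2_c14 LD3_c30) (LK LD1_c3 LD2_c37 LD3_c4) Lrfl Lrfl
theorem f536499 : Led Lsl_ct (LP (LK LD1_c11 LD2_c8 LD3_c7)) = (LP (LK LD1_c5 LD2_c38 LD3_c24)) :=
  Lre_c IH (LK LD1_c11 LD2_c8 LD3_c7) (LK LD1_c5 LD2_c38 LD3_c24) Lrfl Lrfl
theorem f422738 : Led Lsl_gt (LP (LK LD1_c11 LD2_c8 LD3_c26)) = (LP (LK LD1_c11 LD2_c8 LD3_c7)) :=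
  Lre_g IH (LK LD1_c11 LD2_c8 LD3_c26) (LK LD1_c11 LD2_c8 LD3_c7) Lrfl Lrfl
theorem f572655 : Led Lsl_bt (LP (LK LD1_c7 LD2_c14 LD3_c30)) = (LP (LK LD1_c11 LD2_c8 LD3_c26)) :=
  Lgr Lrot130 (Lpr_ct (f98342 IH) (Lpe (K41.f6548 IH) (Lpr_cf (K36.f98326 IH) (Lpr_bt (K36.f6128 IH) (Lpe (f98343 IH) (Lpr_bf (f571005 IH) (Lpr_ct (f556147 IH) (Lpr_gf (f572651 IH) (Lpe (f536499 IH) (Lpe (f422738 IH) (Lpn (LP (LK LD1_c11 LD2_c8 LD3_c26)))))))))))))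
theorem f97422 : Led Lsl_bt (LP (LK LD1_c7 LD2_c12 LD3_c9)) = (LP (LK LD1_c13 LD2_c38 LD3_c28)) :=
  Lre_b IH (LK LD1_c7 LD2_c12 LD3_c9) (LK LD1_c13 LD2_c38 LD3_c28) Lrfl Lrfl
theorem f572657 : Led Lsl_gt (LP (LK LD1_c13 LD2_c38 LD3_c28)) = (LP (LK LD1_c11 LD2_c8 LD3_c26)) :=
  Lgr Lrot164 (Lpe (f97422 IH) (Lpe (K34.f97423 IH) (Lpe (K41.f97426 IH) (Lpe (f540977 IH) (Lpe (f98412 IH) (Lpr_bf (K29.f6139 IH) (Lpr_ct (K36.f6160 IH) (Lpe (K41.f98426 IH) (Lpe (f98342 IH) (Lpr_bt (f572655 IH) (Lpn (LP (LK LD1_c11 LD2_c8 LD3_c26)))))))))))))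
theorem f97916 : Led Lsl_et (LP (LK LD1_c7 LD2_c12 LD3_c8)) = (LP (LK LD1_c13 LD2_c38 LD3_c28)) :=
  Lre_e IH (LK LD1_c7 LD2_c12 LD3_c8) (LK LD1_c13 LD2_c38 LD3_c28) Lrfl Lrfl
theorem f572663 : Led Lsl_et (LP (LK LD1_c9 LD2_c14 LD3_c61)) = (LP (LK LD1_c11 LD2_c8 LD3_c26)) :=
  Lgr Lrot122 (Lpr_dt (K38.f542792 IH) (Lpr_gt (K38.f544901 IH) (Lpe (K38.f387112 IH) (Lpe (K38.f549603 IH) (Lpr_gt (K38.f172737 IH) (Lpe (K38.f540103 IH) (Lpr_gt (K5.f127862 IH) (Lpr_df (f97078 IH) (Lpr_et (f97916 IH) (Lpr_gt (f572657 IH) (Lpn (LP (LK LD1_c11 LD2_c8 LD3_c26)))))))))))))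
theorem f422739 : Led Lsl_ct (LP (LK LD1_c5 LD2_c38 LD3_c43)) = (LP (LK LD1_c11 LD2_c8 LD3_c26)) :=
  Lre_c IH (LK LD1_c5 LD2_c38 LD3_c43) (LK LD1_c11 LD2_c8 LD3_c26) Lrfl Lrfl
theorem f538013 : Led Lsl_dt (LP (LK LD1_c4 LD2_c37 LD3_c39)) = (LP (LK LD1_c2 LD2_c16 LD3_c0)) :=
  Lre_d IH (LK LD1_c4 LD2_c37 LD3_c39) (LK LD1_c2 LD2_c16 LD3_c0) Lrfl Lrfl
theorem f80947 : Led Lsl_dt (LP (LK LD1_c8 LD2_c51 LD3_c52)) = (LP (LK LD1_c4 LD2_c27 LD3_c0)) :=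
  Lre_d IH (LK LD1_c8 LD2_c51 LD3_c52) (LK LD1_c4 LD2_c27 LD3_c0) Lrfl Lrfl
theorem f80952 : Led Lsl_gt (LP (LK LD1_c16 LD2_c34 LD3_c26)) = (LP (LK LD1_c8 LD2_c51 LD3_c52)) :=
  Lre_g IH (LK LD1_c16 LD2_c34 LD3_c26) (LK LD1_c8 LD2_c51 LD3_c52) Lrfl Lrfl
theorem f570273 : Led Lsl_dt (LP (LK LD1_c11 LD2_c8 LD3_c7)) = (LP (LK LD1_c16 LD2_c34 LD3_c26)) :=
  Lgr Lrot57 (Lpe (f422738 IH) (Lpe (f422739 IH) (Lpr_gt (f450489 IH) (Lpe (f175561 IH) (Lpr_gt (f570268 IH) (Lpr_dt (f538013 IH) (Lpq (K35.f538005 IH) (Lpe (K35.f494527 IH) (Lpe (f80947 IH) (Lpe (f80952 IH) (Lpn (LP (LK LD1_c16 LD2_c34 LD3_c26)))))))))))))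
theorem f551810 : Led Lsl_et (LP (LK LD1_c4 LD2_c39 LD3_c43)) = (LP (LK LD1_c5 LD2_c37 LD3_c11)) :=
  Lgr Lrot87 (Lpr_ef (K39.f551799 IH) (Lpn (LP (LK LD1_c5 LD2_c37 LD3_c11))))
theorem f56295 : Led Lsl_dt (LP (LK LD1_c4 LD2_c39 LD3_c43)) = (LP (LK LD1_c9 LD2_c14 LD3_c60)) :=
  Lre_d IH (LK LD1_c4 LD2_c39 LD3_c43) (LK LD1_c9 LD2_c14 LD3_c60) Lrfl Lrfl
theorem f553502 : Led Lsl_ft (LP (LK LD1_c8 LD2_c38 LD3_c14)) = (LP (LK LD1_c16 LD2_c10 LD3_c32)) :=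
  Lre_f IH (LK LD1_c8 LD2_c38 LD3_c14) (LK LD1_c16 LD2_c10 LD3_c32) Lrfl Lrfl
theorem f553503 : Led Lsl_at (LP (LK LD1_c16 LD2_c10 LD3_c32)) = (LP (LK LD1_c8 LD2_c38 LD3_c16)) :=
  Lre_a IH (LK LD1_c16 LD2_c10 LD3_c32) (LK LD1_c8 LD2_c38 LD3_c16) Lrfl Lrfl
theorem f553504 : Led Lsl_gf (LP (LK LD1_c8 LD2_c38 LD3_c16)) = (LP (LK LD1_c9 LD2_c14 LD3_c60)) :=
  Lgr Lrot76 (Lpe (f553503 IH) (Lpe (f553502 IH) (Lpr_gt (K39.f553499 IH) (Lpn (LP (LK LD1_c9 LD2_c14 LD3_c60))))))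
theorem f557681 : Led Lsl_et (LP (LK LD1_c4 LD2_c20 LD3_c11)) = (LP (LK LD1_c5 LD2_c7 LD3_c44)) :=
  Lgr Lrot121 (Lpr_dt (K40.f34973 IH) (Lpr_gf (f553504 IH) (Lpe (f56295 IH) (Lpr_et (f551810 IH) (Lpe (K39.f551819 IH) (Lpe (K38.f547733 IH) (Lpr_dt (K38.f117600 IH) (Lpr_gf (K39.f551825 IH) (Lpr_df (K35.f211606 IH) (Lpr_gf (K40.f557673 IH) (Lpn (LP (LK LD1_c5 LD2_c7 LD3_c44)))))))))))))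
theorem f557687 : Led Lsl_ef (LP (LK LD1_c4 LD2_c20 LD3_c11)) = (LP (LK LD1_c5 LD2_c7 LD3_c44)) :=
  Lgr Lrot88 (Lpr_et (f557681 IH) (Lpn (LP (LK LD1_c5 LD2_c7 LD3_c44))))
theorem f557689 : Led Lsl_at (LP (LK LD1_c4 LD2_c20 LD3_c11)) = (LP (LK LD1_c8 LD2_c38 LD3_c15)) :=
  Lre_a IH (LK LD1_c4 LD2_c20 LD3_c11) (LK LD1_c8 LD2_c38 LD3_c15) Lrfl Lrfl
theorem f571556 : Led Lsl_ef (LP (LK LD1_c4 LD2_c37 LD3_c2)) = (LP (LK LD1_c8 LD2_c38 LD3_c15)) :=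
  Lgr Lrot20 (Lpr_at (f571550 IH) (Lpe (f557687 IH) (Lpr_at (f557689 IH) (Lpn (LP (LK LD1_c8 LD2_c38 LD3_c15))))))
theorem f571581 : Led Lsl_dt (LP (LK LD1_c8 LD2_c38 LD3_c15)) = (LP (LK LD1_c16 LD2_c10 LD3_c32)) :=
  Lre_d IH (LK LD1_c8 LD2_c38 LD3_c15) (LK LD1_c16 LD2_c10 LD3_c32) Lrfl Lrfl
theorem f572673 : Led Lsl_gf (LP (LK LD1_c17 LD2_c9 LD3_c23)) = (LP (LK LD1_c16 LD2_c10 LD3_c32)) :=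
  Lgr Lrot145 (Lpe (K38.f542792 IH) (Lpr_et (f572663 IH) (Lpr_gt (f422738 IH) (Lpr_dt (f570273 IH) (Lpr_gt (f80952 IH) (Lpe (f80951 IH) (Lpe (K35.f80943 IH) (Lpr_gt (f571574 IH) (Lpr_ef (f571556 IH) (Lpr_dt (f571581 IH) (Lpn (LP (LK LD1_c16 LD2_c10 LD3_c32)))))))))))))
theorem f542666 : Led Lsl_dt (LP (LK LD1_c17 LD2_c9 LD3_c23)) = (LP (LK LD1_c9 LD2_c14 LD3_c61)) :=
  Lre_d IH (LK LD1_c17 LD2_c9 LD3_c23) (LK LD1_c9 LD2_c14 LD3_c61) Lrfl Lrfl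
theorem f542790 : Led Lsl_dt (LP (LK LD1_c9 LD2_c15 LD3_c2)) = (LP (LK LD1_c4 LD2_c39 LD3_c45)) :=
  Lre_d IH (LK LD1_c9 LD2_c15 LD3_c2) (LK LD1_c4 LD2_c39 LD3_c45) Lrfl Lrfl
theorem f572680 : Led Lsl_gt (LP (LK LD1_c4 LD2_c20 LD3_c14)) = (LP (LK LD1_c8 LD2_c38 LD3_c15)) :=
  Lgr Lrot94 (Lpe (K20.f34922 IH) (Lpe (K37.f542369 IH) (Lpr_dt (f495436 IH) (Lpe (f570262 IH) (Lpr_dt (f542790 IH) (Lpe (K38.f542665 IH) (Lpe (f542666 IH) (Lpr_gf (f572673 IH) (Lpe (f571581 IH) (Lpn (LP (LK LD1_c8 LD2_c38 LD3_c15))))))))))))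
theorem f569613 : Led Lsl_bf (LP (LK LD1_c1 LD2_c55 LD3_c41)) = (LP (LK LD1_c3 LD2_c38 LD3_c35)) :=
  Lgr Lrot96 (Lpr_et (K11.f37036 IH) (Lpr_bt (K1.f36933 IH) (Lpr_et (f569609 IH) (Lpn (LP (LK LD1_c3 LD2_c38 LD3_c35))))))
theorem f569615 : Led Lsl_cf (LP (LK LD1_c2 LD2_c7 LD3_c48)) = (LP (LK LD1_c3 LD2_c38 LD3_c35)) :=
  Lgr Lrot39 (Lpr_et (f35774 IH) (Lpr_ct (K5.f37038 IH) (Lpr_et (f569609 IH) (Lpn (LP (LK LD1_c3 LD2_c38 LD3_c35))))))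
theorem f566145 : Led Lsl_bf (LP (LK LD1_c7 LD2_c19 LD3_c13)) = (LP (LK LD1_c4 LD2_c37 LD3_c4)) :=
  Lgr Lrot24 (Lpr_bt (K41.f566140 IH) (Lpn (LP (LK LD1_c4 LD2_c37 LD3_c4))))
theorem f538307 : Led Lsl_ct (LP (LK LD1_c4 LD2_c37 LD3_c4)) = (LP (LK LD1_c2 LD2_c15 LD3_c51)) :=
  Lre_c IH (LK LD1_c4 LD2_c37 LD3_c4) (LK LD1_c2 LD2_c15 LD3_c51) Lrfl Lrfl
theorem f201383 : Led Lsl_bt (LP (LK LD1_c2 LD2_c30 LD3_c38)) = (LP (LK LD1_c1 LD2_c12 LD3_c19)) :=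
  Lre_b IH (LK LD1_c2 LD2_c30 LD3_c38) (LK LD1_c1 LD2_c12 LD3_c19) Lrfl Lrfl
theorem f570100 : Led Lsl_ct (LP (LK LD1_c8 LD2_c10 LD3_c30)) = (LP (LK LD1_c4 LD2_c20 LD3_c37)) :=
  Lgr Lrot91 (Lpr_gf (f570096 IH) (Lpr_bf (f566145 IH) (Lpr_ct (f538307 IH) (Lpqs (K38.f542387 IH) (Lpe (K38.f495326 IH) (Lpe (K19.f166412 IH) (Lpr_bt (f201383 IH) (Lpr_gf (K13.f166427 IH) (Lpr_bf (f569613 IH) (Lpe (f569615 IH) (Lpe (f36220 IH) (Lpn (LP (LK LD1_c4 LD2_c20 LD3_c37))))))))))))))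
theorem f572689 : Led Lsl_bt (LP (LK LD1_c8 LD2_c10 LD3_c30)) = (LP (LK LD1_c8 LD2_c38 LD3_c15)) :=
  Lgr Lrot92 (Lpr_ct (f570100 IH) (Lpr_gt (f36220 IH) (Lpr_cf (f569615 IH) (Lpe (f569613 IH) (Lpe (K13.f166427 IH) (Lpr_ct (K13.f165474 IH) (Lpe (K12.f204981 IH) (Lpe (K0.f31801 IH) (Lpr_bt (K2.f34919 IH) (Lpr_gt (f572680 IH) (Lpn (LP (LK LD1_c8 LD2_c38 LD3_c15)))))))))))))
theorem f239263 : Led Lsl_dt (LP (LK LD1_c11 LD2_c34 LD3_c33)) = (LP (LK LD1_c5 LD2_c54 LD3_c20)) :=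
  Lre_d IH (LK LD1_c11 LD2_c34 LD3_c33) (LK LD1_c5 LD2_c54 LD3_c20) Lrfl Lrfl
theorem f572682 : Led Lsl_gf (LP (LK LD1_c4 LD2_c20 LD3_c12)) = (LP (LK LD1_c8 LD2_c38 LD3_c15)) :=
  Lgr Lrot147 (Lpe (K37.f34882 IH) (Lpr_gt (K37.f34990 IH) (Lpe (K36.f239261 IH) (Lpe (f239263 IH) (Lpe (K41.f239264 IH) (Lpe (K41.f556956 IH) (Lpe (K41.f542793 IH) (Lpr_gf (f572673 IH) (Lpe (f571581 IH) (Lpn (LP (LK LD1_c8 LD2_c38 LD3_c15))))))))))))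
theorem f36151 : Led Lsl_bf (LP (LK LD1_c4 LD2_c20 LD3_c12)) = (LP (LK LD1_c4 LD2_c20 LD3_c38)) :=
  Lgr Lrot96 (Lpr_et (K37.f35250 IH) (Lpr_bt (K2.f36149 IH) (Lpe (K35.f36123 IH) (Lpn (LP (LK LD1_c4 LD2_c20 LD3_c38))))))
theorem f5409 : Led Lsl_bf (LP (LK LD1_c1 LD2_c46 LD3_c16)) = (LP (LK LD1_c1 LD2_c46 LD3_c42)) :=
  Lgr Lrot24 (Lpr_bt (K24.f5404 IH) (Lpn (LP (LK LD1_c1 LD2_c46 LD3_c42))))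
theorem f572699 : Led Lsl_gf (LP (LK LD1_c4 LD2_c20 LD3_c37)) = (LP (LK LD1_c7 LD2_c17 LD3_c28)) :=
  Lgr Lrot129 (Lpe (f570100 IH) (Lpr_bt (f572689 IH) (Lpe (f572682 IH) (Lpr_bf (f36151 IH) (Lpe (K37.f71815 IH) (Lpe (K41.f566157 IH) (Lpr_cf (K0.f5173 IH) (Lpe (f5409 IH) (Lpr_gt (K41.f5623 IH) (Lpr_ct (f5627 IH) (Lpn (LP (LK LD1_c7 LD2_c17 LD3_c28)))))))))))))
theorem f568849 : Led Lsl_ef (LP (LK LD1_c7 LD2_c17 LD3_c28)) = (LP (LK LD1_c8 LD2_c46 LD3_c61)) :=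
  Lgr Lrot17 (Lpe (f568815 IH) (Lpe (f94495 IH) (Lpr_dt (K3.f62822 IH) (Lpr_gf (K3.f97281 IH) (Lpe (K3.f18054 IH) (Lpe (K3.f97029 IH) (Lpe (K34.f97411 IH) (Lpr_dt (f568834 IH) (Lpe (f556697 IH) (Lpe (f38487 IH) (Lpn (LP (LK LD1_c8 LD2_c46 LD3_c61)))))))))))))
theorem f572715 : Led Lsl_ef (LP (LK LD1_c4 LD2_c20 LD3_c37)) = (LP (LK LD1_c8 LD2_c10 LD3_c30)) :=
  Lgr Lrot17 (Lpr_gf (f572699 IH) (Lpr_ef (f568849 IH) (Lpr_dt (f38487 IH) (Lpe (K41.f420825 IH) (Lpr_df (f571214 IH) (Lpe (f570102 IH) (Lpe (f242252 IH) (Lpr_dt (f240031 IH) (Lpe (f240034 IH) (Lpr_df (f566099 IH) (Lpn (LP (LK LD1_c8 LD2_c10 LD3_c30)))))))))))))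
theorem f540486 : Led Lsl_ft (LP (LK LD1_c8 LD2_c38 LD3_c15)) = (LP (LK LD1_c4 LD2_c20 LD3_c10)) :=
  Lre_f IH (LK LD1_c8 LD2_c38 LD3_c15) (LK LD1_c4 LD2_c20 LD3_c10) Lrfl Lrfl
theorem f11564 : Led Lsl_et (LP (LK LD1_c7 LD2_c7 LD3_c7)) = (LP (LK LD1_c3 LD2_c33 LD3_c7)) :=
  Lre_e IH (LK LD1_c7 LD2_c7 LD3_c7) (LK LD1_c3 LD2_c33 LD3_c7) Lrfl Lrfl
theorem f540442 : Led Lsl_bt (LP (LK LD1_c4 LD2_c20 LD3_c10)) = (LP (LK LD1_c7 LD2_c7 LD3_c7)) :=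
  Lgr Lrot119 (Lpr_ef (K36.f540440 IH) (Lpe (K8.f97152 IH) (Lpe (f11564 IH) (Lpn (LP (LK LD1_c7 LD2_c7 LD3_c7))))))
theorem f572697 : Led Lsl_ff (LP (LK LD1_c8 LD2_c10 LD3_c30)) = (LP (LK LD1_c7 LD2_c7 LD3_c7)) :=
  Lgr Lrot25 (Lpr_bt (f572689 IH) (Lpr_ft (f540486 IH) (Lpr_bt (f540442 IH) (Lpn (LP (LK LD1_c7 LD2_c7 LD3_c7))))))
theorem f572719 : Led Lsl_ft (LP (LK LD1_c4 LD2_c20 LD3_c37)) = (LP (LK LD1_c7 LD2_c5 LD3_c34)) :=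
  Lgr Lrot86 (Lpr_ef (f572715 IH) (Lpr_ff (f572697 IH) (Lpe (K36.f97155 IH) (Lpr_ff (K3.f109076 IH) (Lpe (K36.f94433 IH) (Lpn (LP (LK LD1_c7 LD2_c5 LD3_c34))))))))
theorem f572703 : Led Lsl_dt (LP (LK LD1_c4 LD2_c20 LD3_c37)) = (LP (LK LD1_c8 LD2_c38 LD3_c58)) :=
  Lre_d IH (LK LD1_c4 LD2_c20 LD3_c37) (LK LD1_c8 LD2_c38 LD3_c58) Lrfl Lrfl
theorem f572704 : Led Lsl_ct (LP (LK LD1_c8 LD2_c38 LD3_c58)) = (LP (LK LD1_c16 LD2_c11 LD3_c55)) :=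
  Lre_c IH (LK LD1_c8 LD2_c38 LD3_c58) (LK LD1_c16 LD2_c11 LD3_c55) Lrfl Lrfl
theorem f572727 : Led Lsl_dt (LP (LK LD1_c16 LD2_c11 LD3_c55)) = (LP (LK LD1_c26 LD2_c8 LD3_c44)) :=
  Lre_d IH (LK LD1_c16 LD2_c11 LD3_c55) (LK LD1_c26 LD2_c8 LD3_c44) Lrfl Lrfl
theorem f109074 : Led Lsl_af (LP (LK LD1_c3 LD2_c46 LD3_c24)) = (LP (LK LD1_c7 LD2_c5 LD3_c34)) :=
  Lgr Lrot50 (Lpr_et (f96999 IH) (Lpr_at (K3.f109066 IH) (Lpr_et (K36.f94442 IH) (Lpn (LP (LK LD1_c7 LD2_c5 LD3_c34))))))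
theorem f441480 : Led Lsl_et (LP (LK LD1_c13 LD2_c18 LD3_c8)) = (LP (LK LD1_c7 LD2_c0 LD3_c46)) :=
  Lre_e IH (LK LD1_c13 LD2_c18 LD3_c8) (LK LD1_c7 LD2_c0 LD3_c46) Lrfl Lrfl
theorem f97160 : Led Lsl_dt (LP (LK LD1_c13 LD2_c29 LD3_c22)) = (LP (LK LD1_c7 LD2_c7 LD3_c7)) :=
  Lre_d IH (LK LD1_c13 LD2_c29 LD3_c22) (LK LD1_c7 LD2_c7 LD3_c7) Lrfl Lrfl
theorem f98488 : Led Lsl_et (LP (LK LD1_c7 LD2_c11 LD3_c60)) = (LP (LK LD1_c13 LD2_c29 LD3_c22)) :=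
  Lgr Lrot71 (Lpe (K29.f98487 IH) (Lpe (K28.f98486 IH) (Lpr_df (K3.f98480 IH) (Lpe (f11564 IH) (Lpe (f97160 IH) (Lpn (LP (LK LD1_c13 LD2_c29 LD3_c22))))))))
theorem f441481 : Led Lsl_af (LP (LK LD1_c13 LD2_c18 LD3_c8)) = (LP (LK LD1_c13 LD2_c29 LD3_c22)) :=
  Lgr Lrot50 (Lpr_et (f441480 IH) (Lpr_at (K29.f441474 IH) (Lpr_et (f98488 IH) (Lpn (LP (LK LD1_c13 LD2_c29 LD3_c22))))))
theorem f441488 : Led Lsl_dt (LP (LK LD1_c13 LD2_c18 LD3_c8)) = (LP (LK LD1_c7 LD2_c0 LD3_c45)) :=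
  Lre_d IH (LK LD1_c13 LD2_c18 LD3_c8) (LK LD1_c7 LD2_c0 LD3_c45) Lrfl Lrfl
theorem f11565 : Led Lsl_dt (LP (LK LD1_c7 LD2_c7 LD3_c7)) = (LP (LK LD1_c13 LD2_c29 LD3_c22)) :=
  Lre_d IH (LK LD1_c7 LD2_c7 LD3_c7) (LK LD1_c13 LD2_c29 LD3_c22) Lrfl Lrfl
theorem f441489 : Led Lsl_at (LP (LK LD1_c7 LD2_c0 LD3_c45)) = (LP (LK LD1_c7 LD2_c7 LD3_c7)) :=
  Lgr Lrot51 (Lpe (f441488 IH) (Lpr_af (f441481 IH) (Lpe (f11565 IH) (Lpn (LP (LK LD1_c7 LD2_c7 LD3_c7))))))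
theorem f441493 : Led Lsl_af (LP (LK LD1_c7 LD2_c0 LD3_c45)) = (LP (LK LD1_c7 LD2_c7 LD3_c7)) :=
  Lgr Lrot0 (Lpr_at (f441489 IH) (Lpn (LP (LK LD1_c7 LD2_c7 LD3_c7))))
theorem f97158 : Led Lsl_cf (LP (LK LD1_c7 LD2_c7 LD3_c7)) = (LP (LK LD1_c7 LD2_c5 LD3_c34)) :=
  Lgr Lrot11 (Lpr_ct (K36.f97156 IH) (Lpn (LP (LK LD1_c7 LD2_c5 LD3_c34))))
theorem f109505 : Led Lsl_af (LP (LK LD1_c7 LD2_c12 LD3_c30)) = (LP (LK LD1_c7 LD2_c5 LD3_c33)) :=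
  Lgr Lrot0 (Lpr_at (K3.f109496 IH) (Lpn (LP (LK LD1_c7 LD2_c5 LD3_c33))))
theorem f109540 : Led Lsl_af (LP (LK LD1_c3 LD2_c32 LD3_c16)) = (LP (LK LD1_c1 LD2_c50 LD3_c17)) :=
  Lgr Lrot36 (Lpr_bt (K34.f109537 IH) (Lpe (f109505 IH) (Lpr_bt (K3.f109531 IH) (Lpr_at (K41.f109538 IH) (Lpr_bt (K34.f109539 IH) (Lpn (LP (LK LD1_c1 LD2_c50 LD3_c17))))))))
theorem f94445 : Led Lsl_dt (LP (LK LD1_c3 LD2_c32 LD3_c16)) = (LP (LK LD1_c7 LD2_c5 LD3_c35)) :=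
  Lre_d IH (LK LD1_c3 LD2_c32 LD3_c16) (LK LD1_c7 LD2_c5 LD3_c35) Lrfl Lrfl
theorem f441444 : Led Lsl_dt (LP (LK LD1_c3 LD2_c46 LD3_c25)) = (LP (LK LD1_c1 LD2_c50 LD3_c17)) :=
  Lre_d IH (LK LD1_c3 LD2_c46 LD3_c25) (LK LD1_c1 LD2_c50 LD3_c17) Lrfl Lrfl
theorem f441445 : Led Lsl_at (LP (LK LD1_c7 LD2_c5 LD3_c35)) = (LP (LK LD1_c3 LD2_c46 LD3_c25)) :=
  Lgr Lrot51 (Lpe (f94445 IH) (Lpr_af (f109540 IH) (Lpe (f441444 IH) (Lpn (LP (LK LD1_c3 LD2_c46 LD3_c25))))))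
theorem f441451 : Led Lsl_et (LP (LK LD1_c13 LD2_c26 LD3_c37)) = (LP (LK LD1_c7 LD2_c5 LD3_c35)) :=
  Lre_e IH (LK LD1_c13 LD2_c26 LD3_c37) (LK LD1_c7 LD2_c5 LD3_c35) Lrfl Lrfl
theorem f441452 : Led Lsl_et (LP (LK LD1_c3 LD2_c46 LD3_c25)) = (LP (LK LD1_c7 LD2_c33 LD3_c51)) :=
  Lre_e IH (LK LD1_c3 LD2_c46 LD3_c25) (LK LD1_c7 LD2_c33 LD3_c51) Lrfl Lrfl
theorem f441453 : Led Lsl_af (LP (LK LD1_c13 LD2_c26 LD3_c37)) = (LP (LK LD1_c7 LD2_c33 LD3_c51)) :=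
  Lgr Lrot50 (Lpr_et (f441451 IH) (Lpr_at (f441445 IH) (Lpr_et (f441452 IH) (Lpn (LP (LK LD1_c7 LD2_c33 LD3_c51))))))
theorem f441456 : Led Lsl_at (LP (LK LD1_c13 LD2_c26 LD3_c37)) = (LP (LK LD1_c7 LD2_c33 LD3_c51)) :=
  Lgr Lrot100 (Lpr_af (f441453 IH) (Lpn (LP (LK LD1_c7 LD2_c33 LD3_c51))))
theorem f441460 : Led Lsl_dt (LP (LK LD1_c7 LD2_c33 LD3_c51)) = (LP (LK LD1_c3 LD2_c46 LD3_c24)) :=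
  Lre_d IH (LK LD1_c7 LD2_c33 LD3_c51) (LK LD1_c3 LD2_c46 LD3_c24) Lrfl Lrfl
theorem f441461 : Led Lsl_af (LP (LK LD1_c7 LD2_c5 LD3_c34)) = (LP (LK LD1_c3 LD2_c46 LD3_c24)) :=
  Lgr Lrot117 (Lpr_dt (K39.f94434 IH) (Lpr_at (f441456 IH) (Lpr_dt (f441460 IH) (Lpn (LP (LK LD1_c3 LD2_c46 LD3_c24))))))
theorem f441495 : Led Lsl_ct (LP (LK LD1_c7 LD2_c0 LD3_c45)) = (LP (LK LD1_c3 LD2_c46 LD3_c24)) :=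
  Lgr Lrot111 (Lpr_af (f441493 IH) (Lpr_cf (f97158 IH) (Lpr_af (f441461 IH) (Lpn (LP (LK LD1_c3 LD2_c46 LD3_c24))))))
theorem f441491 : Led Lsl_ct (LP (LK LD1_c22 LD2_c34 LD3_c5)) = (LP (LK LD1_c13 LD2_c18 LD3_c8)) :=
  Lre_c IH (LK LD1_c22 LD2_c34 LD3_c5) (LK LD1_c13 LD2_c18 LD3_c8) Lrfl Lrfl
theorem f441492 : Led Lsl_dt (LP (LK LD1_c30 LD2_c35 LD3_c0)) = (LP (LK LD1_c22 LD2_c34 LD3_c5)) :=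
  Lre_d IH (LK LD1_c30 LD2_c35 LD3_c0) (LK LD1_c22 LD2_c34 LD3_c5) Lrfl Lrfl
theorem f572728 : Led Lsl_ct (LP (LK LD1_c26 LD2_c8 LD3_c44)) = (LP (LK LD1_c30 LD2_c35 LD3_c0)) :=
  Lgr Lrot41 (Lpe (f572727 IH) (Lpe (f572704 IH) (Lpe (f572703 IH) (Lpr_ft (f572719 IH) (Lpe (f109074 IH) (Lpe (f441495 IH) (Lpe (f441488 IH) (Lpe (f441491 IH) (Lpe (f441492 IH) (Lpn (LP (LK LD1_c30 LD2_c35 LD3_c0))))))))))))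
theorem f441537 : Led Lsl_dt (LP (LK LD1_c22 LD2_c34 LD3_c5)) = (LP (LK LD1_c30 LD2_c35 LD3_c0)) :=
  Lre_d IH (LK LD1_c22 LD2_c34 LD3_c5) (LK LD1_c30 LD2_c35 LD3_c0) Lrfl Lrfl
theorem f441485 : Led Lsl_ct (LP (LK LD1_c13 LD2_c18 LD3_c8)) = (LP (LK LD1_c22 LD2_c34 LD3_c5)) :=
  Lre_c IH (LK LD1_c13 LD2_c18 LD3_c8) (LK LD1_c22 LD2_c34 LD3_c5) Lrfl Lrfl
theorem f98536 : Led Lsl_et (LP (LK LD1_c7 LD2_c0 LD3_c45)) = (LP (LK LD1_c3 LD2_c29 LD3_c32)) :=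
  Lre_e IH (LK LD1_c7 LD2_c0 LD3_c45) (LK LD1_c3 LD2_c29 LD3_c32) Lrfl Lrfl
theorem f98538 : Led Lsl_ct (LP (LK LD1_c3 LD2_c46 LD3_c24)) = (LP (LK LD1_c7 LD2_c0 LD3_c45)) :=
  Lgr Lrot15 (Lpe (f94495 IH) (Lpr_cf (K3.f98508 IH) (Lpe (f98536 IH) (Lpn (LP (LK LD1_c7 LD2_c0 LD3_c45))))))
theorem f571170 : Led Lsl_gf (LP (LK LD1_c13 LD2_c18 LD3_c8)) = (LP (LK LD1_c8 LD2_c3 LD3_c40)) :=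
  Lgr Lrot143 (Lpr_dt (f441488 IH) (Lpe (f98538 IH) (Lpe (f441460 IH) (Lpr_gf (f571166 IH) (Lpe (f273019 IH) (Lpe (f569501 IH) (Lpr_cf (f569493 IH) (Lpr_gt (f211639 IH) (Lpr_dt (f240031 IH) (Lpn (LP (LK LD1_c8 LD2_c3 LD3_c40))))))))))))
theorem f240033 : Led Lsl_ct (LP (LK LD1_c15 LD2_c10 LD3_c25)) = (LP (LK LD1_c8 LD2_c3 LD3_c40)) :=
  Lre_c IH (LK LD1_c15 LD2_c10 LD3_c25) (LK LD1_c8 LD2_c3 LD3_c40) Lrfl Lrfl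
theorem f5182 : Led Lsl_dt (LP (LK LD1_c23 LD2_c15 LD3_c36)) = (LP (LK LD1_c13 LD2_c47 LD3_c47)) :=
  Lre_d IH (LK LD1_c23 LD2_c15 LD3_c36) (LK LD1_c13 LD2_c47 LD3_c47) Lrfl Lrfl
theorem f570071 : Led Lsl_ct (LP (LK LD1_c25 LD2_c2 LD3_c51)) = (LP (LK LD1_c23 LD2_c19 LD3_c54)) :=
  Lgr Lrot59 (Lpr_cf (f570068 IH) (Lpn (LP (LK LD1_c23 LD2_c19 LD3_c54))))
theorem f572735 : Led Lsl_gf (LP (LK LD1_c26 LD2_c8 LD3_c44)) = (LP (LK LD1_c23 LD2_c19 LD3_c54)) :=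
  Lgr Lrot104 (Lpr_ct (f572728 IH) (Lpe (f441537 IH) (Lpe (f441485 IH) (Lpr_gf (f571170 IH) (Lpe (f240033 IH) (Lpe (K41.f565689 IH) (Lpe (f5182 IH) (Lpr_gt (f569555 IH) (Lpr_ct (f570071 IH) (Lpn (LP (LK LD1_c23 LD2_c19 LD3_c54))))))))))))
theorem f572705 : Led Lsl_dt (LP (LK LD1_c26 LD2_c8 LD3_c44)) = (LP (LK LD1_c16 LD2_c11 LD3_c55)) :=
  Lre_d IH (LK LD1_c26 LD2_c8 LD3_c44) (LK LD1_c16 LD2_c11 LD3_c55) Lrfl Lrfl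
theorem f572706 : Led Lsl_ct (LP (LK LD1_c16 LD2_c11 LD3_c55)) = (LP (LK LD1_c8 LD2_c38 LD3_c58)) :=
  Lre_c IH (LK LD1_c16 LD2_c11 LD3_c55) (LK LD1_c8 LD2_c38 LD3_c58) Lrfl Lrfl
theorem f568825 : Led Lsl_dt (LP (LK LD1_c13 LD2_c47 LD3_c32)) = (LP (LK LD1_c7 LD2_c17 LD3_c28)) :=
  Lre_d IH (LK LD1_c13 LD2_c47 LD3_c32) (LK LD1_c7 LD2_c17 LD3_c28) Lrfl Lrfl
theorem f255277 : Led Lsl_ct (LP (LK LD1_c8 LD2_c38 LD3_c60)) = (LP (LK LD1_c16 LD2_c11 LD3_c61)) :=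
  Lre_c IH (LK LD1_c8 LD2_c38 LD3_c60) (LK LD1_c16 LD2_c11 LD3_c61) Lrfl Lrfl
theorem f572737 : Led Lsl_gt (LP (LK LD1_c16 LD2_c11 LD3_c61)) = (LP (LK LD1_c13 LD2_c50 LD3_c47)) :=
  Lgr Lrot94 (Lpe (f255277 IH) (Lpr_gt (f572502 IH) (Lpr_dt (f568825 IH) (Lpe (f572699 IH) (Lpr_dt (f572703 IH) (Lpe (f572706 IH) (Lpe (f572705 IH) (Lpr_gf (f572735 IH) (Lpe (f570067 IH) (Lpn (LP (LK LD1_c13 LD2_c50 LD3_c47))))))))))))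
theorem f31846 : Led Lsl_bt (LP (LK LD1_c2 LD2_c7 LD3_c49)) = (LP (LK LD1_c4 LD2_c20 LD3_c39)) :=
  Lre_b IH (LK LD1_c2 LD2_c7 LD3_c49) (LK LD1_c4 LD2_c20 LD3_c39) Lrfl Lrfl
theorem f255272 : Led Lsl_gf (LP (LK LD1_c4 LD2_c20 LD3_c43)) = (LP (LK LD1_c5 LD2_c4 LD3_c61)) :=
  Lgr Lrot104 (Lpr_ct (K11.f31732 IH) (Lpe (K13.f31843 IH) (Lpe (K13.f28645 IH) (Lpe (K9.f166417 IH) (Lpe (K13.f53195 IH) (Lpe (K13.f227339 IH) (Lpe (K2.f70817 IH) (Lpe (K12.f204949 IH) (Lpr_ct (K14.f255258 IH) (Lpn (LP (LK LD1_c5 LD2_c4 LD3_c61))))))))))))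
theorem f159174 : Led Lsl_af (LP (LK LD1_c7 LD2_c57 LD3_c6)) = (LP (LK LD1_c9 LD2_c9 LD3_c28)) :=
  Lgr Lrot0 (Lpr_at (f159172 IH) (Lpn (LP (LK LD1_c9 LD2_c9 LD3_c28))))
theorem f308599 : Led Lsl_dt (LP (LK LD1_c5 LD2_c7 LD3_c18)) = (LP (LK LD1_c10 LD2_c5 LD3_c5)) :=
  Lre_d IH (LK LD1_c5 LD2_c7 LD3_c18) (LK LD1_c10 LD2_c5 LD3_c5) Lrfl Lrfl
theorem f544492 : Led Lsl_ft (LP (LK LD1_c10 LD2_c5 LD3_c5)) = (LP (LK LD1_c9 LD2_c9 LD3_c28)) :=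
  Lgr Lrot54 (Lpe (f308599 IH) (Lpr_ff (K37.f544486 IH) (Lpe (f159171 IH) (Lpn (LP (LK LD1_c9 LD2_c9 LD3_c28))))))
theorem f546559 : Led Lsl_gf (LP (LK LD1_c6 LD2_c14 LD3_c36)) = (LP (LK LD1_c10 LD2_c5 LD3_c5)) :=
  Lgr Lrot47 (Lpr_gt (K38.f546557 IH) (Lpr_af (f159174 IH) (Lpe (f544492 IH) (Lpn (LP (LK LD1_c10 LD2_c5 LD3_c5))))))
theorem f572753 : Led Lsl_bf (LP (LK LD1_c10 LD2_c5 LD3_c5)) = (LP (LK LD1_c7 LD2_c19 LD3_c14)) :=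
  Lgr Lrot156 (Lpe (f546559 IH) (Lpr_bf (K36.f541227 IH) (Lpr_ct (K14.f255258 IH) (Lpe (f255272 IH) (Lpe (K13.f31845 IH) (Lpr_bt (f31846 IH) (Lpr_gt (f31847 IH) (Lpr_ct (f255277 IH) (Lpr_gt (f572737 IH) (Lpe (f5419 IH) (Lpn (LP (LK LD1_c7 LD2_c19 LD3_c14)))))))))))))
theorem f572767 : Led Lsl_bt (LP (LK LD1_c10 LD2_c5 LD3_c5)) = (LP (LK LD1_c7 LD2_c19 LD3_c14)) :=
  Lgr Lrot127 (Lpr_bf (f572753 IH) (Lpn (LP (LK LD1_c7 LD2_c19 LD3_c14))))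
theorem f5673 : Led Lsl_dt (LP (LK LD1_c7 LD2_c19 LD3_c14)) = (LP (LK LD1_c3 LD2_c39 LD3_c31)) :=
  Lre_d IH (LK LD1_c7 LD2_c19 LD3_c14) (LK LD1_c3 LD2_c39 LD3_c31) Lrfl Lrfl
theorem f572780 : Led Lsl_bf (LP (LK LD1_c5 LD2_c7 LD3_c18)) = (LP (LK LD1_c3 LD2_c39 LD3_c31)) :=
  Lgr Lrot93 (Lpr_dt (f308599 IH) (Lpr_bt (f572767 IH) (Lpr_dt (f5673 IH) (Lpn (LP (LK LD1_c3 LD2_c39 LD3_c31))))))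
theorem f53305 : Led Lsl_dt (LP (LK LD1_c2 LD2_c30 LD3_c60)) = (LP (LK LD1_c1 LD2_c12 LD3_c30)) :=
  Lre_d IH (LK LD1_c2 LD2_c30 LD3_c60) (LK LD1_c1 LD2_c12 LD3_c30) Lrfl Lrfl
theorem f53304 : Led Lsl_at (LP (LK LD1_c5 LD2_c7 LD3_c15)) = (LP (LK LD1_c2 LD2_c30 LD3_c59)) :=
  Lre_a IH (LK LD1_c5 LD2_c7 LD3_c15) (LK LD1_c2 LD2_c30 LD3_c59) Lrfl Lrfl
theorem f308519 : Led Lsl_ft (LP (LK LD1_c5 LD2_c13 LD3_c58)) = (LP (LK LD1_c5 LD2_c7 LD3_c15)) :=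
  Lgr Lrot142 (Lpr_dt (K32.f308508 IH) (Lpr_ct (K32.f308509 IH) (Lpr_dt (K32.f308505 IH) (Lpr_ct (K32.f308516 IH) (Lpr_dt (K32.f194048 IH) (Lpr_ct (K32.f194047 IH) (Lpr_dt (f53305 IH) (Lpr_ct (K36.f3300 IH) (Lpe (f53304 IH) (Lpn (LP (LK LD1_c5 LD2_c7 LD3_c15))))))))))))
theorem f308597 : Led Lsl_gt (LP (LK LD1_c5 LD2_c13 LD3_c58)) = (LP (LK LD1_c5 LD2_c7 LD3_c18)) :=
  Lgr Lrot5 (Lpr_ft (f308519 IH) (Lpr_at (f53304 IH) (Lpe (K37.f3301 IH) (Lpn (LP (LK LD1_c5 LD2_c7 LD3_c18))))))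
theorem f308193 : Led Lsl_at (LP (LK LD1_c10 LD2_c17 LD3_c29)) = (LP (LK LD1_c5 LD2_c13 LD3_c40)) :=
  Lre_a IH (LK LD1_c10 LD2_c17 LD3_c29) (LK LD1_c5 LD2_c13 LD3_c40) Lrfl Lrfl
theorem f427881 : Led Lsl_ff (LP (LK LD1_c10 LD2_c17 LD3_c29)) = (LP (LK LD1_c8 LD2_c49 LD3_c12)) :=
  Lgr Lrot30 (Lpr_at (f308193 IH) (Lpr_ft (K19.f308185 IH) (Lpr_at (K36.f427875 IH) (Lpn (LP (LK LD1_c8 LD2_c49 LD3_c12))))))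
theorem f308454 : Led Lsl_ff (LP (LK LD1_c10 LD2_c17 LD3_c58)) = (LP (LK LD1_c10 LD2_c5 LD3_c3)) :=
  Lgr Lrot30 (Lpr_at (K39.f201611 IH) (Lpr_ft (K32.f308339 IH) (Lpr_at (K32.f53300 IH) (Lpn (LP (LK LD1_c10 LD2_c5 LD3_c3))))))
theorem f427883 : Led Lsl_bt (LP (LK LD1_c10 LD2_c17 LD3_c58)) = (LP (LK LD1_c8 LD2_c49 LD3_c12)) :=
  Lgr Lrot35 (Lpr_ff (f308454 IH) (Lpr_bf (K36.f308415 IH) (Lpr_ff (f427881 IH) (Lpn (LP (LK LD1_c8 LD2_c49 LD3_c12))))))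
theorem f427885 : Led Lsl_bf (LP (LK LD1_c5 LD2_c13 LD3_c58)) = (LP (LK LD1_c4 LD2_c25 LD3_c55)) :=
  Lgr Lrot93 (Lpr_dt (K32.f308508 IH) (Lpr_bt (f427883 IH) (Lpr_dt (K36.f427826 IH) (Lpn (LP (LK LD1_c4 LD2_c25 LD3_c55))))))
theorem f308147 : Led Lsl_ct (LP (LK LD1_c10 LD2_c17 LD3_c42)) = (LP (LK LD1_c18 LD2_c42 LD3_c49)) :=
  Lre_c IH (LK LD1_c10 LD2_c17 LD3_c42) (LK LD1_c18 LD2_c42 LD3_c49) Lrfl Lrfl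
theorem f427842 : Led Lsl_dt (LP (LK LD1_c18 LD2_c42 LD3_c49)) = (LP (LK LD1_c16 LD2_c29 LD3_c37)) :=
  Lgr Lrot42 (Lpr_df (K36.f427837 IH) (Lpn (LP (LK LD1_c16 LD2_c29 LD3_c37))))
theorem f427861 : Led Lsl_ct (LP (LK LD1_c16 LD2_c29 LD3_c37)) = (LP (LK LD1_c8 LD2_c49 LD3_c12)) :=
  Lre_c IH (LK LD1_c16 LD2_c29 LD3_c37) (LK LD1_c8 LD2_c49 LD3_c12) Lrfl Lrfl
theorem f495335 : Led Lsl_ct (LP (LK LD1_c4 LD2_c25 LD3_c55)) = K36.v1398 :=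
  Lgr Lrot98 (Lpe (K36.f427826 IH) (Lpe (f427861 IH) (Lpe (f427842 IH) (Lpe (f308147 IH) (Lpe (K38.f308146 IH) (Lpe (K38.f186534 IH) (Lpe (K38.f308145 IH) (Lpr_ft (K19.f308131 IH) (Lpr_at (K36.f495330 IH) (Lpn K36.v1398))))))))))
theorem f5189 : Led Lsl_ct (LP (LK LD1_c3 LD2_c39 LD3_c31)) = (LP (LK LD1_c7 LD2_c19 LD3_c13)) :=
  Lre_c IH (LK LD1_c3 LD2_c39 LD3_c31) (LK LD1_c7 LD2_c19 LD3_c13) Lrfl Lrfl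
theorem f566087 : Led Lsl_bt (LP (LK LD1_c3 LD2_c39 LD3_c32)) = (LP (LK LD1_c1 LD2_c57 LD3_c33)) :=
  Lgr Lrot128 (Lpr_cf (K41.f566085 IH) (Lpe (f193095 IH) (Lpe (K13.f192977 IH) (Lpe (K13.f193085 IH) (Lpe (K12.f182458 IH) (Lpn (LP (LK LD1_c1 LD2_c57 LD3_c33))))))))
theorem f572709 : Led Lsl_ct (LP (LK LD1_c4 LD2_c20 LD3_c37)) = (LP (LK LD1_c8 LD2_c10 LD3_c30)) :=
  Lgr Lrot91 (Lpr_gf (f572699 IH) (Lpe (f568804 IH) (Lpe (K37.f34942 IH) (Lpe (K40.f34983 IH) (Lpe (K41.f34984 IH) (Lpe (K41.f567096 IH) (Lpr_gf (K13.f242837 IH) (Lpe (f566087 IH) (Lpr_ct (f566089 IH) (Lpe (f193431 IH) (Lpn (LP (LK LD1_c8 LD2_c10 LD3_c30)))))))))))))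
theorem f572784 : Led Lsl_bf (LP (LK LD1_c4 LD2_c37 LD3_c2)) = (LP (LK LD1_c4 LD2_c20 LD3_c37)) :=
  Lgr Lrot165 (Lpr_gt (f439085 IH) (Lpr_ct (K35.f494435 IH) (Lpr_gt (K37.f100260 IH) (Lpqs (K37.f542395 IH) (Lpe (f495335 IH) (Lpe (f427885 IH) (Lpr_gt (f308597 IH) (Lpr_bf (f572780 IH) (Lpr_ct (f5189 IH) (Lpe (f570096 IH) (Lpe (f572709 IH) (Lpn (LP (LK LD1_c4 LD2_c20 LD3_c37))))))))))))))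
theorem f572691 : Led Lsl_bf (LP (LK LD1_c8 LD2_c10 LD3_c30)) = (LP (LK LD1_c8 LD2_c38 LD3_c15)) :=
  Lgr Lrot24 (Lpr_bt (f572689 IH) (Lpn (LP (LK LD1_c8 LD2_c38 LD3_c15))))
theorem f572790 : Led Lsl_et (LP (LK LD1_c4 LD2_c37 LD3_c2)) = (LP (LK LD1_c8 LD2_c38 LD3_c15)) :=
  Lgr Lrot74 (Lpr_bf (f572784 IH) (Lpr_ef (f572715 IH) (Lpr_bf (f572691 IH) (Lpn (LP (LK LD1_c8 LD2_c38 LD3_c15))))))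
theorem f571545 : Led Lsl_dt (LP (LK LD1_c4 LD2_c37 LD3_c2)) = (LP (LK LD1_c9 LD2_c9 LD3_c52)) :=
  Lre_d IH (LK LD1_c4 LD2_c37 LD3_c2) (LK LD1_c9 LD2_c9 LD3_c52) Lrfl Lrfl
theorem f545110 : Led Lsl_gt (LP (LK LD1_c4 LD2_c23 LD3_c57)) = (LP (LK LD1_c4 LD2_c1 LD3_c28)) :=
  Lgr Lrot65 (Lpe (K8.f36548 IH) (Lpr_bt (K37.f36546 IH) (Lpqs (K38.f544988 IH) (Lpe (K38.f495658 IH) (Lpe (K35.f8407 IH) (Lpr_ct (K10.f8386 IH) (Lpr_gf (K0.f8380 IH) (Lpe (K1.f22407 IH) (Lpe (K9.f168212 IH) (Lpe (K30.f56553 IH) (Lpe (K38.f197242 IH) (Lpn (LP (LK LD1_c4 LD2_c1 LD3_c28))))))))))))))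
theorem f572798 : Led Lsl_gf (LP (LK LD1_c9 LD2_c9 LD3_c52)) = (LP (LK LD1_c8 LD2_c3 LD3_c34)) :=
  Lgr Lrot134 (Lpe (f571545 IH) (Lpr_et (f572790 IH) (Lpe (f572682 IH) (Lpe (K38.f34868 IH) (Lpr_dt (K2.f35257 IH) (Lpe (K6.f119666 IH) (Lpr_df (K8.f119656 IH) (Lpr_et (K8.f36542 IH) (Lpr_gt (f545110 IH) (Lpr_dt (K38.f197341 IH) (Lpn (LP (LK LD1_c8 LD2_c3 LD3_c34)))))))))))))
theorem f571547 : Led Lsl_dt (LP (LK LD1_c9 LD2_c9 LD3_c52)) = (LP (LK LD1_c4 LD2_c37 LD3_c2)) :=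
  Lre_d IH (LK LD1_c9 LD2_c9 LD3_c52) (LK LD1_c4 LD2_c37 LD3_c2) Lrfl Lrfl
theorem f494454 : Led Lsl_dt (LP (LK LD1_c2 LD2_c15 LD3_c43)) = (LP (LK LD1_c4 LD2_c37 LD3_c3)) :=
  Lre_d IH (LK LD1_c2 LD2_c15 LD3_c43) (LK LD1_c4 LD2_c37 LD3_c3) Lrfl Lrfl
theorem f538331 : Led Lsl_ct (LP (LK LD1_c4 LD2_c37 LD3_c3)) = (LP (LK LD1_c9 LD2_c9 LD3_c54)) :=
  Lre_c IH (LK LD1_c4 LD2_c37 LD3_c3) (LK LD1_c9 LD2_c9 LD3_c54) Lrfl Lrfl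
theorem f551889 : Led Lsl_gf (LP (LK LD1_c10 LD2_c17 LD3_c30)) = (LP (LK LD1_c15 LD2_c10 LD3_c17)) :=
  Lgr Lrot76 (Lpe (K36.f308158 IH) (Lpr_ff (K36.f427847 IH) (Lpr_gt (K39.f551875 IH) (Lpn (LP (LK LD1_c15 LD2_c10 LD3_c17))))))
theorem f572802 : Led Lsl_gf (LP (LK LD1_c17 LD2_c2 LD3_c60)) = (LP (LK LD1_c18 LD2_c42 LD3_c22)) :=
  Lgr Lrot143 (Lpr_dt (K35.f494446 IH) (Lpe (f538331 IH) (Lpe (f494454 IH) (Lpe (f439085 IH) (Lpe (f571547 IH) (Lpr_gf (f572798 IH) (Lpe (K38.f197346 IH) (Lpe (f551889 IH) (Lpr_dt (K38.f308159 IH) (Lpn (LP (LK LD1_c18 LD2_c42 LD3_c22))))))))))))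
theorem f538324 : Led Lsl_cf (LP (LK LD1_c11 LD2_c58 LD3_c23)) = (LP (LK LD1_c17 LD2_c2 LD3_c60)) :=
  Lgr Lrot11 (Lpr_ct (K35.f538321 IH) (Lpn (LP (LK LD1_c17 LD2_c2 LD3_c60))))
theorem f56324 : Led Lsl_dt (LP (LK LD1_c11 LD2_c58 LD3_c23)) = (LP (LK LD1_c6 LD2_c8 LD3_c15)) :=
  Lre_d IH (LK LD1_c11 LD2_c58 LD3_c23) (LK LD1_c6 LD2_c8 LD3_c15) Lrfl Lrfl
theorem f494528 : Led Lsl_et (LP (LK LD1_c2 LD2_c0 LD3_c57)) = K35.v1281 :=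
  Lgr Lrot87 (Lpr_ef (K35.f494524 IH) (Lpn K35.v1281))
theorem f546423 : Led Lsl_dt (LP (LK LD1_c2 LD2_c30 LD3_c17)) = (LP (LK LD1_c4 LD2_c37 LD3_c19)) :=
  Lgr Lrot42 (Lpr_df (K38.f546412 IH) (Lpn (LP (LK LD1_c4 LD2_c37 LD3_c19))))
theorem f552443 : Led Lsl_gf (LP (LK LD1_c3 LD2_c0 LD3_c21)) = (LP (LK LD1_c4 LD2_c37 LD3_c19)) :=
  Lgr Lrot145 (Lpr_df (K35.f176046 IH) (Lpr_et (f494528 IH) (Lpqs (K35.f541547 IH) (Lpe (K35.f500403 IH) (Lpr_dt (K36.f449869 IH) (Lpr_gt (K39.f449885 IH) (Lpr_df (K39.f552431 IH) (Lpr_et (K39.f407824 IH) (Lpr_gt (K38.f407822 IH) (Lpr_ef (K18.f164967 IH) (Lpr_dt (f546423 IH) (Lpn (LP (LK LD1_c4 LD2_c37 LD3_c19))))))))))))))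
theorem f546422 : Led Lsl_ct (LP (LK LD1_c9 LD2_c10 LD3_c15)) = (LP (LK LD1_c4 LD2_c37 LD3_c19)) :=
  Lre_c IH (LK LD1_c9 LD2_c10 LD3_c15) (LK LD1_c4 LD2_c37 LD3_c19) Lrfl Lrfl
theorem f499907 : Led Lsl_et (LP (LK LD1_c6 LD2_c25 LD3_c19)) = (LP (LK LD1_c3 LD2_c10 LD3_c19)) :=
  Lre_e IH (LK LD1_c6 LD2_c25 LD3_c19) (LK LD1_c3 LD2_c10 LD3_c19) Lrfl Lrfl
theorem f559980 : Led Lsl_ft (LP (LK LD1_c12 LD2_c23 LD3_c34)) = (LP (LK LD1_c6 LD2_c25 LD3_c19)) :=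
  Lre_f IH (LK LD1_c12 LD2_c23 LD3_c34) (LK LD1_c6 LD2_c25 LD3_c19) Lrfl Lrfl
theorem f164972 : Led Lsl_et (LP (LK LD1_c5 LD2_c37 LD3_c13)) = (LP (LK LD1_c11 LD2_c6 LD3_c19)) :=
  Lre_e IH (LK LD1_c5 LD2_c37 LD3_c13) (LK LD1_c11 LD2_c6 LD3_c19) Lrfl Lrfl
theorem f302431 : Led Lsl_ft (LP (LK LD1_c11 LD2_c6 LD3_c19)) = (LP (LK LD1_c19 LD2_c59 LD3_c48)) :=
  Lre_f IH (LK LD1_c11 LD2_c6 LD3_c19) (LK LD1_c19 LD2_c59 LD3_c48) Lrfl Lrfl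
theorem f559981 : Led Lsl_ef (LP (LK LD1_c12 LD2_c23 LD3_c34)) = (LP (LK LD1_c19 LD2_c59 LD3_c48)) :=
  Lgr Lrot21 (Lpr_ft (f559980 IH) (Lpr_et (f499907 IH) (Lpr_ft (K41.f559974 IH) (Lpr_et (f164972 IH) (Lpr_ft (f302431 IH) (Lpn (LP (LK LD1_c19 LD2_c59 LD3_c48))))))))
theorem f150331 : Led Lsl_dt (LP (LK LD1_c12 LD2_c23 LD3_c34)) = (LP (LK LD1_c6 LD2_c25 LD3_c20)) :=
  Lre_d IH (LK LD1_c12 LD2_c23 LD3_c34) (LK LD1_c6 LD2_c25 LD3_c20) Lrfl Lrfl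
theorem f496738 : Led Lsl_dt (LP (LK LD1_c5 LD2_c56 LD3_c40)) = (LP (LK LD1_c11 LD2_c38 LD3_c40)) :=
  Lre_d IH (LK LD1_c5 LD2_c56 LD3_c40) (LK LD1_c11 LD2_c38 LD3_c40) Lrfl Lrfl
theorem f161038 : Led Lsl_et (LP (LK LD1_c1 LD2_c23 LD3_c15)) = (LP (LK LD1_c2 LD2_c54 LD3_c38)) :=
  Lre_e IH (LK LD1_c1 LD2_c23 LD3_c15) (LK LD1_c2 LD2_c54 LD3_c38) Lrfl Lrfl
theorem f161039 : Led Lsl_dt (LP (LK LD1_c2 LD2_c54 LD3_c38)) = (LP (LK LD1_c5 LD2_c56 LD3_c39)) :=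
  Lre_d IH (LK LD1_c2 LD2_c54 LD3_c38) (LK LD1_c5 LD2_c56 LD3_c39) Lrfl Lrfl
theorem f161040 : Led Lsl_et (LP (LK LD1_c5 LD2_c56 LD3_c39)) = (LP (LK LD1_c4 LD2_c41 LD3_c23)) :=
  Lgr Lrot71 (Lpe (f161039 IH) (Lpe (f161038 IH) (Lpr_df (K8.f161032 IH) (Lpe (K38.f26875 IH) (Lpe (K38.f59229 IH) (Lpn (LP (LK LD1_c4 LD2_c41 LD3_c23))))))))
theorem f161047 : Led Lsl_ef (LP (LK LD1_c5 LD2_c56 LD3_c39)) = (LP (LK LD1_c4 LD2_c41 LD3_c23)) :=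
  Lgr Lrot88 (Lpr_et (f161040 IH) (Lpn (LP (LK LD1_c4 LD2_c41 LD3_c23))))
theorem f161057 : Led Lsl_ft (LP (LK LD1_c5 LD2_c56 LD3_c39)) = (LP (LK LD1_c11 LD2_c38 LD3_c40)) :=
  Lre_f IH (LK LD1_c5 LD2_c56 LD3_c39) (LK LD1_c11 LD2_c38 LD3_c40) Lrfl Lrfl
theorem f546425 : Led Lsl_et (LP (LK LD1_c9 LD2_c10 LD3_c16)) = (LP (LK LD1_c4 LD2_c37 LD3_c19)) :=
  Lre_e IH (LK LD1_c9 LD2_c10 LD3_c16) (LK LD1_c4 LD2_c37 LD3_c19) Lrfl Lrfl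
theorem f546450 : Led Lsl_ft (LP (LK LD1_c17 LD2_c3 LD3_c26)) = (LP (LK LD1_c9 LD2_c10 LD3_c16)) :=
  Lre_f IH (LK LD1_c17 LD2_c3 LD3_c26) (LK LD1_c9 LD2_c10 LD3_c16) Lrfl Lrfl
theorem f546451 : Led Lsl_et (LP (LK LD1_c11 LD2_c38 LD3_c40)) = (LP (LK LD1_c17 LD2_c3 LD3_c26)) :=
  Lgr Lrot69 (Lpe (f161057 IH) (Lpr_ef (f161047 IH) (Lpr_ff (K38.f546442 IH) (Lpe (f546425 IH) (Lpe (f546450 IH) (Lpn (LP (LK LD1_c17 LD2_c3 LD3_c26))))))))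
theorem f560001 : Led Lsl_dt (LP (LK LD1_c17 LD2_c3 LD3_c26)) = (LP (LK LD1_c19 LD2_c59 LD3_c48)) :=
  Lgr Lrot77 (Lpe (f546451 IH) (Lpe (f496738 IH) (Lpe (K32.f496734 IH) (Lpe (f150331 IH) (Lpr_ef (f559981 IH) (Lpn (LP (LK LD1_c19 LD2_c59 LD3_c48))))))))
theorem f560007 : Led Lsl_df (LP (LK LD1_c17 LD2_c3 LD3_c26)) = (LP (LK LD1_c19 LD2_c59 LD3_c48)) :=
  Lgr Lrot38 (Lpr_dt (f560001 IH) (Lpn (LP (LK LD1_c19 LD2_c59 LD3_c48))))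
theorem f560013 : Led Lsl_dt (LP (LK LD1_c9 LD2_c10 LD3_c16)) = (LP (LK LD1_c11 LD2_c6 LD3_c19)) :=
  Lgr Lrot60 (Lpe (f546450 IH) (Lpr_df (f560007 IH) (Lpe (f302431 IH) (Lpn (LP (LK LD1_c11 LD2_c6 LD3_c19))))))
theorem f174243 : Led Lsl_bt (LP (LK LD1_c5 LD2_c42 LD3_c9)) = (LP (LK LD1_c2 LD2_c47 LD3_c3)) :=
  Lre_b IH (LK LD1_c5 LD2_c42 LD3_c9) (LK LD1_c2 LD2_c47 LD3_c3) Lrfl Lrfl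
theorem f289296 : Led Lsl_at (LP (LK LD1_c11 LD2_c14 LD3_c30)) = (LP (LK LD1_c5 LD2_c42 LD3_c9)) :=
  Lre_a IH (LK LD1_c11 LD2_c14 LD3_c30) (LK LD1_c5 LD2_c42 LD3_c9) Lrfl Lrfl
theorem f164754 : Led Lsl_bt (LP (LK LD1_c2 LD2_c44 LD3_c34)) = (LP (LK LD1_c5 LD2_c37 LD3_c15)) :=
  Lre_b IH (LK LD1_c2 LD2_c44 LD3_c34) (LK LD1_c5 LD2_c37 LD3_c15) Lrfl Lrfl
theorem f164792 : Led Lsl_at (LP (LK LD1_c5 LD2_c37 LD3_c15)) = (LP (LK LD1_c11 LD2_c6 LD3_c19)) :=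
  Lre_a IH (LK LD1_c5 LD2_c37 LD3_c15) (LK LD1_c11 LD2_c6 LD3_c19) Lrfl Lrfl
theorem f289297 : Led Lsl_bf (LP (LK LD1_c11 LD2_c14 LD3_c30)) = (LP (LK LD1_c11 LD2_c6 LD3_c19)) :=
  Lgr Lrot81 (Lpr_at (f289296 IH) (Lpr_bt (f174243 IH) (Lpr_at (K17.f289292 IH) (Lpr_bt (f164754 IH) (Lpr_at (f164792 IH) (Lpn (LP (LK LD1_c11 LD2_c6 LD3_c19))))))))
theorem f386696 : Led Lsl_et (LP (LK LD1_c2 LD2_c55 LD3_c39)) = (LP (LK LD1_c5 LD2_c58 LD3_c31)) :=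
  Lre_e IH (LK LD1_c2 LD2_c55 LD3_c39) (LK LD1_c5 LD2_c58 LD3_c31) Lrfl Lrfl
theorem f302420 : Led Lsl_df (LP (LK LD1_c4 LD2_c31 LD3_c1)) = (LP (LK LD1_c5 LD2_c42 LD3_c7)) :=
  Lgr Lrot38 (Lpr_dt (K27.f302417 IH) (Lpn (LP (LK LD1_c5 LD2_c42 LD3_c7))))
theorem f386862 : Led Lsl_dt (LP (LK LD1_c5 LD2_c58 LD3_c31)) = (LP (LK LD1_c11 LD2_c14 LD3_c30)) :=
  Lgr Lrot77 (Lpe (f386696 IH) (Lpr_df (K27.f386702 IH) (Lpr_ef (K18.f289424 IH) (Lpr_df (f302420 IH) (Lpe (K27.f302425 IH) (Lpn (LP (LK LD1_c11 LD2_c14 LD3_c30))))))))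
theorem f387301 : Led Lsl_df (LP (LK LD1_c5 LD2_c58 LD3_c31)) = (LP (LK LD1_c11 LD2_c14 LD3_c30)) :=
  Lgr Lrot38 (Lpr_dt (f386862 IH) (Lpn (LP (LK LD1_c11 LD2_c14 LD3_c30))))
theorem f560015 : Led Lsl_bf (LP (LK LD1_c9 LD2_c10 LD3_c16)) = (LP (LK LD1_c5 LD2_c58 LD3_c31)) :=
  Lgr Lrot93 (Lpr_dt (f560013 IH) (Lpe (f289297 IH) (Lpe (f387301 IH) (Lpn (LP (LK LD1_c5 LD2_c58 LD3_c31))))))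
theorem f560023 : Led Lsl_bt (LP (LK LD1_c4 LD2_c37 LD3_c19)) = (LP (LK LD1_c2 LD2_c55 LD3_c39)) :=
  Lgr Lrot119 (Lpe (f546425 IH) (Lpr_bf (f560015 IH) (Lpe (f386696 IH) (Lpn (LP (LK LD1_c2 LD2_c55 LD3_c39))))))
theorem f546436 : Led Lsl_ct (LP (LK LD1_c4 LD2_c37 LD3_c19)) = (LP (LK LD1_c9 LD2_c10 LD3_c15)) :=
  Lre_c IH (LK LD1_c4 LD2_c37 LD3_c19) (LK LD1_c9 LD2_c10 LD3_c15) Lrfl Lrfl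
theorem f560027 : Led Lsl_gt (LP (LK LD1_c9 LD2_c10 LD3_c15)) = (LP (LK LD1_c10 LD2_c17 LD3_c11)) :=
  Lgr Lrot65 (Lpe (f546436 IH) (Lpr_bt (f560023 IH) (Lpe (K27.f384042 IH) (Lpe (K32.f386677 IH) (Lpr_ct (K32.f386678 IH) (Lpe (K32.f387064 IH) (Lpe (K32.f180686 IH) (Lpr_gf (K32.f427595 IH) (Lpe (K36.f387244 IH) (Lpe (K36.f427597 IH) (Lpn (LP (LK LD1_c10 LD2_c17 LD3_c11)))))))))))))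
theorem f421415 : Led Lsl_ft (LP (LK LD1_c4 LD2_c58 LD3_c26)) = (LP (LK LD1_c9 LD2_c47 LD3_c36)) :=
  Lre_f IH (LK LD1_c4 LD2_c58 LD3_c26) (LK LD1_c9 LD2_c47 LD3_c36) Lrfl Lrfl
theorem f387082 : Led Lsl_ct (LP (LK LD1_c9 LD2_c47 LD3_c35)) = (LP (LK LD1_c4 LD2_c58 LD3_c26)) :=
  Lre_c IH (LK LD1_c9 LD2_c47 LD3_c35) (LK LD1_c4 LD2_c58 LD3_c26) Lrfl Lrfl
theorem f427605 : Led Lsl_ft (LP (LK LD1_c10 LD2_c17 LD3_c11)) = (LP (LK LD1_c9 LD2_c47 LD3_c35)) :=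
  Lgr Lrot4 (Lpr_cf (K36.f427597 IH) (Lpe (f421415 IH) (Lpe (f387082 IH) (Lpn (LP (LK LD1_c9 LD2_c47 LD3_c35))))))
theorem f427621 : Led Lsl_ff (LP (LK LD1_c10 LD2_c17 LD3_c11)) = (LP (LK LD1_c9 LD2_c47 LD3_c35)) :=
  Lgr Lrot3 (Lpr_ft (f427605 IH) (Lpn (LP (LK LD1_c9 LD2_c47 LD3_c35))))
theorem f386900 : Led Lsl_bt (LP (LK LD1_c4 LD2_c58 LD3_c26)) = (LP (LK LD1_c2 LD2_c27 LD3_c14)) :=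
  Lre_b IH (LK LD1_c4 LD2_c58 LD3_c26) (LK LD1_c2 LD2_c27 LD3_c14) Lrfl Lrfl
theorem f386901 : Led Lsl_ct (LP (LK LD1_c4 LD2_c58 LD3_c26)) = (LP (LK LD1_c9 LD2_c47 LD3_c35)) :=
  Lre_c IH (LK LD1_c4 LD2_c58 LD3_c26) (LK LD1_c9 LD2_c47 LD3_c35) Lrfl Lrfl
theorem f166177 : Led Lsl_bt (LP (LK LD1_c2 LD2_c30 LD3_c18)) = (LP (LK LD1_c1 LD2_c12 LD3_c10)) :=
  Lre_b IH (LK LD1_c2 LD2_c30 LD3_c18) (LK LD1_c1 LD2_c12 LD3_c10) Lrfl Lrfl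
theorem f166178 : Led Lsl_ct (LP (LK LD1_c2 LD2_c30 LD3_c18)) = (LP (LK LD1_c5 LD2_c5 LD3_c60)) :=
  Lre_c IH (LK LD1_c2 LD2_c30 LD3_c18) (LK LD1_c5 LD2_c5 LD3_c60) Lrfl Lrfl
theorem f387075 : Led Lsl_gt (LP (LK LD1_c9 LD2_c47 LD3_c35)) = (LP (LK LD1_c5 LD2_c5 LD3_c60)) :=
  Lgr Lrot65 (Lpe (f386901 IH) (Lpr_bt (f386900 IH) (Lpr_gf (K32.f387067 IH) (Lpe (K32.f180683 IH) (Lpr_ct (K10.f180693 IH) (Lpe (K10.f180583 IH) (Lpe (K9.f35003 IH) (Lpr_gf (K9.f166171 IH) (Lpe (f166177 IH) (Lpr_ct (f166178 IH) (Lpn (LP (LK LD1_c5 LD2_c5 LD3_c60)))))))))))))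
theorem f166179 : Led Lsl_gt (LP (LK LD1_c5 LD2_c5 LD3_c60)) = (LP (LK LD1_c10 LD2_c2 LD3_c55)) :=
  Lre_g IH (LK LD1_c5 LD2_c5 LD3_c60) (LK LD1_c10 LD2_c2 LD3_c55) Lrfl Lrfl
theorem f427634 : Led Lsl_at (LP (LK LD1_c10 LD2_c17 LD3_c11)) = (LP (LK LD1_c10 LD2_c2 LD3_c55)) :=
  Lgr Lrot26 (Lpr_ff (f427621 IH) (Lpr_gt (f387075 IH) (Lpr_gt (f166179 IH) (Lpn (LP (LK LD1_c10 LD2_c2 LD3_c55))))))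
theorem f427636 : Led Lsl_af (LP (LK LD1_c10 LD2_c17 LD3_c11)) = (LP (LK LD1_c10 LD2_c2 LD3_c55)) :=
  Lgr Lrot0 (Lpr_at (f427634 IH) (Lpn (LP (LK LD1_c10 LD2_c2 LD3_c55))))
theorem f185735 : Led Lsl_gt (LP (LK LD1_c5 LD2_c13 LD3_c28)) = (LP (LK LD1_c10 LD2_c17 LD3_c10)) :=
  Lre_g IH (LK LD1_c5 LD2_c13 LD3_c28) (LK LD1_c10 LD2_c17 LD3_c10) Lrfl Lrfl
theorem f427623 : Led Lsl_af (LP (LK LD1_c10 LD2_c17 LD3_c10)) = (LP (LK LD1_c9 LD2_c47 LD3_c35)) :=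
  Lgr Lrot31 (Lpe (f185735 IH) (Lpe (K36.f185164 IH) (Lpr_ft (f427605 IH) (Lpn (LP (LK LD1_c9 LD2_c47 LD3_c35))))))
theorem f427625 : Led Lsl_ct (LP (LK LD1_c8 LD2_c49 LD3_c3)) = (LP (LK LD1_c10 LD2_c17 LD3_c10)) :=
  Lgr Lrot98 (Lpe (f141760 IH) (Lpe (K36.f421409 IH) (Lpe (K36.f421431 IH) (Lpe (K36.f421432 IH) (Lpe (K36.f421433 IH) (Lpe (K36.f427607 IH) (Lpe (K36.f427601 IH) (Lpr_ft (f427605 IH) (Lpe (f427623 IH) (Lpn (LP (LK LD1_c10 LD2_c17 LD3_c10))))))))))))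
theorem f427627 : Led Lsl_af (LP (LK LD1_c9 LD2_c47 LD3_c35)) = (LP (LK LD1_c10 LD2_c17 LD3_c10)) :=
  Lgr Lrot68 (Lpr_ct (f387082 IH) (Lpe (f421443 IH) (Lpr_ct (f427625 IH) (Lpn (LP (LK LD1_c10 LD2_c17 LD3_c10))))))
theorem f427642 : Led Lsl_ff (LP (LK LD1_c10 LD2_c17 LD3_c10)) = (LP (LK LD1_c10 LD2_c2 LD3_c55)) :=
  Lgr Lrot30 (Lpe (f427627 IH) (Lpe (f427621 IH) (Lpr_at (f427634 IH) (Lpn (LP (LK LD1_c10 LD2_c2 LD3_c55))))))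
theorem f427647 : Led Lsl_ft (LP (LK LD1_c10 LD2_c17 LD3_c10)) = (LP (LK LD1_c10 LD2_c2 LD3_c55)) :=
  Lgr Lrot48 (Lpr_ff (f427642 IH) (Lpn (LP (LK LD1_c10 LD2_c2 LD3_c55))))
theorem f560029 : Led Lsl_gf (LP (LK LD1_c9 LD2_c10 LD3_c15)) = (LP (LK LD1_c10 LD2_c17 LD3_c10)) :=
  Lgr Lrot47 (Lpr_gt (f560027 IH) (Lpr_af (f427636 IH) (Lpe (f427647 IH) (Lpn (LP (LK LD1_c10 LD2_c17 LD3_c10))))))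
theorem f185736 : Led Lsl_dt (LP (LK LD1_c10 LD2_c17 LD3_c10)) = (LP (LK LD1_c18 LD2_c42 LD3_c2)) :=
  Lre_d IH (LK LD1_c10 LD2_c17 LD3_c10) (LK LD1_c18 LD2_c42 LD3_c2) Lrfl Lrfl
theorem f405134 : Led Lsl_ct (LP (LK LD1_c18 LD2_c23 LD3_c8)) = (LP (LK LD1_c10 LD2_c4 LD3_c22)) :=
  Lre_c IH (LK LD1_c18 LD2_c23 LD3_c8) (LK LD1_c10 LD2_c4 LD3_c22) Lrfl Lrfl
theorem f308160 : Led Lsl_at (LP (LK LD1_c18 LD2_c42 LD3_c22)) = (LP (LK LD1_c18 LD2_c23 LD3_c8)) :=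
  Lgr Lrot51 (Lpe (K38.f308159 IH) (Lpe (K36.f308158 IH) (Lpr_df (K19.f308156 IH) (Lpn (LP (LK LD1_c18 LD2_c23 LD3_c8))))))
theorem f542423 : Led Lsl_cf (LP (LK LD1_c18 LD2_c42 LD3_c22)) = (LP (LK LD1_c17 LD2_c3 LD3_c20)) :=
  Lgr Lrot1 (Lpr_at (f308160 IH) (Lpr_ct (f405134 IH) (Lpr_at (K38.f542419 IH) (Lpn (LP (LK LD1_c17 LD2_c3 LD3_c20))))))
theorem f572804 : Led Lsl_gt (LP (LK LD1_c18 LD2_c42 LD3_c2)) = (LP (LK LD1_c17 LD2_c3 LD3_c20)) :=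
  Lgr Lrot9 (Lpe (f185736 IH) (Lpe (f560029 IH) (Lpr_ct (f546422 IH) (Lpe (f552443 IH) (Lpr_ct (K35.f9099 IH) (Lpe (f56324 IH) (Lpr_cf (f538324 IH) (Lpr_gf (f572802 IH) (Lpr_cf (f542423 IH) (Lpn (LP (LK LD1_c17 LD2_c3 LD3_c20))))))))))))
theorem f572808 : Led Lsl_gf (LP (LK LD1_c18 LD2_c42 LD3_c2)) = (LP (LK LD1_c10 LD2_c17 LD3_c42)) :=
  Lgr Lrot47 (Lpr_gt (f572804 IH) (Lpe (K38.f542419 IH) (Lpe (K38.f405159 IH) (Lpn (LP (LK LD1_c10 LD2_c17 LD3_c42))))))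
theorem f427633 : Led Lsl_dt (LP (LK LD1_c18 LD2_c42 LD3_c2)) = (LP (LK LD1_c10 LD2_c17 LD3_c10)) :=
  Lre_d IH (LK LD1_c18 LD2_c42 LD3_c2) (LK LD1_c10 LD2_c17 LD3_c10) Lrfl Lrfl
theorem f427630 : Led Lsl_cf (LP (LK LD1_c8 LD2_c49 LD3_c3)) = (LP (LK LD1_c10 LD2_c17 LD3_c10)) :=
  Lgr Lrot11 (Lpr_ct (f427625 IH) (Lpn (LP (LK LD1_c10 LD2_c17 LD3_c10))))
theorem f421537 : Led Lsl_dt (LP (LK LD1_c5 LD2_c7 LD3_c45)) = (LP (LK LD1_c2 LD2_c31 LD3_c8)) :=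
  Lre_d IH (LK LD1_c5 LD2_c7 LD3_c45) (LK LD1_c2 LD2_c31 LD3_c8) Lrfl Lrfl
theorem f198582 : Led Lsl_gt (LP (LK LD1_c10 LD2_c17 LD3_c41)) = (LP (LK LD1_c5 LD2_c13 LD3_c46)) :=
  Lre_g IH (LK LD1_c10 LD2_c17 LD3_c41) (LK LD1_c5 LD2_c13 LD3_c46) Lrfl Lrfl
theorem f165659 : Led Lsl_bt (LP (LK LD1_c1 LD2_c12 LD3_c28)) = (LP (LK LD1_c2 LD2_c30 LD3_c52)) :=
  Lre_b IH (LK LD1_c1 LD2_c12 LD3_c28) (LK LD1_c2 LD2_c30 LD3_c52) Lrfl Lrfl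
theorem f165700 : Led Lsl_bt (LP (LK LD1_c10 LD2_c4 LD3_c44)) = (LP (LK LD1_c5 LD2_c7 LD3_c3)) :=
  Lre_b IH (LK LD1_c10 LD2_c4 LD3_c44) (LK LD1_c5 LD2_c7 LD3_c3) Lrfl Lrfl
theorem f417528 : Led Lsl_cf (LP (LK LD1_c10 LD2_c17 LD3_c41)) = (LP (LK LD1_c10 LD2_c4 LD3_c44)) :=
  Lgr Lrot160 (Lpr_gt (f198582 IH) (Lpe (K38.f186534 IH) (Lpr_bt (K19.f186560 IH) (Lpe (K11.f198577 IH) (Lpr_ct (K14.f249977 IH) (Lpe (K14.f249975 IH) (Lpr_cf (K10.f165663 IH) (Lpr_bt (f165659 IH) (Lpr_gt (K39.f165668 IH) (Lpe (f165700 IH) (Lpn (LP (LK LD1_c10 LD2_c4 LD3_c44)))))))))))))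
theorem f572810 : Led Lsl_gf (LP (LK LD1_c5 LD2_c7 LD3_c45)) = (LP (LK LD1_c10 LD2_c4 LD3_c44)) :=
  Lgr Lrot144 (Lpr_dt (f421537 IH) (Lpr_gt (K36.f428077 IH) (Lpr_dt (f141760 IH) (Lpr_cf (f427630 IH) (Lpe (f427633 IH) (Lpr_gf (f572808 IH) (Lpe (K38.f308146 IH) (Lpe (f198582 IH) (Lpr_cf (f417528 IH) (Lpn (LP (LK LD1_c10 LD2_c4 LD3_c44))))))))))))
theorem f541682 : Led Lsl_dt (LP (LK LD1_c5 LD2_c7 LD3_c3)) = (LP (LK LD1_c4 LD2_c7 LD3_c9)) :=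
  Lgr Lrot42 (Lpr_df (K39.f541678 IH) (Lpn (LP (LK LD1_c4 LD2_c7 LD3_c9))))
theorem f55990 : Led Lsl_bt (LP (LK LD1_c4 LD2_c7 LD3_c9)) = (LP (LK LD1_c8 LD2_c14 LD3_c48)) :=
  Lre_b IH (LK LD1_c4 LD2_c7 LD3_c9) (LK LD1_c8 LD2_c14 LD3_c48) Lrfl Lrfl
theorem f541695 : Led Lsl_df (LP (LK LD1_c10 LD2_c4 LD3_c44)) = (LP (LK LD1_c8 LD2_c14 LD3_c48)) :=
  Lgr Lrot12 (Lpr_bt (f165700 IH) (Lpr_dt (f541682 IH) (Lpr_bt (f55990 IH) (Lpn (LP (LK LD1_c8 LD2_c14 LD3_c48))))))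
theorem f55992 : Led Lsl_bt (LP (LK LD1_c0 LD2_c39 LD3_c40)) = (LP (LK LD1_c0 LD2_c17 LD3_c47)) :=
  Lre_b IH (LK LD1_c0 LD2_c39 LD3_c40) (LK LD1_c0 LD2_c17 LD3_c47) Lrfl Lrfl
theorem f55995 : Led Lsl_gt (LP (LK LD1_c6 LD2_c7 LD3_c40)) = (LP (LK LD1_c3 LD2_c0 LD3_c0)) :=
  Lre_g IH (LK LD1_c6 LD2_c7 LD3_c40) (LK LD1_c3 LD2_c0 LD3_c0) Lrfl Lrfl
theorem f55996 : Led Lsl_ct (LP (LK LD1_c6 LD2_c7 LD3_c26)) = (LP (LK LD1_c6 LD2_c7 LD3_c40)) :=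
  Lre_c IH (LK LD1_c6 LD2_c7 LD3_c26) (LK LD1_c6 LD2_c7 LD3_c40) Lrfl Lrfl
theorem f55997 : Led Lsl_gt (LP (LK LD1_c8 LD2_c14 LD3_c48)) = (LP (LK LD1_c6 LD2_c7 LD3_c26)) :=
  Lgr Lrot82 (Lpe (f55990 IH) (Lpr_ct (K36.f55989 IH) (Lpe (K36.f55979 IH) (Lpr_cf (K1.f55955 IH) (Lpr_bt (f55992 IH) (Lpe (K9.f9042 IH) (Lpe (f55993 IH) (Lpr_ct (K30.f55994 IH) (Lpe (f55995 IH) (Lpe (f55996 IH) (Lpn (LP (LK LD1_c6 LD2_c7 LD3_c26)))))))))))))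
theorem f56006 : Led Lsl_dt (LP (LK LD1_c3 LD2_c0 LD3_c1)) = (LP (LK LD1_c1 LD2_c25 LD3_c47)) :=
  Lre_d IH (LK LD1_c3 LD2_c0 LD3_c1) (LK LD1_c1 LD2_c25 LD3_c47) Lrfl Lrfl
theorem f572812 : Led Lsl_gt (LP (LK LD1_c10 LD2_c5 LD3_c45)) = (LP (LK LD1_c6 LD2_c7 LD3_c43)) :=
  Lgr Lrot150 (Lpe (K40.f428080 IH) (Lpr_gf (f572810 IH) (Lpr_df (f541695 IH) (Lpr_gt (f55997 IH) (Lpr_ct (f55996 IH) (Lpr_gt (f55995 IH) (Lpr_ct (K38.f56005 IH) (Lpe (f56006 IH) (Lpe (K38.f56007 IH) (Lpn (LP (LK LD1_c6 LD2_c7 LD3_c43))))))))))))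
theorem f547620 : Led Lsl_af (LP (LK LD1_c6 LD2_c7 LD3_c43)) = (LP (LK LD1_c10 LD2_c2 LD3_c53)) :=
  Lgr Lrot0 (Lpr_at (K38.f547618 IH) (Lpn (LP (LK LD1_c10 LD2_c2 LD3_c53))))
theorem f572816 : Led Lsl_ft (LP (LK LD1_c10 LD2_c4 LD3_c21)) = (LP (LK LD1_c10 LD2_c2 LD3_c53)) :=
  Lgr Lrot2 (Lpr_gt (K40.f557666 IH) (Lpr_gt (f572812 IH) (Lpr_af (f547620 IH) (Lpn (LP (LK LD1_c10 LD2_c2 LD3_c53))))))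
theorem f557668 : Led Lsl_dt (LP (LK LD1_c10 LD2_c4 LD3_c21)) = (LP (LK LD1_c18 LD2_c23 LD3_c7)) :=
  Lre_d IH (LK LD1_c10 LD2_c4 LD3_c21) (LK LD1_c18 LD2_c23 LD3_c7) Lrfl Lrfl
theorem f572827 : Led Lsl_ct (LP (LK LD1_c18 LD2_c23 LD3_c7)) = (LP (LK LD1_c21 LD2_c2 LD3_c49)) :=
  Lgr Lrot133 (Lpe (f557668 IH) (Lpr_ft (f572816 IH) (Lpe (f547620 IH) (Lpe (K38.f183463 IH) (Lpe (K38.f56008 IH) (Lpe (K38.f56005 IH) (Lpe (K38.f193876 IH) (Lpe (K38.f193870 IH) (Lpe (K38.f193873 IH) (Lpn (LP (LK LD1_c21 LD2_c2 LD3_c49))))))))))))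
theorem f406471 : Led Lsl_ct (LP (LK LD1_c5 LD2_c13 LD3_c27)) = (LP (LK LD1_c2 LD2_c33 LD3_c35)) :=
  Lre_c IH (LK LD1_c5 LD2_c13 LD3_c27) (LK LD1_c2 LD2_c33 LD3_c35) Lrfl Lrfl
theorem f569482 : Led Lsl_dt (LP (LK LD1_c10 LD2_c17 LD3_c9)) = (LP (LK LD1_c5 LD2_c13 LD3_c27)) :=
  Lre_d IH (LK LD1_c10 LD2_c17 LD3_c9) (LK LD1_c5 LD2_c13 LD3_c27) Lrfl Lrfl
theorem f547601 : Led Lsl_af (LP (LK LD1_c6 LD2_c7 LD3_c41)) = (LP (LK LD1_c10 LD2_c2 LD3_c51)) :=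
  Lgr Lrot0 (Lpr_at (K38.f547599 IH) (Lpn (LP (LK LD1_c10 LD2_c2 LD3_c51))))
theorem f572836 : Led Lsl_ft (LP (LK LD1_c10 LD2_c17 LD3_c9)) = (LP (LK LD1_c10 LD2_c2 LD3_c51)) :=
  Lgr Lrot142 (Lpr_dt (f569482 IH) (Lpr_ct (f406471 IH) (Lpe (K39.f551771 IH) (Lpr_ct (K40.f169807 IH) (Lpr_dt (f557668 IH) (Lpr_ct (f572827 IH) (Lpr_dt (K38.f193873 IH) (Lpr_ct (K38.f193870 IH) (Lpr_af (f547601 IH) (Lpn (LP (LK LD1_c10 LD2_c2 LD3_c51))))))))))))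
theorem f572846 : Led Lsl_ff (LP (LK LD1_c10 LD2_c17 LD3_c9)) = (LP (LK LD1_c10 LD2_c2 LD3_c51)) :=
  Lgr Lrot3 (Lpr_ft (f572836 IH) (Lpn (LP (LK LD1_c10 LD2_c2 LD3_c51))))
theorem f572848 : Led Lsl_at (LP (LK LD1_c10 LD2_c17 LD3_c9)) = (LP (LK LD1_c8 LD2_c3 LD3_c34)) :=
  Lgr Lrot66 (Lpr_ff (f572846 IH) (Lpe (K38.f547599 IH) (Lpe (K38.f287332 IH) (Lpn (LP (LK LD1_c8 LD2_c3 LD3_c34))))))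
theorem f572845 : Led Lsl_et (LP (LK LD1_c18 LD2_c42 LD3_c0)) = (LP (LK LD1_c10 LD2_c17 LD3_c9)) :=
  Lre_e IH (LK LD1_c18 LD2_c42 LD3_c0) (LK LD1_c10 LD2_c17 LD3_c9) Lrfl Lrfl
theorem f197340 : Led Lsl_et (LP (LK LD1_c8 LD2_c3 LD3_c34)) = (LP (LK LD1_c15 LD2_c10 LD3_c18)) :=
  Lre_e IH (LK LD1_c8 LD2_c3 LD3_c34) (LK LD1_c15 LD2_c10 LD3_c18) Lrfl Lrfl
theorem f572853 : Led Lsl_af (LP (LK LD1_c18 LD2_c42 LD3_c0)) = (LP (LK LD1_c15 LD2_c10 LD3_c18)) :=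
  Lgr Lrot50 (Lpr_et (f572845 IH) (Lpr_at (f572848 IH) (Lpr_et (f197340 IH) (Lpn (LP (LK LD1_c15 LD2_c10 LD3_c18))))))
theorem f197306 : Led Lsl_df (LP (LK LD1_c15 LD2_c10 LD3_c21)) = (LP (LK LD1_c9 LD2_c45 LD3_c3)) :=
  Lgr Lrot38 (Lpr_dt (K18.f197282 IH) (Lpn (LP (LK LD1_c9 LD2_c45 LD3_c3))))
theorem f197311 : Led Lsl_bt (LP (LK LD1_c15 LD2_c10 LD3_c21)) = (LP (LK LD1_c24 LD2_c59 LD3_c35)) :=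
  Lre_b IH (LK LD1_c15 LD2_c10 LD3_c21) (LK LD1_c24 LD2_c59 LD3_c35) Lrfl Lrfl
theorem f197313 : Led Lsl_dt (LP (LK LD1_c24 LD2_c59 LD3_c35)) = (LP (LK LD1_c17 LD2_c54 LD3_c26)) :=
  Lgr Lrot79 (Lpe (f197311 IH) (Lpr_df (f197306 IH) (Lpe (K18.f197312 IH) (Lpn (LP (LK LD1_c17 LD2_c54 LD3_c26))))))
theorem f197316 : Led Lsl_ft (LP (LK LD1_c15 LD2_c10 LD3_c18)) = (LP (LK LD1_c24 LD2_c59 LD3_c35)) :=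
  Lre_f IH (LK LD1_c15 LD2_c10 LD3_c18) (LK LD1_c24 LD2_c59 LD3_c35) Lrfl Lrfl
theorem f197317 : Led Lsl_ft (LP (LK LD1_c17 LD2_c54 LD3_c26)) = (LP (LK LD1_c9 LD2_c44 LD3_c60)) :=
  Lre_f IH (LK LD1_c17 LD2_c54 LD3_c26) (LK LD1_c9 LD2_c44 LD3_c60) Lrfl Lrfl
theorem f197318 : Led Lsl_df (LP (LK LD1_c15 LD2_c10 LD3_c18)) = (LP (LK LD1_c9 LD2_c44 LD3_c60)) :=
  Lgr Lrot78 (Lpr_ft (f197316 IH) (Lpr_dt (f197313 IH) (Lpr_ft (f197317 IH) (Lpn (LP (LK LD1_c9 LD2_c44 LD3_c60))))))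
theorem f197323 : Led Lsl_at (LP (LK LD1_c17 LD2_c54 LD3_c20)) = (LP (LK LD1_c9 LD2_c44 LD3_c60)) :=
  Lre_a IH (LK LD1_c17 LD2_c54 LD3_c20) (LK LD1_c9 LD2_c44 LD3_c60) Lrfl Lrfl
theorem f572857 : Led Lsl_dt (LP (LK LD1_c18 LD2_c42 LD3_c0)) = (LP (LK LD1_c17 LD2_c54 LD3_c20)) :=
  Lgr Lrot44 (Lpr_af (f572853 IH) (Lpr_df (f197318 IH) (Lpe (f197323 IH) (Lpn (LP (LK LD1_c17 LD2_c54 LD3_c20))))))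
theorem f572859 : Led Lsl_df (LP (LK LD1_c18 LD2_c42 LD3_c0)) = (LP (LK LD1_c17 LD2_c54 LD3_c20)) :=
  Lgr Lrot38 (Lpr_dt (f572857 IH) (Lpn (LP (LK LD1_c17 LD2_c54 LD3_c20))))
theorem f385864 : Led Lsl_et (LP (LK LD1_c9 LD2_c44 LD3_c58)) = (LP (LK LD1_c17 LD2_c54 LD3_c20)) :=
  Lre_e IH (LK LD1_c9 LD2_c44 LD3_c58) (LK LD1_c17 LD2_c54 LD3_c20) Lrfl Lrfl
theorem f572862 : Led Lsl_et (LP (LK LD1_c5 LD2_c13 LD3_c27)) = (LP (LK LD1_c4 LD2_c56 LD3_c53)) :=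
  Lgr Lrot71 (Lpe (f569482 IH) (Lpe (f572845 IH) (Lpr_df (f572859 IH) (Lpe (f385864 IH) (Lpe (K18.f168272 IH) (Lpn (LP (LK LD1_c4 LD2_c56 LD3_c53))))))))
theorem f572842 : Led Lsl_dt (LP (LK LD1_c5 LD2_c13 LD3_c27)) = (LP (LK LD1_c10 LD2_c17 LD3_c9)) :=
  Lre_d IH (LK LD1_c5 LD2_c13 LD3_c27) (LK LD1_c10 LD2_c17 LD3_c9) Lrfl Lrfl
theorem f421508 : Led Lsl_dt (LP (LK LD1_c5 LD2_c7 LD3_c44)) = (LP (LK LD1_c10 LD2_c5 LD3_c44)) :=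
  Lre_d IH (LK LD1_c5 LD2_c7 LD3_c44) (LK LD1_c10 LD2_c5 LD3_c44) Lrfl Lrfl
theorem f572866 : Led Lsl_gt (LP (LK LD1_c10 LD2_c17 LD3_c9)) = (LP (LK LD1_c10 LD2_c5 LD3_c44)) :=
  Lgr Lrot112 (Lpe (f572842 IH) (Lpr_et (f572862 IH) (Lpe (K38.f407096 IH) (Lpe (K38.f407098 IH) (Lpr_dt (K38.f547552 IH) (Lpe (K38.f32006 IH) (Lpe (K38.f34875 IH) (Lpe (K41.f34914 IH) (Lpr_ef (f557687 IH) (Lpr_dt (f421508 IH) (Lpn (LP (LK LD1_c10 LD2_c5 LD3_c44)))))))))))))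
theorem f572870 : Led Lsl_gf (LP (LK LD1_c5 LD2_c13 LD3_c27)) = (LP (LK LD1_c3 LD2_c9 LD3_c53)) :=
  Lgr Lrot138 (Lpr_dt (f572842 IH) (Lpr_gt (f572866 IH) (Lpe (f421508 IH) (Lpe (f557687 IH) (Lpr_gt (K41.f34914 IH) (Lpe (K2.f34782 IH) (Lpr_dt (K2.f34845 IH) (Lpr_gt (K4.f112440 IH) (Lpe (K4.f36322 IH) (Lpr_et (K38.f112448 IH) (Lpn (LP (LK LD1_c3 LD2_c9 LD3_c53)))))))))))))
theorem f406470 : Led Lsl_ct (LP (LK LD1_c2 LD2_c33 LD3_c35)) = (LP (LK LD1_c5 LD2_c13 LD3_c27)) :=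
  Lre_c IH (LK LD1_c2 LD2_c33 LD3_c35) (LK LD1_c5 LD2_c13 LD3_c27) Lrfl Lrfl
theorem f551759 : Led Lsl_bf (LP (LK LD1_c2 LD2_c59 LD3_c58)) = (LP (LK LD1_c2 LD2_c33 LD3_c35)) :=
  Lgr Lrot24 (Lpr_bt (K39.f551755 IH) (Lpn (LP (LK LD1_c2 LD2_c33 LD3_c35))))
theorem f553853 : Led Lsl_bf (LP (LK LD1_c3 LD2_c5 LD3_c11)) = (LP (LK LD1_c5 LD2_c12 LD3_c25)) :=
  Lgr Lrot96 (Lpr_et (f132829 IH) (Lpr_bt (K39.f552037 IH) (Lpr_et (K39.f553851 IH) (Lpn (LP (LK LD1_c5 LD2_c12 LD3_c25))))))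
theorem f179886 : Led Lsl_bt (LP (LK LD1_c0 LD2_c57 LD3_c4)) = (LP (LK LD1_c2 LD2_c0 LD3_c10)) :=
  Lre_b IH (LK LD1_c0 LD2_c57 LD3_c4) (LK LD1_c2 LD2_c0 LD3_c10) Lrfl Lrfl
theorem f55893 : Led Lsl_bt (LP (LK LD1_c0 LD2_c25 LD3_c56)) = (LP (LK LD1_c0 LD2_c57 LD3_c6)) :=
  Lre_b IH (LK LD1_c0 LD2_c25 LD3_c56) (LK LD1_c0 LD2_c57 LD3_c6) Lrfl Lrfl
theorem f563671 : Led Lsl_ct (LP (LK LD1_c5 LD2_c12 LD3_c25)) = (LP (LK LD1_c8 LD2_c12 LD3_c18)) :=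
  Lgr Lrot63 (Lpe (f553853 IH) (Lpr_gt (K38.f563665 IH) (Lpe (f179886 IH) (Lpr_ct (K9.f179883 IH) (Lpr_gt (K9.f56518 IH) (Lpe (K1.f55380 IH) (Lpr_bt (f55893 IH) (Lpr_gt (K36.f79919 IH) (Lpr_ct (K36.f541322 IH) (Lpr_gt (f541330 IH) (Lpn (LP (LK LD1_c8 LD2_c12 LD3_c18)))))))))))))
theorem f237444 : Led Lsl_gt (LP (LK LD1_c8 LD2_c12 LD3_c18)) = (LP (LK LD1_c4 LD2_c5 LD3_c55)) :=
  Lre_g IH (LK LD1_c8 LD2_c12 LD3_c18) (LK LD1_c4 LD2_c5 LD3_c55) Lrfl Lrfl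
theorem f55854 : Led Lsl_ct (LP (LK LD1_c2 LD2_c0 LD3_c14)) = (LP (LK LD1_c4 LD2_c5 LD3_c55)) :=
  Lre_c IH (LK LD1_c2 LD2_c0 LD3_c14) (LK LD1_c4 LD2_c5 LD3_c55) Lrfl Lrfl
theorem f559623 : Led Lsl_bt (LP (LK LD1_c2 LD2_c0 LD3_c14)) = (LP (LK LD1_c4 LD2_c5 LD3_c54)) :=
  Lre_b IH (LK LD1_c2 LD2_c0 LD3_c14) (LK LD1_c4 LD2_c5 LD3_c54) Lrfl Lrfl
theorem f117571 : Led Lsl_ct (LP (LK LD1_c6 LD2_c24 LD3_c26)) = (LP (LK LD1_c3 LD2_c9 LD3_c53)) :=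
  Lre_c IH (LK LD1_c6 LD2_c24 LD3_c26) (LK LD1_c3 LD2_c9 LD3_c53) Lrfl Lrfl
theorem f572878 : Led Lsl_gt (LP (LK LD1_c4 LD2_c5 LD3_c54)) = (LP (LK LD1_c6 LD2_c24 LD3_c26)) :=
  Lgr Lrot82 (Lpe (f559623 IH) (Lpr_ct (f55854 IH) (Lpe (f237444 IH) (Lpe (f563671 IH) (Lpe (f553853 IH) (Lpr_gf (f569476 IH) (Lpr_bf (f551759 IH) (Lpr_ct (f406470 IH) (Lpr_gf (f572870 IH) (Lpe (f117571 IH) (Lpn (LP (LK LD1_c6 LD2_c24 LD3_c26)))))))))))))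
theorem f572893 : Led Lsl_et (LP (LK LD1_c8 LD2_c12 LD3_c28)) = (LP (LK LD1_c4 LD2_c5 LD3_c54)) :=
  Lre_e IH (LK LD1_c8 LD2_c12 LD3_c28) (LK LD1_c4 LD2_c5 LD3_c54) Lrfl Lrfl
theorem f565286 : Led Lsl_dt (LP (LK LD1_c8 LD2_c12 LD3_c28)) = (LP (LK LD1_c15 LD2_c26 LD3_c32)) :=
  Lre_d IH (LK LD1_c8 LD2_c12 LD3_c28) (LK LD1_c15 LD2_c26 LD3_c32) Lrfl Lrfl
theorem f117512 : Led Lsl_et (LP (LK LD1_c3 LD2_c9 LD3_c51)) = (LP (LK LD1_c6 LD2_c24 LD3_c26)) :=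
  Lre_e IH (LK LD1_c3 LD2_c9 LD3_c51) (LK LD1_c6 LD2_c24 LD3_c26) Lrfl Lrfl
theorem f130557 : Led Lsl_dt (LP (LK LD1_c4 LD2_c34 LD3_c47)) = (LP (LK LD1_c9 LD2_c6 LD3_c13)) :=
  Lre_d IH (LK LD1_c4 LD2_c34 LD3_c47) (LK LD1_c9 LD2_c6 LD3_c13) Lrfl Lrfl
theorem f572894 : Led Lsl_gf (LP (LK LD1_c15 LD2_c26 LD3_c32)) = (LP (LK LD1_c9 LD2_c6 LD3_c13)) :=
  Lgr Lrot134 (Lpe (f565286 IH) (Lpr_et (f572893 IH) (Lpr_gt (f572878 IH) (Lpe (f117512 IH) (Lpr_dt (K4.f117504 IH) (Lpe (K8.f117528 IH) (Lpe (K8.f160919 IH) (Lpr_et (K40.f160927 IH) (Lpe (K40.f557727 IH) (Lpr_dt (f130557 IH) (Lpn (LP (LK LD1_c9 LD2_c6 LD3_c13)))))))))))))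
theorem f141953 : Led Lsl_et (LP (LK LD1_c4 LD2_c34 LD3_c47)) = (LP (LK LD1_c2 LD2_c14 LD3_c28)) :=
  Lre_e IH (LK LD1_c4 LD2_c34 LD3_c47) (LK LD1_c2 LD2_c14 LD3_c28) Lrfl Lrfl
theorem f148949 : Led Lsl_dt (LP (LK LD1_c2 LD2_c27 LD3_c3)) = (LP (LK LD1_c4 LD2_c58 LD3_c26)) :=
  Lre_d IH (LK LD1_c2 LD2_c27 LD3_c3) (LK LD1_c4 LD2_c58 LD3_c26) Lrfl Lrfl
theorem f148950 : Led Lsl_gt (LP (LK LD1_c9 LD2_c47 LD3_c34)) = (LP (LK LD1_c4 LD2_c58 LD3_c26)) :=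
  Lre_g IH (LK LD1_c9 LD2_c47 LD3_c34) (LK LD1_c4 LD2_c58 LD3_c26) Lrfl Lrfl
theorem f572904 : Led Lsl_dt (LP (LK LD1_c6 LD2_c24 LD3_c26)) = (LP (LK LD1_c9 LD2_c47 LD3_c34)) :=
  Lgr Lrot171 (Lpe (f572878 IH) (Lpe (f572893 IH) (Lpr_dt (f565286 IH) (Lpr_gf (f572894 IH) (Lpe (f130557 IH) (Lpr_et (f141953 IH) (Lpr_gf (K7.f148936 IH) (Lpe (K39.f138925 IH) (Lpr_dt (f148949 IH) (Lpe (f148950 IH) (Lpn (LP (LK LD1_c9 LD2_c47 LD3_c34)))))))))))))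
theorem f117564 : Led Lsl_bt (LP (LK LD1_c3 LD2_c9 LD3_c53)) = (LP (LK LD1_c6 LD2_c24 LD3_c25)) :=
  Lre_b IH (LK LD1_c3 LD2_c9 LD3_c53) (LK LD1_c6 LD2_c24 LD3_c25) Lrfl Lrfl
theorem f570526 : Led Lsl_gf (LP (LK LD1_c5 LD2_c5 LD3_c5)) = (LP (LK LD1_c6 LD2_c24 LD3_c25)) :=
  Lgr Lrot138 (Lpr_dt (K39.f240819 IH) (Lpr_gt (K41.f556962 IH) (Lpe (f239271 IH) (Lpr_et (f570517 IH) (Lpe (f540894 IH) (Lpe (K37.f112467 IH) (Lpr_dt (K6.f112461 IH) (Lpr_gt (K6.f112456 IH) (Lpe (K5.f112453 IH) (Lpr_et (f112466 IH) (Lpn (LP (LK LD1_c6 LD2_c24 LD3_c25)))))))))))))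
theorem f164867 : Led Lsl_gt (LP (LK LD1_c2 LD2_c29 LD3_c55)) = (LP (LK LD1_c5 LD2_c5 LD3_c11)) :=
  Lre_g IH (LK LD1_c2 LD2_c29 LD3_c55) (LK LD1_c5 LD2_c5 LD3_c11) Lrfl Lrfl
theorem f572888 : Led Lsl_cf (LP (LK LD1_c4 LD2_c5 LD3_c54)) = (LP (LK LD1_c5 LD2_c5 LD3_c11)) :=
  Lgr Lrot125 (Lpr_gt (f572878 IH) (Lpe (K8.f117565 IH) (Lpr_bt (f117564 IH) (Lpe (f570526 IH) (Lpe (K13.f240692 IH) (Lpr_ct (K13.f240656 IH) (Lpr_gt (K13.f164979 IH) (Lpe (K11.f31647 IH) (Lpr_bt (K13.f164875 IH) (Lpr_gt (f164867 IH) (Lpn (LP (LK LD1_c5 LD2_c5 LD3_c11)))))))))))))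
theorem f421384 : Led Lsl_dt (LP (LK LD1_c8 LD2_c48 LD3_c56)) = (LP (LK LD1_c4 LD2_c25 LD3_c42)) :=
  Lre_d IH (LK LD1_c8 LD2_c48 LD3_c56) (LK LD1_c4 LD2_c25 LD3_c42) Lrfl Lrfl
theorem f148974 : Led Lsl_et (LP (LK LD1_c4 LD2_c25 LD3_c42)) = (LP (LK LD1_c2 LD2_c10 LD3_c11)) :=
  Lre_e IH (LK LD1_c4 LD2_c25 LD3_c42) (LK LD1_c2 LD2_c10 LD3_c11) Lrfl Lrfl
theorem f148975 : Led Lsl_dt (LP (LK LD1_c4 LD2_c25 LD3_c42)) = (LP (LK LD1_c8 LD2_c48 LD3_c56)) :=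
  Lre_d IH (LK LD1_c4 LD2_c25 LD3_c42) (LK LD1_c8 LD2_c48 LD3_c56) Lrfl Lrfl
theorem f570711 : Led Lsl_gf (LP (LK LD1_c8 LD2_c48 LD3_c56)) = (LP (LK LD1_c9 LD2_c17 LD3_c46)) :=
  Lgr Lrot145 (Lpe (f148975 IH) (Lpr_et (f148974 IH) (Lpe (K8.f148958 IH) (Lpr_dt (K39.f139591 IH) (Lpr_gt (K36.f37893 IH) (Lpe (f206795 IH) (Lpr_et (f570702 IH) (Lpe (K32.f425857 IH) (Lpe (K8.f59198 IH) (Lpr_dt (K8.f59205 IH) (Lpn (LP (LK LD1_c9 LD2_c17 LD3_c46)))))))))))))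
theorem f572915 : Led Lsl_gt (LP (LK LD1_c5 LD2_c5 LD3_c11)) = (LP (LK LD1_c4 LD2_c41 LD3_c22)) :=
  Lgr Lrot180 (Lpe (f572888 IH) (Lpr_gt (f572878 IH) (Lpr_dt (f572904 IH) (Lpr_gt (f148950 IH) (Lpr_dt (f421414 IH) (Lpe (K32.f421407 IH) (Lpe (f421384 IH) (Lpr_gf (f570711 IH) (Lpe (K8.f59205 IH) (Lpn (LP (LK LD1_c4 LD2_c41 LD3_c22))))))))))))
theorem f164868 : Led Lsl_et (LP (LK LD1_c10 LD2_c1 LD3_c29)) = (LP (LK LD1_c5 LD2_c5 LD3_c11)) :=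
  Lre_e IH (LK LD1_c10 LD2_c1 LD3_c29) (LK LD1_c5 LD2_c5 LD3_c11) Lrfl Lrfl
theorem f158163 : Led Lsl_et (LP (LK LD1_c2 LD2_c10 LD3_c27)) = (LP (LK LD1_c1 LD2_c2 LD3_c15)) :=
  Lre_e IH (LK LD1_c2 LD2_c10 LD3_c27) (LK LD1_c1 LD2_c2 LD3_c15) Lrfl Lrfl
theorem f43031 : Led Lsl_gt (LP (LK LD1_c4 LD2_c26 LD3_c27)) = (LP (LK LD1_c8 LD2_c50 LD3_c22)) :=
  Lre_g IH (LK LD1_c4 LD2_c26 LD3_c27) (LK LD1_c8 LD2_c50 LD3_c22) Lrfl Lrfl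
theorem f572922 : Led Lsl_dt (LP (LK LD1_c10 LD2_c1 LD3_c29)) = (LP (LK LD1_c8 LD2_c50 LD3_c22)) :=
  Lgr Lrot37 (Lpr_et (f164868 IH) (Lpr_gt (f572915 IH) (Lpr_dt (K8.f59205 IH) (Lpe (f570711 IH) (Lpe (f148975 IH) (Lpr_et (f148974 IH) (Lpe (K8.f148958 IH) (Lpe (f158163 IH) (Lpr_dt (K40.f158164 IH) (Lpr_gt (f43031 IH) (Lpn (LP (LK LD1_c8 LD2_c50 LD3_c22)))))))))))))
theorem f545889 : Led Lsl_gt (LP (LK LD1_c8 LD2_c50 LD3_c22)) = (LP (LK LD1_c5 LD2_c57 LD3_c0)) :=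
  Lgr Lrot46 (Lpe (f43031 IH) (Lpr_ft (K37.f545875 IH) (Lpr_at (K37.f545876 IH) (Lpn (LP (LK LD1_c5 LD2_c57 LD3_c0))))))
theorem f545878 : Led Lsl_ct (LP (LK LD1_c5 LD2_c57 LD3_c0)) = (LP (LK LD1_c11 LD2_c39 LD3_c19)) :=
  Lre_c IH (LK LD1_c5 LD2_c57 LD3_c0) (LK LD1_c11 LD2_c39 LD3_c19) Lrfl Lrfl
theorem f546295 : Led Lsl_at (LP (LK LD1_c16 LD2_c29 LD3_c16)) = (LP (LK LD1_c8 LD2_c50 LD3_c24)) :=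
  Lre_a IH (LK LD1_c16 LD2_c29 LD3_c16) (LK LD1_c8 LD2_c50 LD3_c24) Lrfl Lrfl
theorem f545868 : Led Lsl_ft (LP (LK LD1_c26 LD2_c26 LD3_c20)) = (LP (LK LD1_c17 LD2_c7 LD3_c15)) :=
  Lre_f IH (LK LD1_c26 LD2_c26 LD3_c20) (LK LD1_c17 LD2_c7 LD3_c15) Lrfl Lrfl
theorem f545869 : Led Lsl_ff (LP (LK LD1_c16 LD2_c29 LD3_c16)) = (LP (LK LD1_c11 LD2_c39 LD3_c19)) :=
  Lgr Lrot19 (Lpr_dt (K40.f176367 IH) (Lpr_ft (f545868 IH) (Lpr_dt (K37.f545853 IH) (Lpn (LP (LK LD1_c11 LD2_c39 LD3_c19))))))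
theorem f559846 : Led Lsl_gt (LP (LK LD1_c11 LD2_c39 LD3_c19)) = (LP (LK LD1_c16 LD2_c19 LD3_c40)) :=
  Lgr Lrot5 (Lpe (f545869 IH) (Lpr_at (f546295 IH) (Lpr_gf (K40.f559842 IH) (Lpn (LP (LK LD1_c16 LD2_c19 LD3_c40))))))
theorem f173302 : Led Lsl_dt (LP (LK LD1_c8 LD2_c43 LD3_c0)) = (LP (LK LD1_c4 LD2_c22 LD3_c33)) :=
  Lre_d IH (LK LD1_c8 LD2_c43 LD3_c0) (LK LD1_c4 LD2_c22 LD3_c33) Lrfl Lrfl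
theorem f572937 : Led Lsl_gt (LP (LK LD1_c10 LD2_c1 LD3_c29)) = (LP (LK LD1_c15 LD2_c3 LD3_c47)) :=
  Lgr Lrot146 (Lpr_dt (f572922 IH) (Lpr_gt (f545889 IH) (Lpr_ct (f545878 IH) (Lpr_gt (f559846 IH) (Lpr_ct (K40.f173303 IH) (Lpr_dt (f173302 IH) (Lpe (K30.f173300 IH) (Lpe (K40.f173312 IH) (Lpe (K40.f173313 IH) (Lpn (LP (LK LD1_c15 LD2_c3 LD3_c47))))))))))))
theorem f572928 : Led Lsl_et (LP (LK LD1_c5 LD2_c5 LD3_c11)) = (LP (LK LD1_c10 LD2_c1 LD3_c29)) :=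
  Lre_e IH (LK LD1_c5 LD2_c5 LD3_c11) (LK LD1_c10 LD2_c1 LD3_c29) Lrfl Lrfl
theorem f164869 : Led Lsl_dt (LP (LK LD1_c5 LD2_c5 LD3_c11)) = (LP (LK LD1_c10 LD2_c1 LD3_c28)) :=
  Lre_d IH (LK LD1_c5 LD2_c5 LD3_c11) (LK LD1_c10 LD2_c1 LD3_c28) Lrfl Lrfl
theorem f564259 : Led Lsl_et (LP (LK LD1_c16 LD2_c19 LD3_c54)) = (LP (LK LD1_c15 LD2_c3 LD3_c47)) :=
  Lgr Lrot74 (Lpr_bf (f449907 IH) (Lpr_ef (K41.f564257 IH) (Lpe (K40.f562633 IH) (Lpn (LP (LK LD1_c15 LD2_c3 LD3_c47))))))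
theorem f449721 : Led Lsl_ff (LP (LK LD1_c8 LD2_c48 LD3_c40)) = (LP (LK LD1_c11 LD2_c8 LD3_c24)) :=
  Lgr Lrot25 (Lpr_bt (f38357 IH) (Lpr_ft (K36.f449719 IH) (Lpr_bt (f210727 IH) (Lpn (LP (LK LD1_c11 LD2_c8 LD3_c24))))))
theorem f571983 : Led Lsl_at (LP (LK LD1_c8 LD2_c49 LD3_c31)) = (LP (LK LD1_c11 LD2_c8 LD3_c24)) :=
  Lgr Lrot66 (Lpr_ff (f571981 IH) (Lpe (f418570 IH) (Lpr_ff (f449721 IH) (Lpn (LP (LK LD1_c11 LD2_c8 LD3_c24))))))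
theorem f571988 : Led Lsl_gf (LP (LK LD1_c8 LD2_c49 LD3_c33)) = (LP (LK LD1_c16 LD2_c28 LD3_c60)) :=
  Lgr Lrot47 (Lpe (f570727 IH) (Lpe (f571983 IH) (Lpr_ff (f571981 IH) (Lpn (LP (LK LD1_c16 LD2_c28 LD3_c60))))))
theorem f99751 : Led Lsl_et (LP (LK LD1_c1 LD2_c2 LD3_c12)) = (LP (LK LD1_c2 LD2_c10 LD3_c20)) :=
  Lre_e IH (LK LD1_c1 LD2_c2 LD3_c12) (LK LD1_c2 LD2_c10 LD3_c20) Lrfl Lrfl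
theorem f428054 : Led Lsl_ef (LP (LK LD1_c5 LD2_c13 LD3_c38)) = (LP (LK LD1_c4 LD2_c26 LD3_c5)) :=
  Lgr Lrot21 (Lpr_ft (K38.f427818 IH) (Lpr_et (f148974 IH) (Lpr_ft (K7.f138903 IH) (Lpr_et (f99751 IH) (Lpr_ft (f428053 IH) (Lpn (LP (LK LD1_c4 LD2_c26 LD3_c5))))))))
theorem f572946 : Led Lsl_gf (LP (LK LD1_c10 LD2_c1 LD3_c28)) = (LP (LK LD1_c5 LD2_c13 LD3_c40)) :=
  Lgr Lrot134 (Lpe (f164869 IH) (Lpr_et (f572928 IH) (Lpr_gt (f572937 IH) (Lpe (f564259 IH) (Lpe (f418580 IH) (Lpe (f571988 IH) (Lpe (f428066 IH) (Lpe (f428054 IH) (Lpr_gt (K36.f185093 IH) (Lpr_dt (K36.f308199 IH) (Lpn (LP (LK LD1_c5 LD2_c13 LD3_c40)))))))))))))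
theorem f193361 : Led Lsl_bt (LP (LK LD1_c10 LD2_c17 LD3_c28)) = (LP (LK LD1_c5 LD2_c13 LD3_c38)) :=
  Lre_b IH (LK LD1_c10 LD2_c17 LD3_c28) (LK LD1_c5 LD2_c13 LD3_c38) Lrfl Lrfl
theorem f570740 : Led Lsl_et (LP (LK LD1_c8 LD2_c44 LD3_c50)) = (LP (LK LD1_c10 LD2_c17 LD3_c28)) :=
  Lgr Lrot74 (Lpr_bf (f570734 IH) (Lpe (K39.f427816 IH) (Lpe (f193361 IH) (Lpn (LP (LK LD1_c10 LD2_c17 LD3_c28))))))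
theorem f572957 : Led Lsl_dt (LP (LK LD1_c15 LD2_c3 LD3_c47)) = (LP (LK LD1_c17 LD2_c1 LD3_c13)) :=
  Lgr Lrot171 (Lpe (f572937 IH) (Lpe (f572928 IH) (Lpr_dt (f164869 IH) (Lpr_gf (f572946 IH) (Lpe (K36.f308199 IH) (Lpr_et (K41.f405149 IH) (Lpr_gf (K38.f542367 IH) (Lpe (f570740 IH) (Lpr_dt (K40.f175584 IH) (Lpr_gf (K41.f563464 IH) (Lpn (LP (LK LD1_c17 LD2_c1 LD3_c13)))))))))))))
theorem f572626 : Led Lsl_ef (LP (LK LD1_c16 LD2_c19 LD3_c54)) = (LP (LK LD1_c15 LD2_c3 LD3_c47)) :=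
  Lgr Lrot28 (Lpr_ct (f421074 IH) (Lpr_et (f572622 IH) (Lpr_ct (K40.f541575 IH) (Lpn (LP (LK LD1_c15 LD2_c3 LD3_c47))))))
theorem f542127 : Led Lsl_et (LP (LK LD1_c4 LD2_c25 LD3_c3)) = (LP (LK LD1_c2 LD2_c14 LD3_c49)) :=
  Lgr Lrot87 (Lpr_ef (K36.f542120 IH) (Lpn (LP (LK LD1_c2 LD2_c14 LD3_c49))))
theorem f210981 : Led Lsl_gt (LP (LK LD1_c16 LD2_c27 LD3_c36)) = (LP (LK LD1_c8 LD2_c47 LD3_c44)) :=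
  Lre_g IH (LK LD1_c16 LD2_c27 LD3_c36) (LK LD1_c8 LD2_c47 LD3_c44) Lrfl Lrfl
theorem f164887 : Led Lsl_et (LP (LK LD1_c11 LD2_c6 LD3_c11)) = (LP (LK LD1_c5 LD2_c37 LD3_c6)) :=
  Lre_e IH (LK LD1_c11 LD2_c6 LD3_c11) (LK LD1_c5 LD2_c37 LD3_c6) Lrfl Lrfl

end

end K42

end

end Cfsg.Agent.Helper28.S1692
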