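import Cfsg.Agent.Lib.Helper28.S1692.Seeds42

set_option autoImplicit false
set_option maxRecDepth 100000
set_option linter.all false

namespace Cfsg.Agent.Helper28.S1692

open Cfsg.Agent.Helper28
open Cfsg.Spor.ON (Gen)

noncomputable section

namespace K43
abbrev LD1_c0 := D1.c0
abbrev LD1_c1 := D1.c1
abbrev LD1_c2 := D1.c2
abbrev LD1_c3 := D1.c3
abbrev LD1_c4 := D1.c4
abbrev LD1_c5 := D1.c5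
abbrev LD1_c6 := D1.c6
abbrev LD1_c7 := D1.c7
abbrev LD1_c8 := D1.c8
abbrev LD1_c9 := D1.c9
abbrev LD1_c10 := D1.c10
abbrev LD1_c11 := D1.c11
abbrev LD1_c12 := D1.c12
abbrev LD1_c13 := D1.c13
abbrev LD1_c14 := D1.c14
abbrev LD1_c15 := D1.c15
abbrev LD1_c16 := D1.c16
abbrev LD1_c17 := D1.c17
abbrev LD1_c18 := D1.c18
abbrev LD1_c19 := D1.c19
abbrev LD1_c20 := D1.c20
abbrev LD1_c21 := D1.c21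
abbrev LD1_c22 := D1.c22
abbrev LD1_c23 := D1.c23
abbrev LD1_c24 := D1.c24
abbrev LD1_c25 := D1.c25
abbrev LD1_c26 := D1.c26
abbrev LD1_c27 := D1.c27
abbrev LD1_c28 := D1.c28
abbrev LD1_c29 := D1.c29
abbrev LD1_c30 := D1.c30
abbrev LD1_c31 := D1.c31
abbrev LD1_c32 := D1.c32
abbrev LD2_c0 := D2.c0
abbrev LD2_c1 := D2.c1
abbrev LD2_c2 := D2.c2
abbrev LD2_c3 := D2.c3
abbrev LD2_c4 := D2.c4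
abbrev LD2_c5 := D2.c5
abbrev LD2_c6 := D2.c6
abbrev LD2_c7 := D2.c7
abbrev LD2_c8 := D2.c8
abbrev LD2_c9 := D2.c9
abbrev LD2_c10 := D2.c10
abbrev LD2_c11 := D2.c11
abbrev LD2_c12 := D2.c12
abbrev LD2_c13 := D2.c13
abbrev LD2_c14 := D2.c14
abbrev LD2_c15 := D2.c15
abbrev LD2_c16 := D2.c16
abbrev LD2_c17 := D2.c17
abbrev LD2_c18 := D2.c18
abbrev LD2_c19 := D2.c19
abbrev LD2_c20 := D2.c20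
abbrev LD2_c21 := D2.c21
abbrev LD2_c22 := D2.c22
abbrev LD2_c23 := D2.c23
abbrev LD2_c24 := D2.c24
abbrev LD2_c25 := D2.c25
abbrev LD2_c26 := D2.c26
abbrev LD2_c27 := D2.c27
abbrev LD2_c28 := D2.c28
abbrev LD2_c29 := D2.c29
abbrev LD2_c30 := D2.c30
abbrev LD2_c31 := D2.c31
abbrev LD2_c32 := D2.c32
abbrev LD2_c33 := D2.c33
abbrev LD2_c34 := D2.c34
abbrev LD2_c35 := D2.c35
abbrev LD2_c36 := D2.c36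
abbrev LD2_c37 := D2.c37
abbrev LD2_c38 := D2.c38
abbrev LD2_c39 := D2.c39
abbrev LD2_c40 := D2.c40
abbrev LD2_c41 := D2.c41
abbrev LD2_c42 := D2.c42
abbrev LD2_c43 := D2.c43
abbrev LD2_c44 := D2.c44
abbrev LD2_c45 := D2.c45
abbrev LD2_c46 := D2.c46
abbrev LD2_c47 := D2.c47
abbrev LD2_c48 := D2.c48
abbrev LD2_c49 := D2.c49
abbrev LD2_c50 := D2.c50
abbrev LD2_c51 := D2.c51
abbrev LD2_c52 := D2.c52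
abbrev LD2_c53 := D2.c53
abbrev LD2_c54 := D2.c54
abbrev LD2_c55 := D2.c55
abbrev LD2_c56 := D2.c56
abbrev LD2_c57 := D2.c57
abbrev LD2_c58 := D2.c58
abbrev LD2_c59 := D2.c59
abbrev LD3_c0 := D3.c0
abbrev LD3_c1 := D3.c1
abbrev LD3_c2 := D3.c2
abbrev LD3_c3 := D3.c3
abbrev LD3_c4 := D3.c4
abbrev LD3_c5 := D3.c5
abbrev LD3_c6 := D3.c6
abbrev LD3_c7 := D3.c7
abbrev LD3_c8 := D3.c8
abbrev LD3_c9 := D3.c9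
abbrev LD3_c10 := D3.c10
abbrev LD3_c11 := D3.c11
abbrev LD3_c12 := D3.c12
abbrev LD3_c13 := D3.c13
abbrev LD3_c14 := D3.c14
abbrev LD3_c15 := D3.c15
abbrev LD3_c16 := D3.c16
abbrev LD3_c17 := D3.c17
abbrev LD3_c18 := D3.c18
abbrev LD3_c19 := D3.c19
abbrev LD3_c20 := D3.c20
abbrev LD3_c21 := D3.c21
abbrev LD3_c22 := D3.c22
abbrev LD3_c23 := D3.c23
abbrev LD3_c24 := D3.c24
abbrev LD3_c25 := D3.c25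
abbrev LD3_c26 := D3.c26
abbrev LD3_c27 := D3.c27
abbrev LD3_c28 := D3.c28
abbrev LD3_c29 := D3.c29
abbrev LD3_c30 := D3.c30
abbrev LD3_c31 := D3.c31
abbrev LD3_c32 := D3.c32
abbrev LD3_c33 := D3.c33
abbrev LD3_c34 := D3.c34
abbrev LD3_c35 := D3.c35
abbrev LD3_c36 := D3.c36
abbrev LD3_c37 := D3.c37
abbrev LD3_c38 := D3.c38
abbrev LD3_c39 := D3.c39
abbrev LD3_c40 := D3.c40
abbrev LD3_c41 := D3.c41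
abbrev LD3_c42 := D3.c42
abbrev LD3_c43 := D3.c43
abbrev LD3_c44 := D3.c44
abbrev LD3_c45 := D3.c45
abbrev LD3_c46 := D3.c46
abbrev LD3_c47 := D3.c47
abbrev LD3_c48 := D3.c48
abbrev LD3_c49 := D3.c49
abbrev LD3_c50 := D3.c50
abbrev LD3_c51 := D3.c51
abbrev LD3_c52 := D3.c52
abbrev LD3_c53 := D3.c53
abbrev LD3_c54 := D3.c54
abbrev LD3_c55 := D3.c55
abbrev LD3_c56 := D3.c56
abbrev LD3_c57 := D3.c57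
abbrev LD3_c58 := D3.c58
abbrev LD3_c59 := D3.c59
abbrev LD3_c60 := D3.c60
abbrev LD3_c61 := D3.c61
abbrev LG_g := Gen.g
abbrev Lsl_gt : Gen × Bool := sl_gt
alias Lfl_gt := fl_gt
alias Lpr_gt := pr_gt
abbrev Lsl_gf : Gen × Bool := sl_gf
alias Lfl_gf := fl_gf
alias Lpr_gf := pr_gf
alias Lre_g := re_g
alias Leoe_g := eoe_g
abbrev LG_a := Gen.a
abbrev Lsl_at : Gen × Bool := sl_at
alias Lfl_at := fl_at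
alias Lpr_at := pr_at
abbrev Lsl_af : Gen × Bool := sl_af
alias Lfl_af := fl_af
alias Lpr_af := pr_af
alias Lre_a := re_a
alias Leoe_a := eoe_a
abbrev LG_b := Gen.b
abbrev Lsl_bt : Gen × Bool := sl_bt
alias Lfl_bt := fl_bt
alias Lpr_bt := pr_bt
abbrev Lsl_bf : Gen × Bool := sl_bf
alias Lfl_bf := fl_bf
alias Lpr_bf := pr_bf
alias Lre_b := re_b
alias Leoe_b := eoe_b
abbrev LG_c := Gen.c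
abbrev Lsl_ct : Gen × Bool := sl_ct
alias Lfl_ct := fl_ct
alias Lpr_ct := pr_ct
abbrev Lsl_cf : Gen × Bool := sl_cf
alias Lfl_cf := fl_cf
alias Lpr_cf := pr_cf
alias Lre_c := re_c
alias Leoe_c := eoe_c
abbrev LG_d := Gen.d
abbrev Lsl_dt : Gen × Bool := sl_dt
alias Lfl_dt := fl_dt
alias Lpr_dt := pr_dt
abbrev Lsl_df : Gen × Bool := sl_df
alias Lfl_df := fl_df
alias Lpr_df := pr_df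
alias Lre_d := re_d
alias Leoe_d := eoe_d
abbrev LG_e := Gen.e
abbrev Lsl_et : Gen × Bool := sl_et
alias Lfl_et := fl_et
alias Lpr_et := pr_et
abbrev Lsl_ef : Gen × Bool := sl_ef
alias Lfl_ef := fl_ef
alias Lpr_ef := pr_ef
alias Lre_e := re_e
alias Leoe_e := eoe_e
abbrev LG_f := Gen.f
abbrev Lsl_ft : Gen × Bool := sl_ft
alias Lfl_ft := fl_ft
alias Lpr_ft := pr_ft
abbrev Lsl_ff : Gen × Bool := sl_ff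
alias Lfl_ff := fl_ff
alias Lpr_ff := pr_ff
alias Lre_f := re_f
alias Leoe_f := eoe_f
abbrev LK := Pt.mk
abbrev LQ : Type := Qt rels S
abbrev LP (p : Pt) : LQ := P p
abbrev Led (l : Gen × Bool) (c : LQ) : LQ := ed l c
abbrev LEOK (x : Gen) (p : Pt) : Prop := EntryOK rels S fwd inv o plet idx x p
alias Lpe := pe
alias Lpn := pn
alias Lgr := gr
alias Lpq := pq
alias Lpqs := pqs
alias Llr := lr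
alias Leop := eop
alias Lefun := efun
alias Lecon := econ
theorem Lrfl {α : Sort _} {a : α} : a = a := rfl
alias Lrot0 := rot0
alias Lrot1 := rot1
alias Lrot2 := rot2
alias Lrot3 := rot3
alias Lrot4 := rot4
alias Lrot5 := rot5
alias Lrot6 := rot6
alias Lrot7 := rot7
alias Lrot8 := rot8
alias Lrot9 := rot9
alias Lrot10 := rot10
alias Lrot11 := rot11
alias Lrot12 := rot12
alias Lrot13 := rot13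
alias Lrot14 := rot14
alias Lrot15 := rot15
alias Lrot16 := rot16
alias Lrot17 := rot17
alias Lrot18 := rot18
alias Lrot19 := rot19
alias Lrot20 := rot20
alias Lrot21 := rot21
alias Lrot22 := rot22
alias Lrot23 := rot23
alias Lrot24 := rot24
alias Lrot25 := rot25
alias Lrot26 := rot26
alias Lrot27 := rot27
alias Lrot28 := rot28
alias Lrot29 := rot29
alias Lrot30 := rot30
alias Lrot31 := rot31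
alias Lrot32 := rot32
alias Lrot33 := rot33
alias Lrot34 := rot34
alias Lrot35 := rot35
alias Lrot36 := rot36
alias Lrot37 := rot37
alias Lrot38 := rot38
alias Lrot39 := rot39
alias Lrot40 := rot40
alias Lrot41 := rot41
alias Lrot42 := rot42
alias Lrot43 := rot43
alias Lrot44 := rot44
alias Lrot45 := rot45
alias Lrot46 := rot46
alias Lrot47 := rot47
alias Lrot48 := rot48
alias Lrot49 := rot49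
alias Lrot50 := rot50
alias Lrot51 := rot51
alias Lrot52 := rot52
alias Lrot53 := rot53
alias Lrot54 := rot54
alias Lrot55 := rot55
alias Lrot56 := rot56
alias Lrot57 := rot57
alias Lrot58 := rot58
alias Lrot59 := rot59
alias Lrot60 := rot60
alias Lrot61 := rot61
alias Lrot62 := rot62
alias Lrot63 := rot63
alias Lrot64 := rot64
alias Lrot65 := rot65
alias Lrot66 := rot66
alias Lrot67 := rot67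
alias Lrot68 := rot68
alias Lrot69 := rot69
alias Lrot70 := rot70
alias Lrot71 := rot71
alias Lrot72 := rot72
alias Lrot73 := rot73
alias Lrot74 := rot74
alias Lrot75 := rot75
alias Lrot76 := rot76
alias Lrot77 := rot77
alias Lrot78 := rot78
alias Lrot79 := rot79
alias Lrot80 := rot80
alias Lrot81 := rot81
alias Lrot82 := rot82
alias Lrot83 := rot83
alias Lrot84 := rot84
alias Lrot85 := rot85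
alias Lrot86 := rot86
alias Lrot87 := rot87
alias Lrot88 := rot88
alias Lrot90 := rot90
alias Lrot91 := rot91
alias Lrot92 := rot92
alias Lrot93 := rot93
alias Lrot94 := rot94
alias Lrot95 := rot95
alias Lrot96 := rot96
alias Lrot97 := rot97
alias Lrot99 := rot99
alias Lrot100 := rot100
alias Lrot101 := rot101
alias Lrot102 := rot102
alias Lrot103 := rot103
alias Lrot104 := rot104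
alias Lrot105 := rot105
alias Lrot106 := rot106
alias Lrot107 := rot107
alias Lrot108 := rot108
alias Lrot109 := rot109
alias Lrot110 := rot110
alias Lrot111 := rot111
alias Lrot112 := rot112
alias Lrot113 := rot113
alias Lrot114 := rot114
alias Lrot115 := rot115
alias Lrot116 := rot116
alias Lrot117 := rot117
alias Lrot118 := rot118
alias Lrot119 := rot119
alias Lrot120 := rot120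
alias Lrot121 := rot121
alias Lrot122 := rot122
alias Lrot123 := rot123
alias Lrot124 := rot124
alias Lrot125 := rot125
alias Lrot126 := rot126
alias Lrot127 := rot127
alias Lrot128 := rot128
alias Lrot129 := rot129
alias Lrot130 := rot130
alias Lrot131 := rot131
alias Lrot132 := rot132
alias Lrot134 := rot134
alias Lrot135 := rot135
alias Lrot136 := rot136
alias Lrot137 := rot137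
alias Lrot138 := rot138
alias Lrot139 := rot139
alias Lrot140 := rot140
alias Lrot141 := rot141
alias Lrot142 := rot142
alias Lrot143 := rot143
alias Lrot144 := rot144
alias Lrot145 := rot145
alias Lrot146 := rot146
alias Lrot147 := rot147
alias Lrot148 := rot148
alias Lrot149 := rot149
alias Lrot150 := rot150
alias Lrot152 := rot152
alias Lrot153 := rot153
alias Lrot154 := rot154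
alias Lrot155 := rot155
alias Lrot156 := rot156
alias Lrot157 := rot157
alias Lrot158 := rot158
alias Lrot159 := rot159
alias Lrot160 := rot160
alias Lrot161 := rot161
alias Lrot162 := rot162
alias Lrot163 := rot163
alias Lrot164 := rot164
alias Lrot165 := rot165
alias Lrot166 := rot166
alias Lrot167 := rot167
alias Lrot168 := rot168
alias Lrot169 := rot169
alias Lrot170 := rot170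
alias Lrot171 := rot171
alias Lrot172 := rot172
alias Lrot174 := rot174
alias Lrot175 := rot175
alias Lrot176 := rot176
alias Lrot177 := rot177
alias Lrot178 := rot178
alias Lrot179 := rot179
alias Lrot180 := rot180
alias Lrot181 := rot181
alias Lrot184 := rot184
alias Lrot185 := rot185
alias Lrot187 := rot187
alias Lrot188 := rot188
alias Lrot190 := rot190

section
variable (IH : IHT)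
include IH

theorem f553522 : Led Lsl_dt (LP (LK LD1_c11 LD2_c6 LD3_c11)) = (LP (LK LD1_c16 LD2_c27 LD3_c36)) :=
  Lgr Lrot136 (Lpr_et (K42.f164887 IH) (Lpr_gf (K39.f553516 IH) (Lpe (K39.f117767 IH) (Lpr_dt (K8.f117721 IH) (Lpe (K11.f163019 IH) (Lpr_df (K8.f163017 IH) (Lpe (K5.f37759 IH) (Lpe (K42.f542127 IH) (Lpr_dt (K36.f210983 IH) (Lpe (K42.f210981 IH) (Lpn (LP (LK LD1_c16 LD2_c27 LD3_c36)))))))))))))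
theorem f572969 : Led Lsl_gt (LP (LK LD1_c16 LD2_c19 LD3_c54)) = (LP (LK LD1_c11 LD2_c6 LD3_c11)) :=
  Lgr Lrot137 (Lpr_ef (K42.f572626 IH) (Lpr_dt (K42.f572957 IH) (Lpe (K41.f549855 IH) (Lpe (K41.f37067 IH) (Lpr_et (K39.f37066 IH) (Lpe (K5.f37759 IH) (Lpe (K42.f542127 IH) (Lpr_dt (K36.f210983 IH) (Lpe (K42.f210981 IH) (Lpe (f553522 IH) (Lpn (LP (LK LD1_c11 LD2_c6 LD3_c11)))))))))))))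
theorem f450294 : Led Lsl_ft (LP (LK LD1_c3 LD2_c5 LD3_c41)) = (LP (LK LD1_c2 LD2_c45 LD3_c10)) :=
  Lgr Lrot75 (Lpe (K38.f186471 IH) (Lpr_ff (K38.f450292 IH) (Lpe (K41.f211720 IH) (Lpn (LP (LK LD1_c2 LD2_c45 LD3_c10))))))
theorem f450420 : Led Lsl_gt (LP (LK LD1_c6 LD2_c17 LD3_c5)) = (LP (LK LD1_c5 LD2_c38 LD3_c36)) :=
  Lgr Lrot46 (Lpe (K42.f186472 IH) (Lpr_ft (f450294 IH) (Lpr_at (K39.f418995 IH) (Lpn (LP (LK LD1_c5 LD2_c38 LD3_c36))))))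
theorem f450422 : Led Lsl_ct (LP (LK LD1_c12 LD2_c10 LD3_c57)) = (LP (LK LD1_c6 LD2_c17 LD3_c5)) :=
  Lre_c IH (LK LD1_c12 LD2_c10 LD3_c57) (LK LD1_c6 LD2_c17 LD3_c5) Lrfl Lrfl
theorem f538279 : Led Lsl_ct (LP (LK LD1_c6 LD2_c16 LD3_c17)) = (LP (LK LD1_c12 LD2_c9 LD3_c54)) :=
  Lre_c IH (LK LD1_c6 LD2_c16 LD3_c17) (LK LD1_c12 LD2_c9 LD3_c54) Lrfl Lrfl
theorem f559580 : Led Lsl_gf (LP (LK LD1_c12 LD2_c10 LD3_c57)) = (LP (LK LD1_c12 LD2_c9 LD3_c54)) :=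
  Lgr Lrot129 (Lpe (K42.f186473 IH) (Lpe (K42.f556366 IH) (Lpr_gt (K39.f556071 IH) (Lpe (K39.f26704 IH) (Lpr_ct (K10.f186021 IH) (Lpr_gt (K10.f179947 IH) (Lpe (K9.f175901 IH) (Lpr_bt (K39.f23999 IH) (Lpr_gt (K41.f559576 IH) (Lpr_ct (f538279 IH) (Lpn (LP (LK LD1_c12 LD2_c9 LD3_c54)))))))))))))
theorem f563604 : Led Lsl_et (LP (LK LD1_c5 LD2_c48 LD3_c39)) = (LP (LK LD1_c11 LD2_c8 LD3_c1)) :=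
  Lgr Lrot87 (Lpr_ef (K41.f563600 IH) (Lpn (LP (LK LD1_c11 LD2_c8 LD3_c1))))
theorem f558749 : Led Lsl_et (LP (LK LD1_c12 LD2_c9 LD3_c54)) = (LP (LK LD1_c6 LD2_c16 LD3_c15)) :=
  Lre_e IH (LK LD1_c12 LD2_c9 LD3_c54) (LK LD1_c6 LD2_c16 LD3_c15) Lrfl Lrfl
theorem f563626 : Led Lsl_bt (LP (LK LD1_c11 LD2_c8 LD3_c1)) = (LP (LK LD1_c12 LD2_c9 LD3_c54)) :=
  Lgr Lrot119 (Lpe (f563604 IH) (Lpr_bf (K42.f563622 IH) (Lpe (f558749 IH) (Lpn (LP (LK LD1_c12 LD2_c9 LD3_c54))))))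
theorem f421020 : Led Lsl_ct (LP (LK LD1_c11 LD2_c8 LD3_c1)) = (LP (LK LD1_c5 LD2_c38 LD3_c21)) :=
  Lre_c IH (LK LD1_c11 LD2_c8 LD3_c1) (LK LD1_c5 LD2_c38 LD3_c21) Lrfl Lrfl
theorem f211969 : Led Lsl_bt (LP (LK LD1_c5 LD2_c37 LD3_c6)) = (LP (LK LD1_c11 LD2_c6 LD3_c10)) :=
  Lre_b IH (LK LD1_c5 LD2_c37 LD3_c6) (LK LD1_c11 LD2_c6 LD3_c10) Lrfl Lrfl
theorem f565139 : Led Lsl_bt (LP (LK LD1_c12 LD2_c8 LD3_c21)) = (LP (LK LD1_c11 LD2_c6 LD3_c11)) :=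
  Lgr Lrot119 (Lpr_ef (K41.f565137 IH) (Lpe (f211969 IH) (Lpe (K42.f164887 IH) (Lpn (LP (LK LD1_c11 LD2_c6 LD3_c11))))))
theorem f552491 : Led Lsl_et (LP (LK LD1_c11 LD2_c7 LD3_c2)) = (LP (LK LD1_c5 LD2_c37 LD3_c50)) :=
  Lre_e IH (LK LD1_c11 LD2_c7 LD3_c2) (LK LD1_c5 LD2_c37 LD3_c50) Lrfl Lrfl
theorem f565141 : Led Lsl_ct (LP (LK LD1_c12 LD2_c8 LD3_c21)) = (LP (LK LD1_c11 LD2_c7 LD3_c2)) :=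
  Lgr Lrot15 (Lpr_ef (K41.f565137 IH) (Lpr_cf (K41.f552483 IH) (Lpe (f552491 IH) (Lpn (LP (LK LD1_c11 LD2_c7 LD3_c2))))))
theorem f572975 : Led Lsl_gf (LP (LK LD1_c5 LD2_c38 LD3_c21)) = (LP (LK LD1_c11 LD2_c7 LD3_c2)) :=
  Lgr Lrot126 (Lpe (f421020 IH) (Lpr_bt (f563626 IH) (Lpe (f559580 IH) (Lpr_ct (f450422 IH) (Lpr_gt (f450420 IH) (Lpe (K41.f418992 IH) (Lpe (K42.f449907 IH) (Lpr_gt (f572969 IH) (Lpe (f565139 IH) (Lpr_ct (f565141 IH) (Lpn (LP (LK LD1_c11 LD2_c7 LD3_c2)))))))))))))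
theorem f563602 : Led Lsl_et (LP (LK LD1_c2 LD2_c50 LD3_c22)) = (LP (LK LD1_c5 LD2_c38 LD3_c21)) :=
  Lgr Lrot158 (Lpe (K41.f210470 IH) (Lpr_ef (K41.f563600 IH) (Lpe (K41.f198562 IH) (Lpn (LP (LK LD1_c5 LD2_c38 LD3_c21))))))
theorem f537845 : Led Lsl_dt (LP (LK LD1_c2 LD2_c50 LD3_c22)) = (LP (LK LD1_c5 LD2_c48 LD3_c40)) :=
  Lre_d IH (LK LD1_c2 LD2_c50 LD3_c22) (LK LD1_c5 LD2_c48 LD3_c40) Lrfl Lrfl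
theorem f557387 : Led Lsl_gt (LP (LK LD1_c5 LD2_c48 LD3_c40)) = (LP (LK LD1_c11 LD2_c26 LD3_c49)) :=
  Lre_g IH (LK LD1_c5 LD2_c48 LD3_c40) (LK LD1_c11 LD2_c26 LD3_c49) Lrfl Lrfl
theorem f211906 : Led Lsl_et (LP (LK LD1_c5 LD2_c37 LD3_c50)) = (LP (LK LD1_c11 LD2_c7 LD3_c2)) :=
  Lre_e IH (LK LD1_c5 LD2_c37 LD3_c50) (LK LD1_c11 LD2_c7 LD3_c2) Lrfl Lrfl
theorem f382092 : Led Lsl_et (LP (LK LD1_c7 LD2_c59 LD3_c23)) = (LP (LK LD1_c3 LD2_c59 LD3_c1)) :=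
  Lre_e IH (LK LD1_c7 LD2_c59 LD3_c23) (LK LD1_c3 LD2_c59 LD3_c1) Lrfl Lrfl
theorem f572986 : Led Lsl_df (LP (LK LD1_c11 LD2_c26 LD3_c49)) = (LP (LK LD1_c7 LD2_c59 LD3_c23)) :=
  Lgr Lrot168 (Lpe (f557387 IH) (Lpe (f537845 IH) (Lpr_et (f563602 IH) (Lpr_gf (f572975 IH) (Lpe (f211906 IH) (Lpr_dt (K39.f211894 IH) (Lpr_gf (K39.f424209 IH) (Lpe (K31.f172489 IH) (Lpr_gf (K31.f411660 IH) (Lpe (f382092 IH) (Lpn (LP (LK LD1_c7 LD2_c59 LD3_c23)))))))))))))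
theorem f119847 : Led Lsl_et (LP (LK LD1_c2 LD2_c49 LD3_c49)) = (LP (LK LD1_c5 LD2_c47 LD3_c43)) :=
  Lre_e IH (LK LD1_c2 LD2_c49 LD3_c49) (LK LD1_c5 LD2_c47 LD3_c43) Lrfl Lrfl
theorem f572997 : Led Lsl_et (LP (LK LD1_c2 LD2_c54 LD3_c21)) = (LP (LK LD1_c5 LD2_c42 LD3_c39)) :=
  Lgr Lrot122 (Lpr_dt (K6.f82002 IH) (Lpe (K36.f161650 IH) (Lpe (K6.f119840 IH) (Lpr_et (f119847 IH) (Lpe (K40.f557381 IH) (Lpr_dt (f537845 IH) (Lpr_gt (f557387 IH) (Lpr_df (f572986 IH) (Lpr_et (f382092 IH) (Lpe (K31.f411660 IH) (Lpn (LP (LK LD1_c5 LD2_c42 LD3_c39)))))))))))))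
theorem f119704 : Led Lsl_et (LP (LK LD1_c5 LD2_c50 LD3_c57)) = (LP (LK LD1_c2 LD2_c51 LD3_c40)) :=
  Lre_e IH (LK LD1_c5 LD2_c50 LD3_c57) (LK LD1_c2 LD2_c51 LD3_c40) Lrfl Lrfl
theorem f557762 : Led Lsl_ff (LP (LK LD1_c5 LD2_c50 LD3_c57)) = (LP (LK LD1_c8 LD2_c49 LD3_c21)) :=
  Lgr Lrot25 (Lpe (K38.f545251 IH) (Lpr_ft (K40.f553455 IH) (Lpr_bt (K40.f557751 IH) (Lpn (LP (LK LD1_c8 LD2_c49 LD3_c21))))))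
theorem f573003 : Led Lsl_ef (LP (LK LD1_c8 LD2_c49 LD3_c21)) = (LP (LK LD1_c5 LD2_c40 LD3_c17)) :=
  Lgr Lrot21 (Lpe (f557762 IH) (Lpr_et (f119704 IH) (Lpe (K6.f119698 IH) (Lpr_et (f572997 IH) (Lpr_ft (K31.f423755 IH) (Lpn (LP (LK LD1_c5 LD2_c40 LD3_c17))))))))
theorem f573007 : Led Lsl_ct (LP (LK LD1_c8 LD2_c49 LD3_c21)) = (LP (LK LD1_c8 LD2_c43 LD3_c34)) :=
  Lgr Lrot15 (Lpr_ef (f573003 IH) (Lpe (K31.f424090 IH) (Lpe (K38.f281926 IH) (Lpn (LP (LK LD1_c8 LD2_c43 LD3_c34))))))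
theorem f158202 : Led Lsl_ct (LP (LK LD1_c15 LD2_c7 LD3_c61)) = (LP (LK LD1_c8 LD2_c2 LD3_c21)) :=
  Lre_c IH (LK LD1_c15 LD2_c7 LD3_c61) (LK LD1_c8 LD2_c2 LD3_c21) Lrfl Lrfl
theorem f112540 : Led Lsl_ct (LP (LK LD1_c12 LD2_c5 LD3_c26)) = (LP (LK LD1_c6 LD2_c13 LD3_c17)) :=
  Lre_c IH (LK LD1_c12 LD2_c5 LD3_c26) (LK LD1_c6 LD2_c13 LD3_c17) Lrfl Lrfl
theorem f571932 : Led Lsl_bf (LP (LK LD1_c5 LD2_c50 LD3_c58)) = (LP (LK LD1_c6 LD2_c13 LD3_c17)) :=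
  Lgr Lrot90 (Lpr_ct (K42.f571926 IH) (Lpe (K42.f563412 IH) (Lpr_ct (f158202 IH) (Lpe (K41.f565377 IH) (Lpr_ct (f112540 IH) (Lpn (LP (LK LD1_c6 LD2_c13 LD3_c17))))))))
theorem f573021 : Led Lsl_gf (LP (LK LD1_c8 LD2_c49 LD3_c21)) = (LP (LK LD1_c5 LD2_c50 LD3_c58)) :=
  Lgr Lrot181 (Lpr_ct (f573007 IH) (Lpr_gt (K38.f547567 IH) (Lpe (K37.f537985 IH) (Lpr_bt (K37.f538221 IH) (Lpr_gt (K35.f37859 IH) (Lpe (K40.f37855 IH) (Lpr_ct (K38.f425880 IH) (Lpr_gt (K42.f568776 IH) (Lpe (K41.f100587 IH) (Lpe (f571932 IH) (Lpn (LP (LK LD1_c5 LD2_c50 LD3_c58)))))))))))))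
theorem f573015 : Led Lsl_cf (LP (LK LD1_c8 LD2_c49 LD3_c21)) = (LP (LK LD1_c8 LD2_c43 LD3_c34)) :=
  Lgr Lrot11 (Lpr_ct (f573007 IH) (Lpn (LP (LK LD1_c8 LD2_c43 LD3_c34))))
theorem f569975 : Led Lsl_cf (LP (LK LD1_c4 LD2_c25 LD3_c26)) = (LP (LK LD1_c4 LD2_c25 LD3_c19)) :=
  Lgr Lrot108 (Lpr_ft (K42.f569973 IH) (Lpr_ct (K41.f565751 IH) (Lpe (K42.f565749 IH) (Lpn (LP (LK LD1_c4 LD2_c25 LD3_c19))))))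
theorem f573025 : Led Lsl_bt (LP (LK LD1_c8 LD2_c43 LD3_c34)) = (LP (LK LD1_c4 LD2_c24 LD3_c51)) :=
  Lgr Lrot130 (Lpe (f573015 IH) (Lpr_gf (f573021 IH) (Lpr_cf (K42.f570624 IH) (Lpe (K42.f563412 IH) (Lpe (K42.f570622 IH) (Lpe (K42.f138768 IH) (Lpe (f569975 IH) (Lpe (K42.f38489 IH) (Lpr_cf (K41.f38475 IH) (Lpe (K42.f38502 IH) (Lpn (LP (LK LD1_c4 LD2_c24 LD3_c51)))))))))))))
theorem f573031 : Led Lsl_ff (LP (LK LD1_c8 LD2_c46 LD3_c39)) = (LP (LK LD1_c4 LD2_c24 LD3_c51)) :=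
  Lgr Lrot25 (Lpr_bt (K35.f137824 IH) (Lpe (K38.f547557 IH) (Lpr_bt (f573025 IH) (Lpn (LP (LK LD1_c4 LD2_c24 LD3_c51))))))
theorem f573037 : Led Lsl_at (LP (LK LD1_c8 LD2_c46 LD3_c39)) = (LP (LK LD1_c4 LD2_c24 LD3_c50)) :=
  Lgr Lrot26 (Lpr_ff (f573031 IH) (Lpr_gt (K42.f38502 IH) (Lpr_gt (K39.f35476 IH) (Lpn (LP (LK LD1_c4 LD2_c24 LD3_c50))))))
theorem f568790 : Led Lsl_ff (LP (LK LD1_c8 LD2_c46 LD3_c59)) = (LP (LK LD1_c4 LD2_c24 LD3_c50)) :=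
  Lgr Lrot25 (Lpr_bt (K41.f210635 IH) (Lpr_ft (K42.f547504 IH) (Lpr_bt (K42.f568786 IH) (Lpn (LP (LK LD1_c4 LD2_c24 LD3_c50))))))
theorem f573041 : Led Lsl_af (LP (LK LD1_c4 LD2_c24 LD3_c51)) = (LP (LK LD1_c8 LD2_c46 LD3_c59)) :=
  Lgr Lrot45 (Lpe (f573031 IH) (Lpr_at (f573037 IH) (Lpe (f568790 IH) (Lpn (LP (LK LD1_c8 LD2_c46 LD3_c59))))))
theorem f210663 : Led Lsl_dt (LP (LK LD1_c16 LD2_c26 LD3_c0)) = (LP (LK LD1_c8 LD2_c46 LD3_c59)) :=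
  Lre_d IH (LK LD1_c16 LD2_c26 LD3_c0) (LK LD1_c8 LD2_c46 LD3_c59) Lrfl Lrfl
theorem f573047 : Led Lsl_at (LP (LK LD1_c8 LD2_c47 LD3_c11)) = (LP (LK LD1_c16 LD2_c26 LD3_c0)) :=
  Lgr Lrot51 (Lpe (K42.f445680 IH) (Lpr_af (f573041 IH) (Lpe (f210663 IH) (Lpn (LP (LK LD1_c16 LD2_c26 LD3_c0))))))
theorem f137696 : Led Lsl_dt (LP (LK LD1_c8 LD2_c46 LD3_c39)) = (LP (LK LD1_c16 LD2_c25 LD3_c19)) :=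
  Lre_d IH (LK LD1_c8 LD2_c46 LD3_c39) (LK LD1_c16 LD2_c25 LD3_c19) Lrfl Lrfl
theorem f445679 : Led Lsl_dt (LP (LK LD1_c8 LD2_c47 LD3_c11)) = (LP (LK LD1_c4 LD2_c24 LD3_c51)) :=
  Lre_d IH (LK LD1_c8 LD2_c47 LD3_c11) (LK LD1_c4 LD2_c24 LD3_c51) Lrfl Lrfl
theorem f573033 : Led Lsl_ft (LP (LK LD1_c16 LD2_c25 LD3_c19)) = (LP (LK LD1_c8 LD2_c47 LD3_c11)) :=
  Lgr Lrot54 (Lpe (f137696 IH) (Lpr_ff (f573031 IH) (Lpe (f445679 IH) (Lpn (LP (LK LD1_c8 LD2_c47 LD3_c11))))))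
theorem f137693 : Led Lsl_dt (LP (LK LD1_c16 LD2_c25 LD3_c19)) = (LP (LK LD1_c8 LD2_c46 LD3_c39)) :=
  Lre_d IH (LK LD1_c16 LD2_c25 LD3_c19) (LK LD1_c8 LD2_c46 LD3_c39) Lrfl Lrfl
theorem f35477 : Led Lsl_dt (LP (LK LD1_c4 LD2_c24 LD3_c50)) = (LP (LK LD1_c8 LD2_c47 LD3_c10)) :=
  Lre_d IH (LK LD1_c4 LD2_c24 LD3_c50) (LK LD1_c8 LD2_c47 LD3_c10) Lrfl Lrfl
theorem f573039 : Led Lsl_af (LP (LK LD1_c16 LD2_c25 LD3_c19)) = (LP (LK LD1_c8 LD2_c47 LD3_c10)) :=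
  Lgr Lrot117 (Lpr_dt (f137693 IH) (Lpr_at (f573037 IH) (Lpr_dt (f35477 IH) (Lpn (LP (LK LD1_c8 LD2_c47 LD3_c10))))))
theorem f573055 : Led Lsl_ff (LP (LK LD1_c8 LD2_c47 LD3_c10)) = (LP (LK LD1_c16 LD2_c26 LD3_c0)) :=
  Lgr Lrot30 (Lpe (f573039 IH) (Lpr_ft (f573033 IH) (Lpr_at (f573047 IH) (Lpn (LP (LK LD1_c16 LD2_c26 LD3_c0))))))
theorem f573059 : Led Lsl_ft (LP (LK LD1_c8 LD2_c47 LD3_c10)) = (LP (LK LD1_c16 LD2_c26 LD3_c0)) :=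
  Lgr Lrot48 (Lpr_ff (f573055 IH) (Lpn (LP (LK LD1_c16 LD2_c26 LD3_c0))))
theorem f573061 : Led Lsl_bf (LP (LK LD1_c8 LD2_c47 LD3_c10)) = (LP (LK LD1_c15 LD2_c4 LD3_c38)) :=
  Lgr Lrot61 (Lpr_ft (f573059 IH) (Lpr_bt (K42.f210639 IH) (Lpr_ft (K42.f547510 IH) (Lpn (LP (LK LD1_c15 LD2_c4 LD3_c38))))))
theorem f511221 : Led Lsl_et (LP (LK LD1_c23 LD2_c3 LD3_c36)) = (LP (LK LD1_c13 LD2_c38 LD3_c29)) :=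
  Lre_e IH (LK LD1_c23 LD2_c3 LD3_c36) (LK LD1_c13 LD2_c38 LD3_c29) Lrfl Lrfl
theorem f511218 : Led Lsl_et (LP (LK LD1_c13 LD2_c44 LD3_c1)) = (LP (LK LD1_c7 LD2_c15 LD3_c25)) :=
  Lre_e IH (LK LD1_c13 LD2_c44 LD3_c1) (LK LD1_c7 LD2_c15 LD3_c25) Lrfl Lrfl
theorem f511219 : Led Lsl_dt (LP (LK LD1_c13 LD2_c44 LD3_c1)) = (LP (LK LD1_c7 LD2_c15 LD3_c23)) :=
  Lre_d IH (LK LD1_c13 LD2_c44 LD3_c1) (LK LD1_c7 LD2_c15 LD3_c23) Lrfl Lrfl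
theorem f97108 : Led Lsl_gt (LP (LK LD1_c13 LD2_c44 LD3_c0)) = (LP (LK LD1_c7 LD2_c15 LD3_c23)) :=
  Lre_g IH (LK LD1_c13 LD2_c44 LD3_c0) (LK LD1_c7 LD2_c15 LD3_c23) Lrfl Lrfl
theorem f511222 : Led Lsl_df (LP (LK LD1_c13 LD2_c44 LD3_c0)) = (LP (LK LD1_c23 LD2_c3 LD3_c36)) :=
  Lgr Lrot170 (Lpr_gt (f97108 IH) (Lpe (f511219 IH) (Lpr_et (f511218 IH) (Lpr_gt (K33.f511211 IH) (Lpr_dt (K33.f441642 IH) (Lpr_gt (K33.f106227 IH) (Lpe (K28.f98525 IH) (Lpr_et (K36.f441598 IH) (Lpr_gt (K36.f511220 IH) (Lpe (f511221 IH) (Lpn (LP (LK LD1_c23 LD2_c3 LD3_c36)))))))))))))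
theorem f511226 : Led Lsl_dt (LP (LK LD1_c13 LD2_c44 LD3_c0)) = (LP (LK LD1_c23 LD2_c3 LD3_c36)) :=
  Lgr Lrot42 (Lpr_df (f511222 IH) (Lpn (LP (LK LD1_c23 LD2_c3 LD3_c36))))
theorem f568832 : Led Lsl_ef (LP (LK LD1_c13 LD2_c44 LD3_c0)) = (LP (LK LD1_c8 LD2_c47 LD3_c10)) :=
  Lgr Lrot73 (Lpr_dt (f511226 IH) (Lpr_et (f511221 IH) (Lpe (K36.f541864 IH) (Lpr_et (K42.f568830 IH) (Lpr_dt (f35477 IH) (Lpn (LP (LK LD1_c8 LD2_c47 LD3_c10))))))))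
theorem f511224 : Led Lsl_bt (LP (LK LD1_c13 LD2_c44 LD3_c0)) = (LP (LK LD1_c23 LD2_c10 LD3_c44)) :=
  Lre_b IH (LK LD1_c13 LD2_c44 LD3_c0) (LK LD1_c23 LD2_c10 LD3_c44) Lrfl Lrfl
theorem f573067 : Led Lsl_et (LP (LK LD1_c23 LD2_c10 LD3_c44)) = (LP (LK LD1_c15 LD2_c4 LD3_c38)) :=
  Lgr Lrot74 (Lpe (f511224 IH) (Lpr_ef (f568832 IH) (Lpr_bf (f573061 IH) (Lpn (LP (LK LD1_c15 LD2_c4 LD3_c38))))))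
theorem f565094 : Led Lsl_et (LP (LK LD1_c9 LD2_c8 LD3_c52)) = (LP (LK LD1_c17 LD2_c1 LD3_c41)) :=
  Lre_e IH (LK LD1_c9 LD2_c8 LD3_c52) (LK LD1_c17 LD2_c1 LD3_c41) Lrfl Lrfl
theorem f573069 : Led Lsl_af (LP (LK LD1_c23 LD2_c10 LD3_c44)) = (LP (LK LD1_c17 LD2_c1 LD3_c41)) :=
  Lgr Lrot50 (Lpr_et (f573067 IH) (Lpe (K42.f569283 IH) (Lpr_et (f565094 IH) (Lpn (LP (LK LD1_c17 LD2_c1 LD3_c41))))))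
theorem f573089 : Led Lsl_at (LP (LK LD1_c23 LD2_c10 LD3_c44)) = (LP (LK LD1_c17 LD2_c1 LD3_c41)) :=
  Lgr Lrot100 (Lpr_af (f573069 IH) (Lpn (LP (LK LD1_c17 LD2_c1 LD3_c41))))
theorem f573073 : Led Lsl_ef (LP (LK LD1_c23 LD2_c10 LD3_c44)) = (LP (LK LD1_c15 LD2_c4 LD3_c38)) :=
  Lgr Lrot88 (Lpr_et (f573067 IH) (Lpn (LP (LK LD1_c15 LD2_c4 LD3_c38))))
theorem f569420 : Led Lsl_et (LP (LK LD1_c17 LD2_c1 LD3_c41)) = (LP (LK LD1_c9 LD2_c8 LD3_c52)) :=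
  Lre_e IH (LK LD1_c17 LD2_c1 LD3_c41) (LK LD1_c9 LD2_c8 LD3_c52) Lrfl Lrfl
theorem f573095 : Led Lsl_af (LP (LK LD1_c15 LD2_c4 LD3_c38)) = (LP (LK LD1_c9 LD2_c8 LD3_c52)) :=
  Lgr Lrot50 (Lpe (f573073 IH) (Lpr_at (f573089 IH) (Lpr_et (f569420 IH) (Lpn (LP (LK LD1_c9 LD2_c8 LD3_c52))))))
theorem f425883 : Led Lsl_ct (LP (LK LD1_c24 LD2_c53 LD3_c21)) = (LP (LK LD1_c15 LD2_c4 LD3_c38)) :=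
  Lre_c IH (LK LD1_c24 LD2_c53 LD3_c21) (LK LD1_c15 LD2_c4 LD3_c38) Lrfl Lrfl
theorem f425884 : Led Lsl_dt (LP (LK LD1_c31 LD2_c42 LD3_c4)) = (LP (LK LD1_c24 LD2_c53 LD3_c21)) :=
  Lre_d IH (LK LD1_c31 LD2_c42 LD3_c4) (LK LD1_c24 LD2_c53 LD3_c21) Lrfl Lrfl
theorem f547122 : Led Lsl_dt (LP (LK LD1_c17 LD2_c0 LD3_c48)) = (LP (LK LD1_c9 LD2_c8 LD3_c18)) :=
  Lre_d IH (LK LD1_c17 LD2_c0 LD3_c48) (LK LD1_c9 LD2_c8 LD3_c18) Lrfl Lrfl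
theorem f549767 : Led Lsl_dt (LP (LK LD1_c17 LD2_c0 LD3_c49)) = (LP (LK LD1_c26 LD2_c55 LD3_c51)) :=
  Lre_d IH (LK LD1_c17 LD2_c0 LD3_c49) (LK LD1_c26 LD2_c55 LD3_c51) Lrfl Lrfl
theorem f573106 : Led Lsl_cf (LP (LK LD1_c31 LD2_c42 LD3_c4)) = (LP (LK LD1_c26 LD2_c55 LD3_c51)) :=
  Lgr Lrot161 (Lpr_dt (f425884 IH) (Lpr_ct (f425883 IH) (Lpr_af (f573095 IH) (Lpr_ff (K42.f569408 IH) (Lpr_dt (f547122 IH) (Lpr_ct (K40.f420756 IH) (Lpr_dt (K38.f198498 IH) (Lpr_ct (K42.f198499 IH) (Lpr_dt (f549767 IH) (Lpn (LP (LK LD1_c26 LD2_c55 LD3_c51))))))))))))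
theorem f573108 : Led Lsl_ct (LP (LK LD1_c31 LD2_c42 LD3_c4)) = (LP (LK LD1_c26 LD2_c55 LD3_c51)) :=
  Lgr Lrot59 (Lpr_cf (f573106 IH) (Lpn (LP (LK LD1_c26 LD2_c55 LD3_c51))))
theorem f573114 : Led Lsl_gf (LP (LK LD1_c31 LD2_c42 LD3_c4)) = (LP (LK LD1_c26 LD2_c55 LD3_c44)) :=
  Lgr Lrot104 (Lpr_ct (f573108 IH) (Lpe (f549767 IH) (Lpe (K42.f198499 IH) (Lpe (K38.f549759 IH) (Lpe (K38.f198530 IH) (Lpr_gf (K38.f549679 IH) (Lpe (K38.f186451 IH) (Lpe (K42.f569306 IH) (Lpr_ct (K42.f424556 IH) (Lpn (LP (LK LD1_c26 LD2_c55 LD3_c44))))))))))))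
theorem f101738 : Led Lsl_dt (LP (LK LD1_c9 LD2_c48 LD3_c11)) = (LP (LK LD1_c4 LD2_c58 LD3_c55)) :=
  Lre_d IH (LK LD1_c9 LD2_c48 LD3_c11) (LK LD1_c4 LD2_c58 LD3_c55) Lrfl Lrfl
theorem f573121 : Led Lsl_gt (LP (LK LD1_c21 LD2_c15 LD3_c48)) = (LP (LK LD1_c17 LD2_c0 LD3_c43)) :=
  Lgr Lrot94 (Lpe (K42.f569347 IH) (Lpr_gt (K42.f569345 IH) (Lpr_dt (f101738 IH) (Lpe (K42.f568774 IH) (Lpr_dt (K42.f161365 IH) (Lpe (f425883 IH) (Lpe (f425884 IH) (Lpr_gf (f573114 IH) (Lpe (K42.f420823 IH) (Lpn (LP (LK LD1_c17 LD2_c0 LD3_c43))))))))))))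
theorem f418489 : Led Lsl_ct (LP (LK LD1_c17 LD2_c0 LD3_c43)) = (LP (LK LD1_c9 LD2_c8 LD3_c12)) :=
  Lre_c IH (LK LD1_c17 LD2_c0 LD3_c43) (LK LD1_c9 LD2_c8 LD3_c12) Lrfl Lrfl
theorem f573129 : Led Lsl_gt (LP (LK LD1_c12 LD2_c5 LD3_c26)) = (LP (LK LD1_c9 LD2_c8 LD3_c18)) :=
  Lgr Lrot9 (Lpe (K42.f565379 IH) (Lpr_gt (K42.f568782 IH) (Lpr_ct (K42.f569347 IH) (Lpr_gt (f573121 IH) (Lpr_ct (f418489 IH) (Lpe (K38.f418487 IH) (Lpe (K38.f71985 IH) (Lpe (K38.f71146 IH) (Lpe (K40.f420756 IH) (Lpn (LP (LK LD1_c9 LD2_c8 LD3_c18))))))))))))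
theorem f565358 : Led Lsl_ct (LP (LK LD1_c5 LD2_c7 LD3_c24)) = (LP (LK LD1_c10 LD2_c5 LD3_c14)) :=
  Lre_c IH (LK LD1_c5 LD2_c7 LD3_c24) (LK LD1_c10 LD2_c5 LD3_c14) Lrfl Lrfl
theorem f565370 : Led Lsl_ef (LP (LK LD1_c12 LD2_c5 LD3_c26)) = (LP (LK LD1_c10 LD2_c5 LD3_c14)) :=
  Lgr Lrot28 (Lpr_ct (f112540 IH) (Lpr_et (K41.f565368 IH) (Lpr_ct (f565358 IH) (Lpn (LP (LK LD1_c10 LD2_c5 LD3_c14))))))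
theorem f565360 : Led Lsl_dt (LP (LK LD1_c10 LD2_c5 LD3_c14)) = (LP (LK LD1_c18 LD2_c23 LD3_c58)) :=
  Lre_d IH (LK LD1_c10 LD2_c5 LD3_c14) (LK LD1_c18 LD2_c23 LD3_c58) Lrfl Lrfl
theorem f541331 : Led Lsl_dt (LP (LK LD1_c8 LD2_c12 LD3_c18)) = (LP (LK LD1_c15 LD2_c26 LD3_c19)) :=
  Lre_d IH (LK LD1_c8 LD2_c12 LD3_c18) (LK LD1_c15 LD2_c26 LD3_c19) Lrfl Lrfl
theorem f573136 : Led Lsl_gf (LP (LK LD1_c18 LD2_c23 LD3_c58)) = (LP (LK LD1_c15 LD2_c26 LD3_c19)) :=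
  Lgr Lrot134 (Lpe (f565360 IH) (Lpe (f565370 IH) (Lpr_gt (f573129 IH) (Lpe (K40.f563682 IH) (Lpr_dt (K40.f551973 IH) (Lpe (K42.f559586 IH) (Lpe (K39.f137996 IH) (Lpr_et (K40.f541295 IH) (Lpr_gt (K42.f541330 IH) (Lpr_dt (f541331 IH) (Lpn (LP (LK LD1_c15 LD2_c26 LD3_c19)))))))))))))
theorem f559761 : Led Lsl_et (LP (LK LD1_c12 LD2_c8 LD3_c53)) = (LP (LK LD1_c6 LD2_c15 LD3_c26)) :=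
  Lre_e IH (LK LD1_c12 LD2_c8 LD3_c53) (LK LD1_c6 LD2_c15 LD3_c26) Lrfl Lrfl
theorem f112539 : Led Lsl_dt (LP (LK LD1_c12 LD2_c8 LD3_c53)) = (LP (LK LD1_c21 LD2_c15 LD3_c10)) :=
  Lre_d IH (LK LD1_c12 LD2_c8 LD3_c53) (LK LD1_c21 LD2_c15 LD3_c10) Lrfl Lrfl
theorem f559762 : Led Lsl_gt (LP (LK LD1_c21 LD2_c15 LD3_c10)) = (LP (LK LD1_c15 LD2_c4 LD3_c38)) :=
  Lgr Lrot112 (Lpe (f112539 IH) (Lpr_et (f559761 IH) (Lpr_gf (K40.f559750 IH) (Lpe (K40.f117896 IH) (Lpr_dt (K8.f117622 IH) (Lpr_gf (K8.f138565 IH) (Lpe (K8.f101604 IH) (Lpr_gf (K8.f161356 IH) (Lpe (K42.f161364 IH) (Lpr_dt (K42.f161365 IH) (Lpn (LP (LK LD1_c15 LD2_c4 LD3_c38)))))))))))))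
theorem f573104 : Led Lsl_gf (LP (LK LD1_c21 LD2_c15 LD3_c10)) = (LP (LK LD1_c17 LD2_c0 LD3_c48)) :=
  Lgr Lrot47 (Lpr_gt (f559762 IH) (Lpr_af (f573095 IH) (Lpr_ff (K42.f569408 IH) (Lpn (LP (LK LD1_c17 LD2_c0 LD3_c48))))))
theorem f573145 : Led Lsl_ef (LP (LK LD1_c7 LD2_c59 LD3_c7)) = (LP (LK LD1_c8 LD2_c12 LD3_c18)) :=
  Lgr Lrot17 (Lpe (K42.f561607 IH) (Lpe (f559761 IH) (Lpr_dt (f112539 IH) (Lpr_gf (f573104 IH) (Lpe (K42.f547126 IH) (Lpe (f573129 IH) (Lpr_ef (f565370 IH) (Lpr_dt (f565360 IH) (Lpr_gf (f573136 IH) (Lpe (f541331 IH) (Lpn (LP (LK LD1_c8 LD2_c12 LD3_c18)))))))))))))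
theorem f572461 : Led Lsl_bt (LP (LK LD1_c10 LD2_c1 LD3_c17)) = (LP (LK LD1_c8 LD2_c12 LD3_c18)) :=
  Lgr Lrot127 (Lpr_bf (K42.f572459 IH) (Lpn (LP (LK LD1_c8 LD2_c12 LD3_c18))))
theorem f573147 : Led Lsl_et (LP (LK LD1_c7 LD2_c56 LD3_c12)) = (LP (LK LD1_c10 LD2_c1 LD3_c17)) :=
  Lgr Lrot74 (Lpr_bf (K38.f255111 IH) (Lpr_ef (f573145 IH) (Lpe (f572461 IH) (Lpn (LP (LK LD1_c10 LD2_c1 LD3_c17))))))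
theorem f549945 : Led Lsl_dt (LP (LK LD1_c7 LD2_c56 LD3_c12)) = (LP (LK LD1_c8 LD2_c43 LD3_c54)) :=
  Lgr Lrot42 (Lpr_df (K38.f549937 IH) (Lpn (LP (LK LD1_c8 LD2_c43 LD3_c54))))
theorem f519647 : Led Lsl_ef (LP (LK LD1_c1 LD2_c45 LD3_c10)) = K39.v2427 :=
  Lgr Lrot88 (Lpr_et (K39.f519645 IH) (Lpn K39.v2427))
theorem f411039 : Led Lsl_gf (LP (LK LD1_c10 LD2_c16 LD3_c6)) = (LP (LK LD1_c10 LD2_c1 LD3_c17)) :=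
  Lgr Lrot76 (Lpe (K41.f273147 IH) (Lpr_ff (K41.f272347 IH) (Lpr_gt (K42.f240693 IH) (Lpn (LP (LK LD1_c10 LD2_c1 LD3_c17))))))
theorem f411041 : Led Lsl_dt (LP (LK LD1_c10 LD2_c16 LD3_c6)) = (LP (LK LD1_c18 LD2_c40 LD3_c37)) :=
  Lre_d IH (LK LD1_c10 LD2_c16 LD3_c6) (LK LD1_c18 LD2_c40 LD3_c37) Lrfl Lrfl
theorem f573155 : Led Lsl_gf (LP (LK LD1_c13 LD2_c26 LD3_c37)) = (LP (LK LD1_c18 LD2_c40 LD3_c37)) :=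
  Lgr Lrot134 (Lpe (K39.f94434 IH) (Lpr_et (K36.f94433 IH) (Lpr_gt (K3.f94420 IH) (Lpr_ef (f519647 IH) (Lpqs (K39.f553324 IH) (Lpr_dt (K39.f403071 IH) (Lpr_gt (K38.f237627 IH) (Lpe (f549945 IH) (Lpr_et (f573147 IH) (Lpe (f411039 IH) (Lpr_dt (f411041 IH) (Lpn (LP (LK LD1_c18 LD2_c40 LD3_c37))))))))))))))
theorem f97163 : Led Lsl_dt (LP (LK LD1_c13 LD2_c26 LD3_c37)) = (LP (LK LD1_c7 LD2_c5 LD3_c34)) :=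
  Lre_d IH (LK LD1_c13 LD2_c26 LD3_c37) (LK LD1_c7 LD2_c5 LD3_c34) Lrfl Lrfl
theorem f31716 : Led Lsl_ct (LP (LK LD1_c16 LD2_c12 LD3_c5)) = (LP (LK LD1_c8 LD2_c39 LD3_c2)) :=
  Lre_c IH (LK LD1_c16 LD2_c12 LD3_c5) (LK LD1_c8 LD2_c39 LD3_c2) Lrfl Lrfl
theorem f5120 : Led Lsl_ct (LP (LK LD1_c7 LD2_c19 LD3_c20)) = (LP (LK LD1_c3 LD2_c39 LD3_c33)) :=
  Lre_c IH (LK LD1_c7 LD2_c19 LD3_c20) (LK LD1_c3 LD2_c39 LD3_c33) Lrfl Lrfl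
theorem f5192 : Led Lsl_gt (LP (LK LD1_c13 LD2_c50 LD3_c56)) = (LP (LK LD1_c7 LD2_c19 LD3_c20)) :=
  Lre_g IH (LK LD1_c13 LD2_c50 LD3_c56) (LK LD1_c7 LD2_c19 LD3_c20) Lrfl Lrfl
theorem f239270 : Led Lsl_dt (LP (LK LD1_c11 LD2_c35 LD3_c22)) = (LP (LK LD1_c5 LD2_c54 LD3_c59)) :=
  Lre_d IH (LK LD1_c11 LD2_c35 LD3_c22) (LK LD1_c5 LD2_c54 LD3_c59) Lrfl Lrfl
theorem f566161 : Led Lsl_cf (LP (LK LD1_c13 LD2_c50 LD3_c56)) = (LP (LK LD1_c18 LD2_c40 LD3_c37)) :=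
  Lgr Lrot169 (Lpr_gt (f5192 IH) (Lpr_ct (f5120 IH) (Lpe (K41.f5121 IH) (Lpe (K0.f5164 IH) (Lpr_gf (K41.f566157 IH) (Lpr_cf (K37.f71815 IH) (Lpe (K37.f239266 IH) (Lpe (f239270 IH) (Lpe (K41.f556960 IH) (Lpn (LP (LK LD1_c18 LD2_c40 LD3_c37))))))))))))
theorem f5146 : Led Lsl_dt (LP (LK LD1_c7 LD2_c19 LD3_c20)) = (LP (LK LD1_c13 LD2_c50 LD3_c58)) :=
  Lre_d IH (LK LD1_c7 LD2_c19 LD3_c20) (LK LD1_c13 LD2_c50 LD3_c58) Lrfl Lrfl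
theorem f5205 : Led Lsl_gt (LP (LK LD1_c13 LD2_c50 LD3_c58)) = (LP (LK LD1_c23 LD2_c20 LD3_c15)) :=
  Lre_g IH (LK LD1_c13 LD2_c50 LD3_c58) (LK LD1_c23 LD2_c20 LD3_c15) Lrfl Lrfl
theorem f573159 : Led Lsl_df (LP (LK LD1_c16 LD2_c12 LD3_c5)) = (LP (LK LD1_c23 LD2_c20 LD3_c15)) :=
  Lgr Lrot174 (Lpr_ct (f31716 IH) (Lpe (K42.f36203 IH) (Lpr_gf (K36.f540491 IH) (Lpe (f97163 IH) (Lpr_gf (f573155 IH) (Lpe (f566161 IH) (Lpr_gt (f5192 IH) (Lpr_dt (f5146 IH) (Lpr_gt (f5205 IH) (Lpn (LP (LK LD1_c23 LD2_c20 LD3_c15))))))))))))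
theorem f573168 : Led Lsl_cf (LP (LK LD1_c18 LD2_c40 LD3_c37)) = (LP (LK LD1_c13 LD2_c50 LD3_c56)) :=
  Lgr Lrot166 (Lpe (f573155 IH) (Lpr_dt (f97163 IH) (Lpe (K36.f540491 IH) (Lpr_dt (K42.f36203 IH) (Lpr_ct (K42.f201573 IH) (Lpr_df (f573159 IH) (Lpe (f5205 IH) (Lpe (f5146 IH) (Lpe (f5192 IH) (Lpn (LP (LK LD1_c13 LD2_c50 LD3_c56))))))))))))
theorem f17621 : Led Lsl_dt (LP (LK LD1_c13 LD2_c42 LD3_c8)) = (LP (LK LD1_c7 LD2_c14 LD3_c32)) :=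
  Lre_d IH (LK LD1_c13 LD2_c42 LD3_c8) (LK LD1_c7 LD2_c14 LD3_c32) Lrfl Lrfl
theorem f566109 : Led Lsl_cf (LP (LK LD1_c7 LD2_c14 LD3_c32)) = (LP (LK LD1_c10 LD2_c16 LD3_c6)) :=
  Lgr Lrot14 (Lpe (f17621 IH) (Lpr_gf (K41.f17617 IH) (Lpe (K24.f5212 IH) (Lpr_gf (K41.f566103 IH) (Lpe (K36.f201563 IH) (Lpe (K37.f239268 IH) (Lpr_dt (K42.f239271 IH) (Lpe (K41.f556960 IH) (Lpr_dt (K41.f411042 IH) (Lpn (LP (LK LD1_c10 LD2_c16 LD3_c6))))))))))))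
theorem f5207 : Led Lsl_dt (LP (LK LD1_c23 LD2_c20 LD3_c11)) = (LP (LK LD1_c13 LD2_c50 LD3_c56)) :=
  Lre_d IH (LK LD1_c23 LD2_c20 LD3_c11) (LK LD1_c13 LD2_c50 LD3_c56) Lrfl Lrfl
theorem f240827 : Led Lsl_dt (LP (LK LD1_c10 LD2_c1 LD3_c18)) = (LP (LK LD1_c5 LD2_c5 LD3_c5)) :=
  Lre_d IH (LK LD1_c10 LD2_c1 LD3_c18) (LK LD1_c5 LD2_c5 LD3_c5) Lrfl Lrfl
theorem f240851 : Led Lsl_dt (LP (LK LD1_c18 LD2_c18 LD3_c59)) = (LP (LK LD1_c27 LD2_c57 LD3_c41)) :=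
  Lre_d IH (LK LD1_c18 LD2_c18 LD3_c59) (LK LD1_c27 LD2_c57 LD3_c41) Lrfl Lrfl
theorem f573175 : Led Lsl_ct (LP (LK LD1_c27 LD2_c57 LD3_c41)) = (LP (LK LD1_c23 LD2_c20 LD3_c11)) :=
  Lgr Lrot53 (Lpe (f240851 IH) (Lpe (K42.f240850 IH) (Lpe (K41.f240838 IH) (Lpe (K41.f240846 IH) (Lpe (f240827 IH) (Lpe (K41.f272998 IH) (Lpr_at (K41.f411030 IH) (Lpr_cf (f573168 IH) (Lpe (f5207 IH) (Lpn (LP (LK LD1_c23 LD2_c20 LD3_c11))))))))))))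
theorem f411046 : Led Lsl_cf (LP (LK LD1_c5 LD2_c12 LD3_c53)) = (LP (LK LD1_c5 LD2_c12 LD3_c56)) :=
  Lgr Lrot11 (Lpr_ct (K42.f411037 IH) (Lpn (LP (LK LD1_c5 LD2_c12 LD3_c56))))
theorem f273020 : Led Lsl_dt (LP (LK LD1_c10 LD2_c16 LD3_c7)) = (LP (LK LD1_c5 LD2_c12 LD3_c53)) :=
  Lre_d IH (LK LD1_c10 LD2_c16 LD3_c7) (LK LD1_c5 LD2_c12 LD3_c53) Lrfl Lrfl
theorem f411032 : Led Lsl_ft (LP (LK LD1_c5 LD2_c12 LD3_c53)) = (LP (LK LD1_c5 LD2_c5 LD3_c5)) :=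
  Lgr Lrot54 (Lpe (f273020 IH) (Lpr_ff (K41.f272998 IH) (Lpe (K39.f240819 IH) (Lpn (LP (LK LD1_c5 LD2_c5 LD3_c5))))))
theorem f411049 : Led Lsl_ft (LP (LK LD1_c5 LD2_c5 LD3_c9)) = (LP (LK LD1_c5 LD2_c12 LD3_c56)) :=
  Lgr Lrot4 (Lpe (K41.f240846 IH) (Lpe (f411032 IH) (Lpr_cf (f411046 IH) (Lpn (LP (LK LD1_c5 LD2_c12 LD3_c56))))))
theorem f573177 : Led Lsl_af (LP (LK LD1_c7 LD2_c14 LD3_c32)) = (LP (LK LD1_c5 LD2_c12 LD3_c56)) :=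
  Lgr Lrot109 (Lpr_cf (f566109 IH) (Lpe (K41.f411042 IH) (Lpr_cf (f573168 IH) (Lpe (f5207 IH) (Lpe (f573175 IH) (Lpe (f240851 IH) (Lpe (K42.f240850 IH) (Lpe (K41.f240838 IH) (Lpr_ft (f411049 IH) (Lpn (LP (LK LD1_c5 LD2_c12 LD3_c56))))))))))))
theorem f240707 : Led Lsl_gt (LP (LK LD1_c5 LD2_c5 LD3_c9)) = (LP (LK LD1_c10 LD2_c1 LD3_c22)) :=
  Lre_g IH (LK LD1_c5 LD2_c5 LD3_c9) (LK LD1_c10 LD2_c1 LD3_c22) Lrfl Lrfl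
theorem f573193 : Led Lsl_gf (LP (LK LD1_c7 LD2_c14 LD3_c32)) = (LP (LK LD1_c10 LD2_c1 LD3_c22)) :=
  Lgr Lrot76 (Lpr_af (f573177 IH) (Lpe (f411049 IH) (Lpr_gt (f240707 IH) (Lpn (LP (LK LD1_c10 LD2_c1 LD3_c22))))))
theorem f98337 : Led Lsl_gt (LP (LK LD1_c7 LD2_c14 LD3_c31)) = (LP (LK LD1_c13 LD2_c42 LD3_c4)) :=
  Lre_g IH (LK LD1_c7 LD2_c14 LD3_c31) (LK LD1_c13 LD2_c42 LD3_c4) Lrfl Lrfl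
theorem f573200 : Led Lsl_et (LP (LK LD1_c8 LD2_c0 LD3_c61)) = (LP (LK LD1_c10 LD2_c1 LD3_c22)) :=
  Lgr Lrot121 (Lpe (K38.f550011 IH) (Lpe (K38.f237724 IH) (Lpe (K39.f388749 IH) (Lpq (K39.f553329 IH) (Lpe (K39.f519725 IH) (Lpr_gf (K3.f17501 IH) (Lpe (K0.f5030 IH) (Lpr_dt (K41.f5213 IH) (Lpe (K41.f17614 IH) (Lpe (K41.f17613 IH) (Lpr_gf (f573193 IH) (Lpn (LP (LK LD1_c10 LD2_c1 LD3_c22))))))))))))))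
theorem f550016 : Led Lsl_et (LP (LK LD1_c8 LD2_c44 LD3_c8)) = (LP (LK LD1_c4 LD2_c23 LD3_c13)) :=
  Lre_e IH (LK LD1_c8 LD2_c44 LD3_c8) (LK LD1_c4 LD2_c23 LD3_c13) Lrfl Lrfl
theorem f573203 : Led Lsl_df (LP (LK LD1_c13 LD2_c42 LD3_c4)) = (LP (LK LD1_c8 LD2_c44 LD3_c8)) :=
  Lgr Lrot168 (Lpe (f98337 IH) (Lpe (K42.f6549 IH) (Lpr_et (K42.f569915 IH) (Lpr_gf (f573193 IH) (Lpe (f573200 IH) (Lpe (K38.f550011 IH) (Lpe (K38.f237724 IH) (Lpe (K39.f388749 IH) (Lpe (K41.f29634 IH) (Lpe (f550016 IH) (Lpn (LP (LK LD1_c8 LD2_c44 LD3_c8)))))))))))))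
theorem f573217 : Led Lsl_ct (LP (LK LD1_c23 LD2_c7 LD3_c40)) = (LP (LK LD1_c13 LD2_c42 LD3_c4)) :=
  Lre_c IH (LK LD1_c23 LD2_c7 LD3_c40) (LK LD1_c13 LD2_c42 LD3_c4) Lrfl Lrfl
theorem f556617 : Led Lsl_ct (LP (LK LD1_c4 LD2_c25 LD3_c58)) = (LP (LK LD1_c6 LD2_c13 LD3_c22)) :=
  Lgr Lrot83 (Lpe (K39.f424941 IH) (Lpe (K41.f424934 IH) (Lpr_bf (K39.f556587 IH) (Lpe (K41.f101565 IH) (Lpe (K41.f101564 IH) (Lpn (LP (LK LD1_c6 LD2_c13 LD3_c22))))))))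
theorem f548142 : Led Lsl_ff (LP (LK LD1_c2 LD2_c51 LD3_c41)) = (LP (LK LD1_c4 LD2_c34 LD3_c58)) :=
  Lgr Lrot25 (Lpr_bt (K37.f208575 IH) (Lpr_ft (K36.f500186 IH) (Lpqs (K36.f541426 IH) (Lpqs (K38.f548135 IH) (Lpqs (K35.f541444 IH) (Lpr_bt (K41.f541446 IH) (Lpn (LP (LK LD1_c4 LD2_c34 LD3_c58)))))))))
theorem f565098 : Led Lsl_gt (LP (LK LD1_c6 LD2_c13 LD3_c22)) = (LP (LK LD1_c5 LD2_c50 LD3_c57)) :=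
  Lgr Lrot46 (Lpr_gf (K41.f565092 IH) (Lpe (f548142 IH) (Lpr_at (K6.f137825 IH) (Lpn (LP (LK LD1_c5 LD2_c50 LD3_c57))))))
theorem f565116 : Led Lsl_gf (LP (LK LD1_c4 LD2_c24 LD3_c53)) = (LP (LK LD1_c8 LD2_c46 LD3_c39)) :=
  Lgr Lrot124 (Lpe (K1.f35490 IH) (Lpr_ct (K1.f35486 IH) (Lpr_gt (K10.f198262 IH) (Lpe (K10.f24432 IH) (Lpr_bt (K36.f24564 IH) (Lpr_gt (K41.f565110 IH) (Lpr_ct (f556617 IH) (Lpr_gt (f565098 IH) (Lpe (K38.f137830 IH) (Lpr_bt (K42.f137829 IH) (Lpn (LP (LK LD1_c8 LD2_c46 LD3_c39)))))))))))))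
theorem f81008 : Led Lsl_ct (LP (LK LD1_c4 LD2_c24 LD3_c13)) = (LP (LK LD1_c8 LD2_c46 LD3_c3)) :=
  Lre_c IH (LK LD1_c4 LD2_c24 LD3_c13) (LK LD1_c8 LD2_c46 LD3_c3) Lrfl Lrfl
theorem f46860 : Led Lsl_bt (LP (LK LD1_c1 LD2_c59 LD3_c35)) = (LP (LK LD1_c4 LD2_c4 LD3_c56)) :=
  Lre_b IH (LK LD1_c1 LD2_c59 LD3_c35) (LK LD1_c4 LD2_c4 LD3_c56) Lrfl Lrfl
theorem f563652 : Led Lsl_gf (LP (LK LD1_c4 LD2_c24 LD3_c13)) = (LP (LK LD1_c4 LD2_c1 LD3_c30)) :=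
  Lgr Lrot181 (Lpr_ct (f81008 IH) (Lpr_gt (K42.f563648 IH) (Lpe (K41.f556863 IH) (Lpr_bt (K41.f556859 IH) (Lpe (K39.f553824 IH) (Lpe (f46860 IH) (Lpr_ct (K1.f46654 IH) (Lpe (K13.f196353 IH) (Lpe (K13.f211608 IH) (Lpr_bt (K42.f211613 IH) (Lpn (LP (LK LD1_c4 LD2_c1 LD3_c30)))))))))))))
theorem f544414 : Led Lsl_gf (LP (LK LD1_c9 LD2_c9 LD3_c42)) = (LP (LK LD1_c8 LD2_c46 LD3_c6)) :=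
  Lgr Lrot76 (Lpr_af (K42.f540857 IH) (Lpe (K42.f282293 IH) (Lpr_gt (K37.f544412 IH) (Lpn (LP (LK LD1_c8 LD2_c46 LD3_c6))))))
theorem f137870 : Led Lsl_et (LP (LK LD1_c4 LD2_c36 LD3_c56)) = (LP (LK LD1_c2 LD2_c15 LD3_c41)) :=
  Lre_e IH (LK LD1_c4 LD2_c36 LD3_c56) (LK LD1_c2 LD2_c15 LD3_c41) Lrfl Lrfl
theorem f242247 : Led Lsl_et (LP (LK LD1_c8 LD2_c3 LD3_c41)) = (LP (LK LD1_c4 LD2_c1 LD3_c30)) :=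
  Lre_e IH (LK LD1_c8 LD2_c3 LD3_c41) (LK LD1_c4 LD2_c1 LD3_c30) Lrfl Lrfl
theorem f272832 : Led Lsl_dt (LP (LK LD1_c8 LD2_c3 LD3_c41)) = (LP (LK LD1_c15 LD2_c10 LD3_c27)) :=
  Lre_d IH (LK LD1_c8 LD2_c3 LD3_c41) (LK LD1_c15 LD2_c10 LD3_c27) Lrfl Lrfl
theorem f563660 : Led Lsl_gt (LP (LK LD1_c16 LD2_c25 LD3_c19)) = (LP (LK LD1_c15 LD2_c10 LD3_c27)) :=
  Lgr Lrot112 (Lpe (f137696 IH) (Lpr_et (K35.f137692 IH) (Lpe (K6.f137865 IH) (Lpe (f137870 IH) (Lpr_dt (K42.f137871 IH) (Lpr_gf (f544414 IH) (Lpe (K37.f81063 IH) (Lpr_gf (f563652 IH) (Lpe (f242247 IH) (Lpr_dt (f272832 IH) (Lpn (LP (LK LD1_c15 LD2_c10 LD3_c27)))))))))))))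
theorem f573218 : Led Lsl_gf (LP (LK LD1_c23 LD2_c7 LD3_c40)) = (LP (LK LD1_c24 LD2_c59 LD3_c46)) :=
  Lgr Lrot104 (Lpr_ct (f573217 IH) (Lpr_df (f573203 IH) (Lpe (K41.f565751 IH) (Lpe (K41.f38417 IH) (Lpr_cf (K1.f38459 IH) (Lpr_gf (f565116 IH) (Lpe (f137693 IH) (Lpr_gt (f563660 IH) (Lpr_ct (K42.f211632 IH) (Lpn (LP (LK LD1_c24 LD2_c59 LD3_c46))))))))))))
theorem f98431 : Led Lsl_ct (LP (LK LD1_c13 LD2_c42 LD3_c4)) = (LP (LK LD1_c23 LD2_c7 LD3_c40)) :=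
  Lre_c IH (LK LD1_c13 LD2_c42 LD3_c4) (LK LD1_c23 LD2_c7 LD3_c40) Lrfl Lrfl
theorem f573207 : Led Lsl_bt (LP (LK LD1_c13 LD2_c42 LD3_c4)) = (LP (LK LD1_c23 LD2_c7 LD3_c39)) :=
  Lre_b IH (LK LD1_c13 LD2_c42 LD3_c4) (LK LD1_c23 LD2_c7 LD3_c39) Lrfl Lrfl
theorem f211631 : Led Lsl_bt (LP (LK LD1_c15 LD2_c10 LD3_c27)) = (LP (LK LD1_c8 LD2_c3 LD3_c43)) :=
  Lre_b IH (LK LD1_c15 LD2_c10 LD3_c27) (LK LD1_c8 LD2_c3 LD3_c43) Lrfl Lrfl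
theorem f211628 : Led Lsl_ct (LP (LK LD1_c9 LD2_c47 LD3_c4)) = (LP (LK LD1_c17 LD2_c57 LD3_c18)) :=
  Lre_c IH (LK LD1_c9 LD2_c47 LD3_c4) (LK LD1_c17 LD2_c57 LD3_c18) Lrfl Lrfl
theorem f211629 : Led Lsl_gt (LP (LK LD1_c27 LD2_c41 LD3_c53)) = (LP (LK LD1_c17 LD2_c57 LD3_c18)) :=
  Lre_g IH (LK LD1_c27 LD2_c41 LD3_c53) (LK LD1_c17 LD2_c57 LD3_c18) Lrfl Lrfl
theorem f242181 : Led Lsl_bt (LP (LK LD1_c2 LD2_c52 LD3_c60)) = (LP (LK LD1_c5 LD2_c53 LD3_c15)) :=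
  Lre_b IH (LK LD1_c2 LD2_c52 LD3_c60) (LK LD1_c5 LD2_c53 LD3_c15) Lrfl Lrfl
theorem f272761 : Led Lsl_gt (LP (LK LD1_c5 LD2_c53 LD3_c15)) = (LP (LK LD1_c11 LD2_c32 LD3_c33)) :=
  Lre_g IH (LK LD1_c5 LD2_c53 LD3_c15) (LK LD1_c11 LD2_c32 LD3_c33) Lrfl Lrfl
theorem f272762 : Led Lsl_bt (LP (LK LD1_c20 LD2_c29 LD3_c24)) = (LP (LK LD1_c11 LD2_c32 LD3_c33)) :=
  Lre_b IH (LK LD1_c20 LD2_c29 LD3_c24) (LK LD1_c11 LD2_c32 LD3_c33) Lrfl Lrfl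
theorem f272763 : Led Lsl_cf (LP (LK LD1_c27 LD2_c41 LD3_c53)) = (LP (LK LD1_c20 LD2_c29 LD3_c24)) :=
  Lgr Lrot160 (Lpr_gt (f211629 IH) (Lpe (f211628 IH) (Lpr_bt (K39.f211623 IH) (Lpe (K18.f211621 IH) (Lpr_ct (K18.f272727 IH) (Lpr_gt (K18.f211208 IH) (Lpe (K18.f24561 IH) (Lpr_bt (f242181 IH) (Lpr_gt (f272761 IH) (Lpe (f272762 IH) (Lpn (LP (LK LD1_c20 LD2_c29 LD3_c24)))))))))))))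
theorem f573221 : Led Lsl_gt (LP (LK LD1_c23 LD2_c7 LD3_c39)) = (LP (LK LD1_c20 LD2_c29 LD3_c24)) :=
  Lgr Lrot82 (Lpe (f573207 IH) (Lpr_ct (f98431 IH) (Lpr_gf (f573218 IH) (Lpe (K42.f211632 IH) (Lpr_bt (f211631 IH) (Lpr_gf (K18.f211621 IH) (Lpe (K39.f211623 IH) (Lpr_ct (f211628 IH) (Lpe (f211629 IH) (Lpr_cf (f272763 IH) (Lpn (LP (LK LD1_c20 LD2_c29 LD3_c24)))))))))))))
theorem f211624 : Led Lsl_ct (LP (LK LD1_c17 LD2_c57 LD3_c18)) = (LP (LK LD1_c9 LD2_c47 LD3_c4)) :=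
  Lre_c IH (LK LD1_c17 LD2_c57 LD3_c18) (LK LD1_c9 LD2_c47 LD3_c4) Lrfl Lrfl
theorem f272772 : Led Lsl_dt (LP (LK LD1_c9 LD2_c47 LD3_c4)) = (LP (LK LD1_c4 LD2_c58 LD3_c4)) :=
  Lre_d IH (LK LD1_c9 LD2_c47 LD3_c4) (LK LD1_c4 LD2_c58 LD3_c4) Lrfl Lrfl
theorem f573226 : Led Lsl_df (LP (LK LD1_c23 LD2_c7 LD3_c39)) = (LP (LK LD1_c15 LD2_c7 LD3_c59)) :=
  Lgr Lrot155 (Lpr_gt (f573221 IH) (Lpe (f272763 IH) (Lpr_gt (f211629 IH) (Lpr_ct (f211624 IH) (Lpr_dt (f272772 IH) (Lpe (K39.f272866 IH) (Lpe (K39.f554405 IH) (Lpe (K39.f424943 IH) (Lpe (K39.f424947 IH) (Lpn (LP (LK LD1_c15 LD2_c7 LD3_c59))))))))))))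
theorem f573235 : Led Lsl_ft (LP (LK LD1_c23 LD2_c7 LD3_c39)) = (LP (LK LD1_c16 LD2_c28 LD3_c10)) :=
  Lgr Lrot54 (Lpr_df (f573226 IH) (Lpe (K42.f570608 IH) (Lpe (K42.f138766 IH) (Lpn (LP (LK LD1_c16 LD2_c28 LD3_c10))))))
theorem f426408 : Led Lsl_af (LP (LK LD1_c24 LD2_c56 LD3_c45)) = (LP (LK LD1_c16 LD2_c28 LD3_c10)) :=
  Lgr Lrot0 (Lpr_at (K42.f426406 IH) (Lpn (LP (LK LD1_c16 LD2_c28 LD3_c10))))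
theorem f573247 : Led Lsl_gt (LP (LK LD1_c20 LD2_c29 LD3_c24)) = (LP (LK LD1_c24 LD2_c56 LD3_c45)) :=
  Lgr Lrot46 (Lpe (f573221 IH) (Lpr_ft (f573235 IH) (Lpe (f426408 IH) (Lpn (LP (LK LD1_c24 LD2_c56 LD3_c45))))))
theorem f573251 : Led Lsl_df (LP (LK LD1_c20 LD2_c29 LD3_c24)) = (LP (LK LD1_c13 LD2_c27 LD3_c58)) :=
  Lgr Lrot153 (Lpr_gt (f573247 IH) (Lpr_dt (K42.f138762 IH) (Lpr_cf (K41.f138760 IH) (Lpe (K42.f138766 IH) (Lpr_gf (K42.f570880 IH) (Lpe (K42.f98385 IH) (Lpe (K42.f98383 IH) (Lpe (K42.f98358 IH) (Lpe (K42.f98377 IH) (Lpn (LP (LK LD1_c13 LD2_c27 LD3_c58))))))))))))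
theorem f573253 : Led Lsl_dt (LP (LK LD1_c11 LD2_c32 LD3_c33)) = (LP (LK LD1_c16 LD2_c19 LD3_c19)) :=
  Lgr Lrot79 (Lpe (f272762 IH) (Lpr_df (f573251 IH) (Lpr_bf (K42.f571005 IH) (Lpn (LP (LK LD1_c16 LD2_c19 LD3_c19))))))
theorem f449860 : Led Lsl_dt (LP (LK LD1_c2 LD2_c52 LD3_c59)) = (LP (LK LD1_c5 LD2_c53 LD3_c15)) :=
  Lre_d IH (LK LD1_c2 LD2_c52 LD3_c59) (LK LD1_c5 LD2_c53 LD3_c15) Lrfl Lrfl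
theorem f428060 : Led Lsl_ft (LP (LK LD1_c4 LD2_c26 LD3_c5)) = (LP (LK LD1_c2 LD2_c10 LD3_c20)) :=
  Lre_f IH (LK LD1_c4 LD2_c26 LD3_c5) (LK LD1_c2 LD2_c10 LD3_c20) Lrfl Lrfl
theorem f565112 : Led Lsl_gf (LP (LK LD1_c2 LD2_c52 LD3_c59)) = (LP (LK LD1_c4 LD2_c26 LD3_c5)) :=
  Lgr Lrot47 (Lpr_gt (K41.f565110 IH) (Lpe (K39.f424927 IH) (Lpe (f428060 IH) (Lpn (LP (LK LD1_c4 LD2_c26 LD3_c5))))))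
theorem f422805 : Led Lsl_bt (LP (LK LD1_c0 LD2_c38 LD3_c52)) = (LP (LK LD1_c0 LD2_c17 LD3_c19)) :=
  Lre_b IH (LK LD1_c0 LD2_c38 LD3_c52) (LK LD1_c0 LD2_c17 LD3_c19) Lrfl Lrfl
theorem f539808 : Led Lsl_bt (LP (LK LD1_c4 LD2_c35 LD3_c4)) = (LP (LK LD1_c8 LD2_c49 LD3_c23)) :=
  Lgr Lrot119 (Lpr_ef (K36.f539804 IH) (Lpe (K36.f138929 IH) (Lpe (K39.f138927 IH) (Lpn (LP (LK LD1_c8 LD2_c49 LD3_c23))))))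
theorem f545824 : Led Lsl_gf (LP (LK LD1_c4 LD2_c34 LD3_c58)) = (LP (LK LD1_c8 LD2_c49 LD3_c23)) :=
  Lgr Lrot181 (Lpr_ct (K36.f541459 IH) (Lpr_gt (K36.f119048 IH) (Lpe (K35.f494478 IH) (Lpq (K35.f537830 IH) (Lpe (K35.f452905 IH) (Lpr_gt (K9.f9392 IH) (Lpe (f422805 IH) (Lpr_ct (K40.f176563 IH) (Lpr_gt (K31.f104895 IH) (Lpr_cf (K37.f545812 IH) (Lpr_bt (f539808 IH) (Lpn (LP (LK LD1_c8 LD2_c49 LD3_c23))))))))))))))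
theorem f541448 : Led Lsl_dt (LP (LK LD1_c4 LD2_c34 LD3_c58)) = (LP (LK LD1_c9 LD2_c6 LD3_c39)) :=
  Lre_d IH (LK LD1_c4 LD2_c34 LD3_c58) (LK LD1_c9 LD2_c6 LD3_c39) Lrfl Lrfl
theorem f500519 : Led Lsl_ct (LP (LK LD1_c5 LD2_c55 LD3_c46)) = (LP (LK LD1_c2 LD2_c54 LD3_c14)) :=
  Lre_c IH (LK LD1_c5 LD2_c55 LD3_c46) (LK LD1_c2 LD2_c54 LD3_c14) Lrfl Lrfl
theorem f565108 : Led Lsl_gt (LP (LK LD1_c9 LD2_c6 LD3_c39)) = (LP (LK LD1_c12 LD2_c5 LD3_c39)) :=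
  Lgr Lrot9 (Lpe (f541448 IH) (Lpe (K41.f565092 IH) (Lpr_ct (K41.f565101 IH) (Lpr_gt (K39.f556585 IH) (Lpr_ct (K39.f81855 IH) (Lpe (K40.f81947 IH) (Lpe (f500519 IH) (Lpr_gf (K40.f559654 IH) (Lpr_cf (K38.f549672 IH) (Lpn (LP (LK LD1_c12 LD2_c5 LD3_c39))))))))))))
theorem f573305 : Led Lsl_dt (LP (LK LD1_c12 LD2_c5 LD3_c39)) = (LP (LK LD1_c11 LD2_c7 LD3_c16)) :=
  Lgr Lrot105 (Lpe (f565108 IH) (Lpe (f541448 IH) (Lpr_gf (f545824 IH) (Lpe (K39.f138930 IH) (Lpe (f565112 IH) (Lpr_dt (f449860 IH) (Lpr_gt (f272761 IH) (Lpr_dt (f573253 IH) (Lpr_cf (K42.f572648 IH) (Lpn (LP (LK LD1_c11 LD2_c7 LD3_c16))))))))))))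
theorem f573307 : Led Lsl_df (LP (LK LD1_c12 LD2_c5 LD3_c39)) = (LP (LK LD1_c11 LD2_c7 LD3_c16)) :=
  Lgr Lrot38 (Lpr_dt (f573305 IH) (Lpn (LP (LK LD1_c11 LD2_c7 LD3_c16))))
theorem f556782 : Led Lsl_gt (LP (LK LD1_c5 LD2_c37 LD3_c60)) = (LP (LK LD1_c9 LD2_c1 LD3_c20)) :=
  Lgr Lrot82 (Lpe (K42.f556153 IH) (Lpr_ct (K42.f556175 IH) (Lpe (K39.f556184 IH) (Lpe (K39.f172690 IH) (Lpr_bt (K39.f541349 IH) (Lpe (K39.f59418 IH) (Lpr_bf (K39.f556769 IH) (Lpr_ct (K39.f547368 IH) (Lpe (K39.f551819 IH) (Lpe (K39.f547747 IH) (Lpn (LP (LK LD1_c9 LD2_c1 LD3_c20)))))))))))))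
theorem f573311 : Led Lsl_et (LP (LK LD1_c4 LD2_c34 LD3_c58)) = (LP (LK LD1_c2 LD2_c46 LD3_c5)) :=
  Lgr Lrot122 (Lpr_dt (f541448 IH) (Lpr_gt (f565108 IH) (Lpr_df (f573307 IH) (Lpr_et (K42.f556146 IH) (Lpr_gt (f556782 IH) (Lpr_dt (K41.f551833 IH) (Lpr_gt (K39.f381423 IH) (Lpe (K39.f172475 IH) (Lpr_et (K39.f495240 IH) (Lpr_gt (K41.f557336 IH) (Lpn (LP (LK LD1_c2 LD2_c46 LD3_c5)))))))))))))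
theorem f208729 : Led Lsl_af (LP (LK LD1_c2 LD2_c9 LD3_c45)) = (LP (LK LD1_c1 LD2_c23 LD3_c10)) :=
  Lgr Lrot36 (Lpe (K8.f160934 IH) (Lpr_at (K37.f208723 IH) (Lpe (K6.f137905 IH) (Lpr_at (K6.f137890 IH) (Lpr_bt (K6.f81824 IH) (Lpn (LP (LK LD1_c1 LD2_c23 LD3_c10))))))))
theorem f208741 : Led Lsl_at (LP (LK LD1_c2 LD2_c14 LD3_c27)) = (LP (LK LD1_c2 LD2_c54 LD3_c21)) :=
  Lgr Lrot107 (Lpr_cf (K6.f35241 IH) (Lpr_af (f208729 IH) (Lpe (K6.f81820 IH) (Lpn (LP (LK LD1_c2 LD2_c54 LD3_c21))))))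
theorem f572999 : Led Lsl_ef (LP (LK LD1_c2 LD2_c14 LD3_c27)) = (LP (LK LD1_c4 LD2_c31 LD3_c56)) :=
  Lgr Lrot20 (Lpr_at (f208741 IH) (Lpr_et (f572997 IH) (Lpe (K31.f424082 IH) (Lpn (LP (LK LD1_c4 LD2_c31 LD3_c56))))))
theorem f208336 : Led Lsl_ff (LP (LK LD1_c2 LD2_c9 LD3_c45)) = (LP (LK LD1_c1 LD2_c23 LD3_c11)) :=
  Lgr Lrot19 (Lpe (K8.f161414 IH) (Lpr_ft (K32.f208332 IH) (Lpr_dt (K6.f119700 IH) (Lpn (LP (LK LD1_c1 LD2_c23 LD3_c11))))))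
theorem f208749 : Led Lsl_ft (LP (LK LD1_c2 LD2_c14 LD3_c27)) = (LP (LK LD1_c1 LD2_c21 LD3_c53)) :=
  Lgr Lrot4 (Lpr_cf (K6.f35241 IH) (Lpr_ff (f208336 IH) (Lpe (K6.f24075 IH) (Lpn (LP (LK LD1_c1 LD2_c21 LD3_c53))))))
theorem f149687 : Led Lsl_et (LP (LK LD1_c1 LD2_c21 LD3_c53)) = (LP (LK LD1_c2 LD2_c51 LD3_c41)) :=
  Lre_e IH (LK LD1_c1 LD2_c21 LD3_c53) (LK LD1_c2 LD2_c51 LD3_c41) Lrfl Lrfl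
theorem f573319 : Led Lsl_ff (LP (LK LD1_c4 LD2_c34 LD3_c58)) = (LP (LK LD1_c2 LD2_c51 LD3_c41)) :=
  Lgr Lrot72 (Lpr_et (f573311 IH) (Lpe (K31.f423724 IH) (Lpe (f572999 IH) (Lpr_ft (f208749 IH) (Lpr_et (f149687 IH) (Lpn (LP (LK LD1_c2 LD2_c51 LD3_c41))))))))
theorem f112852 : Led Lsl_dt (LP (LK LD1_c5 LD2_c50 LD3_c59)) = (LP (LK LD1_c2 LD2_c51 LD3_c41)) :=
  Lre_d IH (LK LD1_c5 LD2_c50 LD3_c59) (LK LD1_c2 LD2_c51 LD3_c41) Lrfl Lrfl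
theorem f573323 : Led Lsl_ft (LP (LK LD1_c9 LD2_c6 LD3_c39)) = (LP (LK LD1_c5 LD2_c50 LD3_c59)) :=
  Lgr Lrot54 (Lpe (f541448 IH) (Lpr_ff (f573319 IH) (Lpe (f112852 IH) (Lpn (LP (LK LD1_c5 LD2_c50 LD3_c59))))))
theorem f541454 : Led Lsl_bt (LP (LK LD1_c4 LD2_c34 LD3_c59)) = (LP (LK LD1_c9 LD2_c6 LD3_c39)) :=
  Lre_b IH (LK LD1_c4 LD2_c34 LD3_c59) (LK LD1_c9 LD2_c6 LD3_c39) Lrfl Lrfl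
theorem f208544 : Led Lsl_bt (LP (LK LD1_c5 LD2_c50 LD3_c59)) = (LP (LK LD1_c2 LD2_c51 LD3_c45)) :=
  Lre_b IH (LK LD1_c5 LD2_c50 LD3_c59) (LK LD1_c2 LD2_c51 LD3_c45) Lrfl Lrfl
theorem f573325 : Led Lsl_ff (LP (LK LD1_c4 LD2_c34 LD3_c59)) = (LP (LK LD1_c2 LD2_c51 LD3_c45)) :=
  Lgr Lrot25 (Lpr_bt (f541454 IH) (Lpr_ft (f573323 IH) (Lpr_bt (f208544 IH) (Lpn (LP (LK LD1_c2 LD2_c51 LD3_c45))))))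
theorem f541456 : Led Lsl_ct (LP (LK LD1_c4 LD2_c34 LD3_c59)) = (LP (LK LD1_c9 LD2_c6 LD3_c40)) :=
  Lre_c IH (LK LD1_c4 LD2_c34 LD3_c59) (LK LD1_c9 LD2_c6 LD3_c40) Lrfl Lrfl
theorem f573361 : Led Lsl_ft (LP (LK LD1_c9 LD2_c6 LD3_c40)) = (LP (LK LD1_c5 LD2_c51 LD3_c0)) :=
  Lgr Lrot4 (Lpe (f541456 IH) (Lpr_ff (f573325 IH) (Lpe (K38.f208547 IH) (Lpn (LP (LK LD1_c5 LD2_c51 LD3_c0))))))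
theorem f573369 : Led Lsl_ff (LP (LK LD1_c9 LD2_c6 LD3_c40)) = (LP (LK LD1_c5 LD2_c51 LD3_c0)) :=
  Lgr Lrot3 (Lpr_ft (f573361 IH) (Lpn (LP (LK LD1_c5 LD2_c51 LD3_c0))))
theorem f544939 : Led Lsl_gt (LP (LK LD1_c5 LD2_c51 LD3_c0)) = (LP (LK LD1_c11 LD2_c29 LD3_c32)) :=
  Lre_g IH (LK LD1_c5 LD2_c51 LD3_c0) (LK LD1_c11 LD2_c29 LD3_c32) Lrfl Lrfl
theorem f181543 : Led Lsl_ct (LP (LK LD1_c16 LD2_c51 LD3_c33)) = (LP (LK LD1_c9 LD2_c1 LD3_c40)) :=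
  Lre_c IH (LK LD1_c16 LD2_c51 LD3_c33) (LK LD1_c9 LD2_c1 LD3_c40) Lrfl Lrfl
theorem f72376 : Led Lsl_dt (LP (LK LD1_c5 LD2_c53 LD3_c26)) = (LP (LK LD1_c2 LD2_c53 LD3_c3)) :=
  Lre_d IH (LK LD1_c5 LD2_c53 LD3_c26) (LK LD1_c2 LD2_c53 LD3_c3) Lrfl Lrfl
theorem f544941 : Led Lsl_cf (LP (LK LD1_c11 LD2_c29 LD3_c32)) = (LP (LK LD1_c11 LD2_c20 LD3_c35)) :=
  Lgr Lrot163 (Lpe (f544939 IH) (Lpe (K38.f208558 IH) (Lpr_gf (K38.f544935 IH) (Lpe (K36.f176515 IH) (Lpe (K9.f176518 IH) (Lpe (K9.f24002 IH) (Lpe (K10.f9402 IH) (Lpr_bt (K37.f176454 IH) (Lpe (K27.f176772 IH) (Lpe (K40.f176773 IH) (Lpn (LP (LK LD1_c11 LD2_c20 LD3_c35)))))))))))))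
theorem f563179 : Led Lsl_gf (LP (LK LD1_c16 LD2_c51 LD3_c33)) = (LP (LK LD1_c11 LD2_c29 LD3_c32)) :=
  Lgr Lrot104 (Lpr_ct (f181543 IH) (Lpe (K38.f174830 IH) (Lpe (K37.f181541 IH) (Lpr_gf (K40.f563177 IH) (Lpr_cf (K36.f539591 IH) (Lpe (K38.f539944 IH) (Lpqs (K38.f539956 IH) (Lpe (f72376 IH) (Lpr_gt (K40.f557518 IH) (Lpe (f544941 IH) (Lpn (LP (LK LD1_c11 LD2_c29 LD3_c32)))))))))))))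
theorem f573376 : Led Lsl_at (LP (LK LD1_c9 LD2_c6 LD3_c40)) = (LP (LK LD1_c16 LD2_c51 LD3_c33)) :=
  Lgr Lrot26 (Lpr_ff (f573369 IH) (Lpr_gt (f544939 IH) (Lpe (f563179 IH) (Lpn (LP (LK LD1_c16 LD2_c51 LD3_c33))))))
theorem f72374 : Led Lsl_ct (LP (LK LD1_c4 LD2_c34 LD3_c48)) = (LP (LK LD1_c9 LD2_c6 LD3_c14)) :=
  Lre_c IH (LK LD1_c4 LD2_c34 LD3_c48) (LK LD1_c9 LD2_c6 LD3_c14) Lrfl Lrfl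
theorem f208548 : Led Lsl_af (LP (LK LD1_c5 LD2_c51 LD3_c0)) = (LP (LK LD1_c9 LD2_c6 LD3_c14)) :=
  Lgr Lrot68 (Lpr_ct (K38.f208547 IH) (Lpr_at (K38.f208539 IH) (Lpr_ct (f72374 IH) (Lpn (LP (LK LD1_c9 LD2_c6 LD3_c14))))))
theorem f573380 : Led Lsl_ff (LP (LK LD1_c9 LD2_c6 LD3_c14)) = (LP (LK LD1_c16 LD2_c51 LD3_c33)) :=
  Lgr Lrot30 (Lpe (f208548 IH) (Lpe (f573369 IH) (Lpr_at (f573376 IH) (Lpn (LP (LK LD1_c16 LD2_c51 LD3_c33))))))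
theorem f208557 : Led Lsl_gt (LP (LK LD1_c11 LD2_c29 LD3_c33)) = (LP (LK LD1_c5 LD2_c51 LD3_c0)) :=
  Lre_g IH (LK LD1_c11 LD2_c29 LD3_c33) (LK LD1_c5 LD2_c51 LD3_c0) Lrfl Lrfl
theorem f573382 : Led Lsl_gf (LP (LK LD1_c11 LD2_c29 LD3_c33)) = (LP (LK LD1_c16 LD2_c51 LD3_c33)) :=
  Lgr Lrot47 (Lpr_gt (f208557 IH) (Lpr_af (f208548 IH) (Lpr_ff (f573380 IH) (Lpn (LP (LK LD1_c16 LD2_c51 LD3_c33))))))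
theorem f181547 : Led Lsl_ct (LP (LK LD1_c9 LD2_c1 LD3_c40)) = (LP (LK LD1_c16 LD2_c51 LD3_c33)) :=
  Lre_c IH (LK LD1_c9 LD2_c1 LD3_c40) (LK LD1_c16 LD2_c51 LD3_c33) Lrfl Lrfl
theorem f563197 : Led Lsl_bf (LP (LK LD1_c11 LD2_c38 LD3_c3)) = (LP (LK LD1_c9 LD2_c1 LD3_c40)) :=
  Lgr Lrot24 (Lpr_bt (K40.f563194 IH) (Lpn (LP (LK LD1_c9 LD2_c1 LD3_c40))))
theorem f561185 : Led Lsl_bt (LP (LK LD1_c11 LD2_c15 LD3_c12)) = (LP (LK LD1_c5 LD2_c42 LD3_c33)) :=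
  Lre_b IH (LK LD1_c11 LD2_c15 LD3_c12) (LK LD1_c5 LD2_c42 LD3_c33) Lrfl Lrfl
theorem f500759 : Led Lsl_et (LP (LK LD1_c5 LD2_c59 LD3_c12)) = (LP (LK LD1_c2 LD2_c55 LD3_c60)) :=
  Lre_e IH (LK LD1_c5 LD2_c59 LD3_c12) (LK LD1_c2 LD2_c55 LD3_c60) Lrfl Lrfl
theorem f541529 : Led Lsl_bt (LP (LK LD1_c9 LD2_c10 LD3_c51)) = (LP (LK LD1_c5 LD2_c59 LD3_c12)) :=
  Lgr Lrot119 (Lpe (K40.f541495 IH) (Lpr_bf (K36.f541524 IH) (Lpe (f500759 IH) (Lpn (LP (LK LD1_c5 LD2_c59 LD3_c12))))))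
theorem f561186 : Led Lsl_df (LP (LK LD1_c11 LD2_c15 LD3_c12)) = (LP (LK LD1_c5 LD2_c59 LD3_c12)) :=
  Lgr Lrot12 (Lpr_bt (f561185 IH) (Lpr_dt (K40.f561178 IH) (Lpr_bt (f541529 IH) (Lpn (LP (LK LD1_c5 LD2_c59 LD3_c12))))))
theorem f561192 : Led Lsl_dt (LP (LK LD1_c11 LD2_c15 LD3_c12)) = (LP (LK LD1_c5 LD2_c59 LD3_c12)) :=
  Lgr Lrot42 (Lpr_df (f561186 IH) (Lpn (LP (LK LD1_c5 LD2_c59 LD3_c12))))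
theorem f561176 : Led Lsl_bt (LP (LK LD1_c5 LD2_c42 LD3_c33)) = (LP (LK LD1_c11 LD2_c15 LD3_c12)) :=
  Lre_b IH (LK LD1_c5 LD2_c42 LD3_c33) (LK LD1_c11 LD2_c15 LD3_c12) Lrfl Lrfl
theorem f561199 : Led Lsl_bf (LP (LK LD1_c9 LD2_c10 LD3_c51)) = (LP (LK LD1_c5 LD2_c59 LD3_c12)) :=
  Lgr Lrot93 (Lpe (K40.f561172 IH) (Lpr_bt (f561176 IH) (Lpr_dt (f561192 IH) (Lpn (LP (LK LD1_c5 LD2_c59 LD3_c12))))))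
theorem f177006 : Led Lsl_bt (LP (LK LD1_c5 LD2_c53 LD3_c21)) = (LP (LK LD1_c2 LD2_c53 LD3_c1)) :=
  Lre_b IH (LK LD1_c5 LD2_c53 LD3_c21) (LK LD1_c2 LD2_c53 LD3_c1) Lrfl Lrfl
theorem f164287 : Led Lsl_bt (LP (LK LD1_c4 LD2_c35 LD3_c14)) = (LP (LK LD1_c9 LD2_c7 LD3_c7)) :=
  Lre_b IH (LK LD1_c4 LD2_c35 LD3_c14) (LK LD1_c9 LD2_c7 LD3_c7) Lrfl Lrfl
theorem f561204 : Led Lsl_at (LP (LK LD1_c9 LD2_c7 LD3_c7)) = (LP (LK LD1_c5 LD2_c59 LD3_c12)) :=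
  Lgr Lrot67 (Lpe (f164287 IH) (Lpr_af (K36.f449278 IH) (Lpe (f177006 IH) (Lpe (K40.f541501 IH) (Lpr_bf (f561199 IH) (Lpn (LP (LK LD1_c5 LD2_c59 LD3_c12))))))))
theorem f561209 : Led Lsl_ct (LP (LK LD1_c16 LD2_c59 LD3_c21)) = (LP (LK LD1_c9 LD2_c7 LD3_c7)) :=
  Lre_c IH (LK LD1_c16 LD2_c59 LD3_c21) (LK LD1_c9 LD2_c7 LD3_c7) Lrfl Lrfl
theorem f561201 : Led Lsl_ct (LP (LK LD1_c5 LD2_c59 LD3_c12)) = (LP (LK LD1_c11 LD2_c42 LD3_c54)) :=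
  Lre_c IH (LK LD1_c5 LD2_c59 LD3_c12) (LK LD1_c11 LD2_c42 LD3_c54) Lrfl Lrfl
theorem f561210 : Led Lsl_af (LP (LK LD1_c16 LD2_c59 LD3_c21)) = (LP (LK LD1_c11 LD2_c42 LD3_c54)) :=
  Lgr Lrot68 (Lpr_ct (f561209 IH) (Lpr_at (f561204 IH) (Lpr_ct (f561201 IH) (Lpn (LP (LK LD1_c11 LD2_c42 LD3_c54))))))
theorem f449334 : Led Lsl_et (LP (LK LD1_c16 LD2_c59 LD3_c21)) = (LP (LK LD1_c9 LD2_c7 LD3_c6)) :=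
  Lre_e IH (LK LD1_c16 LD2_c59 LD3_c21) (LK LD1_c9 LD2_c7 LD3_c6) Lrfl Lrfl
theorem f545314 : Led Lsl_et (LP (LK LD1_c5 LD2_c59 LD3_c11)) = (LP (LK LD1_c11 LD2_c42 LD3_c54)) :=
  Lre_e IH (LK LD1_c5 LD2_c59 LD3_c11) (LK LD1_c11 LD2_c42 LD3_c54) Lrfl Lrfl
theorem f561217 : Led Lsl_at (LP (LK LD1_c9 LD2_c7 LD3_c6)) = (LP (LK LD1_c5 LD2_c59 LD3_c11)) :=
  Lgr Lrot80 (Lpe (f449334 IH) (Lpr_af (f561210 IH) (Lpe (f545314 IH) (Lpn (LP (LK LD1_c5 LD2_c59 LD3_c11))))))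
theorem f211097 : Led Lsl_at (LP (LK LD1_c11 LD2_c32 LD3_c25)) = (LP (LK LD1_c5 LD2_c53 LD3_c12)) :=
  Lre_a IH (LK LD1_c11 LD2_c32 LD3_c25) (LK LD1_c5 LD2_c53 LD3_c12) Lrfl Lrfl
theorem f211096 : Led Lsl_dt (LP (LK LD1_c5 LD2_c53 LD3_c12)) = (LP (LK LD1_c11 LD2_c32 LD3_c30)) :=
  Lre_d IH (LK LD1_c5 LD2_c53 LD3_c12) (LK LD1_c11 LD2_c32 LD3_c30) Lrfl Lrfl
theorem f449315 : Led Lsl_af (LP (LK LD1_c20 LD2_c28 LD3_c58)) = (LP (LK LD1_c11 LD2_c32 LD3_c30)) :=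
  Lgr Lrot117 (Lpr_dt (K38.f449313 IH) (Lpr_at (f211097 IH) (Lpr_dt (f211096 IH) (Lpn (LP (LK LD1_c11 LD2_c32 LD3_c30))))))
theorem f418975 : Led Lsl_dt (LP (LK LD1_c4 LD2_c35 LD3_c13)) = (LP (LK LD1_c2 LD2_c14 LD3_c47)) :=
  Lre_d IH (LK LD1_c4 LD2_c35 LD3_c13) (LK LD1_c2 LD2_c14 LD3_c47) Lrfl Lrfl
theorem f180274 : Led Lsl_ct (LP (LK LD1_c9 LD2_c7 LD3_c6)) = (LP (LK LD1_c4 LD2_c35 LD3_c13)) :=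
  Lre_c IH (LK LD1_c9 LD2_c7 LD3_c6) (LK LD1_c4 LD2_c35 LD3_c13) Lrfl Lrfl
theorem f180275 : Led Lsl_dt (LP (LK LD1_c16 LD2_c59 LD3_c20)) = (LP (LK LD1_c9 LD2_c7 LD3_c6)) :=
  Lre_d IH (LK LD1_c16 LD2_c59 LD3_c20) (LK LD1_c9 LD2_c7 LD3_c6) Lrfl Lrfl
theorem f449324 : Led Lsl_ft (LP (LK LD1_c16 LD2_c59 LD3_c20)) = (LP (LK LD1_c11 LD2_c32 LD3_c30)) :=
  Lgr Lrot142 (Lpr_dt (f180275 IH) (Lpr_ct (f180274 IH) (Lpr_dt (f418975 IH) (Lpe (K36.f418970 IH) (Lpr_dt (K36.f211801 IH) (Lpr_ct (K36.f380378 IH) (Lpr_dt (K38.f418976 IH) (Lpr_ct (K38.f418977 IH) (Lpr_af (f449315 IH) (Lpn (LP (LK LD1_c11 LD2_c32 LD3_c30))))))))))))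
theorem f418974 : Led Lsl_dt (LP (LK LD1_c9 LD2_c7 LD3_c6)) = (LP (LK LD1_c16 LD2_c59 LD3_c20)) :=
  Lre_d IH (LK LD1_c9 LD2_c7 LD3_c6) (LK LD1_c16 LD2_c59 LD3_c20) Lrfl Lrfl
theorem f449326 : Led Lsl_ff (LP (LK LD1_c9 LD2_c7 LD3_c6)) = (LP (LK LD1_c5 LD2_c53 LD3_c12)) :=
  Lgr Lrot19 (Lpr_dt (f418974 IH) (Lpr_ft (f449324 IH) (Lpr_dt (K38.f211078 IH) (Lpn (LP (LK LD1_c5 LD2_c53 LD3_c12))))))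
theorem f561225 : Led Lsl_gt (LP (LK LD1_c5 LD2_c53 LD3_c12)) = (LP (LK LD1_c9 LD2_c50 LD3_c44)) :=
  Lgr Lrot5 (Lpe (f449326 IH) (Lpr_at (f561217 IH) (Lpe (K38.f545297 IH) (Lpn (LP (LK LD1_c9 LD2_c50 LD3_c44))))))
theorem f211083 : Led Lsl_bt (LP (LK LD1_c11 LD2_c32 LD3_c28)) = (LP (LK LD1_c5 LD2_c53 LD3_c11)) :=
  Lre_b IH (LK LD1_c11 LD2_c32 LD3_c28) (LK LD1_c5 LD2_c53 LD3_c11) Lrfl Lrfl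
theorem f573384 : Led Lsl_cf (LP (LK LD1_c11 LD2_c29 LD3_c33)) = (LP (LK LD1_c11 LD2_c32 LD3_c28)) :=
  Lgr Lrot58 (Lpr_gf (f573382 IH) (Lpe (f181547 IH) (Lpe (f563197 IH) (Lpe (K40.f563386 IH) (Lpe (K38.f175604 IH) (Lpr_ct (K38.f175601 IH) (Lpe (f561225 IH) (Lpe (K38.f211095 IH) (Lpe (K39.f211082 IH) (Lpe (f211083 IH) (Lpn (LP (LK LD1_c11 LD2_c32 LD3_c28)))))))))))))
theorem f428175 : Led Lsl_dt (LP (LK LD1_c2 LD2_c55 LD3_c48)) = (LP (LK LD1_c5 LD2_c58 LD3_c46)) :=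
  Lre_d IH (LK LD1_c2 LD2_c55 LD3_c48) (LK LD1_c5 LD2_c58 LD3_c46) Lrfl Lrfl
theorem f573393 : Led Lsl_gt (LP (LK LD1_c5 LD2_c58 LD3_c46)) = (LP (LK LD1_c11 LD2_c32 LD3_c28)) :=
  Lgr Lrot9 (Lpe (f428175 IH) (Lpr_gt (K40.f157626 IH) (Lpe (K36.f426083 IH) (Lpqs (K36.f539248 IH) (Lpe (K37.f539931 IH) (Lpr_ct (K37.f208541 IH) (Lpe (K38.f136254 IH) (Lpe (K38.f208547 IH) (Lpe (f208557 IH) (Lpr_cf (f573384 IH) (Lpn (LP (LK LD1_c11 LD2_c32 LD3_c28)))))))))))))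
theorem f556119 : Led Lsl_et (LP (LK LD1_c11 LD2_c7 LD3_c7)) = (LP (LK LD1_c5 LD2_c37 LD3_c55)) :=
  Lre_e IH (LK LD1_c11 LD2_c7 LD3_c7) (LK LD1_c5 LD2_c37 LD3_c55) Lrfl Lrfl
theorem f573403 : Led Lsl_dt (LP (LK LD1_c11 LD2_c7 LD3_c7)) = (LP (LK LD1_c11 LD2_c32 LD3_c28)) :=
  Lgr Lrot56 (Lpr_et (f556119 IH) (Lpr_gt (K39.f380298 IH) (Lpe (K42.f548375 IH) (Lpe (K40.f548501 IH) (Lpr_gt (K40.f548512 IH) (Lpe (K38.f545575 IH) (Lpr_et (K36.f539595 IH) (Lpe (K40.f563713 IH) (Lpr_dt (f428175 IH) (Lpr_gt (f573393 IH) (Lpn (LP (LK LD1_c11 LD2_c32 LD3_c28)))))))))))))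
theorem f208523 : Led Lsl_dt (LP (LK LD1_c5 LD2_c50 LD3_c61)) = (LP (LK LD1_c2 LD2_c51 LD3_c44)) :=
  Lre_d IH (LK LD1_c5 LD2_c50 LD3_c61) (LK LD1_c2 LD2_c51 LD3_c44) Lrfl Lrfl
theorem f563175 : Led Lsl_ft (LP (LK LD1_c5 LD2_c58 LD3_c46)) = (LP (LK LD1_c5 LD2_c50 LD3_c61)) :=
  Lgr Lrot54 (Lpe (f428175 IH) (Lpr_ff (K40.f563173 IH) (Lpe (f208523 IH) (Lpn (LP (LK LD1_c5 LD2_c50 LD3_c61))))))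
theorem f208524 : Led Lsl_af (LP (LK LD1_c5 LD2_c50 LD3_c61)) = (LP (LK LD1_c5 LD2_c53 LD3_c26)) :=
  Lgr Lrot117 (Lpr_dt (f208523 IH) (Lpr_at (K36.f208516 IH) (Lpr_dt (K40.f72387 IH) (Lpn (LP (LK LD1_c5 LD2_c53 LD3_c26))))))
theorem f208526 : Led Lsl_at (LP (LK LD1_c5 LD2_c50 LD3_c61)) = (LP (LK LD1_c5 LD2_c53 LD3_c26)) :=
  Lgr Lrot100 (Lpr_af (f208524 IH) (Lpn (LP (LK LD1_c5 LD2_c53 LD3_c26))))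
theorem f573396 : Led Lsl_gf (LP (LK LD1_c5 LD2_c53 LD3_c26)) = (LP (LK LD1_c11 LD2_c32 LD3_c28)) :=
  Lgr Lrot76 (Lpe (f208526 IH) (Lpe (f563175 IH) (Lpr_gt (f573393 IH) (Lpn (LP (LK LD1_c11 LD2_c32 LD3_c28))))))
theorem f573413 : Led Lsl_gf (LP (LK LD1_c5 LD2_c37 LD3_c55)) = K38.v1521 :=
  Lgr Lrot141 (Lpe (f556119 IH) (Lpr_dt (f573403 IH) (Lpe (f573396 IH) (Lpe (K40.f72387 IH) (Lpr_et (K2.f72389 IH) (Lpr_gt (K8.f157615 IH) (Lpr_dt (K8.f137172 IH) (Lpe (K8.f157603 IH) (Lpe (K8.f66375 IH) (Lpr_et (K38.f496036 IH) (Lpn K38.v1521)))))))))))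
theorem f422717 : Led Lsl_bt (LP (LK LD1_c2 LD2_c44 LD3_c56)) = (LP (LK LD1_c3 LD2_c58 LD3_c53)) :=
  Lgr Lrot92 (Lpr_ct (K39.f289412 IH) (Lpr_gt (K38.f289411 IH) (Lpr_cf (K31.f177843 IH) (Lpr_bt (K31.f165163 IH) (Lpr_gt (K9.f164710 IH) (Lpr_ct (K9.f165067 IH) (Lpe (K9.f53317 IH) (Lpe (K9.f40793 IH) (Lpr_bt (K18.f40795 IH) (Lpr_gt (K38.f40796 IH) (Lpn (LP (LK LD1_c3 LD2_c58 LD3_c53)))))))))))))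
theorem f422719 : Led Lsl_bf (LP (LK LD1_c2 LD2_c44 LD3_c56)) = (LP (LK LD1_c3 LD2_c58 LD3_c53)) :=
  Lgr Lrot24 (Lpr_bt (f422717 IH) (Lpn (LP (LK LD1_c3 LD2_c58 LD3_c53))))
theorem f573415 : Led Lsl_bt (LP (LK LD1_c5 LD2_c39 LD3_c57)) = (LP (LK LD1_c6 LD2_c15 LD3_c25)) :=
  Lgr Lrot130 (Lpr_ct (K40.f562151 IH) (Lpe (K40.f561699 IH) (Lpr_cf (K39.f556096 IH) (Lpe (K39.f556106 IH) (Lpr_gf (f573413 IH) (Lpqs (K40.f547775 IH) (Lpr_bf (f422719 IH) (Lpe (K39.f549823 IH) (Lpr_gf (K40.f556305 IH) (Lpe (K40.f541712 IH) (Lpe (K40.f60837 IH) (Lpn (LP (LK LD1_c6 LD2_c15 LD3_c25))))))))))))))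
theorem f506335 : Led Lsl_ef (LP (LK LD1_c1 LD2_c31 LD3_c17)) = K41.v1903 :=
  Lgr Lrot88 (Lpr_et (K41.f506333 IH) (Lpn K41.v1903))
theorem f506336 : Led Lsl_bt (LP (LK LD1_c1 LD2_c31 LD3_c20)) = K41.v1903 :=
  Lgr Lrot119 (Lpe (K39.f116989 IH) (Lpe (K32.f69245 IH) (Lpr_ef (f506335 IH) (Lpn K41.v1903))))
theorem f573417 : Led Lsl_gf (LP (LK LD1_c3 LD2_c10 LD3_c16)) = (LP (LK LD1_c5 LD2_c37 LD3_c5)) :=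
  Lgr Lrot126 (Lpe (K39.f117773 IH) (Lpr_bt (f506336 IH) (Lpq (K41.f538017 IH) (Lpr_gt (K27.f289385 IH) (Lpe (K39.f556096 IH) (Lpr_gt (K40.f561699 IH) (Lpe (K40.f562151 IH) (Lpr_bt (f573415 IH) (Lpr_gt (K40.f60837 IH) (Lpe (K38.f60882 IH) (Lpe (K38.f547291 IH) (Lpn (LP (LK LD1_c5 LD2_c37 LD3_c5))))))))))))))
theorem f117781 : Led Lsl_ct (LP (LK LD1_c3 LD2_c10 LD3_c16)) = (LP (LK LD1_c1 LD2_c31 LD3_c20)) :=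
  Lre_c IH (LK LD1_c3 LD2_c10 LD3_c16) (LK LD1_c1 LD2_c31 LD3_c20) Lrfl Lrfl
theorem f547328 : Led Lsl_bf (LP (LK LD1_c2 LD2_c49 LD3_c3)) = (LP (LK LD1_c5 LD2_c37 LD3_c12)) :=
  Lgr Lrot61 (Lpe (K16.f272365 IH) (Lpe (K38.f212089 IH) (Lpr_ft (K38.f547325 IH) (Lpn (LP (LK LD1_c5 LD2_c37 LD3_c12))))))
theorem f211131 : Led Lsl_bt (LP (LK LD1_c11 LD2_c6 LD3_c9)) = (LP (LK LD1_c5 LD2_c37 LD3_c5)) :=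
  Lre_b IH (LK LD1_c11 LD2_c6 LD3_c9) (LK LD1_c5 LD2_c37 LD3_c5) Lrfl Lrfl
theorem f211151 : Led Lsl_cf (LP (LK LD1_c4 LD2_c56 LD3_c33)) = (LP (LK LD1_c4 LD2_c56 LD3_c33)) :=
  Lgr Lrot97 (Lpr_bt (K39.f211130 IH) (Lpr_ct (K11.f182326 IH) (Lpr_bt (K11.f211148 IH) (Lpr_ct (K11.f182325 IH) (Lpr_bt (K39.f211150 IH) (Lpn (LP (LK LD1_c4 LD2_c56 LD3_c33))))))))
theorem f297433 : Led Lsl_gt (LP (LK LD1_c9 LD2_c44 LD3_c34)) = (LP (LK LD1_c4 LD2_c56 LD3_c33)) :=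
  Lre_g IH (LK LD1_c9 LD2_c44 LD3_c34) (LK LD1_c4 LD2_c56 LD3_c33) Lrfl Lrfl
theorem f419028 : Led Lsl_cf (LP (LK LD1_c9 LD2_c44 LD3_c34)) = (LP (LK LD1_c11 LD2_c6 LD3_c9)) :=
  Lgr Lrot160 (Lpr_gt (f297433 IH) (Lpr_cf (f211151 IH) (Lpr_bt (K39.f211130 IH) (Lpe (K11.f211123 IH) (Lpr_ct (K11.f174948 IH) (Lpe (K12.f201343 IH) (Lpe (K13.f164975 IH) (Lpr_bt (K11.f164853 IH) (Lpr_gt (K38.f164885 IH) (Lpe (f211131 IH) (Lpn (LP (LK LD1_c11 LD2_c6 LD3_c9)))))))))))))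
theorem f573423 : Led Lsl_gt (LP (LK LD1_c8 LD2_c5 LD3_c14)) = (LP (LK LD1_c9 LD2_c44 LD3_c34)) :=
  Lgr Lrot65 (Lpr_cf (K9.f69779 IH) (Lpr_bt (K9.f69776 IH) (Lpe (K10.f197819 IH) (Lpr_bf (f547328 IH) (Lpr_ct (K38.f201346 IH) (Lpqs (K38.f547308 IH) (Lpqs (K41.f552530 IH) (Lpe (K41.f506337 IH) (Lpe (f117781 IH) (Lpr_gf (f573417 IH) (Lpe (f211131 IH) (Lpe (f419028 IH) (Lpn (LP (LK LD1_c9 LD2_c44 LD3_c34)))))))))))))))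
theorem f197880 : Led Lsl_bt (LP (LK LD1_c3 LD2_c3 LD3_c53)) = (LP (LK LD1_c6 LD2_c14 LD3_c3)) :=
  Lre_b IH (LK LD1_c3 LD2_c3 LD3_c53) (LK LD1_c6 LD2_c14 LD3_c3) Lrfl Lrfl
theorem f502422 : Led Lsl_bt (LP (LK LD1_c15 LD2_c7 LD3_c50)) = (LP (LK LD1_c8 LD2_c2 LD3_c6)) :=
  Lre_b IH (LK LD1_c15 LD2_c7 LD3_c50) (LK LD1_c8 LD2_c2 LD3_c6) Lrfl Lrfl
theorem f224881 : Led Lsl_ct (LP (LK LD1_c8 LD2_c1 LD3_c47)) = (LP (LK LD1_c15 LD2_c7 LD3_c8)) :=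
  Lre_c IH (LK LD1_c8 LD2_c1 LD3_c47) (LK LD1_c15 LD2_c7 LD3_c8) Lrfl Lrfl
theorem f554412 : Led Lsl_gt (LP (LK LD1_c15 LD2_c7 LD3_c8)) = (LP (LK LD1_c24 LD2_c55 LD3_c25)) :=
  Lre_g IH (LK LD1_c15 LD2_c7 LD3_c8) (LK LD1_c24 LD2_c55 LD3_c25) Lrfl Lrfl
theorem f237723 : Led Lsl_bt (LP (LK LD1_c16 LD2_c21 LD3_c28)) = (LP (LK LD1_c8 LD2_c44 LD3_c10)) :=
  Lre_b IH (LK LD1_c16 LD2_c21 LD3_c28) (LK LD1_c8 LD2_c44 LD3_c10) Lrfl Lrfl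
theorem f554427 : Led Lsl_ct (LP (LK LD1_c16 LD2_c21 LD3_c28)) = (LP (LK LD1_c24 LD2_c55 LD3_c25)) :=
  Lgr Lrot63 (Lpr_bt (f237723 IH) (Lpr_gt (K38.f237722 IH) (Lpe (K39.f237721 IH) (Lpe (K13.f237707 IH) (Lpe (K21.f269614 IH) (Lpe (K38.f225151 IH) (Lpr_bt (K39.f269632 IH) (Lpr_gt (K39.f554409 IH) (Lpr_ct (f224881 IH) (Lpr_gt (f554412 IH) (Lpn (LP (LK LD1_c24 LD2_c55 LD3_c25)))))))))))))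
theorem f554431 : Led Lsl_cf (LP (LK LD1_c16 LD2_c21 LD3_c28)) = (LP (LK LD1_c24 LD2_c55 LD3_c25)) :=
  Lgr Lrot11 (Lpr_ct (f554427 IH) (Lpn (LP (LK LD1_c24 LD2_c55 LD3_c25))))
theorem f564943 : Led Lsl_bt (LP (LK LD1_c8 LD2_c1 LD3_c0)) = (LP (LK LD1_c15 LD2_c5 LD3_c43)) :=
  Lre_b IH (LK LD1_c8 LD2_c1 LD3_c0) (LK LD1_c15 LD2_c5 LD3_c43) Lrfl Lrfl
theorem f564944 : Led Lsl_dt (LP (LK LD1_c15 LD2_c5 LD3_c43)) = (LP (LK LD1_c16 LD2_c21 LD3_c28)) :=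
  Lgr Lrot79 (Lpe (f564943 IH) (Lpr_df (K41.f564940 IH) (Lpe (f237723 IH) (Lpn (LP (LK LD1_c16 LD2_c21 LD3_c28))))))
theorem f570987 : Led Lsl_ct (LP (LK LD1_c15 LD2_c7 LD3_c50)) = (LP (LK LD1_c15 LD2_c5 LD3_c43)) :=
  Lgr Lrot110 (Lpr_gf (K42.f570983 IH) (Lpe (K42.f158642 IH) (Lpr_gf (K39.f552341 IH) (Lpe (K39.f53126 IH) (Lpr_gt (K39.f554409 IH) (Lpr_ct (f224881 IH) (Lpr_gt (f554412 IH) (Lpe (f554431 IH) (Lpe (f564944 IH) (Lpn (LP (LK LD1_c15 LD2_c5 LD3_c43))))))))))))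
theorem f419031 : Led Lsl_ct (LP (LK LD1_c9 LD2_c44 LD3_c34)) = (LP (LK LD1_c11 LD2_c6 LD3_c9)) :=
  Lgr Lrot59 (Lpr_cf (f419028 IH) (Lpn (LP (LK LD1_c11 LD2_c6 LD3_c9))))
theorem f573429 : Led Lsl_gf (LP (LK LD1_c15 LD2_c5 LD3_c43)) = (LP (LK LD1_c11 LD2_c6 LD3_c9)) :=
  Lgr Lrot129 (Lpe (f570987 IH) (Lpr_bt (f502422 IH) (Lpe (K42.f569957 IH) (Lpe (f197880 IH) (Lpr_ct (K10.f197837 IH) (Lpe (K12.f197909 IH) (Lpe (K2.f69775 IH) (Lpr_bt (K9.f69778 IH) (Lpr_gt (f573423 IH) (Lpr_ct (f419031 IH) (Lpn (LP (LK LD1_c11 LD2_c6 LD3_c9)))))))))))))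
theorem f565024 : Led Lsl_cf (LP (LK LD1_c6 LD2_c13 LD3_c44)) = (LP (LK LD1_c8 LD2_c1 LD3_c0)) :=
  Lgr Lrot166 (Lpr_gt (K41.f420441 IH) (Lpr_dt (K41.f420442 IH) (Lpr_gt (K41.f565021 IH) (Lpr_dt (K41.f160327 IH) (Lpe (K41.f564989 IH) (Lpe (K41.f98103 IH) (Lpe (K41.f565019 IH) (Lpe (K18.f210759 IH) (Lpe (K41.f210763 IH) (Lpn (LP (LK LD1_c8 LD2_c1 LD3_c0))))))))))))
theorem f419030 : Led Lsl_bt (LP (LK LD1_c5 LD2_c37 LD3_c5)) = (LP (LK LD1_c11 LD2_c6 LD3_c9)) :=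
  Lre_b IH (LK LD1_c5 LD2_c37 LD3_c5) (LK LD1_c11 LD2_c6 LD3_c9) Lrfl Lrfl
theorem f547305 : Led Lsl_ct (LP (LK LD1_c5 LD2_c37 LD3_c5)) = (LP (LK LD1_c6 LD2_c15 LD3_c29)) :=
  Lgr Lrot59 (Lpr_cf (K38.f547291 IH) (Lpn (LP (LK LD1_c6 LD2_c15 LD3_c29))))
theorem f573519 : Led Lsl_gt (LP (LK LD1_c4 LD2_c31 LD3_c41)) = (LP (LK LD1_c6 LD2_c15 LD3_c29)) :=
  Lgr Lrot65 (Lpr_cf (K39.f544915 IH) (Lpe (K39.f544913 IH) (Lpe (K39.f380282 IH) (Lpe (K42.f556180 IH) (Lpr_ct (K39.f418854 IH) (Lpe (K42.f570991 IH) (Lpr_cf (K42.f570989 IH) (Lpr_gf (f573429 IH) (Lpe (f419030 IH) (Lpr_ct (f547305 IH) (Lpn (LP (LK LD1_c6 LD2_c15 LD3_c29)))))))))))))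
theorem f547356 : Led Lsl_bf (LP (LK LD1_c8 LD2_c45 LD3_c38)) = (LP (LK LD1_c12 LD2_c8 LD3_c43)) :=
  Lgr Lrot24 (Lpr_bt (K42.f547338 IH) (Lpn (LP (LK LD1_c12 LD2_c8 LD3_c43))))
theorem f573521 : Led Lsl_cf (LP (LK LD1_c12 LD2_c6 LD3_c10)) = (LP (LK LD1_c12 LD2_c8 LD3_c43)) :=
  Lgr Lrot58 (Lpe (K41.f420441 IH) (Lpr_cf (f565024 IH) (Lpr_bt (f564943 IH) (Lpr_gf (f573429 IH) (Lpe (f419030 IH) (Lpr_ct (f547305 IH) (Lpe (f573519 IH) (Lpr_cf (K39.f544915 IH) (Lpe (K38.f547449 IH) (Lpr_bf (f547356 IH) (Lpn (LP (LK LD1_c12 LD2_c8 LD3_c43)))))))))))))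
theorem f565026 : Led Lsl_dt (LP (LK LD1_c21 LD2_c12 LD3_c17)) = (LP (LK LD1_c12 LD2_c6 LD3_c10)) :=
  Lre_d IH (LK LD1_c21 LD2_c12 LD3_c17) (LK LD1_c12 LD2_c6 LD3_c10) Lrfl Lrfl
theorem f565597 : Led Lsl_ef (LP (LK LD1_c7 LD2_c8 LD3_c18)) = (LP (LK LD1_c12 LD2_c6 LD3_c10)) :=
  Lgr Lrot17 (Lpe (K42.f98412 IH) (Lpe (K41.f10594 IH) (Lpr_dt (K3.f6518 IH) (Lpr_gf (K41.f565583 IH) (Lpe (K41.f137626 IH) (Lpe (K39.f38493 IH) (Lpr_ef (K41.f565027 IH) (Lpr_dt (K41.f160324 IH) (Lpe (K41.f565021 IH) (Lpe (K41.f420442 IH) (Lpn (LP (LK LD1_c12 LD2_c6 LD3_c10)))))))))))))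
theorem f565601 : Led Lsl_gt (LP (LK LD1_c13 LD2_c30 LD3_c57)) = (LP (LK LD1_c21 LD2_c12 LD3_c17)) :=
  Lgr Lrot112 (Lpe (K41.f10507 IH) (Lpe (K41.f540731 IH) (Lpe (K41.f203358 IH) (Lpr_ef (K36.f540832 IH) (Lpr_dt (K36.f198222 IH) (Lpe (K41.f540973 IH) (Lpe (K36.f98054 IH) (Lpe (K41.f6554 IH) (Lpr_ef (f565597 IH) (Lpr_dt (K41.f420442 IH) (Lpn (LP (LK LD1_c21 LD2_c12 LD3_c17)))))))))))))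
theorem f11602 : Led Lsl_gt (LP (LK LD1_c3 LD2_c33 LD3_c8)) = (LP (LK LD1_c7 LD2_c7 LD3_c8)) :=
  Lre_g IH (LK LD1_c3 LD2_c33 LD3_c8) (LK LD1_c7 LD2_c7 LD3_c8) Lrfl Lrfl
theorem f160303 : Led Lsl_dt (LP (LK LD1_c7 LD2_c7 LD3_c8)) = (LP (LK LD1_c13 LD2_c29 LD3_c23)) :=
  Lre_d IH (LK LD1_c7 LD2_c7 LD3_c8) (LK LD1_c13 LD2_c29 LD3_c23) Lrfl Lrfl
theorem f547359 : Led Lsl_dt (LP (LK LD1_c21 LD2_c15 LD3_c1)) = (LP (LK LD1_c12 LD2_c8 LD3_c43)) :=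
  Lre_d IH (LK LD1_c21 LD2_c15 LD3_c1) (LK LD1_c12 LD2_c8 LD3_c43) Lrfl Lrfl
theorem f573529 : Led Lsl_gt (LP (LK LD1_c13 LD2_c29 LD3_c23)) = (LP (LK LD1_c21 LD2_c15 LD3_c1)) :=
  Lgr Lrot49 (Lpe (f160303 IH) (Lpe (f11602 IH) (Lpe (K8.f98472 IH) (Lpr_gt (K41.f10506 IH) (Lpr_dt (K41.f10507 IH) (Lpr_gt (f565601 IH) (Lpr_dt (f565026 IH) (Lpr_cf (f573521 IH) (Lpe (f547359 IH) (Lpn (LP (LK LD1_c21 LD2_c15 LD3_c1))))))))))))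
theorem f547358 : Led Lsl_dt (LP (LK LD1_c12 LD2_c8 LD3_c43)) = (LP (LK LD1_c21 LD2_c15 LD3_c1)) :=
  Lre_d IH (LK LD1_c12 LD2_c8 LD3_c43) (LK LD1_c21 LD2_c15 LD3_c1) Lrfl Lrfl
theorem f11559 : Led Lsl_et (LP (LK LD1_c1 LD2_c43 LD3_c18)) = (LP (LK LD1_c3 LD2_c33 LD3_c8)) :=
  Lre_e IH (LK LD1_c1 LD2_c43 LD3_c18) (LK LD1_c3 LD2_c33 LD3_c8) Lrfl Lrfl
theorem f573542 : Led Lsl_ef (LP (LK LD1_c13 LD2_c26 LD3_c44)) = (LP (LK LD1_c12 LD2_c8 LD3_c43)) :=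
  Lgr Lrot114 (Lpr_gt (K41.f97426 IH) (Lpe (K34.f97392 IH) (Lpr_dt (K3.f97390 IH) (Lpr_gt (K3.f10821 IH) (Lpe (K3.f11536 IH) (Lpr_et (f11559 IH) (Lpr_gt (f11602 IH) (Lpr_dt (f160303 IH) (Lpr_gt (f573529 IH) (Lpe (f547358 IH) (Lpn (LP (LK LD1_c12 LD2_c8 LD3_c43)))))))))))))
theorem f538558 : Led Lsl_et (LP (LK LD1_c4 LD2_c27 LD3_c4)) = (LP (LK LD1_c4 LD2_c0 LD3_c7)) :=
  Lgr Lrot123 (Lpr_af (K35.f538549 IH) (Lpe (K35.f538511 IH) (Lpr_af (K36.f142166 IH) (Lpn (LP (LK LD1_c4 LD2_c0 LD3_c7))))))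
theorem f573544 : Led Lsl_et (LP (LK LD1_c7 LD2_c7 LD3_c8)) = (LP (LK LD1_c4 LD2_c24 LD3_c41)) :=
  Lgr Lrot122 (Lpr_dt (f160303 IH) (Lpr_gt (f573529 IH) (Lpe (f547358 IH) (Lpe (f573542 IH) (Lpr_gt (K41.f97426 IH) (Lpr_dt (K34.f97393 IH) (Lpe (K41.f540612 IH) (Lpe (K35.f198230 IH) (Lpr_et (f538558 IH) (Lpe (K36.f142234 IH) (Lpn (LP (LK LD1_c4 LD2_c24 LD3_c41)))))))))))))
theorem f150055 : Led Lsl_ft (LP (LK LD1_c4 LD2_c24 LD3_c41)) = (LP (LK LD1_c7 LD2_c56 LD3_c48)) :=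
  Lgr Lrot4 (Lpe (K6.f35997 IH) (Lpr_ff (K7.f150049 IH) (Lpe (K28.f36051 IH) (Lpn (LP (LK LD1_c7 LD2_c56 LD3_c48))))))
theorem f573556 : Led Lsl_ff (LP (LK LD1_c7 LD2_c7 LD3_c8)) = (LP (LK LD1_c7 LD2_c13 LD3_c49)) :=
  Lgr Lrot72 (Lpr_et (f573544 IH) (Lpr_ft (f150055 IH) (Lpr_et (K42.f568830 IH) (Lpe (f568790 IH) (Lpe (K42.f571147 IH) (Lpn (LP (LK LD1_c7 LD2_c13 LD3_c49))))))))
theorem f452179 : Led Lsl_at (LP (LK LD1_c0 LD2_c29 LD3_c6)) = (LP (LK LD1_c1 LD2_c3 LD3_c47)) :=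
  Lre_a IH (LK LD1_c0 LD2_c29 LD3_c6) (LK LD1_c1 LD2_c3 LD3_c47) Lrfl Lrfl
theorem f494170 : Led Lsl_ft (LP (LK LD1_c1 LD2_c3 LD3_c49)) = (LP (LK LD1_c0 LD2_c29 LD3_c6)) :=
  Lre_f IH (LK LD1_c1 LD2_c3 LD3_c49) (LK LD1_c0 LD2_c29 LD3_c6) Lrfl Lrfl
theorem f494171 : Led Lsl_gt (LP (LK LD1_c1 LD2_c3 LD3_c49)) = K42.v1230 :=
  Lgr Lrot5 (Lpr_ft (f494170 IH) (Lpr_at (f452179 IH) (Lpr_gf (K42.f494169 IH) (Lpn K42.v1230))))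
theorem f552724 : Led Lsl_bf (LP (LK LD1_c3 LD2_c36 LD3_c48)) = (LP (LK LD1_c4 LD2_c32 LD3_c57)) :=
  Lgr Lrot96 (Lpr_et (K8.f93084 IH) (Lpr_bt (K37.f93087 IH) (Lpr_et (K39.f552709 IH) (Lpn (LP (LK LD1_c4 LD2_c32 LD3_c57))))))
theorem f569704 : Led Lsl_gt (LP (LK LD1_c3 LD2_c36 LD3_c48)) = (LP (LK LD1_c5 LD2_c42 LD3_c38)) :=
  Lgr Lrot82 (Lpr_bf (f552724 IH) (Lpr_ct (K42.f494141 IH) (Lpqs (K42.f568886 IH) (Lpe (f494171 IH) (Lpe (K37.f101337 IH) (Lpr_bt (K37.f39194 IH) (Lpe (K11.f101331 IH) (Lpe (K38.f101334 IH) (Lpr_ct (K42.f197421 IH) (Lpr_gf (K42.f569700 IH) (Lpe (K42.f569694 IH) (Lpn (LP (LK LD1_c5 LD2_c42 LD3_c38))))))))))))))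
theorem f573566 : Led Lsl_at (LP (LK LD1_c7 LD2_c7 LD3_c8)) = (LP (LK LD1_c5 LD2_c42 LD3_c38)) :=
  Lgr Lrot26 (Lpr_ff (f573556 IH) (Lpr_gt (K42.f93101 IH) (Lpr_gt (f569704 IH) (Lpn (LP (LK LD1_c5 LD2_c42 LD3_c38))))))
theorem f11603 : Led Lsl_dt (LP (LK LD1_c13 LD2_c29 LD3_c23)) = (LP (LK LD1_c7 LD2_c7 LD3_c8)) :=
  Lre_d IH (LK LD1_c13 LD2_c29 LD3_c23) (LK LD1_c7 LD2_c7 LD3_c8) Lrfl Lrfl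
theorem f573568 : Led Lsl_af (LP (LK LD1_c13 LD2_c29 LD3_c23)) = (LP (LK LD1_c11 LD2_c15 LD3_c28)) :=
  Lgr Lrot117 (Lpr_dt (f11603 IH) (Lpr_at (f573566 IH) (Lpr_dt (K42.f411729 IH) (Lpn (LP (LK LD1_c11 LD2_c15 LD3_c28))))))
theorem f11604 : Led Lsl_et (LP (LK LD1_c13 LD2_c29 LD3_c23)) = (LP (LK LD1_c22 LD2_c49 LD3_c52)) :=
  Lre_e IH (LK LD1_c13 LD2_c29 LD3_c23) (LK LD1_c22 LD2_c49 LD3_c52) Lrfl Lrfl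
theorem f556848 : Led Lsl_et (LP (LK LD1_c20 LD2_c10 LD3_c36)) = (LP (LK LD1_c11 LD2_c15 LD3_c28)) :=
  Lre_e IH (LK LD1_c20 LD2_c10 LD3_c36) (LK LD1_c11 LD2_c15 LD3_c28) Lrfl Lrfl
theorem f573574 : Led Lsl_at (LP (LK LD1_c22 LD2_c49 LD3_c52)) = (LP (LK LD1_c20 LD2_c10 LD3_c36)) :=
  Lgr Lrot80 (Lpe (f11604 IH) (Lpr_af (f573568 IH) (Lpe (f556848 IH) (Lpn (LP (LK LD1_c20 LD2_c10 LD3_c36))))))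
theorem f424269 : Led Lsl_bt (LP (LK LD1_c20 LD2_c10 LD3_c36)) = (LP (LK LD1_c11 LD2_c15 LD3_c31)) :=
  Lre_b IH (LK LD1_c20 LD2_c10 LD3_c36) (LK LD1_c11 LD2_c15 LD3_c31) Lrfl Lrfl
theorem f281975 : Led Lsl_et (LP (LK LD1_c5 LD2_c42 LD3_c40)) = (LP (LK LD1_c11 LD2_c15 LD3_c31)) :=
  Lre_e IH (LK LD1_c5 LD2_c42 LD3_c40) (LK LD1_c11 LD2_c15 LD3_c31) Lrfl Lrfl
theorem f423855 : Led Lsl_af (LP (LK LD1_c16 LD2_c19 LD3_c32)) = (LP (LK LD1_c11 LD2_c15 LD3_c31)) :=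
  Lgr Lrot50 (Lpr_et (K38.f385879 IH) (Lpr_at (K31.f423847 IH) (Lpr_et (f281975 IH) (Lpn (LP (LK LD1_c11 LD2_c15 LD3_c31))))))
theorem f573578 : Led Lsl_bf (LP (LK LD1_c22 LD2_c49 LD3_c52)) = (LP (LK LD1_c20 LD2_c7 LD3_c42)) :=
  Lgr Lrot81 (Lpr_at (f573574 IH) (Lpr_bt (f424269 IH) (Lpe (f423855 IH) (Lpr_bt (K38.f398571 IH) (Lpe (K38.f423667 IH) (Lpn (LP (LK LD1_c20 LD2_c7 LD3_c42))))))))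
theorem f573580 : Led Lsl_bt (LP (LK LD1_c22 LD2_c49 LD3_c52)) = (LP (LK LD1_c20 LD2_c7 LD3_c42)) :=
  Lgr Lrot127 (Lpr_bf (f573578 IH) (Lpn (LP (LK LD1_c20 LD2_c7 LD3_c42))))
theorem f423555 : Led Lsl_et (LP (LK LD1_c20 LD2_c7 LD3_c42)) = (LP (LK LD1_c11 LD2_c13 LD3_c4)) :=
  Lre_e IH (LK LD1_c20 LD2_c7 LD3_c42) (LK LD1_c11 LD2_c13 LD3_c4) Lrfl Lrfl
theorem f573582 : Led Lsl_bf (LP (LK LD1_c13 LD2_c29 LD3_c23)) = (LP (LK LD1_c11 LD2_c13 LD3_c4)) :=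
  Lgr Lrot96 (Lpr_et (f11604 IH) (Lpr_bt (f573580 IH) (Lpr_et (f423555 IH) (Lpn (LP (LK LD1_c11 LD2_c13 LD3_c4))))))
theorem f410596 : Led Lsl_at (LP (LK LD1_c12 LD2_c8 LD3_c44)) = (LP (LK LD1_c21 LD2_c15 LD3_c1)) :=
  Lre_a IH (LK LD1_c12 LD2_c8 LD3_c44) (LK LD1_c21 LD2_c15 LD3_c1) Lrfl Lrfl
theorem f197511 : Led Lsl_dt (LP (LK LD1_c5 LD2_c46 LD3_c45)) = (LP (LK LD1_c11 LD2_c23 LD3_c43)) :=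
  Lre_d IH (LK LD1_c5 LD2_c46 LD3_c45) (LK LD1_c11 LD2_c23 LD3_c43) Lrfl Lrfl
theorem f410593 : Led Lsl_dt (LP (LK LD1_c12 LD2_c8 LD3_c44)) = (LP (LK LD1_c6 LD2_c15 LD3_c14)) :=
  Lre_d IH (LK LD1_c12 LD2_c8 LD3_c44) (LK LD1_c6 LD2_c15 LD3_c14) Lrfl Lrfl
theorem f410594 : Led Lsl_ft (LP (LK LD1_c11 LD2_c23 LD3_c43)) = (LP (LK LD1_c12 LD2_c8 LD3_c44)) :=
  Lgr Lrot54 (Lpe (f197511 IH) (Lpr_ff (K39.f410589 IH) (Lpe (f410593 IH) (Lpn (LP (LK LD1_c12 LD2_c8 LD3_c44))))))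
theorem f573531 : Led Lsl_gf (LP (LK LD1_c13 LD2_c29 LD3_c23)) = (LP (LK LD1_c11 LD2_c23 LD3_c43)) :=
  Lgr Lrot47 (Lpr_gt (f573529 IH) (Lpe (f410596 IH) (Lpe (f410594 IH) (Lpn (LP (LK LD1_c11 LD2_c23 LD3_c43))))))
theorem f241091 : Led Lsl_bt (LP (LK LD1_c5 LD2_c46 LD3_c46)) = (LP (LK LD1_c11 LD2_c23 LD3_c43)) :=
  Lre_b IH (LK LD1_c5 LD2_c46 LD3_c46) (LK LD1_c11 LD2_c23 LD3_c43) Lrfl Lrfl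
theorem f566848 : Led Lsl_bt (LP (LK LD1_c7 LD2_c56 LD3_c25)) = (LP (LK LD1_c5 LD2_c46 LD3_c36)) :=
  Lgr Lrot35 (Lpr_ff (K41.f566844 IH) (Lpr_bf (K39.f421116 IH) (Lpe (K37.f410521 IH) (Lpn (LP (LK LD1_c5 LD2_c46 LD3_c36))))))
theorem f418232 : Led Lsl_ct (LP (LK LD1_c7 LD2_c56 LD3_c25)) = (LP (LK LD1_c14 LD2_c58 LD3_c44)) :=
  Lre_c IH (LK LD1_c7 LD2_c56 LD3_c25) (LK LD1_c14 LD2_c58 LD3_c44) Lrfl Lrfl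
theorem f573588 : Led Lsl_gf (LP (LK LD1_c14 LD2_c58 LD3_c44)) = (LP (LK LD1_c20 LD2_c7 LD3_c41)) :=
  Lgr Lrot126 (Lpe (f418232 IH) (Lpr_bt (f566848 IH) (Lpr_gt (K13.f241087 IH) (Lpr_ct (K13.f227691 IH) (Lpe (K13.f241089 IH) (Lpe (K13.f175005 IH) (Lpr_bt (f241091 IH) (Lpe (f573531 IH) (Lpr_bf (f573582 IH) (Lpr_ct (K42.f423551 IH) (Lpn (LP (LK LD1_c20 LD2_c7 LD3_c41)))))))))))))
theorem f551974 : Led Lsl_ct (LP (LK LD1_c20 LD2_c9 LD3_c14)) = (LP (LK LD1_c11 LD2_c14 LD3_c17)) :=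
  Lre_c IH (LK LD1_c20 LD2_c9 LD3_c14) (LK LD1_c11 LD2_c14 LD3_c17) Lrfl Lrfl
theorem f551975 : Led Lsl_gf (LP (LK LD1_c20 LD2_c9 LD3_c14)) = (LP (LK LD1_c14 LD2_c58 LD3_c44)) :=
  Lgr Lrot104 (Lpr_ct (f551974 IH) (Lpe (K40.f551973 IH) (Lpe (K40.f422810 IH) (Lpe (K39.f175482 IH) (Lpe (K10.f181580 IH) (Lpr_gf (K39.f551965 IH) (Lpe (K39.f172304 IH) (Lpr_gt (K41.f238876 IH) (Lpr_ct (f418232 IH) (Lpn (LP (LK LD1_c14 LD2_c58 LD3_c44))))))))))))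
theorem f424301 : Led Lsl_ff (LP (LK LD1_c19 LD2_c21 LD3_c48)) = (LP (LK LD1_c20 LD2_c7 LD3_c41)) :=
  Lgr Lrot3 (Lpr_ft (K42.f424296 IH) (Lpn (LP (LK LD1_c20 LD2_c7 LD3_c41))))
theorem f573590 : Led Lsl_af (LP (LK LD1_c20 LD2_c9 LD3_c14)) = (LP (LK LD1_c19 LD2_c21 LD3_c48)) :=
  Lgr Lrot31 (Lpr_gf (f551975 IH) (Lpr_gf (f573588 IH) (Lpe (f424301 IH) (Lpn (LP (LK LD1_c19 LD2_c21 LD3_c48))))))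
theorem f563707 : Led Lsl_bt (LP (LK LD1_c20 LD2_c9 LD3_c14)) = (LP (LK LD1_c29 LD2_c19 LD3_c32)) :=
  Lre_b IH (LK LD1_c20 LD2_c9 LD3_c14) (LK LD1_c29 LD2_c19 LD3_c32) Lrfl Lrfl
theorem f391768 : Led Lsl_bt (LP (LK LD1_c28 LD2_c45 LD3_c59)) = (LP (LK LD1_c19 LD2_c21 LD3_c32)) :=
  Lre_b IH (LK LD1_c28 LD2_c45 LD3_c59) (LK LD1_c19 LD2_c21 LD3_c32) Lrfl Lrfl
theorem f573597 : Led Lsl_at (LP (LK LD1_c29 LD2_c19 LD3_c32)) = (LP (LK LD1_c28 LD2_c45 LD3_c59)) :=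
  Lgr Lrot67 (Lpe (f563707 IH) (Lpr_af (f573590 IH) (Lpe (K42.f277307 IH) (Lpe (K42.f391828 IH) (Lpe (f391768 IH) (Lpn (LP (LK LD1_c28 LD2_c45 LD3_c59))))))))
theorem f392036 : Led Lsl_ft (LP (LK LD1_c10 LD2_c41 LD3_c48)) = (LP (LK LD1_c19 LD2_c21 LD3_c32)) :=
  Lgr Lrot48 (Lpr_ff (K42.f392025 IH) (Lpn (LP (LK LD1_c19 LD2_c21 LD3_c32))))
theorem f218429 : Led Lsl_bt (LP (LK LD1_c19 LD2_c21 LD3_c41)) = (LP (LK LD1_c10 LD2_c41 LD3_c48)) :=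
  Lre_b IH (LK LD1_c19 LD2_c21 LD3_c41) (LK LD1_c10 LD2_c41 LD3_c48) Lrfl Lrfl
theorem f391763 : Led Lsl_bt (LP (LK LD1_c19 LD2_c21 LD3_c32)) = (LP (LK LD1_c28 LD2_c45 LD3_c59)) :=
  Lre_b IH (LK LD1_c19 LD2_c21 LD3_c32) (LK LD1_c28 LD2_c45 LD3_c59) Lrfl Lrfl
theorem f392082 : Led Lsl_ff (LP (LK LD1_c19 LD2_c21 LD3_c41)) = (LP (LK LD1_c28 LD2_c45 LD3_c59)) :=
  Lgr Lrot25 (Lpr_bt (f218429 IH) (Lpr_ft (f392036 IH) (Lpr_bt (f391763 IH) (Lpn (LP (LK LD1_c28 LD2_c45 LD3_c59))))))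
theorem f573603 : Led Lsl_ff (LP (LK LD1_c29 LD2_c19 LD3_c32)) = (LP (LK LD1_c28 LD2_c46 LD3_c9)) :=
  Lgr Lrot30 (Lpr_at (f573597 IH) (Lpe (f392082 IH) (Lpr_at (K42.f392084 IH) (Lpn (LP (LK LD1_c28 LD2_c46 LD3_c9))))))
theorem f573608 : Led Lsl_ft (LP (LK LD1_c29 LD2_c19 LD3_c32)) = (LP (LK LD1_c28 LD2_c46 LD3_c9)) :=
  Lgr Lrot48 (Lpr_ff (f573603 IH) (Lpn (LP (LK LD1_c28 LD2_c46 LD3_c9))))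
theorem f573610 : Led Lsl_ff (LP (LK LD1_c20 LD2_c9 LD3_c14)) = (LP (LK LD1_c24 LD2_c52 LD3_c60)) :=
  Lgr Lrot25 (Lpr_bt (f563707 IH) (Lpr_ft (f573608 IH) (Lpr_bt (K42.f424288 IH) (Lpn (LP (LK LD1_c24 LD2_c52 LD3_c60))))))
theorem f573595 : Led Lsl_at (LP (LK LD1_c20 LD2_c9 LD3_c14)) = (LP (LK LD1_c19 LD2_c21 LD3_c48)) :=
  Lgr Lrot100 (Lpr_af (f573590 IH) (Lpn (LP (LK LD1_c19 LD2_c21 LD3_c48))))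
theorem f117780 : Led Lsl_ct (LP (LK LD1_c12 LD2_c7 LD3_c18)) = (LP (LK LD1_c21 LD2_c13 LD3_c28)) :=
  Lre_c IH (LK LD1_c12 LD2_c7 LD3_c18) (LK LD1_c21 LD2_c13 LD3_c28) Lrfl Lrfl
theorem f424304 : Led Lsl_ct (LP (LK LD1_c19 LD2_c21 LD3_c48)) = (LP (LK LD1_c15 LD2_c3 LD3_c51)) :=
  Lgr Lrot40 (Lpr_ff (f424301 IH) (Lpe (K42.f423551 IH) (Lpr_ff (K39.f423549 IH) (Lpn (LP (LK LD1_c15 LD2_c3 LD3_c51))))))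
theorem f566857 : Led Lsl_gt (LP (LK LD1_c21 LD2_c13 LD3_c28)) = (LP (LK LD1_c19 LD2_c21 LD3_c48)) :=
  Lgr Lrot150 (Lpe (f117780 IH) (Lpr_gf (K41.f566855 IH) (Lpe (K39.f99603 IH) (Lpr_gt (K30.f495257 IH) (Lpr_ct (K39.f174901 IH) (Lpe (K39.f552072 IH) (Lpe (K30.f174540 IH) (Lpe (K39.f174552 IH) (Lpe (f424304 IH) (Lpn (LP (LK LD1_c19 LD2_c21 LD3_c48))))))))))))
theorem f573614 : Led Lsl_gf (LP (LK LD1_c21 LD2_c13 LD3_c28)) = (LP (LK LD1_c24 LD2_c52 LD3_c60)) :=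
  Lgr Lrot47 (Lpr_gt (f566857 IH) (Lpe (f573595 IH) (Lpr_ff (f573610 IH) (Lpn (LP (LK LD1_c24 LD2_c52 LD3_c60))))))
theorem f382080 : Led Lsl_ct (LP (LK LD1_c15 LD2_c3 LD3_c52)) = (LP (LK LD1_c24 LD2_c52 LD3_c60)) :=
  Lre_c IH (LK LD1_c15 LD2_c3 LD3_c52) (LK LD1_c24 LD2_c52 LD3_c60) Lrfl Lrfl
theorem f400173 : Led Lsl_gf (LP (LK LD1_c16 LD2_c20 LD3_c16)) = (LP (LK LD1_c19 LD2_c10 LD3_c38)) :=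
  Lgr Lrot76 (Lpe (K41.f237460 IH) (Lpe (K18.f297440 IH) (Lpr_gt (K39.f400171 IH) (Lpn (LP (LK LD1_c19 LD2_c10 LD3_c38))))))
theorem f573616 : Led Lsl_bt (LP (LK LD1_c12 LD2_c7 LD3_c18)) = (LP (LK LD1_c21 LD2_c12 LD3_c17)) :=
  Lgr Lrot130 (Lpr_ct (f117780 IH) (Lpr_gf (f573614 IH) (Lpe (f382080 IH) (Lpe (K38.f398568 IH) (Lpr_gf (K31.f385872 IH) (Lpe (K31.f297144 IH) (Lpr_ct (K22.f237459 IH) (Lpr_gf (f400173 IH) (Lpr_cf (K41.f565000 IH) (Lpe (K41.f565021 IH) (Lpn (LP (LK LD1_c21 LD2_c12 LD3_c17)))))))))))))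
theorem f573621 : Led Lsl_bf (LP (LK LD1_c12 LD2_c7 LD3_c18)) = (LP (LK LD1_c21 LD2_c12 LD3_c17)) :=
  Lgr Lrot24 (Lpr_bt (f573616 IH) (Lpn (LP (LK LD1_c21 LD2_c12 LD3_c17))))
theorem f573629 : Led Lsl_ft (LP (LK LD1_c14 LD2_c58 LD3_c46)) = (LP (LK LD1_c21 LD2_c12 LD3_c17)) :=
  Lgr Lrot75 (Lpe (K41.f404357 IH) (Lpe (K41.f557162 IH) (Lpr_bf (f573621 IH) (Lpn (LP (LK LD1_c21 LD2_c12 LD3_c17))))))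
theorem f573633 : Led Lsl_ff (LP (LK LD1_c14 LD2_c58 LD3_c46)) = (LP (LK LD1_c21 LD2_c12 LD3_c17)) :=
  Lgr Lrot3 (Lpr_ft (f573629 IH) (Lpn (LP (LK LD1_c21 LD2_c12 LD3_c17))))
theorem f573637 : Led Lsl_ft (LP (LK LD1_c11 LD2_c6 LD3_c49)) = (LP (LK LD1_c12 LD2_c6 LD3_c10)) :=
  Lgr Lrot54 (Lpr_df (K41.f556806 IH) (Lpr_ff (f573633 IH) (Lpe (K41.f420442 IH) (Lpn (LP (LK LD1_c12 LD2_c6 LD3_c10))))))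
theorem f240843 : Led Lsl_at (LP (LK LD1_c10 LD2_c1 LD3_c24)) = (LP (LK LD1_c5 LD2_c5 LD3_c9)) :=
  Lre_a IH (LK LD1_c10 LD2_c1 LD3_c24) (LK LD1_c5 LD2_c5 LD3_c9) Lrfl Lrfl
theorem f573191 : Led Lsl_ft (LP (LK LD1_c7 LD2_c14 LD3_c32)) = (LP (LK LD1_c10 LD2_c1 LD3_c24)) :=
  Lgr Lrot101 (Lpr_af (f573177 IH) (Lpe (f411049 IH) (Lpe (f240843 IH) (Lpn (LP (LK LD1_c10 LD2_c1 LD3_c24))))))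
theorem f573639 : Led Lsl_ff (LP (LK LD1_c3 LD2_c37 LD3_c4)) = (LP (LK LD1_c7 LD2_c8 LD3_c18)) :=
  Lgr Lrot72 (Lpr_et (K42.f569915 IH) (Lpr_ft (f573191 IH) (Lpr_et (K41.f556853 IH) (Lpr_ft (f573637 IH) (Lpe (f565597 IH) (Lpn (LP (LK LD1_c7 LD2_c8 LD3_c18))))))))
theorem f573645 : Led Lsl_ft (LP (LK LD1_c3 LD2_c37 LD3_c4)) = (LP (LK LD1_c7 LD2_c8 LD3_c18)) :=
  Lgr Lrot48 (Lpr_ff (f573639 IH) (Lpn (LP (LK LD1_c7 LD2_c8 LD3_c18))))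
theorem f573655 : Led Lsl_af (LP (LK LD1_c3 LD2_c37 LD3_c5)) = (LP (LK LD1_c7 LD2_c8 LD3_c18)) :=
  Lgr Lrot31 (Lpr_gf (K42.f98399 IH) (Lpe (K41.f98426 IH) (Lpr_ft (f573645 IH) (Lpn (LP (LK LD1_c7 LD2_c8 LD3_c18))))))
theorem f241856 : Led Lsl_ff (LP (LK LD1_c6 LD2_c14 LD3_c5)) = (LP (LK LD1_c5 LD2_c12 LD3_c57)) :=
  Lgr Lrot23 (Lpr_ct (K10.f37198 IH) (Lpr_ft (K13.f241854 IH) (Lpr_ct (K13.f241073 IH) (Lpn (LP (LK LD1_c5 LD2_c12 LD3_c57))))))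
theorem f241460 : Led Lsl_bt (LP (LK LD1_c5 LD2_c12 LD3_c55)) = (LP (LK LD1_c10 LD2_c16 LD3_c8)) :=
  Lre_b IH (LK LD1_c5 LD2_c12 LD3_c55) (LK LD1_c10 LD2_c16 LD3_c8) Lrfl Lrfl
theorem f571182 : Led Lsl_bt (LP (LK LD1_c7 LD2_c8 LD3_c17)) = (LP (LK LD1_c5 LD2_c12 LD3_c57)) :=
  Lgr Lrot128 (Lpr_cf (K42.f571180 IH) (Lpe (f241460 IH) (Lpe (K13.f241471 IH) (Lpr_bf (K13.f241848 IH) (Lpr_cf (K13.f241075 IH) (Lpn (LP (LK LD1_c5 LD2_c12 LD3_c57))))))))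
theorem f571200 : Led Lsl_ft (LP (LK LD1_c3 LD2_c37 LD3_c5)) = (LP (LK LD1_c7 LD2_c8 LD3_c17)) :=
  Lgr Lrot75 (Lpr_bf (K42.f571194 IH) (Lpr_ff (f241856 IH) (Lpe (f571182 IH) (Lpn (LP (LK LD1_c7 LD2_c8 LD3_c17))))))
theorem f573666 : Led Lsl_at (LP (LK LD1_c7 LD2_c8 LD3_c17)) = (LP (LK LD1_c3 LD2_c37 LD3_c4)) :=
  Lgr Lrot66 (Lpe (f571200 IH) (Lpr_af (f573655 IH) (Lpe (f573645 IH) (Lpn (LP (LK LD1_c3 LD2_c37 LD3_c4))))))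
theorem f573185 : Led Lsl_at (LP (LK LD1_c7 LD2_c14 LD3_c32)) = (LP (LK LD1_c5 LD2_c12 LD3_c56)) :=
  Lgr Lrot100 (Lpr_af (f573177 IH) (Lpn (LP (LK LD1_c5 LD2_c12 LD3_c56))))
theorem f573672 : Led Lsl_ef (LP (LK LD1_c7 LD2_c8 LD3_c17)) = (LP (LK LD1_c5 LD2_c12 LD3_c56)) :=
  Lgr Lrot20 (Lpr_at (f573666 IH) (Lpr_et (K42.f569915 IH) (Lpr_at (f573185 IH) (Lpn (LP (LK LD1_c5 LD2_c12 LD3_c56))))))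
theorem f5680 : Led Lsl_gt (LP (LK LD1_c13 LD2_c46 LD3_c43)) = (LP (LK LD1_c7 LD2_c17 LD3_c33)) :=
  Lre_g IH (LK LD1_c13 LD2_c46 LD3_c43) (LK LD1_c7 LD2_c17 LD3_c33) Lrfl Lrfl
theorem f573677 : Led Lsl_df (LP (LK LD1_c7 LD2_c17 LD3_c33)) = (LP (LK LD1_c5 LD2_c12 LD3_c56)) :=
  Lgr Lrot168 (Lpe (f5680 IH) (Lpe (K0.f5038 IH) (Lpr_et (K41.f5017 IH) (Lpr_gf (K42.f5671 IH) (Lpe (K42.f5677 IH) (Lpr_dt (K42.f98055 IH) (Lpe (K42.f98465 IH) (Lpe (K29.f6155 IH) (Lpr_gf (K42.f98313 IH) (Lpr_ef (f573672 IH) (Lpn (LP (LK LD1_c5 LD2_c12 LD3_c56)))))))))))))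
theorem f5621 : Led Lsl_gt (LP (LK LD1_c7 LD2_c17 LD3_c33)) = (LP (LK LD1_c3 LD2_c38 LD3_c36)) :=
  Lre_g IH (LK LD1_c7 LD2_c17 LD3_c33) (LK LD1_c3 LD2_c38 LD3_c36) Lrfl Lrfl
theorem f4406 : Led Lsl_gt (LP (LK LD1_c7 LD2_c17 LD3_c34)) = (LP (LK LD1_c13 LD2_c47 LD3_c43)) :=
  Lre_g IH (LK LD1_c7 LD2_c17 LD3_c34) (LK LD1_c13 LD2_c47 LD3_c43) Lrfl Lrfl
theorem f573694 : Led Lsl_ct (LP (LK LD1_c13 LD2_c47 LD3_c43)) = (LP (LK LD1_c8 LD2_c4 LD3_c56)) :=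
  Lgr Lrot110 (Lpe (f4406 IH) (Lpe (K0.f5136 IH) (Lpe (f5621 IH) (Lpr_df (f573677 IH) (Lpr_gt (K42.f241892 IH) (Lpe (K42.f569577 IH) (Lpr_gt (K42.f565733 IH) (Lpe (K18.f237432 IH) (Lpe (K18.f225099 IH) (Lpn (LP (LK LD1_c8 LD2_c4 LD3_c56))))))))))))
theorem f573703 : Led Lsl_dt (LP (LK LD1_c23 LD2_c15 LD3_c23)) = (LP (LK LD1_c13 LD2_c47 LD3_c43)) :=
  Lre_d IH (LK LD1_c23 LD2_c15 LD3_c23) (LK LD1_c13 LD2_c47 LD3_c43) Lrfl Lrfl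
theorem f386151 : Led Lsl_at (LP (LK LD1_c15 LD2_c13 LD3_c2)) = (LP (LK LD1_c8 LD2_c4 LD3_c56)) :=
  Lre_a IH (LK LD1_c15 LD2_c13 LD3_c2) (LK LD1_c8 LD2_c4 LD3_c56) Lrfl Lrfl
theorem f386144 : Led Lsl_ff (LP (LK LD1_c15 LD2_c13 LD3_c2)) = (LP (LK LD1_c15 LD2_c10 LD3_c23)) :=
  Lgr Lrot19 (Lpr_dt (K42.f225130 IH) (Lpr_ft (K42.f386142 IH) (Lpr_dt (K42.f386136 IH) (Lpn (LP (LK LD1_c15 LD2_c10 LD3_c23))))))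
theorem f98191 : Led Lsl_et (LP (LK LD1_c7 LD2_c8 LD3_c24)) = (LP (LK LD1_c3 LD2_c33 LD3_c45)) :=
  Lre_e IH (LK LD1_c7 LD2_c8 LD3_c24) (LK LD1_c3 LD2_c33 LD3_c45) Lrfl Lrfl
theorem f570940 : Led Lsl_cf (LP (LK LD1_c7 LD2_c8 LD3_c24)) = (LP (LK LD1_c8 LD2_c3 LD3_c39)) :=
  Lgr Lrot39 (Lpr_et (f98191 IH) (Lpr_ct (K42.f6147 IH) (Lpr_et (K42.f570935 IH) (Lpn (LP (LK LD1_c8 LD2_c3 LD3_c39))))))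
theorem f98192 : Led Lsl_dt (LP (LK LD1_c7 LD2_c8 LD3_c24)) = (LP (LK LD1_c13 LD2_c31 LD3_c21)) :=
  Lre_d IH (LK LD1_c7 LD2_c8 LD3_c24) (LK LD1_c13 LD2_c31 LD3_c21) Lrfl Lrfl
theorem f128255 : Led Lsl_ct (LP (LK LD1_c13 LD2_c31 LD3_c21)) = (LP (LK LD1_c22 LD2_c52 LD3_c32)) :=
  Lre_c IH (LK LD1_c13 LD2_c31 LD3_c21) (LK LD1_c22 LD2_c52 LD3_c32) Lrfl Lrfl
theorem f128261 : Led Lsl_dt (LP (LK LD1_c22 LD2_c52 LD3_c32)) = (LP (LK LD1_c30 LD2_c46 LD3_c13)) :=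
  Lre_d IH (LK LD1_c22 LD2_c52 LD3_c32) (LK LD1_c30 LD2_c46 LD3_c13) Lrfl Lrfl
theorem f573708 : Led Lsl_cf (LP (LK LD1_c23 LD2_c15 LD3_c23)) = (LP (LK LD1_c30 LD2_c46 LD3_c13)) :=
  Lgr Lrot161 (Lpr_dt (f573703 IH) (Lpr_ct (f573694 IH) (Lpe (f386151 IH) (Lpr_ff (f386144 IH) (Lpr_dt (K42.f386138 IH) (Lpe (f570940 IH) (Lpr_dt (f98192 IH) (Lpr_ct (f128255 IH) (Lpr_dt (f128261 IH) (Lpn (LP (LK LD1_c30 LD2_c46 LD3_c13))))))))))))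
theorem f573710 : Led Lsl_ft (LP (LK LD1_c7 LD2_c8 LD3_c24)) = (LP (LK LD1_c8 LD2_c3 LD3_c26)) :=
  Lgr Lrot142 (Lpr_dt (f98192 IH) (Lpr_ct (f128255 IH) (Lpr_dt (f128261 IH) (Lpe (f573708 IH) (Lpr_dt (f573703 IH) (Lpr_ct (f573694 IH) (Lpr_dt (K18.f225099 IH) (Lpr_ct (K18.f237442 IH) (Lpe (K18.f69730 IH) (Lpn (LP (LK LD1_c8 LD2_c3 LD3_c26))))))))))))
theorem f573738 : Led Lsl_ff (LP (LK LD1_c7 LD2_c8 LD3_c24)) = (LP (LK LD1_c8 LD2_c3 LD3_c26)) :=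
  Lgr Lrot3 (Lpr_ft (f573710 IH) (Lpn (LP (LK LD1_c8 LD2_c3 LD3_c26))))
theorem f573740 : Led Lsl_at (LP (LK LD1_c7 LD2_c8 LD3_c24)) = (LP (LK LD1_c4 LD2_c2 LD3_c9)) :=
  Lgr Lrot66 (Lpr_ff (f573738 IH) (Lpe (K18.f69740 IH) (Lpr_ff (K42.f385957 IH) (Lpn (LP (LK LD1_c4 LD2_c2 LD3_c9))))))
theorem f242250 : Led Lsl_gt (LP (LK LD1_c8 LD2_c4 LD3_c52)) = (LP (LK LD1_c4 LD2_c2 LD3_c9)) :=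
  Lre_g IH (LK LD1_c8 LD2_c4 LD3_c52) (LK LD1_c4 LD2_c2 LD3_c9) Lrfl Lrfl
theorem f573742 : Led Lsl_gf (LP (LK LD1_c8 LD2_c4 LD3_c52)) = (LP (LK LD1_c8 LD2_c3 LD3_c26)) :=
  Lgr Lrot47 (Lpr_gt (f242250 IH) (Lpe (f573740 IH) (Lpr_ff (f573738 IH) (Lpn (LP (LK LD1_c8 LD2_c3 LD3_c26))))))
theorem f386165 : Led Lsl_bf (LP (LK LD1_c8 LD2_c3 LD3_c26)) = (LP (LK LD1_c6 LD2_c7 LD3_c32)) :=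
  Lgr Lrot24 (Lpr_bt (K42.f386157 IH) (Lpn (LP (LK LD1_c6 LD2_c7 LD3_c32))))
theorem f573746 : Led Lsl_ct (LP (LK LD1_c8 LD2_c4 LD3_c52)) = (LP (LK LD1_c10 LD2_c1 LD3_c22)) :=
  Lgr Lrot91 (Lpr_gf (f573742 IH) (Lpr_bf (f386165 IH) (Lpr_ct (K39.f176003 IH) (Lpr_gf (K42.f551753 IH) (Lpe (K6.f132618 IH) (Lpe (K38.f132812 IH) (Lpr_gf (K38.f547946 IH) (Lpe (K41.f556873 IH) (Lpe (f566109 IH) (Lpr_gf (f573193 IH) (Lpn (LP (LK LD1_c10 LD2_c1 LD3_c22)))))))))))))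
theorem f225128 : Led Lsl_at (LP (LK LD1_c4 LD2_c2 LD3_c12)) = (LP (LK LD1_c8 LD2_c4 LD3_c55)) :=
  Lre_a IH (LK LD1_c4 LD2_c2 LD3_c12) (LK LD1_c8 LD2_c4 LD3_c55) Lrfl Lrfl
theorem f237438 : Led Lsl_ct (LP (LK LD1_c8 LD2_c4 LD3_c55)) = (LP (LK LD1_c8 LD2_c3 LD3_c26)) :=
  Lgr Lrot111 (Lpe (f225128 IH) (Lpr_cf (K18.f237432 IH) (Lpe (K18.f69730 IH) (Lpn (LP (LK LD1_c8 LD2_c3 LD3_c26))))))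
theorem f287375 : Led Lsl_ft (LP (LK LD1_c4 LD2_c1 LD3_c30)) = (LP (LK LD1_c4 LD2_c2 LD3_c12)) :=
  Lgr Lrot75 (Lpe (K42.f211613 IH) (Lpr_ff (K17.f287361 IH) (Lpe (K42.f33749 IH) (Lpn (LP (LK LD1_c4 LD2_c2 LD3_c12))))))
theorem f563656 : Led Lsl_gt (LP (LK LD1_c4 LD2_c24 LD3_c13)) = (LP (LK LD1_c8 LD2_c4 LD3_c55)) :=
  Lgr Lrot46 (Lpr_gf (f563652 IH) (Lpr_ft (f287375 IH) (Lpr_at (f225128 IH) (Lpn (LP (LK LD1_c8 LD2_c4 LD3_c55))))))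
theorem f540876 : Led Lsl_ct (LP (LK LD1_c9 LD2_c9 LD3_c42)) = (LP (LK LD1_c17 LD2_c2 LD3_c40)) :=
  Lre_c IH (LK LD1_c9 LD2_c9 LD3_c42) (LK LD1_c17 LD2_c2 LD3_c40) Lrfl Lrfl
theorem f5663 : Led Lsl_dt (LP (LK LD1_c7 LD2_c17 LD3_c29)) = (LP (LK LD1_c3 LD2_c38 LD3_c34)) :=
  Lre_d IH (LK LD1_c7 LD2_c17 LD3_c29) (LK LD1_c3 LD2_c38 LD3_c34) Lrfl Lrfl
theorem f97255 : Led Lsl_gt (LP (LK LD1_c13 LD2_c47 LD3_c34)) = (LP (LK LD1_c7 LD2_c17 LD3_c29)) :=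
  Lre_g IH (LK LD1_c13 LD2_c47 LD3_c34) (LK LD1_c7 LD2_c17 LD3_c29) Lrfl Lrfl
theorem f572507 : Led Lsl_dt (LP (LK LD1_c10 LD2_c1 LD3_c22)) = (LP (LK LD1_c13 LD2_c47 LD3_c34)) :=
  Lgr Lrot57 (Lpe (f240707 IH) (Lpe (K41.f240846 IH) (Lpr_gt (K42.f240693 IH) (Lpe (K42.f572498 IH) (Lpr_gt (K42.f572502 IH) (Lpr_dt (K42.f568825 IH) (Lpe (K42.f5627 IH) (Lpe (f5663 IH) (Lpe (f97255 IH) (Lpn (LP (LK LD1_c13 LD2_c47 LD3_c34))))))))))))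
theorem f573753 : Led Lsl_ct (LP (LK LD1_c23 LD2_c15 LD3_c0)) = (LP (LK LD1_c13 LD2_c47 LD3_c34)) :=
  Lre_c IH (LK LD1_c23 LD2_c15 LD3_c0) (LK LD1_c13 LD2_c47 LD3_c34) Lrfl Lrfl
theorem f573754 : Led Lsl_gt (LP (LK LD1_c17 LD2_c2 LD3_c40)) = (LP (LK LD1_c23 LD2_c15 LD3_c0)) :=
  Lgr Lrot187 (Lpe (f540876 IH) (Lpr_gf (f544414 IH) (Lpr_dt (K5.f81002 IH) (Lpr_gt (f563656 IH) (Lpr_ct (f237438 IH) (Lpe (f573742 IH) (Lpr_ct (f573746 IH) (Lpr_dt (f572507 IH) (Lpe (f573753 IH) (Lpn (LP (LK LD1_c23 LD2_c15 LD3_c0))))))))))))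
theorem f573764 : Led Lsl_df (LP (LK LD1_c10 LD2_c1 LD3_c22)) = (LP (LK LD1_c13 LD2_c47 LD3_c34)) :=
  Lgr Lrot162 (Lpe (f573746 IH) (Lpr_gf (f573742 IH) (Lpe (f237438 IH) (Lpe (f563656 IH) (Lpr_dt (K37.f81063 IH) (Lpe (f544414 IH) (Lpr_ct (f540876 IH) (Lpr_gt (f573754 IH) (Lpr_ct (f573753 IH) (Lpn (LP (LK LD1_c13 LD2_c47 LD3_c34))))))))))))
theorem f240848 : Led Lsl_dt (LP (LK LD1_c10 LD2_c1 LD3_c25)) = (LP (LK LD1_c5 LD2_c5 LD3_c9)) :=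
  Lre_d IH (LK LD1_c10 LD2_c1 LD3_c25) (LK LD1_c5 LD2_c5 LD3_c9) Lrfl Lrfl
theorem f17626 : Led Lsl_et (LP (LK LD1_c3 LD2_c38 LD3_c18)) = (LP (LK LD1_c7 LD2_c16 LD3_c52)) :=
  Lre_e IH (LK LD1_c3 LD2_c38 LD3_c18) (LK LD1_c7 LD2_c16 LD3_c52) Lrfl Lrfl
theorem f471423 : Led Lsl_et (LP (LK LD1_c7 LD2_c16 LD3_c57)) = (LP (LK LD1_c13 LD2_c46 LD3_c50)) :=
  Lre_e IH (LK LD1_c7 LD2_c16 LD3_c57) (LK LD1_c13 LD2_c46 LD3_c50) Lrfl Lrfl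
theorem f471418 : Led Lsl_gt (LP (LK LD1_c23 LD2_c14 LD3_c9)) = (LP (LK LD1_c13 LD2_c46 LD3_c50)) :=
  Lre_g IH (LK LD1_c23 LD2_c14 LD3_c9) (LK LD1_c13 LD2_c46 LD3_c50) Lrfl Lrfl
theorem f573768 : Led Lsl_ef (LP (LK LD1_c23 LD2_c14 LD3_c9)) = (LP (LK LD1_c13 LD2_c47 LD3_c34)) :=
  Lgr Lrot114 (Lpr_gt (f471418 IH) (Lpe (f471423 IH) (Lpr_dt (K30.f4159 IH) (Lpr_gt (K33.f4158 IH) (Lpe (K2.f4057 IH) (Lpr_et (f17626 IH) (Lpr_gt (K41.f565695 IH) (Lpr_dt (f240848 IH) (Lpr_gt (f240707 IH) (Lpr_df (f573764 IH) (Lpn (LP (LK LD1_c13 LD2_c47 LD3_c34)))))))))))))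
theorem f411499 : Led Lsl_et (LP (LK LD1_c16 LD2_c21 LD3_c27)) = (LP (LK LD1_c8 LD2_c44 LD3_c9)) :=
  Lre_e IH (LK LD1_c16 LD2_c21 LD3_c27) (LK LD1_c8 LD2_c44 LD3_c9) Lrfl Lrfl
theorem f573772 : Led Lsl_dt (LP (LK LD1_c23 LD2_c14 LD3_c9)) = (LP (LK LD1_c16 LD2_c21 LD3_c27)) :=
  Lgr Lrot77 (Lpr_ef (f573768 IH) (Lpe (f572507 IH) (Lpe (f573200 IH) (Lpe (K38.f550013 IH) (Lpe (f411499 IH) (Lpn (LP (LK LD1_c16 LD2_c21 LD3_c27))))))))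
theorem f573782 : Led Lsl_df (LP (LK LD1_c23 LD2_c14 LD3_c9)) = (LP (LK LD1_c16 LD2_c21 LD3_c27)) :=
  Lgr Lrot38 (Lpr_dt (f573772 IH) (Lpn (LP (LK LD1_c16 LD2_c21 LD3_c27))))
theorem f573774 : Led Lsl_et (LP (LK LD1_c23 LD2_c14 LD3_c9)) = (LP (LK LD1_c13 LD2_c47 LD3_c34)) :=
  Lgr Lrot87 (Lpr_ef (f573768 IH) (Lpn (LP (LK LD1_c13 LD2_c47 LD3_c34))))
theorem f550015 : Led Lsl_et (LP (LK LD1_c8 LD2_c44 LD3_c9)) = (LP (LK LD1_c16 LD2_c21 LD3_c27)) :=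
  Lre_e IH (LK LD1_c8 LD2_c44 LD3_c9) (LK LD1_c16 LD2_c21 LD3_c27) Lrfl Lrfl
theorem f573784 : Led Lsl_et (LP (LK LD1_c10 LD2_c1 LD3_c22)) = (LP (LK LD1_c8 LD2_c0 LD3_c61)) :=
  Lgr Lrot71 (Lpr_df (f573764 IH) (Lpe (f573774 IH) (Lpr_df (f573782 IH) (Lpe (f550015 IH) (Lpr_df (K38.f550011 IH) (Lpn (LP (LK LD1_c8 LD2_c0 LD3_c61))))))))
theorem f573788 : Led Lsl_gf (LP (LK LD1_c13 LD2_c47 LD3_c34)) = (LP (LK LD1_c7 LD2_c17 LD3_c31)) :=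
  Lgr Lrot134 (Lpe (f572507 IH) (Lpr_et (f573784 IH) (Lpe (K38.f297416 IH) (Lpr_ef (K42.f69741 IH) (Lpr_dt (K42.f564955 IH) (Lpe (K42.f5681 IH) (Lpe (K42.f5042 IH) (Lpe (K42.f5033 IH) (Lpr_gt (K42.f5040 IH) (Lpr_dt (K42.f5041 IH) (Lpn (LP (LK LD1_c7 LD2_c17 LD3_c31)))))))))))))
theorem f573752 : Led Lsl_ct (LP (LK LD1_c13 LD2_c47 LD3_c34)) = (LP (LK LD1_c23 LD2_c15 LD3_c0)) :=
  Lre_c IH (LK LD1_c13 LD2_c47 LD3_c34) (LK LD1_c23 LD2_c15 LD3_c0) Lrfl Lrfl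
theorem f5222 : Led Lsl_ct (LP (LK LD1_c1 LD2_c46 LD3_c16)) = (LP (LK LD1_c3 LD2_c38 LD3_c33)) :=
  Lre_c IH (LK LD1_c1 LD2_c46 LD3_c16) (LK LD1_c3 LD2_c38 LD3_c33) Lrfl Lrfl
theorem f6546 : Led Lsl_et (LP (LK LD1_c1 LD2_c45 LD3_c26)) = (LP (LK LD1_c0 LD2_c49 LD3_c23)) :=
  Lre_e IH (LK LD1_c1 LD2_c45 LD3_c26) (LK LD1_c0 LD2_c49 LD3_c23) Lrfl Lrfl
theorem f566075 : Led Lsl_gt (LP (LK LD1_c3 LD2_c38 LD3_c33)) = (LP (LK LD1_c4 LD2_c2 LD3_c6)) :=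
  Lgr Lrot131 (Lpe (K41.f4998 IH) (Lpr_dt (K0.f4975 IH) (Lpe (K2.f5813 IH) (Lpe (K3.f90073 IH) (Lpe (K3.f6124 IH) (Lpe (f6546 IH) (Lpr_dt (K42.f6462 IH) (Lpe (K41.f6540 IH) (Lpr_df (K41.f566061 IH) (Lpr_et (K41.f193494 IH) (Lpn (LP (LK LD1_c4 LD2_c2 LD3_c6)))))))))))))
theorem f190294 : Led Lsl_cf (LP (LK LD1_c4 LD2_c13 LD3_c27)) = (LP (LK LD1_c4 LD2_c2 LD3_c6)) :=
  Lgr Lrot11 (Lpr_ct (K35.f190292 IH) (Lpn (LP (LK LD1_c4 LD2_c2 LD3_c6))))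
theorem f227909 : Led Lsl_df (LP (LK LD1_c4 LD2_c13 LD3_c27)) = (LP (LK LD1_c8 LD2_c3 LD3_c48)) :=
  Lgr Lrot12 (Lpr_bt (K35.f175016 IH) (Lpr_dt (K12.f227906 IH) (Lpr_bt (K37.f227908 IH) (Lpn (LP (LK LD1_c8 LD2_c3 LD3_c48))))))
theorem f573790 : Led Lsl_gt (LP (LK LD1_c23 LD2_c15 LD3_c0)) = (LP (LK LD1_c15 LD2_c10 LD3_c42)) :=
  Lgr Lrot150 (Lpe (f573752 IH) (Lpr_gf (f573788 IH) (Lpe (K42.f5041 IH) (Lpr_gt (K42.f5628 IH) (Lpr_ct (f5222 IH) (Lpr_gt (f566075 IH) (Lpe (f190294 IH) (Lpr_df (f227909 IH) (Lpe (K42.f69753 IH) (Lpn (LP (LK LD1_c15 LD2_c10 LD3_c42))))))))))))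
theorem f34111 : Led Lsl_bt (LP (LK LD1_c8 LD2_c3 LD3_c48)) = (LP (LK LD1_c4 LD2_c1 LD3_c35)) :=
  Lre_b IH (LK LD1_c8 LD2_c3 LD3_c48) (LK LD1_c4 LD2_c1 LD3_c35) Lrfl Lrfl
theorem f231471 : Led Lsl_ft (LP (LK LD1_c4 LD2_c20 LD3_c59)) = (LP (LK LD1_c4 LD2_c25 LD3_c11)) :=
  Lgr Lrot54 (Lpe (K14.f28708 IH) (Lpe (K13.f31410 IH) (Lpr_df (K13.f231463 IH) (Lpn (LP (LK LD1_c4 LD2_c25 LD3_c11))))))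
theorem f418328 : Led Lsl_ff (LP (LK LD1_c8 LD2_c39 LD3_c39)) = (LP (LK LD1_c8 LD2_c47 LD3_c60)) :=
  Lgr Lrot3 (Lpr_ft (K35.f418283 IH) (Lpn (LP (LK LD1_c8 LD2_c47 LD3_c60))))
theorem f418332 : Led Lsl_at (LP (LK LD1_c16 LD2_c28 LD3_c5)) = (LP (LK LD1_c8 LD2_c47 LD3_c60)) :=
  Lre_a IH (LK LD1_c16 LD2_c28 LD3_c5) (LK LD1_c8 LD2_c47 LD3_c60) Lrfl Lrfl
theorem f418333 : Led Lsl_ft (LP (LK LD1_c16 LD2_c13 LD3_c13)) = (LP (LK LD1_c16 LD2_c28 LD3_c5)) :=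
  Lgr Lrot101 (Lpe (K13.f31337 IH) (Lpr_ff (f418328 IH) (Lpe (f418332 IH) (Lpn (LP (LK LD1_c16 LD2_c28 LD3_c5))))))
theorem f31401 : Led Lsl_ft (LP (LK LD1_c16 LD2_c13 LD3_c4)) = (LP (LK LD1_c8 LD2_c39 LD3_c38)) :=
  Lre_f IH (LK LD1_c16 LD2_c13 LD3_c4) (LK LD1_c8 LD2_c39 LD3_c38) Lrfl Lrfl
theorem f418345 : Led Lsl_df (LP (LK LD1_c16 LD2_c13 LD3_c4)) = (LP (LK LD1_c16 LD2_c28 LD3_c5)) :=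
  Lgr Lrot78 (Lpr_ft (f31401 IH) (Lpr_dt (K13.f31317 IH) (Lpr_ft (f418333 IH) (Lpn (LP (LK LD1_c16 LD2_c28 LD3_c5))))))
theorem f31320 : Led Lsl_ft (LP (LK LD1_c16 LD2_c12 LD3_c31)) = (LP (LK LD1_c8 LD2_c39 LD3_c20)) :=
  Lre_f IH (LK LD1_c16 LD2_c12 LD3_c31) (LK LD1_c8 LD2_c39 LD3_c20) Lrfl Lrfl
theorem f31321 : Led Lsl_ft (LP (LK LD1_c8 LD2_c39 LD3_c38)) = (LP (LK LD1_c16 LD2_c13 LD3_c4)) :=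
  Lre_f IH (LK LD1_c8 LD2_c39 LD3_c38) (LK LD1_c16 LD2_c13 LD3_c4) Lrfl Lrfl
theorem f31322 : Led Lsl_bf (LP (LK LD1_c16 LD2_c12 LD3_c31)) = (LP (LK LD1_c16 LD2_c13 LD3_c4)) :=
  Lgr Lrot61 (Lpr_ft (f31320 IH) (Lpr_bt (K13.f31309 IH) (Lpr_ft (f31321 IH) (Lpn (LP (LK LD1_c16 LD2_c13 LD3_c4))))))
theorem f36947 : Led Lsl_bt (LP (LK LD1_c7 LD2_c57 LD3_c4)) = (LP (LK LD1_c14 LD2_c59 LD3_c55)) :=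
  Lre_b IH (LK LD1_c7 LD2_c57 LD3_c4) (LK LD1_c14 LD2_c59 LD3_c55) Lrfl Lrfl
theorem f36969 : Led Lsl_ff (LP (LK LD1_c8 LD2_c39 LD3_c21)) = (LP (LK LD1_c14 LD2_c59 LD3_c55)) :=
  Lgr Lrot25 (Lpr_bt (K13.f31336 IH) (Lpr_ft (K11.f36967 IH) (Lpr_bt (f36947 IH) (Lpn (LP (LK LD1_c14 LD2_c59 LD3_c55))))))
theorem f36979 : Led Lsl_dt (LP (LK LD1_c8 LD2_c39 LD3_c21)) = (LP (LK LD1_c4 LD2_c20 LD3_c49)) :=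
  Lre_d IH (LK LD1_c8 LD2_c39 LD3_c21) (LK LD1_c4 LD2_c20 LD3_c49) Lrfl Lrfl
theorem f36980 : Led Lsl_ft (LP (LK LD1_c4 LD2_c20 LD3_c49)) = (LP (LK LD1_c8 LD2_c39 LD3_c22)) :=
  Lre_f IH (LK LD1_c4 LD2_c20 LD3_c49) (LK LD1_c8 LD2_c39 LD3_c22) Lrfl Lrfl
theorem f36981 : Led Lsl_dt (LP (LK LD1_c8 LD2_c39 LD3_c22)) = (LP (LK LD1_c14 LD2_c59 LD3_c55)) :=
  Lgr Lrot60 (Lpe (f36980 IH) (Lpe (f36979 IH) (Lpr_ff (f36969 IH) (Lpn (LP (LK LD1_c14 LD2_c59 LD3_c55))))))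
theorem f31324 : Led Lsl_at (LP (LK LD1_c16 LD2_c12 LD3_c31)) = (LP (LK LD1_c8 LD2_c39 LD3_c22)) :=
  Lre_a IH (LK LD1_c16 LD2_c12 LD3_c31) (LK LD1_c8 LD2_c39 LD3_c22) Lrfl Lrfl
theorem f36987 : Led Lsl_at (LP (LK LD1_c14 LD2_c59 LD3_c55)) = (LP (LK LD1_c24 LD2_c47 LD3_c18)) :=
  Lre_a IH (LK LD1_c14 LD2_c59 LD3_c55) (LK LD1_c24 LD2_c47 LD3_c18) Lrfl Lrfl
theorem f36988 : Led Lsl_df (LP (LK LD1_c16 LD2_c12 LD3_c31)) = (LP (LK LD1_c24 LD2_c47 LD3_c18)) :=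
  Lgr Lrot18 (Lpr_at (f31324 IH) (Lpr_dt (f36981 IH) (Lpr_at (f36987 IH) (Lpn (LP (LK LD1_c24 LD2_c47 LD3_c18))))))
theorem f36995 : Led Lsl_dt (LP (LK LD1_c16 LD2_c12 LD3_c31)) = (LP (LK LD1_c24 LD2_c47 LD3_c18)) :=
  Lgr Lrot42 (Lpr_df (f36988 IH) (Lpn (LP (LK LD1_c24 LD2_c47 LD3_c18))))
theorem f418349 : Led Lsl_bt (LP (LK LD1_c24 LD2_c47 LD3_c18)) = (LP (LK LD1_c16 LD2_c28 LD3_c5)) :=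
  Lgr Lrot95 (Lpe (f36995 IH) (Lpr_bf (f31322 IH) (Lpr_df (f418345 IH) (Lpn (LP (LK LD1_c16 LD2_c28 LD3_c5))))))
theorem f418360 : Led Lsl_af (LP (LK LD1_c7 LD2_c57 LD3_c4)) = (LP (LK LD1_c4 LD2_c25 LD3_c11)) :=
  Lgr Lrot36 (Lpr_bt (f36947 IH) (Lpr_at (f36987 IH) (Lpr_bt (f418349 IH) (Lpr_at (f418332 IH) (Lpr_bt (K35.f231465 IH) (Lpn (LP (LK LD1_c4 LD2_c25 LD3_c11))))))))
theorem f546650 : Led Lsl_gt (LP (LK LD1_c8 LD2_c3 LD3_c44)) = (LP (LK LD1_c7 LD2_c57 LD3_c4)) :=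
  Lgr Lrot46 (Lpr_gf (K39.f546646 IH) (Lpr_ft (f231471 IH) (Lpe (f418360 IH) (Lpn (LP (LK LD1_c7 LD2_c57 LD3_c4))))))
theorem f573792 : Led Lsl_bt (LP (LK LD1_c3 LD2_c57 LD3_c50)) = (LP (LK LD1_c7 LD2_c17 LD3_c31)) :=
  Lgr Lrot130 (Lpr_ct (K13.f36958 IH) (Lpe (f546650 IH) (Lpe (K39.f197240 IH) (Lpr_bt (K39.f197239 IH) (Lpe (K12.f33990 IH) (Lpe (f34111 IH) (Lpr_ct (K42.f34112 IH) (Lpe (f573790 IH) (Lpe (f573752 IH) (Lpr_gf (f573788 IH) (Lpn (LP (LK LD1_c7 LD2_c17 LD3_c31)))))))))))))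
theorem f201629 : Led Lsl_ft (LP (LK LD1_c5 LD2_c12 LD3_c61)) = (LP (LK LD1_c3 LD2_c57 LD3_c50)) :=
  Lgr Lrot54 (Lpr_df (K11.f201580 IH) (Lpe (K11.f201552 IH) (Lpe (K11.f36943 IH) (Lpn (LP (LK LD1_c3 LD2_c57 LD3_c50))))))
theorem f573807 : Led Lsl_ff (LP (LK LD1_c10 LD2_c16 LD3_c17)) = (LP (LK LD1_c7 LD2_c17 LD3_c31)) :=
  Lgr Lrot25 (Lpr_bt (K42.f181112 IH) (Lpr_ft (f201629 IH) (Lpr_bt (f573792 IH) (Lpn (LP (LK LD1_c7 LD2_c17 LD3_c31))))))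
theorem f573815 : Led Lsl_at (LP (LK LD1_c10 LD2_c16 LD3_c17)) = (LP (LK LD1_c7 LD2_c17 LD3_c29)) :=
  Lgr Lrot26 (Lpr_ff (f573807 IH) (Lpe (f573788 IH) (Lpr_gt (f97255 IH) (Lpn (LP (LK LD1_c7 LD2_c17 LD3_c29))))))
theorem f568819 : Led Lsl_ct (LP (LK LD1_c13 LD2_c47 LD3_c35)) = (LP (LK LD1_c7 LD2_c17 LD3_c29)) :=
  Lre_c IH (LK LD1_c13 LD2_c47 LD3_c35) (LK LD1_c7 LD2_c17 LD3_c29) Lrfl Lrfl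
theorem f573762 : Led Lsl_dt (LP (LK LD1_c23 LD2_c15 LD3_c4)) = (LP (LK LD1_c13 LD2_c47 LD3_c35)) :=
  Lre_d IH (LK LD1_c23 LD2_c15 LD3_c4) (LK LD1_c13 LD2_c47 LD3_c35) Lrfl Lrfl
theorem f481572 : Led Lsl_dt (LP (LK LD1_c7 LD2_c17 LD3_c31)) = (LP (LK LD1_c3 LD2_c38 LD3_c35)) :=
  Lre_d IH (LK LD1_c7 LD2_c17 LD3_c31) (LK LD1_c3 LD2_c38 LD3_c35) Lrfl Lrfl
theorem f241025 : Led Lsl_ct (LP (LK LD1_c4 LD2_c20 LD3_c39)) = (LP (LK LD1_c8 LD2_c39 LD3_c0)) :=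
  Lre_c IH (LK LD1_c4 LD2_c20 LD3_c39) (LK LD1_c8 LD2_c39 LD3_c0) Lrfl Lrfl
theorem f573163 : Led Lsl_dt (LP (LK LD1_c8 LD2_c39 LD3_c0)) = (LP (LK LD1_c16 LD2_c12 LD3_c4)) :=
  Lre_d IH (LK LD1_c8 LD2_c39 LD3_c0) (LK LD1_c16 LD2_c12 LD3_c4) Lrfl Lrfl
theorem f573817 : Led Lsl_cf (LP (LK LD1_c23 LD2_c15 LD3_c4)) = (LP (LK LD1_c16 LD2_c12 LD3_c4)) :=
  Lgr Lrot161 (Lpr_dt (f573762 IH) (Lpr_ct (f568819 IH) (Lpe (f573815 IH) (Lpr_ff (f573807 IH) (Lpr_dt (f481572 IH) (Lpe (K42.f569615 IH) (Lpr_dt (K42.f36108 IH) (Lpr_ct (f241025 IH) (Lpr_dt (f573163 IH) (Lpn (LP (LK LD1_c16 LD2_c12 LD3_c4))))))))))))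
theorem f568818 : Led Lsl_ct (LP (LK LD1_c13 LD2_c47 LD3_c32)) = (LP (LK LD1_c23 LD2_c14 LD3_c57)) :=
  Lre_c IH (LK LD1_c13 LD2_c47 LD3_c32) (LK LD1_c23 LD2_c14 LD3_c57) Lrfl Lrfl
theorem f445856 : Led Lsl_ft (LP (LK LD1_c8 LD2_c39 LD3_c0)) = (LP (LK LD1_c16 LD2_c12 LD3_c5)) :=
  Lre_f IH (LK LD1_c8 LD2_c39 LD3_c0) (LK LD1_c16 LD2_c12 LD3_c5) Lrfl Lrfl
theorem f573823 : Led Lsl_af (LP (LK LD1_c23 LD2_c14 LD3_c57)) = (LP (LK LD1_c16 LD2_c12 LD3_c5)) :=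
  Lgr Lrot109 (Lpe (f568818 IH) (Lpe (K42.f568810 IH) (Lpe (K42.f5627 IH) (Lpe (f5663 IH) (Lpe (f568819 IH) (Lpe (f573762 IH) (Lpr_cf (f573817 IH) (Lpe (f573163 IH) (Lpr_ft (f445856 IH) (Lpn (LP (LK LD1_c16 LD2_c12 LD3_c5))))))))))))
theorem f573831 : Led Lsl_at (LP (LK LD1_c16 LD2_c11 LD3_c59)) = (LP (LK LD1_c8 LD2_c39 LD3_c0)) :=
  Lre_a IH (LK LD1_c16 LD2_c11 LD3_c59) (LK LD1_c8 LD2_c39 LD3_c0) Lrfl Lrfl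
theorem f573832 : Led Lsl_ft (LP (LK LD1_c23 LD2_c14 LD3_c57)) = (LP (LK LD1_c16 LD2_c11 LD3_c59)) :=
  Lgr Lrot101 (Lpr_af (f573823 IH) (Lpe (f445856 IH) (Lpe (f573831 IH) (Lpn (LP (LK LD1_c16 LD2_c11 LD3_c59))))))
theorem f241026 : Led Lsl_gt (LP (LK LD1_c16 LD2_c12 LD3_c3)) = (LP (LK LD1_c8 LD2_c39 LD3_c0)) :=
  Lre_g IH (LK LD1_c16 LD2_c12 LD3_c3) (LK LD1_c8 LD2_c39 LD3_c0) Lrfl Lrfl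
theorem f573841 : Led Lsl_gt (LP (LK LD1_c23 LD2_c14 LD3_c57)) = (LP (LK LD1_c16 LD2_c12 LD3_c3)) :=
  Lgr Lrot5 (Lpr_ft (f573832 IH) (Lpr_at (f573831 IH) (Lpe (f241026 IH) (Lpn (LP (LK LD1_c16 LD2_c12 LD3_c3))))))
theorem f572494 : Led Lsl_dt (LP (LK LD1_c8 LD2_c38 LD3_c60)) = (LP (LK LD1_c10 LD2_c1 LD3_c17)) :=
  Lgr Lrot44 (Lpr_af (K42.f572488 IH) (Lpe (K42.f570537 IH) (Lpe (K42.f572476 IH) (Lpn (LP (LK LD1_c10 LD2_c1 LD3_c17))))))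
theorem f80800 : Led Lsl_dt (LP (LK LD1_c8 LD2_c2 LD3_c4)) = (LP (LK LD1_c15 LD2_c7 LD3_c49)) :=
  Lre_d IH (LK LD1_c8 LD2_c2 LD3_c4) (LK LD1_c15 LD2_c7 LD3_c49) Lrfl Lrfl
theorem f573843 : Led Lsl_cf (LP (LK LD1_c15 LD2_c7 LD3_c49)) = (LP (LK LD1_c16 LD2_c12 LD3_c3)) :=
  Lgr Lrot99 (Lpe (f80800 IH) (Lpr_cf (K42.f565701 IH) (Lpr_gf (K42.f569629 IH) (Lpr_cf (f566109 IH) (Lpr_gf (f411039 IH) (Lpe (f572494 IH) (Lpr_gt (K42.f572502 IH) (Lpr_ct (f568818 IH) (Lpr_gt (f573841 IH) (Lpn (LP (LK LD1_c16 LD2_c12 LD3_c3))))))))))))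
theorem f112592 : Led Lsl_et (LP (LK LD1_c7 LD2_c56 LD3_c59)) = (LP (LK LD1_c14 LD2_c59 LD3_c43)) :=
  Lre_e IH (LK LD1_c7 LD2_c56 LD3_c59) (LK LD1_c14 LD2_c59 LD3_c43) Lrfl Lrfl
theorem f38592 : Led Lsl_dt (LP (LK LD1_c14 LD2_c59 LD3_c43)) = (LP (LK LD1_c24 LD2_c47 LD3_c8)) :=
  Lre_d IH (LK LD1_c14 LD2_c59 LD3_c43) (LK LD1_c24 LD2_c47 LD3_c8) Lrfl Lrfl
theorem f112593 : Led Lsl_dt (LP (LK LD1_c15 LD2_c7 LD3_c49)) = (LP (LK LD1_c8 LD2_c2 LD3_c4)) :=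
  Lre_d IH (LK LD1_c15 LD2_c7 LD3_c49) (LK LD1_c8 LD2_c2 LD3_c4) Lrfl Lrfl
theorem f112594 : Led Lsl_et (LP (LK LD1_c24 LD2_c47 LD3_c8)) = (LP (LK LD1_c15 LD2_c7 LD3_c49)) :=
  Lgr Lrot71 (Lpe (f38592 IH) (Lpe (f112592 IH) (Lpr_df (K4.f112587 IH) (Lpe (K42.f80799 IH) (Lpe (f112593 IH) (Lpn (LP (LK LD1_c15 LD2_c7 LD3_c49))))))))
theorem f112898 : Led Lsl_ef (LP (LK LD1_c24 LD2_c47 LD3_c8)) = (LP (LK LD1_c15 LD2_c7 LD3_c49)) :=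
  Lgr Lrot88 (Lpr_et (f112594 IH) (Lpn (LP (LK LD1_c15 LD2_c7 LD3_c49))))
theorem f573845 : Led Lsl_et (LP (LK LD1_c26 LD2_c8 LD3_c56)) = (LP (LK LD1_c16 LD2_c12 LD3_c3)) :=
  Lre_e IH (LK LD1_c26 LD2_c8 LD3_c56) (LK LD1_c16 LD2_c12 LD3_c3) Lrfl Lrfl
theorem f573850 : Led Lsl_ct (LP (LK LD1_c24 LD2_c47 LD3_c8)) = (LP (LK LD1_c26 LD2_c8 LD3_c56)) :=
  Lgr Lrot15 (Lpr_ef (f112898 IH) (Lpr_cf (f573843 IH) (Lpe (f573845 IH) (Lpn (LP (LK LD1_c26 LD2_c8 LD3_c56))))))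
theorem f573854 : Led Lsl_cf (LP (LK LD1_c24 LD2_c47 LD3_c8)) = (LP (LK LD1_c26 LD2_c8 LD3_c56)) :=
  Lgr Lrot11 (Lpr_ct (f573850 IH) (Lpn (LP (LK LD1_c26 LD2_c8 LD3_c56))))
theorem f502357 : Led Lsl_ft (LP (LK LD1_c6 LD2_c13 LD3_c42)) = (LP (LK LD1_c6 LD2_c13 LD3_c46)) :=
  Lgr Lrot48 (Lpr_ff (K41.f502349 IH) (Lpn (LP (LK LD1_c6 LD2_c13 LD3_c46))))
theorem f502361 : Led Lsl_ff (LP (LK LD1_c4 LD2_c0 LD3_c35)) = (LP (LK LD1_c3 LD2_c3 LD3_c43)) :=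
  Lgr Lrot23 (Lpr_ct (K38.f420640 IH) (Lpr_ft (f502357 IH) (Lpr_ct (K11.f80742 IH) (Lpn (LP (LK LD1_c3 LD2_c3 LD3_c43))))))
theorem f502367 : Led Lsl_at (LP (LK LD1_c4 LD2_c0 LD3_c35)) = (LP (LK LD1_c3 LD2_c3 LD3_c42)) :=
  Lgr Lrot26 (Lpr_ff (f502361 IH) (Lpr_gt (K11.f80736 IH) (Lpr_gt (K36.f80750 IH) (Lpn (LP (LK LD1_c3 LD2_c3 LD3_c42))))))
theorem f202797 : Led Lsl_bf (LP (LK LD1_c6 LD2_c13 LD3_c46)) = (LP (LK LD1_c4 LD2_c0 LD3_c34)) :=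
  Lgr Lrot24 (Lpr_bt (K11.f202795 IH) (Lpn (LP (LK LD1_c4 LD2_c0 LD3_c34))))
theorem f502351 : Led Lsl_ft (LP (LK LD1_c3 LD2_c3 LD3_c42)) = (LP (LK LD1_c4 LD2_c0 LD3_c34)) :=
  Lgr Lrot75 (Lpe (K36.f80755 IH) (Lpr_ff (K41.f502349 IH) (Lpr_bf (f202797 IH) (Lpn (LP (LK LD1_c4 LD2_c0 LD3_c34))))))
theorem f502375 : Led Lsl_af (LP (LK LD1_c3 LD2_c3 LD3_c43)) = (LP (LK LD1_c4 LD2_c0 LD3_c34)) :=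
  Lgr Lrot45 (Lpe (f502361 IH) (Lpr_at (f502367 IH) (Lpr_ft (f502351 IH) (Lpn (LP (LK LD1_c4 LD2_c0 LD3_c34))))))
theorem f502381 : Led Lsl_at (LP (LK LD1_c6 LD2_c13 LD3_c47)) = (LP (LK LD1_c8 LD2_c2 LD3_c4)) :=
  Lgr Lrot80 (Lpe (K42.f420394 IH) (Lpr_af (f502375 IH) (Lpe (K42.f80799 IH) (Lpn (LP (LK LD1_c8 LD2_c2 LD3_c4))))))
theorem f502386 : Led Lsl_af (LP (LK LD1_c12 LD2_c6 LD3_c15)) = (LP (LK LD1_c15 LD2_c7 LD3_c49)) :=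
  Lgr Lrot117 (Lpr_dt (K42.f420390 IH) (Lpr_at (f502381 IH) (Lpr_dt (f80800 IH) (Lpn (LP (LK LD1_c15 LD2_c7 LD3_c49))))))
theorem f80745 : Led Lsl_et (LP (LK LD1_c6 LD2_c13 LD3_c47)) = (LP (LK LD1_c3 LD2_c3 LD3_c43)) :=
  Lre_e IH (LK LD1_c6 LD2_c13 LD3_c47) (LK LD1_c3 LD2_c3 LD3_c43) Lrfl Lrfl
theorem f420391 : Led Lsl_et (LP (LK LD1_c4 LD2_c25 LD3_c23)) = (LP (LK LD1_c8 LD2_c48 LD3_c18)) :=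
  Lre_e IH (LK LD1_c4 LD2_c25 LD3_c23) (LK LD1_c8 LD2_c48 LD3_c18) Lrfl Lrfl
theorem f160727 : Led Lsl_dt (LP (LK LD1_c8 LD2_c48 LD3_c18)) = (LP (LK LD1_c16 LD2_c28 LD3_c26)) :=
  Lre_d IH (LK LD1_c8 LD2_c48 LD3_c18) (LK LD1_c16 LD2_c28 LD3_c26) Lrfl Lrfl
theorem f420392 : Led Lsl_ef (LP (LK LD1_c12 LD2_c6 LD3_c15)) = (LP (LK LD1_c16 LD2_c28 LD3_c26)) :=
  Lgr Lrot73 (Lpr_dt (K42.f420390 IH) (Lpr_et (f80745 IH) (Lpr_dt (K36.f420372 IH) (Lpr_et (f420391 IH) (Lpr_dt (f160727 IH) (Lpn (LP (LK LD1_c16 LD2_c28 LD3_c26))))))))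
theorem f420400 : Led Lsl_et (LP (LK LD1_c12 LD2_c6 LD3_c15)) = (LP (LK LD1_c16 LD2_c28 LD3_c26)) :=
  Lgr Lrot87 (Lpr_ef (f420392 IH) (Lpn (LP (LK LD1_c16 LD2_c28 LD3_c26))))
theorem f502390 : Led Lsl_at (LP (LK LD1_c16 LD2_c28 LD3_c26)) = (LP (LK LD1_c24 LD2_c47 LD3_c8)) :=
  Lgr Lrot80 (Lpe (f420400 IH) (Lpr_af (f502386 IH) (Lpe (f112594 IH) (Lpn (LP (LK LD1_c24 LD2_c47 LD3_c8))))))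
theorem f502392 : Led Lsl_af (LP (LK LD1_c16 LD2_c28 LD3_c26)) = (LP (LK LD1_c24 LD2_c47 LD3_c8)) :=
  Lgr Lrot0 (Lpr_at (f502390 IH) (Lpn (LP (LK LD1_c24 LD2_c47 LD3_c8))))
theorem f420405 : Led Lsl_ct (LP (LK LD1_c16 LD2_c28 LD3_c26)) = (LP (LK LD1_c26 LD2_c25 LD3_c34)) :=
  Lre_c IH (LK LD1_c16 LD2_c28 LD3_c26) (LK LD1_c26 LD2_c25 LD3_c34) Lrfl Lrfl
theorem f573856 : Led Lsl_at (LP (LK LD1_c26 LD2_c25 LD3_c34)) = (LP (LK LD1_c26 LD2_c8 LD3_c56)) :=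
  Lgr Lrot107 (Lpe (f420405 IH) (Lpr_af (f502392 IH) (Lpr_cf (f573854 IH) (Lpn (LP (LK LD1_c26 LD2_c8 LD3_c56))))))
theorem f420397 : Led Lsl_ct (LP (LK LD1_c26 LD2_c25 LD3_c34)) = (LP (LK LD1_c16 LD2_c28 LD3_c26)) :=
  Lre_c IH (LK LD1_c26 LD2_c25 LD3_c34) (LK LD1_c16 LD2_c28 LD3_c26) Lrfl Lrfl
theorem f420398 : Led Lsl_et (LP (LK LD1_c21 LD2_c12 LD3_c19)) = (LP (LK LD1_c26 LD2_c25 LD3_c34)) :=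
  Lgr Lrot158 (Lpe (K42.f420396 IH) (Lpr_ef (f420392 IH) (Lpe (f420397 IH) (Lpn (LP (LK LD1_c26 LD2_c25 LD3_c34))))))
theorem f573859 : Led Lsl_af (LP (LK LD1_c21 LD2_c12 LD3_c19)) = (LP (LK LD1_c16 LD2_c12 LD3_c3)) :=
  Lgr Lrot50 (Lpr_et (f420398 IH) (Lpr_at (f573856 IH) (Lpr_et (f573845 IH) (Lpn (LP (LK LD1_c16 LD2_c12 LD3_c3))))))
theorem f569547 : Led Lsl_cf (LP (LK LD1_c18 LD2_c40 LD3_c42)) = (LP (LK LD1_c25 LD2_c2 LD3_c50)) :=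
  Lgr Lrot11 (Lpr_ct (K42.f569545 IH) (Lpn (LP (LK LD1_c25 LD2_c2 LD3_c50))))
theorem f20657 : Led Lsl_df (LP (LK LD1_c0 LD2_c28 LD3_c46)) = (LP (LK LD1_c0 LD2_c39 LD3_c35)) :=
  Lgr Lrot12 (Lpr_bt (K11.f20655 IH) (Lpr_dt (K9.f20653 IH) (Lpr_bt (K10.f20656 IH) (Lpn (LP (LK LD1_c0 LD2_c39 LD3_c35))))))
theorem f569562 : Led Lsl_bf (LP (LK LD1_c23 LD2_c15 LD3_c36)) = (LP (LK LD1_c25 LD2_c2 LD3_c50)) :=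
  Lgr Lrot184 (Lpr_gt (K42.f569555 IH) (Lpr_dt (K42.f193427 IH) (Lpr_ct (K42.f193426 IH) (Lpr_bt (K42.f193412 IH) (Lpr_gt (K13.f240579 IH) (Lpr_dt (K0.f33723 IH) (Lpr_ct (K0.f33724 IH) (Lpe (K10.f34646 IH) (Lpr_gt (K10.f197357 IH) (Lpe (f20657 IH) (Lpe (K16.f200629 IH) (Lpr_bt (K19.f200644 IH) (Lpr_gt (K13.f241888 IH) (Lpr_dt (K13.f34073 IH) (Lpr_ct (K13.f241281 IH) (Lpr_bt (K42.f239506 IH) (Lpr_gt (K42.f241892 IH) (Lpr_dt (K42.f241898 IH) (Lpr_ct (K42.f569545 IH) (Lpn (LP (LK LD1_c25 LD2_c2 LD3_c50))))))))))))))))))))))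
theorem f5612 : Led Lsl_bt (LP (LK LD1_c13 LD2_c47 LD3_c47)) = (LP (LK LD1_c23 LD2_c15 LD3_c31)) :=
  Lre_b IH (LK LD1_c13 LD2_c47 LD3_c47) (LK LD1_c23 LD2_c15 LD3_c31) Lrfl Lrfl
theorem f569566 : Led Lsl_dt (LP (LK LD1_c23 LD2_c15 LD3_c31)) = (LP (LK LD1_c25 LD2_c2 LD3_c50)) :=
  Lgr Lrot79 (Lpe (f5612 IH) (Lpe (K42.f5182 IH) (Lpr_bf (f569562 IH) (Lpn (LP (LK LD1_c25 LD2_c2 LD3_c50))))))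
theorem f5604 : Led Lsl_at (LP (LK LD1_c13 LD2_c47 LD3_c45)) = (LP (LK LD1_c23 LD2_c15 LD3_c30)) :=
  Lre_a IH (LK LD1_c13 LD2_c47 LD3_c45) (LK LD1_c23 LD2_c15 LD3_c30) Lrfl Lrfl
theorem f5442 : Led Lsl_at (LP (LK LD1_c23 LD2_c15 LD3_c30)) = (LP (LK LD1_c13 LD2_c47 LD3_c45)) :=
  Lre_a IH (LK LD1_c23 LD2_c15 LD3_c30) (LK LD1_c13 LD2_c47 LD3_c45) Lrfl Lrfl
theorem f5443 : Led Lsl_at (LP (LK LD1_c13 LD2_c50 LD3_c57)) = (LP (LK LD1_c23 LD2_c20 LD3_c13)) :=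
  Lre_a IH (LK LD1_c13 LD2_c50 LD3_c57) (LK LD1_c23 LD2_c20 LD3_c13) Lrfl Lrfl
theorem f5444 : Led Lsl_cf (LP (LK LD1_c23 LD2_c15 LD3_c30)) = (LP (LK LD1_c23 LD2_c20 LD3_c13)) :=
  Lgr Lrot1 (Lpr_at (f5442 IH) (Lpr_ct (K24.f5439 IH) (Lpr_at (f5443 IH) (Lpn (LP (LK LD1_c23 LD2_c20 LD3_c13))))))
theorem f569585 : Led Lsl_dt (LP (LK LD1_c21 LD2_c12 LD3_c19)) = (LP (LK LD1_c23 LD2_c20 LD3_c13)) :=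
  Lgr Lrot120 (Lpe (K42.f420396 IH) (Lpe (K42.f80746 IH) (Lpr_cf (K42.f569577 IH) (Lpe (K42.f417971 IH) (Lpr_cf (f569547 IH) (Lpe (f569566 IH) (Lpr_ft (K24.f5437 IH) (Lpr_at (f5604 IH) (Lpr_cf (f5444 IH) (Lpn (LP (LK LD1_c23 LD2_c20 LD3_c13))))))))))))
theorem f5454 : Led Lsl_at (LP (LK LD1_c23 LD2_c20 LD3_c13)) = (LP (LK LD1_c13 LD2_c50 LD3_c57)) :=
  Lre_a IH (LK LD1_c23 LD2_c20 LD3_c13) (LK LD1_c13 LD2_c50 LD3_c57) Lrfl Lrfl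
theorem f573861 : Led Lsl_dt (LP (LK LD1_c13 LD2_c50 LD3_c57)) = (LP (LK LD1_c16 LD2_c12 LD3_c3)) :=
  Lgr Lrot44 (Lpe (f5454 IH) (Lpe (f569585 IH) (Lpr_af (f573859 IH) (Lpn (LP (LK LD1_c16 LD2_c12 LD3_c3))))))
theorem f573865 : Led Lsl_df (LP (LK LD1_c13 LD2_c50 LD3_c57)) = (LP (LK LD1_c16 LD2_c12 LD3_c3)) :=
  Lgr Lrot38 (Lpr_dt (f573861 IH) (Lpn (LP (LK LD1_c16 LD2_c12 LD3_c3))))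
theorem f5448 : Led Lsl_cf (LP (LK LD1_c13 LD2_c47 LD3_c45)) = (LP (LK LD1_c13 LD2_c50 LD3_c57)) :=
  Lgr Lrot11 (Lpr_ct (K24.f5439 IH) (Lpn (LP (LK LD1_c13 LD2_c50 LD3_c57))))
theorem f573848 : Led Lsl_ct (LP (LK LD1_c15 LD2_c7 LD3_c49)) = (LP (LK LD1_c16 LD2_c12 LD3_c3)) :=
  Lgr Lrot59 (Lpr_cf (f573843 IH) (Lpn (LP (LK LD1_c16 LD2_c12 LD3_c3))))
theorem f569908 : Led Lsl_dt (LP (LK LD1_c13 LD2_c47 LD3_c33)) = (LP (LK LD1_c10 LD2_c1 LD3_c23)) :=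
  Lgr Lrot42 (Lpr_df (K42.f569904 IH) (Lpn (LP (LK LD1_c10 LD2_c1 LD3_c23))))
theorem f569914 : Led Lsl_ct (LP (LK LD1_c23 LD2_c14 LD3_c60)) = (LP (LK LD1_c13 LD2_c47 LD3_c33)) :=
  Lre_c IH (LK LD1_c23 LD2_c14 LD3_c60) (LK LD1_c13 LD2_c47 LD3_c33) Lrfl Lrfl
theorem f569913 : Led Lsl_dt (LP (LK LD1_c30 LD2_c57 LD3_c47)) = (LP (LK LD1_c23 LD2_c14 LD3_c60)) :=
  Lre_d IH (LK LD1_c30 LD2_c57 LD3_c47) (LK LD1_c23 LD2_c14 LD3_c60) Lrfl Lrfl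
theorem f573870 : Led Lsl_ff (LP (LK LD1_c23 LD2_c15 LD3_c30)) = (LP (LK LD1_c30 LD2_c57 LD3_c47)) :=
  Lgr Lrot103 (Lpr_at (f5442 IH) (Lpr_cf (f5448 IH) (Lpr_df (f573865 IH) (Lpe (f573848 IH) (Lpe (f80800 IH) (Lpr_cf (K42.f565701 IH) (Lpe (f569908 IH) (Lpe (f569914 IH) (Lpe (f569913 IH) (Lpn (LP (LK LD1_c30 LD2_c57 LD3_c47))))))))))))
theorem f573874 : Led Lsl_ft (LP (LK LD1_c23 LD2_c15 LD3_c30)) = (LP (LK LD1_c30 LD2_c57 LD3_c47)) :=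
  Lgr Lrot48 (Lpr_ff (f573870 IH) (Lpn (LP (LK LD1_c30 LD2_c57 LD3_c47))))
theorem f5177 : Led Lsl_ct (LP (LK LD1_c3 LD2_c39 LD3_c33)) = (LP (LK LD1_c7 LD2_c19 LD3_c20)) :=
  Lre_c IH (LK LD1_c3 LD2_c39 LD3_c33) (LK LD1_c7 LD2_c19 LD3_c20) Lrfl Lrfl
theorem f5183 : Led Lsl_cf (LP (LK LD1_c23 LD2_c15 LD3_c36)) = (LP (LK LD1_c13 LD2_c50 LD3_c58)) :=
  Lgr Lrot161 (Lpr_dt (K42.f5182 IH) (Lpr_ct (K24.f5181 IH) (Lpe (K41.f5180 IH) (Lpe (K41.f5179 IH) (Lpr_dt (K42.f5175 IH) (Lpr_ct (K0.f5164 IH) (Lpr_dt (K41.f5121 IH) (Lpr_ct (f5177 IH) (Lpr_dt (f5146 IH) (Lpn (LP (LK LD1_c13 LD2_c50 LD3_c58))))))))))))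
theorem f5198 : Led Lsl_ct (LP (LK LD1_c23 LD2_c15 LD3_c36)) = (LP (LK LD1_c13 LD2_c50 LD3_c58)) :=
  Lgr Lrot59 (Lpr_cf (f5183 IH) (Lpn (LP (LK LD1_c13 LD2_c50 LD3_c58))))
theorem f282296 : Led Lsl_gt (LP (LK LD1_c15 LD2_c13 LD3_c43)) = (LP (LK LD1_c25 LD2_c2 LD3_c49)) :=
  Lre_g IH (LK LD1_c15 LD2_c13 LD3_c43) (LK LD1_c25 LD2_c2 LD3_c49) Lrfl Lrfl
theorem f573166 : Led Lsl_df (LP (LK LD1_c23 LD2_c15 LD3_c30)) = (LP (LK LD1_c25 LD2_c2 LD3_c49)) :=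
  Lgr Lrot84 (Lpr_cf (f5444 IH) (Lpe (f569585 IH) (Lpr_gf (K42.f569581 IH) (Lpr_df (f573159 IH) (Lpe (f5205 IH) (Lpe (f5198 IH) (Lpr_gt (K42.f569555 IH) (Lpr_dt (K42.f193427 IH) (Lpr_gt (f282296 IH) (Lpn (LP (LK LD1_c25 LD2_c2 LD3_c49))))))))))))
theorem f573882 : Led Lsl_ff (LP (LK LD1_c25 LD2_c2 LD3_c49)) = (LP (LK LD1_c23 LD2_c14 LD3_c60)) :=
  Lgr Lrot19 (Lpe (f573166 IH) (Lpr_ft (f573874 IH) (Lpr_dt (f569913 IH) (Lpn (LP (LK LD1_c23 LD2_c14 LD3_c60))))))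
theorem f573885 : Led Lsl_ft (LP (LK LD1_c25 LD2_c2 LD3_c49)) = (LP (LK LD1_c23 LD2_c14 LD3_c60)) :=
  Lgr Lrot48 (Lpr_ff (f573882 IH) (Lpn (LP (LK LD1_c23 LD2_c14 LD3_c60))))
theorem f4327 : Led Lsl_at (LP (LK LD1_c13 LD2_c48 LD3_c51)) = (LP (LK LD1_c7 LD2_c17 LD3_c61)) :=
  Lre_a IH (LK LD1_c13 LD2_c48 LD3_c51) (LK LD1_c7 LD2_c17 LD3_c61) Lrfl Lrfl
theorem f5486 : Led Lsl_at (LP (LK LD1_c7 LD2_c19 LD3_c41)) = (LP (LK LD1_c13 LD2_c51 LD3_c47)) :=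
  Lre_a IH (LK LD1_c7 LD2_c19 LD3_c41) (LK LD1_c13 LD2_c51 LD3_c47) Lrfl Lrfl
theorem f5487 : Led Lsl_cf (LP (LK LD1_c13 LD2_c48 LD3_c51)) = (LP (LK LD1_c13 LD2_c51 LD3_c47)) :=
  Lgr Lrot1 (Lpr_at (f4327 IH) (Lpr_ct (K24.f5468 IH) (Lpr_at (f5486 IH) (Lpn (LP (LK LD1_c13 LD2_c51 LD3_c47))))))
theorem f4351 : Led Lsl_et (LP (LK LD1_c13 LD2_c48 LD3_c51)) = (LP (LK LD1_c23 LD2_c15 LD3_c30)) :=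
  Lre_e IH (LK LD1_c13 LD2_c48 LD3_c51) (LK LD1_c23 LD2_c15 LD3_c30) Lrfl Lrfl
theorem f5601 : Led Lsl_et (LP (LK LD1_c23 LD2_c20 LD3_c13)) = (LP (LK LD1_c13 LD2_c51 LD3_c47)) :=
  Lre_e IH (LK LD1_c23 LD2_c20 LD3_c13) (LK LD1_c13 LD2_c51 LD3_c47) Lrfl Lrfl
theorem f5602 : Led Lsl_ct (LP (LK LD1_c23 LD2_c15 LD3_c30)) = (LP (LK LD1_c23 LD2_c20 LD3_c13)) :=
  Lgr Lrot15 (Lpe (f4351 IH) (Lpr_cf (f5487 IH) (Lpe (f5601 IH) (Lpn (LP (LK LD1_c23 LD2_c20 LD3_c13))))))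
theorem f211661 : Led Lsl_bt (LP (LK LD1_c8 LD2_c4 LD3_c56)) = (LP (LK LD1_c4 LD2_c2 LD3_c13)) :=
  Lre_b IH (LK LD1_c8 LD2_c4 LD3_c56) (LK LD1_c4 LD2_c2 LD3_c13) Lrfl Lrfl
theorem f452438 : Led Lsl_ft (LP (LK LD1_c1 LD2_c12 LD3_c45)) = K37.v364 :=
  Lgr Lrot48 (Lpr_ff (K37.f452435 IH) (Lpn K37.v364))
theorem f536750 : (LP (LK LD1_c1 LD2_c12 LD3_c47)) = K37.v364 :=
  Lefun (Lecon (Lfl_ff (K36.f452427 IH)) (K37.f536673 IH)) (f452438 IH)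
theorem f536869 : (LP (LK LD1_c0 LD2_c29 LD3_c51)) = K35.v366 :=
  Lefun (Lecon (Lfl_df (K35.f452263 IH)) (K37.f536744 IH).symm) (K35.f452448 IH)
theorem f573713 : Led Lsl_gf (LP (LK LD1_c23 LD2_c15 LD3_c23)) = (LP (LK LD1_c23 LD2_c15 LD3_c31)) :=
  Lgr Lrot85 (Lpr_dt (f573703 IH) (Lpr_ct (f573694 IH) (Lpr_bt (f211661 IH) (Lpe (K13.f211659 IH) (Lpr_dt (K13.f211588 IH) (Lpr_ct (K12.f211576 IH) (Lpr_bt (K37.f452436 IH) (Lpq (f536750 IH) (Lpr_gt (K10.f194100 IH) (Lpr_dt (K35.f452448 IH) (Lpq (f536869 IH) (Lpr_ct (K10.f190263 IH) (Lpe (K10.f190254 IH) (Lpr_gt (K10.f31564 IH) (Lpr_dt (K1.f28625 IH) (Lpr_ct (K11.f201548 IH) (Lpr_bt (K41.f201556 IH) (Lpe (K41.f566103 IH) (Lpr_dt (K24.f5212 IH) (Lpr_ct (K41.f5208 IH) (Lpr_bt (f5612 IH) (Lpn (LP (LK LD1_c23 LD2_c15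 LD3_c31))))))))))))))))))))))))
theorem f573717 : Led Lsl_gt (LP (LK LD1_c23 LD2_c15 LD3_c23)) = (LP (LK LD1_c23 LD2_c15 LD3_c30)) :=
  Lgr Lrot46 (Lpr_gf (f573713 IH) (Lpr_ft (K24.f5437 IH) (Lpr_at (f5604 IH) (Lpn (LP (LK LD1_c23 LD2_c15 LD3_c30))))))
theorem f569576 : Led Lsl_ct (LP (LK LD1_c13 LD2_c50 LD3_c47)) = (LP (LK LD1_c7 LD2_c19 LD3_c14)) :=
  Lre_c IH (LK LD1_c13 LD2_c50 LD3_c47) (LK LD1_c7 LD2_c19 LD3_c14) Lrfl Lrfl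
theorem f572491 : Led Lsl_dt (LP (LK LD1_c26 LD2_c8 LD3_c49)) = (LP (LK LD1_c16 LD2_c11 LD3_c61)) :=
  Lre_d IH (LK LD1_c26 LD2_c8 LD3_c49) (LK LD1_c16 LD2_c11 LD3_c61) Lrfl Lrfl
theorem f573722 : Led Lsl_gf (LP (LK LD1_c30 LD2_c46 LD3_c13)) = (LP (LK LD1_c26 LD2_c8 LD3_c49)) :=
  Lgr Lrot147 (Lpe (f573708 IH) (Lpr_gt (f573717 IH) (Lpr_ct (f5602 IH) (Lpe (f569585 IH) (Lpe (K42.f420396 IH) (Lpr_gf (K42.f569543 IH) (Lpe (f569576 IH) (Lpe (K42.f572737 IH) (Lpe (f572491 IH) (Lpn (LP (LK LD1_c26 LD2_c8 LD3_c49))))))))))))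
theorem f572749 : Led Lsl_dt (LP (LK LD1_c16 LD2_c11 LD3_c61)) = (LP (LK LD1_c26 LD2_c8 LD3_c49)) :=
  Lre_d IH (LK LD1_c16 LD2_c11 LD3_c61) (LK LD1_c26 LD2_c8 LD3_c49) Lrfl Lrfl
theorem f573724 : Led Lsl_df (LP (LK LD1_c21 LD2_c12 LD3_c19)) = (LP (LK LD1_c23 LD2_c20 LD3_c13)) :=
  Lgr Lrot162 (Lpe (K42.f420396 IH) (Lpr_gf (K42.f569543 IH) (Lpe (f569576 IH) (Lpe (K42.f572737 IH) (Lpr_dt (f572749 IH) (Lpe (f573722 IH) (Lpe (f573708 IH) (Lpr_gt (f573717 IH) (Lpr_ct (f5602 IH) (Lpn (LP (LK LD1_c23 LD2_c20 LD3_c13))))))))))))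
theorem f573889 : Led Lsl_af (LP (LK LD1_c25 LD2_c2 LD3_c50)) = (LP (LK LD1_c23 LD2_c14 LD3_c60)) :=
  Lgr Lrot109 (Lpe (K42.f569545 IH) (Lpe (K42.f241898 IH) (Lpr_cf (K42.f569535 IH) (Lpe (K42.f420390 IH) (Lpe (K42.f420404 IH) (Lpr_df (f573724 IH) (Lpe (f5602 IH) (Lpr_df (f573166 IH) (Lpr_ft (f573885 IH) (Lpn (LP (LK LD1_c23 LD2_c14 LD3_c60))))))))))))
theorem f569549 : Led Lsl_et (LP (LK LD1_c25 LD2_c2 LD3_c50)) = (LP (LK LD1_c31 LD2_c45 LD3_c4)) :=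
  Lre_e IH (LK LD1_c25 LD2_c2 LD3_c50) (LK LD1_c31 LD2_c45 LD3_c4) Lrfl Lrfl
theorem f573884 : Led Lsl_et (LP (LK LD1_c30 LD2_c57 LD3_c48)) = (LP (LK LD1_c23 LD2_c14 LD3_c60)) :=
  Lre_e IH (LK LD1_c30 LD2_c57 LD3_c48) (LK LD1_c23 LD2_c14 LD3_c60) Lrfl Lrfl
theorem f573895 : Led Lsl_at (LP (LK LD1_c31 LD2_c45 LD3_c4)) = (LP (LK LD1_c30 LD2_c57 LD3_c48)) :=
  Lgr Lrot80 (Lpe (f569549 IH) (Lpr_af (f573889 IH) (Lpe (f573884 IH) (Lpn (LP (LK LD1_c30 LD2_c57 LD3_c48))))))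
theorem f569528 : Led Lsl_et (LP (LK LD1_c28 LD2_c12 LD3_c14)) = (LP (LK LD1_c18 LD2_c40 LD3_c42)) :=
  Lre_e IH (LK LD1_c28 LD2_c12 LD3_c14) (LK LD1_c18 LD2_c40 LD3_c42) Lrfl Lrfl
theorem f569550 : Led Lsl_cf (LP (LK LD1_c28 LD2_c12 LD3_c14)) = (LP (LK LD1_c31 LD2_c45 LD3_c4)) :=
  Lgr Lrot39 (Lpr_et (f569528 IH) (Lpr_ct (K42.f569545 IH) (Lpr_et (f569549 IH) (Lpn (LP (LK LD1_c31 LD2_c45 LD3_c4))))))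
theorem f569572 : Led Lsl_ct (LP (LK LD1_c28 LD2_c12 LD3_c14)) = (LP (LK LD1_c31 LD2_c45 LD3_c4)) :=
  Lgr Lrot59 (Lpr_cf (f569550 IH) (Lpn (LP (LK LD1_c31 LD2_c45 LD3_c4))))
theorem f573899 : Led Lsl_ct (LP (LK LD1_c30 LD2_c57 LD3_c48)) = (LP (LK LD1_c23 LD2_c14 LD3_c61)) :=
  Lre_c IH (LK LD1_c30 LD2_c57 LD3_c48) (LK LD1_c23 LD2_c14 LD3_c61) Lrfl Lrfl
theorem f573900 : Led Lsl_af (LP (LK LD1_c28 LD2_c12 LD3_c14)) = (LP (LK LD1_c23 LD2_c14 LD3_c61)) :=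
  Lgr Lrot68 (Lpr_ct (f569572 IH) (Lpr_at (f573895 IH) (Lpr_ct (f573899 IH) (Lpn (LP (LK LD1_c23 LD2_c14 LD3_c61))))))
theorem f573903 : Led Lsl_at (LP (LK LD1_c28 LD2_c12 LD3_c14)) = (LP (LK LD1_c23 LD2_c14 LD3_c61)) :=
  Lgr Lrot100 (Lpr_af (f573900 IH) (Lpn (LP (LK LD1_c23 LD2_c14 LD3_c61))))
theorem f417972 : Led Lsl_et (LP (LK LD1_c18 LD2_c40 LD3_c42)) = (LP (LK LD1_c28 LD2_c12 LD3_c14)) :=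
  Lre_e IH (LK LD1_c18 LD2_c40 LD3_c42) (LK LD1_c28 LD2_c12 LD3_c14) Lrfl Lrfl
theorem f97256 : Led Lsl_et (LP (LK LD1_c23 LD2_c14 LD3_c61)) = (LP (LK LD1_c13 LD2_c47 LD3_c33)) :=
  Lre_e IH (LK LD1_c23 LD2_c14 LD3_c61) (LK LD1_c13 LD2_c47 LD3_c33) Lrfl Lrfl
theorem f573907 : Led Lsl_af (LP (LK LD1_c18 LD2_c40 LD3_c42)) = (LP (LK LD1_c13 LD2_c47 LD3_c33)) :=
  Lgr Lrot50 (Lpr_et (f417972 IH) (Lpr_at (f573903 IH) (Lpr_et (f97256 IH) (Lpn (LP (LK LD1_c13 LD2_c47 LD3_c33))))))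
theorem f573909 : Led Lsl_at (LP (LK LD1_c10 LD2_c16 LD3_c10)) = (LP (LK LD1_c10 LD2_c1 LD3_c23)) :=
  Lgr Lrot51 (Lpe (K42.f417971 IH) (Lpr_af (f573907 IH) (Lpr_df (K42.f569904 IH) (Lpn (LP (LK LD1_c10 LD2_c1 LD3_c23))))))
theorem f573913 : Led Lsl_ff (LP (LK LD1_c10 LD2_c16 LD3_c10)) = (LP (LK LD1_c10 LD2_c1 LD3_c22)) :=
  Lgr Lrot52 (Lpr_at (f573909 IH) (Lpr_gf (K42.f569629 IH) (Lpr_gf (f573193 IH) (Lpn (LP (LK LD1_c10 LD2_c1 LD3_c22))))))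
theorem f502369 : Led Lsl_af (LP (LK LD1_c8 LD2_c2 LD3_c5)) = (LP (LK LD1_c11 LD2_c23 LD3_c0)) :=
  Lgr Lrot36 (Lpr_bt (K36.f80687 IH) (Lpr_at (f502367 IH) (Lpr_bt (K36.f420376 IH) (Lpr_at (K41.f502343 IH) (Lpr_bt (K36.f202793 IH) (Lpn (LP (LK LD1_c11 LD2_c23 LD3_c0))))))))
theorem f502432 : Led Lsl_ft (LP (LK LD1_c9 LD2_c14 LD3_c47)) = (LP (LK LD1_c11 LD2_c23 LD3_c0)) :=
  Lgr Lrot2 (Lpr_gt (K40.f70234 IH) (Lpr_gt (K41.f420652 IH) (Lpr_af (f502369 IH) (Lpn (LP (LK LD1_c11 LD2_c23 LD3_c0))))))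
theorem f502436 : Led Lsl_ff (LP (LK LD1_c9 LD2_c14 LD3_c47)) = (LP (LK LD1_c11 LD2_c23 LD3_c0)) :=
  Lgr Lrot3 (Lpr_ft (f502432 IH) (Lpn (LP (LK LD1_c11 LD2_c23 LD3_c0))))
theorem f502440 : Led Lsl_at (LP (LK LD1_c9 LD2_c14 LD3_c47)) = (LP (LK LD1_c6 LD2_c13 LD3_c45)) :=
  Lgr Lrot26 (Lpr_ff (f502436 IH) (Lpr_gt (K36.f81403 IH) (Lpe (K40.f206070 IH) (Lpn (LP (LK LD1_c6 LD2_c13 LD3_c45))))))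
theorem f502377 : Led Lsl_at (LP (LK LD1_c3 LD2_c3 LD3_c43)) = (LP (LK LD1_c4 LD2_c0 LD3_c34)) :=
  Lgr Lrot100 (Lpr_af (f502375 IH) (Lpn (LP (LK LD1_c4 LD2_c0 LD3_c34))))
theorem f558210 : Led Lsl_af (LP (LK LD1_c7 LD2_c14 LD3_c27)) = (LP (LK LD1_c6 LD2_c13 LD3_c46)) :=
  Lgr Lrot36 (Lpr_bt (K40.f558199 IH) (Lpr_at (f502440 IH) (Lpr_bt (K40.f80743 IH) (Lpr_at (f502377 IH) (Lpe (f202797 IH) (Lpn (LP (LK LD1_c6 LD2_c13 LD3_c46))))))))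
theorem f569531 : Led Lsl_af (LP (LK LD1_c10 LD2_c16 LD3_c10)) = (LP (LK LD1_c10 LD2_c1 LD3_c23)) :=
  Lgr Lrot50 (Lpr_et (K42.f569529 IH) (Lpe (f558210 IH) (Lpr_et (K41.f565699 IH) (Lpn (LP (LK LD1_c10 LD2_c1 LD3_c23))))))
theorem f569583 : Led Lsl_ct (LP (LK LD1_c8 LD2_c2 LD3_c4)) = (LP (LK LD1_c10 LD2_c1 LD3_c23)) :=
  Lgr Lrot111 (Lpe (f502381 IH) (Lpr_cf (K42.f569577 IH) (Lpr_af (f569531 IH) (Lpn (LP (LK LD1_c10 LD2_c1 LD3_c23))))))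
theorem f573915 : Led Lsl_dt (LP (LK LD1_c23 LD2_c15 LD3_c0)) = (LP (LK LD1_c13 LD2_c47 LD3_c45)) :=
  Lgr Lrot32 (Lpe (f573752 IH) (Lpe (f572507 IH) (Lpe (f573913 IH) (Lpr_at (f573909 IH) (Lpe (f569583 IH) (Lpe (f112593 IH) (Lpr_cf (f573843 IH) (Lpe (f573861 IH) (Lpe (K24.f5439 IH) (Lpn (LP (LK LD1_c13 LD2_c47 LD3_c45))))))))))))
theorem f540880 : Led Lsl_ct (LP (LK LD1_c17 LD2_c2 LD3_c40)) = (LP (LK LD1_c9 LD2_c9 LD3_c42)) :=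
  Lre_c IH (LK LD1_c17 LD2_c2 LD3_c40) (LK LD1_c9 LD2_c9 LD3_c42) Lrfl Lrfl
theorem f5455 : Led Lsl_gt (LP (LK LD1_c13 LD2_c47 LD3_c45)) = (LP (LK LD1_c23 LD2_c15 LD3_c28)) :=
  Lre_g IH (LK LD1_c13 LD2_c47 LD3_c45) (LK LD1_c23 LD2_c15 LD3_c28) Lrfl Lrfl
theorem f573929 : Led Lsl_df (LP (LK LD1_c15 LD2_c10 LD3_c25)) = (LP (LK LD1_c23 LD2_c15 LD3_c28)) :=
  Lgr Lrot84 (Lpe (K41.f239977 IH) (Lpe (K42.f240031 IH) (Lpe (K42.f211639 IH) (Lpe (K42.f242249 IH) (Lpr_gf (K42.f570528 IH) (Lpe (f540880 IH) (Lpr_gt (f573754 IH) (Lpr_dt (f573915 IH) (Lpr_gt (f5455 IH) (Lpn (LP (LK LD1_c23 LD2_c15 LD3_c28))))))))))))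
theorem f5446 : Led Lsl_bt (LP (LK LD1_c7 LD2_c17 LD3_c34)) = (LP (LK LD1_c13 LD2_c47 LD3_c45)) :=
  Lre_b IH (LK LD1_c7 LD2_c17 LD3_c34) (LK LD1_c13 LD2_c47 LD3_c45) Lrfl Lrfl
theorem f573939 : Led Lsl_bt (LP (LK LD1_c1 LD2_c55 LD3_c41)) = (LP (LK LD1_c3 LD2_c38 LD3_c35)) :=
  Lgr Lrot178 (Lpe (K11.f36941 IH) (Lpe (K10.f28647 IH) (Lpe (K10.f192347 IH) (Lpe (K9.f182014 IH) (Lpe (K9.f182008 IH) (Lpe (K10.f177642 IH) (Lpe (K35.f315132 IH) (Lpr_bf (K35.f315134 IH) (Lpe (K13.f194134 IH) (Lpr_df (K13.f242574 IH) (Lpr_gf (K13.f240057 IH) (Lpe (K41.f240036 IH) (Lpe (K42.f240033 IH) (Lpr_df (f573929 IH) (Lpe (f5455 IH) (Lpe (f5446 IH) (Lpe (K0.f5136 IH) (Lpe (K0.f5135 IH) (Lpe (K42.f5628 IH) (Lpn (LP (LK LD1_c3 LD2_c38 LD3_c35))))))))))))))))))))))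
theorem f209874 : Led Lsl_et (LP (LK LD1_c4 LD2_c26 LD3_c26)) = (LP (LK LD1_c8 LD2_c50 LD3_c21)) :=
  Lre_e IH (LK LD1_c4 LD2_c26 LD3_c26) (LK LD1_c8 LD2_c50 LD3_c21) Lrfl Lrfl
theorem f556712 : Led Lsl_cf (LP (LK LD1_c5 LD2_c7 LD3_c12)) = (LP (LK LD1_c8 LD2_c50 LD3_c21)) :=
  Lgr Lrot39 (Lpr_et (K36.f427969 IH) (Lpr_ct (K39.f556706 IH) (Lpr_et (f209874 IH) (Lpn (LP (LK LD1_c8 LD2_c50 LD3_c21))))))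
theorem f53241 : Led Lsl_bt (LP (LK LD1_c5 LD2_c7 LD3_c12)) = (LP (LK LD1_c2 LD2_c30 LD3_c57)) :=
  Lre_b IH (LK LD1_c5 LD2_c7 LD3_c12) (LK LD1_c2 LD2_c30 LD3_c57) Lrfl Lrfl
theorem f308551 : Led Lsl_ct (LP (LK LD1_c2 LD2_c30 LD3_c57)) = (LP (LK LD1_c5 LD2_c7 LD3_c13)) :=
  Lre_c IH (LK LD1_c2 LD2_c30 LD3_c57) (LK LD1_c5 LD2_c7 LD3_c13) Lrfl Lrfl
theorem f567196 : Led Lsl_ct (LP (LK LD1_c8 LD2_c2 LD3_c17)) = (LP (LK LD1_c13 LD2_c46 LD3_c27)) :=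
  Lgr Lrot83 (Lpe (K36.f427924 IH) (Lpe (f308551 IH) (Lpe (f53241 IH) (Lpr_cf (f556712 IH) (Lpr_bf (K41.f567190 IH) (Lpn (LP (LK LD1_c13 LD2_c46 LD3_c27))))))))
theorem f5423 : Led Lsl_bt (LP (LK LD1_c13 LD2_c46 LD3_c29)) = (LP (LK LD1_c7 LD2_c16 LD3_c53)) :=
  Lre_b IH (LK LD1_c13 LD2_c46 LD3_c29) (LK LD1_c7 LD2_c16 LD3_c53) Lrfl Lrfl
theorem f5554 : Led Lsl_ft (LP (LK LD1_c7 LD2_c16 LD3_c47)) = (LP (LK LD1_c13 LD2_c46 LD3_c29)) :=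
  Lre_f IH (LK LD1_c7 LD2_c16 LD3_c47) (LK LD1_c13 LD2_c46 LD3_c29) Lrfl Lrfl
theorem f566128 : Led Lsl_ct (LP (LK LD1_c13 LD2_c46 LD3_c29)) = (LP (LK LD1_c8 LD2_c48 LD3_c60)) :=
  Lgr Lrot40 (Lpe (f5554 IH) (Lpr_cf (K42.f5550 IH) (Lpr_ff (K41.f566124 IH) (Lpn (LP (LK LD1_c8 LD2_c48 LD3_c60))))))
theorem f573941 : Led Lsl_gt (LP (LK LD1_c13 LD2_c46 LD3_c27)) = (LP (LK LD1_c8 LD2_c48 LD3_c60)) :=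
  Lgr Lrot149 (Lpe (f567196 IH) (Lpe (K36.f427921 IH) (Lpe (K36.f239234 IH) (Lpe (K23.f239235 IH) (Lpe (K13.f28655 IH) (Lpr_cf (K11.f36938 IH) (Lpr_bt (f573939 IH) (Lpe (K42.f5040 IH) (Lpe (f5423 IH) (Lpr_ct (f566128 IH) (Lpn (LP (LK LD1_c8 LD2_c48 LD3_c60)))))))))))))
theorem f572725 : Led Lsl_gt (LP (LK LD1_c2 LD2_c7 LD3_c48)) = (LP (LK LD1_c3 LD2_c46 LD3_c24)) :=
  Lgr Lrot46 (Lpe (K42.f36220 IH) (Lpr_ft (K42.f572719 IH) (Lpe (K42.f109074 IH) (Lpn (LP (LK LD1_c3 LD2_c46 LD3_c24))))))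
theorem f573947 : Led Lsl_bf (LP (LK LD1_c7 LD2_c59 LD3_c59)) = (LP (LK LD1_c7 LD2_c0 LD3_c45)) :=
  Lgr Lrot156 (Lpe (K39.f428047 IH) (Lpr_bf (K39.f427927 IH) (Lpr_ct (f567196 IH) (Lpr_gt (f573941 IH) (Lpe (f566128 IH) (Lpr_bt (f5423 IH) (Lpr_gt (K42.f5040 IH) (Lpe (K42.f569615 IH) (Lpr_gt (f572725 IH) (Lpe (K42.f441495 IH) (Lpn (LP (LK LD1_c7 LD2_c0 LD3_c45)))))))))))))
theorem f565079 : Led Lsl_bt (LP (LK LD1_c3 LD2_c38 LD3_c34)) = (LP (LK LD1_c5 LD2_c53 LD3_c55)) :=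
  Lgr Lrot119 (Lpe (K41.f5044 IH) (Lpr_bf (K41.f565071 IH) (Lpr_ef (K2.f71070 IH) (Lpn (LP (LK LD1_c5 LD2_c53 LD3_c55))))))
theorem f183219 : Led Lsl_cf (LP (LK LD1_c0 LD2_c56 LD3_c59)) = (LP (LK LD1_c1 LD2_c12 LD3_c32)) :=
  Lgr Lrot39 (Lpr_et (K9.f183216 IH) (Lpe (K9.f53186 IH) (Lpr_et (K18.f53200 IH) (Lpn (LP (LK LD1_c1 LD2_c12 LD3_c32))))))
theorem f557805 : Led Lsl_cf (LP (LK LD1_c2 LD2_c30 LD3_c61)) = (LP (LK LD1_c2 LD2_c53 LD3_c34)) :=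
  Lgr Lrot97 (Lpr_bt (K36.f194062 IH) (Lpe (f183219 IH) (Lpe (K35.f227305 IH) (Lpr_ct (K12.f227317 IH) (Lpr_bt (K40.f557801 IH) (Lpn (LP (LK LD1_c2 LD2_c53 LD3_c34))))))))
theorem f573953 : Led Lsl_gf (LP (LK LD1_c4 LD2_c58 LD3_c17)) = (LP (LK LD1_c2 LD2_c30 LD3_c61)) :=
  Lgr Lrot129 (Lpe (K35.f161194 IH) (Lpr_bt (K35.f158337 IH) (Lpr_gt (K39.f161196 IH) (Lpr_bf (f573947 IH) (Lpr_ct (K42.f441495 IH) (Lpr_gt (K42.f568815 IH) (Lpe (K42.f5627 IH) (Lpr_bt (f565079 IH) (Lpr_gt (K41.f71077 IH) (Lpe (f557805 IH) (Lpn (LP (LK LD1_c2 LD2_c30 LD3_c61)))))))))))))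
theorem f46866 : Led Lsl_gt (LP (LK LD1_c4 LD2_c5 LD3_c59)) = (LP (LK LD1_c8 LD2_c12 LD3_c15)) :=
  Lre_g IH (LK LD1_c4 LD2_c5 LD3_c59) (LK LD1_c8 LD2_c12 LD3_c15) Lrfl Lrfl
theorem f308504 : Led Lsl_dt (LP (LK LD1_c1 LD2_c12 LD3_c30)) = (LP (LK LD1_c2 LD2_c30 LD3_c60)) :=
  Lre_d IH (LK LD1_c1 LD2_c12 LD3_c30) (LK LD1_c2 LD2_c30 LD3_c60) Lrfl Lrfl
theorem f53306 : Led Lsl_gt (LP (LK LD1_c5 LD2_c7 LD3_c21)) = (LP (LK LD1_c2 LD2_c30 LD3_c60)) :=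
  Lre_g IH (LK LD1_c5 LD2_c7 LD3_c21) (LK LD1_c2 LD2_c30 LD3_c60) Lrfl Lrfl
theorem f177778 : Led Lsl_gt (LP (LK LD1_c4 LD2_c53 LD3_c48)) = (LP (LK LD1_c2 LD2_c24 LD3_c47)) :=
  Lre_g IH (LK LD1_c4 LD2_c53 LD3_c48) (LK LD1_c2 LD2_c24 LD3_c47) Lrfl Lrfl
theorem f288167 : Led Lsl_gf (LP (LK LD1_c4 LD2_c53 LD3_c48)) = (LP (LK LD1_c4 LD2_c53 LD3_c55)) :=
  Lgr Lrot47 (Lpr_gt (f177778 IH) (Lpe (K36.f225549 IH) (Lpr_ff (K36.f288162 IH) (Lpn (LP (LK LD1_c4 LD2_c53 LD3_c55))))))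
theorem f53301 : Led Lsl_dt (LP (LK LD1_c5 LD2_c7 LD3_c19)) = (LP (LK LD1_c2 LD2_c30 LD3_c59)) :=
  Lre_d IH (LK LD1_c5 LD2_c7 LD3_c19) (LK LD1_c2 LD2_c30 LD3_c59) Lrfl Lrfl
theorem f569487 : Led Lsl_dt (LP (LK LD1_c4 LD2_c53 LD3_c48)) = (LP (LK LD1_c5 LD2_c7 LD3_c21)) :=
  Lgr Lrot57 (Lpr_gf (f288167 IH) (Lpe (K36.f541257 IH) (Lpr_gt (K42.f569483 IH) (Lpr_dt (K39.f551913 IH) (Lpr_gt (K39.f53303 IH) (Lpr_dt (f53301 IH) (Lpe (K36.f3300 IH) (Lpe (K42.f53305 IH) (Lpe (f53306 IH) (Lpn (LP (LK LD1_c5 LD2_c7 LD3_c21))))))))))))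
theorem f573961 : Led Lsl_ef (LP (LK LD1_c3 LD2_c4 LD3_c48)) = (LP (LK LD1_c4 LD2_c53 LD3_c48)) :=
  Lgr Lrot17 (Lpe (K40.f60837 IH) (Lpe (K40.f60825 IH) (Lpr_dt (K10.f55835 IH) (Lpe (f46866 IH) (Lpe (K42.f572416 IH) (Lpr_gf (f573953 IH) (Lpe (K41.f302049 IH) (Lpr_dt (f308504 IH) (Lpe (f53306 IH) (Lpe (f569487 IH) (Lpn (LP (LK LD1_c4 LD2_c53 LD3_c48)))))))))))))
theorem f573963 : Led Lsl_et (LP (LK LD1_c3 LD2_c4 LD3_c48)) = (LP (LK LD1_c4 LD2_c53 LD3_c48)) :=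
  Lgr Lrot87 (Lpr_ef (f573961 IH) (Lpn (LP (LK LD1_c4 LD2_c53 LD3_c48))))
theorem f60838 : Led Lsl_dt (LP (LK LD1_c3 LD2_c4 LD3_c48)) = (LP (LK LD1_c6 LD2_c15 LD3_c31)) :=
  Lre_d IH (LK LD1_c3 LD2_c4 LD3_c48) (LK LD1_c6 LD2_c15 LD3_c31) Lrfl Lrfl
theorem f573965 : Led Lsl_gf (LP (LK LD1_c6 LD2_c15 LD3_c31)) = (LP (LK LD1_c11 LD2_c13 LD3_c21)) :=
  Lgr Lrot134 (Lpe (f60838 IH) (Lpr_et (f573963 IH) (Lpr_gt (f177778 IH) (Lpe (K36.f181090 IH) (Lpr_dt (K12.f225451 IH) (Lpr_gt (K40.f561551 IH) (Lpe (K39.f157829 IH) (Lpr_et (K39.f542194 IH) (Lpe (K37.f542228 IH) (Lpr_dt (K37.f412004 IH) (Lpn (LP (LK LD1_c11 LD2_c13 LD3_c21)))))))))))))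
theorem f60881 : Led Lsl_dt (LP (LK LD1_c6 LD2_c15 LD3_c31)) = (LP (LK LD1_c3 LD2_c4 LD3_c48)) :=
  Lre_d IH (LK LD1_c6 LD2_c15 LD3_c31) (LK LD1_c3 LD2_c4 LD3_c48) Lrfl Lrfl
theorem f561692 : Led Lsl_dt (LP (LK LD1_c12 LD2_c8 LD3_c57)) = (LP (LK LD1_c6 LD2_c15 LD3_c30)) :=
  Lre_d IH (LK LD1_c12 LD2_c8 LD3_c57) (LK LD1_c6 LD2_c15 LD3_c30) Lrfl Lrfl
theorem f573969 : Led Lsl_gf (LP (LK LD1_c12 LD2_c8 LD3_c57)) = (LP (LK LD1_c9 LD2_c2 LD3_c27)) :=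
  Lgr Lrot143 (Lpr_dt (f561692 IH) (Lpe (K40.f541712 IH) (Lpe (f60881 IH) (Lpr_gf (f573965 IH) (Lpe (K37.f412004 IH) (Lpr_gf (K37.f542228 IH) (Lpe (K39.f542197 IH) (Lpe (K39.f181352 IH) (Lpr_dt (K39.f181355 IH) (Lpn (LP (LK LD1_c9 LD2_c2 LD3_c27))))))))))))
theorem f423572 : Led Lsl_ff (LP (LK LD1_c5 LD2_c41 LD3_c28)) = (LP (LK LD1_c9 LD2_c2 LD3_c27)) :=
  Lgr Lrot19 (Lpr_dt (K31.f237376 IH) (Lpr_ft (K38.f423568 IH) (Lpr_dt (K39.f181355 IH) (Lpn (LP (LK LD1_c9 LD2_c2 LD3_c27))))))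
theorem f423625 : Led Lsl_at (LP (LK LD1_c5 LD2_c41 LD3_c28)) = (LP (LK LD1_c9 LD2_c2 LD3_c23)) :=
  Lgr Lrot66 (Lpr_ff (f423572 IH) (Lpe (K39.f423586 IH) (Lpr_ff (K39.f423610 IH) (Lpn (LP (LK LD1_c9 LD2_c2 LD3_c23))))))
theorem f573982 : Led Lsl_gt (LP (LK LD1_c12 LD2_c8 LD3_c57)) = (LP (LK LD1_c9 LD2_c2 LD3_c23)) :=
  Lgr Lrot46 (Lpr_gf (f573969 IH) (Lpe (f423572 IH) (Lpr_at (f423625 IH) (Lpn (LP (LK LD1_c9 LD2_c2 LD3_c23))))))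
theorem f561691 : Led Lsl_dt (LP (LK LD1_c6 LD2_c15 LD3_c30)) = (LP (LK LD1_c12 LD2_c8 LD3_c57)) :=
  Lre_d IH (LK LD1_c6 LD2_c15 LD3_c30) (LK LD1_c12 LD2_c8 LD3_c57) Lrfl Lrfl
theorem f551579 : Led Lsl_ef (LP (LK LD1_c2 LD2_c15 LD3_c5)) = (LP (LK LD1_c4 LD2_c32 LD3_c22)) :=
  Lgr Lrot88 (Lpr_et (K39.f551573 IH) (Lpn (LP (LK LD1_c4 LD2_c32 LD3_c22))))
theorem f81006 : Led Lsl_gt (LP (LK LD1_c3 LD2_c5 LD3_c6)) = (LP (LK LD1_c6 LD2_c15 LD3_c61)) :=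
  Lre_g IH (LK LD1_c3 LD2_c5 LD3_c6) (LK LD1_c6 LD2_c15 LD3_c61) Lrfl Lrfl
theorem f573988 : Led Lsl_et (LP (LK LD1_c6 LD2_c15 LD3_c30)) = (LP (LK LD1_c6 LD2_c15 LD3_c61)) :=
  Lgr Lrot122 (Lpr_dt (f561691 IH) (Lpr_gt (f573982 IH) (Lpe (K30.f181306 IH) (Lpe (f551579 IH) (Lpr_gt (K8.f149404 IH) (Lpe (K8.f132691 IH) (Lpr_gt (K8.f132687 IH) (Lpe (K5.f80260 IH) (Lpr_et (K6.f81095 IH) (Lpr_gt (f81006 IH) (Lpn (LP (LK LD1_c6 LD2_c15 LD3_c61)))))))))))))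
theorem f210665 : Led Lsl_bt (LP (LK LD1_c0 LD2_c38 LD3_c11)) = (LP (LK LD1_c1 LD2_c22 LD3_c25)) :=
  Lre_b IH (LK LD1_c0 LD2_c38 LD3_c11) (LK LD1_c1 LD2_c22 LD3_c25) Lrfl Lrfl
theorem f559792 : Led Lsl_gt (LP (LK LD1_c5 LD2_c52 LD3_c55)) = (LP (LK LD1_c8 LD2_c0 LD3_c11)) :=
  Lgr Lrot149 (Lpe (K41.f210683 IH) (Lpe (K41.f210672 IH) (Lpe (f210665 IH) (Lpr_ct (K12.f210669 IH) (Lpe (K10.f27196 IH) (Lpe (K11.f34728 IH) (Lpr_bt (K37.f71461 IH) (Lpe (K38.f112370 IH) (Lpe (K40.f548177 IH) (Lpr_ct (K40.f559777 IH) (Lpn (LP (LK LD1_c8 LD2_c0 LD3_c11)))))))))))))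
theorem f421389 : Led Lsl_af (LP (LK LD1_c10 LD2_c17 LD3_c57)) = (LP (LK LD1_c7 LD2_c59 LD3_c61)) :=
  Lgr Lrot0 (Lpr_at (K39.f421385 IH) (Lpn (LP (LK LD1_c7 LD2_c59 LD3_c61))))
theorem f428028 : Led Lsl_at (LP (LK LD1_c10 LD2_c5 LD3_c0)) = (LP (LK LD1_c10 LD2_c17 LD3_c54)) :=
  Lgr Lrot66 (Lpr_ff (K39.f427945 IH) (Lpr_af (f421389 IH) (Lpe (K39.f421214 IH) (Lpn (LP (LK LD1_c10 LD2_c17 LD3_c54))))))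
theorem f570502 : Led Lsl_gt (LP (LK LD1_c11 LD2_c57 LD3_c36)) = (LP (LK LD1_c10 LD2_c17 LD3_c54)) :=
  Lgr Lrot46 (Lpr_gf (K42.f570497 IH) (Lpe (K39.f427945 IH) (Lpr_at (f428028 IH) (Lpn (LP (LK LD1_c10 LD2_c17 LD3_c54))))))
theorem f573996 : Led Lsl_gf (LP (LK LD1_c6 LD2_c7 LD3_c30)) = (LP (LK LD1_c6 LD2_c15 LD3_c61)) :=
  Lgr Lrot138 (Lpr_dt (K42.f193627 IH) (Lpr_gt (f570502 IH) (Lpe (K39.f171709 IH) (Lpe (K42.f565448 IH) (Lpr_gt (f559792 IH) (Lpe (K40.f559758 IH) (Lpr_dt (K39.f181355 IH) (Lpe (f573969 IH) (Lpe (f561691 IH) (Lpr_et (f573988 IH) (Lpn (LP (LK LD1_c6 LD2_c15 LD3_c61)))))))))))))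
theorem f574005 : Led Lsl_ef (LP (LK LD1_c6 LD2_c7 LD3_c30)) = (LP (LK LD1_c6 LD2_c15 LD3_c44)) :=
  Lgr Lrot17 (Lpr_gf (f573996 IH) (Lpe (f573988 IH) (Lpr_dt (f561691 IH) (Lpr_gf (f573969 IH) (Lpe (K39.f181355 IH) (Lpr_gf (K39.f181352 IH) (Lpr_ef (K39.f542205 IH) (Lpr_dt (K39.f174563 IH) (Lpe (K40.f551583 IH) (Lpe (K40.f132995 IH) (Lpn (LP (LK LD1_c6 LD2_c15 LD3_c44)))))))))))))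
theorem f176032 : Led Lsl_ct (LP (LK LD1_c2 LD2_c59 LD3_c59)) = (LP (LK LD1_c1 LD2_c25 LD3_c45)) :=
  Lre_c IH (LK LD1_c2 LD2_c59 LD3_c59) (LK LD1_c1 LD2_c25 LD3_c45) Lrfl Lrfl
theorem f193617 : Led Lsl_ct (LP (LK LD1_c6 LD2_c7 LD3_c30)) = (LP (LK LD1_c2 LD2_c59 LD3_c57)) :=
  Lre_c IH (LK LD1_c6 LD2_c7 LD3_c30) (LK LD1_c2 LD2_c59 LD3_c57) Lrfl Lrfl
theorem f193618 : Led Lsl_bf (LP (LK LD1_c9 LD2_c14 LD3_c58)) = (LP (LK LD1_c6 LD2_c7 LD3_c30)) :=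
  Lgr Lrot165 (Lpr_gt (K38.f56213 IH) (Lpr_ct (K38.f56212 IH) (Lpr_gt (K36.f22420 IH) (Lpe (K42.f56194 IH) (Lpr_bt (K1.f46613 IH) (Lpe (K13.f193453 IH) (Lpr_bf (K42.f193468 IH) (Lpr_ct (f176032 IH) (Lpr_gt (K42.f176020 IH) (Lpe (f193617 IH) (Lpn (LP (LK LD1_c6 LD2_c7 LD3_c30)))))))))))))
theorem f574009 : Led Lsl_bt (LP (LK LD1_c4 LD2_c56 LD3_c52)) = (LP (LK LD1_c6 LD2_c15 LD3_c44)) :=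
  Lgr Lrot119 (Lpr_ef (K39.f553485 IH) (Lpr_bf (f193618 IH) (Lpr_ef (f574005 IH) (Lpn (LP (LK LD1_c6 LD2_c15 LD3_c44))))))
theorem f211889 : Led Lsl_cf (LP (LK LD1_c2 LD2_c44 LD3_c51)) = (LP (LK LD1_c4 LD2_c56 LD3_c52)) :=
  Lgr Lrot11 (Lpr_ct (K39.f211850 IH) (Lpn (LP (LK LD1_c4 LD2_c56 LD3_c52))))
theorem f574021 : Led Lsl_cf (LP (LK LD1_c5 LD2_c37 LD3_c50)) = (LP (LK LD1_c11 LD2_c6 LD3_c10)) :=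
  Lgr Lrot160 (Lpr_gt (K39.f211852 IH) (Lpr_cf (f211889 IH) (Lpr_bt (f574009 IH) (Lpe (K40.f541345 IH) (Lpr_ct (K39.f137987 IH) (Lpr_gt (K36.f541277 IH) (Lpe (K39.f551969 IH) (Lpe (K39.f117771 IH) (Lpe (K39.f553516 IH) (Lpe (K41.f201328 IH) (Lpn (LP (LK LD1_c11 LD2_c6 LD3_c10)))))))))))))
theorem f541281 : Led Lsl_bf (LP (LK LD1_c8 LD2_c12 LD3_c22)) = (LP (LK LD1_c9 LD2_c44 LD3_c40)) :=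
  Lgr Lrot24 (Lpr_bt (K39.f541279 IH) (Lpn (LP (LK LD1_c9 LD2_c44 LD3_c40))))
theorem f574025 : Led Lsl_ct (LP (LK LD1_c9 LD2_c44 LD3_c40)) = (LP (LK LD1_c6 LD2_c15 LD3_c23)) :=
  Lgr Lrot64 (Lpe (f541281 IH) (Lpr_gf (K40.f541345 IH) (Lpe (f574009 IH) (Lpe (f211889 IH) (Lpe (K39.f211852 IH) (Lpr_cf (f574021 IH) (Lpe (K41.f562296 IH) (Lpe (K2.f60647 IH) (Lpr_ct (K2.f60872 IH) (Lpe (K36.f60878 IH) (Lpn (LP (LK LD1_c6 LD2_c15 LD3_c23)))))))))))))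
theorem f566828 : Led Lsl_ct (LP (LK LD1_c5 LD2_c37 LD3_c41)) = (LP (LK LD1_c3 LD2_c0 LD3_c52)) :=
  Lgr Lrot15 (Lpe (K41.f506385 IH) (Lpr_cf (K41.f566824 IH) (Lpe (K39.f24009 IH) (Lpn (LP (LK LD1_c3 LD2_c0 LD3_c52))))))
theorem f574037 : Led Lsl_bt (LP (LK LD1_c5 LD2_c37 LD3_c41)) = (LP (LK LD1_c2 LD2_c48 LD3_c61)) :=
  Lgr Lrot22 (Lpr_ct (f566828 IH) (Lpe (K40.f556749 IH) (Lpe (K6.f59409 IH) (Lpe (K36.f541343 IH) (Lpr_bf (f541281 IH) (Lpr_ct (f574025 IH) (Lpe (K36.f60724 IH) (Lpe (K38.f60436 IH) (Lpr_bt (K39.f56472 IH) (Lpr_gf (K10.f60772 IH) (Lpn (LP (LK LD1_c2 LD2_c48 LD3_c61)))))))))))))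
theorem f410688 : Led Lsl_af (LP (LK LD1_c5 LD2_c46 LD3_c37)) = (LP (LK LD1_c6 LD2_c14 LD3_c5)) :=
  Lgr Lrot117 (Lpr_dt (K11.f69367 IH) (Lpr_at (K37.f410682 IH) (Lpr_dt (K13.f197920 IH) (Lpn (LP (LK LD1_c6 LD2_c14 LD3_c5))))))
theorem f410939 : Led Lsl_at (LP (LK LD1_c2 LD2_c48 LD3_c61)) = (LP (LK LD1_c3 LD2_c3 LD3_c53)) :=
  Lgr Lrot80 (Lpe (K11.f60775 IH) (Lpr_af (f410688 IH) (Lpe (K37.f197923 IH) (Lpn (LP (LK LD1_c3 LD2_c3 LD3_c53))))))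
theorem f566169 : Led Lsl_at (LP (LK LD1_c6 LD2_c14 LD3_c3)) = (LP (LK LD1_c12 LD2_c6 LD3_c10)) :=
  Lgr Lrot26 (Lpe (K39.f410580 IH) (Lpr_gt (K41.f566165 IH) (Lpr_gt (K41.f420441 IH) (Lpn (LP (LK LD1_c12 LD2_c6 LD3_c10))))))
theorem f68720 : Led Lsl_ct (LP (LK LD1_c1 LD2_c19 LD3_c53)) = (LP (LK LD1_c2 LD2_c46 LD3_c54)) :=
  Lre_c IH (LK LD1_c1 LD2_c19 LD3_c53) (LK LD1_c2 LD2_c46 LD3_c54) Lrfl Lrfl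
theorem f557172 : Led Lsl_ct (LP (LK LD1_c6 LD2_c14 LD3_c30)) = (LP (LK LD1_c3 LD2_c4 LD3_c61)) :=
  Lgr Lrot8 (Lpr_gt (K39.f557166 IH) (Lpr_dt (K39.f180198 IH) (Lpe (K39.f551743 IH) (Lpr_dt (K39.f181674 IH) (Lpe (f68720 IH) (Lpe (K39.f181677 IH) (Lpr_gf (K39.f541713 IH) (Lpe (K39.f552033 IH) (Lpe (K39.f133045 IH) (Lpn (LP (LK LD1_c3 LD2_c4 LD3_c61))))))))))))
theorem f573525 : Led Lsl_bt (LP (LK LD1_c12 LD2_c6 LD3_c10)) = (LP (LK LD1_c6 LD2_c14 LD3_c30)) :=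
  Lgr Lrot128 (Lpr_cf (f573521 IH) (Lpe (K42.f547338 IH) (Lpr_cf (K38.f547434 IH) (Lpe (K39.f547455 IH) (Lpe (f557172 IH) (Lpn (LP (LK LD1_c6 LD2_c14 LD3_c30))))))))
theorem f574039 : Led Lsl_af (LP (LK LD1_c5 LD2_c37 LD3_c41)) = (LP (LK LD1_c6 LD2_c14 LD3_c30)) :=
  Lgr Lrot36 (Lpr_bt (f574037 IH) (Lpr_at (f410939 IH) (Lpr_bt (f197880 IH) (Lpr_at (f566169 IH) (Lpr_bt (f573525 IH) (Lpn (LP (LK LD1_c6 LD2_c14 LD3_c30))))))))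
theorem f574041 : Led Lsl_at (LP (LK LD1_c5 LD2_c37 LD3_c41)) = (LP (LK LD1_c6 LD2_c14 LD3_c30)) :=
  Lgr Lrot100 (Lpr_af (f574039 IH) (Lpn (LP (LK LD1_c6 LD2_c14 LD3_c30))))
theorem f574045 : Led Lsl_af (LP (LK LD1_c11 LD2_c6 LD3_c48)) = (LP (LK LD1_c12 LD2_c7 LD3_c19)) :=
  Lgr Lrot50 (Lpr_et (K41.f506385 IH) (Lpr_at (f574041 IH) (Lpr_et (K41.f547217 IH) (Lpn (LP (LK LD1_c12 LD2_c7 LD3_c19))))))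
theorem f570193 : Led Lsl_at (LP (LK LD1_c9 LD2_c51 LD3_c20)) = (LP (LK LD1_c7 LD2_c14 LD3_c29)) :=
  Lgr Lrot107 (Lpe (K38.f175705 IH) (Lpe (K39.f175717 IH) (Lpr_cf (K42.f570191 IH) (Lpn (LP (LK LD1_c7 LD2_c14 LD3_c29))))))
theorem f574047 : Led Lsl_ft (LP (LK LD1_c7 LD2_c14 LD3_c29)) = (LP (LK LD1_c12 LD2_c7 LD3_c19)) :=
  Lgr Lrot101 (Lpe (f570193 IH) (Lpe (K41.f566830 IH) (Lpr_af (f574045 IH) (Lpn (LP (LK LD1_c12 LD2_c7 LD3_c19))))))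
theorem f574049 : Led Lsl_ff (LP (LK LD1_c11 LD2_c33 LD3_c61)) = (LP (LK LD1_c11 LD2_c32 LD3_c5)) :=
  Lgr Lrot19 (Lpr_dt (K42.f570200 IH) (Lpr_ft (f574047 IH) (Lpr_dt (K41.f547213 IH) (Lpn (LP (LK LD1_c11 LD2_c32 LD3_c5))))))
theorem f570195 : Led Lsl_bt (LP (LK LD1_c3 LD2_c37 LD3_c4)) = (LP (LK LD1_c7 LD2_c14 LD3_c29)) :=
  Lre_b IH (LK LD1_c3 LD2_c37 LD3_c4) (LK LD1_c7 LD2_c14 LD3_c29) Lrfl Lrfl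
theorem f92637 : Led Lsl_dt (LP (LK LD1_c7 LD2_c14 LD3_c31)) = (LP (LK LD1_c3 LD2_c37 LD3_c4)) :=
  Lre_d IH (LK LD1_c7 LD2_c14 LD3_c31) (LK LD1_c3 LD2_c37 LD3_c4) Lrfl Lrfl
theorem f570212 : Led Lsl_bt (LP (LK LD1_c11 LD2_c33 LD3_c61)) = (LP (LK LD1_c7 LD2_c14 LD3_c31)) :=
  Lgr Lrot95 (Lpr_df (K42.f570204 IH) (Lpe (f570195 IH) (Lpe (f92637 IH) (Lpn (LP (LK LD1_c7 LD2_c14 LD3_c31))))))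
theorem f573643 : Led Lsl_ft (LP (LK LD1_c7 LD2_c14 LD3_c31)) = (LP (LK LD1_c13 LD2_c31 LD3_c12)) :=
  Lgr Lrot54 (Lpe (K42.f6549 IH) (Lpr_ff (f573639 IH) (Lpe (K42.f98137 IH) (Lpn (LP (LK LD1_c13 LD2_c31 LD3_c12))))))
theorem f574051 : Led Lsl_bt (LP (LK LD1_c13 LD2_c31 LD3_c12)) = (LP (LK LD1_c11 LD2_c32 LD3_c5)) :=
  Lgr Lrot35 (Lpe (f573643 IH) (Lpe (f570212 IH) (Lpr_ff (f574049 IH) (Lpn (LP (LK LD1_c11 LD2_c32 LD3_c5))))))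
theorem f98416 : Led Lsl_ct (LP (LK LD1_c13 LD2_c31 LD3_c12)) = (LP (LK LD1_c22 LD2_c52 LD3_c13)) :=
  Lre_c IH (LK LD1_c13 LD2_c31 LD3_c12) (LK LD1_c22 LD2_c52 LD3_c13) Lrfl Lrfl
theorem f210687 : Led Lsl_bf (LP (LK LD1_c5 LD2_c52 LD3_c58)) = (LP (LK LD1_c4 LD2_c58 LD3_c11)) :=
  Lgr Lrot24 (Lpr_bt (K36.f210685 IH) (Lpn (LP (LK LD1_c4 LD2_c58 LD3_c11))))
theorem f272747 : Led Lsl_df (LP (LK LD1_c15 LD2_c13 LD3_c12)) = (LP (LK LD1_c11 LD2_c32 LD3_c39)) :=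
  Lgr Lrot43 (Lpr_ct (K18.f81213 IH) (Lpr_dt (K10.f81210 IH) (Lpr_ct (K12.f193392 IH) (Lpr_dt (K10.f193378 IH) (Lpr_ct (K12.f173294 IH) (Lpr_dt (K12.f193382 IH) (Lpr_ct (K18.f193383 IH) (Lpe (K18.f272589 IH) (Lpr_ct (K18.f28545 IH) (Lpr_dt (K18.f28543 IH) (Lpr_ct (K11.f28542 IH) (Lpe (K12.f28540 IH) (Lpe (K18.f211618 IH) (Lpr_dt (K31.f211604 IH) (Lpr_ct (K18.f272727 IH) (Lpn (LP (LK LD1_c11 LD2_c32 LD3_c39))))))))))))))))))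
theorem f272828 : Led Lsl_gt (LP (LK LD1_c9 LD2_c47 LD3_c16)) = (LP (LK LD1_c11 LD2_c32 LD3_c39)) :=
  Lgr Lrot49 (Lpr_df (K36.f272721 IH) (Lpe (K42.f229357 IH) (Lpe (K1.f35485 IH) (Lpe (K41.f272725 IH) (Lpe (K12.f227550 IH) (Lpr_gt (K12.f211669 IH) (Lpr_dt (K10.f33732 IH) (Lpe (K18.f81213 IH) (Lpr_df (f272747 IH) (Lpn (LP (LK LD1_c11 LD2_c32 LD3_c39))))))))))))
theorem f272760 : Led Lsl_bt (LP (LK LD1_c8 LD2_c3 LD3_c43)) = (LP (LK LD1_c15 LD2_c10 LD3_c27)) :=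
  Lre_b IH (LK LD1_c8 LD2_c3 LD3_c43) (LK LD1_c15 LD2_c10 LD3_c27) Lrfl Lrfl
theorem f241461 : Led Lsl_df (LP (LK LD1_c15 LD2_c8 LD3_c49)) = (LP (LK LD1_c10 LD2_c16 LD3_c8)) :=
  Lgr Lrot12 (Lpr_bt (K42.f36765 IH) (Lpr_dt (K13.f241458 IH) (Lpr_bt (f241460 IH) (Lpn (LP (LK LD1_c10 LD2_c16 LD3_c8))))))
theorem f569737 : Led Lsl_ct (LP (LK LD1_c7 LD2_c7 LD3_c39)) = (LP (LK LD1_c7 LD2_c13 LD3_c49)) :=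
  Lgr Lrot59 (Lpr_cf (K42.f569735 IH) (Lpn (LP (LK LD1_c7 LD2_c13 LD3_c49))))
theorem f571145 : Led Lsl_ef (LP (LK LD1_c7 LD2_c7 LD3_c39)) = (LP (LK LD1_c12 LD2_c5 LD3_c20)) :=
  Lgr Lrot28 (Lpr_ct (f569737 IH) (Lpr_et (K42.f571143 IH) (Lpe (K41.f565429 IH) (Lpn (LP (LK LD1_c12 LD2_c5 LD3_c20))))))
theorem f273113 : Led Lsl_et (LP (LK LD1_c10 LD2_c16 LD3_c8)) = (LP (LK LD1_c5 LD2_c12 LD3_c53)) :=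
  Lre_e IH (LK LD1_c10 LD2_c16 LD3_c8) (LK LD1_c5 LD2_c12 LD3_c53) Lrfl Lrfl
theorem f571164 : Led Lsl_gf (LP (LK LD1_c21 LD2_c10 LD3_c59)) = (LP (LK LD1_c15 LD2_c8 LD3_c49)) :=
  Lgr Lrot145 (Lpe (K42.f175031 IH) (Lpe (f571145 IH) (Lpr_gt (K39.f97381 IH) (Lpr_dt (K39.f97384 IH) (Lpr_gt (K42.f571153 IH) (Lpe (K42.f237434 IH) (Lpr_et (K42.f237458 IH) (Lpr_gt (K42.f569501 IH) (Lpe (f273113 IH) (Lpe (f241461 IH) (Lpn (LP (LK LD1_c15 LD2_c8 LD3_c49)))))))))))))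
theorem f572563 : Led Lsl_gt (LP (LK LD1_c15 LD2_c10 LD3_c27)) = (LP (LK LD1_c16 LD2_c26 LD3_c0)) :=
  Lgr Lrot49 (Lpe (f272832 IH) (Lpr_gf (K42.f572561 IH) (Lpe (K34.f97420 IH) (Lpr_gt (K42.f571178 IH) (Lpe (f241461 IH) (Lpe (f571164 IH) (Lpr_dt (K42.f565435 IH) (Lpr_cf (K41.f565429 IH) (Lpe (f210663 IH) (Lpn (LP (LK LD1_c16 LD2_c26 LD3_c0))))))))))))
theorem f35493 : Led Lsl_ct (LP (LK LD1_c16 LD2_c26 LD3_c0)) = (LP (LK LD1_c26 LD2_c23 LD3_c24)) :=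
  Lre_c IH (LK LD1_c16 LD2_c26 LD3_c0) (LK LD1_c26 LD2_c23 LD3_c24) Lrfl Lrfl
theorem f574065 : Led Lsl_gf (LP (LK LD1_c22 LD2_c52 LD3_c13)) = (LP (LK LD1_c26 LD2_c23 LD3_c24)) :=
  Lgr Lrot129 (Lpe (f98416 IH) (Lpr_bt (f574051 IH) (Lpr_gt (K41.f210680 IH) (Lpr_bf (f210687 IH) (Lpr_ct (K36.f198084 IH) (Lpr_gt (f272828 IH) (Lpe (K18.f272727 IH) (Lpr_bt (f272760 IH) (Lpr_gt (f572563 IH) (Lpr_ct (f35493 IH) (Lpn (LP (LK LD1_c26 LD2_c23 LD3_c24)))))))))))))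
theorem f571236 : Led Lsl_dt (LP (LK LD1_c16 LD2_c25 LD3_c55)) = (LP (LK LD1_c13 LD2_c26 LD3_c44)) :=
  Lgr Lrot42 (Lpr_df (K42.f571232 IH) (Lpn (LP (LK LD1_c13 LD2_c26 LD3_c44))))
theorem f227511 : Led Lsl_dt (LP (LK LD1_c8 LD2_c48 LD3_c28)) = (LP (LK LD1_c16 LD2_c28 LD3_c39)) :=
  Lre_d IH (LK LD1_c8 LD2_c48 LD3_c28) (LK LD1_c16 LD2_c28 LD3_c39) Lrfl Lrfl
theorem f571248 : Led Lsl_gf (LP (LK LD1_c13 LD2_c31 LD3_c12)) = (LP (LK LD1_c16 LD2_c28 LD3_c39)) :=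
  Lgr Lrot143 (Lpr_dt (K42.f98137 IH) (Lpr_cf (K41.f540979 IH) (Lpe (f571236 IH) (Lpr_gf (K42.f571242 IH) (Lpe (K42.f175031 IH) (Lpe (K41.f175030 IH) (Lpe (K35.f193532 IH) (Lpe (K41.f565067 IH) (Lpr_dt (f227511 IH) (Lpn (LP (LK LD1_c16 LD2_c28 LD3_c39))))))))))))
theorem f438138 : Led Lsl_ct (LP (LK LD1_c26 LD2_c22 LD3_c52)) = (LP (LK LD1_c16 LD2_c25 LD3_c19)) :=
  Lre_c IH (LK LD1_c26 LD2_c22 LD3_c52) (LK LD1_c16 LD2_c25 LD3_c19) Lrfl Lrfl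
theorem f571252 : Led Lsl_gt (LP (LK LD1_c22 LD2_c52 LD3_c13)) = (LP (LK LD1_c26 LD2_c22 LD3_c52)) :=
  Lgr Lrot150 (Lpe (f98416 IH) (Lpr_gf (f571248 IH) (Lpe (f227511 IH) (Lpr_gt (K41.f565065 IH) (Lpr_ct (K41.f538525 IH) (Lpr_gt (K35.f70502 IH) (Lpr_ct (K35.f137878 IH) (Lpe (f137693 IH) (Lpe (f438138 IH) (Lpn (LP (LK LD1_c26 LD2_c22 LD3_c52))))))))))))
theorem f556701 : Led Lsl_ct (LP (LK LD1_c16 LD2_c26 LD3_c26)) = (LP (LK LD1_c8 LD2_c47 LD3_c10)) :=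
  Lre_c IH (LK LD1_c16 LD2_c26 LD3_c26) (LK LD1_c8 LD2_c47 LD3_c10) Lrfl Lrfl
theorem f573063 : Led Lsl_ff (LP (LK LD1_c16 LD2_c26 LD3_c26)) = (LP (LK LD1_c26 LD2_c23 LD3_c24)) :=
  Lgr Lrot23 (Lpr_ct (f556701 IH) (Lpr_ft (f573059 IH) (Lpr_ct (f35493 IH) (Lpn (LP (LK LD1_c26 LD2_c23 LD3_c24))))))
theorem f574067 : Led Lsl_af (LP (LK LD1_c26 LD2_c22 LD3_c52)) = (LP (LK LD1_c16 LD2_c26 LD3_c26)) :=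
  Lgr Lrot31 (Lpe (f571252 IH) (Lpr_gf (f574065 IH) (Lpe (f573063 IH) (Lpn (LP (LK LD1_c16 LD2_c26 LD3_c26))))))
theorem f35478 : Led Lsl_ct (LP (LK LD1_c8 LD2_c47 LD3_c10)) = (LP (LK LD1_c16 LD2_c26 LD3_c26)) :=
  Lre_c IH (LK LD1_c8 LD2_c47 LD3_c10) (LK LD1_c16 LD2_c26 LD3_c26) Lrfl Lrfl
theorem f574071 : Led Lsl_at (LP (LK LD1_c16 LD2_c25 LD3_c19)) = (LP (LK LD1_c8 LD2_c47 LD3_c10)) :=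
  Lgr Lrot107 (Lpe (f438138 IH) (Lpr_af (f574067 IH) (Lpe (f35478 IH) (Lpn (LP (LK LD1_c8 LD2_c47 LD3_c10))))))
theorem f573049 : Led Lsl_af (LP (LK LD1_c8 LD2_c47 LD3_c11)) = (LP (LK LD1_c16 LD2_c26 LD3_c0)) :=
  Lgr Lrot0 (Lpr_at (f573047 IH) (Lpn (LP (LK LD1_c16 LD2_c26 LD3_c0))))
theorem f574073 : Led Lsl_ff (LP (LK LD1_c16 LD2_c25 LD3_c19)) = (LP (LK LD1_c8 LD2_c47 LD3_c11)) :=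
  Lgr Lrot30 (Lpr_at (f574071 IH) (Lpr_ft (f573059 IH) (Lpe (f573049 IH) (Lpn (LP (LK LD1_c8 LD2_c47 LD3_c11))))))
theorem f574075 : Led Lsl_gt (LP (LK LD1_c13 LD2_c31 LD3_c22)) = (LP (LK LD1_c8 LD2_c47 LD3_c10)) :=
  Lgr Lrot46 (Lpr_gf (K42.f572510 IH) (Lpe (f574073 IH) (Lpr_at (f574071 IH) (Lpn (LP (LK LD1_c8 LD2_c47 LD3_c10))))))
theorem f570905 : Led Lsl_af (LP (LK LD1_c13 LD2_c31 LD3_c18)) = (LP (LK LD1_c15 LD2_c10 LD3_c27)) :=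
  Lgr Lrot36 (Lpr_bt (K42.f570903 IH) (Lpe (K40.f547585 IH) (Lpr_bt (K38.f193836 IH) (Lpe (K18.f297204 IH) (Lpr_bt (f272760 IH) (Lpn (LP (LK LD1_c15 LD2_c10 LD3_c27))))))))
theorem f574077 : Led Lsl_gf (LP (LK LD1_c13 LD2_c31 LD3_c18)) = (LP (LK LD1_c8 LD2_c47 LD3_c10)) :=
  Lgr Lrot76 (Lpr_af (f570905 IH) (Lpe (K42.f572530 IH) (Lpr_gt (f574075 IH) (Lpn (LP (LK LD1_c8 LD2_c47 LD3_c10))))))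
theorem f36046 : Led Lsl_et (LP (LK LD1_c1 LD2_c2 LD3_c0)) = (LP (LK LD1_c2 LD2_c9 LD3_c53)) :=
  Lre_e IH (LK LD1_c1 LD2_c2 LD3_c0) (LK LD1_c2 LD2_c9 LD3_c53) Lrfl Lrfl
theorem f133022 : Led Lsl_et (LP (LK LD1_c3 LD2_c57 LD3_c38)) = (LP (LK LD1_c7 LD2_c56 LD3_c41)) :=
  Lre_e IH (LK LD1_c3 LD2_c57 LD3_c38) (LK LD1_c7 LD2_c56 LD3_c41) Lrfl Lrfl
theorem f574088 : Led Lsl_gt (LP (LK LD1_c8 LD2_c3 LD3_c39)) = (LP (LK LD1_c7 LD2_c56 LD3_c41)) :=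
  Lgr Lrot131 (Lpe (K42.f570935 IH) (Lpr_dt (K42.f565604 IH) (Lpr_gf (f574077 IH) (Lpe (f35477 IH) (Lpe (K39.f35476 IH) (Lpe (f36046 IH) (Lpr_dt (K5.f35994 IH) (Lpe (K6.f36028 IH) (Lpr_df (K36.f137916 IH) (Lpr_et (f133022 IH) (Lpn (LP (LK LD1_c7 LD2_c56 LD3_c41)))))))))))))
theorem f556694 : Led Lsl_ef (LP (LK LD1_c7 LD2_c56 LD3_c48)) = (LP (LK LD1_c4 LD2_c24 LD3_c50)) :=
  Lgr Lrot28 (Lpr_ct (K28.f36051 IH) (Lpr_et (K36.f37836 IH) (Lpr_ct (K39.f556685 IH) (Lpn (LP (LK LD1_c4 LD2_c24 LD3_c50))))))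
theorem f112825 : Led Lsl_gt (LP (LK LD1_c11 LD2_c37 LD3_c42)) = (LP (LK LD1_c8 LD2_c48 LD3_c10)) :=
  Lgr Lrot46 (Lpe (K5.f112630 IH) (Lpr_ft (K5.f112646 IH) (Lpr_at (K5.f70398 IH) (Lpn (LP (LK LD1_c8 LD2_c48 LD3_c10))))))
theorem f424758 : Led Lsl_gf (LP (LK LD1_c7 LD2_c56 LD3_c48)) = (LP (LK LD1_c4 LD2_c36 LD3_c54)) :=
  Lgr Lrot147 (Lpr_ct (K28.f36051 IH) (Lpr_gt (K36.f36048 IH) (Lpe (K4.f72093 IH) (Lpe (K4.f38579 IH) (Lpe (K42.f38577 IH) (Lpe (f112825 IH) (Lpe (K36.f112684 IH) (Lpr_gf (K36.f424756 IH) (Lpe (K36.f142217 IH) (Lpn (LP (LK LD1_c4 LD2_c36 LD3_c54))))))))))))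
theorem f133031 : Led Lsl_dt (LP (LK LD1_c7 LD2_c56 LD3_c41)) = (LP (LK LD1_c14 LD2_c59 LD3_c25)) :=
  Lre_d IH (LK LD1_c7 LD2_c56 LD3_c41) (LK LD1_c14 LD2_c59 LD3_c25) Lrfl Lrfl
theorem f574093 : Led Lsl_gf (LP (LK LD1_c8 LD2_c5 LD3_c15)) = (LP (LK LD1_c14 LD2_c59 LD3_c25)) :=
  Lgr Lrot134 (Lpr_df (K42.f193413 IH) (Lpe (K42.f540836 IH) (Lpe (f424758 IH) (Lpr_ef (f556694 IH) (Lpr_dt (f35477 IH) (Lpe (f574077 IH) (Lpe (K42.f565604 IH) (Lpr_et (K42.f570935 IH) (Lpr_gt (f574088 IH) (Lpr_dt (f133031 IH) (Lpn (LP (LK LD1_c14 LD2_c59 LD3_c25)))))))))))))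
theorem f5228 : Led Lsl_dt (LP (LK LD1_c7 LD2_c19 LD3_c16)) = (LP (LK LD1_c3 LD2_c39 LD3_c32)) :=
  Lre_d IH (LK LD1_c7 LD2_c19 LD3_c16) (LK LD1_c3 LD2_c39 LD3_c32) Lrfl Lrfl
theorem f565047 : Led Lsl_et (LP (LK LD1_c3 LD2_c33 LD3_c45)) = (LP (LK LD1_c7 LD2_c8 LD3_c24)) :=
  Lre_e IH (LK LD1_c3 LD2_c33 LD3_c45) (LK LD1_c7 LD2_c8 LD3_c24) Lrfl Lrfl
theorem f570946 : Led Lsl_ct (LP (LK LD1_c7 LD2_c8 LD3_c24)) = (LP (LK LD1_c8 LD2_c3 LD3_c39)) :=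
  Lgr Lrot15 (Lpe (f565047 IH) (Lpe (K42.f98330 IH) (Lpr_ef (K42.f570944 IH) (Lpn (LP (LK LD1_c8 LD2_c3 LD3_c39))))))
theorem f112750 : Led Lsl_gt (LP (LK LD1_c6 LD2_c14 LD3_c35)) = (LP (LK LD1_c3 LD2_c4 LD3_c11)) :=
  Lre_g IH (LK LD1_c6 LD2_c14 LD3_c35) (LK LD1_c3 LD2_c4 LD3_c11) Lrfl Lrfl
theorem f181144 : Led Lsl_dt (LP (LK LD1_c3 LD2_c0 LD3_c19)) = (LP (LK LD1_c2 LD2_c0 LD3_c55)) :=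
  Lgr Lrot79 (Lpe (K35.f181143 IH) (Lpr_df (K9.f181136 IH) (Lpe (K35.f181142 IH) (Lpn (LP (LK LD1_c2 LD2_c0 LD3_c55))))))
theorem f546561 : Led Lsl_ct (LP (LK LD1_c6 LD2_c14 LD3_c35)) = (LP (LK LD1_c3 LD2_c5 LD3_c9)) :=
  Lgr Lrot8 (Lpr_gt (f112750 IH) (Lpr_dt (K38.f205772 IH) (Lpr_gt (K38.f546557 IH) (Lpr_dt (K38.f159186 IH) (Lpe (K39.f538397 IH) (Lpe (f181144 IH) (Lpr_gf (K35.f538409 IH) (Lpe (K8.f132779 IH) (Lpe (K35.f81099 IH) (Lpn (LP (LK LD1_c3 LD2_c5 LD3_c9))))))))))))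
theorem f546563 : Led Lsl_cf (LP (LK LD1_c6 LD2_c14 LD3_c35)) = (LP (LK LD1_c3 LD2_c5 LD3_c9)) :=
  Lgr Lrot166 (Lpr_gt (f112750 IH) (Lpr_dt (K38.f205772 IH) (Lpr_gt (K38.f546557 IH) (Lpr_dt (K38.f159186 IH) (Lpe (K37.f538403 IH) (Lpe (f181144 IH) (Lpr_gf (K35.f538409 IH) (Lpe (K8.f132779 IH) (Lpe (K35.f81099 IH) (Lpn (LP (LK LD1_c3 LD2_c5 LD3_c9))))))))))))
theorem f570909 : Led Lsl_bf (LP (LK LD1_c7 LD2_c8 LD3_c22)) = (LP (LK LD1_c10 LD2_c2 LD3_c52)) :=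
  Lgr Lrot93 (Lpr_dt (K42.f565604 IH) (Lpr_bt (K42.f570903 IH) (Lpr_dt (K40.f545126 IH) (Lpn (LP (LK LD1_c10 LD2_c2 LD3_c52))))))
theorem f570938 : Led Lsl_bf (LP (LK LD1_c5 LD2_c5 LD3_c57)) = (LP (LK LD1_c8 LD2_c3 LD3_c39)) :=
  Lgr Lrot96 (Lpr_et (K38.f545129 IH) (Lpe (f570909 IH) (Lpr_et (K42.f570935 IH) (Lpn (LP (LK LD1_c8 LD2_c3 LD3_c39))))))
theorem f571372 : Led Lsl_bt (LP (LK LD1_c6 LD2_c14 LD3_c35)) = (LP (LK LD1_c7 LD2_c8 LD3_c24)) :=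
  Lgr Lrot128 (Lpr_cf (f546563 IH) (Lpr_bf (K42.f571368 IH) (Lpe (K38.f418116 IH) (Lpr_bf (f570938 IH) (Lpe (f570946 IH) (Lpn (LP (LK LD1_c7 LD2_c8 LD3_c24))))))))
theorem f193626 : Led Lsl_bt (LP (LK LD1_c9 LD2_c14 LD3_c59)) = (LP (LK LD1_c4 LD2_c39 LD3_c43)) :=
  Lre_b IH (LK LD1_c9 LD2_c14 LD3_c59) (LK LD1_c4 LD2_c39 LD3_c43) Lrfl Lrfl
theorem f571380 : Led Lsl_gt (LP (LK LD1_c7 LD2_c8 LD3_c24)) = (LP (LK LD1_c6 LD2_c13 LD3_c47)) :=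
  Lgr Lrot82 (Lpe (f571372 IH) (Lpr_ct (f546561 IH) (Lpr_gf (K42.f571376 IH) (Lpe (f193617 IH) (Lpe (f193618 IH) (Lpe (K38.f8409 IH) (Lpe (f193626 IH) (Lpe (K41.f556861 IH) (Lpe (K42.f417969 IH) (Lpr_cf (K42.f569535 IH) (Lpn (LP (LK LD1_c6 LD2_c13 LD3_c47)))))))))))))
theorem f574097 : Led Lsl_gf (LP (LK LD1_c7 LD2_c19 LD3_c16)) = (LP (LK LD1_c12 LD2_c6 LD3_c15)) :=
  Lgr Lrot143 (Lpr_dt (f5228 IH) (Lpr_cf (K41.f566085 IH) (Lpe (K42.f193424 IH) (Lpr_gf (f574093 IH) (Lpe (f133031 IH) (Lpe (f574088 IH) (Lpe (f570946 IH) (Lpr_gt (f571380 IH) (Lpr_dt (K42.f80746 IH) (Lpn (LP (LK LD1_c12 LD2_c6 LD3_c15))))))))))))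
theorem f5211 : Led Lsl_dt (LP (LK LD1_c13 LD2_c50 LD3_c58)) = (LP (LK LD1_c7 LD2_c19 LD3_c20)) :=
  Lre_d IH (LK LD1_c13 LD2_c50 LD3_c58) (LK LD1_c7 LD2_c19 LD3_c20) Lrfl Lrfl
theorem f5209 : Led Lsl_gt (LP (LK LD1_c23 LD2_c20 LD3_c16)) = (LP (LK LD1_c13 LD2_c50 LD3_c58)) :=
  Lre_g IH (LK LD1_c23 LD2_c20 LD3_c16) (LK LD1_c13 LD2_c50 LD3_c58) Lrfl Lrfl
theorem f574101 : Led Lsl_df (LP (LK LD1_c23 LD2_c20 LD3_c16)) = (LP (LK LD1_c16 LD2_c11 LD3_c59)) :=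
  Lgr Lrot153 (Lpr_gt (f5209 IH) (Lpr_dt (f5211 IH) (Lpe (f5177 IH) (Lpe (K41.f5121 IH) (Lpe (K41.f5196 IH) (Lpe (f5228 IH) (Lpr_gf (f574097 IH) (Lpe (K42.f420404 IH) (Lpr_gt (K42.f569579 IH) (Lpn (LP (LK LD1_c16 LD2_c11 LD3_c59))))))))))))
theorem f572739 : Led Lsl_dt (LP (LK LD1_c23 LD2_c19 LD3_c54)) = (LP (LK LD1_c13 LD2_c50 LD3_c47)) :=
  Lre_d IH (LK LD1_c23 LD2_c19 LD3_c54) (LK LD1_c13 LD2_c50 LD3_c47) Lrfl Lrfl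
theorem f5674 : Led Lsl_gt (LP (LK LD1_c13 LD2_c50 LD3_c46)) = (LP (LK LD1_c7 LD2_c19 LD3_c14)) :=
  Lre_g IH (LK LD1_c13 LD2_c50 LD3_c46) (LK LD1_c7 LD2_c19 LD3_c14) Lrfl Lrfl
theorem f5675 : Led Lsl_ct (LP (LK LD1_c23 LD2_c19 LD3_c52)) = (LP (LK LD1_c13 LD2_c50 LD3_c46)) :=
  Lre_c IH (LK LD1_c23 LD2_c19 LD3_c52) (LK LD1_c13 LD2_c50 LD3_c46) Lrfl Lrfl
theorem f574135 : Led Lsl_gf (LP (LK LD1_c23 LD2_c19 LD3_c52)) = (LP (LK LD1_c16 LD2_c11 LD3_c59)) :=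
  Lgr Lrot147 (Lpr_ct (f5675 IH) (Lpr_gt (f5674 IH) (Lpr_ct (K42.f5419 IH) (Lpe (f572739 IH) (Lpe (K42.f570071 IH) (Lpe (K42.f569555 IH) (Lpr_cf (f5183 IH) (Lpe (f5209 IH) (Lpr_df (f574101 IH) (Lpn (LP (LK LD1_c16 LD2_c11 LD3_c59))))))))))))
theorem f36166 : Led Lsl_ct (LP (LK LD1_c8 LD2_c38 LD3_c59)) = (LP (LK LD1_c16 LD2_c11 LD3_c59)) :=
  Lre_c IH (LK LD1_c8 LD2_c38 LD3_c59) (LK LD1_c16 LD2_c11 LD3_c59) Lrfl Lrfl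
theorem f240932 : Led Lsl_ct (LP (LK LD1_c18 LD2_c40 LD3_c38)) = (LP (LK LD1_c10 LD2_c16 LD3_c7)) :=
  Lre_c IH (LK LD1_c18 LD2_c40 LD3_c38) (LK LD1_c10 LD2_c16 LD3_c7) Lrfl Lrfl
theorem f411048 : Led Lsl_dt (LP (LK LD1_c28 LD2_c12 LD3_c11)) = (LP (LK LD1_c18 LD2_c40 LD3_c38)) :=
  Lre_d IH (LK LD1_c28 LD2_c12 LD3_c11) (LK LD1_c18 LD2_c40 LD3_c38) Lrfl Lrfl
theorem f5154 : Led Lsl_dt (LP (LK LD1_c3 LD2_c39 LD3_c34)) = (LP (LK LD1_c7 LD2_c19 LD3_c21)) :=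
  Lre_d IH (LK LD1_c3 LD2_c39 LD3_c34) (LK LD1_c7 LD2_c19 LD3_c21) Lrfl Lrfl
theorem f566079 : Led Lsl_gt (LP (LK LD1_c23 LD2_c20 LD3_c14)) = (LP (LK LD1_c28 LD2_c12 LD3_c11)) :=
  Lgr Lrot190 (Lpe (K24.f5142 IH) (Lpe (K24.f5131 IH) (Lpe (f5154 IH) (Lpr_gf (K41.f566077 IH) (Lpe (K35.f34651 IH) (Lpe (K12.f34068 IH) (Lpe (K12.f34064 IH) (Lpr_gf (K10.f33672 IH) (Lpe (K0.f34637 IH) (Lpr_cf (K10.f34643 IH) (Lpe (K20.f34650 IH) (Lpe (K20.f165469 IH) (Lpr_bf (K20.f240625 IH) (Lpr_cf (K19.f240623 IH) (Lpe (K16.f212061 IH) (Lpe (K16.f240958 IH) (Lpe (K41.f240927 IH) (Lpe (f240932 IH) (Lpe (f411048 IH) (Lpn (LP (LK LD1_c28 LD2_c12 LD3_c11))))))))))))))))))))))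
theorem f574142 : Led Lsl_dt (LP (LK LD1_c23 LD2_c19 LD3_c52)) = (LP (LK LD1_c23 LD2_c20 LD3_c14)) :=
  Lgr Lrot57 (Lpr_gf (f574135 IH) (Lpe (f36166 IH) (Lpr_gt (K42.f36126 IH) (Lpe (K42.f570532 IH) (Lpr_gt (K42.f569501 IH) (Lpr_dt (K42.f273019 IH) (Lpe (f240932 IH) (Lpe (f411048 IH) (Lpe (f566079 IH) (Lpn (LP (LK LD1_c23 LD2_c20 LD3_c14))))))))))))
theorem f5606 : Led Lsl_ft (LP (LK LD1_c23 LD2_c20 LD3_c14)) = (LP (LK LD1_c13 LD2_c50 LD3_c57)) :=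
  Lre_f IH (LK LD1_c23 LD2_c20 LD3_c14) (LK LD1_c13 LD2_c50 LD3_c57) Lrfl Lrfl
theorem f574148 : Led Lsl_ff (LP (LK LD1_c23 LD2_c19 LD3_c52)) = (LP (LK LD1_c16 LD2_c12 LD3_c3)) :=
  Lgr Lrot19 (Lpr_dt (f574142 IH) (Lpr_ft (f5606 IH) (Lpr_dt (f573861 IH) (Lpn (LP (LK LD1_c16 LD2_c12 LD3_c3))))))
theorem f540811 : Led Lsl_gt (LP (LK LD1_c8 LD2_c39 LD3_c0)) = (LP (LK LD1_c16 LD2_c12 LD3_c2)) :=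
  Lre_g IH (LK LD1_c8 LD2_c39 LD3_c0) (LK LD1_c16 LD2_c12 LD3_c2) Lrfl Lrfl
theorem f574156 : Led Lsl_at (LP (LK LD1_c23 LD2_c19 LD3_c52)) = (LP (LK LD1_c16 LD2_c12 LD3_c2)) :=
  Lgr Lrot26 (Lpr_ff (f574148 IH) (Lpr_gt (f241026 IH) (Lpr_gt (f540811 IH) (Lpn (LP (LK LD1_c16 LD2_c12 LD3_c2))))))
theorem f573921 : Led Lsl_df (LP (LK LD1_c23 LD2_c15 LD3_c0)) = (LP (LK LD1_c13 LD2_c47 LD3_c45)) :=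
  Lgr Lrot38 (Lpr_dt (f573915 IH) (Lpn (LP (LK LD1_c13 LD2_c47 LD3_c45))))
theorem f242246 : Led Lsl_dt (LP (LK LD1_c8 LD2_c3 LD3_c40)) = (LP (LK LD1_c4 LD2_c1 LD3_c30)) :=
  Lre_d IH (LK LD1_c8 LD2_c3 LD3_c40) (LK LD1_c4 LD2_c1 LD3_c30) Lrfl Lrfl
theorem f565697 : Led Lsl_cf (LP (LK LD1_c8 LD2_c4 LD3_c52)) = (LP (LK LD1_c10 LD2_c1 LD3_c22)) :=
  Lgr Lrot169 (Lpr_gt (f242250 IH) (Lpe (K42.f242244 IH) (Lpe (f242246 IH) (Lpe (K42.f240033 IH) (Lpe (K41.f565689 IH) (Lpe (K41.f5208 IH) (Lpr_gf (K41.f565693 IH) (Lpe (K41.f240838 IH) (Lpr_gt (f240707 IH) (Lpn (LP (LK LD1_c10 LD2_c1 LD3_c22))))))))))))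
theorem f190299 : Led Lsl_dt (LP (LK LD1_c8 LD2_c4 LD3_c49)) = (LP (LK LD1_c4 LD2_c2 LD3_c6)) :=
  Lre_d IH (LK LD1_c8 LD2_c4 LD3_c49) (LK LD1_c4 LD2_c2 LD3_c6) Lrfl Lrfl
theorem f190300 : Led Lsl_gt (LP (LK LD1_c15 LD2_c12 LD3_c50)) = (LP (LK LD1_c8 LD2_c4 LD3_c49)) :=
  Lre_g IH (LK LD1_c15 LD2_c12 LD3_c50) (LK LD1_c8 LD2_c4 LD3_c49) Lrfl Lrfl
theorem f573744 : Led Lsl_dt (LP (LK LD1_c8 LD2_c4 LD3_c52)) = (LP (LK LD1_c15 LD2_c12 LD3_c50)) :=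
  Lgr Lrot57 (Lpr_gf (f573742 IH) (Lpe (f237438 IH) (Lpr_gt (K42.f386146 IH) (Lpr_dt (K42.f242248 IH) (Lpr_gt (K42.f570530 IH) (Lpe (f227909 IH) (Lpr_cf (f190294 IH) (Lpe (f190299 IH) (Lpe (f190300 IH) (Lpn (LP (LK LD1_c15 LD2_c12 LD3_c50))))))))))))
theorem f574158 : Led Lsl_cf (LP (LK LD1_c16 LD2_c12 LD3_c2)) = (LP (LK LD1_c15 LD2_c12 LD3_c50)) :=
  Lgr Lrot102 (Lpe (f574156 IH) (Lpr_ff (f574148 IH) (Lpe (f573865 IH) (Lpe (f5448 IH) (Lpe (f573921 IH) (Lpr_ct (f573753 IH) (Lpe (f573764 IH) (Lpe (f565697 IH) (Lpr_dt (f573744 IH) (Lpn (LP (LK LD1_c15 LD2_c12 LD3_c50))))))))))))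
theorem f573834 : Led Lsl_gf (LP (LK LD1_c23 LD2_c14 LD3_c57)) = (LP (LK LD1_c16 LD2_c12 LD3_c2)) :=
  Lgr Lrot76 (Lpr_af (f573823 IH) (Lpe (f445856 IH) (Lpr_gt (f540811 IH) (Lpn (LP (LK LD1_c16 LD2_c12 LD3_c2))))))
theorem f568811 : Led Lsl_bf (LP (LK LD1_c16 LD2_c10 LD3_c30)) = (LP (LK LD1_c13 LD2_c47 LD3_c32)) :=
  Lgr Lrot93 (Lpr_dt (K38.f34960 IH) (Lpr_bt (K42.f568804 IH) (Lpr_dt (K42.f568810 IH) (Lpn (LP (LK LD1_c13 LD2_c47 LD3_c32))))))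
theorem f540455 : Led Lsl_et (LP (LK LD1_c8 LD2_c38 LD3_c19)) = (LP (LK LD1_c16 LD2_c10 LD3_c40)) :=
  Lre_e IH (LK LD1_c8 LD2_c38 LD3_c19) (LK LD1_c16 LD2_c10 LD3_c40) Lrfl Lrfl
theorem f132510 : Led Lsl_et (LP (LK LD1_c2 LD2_c49 LD3_c59)) = (LP (LK LD1_c5 LD2_c47 LD3_c54)) :=
  Lre_e IH (LK LD1_c2 LD2_c49 LD3_c59) (LK LD1_c5 LD2_c47 LD3_c54) Lrfl Lrfl
theorem f138100 : Led Lsl_et (LP (LK LD1_c9 LD2_c9 LD3_c44)) = (LP (LK LD1_c4 LD2_c36 LD3_c58)) :=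
  Lre_e IH (LK LD1_c9 LD2_c9 LD3_c44) (LK LD1_c4 LD2_c36 LD3_c58) Lrfl Lrfl
theorem f540456 : Led Lsl_dt (LP (LK LD1_c16 LD2_c10 LD3_c40)) = (LP (LK LD1_c9 LD2_c9 LD3_c44)) :=
  Lgr Lrot77 (Lpe (f540455 IH) (Lpr_df (K36.f540448 IH) (Lpe (f132510 IH) (Lpr_df (K6.f132578 IH) (Lpe (f138100 IH) (Lpn (LP (LK LD1_c9 LD2_c9 LD3_c44))))))))
theorem f540464 : Led Lsl_ft (LP (LK LD1_c26 LD2_c7 LD3_c32)) = (LP (LK LD1_c16 LD2_c10 LD3_c40)) :=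
  Lre_f IH (LK LD1_c26 LD2_c7 LD3_c32) (LK LD1_c16 LD2_c10 LD3_c40) Lrfl Lrfl
theorem f138106 : Led Lsl_ft (LP (LK LD1_c9 LD2_c9 LD3_c44)) = (LP (LK LD1_c17 LD2_c2 LD3_c44)) :=
  Lre_f IH (LK LD1_c9 LD2_c9 LD3_c44) (LK LD1_c17 LD2_c2 LD3_c44) Lrfl Lrfl
theorem f540465 : Led Lsl_df (LP (LK LD1_c26 LD2_c7 LD3_c32)) = (LP (LK LD1_c17 LD2_c2 LD3_c44)) :=
  Lgr Lrot78 (Lpr_ft (f540464 IH) (Lpr_dt (f540456 IH) (Lpr_ft (f138106 IH) (Lpn (LP (LK LD1_c17 LD2_c2 LD3_c44))))))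
theorem f540474 : Led Lsl_dt (LP (LK LD1_c26 LD2_c7 LD3_c32)) = (LP (LK LD1_c17 LD2_c2 LD3_c44)) :=
  Lgr Lrot42 (Lpr_df (f540465 IH) (Lpn (LP (LK LD1_c17 LD2_c2 LD3_c44))))
theorem f138104 : Led Lsl_ft (LP (LK LD1_c6 LD2_c15 LD3_c38)) = (LP (LK LD1_c4 LD2_c36 LD3_c58)) :=
  Lgr Lrot48 (Lpr_ff (K8.f138096 IH) (Lpn (LP (LK LD1_c4 LD2_c36 LD3_c58))))
theorem f132584 : Led Lsl_et (LP (LK LD1_c4 LD2_c36 LD3_c58)) = (LP (LK LD1_c9 LD2_c9 LD3_c44)) :=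
  Lre_e IH (LK LD1_c4 LD2_c36 LD3_c58) (LK LD1_c9 LD2_c9 LD3_c44) Lrfl Lrfl
theorem f138107 : Led Lsl_ef (LP (LK LD1_c21 LD2_c15 LD3_c22)) = (LP (LK LD1_c17 LD2_c2 LD3_c44)) :=
  Lgr Lrot21 (Lpr_ft (K8.f138078 IH) (Lpr_et (K8.f138089 IH) (Lpr_ft (f138104 IH) (Lpr_et (f132584 IH) (Lpr_ft (f138106 IH) (Lpn (LP (LK LD1_c17 LD2_c2 LD3_c44))))))))
theorem f138109 : Led Lsl_bt (LP (LK LD1_c17 LD2_c15 LD3_c36)) = (LP (LK LD1_c17 LD2_c2 LD3_c44)) :=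
  Lgr Lrot119 (Lpe (K6.f132743 IH) (Lpe (K8.f132745 IH) (Lpr_ef (f138107 IH) (Lpn (LP (LK LD1_c17 LD2_c2 LD3_c44))))))
theorem f138111 : Led Lsl_bf (LP (LK LD1_c17 LD2_c15 LD3_c36)) = (LP (LK LD1_c17 LD2_c2 LD3_c44)) :=
  Lgr Lrot24 (Lpr_bt (f138109 IH) (Lpn (LP (LK LD1_c17 LD2_c2 LD3_c44))))
theorem f540476 : Led Lsl_bf (LP (LK LD1_c26 LD2_c7 LD3_c32)) = (LP (LK LD1_c27 LD2_c5 LD3_c35)) :=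
  Lgr Lrot93 (Lpr_dt (f540474 IH) (Lpe (f138111 IH) (Lpr_dt (K6.f132649 IH) (Lpn (LP (LK LD1_c27 LD2_c5 LD3_c35))))))
theorem f540478 : Led Lsl_bt (LP (LK LD1_c16 LD2_c10 LD3_c40)) = (LP (LK LD1_c17 LD2_c15 LD3_c35)) :=
  Lgr Lrot35 (Lpe (f540464 IH) (Lpr_bf (f540476 IH) (Lpe (K6.f132643 IH) (Lpn (LP (LK LD1_c17 LD2_c15 LD3_c35))))))
theorem f540480 : Led Lsl_bf (LP (LK LD1_c8 LD2_c38 LD3_c19)) = (LP (LK LD1_c9 LD2_c19 LD3_c45)) :=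
  Lgr Lrot96 (Lpr_et (f540455 IH) (Lpr_bt (f540478 IH) (Lpr_et (K6.f132632 IH) (Lpn (LP (LK LD1_c9 LD2_c19 LD3_c45))))))
theorem f132766 : Led Lsl_ct (LP (LK LD1_c9 LD2_c19 LD3_c45)) = (LP (LK LD1_c17 LD2_c15 LD3_c37)) :=
  Lre_c IH (LK LD1_c9 LD2_c19 LD3_c45) (LK LD1_c17 LD2_c15 LD3_c37) Lrfl Lrfl
theorem f427949 : Led Lsl_gt (LP (LK LD1_c5 LD2_c7 LD3_c13)) = (LP (LK LD1_c7 LD2_c59 LD3_c60)) :=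
  Lgr Lrot5 (Lpr_ft (K36.f427939 IH) (Lpr_at (K39.f421267 IH) (Lpe (K41.f161202 IH) (Lpn (LP (LK LD1_c7 LD2_c59 LD3_c60))))))
theorem f159170 : Led Lsl_ct (LP (LK LD1_c2 LD2_c15 LD3_c37)) = (LP (LK LD1_c4 LD2_c36 LD3_c45)) :=
  Lre_c IH (LK LD1_c2 LD2_c15 LD3_c37) (LK LD1_c4 LD2_c36 LD3_c45) Lrfl Lrfl
theorem f159181 : Led Lsl_ct (LP (LK LD1_c17 LD2_c2 LD3_c26)) = (LP (LK LD1_c9 LD2_c9 LD3_c28)) :=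
  Lre_c IH (LK LD1_c17 LD2_c2 LD3_c26) (LK LD1_c9 LD2_c9 LD3_c28) Lrfl Lrfl
theorem f567088 : Led Lsl_gt (LP (LK LD1_c17 LD2_c15 LD3_c37)) = (LP (LK LD1_c17 LD2_c2 LD3_c26)) :=
  Lgr Lrot150 (Lpe (f132766 IH) (Lpe (K39.f556445 IH) (Lpe (K39.f308554 IH) (Lpr_gt (f427949 IH) (Lpe (K41.f567086 IH) (Lpr_gt (K41.f567082 IH) (Lpr_ct (f159170 IH) (Lpe (K42.f159171 IH) (Lpe (f159181 IH) (Lpn (LP (LK LD1_c17 LD2_c2 LD3_c26))))))))))))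
theorem f159177 : Led Lsl_ct (LP (LK LD1_c9 LD2_c9 LD3_c28)) = (LP (LK LD1_c17 LD2_c2 LD3_c26)) :=
  Lre_c IH (LK LD1_c9 LD2_c9 LD3_c28) (LK LD1_c17 LD2_c2 LD3_c26) Lrfl Lrfl
theorem f568817 : Led Lsl_ct (LP (LK LD1_c23 LD2_c14 LD3_c57)) = (LP (LK LD1_c13 LD2_c47 LD3_c32)) :=
  Lre_c IH (LK LD1_c23 LD2_c14 LD3_c57) (LK LD1_c13 LD2_c47 LD3_c32) Lrfl Lrfl
theorem f5659 : Led Lsl_dt (LP (LK LD1_c7 LD2_c17 LD3_c25)) = (LP (LK LD1_c13 LD2_c47 LD3_c30)) :=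
  Lre_d IH (LK LD1_c7 LD2_c17 LD3_c25) (LK LD1_c13 LD2_c47 LD3_c30) Lrfl Lrfl
theorem f574169 : Led Lsl_gt (LP (LK LD1_c13 LD2_c47 LD3_c30)) = (LP (LK LD1_c15 LD2_c12 LD3_c50)) :=
  Lgr Lrot9 (Lpe (f5659 IH) (Lpr_gt (K41.f4999 IH) (Lpr_ct (K0.f5134 IH) (Lpr_gt (K41.f5623 IH) (Lpr_ct (K42.f5627 IH) (Lpe (K42.f568825 IH) (Lpe (f568817 IH) (Lpr_gf (f573834 IH) (Lpr_cf (f574158 IH) (Lpn (LP (LK LD1_c15 LD2_c12 LD3_c50))))))))))))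
theorem f574171 : Led Lsl_bt (LP (LK LD1_c9 LD2_c9 LD3_c28)) = (LP (LK LD1_c13 LD2_c47 LD3_c30)) :=
  Lgr Lrot130 (Lpr_ct (f159177 IH) (Lpe (f567088 IH) (Lpe (f132766 IH) (Lpe (f540480 IH) (Lpe (K36.f540447 IH) (Lpr_bf (f568811 IH) (Lpr_ct (f568818 IH) (Lpr_gf (f573834 IH) (Lpr_cf (f574158 IH) (Lpe (f574169 IH) (Lpn (LP (LK LD1_c13 LD2_c47 LD3_c30)))))))))))))
theorem f574177 : Led Lsl_ff (LP (LK LD1_c7 LD2_c19 LD3_c14)) = (LP (LK LD1_c13 LD2_c47 LD3_c30)) :=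
  Lgr Lrot25 (Lpe (K42.f572753 IH) (Lpr_ft (K42.f544492 IH) (Lpr_bt (f574171 IH) (Lpn (LP (LK LD1_c13 LD2_c47 LD3_c30))))))
theorem f574183 : Led Lsl_at (LP (LK LD1_c7 LD2_c19 LD3_c14)) = (LP (LK LD1_c8 LD2_c4 LD3_c49)) :=
  Lgr Lrot26 (Lpr_ff (f574177 IH) (Lpr_gt (f574169 IH) (Lpr_gt (f190300 IH) (Lpn (LP (LK LD1_c8 LD2_c4 LD3_c49))))))
theorem f5229 : Led Lsl_dt (LP (LK LD1_c3 LD2_c39 LD3_c32)) = (LP (LK LD1_c7 LD2_c19 LD3_c16)) :=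
  Lre_d IH (LK LD1_c3 LD2_c39 LD3_c32) (LK LD1_c7 LD2_c19 LD3_c16) Lrfl Lrfl
theorem f5117 : Led Lsl_dt (LP (LK LD1_c13 LD2_c47 LD3_c30)) = (LP (LK LD1_c7 LD2_c17 LD3_c25)) :=
  Lre_d IH (LK LD1_c13 LD2_c47 LD3_c30) (LK LD1_c7 LD2_c17 LD3_c25) Lrfl Lrfl
theorem f570063 : Led Lsl_at (LP (LK LD1_c7 LD2_c19 LD3_c16)) = (LP (LK LD1_c13 LD2_c47 LD3_c30)) :=
  Lgr Lrot51 (Lpe (f5229 IH) (Lpr_af (K42.f570055 IH) (Lpe (f5117 IH) (Lpn (LP (LK LD1_c13 LD2_c47 LD3_c30))))))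
theorem f574191 : Led Lsl_ff (LP (LK LD1_c7 LD2_c19 LD3_c16)) = (LP (LK LD1_c8 LD2_c4 LD3_c49)) :=
  Lgr Lrot30 (Lpr_at (f570063 IH) (Lpe (f574177 IH) (Lpr_at (f574183 IH) (Lpn (LP (LK LD1_c8 LD2_c4 LD3_c49))))))
theorem f574197 : Led Lsl_ft (LP (LK LD1_c7 LD2_c19 LD3_c16)) = (LP (LK LD1_c8 LD2_c4 LD3_c49)) :=
  Lgr Lrot48 (Lpr_ff (f574191 IH) (Lpn (LP (LK LD1_c8 LD2_c4 LD3_c49))))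
theorem f308602 : Led Lsl_dt (LP (LK LD1_c10 LD2_c5 LD3_c5)) = (LP (LK LD1_c5 LD2_c7 LD3_c18)) :=
  Lre_d IH (LK LD1_c10 LD2_c5 LD3_c5) (LK LD1_c5 LD2_c7 LD3_c18) Lrfl Lrfl
theorem f544482 : Led Lsl_ff (LP (LK LD1_c10 LD2_c5 LD3_c5)) = (LP (LK LD1_c9 LD2_c9 LD3_c28)) :=
  Lgr Lrot19 (Lpr_dt (f308602 IH) (Lpr_ft (K37.f544477 IH) (Lpr_dt (K42.f99607 IH) (Lpn (LP (LK LD1_c9 LD2_c9 LD3_c28))))))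
theorem f571299 : Led Lsl_af (LP (LK LD1_c8 LD2_c3 LD3_c23)) = (LP (LK LD1_c10 LD2_c5 LD3_c5)) :=
  Lgr Lrot45 (Lpr_ft (K42.f571297 IH) (Lpr_at (K42.f159172 IH) (Lpe (f544482 IH) (Lpn (LP (LK LD1_c10 LD2_c5 LD3_c5))))))
theorem f196132 : Led Lsl_bt (LP (LK LD1_c8 LD2_c3 LD3_c23)) = (LP (LK LD1_c4 LD2_c1 LD3_c22)) :=
  Lre_b IH (LK LD1_c8 LD2_c3 LD3_c23) (LK LD1_c4 LD2_c1 LD3_c22) Lrfl Lrfl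
theorem f242072 : Led Lsl_bt (LP (LK LD1_c4 LD2_c2 LD3_c7)) = (LP (LK LD1_c8 LD2_c4 LD3_c49)) :=
  Lre_b IH (LK LD1_c4 LD2_c2 LD3_c7) (LK LD1_c8 LD2_c4 LD3_c49) Lrfl Lrfl
theorem f572765 : Led Lsl_at (LP (LK LD1_c8 LD2_c4 LD3_c49)) = (LP (LK LD1_c7 LD2_c19 LD3_c14)) :=
  Lgr Lrot67 (Lpe (f242072 IH) (Lpr_af (K16.f271947 IH) (Lpe (f196132 IH) (Lpr_af (f571299 IH) (Lpr_bf (K42.f572753 IH) (Lpn (LP (LK LD1_c7 LD2_c19 LD3_c14))))))))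
theorem f574205 : Led Lsl_gt (LP (LK LD1_c7 LD2_c19 LD3_c16)) = (LP (LK LD1_c13 LD2_c50 LD3_c46)) :=
  Lgr Lrot5 (Lpr_ft (f574197 IH) (Lpr_at (f572765 IH) (Lpe (f5674 IH) (Lpn (LP (LK LD1_c13 LD2_c50 LD3_c46))))))
theorem f193503 : Led Lsl_bt (LP (LK LD1_c8 LD2_c4 LD3_c49)) = (LP (LK LD1_c4 LD2_c2 LD3_c7)) :=
  Lre_b IH (LK LD1_c8 LD2_c4 LD3_c49) (LK LD1_c4 LD2_c2 LD3_c7) Lrfl Lrfl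
theorem f574201 : Led Lsl_bf (LP (LK LD1_c7 LD2_c19 LD3_c16)) = (LP (LK LD1_c4 LD2_c1 LD3_c17)) :=
  Lgr Lrot61 (Lpr_ft (f574197 IH) (Lpr_bt (f193503 IH) (Lpr_ft (K16.f271960 IH) (Lpn (LP (LK LD1_c4 LD2_c1 LD3_c17))))))
theorem f574207 : Led Lsl_bt (LP (LK LD1_c13 LD2_c47 LD3_c34)) = (LP (LK LD1_c13 LD2_c50 LD3_c46)) :=
  Lgr Lrot92 (Lpr_ct (f573752 IH) (Lpr_gt (f573790 IH) (Lpe (K42.f34112 IH) (Lpr_bt (f34111 IH) (Lpr_gt (K12.f33990 IH) (Lpr_ct (K0.f33826 IH) (Lpe (K13.f34107 IH) (Lpr_cf (K13.f196228 IH) (Lpe (f574201 IH) (Lpr_gt (f574205 IH) (Lpn (LP (LK LD1_c13 LD2_c50 LD3_c46)))))))))))))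
theorem f574209 : Led Lsl_bf (LP (LK LD1_c13 LD2_c47 LD3_c34)) = (LP (LK LD1_c13 LD2_c50 LD3_c46)) :=
  Lgr Lrot24 (Lpr_bt (f574207 IH) (Lpn (LP (LK LD1_c13 LD2_c50 LD3_c46))))
theorem f5676 : Led Lsl_ct (LP (LK LD1_c13 LD2_c50 LD3_c46)) = (LP (LK LD1_c23 LD2_c19 LD3_c52)) :=
  Lre_c IH (LK LD1_c13 LD2_c50 LD3_c46) (LK LD1_c23 LD2_c19 LD3_c52) Lrfl Lrfl
theorem f546630 : Led Lsl_gf (LP (LK LD1_c11 LD2_c34 LD3_c43)) = (LP (LK LD1_c15 LD2_c23 LD3_c44)) :=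
  Lgr Lrot47 (Lpr_gt (K35.f420932 IH) (Lpe (K39.f546618 IH) (Lpr_ff (K39.f546619 IH) (Lpn (LP (LK LD1_c15 LD2_c23 LD3_c44))))))
theorem f574241 : Led Lsl_bf (LP (LK LD1_c7 LD2_c17 LD3_c29)) = (LP (LK LD1_c8 LD2_c10 LD3_c36)) :=
  Lgr Lrot34 (Lpe (f97255 IH) (Lpr_bf (f574209 IH) (Lpr_ct (f5676 IH) (Lpr_gf (f574135 IH) (Lpe (f36166 IH) (Lpe (K35.f36127 IH) (Lpe (K35.f538482 IH) (Lpr_ct (K35.f538468 IH) (Lpr_gf (f546630 IH) (Lpe (K38.f546591 IH) (Lpn (LP (LK LD1_c8 LD2_c10 LD3_c36)))))))))))))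
theorem f574249 : Led Lsl_ft (LP (LK LD1_c7 LD2_c17 LD3_c29)) = (LP (LK LD1_c11 LD2_c33 LD3_c33)) :=
  Lgr Lrot75 (Lpr_bf (f574241 IH) (Lpe (K39.f546626 IH) (Lpe (K37.f420951 IH) (Lpn (LP (LK LD1_c11 LD2_c33 LD3_c33))))))
theorem f574257 : Led Lsl_ff (LP (LK LD1_c7 LD2_c17 LD3_c29)) = (LP (LK LD1_c11 LD2_c33 LD3_c33)) :=
  Lgr Lrot3 (Lpr_ft (f574249 IH) (Lpn (LP (LK LD1_c11 LD2_c33 LD3_c33))))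
theorem f5625 : Led Lsl_ct (LP (LK LD1_c7 LD2_c17 LD3_c29)) = (LP (LK LD1_c13 LD2_c47 LD3_c35)) :=
  Lre_c IH (LK LD1_c7 LD2_c17 LD3_c29) (LK LD1_c13 LD2_c47 LD3_c35) Lrfl Lrfl
theorem f574261 : Led Lsl_ft (LP (LK LD1_c13 LD2_c47 LD3_c35)) = (LP (LK LD1_c20 LD2_c30 LD3_c48)) :=
  Lgr Lrot4 (Lpe (f5625 IH) (Lpr_ff (f574257 IH) (Lpe (K37.f239273 IH) (Lpn (LP (LK LD1_c20 LD2_c30 LD3_c48))))))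
theorem f573763 : Led Lsl_dt (LP (LK LD1_c13 LD2_c47 LD3_c35)) = (LP (LK LD1_c23 LD2_c15 LD3_c4)) :=
  Lre_d IH (LK LD1_c13 LD2_c47 LD3_c35) (LK LD1_c23 LD2_c15 LD3_c4) Lrfl Lrfl
theorem f573819 : Led Lsl_ct (LP (LK LD1_c23 LD2_c15 LD3_c4)) = (LP (LK LD1_c16 LD2_c12 LD3_c4)) :=
  Lgr Lrot59 (Lpr_cf (f573817 IH) (Lpn (LP (LK LD1_c16 LD2_c12 LD3_c4))))
theorem f240689 : Led Lsl_dt (LP (LK LD1_c16 LD2_c12 LD3_c4)) = (LP (LK LD1_c8 LD2_c39 LD3_c0)) :=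
  Lre_d IH (LK LD1_c16 LD2_c12 LD3_c4) (LK LD1_c8 LD2_c39 LD3_c0) Lrfl Lrfl
theorem f240688 : Led Lsl_ct (LP (LK LD1_c8 LD2_c39 LD3_c0)) = (LP (LK LD1_c4 LD2_c20 LD3_c39)) :=
  Lre_c IH (LK LD1_c8 LD2_c39 LD3_c0) (LK LD1_c4 LD2_c20 LD3_c39) Lrfl Lrfl
theorem f36120 : Led Lsl_dt (LP (LK LD1_c4 LD2_c20 LD3_c39)) = (LP (LK LD1_c2 LD2_c7 LD3_c48)) :=
  Lre_d IH (LK LD1_c4 LD2_c20 LD3_c39) (LK LD1_c2 LD2_c7 LD3_c48) Lrfl Lrfl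
theorem f569920 : Led Lsl_ct (LP (LK LD1_c7 LD2_c17 LD3_c31)) = (LP (LK LD1_c13 LD2_c47 LD3_c37)) :=
  Lre_c IH (LK LD1_c7 LD2_c17 LD3_c31) (LK LD1_c13 LD2_c47 LD3_c37) Lrfl Lrfl
theorem f574269 : Led Lsl_af (LP (LK LD1_c13 LD2_c47 LD3_c37)) = (LP (LK LD1_c20 LD2_c30 LD3_c48)) :=
  Lgr Lrot109 (Lpe (f569920 IH) (Lpe (K42.f5041 IH) (Lpr_cf (K42.f566081 IH) (Lpe (f36120 IH) (Lpe (f240688 IH) (Lpe (f240689 IH) (Lpe (f573819 IH) (Lpe (f573763 IH) (Lpr_ft (f574261 IH) (Lpn (LP (LK LD1_c20 LD2_c30 LD3_c48))))))))))))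
theorem f573197 : Led Lsl_gt (LP (LK LD1_c13 LD2_c47 LD3_c35)) = (LP (LK LD1_c23 LD2_c15 LD3_c1)) :=
  Lre_g IH (LK LD1_c13 LD2_c47 LD3_c35) (LK LD1_c23 LD2_c15 LD3_c1) Lrfl Lrfl
theorem f574280 : Led Lsl_gf (LP (LK LD1_c13 LD2_c47 LD3_c37)) = (LP (LK LD1_c23 LD2_c15 LD3_c1)) :=
  Lgr Lrot76 (Lpr_af (f574269 IH) (Lpe (f574261 IH) (Lpr_gt (f573197 IH) (Lpn (LP (LK LD1_c23 LD2_c15 LD3_c1))))))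
theorem f573801 : Led Lsl_bf (LP (LK LD1_c3 LD2_c57 LD3_c50)) = (LP (LK LD1_c7 LD2_c17 LD3_c31)) :=
  Lgr Lrot24 (Lpr_bt (f573792 IH) (Lpn (LP (LK LD1_c7 LD2_c17 LD3_c31))))
theorem f31784 : Led Lsl_bt (LP (LK LD1_c4 LD2_c20 LD3_c18)) = (LP (LK LD1_c8 LD2_c38 LD3_c22)) :=
  Lre_b IH (LK LD1_c4 LD2_c20 LD3_c18) (LK LD1_c8 LD2_c38 LD3_c22) Lrfl Lrfl
theorem f569924 : Led Lsl_ct (LP (LK LD1_c13 LD2_c47 LD3_c37)) = (LP (LK LD1_c7 LD2_c17 LD3_c31)) :=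
  Lre_c IH (LK LD1_c13 LD2_c47 LD3_c37) (LK LD1_c7 LD2_c17 LD3_c31) Lrfl Lrfl
theorem f5193 : Led Lsl_dt (LP (LK LD1_c7 LD2_c19 LD3_c13)) = (LP (LK LD1_c13 LD2_c50 LD3_c45)) :=
  Lre_d IH (LK LD1_c7 LD2_c19 LD3_c13) (LK LD1_c13 LD2_c50 LD3_c45) Lrfl Lrfl
theorem f574095 : Led Lsl_gt (LP (LK LD1_c13 LD2_c50 LD3_c45)) = (LP (LK LD1_c14 LD2_c59 LD3_c25)) :=
  Lgr Lrot5 (Lpe (K42.f570073 IH) (Lpe (K42.f538335 IH) (Lpr_gf (f574093 IH) (Lpn (LP (LK LD1_c14 LD2_c59 LD3_c25))))))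
theorem f574284 : Led Lsl_ct (LP (LK LD1_c14 LD2_c59 LD3_c25)) = (LP (LK LD1_c23 LD2_c15 LD3_c1)) :=
  Lgr Lrot152 (Lpe (f574095 IH) (Lpe (f5193 IH) (Lpe (K42.f570096 IH) (Lpr_ct (K42.f570100 IH) (Lpr_gt (K42.f36220 IH) (Lpe (K42.f566081 IH) (Lpe (f481572 IH) (Lpe (f569924 IH) (Lpr_gf (f574280 IH) (Lpn (LP (LK LD1_c23 LD2_c15 LD3_c1))))))))))))
theorem f574287 : Led Lsl_bf (LP (LK LD1_c12 LD2_c22 LD3_c26)) = (LP (LK LD1_c14 LD2_c59 LD3_c25)) :=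
  Lgr Lrot34 (Lpe (K38.f149597 IH) (Lpe (f31784 IH) (Lpr_ct (K16.f31799 IH) (Lpr_gf (K13.f204983 IH) (Lpe (K13.f201351 IH) (Lpr_gf (K11.f201347 IH) (Lpr_bf (f573801 IH) (Lpr_ct (f569920 IH) (Lpr_gf (f574280 IH) (Lpe (f574284 IH) (Lpn (LP (LK LD1_c14 LD2_c59 LD3_c25)))))))))))))
theorem f542889 : Led Lsl_et (LP (LK LD1_c12 LD2_c22 LD3_c26)) = (LP (LK LD1_c21 LD2_c29 LD3_c8)) :=
  Lre_e IH (LK LD1_c12 LD2_c22 LD3_c26) (LK LD1_c21 LD2_c29 LD3_c8) Lrfl Lrfl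
theorem f138641 : Led Lsl_et (LP (LK LD1_c8 LD2_c47 LD3_c1)) = (LP (LK LD1_c16 LD2_c26 LD3_c7)) :=
  Lre_e IH (LK LD1_c8 LD2_c47 LD3_c1) (LK LD1_c16 LD2_c26 LD3_c7) Lrfl Lrfl
theorem f138657 : Led Lsl_ft (LP (LK LD1_c16 LD2_c26 LD3_c7)) = (LP (LK LD1_c26 LD2_c23 LD3_c30)) :=
  Lre_f IH (LK LD1_c16 LD2_c26 LD3_c7) (LK LD1_c26 LD2_c23 LD3_c30) Lrfl Lrfl
theorem f118953 : Led Lsl_et (LP (LK LD1_c16 LD2_c24 LD3_c23)) = (LP (LK LD1_c8 LD2_c46 LD3_c7)) :=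
  Lre_e IH (LK LD1_c16 LD2_c24 LD3_c23) (LK LD1_c8 LD2_c46 LD3_c7) Lrfl Lrfl
theorem f138658 : Led Lsl_et (LP (LK LD1_c26 LD2_c23 LD3_c30)) = (LP (LK LD1_c26 LD2_c22 LD3_c3)) :=
  Lgr Lrot69 (Lpe (f138657 IH) (Lpe (f138641 IH) (Lpr_ff (K36.f138652 IH) (Lpe (f118953 IH) (Lpe (K8.f119058 IH) (Lpn (LP (LK LD1_c26 LD2_c22 LD3_c3))))))))
theorem f138662 : Led Lsl_ct (LP (LK LD1_c16 LD2_c26 LD3_c10)) = (LP (LK LD1_c26 LD2_c23 LD3_c30)) :=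
  Lre_c IH (LK LD1_c16 LD2_c26 LD3_c10) (LK LD1_c26 LD2_c23 LD3_c30) Lrfl Lrfl
theorem f119029 : Led Lsl_ct (LP (LK LD1_c26 LD2_c22 LD3_c3)) = (LP (LK LD1_c16 LD2_c24 LD3_c26)) :=
  Lre_c IH (LK LD1_c26 LD2_c22 LD3_c3) (LK LD1_c16 LD2_c24 LD3_c26) Lrfl Lrfl
theorem f138663 : Led Lsl_ef (LP (LK LD1_c16 LD2_c26 LD3_c10)) = (LP (LK LD1_c16 LD2_c24 LD3_c26)) :=
  Lgr Lrot28 (Lpr_ct (f138662 IH) (Lpr_et (f138658 IH) (Lpr_ct (f119029 IH) (Lpn (LP (LK LD1_c16 LD2_c24 LD3_c26))))))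
theorem f138667 : Led Lsl_et (LP (LK LD1_c16 LD2_c26 LD3_c10)) = (LP (LK LD1_c16 LD2_c24 LD3_c26)) :=
  Lgr Lrot87 (Lpr_ef (f138663 IH) (Lpn (LP (LK LD1_c16 LD2_c24 LD3_c26))))
theorem f138069 : Led Lsl_af (LP (LK LD1_c16 LD2_c26 LD3_c6)) = (LP (LK LD1_c16 LD2_c24 LD3_c26)) :=
  Lgr Lrot0 (Lpr_at (K8.f138067 IH) (Lpn (LP (LK LD1_c16 LD2_c24 LD3_c26))))
theorem f138670 : Led Lsl_af (LP (LK LD1_c16 LD2_c26 LD3_c10)) = (LP (LK LD1_c16 LD2_c24 LD3_c21)) :=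
  Lgr Lrot50 (Lpr_et (f138667 IH) (Lpe (f138069 IH) (Lpr_et (K8.f138040 IH) (Lpn (LP (LK LD1_c16 LD2_c24 LD3_c21))))))
theorem f138669 : Led Lsl_ft (LP (LK LD1_c16 LD2_c26 LD3_c10)) = (LP (LK LD1_c8 LD2_c47 LD3_c2)) :=
  Lre_f IH (LK LD1_c16 LD2_c26 LD3_c10) (LK LD1_c8 LD2_c47 LD3_c2) Lrfl Lrfl
theorem f138674 : Led Lsl_at (LP (LK LD1_c8 LD2_c47 LD3_c2)) = (LP (LK LD1_c8 LD2_c46 LD3_c5)) :=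
  Lgr Lrot66 (Lpe (f138669 IH) (Lpr_af (f138670 IH) (Lpe (K8.f81037 IH) (Lpn (LP (LK LD1_c8 LD2_c46 LD3_c5))))))
theorem f137918 : Led Lsl_dt (LP (LK LD1_c16 LD2_c26 LD3_c9)) = (LP (LK LD1_c8 LD2_c47 LD3_c2)) :=
  Lre_d IH (LK LD1_c16 LD2_c26 LD3_c9) (LK LD1_c8 LD2_c47 LD3_c2) Lrfl Lrfl
theorem f138683 : Led Lsl_af (LP (LK LD1_c16 LD2_c26 LD3_c9)) = (LP (LK LD1_c16 LD2_c24 LD3_c20)) :=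
  Lgr Lrot117 (Lpr_dt (f137918 IH) (Lpr_at (f138674 IH) (Lpr_dt (K5.f81024 IH) (Lpn (LP (LK LD1_c16 LD2_c24 LD3_c20))))))
theorem f133015 : Led Lsl_et (LP (LK LD1_c7 LD2_c56 LD3_c41)) = (LP (LK LD1_c3 LD2_c57 LD3_c38)) :=
  Lre_e IH (LK LD1_c7 LD2_c56 LD3_c41) (LK LD1_c3 LD2_c57 LD3_c38) Lrfl Lrfl
theorem f133025 : Led Lsl_ct (LP (LK LD1_c6 LD2_c24 LD3_c25)) = (LP (LK LD1_c7 LD2_c56 LD3_c41)) :=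
  Lgr Lrot15 (Lpe (K42.f112466 IH) (Lpr_cf (K6.f133020 IH) (Lpe (f133015 IH) (Lpn (LP (LK LD1_c7 LD2_c56 LD3_c41))))))
theorem f133029 : Led Lsl_cf (LP (LK LD1_c6 LD2_c24 LD3_c25)) = (LP (LK LD1_c7 LD2_c56 LD3_c41)) :=
  Lgr Lrot11 (Lpr_ct (f133025 IH) (Lpn (LP (LK LD1_c7 LD2_c56 LD3_c41))))
theorem f133033 : Led Lsl_at (LP (LK LD1_c4 LD2_c24 LD3_c13)) = (LP (LK LD1_c7 LD2_c56 LD3_c41)) :=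
  Lgr Lrot107 (Lpe (K8.f80996 IH) (Lpr_af (K42.f118917 IH) (Lpr_cf (f133029 IH) (Lpn (LP (LK LD1_c7 LD2_c56 LD3_c41))))))
theorem f133035 : Led Lsl_af (LP (LK LD1_c8 LD2_c46 LD3_c6)) = (LP (LK LD1_c14 LD2_c59 LD3_c25)) :=
  Lgr Lrot117 (Lpr_dt (K5.f81002 IH) (Lpr_at (f133033 IH) (Lpr_dt (f133031 IH) (Lpn (LP (LK LD1_c14 LD2_c59 LD3_c25))))))
theorem f138690 : Led Lsl_et (LP (LK LD1_c16 LD2_c26 LD3_c9)) = (LP (LK LD1_c14 LD2_c59 LD3_c25)) :=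
  Lgr Lrot123 (Lpr_af (f138683 IH) (Lpe (K5.f81014 IH) (Lpr_af (f133035 IH) (Lpn (LP (LK LD1_c14 LD2_c59 LD3_c25))))))
theorem f574301 : Led Lsl_bt (LP (LK LD1_c21 LD2_c29 LD3_c8)) = (LP (LK LD1_c16 LD2_c26 LD3_c9)) :=
  Lgr Lrot119 (Lpe (f542889 IH) (Lpr_bf (f574287 IH) (Lpe (f138690 IH) (Lpn (LP (LK LD1_c16 LD2_c26 LD3_c9))))))
theorem f542905 : Led Lsl_dt (LP (LK LD1_c12 LD2_c22 LD3_c25)) = (LP (LK LD1_c21 LD2_c29 LD3_c8)) :=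
  Lre_d IH (LK LD1_c12 LD2_c22 LD3_c25) (LK LD1_c21 LD2_c29 LD3_c8) Lrfl Lrfl
theorem f574308 : Led Lsl_bf (LP (LK LD1_c12 LD2_c22 LD3_c25)) = (LP (LK LD1_c8 LD2_c47 LD3_c2)) :=
  Lgr Lrot93 (Lpr_dt (f542905 IH) (Lpr_bt (f574301 IH) (Lpr_dt (f137918 IH) (Lpn (LP (LK LD1_c8 LD2_c47 LD3_c2))))))
theorem f574316 : Led Lsl_ft (LP (LK LD1_c12 LD2_c22 LD3_c25)) = (LP (LK LD1_c21 LD2_c29 LD3_c9)) :=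
  Lre_f IH (LK LD1_c12 LD2_c22 LD3_c25) (LK LD1_c21 LD2_c29 LD3_c9) Lrfl Lrfl
theorem f574317 : Led Lsl_bt (LP (LK LD1_c21 LD2_c29 LD3_c9)) = (LP (LK LD1_c16 LD2_c26 LD3_c10)) :=
  Lgr Lrot35 (Lpe (f574316 IH) (Lpr_bf (f574308 IH) (Lpe (f138669 IH) (Lpn (LP (LK LD1_c16 LD2_c26 LD3_c10))))))
theorem f574324 : Led Lsl_ef (LP (LK LD1_c21 LD2_c29 LD3_c9)) = (LP (LK LD1_c17 LD2_c2 LD3_c48)) :=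
  Lgr Lrot29 (Lpr_bt (f574317 IH) (Lpr_et (f138667 IH) (Lpr_bt (K8.f119024 IH) (Lpn (LP (LK LD1_c17 LD2_c2 LD3_c48))))))
theorem f138076 : Led Lsl_at (LP (LK LD1_c21 LD2_c15 LD3_c22)) = (LP (LK LD1_c17 LD2_c2 LD3_c48)) :=
  Lgr Lrot100 (Lpr_af (K8.f138071 IH) (Lpn (LP (LK LD1_c17 LD2_c2 LD3_c48))))
theorem f574326 : Led Lsl_at (LP (LK LD1_c21 LD2_c29 LD3_c9)) = (LP (LK LD1_c17 LD2_c2 LD3_c44)) :=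
  Lgr Lrot80 (Lpr_ef (f574324 IH) (Lpe (f138076 IH) (Lpr_ef (f138107 IH) (Lpn (LP (LK LD1_c17 LD2_c2 LD3_c44))))))
theorem f138101 : Led Lsl_ft (LP (LK LD1_c17 LD2_c2 LD3_c44)) = (LP (LK LD1_c9 LD2_c9 LD3_c44)) :=
  Lre_f IH (LK LD1_c17 LD2_c2 LD3_c44) (LK LD1_c9 LD2_c9 LD3_c44) Lrfl Lrfl
theorem f574334 : Led Lsl_af (LP (LK LD1_c12 LD2_c22 LD3_c25)) = (LP (LK LD1_c9 LD2_c9 LD3_c44)) :=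
  Lgr Lrot45 (Lpr_ft (f574316 IH) (Lpr_at (f574326 IH) (Lpr_ft (f138101 IH) (Lpn (LP (LK LD1_c9 LD2_c9 LD3_c44))))))
theorem f574338 : Led Lsl_at (LP (LK LD1_c21 LD2_c29 LD3_c8)) = (LP (LK LD1_c16 LD2_c10 LD3_c40)) :=
  Lgr Lrot51 (Lpe (f542905 IH) (Lpr_af (f574334 IH) (Lpe (f540456 IH) (Lpn (LP (LK LD1_c16 LD2_c10 LD3_c40))))))
theorem f35324 : Led Lsl_et (LP (LK LD1_c16 LD2_c10 LD3_c40)) = (LP (LK LD1_c8 LD2_c38 LD3_c19)) :=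
  Lre_e IH (LK LD1_c16 LD2_c10 LD3_c40) (LK LD1_c8 LD2_c38 LD3_c19) Lrfl Lrfl
theorem f574344 : Led Lsl_af (LP (LK LD1_c12 LD2_c22 LD3_c26)) = (LP (LK LD1_c8 LD2_c38 LD3_c19)) :=
  Lgr Lrot50 (Lpr_et (f542889 IH) (Lpr_at (f574338 IH) (Lpr_et (f35324 IH) (Lpn (LP (LK LD1_c8 LD2_c38 LD3_c19))))))
theorem f574352 : Led Lsl_ft (LP (LK LD1_c16 LD2_c10 LD3_c35)) = (LP (LK LD1_c8 LD2_c38 LD3_c19)) :=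
  Lgr Lrot2 (Lpr_gt (K38.f34938 IH) (Lpr_gt (K38.f149597 IH) (Lpr_af (f574344 IH) (Lpn (LP (LK LD1_c8 LD2_c38 LD3_c19))))))
theorem f574356 : Led Lsl_ff (LP (LK LD1_c16 LD2_c10 LD3_c35)) = (LP (LK LD1_c8 LD2_c38 LD3_c19)) :=
  Lgr Lrot3 (Lpr_ft (f574352 IH) (Lpn (LP (LK LD1_c8 LD2_c38 LD3_c19))))
theorem f574362 : Led Lsl_at (LP (LK LD1_c16 LD2_c10 LD3_c35)) = (LP (LK LD1_c8 LD2_c38 LD3_c18)) :=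
  Lgr Lrot26 (Lpr_ff (f574356 IH) (Lpr_gt (K36.f34876 IH) (Lpr_gt (K38.f32006 IH) (Lpn (LP (LK LD1_c8 LD2_c38 LD3_c18))))))
theorem f133037 : Led Lsl_at (LP (LK LD1_c8 LD2_c46 LD3_c6)) = (LP (LK LD1_c14 LD2_c59 LD3_c25)) :=
  Lgr Lrot100 (Lpr_af (f133035 IH) (Lpn (LP (LK LD1_c14 LD2_c59 LD3_c25))))
theorem f540450 : Led Lsl_bt (LP (LK LD1_c8 LD2_c38 LD3_c19)) = (LP (LK LD1_c9 LD2_c19 LD3_c45)) :=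
  Lgr Lrot95 (Lpr_df (K36.f540448 IH) (Lpr_bf (K38.f132812 IH) (Lpe (K39.f132773 IH) (Lpn (LP (LK LD1_c9 LD2_c19 LD3_c45))))))
theorem f574293 : Led Lsl_at (LP (LK LD1_c12 LD2_c22 LD3_c26)) = (LP (LK LD1_c8 LD2_c38 LD3_c19)) :=
  Lgr Lrot67 (Lpr_bf (f574287 IH) (Lpe (f133037 IH) (Lpr_bf (K5.f81003 IH) (Lpr_af (K6.f132622 IH) (Lpe (f540450 IH) (Lpn (LP (LK LD1_c8 LD2_c38 LD3_c19))))))))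
theorem f574368 : Led Lsl_ff (LP (LK LD1_c12 LD2_c22 LD3_c26)) = (LP (LK LD1_c8 LD2_c38 LD3_c18)) :=
  Lgr Lrot30 (Lpr_at (f574293 IH) (Lpe (f574356 IH) (Lpr_at (f574362 IH) (Lpn (LP (LK LD1_c8 LD2_c38 LD3_c18))))))
theorem f574377 : Led Lsl_ft (LP (LK LD1_c12 LD2_c22 LD3_c26)) = (LP (LK LD1_c8 LD2_c38 LD3_c18)) :=
  Lgr Lrot48 (Lpr_ff (f574368 IH) (Lpn (LP (LK LD1_c8 LD2_c38 LD3_c18))))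
theorem f547848 : Led Lsl_df (LP (LK LD1_c8 LD2_c42 LD3_c53)) = (LP (LK LD1_c8 LD2_c38 LD3_c18)) :=
  Lgr Lrot155 (Lpr_gt (K38.f547839 IH) (Lpr_ct (K38.f542665 IH) (Lpe (K38.f547179 IH) (Lpe (K28.f56238 IH) (Lpr_dt (K39.f46828 IH) (Lpe (K42.f46825 IH) (Lpe (K42.f46832 IH) (Lpe (K42.f547846 IH) (Lpe (K38.f34976 IH) (Lpn (LP (LK LD1_c8 LD2_c38 LD3_c18))))))))))))
theorem f574383 : Led Lsl_ff (LP (LK LD1_c6 LD2_c24 LD3_c46)) = (LP (LK LD1_c8 LD2_c42 LD3_c53)) :=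
  Lgr Lrot19 (Lpr_dt (K37.f149593 IH) (Lpr_ft (f574377 IH) (Lpe (f547848 IH) (Lpn (LP (LK LD1_c8 LD2_c42 LD3_c53))))))
theorem f149601 : Led Lsl_dt (LP (LK LD1_c12 LD2_c22 LD3_c26)) = (LP (LK LD1_c6 LD2_c24 LD3_c46)) :=
  Lre_d IH (LK LD1_c12 LD2_c22 LD3_c26) (LK LD1_c6 LD2_c24 LD3_c46) Lrfl Lrfl
theorem f574350 : Led Lsl_at (LP (LK LD1_c6 LD2_c24 LD3_c46)) = (LP (LK LD1_c5 LD2_c47 LD3_c54)) :=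
  Lgr Lrot51 (Lpe (f149601 IH) (Lpr_af (f574344 IH) (Lpr_df (K36.f540448 IH) (Lpn (LP (LK LD1_c5 LD2_c47 LD3_c54))))))
theorem f540453 : Led Lsl_dt (LP (LK LD1_c8 LD2_c38 LD3_c19)) = (LP (LK LD1_c5 LD2_c47 LD3_c54)) :=
  Lgr Lrot42 (Lpr_df (K36.f540448 IH) (Lpn (LP (LK LD1_c5 LD2_c47 LD3_c54))))
theorem f574354 : Led Lsl_ff (LP (LK LD1_c9 LD2_c14 LD3_c58)) = (LP (LK LD1_c5 LD2_c47 LD3_c54)) :=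
  Lgr Lrot19 (Lpe (K38.f546521 IH) (Lpr_ft (f574352 IH) (Lpr_dt (f540453 IH) (Lpn (LP (LK LD1_c5 LD2_c47 LD3_c54))))))
theorem f574385 : Led Lsl_at (LP (LK LD1_c9 LD2_c14 LD3_c58)) = (LP (LK LD1_c8 LD2_c42 LD3_c53)) :=
  Lgr Lrot66 (Lpr_ff (f574354 IH) (Lpe (f574350 IH) (Lpr_ff (f574383 IH) (Lpn (LP (LK LD1_c8 LD2_c42 LD3_c53))))))
theorem f574389 : Led Lsl_af (LP (LK LD1_c4 LD2_c56 LD3_c52)) = (LP (LK LD1_c4 LD2_c22 LD3_c29)) :=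
  Lgr Lrot50 (Lpr_et (K39.f553489 IH) (Lpr_at (f574385 IH) (Lpr_et (K38.f407098 IH) (Lpn (LP (LK LD1_c4 LD2_c22 LD3_c29))))))
theorem f574393 : Led Lsl_ft (LP (LK LD1_c4 LD2_c56 LD3_c51)) = (LP (LK LD1_c4 LD2_c22 LD3_c29)) :=
  Lgr Lrot2 (Lpe (K38.f385374 IH) (Lpr_gt (K39.f385386 IH) (Lpr_af (f574389 IH) (Lpn (LP (LK LD1_c4 LD2_c22 LD3_c29))))))
theorem f574403 : Led Lsl_ff (LP (LK LD1_c4 LD2_c56 LD3_c51)) = (LP (LK LD1_c4 LD2_c22 LD3_c29)) :=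
  Lgr Lrot3 (Lpr_ft (f574393 IH) (Lpn (LP (LK LD1_c4 LD2_c22 LD3_c29))))
theorem f574374 : Led Lsl_ft (LP (LK LD1_c6 LD2_c24 LD3_c46)) = (LP (LK LD1_c8 LD2_c42 LD3_c53)) :=
  Lgr Lrot54 (Lpe (f149601 IH) (Lpr_ff (f574368 IH) (Lpe (K38.f547552 IH) (Lpn (LP (LK LD1_c8 LD2_c42 LD3_c53))))))
theorem f574409 : Led Lsl_ft (LP (LK LD1_c4 LD2_c24 LD3_c14)) = (LP (LK LD1_c3 LD2_c9 LD3_c60)) :=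
  Lgr Lrot86 (Lpe (K39.f547695 IH) (Lpr_ff (f574403 IH) (Lpe (K38.f407098 IH) (Lpe (f574374 IH) (Lpe (K37.f542890 IH) (Lpn (LP (LK LD1_c3 LD2_c9 LD3_c60))))))))
theorem f574411 : Led Lsl_af (LP (LK LD1_c2 LD2_c49 LD3_c59)) = (LP (LK LD1_c3 LD2_c9 LD3_c60)) :=
  Lgr Lrot45 (Lpr_ft (K5.f132502 IH) (Lpr_at (K5.f132570 IH) (Lpr_ft (f574409 IH) (Lpn (LP (LK LD1_c3 LD2_c9 LD3_c60))))))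
theorem f574421 : Led Lsl_at (LP (LK LD1_c5 LD2_c47 LD3_c54)) = (LP (LK LD1_c6 LD2_c24 LD3_c46)) :=
  Lgr Lrot80 (Lpe (f132510 IH) (Lpr_af (f574411 IH) (Lpe (K37.f149592 IH) (Lpn (LP (LK LD1_c6 LD2_c24 LD3_c46))))))
theorem f574423 : Led Lsl_cf (LP (LK LD1_c5 LD2_c47 LD3_c53)) = (LP (LK LD1_c6 LD2_c24 LD3_c46)) :=
  Lgr Lrot1 (Lpr_at (K8.f132340 IH) (Lpr_ct (K38.f132818 IH) (Lpr_at (f574421 IH) (Lpn (LP (LK LD1_c6 LD2_c24 LD3_c46))))))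
theorem f132424 : Led Lsl_dt (LP (LK LD1_c5 LD2_c47 LD3_c53)) = (LP (LK LD1_c11 LD2_c25 LD3_c26)) :=
  Lre_d IH (LK LD1_c5 LD2_c47 LD3_c53) (LK LD1_c11 LD2_c25 LD3_c26) Lrfl Lrfl
theorem f546519 : Led Lsl_dt (LP (LK LD1_c9 LD2_c7 LD3_c21)) = (LP (LK LD1_c4 LD2_c39 LD3_c41)) :=
  Lgr Lrot42 (Lpr_df (K38.f546517 IH) (Lpn (LP (LK LD1_c4 LD2_c39 LD3_c41))))
theorem f35151 : Led Lsl_gt (LP (LK LD1_c9 LD2_c7 LD3_c50)) = (LP (LK LD1_c16 LD2_c59 LD3_c31)) :=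
  Lre_g IH (LK LD1_c9 LD2_c7 LD3_c50) (LK LD1_c16 LD2_c59 LD3_c31) Lrfl Lrfl
theorem f574431 : Led Lsl_cf (LP (LK LD1_c11 LD2_c25 LD3_c26)) = (LP (LK LD1_c16 LD2_c59 LD3_c31)) :=
  Lgr Lrot99 (Lpe (f132424 IH) (Lpr_cf (f574423 IH) (Lpr_gf (K37.f542885 IH) (Lpe (K39.f56245 IH) (Lpe (K36.f56244 IH) (Lpe (f546519 IH) (Lpr_gt (K38.f34937 IH) (Lpr_ct (K38.f34925 IH) (Lpr_gt (f35151 IH) (Lpn (LP (LK LD1_c16 LD2_c59 LD3_c31))))))))))))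
theorem f574437 : Led Lsl_et (LP (LK LD1_c11 LD2_c25 LD3_c26)) = (LP (LK LD1_c20 LD2_c22 LD3_c50)) :=
  Lre_e IH (LK LD1_c11 LD2_c25 LD3_c26) (LK LD1_c20 LD2_c22 LD3_c50) Lrfl Lrfl
theorem f574438 : Led Lsl_et (LP (LK LD1_c26 LD2_c55 LD3_c6)) = (LP (LK LD1_c16 LD2_c59 LD3_c31)) :=
  Lre_e IH (LK LD1_c26 LD2_c55 LD3_c6) (LK LD1_c16 LD2_c59 LD3_c31) Lrfl Lrfl
theorem f574439 : Led Lsl_ct (LP (LK LD1_c20 LD2_c22 LD3_c50)) = (LP (LK LD1_c26 LD2_c55 LD3_c6)) :=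
  Lgr Lrot15 (Lpe (f574437 IH) (Lpr_cf (f574431 IH) (Lpe (f574438 IH) (Lpn (LP (LK LD1_c26 LD2_c55 LD3_c6))))))
theorem f574443 : Led Lsl_cf (LP (LK LD1_c20 LD2_c22 LD3_c50)) = (LP (LK LD1_c26 LD2_c55 LD3_c6)) :=
  Lgr Lrot11 (Lpr_ct (f574439 IH) (Lpn (LP (LK LD1_c26 LD2_c55 LD3_c6))))
theorem f545107 : Led Lsl_at (LP (LK LD1_c20 LD2_c22 LD3_c50)) = (LP (LK LD1_c11 LD2_c25 LD3_c30)) :=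
  Lre_a IH (LK LD1_c20 LD2_c22 LD3_c50) (LK LD1_c11 LD2_c25 LD3_c30) Lrfl Lrfl
theorem f547983 : Led Lsl_et (LP (LK LD1_c17 LD2_c0 LD3_c2)) = (LP (LK LD1_c9 LD2_c7 LD3_c47)) :=
  Lre_e IH (LK LD1_c17 LD2_c0 LD3_c2) (LK LD1_c9 LD2_c7 LD3_c47) Lrfl Lrfl
theorem f547984 : Led Lsl_et (LP (LK LD1_c5 LD2_c47 LD3_c59)) = (LP (LK LD1_c11 LD2_c25 LD3_c30)) :=
  Lre_e IH (LK LD1_c5 LD2_c47 LD3_c59) (LK LD1_c11 LD2_c25 LD3_c30) Lrfl Lrfl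
theorem f547985 : Led Lsl_cf (LP (LK LD1_c17 LD2_c0 LD3_c2)) = (LP (LK LD1_c11 LD2_c25 LD3_c30)) :=
  Lgr Lrot39 (Lpr_et (f547983 IH) (Lpr_ct (K38.f547969 IH) (Lpr_et (f547984 IH) (Lpn (LP (LK LD1_c11 LD2_c25 LD3_c30))))))
theorem f574445 : Led Lsl_at (LP (LK LD1_c17 LD2_c0 LD3_c2)) = (LP (LK LD1_c26 LD2_c55 LD3_c6)) :=
  Lgr Lrot107 (Lpr_cf (f547985 IH) (Lpe (f545107 IH) (Lpr_cf (f574443 IH) (Lpn (LP (LK LD1_c26 LD2_c55 LD3_c6))))))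
theorem f547991 : Led Lsl_et (LP (LK LD1_c9 LD2_c7 LD3_c47)) = (LP (LK LD1_c17 LD2_c0 LD3_c2)) :=
  Lre_e IH (LK LD1_c9 LD2_c7 LD3_c47) (LK LD1_c17 LD2_c0 LD3_c2) Lrfl Lrfl
theorem f574449 : Led Lsl_af (LP (LK LD1_c9 LD2_c7 LD3_c47)) = (LP (LK LD1_c16 LD2_c59 LD3_c31)) :=
  Lgr Lrot50 (Lpr_et (f547991 IH) (Lpr_at (f574445 IH) (Lpr_et (f574438 IH) (Lpn (LP (LK LD1_c16 LD2_c59 LD3_c31))))))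
theorem f34977 : Led Lsl_gt (LP (LK LD1_c9 LD2_c7 LD3_c46)) = (LP (LK LD1_c16 LD2_c59 LD3_c34)) :=
  Lre_g IH (LK LD1_c9 LD2_c7 LD3_c46) (LK LD1_c16 LD2_c59 LD3_c34) Lrfl Lrfl
theorem f574451 : Led Lsl_ft (LP (LK LD1_c9 LD2_c7 LD3_c46)) = (LP (LK LD1_c16 LD2_c59 LD3_c31)) :=
  Lgr Lrot2 (Lpr_gt (f34977 IH) (Lpr_gt (K38.f442705 IH) (Lpr_af (f574449 IH) (Lpn (LP (LK LD1_c16 LD2_c59 LD3_c31))))))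
theorem f574457 : Led Lsl_ff (LP (LK LD1_c9 LD2_c7 LD3_c46)) = (LP (LK LD1_c16 LD2_c59 LD3_c31)) :=
  Lgr Lrot3 (Lpr_ft (f574451 IH) (Lpn (LP (LK LD1_c16 LD2_c59 LD3_c31))))
theorem f35299 : Led Lsl_gt (LP (LK LD1_c16 LD2_c59 LD3_c31)) = (LP (LK LD1_c9 LD2_c7 LD3_c22)) :=
  Lre_g IH (LK LD1_c16 LD2_c59 LD3_c31) (LK LD1_c9 LD2_c7 LD3_c22) Lrfl Lrfl
theorem f574462 : Led Lsl_at (LP (LK LD1_c9 LD2_c7 LD3_c46)) = (LP (LK LD1_c10 LD2_c6 LD3_c2)) :=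
  Lgr Lrot26 (Lpr_ff (f574457 IH) (Lpr_gt (f35299 IH) (Lpr_gt (K38.f169719 IH) (Lpn (LP (LK LD1_c10 LD2_c6 LD3_c2))))))
theorem f545061 : Led Lsl_at (LP (LK LD1_c11 LD2_c25 LD3_c26)) = (LP (LK LD1_c5 LD2_c47 LD3_c59)) :=
  Lre_a IH (LK LD1_c11 LD2_c25 LD3_c26) (LK LD1_c5 LD2_c47 LD3_c59) Lrfl Lrfl
theorem f574433 : Led Lsl_at (LP (LK LD1_c9 LD2_c7 LD3_c47)) = (LP (LK LD1_c16 LD2_c59 LD3_c31)) :=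
  Lgr Lrot107 (Lpr_cf (K38.f547981 IH) (Lpe (f545061 IH) (Lpr_cf (f574431 IH) (Lpn (LP (LK LD1_c16 LD2_c59 LD3_c31))))))
theorem f574475 : Led Lsl_ff (LP (LK LD1_c9 LD2_c7 LD3_c47)) = (LP (LK LD1_c10 LD2_c6 LD3_c2)) :=
  Lgr Lrot30 (Lpr_at (f574433 IH) (Lpe (f574457 IH) (Lpr_at (f574462 IH) (Lpn (LP (LK LD1_c10 LD2_c6 LD3_c2))))))
theorem f574483 : Led Lsl_ft (LP (LK LD1_c9 LD2_c7 LD3_c47)) = (LP (LK LD1_c10 LD2_c6 LD3_c2)) :=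
  Lgr Lrot48 (Lpr_ff (f574475 IH) (Lpn (LP (LK LD1_c10 LD2_c6 LD3_c2))))
theorem f169722 : Led Lsl_ct (LP (LK LD1_c10 LD2_c6 LD3_c2)) = (LP (LK LD1_c5 LD2_c7 LD3_c52)) :=
  Lre_c IH (LK LD1_c10 LD2_c6 LD3_c2) (LK LD1_c5 LD2_c7 LD3_c52) Lrfl Lrfl
theorem f574487 : Led Lsl_ff (LP (LK LD1_c5 LD2_c47 LD3_c59)) = (LP (LK LD1_c5 LD2_c7 LD3_c52)) :=
  Lgr Lrot23 (Lpe (K38.f547981 IH) (Lpr_ft (f574483 IH) (Lpr_ct (f169722 IH) (Lpn (LP (LK LD1_c5 LD2_c7 LD3_c52))))))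
theorem f545096 : Led Lsl_at (LP (LK LD1_c5 LD2_c47 LD3_c59)) = (LP (LK LD1_c11 LD2_c25 LD3_c26)) :=
  Lre_a IH (LK LD1_c5 LD2_c47 LD3_c59) (LK LD1_c11 LD2_c25 LD3_c26) Lrfl Lrfl
theorem f132428 : Led Lsl_dt (LP (LK LD1_c11 LD2_c25 LD3_c26)) = (LP (LK LD1_c5 LD2_c47 LD3_c53)) :=
  Lre_d IH (LK LD1_c11 LD2_c25 LD3_c26) (LK LD1_c5 LD2_c47 LD3_c53) Lrfl Lrfl
theorem f428025 : Led Lsl_gf (LP (LK LD1_c5 LD2_c7 LD3_c12)) = (LP (LK LD1_c2 LD2_c31 LD3_c3)) :=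
  Lgr Lrot76 (Lpr_af (K41.f427983 IH) (Lpe (K41.f387105 IH) (Lpr_gt (K37.f387098 IH) (Lpn (LP (LK LD1_c2 LD2_c31 LD3_c3))))))
theorem f427976 : Led Lsl_dt (LP (LK LD1_c5 LD2_c7 LD3_c12)) = (LP (LK LD1_c10 LD2_c4 LD3_c61)) :=
  Lre_d IH (LK LD1_c5 LD2_c7 LD3_c12) (LK LD1_c10 LD2_c4 LD3_c61) Lrfl Lrfl
theorem f574429 : Led Lsl_gf (LP (LK LD1_c11 LD2_c25 LD3_c26)) = (LP (LK LD1_c10 LD2_c4 LD3_c61)) :=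
  Lgr Lrot143 (Lpr_dt (f132428 IH) (Lpr_cf (f574423 IH) (Lpe (f149601 IH) (Lpe (K38.f149597 IH) (Lpe (K2.f34946 IH) (Lpr_gf (K37.f387114 IH) (Lpe (K37.f387109 IH) (Lpe (f428025 IH) (Lpr_dt (f427976 IH) (Lpn (LP (LK LD1_c10 LD2_c4 LD3_c61))))))))))))
theorem f574501 : Led Lsl_gf (LP (LK LD1_c10 LD2_c4 LD3_c61)) = (LP (LK LD1_c5 LD2_c7 LD3_c52)) :=
  Lgr Lrot47 (Lpe (f574429 IH) (Lpe (f545096 IH) (Lpr_ff (f574487 IH) (Lpn (LP (LK LD1_c5 LD2_c7 LD3_c52))))))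
theorem f495433 : Led Lsl_bf (LP (LK LD1_c1 LD2_c13 LD3_c46)) = K40.v1413 :=
  Lgr Lrot24 (Lpr_bt (K40.f495432 IH) (Lpn K40.v1413))
theorem f567188 : Led Lsl_cf (LP (LK LD1_c8 LD2_c50 LD3_c21)) = (LP (LK LD1_c5 LD2_c7 LD3_c12)) :=
  Lgr Lrot58 (Lpr_gf (K41.f567182 IH) (Lpe (K41.f35191 IH) (Lpqs (K40.f562692 IH) (Lpe (f495433 IH) (Lpe (K9.f181134 IH) (Lpe (K35.f181142 IH) (Lpr_ct (K39.f538397 IH) (Lpe (K37.f544475 IH) (Lpe (K36.f3300 IH) (Lpe (K36.f53240 IH) (Lpe (f53241 IH) (Lpn (LP (LK LD1_c5 LD2_c7 LD3_c12))))))))))))))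
theorem f209871 : Led Lsl_dt (LP (LK LD1_c15 LD2_c50 LD3_c12)) = (LP (LK LD1_c8 LD2_c50 LD3_c21)) :=
  Lgr Lrot42 (Lpr_df (K39.f209869 IH) (Lpn (LP (LK LD1_c8 LD2_c50 LD3_c21))))
theorem f422755 : Led Lsl_ct (LP (LK LD1_c8 LD2_c14 LD3_c47)) = (LP (LK LD1_c4 LD2_c7 LD3_c8)) :=
  Lre_c IH (LK LD1_c8 LD2_c14 LD3_c47) (LK LD1_c4 LD2_c7 LD3_c8) Lrfl Lrfl
theorem f548371 : Led Lsl_bt (LP (LK LD1_c2 LD2_c44 LD3_c54)) = (LP (LK LD1_c5 LD2_c37 LD3_c53)) :=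
  Lre_b IH (LK LD1_c2 LD2_c44 LD3_c54) (LK LD1_c5 LD2_c37 LD3_c53) Lrfl Lrfl
theorem f427529 : Led Lsl_bt (LP (LK LD1_c2 LD2_c0 LD3_c58)) = (LP (LK LD1_c4 LD2_c7 LD3_c8)) :=
  Lre_b IH (LK LD1_c2 LD2_c0 LD3_c58) (LK LD1_c4 LD2_c7 LD3_c8) Lrfl Lrfl
theorem f557539 : Led Lsl_gf (LP (LK LD1_c5 LD2_c37 LD3_c53)) = (LP (LK LD1_c4 LD2_c7 LD3_c8)) :=
  Lgr Lrot124 (Lpe (f548371 IH) (Lpr_ct (K38.f548373 IH) (Lpe (K40.f557537 IH) (Lpr_cf (K40.f557528 IH) (Lpr_bt (K40.f205138 IH) (Lpr_gt (K27.f22207 IH) (Lpr_ct (K27.f205134 IH) (Lpr_gt (K36.f542640 IH) (Lpe (K39.f55986 IH) (Lpr_bt (f427529 IH) (Lpn (LP (LK LD1_c4 LD2_c7 LD3_c8)))))))))))))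
theorem f574503 : Led Lsl_dt (LP (LK LD1_c5 LD2_c37 LD3_c53)) = (LP (LK LD1_c5 LD2_c7 LD3_c52)) :=
  Lgr Lrot57 (Lpr_gf (f557539 IH) (Lpe (f422755 IH) (Lpr_gt (K38.f422751 IH) (Lpr_dt (K1.f56231 IH) (Lpr_gt (K39.f46608 IH) (Lpr_dt (f209871 IH) (Lpr_cf (f567188 IH) (Lpe (K36.f427972 IH) (Lpr_gf (f574501 IH) (Lpn (LP (LK LD1_c5 LD2_c7 LD3_c52))))))))))))
theorem f574512 : Led Lsl_ff (LP (LK LD1_c5 LD2_c37 LD3_c53)) = (LP (LK LD1_c2 LD2_c49 LD3_c61)) :=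
  Lgr Lrot19 (Lpr_dt (f574503 IH) (Lpe (f574487 IH) (Lpr_dt (K38.f439084 IH) (Lpn (LP (LK LD1_c2 LD2_c49 LD3_c61))))))
theorem f574514 : Led Lsl_at (LP (LK LD1_c5 LD2_c37 LD3_c53)) = (LP (LK LD1_c11 LD2_c7 LD3_c4)) :=
  Lre_a IH (LK LD1_c5 LD2_c37 LD3_c53) (LK LD1_c11 LD2_c7 LD3_c4) Lrfl Lrfl
theorem f436719 : Led Lsl_gt (LP (LK LD1_c2 LD2_c49 LD3_c61)) = (LP (LK LD1_c5 LD2_c47 LD3_c57)) :=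
  Lre_g IH (LK LD1_c2 LD2_c49 LD3_c61) (LK LD1_c5 LD2_c47 LD3_c57) Lrfl Lrfl
theorem f574519 : Led Lsl_gf (LP (LK LD1_c11 LD2_c7 LD3_c4)) = (LP (LK LD1_c5 LD2_c47 LD3_c57)) :=
  Lgr Lrot76 (Lpe (f574514 IH) (Lpr_ff (f574512 IH) (Lpr_gt (f436719 IH) (Lpn (LP (LK LD1_c5 LD2_c47 LD3_c57))))))
theorem f211938 : Led Lsl_et (LP (LK LD1_c2 LD2_c44 LD3_c51)) = (LP (LK LD1_c5 LD2_c37 LD3_c53)) :=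
  Lre_e IH (LK LD1_c2 LD2_c44 LD3_c51) (LK LD1_c5 LD2_c37 LD3_c53) Lrfl Lrfl
theorem f553487 : Led Lsl_ct (LP (LK LD1_c5 LD2_c37 LD3_c53)) = (LP (LK LD1_c9 LD2_c14 LD3_c58)) :=
  Lgr Lrot15 (Lpe (f211938 IH) (Lpr_cf (f211889 IH) (Lpr_ef (K39.f553485 IH) (Lpn (LP (LK LD1_c9 LD2_c14 LD3_c58))))))
theorem f548394 : Led Lsl_at (LP (LK LD1_c11 LD2_c7 LD3_c4)) = (LP (LK LD1_c5 LD2_c37 LD3_c53)) :=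
  Lre_a IH (LK LD1_c11 LD2_c7 LD3_c4) (LK LD1_c5 LD2_c37 LD3_c53) Lrfl Lrfl
theorem f574387 : Led Lsl_cf (LP (LK LD1_c11 LD2_c7 LD3_c4)) = (LP (LK LD1_c8 LD2_c42 LD3_c53)) :=
  Lgr Lrot1 (Lpr_at (f548394 IH) (Lpr_ct (f553487 IH) (Lpr_at (f574385 IH) (Lpn (LP (LK LD1_c8 LD2_c42 LD3_c53))))))
theorem f569505 : Led Lsl_bf (LP (LK LD1_c8 LD2_c3 LD3_c38)) = (LP (LK LD1_c8 LD2_c42 LD3_c53)) :=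
  Lgr Lrot24 (Lpr_bt (K42.f569503 IH) (Lpn (LP (LK LD1_c8 LD2_c42 LD3_c53))))
theorem f46850 : Led Lsl_bt (LP (LK LD1_c0 LD2_c59 LD3_c4)) = (LP (LK LD1_c2 LD2_c4 LD3_c5)) :=
  Lre_b IH (LK LD1_c0 LD2_c59 LD3_c4) (LK LD1_c2 LD2_c4 LD3_c5) Lrfl Lrfl
theorem f56207 : Led Lsl_gt (LP (LK LD1_c2 LD2_c4 LD3_c5)) = (LP (LK LD1_c4 LD2_c13 LD3_c28)) :=
  Lre_g IH (LK LD1_c2 LD2_c4 LD3_c5) (LK LD1_c4 LD2_c13 LD3_c28) Lrfl Lrfl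
theorem f574523 : Led Lsl_ct (LP (LK LD1_c4 LD2_c13 LD3_c28)) = (LP (LK LD1_c5 LD2_c47 LD3_c57)) :=
  Lgr Lrot91 (Lpe (f56207 IH) (Lpe (f46850 IH) (Lpr_ct (K1.f27850 IH) (Lpe (K10.f27848 IH) (Lpe (K13.f211608 IH) (Lpr_bt (K42.f211613 IH) (Lpe (K42.f211639 IH) (Lpr_bf (f569505 IH) (Lpe (f574387 IH) (Lpr_gf (f574519 IH) (Lpn (LP (LK LD1_c5 LD2_c47 LD3_c57)))))))))))))
theorem f574532 : Led Lsl_bt (LP (LK LD1_c4 LD2_c13 LD3_c28)) = (LP (LK LD1_c8 LD2_c25 LD3_c53)) :=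
  Lre_b IH (LK LD1_c4 LD2_c13 LD3_c28) (LK LD1_c8 LD2_c25 LD3_c53) Lrfl Lrfl
theorem f574535 : Led Lsl_gt (LP (LK LD1_c15 LD2_c50 LD3_c5)) = (LP (LK LD1_c8 LD2_c25 LD3_c53)) :=
  Lre_g IH (LK LD1_c15 LD2_c50 LD3_c5) (LK LD1_c8 LD2_c25 LD3_c53) Lrfl Lrfl
theorem f569625 : Led Lsl_gf (LP (LK LD1_c8 LD2_c2 LD3_c4)) = (LP (LK LD1_c4 LD2_c2 LD3_c9)) :=
  Lgr Lrot47 (Lpr_gt (K42.f569623 IH) (Lpe (K18.f69740 IH) (Lpr_ff (K42.f385957 IH) (Lpn (LP (LK LD1_c4 LD2_c2 LD3_c9))))))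
theorem f574536 : Led Lsl_bf (LP (LK LD1_c15 LD2_c50 LD3_c5)) = (LP (LK LD1_c10 LD2_c1 LD3_c23)) :=
  Lgr Lrot156 (Lpr_gt (f574535 IH) (Lpe (f574532 IH) (Lpr_ct (f574523 IH) (Lpe (f574519 IH) (Lpr_cf (f574387 IH) (Lpe (f569505 IH) (Lpr_gt (K42.f211639 IH) (Lpr_ct (K42.f242223 IH) (Lpe (f569625 IH) (Lpr_cf (K42.f565701 IH) (Lpn (LP (LK LD1_c10 LD2_c1 LD3_c23)))))))))))))
theorem f558212 : Led Lsl_bf (LP (LK LD1_c7 LD2_c14 LD3_c27)) = (LP (LK LD1_c9 LD2_c14 LD3_c47)) :=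
  Lgr Lrot24 (Lpr_bt (K40.f558199 IH) (Lpn (LP (LK LD1_c9 LD2_c14 LD3_c47))))
theorem f574544 : Led Lsl_et (LP (LK LD1_c15 LD2_c50 LD3_c5)) = (LP (LK LD1_c9 LD2_c14 LD3_c47)) :=
  Lgr Lrot74 (Lpr_bf (f574536 IH) (Lpe (K41.f565699 IH) (Lpr_bf (f558212 IH) (Lpn (LP (LK LD1_c9 LD2_c14 LD3_c47))))))
theorem f569923 : Led Lsl_bt (LP (LK LD1_c23 LD2_c14 LD3_c59)) = (LP (LK LD1_c13 LD2_c47 LD3_c33)) :=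
  Lre_b IH (LK LD1_c23 LD2_c14 LD3_c59) (LK LD1_c13 LD2_c47 LD3_c33) Lrfl Lrfl
theorem f574542 : Led Lsl_dt (LP (LK LD1_c15 LD2_c50 LD3_c5)) = (LP (LK LD1_c23 LD2_c14 LD3_c59)) :=
  Lgr Lrot79 (Lpr_bf (f574536 IH) (Lpe (f569908 IH) (Lpe (f569923 IH) (Lpn (LP (LK LD1_c23 LD2_c14 LD3_c59))))))
theorem f158204 : Led Lsl_dt (LP (LK LD1_c8 LD2_c49 LD3_c0)) = (LP (LK LD1_c16 LD2_c29 LD3_c25)) :=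
  Lre_d IH (LK LD1_c8 LD2_c49 LD3_c0) (LK LD1_c16 LD2_c29 LD3_c25) Lrfl Lrfl
theorem f574555 : Led Lsl_gf (LP (LK LD1_c23 LD2_c14 LD3_c59)) = (LP (LK LD1_c16 LD2_c29 LD3_c25)) :=
  Lgr Lrot134 (Lpe (f574542 IH) (Lpr_et (f574544 IH) (Lpr_gt (K40.f70234 IH) (Lpr_ef (K42.f570681 IH) (Lpe (K42.f570679 IH) (Lpr_gt (K24.f5545 IH) (Lpe (K0.f5065 IH) (Lpr_et (K42.f5077 IH) (Lpe (K42.f571593 IH) (Lpr_dt (f158204 IH) (Lpn (LP (LK LD1_c16 LD2_c29 LD3_c25)))))))))))))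
theorem f566134 : Led Lsl_ft (LP (LK LD1_c7 LD2_c17 LD3_c24)) = (LP (LK LD1_c8 LD2_c48 LD3_c60)) :=
  Lgr Lrot48 (Lpr_ff (K41.f566124 IH) (Lpn (LP (LK LD1_c8 LD2_c48 LD3_c60))))
theorem f566114 : Led Lsl_af (LP (LK LD1_c13 LD2_c46 LD3_c29)) = (LP (LK LD1_c8 LD2_c48 LD3_c60)) :=
  Lgr Lrot36 (Lpr_bt (f5423 IH) (Lpr_at (K42.f5035 IH) (Lpr_bt (K41.f5421 IH) (Lpe (K42.f5132 IH) (Lpr_bt (K41.f566111 IH) (Lpn (LP (LK LD1_c8 LD2_c48 LD3_c60))))))))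
theorem f571595 : Led Lsl_gt (LP (LK LD1_c8 LD2_c49 LD3_c0)) = (LP (LK LD1_c13 LD2_c46 LD3_c29)) :=
  Lgr Lrot46 (Lpr_gf (K42.f571593 IH) (Lpr_ft (f566134 IH) (Lpe (f566114 IH) (Lpn (LP (LK LD1_c13 LD2_c46 LD3_c29))))))
theorem f556488 : Led Lsl_dt (LP (LK LD1_c8 LD2_c5 LD3_c9)) = (LP (LK LD1_c8 LD2_c2 LD3_c10)) :=
  Lgr Lrot44 (Lpr_af (K39.f556479 IH) (Lpe (K39.f421317 IH) (Lpe (K32.f158335 IH) (Lpn (LP (LK LD1_c8 LD2_c2 LD3_c10))))))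
theorem f556481 : Led Lsl_ct (LP (LK LD1_c15 LD2_c13 LD3_c30)) = (LP (LK LD1_c8 LD2_c5 LD3_c9)) :=
  Lre_c IH (LK LD1_c15 LD2_c13 LD3_c30) (LK LD1_c8 LD2_c5 LD3_c9) Lrfl Lrfl
theorem f556511 : Led Lsl_gt (LP (LK LD1_c25 LD2_c2 LD3_c34)) = (LP (LK LD1_c15 LD2_c13 LD3_c30)) :=
  Lre_g IH (LK LD1_c25 LD2_c2 LD3_c34) (LK LD1_c15 LD2_c13 LD3_c30) Lrfl Lrfl
theorem f574557 : Led Lsl_ct (LP (LK LD1_c23 LD2_c14 LD3_c59)) = (LP (LK LD1_c25 LD2_c2 LD3_c34)) :=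
  Lgr Lrot152 (Lpr_gf (f574555 IH) (Lpe (f158204 IH) (Lpr_gt (f571595 IH) (Lpr_ct (f566128 IH) (Lpr_gt (K41.f160723 IH) (Lpe (K36.f203304 IH) (Lpe (f556488 IH) (Lpe (f556481 IH) (Lpe (f556511 IH) (Lpn (LP (LK LD1_c25 LD2_c2 LD3_c34))))))))))))
theorem f554367 : Led Lsl_ct (LP (LK LD1_c8 LD2_c5 LD3_c10)) = (LP (LK LD1_c15 LD2_c13 LD3_c32)) :=
  Lre_c IH (LK LD1_c8 LD2_c5 LD3_c10) (LK LD1_c15 LD2_c13 LD3_c32) Lrfl Lrfl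
theorem f574562 : Led Lsl_gt (LP (LK LD1_c15 LD2_c13 LD3_c32)) = (LP (LK LD1_c25 LD2_c2 LD3_c34)) :=
  Lgr Lrot149 (Lpe (f554367 IH) (Lpr_gf (K39.f554365 IH) (Lpe (K39.f225012 IH) (Lpr_ct (K39.f240727 IH) (Lpr_gf (K13.f191287 IH) (Lpe (K13.f36958 IH) (Lpr_bt (f573792 IH) (Lpe (K42.f569916 IH) (Lpe (f569923 IH) (Lpr_ct (f574557 IH) (Lpn (LP (LK LD1_c25 LD2_c2 LD3_c34)))))))))))))
theorem f225013 : Led Lsl_dt (LP (LK LD1_c8 LD2_c38 LD3_c23)) = (LP (LK LD1_c8 LD2_c0 LD3_c60)) :=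
  Lgr Lrot79 (Lpe (K39.f225012 IH) (Lpr_df (K12.f225010 IH) (Lpe (K39.f53111 IH) (Lpn (LP (LK LD1_c8 LD2_c0 LD3_c60))))))
theorem f552274 : Led Lsl_ct (LP (LK LD1_c4 LD2_c2 LD3_c17)) = (LP (LK LD1_c8 LD2_c5 LD3_c5)) :=
  Lre_c IH (LK LD1_c4 LD2_c2 LD3_c17) (LK LD1_c8 LD2_c5 LD3_c5) Lrfl Lrfl
theorem f574560 : Led Lsl_cf (LP (LK LD1_c23 LD2_c14 LD3_c59)) = (LP (LK LD1_c25 LD2_c2 LD3_c34)) :=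
  Lgr Lrot11 (Lpr_ct (f574557 IH) (Lpn (LP (LK LD1_c25 LD2_c2 LD3_c34))))
theorem f206072 : Led Lsl_et (LP (LK LD1_c6 LD2_c13 LD3_c45)) = (LP (LK LD1_c12 LD2_c6 LD3_c13)) :=
  Lre_e IH (LK LD1_c6 LD2_c13 LD3_c45) (LK LD1_c12 LD2_c6 LD3_c13) Lrfl Lrfl
theorem f574549 : Led Lsl_cf (LP (LK LD1_c15 LD2_c50 LD3_c5)) = (LP (LK LD1_c12 LD2_c6 LD3_c13)) :=
  Lgr Lrot39 (Lpr_et (f574544 IH) (Lpe (K40.f206065 IH) (Lpr_et (f206072 IH) (Lpn (LP (LK LD1_c12 LD2_c6 LD3_c13))))))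
theorem f574564 : Led Lsl_gt (LP (LK LD1_c8 LD2_c5 LD3_c5)) = (LP (LK LD1_c12 LD2_c6 LD3_c13)) :=
  Lgr Lrot150 (Lpe (f552274 IH) (Lpe (K39.f552265 IH) (Lpe (f225013 IH) (Lpe (K39.f554365 IH) (Lpr_ct (f554367 IH) (Lpr_gt (f574562 IH) (Lpe (f574560 IH) (Lpe (f574542 IH) (Lpr_cf (f574549 IH) (Lpn (LP (LK LD1_c12 LD2_c6 LD3_c13))))))))))))
theorem f574540 : Led Lsl_bt (LP (LK LD1_c15 LD2_c50 LD3_c5)) = (LP (LK LD1_c10 LD2_c1 LD3_c23)) :=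
  Lgr Lrot127 (Lpr_bf (f574536 IH) (Lpn (LP (LK LD1_c10 LD2_c1 LD3_c23))))
theorem f574574 : Led Lsl_ct (LP (LK LD1_c15 LD2_c50 LD3_c5)) = (LP (LK LD1_c12 LD2_c6 LD3_c13)) :=
  Lgr Lrot63 (Lpr_bt (f574540 IH) (Lpr_gt (K41.f240842 IH) (Lpe (K13.f240696 IH) (Lpr_ct (K13.f240699 IH) (Lpe (K13.f240702 IH) (Lpe (K10.f28789 IH) (Lpr_bt (K39.f28729 IH) (Lpr_gt (K39.f552265 IH) (Lpr_ct (f552274 IH) (Lpr_gt (f574564 IH) (Lpn (LP (LK LD1_c12 LD2_c6 LD3_c13)))))))))))))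
theorem f242253 : Led Lsl_bt (LP (LK LD1_c15 LD2_c12 LD3_c59)) = (LP (LK LD1_c8 LD2_c4 LD3_c52)) :=
  Lre_b IH (LK LD1_c15 LD2_c12 LD3_c59) (LK LD1_c8 LD2_c4 LD3_c52) Lrfl Lrfl
theorem f242254 : Led Lsl_ct (LP (LK LD1_c15 LD2_c12 LD3_c59)) = (LP (LK LD1_c15 LD2_c13 LD3_c15)) :=
  Lre_c IH (LK LD1_c15 LD2_c12 LD3_c59) (LK LD1_c15 LD2_c13 LD3_c15) Lrfl Lrfl
theorem f552283 : Led Lsl_bt (LP (LK LD1_c4 LD2_c2 LD3_c17)) = (LP (LK LD1_c8 LD2_c5 LD3_c4)) :=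
  Lre_b IH (LK LD1_c4 LD2_c2 LD3_c17) (LK LD1_c8 LD2_c5 LD3_c4) Lrfl Lrfl
theorem f573748 : Led Lsl_gt (LP (LK LD1_c15 LD2_c13 LD3_c15)) = (LP (LK LD1_c8 LD2_c5 LD3_c5)) :=
  Lgr Lrot65 (Lpe (f242254 IH) (Lpr_bt (f242253 IH) (Lpr_gf (f573742 IH) (Lpr_bf (f386165 IH) (Lpr_ct (K39.f176003 IH) (Lpr_gf (K42.f551753 IH) (Lpe (K6.f132618 IH) (Lpe (K39.f556453 IH) (Lpe (f552283 IH) (Lpr_ct (f552274 IH) (Lpn (LP (LK LD1_c8 LD2_c5 LD3_c5)))))))))))))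
theorem f569533 : Led Lsl_bf (LP (LK LD1_c10 LD2_c16 LD3_c10)) = (LP (LK LD1_c8 LD2_c2 LD3_c4)) :=
  Lgr Lrot96 (Lpr_et (K42.f569529 IH) (Lpr_bt (K11.f202795 IH) (Lpr_et (K42.f112598 IH) (Lpn (LP (LK LD1_c8 LD2_c2 LD3_c4))))))
theorem f502385 : Led Lsl_bt (LP (LK LD1_c12 LD2_c6 LD3_c13)) = (LP (LK LD1_c6 LD2_c13 LD3_c47)) :=
  Lre_b IH (LK LD1_c12 LD2_c6 LD3_c13) (LK LD1_c6 LD2_c13 LD3_c47) Lrfl Lrfl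
theorem f574538 : Led Lsl_at (LP (LK LD1_c15 LD2_c50 LD3_c5)) = (LP (LK LD1_c12 LD2_c6 LD3_c13)) :=
  Lgr Lrot67 (Lpr_bf (f574536 IH) (Lpe (f573909 IH) (Lpr_bf (f569533 IH) (Lpe (f502381 IH) (Lpe (f502385 IH) (Lpn (LP (LK LD1_c12 LD2_c6 LD3_c13))))))))
theorem f574570 : Led Lsl_ft (LP (LK LD1_c15 LD2_c13 LD3_c15)) = (LP (LK LD1_c15 LD2_c50 LD3_c5)) :=
  Lgr Lrot2 (Lpr_gt (f573748 IH) (Lpr_gt (f574564 IH) (Lpe (f574538 IH) (Lpn (LP (LK LD1_c15 LD2_c50 LD3_c5))))))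
theorem f574578 : Led Lsl_ff (LP (LK LD1_c15 LD2_c12 LD3_c59)) = (LP (LK LD1_c12 LD2_c6 LD3_c13)) :=
  Lgr Lrot23 (Lpr_ct (f242254 IH) (Lpr_ft (f574570 IH) (Lpr_ct (f574574 IH) (Lpn (LP (LK LD1_c12 LD2_c6 LD3_c13))))))
theorem f574580 : Led Lsl_at (LP (LK LD1_c15 LD2_c12 LD3_c59)) = (LP (LK LD1_c15 LD2_c13 LD3_c15)) :=
  Lgr Lrot66 (Lpr_ff (f574578 IH) (Lpe (f574538 IH) (Lpe (f574570 IH) (Lpn (LP (LK LD1_c15 LD2_c13 LD3_c15))))))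
theorem f242255 : Led Lsl_gt (LP (LK LD1_c8 LD2_c5 LD3_c0)) = (LP (LK LD1_c15 LD2_c13 LD3_c15)) :=
  Lre_g IH (LK LD1_c8 LD2_c5 LD3_c0) (LK LD1_c15 LD2_c13 LD3_c15) Lrfl Lrfl
theorem f574584 : Led Lsl_gf (LP (LK LD1_c8 LD2_c5 LD3_c0)) = (LP (LK LD1_c12 LD2_c6 LD3_c13)) :=
  Lgr Lrot47 (Lpr_gt (f242255 IH) (Lpe (f574580 IH) (Lpr_ff (f574578 IH) (Lpn (LP (LK LD1_c12 LD2_c6 LD3_c13))))))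
theorem f158196 : Led Lsl_et (LP (LK LD1_c2 LD2_c10 LD3_c12)) = (LP (LK LD1_c4 LD2_c25 LD3_c45)) :=
  Lre_e IH (LK LD1_c2 LD2_c10 LD3_c12) (LK LD1_c4 LD2_c25 LD3_c45) Lrfl Lrfl
theorem f5024 : Led Lsl_ff (LP (LK LD1_c3 LD2_c38 LD3_c13)) = (LP (LK LD1_c3 LD2_c38 LD3_c32)) :=
  Lgr Lrot25 (Lpr_bt (K28.f5022 IH) (Lpr_ft (K0.f5019 IH) (Lpr_bt (K28.f5023 IH) (Lpn (LP (LK LD1_c3 LD2_c38 LD3_c32))))))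
theorem f566132 : Led Lsl_et (LP (LK LD1_c13 LD2_c46 LD3_c29)) = (LP (LK LD1_c8 LD2_c48 LD3_c60)) :=
  Lgr Lrot69 (Lpe (f5554 IH) (Lpe (K24.f5534 IH) (Lpr_ff (f5024 IH) (Lpe (K0.f5071 IH) (Lpr_ff (K41.f566124 IH) (Lpn (LP (LK LD1_c8 LD2_c48 LD3_c60))))))))
theorem f5538 : Led Lsl_dt (LP (LK LD1_c13 LD2_c46 LD3_c29)) = (LP (LK LD1_c23 LD2_c13 LD3_c40)) :=
  Lre_d IH (LK LD1_c13 LD2_c46 LD3_c29) (LK LD1_c23 LD2_c13 LD3_c40) Lrfl Lrfl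
theorem f574588 : Led Lsl_gt (LP (LK LD1_c15 LD2_c13 LD3_c16)) = (LP (LK LD1_c23 LD2_c13 LD3_c40)) :=
  Lgr Lrot139 (Lpe (K42.f443195 IH) (Lpr_gf (f574584 IH) (Lpe (f206072 IH) (Lpr_dt (K40.f420410 IH) (Lpr_gf (K40.f160719 IH) (Lpe (K40.f38549 IH) (Lpr_et (f158196 IH) (Lpe (K41.f160723 IH) (Lpe (f566132 IH) (Lpr_dt (f5538 IH) (Lpn (LP (LK LD1_c23 LD2_c13 LD3_c40)))))))))))))
theorem f203347 : Led Lsl_dt (LP (LK LD1_c16 LD2_c29 LD3_c22)) = (LP (LK LD1_c8 LD2_c48 LD3_c60)) :=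
  Lre_d IH (LK LD1_c16 LD2_c29 LD3_c22) (LK LD1_c8 LD2_c48 LD3_c60) Lrfl Lrfl
theorem f566130 : Led Lsl_ft (LP (LK LD1_c13 LD2_c47 LD3_c29)) = (LP (LK LD1_c16 LD2_c29 LD3_c22)) :=
  Lgr Lrot54 (Lpe (K24.f5101 IH) (Lpr_ff (K41.f566124 IH) (Lpe (f203347 IH) (Lpn (LP (LK LD1_c16 LD2_c29 LD3_c22))))))
theorem f574591 : Led Lsl_at (LP (LK LD1_c16 LD2_c29 LD3_c22)) = (LP (LK LD1_c23 LD2_c13 LD3_c40)) :=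
  Lgr Lrot26 (Lpe (f566130 IH) (Lpr_gt (K42.f570976 IH) (Lpr_gt (f574588 IH) (Lpn (LP (LK LD1_c23 LD2_c13 LD3_c40))))))
theorem f574598 : Led Lsl_af (LP (LK LD1_c16 LD2_c29 LD3_c22)) = (LP (LK LD1_c23 LD2_c13 LD3_c40)) :=
  Lgr Lrot0 (Lpr_at (f574591 IH) (Lpn (LP (LK LD1_c23 LD2_c13 LD3_c40))))
theorem f574546 : Led Lsl_dt (LP (LK LD1_c8 LD2_c25 LD3_c53)) = (LP (LK LD1_c15 LD2_c50 LD3_c6)) :=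
  Lre_d IH (LK LD1_c8 LD2_c25 LD3_c53) (LK LD1_c15 LD2_c50 LD3_c6) Lrfl Lrfl
theorem f5598 : Led Lsl_dt (LP (LK LD1_c23 LD2_c13 LD3_c40)) = (LP (LK LD1_c13 LD2_c46 LD3_c29)) :=
  Lre_d IH (LK LD1_c23 LD2_c13 LD3_c40) (LK LD1_c13 LD2_c46 LD3_c29) Lrfl Lrfl
theorem f5158 : Led Lsl_ct (LP (LK LD1_c7 LD2_c16 LD3_c53)) = (LP (LK LD1_c3 LD2_c39 LD3_c34)) :=
  Lgr Lrot59 (Lpr_cf (K0.f5150 IH) (Lpn (LP (LK LD1_c3 LD2_c39 LD3_c34))))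
theorem f566118 : Led Lsl_cf (LP (LK LD1_c13 LD2_c46 LD3_c29)) = (LP (LK LD1_c8 LD2_c48 LD3_c60)) :=
  Lgr Lrot97 (Lpr_bt (f5423 IH) (Lpr_ct (f5158 IH) (Lpe (K24.f5417 IH) (Lpr_ct (K41.f5037 IH) (Lpr_bt (K41.f566111 IH) (Lpn (LP (LK LD1_c8 LD2_c48 LD3_c60))))))))
theorem f574593 : Led Lsl_gt (LP (LK LD1_c15 LD2_c50 LD3_c6)) = (LP (LK LD1_c16 LD2_c29 LD3_c22)) :=
  Lgr Lrot49 (Lpe (f574546 IH) (Lpe (f574535 IH) (Lpr_cf (f574549 IH) (Lpe (f574584 IH) (Lpr_dt (K42.f443195 IH) (Lpr_gt (f574588 IH) (Lpr_dt (f5598 IH) (Lpr_cf (f566118 IH) (Lpe (f203347 IH) (Lpn (LP (LK LD1_c16 LD2_c29 LD3_c22))))))))))))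
theorem f5532 : Led Lsl_ft (LP (LK LD1_c13 LD2_c46 LD3_c28)) = (LP (LK LD1_c23 LD2_c13 LD3_c40)) :=
  Lre_f IH (LK LD1_c13 LD2_c46 LD3_c28) (LK LD1_c23 LD2_c13 LD3_c40) Lrfl Lrfl
theorem f574604 : Led Lsl_gf (LP (LK LD1_c15 LD2_c50 LD3_c6)) = (LP (LK LD1_c13 LD2_c46 LD3_c28)) :=
  Lgr Lrot47 (Lpr_gt (f574593 IH) (Lpr_af (f574598 IH) (Lpe (f5532 IH) (Lpn (LP (LK LD1_c13 LD2_c46 LD3_c28))))))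
theorem f5553 : Led Lsl_dt (LP (LK LD1_c7 LD2_c16 LD3_c47)) = (LP (LK LD1_c13 LD2_c46 LD3_c28)) :=
  Lre_d IH (LK LD1_c7 LD2_c16 LD3_c47) (LK LD1_c13 LD2_c46 LD3_c28) Lrfl Lrfl
theorem f564961 : Led Lsl_ef (LP (LK LD1_c15 LD2_c5 LD3_c43)) = (LP (LK LD1_c11 LD2_c23 LD3_c0)) :=
  Lgr Lrot29 (Lpr_bt (K42.f210769 IH) (Lpr_et (K41.f564957 IH) (Lpr_bt (K36.f202793 IH) (Lpn (LP (LK LD1_c11 LD2_c23 LD3_c0))))))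
theorem f574607 : Led Lsl_et (LP (LK LD1_c8 LD2_c25 LD3_c53)) = (LP (LK LD1_c11 LD2_c6 LD3_c9)) :=
  Lgr Lrot185 (Lpr_dt (f574546 IH) (Lpr_gf (f574604 IH) (Lpe (f5553 IH) (Lpr_gf (K41.f566136 IH) (Lpe (f158196 IH) (Lpr_dt (K40.f38549 IH) (Lpe (K39.f149424 IH) (Lpe (K39.f502138 IH) (Lpe (f564961 IH) (Lpr_gf (f573429 IH) (Lpn (LP (LK LD1_c11 LD2_c6 LD3_c9)))))))))))))
theorem f574613 : Led Lsl_ef (LP (LK LD1_c8 LD2_c25 LD3_c53)) = (LP (LK LD1_c11 LD2_c6 LD3_c9)) :=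
  Lgr Lrot88 (Lpr_et (f574607 IH) (Lpn (LP (LK LD1_c11 LD2_c6 LD3_c9))))
theorem f46873 : Led Lsl_bt (LP (LK LD1_c8 LD2_c25 LD3_c53)) = (LP (LK LD1_c4 LD2_c13 LD3_c28)) :=
  Lre_b IH (LK LD1_c8 LD2_c25 LD3_c53) (LK LD1_c4 LD2_c13 LD3_c28) Lrfl Lrfl
theorem f574615 : Led Lsl_et (LP (LK LD1_c4 LD2_c13 LD3_c28)) = (LP (LK LD1_c5 LD2_c37 LD3_c5)) :=
  Lgr Lrot74 (Lpe (f46873 IH) (Lpr_ef (f574613 IH) (Lpe (f419030 IH) (Lpn (LP (LK LD1_c5 LD2_c37 LD3_c5))))))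
theorem f56208 : Led Lsl_dt (LP (LK LD1_c4 LD2_c13 LD3_c28)) = (LP (LK LD1_c8 LD2_c25 LD3_c54)) :=
  Lre_d IH (LK LD1_c4 LD2_c13 LD3_c28) (LK LD1_c8 LD2_c25 LD3_c54) Lrfl Lrfl
theorem f35215 : Led Lsl_dt (LP (LK LD1_c4 LD2_c35 LD3_c33)) = (LP (LK LD1_c9 LD2_c7 LD3_c37)) :=
  Lre_d IH (LK LD1_c4 LD2_c35 LD3_c33) (LK LD1_c9 LD2_c7 LD3_c37) Lrfl Lrfl
theorem f574638 : Led Lsl_gf (LP (LK LD1_c8 LD2_c25 LD3_c54)) = (LP (LK LD1_c9 LD2_c7 LD3_c37)) :=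
  Lgr Lrot134 (Lpe (f56208 IH) (Lpr_et (f574615 IH) (Lpe (f573417 IH) (Lpe (K39.f117767 IH) (Lpr_dt (K8.f117721 IH) (Lpr_gt (K8.f158834 IH) (Lpr_df (K8.f158731 IH) (Lpr_et (K41.f158823 IH) (Lpr_gt (K41.f567180 IH) (Lpr_dt (f35215 IH) (Lpn (LP (LK LD1_c9 LD2_c7 LD3_c37)))))))))))))
theorem f546503 : Led Lsl_gt (LP (LK LD1_c8 LD2_c48 LD3_c56)) = (LP (LK LD1_c5 LD2_c5 LD3_c14)) :=
  Lgr Lrot49 (Lpe (K42.f148975 IH) (Lpe (K32.f421380 IH) (Lpe (K32.f308085 IH) (Lpr_gt (K38.f495339 IH) (Lpq (K38.f542384 IH) (Lpr_dt (K38.f211644 IH) (Lpr_gt (K38.f546497 IH) (Lpr_dt (K18.f164831 IH) (Lpe (K11.f164844 IH) (Lpe (K32.f164881 IH) (Lpn (LP (LK LD1_c5 LD2_c5 LD3_c14)))))))))))))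
theorem f34979 : Led Lsl_ct (LP (LK LD1_c2 LD2_c14 LD3_c58)) = (LP (LK LD1_c4 LD2_c35 LD3_c35)) :=
  Lre_c IH (LK LD1_c2 LD2_c14 LD3_c58) (LK LD1_c4 LD2_c35 LD3_c35) Lrfl Lrfl
theorem f551779 : Led Lsl_et (LP (LK LD1_c4 LD2_c35 LD3_c35)) = (LP (LK LD1_c5 LD2_c13 LD3_c39)) :=
  Lgr Lrot158 (Lpe (f34979 IH) (Lpr_ef (K39.f551773 IH) (Lpe (K19.f308138 IH) (Lpn (LP (LK LD1_c5 LD2_c13 LD3_c39))))))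
theorem f34980 : Led Lsl_dt (LP (LK LD1_c4 LD2_c35 LD3_c35)) = (LP (LK LD1_c9 LD2_c7 LD3_c39)) :=
  Lre_d IH (LK LD1_c4 LD2_c35 LD3_c35) (LK LD1_c9 LD2_c7 LD3_c39) Lrfl Lrfl
theorem f574636 : Led Lsl_gt (LP (LK LD1_c8 LD2_c25 LD3_c54)) = (LP (LK LD1_c9 LD2_c7 LD3_c39)) :=
  Lgr Lrot112 (Lpe (f56208 IH) (Lpr_et (f574615 IH) (Lpe (K38.f164885 IH) (Lpr_ef (K13.f164863 IH) (Lpr_dt (K39.f164859 IH) (Lpe (f546503 IH) (Lpe (K42.f148975 IH) (Lpe (K32.f421380 IH) (Lpe (f551779 IH) (Lpr_dt (f34980 IH) (Lpn (LP (LK LD1_c9 LD2_c7 LD3_c39)))))))))))))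
theorem f421704 : Led Lsl_dt (LP (LK LD1_c10 LD2_c17 LD3_c32)) = (LP (LK LD1_c5 LD2_c13 LD3_c41)) :=
  Lre_d IH (LK LD1_c10 LD2_c17 LD3_c32) (LK LD1_c5 LD2_c13 LD3_c41) Lrfl Lrfl
theorem f567108 : Led Lsl_ff (LP (LK LD1_c10 LD2_c17 LD3_c32)) = (LP (LK LD1_c9 LD2_c7 LD3_c37)) :=
  Lgr Lrot19 (Lpr_dt (f421704 IH) (Lpr_ft (K41.f567106 IH) (Lpr_dt (f35215 IH) (Lpn (LP (LK LD1_c9 LD2_c7 LD3_c37))))))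
theorem f574640 : Led Lsl_af (LP (LK LD1_c9 LD2_c7 LD3_c39)) = (LP (LK LD1_c10 LD2_c17 LD3_c32)) :=
  Lgr Lrot31 (Lpe (f574636 IH) (Lpr_gf (f574638 IH) (Lpe (f567108 IH) (Lpn (LP (LK LD1_c10 LD2_c17 LD3_c32))))))
theorem f574645 : Led Lsl_ft (LP (LK LD1_c9 LD2_c7 LD3_c39)) = (LP (LK LD1_c11 LD2_c34 LD3_c33)) :=
  Lgr Lrot101 (Lpr_af (f574640 IH) (Lpr_ff (f567108 IH) (Lpe (K41.f567116 IH) (Lpn (LP (LK LD1_c11 LD2_c34 LD3_c33))))))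
theorem f34982 : Led Lsl_dt (LP (LK LD1_c9 LD2_c7 LD3_c39)) = (LP (LK LD1_c4 LD2_c35 LD3_c35)) :=
  Lre_d IH (LK LD1_c9 LD2_c7 LD3_c39) (LK LD1_c4 LD2_c35 LD3_c35) Lrfl Lrfl
theorem f420739 : Led Lsl_dt (LP (LK LD1_c5 LD2_c53 LD3_c53)) = (LP (LK LD1_c11 LD2_c33 LD3_c40)) :=
  Lre_d IH (LK LD1_c5 LD2_c53 LD3_c53) (LK LD1_c11 LD2_c33 LD3_c40) Lrfl Lrfl
theorem f420744 : Led Lsl_bf (LP (LK LD1_c9 LD2_c7 LD3_c39)) = (LP (LK LD1_c11 LD2_c33 LD3_c40)) :=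
  Lgr Lrot93 (Lpr_dt (f34982 IH) (Lpr_bt (K38.f420740 IH) (Lpr_dt (f420739 IH) (Lpn (LP (LK LD1_c11 LD2_c33 LD3_c40))))))
theorem f574647 : Led Lsl_ff (LP (LK LD1_c11 LD2_c33 LD3_c40)) = (LP (LK LD1_c5 LD2_c54 LD3_c21)) :=
  Lgr Lrot25 (Lpe (f420744 IH) (Lpr_ft (f574645 IH) (Lpr_bt (K41.f556952 IH) (Lpn (LP (LK LD1_c5 LD2_c54 LD3_c21))))))
theorem f574650 : Led Lsl_ft (LP (LK LD1_c11 LD2_c33 LD3_c40)) = (LP (LK LD1_c5 LD2_c54 LD3_c21)) :=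
  Lgr Lrot48 (Lpr_ff (f574647 IH) (Lpn (LP (LK LD1_c5 LD2_c54 LD3_c21))))
theorem f421687 : Led Lsl_dt (LP (LK LD1_c10 LD2_c18 LD3_c24)) = (LP (LK LD1_c5 LD2_c14 LD3_c24)) :=
  Lre_d IH (LK LD1_c10 LD2_c18 LD3_c24) (LK LD1_c5 LD2_c14 LD3_c24) Lrfl Lrfl
theorem f557835 : Led Lsl_af (LP (LK LD1_c10 LD2_c18 LD3_c24)) = (LP (LK LD1_c5 LD2_c54 LD3_c21)) :=
  Lgr Lrot117 (Lpr_dt (f421687 IH) (Lpr_at (K40.f557827 IH) (Lpr_dt (K39.f138621 IH) (Lpn (LP (LK LD1_c5 LD2_c54 LD3_c21))))))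
theorem f574656 : Led Lsl_gt (LP (LK LD1_c11 LD2_c33 LD3_c40)) = (LP (LK LD1_c8 LD2_c10 LD3_c34)) :=
  Lgr Lrot5 (Lpr_ft (f574650 IH) (Lpe (f557835 IH) (Lpe (K39.f557116 IH) (Lpn (LP (LK LD1_c8 LD2_c10 LD3_c34))))))
theorem f570198 : Led Lsl_et (LP (LK LD1_c4 LD2_c4 LD3_c53)) = (LP (LK LD1_c7 LD2_c14 LD3_c29)) :=
  Lgr Lrot158 (Lpr_cf (K39.f553790 IH) (Lpr_ef (K39.f421677 IH) (Lpr_cf (K42.f570191 IH) (Lpn (LP (LK LD1_c7 LD2_c14 LD3_c29))))))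
theorem f570228 : Led Lsl_gf (LP (LK LD1_c5 LD2_c38 LD3_c37)) = (LP (LK LD1_c7 LD2_c14 LD3_c29)) :=
  Lgr Lrot76 (Lpe (K41.f418999 IH) (Lpr_ff (K41.f564273 IH) (Lpr_gt (K42.f570224 IH) (Lpn (LP (LK LD1_c7 LD2_c14 LD3_c29))))))
theorem f201588 : Led Lsl_at (LP (LK LD1_c5 LD2_c13 LD3_c58)) = (LP (LK LD1_c2 LD2_c33 LD3_c54)) :=
  Lre_a IH (LK LD1_c5 LD2_c13 LD3_c58) (LK LD1_c2 LD2_c33 LD3_c54) Lrfl Lrfl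
theorem f53242 : Led Lsl_at (LP (LK LD1_c2 LD2_c30 LD3_c59)) = (LP (LK LD1_c5 LD2_c7 LD3_c15)) :=
  Lre_a IH (LK LD1_c2 LD2_c30 LD3_c59) (LK LD1_c5 LD2_c7 LD3_c15) Lrfl Lrfl
theorem f308557 : Led Lsl_ft (LP (LK LD1_c2 LD2_c33 LD3_c54)) = (LP (LK LD1_c2 LD2_c30 LD3_c59)) :=
  Lgr Lrot101 (Lpe (f201588 IH) (Lpr_ff (K36.f308543 IH) (Lpe (f53242 IH) (Lpn (LP (LK LD1_c2 LD2_c30 LD3_c59))))))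
theorem f542359 : Led Lsl_gt (LP (LK LD1_c4 LD2_c1 LD3_c21)) = (LP (LK LD1_c5 LD2_c7 LD3_c15)) :=
  Lgr Lrot46 (Lpr_gf (K37.f542357 IH) (Lpr_ft (f308557 IH) (Lpr_at (f53242 IH) (Lpn (LP (LK LD1_c5 LD2_c7 LD3_c15))))))
theorem f574664 : Led Lsl_et (LP (LK LD1_c5 LD2_c53 LD3_c53)) = (LP (LK LD1_c5 LD2_c7 LD3_c15)) :=
  Lgr Lrot122 (Lpr_dt (f420739 IH) (Lpr_gt (f574656 IH) (Lpe (K39.f56270 IH) (Lpr_et (f570198 IH) (Lpe (f570228 IH) (Lpr_dt (K41.f418997 IH) (Lpe (K41.f565563 IH) (Lpe (K41.f192679 IH) (Lpr_et (K41.f192684 IH) (Lpr_gt (f542359 IH) (Lpn (LP (LK LD1_c5 LD2_c7 LD3_c15)))))))))))))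
theorem f574668 : Led Lsl_ef (LP (LK LD1_c5 LD2_c53 LD3_c53)) = (LP (LK LD1_c5 LD2_c7 LD3_c15)) :=
  Lgr Lrot88 (Lpr_et (f574664 IH) (Lpn (LP (LK LD1_c5 LD2_c7 LD3_c15))))
theorem f308446 : Led Lsl_dt (LP (LK LD1_c5 LD2_c7 LD3_c15)) = (LP (LK LD1_c10 LD2_c5 LD3_c3)) :=
  Lre_d IH (LK LD1_c5 LD2_c7 LD3_c15) (LK LD1_c10 LD2_c5 LD3_c3) Lrfl Lrfl
theorem f574672 : Led Lsl_gt (LP (LK LD1_c3 LD2_c4 LD3_c11)) = (LP (LK LD1_c2 LD2_c59 LD3_c59)) :=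
  Lgr Lrot137 (Lpe (K36.f112722 IH) (Lpr_dt (K36.f112721 IH) (Lpr_gf (K6.f112706 IH) (Lpe (K7.f70924 IH) (Lpr_et (K39.f71087 IH) (Lpe (K37.f71822 IH) (Lpr_ef (f574668 IH) (Lpr_dt (f308446 IH) (Lpr_gf (K39.f544504 IH) (Lpe (K37.f176029 IH) (Lpn (LP (LK LD1_c2 LD2_c59 LD3_c59)))))))))))))
theorem f176027 : Led Lsl_ef (LP (LK LD1_c2 LD2_c59 LD3_c59)) = (LP (LK LD1_c3 LD2_c58 LD3_c52)) :=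
  Lgr Lrot88 (Lpr_et (K37.f176022 IH) (Lpn (LP (LK LD1_c3 LD2_c58 LD3_c52))))
theorem f574684 : Led Lsl_ef (LP (LK LD1_c2 LD2_c15 LD3_c14)) = (LP (LK LD1_c4 LD2_c32 LD3_c31)) :=
  Lgr Lrot167 (Lpr_gt (K11.f161342 IH) (Lpr_dt (K7.f70924 IH) (Lpe (K6.f112706 IH) (Lpe (K36.f112721 IH) (Lpr_et (K36.f112722 IH) (Lpr_gt (f574672 IH) (Lpr_ef (f176027 IH) (Lpe (K30.f193571 IH) (Lpr_gt (K30.f411803 IH) (Lpe (K30.f181322 IH) (Lpn (LP (LK LD1_c4 LD2_c32 LD3_c31)))))))))))))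
theorem f210436 : Led Lsl_et (LP (LK LD1_c4 LD2_c56 LD3_c35)) = (LP (LK LD1_c9 LD2_c44 LD3_c35)) :=
  Lre_e IH (LK LD1_c4 LD2_c56 LD3_c35) (LK LD1_c9 LD2_c44 LD3_c35) Lrfl Lrfl
theorem f574692 : Led Lsl_gf (LP (LK LD1_c5 LD2_c49 LD3_c12)) = (LP (LK LD1_c9 LD2_c44 LD3_c35)) :=
  Lgr Lrot138 (Lpr_dt (K40.f559118 IH) (Lpr_gt (K40.f193813 IH) (Lpe (K39.f202188 IH) (Lpr_et (K40.f202187 IH) (Lpr_gt (K8.f112400 IH) (Lpr_ef (f574684 IH) (Lpr_dt (K30.f181322 IH) (Lpe (K30.f411820 IH) (Lpr_df (K30.f210433 IH) (Lpr_et (f210436 IH) (Lpn (LP (LK LD1_c9 LD2_c44 LD3_c35)))))))))))))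
theorem f176688 : Led Lsl_ct (LP (LK LD1_c2 LD2_c50 LD3_c43)) = (LP (LK LD1_c5 LD2_c49 LD3_c12)) :=
  Lre_c IH (LK LD1_c2 LD2_c50 LD3_c43) (LK LD1_c5 LD2_c49 LD3_c12) Lrfl Lrfl
theorem f572590 : Led Lsl_bt (LP (LK LD1_c2 LD2_c58 LD3_c10)) = (LP (LK LD1_c5 LD2_c57 LD3_c4)) :=
  Lgr Lrot119 (Lpe (K10.f26655 IH) (Lpe (K42.f26716 IH) (Lpr_ef (K42.f572588 IH) (Lpn (LP (LK LD1_c5 LD2_c57 LD3_c4))))))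
theorem f385940 : Led Lsl_ct (LP (LK LD1_c4 LD2_c56 LD3_c42)) = (LP (LK LD1_c9 LD2_c44 LD3_c35)) :=
  Lre_c IH (LK LD1_c4 LD2_c56 LD3_c42) (LK LD1_c9 LD2_c44 LD3_c35) Lrfl Lrfl
theorem f549801 : Led Lsl_bt (LP (LK LD1_c4 LD2_c56 LD3_c42)) = (LP (LK LD1_c5 LD2_c46 LD3_c49)) :=
  Lgr Lrot127 (Lpr_bf (K38.f549787 IH) (Lpn (LP (LK LD1_c5 LD2_c46 LD3_c49))))
theorem f574702 : Led Lsl_gt (LP (LK LD1_c5 LD2_c57 LD3_c4)) = (LP (LK LD1_c5 LD2_c46 LD3_c49)) :=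
  Lgr Lrot164 (Lpe (f572590 IH) (Lpr_ct (K10.f26654 IH) (Lpe (K9.f22424 IH) (Lpe (K10.f9390 IH) (Lpe (K10.f185962 IH) (Lpe (K40.f176620 IH) (Lpr_ct (f176688 IH) (Lpr_gf (f574692 IH) (Lpe (f385940 IH) (Lpr_bt (f549801 IH) (Lpn (LP (LK LD1_c5 LD2_c46 LD3_c49)))))))))))))
theorem f569395 : Led Lsl_ct (LP (LK LD1_c11 LD2_c39 LD3_c31)) = (LP (LK LD1_c5 LD2_c57 LD3_c4)) :=
  Lre_c IH (LK LD1_c11 LD2_c39 LD3_c31) (LK LD1_c5 LD2_c57 LD3_c4) Lrfl Lrfl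
theorem f553254 : Led Lsl_dt (LP (LK LD1_c16 LD2_c19 LD3_c28)) = (LP (LK LD1_c8 LD2_c42 LD3_c55)) :=
  Lre_d IH (LK LD1_c16 LD2_c19 LD3_c28) (LK LD1_c8 LD2_c42 LD3_c55) Lrfl Lrfl
theorem f553480 : Led Lsl_ct (LP (LK LD1_c8 LD2_c42 LD3_c55)) = (LP (LK LD1_c5 LD2_c46 LD3_c49)) :=
  Lgr Lrot7 (Lpe (f553254 IH) (Lpr_gf (K39.f553476 IH) (Lpe (K39.f82068 IH) (Lpe (K39.f82067 IH) (Lpe (K37.f82071 IH) (Lpr_gt (K37.f500527 IH) (Lpqs (K37.f542326 IH) (Lpr_dt (K38.f99690 IH) (Lpr_gt (K38.f9424 IH) (Lpe (K38.f99679 IH) (Lpn (LP (LK LD1_c5 LD2_c46 LD3_c49)))))))))))))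
theorem f287449 : Led Lsl_at (LP (LK LD1_c4 LD2_c2 LD3_c15)) = (LP (LK LD1_c4 LD2_c1 LD3_c32)) :=
  Lgr Lrot107 (Lpr_cf (K10.f193395 IH) (Lpr_af (K17.f287445 IH) (Lpe (K18.f211615 IH) (Lpn (LP (LK LD1_c4 LD2_c1 LD3_c32))))))
theorem f570933 : Led Lsl_bt (LP (LK LD1_c7 LD2_c8 LD3_c22)) = (LP (LK LD1_c10 LD2_c2 LD3_c52)) :=
  Lgr Lrot62 (Lpr_af (K42.f570929 IH) (Lpe (K42.f211626 IH) (Lpe (f287449 IH) (Lpe (K38.f193829 IH) (Lpr_af (K41.f547587 IH) (Lpn (LP (LK LD1_c10 LD2_c2 LD3_c52))))))))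
theorem f572553 : Led Lsl_bt (LP (LK LD1_c8 LD2_c42 LD3_c55)) = (LP (LK LD1_c13 LD2_c28 LD3_c10)) :=
  Lgr Lrot35 (Lpr_ff (K41.f563577 IH) (Lpe (f570933 IH) (Lpr_ff (K42.f572551 IH) (Lpn (LP (LK LD1_c13 LD2_c28 LD3_c10))))))
theorem f571184 : Led Lsl_ct (LP (LK LD1_c7 LD2_c8 LD3_c17)) = (LP (LK LD1_c10 LD2_c16 LD3_c8)) :=
  Lgr Lrot59 (Lpr_cf (K42.f571180 IH) (Lpn (LP (LK LD1_c10 LD2_c16 LD3_c8))))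
theorem f574719 : Led Lsl_bt (LP (LK LD1_c11 LD2_c39 LD3_c31)) = (LP (LK LD1_c6 LD2_c4 LD3_c9)) :=
  Lgr Lrot92 (Lpr_ct (f569395 IH) (Lpr_gt (f574702 IH) (Lpe (f553480 IH) (Lpr_bt (f572553 IH) (Lpe (K42.f568844 IH) (Lpe (K34.f97423 IH) (Lpr_gt (K42.f571178 IH) (Lpe (f571184 IH) (Lpr_bt (f571182 IH) (Lpe (K13.f241077 IH) (Lpn (LP (LK LD1_c6 LD2_c4 LD3_c9)))))))))))))
theorem f385331 : Led Lsl_ff (LP (LK LD1_c2 LD2_c52 LD3_c58)) = (LP (LK LD1_c3 LD2_c0 LD3_c4)) :=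
  Lgr Lrot3 (Lpr_ft (K30.f385325 IH) (Lpn (LP (LK LD1_c3 LD2_c0 LD3_c4))))
theorem f385333 : Led Lsl_at (LP (LK LD1_c2 LD2_c52 LD3_c58)) = (LP (LK LD1_c2 LD2_c26 LD3_c12)) :=
  Lgr Lrot66 (Lpr_ff (f385331 IH) (Lpe (K30.f385302 IH) (Lpr_ff (K30.f385285 IH) (Lpn (LP (LK LD1_c2 LD2_c26 LD3_c12))))))
theorem f385335 : Led Lsl_af (LP (LK LD1_c1 LD2_c56 LD3_c10)) = (LP (LK LD1_c1 LD2_c10 LD3_c19)) :=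
  Lgr Lrot117 (Lpr_dt (K10.f178995 IH) (Lpr_at (f385333 IH) (Lpr_dt (K10.f172580 IH) (Lpn (LP (LK LD1_c1 LD2_c10 LD3_c19))))))
theorem f549799 : Led Lsl_at (LP (LK LD1_c3 LD2_c58 LD3_c51)) = (LP (LK LD1_c5 LD2_c46 LD3_c49)) :=
  Lgr Lrot67 (Lpe (K40.f56046 IH) (Lpr_af (f385335 IH) (Lpe (K41.f179911 IH) (Lpe (K42.f385339 IH) (Lpr_bf (K38.f549787 IH) (Lpn (LP (LK LD1_c5 LD2_c46 LD3_c49))))))))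
theorem f574705 : Led Lsl_gf (LP (LK LD1_c5 LD2_c57 LD3_c4)) = (LP (LK LD1_c3 LD2_c0 LD3_c2)) :=
  Lgr Lrot47 (Lpr_gt (f574702 IH) (Lpe (f549799 IH) (Lpr_ff (K30.f385362 IH) (Lpn (LP (LK LD1_c3 LD2_c0 LD3_c2))))))
theorem f574733 : Led Lsl_bf (LP (LK LD1_c3 LD2_c4 LD3_c34)) = (LP (LK LD1_c4 LD2_c24 LD3_c9)) :=
  Lgr Lrot156 (Lpr_gt (K12.f211669 IH) (Lpe (K38.f193829 IH) (Lpr_ct (K30.f193399 IH) (Lpe (f574705 IH) (Lpe (f569395 IH) (Lpr_bt (f574719 IH) (Lpe (K13.f198349 IH) (Lpr_ct (K13.f193969 IH) (Lpe (K13.f227496 IH) (Lpe (K13.f204818 IH) (Lpn (LP (LK LD1_c4 LD2_c24 LD3_c9)))))))))))))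
theorem f297218 : Led Lsl_ff (LP (LK LD1_c4 LD2_c1 LD3_c32)) = (LP (LK LD1_c3 LD2_c57 LD3_c19)) :=
  Lgr Lrot19 (Lpr_dt (K31.f211604 IH) (Lpr_ft (K18.f297214 IH) (Lpr_dt (K18.f28543 IH) (Lpn (LP (LK LD1_c3 LD2_c57 LD3_c19))))))
theorem f572537 : Led Lsl_bt (LP (LK LD1_c7 LD2_c8 LD3_c25)) = (LP (LK LD1_c3 LD2_c57 LD3_c19)) :=
  Lgr Lrot35 (Lpr_ff (K42.f572535 IH) (Lpe (K42.f211626 IH) (Lpr_ff (f297218 IH) (Lpn (LP (LK LD1_c3 LD2_c57 LD3_c19))))))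
theorem f98322 : Led Lsl_ct (LP (LK LD1_c7 LD2_c8 LD3_c25)) = (LP (LK LD1_c3 LD2_c33 LD3_c46)) :=
  Lre_c IH (LK LD1_c7 LD2_c8 LD3_c25) (LK LD1_c3 LD2_c33 LD3_c46) Lrfl Lrfl
theorem f574737 : Led Lsl_bf (LP (LK LD1_c7 LD2_c8 LD3_c17)) = (LP (LK LD1_c5 LD2_c12 LD3_c57)) :=
  Lgr Lrot165 (Lpe (K42.f98313 IH) (Lpr_ct (K36.f98311 IH) (Lpr_gt (K41.f98187 IH) (Lpe (f98322 IH) (Lpr_bt (f572537 IH) (Lpr_gt (K11.f211100 IH) (Lpr_bf (f574733 IH) (Lpr_ct (K13.f204818 IH) (Lpe (K13.f241250 IH) (Lpr_cf (K13.f241075 IH) (Lpn (LP (LK LD1_c5 LD2_c12 LD3_c57)))))))))))))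
theorem f101384 : Led Lsl_bt (LP (LK LD1_c12 LD2_c5 LD3_c11)) = (LP (LK LD1_c6 LD2_c13 LD3_c8)) :=
  Lre_b IH (LK LD1_c12 LD2_c5 LD3_c11) (LK LD1_c6 LD2_c13 LD3_c8) Lrfl Lrfl
theorem f574741 : Led Lsl_dt (LP (LK LD1_c7 LD2_c8 LD3_c17)) = (LP (LK LD1_c12 LD2_c5 LD3_c11)) :=
  Lgr Lrot79 (Lpr_bf (f574737 IH) (Lpe (K13.f241042 IH) (Lpe (f101384 IH) (Lpn (LP (LK LD1_c12 LD2_c5 LD3_c11))))))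
theorem f571238 : Led Lsl_gf (LP (LK LD1_c16 LD2_c25 LD3_c19)) = (LP (LK LD1_c22 LD2_c47 LD3_c41)) :=
  Lgr Lrot143 (Lpr_dt (f137693 IH) (Lpe (K35.f137878 IH) (Lpe (K39.f70492 IH) (Lpe (K42.f70521 IH) (Lpr_df (K42.f571232 IH) (Lpe (K41.f97438 IH) (Lpe (K42.f97173 IH) (Lpe (K42.f571226 IH) (Lpr_dt (K42.f98433 IH) (Lpn (LP (LK LD1_c22 LD2_c47 LD3_c41))))))))))))
theorem f438136 : Led Lsl_ct (LP (LK LD1_c16 LD2_c25 LD3_c19)) = (LP (LK LD1_c26 LD2_c22 LD3_c52)) :=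
  Lre_c IH (LK LD1_c16 LD2_c25 LD3_c19) (LK LD1_c26 LD2_c22 LD3_c52) Lrfl Lrfl
theorem f101385 : Led Lsl_ct (LP (LK LD1_c21 LD2_c10 LD3_c38)) = (LP (LK LD1_c12 LD2_c5 LD3_c11)) :=
  Lre_c IH (LK LD1_c21 LD2_c10 LD3_c38) (LK LD1_c12 LD2_c5 LD3_c11) Lrfl Lrfl
theorem f574752 : Led Lsl_gt (LP (LK LD1_c26 LD2_c22 LD3_c52)) = (LP (LK LD1_c21 LD2_c10 LD3_c38)) :=
  Lgr Lrot187 (Lpe (f438136 IH) (Lpr_gf (f571238 IH) (Lpr_dt (K42.f98432 IH) (Lpe (K42.f568844 IH) (Lpe (K34.f97423 IH) (Lpr_gt (K42.f571178 IH) (Lpe (K42.f571180 IH) (Lpr_dt (f574741 IH) (Lpe (f101385 IH) (Lpn (LP (LK LD1_c21 LD2_c10 LD3_c38))))))))))))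
theorem f101386 : Led Lsl_ct (LP (LK LD1_c12 LD2_c5 LD3_c11)) = (LP (LK LD1_c21 LD2_c10 LD3_c38)) :=
  Lre_c IH (LK LD1_c12 LD2_c5 LD3_c11) (LK LD1_c21 LD2_c10 LD3_c38) Lrfl Lrfl
theorem f99770 : Led Lsl_ct (LP (LK LD1_c8 LD2_c44 LD3_c51)) = (LP (LK LD1_c16 LD2_c22 LD3_c23)) :=
  Lre_c IH (LK LD1_c8 LD2_c44 LD3_c51) (LK LD1_c16 LD2_c22 LD3_c23) Lrfl Lrfl
theorem f406992 : Led Lsl_at (LP (LK LD1_c16 LD2_c19 LD3_c40)) = (LP (LK LD1_c26 LD2_c17 LD3_c21)) :=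
  Lre_a IH (LK LD1_c16 LD2_c19 LD3_c40) (LK LD1_c26 LD2_c17 LD3_c21) Lrfl Lrfl
theorem f559938 : Led Lsl_gf (LP (LK LD1_c26 LD2_c17 LD3_c21)) = (LP (LK LD1_c16 LD2_c22 LD3_c23)) :=
  Lgr Lrot76 (Lpe (f406992 IH) (Lpr_ff (K40.f406988 IH) (Lpr_gt (K42.f559868 IH) (Lpn (LP (LK LD1_c16 LD2_c22 LD3_c23))))))
theorem f574754 : Led Lsl_bf (LP (LK LD1_c22 LD2_c47 LD3_c41)) = (LP (LK LD1_c16 LD2_c19 LD3_c28)) :=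
  Lgr Lrot165 (Lpe (f571238 IH) (Lpr_ct (f438136 IH) (Lpr_gt (f574752 IH) (Lpe (f101386 IH) (Lpr_bt (f101384 IH) (Lpr_gt (K13.f101380 IH) (Lpe (K38.f101036 IH) (Lpr_ct (f99770 IH) (Lpe (f559938 IH) (Lpe (K42.f406995 IH) (Lpn (LP (LK LD1_c16 LD2_c19 LD3_c28)))))))))))))
theorem f574760 : Led Lsl_bt (LP (LK LD1_c13 LD2_c28 LD3_c10)) = (LP (LK LD1_c8 LD2_c42 LD3_c55)) :=
  Lgr Lrot95 (Lpe (K42.f98432 IH) (Lpr_bf (f574754 IH) (Lpe (K39.f385381 IH) (Lpn (LP (LK LD1_c8 LD2_c42 LD3_c55))))))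
theorem f574784 : Led Lsl_bf (LP (LK LD1_c7 LD2_c6 LD3_c31)) = (LP (LK LD1_c9 LD2_c44 LD3_c35)) :=
  Lgr Lrot90 (Lpr_ct (K42.f6530 IH) (Lpr_bt (f574760 IH) (Lpr_ct (f553480 IH) (Lpe (K38.f549787 IH) (Lpr_ct (f385940 IH) (Lpn (LP (LK LD1_c9 LD2_c44 LD3_c35))))))))
theorem f6151 : Led Lsl_bt (LP (LK LD1_c3 LD2_c37 LD3_c7)) = (LP (LK LD1_c3 LD2_c33 LD3_c48)) :=
  Lgr Lrot127 (Lpr_bf (K29.f6139 IH) (Lpn (LP (LK LD1_c3 LD2_c33 LD3_c48))))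
theorem f385277 : Led Lsl_ct (LP (LK LD1_c9 LD2_c44 LD3_c35)) = (LP (LK LD1_c4 LD2_c56 LD3_c42)) :=
  Lre_c IH (LK LD1_c9 LD2_c44 LD3_c35) (LK LD1_c4 LD2_c56 LD3_c42) Lrfl Lrfl
theorem f193812 : Led Lsl_dt (LP (LK LD1_c4 LD2_c36 LD3_c12)) = (LP (LK LD1_c2 LD2_c15 LD3_c17)) :=
  Lre_d IH (LK LD1_c4 LD2_c36 LD3_c12) (LK LD1_c2 LD2_c15 LD3_c17) Lrfl Lrfl
theorem f198302 : Led Lsl_dt (LP (LK LD1_c2 LD2_c15 LD3_c22)) = (LP (LK LD1_c1 LD2_c4 LD3_c45)) :=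
  Lre_d IH (LK LD1_c2 LD2_c15 LD3_c22) (LK LD1_c1 LD2_c4 LD3_c45) Lrfl Lrfl
theorem f198303 : Led Lsl_gt (LP (LK LD1_c4 LD2_c36 LD3_c26)) = (LP (LK LD1_c2 LD2_c15 LD3_c22)) :=
  Lre_g IH (LK LD1_c4 LD2_c36 LD3_c26) (LK LD1_c2 LD2_c15 LD3_c22) Lrfl Lrfl
theorem f574696 : Led Lsl_gf (LP (LK LD1_c6 LD2_c16 LD3_c14)) = (LP (LK LD1_c4 LD2_c56 LD3_c42)) :=
  Lgr Lrot144 (Lpe (K37.f202288 IH) (Lpr_gt (f198303 IH) (Lpr_dt (f198302 IH) (Lpe (K41.f138514 IH) (Lpe (f193812 IH) (Lpe (K40.f193813 IH) (Lpe (K40.f559118 IH) (Lpr_gf (f574692 IH) (Lpe (f385940 IH) (Lpn (LP (LK LD1_c4 LD2_c56 LD3_c42))))))))))))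
theorem f97183 : Led Lsl_bt (LP (LK LD1_c7 LD2_c39 LD3_c14)) = (LP (LK LD1_c3 LD2_c49 LD3_c9)) :=
  Lre_b IH (LK LD1_c7 LD2_c39 LD3_c14) (LK LD1_c3 LD2_c49 LD3_c9) Lrfl Lrfl
theorem f574788 : Led Lsl_gf (LP (LK LD1_c7 LD2_c8 LD3_c22)) = (LP (LK LD1_c3 LD2_c49 LD3_c9)) :=
  Lgr Lrot181 (Lpr_ct (K42.f98330 IH) (Lpr_gt (K42.f98190 IH) (Lpe (K36.f98311 IH) (Lpr_bt (f6151 IH) (Lpr_gt (K41.f6525 IH) (Lpr_bf (f574784 IH) (Lpr_ct (f385277 IH) (Lpe (f574696 IH) (Lpr_cf (K37.f546811 IH) (Lpr_bt (f97183 IH) (Lpn (LP (LK LD1_c3 LD2_c49 LD3_c9)))))))))))))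
theorem f574800 : Led Lsl_gt (LP (LK LD1_c15 LD2_c10 LD3_c23)) = (LP (LK LD1_c13 LD2_c29 LD3_c22)) :=
  Lgr Lrot112 (Lpe (K42.f386136 IH) (Lpe (K42.f570944 IH) (Lpr_gf (f574788 IH) (Lpe (K42.f11558 IH) (Lpr_dt (K3.f11557 IH) (Lpr_gf (K2.f11529 IH) (Lpe (K3.f11536 IH) (Lpe (K3.f11537 IH) (Lpe (K42.f11564 IH) (Lpr_dt (K42.f11565 IH) (Lpn (LP (LK LD1_c13 LD2_c29 LD3_c22)))))))))))))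
theorem f193868 : Led Lsl_bf (LP (LK LD1_c6 LD2_c7 LD3_c41)) = (LP (LK LD1_c4 LD2_c2 LD3_c14)) :=
  Lgr Lrot24 (Lpr_bt (K38.f193855 IH) (Lpn (LP (LK LD1_c4 LD2_c2 LD3_c14))))
theorem f547603 : Led Lsl_bf (LP (LK LD1_c15 LD2_c10 LD3_c23)) = (LP (LK LD1_c10 LD2_c2 LD3_c51)) :=
  Lgr Lrot81 (Lpr_at (K42.f386153 IH) (Lpr_bt (K41.f240036 IH) (Lpr_at (K17.f287315 IH) (Lpe (f193868 IH) (Lpr_at (K38.f547599 IH) (Lpn (LP (LK LD1_c10 LD2_c2 LD3_c51))))))))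
theorem f97164 : Led Lsl_ct (LP (LK LD1_c13 LD2_c29 LD3_c22)) = (LP (LK LD1_c22 LD2_c49 LD3_c51)) :=
  Lre_c IH (LK LD1_c13 LD2_c29 LD3_c22) (LK LD1_c22 LD2_c49 LD3_c51) Lrfl Lrfl
theorem f240852 : Led Lsl_ct (LP (LK LD1_c18 LD2_c18 LD3_c59)) = (LP (LK LD1_c10 LD2_c1 LD3_c25)) :=
  Lre_c IH (LK LD1_c18 LD2_c18 LD3_c59) (LK LD1_c10 LD2_c1 LD3_c25) Lrfl Lrfl
theorem f574814 : Led Lsl_gf (LP (LK LD1_c18 LD2_c18 LD3_c59)) = (LP (LK LD1_c22 LD2_c49 LD3_c51)) :=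
  Lgr Lrot104 (Lpr_ct (f240852 IH) (Lpe (K41.f240838 IH) (Lpe (K41.f240846 IH) (Lpr_gf (K42.f570526 IH) (Lpr_cf (f133029 IH) (Lpe (f574088 IH) (Lpe (K42.f386138 IH) (Lpr_gt (f574800 IH) (Lpr_ct (f97164 IH) (Lpn (LP (LK LD1_c22 LD2_c49 LD3_c51))))))))))))
theorem f242026 : Led Lsl_bt (LP (LK LD1_c10 LD2_c1 LD3_c25)) = (LP (LK LD1_c5 LD2_c5 LD3_c10)) :=
  Lre_b IH (LK LD1_c10 LD2_c1 LD3_c25) (LK LD1_c5 LD2_c5 LD3_c10) Lrfl Lrfl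
theorem f308173 : Led Lsl_bt (LP (LK LD1_c5 LD2_c13 LD3_c40)) = (LP (LK LD1_c2 LD2_c33 LD3_c44)) :=
  Lre_b IH (LK LD1_c5 LD2_c13 LD3_c40) (LK LD1_c2 LD2_c33 LD3_c44) Lrfl Lrfl
theorem f574816 : Led Lsl_gf (LP (LK LD1_c18 LD2_c21 LD3_c7)) = (LP (LK LD1_c10 LD2_c17 LD3_c30)) :=
  Lgr Lrot126 (Lpe (K39.f547605 IH) (Lpe (f547603 IH) (Lpr_gt (f574800 IH) (Lpr_ct (f97164 IH) (Lpe (f574814 IH) (Lpe (K42.f240850 IH) (Lpr_bt (f242026 IH) (Lpe (K24.f240762 IH) (Lpe (f308173 IH) (Lpr_ct (K36.f308176 IH) (Lpn (LP (LK LD1_c10 LD2_c17 LD3_c30)))))))))))))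
theorem f547616 : Led Lsl_df (LP (LK LD1_c25 LD2_c18 LD3_c9)) = (LP (LK LD1_c18 LD2_c21 LD3_c7)) :=
  Lgr Lrot38 (Lpr_dt (K38.f547611 IH) (Lpn (LP (LK LD1_c18 LD2_c21 LD3_c7))))
theorem f572917 : Led Lsl_dt (LP (LK LD1_c10 LD2_c1 LD3_c28)) = (LP (LK LD1_c5 LD2_c5 LD3_c11)) :=
  Lre_d IH (LK LD1_c10 LD2_c1 LD3_c28) (LK LD1_c5 LD2_c5 LD3_c11) Lrfl Lrfl
theorem f59212 : Led Lsl_ct (LP (LK LD1_c17 LD2_c12 LD3_c51)) = (LP (LK LD1_c9 LD2_c17 LD3_c46)) :=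
  Lre_c IH (LK LD1_c17 LD2_c12 LD3_c51) (LK LD1_c9 LD2_c17 LD3_c46) Lrfl Lrfl
theorem f546483 : Led Lsl_df (LP (LK LD1_c17 LD2_c12 LD3_c51)) = (LP (LK LD1_c18 LD2_c21 LD3_c16)) :=
  Lgr Lrot38 (Lpr_dt (K38.f546477 IH) (Lpn (LP (LK LD1_c18 LD2_c21 LD3_c16))))
theorem f574839 : Led Lsl_gt (LP (LK LD1_c25 LD2_c18 LD3_c9)) = (LP (LK LD1_c18 LD2_c21 LD3_c16)) :=
  Lgr Lrot49 (Lpr_df (f547616 IH) (Lpr_gf (f574816 IH) (Lpe (K36.f308176 IH) (Lpe (K42.f572946 IH) (Lpr_dt (f572917 IH) (Lpr_gt (K42.f572915 IH) (Lpr_dt (K8.f59205 IH) (Lpe (f59212 IH) (Lpr_df (f546483 IH) (Lpn (LP (LK LD1_c18 LD2_c21 LD3_c16))))))))))))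
theorem f385919 : Led Lsl_ft (LP (LK LD1_c25 LD2_c18 LD3_c9)) = (LP (LK LD1_c21 LD2_c2 LD3_c57)) :=
  Lgr Lrot48 (Lpr_ff (K39.f385915 IH) (Lpn (LP (LK LD1_c21 LD2_c2 LD3_c57))))
theorem f574841 : Led Lsl_gf (LP (LK LD1_c24 LD2_c59 LD3_c34)) = (LP (LK LD1_c18 LD2_c21 LD3_c16)) :=
  Lgr Lrot76 (Lpr_af (K38.f408529 IH) (Lpe (f385919 IH) (Lpr_gt (f574839 IH) (Lpn (LP (LK LD1_c18 LD2_c21 LD3_c16))))))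
theorem f166334 : Led Lsl_ct (LP (LK LD1_c10 LD2_c2 LD3_c56)) = (LP (LK LD1_c18 LD2_c21 LD3_c16)) :=
  Lre_c IH (LK LD1_c10 LD2_c2 LD3_c56) (LK LD1_c18 LD2_c21 LD3_c16) Lrfl Lrfl
theorem f166203 : Led Lsl_gt (LP (LK LD1_c18 LD2_c21 LD3_c15)) = (LP (LK LD1_c10 LD2_c2 LD3_c56)) :=
  Lre_g IH (LK LD1_c18 LD2_c21 LD3_c15) (LK LD1_c10 LD2_c2 LD3_c56) Lrfl Lrfl
theorem f574858 : Led Lsl_df (LP (LK LD1_c10 LD2_c17 LD3_c41)) = (LP (LK LD1_c18 LD2_c21 LD3_c15)) :=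
  Lgr Lrot155 (Lpr_gt (K42.f198582 IH) (Lpr_ct (K36.f186561 IH) (Lpe (K42.f572620 IH) (Lpr_ct (K38.f3133 IH) (Lpr_dt (K38.f547613 IH) (Lpe (K38.f547634 IH) (Lpr_gf (f574841 IH) (Lpe (f166334 IH) (Lpe (f166203 IH) (Lpn (LP (LK LD1_c18 LD2_c21 LD3_c15))))))))))))
theorem f574837 : Led Lsl_gt (LP (LK LD1_c18 LD2_c21 LD3_c7)) = (LP (LK LD1_c16 LD2_c29 LD3_c37)) :=
  Lgr Lrot46 (Lpr_gf (f574816 IH) (Lpr_ft (K36.f308177 IH) (Lpr_at (K36.f427850 IH) (Lpn (LP (LK LD1_c16 LD2_c29 LD3_c37))))))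
theorem f161053 : Led Lsl_ct (LP (LK LD1_c9 LD2_c17 LD3_c47)) = (LP (LK LD1_c4 LD2_c41 LD3_c23)) :=
  Lre_c IH (LK LD1_c9 LD2_c17 LD3_c47) (LK LD1_c4 LD2_c41 LD3_c23) Lrfl Lrfl
theorem f161064 : Led Lsl_dt (LP (LK LD1_c17 LD2_c12 LD3_c52)) = (LP (LK LD1_c9 LD2_c17 LD3_c47)) :=
  Lre_d IH (LK LD1_c17 LD2_c12 LD3_c52) (LK LD1_c9 LD2_c17 LD3_c47) Lrfl Lrfl
theorem f546481 : Led Lsl_cf (LP (LK LD1_c17 LD2_c12 LD3_c52)) = (LP (LK LD1_c18 LD2_c19 LD3_c8)) :=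
  Lgr Lrot55 (Lpr_dt (f161064 IH) (Lpr_ct (f161053 IH) (Lpr_dt (K38.f59229 IH) (Lpr_ct (K38.f59226 IH) (Lpr_dt (K8.f59205 IH) (Lpr_ct (K38.f59217 IH) (Lpr_dt (K38.f546477 IH) (Lpr_ct (K38.f166328 IH) (Lpr_dt (K38.f166202 IH) (Lpr_ct (K38.f166201 IH) (Lpr_dt (K18.f164831 IH) (Lpr_ct (K38.f164879 IH) (Lpr_dt (K39.f164859 IH) (Lpr_ct (K39.f201356 IH) (Lpr_dt (K39.f302388 IH) (Lpn (LP (LK LD1_c18 LD2_c19 LD3_c8))))))))))))))))))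
theorem f574860 : Led Lsl_gt (LP (LK LD1_c17 LD2_c12 LD3_c52)) = (LP (LK LD1_c18 LD2_c21 LD3_c15)) :=
  Lgr Lrot94 (Lpr_cf (f546481 IH) (Lpe (K39.f551827 IH) (Lpr_dt (K38.f547611 IH) (Lpr_gt (f574837 IH) (Lpe (K36.f427837 IH) (Lpe (K42.f308147 IH) (Lpe (K38.f308146 IH) (Lpe (K42.f198582 IH) (Lpr_df (f574858 IH) (Lpn (LP (LK LD1_c18 LD2_c21 LD3_c15))))))))))))
theorem f308196 : Led Lsl_ct (LP (LK LD1_c10 LD2_c17 LD3_c30)) = (LP (LK LD1_c5 LD2_c13 LD3_c40)) :=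
  Lre_c IH (LK LD1_c10 LD2_c17 LD3_c30) (LK LD1_c5 LD2_c13 LD3_c40) Lrfl Lrfl
theorem f201316 : Led Lsl_ct (LP (LK LD1_c10 LD2_c1 LD3_c28)) = (LP (LK LD1_c18 LD2_c19 LD3_c3)) :=
  Lre_c IH (LK LD1_c10 LD2_c1 LD3_c28) (LK LD1_c18 LD2_c19 LD3_c3) Lrfl Lrfl
theorem f572952 : Led Lsl_dt (LP (LK LD1_c18 LD2_c19 LD3_c3)) = (LP (LK LD1_c27 LD2_c57 LD3_c50)) :=
  Lre_d IH (LK LD1_c18 LD2_c19 LD3_c3) (LK LD1_c27 LD2_c57 LD3_c50) Lrfl Lrfl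
theorem f574862 : Led Lsl_cf (LP (LK LD1_c27 LD2_c57 LD3_c50)) = (LP (LK LD1_c18 LD2_c21 LD3_c15)) :=
  Lgr Lrot99 (Lpe (f572952 IH) (Lpe (f201316 IH) (Lpr_gf (K42.f572946 IH) (Lpe (f308196 IH) (Lpr_gf (K42.f551889 IH) (Lpe (K38.f197347 IH) (Lpr_gt (K39.f551829 IH) (Lpe (f546481 IH) (Lpr_gt (f574860 IH) (Lpn (LP (LK LD1_c18 LD2_c21 LD3_c15))))))))))))
theorem f572953 : Led Lsl_dt (LP (LK LD1_c27 LD2_c57 LD3_c50)) = (LP (LK LD1_c18 LD2_c19 LD3_c3)) :=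
  Lre_d IH (LK LD1_c27 LD2_c57 LD3_c50) (LK LD1_c18 LD2_c19 LD3_c3) Lrfl Lrfl
theorem f572954 : Led Lsl_ct (LP (LK LD1_c18 LD2_c19 LD3_c3)) = (LP (LK LD1_c10 LD2_c1 LD3_c28)) :=
  Lre_c IH (LK LD1_c18 LD2_c19 LD3_c3) (LK LD1_c10 LD2_c1 LD3_c28) Lrfl Lrfl
theorem f574866 : Led Lsl_at (LP (LK LD1_c8 LD2_c12 LD3_c26)) = (LP (LK LD1_c4 LD2_c5 LD3_c54)) :=
  Lre_a IH (LK LD1_c8 LD2_c12 LD3_c26) (LK LD1_c4 LD2_c5 LD3_c54) Lrfl Lrfl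
theorem f574856 : Led Lsl_dt (LP (LK LD1_c10 LD2_c17 LD3_c41)) = (LP (LK LD1_c18 LD2_c21 LD3_c15)) :=
  Lgr Lrot6 (Lpr_gt (K42.f198582 IH) (Lpr_ct (K36.f186561 IH) (Lpe (K42.f572620 IH) (Lpr_ct (K38.f3133 IH) (Lpe (K38.f546502 IH) (Lpe (K38.f547634 IH) (Lpr_gf (f574841 IH) (Lpe (f166334 IH) (Lpe (f166203 IH) (Lpn (LP (LK LD1_c18 LD2_c21 LD3_c15))))))))))))
theorem f574867 : Led Lsl_ff (LP (LK LD1_c8 LD2_c12 LD3_c26)) = (LP (LK LD1_c8 LD2_c14 LD3_c48)) :=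
  Lgr Lrot103 (Lpr_at (f574866 IH) (Lpr_cf (K42.f572888 IH) (Lpe (f572917 IH) (Lpe (f572954 IH) (Lpe (f572953 IH) (Lpr_cf (f574862 IH) (Lpe (f574856 IH) (Lpr_cf (K42.f417528 IH) (Lpr_df (K42.f541695 IH) (Lpn (LP (LK LD1_c8 LD2_c14 LD3_c48))))))))))))
theorem f574869 : Led Lsl_ft (LP (LK LD1_c8 LD2_c12 LD3_c26)) = (LP (LK LD1_c8 LD2_c14 LD3_c48)) :=
  Lgr Lrot48 (Lpr_ff (f574867 IH) (Lpn (LP (LK LD1_c8 LD2_c14 LD3_c48))))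
theorem f574871 : Led Lsl_at (LP (LK LD1_c4 LD2_c5 LD3_c54)) = (LP (LK LD1_c8 LD2_c12 LD3_c26)) :=
  Lre_a IH (LK LD1_c4 LD2_c5 LD3_c54) (LK LD1_c8 LD2_c12 LD3_c26) Lrfl Lrfl
theorem f574872 : Led Lsl_ft (LP (LK LD1_c8 LD2_c12 LD3_c16)) = (LP (LK LD1_c4 LD2_c5 LD3_c54)) :=
  Lre_f IH (LK LD1_c8 LD2_c12 LD3_c16) (LK LD1_c4 LD2_c5 LD3_c54) Lrfl Lrfl
theorem f574873 : Led Lsl_af (LP (LK LD1_c8 LD2_c12 LD3_c16)) = (LP (LK LD1_c8 LD2_c14 LD3_c48)) :=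
  Lgr Lrot45 (Lpr_ft (f574872 IH) (Lpr_at (f574871 IH) (Lpr_ft (f574869 IH) (Lpn (LP (LK LD1_c8 LD2_c14 LD3_c48))))))
theorem f574879 : Led Lsl_dt (LP (LK LD1_c8 LD2_c12 LD3_c16)) = (LP (LK LD1_c15 LD2_c26 LD3_c18)) :=
  Lre_d IH (LK LD1_c8 LD2_c12 LD3_c16) (LK LD1_c15 LD2_c26 LD3_c18) Lrfl Lrfl
theorem f417530 : Led Lsl_bt (LP (LK LD1_c5 LD2_c7 LD3_c3)) = (LP (LK LD1_c10 LD2_c4 LD3_c44)) :=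
  Lre_b IH (LK LD1_c5 LD2_c7 LD3_c3) (LK LD1_c10 LD2_c4 LD3_c44) Lrfl Lrfl
theorem f427547 : Led Lsl_bt (LP (LK LD1_c8 LD2_c14 LD3_c48)) = (LP (LK LD1_c4 LD2_c7 LD3_c9)) :=
  Lre_b IH (LK LD1_c8 LD2_c14 LD3_c48) (LK LD1_c4 LD2_c7 LD3_c9) Lrfl Lrfl
theorem f541680 : Led Lsl_dt (LP (LK LD1_c10 LD2_c4 LD3_c44)) = (LP (LK LD1_c8 LD2_c14 LD3_c48)) :=
  Lgr Lrot79 (Lpe (f417530 IH) (Lpr_df (K39.f541678 IH) (Lpe (f427547 IH) (Lpn (LP (LK LD1_c8 LD2_c14 LD3_c48))))))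
theorem f574880 : Led Lsl_at (LP (LK LD1_c15 LD2_c26 LD3_c18)) = (LP (LK LD1_c10 LD2_c4 LD3_c44)) :=
  Lgr Lrot51 (Lpe (f574879 IH) (Lpr_af (f574873 IH) (Lpe (f541680 IH) (Lpn (LP (LK LD1_c10 LD2_c4 LD3_c44))))))
theorem f574886 : Led Lsl_ft (LP (LK LD1_c8 LD2_c12 LD3_c27)) = (LP (LK LD1_c15 LD2_c26 LD3_c18)) :=
  Lre_f IH (LK LD1_c8 LD2_c12 LD3_c27) (LK LD1_c15 LD2_c26 LD3_c18) Lrfl Lrfl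
theorem f570490 : Led Lsl_gt (LP (LK LD1_c8 LD2_c12 LD3_c27)) = (LP (LK LD1_c15 LD2_c26 LD3_c29)) :=
  Lre_g IH (LK LD1_c8 LD2_c12 LD3_c27) (LK LD1_c15 LD2_c26 LD3_c29) Lrfl Lrfl
theorem f574887 : Led Lsl_gt (LP (LK LD1_c15 LD2_c26 LD3_c29)) = (LP (LK LD1_c10 LD2_c4 LD3_c44)) :=
  Lgr Lrot46 (Lpe (f570490 IH) (Lpr_ft (f574886 IH) (Lpr_at (f574880 IH) (Lpn (LP (LK LD1_c10 LD2_c4 LD3_c44))))))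
theorem f542644 : Led Lsl_cf (LP (LK LD1_c5 LD2_c5 LD3_c12)) = (LP (LK LD1_c8 LD2_c14 LD3_c48)) :=
  Lgr Lrot160 (Lpr_gt (K39.f164866 IH) (Lpe (K38.f164879 IH) (Lpr_bt (K18.f164730 IH) (Lpr_gt (K9.f164693 IH) (Lpr_ct (K9.f177767 IH) (Lpe (K9.f101517 IH) (Lpe (K10.f31692 IH) (Lpr_bt (K11.f31694 IH) (Lpr_gt (K36.f542640 IH) (Lpe (f427547 IH) (Lpn (LP (LK LD1_c8 LD2_c14 LD3_c48)))))))))))))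
theorem f574889 : Led Lsl_df (LP (LK LD1_c15 LD2_c26 LD3_c29)) = (LP (LK LD1_c8 LD2_c49 LD3_c2)) :=
  Lgr Lrot16 (Lpr_gt (f574887 IH) (Lpr_dt (f541680 IH) (Lpe (f542644 IH) (Lpe (K39.f551832 IH) (Lpe (K39.f551871 IH) (Lpe (K36.f100246 IH) (Lpe (K36.f100244 IH) (Lpr_ct (K36.f421409 IH) (Lpr_gt (K38.f421436 IH) (Lpn (LP (LK LD1_c8 LD2_c49 LD3_c2))))))))))))
theorem f545050 : Led Lsl_df (LP (LK LD1_c4 LD2_c34 LD3_c20)) = (LP (LK LD1_c5 LD2_c7 LD3_c55)) :=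
  Lgr Lrot38 (Lpr_dt (K38.f545041 IH) (Lpn (LP (LK LD1_c5 LD2_c7 LD3_c55))))
theorem f570750 : Led Lsl_cf (LP (LK LD1_c8 LD2_c12 LD3_c1)) = (LP (LK LD1_c8 LD2_c49 LD3_c2)) :=
  Lgr Lrot166 (Lpr_gt (K42.f538363 IH) (Lpr_dt (K35.f538351 IH) (Lpr_gt (K35.f538606 IH) (Lpr_dt (K38.f36550 IH) (Lpe (K8.f36543 IH) (Lpr_df (f545050 IH) (Lpr_gf (K42.f570746 IH) (Lpe (K36.f138933 IH) (Lpe (K38.f421437 IH) (Lpn (LP (LK LD1_c8 LD2_c49 LD3_c2))))))))))))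
theorem f549628 : Led Lsl_ef (LP (LK LD1_c5 LD2_c42 LD3_c46)) = (LP (LK LD1_c8 LD2_c12 LD3_c1)) :=
  Lgr Lrot88 (Lpr_et (K38.f549624 IH) (Lpn (LP (LK LD1_c8 LD2_c12 LD3_c1))))
theorem f172738 : Led Lsl_ct (LP (LK LD1_c5 LD2_c42 LD3_c46)) = (LP (LK LD1_c11 LD2_c15 LD3_c47)) :=
  Lre_c IH (LK LD1_c5 LD2_c42 LD3_c46) (LK LD1_c11 LD2_c15 LD3_c47) Lrfl Lrfl
theorem f570752 : Led Lsl_et (LP (LK LD1_c11 LD2_c15 LD3_c47)) = (LP (LK LD1_c8 LD2_c49 LD3_c2)) :=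
  Lgr Lrot158 (Lpe (f172738 IH) (Lpr_ef (f549628 IH) (Lpr_cf (f570750 IH) (Lpn (LP (LK LD1_c8 LD2_c49 LD3_c2))))))
theorem f570754 : Led Lsl_ef (LP (LK LD1_c11 LD2_c15 LD3_c47)) = (LP (LK LD1_c8 LD2_c49 LD3_c2)) :=
  Lgr Lrot88 (Lpr_et (f570752 IH) (Lpn (LP (LK LD1_c8 LD2_c49 LD3_c2))))
theorem f427543 : Led Lsl_ef (LP (LK LD1_c9 LD2_c1 LD3_c18)) = (LP (LK LD1_c8 LD2_c14 LD3_c48)) :=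
  Lgr Lrot29 (Lpe (K39.f418928 IH) (Lpr_et (K36.f427540 IH) (Lpr_bt (K42.f55990 IH) (Lpn (LP (LK LD1_c8 LD2_c14 LD3_c48))))))
theorem f574896 : Led Lsl_gf (LP (LK LD1_c11 LD2_c15 LD3_c47)) = (LP (LK LD1_c7 LD2_c59 LD3_c23)) :=
  Lgr Lrot141 (Lpr_ef (f570754 IH) (Lpe (f574889 IH) (Lpr_gt (f574887 IH) (Lpr_df (K42.f541695 IH) (Lpe (f427543 IH) (Lpr_gt (K39.f178959 IH) (Lpr_dt (K39.f552611 IH) (Lpe (K39.f423759 IH) (Lpe (K41.f382087 IH) (Lpr_et (K42.f423764 IH) (Lpn (LP (LK LD1_c7 LD2_c59 LD3_c23)))))))))))))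
theorem f567598 : Led Lsl_gt (LP (LK LD1_c2 LD2_c13 LD3_c31)) = (LP (LK LD1_c4 LD2_c32 LD3_c7)) :=
  Lgr Lrot150 (Lpe (K38.f538141 IH) (Lpr_gf (K41.f567592 IH) (Lpe (K41.f440240 IH) (Lpe (K4.f111493 IH) (Lpe (K4.f92452 IH) (Lpe (K8.f127657 IH) (Lpr_ct (K32.f147330 IH) (Lpr_df (K41.f567165 IH) (Lpe (K40.f237367 IH) (Lpn (LP (LK LD1_c4 LD2_c32 LD3_c7))))))))))))
theorem f128246 : Led Lsl_bt (LP (LK LD1_c3 LD2_c33 LD3_c37)) = (LP (LK LD1_c1 LD2_c43 LD3_c32)) :=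
  Lre_b IH (LK LD1_c3 LD2_c33 LD3_c37) (LK LD1_c1 LD2_c43 LD3_c32) Lrfl Lrfl
theorem f128217 : Led Lsl_af (LP (LK LD1_c1 LD2_c45 LD3_c19)) = (LP (LK LD1_c1 LD2_c43 LD3_c32)) :=
  Lgr Lrot45 (Lpr_ft (K5.f128215 IH) (Lpe (K5.f128209 IH) (Lpr_ft (K42.f128204 IH) (Lpn (LP (LK LD1_c1 LD2_c43 LD3_c32))))))
theorem f546936 : Led Lsl_bt (LP (LK LD1_c7 LD2_c14 LD3_c5)) = (LP (LK LD1_c6 LD2_c25 LD3_c29)) :=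
  Lgr Lrot62 (Lpe (K39.f158550 IH) (Lpe (K39.f93082 IH) (Lpr_af (f128217 IH) (Lpe (f128246 IH) (Lpr_af (K38.f546932 IH) (Lpn (LP (LK LD1_c6 LD2_c25 LD3_c29))))))))
theorem f567600 : Led Lsl_bt (LP (LK LD1_c5 LD2_c54 LD3_c52)) = (LP (LK LD1_c7 LD2_c7 LD3_c35)) :=
  Lgr Lrot130 (Lpr_ct (K42.f202279 IH) (Lpr_gf (K39.f551653 IH) (Lpe (K39.f551657 IH) (Lpr_bt (f546936 IH) (Lpe (K16.f269118 IH) (Lpe (K40.f237363 IH) (Lpe (K40.f237365 IH) (Lpe (f567598 IH) (Lpe (K38.f538141 IH) (Lpr_gf (K41.f567592 IH) (Lpn (LP (LK LD1_c7 LD2_c7 LD3_c35)))))))))))))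
theorem f546883 : Led Lsl_af (LP (LK LD1_c5 LD2_c54 LD3_c52)) = (LP (LK LD1_c3 LD2_c46 LD3_c22)) :=
  Lgr Lrot0 (Lpr_at (K38.f546881 IH) (Lpn (LP (LK LD1_c3 LD2_c46 LD3_c22))))
theorem f109068 : Led Lsl_af (LP (LK LD1_c1 LD2_c50 LD3_c16)) = (LP (LK LD1_c3 LD2_c32 LD3_c15)) :=
  Lgr Lrot0 (Lpr_at (K3.f109066 IH) (Lpn (LP (LK LD1_c3 LD2_c32 LD3_c15))))
theorem f571531 : Led Lsl_bf (LP (LK LD1_c3 LD2_c32 LD3_c15)) = (LP (LK LD1_c5 LD2_c42 LD3_c46)) :=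
  Lgr Lrot81 (Lpe (f109068 IH) (Lpr_bt (K3.f98529 IH) (Lpe (f546883 IH) (Lpr_bt (f567600 IH) (Lpr_at (K42.f571527 IH) (Lpn (LP (LK LD1_c5 LD2_c42 LD3_c46))))))))
theorem f177124 : Led Lsl_ct (LP (LK LD1_c11 LD2_c15 LD3_c47)) = (LP (LK LD1_c5 LD2_c42 LD3_c46)) :=
  Lre_c IH (LK LD1_c11 LD2_c15 LD3_c47) (LK LD1_c5 LD2_c42 LD3_c46) Lrfl Lrfl
theorem f559143 : Led Lsl_df (LP (LK LD1_c4 LD2_c41 LD3_c25)) = (LP (LK LD1_c7 LD2_c14 LD3_c2)) :=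
  Lgr Lrot12 (Lpr_bt (K42.f272489 IH) (Lpr_dt (K40.f559141 IH) (Lpr_bt (K6.f96479 IH) (Lpn (LP (LK LD1_c7 LD2_c14 LD3_c2))))))
theorem f145200 : Led Lsl_dt (LP (LK LD1_c13 LD2_c27 LD3_c51)) = (LP (LK LD1_c7 LD2_c6 LD3_c20)) :=
  Lre_d IH (LK LD1_c13 LD2_c27 LD3_c51) (LK LD1_c7 LD2_c6 LD3_c20) Lrfl Lrfl
theorem f568448 : Led Lsl_gt (LP (LK LD1_c8 LD2_c43 LD3_c60)) = (LP (LK LD1_c13 LD2_c27 LD3_c51)) :=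
  Lgr Lrot94 (Lpe (K40.f237367 IH) (Lpr_gt (K42.f568444 IH) (Lpr_dt (K38.f268866 IH) (Lpe (K42.f568435 IH) (Lpr_dt (K42.f26926 IH) (Lpe (K42.f36579 IH) (Lpr_df (f559143 IH) (Lpe (K37.f157346 IH) (Lpe (f145200 IH) (Lpn (LP (LK LD1_c13 LD2_c27 LD3_c51))))))))))))
theorem f574900 : Led Lsl_ct (LP (LK LD1_c13 LD2_c27 LD3_c51)) = (LP (LK LD1_c7 LD2_c59 LD3_c23)) :=
  Lgr Lrot152 (Lpe (f568448 IH) (Lpr_df (K40.f552205 IH) (Lpe (K32.f147328 IH) (Lpe (K7.f116622 IH) (Lpr_gt (K7.f95399 IH) (Lpr_ct (K24.f116555 IH) (Lpr_df (K38.f549506 IH) (Lpe (f177124 IH) (Lpr_gf (f574896 IH) (Lpn (LP (LK LD1_c7 LD2_c59 LD3_c23))))))))))))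
theorem f502714 : Led Lsl_bt (LP (LK LD1_c13 LD2_c27 LD3_c51)) = (LP (LK LD1_c7 LD2_c6 LD3_c22)) :=
  Lre_b IH (LK LD1_c13 LD2_c27 LD3_c51) (LK LD1_c7 LD2_c6 LD3_c22) Lrfl Lrfl
theorem f574906 : Led Lsl_gt (LP (LK LD1_c3 LD2_c38 LD3_c13)) = (LP (LK LD1_c7 LD2_c6 LD3_c22)) :=
  Lgr Lrot164 (Lpe (K0.f5009 IH) (Lpr_ct (K0.f5224 IH) (Lpe (K3.f17467 IH) (Lpe (K3.f17610 IH) (Lpe (K3.f94420 IH) (Lpr_bf (f571531 IH) (Lpr_ct (f172738 IH) (Lpr_gf (f574896 IH) (Lpe (f574900 IH) (Lpr_bt (f502714 IH) (Lpn (LP (LK LD1_c7 LD2_c6 LD3_c22)))))))))))))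
theorem f551680 : Led Lsl_ct (LP (LK LD1_c3 LD2_c59 LD3_c4)) = (LP (LK LD1_c7 LD2_c59 LD3_c26)) :=
  Lre_c IH (LK LD1_c3 LD2_c59 LD3_c4) (LK LD1_c7 LD2_c59 LD3_c26) Lrfl Lrfl
theorem f565244 : Led Lsl_gt (LP (LK LD1_c7 LD2_c59 LD3_c26)) = (LP (LK LD1_c5 LD2_c54 LD3_c52)) :=
  Lgr Lrot94 (Lpe (f551680 IH) (Lpr_gt (K41.f565240 IH) (Lpe (K41.f301908 IH) (Lpr_gt (K41.f565238 IH) (Lpr_dt (K42.f450466 IH) (Lpe (K42.f450467 IH) (Lpr_df (K40.f559100 IH) (Lpr_gf (K28.f426635 IH) (Lpr_df (K38.f546834 IH) (Lpn (LP (LK LD1_c5 LD2_c54 LD3_c52))))))))))))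
theorem f98424 : Led Lsl_ct (LP (LK LD1_c13 LD2_c27 LD3_c54)) = (LP (LK LD1_c7 LD2_c6 LD3_c22)) :=
  Lre_c IH (LK LD1_c13 LD2_c27 LD3_c54) (LK LD1_c7 LD2_c6 LD3_c22) Lrfl Lrfl
theorem f574914 : Led Lsl_bf (LP (LK LD1_c7 LD2_c59 LD3_c26)) = (LP (LK LD1_c13 LD2_c27 LD3_c54)) :=
  Lgr Lrot165 (Lpr_gt (f565244 IH) (Lpr_ct (K42.f202279 IH) (Lpr_gt (K39.f551655 IH) (Lpe (K39.f556332 IH) (Lpr_bt (K42.f98111 IH) (Lpe (K3.f98490 IH) (Lpe (K0.f4981 IH) (Lpr_ct (K28.f5401 IH) (Lpr_gt (f574906 IH) (Lpe (f98424 IH) (Lpn (LP (LK LD1_c13 LD2_c27 LD3_c54)))))))))))))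
theorem f571840 : Led Lsl_ft (LP (LK LD1_c7 LD2_c59 LD3_c26)) = (LP (LK LD1_c7 LD2_c33 LD3_c46)) :=
  Lgr Lrot4 (Lpe (f551680 IH) (Lpr_ff (K42.f571838 IH) (Lpr_cf (K38.f548900 IH) (Lpn (LP (LK LD1_c7 LD2_c33 LD3_c46))))))
theorem f574935 : Led Lsl_ft (LP (LK LD1_c8 LD2_c1 LD3_c51)) = (LP (LK LD1_c13 LD2_c27 LD3_c54)) :=
  Lgr Lrot75 (Lpr_bf (K40.f559081 IH) (Lpe (f571840 IH) (Lpr_bf (f574914 IH) (Lpn (LP (LK LD1_c13 LD2_c27 LD3_c54))))))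
theorem f559085 : Led Lsl_dt (LP (LK LD1_c8 LD2_c1 LD3_c51)) = (LP (LK LD1_c7 LD2_c6 LD3_c21)) :=
  Lgr Lrot79 (Lpr_bf (K40.f559081 IH) (Lpe (K40.f502723 IH) (Lpe (K36.f96539 IH) (Lpn (LP (LK LD1_c7 LD2_c6 LD3_c21))))))
theorem f10301 : Led Lsl_dt (LP (LK LD1_c3 LD2_c32 LD3_c45)) = (LP (LK LD1_c7 LD2_c6 LD3_c22)) :=
  Lre_d IH (LK LD1_c3 LD2_c32 LD3_c45) (LK LD1_c7 LD2_c6 LD3_c22) Lrfl Lrfl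
theorem f10302 : Led Lsl_ct (LP (LK LD1_c7 LD2_c6 LD3_c22)) = (LP (LK LD1_c13 LD2_c27 LD3_c54)) :=
  Lre_c IH (LK LD1_c7 LD2_c6 LD3_c22) (LK LD1_c13 LD2_c27 LD3_c54) Lrfl Lrfl
theorem f574942 : Led Lsl_af (LP (LK LD1_c8 LD2_c1 LD3_c51)) = (LP (LK LD1_c13 LD2_c27 LD3_c54)) :=
  Lgr Lrot31 (Lpr_gf (K40.f559079 IH) (Lpe (K40.f559077 IH) (Lpr_ft (f574935 IH) (Lpn (LP (LK LD1_c13 LD2_c27 LD3_c54))))))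
theorem f10674 : Led Lsl_dt (LP (LK LD1_c7 LD2_c12 LD3_c56)) = (LP (LK LD1_c3 LD2_c36 LD3_c17)) :=
  Lre_d IH (LK LD1_c7 LD2_c12 LD3_c56) (LK LD1_c3 LD2_c36 LD3_c17) Lrfl Lrfl
theorem f501632 : Led Lsl_ft (LP (LK LD1_c7 LD2_c6 LD3_c22)) = (LP (LK LD1_c7 LD2_c12 LD3_c56)) :=
  Lgr Lrot54 (Lpe (f10301 IH) (Lpr_ff (K36.f501628 IH) (Lpe (f10674 IH) (Lpn (LP (LK LD1_c7 LD2_c12 LD3_c56))))))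
theorem f574937 : Led Lsl_cf (LP (LK LD1_c8 LD2_c1 LD3_c51)) = (LP (LK LD1_c7 LD2_c12 LD3_c56)) :=
  Lgr Lrot108 (Lpr_ft (f574935 IH) (Lpr_ct (f98424 IH) (Lpr_ft (f501632 IH) (Lpn (LP (LK LD1_c7 LD2_c12 LD3_c56))))))
theorem f10273 : Led Lsl_dt (LP (LK LD1_c3 LD2_c36 LD3_c17)) = (LP (LK LD1_c7 LD2_c12 LD3_c56)) :=
  Lre_d IH (LK LD1_c3 LD2_c36 LD3_c17) (LK LD1_c7 LD2_c12 LD3_c56) Lrfl Lrfl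
theorem f574944 : Led Lsl_dt (LP (LK LD1_c13 LD2_c27 LD3_c54)) = (LP (LK LD1_c7 LD2_c12 LD3_c55)) :=
  Lgr Lrot140 (Lpe (f10302 IH) (Lpe (f10301 IH) (Lpe (K36.f10626 IH) (Lpe (f559085 IH) (Lpr_ft (f574935 IH) (Lpe (f574942 IH) (Lpr_cf (f574937 IH) (Lpe (f10273 IH) (Lpe (K3.f10673 IH) (Lpn (LP (LK LD1_c7 LD2_c12 LD3_c55))))))))))))
theorem f574956 : Led Lsl_gf (LP (LK LD1_c3 LD2_c38 LD3_c32)) = (LP (LK LD1_c7 LD2_c12 LD3_c56)) :=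
  Lgr Lrot179 (Lpr_ct (K28.f5401 IH) (Lpr_gt (f574906 IH) (Lpr_ct (f10302 IH) (Lpr_dt (f574944 IH) (Lpe (K3.f10675 IH) (Lpe (K3.f10272 IH) (Lpr_cf (K3.f10448 IH) (Lpr_gf (K3.f10671 IH) (Lpr_dt (f10273 IH) (Lpn (LP (LK LD1_c7 LD2_c12 LD3_c56))))))))))))
theorem f420645 : Led Lsl_et (LP (LK LD1_c15 LD2_c7 LD3_c50)) = (LP (LK LD1_c8 LD2_c2 LD3_c5)) :=
  Lre_e IH (LK LD1_c15 LD2_c7 LD3_c50) (LK LD1_c8 LD2_c2 LD3_c5) Lrfl Lrfl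
theorem f29525 : Led Lsl_dt (LP (LK LD1_c8 LD2_c1 LD3_c49)) = (LP (LK LD1_c15 LD2_c7 LD3_c11)) :=
  Lre_d IH (LK LD1_c8 LD2_c1 LD3_c49) (LK LD1_c15 LD2_c7 LD3_c11) Lrfl Lrfl
theorem f574960 : Led Lsl_et (LP (LK LD1_c8 LD2_c1 LD3_c49)) = (LP (LK LD1_c7 LD2_c12 LD3_c56)) :=
  Lgr Lrot121 (Lpr_dt (f29525 IH) (Lpe (K42.f570985 IH) (Lpe (K42.f540744 IH) (Lpr_et (f420645 IH) (Lpe (K41.f420652 IH) (Lpr_ef (K42.f570681 IH) (Lpe (K42.f570679 IH) (Lpe (K24.f5070 IH) (Lpe (K0.f5065 IH) (Lpr_gf (f574956 IH) (Lpn (LP (LK LD1_c7 LD2_c12 LD3_c56)))))))))))))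
theorem f575008 : Led Lsl_ef (LP (LK LD1_c8 LD2_c1 LD3_c49)) = (LP (LK LD1_c7 LD2_c12 LD3_c56)) :=
  Lgr Lrot88 (Lpr_et (f574960 IH) (Lpn (LP (LK LD1_c7 LD2_c12 LD3_c56))))
theorem f98228 : Led Lsl_gt (LP (LK LD1_c7 LD2_c8 LD3_c16)) = (LP (LK LD1_c13 LD2_c31 LD3_c8)) :=
  Lre_g IH (LK LD1_c7 LD2_c8 LD3_c16) (LK LD1_c13 LD2_c31 LD3_c8) Lrfl Lrfl
theorem f98361 : Led Lsl_dt (LP (LK LD1_c13 LD2_c31 LD3_c8)) = (LP (LK LD1_c22 LD2_c52 LD3_c9)) :=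
  Lre_d IH (LK LD1_c13 LD2_c31 LD3_c8) (LK LD1_c22 LD2_c52 LD3_c9) Lrfl Lrfl
theorem f575016 : Led Lsl_gf (LP (LK LD1_c16 LD2_c28 LD3_c38)) = (LP (LK LD1_c22 LD2_c52 LD3_c9)) :=
  Lgr Lrot134 (Lpe (K42.f570594 IH) (Lpr_et (K42.f565029 IH) (Lpe (K41.f564994 IH) (Lpr_ef (f575008 IH) (Lpr_dt (f10674 IH) (Lpe (K3.f10671 IH) (Lpr_df (K42.f98114 IH) (Lpr_et (K36.f98205 IH) (Lpr_gt (f98228 IH) (Lpr_dt (f98361 IH) (Lpn (LP (LK LD1_c22 LD2_c52 LD3_c9)))))))))))))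
theorem f573229 : Led Lsl_at (LP (LK LD1_c23 LD2_c7 LD3_c39)) = (LP (LK LD1_c16 LD2_c28 LD3_c38)) :=
  Lgr Lrot51 (Lpr_df (f573226 IH) (Lpe (K42.f570600 IH) (Lpe (K42.f570583 IH) (Lpn (LP (LK LD1_c16 LD2_c28 LD3_c38))))))
theorem f573245 : Led Lsl_ff (LP (LK LD1_c23 LD2_c7 LD3_c39)) = (LP (LK LD1_c16 LD2_c28 LD3_c10)) :=
  Lgr Lrot3 (Lpr_ft (f573235 IH) (Lpn (LP (LK LD1_c16 LD2_c28 LD3_c10))))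
theorem f575018 : Led Lsl_gt (LP (LK LD1_c16 LD2_c28 LD3_c10)) = (LP (LK LD1_c22 LD2_c52 LD3_c9)) :=
  Lgr Lrot5 (Lpe (f573245 IH) (Lpr_at (f573229 IH) (Lpr_gf (f575016 IH) (Lpn (LP (LK LD1_c22 LD2_c52 LD3_c9))))))
theorem f424946 : Led Lsl_et (LP (LK LD1_c8 LD2_c0 LD3_c5)) = (LP (LK LD1_c15 LD2_c4 LD3_c46)) :=
  Lre_e IH (LK LD1_c8 LD2_c0 LD3_c5) (LK LD1_c15 LD2_c4 LD3_c46) Lrfl Lrfl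
theorem f575026 : Led Lsl_ef (LP (LK LD1_c8 LD2_c5 LD3_c5)) = (LP (LK LD1_c13 LD2_c31 LD3_c8)) :=
  Lgr Lrot114 (Lpr_gt (f574564 IH) (Lpe (f206072 IH) (Lpr_dt (K40.f420410 IH) (Lpr_gt (K40.f558173 IH) (Lpe (K40.f558266 IH) (Lpr_et (f424946 IH) (Lpr_gt (K41.f565838 IH) (Lpr_dt (K42.f138764 IH) (Lpr_gt (f575018 IH) (Lpe (f98361 IH) (Lpn (LP (LK LD1_c13 LD2_c31 LD3_c8)))))))))))))
theorem f575028 : Led Lsl_et (LP (LK LD1_c8 LD2_c5 LD3_c5)) = (LP (LK LD1_c13 LD2_c31 LD3_c8)) :=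
  Lgr Lrot87 (Lpr_ef (f575026 IH) (Lpn (LP (LK LD1_c13 LD2_c31 LD3_c8))))
theorem f552276 : Led Lsl_dt (LP (LK LD1_c8 LD2_c5 LD3_c5)) = (LP (LK LD1_c15 LD2_c13 LD3_c23)) :=
  Lre_d IH (LK LD1_c8 LD2_c5 LD3_c5) (LK LD1_c15 LD2_c13 LD3_c23) Lrfl Lrfl
theorem f10625 : Led Lsl_dt (LP (LK LD1_c7 LD2_c6 LD3_c22)) = (LP (LK LD1_c3 LD2_c32 LD3_c45)) :=
  Lre_d IH (LK LD1_c7 LD2_c6 LD3_c22) (LK LD1_c3 LD2_c32 LD3_c45) Lrfl Lrfl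
theorem f574910 : Led Lsl_gt (LP (LK LD1_c3 LD2_c38 LD3_c32)) = (LP (LK LD1_c7 LD2_c12 LD3_c56)) :=
  Lgr Lrot94 (Lpe (K28.f5547 IH) (Lpr_gt (f574906 IH) (Lpr_dt (f10625 IH) (Lpr_gt (K36.f10622 IH) (Lpr_dt (K42.f6411 IH) (Lpe (K36.f98356 IH) (Lpe (K36.f98195 IH) (Lpr_gf (K3.f10671 IH) (Lpe (f10674 IH) (Lpn (LP (LK LD1_c7 LD2_c12 LD3_c56))))))))))))
theorem f575031 : Led Lsl_gt (LP (LK LD1_c15 LD2_c13 LD3_c23)) = (LP (LK LD1_c13 LD2_c47 LD3_c29)) :=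
  Lgr Lrot112 (Lpe (f552276 IH) (Lpr_et (f575028 IH) (Lpe (f98228 IH) (Lpe (K36.f98205 IH) (Lpe (K42.f98114 IH) (Lpr_gf (K3.f10671 IH) (Lpe (f10674 IH) (Lpe (f574910 IH) (Lpe (K0.f5071 IH) (Lpr_dt (K24.f5101 IH) (Lpn (LP (LK LD1_c13 LD2_c47 LD3_c29)))))))))))))
theorem f573750 : Led Lsl_ct (LP (LK LD1_c15 LD2_c13 LD3_c15)) = (LP (LK LD1_c15 LD2_c12 LD3_c59)) :=
  Lre_c IH (LK LD1_c15 LD2_c13 LD3_c15) (LK LD1_c15 LD2_c12 LD3_c59) Lrfl Lrfl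
theorem f573756 : Led Lsl_bt (LP (LK LD1_c8 LD2_c4 LD3_c52)) = (LP (LK LD1_c15 LD2_c12 LD3_c59)) :=
  Lre_b IH (LK LD1_c8 LD2_c4 LD3_c52) (LK LD1_c15 LD2_c12 LD3_c59) Lrfl Lrfl
theorem f572892 : Led Lsl_bt (LP (LK LD1_c5 LD2_c5 LD3_c11)) = (LP (LK LD1_c10 LD2_c1 LD3_c27)) :=
  Lre_b IH (LK LD1_c5 LD2_c5 LD3_c11) (LK LD1_c10 LD2_c1 LD3_c27) Lrfl Lrfl
theorem f573757 : Led Lsl_gt (LP (LK LD1_c15 LD2_c12 LD3_c59)) = (LP (LK LD1_c10 LD2_c1 LD3_c27)) :=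
  Lgr Lrot164 (Lpe (f573756 IH) (Lpr_ct (f573746 IH) (Lpe (f240707 IH) (Lpe (K41.f240846 IH) (Lpr_gf (K42.f570526 IH) (Lpe (K42.f117564 IH) (Lpr_ct (K8.f117565 IH) (Lpe (K42.f572878 IH) (Lpr_cf (K42.f572888 IH) (Lpr_bt (f572892 IH) (Lpn (LP (LK LD1_c10 LD2_c1 LD3_c27)))))))))))))
theorem f573759 : Led Lsl_dt (LP (LK LD1_c10 LD2_c1 LD3_c27)) = (LP (LK LD1_c18 LD2_c19 LD3_c2)) :=
  Lre_d IH (LK LD1_c10 LD2_c1 LD3_c27) (LK LD1_c18 LD2_c19 LD3_c2) Lrfl Lrfl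
theorem f5412 : Led Lsl_cf (LP (LK LD1_c7 LD2_c17 LD3_c24)) = (LP (LK LD1_c7 LD2_c16 LD3_c47)) :=
  Lgr Lrot97 (Lpr_bt (K41.f5411 IH) (Lpr_ct (K0.f5134 IH) (Lpr_bt (K24.f5404 IH) (Lpe (K0.f5173 IH) (Lpr_bt (K41.f5194 IH) (Lpn (LP (LK LD1_c7 LD2_c16 LD3_c47))))))))
theorem f575035 : Led Lsl_gt (LP (LK LD1_c18 LD2_c19 LD3_c2)) = (LP (LK LD1_c13 LD2_c46 LD3_c28)) :=
  Lgr Lrot49 (Lpe (f573759 IH) (Lpe (f573757 IH) (Lpe (f573750 IH) (Lpr_gt (f573748 IH) (Lpr_dt (f552276 IH) (Lpr_gt (f575031 IH) (Lpr_dt (K0.f5072 IH) (Lpr_cf (f5412 IH) (Lpe (K24.f5528 IH) (Lpn (LP (LK LD1_c13 LD2_c46 LD3_c28))))))))))))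
theorem f10630 : Led Lsl_gt (LP (LK LD1_c7 LD2_c6 LD3_c25)) = (LP (LK LD1_c13 LD2_c27 LD3_c57)) :=
  Lre_g IH (LK LD1_c7 LD2_c6 LD3_c25) (LK LD1_c13 LD2_c27 LD3_c57) Lrfl Lrfl
theorem f575047 : Led Lsl_et (LP (LK LD1_c10 LD2_c1 LD3_c27)) = (LP (LK LD1_c13 LD2_c27 LD3_c57)) :=
  Lgr Lrot122 (Lpr_dt (f573759 IH) (Lpr_gt (f575035 IH) (Lpe (f5553 IH) (Lpr_et (K42.f5549 IH) (Lpr_gt (f574906 IH) (Lpr_dt (f10625 IH) (Lpr_gt (K36.f10622 IH) (Lpe (K36.f6566 IH) (Lpr_et (K36.f10629 IH) (Lpr_gt (f10630 IH) (Lpn (LP (LK LD1_c13 LD2_c27 LD3_c57)))))))))))))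
theorem f575051 : Led Lsl_ef (LP (LK LD1_c10 LD2_c1 LD3_c27)) = (LP (LK LD1_c13 LD2_c27 LD3_c57)) :=
  Lgr Lrot88 (Lpr_et (f575047 IH) (Lpn (LP (LK LD1_c13 LD2_c27 LD3_c57))))
theorem f573760 : Led Lsl_dt (LP (LK LD1_c18 LD2_c19 LD3_c2)) = (LP (LK LD1_c10 LD2_c1 LD3_c27)) :=
  Lre_d IH (LK LD1_c18 LD2_c19 LD3_c2) (LK LD1_c10 LD2_c1 LD3_c27) Lrfl Lrfl
theorem f570969 : Led Lsl_ft (LP (LK LD1_c15 LD2_c13 LD3_c24)) = (LP (LK LD1_c25 LD2_c2 LD3_c12)) :=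
  Lre_f IH (LK LD1_c15 LD2_c13 LD3_c24) (LK LD1_c25 LD2_c2 LD3_c12) Lrfl Lrfl
theorem f570970 : Led Lsl_at (LP (LK LD1_c25 LD2_c2 LD3_c12)) = (LP (LK LD1_c15 LD2_c13 LD3_c18)) :=
  Lre_a IH (LK LD1_c25 LD2_c2 LD3_c12) (LK LD1_c15 LD2_c13 LD3_c18) Lrfl Lrfl
theorem f570971 : Led Lsl_gt (LP (LK LD1_c23 LD2_c13 LD3_c39)) = (LP (LK LD1_c15 LD2_c13 LD3_c18)) :=
  Lgr Lrot46 (Lpr_gf (K42.f570966 IH) (Lpr_ft (f570969 IH) (Lpr_at (f570970 IH) (Lpn (LP (LK LD1_c15 LD2_c13 LD3_c18))))))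
theorem f552321 : Led Lsl_ct (LP (LK LD1_c15 LD2_c13 LD3_c18)) = (LP (LK LD1_c8 LD2_c5 LD3_c1)) :=
  Lre_c IH (LK LD1_c15 LD2_c13 LD3_c18) (LK LD1_c8 LD2_c5 LD3_c1) Lrfl Lrfl
theorem f575039 : Led Lsl_gt (LP (LK LD1_c10 LD2_c1 LD3_c27)) = (LP (LK LD1_c15 LD2_c50 LD3_c5)) :=
  Lgr Lrot9 (Lpe (f573760 IH) (Lpr_gt (f575035 IH) (Lpr_ct (K42.f5525 IH) (Lpr_gt (f570971 IH) (Lpr_ct (f552321 IH) (Lpe (K39.f81416 IH) (Lpe (K42.f421592 IH) (Lpr_gf (f574584 IH) (Lpe (f574574 IH) (Lpn (LP (LK LD1_c15 LD2_c50 LD3_c5))))))))))))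
theorem f548803 : Led Lsl_df (LP (LK LD1_c11 LD2_c24 LD3_c11)) = (LP (LK LD1_c8 LD2_c2 LD3_c11)) :=
  Lgr Lrot38 (Lpr_dt (K38.f548799 IH) (Lpn (LP (LK LD1_c8 LD2_c2 LD3_c11))))
theorem f69466 : Led Lsl_dt (LP (LK LD1_c8 LD2_c2 LD3_c13)) = (LP (LK LD1_c15 LD2_c7 LD3_c55)) :=
  Lre_d IH (LK LD1_c8 LD2_c2 LD3_c13) (LK LD1_c15 LD2_c7 LD3_c55) Lrfl Lrfl
theorem f574553 : Led Lsl_gt (LP (LK LD1_c23 LD2_c14 LD3_c59)) = (LP (LK LD1_c15 LD2_c7 LD3_c55)) :=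
  Lgr Lrot112 (Lpe (f574542 IH) (Lpr_et (f574544 IH) (Lpe (K40.f206068 IH) (Lpe (K42.f570687 IH) (Lpr_dt (K42.f541818 IH) (Lpe (K40.f548809 IH) (Lpr_df (f548803 IH) (Lpe (K6.f69483 IH) (Lpe (K32.f69436 IH) (Lpr_dt (f69466 IH) (Lpn (LP (LK LD1_c15 LD2_c7 LD3_c55)))))))))))))
theorem f29532 : Led Lsl_ct (LP (LK LD1_c24 LD2_c56 LD3_c19)) = (LP (LK LD1_c15 LD2_c7 LD3_c33)) :=
  Lre_c IH (LK LD1_c24 LD2_c56 LD3_c19) (LK LD1_c15 LD2_c7 LD3_c33) Lrfl Lrfl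
theorem f36758 : Led Lsl_bt (LP (LK LD1_c15 LD2_c7 LD3_c33)) = (LP (LK LD1_c8 LD2_c2 LD3_c3)) :=
  Lre_b IH (LK LD1_c15 LD2_c7 LD3_c33) (LK LD1_c8 LD2_c2 LD3_c3) Lrfl Lrfl
theorem f29530 : Led Lsl_ct (LP (LK LD1_c15 LD2_c7 LD3_c33)) = (LP (LK LD1_c24 LD2_c56 LD3_c19)) :=
  Lre_c IH (LK LD1_c15 LD2_c7 LD3_c33) (LK LD1_c24 LD2_c56 LD3_c19) Lrfl Lrfl
theorem f43030 : Led Lsl_bt (LP (LK LD1_c2 LD2_c10 LD3_c38)) = (LP (LK LD1_c4 LD2_c26 LD3_c27)) :=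
  Lre_b IH (LK LD1_c2 LD2_c10 LD3_c38) (LK LD1_c4 LD2_c26 LD3_c27) Lrfl Lrfl
theorem f198432 : Led Lsl_bt (LP (LK LD1_c16 LD2_c31 LD3_c16)) = (LP (LK LD1_c8 LD2_c50 LD3_c22)) :=
  Lre_b IH (LK LD1_c16 LD2_c31 LD3_c16) (LK LD1_c8 LD2_c50 LD3_c22) Lrfl Lrfl
theorem f198433 : Led Lsl_ct (LP (LK LD1_c16 LD2_c31 LD3_c16)) = (LP (LK LD1_c26 LD2_c27 LD3_c46)) :=
  Lre_c IH (LK LD1_c16 LD2_c31 LD3_c16) (LK LD1_c26 LD2_c27 LD3_c46) Lrfl Lrfl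
theorem f198434 : Led Lsl_gf (LP (LK LD1_c24 LD2_c56 LD3_c19)) = (LP (LK LD1_c26 LD2_c27 LD3_c46)) :=
  Lgr Lrot126 (Lpe (f29530 IH) (Lpr_bt (f36758 IH) (Lpe (K10.f193739 IH) (Lpr_ct (K13.f198367 IH) (Lpr_gt (K12.f101031 IH) (Lpe (K9.f43029 IH) (Lpr_bt (f43030 IH) (Lpr_gt (K42.f43031 IH) (Lpe (f198432 IH) (Lpr_ct (f198433 IH) (Lpn (LP (LK LD1_c26 LD2_c27 LD3_c46)))))))))))))
theorem f565846 : Led Lsl_gf (LP (LK LD1_c16 LD2_c31 LD3_c16)) = (LP (LK LD1_c24 LD2_c56 LD3_c45)) :=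
  Lgr Lrot147 (Lpr_ct (f198433 IH) (Lpe (f198434 IH) (Lpr_ct (f29532 IH) (Lpe (K42.f29529 IH) (Lpr_cf (K39.f29345 IH) (Lpe (K39.f556632 IH) (Lpr_cf (K39.f556624 IH) (Lpr_gf (K41.f565842 IH) (Lpe (K42.f138762 IH) (Lpn (LP (LK LD1_c24 LD2_c56 LD3_c45))))))))))))
theorem f575055 : Led Lsl_df (LP (LK LD1_c16 LD2_c31 LD3_c16)) = (LP (LK LD1_c13 LD2_c27 LD3_c57)) :=
  Lgr Lrot168 (Lpr_gf (f565846 IH) (Lpe (K42.f138769 IH) (Lpr_et (K42.f138771 IH) (Lpe (K6.f69483 IH) (Lpe (K32.f69436 IH) (Lpr_dt (f69466 IH) (Lpe (f574553 IH) (Lpe (f574542 IH) (Lpe (f575039 IH) (Lpr_ef (f575051 IH) (Lpn (LP (LK LD1_c13 LD2_c27 LD3_c57)))))))))))))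
theorem f573208 : Led Lsl_dt (LP (LK LD1_c23 LD2_c7 LD3_c39)) = (LP (LK LD1_c15 LD2_c7 LD3_c59)) :=
  Lgr Lrot79 (Lpe (f573207 IH) (Lpr_df (f573203 IH) (Lpr_bf (K42.f570610 IH) (Lpn (LP (LK LD1_c15 LD2_c7 LD3_c59))))))
theorem f575062 : Led Lsl_gt (LP (LK LD1_c16 LD2_c31 LD3_c16)) = (LP (LK LD1_c23 LD2_c7 LD3_c39)) :=
  Lgr Lrot49 (Lpr_df (f575055 IH) (Lpe (f10630 IH) (Lpe (K42.f98331 IH) (Lpr_gt (f98228 IH) (Lpr_dt (f98361 IH) (Lpe (f575016 IH) (Lpr_dt (K42.f570583 IH) (Lpr_cf (K42.f570612 IH) (Lpe (f573208 IH) (Lpn (LP (LK LD1_c23 LD2_c7 LD3_c39))))))))))))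
theorem f10631 : Led Lsl_et (LP (LK LD1_c7 LD2_c6 LD3_c22)) = (LP (LK LD1_c13 LD2_c27 LD3_c55)) :=
  Lre_e IH (LK LD1_c7 LD2_c6 LD3_c22) (LK LD1_c13 LD2_c27 LD3_c55) Lrfl Lrfl
theorem f575064 : Led Lsl_gt (LP (LK LD1_c8 LD2_c44 LD3_c6)) = (LP (LK LD1_c13 LD2_c27 LD3_c55)) :=
  Lgr Lrot131 (Lpr_ef (K42.f571079 IH) (Lpe (f573226 IH) (Lpe (f575062 IH) (Lpr_df (f575055 IH) (Lpe (f10630 IH) (Lpe (K36.f10629 IH) (Lpr_dt (K36.f6566 IH) (Lpe (K36.f10622 IH) (Lpe (f10625 IH) (Lpr_et (f10631 IH) (Lpn (LP (LK LD1_c13 LD2_c27 LD3_c55)))))))))))))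
theorem f569690 : Led Lsl_cf (LP (LK LD1_c8 LD2_c44 LD3_c6)) = (LP (LK LD1_c13 LD2_c30 LD3_c58)) :=
  Lgr Lrot97 (Lpr_bt (K42.f29635 IH) (Lpe (K42.f568884 IH) (Lpr_bt (K42.f569686 IH) (Lpr_ct (K41.f564991 IH) (Lpr_bt (K41.f564993 IH) (Lpn (LP (LK LD1_c13 LD2_c30 LD3_c58))))))))
theorem f382097 : Led Lsl_bt (LP (LK LD1_c7 LD2_c59 LD3_c24)) = (LP (LK LD1_c3 LD2_c59 LD3_c2)) :=
  Lre_b IH (LK LD1_c7 LD2_c59 LD3_c24) (LK LD1_c3 LD2_c59 LD3_c2) Lrfl Lrfl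
theorem f575074 : Led Lsl_ct (LP (LK LD1_c7 LD2_c59 LD3_c24)) = (LP (LK LD1_c13 LD2_c27 LD3_c55)) :=
  Lgr Lrot10 (Lpr_bt (f382097 IH) (Lpr_gt (K31.f382048 IH) (Lpr_ct (K38.f382077 IH) (Lpr_gt (K31.f174894 IH) (Lpe (K39.f174901 IH) (Lpr_bt (K41.f564981 IH) (Lpr_gt (K41.f160321 IH) (Lpe (K42.f160326 IH) (Lpe (f569690 IH) (Lpr_gt (f575064 IH) (Lpn (LP (LK LD1_c13 LD2_c27 LD3_c55)))))))))))))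
theorem f502715 : Led Lsl_et (LP (LK LD1_c13 LD2_c27 LD3_c55)) = (LP (LK LD1_c7 LD2_c6 LD3_c22)) :=
  Lre_e IH (LK LD1_c13 LD2_c27 LD3_c55) (LK LD1_c7 LD2_c6 LD3_c22) Lrfl Lrfl
theorem f575080 : Led Lsl_ef (LP (LK LD1_c7 LD2_c59 LD3_c24)) = (LP (LK LD1_c13 LD2_c27 LD3_c54)) :=
  Lgr Lrot28 (Lpr_ct (f575074 IH) (Lpr_et (f502715 IH) (Lpr_ct (f10302 IH) (Lpn (LP (LK LD1_c13 LD2_c27 LD3_c54))))))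
theorem f197723 : Led Lsl_bt (LP (LK LD1_c3 LD2_c59 LD3_c2)) = (LP (LK LD1_c7 LD2_c59 LD3_c24)) :=
  Lre_b IH (LK LD1_c3 LD2_c59 LD3_c2) (LK LD1_c7 LD2_c59 LD3_c24) Lrfl Lrfl
theorem f197724 : Led Lsl_gf (LP (LK LD1_c7 LD2_c59 LD3_c24)) = (LP (LK LD1_c4 LD2_c0 LD3_c29)) :=
  Lgr Lrot124 (Lpe (f197723 IH) (Lpr_ct (K39.f174553 IH) (Lpr_gt (K36.f149994 IH) (Lpe (K39.f172303 IH) (Lpr_bt (K39.f181349 IH) (Lpr_gt (K11.f59266 IH) (Lpr_ct (K12.f197423 IH) (Lpe (K12.f30807 IH) (Lpe (K1.f29287 IH) (Lpr_bt (K7.f29350 IH) (Lpn (LP (LK LD1_c4 LD2_c0 LD3_c29)))))))))))))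
theorem f197726 : Led Lsl_gt (LP (LK LD1_c7 LD2_c59 LD3_c24)) = (LP (LK LD1_c4 LD2_c0 LD3_c27)) :=
  Lgr Lrot46 (Lpr_gf (f197724 IH) (Lpr_ft (K39.f29369 IH) (Lpr_at (K38.f29401 IH) (Lpn (LP (LK LD1_c4 LD2_c0 LD3_c27))))))
theorem f70427 : Led Lsl_et (LP (LK LD1_c4 LD2_c23 LD3_c46)) = (LP (LK LD1_c8 LD2_c45 LD3_c25)) :=
  Lre_e IH (LK LD1_c4 LD2_c23 LD3_c46) (LK LD1_c8 LD2_c45 LD3_c25) Lrfl Lrfl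
theorem f418462 : Led Lsl_dt (LP (LK LD1_c6 LD2_c15 LD3_c9)) = (LP (LK LD1_c3 LD2_c4 LD3_c35)) :=
  Lre_d IH (LK LD1_c6 LD2_c15 LD3_c9) (LK LD1_c3 LD2_c4 LD3_c35) Lrfl Lrfl
theorem f182405 : Led Lsl_bt (LP (LK LD1_c1 LD2_c28 LD3_c18)) = (LP (LK LD1_c3 LD2_c4 LD3_c35)) :=
  Lre_b IH (LK LD1_c1 LD2_c28 LD3_c18) (LK LD1_c3 LD2_c4 LD3_c35) Lrfl Lrfl
theorem f36597 : Led Lsl_bt (LP (LK LD1_c4 LD2_c24 LD3_c8)) = (LP (LK LD1_c2 LD2_c9 LD3_c28)) :=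
  Lre_b IH (LK LD1_c4 LD2_c24 LD3_c8) (LK LD1_c2 LD2_c9 LD3_c28) Lrfl Lrfl
theorem f453056 : Led Lsl_ft (LP (LK LD1_c3 LD2_c4 LD3_c35)) = (LP (LK LD1_c4 LD2_c24 LD3_c8)) :=
  Lgr Lrot75 (Lpe (f182405 IH) (Lpr_ff (K31.f453054 IH) (Lpe (f36597 IH) (Lpn (LP (LK LD1_c4 LD2_c24 LD3_c8))))))
theorem f560669 : Led Lsl_df (LP (LK LD1_c7 LD2_c13 LD3_c30)) = (LP (LK LD1_c4 LD2_c24 LD3_c8)) :=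
  Lgr Lrot78 (Lpr_ft (K40.f560667 IH) (Lpr_dt (f418462 IH) (Lpr_ft (f453056 IH) (Lpn (LP (LK LD1_c4 LD2_c24 LD3_c8))))))
theorem f575087 : Led Lsl_gt (LP (LK LD1_c8 LD2_c45 LD3_c25)) = (LP (LK LD1_c4 LD2_c24 LD3_c8)) :=
  Lgr Lrot137 (Lpe (f70427 IH) (Lpe (K40.f420483 IH) (Lpe (K40.f37070 IH) (Lpe (K40.f29463 IH) (Lpr_et (K7.f29453 IH) (Lpe (f197726 IH) (Lpr_ef (f575080 IH) (Lpr_dt (f574944 IH) (Lpr_gf (K36.f160605 IH) (Lpr_df (f560669 IH) (Lpn (LP (LK LD1_c4 LD2_c24 LD3_c8)))))))))))))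
theorem f569358 : Led Lsl_bt (LP (LK LD1_c5 LD2_c49 LD3_c8)) = (LP (LK LD1_c8 LD2_c45 LD3_c25)) :=
  Lgr Lrot119 (Lpr_ef (K42.f569354 IH) (Lpr_bf (K40.f202570 IH) (Lpe (K42.f70428 IH) (Lpn (LP (LK LD1_c8 LD2_c45 LD3_c25))))))
theorem f272491 : Led Lsl_bf (LP (LK LD1_c4 LD2_c41 LD3_c25)) = (LP (LK LD1_c6 LD2_c14 LD3_c39)) :=
  Lgr Lrot24 (Lpr_bt (K42.f272489 IH) (Lpn (LP (LK LD1_c6 LD2_c14 LD3_c39))))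
theorem f127265 : Led Lsl_df (LP (LK LD1_c7 LD2_c32 LD3_c0)) = (LP (LK LD1_c7 LD2_c7 LD3_c29)) :=
  Lgr Lrot38 (Lpr_dt (K8.f127262 IH) (Lpn (LP (LK LD1_c7 LD2_c7 LD3_c29))))
theorem f547062 : Led Lsl_ct (LP (LK LD1_c6 LD2_c14 LD3_c61)) = (LP (LK LD1_c7 LD2_c7 LD3_c29)) :=
  Lgr Lrot40 (Lpr_ff (K37.f449963 IH) (Lpr_cf (K38.f547056 IH) (Lpe (K8.f162159 IH) (Lpn (LP (LK LD1_c7 LD2_c7 LD3_c29))))))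
theorem f418050 : Led Lsl_dt (LP (LK LD1_c3 LD2_c4 LD3_c26)) = (LP (LK LD1_c6 LD2_c14 LD3_c61)) :=
  Lre_d IH (LK LD1_c3 LD2_c4 LD3_c26) (LK LD1_c6 LD2_c14 LD3_c61) Lrfl Lrfl
theorem f563880 : Led Lsl_at (LP (LK LD1_c2 LD2_c50 LD3_c56)) = (LP (LK LD1_c4 LD2_c41 LD3_c25)) :=
  Lgr Lrot33 (Lpe (K37.f449968 IH) (Lpr_dt (f418050 IH) (Lpr_ct (f547062 IH) (Lpe (f127265 IH) (Lpr_ct (K4.f111838 IH) (Lpr_dt (K40.f563869 IH) (Lpr_ct (K40.f538128 IH) (Lpr_dt (K42.f26926 IH) (Lpr_ct (K42.f272493 IH) (Lpn (LP (LK LD1_c4 LD2_c41 LD3_c25))))))))))))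
theorem f565176 : Led Lsl_gf (LP (LK LD1_c4 LD2_c41 LD3_c25)) = (LP (LK LD1_c4 LD2_c39 LD3_c35)) :=
  Lgr Lrot76 (Lpe (f563880 IH) (Lpe (K37.f449968 IH) (Lpr_gt (K41.f565174 IH) (Lpn (LP (LK LD1_c4 LD2_c39 LD3_c35))))))
theorem f229333 : Led Lsl_bt (LP (LK LD1_c2 LD2_c9 LD3_c28)) = (LP (LK LD1_c4 LD2_c24 LD3_c8)) :=
  Lre_b IH (LK LD1_c2 LD2_c9 LD3_c28) (LK LD1_c4 LD2_c24 LD3_c8) Lrfl Lrfl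
theorem f272487 : Led Lsl_cf (LP (LK LD1_c4 LD2_c24 LD3_c8)) = (LP (LK LD1_c4 LD2_c24 LD3_c8)) :=
  Lgr Lrot97 (Lpr_bt (f36597 IH) (Lpr_ct (K42.f272485 IH) (Lpe (K31.f272456 IH) (Lpe (K31.f272458 IH) (Lpr_bt (f229333 IH) (Lpn (LP (LK LD1_c4 LD2_c24 LD3_c8))))))))
theorem f542963 : Led Lsl_dt (LP (LK LD1_c7 LD2_c13 LD3_c30)) = (LP (LK LD1_c4 LD2_c24 LD3_c8)) :=
  Lgr Lrot79 (Lpe (K36.f160585 IH) (Lpr_df (K37.f542960 IH) (Lpe (f36597 IH) (Lpn (LP (LK LD1_c4 LD2_c24 LD3_c8))))))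
theorem f571634 : Led Lsl_gf (LP (LK LD1_c8 LD2_c45 LD3_c25)) = (LP (LK LD1_c4 LD2_c24 LD3_c8)) :=
  Lgr Lrot143 (Lpr_dt (K42.f570642 IH) (Lpe (K28.f5632 IH) (Lpr_df (K42.f571628 IH) (Lpe (K42.f98202 IH) (Lpe (K36.f98195 IH) (Lpr_gf (K3.f10671 IH) (Lpe (K3.f10673 IH) (Lpe (K36.f425495 IH) (Lpr_dt (f542963 IH) (Lpn (LP (LK LD1_c4 LD2_c24 LD3_c8))))))))))))
theorem f499071 : Led Lsl_at (LP (LK LD1_c8 LD2_c45 LD3_c25)) = (LP (LK LD1_c6 LD2_c14 LD3_c9)) :=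
  Lgr Lrot100 (Lpr_af (K42.f499069 IH) (Lpn (LP (LK LD1_c6 LD2_c14 LD3_c9))))
theorem f570677 : Led Lsl_cf (LP (LK LD1_c8 LD2_c45 LD3_c25)) = (LP (LK LD1_c7 LD2_c6 LD3_c24)) :=
  Lgr Lrot1 (Lpr_at (f499071 IH) (Lpr_ct (K42.f546832 IH) (Lpr_at (K42.f570673 IH) (Lpn (LP (LK LD1_c7 LD2_c6 LD3_c24))))))
theorem f575097 : Led Lsl_bf (LP (LK LD1_c4 LD2_c39 LD3_c35)) = (LP (LK LD1_c7 LD2_c6 LD3_c24)) :=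
  Lgr Lrot156 (Lpe (f565176 IH) (Lpr_bf (f272491 IH) (Lpe (K41.f564283 IH) (Lpr_gt (K41.f450235 IH) (Lpe (K42.f176696 IH) (Lpr_bt (f569358 IH) (Lpr_gt (f575087 IH) (Lpe (f272487 IH) (Lpe (f571634 IH) (Lpr_cf (f570677 IH) (Lpn (LP (LK LD1_c7 LD2_c6 LD3_c24)))))))))))))
theorem f570663 : Led Lsl_bf (LP (LK LD1_c7 LD2_c8 LD3_c15)) = (LP (LK LD1_c5 LD2_c49 LD3_c38)) :=
  Lgr Lrot24 (Lpr_bt (K42.f570661 IH) (Lpn (LP (LK LD1_c5 LD2_c49 LD3_c38))))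
theorem f565156 : Led Lsl_at (LP (LK LD1_c6 LD2_c14 LD3_c60)) = (LP (LK LD1_c5 LD2_c49 LD3_c38)) :=
  Lgr Lrot80 (Lpr_ef (K41.f565154 IH) (Lpe (K36.f498341 IH) (Lpe (K41.f547081 IH) (Lpn (LP (LK LD1_c5 LD2_c49 LD3_c38))))))
theorem f575109 : Led Lsl_bt (LP (LK LD1_c5 LD2_c46 LD3_c23)) = (LP (LK LD1_c6 LD2_c14 LD3_c60)) :=
  Lgr Lrot62 (Lpe (K42.f499294 IH) (Lpr_bf (f575097 IH) (Lpe (K42.f570673 IH) (Lpr_bf (f570663 IH) (Lpe (f565156 IH) (Lpn (LP (LK LD1_c6 LD2_c14 LD3_c60))))))))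
theorem f575111 : Led Lsl_bf (LP (LK LD1_c11 LD2_c23 LD3_c1)) = (LP (LK LD1_c12 LD2_c8 LD3_c19)) :=
  Lgr Lrot93 (Lpr_dt (K38.f425839 IH) (Lpr_bt (f575109 IH) (Lpr_dt (K42.f418508 IH) (Lpn (LP (LK LD1_c12 LD2_c8 LD3_c19))))))
theorem f158172 : Led Lsl_et (LP (LK LD1_c8 LD2_c49 LD3_c36)) = (LP (LK LD1_c4 LD2_c26 LD3_c6)) :=
  Lre_e IH (LK LD1_c8 LD2_c49 LD3_c36) (LK LD1_c4 LD2_c26 LD3_c6) Lrfl Lrfl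
theorem f161547 : Led Lsl_dt (LP (LK LD1_c16 LD2_c30 LD3_c17)) = (LP (LK LD1_c8 LD2_c49 LD3_c36)) :=
  Lre_d IH (LK LD1_c16 LD2_c30 LD3_c17) (LK LD1_c8 LD2_c49 LD3_c36) Lrfl Lrfl
theorem f161548 : Led Lsl_et (LP (LK LD1_c11 LD2_c23 LD3_c1)) = (LP (LK LD1_c16 LD2_c30 LD3_c17)) :=
  Lgr Lrot71 (Lpe (K38.f100243 IH) (Lpe (K38.f161546 IH) (Lpr_df (K8.f161544 IH) (Lpe (f158172 IH) (Lpe (f161547 IH) (Lpn (LP (LK LD1_c16 LD2_c30 LD3_c17))))))))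
theorem f575115 : Led Lsl_et (LP (LK LD1_c21 LD2_c14 LD3_c38)) = (LP (LK LD1_c12 LD2_c8 LD3_c19)) :=
  Lre_e IH (LK LD1_c21 LD2_c14 LD3_c38) (LK LD1_c12 LD2_c8 LD3_c19) Lrfl Lrfl
theorem f575116 : Led Lsl_bt (LP (LK LD1_c16 LD2_c30 LD3_c17)) = (LP (LK LD1_c21 LD2_c14 LD3_c38)) :=
  Lgr Lrot119 (Lpe (f161548 IH) (Lpr_bf (f575111 IH) (Lpe (f575115 IH) (Lpn (LP (LK LD1_c21 LD2_c14 LD3_c38))))))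
theorem f136951 : Led Lsl_et (LP (LK LD1_c6 LD2_c51 LD3_c51)) = (LP (LK LD1_c13 LD2_c3 LD3_c15)) :=
  Lre_e IH (LK LD1_c6 LD2_c51 LD3_c51) (LK LD1_c13 LD2_c3 LD3_c15) Lrfl Lrfl
theorem f425849 : Led Lsl_ef (LP (LK LD1_c11 LD2_c23 LD3_c1)) = (LP (LK LD1_c16 LD2_c30 LD3_c17)) :=
  Lgr Lrot88 (Lpr_et (f161548 IH) (Lpn (LP (LK LD1_c16 LD2_c30 LD3_c17))))
theorem f548759 : Led Lsl_ct (LP (LK LD1_c13 LD2_c3 LD3_c15)) = (LP (LK LD1_c16 LD2_c30 LD3_c17)) :=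
  Lgr Lrot15 (Lpe (f136951 IH) (Lpr_cf (K38.f548751 IH) (Lpr_ef (f425849 IH) (Lpn (LP (LK LD1_c16 LD2_c30 LD3_c17))))))
theorem f65975 : Led Lsl_et (LP (LK LD1_c12 LD2_c36 LD3_c5)) = (LP (LK LD1_c6 LD2_c34 LD3_c54)) :=
  Lre_e IH (LK LD1_c12 LD2_c36 LD3_c5) (LK LD1_c6 LD2_c34 LD3_c54) Lrfl Lrfl
theorem f136952 : Led Lsl_bt (LP (LK LD1_c13 LD2_c3 LD3_c15)) = (LP (LK LD1_c12 LD2_c36 LD3_c5)) :=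
  Lgr Lrot119 (Lpe (f136951 IH) (Lpr_bf (K37.f136947 IH) (Lpe (f65975 IH) (Lpn (LP (LK LD1_c12 LD2_c36 LD3_c5))))))
theorem f136954 : Led Lsl_bf (LP (LK LD1_c13 LD2_c3 LD3_c15)) = (LP (LK LD1_c12 LD2_c36 LD3_c5)) :=
  Lgr Lrot24 (Lpr_bt (f136952 IH) (Lpn (LP (LK LD1_c12 LD2_c36 LD3_c5))))
theorem f136942 : Led Lsl_et (LP (LK LD1_c3 LD2_c29 LD3_c58)) = (LP (LK LD1_c7 LD2_c1 LD3_c34)) :=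
  Lre_e IH (LK LD1_c3 LD2_c29 LD3_c58) (LK LD1_c7 LD2_c1 LD3_c34) Lrfl Lrfl
theorem f136943 : Led Lsl_ct (LP (LK LD1_c7 LD2_c1 LD3_c34)) = (LP (LK LD1_c12 LD2_c36 LD3_c5)) :=
  Lgr Lrot15 (Lpe (f136942 IH) (Lpr_cf (K6.f136936 IH) (Lpe (f65975 IH) (Lpn (LP (LK LD1_c12 LD2_c36 LD3_c5))))))
theorem f136956 : Led Lsl_bt (LP (LK LD1_c13 LD2_c19 LD3_c33)) = (LP (LK LD1_c7 LD2_c1 LD3_c34)) :=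
  Lre_b IH (LK LD1_c13 LD2_c19 LD3_c33) (LK LD1_c7 LD2_c1 LD3_c34) Lrfl Lrfl
theorem f575120 : Led Lsl_cf (LP (LK LD1_c13 LD2_c19 LD3_c33)) = (LP (LK LD1_c21 LD2_c14 LD3_c38)) :=
  Lgr Lrot97 (Lpr_bt (f136956 IH) (Lpr_ct (f136943 IH) (Lpe (f136954 IH) (Lpr_ct (f548759 IH) (Lpr_bt (f575116 IH) (Lpn (LP (LK LD1_c21 LD2_c14 LD3_c38))))))))
theorem f575124 : Led Lsl_ct (LP (LK LD1_c13 LD2_c19 LD3_c33)) = (LP (LK LD1_c21 LD2_c14 LD3_c38)) :=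
  Lgr Lrot59 (Lpr_cf (f575120 IH) (Lpn (LP (LK LD1_c21 LD2_c14 LD3_c38))))
theorem f137157 : Led Lsl_cf (LP (LK LD1_c7 LD2_c1 LD3_c34)) = (LP (LK LD1_c12 LD2_c36 LD3_c5)) :=
  Lgr Lrot11 (Lpr_ct (f136943 IH) (Lpn (LP (LK LD1_c12 LD2_c36 LD3_c5))))
theorem f575118 : Led Lsl_bf (LP (LK LD1_c16 LD2_c30 LD3_c17)) = (LP (LK LD1_c21 LD2_c14 LD3_c38)) :=
  Lgr Lrot24 (Lpr_bt (f575116 IH) (Lpn (LP (LK LD1_c21 LD2_c14 LD3_c38))))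
theorem f575132 : Led Lsl_cf (LP (LK LD1_c13 LD2_c3 LD3_c15)) = (LP (LK LD1_c16 LD2_c30 LD3_c17)) :=
  Lgr Lrot97 (Lpr_bt (f136952 IH) (Lpe (f137157 IH) (Lpr_bt (K36.f137165 IH) (Lpr_ct (f575124 IH) (Lpe (f575118 IH) (Lpn (LP (LK LD1_c16 LD2_c30 LD3_c17))))))))
theorem f80225 : Led Lsl_et (LP (LK LD1_c2 LD2_c10 LD3_c22)) = (LP (LK LD1_c4 LD2_c26 LD3_c12)) :=
  Lre_e IH (LK LD1_c2 LD2_c10 LD3_c22) (LK LD1_c4 LD2_c26 LD3_c12) Lrfl Lrfl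
theorem f499028 : Led Lsl_at (LP (LK LD1_c4 LD2_c26 LD3_c12)) = (LP (LK LD1_c8 LD2_c49 LD3_c36)) :=
  Lgr Lrot80 (Lpe (f80225 IH) (Lpr_af (K36.f499019 IH) (Lpe (f158172 IH) (Lpn (LP (LK LD1_c8 LD2_c49 LD3_c36))))))
theorem f80238 : Led Lsl_dt (LP (LK LD1_c8 LD2_c49 LD3_c49)) = (LP (LK LD1_c4 LD2_c26 LD3_c12)) :=
  Lre_d IH (LK LD1_c8 LD2_c49 LD3_c49) (LK LD1_c4 LD2_c26 LD3_c12) Lrfl Lrfl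
theorem f158173 : Led Lsl_dt (LP (LK LD1_c8 LD2_c49 LD3_c36)) = (LP (LK LD1_c16 LD2_c30 LD3_c17)) :=
  Lre_d IH (LK LD1_c8 LD2_c49 LD3_c36) (LK LD1_c16 LD2_c30 LD3_c17) Lrfl Lrfl
theorem f499034 : Led Lsl_af (LP (LK LD1_c8 LD2_c49 LD3_c49)) = (LP (LK LD1_c16 LD2_c30 LD3_c17)) :=
  Lgr Lrot117 (Lpr_dt (f80238 IH) (Lpr_at (f499028 IH) (Lpr_dt (f158173 IH) (Lpn (LP (LK LD1_c16 LD2_c30 LD3_c17))))))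
theorem f499037 : Led Lsl_at (LP (LK LD1_c8 LD2_c49 LD3_c49)) = (LP (LK LD1_c16 LD2_c30 LD3_c17)) :=
  Lgr Lrot100 (Lpr_af (f499034 IH) (Lpn (LP (LK LD1_c16 LD2_c30 LD3_c17))))
theorem f575134 : Led Lsl_ct (LP (LK LD1_c13 LD2_c20 LD3_c4)) = (LP (LK LD1_c8 LD2_c49 LD3_c49)) :=
  Lgr Lrot111 (Lpr_af (K41.f426876 IH) (Lpr_cf (f575132 IH) (Lpe (f499037 IH) (Lpn (LP (LK LD1_c8 LD2_c49 LD3_c49))))))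
theorem f575138 : Led Lsl_ef (LP (LK LD1_c7 LD2_c18 LD3_c47)) = (LP (LK LD1_c8 LD2_c49 LD3_c49)) :=
  Lgr Lrot28 (Lpr_ct (K24.f116642 IH) (Lpr_et (K41.f116646 IH) (Lpr_ct (f575134 IH) (Lpn (LP (LK LD1_c8 LD2_c49 LD3_c49))))))
theorem f575146 : Led Lsl_et (LP (LK LD1_c7 LD2_c18 LD3_c47)) = (LP (LK LD1_c8 LD2_c49 LD3_c49)) :=
  Lgr Lrot87 (Lpr_ef (f575138 IH) (Lpn (LP (LK LD1_c8 LD2_c49 LD3_c49))))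
theorem f575151 : Led Lsl_bf (LP (LK LD1_c7 LD2_c18 LD3_c49)) = (LP (LK LD1_c8 LD2_c49 LD3_c49)) :=
  Lgr Lrot96 (Lpr_et (K28.f5556 IH) (Lpr_bt (K24.f109559 IH) (Lpr_et (f575146 IH) (Lpn (LP (LK LD1_c8 LD2_c49 LD3_c49))))))
theorem f575136 : Led Lsl_cf (LP (LK LD1_c13 LD2_c20 LD3_c4)) = (LP (LK LD1_c8 LD2_c49 LD3_c49)) :=
  Lgr Lrot11 (Lpr_ct (f575134 IH) (Lpn (LP (LK LD1_c8 LD2_c49 LD3_c49))))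
theorem f108482 : Led Lsl_ct (LP (LK LD1_c3 LD2_c36 LD3_c12)) = (LP (LK LD1_c1 LD2_c44 LD3_c58)) :=
  Lre_c IH (LK LD1_c3 LD2_c36 LD3_c12) (LK LD1_c1 LD2_c44 LD3_c58) Lrfl Lrfl
theorem f575157 : Led Lsl_gf (LP (LK LD1_c7 LD2_c18 LD3_c49)) = (LP (LK LD1_c7 LD2_c12 LD3_c46)) :=
  Lgr Lrot124 (Lpr_bf (f575151 IH) (Lpe (f575136 IH) (Lpe (K41.f564367 IH) (Lpe (K33.f466270 IH) (Lpr_bt (K28.f17898 IH) (Lpr_gt (K28.f108416 IH) (Lpr_ct (K24.f108258 IH) (Lpe (K33.f108476 IH) (Lpe (f108482 IH) (Lpr_bt (K33.f108483 IH) (Lpn (LP (LK LD1_c7 LD2_c12 LD3_c46)))))))))))))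
theorem f470729 : Led Lsl_gt (LP (LK LD1_c7 LD2_c12 LD3_c21)) = (LP (LK LD1_c13 LD2_c38 LD3_c43)) :=
  Lre_g IH (LK LD1_c7 LD2_c12 LD3_c21) (LK LD1_c13 LD2_c38 LD3_c43) Lrfl Lrfl
theorem f511051 : Led Lsl_gt (LP (LK LD1_c13 LD2_c38 LD3_c43)) = (LP (LK LD1_c7 LD2_c12 LD3_c46)) :=
  Lgr Lrot46 (Lpe (f470729 IH) (Lpr_ft (K33.f511047 IH) (Lpr_at (K33.f510938 IH) (Lpn (LP (LK LD1_c7 LD2_c12 LD3_c46))))))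
theorem f575159 : Led Lsl_ff (LP (LK LD1_c7 LD2_c16 LD3_c46)) = (LP (LK LD1_c13 LD2_c38 LD3_c43)) :=
  Lgr Lrot52 (Lpe (K28.f426678 IH) (Lpr_gf (f575157 IH) (Lpe (f511051 IH) (Lpn (LP (LK LD1_c13 LD2_c38 LD3_c43))))))
theorem f575165 : Led Lsl_ft (LP (LK LD1_c7 LD2_c16 LD3_c46)) = (LP (LK LD1_c13 LD2_c38 LD3_c43)) :=
  Lgr Lrot48 (Lpr_ff (f575159 IH) (Lpn (LP (LK LD1_c13 LD2_c38 LD3_c43))))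
theorem f575171 : Led Lsl_af (LP (LK LD1_c13 LD2_c27 LD3_c7)) = (LP (LK LD1_c13 LD2_c38 LD3_c43)) :=
  Lgr Lrot31 (Lpe (K41.f489463 IH) (Lpr_gf (K41.f564325 IH) (Lpr_ft (f575165 IH) (Lpn (LP (LK LD1_c13 LD2_c38 LD3_c43))))))
theorem f426680 : Led Lsl_at (LP (LK LD1_c7 LD2_c18 LD3_c49)) = (LP (LK LD1_c7 LD2_c16 LD3_c46)) :=
  Lgr Lrot100 (Lpr_af (K28.f426678 IH) (Lpn (LP (LK LD1_c7 LD2_c16 LD3_c46))))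
theorem f575175 : Led Lsl_ft (LP (LK LD1_c13 LD2_c27 LD3_c7)) = (LP (LK LD1_c7 LD2_c18 LD3_c49)) :=
  Lgr Lrot101 (Lpr_af (f575171 IH) (Lpe (f575165 IH) (Lpe (f426680 IH) (Lpn (LP (LK LD1_c7 LD2_c18 LD3_c49))))))
theorem f575186 : Led Lsl_ff (LP (LK LD1_c13 LD2_c27 LD3_c7)) = (LP (LK LD1_c7 LD2_c18 LD3_c49)) :=
  Lgr Lrot3 (Lpr_ft (f575175 IH) (Lpn (LP (LK LD1_c7 LD2_c18 LD3_c49))))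
theorem f426668 : Led Lsl_et (LP (LK LD1_c3 LD2_c39 LD3_c17)) = (LP (LK LD1_c7 LD2_c18 LD3_c49)) :=
  Lre_e IH (LK LD1_c3 LD2_c39 LD3_c17) (LK LD1_c7 LD2_c18 LD3_c49) Lrfl Lrfl
theorem f5634 : Led Lsl_et (LP (LK LD1_c7 LD2_c16 LD3_c46)) = (LP (LK LD1_c3 LD2_c38 LD3_c12)) :=
  Lre_e IH (LK LD1_c7 LD2_c16 LD3_c46) (LK LD1_c3 LD2_c38 LD3_c12) Lrfl Lrfl
theorem f575192 : Led Lsl_et (LP (LK LD1_c13 LD2_c27 LD3_c7)) = (LP (LK LD1_c13 LD2_c38 LD3_c43)) :=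
  Lgr Lrot69 (Lpr_ff (f575186 IH) (Lpe (f426668 IH) (Lpr_ff (K28.f426664 IH) (Lpe (f5634 IH) (Lpr_ff (f575159 IH) (Lpn (LP (LK LD1_c13 LD2_c38 LD3_c43))))))))
theorem f575144 : Led Lsl_bt (LP (LK LD1_c7 LD2_c18 LD3_c49)) = (LP (LK LD1_c8 LD2_c49 LD3_c49)) :=
  Lgr Lrot119 (Lpe (f426668 IH) (Lpe (K24.f5555 IH) (Lpr_ef (f575138 IH) (Lpn (LP (LK LD1_c8 LD2_c49 LD3_c49))))))
theorem f499039 : Led Lsl_ft (LP (LK LD1_c8 LD2_c49 LD3_c49)) = (LP (LK LD1_c16 LD2_c30 LD3_c31)) :=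
  Lre_f IH (LK LD1_c8 LD2_c49 LD3_c49) (LK LD1_c16 LD2_c30 LD3_c31) Lrfl Lrfl
theorem f575177 : Led Lsl_bf (LP (LK LD1_c13 LD2_c27 LD3_c7)) = (LP (LK LD1_c16 LD2_c30 LD3_c31)) :=
  Lgr Lrot61 (Lpr_ft (f575175 IH) (Lpr_bt (f575144 IH) (Lpr_ft (f499039 IH) (Lpn (LP (LK LD1_c16 LD2_c30 LD3_c31))))))
theorem f513518 : Led Lsl_bt (LP (LK LD1_c13 LD2_c38 LD3_c43)) = (LP (LK LD1_c23 LD2_c3 LD3_c45)) :=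
  Lre_b IH (LK LD1_c13 LD2_c38 LD3_c43) (LK LD1_c23 LD2_c3 LD3_c45) Lrfl Lrfl
theorem f575194 : Led Lsl_ef (LP (LK LD1_c16 LD2_c30 LD3_c31)) = (LP (LK LD1_c23 LD2_c3 LD3_c45)) :=
  Lgr Lrot29 (Lpe (f575177 IH) (Lpr_et (f575192 IH) (Lpr_bt (f513518 IH) (Lpn (LP (LK LD1_c23 LD2_c3 LD3_c45))))))
theorem f575198 : Led Lsl_et (LP (LK LD1_c16 LD2_c30 LD3_c31)) = (LP (LK LD1_c23 LD2_c3 LD3_c45)) :=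
  Lgr Lrot87 (Lpr_ef (f575194 IH) (Lpn (LP (LK LD1_c23 LD2_c3 LD3_c45))))
theorem f426696 : Led Lsl_ft (LP (LK LD1_c22 LD2_c36 LD3_c29)) = (LP (LK LD1_c13 LD2_c20 LD3_c4)) :=
  Lre_f IH (LK LD1_c22 LD2_c36 LD3_c29) (LK LD1_c13 LD2_c20 LD3_c4) Lrfl Lrfl
theorem f575140 : Led Lsl_cf (LP (LK LD1_c22 LD2_c36 LD3_c29)) = (LP (LK LD1_c16 LD2_c30 LD3_c31)) :=
  Lgr Lrot108 (Lpr_ft (f426696 IH) (Lpr_ct (f575134 IH) (Lpr_ft (f499039 IH) (Lpn (LP (LK LD1_c16 LD2_c30 LD3_c31))))))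
theorem f575142 : Led Lsl_ct (LP (LK LD1_c22 LD2_c36 LD3_c29)) = (LP (LK LD1_c16 LD2_c30 LD3_c31)) :=
  Lgr Lrot59 (Lpr_cf (f575140 IH) (Lpn (LP (LK LD1_c16 LD2_c30 LD3_c31))))
theorem f488206 : Led Lsl_at (LP (LK LD1_c13 LD2_c3 LD3_c26)) = (LP (LK LD1_c6 LD2_c51 LD3_c58)) :=
  Lre_a IH (LK LD1_c13 LD2_c3 LD3_c26) (LK LD1_c6 LD2_c51 LD3_c58) Lrfl Lrfl
theorem f513479 : Led Lsl_ct (LP (LK LD1_c7 LD2_c12 LD3_c32)) = (LP (LK LD1_c13 LD2_c3 LD3_c26)) :=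
  Lgr Lrot111 (Lpr_af (K34.f513477 IH) (Lpe (K34.f488204 IH) (Lpe (f488206 IH) (Lpn (LP (LK LD1_c13 LD2_c3 LD3_c26))))))
theorem f511054 : Led Lsl_bt (LP (LK LD1_c23 LD2_c3 LD3_c45)) = (LP (LK LD1_c13 LD2_c38 LD3_c43)) :=
  Lre_b IH (LK LD1_c23 LD2_c3 LD3_c45) (LK LD1_c13 LD2_c38 LD3_c43) Lrfl Lrfl
theorem f513516 : Led Lsl_ct (LP (LK LD1_c23 LD2_c3 LD3_c45)) = (LP (LK LD1_c22 LD2_c12 LD3_c36)) :=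
  Lgr Lrot63 (Lpr_bt (f511054 IH) (Lpr_gt (f511051 IH) (Lpe (K33.f108483 IH) (Lpr_ct (f108482 IH) (Lpr_gt (K33.f17827 IH) (Lpe (K28.f17805 IH) (Lpr_bt (K34.f17872 IH) (Lpr_gt (K34.f17891 IH) (Lpr_ct (f513479 IH) (Lpe (K41.f512706 IH) (Lpn (LP (LK LD1_c22 LD2_c12 LD3_c36)))))))))))))
theorem f575200 : Led Lsl_ef (LP (LK LD1_c22 LD2_c36 LD3_c29)) = (LP (LK LD1_c22 LD2_c12 LD3_c36)) :=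
  Lgr Lrot28 (Lpr_ct (f575142 IH) (Lpr_et (f575198 IH) (Lpr_ct (f513516 IH) (Lpn (LP (LK LD1_c22 LD2_c12 LD3_c36))))))
theorem f94917 : Led Lsl_et (LP (LK LD1_c13 LD2_c20 LD3_c4)) = (LP (LK LD1_c7 LD2_c1 LD3_c49)) :=
  Lre_e IH (LK LD1_c13 LD2_c20 LD3_c4) (LK LD1_c7 LD2_c1 LD3_c49) Lrfl Lrfl
theorem f575204 : Led Lsl_ft (LP (LK LD1_c13 LD2_c3 LD3_c16)) = (LP (LK LD1_c22 LD2_c12 LD3_c36)) :=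
  Lgr Lrot86 (Lpe (K7.f116573 IH) (Lpe (K36.f426692 IH) (Lpe (f94917 IH) (Lpe (f426696 IH) (Lpr_ef (f575200 IH) (Lpn (LP (LK LD1_c22 LD2_c12 LD3_c36))))))))
theorem f575212 : Led Lsl_ff (LP (LK LD1_c13 LD2_c3 LD3_c16)) = (LP (LK LD1_c22 LD2_c12 LD3_c36)) :=
  Lgr Lrot3 (Lpr_ft (f575204 IH) (Lpn (LP (LK LD1_c22 LD2_c12 LD3_c36))))
theorem f426708 : Led Lsl_af (LP (LK LD1_c13 LD2_c19 LD3_c33)) = (LP (LK LD1_c13 LD2_c3 LD3_c16)) :=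
  Lgr Lrot0 (Lpr_at (K36.f426706 IH) (Lpn (LP (LK LD1_c13 LD2_c3 LD3_c16))))
theorem f575218 : Led Lsl_gf (LP (LK LD1_c13 LD2_c19 LD3_c33)) = (LP (LK LD1_c13 LD2_c2 LD3_c54)) :=
  Lgr Lrot76 (Lpr_af (f426708 IH) (Lpr_ff (f575212 IH) (Lpr_gt (K41.f476500 IH) (Lpn (LP (LK LD1_c13 LD2_c2 LD3_c54))))))
theorem f458352 : Led Lsl_bt (LP (LK LD1_c6 LD2_c52 LD3_c9)) = (LP (LK LD1_c3 LD2_c24 LD3_c50)) :=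
  Lre_b IH (LK LD1_c6 LD2_c52 LD3_c9) (LK LD1_c3 LD2_c24 LD3_c50) Lrfl Lrfl
theorem f458359 : Led Lsl_et (LP (LK LD1_c6 LD2_c52 LD3_c7)) = (LP (LK LD1_c3 LD2_c24 LD3_c49)) :=
  Lre_e IH (LK LD1_c6 LD2_c52 LD3_c7) (LK LD1_c3 LD2_c24 LD3_c49) Lrfl Lrfl
theorem f63701 : Led Lsl_et (LP (LK LD1_c3 LD2_c29 LD3_c6)) = (LP (LK LD1_c6 LD2_c59 LD3_c61)) :=
  Lre_e IH (LK LD1_c3 LD2_c29 LD3_c6) (LK LD1_c6 LD2_c59 LD3_c61) Lrfl Lrfl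
theorem f458360 : Led Lsl_cf (LP (LK LD1_c6 LD2_c52 LD3_c7)) = (LP (LK LD1_c6 LD2_c59 LD3_c61)) :=
  Lgr Lrot39 (Lpr_et (f458359 IH) (Lpr_ct (K28.f458349 IH) (Lpr_et (f63701 IH) (Lpn (LP (LK LD1_c6 LD2_c59 LD3_c61))))))
theorem f458386 : Led Lsl_ct (LP (LK LD1_c6 LD2_c52 LD3_c7)) = (LP (LK LD1_c6 LD2_c59 LD3_c61)) :=
  Lgr Lrot59 (Lpr_cf (f458360 IH) (Lpn (LP (LK LD1_c6 LD2_c59 LD3_c61))))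
theorem f458388 : Led Lsl_bt (LP (LK LD1_c3 LD2_c24 LD3_c52)) = (LP (LK LD1_c6 LD2_c52 LD3_c7)) :=
  Lre_b IH (LK LD1_c3 LD2_c24 LD3_c52) (LK LD1_c6 LD2_c52 LD3_c7) Lrfl Lrfl
theorem f458389 : Led Lsl_ct (LP (LK LD1_c6 LD2_c52 LD3_c11)) = (LP (LK LD1_c3 LD2_c24 LD3_c52)) :=
  Lre_c IH (LK LD1_c6 LD2_c52 LD3_c11) (LK LD1_c3 LD2_c24 LD3_c52) Lrfl Lrfl
theorem f458390 : Led Lsl_bt (LP (LK LD1_c13 LD2_c3 LD3_c54)) = (LP (LK LD1_c6 LD2_c52 LD3_c11)) :=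
  Lre_b IH (LK LD1_c13 LD2_c3 LD3_c54) (LK LD1_c6 LD2_c52 LD3_c11) Lrfl Lrfl
theorem f64151 : Led Lsl_bt (LP (LK LD1_c6 LD2_c59 LD3_c61)) = (LP (LK LD1_c13 LD2_c16 LD3_c56)) :=
  Lre_b IH (LK LD1_c6 LD2_c59 LD3_c61) (LK LD1_c13 LD2_c16 LD3_c56) Lrfl Lrfl
theorem f458391 : Led Lsl_cf (LP (LK LD1_c13 LD2_c3 LD3_c54)) = (LP (LK LD1_c13 LD2_c16 LD3_c56)) :=
  Lgr Lrot97 (Lpr_bt (f458390 IH) (Lpr_ct (f458389 IH) (Lpr_bt (f458388 IH) (Lpr_ct (f458386 IH) (Lpr_bt (f64151 IH) (Lpn (LP (LK LD1_c13 LD2_c16 LD3_c56))))))))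
theorem f458397 : Led Lsl_et (LP (LK LD1_c13 LD2_c3 LD3_c54)) = (LP (LK LD1_c6 LD2_c52 LD3_c9)) :=
  Lre_e IH (LK LD1_c13 LD2_c3 LD3_c54) (LK LD1_c6 LD2_c52 LD3_c9) Lrfl Lrfl
theorem f64156 : Led Lsl_et (LP (LK LD1_c6 LD2_c59 LD3_c59)) = (LP (LK LD1_c13 LD2_c16 LD3_c56)) :=
  Lre_e IH (LK LD1_c6 LD2_c59 LD3_c59) (LK LD1_c13 LD2_c16 LD3_c56) Lrfl Lrfl
theorem f458398 : Led Lsl_ct (LP (LK LD1_c6 LD2_c52 LD3_c9)) = (LP (LK LD1_c6 LD2_c59 LD3_c59)) :=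
  Lgr Lrot15 (Lpe (f458397 IH) (Lpr_cf (f458391 IH) (Lpe (f64156 IH) (Lpn (LP (LK LD1_c6 LD2_c59 LD3_c59))))))
theorem f575226 : Led Lsl_gt (LP (LK LD1_c12 LD2_c36 LD3_c5)) = (LP (LK LD1_c6 LD2_c59 LD3_c59)) :=
  Lgr Lrot65 (Lpe (f136943 IH) (Lpr_bt (K36.f137165 IH) (Lpr_gf (f575218 IH) (Lpe (K41.f473450 IH) (Lpr_ct (K34.f473451 IH) (Lpr_gf (K29.f473438 IH) (Lpe (K28.f468303 IH) (Lpe (K29.f18586 IH) (Lpe (f458352 IH) (Lpr_ct (f458398 IH) (Lpn (LP (LK LD1_c6 LD2_c59 LD3_c59)))))))))))))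
theorem f137162 : Led Lsl_gt (LP (LK LD1_c13 LD2_c19 LD3_c34)) = (LP (LK LD1_c7 LD2_c1 LD3_c34)) :=
  Lre_g IH (LK LD1_c13 LD2_c19 LD3_c34) (LK LD1_c7 LD2_c1 LD3_c34) Lrfl Lrfl
theorem f459190 : Led Lsl_gt (LP (LK LD1_c7 LD2_c4 LD3_c51)) = (LP (LK LD1_c13 LD2_c25 LD3_c18)) :=
  Lre_g IH (LK LD1_c7 LD2_c4 LD3_c51) (LK LD1_c13 LD2_c25 LD3_c18) Lrfl Lrfl
theorem f533304 : Led Lsl_gf (LP (LK LD1_c23 LD2_c28 LD3_c32)) = (LP (LK LD1_c23 LD2_c39 LD3_c4)) :=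
  Lgr Lrot76 (Lpe (K34.f122575 IH) (Lpr_ff (K34.f531931 IH) (Lpr_gt (K34.f533302 IH) (Lpn (LP (LK LD1_c23 LD2_c39 LD3_c4))))))
theorem f122595 : Led Lsl_at (LP (LK LD1_c23 LD2_c28 LD3_c32)) = (LP (LK LD1_c13 LD2_c56 LD3_c54)) :=
  Lre_a IH (LK LD1_c23 LD2_c28 LD3_c32) (LK LD1_c13 LD2_c56 LD3_c54) Lrfl Lrfl
theorem f532107 : Led Lsl_bt (LP (LK LD1_c22 LD2_c44 LD3_c5)) = (LP (LK LD1_c23 LD2_c28 LD3_c32)) :=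
  Lgr Lrot62 (Lpr_af (K34.f532103 IH) (Lpe (K34.f437720 IH) (Lpe (K34.f531909 IH) (Lpe (K34.f122579 IH) (Lpe (f122595 IH) (Lpn (LP (LK LD1_c23 LD2_c28 LD3_c32))))))))
theorem f439180 : Led Lsl_gt (LP (LK LD1_c31 LD2_c4 LD3_c27)) = (LP (LK LD1_c23 LD2_c28 LD3_c26)) :=
  Lre_g IH (LK LD1_c31 LD2_c4 LD3_c27) (LK LD1_c23 LD2_c28 LD3_c26) Lrfl Lrfl
theorem f532202 : Led Lsl_gt (LP (LK LD1_c30 LD2_c41 LD3_c10)) = (LP (LK LD1_c31 LD2_c4 LD3_c27)) :=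
  Lgr Lrot5 (Lpr_ft (K34.f532197 IH) (Lpe (K34.f532022 IH) (Lpe (f439180 IH) (Lpn (LP (LK LD1_c31 LD2_c4 LD3_c27))))))
theorem f533322 : Led Lsl_cf (LP (LK LD1_c31 LD2_c4 LD3_c27)) = (LP (LK LD1_c23 LD2_c37 LD3_c4)) :=
  Lgr Lrot58 (Lpe (f532202 IH) (Lpe (K34.f468203 IH) (Lpr_bt (f532107 IH) (Lpr_gf (f533304 IH) (Lpr_bf (K34.f489447 IH) (Lpe (K34.f533306 IH) (Lpe (K34.f462918 IH) (Lpe (K34.f462896 IH) (Lpr_gf (K34.f533317 IH) (Lpe (K34.f436342 IH) (Lpn (LP (LK LD1_c23 LD2_c37 LD3_c4)))))))))))))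
theorem f533326 : Led Lsl_ct (LP (LK LD1_c31 LD2_c4 LD3_c27)) = (LP (LK LD1_c23 LD2_c37 LD3_c4)) :=
  Lgr Lrot59 (Lpr_cf (f533322 IH) (Lpn (LP (LK LD1_c23 LD2_c37 LD3_c4))))
theorem f147796 : Led Lsl_ct (LP (LK LD1_c12 LD2_c34 LD3_c52)) = (LP (LK LD1_c14 LD2_c3 LD3_c55)) :=
  Lgr Lrot15 (Lpe (K7.f111134 IH) (Lpr_cf (K7.f147782 IH) (Lpe (K7.f147795 IH) (Lpn (LP (LK LD1_c14 LD2_c3 LD3_c55))))))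
theorem f111247 : Led Lsl_gt (LP (LK LD1_c21 LD2_c41 LD3_c14)) = (LP (LK LD1_c12 LD2_c34 LD3_c52)) :=
  Lre_g IH (LK LD1_c21 LD2_c41 LD3_c14) (LK LD1_c12 LD2_c34 LD3_c52) Lrfl Lrfl
theorem f533330 : Led Lsl_ct (LP (LK LD1_c13 LD2_c25 LD3_c18)) = (LP (LK LD1_c21 LD2_c41 LD3_c14)) :=
  Lgr Lrot152 (Lpe (f459190 IH) (Lpe (K39.f466139 IH) (Lpr_gt (K34.f466131 IH) (Lpr_ct (K34.f468203 IH) (Lpr_gt (f532202 IH) (Lpr_ct (f533326 IH) (Lpe (K34.f147828 IH) (Lpe (f147796 IH) (Lpe (f111247 IH) (Lpn (LP (LK LD1_c21 LD2_c41 LD3_c14))))))))))))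
theorem f533332 : Led Lsl_cf (LP (LK LD1_c13 LD2_c25 LD3_c18)) = (LP (LK LD1_c21 LD2_c41 LD3_c14)) :=
  Lgr Lrot11 (Lpr_ct (f533330 IH) (Lpn (LP (LK LD1_c21 LD2_c41 LD3_c14))))
theorem f575228 : Led Lsl_bf (LP (LK LD1_c13 LD2_c19 LD3_c34)) = (LP (LK LD1_c21 LD2_c41 LD3_c14)) :=
  Lgr Lrot165 (Lpr_gt (f137162 IH) (Lpr_ct (f136943 IH) (Lpr_gt (f575226 IH) (Lpe (f458398 IH) (Lpr_bt (f458352 IH) (Lpr_gt (K29.f18586 IH) (Lpe (K28.f98763 IH) (Lpr_ct (K34.f469126 IH) (Lpr_gt (f459190 IH) (Lpr_cf (f533332 IH) (Lpn (LP (LK LD1_c21 LD2_c41 LD3_c14)))))))))))))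
theorem f426719 : Led Lsl_ft (LP (LK LD1_c20 LD2_c41 LD3_c51)) = (LP (LK LD1_c11 LD2_c41 LD3_c47)) :=
  Lre_f IH (LK LD1_c20 LD2_c41 LD3_c51) (LK LD1_c11 LD2_c41 LD3_c47) Lrfl Lrfl
theorem f426722 : Led Lsl_gf (LP (LK LD1_c13 LD2_c19 LD3_c34)) = (LP (LK LD1_c20 LD2_c41 LD3_c51)) :=
  Lgr Lrot47 (Lpr_gt (f137162 IH) (Lpr_af (K36.f426710 IH) (Lpe (f426719 IH) (Lpn (LP (LK LD1_c20 LD2_c41 LD3_c51))))))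
theorem f468167 : Led Lsl_ft (LP (LK LD1_c7 LD2_c4 LD3_c51)) = (LP (LK LD1_c3 LD2_c43 LD3_c49)) :=
  Lgr Lrot101 (Lpe (K28.f466129 IH) (Lpr_ff (K28.f468151 IH) (Lpe (K37.f419634 IH) (Lpn (LP (LK LD1_c3 LD2_c43 LD3_c49))))))
theorem f488317 : Led Lsl_gt (LP (LK LD1_c13 LD2_c25 LD3_c18)) = (LP (LK LD1_c7 LD2_c28 LD3_c11)) :=
  Lgr Lrot46 (Lpe (f459190 IH) (Lpr_ft (f468167 IH) (Lpr_at (K37.f419634 IH) (Lpn (LP (LK LD1_c7 LD2_c28 LD3_c11))))))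
theorem f488671 : Led Lsl_ef (LP (LK LD1_c22 LD2_c41 LD3_c14)) = (LP (LK LD1_c13 LD2_c26 LD3_c48)) :=
  Lgr Lrot88 (Lpr_et (K34.f488668 IH) (Lpn (LP (LK LD1_c13 LD2_c26 LD3_c48))))
theorem f513308 : Led Lsl_ct (LP (LK LD1_c7 LD2_c33 LD3_c61)) = (LP (LK LD1_c13 LD2_c26 LD3_c48)) :=
  Lgr Lrot15 (Lpr_ef (K34.f513304 IH) (Lpe (K33.f488656 IH) (Lpr_ef (f488671 IH) (Lpn (LP (LK LD1_c13 LD2_c26 LD3_c48))))))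
theorem f514130 : Led Lsl_ff (LP (LK LD1_c13 LD2_c38 LD3_c61)) = (LP (LK LD1_c13 LD2_c26 LD3_c48)) :=
  Lgr Lrot23 (Lpr_ct (K37.f514059 IH) (Lpe (K37.f514043 IH) (Lpr_ct (f513308 IH) (Lpn (LP (LK LD1_c13 LD2_c26 LD3_c48))))))
theorem f490102 : Led Lsl_at (LP (LK LD1_c13 LD2_c38 LD3_c61)) = (LP (LK LD1_c7 LD2_c12 LD3_c39)) :=
  Lre_a IH (LK LD1_c13 LD2_c38 LD3_c61) (LK LD1_c7 LD2_c12 LD3_c39) Lrfl Lrfl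
theorem f514199 : Led Lsl_gf (LP (LK LD1_c13 LD2_c38 LD3_c60)) = (LP (LK LD1_c13 LD2_c26 LD3_c48)) :=
  Lgr Lrot47 (Lpr_gt (K37.f463614 IH) (Lpe (f490102 IH) (Lpr_ff (f514130 IH) (Lpn (LP (LK LD1_c13 LD2_c26 LD3_c48))))))
theorem f575240 : Led Lsl_bf (LP (LK LD1_c20 LD2_c41 LD3_c51)) = (LP (LK LD1_c23 LD2_c4 LD3_c4)) :=
  Lgr Lrot156 (Lpe (f426722 IH) (Lpr_bf (f575228 IH) (Lpe (f533332 IH) (Lpr_gt (f488317 IH) (Lpe (K28.f420068 IH) (Lpr_bt (K28.f419740 IH) (Lpr_gt (K34.f419656 IH) (Lpr_ct (f513308 IH) (Lpe (f514199 IH) (Lpe (K37.f490104 IH) (Lpn (LP (LK LD1_c23 LD2_c4 LD3_c4)))))))))))))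
theorem f426544 : Led Lsl_bt (LP (LK LD1_c11 LD2_c41 LD3_c47)) = (LP (LK LD1_c20 LD2_c41 LD3_c46)) :=
  Lre_b IH (LK LD1_c11 LD2_c41 LD3_c47) (LK LD1_c20 LD2_c41 LD3_c46) Lrfl Lrfl
theorem f575246 : Led Lsl_ft (LP (LK LD1_c20 LD2_c41 LD3_c46)) = (LP (LK LD1_c23 LD2_c4 LD3_c4)) :=
  Lgr Lrot75 (Lpe (f426544 IH) (Lpe (f426719 IH) (Lpr_bf (f575240 IH) (Lpn (LP (LK LD1_c23 LD2_c4 LD3_c4))))))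
theorem f575369 : Led Lsl_ff (LP (LK LD1_c20 LD2_c41 LD3_c46)) = (LP (LK LD1_c23 LD2_c4 LD3_c4)) :=
  Lgr Lrot3 (Lpr_ft (f575246 IH) (Lpn (LP (LK LD1_c23 LD2_c4 LD3_c4))))
theorem f130707 : Led Lsl_af (LP (LK LD1_c3 LD2_c35 LD3_c59)) = (LP (LK LD1_c6 LD2_c53 LD3_c0)) :=
  Lgr Lrot0 (Lpr_at (K24.f130703 IH) (Lpn (LP (LK LD1_c6 LD2_c53 LD3_c0))))
theorem f130721 : Led Lsl_ft (LP (LK LD1_c3 LD2_c25 LD3_c25)) = (LP (LK LD1_c6 LD2_c53 LD3_c0)) :=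
  Lre_f IH (LK LD1_c3 LD2_c25 LD3_c25) (LK LD1_c6 LD2_c53 LD3_c0) Lrfl Lrfl
theorem f464559 : Led Lsl_gf (LP (LK LD1_c3 LD2_c31 LD3_c13)) = (LP (LK LD1_c3 LD2_c25 LD3_c25)) :=
  Lgr Lrot47 (Lpr_gt (K28.f464557 IH) (Lpr_af (f130707 IH) (Lpe (f130721 IH) (Lpn (LP (LK LD1_c3 LD2_c25 LD3_c25))))))
theorem f575248 : Led Lsl_gf (LP (LK LD1_c20 LD2_c41 LD3_c51)) = (LP (LK LD1_c13 LD2_c14 LD3_c56)) :=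
  Lgr Lrot124 (Lpr_bf (f575240 IH) (Lpr_ct (K37.f490104 IH) (Lpr_gt (K37.f463614 IH) (Lpe (K37.f490096 IH) (Lpr_bt (K28.f461799 IH) (Lpe (K28.f461822 IH) (Lpr_ct (K28.f130700 IH) (Lpe (f464559 IH) (Lpr_cf (K28.f458450 IH) (Lpr_bt (K28.f63637 IH) (Lpn (LP (LK LD1_c13 LD2_c14 LD3_c56)))))))))))))
theorem f137167 : Led Lsl_ft (LP (LK LD1_c7 LD2_c1 LD3_c34)) = (LP (LK LD1_c13 LD2_c19 LD3_c36)) :=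
  Lre_f IH (LK LD1_c7 LD2_c1 LD3_c34) (LK LD1_c13 LD2_c19 LD3_c36) Lrfl Lrfl
theorem f426720 : Led Lsl_at (LP (LK LD1_c13 LD2_c19 LD3_c36)) = (LP (LK LD1_c20 LD2_c41 LD3_c51)) :=
  Lgr Lrot66 (Lpe (f137167 IH) (Lpr_af (K36.f426710 IH) (Lpe (f426719 IH) (Lpn (LP (LK LD1_c20 LD2_c41 LD3_c51))))))
theorem f575250 : Led Lsl_gt (LP (LK LD1_c7 LD2_c1 LD3_c34)) = (LP (LK LD1_c13 LD2_c14 LD3_c56)) :=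
  Lgr Lrot5 (Lpr_ft (f137167 IH) (Lpr_at (f426720 IH) (Lpr_gf (f575248 IH) (Lpn (LP (LK LD1_c13 LD2_c14 LD3_c56))))))
theorem f458447 : Led Lsl_bt (LP (LK LD1_c7 LD2_c4 LD3_c16)) = (LP (LK LD1_c3 LD2_c31 LD3_c14)) :=
  Lre_b IH (LK LD1_c7 LD2_c4 LD3_c16) (LK LD1_c3 LD2_c31 LD3_c14) Lrfl Lrfl
theorem f575254 : Led Lsl_gf (LP (LK LD1_c13 LD2_c3 LD3_c15)) = (LP (LK LD1_c13 LD2_c20 LD3_c12)) :=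
  Lgr Lrot124 (Lpr_bf (f136954 IH) (Lpe (f137157 IH) (Lpr_gt (f575250 IH) (Lpe (K28.f458455 IH) (Lpr_bt (f458447 IH) (Lpr_gt (K24.f98741 IH) (Lpr_ct (K39.f464374 IH) (Lpr_gt (K28.f122026 IH) (Lpr_cf (K28.f463894 IH) (Lpr_bt (K33.f463909 IH) (Lpn (LP (LK LD1_c13 LD2_c20 LD3_c12)))))))))))))
theorem f489362 : Led Lsl_at (LP (LK LD1_c7 LD2_c1 LD3_c58)) = (LP (LK LD1_c13 LD2_c20 LD3_c17)) :=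
  Lre_a IH (LK LD1_c7 LD2_c1 LD3_c58) (LK LD1_c13 LD2_c20 LD3_c17) Lrfl Lrfl
theorem f575274 : Led Lsl_gt (LP (LK LD1_c13 LD2_c3 LD3_c15)) = (LP (LK LD1_c13 LD2_c20 LD3_c17)) :=
  Lgr Lrot46 (Lpr_gf (f575254 IH) (Lpr_ft (K33.f512105 IH) (Lpr_at (f489362 IH) (Lpn (LP (LK LD1_c13 LD2_c20 LD3_c17))))))
theorem f17841 : Led Lsl_gt (LP (LK LD1_c13 LD2_c17 LD3_c27)) = (LP (LK LD1_c22 LD2_c33 LD3_c9)) :=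
  Lre_g IH (LK LD1_c13 LD2_c17 LD3_c27) (LK LD1_c22 LD2_c33 LD3_c9) Lrfl Lrfl
theorem f18050 : Led Lsl_gt (LP (LK LD1_c7 LD2_c17 LD3_c12)) = (LP (LK LD1_c3 LD2_c38 LD3_c26)) :=
  Lre_g IH (LK LD1_c7 LD2_c17 LD3_c12) (LK LD1_c3 LD2_c38 LD3_c26) Lrfl Lrfl
theorem f18051 : Led Lsl_bt (LP (LK LD1_c13 LD2_c47 LD3_c9)) = (LP (LK LD1_c7 LD2_c17 LD3_c12)) :=
  Lre_b IH (LK LD1_c13 LD2_c47 LD3_c9) (LK LD1_c7 LD2_c17 LD3_c12) Lrfl Lrfl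
theorem f476506 : Led Lsl_cf (LP (LK LD1_c22 LD2_c33 LD3_c9)) = (LP (LK LD1_c13 LD2_c47 LD3_c9)) :=
  Lgr Lrot58 (Lpe (f17841 IH) (Lpe (K35.f17832 IH) (Lpr_bt (K4.f17844 IH) (Lpr_gf (K28.f108462 IH) (Lpe (K34.f108464 IH) (Lpe (K37.f476504 IH) (Lpr_gf (K34.f476498 IH) (Lpr_cf (K3.f97512 IH) (Lpe (f18050 IH) (Lpe (f18051 IH) (Lpn (LP (LK LD1_c13 LD2_c47 LD3_c9)))))))))))))
theorem f476557 : Led Lsl_ct (LP (LK LD1_c22 LD2_c33 LD3_c9)) = (LP (LK LD1_c13 LD2_c47 LD3_c9)) :=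
  Lgr Lrot59 (Lpr_cf (f476506 IH) (Lpn (LP (LK LD1_c13 LD2_c47 LD3_c9))))
theorem f575252 : Led Lsl_gf (LP (LK LD1_c21 LD2_c14 LD3_c38)) = (LP (LK LD1_c13 LD2_c47 LD3_c9)) :=
  Lgr Lrot129 (Lpe (f575124 IH) (Lpr_bt (f136956 IH) (Lpr_gt (f575250 IH) (Lpe (K28.f63637 IH) (Lpe (K28.f458450 IH) (Lpr_gt (K28.f464557 IH) (Lpr_cf (K4.f17816 IH) (Lpr_bt (K4.f17839 IH) (Lpr_gt (f17841 IH) (Lpr_ct (f476557 IH) (Lpn (LP (LK LD1_c13 LD2_c47 LD3_c9)))))))))))))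
theorem f476556 : Led Lsl_bt (LP (LK LD1_c7 LD2_c17 LD3_c12)) = (LP (LK LD1_c13 LD2_c47 LD3_c9)) :=
  Lre_b IH (LK LD1_c7 LD2_c17 LD3_c12) (LK LD1_c13 LD2_c47 LD3_c9) Lrfl Lrfl
theorem f476561 : Led Lsl_ct (LP (LK LD1_c7 LD2_c17 LD3_c12)) = (LP (LK LD1_c13 LD2_c47 LD3_c10)) :=
  Lre_c IH (LK LD1_c7 LD2_c17 LD3_c12) (LK LD1_c13 LD2_c47 LD3_c10) Lrfl Lrfl
theorem f466541 : Led Lsl_et (LP (LK LD1_c7 LD2_c6 LD3_c6)) = (LP (LK LD1_c13 LD2_c27 LD3_c36)) :=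
  Lre_e IH (LK LD1_c7 LD2_c6 LD3_c6) (LK LD1_c13 LD2_c27 LD3_c36) Lrfl Lrfl
theorem f513348 : Led Lsl_bt (LP (LK LD1_c13 LD2_c27 LD3_c36)) = (LP (LK LD1_c22 LD2_c41 LD3_c14)) :=
  Lgr Lrot119 (Lpe (f466541 IH) (Lpr_bf (K34.f513340 IH) (Lpe (K34.f488668 IH) (Lpn (LP (LK LD1_c22 LD2_c41 LD3_c14))))))
theorem f513354 : Led Lsl_ff (LP (LK LD1_c13 LD2_c27 LD3_c36)) = (LP (LK LD1_c13 LD2_c49 LD3_c33)) :=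
  Lgr Lrot25 (Lpr_bt (f513348 IH) (Lpe (K33.f513248 IH) (Lpr_bt (K33.f513232 IH) (Lpn (LP (LK LD1_c13 LD2_c49 LD3_c33))))))
theorem f513356 : Led Lsl_at (LP (LK LD1_c13 LD2_c27 LD3_c36)) = (LP (LK LD1_c13 LD2_c38 LD3_c57)) :=
  Lgr Lrot66 (Lpr_ff (f513354 IH) (Lpr_af (K33.f513223 IH) (Lpe (K33.f513099 IH) (Lpn (LP (LK LD1_c13 LD2_c38 LD3_c57))))))
theorem f97647 : Led Lsl_at (LP (LK LD1_c13 LD2_c20 LD3_c19)) = (LP (LK LD1_c22 LD2_c36 LD3_c47)) :=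
  Lre_a IH (LK LD1_c13 LD2_c20 LD3_c19) (LK LD1_c22 LD2_c36 LD3_c47) Lrfl Lrfl
theorem f513360 : Led Lsl_cf (LP (LK LD1_c13 LD2_c27 LD3_c36)) = (LP (LK LD1_c22 LD2_c36 LD3_c47)) :=
  Lgr Lrot1 (Lpr_at (f513356 IH) (Lpr_ct (K33.f466286 IH) (Lpr_at (f97647 IH) (Lpn (LP (LK LD1_c22 LD2_c36 LD3_c47))))))
theorem f466538 : Led Lsl_et (LP (LK LD1_c13 LD2_c27 LD3_c36)) = (LP (LK LD1_c7 LD2_c6 LD3_c6)) :=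
  Lre_e IH (LK LD1_c13 LD2_c27 LD3_c36) (LK LD1_c7 LD2_c6 LD3_c6) Lrfl Lrfl
theorem f97649 : Led Lsl_et (LP (LK LD1_c13 LD2_c20 LD3_c17)) = (LP (LK LD1_c22 LD2_c36 LD3_c47)) :=
  Lre_e IH (LK LD1_c13 LD2_c20 LD3_c17) (LK LD1_c22 LD2_c36 LD3_c47) Lrfl Lrfl
theorem f513364 : Led Lsl_ct (LP (LK LD1_c7 LD2_c6 LD3_c6)) = (LP (LK LD1_c13 LD2_c20 LD3_c17)) :=
  Lgr Lrot15 (Lpe (f466538 IH) (Lpr_cf (f513360 IH) (Lpe (f97649 IH) (Lpn (LP (LK LD1_c13 LD2_c20 LD3_c17))))))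
theorem f575276 : Led Lsl_gf (LP (LK LD1_c13 LD2_c47 LD3_c10)) = (LP (LK LD1_c23 LD2_c4 LD3_c4)) :=
  Lgr Lrot129 (Lpe (f476561 IH) (Lpr_bt (f476556 IH) (Lpe (f575252 IH) (Lpe (f575116 IH) (Lpe (f575132 IH) (Lpr_gt (f575274 IH) (Lpe (f513364 IH) (Lpr_bt (K34.f513344 IH) (Lpe (f514199 IH) (Lpr_ct (K37.f514201 IH) (Lpn (LP (LK LD1_c23 LD2_c4 LD3_c4)))))))))))))
theorem f575373 : Led Lsl_gf (LP (LK LD1_c14 LD2_c15 LD3_c39)) = (LP (LK LD1_c13 LD2_c47 LD3_c10)) :=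
  Lgr Lrot76 (Lpe (K28.f426540 IH) (Lpr_ff (f575369 IH) (Lpe (f575276 IH) (Lpn (LP (LK LD1_c13 LD2_c47 LD3_c10))))))
theorem f111978 : Led Lsl_gt (LP (LK LD1_c14 LD2_c26 LD3_c6)) = (LP (LK LD1_c7 LD2_c39 LD3_c35)) :=
  Lre_g IH (LK LD1_c14 LD2_c26 LD3_c6) (LK LD1_c7 LD2_c39 LD3_c35) Lrfl Lrfl
theorem f162951 : Led Lsl_ct (LP (LK LD1_c13 LD2_c41 LD3_c23)) = (LP (LK LD1_c14 LD2_c26 LD3_c6)) :=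
  Lgr Lrot64 (Lpe (K30.f136369 IH) (Lpe (K8.f122309 IH) (Lpe (K4.f95604 IH) (Lpr_ct (K7.f105212 IH) (Lpr_gf (K8.f129469 IH) (Lpe (K8.f117059 IH) (Lpr_gf (K8.f162949 IH) (Lpe (K8.f87367 IH) (Lpr_ct (K8.f87192 IH) (Lpe (f111978 IH) (Lpn (LP (LK LD1_c14 LD2_c26 LD3_c6)))))))))))))
theorem f426554 : Led Lsl_gt (LP (LK LD1_c11 LD2_c41 LD3_c44)) = (LP (LK LD1_c13 LD2_c41 LD3_c23)) :=
  Lgr Lrot146 (Lpr_dt (K40.f426530 IH) (Lpr_gt (K32.f147310 IH) (Lpr_ct (K6.f108909 IH) (Lpe (K8.f121850 IH) (Lpr_ct (K28.f121887 IH) (Lpe (K8.f157513 IH) (Lpe (K8.f87301 IH) (Lpe (f111978 IH) (Lpe (f162951 IH) (Lpn (LP (LK LD1_c13 LD2_c41 LD3_c23))))))))))))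
theorem f480223 : Led Lsl_ct (LP (LK LD1_c7 LD2_c35 LD3_c16)) = (LP (LK LD1_c7 LD2_c51 LD3_c24)) :=
  Lgr Lrot59 (Lpr_cf (K33.f480219 IH) (Lpn (LP (LK LD1_c7 LD2_c51 LD3_c24))))
theorem f486972 : Led Lsl_ct (LP (LK LD1_c7 LD2_c42 LD3_c14)) = (LP (LK LD1_c13 LD2_c43 LD3_c28)) :=
  Lgr Lrot59 (Lpr_cf (K37.f486970 IH) (Lpn (LP (LK LD1_c13 LD2_c43 LD3_c28))))
theorem f488804 : Led Lsl_gt (LP (LK LD1_c13 LD2_c41 LD3_c24)) = (LP (LK LD1_c7 LD2_c42 LD3_c14)) :=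
  Lgr Lrot82 (Lpe (K37.f136374 IH) (Lpr_ct (K8.f136376 IH) (Lpr_gf (K33.f488784 IH) (Lpe (f480223 IH) (Lpr_bt (K33.f12052 IH) (Lpr_gf (K33.f89208 IH) (Lpe (K29.f89218 IH) (Lpe (K29.f481040 IH) (Lpe (K37.f481225 IH) (Lpe (f486972 IH) (Lpn (LP (LK LD1_c7 LD2_c42 LD3_c14)))))))))))))
theorem f486974 : Led Lsl_dt (LP (LK LD1_c7 LD2_c42 LD3_c14)) = (LP (LK LD1_c14 LD2_c31 LD3_c8)) :=
  Lre_d IH (LK LD1_c7 LD2_c42 LD3_c14) (LK LD1_c14 LD2_c31 LD3_c8) Lrfl Lrfl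
theorem f524706 : Led Lsl_ff (LP (LK LD1_c7 LD2_c39 LD3_c47)) = (LP (LK LD1_c13 LD2_c31 LD3_c37)) :=
  Lgr Lrot19 (Lpr_dt (K35.f481139 IH) (Lpr_ft (K35.f524704 IH) (Lpr_dt (K33.f477996 IH) (Lpn (LP (LK LD1_c13 LD2_c31 LD3_c37))))))
theorem f157572 : Led Lsl_ct (LP (LK LD1_c7 LD2_c39 LD3_c46)) = (LP (LK LD1_c14 LD2_c26 LD3_c27)) :=
  Lre_c IH (LK LD1_c7 LD2_c39 LD3_c46) (LK LD1_c14 LD2_c26 LD3_c27) Lrfl Lrfl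
theorem f524742 : Led Lsl_ct (LP (LK LD1_c24 LD2_c6 LD3_c0)) = (LP (LK LD1_c14 LD2_c26 LD3_c2)) :=
  Lre_c IH (LK LD1_c24 LD2_c6 LD3_c0) (LK LD1_c14 LD2_c26 LD3_c2) Lrfl Lrfl
theorem f524743 : Led Lsl_ff (LP (LK LD1_c7 LD2_c39 LD3_c46)) = (LP (LK LD1_c14 LD2_c26 LD3_c2)) :=
  Lgr Lrot23 (Lpr_ct (f157572 IH) (Lpr_ft (K35.f524740 IH) (Lpr_ct (f524742 IH) (Lpn (LP (LK LD1_c14 LD2_c26 LD3_c2))))))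
theorem f524763 : Led Lsl_af (LP (LK LD1_c13 LD2_c31 LD3_c37)) = (LP (LK LD1_c7 LD2_c39 LD3_c46)) :=
  Lgr Lrot45 (Lpe (f524706 IH) (Lpr_at (K35.f524749 IH) (Lpe (f524743 IH) (Lpn (LP (LK LD1_c7 LD2_c39 LD3_c46))))))
theorem f477999 : Led Lsl_et (LP (LK LD1_c13 LD2_c31 LD3_c37)) = (LP (LK LD1_c22 LD2_c53 LD3_c3)) :=
  Lre_e IH (LK LD1_c13 LD2_c31 LD3_c37) (LK LD1_c22 LD2_c53 LD3_c3) Lrfl Lrfl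
theorem f157570 : Led Lsl_et (LP (LK LD1_c14 LD2_c26 LD3_c28)) = (LP (LK LD1_c7 LD2_c39 LD3_c46)) :=
  Lre_e IH (LK LD1_c14 LD2_c26 LD3_c28) (LK LD1_c7 LD2_c39 LD3_c46) Lrfl Lrfl
theorem f524785 : Led Lsl_at (LP (LK LD1_c22 LD2_c53 LD3_c3)) = (LP (LK LD1_c14 LD2_c26 LD3_c28)) :=
  Lgr Lrot80 (Lpe (f477999 IH) (Lpr_af (f524763 IH) (Lpe (f157570 IH) (Lpn (LP (LK LD1_c14 LD2_c26 LD3_c28))))))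
theorem f486850 : Led Lsl_et (LP (LK LD1_c14 LD2_c52 LD3_c54)) = (LP (LK LD1_c7 LD2_c53 LD3_c23)) :=
  Lre_e IH (LK LD1_c14 LD2_c52 LD3_c54) (LK LD1_c7 LD2_c53 LD3_c23) Lrfl Lrfl
theorem f486851 : Led Lsl_bt (LP (LK LD1_c22 LD2_c53 LD3_c3)) = (LP (LK LD1_c14 LD2_c52 LD3_c54)) :=
  Lgr Lrot119 (Lpe (f477999 IH) (Lpr_bf (K33.f486846 IH) (Lpe (f486850 IH) (Lpn (LP (LK LD1_c14 LD2_c52 LD3_c54))))))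
theorem f486913 : Led Lsl_bf (LP (LK LD1_c22 LD2_c53 LD3_c3)) = (LP (LK LD1_c14 LD2_c52 LD3_c54)) :=
  Lgr Lrot24 (Lpr_bt (f486851 IH) (Lpn (LP (LK LD1_c14 LD2_c52 LD3_c54))))
theorem f524360 : Led Lsl_bt (LP (LK LD1_c14 LD2_c26 LD3_c28)) = (LP (LK LD1_c24 LD2_c6 LD3_c29)) :=
  Lre_b IH (LK LD1_c14 LD2_c26 LD3_c28) (LK LD1_c24 LD2_c6 LD3_c29) Lrfl Lrfl
theorem f91214 : Led Lsl_et (LP (LK LD1_c13 LD2_c8 LD3_c25)) = (LP (LK LD1_c22 LD2_c20 LD3_c37)) :=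
  Lre_e IH (LK LD1_c13 LD2_c8 LD3_c25) (LK LD1_c22 LD2_c20 LD3_c37) Lrfl Lrfl
theorem f515883 : Led Lsl_et (LP (LK LD1_c24 LD2_c6 LD3_c29)) = (LP (LK LD1_c14 LD2_c26 LD3_c25)) :=
  Lre_e IH (LK LD1_c24 LD2_c6 LD3_c29) (LK LD1_c14 LD2_c26 LD3_c25) Lrfl Lrfl
theorem f524352 : Led Lsl_at (LP (LK LD1_c22 LD2_c20 LD3_c37)) = (LP (LK LD1_c24 LD2_c6 LD3_c29)) :=
  Lgr Lrot80 (Lpe (f91214 IH) (Lpr_af (K35.f524346 IH) (Lpe (f515883 IH) (Lpn (LP (LK LD1_c24 LD2_c6 LD3_c29))))))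
theorem f524354 : Led Lsl_af (LP (LK LD1_c22 LD2_c20 LD3_c37)) = (LP (LK LD1_c24 LD2_c6 LD3_c29)) :=
  Lgr Lrot0 (Lpr_at (f524352 IH) (Lpn (LP (LK LD1_c24 LD2_c6 LD3_c29))))
theorem f91189 : Led Lsl_bt (LP (LK LD1_c22 LD2_c20 LD3_c37)) = (LP (LK LD1_c13 LD2_c8 LD3_c29)) :=
  Lre_b IH (LK LD1_c22 LD2_c20 LD3_c37) (LK LD1_c13 LD2_c8 LD3_c29) Lrfl Lrfl
theorem f524796 : Led Lsl_af (LP (LK LD1_c14 LD2_c52 LD3_c54)) = (LP (LK LD1_c13 LD2_c8 LD3_c29)) :=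
  Lgr Lrot36 (Lpe (f486913 IH) (Lpr_at (f524785 IH) (Lpr_bt (f524360 IH) (Lpe (f524354 IH) (Lpr_bt (f91189 IH) (Lpn (LP (LK LD1_c13 LD2_c8 LD3_c29))))))))
theorem f486916 : Led Lsl_ft (LP (LK LD1_c14 LD2_c52 LD3_c54)) = (LP (LK LD1_c24 LD2_c39 LD3_c32)) :=
  Lre_f IH (LK LD1_c14 LD2_c52 LD3_c54) (LK LD1_c24 LD2_c39 LD3_c32) Lrfl Lrfl
theorem f91187 : Led Lsl_ft (LP (LK LD1_c22 LD2_c20 LD3_c41)) = (LP (LK LD1_c13 LD2_c8 LD3_c29)) :=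
  Lre_f IH (LK LD1_c22 LD2_c20 LD3_c41) (LK LD1_c13 LD2_c8 LD3_c29) Lrfl Lrfl
theorem f524811 : Led Lsl_at (LP (LK LD1_c24 LD2_c39 LD3_c32)) = (LP (LK LD1_c22 LD2_c20 LD3_c41)) :=
  Lgr Lrot66 (Lpe (f486916 IH) (Lpr_af (f524796 IH) (Lpe (f91187 IH) (Lpn (LP (LK LD1_c22 LD2_c20 LD3_c41))))))
theorem f91157 : Led Lsl_et (LP (LK LD1_c13 LD2_c8 LD3_c29)) = (LP (LK LD1_c6 LD2_c54 LD3_c58)) :=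
  Lre_e IH (LK LD1_c13 LD2_c8 LD3_c29) (LK LD1_c6 LD2_c54 LD3_c58) Lrfl Lrfl
theorem f481856 : Led Lsl_et (LP (LK LD1_c7 LD2_c50 LD3_c58)) = (LP (LK LD1_c14 LD2_c48 LD3_c23)) :=
  Lre_e IH (LK LD1_c7 LD2_c50 LD3_c58) (LK LD1_c14 LD2_c48 LD3_c23) Lrfl Lrfl
theorem f524260 : Led Lsl_ft (LP (LK LD1_c14 LD2_c48 LD3_c23)) = (LP (LK LD1_c24 LD2_c34 LD3_c41)) :=
  Lre_f IH (LK LD1_c14 LD2_c48 LD3_c23) (LK LD1_c24 LD2_c34 LD3_c41) Lrfl Lrfl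
theorem f524261 : Led Lsl_ef (LP (LK LD1_c22 LD2_c20 LD3_c41)) = (LP (LK LD1_c24 LD2_c34 LD3_c41)) :=
  Lgr Lrot21 (Lpr_ft (f91187 IH) (Lpr_et (f91157 IH) (Lpr_ft (K35.f524254 IH) (Lpr_et (f481856 IH) (Lpr_ft (f524260 IH) (Lpn (LP (LK LD1_c24 LD2_c34 LD3_c41))))))))
theorem f524263 : Led Lsl_et (LP (LK LD1_c22 LD2_c20 LD3_c41)) = (LP (LK LD1_c24 LD2_c34 LD3_c41)) :=
  Lgr Lrot87 (Lpr_ef (f524261 IH) (Lpn (LP (LK LD1_c24 LD2_c34 LD3_c41))))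
theorem f481783 : Led Lsl_et (LP (LK LD1_c6 LD2_c54 LD3_c60)) = (LP (LK LD1_c13 LD2_c8 LD3_c31)) :=
  Lre_e IH (LK LD1_c6 LD2_c54 LD3_c60) (LK LD1_c13 LD2_c8 LD3_c31) Lrfl Lrfl
theorem f524265 : Led Lsl_et (LP (LK LD1_c14 LD2_c48 LD3_c23)) = (LP (LK LD1_c7 LD2_c50 LD3_c58)) :=
  Lre_e IH (LK LD1_c14 LD2_c48 LD3_c23) (LK LD1_c7 LD2_c50 LD3_c58) Lrfl Lrfl
theorem f524289 : Led Lsl_at (LP (LK LD1_c13 LD2_c8 LD3_c31)) = (LP (LK LD1_c14 LD2_c48 LD3_c23)) :=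
  Lgr Lrot80 (Lpe (f481783 IH) (Lpr_af (K35.f524283 IH) (Lpe (f524265 IH) (Lpn (LP (LK LD1_c14 LD2_c48 LD3_c23))))))
theorem f481780 : Led Lsl_ft (LP (LK LD1_c22 LD2_c20 LD3_c46)) = (LP (LK LD1_c13 LD2_c8 LD3_c31)) :=
  Lre_f IH (LK LD1_c22 LD2_c20 LD3_c46) (LK LD1_c13 LD2_c8 LD3_c31) Lrfl Lrfl
theorem f524316 : Led Lsl_af (LP (LK LD1_c22 LD2_c20 LD3_c46)) = (LP (LK LD1_c24 LD2_c34 LD3_c41)) :=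
  Lgr Lrot45 (Lpr_ft (f481780 IH) (Lpr_at (f524289 IH) (Lpr_ft (f524260 IH) (Lpn (LP (LK LD1_c24 LD2_c34 LD3_c41))))))
theorem f524815 : Led Lsl_ef (LP (LK LD1_c24 LD2_c39 LD3_c32)) = (LP (LK LD1_c22 LD2_c20 LD3_c46)) :=
  Lgr Lrot20 (Lpr_at (f524811 IH) (Lpr_et (f524263 IH) (Lpe (f524316 IH) (Lpn (LP (LK LD1_c22 LD2_c20 LD3_c46))))))
theorem f486922 : Led Lsl_ft (LP (LK LD1_c24 LD2_c39 LD3_c32)) = (LP (LK LD1_c14 LD2_c52 LD3_c54)) :=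
  Lre_f IH (LK LD1_c24 LD2_c39 LD3_c32) (LK LD1_c14 LD2_c52 LD3_c54) Lrfl Lrfl
theorem f481774 : Led Lsl_ft (LP (LK LD1_c13 LD2_c8 LD3_c31)) = (LP (LK LD1_c22 LD2_c20 LD3_c46)) :=
  Lre_f IH (LK LD1_c13 LD2_c8 LD3_c31) (LK LD1_c22 LD2_c20 LD3_c46) Lrfl Lrfl
theorem f524821 : Led Lsl_ft (LP (LK LD1_c7 LD2_c53 LD3_c23)) = (LP (LK LD1_c6 LD2_c54 LD3_c60)) :=
  Lgr Lrot86 (Lpe (f486850 IH) (Lpe (f486922 IH) (Lpr_ef (f524815 IH) (Lpe (f481774 IH) (Lpe (f481783 IH) (Lpn (LP (LK LD1_c6 LD2_c54 LD3_c60))))))))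
theorem f524827 : Led Lsl_ff (LP (LK LD1_c7 LD2_c53 LD3_c23)) = (LP (LK LD1_c6 LD2_c54 LD3_c60)) :=
  Lgr Lrot3 (Lpr_ft (f524821 IH) (Lpn (LP (LK LD1_c6 LD2_c54 LD3_c60))))
theorem f486848 : Led Lsl_bt (LP (LK LD1_c13 LD2_c31 LD3_c37)) = (LP (LK LD1_c7 LD2_c53 LD3_c23)) :=
  Lgr Lrot127 (Lpr_bf (K33.f486846 IH) (Lpn (LP (LK LD1_c7 LD2_c53 LD3_c23))))
theorem f157579 : Led Lsl_bt (LP (LK LD1_c14 LD2_c26 LD3_c25)) = (LP (LK LD1_c7 LD2_c39 LD3_c46)) :=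
  Lre_b IH (LK LD1_c14 LD2_c26 LD3_c25) (LK LD1_c7 LD2_c39 LD3_c46) Lrfl Lrfl
theorem f484200 : Led Lsl_bt (LP (LK LD1_c6 LD2_c54 LD3_c58)) = (LP (LK LD1_c13 LD2_c8 LD3_c25)) :=
  Lre_b IH (LK LD1_c6 LD2_c54 LD3_c58) (LK LD1_c13 LD2_c8 LD3_c25) Lrfl Lrfl
theorem f524781 : Led Lsl_at (LP (LK LD1_c7 LD2_c53 LD3_c23)) = (LP (LK LD1_c6 LD2_c54 LD3_c58)) :=
  Lgr Lrot67 (Lpe (f486848 IH) (Lpr_af (f524763 IH) (Lpe (f157579 IH) (Lpe (K35.f524348 IH) (Lpe (f484200 IH) (Lpn (LP (LK LD1_c6 LD2_c54 LD3_c58))))))))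
theorem f91194 : Led Lsl_gt (LP (LK LD1_c13 LD2_c8 LD3_c27)) = (LP (LK LD1_c6 LD2_c54 LD3_c58)) :=
  Lre_g IH (LK LD1_c13 LD2_c8 LD3_c27) (LK LD1_c6 LD2_c54 LD3_c58) Lrfl Lrfl
theorem f524831 : Led Lsl_gf (LP (LK LD1_c13 LD2_c8 LD3_c27)) = (LP (LK LD1_c6 LD2_c54 LD3_c60)) :=
  Lgr Lrot47 (Lpr_gt (f91194 IH) (Lpe (f524781 IH) (Lpr_ff (f524827 IH) (Lpn (LP (LK LD1_c6 LD2_c54 LD3_c60))))))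
theorem f484191 : Led Lsl_dt (LP (LK LD1_c6 LD2_c55 LD3_c5)) = (LP (LK LD1_c3 LD2_c26 LD3_c37)) :=
  Lre_d IH (LK LD1_c6 LD2_c55 LD3_c5) (LK LD1_c3 LD2_c26 LD3_c37) Lrfl Lrfl
theorem f484182 : Led Lsl_ct (LP (LK LD1_c13 LD2_c8 LD3_c42)) = (LP (LK LD1_c6 LD2_c55 LD3_c5)) :=
  Lre_c IH (LK LD1_c13 LD2_c8 LD3_c42) (LK LD1_c6 LD2_c55 LD3_c5) Lrfl Lrfl
theorem f478722 : Led Lsl_at (LP (LK LD1_c13 LD2_c36 LD3_c48)) = (LP (LK LD1_c7 LD2_c11 LD3_c19)) :=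
  Lre_a IH (LK LD1_c13 LD2_c36 LD3_c48) (LK LD1_c7 LD2_c11 LD3_c19) Lrfl Lrfl
theorem f456747 : Led Lsl_ct (LP (LK LD1_c7 LD2_c11 LD3_c19)) = (LP (LK LD1_c13 LD2_c37 LD3_c9)) :=
  Lre_c IH (LK LD1_c7 LD2_c11 LD3_c19) (LK LD1_c13 LD2_c37 LD3_c9) Lrfl Lrfl
theorem f478723 : Led Lsl_at (LP (LK LD1_c13 LD2_c37 LD3_c9)) = (LP (LK LD1_c13 LD2_c36 LD3_c28)) :=
  Lgr Lrot107 (Lpe (f456747 IH) (Lpe (f478722 IH) (Lpr_cf (K29.f478720 IH) (Lpn (LP (LK LD1_c13 LD2_c36 LD3_c28))))))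
theorem f484165 : Led Lsl_at (LP (LK LD1_c7 LD2_c10 LD3_c56)) = (LP (LK LD1_c13 LD2_c8 LD3_c42)) :=
  Lgr Lrot51 (Lpe (K29.f455901 IH) (Lpe (f478723 IH) (Lpr_df (K33.f484163 IH) (Lpn (LP (LK LD1_c13 LD2_c8 LD3_c42))))))
theorem f456154 : Led Lsl_gt (LP (LK LD1_c7 LD2_c11 LD3_c12)) = (LP (LK LD1_c13 LD2_c36 LD3_c58)) :=
  Lre_g IH (LK LD1_c7 LD2_c11 LD3_c12) (LK LD1_c13 LD2_c36 LD3_c58) Lrfl Lrfl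
theorem f485636 : Led Lsl_gt (LP (LK LD1_c13 LD2_c36 LD3_c58)) = (LP (LK LD1_c13 LD2_c8 LD3_c42)) :=
  Lgr Lrot46 (Lpe (f456154 IH) (Lpr_ft (K33.f478754 IH) (Lpr_at (f484165 IH) (Lpn (LP (LK LD1_c13 LD2_c8 LD3_c42))))))
theorem f524833 : Led Lsl_ct (LP (LK LD1_c13 LD2_c8 LD3_c27)) = (LP (LK LD1_c13 LD2_c36 LD3_c58)) :=
  Lgr Lrot152 (Lpr_gf (f524831 IH) (Lpe (K35.f481715 IH) (Lpr_gt (K33.f15270 IH) (Lpr_ct (K33.f15162 IH) (Lpr_gt (K33.f15107 IH) (Lpr_ct (K33.f15257 IH) (Lpe (f484191 IH) (Lpe (f484182 IH) (Lpe (f485636 IH) (Lpn (LP (LK LD1_c13 LD2_c36 LD3_c58))))))))))))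
theorem f484185 : Led Lsl_bt (LP (LK LD1_c6 LD2_c55 LD3_c5)) = (LP (LK LD1_c13 LD2_c8 LD3_c41)) :=
  Lre_b IH (LK LD1_c6 LD2_c55 LD3_c5) (LK LD1_c13 LD2_c8 LD3_c41) Lrfl Lrfl
theorem f456216 : Led Lsl_at (LP (LK LD1_c3 LD2_c35 LD3_c1)) = (LP (LK LD1_c7 LD2_c11 LD3_c5)) :=
  Lre_a IH (LK LD1_c3 LD2_c35 LD3_c1) (LK LD1_c7 LD2_c11 LD3_c5) Lrfl Lrfl
theorem f456217 : Led Lsl_bt (LP (LK LD1_c7 LD2_c11 LD3_c5)) = (LP (LK LD1_c13 LD2_c36 LD3_c43)) :=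
  Lre_b IH (LK LD1_c7 LD2_c11 LD3_c5) (LK LD1_c13 LD2_c36 LD3_c43) Lrfl Lrfl
theorem f487655 : Led Lsl_bt (LP (LK LD1_c7 LD2_c40 LD3_c25)) = (LP (LK LD1_c3 LD2_c49 LD3_c45)) :=
  Lre_b IH (LK LD1_c7 LD2_c40 LD3_c25) (LK LD1_c3 LD2_c49 LD3_c45) Lrfl Lrfl
theorem f487656 : Led Lsl_at (LP (LK LD1_c13 LD2_c36 LD3_c43)) = (LP (LK LD1_c7 LD2_c40 LD3_c25)) :=
  Lgr Lrot67 (Lpe (f456217 IH) (Lpe (f456216 IH) (Lpr_bf (K33.f456139 IH) (Lpr_af (K33.f487651 IH) (Lpe (f487655 IH) (Lpn (LP (LK LD1_c7 LD2_c40 LD3_c25))))))))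
theorem f456138 : Led Lsl_bt (LP (LK LD1_c13 LD2_c36 LD3_c43)) = (LP (LK LD1_c7 LD2_c11 LD3_c5)) :=
  Lre_b IH (LK LD1_c13 LD2_c36 LD3_c43) (LK LD1_c7 LD2_c11 LD3_c5) Lrfl Lrfl
theorem f484189 : Led Lsl_ff (LP (LK LD1_c13 LD2_c36 LD3_c43)) = (LP (LK LD1_c13 LD2_c8 LD3_c41)) :=
  Lgr Lrot25 (Lpr_bt (f456138 IH) (Lpr_ft (K33.f484178 IH) (Lpr_bt (f484185 IH) (Lpn (LP (LK LD1_c13 LD2_c8 LD3_c41))))))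
theorem f443592 : Led Lsl_gt (LP (LK LD1_c14 LD2_c28 LD3_c5)) = (LP (LK LD1_c7 LD2_c40 LD3_c25)) :=
  Lre_g IH (LK LD1_c14 LD2_c28 LD3_c5) (LK LD1_c7 LD2_c40 LD3_c25) Lrfl Lrfl
theorem f487743 : Led Lsl_gt (LP (LK LD1_c13 LD2_c8 LD3_c41)) = (LP (LK LD1_c14 LD2_c28 LD3_c5)) :=
  Lgr Lrot5 (Lpe (f484189 IH) (Lpr_at (f487656 IH) (Lpe (f443592 IH) (Lpn (LP (LK LD1_c14 LD2_c28 LD3_c5))))))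
theorem f477717 : Led Lsl_bt (LP (LK LD1_c24 LD2_c9 LD3_c0)) = (LP (LK LD1_c14 LD2_c28 LD3_c5)) :=
  Lre_b IH (LK LD1_c24 LD2_c9 LD3_c0) (LK LD1_c14 LD2_c28 LD3_c5) Lrfl Lrfl
theorem f481761 : Led Lsl_bf (LP (LK LD1_c6 LD2_c54 LD3_c60)) = (LP (LK LD1_c7 LD2_c39 LD3_c47)) :=
  Lgr Lrot24 (Lpr_bt (K35.f481756 IH) (Lpn (LP (LK LD1_c7 LD2_c39 LD3_c47))))
theorem f157573 : Led Lsl_gt (LP (LK LD1_c14 LD2_c26 LD3_c27)) = (LP (LK LD1_c24 LD2_c6 LD3_c32)) :=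
  Lre_g IH (LK LD1_c14 LD2_c26 LD3_c27) (LK LD1_c24 LD2_c6 LD3_c32) Lrfl Lrfl
theorem f524753 : Led Lsl_gf (LP (LK LD1_c14 LD2_c26 LD3_c29)) = (LP (LK LD1_c24 LD2_c6 LD3_c32)) :=
  Lgr Lrot76 (Lpr_af (K35.f524747 IH) (Lpe (K35.f524740 IH) (Lpr_gt (f157573 IH) (Lpn (LP (LK LD1_c24 LD2_c6 LD3_c32))))))
theorem f524835 : Led Lsl_ct (LP (LK LD1_c24 LD2_c9 LD3_c0)) = (LP (LK LD1_c24 LD2_c6 LD3_c32)) :=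
  Lgr Lrot64 (Lpr_bt (f477717 IH) (Lpe (f487743 IH) (Lpe (f484185 IH) (Lpr_ct (K33.f484162 IH) (Lpe (f485636 IH) (Lpe (f524833 IH) (Lpr_gf (f524831 IH) (Lpr_bf (f481761 IH) (Lpr_ct (K35.f481128 IH) (Lpr_gf (f524753 IH) (Lpn (LP (LK LD1_c24 LD2_c6 LD3_c32)))))))))))))
theorem f486976 : Led Lsl_dt (LP (LK LD1_c14 LD2_c31 LD3_c8)) = (LP (LK LD1_c7 LD2_c42 LD3_c14)) :=
  Lre_d IH (LK LD1_c14 LD2_c31 LD3_c8) (LK LD1_c7 LD2_c42 LD3_c14) Lrfl Lrfl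
theorem f524841 : Led Lsl_gf (LP (LK LD1_c24 LD2_c9 LD3_c0)) = (LP (LK LD1_c14 LD2_c31 LD3_c8)) :=
  Lgr Lrot147 (Lpr_ct (f524835 IH) (Lpe (f524753 IH) (Lpr_ct (K35.f481141 IH) (Lpe (K35.f481121 IH) (Lpr_cf (K33.f481122 IH) (Lpe (K33.f481142 IH) (Lpe (K33.f488831 IH) (Lpr_gf (K37.f488847 IH) (Lpe (f486976 IH) (Lpn (LP (LK LD1_c14 LD2_c31 LD3_c8))))))))))))
theorem f488684 : Led Lsl_et (LP (LK LD1_c23 LD2_c14 LD3_c46)) = (LP (LK LD1_c13 LD2_c47 LD3_c10)) :=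
  Lre_e IH (LK LD1_c23 LD2_c14 LD3_c46) (LK LD1_c13 LD2_c47 LD3_c10) Lrfl Lrfl
theorem f575379 : Led Lsl_df (LP (LK LD1_c24 LD2_c9 LD3_c0)) = (LP (LK LD1_c23 LD2_c14 LD3_c46)) :=
  Lgr Lrot132 (Lpr_gf (f524841 IH) (Lpe (f486974 IH) (Lpe (f488804 IH) (Lpe (K8.f136371 IH) (Lpr_dt (K30.f96611 IH) (Lpe (f426554 IH) (Lpr_df (K28.f426505 IH) (Lpr_et (K40.f116656 IH) (Lpr_gf (f575373 IH) (Lpe (f488684 IH) (Lpn (LP (LK LD1_c23 LD2_c14 LD3_c46)))))))))))))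
theorem f575382 : Led Lsl_dt (LP (LK LD1_c24 LD2_c9 LD3_c0)) = (LP (LK LD1_c23 LD2_c14 LD3_c46)) :=
  Lgr Lrot42 (Lpr_df (f575379 IH) (Lpn (LP (LK LD1_c23 LD2_c14 LD3_c46))))
theorem f96819 : Led Lsl_et (LP (LK LD1_c3 LD2_c33 LD3_c27)) = (LP (LK LD1_c7 LD2_c7 LD3_c50)) :=
  Lre_e IH (LK LD1_c3 LD2_c33 LD3_c27) (LK LD1_c7 LD2_c7 LD3_c50) Lrfl Lrfl
theorem f488843 : Led Lsl_ef (LP (LK LD1_c13 LD2_c39 LD3_c41)) = (LP (LK LD1_c13 LD2_c28 LD3_c18)) :=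
  Lgr Lrot21 (Lpe (K33.f486359 IH) (Lpr_et (K33.f162197 IH) (Lpr_ft (K8.f162193 IH) (Lpr_et (f96819 IH) (Lpr_ft (K33.f488837 IH) (Lpn (LP (LK LD1_c13 LD2_c28 LD3_c18))))))))
theorem f488898 : Led Lsl_af (LP (LK LD1_c13 LD2_c28 LD3_c18)) = (LP (LK LD1_c7 LD2_c8 LD3_c31)) :=
  Lgr Lrot50 (Lpe (f488843 IH) (Lpe (K33.f486383 IH) (Lpr_et (K33.f488896 IH) (Lpn (LP (LK LD1_c7 LD2_c8 LD3_c31))))))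
theorem f524668 : Led Lsl_gf (LP (LK LD1_c7 LD2_c8 LD3_c32)) = (LP (LK LD1_c7 LD2_c14 LD3_c1)) :=
  Lgr Lrot47 (Lpr_gt (K35.f524666 IH) (Lpr_af (f488898 IH) (Lpe (K34.f488911 IH) (Lpn (LP (LK LD1_c7 LD2_c14 LD3_c1))))))
theorem f524595 : Led Lsl_ft (LP (LK LD1_c13 LD2_c31 LD3_c35)) = (LP (LK LD1_c22 LD2_c47 LD3_c56)) :=
  Lgr Lrot101 (Lpe (K35.f524593 IH) (Lpr_ff (K35.f524564 IH) (Lpe (K35.f524594 IH) (Lpn (LP (LK LD1_c22 LD2_c47 LD3_c56))))))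
theorem f481140 : Led Lsl_gt (LP (LK LD1_c22 LD2_c47 LD3_c58)) = (LP (LK LD1_c13 LD2_c28 LD3_c20)) :=
  Lre_g IH (LK LD1_c22 LD2_c47 LD3_c58) (LK LD1_c13 LD2_c28 LD3_c20) Lrfl Lrfl
theorem f526863 : Led Lsl_gt (LP (LK LD1_c13 LD2_c31 LD3_c35)) = (LP (LK LD1_c22 LD2_c47 LD3_c58)) :=
  Lgr Lrot5 (Lpr_ft (f524595 IH) (Lpr_at (K35.f524594 IH) (Lpe (f481140 IH) (Lpn (LP (LK LD1_c22 LD2_c47 LD3_c58))))))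
theorem f575381 : Led Lsl_ct (LP (LK LD1_c13 LD2_c47 LD3_c12)) = (LP (LK LD1_c23 LD2_c14 LD3_c46)) :=
  Lre_c IH (LK LD1_c13 LD2_c47 LD3_c12) (LK LD1_c23 LD2_c14 LD3_c46) Lrfl Lrfl
theorem f575385 : Led Lsl_dt (LP (LK LD1_c22 LD2_c47 LD3_c58)) = (LP (LK LD1_c13 LD2_c47 LD3_c12)) :=
  Lgr Lrot105 (Lpe (f526863 IH) (Lpe (K35.f524634 IH) (Lpr_gf (f524668 IH) (Lpe (K8.f136382 IH) (Lpr_gt (f488804 IH) (Lpr_dt (f486974 IH) (Lpe (f524841 IH) (Lpr_dt (f575382 IH) (Lpe (f575381 IH) (Lpn (LP (LK LD1_c13 LD2_c47 LD3_c12))))))))))))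
theorem f575388 : Led Lsl_df (LP (LK LD1_c22 LD2_c47 LD3_c58)) = (LP (LK LD1_c13 LD2_c47 LD3_c12)) :=
  Lgr Lrot38 (Lpr_dt (f575385 IH) (Lpn (LP (LK LD1_c13 LD2_c47 LD3_c12))))
theorem f524679 : Led Lsl_et (LP (LK LD1_c7 LD2_c8 LD3_c32)) = (LP (LK LD1_c13 LD2_c31 LD3_c36)) :=
  Lre_e IH (LK LD1_c7 LD2_c8 LD3_c32) (LK LD1_c13 LD2_c31 LD3_c36) Lrfl Lrfl
theorem f525356 : Led Lsl_ft (LP (LK LD1_c3 LD2_c38 LD3_c44)) = (LP (LK LD1_c7 LD2_c8 LD3_c43)) :=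
  Lgr Lrot4 (Lpe (K29.f4278 IH) (Lpr_ff (K35.f525352 IH) (Lpe (K34.f92552 IH) (Lpn (LP (LK LD1_c7 LD2_c8 LD3_c43))))))
theorem f526729 : Led Lsl_ff (LP (LK LD1_c6 LD2_c58 LD3_c37)) = (LP (LK LD1_c3 LD2_c33 LD3_c52)) :=
  Lgr Lrot19 (Lpe (K29.f482677 IH) (Lpr_ft (f525356 IH) (Lpr_dt (K28.f92548 IH) (Lpn (LP (LK LD1_c3 LD2_c33 LD3_c52))))))
theorem f482791 : Led Lsl_bt (LP (LK LD1_c6 LD2_c58 LD3_c37)) = (LP (LK LD1_c13 LD2_c14 LD3_c47)) :=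
  Lre_b IH (LK LD1_c6 LD2_c58 LD3_c37) (LK LD1_c13 LD2_c14 LD3_c47) Lrfl Lrfl
theorem f481576 : Led Lsl_bt (LP (LK LD1_c7 LD2_c8 LD3_c35)) = (LP (LK LD1_c3 LD2_c33 LD3_c52)) :=
  Lre_b IH (LK LD1_c7 LD2_c8 LD3_c35) (LK LD1_c3 LD2_c33 LD3_c52) Lrfl Lrfl
theorem f526731 : Led Lsl_ft (LP (LK LD1_c13 LD2_c14 LD3_c47)) = (LP (LK LD1_c7 LD2_c8 LD3_c35)) :=
  Lgr Lrot75 (Lpe (f482791 IH) (Lpr_ff (f526729 IH) (Lpe (f481576 IH) (Lpn (LP (LK LD1_c7 LD2_c8 LD3_c35))))))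
theorem f486510 : Led Lsl_gt (LP (LK LD1_c13 LD2_c14 LD3_c47)) = (LP (LK LD1_c22 LD2_c29 LD3_c43)) :=
  Lre_g IH (LK LD1_c13 LD2_c14 LD3_c47) (LK LD1_c22 LD2_c29 LD3_c43) Lrfl Lrfl
theorem f526782 : Led Lsl_at (LP (LK LD1_c7 LD2_c8 LD3_c35)) = (LP (LK LD1_c13 LD2_c31 LD3_c36)) :=
  Lre_a IH (LK LD1_c7 LD2_c8 LD3_c35) (LK LD1_c13 LD2_c31 LD3_c36) Lrfl Lrfl
theorem f526783 : Led Lsl_gt (LP (LK LD1_c22 LD2_c29 LD3_c43)) = (LP (LK LD1_c13 LD2_c31 LD3_c36)) :=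
  Lgr Lrot46 (Lpe (f486510 IH) (Lpr_ft (f526731 IH) (Lpr_at (f526782 IH) (Lpn (LP (LK LD1_c13 LD2_c31 LD3_c36))))))
theorem f519735 : Led Lsl_et (LP (LK LD1_c13 LD2_c47 LD3_c12)) = (LP (LK LD1_c7 LD2_c17 LD3_c12)) :=
  Lre_e IH (LK LD1_c13 LD2_c47 LD3_c12) (LK LD1_c7 LD2_c17 LD3_c12) Lrfl Lrfl
theorem f202310 : Led Lsl_gt (LP (LK LD1_c6 LD2_c14 LD3_c38)) = (LP (LK LD1_c12 LD2_c7 LD3_c29)) :=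
  Lre_g IH (LK LD1_c6 LD2_c14 LD3_c38) (LK LD1_c12 LD2_c7 LD3_c29) Lrfl Lrfl
theorem f202324 : Led Lsl_dt (LP (LK LD1_c21 LD2_c13 LD3_c43)) = (LP (LK LD1_c12 LD2_c7 LD3_c29)) :=
  Lre_d IH (LK LD1_c21 LD2_c13 LD3_c43) (LK LD1_c12 LD2_c7 LD3_c29) Lrfl Lrfl
theorem f575392 : Led Lsl_ef (LP (LK LD1_c22 LD2_c29 LD3_c43)) = (LP (LK LD1_c21 LD2_c13 LD3_c43)) :=
  Lgr Lrot114 (Lpr_gt (f526783 IH) (Lpe (f524679 IH) (Lpr_dt (K35.f524634 IH) (Lpr_gt (f526863 IH) (Lpr_df (f575388 IH) (Lpr_et (f519735 IH) (Lpr_gt (f18050 IH) (Lpe (K37.f543725 IH) (Lpr_gt (f202310 IH) (Lpe (f202324 IH) (Lpn (LP (LK LD1_c21 LD2_c13 LD3_c43)))))))))))))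
theorem f575396 : Led Lsl_et (LP (LK LD1_c22 LD2_c29 LD3_c43)) = (LP (LK LD1_c21 LD2_c13 LD3_c43)) :=
  Lgr Lrot87 (Lpr_ef (f575392 IH) (Lpn (LP (LK LD1_c21 LD2_c13 LD3_c43))))
theorem f70951 : Led Lsl_et (LP (LK LD1_c2 LD2_c53 LD3_c32)) = (LP (LK LD1_c1 LD2_c22 LD3_c49)) :=
  Lre_e IH (LK LD1_c2 LD2_c53 LD3_c32) (LK LD1_c1 LD2_c22 LD3_c49) Lrfl Lrfl
theorem f138310 : Led Lsl_dt (LP (LK LD1_c2 LD2_c53 LD3_c32)) = (LP (LK LD1_c5 LD2_c54 LD3_c18)) :=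
  Lre_d IH (LK LD1_c2 LD2_c53 LD3_c32) (LK LD1_c5 LD2_c54 LD3_c18) Lrfl Lrfl
theorem f101818 : Led Lsl_gt (LP (LK LD1_c11 LD2_c34 LD3_c30)) = (LP (LK LD1_c5 LD2_c54 LD3_c18)) :=
  Lre_g IH (LK LD1_c11 LD2_c34 LD3_c30) (LK LD1_c5 LD2_c54 LD3_c18) Lrfl Lrfl
theorem f138311 : Led Lsl_dt (LP (LK LD1_c20 LD2_c32 LD3_c15)) = (LP (LK LD1_c11 LD2_c34 LD3_c30)) :=
  Lre_d IH (LK LD1_c20 LD2_c32 LD3_c15) (LK LD1_c11 LD2_c34 LD3_c30) Lrfl Lrfl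
theorem f202311 : Led Lsl_et (LP (LK LD1_c20 LD2_c32 LD3_c15)) = (LP (LK LD1_c12 LD2_c7 LD3_c29)) :=
  Lgr Lrot122 (Lpr_dt (f138311 IH) (Lpr_gt (f101818 IH) (Lpe (f138310 IH) (Lpr_et (f70951 IH) (Lpr_gt (K8.f72242 IH) (Lpe (K11.f138183 IH) (Lpr_gt (K11.f202249 IH) (Lpe (K11.f202184 IH) (Lpr_et (K37.f202309 IH) (Lpr_gt (f202310 IH) (Lpn (LP (LK LD1_c12 LD2_c7 LD3_c29)))))))))))))
theorem f202318 : Led Lsl_ef (LP (LK LD1_c20 LD2_c32 LD3_c15)) = (LP (LK LD1_c12 LD2_c7 LD3_c29)) :=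
  Lgr Lrot88 (Lpr_et (f202311 IH) (Lpn (LP (LK LD1_c12 LD2_c7 LD3_c29))))
theorem f202323 : Led Lsl_et (LP (LK LD1_c11 LD2_c34 LD3_c30)) = (LP (LK LD1_c20 LD2_c32 LD3_c16)) :=
  Lre_e IH (LK LD1_c11 LD2_c34 LD3_c30) (LK LD1_c20 LD2_c32 LD3_c16) Lrfl Lrfl
theorem f575398 : Led Lsl_df (LP (LK LD1_c22 LD2_c29 LD3_c43)) = (LP (LK LD1_c20 LD2_c32 LD3_c16)) :=
  Lgr Lrot70 (Lpr_et (f575396 IH) (Lpr_dt (f202324 IH) (Lpe (f202318 IH) (Lpr_dt (f138311 IH) (Lpr_et (f202323 IH) (Lpn (LP (LK LD1_c20 LD2_c32 LD3_c16))))))))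
theorem f482783 : Led Lsl_bt (LP (LK LD1_c3 LD2_c38 LD3_c44)) = (LP (LK LD1_c7 LD2_c17 LD3_c53)) :=
  Lre_b IH (LK LD1_c3 LD2_c38 LD3_c44) (LK LD1_c7 LD2_c17 LD3_c53) Lrfl Lrfl
theorem f482784 : Led Lsl_bt (LP (LK LD1_c13 LD2_c14 LD3_c47)) = (LP (LK LD1_c6 LD2_c58 LD3_c37)) :=
  Lre_b IH (LK LD1_c13 LD2_c14 LD3_c47) (LK LD1_c6 LD2_c58 LD3_c37) Lrfl Lrfl
theorem f482785 : Led Lsl_dt (LP (LK LD1_c7 LD2_c17 LD3_c53)) = (LP (LK LD1_c13 LD2_c14 LD3_c47)) :=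
  Lgr Lrot79 (Lpe (f482783 IH) (Lpr_df (K29.f482677 IH) (Lpe (f482784 IH) (Lpn (LP (LK LD1_c13 LD2_c14 LD3_c47))))))
theorem f202317 : Led Lsl_et (LP (LK LD1_c20 LD2_c32 LD3_c16)) = (LP (LK LD1_c11 LD2_c34 LD3_c30)) :=
  Lre_e IH (LK LD1_c20 LD2_c32 LD3_c16) (LK LD1_c11 LD2_c34 LD3_c30) Lrfl Lrfl
theorem f420873 : Led Lsl_et (LP (LK LD1_c2 LD2_c53 LD3_c35)) = (LP (LK LD1_c5 LD2_c54 LD3_c18)) :=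
  Lre_e IH (LK LD1_c2 LD2_c53 LD3_c35) (LK LD1_c5 LD2_c54 LD3_c18) Lrfl Lrfl
theorem f546602 : Led Lsl_dt (LP (LK LD1_c5 LD2_c54 LD3_c21)) = (LP (LK LD1_c2 LD2_c53 LD3_c33)) :=
  Lre_d IH (LK LD1_c5 LD2_c54 LD3_c21) (LK LD1_c2 LD2_c53 LD3_c33) Lrfl Lrfl
theorem f574654 : Led Lsl_et (LP (LK LD1_c5 LD2_c54 LD3_c21)) = (LP (LK LD1_c11 LD2_c34 LD3_c36)) :=
  Lre_e IH (LK LD1_c5 LD2_c54 LD3_c21) (LK LD1_c11 LD2_c34 LD3_c36) Lrfl Lrfl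
theorem f575401 : Led Lsl_gf (LP (LK LD1_c7 LD2_c17 LD3_c53)) = (LP (LK LD1_c11 LD2_c34 LD3_c36)) :=
  Lgr Lrot138 (Lpr_dt (f482785 IH) (Lpr_gt (f486510 IH) (Lpr_df (f575398 IH) (Lpr_et (f202317 IH) (Lpr_gt (f101818 IH) (Lpe (f420873 IH) (Lpr_dt (K35.f166375 IH) (Lpr_gt (K36.f138620 IH) (Lpe (f546602 IH) (Lpr_et (f574654 IH) (Lpn (LP (LK LD1_c11 LD2_c34 LD3_c36)))))))))))))
theorem f486514 : Led Lsl_at (LP (LK LD1_c13 LD2_c48 LD3_c27)) = (LP (LK LD1_c7 LD2_c17 LD3_c53)) :=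
  Lre_a IH (LK LD1_c13 LD2_c48 LD3_c27) (LK LD1_c7 LD2_c17 LD3_c53) Lrfl Lrfl
theorem f575404 : Led Lsl_gt (LP (LK LD1_c20 LD2_c32 LD3_c29)) = (LP (LK LD1_c11 LD2_c34 LD3_c36)) :=
  Lre_g IH (LK LD1_c20 LD2_c32 LD3_c29) (LK LD1_c11 LD2_c34 LD3_c36) Lrfl Lrfl
theorem f575405 : Led Lsl_ff (LP (LK LD1_c13 LD2_c48 LD3_c27)) = (LP (LK LD1_c20 LD2_c32 LD3_c29)) :=
  Lgr Lrot52 (Lpr_at (f486514 IH) (Lpr_gf (f575401 IH) (Lpe (f575404 IH) (Lpn (LP (LK LD1_c20 LD2_c32 LD3_c29))))))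
theorem f575422 : Led Lsl_ft (LP (LK LD1_c13 LD2_c48 LD3_c27)) = (LP (LK LD1_c20 LD2_c32 LD3_c29)) :=
  Lgr Lrot48 (Lpr_ff (f575405 IH) (Lpn (LP (LK LD1_c20 LD2_c32 LD3_c29))))
theorem f467403 : Led Lsl_bt (LP (LK LD1_c7 LD2_c16 LD3_c59)) = (LP (LK LD1_c13 LD2_c46 LD3_c51)) :=
  Lre_b IH (LK LD1_c7 LD2_c16 LD3_c59) (LK LD1_c13 LD2_c46 LD3_c51) Lrfl Lrfl
theorem f525334 : Led Lsl_at (LP (LK LD1_c3 LD2_c38 LD3_c44)) = (LP (LK LD1_c7 LD2_c16 LD3_c59)) :=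
  Lgr Lrot107 (Lpe (K29.f4278 IH) (Lpr_af (K35.f525330 IH) (Lpe (K30.f456514 IH) (Lpn (LP (LK LD1_c7 LD2_c16 LD3_c59))))))
theorem f4132 : Led Lsl_bt (LP (LK LD1_c7 LD2_c17 LD3_c53)) = (LP (LK LD1_c3 LD2_c38 LD3_c44)) :=
  Lre_b IH (LK LD1_c7 LD2_c17 LD3_c53) (LK LD1_c3 LD2_c38 LD3_c44) Lrfl Lrfl
theorem f543221 : Led Lsl_bt (LP (LK LD1_c10 LD2_c4 LD3_c19)) = (LP (LK LD1_c13 LD2_c48 LD3_c27)) :=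
  Lgr Lrot62 (Lpr_af (K37.f543213 IH) (Lpe (f467403 IH) (Lpe (f525334 IH) (Lpe (f4132 IH) (Lpe (f486514 IH) (Lpn (LP (LK LD1_c13 LD2_c48 LD3_c27))))))))
theorem f482781 : Led Lsl_at (LP (LK LD1_c13 LD2_c48 LD3_c37)) = (LP (LK LD1_c7 LD2_c17 LD3_c56)) :=
  Lre_a IH (LK LD1_c13 LD2_c48 LD3_c37) (LK LD1_c7 LD2_c17 LD3_c56) Lrfl Lrfl
theorem f543225 : Led Lsl_ft (LP (LK LD1_c10 LD2_c4 LD3_c19)) = (LP (LK LD1_c13 LD2_c48 LD3_c37)) :=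
  Lgr Lrot101 (Lpr_af (K37.f543213 IH) (Lpe (K37.f526789 IH) (Lpe (f482781 IH) (Lpn (LP (LK LD1_c13 LD2_c48 LD3_c37))))))
theorem f543229 : Led Lsl_ff (LP (LK LD1_c10 LD2_c4 LD3_c19)) = (LP (LK LD1_c13 LD2_c48 LD3_c37)) :=
  Lgr Lrot3 (Lpr_ft (f543225 IH) (Lpn (LP (LK LD1_c13 LD2_c48 LD3_c37))))
theorem f575426 : Led Lsl_bf (LP (LK LD1_c13 LD2_c48 LD3_c37)) = (LP (LK LD1_c20 LD2_c32 LD3_c29)) :=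
  Lgr Lrot61 (Lpe (f543229 IH) (Lpr_bt (f543221 IH) (Lpr_ft (f575422 IH) (Lpn (LP (LK LD1_c20 LD2_c32 LD3_c29))))))
theorem f567270 : Led Lsl_at (LP (LK LD1_c12 LD2_c8 LD3_c28)) = (LP (LK LD1_c13 LD2_c50 LD3_c21)) :=
  Lgr Lrot80 (Lpe (K41.f424499 IH) (Lpr_af (K41.f567266 IH) (Lpe (K32.f94504 IH) (Lpn (LP (LK LD1_c13 LD2_c50 LD3_c21))))))
theorem f308451 : Led Lsl_bt (LP (LK LD1_c5 LD2_c6 LD3_c47)) = (LP (LK LD1_c10 LD2_c4 LD3_c10)) :=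
  Lre_b IH (LK LD1_c5 LD2_c6 LD3_c47) (LK LD1_c10 LD2_c4 LD3_c10) Lrfl Lrfl
theorem f424474 : Led Lsl_bt (LP (LK LD1_c12 LD2_c8 LD3_c28)) = (LP (LK LD1_c6 LD2_c15 LD3_c5)) :=
  Lre_b IH (LK LD1_c12 LD2_c8 LD3_c28) (LK LD1_c6 LD2_c15 LD3_c5) Lrfl Lrfl
theorem f424475 : Led Lsl_dt (LP (LK LD1_c10 LD2_c4 LD3_c10)) = (LP (LK LD1_c12 LD2_c8 LD3_c28)) :=
  Lgr Lrot79 (Lpe (f308451 IH) (Lpr_df (K37.f424472 IH) (Lpe (f424474 IH) (Lpn (LP (LK LD1_c12 LD2_c8 LD3_c28))))))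
theorem f567278 : Led Lsl_df (LP (LK LD1_c16 LD2_c29 LD3_c38)) = (LP (LK LD1_c13 LD2_c50 LD3_c21)) :=
  Lgr Lrot18 (Lpe (K36.f427871 IH) (Lpr_dt (f424475 IH) (Lpr_at (f567270 IH) (Lpn (LP (LK LD1_c13 LD2_c50 LD3_c21))))))
theorem f567282 : Led Lsl_dt (LP (LK LD1_c16 LD2_c29 LD3_c38)) = (LP (LK LD1_c13 LD2_c50 LD3_c21)) :=
  Lgr Lrot42 (Lpr_df (f567278 IH) (Lpn (LP (LK LD1_c13 LD2_c50 LD3_c21))))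
theorem f94507 : Led Lsl_bt (LP (LK LD1_c13 LD2_c50 LD3_c21)) = (LP (LK LD1_c7 LD2_c18 LD3_c56)) :=
  Lre_b IH (LK LD1_c13 LD2_c50 LD3_c21) (LK LD1_c7 LD2_c18 LD3_c56) Lrfl Lrfl
theorem f94517 : Led Lsl_dt (LP (LK LD1_c7 LD2_c18 LD3_c56)) = (LP (LK LD1_c13 LD2_c50 LD3_c22)) :=
  Lre_d IH (LK LD1_c7 LD2_c18 LD3_c56) (LK LD1_c13 LD2_c50 LD3_c22) Lrfl Lrfl
theorem f567285 : Led Lsl_bf (LP (LK LD1_c16 LD2_c29 LD3_c38)) = (LP (LK LD1_c13 LD2_c50 LD3_c22)) :=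
  Lgr Lrot93 (Lpr_dt (f567282 IH) (Lpr_bt (f94507 IH) (Lpr_dt (f94517 IH) (Lpn (LP (LK LD1_c13 LD2_c50 LD3_c22))))))
theorem f308449 : Led Lsl_bt (LP (LK LD1_c10 LD2_c4 LD3_c10)) = (LP (LK LD1_c5 LD2_c6 LD3_c47)) :=
  Lre_b IH (LK LD1_c10 LD2_c4 LD3_c10) (LK LD1_c5 LD2_c6 LD3_c47) Lrfl Lrfl
theorem f201600 : Led Lsl_et (LP (LK LD1_c8 LD2_c38 LD3_c9)) = (LP (LK LD1_c4 LD2_c20 LD3_c6)) :=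
  Lre_e IH (LK LD1_c8 LD2_c38 LD3_c9) (LK LD1_c4 LD2_c20 LD3_c6) Lrfl Lrfl
theorem f308347 : Led Lsl_af (LP (LK LD1_c8 LD2_c38 LD3_c9)) = (LP (LK LD1_c5 LD2_c6 LD3_c47)) :=
  Lgr Lrot50 (Lpr_et (f201600 IH) (Lpr_at (K36.f308341 IH) (Lpr_et (K37.f201387 IH) (Lpn (LP (LK LD1_c5 LD2_c6 LD3_c47))))))
theorem f201601 : Led Lsl_et (LP (LK LD1_c5 LD2_c13 LD3_c61)) = (LP (LK LD1_c10 LD2_c18 LD3_c1)) :=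
  Lre_e IH (LK LD1_c5 LD2_c13 LD3_c61) (LK LD1_c10 LD2_c18 LD3_c1) Lrfl Lrfl
theorem f201602 : Led Lsl_bf (LP (LK LD1_c8 LD2_c38 LD3_c9)) = (LP (LK LD1_c10 LD2_c18 LD3_c1)) :=
  Lgr Lrot96 (Lpr_et (f201600 IH) (Lpr_bt (K32.f201591 IH) (Lpr_et (f201601 IH) (Lpn (LP (LK LD1_c10 LD2_c18 LD3_c1))))))
theorem f201604 : Led Lsl_bt (LP (LK LD1_c8 LD2_c38 LD3_c9)) = (LP (LK LD1_c10 LD2_c18 LD3_c1)) :=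
  Lgr Lrot127 (Lpr_bf (f201602 IH) (Lpn (LP (LK LD1_c10 LD2_c18 LD3_c1))))
theorem f567287 : Led Lsl_at (LP (LK LD1_c10 LD2_c18 LD3_c1)) = (LP (LK LD1_c13 LD2_c50 LD3_c22)) :=
  Lgr Lrot67 (Lpe (f201604 IH) (Lpr_af (f308347 IH) (Lpe (f308449 IH) (Lpr_af (K36.f427871 IH) (Lpr_bf (f567285 IH) (Lpn (LP (LK LD1_c13 LD2_c50 LD3_c22))))))))
theorem f94523 : Led Lsl_dt (LP (LK LD1_c13 LD2_c50 LD3_c22)) = (LP (LK LD1_c7 LD2_c18 LD3_c56)) :=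
  Lre_d IH (LK LD1_c13 LD2_c50 LD3_c22) (LK LD1_c7 LD2_c18 LD3_c56) Lrfl Lrfl
theorem f567301 : Led Lsl_df (LP (LK LD1_c10 LD2_c18 LD3_c1)) = (LP (LK LD1_c7 LD2_c17 LD3_c7)) :=
  Lgr Lrot18 (Lpr_at (f567287 IH) (Lpr_dt (f94523 IH) (Lpr_at (K32.f497702 IH) (Lpn (LP (LK LD1_c7 LD2_c17 LD3_c7))))))
theorem f147254 : Led Lsl_et (LP (LK LD1_c7 LD2_c19 LD3_c6)) = (LP (LK LD1_c3 LD2_c39 LD3_c27)) :=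
  Lre_e IH (LK LD1_c7 LD2_c19 LD3_c6) (LK LD1_c3 LD2_c39 LD3_c27) Lrfl Lrfl
theorem f147260 : Led Lsl_cf (LP (LK LD1_c7 LD2_c19 LD3_c6)) = (LP (LK LD1_c7 LD2_c23 LD3_c2)) :=
  Lgr Lrot39 (Lpr_et (f147254 IH) (Lpr_ct (K28.f147258 IH) (Lpr_et (K34.f147221 IH) (Lpn (LP (LK LD1_c7 LD2_c23 LD3_c2))))))
theorem f147225 : Led Lsl_bf (LP (LK LD1_c7 LD2_c23 LD3_c2)) = (LP (LK LD1_c7 LD2_c28 LD3_c29)) :=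
  Lgr Lrot24 (Lpr_bt (K34.f147222 IH) (Lpn (LP (LK LD1_c7 LD2_c28 LD3_c29))))
theorem f123628 : Led Lsl_ct (LP (LK LD1_c14 LD2_c6 LD3_c33)) = (LP (LK LD1_c7 LD2_c28 LD3_c29)) :=
  Lre_c IH (LK LD1_c14 LD2_c6 LD3_c33) (LK LD1_c7 LD2_c28 LD3_c29) Lrfl Lrfl
theorem f123615 : Led Lsl_et (LP (LK LD1_c13 LD2_c47 LD3_c4)) = (LP (LK LD1_c7 LD2_c17 LD3_c6)) :=
  Lre_e IH (LK LD1_c13 LD2_c47 LD3_c4) (LK LD1_c7 LD2_c17 LD3_c6) Lrfl Lrfl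
theorem f123616 : Led Lsl_et (LP (LK LD1_c7 LD2_c28 LD3_c27)) = (LP (LK LD1_c14 LD2_c6 LD3_c33)) :=
  Lre_e IH (LK LD1_c7 LD2_c28 LD3_c27) (LK LD1_c14 LD2_c6 LD3_c33) Lrfl Lrfl
theorem f123617 : Led Lsl_bf (LP (LK LD1_c13 LD2_c47 LD3_c4)) = (LP (LK LD1_c14 LD2_c6 LD3_c33)) :=
  Lgr Lrot96 (Lpr_et (f123615 IH) (Lpr_bt (K6.f123609 IH) (Lpr_et (f123616 IH) (Lpn (LP (LK LD1_c14 LD2_c6 LD3_c33))))))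
theorem f123619 : Led Lsl_bt (LP (LK LD1_c13 LD2_c47 LD3_c4)) = (LP (LK LD1_c14 LD2_c6 LD3_c33)) :=
  Lgr Lrot127 (Lpr_bf (f123617 IH) (Lpn (LP (LK LD1_c14 LD2_c6 LD3_c33))))
theorem f147305 : Led Lsl_bt (LP (LK LD1_c7 LD2_c19 LD3_c6)) = (LP (LK LD1_c7 LD2_c17 LD3_c7)) :=
  Lgr Lrot128 (Lpr_cf (f147260 IH) (Lpr_bf (f147225 IH) (Lpe (f123628 IH) (Lpe (f123619 IH) (Lpe (K32.f123632 IH) (Lpn (LP (LK LD1_c7 LD2_c17 LD3_c7))))))))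
theorem f567303 : Led Lsl_dt (LP (LK LD1_c8 LD2_c38 LD3_c9)) = (LP (LK LD1_c7 LD2_c19 LD3_c6)) :=
  Lgr Lrot79 (Lpr_bf (f201602 IH) (Lpr_df (f567301 IH) (Lpe (f147305 IH) (Lpn (LP (LK LD1_c7 LD2_c19 LD3_c6))))))
theorem f567407 : Led Lsl_df (LP (LK LD1_c8 LD2_c38 LD3_c9)) = (LP (LK LD1_c7 LD2_c19 LD3_c6)) :=
  Lgr Lrot38 (Lpr_dt (f567303 IH) (Lpn (LP (LK LD1_c7 LD2_c19 LD3_c6))))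
theorem f201606 : Led Lsl_ct (LP (LK LD1_c18 LD2_c43 LD3_c8)) = (LP (LK LD1_c10 LD2_c18 LD3_c1)) :=
  Lre_c IH (LK LD1_c18 LD2_c43 LD3_c8) (LK LD1_c10 LD2_c18 LD3_c1) Lrfl Lrfl
theorem f201608 : Led Lsl_gt (LP (LK LD1_c28 LD2_c13 LD3_c53)) = (LP (LK LD1_c18 LD2_c43 LD3_c8)) :=
  Lre_g IH (LK LD1_c28 LD2_c13 LD3_c53) (LK LD1_c18 LD2_c43 LD3_c8) Lrfl Lrfl
theorem f123621 : Led Lsl_ct (LP (LK LD1_c13 LD2_c47 LD3_c4)) = (LP (LK LD1_c7 LD2_c17 LD3_c7)) :=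
  Lre_c IH (LK LD1_c13 LD2_c47 LD3_c4) (LK LD1_c7 LD2_c17 LD3_c7) Lrfl Lrfl
theorem f501747 : Led Lsl_df (LP (LK LD1_c6 LD2_c0 LD3_c1)) = (LP (LK LD1_c3 LD2_c47 LD3_c16)) :=
  Lgr Lrot153 (Lpr_gt (K36.f501741 IH) (Lpr_dt (K40.f109917 IH) (Lpr_cf (K6.f115838 IH) (Lpe (K5.f95244 IH) (Lpr_gf (K7.f146482 IH) (Lpe (K6.f146464 IH) (Lpe (K6.f136539 IH) (Lpe (K6.f132302 IH) (Lpr_gt (K6.f136527 IH) (Lpn (LP (LK LD1_c3 LD2_c47 LD3_c16))))))))))))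
theorem f136531 : Led Lsl_dt (LP (LK LD1_c3 LD2_c50 LD3_c28)) = (LP (LK LD1_c7 LD2_c42 LD3_c1)) :=
  Lre_d IH (LK LD1_c3 LD2_c50 LD3_c28) (LK LD1_c7 LD2_c42 LD3_c1) Lrfl Lrfl
theorem f136532 : Led Lsl_gt (LP (LK LD1_c14 LD2_c30 LD3_c51)) = (LP (LK LD1_c7 LD2_c42 LD3_c1)) :=
  Lre_g IH (LK LD1_c14 LD2_c30 LD3_c51) (LK LD1_c7 LD2_c42 LD3_c1) Lrfl Lrfl
theorem f109922 : Led Lsl_et (LP (LK LD1_c1 LD2_c41 LD3_c40)) = (LP (LK LD1_c3 LD2_c29 LD3_c61)) :=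
  Lre_e IH (LK LD1_c1 LD2_c41 LD3_c40) (LK LD1_c3 LD2_c29 LD3_c61) Lrfl Lrfl
theorem f115918 : Led Lsl_gt (LP (LK LD1_c3 LD2_c29 LD3_c61)) = (LP (LK LD1_c7 LD2_c1 LD3_c37)) :=
  Lre_g IH (LK LD1_c3 LD2_c29 LD3_c61) (LK LD1_c7 LD2_c1 LD3_c37) Lrfl Lrfl
theorem f501755 : Led Lsl_et (LP (LK LD1_c13 LD2_c19 LD3_c44)) = (LP (LK LD1_c7 LD2_c1 LD3_c37)) :=
  Lre_e IH (LK LD1_c13 LD2_c19 LD3_c44) (LK LD1_c7 LD2_c1 LD3_c37) Lrfl Lrfl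
theorem f501756 : Led Lsl_df (LP (LK LD1_c14 LD2_c30 LD3_c51)) = (LP (LK LD1_c13 LD2_c19 LD3_c44)) :=
  Lgr Lrot170 (Lpr_gt (f136532 IH) (Lpe (f136531 IH) (Lpr_et (K29.f136523 IH) (Lpr_gt (K6.f136527 IH) (Lpe (f501747 IH) (Lpr_gt (K36.f501741 IH) (Lpe (K6.f109916 IH) (Lpr_et (f109922 IH) (Lpr_gt (f115918 IH) (Lpe (f501755 IH) (Lpn (LP (LK LD1_c13 LD2_c19 LD3_c44)))))))))))))
theorem f501761 : Led Lsl_dt (LP (LK LD1_c14 LD2_c30 LD3_c51)) = (LP (LK LD1_c13 LD2_c19 LD3_c44)) :=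
  Lgr Lrot42 (Lpr_df (f501756 IH) (Lpn (LP (LK LD1_c13 LD2_c19 LD3_c44))))
theorem f162231 : Led Lsl_dt (LP (LK LD1_c14 LD2_c19 LD3_c40)) = (LP (LK LD1_c23 LD2_c57 LD3_c42)) :=
  Lre_d IH (LK LD1_c14 LD2_c19 LD3_c40) (LK LD1_c23 LD2_c57 LD3_c42) Lrfl Lrfl
theorem f478002 : Led Lsl_dt (LP (LK LD1_c22 LD2_c52 LD3_c58)) = (LP (LK LD1_c13 LD2_c31 LD3_c33)) :=
  Lre_d IH (LK LD1_c22 LD2_c52 LD3_c58) (LK LD1_c13 LD2_c31 LD3_c33) Lrfl Lrfl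
theorem f489098 : Led Lsl_at (LP (LK LD1_c23 LD2_c57 LD3_c42)) = (LP (LK LD1_c22 LD2_c52 LD3_c58)) :=
  Lgr Lrot51 (Lpe (f162231 IH) (Lpr_af (K33.f488932 IH) (Lpe (f478002 IH) (Lpn (LP (LK LD1_c22 LD2_c52 LD3_c58))))))
theorem f96805 : Led Lsl_ft (LP (LK LD1_c14 LD2_c19 LD3_c39)) = (LP (LK LD1_c23 LD2_c57 LD3_c42)) :=
  Lre_f IH (LK LD1_c14 LD2_c19 LD3_c39) (LK LD1_c23 LD2_c57 LD3_c42) Lrfl Lrfl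
theorem f136366 : Led Lsl_dt (LP (LK LD1_c13 LD2_c41 LD3_c24)) = (LP (LK LD1_c23 LD2_c7 LD3_c0)) :=
  Lre_d IH (LK LD1_c13 LD2_c41 LD3_c24) (LK LD1_c23 LD2_c7 LD3_c0) Lrfl Lrfl
theorem f96799 : Led Lsl_dt (LP (LK LD1_c14 LD2_c19 LD3_c39)) = (LP (LK LD1_c7 LD2_c35 LD3_c61)) :=
  Lre_d IH (LK LD1_c14 LD2_c19 LD3_c39) (LK LD1_c7 LD2_c35 LD3_c61) Lrfl Lrfl
theorem f162229 : Led Lsl_at (LP (LK LD1_c23 LD2_c7 LD3_c0)) = (LP (LK LD1_c14 LD2_c19 LD3_c39)) :=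
  Lgr Lrot51 (Lpe (f136366 IH) (Lpr_af (K8.f162210 IH) (Lpe (f96799 IH) (Lpn (LP (LK LD1_c14 LD2_c19 LD3_c39))))))
theorem f489103 : Led Lsl_ff (LP (LK LD1_c23 LD2_c7 LD3_c0)) = (LP (LK LD1_c22 LD2_c52 LD3_c58)) :=
  Lgr Lrot30 (Lpr_at (f162229 IH) (Lpr_ft (f96805 IH) (Lpr_at (f489098 IH) (Lpn (LP (LK LD1_c22 LD2_c52 LD3_c58))))))
theorem f96809 : Led Lsl_gt (LP (LK LD1_c23 LD2_c57 LD3_c41)) = (LP (LK LD1_c14 LD2_c19 LD3_c39)) :=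
  Lre_g IH (LK LD1_c23 LD2_c57 LD3_c41) (LK LD1_c14 LD2_c19 LD3_c39) Lrfl Lrfl
theorem f489109 : Led Lsl_gf (LP (LK LD1_c23 LD2_c57 LD3_c41)) = (LP (LK LD1_c22 LD2_c52 LD3_c58)) :=
  Lgr Lrot47 (Lpr_gt (f96809 IH) (Lpe (f162229 IH) (Lpr_ff (f489103 IH) (Lpn (LP (LK LD1_c22 LD2_c52 LD3_c58))))))
theorem f478006 : Led Lsl_dt (LP (LK LD1_c13 LD2_c31 LD3_c33)) = (LP (LK LD1_c22 LD2_c52 LD3_c58)) :=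
  Lre_d IH (LK LD1_c13 LD2_c31 LD3_c33) (LK LD1_c22 LD2_c52 LD3_c58) Lrfl Lrfl
theorem f481108 : Led Lsl_gt (LP (LK LD1_c14 LD2_c26 LD3_c38)) = (LP (LK LD1_c7 LD2_c39 LD3_c51)) :=
  Lre_g IH (LK LD1_c14 LD2_c26 LD3_c38) (LK LD1_c7 LD2_c39 LD3_c51) Lrfl Lrfl
theorem f489111 : Led Lsl_ct (LP (LK LD1_c23 LD2_c57 LD3_c41)) = (LP (LK LD1_c14 LD2_c26 LD3_c38)) :=
  Lgr Lrot152 (Lpr_gf (f489109 IH) (Lpe (f478006 IH) (Lpe (K33.f488995 IH) (Lpr_ct (K33.f488998 IH) (Lpr_gt (K33.f467610 IH) (Lpr_ct (K29.f157578 IH) (Lpe (K33.f481097 IH) (Lpe (K33.f481098 IH) (Lpe (f481108 IH) (Lpn (LP (LK LD1_c14 LD2_c26 LD3_c38))))))))))))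
theorem f442285 : Led Lsl_bt (LP (LK LD1_c3 LD2_c49 LD3_c28)) = (LP (LK LD1_c1 LD2_c51 LD3_c49)) :=
  Lre_b IH (LK LD1_c3 LD2_c49 LD3_c28) (LK LD1_c1 LD2_c51 LD3_c49) Lrfl Lrfl
theorem f92656 : Led Lsl_gt (LP (LK LD1_c1 LD2_c51 LD3_c49)) = (LP (LK LD1_c3 LD2_c49 LD3_c40)) :=
  Lre_g IH (LK LD1_c1 LD2_c51 LD3_c49) (LK LD1_c3 LD2_c49 LD3_c40) Lrfl Lrfl
theorem f488004 : Led Lsl_ct (LP (LK LD1_c3 LD2_c49 LD3_c40)) = (LP (LK LD1_c7 LD2_c40 LD3_c14)) :=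
  Lre_c IH (LK LD1_c3 LD2_c49 LD3_c40) (LK LD1_c7 LD2_c40 LD3_c14) Lrfl Lrfl
theorem f110108 : Led Lsl_dt (LP (LK LD1_c1 LD2_c52 LD3_c15)) = (LP (LK LD1_c3 LD2_c50 LD3_c46)) :=
  Lre_d IH (LK LD1_c1 LD2_c52 LD3_c15) (LK LD1_c3 LD2_c50 LD3_c46) Lrfl Lrfl
theorem f467494 : Led Lsl_ct (LP (LK LD1_c7 LD2_c42 LD3_c38)) = (LP (LK LD1_c3 LD2_c50 LD3_c46)) :=
  Lre_c IH (LK LD1_c7 LD2_c42 LD3_c38) (LK LD1_c3 LD2_c50 LD3_c46) Lrfl Lrfl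
theorem f488005 : Led Lsl_gf (LP (LK LD1_c7 LD2_c42 LD3_c38)) = (LP (LK LD1_c7 LD2_c40 LD3_c14)) :=
  Lgr Lrot104 (Lpr_ct (f467494 IH) (Lpe (f110108 IH) (Lpe (K29.f467490 IH) (Lpr_gf (K33.f487952 IH) (Lpe (K33.f459814 IH) (Lpe (K33.f87835 IH) (Lpe (K2.f87834 IH) (Lpr_gt (f92656 IH) (Lpr_ct (f488004 IH) (Lpn (LP (LK LD1_c7 LD2_c40 LD3_c14))))))))))))
theorem f110109 : Led Lsl_ct (LP (LK LD1_c3 LD2_c50 LD3_c46)) = (LP (LK LD1_c7 LD2_c42 LD3_c38)) :=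
  Lre_c IH (LK LD1_c3 LD2_c50 LD3_c46) (LK LD1_c7 LD2_c42 LD3_c38) Lrfl Lrfl
theorem f488008 : Led Lsl_bt (LP (LK LD1_c3 LD2_c50 LD3_c46)) = (LP (LK LD1_c7 LD2_c42 LD3_c22)) :=
  Lre_b IH (LK LD1_c3 LD2_c50 LD3_c46) (LK LD1_c7 LD2_c42 LD3_c22) Lrfl Lrfl
theorem f136686 : Led Lsl_gt (LP (LK LD1_c7 LD2_c42 LD3_c22)) = (LP (LK LD1_c14 LD2_c30 LD3_c51)) :=
  Lre_g IH (LK LD1_c7 LD2_c42 LD3_c22) (LK LD1_c14 LD2_c30 LD3_c51) Lrfl Lrfl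
theorem f489121 : Led Lsl_bt (LP (LK LD1_c23 LD2_c57 LD3_c41)) = (LP (LK LD1_c14 LD2_c30 LD3_c51)) :=
  Lgr Lrot92 (Lpr_ct (f489111 IH) (Lpr_gt (f481108 IH) (Lpe (K33.f481062 IH) (Lpr_bt (f442285 IH) (Lpr_gt (f92656 IH) (Lpr_ct (f488004 IH) (Lpe (f488005 IH) (Lpe (f110109 IH) (Lpr_bt (f488008 IH) (Lpr_gt (f136686 IH) (Lpn (LP (LK LD1_c14 LD2_c30 LD3_c51)))))))))))))
theorem f501774 : Led Lsl_bt (LP (LK LD1_c13 LD2_c19 LD3_c44)) = (LP (LK LD1_c22 LD2_c36 LD3_c11)) :=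
  Lre_b IH (LK LD1_c13 LD2_c19 LD3_c44) (LK LD1_c22 LD2_c36 LD3_c11) Lrfl Lrfl
theorem f501775 : Led Lsl_df (LP (LK LD1_c23 LD2_c57 LD3_c41)) = (LP (LK LD1_c22 LD2_c36 LD3_c11)) :=
  Lgr Lrot12 (Lpr_bt (f489121 IH) (Lpr_dt (f501761 IH) (Lpr_bt (f501774 IH) (Lpn (LP (LK LD1_c22 LD2_c36 LD3_c11))))))
theorem f96818 : Led Lsl_dt (LP (LK LD1_c7 LD2_c35 LD3_c61)) = (LP (LK LD1_c14 LD2_c19 LD3_c39)) :=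
  Lre_d IH (LK LD1_c7 LD2_c35 LD3_c61) (LK LD1_c14 LD2_c19 LD3_c39) Lrfl Lrfl
theorem f501551 : Led Lsl_dt (LP (LK LD1_c7 LD2_c35 LD3_c59)) = (LP (LK LD1_c11 LD2_c44 LD3_c36)) :=
  Lgr Lrot6 (Lpe (K36.f162490 IH) (Lpr_ct (K33.f96831 IH) (Lpr_gt (K37.f162833 IH) (Lpe (K8.f162821 IH) (Lpe (K39.f120638 IH) (Lpe (K7.f120304 IH) (Lpe (K8.f158585 IH) (Lpr_cf (K8.f158507 IH) (Lpr_gf (K36.f501545 IH) (Lpn (LP (LK LD1_c11 LD2_c44 LD3_c36))))))))))))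
theorem f483349 : Led Lsl_et (LP (LK LD1_c22 LD2_c36 LD3_c11)) = (LP (LK LD1_c13 LD2_c19 LD3_c42)) :=
  Lre_e IH (LK LD1_c22 LD2_c36 LD3_c11) (LK LD1_c13 LD2_c19 LD3_c42) Lrfl Lrfl
theorem f501779 : Led Lsl_gt (LP (LK LD1_c13 LD2_c47 LD3_c4)) = (LP (LK LD1_c13 LD2_c19 LD3_c42)) :=
  Lgr Lrot131 (Lpe (K32.f123633 IH) (Lpr_dt (K28.f109550 IH) (Lpr_gf (K36.f501545 IH) (Lpe (f501551 IH) (Lpe (K36.f15661 IH) (Lpe (K8.f96820 IH) (Lpr_dt (f96818 IH) (Lpe (f96809 IH) (Lpr_df (f501775 IH) (Lpr_et (f483349 IH) (Lpn (LP (LK LD1_c13 LD2_c19 LD3_c42)))))))))))))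
theorem f467023 : Led Lsl_bt (LP (LK LD1_c7 LD2_c18 LD3_c7)) = (LP (LK LD1_c13 LD2_c49 LD3_c0)) :=
  Lre_b IH (LK LD1_c7 LD2_c18 LD3_c7) (LK LD1_c13 LD2_c49 LD3_c0) Lrfl Lrfl
theorem f109581 : Led Lsl_bt (LP (LK LD1_c13 LD2_c18 LD3_c7)) = (LP (LK LD1_c7 LD2_c0 LD3_c46)) :=
  Lre_b IH (LK LD1_c13 LD2_c18 LD3_c7) (LK LD1_c7 LD2_c0 LD3_c46) Lrfl Lrfl
theorem f467024 : Led Lsl_ft (LP (LK LD1_c13 LD2_c49 LD3_c0)) = (LP (LK LD1_c13 LD2_c18 LD3_c7)) :=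
  Lgr Lrot75 (Lpe (f467023 IH) (Lpr_ff (K29.f467001 IH) (Lpe (f109581 IH) (Lpn (LP (LK LD1_c13 LD2_c18 LD3_c7))))))
theorem f467046 : Led Lsl_dt (LP (LK LD1_c7 LD2_c18 LD3_c6)) = (LP (LK LD1_c13 LD2_c49 LD3_c0)) :=
  Lre_d IH (LK LD1_c7 LD2_c18 LD3_c6) (LK LD1_c13 LD2_c49 LD3_c0) Lrfl Lrfl
theorem f467047 : Led Lsl_dt (LP (LK LD1_c13 LD2_c18 LD3_c7)) = (LP (LK LD1_c7 LD2_c0 LD3_c44)) :=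
  Lre_d IH (LK LD1_c13 LD2_c18 LD3_c7) (LK LD1_c7 LD2_c0 LD3_c44) Lrfl Lrfl
theorem f467048 : Led Lsl_ff (LP (LK LD1_c7 LD2_c18 LD3_c6)) = (LP (LK LD1_c7 LD2_c0 LD3_c44)) :=
  Lgr Lrot19 (Lpr_dt (f467046 IH) (Lpr_ft (f467024 IH) (Lpr_dt (f467047 IH) (Lpn (LP (LK LD1_c7 LD2_c0 LD3_c44))))))
theorem f467058 : Led Lsl_ft (LP (LK LD1_c7 LD2_c18 LD3_c6)) = (LP (LK LD1_c7 LD2_c0 LD3_c44)) :=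
  Lgr Lrot48 (Lpr_ff (f467048 IH) (Lpn (LP (LK LD1_c7 LD2_c0 LD3_c44))))
theorem f467061 : Led Lsl_ct (LP (LK LD1_c7 LD2_c0 LD3_c44)) = (LP (LK LD1_c3 LD2_c29 LD3_c41)) :=
  Lre_c IH (LK LD1_c7 LD2_c0 LD3_c44) (LK LD1_c3 LD2_c29 LD3_c41) Lrfl Lrfl
theorem f441544 : Led Lsl_ft (LP (LK LD1_c3 LD2_c29 LD3_c41)) = (LP (LK LD1_c7 LD2_c0 LD3_c57)) :=
  Lre_f IH (LK LD1_c3 LD2_c29 LD3_c41) (LK LD1_c7 LD2_c0 LD3_c57) Lrfl Lrfl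
theorem f467062 : Led Lsl_cf (LP (LK LD1_c7 LD2_c18 LD3_c6)) = (LP (LK LD1_c7 LD2_c0 LD3_c57)) :=
  Lgr Lrot108 (Lpr_ft (f467058 IH) (Lpr_ct (f467061 IH) (Lpr_ft (f441544 IH) (Lpn (LP (LK LD1_c7 LD2_c0 LD3_c57))))))
theorem f467070 : Led Lsl_gt (LP (LK LD1_c13 LD2_c48 LD3_c61)) = (LP (LK LD1_c7 LD2_c18 LD3_c6)) :=
  Lre_g IH (LK LD1_c13 LD2_c48 LD3_c61) (LK LD1_c7 LD2_c18 LD3_c6) Lrfl Lrfl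
theorem f441041 : Led Lsl_bt (LP (LK LD1_c13 LD2_c19 LD3_c42)) = (LP (LK LD1_c7 LD2_c1 LD3_c37)) :=
  Lre_b IH (LK LD1_c13 LD2_c19 LD3_c42) (LK LD1_c7 LD2_c1 LD3_c37) Lrfl Lrfl
theorem f483342 : Led Lsl_cf (LP (LK LD1_c13 LD2_c48 LD3_c61)) = (LP (LK LD1_c13 LD2_c19 LD3_c42)) :=
  Lgr Lrot160 (Lpr_gt (f467070 IH) (Lpr_cf (f467062 IH) (Lpr_bt (K3.f109628 IH) (Lpr_gt (K29.f441418 IH) (Lpr_ct (K29.f483333 IH) (Lpr_gt (K29.f94335 IH) (Lpr_cf (K29.f115902 IH) (Lpr_bt (K4.f115775 IH) (Lpr_gt (f115918 IH) (Lpe (f441041 IH) (Lpn (LP (LK LD1_c13 LD2_c19 LD3_c42)))))))))))))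
theorem f441425 : Led Lsl_bt (LP (LK LD1_c3 LD2_c46 LD3_c8)) = (LP (LK LD1_c1 LD2_c50 LD3_c8)) :=
  Lre_b IH (LK LD1_c3 LD2_c46 LD3_c8) (LK LD1_c1 LD2_c50 LD3_c8) Lrfl Lrfl
theorem f483341 : Led Lsl_bt (LP (LK LD1_c1 LD2_c50 LD3_c8)) = (LP (LK LD1_c3 LD2_c46 LD3_c8)) :=
  Lre_b IH (LK LD1_c1 LD2_c50 LD3_c8) (LK LD1_c3 LD2_c46 LD3_c8) Lrfl Lrfl
theorem f436812 : Led Lsl_bt (LP (LK LD1_c7 LD2_c21 LD3_c36)) = (LP (LK LD1_c3 LD2_c40 LD3_c40)) :=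
  Lre_b IH (LK LD1_c7 LD2_c21 LD3_c36) (LK LD1_c3 LD2_c40 LD3_c40) Lrfl Lrfl
theorem f486088 : Led Lsl_ct (LP (LK LD1_c3 LD2_c46 LD3_c8)) = (LP (LK LD1_c7 LD2_c21 LD3_c36)) :=
  Lgr Lrot83 (Lpe (f483341 IH) (Lpr_cf (K29.f483335 IH) (Lpe (K29.f483452 IH) (Lpr_cf (K33.f483459 IH) (Lpe (f436812 IH) (Lpn (LP (LK LD1_c7 LD2_c21 LD3_c36))))))))
theorem f501781 : Led Lsl_gf (LP (LK LD1_c7 LD2_c28 LD3_c29)) = (LP (LK LD1_c7 LD2_c21 LD3_c36)) :=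
  Lgr Lrot126 (Lpe (f123628 IH) (Lpe (f123617 IH) (Lpr_gt (f501779 IH) (Lpe (f483342 IH) (Lpr_gt (f467070 IH) (Lpr_cf (f467062 IH) (Lpr_bt (K3.f109628 IH) (Lpr_gt (K29.f441418 IH) (Lpe (f441425 IH) (Lpr_ct (f486088 IH) (Lpn (LP (LK LD1_c7 LD2_c21 LD3_c36)))))))))))))
theorem f483456 : Led Lsl_bt (LP (LK LD1_c3 LD2_c40 LD3_c40)) = (LP (LK LD1_c7 LD2_c21 LD3_c36)) :=
  Lre_b IH (LK LD1_c3 LD2_c40 LD3_c40) (LK LD1_c7 LD2_c21 LD3_c36) Lrfl Lrfl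
theorem f456487 : Led Lsl_bt (LP (LK LD1_c1 LD2_c47 LD3_c49)) = (LP (LK LD1_c3 LD2_c41 LD3_c46)) :=
  Lre_b IH (LK LD1_c1 LD2_c47 LD3_c49) (LK LD1_c3 LD2_c41 LD3_c46) Lrfl Lrfl
theorem f437919 : Led Lsl_ct (LP (LK LD1_c3 LD2_c41 LD3_c50)) = (LP (LK LD1_c1 LD2_c47 LD3_c49)) :=
  Lre_c IH (LK LD1_c3 LD2_c41 LD3_c50) (LK LD1_c1 LD2_c47 LD3_c49) Lrfl Lrfl
theorem f456488 : Led Lsl_bt (LP (LK LD1_c7 LD2_c24 LD3_c19)) = (LP (LK LD1_c3 LD2_c41 LD3_c50)) :=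
  Lre_b IH (LK LD1_c7 LD2_c24 LD3_c19) (LK LD1_c3 LD2_c41 LD3_c50) Lrfl Lrfl
theorem f92579 : Led Lsl_bt (LP (LK LD1_c7 LD2_c14 LD3_c60)) = (LP (LK LD1_c13 LD2_c43 LD3_c0)) :=
  Lre_b IH (LK LD1_c7 LD2_c14 LD3_c60) (LK LD1_c13 LD2_c43 LD3_c0) Lrfl Lrfl
theorem f456489 : Led Lsl_cf (LP (LK LD1_c7 LD2_c24 LD3_c19)) = (LP (LK LD1_c13 LD2_c43 LD3_c0)) :=
  Lgr Lrot97 (Lpr_bt (f456488 IH) (Lpr_ct (f437919 IH) (Lpr_bt (f456487 IH) (Lpr_ct (K33.f456483 IH) (Lpr_bt (f92579 IH) (Lpn (LP (LK LD1_c13 LD2_c43 LD3_c0))))))))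
theorem f456497 : Led Lsl_et (LP (LK LD1_c7 LD2_c24 LD3_c19)) = (LP (LK LD1_c3 LD2_c41 LD3_c48)) :=
  Lre_e IH (LK LD1_c7 LD2_c24 LD3_c19) (LK LD1_c3 LD2_c41 LD3_c48) Lrfl Lrfl
theorem f92536 : Led Lsl_bt (LP (LK LD1_c13 LD2_c43 LD3_c0)) = (LP (LK LD1_c7 LD2_c14 LD3_c60)) :=
  Lre_b IH (LK LD1_c13 LD2_c43 LD3_c0) (LK LD1_c7 LD2_c14 LD3_c60) Lrfl Lrfl
theorem f92537 : Led Lsl_et (LP (LK LD1_c7 LD2_c16 LD3_c54)) = (LP (LK LD1_c13 LD2_c43 LD3_c0)) :=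
  Lgr Lrot74 (Lpe (K35.f92535 IH) (Lpr_ef (K28.f92533 IH) (Lpe (f92536 IH) (Lpn (LP (LK LD1_c13 LD2_c43 LD3_c0))))))
theorem f456498 : Led Lsl_ct (LP (LK LD1_c3 LD2_c41 LD3_c48)) = (LP (LK LD1_c7 LD2_c16 LD3_c54)) :=
  Lgr Lrot15 (Lpe (f456497 IH) (Lpr_cf (f456489 IH) (Lpe (f92537 IH) (Lpn (LP (LK LD1_c7 LD2_c16 LD3_c54))))))
theorem f501786 : Led Lsl_gt (LP (LK LD1_c7 LD2_c19 LD3_c6)) = (LP (LK LD1_c7 LD2_c16 LD3_c54)) :=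
  Lgr Lrot65 (Lpr_cf (f147260 IH) (Lpr_bt (K34.f147222 IH) (Lpr_gf (f501781 IH) (Lpe (f483456 IH) (Lpe (K33.f483459 IH) (Lpr_gf (K34.f478593 IH) (Lpe (K29.f483522 IH) (Lpe (K29.f4846 IH) (Lpe (K35.f456471 IH) (Lpr_ct (f456498 IH) (Lpn (LP (LK LD1_c7 LD2_c16 LD3_c54)))))))))))))
theorem f147256 : Led Lsl_bf (LP (LK LD1_c7 LD2_c19 LD3_c6)) = (LP (LK LD1_c7 LD2_c17 LD3_c7)) :=
  Lgr Lrot96 (Lpr_et (f147254 IH) (Lpr_bt (K28.f147217 IH) (Lpr_et (K32.f147255 IH) (Lpn (LP (LK LD1_c7 LD2_c17 LD3_c7))))))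
theorem f466981 : Led Lsl_bt (LP (LK LD1_c3 LD2_c38 LD3_c53)) = (LP (LK LD1_c7 LD2_c18 LD3_c6)) :=
  Lre_b IH (LK LD1_c3 LD2_c38 LD3_c53) (LK LD1_c7 LD2_c18 LD3_c6) Lrfl Lrfl
theorem f466992 : Led Lsl_gt (LP (LK LD1_c7 LD2_c18 LD3_c6)) = (LP (LK LD1_c13 LD2_c48 LD3_c60)) :=
  Lre_g IH (LK LD1_c7 LD2_c18 LD3_c6) (LK LD1_c13 LD2_c48 LD3_c60) Lrfl Lrfl
theorem f95406 : Led Lsl_gt (LP (LK LD1_c13 LD2_c3 LD3_c18)) = (LP (LK LD1_c6 LD2_c51 LD3_c53)) :=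
  Lre_g IH (LK LD1_c13 LD2_c3 LD3_c18) (LK LD1_c6 LD2_c51 LD3_c53) Lrfl Lrfl
theorem f116652 : Led Lsl_bt (LP (LK LD1_c22 LD2_c13 LD3_c1)) = (LP (LK LD1_c13 LD2_c3 LD3_c18)) :=
  Lre_b IH (LK LD1_c22 LD2_c13 LD3_c1) (LK LD1_c13 LD2_c3 LD3_c18) Lrfl Lrfl
theorem f483285 : Led Lsl_cf (LP (LK LD1_c13 LD2_c48 LD3_c60)) = (LP (LK LD1_c22 LD2_c13 LD3_c1)) :=
  Lgr Lrot58 (Lpe (f466992 IH) (Lpr_cf (f467062 IH) (Lpr_bt (K3.f109628 IH) (Lpr_gf (K29.f441413 IH) (Lpe (K35.f441416 IH) (Lpe (K35.f483274 IH) (Lpr_gf (K35.f483277 IH) (Lpe (K34.f116631 IH) (Lpe (f95406 IH) (Lpe (f116652 IH) (Lpn (LP (LK LD1_c22 LD2_c13 LD3_c1)))))))))))))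
theorem f483290 : Led Lsl_ct (LP (LK LD1_c13 LD2_c48 LD3_c60)) = (LP (LK LD1_c22 LD2_c13 LD3_c1)) :=
  Lgr Lrot59 (Lpr_cf (f483285 IH) (Lpn (LP (LK LD1_c22 LD2_c13 LD3_c1))))
theorem f501788 : Led Lsl_gf (LP (LK LD1_c13 LD2_c47 LD3_c4)) = (LP (LK LD1_c22 LD2_c13 LD3_c1)) :=
  Lgr Lrot129 (Lpe (K32.f123632 IH) (Lpe (f147256 IH) (Lpr_gt (f501786 IH) (Lpe (K35.f92535 IH) (Lpe (K28.f456474 IH) (Lpr_gt (K28.f467378 IH) (Lpr_cf (K29.f466984 IH) (Lpr_bt (f466981 IH) (Lpr_gt (f466992 IH) (Lpr_ct (f483290 IH) (Lpn (LP (LK LD1_c22 LD2_c13 LD3_c1)))))))))))))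
theorem f467054 : Led Lsl_dt (LP (LK LD1_c13 LD2_c49 LD3_c0)) = (LP (LK LD1_c7 LD2_c18 LD3_c6)) :=
  Lre_d IH (LK LD1_c13 LD2_c49 LD3_c0) (LK LD1_c7 LD2_c18 LD3_c6) Lrfl Lrfl
theorem f467051 : Led Lsl_gt (LP (LK LD1_c13 LD2_c49 LD3_c0)) = (LP (LK LD1_c23 LD2_c17 LD3_c45)) :=
  Lre_g IH (LK LD1_c13 LD2_c49 LD3_c0) (LK LD1_c23 LD2_c17 LD3_c45) Lrfl Lrfl
theorem f567305 : Led Lsl_cf (LP (LK LD1_c28 LD2_c13 LD3_c53)) = (LP (LK LD1_c23 LD2_c17 LD3_c45)) :=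
  Lgr Lrot169 (Lpr_gt (f201608 IH) (Lpr_ct (f201606 IH) (Lpr_df (f567301 IH) (Lpe (f123621 IH) (Lpr_gf (f501788 IH) (Lpe (f483290 IH) (Lpe (f466992 IH) (Lpe (f467054 IH) (Lpr_gt (f467051 IH) (Lpn (LP (LK LD1_c23 LD2_c17 LD3_c45))))))))))))
theorem f201607 : Led Lsl_ct (LP (LK LD1_c10 LD2_c18 LD3_c1)) = (LP (LK LD1_c18 LD2_c43 LD3_c8)) :=
  Lre_c IH (LK LD1_c10 LD2_c18 LD3_c1) (LK LD1_c18 LD2_c43 LD3_c8) Lrfl Lrfl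
theorem f567309 : Led Lsl_gt (LP (LK LD1_c8 LD2_c38 LD3_c9)) = (LP (LK LD1_c13 LD2_c46 LD3_c51)) :=
  Lgr Lrot164 (Lpr_bf (f201602 IH) (Lpr_ct (f201607 IH) (Lpe (f201608 IH) (Lpr_cf (f567305 IH) (Lpe (f467051 IH) (Lpe (f467023 IH) (Lpr_ct (K29.f4428 IH) (Lpe (K30.f467383 IH) (Lpe (K30.f456514 IH) (Lpr_bt (f467403 IH) (Lpn (LP (LK LD1_c13 LD2_c46 LD3_c51)))))))))))))
theorem f543219 : Led Lsl_at (LP (LK LD1_c10 LD2_c4 LD3_c19)) = (LP (LK LD1_c13 LD2_c46 LD3_c51)) :=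
  Lgr Lrot100 (Lpr_af (K37.f543213 IH) (Lpn (LP (LK LD1_c13 LD2_c46 LD3_c51))))
theorem f567311 : Led Lsl_gf (LP (LK LD1_c8 LD2_c38 LD3_c9)) = (LP (LK LD1_c13 LD2_c48 LD3_c37)) :=
  Lgr Lrot47 (Lpr_gt (f567309 IH) (Lpe (f543219 IH) (Lpr_ff (f543229 IH) (Lpn (LP (LK LD1_c13 LD2_c48 LD3_c37))))))
theorem f514961 : Led Lsl_dt (LP (LK LD1_c1 LD2_c46 LD3_c40)) = K36.v2358 :=
  Lgr Lrot42 (Lpr_df (K36.f514960 IH) (Lpn K36.v2358))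
theorem f210723 : Led Lsl_gt (LP (LK LD1_c5 LD2_c49 LD3_c40)) = (LP (LK LD1_c11 LD2_c28 LD3_c0)) :=
  Lre_g IH (LK LD1_c5 LD2_c49 LD3_c40) (LK LD1_c11 LD2_c28 LD3_c0) Lrfl Lrfl
theorem f210740 : Led Lsl_et (LP (LK LD1_c20 LD2_c25 LD3_c41)) = (LP (LK LD1_c11 LD2_c28 LD3_c0)) :=
  Lre_e IH (LK LD1_c20 LD2_c25 LD3_c41) (LK LD1_c11 LD2_c28 LD3_c0) Lrfl Lrfl
theorem f567413 : Led Lsl_df (LP (LK LD1_c13 LD2_c48 LD3_c37)) = (LP (LK LD1_c20 LD2_c25 LD3_c41)) :=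
  Lgr Lrot170 (Lpe (f567311 IH) (Lpr_df (f567407 IH) (Lpr_et (f147254 IH) (Lpr_gt (K28.f94455 IH) (Lpr_dt (f514961 IH) (Lpqs (K36.f540329 IH) (Lpe (K36.f210734 IH) (Lpe (K39.f146354 IH) (Lpr_et (K36.f210738 IH) (Lpr_gt (f210723 IH) (Lpe (f210740 IH) (Lpn (LP (LK LD1_c20 LD2_c25 LD3_c41))))))))))))))
theorem f567417 : Led Lsl_dt (LP (LK LD1_c13 LD2_c48 LD3_c37)) = (LP (LK LD1_c20 LD2_c25 LD3_c41)) :=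
  Lgr Lrot42 (Lpr_df (f567413 IH) (Lpn (LP (LK LD1_c20 LD2_c25 LD3_c41))))
theorem f482768 : Led Lsl_at (LP (LK LD1_c7 LD2_c17 LD3_c56)) = (LP (LK LD1_c13 LD2_c48 LD3_c37)) :=
  Lre_a IH (LK LD1_c7 LD2_c17 LD3_c56) (LK LD1_c13 LD2_c48 LD3_c37) Lrfl Lrfl
theorem f567420 : Led Lsl_af (LP (LK LD1_c13 LD2_c14 LD3_c48)) = (LP (LK LD1_c20 LD2_c25 LD3_c41)) :=
  Lgr Lrot117 (Lpr_dt (K37.f482764 IH) (Lpr_at (f482768 IH) (Lpr_dt (f567417 IH) (Lpn (LP (LK LD1_c20 LD2_c25 LD3_c41))))))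
theorem f148261 : Led Lsl_bt (LP (LK LD1_c3 LD2_c54 LD3_c33)) = (LP (LK LD1_c7 LD2_c50 LD3_c45)) :=
  Lre_b IH (LK LD1_c3 LD2_c54 LD3_c33) (LK LD1_c7 LD2_c50 LD3_c45) Lrfl Lrfl
theorem f482770 : Led Lsl_ct (LP (LK LD1_c7 LD2_c50 LD3_c45)) = (LP (LK LD1_c13 LD2_c14 LD3_c48)) :=
  Lgr Lrot83 (Lpe (f148261 IH) (Lpe (K30.f148253 IH) (Lpe (K35.f476418 IH) (Lpr_cf (K29.f482702 IH) (Lpe (K37.f482684 IH) (Lpn (LP (LK LD1_c13 LD2_c14 LD3_c48))))))))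
theorem f482773 : Led Lsl_cf (LP (LK LD1_c7 LD2_c50 LD3_c45)) = (LP (LK LD1_c13 LD2_c14 LD3_c48)) :=
  Lgr Lrot11 (Lpr_ct (f482770 IH) (Lpn (LP (LK LD1_c13 LD2_c14 LD3_c48))))
theorem f482778 : Led Lsl_at (LP (LK LD1_c7 LD2_c50 LD3_c45)) = (LP (LK LD1_c14 LD2_c48 LD3_c2)) :=
  Lre_a IH (LK LD1_c7 LD2_c50 LD3_c45) (LK LD1_c14 LD2_c48 LD3_c2) Lrfl Lrfl
theorem f567424 : Led Lsl_ct (LP (LK LD1_c14 LD2_c48 LD3_c2)) = (LP (LK LD1_c20 LD2_c25 LD3_c41)) :=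
  Lgr Lrot111 (Lpe (f482778 IH) (Lpr_cf (f482773 IH) (Lpr_af (f567420 IH) (Lpn (LP (LK LD1_c20 LD2_c25 LD3_c41))))))
theorem f524416 : Led Lsl_et (LP (LK LD1_c7 LD2_c50 LD3_c43)) = (LP (LK LD1_c14 LD2_c48 LD3_c2)) :=
  Lre_e IH (LK LD1_c7 LD2_c50 LD3_c43) (LK LD1_c14 LD2_c48 LD3_c2) Lrfl Lrfl
theorem f567428 : Led Lsl_cf (LP (LK LD1_c7 LD2_c50 LD3_c43)) = (LP (LK LD1_c11 LD2_c28 LD3_c0)) :=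
  Lgr Lrot39 (Lpr_et (f524416 IH) (Lpr_ct (f567424 IH) (Lpr_et (f210740 IH) (Lpn (LP (LK LD1_c11 LD2_c28 LD3_c0))))))
theorem f567430 : Led Lsl_bt (LP (LK LD1_c7 LD2_c8 LD3_c32)) = (LP (LK LD1_c11 LD2_c28 LD3_c0)) :=
  Lgr Lrot128 (Lpr_cf (K35.f524670 IH) (Lpe (K34.f477711 IH) (Lpe (K34.f489010 IH) (Lpe (K34.f524414 IH) (Lpr_cf (f567428 IH) (Lpn (LP (LK LD1_c11 LD2_c28 LD3_c0))))))))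
theorem f524663 : Led Lsl_et (LP (LK LD1_c13 LD2_c31 LD3_c36)) = (LP (LK LD1_c7 LD2_c8 LD3_c32)) :=
  Lre_e IH (LK LD1_c13 LD2_c31 LD3_c36) (LK LD1_c7 LD2_c8 LD3_c32) Lrfl Lrfl
theorem f567419 : Led Lsl_et (LP (LK LD1_c11 LD2_c28 LD3_c0)) = (LP (LK LD1_c20 LD2_c25 LD3_c41)) :=
  Lre_e IH (LK LD1_c11 LD2_c28 LD3_c0) (LK LD1_c20 LD2_c25 LD3_c41) Lrfl Lrfl
theorem f567475 : Led Lsl_bf (LP (LK LD1_c13 LD2_c31 LD3_c36)) = (LP (LK LD1_c20 LD2_c25 LD3_c41)) :=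
  Lgr Lrot96 (Lpr_et (f524663 IH) (Lpr_bt (f567430 IH) (Lpr_et (f567419 IH) (Lpn (LP (LK LD1_c20 LD2_c25 LD3_c41))))))
theorem f575432 : Led Lsl_dt (LP (LK LD1_c13 LD2_c31 LD3_c36)) = (LP (LK LD1_c20 LD2_c32 LD3_c29)) :=
  Lgr Lrot79 (Lpr_bf (f567475 IH) (Lpe (f567417 IH) (Lpr_bf (f575426 IH) (Lpn (LP (LK LD1_c20 LD2_c32 LD3_c29))))))
theorem f121894 : Led Lsl_et (LP (LK LD1_c7 LD2_c17 LD3_c10)) = (LP (LK LD1_c3 LD2_c38 LD3_c25)) :=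
  Lre_e IH (LK LD1_c7 LD2_c17 LD3_c10) (LK LD1_c3 LD2_c38 LD3_c25) Lrfl Lrfl
theorem f575450 : Led Lsl_dt (LP (LK LD1_c7 LD2_c17 LD3_c10)) = (LP (LK LD1_c11 LD2_c34 LD3_c36)) :=
  Lgr Lrot56 (Lpr_et (f121894 IH) (Lpr_gt (K24.f18024 IH) (Lpe (K3.f97505 IH) (Lpe (K37.f543725 IH) (Lpr_gt (f202310 IH) (Lpe (f202324 IH) (Lpe (f575392 IH) (Lpr_gt (f526783 IH) (Lpr_dt (f575432 IH) (Lpr_gt (f575404 IH) (Lpn (LP (LK LD1_c11 LD2_c34 LD3_c36)))))))))))))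
theorem f575454 : Led Lsl_df (LP (LK LD1_c7 LD2_c17 LD3_c10)) = (LP (LK LD1_c11 LD2_c34 LD3_c36)) :=
  Lgr Lrot38 (Lpr_dt (f575450 IH) (Lpn (LP (LK LD1_c11 LD2_c34 LD3_c36))))
theorem f497679 : Led Lsl_et (LP (LK LD1_c7 LD2_c18 LD3_c54)) = (LP (LK LD1_c3 LD2_c39 LD3_c20)) :=
  Lre_e IH (LK LD1_c7 LD2_c18 LD3_c54) (LK LD1_c3 LD2_c39 LD3_c20) Lrfl Lrfl
theorem f497680 : Led Lsl_et (LP (LK LD1_c3 LD2_c38 LD3_c25)) = (LP (LK LD1_c7 LD2_c17 LD3_c10)) :=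
  Lre_e IH (LK LD1_c3 LD2_c38 LD3_c25) (LK LD1_c7 LD2_c17 LD3_c10) Lrfl Lrfl
theorem f497681 : Led Lsl_af (LP (LK LD1_c7 LD2_c18 LD3_c54)) = (LP (LK LD1_c7 LD2_c17 LD3_c10)) :=
  Lgr Lrot50 (Lpr_et (f497679 IH) (Lpr_at (K32.f497675 IH) (Lpr_et (f497680 IH) (Lpn (LP (LK LD1_c7 LD2_c17 LD3_c10))))))
theorem f499805 : Led Lsl_dt (LP (LK LD1_c7 LD2_c18 LD3_c54)) = (LP (LK LD1_c13 LD2_c50 LD3_c20)) :=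
  Lre_d IH (LK LD1_c7 LD2_c18 LD3_c54) (LK LD1_c13 LD2_c50 LD3_c20) Lrfl Lrfl
theorem f575456 : Led Lsl_at (LP (LK LD1_c13 LD2_c50 LD3_c20)) = (LP (LK LD1_c11 LD2_c34 LD3_c36)) :=
  Lgr Lrot51 (Lpe (f499805 IH) (Lpr_af (f497681 IH) (Lpr_df (f575454 IH) (Lpn (LP (LK LD1_c11 LD2_c34 LD3_c36))))))
theorem f556955 : Led Lsl_et (LP (LK LD1_c11 LD2_c34 LD3_c36)) = (LP (LK LD1_c5 LD2_c54 LD3_c21)) :=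
  Lre_e IH (LK LD1_c11 LD2_c34 LD3_c36) (LK LD1_c5 LD2_c54 LD3_c21) Lrfl Lrfl
theorem f575463 : Led Lsl_ef (LP (LK LD1_c13 LD2_c50 LD3_c20)) = (LP (LK LD1_c10 LD2_c18 LD3_c24)) :=
  Lgr Lrot20 (Lpr_at (f575456 IH) (Lpr_et (f556955 IH) (Lpe (f557835 IH) (Lpn (LP (LK LD1_c10 LD2_c18 LD3_c24))))))
theorem f575465 : Led Lsl_ct (LP (LK LD1_c13 LD2_c50 LD3_c20)) = (LP (LK LD1_c23 LD2_c19 LD3_c39)) :=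
  Lre_c IH (LK LD1_c13 LD2_c50 LD3_c20) (LK LD1_c23 LD2_c19 LD3_c39) Lrfl Lrfl
theorem f421691 : Led Lsl_ct (LP (LK LD1_c18 LD2_c43 LD3_c21)) = (LP (LK LD1_c10 LD2_c18 LD3_c24)) :=
  Lre_c IH (LK LD1_c18 LD2_c43 LD3_c21) (LK LD1_c10 LD2_c18 LD3_c24) Lrfl Lrfl
theorem f575466 : Led Lsl_et (LP (LK LD1_c23 LD2_c19 LD3_c39)) = (LP (LK LD1_c18 LD2_c43 LD3_c21)) :=
  Lgr Lrot158 (Lpe (f575465 IH) (Lpr_ef (f575463 IH) (Lpe (f421691 IH) (Lpn (LP (LK LD1_c18 LD2_c43 LD3_c21))))))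
theorem f575460 : Led Lsl_ct (LP (LK LD1_c23 LD2_c19 LD3_c39)) = (LP (LK LD1_c13 LD2_c50 LD3_c20)) :=
  Lre_c IH (LK LD1_c23 LD2_c19 LD3_c39) (LK LD1_c13 LD2_c50 LD3_c20) Lrfl Lrfl
theorem f575409 : Led Lsl_ct (LP (LK LD1_c11 LD2_c34 LD3_c36)) = (LP (LK LD1_c20 LD2_c32 LD3_c28)) :=
  Lre_c IH (LK LD1_c11 LD2_c34 LD3_c36) (LK LD1_c20 LD2_c32 LD3_c28) Lrfl Lrfl
theorem f575461 : Led Lsl_af (LP (LK LD1_c23 LD2_c19 LD3_c39)) = (LP (LK LD1_c20 LD2_c32 LD3_c28)) :=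
  Lgr Lrot68 (Lpr_ct (f575460 IH) (Lpr_at (f575456 IH) (Lpr_ct (f575409 IH) (Lpn (LP (LK LD1_c20 LD2_c32 LD3_c28))))))
theorem f575468 : Led Lsl_et (LP (LK LD1_c11 LD2_c34 LD3_c35)) = (LP (LK LD1_c20 LD2_c32 LD3_c28)) :=
  Lre_e IH (LK LD1_c11 LD2_c34 LD3_c35) (LK LD1_c20 LD2_c32 LD3_c28) Lrfl Lrfl
theorem f575469 : Led Lsl_af (LP (LK LD1_c11 LD2_c34 LD3_c35)) = (LP (LK LD1_c18 LD2_c43 LD3_c21)) :=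
  Lgr Lrot50 (Lpr_et (f575468 IH) (Lpe (f575461 IH) (Lpr_et (f575466 IH) (Lpn (LP (LK LD1_c18 LD2_c43 LD3_c21))))))
theorem f575473 : Led Lsl_at (LP (LK LD1_c11 LD2_c34 LD3_c35)) = (LP (LK LD1_c18 LD2_c43 LD3_c21)) :=
  Lgr Lrot100 (Lpr_af (f575469 IH) (Lpn (LP (LK LD1_c18 LD2_c43 LD3_c21))))
theorem f417502 : Led Lsl_ct (LP (LK LD1_c5 LD2_c54 LD3_c21)) = (LP (LK LD1_c11 LD2_c34 LD3_c35)) :=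
  Lre_c IH (LK LD1_c5 LD2_c54 LD3_c21) (LK LD1_c11 LD2_c34 LD3_c35) Lrfl Lrfl
theorem f575475 : Led Lsl_af (LP (LK LD1_c5 LD2_c54 LD3_c21)) = (LP (LK LD1_c10 LD2_c18 LD3_c24)) :=
  Lgr Lrot68 (Lpr_ct (f417502 IH) (Lpr_at (f575473 IH) (Lpr_ct (f421691 IH) (Lpn (LP (LK LD1_c10 LD2_c18 LD3_c24))))))
theorem f556932 : Led Lsl_ct (LP (LK LD1_c11 LD2_c34 LD3_c35)) = (LP (LK LD1_c5 LD2_c54 LD3_c21)) :=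
  Lre_c IH (LK LD1_c11 LD2_c34 LD3_c35) (LK LD1_c5 LD2_c54 LD3_c21) Lrfl Lrfl
theorem f556948 : Led Lsl_dt (LP (LK LD1_c20 LD2_c32 LD3_c27)) = (LP (LK LD1_c11 LD2_c34 LD3_c35)) :=
  Lre_d IH (LK LD1_c20 LD2_c32 LD3_c27) (LK LD1_c11 LD2_c34 LD3_c35) Lrfl Lrfl
theorem f420749 : Led Lsl_bt (LP (LK LD1_c9 LD2_c7 LD3_c39)) = (LP (LK LD1_c11 LD2_c33 LD3_c40)) :=
  Lgr Lrot127 (Lpr_bf (f420744 IH) (Lpn (LP (LK LD1_c11 LD2_c33 LD3_c40))))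
theorem f269149 : Led Lsl_af (LP (LK LD1_c5 LD2_c13 LD3_c44)) = (LP (LK LD1_c8 LD2_c3 LD3_c16)) :=
  Lgr Lrot117 (Lpr_dt (K17.f164689 IH) (Lpr_at (K16.f269145 IH) (Lpr_dt (K12.f227319 IH) (Lpn (LP (LK LD1_c8 LD2_c3 LD3_c16))))))
theorem f557807 : Led Lsl_bf (LP (LK LD1_c8 LD2_c3 LD3_c16)) = (LP (LK LD1_c5 LD2_c54 LD3_c23)) :=
  Lgr Lrot93 (Lpr_dt (K13.f227320 IH) (Lpr_bt (K40.f557801 IH) (Lpr_dt (K41.f71078 IH) (Lpn (LP (LK LD1_c5 LD2_c54 LD3_c23))))))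
theorem f574643 : Led Lsl_at (LP (LK LD1_c11 LD2_c33 LD3_c40)) = (LP (LK LD1_c5 LD2_c54 LD3_c23)) :=
  Lgr Lrot67 (Lpe (f420749 IH) (Lpr_af (f574640 IH) (Lpe (K41.f242534 IH) (Lpr_af (f269149 IH) (Lpr_bf (f557807 IH) (Lpn (LP (LK LD1_c5 LD2_c54 LD3_c23))))))))
theorem f575482 : Led Lsl_ft (LP (LK LD1_c5 LD2_c54 LD3_c23)) = (LP (LK LD1_c10 LD2_c18 LD3_c24)) :=
  Lgr Lrot101 (Lpe (f574643 IH) (Lpr_ff (f574647 IH) (Lpr_af (f575475 IH) (Lpn (LP (LK LD1_c10 LD2_c18 LD3_c24))))))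
theorem f427971 : Led Lsl_dt (LP (LK LD1_c2 LD2_c30 LD3_c61)) = (LP (LK LD1_c5 LD2_c7 LD3_c25)) :=
  Lre_d IH (LK LD1_c2 LD2_c30 LD3_c61) (LK LD1_c5 LD2_c7 LD3_c25) Lrfl Lrfl
theorem f172047 : Led Lsl_ct (LP (LK LD1_c5 LD2_c7 LD3_c25)) = (LP (LK LD1_c10 LD2_c5 LD3_c15)) :=
  Lre_c IH (LK LD1_c5 LD2_c7 LD3_c25) (LK LD1_c10 LD2_c5 LD3_c15) Lrfl Lrfl
theorem f570364 : Led Lsl_ct (LP (LK LD1_c5 LD2_c54 LD3_c49)) = (LP (LK LD1_c11 LD2_c8 LD3_c27)) :=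
  Lgr Lrot59 (Lpr_cf (K42.f570350 IH) (Lpn (LP (LK LD1_c11 LD2_c8 LD3_c27))))
theorem f553862 : Led Lsl_bt (LP (LK LD1_c5 LD2_c54 LD3_c49)) = (LP (LK LD1_c2 LD2_c53 LD3_c47)) :=
  Lre_b IH (LK LD1_c5 LD2_c54 LD3_c49) (LK LD1_c2 LD2_c53 LD3_c47) Lrfl Lrfl
theorem f194059 : Led Lsl_gt (LP (LK LD1_c2 LD2_c31 LD3_c1)) = (LP (LK LD1_c1 LD2_c18 LD3_c60)) :=
  Lgr Lrot49 (Lpe (K9.f22222 IH) (Lpr_gf (K35.f194057 IH) (Lpe (K9.f45992 IH) (Lpe (K9.f164304 IH) (Lpe (K9.f21252 IH) (Lpr_gt (K0.f3073 IH) (Lpr_dt (K0.f3076 IH) (Lpe (K10.f8386 IH) (Lpe (K22.f21264 IH) (Lpn (LP (LK LD1_c1 LD2_c18 LD3_c60))))))))))))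
theorem f172046 : Led Lsl_bt (LP (LK LD1_c5 LD2_c7 LD3_c25)) = (LP (LK LD1_c2 LD2_c31 LD3_c1)) :=
  Lre_b IH (LK LD1_c5 LD2_c7 LD3_c25) (LK LD1_c2 LD2_c31 LD3_c1) Lrfl Lrfl
theorem f570388 : Led Lsl_gt (LP (LK LD1_c11 LD2_c35 LD3_c13)) = (LP (LK LD1_c10 LD2_c5 LD3_c15)) :=
  Lgr Lrot149 (Lpe (K41.f553869 IH) (Lpe (K39.f137411 IH) (Lpe (f553862 IH) (Lpr_ct (f570364 IH) (Lpe (K42.f194069 IH) (Lpe (K42.f194068 IH) (Lpr_bt (K40.f194067 IH) (Lpe (f194059 IH) (Lpe (f172046 IH) (Lpr_ct (f172047 IH) (Lpn (LP (LK LD1_c10 LD2_c5 LD3_c15)))))))))))))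
theorem f186706 : Led Lsl_dt (LP (LK LD1_c0 LD2_c38 LD3_c23)) = (LP (LK LD1_c1 LD2_c22 LD3_c56)) :=
  Lre_d IH (LK LD1_c0 LD2_c38 LD3_c23) (LK LD1_c1 LD2_c22 LD3_c56) Lrfl Lrfl
theorem f166175 : Led Lsl_gt (LP (LK LD1_c11 LD2_c35 LD3_c48)) = (LP (LK LD1_c5 LD2_c55 LD3_c8)) :=
  Lre_g IH (LK LD1_c11 LD2_c35 LD3_c48) (LK LD1_c5 LD2_c55 LD3_c8) Lrfl Lrfl
theorem f570482 : Led Lsl_dt (LP (LK LD1_c10 LD2_c5 LD3_c15)) = (LP (LK LD1_c11 LD2_c35 LD3_c48)) :=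
  Lgr Lrot57 (Lpe (f570388 IH) (Lpe (K41.f553869 IH) (Lpr_gt (K42.f570476 IH) (Lpr_dt (K41.f239275 IH) (Lpr_gt (K35.f171697 IH) (Lpr_dt (f186706 IH) (Lpe (K38.f166173 IH) (Lpe (K38.f166174 IH) (Lpe (f166175 IH) (Lpn (LP (LK LD1_c11 LD2_c35 LD3_c48))))))))))))
theorem f575484 : Led Lsl_cf (LP (LK LD1_c20 LD2_c32 LD3_c27)) = (LP (LK LD1_c11 LD2_c35 LD3_c48)) :=
  Lgr Lrot161 (Lpr_dt (f556948 IH) (Lpr_ct (f556932 IH) (Lpr_af (f575475 IH) (Lpe (f575482 IH) (Lpr_dt (K41.f557820 IH) (Lpe (f557805 IH) (Lpr_dt (f427971 IH) (Lpr_ct (f172047 IH) (Lpr_dt (f570482 IH) (Lpn (LP (LK LD1_c11 LD2_c35 LD3_c48))))))))))))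
theorem f575486 : Led Lsl_ct (LP (LK LD1_c20 LD2_c32 LD3_c27)) = (LP (LK LD1_c11 LD2_c35 LD3_c48)) :=
  Lgr Lrot59 (Lpr_cf (f575484 IH) (Lpn (LP (LK LD1_c11 LD2_c35 LD3_c48))))
theorem f556949 : Led Lsl_dt (LP (LK LD1_c11 LD2_c34 LD3_c35)) = (LP (LK LD1_c20 LD2_c32 LD3_c27)) :=
  Lre_d IH (LK LD1_c11 LD2_c34 LD3_c35) (LK LD1_c20 LD2_c32 LD3_c27) Lrfl Lrfl
theorem f567219 : Led Lsl_ft (LP (LK LD1_c2 LD2_c53 LD3_c33)) = (LP (LK LD1_c5 LD2_c53 LD3_c53)) :=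
  Lgr Lrot75 (Lpe (K36.f201431 IH) (Lpr_ff (K41.f567217 IH) (Lpr_bf (K41.f420742 IH) (Lpn (LP (LK LD1_c5 LD2_c53 LD3_c53))))))
theorem f269147 : Led Lsl_af (LP (LK LD1_c2 LD2_c33 LD3_c45)) = (LP (LK LD1_c4 LD2_c1 LD3_c16)) :=
  Lgr Lrot0 (Lpr_at (K16.f269145 IH) (Lpn (LP (LK LD1_c4 LD2_c1 LD3_c16))))
theorem f557803 : Led Lsl_bf (LP (LK LD1_c4 LD2_c1 LD3_c16)) = (LP (LK LD1_c2 LD2_c53 LD3_c34)) :=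
  Lgr Lrot24 (Lpr_bt (K40.f557801 IH) (Lpn (LP (LK LD1_c2 LD2_c53 LD3_c34))))
theorem f567213 : Led Lsl_af (LP (LK LD1_c2 LD2_c53 LD3_c34)) = (LP (LK LD1_c5 LD2_c53 LD3_c53)) :=
  Lgr Lrot36 (Lpe (f557803 IH) (Lpe (f269147 IH) (Lpr_bt (K38.f227933 IH) (Lpr_at (K41.f567205 IH) (Lpr_bt (K38.f420740 IH) (Lpn (LP (LK LD1_c5 LD2_c53 LD3_c53))))))))
theorem f308436 : Led Lsl_at (LP (LK LD1_c2 LD2_c30 LD3_c61)) = (LP (LK LD1_c5 LD2_c7 LD3_c17)) :=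
  Lre_a IH (LK LD1_c2 LD2_c30 LD3_c61) (LK LD1_c5 LD2_c7 LD3_c17) Lrfl Lrfl
theorem f544437 : Led Lsl_ff (LP (LK LD1_c2 LD2_c30 LD3_c61)) = (LP (LK LD1_c2 LD2_c34 LD3_c2)) :=
  Lgr Lrot52 (Lpr_at (f308436 IH) (Lpe (K38.f539728 IH) (Lpr_gf (K37.f544435 IH) (Lpn (LP (LK LD1_c2 LD2_c34 LD3_c2))))))
theorem f557818 : Led Lsl_ct (LP (LK LD1_c2 LD2_c30 LD3_c61)) = (LP (LK LD1_c2 LD2_c53 LD3_c34)) :=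
  Lgr Lrot40 (Lpr_ff (f544437 IH) (Lpe (K37.f421686 IH) (Lpr_ff (K40.f557811 IH) (Lpn (LP (LK LD1_c2 LD2_c53 LD3_c34))))))
theorem f565331 : Led Lsl_dt (LP (LK LD1_c5 LD2_c7 LD3_c25)) = (LP (LK LD1_c2 LD2_c30 LD3_c61)) :=
  Lre_d IH (LK LD1_c5 LD2_c7 LD3_c25) (LK LD1_c2 LD2_c30 LD3_c61) Lrfl Lrfl
theorem f194066 : Led Lsl_ct (LP (LK LD1_c10 LD2_c5 LD3_c15)) = (LP (LK LD1_c5 LD2_c7 LD3_c25)) :=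
  Lre_c IH (LK LD1_c10 LD2_c5 LD3_c15) (LK LD1_c5 LD2_c7 LD3_c25) Lrfl Lrfl
theorem f575492 : Led Lsl_df (LP (LK LD1_c10 LD2_c5 LD3_c15)) = (LP (LK LD1_c11 LD2_c35 LD3_c48)) :=
  Lgr Lrot13 (Lpr_ct (f194066 IH) (Lpr_dt (f565331 IH) (Lpr_ct (f557818 IH) (Lpr_af (f567213 IH) (Lpe (f567219 IH) (Lpr_dt (K39.f138621 IH) (Lpr_ct (f417502 IH) (Lpr_dt (f556949 IH) (Lpr_ct (f575486 IH) (Lpn (LP (LK LD1_c11 LD2_c35 LD3_c48))))))))))))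
theorem f565359 : Led Lsl_dt (LP (LK LD1_c18 LD2_c23 LD3_c58)) = (LP (LK LD1_c10 LD2_c5 LD3_c14)) :=
  Lre_d IH (LK LD1_c18 LD2_c23 LD3_c58) (LK LD1_c10 LD2_c5 LD3_c14) Lrfl Lrfl
theorem f46868 : Led Lsl_gt (LP (LK LD1_c2 LD2_c0 LD3_c13)) = (LP (LK LD1_c4 LD2_c5 LD3_c47)) :=
  Lre_g IH (LK LD1_c2 LD2_c0 LD3_c13) (LK LD1_c4 LD2_c5 LD3_c47) Lrfl Lrfl
theorem f55889 : Led Lsl_gt (LP (LK LD1_c8 LD2_c12 LD3_c15)) = (LP (LK LD1_c4 LD2_c5 LD3_c60)) :=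
  Lre_g IH (LK LD1_c8 LD2_c12 LD3_c15) (LK LD1_c4 LD2_c5 LD3_c60) Lrfl Lrfl
theorem f573140 : Led Lsl_df (LP (LK LD1_c5 LD2_c7 LD3_c24)) = (LP (LK LD1_c4 LD2_c5 LD3_c60)) :=
  Lgr Lrot84 (Lpe (K41.f565363 IH) (Lpe (f565359 IH) (Lpr_gf (f573136 IH) (Lpe (f541331 IH) (Lpe (K42.f541330 IH) (Lpe (K36.f541322 IH) (Lpr_gt (f46868 IH) (Lpr_dt (K10.f55835 IH) (Lpr_gt (f55889 IH) (Lpn (LP (LK LD1_c4 LD2_c5 LD3_c60))))))))))))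
theorem f55899 : Led Lsl_ct (LP (LK LD1_c8 LD2_c12 LD3_c36)) = (LP (LK LD1_c4 LD2_c5 LD3_c58)) :=
  Lre_c IH (LK LD1_c8 LD2_c12 LD3_c36) (LK LD1_c4 LD2_c5 LD3_c58) Lrfl Lrfl
theorem f548052 : Led Lsl_cf (LP (LK LD1_c5 LD2_c55 LD3_c6)) = (LP (LK LD1_c8 LD2_c12 LD3_c15)) :=
  Lgr Lrot108 (Lpr_ft (K38.f548041 IH) (Lpr_ct (f55899 IH) (Lpr_ft (K10.f55825 IH) (Lpn (LP (LK LD1_c8 LD2_c12 LD3_c15))))))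
theorem f548017 : Led Lsl_dt (LP (LK LD1_c8 LD2_c12 LD3_c42)) = (LP (LK LD1_c15 LD2_c26 LD3_c54)) :=
  Lre_d IH (LK LD1_c8 LD2_c12 LD3_c42) (LK LD1_c15 LD2_c26 LD3_c54) Lrfl Lrfl
theorem f575496 : Led Lsl_gt (LP (LK LD1_c15 LD2_c26 LD3_c54)) = (LP (LK LD1_c11 LD2_c35 LD3_c48)) :=
  Lgr Lrot49 (Lpe (f548017 IH) (Lpe (K38.f548038 IH) (Lpr_cf (f548052 IH) (Lpr_gt (f55889 IH) (Lpe (f573140 IH) (Lpr_gt (K41.f421703 IH) (Lpr_dt (f427971 IH) (Lpe (f194066 IH) (Lpr_df (f575492 IH) (Lpn (LP (LK LD1_c11 LD2_c35 LD3_c48))))))))))))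
theorem f548030 : Led Lsl_dt (LP (LK LD1_c15 LD2_c26 LD3_c54)) = (LP (LK LD1_c8 LD2_c12 LD3_c42)) :=
  Lre_d IH (LK LD1_c15 LD2_c26 LD3_c54) (LK LD1_c8 LD2_c12 LD3_c42) Lrfl Lrfl
theorem f572422 : Led Lsl_dt (LP (LK LD1_c8 LD2_c12 LD3_c38)) = (LP (LK LD1_c15 LD2_c26 LD3_c46)) :=
  Lre_d IH (LK LD1_c8 LD2_c12 LD3_c38) (LK LD1_c15 LD2_c26 LD3_c46) Lrfl Lrfl
theorem f421143 : Led Lsl_gt (LP (LK LD1_c15 LD2_c23 LD3_c47)) = (LP (LK LD1_c8 LD2_c10 LD3_c37)) :=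
  Lre_g IH (LK LD1_c15 LD2_c23 LD3_c47) (LK LD1_c8 LD2_c10 LD3_c37) Lrfl Lrfl
theorem f548070 : Led Lsl_dt (LP (LK LD1_c25 LD2_c16 LD3_c11)) = (LP (LK LD1_c15 LD2_c23 LD3_c47)) :=
  Lre_d IH (LK LD1_c25 LD2_c16 LD3_c11) (LK LD1_c15 LD2_c23 LD3_c47) Lrfl Lrfl
theorem f575489 : Led Lsl_gt (LP (LK LD1_c20 LD2_c32 LD3_c27)) = (LP (LK LD1_c25 LD2_c16 LD3_c11)) :=
  Lgr Lrot94 (Lpr_cf (f575484 IH) (Lpr_gt (f166175 IH) (Lpr_dt (K38.f166174 IH) (Lpr_gt (K38.f71600 IH) (Lpr_dt (K38.f71601 IH) (Lpr_cf (K38.f548062 IH) (Lpe (K38.f548069 IH) (Lpe (f421143 IH) (Lpe (f548070 IH) (Lpn (LP (LK LD1_c25 LD2_c16 LD3_c11))))))))))))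
theorem f575701 : Led Lsl_cf (LP (LK LD1_c15 LD2_c26 LD3_c46)) = (LP (LK LD1_c25 LD2_c16 LD3_c11)) :=
  Lgr Lrot99 (Lpe (f572422 IH) (Lpe (K42.f183036 IH) (Lpe (K42.f55413 IH) (Lpe (K39.f177395 IH) (Lpe (K38.f177399 IH) (Lpe (f548030 IH) (Lpr_gt (f575496 IH) (Lpe (f575484 IH) (Lpr_gt (f575489 IH) (Lpn (LP (LK LD1_c25 LD2_c16 LD3_c11))))))))))))
theorem f575703 : Led Lsl_ct (LP (LK LD1_c15 LD2_c26 LD3_c46)) = (LP (LK LD1_c25 LD2_c16 LD3_c11)) :=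
  Lgr Lrot59 (Lpr_cf (f575701 IH) (Lpn (LP (LK LD1_c25 LD2_c16 LD3_c11))))
theorem f132717 : Led Lsl_dt (LP (LK LD1_c15 LD2_c4 LD3_c40)) = (LP (LK LD1_c7 LD2_c59 LD3_c56)) :=
  Lre_d IH (LK LD1_c15 LD2_c4 LD3_c40) (LK LD1_c7 LD2_c59 LD3_c56) Lrfl Lrfl
theorem f71809 : Led Lsl_gt (LP (LK LD1_c2 LD2_c53 LD3_c22)) = (LP (LK LD1_c5 LD2_c53 LD3_c61)) :=
  Lre_g IH (LK LD1_c2 LD2_c53 LD3_c22) (LK LD1_c5 LD2_c53 LD3_c61) Lrfl Lrfl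
theorem f541338 : Led Lsl_dt (LP (LK LD1_c15 LD2_c26 LD3_c19)) = (LP (LK LD1_c8 LD2_c12 LD3_c18)) :=
  Lre_d IH (LK LD1_c15 LD2_c26 LD3_c19) (LK LD1_c8 LD2_c12 LD3_c18) Lrfl Lrfl
theorem f572455 : Led Lsl_gt (LP (LK LD1_c15 LD2_c4 LD3_c40)) = (LP (LK LD1_c15 LD2_c26 LD3_c19)) :=
  Lgr Lrot49 (Lpe (K39.f37825 IH) (Lpe (K36.f428068 IH) (Lpe (K36.f421467 IH) (Lpr_gt (K37.f138516 IH) (Lpr_dt (K38.f71125 IH) (Lpr_gt (f71809 IH) (Lpr_dt (K42.f553837 IH) (Lpr_cf (K42.f572442 IH) (Lpe (f541338 IH) (Lpn (LP (LK LD1_c15 LD2_c26 LD3_c19))))))))))))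
theorem f573138 : Led Lsl_af (LP (LK LD1_c18 LD2_c23 LD3_c58)) = (LP (LK LD1_c11 LD2_c35 LD3_c10)) :=
  Lgr Lrot31 (Lpr_gf (f573136 IH) (Lpe (f572455 IH) (Lpr_ft (K39.f387234 IH) (Lpn (LP (LK LD1_c11 LD2_c35 LD3_c10))))))
theorem f575706 : Led Lsl_cf (LP (LK LD1_c18 LD2_c23 LD3_c58)) = (LP (LK LD1_c15 LD2_c23 LD3_c47)) :=
  Lgr Lrot102 (Lpr_af (f573138 IH) (Lpe (K39.f387234 IH) (Lpr_dt (f132717 IH) (Lpr_ct (K35.f161194 IH) (Lpr_dt (K42.f572416 IH) (Lpr_ct (K42.f183036 IH) (Lpr_dt (f572422 IH) (Lpr_ct (f575703 IH) (Lpr_dt (f548070 IH) (Lpn (LP (LK LD1_c15 LD2_c23 LD3_c47))))))))))))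
theorem f420966 : Led Lsl_gt (LP (LK LD1_c2 LD2_c53 LD3_c35)) = (LP (LK LD1_c5 LD2_c54 LD3_c24)) :=
  Lre_g IH (LK LD1_c2 LD2_c53 LD3_c35) (LK LD1_c5 LD2_c54 LD3_c24) Lrfl Lrfl
theorem f420969 : Led Lsl_ct (LP (LK LD1_c5 LD2_c54 LD3_c24)) = (LP (LK LD1_c11 LD2_c34 LD3_c40)) :=
  Lre_c IH (LK LD1_c5 LD2_c54 LD3_c24) (LK LD1_c11 LD2_c34 LD3_c40) Lrfl Lrfl
theorem f575712 : Led Lsl_gt (LP (LK LD1_c11 LD2_c34 LD3_c40)) = (LP (LK LD1_c15 LD2_c23 LD3_c47)) :=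
  Lgr Lrot150 (Lpe (f420969 IH) (Lpe (f420966 IH) (Lpe (K39.f202072 IH) (Lpr_gt (K36.f138620 IH) (Lpe (K41.f557833 IH) (Lpr_gt (K41.f565352 IH) (Lpr_ct (f565358 IH) (Lpe (f565359 IH) (Lpr_cf (f575706 IH) (Lpn (LP (LK LD1_c15 LD2_c23 LD3_c47))))))))))))
theorem f420731 : Led Lsl_bt (LP (LK LD1_c2 LD2_c10 LD3_c0)) = (LP (LK LD1_c2 LD2_c53 LD3_c35)) :=
  Lgr Lrot95 (Lpe (K11.f80912 IH) (Lpr_bf (K35.f201420 IH) (Lpe (K35.f166375 IH) (Lpn (LP (LK LD1_c2 LD2_c53 LD3_c35))))))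
theorem f46875 : Led Lsl_ct (LP (LK LD1_c4 LD2_c5 LD3_c55)) = (LP (LK LD1_c2 LD2_c0 LD3_c14)) :=
  Lre_c IH (LK LD1_c4 LD2_c5 LD3_c55) (LK LD1_c2 LD2_c0 LD3_c14) Lrfl Lrfl
theorem f573142 : Led Lsl_ct (LP (LK LD1_c18 LD2_c23 LD3_c58)) = (LP (LK LD1_c15 LD2_c23 LD3_c47)) :=
  Lgr Lrot152 (Lpr_gf (f573136 IH) (Lpe (f541331 IH) (Lpr_gt (K42.f237444 IH) (Lpr_ct (f46875 IH) (Lpr_gt (K42.f79921 IH) (Lpr_ct (K38.f73383 IH) (Lpe (K2.f73377 IH) (Lpe (K38.f193098 IH) (Lpe (f421143 IH) (Lpn (LP (LK LD1_c15 LD2_c23 LD3_c47))))))))))))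
theorem f575721 : Led Lsl_bf (LP (LK LD1_c15 LD2_c13 LD3_c27)) = (LP (LK LD1_c18 LD2_c23 LD3_c58)) :=
  Lgr Lrot156 (Lpr_gt (K42.f81437 IH) (Lpr_bf (K39.f554385 IH) (Lpe (K15.f231527 IH) (Lpr_gt (K13.f231475 IH) (Lpe (K13.f201437 IH) (Lpr_bt (f420731 IH) (Lpr_gt (f420966 IH) (Lpr_ct (f420969 IH) (Lpr_gt (f575712 IH) (Lpe (f573142 IH) (Lpn (LP (LK LD1_c18 LD2_c23 LD3_c58)))))))))))))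
theorem f570640 : Led Lsl_ft (LP (LK LD1_c15 LD2_c13 LD3_c27)) = (LP (LK LD1_c8 LD2_c5 LD3_c9)) :=
  Lgr Lrot54 (Lpr_df (K42.f570632 IH) (Lpr_ff (K36.f421351 IH) (Lpe (f556488 IH) (Lpn (LP (LK LD1_c8 LD2_c5 LD3_c9))))))
theorem f132714 : Led Lsl_bt (LP (LK LD1_c15 LD2_c4 LD3_c40)) = (LP (LK LD1_c7 LD2_c59 LD3_c61)) :=
  Lre_b IH (LK LD1_c15 LD2_c4 LD3_c40) (LK LD1_c7 LD2_c59 LD3_c61) Lrfl Lrfl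
theorem f138151 : Led Lsl_et (LP (LK LD1_c5 LD2_c53 LD3_c27)) = (LP (LK LD1_c11 LD2_c32 LD3_c57)) :=
  Lre_e IH (LK LD1_c5 LD2_c53 LD3_c27) (LK LD1_c11 LD2_c32 LD3_c57) Lrfl Lrfl
theorem f132695 : Led Lsl_et (LP (LK LD1_c12 LD2_c9 LD3_c6)) = (LP (LK LD1_c6 LD2_c15 LD3_c39)) :=
  Lre_e IH (LK LD1_c12 LD2_c9 LD3_c6) (LK LD1_c6 LD2_c15 LD3_c39) Lrfl Lrfl
theorem f158307 : Led Lsl_at (LP (LK LD1_c11 LD2_c32 LD3_c57)) = (LP (LK LD1_c12 LD2_c9 LD3_c6)) :=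
  Lgr Lrot80 (Lpe (f138151 IH) (Lpr_af (K8.f158303 IH) (Lpe (f132695 IH) (Lpn (LP (LK LD1_c12 LD2_c9 LD3_c6))))))
theorem f158320 : Led Lsl_dt (LP (LK LD1_c20 LD2_c29 LD3_c61)) = (LP (LK LD1_c11 LD2_c32 LD3_c57)) :=
  Lre_d IH (LK LD1_c20 LD2_c29 LD3_c61) (LK LD1_c11 LD2_c32 LD3_c57) Lrfl Lrfl
theorem f132696 : Led Lsl_dt (LP (LK LD1_c12 LD2_c9 LD3_c6)) = (LP (LK LD1_c21 LD2_c15 LD3_c23)) :=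
  Lre_d IH (LK LD1_c12 LD2_c9 LD3_c6) (LK LD1_c21 LD2_c15 LD3_c23) Lrfl Lrfl
theorem f158321 : Led Lsl_af (LP (LK LD1_c20 LD2_c29 LD3_c61)) = (LP (LK LD1_c21 LD2_c15 LD3_c23)) :=
  Lgr Lrot117 (Lpr_dt (f158320 IH) (Lpr_at (f158307 IH) (Lpr_dt (f132696 IH) (Lpn (LP (LK LD1_c21 LD2_c15 LD3_c23))))))
theorem f158325 : Led Lsl_et (LP (LK LD1_c20 LD2_c29 LD3_c61)) = (LP (LK LD1_c11 LD2_c32 LD3_c58)) :=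
  Lre_e IH (LK LD1_c20 LD2_c29 LD3_c61) (LK LD1_c11 LD2_c32 LD3_c58) Lrfl Lrfl
theorem f132701 : Led Lsl_et (LP (LK LD1_c6 LD2_c15 LD3_c39)) = (LP (LK LD1_c12 LD2_c9 LD3_c6)) :=
  Lre_e IH (LK LD1_c6 LD2_c15 LD3_c39) (LK LD1_c12 LD2_c9 LD3_c6) Lrfl Lrfl
theorem f132702 : Led Lsl_et (LP (LK LD1_c7 LD2_c59 LD3_c58)) = (LP (LK LD1_c3 LD2_c59 LD3_c22)) :=
  Lre_e IH (LK LD1_c7 LD2_c59 LD3_c58) (LK LD1_c3 LD2_c59 LD3_c22) Lrfl Lrfl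
theorem f132703 : Led Lsl_bt (LP (LK LD1_c12 LD2_c9 LD3_c6)) = (LP (LK LD1_c7 LD2_c59 LD3_c58)) :=
  Lgr Lrot119 (Lpe (f132701 IH) (Lpr_bf (K8.f132693 IH) (Lpe (f132702 IH) (Lpn (LP (LK LD1_c7 LD2_c59 LD3_c58))))))
theorem f132707 : Led Lsl_dt (LP (LK LD1_c21 LD2_c15 LD3_c23)) = (LP (LK LD1_c12 LD2_c9 LD3_c6)) :=
  Lre_d IH (LK LD1_c21 LD2_c15 LD3_c23) (LK LD1_c12 LD2_c9 LD3_c6) Lrfl Lrfl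
theorem f132708 : Led Lsl_dt (LP (LK LD1_c7 LD2_c59 LD3_c58)) = (LP (LK LD1_c15 LD2_c4 LD3_c41)) :=
  Lre_d IH (LK LD1_c7 LD2_c59 LD3_c58) (LK LD1_c15 LD2_c4 LD3_c41) Lrfl Lrfl
theorem f132709 : Led Lsl_bf (LP (LK LD1_c21 LD2_c15 LD3_c23)) = (LP (LK LD1_c15 LD2_c4 LD3_c41)) :=
  Lgr Lrot93 (Lpr_dt (f132707 IH) (Lpr_bt (f132703 IH) (Lpr_dt (f132708 IH) (Lpn (LP (LK LD1_c15 LD2_c4 LD3_c41))))))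
theorem f132713 : Led Lsl_et (LP (LK LD1_c7 LD2_c59 LD3_c61)) = (LP (LK LD1_c15 LD2_c4 LD3_c41)) :=
  Lre_e IH (LK LD1_c7 LD2_c59 LD3_c61) (LK LD1_c15 LD2_c4 LD3_c41) Lrfl Lrfl
theorem f132715 : Led Lsl_et (LP (LK LD1_c21 LD2_c15 LD3_c23)) = (LP (LK LD1_c15 LD2_c4 LD3_c40)) :=
  Lgr Lrot74 (Lpr_bf (f132709 IH) (Lpe (f132713 IH) (Lpe (f132714 IH) (Lpn (LP (LK LD1_c15 LD2_c4 LD3_c40))))))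
theorem f132718 : Led Lsl_ef (LP (LK LD1_c21 LD2_c15 LD3_c23)) = (LP (LK LD1_c15 LD2_c4 LD3_c40)) :=
  Lgr Lrot88 (Lpr_et (f132715 IH) (Lpn (LP (LK LD1_c15 LD2_c4 LD3_c40))))
theorem f158326 : Led Lsl_at (LP (LK LD1_c11 LD2_c32 LD3_c58)) = (LP (LK LD1_c15 LD2_c4 LD3_c40)) :=
  Lgr Lrot80 (Lpe (f158325 IH) (Lpr_af (f158321 IH) (Lpr_ef (f132718 IH) (Lpn (LP (LK LD1_c15 LD2_c4 LD3_c40))))))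
theorem f556484 : Led Lsl_bt (LP (LK LD1_c8 LD2_c5 LD3_c9)) = (LP (LK LD1_c11 LD2_c32 LD3_c58)) :=
  Lgr Lrot62 (Lpr_af (K39.f556479 IH) (Lpe (K39.f421298 IH) (Lpr_af (f421389 IH) (Lpe (f132714 IH) (Lpe (f158326 IH) (Lpn (LP (LK LD1_c11 LD2_c32 LD3_c58))))))))
theorem f575725 : Led Lsl_ft (LP (LK LD1_c11 LD2_c32 LD3_c58)) = (LP (LK LD1_c18 LD2_c23 LD3_c58)) :=
  Lgr Lrot75 (Lpe (f556484 IH) (Lpe (f570640 IH) (Lpr_bf (f575721 IH) (Lpn (LP (LK LD1_c18 LD2_c23 LD3_c58))))))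
theorem f575731 : Led Lsl_ff (LP (LK LD1_c11 LD2_c32 LD3_c58)) = (LP (LK LD1_c18 LD2_c23 LD3_c58)) :=
  Lgr Lrot3 (Lpr_ft (f575725 IH) (Lpn (LP (LK LD1_c18 LD2_c23 LD3_c58))))
theorem f559599 : Led Lsl_dt (LP (LK LD1_c8 LD2_c12 LD3_c19)) = (LP (LK LD1_c15 LD2_c26 LD3_c20)) :=
  Lre_d IH (LK LD1_c8 LD2_c12 LD3_c19) (LK LD1_c15 LD2_c26 LD3_c20) Lrfl Lrfl
theorem f559609 : Led Lsl_gt (LP (LK LD1_c15 LD2_c26 LD3_c20)) = (LP (LK LD1_c15 LD2_c4 LD3_c40)) :=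
  Lgr Lrot112 (Lpe (f559599 IH) (Lpr_et (K40.f559600 IH) (Lpr_gf (K28.f205713 IH) (Lpr_ef (K39.f539770 IH) (Lpe (K32.f438200 IH) (Lpe (K32.f438194 IH) (Lpe (K7.f37811 IH) (Lpr_gf (K7.f37774 IH) (Lpe (K35.f37824 IH) (Lpr_dt (K39.f37825 IH) (Lpn (LP (LK LD1_c15 LD2_c4 LD3_c40)))))))))))))
theorem f575737 : Led Lsl_gf (LP (LK LD1_c15 LD2_c26 LD3_c20)) = (LP (LK LD1_c18 LD2_c23 LD3_c58)) :=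
  Lgr Lrot47 (Lpr_gt (f559609 IH) (Lpe (f158326 IH) (Lpr_ff (f575731 IH) (Lpn (LP (LK LD1_c18 LD2_c23 LD3_c58))))))
theorem f565348 : Led Lsl_bf (LP (LK LD1_c5 LD2_c14 LD3_c23)) = (LP (LK LD1_c4 LD2_c58 LD3_c33)) :=
  Lgr Lrot61 (Lpr_ft (K41.f565329 IH) (Lpr_bt (K39.f308434 IH) (Lpe (K36.f539699 IH) (Lpn (LP (LK LD1_c4 LD2_c58 LD3_c33))))))
theorem f565361 : Led Lsl_gf (LP (LK LD1_c5 LD2_c53 LD3_c59)) = (LP (LK LD1_c10 LD2_c5 LD3_c14)) :=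
  Lgr Lrot129 (Lpe (K36.f421467 IH) (Lpr_bt (K36.f421469 IH) (Lpe (K38.f427481 IH) (Lpe (K36.f386753 IH) (Lpe (K32.f426272 IH) (Lpr_gt (K36.f426213 IH) (Lpe (K36.f427795 IH) (Lpe (f565348 IH) (Lpr_gt (K41.f565352 IH) (Lpr_ct (f565358 IH) (Lpn (LP (LK LD1_c10 LD2_c5 LD3_c14)))))))))))))
theorem f442730 : Led Lsl_gt (LP (LK LD1_c20 LD2_c31 LD3_c0)) = (LP (LK LD1_c11 LD2_c33 LD3_c41)) :=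
  Lre_g IH (LK LD1_c20 LD2_c31 LD3_c0) (LK LD1_c11 LD2_c33 LD3_c41) Lrfl Lrfl
theorem f575745 : Led Lsl_ct (LP (LK LD1_c15 LD2_c26 LD3_c20)) = (LP (LK LD1_c20 LD2_c31 LD3_c0)) :=
  Lgr Lrot152 (Lpr_gf (f575737 IH) (Lpe (f565360 IH) (Lpe (f565361 IH) (Lpr_ct (K41.f420971 IH) (Lpr_gt (K37.f138516 IH) (Lpr_ct (K38.f71821 IH) (Lpe (K38.f71820 IH) (Lpe (K39.f546625 IH) (Lpe (f442730 IH) (Lpn (LP (LK LD1_c20 LD2_c31 LD3_c0))))))))))))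
theorem f420850 : Led Lsl_gt (LP (LK LD1_c11 LD2_c34 LD3_c46)) = (LP (LK LD1_c20 LD2_c31 LD3_c0)) :=
  Lre_g IH (LK LD1_c11 LD2_c34 LD3_c46) (LK LD1_c20 LD2_c31 LD3_c0) Lrfl Lrfl
theorem f420849 : Led Lsl_ct (LP (LK LD1_c5 LD2_c54 LD3_c26)) = (LP (LK LD1_c11 LD2_c34 LD3_c46)) :=
  Lre_c IH (LK LD1_c5 LD2_c54 LD3_c26) (LK LD1_c11 LD2_c34 LD3_c46) Lrfl Lrfl
theorem f575752 : Led Lsl_bt (LP (LK LD1_c15 LD2_c26 LD3_c20)) = (LP (LK LD1_c8 LD2_c45 LD3_c39)) :=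
  Lgr Lrot130 (Lpr_ct (f575745 IH) (Lpe (f420850 IH) (Lpe (f420849 IH) (Lpe (K35.f420735 IH) (Lpe (K13.f201908 IH) (Lpe (K39.f201355 IH) (Lpr_ct (K39.f201356 IH) (Lpe (K39.f546658 IH) (Lpe (K35.f196167 IH) (Lpr_gf (K35.f538611 IH) (Lpn (LP (LK LD1_c8 LD2_c45 LD3_c39)))))))))))))
theorem f575754 : Led Lsl_bf (LP (LK LD1_c15 LD2_c26 LD3_c20)) = (LP (LK LD1_c8 LD2_c45 LD3_c39)) :=
  Lgr Lrot24 (Lpr_bt (f575752 IH) (Lpn (LP (LK LD1_c8 LD2_c45 LD3_c39))))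
theorem f538354 : Led Lsl_gt (LP (LK LD1_c4 LD2_c37 LD3_c3)) = (LP (LK LD1_c9 LD2_c9 LD3_c53)) :=
  Lre_g IH (LK LD1_c4 LD2_c37 LD3_c3) (LK LD1_c9 LD2_c9 LD3_c53) Lrfl Lrfl
theorem f538355 : Led Lsl_gf (LP (LK LD1_c8 LD2_c5 LD3_c17)) = (LP (LK LD1_c9 LD2_c9 LD3_c53)) :=
  Lgr Lrot76 (Lpr_af (K35.f538345 IH) (Lpe (K35.f538344 IH) (Lpr_gt (f538354 IH) (Lpn (LP (LK LD1_c9 LD2_c9 LD3_c53))))))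
theorem f117572 : Led Lsl_af (LP (LK LD1_c6 LD2_c24 LD3_c29)) = (LP (LK LD1_c8 LD2_c45 LD3_c39)) :=
  Lgr Lrot0 (Lpr_at (K38.f117569 IH) (Lpn (LP (LK LD1_c8 LD2_c45 LD3_c39))))
theorem f557791 : Led Lsl_ft (LP (LK LD1_c9 LD2_c9 LD3_c53)) = (LP (LK LD1_c8 LD2_c45 LD3_c39)) :=
  Lgr Lrot2 (Lpe (f538355 IH) (Lpr_gt (K40.f557789 IH) (Lpr_af (f117572 IH) (Lpn (LP (LK LD1_c8 LD2_c45 LD3_c39))))))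
theorem f538359 : Led Lsl_bt (LP (LK LD1_c17 LD2_c2 LD3_c56)) = (LP (LK LD1_c9 LD2_c9 LD3_c53)) :=
  Lre_b IH (LK LD1_c17 LD2_c2 LD3_c56) (LK LD1_c9 LD2_c9 LD3_c53) Lrfl Lrfl
theorem f575758 : Led Lsl_ft (LP (LK LD1_c15 LD2_c26 LD3_c20)) = (LP (LK LD1_c17 LD2_c2 LD3_c56)) :=
  Lgr Lrot75 (Lpr_bf (f575754 IH) (Lpe (f557791 IH) (Lpe (f538359 IH) (Lpn (LP (LK LD1_c17 LD2_c2 LD3_c56))))))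
theorem f575765 : Led Lsl_ff (LP (LK LD1_c15 LD2_c26 LD3_c20)) = (LP (LK LD1_c17 LD2_c2 LD3_c56)) :=
  Lgr Lrot3 (Lpr_ft (f575758 IH) (Lpn (LP (LK LD1_c17 LD2_c2 LD3_c56))))
theorem f117593 : Led Lsl_dt (LP (LK LD1_c6 LD2_c24 LD3_c29)) = (LP (LK LD1_c3 LD2_c9 LD3_c53)) :=
  Lre_d IH (LK LD1_c6 LD2_c24 LD3_c29) (LK LD1_c3 LD2_c9 LD3_c53) Lrfl Lrfl
theorem f540800 : Led Lsl_bf (LP (LK LD1_c6 LD2_c24 LD3_c29)) = (LP (LK LD1_c8 LD2_c38 LD3_c61)) :=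
  Lgr Lrot93 (Lpr_dt (f117593 IH) (Lpr_bt (K42.f117564 IH) (Lpr_dt (K42.f540796 IH) (Lpn (LP (LK LD1_c8 LD2_c38 LD3_c61))))))
theorem f575756 : Led Lsl_at (LP (LK LD1_c15 LD2_c26 LD3_c20)) = (LP (LK LD1_c12 LD2_c9 LD3_c29)) :=
  Lgr Lrot67 (Lpr_bf (f575754 IH) (Lpe (K38.f117569 IH) (Lpr_bf (f540800 IH) (Lpe (K42.f540828 IH) (Lpe (K35.f538482 IH) (Lpn (LP (LK LD1_c12 LD2_c9 LD3_c29))))))))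
theorem f575775 : Led Lsl_gf (LP (LK LD1_c11 LD2_c35 LD3_c10)) = (LP (LK LD1_c17 LD2_c2 LD3_c56)) :=
  Lgr Lrot47 (Lpe (K35.f538464 IH) (Lpe (f575756 IH) (Lpr_ff (f575765 IH) (Lpn (LP (LK LD1_c17 LD2_c2 LD3_c56))))))
theorem f158328 : Led Lsl_af (LP (LK LD1_c11 LD2_c32 LD3_c58)) = (LP (LK LD1_c15 LD2_c4 LD3_c40)) :=
  Lgr Lrot0 (Lpr_at (f158326 IH) (Lpn (LP (LK LD1_c15 LD2_c4 LD3_c40))))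
theorem f387238 : Led Lsl_ff (LP (LK LD1_c15 LD2_c4 LD3_c40)) = (LP (LK LD1_c11 LD2_c35 LD3_c10)) :=
  Lgr Lrot3 (Lpr_ft (K39.f387234 IH) (Lpn (LP (LK LD1_c11 LD2_c35 LD3_c10))))
theorem f575727 : Led Lsl_af (LP (LK LD1_c11 LD2_c35 LD3_c10)) = (LP (LK LD1_c18 LD2_c23 LD3_c58)) :=
  Lgr Lrot45 (Lpe (f387238 IH) (Lpe (f158328 IH) (Lpr_ft (f575725 IH) (Lpn (LP (LK LD1_c18 LD2_c23 LD3_c58))))))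
theorem f575777 : Led Lsl_gt (LP (LK LD1_c11 LD2_c32 LD3_c58)) = (LP (LK LD1_c17 LD2_c2 LD3_c56)) :=
  Lgr Lrot5 (Lpr_ft (f575725 IH) (Lpe (f575727 IH) (Lpr_gf (f575775 IH) (Lpn (LP (LK LD1_c17 LD2_c2 LD3_c56))))))
theorem f138153 : Led Lsl_dt (LP (LK LD1_c5 LD2_c53 LD3_c28)) = (LP (LK LD1_c11 LD2_c32 LD3_c58)) :=
  Lre_d IH (LK LD1_c5 LD2_c53 LD3_c28) (LK LD1_c11 LD2_c32 LD3_c58) Lrfl Lrfl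
theorem f158331 : Led Lsl_af (LP (LK LD1_c5 LD2_c53 LD3_c28)) = (LP (LK LD1_c7 LD2_c59 LD3_c56)) :=
  Lgr Lrot117 (Lpr_dt (f138153 IH) (Lpr_at (f158326 IH) (Lpr_dt (f132717 IH) (Lpn (LP (LK LD1_c7 LD2_c59 LD3_c56))))))
theorem f421246 : Led Lsl_gt (LP (LK LD1_c2 LD2_c53 LD3_c50)) = (LP (LK LD1_c5 LD2_c53 LD3_c28)) :=
  Lgr Lrot46 (Lpr_gf (K35.f421244 IH) (Lpe (K35.f387232 IH) (Lpe (f158331 IH) (Lpn (LP (LK LD1_c5 LD2_c53 LD3_c28))))))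
theorem f171703 : Led Lsl_dt (LP (LK LD1_c5 LD2_c54 LD3_c57)) = (LP (LK LD1_c11 LD2_c35 LD3_c21)) :=
  Lre_d IH (LK LD1_c5 LD2_c54 LD3_c57) (LK LD1_c11 LD2_c35 LD3_c21) Lrfl Lrfl
theorem f559608 : Led Lsl_dt (LP (LK LD1_c15 LD2_c26 LD3_c20)) = (LP (LK LD1_c8 LD2_c12 LD3_c19)) :=
  Lre_d IH (LK LD1_c15 LD2_c26 LD3_c20) (LK LD1_c8 LD2_c12 LD3_c19) Lrfl Lrfl
theorem f545645 : Led Lsl_at (LP (LK LD1_c4 LD2_c42 LD3_c58)) = (LP (LK LD1_c3 LD2_c5 LD3_c4)) :=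
  Lgr Lrot51 (Lpr_df (K40.f436706 IH) (Lpr_af (K38.f545641 IH) (Lpe (K35.f538430 IH) (Lpn (LP (LK LD1_c3 LD2_c5 LD3_c4))))))
theorem f553788 : Led Lsl_ff (LP (LK LD1_c4 LD2_c42 LD3_c58)) = (LP (LK LD1_c4 LD2_c56 LD3_c40)) :=
  Lgr Lrot103 (Lpr_at (f545645 IH) (Lpe (K38.f81072 IH) (Lpe (K35.f81069 IH) (Lpr_cf (K38.f538476 IH) (Lpe (K38.f538471 IH) (Lpe (K38.f545665 IH) (Lpe (K38.f545669 IH) (Lpe (K38.f180590 IH) (Lpr_df (K39.f553781 IH) (Lpn (LP (LK LD1_c4 LD2_c56 LD3_c40))))))))))))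
theorem f553780 : Led Lsl_ct (LP (LK LD1_c9 LD2_c44 LD3_c43)) = (LP (LK LD1_c4 LD2_c56 LD3_c40)) :=
  Lre_c IH (LK LD1_c9 LD2_c44 LD3_c43) (LK LD1_c4 LD2_c56 LD3_c40) Lrfl Lrfl
theorem f559613 : Led Lsl_ft (LP (LK LD1_c8 LD2_c12 LD3_c19)) = (LP (LK LD1_c9 LD2_c44 LD3_c43)) :=
  Lgr Lrot4 (Lpr_cf (K40.f559606 IH) (Lpr_ff (f553788 IH) (Lpe (f553780 IH) (Lpn (LP (LK LD1_c9 LD2_c44 LD3_c43))))))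
theorem f575772 : Led Lsl_dt (LP (LK LD1_c9 LD2_c44 LD3_c43)) = (LP (LK LD1_c17 LD2_c2 LD3_c56)) :=
  Lgr Lrot60 (Lpe (f559613 IH) (Lpe (f559608 IH) (Lpr_ff (f575765 IH) (Lpn (LP (LK LD1_c17 LD2_c2 LD3_c56))))))
theorem f423619 : Led Lsl_et (LP (LK LD1_c9 LD2_c44 LD3_c43)) = (LP (LK LD1_c4 LD2_c56 LD3_c39)) :=
  Lre_e IH (LK LD1_c9 LD2_c44 LD3_c43) (LK LD1_c4 LD2_c56 LD3_c39) Lrfl Lrfl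
theorem f541289 : Led Lsl_dt (LP (LK LD1_c8 LD2_c12 LD3_c20)) = (LP (LK LD1_c15 LD2_c26 LD3_c21)) :=
  Lre_d IH (LK LD1_c8 LD2_c12 LD3_c20) (LK LD1_c15 LD2_c26 LD3_c21) Lrfl Lrfl
theorem f575782 : Led Lsl_gf (LP (LK LD1_c11 LD2_c35 LD3_c21)) = (LP (LK LD1_c15 LD2_c26 LD3_c21)) :=
  Lgr Lrot145 (Lpe (f171703 IH) (Lpe (K42.f570515 IH) (Lpr_gt (f421246 IH) (Lpr_dt (f138153 IH) (Lpr_gt (f575777 IH) (Lpe (f575772 IH) (Lpr_et (f423619 IH) (Lpr_gt (K39.f172620 IH) (Lpe (K39.f541293 IH) (Lpr_dt (f541289 IH) (Lpn (LP (LK LD1_c15 LD2_c26 LD3_c21)))))))))))))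
theorem f132603 : Led Lsl_et (LP (LK LD1_c2 LD2_c18 LD3_c53)) = (LP (LK LD1_c4 LD2_c42 LD3_c49)) :=
  Lre_e IH (LK LD1_c2 LD2_c18 LD3_c53) (LK LD1_c4 LD2_c42 LD3_c49) Lrfl Lrfl
theorem f575786 : Led Lsl_gt (LP (LK LD1_c4 LD2_c42 LD3_c49)) = (LP (LK LD1_c8 LD2_c12 LD3_c20)) :=
  Lgr Lrot137 (Lpe (f132603 IH) (Lpr_dt (K5.f60949 IH) (Lpr_gf (K8.f138138 IH) (Lpe (K8.f71213 IH) (Lpr_et (K36.f138150 IH) (Lpe (f421246 IH) (Lpr_ef (K42.f570515 IH) (Lpr_dt (f171703 IH) (Lpr_gf (f575782 IH) (Lpe (f541289 IH) (Lpn (LP (LK LD1_c8 LD2_c12 LD3_c20)))))))))))))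
theorem f132593 : Led Lsl_bt (LP (LK LD1_c5 LD2_c47 LD3_c54)) = (LP (LK LD1_c4 LD2_c42 LD3_c49)) :=
  Lgr Lrot119 (Lpe (f132510 IH) (Lpr_bf (K5.f132580 IH) (Lpe (K6.f132592 IH) (Lpn (LP (LK LD1_c4 LD2_c42 LD3_c49))))))
theorem f428743 : Led Lsl_gt (LP (LK LD1_c5 LD2_c47 LD3_c58)) = (LP (LK LD1_c2 LD2_c49 LD3_c61)) :=
  Lre_g IH (LK LD1_c5 LD2_c47 LD3_c58) (LK LD1_c2 LD2_c49 LD3_c61) Lrfl Lrfl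
theorem f46870 : Led Lsl_bt (LP (LK LD1_c4 LD2_c5 LD3_c50)) = (LP (LK LD1_c8 LD2_c12 LD3_c20)) :=
  Lre_b IH (LK LD1_c4 LD2_c5 LD3_c50) (LK LD1_c8 LD2_c12 LD3_c20) Lrfl Lrfl
theorem f46869 : Led Lsl_ct (LP (LK LD1_c4 LD2_c5 LD3_c50)) = (LP (LK LD1_c2 LD2_c0 LD3_c13)) :=
  Lre_c IH (LK LD1_c4 LD2_c5 LD3_c50) (LK LD1_c2 LD2_c0 LD3_c13) Lrfl Lrfl
theorem f46854 : Led Lsl_ft (LP (LK LD1_c8 LD2_c25 LD3_c52)) = (LP (LK LD1_c4 LD2_c13 LD3_c30)) :=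
  Lre_f IH (LK LD1_c8 LD2_c25 LD3_c52) (LK LD1_c4 LD2_c13 LD3_c30) Lrfl Lrfl
theorem f46856 : Led Lsl_bf (LP (LK LD1_c8 LD2_c25 LD3_c52)) = (LP (LK LD1_c8 LD2_c10 LD3_c31)) :=
  Lgr Lrot61 (Lpr_ft (f46854 IH) (Lpr_bt (K2.f46843 IH) (Lpr_ft (K41.f46855 IH) (Lpn (LP (LK LD1_c8 LD2_c10 LD3_c31))))))
theorem f46863 : Led Lsl_gt (LP (LK LD1_c8 LD2_c25 LD3_c52)) = (LP (LK LD1_c4 LD2_c13 LD3_c29)) :=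
  Lre_g IH (LK LD1_c8 LD2_c25 LD3_c52) (LK LD1_c4 LD2_c13 LD3_c29) Lrfl Lrfl
theorem f575794 : Led Lsl_cf (LP (LK LD1_c5 LD2_c47 LD3_c58)) = (LP (LK LD1_c4 LD2_c13 LD3_c29)) :=
  Lgr Lrot125 (Lpr_gt (f428743 IH) (Lpe (K38.f132811 IH) (Lpr_bt (f132593 IH) (Lpr_gt (f575786 IH) (Lpe (f46870 IH) (Lpr_ct (f46869 IH) (Lpr_gt (f46868 IH) (Lpe (K40.f46867 IH) (Lpe (f46856 IH) (Lpr_gt (f46863 IH) (Lpn (LP (LK LD1_c4 LD2_c13 LD3_c29)))))))))))))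
theorem f575797 : Led Lsl_ct (LP (LK LD1_c5 LD2_c47 LD3_c58)) = (LP (LK LD1_c4 LD2_c13 LD3_c29)) :=
  Lgr Lrot59 (Lpr_cf (f575794 IH) (Lpn (LP (LK LD1_c4 LD2_c13 LD3_c29))))
theorem f56217 : Led Lsl_gt (LP (LK LD1_c4 LD2_c13 LD3_c29)) = (LP (LK LD1_c2 LD2_c4 LD3_c5)) :=
  Lre_g IH (LK LD1_c4 LD2_c13 LD3_c29) (LK LD1_c2 LD2_c4 LD3_c5) Lrfl Lrfl
theorem f56216 : Led Lsl_bt (LP (LK LD1_c1 LD2_c5 LD3_c23)) = (LP (LK LD1_c0 LD2_c29 LD3_c55)) :=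
  Lre_b IH (LK LD1_c1 LD2_c5 LD3_c23) (LK LD1_c0 LD2_c29 LD3_c55) Lrfl Lrfl
theorem f56010 : Led Lsl_bt (LP (LK LD1_c2 LD2_c59 LD3_c53)) = (LP (LK LD1_c6 LD2_c7 LD3_c26)) :=
  Lre_b IH (LK LD1_c2 LD2_c59 LD3_c53) (LK LD1_c6 LD2_c7 LD3_c26) Lrfl Lrfl
theorem f548393 : Led Lsl_at (LP (LK LD1_c6 LD2_c7 LD3_c26)) = (LP (LK LD1_c11 LD2_c57 LD3_c34)) :=
  Lre_a IH (LK LD1_c6 LD2_c7 LD3_c26) (LK LD1_c11 LD2_c57 LD3_c34) Lrfl Lrfl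
theorem f548372 : Led Lsl_bt (LP (LK LD1_c5 LD2_c37 LD3_c53)) = (LP (LK LD1_c2 LD2_c44 LD3_c54)) :=
  Lre_b IH (LK LD1_c5 LD2_c37 LD3_c53) (LK LD1_c2 LD2_c44 LD3_c54) Lrfl Lrfl
theorem f548395 : Led Lsl_bt (LP (LK LD1_c11 LD2_c57 LD3_c34)) = (LP (LK LD1_c11 LD2_c7 LD3_c4)) :=
  Lgr Lrot62 (Lpe (f548393 IH) (Lpe (f56010 IH) (Lpr_af (K38.f548389 IH) (Lpe (f548372 IH) (Lpe (f548394 IH) (Lpn (LP (LK LD1_c11 LD2_c7 LD3_c4))))))))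
theorem f132426 : Led Lsl_bt (LP (LK LD1_c1 LD2_c21 LD3_c5)) = (LP (LK LD1_c2 LD2_c49 LD3_c61)) :=
  Lre_b IH (LK LD1_c1 LD2_c21 LD3_c5) (LK LD1_c2 LD2_c49 LD3_c61) Lrfl Lrfl
theorem f171704 : Led Lsl_dt (LP (LK LD1_c10 LD2_c17 LD3_c54)) = (LP (LK LD1_c5 LD2_c13 LD3_c53)) :=
  Lre_d IH (LK LD1_c10 LD2_c17 LD3_c54) (LK LD1_c5 LD2_c13 LD3_c53) Lrfl Lrfl
theorem f574000 : Led Lsl_ct (LP (LK LD1_c4 LD2_c53 LD3_c48)) = (LP (LK LD1_c6 LD2_c15 LD3_c61)) :=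
  Lgr Lrot8 (Lpr_gt (f177778 IH) (Lpr_dt (K36.f225669 IH) (Lpe (K42.f541273 IH) (Lpr_dt (K36.f406594 IH) (Lpe (K35.f171705 IH) (Lpe (f171704 IH) (Lpe (f570502 IH) (Lpe (K42.f193627 IH) (Lpr_gf (f573996 IH) (Lpn (LP (LK LD1_c6 LD2_c15 LD3_c61))))))))))))
theorem f574002 : Led Lsl_bf (LP (LK LD1_c5 LD2_c47 LD3_c57)) = (LP (LK LD1_c4 LD2_c53 LD3_c48)) :=
  Lgr Lrot34 (Lpe (f436719 IH) (Lpe (f132426 IH) (Lpr_ct (K38.f132354 IH) (Lpr_gf (K40.f557512 IH) (Lpe (K40.f557506 IH) (Lpr_gf (K40.f557537 IH) (Lpe (K42.f569454 IH) (Lpr_ct (K42.f176035 IH) (Lpr_gf (f573996 IH) (Lpe (f574000 IH) (Lpn (LP (LK LD1_c4 LD2_c53 LD3_c48)))))))))))))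
theorem f574521 : Led Lsl_ct (LP (LK LD1_c11 LD2_c57 LD3_c34)) = (LP (LK LD1_c6 LD2_c24 LD3_c30)) :=
  Lgr Lrot64 (Lpr_bt (f548395 IH) (Lpr_gf (f574519 IH) (Lpr_bf (f574002 IH) (Lpr_ct (f574000 IH) (Lpe (f81006 IH) (Lpe (K6.f81073 IH) (Lpe (K35.f81099 IH) (Lpr_bf (K42.f571368 IH) (Lpr_ct (K38.f495425 IH) (Lpe (K38.f545114 IH) (Lpn (LP (LK LD1_c6 LD2_c24 LD3_c30)))))))))))))
theorem f575802 : Led Lsl_gf (LP (LK LD1_c5 LD2_c47 LD3_c58)) = (LP (LK LD1_c11 LD2_c7 LD3_c4)) :=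
  Lgr Lrot181 (Lpr_ct (f575797 IH) (Lpr_gt (f56217 IH) (Lpr_cf (K28.f56185 IH) (Lpr_bt (f56216 IH) (Lpe (K9.f168209 IH) (Lpe (K30.f56553 IH) (Lpe (K38.f197242 IH) (Lpr_gt (K38.f547679 IH) (Lpe (f574521 IH) (Lpr_bt (f548395 IH) (Lpn (LP (LK LD1_c11 LD2_c7 LD3_c4)))))))))))))
theorem f551761 : Led Lsl_bf (LP (LK LD1_c8 LD2_c4 LD3_c55)) = (LP (LK LD1_c5 LD2_c13 LD3_c27)) :=
  Lgr Lrot90 (Lpr_ct (f237438 IH) (Lpr_bt (K42.f386157 IH) (Lpr_ct (K39.f176003 IH) (Lpr_bt (K39.f551755 IH) (Lpr_ct (K42.f406470 IH) (Lpn (LP (LK LD1_c5 LD2_c13 LD3_c27))))))))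
theorem f193995 : Led Lsl_gt (LP (LK LD1_c5 LD2_c12 LD3_c59)) = (LP (LK LD1_c2 LD2_c33 LD3_c21)) :=
  Lre_g IH (LK LD1_c5 LD2_c12 LD3_c59) (LK LD1_c2 LD2_c33 LD3_c21) Lrfl Lrfl
theorem f575804 : Led Lsl_bt (LP (LK LD1_c4 LD2_c13 LD3_c29)) = (LP (LK LD1_c5 LD2_c12 LD3_c59)) :=
  Lgr Lrot130 (Lpe (f575794 IH) (Lpr_gf (f575802 IH) (Lpr_cf (f574387 IH) (Lpe (f569505 IH) (Lpe (K42.f386146 IH) (Lpr_bf (f551761 IH) (Lpr_ct (K42.f406471 IH) (Lpe (K39.f165514 IH) (Lpe (K39.f193992 IH) (Lpe (f193995 IH) (Lpn (LP (LK LD1_c5 LD2_c12 LD3_c59)))))))))))))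
theorem f572457 : Led Lsl_cf (LP (LK LD1_c4 LD2_c53 LD3_c53)) = (LP (LK LD1_c8 LD2_c12 LD3_c20)) :=
  Lgr Lrot58 (Lpe (K36.f31621 IH) (Lpqs (K36.f537605 IH) (Lpe (K39.f496272 IH) (Lpr_bt (K39.f541235 IH) (Lpe (K12.f204930 IH) (Lpe (K38.f204932 IH) (Lpr_ct (K38.f204924 IH) (Lpe (K39.f186267 IH) (Lpr_cf (K42.f572442 IH) (Lpe (K42.f541330 IH) (Lpe (K39.f541286 IH) (Lpn (LP (LK LD1_c8 LD2_c12 LD3_c20))))))))))))))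
theorem f288169 : Led Lsl_ff (LP (LK LD1_c2 LD2_c24 LD3_c47)) = (LP (LK LD1_c2 LD2_c24 LD3_c50)) :=
  Lgr Lrot3 (Lpr_ft (K36.f288165 IH) (Lpn (LP (LK LD1_c2 LD2_c24 LD3_c50))))
theorem f225555 : Led Lsl_at (LP (LK LD1_c2 LD2_c24 LD3_c47)) = (LP (LK LD1_c4 LD2_c53 LD3_c49)) :=
  Lre_a IH (LK LD1_c2 LD2_c24 LD3_c47) (LK LD1_c4 LD2_c53 LD3_c49) Lrfl Lrfl
theorem f288171 : Led Lsl_gf (LP (LK LD1_c4 LD2_c53 LD3_c49)) = (LP (LK LD1_c4 LD2_c53 LD3_c53)) :=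
  Lgr Lrot76 (Lpe (f225555 IH) (Lpr_ff (f288169 IH) (Lpr_gt (K36.f31621 IH) (Lpn (LP (LK LD1_c4 LD2_c53 LD3_c53))))))
theorem f546468 : Led Lsl_gf (LP (LK LD1_c5 LD2_c12 LD3_c59)) = (LP (LK LD1_c5 LD2_c5 LD3_c13)) :=
  Lgr Lrot47 (Lpr_gt (f193995 IH) (Lpq (K38.f537896 IH) (Lpe (K38.f506322 IH) (Lpr_ff (K38.f546459 IH) (Lpn (LP (LK LD1_c5 LD2_c5 LD3_c13)))))))
theorem f575811 : Led Lsl_bt (LP (LK LD1_c6 LD2_c7 LD3_c34)) = (LP (LK LD1_c5 LD2_c5 LD3_c13)) :=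
  Lgr Lrot22 (Lpe (K39.f552288 IH) (Lpr_gf (f288171 IH) (Lpr_cf (f572457 IH) (Lpe (f575786 IH) (Lpe (f132593 IH) (Lpr_ct (K38.f132811 IH) (Lpe (f428743 IH) (Lpr_cf (f575794 IH) (Lpr_bt (f575804 IH) (Lpr_gf (f546468 IH) (Lpn (LP (LK LD1_c5 LD2_c5 LD3_c13)))))))))))))
theorem f544511 : Led Lsl_dt (LP (LK LD1_c11 LD2_c57 LD3_c39)) = (LP (LK LD1_c6 LD2_c7 LD3_c34)) :=
  Lre_d IH (LK LD1_c11 LD2_c57 LD3_c39) (LK LD1_c6 LD2_c7 LD3_c34) Lrfl Lrfl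
theorem f575813 : Led Lsl_bf (LP (LK LD1_c11 LD2_c57 LD3_c39)) = (LP (LK LD1_c8 LD2_c49 LD3_c13)) :=
  Lgr Lrot93 (Lpr_dt (f544511 IH) (Lpr_bt (f575811 IH) (Lpr_dt (K38.f546398 IH) (Lpn (LP (LK LD1_c8 LD2_c49 LD3_c13))))))
theorem f302384 : Led Lsl_ft (LP (LK LD1_c1 LD2_c13 LD3_c44)) = (LP (LK LD1_c1 LD2_c12 LD3_c9)) :=
  Lgr Lrot54 (Lpe (K38.f211533 IH) (Lpr_ff (K18.f302380 IH) (Lpe (K38.f164803 IH) (Lpn (LP (LK LD1_c1 LD2_c12 LD3_c9))))))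
theorem f164970 : Led Lsl_at (LP (LK LD1_c1 LD2_c12 LD3_c9)) = (LP (LK LD1_c2 LD2_c30 LD3_c17)) :=
  Lre_a IH (LK LD1_c1 LD2_c12 LD3_c9) (LK LD1_c2 LD2_c30 LD3_c17) Lrfl Lrfl
theorem f406468 : Led Lsl_gt (LP (LK LD1_c2 LD2_c33 LD3_c35)) = (LP (LK LD1_c2 LD2_c30 LD3_c17)) :=
  Lgr Lrot46 (Lpe (K39.f165514 IH) (Lpr_ft (f302384 IH) (Lpr_at (f164970 IH) (Lpn (LP (LK LD1_c2 LD2_c30 LD3_c17))))))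
theorem f546405 : Led Lsl_ct (LP (LK LD1_c16 LD2_c29 LD3_c39)) = (LP (LK LD1_c8 LD2_c49 LD3_c13)) :=
  Lre_c IH (LK LD1_c16 LD2_c29 LD3_c39) (LK LD1_c8 LD2_c49 LD3_c13) Lrfl Lrfl
theorem f557793 : Led Lsl_gf (LP (LK LD1_c4 LD2_c37 LD3_c3)) = (LP (LK LD1_c6 LD2_c24 LD3_c29)) :=
  Lgr Lrot76 (Lpe (K35.f538328 IH) (Lpe (K16.f272044 IH) (Lpr_gt (K40.f557789 IH) (Lpn (LP (LK LD1_c6 LD2_c24 LD3_c29))))))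
theorem f572874 : Led Lsl_gf (LP (LK LD1_c16 LD2_c29 LD3_c39)) = (LP (LK LD1_c9 LD2_c9 LD3_c54)) :=
  Lgr Lrot104 (Lpr_ct (f546405 IH) (Lpe (K38.f546398 IH) (Lpe (K38.f164982 IH) (Lpe (f406468 IH) (Lpe (K42.f406471 IH) (Lpr_gf (K42.f572870 IH) (Lpe (f117593 IH) (Lpe (f557793 IH) (Lpr_ct (K42.f538331 IH) (Lpn (LP (LK LD1_c9 LD2_c9 LD3_c54))))))))))))
theorem f81019 : Led Lsl_ct (LP (LK LD1_c6 LD2_c16 LD3_c1)) = (LP (LK LD1_c12 LD2_c9 LD3_c41)) :=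
  Lre_c IH (LK LD1_c6 LD2_c16 LD3_c1) (LK LD1_c12 LD2_c9 LD3_c41) Lrfl Lrfl
theorem f308601 : Led Lsl_ct (LP (LK LD1_c10 LD2_c5 LD3_c5)) = (LP (LK LD1_c18 LD2_c23 LD3_c44)) :=
  Lre_c IH (LK LD1_c10 LD2_c5 LD3_c5) (LK LD1_c18 LD2_c23 LD3_c44) Lrfl Lrfl
theorem f574211 : Led Lsl_gf (LP (LK LD1_c12 LD2_c9 LD3_c41)) = (LP (LK LD1_c18 LD2_c23 LD3_c44)) :=
  Lgr Lrot126 (Lpe (f81019 IH) (Lpe (K5.f81003 IH) (Lpe (f544414 IH) (Lpr_ct (f540876 IH) (Lpr_gt (f573754 IH) (Lpe (f573752 IH) (Lpr_bt (f574207 IH) (Lpr_gt (f5674 IH) (Lpe (K42.f572767 IH) (Lpr_ct (f308601 IH) (Lpn (LP (LK LD1_c18 LD2_c23 LD3_c44)))))))))))))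
theorem f575846 : Led Lsl_gt (LP (LK LD1_c11 LD2_c57 LD3_c39)) = (LP (LK LD1_c10 LD2_c5 LD3_c5)) :=
  Lgr Lrot82 (Lpr_bf (f575813 IH) (Lpr_ct (K38.f495336 IH) (Lpr_gf (f572874 IH) (Lpe (K42.f538331 IH) (Lpr_bt (K42.f538334 IH) (Lpr_gf (f544414 IH) (Lpr_bf (K5.f81003 IH) (Lpr_ct (f81019 IH) (Lpr_gf (f574211 IH) (Lpe (f308601 IH) (Lpn (LP (LK LD1_c10 LD2_c5 LD3_c5)))))))))))))
theorem f81013 : Led Lsl_ct (LP (LK LD1_c12 LD2_c9 LD3_c41)) = (LP (LK LD1_c6 LD2_c16 LD3_c1)) :=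
  Lre_c IH (LK LD1_c12 LD2_c9 LD3_c41) (LK LD1_c6 LD2_c16 LD3_c1) Lrfl Lrfl
theorem f575850 : Led Lsl_gt (LP (LK LD1_c6 LD2_c7 LD3_c34)) = (LP (LK LD1_c6 LD2_c14 LD3_c35)) :=
  Lgr Lrot9 (Lpe (f544511 IH) (Lpr_gt (f575846 IH) (Lpr_ct (f308601 IH) (Lpe (f574211 IH) (Lpr_ct (f81013 IH) (Lpe (K5.f80274 IH) (Lpe (K6.f81073 IH) (Lpe (K35.f81099 IH) (Lpe (f546561 IH) (Lpn (LP (LK LD1_c6 LD2_c14 LD3_c35))))))))))))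
theorem f386997 : Led Lsl_gt (LP (LK LD1_c5 LD2_c37 LD3_c44)) = (LP (LK LD1_c5 LD2_c40 LD3_c41)) :=
  Lgr Lrot164 (Lpe (K42.f381219 IH) (Lpr_ct (K35.f381217 IH) (Lpe (K35.f318749 IH) (Lpe (K27.f381144 IH) (Lpe (K27.f76149 IH) (Lpe (K27.f381133 IH) (Lpr_ct (K27.f381134 IH) (Lpr_gf (K27.f381453 IH) (Lpe (K27.f289404 IH) (Lpr_bt (K36.f386984 IH) (Lpn (LP (LK LD1_c5 LD2_c40 LD3_c41)))))))))))))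
theorem f61416 : Led Lsl_gt (LP (LK LD1_c5 LD2_c14 LD3_c2)) = (LP (LK LD1_c2 LD2_c33 LD3_c55)) :=
  Lre_g IH (LK LD1_c5 LD2_c14 LD3_c2) (LK LD1_c2 LD2_c33 LD3_c55) Lrfl Lrfl
theorem f572340 : Led Lsl_dt (LP (LK LD1_c4 LD2_c53 LD3_c54)) = (LP (LK LD1_c5 LD2_c14 LD3_c2)) :=
  Lgr Lrot171 (Lpe (K39.f288194 IH) (Lpr_ef (K36.f225551 IH) (Lpr_dt (K36.f225666 IH) (Lpe (f386997 IH) (Lpr_df (K42.f572324 IH) (Lpr_et (K42.f571860 IH) (Lpe (K37.f61378 IH) (Lpe (K36.f61351 IH) (Lpr_dt (K32.f61410 IH) (Lpe (f61416 IH) (Lpn (LP (LK LD1_c5 LD2_c14 LD3_c2)))))))))))))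
theorem f164081 : Led Lsl_gt (LP (LK LD1_c10 LD2_c17 LD3_c61)) = (LP (LK LD1_c5 LD2_c13 LD3_c61)) :=
  Lre_g IH (LK LD1_c10 LD2_c17 LD3_c61) (LK LD1_c5 LD2_c13 LD3_c61) Lrfl Lrfl
theorem f575857 : Led Lsl_df (LP (LK LD1_c10 LD2_c17 LD3_c61)) = (LP (LK LD1_c6 LD2_c14 LD3_c35)) :=
  Lgr Lrot153 (Lpr_gt (f164081 IH) (Lpr_dt (K32.f164080 IH) (Lpe (K16.f164082 IH) (Lpe (K36.f61350 IH) (Lpe (f61416 IH) (Lpe (f572340 IH) (Lpe (K39.f288194 IH) (Lpr_cf (K39.f552288 IH) (Lpr_gt (f575850 IH) (Lpn (LP (LK LD1_c6 LD2_c14 LD3_c35))))))))))))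
theorem f551666 : Led Lsl_ef (LP (LK LD1_c7 LD2_c14 LD3_c5)) = (LP (LK LD1_c5 LD2_c41 LD3_c46)) :=
  Lgr Lrot28 (Lpr_ct (K39.f551657 IH) (Lpe (K16.f269093 IH) (Lpr_ct (K10.f175494 IH) (Lpn (LP (LK LD1_c5 LD2_c41 LD3_c46))))))
theorem f557044 : Led Lsl_df (LP (LK LD1_c11 LD2_c6 LD3_c50)) = (LP (LK LD1_c5 LD2_c41 LD3_c46)) :=
  Lgr Lrot38 (Lpr_dt (K39.f557037 IH) (Lpn (LP (LK LD1_c5 LD2_c41 LD3_c46))))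
theorem f181672 : Led Lsl_et (LP (LK LD1_c5 LD2_c41 LD3_c45)) = (LP (LK LD1_c11 LD2_c13 LD3_c39)) :=
  Lre_e IH (LK LD1_c5 LD2_c41 LD3_c45) (LK LD1_c11 LD2_c13 LD3_c39) Lrfl Lrfl
theorem f465599 : Led Lsl_dt (LP (LK LD1_c13 LD2_c14 LD3_c4)) = (LP (LK LD1_c22 LD2_c28 LD3_c45)) :=
  Lre_d IH (LK LD1_c13 LD2_c14 LD3_c4) (LK LD1_c22 LD2_c28 LD3_c45) Lrfl Lrfl
theorem f160387 : Led Lsl_dt (LP (LK LD1_c13 LD2_c41 LD3_c30)) = (LP (LK LD1_c7 LD2_c14 LD3_c6)) :=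
  Lre_d IH (LK LD1_c13 LD2_c41 LD3_c30) (LK LD1_c7 LD2_c14 LD3_c6) Lrfl Lrfl
theorem f465600 : Led Lsl_ft (LP (LK LD1_c22 LD2_c28 LD3_c45)) = (LP (LK LD1_c13 LD2_c41 LD3_c30)) :=
  Lgr Lrot54 (Lpe (f465599 IH) (Lpr_ff (K28.f465595 IH) (Lpe (f160387 IH) (Lpn (LP (LK LD1_c13 LD2_c41 LD3_c30))))))
theorem f557046 : Led Lsl_ef (LP (LK LD1_c11 LD2_c6 LD3_c50)) = (LP (LK LD1_c13 LD2_c41 LD3_c30)) :=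
  Lgr Lrot73 (Lpr_dt (K39.f557037 IH) (Lpe (f551666 IH) (Lpr_dt (K39.f160383 IH) (Lpr_et (K41.f160385 IH) (Lpr_dt (K41.f160377 IH) (Lpn (LP (LK LD1_c13 LD2_c41 LD3_c30))))))))
theorem f566400 : Led Lsl_ff (LP (LK LD1_c5 LD2_c41 LD3_c45)) = (LP (LK LD1_c11 LD2_c6 LD3_c50)) :=
  Lgr Lrot72 (Lpr_et (f181672 IH) (Lpr_ft (K16.f181620 IH) (Lpr_et (K41.f566381 IH) (Lpr_ft (f465600 IH) (Lpe (f557046 IH) (Lpn (LP (LK LD1_c11 LD2_c6 LD3_c50))))))))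
theorem f557077 : Led Lsl_at (LP (LK LD1_c5 LD2_c41 LD3_c45)) = (LP (LK LD1_c9 LD2_c2 LD3_c61)) :=
  Lgr Lrot100 (Lpr_af (K39.f557075 IH) (Lpn (LP (LK LD1_c9 LD2_c2 LD3_c61))))
theorem f557065 : Led Lsl_gf (LP (LK LD1_c5 LD2_c37 LD3_c43)) = (LP (LK LD1_c9 LD2_c2 LD3_c61)) :=
  Lgr Lrot47 (Lpr_gt (K39.f387022 IH) (Lpr_af (K39.f557039 IH) (Lpr_ff (K39.f557056 IH) (Lpn (LP (LK LD1_c9 LD2_c2 LD3_c61))))))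
theorem f551952 : Led Lsl_af (LP (LK LD1_c5 LD2_c37 LD3_c43)) = (LP (LK LD1_c6 LD2_c14 LD3_c31)) :=
  Lgr Lrot0 (Lpr_at (K39.f551950 IH) (Lpn (LP (LK LD1_c6 LD2_c14 LD3_c31))))
theorem f117786 : Led Lsl_ft (LP (LK LD1_c12 LD2_c7 LD3_c21)) = (LP (LK LD1_c6 LD2_c14 LD3_c31)) :=
  Lre_f IH (LK LD1_c12 LD2_c7 LD3_c21) (LK LD1_c6 LD2_c14 LD3_c31) Lrfl Lrfl
theorem f557067 : Led Lsl_gt (LP (LK LD1_c12 LD2_c7 LD3_c21)) = (LP (LK LD1_c9 LD2_c2 LD3_c61)) :=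
  Lgr Lrot5 (Lpr_ft (f117786 IH) (Lpe (f551952 IH) (Lpr_gf (f557065 IH) (Lpn (LP (LK LD1_c9 LD2_c2 LD3_c61))))))
theorem f566404 : Led Lsl_gf (LP (LK LD1_c12 LD2_c7 LD3_c21)) = (LP (LK LD1_c11 LD2_c6 LD3_c50)) :=
  Lgr Lrot47 (Lpr_gt (f557067 IH) (Lpe (f557077 IH) (Lpr_ff (f566400 IH) (Lpn (LP (LK LD1_c11 LD2_c6 LD3_c50))))))
theorem f551944 : Led Lsl_dt (LP (LK LD1_c6 LD2_c14 LD3_c32)) = (LP (LK LD1_c12 LD2_c7 LD3_c21)) :=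
  Lre_d IH (LK LD1_c6 LD2_c14 LD3_c32) (LK LD1_c12 LD2_c7 LD3_c21) Lrfl Lrfl
theorem f575863 : Led Lsl_ef (LP (LK LD1_c6 LD2_c7 LD3_c34)) = (LP (LK LD1_c6 LD2_c14 LD3_c32)) :=
  Lgr Lrot167 (Lpr_gt (f575850 IH) (Lpe (f575857 IH) (Lpr_gt (f164081 IH) (Lpe (K37.f201613 IH) (Lpr_et (K16.f201618 IH) (Lpr_gt (K39.f548898 IH) (Lpr_ef (f551666 IH) (Lpe (f557044 IH) (Lpe (f566404 IH) (Lpe (f551944 IH) (Lpn (LP (LK LD1_c6 LD2_c14 LD3_c32)))))))))))))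
theorem f39193 : Led Lsl_bt (LP (LK LD1_c1 LD2_c55 LD3_c33)) = (LP (LK LD1_c3 LD2_c57 LD3_c31)) :=
  Lre_b IH (LK LD1_c1 LD2_c55 LD3_c33) (LK LD1_c3 LD2_c57 LD3_c31) Lrfl Lrfl
theorem f538880 : Led Lsl_gt (LP (LK LD1_c3 LD2_c57 LD3_c31)) = (LP (LK LD1_c5 LD2_c41 LD3_c46)) :=
  Lgr Lrot164 (Lpe (f39193 IH) (Lpr_ct (K1.f38940 IH) (Lpe (K9.f181414 IH) (Lpe (K13.f181416 IH) (Lpe (K10.f193672 IH) (Lpe (K8.f2969 IH) (Lpe (K8.f2998 IH) (Lpr_gf (K35.f538870 IH) (Lpr_cf (K10.f181594 IH) (Lpe (K41.f181592 IH) (Lpn (LP (LK LD1_c5 LD2_c41 LD3_c46)))))))))))))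
theorem f571349 : Led Lsl_ef (LP (LK LD1_c6 LD2_c14 LD3_c35)) = (LP (LK LD1_c7 LD2_c8 LD3_c21)) :=
  Lgr Lrot28 (Lpr_ct (f546561 IH) (Lpr_et (K42.f138496 IH) (Lpr_ct (K42.f571339 IH) (Lpn (LP (LK LD1_c7 LD2_c8 LD3_c21))))))
theorem f575865 : Led Lsl_gf (LP (LK LD1_c9 LD2_c8 LD3_c33)) = (LP (LK LD1_c13 LD2_c31 LD3_c16)) :=
  Lgr Lrot145 (Lpe (K38.f71090 IH) (Lpr_et (K39.f557146 IH) (Lpr_gt (f538880 IH) (Lpe (f557044 IH) (Lpe (f566404 IH) (Lpe (f551944 IH) (Lpe (f575863 IH) (Lpr_gt (f575850 IH) (Lpr_ef (f571349 IH) (Lpr_dt (K42.f571338 IH) (Lpn (LP (LK LD1_c13 LD2_c31 LD3_c16)))))))))))))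
theorem f549071 : Led Lsl_ct (LP (LK LD1_c9 LD2_c8 LD3_c33)) = (LP (LK LD1_c17 LD2_c1 LD3_c11)) :=
  Lre_c IH (LK LD1_c9 LD2_c8 LD3_c33) (LK LD1_c17 LD2_c1 LD3_c11) Lrfl Lrfl
theorem f101192 : Led Lsl_at (LP (LK LD1_c26 LD2_c28 LD3_c30)) = (LP (LK LD1_c16 LD2_c32 LD3_c7)) :=
  Lre_a IH (LK LD1_c26 LD2_c28 LD3_c30) (LK LD1_c16 LD2_c32 LD3_c7) Lrfl Lrfl
theorem f101181 : Led Lsl_et (LP (LK LD1_c21 LD2_c10 LD3_c26)) = (LP (LK LD1_c26 LD2_c28 LD3_c44)) :=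
  Lgr Lrot87 (Lpr_ef (K42.f101170 IH) (Lpn (LP (LK LD1_c26 LD2_c28 LD3_c44))))
theorem f101186 : Led Lsl_bt (LP (LK LD1_c12 LD2_c5 LD3_c5)) = (LP (LK LD1_c21 LD2_c10 LD3_c26)) :=
  Lre_b IH (LK LD1_c12 LD2_c5 LD3_c5) (LK LD1_c21 LD2_c10 LD3_c26) Lrfl Lrfl
theorem f101187 : Led Lsl_bt (LP (LK LD1_c26 LD2_c28 LD3_c44)) = (LP (LK LD1_c16 LD2_c32 LD3_c7)) :=
  Lre_b IH (LK LD1_c26 LD2_c28 LD3_c44) (LK LD1_c16 LD2_c32 LD3_c7) Lrfl Lrfl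
theorem f101188 : Led Lsl_ef (LP (LK LD1_c12 LD2_c5 LD3_c5)) = (LP (LK LD1_c16 LD2_c32 LD3_c7)) :=
  Lgr Lrot29 (Lpr_bt (f101186 IH) (Lpr_et (f101181 IH) (Lpr_bt (f101187 IH) (Lpn (LP (LK LD1_c16 LD2_c32 LD3_c7))))))
theorem f559898 : Led Lsl_af (LP (LK LD1_c17 LD2_c1 LD3_c10)) = (LP (LK LD1_c12 LD2_c5 LD3_c5)) :=
  Lgr Lrot50 (Lpr_et (K42.f559894 IH) (Lpr_at (f101192 IH) (Lpe (f101188 IH) (Lpn (LP (LK LD1_c12 LD2_c5 LD3_c5))))))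
theorem f559888 : Led Lsl_gt (LP (LK LD1_c26 LD2_c56 LD3_c17)) = (LP (LK LD1_c17 LD2_c1 LD3_c10)) :=
  Lre_g IH (LK LD1_c26 LD2_c56 LD3_c17) (LK LD1_c17 LD2_c1 LD3_c10) Lrfl Lrfl
theorem f549072 : Led Lsl_ft (LP (LK LD1_c17 LD2_c1 LD3_c11)) = (LP (LK LD1_c12 LD2_c5 LD3_c5)) :=
  Lgr Lrot4 (Lpe (f549071 IH) (Lpr_ff (K38.f549065 IH) (Lpe (K42.f101193 IH) (Lpn (LP (LK LD1_c12 LD2_c5 LD3_c5))))))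
theorem f559936 : Led Lsl_gf (LP (LK LD1_c26 LD2_c56 LD3_c17)) = (LP (LK LD1_c17 LD2_c1 LD3_c11)) :=
  Lgr Lrot47 (Lpr_gt (f559888 IH) (Lpr_af (f559898 IH) (Lpe (f549072 IH) (Lpn (LP (LK LD1_c17 LD2_c1 LD3_c11))))))
theorem f112533 : Led Lsl_dt (LP (LK LD1_c21 LD2_c15 LD3_c10)) = (LP (LK LD1_c12 LD2_c8 LD3_c53)) :=
  Lre_d IH (LK LD1_c21 LD2_c15 LD3_c10) (LK LD1_c12 LD2_c8 LD3_c53) Lrfl Lrfl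
theorem f575871 : Led Lsl_ct (LP (LK LD1_c26 LD2_c56 LD3_c17)) = (LP (LK LD1_c21 LD2_c15 LD3_c10)) :=
  Lgr Lrot110 (Lpr_gf (f559936 IH) (Lpe (f549071 IH) (Lpr_gf (f575865 IH) (Lpe (K42.f571338 IH) (Lpe (K42.f571357 IH) (Lpe (K42.f564210 IH) (Lpr_gt (K41.f564206 IH) (Lpr_ct (K42.f112538 IH) (Lpe (f112533 IH) (Lpn (LP (LK LD1_c21 LD2_c15 LD3_c10))))))))))))
theorem f575876 : Led Lsl_cf (LP (LK LD1_c26 LD2_c56 LD3_c17)) = (LP (LK LD1_c21 LD2_c15 LD3_c10)) :=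
  Lgr Lrot11 (Lpr_ct (f575871 IH) (Lpn (LP (LK LD1_c21 LD2_c15 LD3_c10))))
theorem f575873 : Led Lsl_bt (LP (LK LD1_c7 LD2_c8 LD3_c23)) = (LP (LK LD1_c13 LD2_c31 LD3_c16)) :=
  Lre_b IH (LK LD1_c7 LD2_c8 LD3_c23) (LK LD1_c13 LD2_c31 LD3_c16) Lrfl Lrfl
theorem f6143 : Led Lsl_ct (LP (LK LD1_c7 LD2_c8 LD3_c23)) = (LP (LK LD1_c13 LD2_c31 LD3_c19)) :=
  Lre_c IH (LK LD1_c7 LD2_c8 LD3_c23) (LK LD1_c13 LD2_c31 LD3_c19) Lrfl Lrfl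
theorem f565051 : Led Lsl_gt (LP (LK LD1_c22 LD2_c52 LD3_c24)) = (LP (LK LD1_c13 LD2_c31 LD3_c19)) :=
  Lre_g IH (LK LD1_c22 LD2_c52 LD3_c24) (LK LD1_c13 LD2_c31 LD3_c19) Lrfl Lrfl
theorem f552022 : Led Lsl_et (LP (LK LD1_c11 LD2_c6 LD3_c45)) = (LP (LK LD1_c5 LD2_c37 LD3_c36)) :=
  Lre_e IH (LK LD1_c11 LD2_c6 LD3_c45) (LK LD1_c5 LD2_c37 LD3_c36) Lrfl Lrfl
theorem f561614 : Led Lsl_bt (LP (LK LD1_c12 LD2_c8 LD3_c53)) = (LP (LK LD1_c11 LD2_c6 LD3_c45)) :=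
  Lgr Lrot119 (Lpe (K42.f559774 IH) (Lpr_bf (K42.f561610 IH) (Lpe (f552022 IH) (Lpn (LP (LK LD1_c11 LD2_c6 LD3_c45))))))
theorem f37853 : Led Lsl_gt (LP (LK LD1_c17 LD2_c0 LD3_c29)) = (LP (LK LD1_c9 LD2_c8 LD3_c4)) :=
  Lre_g IH (LK LD1_c17 LD2_c0 LD3_c29) (LK LD1_c9 LD2_c8 LD3_c4) Lrfl Lrfl
theorem f552023 : Led Lsl_df (LP (LK LD1_c17 LD2_c0 LD3_c29)) = (LP (LK LD1_c11 LD2_c6 LD3_c45)) :=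
  Lgr Lrot170 (Lpr_gt (f37853 IH) (Lpe (K39.f37831 IH) (Lpr_et (K36.f37830 IH) (Lpr_gt (K8.f149408 IH) (Lpe (K8.f149412 IH) (Lpr_gt (K7.f112354 IH) (Lpe (K6.f80278 IH) (Lpr_et (K6.f132724 IH) (Lpr_gt (K39.f552015 IH) (Lpe (f552022 IH) (Lpn (LP (LK LD1_c11 LD2_c6 LD3_c45)))))))))))))
theorem f561616 : Led Lsl_bf (LP (LK LD1_c21 LD2_c15 LD3_c10)) = (LP (LK LD1_c17 LD2_c0 LD3_c29)) :=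
  Lgr Lrot93 (Lpr_dt (f112533 IH) (Lpr_bt (f561614 IH) (Lpe (f552023 IH) (Lpn (LP (LK LD1_c17 LD2_c0 LD3_c29))))))
theorem f561618 : Led Lsl_bt (LP (LK LD1_c21 LD2_c15 LD3_c10)) = (LP (LK LD1_c17 LD2_c0 LD3_c29)) :=
  Lgr Lrot127 (Lpr_bf (f561616 IH) (Lpn (LP (LK LD1_c17 LD2_c0 LD3_c29))))
theorem f37846 : Led Lsl_bf (LP (LK LD1_c9 LD2_c8 LD3_c4)) = (LP (LK LD1_c14 LD2_c59 LD3_c34)) :=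
  Lgr Lrot24 (Lpr_bt (K39.f37844 IH) (Lpn (LP (LK LD1_c14 LD2_c59 LD3_c34))))
theorem f575878 : Led Lsl_cf (LP (LK LD1_c22 LD2_c52 LD3_c24)) = (LP (LK LD1_c14 LD2_c59 LD3_c34)) :=
  Lgr Lrot160 (Lpr_gt (f565051 IH) (Lpe (f6143 IH) (Lpr_bt (f575873 IH) (Lpe (f575865 IH) (Lpr_ct (f549071 IH) (Lpe (f559936 IH) (Lpr_cf (f575876 IH) (Lpr_bt (f561618 IH) (Lpr_gt (f37853 IH) (Lpr_bf (f37846 IH) (Lpn (LP (LK LD1_c14 LD2_c59 LD3_c34)))))))))))))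
theorem f193733 : Led Lsl_bt (LP (LK LD1_c6 LD2_c13 LD3_c39)) = (LP (LK LD1_c12 LD2_c6 LD3_c3)) :=
  Lre_b IH (LK LD1_c6 LD2_c13 LD3_c39) (LK LD1_c12 LD2_c6 LD3_c3) Lrfl Lrfl
theorem f575887 : Led Lsl_gt (LP (LK LD1_c12 LD2_c6 LD3_c3)) = (LP (LK LD1_c14 LD2_c59 LD3_c34)) :=
  Lgr Lrot82 (Lpe (f193733 IH) (Lpr_ct (K13.f198367 IH) (Lpr_gf (K12.f101099 IH) (Lpe (K9.f101017 IH) (Lpe (K38.f549057 IH) (Lpr_gf (f575865 IH) (Lpe (f575873 IH) (Lpr_ct (f6143 IH) (Lpe (f565051 IH) (Lpr_cf (f575878 IH) (Lpn (LP (LK LD1_c14 LD2_c59 LD3_c34)))))))))))))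
theorem f80695 : Led Lsl_et (LP (LK LD1_c2 LD2_c9 LD3_c35)) = (LP (LK LD1_c4 LD2_c24 LD3_c16)) :=
  Lre_e IH (LK LD1_c2 LD2_c9 LD3_c35) (LK LD1_c4 LD2_c24 LD3_c16) Lrfl Lrfl
theorem f98404 : Led Lsl_ct (LP (LK LD1_c3 LD2_c37 LD3_c5)) = (LP (LK LD1_c7 LD2_c14 LD3_c33)) :=
  Lre_c IH (LK LD1_c3 LD2_c37 LD3_c5) (LK LD1_c7 LD2_c14 LD3_c33) Lrfl Lrfl
theorem f569873 : Led Lsl_ef (LP (LK LD1_c6 LD2_c15 LD3_c14)) = (LP (LK LD1_c7 LD2_c14 LD3_c33)) :=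
  Lgr Lrot28 (Lpr_ct (K39.f197985 IH) (Lpr_et (K42.f569869 IH) (Lpr_ct (f98404 IH) (Lpn (LP (LK LD1_c7 LD2_c14 LD3_c33))))))
theorem f575891 : Led Lsl_df (LP (LK LD1_c12 LD2_c6 LD3_c3)) = (LP (LK LD1_c7 LD2_c14 LD3_c33)) :=
  Lgr Lrot170 (Lpr_gt (f575887 IH) (Lpe (K39.f36054 IH) (Lpr_et (K39.f36053 IH) (Lpr_gt (K36.f36048 IH) (Lpr_dt (K41.f35961 IH) (Lpr_gt (K8.f112900 IH) (Lpe (K5.f80693 IH) (Lpr_et (f80695 IH) (Lpr_gt (K39.f556248 IH) (Lpr_ef (f569873 IH) (Lpn (LP (LK LD1_c7 LD2_c14 LD3_c33)))))))))))))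
theorem f565048 : Led Lsl_ct (LP (LK LD1_c13 LD2_c31 LD3_c19)) = (LP (LK LD1_c7 LD2_c8 LD3_c23)) :=
  Lre_c IH (LK LD1_c13 LD2_c31 LD3_c19) (LK LD1_c7 LD2_c8 LD3_c23) Lrfl Lrfl
theorem f98417 : Led Lsl_dt (LP (LK LD1_c7 LD2_c8 LD3_c23)) = (LP (LK LD1_c3 LD2_c33 LD3_c45)) :=
  Lre_d IH (LK LD1_c7 LD2_c8 LD3_c23) (LK LD1_c3 LD2_c33 LD3_c45) Lrfl Lrfl
theorem f575903 : Led Lsl_gf (LP (LK LD1_c7 LD2_c12 LD3_c7)) = (LP (LK LD1_c7 LD2_c14 LD3_c33)) :=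
  Lgr Lrot147 (Lpe (K34.f97147 IH) (Lpe (f574788 IH) (Lpr_ct (K42.f98330 IH) (Lpe (f98417 IH) (Lpe (f565048 IH) (Lpe (f565051 IH) (Lpr_cf (f575878 IH) (Lpe (f575887 IH) (Lpr_df (f575891 IH) (Lpn (LP (LK LD1_c7 LD2_c14 LD3_c33))))))))))))
theorem f97177 : Led Lsl_gt (LP (LK LD1_c7 LD2_c39 LD3_c14)) = (LP (LK LD1_c14 LD2_c25 LD3_c34)) :=
  Lre_g IH (LK LD1_c7 LD2_c39 LD3_c14) (LK LD1_c14 LD2_c25 LD3_c34) Lrfl Lrfl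
theorem f98388 : Led Lsl_gf (LP (LK LD1_c13 LD2_c27 LD3_c60)) = (LP (LK LD1_c13 LD2_c31 LD3_c8)) :=
  Lgr Lrot76 (Lpr_af (K42.f98381 IH) (Lpe (K42.f98206 IH) (Lpr_gt (f98228 IH) (Lpn (LP (LK LD1_c13 LD2_c31 LD3_c8))))))
theorem f556518 : Led Lsl_df (LP (LK LD1_c8 LD2_c5 LD3_c7)) = (LP (LK LD1_c15 LD2_c8 LD3_c21)) :=
  Lgr Lrot38 (Lpr_dt (K39.f556515 IH) (Lpn (LP (LK LD1_c15 LD2_c8 LD3_c21))))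
theorem f98229 : Led Lsl_dt (LP (LK LD1_c22 LD2_c52 LD3_c9)) = (LP (LK LD1_c13 LD2_c31 LD3_c8)) :=
  Lre_d IH (LK LD1_c22 LD2_c52 LD3_c9) (LK LD1_c13 LD2_c31 LD3_c8) Lrfl Lrfl
theorem f575020 : Led Lsl_ct (LP (LK LD1_c8 LD2_c5 LD3_c7)) = (LP (LK LD1_c13 LD2_c31 LD3_c8)) :=
  Lgr Lrot7 (Lpr_df (f556518 IH) (Lpe (K39.f158217 IH) (Lpe (K39.f29539 IH) (Lpr_gf (K42.f570628 IH) (Lpe (K39.f424935 IH) (Lpr_gt (K41.f565838 IH) (Lpr_dt (K42.f138764 IH) (Lpr_gt (f575018 IH) (Lpr_dt (f98229 IH) (Lpn (LP (LK LD1_c13 LD2_c31 LD3_c8))))))))))))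
theorem f575913 : Led Lsl_bf (LP (LK LD1_c14 LD2_c25 LD3_c34)) = (LP (LK LD1_c8 LD2_c5 LD3_c7)) :=
  Lgr Lrot34 (Lpe (f97177 IH) (Lpe (K42.f97166 IH) (Lpr_ct (K34.f97167 IH) (Lpr_gf (f575903 IH) (Lpe (f98404 IH) (Lpr_gf (K42.f98399 IH) (Lpe (K42.f6154 IH) (Lpr_ct (K42.f98358 IH) (Lpr_gf (f98388 IH) (Lpe (f575020 IH) (Lpn (LP (LK LD1_c8 LD2_c5 LD3_c7)))))))))))))
theorem f552319 : Led Lsl_et (LP (LK LD1_c4 LD2_c2 LD3_c17)) = (LP (LK LD1_c8 LD2_c5 LD3_c7)) :=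
  Lre_e IH (LK LD1_c4 LD2_c2 LD3_c17) (LK LD1_c8 LD2_c5 LD3_c7) Lrfl Lrfl
theorem f575919 : Led Lsl_et (LP (LK LD1_c14 LD2_c25 LD3_c34)) = (LP (LK LD1_c8 LD2_c5 LD3_c4)) :=
  Lgr Lrot74 (Lpr_bf (f575913 IH) (Lpe (f552319 IH) (Lpe (K39.f193616 IH) (Lpn (LP (LK LD1_c8 LD2_c5 LD3_c4))))))
theorem f97178 : Led Lsl_dt (LP (LK LD1_c14 LD2_c25 LD3_c34)) = (LP (LK LD1_c24 LD2_c5 LD3_c26)) :=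
  Lre_d IH (LK LD1_c14 LD2_c25 LD3_c34) (LK LD1_c24 LD2_c5 LD3_c26) Lrfl Lrfl
theorem f575927 : Led Lsl_gf (LP (LK LD1_c24 LD2_c5 LD3_c26)) = (LP (LK LD1_c15 LD2_c4 LD3_c38)) :=
  Lgr Lrot134 (Lpe (f97178 IH) (Lpr_et (f575919 IH) (Lpr_gt (K39.f556453 IH) (Lpe (f132603 IH) (Lpr_dt (K5.f60949 IH) (Lpr_gt (K8.f138136 IH) (Lpe (K8.f72412 IH) (Lpr_et (K6.f101742 IH) (Lpe (K42.f568774 IH) (Lpr_dt (K42.f161365 IH) (Lpn (LP (LK LD1_c15 LD2_c4 LD3_c38)))))))))))))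
theorem f546823 : Led Lsl_dt (LP (LK LD1_c24 LD2_c5 LD3_c26)) = (LP (LK LD1_c14 LD2_c25 LD3_c34)) :=
  Lre_d IH (LK LD1_c24 LD2_c5 LD3_c26) (LK LD1_c14 LD2_c25 LD3_c34) Lrfl Lrfl
theorem f552287 : Led Lsl_et (LP (LK LD1_c4 LD2_c53 LD3_c54)) = (LP (LK LD1_c9 LD2_c39 LD3_c19)) :=
  Lre_e IH (LK LD1_c4 LD2_c53 LD3_c54) (LK LD1_c9 LD2_c39 LD3_c19) Lrfl Lrfl
theorem f575921 : Led Lsl_cf (LP (LK LD1_c14 LD2_c25 LD3_c34)) = (LP (LK LD1_c9 LD2_c39 LD3_c19)) :=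
  Lgr Lrot39 (Lpr_et (f575919 IH) (Lpe (K39.f552279 IH) (Lpr_et (f552287 IH) (Lpn (LP (LK LD1_c9 LD2_c39 LD3_c19))))))
theorem f100472 : Led Lsl_gt (LP (LK LD1_c6 LD2_c13 LD3_c18)) = (LP (LK LD1_c12 LD2_c5 LD3_c27)) :=
  Lre_g IH (LK LD1_c6 LD2_c13 LD3_c18) (LK LD1_c12 LD2_c5 LD3_c27) Lrfl Lrfl
theorem f575929 : Led Lsl_df (LP (LK LD1_c9 LD2_c39 LD3_c19)) = (LP (LK LD1_c12 LD2_c5 LD3_c27)) :=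
  Lgr Lrot174 (Lpe (f575921 IH) (Lpe (f546823 IH) (Lpr_gf (f575927 IH) (Lpe (K42.f161365 IH) (Lpr_gf (K42.f568774 IH) (Lpr_ct (K6.f101715 IH) (Lpe (K36.f539778 IH) (Lpr_dt (K40.f100480 IH) (Lpr_gt (f100472 IH) (Lpn (LP (LK LD1_c12 LD2_c5 LD3_c27))))))))))))
theorem f575935 : Led Lsl_cf (LP (LK LD1_c9 LD2_c39 LD3_c19)) = (LP (LK LD1_c14 LD2_c25 LD3_c34)) :=
  Lgr Lrot14 (Lpr_df (f575929 IH) (Lpe (f100472 IH) (Lpe (K40.f100480 IH) (Lpr_gf (K36.f539778 IH) (Lpr_ct (K40.f101740 IH) (Lpe (K42.f568774 IH) (Lpr_dt (K42.f161365 IH) (Lpe (f575927 IH) (Lpr_dt (f546823 IH) (Lpn (LP (LK LD1_c14 LD2_c25 LD3_c34))))))))))))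
theorem f549074 : Led Lsl_dt (LP (LK LD1_c9 LD2_c8 LD3_c33)) = (LP (LK LD1_c4 LD2_c36 LD3_c11)) :=
  Lre_d IH (LK LD1_c9 LD2_c8 LD3_c33) (LK LD1_c4 LD2_c36 LD3_c11) Lrfl Lrfl
theorem f549051 : Led Lsl_ct (LP (LK LD1_c4 LD2_c36 LD3_c11)) = (LP (LK LD1_c3 LD2_c3 LD3_c31)) :=
  Lgr Lrot111 (Lpr_af (K38.f549045 IH) (Lpe (K38.f549014 IH) (Lpe (K10.f100556 IH) (Lpn (LP (LK LD1_c3 LD2_c3 LD3_c31))))))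
theorem f101547 : Led Lsl_dt (LP (LK LD1_c6 LD2_c13 LD3_c28)) = (LP (LK LD1_c3 LD2_c3 LD3_c31)) :=
  Lre_d IH (LK LD1_c6 LD2_c13 LD3_c28) (LK LD1_c3 LD2_c3 LD3_c31) Lrfl Lrfl
theorem f100638 : Led Lsl_gt (LP (LK LD1_c12 LD2_c5 LD3_c27)) = (LP (LK LD1_c6 LD2_c13 LD3_c28)) :=
  Lre_g IH (LK LD1_c12 LD2_c5 LD3_c27) (LK LD1_c6 LD2_c13 LD3_c28) Lrfl Lrfl
theorem f177299 : Led Lsl_et (LP (LK LD1_c9 LD2_c39 LD3_c19)) = (LP (LK LD1_c4 LD2_c53 LD3_c54)) :=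
  Lre_e IH (LK LD1_c9 LD2_c39 LD3_c19) (LK LD1_c4 LD2_c53 LD3_c54) Lrfl Lrfl
theorem f539783 : Led Lsl_df (LP (LK LD1_c12 LD2_c5 LD3_c27)) = (LP (LK LD1_c9 LD2_c39 LD3_c19)) :=
  Lgr Lrot132 (Lpe (f100472 IH) (Lpe (K40.f100480 IH) (Lpr_gf (K36.f539778 IH) (Lpe (K36.f138864 IH) (Lpr_dt (K2.f72422 IH) (Lpr_gf (K11.f205786 IH) (Lpe (K32.f205769 IH) (Lpr_et (K36.f496267 IH) (Lpq (K36.f537605 IH) (Lpe (K39.f177297 IH) (Lpe (f177299 IH) (Lpn (LP (LK LD1_c9 LD2_c39 LD3_c19))))))))))))))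
theorem f572618 : Led Lsl_gf (LP (LK LD1_c7 LD2_c8 LD3_c21)) = (LP (LK LD1_c6 LD2_c14 LD3_c47)) :=
  Lgr Lrot129 (Lpe (K42.f571339 IH) (Lpr_bt (K42.f571361 IH) (Lpr_gt (K42.f572608 IH) (Lpr_bf (K40.f562629 IH) (Lpr_ct (K40.f562552 IH) (Lpe (K41.f450415 IH) (Lpr_cf (K40.f558367 IH) (Lpe (K41.f559728 IH) (Lpe (K41.f564204 IH) (Lpr_ct (K38.f547108 IH) (Lpn (LP (LK LD1_c6 LD2_c14 LD3_c47)))))))))))))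
theorem f575869 : Led Lsl_gf (LP (LK LD1_c9 LD2_c39 LD3_c19)) = (LP (LK LD1_c5 LD2_c49 LD3_c11)) :=
  Lgr Lrot144 (Lpe (f539783 IH) (Lpr_gt (f100638 IH) (Lpr_dt (f101547 IH) (Lpe (f549051 IH) (Lpe (f549074 IH) (Lpr_gf (f575865 IH) (Lpe (K42.f571338 IH) (Lpr_gf (f572618 IH) (Lpe (K38.f547108 IH) (Lpn (LP (LK LD1_c5 LD2_c49 LD3_c11))))))))))))
theorem f182395 : Led Lsl_bt (LP (LK LD1_c2 LD2_c26 LD3_c5)) = (LP (LK LD1_c4 LD2_c56 LD3_c36)) :=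
  Lre_b IH (LK LD1_c2 LD2_c26 LD3_c5) (LK LD1_c4 LD2_c56 LD3_c36) Lrfl Lrfl
theorem f182413 : Led Lsl_bt (LP (LK LD1_c4 LD2_c56 LD3_c38)) = (LP (LK LD1_c9 LD2_c44 LD3_c39)) :=
  Lre_b IH (LK LD1_c4 LD2_c56 LD3_c38) (LK LD1_c9 LD2_c44 LD3_c39) Lrfl Lrfl
theorem f575915 : Led Lsl_bt (LP (LK LD1_c14 LD2_c25 LD3_c34)) = (LP (LK LD1_c8 LD2_c5 LD3_c7)) :=
  Lgr Lrot127 (Lpr_bf (f575913 IH) (Lpn (LP (LK LD1_c8 LD2_c5 LD3_c7))))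
theorem f575941 : Led Lsl_gf (LP (LK LD1_c9 LD2_c44 LD3_c39)) = (LP (LK LD1_c8 LD2_c5 LD3_c7)) :=
  Lgr Lrot124 (Lpe (f182413 IH) (Lpr_ct (K12.f182412 IH) (Lpr_gt (K12.f179916 IH) (Lpe (K12.f182394 IH) (Lpr_bt (f182395 IH) (Lpe (K39.f556348 IH) (Lpe (K38.f547111 IH) (Lpe (f575869 IH) (Lpr_cf (f575935 IH) (Lpr_bt (f575915 IH) (Lpn (LP (LK LD1_c8 LD2_c5 LD3_c7)))))))))))))
theorem f418471 : Led Lsl_bt (LP (LK LD1_c6 LD2_c15 LD3_c13)) = (LP (LK LD1_c12 LD2_c8 LD3_c37)) :=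
  Lre_b IH (LK LD1_c6 LD2_c15 LD3_c13) (LK LD1_c12 LD2_c8 LD3_c37) Lrfl Lrfl
theorem f227789 : Led Lsl_bt (LP (LK LD1_c9 LD2_c44 LD3_c39)) = (LP (LK LD1_c4 LD2_c56 LD3_c38)) :=
  Lre_b IH (LK LD1_c9 LD2_c44 LD3_c39) (LK LD1_c4 LD2_c56 LD3_c38) Lrfl Lrfl
theorem f453119 : Led Lsl_et (LP (LK LD1_c12 LD2_c8 LD3_c37)) = (LP (LK LD1_c9 LD2_c44 LD3_c39)) :=
  Lgr Lrot74 (Lpe (f418471 IH) (Lpr_ef (K31.f453103 IH) (Lpe (f227789 IH) (Lpn (LP (LK LD1_c9 LD2_c44 LD3_c39))))))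
theorem f421361 : Led Lsl_dt (LP (LK LD1_c8 LD2_c2 LD3_c21)) = (LP (LK LD1_c15 LD2_c8 LD3_c2)) :=
  Lre_d IH (LK LD1_c8 LD2_c2 LD3_c21) (LK LD1_c15 LD2_c8 LD3_c2) Lrfl Lrfl
theorem f37058 : Led Lsl_et (LP (LK LD1_c8 LD2_c0 LD3_c10)) = (LP (LK LD1_c3 LD2_c59 LD3_c31)) :=
  Lre_e IH (LK LD1_c8 LD2_c0 LD3_c10) (LK LD1_c3 LD2_c59 LD3_c31) Lrfl Lrfl
theorem f229338 : Led Lsl_bt (LP (LK LD1_c4 LD2_c22 LD3_c35)) = (LP (LK LD1_c8 LD2_c43 LD3_c5)) :=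
  Lre_b IH (LK LD1_c4 LD2_c22 LD3_c35) (LK LD1_c8 LD2_c43 LD3_c5) Lrfl Lrfl
theorem f229339 : Led Lsl_et (LP (LK LD1_c8 LD2_c43 LD3_c5)) = (LP (LK LD1_c4 LD2_c24 LD3_c8)) :=
  Lgr Lrot74 (Lpe (f229338 IH) (Lpr_ef (K31.f229336 IH) (Lpe (f36597 IH) (Lpn (LP (LK LD1_c4 LD2_c24 LD3_c8))))))
theorem f35640 : Led Lsl_bt (LP (LK LD1_c8 LD2_c47 LD3_c34)) = (LP (LK LD1_c4 LD2_c25 LD3_c0)) :=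
  Lre_b IH (LK LD1_c8 LD2_c47 LD3_c34) (LK LD1_c4 LD2_c25 LD3_c0) Lrfl Lrfl
theorem f229342 : Led Lsl_dt (LP (LK LD1_c8 LD2_c43 LD3_c5)) = (LP (LK LD1_c8 LD2_c47 LD3_c34)) :=
  Lgr Lrot79 (Lpe (f229338 IH) (Lpr_df (K12.f229328 IH) (Lpe (f35640 IH) (Lpn (LP (LK LD1_c8 LD2_c47 LD3_c34))))))
theorem f575099 : Led Lsl_gf (LP (LK LD1_c15 LD2_c4 LD3_c50)) = (LP (LK LD1_c8 LD2_c47 LD3_c34)) :=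
  Lgr Lrot145 (Lpe (K42.f37059 IH) (Lpr_et (f37058 IH) (Lpe (K39.f37051 IH) (Lpr_dt (K40.f29463 IH) (Lpr_gt (K40.f37070 IH) (Lpr_df (K40.f420483 IH) (Lpr_et (f70427 IH) (Lpr_gt (f575087 IH) (Lpe (f229339 IH) (Lpr_dt (f229342 IH) (Lpn (LP (LK LD1_c8 LD2_c47 LD3_c34)))))))))))))
theorem f227788 : Led Lsl_bt (LP (LK LD1_c4 LD2_c58 LD3_c7)) = (LP (LK LD1_c9 LD2_c47 LD3_c9)) :=
  Lre_b IH (LK LD1_c4 LD2_c58 LD3_c7) (LK LD1_c9 LD2_c47 LD3_c9) Lrfl Lrfl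
theorem f453171 : Led Lsl_ff (LP (LK LD1_c8 LD2_c47 LD3_c34)) = (LP (LK LD1_c9 LD2_c47 LD3_c9)) :=
  Lgr Lrot25 (Lpr_bt (f35640 IH) (Lpr_ft (K31.f453169 IH) (Lpr_bt (f227788 IH) (Lpn (LP (LK LD1_c9 LD2_c47 LD3_c9))))))
theorem f453448 : Led Lsl_ft (LP (LK LD1_c8 LD2_c47 LD3_c34)) = (LP (LK LD1_c9 LD2_c47 LD3_c9)) :=
  Lgr Lrot48 (Lpr_ff (f453171 IH) (Lpn (LP (LK LD1_c9 LD2_c47 LD3_c9))))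
theorem f227798 : Led Lsl_at (LP (LK LD1_c9 LD2_c47 LD3_c9)) = (LP (LK LD1_c17 LD2_c57 LD3_c28)) :=
  Lre_a IH (LK LD1_c9 LD2_c47 LD3_c9) (LK LD1_c17 LD2_c57 LD3_c28) Lrfl Lrfl
theorem f575105 : Led Lsl_gt (LP (LK LD1_c15 LD2_c4 LD3_c50)) = (LP (LK LD1_c17 LD2_c57 LD3_c28)) :=
  Lgr Lrot46 (Lpr_gf (f575099 IH) (Lpr_ft (f453448 IH) (Lpr_at (f227798 IH) (Lpn (LP (LK LD1_c17 LD2_c57 LD3_c28))))))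
theorem f424955 : Led Lsl_at (LP (LK LD1_c8 LD2_c2 LD3_c20)) = (LP (LK LD1_c15 LD2_c4 LD3_c50)) :=
  Lgr Lrot100 (Lpr_af (K42.f424953 IH) (Lpn (LP (LK LD1_c15 LD2_c4 LD3_c50))))
theorem f424962 : Led Lsl_ft (LP (LK LD1_c15 LD2_c8 LD3_c2)) = (LP (LK LD1_c8 LD2_c2 LD3_c20)) :=
  Lre_f IH (LK LD1_c15 LD2_c8 LD3_c2) (LK LD1_c8 LD2_c2 LD3_c20) Lrfl Lrfl
theorem f556671 : Led Lsl_at (LP (LK LD1_c17 LD2_c57 LD3_c15)) = (LP (LK LD1_c15 LD2_c8 LD3_c2)) :=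
  Lgr Lrot66 (Lpr_ff (K42.f556658 IH) (Lpe (f424955 IH) (Lpe (f424962 IH) (Lpn (LP (LK LD1_c15 LD2_c8 LD3_c2))))))
theorem f575107 : Led Lsl_gf (LP (LK LD1_c15 LD2_c8 LD3_c2)) = (LP (LK LD1_c17 LD2_c57 LD3_c28)) :=
  Lgr Lrot76 (Lpe (f556671 IH) (Lpr_ff (K42.f556658 IH) (Lpr_gt (f575105 IH) (Lpn (LP (LK LD1_c17 LD2_c57 LD3_c28))))))
theorem f575949 : Led Lsl_dt (LP (LK LD1_c12 LD2_c8 LD3_c37)) = (LP (LK LD1_c17 LD2_c57 LD3_c28)) :=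
  Lgr Lrot136 (Lpr_et (f453119 IH) (Lpr_gf (f575941 IH) (Lpe (f552319 IH) (Lpr_dt (K40.f443198 IH) (Lpr_gf (K41.f552312 IH) (Lpe (K41.f402916 IH) (Lpe (K32.f402922 IH) (Lpr_ef (K42.f421349 IH) (Lpr_dt (f421361 IH) (Lpr_gf (f575107 IH) (Lpn (LP (LK LD1_c17 LD2_c57 LD3_c28)))))))))))))
theorem f418467 : Led Lsl_ft (LP (LK LD1_c6 LD2_c15 LD3_c10)) = (LP (LK LD1_c12 LD2_c8 LD3_c37)) :=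
  Lre_f IH (LK LD1_c6 LD2_c15 LD3_c10) (LK LD1_c12 LD2_c8 LD3_c37) Lrfl Lrfl
theorem f241831 : Led Lsl_dt (LP (LK LD1_c12 LD2_c8 LD3_c36)) = (LP (LK LD1_c6 LD2_c15 LD3_c10)) :=
  Lre_d IH (LK LD1_c12 LD2_c8 LD3_c36) (LK LD1_c6 LD2_c15 LD3_c10) Lrfl Lrfl
theorem f575957 : Led Lsl_ff (LP (LK LD1_c12 LD2_c8 LD3_c36)) = (LP (LK LD1_c17 LD2_c57 LD3_c28)) :=
  Lgr Lrot19 (Lpr_dt (f241831 IH) (Lpr_ft (f418467 IH) (Lpr_dt (f575949 IH) (Lpn (LP (LK LD1_c17 LD2_c57 LD3_c28))))))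
theorem f575959 : Led Lsl_at (LP (LK LD1_c12 LD2_c8 LD3_c36)) = (LP (LK LD1_c8 LD2_c47 LD3_c34)) :=
  Lgr Lrot66 (Lpr_ff (f575957 IH) (Lpe (f227798 IH) (Lpe (f453448 IH) (Lpn (LP (LK LD1_c8 LD2_c47 LD3_c34))))))
theorem f560691 : Led Lsl_et (LP (LK LD1_c21 LD2_c14 LD3_c55)) = (LP (LK LD1_c12 LD2_c8 LD3_c36)) :=
  Lre_e IH (LK LD1_c21 LD2_c14 LD3_c55) (LK LD1_c12 LD2_c8 LD3_c36) Lrfl Lrfl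
theorem f418402 : Led Lsl_et (LP (LK LD1_c8 LD2_c47 LD3_c34)) = (LP (LK LD1_c16 LD2_c27 LD3_c19)) :=
  Lre_e IH (LK LD1_c8 LD2_c47 LD3_c34) (LK LD1_c16 LD2_c27 LD3_c19) Lrfl Lrfl
theorem f575984 : Led Lsl_af (LP (LK LD1_c21 LD2_c14 LD3_c55)) = (LP (LK LD1_c16 LD2_c27 LD3_c19)) :=
  Lgr Lrot50 (Lpr_et (f560691 IH) (Lpr_at (f575959 IH) (Lpr_et (f418402 IH) (Lpn (LP (LK LD1_c16 LD2_c27 LD3_c19))))))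
theorem f575988 : Led Lsl_bt (LP (LK LD1_c21 LD2_c14 LD3_c55)) = (LP (LK LD1_c12 LD2_c8 LD3_c39)) :=
  Lre_b IH (LK LD1_c21 LD2_c14 LD3_c55) (LK LD1_c12 LD2_c8 LD3_c39) Lrfl Lrfl
theorem f453457 : Led Lsl_bt (LP (LK LD1_c8 LD2_c47 LD3_c36)) = (LP (LK LD1_c16 LD2_c27 LD3_c19)) :=
  Lre_b IH (LK LD1_c8 LD2_c47 LD3_c36) (LK LD1_c16 LD2_c27 LD3_c19) Lrfl Lrfl
theorem f229330 : Led Lsl_et (LP (LK LD1_c4 LD2_c25 LD3_c0)) = (LP (LK LD1_c8 LD2_c47 LD3_c36)) :=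
  Lre_e IH (LK LD1_c4 LD2_c25 LD3_c0) (LK LD1_c8 LD2_c47 LD3_c36) Lrfl Lrfl
theorem f453167 : Led Lsl_at (LP (LK LD1_c8 LD2_c47 LD3_c36)) = (LP (LK LD1_c9 LD2_c47 LD3_c11)) :=
  Lgr Lrot80 (Lpe (f229330 IH) (Lpr_af (K31.f453161 IH) (Lpe (K40.f227589 IH) (Lpn (LP (LK LD1_c9 LD2_c47 LD3_c11))))))
theorem f453454 : Led Lsl_af (LP (LK LD1_c8 LD2_c47 LD3_c36)) = (LP (LK LD1_c9 LD2_c47 LD3_c11)) :=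
  Lgr Lrot0 (Lpr_at (f453167 IH) (Lpn (LP (LK LD1_c9 LD2_c47 LD3_c11))))
theorem f6058 : Led Lsl_dt (LP (LK LD1_c7 LD2_c15 LD3_c10)) = (LP (LK LD1_c13 LD2_c43 LD3_c33)) :=
  Lre_d IH (LK LD1_c7 LD2_c15 LD3_c10) (LK LD1_c13 LD2_c43 LD3_c33) Lrfl Lrfl
theorem f6060 : Led Lsl_bt (LP (LK LD1_c13 LD2_c43 LD3_c33)) = (LP (LK LD1_c13 LD2_c33 LD3_c3)) :=
  Lgr Lrot95 (Lpe (f6058 IH) (Lpr_bf (K40.f6052 IH) (Lpe (K40.f6059 IH) (Lpn (LP (LK LD1_c13 LD2_c33 LD3_c3))))))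
theorem f560596 : Led Lsl_ff (LP (LK LD1_c13 LD2_c40 LD3_c34)) = (LP (LK LD1_c13 LD2_c33 LD3_c3)) :=
  Lgr Lrot3 (Lpr_ft (K42.f560592 IH) (Lpn (LP (LK LD1_c13 LD2_c33 LD3_c3))))
theorem f560875 : Led Lsl_bf (LP (LK LD1_c9 LD2_c47 LD3_c11)) = (LP (LK LD1_c13 LD2_c40 LD3_c34)) :=
  Lgr Lrot61 (Lpr_ft (K40.f560871 IH) (Lpr_bt (f6060 IH) (Lpe (f560596 IH) (Lpn (LP (LK LD1_c13 LD2_c40 LD3_c34))))))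
theorem f575989 : Led Lsl_at (LP (LK LD1_c12 LD2_c8 LD3_c39)) = (LP (LK LD1_c13 LD2_c40 LD3_c34)) :=
  Lgr Lrot67 (Lpe (f575988 IH) (Lpr_af (f575984 IH) (Lpe (f453457 IH) (Lpr_af (f453454 IH) (Lpr_bf (f560875 IH) (Lpn (LP (LK LD1_c13 LD2_c40 LD3_c34))))))))
theorem f453090 : Led Lsl_ft (LP (LK LD1_c21 LD2_c14 LD3_c61)) = (LP (LK LD1_c12 LD2_c8 LD3_c39)) :=
  Lre_f IH (LK LD1_c21 LD2_c14 LD3_c61) (LK LD1_c12 LD2_c8 LD3_c39) Lrfl Lrfl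
theorem f576011 : Led Lsl_af (LP (LK LD1_c21 LD2_c14 LD3_c61)) = (LP (LK LD1_c13 LD2_c33 LD3_c3)) :=
  Lgr Lrot45 (Lpr_ft (f453090 IH) (Lpr_at (f575989 IH) (Lpr_ft (K42.f560592 IH) (Lpn (LP (LK LD1_c13 LD2_c33 LD3_c3))))))
theorem f560598 : Led Lsl_gt (LP (LK LD1_c13 LD2_c40 LD3_c34)) = (LP (LK LD1_c23 LD2_c6 LD3_c6)) :=
  Lre_g IH (LK LD1_c13 LD2_c40 LD3_c34) (LK LD1_c23 LD2_c6 LD3_c6) Lrfl Lrfl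
theorem f576013 : Led Lsl_gf (LP (LK LD1_c21 LD2_c14 LD3_c61)) = (LP (LK LD1_c23 LD2_c6 LD3_c6)) :=
  Lgr Lrot76 (Lpr_af (f576011 IH) (Lpe (K42.f560592 IH) (Lpr_gt (f560598 IH) (Lpn (LP (LK LD1_c23 LD2_c6 LD3_c6))))))
theorem f560657 : Led Lsl_dt (LP (LK LD1_c21 LD2_c14 LD3_c61)) = (LP (LK LD1_c12 LD2_c8 LD3_c40)) :=
  Lre_d IH (LK LD1_c21 LD2_c14 LD3_c61) (LK LD1_c12 LD2_c8 LD3_c40) Lrfl Lrfl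
theorem f6631 : Led Lsl_ct (LP (LK LD1_c3 LD2_c32 LD3_c55)) = (LP (LK LD1_c1 LD2_c43 LD3_c8)) :=
  Lre_c IH (LK LD1_c3 LD2_c32 LD3_c55) (LK LD1_c1 LD2_c43 LD3_c8) Lrfl Lrfl
theorem f560611 : Led Lsl_gf (LP (LK LD1_c7 LD2_c13 LD3_c29)) = (LP (LK LD1_c7 LD2_c6 LD3_c46)) :=
  Lgr Lrot181 (Lpr_ct (K40.f108105 IH) (Lpr_gt (K40.f560605 IH) (Lpr_cf (K40.f456620 IH) (Lpr_bt (K34.f6630 IH) (Lpr_gt (K29.f6629 IH) (Lpr_bf (K29.f5949 IH) (Lpr_ct (K3.f5963 IH) (Lpr_gt (K29.f5955 IH) (Lpe (f6631 IH) (Lpr_bt (K33.f6632 IH) (Lpn (LP (LK LD1_c7 LD2_c6 LD3_c46)))))))))))))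
theorem f560755 : Led Lsl_gf (LP (LK LD1_c7 LD2_c6 LD3_c46)) = (LP (LK LD1_c12 LD2_c8 LD3_c40)) :=
  Lgr Lrot47 (Lpe (f560611 IH) (Lpr_af (K40.f560745 IH) (Lpe (K40.f560639 IH) (Lpn (LP (LK LD1_c12 LD2_c8 LD3_c40))))))
theorem f30196 : Led Lsl_dt (LP (LK LD1_c15 LD2_c7 LD3_c48)) = (LP (LK LD1_c8 LD2_c2 LD3_c2)) :=
  Lre_d IH (LK LD1_c15 LD2_c7 LD3_c48) (LK LD1_c8 LD2_c2 LD3_c2) Lrfl Lrfl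
theorem f30180 : Led Lsl_gt (LP (LK LD1_c15 LD2_c7 LD3_c47)) = (LP (LK LD1_c8 LD2_c2 LD3_c2)) :=
  Lre_g IH (LK LD1_c15 LD2_c7 LD3_c47) (LK LD1_c8 LD2_c2 LD3_c2) Lrfl Lrfl
theorem f30189 : Led Lsl_dt (LP (LK LD1_c24 LD2_c56 LD3_c40)) = (LP (LK LD1_c15 LD2_c7 LD3_c47)) :=
  Lre_d IH (LK LD1_c24 LD2_c56 LD3_c40) (LK LD1_c15 LD2_c7 LD3_c47) Lrfl Lrfl
theorem f568683 : Led Lsl_et (LP (LK LD1_c24 LD2_c56 LD3_c40)) = (LP (LK LD1_c23 LD2_c6 LD3_c6)) :=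
  Lgr Lrot122 (Lpr_dt (f30189 IH) (Lpr_gt (f30180 IH) (Lpe (f30196 IH) (Lpr_et (K1.f30739 IH) (Lpe (K10.f193739 IH) (Lpr_dt (K10.f193734 IH) (Lpr_gt (K13.f241208 IH) (Lpe (K13.f204823 IH) (Lpr_et (K42.f568679 IH) (Lpr_gt (f560598 IH) (Lpn (LP (LK LD1_c23 LD2_c6 LD3_c6)))))))))))))
theorem f30181 : Led Lsl_gt (LP (LK LD1_c15 LD2_c6 LD3_c3)) = (LP (LK LD1_c15 LD2_c7 LD3_c47)) :=
  Lgr Lrot5 (Lpr_ft (K12.f30160 IH) (Lpr_at (K12.f30162 IH) (Lpe (f30180 IH) (Lpn (LP (LK LD1_c15 LD2_c7 LD3_c47))))))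
theorem f36692 : Led Lsl_dt (LP (LK LD1_c21 LD2_c11 LD3_c60)) = (LP (LK LD1_c15 LD2_c6 LD3_c3)) :=
  Lgr Lrot42 (Lpr_df (K1.f36687 IH) (Lpn (LP (LK LD1_c15 LD2_c6 LD3_c3))))
theorem f576015 : Led Lsl_et (LP (LK LD1_c13 LD2_c28 LD3_c41)) = (LP (LK LD1_c15 LD2_c8 LD3_c24)) :=
  Lgr Lrot185 (Lpr_dt (K33.f456090 IH) (Lpr_gf (f560755 IH) (Lpe (f560657 IH) (Lpr_gf (f576013 IH) (Lpe (f568683 IH) (Lpr_dt (f30189 IH) (Lpe (f30181 IH) (Lpe (f36692 IH) (Lpr_et (K1.f36686 IH) (Lpe (K37.f445098 IH) (Lpn (LP (LK LD1_c15 LD2_c8 LD3_c24)))))))))))))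
theorem f576023 : Led Lsl_ef (LP (LK LD1_c13 LD2_c28 LD3_c41)) = (LP (LK LD1_c15 LD2_c8 LD3_c24)) :=
  Lgr Lrot88 (Lpr_et (f576015 IH) (Lpn (LP (LK LD1_c15 LD2_c8 LD3_c24))))
theorem f456106 : Led Lsl_ct (LP (LK LD1_c13 LD2_c28 LD3_c41)) = (LP (LK LD1_c22 LD2_c48 LD3_c32)) :=
  Lre_c IH (LK LD1_c13 LD2_c28 LD3_c41) (LK LD1_c22 LD2_c48 LD3_c32) Lrfl Lrfl
theorem f576029 : Led Lsl_et (LP (LK LD1_c22 LD2_c48 LD3_c32)) = (LP (LK LD1_c16 LD2_c32 LD3_c31)) :=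
  Lgr Lrot158 (Lpe (f456106 IH) (Lpr_ef (f576023 IH) (Lpr_cf (K40.f445096 IH) (Lpn (LP (LK LD1_c16 LD2_c32 LD3_c31))))))
theorem f560929 : Led Lsl_ff (LP (LK LD1_c26 LD2_c30 LD3_c37)) = (LP (LK LD1_c22 LD2_c55 LD3_c34)) :=
  Lgr Lrot3 (Lpr_ft (K40.f560923 IH) (Lpn (LP (LK LD1_c22 LD2_c55 LD3_c34))))
theorem f515421 : Led Lsl_at (LP (LK LD1_c13 LD2_c33 LD3_c8)) = (LP (LK LD1_c22 LD2_c55 LD3_c34)) :=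
  Lre_a IH (LK LD1_c13 LD2_c33 LD3_c8) (LK LD1_c22 LD2_c55 LD3_c34) Lrfl Lrfl
theorem f560935 : Led Lsl_at (LP (LK LD1_c26 LD2_c30 LD3_c37)) = (LP (LK LD1_c22 LD2_c48 LD3_c32)) :=
  Lgr Lrot66 (Lpr_ff (f560929 IH) (Lpe (f515421 IH) (Lpe (K33.f515415 IH) (Lpn (LP (LK LD1_c22 LD2_c48 LD3_c32))))))
theorem f445362 : Led Lsl_et (LP (LK LD1_c16 LD2_c33 LD3_c49)) = (LP (LK LD1_c26 LD2_c30 LD3_c37)) :=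
  Lre_e IH (LK LD1_c16 LD2_c33 LD3_c49) (LK LD1_c26 LD2_c30 LD3_c37) Lrfl Lrfl
theorem f576031 : Led Lsl_af (LP (LK LD1_c16 LD2_c33 LD3_c49)) = (LP (LK LD1_c16 LD2_c32 LD3_c31)) :=
  Lgr Lrot50 (Lpr_et (f445362 IH) (Lpr_at (f560935 IH) (Lpr_et (f576029 IH) (Lpn (LP (LK LD1_c16 LD2_c32 LD3_c31))))))
theorem f576045 : Led Lsl_ft (LP (LK LD1_c16 LD2_c33 LD3_c50)) = (LP (LK LD1_c16 LD2_c32 LD3_c31)) :=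
  Lgr Lrot2 (Lpr_gt (K40.f16252 IH) (Lpr_gt (K40.f16468 IH) (Lpr_af (f576031 IH) (Lpn (LP (LK LD1_c16 LD2_c32 LD3_c31))))))
theorem f576053 : Led Lsl_ff (LP (LK LD1_c16 LD2_c33 LD3_c50)) = (LP (LK LD1_c16 LD2_c32 LD3_c31)) :=
  Lgr Lrot3 (Lpr_ft (f576045 IH) (Lpn (LP (LK LD1_c16 LD2_c32 LD3_c31))))
theorem f576061 : Led Lsl_at (LP (LK LD1_c16 LD2_c33 LD3_c50)) = (LP (LK LD1_c16 LD2_c32 LD3_c32)) :=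
  Lgr Lrot26 (Lpr_ff (f576053 IH) (Lpe (K37.f16409 IH) (Lpr_gt (K37.f16572 IH) (Lpn (LP (LK LD1_c16 LD2_c32 LD3_c32))))))
theorem f576043 : Led Lsl_at (LP (LK LD1_c16 LD2_c33 LD3_c49)) = (LP (LK LD1_c16 LD2_c32 LD3_c31)) :=
  Lgr Lrot100 (Lpr_af (f576031 IH) (Lpn (LP (LK LD1_c16 LD2_c32 LD3_c31))))
theorem f576070 : Led Lsl_ff (LP (LK LD1_c16 LD2_c33 LD3_c49)) = (LP (LK LD1_c16 LD2_c32 LD3_c32)) :=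
  Lgr Lrot30 (Lpr_at (f576043 IH) (Lpe (f576053 IH) (Lpr_at (f576061 IH) (Lpn (LP (LK LD1_c16 LD2_c32 LD3_c32))))))
theorem f576078 : Led Lsl_ft (LP (LK LD1_c16 LD2_c33 LD3_c49)) = (LP (LK LD1_c16 LD2_c32 LD3_c32)) :=
  Lgr Lrot48 (Lpr_ff (f576070 IH) (Lpn (LP (LK LD1_c16 LD2_c32 LD3_c32))))
theorem f29693 : Led Lsl_ft (LP (LK LD1_c24 LD2_c54 LD3_c4)) = (LP (LK LD1_c15 LD2_c5 LD3_c57)) :=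
  Lre_f IH (LK LD1_c24 LD2_c54 LD3_c4) (LK LD1_c15 LD2_c5 LD3_c57) Lrfl Lrfl
theorem f29919 : Led Lsl_at (LP (LK LD1_c15 LD2_c5 LD3_c57)) = (LP (LK LD1_c15 LD2_c7 LD3_c38)) :=
  Lgr Lrot100 (Lpr_af (K1.f29917 IH) (Lpn (LP (LK LD1_c15 LD2_c7 LD3_c38))))
theorem f444917 : Led Lsl_gf (LP (LK LD1_c15 LD2_c7 LD3_c38)) = (LP (LK LD1_c16 LD2_c33 LD3_c26)) :=
  Lgr Lrot76 (Lpe (f29919 IH) (Lpe (f29693 IH) (Lpr_gt (K37.f444910 IH) (Lpn (LP (LK LD1_c16 LD2_c33 LD3_c26))))))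
theorem f99337 : Led Lsl_dt (LP (LK LD1_c8 LD2_c45 LD3_c12)) = (LP (LK LD1_c16 LD2_c23 LD3_c10)) :=
  Lre_d IH (LK LD1_c8 LD2_c45 LD3_c12) (LK LD1_c16 LD2_c23 LD3_c10) Lrfl Lrfl
theorem f99331 : Led Lsl_ct (LP (LK LD1_c26 LD2_c21 LD3_c10)) = (LP (LK LD1_c16 LD2_c23 LD3_c10)) :=
  Lre_c IH (LK LD1_c26 LD2_c21 LD3_c10) (LK LD1_c16 LD2_c23 LD3_c10) Lrfl Lrfl
theorem f444929 : Led Lsl_dt (LP (LK LD1_c16 LD2_c32 LD3_c32)) = (LP (LK LD1_c26 LD2_c21 LD3_c10)) :=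
  Lgr Lrot105 (Lpe (K37.f16572 IH) (Lpr_df (K1.f16261 IH) (Lpe (K37.f16298 IH) (Lpr_cf (K37.f444919 IH) (Lpe (f444917 IH) (Lpr_dt (K1.f29590 IH) (Lpr_gt (K37.f444908 IH) (Lpr_dt (f99337 IH) (Lpe (f99331 IH) (Lpn (LP (LK LD1_c26 LD2_c21 LD3_c10))))))))))))
theorem f576084 : Led Lsl_ff (LP (LK LD1_c26 LD2_c30 LD3_c36)) = (LP (LK LD1_c26 LD2_c21 LD3_c10)) :=
  Lgr Lrot19 (Lpr_dt (K40.f16471 IH) (Lpr_ft (f576078 IH) (Lpr_dt (f444929 IH) (Lpn (LP (LK LD1_c26 LD2_c21 LD3_c10))))))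
theorem f445321 : Led Lsl_cf (LP (LK LD1_c24 LD2_c46 LD3_c55)) = (LP (LK LD1_c26 LD2_c30 LD3_c36)) :=
  Lgr Lrot11 (Lpr_ct (K40.f445315 IH) (Lpn (LP (LK LD1_c26 LD2_c30 LD3_c36))))
theorem f99338 : Led Lsl_ct (LP (LK LD1_c16 LD2_c23 LD3_c10)) = (LP (LK LD1_c26 LD2_c21 LD3_c10)) :=
  Lre_c IH (LK LD1_c16 LD2_c23 LD3_c10) (LK LD1_c26 LD2_c21 LD3_c10) Lrfl Lrfl
theorem f576086 : Led Lsl_ft (LP (LK LD1_c24 LD2_c46 LD3_c55)) = (LP (LK LD1_c16 LD2_c23 LD3_c10)) :=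
  Lgr Lrot4 (Lpr_cf (f445321 IH) (Lpr_ff (f576084 IH) (Lpe (f99338 IH) (Lpn (LP (LK LD1_c16 LD2_c23 LD3_c10))))))
theorem f210930 : Led Lsl_dt (LP (LK LD1_c24 LD2_c46 LD3_c55)) = (LP (LK LD1_c14 LD2_c59 LD3_c21)) :=
  Lre_d IH (LK LD1_c24 LD2_c46 LD3_c55) (LK LD1_c14 LD2_c59 LD3_c21) Lrfl Lrfl
theorem f445303 : Led Lsl_ct (LP (LK LD1_c12 LD2_c5 LD3_c61)) = (LP (LK LD1_c16 LD2_c33 LD3_c50)) :=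
  Lgr Lrot59 (Lpr_cf (K40.f445299 IH) (Lpn (LP (LK LD1_c16 LD2_c33 LD3_c50))))
theorem f576092 : Led Lsl_af (LP (LK LD1_c24 LD2_c46 LD3_c52)) = (LP (LK LD1_c16 LD2_c23 LD3_c10)) :=
  Lgr Lrot109 (Lpe (K40.f445363 IH) (Lpe (K40.f16492 IH) (Lpe (f445303 IH) (Lpe (K40.f59738 IH) (Lpe (K40.f445205 IH) (Lpr_df (K37.f210927 IH) (Lpe (K40.f38772 IH) (Lpe (f210930 IH) (Lpr_ft (f576086 IH) (Lpn (LP (LK LD1_c16 LD2_c23 LD3_c10))))))))))))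
theorem f241121 : Led Lsl_dt (LP (LK LD1_c24 LD2_c46 LD3_c52)) = (LP (LK LD1_c14 LD2_c59 LD3_c17)) :=
  Lre_d IH (LK LD1_c24 LD2_c46 LD3_c52) (LK LD1_c14 LD2_c59 LD3_c17) Lrfl Lrfl
theorem f576098 : Led Lsl_at (LP (LK LD1_c14 LD2_c59 LD3_c17)) = (LP (LK LD1_c8 LD2_c45 LD3_c12)) :=
  Lgr Lrot51 (Lpe (f241121 IH) (Lpr_af (f576092 IH) (Lpe (f99337 IH) (Lpn (LP (LK LD1_c8 LD2_c45 LD3_c12))))))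
theorem f576108 : Led Lsl_ff (LP (LK LD1_c14 LD2_c59 LD3_c17)) = (LP (LK LD1_c8 LD2_c45 LD3_c16)) :=
  Lgr Lrot52 (Lpr_at (f576098 IH) (Lpe (K37.f444908 IH) (Lpr_gf (K37.f408064 IH) (Lpn (LP (LK LD1_c8 LD2_c45 LD3_c16))))))
theorem f576116 : Led Lsl_ft (LP (LK LD1_c14 LD2_c59 LD3_c17)) = (LP (LK LD1_c8 LD2_c45 LD3_c16)) :=
  Lgr Lrot48 (Lpr_ff (f576108 IH) (Lpn (LP (LK LD1_c8 LD2_c45 LD3_c16))))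
theorem f30153 : Led Lsl_ft (LP (LK LD1_c8 LD2_c1 LD3_c9)) = (LP (LK LD1_c15 LD2_c5 LD3_c58)) :=
  Lre_f IH (LK LD1_c8 LD2_c1 LD3_c9) (LK LD1_c15 LD2_c5 LD3_c58) Lrfl Lrfl
theorem f29942 : Led Lsl_at (LP (LK LD1_c15 LD2_c5 LD3_c58)) = (LP (LK LD1_c15 LD2_c7 LD3_c39)) :=
  Lgr Lrot100 (Lpr_af (K1.f29938 IH) (Lpn (LP (LK LD1_c15 LD2_c7 LD3_c39))))
theorem f445327 : Led Lsl_gf (LP (LK LD1_c15 LD2_c7 LD3_c39)) = (LP (LK LD1_c14 LD2_c59 LD3_c17)) :=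
  Lgr Lrot76 (Lpe (f29942 IH) (Lpe (f30153 IH) (Lpr_gt (K40.f445325 IH) (Lpn (LP (LK LD1_c14 LD2_c59 LD3_c17))))))
theorem f576123 : Led Lsl_af (LP (LK LD1_c14 LD2_c59 LD3_c21)) = (LP (LK LD1_c8 LD2_c45 LD3_c16)) :=
  Lgr Lrot31 (Lpr_gf (K40.f407886 IH) (Lpr_gf (f445327 IH) (Lpr_ft (f576116 IH) (Lpn (LP (LK LD1_c8 LD2_c45 LD3_c16))))))
theorem f576100 : Led Lsl_af (LP (LK LD1_c14 LD2_c59 LD3_c17)) = (LP (LK LD1_c8 LD2_c45 LD3_c12)) :=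
  Lgr Lrot0 (Lpr_at (f576098 IH) (Lpn (LP (LK LD1_c8 LD2_c45 LD3_c12))))
theorem f576127 : Led Lsl_ft (LP (LK LD1_c14 LD2_c59 LD3_c21)) = (LP (LK LD1_c8 LD2_c45 LD3_c12)) :=
  Lgr Lrot101 (Lpr_af (f576123 IH) (Lpe (f576116 IH) (Lpr_af (f576100 IH) (Lpn (LP (LK LD1_c8 LD2_c45 LD3_c12))))))
theorem f576131 : Led Lsl_ff (LP (LK LD1_c7 LD2_c56 LD3_c37)) = (LP (LK LD1_c4 LD2_c23 LD3_c40)) :=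
  Lgr Lrot23 (Lpr_ct (K40.f210925 IH) (Lpr_ft (f576127 IH) (Lpr_ct (K37.f99329 IH) (Lpn (LP (LK LD1_c4 LD2_c23 LD3_c40))))))
theorem f576140 : Led Lsl_ft (LP (LK LD1_c7 LD2_c56 LD3_c37)) = (LP (LK LD1_c4 LD2_c23 LD3_c40)) :=
  Lgr Lrot48 (Lpr_ff (f576131 IH) (Lpn (LP (LK LD1_c4 LD2_c23 LD3_c40))))
theorem f576146 : Led Lsl_ff (LP (LK LD1_c11 LD2_c23 LD3_c16)) = (LP (LK LD1_c8 LD2_c45 LD3_c13)) :=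
  Lgr Lrot19 (Lpr_dt (K37.f210919 IH) (Lpr_ft (f576140 IH) (Lpr_dt (K4.f99328 IH) (Lpn (LP (LK LD1_c8 LD2_c45 LD3_c13))))))
theorem f444932 : Led Lsl_df (LP (LK LD1_c16 LD2_c32 LD3_c32)) = (LP (LK LD1_c26 LD2_c21 LD3_c10)) :=
  Lgr Lrot38 (Lpr_dt (f444929 IH) (Lpn (LP (LK LD1_c26 LD2_c21 LD3_c10))))
theorem f576152 : Led Lsl_at (LP (LK LD1_c11 LD2_c23 LD3_c16)) = (LP (LK LD1_c8 LD2_c45 LD3_c17)) :=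
  Lgr Lrot33 (Lpr_ff (f576146 IH) (Lpr_dt (K40.f99335 IH) (Lpr_ct (K37.f99336 IH) (Lpr_dt (f99337 IH) (Lpr_ct (f99338 IH) (Lpe (f444932 IH) (Lpe (K37.f444953 IH) (Lpr_dt (K37.f444995 IH) (Lpr_ct (K37.f38070 IH) (Lpn (LP (LK LD1_c8 LD2_c45 LD3_c17))))))))))))
theorem f576158 : Led Lsl_af (LP (LK LD1_c5 LD2_c46 LD3_c32)) = (LP (LK LD1_c6 LD2_c14 LD3_c22)) :=
  Lgr Lrot50 (Lpr_et (K40.f210929 IH) (Lpr_at (f576152 IH) (Lpr_et (K37.f38031 IH) (Lpn (LP (LK LD1_c6 LD2_c14 LD3_c22))))))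
theorem f56612 : Led Lsl_gt (LP (LK LD1_c5 LD2_c46 LD3_c33)) = (LP (LK LD1_c2 LD2_c48 LD3_c60)) :=
  Lre_g IH (LK LD1_c5 LD2_c46 LD3_c33) (LK LD1_c2 LD2_c48 LD3_c60) Lrfl Lrfl
theorem f576206 : Led Lsl_ft (LP (LK LD1_c5 LD2_c46 LD3_c33)) = (LP (LK LD1_c6 LD2_c14 LD3_c22)) :=
  Lgr Lrot2 (Lpr_gt (f56612 IH) (Lpr_gt (K37.f59300 IH) (Lpr_af (f576158 IH) (Lpn (LP (LK LD1_c6 LD2_c14 LD3_c22))))))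
theorem f576210 : Led Lsl_ff (LP (LK LD1_c5 LD2_c46 LD3_c33)) = (LP (LK LD1_c6 LD2_c14 LD3_c22)) :=
  Lgr Lrot3 (Lpr_ft (f576206 IH) (Lpn (LP (LK LD1_c6 LD2_c14 LD3_c22))))
theorem f60331 : Led Lsl_ft (LP (LK LD1_c5 LD2_c46 LD3_c35)) = (LP (LK LD1_c2 LD2_c48 LD3_c60)) :=
  Lre_f IH (LK LD1_c5 LD2_c46 LD3_c35) (LK LD1_c2 LD2_c48 LD3_c60) Lrfl Lrfl
theorem f443825 : Led Lsl_gf (LP (LK LD1_c6 LD2_c14 LD3_c23)) = (LP (LK LD1_c5 LD2_c46 LD3_c35)) :=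
  Lgr Lrot47 (Lpr_gt (K37.f69568 IH) (Lpr_af (K39.f60381 IH) (Lpe (f60331 IH) (Lpn (LP (LK LD1_c5 LD2_c46 LD3_c35))))))
theorem f576215 : Led Lsl_at (LP (LK LD1_c5 LD2_c46 LD3_c33)) = (LP (LK LD1_c6 LD2_c14 LD3_c23)) :=
  Lgr Lrot26 (Lpr_ff (f576210 IH) (Lpr_gt (K37.f443764 IH) (Lpe (f443825 IH) (Lpn (LP (LK LD1_c6 LD2_c14 LD3_c23))))))
theorem f576200 : Led Lsl_at (LP (LK LD1_c5 LD2_c46 LD3_c32)) = (LP (LK LD1_c6 LD2_c14 LD3_c22)) :=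
  Lgr Lrot100 (Lpr_af (f576158 IH) (Lpn (LP (LK LD1_c6 LD2_c14 LD3_c22))))
theorem f576224 : Led Lsl_ff (LP (LK LD1_c5 LD2_c46 LD3_c32)) = (LP (LK LD1_c6 LD2_c14 LD3_c23)) :=
  Lgr Lrot30 (Lpr_at (f576200 IH) (Lpe (f576210 IH) (Lpr_at (f576215 IH) (Lpn (LP (LK LD1_c6 LD2_c14 LD3_c23))))))
theorem f576232 : Led Lsl_ft (LP (LK LD1_c5 LD2_c46 LD3_c32)) = (LP (LK LD1_c6 LD2_c14 LD3_c23)) :=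
  Lgr Lrot48 (Lpr_ff (f576224 IH) (Lpn (LP (LK LD1_c6 LD2_c14 LD3_c23))))
theorem f576238 : Led Lsl_ff (LP (LK LD1_c16 LD2_c23 LD3_c14)) = (LP (LK LD1_c12 LD2_c7 LD3_c8)) :=
  Lgr Lrot72 (Lpr_et (K4.f99320 IH) (Lpe (f576146 IH) (Lpr_et (K37.f60380 IH) (Lpr_ft (f576232 IH) (Lpr_et (K37.f80588 IH) (Lpn (LP (LK LD1_c12 LD2_c7 LD3_c8))))))))
theorem f408182 : Led Lsl_gt (LP (LK LD1_c8 LD2_c45 LD3_c13)) = (LP (LK LD1_c16 LD2_c23 LD3_c12)) :=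
  Lre_g IH (LK LD1_c8 LD2_c45 LD3_c13) (LK LD1_c16 LD2_c23 LD3_c12) Lrfl Lrfl
theorem f576160 : Led Lsl_gt (LP (LK LD1_c16 LD2_c23 LD3_c12)) = (LP (LK LD1_c8 LD2_c45 LD3_c17)) :=
  Lgr Lrot46 (Lpe (f408182 IH) (Lpe (f576146 IH) (Lpr_at (f576152 IH) (Lpn (LP (LK LD1_c8 LD2_c45 LD3_c17))))))
theorem f576166 : Led Lsl_ef (LP (LK LD1_c16 LD2_c23 LD3_c12)) = (LP (LK LD1_c12 LD2_c8 LD3_c9)) :=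
  Lgr Lrot167 (Lpr_gt (f576160 IH) (Lpr_dt (K37.f38028 IH) (Lpr_gt (K37.f38027 IH) (Lpe (K1.f16329 IH) (Lpr_et (K37.f38026 IH) (Lpr_gt (K2.f38005 IH) (Lpe (K37.f38041 IH) (Lpr_dt (K37.f38042 IH) (Lpr_gt (K37.f38043 IH) (Lpe (K40.f38044 IH) (Lpn (LP (LK LD1_c12 LD2_c8 LD3_c9)))))))))))))
theorem f201978 : Led Lsl_dt (LP (LK LD1_c4 LD2_c42 LD3_c40)) = (LP (LK LD1_c9 LD2_c19 LD3_c36)) :=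
  Lre_d IH (LK LD1_c4 LD2_c42 LD3_c40) (LK LD1_c9 LD2_c19 LD3_c36) Lrfl Lrfl
theorem f70266 : Led Lsl_dt (LP (LK LD1_c8 LD2_c46 LD3_c28)) = (LP (LK LD1_c4 LD2_c24 LD3_c24)) :=
  Lre_d IH (LK LD1_c8 LD2_c46 LD3_c28) (LK LD1_c4 LD2_c24 LD3_c24) Lrfl Lrfl
theorem f70254 : Led Lsl_ct (LP (LK LD1_c16 LD2_c24 LD3_c61)) = (LP (LK LD1_c8 LD2_c46 LD3_c28)) :=
  Lre_c IH (LK LD1_c16 LD2_c24 LD3_c61) (LK LD1_c8 LD2_c46 LD3_c28) Lrfl Lrfl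
theorem f560379 : Led Lsl_gt (LP (LK LD1_c26 LD2_c22 LD3_c39)) = (LP (LK LD1_c16 LD2_c24 LD3_c61)) :=
  Lre_g IH (LK LD1_c26 LD2_c22 LD3_c39) (LK LD1_c16 LD2_c24 LD3_c61) Lrfl Lrfl
theorem f159675 : Led Lsl_gt (LP (LK LD1_c14 LD2_c5 LD3_c14)) = (LP (LK LD1_c7 LD2_c27 LD3_c46)) :=
  Lre_g IH (LK LD1_c14 LD2_c5 LD3_c14) (LK LD1_c7 LD2_c27 LD3_c46) Lrfl Lrfl
theorem f544280 : Led Lsl_cf (LP (LK LD1_c7 LD2_c56 LD3_c46)) = (LP (LK LD1_c4 LD2_c24 LD3_c25)) :=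
  Lgr Lrot11 (Lpr_ct (K37.f544244 IH) (Lpn (LP (LK LD1_c4 LD2_c24 LD3_c25))))
theorem f205529 : Led Lsl_af (LP (LK LD1_c2 LD2_c9 LD3_c39)) = (LP (LK LD1_c1 LD2_c31 LD3_c9)) :=
  Lgr Lrot117 (Lpr_dt (K40.f80522 IH) (Lpr_at (K11.f205514 IH) (Lpr_dt (K11.f205493 IH) (Lpn (LP (LK LD1_c1 LD2_c31 LD3_c9))))))
theorem f205658 : Led Lsl_gf (LP (LK LD1_c4 LD2_c24 LD3_c25)) = (LP (LK LD1_c3 LD2_c10 LD3_c3)) :=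
  Lgr Lrot47 (Lpr_gt (K37.f75768 IH) (Lpr_af (f205529 IH) (Lpe (K11.f205462 IH) (Lpn (LP (LK LD1_c3 LD2_c10 LD3_c3))))))
theorem f560366 : Led Lsl_cf (LP (LK LD1_c14 LD2_c5 LD3_c14)) = (LP (LK LD1_c8 LD2_c46 LD3_c33)) :=
  Lgr Lrot169 (Lpr_gt (f159675 IH) (Lpr_ct (K39.f560351 IH) (Lpe (K11.f59260 IH) (Lpr_cf (K41.f210821 IH) (Lpe (K37.f210826 IH) (Lpr_cf (f544280 IH) (Lpr_gf (f205658 IH) (Lpe (K39.f205479 IH) (Lpe (K40.f205673 IH) (Lpn (LP (LK LD1_c8 LD2_c46 LD3_c33))))))))))))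
theorem f560343 : Led Lsl_dt (LP (LK LD1_c7 LD2_c27 LD3_c46)) = (LP (LK LD1_c14 LD2_c5 LD3_c15)) :=
  Lre_d IH (LK LD1_c7 LD2_c27 LD3_c46) (LK LD1_c14 LD2_c5 LD3_c15) Lrfl Lrfl
theorem f147303 : Led Lsl_gt (LP (LK LD1_c23 LD2_c29 LD3_c59)) = (LP (LK LD1_c13 LD2_c57 LD3_c60)) :=
  Lre_g IH (LK LD1_c23 LD2_c29 LD3_c59) (LK LD1_c13 LD2_c57 LD3_c60) Lrfl Lrfl
theorem f560348 : Led Lsl_gt (LP (LK LD1_c14 LD2_c5 LD3_c15)) = (LP (LK LD1_c23 LD2_c29 LD3_c59)) :=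
  Lgr Lrot5 (Lpr_ft (K39.f560337 IH) (Lpr_at (K36.f147302 IH) (Lpe (f147303 IH) (Lpn (LP (LK LD1_c23 LD2_c29 LD3_c59))))))
theorem f70244 : Led Lsl_dt (LP (LK LD1_c4 LD2_c24 LD3_c24)) = (LP (LK LD1_c8 LD2_c46 LD3_c28)) :=
  Lre_d IH (LK LD1_c4 LD2_c24 LD3_c24) (LK LD1_c8 LD2_c46 LD3_c28) Lrfl Lrfl
theorem f560374 : Led Lsl_dt (LP (LK LD1_c23 LD2_c29 LD3_c59)) = (LP (LK LD1_c16 LD2_c24 LD3_c61)) :=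
  Lgr Lrot105 (Lpe (f560348 IH) (Lpe (f560343 IH) (Lpe (f159675 IH) (Lpr_cf (f560366 IH) (Lpr_gt (K40.f70725 IH) (Lpr_dt (K39.f70724 IH) (Lpr_gt (K6.f70237 IH) (Lpr_dt (f70244 IH) (Lpe (f70254 IH) (Lpn (LP (LK LD1_c16 LD2_c24 LD3_c61))))))))))))
theorem f560376 : Led Lsl_df (LP (LK LD1_c23 LD2_c29 LD3_c59)) = (LP (LK LD1_c16 LD2_c24 LD3_c61)) :=
  Lgr Lrot38 (Lpr_dt (f560374 IH) (Lpn (LP (LK LD1_c16 LD2_c24 LD3_c61))))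
theorem f560341 : Led Lsl_cf (LP (LK LD1_c14 LD2_c5 LD3_c15)) = (LP (LK LD1_c23 LD2_c29 LD3_c41)) :=
  Lgr Lrot108 (Lpr_ft (K39.f560337 IH) (Lpr_ct (K36.f147298 IH) (Lpr_ft (K37.f147163 IH) (Lpn (LP (LK LD1_c23 LD2_c29 LD3_c41))))))
theorem f469249 : Led Lsl_ef (LP (LK LD1_c13 LD2_c25 LD3_c31)) = (LP (LK LD1_c13 LD2_c57 LD3_c46)) :=
  Lgr Lrot20 (Lpr_at (K28.f469248 IH) (Lpr_et (K28.f469241 IH) (Lpr_at (K34.f146939 IH) (Lpn (LP (LK LD1_c13 LD2_c57 LD3_c46))))))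
theorem f540296 : Led Lsl_cf (LP (LK LD1_c13 LD2_c57 LD3_c46)) = (LP (LK LD1_c8 LD2_c46 LD3_c0)) :=
  Lgr Lrot39 (Lpe (f469249 IH) (Lpr_ct (K37.f469257 IH) (Lpr_et (K36.f540290 IH) (Lpn (LP (LK LD1_c8 LD2_c46 LD3_c0))))))
theorem f99295 : Led Lsl_ct (LP (LK LD1_c16 LD2_c31 LD3_c57)) = (LP (LK LD1_c8 LD2_c50 LD3_c43)) :=
  Lre_c IH (LK LD1_c16 LD2_c31 LD3_c57) (LK LD1_c8 LD2_c50 LD3_c43) Lrfl Lrfl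
theorem f560359 : Led Lsl_df (LP (LK LD1_c16 LD2_c31 LD3_c57)) = (LP (LK LD1_c13 LD2_c57 LD3_c60)) :=
  Lgr Lrot43 (Lpr_ct (f99295 IH) (Lpr_dt (K40.f38138 IH) (Lpe (K4.f99287 IH) (Lpr_dt (K39.f99294 IH) (Lpe (f540296 IH) (Lpr_dt (K37.f147169 IH) (Lpe (f560341 IH) (Lpr_dt (K39.f560350 IH) (Lpr_ct (K39.f560351 IH) (Lpr_dt (K32.f59316 IH) (Lpr_ct (K39.f59242 IH) (Lpr_dt (K39.f544191 IH) (Lpr_ct (K37.f147270 IH) (Lpr_dt (K39.f147299 IH) (Lpr_ct (K39.f147300 IH) (Lpn (LP (LK LD1_c13 LD2_c57 LD3_c60))))))))))))))))))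
theorem f69503 : Led Lsl_gt (LP (LK LD1_c17 LD2_c15 LD3_c15)) = (LP (LK LD1_c9 LD2_c19 LD3_c33)) :=
  Lre_g IH (LK LD1_c17 LD2_c15 LD3_c15) (LK LD1_c9 LD2_c19 LD3_c33) Lrfl Lrfl
theorem f560382 : Led Lsl_ct (LP (LK LD1_c17 LD2_c15 LD3_c15)) = (LP (LK LD1_c26 LD2_c22 LD3_c39)) :=
  Lgr Lrot8 (Lpr_gt (f69503 IH) (Lpr_dt (K37.f59322 IH) (Lpr_gt (K11.f201945 IH) (Lpr_dt (K11.f38139 IH) (Lpe (f99295 IH) (Lpr_df (f560359 IH) (Lpe (f147303 IH) (Lpr_df (f560376 IH) (Lpe (f560379 IH) (Lpn (LP (LK LD1_c26 LD2_c22 LD3_c39))))))))))))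
theorem f561100 : Led Lsl_gt (LP (LK LD1_c9 LD2_c19 LD3_c36)) = (LP (LK LD1_c17 LD2_c15 LD3_c15)) :=
  Lgr Lrot9 (Lpe (f201978 IH) (Lpr_gt (K32.f201975 IH) (Lpr_ct (K39.f59242 IH) (Lpr_gt (K40.f70196 IH) (Lpr_ct (K40.f561093 IH) (Lpe (f70266 IH) (Lpe (f70254 IH) (Lpe (f560379 IH) (Lpe (f560382 IH) (Lpn (LP (LK LD1_c17 LD2_c15 LD3_c15))))))))))))
theorem f576172 : Led Lsl_dt (LP (LK LD1_c16 LD2_c23 LD3_c14)) = (LP (LK LD1_c17 LD2_c15 LD3_c15)) :=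
  Lgr Lrot56 (Lpr_et (K4.f99320 IH) (Lpr_gt (f408182 IH) (Lpr_ef (f576166 IH) (Lpr_dt (K40.f38044 IH) (Lpr_gt (K39.f544221 IH) (Lpr_df (K40.f554163 IH) (Lpe (K40.f38118 IH) (Lpe (K40.f201976 IH) (Lpr_dt (f201978 IH) (Lpr_gt (f561100 IH) (Lpn (LP (LK LD1_c17 LD2_c15 LD3_c15)))))))))))))
theorem f80585 : Led Lsl_dt (LP (LK LD1_c16 LD2_c31 LD3_c42)) = (LP (LK LD1_c12 LD2_c7 LD3_c8)) :=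
  Lgr Lrot42 (Lpr_df (K37.f80557 IH) (Lpn (LP (LK LD1_c12 LD2_c7 LD3_c8))))
theorem f576240 : Led Lsl_ft (LP (LK LD1_c17 LD2_c15 LD3_c15)) = (LP (LK LD1_c16 LD2_c31 LD3_c42)) :=
  Lgr Lrot54 (Lpe (f576172 IH) (Lpr_ff (f576238 IH) (Lpe (f80585 IH) (Lpn (LP (LK LD1_c16 LD2_c31 LD3_c42))))))
theorem f56610 : Led Lsl_gt (LP (LK LD1_c9 LD2_c19 LD3_c33)) = (LP (LK LD1_c17 LD2_c15 LD3_c14)) :=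
  Lre_g IH (LK LD1_c9 LD2_c19 LD3_c33) (LK LD1_c17 LD2_c15 LD3_c14) Lrfl Lrfl
theorem f576244 : Led Lsl_af (LP (LK LD1_c17 LD2_c15 LD3_c14)) = (LP (LK LD1_c16 LD2_c31 LD3_c42)) :=
  Lgr Lrot31 (Lpe (f56610 IH) (Lpe (f69503 IH) (Lpr_ft (f576240 IH) (Lpn (LP (LK LD1_c16 LD2_c31 LD3_c42))))))
theorem f576246 : Led Lsl_at (LP (LK LD1_c17 LD2_c15 LD3_c14)) = (LP (LK LD1_c16 LD2_c31 LD3_c42)) :=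
  Lgr Lrot100 (Lpr_af (f576244 IH) (Lpn (LP (LK LD1_c16 LD2_c31 LD3_c42))))
theorem f80580 : Led Lsl_gt (LP (LK LD1_c16 LD2_c31 LD3_c43)) = (LP (LK LD1_c8 LD2_c50 LD3_c35)) :=
  Lre_g IH (LK LD1_c16 LD2_c31 LD3_c43) (LK LD1_c8 LD2_c50 LD3_c35) Lrfl Lrfl
theorem f576276 : Led Lsl_ff (LP (LK LD1_c17 LD2_c15 LD3_c14)) = (LP (LK LD1_c16 LD2_c31 LD3_c43)) :=
  Lgr Lrot52 (Lpr_at (f576246 IH) (Lpe (K37.f80468 IH) (Lpe (f80580 IH) (Lpn (LP (LK LD1_c16 LD2_c31 LD3_c43))))))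
theorem f576282 : Led Lsl_ft (LP (LK LD1_c17 LD2_c15 LD3_c14)) = (LP (LK LD1_c16 LD2_c31 LD3_c43)) :=
  Lgr Lrot48 (Lpr_ff (f576276 IH) (Lpn (LP (LK LD1_c16 LD2_c31 LD3_c43))))
theorem f576284 : Led Lsl_af (LP (LK LD1_c17 LD2_c15 LD3_c15)) = (LP (LK LD1_c16 LD2_c31 LD3_c43)) :=
  Lgr Lrot45 (Lpr_ft (f576240 IH) (Lpe (f576244 IH) (Lpr_ft (f576282 IH) (Lpn (LP (LK LD1_c16 LD2_c31 LD3_c43))))))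
theorem f576288 : Led Lsl_gt (LP (LK LD1_c17 LD2_c15 LD3_c14)) = (LP (LK LD1_c9 LD2_c19 LD3_c36)) :=
  Lgr Lrot5 (Lpr_ft (f576282 IH) (Lpe (f576284 IH) (Lpe (f561100 IH) (Lpn (LP (LK LD1_c9 LD2_c19 LD3_c36))))))
theorem f56639 : Led Lsl_et (LP (LK LD1_c27 LD2_c5 LD3_c19)) = (LP (LK LD1_c17 LD2_c15 LD3_c14)) :=
  Lre_e IH (LK LD1_c27 LD2_c5 LD3_c19) (LK LD1_c17 LD2_c15 LD3_c14) Lrfl Lrfl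
theorem f56609 : Led Lsl_dt (LP (LK LD1_c4 LD2_c42 LD3_c39)) = (LP (LK LD1_c9 LD2_c19 LD3_c33)) :=
  Lre_d IH (LK LD1_c4 LD2_c42 LD3_c39) (LK LD1_c9 LD2_c19 LD3_c33) Lrfl Lrfl
theorem f56613 : Led Lsl_et (LP (LK LD1_c11 LD2_c23 LD3_c19)) = (LP (LK LD1_c5 LD2_c46 LD3_c33)) :=
  Lre_e IH (LK LD1_c11 LD2_c23 LD3_c19) (LK LD1_c5 LD2_c46 LD3_c33) Lrfl Lrfl
theorem f56614 : Led Lsl_df (LP (LK LD1_c17 LD2_c15 LD3_c14)) = (LP (LK LD1_c11 LD2_c23 LD3_c19)) :=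
  Lgr Lrot132 (Lpe (f56610 IH) (Lpe (f56609 IH) (Lpe (K11.f56608 IH) (Lpe (K11.f56607 IH) (Lpr_dt (K1.f36312 IH) (Lpr_gf (K1.f56591 IH) (Lpe (K1.f56593 IH) (Lpr_et (K8.f56611 IH) (Lpe (f56612 IH) (Lpe (f56613 IH) (Lpn (LP (LK LD1_c11 LD2_c23 LD3_c19)))))))))))))
theorem f56626 : Led Lsl_et (LP (LK LD1_c17 LD2_c15 LD3_c14)) = (LP (LK LD1_c27 LD2_c5 LD3_c19)) :=
  Lre_e IH (LK LD1_c17 LD2_c15 LD3_c14) (LK LD1_c27 LD2_c5 LD3_c19) Lrfl Lrfl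
theorem f56627 : Led Lsl_et (LP (LK LD1_c5 LD2_c46 LD3_c33)) = (LP (LK LD1_c11 LD2_c23 LD3_c19)) :=
  Lre_e IH (LK LD1_c5 LD2_c46 LD3_c33) (LK LD1_c11 LD2_c23 LD3_c19) Lrfl Lrfl
theorem f56628 : Led Lsl_dt (LP (LK LD1_c11 LD2_c23 LD3_c18)) = (LP (LK LD1_c5 LD2_c46 LD3_c33)) :=
  Lre_d IH (LK LD1_c11 LD2_c23 LD3_c18) (LK LD1_c5 LD2_c46 LD3_c33) Lrfl Lrfl
theorem f56629 : Led Lsl_et (LP (LK LD1_c20 LD2_c20 LD3_c60)) = (LP (LK LD1_c11 LD2_c23 LD3_c18)) :=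
  Lre_e IH (LK LD1_c20 LD2_c20 LD3_c60) (LK LD1_c11 LD2_c23 LD3_c18) Lrfl Lrfl
theorem f56630 : Led Lsl_dt (LP (LK LD1_c27 LD2_c5 LD3_c19)) = (LP (LK LD1_c20 LD2_c20 LD3_c60)) :=
  Lgr Lrot77 (Lpe (f56626 IH) (Lpr_df (f56614 IH) (Lpe (f56627 IH) (Lpe (f56628 IH) (Lpe (f56629 IH) (Lpn (LP (LK LD1_c20 LD2_c20 LD3_c60))))))))
theorem f255512 : Led Lsl_et (LP (LK LD1_c9 LD2_c19 LD3_c41)) = (LP (LK LD1_c4 LD2_c42 LD3_c43)) :=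
  Lre_e IH (LK LD1_c9 LD2_c19 LD3_c41) (LK LD1_c4 LD2_c42 LD3_c43) Lrfl Lrfl
theorem f255513 : Led Lsl_dt (LP (LK LD1_c9 LD2_c19 LD3_c41)) = (LP (LK LD1_c17 LD2_c15 LD3_c28)) :=
  Lre_d IH (LK LD1_c9 LD2_c19 LD3_c41) (LK LD1_c17 LD2_c15 LD3_c28) Lrfl Lrfl
theorem f576290 : Led Lsl_gf (LP (LK LD1_c20 LD2_c20 LD3_c60)) = (LP (LK LD1_c17 LD2_c15 LD3_c28)) :=
  Lgr Lrot145 (Lpe (f56630 IH) (Lpr_et (f56639 IH) (Lpr_gt (f576288 IH) (Lpr_dt (K32.f201982 IH) (Lpr_gt (K32.f201975 IH) (Lpe (K32.f59316 IH) (Lpr_et (K32.f204975 IH) (Lpr_gt (K32.f56618 IH) (Lpe (f255512 IH) (Lpr_dt (f255513 IH) (Lpn (LP (LK LD1_c17 LD2_c15 LD3_c28)))))))))))))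
theorem f56637 : Led Lsl_df (LP (LK LD1_c27 LD2_c5 LD3_c19)) = (LP (LK LD1_c20 LD2_c20 LD3_c60)) :=
  Lgr Lrot38 (Lpr_dt (f56630 IH) (Lpn (LP (LK LD1_c20 LD2_c20 LD3_c60))))
theorem f255520 : Led Lsl_dt (LP (LK LD1_c17 LD2_c15 LD3_c28)) = (LP (LK LD1_c9 LD2_c19 LD3_c41)) :=
  Lre_d IH (LK LD1_c17 LD2_c15 LD3_c28) (LK LD1_c9 LD2_c19 LD3_c41) Lrfl Lrfl
theorem f552096 : Led Lsl_et (LP (LK LD1_c11 LD2_c13 LD3_c26)) = (LP (LK LD1_c17 LD2_c15 LD3_c28)) :=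
  Lgr Lrot71 (Lpe (K39.f552082 IH) (Lpr_ef (K39.f552092 IH) (Lpq (K39.f537824 IH) (Lpqs (K39.f537824 IH) (Lpe (K32.f503176 IH) (Lpe (f255512 IH) (Lpe (f255520 IH) (Lpn (LP (LK LD1_c17 LD2_c15 LD3_c28))))))))))
theorem f552091 : Led Lsl_dt (LP (LK LD1_c11 LD2_c13 LD3_c26)) = (LP (LK LD1_c5 LD2_c41 LD3_c38)) :=
  Lre_d IH (LK LD1_c11 LD2_c13 LD3_c26) (LK LD1_c5 LD2_c41 LD3_c38) Lrfl Lrfl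
theorem f270165 : Led Lsl_et (LP (LK LD1_c5 LD2_c46 LD3_c40)) = (LP (LK LD1_c11 LD2_c23 LD3_c31)) :=
  Lre_e IH (LK LD1_c5 LD2_c46 LD3_c40) (LK LD1_c11 LD2_c23 LD3_c31) Lrfl Lrfl
theorem f411489 : Led Lsl_gt (LP (LK LD1_c20 LD2_c21 LD3_c18)) = (LP (LK LD1_c11 LD2_c23 LD3_c31)) :=
  Lre_g IH (LK LD1_c20 LD2_c21 LD3_c18) (LK LD1_c11 LD2_c23 LD3_c31) Lrfl Lrfl
theorem f411490 : Led Lsl_et (LP (LK LD1_c29 LD2_c25 LD3_c8)) = (LP (LK LD1_c20 LD2_c21 LD3_c18)) :=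
  Lre_e IH (LK LD1_c29 LD2_c25 LD3_c8) (LK LD1_c20 LD2_c21 LD3_c18) Lrfl Lrfl
theorem f425465 : Led Lsl_at (LP (LK LD1_c3 LD2_c36 LD3_c61)) = (LP (LK LD1_c1 LD2_c45 LD3_c21)) :=
  Lre_a IH (LK LD1_c3 LD2_c36 LD3_c61) (LK LD1_c1 LD2_c45 LD3_c21) Lrfl Lrfl
theorem f519707 : Led Lsl_gt (LP (LK LD1_c3 LD2_c33 LD3_c36)) = K36.v2432 :=
  Lgr Lrot5 (Lpe (K29.f425471 IH) (Lpr_at (f425465 IH) (Lpr_gf (K36.f519706 IH) (Lpn K36.v2432))))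
theorem f519746 : Led Lsl_dt (LP (LK LD1_c1 LD2_c46 LD3_c13)) = K37.v2437 :=
  Lgr Lrot60 (Lpe (K28.f208951 IH) (Lpr_df (K36.f514960 IH) (Lpr_ff (K37.f519745 IH) (Lpn K37.v2437))))
theorem f470242 : Led Lsl_et (LP (LK LD1_c13 LD2_c47 LD3_c19)) = (LP (LK LD1_c7 LD2_c17 LD3_c17)) :=
  Lre_e IH (LK LD1_c13 LD2_c47 LD3_c19) (LK LD1_c7 LD2_c17 LD3_c17) Lrfl Lrfl
theorem f547026 : Led Lsl_dt (LP (LK LD1_c13 LD2_c47 LD3_c19)) = (LP (LK LD1_c20 LD2_c21 LD3_c18)) :=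
  Lgr Lrot136 (Lpr_et (f470242 IH) (Lpe (K35.f439550 IH) (Lpe (K29.f208957 IH) (Lpr_dt (f519746 IH) (Lpqs (K37.f540392 IH) (Lpe (K12.f38059 IH) (Lpe (K36.f38052 IH) (Lpq (K37.f543004 IH) (Lpe (f519707 IH) (Lpe (K28.f108128 IH) (Lpr_dt (K38.f547016 IH) (Lpe (f411489 IH) (Lpn (LP (LK LD1_c20 LD2_c21 LD3_c18)))))))))))))))
theorem f470251 : Led Lsl_et (LP (LK LD1_c7 LD2_c17 LD3_c17)) = (LP (LK LD1_c13 LD2_c47 LD3_c19)) :=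
  Lre_e IH (LK LD1_c7 LD2_c17 LD3_c17) (LK LD1_c13 LD2_c47 LD3_c19) Lrfl Lrfl
theorem f470240 : Led Lsl_dt (LP (LK LD1_c13 LD2_c47 LD3_c18)) = (LP (LK LD1_c7 LD2_c17 LD3_c17)) :=
  Lre_d IH (LK LD1_c13 LD2_c47 LD3_c18) (LK LD1_c7 LD2_c17 LD3_c17) Lrfl Lrfl
theorem f543292 : Led Lsl_et (LP (LK LD1_c23 LD2_c14 LD3_c51)) = (LP (LK LD1_c13 LD2_c47 LD3_c18)) :=
  Lre_e IH (LK LD1_c23 LD2_c14 LD3_c51) (LK LD1_c13 LD2_c47 LD3_c18) Lrfl Lrfl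
theorem f547031 : Led Lsl_et (LP (LK LD1_c20 LD2_c21 LD3_c18)) = (LP (LK LD1_c29 LD2_c25 LD3_c8)) :=
  Lre_e IH (LK LD1_c20 LD2_c21 LD3_c18) (LK LD1_c29 LD2_c25 LD3_c8) Lrfl Lrfl
theorem f547032 : Led Lsl_df (LP (LK LD1_c23 LD2_c14 LD3_c51)) = (LP (LK LD1_c29 LD2_c25 LD3_c8)) :=
  Lgr Lrot70 (Lpr_et (f543292 IH) (Lpr_dt (f470240 IH) (Lpr_et (f470251 IH) (Lpr_dt (f547026 IH) (Lpr_et (f547031 IH) (Lpn (LP (LK LD1_c29 LD2_c25 LD3_c8))))))))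
theorem f576294 : Led Lsl_gt (LP (LK LD1_c27 LD2_c5 LD3_c19)) = (LP (LK LD1_c23 LD2_c14 LD3_c51)) :=
  Lgr Lrot139 (Lpr_df (f56637 IH) (Lpr_gf (f576290 IH) (Lpe (f552096 IH) (Lpr_dt (f552091 IH) (Lpr_gf (K39.f552076 IH) (Lpe (K38.f270163 IH) (Lpr_et (f270165 IH) (Lpe (f411489 IH) (Lpe (f411490 IH) (Lpe (f547032 IH) (Lpn (LP (LK LD1_c23 LD2_c14 LD3_c51)))))))))))))
theorem f56624 : Led Lsl_dt (LP (LK LD1_c17 LD2_c15 LD3_c14)) = (LP (LK LD1_c11 LD2_c23 LD3_c19)) :=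
  Lgr Lrot42 (Lpr_df (f56614 IH) (Lpn (LP (LK LD1_c11 LD2_c23 LD3_c19))))
theorem f547037 : Led Lsl_et (LP (LK LD1_c13 LD2_c47 LD3_c18)) = (LP (LK LD1_c23 LD2_c14 LD3_c51)) :=
  Lre_e IH (LK LD1_c13 LD2_c47 LD3_c18) (LK LD1_c23 LD2_c14 LD3_c51) Lrfl Lrfl
theorem f201585 : Led Lsl_et (LP (LK LD1_c4 LD2_c20 LD3_c6)) = (LP (LK LD1_c8 LD2_c38 LD3_c9)) :=
  Lre_e IH (LK LD1_c4 LD2_c20 LD3_c6) (LK LD1_c8 LD2_c38 LD3_c9) Lrfl Lrfl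
theorem f205347 : Led Lsl_df (LP (LK LD1_c8 LD2_c46 LD3_c38)) = (LP (LK LD1_c5 LD2_c13 LD3_c1)) :=
  Lgr Lrot38 (Lpr_dt (K32.f205343 IH) (Lpn (LP (LK LD1_c5 LD2_c13 LD3_c1))))
theorem f205328 : Led Lsl_gt (LP (LK LD1_c16 LD2_c25 LD3_c17)) = (LP (LK LD1_c8 LD2_c46 LD3_c38)) :=
  Lre_g IH (LK LD1_c16 LD2_c25 LD3_c17) (LK LD1_c8 LD2_c46 LD3_c38) Lrfl Lrfl
theorem f567313 : Led Lsl_df (LP (LK LD1_c16 LD2_c25 LD3_c17)) = (LP (LK LD1_c23 LD2_c14 LD3_c11)) :=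
  Lgr Lrot170 (Lpr_gt (f205328 IH) (Lpr_df (f205347 IH) (Lpr_et (K32.f205342 IH) (Lpe (K13.f231461 IH) (Lpr_dt (K11.f201422 IH) (Lpe (K11.f201578 IH) (Lpe (K14.f201576 IH) (Lpr_et (f201585 IH) (Lpr_gt (f567309 IH) (Lpe (K37.f526794 IH) (Lpn (LP (LK LD1_c23 LD2_c14 LD3_c11)))))))))))))
theorem f255536 : Led Lsl_dt (LP (LK LD1_c8 LD2_c47 LD3_c51)) = (LP (LK LD1_c4 LD2_c25 LD3_c7)) :=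
  Lre_d IH (LK LD1_c8 LD2_c47 LD3_c51) (LK LD1_c4 LD2_c25 LD3_c7) Lrfl Lrfl
theorem f255535 : Led Lsl_et (LP (LK LD1_c8 LD2_c47 LD3_c51)) = (LP (LK LD1_c16 LD2_c27 LD3_c50)) :=
  Lre_e IH (LK LD1_c8 LD2_c47 LD3_c51) (LK LD1_c16 LD2_c27 LD3_c50) Lrfl Lrfl
theorem f567321 : Led Lsl_gt (LP (LK LD1_c16 LD2_c27 LD3_c50)) = (LP (LK LD1_c23 LD2_c14 LD3_c11)) :=
  Lgr Lrot137 (Lpe (f255535 IH) (Lpr_dt (f255536 IH) (Lpe (K4.f72225 IH) (Lpe (K37.f70775 IH) (Lpr_et (K37.f201413 IH) (Lpr_gf (K13.f231461 IH) (Lpe (K32.f205342 IH) (Lpe (f205347 IH) (Lpe (f205328 IH) (Lpr_df (f567313 IH) (Lpn (LP (LK LD1_c23 LD2_c14 LD3_c11)))))))))))))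
theorem f205357 : Led Lsl_gt (LP (LK LD1_c8 LD2_c46 LD3_c38)) = (LP (LK LD1_c16 LD2_c25 LD3_c16)) :=
  Lre_g IH (LK LD1_c8 LD2_c46 LD3_c38) (LK LD1_c16 LD2_c25 LD3_c16) Lrfl Lrfl
theorem f205374 : Led Lsl_dt (LP (LK LD1_c16 LD2_c25 LD3_c16)) = (LP (LK LD1_c26 LD2_c22 LD3_c51)) :=
  Lre_d IH (LK LD1_c16 LD2_c25 LD3_c16) (LK LD1_c26 LD2_c22 LD3_c51) Lrfl Lrfl
theorem f80907 : Led Lsl_et (LP (LK LD1_c16 LD2_c31 LD3_c55)) = (LP (LK LD1_c8 LD2_c50 LD3_c41)) :=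
  Lre_e IH (LK LD1_c16 LD2_c31 LD3_c55) (LK LD1_c8 LD2_c50 LD3_c41) Lrfl Lrfl
theorem f80908 : Led Lsl_dt (LP (LK LD1_c16 LD2_c31 LD3_c55)) = (LP (LK LD1_c16 LD2_c27 LD3_c50)) :=
  Lre_d IH (LK LD1_c16 LD2_c31 LD3_c55) (LK LD1_c16 LD2_c27 LD3_c50) Lrfl Lrfl
theorem f255530 : Led Lsl_gt (LP (LK LD1_c26 LD2_c22 LD3_c51)) = (LP (LK LD1_c16 LD2_c27 LD3_c50)) :=
  Lgr Lrot139 (Lpe (f205374 IH) (Lpe (f205357 IH) (Lpe (K32.f205327 IH) (Lpr_dt (K32.f205322 IH) (Lpr_gf (K14.f255526 IH) (Lpe (K14.f80707 IH) (Lpr_et (K37.f80454 IH) (Lpe (K4.f80906 IH) (Lpe (f80907 IH) (Lpr_dt (f80908 IH) (Lpn (LP (LK LD1_c16 LD2_c27 LD3_c50)))))))))))))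
theorem f567327 : Led Lsl_ft (LP (LK LD1_c26 LD2_c22 LD3_c51)) = (LP (LK LD1_c18 LD2_c23 LD3_c6)) :=
  Lgr Lrot2 (Lpr_gt (f255530 IH) (Lpr_gt (f567321 IH) (Lpe (K37.f543223 IH) (Lpn (LP (LK LD1_c18 LD2_c23 LD3_c6))))))
theorem f567335 : Led Lsl_ff (LP (LK LD1_c26 LD2_c22 LD3_c51)) = (LP (LK LD1_c18 LD2_c23 LD3_c6)) :=
  Lgr Lrot3 (Lpr_ft (f567327 IH) (Lpn (LP (LK LD1_c18 LD2_c23 LD3_c6))))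
theorem f205379 : Led Lsl_dt (LP (LK LD1_c26 LD2_c22 LD3_c51)) = (LP (LK LD1_c16 LD2_c25 LD3_c16)) :=
  Lre_d IH (LK LD1_c26 LD2_c22 LD3_c51) (LK LD1_c16 LD2_c25 LD3_c16) Lrfl Lrfl
theorem f567339 : Led Lsl_ft (LP (LK LD1_c16 LD2_c25 LD3_c16)) = (LP (LK LD1_c12 LD2_c23 LD3_c7)) :=
  Lgr Lrot54 (Lpe (f205379 IH) (Lpr_ff (f567335 IH) (Lpe (K39.f204977 IH) (Lpn (LP (LK LD1_c12 LD2_c23 LD3_c7))))))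
theorem f303827 : Led Lsl_gt (LP (LK LD1_c16 LD2_c25 LD3_c16)) = (LP (LK LD1_c12 LD2_c23 LD3_c8)) :=
  Lgr Lrot46 (Lpe (f205357 IH) (Lpr_ft (K36.f205353 IH) (Lpr_at (K32.f303820 IH) (Lpn (LP (LK LD1_c12 LD2_c23 LD3_c8))))))
theorem f303831 : Led Lsl_gf (LP (LK LD1_c16 LD2_c25 LD3_c17)) = (LP (LK LD1_c12 LD2_c23 LD3_c8)) :=
  Lgr Lrot47 (Lpr_gt (f205328 IH) (Lpr_af (K36.f303825 IH) (Lpe (K32.f36360 IH) (Lpn (LP (LK LD1_c12 LD2_c23 LD3_c8))))))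
theorem f567354 : Led Lsl_af (LP (LK LD1_c16 LD2_c25 LD3_c17)) = (LP (LK LD1_c12 LD2_c23 LD3_c7)) :=
  Lgr Lrot31 (Lpr_gf (f303831 IH) (Lpe (f303827 IH) (Lpr_ft (f567339 IH) (Lpn (LP (LK LD1_c12 LD2_c23 LD3_c7))))))
theorem f456607 : Led Lsl_dt (LP (LK LD1_c7 LD2_c8 LD3_c53)) = (LP (LK LD1_c3 LD2_c33 LD3_c56)) :=
  Lre_d IH (LK LD1_c7 LD2_c8 LD3_c53) (LK LD1_c3 LD2_c33 LD3_c56) Lrfl Lrfl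
theorem f446500 : Led Lsl_gt (LP (LK LD1_c7 LD2_c4 LD3_c23)) = (LP (LK LD1_c13 LD2_c24 LD3_c30)) :=
  Lre_g IH (LK LD1_c7 LD2_c4 LD3_c23) (LK LD1_c13 LD2_c24 LD3_c30) Lrfl Lrfl
theorem f464328 : Led Lsl_dt (LP (LK LD1_c7 LD2_c6 LD3_c38)) = (LP (LK LD1_c13 LD2_c24 LD3_c30)) :=
  Lgr Lrot56 (Lpr_et (K35.f10808 IH) (Lpr_gt (K28.f10645 IH) (Lpe (K3.f10493 IH) (Lpr_dt (K3.f10235 IH) (Lpr_gt (K3.f97186 IH) (Lpr_df (K3.f97196 IH) (Lpr_et (K29.f97201 IH) (Lpr_gt (K28.f464322 IH) (Lpr_dt (K33.f446499 IH) (Lpr_gt (f446500 IH) (Lpn (LP (LK LD1_c13 LD2_c24 LD3_c30)))))))))))))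
theorem f524541 : Led Lsl_af (LP (LK LD1_c7 LD2_c8 LD3_c53)) = (LP (LK LD1_c13 LD2_c24 LD3_c30)) :=
  Lgr Lrot117 (Lpr_dt (f456607 IH) (Lpr_at (K35.f524536 IH) (Lpr_dt (f464328 IH) (Lpn (LP (LK LD1_c13 LD2_c24 LD3_c30))))))
theorem f526888 : Led Lsl_at (LP (LK LD1_c7 LD2_c8 LD3_c53)) = (LP (LK LD1_c13 LD2_c24 LD3_c30)) :=
  Lgr Lrot100 (Lpr_af (f524541 IH) (Lpn (LP (LK LD1_c13 LD2_c24 LD3_c30))))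
theorem f18960 : Led Lsl_gt (LP (LK LD1_c13 LD2_c24 LD3_c31)) = (LP (LK LD1_c7 LD2_c4 LD3_c23)) :=
  Lre_g IH (LK LD1_c13 LD2_c24 LD3_c31) (LK LD1_c7 LD2_c4 LD3_c23) Lrfl Lrfl
theorem f526893 : Led Lsl_ff (LP (LK LD1_c7 LD2_c8 LD3_c53)) = (LP (LK LD1_c13 LD2_c24 LD3_c31)) :=
  Lgr Lrot52 (Lpr_at (f526888 IH) (Lpe (f446500 IH) (Lpe (f18960 IH) (Lpn (LP (LK LD1_c13 LD2_c24 LD3_c31))))))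
theorem f526890 : Led Lsl_bt (LP (LK LD1_c7 LD2_c8 LD3_c53)) = (LP (LK LD1_c13 LD2_c32 LD3_c9)) :=
  Lre_b IH (LK LD1_c7 LD2_c8 LD3_c53) (LK LD1_c13 LD2_c32 LD3_c9) Lrfl Lrfl
theorem f18961 : Led Lsl_bt (LP (LK LD1_c22 LD2_c42 LD3_c41)) = (LP (LK LD1_c13 LD2_c24 LD3_c31)) :=
  Lre_b IH (LK LD1_c22 LD2_c42 LD3_c41) (LK LD1_c13 LD2_c24 LD3_c31) Lrfl Lrfl
theorem f526895 : Led Lsl_ft (LP (LK LD1_c13 LD2_c32 LD3_c9)) = (LP (LK LD1_c22 LD2_c42 LD3_c41)) :=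
  Lgr Lrot75 (Lpe (f526890 IH) (Lpr_ff (f526893 IH) (Lpe (f18961 IH) (Lpn (LP (LK LD1_c22 LD2_c42 LD3_c41))))))
theorem f554169 : Led Lsl_at (LP (LK LD1_c22 LD2_c42 LD3_c41)) = (LP (LK LD1_c21 LD2_c30 LD3_c6)) :=
  Lgr Lrot66 (Lpe (f526895 IH) (Lpe (K39.f526892 IH) (Lpr_ff (K39.f554167 IH) (Lpn (LP (LK LD1_c21 LD2_c30 LD3_c6))))))
theorem f567356 : Led Lsl_et (LP (LK LD1_c16 LD2_c25 LD3_c17)) = (LP (LK LD1_c22 LD2_c42 LD3_c41)) :=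
  Lgr Lrot123 (Lpr_af (f567354 IH) (Lpe (K39.f36374 IH) (Lpe (f554169 IH) (Lpn (LP (LK LD1_c22 LD2_c42 LD3_c41))))))
theorem f567317 : Led Lsl_dt (LP (LK LD1_c16 LD2_c25 LD3_c17)) = (LP (LK LD1_c23 LD2_c14 LD3_c11)) :=
  Lgr Lrot42 (Lpr_df (f567313 IH) (Lpn (LP (LK LD1_c23 LD2_c14 LD3_c11))))
theorem f210901 : Led Lsl_et (LP (LK LD1_c17 LD2_c15 LD3_c25)) = (LP (LK LD1_c9 LD2_c19 LD3_c40)) :=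
  Lre_e IH (LK LD1_c17 LD2_c15 LD3_c25) (LK LD1_c9 LD2_c19 LD3_c40) Lrfl Lrfl
theorem f210898 : Led Lsl_df (LP (LK LD1_c12 LD2_c8 LD3_c18)) = (LP (LK LD1_c17 LD2_c15 LD3_c25)) :=
  Lgr Lrot38 (Lpr_dt (K42.f210890 IH) (Lpn (LP (LK LD1_c17 LD2_c15 LD3_c25))))
theorem f38066 : Led Lsl_dt (LP (LK LD1_c8 LD2_c48 LD3_c32)) = (LP (LK LD1_c4 LD2_c25 LD3_c30)) :=
  Lre_d IH (LK LD1_c8 LD2_c48 LD3_c32) (LK LD1_c4 LD2_c25 LD3_c30) Lrfl Lrfl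
theorem f38067 : Led Lsl_et (LP (LK LD1_c8 LD2_c48 LD3_c32)) = (LP (LK LD1_c16 LD2_c28 LD3_c50)) :=
  Lre_e IH (LK LD1_c8 LD2_c48 LD3_c32) (LK LD1_c16 LD2_c28 LD3_c50) Lrfl Lrfl
theorem f543281 : Led Lsl_gt (LP (LK LD1_c16 LD2_c28 LD3_c50)) = (LP (LK LD1_c13 LD2_c32 LD3_c0)) :=
  Lgr Lrot131 (Lpe (f38067 IH) (Lpr_dt (f38066 IH) (Lpe (K37.f38065 IH) (Lpe (K37.f38064 IH) (Lpe (K11.f38452 IH) (Lpe (K40.f38457 IH) (Lpr_dt (K40.f69495 IH) (Lpe (K40.f227400 IH) (Lpe (K40.f227399 IH) (Lpr_et (K40.f543275 IH) (Lpn (LP (LK LD1_c13 LD2_c32 LD3_c0)))))))))))))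
theorem f38062 : Led Lsl_et (LP (LK LD1_c8 LD2_c48 LD3_c43)) = (LP (LK LD1_c4 LD2_c25 LD3_c35)) :=
  Lre_e IH (LK LD1_c8 LD2_c48 LD3_c43) (LK LD1_c4 LD2_c25 LD3_c35) Lrfl Lrfl
theorem f543283 : Led Lsl_gf (LP (LK LD1_c6 LD2_c14 LD3_c59)) = (LP (LK LD1_c7 LD2_c8 LD3_c45)) :=
  Lgr Lrot134 (Lpe (K36.f38054 IH) (Lpr_et (f38062 IH) (Lpr_gt (K12.f38035 IH) (Lpe (K37.f38063 IH) (Lpr_dt (K37.f38064 IH) (Lpr_gt (K37.f38065 IH) (Lpe (f38066 IH) (Lpr_et (f38067 IH) (Lpr_gt (f543281 IH) (Lpr_dt (K35.f524068 IH) (Lpn (LP (LK LD1_c7 LD2_c8 LD3_c45)))))))))))))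
theorem f439551 : Led Lsl_dt (LP (LK LD1_c7 LD2_c17 LD3_c17)) = (LP (LK LD1_c13 LD2_c47 LD3_c18)) :=
  Lre_d IH (LK LD1_c7 LD2_c17 LD3_c17) (LK LD1_c13 LD2_c47 LD3_c18) Lrfl Lrfl
theorem f543285 : Led Lsl_gt (LP (LK LD1_c13 LD2_c47 LD3_c18)) = (LP (LK LD1_c22 LD2_c53 LD3_c49)) :=
  Lgr Lrot139 (Lpe (f439551 IH) (Lpe (K35.f439550 IH) (Lpe (K29.f208957 IH) (Lpr_dt (f519746 IH) (Lpqs (K37.f540392 IH) (Lpe (K12.f38059 IH) (Lpe (K36.f38052 IH) (Lpr_et (K37.f38068 IH) (Lpr_gf (f543283 IH) (Lpe (K40.f524917 IH) (Lpr_dt (K39.f535507 IH) (Lpn (LP (LK LD1_c22 LD2_c53 LD3_c49))))))))))))))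
theorem f526891 : Led Lsl_at (LP (LK LD1_c13 LD2_c32 LD3_c9)) = (LP (LK LD1_c22 LD2_c53 LD3_c49)) :=
  Lre_a IH (LK LD1_c13 LD2_c32 LD3_c9) (LK LD1_c22 LD2_c53 LD3_c49) Lrfl Lrfl
theorem f526899 : Led Lsl_ft (LP (LK LD1_c7 LD2_c8 LD3_c53)) = (LP (LK LD1_c13 LD2_c24 LD3_c31)) :=
  Lgr Lrot48 (Lpr_ff (f526893 IH) (Lpn (LP (LK LD1_c13 LD2_c24 LD3_c31))))
theorem f465706 : Led Lsl_bt (LP (LK LD1_c13 LD2_c32 LD3_c9)) = (LP (LK LD1_c7 LD2_c8 LD3_c53)) :=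
  Lre_b IH (LK LD1_c13 LD2_c32 LD3_c9) (LK LD1_c7 LD2_c8 LD3_c53) Lrfl Lrfl
theorem f526901 : Led Lsl_bt (LP (LK LD1_c13 LD2_c24 LD3_c31)) = (LP (LK LD1_c22 LD2_c42 LD3_c41)) :=
  Lre_b IH (LK LD1_c13 LD2_c24 LD3_c31) (LK LD1_c22 LD2_c42 LD3_c41) Lrfl Lrfl
theorem f526902 : Led Lsl_ff (LP (LK LD1_c13 LD2_c32 LD3_c9)) = (LP (LK LD1_c22 LD2_c42 LD3_c41)) :=
  Lgr Lrot25 (Lpr_bt (f465706 IH) (Lpr_ft (f526899 IH) (Lpr_bt (f526901 IH) (Lpn (LP (LK LD1_c22 LD2_c42 LD3_c41))))))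
theorem f543287 : Led Lsl_gf (LP (LK LD1_c13 LD2_c47 LD3_c18)) = (LP (LK LD1_c22 LD2_c42 LD3_c41)) :=
  Lgr Lrot47 (Lpr_gt (f543285 IH) (Lpe (f526891 IH) (Lpr_ff (f526902 IH) (Lpn (LP (LK LD1_c22 LD2_c42 LD3_c41))))))
theorem f567369 : Led Lsl_gf (LP (LK LD1_c12 LD2_c8 LD3_c18)) = (LP (LK LD1_c7 LD2_c17 LD3_c17)) :=
  Lgr Lrot134 (Lpr_df (f210898 IH) (Lpr_et (f210901 IH) (Lpr_gt (K37.f420662 IH) (Lpe (f80907 IH) (Lpr_dt (f80908 IH) (Lpr_gt (f567321 IH) (Lpe (f567317 IH) (Lpr_et (f567356 IH) (Lpe (f543287 IH) (Lpr_dt (f470240 IH) (Lpn (LP (LK LD1_c7 LD2_c17 LD3_c17)))))))))))))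
theorem f420664 : Led Lsl_dt (LP (LK LD1_c8 LD2_c50 LD3_c41)) = (LP (LK LD1_c8 LD2_c47 LD3_c52)) :=
  Lre_d IH (LK LD1_c8 LD2_c50 LD3_c41) (LK LD1_c8 LD2_c47 LD3_c52) Lrfl Lrfl
theorem f576298 : Led Lsl_gf (LP (LK LD1_c11 LD2_c23 LD3_c19)) = (LP (LK LD1_c8 LD2_c47 LD3_c52)) :=
  Lgr Lrot134 (Lpe (f56624 IH) (Lpr_et (f56626 IH) (Lpr_gt (f576294 IH) (Lpe (f547037 IH) (Lpr_dt (f470240 IH) (Lpe (f567369 IH) (Lpr_df (f210898 IH) (Lpr_et (f210901 IH) (Lpr_gt (K37.f420662 IH) (Lpr_dt (f420664 IH) (Lpn (LP (LK LD1_c8 LD2_c47 LD3_c52)))))))))))))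
theorem f576248 : Led Lsl_at (LP (LK LD1_c11 LD2_c23 LD3_c19)) = (LP (LK LD1_c12 LD2_c7 LD3_c8)) :=
  Lgr Lrot51 (Lpe (f56624 IH) (Lpr_af (f576244 IH) (Lpr_df (K37.f80557 IH) (Lpn (LP (LK LD1_c12 LD2_c7 LD3_c8))))))
theorem f56632 : Led Lsl_ft (LP (LK LD1_c20 LD2_c20 LD3_c61)) = (LP (LK LD1_c11 LD2_c23 LD3_c19)) :=
  Lre_f IH (LK LD1_c20 LD2_c20 LD3_c61) (LK LD1_c11 LD2_c23 LD3_c19) Lrfl Lrfl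
theorem f576268 : Led Lsl_af (LP (LK LD1_c20 LD2_c20 LD3_c61)) = (LP (LK LD1_c16 LD2_c23 LD3_c14)) :=
  Lgr Lrot45 (Lpr_ft (f56632 IH) (Lpr_at (f576248 IH) (Lpe (f576238 IH) (Lpn (LP (LK LD1_c16 LD2_c23 LD3_c14))))))
theorem f576270 : Led Lsl_at (LP (LK LD1_c20 LD2_c20 LD3_c61)) = (LP (LK LD1_c16 LD2_c23 LD3_c14)) :=
  Lgr Lrot100 (Lpr_af (f576268 IH) (Lpn (LP (LK LD1_c16 LD2_c23 LD3_c14))))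
theorem f56633 : Led Lsl_ft (LP (LK LD1_c11 LD2_c23 LD3_c19)) = (LP (LK LD1_c20 LD2_c20 LD3_c61)) :=
  Lre_f IH (LK LD1_c11 LD2_c23 LD3_c19) (LK LD1_c20 LD2_c20 LD3_c61) Lrfl Lrfl
theorem f75736 : Led Lsl_dt (LP (LK LD1_c12 LD2_c6 LD3_c21)) = (LP (LK LD1_c6 LD2_c13 LD3_c52)) :=
  Lre_d IH (LK LD1_c12 LD2_c6 LD3_c21) (LK LD1_c6 LD2_c13 LD3_c52) Lrfl Lrfl
theorem f456641 : Led Lsl_at (LP (LK LD1_c3 LD2_c55 LD3_c23)) = (LP (LK LD1_c7 LD2_c52 LD3_c37)) :=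
  Lre_a IH (LK LD1_c3 LD2_c55 LD3_c23) (LK LD1_c7 LD2_c52 LD3_c37) Lrfl Lrfl
theorem f560532 : Led Lsl_gt (LP (LK LD1_c7 LD2_c20 LD3_c18)) = (LP (LK LD1_c7 LD2_c52 LD3_c37)) :=
  Lgr Lrot46 (Lpr_gf (K40.f560527 IH) (Lpe (K35.f528218 IH) (Lpr_at (f456641 IH) (Lpn (LP (LK LD1_c7 LD2_c52 LD3_c37))))))
theorem f554315 : Led Lsl_gt (LP (LK LD1_c3 LD2_c43 LD3_c36)) = (LP (LK LD1_c4 LD2_c0 LD3_c9)) :=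
  Lgr Lrot180 (Lpe (K42.f552156 IH) (Lpr_gt (K32.f56618 IH) (Lpr_dt (K32.f503176 IH) (Lpe (K32.f503175 IH) (Lpr_dt (K32.f407953 IH) (Lpr_ct (K39.f554307 IH) (Lpe (K28.f108127 IH) (Lpr_gf (K8.f159505 IH) (Lpr_df (K37.f36498 IH) (Lpn (LP (LK LD1_c4 LD2_c0 LD3_c9))))))))))))
theorem f489717 : Led Lsl_et (LP (LK LD1_c14 LD2_c5 LD3_c21)) = (LP (LK LD1_c7 LD2_c27 LD3_c48)) :=
  Lre_e IH (LK LD1_c14 LD2_c5 LD3_c21) (LK LD1_c7 LD2_c27 LD3_c48) Lrfl Lrfl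
theorem f487895 : Led Lsl_gt (LP (LK LD1_c23 LD2_c8 LD3_c35)) = (LP (LK LD1_c13 LD2_c42 LD3_c38)) :=
  Lre_g IH (LK LD1_c23 LD2_c8 LD3_c35) (LK LD1_c13 LD2_c42 LD3_c38) Lrfl Lrfl
theorem f528269 : Led Lsl_gt (LP (LK LD1_c14 LD2_c51 LD3_c31)) = (LP (LK LD1_c23 LD2_c8 LD3_c35)) :=
  Lgr Lrot5 (Lpr_ft (K40.f528261 IH) (Lpr_at (K40.f487907 IH) (Lpe (f487895 IH) (Lpn (LP (LK LD1_c23 LD2_c8 LD3_c35))))))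
theorem f560534 : Led Lsl_dt (LP (LK LD1_c14 LD2_c5 LD3_c21)) = (LP (LK LD1_c23 LD2_c8 LD3_c35)) :=
  Lgr Lrot56 (Lpr_et (f489717 IH) (Lpr_gt (K39.f439581 IH) (Lpe (K34.f208939 IH) (Lpr_dt (K39.f208936 IH) (Lpr_gt (f554315 IH) (Lpe (K37.f36495 IH) (Lpr_et (K40.f36504 IH) (Lpr_gt (f560532 IH) (Lpr_dt (K40.f528266 IH) (Lpr_gt (f528269 IH) (Lpn (LP (LK LD1_c23 LD2_c8 LD3_c35)))))))))))))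
theorem f469317 : Led Lsl_gt (LP (LK LD1_c14 LD2_c5 LD3_c12)) = (LP (LK LD1_c7 LD2_c27 LD3_c48)) :=
  Lre_g IH (LK LD1_c14 LD2_c5 LD3_c12) (LK LD1_c7 LD2_c27 LD3_c48) Lrfl Lrfl
theorem f462206 : Led Lsl_gt (LP (LK LD1_c7 LD2_c21 LD3_c54)) = (LP (LK LD1_c13 LD2_c55 LD3_c29)) :=
  Lre_g IH (LK LD1_c7 LD2_c21 LD3_c54) (LK LD1_c13 LD2_c55 LD3_c29) Lrfl Lrfl
theorem f560426 : Led Lsl_gt (LP (LK LD1_c13 LD2_c55 LD3_c29)) = (LP (LK LD1_c21 LD2_c14 LD3_c37)) :=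
  Lgr Lrot46 (Lpe (f462206 IH) (Lpr_ft (K39.f463319 IH) (Lpr_at (K39.f560418 IH) (Lpn (LP (LK LD1_c21 LD2_c14 LD3_c37))))))
theorem f6033 : Led Lsl_dt (LP (LK LD1_c7 LD2_c14 LD3_c48)) = (LP (LK LD1_c13 LD2_c42 LD3_c38)) :=
  Lre_d IH (LK LD1_c7 LD2_c14 LD3_c48) (LK LD1_c13 LD2_c42 LD3_c38) Lrfl Lrfl
theorem f464688 : Led Lsl_gt (LP (LK LD1_c7 LD2_c54 LD3_c37)) = (LP (LK LD1_c14 LD2_c55 LD3_c15)) :=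
  Lre_g IH (LK LD1_c7 LD2_c54 LD3_c37) (LK LD1_c14 LD2_c55 LD3_c15) Lrfl Lrfl
theorem f560545 : Led Lsl_df (LP (LK LD1_c13 LD2_c55 LD3_c29)) = (LP (LK LD1_c14 LD2_c55 LD3_c15)) :=
  Lgr Lrot135 (Lpr_gt (f560426 IH) (Lpe (K11.f75745 IH) (Lpr_et (K37.f543554 IH) (Lpr_gt (f469317 IH) (Lpe (f489717 IH) (Lpr_dt (f560534 IH) (Lpr_gt (f487895 IH) (Lpe (f6033 IH) (Lpe (K37.f487886 IH) (Lpr_gt (f464688 IH) (Lpn (LP (LK LD1_c14 LD2_c55 LD3_c15)))))))))))))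
theorem f75726 : Led Lsl_dt (LP (LK LD1_c21 LD2_c14 LD3_c37)) = (LP (LK LD1_c12 LD2_c8 LD3_c17)) :=
  Lre_d IH (LK LD1_c21 LD2_c14 LD3_c37) (LK LD1_c12 LD2_c8 LD3_c17) Lrfl Lrfl
theorem f560550 : Led Lsl_gf (LP (LK LD1_c12 LD2_c6 LD3_c21)) = (LP (LK LD1_c7 LD2_c14 LD3_c50)) :=
  Lgr Lrot144 (Lpr_dt (f75736 IH) (Lpr_gt (K37.f75735 IH) (Lpr_dt (K11.f75743 IH) (Lpe (K37.f75725 IH) (Lpe (f75726 IH) (Lpe (f560426 IH) (Lpr_df (f560545 IH) (Lpe (f464688 IH) (Lpr_cf (K33.f487867 IH) (Lpn (LP (LK LD1_c7 LD2_c14 LD3_c50))))))))))))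
theorem f80498 : Led Lsl_dt (LP (LK LD1_c8 LD2_c50 LD3_c40)) = (LP (LK LD1_c16 LD2_c31 LD3_c53)) :=
  Lre_d IH (LK LD1_c8 LD2_c50 LD3_c40) (LK LD1_c16 LD2_c31 LD3_c53) Lrfl Lrfl
theorem f80499 : Led Lsl_cf (LP (LK LD1_c12 LD2_c8 LD3_c9)) = (LP (LK LD1_c16 LD2_c31 LD3_c53)) :=
  Lgr Lrot14 (Lpe (K40.f80497 IH) (Lpe (K37.f38043 IH) (Lpe (K37.f38042 IH) (Lpe (K39.f38089 IH) (Lpr_ct (K39.f80480 IH) (Lpr_gt (K37.f80460 IH) (Lpr_dt (K39.f40017 IH) (Lpr_gt (K37.f40018 IH) (Lpr_dt (f80498 IH) (Lpn (LP (LK LD1_c16 LD2_c31 LD3_c53))))))))))))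
theorem f576178 : Led Lsl_gf (LP (LK LD1_c16 LD2_c23 LD3_c14)) = (LP (LK LD1_c16 LD2_c31 LD3_c53)) :=
  Lgr Lrot144 (Lpr_dt (f576172 IH) (Lpr_gt (f69503 IH) (Lpr_dt (K37.f59322 IH) (Lpe (K37.f543426 IH) (Lpe (f75736 IH) (Lpr_gf (f560550 IH) (Lpe (K40.f487872 IH) (Lpe (K40.f543682 IH) (Lpr_cf (f80499 IH) (Lpn (LP (LK LD1_c16 LD2_c31 LD3_c53))))))))))))
theorem f576274 : Led Lsl_gt (LP (LK LD1_c11 LD2_c23 LD3_c19)) = (LP (LK LD1_c16 LD2_c31 LD3_c53)) :=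
  Lgr Lrot5 (Lpr_ft (f56633 IH) (Lpr_at (f576270 IH) (Lpr_gf (f576178 IH) (Lpn (LP (LK LD1_c16 LD2_c31 LD3_c53))))))
theorem f420686 : Led Lsl_ft (LP (LK LD1_c8 LD2_c47 LD3_c52)) = (LP (LK LD1_c16 LD2_c27 LD3_c51)) :=
  Lre_f IH (LK LD1_c8 LD2_c47 LD3_c52) (LK LD1_c16 LD2_c27 LD3_c51) Lrfl Lrfl
theorem f576300 : Led Lsl_af (LP (LK LD1_c16 LD2_c31 LD3_c53)) = (LP (LK LD1_c16 LD2_c27 LD3_c51)) :=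
  Lgr Lrot31 (Lpe (f576274 IH) (Lpr_gf (f576298 IH) (Lpr_ft (f420686 IH) (Lpn (LP (LK LD1_c16 LD2_c27 LD3_c51))))))
theorem f80505 : Led Lsl_ct (LP (LK LD1_c12 LD2_c8 LD3_c9)) = (LP (LK LD1_c16 LD2_c31 LD3_c53)) :=
  Lgr Lrot59 (Lpr_cf (f80499 IH) (Lpn (LP (LK LD1_c16 LD2_c31 LD3_c53))))
theorem f80512 : Led Lsl_dt (LP (LK LD1_c21 LD2_c14 LD3_c22)) = (LP (LK LD1_c12 LD2_c8 LD3_c8)) :=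
  Lre_d IH (LK LD1_c21 LD2_c14 LD3_c22) (LK LD1_c12 LD2_c8 LD3_c8) Lrfl Lrfl
theorem f205667 : Led Lsl_dt (LP (LK LD1_c16 LD2_c25 LD3_c9)) = (LP (LK LD1_c26 LD2_c22 LD3_c46)) :=
  Lre_d IH (LK LD1_c16 LD2_c25 LD3_c9) (LK LD1_c26 LD2_c22 LD3_c46) Lrfl Lrfl
theorem f576307 : Led Lsl_cf (LP (LK LD1_c21 LD2_c14 LD3_c22)) = (LP (LK LD1_c26 LD2_c22 LD3_c46)) :=
  Lgr Lrot116 (Lpr_dt (f80512 IH) (Lpr_ct (K37.f80509 IH) (Lpr_dt (K40.f80497 IH) (Lpr_ct (f80505 IH) (Lpr_af (f576300 IH) (Lpe (f420686 IH) (Lpr_dt (K4.f99311 IH) (Lpr_ct (K39.f420671 IH) (Lpr_dt (f205667 IH) (Lpn (LP (LK LD1_c26 LD2_c22 LD3_c46))))))))))))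
theorem f80508 : Led Lsl_dt (LP (LK LD1_c12 LD2_c8 LD3_c8)) = (LP (LK LD1_c21 LD2_c14 LD3_c22)) :=
  Lre_d IH (LK LD1_c12 LD2_c8 LD3_c8) (LK LD1_c21 LD2_c14 LD3_c22) Lrfl Lrfl
theorem f560403 : Led Lsl_ct (LP (LK LD1_c21 LD2_c14 LD3_c21)) = (LP (LK LD1_c26 LD2_c22 LD3_c48)) :=
  Lgr Lrot59 (Lpr_cf (K39.f560401 IH) (Lpn (LP (LK LD1_c26 LD2_c22 LD3_c48))))
theorem f205520 : Led Lsl_ct (LP (LK LD1_c3 LD2_c10 LD3_c2)) = (LP (LK LD1_c6 LD2_c24 LD3_c54)) :=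
  Lre_c IH (LK LD1_c3 LD2_c10 LD3_c2) (LK LD1_c6 LD2_c24 LD3_c54) Lrfl Lrfl
theorem f205527 : Led Lsl_af (LP (LK LD1_c8 LD2_c46 LD3_c34)) = (LP (LK LD1_c6 LD2_c24 LD3_c54)) :=
  Lgr Lrot68 (Lpr_ct (K39.f75762 IH) (Lpr_at (K11.f205514 IH) (Lpr_ct (f205520 IH) (Lpn (LP (LK LD1_c6 LD2_c24 LD3_c54))))))
theorem f205665 : Led Lsl_gf (LP (LK LD1_c16 LD2_c25 LD3_c9)) = (LP (LK LD1_c12 LD2_c22 LD3_c50)) :=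
  Lgr Lrot47 (Lpr_gt (K39.f80523 IH) (Lpr_af (f205527 IH) (Lpe (K36.f205557 IH) (Lpn (LP (LK LD1_c12 LD2_c22 LD3_c50))))))
theorem f576313 : Led Lsl_gt (LP (LK LD1_c26 LD2_c22 LD3_c48)) = (LP (LK LD1_c21 LD2_c14 LD3_c35)) :=
  Lgr Lrot94 (Lpe (f560403 IH) (Lpe (K39.f552952 IH) (Lpr_dt (K8.f147159 IH) (Lpe (K39.f544198 IH) (Lpr_dt (f80508 IH) (Lpr_cf (f576307 IH) (Lpe (f205667 IH) (Lpr_gf (f205665 IH) (Lpe (K39.f205635 IH) (Lpn (LP (LK LD1_c21 LD2_c14 LD3_c35))))))))))))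
theorem f147297 : Led Lsl_at (LP (LK LD1_c7 LD2_c23 LD3_c10)) = (LP (LK LD1_c13 LD2_c57 LD3_c45)) :=
  Lre_a IH (LK LD1_c7 LD2_c23 LD3_c10) (LK LD1_c13 LD2_c57 LD3_c45) Lrfl Lrfl
theorem f147296 : Led Lsl_ft (LP (LK LD1_c13 LD2_c57 LD3_c61)) = (LP (LK LD1_c7 LD2_c23 LD3_c10)) :=
  Lre_f IH (LK LD1_c13 LD2_c57 LD3_c61) (LK LD1_c7 LD2_c23 LD3_c10) Lrfl Lrfl
theorem f552954 : Led Lsl_gt (LP (LK LD1_c13 LD2_c57 LD3_c61)) = (LP (LK LD1_c21 LD2_c14 LD3_c21)) :=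
  Lgr Lrot5 (Lpr_ft (f147296 IH) (Lpr_at (f147297 IH) (Lpr_gf (K39.f552952 IH) (Lpn (LP (LK LD1_c21 LD2_c14 LD3_c21))))))
theorem f147167 : Led Lsl_bt (LP (LK LD1_c7 LD2_c23 LD3_c18)) = (LP (LK LD1_c13 LD2_c57 LD3_c61)) :=
  Lre_b IH (LK LD1_c7 LD2_c23 LD3_c18) (LK LD1_c13 LD2_c57 LD3_c61) Lrfl Lrfl
theorem f532117 : Led Lsl_gt (LP (LK LD1_c14 LD2_c6 LD3_c4)) = (LP (LK LD1_c13 LD2_c56 LD3_c51)) :=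
  Lgr Lrot5 (Lpe (K28.f468182 IH) (Lpr_at (K28.f468184 IH) (Lpr_gf (K39.f532115 IH) (Lpn (LP (LK LD1_c13 LD2_c56 LD3_c51))))))
theorem f576317 : Led Lsl_bf (LP (LK LD1_c14 LD2_c6 LD3_c4)) = (LP (LK LD1_c12 LD2_c8 LD3_c16)) :=
  Lgr Lrot156 (Lpr_gt (f532117 IH) (Lpe (K34.f489677 IH) (Lpr_ct (K39.f439175 IH) (Lpr_gt (K39.f489672 IH) (Lpe (K35.f146935 IH) (Lpr_bt (f147167 IH) (Lpr_gt (f552954 IH) (Lpr_ct (f560403 IH) (Lpr_gt (f576313 IH) (Lpe (K39.f75765 IH) (Lpn (LP (LK LD1_c12 LD2_c8 LD3_c16)))))))))))))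
theorem f576321 : Led Lsl_bt (LP (LK LD1_c22 LD2_c44 LD3_c4)) = (LP (LK LD1_c21 LD2_c14 LD3_c37)) :=
  Lgr Lrot35 (Lpr_ff (K28.f468182 IH) (Lpr_bf (f576317 IH) (Lpe (K39.f75729 IH) (Lpn (LP (LK LD1_c21 LD2_c14 LD3_c37))))))
theorem f560422 : Led Lsl_ef (LP (LK LD1_c14 LD2_c7 LD3_c30)) = (LP (LK LD1_c21 LD2_c14 LD3_c37)) :=
  Lgr Lrot20 (Lpe (K39.f560300 IH) (Lpr_et (K29.f463353 IH) (Lpr_at (K39.f560418 IH) (Lpn (LP (LK LD1_c21 LD2_c14 LD3_c37))))))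
theorem f469418 : Led Lsl_bt (LP (LK LD1_c14 LD2_c7 LD3_c30)) = (LP (LK LD1_c23 LD2_c41 LD3_c59)) :=
  Lre_b IH (LK LD1_c14 LD2_c7 LD3_c30) (LK LD1_c23 LD2_c41 LD3_c59) Lrfl Lrfl
theorem f576323 : Led Lsl_ef (LP (LK LD1_c22 LD2_c44 LD3_c4)) = (LP (LK LD1_c23 LD2_c41 LD3_c59)) :=
  Lgr Lrot29 (Lpr_bt (f576321 IH) (Lpe (f560422 IH) (Lpr_bt (f469418 IH) (Lpn (LP (LK LD1_c23 LD2_c41 LD3_c59))))))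
theorem f576329 : Led Lsl_et (LP (LK LD1_c22 LD2_c44 LD3_c4)) = (LP (LK LD1_c23 LD2_c41 LD3_c59)) :=
  Lgr Lrot87 (Lpr_ef (f576323 IH) (Lpn (LP (LK LD1_c23 LD2_c41 LD3_c59))))
theorem f469686 : Led Lsl_et (LP (LK LD1_c13 LD2_c55 LD3_c61)) = (LP (LK LD1_c13 LD2_c25 LD3_c19)) :=
  Lgr Lrot69 (Lpr_ff (K34.f469674 IH) (Lpe (K28.f122068 IH) (Lpr_ff (K34.f122139 IH) (Lpe (K34.f122161 IH) (Lpe (K28.f468174 IH) (Lpn (LP (LK LD1_c13 LD2_c25 LD3_c19))))))))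
theorem f469740 : Led Lsl_et (LP (LK LD1_c31 LD2_c3 LD3_c33)) = (LP (LK LD1_c23 LD2_c26 LD3_c61)) :=
  Lre_e IH (LK LD1_c31 LD2_c3 LD3_c33) (LK LD1_c23 LD2_c26 LD3_c61) Lrfl Lrfl
theorem f576337 : Led Lsl_df (LP (LK LD1_c31 LD2_c3 LD3_c33)) = (LP (LK LD1_c23 LD2_c41 LD3_c59)) :=
  Lgr Lrot70 (Lpr_et (f469740 IH) (Lpr_dt (K34.f469669 IH) (Lpr_et (f469686 IH) (Lpr_dt (K35.f468171 IH) (Lpr_et (f576329 IH) (Lpn (LP (LK LD1_c23 LD2_c41 LD3_c59))))))))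
theorem f469465 : Led Lsl_bt (LP (LK LD1_c22 LD2_c44 LD3_c32)) = (LP (LK LD1_c30 LD2_c41 LD3_c45)) :=
  Lre_b IH (LK LD1_c22 LD2_c44 LD3_c32) (LK LD1_c30 LD2_c41 LD3_c45) Lrfl Lrfl
theorem f463239 : Led Lsl_bt (LP (LK LD1_c23 LD2_c41 LD3_c59)) = (LP (LK LD1_c14 LD2_c7 LD3_c30)) :=
  Lre_b IH (LK LD1_c23 LD2_c41 LD3_c59) (LK LD1_c14 LD2_c7 LD3_c30) Lrfl Lrfl
theorem f469466 : Led Lsl_ft (LP (LK LD1_c30 LD2_c41 LD3_c45)) = (LP (LK LD1_c23 LD2_c41 LD3_c59)) :=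
  Lgr Lrot75 (Lpe (f469465 IH) (Lpr_ff (K36.f469453 IH) (Lpe (f463239 IH) (Lpn (LP (LK LD1_c23 LD2_c41 LD3_c59))))))
theorem f541962 : Led Lsl_bt (LP (LK LD1_c23 LD2_c29 LD3_c48)) = (LP (LK LD1_c31 LD2_c5 LD3_c20)) :=
  Lre_b IH (LK LD1_c23 LD2_c29 LD3_c48) (LK LD1_c31 LD2_c5 LD3_c20) Lrfl Lrfl
theorem f469321 : Led Lsl_bt (LP (LK LD1_c30 LD2_c41 LD3_c45)) = (LP (LK LD1_c22 LD2_c44 LD3_c32)) :=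
  Lre_b IH (LK LD1_c30 LD2_c41 LD3_c45) (LK LD1_c22 LD2_c44 LD3_c32) Lrfl Lrfl
theorem f541978 : Led Lsl_dt (LP (LK LD1_c31 LD2_c5 LD3_c20)) = (LP (LK LD1_c30 LD2_c41 LD3_c45)) :=
  Lgr Lrot79 (Lpe (f541962 IH) (Lpr_df (K36.f541975 IH) (Lpe (f469321 IH) (Lpn (LP (LK LD1_c30 LD2_c41 LD3_c45))))))
theorem f576341 : Led Lsl_ft (LP (LK LD1_c31 LD2_c3 LD3_c33)) = (LP (LK LD1_c31 LD2_c5 LD3_c20)) :=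
  Lgr Lrot54 (Lpr_df (f576337 IH) (Lpe (f469466 IH) (Lpe (f541978 IH) (Lpn (LP (LK LD1_c31 LD2_c5 LD3_c20))))))
theorem f576354 : Led Lsl_ff (LP (LK LD1_c31 LD2_c3 LD3_c33)) = (LP (LK LD1_c31 LD2_c5 LD3_c20)) :=
  Lgr Lrot3 (Lpr_ft (f576341 IH) (Lpn (LP (LK LD1_c31 LD2_c5 LD3_c20))))
theorem f136985 : Led Lsl_et (LP (LK LD1_c13 LD2_c56 LD3_c17)) = (LP (LK LD1_c23 LD2_c27 LD3_c23)) :=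
  Lre_e IH (LK LD1_c13 LD2_c56 LD3_c17) (LK LD1_c23 LD2_c27 LD3_c23) Lrfl Lrfl
theorem f576363 : Led Lsl_et (LP (LK LD1_c23 LD2_c29 LD3_c60)) = (LP (LK LD1_c31 LD2_c5 LD3_c20)) :=
  Lre_e IH (LK LD1_c23 LD2_c29 LD3_c60) (LK LD1_c31 LD2_c5 LD3_c20) Lrfl Lrfl
theorem f576364 : Led Lsl_ft (LP (LK LD1_c23 LD2_c27 LD3_c23)) = (LP (LK LD1_c23 LD2_c29 LD3_c60)) :=
  Lgr Lrot86 (Lpe (f136985 IH) (Lpe (K34.f469684 IH) (Lpe (f469740 IH) (Lpr_ff (f576354 IH) (Lpe (f576363 IH) (Lpn (LP (LK LD1_c23 LD2_c29 LD3_c60))))))))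
theorem f576369 : Led Lsl_ct (LP (LK LD1_c23 LD2_c29 LD3_c60)) = (LP (LK LD1_c13 LD2_c58 LD3_c12)) :=
  Lre_c IH (LK LD1_c23 LD2_c29 LD3_c60) (LK LD1_c13 LD2_c58 LD3_c12) Lrfl Lrfl
theorem f576370 : Led Lsl_ft (LP (LK LD1_c13 LD2_c58 LD3_c12)) = (LP (LK LD1_c23 LD2_c30 LD3_c25)) :=
  Lre_f IH (LK LD1_c13 LD2_c58 LD3_c12) (LK LD1_c23 LD2_c30 LD3_c25) Lrfl Lrfl
theorem f576371 : Led Lsl_cf (LP (LK LD1_c23 LD2_c27 LD3_c23)) = (LP (LK LD1_c23 LD2_c30 LD3_c25)) :=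
  Lgr Lrot108 (Lpr_ft (f576364 IH) (Lpr_ct (f576369 IH) (Lpr_ft (f576370 IH) (Lpn (LP (LK LD1_c23 LD2_c30 LD3_c25))))))
theorem f209137 : Led Lsl_et (LP (LK LD1_c23 LD2_c27 LD3_c23)) = (LP (LK LD1_c13 LD2_c56 LD3_c17)) :=
  Lre_e IH (LK LD1_c23 LD2_c27 LD3_c23) (LK LD1_c13 LD2_c56 LD3_c17) Lrfl Lrfl
theorem f576380 : Led Lsl_et (LP (LK LD1_c23 LD2_c27 LD3_c24)) = (LP (LK LD1_c23 LD2_c30 LD3_c25)) :=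
  Lgr Lrot158 (Lpe (K34.f209139 IH) (Lpe (f209137 IH) (Lpr_cf (f576371 IH) (Lpn (LP (LK LD1_c23 LD2_c30 LD3_c25))))))
theorem f576389 : Led Lsl_ft (LP (LK LD1_c23 LD2_c30 LD3_c25)) = (LP (LK LD1_c13 LD2_c58 LD3_c12)) :=
  Lre_f IH (LK LD1_c23 LD2_c30 LD3_c25) (LK LD1_c13 LD2_c58 LD3_c12) Lrfl Lrfl
theorem f576390 : Led Lsl_et (LP (LK LD1_c13 LD2_c58 LD3_c12)) = (LP (LK LD1_c23 LD2_c30 LD3_c12)) :=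
  Lre_e IH (LK LD1_c13 LD2_c58 LD3_c12) (LK LD1_c23 LD2_c30 LD3_c12) Lrfl Lrfl
theorem f576348 : Led Lsl_ft (LP (LK LD1_c23 LD2_c30 LD3_c12)) = (LP (LK LD1_c31 LD2_c5 LD3_c39)) :=
  Lre_f IH (LK LD1_c23 LD2_c30 LD3_c12) (LK LD1_c31 LD2_c5 LD3_c39) Lrfl Lrfl
theorem f576391 : Led Lsl_ef (LP (LK LD1_c31 LD2_c3 LD3_c32)) = (LP (LK LD1_c31 LD2_c5 LD3_c39)) :=
  Lgr Lrot21 (Lpr_ft (K34.f469751 IH) (Lpr_et (f576380 IH) (Lpr_ft (f576389 IH) (Lpr_et (f576390 IH) (Lpr_ft (f576348 IH) (Lpn (LP (LK LD1_c31 LD2_c5 LD3_c39))))))))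
theorem f576397 : Led Lsl_et (LP (LK LD1_c31 LD2_c3 LD3_c32)) = (LP (LK LD1_c31 LD2_c5 LD3_c39)) :=
  Lgr Lrot87 (Lpr_ef (f576391 IH) (Lpn (LP (LK LD1_c31 LD2_c5 LD3_c39))))
theorem f147386 : Led Lsl_bt (LP (LK LD1_c31 LD2_c5 LD3_c39)) = (LP (LK LD1_c23 LD2_c30 LD3_c13)) :=
  Lre_b IH (LK LD1_c31 LD2_c5 LD3_c39) (LK LD1_c23 LD2_c30 LD3_c13) Lrfl Lrfl
theorem f147134 : Led Lsl_et (LP (LK LD1_c23 LD2_c30 LD3_c13)) = (LP (LK LD1_c31 LD2_c5 LD3_c40)) :=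
  Lre_e IH (LK LD1_c23 LD2_c30 LD3_c13) (LK LD1_c31 LD2_c5 LD3_c40) Lrfl Lrfl
theorem f576401 : Led Lsl_bf (LP (LK LD1_c31 LD2_c3 LD3_c32)) = (LP (LK LD1_c31 LD2_c5 LD3_c40)) :=
  Lgr Lrot96 (Lpr_et (f576397 IH) (Lpr_bt (f147386 IH) (Lpr_et (f147134 IH) (Lpn (LP (LK LD1_c31 LD2_c5 LD3_c40))))))
theorem f147125 : Led Lsl_ft (LP (LK LD1_c23 LD2_c30 LD3_c26)) = (LP (LK LD1_c31 LD2_c5 LD3_c40)) :=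
  Lre_f IH (LK LD1_c23 LD2_c30 LD3_c26) (LK LD1_c31 LD2_c5 LD3_c40) Lrfl Lrfl
theorem f576406 : Led Lsl_bt (LP (LK LD1_c23 LD2_c27 LD3_c24)) = (LP (LK LD1_c23 LD2_c30 LD3_c26)) :=
  Lgr Lrot35 (Lpe (K34.f469751 IH) (Lpr_bf (f576401 IH) (Lpe (f147125 IH) (Lpn (LP (LK LD1_c23 LD2_c30 LD3_c26))))))
theorem f131788 : Led Lsl_bf (LP (LK LD1_c13 LD2_c56 LD3_c17)) = (LP (LK LD1_c14 LD2_c5 LD3_c11)) :=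
  Lgr Lrot81 (Lpr_at (K34.f131785 IH) (Lpr_bt (K37.f131784 IH) (Lpr_at (K5.f131771 IH) (Lpr_bt (K33.f131786 IH) (Lpr_at (K40.f131787 IH) (Lpn (LP (LK LD1_c14 LD2_c5 LD3_c11))))))))
theorem f146977 : Led Lsl_ct (LP (LK LD1_c23 LD2_c30 LD3_c26)) = (LP (LK LD1_c13 LD2_c58 LD3_c14)) :=
  Lre_c IH (LK LD1_c23 LD2_c30 LD3_c26) (LK LD1_c13 LD2_c58 LD3_c14) Lrfl Lrfl
theorem f576408 : Led Lsl_cf (LP (LK LD1_c14 LD2_c5 LD3_c11)) = (LP (LK LD1_c23 LD2_c29 LD3_c61)) :=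
  Lgr Lrot97 (Lpe (f131788 IH) (Lpr_ct (K34.f209139 IH) (Lpr_bt (f576406 IH) (Lpr_ct (f146977 IH) (Lpr_bt (K28.f146964 IH) (Lpn (LP (LK LD1_c23 LD2_c29 LD3_c61))))))))
theorem f560491 : Led Lsl_cf (LP (LK LD1_c7 LD2_c21 LD3_c51)) = (LP (LK LD1_c9 LD2_c19 LD3_c43)) :=
  Lgr Lrot118 (Lpr_dt (K42.f554231 IH) (Lpr_ct (K39.f560245 IH) (Lpr_dt (K39.f560482 IH) (Lpr_ct (K37.f439163 IH) (Lpr_dt (K40.f439563 IH) (Lpe (K29.f439559 IH) (Lpe (K37.f543599 IH) (Lpe (K37.f210888 IH) (Lpr_dt (K42.f210881 IH) (Lpn (LP (LK LD1_c9 LD2_c19 LD3_c43))))))))))))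
theorem f560246 : Led Lsl_ct (LP (LK LD1_c23 LD2_c26 LD3_c6)) = (LP (LK LD1_c13 LD2_c55 LD3_c22)) :=
  Lre_c IH (LK LD1_c23 LD2_c26 LD3_c6) (LK LD1_c13 LD2_c55 LD3_c22) Lrfl Lrfl
theorem f560442 : Led Lsl_af (LP (LK LD1_c23 LD2_c26 LD3_c6)) = (LP (LK LD1_c29 LD2_c55 LD3_c22)) :=
  Lgr Lrot68 (Lpr_ct (f560246 IH) (Lpr_at (K39.f560433 IH) (Lpr_ct (K42.f559042 IH) (Lpn (LP (LK LD1_c29 LD2_c55 LD3_c22))))))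
theorem f469236 : Led Lsl_dt (LP (LK LD1_c22 LD2_c44 LD3_c33)) = (LP (LK LD1_c23 LD2_c29 LD3_c61)) :=
  Lgr Lrot42 (Lpr_df (K28.f469230 IH) (Lpn (LP (LK LD1_c23 LD2_c29 LD3_c61))))
theorem f576419 : Led Lsl_ff (LP (LK LD1_c29 LD2_c55 LD3_c22)) = (LP (LK LD1_c22 LD2_c44 LD3_c33)) :=
  Lgr Lrot103 (Lpe (f560442 IH) (Lpe (K39.f560245 IH) (Lpe (K42.f554231 IH) (Lpr_cf (f560491 IH) (Lpe (K42.f210881 IH) (Lpr_cf (K37.f543566 IH) (Lpe (K37.f209128 IH) (Lpr_cf (f576408 IH) (Lpe (f469236 IH) (Lpn (LP (LK LD1_c22 LD2_c44 LD3_c33))))))))))))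
theorem f576425 : Led Lsl_ft (LP (LK LD1_c29 LD2_c55 LD3_c22)) = (LP (LK LD1_c22 LD2_c44 LD3_c33)) :=
  Lgr Lrot48 (Lpr_ff (f576419 IH) (Lpn (LP (LK LD1_c22 LD2_c44 LD3_c33))))
theorem f576436 : Led Lsl_af (LP (LK LD1_c23 LD2_c38 LD3_c42)) = (LP (LK LD1_c22 LD2_c44 LD3_c33)) :=
  Lgr Lrot109 (Lpe (K42.f560464 IH) (Lpe (K42.f208994 IH) (Lpr_cf (K42.f567931 IH) (Lpe (K42.f210890 IH) (Lpr_cf (K42.f543556 IH) (Lpe (K42.f469316 IH) (Lpe (K42.f567960 IH) (Lpr_df (K42.f542011 IH) (Lpr_ft (f576425 IH) (Lpn (LP (LK LD1_c22 LD2_c44 LD3_c33))))))))))))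
theorem f576438 : Led Lsl_at (LP (LK LD1_c23 LD2_c26 LD3_c6)) = (LP (LK LD1_c29 LD2_c55 LD3_c22)) :=
  Lgr Lrot66 (Lpr_ff (K39.f560479 IH) (Lpr_af (f576436 IH) (Lpe (f576425 IH) (Lpn (LP (LK LD1_c29 LD2_c55 LD3_c22))))))
theorem f560470 : Led Lsl_ft (LP (LK LD1_c14 LD2_c5 LD3_c24)) = (LP (LK LD1_c23 LD2_c38 LD3_c43)) :=
  Lre_f IH (LK LD1_c14 LD2_c5 LD3_c24) (LK LD1_c23 LD2_c38 LD3_c43) Lrfl Lrfl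
theorem f560475 : Led Lsl_df (LP (LK LD1_c23 LD2_c26 LD3_c6)) = (LP (LK LD1_c23 LD2_c38 LD3_c43)) :=
  Lgr Lrot78 (Lpr_ft (K39.f560468 IH) (Lpr_dt (K42.f439639 IH) (Lpr_ft (f560470 IH) (Lpn (LP (LK LD1_c23 LD2_c38 LD3_c43))))))
theorem f576442 : Led Lsl_af (LP (LK LD1_c23 LD2_c38 LD3_c43)) = (LP (LK LD1_c31 LD2_c5 LD3_c21)) :=
  Lgr Lrot117 (Lpe (f560475 IH) (Lpr_at (f576438 IH) (Lpe (K42.f542011 IH) (Lpn (LP (LK LD1_c31 LD2_c5 LD3_c21))))))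
theorem f489391 : Led Lsl_bt (LP (LK LD1_c23 LD2_c38 LD3_c43)) = (LP (LK LD1_c31 LD2_c8 LD3_c56)) :=
  Lre_b IH (LK LD1_c23 LD2_c38 LD3_c43) (LK LD1_c31 LD2_c8 LD3_c56) Lrfl Lrfl
theorem f147397 : Led Lsl_bt (LP (LK LD1_c23 LD2_c30 LD3_c14)) = (LP (LK LD1_c31 LD2_c5 LD3_c21)) :=
  Lre_b IH (LK LD1_c23 LD2_c30 LD3_c14) (LK LD1_c31 LD2_c5 LD3_c21) Lrfl Lrfl
theorem f146980 : Led Lsl_bt (LP (LK LD1_c31 LD2_c10 LD3_c46)) = (LP (LK LD1_c23 LD2_c41 LD3_c34)) :=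
  Lre_b IH (LK LD1_c31 LD2_c10 LD3_c46) (LK LD1_c23 LD2_c41 LD3_c34) Lrfl Lrfl
theorem f576448 : Led Lsl_at (LP (LK LD1_c31 LD2_c8 LD3_c56)) = (LP (LK LD1_c31 LD2_c10 LD3_c46)) :=
  Lgr Lrot67 (Lpe (f489391 IH) (Lpr_af (f576442 IH) (Lpe (f147397 IH) (Lpr_af (K34.f146983 IH) (Lpe (f146980 IH) (Lpn (LP (LK LD1_c31 LD2_c10 LD3_c46))))))))
theorem f576464 : Led Lsl_ft (LP (LK LD1_c23 LD2_c38 LD3_c41)) = (LP (LK LD1_c31 LD2_c8 LD3_c56)) :=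
  Lre_f IH (LK LD1_c23 LD2_c38 LD3_c41) (LK LD1_c31 LD2_c8 LD3_c56) Lrfl Lrfl
theorem f576465 : Led Lsl_af (LP (LK LD1_c23 LD2_c38 LD3_c41)) = (LP (LK LD1_c23 LD2_c41 LD3_c22)) :=
  Lgr Lrot45 (Lpr_ft (f576464 IH) (Lpr_at (f576448 IH) (Lpr_ft (K28.f466399 IH) (Lpn (LP (LK LD1_c23 LD2_c41 LD3_c22))))))
theorem f466409 : Led Lsl_et (LP (LK LD1_c14 LD2_c7 LD3_c3)) = (LP (LK LD1_c23 LD2_c41 LD3_c22)) :=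
  Lre_e IH (LK LD1_c14 LD2_c7 LD3_c3) (LK LD1_c23 LD2_c41 LD3_c22) Lrfl Lrfl
theorem f123813 : Led Lsl_at (LP (LK LD1_c23 LD2_c40 LD3_c51)) = (LP (LK LD1_c14 LD2_c7 LD3_c3)) :=
  Lre_a IH (LK LD1_c23 LD2_c40 LD3_c51) (LK LD1_c14 LD2_c7 LD3_c3) Lrfl Lrfl
theorem f576475 : Led Lsl_et (LP (LK LD1_c23 LD2_c38 LD3_c41)) = (LP (LK LD1_c23 LD2_c40 LD3_c51)) :=
  Lgr Lrot123 (Lpr_af (f576465 IH) (Lpe (f466409 IH) (Lpe (f123813 IH) (Lpn (LP (LK LD1_c23 LD2_c40 LD3_c51))))))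
theorem f576488 : Led Lsl_ef (LP (LK LD1_c23 LD2_c38 LD3_c41)) = (LP (LK LD1_c23 LD2_c40 LD3_c51)) :=
  Lgr Lrot88 (Lpr_et (f576475 IH) (Lpn (LP (LK LD1_c23 LD2_c40 LD3_c51))))
theorem f123812 : Led Lsl_ft (LP (LK LD1_c14 LD2_c6 LD3_c45)) = (LP (LK LD1_c23 LD2_c40 LD3_c51)) :=
  Lre_f IH (LK LD1_c14 LD2_c6 LD3_c45) (LK LD1_c23 LD2_c40 LD3_c51) Lrfl Lrfl
theorem f147162 : Led Lsl_et (LP (LK LD1_c23 LD2_c40 LD3_c43)) = (LP (LK LD1_c14 LD2_c6 LD3_c45)) :=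
  Lre_e IH (LK LD1_c23 LD2_c40 LD3_c43) (LK LD1_c14 LD2_c6 LD3_c45) Lrfl Lrfl
theorem f576496 : Led Lsl_et (LP (LK LD1_c31 LD2_c8 LD3_c56)) = (LP (LK LD1_c31 LD2_c10 LD3_c33)) :=
  Lgr Lrot69 (Lpe (f576464 IH) (Lpr_ef (f576488 IH) (Lpe (f123812 IH) (Lpe (f147162 IH) (Lpe (K36.f541931 IH) (Lpn (LP (LK LD1_c31 LD2_c10 LD3_c33))))))))
theorem f576459 : Led Lsl_ct (LP (LK LD1_c23 LD2_c39 LD3_c40)) = (LP (LK LD1_c31 LD2_c8 LD3_c56)) :=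
  Lre_c IH (LK LD1_c23 LD2_c39 LD3_c40) (LK LD1_c31 LD2_c8 LD3_c56) Lrfl Lrfl
theorem f576501 : Led Lsl_et (LP (LK LD1_c31 LD2_c9 LD3_c54)) = (LP (LK LD1_c23 LD2_c39 LD3_c40)) :=
  Lre_e IH (LK LD1_c31 LD2_c9 LD3_c54) (LK LD1_c23 LD2_c39 LD3_c40) Lrfl Lrfl
theorem f576502 : Led Lsl_cf (LP (LK LD1_c31 LD2_c9 LD3_c54)) = (LP (LK LD1_c31 LD2_c10 LD3_c33)) :=
  Lgr Lrot39 (Lpr_et (f576501 IH) (Lpr_ct (f576459 IH) (Lpr_et (f576496 IH) (Lpn (LP (LK LD1_c31 LD2_c10 LD3_c33))))))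
theorem f576505 : Led Lsl_ct (LP (LK LD1_c31 LD2_c9 LD3_c54)) = (LP (LK LD1_c31 LD2_c10 LD3_c33)) :=
  Lgr Lrot59 (Lpr_cf (f576502 IH) (Lpn (LP (LK LD1_c31 LD2_c10 LD3_c33))))
theorem f131897 : Led Lsl_bt (LP (LK LD1_c23 LD2_c39 LD3_c42)) = (LP (LK LD1_c31 LD2_c9 LD3_c54)) :=
  Lre_b IH (LK LD1_c23 LD2_c39 LD3_c42) (LK LD1_c31 LD2_c9 LD3_c54) Lrfl Lrfl
theorem f131904 : Led Lsl_ct (LP (LK LD1_c14 LD2_c5 LD3_c55)) = (LP (LK LD1_c23 LD2_c39 LD3_c42)) :=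
  Lre_c IH (LK LD1_c14 LD2_c5 LD3_c55) (LK LD1_c23 LD2_c39 LD3_c42) Lrfl Lrfl
theorem f576556 : Led Lsl_cf (LP (LK LD1_c23 LD2_c38 LD3_c44)) = (LP (LK LD1_c30 LD2_c52 LD3_c50)) :=
  Lgr Lrot97 (Lpr_bt (K39.f131881 IH) (Lpr_ct (f131904 IH) (Lpr_bt (f131897 IH) (Lpr_ct (f576505 IH) (Lpr_bt (K36.f541920 IH) (Lpn (LP (LK LD1_c30 LD2_c52 LD3_c50))))))))
theorem f116253 : Led Lsl_dt (LP (LK LD1_c23 LD2_c3 LD3_c35)) = (LP (LK LD1_c30 LD2_c52 LD3_c50)) :=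
  Lre_d IH (LK LD1_c23 LD2_c3 LD3_c35) (LK LD1_c30 LD2_c52 LD3_c50) Lrfl Lrfl
theorem f116252 : Led Lsl_ct (LP (LK LD1_c13 LD2_c38 LD3_c25)) = (LP (LK LD1_c23 LD2_c3 LD3_c35)) :=
  Lre_c IH (LK LD1_c13 LD2_c38 LD3_c25) (LK LD1_c23 LD2_c3 LD3_c35) Lrfl Lrfl
theorem f108264 : Led Lsl_dt (LP (LK LD1_c7 LD2_c12 LD3_c6)) = (LP (LK LD1_c13 LD2_c38 LD3_c25)) :=
  Lre_d IH (LK LD1_c7 LD2_c12 LD3_c6) (LK LD1_c13 LD2_c38 LD3_c25) Lrfl Lrfl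
theorem f541967 : Led Lsl_dt (LP (LK LD1_c23 LD2_c29 LD3_c48)) = (LP (LK LD1_c22 LD2_c44 LD3_c32)) :=
  Lgr Lrot60 (Lpr_ff (K36.f541960 IH) (Lpe (K39.f116166 IH) (Lpe (K39.f469442 IH) (Lpn (LP (LK LD1_c22 LD2_c44 LD3_c32))))))
theorem f576564 : Led Lsl_af (LP (LK LD1_c23 LD2_c38 LD3_c44)) = (LP (LK LD1_c23 LD2_c41 LD3_c60)) :=
  Lgr Lrot109 (Lpr_cf (f576556 IH) (Lpe (f116253 IH) (Lpe (f116252 IH) (Lpe (f108264 IH) (Lpe (K28.f469259 IH) (Lpe (K28.f469239 IH) (Lpe (K33.f469156 IH) (Lpe (f541967 IH) (Lpr_ft (K36.f541970 IH) (Lpn (LP (LK LD1_c23 LD2_c41 LD3_c60))))))))))))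
theorem f439171 : Led Lsl_at (LP (LK LD1_c14 LD2_c5 LD3_c25)) = (LP (LK LD1_c23 LD2_c38 LD3_c23)) :=
  Lre_a IH (LK LD1_c14 LD2_c5 LD3_c25) (LK LD1_c23 LD2_c38 LD3_c23) Lrfl Lrfl
theorem f576566 : Led Lsl_et (LP (LK LD1_c23 LD2_c38 LD3_c23)) = (LP (LK LD1_c23 LD2_c41 LD3_c60)) :=
  Lgr Lrot123 (Lpe (f439171 IH) (Lpe (K39.f463358 IH) (Lpr_af (f576564 IH) (Lpn (LP (LK LD1_c23 LD2_c41 LD3_c60))))))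
theorem f576582 : Led Lsl_ef (LP (LK LD1_c23 LD2_c38 LD3_c23)) = (LP (LK LD1_c23 LD2_c41 LD3_c60)) :=
  Lgr Lrot88 (Lpr_et (f576566 IH) (Lpn (LP (LK LD1_c23 LD2_c41 LD3_c60))))
theorem f439158 : Led Lsl_ft (LP (LK LD1_c23 LD2_c38 LD3_c23)) = (LP (LK LD1_c14 LD2_c5 LD3_c11)) :=
  Lre_f IH (LK LD1_c23 LD2_c38 LD3_c23) (LK LD1_c14 LD2_c5 LD3_c11) Lrfl Lrfl
theorem f80904 : Led Lsl_ct (LP (LK LD1_c4 LD2_c26 LD3_c33)) = (LP (LK LD1_c8 LD2_c50 LD3_c42)) :=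
  Lre_c IH (LK LD1_c4 LD2_c26 LD3_c33) (LK LD1_c8 LD2_c50 LD3_c42) Lrfl Lrfl
theorem f101874 : Led Lsl_dt (LP (LK LD1_c8 LD2_c50 LD3_c42)) = (LP (LK LD1_c16 LD2_c31 LD3_c56)) :=
  Lre_d IH (LK LD1_c8 LD2_c50 LD3_c42) (LK LD1_c16 LD2_c31 LD3_c56) Lrfl Lrfl
theorem f147292 : Led Lsl_dt (LP (LK LD1_c13 LD2_c57 LD3_c61)) = (LP (LK LD1_c7 LD2_c23 LD3_c11)) :=
  Lre_d IH (LK LD1_c13 LD2_c57 LD3_c61) (LK LD1_c7 LD2_c23 LD3_c11) Lrfl Lrfl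
theorem f544193 : Led Lsl_ct (LP (LK LD1_c16 LD2_c31 LD3_c56)) = (LP (LK LD1_c13 LD2_c57 LD3_c61)) :=
  Lgr Lrot41 (Lpe (f101874 IH) (Lpe (f80904 IH) (Lpe (K39.f40017 IH) (Lpr_ft (K11.f38129 IH) (Lpe (K37.f201951 IH) (Lpr_cf (K37.f210841 IH) (Lpr_df (K37.f544189 IH) (Lpr_cf (K28.f147289 IH) (Lpe (f147292 IH) (Lpn (LP (LK LD1_c13 LD2_c57 LD3_c61))))))))))))
theorem f576416 : Led Lsl_et (LP (LK LD1_c14 LD2_c5 LD3_c11)) = (LP (LK LD1_c16 LD2_c31 LD3_c56)) :=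
  Lgr Lrot158 (Lpr_cf (f576408 IH) (Lpe (K28.f469240 IH) (Lpe (f544193 IH) (Lpn (LP (LK LD1_c16 LD2_c31 LD3_c56))))))
theorem f576584 : Led Lsl_ft (LP (LK LD1_c16 LD2_c31 LD3_c56)) = (LP (LK LD1_c13 LD2_c57 LD3_c60)) :=
  Lgr Lrot86 (Lpe (f576416 IH) (Lpe (f439158 IH) (Lpr_ef (f576582 IH) (Lpe (K36.f541970 IH) (Lpe (K36.f541953 IH) (Lpn (LP (LK LD1_c13 LD2_c57 LD3_c60))))))))
theorem f99310 : Led Lsl_dt (LP (LK LD1_c16 LD2_c31 LD3_c56)) = (LP (LK LD1_c8 LD2_c50 LD3_c42)) :=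
  Lre_d IH (LK LD1_c16 LD2_c31 LD3_c56) (LK LD1_c8 LD2_c50 LD3_c42) Lrfl Lrfl
theorem f80790 : Led Lsl_ct (LP (LK LD1_c8 LD2_c50 LD3_c42)) = (LP (LK LD1_c4 LD2_c26 LD3_c33)) :=
  Lre_c IH (LK LD1_c8 LD2_c50 LD3_c42) (LK LD1_c4 LD2_c26 LD3_c33) Lrfl Lrfl
theorem f576587 : Led Lsl_at (LP (LK LD1_c13 LD2_c57 LD3_c60)) = (LP (LK LD1_c23 LD2_c29 LD3_c40)) :=
  Lre_a IH (LK LD1_c13 LD2_c57 LD3_c60) (LK LD1_c23 LD2_c29 LD3_c40) Lrfl Lrfl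
theorem f576594 : Led Lsl_ct (LP (LK LD1_c4 LD2_c24 LD3_c6)) = (LP (LK LD1_c7 LD2_c23 LD3_c4)) :=
  Lgr Lrot53 (Lpe (K4.f35878 IH) (Lpr_cf (K4.f99303 IH) (Lpe (K4.f80453 IH) (Lpe (f80790 IH) (Lpe (f99310 IH) (Lpr_ft (f576584 IH) (Lpr_at (f576587 IH) (Lpe (K39.f147158 IH) (Lpe (K39.f147197 IH) (Lpn (LP (LK LD1_c7 LD2_c23 LD3_c4))))))))))))
theorem f464075 : Led Lsl_gt (LP (LK LD1_c7 LD2_c18 LD3_c58)) = (LP (LK LD1_c13 LD2_c50 LD3_c25)) :=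
  Lre_g IH (LK LD1_c7 LD2_c18 LD3_c58) (LK LD1_c13 LD2_c50 LD3_c25) Lrfl Lrfl
theorem f464071 : Led Lsl_ct (LP (LK LD1_c13 LD2_c50 LD3_c25)) = (LP (LK LD1_c13 LD2_c17 LD3_c9)) :=
  Lgr Lrot59 (Lpr_cf (K28.f464067 IH) (Lpn (LP (LK LD1_c13 LD2_c17 LD3_c9))))
theorem f576600 : Led Lsl_bt (LP (LK LD1_c4 LD2_c24 LD3_c6)) = (LP (LK LD1_c7 LD2_c12 LD3_c31)) :=
  Lgr Lrot92 (Lpr_ct (f576594 IH) (Lpe (K39.f544198 IH) (Lpe (K37.f80507 IH) (Lpr_bt (K37.f544203 IH) (Lpr_gt (f464075 IH) (Lpr_ct (f464071 IH) (Lpe (K41.f513996 IH) (Lpe (K41.f513998 IH) (Lpr_bt (K41.f514004 IH) (Lpr_gt (K41.f513475 IH) (Lpn (LP (LK LD1_c7 LD2_c12 LD3_c31)))))))))))))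
theorem f543355 : Led Lsl_ct (LP (LK LD1_c6 LD2_c14 LD3_c50)) = (LP (LK LD1_c12 LD2_c7 LD3_c56)) :=
  Lre_c IH (LK LD1_c6 LD2_c14 LD3_c50) (LK LD1_c12 LD2_c7 LD3_c56) Lrfl Lrfl
theorem f70723 : Led Lsl_dt (LP (LK LD1_c3 LD2_c4 LD3_c22)) = (LP (LK LD1_c1 LD2_c28 LD3_c11)) :=
  Lre_d IH (LK LD1_c3 LD2_c4 LD3_c22) (LK LD1_c1 LD2_c28 LD3_c11) Lrfl Lrfl
theorem f38105 : Led Lsl_gt (LP (LK LD1_c6 LD2_c14 LD3_c56)) = (LP (LK LD1_c3 LD2_c4 LD3_c22)) :=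
  Lre_g IH (LK LD1_c6 LD2_c14 LD3_c56) (LK LD1_c3 LD2_c4 LD3_c22) Lrfl Lrfl
theorem f70726 : Led Lsl_ct (LP (LK LD1_c12 LD2_c8 LD3_c12)) = (LP (LK LD1_c6 LD2_c14 LD3_c56)) :=
  Lre_c IH (LK LD1_c12 LD2_c8 LD3_c12) (LK LD1_c6 LD2_c14 LD3_c56) Lrfl Lrfl
theorem f560413 : Led Lsl_gf (LP (LK LD1_c7 LD2_c23 LD3_c4)) = (LP (LK LD1_c12 LD2_c8 LD3_c12)) :=
  Lgr Lrot144 (Lpr_dt (K39.f147197 IH) (Lpr_gt (K39.f560409 IH) (Lpr_dt (K39.f543484 IH) (Lpe (f543355 IH) (Lpe (K37.f59369 IH) (Lpe (K6.f59368 IH) (Lpe (f70723 IH) (Lpe (f38105 IH) (Lpe (f70726 IH) (Lpn (LP (LK LD1_c12 LD2_c8 LD3_c12))))))))))))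
theorem f70715 : Led Lsl_ct (LP (LK LD1_c6 LD2_c14 LD3_c56)) = (LP (LK LD1_c12 LD2_c8 LD3_c12)) :=
  Lre_c IH (LK LD1_c6 LD2_c14 LD3_c56) (LK LD1_c12 LD2_c8 LD3_c12) Lrfl Lrfl
theorem f576602 : Led Lsl_gf (LP (LK LD1_c6 LD2_c14 LD3_c56)) = (LP (LK LD1_c7 LD2_c19 LD3_c9)) :=
  Lgr Lrot181 (Lpr_ct (f70715 IH) (Lpe (f560413 IH) (Lpe (f576594 IH) (Lpr_bt (f576600 IH) (Lpr_gt (K34.f488200 IH) (Lpe (K34.f488184 IH) (Lpe (K35.f488185 IH) (Lpr_gt (K33.f488189 IH) (Lpr_cf (K29.f466558 IH) (Lpr_bt (K28.f208969 IH) (Lpn (LP (LK LD1_c7 LD2_c19 LD3_c9)))))))))))))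
theorem f70729 : Led Lsl_bt (LP (LK LD1_c12 LD2_c8 LD3_c12)) = (LP (LK LD1_c21 LD2_c14 LD3_c26)) :=
  Lre_b IH (LK LD1_c12 LD2_c8 LD3_c12) (LK LD1_c21 LD2_c14 LD3_c26) Lrfl Lrfl
theorem f576612 : Led Lsl_gt (LP (LK LD1_c21 LD2_c14 LD3_c26)) = (LP (LK LD1_c13 LD2_c19 LD3_c6)) :=
  Lgr Lrot82 (Lpe (f70729 IH) (Lpr_ct (f70726 IH) (Lpr_gf (f576602 IH) (Lpr_cf (K39.f463363 IH) (Lpr_bt (K29.f463267 IH) (Lpe (K28.f463326 IH) (Lpe (K34.f488693 IH) (Lpr_ct (K34.f469694 IH) (Lpe (K34.f533015 IH) (Lpe (K4.f103642 IH) (Lpn (LP (LK LD1_c13 LD2_c19 LD3_c6)))))))))))))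
theorem f103635 : Led Lsl_ct (LP (LK LD1_c7 LD2_c1 LD3_c17)) = (LP (LK LD1_c13 LD2_c19 LD3_c6)) :=
  Lre_c IH (LK LD1_c7 LD2_c1 LD3_c17) (LK LD1_c13 LD2_c19 LD3_c6) Lrfl Lrfl
theorem f103641 : Led Lsl_bt (LP (LK LD1_c7 LD2_c1 LD3_c17)) = (LP (LK LD1_c13 LD2_c19 LD3_c4)) :=
  Lre_b IH (LK LD1_c7 LD2_c1 LD3_c17) (LK LD1_c13 LD2_c19 LD3_c4) Lrfl Lrfl
theorem f533981 : Led Lsl_ft (LP (LK LD1_c13 LD2_c19 LD3_c4)) = (LP (LK LD1_c22 LD2_c32 LD3_c9)) :=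
  Lgr Lrot48 (Lpr_ff (K39.f533973 IH) (Lpn (LP (LK LD1_c22 LD2_c32 LD3_c9))))
theorem f535186 : Led Lsl_gf (LP (LK LD1_c13 LD2_c57 LD3_c18)) = (LP (LK LD1_c13 LD2_c19 LD3_c4)) :=
  Lgr Lrot47 (Lpr_gt (K37.f535184 IH) (Lpr_af (K39.f533965 IH) (Lpe (f533981 IH) (Lpn (LP (LK LD1_c13 LD2_c19 LD3_c4))))))
theorem f464076 : Led Lsl_ff (LP (LK LD1_c13 LD2_c18 LD3_c10)) = (LP (LK LD1_c22 LD2_c32 LD3_c51)) :=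
  Lgr Lrot25 (Lpr_bt (K4.f121870 IH) (Lpr_ft (K28.f464073 IH) (Lpr_bt (K28.f464069 IH) (Lpn (LP (LK LD1_c22 LD2_c32 LD3_c51))))))
theorem f122043 : Led Lsl_af (LP (LK LD1_c7 LD2_c22 LD3_c11)) = (LP (LK LD1_c13 LD2_c18 LD3_c10)) :=
  Lgr Lrot0 (Lpr_at (K4.f122041 IH) (Lpn (LP (LK LD1_c13 LD2_c18 LD3_c10))))
theorem f440467 : Led Lsl_gt (LP (LK LD1_c13 LD2_c56 LD3_c14)) = (LP (LK LD1_c7 LD2_c22 LD3_c11)) :=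
  Lre_g IH (LK LD1_c13 LD2_c56 LD3_c14) (LK LD1_c7 LD2_c22 LD3_c11) Lrfl Lrfl
theorem f464090 : Led Lsl_gf (LP (LK LD1_c13 LD2_c56 LD3_c14)) = (LP (LK LD1_c22 LD2_c32 LD3_c51)) :=
  Lgr Lrot47 (Lpr_gt (f440467 IH) (Lpr_af (f122043 IH) (Lpr_ff (f464076 IH) (Lpn (LP (LK LD1_c22 LD2_c32 LD3_c51))))))
theorem f576618 : Led Lsl_cf (LP (LK LD1_c21 LD2_c14 LD3_c26)) = (LP (LK LD1_c13 LD2_c56 LD3_c14)) :=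
  Lgr Lrot125 (Lpr_gt (f576612 IH) (Lpe (f103635 IH) (Lpr_bt (f103641 IH) (Lpe (f535186 IH) (Lpr_bf (K37.f535188 IH) (Lpr_ct (K37.f94558 IH) (Lpr_gt (f464075 IH) (Lpr_cf (K28.f464067 IH) (Lpr_bt (K28.f464069 IH) (Lpe (f464090 IH) (Lpn (LP (LK LD1_c13 LD2_c56 LD3_c14)))))))))))))
theorem f576637 : Led Lsl_ct (LP (LK LD1_c21 LD2_c14 LD3_c26)) = (LP (LK LD1_c13 LD2_c56 LD3_c14)) :=
  Lgr Lrot59 (Lpr_cf (f576618 IH) (Lpn (LP (LK LD1_c13 LD2_c56 LD3_c14))))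
theorem f576636 : Led Lsl_bt (LP (LK LD1_c21 LD2_c14 LD3_c26)) = (LP (LK LD1_c12 LD2_c8 LD3_c12)) :=
  Lre_b IH (LK LD1_c21 LD2_c14 LD3_c26) (LK LD1_c12 LD2_c8 LD3_c12) Lrfl Lrfl
theorem f99266 : Led Lsl_ct (LP (LK LD1_c8 LD2_c45 LD3_c49)) = (LP (LK LD1_c4 LD2_c24 LD3_c0)) :=
  Lre_c IH (LK LD1_c8 LD2_c45 LD3_c49) (LK LD1_c4 LD2_c24 LD3_c0) Lrfl Lrfl
theorem f99267 : Led Lsl_bt (LP (LK LD1_c4 LD2_c24 LD3_c0)) = (LP (LK LD1_c2 LD2_c9 LD3_c27)) :=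
  Lre_b IH (LK LD1_c4 LD2_c24 LD3_c0) (LK LD1_c2 LD2_c9 LD3_c27) Lrfl Lrfl
theorem f99268 : Led Lsl_ct (LP (LK LD1_c4 LD2_c26 LD3_c30)) = (LP (LK LD1_c8 LD2_c50 LD3_c30)) :=
  Lre_c IH (LK LD1_c4 LD2_c26 LD3_c30) (LK LD1_c8 LD2_c50 LD3_c30) Lrfl Lrfl
theorem f99269 : Led Lsl_bt (LP (LK LD1_c2 LD2_c10 LD3_c29)) = (LP (LK LD1_c4 LD2_c26 LD3_c30)) :=
  Lre_b IH (LK LD1_c2 LD2_c10 LD3_c29) (LK LD1_c4 LD2_c26 LD3_c30) Lrfl Lrfl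
theorem f99270 : Led Lsl_ct (LP (LK LD1_c2 LD2_c9 LD3_c27)) = (LP (LK LD1_c2 LD2_c10 LD3_c29)) :=
  Lgr Lrot83 (Lpe (f99267 IH) (Lpe (f99266 IH) (Lpr_bf (K4.f99257 IH) (Lpe (f99268 IH) (Lpe (f99269 IH) (Lpn (LP (LK LD1_c2 LD2_c10 LD3_c29))))))))
theorem f560393 : Led Lsl_ct (LP (LK LD1_c7 LD2_c23 LD3_c4)) = (LP (LK LD1_c4 LD2_c24 LD3_c6)) :=
  Lgr Lrot176 (Lpe (K8.f147159 IH) (Lpe (K36.f147298 IH) (Lpe (K39.f560324 IH) (Lpr_cf (K39.f560363 IH) (Lpe (K37.f210848 IH) (Lpr_cf (K37.f210841 IH) (Lpr_df (K37.f544189 IH) (Lpr_cf (K28.f147289 IH) (Lpe (f147292 IH) (Lpe (f544193 IH) (Lpe (f101874 IH) (Lpe (f80904 IH) (Lpe (K39.f40017 IH) (Lpe (f99270 IH) (Lpe (K4.f36678 IH) (Lpn (LP (LK LD1_c4 LD2_c24 LD3_c6))))))))))))))))))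
theorem f35879 : Led Lsl_gt (LP (LK LD1_c4 LD2_c24 LD3_c6)) = (LP (LK LD1_c8 LD2_c45 LD3_c60)) :=
  Lre_g IH (LK LD1_c4 LD2_c24 LD3_c6) (LK LD1_c8 LD2_c45 LD3_c60) Lrfl Lrfl
theorem f469682 : Led Lsl_ct (LP (LK LD1_c13 LD2_c55 LD3_c61)) = (LP (LK LD1_c22 LD2_c32 LD3_c51)) :=
  Lgr Lrot40 (Lpr_ff (K34.f469674 IH) (Lpr_cf (K34.f122047 IH) (Lpr_ff (f464076 IH) (Lpn (LP (LK LD1_c22 LD2_c32 LD3_c51))))))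
theorem f469680 : Led Lsl_bt (LP (LK LD1_c13 LD2_c55 LD3_c61)) = (LP (LK LD1_c14 LD2_c5 LD3_c12)) :=
  Lgr Lrot35 (Lpr_ff (K34.f469674 IH) (Lpr_bf (K28.f209121 IH) (Lpe (K37.f209132 IH) (Lpn (LP (LK LD1_c14 LD2_c5 LD3_c12))))))
theorem f469286 : Led Lsl_bf (LP (LK LD1_c7 LD2_c27 LD3_c47)) = (LP (LK LD1_c7 LD2_c21 LD3_c52)) :=
  Lgr Lrot24 (Lpr_bt (K39.f469284 IH) (Lpn (LP (LK LD1_c7 LD2_c21 LD3_c52))))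
theorem f576643 : Led Lsl_cf (LP (LK LD1_c8 LD2_c45 LD3_c60)) = (LP (LK LD1_c7 LD2_c21 LD3_c52)) :=
  Lgr Lrot163 (Lpe (f35879 IH) (Lpe (f560393 IH) (Lpr_gf (f560413 IH) (Lpe (f576636 IH) (Lpr_ct (f576637 IH) (Lpr_gf (f464090 IH) (Lpe (f469682 IH) (Lpr_bt (f469680 IH) (Lpe (K37.f469280 IH) (Lpr_bf (f469286 IH) (Lpn (LP (LK LD1_c7 LD2_c21 LD3_c52)))))))))))))
theorem f576648 : Led Lsl_ct (LP (LK LD1_c8 LD2_c45 LD3_c60)) = (LP (LK LD1_c7 LD2_c21 LD3_c52)) :=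
  Lgr Lrot59 (Lpr_cf (f576643 IH) (Lpn (LP (LK LD1_c7 LD2_c21 LD3_c52))))
theorem f576596 : Led Lsl_bf (LP (LK LD1_c4 LD2_c24 LD3_c6)) = (LP (LK LD1_c7 LD2_c12 LD3_c31)) :=
  Lgr Lrot90 (Lpr_ct (f576594 IH) (Lpr_bt (K8.f147160 IH) (Lpe (K33.f123733 IH) (Lpr_bt (K4.f111814 IH) (Lpe (K34.f17870 IH) (Lpn (LP (LK LD1_c7 LD2_c12 LD3_c31))))))))
theorem f17928 : Led Lsl_gt (LP (LK LD1_c22 LD2_c33 LD3_c9)) = (LP (LK LD1_c13 LD2_c17 LD3_c23)) :=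
  Lre_g IH (LK LD1_c22 LD2_c33 LD3_c9) (LK LD1_c13 LD2_c17 LD3_c23) Lrfl Lrfl
theorem f543387 : Led Lsl_bt (LP (LK LD1_c6 LD2_c14 LD3_c58)) = (LP (LK LD1_c12 LD2_c7 LD3_c48)) :=
  Lre_b IH (LK LD1_c6 LD2_c14 LD3_c58) (LK LD1_c12 LD2_c7 LD3_c48) Lrfl Lrfl
theorem f576827 : Led Lsl_gf (LP (LK LD1_c7 LD2_c17 LD3_c12)) = (LP (LK LD1_c12 LD2_c7 LD3_c48)) :=
  Lgr Lrot124 (Lpe (f18051 IH) (Lpe (f476506 IH) (Lpr_gt (f17928 IH) (Lpe (K34.f17919 IH) (Lpe (f576596 IH) (Lpr_gt (f35879 IH) (Lpr_ct (f576648 IH) (Lpe (K39.f543404 IH) (Lpe (K11.f75744 IH) (Lpr_bt (f543387 IH) (Lpn (LP (LK LD1_c12 LD2_c7 LD3_c48)))))))))))))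
theorem f97539 : Led Lsl_dt (LP (LK LD1_c13 LD2_c47 LD3_c11)) = (LP (LK LD1_c7 LD2_c17 LD3_c12)) :=
  Lre_d IH (LK LD1_c13 LD2_c47 LD3_c11) (LK LD1_c7 LD2_c17 LD3_c12) Lrfl Lrfl
theorem f202322 : Led Lsl_dt (LP (LK LD1_c6 LD2_c14 LD3_c45)) = (LP (LK LD1_c12 LD2_c7 LD3_c48)) :=
  Lre_d IH (LK LD1_c6 LD2_c14 LD3_c45) (LK LD1_c12 LD2_c7 LD3_c48) Lrfl Lrfl
theorem f75739 : Led Lsl_gt (LP (LK LD1_c12 LD2_c7 LD3_c29)) = (LP (LK LD1_c6 LD2_c14 LD3_c45)) :=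
  Lre_g IH (LK LD1_c12 LD2_c7 LD3_c29) (LK LD1_c6 LD2_c14 LD3_c45) Lrfl Lrfl
theorem f202320 : Led Lsl_gt (LP (LK LD1_c20 LD2_c30 LD3_c60)) = (LP (LK LD1_c11 LD2_c34 LD3_c30)) :=
  Lre_g IH (LK LD1_c20 LD2_c30 LD3_c60) (LK LD1_c11 LD2_c34 LD3_c30) Lrfl Lrfl
theorem f70983 : Led Lsl_dt (LP (LK LD1_c11 LD2_c33 LD3_c39)) = (LP (LK LD1_c20 LD2_c30 LD3_c60)) :=
  Lre_d IH (LK LD1_c11 LD2_c33 LD3_c39) (LK LD1_c20 LD2_c30 LD3_c60) Lrfl Lrfl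
theorem f202321 : Led Lsl_gt (LP (LK LD1_c9 LD2_c8 LD3_c28)) = (LP (LK LD1_c17 LD2_c0 LD3_c41)) :=
  Lre_g IH (LK LD1_c9 LD2_c8 LD3_c28) (LK LD1_c17 LD2_c0 LD3_c41) Lrfl Lrfl
theorem f576848 : Led Lsl_et (LP (LK LD1_c13 LD2_c47 LD3_c11)) = (LP (LK LD1_c9 LD2_c8 LD3_c28)) :=
  Lgr Lrot185 (Lpr_dt (f97539 IH) (Lpr_gf (f576827 IH) (Lpe (f202322 IH) (Lpe (f75739 IH) (Lpe (f202311 IH) (Lpr_dt (f138311 IH) (Lpe (f202320 IH) (Lpe (f70983 IH) (Lpe (K2.f70942 IH) (Lpe (f202321 IH) (Lpn (LP (LK LD1_c9 LD2_c8 LD3_c28)))))))))))))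
theorem f97540 : Led Lsl_dt (LP (LK LD1_c7 LD2_c17 LD3_c12)) = (LP (LK LD1_c13 LD2_c47 LD3_c11)) :=
  Lre_d IH (LK LD1_c7 LD2_c17 LD3_c12) (LK LD1_c13 LD2_c47 LD3_c11) Lrfl Lrfl
theorem f72192 : Led Lsl_dt (LP (LK LD1_c9 LD2_c8 LD3_c28)) = (LP (LK LD1_c17 LD2_c1 LD3_c1)) :=
  Lre_d IH (LK LD1_c9 LD2_c8 LD3_c28) (LK LD1_c17 LD2_c1 LD3_c1) Lrfl Lrfl
theorem f576856 : Led Lsl_ef (LP (LK LD1_c22 LD2_c47 LD3_c58)) = (LP (LK LD1_c17 LD2_c1 LD3_c1)) :=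
  Lgr Lrot73 (Lpr_dt (f575385 IH) (Lpr_et (f519735 IH) (Lpr_dt (f97540 IH) (Lpr_et (f576848 IH) (Lpr_dt (f72192 IH) (Lpn (LP (LK LD1_c17 LD2_c1 LD3_c1))))))))
theorem f136381 : Led Lsl_dt (LP (LK LD1_c13 LD2_c41 LD3_c25)) = (LP (LK LD1_c7 LD2_c14 LD3_c1)) :=
  Lre_d IH (LK LD1_c13 LD2_c41 LD3_c25) (LK LD1_c7 LD2_c14 LD3_c1) Lrfl Lrfl
theorem f576865 : Led Lsl_dt (LP (LK LD1_c17 LD2_c1 LD3_c1)) = (LP (LK LD1_c9 LD2_c8 LD3_c28)) :=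
  Lre_d IH (LK LD1_c17 LD2_c1 LD3_c1) (LK LD1_c9 LD2_c8 LD3_c28) Lrfl Lrfl
theorem f72191 : Led Lsl_gt (LP (LK LD1_c4 LD2_c36 LD3_c9)) = (LP (LK LD1_c9 LD2_c8 LD3_c28)) :=
  Lre_g IH (LK LD1_c4 LD2_c36 LD3_c9) (LK LD1_c9 LD2_c8 LD3_c28) Lrfl Lrfl
theorem f420782 : Led Lsl_dt (LP (LK LD1_c9 LD2_c8 LD3_c30)) = (LP (LK LD1_c4 LD2_c36 LD3_c9)) :=
  Lre_d IH (LK LD1_c9 LD2_c8 LD3_c30) (LK LD1_c4 LD2_c36 LD3_c9) Lrfl Lrfl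
theorem f420770 : Led Lsl_et (LP (LK LD1_c9 LD2_c8 LD3_c30)) = (LP (LK LD1_c4 LD2_c36 LD3_c12)) :=
  Lre_e IH (LK LD1_c9 LD2_c8 LD3_c30) (LK LD1_c4 LD2_c36 LD3_c12) Lrfl Lrfl
theorem f576874 : Led Lsl_et (LP (LK LD1_c13 LD2_c41 LD3_c25)) = (LP (LK LD1_c9 LD2_c8 LD3_c35)) :=
  Lgr Lrot185 (Lpr_dt (f136381 IH) (Lpr_gf (K33.f488815 IH) (Lpe (K35.f481130 IH) (Lpe (f481140 IH) (Lpr_ef (f576856 IH) (Lpr_dt (f576865 IH) (Lpe (f72191 IH) (Lpe (f420782 IH) (Lpr_et (f420770 IH) (Lpe (K40.f193813 IH) (Lpn (LP (LK LD1_c9 LD2_c8 LD3_c35)))))))))))))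
theorem f96796 : Led Lsl_dt (LP (LK LD1_c7 LD2_c7 LD3_c50)) = (LP (LK LD1_c13 LD2_c30 LD3_c22)) :=
  Lre_d IH (LK LD1_c7 LD2_c7 LD3_c50) (LK LD1_c13 LD2_c30 LD3_c22) Lrfl Lrfl
theorem f162212 : Led Lsl_af (LP (LK LD1_c13 LD2_c41 LD3_c25)) = (LP (LK LD1_c13 LD2_c30 LD3_c22)) :=
  Lgr Lrot117 (Lpr_dt (f136381 IH) (Lpr_at (K8.f162206 IH) (Lpr_dt (f96796 IH) (Lpn (LP (LK LD1_c13 LD2_c30 LD3_c22))))))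
theorem f559120 : Led Lsl_af (LP (LK LD1_c12 LD2_c7 LD3_c49)) = (LP (LK LD1_c9 LD2_c8 LD3_c35)) :=
  Lgr Lrot117 (Lpr_dt (K38.f424557 IH) (Lpe (K38.f547104 IH) (Lpr_dt (K40.f559118 IH) (Lpn (LP (LK LD1_c9 LD2_c8 LD3_c35))))))
theorem f576876 : Led Lsl_ef (LP (LK LD1_c13 LD2_c30 LD3_c22)) = (LP (LK LD1_c12 LD2_c7 LD3_c49)) :=
  Lgr Lrot20 (Lpe (f162212 IH) (Lpr_et (f576874 IH) (Lpe (f559120 IH) (Lpn (LP (LK LD1_c12 LD2_c7 LD3_c49))))))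
theorem f576902 : Led Lsl_et (LP (LK LD1_c13 LD2_c30 LD3_c22)) = (LP (LK LD1_c12 LD2_c7 LD3_c49)) :=
  Lgr Lrot87 (Lpr_ef (f576876 IH) (Lpn (LP (LK LD1_c12 LD2_c7 LD3_c49))))
theorem f162214 : Led Lsl_at (LP (LK LD1_c13 LD2_c41 LD3_c25)) = (LP (LK LD1_c13 LD2_c30 LD3_c22)) :=
  Lgr Lrot100 (Lpr_af (f162212 IH) (Lpn (LP (LK LD1_c13 LD2_c30 LD3_c22))))
theorem f576880 : Led Lsl_ef (LP (LK LD1_c13 LD2_c41 LD3_c25)) = (LP (LK LD1_c9 LD2_c8 LD3_c35)) :=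
  Lgr Lrot88 (Lpr_et (f576874 IH) (Lpn (LP (LK LD1_c9 LD2_c8 LD3_c35))))
theorem f576915 : Led Lsl_af (LP (LK LD1_c9 LD2_c8 LD3_c35)) = (LP (LK LD1_c12 LD2_c7 LD3_c49)) :=
  Lgr Lrot50 (Lpe (f576880 IH) (Lpr_at (f162214 IH) (Lpr_et (f576902 IH) (Lpn (LP (LK LD1_c12 LD2_c7 LD3_c49))))))
theorem f559128 : Led Lsl_ct (LP (LK LD1_c17 LD2_c1 LD3_c16)) = (LP (LK LD1_c9 LD2_c8 LD3_c35)) :=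
  Lre_c IH (LK LD1_c17 LD2_c1 LD3_c16) (LK LD1_c9 LD2_c8 LD3_c35) Lrfl Lrfl
theorem f559129 : Led Lsl_dt (LP (LK LD1_c26 LD2_c56 LD3_c28)) = (LP (LK LD1_c17 LD2_c1 LD3_c16)) :=
  Lre_d IH (LK LD1_c26 LD2_c56 LD3_c28) (LK LD1_c17 LD2_c1 LD3_c16) Lrfl Lrfl
theorem f566878 : Led Lsl_ft (LP (LK LD1_c9 LD2_c8 LD3_c34)) = (LP (LK LD1_c12 LD2_c7 LD3_c49)) :=
  Lgr Lrot54 (Lpr_df (K41.f566870 IH) (Lpe (K40.f547113 IH) (Lpe (K38.f424557 IH) (Lpn (LP (LK LD1_c12 LD2_c7 LD3_c49))))))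
theorem f566874 : Led Lsl_dt (LP (LK LD1_c9 LD2_c8 LD3_c34)) = (LP (LK LD1_c12 LD2_c7 LD3_c50)) :=
  Lgr Lrot42 (Lpr_df (K41.f566870 IH) (Lpn (LP (LK LD1_c12 LD2_c7 LD3_c50))))
theorem f179954 : Led Lsl_bt (LP (LK LD1_c2 LD2_c0 LD3_c12)) = (LP (LK LD1_c4 LD2_c5 LD3_c45)) :=
  Lre_b IH (LK LD1_c2 LD2_c0 LD3_c12) (LK LD1_c4 LD2_c5 LD3_c45) Lrfl Lrfl
theorem f182423 : Led Lsl_ct (LP (LK LD1_c4 LD2_c5 LD3_c45)) = (LP (LK LD1_c8 LD2_c3 LD3_c31)) :=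
  Lgr Lrot83 (Lpe (f179954 IH) (Lpe (K11.f179908 IH) (Lpr_bf (K12.f182416 IH) (Lpe (K13.f182388 IH) (Lpe (K42.f182422 IH) (Lpn (LP (LK LD1_c8 LD2_c3 LD3_c31))))))))
theorem f201593 : Led Lsl_et (LP (LK LD1_c5 LD2_c14 LD3_c0)) = (LP (LK LD1_c2 LD2_c33 LD3_c54)) :=
  Lre_e IH (LK LD1_c5 LD2_c14 LD3_c0) (LK LD1_c2 LD2_c33 LD3_c54) Lrfl Lrfl
theorem f557823 : Led Lsl_et (LP (LK LD1_c2 LD2_c30 LD3_c59)) = (LP (LK LD1_c2 LD2_c53 LD3_c34)) :=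
  Lgr Lrot69 (Lpe (f308557 IH) (Lpe (f201593 IH) (Lpr_ff (K40.f302035 IH) (Lpr_ef (K39.f557122 IH) (Lpr_ff (K40.f557811 IH) (Lpn (LP (LK LD1_c2 LD2_c53 LD3_c34))))))))
theorem f53250 : Led Lsl_bf (LP (LK LD1_c5 LD2_c7 LD3_c19)) = (LP (LK LD1_c4 LD2_c12 LD3_c9)) :=
  Lgr Lrot24 (Lpr_bt (K32.f53245 IH) (Lpn (LP (LK LD1_c4 LD2_c12 LD3_c9))))
theorem f544893 : Led Lsl_gt (LP (LK LD1_c5 LD2_c7 LD3_c19)) = (LP (LK LD1_c8 LD2_c3 LD3_c30)) :=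
  Lgr Lrot164 (Lpr_bf (f53250 IH) (Lpr_ct (K13.f53254 IH) (Lpr_gf (K13.f240616 IH) (Lpe (K13.f239489 IH) (Lpr_gf (K13.f212058 IH) (Lpr_bf (K38.f544889 IH) (Lpe (K13.f240053 IH) (Lpe (K13.f21746 IH) (Lpr_cf (K15.f240519 IH) (Lpr_bt (K39.f242830 IH) (Lpn (LP (LK LD1_c8 LD2_c3 LD3_c30)))))))))))))
theorem f566880 : Led Lsl_gt (LP (LK LD1_c8 LD2_c3 LD3_c31)) = (LP (LK LD1_c12 LD2_c7 LD3_c50)) :=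
  Lgr Lrot137 (Lpe (K42.f182443 IH) (Lpr_dt (K39.f182441 IH) (Lpe (f544893 IH) (Lpe (K32.f53243 IH) (Lpr_et (f557823 IH) (Lpe (K41.f71077 IH) (Lpe (K2.f71045 IH) (Lpr_dt (K40.f71072 IH) (Lpe (K41.f71076 IH) (Lpr_df (K41.f566870 IH) (Lpn (LP (LK LD1_c12 LD2_c7 LD3_c50)))))))))))))
theorem f202298 : Led Lsl_gt (LP (LK LD1_c4 LD2_c36 LD3_c27)) = (LP (LK LD1_c9 LD2_c9 LD3_c0)) :=
  Lre_g IH (LK LD1_c4 LD2_c36 LD3_c27) (LK LD1_c9 LD2_c9 LD3_c0) Lrfl Lrfl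
theorem f562926 : Led Lsl_gf (LP (LK LD1_c2 LD2_c54 LD3_c50)) = (LP (LK LD1_c4 LD2_c38 LD3_c24)) :=
  Lgr Lrot47 (Lpr_gt (K40.f82179 IH) (Lpe (K40.f71435 IH) (Lpr_ff (K40.f562873 IH) (Lpn (LP (LK LD1_c4 LD2_c38 LD3_c24))))))
theorem f139004 : Led Lsl_bt (LP (LK LD1_c2 LD2_c27 LD3_c27)) = (LP (LK LD1_c4 LD2_c58 LD3_c59)) :=
  Lre_b IH (LK LD1_c2 LD2_c27 LD3_c27) (LK LD1_c4 LD2_c58 LD3_c59) Lrfl Lrfl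
theorem f138838 : Led Lsl_gt (LP (LK LD1_c4 LD2_c58 LD3_c59)) = (LP (LK LD1_c9 LD2_c48 LD3_c19)) :=
  Lre_g IH (LK LD1_c4 LD2_c58 LD3_c59) (LK LD1_c9 LD2_c48 LD3_c19) Lrfl Lrfl
theorem f71981 : Led Lsl_bt (LP (LK LD1_c2 LD2_c54 LD3_c19)) = (LP (LK LD1_c4 LD2_c36 LD3_c3)) :=
  Lgr Lrot95 (Lpe (K41.f71979 IH) (Lpr_bf (K40.f71973 IH) (Lpe (K39.f71980 IH) (Lpn (LP (LK LD1_c4 LD2_c36 LD3_c3))))))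
theorem f72000 : Led Lsl_ft (LP (LK LD1_c4 LD2_c36 LD3_c3)) = (LP (LK LD1_c9 LD2_c8 LD3_c22)) :=
  Lre_f IH (LK LD1_c4 LD2_c36 LD3_c3) (LK LD1_c9 LD2_c8 LD3_c22) Lrfl Lrfl
theorem f562917 : Led Lsl_bt (LP (LK LD1_c9 LD2_c8 LD3_c22)) = (LP (LK LD1_c4 LD2_c38 LD3_c24)) :=
  Lgr Lrot35 (Lpe (f72000 IH) (Lpe (f71981 IH) (Lpr_ff (K40.f562873 IH) (Lpn (LP (LK LD1_c4 LD2_c38 LD3_c24))))))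
theorem f562930 : Led Lsl_gt (LP (LK LD1_c9 LD2_c9 LD3_c0)) = (LP (LK LD1_c17 LD2_c0 LD3_c54)) :=
  Lre_g IH (LK LD1_c9 LD2_c9 LD3_c0) (LK LD1_c17 LD2_c0 LD3_c54) Lrfl Lrfl
theorem f562933 : Led Lsl_ct (LP (LK LD1_c9 LD2_c48 LD3_c19)) = (LP (LK LD1_c9 LD2_c9 LD3_c0)) :=
  Lgr Lrot91 (Lpe (f138838 IH) (Lpe (f139004 IH) (Lpr_ct (K37.f539890 IH) (Lpe (K40.f545792 IH) (Lpe (K40.f558497 IH) (Lpr_bt (K40.f82180 IH) (Lpr_gf (f562926 IH) (Lpe (f562917 IH) (Lpr_ct (K38.f202301 IH) (Lpe (f562930 IH) (Lpn (LP (LK LD1_c9 LD2_c9 LD3_c0)))))))))))))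
theorem f562938 : Led Lsl_cf (LP (LK LD1_c9 LD2_c48 LD3_c19)) = (LP (LK LD1_c9 LD2_c9 LD3_c0)) :=
  Lgr Lrot11 (Lpr_ct (f562933 IH) (Lpn (LP (LK LD1_c9 LD2_c9 LD3_c0))))
theorem f569091 : Led Lsl_dt (LP (LK LD1_c11 LD2_c8 LD3_c21)) = (LP (LK LD1_c9 LD2_c48 LD3_c19)) :=
  Lgr Lrot27 (Lpr_cf (K40.f547114 IH) (Lpe (f566880 IH) (Lpe (f182423 IH) (Lpr_gf (K42.f569085 IH) (Lpe (K37.f202292 IH) (Lpr_gt (f198303 IH) (Lpr_ct (K42.f202297 IH) (Lpr_gt (f202298 IH) (Lpe (f562938 IH) (Lpn (LP (LK LD1_c9 LD2_c48 LD3_c19))))))))))))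
theorem f562940 : Led Lsl_dt (LP (LK LD1_c9 LD2_c9 LD3_c0)) = (LP (LK LD1_c17 LD2_c1 LD3_c59)) :=
  Lre_d IH (LK LD1_c9 LD2_c9 LD3_c0) (LK LD1_c17 LD2_c1 LD3_c59) Lrfl Lrfl
theorem f577035 : Led Lsl_cf (LP (LK LD1_c26 LD2_c56 LD3_c28)) = (LP (LK LD1_c17 LD2_c1 LD3_c59)) :=
  Lgr Lrot161 (Lpr_dt (f559129 IH) (Lpr_ct (f559128 IH) (Lpr_af (f576915 IH) (Lpe (f566878 IH) (Lpr_dt (f566874 IH) (Lpe (K40.f547114 IH) (Lpr_dt (f569091 IH) (Lpr_ct (f562933 IH) (Lpr_dt (f562940 IH) (Lpn (LP (LK LD1_c17 LD2_c1 LD3_c59))))))))))))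
theorem f559126 : Led Lsl_df (LP (LK LD1_c5 LD2_c49 LD3_c12)) = (LP (LK LD1_c9 LD2_c8 LD3_c35)) :=
  Lgr Lrot38 (Lpr_dt (K40.f559118 IH) (Lpn (LP (LK LD1_c9 LD2_c8 LD3_c35))))
theorem f549010 : Led Lsl_af (LP (LK LD1_c9 LD2_c9 LD3_c1)) = (LP (LK LD1_c17 LD2_c0 LD3_c51)) :=
  Lgr Lrot68 (Lpe (K38.f548656 IH) (Lpr_at (K38.f501222 IH) (Lpr_ct (K38.f549008 IH) (Lpn (LP (LK LD1_c17 LD2_c0 LD3_c51))))))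
theorem f577043 : Led Lsl_ff (LP (LK LD1_c17 LD2_c0 LD3_c51)) = (LP (LK LD1_c9 LD2_c9 LD3_c0)) :=
  Lgr Lrot103 (Lpe (f549010 IH) (Lpe (K38.f548651 IH) (Lpe (K41.f450380 IH) (Lpe (K38.f176621 IH) (Lpr_df (f559126 IH) (Lpe (f559128 IH) (Lpe (f559129 IH) (Lpr_cf (f577035 IH) (Lpe (f562940 IH) (Lpn (LP (LK LD1_c9 LD2_c9 LD3_c0))))))))))))
theorem f577052 : Led Lsl_ft (LP (LK LD1_c17 LD2_c0 LD3_c51)) = (LP (LK LD1_c9 LD2_c9 LD3_c0)) :=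
  Lgr Lrot48 (Lpr_ff (f577043 IH) (Lpn (LP (LK LD1_c9 LD2_c9 LD3_c0))))
theorem f420822 : Led Lsl_dt (LP (LK LD1_c26 LD2_c55 LD3_c53)) = (LP (LK LD1_c17 LD2_c0 LD3_c51)) :=
  Lre_d IH (LK LD1_c26 LD2_c55 LD3_c53) (LK LD1_c17 LD2_c0 LD3_c51) Lrfl Lrfl
theorem f577058 : Led Lsl_ff (LP (LK LD1_c26 LD2_c55 LD3_c53)) = (LP (LK LD1_c17 LD2_c1 LD3_c59)) :=
  Lgr Lrot19 (Lpr_dt (f420822 IH) (Lpr_ft (f577052 IH) (Lpr_dt (f562940 IH) (Lpn (LP (LK LD1_c17 LD2_c1 LD3_c59))))))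
theorem f96810 : Led Lsl_ct (LP (LK LD1_c22 LD2_c51 LD3_c9)) = (LP (LK LD1_c13 LD2_c30 LD3_c22)) :=
  Lre_c IH (LK LD1_c22 LD2_c51 LD3_c9) (LK LD1_c13 LD2_c30 LD3_c22) Lrfl Lrfl
theorem f424555 : Led Lsl_ct (LP (LK LD1_c12 LD2_c7 LD3_c49)) = (LP (LK LD1_c21 LD2_c14 LD3_c12)) :=
  Lre_c IH (LK LD1_c12 LD2_c7 LD3_c49) (LK LD1_c21 LD2_c14 LD3_c12) Lrfl Lrfl
theorem f576917 : Led Lsl_ef (LP (LK LD1_c22 LD2_c51 LD3_c9)) = (LP (LK LD1_c21 LD2_c14 LD3_c12)) :=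
  Lgr Lrot28 (Lpr_ct (f96810 IH) (Lpr_et (f576902 IH) (Lpr_ct (f424555 IH) (Lpn (LP (LK LD1_c21 LD2_c14 LD3_c12))))))
theorem f155702 : Led Lsl_ct (LP (LK LD1_c13 LD2_c41 LD3_c25)) = (LP (LK LD1_c23 LD2_c7 LD3_c1)) :=
  Lre_c IH (LK LD1_c13 LD2_c41 LD3_c25) (LK LD1_c23 LD2_c7 LD3_c1) Lrfl Lrfl
theorem f162217 : Led Lsl_at (LP (LK LD1_c23 LD2_c7 LD3_c1)) = (LP (LK LD1_c22 LD2_c51 LD3_c9)) :=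
  Lgr Lrot107 (Lpe (f155702 IH) (Lpr_af (f162212 IH) (Lpe (f96810 IH) (Lpn (LP (LK LD1_c22 LD2_c51 LD3_c9))))))
theorem f162219 : Led Lsl_af (LP (LK LD1_c23 LD2_c7 LD3_c1)) = (LP (LK LD1_c22 LD2_c51 LD3_c9)) :=
  Lgr Lrot0 (Lpr_at (f162217 IH) (Lpn (LP (LK LD1_c22 LD2_c51 LD3_c9))))
theorem f576887 : Led Lsl_et (LP (LK LD1_c23 LD2_c7 LD3_c1)) = (LP (LK LD1_c17 LD2_c1 LD3_c16)) :=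
  Lgr Lrot158 (Lpe (f155702 IH) (Lpr_ef (f576880 IH) (Lpe (f559128 IH) (Lpn (LP (LK LD1_c17 LD2_c1 LD3_c16))))))
theorem f577025 : Led Lsl_at (LP (LK LD1_c17 LD2_c1 LD3_c16)) = (LP (LK LD1_c21 LD2_c14 LD3_c12)) :=
  Lgr Lrot80 (Lpe (f576887 IH) (Lpr_af (f162219 IH) (Lpr_ef (f576917 IH) (Lpn (LP (LK LD1_c21 LD2_c14 LD3_c12))))))
theorem f577029 : Led Lsl_af (LP (LK LD1_c26 LD2_c56 LD3_c28)) = (LP (LK LD1_c29 LD2_c27 LD3_c50)) :=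
  Lgr Lrot117 (Lpr_dt (f559129 IH) (Lpr_at (f577025 IH) (Lpe (K42.f548987 IH) (Lpn (LP (LK LD1_c29 LD2_c27 LD3_c50))))))
theorem f577031 : Led Lsl_at (LP (LK LD1_c26 LD2_c56 LD3_c28)) = (LP (LK LD1_c29 LD2_c27 LD3_c50)) :=
  Lgr Lrot100 (Lpr_af (f577029 IH) (Lpn (LP (LK LD1_c29 LD2_c27 LD3_c50))))
theorem f577037 : Led Lsl_at (LP (LK LD1_c20 LD2_c28 LD3_c14)) = (LP (LK LD1_c17 LD2_c1 LD3_c59)) :=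
  Lgr Lrot107 (Lpe (K42.f536446 IH) (Lpe (f577031 IH) (Lpr_cf (f577035 IH) (Lpn (LP (LK LD1_c17 LD2_c1 LD3_c59))))))
theorem f536435 : Led Lsl_dt (LP (LK LD1_c20 LD2_c28 LD3_c14)) = (LP (LK LD1_c11 LD2_c31 LD3_c39)) :=
  Lre_d IH (LK LD1_c20 LD2_c28 LD3_c14) (LK LD1_c11 LD2_c31 LD3_c39) Lrfl Lrfl
theorem f549004 : Led Lsl_ff (LP (LK LD1_c20 LD2_c28 LD3_c14)) = (LP (LK LD1_c17 LD2_c2 LD3_c0)) :=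
  Lgr Lrot19 (Lpr_dt (f536435 IH) (Lpr_ft (K38.f549000 IH) (Lpr_dt (K42.f202303 IH) (Lpn (LP (LK LD1_c17 LD2_c2 LD3_c0))))))
theorem f577060 : Led Lsl_at (LP (LK LD1_c26 LD2_c55 LD3_c53)) = (LP (LK LD1_c17 LD2_c2 LD3_c0)) :=
  Lgr Lrot66 (Lpr_ff (f577058 IH) (Lpe (f577037 IH) (Lpr_ff (f549004 IH) (Lpn (LP (LK LD1_c17 LD2_c2 LD3_c0))))))
theorem f577062 : Led Lsl_gf (LP (LK LD1_c21 LD2_c11 LD3_c26)) = (LP (LK LD1_c17 LD2_c1 LD3_c59)) :=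
  Lgr Lrot47 (Lpr_gt (K42.f569231 IH) (Lpe (f577060 IH) (Lpr_ff (f577058 IH) (Lpn (LP (LK LD1_c17 LD2_c1 LD3_c59))))))
theorem f549795 : Led Lsl_af (LP (LK LD1_c21 LD2_c11 LD3_c26)) = (LP (LK LD1_c17 LD2_c53 LD3_c55)) :=
  Lgr Lrot0 (Lpr_at (K42.f549793 IH) (Lpn (LP (LK LD1_c17 LD2_c53 LD3_c55))))
theorem f577064 : Led Lsl_gt (LP (LK LD1_c20 LD2_c29 LD3_c21)) = (LP (LK LD1_c17 LD2_c1 LD3_c59)) :=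
  Lgr Lrot5 (Lpr_ft (K42.f385289 IH) (Lpe (f549795 IH) (Lpr_gf (f577062 IH) (Lpn (LP (LK LD1_c17 LD2_c1 LD3_c59))))))
theorem f198558 : Led Lsl_ct (LP (LK LD1_c29 LD2_c28 LD3_c20)) = (LP (LK LD1_c20 LD2_c29 LD3_c21)) :=
  Lre_c IH (LK LD1_c29 LD2_c28 LD3_c20) (LK LD1_c20 LD2_c29 LD3_c21) Lrfl Lrfl
theorem f559125 : Led Lsl_dt (LP (LK LD1_c17 LD2_c1 LD3_c16)) = (LP (LK LD1_c26 LD2_c56 LD3_c28)) :=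
  Lre_d IH (LK LD1_c17 LD2_c1 LD3_c16) (LK LD1_c26 LD2_c56 LD3_c28) Lrfl Lrfl
theorem f559124 : Led Lsl_ct (LP (LK LD1_c9 LD2_c8 LD3_c35)) = (LP (LK LD1_c17 LD2_c1 LD3_c16)) :=
  Lre_c IH (LK LD1_c9 LD2_c8 LD3_c35) (LK LD1_c17 LD2_c1 LD3_c16) Lrfl Lrfl
theorem f547297 : Led Lsl_ct (LP (LK LD1_c26 LD2_c55 LD3_c45)) = (LP (LK LD1_c17 LD2_c0 LD3_c44)) :=
  Lre_c IH (LK LD1_c26 LD2_c55 LD3_c45) (LK LD1_c17 LD2_c0 LD3_c44) Lrfl Lrfl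
theorem f565088 : Led Lsl_gt (LP (LK LD1_c17 LD2_c1 LD3_c17)) = (LP (LK LD1_c26 LD2_c55 LD3_c45)) :=
  Lre_g IH (LK LD1_c17 LD2_c1 LD3_c17) (LK LD1_c26 LD2_c55 LD3_c45) Lrfl Lrfl
theorem f569233 : Led Lsl_dt (LP (LK LD1_c26 LD2_c56 LD3_c29)) = (LP (LK LD1_c17 LD2_c1 LD3_c17)) :=
  Lre_d IH (LK LD1_c26 LD2_c56 LD3_c29) (LK LD1_c17 LD2_c1 LD3_c17) Lrfl Lrfl
theorem f577070 : Led Lsl_gf (LP (LK LD1_c29 LD2_c28 LD3_c20)) = (LP (LK LD1_c26 LD2_c56 LD3_c29)) :=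
  Lgr Lrot147 (Lpr_ct (f198558 IH) (Lpr_gt (f577064 IH) (Lpe (f577035 IH) (Lpe (f559125 IH) (Lpe (f559124 IH) (Lpe (K40.f71073 IH) (Lpe (f547297 IH) (Lpe (f565088 IH) (Lpe (f569233 IH) (Lpn (LP (LK LD1_c26 LD2_c56 LD3_c29))))))))))))
theorem f420795 : Led Lsl_dt (LP (LK LD1_c17 LD2_c1 LD3_c17)) = (LP (LK LD1_c26 LD2_c56 LD3_c29)) :=
  Lre_d IH (LK LD1_c17 LD2_c1 LD3_c17) (LK LD1_c26 LD2_c56 LD3_c29) Lrfl Lrfl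
theorem f420778 : Led Lsl_gt (LP (LK LD1_c9 LD2_c8 LD3_c36)) = (LP (LK LD1_c17 LD2_c1 LD3_c17)) :=
  Lre_g IH (LK LD1_c9 LD2_c8 LD3_c36) (LK LD1_c17 LD2_c1 LD3_c17) Lrfl Lrfl
theorem f71940 : Led Lsl_gt (LP (LK LD1_c11 LD2_c36 LD3_c53)) = (LP (LK LD1_c5 LD2_c55 LD3_c50)) :=
  Lre_g IH (LK LD1_c11 LD2_c36 LD3_c53) (LK LD1_c5 LD2_c55 LD3_c50) Lrfl Lrfl
theorem f173307 : Led Lsl_gt (LP (LK LD1_c4 LD2_c22 LD3_c33)) = (LP (LK LD1_c8 LD2_c42 LD3_c60)) :=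
  Lre_g IH (LK LD1_c4 LD2_c22 LD3_c33) (LK LD1_c8 LD2_c42 LD3_c60) Lrfl Lrfl
theorem f71935 : Led Lsl_et (LP (LK LD1_c2 LD2_c54 LD3_c16)) = (LP (LK LD1_c1 LD2_c23 LD3_c7)) :=
  Lre_e IH (LK LD1_c2 LD2_c54 LD3_c16) (LK LD1_c1 LD2_c23 LD3_c7) Lrfl Lrfl
theorem f547550 : Led Lsl_dt (LP (LK LD1_c8 LD2_c42 LD3_c60)) = (LP (LK LD1_c11 LD2_c36 LD3_c53)) :=
  Lgr Lrot171 (Lpe (f173307 IH) (Lpe (K30.f173306 IH) (Lpr_dt (K18.f173337 IH) (Lpe (K31.f173333 IH) (Lpr_df (K31.f398544 IH) (Lpr_et (K38.f547544 IH) (Lpe (K6.f71936 IH) (Lpe (f71935 IH) (Lpr_dt (K42.f71939 IH) (Lpe (f71940 IH) (Lpn (LP (LK LD1_c11 LD2_c36 LD3_c53)))))))))))))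
theorem f572614 : Led Lsl_gf (LP (LK LD1_c10 LD2_c2 LD3_c52)) = (LP (LK LD1_c8 LD2_c42 LD3_c60)) :=
  Lgr Lrot147 (Lpr_ct (K40.f545208 IH) (Lpr_gt (K42.f572608 IH) (Lpr_ct (K40.f541575 IH) (Lpe (K42.f566872 IH) (Lpr_cf (K41.f540527 IH) (Lpe (K41.f442594 IH) (Lpe (K41.f442503 IH) (Lpe (f71940 IH) (Lpe (f547550 IH) (Lpn (LP (LK LD1_c8 LD2_c42 LD3_c60))))))))))))
theorem f572573 : Led Lsl_bf (LP (LK LD1_c8 LD2_c42 LD3_c60)) = (LP (LK LD1_c7 LD2_c5 LD3_c42)) :=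
  Lgr Lrot34 (Lpe (f173307 IH) (Lpe (K30.f173295 IH) (Lpr_ct (K18.f173317 IH) (Lpe (K10.f173298 IH) (Lpe (K12.f193394 IH) (Lpr_gf (K12.f227332 IH) (Lpe (K42.f571208 IH) (Lpr_ct (K42.f571210 IH) (Lpr_gf (K42.f572561 IH) (Lpe (K34.f97420 IH) (Lpn (LP (LK LD1_c7 LD2_c5 LD3_c42)))))))))))))
theorem f385945 : Led Lsl_af (LP (LK LD1_c4 LD2_c1 LD3_c27)) = (LP (LK LD1_c4 LD2_c2 LD3_c11)) :=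
  Lgr Lrot0 (Lpr_at (K42.f385943 IH) (Lpn (LP (LK LD1_c4 LD2_c2 LD3_c11))))
theorem f385929 : Led Lsl_ft (LP (LK LD1_c4 LD2_c1 LD3_c27)) = (LP (LK LD1_c2 LD2_c26 LD3_c5)) :=
  Lgr Lrot75 (Lpe (K42.f182422 IH) (Lpr_ff (K42.f385273 IH) (Lpe (f182395 IH) (Lpn (LP (LK LD1_c2 LD2_c26 LD3_c5))))))
theorem f385969 : Led Lsl_af (LP (LK LD1_c3 LD2_c59 LD3_c60)) = (LP (LK LD1_c2 LD2_c26 LD3_c5)) :=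
  Lgr Lrot45 (Lpr_ft (K42.f385967 IH) (Lpe (f385945 IH) (Lpr_ft (f385929 IH) (Lpn (LP (LK LD1_c2 LD2_c26 LD3_c5))))))
theorem f386118 : Led Lsl_at (LP (LK LD1_c1 LD2_c56 LD3_c41)) = (LP (LK LD1_c1 LD2_c10 LD3_c13)) :=
  Lgr Lrot80 (Lpe (K13.f210744 IH) (Lpr_af (f385969 IH) (Lpe (K12.f210325 IH) (Lpn (LP (LK LD1_c1 LD2_c10 LD3_c13))))))
theorem f386120 : Led Lsl_bf (LP (LK LD1_c8 LD2_c1 LD3_c1)) = (LP (LK LD1_c4 LD2_c56 LD3_c35)) :=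
  Lgr Lrot81 (Lpr_at (K18.f210764 IH) (Lpr_bt (K18.f210741 IH) (Lpr_at (f386118 IH) (Lpr_bt (K40.f182349 IH) (Lpr_at (K37.f172655 IH) (Lpn (LP (LK LD1_c4 LD2_c56 LD3_c35))))))))
theorem f210442 : Led Lsl_et (LP (LK LD1_c9 LD2_c44 LD3_c35)) = (LP (LK LD1_c4 LD2_c56 LD3_c35)) :=
  Lre_e IH (LK LD1_c9 LD2_c44 LD3_c35) (LK LD1_c4 LD2_c56 LD3_c35) Lrfl Lrfl
theorem f565739 : Led Lsl_bt (LP (LK LD1_c7 LD2_c6 LD3_c31)) = (LP (LK LD1_c9 LD2_c44 LD3_c35)) :=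
  Lgr Lrot119 (Lpr_ef (K41.f565735 IH) (Lpr_bf (f386120 IH) (Lpe (f210442 IH) (Lpn (LP (LK LD1_c9 LD2_c44 LD3_c35))))))
theorem f572616 : Led Lsl_gf (LP (LK LD1_c9 LD2_c44 LD3_c35)) = (LP (LK LD1_c12 LD2_c7 LD3_c50)) :=
  Lgr Lrot124 (Lpe (f565739 IH) (Lpr_ct (K42.f6530 IH) (Lpe (K42.f568844 IH) (Lpe (K34.f97420 IH) (Lpe (f572573 IH) (Lpe (f572614 IH) (Lpr_ct (K40.f545208 IH) (Lpr_gt (K42.f572608 IH) (Lpe (K40.f173313 IH) (Lpr_bt (K40.f562633 IH) (Lpn (LP (LK LD1_c12 LD2_c7 LD3_c50)))))))))))))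
theorem f565085 : Led Lsl_df (LP (LK LD1_c11 LD2_c27 LD3_c40)) = (LP (LK LD1_c17 LD2_c1 LD3_c38)) :=
  Lgr Lrot84 (Lpe (K42.f176630 IH) (Lpe (K42.f548967 IH) (Lpe (K39.f100713 IH) (Lpe (K38.f99510 IH) (Lpe (K38.f99563 IH) (Lpe (K39.f193539 IH) (Lpr_gt (K41.f565083 IH) (Lpr_dt (K42.f549023 IH) (Lpr_gt (K42.f549024 IH) (Lpn (LP (LK LD1_c17 LD2_c1 LD3_c38))))))))))))
theorem f101136 : Led Lsl_gt (LP (LK LD1_c12 LD2_c5 LD3_c5)) = (LP (LK LD1_c21 LD2_c10 LD3_c24)) :=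
  Lre_g IH (LK LD1_c12 LD2_c5 LD3_c5) (LK LD1_c21 LD2_c10 LD3_c24) Lrfl Lrfl
theorem f549725 : Led Lsl_gf (LP (LK LD1_c20 LD2_c38 LD3_c49)) = (LP (LK LD1_c21 LD2_c10 LD3_c24)) :=
  Lgr Lrot76 (Lpr_af (K42.f549717 IH) (Lpr_ff (K42.f549088 IH) (Lpr_gt (f101136 IH) (Lpn (LP (LK LD1_c21 LD2_c10 LD3_c24))))))
theorem f549727 : Led Lsl_ct (LP (LK LD1_c17 LD2_c1 LD3_c38)) = (LP (LK LD1_c21 LD2_c10 LD3_c24)) :=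
  Lgr Lrot152 (Lpe (K42.f549024 IH) (Lpe (K42.f549023 IH) (Lpe (K37.f539929 IH) (Lpr_ct (K42.f422789 IH) (Lpr_gt (K38.f100552 IH) (Lpr_ct (K38.f549014 IH) (Lpe (K38.f418483 IH) (Lpe (K38.f418480 IH) (Lpr_gf (f549725 IH) (Lpn (LP (LK LD1_c21 LD2_c10 LD3_c24))))))))))))
theorem f549729 : Led Lsl_cf (LP (LK LD1_c17 LD2_c1 LD3_c38)) = (LP (LK LD1_c21 LD2_c10 LD3_c24)) :=
  Lgr Lrot11 (Lpr_ct (f549727 IH) (Lpn (LP (LK LD1_c21 LD2_c10 LD3_c24))))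
theorem f99519 : Led Lsl_gt (LP (LK LD1_c12 LD2_c5 LD3_c4)) = (LP (LK LD1_c6 LD2_c13 LD3_c4)) :=
  Lre_g IH (LK LD1_c12 LD2_c5 LD3_c4) (LK LD1_c6 LD2_c13 LD3_c4) Lrfl Lrfl
theorem f574700 : Led Lsl_df (LP (LK LD1_c12 LD2_c5 LD3_c4)) = (LP (LK LD1_c9 LD2_c44 LD3_c35)) :=
  Lgr Lrot155 (Lpr_gt (f99519 IH) (Lpr_ct (K42.f101235 IH) (Lpr_gt (f101136 IH) (Lpe (f549729 IH) (Lpe (f565085 IH) (Lpe (K42.f176630 IH) (Lpe (K39.f176629 IH) (Lpe (K38.f176621 IH) (Lpr_gf (f574692 IH) (Lpn (LP (LK LD1_c9 LD2_c44 LD3_c35))))))))))))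
theorem f547121 : Led Lsl_ct (LP (LK LD1_c21 LD2_c10 LD3_c22)) = (LP (LK LD1_c12 LD2_c5 LD3_c4)) :=
  Lre_c IH (LK LD1_c21 LD2_c10 LD3_c22) (LK LD1_c12 LD2_c5 LD3_c4) Lrfl Lrfl
theorem f577072 : Led Lsl_dt (LP (LK LD1_c29 LD2_c28 LD3_c20)) = (LP (LK LD1_c21 LD2_c10 LD3_c22)) :=
  Lgr Lrot105 (Lpr_gf (f577070 IH) (Lpe (f420795 IH) (Lpe (f420778 IH) (Lpe (K39.f420776 IH) (Lpr_gt (K41.f420803 IH) (Lpr_dt (f566874 IH) (Lpe (f572616 IH) (Lpe (f574700 IH) (Lpe (f547121 IH) (Lpn (LP (LK LD1_c21 LD2_c10 LD3_c22))))))))))))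
theorem f198554 : Led Lsl_ct (LP (LK LD1_c20 LD2_c29 LD3_c21)) = (LP (LK LD1_c29 LD2_c28 LD3_c20)) :=
  Lre_c IH (LK LD1_c20 LD2_c29 LD3_c21) (LK LD1_c29 LD2_c28 LD3_c20) Lrfl Lrfl
theorem f571311 : Led Lsl_df (LP (LK LD1_c8 LD2_c3 LD3_c31)) = (LP (LK LD1_c12 LD2_c5 LD3_c3)) :=
  Lgr Lrot38 (Lpr_dt (K42.f571307 IH) (Lpn (LP (LK LD1_c12 LD2_c5 LD3_c3))))
theorem f577081 : Led Lsl_at (LP (LK LD1_c9 LD2_c44 LD3_c37)) = (LP (LK LD1_c12 LD2_c5 LD3_c4)) :=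
  Lgr Lrot33 (Lpr_ff (K42.f571313 IH) (Lpe (f571311 IH) (Lpe (K42.f182444 IH) (Lpe (K40.f198549 IH) (Lpr_ct (K38.f198532 IH) (Lpr_dt (K42.f198553 IH) (Lpr_ct (f198554 IH) (Lpr_dt (f577072 IH) (Lpr_ct (f547121 IH) (Lpn (LP (LK LD1_c12 LD2_c5 LD3_c4))))))))))))
theorem f574704 : Led Lsl_et (LP (LK LD1_c12 LD2_c5 LD3_c4)) = (LP (LK LD1_c21 LD2_c10 LD3_c23)) :=
  Lre_e IH (LK LD1_c12 LD2_c5 LD3_c4) (LK LD1_c21 LD2_c10 LD3_c23) Lrfl Lrfl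
theorem f577085 : Led Lsl_af (LP (LK LD1_c16 LD2_c22 LD3_c29)) = (LP (LK LD1_c21 LD2_c10 LD3_c23)) :=
  Lgr Lrot50 (Lpr_et (K30.f210394 IH) (Lpr_at (f577081 IH) (Lpr_et (f574704 IH) (Lpn (LP (LK LD1_c21 LD2_c10 LD3_c23))))))
theorem f210420 : Led Lsl_dt (LP (LK LD1_c16 LD2_c22 LD3_c29)) = (LP (LK LD1_c8 LD2_c44 LD3_c54)) :=
  Lre_d IH (LK LD1_c16 LD2_c22 LD3_c29) (LK LD1_c8 LD2_c44 LD3_c54) Lrfl Lrfl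
theorem f386129 : Led Lsl_at (LP (LK LD1_c8 LD2_c44 LD3_c54)) = (LP (LK LD1_c16 LD2_c22 LD3_c25)) :=
  Lre_a IH (LK LD1_c8 LD2_c44 LD3_c54) (LK LD1_c16 LD2_c22 LD3_c25) Lrfl Lrfl
theorem f577096 : Led Lsl_dt (LP (LK LD1_c16 LD2_c22 LD3_c25)) = (LP (LK LD1_c21 LD2_c10 LD3_c23)) :=
  Lgr Lrot44 (Lpe (f386129 IH) (Lpe (f210420 IH) (Lpr_af (f577085 IH) (Lpn (LP (LK LD1_c21 LD2_c10 LD3_c23))))))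
theorem f216687 : Led Lsl_bt (LP (LK LD1_c8 LD2_c44 LD3_c54)) = (LP (LK LD1_c4 LD2_c23 LD3_c35)) :=
  Lre_b IH (LK LD1_c8 LD2_c44 LD3_c54) (LK LD1_c4 LD2_c23 LD3_c35) Lrfl Lrfl
theorem f262264 : Led Lsl_at (LP (LK LD1_c16 LD2_c22 LD3_c25)) = (LP (LK LD1_c8 LD2_c44 LD3_c54)) :=
  Lre_a IH (LK LD1_c16 LD2_c22 LD3_c25) (LK LD1_c8 LD2_c44 LD3_c54) Lrfl Lrfl
theorem f262265 : Led Lsl_at (LP (LK LD1_c14 LD2_c58 LD3_c61)) = (LP (LK LD1_c24 LD2_c46 LD3_c28)) :=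
  Lre_a IH (LK LD1_c14 LD2_c58 LD3_c61) (LK LD1_c24 LD2_c46 LD3_c28) Lrfl Lrfl
theorem f262266 : Led Lsl_bf (LP (LK LD1_c16 LD2_c22 LD3_c25)) = (LP (LK LD1_c24 LD2_c46 LD3_c28)) :=
  Lgr Lrot81 (Lpr_at (f262264 IH) (Lpr_bt (f216687 IH) (Lpr_at (K15.f262260 IH) (Lpr_bt (K18.f197747 IH) (Lpr_at (f262265 IH) (Lpn (LP (LK LD1_c24 LD2_c46 LD3_c28))))))))
theorem f565592 : Led Lsl_et (LP (LK LD1_c13 LD2_c28 LD3_c11)) = (LP (LK LD1_c22 LD2_c47 LD3_c43)) :=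
  Lre_e IH (LK LD1_c13 LD2_c28 LD3_c11) (LK LD1_c22 LD2_c47 LD3_c43) Lrfl Lrfl
theorem f210771 : Led Lsl_et (LP (LK LD1_c24 LD2_c46 LD3_c28)) = (LP (LK LD1_c14 LD2_c58 LD3_c59)) :=
  Lre_e IH (LK LD1_c24 LD2_c46 LD3_c28) (LK LD1_c14 LD2_c58 LD3_c59) Lrfl Lrfl
theorem f565743 : Led Lsl_dt (LP (LK LD1_c22 LD2_c47 LD3_c43)) = (LP (LK LD1_c24 LD2_c46 LD3_c28)) :=
  Lgr Lrot77 (Lpe (f565592 IH) (Lpe (K42.f6526 IH) (Lpr_ef (K41.f565735 IH) (Lpr_df (K31.f210766 IH) (Lpe (f210771 IH) (Lpn (LP (LK LD1_c24 LD2_c46 LD3_c28))))))))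
theorem f577098 : Led Lsl_bf (LP (LK LD1_c22 LD2_c47 LD3_c43)) = (LP (LK LD1_c21 LD2_c10 LD3_c23)) :=
  Lgr Lrot93 (Lpr_dt (f565743 IH) (Lpe (f262266 IH) (Lpr_dt (f577096 IH) (Lpn (LP (LK LD1_c21 LD2_c10 LD3_c23))))))
theorem f577102 : Led Lsl_bt (LP (LK LD1_c22 LD2_c47 LD3_c43)) = (LP (LK LD1_c21 LD2_c10 LD3_c23)) :=
  Lgr Lrot127 (Lpr_bf (f577098 IH) (Lpn (LP (LK LD1_c21 LD2_c10 LD3_c23))))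
theorem f577100 : Led Lsl_df (LP (LK LD1_c16 LD2_c22 LD3_c25)) = (LP (LK LD1_c21 LD2_c10 LD3_c23)) :=
  Lgr Lrot38 (Lpr_dt (f577096 IH) (Lpn (LP (LK LD1_c21 LD2_c10 LD3_c23))))
theorem f386124 : Led Lsl_bt (LP (LK LD1_c14 LD2_c58 LD3_c59)) = (LP (LK LD1_c8 LD2_c44 LD3_c52)) :=
  Lgr Lrot95 (Lpe (K18.f210757 IH) (Lpr_bf (f386120 IH) (Lpe (K30.f210426 IH) (Lpn (LP (LK LD1_c8 LD2_c44 LD3_c52))))))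
theorem f210437 : Led Lsl_et (LP (LK LD1_c8 LD2_c44 LD3_c52)) = (LP (LK LD1_c16 LD2_c22 LD3_c25)) :=
  Lre_e IH (LK LD1_c8 LD2_c44 LD3_c52) (LK LD1_c16 LD2_c22 LD3_c25) Lrfl Lrfl
theorem f386126 : Led Lsl_bf (LP (LK LD1_c24 LD2_c46 LD3_c28)) = (LP (LK LD1_c16 LD2_c22 LD3_c25)) :=
  Lgr Lrot96 (Lpr_et (f210771 IH) (Lpr_bt (f386124 IH) (Lpr_et (f210437 IH) (Lpn (LP (LK LD1_c16 LD2_c22 LD3_c25))))))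
theorem f577104 : Led Lsl_df (LP (LK LD1_c22 LD2_c47 LD3_c43)) = (LP (LK LD1_c24 LD2_c46 LD3_c28)) :=
  Lgr Lrot12 (Lpr_bt (f577102 IH) (Lpe (f577100 IH) (Lpe (f386126 IH) (Lpn (LP (LK LD1_c24 LD2_c46 LD3_c28))))))
theorem f98188 : Led Lsl_dt (LP (LK LD1_c3 LD2_c33 LD3_c46)) = (LP (LK LD1_c7 LD2_c8 LD3_c26)) :=
  Lre_d IH (LK LD1_c3 LD2_c33 LD3_c46) (LK LD1_c7 LD2_c8 LD3_c26) Lrfl Lrfl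
theorem f565637 : Led Lsl_et (LP (LK LD1_c7 LD2_c8 LD3_c26)) = (LP (LK LD1_c13 LD2_c31 LD3_c24)) :=
  Lre_e IH (LK LD1_c7 LD2_c8 LD3_c26) (LK LD1_c13 LD2_c31 LD3_c24) Lrfl Lrfl
theorem f210761 : Led Lsl_et (LP (LK LD1_c14 LD2_c58 LD3_c61)) = (LP (LK LD1_c7 LD2_c56 LD3_c30)) :=
  Lre_e IH (LK LD1_c14 LD2_c58 LD3_c61) (LK LD1_c7 LD2_c56 LD3_c30) Lrfl Lrfl
theorem f565638 : Led Lsl_dt (LP (LK LD1_c13 LD2_c31 LD3_c24)) = (LP (LK LD1_c14 LD2_c58 LD3_c61)) :=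
  Lgr Lrot77 (Lpe (f565637 IH) (Lpe (f98188 IH) (Lpr_ef (K41.f565631 IH) (Lpr_df (K18.f210742 IH) (Lpe (f210761 IH) (Lpn (LP (LK LD1_c14 LD2_c58 LD3_c61))))))))
theorem f577112 : Led Lsl_at (LP (LK LD1_c22 LD2_c47 LD3_c43)) = (LP (LK LD1_c13 LD2_c31 LD3_c24)) :=
  Lgr Lrot51 (Lpr_df (f577104 IH) (Lpe (f262265 IH) (Lpe (f565638 IH) (Lpn (LP (LK LD1_c13 LD2_c31 LD3_c24))))))
theorem f577119 : Led Lsl_et (LP (LK LD1_c13 LD2_c31 LD3_c24)) = (LP (LK LD1_c7 LD2_c8 LD3_c26)) :=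
  Lre_e IH (LK LD1_c13 LD2_c31 LD3_c24) (LK LD1_c7 LD2_c8 LD3_c26) Lrfl Lrfl
theorem f577120 : Led Lsl_af (LP (LK LD1_c13 LD2_c28 LD3_c11)) = (LP (LK LD1_c7 LD2_c8 LD3_c26)) :=
  Lgr Lrot50 (Lpr_et (f565592 IH) (Lpr_at (f577112 IH) (Lpr_et (f577119 IH) (Lpn (LP (LK LD1_c7 LD2_c8 LD3_c26))))))
theorem f574698 : Led Lsl_dt (LP (LK LD1_c12 LD2_c5 LD3_c4)) = (LP (LK LD1_c9 LD2_c44 LD3_c35)) :=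
  Lgr Lrot6 (Lpr_gt (f99519 IH) (Lpr_ct (K42.f101235 IH) (Lpr_gt (f101136 IH) (Lpe (f549729 IH) (Lpr_df (K42.f569426 IH) (Lpe (K42.f176630 IH) (Lpe (K39.f176629 IH) (Lpe (K38.f176621 IH) (Lpr_gf (f574692 IH) (Lpn (LP (LK LD1_c9 LD2_c44 LD3_c35))))))))))))
theorem f574786 : Led Lsl_bt (LP (LK LD1_c13 LD2_c28 LD3_c11)) = (LP (LK LD1_c12 LD2_c5 LD3_c4)) :=
  Lgr Lrot95 (Lpe (K42.f6526 IH) (Lpr_bf (f574784 IH) (Lpe (f574698 IH) (Lpn (LP (LK LD1_c12 LD2_c5 LD3_c4))))))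
theorem f577083 : Led Lsl_af (LP (LK LD1_c9 LD2_c44 LD3_c37)) = (LP (LK LD1_c12 LD2_c5 LD3_c4)) :=
  Lgr Lrot0 (Lpr_at (f577081 IH) (Lpn (LP (LK LD1_c12 LD2_c5 LD3_c4))))
theorem f385981 : Led Lsl_af (LP (LK LD1_c8 LD2_c1 LD3_c2)) = (LP (LK LD1_c4 LD2_c56 LD3_c37)) :=
  Lgr Lrot0 (Lpr_at (K42.f385979 IH) (Lpn (LP (LK LD1_c4 LD2_c56 LD3_c37))))
theorem f577126 : Led Lsl_bt (LP (LK LD1_c8 LD2_c1 LD3_c2)) = (LP (LK LD1_c7 LD2_c8 LD3_c26)) :=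
  Lgr Lrot62 (Lpr_af (f385981 IH) (Lpe (K30.f210393 IH) (Lpr_af (f577083 IH) (Lpe (f574786 IH) (Lpr_af (f577120 IH) (Lpn (LP (LK LD1_c7 LD2_c8 LD3_c26))))))))
theorem f24435 : Led Lsl_bt (LP (LK LD1_c11 LD2_c32 LD3_c36)) = (LP (LK LD1_c5 LD2_c53 LD3_c16)) :=
  Lre_b IH (LK LD1_c11 LD2_c32 LD3_c36) (LK LD1_c5 LD2_c53 LD3_c16) Lrfl Lrfl
theorem f577137 : Led Lsl_ff (LP (LK LD1_c11 LD2_c32 LD3_c36)) = (LP (LK LD1_c7 LD2_c8 LD3_c26)) :=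
  Lgr Lrot25 (Lpr_bt (f24435 IH) (Lpe (K42.f385971 IH) (Lpr_bt (f577126 IH) (Lpn (LP (LK LD1_c7 LD2_c8 LD3_c26))))))
theorem f70516 : Led Lsl_ct (LP (LK LD1_c8 LD2_c46 LD3_c56)) = (LP (LK LD1_c16 LD2_c25 LD3_c56)) :=
  Lre_c IH (LK LD1_c8 LD2_c46 LD3_c56) (LK LD1_c16 LD2_c25 LD3_c56) Lrfl Lrfl
theorem f242161 : Led Lsl_ct (LP (LK LD1_c11 LD2_c32 LD3_c36)) = (LP (LK LD1_c20 LD2_c29 LD3_c31)) :=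
  Lre_c IH (LK LD1_c11 LD2_c32 LD3_c36) (LK LD1_c20 LD2_c29 LD3_c31) Lrfl Lrfl
theorem f547581 : Led Lsl_gf (LP (LK LD1_c20 LD2_c29 LD3_c31)) = (LP (LK LD1_c16 LD2_c25 LD3_c56)) :=
  Lgr Lrot126 (Lpe (f242161 IH) (Lpr_bt (f24435 IH) (Lpr_gt (K18.f24434 IH) (Lpr_ct (K18.f24561 IH) (Lpe (K18.f242164 IH) (Lpe (K18.f193383 IH) (Lpr_bt (K38.f242180 IH) (Lpr_gt (K38.f547577 IH) (Lpr_bf (K39.f545184 IH) (Lpr_ct (f70516 IH) (Lpn (LP (LK LD1_c16 LD2_c25 LD3_c56)))))))))))))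
theorem f24436 : Led Lsl_ct (LP (LK LD1_c20 LD2_c29 LD3_c31)) = (LP (LK LD1_c11 LD2_c32 LD3_c36)) :=
  Lre_c IH (LK LD1_c20 LD2_c29 LD3_c31) (LK LD1_c11 LD2_c32 LD3_c36) Lrfl Lrfl
theorem f572569 : Led Lsl_df (LP (LK LD1_c7 LD2_c6 LD3_c30)) = (LP (LK LD1_c11 LD2_c32 LD3_c36)) :=
  Lgr Lrot162 (Lpr_cf (K42.f571204 IH) (Lpr_gf (K42.f572561 IH) (Lpe (K34.f97420 IH) (Lpe (K41.f97426 IH) (Lpe (K42.f571232 IH) (Lpr_gt (K42.f70521 IH) (Lpr_ct (f70516 IH) (Lpe (f547581 IH) (Lpr_ct (f24436 IH) (Lpn (LP (LK LD1_c11 LD2_c32 LD3_c36))))))))))))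
theorem f577141 : Led Lsl_ft (LP (LK LD1_c7 LD2_c6 LD3_c30)) = (LP (LK LD1_c3 LD2_c33 LD3_c46)) :=
  Lgr Lrot54 (Lpr_df (f572569 IH) (Lpr_ff (f577137 IH) (Lpe (f98188 IH) (Lpn (LP (LK LD1_c3 LD2_c33 LD3_c46))))))
theorem f577180 : Led Lsl_af (LP (LK LD1_c7 LD2_c6 LD3_c31)) = (LP (LK LD1_c3 LD2_c33 LD3_c46)) :=
  Lgr Lrot31 (Lpe (K41.f6525 IH) (Lpe (K42.f6529 IH) (Lpr_ft (f577141 IH) (Lpn (LP (LK LD1_c3 LD2_c33 LD3_c46))))))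
theorem f573736 : Led Lsl_ff (LP (LK LD1_c3 LD2_c33 LD3_c45)) = (LP (LK LD1_c7 LD2_c6 LD3_c31)) :=
  Lgr Lrot72 (Lpr_et (f565047 IH) (Lpr_ft (f573710 IH) (Lpe (K42.f69741 IH) (Lpr_ft (K18.f297408 IH) (Lpe (K41.f565735 IH) (Lpn (LP (LK LD1_c7 LD2_c6 LD3_c31))))))))
theorem f577182 : Led Lsl_at (LP (LK LD1_c3 LD2_c33 LD3_c45)) = (LP (LK LD1_c7 LD2_c6 LD3_c30)) :=
  Lgr Lrot66 (Lpr_ff (f573736 IH) (Lpr_af (f577180 IH) (Lpe (f577141 IH) (Lpn (LP (LK LD1_c7 LD2_c6 LD3_c30))))))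
theorem f572567 : Led Lsl_dt (LP (LK LD1_c7 LD2_c6 LD3_c30)) = (LP (LK LD1_c11 LD2_c32 LD3_c36)) :=
  Lgr Lrot27 (Lpr_cf (K42.f571204 IH) (Lpr_gf (K42.f572561 IH) (Lpe (K34.f97420 IH) (Lpe (K41.f97426 IH) (Lpe (f571236 IH) (Lpr_gt (K42.f70521 IH) (Lpr_ct (f70516 IH) (Lpe (f547581 IH) (Lpr_ct (f24436 IH) (Lpn (LP (LK LD1_c11 LD2_c32 LD3_c36))))))))))))
theorem f577184 : Led Lsl_af (LP (LK LD1_c7 LD2_c8 LD3_c23)) = (LP (LK LD1_c11 LD2_c32 LD3_c36)) :=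
  Lgr Lrot117 (Lpr_dt (f98417 IH) (Lpr_at (f577182 IH) (Lpr_dt (f572567 IH) (Lpn (LP (LK LD1_c11 LD2_c32 LD3_c36))))))
theorem f565609 : Led Lsl_dt (LP (LK LD1_c13 LD2_c31 LD3_c18)) = (LP (LK LD1_c7 LD2_c8 LD3_c22)) :=
  Lre_d IH (LK LD1_c13 LD2_c31 LD3_c18) (LK LD1_c7 LD2_c8 LD3_c22) Lrfl Lrfl
theorem f38490 : Led Lsl_dt (LP (LK LD1_c4 LD2_c25 LD3_c26)) = (LP (LK LD1_c8 LD2_c48 LD3_c26)) :=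
  Lre_d IH (LK LD1_c4 LD2_c25 LD3_c26) (LK LD1_c8 LD2_c48 LD3_c26) Lrfl Lrfl
theorem f574086 : Led Lsl_gf (LP (LK LD1_c7 LD2_c8 LD3_c23)) = (LP (LK LD1_c8 LD2_c48 LD3_c26)) :=
  Lgr Lrot143 (Lpr_dt (f98417 IH) (Lpe (K42.f98330 IH) (Lpe (f565609 IH) (Lpr_gf (f574077 IH) (Lpe (f35477 IH) (Lpe (K39.f35476 IH) (Lpe (K1.f38464 IH) (Lpr_gt (K42.f38489 IH) (Lpr_dt (f38490 IH) (Lpn (LP (LK LD1_c8 LD2_c48 LD3_c26))))))))))))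
theorem f577197 : Led Lsl_gf (LP (LK LD1_c8 LD2_c48 LD3_c26)) = (LP (LK LD1_c7 LD2_c8 LD3_c26)) :=
  Lgr Lrot47 (Lpe (f574086 IH) (Lpr_af (f577184 IH) (Lpr_ff (f577137 IH) (Lpn (LP (LK LD1_c7 LD2_c8 LD3_c26))))))
theorem f569895 : Led Lsl_bt (LP (LK LD1_c4 LD2_c25 LD3_c26)) = (LP (LK LD1_c7 LD2_c56 LD3_c57)) :=
  Lgr Lrot119 (Lpr_ef (K42.f569891 IH) (Lpr_bf (K8.f38532 IH) (Lpe (K42.f38541 IH) (Lpn (LP (LK LD1_c7 LD2_c56 LD3_c57))))))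
theorem f569943 : Led Lsl_bt (LP (LK LD1_c13 LD2_c42 LD3_c5)) = (LP (LK LD1_c8 LD2_c48 LD3_c26)) :=
  Lgr Lrot95 (Lpr_df (K42.f569929 IH) (Lpe (f569895 IH) (Lpe (K42.f569942 IH) (Lpn (LP (LK LD1_c8 LD2_c48 LD3_c26))))))
theorem f98429 : Led Lsl_ct (LP (LK LD1_c13 LD2_c42 LD3_c5)) = (LP (LK LD1_c23 LD2_c7 LD3_c42)) :=
  Lre_c IH (LK LD1_c13 LD2_c42 LD3_c5) (LK LD1_c23 LD2_c7 LD3_c42) Lrfl Lrfl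
theorem f577201 : Led Lsl_gt (LP (LK LD1_c23 LD2_c7 LD3_c42)) = (LP (LK LD1_c24 LD2_c59 LD3_c46)) :=
  Lgr Lrot65 (Lpe (f98429 IH) (Lpr_bt (f569943 IH) (Lpr_gf (f577197 IH) (Lpe (f577126 IH) (Lpr_ct (K18.f210749 IH) (Lpe (K18.f272638 IH) (Lpe (K18.f211052 IH) (Lpr_gf (K18.f272640 IH) (Lpe (f211631 IH) (Lpr_ct (K42.f211632 IH) (Lpn (LP (LK LD1_c24 LD2_c59 LD3_c46)))))))))))))
theorem f547135 : Led Lsl_bt (LP (LK LD1_c6 LD2_c13 LD3_c41)) = (LP (LK LD1_c4 LD2_c58 LD3_c6)) :=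
  Lgr Lrot95 (Lpe (K1.f36703 IH) (Lpr_bf (K38.f547129 IH) (Lpe (K31.f37694 IH) (Lpn (LP (LK LD1_c4 LD2_c58 LD3_c6))))))
theorem f577203 : Led Lsl_bf (LP (LK LD1_c7 LD2_c14 LD3_c34)) = (LP (LK LD1_c4 LD2_c26 LD3_c60)) :=
  Lgr Lrot165 (Lpe (K42.f569955 IH) (Lpr_ct (f98429 IH) (Lpr_gt (f577201 IH) (Lpe (K42.f211632 IH) (Lpr_bt (f211631 IH) (Lpe (K18.f272640 IH) (Lpe (f547135 IH) (Lpr_ct (K1.f36736 IH) (Lpe (K12.f198090 IH) (Lpe (K12.f101063 IH) (Lpn (LP (LK LD1_c4 LD2_c26 LD3_c60)))))))))))))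
theorem f30797 : Led Lsl_bt (LP (LK LD1_c4 LD2_c0 LD3_c58)) = (LP (LK LD1_c8 LD2_c2 LD3_c31)) :=
  Lre_b IH (LK LD1_c4 LD2_c0 LD3_c58) (LK LD1_c8 LD2_c2 LD3_c31) Lrfl Lrfl
theorem f198096 : Led Lsl_ct (LP (LK LD1_c15 LD2_c8 LD3_c21)) = (LP (LK LD1_c24 LD2_c57 LD3_c9)) :=
  Lre_c IH (LK LD1_c15 LD2_c8 LD3_c21) (LK LD1_c24 LD2_c57 LD3_c9) Lrfl Lrfl
theorem f573225 : Led Lsl_ct (LP (LK LD1_c30 LD2_c54 LD3_c25)) = (LP (LK LD1_c23 LD2_c7 LD3_c39)) :=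
  Lre_c IH (LK LD1_c30 LD2_c54 LD3_c25) (LK LD1_c23 LD2_c7 LD3_c39) Lrfl Lrfl
theorem f573237 : Led Lsl_gf (LP (LK LD1_c30 LD2_c54 LD3_c25)) = (LP (LK LD1_c24 LD2_c57 LD3_c9)) :=
  Lgr Lrot104 (Lpr_ct (f573225 IH) (Lpr_df (f573226 IH) (Lpe (K39.f556683 IH) (Lpr_gf (K42.f570620 IH) (Lpe (K42.f421360 IH) (Lpe (K42.f570626 IH) (Lpe (K39.f29536 IH) (Lpr_gt (K39.f158217 IH) (Lpr_ct (f198096 IH) (Lpn (LP (LK LD1_c24 LD2_c57 LD3_c9))))))))))))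
theorem f573224 : Led Lsl_ct (LP (LK LD1_c23 LD2_c7 LD3_c39)) = (LP (LK LD1_c30 LD2_c54 LD3_c25)) :=
  Lre_c IH (LK LD1_c23 LD2_c7 LD3_c39) (LK LD1_c30 LD2_c54 LD3_c25) Lrfl Lrfl
theorem f573231 : Led Lsl_bt (LP (LK LD1_c23 LD2_c7 LD3_c39)) = (LP (LK LD1_c13 LD2_c42 LD3_c4)) :=
  Lre_b IH (LK LD1_c23 LD2_c7 LD3_c39) (LK LD1_c13 LD2_c42 LD3_c4) Lrfl Lrfl
theorem f577213 : Led Lsl_gf (LP (LK LD1_c7 LD2_c14 LD3_c34)) = (LP (LK LD1_c13 LD2_c42 LD3_c4)) :=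
  Lgr Lrot124 (Lpr_bf (f577203 IH) (Lpr_ct (K12.f101063 IH) (Lpr_gt (K12.f198028 IH) (Lpe (K1.f29226 IH) (Lpr_bt (f30797 IH) (Lpr_gt (K39.f158217 IH) (Lpr_ct (f198096 IH) (Lpe (f573237 IH) (Lpe (f573224 IH) (Lpr_bt (f573231 IH) (Lpn (LP (LK LD1_c13 LD2_c42 LD3_c4)))))))))))))
theorem f577215 : Led Lsl_af (LP (LK LD1_c7 LD2_c14 LD3_c34)) = (LP (LK LD1_c13 LD2_c31 LD3_c12)) :=
  Lgr Lrot31 (Lpr_gf (f577213 IH) (Lpe (f98337 IH) (Lpr_ft (f573643 IH) (Lpn (LP (LK LD1_c13 LD2_c31 LD3_c12))))))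
theorem f98401 : Led Lsl_ct (LP (LK LD1_c7 LD2_c14 LD3_c34)) = (LP (LK LD1_c13 LD2_c42 LD3_c9)) :=
  Lre_c IH (LK LD1_c7 LD2_c14 LD3_c34) (LK LD1_c13 LD2_c42 LD3_c9) Lrfl Lrfl
theorem f98415 : Led Lsl_ct (LP (LK LD1_c22 LD2_c52 LD3_c13)) = (LP (LK LD1_c13 LD2_c31 LD3_c12)) :=
  Lre_c IH (LK LD1_c22 LD2_c52 LD3_c13) (LK LD1_c13 LD2_c31 LD3_c12) Lrfl Lrfl
theorem f577229 : Led Lsl_at (LP (LK LD1_c13 LD2_c42 LD3_c9)) = (LP (LK LD1_c22 LD2_c52 LD3_c13)) :=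
  Lgr Lrot107 (Lpe (f98401 IH) (Lpr_af (f577215 IH) (Lpe (f98415 IH) (Lpn (LP (LK LD1_c22 LD2_c52 LD3_c13))))))
theorem f569287 : Led Lsl_gt (LP (LK LD1_c21 LD2_c10 LD3_c38)) = (LP (LK LD1_c26 LD2_c23 LD3_c24)) :=
  Lgr Lrot65 (Lpe (f101386 IH) (Lpr_bt (f101384 IH) (Lpe (K13.f101073 IH) (Lpe (K42.f101052 IH) (Lpr_ct (K42.f101235 IH) (Lpe (K42.f101196 IH) (Lpe (K42.f569285 IH) (Lpr_gf (K42.f569281 IH) (Lpe (K42.f210639 IH) (Lpr_ct (f35493 IH) (Lpn (LP (LK LD1_c26 LD2_c23 LD3_c24)))))))))))))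
theorem f577249 : Led Lsl_ff (LP (LK LD1_c13 LD2_c42 LD3_c9)) = (LP (LK LD1_c21 LD2_c10 LD3_c38)) :=
  Lgr Lrot52 (Lpr_at (f577229 IH) (Lpr_gf (f574065 IH) (Lpe (f569287 IH) (Lpn (LP (LK LD1_c21 LD2_c10 LD3_c38))))))
theorem f577256 : Led Lsl_ft (LP (LK LD1_c13 LD2_c42 LD3_c9)) = (LP (LK LD1_c21 LD2_c10 LD3_c38)) :=
  Lgr Lrot48 (Lpr_ff (f577249 IH) (Lpn (LP (LK LD1_c21 LD2_c10 LD3_c38))))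
theorem f556700 : Led Lsl_dt (LP (LK LD1_c8 LD2_c47 LD3_c10)) = (LP (LK LD1_c4 LD2_c24 LD3_c50)) :=
  Lre_d IH (LK LD1_c8 LD2_c47 LD3_c10) (LK LD1_c4 LD2_c24 LD3_c50) Lrfl Lrfl
theorem f577217 : Led Lsl_gt (LP (LK LD1_c13 LD2_c42 LD3_c9)) = (LP (LK LD1_c16 LD2_c26 LD3_c26)) :=
  Lgr Lrot150 (Lpe (f98401 IH) (Lpr_gf (f577213 IH) (Lpr_df (f573203 IH) (Lpe (K41.f565747 IH) (Lpr_ct (K41.f198001 IH) (Lpe (K36.f538280 IH) (Lpr_ct (K39.f556685 IH) (Lpe (f556700 IH) (Lpe (f556701 IH) (Lpn (LP (LK LD1_c16 LD2_c26 LD3_c26))))))))))))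
theorem f572533 : Led Lsl_bf (LP (LK LD1_c13 LD2_c31 LD3_c22)) = (LP (LK LD1_c7 LD2_c56 LD3_c17)) :=
  Lgr Lrot61 (Lpr_ft (K42.f572530 IH) (Lpr_bt (f211631 IH) (Lpr_ft (K18.f297214 IH) (Lpn (LP (LK LD1_c7 LD2_c56 LD3_c17))))))
theorem f570202 : Led Lsl_bf (LP (LK LD1_c11 LD2_c33 LD3_c61)) = (LP (LK LD1_c7 LD2_c14 LD3_c31)) :=
  Lgr Lrot93 (Lpr_dt (K42.f570200 IH) (Lpr_bt (K42.f6555 IH) (Lpr_dt (K42.f6549 IH) (Lpn (LP (LK LD1_c7 LD2_c14 LD3_c31))))))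
theorem f6550 : Led Lsl_ct (LP (LK LD1_c7 LD2_c14 LD3_c31)) = (LP (LK LD1_c13 LD2_c42 LD3_c6)) :=
  Lre_c IH (LK LD1_c7 LD2_c14 LD3_c31) (LK LD1_c13 LD2_c42 LD3_c6) Lrfl Lrfl
theorem f574079 : Led Lsl_gf (LP (LK LD1_c13 LD2_c42 LD3_c6)) = (LP (LK LD1_c16 LD2_c26 LD3_c26)) :=
  Lgr Lrot129 (Lpe (f6550 IH) (Lpe (f570202 IH) (Lpe (K42.f570222 IH) (Lpe (K36.f272696 IH) (Lpr_ct (K18.f227701 IH) (Lpe (K18.f272664 IH) (Lpe (K18.f28539 IH) (Lpe (f572533 IH) (Lpr_gt (f574075 IH) (Lpr_ct (f35478 IH) (Lpn (LP (LK LD1_c16 LD2_c26 LD3_c26)))))))))))))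
theorem f577264 : Led Lsl_af (LP (LK LD1_c13 LD2_c42 LD3_c6)) = (LP (LK LD1_c21 LD2_c10 LD3_c38)) :=
  Lgr Lrot31 (Lpr_gf (f574079 IH) (Lpe (f577217 IH) (Lpr_ft (f577256 IH) (Lpn (LP (LK LD1_c21 LD2_c10 LD3_c38))))))
theorem f98406 : Led Lsl_et (LP (LK LD1_c7 LD2_c14 LD3_c34)) = (LP (LK LD1_c13 LD2_c42 LD3_c10)) :=
  Lre_e IH (LK LD1_c7 LD2_c14 LD3_c34) (LK LD1_c13 LD2_c42 LD3_c10) Lrfl Lrfl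
theorem f565603 : Led Lsl_et (LP (LK LD1_c22 LD2_c52 LD3_c14)) = (LP (LK LD1_c13 LD2_c31 LD3_c12)) :=
  Lre_e IH (LK LD1_c22 LD2_c52 LD3_c14) (LK LD1_c13 LD2_c31 LD3_c12) Lrfl Lrfl
theorem f577231 : Led Lsl_at (LP (LK LD1_c13 LD2_c42 LD3_c10)) = (LP (LK LD1_c22 LD2_c52 LD3_c14)) :=
  Lgr Lrot80 (Lpe (f98406 IH) (Lpr_af (f577215 IH) (Lpe (f565603 IH) (Lpn (LP (LK LD1_c22 LD2_c52 LD3_c14))))))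
theorem f577235 : Led Lsl_ct (LP (LK LD1_c23 LD2_c7 LD3_c52)) = (LP (LK LD1_c13 LD2_c42 LD3_c10)) :=
  Lre_c IH (LK LD1_c23 LD2_c7 LD3_c52) (LK LD1_c13 LD2_c42 LD3_c10) Lrfl Lrfl
theorem f574064 : Led Lsl_ct (LP (LK LD1_c22 LD2_c52 LD3_c14)) = (LP (LK LD1_c30 LD2_c46 LD3_c4)) :=
  Lre_c IH (LK LD1_c22 LD2_c52 LD3_c14) (LK LD1_c30 LD2_c46 LD3_c4) Lrfl Lrfl
theorem f577236 : Led Lsl_af (LP (LK LD1_c23 LD2_c7 LD3_c52)) = (LP (LK LD1_c30 LD2_c46 LD3_c4)) :=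
  Lgr Lrot68 (Lpr_ct (f577235 IH) (Lpr_at (f577231 IH) (Lpr_ct (f574064 IH) (Lpn (LP (LK LD1_c30 LD2_c46 LD3_c4))))))
theorem f577239 : Led Lsl_at (LP (LK LD1_c23 LD2_c7 LD3_c52)) = (LP (LK LD1_c30 LD2_c46 LD3_c4)) :=
  Lgr Lrot100 (Lpr_af (f577236 IH) (Lpn (LP (LK LD1_c30 LD2_c46 LD3_c4))))
theorem f577244 : Led Lsl_et (LP (LK LD1_c13 LD2_c42 LD3_c9)) = (LP (LK LD1_c23 LD2_c7 LD3_c52)) :=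
  Lre_e IH (LK LD1_c13 LD2_c42 LD3_c9) (LK LD1_c23 LD2_c7 LD3_c52) Lrfl Lrfl
theorem f571254 : Led Lsl_et (LP (LK LD1_c30 LD2_c46 LD3_c4)) = (LP (LK LD1_c22 LD2_c52 LD3_c13)) :=
  Lre_e IH (LK LD1_c30 LD2_c46 LD3_c4) (LK LD1_c22 LD2_c52 LD3_c13) Lrfl Lrfl
theorem f577245 : Led Lsl_af (LP (LK LD1_c13 LD2_c42 LD3_c9)) = (LP (LK LD1_c22 LD2_c52 LD3_c13)) :=
  Lgr Lrot50 (Lpr_et (f577244 IH) (Lpr_at (f577239 IH) (Lpr_et (f571254 IH) (Lpn (LP (LK LD1_c22 LD2_c52 LD3_c13))))))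
theorem f577271 : Led Lsl_ft (LP (LK LD1_c13 LD2_c42 LD3_c6)) = (LP (LK LD1_c22 LD2_c52 LD3_c13)) :=
  Lgr Lrot101 (Lpr_af (f577264 IH) (Lpe (f577256 IH) (Lpr_af (f577245 IH) (Lpn (LP (LK LD1_c22 LD2_c52 LD3_c13))))))
theorem f210646 : Led Lsl_ct (LP (LK LD1_c26 LD2_c23 LD3_c24)) = (LP (LK LD1_c16 LD2_c26 LD3_c0)) :=
  Lre_c IH (LK LD1_c26 LD2_c23 LD3_c24) (LK LD1_c16 LD2_c26 LD3_c0) Lrfl Lrfl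
theorem f573057 : Led Lsl_ft (LP (LK LD1_c16 LD2_c26 LD3_c26)) = (LP (LK LD1_c26 LD2_c23 LD3_c24)) :=
  Lgr Lrot4 (Lpe (f35478 IH) (Lpr_ff (f573055 IH) (Lpe (f210646 IH) (Lpn (LP (LK LD1_c26 LD2_c23 LD3_c24))))))
theorem f571279 : Led Lsl_ct (LP (LK LD1_c16 LD2_c26 LD3_c27)) = (LP (LK LD1_c8 LD2_c47 LD3_c11)) :=
  Lre_c IH (LK LD1_c16 LD2_c26 LD3_c27) (LK LD1_c8 LD2_c47 LD3_c11) Lrfl Lrfl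
theorem f573051 : Led Lsl_af (LP (LK LD1_c16 LD2_c26 LD3_c27)) = (LP (LK LD1_c26 LD2_c23 LD3_c24)) :=
  Lgr Lrot68 (Lpr_ct (f571279 IH) (Lpr_at (f573047 IH) (Lpr_ct (f35493 IH) (Lpn (LP (LK LD1_c26 LD2_c23 LD3_c24))))))
theorem f574081 : Led Lsl_gt (LP (LK LD1_c13 LD2_c42 LD3_c6)) = (LP (LK LD1_c16 LD2_c26 LD3_c27)) :=
  Lgr Lrot46 (Lpr_gf (f574079 IH) (Lpr_ft (f573057 IH) (Lpe (f573051 IH) (Lpn (LP (LK LD1_c16 LD2_c26 LD3_c27))))))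
theorem f577275 : Led Lsl_gt (LP (LK LD1_c16 LD2_c26 LD3_c27)) = (LP (LK LD1_c13 LD2_c42 LD3_c9)) :=
  Lgr Lrot46 (Lpe (f574081 IH) (Lpr_ft (f577271 IH) (Lpe (f577245 IH) (Lpn (LP (LK LD1_c13 LD2_c42 LD3_c9))))))
theorem f571280 : Led Lsl_ct (LP (LK LD1_c8 LD2_c47 LD3_c11)) = (LP (LK LD1_c16 LD2_c26 LD3_c27)) :=
  Lre_c IH (LK LD1_c8 LD2_c47 LD3_c11) (LK LD1_c16 LD2_c26 LD3_c27) Lrfl Lrfl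
theorem f574084 : Led Lsl_gt (LP (LK LD1_c13 LD2_c31 LD3_c18)) = (LP (LK LD1_c8 LD2_c47 LD3_c11)) :=
  Lgr Lrot46 (Lpr_gf (f574077 IH) (Lpr_ft (f573059 IH) (Lpe (f573049 IH) (Lpn (LP (LK LD1_c8 LD2_c47 LD3_c11))))))
theorem f98403 : Led Lsl_ct (LP (LK LD1_c13 LD2_c42 LD3_c9)) = (LP (LK LD1_c7 LD2_c14 LD3_c34)) :=
  Lre_c IH (LK LD1_c13 LD2_c42 LD3_c9) (LK LD1_c7 LD2_c14 LD3_c34) Lrfl Lrfl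
theorem f98344 : Led Lsl_ct (LP (LK LD1_c7 LD2_c14 LD3_c33)) = (LP (LK LD1_c3 LD2_c37 LD3_c5)) :=
  Lre_c IH (LK LD1_c7 LD2_c14 LD3_c33) (LK LD1_c3 LD2_c37 LD3_c5) Lrfl Lrfl
theorem f97402 : Led Lsl_ft (LP (LK LD1_c13 LD2_c26 LD3_c46)) = (LP (LK LD1_c7 LD2_c5 LD3_c42)) :=
  Lre_f IH (LK LD1_c13 LD2_c26 LD3_c46) (LK LD1_c7 LD2_c5 LD3_c42) Lrfl Lrfl
theorem f575905 : Led Lsl_gt (LP (LK LD1_c13 LD2_c26 LD3_c46)) = (LP (LK LD1_c7 LD2_c14 LD3_c33)) :=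
  Lgr Lrot5 (Lpr_ft (f97402 IH) (Lpr_at (K34.f97412 IH) (Lpr_gf (f575903 IH) (Lpn (LP (LK LD1_c7 LD2_c14 LD3_c33))))))
theorem f577281 : Led Lsl_ct (LP (LK LD1_c13 LD2_c31 LD3_c17)) = (LP (LK LD1_c13 LD2_c26 LD3_c46)) :=
  Lgr Lrot152 (Lpe (K42.f6148 IH) (Lpe (f565609 IH) (Lpr_gt (f574084 IH) (Lpr_ct (f571280 IH) (Lpr_gt (f577275 IH) (Lpr_ct (f98403 IH) (Lpe (K42.f98352 IH) (Lpe (f98344 IH) (Lpe (f575905 IH) (Lpn (LP (LK LD1_c13 LD2_c26 LD3_c46))))))))))))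
theorem f569871 : Led Lsl_bf (LP (LK LD1_c6 LD2_c14 LD3_c5)) = (LP (LK LD1_c3 LD2_c37 LD3_c5)) :=
  Lgr Lrot96 (Lpr_et (K10.f197917 IH) (Lpr_bt (f197880 IH) (Lpr_et (K42.f569869 IH) (Lpn (LP (LK LD1_c3 LD2_c37 LD3_c5))))))
theorem f577287 : Led Lsl_bt (LP (LK LD1_c13 LD2_c31 LD3_c17)) = (LP (LK LD1_c16 LD2_c34 LD3_c33)) :=
  Lgr Lrot92 (Lpr_ct (f577281 IH) (Lpr_gt (f575905 IH) (Lpe (f98404 IH) (Lpe (f569871 IH) (Lpe (K13.f241259 IH) (Lpr_ct (K13.f227752 IH) (Lpr_gt (K12.f210953 IH) (Lpe (K13.f101361 IH) (Lpr_bt (K36.f198463 IH) (Lpr_gt (K40.f210964 IH) (Lpn (LP (LK LD1_c16 LD2_c34 LD3_c33)))))))))))))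
theorem f6553 : Led Lsl_ct (LP (LK LD1_c3 LD2_c37 LD3_c4)) = (LP (LK LD1_c7 LD2_c14 LD3_c30)) :=
  Lre_c IH (LK LD1_c3 LD2_c37 LD3_c4) (LK LD1_c7 LD2_c14 LD3_c30) Lrfl Lrfl
theorem f577295 : Led Lsl_gf (LP (LK LD1_c13 LD2_c26 LD3_c46)) = (LP (LK LD1_c7 LD2_c14 LD3_c30)) :=
  Lgr Lrot126 (Lpe (f577281 IH) (Lpr_bt (f577287 IH) (Lpe (K40.f547348 IH) (Lpr_ct (K42.f547441 IH) (Lpr_gt (K42.f546396 IH) (Lpe (K42.f272500 IH) (Lpr_bt (K42.f272498 IH) (Lpr_gt (K42.f570224 IH) (Lpe (f570195 IH) (Lpr_ct (f6553 IH) (Lpn (LP (LK LD1_c7 LD2_c14 LD3_c30)))))))))))))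
theorem f566059 : Led Lsl_dt (LP (LK LD1_c7 LD2_c14 LD3_c36)) = (LP (LK LD1_c6 LD2_c13 LD3_c5)) :=
  Lgr Lrot6 (Lpr_gt (K41.f6540 IH) (Lpr_ct (K36.f6467 IH) (Lpr_gt (K41.f566051 IH) (Lpr_ct (K41.f38496 IH) (Lpe (K42.f38479 IH) (Lpe (K1.f38464 IH) (Lpe (K39.f38493 IH) (Lpe (K41.f38495 IH) (Lpr_gf (K41.f565067 IH) (Lpn (LP (LK LD1_c6 LD2_c13 LD3_c5))))))))))))
theorem f241493 : Led Lsl_bt (LP (LK LD1_c6 LD2_c15 LD3_c2)) = (LP (LK LD1_c12 LD2_c8 LD3_c22)) :=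
  Lre_b IH (LK LD1_c6 LD2_c15 LD3_c2) (LK LD1_c12 LD2_c8 LD3_c22) Lrfl Lrfl
theorem f545277 : Led Lsl_bt (LP (LK LD1_c5 LD2_c56 LD3_c25)) = (LP (LK LD1_c11 LD2_c38 LD3_c6)) :=
  Lre_b IH (LK LD1_c5 LD2_c56 LD3_c25) (LK LD1_c11 LD2_c38 LD3_c6) Lrfl Lrfl
theorem f565152 : Led Lsl_gf (LP (LK LD1_c12 LD2_c5 LD3_c22)) = (LP (LK LD1_c11 LD2_c38 LD3_c6)) :=
  Lgr Lrot124 (Lpe (K41.f272181 IH) (Lpr_ct (K13.f227897 IH) (Lpe (K13.f241509 IH) (Lpe (K13.f241489 IH) (Lpr_bt (f241493 IH) (Lpr_gt (K41.f565144 IH) (Lpr_ct (K41.f563308 IH) (Lpr_gt (K41.f562760 IH) (Lpe (K40.f82157 IH) (Lpr_bt (f545277 IH) (Lpn (LP (LK LD1_c11 LD2_c38 LD3_c6)))))))))))))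
theorem f577299 : Led Lsl_dt (LP (LK LD1_c13 LD2_c26 LD3_c46)) = (LP (LK LD1_c11 LD2_c38 LD3_c6)) :=
  Lgr Lrot57 (Lpr_gf (f577295 IH) (Lpe (f6553 IH) (Lpr_gt (K41.f98426 IH) (Lpr_dt (K41.f98189 IH) (Lpe (K41.f98289 IH) (Lpr_dt (f566059 IH) (Lpr_cf (K42.f193535 IH) (Lpe (K35.f175022 IH) (Lpr_gf (f565152 IH) (Lpn (LP (LK LD1_c11 LD2_c38 LD3_c6))))))))))))
theorem f175026 : Led Lsl_dt (LP (LK LD1_c6 LD2_c13 LD3_c12)) = (LP (LK LD1_c12 LD2_c5 LD3_c22)) :=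
  Lre_d IH (LK LD1_c6 LD2_c13 LD3_c12) (LK LD1_c12 LD2_c5 LD3_c22) Lrfl Lrfl
theorem f577305 : Led Lsl_et (LP (LK LD1_c10 LD2_c16 LD3_c6)) = (LP (LK LD1_c7 LD2_c14 LD3_c30)) :=
  Lgr Lrot121 (Lpr_dt (f411041 IH) (Lpr_gf (K41.f556960 IH) (Lpe (K42.f239271 IH) (Lpr_et (K42.f570517 IH) (Lpe (K37.f47087 IH) (Lpe (K35.f175017 IH) (Lpr_dt (f175026 IH) (Lpr_gf (f565152 IH) (Lpe (f577299 IH) (Lpr_gf (f577295 IH) (Lpn (LP (LK LD1_c7 LD2_c14 LD3_c30)))))))))))))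
theorem f577308 : Led Lsl_ef (LP (LK LD1_c13 LD2_c26 LD3_c46)) = (LP (LK LD1_c13 LD2_c31 LD3_c17)) :=
  Lgr Lrot17 (Lpr_gf (f577295 IH) (Lpe (f577305 IH) (Lpr_dt (f411041 IH) (Lpr_gf (K41.f556960 IH) (Lpe (K42.f239271 IH) (Lpr_gf (K37.f239268 IH) (Lpr_ef (K36.f35803 IH) (Lpr_dt (K36.f36188 IH) (Lpe (K42.f36192 IH) (Lpr_df (K42.f565770 IH) (Lpn (LP (LK LD1_c13 LD2_c31 LD3_c17)))))))))))))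
theorem f577315 : Led Lsl_et (LP (LK LD1_c13 LD2_c26 LD3_c46)) = (LP (LK LD1_c13 LD2_c31 LD3_c17)) :=
  Lgr Lrot87 (Lpr_ef (f577308 IH) (Lpn (LP (LK LD1_c13 LD2_c31 LD3_c17))))
theorem f6551 : Led Lsl_dt (LP (LK LD1_c7 LD2_c8 LD3_c19)) = (LP (LK LD1_c3 LD2_c33 LD3_c44)) :=
  Lre_d IH (LK LD1_c7 LD2_c8 LD3_c19) (LK LD1_c3 LD2_c33 LD3_c44) Lrfl Lrfl
theorem f565779 : Led Lsl_gf (LP (LK LD1_c7 LD2_c8 LD3_c25)) = (LP (LK LD1_c13 LD2_c31 LD3_c17)) :=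
  Lgr Lrot147 (Lpr_ct (f98322 IH) (Lpr_gt (K41.f6145 IH) (Lpr_ct (K42.f6131 IH) (Lpe (f6551 IH) (Lpe (K36.f98127 IH) (Lpr_gf (K42.f565581 IH) (Lpe (K41.f227814 IH) (Lpe (K42.f36192 IH) (Lpr_df (K42.f565770 IH) (Lpn (LP (LK LD1_c13 LD2_c31 LD3_c17))))))))))))
theorem f572549 : Led Lsl_ef (LP (LK LD1_c7 LD2_c8 LD3_c25)) = (LP (LK LD1_c3 LD2_c57 LD3_c17)) :=
  Lgr Lrot20 (Lpr_at (K42.f572543 IH) (Lpr_et (K42.f565741 IH) (Lpr_at (K22.f246625 IH) (Lpn (LP (LK LD1_c3 LD2_c57 LD3_c17))))))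
theorem f571149 : Led Lsl_et (LP (LK LD1_c7 LD2_c7 LD3_c39)) = (LP (LK LD1_c12 LD2_c5 LD3_c20)) :=
  Lgr Lrot158 (Lpr_cf (K42.f569735 IH) (Lpr_ef (K42.f571147 IH) (Lpe (K41.f565433 IH) (Lpn (LP (LK LD1_c12 LD2_c5 LD3_c20))))))
theorem f577323 : Led Lsl_gf (LP (LK LD1_c11 LD2_c38 LD3_c6)) = (LP (LK LD1_c16 LD2_c25 LD3_c54)) :=
  Lgr Lrot134 (Lpe (f577299 IH) (Lpr_et (f577315 IH) (Lpe (f565779 IH) (Lpr_ef (f572549 IH) (Lpr_dt (K22.f236832 IH) (Lpr_gt (K39.f553350 IH) (Lpe (K42.f98110 IH) (Lpr_et (f571149 IH) (Lpr_gt (K41.f565436 IH) (Lpr_dt (K41.f438137 IH) (Lpn (LP (LK LD1_c16 LD2_c25 LD3_c54)))))))))))))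
theorem f82156 : Led Lsl_ct (LP (LK LD1_c11 LD2_c38 LD3_c6)) = (LP (LK LD1_c20 LD2_c36 LD3_c60)) :=
  Lre_c IH (LK LD1_c11 LD2_c38 LD3_c6) (LK LD1_c20 LD2_c36 LD3_c60) Lrfl Lrfl
theorem f577329 : Led Lsl_gt (LP (LK LD1_c20 LD2_c36 LD3_c60)) = (LP (LK LD1_c13 LD2_c31 LD3_c27)) :=
  Lgr Lrot150 (Lpe (f82156 IH) (Lpr_gf (f577323 IH) (Lpe (K41.f438137 IH) (Lpr_gt (K35.f70502 IH) (Lpr_ct (K35.f137878 IH) (Lpe (f565116 IH) (Lpe (K1.f38459 IH) (Lpr_df (K41.f565759 IH) (Lpe (K41.f541037 IH) (Lpn (LP (LK LD1_c13 LD2_c31 LD3_c27))))))))))))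
theorem f82155 : Led Lsl_bt (LP (LK LD1_c11 LD2_c38 LD3_c6)) = (LP (LK LD1_c5 LD2_c56 LD3_c25)) :=
  Lre_b IH (LK LD1_c11 LD2_c38 LD3_c6) (LK LD1_c5 LD2_c56 LD3_c25) Lrfl Lrfl
theorem f577332 : Led Lsl_bf (LP (LK LD1_c4 LD2_c25 LD3_c37)) = (LP (LK LD1_c7 LD2_c8 LD3_c28)) :=
  Lgr Lrot165 (Lpe (K12.f210623 IH) (Lpr_ct (K18.f210717 IH) (Lpr_gt (K18.f37697 IH) (Lpe (K12.f37670 IH) (Lpr_bt (K2.f82129 IH) (Lpr_gt (K40.f82151 IH) (Lpe (f82155 IH) (Lpr_ct (f82156 IH) (Lpr_gt (f577329 IH) (Lpe (K41.f565793 IH) (Lpn (LP (LK LD1_c7 LD2_c8 LD3_c28)))))))))))))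
theorem f98174 : Led Lsl_et (LP (LK LD1_c13 LD2_c31 LD3_c28)) = (LP (LK LD1_c7 LD2_c8 LD3_c28)) :=
  Lre_e IH (LK LD1_c13 LD2_c31 LD3_c28) (LK LD1_c7 LD2_c8 LD3_c28) Lrfl Lrfl
theorem f577339 : Led Lsl_bt (LP (LK LD1_c8 LD2_c48 LD3_c49)) = (LP (LK LD1_c13 LD2_c31 LD3_c28)) :=
  Lgr Lrot119 (Lpe (K37.f198298 IH) (Lpr_bf (f577332 IH) (Lpe (f98174 IH) (Lpn (LP (LK LD1_c13 LD2_c31 LD3_c28))))))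
theorem f201920 : Led Lsl_ft (LP (LK LD1_c16 LD2_c28 LD3_c59)) = (LP (LK LD1_c8 LD2_c48 LD3_c49)) :=
  Lre_f IH (LK LD1_c16 LD2_c28 LD3_c59) (LK LD1_c8 LD2_c48 LD3_c49) Lrfl Lrfl
theorem f577346 : Led Lsl_ft (LP (LK LD1_c13 LD2_c31 LD3_c28)) = (LP (LK LD1_c22 LD2_c52 LD3_c51)) :=
  Lre_f IH (LK LD1_c13 LD2_c31 LD3_c28) (LK LD1_c22 LD2_c52 LD3_c51) Lrfl Lrfl
theorem f577347 : Led Lsl_bf (LP (LK LD1_c16 LD2_c28 LD3_c59)) = (LP (LK LD1_c22 LD2_c52 LD3_c51)) :=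
  Lgr Lrot61 (Lpr_ft (f201920 IH) (Lpr_bt (f577339 IH) (Lpr_ft (f577346 IH) (Lpn (LP (LK LD1_c22 LD2_c52 LD3_c51))))))
theorem f38313 : Led Lsl_bt (LP (LK LD1_c8 LD2_c48 LD3_c39)) = (LP (LK LD1_c16 LD2_c28 LD3_c35)) :=
  Lre_b IH (LK LD1_c8 LD2_c48 LD3_c39) (LK LD1_c16 LD2_c28 LD3_c35) Lrfl Lrfl
theorem f577351 : Led Lsl_et (LP (LK LD1_c16 LD2_c28 LD3_c35)) = (LP (LK LD1_c22 LD2_c52 LD3_c51)) :=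
  Lgr Lrot74 (Lpe (f38313 IH) (Lpe (K11.f38324 IH) (Lpr_bf (f577347 IH) (Lpn (LP (LK LD1_c22 LD2_c52 LD3_c51))))))
theorem f577355 : Led Lsl_ft (LP (LK LD1_c8 LD2_c48 LD3_c24)) = (LP (LK LD1_c16 LD2_c28 LD3_c35)) :=
  Lre_f IH (LK LD1_c8 LD2_c48 LD3_c24) (LK LD1_c16 LD2_c28 LD3_c35) Lrfl Lrfl
theorem f565060 : Led Lsl_et (LP (LK LD1_c4 LD2_c25 LD3_c28)) = (LP (LK LD1_c8 LD2_c48 LD3_c24)) :=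
  Lre_e IH (LK LD1_c4 LD2_c25 LD3_c28) (LK LD1_c8 LD2_c48 LD3_c24) Lrfl Lrfl
theorem f577356 : Led Lsl_ft (LP (LK LD1_c22 LD2_c52 LD3_c51)) = (LP (LK LD1_c13 LD2_c31 LD3_c28)) :=
  Lre_f IH (LK LD1_c22 LD2_c52 LD3_c51) (LK LD1_c13 LD2_c31 LD3_c28) Lrfl Lrfl
theorem f577357 : Led Lsl_ff (LP (LK LD1_c4 LD2_c25 LD3_c28)) = (LP (LK LD1_c7 LD2_c8 LD3_c28)) :=
  Lgr Lrot72 (Lpr_et (f565060 IH) (Lpr_ft (f577355 IH) (Lpr_et (f577351 IH) (Lpr_ft (f577356 IH) (Lpr_et (f98174 IH) (Lpn (LP (LK LD1_c7 LD2_c8 LD3_c28))))))))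
theorem f577362 : Led Lsl_at (LP (LK LD1_c4 LD2_c25 LD3_c28)) = (LP (LK LD1_c7 LD2_c8 LD3_c27)) :=
  Lgr Lrot26 (Lpr_ff (f577357 IH) (Lpr_gt (K41.f6468 IH) (Lpr_gt (K41.f6466 IH) (Lpn (LP (LK LD1_c7 LD2_c8 LD3_c27))))))
theorem f566034 : Led Lsl_ft (LP (LK LD1_c17 LD2_c0 LD3_c44)) = (LP (LK LD1_c9 LD2_c8 LD3_c12)) :=
  Lre_f IH (LK LD1_c17 LD2_c0 LD3_c44) (LK LD1_c9 LD2_c8 LD3_c12) Lrfl Lrfl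
theorem f71069 : Led Lsl_dt (LP (LK LD1_c17 LD2_c0 LD3_c44)) = (LP (LK LD1_c9 LD2_c8 LD3_c13)) :=
  Lre_d IH (LK LD1_c17 LD2_c0 LD3_c44) (LK LD1_c9 LD2_c8 LD3_c13) Lrfl Lrfl
theorem f565077 : Led Lsl_bt (LP (LK LD1_c13 LD2_c28 LD3_c12)) = (LP (LK LD1_c17 LD2_c0 LD3_c44)) :=
  Lgr Lrot95 (Lpr_df (K41.f97199 IH) (Lpr_bf (K41.f565071 IH) (Lpe (f71069 IH) (Lpn (LP (LK LD1_c17 LD2_c0 LD3_c44))))))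
theorem f566035 : Led Lsl_ft (LP (LK LD1_c7 LD2_c8 LD3_c27)) = (LP (LK LD1_c13 LD2_c28 LD3_c12)) :=
  Lgr Lrot75 (Lpr_bf (K41.f566022 IH) (Lpe (f566034 IH) (Lpe (f565077 IH) (Lpn (LP (LK LD1_c13 LD2_c28 LD3_c12))))))
theorem f577368 : Led Lsl_af (LP (LK LD1_c7 LD2_c8 LD3_c28)) = (LP (LK LD1_c13 LD2_c28 LD3_c12)) :=
  Lgr Lrot45 (Lpe (f577357 IH) (Lpr_at (f577362 IH) (Lpr_ft (f566035 IH) (Lpn (LP (LK LD1_c13 LD2_c28 LD3_c12))))))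
theorem f565772 : Led Lsl_et (LP (LK LD1_c7 LD2_c8 LD3_c28)) = (LP (LK LD1_c13 LD2_c31 LD3_c28)) :=
  Lre_e IH (LK LD1_c7 LD2_c8 LD3_c28) (LK LD1_c13 LD2_c31 LD3_c28) Lrfl Lrfl
theorem f10592 : Led Lsl_et (LP (LK LD1_c22 LD2_c47 LD3_c45)) = (LP (LK LD1_c13 LD2_c28 LD3_c12)) :=
  Lre_e IH (LK LD1_c22 LD2_c47 LD3_c45) (LK LD1_c13 LD2_c28 LD3_c12) Lrfl Lrfl
theorem f577378 : Led Lsl_at (LP (LK LD1_c13 LD2_c31 LD3_c28)) = (LP (LK LD1_c22 LD2_c47 LD3_c45)) :=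
  Lgr Lrot80 (Lpe (f565772 IH) (Lpr_af (f577368 IH) (Lpe (f10592 IH) (Lpn (LP (LK LD1_c22 LD2_c47 LD3_c45))))))
theorem f97222 : Led Lsl_ft (LP (LK LD1_c22 LD2_c47 LD3_c45)) = (LP (LK LD1_c30 LD2_c43 LD3_c15)) :=
  Lre_f IH (LK LD1_c22 LD2_c47 LD3_c45) (LK LD1_c30 LD2_c43 LD3_c15) Lrfl Lrfl
theorem f577387 : Led Lsl_af (LP (LK LD1_c22 LD2_c52 LD3_c51)) = (LP (LK LD1_c30 LD2_c43 LD3_c15)) :=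
  Lgr Lrot45 (Lpr_ft (f577356 IH) (Lpr_at (f577378 IH) (Lpr_ft (f97222 IH) (Lpn (LP (LK LD1_c30 LD2_c43 LD3_c15))))))
theorem f577353 : Led Lsl_ef (LP (LK LD1_c16 LD2_c28 LD3_c35)) = (LP (LK LD1_c22 LD2_c52 LD3_c51)) :=
  Lgr Lrot88 (Lpr_et (f577351 IH) (Lpn (LP (LK LD1_c22 LD2_c52 LD3_c51))))
theorem f38294 : Led Lsl_at (LP (LK LD1_c16 LD2_c28 LD3_c19)) = (LP (LK LD1_c8 LD2_c48 LD3_c25)) :=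
  Lre_a IH (LK LD1_c16 LD2_c28 LD3_c19) (LK LD1_c8 LD2_c48 LD3_c25) Lrfl Lrfl
theorem f38605 : Led Lsl_dt (LP (LK LD1_c8 LD2_c48 LD3_c25)) = (LP (LK LD1_c16 LD2_c28 LD3_c35)) :=
  Lre_d IH (LK LD1_c8 LD2_c48 LD3_c25) (LK LD1_c16 LD2_c28 LD3_c35) Lrfl Lrfl
theorem f566015 : Led Lsl_af (LP (LK LD1_c22 LD2_c52 LD3_c45)) = (LP (LK LD1_c16 LD2_c28 LD3_c35)) :=
  Lgr Lrot117 (Lpr_dt (K41.f566013 IH) (Lpr_at (f38294 IH) (Lpr_dt (f38605 IH) (Lpn (LP (LK LD1_c16 LD2_c28 LD3_c35))))))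
theorem f577403 : Led Lsl_et (LP (LK LD1_c22 LD2_c52 LD3_c45)) = (LP (LK LD1_c30 LD2_c43 LD3_c15)) :=
  Lgr Lrot123 (Lpr_af (f566015 IH) (Lpr_ef (f577353 IH) (Lpr_af (f577387 IH) (Lpn (LP (LK LD1_c30 LD2_c43 LD3_c15))))))
theorem f566006 : Led Lsl_ft (LP (LK LD1_c13 LD2_c31 LD3_c26)) = (LP (LK LD1_c22 LD2_c52 LD3_c45)) :=
  Lre_f IH (LK LD1_c13 LD2_c31 LD3_c26) (LK LD1_c22 LD2_c52 LD3_c45) Lrfl Lrfl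
theorem f97218 : Led Lsl_ft (LP (LK LD1_c30 LD2_c43 LD3_c15)) = (LP (LK LD1_c22 LD2_c47 LD3_c45)) :=
  Lre_f IH (LK LD1_c30 LD2_c43 LD3_c15) (LK LD1_c22 LD2_c47 LD3_c45) Lrfl Lrfl
theorem f577407 : Led Lsl_ff (LP (LK LD1_c7 LD2_c8 LD3_c27)) = (LP (LK LD1_c13 LD2_c28 LD3_c12)) :=
  Lgr Lrot72 (Lpr_et (K41.f566002 IH) (Lpr_ft (f566006 IH) (Lpr_et (f577403 IH) (Lpr_ft (f97218 IH) (Lpr_et (f10592 IH) (Lpn (LP (LK LD1_c13 LD2_c28 LD3_c12))))))))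
theorem f97211 : Led Lsl_ct (LP (LK LD1_c22 LD2_c47 LD3_c44)) = (LP (LK LD1_c13 LD2_c28 LD3_c12)) :=
  Lre_c IH (LK LD1_c22 LD2_c47 LD3_c44) (LK LD1_c13 LD2_c28 LD3_c12) Lrfl Lrfl
theorem f577410 : Led Lsl_ft (LP (LK LD1_c13 LD2_c31 LD3_c25)) = (LP (LK LD1_c22 LD2_c47 LD3_c44)) :=
  Lgr Lrot4 (Lpe (K41.f6470 IH) (Lpr_ff (f577407 IH) (Lpe (f97211 IH) (Lpn (LP (LK LD1_c22 LD2_c47 LD3_c44))))))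
theorem f577417 : Led Lsl_af (LP (LK LD1_c13 LD2_c31 LD3_c27)) = (LP (LK LD1_c22 LD2_c47 LD3_c44)) :=
  Lgr Lrot109 (Lpe (K41.f565793 IH) (Lpe (K41.f565757 IH) (Lpr_cf (K1.f38459 IH) (Lpe (K41.f36204 IH) (Lpe (K41.f38461 IH) (Lpe (K41.f38462 IH) (Lpe (K41.f565798 IH) (Lpe (K41.f565797 IH) (Lpr_ft (f577410 IH) (Lpn (LP (LK LD1_c22 LD2_c47 LD3_c44))))))))))))
theorem f38467 : Led Lsl_at (LP (LK LD1_c16 LD2_c26 LD3_c36)) = (LP (LK LD1_c26 LD2_c23 LD3_c27)) :=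
  Lre_a IH (LK LD1_c16 LD2_c26 LD3_c36) (LK LD1_c26 LD2_c23 LD3_c27) Lrfl Lrfl
theorem f445676 : Led Lsl_ct (LP (LK LD1_c26 LD2_c23 LD3_c54)) = (LP (LK LD1_c16 LD2_c26 LD3_c36)) :=
  Lre_c IH (LK LD1_c26 LD2_c23 LD3_c54) (LK LD1_c16 LD2_c26 LD3_c36) Lrfl Lrfl
theorem f565788 : Led Lsl_af (LP (LK LD1_c26 LD2_c23 LD3_c54)) = (LP (LK LD1_c22 LD2_c52 LD3_c47)) :=
  Lgr Lrot68 (Lpr_ct (f445676 IH) (Lpr_at (f38467 IH) (Lpr_ct (K41.f565768 IH) (Lpn (LP (LK LD1_c22 LD2_c52 LD3_c47))))))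
theorem f577419 : Led Lsl_dt (LP (LK LD1_c26 LD2_c23 LD3_c54)) = (LP (LK LD1_c22 LD2_c47 LD3_c44)) :=
  Lgr Lrot44 (Lpr_af (f565788 IH) (Lpe (K41.f565792 IH) (Lpr_af (f577417 IH) (Lpn (LP (LK LD1_c22 LD2_c47 LD3_c44))))))
theorem f577415 : Led Lsl_ff (LP (LK LD1_c13 LD2_c31 LD3_c25)) = (LP (LK LD1_c22 LD2_c47 LD3_c44)) :=
  Lgr Lrot3 (Lpr_ft (f577410 IH) (Lpn (LP (LK LD1_c22 LD2_c47 LD3_c44))))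
theorem f577429 : Led Lsl_ff (LP (LK LD1_c26 LD2_c23 LD3_c54)) = (LP (LK LD1_c22 LD2_c52 LD3_c41)) :=
  Lgr Lrot19 (Lpr_dt (f577419 IH) (Lpe (f577415 IH) (Lpr_dt (K41.f565797 IH) (Lpn (LP (LK LD1_c22 LD2_c52 LD3_c41))))))
theorem f565794 : Led Lsl_at (LP (LK LD1_c26 LD2_c23 LD3_c27)) = (LP (LK LD1_c16 LD2_c26 LD3_c36)) :=
  Lre_a IH (LK LD1_c26 LD2_c23 LD3_c27) (LK LD1_c16 LD2_c26 LD3_c36) Lrfl Lrfl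
theorem f38482 : Led Lsl_ct (LP (LK LD1_c16 LD2_c26 LD3_c36)) = (LP (LK LD1_c26 LD2_c23 LD3_c54)) :=
  Lre_c IH (LK LD1_c16 LD2_c26 LD3_c36) (LK LD1_c26 LD2_c23 LD3_c54) Lrfl Lrfl
theorem f565795 : Led Lsl_at (LP (LK LD1_c26 LD2_c23 LD3_c54)) = (LP (LK LD1_c22 LD2_c52 LD3_c47)) :=
  Lgr Lrot107 (Lpe (f38482 IH) (Lpe (f565794 IH) (Lpr_cf (K41.f565790 IH) (Lpn (LP (LK LD1_c22 LD2_c52 LD3_c47))))))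
theorem f70522 : Led Lsl_ct (LP (LK LD1_c16 LD2_c25 LD3_c56)) = (LP (LK LD1_c8 LD2_c46 LD3_c56)) :=
  Lre_c IH (LK LD1_c16 LD2_c25 LD3_c56) (LK LD1_c8 LD2_c46 LD3_c56) Lrfl Lrfl
theorem f6527 : Led Lsl_ct (LP (LK LD1_c13 LD2_c28 LD3_c11)) = (LP (LK LD1_c22 LD2_c47 LD3_c42)) :=
  Lre_c IH (LK LD1_c13 LD2_c28 LD3_c11) (LK LD1_c22 LD2_c47 LD3_c42) Lrfl Lrfl
theorem f570551 : Led Lsl_gf (LP (LK LD1_c16 LD2_c25 LD3_c56)) = (LP (LK LD1_c22 LD2_c47 LD3_c42)) :=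
  Lgr Lrot104 (Lpr_ct (f70522 IH) (Lpe (K42.f36012 IH) (Lpr_cf (K35.f438134 IH) (Lpe (K42.f559807 IH) (Lpe (K42.f420830 IH) (Lpe (K41.f72139 IH) (Lpe (K42.f227510 IH) (Lpr_gt (K42.f570547 IH) (Lpr_ct (f6527 IH) (Lpn (LP (LK LD1_c22 LD2_c47 LD3_c42))))))))))))
theorem f438139 : Led Lsl_dt (LP (LK LD1_c16 LD2_c25 LD3_c56)) = (LP (LK LD1_c26 LD2_c23 LD3_c18)) :=
  Lre_d IH (LK LD1_c16 LD2_c25 LD3_c56) (LK LD1_c26 LD2_c23 LD3_c18) Lrfl Lrfl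
theorem f565815 : Led Lsl_dt (LP (LK LD1_c16 LD2_c28 LD3_c20)) = (LP (LK LD1_c8 LD2_c48 LD3_c12)) :=
  Lre_d IH (LK LD1_c16 LD2_c28 LD3_c20) (LK LD1_c8 LD2_c48 LD3_c12) Lrfl Lrfl
theorem f570553 : Led Lsl_gt (LP (LK LD1_c26 LD2_c23 LD3_c18)) = (LP (LK LD1_c22 LD2_c52 LD3_c47)) :=
  Lgr Lrot49 (Lpe (f438139 IH) (Lpr_gf (f570551 IH) (Lpe (f6527 IH) (Lpe (K42.f565830 IH) (Lpr_dt (f565815 IH) (Lpr_gt (K41.f565813 IH) (Lpr_dt (K41.f565757 IH) (Lpe (K41.f541037 IH) (Lpe (K41.f565763 IH) (Lpn (LP (LK LD1_c22 LD2_c52 LD3_c47))))))))))))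
theorem f577431 : Led Lsl_gf (LP (LK LD1_c26 LD2_c23 LD3_c18)) = (LP (LK LD1_c22 LD2_c52 LD3_c41)) :=
  Lgr Lrot47 (Lpr_gt (f570553 IH) (Lpe (f565795 IH) (Lpr_ff (f577429 IH) (Lpn (LP (LK LD1_c22 LD2_c52 LD3_c41))))))
theorem f150088 : Led Lsl_dt (LP (LK LD1_c26 LD2_c23 LD3_c18)) = (LP (LK LD1_c16 LD2_c25 LD3_c56)) :=
  Lre_d IH (LK LD1_c26 LD2_c23 LD3_c18) (LK LD1_c16 LD2_c25 LD3_c56) Lrfl Lrfl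
theorem f575907 : Led Lsl_gt (LP (LK LD1_c13 LD2_c38 LD3_c26)) = (LP (LK LD1_c16 LD2_c25 LD3_c54)) :=
  Lgr Lrot49 (Lpe (K41.f97185 IH) (Lpr_gf (f575903 IH) (Lpe (f98404 IH) (Lpr_gt (K42.f6556 IH) (Lpr_dt (K42.f6462 IH) (Lpr_gt (K41.f6536 IH) (Lpr_dt (K41.f565621 IH) (Lpr_cf (K41.f538517 IH) (Lpe (K41.f70524 IH) (Lpn (LP (LK LD1_c16 LD2_c25 LD3_c54))))))))))))
theorem f565807 : Led Lsl_gt (LP (LK LD1_c22 LD2_c52 LD3_c39)) = (LP (LK LD1_c13 LD2_c31 LD3_c25)) :=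
  Lre_g IH (LK LD1_c22 LD2_c52 LD3_c39) (LK LD1_c13 LD2_c31 LD3_c25) Lrfl Lrfl
theorem f577433 : Led Lsl_ct (LP (LK LD1_c13 LD2_c38 LD3_c26)) = (LP (LK LD1_c22 LD2_c52 LD3_c39)) :=
  Lgr Lrot8 (Lpr_gt (f575907 IH) (Lpr_dt (K41.f70524 IH) (Lpr_gt (K35.f70502 IH) (Lpr_dt (K42.f36012 IH) (Lpe (f70522 IH) (Lpe (f150088 IH) (Lpr_gf (f577431 IH) (Lpe (K41.f565797 IH) (Lpe (f565807 IH) (Lpn (LP (LK LD1_c22 LD2_c52 LD3_c39))))))))))))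
theorem f544410 : Led Lsl_gt (LP (LK LD1_c12 LD2_c5 LD3_c22)) = (LP (LK LD1_c13 LD2_c38 LD3_c26)) :=
  Lgr Lrot139 (Lpe (f175026 IH) (Lpr_gf (K35.f538568 IH) (Lpe (K35.f70499 IH) (Lpr_dt (K6.f70488 IH) (Lpr_gf (K37.f544402 IH) (Lpe (K37.f108530 IH) (Lpr_et (K36.f108498 IH) (Lpe (K33.f108526 IH) (Lpe (K34.f97135 IH) (Lpr_dt (K41.f97185 IH) (Lpn (LP (LK LD1_c13 LD2_c38 LD3_c26)))))))))))))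
theorem f241463 : Led Lsl_df (LP (LK LD1_c12 LD2_c5 LD3_c17)) = (LP (LK LD1_c12 LD2_c5 LD3_c23)) :=
  Lgr Lrot43 (Lpe (K13.f241079 IH) (Lpe (K12.f227856 IH) (Lpr_ct (K12.f175817 IH) (Lpr_dt (K10.f175823 IH) (Lpr_ct (K10.f100664 IH) (Lpr_dt (K13.f175821 IH) (Lpr_ct (K13.f196251 IH) (Lpr_dt (K13.f241197 IH) (Lpe (K13.f241185 IH) (Lpr_dt (K13.f241458 IH) (Lpr_ct (K13.f241457 IH) (Lpe (K13.f240914 IH) (Lpr_ct (K12.f101492 IH) (Lpr_dt (K13.f175019 IH) (Lpr_ct (K13.f227897 IH) (Lpn (LP (LK LD1_c12 LD2_c5 LD3_c23))))))))))))))))))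
theorem f272312 : Led Lsl_af (LP (LK LD1_c12 LD2_c5 LD3_c23)) = (LP (LK LD1_c8 LD2_c51 LD3_c53)) :=
  Lgr Lrot117 (Lpe (f241463 IH) (Lpr_at (K16.f272308 IH) (Lpe (K12.f198372 IH) (Lpn (LP (LK LD1_c8 LD2_c51 LD3_c53))))))
theorem f272206 : Led Lsl_ft (LP (LK LD1_c9 LD2_c51 LD3_c24)) = (LP (LK LD1_c8 LD2_c51 LD3_c53)) :=
  Lgr Lrot4 (Lpe (K13.f196251 IH) (Lpr_ff (K16.f272194 IH) (Lpe (K12.f198381 IH) (Lpn (LP (LK LD1_c8 LD2_c51 LD3_c53))))))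
theorem f411068 : Led Lsl_gf (LP (LK LD1_c12 LD2_c5 LD3_c23)) = (LP (LK LD1_c18 LD2_c2 LD3_c34)) :=
  Lgr Lrot76 (Lpr_af (f272312 IH) (Lpe (f272206 IH) (Lpr_gt (K13.f241200 IH) (Lpn (LP (LK LD1_c18 LD2_c2 LD3_c34))))))
theorem f566027 : Led Lsl_bt (LP (LK LD1_c7 LD2_c8 LD3_c27)) = (LP (LK LD1_c9 LD2_c8 LD3_c12)) :=
  Lgr Lrot127 (Lpr_bf (K41.f566022 IH) (Lpn (LP (LK LD1_c9 LD2_c8 LD3_c12))))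
theorem f418488 : Led Lsl_gt (LP (LK LD1_c9 LD2_c8 LD3_c12)) = (LP (LK LD1_c17 LD2_c0 LD3_c42)) :=
  Lre_g IH (LK LD1_c9 LD2_c8 LD3_c12) (LK LD1_c17 LD2_c0 LD3_c42) Lrfl Lrfl
theorem f577444 : Led Lsl_bt (LP (LK LD1_c12 LD2_c5 LD3_c6)) = (LP (LK LD1_c17 LD2_c0 LD3_c42)) :=
  Lgr Lrot92 (Lpe (K40.f241217 IH) (Lpe (f411068 IH) (Lpe (K13.f227897 IH) (Lpr_bt (K41.f272181 IH) (Lpr_gt (f544410 IH) (Lpr_ct (f577433 IH) (Lpr_gt (f565807 IH) (Lpe (K41.f6470 IH) (Lpr_bt (f566027 IH) (Lpr_gt (f418488 IH) (Lpn (LP (LK LD1_c17 LD2_c0 LD3_c42)))))))))))))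
theorem f80119 : Led Lsl_gt (LP (LK LD1_c9 LD2_c10 LD3_c35)) = (LP (LK LD1_c4 LD2_c37 LD3_c29)) :=
  Lre_g IH (LK LD1_c9 LD2_c10 LD3_c35) (LK LD1_c4 LD2_c37 LD3_c29) Lrfl Lrfl
theorem f71455 : Led Lsl_gt (LP (LK LD1_c17 LD2_c0 LD3_c42)) = (LP (LK LD1_c9 LD2_c8 LD3_c37)) :=
  Lre_g IH (LK LD1_c17 LD2_c0 LD3_c42) (LK LD1_c9 LD2_c8 LD3_c37) Lrfl Lrfl
theorem f573123 : Led Lsl_at (LP (LK LD1_c9 LD2_c8 LD3_c36)) = (LP (LK LD1_c17 LD2_c0 LD3_c43)) :=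
  Lre_a IH (LK LD1_c9 LD2_c8 LD3_c36) (LK LD1_c17 LD2_c0 LD3_c43) Lrfl Lrfl
theorem f573124 : Led Lsl_ft (LP (LK LD1_c17 LD2_c1 LD3_c21)) = (LP (LK LD1_c9 LD2_c8 LD3_c36)) :=
  Lre_f IH (LK LD1_c17 LD2_c1 LD3_c21) (LK LD1_c9 LD2_c8 LD3_c36) Lrfl Lrfl
theorem f573125 : Led Lsl_gf (LP (LK LD1_c21 LD2_c15 LD3_c48)) = (LP (LK LD1_c17 LD2_c1 LD3_c21)) :=
  Lgr Lrot47 (Lpr_gt (f573121 IH) (Lpe (f573123 IH) (Lpe (f573124 IH) (Lpn (LP (LK LD1_c17 LD2_c1 LD3_c21))))))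
theorem f577452 : Led Lsl_bf (LP (LK LD1_c9 LD2_c10 LD3_c35)) = (LP (LK LD1_c12 LD2_c9 LD3_c59)) :=
  Lgr Lrot156 (Lpr_gt (f80119 IH) (Lpr_bf (K42.f540914 IH) (Lpr_ct (K13.f196251 IH) (Lpr_gt (K13.f241200 IH) (Lpr_cf (K40.f241217 IH) (Lpr_bt (f577444 IH) (Lpr_gt (f71455 IH) (Lpr_ct (K41.f420812 IH) (Lpe (f573125 IH) (Lpe (K42.f569347 IH) (Lpn (LP (LK LD1_c12 LD2_c9 LD3_c59)))))))))))))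
theorem f577454 : Led Lsl_bt (LP (LK LD1_c9 LD2_c10 LD3_c35)) = (LP (LK LD1_c12 LD2_c9 LD3_c59)) :=
  Lgr Lrot127 (Lpr_bf (f577452 IH) (Lpn (LP (LK LD1_c12 LD2_c9 LD3_c59))))
theorem f89806 : Led Lsl_dt (LP (LK LD1_c14 LD2_c25 LD3_c33)) = (LP (LK LD1_c7 LD2_c39 LD3_c13)) :=
  Lre_d IH (LK LD1_c14 LD2_c25 LD3_c33) (LK LD1_c7 LD2_c39 LD3_c13) Lrfl Lrfl
theorem f559159 : Led Lsl_et (LP (LK LD1_c12 LD2_c9 LD3_c59)) = (LP (LK LD1_c14 LD2_c25 LD3_c33)) :=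
  Lgr Lrot71 (Lpe (K42.f556376 IH) (Lpe (K42.f556378 IH) (Lpr_df (K41.f559153 IH) (Lpe (K28.f88594 IH) (Lpe (f89806 IH) (Lpn (LP (LK LD1_c14 LD2_c25 LD3_c33))))))))
theorem f577456 : Led Lsl_ef (LP (LK LD1_c9 LD2_c10 LD3_c35)) = (LP (LK LD1_c13 LD2_c30 LD3_c1)) :=
  Lgr Lrot29 (Lpr_bt (f577454 IH) (Lpr_et (f559159 IH) (Lpr_bt (K28.f96888 IH) (Lpn (LP (LK LD1_c13 LD2_c30 LD3_c1))))))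
theorem f577468 : Led Lsl_et (LP (LK LD1_c9 LD2_c10 LD3_c35)) = (LP (LK LD1_c13 LD2_c30 LD3_c1)) :=
  Lgr Lrot87 (Lpr_ef (f577456 IH) (Lpn (LP (LK LD1_c13 LD2_c30 LD3_c1))))
theorem f96880 : Led Lsl_et (LP (LK LD1_c7 LD2_c7 LD3_c33)) = (LP (LK LD1_c3 LD2_c33 LD3_c19)) :=
  Lre_e IH (LK LD1_c7 LD2_c7 LD3_c33) (LK LD1_c3 LD2_c33 LD3_c19) Lrfl Lrfl
theorem f467213 : Led Lsl_dt (LP (LK LD1_c7 LD2_c9 LD3_c39)) = (LP (LK LD1_c13 LD2_c33 LD3_c48)) :=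
  Lre_d IH (LK LD1_c7 LD2_c9 LD3_c39) (LK LD1_c13 LD2_c33 LD3_c48) Lrfl Lrfl
theorem f478025 : Led Lsl_et (LP (LK LD1_c7 LD2_c9 LD3_c39)) = (LP (LK LD1_c3 LD2_c34 LD3_c13)) :=
  Lre_e IH (LK LD1_c7 LD2_c9 LD3_c39) (LK LD1_c3 LD2_c34 LD3_c13) Lrfl Lrfl
theorem f36580 : Led Lsl_gt (LP (LK LD1_c4 LD2_c24 LD3_c2)) = (LP (LK LD1_c2 LD2_c9 LD3_c26)) :=
  Lre_g IH (LK LD1_c4 LD2_c24 LD3_c2) (LK LD1_c2 LD2_c9 LD3_c26) Lrfl Lrfl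
theorem f540263 : Led Lsl_dt (LP (LK LD1_c3 LD2_c33 LD3_c19)) = (LP (LK LD1_c4 LD2_c24 LD3_c2)) :=
  Lgr Lrot136 (Lpr_et (K28.f96875 IH) (Lpr_gf (K29.f478009 IH) (Lpe (f478025 IH) (Lpr_dt (f467213 IH) (Lpr_gf (K34.f488196 IH) (Lpe (K34.f11635 IH) (Lpe (K34.f488200 IH) (Lpe (K34.f17917 IH) (Lpr_dt (K36.f540249 IH) (Lpe (f36580 IH) (Lpn (LP (LK LD1_c4 LD2_c24 LD3_c2)))))))))))))
theorem f577517 : Led Lsl_et (LP (LK LD1_c4 LD2_c24 LD3_c2)) = (LP (LK LD1_c8 LD2_c45 LD3_c53)) :=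
  Lre_e IH (LK LD1_c4 LD2_c24 LD3_c2) (LK LD1_c8 LD2_c45 LD3_c53) Lrfl Lrfl
theorem f577518 : Led Lsl_df (LP (LK LD1_c9 LD2_c10 LD3_c35)) = (LP (LK LD1_c8 LD2_c45 LD3_c53)) :=
  Lgr Lrot70 (Lpr_et (f577468 IH) (Lpr_dt (K28.f96887 IH) (Lpr_et (f96880 IH) (Lpr_dt (f540263 IH) (Lpr_et (f577517 IH) (Lpn (LP (LK LD1_c8 LD2_c45 LD3_c53))))))))
theorem f80117 : Led Lsl_et (LP (LK LD1_c2 LD2_c15 LD3_c57)) = (LP (LK LD1_c1 LD2_c4 LD3_c57)) :=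
  Lre_e IH (LK LD1_c2 LD2_c15 LD3_c57) (LK LD1_c1 LD2_c4 LD3_c57) Lrfl Lrfl
theorem f161943 : Led Lsl_ff (LP (LK LD1_c1 LD2_c31 LD3_c6)) = (LP (LK LD1_c2 LD2_c9 LD3_c24)) :=
  Lgr Lrot103 (Lpr_at (K35.f69204 IH) (Lpe (K4.f59711 IH) (Lpe (K6.f68568 IH) (Lpe (K4.f56779 IH) (Lpe (K4.f64481 IH) (Lpe (K4.f64547 IH) (Lpr_df (K8.f161935 IH) (Lpe (K8.f36587 IH) (Lpe (K40.f36586 IH) (Lpn (LP (LK LD1_c2 LD2_c9 LD3_c24))))))))))))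
theorem f108495 : Led Lsl_bt (LP (LK LD1_c3 LD2_c36 LD3_c5)) = (LP (LK LD1_c1 LD2_c44 LD3_c56)) :=
  Lre_b IH (LK LD1_c3 LD2_c36 LD3_c5) (LK LD1_c1 LD2_c44 LD3_c56) Lrfl Lrfl
theorem f98016 : Led Lsl_bt (LP (LK LD1_c1 LD2_c43 LD3_c0)) = (LP (LK LD1_c3 LD2_c32 LD3_c37)) :=
  Lre_b IH (LK LD1_c1 LD2_c43 LD3_c0) (LK LD1_c3 LD2_c32 LD3_c37) Lrfl Lrfl
theorem f108510 : Led Lsl_ff (LP (LK LD1_c3 LD2_c36 LD3_c5)) = (LP (LK LD1_c3 LD2_c32 LD3_c37)) :=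
  Lgr Lrot25 (Lpr_bt (f108495 IH) (Lpr_ft (K3.f108508 IH) (Lpr_bt (f98016 IH) (Lpn (LP (LK LD1_c3 LD2_c32 LD3_c37))))))
theorem f540438 : Led Lsl_et (LP (LK LD1_c2 LD2_c17 LD3_c0)) = (LP (LK LD1_c3 LD2_c32 LD3_c37)) :=
  Lgr Lrot69 (Lpr_ff (K11.f206860 IH) (Lpqs (K35.f537787 IH) (Lpe (K35.f506283 IH) (Lpr_ff (f161943 IH) (Lpr_ef (K36.f540430 IH) (Lpr_ff (f108510 IH) (Lpn (LP (LK LD1_c3 LD2_c32 LD3_c37)))))))))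
theorem f137668 : Led Lsl_et (LP (LK LD1_c8 LD2_c45 LD3_c53)) = (LP (LK LD1_c4 LD2_c24 LD3_c2)) :=
  Lre_e IH (LK LD1_c8 LD2_c45 LD3_c53) (LK LD1_c4 LD2_c24 LD3_c2) Lrfl Lrfl
theorem f577528 : Led Lsl_gt (LP (LK LD1_c3 LD2_c32 LD3_c37)) = (LP (LK LD1_c4 LD2_c24 LD3_c2)) :=
  Lgr Lrot131 (Lpe (f540438 IH) (Lpr_dt (K7.f79949 IH) (Lpr_gf (K7.f79959 IH) (Lpe (K7.f79958 IH) (Lpe (K7.f79957 IH) (Lpe (f80117 IH) (Lpr_dt (K42.f80118 IH) (Lpe (f80119 IH) (Lpr_df (f577518 IH) (Lpr_et (f137668 IH) (Lpn (LP (LK LD1_c4 LD2_c24 LD3_c2)))))))))))))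
theorem f549508 : Led Lsl_cf (LP (LK LD1_c2 LD2_c17 LD3_c1)) = (LP (LK LD1_c3 LD2_c32 LD3_c37)) :=
  Lgr Lrot14 (Lpe (K35.f80180 IH) (Lpr_gf (K38.f549504 IH) (Lpe (K38.f549492 IH) (Lpqs (K38.f546908 IH) (Lpe (K38.f495844 IH) (Lpr_ct (K38.f172696 IH) (Lpr_gt (K38.f172736 IH) (Lpe (K38.f549506 IH) (Lpr_gt (K24.f116577 IH) (Lpr_dt (K38.f92479 IH) (Lpn (LP (LK LD1_c3 LD2_c32 LD3_c37)))))))))))))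
theorem f577532 : Led Lsl_df (LP (LK LD1_c3 LD2_c33 LD3_c19)) = (LP (LK LD1_c4 LD2_c24 LD3_c2)) :=
  Lgr Lrot153 (Lpr_gt (K5.f127900 IH) (Lpr_dt (K38.f549539 IH) (Lpe (K41.f538140 IH) (Lpe (K42.f538139 IH) (Lpr_gf (K41.f538130 IH) (Lpe (K40.f36578 IH) (Lpe (K40.f538126 IH) (Lpr_cf (f549508 IH) (Lpr_gt (f577528 IH) (Lpn (LP (LK LD1_c4 LD2_c24 LD3_c2))))))))))))
theorem f549545 : Led Lsl_df (LP (LK LD1_c3 LD2_c36 LD3_c45)) = (LP (LK LD1_c4 LD2_c33 LD3_c1)) :=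
  Lgr Lrot38 (Lpr_dt (K38.f549539 IH) (Lpn (LP (LK LD1_c4 LD2_c33 LD3_c1))))
theorem f577540 : Led Lsl_gf (LP (LK LD1_c4 LD2_c32 LD3_c54)) = (LP (LK LD1_c2 LD2_c13 LD3_c29)) :=
  Lgr Lrot141 (Lpe (K38.f549577 IH) (Lpr_dt (K7.f79958 IH) (Lpe (K7.f79959 IH) (Lpe (K7.f79949 IH) (Lpr_et (f540438 IH) (Lpr_gt (f577528 IH) (Lpe (f577532 IH) (Lpr_gt (K5.f127900 IH) (Lpr_df (f549545 IH) (Lpr_et (K40.f549547 IH) (Lpn (LP (LK LD1_c2 LD2_c13 LD3_c29)))))))))))))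
theorem f561311 : Led Lsl_gt (LP (LK LD1_c16 LD2_c51 LD3_c61)) = (LP (LK LD1_c20 LD2_c21 LD3_c41)) :=
  Lgr Lrot180 (Lpr_ct (K31.f398616 IH) (Lpr_gt (K31.f398511 IH) (Lpe (K31.f280384 IH) (Lpr_gt (K39.f281928 IH) (Lpe (K39.f552679 IH) (Lpr_ct (K40.f561306 IH) (Lpe (K40.f73064 IH) (Lpe (K41.f73117 IH) (Lpe (K41.f542260 IH) (Lpn (LP (LK LD1_c20 LD2_c21 LD3_c41))))))))))))
theorem f566659 : Led Lsl_gf (LP (LK LD1_c4 LD2_c57 LD3_c6)) = (LP (LK LD1_c5 LD2_c42 LD3_c39)) :=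
  Lgr Lrot154 (Lpr_dt (K39.f424150 IH) (Lpr_ct (K41.f566648 IH) (Lpe (K41.f542260 IH) (Lpe (f561311 IH) (Lpe (K31.f398541 IH) (Lpr_gf (K39.f549305 IH) (Lpr_ct (K40.f407069 IH) (Lpe (K39.f549312 IH) (Lpr_dt (K39.f172472 IH) (Lpn (LP (LK LD1_c5 LD2_c42 LD3_c39))))))))))))
theorem f566703 : Led Lsl_ft (LP (LK LD1_c8 LD2_c44 LD3_c16)) = (LP (LK LD1_c4 LD2_c23 LD3_c23)) :=
  Lre_f IH (LK LD1_c8 LD2_c44 LD3_c16) (LK LD1_c4 LD2_c23 LD3_c23) Lrfl Lrfl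
theorem f566704 : Led Lsl_ct (LP (LK LD1_c4 LD2_c57 LD3_c6)) = (LP (LK LD1_c8 LD2_c44 LD3_c16)) :=
  Lgr Lrot40 (Lpe (K41.f566672 IH) (Lpr_cf (K41.f566697 IH) (Lpe (f566703 IH) (Lpn (LP (LK LD1_c8 LD2_c44 LD3_c16))))))
theorem f380263 : Led Lsl_ct (LP (LK LD1_c1 LD2_c3 LD3_c46)) = (LP (LK LD1_c2 LD2_c13 LD3_c29)) :=
  Lre_c IH (LK LD1_c1 LD2_c3 LD3_c46) (LK LD1_c2 LD2_c13 LD3_c29) Lrfl Lrfl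
theorem f495748 : Led Lsl_bf (LP (LK LD1_c1 LD2_c19 LD3_c38)) = K35.v1475 :=
  Lgr Lrot24 (Lpr_bt (K35.f495747 IH) (Lpn K35.v1475))
theorem f577556 : Led Lsl_gt (LP (LK LD1_c8 LD2_c44 LD3_c16)) = (LP (LK LD1_c4 LD2_c32 LD3_c8)) :=
  Lgr Lrot149 (Lpe (f566704 IH) (Lpr_gf (f566659 IH) (Lpe (K31.f172467 IH) (Lpr_ct (K39.f552564 IH) (Lpr_gf (f577540 IH) (Lpe (f380263 IH) (Lpr_bt (K37.f494153 IH) (Lpq (K37.f546708 IH) (Lpr_gf (K16.f268717 IH) (Lpr_bf (f495748 IH) (Lpq (K35.f538892 IH) (Lpr_ct (K31.f181777 IH) (Lpn (LP (LK LD1_c4 LD2_c32 LD3_c8)))))))))))))))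
theorem f577560 : Led Lsl_bt (LP (LK LD1_c4 LD2_c23 LD3_c17)) = (LP (LK LD1_c8 LD2_c44 LD3_c16)) :=
  Lre_b IH (LK LD1_c4 LD2_c23 LD3_c17) (LK LD1_c8 LD2_c44 LD3_c16) Lrfl Lrfl
theorem f552804 : Led Lsl_bf (LP (LK LD1_c3 LD2_c33 LD3_c23)) = (LP (LK LD1_c2 LD2_c47 LD3_c16)) :=
  Lgr Lrot93 (Lpr_dt (K39.f97384 IH) (Lpr_bt (K39.f552798 IH) (Lpr_dt (K30.f268876 IH) (Lpn (LP (LK LD1_c2 LD2_c47 LD3_c16))))))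
theorem f569712 : Led Lsl_bt (LP (LK LD1_c4 LD2_c32 LD3_c54)) = (LP (LK LD1_c7 LD2_c7 LD3_c38)) :=
  Lgr Lrot119 (Lpe (K38.f549577 IH) (Lpe (K7.f119695 IH) (Lpr_ef (K42.f569710 IH) (Lpn (LP (LK LD1_c7 LD2_c7 LD3_c38))))))
theorem f117636 : Led Lsl_dt (LP (LK LD1_c6 LD2_c24 LD3_c35)) = (LP (LK LD1_c3 LD2_c9 LD3_c56)) :=
  Lre_d IH (LK LD1_c6 LD2_c24 LD3_c35) (LK LD1_c3 LD2_c9 LD3_c56) Lrfl Lrfl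
theorem f557318 : Led Lsl_cf (LP (LK LD1_c4 LD2_c57 LD3_c4)) = (LP (LK LD1_c4 LD2_c32 LD3_c54)) :=
  Lgr Lrot166 (Lpr_gt (K31.f172461 IH) (Lpr_dt (K39.f172475 IH) (Lpr_gt (K39.f557316 IH) (Lpr_dt (K39.f547774 IH) (Lpq (K39.f547765 IH) (Lpe (K38.f496031 IH) (Lpe (f117636 IH) (Lpr_gf (K38.f549564 IH) (Lpe (K38.f549571 IH) (Lpe (K38.f549572 IH) (Lpn (LP (LK LD1_c4 LD2_c32 LD3_c54)))))))))))))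
theorem f577561 : Led Lsl_ct (LP (LK LD1_c4 LD2_c23 LD3_c17)) = (LP (LK LD1_c2 LD2_c26 LD3_c29)) :=
  Lgr Lrot10 (Lpr_bt (f577560 IH) (Lpr_gt (f577556 IH) (Lpr_ct (K31.f181781 IH) (Lpr_gt (K31.f407064 IH) (Lpe (K30.f268873 IH) (Lpe (f552804 IH) (Lpr_gt (K42.f96474 IH) (Lpe (f569712 IH) (Lpe (f557318 IH) (Lpr_gt (K31.f172461 IH) (Lpn (LP (LK LD1_c2 LD2_c26 LD3_c29)))))))))))))
theorem f174844 : Led Lsl_ct (LP (LK LD1_c4 LD2_c31 LD3_c57)) = (LP (LK LD1_c4 LD2_c32 LD3_c53)) :=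
  Lre_c IH (LK LD1_c4 LD2_c31 LD3_c57) (LK LD1_c4 LD2_c32 LD3_c53) Lrfl Lrfl
theorem f181532 : Led Lsl_bf (LP (LK LD1_c2 LD2_c46 LD3_c43)) = (LP (LK LD1_c4 LD2_c32 LD3_c53)) :=
  Lgr Lrot90 (Lpr_ct (K10.f181497 IH) (Lpr_bt (K31.f181479 IH) (Lpr_ct (K10.f181469 IH) (Lpr_bt (K30.f174821 IH) (Lpr_ct (f174844 IH) (Lpn (LP (LK LD1_c4 LD2_c32 LD3_c53))))))))
theorem f577574 : Led Lsl_gf (LP (LK LD1_c8 LD2_c44 LD3_c16)) = (LP (LK LD1_c4 LD2_c32 LD3_c10)) :=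
  Lgr Lrot124 (Lpe (f577560 IH) (Lpr_ct (f577561 IH) (Lpr_gt (K31.f424143 IH) (Lpe (K10.f174812 IH) (Lpe (f181532 IH) (Lpe (K31.f181481 IH) (Lpr_ct (K31.f181498 IH) (Lpr_gt (K36.f172459 IH) (Lpr_cf (K39.f411808 IH) (Lpe (K36.f411827 IH) (Lpn (LP (LK LD1_c4 LD2_c32 LD3_c10)))))))))))))
theorem f577578 : Led Lsl_ct (LP (LK LD1_c8 LD2_c44 LD3_c16)) = (LP (LK LD1_c4 LD2_c57 LD3_c6)) :=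
  Lgr Lrot152 (Lpr_gf (f577574 IH) (Lpe (K31.f280519 IH) (Lpr_gt (K41.f565127 IH) (Lpe (K41.f411721 IH) (Lpe (K41.f424230 IH) (Lpr_ct (K31.f280500 IH) (Lpe (K31.f280497 IH) (Lpe (K30.f280504 IH) (Lpe (K41.f557336 IH) (Lpn (LP (LK LD1_c4 LD2_c57 LD3_c6))))))))))))
theorem f551981 : Led Lsl_bf (LP (LK LD1_c5 LD2_c41 LD3_c60)) = (LP (LK LD1_c2 LD2_c47 LD3_c20)) :=
  Lgr Lrot24 (Lpr_bt (K39.f551978 IH) (Lpn (LP (LK LD1_c2 LD2_c47 LD3_c20))))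
theorem f577580 : Led Lsl_bf (LP (LK LD1_c7 LD2_c59 LD3_c16)) = (LP (LK LD1_c4 LD2_c57 LD3_c17)) :=
  Lgr Lrot34 (Lpr_gf (K42.f571871 IH) (Lpr_bf (f551981 IH) (Lpr_ct (K31.f280501 IH) (Lpe (K41.f557336 IH) (Lpe (f577578 IH) (Lpr_gf (f577574 IH) (Lpr_bf (K36.f411827 IH) (Lpe (K39.f411808 IH) (Lpe (K36.f172459 IH) (Lpe (K31.f181498 IH) (Lpn (LP (LK LD1_c4 LD2_c57 LD3_c17)))))))))))))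
theorem f542307 : Led Lsl_bf (LP (LK LD1_c4 LD2_c23 LD3_c0)) = (LP (LK LD1_c4 LD2_c32 LD3_c32)) :=
  Lgr Lrot24 (Lpr_bt (K37.f542305 IH) (Lpn (LP (LK LD1_c4 LD2_c32 LD3_c32))))
theorem f181578 : Led Lsl_bt (LP (LK LD1_c2 LD2_c46 LD3_c54)) = (LP (LK LD1_c2 LD2_c9 LD3_c2)) :=
  Lgr Lrot127 (Lpr_bf (K10.f181574 IH) (Lpn (LP (LK LD1_c2 LD2_c9 LD3_c2))))
def v1489 : LQ := Led Lsl_gf (LP (LK LD1_c1 LD2_c19 LD3_c53))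
theorem f495826 : Led Lsl_gf (LP (LK LD1_c1 LD2_c19 LD3_c53)) = v1489 :=
  Lrfl
theorem f495956 : Led Lsl_gt (LP (LK LD1_c2 LD2_c49 LD3_c54)) = K35.v1506 :=
  Lgr Lrot164 (Lpe (K8.f117815 IH) (Lpr_ct (K5.f66378 IH) (Lpe (K4.f13446 IH) (Lpr_cf (K6.f135885 IH) (Lpe (K6.f57256 IH) (Lpe (K5.f57257 IH) (Lpr_ct (K5.f100283 IH) (Lpe (K4.f73025 IH) (Lpe (K4.f73024 IH) (Lpr_bt (K35.f495952 IH) (Lpn K35.v1506)))))))))))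
theorem f56812 : Led Lsl_bt (LP (LK LD1_c0 LD2_c44 LD3_c44)) = (LP (LK LD1_c1 LD2_c36 LD3_c32)) :=
  Lre_b IH (LK LD1_c0 LD2_c44 LD3_c44) (LK LD1_c1 LD2_c36 LD3_c32) Lrfl Lrfl
theorem f161014 : Led Lsl_gt (LP (LK LD1_c1 LD2_c36 LD3_c32)) = (LP (LK LD1_c2 LD2_c53 LD3_c12)) :=
  Lgr Lrot82 (Lpe (f56812 IH) (Lpr_ct (K6.f56752 IH) (Lpe (K6.f139698 IH) (Lpe (K7.f139706 IH) (Lpr_bt (K42.f146605 IH) (Lpr_gf (K8.f161010 IH) (Lpe (K11.f120801 IH) (Lpr_ct (K11.f40405 IH) (Lpr_gf (K11.f120799 IH) (Lpe (K4.f68999 IH) (Lpn (LP (LK LD1_c2 LD2_c53 LD3_c12)))))))))))))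
theorem f552065 : K38.v1627 = v1489 :=
  (Llr Lrot185 (Lpe (K38.f500421 IH) (Lpr_dt (K8.f69009 IH) (Lpe (f161014 IH) (Lpr_df (K35.f495954 IH) (Lpe (f495956 IH) (Lpr_ef (K39.f552057 IH) (Lpr_dt (K39.f549809 IH) (Lpe (K31.f174115 IH) (Lpe (K16.f174338 IH) (Lpr_et (K16.f269074 IH) (Lpr_gf (f495826 IH) (Lpn v1489))))))))))))).symm
theorem f577591 : Led Lsl_gt (LP (LK LD1_c7 LD2_c59 LD3_c16)) = (LP (LK LD1_c5 LD2_c41 LD3_c26)) :=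
  Lgr Lrot82 (Lpr_bf (f577580 IH) (Lpr_ct (K31.f181498 IH) (Lpe (K40.f559559 IH) (Lpe (K30.f281788 IH) (Lpe (f542307 IH) (Lpe (K13.f236570 IH) (Lpe (f181578 IH) (Lpr_ct (K10.f181580 IH) (Lpr_gf (f495826 IH) (Lpq (f552065 IH) (Lpqs (K38.f541389 IH) (Lpe (K38.f174341 IH) (Lpn (LP (LK LD1_c5 LD2_c41 LD3_c26)))))))))))))))
theorem f577595 : Led Lsl_ef (LP (LK LD1_c7 LD2_c59 LD3_c16)) = (LP (LK LD1_c7 LD2_c33 LD3_c47)) :=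
  Lgr Lrot114 (Lpr_gt (f577591 IH) (Lpr_ef (K38.f547522 IH) (Lpr_dt (K8.f99535 IH) (Lpe (K8.f149242 IH) (Lpe (K32.f73431 IH) (Lpr_et (K37.f80638 IH) (Lpe (K40.f558745 IH) (Lpr_dt (K40.f558747 IH) (Lpe (K3.f88608 IH) (Lpe (K37.f120277 IH) (Lpn (LP (LK LD1_c7 LD2_c33 LD3_c47)))))))))))))
theorem f542210 : Led Lsl_ft (LP (LK LD1_c7 LD2_c59 LD3_c16)) = (LP (LK LD1_c3 LD2_c58 LD3_c59)) :=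
  Lre_f IH (LK LD1_c7 LD2_c59 LD3_c16) (LK LD1_c3 LD2_c58 LD3_c59) Lrfl Lrfl
theorem f577589 : Led Lsl_ft (LP (LK LD1_c7 LD2_c59 LD3_c14)) = (LP (LK LD1_c4 LD2_c57 LD3_c17)) :=
  Lgr Lrot75 (Lpe (K39.f181351 IH) (Lpe (f542210 IH) (Lpr_bf (f577580 IH) (Lpn (LP (LK LD1_c4 LD2_c57 LD3_c17))))))
theorem f577601 : Led Lsl_ft (LP (LK LD1_c9 LD2_c45 LD3_c34)) = (LP (LK LD1_c7 LD2_c33 LD3_c47)) :=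
  Lgr Lrot86 (Lpe (K39.f556307 IH) (Lpe (f577589 IH) (Lpr_ef (K39.f542205 IH) (Lpe (f542210 IH) (Lpr_ef (f577595 IH) (Lpn (LP (LK LD1_c7 LD2_c33 LD3_c47))))))))
theorem f556313 : Led Lsl_dt (LP (LK LD1_c7 LD2_c13 LD3_c23)) = (LP (LK LD1_c9 LD2_c45 LD3_c34)) :=
  Lgr Lrot57 (Lpr_gf (K6.f88595 IH) (Lpe (K3.f88584 IH) (Lpr_gt (K3.f96862 IH) (Lpr_dt (K34.f158519 IH) (Lpe (K28.f120290 IH) (Lpr_dt (K32.f97466 IH) (Lpe (K3.f64640 IH) (Lpe (K3.f64641 IH) (Lpr_gf (K39.f556309 IH) (Lpn (LP (LK LD1_c9 LD2_c45 LD3_c34))))))))))))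
theorem f556420 : Led Lsl_ct (LP (LK LD1_c7 LD2_c0 LD3_c43)) = (LP (LK LD1_c8 LD2_c12 LD3_c5)) :=
  Lgr Lrot152 (Lpr_gf (K39.f556309 IH) (Lpe (f556313 IH) (Lpr_gt (K6.f88497 IH) (Lpe (K3.f88510 IH) (Lpr_gt (K8.f88531 IH) (Lpr_ct (K8.f162825 IH) (Lpe (K39.f160383 IH) (Lpr_cf (K42.f551664 IH) (Lpr_gf (K39.f556416 IH) (Lpn (LP (LK LD1_c8 LD2_c12 LD3_c5))))))))))))
theorem f556422 : Led Lsl_df (LP (LK LD1_c7 LD2_c13 LD3_c23)) = (LP (LK LD1_c9 LD2_c45 LD3_c34)) :=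
  Lgr Lrot155 (Lpr_gt (K6.f88497 IH) (Lpe (K3.f88510 IH) (Lpr_gt (K8.f88531 IH) (Lpr_ct (K8.f162825 IH) (Lpr_dt (K39.f160384 IH) (Lpr_cf (K42.f551664 IH) (Lpr_gf (K39.f556416 IH) (Lpe (f556420 IH) (Lpr_gf (K39.f556309 IH) (Lpn (LP (LK LD1_c9 LD2_c45 LD3_c34))))))))))))
theorem f110364 : Led Lsl_dt (LP (LK LD1_c2 LD2_c56 LD3_c23)) = (LP (LK LD1_c6 LD2_c0 LD3_c10)) :=
  Lre_d IH (LK LD1_c2 LD2_c56 LD3_c23) (LK LD1_c6 LD2_c0 LD3_c10) Lrfl Lrfl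
theorem f548954 : Led Lsl_ct (LP (LK LD1_c7 LD2_c59 LD3_c26)) = (LP (LK LD1_c3 LD2_c59 LD3_c4)) :=
  Lre_c IH (LK LD1_c7 LD2_c59 LD3_c26) (LK LD1_c3 LD2_c59 LD3_c4) Lrfl Lrfl
theorem f571850 : Led Lsl_af (LP (LK LD1_c7 LD2_c59 LD3_c26)) = (LP (LK LD1_c7 LD2_c33 LD3_c47)) :=
  Lgr Lrot68 (Lpr_ct (f548954 IH) (Lpr_at (K42.f571846 IH) (Lpr_ct (K37.f546856 IH) (Lpn (LP (LK LD1_c7 LD2_c33 LD3_c47))))))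
theorem f548955 : Led Lsl_df (LP (LK LD1_c3 LD2_c59 LD3_c4)) = (LP (LK LD1_c5 LD2_c49 LD3_c14)) :=
  Lgr Lrot38 (Lpr_dt (K38.f548951 IH) (Lpn (LP (LK LD1_c5 LD2_c49 LD3_c14))))
theorem f577609 : Led Lsl_ct (LP (LK LD1_c6 LD2_c0 LD3_c10)) = (LP (LK LD1_c5 LD2_c49 LD3_c14)) :=
  Lgr Lrot53 (Lpe (f110364 IH) (Lpe (K6.f110365 IH) (Lpe (K37.f136927 IH) (Lpr_cf (K6.f96148 IH) (Lpr_df (f556422 IH) (Lpr_ft (f577601 IH) (Lpe (f571850 IH) (Lpe (f551680 IH) (Lpr_df (f548955 IH) (Lpn (LP (LK LD1_c5 LD2_c49 LD3_c14))))))))))))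
theorem f150265 : Led Lsl_cf (LP (LK LD1_c9 LD2_c47 LD3_c48)) = (LP (LK LD1_c5 LD2_c59 LD3_c52)) :=
  Lgr Lrot11 (Lpr_ct (K28.f150261 IH) (Lpn (LP (LK LD1_c5 LD2_c59 LD3_c52))))
theorem f156786 : Led Lsl_gf (LP (LK LD1_c5 LD2_c59 LD3_c52)) = (LP (LK LD1_c2 LD2_c56 LD3_c24)) :=
  Lgr Lrot179 (Lpe (f150265 IH) (Lpe (K32.f105059 IH) (Lpr_ct (K4.f105037 IH) (Lpr_dt (K4.f105025 IH) (Lpr_cf (K7.f156754 IH) (Lpe (K8.f156784 IH) (Lpe (K8.f150374 IH) (Lpe (K8.f72649 IH) (Lpr_dt (K37.f72650 IH) (Lpn (LP (LK LD1_c2 LD2_c56 LD3_c24))))))))))))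
theorem f138170 : Led Lsl_bt (LP (LK LD1_c4 LD2_c46 LD3_c38)) = (LP (LK LD1_c5 LD2_c54 LD3_c9)) :=
  Lgr Lrot127 (Lpr_bf (K8.f138165 IH) (Lpn (LP (LK LD1_c5 LD2_c54 LD3_c9))))
theorem f450198 : Led Lsl_ct (LP (LK LD1_c12 LD2_c10 LD3_c53)) = (LP (LK LD1_c6 LD2_c17 LD3_c0)) :=
  Lre_c IH (LK LD1_c12 LD2_c10 LD3_c53) (LK LD1_c6 LD2_c17 LD3_c0) Lrfl Lrfl
theorem f577619 : Led Lsl_bf (LP (LK LD1_c11 LD2_c34 LD3_c4)) = (LP (LK LD1_c12 LD2_c10 LD3_c53)) :=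
  Lgr Lrot34 (Lpe (K39.f72244 IH) (Lpe (f138170 IH) (Lpr_ct (K6.f105032 IH) (Lpr_gf (K32.f105059 IH) (Lpr_cf (f150265 IH) (Lpr_gf (f156786 IH) (Lpe (K37.f72674 IH) (Lpr_ct (f577609 IH) (Lpe (K38.f450460 IH) (Lpe (f450198 IH) (Lpn (LP (LK LD1_c12 LD2_c10 LD3_c53)))))))))))))
theorem f202584 : Led Lsl_bt (LP (LK LD1_c11 LD2_c34 LD3_c11)) = (LP (LK LD1_c5 LD2_c54 LD3_c11)) :=
  Lre_b IH (LK LD1_c11 LD2_c34 LD3_c11) (LK LD1_c5 LD2_c54 LD3_c11) Lrfl Lrfl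
theorem f541168 : Led Lsl_ct (LP (LK LD1_c11 LD2_c34 LD3_c11)) = (LP (LK LD1_c12 LD2_c23 LD3_c49)) :=
  Lgr Lrot59 (Lpr_cf (K36.f541164 IH) (Lpn (LP (LK LD1_c12 LD2_c23 LD3_c49))))
theorem f577625 : Led Lsl_bt (LP (LK LD1_c12 LD2_c10 LD3_c1)) = (LP (LK LD1_c6 LD2_c16 LD3_c25)) :=
  Lre_b IH (LK LD1_c12 LD2_c10 LD3_c1) (LK LD1_c6 LD2_c16 LD3_c25) Lrfl Lrfl
theorem f577626 : Led Lsl_cf (LP (LK LD1_c7 LD2_c40 LD3_c54)) = (LP (LK LD1_c12 LD2_c10 LD3_c1)) :=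
  Lgr Lrot58 (Lpr_gf (K40.f541176 IH) (Lpe (f541168 IH) (Lpr_bt (f202584 IH) (Lpr_gf (K39.f202591 IH) (Lpr_bf (f577619 IH) (Lpr_ct (f450198 IH) (Lpr_gf (K42.f450196 IH) (Lpe (K42.f450200 IH) (Lpr_gf (K42.f571400 IH) (Lpe (f577625 IH) (Lpn (LP (LK LD1_c12 LD2_c10 LD3_c1)))))))))))))
theorem f203771 : Led Lsl_bt (LP (LK LD1_c11 LD2_c45 LD3_c22)) = (LP (LK LD1_c16 LD2_c24 LD3_c17)) :=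
  Lgr Lrot130 (Lpr_ct (K33.f203059 IH) (Lpr_gf (K34.f203769 IH) (Lpe (K7.f146728 IH) (Lpe (K28.f151237 IH) (Lpr_gf (K7.f151246 IH) (Lpe (K7.f36052 IH) (Lpr_ct (K2.f35962 IH) (Lpr_gf (K4.f112585 IH) (Lpe (K5.f81100 IH) (Lpe (K36.f81101 IH) (Lpn (LP (LK LD1_c16 LD2_c24 LD3_c17)))))))))))))
theorem f203773 : Led Lsl_bf (LP (LK LD1_c11 LD2_c45 LD3_c22)) = (LP (LK LD1_c16 LD2_c24 LD3_c17)) :=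
  Lgr Lrot24 (Lpr_bt (f203771 IH) (Lpn (LP (LK LD1_c16 LD2_c24 LD3_c17))))
theorem f541086 : Led Lsl_ct (LP (LK LD1_c16 LD2_c24 LD3_c17)) = (LP (LK LD1_c12 LD2_c23 LD3_c46)) :=
  Lgr Lrot59 (Lpr_cf (K36.f541080 IH) (Lpn (LP (LK LD1_c12 LD2_c23 LD3_c46))))
theorem f541090 : Led Lsl_gt (LP (LK LD1_c12 LD2_c6 LD3_c9)) = (LP (LK LD1_c12 LD2_c23 LD3_c46)) :=
  Lgr Lrot150 (Lpr_cf (K39.f202790 IH) (Lpe (K39.f35974 IH) (Lpr_df (K2.f81589 IH) (Lpr_gt (K28.f81601 IH) (Lpr_ct (K28.f426477 IH) (Lpe (K36.f426487 IH) (Lpr_ct (K36.f160713 IH) (Lpr_df (K36.f150066 IH) (Lpr_cf (K36.f541080 IH) (Lpn (LP (LK LD1_c12 LD2_c23 LD3_c46))))))))))))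
theorem f577636 : Led Lsl_bt (LP (LK LD1_c8 LD2_c47 LD3_c3)) = (LP (LK LD1_c11 LD2_c27 LD3_c34)) :=
  Lgr Lrot92 (Lpe (K39.f202790 IH) (Lpr_gt (f541090 IH) (Lpe (f541086 IH) (Lpe (f203773 IH) (Lpr_gt (K36.f498903 IH) (Lpr_ct (f541168 IH) (Lpe (K40.f541176 IH) (Lpr_cf (f577626 IH) (Lpr_bt (f577625 IH) (Lpe (K42.f571400 IH) (Lpn (LP (LK LD1_c11 LD2_c27 LD3_c34)))))))))))))
theorem f540709 : Led Lsl_bt (LP (LK LD1_c3 LD2_c4 LD3_c0)) = (LP (LK LD1_c3 LD2_c33 LD3_c42)) :=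
  Lgr Lrot128 (Lpr_cf (K4.f60856 IH) (Lpe (K4.f60858 IH) (Lpe (K11.f60859 IH) (Lpr_bf (K36.f540703 IH) (Lpr_cf (K36.f98023 IH) (Lpn (LP (LK LD1_c3 LD2_c33 LD3_c42))))))))
theorem f208426 : Led Lsl_et (LP (LK LD1_c4 LD2_c36 LD3_c41)) = (LP (LK LD1_c9 LD2_c9 LD3_c23)) :=
  Lre_e IH (LK LD1_c4 LD2_c36 LD3_c41) (LK LD1_c9 LD2_c9 LD3_c23) Lrfl Lrfl
theorem f161019 : Led Lsl_et (LP (LK LD1_c5 LD2_c53 LD3_c43)) = (LP (LK LD1_c2 LD2_c53 LD3_c12)) :=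
  Lre_e IH (LK LD1_c5 LD2_c53 LD3_c43) (LK LD1_c2 LD2_c53 LD3_c12) Lrfl Lrfl
theorem f208474 : Led Lsl_at (LP (LK LD1_c9 LD2_c9 LD3_c23)) = (LP (LK LD1_c5 LD2_c53 LD3_c43)) :=
  Lgr Lrot80 (Lpe (f208426 IH) (Lpr_af (K36.f208429 IH) (Lpe (f161019 IH) (Lpn (LP (LK LD1_c5 LD2_c53 LD3_c43))))))
theorem f156774 : Led Lsl_ct (LP (LK LD1_c5 LD2_c53 LD3_c43)) = (LP (LK LD1_c11 LD2_c33 LD3_c23)) :=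
  Lre_c IH (LK LD1_c5 LD2_c53 LD3_c43) (LK LD1_c11 LD2_c33 LD3_c23) Lrfl Lrfl
theorem f69022 : Led Lsl_et (LP (LK LD1_c11 LD2_c33 LD3_c23)) = (LP (LK LD1_c5 LD2_c53 LD3_c42)) :=
  Lre_e IH (LK LD1_c11 LD2_c33 LD3_c23) (LK LD1_c5 LD2_c53 LD3_c42) Lrfl Lrfl
theorem f156762 : Led Lsl_et (LP (LK LD1_c8 LD2_c0 LD3_c27)) = (LP (LK LD1_c15 LD2_c5 LD3_c7)) :=
  Lre_e IH (LK LD1_c8 LD2_c0 LD3_c27) (LK LD1_c15 LD2_c5 LD3_c7) Lrfl Lrfl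
theorem f156769 : Led Lsl_af (LP (LK LD1_c11 LD2_c33 LD3_c23)) = (LP (LK LD1_c15 LD2_c5 LD3_c7)) :=
  Lgr Lrot50 (Lpr_et (f69022 IH) (Lpr_at (K8.f156767 IH) (Lpr_et (f156762 IH) (Lpn (LP (LK LD1_c15 LD2_c5 LD3_c7))))))
theorem f156771 : Led Lsl_at (LP (LK LD1_c11 LD2_c33 LD3_c23)) = (LP (LK LD1_c15 LD2_c5 LD3_c7)) :=
  Lgr Lrot100 (Lpr_af (f156769 IH) (Lpn (LP (LK LD1_c15 LD2_c5 LD3_c7))))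
theorem f208478 : Led Lsl_cf (LP (LK LD1_c9 LD2_c9 LD3_c23)) = (LP (LK LD1_c15 LD2_c5 LD3_c7)) :=
  Lgr Lrot1 (Lpr_at (f208474 IH) (Lpr_ct (f156774 IH) (Lpr_at (f156771 IH) (Lpn (LP (LK LD1_c15 LD2_c5 LD3_c7))))))
theorem f130240 : Led Lsl_et (LP (LK LD1_c13 LD2_c1 LD3_c20)) = (LP (LK LD1_c6 LD2_c50 LD3_c3)) :=
  Lre_e IH (LK LD1_c13 LD2_c1 LD3_c20) (LK LD1_c6 LD2_c50 LD3_c3) Lrfl Lrfl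
theorem f156763 : Led Lsl_bf (LP (LK LD1_c13 LD2_c1 LD3_c20)) = (LP (LK LD1_c15 LD2_c5 LD3_c7)) :=
  Lgr Lrot96 (Lpr_et (f130240 IH) (Lpr_bt (K8.f156756 IH) (Lpr_et (f156762 IH) (Lpn (LP (LK LD1_c15 LD2_c5 LD3_c7))))))
theorem f156765 : Led Lsl_bt (LP (LK LD1_c13 LD2_c1 LD3_c20)) = (LP (LK LD1_c15 LD2_c5 LD3_c7)) :=
  Lgr Lrot127 (Lpr_bf (f156763 IH) (Lpn (LP (LK LD1_c15 LD2_c5 LD3_c7))))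
theorem f130235 : Led Lsl_et (LP (LK LD1_c6 LD2_c50 LD3_c3)) = (LP (LK LD1_c13 LD2_c1 LD3_c20)) :=
  Lre_e IH (LK LD1_c6 LD2_c50 LD3_c3) (LK LD1_c13 LD2_c1 LD3_c20) Lrfl Lrfl
theorem f95248 : Led Lsl_et (LP (LK LD1_c13 LD2_c6 LD3_c43)) = (LP (LK LD1_c6 LD2_c54 LD3_c0)) :=
  Lre_e IH (LK LD1_c13 LD2_c6 LD3_c43) (LK LD1_c6 LD2_c54 LD3_c0) Lrfl Lrfl
theorem f130418 : Led Lsl_at (LP (LK LD1_c13 LD2_c1 LD3_c20)) = (LP (LK LD1_c13 LD2_c6 LD3_c43)) :=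
  Lgr Lrot80 (Lpe (f130235 IH) (Lpr_af (K8.f130414 IH) (Lpe (f95248 IH) (Lpn (LP (LK LD1_c13 LD2_c6 LD3_c43))))))
theorem f94748 : Led Lsl_ct (LP (LK LD1_c13 LD2_c6 LD3_c43)) = (LP (LK LD1_c6 LD2_c54 LD3_c1)) :=
  Lre_c IH (LK LD1_c13 LD2_c6 LD3_c43) (LK LD1_c6 LD2_c54 LD3_c1) Lrfl Lrfl
theorem f102482 : Led Lsl_at (LP (LK LD1_c6 LD2_c54 LD3_c1)) = (LP (LK LD1_c13 LD2_c6 LD3_c40)) :=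
  Lre_a IH (LK LD1_c6 LD2_c54 LD3_c1) (LK LD1_c13 LD2_c6 LD3_c40) Lrfl Lrfl
theorem f130422 : Led Lsl_cf (LP (LK LD1_c13 LD2_c1 LD3_c20)) = (LP (LK LD1_c13 LD2_c6 LD3_c40)) :=
  Lgr Lrot1 (Lpr_at (f130418 IH) (Lpr_ct (f94748 IH) (Lpr_at (f102482 IH) (Lpn (LP (LK LD1_c13 LD2_c6 LD3_c40))))))
theorem f130211 : Led Lsl_et (LP (LK LD1_c4 LD2_c34 LD3_c31)) = (LP (LK LD1_c9 LD2_c5 LD3_c55)) :=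
  Lre_e IH (LK LD1_c4 LD2_c34 LD3_c31) (LK LD1_c9 LD2_c5 LD3_c55) Lrfl Lrfl
theorem f130225 : Led Lsl_et (LP (LK LD1_c13 LD2_c6 LD3_c40)) = (LP (LK LD1_c6 LD2_c53 LD3_c59)) :=
  Lre_e IH (LK LD1_c13 LD2_c6 LD3_c40) (LK LD1_c6 LD2_c53 LD3_c59) Lrfl Lrfl
theorem f130226 : Led Lsl_bt (LP (LK LD1_c9 LD2_c5 LD3_c55)) = (LP (LK LD1_c13 LD2_c6 LD3_c40)) :=
  Lgr Lrot119 (Lpe (f130211 IH) (Lpr_bf (K6.f130216 IH) (Lpe (f130225 IH) (Lpn (LP (LK LD1_c13 LD2_c6 LD3_c40))))))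
theorem f160969 : Led Lsl_et (LP (LK LD1_c2 LD2_c55 LD3_c43)) = (LP (LK LD1_c5 LD2_c58 LD3_c36)) :=
  Lre_e IH (LK LD1_c2 LD2_c55 LD3_c43) (LK LD1_c5 LD2_c58 LD3_c36) Lrfl Lrfl
theorem f130220 : Led Lsl_et (LP (LK LD1_c9 LD2_c5 LD3_c55)) = (LP (LK LD1_c4 LD2_c34 LD3_c31)) :=
  Lre_e IH (LK LD1_c9 LD2_c5 LD3_c55) (LK LD1_c4 LD2_c34 LD3_c31) Lrfl Lrfl
theorem f160982 : Led Lsl_ct (LP (LK LD1_c5 LD2_c58 LD3_c36)) = (LP (LK LD1_c9 LD2_c5 LD3_c55)) :=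
  Lgr Lrot15 (Lpe (f160969 IH) (Lpr_cf (K8.f160978 IH) (Lpe (f130220 IH) (Lpn (LP (LK LD1_c9 LD2_c5 LD3_c55))))))
theorem f208480 : Led Lsl_bt (LP (LK LD1_c9 LD2_c9 LD3_c23)) = (LP (LK LD1_c5 LD2_c58 LD3_c36)) :=
  Lgr Lrot128 (Lpr_cf (f208478 IH) (Lpe (f156765 IH) (Lpr_cf (f130422 IH) (Lpe (f130226 IH) (Lpe (f160982 IH) (Lpn (LP (LK LD1_c5 LD2_c58 LD3_c36))))))))
theorem f160998 : Led Lsl_et (LP (LK LD1_c5 LD2_c58 LD3_c36)) = (LP (LK LD1_c2 LD2_c55 LD3_c43)) :=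
  Lre_e IH (LK LD1_c5 LD2_c58 LD3_c36) (LK LD1_c2 LD2_c55 LD3_c43) Lrfl Lrfl
theorem f208488 : Led Lsl_bf (LP (LK LD1_c4 LD2_c36 LD3_c41)) = (LP (LK LD1_c2 LD2_c55 LD3_c43)) :=
  Lgr Lrot96 (Lpr_et (f208426 IH) (Lpr_bt (f208480 IH) (Lpr_et (f160998 IH) (Lpn (LP (LK LD1_c2 LD2_c55 LD3_c43))))))
theorem f146529 : Led Lsl_bt (LP (LK LD1_c2 LD2_c20 LD3_c7)) = (LP (LK LD1_c3 LD2_c25 LD3_c39)) :=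
  Lgr Lrot95 (Lpe (K7.f25392 IH) (Lpr_bf (K6.f25193 IH) (Lpr_df (K7.f146490 IH) (Lpn (LP (LK LD1_c3 LD2_c25 LD3_c39))))))
theorem f418510 : Led Lsl_ct (LP (LK LD1_c3 LD2_c5 LD3_c17)) = (LP (LK LD1_c1 LD2_c28 LD3_c40)) :=
  Lre_c IH (LK LD1_c3 LD2_c5 LD3_c17) (LK LD1_c1 LD2_c28 LD3_c40) Lrfl Lrfl
theorem f503137 : Led Lsl_dt (LP (LK LD1_c1 LD2_c28 LD3_c41)) = (LP (LK LD1_c3 LD2_c5 LD3_c21)) :=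
  Lre_d IH (LK LD1_c1 LD2_c28 LD3_c41) (LK LD1_c3 LD2_c5 LD3_c21) Lrfl Lrfl
theorem f503138 : Led Lsl_ct (LP (LK LD1_c3 LD2_c5 LD3_c21)) = (LP (LK LD1_c6 LD2_c16 LD3_c29)) :=
  Lre_c IH (LK LD1_c3 LD2_c5 LD3_c21) (LK LD1_c6 LD2_c16 LD3_c29) Lrfl Lrfl
theorem f559163 : Led Lsl_dt (LP (LK LD1_c6 LD2_c16 LD3_c29)) = (LP (LK LD1_c7 LD2_c39 LD3_c29)) :=
  Lgr Lrot32 (Lpe (f503138 IH) (Lpe (f503137 IH) (Lpr_ft (K42.f503136 IH) (Lpe (K42.f503134 IH) (Lpe (f418510 IH) (Lpr_df (K41.f559153 IH) (Lpe (K3.f88584 IH) (Lpe (K28.f88576 IH) (Lpe (K28.f88615 IH) (Lpn (LP (LK LD1_c7 LD2_c39 LD3_c29))))))))))))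
theorem f577646 : Led Lsl_gf (LP (LK LD1_c6 LD2_c16 LD3_c29)) = (LP (LK LD1_c11 LD2_c27 LD3_c34)) :=
  Lgr Lrot85 (Lpr_dt (f559163 IH) (Lpr_ct (K28.f88615 IH) (Lpr_bt (K28.f128744 IH) (Lpe (K7.f156460 IH) (Lpr_dt (K7.f24303 IH) (Lpr_ct (K37.f156469 IH) (Lpr_bt (f146529 IH) (Lpr_gt (K4.f103761 IH) (Lpe (K32.f130218 IH) (Lpe (K8.f160978 IH) (Lpe (f208488 IH) (Lpe (K8.f99560 IH) (Lpe (K4.f79933 IH) (Lpe (K4.f60856 IH) (Lpr_bt (f540709 IH) (Lpe (K41.f540695 IH) (Lpr_dt (K39.f202789 IH) (Lpr_ct (K39.f420420 IH) (Lpr_bt (f577636 IH) (Lpn (LP (LK LD1_c11 LD2_c27 LD3_c34))))))))))))))))))))))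
theorem f577648 : Led Lsl_bt (LP (LK LD1_c4 LD2_c45 LD3_c44)) = (LP (LK LD1_c6 LD2_c16 LD3_c29)) :=
  Lgr Lrot92 (Lpr_ct (K3.f103252 IH) (Lpr_gt (K3.f102053 IH) (Lpe (K3.f102040 IH) (Lpr_bt (K5.f102076 IH) (Lpe (K5.f112554 IH) (Lpr_ct (K28.f112549 IH) (Lpe (K39.f420380 IH) (Lpr_cf (K39.f202790 IH) (Lpr_bt (f577636 IH) (Lpe (f577646 IH) (Lpn (LP (LK LD1_c6 LD2_c16 LD3_c29)))))))))))))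
theorem f102056 : Led Lsl_bt (LP (LK LD1_c9 LD2_c22 LD3_c6)) = (LP (LK LD1_c4 LD2_c44 LD3_c44)) :=
  Lre_b IH (LK LD1_c9 LD2_c22 LD3_c6) (LK LD1_c4 LD2_c44 LD3_c44) Lrfl Lrfl
theorem f548933 : Led Lsl_ct (LP (LK LD1_c6 LD2_c16 LD3_c29)) = (LP (LK LD1_c3 LD2_c5 LD3_c21)) :=
  Lre_c IH (LK LD1_c6 LD2_c16 LD3_c29) (LK LD1_c3 LD2_c5 LD3_c21) Lrfl Lrfl
theorem f577654 : Led Lsl_bf (LP (LK LD1_c6 LD2_c16 LD3_c13)) = (LP (LK LD1_c3 LD2_c5 LD3_c21)) :=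
  Lgr Lrot90 (Lpe (K42.f569076 IH) (Lpr_bt (f102056 IH) (Lpe (K3.f103230 IH) (Lpr_bt (f577648 IH) (Lpr_ct (f548933 IH) (Lpn (LP (LK LD1_c3 LD2_c5 LD3_c21))))))))
theorem f577716 : Led Lsl_bt (LP (LK LD1_c6 LD2_c16 LD3_c13)) = (LP (LK LD1_c3 LD2_c5 LD3_c21)) :=
  Lgr Lrot127 (Lpr_bf (f577654 IH) (Lpn (LP (LK LD1_c3 LD2_c5 LD3_c21))))
theorem f577659 : Led Lsl_ff (LP (LK LD1_c9 LD2_c22 LD3_c6)) = (LP (LK LD1_c6 LD2_c16 LD3_c29)) :=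
  Lgr Lrot25 (Lpr_bt (f102056 IH) (Lpe (K5.f128553 IH) (Lpr_bt (f577648 IH) (Lpn (LP (LK LD1_c6 LD2_c16 LD3_c29))))))
theorem f427186 : Led Lsl_gt (LP (LK LD1_c7 LD2_c42 LD3_c7)) = (LP (LK LD1_c13 LD2_c41 LD3_c27)) :=
  Lgr Lrot5 (Lpr_ft (K42.f426843 IH) (Lpr_at (K42.f426500 IH) (Lpr_gf (K40.f426494 IH) (Lpn (LP (LK LD1_c13 LD2_c41 LD3_c27))))))
theorem f577617 : Led Lsl_gf (LP (LK LD1_c6 LD2_c0 LD3_c10)) = (LP (LK LD1_c6 LD2_c16 LD3_c29)) :=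
  Lgr Lrot147 (Lpr_ct (f577609 IH) (Lpr_gt (K38.f176695 IH) (Lpr_ct (K42.f186063 IH) (Lpe (K40.f450222 IH) (Lpr_cf (K40.f559147 IH) (Lpe (f427186 IH) (Lpe (K42.f426580 IH) (Lpr_gf (K28.f426572 IH) (Lpe (f559163 IH) (Lpn (LP (LK LD1_c6 LD2_c16 LD3_c29))))))))))))
theorem f110367 : Led Lsl_dt (LP (LK LD1_c6 LD2_c0 LD3_c10)) = (LP (LK LD1_c2 LD2_c56 LD3_c23)) :=
  Lre_d IH (LK LD1_c6 LD2_c0 LD3_c10) (LK LD1_c2 LD2_c56 LD3_c23) Lrfl Lrfl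
theorem f558898 : Led Lsl_ct (LP (LK LD1_c6 LD2_c16 LD3_c25)) = (LP (LK LD1_c3 LD2_c5 LD3_c18)) :=
  Lre_c IH (LK LD1_c6 LD2_c16 LD3_c25) (LK LD1_c3 LD2_c5 LD3_c18) Lrfl Lrfl
theorem f568433 : Led Lsl_gt (LP (LK LD1_c6 LD2_c0 LD3_c10)) = (LP (LK LD1_c6 LD2_c16 LD3_c25)) :=
  Lgr Lrot146 (Lpr_dt (f110367 IH) (Lpr_gt (K6.f76144 IH) (Lpr_ct (K7.f135973 IH) (Lpe (K7.f136004 IH) (Lpr_ct (K8.f120305 IH) (Lpr_dt (K42.f568421 IH) (Lpe (K39.f556403 IH) (Lpe (K39.f202620 IH) (Lpe (f558898 IH) (Lpn (LP (LK LD1_c6 LD2_c16 LD3_c25))))))))))))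
theorem f577664 : Led Lsl_at (LP (LK LD1_c9 LD2_c22 LD3_c6)) = (LP (LK LD1_c6 LD2_c16 LD3_c25)) :=
  Lgr Lrot26 (Lpr_ff (f577659 IH) (Lpe (f577617 IH) (Lpr_gt (f568433 IH) (Lpn (LP (LK LD1_c6 LD2_c16 LD3_c25))))))
theorem f577670 : Led Lsl_af (LP (LK LD1_c6 LD2_c16 LD3_c13)) = (LP (LK LD1_c3 LD2_c5 LD3_c18)) :=
  Lgr Lrot68 (Lpe (K42.f569076 IH) (Lpr_at (f577664 IH) (Lpr_ct (f558898 IH) (Lpn (LP (LK LD1_c3 LD2_c5 LD3_c18))))))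
theorem f571406 : Led Lsl_bt (LP (LK LD1_c6 LD2_c16 LD3_c21)) = (LP (LK LD1_c3 LD2_c5 LD3_c18)) :=
  Lre_b IH (LK LD1_c6 LD2_c16 LD3_c21) (LK LD1_c3 LD2_c5 LD3_c18) Lrfl Lrfl
theorem f204740 : Led Lsl_dt (LP (LK LD1_c3 LD2_c5 LD3_c21)) = (LP (LK LD1_c1 LD2_c28 LD3_c41)) :=
  Lre_d IH (LK LD1_c3 LD2_c5 LD3_c21) (LK LD1_c1 LD2_c28 LD3_c41) Lrfl Lrfl
theorem f570160 : Led Lsl_ff (LP (LK LD1_c3 LD2_c5 LD3_c21)) = (LP (LK LD1_c6 LD2_c16 LD3_c13)) :=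
  Lgr Lrot19 (Lpr_dt (f204740 IH) (Lpr_ft (K42.f503136 IH) (Lpqs (K42.f570153 IH) (Lpr_dt (K42.f202235 IH) (Lpn (LP (LK LD1_c6 LD2_c16 LD3_c13)))))))
theorem f571693 : Led Lsl_ff (LP (LK LD1_c5 LD2_c48 LD3_c41)) = (LP (LK LD1_c6 LD2_c16 LD3_c21)) :=
  Lgr Lrot23 (Lpr_ct (K42.f571680 IH) (Lpe (K28.f203588 IH) (Lpr_ct (K40.f558881 IH) (Lpn (LP (LK LD1_c6 LD2_c16 LD3_c21))))))
theorem f558897 : Led Lsl_bt (LP (LK LD1_c3 LD2_c5 LD3_c18)) = (LP (LK LD1_c6 LD2_c16 LD3_c21)) :=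
  Lre_b IH (LK LD1_c3 LD2_c5 LD3_c18) (LK LD1_c6 LD2_c16 LD3_c21) Lrfl Lrfl
theorem f571701 : Led Lsl_ff (LP (LK LD1_c3 LD2_c5 LD3_c18)) = (LP (LK LD1_c6 LD2_c16 LD3_c16)) :=
  Lgr Lrot25 (Lpr_bt (f558897 IH) (Lpe (f571693 IH) (Lpr_bt (K42.f571699 IH) (Lpn (LP (LK LD1_c6 LD2_c16 LD3_c16))))))
theorem f577674 : Led Lsl_at (LP (LK LD1_c3 LD2_c5 LD3_c21)) = (LP (LK LD1_c6 LD2_c16 LD3_c16)) :=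
  Lgr Lrot66 (Lpr_ff (f570160 IH) (Lpr_af (f577670 IH) (Lpr_ff (f571701 IH) (Lpn (LP (LK LD1_c6 LD2_c16 LD3_c16))))))
theorem f558755 : Led Lsl_ct (LP (LK LD1_c6 LD2_c16 LD3_c16)) = (LP (LK LD1_c7 LD2_c39 LD3_c39)) :=
  Lgr Lrot59 (Lpr_cf (K40.f558752 IH) (Lpn (LP (LK LD1_c7 LD2_c39 LD3_c39))))
theorem f571651 : Led Lsl_bf (LP (LK LD1_c5 LD2_c48 LD3_c41)) = (LP (LK LD1_c6 LD2_c16 LD3_c16)) :=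
  Lgr Lrot165 (Lpe (K42.f558889 IH) (Lpr_ct (K42.f571636 IH) (Lpe (K42.f571649 IH) (Lpe (K42.f206048 IH) (Lpr_bt (K42.f568970 IH) (Lpe (K42.f568968 IH) (Lpe (K42.f558772 IH) (Lpr_ct (K40.f558761 IH) (Lpr_gt (K4.f120265 IH) (Lpe (f558755 IH) (Lpn (LP (LK LD1_c6 LD2_c16 LD3_c16)))))))))))))
theorem f577718 : Led Lsl_af (LP (LK LD1_c6 LD2_c16 LD3_c21)) = (LP (LK LD1_c5 LD2_c48 LD3_c41)) :=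
  Lgr Lrot36 (Lpr_bt (f571406 IH) (Lpe (f577670 IH) (Lpr_bt (f577716 IH) (Lpr_at (f577674 IH) (Lpe (f571651 IH) (Lpn (LP (LK LD1_c5 LD2_c48 LD3_c41))))))))
theorem f577720 : Led Lsl_at (LP (LK LD1_c3 LD2_c5 LD3_c16)) = (LP (LK LD1_c2 LD2_c50 LD3_c23)) :=
  Lgr Lrot51 (Lpe (K42.f496064 IH) (Lpr_af (f577718 IH) (Lpe (K42.f422777 IH) (Lpn (LP (LK LD1_c2 LD2_c50 LD3_c23))))))
theorem f571460 : Led Lsl_ef (LP (LK LD1_c5 LD2_c38 LD3_c22)) = (LP (LK LD1_c2 LD2_c50 LD3_c23)) :=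
  Lgr Lrot88 (Lpr_et (K42.f571458 IH) (Lpn (LP (LK LD1_c2 LD2_c50 LD3_c23))))
theorem f577722 : Led Lsl_af (LP (LK LD1_c6 LD2_c16 LD3_c22)) = (LP (LK LD1_c5 LD2_c38 LD3_c22)) :=
  Lgr Lrot50 (Lpr_et (K40.f496065 IH) (Lpr_at (f577720 IH) (Lpe (f571460 IH) (Lpn (LP (LK LD1_c5 LD2_c38 LD3_c22))))))
theorem f557455 : Led Lsl_cf (LP (LK LD1_c5 LD2_c37 LD3_c19)) = (LP (LK LD1_c5 LD2_c49 LD3_c52)) :=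
  Lgr Lrot39 (Lpr_et (K40.f242712 IH) (Lpr_ct (K28.f211954 IH) (Lpr_et (K40.f557450 IH) (Lpn (LP (LK LD1_c5 LD2_c49 LD3_c52))))))
theorem f557454 : Led Lsl_bt (LP (LK LD1_c5 LD2_c49 LD3_c52)) = (LP (LK LD1_c11 LD2_c28 LD3_c19)) :=
  Lre_b IH (LK LD1_c5 LD2_c49 LD3_c52) (LK LD1_c11 LD2_c28 LD3_c19) Lrfl Lrfl
theorem f556377 : Led Lsl_bt (LP (LK LD1_c3 LD2_c5 LD3_c19)) = (LP (LK LD1_c6 LD2_c16 LD3_c22)) :=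
  Lre_b IH (LK LD1_c3 LD2_c5 LD3_c19) (LK LD1_c6 LD2_c16 LD3_c22) Lrfl Lrfl
theorem f563992 : Led Lsl_gt (LP (LK LD1_c11 LD2_c28 LD3_c19)) = (LP (LK LD1_c6 LD2_c16 LD3_c22)) :=
  Lgr Lrot164 (Lpe (f557454 IH) (Lpe (f557455 IH) (Lpr_gf (K41.f563982 IH) (Lpe (K41.f211674 IH) (Lpe (K41.f556358 IH) (Lpr_bf (K42.f556060 IH) (Lpr_ct (K42.f176630 IH) (Lpr_gf (K42.f556362 IH) (Lpe (K42.f202658 IH) (Lpr_bt (f556377 IH) (Lpn (LP (LK LD1_c6 LD2_c16 LD3_c22)))))))))))))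
theorem f558457 : Led Lsl_gf (LP (LK LD1_c4 LD2_c31 LD3_c14)) = (LP (LK LD1_c6 LD2_c7 LD3_c59)) :=
  Lgr Lrot47 (Lpr_gt (K40.f558455 IH) (Lpe (K36.f427717 IH) (Lpe (K36.f427718 IH) (Lpn (LP (LK LD1_c6 LD2_c7 LD3_c59))))))
theorem f563990 : Led Lsl_bf (LP (LK LD1_c5 LD2_c37 LD3_c19)) = (LP (LK LD1_c6 LD2_c8 LD3_c51)) :=
  Lgr Lrot34 (Lpr_gf (K41.f563982 IH) (Lpe (K39.f24256 IH) (Lpr_ct (K11.f24248 IH) (Lpe (K10.f178991 IH) (Lpe (K12.f20719 IH) (Lpr_gf (K12.f211682 IH) (Lpe (K38.f24525 IH) (Lpe (K40.f210990 IH) (Lpr_gf (f558457 IH) (Lpe (K40.f556102 IH) (Lpn (LP (LK LD1_c6 LD2_c8 LD3_c51)))))))))))))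
theorem f556112 : Led Lsl_et (LP (LK LD1_c5 LD2_c37 LD3_c55)) = (LP (LK LD1_c11 LD2_c7 LD3_c7)) :=
  Lre_e IH (LK LD1_c5 LD2_c37 LD3_c55) (LK LD1_c11 LD2_c7 LD3_c7) Lrfl Lrfl
theorem f556113 : Led Lsl_bt (LP (LK LD1_c11 LD2_c7 LD3_c7)) = (LP (LK LD1_c6 LD2_c7 LD3_c59)) :=
  Lgr Lrot119 (Lpe (f556112 IH) (Lpr_bf (K39.f556106 IH) (Lpe (K36.f427723 IH) (Lpn (LP (LK LD1_c6 LD2_c7 LD3_c59))))))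
theorem f564167 : Led Lsl_ct (LP (LK LD1_c11 LD2_c28 LD3_c19)) = (LP (LK LD1_c11 LD2_c7 LD3_c7)) :=
  Lgr Lrot83 (Lpe (f557454 IH) (Lpe (K40.f557461 IH) (Lpr_bf (f563990 IH) (Lpr_cf (K41.f564165 IH) (Lpe (f556113 IH) (Lpn (LP (LK LD1_c11 LD2_c7 LD3_c7))))))))
theorem f573391 : Led Lsl_ct (LP (LK LD1_c11 LD2_c29 LD3_c33)) = (LP (LK LD1_c11 LD2_c32 LD3_c28)) :=
  Lgr Lrot59 (Lpr_cf (f573384 IH) (Lpn (LP (LK LD1_c11 LD2_c32 LD3_c28))))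
theorem f548248 : Led Lsl_gf (LP (LK LD1_c9 LD2_c1 LD3_c40)) = (LP (LK LD1_c5 LD2_c38 LD3_c28)) :=
  Lgr Lrot47 (Lpr_gt (K38.f548246 IH) (Lpr_af (K36.f539019 IH) (Lpe (K36.f380355 IH) (Lpn (LP (LK LD1_c5 LD2_c38 LD3_c28))))))
theorem f380357 : Led Lsl_ct (LP (LK LD1_c5 LD2_c38 LD3_c7)) = (LP (LK LD1_c11 LD2_c7 LD3_c30)) :=
  Lre_c IH (LK LD1_c5 LD2_c38 LD3_c7) (LK LD1_c11 LD2_c7 LD3_c30) Lrfl Lrfl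
theorem f573409 : Led Lsl_gf (LP (LK LD1_c11 LD2_c28 LD3_c19)) = (LP (LK LD1_c11 LD2_c7 LD3_c30)) :=
  Lgr Lrot172 (Lpr_ct (f564167 IH) (Lpr_dt (f573403 IH) (Lpe (f573391 IH) (Lpr_gf (f573382 IH) (Lpe (f181547 IH) (Lpr_gf (f548248 IH) (Lpr_dt (K36.f380317 IH) (Lpr_gt (K41.f380310 IH) (Lpr_ct (f380357 IH) (Lpn (LP (LK LD1_c11 LD2_c7 LD3_c30))))))))))))
theorem f577730 : Led Lsl_ft (LP (LK LD1_c11 LD2_c7 LD3_c30)) = (LP (LK LD1_c5 LD2_c38 LD3_c22)) :=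
  Lgr Lrot2 (Lpe (f573409 IH) (Lpr_gt (f563992 IH) (Lpr_af (f577722 IH) (Lpn (LP (LK LD1_c5 LD2_c38 LD3_c22))))))
theorem f577734 : Led Lsl_ff (LP (LK LD1_c11 LD2_c7 LD3_c30)) = (LP (LK LD1_c5 LD2_c38 LD3_c22)) :=
  Lgr Lrot3 (Lpr_ft (f577730 IH) (Lpn (LP (LK LD1_c5 LD2_c38 LD3_c22))))
theorem f571467 : Led Lsl_bt (LP (LK LD1_c2 LD2_c45 LD3_c2)) = (LP (LK LD1_c5 LD2_c38 LD3_c21)) :=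
  Lre_b IH (LK LD1_c2 LD2_c45 LD3_c2) (LK LD1_c5 LD2_c38 LD3_c21) Lrfl Lrfl
theorem f552487 : Led Lsl_bf (LP (LK LD1_c5 LD2_c47 LD3_c9)) = (LP (LK LD1_c11 LD2_c7 LD3_c2)) :=
  Lgr Lrot96 (Lpr_et (K40.f72487 IH) (Lpr_bt (K39.f552479 IH) (Lpr_et (f211906 IH) (Lpn (LP (LK LD1_c11 LD2_c7 LD3_c2))))))
theorem f552489 : Led Lsl_bt (LP (LK LD1_c5 LD2_c47 LD3_c9)) = (LP (LK LD1_c11 LD2_c7 LD3_c2)) :=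
  Lgr Lrot127 (Lpr_bf (f552487 IH) (Lpn (LP (LK LD1_c11 LD2_c7 LD3_c2))))
theorem f383323 : Led Lsl_dt (LP (LK LD1_c5 LD2_c44 LD3_c20)) = (LP (LK LD1_c2 LD2_c48 LD3_c5)) :=
  Lre_d IH (LK LD1_c5 LD2_c44 LD3_c20) (LK LD1_c2 LD2_c48 LD3_c5) Lrfl Lrfl
theorem f562466 : Led Lsl_dt (LP (LK LD1_c5 LD2_c37 LD3_c19)) = (LP (LK LD1_c9 LD2_c7 LD3_c5)) :=
  Lgr Lrot77 (Lpe (K36.f383262 IH) (Lpr_df (K28.f383254 IH) (Lpe (K27.f383322 IH) (Lpe (f383323 IH) (Lpr_ef (K40.f562457 IH) (Lpn (LP (LK LD1_c9 LD2_c7 LD3_c5))))))))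
theorem f563984 : Led Lsl_gf (LP (LK LD1_c9 LD2_c0 LD3_c9)) = (LP (LK LD1_c4 LD2_c31 LD3_c13)) :=
  Lgr Lrot144 (Lpe (K40.f559503 IH) (Lpr_gt (K40.f449354 IH) (Lpr_dt (K40.f211086 IH) (Lpr_cf (K36.f211084 IH) (Lpe (K38.f211091 IH) (Lpe (K40.f450570 IH) (Lpe (f562466 IH) (Lpr_gf (K41.f563982 IH) (Lpe (K41.f211674 IH) (Lpn (LP (LK LD1_c4 LD2_c31 LD3_c13))))))))))))
theorem f563922 : Led Lsl_gt (LP (LK LD1_c3 LD2_c0 LD3_c12)) = (LP (LK LD1_c2 LD2_c45 LD3_c16)) :=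
  Lgr Lrot46 (Lpr_gf (K40.f427708 IH) (Lpr_ft (K41.f563914 IH) (Lpr_at (K40.f24494 IH) (Lpn (LP (LK LD1_c2 LD2_c45 LD3_c16))))))
theorem f572984 : Led Lsl_gt (LP (LK LD1_c5 LD2_c38 LD3_c22)) = (LP (LK LD1_c10 LD2_c3 LD3_c54)) :=
  Lgr Lrot65 (Lpe (K42.f422732 IH) (Lpr_bt (f571467 IH) (Lpr_gf (f572975 IH) (Lpe (f552489 IH) (Lpr_ct (K40.f559509 IH) (Lpr_gf (f563984 IH) (Lpr_cf (K40.f211821 IH) (Lpe (f563922 IH) (Lpe (K42.f427713 IH) (Lpr_ct (K42.f557532 IH) (Lpn (LP (LK LD1_c10 LD2_c3 LD3_c54)))))))))))))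
theorem f577742 : Led Lsl_at (LP (LK LD1_c11 LD2_c7 LD3_c30)) = (LP (LK LD1_c5 LD2_c38 LD3_c25)) :=
  Lgr Lrot26 (Lpr_ff (f577734 IH) (Lpr_gt (f572984 IH) (Lpe (K42.f558461 IH) (Lpn (LP (LK LD1_c5 LD2_c38 LD3_c25))))))
theorem f577746 : Led Lsl_af (LP (LK LD1_c5 LD2_c38 LD3_c7)) = (LP (LK LD1_c2 LD2_c45 LD3_c3)) :=
  Lgr Lrot68 (Lpr_ct (f380357 IH) (Lpr_at (f577742 IH) (Lpr_ct (K42.f210999 IH) (Lpn (LP (LK LD1_c2 LD2_c45 LD3_c3))))))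
theorem f577748 : Led Lsl_at (LP (LK LD1_c5 LD2_c38 LD3_c7)) = (LP (LK LD1_c2 LD2_c45 LD3_c3)) :=
  Lgr Lrot100 (Lpr_af (f577746 IH) (Lpn (LP (LK LD1_c2 LD2_c45 LD3_c3))))
theorem f422740 : Led Lsl_ct (LP (LK LD1_c5 LD2_c38 LD3_c22)) = (LP (LK LD1_c2 LD2_c45 LD3_c2)) :=
  Lre_c IH (LK LD1_c5 LD2_c38 LD3_c22) (LK LD1_c2 LD2_c45 LD3_c2) Lrfl Lrfl
theorem f577732 : Led Lsl_ff (LP (LK LD1_c5 LD2_c38 LD3_c7)) = (LP (LK LD1_c2 LD2_c45 LD3_c2)) :=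
  Lgr Lrot23 (Lpr_ct (f380357 IH) (Lpr_ft (f577730 IH) (Lpr_ct (f422740 IH) (Lpn (LP (LK LD1_c2 LD2_c45 LD3_c2))))))
theorem f556396 : Led Lsl_bt (LP (LK LD1_c6 LD2_c16 LD3_c22)) = (LP (LK LD1_c3 LD2_c5 LD3_c19)) :=
  Lre_b IH (LK LD1_c6 LD2_c16 LD3_c22) (LK LD1_c3 LD2_c5 LD3_c19) Lrfl Lrfl
theorem f176842 : Led Lsl_bt (LP (LK LD1_c1 LD2_c24 LD3_c46)) = (LP (LK LD1_c2 LD2_c58 LD3_c12)) :=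
  Lre_b IH (LK LD1_c1 LD2_c24 LD3_c46) (LK LD1_c2 LD2_c58 LD3_c12) Lrfl Lrfl
theorem f334718 : Led Lsl_ft (LP (LK LD1_c2 LD2_c16 LD3_c46)) = (LP (LK LD1_c1 LD2_c24 LD3_c46)) :=
  Lgr Lrot54 (Lpr_df (K10.f176718 IH) (Lpr_ff (K36.f334710 IH) (Lpe (K10.f176841 IH) (Lpn (LP (LK LD1_c1 LD2_c24 LD3_c46))))))
theorem f538954 : Led Lsl_bf (LP (LK LD1_c2 LD2_c16 LD3_c46)) = (LP (LK LD1_c2 LD2_c44 LD3_c59)) :=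
  Lgr Lrot61 (Lpr_ft (f334718 IH) (Lpr_bt (f176842 IH) (Lpr_ft (K36.f538950 IH) (Lpn (LP (LK LD1_c2 LD2_c44 LD3_c59))))))
theorem f380413 : Led Lsl_gt (LP (LK LD1_c2 LD2_c44 LD3_c59)) = (LP (LK LD1_c5 LD2_c38 LD3_c6)) :=
  Lre_g IH (LK LD1_c2 LD2_c44 LD3_c59) (LK LD1_c5 LD2_c38 LD3_c6) Lrfl Lrfl
theorem f571359 : Led Lsl_ct (LP (LK LD1_c6 LD2_c16 LD3_c22)) = (LP (LK LD1_c5 LD2_c38 LD3_c6)) :=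
  Lgr Lrot10 (Lpr_bt (f556396 IH) (Lpe (K42.f569428 IH) (Lpr_ct (K42.f571339 IH) (Lpe (K42.f571357 IH) (Lpe (K42.f564208 IH) (Lpr_bt (K38.f211732 IH) (Lpe (K12.f211730 IH) (Lpr_bf (f538954 IH) (Lpe (K36.f380440 IH) (Lpr_gt (f380413 IH) (Lpn (LP (LK LD1_c5 LD2_c38 LD3_c6)))))))))))))
theorem f577726 : Led Lsl_at (LP (LK LD1_c5 LD2_c38 LD3_c6)) = (LP (LK LD1_c2 LD2_c45 LD3_c2)) :=
  Lgr Lrot107 (Lpe (f571359 IH) (Lpr_af (f577722 IH) (Lpe (K42.f422732 IH) (Lpn (LP (LK LD1_c2 LD2_c45 LD3_c2))))))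
theorem f577751 : Led Lsl_ff (LP (LK LD1_c5 LD2_c38 LD3_c6)) = (LP (LK LD1_c2 LD2_c45 LD3_c3)) :=
  Lgr Lrot30 (Lpr_at (f577726 IH) (Lpe (f577732 IH) (Lpr_at (f577748 IH) (Lpn (LP (LK LD1_c2 LD2_c45 LD3_c3))))))
theorem f577758 : Led Lsl_ft (LP (LK LD1_c5 LD2_c38 LD3_c6)) = (LP (LK LD1_c2 LD2_c45 LD3_c3)) :=
  Lgr Lrot48 (Lpr_ff (f577751 IH) (Lpn (LP (LK LD1_c2 LD2_c45 LD3_c3))))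
theorem f380358 : Led Lsl_ct (LP (LK LD1_c11 LD2_c7 LD3_c30)) = (LP (LK LD1_c5 LD2_c38 LD3_c7)) :=
  Lre_c IH (LK LD1_c11 LD2_c7 LD3_c30) (LK LD1_c5 LD2_c38 LD3_c7) Lrfl Lrfl
theorem f577736 : Led Lsl_ft (LP (LK LD1_c5 LD2_c38 LD3_c7)) = (LP (LK LD1_c2 LD2_c45 LD3_c2)) :=
  Lgr Lrot4 (Lpe (f380358 IH) (Lpr_ff (f577734 IH) (Lpe (K42.f422732 IH) (Lpn (LP (LK LD1_c2 LD2_c45 LD3_c2))))))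
theorem f496085 : Led Lsl_ef (LP (LK LD1_c1 LD2_c21 LD3_c12)) = K42.v1528 :=
  Lgr Lrot88 (Lpr_et (K42.f496083 IH) (Lpn K42.v1528))
theorem f577765 : Led Lsl_ef (LP (LK LD1_c5 LD2_c38 LD3_c6)) = K42.v1529 :=
  Lgr Lrot21 (Lpr_ft (f577758 IH) (Lpr_et (K42.f570334 IH) (Lpr_ft (f577736 IH) (Lpqs (K42.f571464 IH) (Lpe (f496085 IH) (Lpr_ft (K42.f496086 IH) (Lpn K42.v1529)))))))
theorem f577771 : Led Lsl_ct (LP (LK LD1_c5 LD2_c38 LD3_c6)) = (LP (LK LD1_c6 LD2_c16 LD3_c22)) :=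
  Lgr Lrot15 (Lpr_ef (f577765 IH) (Lpqs (K42.f571757 IH) (Lpr_cf (K31.f496058 IH) (Lpe (K40.f496065 IH) (Lpn (LP (LK LD1_c6 LD2_c16 LD3_c22)))))))
theorem f577753 : Led Lsl_bt (LP (LK LD1_c5 LD2_c38 LD3_c6)) = (LP (LK LD1_c11 LD2_c7 LD3_c28)) :=
  Lre_b IH (LK LD1_c5 LD2_c38 LD3_c6) (LK LD1_c11 LD2_c7 LD3_c28) Lrfl Lrfl
theorem f569258 : Led Lsl_bf (LP (LK LD1_c11 LD2_c7 LD3_c16)) = (LP (LK LD1_c5 LD2_c49 LD3_c18)) :=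
  Lgr Lrot96 (Lpr_et (K42.f556146 IH) (Lpe (K39.f556151 IH) (Lpr_et (K42.f569256 IH) (Lpn (LP (LK LD1_c5 LD2_c49 LD3_c18))))))
theorem f572653 : Led Lsl_gt (LP (LK LD1_c6 LD2_c16 LD3_c22)) = (LP (LK LD1_c6 LD2_c7 LD3_c55)) :=
  Lgr Lrot82 (Lpe (f556377 IH) (Lpr_ct (K42.f202658 IH) (Lpr_gf (K42.f569351 IH) (Lpe (K42.f450419 IH) (Lpe (f569258 IH) (Lpr_gf (K42.f572651 IH) (Lpe (K42.f572650 IH) (Lpr_ct (K42.f548273 IH) (Lpr_gf (K42.f558461 IH) (Lpe (K42.f557532 IH) (Lpn (LP (LK LD1_c6 LD2_c7 LD3_c55)))))))))))))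
theorem f24453 : Led Lsl_bt (LP (LK LD1_c2 LD2_c45 LD3_c17)) = (LP (LK LD1_c5 LD2_c38 LD3_c45)) :=
  Lre_b IH (LK LD1_c2 LD2_c45 LD3_c17) (LK LD1_c5 LD2_c38 LD3_c45) Lrfl Lrfl
theorem f386643 : Led Lsl_bt (LP (LK LD1_c10 LD2_c3 LD3_c54)) = (LP (LK LD1_c5 LD2_c6 LD3_c31)) :=
  Lre_b IH (LK LD1_c10 LD2_c3 LD3_c54) (LK LD1_c5 LD2_c6 LD3_c31) Lrfl Lrfl
theorem f577780 : Led Lsl_ct (LP (LK LD1_c10 LD2_c3 LD3_c54)) = (LP (LK LD1_c6 LD2_c7 LD3_c55)) :=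
  Lgr Lrot63 (Lpr_bt (f386643 IH) (Lpe (K40.f558453 IH) (Lpe (f24453 IH) (Lpr_ct (K9.f24446 IH) (Lpe (K9.f24444 IH) (Lpe (K10.f24222 IH) (Lpr_bt (K41.f538946 IH) (Lpr_gt (f380413 IH) (Lpr_ct (f577771 IH) (Lpr_gt (f572653 IH) (Lpn (LP (LK LD1_c6 LD2_c7 LD3_c55)))))))))))))
theorem f383296 : Led Lsl_et (LP (LK LD1_c4 LD2_c31 LD3_c3)) = (LP (LK LD1_c9 LD2_c0 LD3_c9)) :=
  Lre_e IH (LK LD1_c4 LD2_c31 LD3_c3) (LK LD1_c9 LD2_c0 LD3_c9) Lrfl Lrfl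
theorem f552477 : Led Lsl_cf (LP (LK LD1_c5 LD2_c47 LD3_c9)) = (LP (LK LD1_c9 LD2_c0 LD3_c9)) :=
  Lgr Lrot39 (Lpr_et (K40.f72487 IH) (Lpr_ct (K39.f552473 IH) (Lpr_et (f383296 IH) (Lpn (LP (LK LD1_c9 LD2_c0 LD3_c9))))))
theorem f211980 : Led Lsl_bt (LP (LK LD1_c9 LD2_c0 LD3_c9)) = (LP (LK LD1_c16 LD2_c49 LD3_c35)) :=
  Lre_b IH (LK LD1_c9 LD2_c0 LD3_c9) (LK LD1_c16 LD2_c49 LD3_c35) Lrfl Lrfl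
theorem f577782 : Led Lsl_gf (LP (LK LD1_c11 LD2_c7 LD3_c28)) = (LP (LK LD1_c16 LD2_c49 LD3_c35)) :=
  Lgr Lrot124 (Lpe (f577753 IH) (Lpr_ct (f577771 IH) (Lpr_gt (f572653 IH) (Lpe (f577780 IH) (Lpr_bt (f386643 IH) (Lpe (K40.f558453 IH) (Lpr_ct (K39.f198495 IH) (Lpe (K40.f556080 IH) (Lpr_cf (f552477 IH) (Lpr_bt (f211980 IH) (Lpn (LP (LK LD1_c16 LD2_c49 LD3_c35)))))))))))))
theorem f211973 : Led Lsl_et (LP (LK LD1_c5 LD2_c37 LD3_c6)) = (LP (LK LD1_c11 LD2_c6 LD3_c11)) :=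
  Lre_e IH (LK LD1_c5 LD2_c37 LD3_c6) (LK LD1_c11 LD2_c6 LD3_c11) Lrfl Lrfl
theorem f211974 : Led Lsl_et (LP (LK LD1_c16 LD2_c49 LD3_c35)) = (LP (LK LD1_c9 LD2_c0 LD3_c8)) :=
  Lre_e IH (LK LD1_c16 LD2_c49 LD3_c35) (LK LD1_c9 LD2_c0 LD3_c8) Lrfl Lrfl
theorem f211975 : Led Lsl_ct (LP (LK LD1_c11 LD2_c6 LD3_c11)) = (LP (LK LD1_c16 LD2_c49 LD3_c35)) :=
  Lgr Lrot15 (Lpe (f211973 IH) (Lpr_cf (K39.f211838 IH) (Lpe (f211974 IH) (Lpn (LP (LK LD1_c16 LD2_c49 LD3_c35))))))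
theorem f538576 : Led Lsl_ct (LP (LK LD1_c9 LD2_c10 LD3_c35)) = (LP (LK LD1_c17 LD2_c3 LD3_c48)) :=
  Lre_c IH (LK LD1_c9 LD2_c10 LD3_c35) (LK LD1_c17 LD2_c3 LD3_c48) Lrfl Lrfl
theorem f450378 : Led Lsl_gt (LP (LK LD1_c5 LD2_c49 LD3_c17)) = (LP (LK LD1_c11 LD2_c8 LD3_c21)) :=
  Lgr Lrot46 (Lpe (K39.f176629 IH) (Lpr_ft (K38.f450304 IH) (Lpr_at (K40.f450315 IH) (Lpn (LP (LK LD1_c11 LD2_c8 LD3_c21))))))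
theorem f564261 : Led Lsl_ct (LP (LK LD1_c11 LD2_c8 LD3_c21)) = (LP (LK LD1_c12 LD2_c7 LD3_c50)) :=
  Lgr Lrot15 (Lpe (K42.f418990 IH) (Lpe (K41.f418992 IH) (Lpr_ef (K41.f564257 IH) (Lpn (LP (LK LD1_c12 LD2_c7 LD3_c50))))))
theorem f540522 : Led Lsl_ct (LP (LK LD1_c17 LD2_c1 LD3_c14)) = (LP (LK LD1_c9 LD2_c8 LD3_c34)) :=
  Lre_c IH (LK LD1_c17 LD2_c1 LD3_c14) (LK LD1_c9 LD2_c8 LD3_c34) Lrfl Lrfl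
theorem f569348 : Led Lsl_gf (LP (LK LD1_c17 LD2_c1 LD3_c14)) = (LP (LK LD1_c17 LD2_c58 LD3_c25)) :=
  Lgr Lrot104 (Lpr_ct (f540522 IH) (Lpr_df (K41.f566870 IH) (Lpe (f564261 IH) (Lpe (f450378 IH) (Lpe (K42.f176691 IH) (Lpr_gf (K42.f556362 IH) (Lpe (K42.f202659 IH) (Lpr_gt (K42.f569345 IH) (Lpr_ct (K42.f101736 IH) (Lpn (LP (LK LD1_c17 LD2_c58 LD3_c25))))))))))))
theorem f420805 : Led Lsl_ct (LP (LK LD1_c9 LD2_c8 LD3_c34)) = (LP (LK LD1_c17 LD2_c1 LD3_c14)) :=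
  Lre_c IH (LK LD1_c9 LD2_c8 LD3_c34) (LK LD1_c17 LD2_c1 LD3_c14) Lrfl Lrfl
theorem f577459 : Led Lsl_gf (LP (LK LD1_c17 LD2_c3 LD3_c48)) = (LP (LK LD1_c16 LD2_c30 LD3_c14)) :=
  Lgr Lrot126 (Lpe (f538576 IH) (Lpr_bt (f577454 IH) (Lpr_gt (K42.f569345 IH) (Lpr_ct (K42.f101736 IH) (Lpe (f569348 IH) (Lpe (f420805 IH) (Lpr_bt (K42.f540521 IH) (Lpe (K41.f563464 IH) (Lpr_bf (K42.f570732 IH) (Lpr_ct (K42.f555891 IH) (Lpn (LP (LK LD1_c16 LD2_c30 LD3_c14)))))))))))))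
theorem f538577 : Led Lsl_ct (LP (LK LD1_c17 LD2_c3 LD3_c48)) = (LP (LK LD1_c9 LD2_c10 LD3_c35)) :=
  Lre_c IH (LK LD1_c17 LD2_c3 LD3_c48) (LK LD1_c9 LD2_c10 LD3_c35) Lrfl Lrfl
theorem f577784 : Led Lsl_ct (LP (LK LD1_c11 LD2_c7 LD3_c28)) = (LP (LK LD1_c8 LD2_c45 LD3_c53)) :=
  Lgr Lrot110 (Lpr_gf (f577782 IH) (Lpe (f211975 IH) (Lpe (f572969 IH) (Lpe (K42.f418572 IH) (Lpe (K42.f571988 IH) (Lpr_ct (K42.f555891 IH) (Lpe (f577459 IH) (Lpr_ct (f538577 IH) (Lpr_df (f577518 IH) (Lpn (LP (LK LD1_c8 LD2_c45 LD3_c53))))))))))))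
theorem f577762 : Led Lsl_bt (LP (LK LD1_c11 LD2_c7 LD3_c28)) = (LP (LK LD1_c5 LD2_c38 LD3_c6)) :=
  Lre_b IH (LK LD1_c11 LD2_c7 LD3_c28) (LK LD1_c5 LD2_c38 LD3_c6) Lrfl Lrfl
theorem f577763 : Led Lsl_ff (LP (LK LD1_c11 LD2_c7 LD3_c28)) = (LP (LK LD1_c5 LD2_c38 LD3_c24)) :=
  Lgr Lrot25 (Lpr_bt (f577762 IH) (Lpr_ft (f577758 IH) (Lpr_bt (K42.f572650 IH) (Lpn (LP (LK LD1_c5 LD2_c38 LD3_c24))))))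
theorem f577806 : Led Lsl_ff (LP (LK LD1_c11 LD2_c8 LD3_c7)) = (LP (LK LD1_c8 LD2_c45 LD3_c53)) :=
  Lgr Lrot23 (Lpr_ct (K42.f536499 IH) (Lpe (f577763 IH) (Lpr_ct (f577784 IH) (Lpn (LP (LK LD1_c8 LD2_c45 LD3_c53))))))
theorem f577815 : Led Lsl_ft (LP (LK LD1_c11 LD2_c8 LD3_c7)) = (LP (LK LD1_c8 LD2_c45 LD3_c53)) :=
  Lgr Lrot48 (Lpr_ff (f577806 IH) (Lpn (LP (LK LD1_c8 LD2_c45 LD3_c53))))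
theorem f570277 : Led Lsl_df (LP (LK LD1_c11 LD2_c8 LD3_c7)) = (LP (LK LD1_c16 LD2_c34 LD3_c26)) :=
  Lgr Lrot38 (Lpr_dt (K42.f570273 IH) (Lpn (LP (LK LD1_c16 LD2_c34 LD3_c26))))
theorem f577819 : Led Lsl_ff (LP (LK LD1_c16 LD2_c34 LD3_c26)) = (LP (LK LD1_c9 LD2_c10 LD3_c35)) :=
  Lgr Lrot19 (Lpe (f570277 IH) (Lpr_ft (f577815 IH) (Lpe (f577518 IH) (Lpn (LP (LK LD1_c9 LD2_c10 LD3_c35))))))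
theorem f577823 : Led Lsl_at (LP (LK LD1_c16 LD2_c34 LD3_c26)) = (LP (LK LD1_c9 LD2_c10 LD3_c34)) :=
  Lgr Lrot26 (Lpr_ff (f577819 IH) (Lpr_gt (f80119 IH) (Lpr_gt (K42.f538578 IH) (Lpn (LP (LK LD1_c9 LD2_c10 LD3_c34))))))
theorem f570281 : Led Lsl_et (LP (LK LD1_c26 LD2_c31 LD3_c52)) = (LP (LK LD1_c16 LD2_c34 LD3_c26)) :=
  Lre_e IH (LK LD1_c26 LD2_c31 LD3_c52) (LK LD1_c16 LD2_c34 LD3_c26) Lrfl Lrfl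
theorem f577827 : Led Lsl_et (LP (LK LD1_c9 LD2_c10 LD3_c34)) = (LP (LK LD1_c17 LD2_c3 LD3_c47)) :=
  Lre_e IH (LK LD1_c9 LD2_c10 LD3_c34) (LK LD1_c17 LD2_c3 LD3_c47) Lrfl Lrfl
theorem f577828 : Led Lsl_af (LP (LK LD1_c26 LD2_c31 LD3_c52)) = (LP (LK LD1_c17 LD2_c3 LD3_c47)) :=
  Lgr Lrot50 (Lpr_et (f570281 IH) (Lpr_at (f577823 IH) (Lpr_et (f577827 IH) (Lpn (LP (LK LD1_c17 LD2_c3 LD3_c47))))))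
theorem f570279 : Led Lsl_et (LP (LK LD1_c16 LD2_c34 LD3_c26)) = (LP (LK LD1_c26 LD2_c31 LD3_c52)) :=
  Lre_e IH (LK LD1_c16 LD2_c34 LD3_c26) (LK LD1_c26 LD2_c31 LD3_c52) Lrfl Lrfl
theorem f478080 : Led Lsl_et (LP (LK LD1_c30 LD2_c43 LD3_c39)) = (LP (LK LD1_c22 LD2_c48 LD3_c23)) :=
  Lre_e IH (LK LD1_c30 LD2_c43 LD3_c39) (LK LD1_c22 LD2_c48 LD3_c23) Lrfl Lrfl
theorem f577821 : Led Lsl_ft (LP (LK LD1_c26 LD2_c31 LD3_c52)) = (LP (LK LD1_c30 LD2_c43 LD3_c39)) :=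
  Lgr Lrot86 (Lpe (f570279 IH) (Lpr_ff (f577819 IH) (Lpr_ef (f577456 IH) (Lpe (K33.f478074 IH) (Lpe (f478080 IH) (Lpn (LP (LK LD1_c30 LD2_c43 LD3_c39))))))))
theorem f97969 : Led Lsl_af (LP (LK LD1_c13 LD2_c40 LD3_c30)) = (LP (LK LD1_c13 LD2_c30 LD3_c1)) :=
  Lgr Lrot0 (Lpr_at (K28.f97967 IH) (Lpn (LP (LK LD1_c13 LD2_c30 LD3_c1))))
theorem f467115 : Led Lsl_dt (LP (LK LD1_c13 LD2_c33 LD3_c40)) = (LP (LK LD1_c7 LD2_c9 LD3_c36)) :=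
  Lre_d IH (LK LD1_c13 LD2_c33 LD3_c40) (LK LD1_c7 LD2_c9 LD3_c36) Lrfl Lrfl
theorem f478031 : Led Lsl_ft (LP (LK LD1_c13 LD2_c40 LD3_c30)) = (LP (LK LD1_c13 LD2_c33 LD3_c40)) :=
  Lgr Lrot54 (Lpe (K28.f97914 IH) (Lpr_ff (K29.f478018 IH) (Lpe (f467115 IH) (Lpn (LP (LK LD1_c13 LD2_c33 LD3_c40))))))
theorem f478078 : Led Lsl_af (LP (LK LD1_c22 LD2_c48 LD3_c23)) = (LP (LK LD1_c13 LD2_c33 LD3_c40)) :=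
  Lgr Lrot45 (Lpr_ft (K33.f478074 IH) (Lpe (f97969 IH) (Lpr_ft (f478031 IH) (Lpn (LP (LK LD1_c13 LD2_c33 LD3_c40))))))
theorem f478083 : Led Lsl_et (LP (LK LD1_c22 LD2_c48 LD3_c23)) = (LP (LK LD1_c30 LD2_c43 LD3_c39)) :=
  Lre_e IH (LK LD1_c22 LD2_c48 LD3_c23) (LK LD1_c30 LD2_c43 LD3_c39) Lrfl Lrfl
theorem f478084 : Led Lsl_et (LP (LK LD1_c22 LD2_c56 LD3_c37)) = (LP (LK LD1_c13 LD2_c33 LD3_c40)) :=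
  Lre_e IH (LK LD1_c22 LD2_c56 LD3_c37) (LK LD1_c13 LD2_c33 LD3_c40) Lrfl Lrfl
theorem f478085 : Led Lsl_at (LP (LK LD1_c30 LD2_c43 LD3_c39)) = (LP (LK LD1_c22 LD2_c56 LD3_c37)) :=
  Lgr Lrot80 (Lpe (f478083 IH) (Lpr_af (f478078 IH) (Lpe (f478084 IH) (Lpn (LP (LK LD1_c22 LD2_c56 LD3_c37))))))
theorem f577833 : Led Lsl_ft (LP (LK LD1_c22 LD2_c56 LD3_c37)) = (LP (LK LD1_c17 LD2_c3 LD3_c47)) :=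
  Lgr Lrot101 (Lpe (f478085 IH) (Lpe (f577821 IH) (Lpr_af (f577828 IH) (Lpn (LP (LK LD1_c17 LD2_c3 LD3_c47))))))
theorem f577840 : Led Lsl_ff (LP (LK LD1_c22 LD2_c56 LD3_c37)) = (LP (LK LD1_c17 LD2_c3 LD3_c47)) :=
  Lgr Lrot3 (Lpr_ft (f577833 IH) (Lpn (LP (LK LD1_c17 LD2_c3 LD3_c47))))
theorem f481072 : Led Lsl_bt (LP (LK LD1_c7 LD2_c15 LD3_c9)) = (LP (LK LD1_c13 LD2_c43 LD3_c30)) :=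
  Lre_b IH (LK LD1_c7 LD2_c15 LD3_c9) (LK LD1_c13 LD2_c43 LD3_c30) Lrfl Lrfl
theorem f478050 : Led Lsl_at (LP (LK LD1_c22 LD2_c48 LD3_c23)) = (LP (LK LD1_c13 LD2_c33 LD3_c40)) :=
  Lgr Lrot51 (Lpe (K33.f442173 IH) (Lpr_af (K29.f478041 IH) (Lpe (f467115 IH) (Lpn (LP (LK LD1_c13 LD2_c33 LD3_c40))))))
theorem f481399 : Led Lsl_bt (LP (LK LD1_c13 LD2_c33 LD3_c40)) = (LP (LK LD1_c13 LD2_c39 LD3_c58)) :=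
  Lgr Lrot62 (Lpe (f478050 IH) (Lpe (K33.f481078 IH) (Lpe (K33.f481048 IH) (Lpe (f481072 IH) (Lpr_af (K33.f481198 IH) (Lpn (LP (LK LD1_c13 LD2_c39 LD3_c58))))))))
theorem f442126 : Led Lsl_et (LP (LK LD1_c13 LD2_c39 LD3_c58)) = (LP (LK LD1_c23 LD2_c5 LD3_c26)) :=
  Lre_e IH (LK LD1_c13 LD2_c39 LD3_c58) (LK LD1_c23 LD2_c5 LD3_c26) Lrfl Lrfl
theorem f481417 : Led Lsl_bf (LP (LK LD1_c22 LD2_c56 LD3_c37)) = (LP (LK LD1_c23 LD2_c5 LD3_c26)) :=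
  Lgr Lrot96 (Lpr_et (f478084 IH) (Lpr_bt (f481399 IH) (Lpr_et (f442126 IH) (Lpn (LP (LK LD1_c23 LD2_c5 LD3_c26))))))
theorem f481424 : Led Lsl_bt (LP (LK LD1_c22 LD2_c56 LD3_c37)) = (LP (LK LD1_c23 LD2_c5 LD3_c26)) :=
  Lgr Lrot127 (Lpr_bf (f481417 IH) (Lpn (LP (LK LD1_c23 LD2_c5 LD3_c26))))
theorem f570859 : Led Lsl_et (LP (LK LD1_c17 LD2_c3 LD3_c47)) = (LP (LK LD1_c9 LD2_c10 LD3_c34)) :=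
  Lre_e IH (LK LD1_c17 LD2_c3 LD3_c47) (LK LD1_c9 LD2_c10 LD3_c34) Lrfl Lrfl
theorem f565778 : Led Lsl_et (LP (LK LD1_c16 LD2_c26 LD3_c1)) = (LP (LK LD1_c26 LD2_c23 LD3_c26)) :=
  Lre_e IH (LK LD1_c16 LD2_c26 LD3_c1) (LK LD1_c26 LD2_c23 LD3_c26) Lrfl Lrfl
theorem f570860 : Led Lsl_bf (LP (LK LD1_c17 LD2_c3 LD3_c47)) = (LP (LK LD1_c26 LD2_c23 LD3_c26)) :=
  Lgr Lrot96 (Lpr_et (f570859 IH) (Lpr_bt (K42.f570854 IH) (Lpr_et (f565778 IH) (Lpn (LP (LK LD1_c26 LD2_c23 LD3_c26))))))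
theorem f577844 : Led Lsl_ft (LP (LK LD1_c23 LD2_c5 LD3_c26)) = (LP (LK LD1_c26 LD2_c23 LD3_c26)) :=
  Lgr Lrot75 (Lpe (f481424 IH) (Lpr_ff (f577840 IH) (Lpr_bf (f570860 IH) (Lpn (LP (LK LD1_c26 LD2_c23 LD3_c26))))))
theorem f577853 : Led Lsl_ff (LP (LK LD1_c23 LD2_c5 LD3_c26)) = (LP (LK LD1_c26 LD2_c23 LD3_c26)) :=
  Lgr Lrot3 (Lpr_ft (f577844 IH) (Lpn (LP (LK LD1_c26 LD2_c23 LD3_c26))))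
theorem f442128 : Led Lsl_et (LP (LK LD1_c22 LD2_c48 LD3_c22)) = (LP (LK LD1_c13 LD2_c28 LD3_c35)) :=
  Lre_e IH (LK LD1_c22 LD2_c48 LD3_c22) (LK LD1_c13 LD2_c28 LD3_c35) Lrfl Lrfl
theorem f442129 : Led Lsl_dt (LP (LK LD1_c23 LD2_c5 LD3_c26)) = (LP (LK LD1_c22 LD2_c48 LD3_c22)) :=
  Lgr Lrot77 (Lpe (f442126 IH) (Lpe (K28.f442095 IH) (Lpr_ef (K28.f442124 IH) (Lpe (K34.f442127 IH) (Lpe (f442128 IH) (Lpn (LP (LK LD1_c22 LD2_c48 LD3_c22))))))))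
theorem f577312 : Led Lsl_et (LP (LK LD1_c11 LD2_c38 LD3_c6)) = (LP (LK LD1_c20 LD2_c36 LD3_c61)) :=
  Lre_e IH (LK LD1_c11 LD2_c38 LD3_c6) (LK LD1_c20 LD2_c36 LD3_c61) Lrfl Lrfl
theorem f565776 : Led Lsl_dt (LP (LK LD1_c16 LD2_c26 LD3_c1)) = (LP (LK LD1_c13 LD2_c31 LD3_c17)) :=
  Lgr Lrot42 (Lpr_df (K42.f565770 IH) (Lpn (LP (LK LD1_c13 LD2_c31 LD3_c17))))
theorem f36193 : Led Lsl_et (LP (LK LD1_c26 LD2_c23 LD3_c26)) = (LP (LK LD1_c16 LD2_c26 LD3_c1)) :=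
  Lre_e IH (LK LD1_c26 LD2_c23 LD3_c26) (LK LD1_c16 LD2_c26 LD3_c1) Lrfl Lrfl
theorem f577313 : Led Lsl_dt (LP (LK LD1_c20 LD2_c36 LD3_c61)) = (LP (LK LD1_c26 LD2_c23 LD3_c26)) :=
  Lgr Lrot77 (Lpe (f577312 IH) (Lpe (f577299 IH) (Lpr_ef (f577308 IH) (Lpe (f565776 IH) (Lpe (f36193 IH) (Lpn (LP (LK LD1_c26 LD2_c23 LD3_c26))))))))
theorem f577857 : Led Lsl_ft (LP (LK LD1_c22 LD2_c48 LD3_c22)) = (LP (LK LD1_c20 LD2_c36 LD3_c61)) :=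
  Lgr Lrot54 (Lpe (f442129 IH) (Lpr_ff (f577853 IH) (Lpe (f577313 IH) (Lpn (LP (LK LD1_c20 LD2_c36 LD3_c61))))))
theorem f577871 : Led Lsl_ff (LP (LK LD1_c22 LD2_c48 LD3_c22)) = (LP (LK LD1_c20 LD2_c36 LD3_c61)) :=
  Lgr Lrot3 (Lpr_ft (f577857 IH) (Lpn (LP (LK LD1_c20 LD2_c36 LD3_c61))))
theorem f442103 : Led Lsl_et (LP (LK LD1_c23 LD2_c5 LD3_c26)) = (LP (LK LD1_c13 LD2_c39 LD3_c58)) :=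
  Lre_e IH (LK LD1_c23 LD2_c5 LD3_c26) (LK LD1_c13 LD2_c39 LD3_c58) Lrfl Lrfl
theorem f442121 : Led Lsl_et (LP (LK LD1_c13 LD2_c28 LD3_c35)) = (LP (LK LD1_c22 LD2_c48 LD3_c22)) :=
  Lre_e IH (LK LD1_c13 LD2_c28 LD3_c35) (LK LD1_c22 LD2_c48 LD3_c22) Lrfl Lrfl
theorem f442122 : Led Lsl_df (LP (LK LD1_c23 LD2_c5 LD3_c26)) = (LP (LK LD1_c22 LD2_c48 LD3_c22)) :=
  Lgr Lrot70 (Lpr_et (f442103 IH) (Lpr_dt (K28.f442101 IH) (Lpr_et (K28.f442118 IH) (Lpr_dt (K33.f442120 IH) (Lpr_et (f442121 IH) (Lpn (LP (LK LD1_c22 LD2_c48 LD3_c22))))))))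
theorem f577885 : Led Lsl_dt (LP (LK LD1_c26 LD2_c23 LD3_c26)) = (LP (LK LD1_c20 LD2_c36 LD3_c61)) :=
  Lgr Lrot60 (Lpe (f577844 IH) (Lpr_df (f442122 IH) (Lpr_ff (f577871 IH) (Lpn (LP (LK LD1_c20 LD2_c36 LD3_c61))))))
theorem f577855 : Led Lsl_bt (LP (LK LD1_c17 LD2_c3 LD3_c47)) = (LP (LK LD1_c26 LD2_c23 LD3_c26)) :=
  Lgr Lrot35 (Lpe (f577833 IH) (Lpr_bf (f481417 IH) (Lpr_ff (f577853 IH) (Lpn (LP (LK LD1_c26 LD2_c23 LD3_c26))))))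
theorem f577864 : Led Lsl_bt (LP (LK LD1_c20 LD2_c36 LD3_c61)) = (LP (LK LD1_c11 LD2_c38 LD3_c9)) :=
  Lre_b IH (LK LD1_c20 LD2_c36 LD3_c61) (LK LD1_c11 LD2_c38 LD3_c9) Lrfl Lrfl
theorem f577896 : Led Lsl_df (LP (LK LD1_c17 LD2_c3 LD3_c47)) = (LP (LK LD1_c11 LD2_c38 LD3_c9)) :=
  Lgr Lrot12 (Lpr_bt (f577855 IH) (Lpr_dt (f577885 IH) (Lpr_bt (f577864 IH) (Lpn (LP (LK LD1_c11 LD2_c38 LD3_c9))))))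
theorem f547355 : Led Lsl_et (LP (LK LD1_c5 LD2_c56 LD3_c25)) = (LP (LK LD1_c11 LD2_c38 LD3_c9)) :=
  Lre_e IH (LK LD1_c5 LD2_c56 LD3_c25) (LK LD1_c11 LD2_c38 LD3_c9) Lrfl Lrfl
theorem f547353 : Led Lsl_ef (LP (LK LD1_c11 LD2_c38 LD3_c8)) = (LP (LK LD1_c16 LD2_c34 LD3_c33)) :=
  Lgr Lrot88 (Lpr_et (K40.f547350 IH) (Lpn (LP (LK LD1_c16 LD2_c34 LD3_c33))))
theorem f577900 : Led Lsl_dt (LP (LK LD1_c9 LD2_c10 LD3_c34)) = (LP (LK LD1_c16 LD2_c34 LD3_c33)) :=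
  Lgr Lrot77 (Lpe (f570859 IH) (Lpr_df (f577896 IH) (Lpe (f547355 IH) (Lpe (K40.f112858 IH) (Lpr_ef (f547353 IH) (Lpn (LP (LK LD1_c16 LD2_c34 LD3_c33))))))))
theorem f577285 : Led Lsl_ff (LP (LK LD1_c13 LD2_c31 LD3_c17)) = (LP (LK LD1_c7 LD2_c12 LD3_c9)) :=
  Lgr Lrot23 (Lpr_ct (f577281 IH) (Lpr_ft (f97402 IH) (Lpr_ct (K34.f97420 IH) (Lpn (LP (LK LD1_c7 LD2_c12 LD3_c9))))))
theorem f577293 : Led Lsl_ff (LP (LK LD1_c13 LD2_c38 LD3_c28)) = (LP (LK LD1_c16 LD2_c34 LD3_c33)) :=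
  Lgr Lrot25 (Lpr_bt (K42.f97429 IH) (Lpe (f577285 IH) (Lpr_bt (f577287 IH) (Lpn (LP (LK LD1_c16 LD2_c34 LD3_c33))))))
theorem f577917 : Led Lsl_ff (LP (LK LD1_c9 LD2_c10 LD3_c34)) = (LP (LK LD1_c16 LD2_c26 LD3_c32)) :=
  Lgr Lrot19 (Lpr_dt (f577900 IH) (Lpe (f577293 IH) (Lpr_dt (K42.f568859 IH) (Lpn (LP (LK LD1_c16 LD2_c26 LD3_c32))))))
theorem f97939 : Led Lsl_dt (LP (LK LD1_c13 LD2_c40 LD3_c30)) = (LP (LK LD1_c7 LD2_c13 LD3_c27)) :=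
  Lre_d IH (LK LD1_c13 LD2_c40 LD3_c30) (LK LD1_c7 LD2_c13 LD3_c27) Lrfl Lrfl
theorem f467108 : Led Lsl_dt (LP (LK LD1_c7 LD2_c9 LD3_c36)) = (LP (LK LD1_c13 LD2_c33 LD3_c40)) :=
  Lre_d IH (LK LD1_c7 LD2_c9 LD3_c36) (LK LD1_c13 LD2_c33 LD3_c40) Lrfl Lrfl
theorem f478039 : Led Lsl_ff (LP (LK LD1_c13 LD2_c40 LD3_c30)) = (LP (LK LD1_c13 LD2_c33 LD3_c40)) :=
  Lgr Lrot19 (Lpr_dt (f97939 IH) (Lpr_ft (K29.f478033 IH) (Lpr_dt (f467108 IH) (Lpn (LP (LK LD1_c13 LD2_c33 LD3_c40))))))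
theorem f577925 : Led Lsl_et (LP (LK LD1_c13 LD2_c40 LD3_c30)) = (LP (LK LD1_c16 LD2_c26 LD3_c32)) :=
  Lgr Lrot69 (Lpr_ff (f478039 IH) (Lpe (f478084 IH) (Lpr_ff (f577840 IH) (Lpe (f577827 IH) (Lpr_ff (f577917 IH) (Lpn (LP (LK LD1_c16 LD2_c26 LD3_c32))))))))
theorem f516333 : Led Lsl_ct (LP (LK LD1_c13 LD2_c33 LD3_c33)) = (LP (LK LD1_c7 LD2_c9 LD3_c37)) :=
  Lre_c IH (LK LD1_c13 LD2_c33 LD3_c33) (LK LD1_c7 LD2_c9 LD3_c37) Lrfl Lrfl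
theorem f442167 : Led Lsl_at (LP (LK LD1_c7 LD2_c6 LD3_c44)) = (LP (LK LD1_c13 LD2_c28 LD3_c37)) :=
  Lre_a IH (LK LD1_c7 LD2_c6 LD3_c44) (LK LD1_c13 LD2_c28 LD3_c37) Lrfl Lrfl
theorem f486270 : Led Lsl_cf (LP (LK LD1_c7 LD2_c38 LD3_c39)) = (LP (LK LD1_c13 LD2_c28 LD3_c37)) :=
  Lgr Lrot1 (Lpr_at (K33.f486269 IH) (Lpr_ct (K33.f486265 IH) (Lpr_at (f442167 IH) (Lpn (LP (LK LD1_c13 LD2_c28 LD3_c37))))))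
theorem f516382 : Led Lsl_ft (LP (LK LD1_c7 LD2_c9 LD3_c37)) = (LP (LK LD1_c13 LD2_c28 LD3_c37)) :=
  Lgr Lrot4 (Lpe (f516333 IH) (Lpr_ff (K34.f516376 IH) (Lpr_cf (f486270 IH) (Lpn (LP (LK LD1_c13 LD2_c28 LD3_c37))))))
theorem f442158 : Led Lsl_at (LP (LK LD1_c13 LD2_c28 LD3_c37)) = (LP (LK LD1_c7 LD2_c6 LD3_c44)) :=
  Lre_a IH (LK LD1_c13 LD2_c28 LD3_c37) (LK LD1_c7 LD2_c6 LD3_c44) Lrfl Lrfl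
theorem f516631 : Led Lsl_gt (LP (LK LD1_c7 LD2_c9 LD3_c37)) = (LP (LK LD1_c7 LD2_c13 LD3_c27)) :=
  Lgr Lrot5 (Lpr_ft (f516382 IH) (Lpr_at (f442158 IH) (Lpr_gf (K29.f477648 IH) (Lpn (LP (LK LD1_c7 LD2_c13 LD3_c27))))))
theorem f516334 : Led Lsl_dt (LP (LK LD1_c13 LD2_c33 LD3_c41)) = (LP (LK LD1_c7 LD2_c9 LD3_c37)) :=
  Lre_d IH (LK LD1_c13 LD2_c33 LD3_c41) (LK LD1_c7 LD2_c9 LD3_c37) Lrfl Lrfl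
theorem f538278 : Led Lsl_dt (LP (LK LD1_c9 LD2_c9 LD3_c56)) = (LP (LK LD1_c4 LD2_c37 LD3_c5)) :=
  Lre_d IH (LK LD1_c9 LD2_c9 LD3_c56) (LK LD1_c4 LD2_c37 LD3_c5) Lrfl Lrfl
theorem f112850 : Led Lsl_dt (LP (LK LD1_c5 LD2_c56 LD3_c6)) = (LP (LK LD1_c2 LD2_c54 LD3_c25)) :=
  Lre_d IH (LK LD1_c5 LD2_c56 LD3_c6) (LK LD1_c2 LD2_c54 LD3_c25) Lrfl Lrfl
theorem f438146 : Led Lsl_et (LP (LK LD1_c5 LD2_c56 LD3_c6)) = (LP (LK LD1_c11 LD2_c37 LD3_c24)) :=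
  Lre_e IH (LK LD1_c5 LD2_c56 LD3_c6) (LK LD1_c11 LD2_c37 LD3_c24) Lrfl Lrfl
theorem f425724 : Led Lsl_gt (LP (LK LD1_c11 LD2_c37 LD3_c24)) = (LP (LK LD1_c20 LD2_c35 LD3_c55)) :=
  Lre_g IH (LK LD1_c11 LD2_c37 LD3_c24) (LK LD1_c20 LD2_c35 LD3_c55) Lrfl Lrfl
theorem f577929 : Led Lsl_et (LP (LK LD1_c13 LD2_c33 LD3_c41)) = (LP (LK LD1_c20 LD2_c35 LD3_c55)) :=
  Lgr Lrot122 (Lpr_dt (f516334 IH) (Lpr_gt (f516631 IH) (Lpe (f97939 IH) (Lpr_et (f577925 IH) (Lpe (K42.f568852 IH) (Lpr_dt (f538278 IH) (Lpe (K37.f541431 IH) (Lpe (f112850 IH) (Lpr_et (f438146 IH) (Lpr_gt (f425724 IH) (Lpn (LP (LK LD1_c20 LD2_c35 LD3_c55)))))))))))))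
theorem f577935 : Led Lsl_ef (LP (LK LD1_c13 LD2_c33 LD3_c41)) = (LP (LK LD1_c20 LD2_c35 LD3_c55)) :=
  Lgr Lrot88 (Lpr_et (f577929 IH) (Lpn (LP (LK LD1_c20 LD2_c35 LD3_c55))))
theorem f516372 : Led Lsl_at (LP (LK LD1_c13 LD2_c33 LD3_c41)) = (LP (LK LD1_c7 LD2_c9 LD3_c38)) :=
  Lre_a IH (LK LD1_c13 LD2_c33 LD3_c41) (LK LD1_c7 LD2_c9 LD3_c38) Lrfl Lrfl
theorem f478026 : Led Lsl_et (LP (LK LD1_c7 LD2_c9 LD3_c38)) = (LP (LK LD1_c13 LD2_c33 LD3_c46)) :=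
  Lre_e IH (LK LD1_c7 LD2_c9 LD3_c38) (LK LD1_c13 LD2_c33 LD3_c46) Lrfl Lrfl
theorem f577937 : Led Lsl_at (LP (LK LD1_c13 LD2_c33 LD3_c46)) = (LP (LK LD1_c20 LD2_c35 LD3_c55)) :=
  Lgr Lrot80 (Lpe (f478026 IH) (Lpe (f516372 IH) (Lpr_ef (f577935 IH) (Lpn (LP (LK LD1_c20 LD2_c35 LD3_c55))))))
theorem f137814 : Led Lsl_gt (LP (LK LD1_c20 LD2_c35 LD3_c56)) = (LP (LK LD1_c11 LD2_c37 LD3_c24)) :=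
  Lre_g IH (LK LD1_c20 LD2_c35 LD3_c56) (LK LD1_c11 LD2_c37 LD3_c24) Lrfl Lrfl
theorem f577967 : Led Lsl_ff (LP (LK LD1_c13 LD2_c33 LD3_c46)) = (LP (LK LD1_c20 LD2_c35 LD3_c56)) :=
  Lgr Lrot52 (Lpr_at (f577937 IH) (Lpe (f425724 IH) (Lpe (f137814 IH) (Lpn (LP (LK LD1_c20 LD2_c35 LD3_c56))))))
theorem f577975 : Led Lsl_ft (LP (LK LD1_c13 LD2_c33 LD3_c46)) = (LP (LK LD1_c20 LD2_c35 LD3_c56)) :=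
  Lgr Lrot48 (Lpr_ff (f577967 IH) (Lpn (LP (LK LD1_c20 LD2_c35 LD3_c56))))
theorem f516409 : Led Lsl_at (LP (LK LD1_c7 LD2_c9 LD3_c38)) = (LP (LK LD1_c13 LD2_c33 LD3_c41)) :=
  Lre_a IH (LK LD1_c7 LD2_c9 LD3_c38) (LK LD1_c13 LD2_c33 LD3_c41) Lrfl Lrfl
theorem f516427 : Led Lsl_et (LP (LK LD1_c13 LD2_c33 LD3_c46)) = (LP (LK LD1_c7 LD2_c9 LD3_c38)) :=
  Lre_e IH (LK LD1_c13 LD2_c33 LD3_c46) (LK LD1_c7 LD2_c9 LD3_c38) Lrfl Lrfl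
theorem f577931 : Led Lsl_af (LP (LK LD1_c13 LD2_c33 LD3_c46)) = (LP (LK LD1_c20 LD2_c35 LD3_c55)) :=
  Lgr Lrot50 (Lpr_et (f516427 IH) (Lpr_at (f516409 IH) (Lpr_et (f577929 IH) (Lpn (LP (LK LD1_c20 LD2_c35 LD3_c55))))))
theorem f515426 : Led Lsl_ct (LP (LK LD1_c13 LD2_c33 LD3_c4)) = (LP (LK LD1_c22 LD2_c55 LD3_c34)) :=
  Lre_c IH (LK LD1_c13 LD2_c33 LD3_c4) (LK LD1_c22 LD2_c55 LD3_c34) Lrfl Lrfl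
theorem f560937 : Led Lsl_ft (LP (LK LD1_c21 LD2_c11 LD3_c54)) = (LP (LK LD1_c13 LD2_c33 LD3_c4)) :=
  Lgr Lrot4 (Lpe (K40.f445359 IH) (Lpr_ff (f560929 IH) (Lpe (f515426 IH) (Lpn (LP (LK LD1_c13 LD2_c33 LD3_c4))))))
theorem f517406 : Led Lsl_ff (LP (LK LD1_c7 LD2_c17 LD3_c60)) = (LP (LK LD1_c13 LD2_c46 LD3_c54)) :=
  Lgr Lrot19 (Lpr_dt (K29.f481632 IH) (Lpr_ft (K33.f517400 IH) (Lpe (K33.f488585 IH) (Lpn (LP (LK LD1_c13 LD2_c46 LD3_c54))))))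
theorem f518760 : Led Lsl_at (LP (LK LD1_c7 LD2_c17 LD3_c60)) = (LP (LK LD1_c13 LD2_c33 LD3_c24)) :=
  Lgr Lrot66 (Lpr_ff (f517406 IH) (Lpe (K33.f517366 IH) (Lpe (K33.f517357 IH) (Lpn (LP (LK LD1_c13 LD2_c33 LD3_c24))))))
theorem f4139 : Led Lsl_et (LP (LK LD1_c13 LD2_c48 LD3_c48)) = (LP (LK LD1_c7 LD2_c17 LD3_c60)) :=
  Lre_e IH (LK LD1_c13 LD2_c48 LD3_c48) (LK LD1_c7 LD2_c17 LD3_c60) Lrfl Lrfl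
theorem f517355 : Led Lsl_et (LP (LK LD1_c13 LD2_c33 LD3_c24)) = (LP (LK LD1_c22 LD2_c56 LD3_c10)) :=
  Lre_e IH (LK LD1_c13 LD2_c33 LD3_c24) (LK LD1_c22 LD2_c56 LD3_c10) Lrfl Lrfl
theorem f518764 : Led Lsl_af (LP (LK LD1_c13 LD2_c48 LD3_c48)) = (LP (LK LD1_c22 LD2_c56 LD3_c10)) :=
  Lgr Lrot50 (Lpr_et (f4139 IH) (Lpr_at (f518760 IH) (Lpr_et (f517355 IH) (Lpn (LP (LK LD1_c22 LD2_c56 LD3_c10))))))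
theorem f442155 : Led Lsl_et (LP (LK LD1_c7 LD2_c18 LD3_c31)) = (LP (LK LD1_c13 LD2_c49 LD3_c46)) :=
  Lre_e IH (LK LD1_c7 LD2_c18 LD3_c31) (LK LD1_c13 LD2_c49 LD3_c46) Lrfl Lrfl
theorem f481630 : Led Lsl_cf (LP (LK LD1_c13 LD2_c48 LD3_c48)) = (LP (LK LD1_c13 LD2_c49 LD3_c46)) :=
  Lgr Lrot39 (Lpr_et (f4139 IH) (Lpr_ct (K29.f481616 IH) (Lpr_et (f442155 IH) (Lpn (LP (LK LD1_c13 LD2_c49 LD3_c46))))))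
theorem f481661 : Led Lsl_ct (LP (LK LD1_c13 LD2_c48 LD3_c48)) = (LP (LK LD1_c13 LD2_c49 LD3_c46)) :=
  Lgr Lrot59 (Lpr_cf (f481630 IH) (Lpn (LP (LK LD1_c13 LD2_c49 LD3_c46))))
theorem f518769 : Led Lsl_ct (LP (LK LD1_c13 LD2_c33 LD3_c22)) = (LP (LK LD1_c22 LD2_c56 LD3_c10)) :=
  Lre_c IH (LK LD1_c13 LD2_c33 LD3_c22) (LK LD1_c22 LD2_c56 LD3_c10) Lrfl Lrfl
theorem f518770 : Led Lsl_at (LP (LK LD1_c13 LD2_c49 LD3_c46)) = (LP (LK LD1_c13 LD2_c33 LD3_c22)) :=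
  Lgr Lrot107 (Lpe (f481661 IH) (Lpr_af (f518764 IH) (Lpe (f518769 IH) (Lpn (LP (LK LD1_c13 LD2_c33 LD3_c22))))))
theorem f442152 : Led Lsl_ft (LP (LK LD1_c23 LD2_c18 LD3_c50)) = (LP (LK LD1_c13 LD2_c49 LD3_c46)) :=
  Lre_f IH (LK LD1_c23 LD2_c18 LD3_c50) (LK LD1_c13 LD2_c49 LD3_c46) Lrfl Lrfl
theorem f518778 : Led Lsl_ft (LP (LK LD1_c13 LD2_c33 LD3_c22)) = (LP (LK LD1_c22 LD2_c56 LD3_c11)) :=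
  Lre_f IH (LK LD1_c13 LD2_c33 LD3_c22) (LK LD1_c22 LD2_c56 LD3_c11) Lrfl Lrfl
theorem f518779 : Led Lsl_af (LP (LK LD1_c23 LD2_c18 LD3_c50)) = (LP (LK LD1_c22 LD2_c56 LD3_c11)) :=
  Lgr Lrot45 (Lpr_ft (f442152 IH) (Lpr_at (f518770 IH) (Lpr_ft (f518778 IH) (Lpn (LP (LK LD1_c22 LD2_c56 LD3_c11))))))
theorem f4439 : Led Lsl_et (LP (LK LD1_c13 LD2_c49 LD3_c46)) = (LP (LK LD1_c7 LD2_c18 LD3_c31)) :=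
  Lre_e IH (LK LD1_c13 LD2_c49 LD3_c46) (LK LD1_c7 LD2_c18 LD3_c31) Lrfl Lrfl
theorem f442114 : Led Lsl_dt (LP (LK LD1_c3 LD2_c32 LD3_c53)) = (LP (LK LD1_c7 LD2_c6 LD3_c45)) :=
  Lre_d IH (LK LD1_c3 LD2_c32 LD3_c53) (LK LD1_c7 LD2_c6 LD3_c45) Lrfl Lrfl
theorem f442115 : Led Lsl_et (LP (LK LD1_c7 LD2_c6 LD3_c45)) = (LP (LK LD1_c13 LD2_c28 LD3_c40)) :=
  Lre_e IH (LK LD1_c7 LD2_c6 LD3_c45) (LK LD1_c13 LD2_c28 LD3_c40) Lrfl Lrfl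
theorem f442116 : Led Lsl_df (LP (LK LD1_c13 LD2_c49 LD3_c46)) = (LP (LK LD1_c13 LD2_c28 LD3_c40)) :=
  Lgr Lrot70 (Lpr_et (f4439 IH) (Lpr_dt (K28.f4413 IH) (Lpr_et (K28.f442108 IH) (Lpr_dt (f442114 IH) (Lpr_et (f442115 IH) (Lpn (LP (LK LD1_c13 LD2_c28 LD3_c40))))))))
theorem f442137 : Led Lsl_ft (LP (LK LD1_c13 LD2_c49 LD3_c46)) = (LP (LK LD1_c23 LD2_c18 LD3_c50)) :=
  Lre_f IH (LK LD1_c13 LD2_c49 LD3_c46) (LK LD1_c23 LD2_c18 LD3_c50) Lrfl Lrfl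
theorem f442138 : Led Lsl_ft (LP (LK LD1_c22 LD2_c48 LD3_c29)) = (LP (LK LD1_c13 LD2_c28 LD3_c40)) :=
  Lre_f IH (LK LD1_c22 LD2_c48 LD3_c29) (LK LD1_c13 LD2_c28 LD3_c40) Lrfl Lrfl
theorem f442139 : Led Lsl_dt (LP (LK LD1_c23 LD2_c18 LD3_c50)) = (LP (LK LD1_c22 LD2_c48 LD3_c29)) :=
  Lgr Lrot60 (Lpe (f442137 IH) (Lpr_df (f442116 IH) (Lpe (f442138 IH) (Lpn (LP (LK LD1_c22 LD2_c48 LD3_c29))))))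
theorem f518786 : Led Lsl_dt (LP (LK LD1_c13 LD2_c33 LD3_c23)) = (LP (LK LD1_c22 LD2_c56 LD3_c11)) :=
  Lre_d IH (LK LD1_c13 LD2_c33 LD3_c23) (LK LD1_c22 LD2_c56 LD3_c11) Lrfl Lrfl
theorem f518787 : Led Lsl_at (LP (LK LD1_c22 LD2_c48 LD3_c29)) = (LP (LK LD1_c13 LD2_c33 LD3_c23)) :=
  Lgr Lrot51 (Lpe (f442139 IH) (Lpr_af (f518779 IH) (Lpe (f518786 IH) (Lpn (LP (LK LD1_c13 LD2_c33 LD3_c23))))))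
theorem f518793 : Led Lsl_af (LP (LK LD1_c22 LD2_c48 LD3_c29)) = (LP (LK LD1_c13 LD2_c33 LD3_c23)) :=
  Lgr Lrot0 (Lpr_at (f518787 IH) (Lpn (LP (LK LD1_c13 LD2_c33 LD3_c23))))
theorem f515382 : Led Lsl_ft (LP (LK LD1_c7 LD2_c9 LD3_c23)) = (LP (LK LD1_c13 LD2_c33 LD3_c23)) :=
  Lre_f IH (LK LD1_c7 LD2_c9 LD3_c23) (LK LD1_c13 LD2_c33 LD3_c23) Lrfl Lrfl
theorem f518804 : Led Lsl_at (LP (LK LD1_c13 LD2_c28 LD3_c40)) = (LP (LK LD1_c7 LD2_c9 LD3_c23)) :=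
  Lgr Lrot66 (Lpe (f442138 IH) (Lpr_af (f518793 IH) (Lpe (f515382 IH) (Lpn (LP (LK LD1_c7 LD2_c9 LD3_c23))))))
theorem f442133 : Led Lsl_ct (LP (LK LD1_c22 LD2_c48 LD3_c26)) = (LP (LK LD1_c13 LD2_c28 LD3_c40)) :=
  Lre_c IH (LK LD1_c22 LD2_c48 LD3_c26) (LK LD1_c13 LD2_c28 LD3_c40) Lrfl Lrfl
theorem f518791 : Led Lsl_ct (LP (LK LD1_c7 LD2_c9 LD3_c23)) = (LP (LK LD1_c13 LD2_c33 LD3_c19)) :=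
  Lre_c IH (LK LD1_c7 LD2_c9 LD3_c23) (LK LD1_c13 LD2_c33 LD3_c19) Lrfl Lrfl
theorem f518815 : Led Lsl_af (LP (LK LD1_c22 LD2_c48 LD3_c26)) = (LP (LK LD1_c13 LD2_c33 LD3_c19)) :=
  Lgr Lrot68 (Lpr_ct (f442133 IH) (Lpr_at (f518804 IH) (Lpr_ct (f518791 IH) (Lpn (LP (LK LD1_c13 LD2_c33 LD3_c19))))))
theorem f518832 : Led Lsl_et (LP (LK LD1_c22 LD2_c48 LD3_c26)) = (LP (LK LD1_c13 LD2_c28 LD3_c39)) :=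
  Lre_e IH (LK LD1_c22 LD2_c48 LD3_c26) (LK LD1_c13 LD2_c28 LD3_c39) Lrfl Lrfl
theorem f515395 : Led Lsl_et (LP (LK LD1_c7 LD2_c9 LD3_c22)) = (LP (LK LD1_c13 LD2_c33 LD3_c19)) :=
  Lre_e IH (LK LD1_c7 LD2_c9 LD3_c22) (LK LD1_c13 LD2_c33 LD3_c19) Lrfl Lrfl
theorem f518833 : Led Lsl_at (LP (LK LD1_c13 LD2_c28 LD3_c39)) = (LP (LK LD1_c7 LD2_c9 LD3_c22)) :=
  Lgr Lrot80 (Lpe (f518832 IH) (Lpr_af (f518815 IH) (Lpe (f515395 IH) (Lpn (LP (LK LD1_c7 LD2_c9 LD3_c22))))))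
theorem f518835 : Led Lsl_af (LP (LK LD1_c13 LD2_c28 LD3_c39)) = (LP (LK LD1_c7 LD2_c9 LD3_c22)) :=
  Lgr Lrot0 (Lpr_at (f518833 IH) (Lpn (LP (LK LD1_c7 LD2_c9 LD3_c22))))
theorem f467008 : Led Lsl_ct (LP (LK LD1_c13 LD2_c28 LD3_c39)) = (LP (LK LD1_c7 LD2_c6 LD3_c45)) :=
  Lre_c IH (LK LD1_c13 LD2_c28 LD3_c39) (LK LD1_c7 LD2_c6 LD3_c45) Lrfl Lrfl
theorem f518839 : Led Lsl_at (LP (LK LD1_c7 LD2_c6 LD3_c45)) = (LP (LK LD1_c3 LD2_c34 LD3_c6)) :=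
  Lgr Lrot107 (Lpe (f467008 IH) (Lpr_af (f518835 IH) (Lpe (K33.f6085 IH) (Lpn (LP (LK LD1_c3 LD2_c34 LD3_c6))))))
theorem f516426 : Led Lsl_bt (LP (LK LD1_c13 LD2_c28 LD3_c38)) = (LP (LK LD1_c7 LD2_c6 LD3_c45)) :=
  Lre_b IH (LK LD1_c13 LD2_c28 LD3_c38) (LK LD1_c7 LD2_c6 LD3_c45) Lrfl Lrfl
theorem f516410 : Led Lsl_at (LP (LK LD1_c22 LD2_c48 LD3_c24)) = (LP (LK LD1_c13 LD2_c28 LD3_c38)) :=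
  Lre_a IH (LK LD1_c22 LD2_c48 LD3_c24) (LK LD1_c13 LD2_c28 LD3_c38) Lrfl Lrfl
theorem f6084 : Led Lsl_bt (LP (LK LD1_c3 LD2_c34 LD3_c6)) = (LP (LK LD1_c7 LD2_c9 LD3_c18)) :=
  Lre_b IH (LK LD1_c3 LD2_c34 LD3_c6) (LK LD1_c7 LD2_c9 LD3_c18) Lrfl Lrfl
theorem f515444 : Led Lsl_at (LP (LK LD1_c7 LD2_c9 LD3_c18)) = (LP (LK LD1_c13 LD2_c33 LD3_c4)) :=
  Lre_a IH (LK LD1_c7 LD2_c9 LD3_c18) (LK LD1_c13 LD2_c33 LD3_c4) Lrfl Lrfl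
theorem f518842 : Led Lsl_bf (LP (LK LD1_c22 LD2_c48 LD3_c24)) = (LP (LK LD1_c13 LD2_c33 LD3_c4)) :=
  Lgr Lrot81 (Lpr_at (f516410 IH) (Lpr_bt (f516426 IH) (Lpr_at (f518839 IH) (Lpr_bt (f6084 IH) (Lpr_at (f515444 IH) (Lpn (LP (LK LD1_c13 LD2_c33 LD3_c4))))))))
theorem f442174 : Led Lsl_dt (LP (LK LD1_c22 LD2_c48 LD3_c24)) = (LP (LK LD1_c13 LD2_c28 LD3_c37)) :=
  Lre_d IH (LK LD1_c22 LD2_c48 LD3_c24) (LK LD1_c13 LD2_c28 LD3_c37) Lrfl Lrfl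
theorem f516373 : Led Lsl_ff (LP (LK LD1_c13 LD2_c33 LD3_c41)) = (LP (LK LD1_c22 LD2_c48 LD3_c24)) :=
  Lgr Lrot103 (Lpr_at (f516372 IH) (Lpe (K34.f487795 IH) (Lpe (K34.f487793 IH) (Lpe (K34.f516362 IH) (Lpr_df (K34.f516369 IH) (Lpe (K34.f486347 IH) (Lpe (K33.f64773 IH) (Lpr_cf (f486270 IH) (Lpe (f442174 IH) (Lpn (LP (LK LD1_c22 LD2_c48 LD3_c24))))))))))))
theorem f560950 : Led Lsl_bf (LP (LK LD1_c21 LD2_c11 LD3_c54)) = (LP (LK LD1_c13 LD2_c33 LD3_c41)) :=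
  Lgr Lrot61 (Lpr_ft (f560937 IH) (Lpe (f518842 IH) (Lpe (f516373 IH) (Lpn (LP (LK LD1_c13 LD2_c33 LD3_c41))))))
theorem f577939 : Led Lsl_bt (LP (LK LD1_c12 LD2_c5 LD3_c60)) = (LP (LK LD1_c20 LD2_c35 LD3_c55)) :=
  Lgr Lrot119 (Lpe (K40.f198451 IH) (Lpr_bf (f560950 IH) (Lpr_ef (f577935 IH) (Lpn (LP (LK LD1_c20 LD2_c35 LD3_c55))))))
theorem f576082 : Led Lsl_ff (LP (LK LD1_c12 LD2_c5 LD3_c60)) = (LP (LK LD1_c15 LD2_c8 LD3_c25)) :=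
  Lgr Lrot23 (Lpe (K40.f445351 IH) (Lpr_ft (f576078 IH) (Lpe (K37.f444953 IH) (Lpn (LP (LK LD1_c15 LD2_c8 LD3_c25))))))
theorem f30798 : Led Lsl_bt (LP (LK LD1_c24 LD2_c57 LD3_c16)) = (LP (LK LD1_c15 LD2_c8 LD3_c25)) :=
  Lre_b IH (LK LD1_c24 LD2_c57 LD3_c16) (LK LD1_c15 LD2_c8 LD3_c25) Lrfl Lrfl
theorem f577941 : Led Lsl_ff (LP (LK LD1_c24 LD2_c57 LD3_c16)) = (LP (LK LD1_c20 LD2_c35 LD3_c55)) :=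
  Lgr Lrot25 (Lpr_bt (f30798 IH) (Lpe (f576082 IH) (Lpr_bt (f577939 IH) (Lpn (LP (LK LD1_c20 LD2_c35 LD3_c55))))))
theorem f577943 : Led Lsl_ft (LP (LK LD1_c24 LD2_c57 LD3_c16)) = (LP (LK LD1_c20 LD2_c35 LD3_c55)) :=
  Lgr Lrot48 (Lpr_ff (f577941 IH) (Lpn (LP (LK LD1_c20 LD2_c35 LD3_c55))))
theorem f577977 : Led Lsl_af (LP (LK LD1_c24 LD2_c57 LD3_c16)) = (LP (LK LD1_c20 LD2_c35 LD3_c56)) :=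
  Lgr Lrot45 (Lpr_ft (f577943 IH) (Lpe (f577931 IH) (Lpr_ft (f577975 IH) (Lpn (LP (LK LD1_c20 LD2_c35 LD3_c56))))))
theorem f494477 : Led Lsl_dt (LP (LK LD1_c4 LD2_c37 LD3_c29)) = (LP (LK LD1_c2 LD2_c15 LD3_c57)) :=
  Lre_d IH (LK LD1_c4 LD2_c37 LD3_c29) (LK LD1_c2 LD2_c15 LD3_c57) Lrfl Lrfl
theorem f577470 : Led Lsl_gt (LP (LK LD1_c16 LD2_c23 LD3_c55)) = (LP (LK LD1_c13 LD2_c33 LD3_c46)) :=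
  Lgr Lrot131 (Lpe (K6.f137671 IH) (Lpr_dt (K6.f137661 IH) (Lpe (K35.f538570 IH) (Lpqs (K35.f537988 IH) (Lpe (f494477 IH) (Lpe (f80119 IH) (Lpr_ef (f577456 IH) (Lpr_dt (K28.f96887 IH) (Lpr_gf (K29.f478009 IH) (Lpe (K34.f467129 IH) (Lpr_et (f478026 IH) (Lpn (LP (LK LD1_c13 LD2_c33 LD3_c46))))))))))))))
theorem f577945 : Led Lsl_gt (LP (LK LD1_c24 LD2_c57 LD3_c16)) = (LP (LK LD1_c16 LD2_c23 LD3_c55)) :=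
  Lgr Lrot5 (Lpr_ft (f577943 IH) (Lpe (f577931 IH) (Lpe (f577470 IH) (Lpn (LP (LK LD1_c16 LD2_c23 LD3_c55))))))
theorem f161272 : Led Lsl_gt (LP (LK LD1_c2 LD2_c9 LD3_c44)) = (LP (LK LD1_c1 LD2_c23 LD3_c7)) :=
  Lgr Lrot94 (Lpr_cf (K7.f137835 IH) (Lpr_gt (K8.f161266 IH) (Lpr_dt (K8.f160919 IH) (Lpr_gt (K8.f66274 IH) (Lpr_dt (K4.f66264 IH) (Lpe (K5.f117813 IH) (Lpe (K4.f75518 IH) (Lpr_gf (K4.f117644 IH) (Lpe (K2.f71910 IH) (Lpn (LP (LK LD1_c1 LD2_c23 LD3_c7))))))))))))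
theorem f202898 : Led Lsl_gt (LP (LK LD1_c4 LD2_c23 LD3_c59)) = (LP (LK LD1_c3 LD2_c9 LD3_c57)) :=
  Lgr Lrot9 (Lpe (K6.f137653 IH) (Lpr_gt (f161272 IH) (Lpr_ct (K2.f71938 IH) (Lpe (K8.f163037 IH) (Lpr_ct (K7.f37064 IH) (Lpe (K8.f37068 IH) (Lpe (K8.f161629 IH) (Lpr_gf (K11.f202890 IH) (Lpe (K11.f69250 IH) (Lpn (LP (LK LD1_c3 LD2_c9 LD3_c57))))))))))))
theorem f119672 : Led Lsl_et (LP (LK LD1_c2 LD2_c54 LD3_c27)) = (LP (LK LD1_c5 LD2_c56 LD3_c11)) :=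
  Lre_e IH (LK LD1_c2 LD2_c54 LD3_c27) (LK LD1_c5 LD2_c56 LD3_c11) Lrfl Lrfl
theorem f119673 : Led Lsl_gt (LP (LK LD1_c5 LD2_c56 LD3_c11)) = (LP (LK LD1_c11 LD2_c37 LD3_c36)) :=
  Lre_g IH (LK LD1_c5 LD2_c56 LD3_c11) (LK LD1_c11 LD2_c37 LD3_c36) Lrfl Lrfl
theorem f119675 : Led Lsl_et (LP (LK LD1_c20 LD2_c36 LD3_c5)) = (LP (LK LD1_c11 LD2_c37 LD3_c36)) :=
  Lre_e IH (LK LD1_c20 LD2_c36 LD3_c5) (LK LD1_c11 LD2_c37 LD3_c36) Lrfl Lrfl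
theorem f577949 : Led Lsl_df (LP (LK LD1_c24 LD2_c57 LD3_c16)) = (LP (LK LD1_c20 LD2_c36 LD3_c5)) :=
  Lgr Lrot170 (Lpr_gt (f577945 IH) (Lpe (K6.f137663 IH) (Lpr_et (K6.f137679 IH) (Lpr_gt (f202898 IH) (Lpr_dt (K11.f69255 IH) (Lpr_gt (K8.f161023 IH) (Lpe (K4.f119650 IH) (Lpr_et (f119672 IH) (Lpr_gt (f119673 IH) (Lpe (f119675 IH) (Lpn (LP (LK LD1_c20 LD2_c36 LD3_c5)))))))))))))
theorem f577953 : Led Lsl_dt (LP (LK LD1_c24 LD2_c57 LD3_c16)) = (LP (LK LD1_c20 LD2_c36 LD3_c5)) :=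
  Lgr Lrot42 (Lpr_df (f577949 IH) (Lpn (LP (LK LD1_c20 LD2_c36 LD3_c5))))
theorem f118901 : Led Lsl_et (LP (LK LD1_c3 LD2_c9 LD3_c52)) = (LP (LK LD1_c6 LD2_c24 LD3_c28)) :=
  Lre_e IH (LK LD1_c3 LD2_c9 LD3_c52) (LK LD1_c6 LD2_c24 LD3_c28) Lrfl Lrfl
theorem f79075 : Led Lsl_gt (LP (LK LD1_c6 LD2_c24 LD3_c28)) = (LP (LK LD1_c12 LD2_c21 LD3_c60)) :=
  Lre_g IH (LK LD1_c6 LD2_c24 LD3_c28) (LK LD1_c12 LD2_c21 LD3_c60) Lrfl Lrfl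
theorem f149618 : Led Lsl_et (LP (LK LD1_c21 LD2_c28 LD3_c44)) = (LP (LK LD1_c12 LD2_c21 LD3_c60)) :=
  Lre_e IH (LK LD1_c21 LD2_c28 LD3_c44) (LK LD1_c12 LD2_c21 LD3_c60) Lrfl Lrfl
theorem f149619 : Led Lsl_et (LP (LK LD1_c5 LD2_c56 LD3_c5)) = (LP (LK LD1_c2 LD2_c54 LD3_c24)) :=
  Lre_e IH (LK LD1_c5 LD2_c56 LD3_c5) (LK LD1_c2 LD2_c54 LD3_c24) Lrfl Lrfl
theorem f137805 : Led Lsl_dt (LP (LK LD1_c5 LD2_c56 LD3_c5)) = (LP (LK LD1_c11 LD2_c37 LD3_c24)) :=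
  Lre_d IH (LK LD1_c5 LD2_c56 LD3_c5) (LK LD1_c11 LD2_c37 LD3_c24) Lrfl Lrfl
theorem f149620 : Led Lsl_dt (LP (LK LD1_c21 LD2_c28 LD3_c44)) = (LP (LK LD1_c20 LD2_c35 LD3_c56)) :=
  Lgr Lrot136 (Lpr_et (f149618 IH) (Lpe (f79075 IH) (Lpe (f118901 IH) (Lpr_dt (K4.f79076 IH) (Lpe (K4.f36321 IH) (Lpe (K8.f69207 IH) (Lpr_gf (K8.f149588 IH) (Lpe (f149619 IH) (Lpr_dt (f137805 IH) (Lpe (f137814 IH) (Lpn (LP (LK LD1_c20 LD2_c35 LD3_c56)))))))))))))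
theorem f577995 : Led Lsl_at (LP (LK LD1_c20 LD2_c36 LD3_c5)) = (LP (LK LD1_c21 LD2_c28 LD3_c44)) :=
  Lgr Lrot51 (Lpe (f577953 IH) (Lpr_af (f577977 IH) (Lpe (f149620 IH) (Lpn (LP (LK LD1_c21 LD2_c28 LD3_c44))))))
theorem f577955 : Led Lsl_et (LP (LK LD1_c11 LD2_c37 LD3_c36)) = (LP (LK LD1_c20 LD2_c36 LD3_c5)) :=
  Lre_e IH (LK LD1_c11 LD2_c37 LD3_c36) (LK LD1_c20 LD2_c36 LD3_c5) Lrfl Lrfl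
theorem f577999 : Led Lsl_af (LP (LK LD1_c11 LD2_c37 LD3_c36)) = (LP (LK LD1_c12 LD2_c21 LD3_c60)) :=
  Lgr Lrot50 (Lpr_et (f577955 IH) (Lpr_at (f577995 IH) (Lpr_et (f149618 IH) (Lpn (LP (LK LD1_c12 LD2_c21 LD3_c60))))))
theorem f119677 : Led Lsl_gt (LP (LK LD1_c11 LD2_c37 LD3_c37)) = (LP (LK LD1_c5 LD2_c56 LD3_c11)) :=
  Lre_g IH (LK LD1_c11 LD2_c37 LD3_c37) (LK LD1_c5 LD2_c56 LD3_c11) Lrfl Lrfl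
theorem f578005 : Led Lsl_ft (LP (LK LD1_c11 LD2_c37 LD3_c37)) = (LP (LK LD1_c12 LD2_c21 LD3_c60)) :=
  Lgr Lrot2 (Lpr_gt (f119677 IH) (Lpr_gt (f119673 IH) (Lpr_af (f577999 IH) (Lpn (LP (LK LD1_c12 LD2_c21 LD3_c60))))))
theorem f578013 : Led Lsl_ff (LP (LK LD1_c11 LD2_c37 LD3_c37)) = (LP (LK LD1_c12 LD2_c21 LD3_c60)) :=
  Lgr Lrot3 (Lpr_ft (f578005 IH) (Lpn (LP (LK LD1_c12 LD2_c21 LD3_c60))))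
theorem f578018 : Led Lsl_et (LP (LK LD1_c11 LD2_c37 LD3_c37)) = (LP (LK LD1_c20 LD2_c36 LD3_c8)) :=
  Lre_e IH (LK LD1_c11 LD2_c37 LD3_c37) (LK LD1_c20 LD2_c36 LD3_c8) Lrfl Lrfl
theorem f577483 : Led Lsl_dt (LP (LK LD1_c13 LD2_c33 LD3_c46)) = (LP (LK LD1_c22 LD2_c56 LD3_c48)) :=
  Lre_d IH (LK LD1_c13 LD2_c33 LD3_c46) (LK LD1_c22 LD2_c56 LD3_c48) Lrfl Lrfl
theorem f577973 : Led Lsl_ft (LP (LK LD1_c22 LD2_c56 LD3_c48)) = (LP (LK LD1_c21 LD2_c28 LD3_c44)) :=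
  Lgr Lrot54 (Lpe (f577483 IH) (Lpr_ff (f577967 IH) (Lpe (f149620 IH) (Lpn (LP (LK LD1_c21 LD2_c28 LD3_c44))))))
theorem f522668 : Led Lsl_et (LP (LK LD1_c13 LD2_c33 LD3_c48)) = (LP (LK LD1_c22 LD2_c56 LD3_c48)) :=
  Lre_e IH (LK LD1_c13 LD2_c33 LD3_c48) (LK LD1_c22 LD2_c56 LD3_c48) Lrfl Lrfl
theorem f578019 : Led Lsl_ft (LP (LK LD1_c20 LD2_c36 LD3_c8)) = (LP (LK LD1_c13 LD2_c33 LD3_c48)) :=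
  Lgr Lrot86 (Lpe (f578018 IH) (Lpr_ff (f578013 IH) (Lpe (f149618 IH) (Lpe (f577973 IH) (Lpe (f522668 IH) (Lpn (LP (LK LD1_c13 LD2_c33 LD3_c48))))))))
theorem f519249 : Led Lsl_ft (LP (LK LD1_c7 LD2_c9 LD3_c39)) = (LP (LK LD1_c13 LD2_c33 LD3_c49)) :=
  Lre_f IH (LK LD1_c7 LD2_c9 LD3_c39) (LK LD1_c13 LD2_c33 LD3_c49) Lrfl Lrfl
theorem f578023 : Led Lsl_df (LP (LK LD1_c20 LD2_c36 LD3_c8)) = (LP (LK LD1_c13 LD2_c33 LD3_c49)) :=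
  Lgr Lrot78 (Lpr_ft (f578019 IH) (Lpr_dt (K34.f467201 IH) (Lpr_ft (f519249 IH) (Lpn (LP (LK LD1_c13 LD2_c33 LD3_c49))))))
theorem f578027 : Led Lsl_dt (LP (LK LD1_c20 LD2_c36 LD3_c8)) = (LP (LK LD1_c13 LD2_c33 LD3_c49)) :=
  Lgr Lrot42 (Lpr_df (f578023 IH) (Lpn (LP (LK LD1_c13 LD2_c33 LD3_c49))))
theorem f119678 : Led Lsl_et (LP (LK LD1_c20 LD2_c36 LD3_c8)) = (LP (LK LD1_c11 LD2_c37 LD3_c37)) :=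
  Lre_e IH (LK LD1_c20 LD2_c36 LD3_c8) (LK LD1_c11 LD2_c37 LD3_c37) Lrfl Lrfl
theorem f112862 : Led Lsl_et (LP (LK LD1_c2 LD2_c9 LD3_c25)) = (LP (LK LD1_c4 LD2_c24 LD3_c0)) :=
  Lre_e IH (LK LD1_c2 LD2_c9 LD3_c25) (LK LD1_c4 LD2_c24 LD3_c0) Lrfl Lrfl
theorem f99315 : Led Lsl_gt (LP (LK LD1_c4 LD2_c24 LD3_c0)) = (LP (LK LD1_c8 LD2_c45 LD3_c50)) :=
  Lre_g IH (LK LD1_c4 LD2_c24 LD3_c0) (LK LD1_c8 LD2_c45 LD3_c50) Lrfl Lrfl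
theorem f470465 : Led Lsl_bt (LP (LK LD1_c7 LD2_c7 LD3_c23)) = (LP (LK LD1_c13 LD2_c29 LD3_c47)) :=
  Lre_b IH (LK LD1_c7 LD2_c7 LD3_c23) (LK LD1_c13 LD2_c29 LD3_c47) Lrfl Lrfl
theorem f455376 : Led Lsl_et (LP (LK LD1_c13 LD2_c14 LD3_c0)) = (LP (LK LD1_c6 LD2_c58 LD3_c10)) :=
  Lre_e IH (LK LD1_c13 LD2_c14 LD3_c0) (LK LD1_c6 LD2_c58 LD3_c10) Lrfl Lrfl
theorem f470432 : Led Lsl_et (LP (LK LD1_c7 LD2_c7 LD3_c21)) = (LP (LK LD1_c13 LD2_c29 LD3_c47)) :=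
  Lre_e IH (LK LD1_c7 LD2_c7 LD3_c21) (LK LD1_c13 LD2_c29 LD3_c47) Lrfl Lrfl
theorem f470461 : Led Lsl_af (LP (LK LD1_c13 LD2_c14 LD3_c0)) = (LP (LK LD1_c13 LD2_c29 LD3_c47)) :=
  Lgr Lrot50 (Lpr_et (f455376 IH) (Lpr_at (K41.f470457 IH) (Lpr_et (f470432 IH) (Lpn (LP (LK LD1_c13 LD2_c29 LD3_c47))))))
theorem f470463 : Led Lsl_at (LP (LK LD1_c13 LD2_c14 LD3_c0)) = (LP (LK LD1_c13 LD2_c29 LD3_c47)) :=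
  Lgr Lrot100 (Lpr_af (f470461 IH) (Lpn (LP (LK LD1_c13 LD2_c29 LD3_c47))))
theorem f455372 : Led Lsl_bt (LP (LK LD1_c6 LD2_c58 LD3_c13)) = (LP (LK LD1_c13 LD2_c14 LD3_c1)) :=
  Lre_b IH (LK LD1_c6 LD2_c58 LD3_c13) (LK LD1_c13 LD2_c14 LD3_c1) Lrfl Lrfl
theorem f455373 : Led Lsl_bt (LP (LK LD1_c13 LD2_c14 LD3_c0)) = (LP (LK LD1_c6 LD2_c58 LD3_c12)) :=
  Lre_b IH (LK LD1_c13 LD2_c14 LD3_c0) (LK LD1_c6 LD2_c58 LD3_c12) Lrfl Lrfl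
theorem f455374 : Led Lsl_ft (LP (LK LD1_c13 LD2_c14 LD3_c1)) = (LP (LK LD1_c13 LD2_c14 LD3_c0)) :=
  Lgr Lrot75 (Lpe (f455372 IH) (Lpr_ff (K29.f455369 IH) (Lpe (f455373 IH) (Lpn (LP (LK LD1_c13 LD2_c14 LD3_c0))))))
theorem f455380 : Led Lsl_gt (LP (LK LD1_c13 LD2_c14 LD3_c1)) = (LP (LK LD1_c22 LD2_c28 LD3_c42)) :=
  Lre_g IH (LK LD1_c13 LD2_c14 LD3_c1) (LK LD1_c22 LD2_c28 LD3_c42) Lrfl Lrfl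
theorem f470467 : Led Lsl_gt (LP (LK LD1_c22 LD2_c28 LD3_c42)) = (LP (LK LD1_c13 LD2_c29 LD3_c47)) :=
  Lgr Lrot46 (Lpe (f455380 IH) (Lpr_ft (f455374 IH) (Lpr_at (f470463 IH) (Lpn (LP (LK LD1_c13 LD2_c29 LD3_c47))))))
theorem f470513 : Led Lsl_et (LP (LK LD1_c6 LD2_c56 LD3_c48)) = (LP (LK LD1_c13 LD2_c11 LD3_c19)) :=
  Lre_e IH (LK LD1_c6 LD2_c56 LD3_c48) (LK LD1_c13 LD2_c11 LD3_c19) Lrfl Lrfl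
theorem f470514 : Led Lsl_bf (LP (LK LD1_c7 LD2_c7 LD3_c43)) = (LP (LK LD1_c13 LD2_c11 LD3_c19)) :=
  Lgr Lrot96 (Lpr_et (K28.f98517 IH) (Lpr_bt (K28.f470509 IH) (Lpr_et (f470513 IH) (Lpn (LP (LK LD1_c13 LD2_c11 LD3_c19))))))
theorem f472512 : Led Lsl_ct (LP (LK LD1_c13 LD2_c11 LD3_c19)) = (LP (LK LD1_c6 LD2_c56 LD3_c50)) :=
  Lre_c IH (LK LD1_c13 LD2_c11 LD3_c19) (LK LD1_c6 LD2_c56 LD3_c50) Lrfl Lrfl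
theorem f472513 : Led Lsl_gt (LP (LK LD1_c13 LD2_c11 LD3_c25)) = (LP (LK LD1_c6 LD2_c56 LD3_c50)) :=
  Lre_g IH (LK LD1_c13 LD2_c11 LD3_c25) (LK LD1_c6 LD2_c56 LD3_c50) Lrfl Lrfl
theorem f472514 : Led Lsl_ct (LP (LK LD1_c22 LD2_c24 LD3_c7)) = (LP (LK LD1_c13 LD2_c11 LD3_c25)) :=
  Lre_c IH (LK LD1_c22 LD2_c24 LD3_c7) (LK LD1_c13 LD2_c11 LD3_c25) Lrfl Lrfl
theorem f477656 : Led Lsl_bf (LP (LK LD1_c22 LD2_c28 LD3_c42)) = (LP (LK LD1_c22 LD2_c24 LD3_c7)) :=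
  Lgr Lrot34 (Lpe (f455380 IH) (Lpe (f455372 IH) (Lpr_ct (K29.f455368 IH) (Lpr_gf (K29.f455434 IH) (Lpe (K29.f455436 IH) (Lpr_gf (K35.f477654 IH) (Lpr_bf (f470514 IH) (Lpr_ct (f472512 IH) (Lpe (f472513 IH) (Lpe (f472514 IH) (Lpn (LP (LK LD1_c22 LD2_c24 LD3_c7)))))))))))))
theorem f473906 : Led Lsl_gt (LP (LK LD1_c22 LD2_c23 LD3_c55)) = (LP (LK LD1_c13 LD2_c11 LD3_c25)) :=
  Lre_g IH (LK LD1_c22 LD2_c23 LD3_c55) (LK LD1_c13 LD2_c11 LD3_c25) Lrfl Lrfl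
theorem f466661 : Led Lsl_ct (LP (LK LD1_c3 LD2_c34 LD3_c15)) = (LP (LK LD1_c1 LD2_c43 LD3_c49)) :=
  Lre_c IH (LK LD1_c3 LD2_c34 LD3_c15) (LK LD1_c1 LD2_c43 LD3_c49) Lrfl Lrfl
theorem f519298 : Led Lsl_bt (LP (LK LD1_c3 LD2_c34 LD3_c15)) = (LP (LK LD1_c7 LD2_c9 LD3_c39)) :=
  Lre_b IH (LK LD1_c3 LD2_c34 LD3_c15) (LK LD1_c7 LD2_c9 LD3_c39) Lrfl Lrfl
theorem f488199 : Led Lsl_gt (LP (LK LD1_c7 LD2_c9 LD3_c39)) = (LP (LK LD1_c13 LD2_c33 LD3_c47)) :=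
  Lre_g IH (LK LD1_c7 LD2_c9 LD3_c39) (LK LD1_c13 LD2_c33 LD3_c47) Lrfl Lrfl
theorem f522625 : Led Lsl_cf (LP (LK LD1_c22 LD2_c23 LD3_c55)) = (LP (LK LD1_c13 LD2_c33 LD3_c47)) :=
  Lgr Lrot125 (Lpr_gt (f473906 IH) (Lpe (f472514 IH) (Lpe (f477656 IH) (Lpr_gt (f470467 IH) (Lpe (f470465 IH) (Lpr_ct (K33.f470469 IH) (Lpqs (K33.f522621 IH) (Lpe (K33.f519299 IH) (Lpe (f466661 IH) (Lpr_bt (f519298 IH) (Lpr_gt (f488199 IH) (Lpn (LP (LK LD1_c13 LD2_c33 LD3_c47))))))))))))))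
theorem f473914 : Led Lsl_ft (LP (LK LD1_c22 LD2_c23 LD3_c55)) = (LP (LK LD1_c13 LD2_c11 LD3_c18)) :=
  Lre_f IH (LK LD1_c22 LD2_c23 LD3_c55) (LK LD1_c13 LD2_c11 LD3_c18) Lrfl Lrfl
theorem f475809 : Led Lsl_et (LP (LK LD1_c7 LD2_c13 LD3_c46)) = (LP (LK LD1_c13 LD2_c40 LD3_c58)) :=
  Lre_e IH (LK LD1_c7 LD2_c13 LD3_c46) (LK LD1_c13 LD2_c40 LD3_c58) Lrfl Lrfl
theorem f475866 : Led Lsl_ct (LP (LK LD1_c13 LD2_c40 LD3_c58)) = (LP (LK LD1_c13 LD2_c11 LD3_c18)) :=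
  Lgr Lrot15 (Lpe (f475809 IH) (Lpr_cf (K34.f475816 IH) (Lpe (K41.f475865 IH) (Lpn (LP (LK LD1_c13 LD2_c11 LD3_c18))))))
theorem f475872 : Led Lsl_cf (LP (LK LD1_c13 LD2_c40 LD3_c58)) = (LP (LK LD1_c13 LD2_c11 LD3_c18)) :=
  Lgr Lrot11 (Lpr_ct (f475866 IH) (Lpn (LP (LK LD1_c13 LD2_c11 LD3_c18))))
theorem f522631 : Led Lsl_ft (LP (LK LD1_c13 LD2_c40 LD3_c58)) = (LP (LK LD1_c13 LD2_c33 LD3_c47)) :=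
  Lgr Lrot4 (Lpr_cf (f475872 IH) (Lpe (f473914 IH) (Lpr_cf (f522625 IH) (Lpn (LP (LK LD1_c13 LD2_c33 LD3_c47))))))
theorem f473735 : Led Lsl_at (LP (LK LD1_c13 LD2_c11 LD3_c18)) = (LP (LK LD1_c6 LD2_c56 LD3_c50)) :=
  Lre_a IH (LK LD1_c13 LD2_c11 LD3_c18) (LK LD1_c6 LD2_c56 LD3_c50) Lrfl Lrfl
theorem f472507 : Led Lsl_ct (LP (LK LD1_c6 LD2_c56 LD3_c50)) = (LP (LK LD1_c13 LD2_c11 LD3_c19)) :=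
  Lre_c IH (LK LD1_c6 LD2_c56 LD3_c50) (LK LD1_c13 LD2_c11 LD3_c19) Lrfl Lrfl
theorem f475868 : Led Lsl_af (LP (LK LD1_c13 LD2_c40 LD3_c58)) = (LP (LK LD1_c13 LD2_c11 LD3_c19)) :=
  Lgr Lrot68 (Lpr_ct (f475866 IH) (Lpr_at (f473735 IH) (Lpr_ct (f472507 IH) (Lpn (LP (LK LD1_c13 LD2_c11 LD3_c19))))))
theorem f477565 : Led Lsl_bt (LP (LK LD1_c7 LD2_c15 LD3_c24)) = (LP (LK LD1_c13 LD2_c44 LD3_c3)) :=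
  Lre_b IH (LK LD1_c7 LD2_c15 LD3_c24) (LK LD1_c13 LD2_c44 LD3_c3) Lrfl Lrfl
theorem f477652 : Led Lsl_ft (LP (LK LD1_c13 LD2_c44 LD3_c3)) = (LP (LK LD1_c13 LD2_c11 LD3_c19)) :=
  Lgr Lrot75 (Lpe (f477565 IH) (Lpr_ff (K29.f477582 IH) (Lpr_bf (f470514 IH) (Lpn (LP (LK LD1_c13 LD2_c11 LD3_c19))))))
theorem f522646 : Led Lsl_af (LP (LK LD1_c13 LD2_c44 LD3_c3)) = (LP (LK LD1_c13 LD2_c33 LD3_c47)) :=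
  Lgr Lrot45 (Lpr_ft (f477652 IH) (Lpe (f475868 IH) (Lpr_ft (f522631 IH) (Lpn (LP (LK LD1_c13 LD2_c33 LD3_c47))))))
theorem f516335 : Led Lsl_ct (LP (LK LD1_c7 LD2_c9 LD3_c37)) = (LP (LK LD1_c13 LD2_c33 LD3_c33)) :=
  Lre_c IH (LK LD1_c7 LD2_c9 LD3_c37) (LK LD1_c13 LD2_c33 LD3_c33) Lrfl Lrfl
theorem f516457 : Led Lsl_et (LP (LK LD1_c13 LD2_c33 LD3_c42)) = (LP (LK LD1_c7 LD2_c9 LD3_c37)) :=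
  Lre_e IH (LK LD1_c13 LD2_c33 LD3_c42) (LK LD1_c7 LD2_c9 LD3_c37) Lrfl Lrfl
theorem f516458 : Led Lsl_cf (LP (LK LD1_c13 LD2_c33 LD3_c42)) = (LP (LK LD1_c22 LD2_c27 LD3_c47)) :=
  Lgr Lrot39 (Lpr_et (f516457 IH) (Lpr_ct (f516335 IH) (Lpr_et (K34.f516453 IH) (Lpn (LP (LK LD1_c22 LD2_c27 LD3_c47))))))
theorem f458008 : Led Lsl_bt (LP (LK LD1_c22 LD2_c27 LD3_c47)) = (LP (LK LD1_c13 LD2_c13 LD3_c25)) :=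
  Lre_b IH (LK LD1_c22 LD2_c27 LD3_c47) (LK LD1_c13 LD2_c13 LD3_c25) Lrfl Lrfl
theorem f473752 : Led Lsl_bt (LP (LK LD1_c13 LD2_c11 LD3_c27)) = (LP (LK LD1_c6 LD2_c56 LD3_c56)) :=
  Lre_b IH (LK LD1_c13 LD2_c11 LD3_c27) (LK LD1_c6 LD2_c56 LD3_c56) Lrfl Lrfl
theorem f473835 : Led Lsl_ft (LP (LK LD1_c6 LD2_c56 LD3_c50)) = (LP (LK LD1_c13 LD2_c11 LD3_c27)) :=
  Lre_f IH (LK LD1_c6 LD2_c56 LD3_c50) (LK LD1_c13 LD2_c11 LD3_c27) Lrfl Lrfl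
theorem f477661 : Led Lsl_cf (LP (LK LD1_c13 LD2_c44 LD3_c3)) = (LP (LK LD1_c13 LD2_c11 LD3_c27)) :=
  Lgr Lrot108 (Lpr_ft (f477652 IH) (Lpr_ct (f472512 IH) (Lpr_ft (f473835 IH) (Lpn (LP (LK LD1_c13 LD2_c11 LD3_c27))))))
theorem f516606 : Led Lsl_gt (LP (LK LD1_c13 LD2_c33 LD3_c42)) = (LP (LK LD1_c13 LD2_c44 LD3_c3)) :=
  Lgr Lrot65 (Lpr_cf (f516458 IH) (Lpr_bt (f458008 IH) (Lpe (K34.f16716 IH) (Lpe (K34.f16715 IH) (Lpr_ct (K33.f98717 IH) (Lpe (K29.f458004 IH) (Lpe (K28.f457885 IH) (Lpe (K29.f473746 IH) (Lpe (f473752 IH) (Lpe (f477661 IH) (Lpn (LP (LK LD1_c13 LD2_c44 LD3_c3)))))))))))))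
theorem f522650 : Led Lsl_gt (LP (LK LD1_c13 LD2_c40 LD3_c58)) = (LP (LK LD1_c13 LD2_c33 LD3_c42)) :=
  Lgr Lrot5 (Lpr_ft (f522631 IH) (Lpe (f522646 IH) (Lpe (f516606 IH) (Lpn (LP (LK LD1_c13 LD2_c33 LD3_c42))))))
theorem f516604 : Led Lsl_at (LP (LK LD1_c7 LD2_c9 LD3_c39)) = (LP (LK LD1_c13 LD2_c33 LD3_c42)) :=
  Lre_a IH (LK LD1_c7 LD2_c9 LD3_c39) (LK LD1_c13 LD2_c33 LD3_c42) Lrfl Lrfl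
theorem f516605 : Led Lsl_ft (LP (LK LD1_c13 LD2_c33 LD3_c49)) = (LP (LK LD1_c7 LD2_c9 LD3_c39)) :=
  Lre_f IH (LK LD1_c13 LD2_c33 LD3_c49) (LK LD1_c7 LD2_c9 LD3_c39) Lrfl Lrfl
theorem f522652 : Led Lsl_gf (LP (LK LD1_c13 LD2_c40 LD3_c58)) = (LP (LK LD1_c13 LD2_c33 LD3_c49)) :=
  Lgr Lrot47 (Lpr_gt (f522650 IH) (Lpe (f516604 IH) (Lpe (f516605 IH) (Lpn (LP (LK LD1_c13 LD2_c33 LD3_c49))))))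
theorem f522654 : Led Lsl_gt (LP (LK LD1_c13 LD2_c44 LD3_c3)) = (LP (LK LD1_c13 LD2_c33 LD3_c49)) :=
  Lgr Lrot5 (Lpr_ft (f477652 IH) (Lpe (f475868 IH) (Lpr_gf (f522652 IH) (Lpn (LP (LK LD1_c13 LD2_c33 LD3_c49))))))
theorem f578029 : Led Lsl_dt (LP (LK LD1_c8 LD2_c45 LD3_c50)) = (LP (LK LD1_c13 LD2_c44 LD3_c3)) :=
  Lgr Lrot171 (Lpe (f99315 IH) (Lpe (f112862 IH) (Lpr_dt (K11.f36528 IH) (Lpe (K4.f36532 IH) (Lpe (K4.f119650 IH) (Lpr_et (f119672 IH) (Lpe (f119677 IH) (Lpe (f119678 IH) (Lpr_dt (f578027 IH) (Lpe (f522654 IH) (Lpn (LP (LK LD1_c13 LD2_c44 LD3_c3)))))))))))))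
theorem f205685 : Led Lsl_ft (LP (LK LD1_c4 LD2_c24 LD3_c0)) = (LP (LK LD1_c8 LD2_c45 LD3_c52)) :=
  Lre_f IH (LK LD1_c4 LD2_c24 LD3_c0) (LK LD1_c8 LD2_c45 LD3_c52) Lrfl Lrfl
theorem f544311 : Led Lsl_df (LP (LK LD1_c4 LD2_c24 LD3_c0)) = (LP (LK LD1_c7 LD2_c12 LD3_c31)) :=
  Lgr Lrot78 (Lpr_ft (f205685 IH) (Lpr_dt (K37.f544305 IH) (Lpr_ft (K34.f513182 IH) (Lpn (LP (LK LD1_c7 LD2_c12 LD3_c31))))))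
theorem f473753 : Led Lsl_df (LP (LK LD1_c13 LD2_c11 LD3_c27)) = (LP (LK LD1_c13 LD2_c3 LD3_c38)) :=
  Lgr Lrot12 (Lpr_bt (f473752 IH) (Lpr_dt (K29.f473748 IH) (Lpr_bt (K41.f472972 IH) (Lpn (LP (LK LD1_c13 LD2_c3 LD3_c38))))))
theorem f578035 : Led Lsl_gt (LP (LK LD1_c22 LD2_c12 LD3_c60)) = (LP (LK LD1_c13 LD2_c3 LD3_c38)) :=
  Lgr Lrot49 (Lpe (K28.f95405 IH) (Lpe (K41.f564329 IH) (Lpe (K41.f513493 IH) (Lpr_gt (K41.f513475 IH) (Lpe (f544311 IH) (Lpr_gt (f99315 IH) (Lpr_dt (f578029 IH) (Lpr_cf (f477661 IH) (Lpr_df (f473753 IH) (Lpn (LP (LK LD1_c13 LD2_c3 LD3_c38))))))))))))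
theorem f513186 : Led Lsl_df (LP (LK LD1_c22 LD2_c12 LD3_c36)) = (LP (LK LD1_c22 LD2_c24 LD3_c9)) :=
  Lgr Lrot155 (Lpr_gt (K41.f476500 IH) (Lpe (K41.f513165 IH) (Lpr_gt (K34.f513172 IH) (Lpr_ct (K4.f17859 IH) (Lpr_dt (K4.f17879 IH) (Lpe (K41.f17895 IH) (Lpe (K41.f492953 IH) (Lpe (K37.f90910 IH) (Lpe (K41.f472510 IH) (Lpn (LP (LK LD1_c22 LD2_c24 LD3_c9))))))))))))
theorem f575216 : Led Lsl_ft (LP (LK LD1_c22 LD2_c12 LD3_c60)) = (LP (LK LD1_c22 LD2_c24 LD3_c9)) :=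
  Lgr Lrot54 (Lpe (K28.f95405 IH) (Lpr_ff (f575212 IH) (Lpr_df (f513186 IH) (Lpn (LP (LK LD1_c22 LD2_c24 LD3_c9))))))
theorem f473727 : Led Lsl_at (LP (LK LD1_c13 LD2_c11 LD3_c26)) = (LP (LK LD1_c22 LD2_c23 LD3_c54)) :=
  Lre_a IH (LK LD1_c13 LD2_c11 LD3_c26) (LK LD1_c22 LD2_c23 LD3_c54) Lrfl Lrfl
theorem f513500 : Led Lsl_gt (LP (LK LD1_c13 LD2_c3 LD3_c38)) = (LP (LK LD1_c22 LD2_c13 LD3_c14)) :=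
  Lgr Lrot5 (Lpr_ft (K41.f473828 IH) (Lpr_at (f473727 IH) (Lpr_gf (K41.f513498 IH) (Lpn (LP (LK LD1_c22 LD2_c13 LD3_c14))))))
theorem f578040 : Led Lsl_at (LP (LK LD1_c22 LD2_c24 LD3_c9)) = (LP (LK LD1_c22 LD2_c13 LD3_c14)) :=
  Lgr Lrot26 (Lpe (f575216 IH) (Lpr_gt (f578035 IH) (Lpr_gt (f513500 IH) (Lpn (LP (LK LD1_c22 LD2_c13 LD3_c14))))))
theorem f578044 : Led Lsl_af (LP (LK LD1_c22 LD2_c24 LD3_c9)) = (LP (LK LD1_c22 LD2_c13 LD3_c14)) :=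
  Lgr Lrot0 (Lpr_at (f578040 IH) (Lpn (LP (LK LD1_c22 LD2_c13 LD3_c14))))
theorem f473844 : Led Lsl_at (LP (LK LD1_c13 LD2_c3 LD3_c38)) = (LP (LK LD1_c22 LD2_c13 LD3_c40)) :=
  Lre_a IH (LK LD1_c13 LD2_c3 LD3_c38) (LK LD1_c22 LD2_c13 LD3_c40) Lrfl Lrfl
theorem f473845 : Led Lsl_at (LP (LK LD1_c22 LD2_c23 LD3_c54)) = (LP (LK LD1_c13 LD2_c11 LD3_c26)) :=
  Lre_a IH (LK LD1_c22 LD2_c23 LD3_c54) (LK LD1_c13 LD2_c11 LD3_c26) Lrfl Lrfl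
theorem f473846 : Led Lsl_ft (LP (LK LD1_c22 LD2_c13 LD3_c40)) = (LP (LK LD1_c22 LD2_c23 LD3_c54)) :=
  Lgr Lrot101 (Lpe (f473844 IH) (Lpr_ff (K41.f473841 IH) (Lpe (f473845 IH) (Lpn (LP (LK LD1_c22 LD2_c23 LD3_c54))))))
theorem f473901 : Led Lsl_gt (LP (LK LD1_c22 LD2_c13 LD3_c40)) = (LP (LK LD1_c22 LD2_c24 LD3_c9)) :=
  Lgr Lrot5 (Lpr_ft (f473846 IH) (Lpr_at (f473845 IH) (Lpe (K41.f472510 IH) (Lpn (LP (LK LD1_c22 LD2_c24 LD3_c9))))))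
theorem f473855 : Led Lsl_gt (LP (LK LD1_c13 LD2_c11 LD3_c26)) = (LP (LK LD1_c22 LD2_c24 LD3_c8)) :=
  Lre_g IH (LK LD1_c13 LD2_c11 LD3_c26) (LK LD1_c22 LD2_c24 LD3_c8) Lrfl Lrfl
theorem f473856 : Led Lsl_gf (LP (LK LD1_c22 LD2_c13 LD3_c40)) = (LP (LK LD1_c22 LD2_c24 LD3_c8)) :=
  Lgr Lrot76 (Lpe (f473844 IH) (Lpr_ff (K41.f473841 IH) (Lpr_gt (f473855 IH) (Lpn (LP (LK LD1_c22 LD2_c24 LD3_c8))))))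
theorem f578054 : Led Lsl_ft (LP (LK LD1_c22 LD2_c24 LD3_c8)) = (LP (LK LD1_c22 LD2_c13 LD3_c14)) :=
  Lgr Lrot2 (Lpe (f473856 IH) (Lpr_gt (f473901 IH) (Lpr_af (f578044 IH) (Lpn (LP (LK LD1_c22 LD2_c13 LD3_c14))))))
theorem f578060 : Led Lsl_df (LP (LK LD1_c22 LD2_c24 LD3_c8)) = (LP (LK LD1_c13 LD2_c19 LD3_c33)) :=
  Lgr Lrot78 (Lpr_ft (f578054 IH) (Lpr_dt (K41.f513063 IH) (Lpr_ft (K41.f564337 IH) (Lpn (LP (LK LD1_c13 LD2_c19 LD3_c33))))))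
theorem f473877 : Led Lsl_dt (LP (LK LD1_c22 LD2_c23 LD3_c54)) = (LP (LK LD1_c13 LD2_c11 LD3_c18)) :=
  Lre_d IH (LK LD1_c22 LD2_c23 LD3_c54) (LK LD1_c13 LD2_c11 LD3_c18) Lrfl Lrfl
theorem f473897 : Led Lsl_ft (LP (LK LD1_c13 LD2_c11 LD3_c18)) = (LP (LK LD1_c22 LD2_c23 LD3_c55)) :=
  Lre_f IH (LK LD1_c13 LD2_c11 LD3_c18) (LK LD1_c22 LD2_c23 LD3_c55) Lrfl Lrfl
theorem f473898 : Led Lsl_df (LP (LK LD1_c22 LD2_c13 LD3_c40)) = (LP (LK LD1_c22 LD2_c23 LD3_c55)) :=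
  Lgr Lrot78 (Lpr_ft (f473846 IH) (Lpr_dt (f473877 IH) (Lpr_ft (f473897 IH) (Lpn (LP (LK LD1_c22 LD2_c23 LD3_c55))))))
theorem f473911 : Led Lsl_dt (LP (LK LD1_c22 LD2_c13 LD3_c40)) = (LP (LK LD1_c22 LD2_c23 LD3_c55)) :=
  Lgr Lrot42 (Lpr_df (f473898 IH) (Lpn (LP (LK LD1_c22 LD2_c23 LD3_c55))))
theorem f522629 : Led Lsl_ct (LP (LK LD1_c22 LD2_c23 LD3_c55)) = (LP (LK LD1_c13 LD2_c33 LD3_c47)) :=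
  Lgr Lrot59 (Lpr_cf (f522625 IH) (Lpn (LP (LK LD1_c13 LD2_c33 LD3_c47))))
theorem f17940 : Led Lsl_dt (LP (LK LD1_c3 LD2_c36 LD3_c6)) = (LP (LK LD1_c7 LD2_c12 LD3_c33)) :=
  Lre_d IH (LK LD1_c3 LD2_c36 LD3_c6) (LK LD1_c7 LD2_c12 LD3_c33) Lrfl Lrfl
theorem f109489 : Led Lsl_gt (LP (LK LD1_c7 LD2_c12 LD3_c33)) = (LP (LK LD1_c13 LD2_c38 LD3_c53)) :=
  Lre_g IH (LK LD1_c7 LD2_c12 LD3_c33) (LK LD1_c13 LD2_c38 LD3_c53) Lrfl Lrfl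
theorem f578114 : Led Lsl_df (LP (LK LD1_c13 LD2_c33 LD3_c47)) = (LP (LK LD1_c13 LD2_c38 LD3_c53)) :=
  Lgr Lrot84 (Lpe (f522629 IH) (Lpe (f473911 IH) (Lpr_gf (f473856 IH) (Lpr_df (f578060 IH) (Lpr_gf (f575218 IH) (Lpe (K34.f513469 IH) (Lpr_gt (K34.f513172 IH) (Lpr_dt (f17940 IH) (Lpr_gt (f109489 IH) (Lpn (LP (LK LD1_c13 LD2_c38 LD3_c53))))))))))))
theorem f578119 : Led Lsl_dt (LP (LK LD1_c13 LD2_c33 LD3_c47)) = (LP (LK LD1_c13 LD2_c38 LD3_c53)) :=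
  Lgr Lrot42 (Lpr_df (f578114 IH) (Lpn (LP (LK LD1_c13 LD2_c38 LD3_c53))))
theorem f473915 : Led Lsl_at (LP (LK LD1_c22 LD2_c23 LD3_c55)) = (LP (LK LD1_c13 LD2_c11 LD3_c27)) :=
  Lre_a IH (LK LD1_c22 LD2_c23 LD3_c55) (LK LD1_c13 LD2_c11 LD3_c27) Lrfl Lrfl
theorem f522627 : Led Lsl_at (LP (LK LD1_c13 LD2_c44 LD3_c3)) = (LP (LK LD1_c13 LD2_c33 LD3_c47)) :=
  Lgr Lrot107 (Lpr_cf (f477661 IH) (Lpe (f473915 IH) (Lpr_cf (f522625 IH) (Lpn (LP (LK LD1_c13 LD2_c33 LD3_c47))))))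
theorem f578123 : Led Lsl_af (LP (LK LD1_c8 LD2_c45 LD3_c50)) = (LP (LK LD1_c13 LD2_c38 LD3_c53)) :=
  Lgr Lrot117 (Lpr_dt (f578029 IH) (Lpr_at (f522627 IH) (Lpr_dt (f578119 IH) (Lpn (LP (LK LD1_c13 LD2_c38 LD3_c53))))))
theorem f101879 : Led Lsl_gt (LP (LK LD1_c8 LD2_c45 LD3_c51)) = (LP (LK LD1_c4 LD2_c24 LD3_c0)) :=
  Lre_g IH (LK LD1_c8 LD2_c45 LD3_c51) (LK LD1_c4 LD2_c24 LD3_c0) Lrfl Lrfl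
theorem f578131 : Led Lsl_ft (LP (LK LD1_c8 LD2_c45 LD3_c51)) = (LP (LK LD1_c13 LD2_c38 LD3_c53)) :=
  Lgr Lrot2 (Lpr_gt (f101879 IH) (Lpr_gt (f99315 IH) (Lpr_af (f578123 IH) (Lpn (LP (LK LD1_c13 LD2_c38 LD3_c53))))))
theorem f578137 : Led Lsl_ff (LP (LK LD1_c8 LD2_c45 LD3_c51)) = (LP (LK LD1_c13 LD2_c38 LD3_c53)) :=
  Lgr Lrot3 (Lpr_ft (f578131 IH) (Lpn (LP (LK LD1_c13 LD2_c38 LD3_c53))))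
theorem f578143 : Led Lsl_dt (LP (LK LD1_c8 LD2_c45 LD3_c51)) = (LP (LK LD1_c13 LD2_c40 LD3_c58)) :=
  Lgr Lrot60 (Lpr_ff (f578137 IH) (Lpe (f578119 IH) (Lpe (f522631 IH) (Lpn (LP (LK LD1_c13 LD2_c40 LD3_c58))))))
theorem f488208 : Led Lsl_cf (LP (LK LD1_c6 LD2_c51 LD3_c58)) = (LP (LK LD1_c7 LD2_c6 LD3_c10)) :=
  Lgr Lrot11 (Lpr_ct (K34.f488204 IH) (Lpn (LP (LK LD1_c7 LD2_c6 LD3_c10))))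
theorem f17853 : Led Lsl_dt (LP (LK LD1_c7 LD2_c12 LD3_c34)) = (LP (LK LD1_c13 LD2_c38 LD3_c55)) :=
  Lre_d IH (LK LD1_c7 LD2_c12 LD3_c34) (LK LD1_c13 LD2_c38 LD3_c55) Lrfl Lrfl
theorem f578147 : Led Lsl_gf (LP (LK LD1_c8 LD2_c45 LD3_c51)) = (LP (LK LD1_c13 LD2_c38 LD3_c55)) :=
  Lgr Lrot143 (Lpr_dt (f578143 IH) (Lpr_cf (f475872 IH) (Lpe (f473877 IH) (Lpr_gf (K41.f513498 IH) (Lpe (K41.f91086 IH) (Lpe (K41.f91085 IH) (Lpr_cf (f488208 IH) (Lpe (K41.f488213 IH) (Lpr_dt (f17853 IH) (Lpn (LP (LK LD1_c13 LD2_c38 LD3_c55))))))))))))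
theorem f578140 : Led Lsl_ct (LP (LK LD1_c8 LD2_c45 LD3_c51)) = (LP (LK LD1_c16 LD2_c24 LD3_c5)) :=
  Lre_c IH (LK LD1_c8 LD2_c45 LD3_c51) (LK LD1_c16 LD2_c24 LD3_c5) Lrfl Lrfl
theorem f17863 : Led Lsl_dt (LP (LK LD1_c13 LD2_c38 LD3_c55)) = (LP (LK LD1_c7 LD2_c12 LD3_c34)) :=
  Lre_d IH (LK LD1_c13 LD2_c38 LD3_c55) (LK LD1_c7 LD2_c12 LD3_c34) Lrfl Lrfl
theorem f116620 : Led Lsl_et (LP (LK LD1_c7 LD2_c16 LD3_c44)) = (LP (LK LD1_c13 LD2_c46 LD3_c24)) :=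
  Lre_e IH (LK LD1_c7 LD2_c16 LD3_c44) (LK LD1_c13 LD2_c46 LD3_c24) Lrfl Lrfl
theorem f420048 : Led Lsl_et (LP (LK LD1_c11 LD2_c36 LD3_c19)) = (LP (LK LD1_c5 LD2_c55 LD3_c31)) :=
  Lre_e IH (LK LD1_c11 LD2_c36 LD3_c19) (LK LD1_c5 LD2_c55 LD3_c31) Lrfl Lrfl
theorem f570723 : Led Lsl_dt (LP (LK LD1_c13 LD2_c46 LD3_c24)) = (LP (LK LD1_c11 LD2_c36 LD3_c19)) :=
  Lgr Lrot77 (Lpe (f116620 IH) (Lpe (K38.f547072 IH) (Lpr_ef (K42.f570709 IH) (Lpe (K36.f161819 IH) (Lpe (f420048 IH) (Lpn (LP (LK LD1_c11 LD2_c36 LD3_c19))))))))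
theorem f498945 : Led Lsl_ct (LP (LK LD1_c20 LD2_c34 LD3_c28)) = (LP (LK LD1_c11 LD2_c36 LD3_c19)) :=
  Lre_c IH (LK LD1_c20 LD2_c34 LD3_c28) (LK LD1_c11 LD2_c36 LD3_c19) Lrfl Lrfl
theorem f578151 : Led Lsl_gt (LP (LK LD1_c16 LD2_c24 LD3_c5)) = (LP (LK LD1_c20 LD2_c34 LD3_c28)) :=
  Lgr Lrot187 (Lpe (f578140 IH) (Lpr_gf (f578147 IH) (Lpr_dt (f17863 IH) (Lpe (K41.f513473 IH) (Lpr_ct (K41.f513493 IH) (Lpr_gt (K41.f564329 IH) (Lpr_ct (K7.f116618 IH) (Lpr_dt (f570723 IH) (Lpe (f498945 IH) (Lpn (LP (LK LD1_c20 LD2_c34 LD3_c28))))))))))))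
theorem f498942 : Led Lsl_ct (LP (LK LD1_c11 LD2_c36 LD3_c19)) = (LP (LK LD1_c20 LD2_c34 LD3_c28)) :=
  Lre_c IH (LK LD1_c11 LD2_c36 LD3_c19) (LK LD1_c20 LD2_c34 LD3_c28) Lrfl Lrfl
theorem f108362 : Led Lsl_bt (LP (LK LD1_c7 LD2_c12 LD3_c45)) = (LP (LK LD1_c13 LD2_c38 LD3_c55)) :=
  Lre_b IH (LK LD1_c7 LD2_c12 LD3_c45) (LK LD1_c13 LD2_c38 LD3_c55) Lrfl Lrfl
theorem f98571 : Led Lsl_gt (LP (LK LD1_c7 LD2_c5 LD3_c50)) = (LP (LK LD1_c13 LD2_c27 LD3_c3)) :=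
  Lre_g IH (LK LD1_c7 LD2_c5 LD3_c50) (LK LD1_c13 LD2_c27 LD3_c3) Lrfl Lrfl
theorem f108373 : Led Lsl_gf (LP (LK LD1_c13 LD2_c39 LD3_c8)) = (LP (LK LD1_c13 LD2_c27 LD3_c3)) :=
  Lgr Lrot76 (Lpr_af (K24.f108355 IH) (Lpe (K24.f108354 IH) (Lpr_gt (f98571 IH) (Lpn (LP (LK LD1_c13 LD2_c27 LD3_c3))))))
theorem f92307 : Led Lsl_dt (LP (LK LD1_c3 LD2_c39 LD3_c24)) = (LP (LK LD1_c1 LD2_c46 LD3_c39)) :=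
  Lre_d IH (LK LD1_c3 LD2_c39 LD3_c24) (LK LD1_c1 LD2_c46 LD3_c39) Lrfl Lrfl
theorem f439492 : Led Lsl_gt (LP (LK LD1_c3 LD2_c39 LD3_c24)) = (LP (LK LD1_c7 LD2_c19 LD3_c0)) :=
  Lre_g IH (LK LD1_c3 LD2_c39 LD3_c24) (LK LD1_c7 LD2_c19 LD3_c0) Lrfl Lrfl
theorem f465697 : Led Lsl_cf (LP (LK LD1_c13 LD2_c27 LD3_c3)) = (LP (LK LD1_c7 LD2_c19 LD3_c0)) :=
  Lgr Lrot169 (Lpe (f108373 IH) (Lpr_ct (K24.f108360 IH) (Lpe (K24.f108323 IH) (Lpe (K24.f17829 IH) (Lpr_gf (K28.f108427 IH) (Lpe (K33.f108429 IH) (Lpr_gf (K28.f465691 IH) (Lpe (f92307 IH) (Lpr_gt (f439492 IH) (Lpn (LP (LK LD1_c7 LD2_c19 LD3_c0))))))))))))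
theorem f489437 : Led Lsl_bt (LP (LK LD1_c7 LD2_c19 LD3_c0)) = (LP (LK LD1_c13 LD2_c50 LD3_c32)) :=
  Lre_b IH (LK LD1_c7 LD2_c19 LD3_c0) (LK LD1_c13 LD2_c50 LD3_c32) Lrfl Lrfl
theorem f5635 : Led Lsl_dt (LP (LK LD1_c7 LD2_c16 LD3_c46)) = (LP (LK LD1_c13 LD2_c46 LD3_c26)) :=
  Lre_d IH (LK LD1_c7 LD2_c16 LD3_c46) (LK LD1_c13 LD2_c46 LD3_c26) Lrfl Lrfl
theorem f501634 : Led Lsl_et (LP (LK LD1_c3 LD2_c32 LD3_c45)) = (LP (LK LD1_c7 LD2_c6 LD3_c23)) :=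
  Lre_e IH (LK LD1_c3 LD2_c32 LD3_c45) (LK LD1_c7 LD2_c6 LD3_c23) Lrfl Lrfl
theorem f439427 : Led Lsl_bt (LP (LK LD1_c13 LD2_c50 LD3_c44)) = (LP (LK LD1_c7 LD2_c19 LD3_c10)) :=
  Lre_b IH (LK LD1_c13 LD2_c50 LD3_c44) (LK LD1_c7 LD2_c19 LD3_c10) Lrfl Lrfl
theorem f446468 : Led Lsl_bt (LP (LK LD1_c6 LD2_c58 LD3_c12)) = (LP (LK LD1_c13 LD2_c14 LD3_c0)) :=
  Lre_b IH (LK LD1_c6 LD2_c58 LD3_c12) (LK LD1_c13 LD2_c14 LD3_c0) Lrfl Lrfl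
theorem f464187 : Led Lsl_df (LP (LK LD1_c13 LD2_c50 LD3_c44)) = (LP (LK LD1_c13 LD2_c14 LD3_c0)) :=
  Lgr Lrot12 (Lpr_bt (f439427 IH) (Lpr_dt (K28.f464183 IH) (Lpr_bt (f446468 IH) (Lpn (LP (LK LD1_c13 LD2_c14 LD3_c0))))))
theorem f574916 : Led Lsl_gf (LP (LK LD1_c13 LD2_c46 LD3_c26)) = (LP (LK LD1_c13 LD2_c50 LD3_c44)) :=
  Lgr Lrot145 (Lpe (f5635 IH) (Lpr_et (f5634 IH) (Lpe (K3.f5629 IH) (Lpr_dt (K0.f5063 IH) (Lpr_gt (f574906 IH) (Lpe (f10301 IH) (Lpr_et (f501634 IH) (Lpr_gt (K41.f564573 IH) (Lpe (f455376 IH) (Lpe (f464187 IH) (Lpn (LP (LK LD1_c13 LD2_c50 LD3_c44)))))))))))))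
theorem f464193 : Led Lsl_bt (LP (LK LD1_c7 LD2_c19 LD3_c10)) = (LP (LK LD1_c13 LD2_c50 LD3_c44)) :=
  Lre_b IH (LK LD1_c7 LD2_c19 LD3_c10) (LK LD1_c13 LD2_c50 LD3_c44) Lrfl Lrfl
theorem f439608 : Led Lsl_bt (LP (LK LD1_c13 LD2_c47 LD3_c13)) = (LP (LK LD1_c7 LD2_c17 LD3_c14)) :=
  Lre_b IH (LK LD1_c13 LD2_c47 LD3_c13) (LK LD1_c7 LD2_c17 LD3_c14) Lrfl Lrfl
theorem f470757 : Led Lsl_ft (LP (LK LD1_c13 LD2_c50 LD3_c44)) = (LP (LK LD1_c13 LD2_c47 LD3_c13)) :=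
  Lgr Lrot75 (Lpe (f464193 IH) (Lpr_ff (K29.f470753 IH) (Lpe (f439608 IH) (Lpn (LP (LK LD1_c13 LD2_c47 LD3_c13))))))
theorem f489432 : Led Lsl_et (LP (LK LD1_c7 LD2_c19 LD3_c1)) = (LP (LK LD1_c13 LD2_c50 LD3_c34)) :=
  Lre_e IH (LK LD1_c7 LD2_c19 LD3_c1) (LK LD1_c13 LD2_c50 LD3_c34) Lrfl Lrfl
theorem f458572 : Led Lsl_et (LP (LK LD1_c7 LD2_c53 LD3_c51)) = (LP (LK LD1_c3 LD2_c56 LD3_c4)) :=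
  Lre_e IH (LK LD1_c7 LD2_c53 LD3_c51) (LK LD1_c3 LD2_c56 LD3_c4) Lrfl Lrfl
theorem f535410 : Led Lsl_dt (LP (LK LD1_c13 LD2_c50 LD3_c34)) = (LP (LK LD1_c7 LD2_c53 LD3_c51)) :=
  Lgr Lrot77 (Lpe (f489432 IH) (Lpr_df (K35.f535404 IH) (Lpe (K35.f535396 IH) (Lpe (K29.f446553 IH) (Lpe (f458572 IH) (Lpn (LP (LK LD1_c7 LD2_c53 LD3_c51))))))))
theorem f535414 : Led Lsl_df (LP (LK LD1_c13 LD2_c50 LD3_c34)) = (LP (LK LD1_c7 LD2_c53 LD3_c51)) :=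
  Lgr Lrot38 (Lpr_dt (f535410 IH) (Lpn (LP (LK LD1_c7 LD2_c53 LD3_c51))))
theorem f455336 : Led Lsl_dt (LP (LK LD1_c6 LD2_c58 LD3_c10)) = (LP (LK LD1_c13 LD2_c13 LD3_c61)) :=
  Lre_d IH (LK LD1_c6 LD2_c58 LD3_c10) (LK LD1_c13 LD2_c13 LD3_c61) Lrfl Lrfl
theorem f455338 : Led Lsl_ft (LP (LK LD1_c13 LD2_c13 LD3_c61)) = (LP (LK LD1_c13 LD2_c14 LD3_c27)) :=
  Lgr Lrot54 (Lpe (f455336 IH) (Lpr_ff (K41.f455328 IH) (Lpe (K29.f455337 IH) (Lpn (LP (LK LD1_c13 LD2_c14 LD3_c27))))))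
theorem f470433 : Led Lsl_af (LP (LK LD1_c13 LD2_c13 LD3_c61)) = (LP (LK LD1_c13 LD2_c29 LD3_c46)) :=
  Lgr Lrot45 (Lpr_ft (f455338 IH) (Lpr_at (K29.f465205 IH) (Lpr_ft (K29.f470426 IH) (Lpn (LP (LK LD1_c13 LD2_c29 LD3_c46))))))
theorem f455300 : Led Lsl_bt (LP (LK LD1_c13 LD2_c13 LD3_c61)) = (LP (LK LD1_c6 LD2_c58 LD3_c11)) :=
  Lre_b IH (LK LD1_c13 LD2_c13 LD3_c61) (LK LD1_c6 LD2_c58 LD3_c11) Lrfl Lrfl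
theorem f470473 : Led Lsl_at (LP (LK LD1_c3 LD2_c56 LD3_c4)) = (LP (LK LD1_c7 LD2_c7 LD3_c22)) :=
  Lgr Lrot67 (Lpr_bf (K29.f458568 IH) (Lpe (K42.f455256 IH) (Lpe (f455300 IH) (Lpr_af (f470433 IH) (Lpe (K29.f470410 IH) (Lpn (LP (LK LD1_c7 LD2_c7 LD3_c22))))))))
theorem f470413 : Led Lsl_et (LP (LK LD1_c7 LD2_c7 LD3_c22)) = (LP (LK LD1_c13 LD2_c29 LD3_c48)) :=
  Lre_e IH (LK LD1_c7 LD2_c7 LD3_c22) (LK LD1_c13 LD2_c29 LD3_c48) Lrfl Lrfl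
theorem f470475 : Led Lsl_af (LP (LK LD1_c7 LD2_c53 LD3_c51)) = (LP (LK LD1_c13 LD2_c29 LD3_c48)) :=
  Lgr Lrot50 (Lpr_et (f458572 IH) (Lpr_at (f470473 IH) (Lpr_et (f470413 IH) (Lpn (LP (LK LD1_c13 LD2_c29 LD3_c48))))))
theorem f470480 : Led Lsl_et (LP (LK LD1_c13 LD2_c29 LD3_c48)) = (LP (LK LD1_c7 LD2_c7 LD3_c22)) :=
  Lre_e IH (LK LD1_c13 LD2_c29 LD3_c48) (LK LD1_c7 LD2_c7 LD3_c22) Lrfl Lrfl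
theorem f471011 : Led Lsl_et (LP (LK LD1_c7 LD2_c17 LD3_c21)) = (LP (LK LD1_c13 LD2_c47 LD3_c25)) :=
  Lre_e IH (LK LD1_c7 LD2_c17 LD3_c21) (LK LD1_c13 LD2_c47 LD3_c25) Lrfl Lrfl
theorem f471012 : Led Lsl_df (LP (LK LD1_c13 LD2_c29 LD3_c48)) = (LP (LK LD1_c13 LD2_c47 LD3_c25)) :=
  Lgr Lrot70 (Lpr_et (f470480 IH) (Lpr_dt (K29.f470378 IH) (Lpr_et (K35.f470397 IH) (Lpr_dt (K35.f471004 IH) (Lpr_et (f471011 IH) (Lpn (LP (LK LD1_c13 LD2_c47 LD3_c25))))))))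
theorem f535416 : Led Lsl_at (LP (LK LD1_c13 LD2_c50 LD3_c34)) = (LP (LK LD1_c13 LD2_c47 LD3_c25)) :=
  Lgr Lrot51 (Lpr_df (f535414 IH) (Lpr_af (f470475 IH) (Lpr_df (f471012 IH) (Lpn (LP (LK LD1_c13 LD2_c47 LD3_c25))))))
theorem f97269 : Led Lsl_et (LP (LK LD1_c13 LD2_c47 LD3_c25)) = (LP (LK LD1_c7 LD2_c17 LD3_c21)) :=
  Lre_e IH (LK LD1_c13 LD2_c47 LD3_c25) (LK LD1_c7 LD2_c17 LD3_c21) Lrfl Lrfl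
theorem f535418 : Led Lsl_af (LP (LK LD1_c7 LD2_c19 LD3_c1)) = (LP (LK LD1_c7 LD2_c17 LD3_c21)) :=
  Lgr Lrot50 (Lpr_et (f489432 IH) (Lpr_at (f535416 IH) (Lpr_et (f97269 IH) (Lpn (LP (LK LD1_c7 LD2_c17 LD3_c21))))))
theorem f97262 : Led Lsl_ct (LP (LK LD1_c3 LD2_c38 LD3_c30)) = (LP (LK LD1_c7 LD2_c17 LD3_c22)) :=
  Lre_c IH (LK LD1_c3 LD2_c38 LD3_c30) (LK LD1_c7 LD2_c17 LD3_c22) Lrfl Lrfl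
theorem f92308 : Led Lsl_ct (LP (LK LD1_c7 LD2_c19 LD3_c2)) = (LP (LK LD1_c3 LD2_c39 LD3_c24)) :=
  Lre_c IH (LK LD1_c7 LD2_c19 LD3_c2) (LK LD1_c3 LD2_c39 LD3_c24) Lrfl Lrfl
theorem f439466 : Led Lsl_at (LP (LK LD1_c7 LD2_c17 LD3_c22)) = (LP (LK LD1_c7 LD2_c19 LD3_c2)) :=
  Lgr Lrot107 (Lpe (f97262 IH) (Lpr_af (K35.f439460 IH) (Lpe (f92308 IH) (Lpn (LP (LK LD1_c7 LD2_c19 LD3_c2))))))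
theorem f439476 : Led Lsl_ft (LP (LK LD1_c13 LD2_c47 LD3_c27)) = (LP (LK LD1_c7 LD2_c17 LD3_c22)) :=
  Lre_f IH (LK LD1_c13 LD2_c47 LD3_c27) (LK LD1_c7 LD2_c17 LD3_c22) Lrfl Lrfl
theorem f439477 : Led Lsl_ft (LP (LK LD1_c7 LD2_c19 LD3_c2)) = (LP (LK LD1_c13 LD2_c50 LD3_c37)) :=
  Lre_f IH (LK LD1_c7 LD2_c19 LD3_c2) (LK LD1_c13 LD2_c50 LD3_c37) Lrfl Lrfl
theorem f439478 : Led Lsl_af (LP (LK LD1_c13 LD2_c47 LD3_c27)) = (LP (LK LD1_c13 LD2_c50 LD3_c37)) :=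
  Lgr Lrot45 (Lpr_ft (f439476 IH) (Lpr_at (f439466 IH) (Lpr_ft (f439477 IH) (Lpn (LP (LK LD1_c13 LD2_c50 LD3_c37))))))
theorem f439480 : Led Lsl_at (LP (LK LD1_c13 LD2_c47 LD3_c27)) = (LP (LK LD1_c13 LD2_c50 LD3_c37)) :=
  Lgr Lrot100 (Lpr_af (f439478 IH) (Lpn (LP (LK LD1_c13 LD2_c50 LD3_c37))))
theorem f439462 : Led Lsl_ct (LP (LK LD1_c7 LD2_c17 LD3_c23)) = (LP (LK LD1_c13 LD2_c47 LD3_c27)) :=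
  Lre_c IH (LK LD1_c7 LD2_c17 LD3_c23) (LK LD1_c13 LD2_c47 LD3_c27) Lrfl Lrfl
theorem f92327 : Led Lsl_ct (LP (LK LD1_c13 LD2_c50 LD3_c37)) = (LP (LK LD1_c7 LD2_c19 LD3_c3)) :=
  Lre_c IH (LK LD1_c13 LD2_c50 LD3_c37) (LK LD1_c7 LD2_c19 LD3_c3) Lrfl Lrfl
theorem f439484 : Led Lsl_af (LP (LK LD1_c7 LD2_c17 LD3_c23)) = (LP (LK LD1_c7 LD2_c19 LD3_c3)) :=
  Lgr Lrot68 (Lpr_ct (f439462 IH) (Lpr_at (f439480 IH) (Lpr_ct (f92327 IH) (Lpn (LP (LK LD1_c7 LD2_c19 LD3_c3))))))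
theorem f92314 : Led Lsl_ft (LP (LK LD1_c3 LD2_c39 LD3_c24)) = (LP (LK LD1_c7 LD2_c19 LD3_c3)) :=
  Lre_f IH (LK LD1_c3 LD2_c39 LD3_c24) (LK LD1_c7 LD2_c19 LD3_c3) Lrfl Lrfl
theorem f439493 : Led Lsl_gf (LP (LK LD1_c7 LD2_c17 LD3_c23)) = (LP (LK LD1_c7 LD2_c19 LD3_c0)) :=
  Lgr Lrot76 (Lpr_af (f439484 IH) (Lpe (f92314 IH) (Lpr_gt (f439492 IH) (Lpn (LP (LK LD1_c7 LD2_c19 LD3_c0))))))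
theorem f535420 : Led Lsl_ft (LP (LK LD1_c7 LD2_c19 LD3_c0)) = (LP (LK LD1_c7 LD2_c17 LD3_c21)) :=
  Lgr Lrot2 (Lpe (f439493 IH) (Lpr_gt (K35.f439524 IH) (Lpr_af (f535418 IH) (Lpn (LP (LK LD1_c7 LD2_c17 LD3_c21))))))
theorem f535425 : Led Lsl_ff (LP (LK LD1_c7 LD2_c19 LD3_c0)) = (LP (LK LD1_c7 LD2_c17 LD3_c21)) :=
  Lgr Lrot3 (Lpr_ft (f535420 IH) (Lpn (LP (LK LD1_c7 LD2_c17 LD3_c21))))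
theorem f439471 : Led Lsl_bt (LP (LK LD1_c13 LD2_c47 LD3_c24)) = (LP (LK LD1_c7 LD2_c17 LD3_c21)) :=
  Lre_b IH (LK LD1_c13 LD2_c47 LD3_c24) (LK LD1_c7 LD2_c17 LD3_c21) Lrfl Lrfl
theorem f535427 : Led Lsl_ft (LP (LK LD1_c13 LD2_c50 LD3_c32)) = (LP (LK LD1_c13 LD2_c47 LD3_c24)) :=
  Lgr Lrot75 (Lpe (f489437 IH) (Lpr_ff (f535425 IH) (Lpe (f439471 IH) (Lpn (LP (LK LD1_c13 LD2_c47 LD3_c24))))))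
theorem f471022 : Led Lsl_dt (LP (LK LD1_c13 LD2_c29 LD3_c47)) = (LP (LK LD1_c13 LD2_c47 LD3_c24)) :=
  Lgr Lrot79 (Lpe (f470465 IH) (Lpr_df (K35.f471009 IH) (Lpe (f439471 IH) (Lpn (LP (LK LD1_c13 LD2_c47 LD3_c24))))))
theorem f464194 : Led Lsl_dt (LP (LK LD1_c13 LD2_c50 LD3_c44)) = (LP (LK LD1_c13 LD2_c14 LD3_c0)) :=
  Lgr Lrot79 (Lpe (f464193 IH) (Lpr_df (K28.f464189 IH) (Lpe (f455373 IH) (Lpn (LP (LK LD1_c13 LD2_c14 LD3_c0))))))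
theorem f471024 : Led Lsl_af (LP (LK LD1_c13 LD2_c50 LD3_c44)) = (LP (LK LD1_c13 LD2_c47 LD3_c24)) :=
  Lgr Lrot117 (Lpr_dt (f464194 IH) (Lpr_at (f470463 IH) (Lpr_dt (f471022 IH) (Lpn (LP (LK LD1_c13 LD2_c47 LD3_c24))))))
theorem f535430 : Led Lsl_af (LP (LK LD1_c13 LD2_c50 LD3_c32)) = (LP (LK LD1_c13 LD2_c47 LD3_c13)) :=
  Lgr Lrot45 (Lpr_ft (f535427 IH) (Lpe (f471024 IH) (Lpr_ft (f470757 IH) (Lpn (LP (LK LD1_c13 LD2_c47 LD3_c13))))))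
theorem f574925 : Led Lsl_gt (LP (LK LD1_c13 LD2_c46 LD3_c26)) = (LP (LK LD1_c13 LD2_c50 LD3_c32)) :=
  Lgr Lrot46 (Lpr_gf (f574916 IH) (Lpr_ft (f470757 IH) (Lpe (f535430 IH) (Lpn (LP (LK LD1_c13 LD2_c50 LD3_c32))))))
theorem f578153 : Led Lsl_bt (LP (LK LD1_c11 LD2_c36 LD3_c19)) = (LP (LK LD1_c13 LD2_c46 LD3_c26)) :=
  Lgr Lrot22 (Lpr_ct (f498942 IH) (Lpe (f578151 IH) (Lpe (f578140 IH) (Lpr_gf (f578147 IH) (Lpe (f108362 IH) (Lpr_ct (K24.f108324 IH) (Lpr_gf (f108373 IH) (Lpr_cf (f465697 IH) (Lpr_bt (f489437 IH) (Lpe (f574925 IH) (Lpn (LP (LK LD1_c13 LD2_c46 LD3_c26)))))))))))))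
theorem f425746 : Led Lsl_ft (LP (LK LD1_c20 LD2_c34 LD3_c29)) = (LP (LK LD1_c11 LD2_c36 LD3_c19)) :=
  Lre_f IH (LK LD1_c20 LD2_c34 LD3_c29) (LK LD1_c11 LD2_c36 LD3_c19) Lrfl Lrfl
theorem f511053 : Led Lsl_dt (LP (LK LD1_c23 LD2_c3 LD3_c46)) = (LP (LK LD1_c13 LD2_c38 LD3_c43)) :=
  Lre_d IH (LK LD1_c23 LD2_c3 LD3_c46) (LK LD1_c13 LD2_c38 LD3_c43) Lrfl Lrfl
theorem f575163 : Led Lsl_ft (LP (LK LD1_c13 LD2_c46 LD3_c26)) = (LP (LK LD1_c23 LD2_c3 LD3_c46)) :=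
  Lgr Lrot54 (Lpe (f5635 IH) (Lpr_ff (f575159 IH) (Lpe (f511053 IH) (Lpn (LP (LK LD1_c23 LD2_c3 LD3_c46))))))
theorem f578159 : Led Lsl_bf (LP (LK LD1_c20 LD2_c34 LD3_c29)) = (LP (LK LD1_c23 LD2_c3 LD3_c46)) :=
  Lgr Lrot61 (Lpr_ft (f425746 IH) (Lpr_bt (f578153 IH) (Lpr_ft (f575163 IH) (Lpn (LP (LK LD1_c23 LD2_c3 LD3_c46))))))
theorem f470730 : Led Lsl_dt (LP (LK LD1_c13 LD2_c38 LD3_c43)) = (LP (LK LD1_c23 LD2_c3 LD3_c46)) :=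
  Lre_d IH (LK LD1_c13 LD2_c38 LD3_c43) (LK LD1_c23 LD2_c3 LD3_c46) Lrfl Lrfl
theorem f578163 : Led Lsl_dt (LP (LK LD1_c20 LD2_c34 LD3_c29)) = (LP (LK LD1_c23 LD2_c3 LD3_c45)) :=
  Lgr Lrot79 (Lpr_bf (f578159 IH) (Lpe (f470730 IH) (Lpe (f511054 IH) (Lpn (LP (LK LD1_c23 LD2_c3 LD3_c45))))))
theorem f578165 : Led Lsl_df (LP (LK LD1_c20 LD2_c34 LD3_c29)) = (LP (LK LD1_c23 LD2_c3 LD3_c45)) :=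
  Lgr Lrot38 (Lpr_dt (f578163 IH) (Lpn (LP (LK LD1_c23 LD2_c3 LD3_c45))))
theorem f575161 : Led Lsl_ft (LP (LK LD1_c13 LD2_c46 LD3_c24)) = (LP (LK LD1_c23 LD2_c3 LD3_c45)) :=
  Lgr Lrot75 (Lpe (K7.f94468 IH) (Lpr_ff (f575159 IH) (Lpe (f511054 IH) (Lpn (LP (LK LD1_c23 LD2_c3 LD3_c45))))))
theorem f578167 : Led Lsl_dt (LP (LK LD1_c11 LD2_c36 LD3_c19)) = (LP (LK LD1_c13 LD2_c46 LD3_c24)) :=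
  Lgr Lrot60 (Lpe (f425746 IH) (Lpr_df (f578165 IH) (Lpe (f575161 IH) (Lpn (LP (LK LD1_c13 LD2_c46 LD3_c24))))))
theorem f466185 : Led Lsl_ct (LP (LK LD1_c7 LD2_c12 LD3_c4)) = (LP (LK LD1_c13 LD2_c38 LD3_c19)) :=
  Lre_c IH (LK LD1_c7 LD2_c12 LD3_c4) (LK LD1_c13 LD2_c38 LD3_c19) Lrfl Lrfl
theorem f466186 : Led Lsl_bt (LP (LK LD1_c7 LD2_c12 LD3_c4)) = (LP (LK LD1_c13 LD2_c38 LD3_c18)) :=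
  Lre_b IH (LK LD1_c7 LD2_c12 LD3_c4) (LK LD1_c13 LD2_c38 LD3_c18) Lrfl Lrfl
theorem f564331 : Led Lsl_gt (LP (LK LD1_c13 LD2_c38 LD3_c18)) = (LP (LK LD1_c13 LD2_c46 LD3_c25)) :=
  Lgr Lrot82 (Lpe (f466186 IH) (Lpr_ct (f466185 IH) (Lpr_gf (K37.f466179 IH) (Lpe (K29.f439557 IH) (Lpr_bt (K28.f208970 IH) (Lpe (K28.f465693 IH) (Lpe (K33.f465702 IH) (Lpe (K41.f465707 IH) (Lpr_gf (K41.f564325 IH) (Lpe (K7.f94467 IH) (Lpn (LP (LK LD1_c13 LD2_c46 LD3_c25)))))))))))))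
theorem f116185 : Led Lsl_bt (LP (LK LD1_c13 LD2_c38 LD3_c18)) = (LP (LK LD1_c7 LD2_c12 LD3_c4)) :=
  Lre_b IH (LK LD1_c13 LD2_c38 LD3_c18) (LK LD1_c7 LD2_c12 LD3_c4) Lrfl Lrfl
theorem f544234 : Led Lsl_bt (LP (LK LD1_c7 LD2_c5 LD3_c40)) = (LP (LK LD1_c13 LD2_c26 LD3_c42)) :=
  Lre_b IH (LK LD1_c7 LD2_c5 LD3_c40) (LK LD1_c13 LD2_c26 LD3_c42) Lrfl Lrfl
theorem f544235 : Led Lsl_cf (LP (LK LD1_c13 LD2_c38 LD3_c18)) = (LP (LK LD1_c13 LD2_c26 LD3_c42)) :=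
  Lgr Lrot97 (Lpr_bt (f116185 IH) (Lpr_ct (f466185 IH) (Lpe (K37.f544223 IH) (Lpr_ct (K37.f544232 IH) (Lpr_bt (f544234 IH) (Lpn (LP (LK LD1_c13 LD2_c26 LD3_c42))))))))
theorem f147304 : Led Lsl_bt (LP (LK LD1_c13 LD2_c26 LD3_c42)) = (LP (LK LD1_c7 LD2_c5 LD3_c40)) :=
  Lre_b IH (LK LD1_c13 LD2_c26 LD3_c42) (LK LD1_c7 LD2_c5 LD3_c40) Lrfl Lrfl
theorem f420532 : Led Lsl_ct (LP (LK LD1_c21 LD2_c13 LD3_c41)) = (LP (LK LD1_c12 LD2_c7 LD3_c31)) :=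
  Lre_c IH (LK LD1_c21 LD2_c13 LD3_c41) (LK LD1_c12 LD2_c7 LD3_c31) Lrfl Lrfl
theorem f420550 : Led Lsl_dt (LP (LK LD1_c29 LD2_c54 LD3_c47)) = (LP (LK LD1_c21 LD2_c13 LD3_c41)) :=
  Lre_d IH (LK LD1_c29 LD2_c54 LD3_c47) (LK LD1_c21 LD2_c13 LD3_c41) Lrfl Lrfl
theorem f419659 : Led Lsl_ct (LP (LK LD1_c7 LD2_c34 LD3_c0)) = (LP (LK LD1_c14 LD2_c16 LD3_c5)) :=
  Lre_c IH (LK LD1_c7 LD2_c34 LD3_c0) (LK LD1_c14 LD2_c16 LD3_c5) Lrfl Lrfl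
theorem f419660 : Led Lsl_dt (LP (LK LD1_c14 LD2_c16 LD3_c5)) = (LP (LK LD1_c23 LD2_c52 LD3_c54)) :=
  Lre_d IH (LK LD1_c14 LD2_c16 LD3_c5) (LK LD1_c23 LD2_c52 LD3_c54) Lrfl Lrfl
theorem f543730 : Led Lsl_cf (LP (LK LD1_c29 LD2_c54 LD3_c47)) = (LP (LK LD1_c23 LD2_c52 LD3_c54)) :=
  Lgr Lrot116 (Lpr_dt (f420550 IH) (Lpr_ct (f420532 IH) (Lpr_dt (K37.f543719 IH) (Lpe (K28.f97518 IH) (Lpe (K34.f419650 IH) (Lpe (K28.f419455 IH) (Lpr_dt (K42.f419440 IH) (Lpr_ct (f419659 IH) (Lpr_dt (f419660 IH) (Lpn (LP (LK LD1_c23 LD2_c52 LD3_c54))))))))))))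
theorem f419618 : Led Lsl_bt (LP (LK LD1_c14 LD2_c15 LD3_c61)) = (LP (LK LD1_c7 LD2_c34 LD3_c0)) :=
  Lre_b IH (LK LD1_c14 LD2_c15 LD3_c61) (LK LD1_c7 LD2_c34 LD3_c0) Lrfl Lrfl
theorem f419668 : Led Lsl_bf (LP (LK LD1_c13 LD2_c2 LD3_c61)) = (LP (LK LD1_c13 LD2_c18 LD3_c13)) :=
  Lgr Lrot81 (Lpe (K28.f121913 IH) (Lpr_bt (K28.f121917 IH) (Lpe (K28.f419614 IH) (Lpr_bt (f419618 IH) (Lpr_at (K42.f419648 IH) (Lpn (LP (LK LD1_c13 LD2_c18 LD3_c13))))))))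
theorem f91995 : Led Lsl_bt (LP (LK LD1_c13 LD2_c12 LD3_c48)) = (LP (LK LD1_c22 LD2_c26 LD3_c43)) :=
  Lre_b IH (LK LD1_c13 LD2_c12 LD3_c48) (LK LD1_c22 LD2_c26 LD3_c43) Lrfl Lrfl
theorem f464296 : Led Lsl_ff (LP (LK LD1_c13 LD2_c18 LD3_c13)) = (LP (LK LD1_c22 LD2_c26 LD3_c43)) :=
  Lgr Lrot25 (Lpe (f419668 IH) (Lpr_ft (K28.f464276 IH) (Lpr_bt (f91995 IH) (Lpn (LP (LK LD1_c22 LD2_c26 LD3_c43))))))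
theorem f464300 : Led Lsl_dt (LP (LK LD1_c13 LD2_c18 LD3_c14)) = (LP (LK LD1_c22 LD2_c26 LD3_c43)) :=
  Lgr Lrot60 (Lpe (K37.f97531 IH) (Lpe (K42.f97514 IH) (Lpr_ff (f464296 IH) (Lpn (LP (LK LD1_c22 LD2_c26 LD3_c43))))))
theorem f202202 : Led Lsl_ft (LP (LK LD1_c12 LD2_c7 LD3_c31)) = (LP (LK LD1_c6 LD2_c14 LD3_c38)) :=
  Lre_f IH (LK LD1_c12 LD2_c7 LD3_c31) (LK LD1_c6 LD2_c14 LD3_c38) Lrfl Lrfl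
theorem f543727 : Led Lsl_at (LP (LK LD1_c6 LD2_c14 LD3_c38)) = (LP (LK LD1_c3 LD2_c4 LD3_c15)) :=
  Lre_a IH (LK LD1_c6 LD2_c14 LD3_c38) (LK LD1_c3 LD2_c4 LD3_c15) Lrfl Lrfl
theorem f75669 : Led Lsl_ct (LP (LK LD1_c6 LD2_c14 LD3_c41)) = (LP (LK LD1_c3 LD2_c4 LD3_c15)) :=
  Lre_c IH (LK LD1_c6 LD2_c14 LD3_c41) (LK LD1_c3 LD2_c4 LD3_c15) Lrfl Lrfl
theorem f75660 : Led Lsl_dt (LP (LK LD1_c12 LD2_c7 LD3_c36)) = (LP (LK LD1_c6 LD2_c14 LD3_c41)) :=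
  Lre_d IH (LK LD1_c12 LD2_c7 LD3_c36) (LK LD1_c6 LD2_c14 LD3_c41) Lrfl Lrfl
theorem f75709 : Led Lsl_ct (LP (LK LD1_c21 LD2_c13 LD3_c49)) = (LP (LK LD1_c12 LD2_c7 LD3_c36)) :=
  Lre_c IH (LK LD1_c21 LD2_c13 LD3_c49) (LK LD1_c12 LD2_c7 LD3_c36) Lrfl Lrfl
theorem f75714 : Led Lsl_dt (LP (LK LD1_c29 LD2_c54 LD3_c56)) = (LP (LK LD1_c21 LD2_c13 LD3_c49)) :=
  Lre_d IH (LK LD1_c29 LD2_c54 LD3_c56) (LK LD1_c21 LD2_c13 LD3_c49) Lrfl Lrfl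
theorem f543728 : Led Lsl_cf (LP (LK LD1_c29 LD2_c54 LD3_c56)) = (LP (LK LD1_c22 LD2_c26 LD3_c43)) :=
  Lgr Lrot116 (Lpr_dt (f75714 IH) (Lpr_ct (f75709 IH) (Lpr_dt (f75660 IH) (Lpr_ct (f75669 IH) (Lpe (f543727 IH) (Lpe (f202202 IH) (Lpr_dt (K37.f543719 IH) (Lpe (K28.f97518 IH) (Lpr_dt (f464300 IH) (Lpn (LP (LK LD1_c22 LD2_c26 LD3_c43))))))))))))
theorem f419725 : Led Lsl_ft (LP (LK LD1_c14 LD2_c16 LD3_c5)) = (LP (LK LD1_c23 LD2_c52 LD3_c55)) :=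
  Lre_f IH (LK LD1_c14 LD2_c16 LD3_c5) (LK LD1_c23 LD2_c52 LD3_c55) Lrfl Lrfl
theorem f543739 : Led Lsl_af (LP (LK LD1_c29 LD2_c54 LD3_c56)) = (LP (LK LD1_c23 LD2_c52 LD3_c55)) :=
  Lgr Lrot109 (Lpr_cf (f543728 IH) (Lpe (f464300 IH) (Lpr_cf (K28.f97518 IH) (Lpe (K37.f543719 IH) (Lpe (f420532 IH) (Lpe (f420550 IH) (Lpr_cf (f543730 IH) (Lpe (f419660 IH) (Lpr_ft (f419725 IH) (Lpn (LP (LK LD1_c23 LD2_c52 LD3_c55))))))))))))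
theorem f419679 : Led Lsl_ct (LP (LK LD1_c14 LD2_c16 LD3_c6)) = (LP (LK LD1_c23 LD2_c52 LD3_c55)) :=
  Lre_c IH (LK LD1_c14 LD2_c16 LD3_c6) (LK LD1_c23 LD2_c52 LD3_c55) Lrfl Lrfl
theorem f464302 : Led Lsl_ft (LP (LK LD1_c13 LD2_c18 LD3_c13)) = (LP (LK LD1_c22 LD2_c26 LD3_c43)) :=
  Lgr Lrot48 (Lpr_ff (f464296 IH) (Lpn (LP (LK LD1_c22 LD2_c26 LD3_c43))))
theorem f419676 : Led Lsl_ft (LP (LK LD1_c14 LD2_c16 LD3_c6)) = (LP (LK LD1_c7 LD2_c34 LD3_c0)) :=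
  Lre_f IH (LK LD1_c14 LD2_c16 LD3_c6) (LK LD1_c7 LD2_c34 LD3_c0) Lrfl Lrfl
theorem f464304 : Led Lsl_af (LP (LK LD1_c14 LD2_c16 LD3_c6)) = (LP (LK LD1_c22 LD2_c26 LD3_c43)) :=
  Lgr Lrot45 (Lpr_ft (f419676 IH) (Lpr_at (K42.f419648 IH) (Lpr_ft (f464302 IH) (Lpn (LP (LK LD1_c22 LD2_c26 LD3_c43))))))
theorem f543746 : Led Lsl_ct (LP (LK LD1_c29 LD2_c54 LD3_c56)) = (LP (LK LD1_c22 LD2_c26 LD3_c43)) :=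
  Lgr Lrot111 (Lpr_af (f543739 IH) (Lpe (f419679 IH) (Lpr_af (f464304 IH) (Lpn (LP (LK LD1_c22 LD2_c26 LD3_c43))))))
theorem f543755 : Led Lsl_dt (LP (LK LD1_c21 LD2_c13 LD3_c49)) = (LP (LK LD1_c29 LD2_c54 LD3_c56)) :=
  Lre_d IH (LK LD1_c21 LD2_c13 LD3_c49) (LK LD1_c29 LD2_c54 LD3_c56) Lrfl Lrfl
theorem f75715 : Led Lsl_ct (LP (LK LD1_c12 LD2_c7 LD3_c36)) = (LP (LK LD1_c21 LD2_c13 LD3_c49)) :=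
  Lre_c IH (LK LD1_c12 LD2_c7 LD3_c36) (LK LD1_c21 LD2_c13 LD3_c49) Lrfl Lrfl
theorem f75713 : Led Lsl_dt (LP (LK LD1_c6 LD2_c14 LD3_c41)) = (LP (LK LD1_c12 LD2_c7 LD3_c36)) :=
  Lre_d IH (LK LD1_c6 LD2_c14 LD3_c41) (LK LD1_c12 LD2_c7 LD3_c36) Lrfl Lrfl
theorem f75667 : Led Lsl_dt (LP (LK LD1_c6 LD2_c14 LD3_c44)) = (LP (LK LD1_c3 LD2_c4 LD3_c15)) :=
  Lre_d IH (LK LD1_c6 LD2_c14 LD3_c44) (LK LD1_c3 LD2_c4 LD3_c15) Lrfl Lrfl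
theorem f543394 : Led Lsl_ft (LP (LK LD1_c6 LD2_c14 LD3_c44)) = (LP (LK LD1_c12 LD2_c7 LD3_c48)) :=
  Lre_f IH (LK LD1_c6 LD2_c14 LD3_c44) (LK LD1_c12 LD2_c7 LD3_c48) Lrfl Lrfl
theorem f464306 : Led Lsl_df (LP (LK LD1_c13 LD2_c18 LD3_c14)) = (LP (LK LD1_c22 LD2_c26 LD3_c43)) :=
  Lgr Lrot78 (Lpr_ft (K28.f97516 IH) (Lpr_dt (K42.f97535 IH) (Lpr_ft (f464302 IH) (Lpn (LP (LK LD1_c22 LD2_c26 LD3_c43))))))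
theorem f97529 : Led Lsl_ct (LP (LK LD1_c13 LD2_c18 LD3_c14)) = (LP (LK LD1_c7 LD2_c17 LD3_c13)) :=
  Lgr Lrot59 (Lpr_cf (K28.f97518 IH) (Lpn (LP (LK LD1_c7 LD2_c17 LD3_c13))))
theorem f543764 : Led Lsl_at (LP (LK LD1_c12 LD2_c7 LD3_c48)) = (LP (LK LD1_c7 LD2_c17 LD3_c13)) :=
  Lgr Lrot33 (Lpe (f543394 IH) (Lpr_dt (f75667 IH) (Lpr_ct (K37.f75656 IH) (Lpr_dt (f75713 IH) (Lpr_ct (f75715 IH) (Lpr_dt (f543755 IH) (Lpr_ct (f543746 IH) (Lpe (f464306 IH) (Lpr_ct (f97529 IH) (Lpn (LP (LK LD1_c7 LD2_c17 LD3_c13))))))))))))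
theorem f137506 : Led Lsl_gt (LP (LK LD1_c6 LD2_c14 LD3_c44)) = (LP (LK LD1_c12 LD2_c7 LD3_c46)) :=
  Lre_g IH (LK LD1_c6 LD2_c14 LD3_c44) (LK LD1_c12 LD2_c7 LD3_c46) Lrfl Lrfl
theorem f543766 : Led Lsl_gt (LP (LK LD1_c12 LD2_c7 LD3_c46)) = (LP (LK LD1_c7 LD2_c17 LD3_c13)) :=
  Lgr Lrot46 (Lpe (f137506 IH) (Lpr_ft (f543394 IH) (Lpr_at (f543764 IH) (Lpn (LP (LK LD1_c7 LD2_c17 LD3_c13))))))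
theorem f543774 : Led Lsl_bt (LP (LK LD1_c21 LD2_c14 LD3_c6)) = (LP (LK LD1_c12 LD2_c7 LD3_c46)) :=
  Lre_b IH (LK LD1_c21 LD2_c14 LD3_c6) (LK LD1_c12 LD2_c7 LD3_c46) Lrfl Lrfl
theorem f543775 : Led Lsl_ct (LP (LK LD1_c21 LD2_c14 LD3_c6)) = (LP (LK LD1_c13 LD2_c17 LD3_c24)) :=
  Lgr Lrot10 (Lpr_bt (f543774 IH) (Lpr_gt (f543766 IH) (Lpe (K28.f97518 IH) (Lpr_gt (K28.f463600 IH) (Lpr_cf (K28.f461801 IH) (Lpr_bt (K28.f17900 IH) (Lpr_gt (K24.f17899 IH) (Lpe (K37.f17806 IH) (Lpr_ct (K4.f17859 IH) (Lpr_gt (K24.f17823 IH) (Lpn (LP (LK LD1_c13 LD2_c17 LD3_c24)))))))))))))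
theorem f94471 : Led Lsl_ct (LP (LK LD1_c7 LD2_c16 LD3_c46)) = (LP (LK LD1_c13 LD2_c46 LD3_c25)) :=
  Lre_c IH (LK LD1_c7 LD2_c16 LD3_c46) (LK LD1_c13 LD2_c46 LD3_c25) Lrfl Lrfl
theorem f564333 : Led Lsl_gf (LP (LK LD1_c21 LD2_c14 LD3_c6)) = (LP (LK LD1_c13 LD2_c46 LD3_c24)) :=
  Lgr Lrot181 (Lpr_ct (f543775 IH) (Lpr_gt (K24.f111811 IH) (Lpe (K37.f513205 IH) (Lpr_bt (K37.f540284 IH) (Lpr_gt (K37.f544240 IH) (Lpe (f147304 IH) (Lpe (f544235 IH) (Lpr_gt (f564331 IH) (Lpe (f94471 IH) (Lpr_bt (K7.f94468 IH) (Lpn (LP (LK LD1_c13 LD2_c46 LD3_c24)))))))))))))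
theorem f578169 : Led Lsl_gt (LP (LK LD1_c11 LD2_c36 LD3_c19)) = (LP (LK LD1_c12 LD2_c7 LD3_c38)) :=
  Lgr Lrot146 (Lpr_dt (f578167 IH) (Lpe (f564333 IH) (Lpr_ct (f543775 IH) (Lpr_gt (K24.f111811 IH) (Lpe (K34.f513197 IH) (Lpe (K37.f544301 IH) (Lpe (K37.f99291 IH) (Lpr_gf (K37.f544286 IH) (Lpe (K37.f443101 IH) (Lpn (LP (LK LD1_c12 LD2_c7 LD3_c38))))))))))))
theorem f425749 : Led Lsl_ft (LP (LK LD1_c11 LD2_c36 LD3_c19)) = (LP (LK LD1_c20 LD2_c34 LD3_c29)) :=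
  Lre_f IH (LK LD1_c11 LD2_c36 LD3_c19) (LK LD1_c20 LD2_c34 LD3_c29) Lrfl Lrfl
theorem f543515 : Led Lsl_gt (LP (LK LD1_c12 LD2_c7 LD3_c38)) = (LP (LK LD1_c21 LD2_c13 LD3_c51)) :=
  Lre_g IH (LK LD1_c12 LD2_c7 LD3_c38) (LK LD1_c21 LD2_c13 LD3_c51) Lrfl Lrfl
theorem f578188 : Led Lsl_at (LP (LK LD1_c20 LD2_c34 LD3_c29)) = (LP (LK LD1_c21 LD2_c13 LD3_c51)) :=
  Lgr Lrot26 (Lpe (f425749 IH) (Lpr_gt (f578169 IH) (Lpr_gt (f543515 IH) (Lpn (LP (LK LD1_c21 LD2_c13 LD3_c51))))))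
theorem f420342 : Led Lsl_et (LP (LK LD1_c8 LD2_c49 LD3_c34)) = (LP (LK LD1_c16 LD2_c30 LD3_c16)) :=
  Lre_e IH (LK LD1_c8 LD2_c49 LD3_c34) (LK LD1_c16 LD2_c30 LD3_c16) Lrfl Lrfl
theorem f498938 : Led Lsl_af (LP (LK LD1_c11 LD2_c36 LD3_c19)) = (LP (LK LD1_c16 LD2_c30 LD3_c16)) :=
  Lgr Lrot50 (Lpr_et (f420048 IH) (Lpr_at (K36.f498930 IH) (Lpr_et (f420342 IH) (Lpn (LP (LK LD1_c16 LD2_c30 LD3_c16))))))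
theorem f578204 : Led Lsl_ff (LP (LK LD1_c16 LD2_c30 LD3_c16)) = (LP (LK LD1_c21 LD2_c13 LD3_c51)) :=
  Lgr Lrot30 (Lpe (f498938 IH) (Lpr_ft (f425749 IH) (Lpr_at (f578188 IH) (Lpn (LP (LK LD1_c21 LD2_c13 LD3_c51))))))
theorem f578208 : Led Lsl_ft (LP (LK LD1_c16 LD2_c30 LD3_c16)) = (LP (LK LD1_c21 LD2_c13 LD3_c51)) :=
  Lgr Lrot48 (Lpr_ff (f578204 IH) (Lpn (LP (LK LD1_c21 LD2_c13 LD3_c51))))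
theorem f543138 : Led Lsl_et (LP (LK LD1_c12 LD2_c8 LD3_c19)) = (LP (LK LD1_c21 LD2_c14 LD3_c38)) :=
  Lre_e IH (LK LD1_c12 LD2_c8 LD3_c19) (LK LD1_c21 LD2_c14 LD3_c38) Lrfl Lrfl
theorem f420339 : Led Lsl_et (LP (LK LD1_c16 LD2_c30 LD3_c16)) = (LP (LK LD1_c8 LD2_c49 LD3_c34)) :=
  Lre_e IH (LK LD1_c16 LD2_c30 LD3_c16) (LK LD1_c8 LD2_c49 LD3_c34) Lrfl Lrfl
theorem f565162 : Led Lsl_dt (LP (LK LD1_c21 LD2_c14 LD3_c38)) = (LP (LK LD1_c16 LD2_c30 LD3_c16)) :=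
  Lgr Lrot77 (Lpe (f543138 IH) (Lpe (K42.f418508 IH) (Lpr_ef (K41.f565154 IH) (Lpe (K36.f420335 IH) (Lpe (f420339 IH) (Lpn (LP (LK LD1_c16 LD2_c30 LD3_c16))))))))
theorem f488225 : Led Lsl_ct (LP (LK LD1_c13 LD2_c3 LD3_c25)) = (LP (LK LD1_c22 LD2_c13 LD3_c13)) :=
  Lre_c IH (LK LD1_c13 LD2_c3 LD3_c25) (LK LD1_c22 LD2_c13 LD3_c13) Lrfl Lrfl
theorem f575126 : Led Lsl_ft (LP (LK LD1_c22 LD2_c13 LD3_c13)) = (LP (LK LD1_c21 LD2_c14 LD3_c38)) :=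
  Lgr Lrot4 (Lpe (f488225 IH) (Lpr_ff (K41.f564343 IH) (Lpr_cf (f575120 IH) (Lpn (LP (LK LD1_c21 LD2_c14 LD3_c38))))))
theorem f578210 : Led Lsl_df (LP (LK LD1_c22 LD2_c13 LD3_c13)) = (LP (LK LD1_c21 LD2_c13 LD3_c51)) :=
  Lgr Lrot78 (Lpr_ft (f575126 IH) (Lpr_dt (f565162 IH) (Lpr_ft (f578208 IH) (Lpn (LP (LK LD1_c21 LD2_c13 LD3_c51))))))
theorem f101877 : Led Lsl_ct (LP (LK LD1_c8 LD2_c45 LD3_c50)) = (LP (LK LD1_c16 LD2_c24 LD3_c2)) :=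
  Lre_c IH (LK LD1_c8 LD2_c45 LD3_c50) (LK LD1_c16 LD2_c24 LD3_c2) Lrfl Lrfl
theorem f101878 : Led Lsl_gt (LP (LK LD1_c16 LD2_c24 LD3_c2)) = (LP (LK LD1_c26 LD2_c21 LD3_c57)) :=
  Lre_g IH (LK LD1_c16 LD2_c24 LD3_c2) (LK LD1_c26 LD2_c21 LD3_c57) Lrfl Lrfl
theorem f578223 : Led Lsl_ct (LP (LK LD1_c26 LD2_c21 LD3_c57)) = (LP (LK LD1_c21 LD2_c13 LD3_c51)) :=
  Lgr Lrot110 (Lpe (f101878 IH) (Lpe (f101877 IH) (Lpe (f99315 IH) (Lpr_df (f544311 IH) (Lpr_gt (K34.f488200 IH) (Lpe (f488208 IH) (Lpr_gt (K41.f91085 IH) (Lpr_ct (f488225 IH) (Lpr_df (f578210 IH) (Lpn (LP (LK LD1_c21 LD2_c13 LD3_c51))))))))))))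
theorem f578226 : Led Lsl_cf (LP (LK LD1_c26 LD2_c21 LD3_c57)) = (LP (LK LD1_c21 LD2_c13 LD3_c51)) :=
  Lgr Lrot11 (Lpr_ct (f578223 IH) (Lpn (LP (LK LD1_c21 LD2_c13 LD3_c51))))
theorem f99307 : Led Lsl_bt (LP (LK LD1_c2 LD2_c9 LD3_c27)) = (LP (LK LD1_c4 LD2_c24 LD3_c0)) :=
  Lre_b IH (LK LD1_c2 LD2_c9 LD3_c27) (LK LD1_c4 LD2_c24 LD3_c0) Lrfl Lrfl
theorem f80503 : Led Lsl_bt (LP (LK LD1_c3 LD2_c4 LD3_c21)) = (LP (LK LD1_c6 LD2_c14 LD3_c52)) :=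
  Lre_b IH (LK LD1_c3 LD2_c4 LD3_c21) (LK LD1_c6 LD2_c14 LD3_c52) Lrfl Lrfl
theorem f80504 : Led Lsl_gt (LP (LK LD1_c12 LD2_c7 LD3_c61)) = (LP (LK LD1_c6 LD2_c14 LD3_c52)) :=
  Lre_g IH (LK LD1_c12 LD2_c7 LD3_c61) (LK LD1_c6 LD2_c14 LD3_c52) Lrfl Lrfl
theorem f578234 : Led Lsl_bf (LP (LK LD1_c12 LD2_c7 LD3_c61)) = (LP (LK LD1_c21 LD2_c13 LD3_c51)) :=
  Lgr Lrot156 (Lpr_gt (f80504 IH) (Lpe (f80503 IH) (Lpr_ct (K39.f80480 IH) (Lpr_gt (K37.f80460 IH) (Lpe (f99270 IH) (Lpr_bt (f99307 IH) (Lpr_gt (f99315 IH) (Lpr_ct (f101877 IH) (Lpr_gt (f101878 IH) (Lpr_cf (f578226 IH) (Lpn (LP (LK LD1_c21 LD2_c13 LD3_c51)))))))))))))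
theorem f420355 : Led Lsl_bt (LP (LK LD1_c8 LD2_c49 LD3_c36)) = (LP (LK LD1_c16 LD2_c30 LD3_c16)) :=
  Lre_b IH (LK LD1_c8 LD2_c49 LD3_c36) (LK LD1_c16 LD2_c30 LD3_c16) Lrfl Lrfl
theorem f578244 : Led Lsl_ft (LP (LK LD1_c12 LD2_c7 LD3_c61)) = (LP (LK LD1_c8 LD2_c49 LD3_c36)) :=
  Lgr Lrot75 (Lpr_bf (f578234 IH) (Lpe (f578208 IH) (Lpe (f420355 IH) (Lpn (LP (LK LD1_c8 LD2_c49 LD3_c36))))))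
theorem f578252 : Led Lsl_ff (LP (LK LD1_c12 LD2_c7 LD3_c61)) = (LP (LK LD1_c8 LD2_c49 LD3_c36)) :=
  Lgr Lrot3 (Lpr_ft (f578244 IH) (Lpn (LP (LK LD1_c8 LD2_c49 LD3_c36))))
theorem f578238 : Led Lsl_dt (LP (LK LD1_c12 LD2_c7 LD3_c61)) = (LP (LK LD1_c21 LD2_c14 LD3_c16)) :=
  Lre_d IH (LK LD1_c12 LD2_c7 LD3_c61) (LK LD1_c21 LD2_c14 LD3_c16) Lrfl Lrfl
theorem f578258 : Led Lsl_ft (LP (LK LD1_c21 LD2_c14 LD3_c16)) = (LP (LK LD1_c16 LD2_c30 LD3_c17)) :=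
  Lgr Lrot54 (Lpe (f578238 IH) (Lpr_ff (f578252 IH) (Lpe (f161547 IH) (Lpn (LP (LK LD1_c16 LD2_c30 LD3_c17))))))
theorem f513506 : Led Lsl_et (LP (LK LD1_c13 LD2_c20 LD3_c16)) = (LP (LK LD1_c13 LD2_c3 LD3_c25)) :=
  Lgr Lrot87 (Lpr_ef (K41.f513504 IH) (Lpn (LP (LK LD1_c13 LD2_c3 LD3_c25))))
theorem f137193 : Led Lsl_et (LP (LK LD1_c13 LD2_c19 LD3_c33)) = (LP (LK LD1_c7 LD2_c1 LD3_c33)) :=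
  Lre_e IH (LK LD1_c13 LD2_c19 LD3_c33) (LK LD1_c7 LD2_c1 LD3_c33) Lrfl Lrfl
theorem f564341 : Led Lsl_ff (LP (LK LD1_c13 LD2_c20 LD3_c16)) = (LP (LK LD1_c13 LD2_c3 LD3_c15)) :=
  Lgr Lrot72 (Lpr_et (f513506 IH) (Lpr_ft (K41.f564337 IH) (Lpr_et (f137193 IH) (Lpr_ft (K37.f426866 IH) (Lpr_et (f136951 IH) (Lpn (LP (LK LD1_c13 LD2_c3 LD3_c15))))))))
theorem f578264 : Led Lsl_cf (LP (LK LD1_c21 LD2_c14 LD3_c16)) = (LP (LK LD1_c13 LD2_c20 LD3_c16)) :=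
  Lgr Lrot108 (Lpr_ft (f578258 IH) (Lpe (f575132 IH) (Lpe (f564341 IH) (Lpn (LP (LK LD1_c13 LD2_c20 LD3_c16))))))
theorem f426878 : Led Lsl_ft (LP (LK LD1_c13 LD2_c20 LD3_c4)) = (LP (LK LD1_c22 LD2_c36 LD3_c29)) :=
  Lre_f IH (LK LD1_c13 LD2_c20 LD3_c4) (LK LD1_c22 LD2_c36 LD3_c29) Lrfl Lrfl
theorem f564349 : Led Lsl_af (LP (LK LD1_c13 LD2_c20 LD3_c16)) = (LP (LK LD1_c22 LD2_c36 LD3_c29)) :=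
  Lgr Lrot45 (Lpr_ft (K41.f564347 IH) (Lpe (K41.f426876 IH) (Lpr_ft (f426878 IH) (Lpn (LP (LK LD1_c22 LD2_c36 LD3_c29))))))
theorem f578362 : Led Lsl_at (LP (LK LD1_c21 LD2_c14 LD3_c16)) = (LP (LK LD1_c16 LD2_c30 LD3_c31)) :=
  Lgr Lrot107 (Lpr_cf (f578264 IH) (Lpr_af (f564349 IH) (Lpr_cf (f575140 IH) (Lpn (LP (LK LD1_c16 LD2_c30 LD3_c31))))))
theorem f575128 : Led Lsl_ff (LP (LK LD1_c22 LD2_c13 LD3_c13)) = (LP (LK LD1_c21 LD2_c14 LD3_c38)) :=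
  Lgr Lrot3 (Lpr_ft (f575126 IH) (Lpn (LP (LK LD1_c21 LD2_c14 LD3_c38))))
theorem f578262 : Led Lsl_bf (LP (LK LD1_c21 LD2_c14 LD3_c16)) = (LP (LK LD1_c22 LD2_c13 LD3_c13)) :=
  Lgr Lrot61 (Lpr_ft (f578258 IH) (Lpr_bt (f575116 IH) (Lpe (f575128 IH) (Lpn (LP (LK LD1_c22 LD2_c13 LD3_c13))))))
theorem f575173 : Led Lsl_at (LP (LK LD1_c13 LD2_c27 LD3_c7)) = (LP (LK LD1_c13 LD2_c38 LD3_c43)) :=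
  Lgr Lrot100 (Lpr_af (f575171 IH) (Lpn (LP (LK LD1_c13 LD2_c38 LD3_c43))))
theorem f578364 : Led Lsl_af (LP (LK LD1_c22 LD2_c13 LD3_c13)) = (LP (LK LD1_c23 LD2_c3 LD3_c45)) :=
  Lgr Lrot36 (Lpe (f578262 IH) (Lpr_at (f578362 IH) (Lpe (f575177 IH) (Lpr_at (f575173 IH) (Lpr_bt (f513518 IH) (Lpn (LP (LK LD1_c23 LD2_c3 LD3_c45))))))))
theorem f578366 : Led Lsl_gf (LP (LK LD1_c22 LD2_c13 LD3_c13)) = (LP (LK LD1_c21 LD2_c14 LD3_c6)) :=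
  Lgr Lrot76 (Lpr_af (f578364 IH) (Lpe (f575161 IH) (Lpe (f564333 IH) (Lpn (LP (LK LD1_c21 LD2_c14 LD3_c6))))))
theorem f137160 : Led Lsl_ft (LP (LK LD1_c13 LD2_c19 LD3_c36)) = (LP (LK LD1_c7 LD2_c1 LD3_c34)) :=
  Lre_f IH (LK LD1_c13 LD2_c19 LD3_c36) (LK LD1_c7 LD2_c1 LD3_c34) Lrfl Lrfl
theorem f564345 : Led Lsl_bt (LP (LK LD1_c13 LD2_c3 LD3_c25)) = (LP (LK LD1_c13 LD2_c19 LD3_c36)) :=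
  Lgr Lrot35 (Lpr_ff (K41.f564343 IH) (Lpe (K36.f137165 IH) (Lpe (f137160 IH) (Lpn (LP (LK LD1_c13 LD2_c19 LD3_c36))))))
theorem f543771 : Led Lsl_ct (LP (LK LD1_c21 LD2_c14 LD3_c7)) = (LP (LK LD1_c12 LD2_c7 LD3_c46)) :=
  Lre_c IH (LK LD1_c21 LD2_c14 LD3_c7) (LK LD1_c12 LD2_c7 LD3_c46) Lrfl Lrfl
theorem f464260 : Led Lsl_bt (LP (LK LD1_c13 LD2_c18 LD3_c14)) = (LP (LK LD1_c13 LD2_c2 LD3_c58)) :=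
  Lgr Lrot128 (Lpr_cf (K28.f97518 IH) (Lpe (K37.f18044 IH) (Lpe (K28.f18040 IH) (Lpe (K4.f17682 IH) (Lpr_cf (K28.f464258 IH) (Lpn (LP (LK LD1_c13 LD2_c2 LD3_c58))))))))
theorem f543777 : Led Lsl_bt (LP (LK LD1_c21 LD2_c14 LD3_c7)) = (LP (LK LD1_c13 LD2_c2 LD3_c49)) :=
  Lgr Lrot92 (Lpr_ct (f543771 IH) (Lpr_gt (f543766 IH) (Lpe (f97529 IH) (Lpr_bt (f464260 IH) (Lpe (K29.f464278 IH) (Lpr_ct (K29.f19140 IH) (Lpr_gt (K24.f15809 IH) (Lpe (K24.f15793 IH) (Lpr_bt (K24.f15796 IH) (Lpr_gt (K24.f15871 IH) (Lpn (LP (LK LD1_c13 LD2_c2 LD3_c49)))))))))))))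
theorem f543768 : Led Lsl_ct (LP (LK LD1_c12 LD2_c7 LD3_c46)) = (LP (LK LD1_c21 LD2_c14 LD3_c7)) :=
  Lre_c IH (LK LD1_c12 LD2_c7 LD3_c46) (LK LD1_c21 LD2_c14 LD3_c7) Lrfl Lrfl
theorem f15876 : Led Lsl_ct (LP (LK LD1_c13 LD2_c2 LD3_c49)) = (LP (LK LD1_c22 LD2_c12 LD3_c28)) :=
  Lre_c IH (LK LD1_c13 LD2_c2 LD3_c49) (LK LD1_c22 LD2_c12 LD3_c28) Lrfl Lrfl
theorem f543783 : Led Lsl_cf (LP (LK LD1_c21 LD2_c14 LD3_c6)) = (LP (LK LD1_c13 LD2_c17 LD3_c24)) :=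
  Lgr Lrot97 (Lpr_bt (f543774 IH) (Lpr_ct (f543768 IH) (Lpr_bt (f543777 IH) (Lpr_ct (f15876 IH) (Lpe (K24.f460721 IH) (Lpn (LP (LK LD1_c13 LD2_c17 LD3_c24))))))))
theorem f460737 : Led Lsl_bt (LP (LK LD1_c3 LD2_c30 LD3_c33)) = (LP (LK LD1_c7 LD2_c3 LD3_c3)) :=
  Lre_b IH (LK LD1_c3 LD2_c30 LD3_c33) (LK LD1_c7 LD2_c3 LD3_c3) Lrfl Lrfl
theorem f578370 : Led Lsl_gt (LP (LK LD1_c13 LD2_c19 LD3_c36)) = (LP (LK LD1_c7 LD2_c3 LD3_c3)) :=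
  Lgr Lrot164 (Lpe (f564345 IH) (Lpr_ct (f488225 IH) (Lpr_gf (f578366 IH) (Lpr_cf (f543783 IH) (Lpe (K24.f17823 IH) (Lpe (K24.f17807 IH) (Lpe (K24.f17810 IH) (Lpe (K24.f17821 IH) (Lpr_cf (K24.f460728 IH) (Lpr_bt (f460737 IH) (Lpn (LP (LK LD1_c7 LD2_c3 LD3_c3)))))))))))))
theorem f426712 : Led Lsl_at (LP (LK LD1_c7 LD2_c1 LD3_c34)) = (LP (LK LD1_c11 LD2_c41 LD3_c47)) :=
  Lgr Lrot100 (Lpr_af (K36.f426710 IH) (Lpn (LP (LK LD1_c11 LD2_c41 LD3_c47))))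
theorem f578372 : Led Lsl_gf (LP (LK LD1_c11 LD2_c41 LD3_c47)) = (LP (LK LD1_c7 LD2_c3 LD3_c3)) :=
  Lgr Lrot76 (Lpe (f426712 IH) (Lpe (f137160 IH) (Lpr_gt (f578370 IH) (Lpn (LP (LK LD1_c7 LD2_c3 LD3_c3))))))
theorem f476565 : Led Lsl_ct (LP (LK LD1_c13 LD2_c15 LD3_c0)) = (LP (LK LD1_c7 LD2_c5 LD3_c43)) :=
  Lgr Lrot59 (Lpr_cf (K37.f476504 IH) (Lpn (LP (LK LD1_c7 LD2_c5 LD3_c43))))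
theorem f578378 : Led Lsl_gt (LP (LK LD1_c13 LD2_c18 LD3_c3)) = (LP (LK LD1_c7 LD2_c5 LD3_c43)) :=
  Lgr Lrot65 (Lpr_cf (K28.f426650 IH) (Lpr_bt (K36.f426552 IH) (Lpr_gf (f578372 IH) (Lpe (f460737 IH) (Lpe (K24.f460728 IH) (Lpr_gf (K24.f130705 IH) (Lpe (K24.f130724 IH) (Lpr_gf (K24.f460120 IH) (Lpe (K37.f63097 IH) (Lpr_ct (f476565 IH) (Lpn (LP (LK LD1_c7 LD2_c5 LD3_c43)))))))))))))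
theorem f575371 : Led Lsl_ft (LP (LK LD1_c13 LD2_c18 LD3_c3)) = (LP (LK LD1_c13 LD2_c38 LD3_c60)) :=
  Lgr Lrot4 (Lpr_cf (K28.f426650 IH) (Lpr_ff (f575369 IH) (Lpe (K37.f514201 IH) (Lpn (LP (LK LD1_c13 LD2_c38 LD3_c60))))))
theorem f476568 : Led Lsl_gt (LP (LK LD1_c7 LD2_c5 LD3_c43)) = (LP (LK LD1_c13 LD2_c26 LD3_c47)) :=
  Lre_g IH (LK LD1_c7 LD2_c5 LD3_c43) (LK LD1_c13 LD2_c26 LD3_c47) Lrfl Lrfl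
theorem f578386 : Led Lsl_at (LP (LK LD1_c13 LD2_c38 LD3_c60)) = (LP (LK LD1_c13 LD2_c26 LD3_c47)) :=
  Lgr Lrot26 (Lpe (f575371 IH) (Lpr_gt (f578378 IH) (Lpr_gt (f476568 IH) (Lpn (LP (LK LD1_c13 LD2_c26 LD3_c47))))))
theorem f426648 : Led Lsl_af (LP (LK LD1_c13 LD2_c18 LD3_c3)) = (LP (LK LD1_c7 LD2_c33 LD3_c43)) :=
  Lgr Lrot68 (Lpr_ct (K28.f426629 IH) (Lpr_at (K28.f426540 IH) (Lpr_ct (K7.f94466 IH) (Lpn (LP (LK LD1_c7 LD2_c33 LD3_c43))))))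
theorem f578397 : Led Lsl_ff (LP (LK LD1_c7 LD2_c33 LD3_c43)) = (LP (LK LD1_c13 LD2_c26 LD3_c47)) :=
  Lgr Lrot30 (Lpe (f426648 IH) (Lpr_ft (f575371 IH) (Lpr_at (f578386 IH) (Lpn (LP (LK LD1_c13 LD2_c26 LD3_c47))))))
theorem f578401 : Led Lsl_ft (LP (LK LD1_c7 LD2_c33 LD3_c43)) = (LP (LK LD1_c13 LD2_c26 LD3_c47)) :=
  Lgr Lrot48 (Lpr_ff (f578397 IH) (Lpn (LP (LK LD1_c13 LD2_c26 LD3_c47))))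
theorem f569368 : Led Lsl_df (LP (LK LD1_c7 LD2_c33 LD3_c43)) = (LP (LK LD1_c11 LD2_c33 LD3_c0)) :=
  Lgr Lrot70 (Lpr_et (K28.f94473 IH) (Lpe (K41.f564301 IH) (Lpr_et (K42.f569362 IH) (Lpr_dt (K11.f202566 IH) (Lpr_et (K32.f163427 IH) (Lpn (LP (LK LD1_c11 LD2_c33 LD3_c0))))))))
theorem f163428 : Led Lsl_ft (LP (LK LD1_c20 LD2_c30 LD3_c6)) = (LP (LK LD1_c11 LD2_c33 LD3_c0)) :=
  Lre_f IH (LK LD1_c20 LD2_c30 LD3_c6) (LK LD1_c11 LD2_c33 LD3_c0) Lrfl Lrfl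
theorem f578403 : Led Lsl_df (LP (LK LD1_c20 LD2_c30 LD3_c6)) = (LP (LK LD1_c13 LD2_c26 LD3_c47)) :=
  Lgr Lrot78 (Lpr_ft (f163428 IH) (Lpe (f569368 IH) (Lpr_ft (f578401 IH) (Lpn (LP (LK LD1_c13 LD2_c26 LD3_c47))))))
theorem f466554 : Led Lsl_bt (LP (LK LD1_c7 LD2_c3 LD3_c44)) = (LP (LK LD1_c13 LD2_c23 LD3_c22)) :=
  Lre_b IH (LK LD1_c7 LD2_c3 LD3_c44) (LK LD1_c13 LD2_c23 LD3_c22) Lrfl Lrfl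
theorem f466591 : Led Lsl_et (LP (LK LD1_c13 LD2_c23 LD3_c22)) = (LP (LK LD1_c7 LD2_c5 LD3_c43)) :=
  Lgr Lrot74 (Lpe (f466554 IH) (Lpr_ef (K28.f466579 IH) (Lpe (K34.f108464 IH) (Lpn (LP (LK LD1_c7 LD2_c5 LD3_c43))))))
theorem f488630 : Led Lsl_dt (LP (LK LD1_c13 LD2_c26 LD3_c51)) = (LP (LK LD1_c13 LD2_c30 LD3_c15)) :=
  Lgr Lrot42 (Lpr_df (K34.f466611 IH) (Lpn (LP (LK LD1_c13 LD2_c30 LD3_c15))))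
theorem f488642 : Led Lsl_bt (LP (LK LD1_c22 LD2_c46 LD3_c21)) = (LP (LK LD1_c13 LD2_c26 LD3_c51)) :=
  Lre_b IH (LK LD1_c22 LD2_c46 LD3_c21) (LK LD1_c13 LD2_c26 LD3_c51) Lrfl Lrfl
theorem f488643 : Led Lsl_bt (LP (LK LD1_c13 LD2_c30 LD3_c15)) = (LP (LK LD1_c22 LD2_c51 LD3_c5)) :=
  Lre_b IH (LK LD1_c13 LD2_c30 LD3_c15) (LK LD1_c22 LD2_c51 LD3_c5) Lrfl Lrfl
theorem f488644 : Led Lsl_df (LP (LK LD1_c22 LD2_c46 LD3_c21)) = (LP (LK LD1_c22 LD2_c51 LD3_c5)) :=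
  Lgr Lrot12 (Lpr_bt (f488642 IH) (Lpr_dt (f488630 IH) (Lpr_bt (f488643 IH) (Lpn (LP (LK LD1_c22 LD2_c51 LD3_c5))))))
theorem f488648 : Led Lsl_et (LP (LK LD1_c22 LD2_c46 LD3_c21)) = (LP (LK LD1_c13 LD2_c26 LD3_c49)) :=
  Lre_e IH (LK LD1_c22 LD2_c46 LD3_c21) (LK LD1_c13 LD2_c26 LD3_c49) Lrfl Lrfl
theorem f476567 : Led Lsl_dt (LP (LK LD1_c13 LD2_c26 LD3_c49)) = (LP (LK LD1_c7 LD2_c5 LD3_c43)) :=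
  Lre_d IH (LK LD1_c13 LD2_c26 LD3_c49) (LK LD1_c7 LD2_c5 LD3_c43) Lrfl Lrfl
theorem f488649 : Led Lsl_et (LP (LK LD1_c13 LD2_c30 LD3_c13)) = (LP (LK LD1_c22 LD2_c51 LD3_c5)) :=
  Lre_e IH (LK LD1_c13 LD2_c30 LD3_c13) (LK LD1_c22 LD2_c51 LD3_c5) Lrfl Lrfl
theorem f488650 : Led Lsl_dt (LP (LK LD1_c13 LD2_c23 LD3_c22)) = (LP (LK LD1_c13 LD2_c30 LD3_c13)) :=
  Lgr Lrot77 (Lpr_ef (K34.f466597 IH) (Lpe (f476567 IH) (Lpe (f488648 IH) (Lpr_df (f488644 IH) (Lpe (f488649 IH) (Lpn (LP (LK LD1_c13 LD2_c30 LD3_c13))))))))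
theorem f108574 : Led Lsl_bt (LP (LK LD1_c22 LD2_c49 LD3_c61)) = (LP (LK LD1_c13 LD2_c29 LD3_c31)) :=
  Lre_b IH (LK LD1_c22 LD2_c49 LD3_c61) (LK LD1_c13 LD2_c29 LD3_c31) Lrfl Lrfl
theorem f108575 : Led Lsl_bt (LP (LK LD1_c13 LD2_c39 LD3_c6)) = (LP (LK LD1_c23 LD2_c4 LD3_c14)) :=
  Lre_b IH (LK LD1_c13 LD2_c39 LD3_c6) (LK LD1_c23 LD2_c4 LD3_c14) Lrfl Lrfl
theorem f108576 : Led Lsl_df (LP (LK LD1_c22 LD2_c49 LD3_c61)) = (LP (LK LD1_c23 LD2_c4 LD3_c14)) :=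
  Lgr Lrot12 (Lpr_bt (f108574 IH) (Lpr_dt (K41.f108568 IH) (Lpr_bt (f108575 IH) (Lpn (LP (LK LD1_c23 LD2_c4 LD3_c14))))))
theorem f108579 : Led Lsl_et (LP (LK LD1_c22 LD2_c49 LD3_c61)) = (LP (LK LD1_c13 LD2_c29 LD3_c28)) :=
  Lre_e IH (LK LD1_c22 LD2_c49 LD3_c61) (LK LD1_c13 LD2_c29 LD3_c28) Lrfl Lrfl
theorem f108580 : Led Lsl_dt (LP (LK LD1_c13 LD2_c29 LD3_c28)) = (LP (LK LD1_c7 LD2_c7 LD3_c12)) :=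
  Lre_d IH (LK LD1_c13 LD2_c29 LD3_c28) (LK LD1_c7 LD2_c7 LD3_c12) Lrfl Lrfl
theorem f108581 : Led Lsl_et (LP (LK LD1_c7 LD2_c7 LD3_c12)) = (LP (LK LD1_c13 LD2_c29 LD3_c29)) :=
  Lre_e IH (LK LD1_c7 LD2_c7 LD3_c12) (LK LD1_c13 LD2_c29 LD3_c29) Lrfl Lrfl
theorem f108582 : Led Lsl_et (LP (LK LD1_c13 LD2_c39 LD3_c4)) = (LP (LK LD1_c23 LD2_c4 LD3_c14)) :=
  Lre_e IH (LK LD1_c13 LD2_c39 LD3_c4) (LK LD1_c23 LD2_c4 LD3_c14) Lrfl Lrfl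
theorem f108583 : Led Lsl_dt (LP (LK LD1_c13 LD2_c29 LD3_c29)) = (LP (LK LD1_c13 LD2_c39 LD3_c4)) :=
  Lgr Lrot77 (Lpe (f108581 IH) (Lpe (f108580 IH) (Lpe (f108579 IH) (Lpr_df (f108576 IH) (Lpe (f108582 IH) (Lpn (LP (LK LD1_c13 LD2_c39 LD3_c4))))))))
theorem f108587 : Led Lsl_at (LP (LK LD1_c13 LD2_c39 LD3_c4)) = (LP (LK LD1_c23 LD2_c4 LD3_c13)) :=
  Lre_a IH (LK LD1_c13 LD2_c39 LD3_c4) (LK LD1_c23 LD2_c4 LD3_c13) Lrfl Lrfl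
theorem f108588 : Led Lsl_df (LP (LK LD1_c22 LD2_c49 LD3_c57)) = (LP (LK LD1_c23 LD2_c4 LD3_c13)) :=
  Lgr Lrot18 (Lpr_at (K41.f108586 IH) (Lpr_dt (f108583 IH) (Lpr_at (f108587 IH) (Lpn (LP (LK LD1_c23 LD2_c4 LD3_c13))))))
theorem f108596 : Led Lsl_dt (LP (LK LD1_c22 LD2_c49 LD3_c57)) = (LP (LK LD1_c23 LD2_c4 LD3_c13)) :=
  Lgr Lrot42 (Lpr_df (f108588 IH) (Lpn (LP (LK LD1_c23 LD2_c4 LD3_c13))))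
theorem f578407 : Led Lsl_gt (LP (LK LD1_c20 LD2_c30 LD3_c6)) = (LP (LK LD1_c23 LD2_c4 LD3_c13)) :=
  Lgr Lrot139 (Lpr_df (f578403 IH) (Lpe (f476568 IH) (Lpe (f466591 IH) (Lpr_dt (f488650 IH) (Lpr_gf (K41.f476525 IH) (Lpe (K41.f471488 IH) (Lpe (K41.f564803 IH) (Lpr_gf (K41.f531266 IH) (Lpe (K41.f108598 IH) (Lpr_dt (f108596 IH) (Lpn (LP (LK LD1_c23 LD2_c4 LD3_c13)))))))))))))
theorem f578411 : Led Lsl_gf (LP (LK LD1_c17 LD2_c0 LD3_c18)) = (LP (LK LD1_c23 LD2_c4 LD3_c13)) :=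
  Lgr Lrot76 (Lpe (K32.f497350 IH) (Lpe (f163428 IH) (Lpr_gt (f578407 IH) (Lpn (LP (LK LD1_c23 LD2_c4 LD3_c13))))))
theorem f574927 : Led Lsl_bt (LP (LK LD1_c7 LD2_c59 LD3_c26)) = (LP (LK LD1_c13 LD2_c27 LD3_c54)) :=
  Lgr Lrot127 (Lpr_bf (f574914 IH) (Lpn (LP (LK LD1_c13 LD2_c27 LD3_c54))))
theorem f574946 : Led Lsl_df (LP (LK LD1_c7 LD2_c59 LD3_c26)) = (LP (LK LD1_c7 LD2_c13 LD3_c22)) :=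
  Lgr Lrot12 (Lpr_bt (f574927 IH) (Lpr_dt (f574944 IH) (Lpe (K3.f96866 IH) (Lpn (LP (LK LD1_c7 LD2_c13 LD3_c22))))))
theorem f547101 : Led Lsl_cf (LP (LK LD1_c2 LD2_c50 LD3_c40)) = (LP (LK LD1_c3 LD2_c4 LD3_c16)) :=
  Lgr Lrot1 (Lpr_at (K38.f450156 IH) (Lpr_ct (K38.f176632 IH) (Lpr_at (K38.f547094 IH) (Lpn (LP (LK LD1_c3 LD2_c4 LD3_c16))))))
theorem f559197 : Led Lsl_dt (LP (LK LD1_c3 LD2_c39 LD3_c20)) = (LP (LK LD1_c5 LD2_c41 LD3_c16)) :=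
  Lgr Lrot113 (Lpe (K28.f92296 IH) (Lpr_df (K37.f441965 IH) (Lpr_gf (K41.f559191 IH) (Lpe (f547101 IH) (Lpr_gt (K37.f503198 IH) (Lpq (K37.f546836 IH) (Lpr_dt (K36.f73436 IH) (Lpe (K40.f428014 IH) (Lpr_dt (K40.f302047 IH) (Lpr_ct (K40.f302034 IH) (Lpn (LP (LK LD1_c5 LD2_c41 LD3_c16)))))))))))))
theorem f565248 : Led Lsl_gf (LP (LK LD1_c7 LD2_c59 LD3_c26)) = (LP (LK LD1_c7 LD2_c0 LD3_c43)) :=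
  Lgr Lrot147 (Lpr_ct (f548954 IH) (Lpr_gt (K41.f565240 IH) (Lpr_ct (K40.f302034 IH) (Lpe (f559197 IH) (Lpe (K28.f94565 IH) (Lpr_gf (K37.f427150 IH) (Lpe (K37.f427144 IH) (Lpe (K28.f89660 IH) (Lpe (K3.f64641 IH) (Lpn (LP (LK LD1_c7 LD2_c0 LD3_c43))))))))))))
theorem f97509 : Led Lsl_dt (LP (LK LD1_c3 LD2_c29 LD3_c31)) = (LP (LK LD1_c7 LD2_c0 LD3_c43)) :=
  Lre_d IH (LK LD1_c3 LD2_c29 LD3_c31) (LK LD1_c7 LD2_c0 LD3_c43) Lrfl Lrfl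
theorem f426637 : Led Lsl_et (LP (LK LD1_c13 LD2_c18 LD3_c3)) = (LP (LK LD1_c7 LD2_c0 LD3_c41)) :=
  Lre_e IH (LK LD1_c13 LD2_c18 LD3_c3) (LK LD1_c7 LD2_c0 LD3_c41) Lrfl Lrfl
theorem f578493 : Led Lsl_df (LP (LK LD1_c17 LD2_c0 LD3_c18)) = (LP (LK LD1_c13 LD2_c18 LD3_c3)) :=
  Lgr Lrot168 (Lpr_gf (f578411 IH) (Lpe (f108596 IH) (Lpr_et (K41.f108598 IH) (Lpr_gf (K41.f564787 IH) (Lpe (K36.f89700 IH) (Lpe (f574946 IH) (Lpr_gf (f565248 IH) (Lpe (f97509 IH) (Lpe (K28.f64795 IH) (Lpe (f426637 IH) (Lpn (LP (LK LD1_c13 LD2_c18 LD3_c3)))))))))))))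
theorem f543390 : Led Lsl_cf (LP (LK LD1_c12 LD2_c7 LD3_c48)) = (LP (LK LD1_c7 LD2_c34 LD3_c1)) :=
  Lgr Lrot11 (Lpr_ct (K37.f543383 IH) (Lpn (LP (LK LD1_c7 LD2_c34 LD3_c1))))
theorem f75692 : Led Lsl_gt (LP (LK LD1_c21 LD2_c13 LD3_c38)) = (LP (LK LD1_c12 LD2_c7 LD3_c37)) :=
  Lre_g IH (LK LD1_c21 LD2_c13 LD3_c38) (LK LD1_c12 LD2_c7 LD3_c37) Lrfl Lrfl
theorem f72431 : Led Lsl_et (LP (LK LD1_c11 LD2_c33 LD3_c0)) = (LP (LK LD1_c5 LD2_c53 LD3_c30)) :=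
  Lre_e IH (LK LD1_c11 LD2_c33 LD3_c0) (LK LD1_c5 LD2_c53 LD3_c30) Lrfl Lrfl
theorem f569360 : Led Lsl_dt (LP (LK LD1_c7 LD2_c33 LD3_c43)) = (LP (LK LD1_c11 LD2_c33 LD3_c0)) :=
  Lgr Lrot77 (Lpe (K7.f94460 IH) (Lpe (K42.f564299 IH) (Lpr_ef (K42.f569354 IH) (Lpr_df (K32.f202568 IH) (Lpe (f72431 IH) (Lpn (LP (LK LD1_c11 LD2_c33 LD3_c0))))))))
theorem f163425 : Led Lsl_ft (LP (LK LD1_c11 LD2_c33 LD3_c0)) = (LP (LK LD1_c20 LD2_c30 LD3_c6)) :=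
  Lre_f IH (LK LD1_c11 LD2_c33 LD3_c0) (LK LD1_c20 LD2_c30 LD3_c6) Lrfl Lrfl
theorem f578399 : Led Lsl_dt (LP (LK LD1_c20 LD2_c30 LD3_c6)) = (LP (LK LD1_c13 LD2_c26 LD3_c47)) :=
  Lgr Lrot60 (Lpe (f163425 IH) (Lpe (f569360 IH) (Lpr_ff (f578397 IH) (Lpn (LP (LK LD1_c13 LD2_c26 LD3_c47))))))
theorem f514139 : Led Lsl_ff (LP (LK LD1_c7 LD2_c12 LD3_c39)) = (LP (LK LD1_c7 LD2_c5 LD3_c43)) :=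
  Lgr Lrot30 (Lpr_at (K37.f490098 IH) (Lpr_ft (K41.f514137 IH) (Lpr_at (K34.f476564 IH) (Lpn (LP (LK LD1_c7 LD2_c5 LD3_c43))))))
theorem f514197 : Led Lsl_gf (LP (LK LD1_c13 LD2_c38 LD3_c61)) = (LP (LK LD1_c13 LD2_c26 LD3_c47)) :=
  Lgr Lrot76 (Lpe (K37.f490098 IH) (Lpr_ff (f514139 IH) (Lpr_gt (f476568 IH) (Lpn (LP (LK LD1_c13 LD2_c26 LD3_c47))))))
theorem f202180 : Led Lsl_ct (LP (LK LD1_c12 LD2_c7 LD3_c28)) = (LP (LK LD1_c6 LD2_c14 LD3_c38)) :=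
  Lre_c IH (LK LD1_c12 LD2_c7 LD3_c28) (LK LD1_c6 LD2_c14 LD3_c38) Lrfl Lrfl
theorem f420501 : Led Lsl_gt (LP (LK LD1_c21 LD2_c13 LD3_c39)) = (LP (LK LD1_c12 LD2_c7 LD3_c28)) :=
  Lre_g IH (LK LD1_c21 LD2_c13 LD3_c39) (LK LD1_c12 LD2_c7 LD3_c28) Lrfl Lrfl
theorem f578413 : Led Lsl_cf (LP (LK LD1_c21 LD2_c13 LD3_c39)) = (LP (LK LD1_c23 LD2_c4 LD3_c13)) :=
  Lgr Lrot169 (Lpr_gt (f420501 IH) (Lpr_ct (f202180 IH) (Lpr_df (K37.f543725 IH) (Lpe (K3.f97506 IH) (Lpe (K37.f97522 IH) (Lpe (K37.f514059 IH) (Lpr_gf (f514197 IH) (Lpe (f578399 IH) (Lpr_gt (f578407 IH) (Lpn (LP (LK LD1_c23 LD2_c4 LD3_c13))))))))))))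
theorem f578417 : Led Lsl_ct (LP (LK LD1_c21 LD2_c13 LD3_c39)) = (LP (LK LD1_c23 LD2_c4 LD3_c13)) :=
  Lgr Lrot59 (Lpr_cf (f578413 IH) (Lpn (LP (LK LD1_c23 LD2_c4 LD3_c13))))
theorem f108602 : Led Lsl_at (LP (LK LD1_c23 LD2_c4 LD3_c13)) = (LP (LK LD1_c13 LD2_c39 LD3_c4)) :=
  Lre_a IH (LK LD1_c23 LD2_c4 LD3_c13) (LK LD1_c13 LD2_c39 LD3_c4) Lrfl Lrfl
theorem f578419 : Led Lsl_af (LP (LK LD1_c21 LD2_c13 LD3_c39)) = (LP (LK LD1_c12 LD2_c7 LD3_c35)) :=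
  Lgr Lrot68 (Lpr_ct (f578417 IH) (Lpr_at (f108602 IH) (Lpr_ct (K37.f543485 IH) (Lpn (LP (LK LD1_c12 LD2_c7 LD3_c35))))))
theorem f75688 : Led Lsl_gt (LP (LK LD1_c12 LD2_c7 LD3_c37)) = (LP (LK LD1_c21 LD2_c13 LD3_c39)) :=
  Lre_g IH (LK LD1_c12 LD2_c7 LD3_c37) (LK LD1_c21 LD2_c13 LD3_c39) Lrfl Lrfl
theorem f578423 : Led Lsl_ft (LP (LK LD1_c21 LD2_c13 LD3_c38)) = (LP (LK LD1_c12 LD2_c7 LD3_c35)) :=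
  Lgr Lrot2 (Lpr_gt (f75692 IH) (Lpr_gt (f75688 IH) (Lpr_af (f578419 IH) (Lpn (LP (LK LD1_c12 LD2_c7 LD3_c35))))))
theorem f543504 : Led Lsl_cf (LP (LK LD1_c13 LD2_c39 LD3_c4)) = (LP (LK LD1_c12 LD2_c7 LD3_c35)) :=
  Lgr Lrot11 (Lpr_ct (K37.f543485 IH) (Lpn (LP (LK LD1_c12 LD2_c7 LD3_c35))))
theorem f108380 : Led Lsl_ft (LP (LK LD1_c3 LD2_c36 LD3_c10)) = (LP (LK LD1_c7 LD2_c12 LD3_c45)) :=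
  Lre_f IH (LK LD1_c3 LD2_c36 LD3_c10) (LK LD1_c7 LD2_c12 LD3_c45) Lrfl Lrfl
theorem f94498 : Led Lsl_gt (LP (LK LD1_c3 LD2_c36 LD3_c10)) = (LP (LK LD1_c7 LD2_c12 LD3_c42)) :=
  Lre_g IH (LK LD1_c3 LD2_c36 LD3_c10) (LK LD1_c7 LD2_c12 LD3_c42) Lrfl Lrfl
theorem f108382 : Led Lsl_gt (LP (LK LD1_c7 LD2_c12 LD3_c42)) = (LP (LK LD1_c7 LD2_c5 LD3_c51)) :=
  Lgr Lrot46 (Lpe (f94498 IH) (Lpr_ft (f108380 IH) (Lpr_at (K24.f108371 IH) (Lpn (LP (LK LD1_c7 LD2_c5 LD3_c51))))))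
theorem f530731 : Led Lsl_ff (LP (LK LD1_c7 LD2_c5 LD3_c49)) = (LP (LK LD1_c7 LD2_c12 LD3_c42)) :=
  Lgr Lrot52 (Lpr_at (K41.f530723 IH) (Lpr_gf (K8.f108469 IH) (Lpe (f108382 IH) (Lpn (LP (LK LD1_c7 LD2_c12 LD3_c42))))))
theorem f530735 : Led Lsl_ft (LP (LK LD1_c7 LD2_c5 LD3_c49)) = (LP (LK LD1_c7 LD2_c12 LD3_c42)) :=
  Lgr Lrot48 (Lpr_ff (f530731 IH) (Lpn (LP (LK LD1_c7 LD2_c12 LD3_c42))))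
theorem f108394 : Led Lsl_gt (LP (LK LD1_c3 LD2_c32 LD3_c23)) = (LP (LK LD1_c7 LD2_c5 LD3_c48)) :=
  Lre_g IH (LK LD1_c3 LD2_c32 LD3_c23) (LK LD1_c7 LD2_c5 LD3_c48) Lrfl Lrfl
theorem f530739 : Led Lsl_af (LP (LK LD1_c7 LD2_c5 LD3_c48)) = (LP (LK LD1_c7 LD2_c12 LD3_c42)) :=
  Lgr Lrot31 (Lpe (f108394 IH) (Lpe (K28.f98548 IH) (Lpr_ft (f530735 IH) (Lpn (LP (LK LD1_c7 LD2_c12 LD3_c42))))))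
theorem f530725 : Led Lsl_af (LP (LK LD1_c7 LD2_c5 LD3_c49)) = (LP (LK LD1_c7 LD2_c12 LD3_c43)) :=
  Lgr Lrot0 (Lpr_at (K41.f530723 IH) (Lpn (LP (LK LD1_c7 LD2_c12 LD3_c43))))
theorem f530746 : Led Lsl_ft (LP (LK LD1_c7 LD2_c5 LD3_c48)) = (LP (LK LD1_c7 LD2_c12 LD3_c43)) :=
  Lgr Lrot101 (Lpr_af (f530739 IH) (Lpe (f530735 IH) (Lpr_af (f530725 IH) (Lpn (LP (LK LD1_c7 LD2_c12 LD3_c43))))))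
theorem f108403 : Led Lsl_bt (LP (LK LD1_c13 LD2_c26 LD3_c59)) = (LP (LK LD1_c7 LD2_c5 LD3_c48)) :=
  Lre_b IH (LK LD1_c13 LD2_c26 LD3_c59) (LK LD1_c7 LD2_c5 LD3_c48) Lrfl Lrfl
theorem f108554 : Led Lsl_bt (LP (LK LD1_c7 LD2_c12 LD3_c43)) = (LP (LK LD1_c13 LD2_c39 LD3_c4)) :=
  Lre_b IH (LK LD1_c7 LD2_c12 LD3_c43) (LK LD1_c13 LD2_c39 LD3_c4) Lrfl Lrfl
theorem f530748 : Led Lsl_ff (LP (LK LD1_c13 LD2_c26 LD3_c59)) = (LP (LK LD1_c13 LD2_c39 LD3_c4)) :=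
  Lgr Lrot25 (Lpr_bt (f108403 IH) (Lpr_ft (f530746 IH) (Lpr_bt (f108554 IH) (Lpn (LP (LK LD1_c13 LD2_c39 LD3_c4))))))
theorem f578425 : Led Lsl_cf (LP (LK LD1_c21 LD2_c13 LD3_c38)) = (LP (LK LD1_c13 LD2_c26 LD3_c59)) :=
  Lgr Lrot108 (Lpr_ft (f578423 IH) (Lpe (f543504 IH) (Lpe (f530748 IH) (Lpn (LP (LK LD1_c13 LD2_c26 LD3_c59))))))
theorem f578499 : Led Lsl_gt (LP (LK LD1_c17 LD2_c0 LD3_c18)) = (LP (LK LD1_c13 LD2_c26 LD3_c59)) :=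
  Lgr Lrot9 (Lpr_df (f578493 IH) (Lpr_gt (f578378 IH) (Lpe (K37.f476504 IH) (Lpr_gt (K37.f476501 IH) (Lpe (f543390 IH) (Lpe (f202322 IH) (Lpe (K11.f75680 IH) (Lpe (f75692 IH) (Lpr_cf (f578425 IH) (Lpn (LP (LK LD1_c13 LD2_c26 LD3_c59))))))))))))
theorem f564315 : Led Lsl_ft (LP (LK LD1_c13 LD2_c38 LD3_c60)) = (LP (LK LD1_c13 LD2_c18 LD3_c3)) :=
  Lgr Lrot2 (Lpr_gt (K37.f463614 IH) (Lpr_gt (K41.f564313 IH) (Lpe (K28.f426652 IH) (Lpn (LP (LK LD1_c13 LD2_c18 LD3_c3))))))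
theorem f463615 : Led Lsl_dt (LP (LK LD1_c23 LD2_c4 LD3_c5)) = (LP (LK LD1_c13 LD2_c38 LD3_c60)) :=
  Lre_d IH (LK LD1_c23 LD2_c4 LD3_c5) (LK LD1_c13 LD2_c38 LD3_c60) Lrfl Lrfl
theorem f578497 : Led Lsl_ft (LP (LK LD1_c17 LD2_c0 LD3_c18)) = (LP (LK LD1_c23 LD2_c4 LD3_c5)) :=
  Lgr Lrot54 (Lpr_df (f578493 IH) (Lpe (f564315 IH) (Lpe (f463615 IH) (Lpn (LP (LK LD1_c23 LD2_c4 LD3_c5))))))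
theorem f530752 : Led Lsl_ff (LP (LK LD1_c7 LD2_c5 LD3_c48)) = (LP (LK LD1_c7 LD2_c12 LD3_c43)) :=
  Lgr Lrot3 (Lpr_ft (f530746 IH) (Lpn (LP (LK LD1_c7 LD2_c12 LD3_c43))))
theorem f488666 : Led Lsl_bt (LP (LK LD1_c7 LD2_c5 LD3_c48)) = (LP (LK LD1_c13 LD2_c26 LD3_c59)) :=
  Lre_b IH (LK LD1_c7 LD2_c5 LD3_c48) (LK LD1_c13 LD2_c26 LD3_c59) Lrfl Lrfl
theorem f530754 : Led Lsl_ft (LP (LK LD1_c13 LD2_c26 LD3_c59)) = (LP (LK LD1_c13 LD2_c39 LD3_c4)) :=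
  Lgr Lrot75 (Lpe (f488666 IH) (Lpr_ff (f530752 IH) (Lpe (K37.f108473 IH) (Lpn (LP (LK LD1_c13 LD2_c39 LD3_c4))))))
theorem f578409 : Led Lsl_gf (LP (LK LD1_c20 LD2_c30 LD3_c6)) = (LP (LK LD1_c13 LD2_c26 LD3_c59)) :=
  Lgr Lrot47 (Lpr_gt (f578407 IH) (Lpe (f108587 IH) (Lpe (f530754 IH) (Lpn (LP (LK LD1_c13 LD2_c26 LD3_c59))))))
theorem f578501 : Led Lsl_at (LP (LK LD1_c23 LD2_c4 LD3_c5)) = (LP (LK LD1_c20 LD2_c30 LD3_c6)) :=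
  Lgr Lrot26 (Lpe (f578497 IH) (Lpr_gt (f578499 IH) (Lpe (f578409 IH) (Lpn (LP (LK LD1_c20 LD2_c30 LD3_c6))))))
theorem f438191 : Led Lsl_et (LP (LK LD1_c15 LD2_c8 LD3_c9)) = (LP (LK LD1_c8 LD2_c2 LD3_c25)) :=
  Lre_e IH (LK LD1_c15 LD2_c8 LD3_c9) (LK LD1_c8 LD2_c2 LD3_c25) Lrfl Lrfl
theorem f438224 : Led Lsl_ft (LP (LK LD1_c24 LD2_c56 LD3_c59)) = (LP (LK LD1_c15 LD2_c8 LD3_c9)) :=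
  Lre_f IH (LK LD1_c24 LD2_c56 LD3_c59) (LK LD1_c15 LD2_c8 LD3_c9) Lrfl Lrfl
theorem f497416 : Led Lsl_et (LP (LK LD1_c20 LD2_c30 LD3_c6)) = (LP (LK LD1_c24 LD2_c56 LD3_c59)) :=
  Lgr Lrot69 (Lpe (f163425 IH) (Lpe (K32.f163427 IH) (Lpr_ff (K32.f497408 IH) (Lpe (f438191 IH) (Lpe (f438224 IH) (Lpn (LP (LK LD1_c24 LD2_c56 LD3_c59))))))))
theorem f497342 : Led Lsl_at (LP (LK LD1_c5 LD2_c53 LD3_c30)) = (LP (LK LD1_c9 LD2_c7 LD3_c59)) :=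
  Lgr Lrot100 (Lpr_af (K32.f497340 IH) (Lpn (LP (LK LD1_c9 LD2_c7 LD3_c59))))
theorem f149196 : Led Lsl_bf (LP (LK LD1_c6 LD2_c15 LD3_c17)) = (LP (LK LD1_c5 LD2_c53 LD3_c29)) :=
  Lgr Lrot24 (Lpr_bt (K8.f149178 IH) (Lpn (LP (LK LD1_c5 LD2_c53 LD3_c29))))
theorem f497322 : Led Lsl_ff (LP (LK LD1_c5 LD2_c53 LD3_c29)) = (LP (LK LD1_c9 LD2_c7 LD3_c59)) :=
  Lgr Lrot25 (Lpe (f149196 IH) (Lpr_ft (K32.f497320 IH) (Lpr_bt (K8.f161179 IH) (Lpn (LP (LK LD1_c9 LD2_c7 LD3_c59))))))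
theorem f497410 : Led Lsl_at (LP (LK LD1_c5 LD2_c53 LD3_c29)) = (LP (LK LD1_c8 LD2_c2 LD3_c25)) :=
  Lgr Lrot66 (Lpr_ff (f497322 IH) (Lpe (f497342 IH) (Lpr_ff (K32.f497408 IH) (Lpn (LP (LK LD1_c8 LD2_c2 LD3_c25))))))
theorem f149177 : Led Lsl_et (LP (LK LD1_c11 LD2_c32 LD3_c60)) = (LP (LK LD1_c5 LD2_c53 LD3_c29)) :=
  Lre_e IH (LK LD1_c11 LD2_c32 LD3_c60) (LK LD1_c5 LD2_c53 LD3_c29) Lrfl Lrfl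
theorem f438208 : Led Lsl_et (LP (LK LD1_c8 LD2_c2 LD3_c25)) = (LP (LK LD1_c15 LD2_c8 LD3_c9)) :=
  Lre_e IH (LK LD1_c8 LD2_c2 LD3_c25) (LK LD1_c15 LD2_c8 LD3_c9) Lrfl Lrfl
theorem f499810 : Led Lsl_af (LP (LK LD1_c11 LD2_c32 LD3_c60)) = (LP (LK LD1_c15 LD2_c8 LD3_c9)) :=
  Lgr Lrot50 (Lpr_et (f149177 IH) (Lpr_at (f497410 IH) (Lpr_et (f438208 IH) (Lpn (LP (LK LD1_c15 LD2_c8 LD3_c9))))))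
theorem f149284 : Led Lsl_ft (LP (LK LD1_c11 LD2_c32 LD3_c60)) = (LP (LK LD1_c20 LD2_c30 LD3_c4)) :=
  Lre_f IH (LK LD1_c11 LD2_c32 LD3_c60) (LK LD1_c20 LD2_c30 LD3_c4) Lrfl Lrfl
theorem f499816 : Led Lsl_at (LP (LK LD1_c20 LD2_c30 LD3_c4)) = (LP (LK LD1_c24 LD2_c56 LD3_c59)) :=
  Lgr Lrot66 (Lpe (f149284 IH) (Lpr_af (f499810 IH) (Lpe (f438224 IH) (Lpn (LP (LK LD1_c24 LD2_c56 LD3_c59))))))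
theorem f499821 : Led Lsl_af (LP (LK LD1_c20 LD2_c30 LD3_c4)) = (LP (LK LD1_c24 LD2_c56 LD3_c59)) :=
  Lgr Lrot0 (Lpr_at (f499816 IH) (Lpn (LP (LK LD1_c24 LD2_c56 LD3_c59))))
theorem f578503 : Led Lsl_ef (LP (LK LD1_c23 LD2_c4 LD3_c5)) = (LP (LK LD1_c20 LD2_c30 LD3_c4)) :=
  Lgr Lrot20 (Lpr_at (f578501 IH) (Lpr_et (f497416 IH) (Lpe (f499821 IH) (Lpn (LP (LK LD1_c20 LD2_c30 LD3_c4))))))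
theorem f149182 : Led Lsl_et (LP (LK LD1_c5 LD2_c53 LD3_c29)) = (LP (LK LD1_c11 LD2_c32 LD3_c60)) :=
  Lre_e IH (LK LD1_c5 LD2_c53 LD3_c29) (LK LD1_c11 LD2_c32 LD3_c60) Lrfl Lrfl
theorem f578507 : Led Lsl_ft (LP (LK LD1_c23 LD2_c4 LD3_c5)) = (LP (LK LD1_c17 LD2_c0 LD3_c18)) :=
  Lgr Lrot86 (Lpr_ef (f578503 IH) (Lpe (f149284 IH) (Lpe (f149182 IH) (Lpr_ff (f497322 IH) (Lpe (K32.f161165 IH) (Lpn (LP (LK LD1_c17 LD2_c0 LD3_c18))))))))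
theorem f543395 : Led Lsl_cf (LP (LK LD1_c6 LD2_c14 LD3_c44)) = (LP (LK LD1_c3 LD2_c46 LD3_c34)) :=
  Lgr Lrot108 (Lpr_ft (f543394 IH) (Lpr_ct (K37.f543383 IH) (Lpr_ft (K37.f419446 IH) (Lpn (LP (LK LD1_c3 LD2_c46 LD3_c34))))))
theorem f543508 : Led Lsl_gf (LP (LK LD1_c13 LD2_c39 LD3_c4)) = (LP (LK LD1_c23 LD2_c4 LD3_c5)) :=
  Lgr Lrot147 (Lpr_ct (K37.f543485 IH) (Lpr_gt (K37.f75798 IH) (Lpr_ct (f75669 IH) (Lpe (f75667 IH) (Lpr_cf (f543395 IH) (Lpr_gf (K28.f463602 IH) (Lpr_cf (K28.f461801 IH) (Lpe (K37.f463614 IH) (Lpe (f463615 IH) (Lpn (LP (LK LD1_c23 LD2_c4 LD3_c5))))))))))))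
theorem f497352 : Led Lsl_af (LP (LK LD1_c11 LD2_c33 LD3_c0)) = (LP (LK LD1_c17 LD2_c0 LD3_c18)) :=
  Lgr Lrot0 (Lpr_at (K32.f497350 IH) (Lpn (LP (LK LD1_c17 LD2_c0 LD3_c18))))
theorem f578509 : Led Lsl_gt (LP (LK LD1_c13 LD2_c39 LD3_c4)) = (LP (LK LD1_c11 LD2_c33 LD3_c0)) :=
  Lgr Lrot46 (Lpr_gf (f543508 IH) (Lpr_ft (f578507 IH) (Lpe (f497352 IH) (Lpn (LP (LK LD1_c11 LD2_c33 LD3_c0))))))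
theorem f75758 : Led Lsl_gt (LP (LK LD1_c12 LD2_c7 LD3_c36)) = (LP (LK LD1_c21 LD2_c13 LD3_c47)) :=
  Lre_g IH (LK LD1_c12 LD2_c7 LD3_c36) (LK LD1_c21 LD2_c13 LD3_c47) Lrfl Lrfl
theorem f75759 : Led Lsl_dt (LP (LK LD1_c21 LD2_c13 LD3_c47)) = (LP (LK LD1_c29 LD2_c54 LD3_c53)) :=
  Lre_d IH (LK LD1_c21 LD2_c13 LD3_c47) (LK LD1_c29 LD2_c54 LD3_c53) Lrfl Lrfl
theorem f461829 : Led Lsl_dt (LP (LK LD1_c13 LD2_c39 LD3_c0)) = (LP (LK LD1_c7 LD2_c12 LD3_c39)) :=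
  Lre_d IH (LK LD1_c13 LD2_c39 LD3_c0) (LK LD1_c7 LD2_c12 LD3_c39) Lrfl Lrfl
theorem f476570 : Led Lsl_dt (LP (LK LD1_c7 LD2_c5 LD3_c43)) = (LP (LK LD1_c13 LD2_c26 LD3_c49)) :=
  Lre_d IH (LK LD1_c7 LD2_c5 LD3_c43) (LK LD1_c13 LD2_c26 LD3_c49) Lrfl Lrfl
theorem f514158 : Led Lsl_ft (LP (LK LD1_c7 LD2_c12 LD3_c39)) = (LP (LK LD1_c7 LD2_c5 LD3_c43)) :=
  Lgr Lrot54 (Lpe (f461829 IH) (Lpr_ff (K41.f514151 IH) (Lpe (f476570 IH) (Lpn (LP (LK LD1_c7 LD2_c5 LD3_c43))))))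
theorem f564317 : Led Lsl_gf (LP (LK LD1_c13 LD2_c26 LD3_c48)) = (LP (LK LD1_c7 LD2_c33 LD3_c43)) :=
  Lgr Lrot76 (Lpe (K37.f476569 IH) (Lpe (f514158 IH) (Lpr_gt (K41.f564313 IH) (Lpn (LP (LK LD1_c7 LD2_c33 LD3_c43))))))
theorem f578513 : Led Lsl_cf (LP (LK LD1_c29 LD2_c54 LD3_c53)) = (LP (LK LD1_c22 LD2_c46 LD3_c18)) :=
  Lgr Lrot14 (Lpe (f75759 IH) (Lpe (f75758 IH) (Lpe (f75713 IH) (Lpe (K37.f75798 IH) (Lpe (f543504 IH) (Lpr_gt (f578509 IH) (Lpe (f569368 IH) (Lpe (f564317 IH) (Lpr_dt (K41.f488670 IH) (Lpn (LP (LK LD1_c22 LD2_c46 LD3_c18))))))))))))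
theorem f578429 : Led Lsl_ff (LP (LK LD1_c21 LD2_c13 LD3_c38)) = (LP (LK LD1_c12 LD2_c7 LD3_c35)) :=
  Lgr Lrot3 (Lpr_ft (f578423 IH) (Lpn (LP (LK LD1_c12 LD2_c7 LD3_c35))))
theorem f578431 : Led Lsl_ct (LP (LK LD1_c21 LD2_c13 LD3_c38)) = (LP (LK LD1_c13 LD2_c26 LD3_c59)) :=
  Lgr Lrot40 (Lpr_ff (f578429 IH) (Lpe (K37.f543485 IH) (Lpe (f530754 IH) (Lpn (LP (LK LD1_c13 LD2_c26 LD3_c59))))))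
theorem f75685 : Led Lsl_dt (LP (LK LD1_c12 LD2_c7 LD3_c37)) = (LP (LK LD1_c21 LD2_c13 LD3_c50)) :=
  Lre_d IH (LK LD1_c12 LD2_c7 LD3_c37) (LK LD1_c21 LD2_c13 LD3_c50) Lrfl Lrfl
theorem f75705 : Led Lsl_gt (LP (LK LD1_c21 LD2_c13 LD3_c50)) = (LP (LK LD1_c29 LD2_c54 LD3_c45)) :=
  Lre_g IH (LK LD1_c21 LD2_c13 LD3_c50) (LK LD1_c29 LD2_c54 LD3_c45) Lrfl Lrfl
theorem f70893 : Led Lsl_et (LP (LK LD1_c4 LD2_c36 LD3_c8)) = (LP (LK LD1_c9 LD2_c8 LD3_c27)) :=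
  Lre_e IH (LK LD1_c4 LD2_c36 LD3_c8) (LK LD1_c9 LD2_c8 LD3_c27) Lrfl Lrfl
theorem f99450 : Led Lsl_gt (LP (LK LD1_c9 LD2_c8 LD3_c27)) = (LP (LK LD1_c17 LD2_c0 LD3_c57)) :=
  Lre_g IH (LK LD1_c9 LD2_c8 LD3_c27) (LK LD1_c17 LD2_c0 LD3_c57) Lrfl Lrfl
theorem f149457 : Led Lsl_et (LP (LK LD1_c26 LD2_c56 LD3_c1)) = (LP (LK LD1_c17 LD2_c0 LD3_c57)) :=
  Lre_e IH (LK LD1_c26 LD2_c56 LD3_c1) (LK LD1_c17 LD2_c0 LD3_c57) Lrfl Lrfl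
theorem f202165 : Led Lsl_et (LP (LK LD1_c12 LD2_c7 LD3_c28)) = (LP (LK LD1_c6 LD2_c14 LD3_c37)) :=
  Lre_e IH (LK LD1_c12 LD2_c7 LD3_c28) (LK LD1_c6 LD2_c14 LD3_c37) Lrfl Lrfl
theorem f202166 : Led Lsl_dt (LP (LK LD1_c12 LD2_c7 LD3_c28)) = (LP (LK LD1_c21 LD2_c13 LD3_c40)) :=
  Lre_d IH (LK LD1_c12 LD2_c7 LD3_c28) (LK LD1_c21 LD2_c13 LD3_c40) Lrfl Lrfl
theorem f202167 : Led Lsl_gt (LP (LK LD1_c29 LD2_c54 LD3_c45)) = (LP (LK LD1_c21 LD2_c13 LD3_c40)) :=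
  Lre_g IH (LK LD1_c29 LD2_c54 LD3_c45) (LK LD1_c21 LD2_c13 LD3_c40) Lrfl Lrfl
theorem f202168 : Led Lsl_dt (LP (LK LD1_c26 LD2_c56 LD3_c1)) = (LP (LK LD1_c29 LD2_c54 LD3_c45)) :=
  Lgr Lrot136 (Lpr_et (f149457 IH) (Lpe (f99450 IH) (Lpe (f70893 IH) (Lpr_dt (K7.f149443 IH) (Lpe (K7.f99087 IH) (Lpe (K7.f102344 IH) (Lpr_gf (K11.f202155 IH) (Lpe (f202165 IH) (Lpr_dt (f202166 IH) (Lpe (f202167 IH) (Lpn (LP (LK LD1_c29 LD2_c54 LD3_c45)))))))))))))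
theorem f202173 : Led Lsl_df (LP (LK LD1_c26 LD2_c56 LD3_c1)) = (LP (LK LD1_c29 LD2_c54 LD3_c45)) :=
  Lgr Lrot38 (Lpr_dt (f202168 IH) (Lpn (LP (LK LD1_c29 LD2_c54 LD3_c45))))
theorem f514136 : Led Lsl_dt (LP (LK LD1_c13 LD2_c38 LD3_c61)) = (LP (LK LD1_c23 LD2_c4 LD3_c6)) :=
  Lre_d IH (LK LD1_c13 LD2_c38 LD3_c61) (LK LD1_c23 LD2_c4 LD3_c6) Lrfl Lrfl
theorem f578477 : Led Lsl_cf (LP (LK LD1_c26 LD2_c56 LD3_c1)) = (LP (LK LD1_c23 LD2_c4 LD3_c6)) :=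
  Lgr Lrot14 (Lpr_df (f202173 IH) (Lpe (f75705 IH) (Lpe (f75685 IH) (Lpe (f75692 IH) (Lpr_ct (f578431 IH) (Lpe (f578409 IH) (Lpr_dt (f578399 IH) (Lpe (f514197 IH) (Lpr_dt (f514136 IH) (Lpn (LP (LK LD1_c23 LD2_c4 LD3_c6))))))))))))
theorem f578481 : Led Lsl_ct (LP (LK LD1_c26 LD2_c56 LD3_c1)) = (LP (LK LD1_c23 LD2_c4 LD3_c6)) :=
  Lgr Lrot59 (Lpr_cf (f578477 IH) (Lpn (LP (LK LD1_c23 LD2_c4 LD3_c6))))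
theorem f578517 : Led Lsl_ft (LP (LK LD1_c29 LD2_c54 LD3_c53)) = (LP (LK LD1_c26 LD2_c56 LD3_c1)) :=
  Lgr Lrot4 (Lpr_cf (f578513 IH) (Lpe (K41.f514146 IH) (Lpe (f578481 IH) (Lpn (LP (LK LD1_c26 LD2_c56 LD3_c1))))))
theorem f578523 : Led Lsl_ff (LP (LK LD1_c29 LD2_c54 LD3_c53)) = (LP (LK LD1_c26 LD2_c56 LD3_c1)) :=
  Lgr Lrot3 (Lpr_ft (f578517 IH) (Lpn (LP (LK LD1_c26 LD2_c56 LD3_c1))))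
theorem f137514 : Led Lsl_dt (LP (LK LD1_c29 LD2_c54 LD3_c53)) = (LP (LK LD1_c21 LD2_c13 LD3_c47)) :=
  Lre_d IH (LK LD1_c29 LD2_c54 LD3_c53) (LK LD1_c21 LD2_c13 LD3_c47) Lrfl Lrfl
theorem f578525 : Led Lsl_ft (LP (LK LD1_c21 LD2_c13 LD3_c47)) = (LP (LK LD1_c29 LD2_c54 LD3_c45)) :=
  Lgr Lrot54 (Lpe (f137514 IH) (Lpr_ff (f578523 IH) (Lpr_df (f202173 IH) (Lpn (LP (LK LD1_c29 LD2_c54 LD3_c45))))))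
theorem f420554 : Led Lsl_gt (LP (LK LD1_c21 LD2_c13 LD3_c47)) = (LP (LK LD1_c29 LD2_c54 LD3_c47)) :=
  Lre_g IH (LK LD1_c21 LD2_c13 LD3_c47) (LK LD1_c29 LD2_c54 LD3_c47) Lrfl Lrfl
theorem f420556 : Led Lsl_gt (LP (LK LD1_c29 LD2_c54 LD3_c47)) = (LP (LK LD1_c21 LD2_c13 LD3_c48)) :=
  Lre_g IH (LK LD1_c29 LD2_c54 LD3_c47) (LK LD1_c21 LD2_c13 LD3_c48) Lrfl Lrfl
theorem f578527 : Led Lsl_af (LP (LK LD1_c21 LD2_c13 LD3_c48)) = (LP (LK LD1_c29 LD2_c54 LD3_c45)) :=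
  Lgr Lrot31 (Lpe (f420556 IH) (Lpe (f420554 IH) (Lpr_ft (f578525 IH) (Lpn (LP (LK LD1_c29 LD2_c54 LD3_c45))))))
theorem f514143 : Led Lsl_at (LP (LK LD1_c23 LD2_c4 LD3_c6)) = (LP (LK LD1_c13 LD2_c39 LD3_c0)) :=
  Lre_a IH (LK LD1_c23 LD2_c4 LD3_c6) (LK LD1_c13 LD2_c39 LD3_c0) Lrfl Lrfl
theorem f490099 : Led Lsl_ct (LP (LK LD1_c13 LD2_c39 LD3_c0)) = (LP (LK LD1_c23 LD2_c4 LD3_c9)) :=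
  Lre_c IH (LK LD1_c13 LD2_c39 LD3_c0) (LK LD1_c23 LD2_c4 LD3_c9) Lrfl Lrfl
theorem f578483 : Led Lsl_af (LP (LK LD1_c26 LD2_c56 LD3_c1)) = (LP (LK LD1_c23 LD2_c4 LD3_c9)) :=
  Lgr Lrot68 (Lpr_ct (f578481 IH) (Lpr_at (f514143 IH) (Lpr_ct (f490099 IH) (Lpn (LP (LK LD1_c23 LD2_c4 LD3_c9))))))
theorem f578531 : Led Lsl_dt (LP (LK LD1_c21 LD2_c13 LD3_c48)) = (LP (LK LD1_c23 LD2_c4 LD3_c9)) :=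
  Lgr Lrot44 (Lpr_af (f578527 IH) (Lpe (f202168 IH) (Lpr_af (f578483 IH) (Lpn (LP (LK LD1_c23 LD2_c4 LD3_c9))))))
theorem f578533 : Led Lsl_df (LP (LK LD1_c21 LD2_c13 LD3_c48)) = (LP (LK LD1_c23 LD2_c4 LD3_c9)) :=
  Lgr Lrot38 (Lpr_dt (f578531 IH) (Lpn (LP (LK LD1_c23 LD2_c4 LD3_c9))))
theorem f75760 : Led Lsl_gt (LP (LK LD1_c21 LD2_c13 LD3_c48)) = (LP (LK LD1_c12 LD2_c7 LD3_c36)) :=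
  Lre_g IH (LK LD1_c21 LD2_c13 LD3_c48) (LK LD1_c12 LD2_c7 LD3_c36) Lrfl Lrfl
theorem f75791 : Led Lsl_et (LP (LK LD1_c6 LD2_c14 LD3_c41)) = (LP (LK LD1_c3 LD2_c4 LD3_c14)) :=
  Lre_e IH (LK LD1_c6 LD2_c14 LD3_c41) (LK LD1_c3 LD2_c4 LD3_c14) Lrfl Lrfl
theorem f138400 : Led Lsl_gf (LP (LK LD1_c5 LD2_c54 LD3_c48)) = (LP (LK LD1_c4 LD2_c44 LD3_c48)) :=
  Lgr Lrot104 (Lpr_ct (K7.f70871 IH) (Lpe (K2.f22770 IH) (Lpe (K2.f22465 IH) (Lpe (K6.f59464 IH) (Lpe (K6.f71141 IH) (Lpr_gf (K8.f138398 IH) (Lpe (K6.f104737 IH) (Lpe (K6.f104497 IH) (Lpr_ct (K6.f104459 IH) (Lpn (LP (LK LD1_c4 LD2_c44 LD3_c48))))))))))))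
theorem f71191 : Led Lsl_et (LP (LK LD1_c9 LD2_c8 LD3_c10)) = (LP (LK LD1_c17 LD2_c0 LD3_c37)) :=
  Lre_e IH (LK LD1_c9 LD2_c8 LD3_c10) (LK LD1_c17 LD2_c0 LD3_c37) Lrfl Lrfl
theorem f408090 : Led Lsl_ct (LP (LK LD1_c4 LD2_c25 LD3_c8)) = (LP (LK LD1_c4 LD2_c25 LD3_c31)) :=
  Lgr Lrot15 (Lpe (K40.f70555 IH) (Lpr_cf (K37.f408082 IH) (Lpe (K37.f227623 IH) (Lpn (LP (LK LD1_c4 LD2_c25 LD3_c31))))))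
theorem f408096 : Led Lsl_cf (LP (LK LD1_c4 LD2_c25 LD3_c8)) = (LP (LK LD1_c4 LD2_c25 LD3_c31)) :=
  Lgr Lrot11 (Lpr_ct (f408090 IH) (Lpn (LP (LK LD1_c4 LD2_c25 LD3_c31))))
theorem f37460 : Led Lsl_af (LP (LK LD1_c2 LD2_c9 LD3_c54)) = (LP (LK LD1_c2 LD2_c26 LD3_c51)) :=
  Lgr Lrot50 (Lpr_et (K2.f35911 IH) (Lpr_at (K1.f37452 IH) (Lpr_et (K1.f37331 IH) (Lpn (LP (LK LD1_c2 LD2_c26 LD3_c51))))))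
theorem f70773 : Led Lsl_ct (LP (LK LD1_c2 LD2_c9 LD3_c54)) = (LP (LK LD1_c2 LD2_c9 LD3_c61)) :=
  Lgr Lrot111 (Lpr_af (f37460 IH) (Lpe (K6.f70276 IH) (Lpr_af (K2.f70769 IH) (Lpn (LP (LK LD1_c2 LD2_c9 LD3_c61))))))
theorem f70527 : Led Lsl_gt (LP (LK LD1_c4 LD2_c24 LD3_c49)) = (LP (LK LD1_c8 LD2_c47 LD3_c6)) :=
  Lre_g IH (LK LD1_c4 LD2_c24 LD3_c49) (LK LD1_c8 LD2_c47 LD3_c6) Lrfl Lrfl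
theorem f81731 : Led Lsl_bt (LP (LK LD1_c16 LD2_c26 LD3_c17)) = (LP (LK LD1_c8 LD2_c47 LD3_c6)) :=
  Lre_b IH (LK LD1_c16 LD2_c26 LD3_c17) (LK LD1_c8 LD2_c47 LD3_c6) Lrfl Lrfl
theorem f81732 : Led Lsl_ct (LP (LK LD1_c16 LD2_c26 LD3_c17)) = (LP (LK LD1_c26 LD2_c23 LD3_c41)) :=
  Lre_c IH (LK LD1_c16 LD2_c26 LD3_c17) (LK LD1_c26 LD2_c23 LD3_c41) Lrfl Lrfl
theorem f38282 : Led Lsl_gf (LP (LK LD1_c4 LD2_c25 LD3_c31)) = (LP (LK LD1_c6 LD2_c9 LD3_c14)) :=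
  Lgr Lrot47 (Lpr_gt (K37.f38281 IH) (Lpr_af (K1.f38264 IH) (Lpe (K1.f35746 IH) (Lpn (LP (LK LD1_c6 LD2_c9 LD3_c14))))))
theorem f70964 : Led Lsl_ct (LP (LK LD1_c9 LD2_c8 LD3_c31)) = (LP (LK LD1_c17 LD2_c0 LD3_c60)) :=
  Lre_c IH (LK LD1_c9 LD2_c8 LD3_c31) (LK LD1_c17 LD2_c0 LD3_c60) Lrfl Lrfl
theorem f408102 : Led Lsl_gt (LP (LK LD1_c26 LD2_c23 LD3_c41)) = (LP (LK LD1_c17 LD2_c0 LD3_c60)) :=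
  Lgr Lrot65 (Lpe (f81732 IH) (Lpr_bt (f81731 IH) (Lpe (f70527 IH) (Lpe (K4.f81752 IH) (Lpr_ct (f70773 IH) (Lpe (K37.f70554 IH) (Lpr_cf (f408096 IH) (Lpr_gf (f38282 IH) (Lpr_bf (K2.f72189 IH) (Lpr_ct (f70964 IH) (Lpn (LP (LK LD1_c17 LD2_c0 LD3_c60)))))))))))))
theorem f99440 : Led Lsl_at (LP (LK LD1_c26 LD2_c55 LD3_c38)) = (LP (LK LD1_c17 LD2_c0 LD3_c60)) :=
  Lre_a IH (LK LD1_c26 LD2_c55 LD3_c38) (LK LD1_c17 LD2_c0 LD3_c60) Lrfl Lrfl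
theorem f408105 : Led Lsl_ft (LP (LK LD1_c17 LD2_c0 LD3_c37)) = (LP (LK LD1_c26 LD2_c55 LD3_c38)) :=
  Lre_f IH (LK LD1_c17 LD2_c0 LD3_c37) (LK LD1_c26 LD2_c55 LD3_c38) Lrfl Lrfl
theorem f408106 : Led Lsl_gf (LP (LK LD1_c26 LD2_c23 LD3_c41)) = (LP (LK LD1_c17 LD2_c0 LD3_c37)) :=
  Lgr Lrot47 (Lpr_gt (f408102 IH) (Lpe (f99440 IH) (Lpe (f408105 IH) (Lpn (LP (LK LD1_c17 LD2_c0 LD3_c37))))))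
theorem f578535 : Led Lsl_ef (LP (LK LD1_c26 LD2_c23 LD3_c41)) = (LP (LK LD1_c23 LD2_c4 LD3_c9)) :=
  Lgr Lrot17 (Lpr_gf (f408106 IH) (Lpe (f71191 IH) (Lpr_dt (K8.f70872 IH) (Lpr_gf (f138400 IH) (Lpe (K6.f104380 IH) (Lpr_gf (K6.f137489 IH) (Lpe (f75791 IH) (Lpr_dt (f75713 IH) (Lpe (f75760 IH) (Lpr_df (f578533 IH) (Lpn (LP (LK LD1_c23 LD2_c4 LD3_c9)))))))))))))
theorem f578541 : Led Lsl_et (LP (LK LD1_c26 LD2_c23 LD3_c41)) = (LP (LK LD1_c23 LD2_c4 LD3_c9)) :=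
  Lgr Lrot87 (Lpr_ef (f578535 IH) (Lpn (LP (LK LD1_c23 LD2_c4 LD3_c9))))
theorem f490103 : Led Lsl_ct (LP (LK LD1_c23 LD2_c4 LD3_c9)) = (LP (LK LD1_c13 LD2_c39 LD3_c0)) :=
  Lre_c IH (LK LD1_c23 LD2_c4 LD3_c9) (LK LD1_c13 LD2_c39 LD3_c0) Lrfl Lrfl
theorem f578545 : Led Lsl_ef (LP (LK LD1_c16 LD2_c26 LD3_c17)) = (LP (LK LD1_c13 LD2_c39 LD3_c0)) :=
  Lgr Lrot28 (Lpr_ct (f81732 IH) (Lpr_et (f578541 IH) (Lpr_ct (f490103 IH) (Lpn (LP (LK LD1_c13 LD2_c39 LD3_c0))))))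
theorem f478192 : Led Lsl_dt (LP (LK LD1_c7 LD2_c12 LD3_c39)) = (LP (LK LD1_c13 LD2_c39 LD3_c0)) :=
  Lre_d IH (LK LD1_c7 LD2_c12 LD3_c39) (LK LD1_c13 LD2_c39 LD3_c0) Lrfl Lrfl
theorem f478191 : Led Lsl_et (LP (LK LD1_c23 LD2_c10 LD3_c12)) = (LP (LK LD1_c13 LD2_c43 LD3_c39)) :=
  Lre_e IH (LK LD1_c23 LD2_c10 LD3_c12) (LK LD1_c13 LD2_c43 LD3_c39) Lrfl Lrfl
theorem f578549 : Led Lsl_dt (LP (LK LD1_c16 LD2_c26 LD3_c17)) = (LP (LK LD1_c23 LD2_c10 LD3_c12)) :=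
  Lgr Lrot77 (Lpr_ef (f578545 IH) (Lpe (f478192 IH) (Lpe (K41.f478189 IH) (Lpe (K41.f478158 IH) (Lpe (f478191 IH) (Lpn (LP (LK LD1_c23 LD2_c10 LD3_c12))))))))
theorem f578553 : Led Lsl_bt (LP (LK LD1_c8 LD2_c47 LD3_c6)) = (LP (LK LD1_c16 LD2_c26 LD3_c17)) :=
  Lre_b IH (LK LD1_c8 LD2_c47 LD3_c6) (LK LD1_c16 LD2_c26 LD3_c17) Lrfl Lrfl
theorem f514282 : Led Lsl_bt (LP (LK LD1_c23 LD2_c10 LD3_c12)) = (LP (LK LD1_c13 LD2_c43 LD3_c41)) :=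
  Lre_b IH (LK LD1_c23 LD2_c10 LD3_c12) (LK LD1_c13 LD2_c43 LD3_c41) Lrfl Lrfl
theorem f578554 : Led Lsl_df (LP (LK LD1_c8 LD2_c47 LD3_c6)) = (LP (LK LD1_c13 LD2_c43 LD3_c41)) :=
  Lgr Lrot12 (Lpr_bt (f578553 IH) (Lpr_dt (f578549 IH) (Lpr_bt (f514282 IH) (Lpn (LP (LK LD1_c13 LD2_c43 LD3_c41))))))
theorem f99413 : Led Lsl_dt (LP (LK LD1_c8 LD2_c47 LD3_c8)) = (LP (LK LD1_c4 LD2_c24 LD3_c49)) :=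
  Lre_d IH (LK LD1_c8 LD2_c47 LD3_c8) (LK LD1_c4 LD2_c24 LD3_c49) Lrfl Lrfl
theorem f578625 : Led Lsl_et (LP (LK LD1_c8 LD2_c47 LD3_c8)) = (LP (LK LD1_c4 LD2_c24 LD3_c52)) :=
  Lre_e IH (LK LD1_c8 LD2_c47 LD3_c8) (LK LD1_c4 LD2_c24 LD3_c52) Lrfl Lrfl
theorem f478171 : Led Lsl_et (LP (LK LD1_c13 LD2_c43 LD3_c41)) = (LP (LK LD1_c7 LD2_c15 LD3_c13)) :=
  Lre_e IH (LK LD1_c13 LD2_c43 LD3_c41) (LK LD1_c7 LD2_c15 LD3_c13) Lrfl Lrfl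
theorem f477586 : Led Lsl_et (LP (LK LD1_c1 LD2_c45 LD3_c34)) = (LP (LK LD1_c3 LD2_c37 LD3_c27)) :=
  Lre_e IH (LK LD1_c1 LD2_c45 LD3_c34) (LK LD1_c3 LD2_c37 LD3_c27) Lrfl Lrfl
theorem f478167 : Led Lsl_gt (LP (LK LD1_c7 LD2_c15 LD3_c13)) = (LP (LK LD1_c3 LD2_c37 LD3_c26)) :=
  Lgr Lrot112 (Lpr_df (K41.f478149 IH) (Lpr_et (K41.f108492 IH) (Lpr_gf (K24.f108485 IH) (Lpe (K3.f108248 IH) (Lpr_dt (K28.f108245 IH) (Lpr_gf (K29.f441622 IH) (Lpe (K29.f477576 IH) (Lpe (K29.f467513 IH) (Lpe (f477586 IH) (Lpr_dt (K33.f97100 IH) (Lpn (LP (LK LD1_c3 LD2_c37 LD3_c26)))))))))))))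
theorem f97097 : Led Lsl_dt (LP (LK LD1_c3 LD2_c37 LD3_c26)) = (LP (LK LD1_c1 LD2_c45 LD3_c34)) :=
  Lre_d IH (LK LD1_c3 LD2_c37 LD3_c26) (LK LD1_c1 LD2_c45 LD3_c34) Lrfl Lrfl
theorem f578671 : Led Lsl_ef (LP (LK LD1_c8 LD2_c47 LD3_c13)) = (LP (LK LD1_c7 LD2_c13 LD3_c28)) :=
  Lgr Lrot114 (Lpr_gt (K42.f38492 IH) (Lpe (f578625 IH) (Lpr_dt (f99413 IH) (Lpr_gt (f70527 IH) (Lpr_df (f578554 IH) (Lpr_et (f478171 IH) (Lpr_gt (f478167 IH) (Lpr_dt (f97097 IH) (Lpe (K29.f97089 IH) (Lpe (K29.f97082 IH) (Lpn (LP (LK LD1_c7 LD2_c13 LD3_c28)))))))))))))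
theorem f578675 : Led Lsl_ft (LP (LK LD1_c8 LD2_c47 LD3_c13)) = (LP (LK LD1_c16 LD2_c26 LD3_c1)) :=
  Lgr Lrot86 (Lpr_ef (f578671 IH) (Lpe (K28.f467968 IH) (Lpe (f442103 IH) (Lpr_ff (f577853 IH) (Lpe (f565778 IH) (Lpn (LP (LK LD1_c16 LD2_c26 LD3_c1))))))))
theorem f578677 : Led Lsl_af (LP (LK LD1_c8 LD2_c47 LD3_c12)) = (LP (LK LD1_c16 LD2_c26 LD3_c1)) :=
  Lgr Lrot31 (Lpe (K41.f272534 IH) (Lpe (K42.f38492 IH) (Lpr_ft (f578675 IH) (Lpn (LP (LK LD1_c16 LD2_c26 LD3_c1))))))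
theorem f97175 : Led Lsl_dt (LP (LK LD1_c7 LD2_c39 LD3_c18)) = (LP (LK LD1_c3 LD2_c49 LD3_c9)) :=
  Lre_d IH (LK LD1_c7 LD2_c39 LD3_c18) (LK LD1_c3 LD2_c49 LD3_c9) Lrfl Lrfl
theorem f571224 : Led Lsl_ft (LP (LK LD1_c8 LD2_c47 LD3_c12)) = (LP (LK LD1_c7 LD2_c39 LD3_c18)) :=
  Lgr Lrot54 (Lpr_df (K42.f571214 IH) (Lpe (K42.f97171 IH) (Lpe (f97175 IH) (Lpn (LP (LK LD1_c7 LD2_c39 LD3_c18))))))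
theorem f578685 : Led Lsl_at (LP (LK LD1_c7 LD2_c39 LD3_c18)) = (LP (LK LD1_c8 LD2_c47 LD3_c13)) :=
  Lgr Lrot66 (Lpe (f571224 IH) (Lpr_af (f578677 IH) (Lpe (f578675 IH) (Lpn (LP (LK LD1_c8 LD2_c47 LD3_c13))))))
theorem f97176 : Led Lsl_ct (LP (LK LD1_c14 LD2_c25 LD3_c42)) = (LP (LK LD1_c7 LD2_c39 LD3_c18)) :=
  Lre_c IH (LK LD1_c14 LD2_c25 LD3_c42) (LK LD1_c7 LD2_c39 LD3_c18) Lrfl Lrfl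
theorem f578687 : Led Lsl_af (LP (LK LD1_c14 LD2_c25 LD3_c42)) = (LP (LK LD1_c16 LD2_c26 LD3_c33)) :=
  Lgr Lrot68 (Lpr_ct (f97176 IH) (Lpr_at (f578685 IH) (Lpr_ct (K42.f568841 IH) (Lpn (LP (LK LD1_c16 LD2_c26 LD3_c33))))))
theorem f578689 : Led Lsl_at (LP (LK LD1_c14 LD2_c25 LD3_c42)) = (LP (LK LD1_c16 LD2_c26 LD3_c33)) :=
  Lgr Lrot100 (Lpr_af (f578687 IH) (Lpn (LP (LK LD1_c16 LD2_c26 LD3_c33))))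
theorem f271906 : Led Lsl_af (LP (LK LD1_c6 LD2_c13 LD3_c6)) = (LP (LK LD1_c4 LD2_c26 LD3_c55)) :=
  Lgr Lrot68 (Lpr_ct (K13.f229377 IH) (Lpr_at (K16.f271902 IH) (Lpr_ct (K12.f192773 IH) (Lpn (LP (LK LD1_c4 LD2_c26 LD3_c55))))))
theorem f568741 : Led Lsl_bt (LP (LK LD1_c13 LD2_c31 LD3_c13)) = (LP (LK LD1_c11 LD2_c33 LD3_c13)) :=
  Lgr Lrot62 (Lpr_af (K42.f568737 IH) (Lpe (K42.f568709 IH) (Lpr_af (f271906 IH) (Lpr_bf (K41.f192764 IH) (Lpr_af (K41.f565555 IH) (Lpn (LP (LK LD1_c11 LD2_c33 LD3_c13))))))))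
theorem f272537 : Led Lsl_ct (LP (LK LD1_c8 LD2_c47 LD3_c12)) = (LP (LK LD1_c16 LD2_c26 LD3_c30)) :=
  Lre_c IH (LK LD1_c8 LD2_c47 LD3_c12) (LK LD1_c16 LD2_c26 LD3_c30) Lrfl Lrfl
theorem f571277 : Led Lsl_gf (LP (LK LD1_c22 LD2_c52 LD3_c15)) = (LP (LK LD1_c16 LD2_c26 LD3_c30)) :=
  Lgr Lrot129 (Lpe (K42.f98057 IH) (Lpr_bt (f568741 IH) (Lpr_gt (K42.f571271 IH) (Lpe (K42.f38047 IH) (Lpe (K36.f272531 IH) (Lpr_gt (K18.f37556 IH) (Lpe (K12.f35462 IH) (Lpr_bt (K41.f37560 IH) (Lpr_gt (K41.f272534 IH) (Lpr_ct (f272537 IH) (Lpn (LP (LK LD1_c16 LD2_c26 LD3_c30)))))))))))))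
theorem f578693 : Led Lsl_ff (LP (LK LD1_c14 LD2_c25 LD3_c42)) = (LP (LK LD1_c16 LD2_c26 LD3_c30)) :=
  Lgr Lrot52 (Lpr_at (f578689 IH) (Lpe (K42.f568847 IH) (Lpr_gf (f571277 IH) (Lpn (LP (LK LD1_c16 LD2_c26 LD3_c30))))))
theorem f578699 : Led Lsl_ft (LP (LK LD1_c14 LD2_c25 LD3_c42)) = (LP (LK LD1_c16 LD2_c26 LD3_c30)) :=
  Lgr Lrot48 (Lpr_ff (f578693 IH) (Lpn (LP (LK LD1_c16 LD2_c26 LD3_c30))))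
theorem f540505 : Led Lsl_bt (LP (LK LD1_c24 LD2_c5 LD3_c37)) = (LP (LK LD1_c14 LD2_c25 LD3_c42)) :=
  Lre_b IH (LK LD1_c24 LD2_c5 LD3_c37) (LK LD1_c14 LD2_c25 LD3_c42) Lrfl Lrfl
theorem f334716 : Led Lsl_ft (LP (LK LD1_c4 LD2_c39 LD3_c27)) = (LP (LK LD1_c2 LD2_c58 LD3_c2)) :=
  Lgr Lrot4 (Lpr_cf (K9.f176518 IH) (Lpr_ff (K36.f334710 IH) (Lpr_cf (K11.f186053 IH) (Lpn (LP (LK LD1_c2 LD2_c58 LD3_c2))))))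
theorem f563070 : Led Lsl_df (LP (LK LD1_c2 LD2_c52 LD3_c36)) = (LP (LK LD1_c2 LD2_c58 LD3_c2)) :=
  Lgr Lrot78 (Lpr_ft (K40.f563068 IH) (Lpr_dt (K10.f176697 IH) (Lpr_ft (f334716 IH) (Lpn (LP (LK LD1_c2 LD2_c58 LD3_c2))))))
theorem f176406 : Led Lsl_ct (LP (LK LD1_c6 LD2_c1 LD3_c38)) = (LP (LK LD1_c2 LD2_c58 LD3_c4)) :=
  Lre_c IH (LK LD1_c6 LD2_c1 LD3_c38) (LK LD1_c2 LD2_c58 LD3_c4) Lrfl Lrfl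
theorem f176405 : Led Lsl_dt (LP (LK LD1_c11 LD2_c47 LD3_c61)) = (LP (LK LD1_c6 LD2_c1 LD3_c38)) :=
  Lre_d IH (LK LD1_c11 LD2_c47 LD3_c61) (LK LD1_c6 LD2_c1 LD3_c38) Lrfl Lrfl
theorem f176485 : Led Lsl_gt (LP (LK LD1_c20 LD2_c50 LD3_c31)) = (LP (LK LD1_c11 LD2_c47 LD3_c61)) :=
  Lre_g IH (LK LD1_c20 LD2_c50 LD3_c31) (LK LD1_c11 LD2_c47 LD3_c61) Lrfl Lrfl
theorem f571230 : Led Lsl_bt (LP (LK LD1_c16 LD2_c26 LD3_c30)) = (LP (LK LD1_c20 LD2_c50 LD3_c31)) :=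
  Lgr Lrot178 (Lpe (f272537 IH) (Lpr_df (K42.f571214 IH) (Lpe (K42.f570102 IH) (Lpe (K42.f211626 IH) (Lpr_cf (K18.f211618 IH) (Lpr_df (K12.f28540 IH) (Lpr_gf (K10.f56072 IH) (Lpr_bf (K12.f198071 IH) (Lpr_cf (K12.f211713 IH) (Lpe (K12.f211739 IH) (Lpe (K12.f26579 IH) (Lpe (K40.f211757 IH) (Lpe (K40.f211758 IH) (Lpr_df (f563070 IH) (Lpe (K11.f175396 IH) (Lpe (K11.f175786 IH) (Lpe (f176406 IH) (Lpe (f176405 IH) (Lpe (f176485 IH) (Lpn (LP (LK LD1_c20 LD2_c50 LD3_c31))))))))))))))))))))))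
theorem f578703 : Led Lsl_ff (LP (LK LD1_c24 LD2_c5 LD3_c37)) = (LP (LK LD1_c20 LD2_c50 LD3_c31)) :=
  Lgr Lrot25 (Lpr_bt (f540505 IH) (Lpr_ft (f578699 IH) (Lpr_bt (f571230 IH) (Lpn (LP (LK LD1_c20 LD2_c50 LD3_c31))))))
theorem f578740 : Led Lsl_ft (LP (LK LD1_c24 LD2_c5 LD3_c37)) = (LP (LK LD1_c20 LD2_c50 LD3_c31)) :=
  Lgr Lrot48 (Lpr_ff (f578703 IH) (Lpn (LP (LK LD1_c20 LD2_c50 LD3_c31))))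
theorem f540499 : Led Lsl_bt (LP (LK LD1_c14 LD2_c25 LD3_c42)) = (LP (LK LD1_c24 LD2_c5 LD3_c37)) :=
  Lre_b IH (LK LD1_c14 LD2_c25 LD3_c42) (LK LD1_c24 LD2_c5 LD3_c37) Lrfl Lrfl
theorem f578757 : Led Lsl_bf (LP (LK LD1_c16 LD2_c26 LD3_c30)) = (LP (LK LD1_c20 LD2_c50 LD3_c31)) :=
  Lgr Lrot61 (Lpe (f578693 IH) (Lpr_bt (f540499 IH) (Lpr_ft (f578740 IH) (Lpn (LP (LK LD1_c20 LD2_c50 LD3_c31))))))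
theorem f566045 : Led Lsl_ct (LP (LK LD1_c16 LD2_c26 LD3_c30)) = (LP (LK LD1_c8 LD2_c47 LD3_c12)) :=
  Lre_c IH (LK LD1_c16 LD2_c26 LD3_c30) (LK LD1_c8 LD2_c47 LD3_c12) Lrfl Lrfl
theorem f571216 : Led Lsl_bt (LP (LK LD1_c8 LD2_c47 LD3_c12)) = (LP (LK LD1_c16 LD2_c26 LD3_c29)) :=
  Lre_b IH (LK LD1_c8 LD2_c47 LD3_c12) (LK LD1_c16 LD2_c26 LD3_c29) Lrfl Lrfl
theorem f176486 : Led Lsl_ct (LP (LK LD1_c29 LD2_c42 LD3_c10)) = (LP (LK LD1_c20 LD2_c50 LD3_c31)) :=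
  Lre_c IH (LK LD1_c29 LD2_c42 LD3_c10) (LK LD1_c20 LD2_c50 LD3_c31) Lrfl Lrfl
theorem f578763 : Led Lsl_bt (LP (LK LD1_c26 LD2_c23 LD3_c47)) = (LP (LK LD1_c29 LD2_c42 LD3_c10)) :=
  Lgr Lrot128 (Lpe (K41.f272536 IH) (Lpe (f571216 IH) (Lpe (f566045 IH) (Lpr_bf (f578757 IH) (Lpe (f176486 IH) (Lpn (LP (LK LD1_c29 LD2_c42 LD3_c10))))))))
theorem f540503 : Led Lsl_bt (LP (LK LD1_c17 LD2_c1 LD3_c18)) = (LP (LK LD1_c26 LD2_c56 LD3_c30)) :=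
  Lre_b IH (LK LD1_c17 LD2_c1 LD3_c18) (LK LD1_c26 LD2_c56 LD3_c30) Lrfl Lrfl
theorem f540504 : Led Lsl_bt (LP (LK LD1_c7 LD2_c39 LD3_c18)) = (LP (LK LD1_c14 LD2_c25 LD3_c35)) :=
  Lre_b IH (LK LD1_c7 LD2_c39 LD3_c18) (LK LD1_c14 LD2_c25 LD3_c35) Lrfl Lrfl
theorem f540506 : Led Lsl_ct (LP (LK LD1_c26 LD2_c56 LD3_c30)) = (LP (LK LD1_c24 LD2_c5 LD3_c37)) :=
  Lgr Lrot83 (Lpe (f540503 IH) (Lpr_cf (K39.f540501 IH) (Lpe (f540504 IH) (Lpe (f97176 IH) (Lpe (f540505 IH) (Lpn (LP (LK LD1_c24 LD2_c5 LD3_c37))))))))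
theorem f578759 : Led Lsl_ct (LP (LK LD1_c20 LD2_c50 LD3_c31)) = (LP (LK LD1_c29 LD2_c42 LD3_c10)) :=
  Lre_c IH (LK LD1_c20 LD2_c50 LD3_c31) (LK LD1_c29 LD2_c42 LD3_c10) Lrfl Lrfl
theorem f578760 : Led Lsl_ff (LP (LK LD1_c26 LD2_c56 LD3_c30)) = (LP (LK LD1_c29 LD2_c42 LD3_c10)) :=
  Lgr Lrot23 (Lpr_ct (f540506 IH) (Lpr_ft (f578740 IH) (Lpr_ct (f578759 IH) (Lpn (LP (LK LD1_c29 LD2_c42 LD3_c10))))))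
theorem f420797 : Led Lsl_bt (LP (LK LD1_c26 LD2_c56 LD3_c30)) = (LP (LK LD1_c17 LD2_c1 LD3_c18)) :=
  Lre_b IH (LK LD1_c26 LD2_c56 LD3_c30) (LK LD1_c17 LD2_c1 LD3_c18) Lrfl Lrfl
theorem f578771 : Led Lsl_ff (LP (LK LD1_c26 LD2_c23 LD3_c47)) = (LP (LK LD1_c17 LD2_c1 LD3_c18)) :=
  Lgr Lrot25 (Lpr_bt (f578763 IH) (Lpe (f578760 IH) (Lpr_bt (f420797 IH) (Lpn (LP (LK LD1_c17 LD2_c1 LD3_c18))))))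
theorem f578777 : Led Lsl_at (LP (LK LD1_c26 LD2_c23 LD3_c47)) = (LP (LK LD1_c17 LD2_c1 LD3_c17)) :=
  Lgr Lrot26 (Lpr_ff (f578771 IH) (Lpr_gt (K39.f420777 IH) (Lpr_gt (f420778 IH) (Lpn (LP (LK LD1_c17 LD2_c1 LD3_c17))))))
theorem f578779 : Led Lsl_af (LP (LK LD1_c26 LD2_c23 LD3_c47)) = (LP (LK LD1_c17 LD2_c1 LD3_c17)) :=
  Lgr Lrot0 (Lpr_at (f578777 IH) (Lpn (LP (LK LD1_c17 LD2_c1 LD3_c17))))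
theorem f578781 : Led Lsl_ft (LP (LK LD1_c21 LD2_c15 LD3_c48)) = (LP (LK LD1_c17 LD2_c1 LD3_c17)) :=
  Lgr Lrot2 (Lpr_gt (f573121 IH) (Lpe (K41.f420817 IH) (Lpr_af (f578779 IH) (Lpn (LP (LK LD1_c17 LD2_c1 LD3_c17))))))
theorem f578783 : Led Lsl_df (LP (LK LD1_c16 LD2_c26 LD3_c29)) = (LP (LK LD1_c9 LD2_c44 LD3_c46)) :=
  Lgr Lrot177 (Lpr_ct (K41.f272536 IH) (Lpr_af (f578779 IH) (Lpe (f578781 IH) (Lpr_dt (K42.f570141 IH) (Lpr_ct (K42.f570142 IH) (Lpr_dt (K42.f556384 IH) (Lpr_ct (K42.f556385 IH) (Lpr_dt (K42.f556354 IH) (Lpr_ct (K42.f556386 IH) (Lpn (LP (LK LD1_c9 LD2_c44 LD3_c46))))))))))))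
theorem f71454 : Led Lsl_dt (LP (LK LD1_c9 LD2_c8 LD3_c37)) = (LP (LK LD1_c4 LD2_c36 LD3_c13)) :=
  Lre_d IH (LK LD1_c9 LD2_c8 LD3_c37) (LK LD1_c4 LD2_c36 LD3_c13) Lrfl Lrfl
theorem f420807 : Led Lsl_ct (LP (LK LD1_c17 LD2_c1 LD3_c21)) = (LP (LK LD1_c9 LD2_c8 LD3_c37)) :=
  Lre_c IH (LK LD1_c17 LD2_c1 LD3_c21) (LK LD1_c9 LD2_c8 LD3_c37) Lrfl Lrfl
theorem f568784 : Led Lsl_gt (LP (LK LD1_c9 LD2_c48 LD3_c11)) = (LP (LK LD1_c16 LD2_c26 LD3_c29)) :=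
  Lgr Lrot9 (Lpe (K42.f72430 IH) (Lpe (K42.f568774 IH) (Lpe (K38.f161352 IH) (Lpr_gt (K42.f568778 IH) (Lpr_ct (K41.f71457 IH) (Lpe (f71454 IH) (Lpe (f420807 IH) (Lpe (K41.f420813 IH) (Lpe (K41.f272536 IH) (Lpn (LP (LK LD1_c16 LD2_c26 LD3_c29))))))))))))
theorem f72370 : Led Lsl_gt (LP (LK LD1_c11 LD2_c33 LD3_c8)) = (LP (LK LD1_c5 LD2_c53 LD3_c33)) :=
  Lre_g IH (LK LD1_c11 LD2_c33 LD3_c8) (LK LD1_c5 LD2_c53 LD3_c33) Lrfl Lrfl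
theorem f559219 : Led Lsl_ft (LP (LK LD1_c3 LD2_c5 LD3_c20)) = (LP (LK LD1_c3 LD2_c49 LD3_c7)) :=
  Lgr Lrot54 (Lpr_df (K41.f559199 IH) (Lpe (K3.f88504 IH) (Lpe (K40.f87932 IH) (Lpn (LP (LK LD1_c3 LD2_c49 LD3_c7))))))
theorem f548940 : Led Lsl_et (LP (LK LD1_c6 LD2_c16 LD3_c28)) = (LP (LK LD1_c3 LD2_c5 LD3_c20)) :=
  Lre_e IH (LK LD1_c6 LD2_c16 LD3_c28) (LK LD1_c3 LD2_c5 LD3_c20) Lrfl Lrfl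
theorem f570117 : Led Lsl_ft (LP (LK LD1_c12 LD2_c10 LD3_c4)) = (LP (LK LD1_c6 LD2_c16 LD3_c28)) :=
  Lre_f IH (LK LD1_c12 LD2_c10 LD3_c4) (LK LD1_c6 LD2_c16 LD3_c28) Lrfl Lrfl
theorem f570118 : Led Lsl_et (LP (LK LD1_c9 LD2_c44 LD3_c46)) = (LP (LK LD1_c12 LD2_c10 LD3_c4)) :=
  Lgr Lrot69 (Lpr_ff (K42.f570113 IH) (Lpe (K37.f120282 IH) (Lpe (f559219 IH) (Lpe (f548940 IH) (Lpe (f570117 IH) (Lpn (LP (LK LD1_c12 LD2_c10 LD3_c4))))))))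
theorem f450396 : Led Lsl_ct (LP (LK LD1_c12 LD2_c10 LD3_c59)) = (LP (LK LD1_c6 LD2_c17 LD3_c6)) :=
  Lre_c IH (LK LD1_c12 LD2_c10 LD3_c59) (LK LD1_c6 LD2_c17 LD3_c6) Lrfl Lrfl
theorem f571886 : Led Lsl_ef (LP (LK LD1_c12 LD2_c10 LD3_c59)) = (LP (LK LD1_c8 LD2_c37 LD3_c42)) :=
  Lgr Lrot28 (Lpr_ct (f450396 IH) (Lpr_et (K42.f571882 IH) (Lpr_ct (K40.f225662 IH) (Lpn (LP (LK LD1_c8 LD2_c37 LD3_c42))))))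
theorem f578789 : Led Lsl_gf (LP (LK LD1_c12 LD2_c10 LD3_c59)) = (LP (LK LD1_c12 LD2_c10 LD3_c4)) :=
  Lgr Lrot141 (Lpr_ef (f571886 IH) (Lpe (K40.f557109 IH) (Lpe (K40.f563699 IH) (Lpe (K40.f551973 IH) (Lpr_et (K40.f563682 IH) (Lpr_gt (K40.f563709 IH) (Lpr_dt (K42.f72430 IH) (Lpr_gt (f568784 IH) (Lpr_df (f578783 IH) (Lpr_et (f570118 IH) (Lpn (LP (LK LD1_c12 LD2_c10 LD3_c4)))))))))))))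
theorem f578791 : Led Lsl_df (LP (LK LD1_c11 LD2_c33 LD3_c8)) = (LP (LK LD1_c12 LD2_c10 LD3_c59)) :=
  Lgr Lrot135 (Lpr_gt (f72370 IH) (Lpe (K39.f72284 IH) (Lpr_et (K2.f72266 IH) (Lpe (K2.f72405 IH) (Lpe (K42.f72429 IH) (Lpr_dt (K42.f72430 IH) (Lpr_gt (f568784 IH) (Lpr_df (f578783 IH) (Lpr_et (f570118 IH) (Lpe (f578789 IH) (Lpn (LP (LK LD1_c12 LD2_c10 LD3_c59)))))))))))))
theorem f578793 : Led Lsl_dt (LP (LK LD1_c11 LD2_c33 LD3_c8)) = (LP (LK LD1_c12 LD2_c10 LD3_c59)) :=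
  Lgr Lrot42 (Lpr_df (f578791 IH) (Lpn (LP (LK LD1_c12 LD2_c10 LD3_c59))))
theorem f559770 : Led Lsl_dt (LP (LK LD1_c8 LD2_c0 LD3_c11)) = (LP (LK LD1_c15 LD2_c4 LD3_c51)) :=
  Lre_d IH (LK LD1_c8 LD2_c0 LD3_c11) (LK LD1_c15 LD2_c4 LD3_c51) Lrfl Lrfl
theorem f559783 : Led Lsl_ff (LP (LK LD1_c9 LD2_c8 LD3_c4)) = (LP (LK LD1_c15 LD2_c4 LD3_c51)) :=
  Lgr Lrot19 (Lpr_dt (K39.f37851 IH) (Lpr_ft (K42.f559781 IH) (Lpr_dt (f559770 IH) (Lpn (LP (LK LD1_c15 LD2_c4 LD3_c51))))))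
theorem f208628 : Led Lsl_at (LP (LK LD1_c9 LD2_c8 LD3_c4)) = (LP (LK LD1_c5 LD2_c53 LD3_c33)) :=
  Lgr Lrot100 (Lpr_af (K39.f208626 IH) (Lpn (LP (LK LD1_c5 LD2_c53 LD3_c33))))
theorem f559787 : Led Lsl_gf (LP (LK LD1_c11 LD2_c33 LD3_c8)) = (LP (LK LD1_c15 LD2_c4 LD3_c51)) :=
  Lgr Lrot47 (Lpr_gt (f72370 IH) (Lpe (f208628 IH) (Lpr_ff (f559783 IH) (Lpn (LP (LK LD1_c15 LD2_c4 LD3_c51))))))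
theorem f450395 : Led Lsl_ct (LP (LK LD1_c6 LD2_c17 LD3_c6)) = (LP (LK LD1_c12 LD2_c10 LD3_c59)) :=
  Lre_c IH (LK LD1_c6 LD2_c17 LD3_c6) (LK LD1_c12 LD2_c10 LD3_c59) Lrfl Lrfl
theorem f578816 : Led Lsl_dt (LP (LK LD1_c5 LD2_c52 LD3_c60)) = (LP (LK LD1_c6 LD2_c17 LD3_c6)) :=
  Lgr Lrot105 (Lpr_gf (K40.f559692 IH) (Lpe (K40.f549838 IH) (Lpr_gf (K42.f571888 IH) (Lpe (K41.f210714 IH) (Lpr_gt (f559792 IH) (Lpr_dt (f559770 IH) (Lpe (f559787 IH) (Lpr_dt (f578793 IH) (Lpe (f450395 IH) (Lpn (LP (LK LD1_c6 LD2_c17 LD3_c6))))))))))))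
theorem f571877 : Led Lsl_bt (LP (LK LD1_c6 LD2_c17 LD3_c6)) = (LP (LK LD1_c12 LD2_c10 LD3_c58)) :=
  Lre_b IH (LK LD1_c6 LD2_c17 LD3_c6) (LK LD1_c12 LD2_c10 LD3_c58) Lrfl Lrfl
theorem f578818 : Led Lsl_df (LP (LK LD1_c11 LD2_c32 LD3_c10)) = (LP (LK LD1_c12 LD2_c10 LD3_c58)) :=
  Lgr Lrot12 (Lpr_bt (K40.f210713 IH) (Lpr_dt (f578816 IH) (Lpr_bt (f571877 IH) (Lpn (LP (LK LD1_c12 LD2_c10 LD3_c58))))))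
theorem f538605 : Led Lsl_ct (LP (LK LD1_c9 LD2_c10 LD3_c55)) = (LP (LK LD1_c4 LD2_c37 LD3_c39)) :=
  Lre_c IH (LK LD1_c9 LD2_c10 LD3_c55) (LK LD1_c4 LD2_c37 LD3_c39) Lrfl Lrfl
theorem f570320 : Led Lsl_gf (LP (LK LD1_c11 LD2_c8 LD3_c8)) = (LP (LK LD1_c8 LD2_c49 LD3_c22)) :=
  Lgr Lrot147 (Lpr_ct (K42.f568601 IH) (Lpr_gt (K42.f570318 IH) (Lpr_ct (f538605 IH) (Lpe (K42.f538012 IH) (Lpq (K35.f538005 IH) (Lpe (K35.f494527 IH) (Lpr_gf (K40.f557783 IH) (Lpe (K37.f112854 IH) (Lpr_gf (K40.f557781 IH) (Lpe (K42.f139023 IH) (Lpn (LP (LK LD1_c8 LD2_c49 LD3_c22)))))))))))))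
theorem f536501 : Led Lsl_dt (LP (LK LD1_c5 LD2_c38 LD3_c24)) = (LP (LK LD1_c11 LD2_c8 LD3_c8)) :=
  Lre_d IH (LK LD1_c5 LD2_c38 LD3_c24) (LK LD1_c11 LD2_c8 LD3_c8) Lrfl Lrfl
theorem f380370 : Led Lsl_ct (LP (LK LD1_c8 LD2_c42 LD3_c61)) = (LP (LK LD1_c11 LD2_c7 LD3_c29)) :=
  Lgr Lrot59 (Lpr_cf (K41.f380367 IH) (Lpn (LP (LK LD1_c11 LD2_c7 LD3_c29))))
theorem f578824 : Led Lsl_gt (LP (LK LD1_c11 LD2_c7 LD3_c29)) = (LP (LK LD1_c12 LD2_c10 LD3_c58)) :=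
  Lgr Lrot94 (Lpe (f380370 IH) (Lpr_gt (K41.f173308 IH) (Lpr_dt (K38.f173318 IH) (Lpr_gt (K38.f547577 IH) (Lpr_dt (K39.f545141 IH) (Lpe (K40.f24490 IH) (Lpe (K41.f545220 IH) (Lpe (K41.f563394 IH) (Lpr_df (f578818 IH) (Lpn (LP (LK LD1_c12 LD2_c10 LD3_c58))))))))))))
theorem f578826 : Led Lsl_et (LP (LK LD1_c5 LD2_c38 LD3_c24)) = (LP (LK LD1_c11 LD2_c7 LD3_c29)) :=
  Lgr Lrot121 (Lpr_dt (f536501 IH) (Lpr_gf (f570320 IH) (Lpe (K39.f139009 IH) (Lpr_et (K42.f138908 IH) (Lpe (K6.f35239 IH) (Lpe (K38.f545151 IH) (Lpr_dt (K38.f545256 IH) (Lpe (K41.f563394 IH) (Lpr_df (f578818 IH) (Lpe (f578824 IH) (Lpn (LP (LK LD1_c11 LD2_c7 LD3_c29)))))))))))))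
theorem f422736 : Led Lsl_bt (LP (LK LD1_c5 LD2_c38 LD3_c24)) = (LP (LK LD1_c2 LD2_c45 LD3_c3)) :=
  Lre_b IH (LK LD1_c5 LD2_c38 LD3_c24) (LK LD1_c2 LD2_c45 LD3_c3) Lrfl Lrfl
theorem f577754 : Led Lsl_ft (LP (LK LD1_c11 LD2_c7 LD3_c28)) = (LP (LK LD1_c5 LD2_c38 LD3_c24)) :=
  Lgr Lrot75 (Lpe (f577753 IH) (Lpr_ff (f577751 IH) (Lpe (f422736 IH) (Lpn (LP (LK LD1_c5 LD2_c38 LD3_c24))))))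
theorem f577534 : Led Lsl_cf (LP (LK LD1_c5 LD2_c48 LD3_c12)) = (LP (LK LD1_c4 LD2_c24 LD3_c2)) :=
  Lgr Lrot169 (Lpe (K42.f558885 IH) (Lpe (K38.f547077 IH) (Lpr_df (K42.f547075 IH) (Lpe (K28.f116571 IH) (Lpr_gf (K36.f116626 IH) (Lpe (K4.f109600 IH) (Lpe (K3.f10785 IH) (Lpe (K38.f92447 IH) (Lpr_gt (f577528 IH) (Lpn (LP (LK LD1_c4 LD2_c24 LD3_c2))))))))))))
theorem f577804 : Led Lsl_ef (LP (LK LD1_c11 LD2_c7 LD3_c28)) = (LP (LK LD1_c5 LD2_c48 LD3_c12)) :=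
  Lgr Lrot28 (Lpr_ct (f577784 IH) (Lpr_et (f137668 IH) (Lpe (f577534 IH) (Lpn (LP (LK LD1_c5 LD2_c48 LD3_c12))))))
theorem f537846 : Led Lsl_dt (LP (LK LD1_c5 LD2_c48 LD3_c40)) = (LP (LK LD1_c2 LD2_c50 LD3_c22)) :=
  Lre_d IH (LK LD1_c5 LD2_c48 LD3_c40) (LK LD1_c2 LD2_c50 LD3_c22) Lrfl Lrfl
theorem f562669 : Led Lsl_dt (LP (LK LD1_c5 LD2_c48 LD3_c12)) = (LP (LK LD1_c11 LD2_c25 LD3_c60)) :=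
  Lre_d IH (LK LD1_c5 LD2_c48 LD3_c12) (LK LD1_c11 LD2_c25 LD3_c60) Lrfl Lrfl
theorem f571795 : Led Lsl_ft (LP (LK LD1_c2 LD2_c50 LD3_c22)) = (LP (LK LD1_c5 LD2_c48 LD3_c12)) :=
  Lgr Lrot54 (Lpe (f537846 IH) (Lpr_ff (K42.f571791 IH) (Lpe (f562669 IH) (Lpn (LP (LK LD1_c5 LD2_c48 LD3_c12))))))
theorem f571468 : Led Lsl_ef (LP (LK LD1_c2 LD2_c50 LD3_c22)) = (LP (LK LD1_c5 LD2_c38 LD3_c21)) :=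
  Lgr Lrot29 (Lpr_bt (K40.f210298 IH) (Lpr_et (K42.f496083 IH) (Lpq (K42.f571464 IH) (Lpr_bt (f571467 IH) (Lpn (LP (LK LD1_c5 LD2_c38 LD3_c21)))))))
theorem f578830 : Led Lsl_ff (LP (LK LD1_c5 LD2_c38 LD3_c21)) = (LP (LK LD1_c11 LD2_c7 LD3_c29)) :=
  Lgr Lrot72 (Lpe (f571468 IH) (Lpr_ft (f571795 IH) (Lpe (f577804 IH) (Lpr_ft (f577754 IH) (Lpr_et (f578826 IH) (Lpn (LP (LK LD1_c11 LD2_c7 LD3_c29))))))))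
theorem f578832 : Led Lsl_at (LP (LK LD1_c5 LD2_c38 LD3_c21)) = (LP (LK LD1_c11 LD2_c8 LD3_c0)) :=
  Lre_a IH (LK LD1_c5 LD2_c38 LD3_c21) (LK LD1_c11 LD2_c8 LD3_c0) Lrfl Lrfl
theorem f578837 : Led Lsl_gf (LP (LK LD1_c11 LD2_c8 LD3_c0)) = (LP (LK LD1_c12 LD2_c10 LD3_c58)) :=
  Lgr Lrot76 (Lpe (f578832 IH) (Lpr_ff (f578830 IH) (Lpr_gt (f578824 IH) (Lpn (LP (LK LD1_c12 LD2_c10 LD3_c58))))))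
theorem f570236 : Led Lsl_bt (LP (LK LD1_c5 LD2_c38 LD3_c43)) = (LP (LK LD1_c9 LD2_c51 LD3_c22)) :=
  Lgr Lrot127 (Lpr_bf (K42.f570232 IH) (Lpn (LP (LK LD1_c9 LD2_c51 LD3_c22))))
theorem f556360 : Led Lsl_gf (LP (LK LD1_c4 LD2_c7 LD3_c14)) = (LP (LK LD1_c5 LD2_c38 LD3_c35)) :=
  Lgr Lrot47 (Lpr_gt (K41.f556358 IH) (Lpe (K39.f211818 IH) (Lpe (K42.f450389 IH) (Lpn (LP (LK LD1_c5 LD2_c38 LD3_c35))))))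
theorem f570139 : Led Lsl_gt (LP (LK LD1_c11 LD2_c27 LD3_c40)) = (LP (LK LD1_c9 LD2_c44 LD3_c46)) :=
  Lgr Lrot46 (Lpr_gf (K42.f556362 IH) (Lpr_ft (K42.f556373 IH) (Lpr_at (K42.f570132 IH) (Lpn (LP (LK LD1_c9 LD2_c44 LD3_c46))))))
theorem f570176 : Led Lsl_bf (LP (LK LD1_c6 LD2_c16 LD3_c32)) = (LP (LK LD1_c4 LD2_c56 LD3_c43)) :=
  Lgr Lrot165 (Lpr_gt (K42.f570170 IH) (Lpe (K41.f566824 IH) (Lpr_gt (K41.f566818 IH) (Lpe (K41.f564279 IH) (Lpr_bt (K38.f450257 IH) (Lpe (f556360 IH) (Lpr_bf (K42.f556060 IH) (Lpr_ct (K42.f176630 IH) (Lpr_gt (f570139 IH) (Lpe (K42.f556386 IH) (Lpn (LP (LK LD1_c4 LD2_c56 LD3_c43)))))))))))))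
theorem f572661 : Led Lsl_cf (LP (LK LD1_c13 LD2_c38 LD3_c28)) = (LP (LK LD1_c20 LD2_c0 LD3_c36)) :=
  Lgr Lrot125 (Lpr_gt (K42.f572657 IH) (Lpe (K42.f422739 IH) (Lpr_bt (f570236 IH) (Lpe (K42.f570172 IH) (Lpr_bf (f570176 IH) (Lpr_ct (K42.f556386 IH) (Lpr_gt (K42.f569279 IH) (Lpe (K42.f450419 IH) (Lpe (f569258 IH) (Lpr_gt (K42.f557742 IH) (Lpn (LP (LK LD1_c20 LD2_c0 LD3_c36)))))))))))))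
theorem f578845 : Led Lsl_bf (LP (LK LD1_c11 LD2_c8 LD3_c0)) = (LP (LK LD1_c20 LD2_c0 LD3_c36)) :=
  Lgr Lrot34 (Lpr_gf (f578837 IH) (Lpe (f571877 IH) (Lpr_ct (f450395 IH) (Lpr_gf (f578789 IH) (Lpe (K42.f569129 IH) (Lpr_gf (K42.f570172 IH) (Lpe (f570236 IH) (Lpr_ct (K42.f422739 IH) (Lpe (K42.f572657 IH) (Lpr_cf (f572661 IH) (Lpn (LP (LK LD1_c20 LD2_c0 LD3_c36)))))))))))))
theorem f537987 : Led Lsl_dt (LP (LK LD1_c4 LD2_c37 LD3_c22)) = (LP (LK LD1_c2 LD2_c15 LD3_c52)) :=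
  Lre_d IH (LK LD1_c4 LD2_c37 LD3_c22) (LK LD1_c2 LD2_c15 LD3_c52) Lrfl Lrfl
theorem f568863 : Led Lsl_gf (LP (LK LD1_c13 LD2_c38 LD3_c28)) = (LP (LK LD1_c9 LD2_c51 LD3_c26)) :=
  Lgr Lrot144 (Lpr_dt (K42.f568859 IH) (Lpe (K42.f568852 IH) (Lpr_dt (f538278 IH) (Lpe (K37.f537985 IH) (Lpe (f537987 IH) (Lpe (K42.f568610 IH) (Lpe (K42.f536497 IH) (Lpr_gf (K42.f568616 IH) (Lpe (K36.f186112 IH) (Lpn (LP (LK LD1_c9 LD2_c51 LD3_c26))))))))))))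
theorem f450439 : Led Lsl_gf (LP (LK LD1_c9 LD2_c0 LD3_c27)) = (LP (LK LD1_c5 LD2_c38 LD3_c34)) :=
  Lgr Lrot76 (Lpe (K40.f211825 IH) (Lpr_ff (K41.f450266 IH) (Lpr_gt (K40.f24546 IH) (Lpn (LP (LK LD1_c5 LD2_c38 LD3_c34))))))
theorem f562621 : Led Lsl_cf (LP (LK LD1_c5 LD2_c38 LD3_c34)) = (LP (LK LD1_c6 LD2_c17 LD3_c12)) :=
  Lgr Lrot11 (Lpr_ct (K40.f562618 IH) (Lpn (LP (LK LD1_c6 LD2_c17 LD3_c12))))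
theorem f562620 : Led Lsl_bt (LP (LK LD1_c6 LD2_c17 LD3_c12)) = (LP (LK LD1_c12 LD2_c11 LD3_c4)) :=
  Lre_b IH (LK LD1_c6 LD2_c17 LD3_c12) (LK LD1_c12 LD2_c11 LD3_c4) Lrfl Lrfl
theorem f578853 : Led Lsl_gt (LP (LK LD1_c11 LD2_c8 LD3_c0)) = (LP (LK LD1_c12 LD2_c11 LD3_c4)) :=
  Lgr Lrot164 (Lpr_bf (f578845 IH) (Lpe (f572661 IH) (Lpr_gf (f568863 IH) (Lpe (K38.f175567 IH) (Lpe (K42.f570250 IH) (Lpr_bf (K42.f450352 IH) (Lpe (K40.f211831 IH) (Lpr_gf (f450439 IH) (Lpr_cf (f562621 IH) (Lpr_bt (f562620 IH) (Lpn (LP (LK LD1_c12 LD2_c11 LD3_c4)))))))))))))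
theorem f578822 : Led Lsl_dt (LP (LK LD1_c11 LD2_c32 LD3_c10)) = (LP (LK LD1_c12 LD2_c10 LD3_c58)) :=
  Lgr Lrot42 (Lpr_df (f578818 IH) (Lpn (LP (LK LD1_c12 LD2_c10 LD3_c58))))
theorem f578839 : Led Lsl_ct (LP (LK LD1_c11 LD2_c8 LD3_c0)) = (LP (LK LD1_c8 LD2_c42 LD3_c60)) :=
  Lgr Lrot152 (Lpr_gf (f578837 IH) (Lpe (f578822 IH) (Lpr_gt (K41.f563394 IH) (Lpr_ct (K40.f546090 IH) (Lpr_gt (K40.f541594 IH) (Lpr_ct (K40.f541585 IH) (Lpe (K37.f546673 IH) (Lpe (K40.f545208 IH) (Lpr_gf (f572614 IH) (Lpn (LP (LK LD1_c8 LD2_c42 LD3_c60))))))))))))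
theorem f578855 : Led Lsl_df (LP (LK LD1_c9 LD2_c50 LD3_c43)) = (LP (LK LD1_c12 LD2_c11 LD3_c4)) :=
  Lgr Lrot153 (Lpr_gt (K40.f563386 IH) (Lpr_dt (K40.f553470 IH) (Lpe (K40.f553423 IH) (Lpe (K40.f452839 IH) (Lpr_gf (K40.f559839 IH) (Lpr_df (K38.f545123 IH) (Lpr_gf (f572614 IH) (Lpe (f578839 IH) (Lpr_gt (f578853 IH) (Lpn (LP (LK LD1_c12 LD2_c11 LD3_c4))))))))))))
theorem f578857 : Led Lsl_cf (LP (LK LD1_c11 LD2_c8 LD3_c0)) = (LP (LK LD1_c8 LD2_c42 LD3_c60)) :=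
  Lgr Lrot166 (Lpr_gt (f578853 IH) (Lpe (f578855 IH) (Lpr_gt (K40.f563386 IH) (Lpr_dt (K40.f553470 IH) (Lpr_ct (K40.f198510 IH) (Lpe (K40.f452839 IH) (Lpr_gf (K40.f559839 IH) (Lpr_df (K38.f545123 IH) (Lpr_gf (f572614 IH) (Lpn (LP (LK LD1_c8 LD2_c42 LD3_c60))))))))))))
theorem f563285 : Led Lsl_cf (LP (LK LD1_c16 LD2_c22 LD3_c22)) = (LP (LK LD1_c20 LD2_c36 LD3_c48)) :=
  Lgr Lrot11 (Lpr_ct (K41.f563283 IH) (Lpn (LP (LK LD1_c20 LD2_c36 LD3_c48))))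
theorem f547723 : Led Lsl_ct (LP (LK LD1_c5 LD2_c46 LD3_c49)) = (LP (LK LD1_c8 LD2_c42 LD3_c55)) :=
  Lgr Lrot15 (Lpe (K38.f99681 IH) (Lpr_cf (K38.f547713 IH) (Lpe (K39.f385380 IH) (Lpn (LP (LK LD1_c8 LD2_c42 LD3_c55))))))
theorem f407002 : Led Lsl_ct (LP (LK LD1_c26 LD2_c17 LD3_c21)) = (LP (LK LD1_c16 LD2_c19 LD3_c28)) :=
  Lre_c IH (LK LD1_c26 LD2_c17 LD3_c21) (LK LD1_c16 LD2_c19 LD3_c28) Lrfl Lrfl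
theorem f546470 : Led Lsl_et (LP (LK LD1_c10 LD2_c16 LD3_c13)) = (LP (LK LD1_c5 LD2_c12 LD3_c59)) :=
  Lre_e IH (LK LD1_c10 LD2_c16 LD3_c13) (LK LD1_c5 LD2_c12 LD3_c59) Lrfl Lrfl
theorem f549859 : Led Lsl_dt (LP (LK LD1_c10 LD2_c16 LD3_c13)) = (LP (LK LD1_c16 LD2_c22 LD3_c22)) :=
  Lgr Lrot56 (Lpr_et (f546470 IH) (Lpr_gt (f193995 IH) (Lpq (K38.f537896 IH) (Lpe (K38.f506318 IH) (Lpr_dt (K4.f116806 IH) (Lpr_gt (K8.f117678 IH) (Lpr_df (K8.f163017 IH) (Lpr_et (K38.f163021 IH) (Lpr_gt (K38.f549851 IH) (Lpr_dt (K41.f99756 IH) (Lpr_gt (K41.f545922 IH) (Lpn (LP (LK LD1_c16 LD2_c22 LD3_c22))))))))))))))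
theorem f574713 : Led Lsl_gf (LP (LK LD1_c11 LD2_c39 LD3_c31)) = (LP (LK LD1_c10 LD2_c16 LD3_c13)) :=
  Lgr Lrot147 (Lpr_ct (f569395 IH) (Lpr_gt (f574702 IH) (Lpr_ct (f547723 IH) (Lpe (f553254 IH) (Lpe (f407002 IH) (Lpr_gf (f559938 IH) (Lpe (f99770 IH) (Lpe (K41.f101325 IH) (Lpe (f549859 IH) (Lpn (LP (LK LD1_c10 LD2_c16 LD3_c13))))))))))))
theorem f574715 : Led Lsl_df (LP (LK LD1_c10 LD2_c16 LD3_c13)) = (LP (LK LD1_c16 LD2_c22 LD3_c22)) :=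
  Lgr Lrot155 (Lpe (f574713 IH) (Lpr_ct (f569395 IH) (Lpr_gt (f574702 IH) (Lpr_ct (f547723 IH) (Lpr_dt (K39.f385381 IH) (Lpe (f407002 IH) (Lpr_gf (f559938 IH) (Lpe (f99770 IH) (Lpe (K41.f101325 IH) (Lpn (LP (LK LD1_c16 LD2_c22 LD3_c22))))))))))))
theorem f578859 : Led Lsl_cf (LP (LK LD1_c10 LD2_c16 LD3_c13)) = (LP (LK LD1_c12 LD2_c11 LD3_c4)) :=
  Lgr Lrot99 (Lpr_df (f574715 IH) (Lpr_cf (f563285 IH) (Lpe (K41.f545193 IH) (Lpe (K40.f198266 IH) (Lpe (K38.f547577 IH) (Lpe (K38.f173318 IH) (Lpr_gt (f173307 IH) (Lpe (f578857 IH) (Lpr_gt (f578853 IH) (Lpn (LP (LK LD1_c12 LD2_c11 LD3_c4))))))))))))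
theorem f186029 : Led Lsl_bt (LP (LK LD1_c12 LD2_c11 LD3_c4)) = (LP (LK LD1_c6 LD2_c17 LD3_c12)) :=
  Lre_b IH (LK LD1_c12 LD2_c11 LD3_c4) (LK LD1_c6 LD2_c17 LD3_c12) Lrfl Lrfl
theorem f161927 : Led Lsl_dt (LP (LK LD1_c5 LD2_c57 LD3_c8)) = (LP (LK LD1_c2 LD2_c54 LD3_c50)) :=
  Lre_d IH (LK LD1_c5 LD2_c57 LD3_c8) (LK LD1_c2 LD2_c54 LD3_c50) Lrfl Lrfl
theorem f563598 : Led Lsl_gf (LP (LK LD1_c5 LD2_c57 LD3_c8)) = (LP (LK LD1_c5 LD2_c46 LD3_c49)) :=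
  Lgr Lrot144 (Lpr_dt (f161927 IH) (Lpr_gt (K40.f82179 IH) (Lpr_dt (K40.f82178 IH) (Lpe (K38.f82181 IH) (Lpe (K2.f82145 IH) (Lpe (K40.f82153 IH) (Lpr_df (K41.f563593 IH) (Lpe (K41.f563589 IH) (Lpe (f547723 IH) (Lpn (LP (LK LD1_c5 LD2_c46 LD3_c49))))))))))))
theorem f578865 : Led Lsl_gf (LP (LK LD1_c10 LD2_c16 LD3_c13)) = (LP (LK LD1_c11 LD2_c39 LD3_c34)) :=
  Lgr Lrot129 (Lpr_cf (f578859 IH) (Lpr_bt (f186029 IH) (Lpr_gt (K40.f450409 IH) (Lpe (K40.f450316 IH) (Lpr_ct (f564261 IH) (Lpe (f572616 IH) (Lpe (f385940 IH) (Lpr_bt (f549801 IH) (Lpe (f563598 IH) (Lpr_ct (K40.f562639 IH) (Lpn (LP (LK LD1_c11 LD2_c39 LD3_c34)))))))))))))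
theorem f578867 : Led Lsl_af (LP (LK LD1_c11 LD2_c39 LD3_c31)) = (LP (LK LD1_c15 LD2_c3 LD3_c47)) :=
  Lgr Lrot31 (Lpr_gf (f574713 IH) (Lpr_gf (f578865 IH) (Lpe (K40.f562640 IH) (Lpn (LP (LK LD1_c15 LD2_c3 LD3_c47))))))
theorem f578873 : Led Lsl_et (LP (LK LD1_c11 LD2_c39 LD3_c31)) = (LP (LK LD1_c8 LD2_c43 LD3_c8)) :=
  Lgr Lrot123 (Lpr_af (f578867 IH) (Lpe (K42.f564259 IH) (Lpe (K42.f418579 IH) (Lpn (LP (LK LD1_c8 LD2_c43 LD3_c8))))))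
theorem f452853 : Led Lsl_dt (LP (LK LD1_c2 LD2_c54 LD3_c49)) = (LP (LK LD1_c5 LD2_c57 LD3_c4)) :=
  Lre_d IH (LK LD1_c2 LD2_c54 LD3_c49) (LK LD1_c5 LD2_c57 LD3_c4) Lrfl Lrfl
theorem f452854 : Led Lsl_ct (LP (LK LD1_c5 LD2_c57 LD3_c4)) = (LP (LK LD1_c11 LD2_c39 LD3_c31)) :=
  Lre_c IH (LK LD1_c5 LD2_c57 LD3_c4) (LK LD1_c11 LD2_c39 LD3_c31) Lrfl Lrfl
theorem f161108 : Led Lsl_gt (LP (LK LD1_c8 LD2_c49 LD3_c19)) = (LP (LK LD1_c16 LD2_c29 LD3_c53)) :=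
  Lre_g IH (LK LD1_c8 LD2_c49 LD3_c19) (LK LD1_c16 LD2_c29 LD3_c53) Lrfl Lrfl
theorem f569393 : Led Lsl_df (LP (LK LD1_c11 LD2_c39 LD3_c31)) = (LP (LK LD1_c16 LD2_c29 LD3_c53)) :=
  Lgr Lrot84 (Lpe (f452854 IH) (Lpe (f452853 IH) (Lpe (K42.f452835 IH) (Lpe (K40.f161926 IH) (Lpe (K37.f82182 IH) (Lpe (K37.f82183 IH) (Lpr_gt (K42.f569389 IH) (Lpr_dt (K39.f161087 IH) (Lpr_gt (f161108 IH) (Lpn (LP (LK LD1_c16 LD2_c29 LD3_c53))))))))))))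
theorem f418576 : Led Lsl_et (LP (LK LD1_c8 LD2_c48 LD3_c40)) = (LP (LK LD1_c16 LD2_c28 LD3_c61)) :=
  Lre_e IH (LK LD1_c8 LD2_c48 LD3_c40) (LK LD1_c16 LD2_c28 LD3_c61) Lrfl Lrfl
theorem f418577 : Led Lsl_dt (LP (LK LD1_c16 LD2_c28 LD3_c61)) = (LP (LK LD1_c26 LD2_c26 LD3_c1)) :=
  Lre_d IH (LK LD1_c16 LD2_c28 LD3_c61) (LK LD1_c26 LD2_c26 LD3_c1) Lrfl Lrfl
theorem f578875 : Led Lsl_ef (LP (LK LD1_c16 LD2_c29 LD3_c53)) = (LP (LK LD1_c26 LD2_c26 LD3_c1)) :=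
  Lgr Lrot73 (Lpe (f569393 IH) (Lpr_et (f578873 IH) (Lpe (K42.f227606 IH) (Lpr_et (f418576 IH) (Lpr_dt (f418577 IH) (Lpn (LP (LK LD1_c26 LD2_c26 LD3_c1))))))))
theorem f241106 : Led Lsl_bt (LP (LK LD1_c16 LD2_c29 LD3_c2)) = (LP (LK LD1_c26 LD2_c26 LD3_c1)) :=
  Lre_b IH (LK LD1_c16 LD2_c29 LD3_c2) (LK LD1_c26 LD2_c26 LD3_c1) Lrfl Lrfl
theorem f578879 : Led Lsl_bt (LP (LK LD1_c16 LD2_c29 LD3_c53)) = (LP (LK LD1_c8 LD2_c51 LD3_c37)) :=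
  Lgr Lrot119 (Lpr_ef (f578875 IH) (Lpe (f241106 IH) (Lpe (K36.f241085 IH) (Lpn (LP (LK LD1_c8 LD2_c51 LD3_c37))))))
theorem f82139 : Led Lsl_bf (LP (LK LD1_c2 LD2_c26 LD3_c54)) = (LP (LK LD1_c2 LD2_c54 LD3_c32)) :=
  Lgr Lrot24 (Lpr_bt (K2.f82129 IH) (Lpn (LP (LK LD1_c2 LD2_c54 LD3_c32))))
theorem f442528 : Led Lsl_gt (LP (LK LD1_c5 LD2_c56 LD3_c27)) = (LP (LK LD1_c11 LD2_c38 LD3_c13)) :=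
  Lre_g IH (LK LD1_c5 LD2_c56 LD3_c27) (LK LD1_c11 LD2_c38 LD3_c13) Lrfl Lrfl
theorem f578885 : Led Lsl_ct (LP (LK LD1_c16 LD2_c29 LD3_c53)) = (LP (LK LD1_c11 LD2_c38 LD3_c13)) :=
  Lgr Lrot10 (Lpr_bt (f578879 IH) (Lpr_gt (K12.f101402 IH) (Lpr_ct (K12.f192769 IH) (Lpe (K13.f227500 IH) (Lpe (K13.f204825 IH) (Lpr_bt (K41.f565567 IH) (Lpr_gt (K11.f37386 IH) (Lpr_bf (f82139 IH) (Lpr_ct (K40.f82141 IH) (Lpr_gt (f442528 IH) (Lpn (LP (LK LD1_c11 LD2_c38 LD3_c13)))))))))))))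
theorem f424921 : Led Lsl_bt (LP (LK LD1_c4 LD2_c26 LD3_c4)) = (LP (LK LD1_c8 LD2_c49 LD3_c19)) :=
  Lre_b IH (LK LD1_c4 LD2_c26 LD3_c4) (LK LD1_c8 LD2_c49 LD3_c19) Lrfl Lrfl
theorem f571905 : Led Lsl_ct (LP (LK LD1_c4 LD2_c26 LD3_c4)) = (LP (LK LD1_c8 LD2_c49 LD3_c32)) :=
  Lre_c IH (LK LD1_c4 LD2_c26 LD3_c4) (LK LD1_c8 LD2_c49 LD3_c32) Lrfl Lrfl
theorem f571970 : Led Lsl_gt (LP (LK LD1_c16 LD2_c30 LD3_c11)) = (LP (LK LD1_c8 LD2_c49 LD3_c32)) :=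
  Lre_g IH (LK LD1_c16 LD2_c30 LD3_c11) (LK LD1_c8 LD2_c49 LD3_c32) Lrfl Lrfl
theorem f570729 : Led Lsl_ft (LP (LK LD1_c8 LD2_c49 LD3_c33)) = (LP (LK LD1_c4 LD2_c26 LD3_c4)) :=
  Lre_f IH (LK LD1_c8 LD2_c49 LD3_c33) (LK LD1_c4 LD2_c26 LD3_c4) Lrfl Lrfl
theorem f570736 : Led Lsl_ff (LP (LK LD1_c16 LD2_c22 LD3_c20)) = (LP (LK LD1_c8 LD2_c49 LD3_c19)) :=
  Lgr Lrot25 (Lpr_bt (K42.f570730 IH) (Lpr_ft (f570729 IH) (Lpr_bt (f424921 IH) (Lpn (LP (LK LD1_c8 LD2_c49 LD3_c19))))))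
theorem f570738 : Led Lsl_gf (LP (LK LD1_c8 LD2_c50 LD3_c20)) = (LP (LK LD1_c16 LD2_c29 LD3_c53)) :=
  Lgr Lrot76 (Lpr_af (K41.f563414 IH) (Lpr_ff (f570736 IH) (Lpr_gt (f161108 IH) (Lpn (LP (LK LD1_c16 LD2_c29 LD3_c53))))))
theorem f546139 : Led Lsl_ft (LP (LK LD1_c16 LD2_c31 LD3_c23)) = (LP (LK LD1_c26 LD2_c20 LD3_c17)) :=
  Lre_f IH (LK LD1_c16 LD2_c31 LD3_c23) (LK LD1_c26 LD2_c20 LD3_c17) Lrfl Lrfl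
theorem f562800 : Led Lsl_gt (LP (LK LD1_c11 LD2_c39 LD3_c43)) = (LP (LK LD1_c17 LD2_c7 LD3_c15)) :=
  Lgr Lrot46 (Lpr_gf (K40.f562793 IH) (Lpr_ft (f546139 IH) (Lpr_at (K42.f545855 IH) (Lpn (LP (LK LD1_c17 LD2_c7 LD3_c15))))))
theorem f578898 : Led Lsl_gf (LP (LK LD1_c17 LD2_c6 LD3_c51)) = (LP (LK LD1_c11 LD2_c38 LD3_c13)) :=
  Lgr Lrot148 (Lpe (K41.f562782 IH) (Lpr_gt (f562800 IH) (Lpr_dt (K37.f545853 IH) (Lpr_ct (K37.f500547 IH) (Lpe (K37.f500546 IH) (Lpe (K39.f545957 IH) (Lpe (K41.f209875 IH) (Lpr_gf (f570738 IH) (Lpr_ct (f578885 IH) (Lpn (LP (LK LD1_c11 LD2_c38 LD3_c13))))))))))))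
theorem f82122 : Led Lsl_bt (LP (LK LD1_c4 LD2_c58 LD3_c10)) = (LP (LK LD1_c5 LD2_c56 LD3_c28)) :=
  Lgr Lrot127 (Lpr_bf (K2.f82117 IH) (Lpn (LP (LK LD1_c5 LD2_c56 LD3_c28))))
theorem f37582 : Led Lsl_at (LP (LK LD1_c16 LD2_c26 LD3_c3)) = (LP (LK LD1_c8 LD2_c47 LD3_c15)) :=
  Lre_a IH (LK LD1_c16 LD2_c26 LD3_c3) (LK LD1_c8 LD2_c47 LD3_c15) Lrfl Lrfl
theorem f562767 : Led Lsl_bf (LP (LK LD1_c16 LD2_c26 LD3_c3)) = (LP (LK LD1_c9 LD2_c12 LD3_c37)) :=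
  Lgr Lrot81 (Lpr_at (f37582 IH) (Lpr_bt (K41.f37581 IH) (Lpe (K1.f37570 IH) (Lpr_bt (f82122 IH) (Lpr_at (K40.f562756 IH) (Lpn (LP (LK LD1_c9 LD2_c12 LD3_c37))))))))
theorem f227397 : Led Lsl_bt (LP (LK LD1_c16 LD2_c26 LD3_c32)) = (LP (LK LD1_c8 LD2_c47 LD3_c13)) :=
  Lre_b IH (LK LD1_c16 LD2_c26 LD3_c32) (LK LD1_c8 LD2_c47 LD3_c13) Lrfl Lrfl
theorem f578904 : Led Lsl_cf (LP (LK LD1_c16 LD2_c30 LD3_c11)) = (LP (LK LD1_c16 LD2_c26 LD3_c32)) :=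
  Lgr Lrot160 (Lpr_gt (f571970 IH) (Lpe (f571905 IH) (Lpr_bt (f424921 IH) (Lpr_gt (f161108 IH) (Lpr_ct (f578885 IH) (Lpe (f578898 IH) (Lpe (K40.f559803 IH) (Lpe (f562767 IH) (Lpr_gt (K42.f556697 IH) (Lpe (f227397 IH) (Lpn (LP (LK LD1_c16 LD2_c26 LD3_c32)))))))))))))
theorem f478091 : Led Lsl_et (LP (LK LD1_c13 LD2_c33 LD3_c40)) = (LP (LK LD1_c22 LD2_c56 LD3_c37)) :=
  Lre_e IH (LK LD1_c13 LD2_c33 LD3_c40) (LK LD1_c22 LD2_c56 LD3_c37) Lrfl Lrfl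
theorem f97913 : Led Lsl_et (LP (LK LD1_c7 LD2_c13 LD3_c27)) = (LP (LK LD1_c3 LD2_c36 LD3_c33)) :=
  Lre_e IH (LK LD1_c7 LD2_c13 LD3_c27) (LK LD1_c3 LD2_c36 LD3_c33) Lrfl Lrfl
theorem f568861 : Led Lsl_ef (LP (LK LD1_c13 LD2_c40 LD3_c30)) = (LP (LK LD1_c16 LD2_c26 LD3_c32)) :=
  Lgr Lrot73 (Lpr_dt (f97939 IH) (Lpr_et (f97913 IH) (Lpe (K42.f155708 IH) (Lpr_et (K42.f97916 IH) (Lpr_dt (K42.f568859 IH) (Lpn (LP (LK LD1_c16 LD2_c26 LD3_c32))))))))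
theorem f577838 : Led Lsl_ff (LP (LK LD1_c16 LD2_c26 LD3_c32)) = (LP (LK LD1_c9 LD2_c10 LD3_c34)) :=
  Lgr Lrot72 (Lpe (f568861 IH) (Lpr_ft (f478031 IH) (Lpr_et (f478091 IH) (Lpr_ft (f577833 IH) (Lpr_et (f570859 IH) (Lpn (LP (LK LD1_c9 LD2_c10 LD3_c34))))))))
theorem f570853 : Led Lsl_ct (LP (LK LD1_c17 LD2_c3 LD3_c46)) = (LP (LK LD1_c9 LD2_c10 LD3_c34)) :=
  Lre_c IH (LK LD1_c17 LD2_c3 LD3_c46) (LK LD1_c9 LD2_c10 LD3_c34) Lrfl Lrfl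
theorem f578912 : Led Lsl_ft (LP (LK LD1_c16 LD2_c30 LD3_c11)) = (LP (LK LD1_c17 LD2_c3 LD3_c46)) :=
  Lgr Lrot4 (Lpr_cf (f578904 IH) (Lpr_ff (f577838 IH) (Lpe (f570853 IH) (Lpn (LP (LK LD1_c17 LD2_c3 LD3_c46))))))
theorem f571967 : Led Lsl_gt (LP (LK LD1_c8 LD2_c49 LD3_c32)) = (LP (LK LD1_c16 LD2_c30 LD3_c10)) :=
  Lre_g IH (LK LD1_c8 LD2_c49 LD3_c32) (LK LD1_c16 LD2_c30 LD3_c10) Lrfl Lrfl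
theorem f578919 : Led Lsl_af (LP (LK LD1_c16 LD2_c30 LD3_c10)) = (LP (LK LD1_c17 LD2_c3 LD3_c46)) :=
  Lgr Lrot31 (Lpe (f571967 IH) (Lpe (f571970 IH) (Lpr_ft (f578912 IH) (Lpn (LP (LK LD1_c17 LD2_c3 LD3_c46))))))
theorem f578925 : Led Lsl_et (LP (LK LD1_c16 LD2_c30 LD3_c10)) = (LP (LK LD1_c26 LD2_c26 LD3_c61)) :=
  Lre_e IH (LK LD1_c16 LD2_c30 LD3_c10) (LK LD1_c26 LD2_c26 LD3_c61) Lrfl Lrfl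
theorem f570856 : Led Lsl_et (LP (LK LD1_c26 LD2_c58 LD3_c15)) = (LP (LK LD1_c17 LD2_c3 LD3_c46)) :=
  Lre_e IH (LK LD1_c26 LD2_c58 LD3_c15) (LK LD1_c17 LD2_c3 LD3_c46) Lrfl Lrfl
theorem f578926 : Led Lsl_at (LP (LK LD1_c26 LD2_c26 LD3_c61)) = (LP (LK LD1_c26 LD2_c58 LD3_c15)) :=
  Lgr Lrot80 (Lpe (f578925 IH) (Lpr_af (f578919 IH) (Lpe (f570856 IH) (Lpn (LP (LK LD1_c26 LD2_c58 LD3_c15))))))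
theorem f577832 : Led Lsl_ct (LP (LK LD1_c26 LD2_c58 LD3_c15)) = (LP (LK LD1_c17 LD2_c3 LD3_c47)) :=
  Lre_c IH (LK LD1_c26 LD2_c58 LD3_c15) (LK LD1_c17 LD2_c3 LD3_c47) Lrfl Lrfl
theorem f578930 : Led Lsl_cf (LP (LK LD1_c26 LD2_c26 LD3_c61)) = (LP (LK LD1_c26 LD2_c31 LD3_c52)) :=
  Lgr Lrot1 (Lpr_at (f578926 IH) (Lpr_ct (f577832 IH) (Lpe (f577828 IH) (Lpn (LP (LK LD1_c26 LD2_c31 LD3_c52))))))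
theorem f578932 : Led Lsl_ct (LP (LK LD1_c26 LD2_c26 LD3_c61)) = (LP (LK LD1_c26 LD2_c31 LD3_c52)) :=
  Lgr Lrot59 (Lpr_cf (f578930 IH) (Lpn (LP (LK LD1_c26 LD2_c31 LD3_c52))))
theorem f578935 : Led Lsl_cf (LP (LK LD1_c16 LD2_c30 LD3_c10)) = (LP (LK LD1_c16 LD2_c34 LD3_c26)) :=
  Lgr Lrot39 (Lpr_et (f578925 IH) (Lpr_ct (f578932 IH) (Lpr_et (f570281 IH) (Lpn (LP (LK LD1_c16 LD2_c34 LD3_c26))))))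
theorem f578937 : Led Lsl_ft (LP (LK LD1_c16 LD2_c30 LD3_c10)) = (LP (LK LD1_c17 LD2_c3 LD3_c48)) :=
  Lgr Lrot4 (Lpr_cf (f578935 IH) (Lpr_ff (f577819 IH) (Lpe (f538577 IH) (Lpn (LP (LK LD1_c17 LD2_c3 LD3_c48))))))
theorem f578940 : Led Lsl_af (LP (LK LD1_c16 LD2_c30 LD3_c11)) = (LP (LK LD1_c17 LD2_c3 LD3_c48)) :=
  Lgr Lrot45 (Lpr_ft (f578912 IH) (Lpe (f578919 IH) (Lpr_ft (f578937 IH) (Lpn (LP (LK LD1_c17 LD2_c3 LD3_c48))))))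
theorem f571971 : Led Lsl_dt (LP (LK LD1_c16 LD2_c30 LD3_c11)) = (LP (LK LD1_c26 LD2_c27 LD3_c0)) :=
  Lre_d IH (LK LD1_c16 LD2_c30 LD3_c11) (LK LD1_c26 LD2_c27 LD3_c0) Lrfl Lrfl
theorem f577458 : Led Lsl_dt (LP (LK LD1_c26 LD2_c58 LD3_c18)) = (LP (LK LD1_c17 LD2_c3 LD3_c48)) :=
  Lre_d IH (LK LD1_c26 LD2_c58 LD3_c18) (LK LD1_c17 LD2_c3 LD3_c48) Lrfl Lrfl
theorem f578948 : Led Lsl_at (LP (LK LD1_c26 LD2_c27 LD3_c0)) = (LP (LK LD1_c26 LD2_c58 LD3_c18)) :=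
  Lgr Lrot51 (Lpe (f571971 IH) (Lpr_af (f578940 IH) (Lpe (f577458 IH) (Lpn (LP (LK LD1_c26 LD2_c58 LD3_c18))))))
theorem f578950 : Led Lsl_af (LP (LK LD1_c26 LD2_c27 LD3_c0)) = (LP (LK LD1_c26 LD2_c58 LD3_c18)) :=
  Lgr Lrot0 (Lpr_at (f578948 IH) (Lpn (LP (LK LD1_c26 LD2_c58 LD3_c18))))
theorem f578944 : Led Lsl_ff (LP (LK LD1_c16 LD2_c30 LD3_c10)) = (LP (LK LD1_c17 LD2_c3 LD3_c48)) :=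
  Lgr Lrot3 (Lpr_ft (f578937 IH) (Lpn (LP (LK LD1_c17 LD2_c3 LD3_c48))))
theorem f571968 : Led Lsl_dt (LP (LK LD1_c16 LD2_c30 LD3_c10)) = (LP (LK LD1_c26 LD2_c26 LD3_c60)) :=
  Lre_d IH (LK LD1_c16 LD2_c30 LD3_c10) (LK LD1_c26 LD2_c26 LD3_c60) Lrfl Lrfl
theorem f578946 : Led Lsl_ft (LP (LK LD1_c26 LD2_c26 LD3_c60)) = (LP (LK LD1_c26 LD2_c58 LD3_c18)) :=
  Lgr Lrot54 (Lpe (f571968 IH) (Lpr_ff (f578944 IH) (Lpe (f577458 IH) (Lpn (LP (LK LD1_c26 LD2_c58 LD3_c18))))))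
theorem f578939 : Led Lsl_dt (LP (LK LD1_c26 LD2_c26 LD3_c60)) = (LP (LK LD1_c16 LD2_c30 LD3_c10)) :=
  Lre_d IH (LK LD1_c26 LD2_c26 LD3_c60) (LK LD1_c16 LD2_c30 LD3_c10) Lrfl Lrfl
theorem f578923 : Led Lsl_ct (LP (LK LD1_c16 LD2_c30 LD3_c10)) = (LP (LK LD1_c16 LD2_c34 LD3_c26)) :=
  Lgr Lrot111 (Lpr_af (f578919 IH) (Lpe (K42.f538579 IH) (Lpe (f577823 IH) (Lpn (LP (LK LD1_c16 LD2_c34 LD3_c26))))))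
theorem f412371 : Led Lsl_ct (LP (LK LD1_c6 LD2_c3 LD3_c48)) = (LP (LK LD1_c2 LD2_c57 LD3_c61)) :=
  Lre_c IH (LK LD1_c6 LD2_c3 LD3_c48) (LK LD1_c2 LD2_c57 LD3_c61) Lrfl Lrfl
theorem f412364 : Led Lsl_dt (LP (LK LD1_c11 LD2_c51 LD3_c9)) = (LP (LK LD1_c6 LD2_c3 LD3_c48)) :=
  Lre_d IH (LK LD1_c11 LD2_c51 LD3_c9) (LK LD1_c6 LD2_c3 LD3_c48) Lrfl Lrfl
theorem f422804 : Led Lsl_gt (LP (LK LD1_c20 LD2_c53 LD3_c26)) = (LP (LK LD1_c11 LD2_c51 LD3_c9)) :=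
  Lre_g IH (LK LD1_c20 LD2_c53 LD3_c26) (LK LD1_c11 LD2_c51 LD3_c9) Lrfl Lrfl
theorem f570252 : Led Lsl_dt (LP (LK LD1_c17 LD2_c3 LD3_c31)) = (LP (LK LD1_c20 LD2_c53 LD3_c26)) :=
  Lgr Lrot57 (Lpe (K42.f538245 IH) (Lpe (K42.f538244 IH) (Lpe (K42.f568612 IH) (Lpr_dt (K42.f175558 IH) (Lpr_gt (K42.f570250 IH) (Lpe (K36.f175391 IH) (Lpe (f412371 IH) (Lpe (f412364 IH) (Lpe (f422804 IH) (Lpn (LP (LK LD1_c20 LD2_c53 LD3_c26))))))))))))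
theorem f578952 : Led Lsl_cf (LP (LK LD1_c26 LD2_c27 LD3_c0)) = (LP (LK LD1_c20 LD2_c53 LD3_c26)) :=
  Lgr Lrot102 (Lpr_af (f578950 IH) (Lpe (f578946 IH) (Lpr_dt (f578939 IH) (Lpr_ct (f578923 IH) (Lpe (f570277 IH) (Lpr_ct (K42.f536499 IH) (Lpr_dt (f536501 IH) (Lpr_ct (K42.f568601 IH) (Lpr_dt (f570252 IH) (Lpn (LP (LK LD1_c20 LD2_c53 LD3_c26))))))))))))
theorem f578954 : Led Lsl_ct (LP (LK LD1_c26 LD2_c27 LD3_c0)) = (LP (LK LD1_c20 LD2_c53 LD3_c26)) :=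
  Lgr Lrot59 (Lpr_cf (f578952 IH) (Lpn (LP (LK LD1_c20 LD2_c53 LD3_c26))))
theorem f422737 : Led Lsl_ct (LP (LK LD1_c5 LD2_c38 LD3_c24)) = (LP (LK LD1_c11 LD2_c8 LD3_c7)) :=
  Lre_c IH (LK LD1_c5 LD2_c38 LD3_c24) (LK LD1_c11 LD2_c8 LD3_c7) Lrfl Lrfl
theorem f536500 : Led Lsl_dt (LP (LK LD1_c11 LD2_c8 LD3_c8)) = (LP (LK LD1_c5 LD2_c38 LD3_c24)) :=
  Lre_d IH (LK LD1_c11 LD2_c8 LD3_c8) (LK LD1_c5 LD2_c38 LD3_c24) Lrfl Lrfl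
theorem f536495 : Led Lsl_df (LP (LK LD1_c2 LD2_c45 LD3_c15)) = K42.v3017 :=
  Lgr Lrot12 (Lpr_bt (K42.f179917 IH) (Lpr_dt (K40.f452844 IH) (Lpr_bt (K42.f536493 IH) (Lpn K42.v3017))))
theorem f568614 : Led Lsl_cf (LP (LK LD1_c11 LD2_c8 LD3_c8)) = (LP (LK LD1_c17 LD2_c3 LD3_c31)) :=
  Lgr Lrot99 (Lpe (f536501 IH) (Lpe (K42.f536499 IH) (Lpe (K42.f422738 IH) (Lpe (K42.f422739 IH) (Lpe (K42.f24556 IH) (Lpr_df (f536495 IH) (Lpr_gt (K42.f568610 IH) (Lpr_ct (K42.f538244 IH) (Lpr_gt (K42.f538245 IH) (Lpn (LP (LK LD1_c17 LD2_c3 LD3_c31))))))))))))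
theorem f578956 : Led Lsl_df (LP (LK LD1_c17 LD2_c3 LD3_c31)) = (LP (LK LD1_c20 LD2_c53 LD3_c26)) :=
  Lgr Lrot106 (Lpe (f568614 IH) (Lpr_dt (f536500 IH) (Lpr_ct (f422737 IH) (Lpr_dt (K42.f570273 IH) (Lpe (f578935 IH) (Lpr_af (f578919 IH) (Lpe (f578912 IH) (Lpr_dt (f571971 IH) (Lpr_ct (f578954 IH) (Lpn (LP (LK LD1_c20 LD2_c53 LD3_c26))))))))))))
theorem f577915 : Led Lsl_af (LP (LK LD1_c11 LD2_c8 LD3_c7)) = (LP (LK LD1_c16 LD2_c34 LD3_c33)) :=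
  Lgr Lrot117 (Lpr_dt (K42.f570273 IH) (Lpr_at (f577823 IH) (Lpr_dt (f577900 IH) (Lpn (LP (LK LD1_c16 LD2_c34 LD3_c33))))))
theorem f578958 : Led Lsl_ft (LP (LK LD1_c13 LD2_c38 LD3_c28)) = (LP (LK LD1_c16 LD2_c34 LD3_c33)) :=
  Lgr Lrot142 (Lpr_dt (K42.f568859 IH) (Lpe (f578904 IH) (Lpr_dt (f571971 IH) (Lpr_ct (f578954 IH) (Lpe (f578956 IH) (Lpe (f568614 IH) (Lpr_dt (f536500 IH) (Lpr_ct (f422737 IH) (Lpr_af (f577915 IH) (Lpn (LP (LK LD1_c16 LD2_c34 LD3_c33))))))))))))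
theorem f578960 : Led Lsl_af (LP (LK LD1_c13 LD2_c38 LD3_c28)) = (LP (LK LD1_c8 LD2_c45 LD3_c53)) :=
  Lgr Lrot45 (Lpr_ft (f578958 IH) (Lpe (f577915 IH) (Lpr_ft (f577815 IH) (Lpn (LP (LK LD1_c8 LD2_c45 LD3_c53))))))
theorem f578966 : Led Lsl_gf (LP (LK LD1_c9 LD2_c51 LD3_c26)) = (LP (LK LD1_c11 LD2_c8 LD3_c7)) :=
  Lgr Lrot47 (Lpe (f568863 IH) (Lpr_af (f578960 IH) (Lpe (f577815 IH) (Lpn (LP (LK LD1_c11 LD2_c8 LD3_c7))))))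
theorem f34878 : Led Lsl_dt (LP (LK LD1_c4 LD2_c24 LD3_c34)) = (LP (LK LD1_c8 LD2_c46 LD3_c41)) :=
  Lre_d IH (LK LD1_c4 LD2_c24 LD3_c34) (LK LD1_c8 LD2_c46 LD3_c41) Lrfl Lrfl
theorem f547755 : Led Lsl_gf (LP (LK LD1_c8 LD2_c46 LD3_c41)) = (LP (LK LD1_c15 LD2_c8 LD3_c51)) :=
  Lgr Lrot145 (Lpe (f34878 IH) (Lpr_et (K6.f34877 IH) (Lpr_gt (f161272 IH) (Lpr_dt (K2.f71910 IH) (Lpe (K4.f117644 IH) (Lpe (K4.f117603 IH) (Lpr_et (K38.f117618 IH) (Lpr_gt (K38.f547751 IH) (Lpe (K38.f547323 IH) (Lpr_dt (K37.f227875 IH) (Lpn (LP (LK LD1_c15 LD2_c8 LD3_c51)))))))))))))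
theorem f425919 : Led Lsl_gt (LP (LK LD1_c5 LD2_c55 LD3_c50)) = (LP (LK LD1_c11 LD2_c36 LD3_c52)) :=
  Lre_g IH (LK LD1_c5 LD2_c55 LD3_c50) (LK LD1_c11 LD2_c36 LD3_c52) Lrfl Lrfl
theorem f578828 : Led Lsl_ef (LP (LK LD1_c11 LD2_c8 LD3_c7)) = (LP (LK LD1_c8 LD2_c42 LD3_c61)) :=
  Lgr Lrot28 (Lpr_ct (K42.f536499 IH) (Lpr_et (f578826 IH) (Lpe (K41.f380367 IH) (Lpn (LP (LK LD1_c8 LD2_c42 LD3_c61))))))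
theorem f578977 : Led Lsl_df (LP (LK LD1_c11 LD2_c36 LD3_c52)) = (LP (LK LD1_c8 LD2_c42 LD3_c61)) :=
  Lgr Lrot168 (Lpe (f425919 IH) (Lpe (K42.f71939 IH) (Lpr_et (f71935 IH) (Lpe (f161272 IH) (Lpe (K6.f34877 IH) (Lpr_dt (f34878 IH) (Lpr_gf (f547755 IH) (Lpe (K37.f227875 IH) (Lpr_gf (f578966 IH) (Lpr_ef (f578828 IH) (Lpn (LP (LK LD1_c8 LD2_c42 LD3_c61)))))))))))))
theorem f272413 : Led Lsl_dt (LP (LK LD1_c2 LD2_c54 LD3_c52)) = (LP (LK LD1_c1 LD2_c23 LD3_c20)) :=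
  Lre_d IH (LK LD1_c2 LD2_c54 LD3_c52) (LK LD1_c1 LD2_c23 LD3_c20) Lrfl Lrfl
theorem f579015 : Led Lsl_gt (LP (LK LD1_c11 LD2_c36 LD3_c52)) = (LP (LK LD1_c5 LD2_c56 LD3_c28)) :=
  Lgr Lrot49 (Lpr_df (f578977 IH) (Lpr_gf (K41.f563575 IH) (Lpe (K41.f545125 IH) (Lpr_gt (K42.f572608 IH) (Lpr_dt (K42.f570254 IH) (Lpr_gt (K40.f562993 IH) (Lpr_dt (f272413 IH) (Lpe (K37.f82057 IH) (Lpe (K2.f82075 IH) (Lpn (LP (LK LD1_c5 LD2_c56 LD3_c28))))))))))))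
theorem f578833 : Led Lsl_ft (LP (LK LD1_c11 LD2_c8 LD3_c1)) = (LP (LK LD1_c8 LD2_c42 LD3_c61)) :=
  Lgr Lrot4 (Lpe (K41.f198562 IH) (Lpr_ff (f578830 IH) (Lpe (f380370 IH) (Lpn (LP (LK LD1_c8 LD2_c42 LD3_c61))))))
theorem f563595 : Led Lsl_dt (LP (LK LD1_c5 LD2_c56 LD3_c26)) = (LP (LK LD1_c11 LD2_c8 LD3_c1)) :=
  Lgr Lrot42 (Lpr_df (K41.f563593 IH) (Lpn (LP (LK LD1_c11 LD2_c8 LD3_c1))))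
theorem f579010 : Led Lsl_ft (LP (LK LD1_c11 LD2_c36 LD3_c52)) = (LP (LK LD1_c5 LD2_c56 LD3_c26)) :=
  Lgr Lrot54 (Lpr_df (f578977 IH) (Lpe (f578833 IH) (Lpe (f563595 IH) (Lpn (LP (LK LD1_c5 LD2_c56 LD3_c26))))))
theorem f82081 : Led Lsl_gt (LP (LK LD1_c5 LD2_c56 LD3_c28)) = (LP (LK LD1_c11 LD2_c36 LD3_c53)) :=
  Lre_g IH (LK LD1_c5 LD2_c56 LD3_c28) (LK LD1_c11 LD2_c36 LD3_c53) Lrfl Lrfl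
theorem f579020 : Led Lsl_at (LP (LK LD1_c5 LD2_c56 LD3_c26)) = (LP (LK LD1_c11 LD2_c36 LD3_c53)) :=
  Lgr Lrot26 (Lpe (f579010 IH) (Lpr_gt (f579015 IH) (Lpr_gt (f82081 IH) (Lpn (LP (LK LD1_c11 LD2_c36 LD3_c53))))))
theorem f572967 : Led Lsl_df (LP (LK LD1_c8 LD2_c42 LD3_c60)) = (LP (LK LD1_c11 LD2_c36 LD3_c53)) :=
  Lgr Lrot155 (Lpe (f572614 IH) (Lpr_ct (K40.f545208 IH) (Lpr_gt (K42.f572608 IH) (Lpr_ct (K40.f541575 IH) (Lpr_dt (K42.f572957 IH) (Lpr_cf (K41.f540527 IH) (Lpe (K41.f442594 IH) (Lpe (K41.f442503 IH) (Lpe (f71940 IH) (Lpn (LP (LK LD1_c11 LD2_c36 LD3_c53))))))))))))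
theorem f579027 : Led Lsl_af (LP (LK LD1_c11 LD2_c8 LD3_c1)) = (LP (LK LD1_c8 LD2_c42 LD3_c60)) :=
  Lgr Lrot117 (Lpe (K41.f563593 IH) (Lpr_at (f579020 IH) (Lpe (f572967 IH) (Lpn (LP (LK LD1_c8 LD2_c42 LD3_c60))))))
theorem f202631 : Led Lsl_ct (LP (LK LD1_c3 LD2_c5 LD3_c22)) = (LP (LK LD1_c6 LD2_c16 LD3_c28)) :=
  Lre_c IH (LK LD1_c3 LD2_c5 LD3_c22) (LK LD1_c6 LD2_c16 LD3_c28) Lrfl Lrfl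
theorem f569118 : Led Lsl_bt (LP (LK LD1_c6 LD2_c16 LD3_c28)) = (LP (LK LD1_c7 LD2_c12 LD3_c7)) :=
  Lgr Lrot128 (Lpe (f202631 IH) (Lpr_bf (K42.f569115 IH) (Lpr_cf (K37.f546811 IH) (Lpe (K42.f97166 IH) (Lpr_cf (K34.f97147 IH) (Lpn (LP (LK LD1_c7 LD2_c12 LD3_c7))))))))
theorem f579031 : Led Lsl_at (LP (LK LD1_c12 LD2_c9 LD3_c54)) = (LP (LK LD1_c6 LD2_c16 LD3_c28)) :=
  Lgr Lrot67 (Lpe (f563626 IH) (Lpr_af (f579027 IH) (Lpr_bf (f572573 IH) (Lpe (K34.f97432 IH) (Lpe (f569118 IH) (Lpn (LP (LK LD1_c6 LD2_c16 LD3_c28))))))))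
theorem f579033 : Led Lsl_af (LP (LK LD1_c12 LD2_c9 LD3_c54)) = (LP (LK LD1_c6 LD2_c16 LD3_c28)) :=
  Lgr Lrot0 (Lpr_at (f579031 IH) (Lpn (LP (LK LD1_c6 LD2_c16 LD3_c28))))
theorem f579039 : Led Lsl_gf (LP (LK LD1_c12 LD2_c9 LD3_c54)) = (LP (LK LD1_c12 LD2_c10 LD3_c59)) :=
  Lgr Lrot76 (Lpr_af (f579033 IH) (Lpe (f570117 IH) (Lpe (f578789 IH) (Lpn (LP (LK LD1_c12 LD2_c10 LD3_c59))))))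
theorem f558754 : Led Lsl_et (LP (LK LD1_c6 LD2_c16 LD3_c15)) = (LP (LK LD1_c12 LD2_c9 LD3_c54)) :=
  Lre_e IH (LK LD1_c6 LD2_c16 LD3_c15) (LK LD1_c12 LD2_c9 LD3_c54) Lrfl Lrfl
theorem f579043 : Led Lsl_gt (LP (LK LD1_c11 LD2_c13 LD3_c4)) = (LP (LK LD1_c15 LD2_c7 LD3_c18)) :=
  Lgr Lrot139 (Lpe (K38.f423542 IH) (Lpe (f577591 IH) (Lpr_ef (f577595 IH) (Lpr_dt (K37.f120277 IH) (Lpr_gf (K3.f88608 IH) (Lpe (K40.f558747 IH) (Lpr_et (f558754 IH) (Lpr_gf (f579039 IH) (Lpr_ef (f571886 IH) (Lpe (K40.f557109 IH) (Lpn (LP (LK LD1_c15 LD2_c7 LD3_c18)))))))))))))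
theorem f542203 : Led Lsl_at (LP (LK LD1_c3 LD2_c58 LD3_c59)) = (LP (LK LD1_c7 LD2_c59 LD3_c10)) :=
  Lre_a IH (LK LD1_c3 LD2_c58 LD3_c59) (LK LD1_c7 LD2_c59 LD3_c10) Lrfl Lrfl
theorem f577593 : Led Lsl_gf (LP (LK LD1_c7 LD2_c59 LD3_c10)) = (LP (LK LD1_c5 LD2_c41 LD3_c26)) :=
  Lgr Lrot76 (Lpe (f542203 IH) (Lpe (f542210 IH) (Lpr_gt (f577591 IH) (Lpn (LP (LK LD1_c5 LD2_c41 LD3_c26))))))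
theorem f572333 : Led Lsl_ct (LP (LK LD1_c7 LD2_c59 LD3_c10)) = (LP (LK LD1_c3 LD2_c58 LD3_c57)) :=
  Lre_c IH (LK LD1_c7 LD2_c59 LD3_c10) (LK LD1_c3 LD2_c58 LD3_c57) Lrfl Lrfl
theorem f30811 : Led Lsl_gt (LP (LK LD1_c4 LD2_c0 LD3_c28)) = (LP (LK LD1_c8 LD2_c1 LD3_c53)) :=
  Lre_g IH (LK LD1_c4 LD2_c0 LD3_c28) (LK LD1_c8 LD2_c1 LD3_c53) Lrfl Lrfl
theorem f418217 : Led Lsl_gt (LP (LK LD1_c24 LD2_c46 LD3_c5)) = (LP (LK LD1_c14 LD2_c58 LD3_c54)) :=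
  Lgr Lrot65 (Lpe (K40.f236869 IH) (Lpr_bt (K40.f29528 IH) (Lpe (f30811 IH) (Lpe (K35.f30012 IH) (Lpr_ct (K1.f29583 IH) (Lpr_gf (K13.f237291 IH) (Lpe (K13.f216814 IH) (Lpr_gf (K13.f201470 IH) (Lpe (K39.f39801 IH) (Lpr_ct (K39.f38933 IH) (Lpn (LP (LK LD1_c14 LD2_c58 LD3_c54)))))))))))))
theorem f39800 : Led Lsl_ct (LP (LK LD1_c14 LD2_c58 LD3_c54)) = (LP (LK LD1_c7 LD2_c56 LD3_c29)) :=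
  Lre_c IH (LK LD1_c14 LD2_c58 LD3_c54) (LK LD1_c7 LD2_c56 LD3_c29) Lrfl Lrfl
theorem f579049 : Led Lsl_gt (LP (LK LD1_c3 LD2_c58 LD3_c57)) = (LP (LK LD1_c1 LD2_c56 LD3_c18)) :=
  Lgr Lrot150 (Lpe (f572333 IH) (Lpr_gf (f577593 IH) (Lpe (K38.f174342 IH) (Lpr_gt (f579043 IH) (Lpr_ct (K40.f236869 IH) (Lpr_gt (f418217 IH) (Lpr_ct (f39800 IH) (Lpe (K39.f174899 IH) (Lpe (K31.f101544 IH) (Lpn (LP (LK LD1_c1 LD2_c56 LD3_c18))))))))))))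
theorem f579060 : Led Lsl_et (LP (LK LD1_c7 LD2_c59 LD3_c11)) = (LP (LK LD1_c3 LD2_c58 LD3_c57)) :=
  Lre_e IH (LK LD1_c7 LD2_c59 LD3_c11) (LK LD1_c3 LD2_c58 LD3_c57) Lrfl Lrfl
theorem f40868 : Led Lsl_gt (LP (LK LD1_c3 LD2_c59 LD3_c10)) = (LP (LK LD1_c7 LD2_c59 LD3_c30)) :=
  Lre_g IH (LK LD1_c3 LD2_c59 LD3_c10) (LK LD1_c7 LD2_c59 LD3_c30) Lrfl Lrfl
theorem f55843 : Led Lsl_at (LP (LK LD1_c4 LD2_c5 LD3_c47)) = (LP (LK LD1_c2 LD2_c0 LD3_c17)) :=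
  Lre_a IH (LK LD1_c4 LD2_c5 LD3_c47) (LK LD1_c2 LD2_c0 LD3_c17) Lrfl Lrfl
theorem f60814 : Led Lsl_at (LP (LK LD1_c3 LD2_c4 LD3_c50)) = (LP (LK LD1_c6 LD2_c15 LD3_c25)) :=
  Lre_a IH (LK LD1_c3 LD2_c4 LD3_c50) (LK LD1_c6 LD2_c15 LD3_c25) Lrfl Lrfl
theorem f60815 : Led Lsl_ef (LP (LK LD1_c4 LD2_c5 LD3_c47)) = (LP (LK LD1_c6 LD2_c15 LD3_c25)) :=
  Lgr Lrot20 (Lpr_at (f55843 IH) (Lpr_et (K2.f60810 IH) (Lpr_at (f60814 IH) (Lpn (LP (LK LD1_c6 LD2_c15 LD3_c25))))))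
theorem f579061 : Led Lsl_dt (LP (LK LD1_c7 LD2_c59 LD3_c11)) = (LP (LK LD1_c6 LD2_c15 LD3_c32)) :=
  Lgr Lrot37 (Lpr_et (f579060 IH) (Lpr_gt (f579049 IH) (Lpr_dt (K38.f101545 IH) (Lpr_gt (f40868 IH) (Lpr_df (K36.f137984 IH) (Lpr_et (K36.f60845 IH) (Lpr_gt (f46868 IH) (Lpr_ef (f60815 IH) (Lpr_dt (K40.f561677 IH) (Lpe (K40.f561679 IH) (Lpn (LP (LK LD1_c6 LD2_c15 LD3_c32)))))))))))))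
theorem f411895 : Led Lsl_df (LP (LK LD1_c9 LD2_c4 LD3_c41)) = (LP (LK LD1_c16 LD2_c53 LD3_c14)) :=
  Lgr Lrot155 (Lpr_gt (K39.f385235 IH) (Lpr_ct (K30.f172644 IH) (Lpr_gt (K30.f385551 IH) (Lpr_ct (K39.f174571 IH) (Lpr_dt (K38.f385554 IH) (Lpe (K39.f411893 IH) (Lpr_gf (K30.f411673 IH) (Lpe (K30.f269062 IH) (Lpr_gf (K39.f411889 IH) (Lpn (LP (LK LD1_c16 LD2_c53 LD3_c14))))))))))))
theorem f541710 : Led Lsl_gt (LP (LK LD1_c6 LD2_c15 LD3_c33)) = (LP (LK LD1_c4 LD2_c32 LD3_c37)) :=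
  Lgr Lrot94 (Lpe (K17.f60791 IH) (Lpr_gt (K36.f541703 IH) (Lpr_dt (K40.f181506 IH) (Lpr_gt (K36.f172459 IH) (Lpr_dt (K39.f411814 IH) (Lpr_cf (K39.f411815 IH) (Lpr_df (f411895 IH) (Lpe (K39.f281291 IH) (Lpe (K16.f268984 IH) (Lpn (LP (LK LD1_c4 LD2_c32 LD3_c37))))))))))))
theorem f579075 : Led Lsl_gt (LP (LK LD1_c7 LD2_c59 LD3_c11)) = (LP (LK LD1_c4 LD2_c31 LD3_c47)) :=
  Lgr Lrot146 (Lpr_dt (f579061 IH) (Lpr_gt (K40.f60801 IH) (Lpr_ct (K17.f60791 IH) (Lpr_gt (f541710 IH) (Lpr_ct (K30.f177736 IH) (Lpr_dt (K42.f181347 IH) (Lpe (K16.f174523 IH) (Lpe (K30.f181300 IH) (Lpe (K30.f281789 IH) (Lpn (LP (LK LD1_c4 LD2_c31 LD3_c47))))))))))))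
theorem f571845 : Led Lsl_et (LP (LK LD1_c3 LD2_c58 LD3_c57)) = (LP (LK LD1_c7 LD2_c59 LD3_c11)) :=
  Lre_e IH (LK LD1_c3 LD2_c58 LD3_c57) (LK LD1_c7 LD2_c59 LD3_c11) Lrfl Lrfl
theorem f450559 : Led Lsl_gt (LP (LK LD1_c4 LD2_c35 LD3_c7)) = (LP (LK LD1_c9 LD2_c6 LD3_c59)) :=
  Lre_g IH (LK LD1_c4 LD2_c35 LD3_c7) (LK LD1_c9 LD2_c6 LD3_c59) Lrfl Lrfl
theorem f402559 : Led Lsl_ef (LP (LK LD1_c1 LD2_c18 LD3_c43)) = (LP (LK LD1_c1 LD2_c31 LD3_c30)) :=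
  Lgr Lrot29 (Lpr_bt (K39.f172331 IH) (Lpr_et (K35.f319444 IH) (Lpr_bt (K36.f204385 IH) (Lpn (LP (LK LD1_c1 LD2_c31 LD3_c30))))))
theorem f450560 : Led Lsl_gf (LP (LK LD1_c5 LD2_c52 LD3_c57)) = (LP (LK LD1_c9 LD2_c6 LD3_c59)) :=
  Lgr Lrot76 (Lpe (K42.f450556 IH) (Lpr_ff (K42.f449384 IH) (Lpr_gt (f450559 IH) (Lpn (LP (LK LD1_c9 LD2_c6 LD3_c59))))))
theorem f572414 : Led Lsl_dt (LP (LK LD1_c5 LD2_c37 LD3_c37)) = (LP (LK LD1_c9 LD2_c6 LD3_c59)) :=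
  Lgr Lrot136 (Lpr_et (K42.f387059 IH) (Lpe (K38.f319450 IH) (Lpr_ef (f402559 IH) (Lpq (K36.f537279 IH) (Lpr_dt (K42.f496578 IH) (Lpr_gf (K11.f205820 IH) (Lpe (K8.f138870 IH) (Lpr_gf (K8.f158464 IH) (Lpr_ef (K42.f572412 IH) (Lpr_dt (K42.f450542 IH) (Lpr_gf (f450560 IH) (Lpn (LP (LK LD1_c9 LD2_c6 LD3_c59))))))))))))))
theorem f386963 : Led Lsl_ft (LP (LK LD1_c1 LD2_c18 LD3_c43)) = (LP (LK LD1_c2 LD2_c7 LD3_c25)) :=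
  Lgr Lrot101 (Lpe (K36.f383417 IH) (Lpr_ff (K36.f386961 IH) (Lpe (K36.f225550 IH) (Lpn (LP (LK LD1_c2 LD2_c7 LD3_c25))))))
theorem f387055 : Led Lsl_gt (LP (LK LD1_c2 LD2_c44 LD3_c45)) = (LP (LK LD1_c4 LD2_c19 LD3_c53)) :=
  Lgr Lrot46 (Lpe (K38.f319450 IH) (Lpr_ft (f386963 IH) (Lpr_at (K36.f225550 IH) (Lpn (LP (LK LD1_c4 LD2_c19 LD3_c53))))))
theorem f579087 : Led Lsl_dt (LP (LK LD1_c3 LD2_c58 LD3_c57)) = (LP (LK LD1_c5 LD2_c37 LD3_c45)) :=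
  Lgr Lrot56 (Lpr_et (f571845 IH) (Lpr_gt (f579075 IH) (Lpe (K40.f542313 IH) (Lpr_dt (K42.f418556 IH) (Lpr_gt (f450559 IH) (Lpe (f572414 IH) (Lpr_et (K42.f387059 IH) (Lpr_gt (f387055 IH) (Lpr_dt (K36.f225666 IH) (Lpe (K36.f386987 IH) (Lpn (LP (LK LD1_c5 LD2_c37 LD3_c45)))))))))))))
theorem f174135 : Led Lsl_ct (LP (LK LD1_c9 LD2_c45 LD3_c56)) = (LP (LK LD1_c4 LD2_c57 LD3_c33)) :=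
  Lre_c IH (LK LD1_c9 LD2_c45 LD3_c56) (LK LD1_c4 LD2_c57 LD3_c33) Lrfl Lrfl
theorem f574035 : Led Lsl_df (LP (LK LD1_c4 LD2_c57 LD3_c33)) = (LP (LK LD1_c6 LD2_c15 LD3_c23)) :=
  Lgr Lrot162 (Lpe (f174135 IH) (Lpe (K31.f411978 IH) (Lpe (K31.f174965 IH) (Lpr_gf (K31.f411972 IH) (Lpe (K30.f172598 IH) (Lpr_gt (K35.f172615 IH) (Lpr_ct (K39.f172619 IH) (Lpr_gt (K39.f172620 IH) (Lpr_ct (f574025 IH) (Lpn (LP (LK LD1_c6 LD2_c15 LD3_c23))))))))))))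
theorem f579102 : Led Lsl_et (LP (LK LD1_c6 LD2_c15 LD3_c23)) = (LP (LK LD1_c4 LD2_c53 LD3_c53)) :=
  Lgr Lrot185 (Lpe (f574035 IH) (Lpe (K40.f559566 IH) (Lpr_df (K30.f418798 IH) (Lpe (f579075 IH) (Lpe (f571845 IH) (Lpr_dt (f579087 IH) (Lpr_gf (K36.f386987 IH) (Lpe (K36.f225666 IH) (Lpe (K36.f225551 IH) (Lpr_gf (f288171 IH) (Lpn (LP (LK LD1_c4 LD2_c53 LD3_c53)))))))))))))
theorem f579106 : Led Lsl_gf (LP (LK LD1_c5 LD2_c7 LD3_c14)) = (LP (LK LD1_c5 LD2_c14 LD3_c31)) :=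
  Lgr Lrot134 (Lpe (K36.f308547 IH) (Lpr_et (K36.f427960 IH) (Lpr_gt (K39.f556702 IH) (Lpe (K40.f559551 IH) (Lpe (K30.f418798 IH) (Lpr_gt (K40.f559566 IH) (Lpr_df (f574035 IH) (Lpr_et (f579102 IH) (Lpe (f288171 IH) (Lpr_dt (K36.f225680 IH) (Lpn (LP (LK LD1_c5 LD2_c14 LD3_c31)))))))))))))
theorem f177306 : Led Lsl_at (LP (LK LD1_c5 LD2_c8 LD3_c11)) = (LP (LK LD1_c2 LD2_c31 LD3_c19)) :=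
  Lre_a IH (LK LD1_c5 LD2_c8 LD3_c11) (LK LD1_c2 LD2_c31 LD3_c19) Lrfl Lrfl
theorem f579110 : Led Lsl_gt (LP (LK LD1_c5 LD2_c7 LD3_c14)) = (LP (LK LD1_c2 LD2_c31 LD3_c19)) :=
  Lgr Lrot46 (Lpr_gf (f579106 IH) (Lpr_ft (K36.f288158 IH) (Lpr_at (f177306 IH) (Lpn (LP (LK LD1_c2 LD2_c31 LD3_c19))))))
theorem f165642 : Led Lsl_bt (LP (LK LD1_c1 LD2_c12 LD3_c39)) = (LP (LK LD1_c2 LD2_c31 LD3_c19)) :=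
  Lre_b IH (LK LD1_c1 LD2_c12 LD3_c39) (LK LD1_c2 LD2_c31 LD3_c19) Lrfl Lrfl
theorem f35188 : Led Lsl_bt (LP (LK LD1_c1 LD2_c4 LD3_c38)) = (LP (LK LD1_c2 LD2_c14 LD3_c59)) :=
  Lre_b IH (LK LD1_c1 LD2_c4 LD3_c38) (LK LD1_c2 LD2_c14 LD3_c59) Lrfl Lrfl
theorem f165643 : Led Lsl_ct (LP (LK LD1_c4 LD2_c35 LD3_c37)) = (LP (LK LD1_c9 LD2_c7 LD3_c42)) :=
  Lre_c IH (LK LD1_c4 LD2_c35 LD3_c37) (LK LD1_c9 LD2_c7 LD3_c42) Lrfl Lrfl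
theorem f165644 : Led Lsl_gt (LP (LK LD1_c9 LD2_c7 LD3_c42)) = (LP (LK LD1_c16 LD2_c59 LD3_c52)) :=
  Lre_g IH (LK LD1_c9 LD2_c7 LD3_c42) (LK LD1_c16 LD2_c59 LD3_c52) Lrfl Lrfl
theorem f579112 : Led Lsl_ct (LP (LK LD1_c10 LD2_c4 LD3_c61)) = (LP (LK LD1_c16 LD2_c59 LD3_c52)) :=
  Lgr Lrot63 (Lpr_bt (K36.f427987 IH) (Lpr_gt (f579110 IH) (Lpe (f165642 IH) (Lpe (K9.f165640 IH) (Lpr_gt (K8.f165624 IH) (Lpe (K2.f35008 IH) (Lpr_bt (f35188 IH) (Lpr_gt (K36.f35189 IH) (Lpr_ct (f165643 IH) (Lpr_gt (f165644 IH) (Lpn (LP (LK LD1_c16 LD2_c59 LD3_c52)))))))))))))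
theorem f288107 : Led Lsl_bf (LP (LK LD1_c5 LD2_c14 LD3_c37)) = (LP (LK LD1_c5 LD2_c8 LD3_c11)) :=
  Lgr Lrot81 (Lpr_at (K32.f180679 IH) (Lpr_bt (K28.f163942 IH) (Lpr_at (K17.f288103 IH) (Lpr_bt (f165642 IH) (Lpr_at (K36.f177290 IH) (Lpn (LP (LK LD1_c5 LD2_c8 LD3_c11))))))))
theorem f386889 : Led Lsl_bt (LP (LK LD1_c4 LD2_c58 LD3_c48)) = (LP (LK LD1_c5 LD2_c14 LD3_c31)) :=
  Lgr Lrot35 (Lpr_ff (K28.f386887 IH) (Lpr_bf (f288107 IH) (Lpe (K36.f288158 IH) (Lpn (LP (LK LD1_c5 LD2_c14 LD3_c31))))))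
theorem f387170 : Led Lsl_gf (LP (LK LD1_c9 LD2_c48 LD3_c3)) = (LP (LK LD1_c5 LD2_c58 LD3_c3)) :=
  Lgr Lrot76 (Lpr_af (K32.f386894 IH) (Lpr_ff (K32.f299945 IH) (Lpr_gt (K38.f387166 IH) (Lpn (LP (LK LD1_c5 LD2_c58 LD3_c3))))))
theorem f427740 : Led Lsl_at (LP (LK LD1_c1 LD2_c25 LD3_c50)) = (LP (LK LD1_c3 LD2_c0 LD3_c6)) :=
  Lre_a IH (LK LD1_c1 LD2_c25 LD3_c50) (LK LD1_c3 LD2_c0 LD3_c6) Lrfl Lrfl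
theorem f427741 : Led Lsl_gt (LP (LK LD1_c3 LD2_c0 LD3_c9)) = (LP (LK LD1_c1 LD2_c25 LD3_c52)) :=
  Lgr Lrot5 (Lpr_ft (K36.f427698 IH) (Lpr_at (f427740 IH) (Lpr_gf (K36.f427738 IH) (Lpn (LP (LK LD1_c1 LD2_c25 LD3_c52))))))
theorem f55959 : Led Lsl_dt (LP (LK LD1_c1 LD2_c25 LD3_c52)) = (LP (LK LD1_c3 LD2_c0 LD3_c13)) :=
  Lre_d IH (LK LD1_c1 LD2_c25 LD3_c52) (LK LD1_c3 LD2_c0 LD3_c13) Lrfl Lrfl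
theorem f386670 : Led Lsl_dt (LP (LK LD1_c1 LD2_c23 LD3_c45)) = (LP (LK LD1_c0 LD2_c38 LD3_c41)) :=
  Lre_d IH (LK LD1_c1 LD2_c23 LD3_c45) (LK LD1_c0 LD2_c38 LD3_c41) Lrfl Lrfl
theorem f557510 : Led Lsl_gt (LP (LK LD1_c3 LD2_c0 LD3_c13)) = (LP (LK LD1_c2 LD2_c55 LD3_c24)) :=
  Lgr Lrot49 (Lpe (f55959 IH) (Lpe (f427741 IH) (Lpr_cf (K40.f557502 IH) (Lpr_gt (K27.f22207 IH) (Lpr_dt (K27.f22200 IH) (Lpe (K27.f386663 IH) (Lpr_dt (f386670 IH) (Lpe (K36.f386673 IH) (Lpe (K24.f386672 IH) (Lpn (LP (LK LD1_c2 LD2_c55 LD3_c24))))))))))))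
theorem f195429 : Led Lsl_bt (LP (LK LD1_c1 LD2_c5 LD3_c24)) = (LP (LK LD1_c2 LD2_c16 LD3_c56)) :=
  Lre_b IH (LK LD1_c1 LD2_c5 LD3_c24) (LK LD1_c2 LD2_c16 LD3_c56) Lrfl Lrfl
theorem f183430 : Led Lsl_bt (LP (LK LD1_c1 LD2_c25 LD3_c53)) = (LP (LK LD1_c0 LD2_c39 LD3_c41)) :=
  Lre_b IH (LK LD1_c1 LD2_c25 LD3_c53) (LK LD1_c0 LD2_c39 LD3_c41) Lrfl Lrfl
theorem f547900 : Led Lsl_bt (LP (LK LD1_c4 LD2_c35 LD3_c38)) = (LP (LK LD1_c3 LD2_c0 LD3_c13)) :=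
  Lgr Lrot62 (Lpr_af (K36.f547894 IH) (Lpe (f195429 IH) (Lpe (K9.f175311 IH) (Lpe (f183430 IH) (Lpe (K5.f75953 IH) (Lpn (LP (LK LD1_c3 LD2_c0 LD3_c13))))))))
theorem f71797 : Led Lsl_ct (LP (LK LD1_c4 LD2_c35 LD3_c38)) = (LP (LK LD1_c9 LD2_c7 LD3_c44)) :=
  Lre_c IH (LK LD1_c4 LD2_c35 LD3_c38) (LK LD1_c9 LD2_c7 LD3_c44) Lrfl Lrfl
theorem f579116 : Led Lsl_gf (LP (LK LD1_c9 LD2_c7 LD3_c44)) = (LP (LK LD1_c16 LD2_c59 LD3_c52)) :=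
  Lgr Lrot126 (Lpe (f71797 IH) (Lpr_bt (f547900 IH) (Lpr_gt (f557510 IH) (Lpr_ct (K38.f386723 IH) (Lpe (f387170 IH) (Lpe (K28.f386872 IH) (Lpr_bt (f386889 IH) (Lpe (f579106 IH) (Lpe (K36.f427987 IH) (Lpr_ct (f579112 IH) (Lpn (LP (LK LD1_c16 LD2_c59 LD3_c52)))))))))))))
theorem f428116 : Led Lsl_bt (LP (LK LD1_c5 LD2_c57 LD3_c54)) = (LP (LK LD1_c2 LD2_c55 LD3_c24)) :=
  Lre_b IH (LK LD1_c5 LD2_c57 LD3_c54) (LK LD1_c2 LD2_c55 LD3_c24) Lrfl Lrfl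
theorem f169695 : Led Lsl_bt (LP (LK LD1_c2 LD2_c31 LD3_c12)) = (LP (LK LD1_c5 LD2_c7 LD3_c52)) :=
  Lre_b IH (LK LD1_c2 LD2_c31 LD3_c12) (LK LD1_c5 LD2_c7 LD3_c52) Lrfl Lrfl
theorem f548133 : Led Lsl_gt (LP (LK LD1_c10 LD2_c6 LD3_c5)) = (LP (LK LD1_c5 LD2_c7 LD3_c53)) :=
  Lre_g IH (LK LD1_c10 LD2_c6 LD3_c5) (LK LD1_c5 LD2_c7 LD3_c53) Lrfl Lrfl
theorem f579118 : Led Lsl_ct (LP (LK LD1_c5 LD2_c57 LD3_c54)) = (LP (LK LD1_c10 LD2_c6 LD3_c5)) :=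
  Lgr Lrot64 (Lpr_bt (f428116 IH) (Lpe (f557510 IH) (Lpe (f547900 IH) (Lpr_ct (f71797 IH) (Lpr_gf (f579116 IH) (Lpe (f579112 IH) (Lpr_gf (f574501 IH) (Lpe (f169695 IH) (Lpr_ct (K27.f165424 IH) (Lpe (f548133 IH) (Lpn (LP (LK LD1_c10 LD2_c6 LD3_c5)))))))))))))
theorem f539607 : Led Lsl_af (LP (LK LD1_c5 LD2_c57 LD3_c48)) = (LP (LK LD1_c3 LD2_c0 LD3_c14)) :=
  Lgr Lrot117 (Lpr_dt (K28.f426195 IH) (Lpe (K24.f426207 IH) (Lpr_dt (K36.f539605 IH) (Lpn (LP (LK LD1_c3 LD2_c0 LD3_c14))))))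
theorem f539609 : Led Lsl_bt (LP (LK LD1_c3 LD2_c0 LD3_c14)) = (LP (LK LD1_c6 LD2_c7 LD3_c61)) :=
  Lre_b IH (LK LD1_c3 LD2_c0 LD3_c14) (LK LD1_c6 LD2_c7 LD3_c61) Lrfl Lrfl
theorem f545573 : Led Lsl_ft (LP (LK LD1_c2 LD2_c55 LD3_c24)) = (LP (LK LD1_c3 LD2_c0 LD3_c14)) :=
  Lgr Lrot75 (Lpe (f428116 IH) (Lpr_ff (K38.f545571 IH) (Lpe (f539609 IH) (Lpn (LP (LK LD1_c3 LD2_c0 LD3_c14))))))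
theorem f557483 : Led Lsl_gf (LP (LK LD1_c3 LD2_c0 LD3_c17)) = (LP (LK LD1_c2 LD2_c55 LD3_c24)) :=
  Lgr Lrot47 (Lpr_gt (K40.f557481 IH) (Lpr_af (f539607 IH) (Lpe (f545573 IH) (Lpn (LP (LK LD1_c2 LD2_c55 LD3_c24))))))
theorem f195587 : Led Lsl_bt (LP (LK LD1_c1 LD2_c25 LD3_c59)) = (LP (LK LD1_c3 LD2_c0 LD3_c17)) :=
  Lre_b IH (LK LD1_c1 LD2_c25 LD3_c59) (LK LD1_c3 LD2_c0 LD3_c17) Lrfl Lrfl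
theorem f172113 : Led Lsl_bt (LP (LK LD1_c2 LD2_c1 LD3_c1)) = (LP (LK LD1_c4 LD2_c7 LD3_c21)) :=
  Lre_b IH (LK LD1_c2 LD2_c1 LD3_c1) (LK LD1_c4 LD2_c7 LD3_c21) Lrfl Lrfl
theorem f579126 : Led Lsl_gt (LP (LK LD1_c5 LD2_c7 LD3_c56)) = (LP (LK LD1_c10 LD2_c6 LD3_c5)) :=
  Lgr Lrot149 (Lpe (K38.f545062 IH) (Lpe (K38.f545108 IH) (Lpe (f172113 IH) (Lpr_ct (K10.f195578 IH) (Lpe (K10.f175314 IH) (Lpe (K11.f8456 IH) (Lpr_bt (f195587 IH) (Lpr_gf (f557483 IH) (Lpe (f428116 IH) (Lpr_ct (f579118 IH) (Lpn (LP (LK LD1_c10 LD2_c6 LD3_c5)))))))))))))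
theorem f557593 : Led Lsl_ft (LP (LK LD1_c5 LD2_c7 LD3_c56)) = (LP (LK LD1_c10 LD2_c5 LD3_c53)) :=
  Lgr Lrot48 (Lpr_ff (K40.f557583 IH) (Lpn (LP (LK LD1_c10 LD2_c5 LD3_c53))))
theorem f579128 : Led Lsl_at (LP (LK LD1_c10 LD2_c5 LD3_c53)) = (LP (LK LD1_c5 LD2_c7 LD3_c53)) :=
  Lgr Lrot26 (Lpe (f557593 IH) (Lpr_gt (f579126 IH) (Lpr_gt (f548133 IH) (Lpn (LP (LK LD1_c5 LD2_c7 LD3_c53))))))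
theorem f545065 : Led Lsl_et (LP (LK LD1_c5 LD2_c48 LD3_c3)) = (LP (LK LD1_c2 LD2_c50 LD3_c4)) :=
  Lre_e IH (LK LD1_c5 LD2_c48 LD3_c3) (LK LD1_c2 LD2_c50 LD3_c4) Lrfl Lrfl
theorem f545066 : Led Lsl_af (LP (LK LD1_c5 LD2_c48 LD3_c3)) = (LP (LK LD1_c5 LD2_c7 LD3_c57)) :=
  Lgr Lrot50 (Lpr_et (f545065 IH) (Lpr_at (K40.f545053 IH) (Lpr_et (K38.f544992 IH) (Lpn (LP (LK LD1_c5 LD2_c7 LD3_c57))))))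
theorem f117262 : Led Lsl_ct (LP (LK LD1_c5 LD2_c48 LD3_c3)) = (LP (LK LD1_c11 LD2_c25 LD3_c44)) :=
  Lre_c IH (LK LD1_c5 LD2_c48 LD3_c3) (LK LD1_c11 LD2_c25 LD3_c44) Lrfl Lrfl
theorem f545000 : Led Lsl_ct (LP (LK LD1_c10 LD2_c6 LD3_c15)) = (LP (LK LD1_c5 LD2_c7 LD3_c57)) :=
  Lre_c IH (LK LD1_c10 LD2_c6 LD3_c15) (LK LD1_c5 LD2_c7 LD3_c57) Lrfl Lrfl
theorem f545069 : Led Lsl_at (LP (LK LD1_c11 LD2_c25 LD3_c44)) = (LP (LK LD1_c10 LD2_c6 LD3_c15)) :=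
  Lgr Lrot107 (Lpe (f117262 IH) (Lpr_af (f545066 IH) (Lpe (f545000 IH) (Lpn (LP (LK LD1_c10 LD2_c6 LD3_c15))))))
theorem f545072 : Led Lsl_af (LP (LK LD1_c11 LD2_c25 LD3_c44)) = (LP (LK LD1_c10 LD2_c6 LD3_c15)) :=
  Lgr Lrot0 (Lpr_at (f545069 IH) (Lpn (LP (LK LD1_c10 LD2_c6 LD3_c15))))
theorem f545082 : Led Lsl_et (LP (LK LD1_c11 LD2_c25 LD3_c44)) = (LP (LK LD1_c5 LD2_c48 LD3_c5)) :=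
  Lre_e IH (LK LD1_c11 LD2_c25 LD3_c44) (LK LD1_c5 LD2_c48 LD3_c5) Lrfl Lrfl
theorem f545083 : Led Lsl_et (LP (LK LD1_c5 LD2_c7 LD3_c56)) = (LP (LK LD1_c10 LD2_c6 LD3_c15)) :=
  Lre_e IH (LK LD1_c5 LD2_c7 LD3_c56) (LK LD1_c10 LD2_c6 LD3_c15) Lrfl Lrfl
theorem f545084 : Led Lsl_at (LP (LK LD1_c5 LD2_c48 LD3_c5)) = (LP (LK LD1_c5 LD2_c7 LD3_c56)) :=
  Lgr Lrot80 (Lpe (f545082 IH) (Lpr_af (f545072 IH) (Lpe (f545083 IH) (Lpn (LP (LK LD1_c5 LD2_c7 LD3_c56))))))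
theorem f579137 : Led Lsl_ff (LP (LK LD1_c5 LD2_c48 LD3_c5)) = (LP (LK LD1_c5 LD2_c7 LD3_c53)) :=
  Lgr Lrot30 (Lpr_at (f545084 IH) (Lpr_ft (f557593 IH) (Lpr_at (f579128 IH) (Lpn (LP (LK LD1_c5 LD2_c7 LD3_c53))))))
theorem f579145 : Led Lsl_ft (LP (LK LD1_c5 LD2_c48 LD3_c5)) = (LP (LK LD1_c5 LD2_c7 LD3_c53)) :=
  Lgr Lrot48 (Lpr_ff (f579137 IH) (Lpn (LP (LK LD1_c5 LD2_c7 LD3_c53))))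
theorem f169705 : Led Lsl_dt (LP (LK LD1_c5 LD2_c7 LD3_c53)) = (LP (LK LD1_c10 LD2_c6 LD3_c7)) :=
  Lre_d IH (LK LD1_c5 LD2_c7 LD3_c53) (LK LD1_c10 LD2_c6 LD3_c7) Lrfl Lrfl
theorem f579149 : Led Lsl_ff (LP (LK LD1_c11 LD2_c25 LD3_c48)) = (LP (LK LD1_c10 LD2_c6 LD3_c7)) :=
  Lgr Lrot19 (Lpr_dt (K38.f132356 IH) (Lpr_ft (f579145 IH) (Lpr_dt (f169705 IH) (Lpn (LP (LK LD1_c10 LD2_c6 LD3_c7))))))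
theorem f579155 : Led Lsl_ct (LP (LK LD1_c10 LD2_c6 LD3_c23)) = (LP (LK LD1_c10 LD2_c6 LD3_c7)) :=
  Lgr Lrot40 (Lpr_ff (K40.f548447 IH) (Lpe (K40.f548435 IH) (Lpr_ff (f579149 IH) (Lpn (LP (LK LD1_c10 LD2_c6 LD3_c7))))))
theorem f3255 : Led Lsl_ct (LP (LK LD1_c5 LD2_c7 LD3_c56)) = (LP (LK LD1_c2 LD2_c31 LD3_c13)) :=
  Lre_c IH (LK LD1_c5 LD2_c7 LD3_c56) (LK LD1_c2 LD2_c31 LD3_c13) Lrfl Lrfl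
theorem f557589 : Led Lsl_ft (LP (LK LD1_c2 LD2_c31 LD3_c13)) = (LP (LK LD1_c5 LD2_c7 LD3_c49)) :=
  Lgr Lrot4 (Lpe (f3255 IH) (Lpr_ff (K40.f557583 IH) (Lpe (K40.f495364 IH) (Lpn (LP (LK LD1_c5 LD2_c7 LD3_c49))))))
theorem f169701 : Led Lsl_dt (LP (LK LD1_c10 LD2_c6 LD3_c7)) = (LP (LK LD1_c5 LD2_c7 LD3_c53)) :=
  Lre_d IH (LK LD1_c10 LD2_c6 LD3_c7) (LK LD1_c5 LD2_c7 LD3_c53) Lrfl Lrfl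
theorem f166237 : Led Lsl_ct (LP (LK LD1_c5 LD2_c7 LD3_c53)) = (LP (LK LD1_c2 LD2_c31 LD3_c12)) :=
  Lre_c IH (LK LD1_c5 LD2_c7 LD3_c53) (LK LD1_c2 LD2_c31 LD3_c12) Lrfl Lrfl
theorem f579160 : Led Lsl_at (LP (LK LD1_c5 LD2_c7 LD3_c49)) = (LP (LK LD1_c2 LD2_c31 LD3_c12)) :=
  Lgr Lrot33 (Lpe (f557589 IH) (Lpe (K38.f545047 IH) (Lpr_ct (K5.f36547 IH) (Lpr_dt (K38.f132420 IH) (Lpe (K38.f545585 IH) (Lpr_dt (K40.f545592 IH) (Lpr_ct (f579155 IH) (Lpr_dt (f169701 IH) (Lpr_ct (f166237 IH) (Lpn (LP (LK LD1_c2 LD2_c31 LD3_c12))))))))))))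
theorem f22333 : Led Lsl_et (LP (LK LD1_c10 LD2_c5 LD3_c54)) = (LP (LK LD1_c5 LD2_c7 LD3_c49)) :=
  Lre_e IH (LK LD1_c10 LD2_c5 LD3_c54) (LK LD1_c5 LD2_c7 LD3_c49) Lrfl Lrfl
theorem f548377 : Led Lsl_et (LP (LK LD1_c2 LD2_c31 LD3_c12)) = (LP (LK LD1_c5 LD2_c7 LD3_c54)) :=
  Lre_e IH (LK LD1_c2 LD2_c31 LD3_c12) (LK LD1_c5 LD2_c7 LD3_c54) Lrfl Lrfl
theorem f579162 : Led Lsl_af (LP (LK LD1_c10 LD2_c5 LD3_c54)) = (LP (LK LD1_c5 LD2_c7 LD3_c54)) :=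
  Lgr Lrot50 (Lpr_et (f22333 IH) (Lpr_at (f579160 IH) (Lpr_et (f548377 IH) (Lpn (LP (LK LD1_c5 LD2_c7 LD3_c54))))))
theorem f579164 : Led Lsl_at (LP (LK LD1_c10 LD2_c5 LD3_c54)) = (LP (LK LD1_c5 LD2_c7 LD3_c54)) :=
  Lgr Lrot100 (Lpr_af (f579162 IH) (Lpn (LP (LK LD1_c5 LD2_c7 LD3_c54))))
theorem f548399 : Led Lsl_et (LP (LK LD1_c2 LD2_c59 LD3_c53)) = K38.v1450 :=
  Lgr Lrot123 (Lpr_af (K38.f548389 IH) (Lpe (K38.f495641 IH) (Lpr_af (K38.f495640 IH) (Lpn K38.v1450))))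
theorem f548262 : Led Lsl_et (LP (LK LD1_c2 LD2_c46 LD3_c11)) = (LP (LK LD1_c5 LD2_c40 LD3_c28)) :=
  Lre_e IH (LK LD1_c2 LD2_c46 LD3_c11) (LK LD1_c5 LD2_c40 LD3_c28) Lrfl Lrfl
theorem f557625 : Led Lsl_df (LP (LK LD1_c10 LD2_c5 LD3_c54)) = (LP (LK LD1_c5 LD2_c40 LD3_c28)) :=
  Lgr Lrot70 (Lpr_et (f22333 IH) (Lpr_dt (K40.f557619 IH) (Lpr_et (f548399 IH) (Lpq (K40.f547788 IH) (Lpq (K38.f544920 IH) (Lpe (K38.f548254 IH) (Lpr_et (f548262 IH) (Lpn (LP (LK LD1_c5 LD2_c40 LD3_c28))))))))))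
theorem f548376 : Led Lsl_et (LP (LK LD1_c5 LD2_c37 LD3_c59)) = (LP (LK LD1_c2 LD2_c44 LD3_c53)) :=
  Lre_e IH (LK LD1_c5 LD2_c37 LD3_c59) (LK LD1_c2 LD2_c44 LD3_c53) Lrfl Lrfl
theorem f548378 : Led Lsl_df (LP (LK LD1_c5 LD2_c37 LD3_c59)) = (LP (LK LD1_c5 LD2_c7 LD3_c54)) :=
  Lgr Lrot70 (Lpr_et (f548376 IH) (Lpr_dt (K41.f380297 IH) (Lpr_et (K38.f495641 IH) (Lpq (K38.f548366 IH) (Lpe (K38.f548134 IH) (Lpr_et (f548377 IH) (Lpn (LP (LK LD1_c5 LD2_c7 LD3_c54)))))))))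
theorem f579196 : Led Lsl_af (LP (LK LD1_c5 LD2_c40 LD3_c28)) = (LP (LK LD1_c5 LD2_c37 LD3_c59)) :=
  Lgr Lrot117 (Lpe (f557625 IH) (Lpr_at (f579164 IH) (Lpe (f548378 IH) (Lpn (LP (LK LD1_c5 LD2_c37 LD3_c59))))))
theorem f579211 : Led Lsl_ct (LP (LK LD1_c5 LD2_c40 LD3_c28)) = (LP (LK LD1_c11 LD2_c11 LD3_c37)) :=
  Lre_c IH (LK LD1_c5 LD2_c40 LD3_c28) (LK LD1_c11 LD2_c11 LD3_c37) Lrfl Lrfl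
theorem f561344 : Led Lsl_ct (LP (LK LD1_c11 LD2_c7 LD3_c13)) = (LP (LK LD1_c5 LD2_c37 LD3_c59)) :=
  Lre_c IH (LK LD1_c11 LD2_c7 LD3_c13) (LK LD1_c5 LD2_c37 LD3_c59) Lrfl Lrfl
theorem f579212 : Led Lsl_at (LP (LK LD1_c11 LD2_c11 LD3_c37)) = (LP (LK LD1_c11 LD2_c7 LD3_c13)) :=
  Lgr Lrot107 (Lpe (f579211 IH) (Lpr_af (f579196 IH) (Lpe (f561344 IH) (Lpn (LP (LK LD1_c11 LD2_c7 LD3_c13))))))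
theorem f557264 : Led Lsl_et (LP (LK LD1_c5 LD2_c40 LD3_c27)) = (LP (LK LD1_c11 LD2_c11 LD3_c37)) :=
  Lre_e IH (LK LD1_c5 LD2_c40 LD3_c27) (LK LD1_c11 LD2_c11 LD3_c37) Lrfl Lrfl
theorem f579231 : Led Lsl_et (LP (LK LD1_c11 LD2_c7 LD3_c13)) = (LP (LK LD1_c5 LD2_c37 LD3_c58)) :=
  Lre_e IH (LK LD1_c11 LD2_c7 LD3_c13) (LK LD1_c5 LD2_c37 LD3_c58) Lrfl Lrfl
theorem f579232 : Led Lsl_af (LP (LK LD1_c5 LD2_c40 LD3_c27)) = (LP (LK LD1_c5 LD2_c37 LD3_c58)) :=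
  Lgr Lrot50 (Lpr_et (f557264 IH) (Lpr_at (f579212 IH) (Lpr_et (f579231 IH) (Lpn (LP (LK LD1_c5 LD2_c37 LD3_c58))))))
theorem f557222 : Led Lsl_ft (LP (LK LD1_c11 LD2_c11 LD3_c34)) = (LP (LK LD1_c20 LD2_c6 LD3_c14)) :=
  Lre_f IH (LK LD1_c11 LD2_c11 LD3_c34) (LK LD1_c20 LD2_c6 LD3_c14) Lrfl Lrfl
theorem f557223 : Led Lsl_et (LP (LK LD1_c11 LD2_c7 LD3_c18)) = (LP (LK LD1_c5 LD2_c38 LD3_c0)) :=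
  Lre_e IH (LK LD1_c11 LD2_c7 LD3_c18) (LK LD1_c5 LD2_c38 LD3_c0) Lrfl Lrfl
theorem f557224 : Led Lsl_ft (LP (LK LD1_c20 LD2_c0 LD3_c40)) = (LP (LK LD1_c11 LD2_c7 LD3_c18)) :=
  Lre_f IH (LK LD1_c20 LD2_c0 LD3_c40) (LK LD1_c11 LD2_c7 LD3_c18) Lrfl Lrfl
theorem f557225 : Led Lsl_et (LP (LK LD1_c20 LD2_c6 LD3_c14)) = (LP (LK LD1_c20 LD2_c0 LD3_c40)) :=
  Lgr Lrot69 (Lpe (f557222 IH) (Lpe (K41.f553530 IH) (Lpr_ff (K39.f557217 IH) (Lpe (f557223 IH) (Lpe (f557224 IH) (Lpn (LP (LK LD1_c20 LD2_c0 LD3_c40))))))))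
theorem f557227 : Led Lsl_bt (LP (LK LD1_c11 LD2_c11 LD3_c39)) = (LP (LK LD1_c20 LD2_c6 LD3_c14)) :=
  Lre_b IH (LK LD1_c11 LD2_c11 LD3_c39) (LK LD1_c20 LD2_c6 LD3_c14) Lrfl Lrfl
theorem f557228 : Led Lsl_bt (LP (LK LD1_c20 LD2_c0 LD3_c40)) = (LP (LK LD1_c11 LD2_c7 LD3_c23)) :=
  Lre_b IH (LK LD1_c20 LD2_c0 LD3_c40) (LK LD1_c11 LD2_c7 LD3_c23) Lrfl Lrfl
theorem f557229 : Led Lsl_ef (LP (LK LD1_c11 LD2_c11 LD3_c39)) = (LP (LK LD1_c11 LD2_c7 LD3_c23)) :=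
  Lgr Lrot29 (Lpr_bt (f557227 IH) (Lpr_et (f557225 IH) (Lpr_bt (f557228 IH) (Lpn (LP (LK LD1_c11 LD2_c7 LD3_c23))))))
theorem f557235 : Led Lsl_et (LP (LK LD1_c11 LD2_c11 LD3_c39)) = (LP (LK LD1_c11 LD2_c7 LD3_c23)) :=
  Lgr Lrot87 (Lpr_ef (f557229 IH) (Lpn (LP (LK LD1_c11 LD2_c7 LD3_c23))))
theorem f557241 : Led Lsl_ct (LP (LK LD1_c20 LD2_c6 LD3_c21)) = (LP (LK LD1_c11 LD2_c11 LD3_c39)) :=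
  Lre_c IH (LK LD1_c20 LD2_c6 LD3_c21) (LK LD1_c11 LD2_c11 LD3_c39) Lrfl Lrfl
theorem f557242 : Led Lsl_ct (LP (LK LD1_c11 LD2_c7 LD3_c23)) = (LP (LK LD1_c20 LD2_c0 LD3_c51)) :=
  Lre_c IH (LK LD1_c11 LD2_c7 LD3_c23) (LK LD1_c20 LD2_c0 LD3_c51) Lrfl Lrfl
theorem f557243 : Led Lsl_ef (LP (LK LD1_c20 LD2_c6 LD3_c21)) = (LP (LK LD1_c20 LD2_c0 LD3_c51)) :=
  Lgr Lrot28 (Lpr_ct (f557241 IH) (Lpr_et (f557235 IH) (Lpr_ct (f557242 IH) (Lpn (LP (LK LD1_c20 LD2_c0 LD3_c51))))))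
theorem f557248 : Led Lsl_ft (LP (LK LD1_c20 LD2_c6 LD3_c21)) = (LP (LK LD1_c11 LD2_c11 LD3_c37)) :=
  Lre_f IH (LK LD1_c20 LD2_c6 LD3_c21) (LK LD1_c11 LD2_c11 LD3_c37) Lrfl Lrfl
theorem f423709 : Led Lsl_et (LP (LK LD1_c11 LD2_c11 LD3_c37)) = (LP (LK LD1_c5 LD2_c40 LD3_c27)) :=
  Lre_e IH (LK LD1_c11 LD2_c11 LD3_c37) (LK LD1_c5 LD2_c40 LD3_c27) Lrfl Lrfl
theorem f557249 : Led Lsl_ft (LP (LK LD1_c11 LD2_c7 LD3_c22)) = (LP (LK LD1_c20 LD2_c0 LD3_c51)) :=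
  Lre_f IH (LK LD1_c11 LD2_c7 LD3_c22) (LK LD1_c20 LD2_c0 LD3_c51) Lrfl Lrfl
theorem f557250 : Led Lsl_et (LP (LK LD1_c5 LD2_c38 LD3_c2)) = (LP (LK LD1_c11 LD2_c7 LD3_c22)) :=
  Lre_e IH (LK LD1_c5 LD2_c38 LD3_c2) (LK LD1_c11 LD2_c7 LD3_c22) Lrfl Lrfl
theorem f557251 : Led Lsl_ft (LP (LK LD1_c5 LD2_c40 LD3_c27)) = (LP (LK LD1_c5 LD2_c38 LD3_c2)) :=
  Lgr Lrot86 (Lpe (f423709 IH) (Lpe (f557248 IH) (Lpr_ef (f557243 IH) (Lpe (f557249 IH) (Lpe (f557250 IH) (Lpn (LP (LK LD1_c5 LD2_c38 LD3_c2))))))))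
theorem f561522 : Led Lsl_at (LP (LK LD1_c5 LD2_c38 LD3_c2)) = (LP (LK LD1_c5 LD2_c40 LD3_c24)) :=
  Lgr Lrot26 (Lpe (f557251 IH) (Lpr_gt (K40.f561517 IH) (Lpr_gt (K40.f380187 IH) (Lpn (LP (LK LD1_c5 LD2_c40 LD3_c24))))))
theorem f579238 : Led Lsl_ft (LP (LK LD1_c5 LD2_c40 LD3_c24)) = (LP (LK LD1_c5 LD2_c37 LD3_c58)) :=
  Lgr Lrot101 (Lpe (f561522 IH) (Lpe (f557251 IH) (Lpr_af (f579232 IH) (Lpn (LP (LK LD1_c5 LD2_c37 LD3_c58))))))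
theorem f579247 : Led Lsl_ff (LP (LK LD1_c5 LD2_c40 LD3_c24)) = (LP (LK LD1_c5 LD2_c37 LD3_c58)) :=
  Lgr Lrot3 (Lpr_ft (f579238 IH) (Lpn (LP (LK LD1_c5 LD2_c37 LD3_c58))))
theorem f380593 : Led Lsl_bt (LP (LK LD1_c5 LD2_c40 LD3_c24)) = (LP (LK LD1_c11 LD2_c11 LD3_c28)) :=
  Lre_b IH (LK LD1_c5 LD2_c40 LD3_c24) (LK LD1_c11 LD2_c11 LD3_c28) Lrfl Lrfl
theorem f561360 : Led Lsl_bt (LP (LK LD1_c11 LD2_c7 LD3_c11)) = (LP (LK LD1_c5 LD2_c37 LD3_c58)) :=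
  Lre_b IH (LK LD1_c11 LD2_c7 LD3_c11) (LK LD1_c5 LD2_c37 LD3_c58) Lrfl Lrfl
theorem f579251 : Led Lsl_ft (LP (LK LD1_c11 LD2_c11 LD3_c28)) = (LP (LK LD1_c11 LD2_c7 LD3_c11)) :=
  Lgr Lrot75 (Lpe (f380593 IH) (Lpr_ff (f579247 IH) (Lpe (f561360 IH) (Lpn (LP (LK LD1_c11 LD2_c7 LD3_c11))))))
theorem f418622 : Led Lsl_bt (LP (LK LD1_c5 LD2_c42 LD3_c54)) = (LP (LK LD1_c11 LD2_c16 LD3_c0)) :=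
  Lre_b IH (LK LD1_c5 LD2_c42 LD3_c54) (LK LD1_c11 LD2_c16 LD3_c0) Lrfl Lrfl
theorem f382020 : Led Lsl_bt (LP (LK LD1_c11 LD2_c11 LD3_c28)) = (LP (LK LD1_c5 LD2_c40 LD3_c24)) :=
  Lre_b IH (LK LD1_c11 LD2_c11 LD3_c28) (LK LD1_c5 LD2_c40 LD3_c24) Lrfl Lrfl
theorem f418623 : Led Lsl_ct (LP (LK LD1_c11 LD2_c16 LD3_c0)) = (LP (LK LD1_c11 LD2_c11 LD3_c28)) :=
  Lgr Lrot83 (Lpe (f418622 IH) (Lpr_cf (K39.f418619 IH) (Lpe (K40.f382021 IH) (Lpe (K31.f380186 IH) (Lpe (f382020 IH) (Lpn (LP (LK LD1_c11 LD2_c11 LD3_c28))))))))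
theorem f561330 : Led Lsl_cf (LP (LK LD1_c5 LD2_c37 LD3_c52)) = (LP (LK LD1_c9 LD2_c2 LD3_c6)) :=
  Lgr Lrot14 (Lpe (K40.f211937 IH) (Lpe (K39.f211852 IH) (Lpe (K40.f211897 IH) (Lpr_gf (K39.f424209 IH) (Lpr_ct (K31.f423741 IH) (Lpe (K31.f407092 IH) (Lpr_dt (K39.f385446 IH) (Lpr_gt (K39.f385511 IH) (Lpr_dt (K40.f561313 IH) (Lpn (LP (LK LD1_c9 LD2_c2 LD3_c6))))))))))))
theorem f561332 : Led Lsl_bt (LP (LK LD1_c5 LD2_c37 LD3_c52)) = (LP (LK LD1_c2 LD2_c44 LD3_c53)) :=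
  Lre_b IH (LK LD1_c5 LD2_c37 LD3_c52) (LK LD1_c2 LD2_c44 LD3_c53) Lrfl Lrfl
theorem f279618 : Led Lsl_bt (LP (LK LD1_c5 LD2_c37 LD3_c58)) = (LP (LK LD1_c11 LD2_c7 LD3_c11)) :=
  Lre_b IH (LK LD1_c5 LD2_c37 LD3_c58) (LK LD1_c11 LD2_c7 LD3_c11) Lrfl Lrfl
theorem f174513 : Led Lsl_bt (LP (LK LD1_c16 LD2_c52 LD3_c13)) = (LP (LK LD1_c9 LD2_c2 LD3_c6)) :=
  Lre_b IH (LK LD1_c16 LD2_c52 LD3_c13) (LK LD1_c9 LD2_c2 LD3_c6) Lrfl Lrfl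
theorem f561337 : Led Lsl_ct (LP (LK LD1_c11 LD2_c7 LD3_c11)) = (LP (LK LD1_c16 LD2_c52 LD3_c13)) :=
  Lgr Lrot83 (Lpe (f279618 IH) (Lpe (K40.f279617 IH) (Lpe (f561332 IH) (Lpr_cf (f561330 IH) (Lpe (f174513 IH) (Lpn (LP (LK LD1_c16 LD2_c52 LD3_c13))))))))
theorem f579257 : Led Lsl_ff (LP (LK LD1_c11 LD2_c16 LD3_c0)) = (LP (LK LD1_c16 LD2_c52 LD3_c13)) :=
  Lgr Lrot23 (Lpr_ct (f418623 IH) (Lpr_ft (f579251 IH) (Lpr_ct (f561337 IH) (Lpn (LP (LK LD1_c16 LD2_c52 LD3_c13))))))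
theorem f579263 : Led Lsl_ft (LP (LK LD1_c11 LD2_c16 LD3_c0)) = (LP (LK LD1_c16 LD2_c52 LD3_c13)) :=
  Lgr Lrot48 (Lpr_ff (f579257 IH) (Lpn (LP (LK LD1_c16 LD2_c52 LD3_c13))))
theorem f418674 : Led Lsl_dt (LP (LK LD1_c20 LD2_c11 LD3_c54)) = (LP (LK LD1_c11 LD2_c16 LD3_c0)) :=
  Lre_d IH (LK LD1_c20 LD2_c11 LD3_c54) (LK LD1_c11 LD2_c16 LD3_c0) Lrfl Lrfl
theorem f561315 : Led Lsl_df (LP (LK LD1_c11 LD2_c21 LD3_c21)) = (LP (LK LD1_c9 LD2_c2 LD3_c6)) :=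
  Lgr Lrot155 (Lpr_gt (K39.f168266 IH) (Lpr_ct (K30.f168261 IH) (Lpr_gt (K39.f385397 IH) (Lpr_ct (K40.f561306 IH) (Lpr_dt (K40.f73060 IH) (Lpe (K40.f68607 IH) (Lpe (K37.f542256 IH) (Lpe (K31.f174442 IH) (Lpe (K40.f174512 IH) (Lpn (LP (LK LD1_c9 LD2_c2 LD3_c6))))))))))))
theorem f411716 : Led Lsl_bt (LP (LK LD1_c11 LD2_c21 LD3_c21)) = (LP (LK LD1_c20 LD2_c19 LD3_c2)) :=
  Lre_b IH (LK LD1_c11 LD2_c21 LD3_c21) (LK LD1_c20 LD2_c19 LD3_c2) Lrfl Lrfl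
theorem f561317 : Led Lsl_dt (LP (LK LD1_c20 LD2_c19 LD3_c2)) = (LP (LK LD1_c16 LD2_c52 LD3_c13)) :=
  Lgr Lrot79 (Lpe (f411716 IH) (Lpr_df (f561315 IH) (Lpe (f174513 IH) (Lpn (LP (LK LD1_c16 LD2_c52 LD3_c13))))))
theorem f561321 : Led Lsl_df (LP (LK LD1_c20 LD2_c19 LD3_c2)) = (LP (LK LD1_c16 LD2_c52 LD3_c13)) :=
  Lgr Lrot38 (Lpr_dt (f561317 IH) (Lpn (LP (LK LD1_c16 LD2_c52 LD3_c13))))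
theorem f579269 : Led Lsl_ff (LP (LK LD1_c20 LD2_c11 LD3_c54)) = (LP (LK LD1_c20 LD2_c19 LD3_c2)) :=
  Lgr Lrot19 (Lpr_dt (f418674 IH) (Lpr_ft (f579263 IH) (Lpe (f561321 IH) (Lpn (LP (LK LD1_c20 LD2_c19 LD3_c2))))))
theorem f424367 : Led Lsl_bt (LP (LK LD1_c20 LD2_c11 LD3_c54)) = (LP (LK LD1_c11 LD2_c16 LD3_c1)) :=
  Lre_b IH (LK LD1_c20 LD2_c11 LD3_c54) (LK LD1_c11 LD2_c16 LD3_c1) Lrfl Lrfl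
theorem f579271 : Led Lsl_ft (LP (LK LD1_c11 LD2_c16 LD3_c1)) = (LP (LK LD1_c11 LD2_c21 LD3_c21)) :=
  Lgr Lrot75 (Lpe (f424367 IH) (Lpr_ff (f579269 IH) (Lpe (f411716 IH) (Lpn (LP (LK LD1_c11 LD2_c21 LD3_c21))))))
theorem f579276 : Led Lsl_ff (LP (LK LD1_c11 LD2_c16 LD3_c1)) = (LP (LK LD1_c11 LD2_c21 LD3_c21)) :=
  Lgr Lrot3 (Lpr_ft (f579271 IH) (Lpn (LP (LK LD1_c11 LD2_c21 LD3_c21))))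
theorem f385839 : Led Lsl_gt (LP (LK LD1_c5 LD2_c45 LD3_c26)) = (LP (LK LD1_c11 LD2_c21 LD3_c20)) :=
  Lre_g IH (LK LD1_c5 LD2_c45 LD3_c26) (LK LD1_c11 LD2_c21 LD3_c20) Lrfl Lrfl
theorem f579281 : Led Lsl_at (LP (LK LD1_c11 LD2_c16 LD3_c1)) = (LP (LK LD1_c11 LD2_c21 LD3_c20)) :=
  Lgr Lrot26 (Lpr_ff (f579276 IH) (Lpr_gt (K39.f168266 IH) (Lpr_gt (f385839 IH) (Lpn (LP (LK LD1_c11 LD2_c21 LD3_c20))))))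
theorem f385842 : Led Lsl_ct (LP (LK LD1_c20 LD2_c19 LD3_c1)) = (LP (LK LD1_c11 LD2_c21 LD3_c20)) :=
  Lre_c IH (LK LD1_c20 LD2_c19 LD3_c1) (LK LD1_c11 LD2_c21 LD3_c20) Lrfl Lrfl
theorem f211891 : Led Lsl_dt (LP (LK LD1_c5 LD2_c37 LD3_c52)) = (LP (LK LD1_c2 LD2_c44 LD3_c51)) :=
  Lre_d IH (LK LD1_c5 LD2_c37 LD3_c52) (LK LD1_c2 LD2_c44 LD3_c51) Lrfl Lrfl
theorem f280483 : Led Lsl_ct (LP (LK LD1_c8 LD2_c43 LD3_c37)) = (LP (LK LD1_c16 LD2_c20 LD3_c38)) :=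
  Lre_c IH (LK LD1_c8 LD2_c43 LD3_c37) (LK LD1_c16 LD2_c20 LD3_c38) Lrfl Lrfl
theorem f579283 : Led Lsl_df (LP (LK LD1_c20 LD2_c19 LD3_c1)) = (LP (LK LD1_c16 LD2_c20 LD3_c38)) :=
  Lgr Lrot177 (Lpr_ct (f385842 IH) (Lpe (f579281 IH) (Lpr_ff (f579276 IH) (Lpr_dt (K40.f561313 IH) (Lpe (f561330 IH) (Lpr_dt (f211891 IH) (Lpr_ct (K39.f211850 IH) (Lpe (K39.f549664 IH) (Lpr_ct (f280483 IH) (Lpn (LP (LK LD1_c16 LD2_c20 LD3_c38))))))))))))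
theorem f411719 : Led Lsl_dt (LP (LK LD1_c11 LD2_c15 LD3_c30)) = (LP (LK LD1_c20 LD2_c10 LD3_c41)) :=
  Lre_d IH (LK LD1_c11 LD2_c15 LD3_c30) (LK LD1_c20 LD2_c10 LD3_c41) Lrfl Lrfl
theorem f411710 : Led Lsl_dt (LP (LK LD1_c29 LD2_c20 LD3_c24)) = (LP (LK LD1_c20 LD2_c10 LD3_c39)) :=
  Lre_d IH (LK LD1_c29 LD2_c20 LD3_c24) (LK LD1_c20 LD2_c10 LD3_c39) Lrfl Lrfl
theorem f385456 : Led Lsl_dt (LP (LK LD1_c16 LD2_c56 LD3_c0)) = (LP (LK LD1_c9 LD2_c4 LD3_c25)) :=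
  Lre_d IH (LK LD1_c16 LD2_c56 LD3_c0) (LK LD1_c9 LD2_c4 LD3_c25) Lrfl Lrfl
theorem f385415 : Led Lsl_ff (LP (LK LD1_c9 LD2_c4 LD3_c29)) = (LP (LK LD1_c5 LD2_c45 LD3_c26)) :=
  Lgr Lrot23 (Lpr_ct (K30.f174879 IH) (Lpr_ft (K30.f385405 IH) (Lpr_ct (K30.f168307 IH) (Lpn (LP (LK LD1_c5 LD2_c45 LD3_c26))))))
theorem f385465 : Led Lsl_at (LP (LK LD1_c9 LD2_c4 LD3_c29)) = (LP (LK LD1_c16 LD2_c56 LD3_c0)) :=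
  Lre_a IH (LK LD1_c9 LD2_c4 LD3_c29) (LK LD1_c16 LD2_c56 LD3_c0) Lrfl Lrfl
theorem f385840 : Led Lsl_gf (LP (LK LD1_c16 LD2_c56 LD3_c0)) = (LP (LK LD1_c11 LD2_c21 LD3_c20)) :=
  Lgr Lrot76 (Lpe (f385465 IH) (Lpr_ff (f385415 IH) (Lpr_gt (f385839 IH) (Lpn (LP (LK LD1_c11 LD2_c21 LD3_c20))))))
theorem f423743 : Led Lsl_gf (LP (LK LD1_c29 LD2_c20 LD3_c24)) = (LP (LK LD1_c20 LD2_c19 LD3_c1)) :=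
  Lgr Lrot144 (Lpr_dt (f411710 IH) (Lpr_gt (K39.f411667 IH) (Lpr_dt (f411719 IH) (Lpr_cf (K31.f423733 IH) (Lpr_df (K31.f422967 IH) (Lpe (K31.f385461 IH) (Lpe (f385456 IH) (Lpr_gf (f385840 IH) (Lpe (f385842 IH) (Lpn (LP (LK LD1_c20 LD2_c19 LD3_c1))))))))))))
theorem f540738 : Led Lsl_df (LP (LK LD1_c15 LD2_c7 LD3_c50)) = (LP (LK LD1_c22 LD2_c51 LD3_c60)) :=
  Lgr Lrot12 (Lpr_bt (f502422 IH) (Lpr_dt (K42.f540733 IH) (Lpr_bt (K42.f540737 IH) (Lpn (LP (LK LD1_c22 LD2_c51 LD3_c60))))))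
theorem f418223 : Led Lsl_dt (LP (LK LD1_c26 LD2_c19 LD3_c52)) = (LP (LK LD1_c16 LD2_c21 LD3_c56)) :=
  Lre_d IH (LK LD1_c26 LD2_c19 LD3_c52) (LK LD1_c16 LD2_c21 LD3_c56) Lrfl Lrfl
theorem f394672 : Led Lsl_ff (LP (LK LD1_c15 LD2_c23 LD3_c32)) = (LP (LK LD1_c16 LD2_c20 LD3_c42)) :=
  Lgr Lrot3 (Lpr_ft (K39.f394660 IH) (Lpn (LP (LK LD1_c16 LD2_c20 LD3_c42))))
theorem f238971 : Led Lsl_dt (LP (LK LD1_c26 LD2_c18 LD3_c39)) = (LP (LK LD1_c16 LD2_c20 LD3_c42)) :=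
  Lre_d IH (LK LD1_c26 LD2_c18 LD3_c39) (LK LD1_c16 LD2_c20 LD3_c42) Lrfl Lrfl
theorem f394675 : Led Lsl_ft (LP (LK LD1_c25 LD2_c15 LD3_c51)) = (LP (LK LD1_c26 LD2_c18 LD3_c39)) :=
  Lgr Lrot54 (Lpe (K39.f192833 IH) (Lpr_ff (f394672 IH) (Lpe (f238971 IH) (Lpn (LP (LK LD1_c26 LD2_c18 LD3_c39))))))
theorem f554480 : Led Lsl_af (LP (LK LD1_c26 LD2_c21 LD3_c39)) = (LP (LK LD1_c26 LD2_c18 LD3_c39)) :=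
  Lgr Lrot109 (Lpr_cf (K39.f554476 IH) (Lpe (K39.f192833 IH) (Lpe (K39.f192832 IH) (Lpe (K39.f53123 IH) (Lpe (K39.f192793 IH) (Lpe (K39.f53126 IH) (Lpe (K39.f192830 IH) (Lpe (K39.f192831 IH) (Lpr_ft (f394675 IH) (Lpn (LP (LK LD1_c26 LD2_c18 LD3_c39))))))))))))
theorem f30517 : Led Lsl_gt (LP (LK LD1_c15 LD2_c7 LD3_c28)) = (LP (LK LD1_c24 LD2_c55 LD3_c38)) :=
  Lre_g IH (LK LD1_c15 LD2_c7 LD3_c28) (LK LD1_c24 LD2_c55 LD3_c38) Lrfl Lrfl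
theorem f30518 : Led Lsl_dt (LP (LK LD1_c24 LD2_c55 LD3_c38)) = (LP (LK LD1_c31 LD2_c43 LD3_c4)) :=
  Lre_d IH (LK LD1_c24 LD2_c55 LD3_c38) (LK LD1_c31 LD2_c43 LD3_c4) Lrfl Lrfl
theorem f552343 : Led Lsl_gt (LP (LK LD1_c31 LD2_c43 LD3_c4)) = (LP (LK LD1_c26 LD2_c21 LD3_c39)) :=
  Lgr Lrot49 (Lpe (f30518 IH) (Lpe (f30517 IH) (Lpe (K7.f29364 IH) (Lpr_gt (K39.f30512 IH) (Lpe (K39.f158616 IH) (Lpr_gt (K39.f552339 IH) (Lpr_dt (K39.f70028 IH) (Lpe (K39.f70037 IH) (Lpe (K39.f70057 IH) (Lpn (LP (LK LD1_c26 LD2_c21 LD3_c39))))))))))))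
theorem f554482 : Led Lsl_gf (LP (LK LD1_c31 LD2_c43 LD3_c4)) = (LP (LK LD1_c25 LD2_c15 LD3_c51)) :=
  Lgr Lrot47 (Lpr_gt (f552343 IH) (Lpr_af (f554480 IH) (Lpe (f394675 IH) (Lpn (LP (LK LD1_c25 LD2_c15 LD3_c51))))))
theorem f29405 : Led Lsl_dt (LP (LK LD1_c31 LD2_c43 LD3_c4)) = (LP (LK LD1_c24 LD2_c55 LD3_c38)) :=
  Lre_d IH (LK LD1_c31 LD2_c43 LD3_c4) (LK LD1_c24 LD2_c55 LD3_c38) Lrfl Lrfl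
theorem f29404 : Led Lsl_gt (LP (LK LD1_c24 LD2_c55 LD3_c38)) = (LP (LK LD1_c15 LD2_c7 LD3_c16)) :=
  Lre_g IH (LK LD1_c24 LD2_c55 LD3_c38) (LK LD1_c15 LD2_c7 LD3_c16) Lrfl Lrfl
theorem f554484 : Led Lsl_gf (LP (LK LD1_c26 LD2_c19 LD3_c52)) = (LP (LK LD1_c26 LD2_c21 LD3_c39)) :=
  Lgr Lrot144 (Lpr_dt (f418223 IH) (Lpe (K39.f418219 IH) (Lpr_dt (K7.f29365 IH) (Lpr_cf (K7.f29376 IH) (Lpe (K7.f29375 IH) (Lpe (f29404 IH) (Lpe (f29405 IH) (Lpr_gf (f554482 IH) (Lpe (K39.f554478 IH) (Lpn (LP (LK LD1_c26 LD2_c21 LD3_c39))))))))))))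
theorem f570993 : Led Lsl_gf (LP (LK LD1_c22 LD2_c51 LD3_c60)) = (LP (LK LD1_c15 LD2_c7 LD3_c7)) :=
  Lgr Lrot144 (Lpe (f540738 IH) (Lpr_gt (K42.f570991 IH) (Lpe (K39.f554499 IH) (Lpe (K39.f418224 IH) (Lpe (f418223 IH) (Lpr_gf (f554484 IH) (Lpe (K39.f70030 IH) (Lpr_gf (K39.f554464 IH) (Lpe (K39.f554449 IH) (Lpn (LP (LK LD1_c15 LD2_c7 LD3_c7))))))))))))
theorem f554460 : Led Lsl_bt (LP (LK LD1_c8 LD2_c44 LD3_c23)) = (LP (LK LD1_c15 LD2_c7 LD3_c7)) :=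
  Lgr Lrot127 (Lpr_bf (K39.f554458 IH) (Lpn (LP (LK LD1_c15 LD2_c7 LD3_c7))))
theorem f427558 : Led Lsl_ct (LP (LK LD1_c8 LD2_c44 LD3_c23)) = (LP (LK LD1_c16 LD2_c21 LD3_c43)) :=
  Lre_c IH (LK LD1_c8 LD2_c44 LD3_c23) (LK LD1_c16 LD2_c21 LD3_c43) Lrfl Lrfl
theorem f571015 : Led Lsl_gf (LP (LK LD1_c16 LD2_c21 LD3_c43)) = (LP (LK LD1_c16 LD2_c20 LD3_c38)) :=
  Lgr Lrot129 (Lpe (f427558 IH) (Lpr_bt (f554460 IH) (Lpe (f570993 IH) (Lpe (K42.f540737 IH) (Lpr_ct (K42.f571007 IH) (Lpe (K42.f571013 IH) (Lpe (K39.f98096 IH) (Lpr_bt (K39.f552798 IH) (Lpr_gt (K39.f280481 IH) (Lpr_ct (f280483 IH) (Lpn (LP (LK LD1_c16 LD2_c20 LD3_c38)))))))))))))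
theorem f427561 : Led Lsl_ct (LP (LK LD1_c16 LD2_c21 LD3_c43)) = (LP (LK LD1_c8 LD2_c44 LD3_c23)) :=
  Lre_c IH (LK LD1_c16 LD2_c21 LD3_c43) (LK LD1_c8 LD2_c44 LD3_c23) Lrfl Lrfl
theorem f423964 : Led Lsl_gt (LP (LK LD1_c20 LD2_c11 LD3_c30)) = (LP (LK LD1_c11 LD2_c15 LD3_c51)) :=
  Lre_g IH (LK LD1_c20 LD2_c11 LD3_c30) (LK LD1_c11 LD2_c15 LD3_c51) Lrfl Lrfl
theorem f579289 : Led Lsl_ct (LP (LK LD1_c29 LD2_c20 LD3_c24)) = (LP (LK LD1_c20 LD2_c11 LD3_c30)) :=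
  Lgr Lrot152 (Lpr_gf (f423743 IH) (Lpr_df (f579283 IH) (Lpe (f571015 IH) (Lpr_ct (f427561 IH) (Lpe (K38.f549888 IH) (Lpe (K38.f269648 IH) (Lpe (K40.f269674 IH) (Lpr_cf (K40.f561280 IH) (Lpe (f423964 IH) (Lpn (LP (LK LD1_c20 LD2_c11 LD3_c30))))))))))))
theorem f566683 : Led Lsl_ct (LP (LK LD1_c7 LD2_c59 LD3_c20)) = (LP (LK LD1_c4 LD2_c23 LD3_c23)) :=
  Lgr Lrot83 (Lpr_bf (K41.f566678 IH) (Lpe (K41.f557355 IH) (Lpq (K41.f558330 IH) (Lpe (K30.f495256 IH) (Lpe (K39.f424195 IH) (Lpe (K41.f424225 IH) (Lpn (LP (LK LD1_c4 LD2_c23 LD3_c23)))))))))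
theorem f542238 : Led Lsl_ct (LP (LK LD1_c16 LD2_c21 LD3_c44)) = (LP (LK LD1_c8 LD2_c44 LD3_c25)) :=
  Lre_c IH (LK LD1_c16 LD2_c21 LD3_c44) (LK LD1_c8 LD2_c44 LD3_c25) Lrfl Lrfl
theorem f566695 : Led Lsl_gf (LP (LK LD1_c16 LD2_c21 LD3_c44)) = (LP (LK LD1_c16 LD2_c20 LD3_c36)) :=
  Lgr Lrot104 (Lpr_ct (f542238 IH) (Lpe (K39.f542237 IH) (Lpe (f566683 IH) (Lpr_gf (K41.f566691 IH) (Lpe (K31.f424090 IH) (Lpe (K31.f181744 IH) (Lpe (K16.f181745 IH) (Lpr_gt (K39.f181761 IH) (Lpr_ct (K39.f236583 IH) (Lpn (LP (LK LD1_c16 LD2_c20 LD3_c36))))))))))))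
theorem f566714 : Led Lsl_dt (LP (LK LD1_c16 LD2_c21 LD3_c44)) = (LP (LK LD1_c26 LD2_c19 LD3_c47)) :=
  Lre_d IH (LK LD1_c16 LD2_c21 LD3_c44) (LK LD1_c26 LD2_c19 LD3_c47) Lrfl Lrfl
theorem f579296 : Led Lsl_cf (LP (LK LD1_c26 LD2_c19 LD3_c47)) = (LP (LK LD1_c20 LD2_c10 LD3_c11)) :=
  Lgr Lrot14 (Lpe (f566714 IH) (Lpr_gf (f566695 IH) (Lpe (K39.f552685 IH) (Lpe (K39.f411708 IH) (Lpr_ct (f579289 IH) (Lpr_gt (f423964 IH) (Lpr_dt (K40.f402620 IH) (Lpr_gt (K36.f280305 IH) (Lpr_dt (K36.f423958 IH) (Lpn (LP (LK LD1_c20 LD2_c10 LD3_c11))))))))))))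
theorem f542239 : Led Lsl_dt (LP (LK LD1_c26 LD2_c19 LD3_c47)) = (LP (LK LD1_c16 LD2_c21 LD3_c44)) :=
  Lre_d IH (LK LD1_c26 LD2_c19 LD3_c47) (LK LD1_c16 LD2_c21 LD3_c44) Lrfl Lrfl
theorem f566674 : Led Lsl_at (LP (LK LD1_c3 LD2_c59 LD3_c1)) = (LP (LK LD1_c7 LD2_c59 LD3_c20)) :=
  Lre_a IH (LK LD1_c3 LD2_c59 LD3_c1) (LK LD1_c7 LD2_c59 LD3_c20) Lrfl Lrfl
theorem f566675 : Led Lsl_ft (LP (LK LD1_c7 LD2_c59 LD3_c9)) = (LP (LK LD1_c3 LD2_c59 LD3_c1)) :=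
  Lre_f IH (LK LD1_c7 LD2_c59 LD3_c9) (LK LD1_c3 LD2_c59 LD3_c1) Lrfl Lrfl
theorem f579322 : Led Lsl_dt (LP (LK LD1_c7 LD2_c59 LD3_c9)) = (LP (LK LD1_c11 LD2_c6 LD3_c55)) :=
  Lgr Lrot159 (Lpr_ft (f566675 IH) (Lpr_at (f566674 IH) (Lpr_cf (K41.f566697 IH) (Lpe (K39.f542241 IH) (Lpe (f542238 IH) (Lpe (f542239 IH) (Lpr_cf (f579296 IH) (Lpe (K36.f423958 IH) (Lpe (K36.f402599 IH) (Lpn (LP (LK LD1_c11 LD2_c6 LD3_c55))))))))))))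
theorem f579329 : Led Lsl_cf (LP (LK LD1_c7 LD2_c59 LD3_c9)) = (LP (LK LD1_c4 LD2_c23 LD3_c21)) :=
  Lgr Lrot175 (Lpr_dt (f579322 IH) (Lpr_cf (K36.f402603 IH) (Lpe (K36.f280305 IH) (Lpe (K36.f280304 IH) (Lpe (K36.f280301 IH) (Lpr_dt (K16.f172745 IH) (Lpr_gt (K31.f172438 IH) (Lpr_ct (K36.f172439 IH) (Lpqs (K38.f549225 IH) (Lpr_gt (K38.f549886 IH) (Lpn (LP (LK LD1_c4 LD2_c23 LD3_c21)))))))))))))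
theorem f427557 : Led Lsl_dt (LP (LK LD1_c8 LD2_c44 LD3_c23)) = (LP (LK LD1_c4 LD2_c23 LD3_c21)) :=
  Lre_d IH (LK LD1_c8 LD2_c44 LD3_c23) (LK LD1_c4 LD2_c23 LD3_c21) Lrfl Lrfl
theorem f29516 : Led Lsl_dt (LP (LK LD1_c8 LD2_c1 LD3_c46)) = (LP (LK LD1_c15 LD2_c7 LD3_c7)) :=
  Lre_d IH (LK LD1_c8 LD2_c1 LD3_c46) (LK LD1_c15 LD2_c7 LD3_c7) Lrfl Lrfl
theorem f554462 : Led Lsl_bt (LP (LK LD1_c4 LD2_c23 LD3_c21)) = (LP (LK LD1_c8 LD2_c1 LD3_c46)) :=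
  Lgr Lrot95 (Lpe (f427557 IH) (Lpr_bf (K39.f554458 IH) (Lpe (f29516 IH) (Lpn (LP (LK LD1_c8 LD2_c1 LD3_c46))))))
theorem f571099 : Led Lsl_gt (LP (LK LD1_c8 LD2_c1 LD3_c46)) = (LP (LK LD1_c13 LD2_c30 LD3_c58)) :=
  Lgr Lrot149 (Lpe (K39.f29515 IH) (Lpe (K39.f29510 IH) (Lpe (K38.f29509 IH) (Lpr_ct (K11.f29258 IH) (Lpe (K12.f29302 IH) (Lpr_cf (K13.f29610 IH) (Lpr_bt (K31.f29609 IH) (Lpe (K41.f29634 IH) (Lpe (K42.f29635 IH) (Lpr_ct (K42.f571081 IH) (Lpn (LP (LK LD1_c13 LD2_c30 LD3_c58)))))))))))))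
theorem f579341 : Led Lsl_gf (LP (LK LD1_c7 LD2_c59 LD3_c9)) = (LP (LK LD1_c4 LD2_c31 LD3_c56)) :=
  Lgr Lrot129 (Lpr_cf (f579329 IH) (Lpr_bt (f554462 IH) (Lpr_gt (f571099 IH) (Lpe (K41.f564993 IH) (Lpe (K41.f564989 IH) (Lpr_gt (K41.f10799 IH) (Lpr_cf (K39.f98092 IH) (Lpr_bt (K41.f552704 IH) (Lpr_gt (K31.f281922 IH) (Lpr_ct (K31.f181759 IH) (Lpn (LP (LK LD1_c4 LD2_c31 LD3_c56)))))))))))))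
theorem f579326 : Led Lsl_bt (LP (LK LD1_c3 LD2_c58 LD3_c57)) = (LP (LK LD1_c7 LD2_c59 LD3_c9)) :=
  Lre_b IH (LK LD1_c3 LD2_c58 LD3_c57) (LK LD1_c7 LD2_c59 LD3_c9) Lrfl Lrfl
theorem f579052 : Led Lsl_ct (LP (LK LD1_c3 LD2_c58 LD3_c57)) = (LP (LK LD1_c7 LD2_c59 LD3_c10)) :=
  Lre_c IH (LK LD1_c3 LD2_c58 LD3_c57) (LK LD1_c7 LD2_c59 LD3_c10) Lrfl Lrfl
theorem f137989 : Led Lsl_dt (LP (LK LD1_c7 LD2_c59 LD3_c30)) = (LP (LK LD1_c4 LD2_c5 LD3_c52)) :=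
  Lgr Lrot42 (Lpr_df (K36.f137984 IH) (Lpn (LP (LK LD1_c4 LD2_c5 LD3_c52))))
theorem f137988 : Led Lsl_dt (LP (LK LD1_c15 LD2_c26 LD3_c25)) = (LP (LK LD1_c8 LD2_c12 LD3_c22)) :=
  Lre_d IH (LK LD1_c15 LD2_c26 LD3_c25) (LK LD1_c8 LD2_c12 LD3_c22) Lrfl Lrfl
theorem f579053 : Led Lsl_gt (LP (LK LD1_c7 LD2_c59 LD3_c10)) = (LP (LK LD1_c5 LD2_c41 LD3_c60)) :=
  Lgr Lrot94 (Lpe (f579052 IH) (Lpr_gt (f579049 IH) (Lpr_dt (K38.f101545 IH) (Lpr_gt (f40868 IH) (Lpr_dt (f137989 IH) (Lpe (K39.f137987 IH) (Lpe (f137988 IH) (Lpr_gf (K42.f559586 IH) (Lpe (K40.f551973 IH) (Lpn (LP (LK LD1_c5 LD2_c41 LD3_c60))))))))))))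
theorem f579349 : Led Lsl_bt (LP (LK LD1_c2 LD2_c46 LD3_c59)) = (LP (LK LD1_c2 LD2_c46 LD3_c6)) :=
  Lgr Lrot130 (Lpr_ct (K40.f422810 IH) (Lpe (f579053 IH) (Lpe (f579052 IH) (Lpr_bt (f579326 IH) (Lpr_gf (f579341 IH) (Lpe (K31.f181758 IH) (Lpe (K31.f382046 IH) (Lpe (K31.f381831 IH) (Lpe (K27.f381955 IH) (Lpr_gf (K30.f382008 IH) (Lpn (LP (LK LD1_c2 LD2_c46 LD3_c6)))))))))))))
theorem f579355 : Led Lsl_bf (LP (LK LD1_c4 LD2_c36 LD3_c2)) = (LP (LK LD1_c2 LD2_c55 LD3_c48)) :=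
  Lgr Lrot96 (Lpe (K40.f563677 IH) (Lpr_bt (f579349 IH) (Lpe (K40.f563171 IH) (Lpn (LP (LK LD1_c2 LD2_c55 LD3_c48))))))
theorem f428174 : Led Lsl_dt (LP (LK LD1_c5 LD2_c58 LD3_c46)) = (LP (LK LD1_c2 LD2_c55 LD3_c48)) :=
  Lre_d IH (LK LD1_c5 LD2_c58 LD3_c46) (LK LD1_c2 LD2_c55 LD3_c48) Lrfl Lrfl
theorem f579357 : Led Lsl_bt (LP (LK LD1_c9 LD2_c8 LD3_c19)) = (LP (LK LD1_c5 LD2_c58 LD3_c46)) :=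
  Lgr Lrot95 (Lpe (K38.f198498 IH) (Lpr_bf (f579355 IH) (Lpe (f428174 IH) (Lpn (LP (LK LD1_c5 LD2_c58 LD3_c46))))))
theorem f579363 : Led Lsl_bf (LP (LK LD1_c4 LD2_c36 LD3_c22)) = (LP (LK LD1_c5 LD2_c50 LD3_c61)) :=
  Lgr Lrot61 (Lpr_ft (K42.f569146 IH) (Lpr_bt (f579357 IH) (Lpr_ft (f563175 IH) (Lpn (LP (LK LD1_c5 LD2_c50 LD3_c61))))))
theorem f208529 : Led Lsl_ct (LP (LK LD1_c5 LD2_c50 LD3_c61)) = (LP (LK LD1_c11 LD2_c29 LD3_c31)) :=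
  Lre_c IH (LK LD1_c5 LD2_c50 LD3_c61) (LK LD1_c11 LD2_c29 LD3_c31) Lrfl Lrfl
theorem f208534 : Led Lsl_dt (LP (LK LD1_c2 LD2_c51 LD3_c44)) = (LP (LK LD1_c5 LD2_c50 LD3_c61)) :=
  Lre_d IH (LK LD1_c2 LD2_c51 LD3_c44) (LK LD1_c5 LD2_c50 LD3_c61) Lrfl Lrfl
theorem f208531 : Led Lsl_ct (LP (LK LD1_c11 LD2_c29 LD3_c31)) = (LP (LK LD1_c5 LD2_c50 LD3_c61)) :=
  Lre_c IH (LK LD1_c11 LD2_c29 LD3_c31) (LK LD1_c5 LD2_c50 LD3_c61) Lrfl Lrfl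
theorem f548250 : Led Lsl_gf (LP (LK LD1_c11 LD2_c29 LD3_c31)) = (LP (LK LD1_c9 LD2_c51 LD3_c11)) :=
  Lgr Lrot104 (Lpr_ct (f208531 IH) (Lpe (f208534 IH) (Lpe (K36.f208520 IH) (Lpr_gf (K38.f500183 IH) (Lpq (K38.f541437 IH) (Lpe (K7.f20357 IH) (Lpqs (K38.f541437 IH) (Lpr_gf (K38.f541425 IH) (Lpe (K38.f174843 IH) (Lpr_gt (K38.f548246 IH) (Lpr_ct (K36.f101580 IH) (Lpn (LP (LK LD1_c9 LD2_c51 LD3_c11))))))))))))))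
theorem f100610 : Led Lsl_bt (LP (LK LD1_c6 LD2_c13 LD3_c28)) = (LP (LK LD1_c3 LD2_c3 LD3_c33)) :=
  Lre_b IH (LK LD1_c6 LD2_c13 LD3_c28) (LK LD1_c3 LD2_c3 LD3_c33) Lrfl Lrfl
theorem f579370 : Led Lsl_gt (LP (LK LD1_c17 LD2_c1 LD3_c42)) = (LP (LK LD1_c12 LD2_c5 LD3_c45)) :=
  Lgr Lrot149 (Lpe (K42.f138492 IH) (Lpe (K35.f138489 IH) (Lpr_bf (f579363 IH) (Lpr_ct (f208529 IH) (Lpr_gf (f548250 IH) (Lpe (K36.f101580 IH) (Lpr_bt (K36.f101579 IH) (Lpr_gf (K9.f101577 IH) (Lpe (f100610 IH) (Lpr_ct (K42.f100900 IH) (Lpn (LP (LK LD1_c12 LD2_c5 LD3_c45)))))))))))))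
theorem f579377 : Led Lsl_bt (LP (LK LD1_c9 LD2_c8 LD3_c53)) = (LP (LK LD1_c4 LD2_c38 LD3_c25)) :=
  Lgr Lrot92 (Lpr_ct (K42.f138492 IH) (Lpr_gt (f579370 IH) (Lpe (K42.f100900 IH) (Lpr_bt (f100610 IH) (Lpe (K9.f101577 IH) (Lpe (K9.f176518 IH) (Lpr_gt (K9.f176081 IH) (Lpe (K10.f9412 IH) (Lpr_bt (K40.f176453 IH) (Lpr_gt (K37.f142146 IH) (Lpn (LP (LK LD1_c4 LD2_c38 LD3_c25)))))))))))))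
theorem f387451 : Led Lsl_gt (LP (LK LD1_c11 LD2_c16 LD3_c38)) = (LP (LK LD1_c6 LD2_c1 LD3_c37)) :=
  Lre_g IH (LK LD1_c11 LD2_c16 LD3_c38) (LK LD1_c6 LD2_c1 LD3_c37) Lrfl Lrfl
theorem f100465 : Led Lsl_ct (LP (LK LD1_c6 LD2_c13 LD3_c18)) = (LP (LK LD1_c12 LD2_c5 LD3_c29)) :=
  Lre_c IH (LK LD1_c6 LD2_c13 LD3_c18) (LK LD1_c12 LD2_c5 LD3_c29) Lrfl Lrfl
theorem f579393 : Led Lsl_gf (LP (LK LD1_c17 LD2_c1 LD3_c42)) = (LP (LK LD1_c12 LD2_c5 LD3_c29)) :=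
  Lgr Lrot129 (Lpe (K42.f138492 IH) (Lpr_bt (f579377 IH) (Lpe (K37.f546334 IH) (Lpr_bf (K40.f546068 IH) (Lpr_ct (K40.f387450 IH) (Lpr_gt (f387451 IH) (Lpr_cf (K40.f559710 IH) (Lpe (K40.f559721 IH) (Lpr_gt (K40.f100471 IH) (Lpr_ct (f100465 IH) (Lpn (LP (LK LD1_c12 LD2_c5 LD3_c29)))))))))))))
theorem f138502 : Led Lsl_ct (LP (LK LD1_c17 LD2_c1 LD3_c42)) = (LP (LK LD1_c9 LD2_c8 LD3_c53)) :=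
  Lre_c IH (LK LD1_c17 LD2_c1 LD3_c42) (LK LD1_c9 LD2_c8 LD3_c53) Lrfl Lrfl
theorem f548188 : Led Lsl_dt (LP (LK LD1_c17 LD2_c1 LD3_c49)) = (LP (LK LD1_c9 LD2_c8 LD3_c56)) :=
  Lre_d IH (LK LD1_c17 LD2_c1 LD3_c49) (LK LD1_c9 LD2_c8 LD3_c56) Lrfl Lrfl
theorem f547501 : Led Lsl_dt (LP (LK LD1_c9 LD2_c8 LD3_c56)) = (LP (LK LD1_c17 LD2_c1 LD3_c49)) :=
  Lre_d IH (LK LD1_c9 LD2_c8 LD3_c56) (LK LD1_c17 LD2_c1 LD3_c49) Lrfl Lrfl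
theorem f548659 : Led Lsl_dt (LP (LK LD1_c4 LD2_c36 LD3_c27)) = (LP (LK LD1_c9 LD2_c9 LD3_c2)) :=
  Lre_d IH (LK LD1_c4 LD2_c36 LD3_c27) (LK LD1_c9 LD2_c9 LD3_c2) Lrfl Lrfl
theorem f548660 : Led Lsl_gt (LP (LK LD1_c9 LD2_c9 LD3_c2)) = (LP (LK LD1_c17 LD2_c2 LD3_c1)) :=
  Lre_g IH (LK LD1_c9 LD2_c9 LD3_c2) (LK LD1_c17 LD2_c2 LD3_c1) Lrfl Lrfl
theorem f101745 : Led Lsl_dt (LP (LK LD1_c4 LD2_c58 LD3_c59)) = (LP (LK LD1_c2 LD2_c27 LD3_c21)) :=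
  Lre_d IH (LK LD1_c4 LD2_c58 LD3_c59) (LK LD1_c2 LD2_c27 LD3_c21) Lrfl Lrfl
theorem f100479 : Led Lsl_ct (LP (LK LD1_c12 LD2_c5 LD3_c29)) = (LP (LK LD1_c6 LD2_c13 LD3_c18)) :=
  Lre_c IH (LK LD1_c12 LD2_c5 LD3_c29) (LK LD1_c6 LD2_c13 LD3_c18) Lrfl Lrfl
theorem f572390 : Led Lsl_dt (LP (LK LD1_c17 LD2_c2 LD3_c1)) = (LP (LK LD1_c12 LD2_c5 LD3_c29)) :=
  Lgr Lrot105 (Lpe (f548660 IH) (Lpe (f548659 IH) (Lpe (K42.f548658 IH) (Lpe (K38.f548651 IH) (Lpr_gt (K42.f572386 IH) (Lpr_dt (f101745 IH) (Lpe (K36.f539778 IH) (Lpr_dt (K40.f100480 IH) (Lpe (f100479 IH) (Lpn (LP (LK LD1_c12 LD2_c5 LD3_c29))))))))))))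
theorem f562928 : Led Lsl_gt (LP (LK LD1_c17 LD2_c2 LD3_c1)) = (LP (LK LD1_c26 LD2_c55 LD3_c59)) :=
  Lre_g IH (LK LD1_c17 LD2_c2 LD3_c1) (LK LD1_c26 LD2_c55 LD3_c59) Lrfl Lrfl
theorem f562972 : Led Lsl_ct (LP (LK LD1_c26 LD2_c55 LD3_c59)) = (LP (LK LD1_c17 LD2_c1 LD3_c20)) :=
  Lre_c IH (LK LD1_c26 LD2_c55 LD3_c59) (LK LD1_c17 LD2_c1 LD3_c20) Lrfl Lrfl
theorem f540515 : Led Lsl_gt (LP (LK LD1_c17 LD2_c1 LD3_c20)) = (LP (LK LD1_c26 LD2_c56 LD3_c33)) :=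
  Lre_g IH (LK LD1_c17 LD2_c1 LD3_c20) (LK LD1_c26 LD2_c56 LD3_c33) Lrfl Lrfl
theorem f579397 : Led Lsl_cf (LP (LK LD1_c17 LD2_c1 LD3_c49)) = (LP (LK LD1_c26 LD2_c56 LD3_c33)) :=
  Lgr Lrot99 (Lpe (f547501 IH) (Lpe (K42.f500556 IH) (Lpr_gf (K42.f569182 IH) (Lpe (f138502 IH) (Lpr_gf (f579393 IH) (Lpe (f572390 IH) (Lpr_gt (f562928 IH) (Lpr_ct (f562972 IH) (Lpr_gt (f540515 IH) (Lpn (LP (LK LD1_c26 LD2_c56 LD3_c33))))))))))))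
theorem f579399 : Led Lsl_df (LP (LK LD1_c17 LD2_c2 LD3_c1)) = (LP (LK LD1_c12 LD2_c5 LD3_c29)) :=
  Lgr Lrot155 (Lpr_gt (f562928 IH) (Lpr_ct (f562972 IH) (Lpr_gt (f540515 IH) (Lpe (f579397 IH) (Lpr_dt (f548188 IH) (Lpe (K42.f500556 IH) (Lpr_gf (K42.f569182 IH) (Lpe (f138502 IH) (Lpr_gf (f579393 IH) (Lpn (LP (LK LD1_c12 LD2_c5 LD3_c29))))))))))))
theorem f548668 : Led Lsl_dt (LP (LK LD1_c26 LD2_c55 LD3_c59)) = (LP (LK LD1_c17 LD2_c0 LD3_c54)) :=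
  Lre_d IH (LK LD1_c26 LD2_c55 LD3_c59) (LK LD1_c17 LD2_c0 LD3_c54) Lrfl Lrfl
theorem f579414 : Led Lsl_gt (LP (LK LD1_c9 LD2_c44 LD3_c47)) = (LP (LK LD1_c12 LD2_c5 LD3_c29)) :=
  Lgr Lrot94 (Lpe (K42.f172662 IH) (Lpr_gt (K42.f541361 IH) (Lpr_dt (K42.f538421 IH) (Lpr_gt (K35.f202300 IH) (Lpr_dt (K37.f71108 IH) (Lpe (K42.f202305 IH) (Lpe (f548668 IH) (Lpe (f562928 IH) (Lpr_df (f579399 IH) (Lpn (LP (LK LD1_c12 LD2_c5 LD3_c29))))))))))))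
theorem f579418 : Led Lsl_at (LP (LK LD1_c11 LD2_c32 LD3_c31)) = (LP (LK LD1_c17 LD2_c1 LD3_c42)) :=
  Lgr Lrot26 (Lpr_ff (K42.f385287 IH) (Lpr_gt (f579414 IH) (Lpe (f579393 IH) (Lpn (LP (LK LD1_c17 LD2_c1 LD3_c42))))))
theorem f172659 : Led Lsl_dt (LP (LK LD1_c9 LD2_c44 LD3_c47)) = (LP (LK LD1_c17 LD2_c53 LD3_c55)) :=
  Lre_d IH (LK LD1_c9 LD2_c44 LD3_c47) (LK LD1_c17 LD2_c53 LD3_c55) Lrfl Lrfl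
theorem f385292 : Led Lsl_ct (LP (LK LD1_c17 LD2_c53 LD3_c55)) = (LP (LK LD1_c27 LD2_c39 LD3_c24)) :=
  Lre_c IH (LK LD1_c17 LD2_c53 LD3_c55) (LK LD1_c27 LD2_c39 LD3_c24) Lrfl Lrfl
theorem f571345 : Led Lsl_cf (LP (LK LD1_c6 LD2_c16 LD3_c9)) = (LP (LK LD1_c7 LD2_c8 LD3_c21)) :=
  Lgr Lrot11 (Lpr_ct (K42.f571339 IH) (Lpn (LP (LK LD1_c7 LD2_c8 LD3_c21))))
theorem f571341 : Led Lsl_dt (LP (LK LD1_c13 LD2_c31 LD3_c16)) = (LP (LK LD1_c7 LD2_c8 LD3_c21)) :=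
  Lre_d IH (LK LD1_c13 LD2_c31 LD3_c16) (LK LD1_c7 LD2_c8 LD3_c21) Lrfl Lrfl
theorem f579439 : Led Lsl_dt (LP (LK LD1_c27 LD2_c39 LD3_c24)) = (LP (LK LD1_c22 LD2_c52 LD3_c19)) :=
  Lgr Lrot32 (Lpe (f385292 IH) (Lpe (f172659 IH) (Lpe (K42.f385287 IH) (Lpr_at (f579418 IH) (Lpe (K42.f138492 IH) (Lpe (K35.f138490 IH) (Lpr_cf (f571345 IH) (Lpe (f571341 IH) (Lpe (K42.f565053 IH) (Lpn (LP (LK LD1_c22 LD2_c52 LD3_c19))))))))))))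
theorem f571317 : Led Lsl_ft (LP (LK LD1_c9 LD2_c44 LD3_c37)) = (LP (LK LD1_c12 LD2_c5 LD3_c3)) :=
  Lgr Lrot48 (Lpr_ff (K42.f571313 IH) (Lpn (LP (LK LD1_c12 LD2_c5 LD3_c3))))
theorem f579445 : Led Lsl_at (LP (LK LD1_c12 LD2_c5 LD3_c3)) = (LP (LK LD1_c13 LD2_c31 LD3_c16)) :=
  Lgr Lrot33 (Lpe (f571317 IH) (Lpr_dt (K30.f179913 IH) (Lpr_ct (K42.f179912 IH) (Lpr_dt (K30.f172594 IH) (Lpr_ct (K42.f172662 IH) (Lpr_dt (f172659 IH) (Lpr_ct (f385292 IH) (Lpr_dt (f579439 IH) (Lpr_ct (K42.f565053 IH) (Lpn (LP (LK LD1_c13 LD2_c31 LD3_c16))))))))))))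
theorem f579451 : Led Lsl_ff (LP (LK LD1_c12 LD2_c5 LD3_c4)) = (LP (LK LD1_c13 LD2_c31 LD3_c16)) :=
  Lgr Lrot30 (Lpe (f577083 IH) (Lpr_ft (f571317 IH) (Lpr_at (f579445 IH) (Lpn (LP (LK LD1_c13 LD2_c31 LD3_c16))))))
theorem f101252 : Led Lsl_et (LP (LK LD1_c21 LD2_c10 LD3_c23)) = (LP (LK LD1_c12 LD2_c5 LD3_c4)) :=
  Lre_e IH (LK LD1_c21 LD2_c10 LD3_c23) (LK LD1_c12 LD2_c5 LD3_c4) Lrfl Lrfl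
theorem f577106 : Led Lsl_bf (LP (LK LD1_c13 LD2_c28 LD3_c11)) = (LP (LK LD1_c12 LD2_c5 LD3_c4)) :=
  Lgr Lrot96 (Lpr_et (f565592 IH) (Lpr_bt (f577102 IH) (Lpr_et (f101252 IH) (Lpn (LP (LK LD1_c12 LD2_c5 LD3_c4))))))
theorem f579453 : Led Lsl_ft (LP (LK LD1_c13 LD2_c28 LD3_c11)) = (LP (LK LD1_c7 LD2_c8 LD3_c23)) :=
  Lgr Lrot75 (Lpr_bf (f577106 IH) (Lpr_ff (f579451 IH) (Lpe (f575873 IH) (Lpn (LP (LK LD1_c7 LD2_c8 LD3_c23))))))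
theorem f565591 : Led Lsl_ct (LP (LK LD1_c22 LD2_c47 LD3_c42)) = (LP (LK LD1_c13 LD2_c28 LD3_c11)) :=
  Lre_c IH (LK LD1_c22 LD2_c47 LD3_c42) (LK LD1_c13 LD2_c28 LD3_c11) Lrfl Lrfl
theorem f579457 : Led Lsl_ff (LP (LK LD1_c22 LD2_c47 LD3_c42)) = (LP (LK LD1_c13 LD2_c31 LD3_c19)) :=
  Lgr Lrot23 (Lpr_ct (f565591 IH) (Lpr_ft (f579453 IH) (Lpr_ct (f6143 IH) (Lpn (LP (LK LD1_c13 LD2_c31 LD3_c19))))))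
theorem f565782 : Led Lsl_ct (LP (LK LD1_c13 LD2_c31 LD3_c23)) = (LP (LK LD1_c7 LD2_c8 LD3_c26)) :=
  Lre_c IH (LK LD1_c13 LD2_c31 LD3_c23) (LK LD1_c7 LD2_c8 LD3_c26) Lrfl Lrfl
theorem f577128 : Led Lsl_at (LP (LK LD1_c22 LD2_c47 LD3_c42)) = (LP (LK LD1_c13 LD2_c31 LD3_c23)) :=
  Lgr Lrot107 (Lpe (f6527 IH) (Lpr_af (f577120 IH) (Lpe (f565782 IH) (Lpn (LP (LK LD1_c13 LD2_c31 LD3_c23))))))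
theorem f565049 : Led Lsl_gt (LP (LK LD1_c13 LD2_c31 LD3_c19)) = (LP (LK LD1_c22 LD2_c52 LD3_c23)) :=
  Lre_g IH (LK LD1_c13 LD2_c31 LD3_c19) (LK LD1_c22 LD2_c52 LD3_c23) Lrfl Lrfl
theorem f579469 : Led Lsl_gf (LP (LK LD1_c13 LD2_c31 LD3_c23)) = (LP (LK LD1_c22 LD2_c52 LD3_c23)) :=
  Lgr Lrot76 (Lpe (f577128 IH) (Lpr_ff (f579457 IH) (Lpr_gt (f565049 IH) (Lpn (LP (LK LD1_c22 LD2_c52 LD3_c23))))))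
theorem f98364 : Led Lsl_ct (LP (LK LD1_c7 LD2_c8 LD3_c26)) = (LP (LK LD1_c13 LD2_c31 LD3_c23)) :=
  Lre_c IH (LK LD1_c7 LD2_c8 LD3_c26) (LK LD1_c13 LD2_c31 LD3_c23) Lrfl Lrfl
theorem f577135 : Led Lsl_bf (LP (LK LD1_c8 LD2_c1 LD3_c2)) = (LP (LK LD1_c7 LD2_c8 LD3_c26)) :=
  Lgr Lrot24 (Lpr_bt (f577126 IH) (Lpn (LP (LK LD1_c7 LD2_c8 LD3_c26))))
theorem f479522 : Led Lsl_dt (LP (LK LD1_c7 LD2_c8 LD3_c26)) = (LP (LK LD1_c3 LD2_c33 LD3_c46)) :=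
  Lre_d IH (LK LD1_c7 LD2_c8 LD3_c26) (LK LD1_c3 LD2_c33 LD3_c46) Lrfl Lrfl
theorem f577283 : Led Lsl_cf (LP (LK LD1_c13 LD2_c31 LD3_c17)) = (LP (LK LD1_c13 LD2_c26 LD3_c46)) :=
  Lgr Lrot11 (Lpr_ct (f577281 IH) (Lpn (LP (LK LD1_c13 LD2_c26 LD3_c46))))
theorem f98339 : Led Lsl_dt (LP (LK LD1_c7 LD2_c14 LD3_c30)) = (LP (LK LD1_c13 LD2_c42 LD3_c3)) :=
  Lre_d IH (LK LD1_c7 LD2_c14 LD3_c30) (LK LD1_c13 LD2_c42 LD3_c3) Lrfl Lrfl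
theorem f403072 : Led Lsl_gt (LP (LK LD1_c4 LD2_c23 LD3_c3)) = (LP (LK LD1_c2 LD2_c8 LD3_c58)) :=
  Lre_g IH (LK LD1_c4 LD2_c23 LD3_c3) (LK LD1_c2 LD2_c8 LD3_c58) Lrfl Lrfl
theorem f403088 : Led Lsl_et (LP (LK LD1_c8 LD2_c43 LD3_c53)) = (LP (LK LD1_c4 LD2_c23 LD3_c3)) :=
  Lre_e IH (LK LD1_c8 LD2_c43 LD3_c53) (LK LD1_c4 LD2_c23 LD3_c3) Lrfl Lrfl
theorem f403080 : Led Lsl_dt (LP (LK LD1_c8 LD2_c43 LD3_c53)) = (LP (LK LD1_c16 LD2_c21 LD3_c2)) :=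
  Lre_d IH (LK LD1_c8 LD2_c43 LD3_c53) (LK LD1_c16 LD2_c21 LD3_c2) Lrfl Lrfl
theorem f570238 : Led Lsl_bt (LP (LK LD1_c11 LD2_c8 LD3_c26)) = (LP (LK LD1_c7 LD2_c14 LD3_c30)) :=
  Lgr Lrot128 (Lpe (K42.f422739 IH) (Lpr_bf (K42.f570232 IH) (Lpr_cf (K42.f570191 IH) (Lpe (f570195 IH) (Lpe (K42.f98342 IH) (Lpn (LP (LK LD1_c7 LD2_c14 LD3_c30))))))))
theorem f572667 : Led Lsl_ef (LP (LK LD1_c10 LD2_c16 LD3_c6)) = (LP (LK LD1_c7 LD2_c14 LD3_c30)) :=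
  Lgr Lrot29 (Lpr_bt (K41.f556873 IH) (Lpr_et (K42.f572663 IH) (Lpr_bt (f570238 IH) (Lpn (LP (LK LD1_c7 LD2_c14 LD3_c30))))))
theorem f573153 : Led Lsl_gf (LP (LK LD1_c16 LD2_c21 LD3_c2)) = (LP (LK LD1_c13 LD2_c42 LD3_c3)) :=
  Lgr Lrot145 (Lpe (f403080 IH) (Lpr_et (f403088 IH) (Lpr_gt (f403072 IH) (Lpr_dt (K39.f403071 IH) (Lpr_gt (K38.f237627 IH) (Lpe (f549945 IH) (Lpr_et (f573147 IH) (Lpe (f411039 IH) (Lpr_ef (f572667 IH) (Lpr_dt (f98339 IH) (Lpn (LP (LK LD1_c13 LD2_c42 LD3_c3)))))))))))))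
theorem f579471 : Led Lsl_ct (LP (LK LD1_c16 LD2_c21 LD3_c2)) = (LP (LK LD1_c22 LD2_c52 LD3_c23)) :=
  Lgr Lrot152 (Lpr_gf (f573153 IH) (Lpe (f98339 IH) (Lpe (f577295 IH) (Lpe (f577283 IH) (Lpe (f565779 IH) (Lpr_ct (f98322 IH) (Lpe (f479522 IH) (Lpe (f565782 IH) (Lpr_gf (f579469 IH) (Lpn (LP (LK LD1_c22 LD2_c52 LD3_c23))))))))))))
theorem f579474 : Led Lsl_bf (LP (LK LD1_c11 LD2_c36 LD3_c51)) = (LP (LK LD1_c16 LD2_c21 LD3_c2)) :=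
  Lgr Lrot34 (Lpe (K42.f553478 IH) (Lpr_bf (K38.f193832 IH) (Lpr_ct (K18.f81212 IH) (Lpe (K18.f227576 IH) (Lpe (K18.f227396 IH) (Lpr_gf (K18.f227563 IH) (Lpr_bf (f577135 IH) (Lpr_ct (f98364 IH) (Lpr_gf (f579469 IH) (Lpe (f579471 IH) (Lpn (LP (LK LD1_c16 LD2_c21 LD3_c2)))))))))))))
theorem f579480 : Led Lsl_ft (LP (LK LD1_c8 LD2_c46 LD3_c56)) = (LP (LK LD1_c16 LD2_c21 LD3_c2)) :=
  Lgr Lrot75 (Lpe (K39.f545180 IH) (Lpr_ff (K39.f553468 IH) (Lpr_bf (f579474 IH) (Lpn (LP (LK LD1_c16 LD2_c21 LD3_c2))))))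
theorem f579490 : Led Lsl_ff (LP (LK LD1_c8 LD2_c46 LD3_c56)) = (LP (LK LD1_c16 LD2_c21 LD3_c2)) :=
  Lgr Lrot3 (Lpr_ft (f579480 IH) (Lpn (LP (LK LD1_c16 LD2_c21 LD3_c2))))
theorem f150086 : Led Lsl_at (LP (LK LD1_c8 LD2_c46 LD3_c56)) = (LP (LK LD1_c14 LD2_c59 LD3_c34)) :=
  Lgr Lrot100 (Lpr_af (K39.f150084 IH) (Lpn (LP (LK LD1_c14 LD2_c59 LD3_c34))))
theorem f579498 : Led Lsl_gf (LP (LK LD1_c12 LD2_c6 LD3_c3)) = (LP (LK LD1_c16 LD2_c21 LD3_c2)) :=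
  Lgr Lrot47 (Lpr_gt (f575887 IH) (Lpe (f150086 IH) (Lpr_ff (f579490 IH) (Lpn (LP (LK LD1_c16 LD2_c21 LD3_c2))))))
theorem f198436 : Led Lsl_ct (LP (LK LD1_c8 LD2_c50 LD3_c22)) = (LP (LK LD1_c16 LD2_c31 LD3_c17)) :=
  Lre_c IH (LK LD1_c8 LD2_c50 LD3_c22) (LK LD1_c16 LD2_c31 LD3_c17) Lrfl Lrfl
theorem f579476 : Led Lsl_bt (LP (LK LD1_c11 LD2_c36 LD3_c51)) = (LP (LK LD1_c16 LD2_c21 LD3_c2)) :=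
  Lgr Lrot127 (Lpr_bf (f579474 IH) (Lpn (LP (LK LD1_c16 LD2_c21 LD3_c2))))
theorem f210973 : Led Lsl_ct (LP (LK LD1_c11 LD2_c36 LD3_c51)) = (LP (LK LD1_c20 LD2_c35 LD3_c7)) :=
  Lre_c IH (LK LD1_c11 LD2_c36 LD3_c51) (LK LD1_c20 LD2_c35 LD3_c7) Lrfl Lrfl
theorem f579502 : Led Lsl_gt (LP (LK LD1_c16 LD2_c31 LD3_c17)) = (LP (LK LD1_c20 LD2_c35 LD3_c7)) :=
  Lgr Lrot149 (Lpe (f198436 IH) (Lpe (K42.f43031 IH) (Lpe (f43030 IH) (Lpr_ct (K9.f43029 IH) (Lpe (K12.f101031 IH) (Lpe (K13.f198367 IH) (Lpr_bt (f193733 IH) (Lpr_gf (f579498 IH) (Lpe (f579476 IH) (Lpr_ct (f210973 IH) (Lpn (LP (LK LD1_c20 LD2_c35 LD3_c7)))))))))))))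
theorem f572925 : Led Lsl_bt (LP (LK LD1_c8 LD2_c50 LD3_c22)) = (LP (LK LD1_c16 LD2_c31 LD3_c16)) :=
  Lre_b IH (LK LD1_c8 LD2_c50 LD3_c22) (LK LD1_c16 LD2_c31 LD3_c16) Lrfl Lrfl
theorem f420832 : Led Lsl_ct (LP (LK LD1_c16 LD2_c28 LD3_c20)) = (LP (LK LD1_c26 LD2_c25 LD3_c28)) :=
  Lre_c IH (LK LD1_c16 LD2_c28 LD3_c20) (LK LD1_c26 LD2_c25 LD3_c28) Lrfl Lrfl
theorem f193745 : Led Lsl_ct (LP (LK LD1_c12 LD2_c6 LD3_c3)) = (LP (LK LD1_c21 LD2_c12 LD3_c2)) :=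
  Lre_c IH (LK LD1_c12 LD2_c6 LD3_c3) (LK LD1_c21 LD2_c12 LD3_c2) Lrfl Lrfl
theorem f579509 : Led Lsl_gf (LP (LK LD1_c26 LD2_c25 LD3_c28)) = (LP (LK LD1_c21 LD2_c12 LD3_c2)) :=
  Lgr Lrot129 (Lpe (f420832 IH) (Lpr_bt (K42.f565836 IH) (Lpe (f565846 IH) (Lpe (f572925 IH) (Lpr_ct (f198436 IH) (Lpr_gt (f579502 IH) (Lpe (f210973 IH) (Lpr_bt (f579476 IH) (Lpe (f579498 IH) (Lpr_ct (f193745 IH) (Lpn (LP (LK LD1_c21 LD2_c12 LD3_c2)))))))))))))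
theorem f565832 : Led Lsl_ct (LP (LK LD1_c26 LD2_c25 LD3_c28)) = (LP (LK LD1_c16 LD2_c28 LD3_c20)) :=
  Lre_c IH (LK LD1_c26 LD2_c25 LD3_c28) (LK LD1_c16 LD2_c28 LD3_c20) Lrfl Lrfl
theorem f579511 : Led Lsl_gf (LP (LK LD1_c4 LD2_c27 LD3_c4)) = (LP (LK LD1_c8 LD2_c43 LD3_c53)) :=
  Lgr Lrot147 (Lpe (K36.f198026 IH) (Lpr_gt (K42.f558232 IH) (Lpe (K42.f565816 IH) (Lpe (f565815 IH) (Lpe (f565832 IH) (Lpr_gf (f579509 IH) (Lpe (f193745 IH) (Lpr_gf (f579498 IH) (Lpe (f403080 IH) (Lpn (LP (LK LD1_c8 LD2_c43 LD3_c53))))))))))))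
theorem f571219 : Led Lsl_dt (LP (LK LD1_c8 LD2_c47 LD3_c12)) = (LP (LK LD1_c7 LD2_c39 LD3_c19)) :=
  Lgr Lrot42 (Lpr_df (K42.f571214 IH) (Lpn (LP (LK LD1_c7 LD2_c39 LD3_c19))))
theorem f579515 : Led Lsl_cf (LP (LK LD1_c4 LD2_c24 LD3_c51)) = (LP (LK LD1_c8 LD2_c43 LD3_c53)) :=
  Lgr Lrot166 (Lpr_gt (K42.f38502 IH) (Lpr_dt (K42.f38479 IH) (Lpr_gt (K41.f272534 IH) (Lpr_dt (f571219 IH) (Lpr_ct (K42.f97173 IH) (Lpe (K41.f540926 IH) (Lpe (K41.f101416 IH) (Lpe (K35.f198230 IH) (Lpr_gf (f579511 IH) (Lpn (LP (LK LD1_c8 LD2_c43 LD3_c53))))))))))))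
theorem f38478 : Led Lsl_ct (LP (LK LD1_c8 LD2_c48 LD3_c30)) = (LP (LK LD1_c4 LD2_c25 LD3_c28)) :=
  Lre_c IH (LK LD1_c8 LD2_c48 LD3_c30) (LK LD1_c4 LD2_c25 LD3_c28) Lrfl Lrfl
theorem f272707 : Led Lsl_gt (LP (LK LD1_c16 LD2_c28 LD3_c43)) = (LP (LK LD1_c8 LD2_c48 LD3_c30)) :=
  Lre_g IH (LK LD1_c16 LD2_c28 LD3_c43) (LK LD1_c8 LD2_c48 LD3_c30) Lrfl Lrfl
theorem f575897 : Led Lsl_dt (LP (LK LD1_c12 LD2_c6 LD3_c3)) = (LP (LK LD1_c7 LD2_c14 LD3_c33)) :=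
  Lgr Lrot42 (Lpr_df (f575891 IH) (Lpn (LP (LK LD1_c7 LD2_c14 LD3_c33))))
theorem f98353 : Led Lsl_dt (LP (LK LD1_c7 LD2_c14 LD3_c34)) = (LP (LK LD1_c3 LD2_c37 LD3_c5)) :=
  Lre_d IH (LK LD1_c7 LD2_c14 LD3_c34) (LK LD1_c3 LD2_c37 LD3_c5) Lrfl Lrfl
theorem f538591 : Led Lsl_bt (LP (LK LD1_c12 LD2_c5 LD3_c21)) = (LP (LK LD1_c8 LD2_c46 LD3_c40)) :=
  Lgr Lrot35 (Lpr_ff (K35.f538564 IH) (Lpe (K35.f538523 IH) (Lpr_ff (K35.f538588 IH) (Lpn (LP (LK LD1_c8 LD2_c46 LD3_c40))))))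
theorem f568766 : Led Lsl_bf (LP (LK LD1_c7 LD2_c19 LD3_c15)) = (LP (LK LD1_c5 LD2_c53 LD3_c37)) :=
  Lgr Lrot90 (Lpr_ct (K42.f568762 IH) (Lpr_bt (f538591 IH) (Lpe (K38.f541483 IH) (Lpr_bt (K36.f541463 IH) (Lpr_ct (K41.f72383 IH) (Lpn (LP (LK LD1_c5 LD2_c53 LD3_c37))))))))
theorem f570618 : Led Lsl_gt (LP (LK LD1_c7 LD2_c19 LD3_c15)) = (LP (LK LD1_c8 LD2_c44 LD3_c8)) :=
  Lgr Lrot164 (Lpr_bf (f568766 IH) (Lpr_ct (K42.f442645 IH) (Lpe (K36.f72382 IH) (Lpe (K2.f72279 IH) (Lpe (K38.f549834 IH) (Lpe (K41.f424952 IH) (Lpr_ct (K41.f424937 IH) (Lpe (K42.f570616 IH) (Lpr_cf (K42.f570612 IH) (Lpe (K42.f570610 IH) (Lpn (LP (LK LD1_c8 LD2_c44 LD3_c8)))))))))))))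
theorem f579500 : Led Lsl_gt (LP (LK LD1_c12 LD2_c5 LD3_c21)) = (LP (LK LD1_c8 LD2_c43 LD3_c53)) :=
  Lgr Lrot94 (Lpe (K42.f568762 IH) (Lpr_gt (f570618 IH) (Lpe (f573203 IH) (Lpe (f577213 IH) (Lpr_dt (f98353 IH) (Lpe (f98344 IH) (Lpe (f575897 IH) (Lpr_gf (f579498 IH) (Lpe (f403080 IH) (Lpn (LP (LK LD1_c8 LD2_c43 LD3_c53))))))))))))
theorem f411103 : Led Lsl_dt (LP (LK LD1_c21 LD2_c10 LD3_c60)) = (LP (LK LD1_c12 LD2_c5 LD3_c21)) :=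
  Lre_d IH (LK LD1_c21 LD2_c10 LD3_c60) (LK LD1_c12 LD2_c5 LD3_c21) Lrfl Lrfl
theorem f579522 : Led Lsl_cf (LP (LK LD1_c16 LD2_c28 LD3_c43)) = (LP (LK LD1_c13 LD2_c26 LD3_c45)) :=
  Lgr Lrot169 (Lpr_gt (f272707 IH) (Lpr_ct (f38478 IH) (Lpe (K41.f137626 IH) (Lpr_cf (K41.f38475 IH) (Lpe (K42.f38502 IH) (Lpr_cf (f579515 IH) (Lpe (f579500 IH) (Lpe (f411103 IH) (Lpr_gt (K41.f540916 IH) (Lpn (LP (LK LD1_c13 LD2_c26 LD3_c45))))))))))))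
theorem f272706 : Led Lsl_ct (LP (LK LD1_c4 LD2_c25 LD3_c28)) = (LP (LK LD1_c8 LD2_c48 LD3_c30)) :=
  Lre_c IH (LK LD1_c4 LD2_c25 LD3_c28) (LK LD1_c8 LD2_c48 LD3_c30) Lrfl Lrfl
theorem f227611 : Led Lsl_bt (LP (LK LD1_c4 LD2_c25 LD3_c28)) = (LP (LK LD1_c2 LD2_c10 LD3_c8)) :=
  Lre_b IH (LK LD1_c4 LD2_c25 LD3_c28) (LK LD1_c2 LD2_c10 LD3_c8) Lrfl Lrfl
theorem f37675 : Led Lsl_gt (LP (LK LD1_c4 LD2_c25 LD3_c1)) = (LP (LK LD1_c8 LD2_c47 LD3_c37)) :=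
  Lre_g IH (LK LD1_c4 LD2_c25 LD3_c1) (LK LD1_c8 LD2_c47 LD3_c37) Lrfl Lrfl
theorem f272690 : Led Lsl_dt (LP (LK LD1_c8 LD2_c47 LD3_c37)) = (LP (LK LD1_c8 LD2_c47 LD3_c48)) :=
  Lgr Lrot57 (Lpe (f37675 IH) (Lpe (K12.f35462 IH) (Lpr_gt (K12.f35897 IH) (Lpr_dt (K40.f272540 IH) (Lpr_gt (K18.f173310 IH) (Lpr_dt (K12.f193382 IH) (Lpe (K18.f193402 IH) (Lpe (K18.f272583 IH) (Lpr_gf (K18.f272664 IH) (Lpn (LP (LK LD1_c8 LD2_c47 LD3_c48))))))))))))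
theorem f272692 : Led Lsl_gf (LP (LK LD1_c8 LD2_c47 LD3_c40)) = (LP (LK LD1_c8 LD2_c47 LD3_c37)) :=
  Lgr Lrot147 (Lpr_ct (K31.f37536 IH) (Lpr_gt (K12.f37572 IH) (Lpr_ct (K18.f37574 IH) (Lpe (K12.f227532 IH) (Lpe (K12.f38499 IH) (Lpe (K18.f272610 IH) (Lpe (K18.f28545 IH) (Lpr_gf (K18.f272664 IH) (Lpe (f272690 IH) (Lpn (LP (LK LD1_c8 LD2_c47 LD3_c37))))))))))))
theorem f272694 : Led Lsl_df (LP (LK LD1_c8 LD2_c47 LD3_c37)) = (LP (LK LD1_c8 LD2_c47 LD3_c48)) :=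
  Lgr Lrot155 (Lpe (f272692 IH) (Lpr_ct (K31.f37536 IH) (Lpr_gt (K12.f37572 IH) (Lpr_ct (K18.f37574 IH) (Lpe (K12.f227524 IH) (Lpe (K12.f38499 IH) (Lpe (K18.f272610 IH) (Lpe (K18.f28545 IH) (Lpr_gf (K18.f272664 IH) (Lpn (LP (LK LD1_c8 LD2_c47 LD3_c48))))))))))))
theorem f227599 : Led Lsl_dt (LP (LK LD1_c8 LD2_c48 LD3_c45)) = (LP (LK LD1_c9 LD2_c47 LD3_c5)) :=
  Lgr Lrot113 (Lpr_gf (K12.f38441 IH) (Lpe (K1.f38381 IH) (Lpe (K12.f38392 IH) (Lpr_ct (K12.f227592 IH) (Lpr_gt (K11.f37386 IH) (Lpr_dt (K1.f37682 IH) (Lpr_gt (K18.f56075 IH) (Lpr_dt (K18.f56076 IH) (Lpr_ct (K18.f82176 IH) (Lpn (LP (LK LD1_c9 LD2_c47 LD3_c5))))))))))))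
theorem f272699 : Led Lsl_cf (LP (LK LD1_c8 LD2_c47 LD3_c37)) = (LP (LK LD1_c4 LD2_c25 LD3_c34)) :=
  Lgr Lrot99 (Lpr_df (f272694 IH) (Lpe (K18.f227701 IH) (Lpe (K18.f272661 IH) (Lpe (K18.f182390 IH) (Lpe (K18.f272564 IH) (Lpe (f227599 IH) (Lpr_gt (K12.f38392 IH) (Lpr_ct (K1.f38373 IH) (Lpr_gt (K12.f38354 IH) (Lpn (LP (LK LD1_c4 LD2_c25 LD3_c34))))))))))))
theorem f579534 : Led Lsl_bf (LP (LK LD1_c11 LD2_c36 LD3_c53)) = (LP (LK LD1_c13 LD2_c26 LD3_c45)) :=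
  Lgr Lrot34 (Lpe (f82081 IH) (Lpe (f82122 IH) (Lpr_ct (K1.f37540 IH) (Lpr_gf (f272692 IH) (Lpr_cf (f272699 IH) (Lpe (K12.f38354 IH) (Lpe (f227611 IH) (Lpr_ct (f272706 IH) (Lpe (f272707 IH) (Lpr_cf (f579522 IH) (Lpn (LP (LK LD1_c13 LD2_c26 LD3_c45)))))))))))))
theorem f574825 : Led Lsl_et (LP (LK LD1_c20 LD2_c36 LD3_c61)) = (LP (LK LD1_c11 LD2_c38 LD3_c6)) :=
  Lre_e IH (LK LD1_c20 LD2_c36 LD3_c61) (LK LD1_c11 LD2_c38 LD3_c6) Lrfl Lrfl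
theorem f577869 : Led Lsl_ff (LP (LK LD1_c13 LD2_c26 LD3_c45)) = (LP (LK LD1_c11 LD2_c38 LD3_c6)) :=
  Lgr Lrot72 (Lpr_et (K34.f97394 IH) (Lpe (K34.f467947 IH) (Lpr_et (f442121 IH) (Lpr_ft (f577857 IH) (Lpr_et (f574825 IH) (Lpn (LP (LK LD1_c11 LD2_c38 LD3_c6))))))))
theorem f579542 : Led Lsl_ft (LP (LK LD1_c11 LD2_c36 LD3_c53)) = (LP (LK LD1_c5 LD2_c56 LD3_c25)) :=
  Lgr Lrot75 (Lpr_bf (f579534 IH) (Lpr_ff (f577869 IH) (Lpe (f545277 IH) (Lpn (LP (LK LD1_c5 LD2_c56 LD3_c25))))))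
theorem f579552 : Led Lsl_ff (LP (LK LD1_c11 LD2_c36 LD3_c53)) = (LP (LK LD1_c5 LD2_c56 LD3_c25)) :=
  Lgr Lrot3 (Lpr_ft (f579542 IH) (Lpn (LP (LK LD1_c5 LD2_c56 LD3_c25))))
theorem f579023 : Led Lsl_af (LP (LK LD1_c5 LD2_c56 LD3_c26)) = (LP (LK LD1_c11 LD2_c36 LD3_c53)) :=
  Lgr Lrot0 (Lpr_at (f579020 IH) (Lpn (LP (LK LD1_c11 LD2_c36 LD3_c53))))
theorem f563265 : Led Lsl_dt (LP (LK LD1_c20 LD2_c37 LD3_c10)) = (LP (LK LD1_c11 LD2_c38 LD3_c11)) :=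
  Lre_d IH (LK LD1_c20 LD2_c37 LD3_c10) (LK LD1_c11 LD2_c38 LD3_c11) Lrfl Lrfl
theorem f563269 : Led Lsl_dt (LP (LK LD1_c11 LD2_c38 LD3_c11)) = (LP (LK LD1_c20 LD2_c37 LD3_c10)) :=
  Lre_d IH (LK LD1_c11 LD2_c38 LD3_c11) (LK LD1_c20 LD2_c37 LD3_c10) Lrfl Lrfl
theorem f452846 : Led Lsl_gt (LP (LK LD1_c2 LD2_c54 LD3_c51)) = (LP (LK LD1_c5 LD2_c57 LD3_c9)) :=
  Lre_g IH (LK LD1_c2 LD2_c54 LD3_c51) (LK LD1_c5 LD2_c57 LD3_c9) Lrfl Lrfl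
theorem f563248 : Led Lsl_dt (LP (LK LD1_c5 LD2_c57 LD3_c9)) = (LP (LK LD1_c11 LD2_c39 LD3_c37)) :=
  Lre_d IH (LK LD1_c5 LD2_c57 LD3_c9) (LK LD1_c11 LD2_c39 LD3_c37) Lrfl Lrfl
theorem f563364 : Led Lsl_cf (LP (LK LD1_c20 LD2_c37 LD3_c10)) = (LP (LK LD1_c11 LD2_c39 LD3_c37)) :=
  Lgr Lrot14 (Lpe (f563269 IH) (Lpe (K40.f563347 IH) (Lpr_df (K40.f563352 IH) (Lpe (K40.f563249 IH) (Lpe (K40.f563243 IH) (Lpr_gt (K40.f24473 IH) (Lpr_dt (K40.f24472 IH) (Lpr_gt (f452846 IH) (Lpr_dt (f563248 IH) (Lpn (LP (LK LD1_c11 LD2_c39 LD3_c37))))))))))))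
theorem f452847 : Led Lsl_ct (LP (LK LD1_c11 LD2_c39 LD3_c36)) = (LP (LK LD1_c5 LD2_c57 LD3_c9)) :=
  Lre_c IH (LK LD1_c11 LD2_c39 LD3_c36) (LK LD1_c5 LD2_c57 LD3_c9) Lrfl Lrfl
theorem f562631 : Led Lsl_bt (LP (LK LD1_c7 LD2_c59 LD3_c6)) = (LP (LK LD1_c10 LD2_c15 LD3_c24)) :=
  Lgr Lrot127 (Lpr_bf (K40.f562629 IH) (Lpn (LP (LK LD1_c10 LD2_c15 LD3_c24))))
theorem f562562 : Led Lsl_gt (LP (LK LD1_c10 LD2_c15 LD3_c24)) = (LP (LK LD1_c5 LD2_c49 LD3_c52)) :=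
  Lgr Lrot180 (Lpr_ct (K40.f562552 IH) (Lpe (K41.f450415 IH) (Lpr_dt (K40.f558369 IH) (Lpr_gt (K40.f175792 IH) (Lpr_dt (K40.f495290 IH) (Lpr_ct (K31.f176570 IH) (Lpe (K36.f176564 IH) (Lpe (K40.f176565 IH) (Lpr_df (K40.f557463 IH) (Lpn (LP (LK LD1_c5 LD2_c49 LD3_c52))))))))))))
theorem f72511 : Led Lsl_ct (LP (LK LD1_c4 LD2_c57 LD3_c45)) = (LP (LK LD1_c9 LD2_c46 LD3_c25)) :=
  Lre_c IH (LK LD1_c4 LD2_c57 LD3_c45) (LK LD1_c9 LD2_c46 LD3_c25) Lrfl Lrfl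
theorem f539148 : Led Lsl_bf (LP (LK LD1_c2 LD2_c56 LD3_c56)) = (LP (LK LD1_c5 LD2_c53 LD3_c10)) :=
  Lgr Lrot34 (Lpe (K28.f186320 IH) (Lpe (K36.f186319 IH) (Lpr_ct (K0.f9346 IH) (Lpe (K11.f9343 IH) (Lpe (K36.f186156 IH) (Lpr_gf (K36.f172132 IH) (Lpe (K9.f100496 IH) (Lpr_ct (f72511 IH) (Lpr_gf (K41.f539138 IH) (Lpe (K41.f500398 IH) (Lpn (LP (LK LD1_c5 LD2_c53 LD3_c10)))))))))))))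
theorem f562516 : Led Lsl_bf (LP (LK LD1_c6 LD2_c7 LD3_c53)) = (LP (LK LD1_c5 LD2_c12 LD3_c28)) :=
  Lgr Lrot93 (Lpr_dt (K40.f562514 IH) (Lpe (f539148 IH) (Lpr_dt (K40.f387444 IH) (Lpn (LP (LK LD1_c5 LD2_c12 LD3_c28))))))
theorem f562540 : Led Lsl_ct (LP (LK LD1_c5 LD2_c38 LD3_c35)) = (LP (LK LD1_c5 LD2_c59 LD3_c14)) :=
  Lgr Lrot64 (Lpe (K38.f450252 IH) (Lpe (K38.f548962 IH) (Lpe (K42.f558359 IH) (Lpr_ct (K42.f558361 IH) (Lpr_gf (K40.f562532 IH) (Lpr_cf (K40.f211831 IH) (Lpr_gf (K40.f558459 IH) (Lpr_bf (f562516 IH) (Lpr_ct (K41.f559641 IH) (Lpr_gf (K40.f427708 IH) (Lpn (LP (LK LD1_c5 LD2_c59 LD3_c14)))))))))))))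
theorem f565270 : Led Lsl_bt (LP (LK LD1_c8 LD2_c12 LD3_c28)) = (LP (LK LD1_c4 LD2_c5 LD3_c57)) :=
  Lre_b IH (LK LD1_c8 LD2_c12 LD3_c28) (LK LD1_c4 LD2_c5 LD3_c57) Lrfl Lrfl
theorem f572939 : Led Lsl_cf (LP (LK LD1_c10 LD2_c1 LD3_c29)) = (LP (LK LD1_c8 LD2_c12 LD3_c28)) :=
  Lgr Lrot160 (Lpr_gt (K42.f572937 IH) (Lpe (K40.f541575 IH) (Lpr_bt (f562631 IH) (Lpr_gt (f562562 IH) (Lpe (f557455 IH) (Lpr_gt (K40.f383263 IH) (Lpe (f562540 IH) (Lpe (K38.f450252 IH) (Lpe (K42.f565259 IH) (Lpe (f565270 IH) (Lpn (LP (LK LD1_c8 LD2_c12 LD3_c28)))))))))))))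
theorem f565324 : Led Lsl_gt (LP (LK LD1_c8 LD2_c12 LD3_c28)) = (LP (LK LD1_c15 LD2_c26 LD3_c31)) :=
  Lre_g IH (LK LD1_c8 LD2_c12 LD3_c28) (LK LD1_c15 LD2_c26 LD3_c31) Lrfl Lrfl
theorem f562819 : Led Lsl_ct (LP (LK LD1_c5 LD2_c57 LD3_c9)) = (LP (LK LD1_c11 LD2_c39 LD3_c36)) :=
  Lre_c IH (LK LD1_c5 LD2_c57 LD3_c9) (LK LD1_c11 LD2_c39 LD3_c36) Lrfl Lrfl
theorem f563405 : Led Lsl_gt (LP (LK LD1_c11 LD2_c39 LD3_c36)) = (LP (LK LD1_c9 LD2_c50 LD3_c41)) :=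
  Lgr Lrot187 (Lpe (f562819 IH) (Lpe (f452846 IH) (Lpr_dt (K40.f500554 IH) (Lpr_gt (K40.f562803 IH) (Lpr_ct (K40.f562804 IH) (Lpr_gt (K40.f563218 IH) (Lpe (K40.f563376 IH) (Lpr_dt (K41.f563399 IH) (Lpe (K41.f175590 IH) (Lpn (LP (LK LD1_c9 LD2_c50 LD3_c41))))))))))))
theorem f572965 : Led Lsl_dt (LP (LK LD1_c15 LD2_c26 LD3_c31)) = (LP (LK LD1_c11 LD2_c39 LD3_c36)) :=
  Lgr Lrot115 (Lpe (f565324 IH) (Lpe (f572939 IH) (Lpr_gt (K42.f572937 IH) (Lpr_dt (K42.f572957 IH) (Lpe (K41.f563464 IH) (Lpr_dt (K40.f175587 IH) (Lpr_ct (K40.f175582 IH) (Lpe (K41.f175585 IH) (Lpe (f563405 IH) (Lpn (LP (LK LD1_c11 LD2_c39 LD3_c36))))))))))))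
theorem f82152 : Led Lsl_dt (LP (LK LD1_c5 LD2_c56 LD3_c25)) = (LP (LK LD1_c11 LD2_c38 LD3_c8)) :=
  Lre_d IH (LK LD1_c5 LD2_c56 LD3_c25) (LK LD1_c11 LD2_c38 LD3_c8) Lrfl Lrfl
theorem f579558 : Led Lsl_cf (LP (LK LD1_c15 LD2_c26 LD3_c31)) = (LP (LK LD1_c11 LD2_c38 LD3_c8)) :=
  Lgr Lrot118 (Lpr_dt (f572965 IH) (Lpr_ct (f452847 IH) (Lpr_dt (f563248 IH) (Lpe (f563364 IH) (Lpr_dt (f563265 IH) (Lpr_ct (K40.f562833 IH) (Lpr_af (f579023 IH) (Lpr_ff (f579552 IH) (Lpr_dt (f82152 IH) (Lpn (LP (LK LD1_c11 LD2_c38 LD3_c8))))))))))))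
theorem f577319 : Led Lsl_bf (LP (LK LD1_c13 LD2_c26 LD3_c46)) = (LP (LK LD1_c11 LD2_c38 LD3_c8)) :=
  Lgr Lrot96 (Lpr_et (f577315 IH) (Lpr_bt (f577287 IH) (Lpe (f547353 IH) (Lpn (LP (LK LD1_c11 LD2_c38 LD3_c8))))))
theorem f193744 : Led Lsl_bt (LP (LK LD1_c12 LD2_c6 LD3_c3)) = (LP (LK LD1_c6 LD2_c13 LD3_c39)) :=
  Lre_b IH (LK LD1_c12 LD2_c6 LD3_c3) (LK LD1_c6 LD2_c13 LD3_c39) Lrfl Lrfl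
theorem f575895 : Led Lsl_bt (LP (LK LD1_c4 LD2_c27 LD3_c6)) = (LP (LK LD1_c7 LD2_c14 LD3_c33)) :=
  Lgr Lrot95 (Lpe (K10.f193734 IH) (Lpe (f193744 IH) (Lpr_df (f575891 IH) (Lpn (LP (LK LD1_c7 LD2_c14 LD3_c33))))))
theorem f572933 : Led Lsl_gf (LP (LK LD1_c10 LD2_c1 LD3_c29)) = (LP (LK LD1_c6 LD2_c15 LD3_c0)) :=
  Lgr Lrot144 (Lpr_dt (K42.f572922 IH) (Lpr_gt (K42.f545889 IH) (Lpr_dt (K37.f500548 IH) (Lpe (K39.f418492 IH) (Lpe (K37.f418493 IH) (Lpr_gf (K37.f546334 IH) (Lpe (K37.f546673 IH) (Lpe (K41.f563566 IH) (Lpe (K40.f418038 IH) (Lpn (LP (LK LD1_c6 LD2_c15 LD3_c0))))))))))))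
theorem f579566 : Led Lsl_cf (LP (LK LD1_c8 LD2_c12 LD3_c28)) = (LP (LK LD1_c10 LD2_c1 LD3_c29)) :=
  Lgr Lrot125 (Lpr_gt (f565324 IH) (Lpr_cf (f579558 IH) (Lpe (f577319 IH) (Lpr_gt (f575905 IH) (Lpe (f575895 IH) (Lpr_ct (K10.f101299 IH) (Lpe (K12.f210955 IH) (Lpe (K13.f227752 IH) (Lpr_bt (K40.f241828 IH) (Lpe (f572933 IH) (Lpn (LP (LK LD1_c10 LD2_c1 LD3_c29)))))))))))))
theorem f418096 : Led Lsl_bt (LP (LK LD1_c10 LD2_c1 LD3_c27)) = (LP (LK LD1_c5 LD2_c5 LD3_c11)) :=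
  Lre_b IH (LK LD1_c10 LD2_c1 LD3_c27) (LK LD1_c5 LD2_c5 LD3_c11) Lrfl Lrfl
theorem f575053 : Led Lsl_bt (LP (LK LD1_c10 LD2_c1 LD3_c29)) = (LP (LK LD1_c13 LD2_c27 LD3_c57)) :=
  Lgr Lrot119 (Lpe (K42.f572928 IH) (Lpe (f418096 IH) (Lpr_ef (f575051 IH) (Lpn (LP (LK LD1_c13 LD2_c27 LD3_c57))))))
theorem f6520 : Led Lsl_at (LP (LK LD1_c3 LD2_c33 LD3_c48)) = (LP (LK LD1_c7 LD2_c6 LD3_c33)) :=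
  Lre_a IH (LK LD1_c3 LD2_c33 LD3_c48) (LK LD1_c7 LD2_c6 LD3_c33) Lrfl Lrfl
theorem f98309 : Led Lsl_at (LP (LK LD1_c13 LD2_c27 LD3_c60)) = (LP (LK LD1_c13 LD2_c31 LD3_c11)) :=
  Lgr Lrot67 (Lpe (K42.f6521 IH) (Lpe (f6520 IH) (Lpe (f6151 IH) (Lpr_af (K36.f98303 IH) (Lpe (K42.f6154 IH) (Lpn (LP (LK LD1_c13 LD2_c31 LD3_c11))))))))
theorem f98197 : Led Lsl_ft (LP (LK LD1_c7 LD2_c6 LD3_c25)) = (LP (LK LD1_c13 LD2_c27 LD3_c60)) :=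
  Lre_f IH (LK LD1_c7 LD2_c6 LD3_c25) (LK LD1_c13 LD2_c27 LD3_c60) Lrfl Lrfl
theorem f98410 : Led Lsl_gt (LP (LK LD1_c13 LD2_c27 LD3_c57)) = (LP (LK LD1_c13 LD2_c31 LD3_c11)) :=
  Lgr Lrot46 (Lpe (f10630 IH) (Lpr_ft (f98197 IH) (Lpr_at (f98309 IH) (Lpn (LP (LK LD1_c13 LD2_c31 LD3_c11))))))
theorem f579568 : Led Lsl_gf (LP (LK LD1_c8 LD2_c12 LD3_c28)) = (LP (LK LD1_c5 LD2_c38 LD3_c21)) :=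
  Lgr Lrot129 (Lpr_cf (f579566 IH) (Lpr_bt (f575053 IH) (Lpr_gt (f98410 IH) (Lpe (K42.f6522 IH) (Lpr_ct (K42.f6153 IH) (Lpr_gt (K41.f6525 IH) (Lpe (K42.f98338 IH) (Lpr_bt (f574760 IH) (Lpr_gt (K41.f563589 IH) (Lpr_ct (f421020 IH) (Lpn (LP (LK LD1_c5 LD2_c38 LD3_c21)))))))))))))
theorem f500536 : Led Lsl_dt (LP (LK LD1_c20 LD2_c35 LD3_c6)) = (LP (LK LD1_c11 LD2_c36 LD3_c50)) :=
  Lre_d IH (LK LD1_c20 LD2_c35 LD3_c6) (LK LD1_c11 LD2_c36 LD3_c50) Lrfl Lrfl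
theorem f579572 : Led Lsl_gt (LP (LK LD1_c15 LD2_c26 LD3_c32)) = (LP (LK LD1_c20 LD2_c35 LD3_c6)) :=
  Lgr Lrot49 (Lpe (K42.f565286 IH) (Lpr_gf (f579568 IH) (Lpe (f421020 IH) (Lpr_gt (K41.f198563 IH) (Lpr_dt (K41.f193890 IH) (Lpr_gt (K42.f553478 IH) (Lpr_dt (K42.f500525 IH) (Lpe (K40.f193891 IH) (Lpe (f500536 IH) (Lpn (LP (LK LD1_c20 LD2_c35 LD3_c6))))))))))))
theorem f500537 : Led Lsl_dt (LP (LK LD1_c11 LD2_c36 LD3_c50)) = (LP (LK LD1_c20 LD2_c35 LD3_c6)) :=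
  Lre_d IH (LK LD1_c11 LD2_c36 LD3_c50) (LK LD1_c20 LD2_c35 LD3_c6) Lrfl Lrfl
theorem f557756 : Led Lsl_bf (LP (LK LD1_c11 LD2_c36 LD3_c50)) = (LP (LK LD1_c8 LD2_c49 LD3_c21)) :=
  Lgr Lrot24 (Lpr_bt (K40.f557751 IH) (Lpn (LP (LK LD1_c8 LD2_c49 LD3_c21))))
theorem f573005 : Led Lsl_et (LP (LK LD1_c11 LD2_c36 LD3_c50)) = (LP (LK LD1_c8 LD2_c44 LD3_c19)) :=
  Lgr Lrot74 (Lpr_bf (f557756 IH) (Lpr_ef (f573003 IH) (Lpr_bf (K41.f424128 IH) (Lpn (LP (LK LD1_c8 LD2_c44 LD3_c19))))))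
theorem f424202 : Led Lsl_et (LP (LK LD1_c8 LD2_c44 LD3_c28)) = (LP (LK LD1_c4 LD2_c23 LD3_c24)) :=
  Lre_e IH (LK LD1_c8 LD2_c44 LD3_c28) (LK LD1_c4 LD2_c23 LD3_c24) Lrfl Lrfl
theorem f569020 : Led Lsl_gt (LP (LK LD1_c11 LD2_c26 LD3_c50)) = (LP (LK LD1_c5 LD2_c48 LD3_c40)) :=
  Lre_g IH (LK LD1_c11 LD2_c26 LD3_c50) (LK LD1_c5 LD2_c48 LD3_c40) Lrfl Lrfl
theorem f579578 : Led Lsl_dt (LP (LK LD1_c8 LD2_c44 LD3_c28)) = (LP (LK LD1_c11 LD2_c26 LD3_c50)) :=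
  Lgr Lrot136 (Lpr_et (f424202 IH) (Lpe (K31.f181754 IH) (Lpe (f573005 IH) (Lpr_dt (f500537 IH) (Lpe (f579572 IH) (Lpe (K42.f565286 IH) (Lpr_gf (f579568 IH) (Lpe (f563602 IH) (Lpr_dt (f537845 IH) (Lpe (f569020 IH) (Lpn (LP (LK LD1_c11 LD2_c26 LD3_c50)))))))))))))
theorem f567259 : Led Lsl_ct (LP (LK LD1_c4 LD2_c23 LD3_c26)) = (LP (LK LD1_c8 LD2_c44 LD3_c28)) :=
  Lre_c IH (LK LD1_c4 LD2_c23 LD3_c26) (LK LD1_c8 LD2_c44 LD3_c28) Lrfl Lrfl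
theorem f579597 : Led Lsl_gt (LP (LK LD1_c8 LD2_c44 LD3_c30)) = (LP (LK LD1_c4 LD2_c23 LD3_c26)) :=
  Lre_g IH (LK LD1_c8 LD2_c44 LD3_c30) (LK LD1_c4 LD2_c23 LD3_c26) Lrfl Lrfl
theorem f127446 : Led Lsl_dt (LP (LK LD1_c6 LD2_c33 LD3_c22)) = (LP (LK LD1_c7 LD2_c1 LD3_c49)) :=
  Lgr Lrot6 (Lpr_gt (K37.f127444 IH) (Lpr_ct (K5.f64395 IH) (Lpr_gt (K5.f89306 IH) (Lpr_ct (K4.f89304 IH) (Lpe (K4.f89317 IH) (Lpe (K2.f17788 IH) (Lpr_gf (K3.f109485 IH) (Lpe (K4.f109479 IH) (Lpe (K24.f94906 IH) (Lpn (LP (LK LD1_c7 LD2_c1 LD3_c49))))))))))))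
theorem f426694 : Led Lsl_ff (LP (LK LD1_c6 LD2_c33 LD3_c22)) = (LP (LK LD1_c6 LD2_c55 LD3_c60)) :=
  Lgr Lrot19 (Lpr_dt (f127446 IH) (Lpr_ft (K36.f426692 IH) (Lpr_dt (K36.f116581 IH) (Lpn (LP (LK LD1_c6 LD2_c55 LD3_c60))))))
theorem f426887 : Led Lsl_ff (LP (LK LD1_c13 LD2_c9 LD3_c56)) = (LP (LK LD1_c11 LD2_c40 LD3_c39)) :=
  Lgr Lrot23 (Lpr_ct (K36.f116585 IH) (Lpe (f426694 IH) (Lpr_ct (K37.f426885 IH) (Lpn (LP (LK LD1_c11 LD2_c40 LD3_c39))))))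
theorem f426902 : Led Lsl_at (LP (LK LD1_c13 LD2_c9 LD3_c56)) = (LP (LK LD1_c11 LD2_c30 LD3_c30)) :=
  Lgr Lrot66 (Lpr_ff (f426887 IH) (Lpe (K37.f72812 IH) (Lpr_ff (K37.f426900 IH) (Lpn (LP (LK LD1_c11 LD2_c30 LD3_c30))))))
theorem f427055 : Led Lsl_gt (LP (LK LD1_c14 LD2_c12 LD3_c29)) = (LP (LK LD1_c11 LD2_c30 LD3_c30)) :=
  Lgr Lrot46 (Lpr_gf (K37.f426889 IH) (Lpe (f426887 IH) (Lpr_at (f426902 IH) (Lpn (LP (LK LD1_c11 LD2_c30 LD3_c30))))))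
theorem f563863 : Led Lsl_dt (LP (LK LD1_c11 LD2_c30 LD3_c30)) = (LP (LK LD1_c17 LD2_c12 LD3_c54)) :=
  Lgr Lrot42 (Lpr_df (K40.f563857 IH) (Lpn (LP (LK LD1_c17 LD2_c12 LD3_c54))))
theorem f427063 : Led Lsl_cf (LP (LK LD1_c6 LD2_c33 LD3_c23)) = (LP (LK LD1_c11 LD2_c30 LD3_c30)) :=
  Lgr Lrot108 (Lpr_ft (K37.f427057 IH) (Lpr_ct (K37.f209732 IH) (Lpr_ft (K37.f426906 IH) (Lpn (LP (LK LD1_c11 LD2_c30 LD3_c30))))))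
theorem f427059 : Led Lsl_af (LP (LK LD1_c6 LD2_c33 LD3_c23)) = (LP (LK LD1_c6 LD2_c55 LD3_c60)) :=
  Lgr Lrot45 (Lpr_ft (K37.f427057 IH) (Lpe (K37.f426879 IH) (Lpe (K37.f426917 IH) (Lpn (LP (LK LD1_c6 LD2_c55 LD3_c60))))))
theorem f563867 : Led Lsl_ct (LP (LK LD1_c11 LD2_c25 LD3_c24)) = (LP (LK LD1_c17 LD2_c12 LD3_c54)) :=
  Lgr Lrot53 (Lpe (K41.f142072 IH) (Lpr_cf (K41.f142083 IH) (Lpr_df (K41.f563618 IH) (Lpr_cf (K24.f116644 IH) (Lpe (f127446 IH) (Lpe (K37.f426917 IH) (Lpe (f427059 IH) (Lpr_cf (f427063 IH) (Lpr_df (K40.f563857 IH) (Lpn (LP (LK LD1_c17 LD2_c12 LD3_c54))))))))))))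
theorem f569021 : Led Lsl_ct (LP (LK LD1_c16 LD2_c57 LD3_c35)) = (LP (LK LD1_c11 LD2_c26 LD3_c50)) :=
  Lgr Lrot8 (Lpr_gt (K42.f396307 IH) (Lpr_dt (K42.f569010 IH) (Lpr_gt (f427055 IH) (Lpr_dt (f563863 IH) (Lpe (f563867 IH) (Lpe (K41.f142072 IH) (Lpe (K41.f557385 IH) (Lpe (f537846 IH) (Lpe (f569020 IH) (Lpn (LP (LK LD1_c11 LD2_c26 LD3_c50))))))))))))
theorem f548843 : Led Lsl_df (LP (LK LD1_c7 LD2_c56 LD3_c58)) = (LP (LK LD1_c11 LD2_c27 LD3_c25)) :=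
  Lgr Lrot162 (Lpr_cf (K28.f158256 IH) (Lpe (K8.f158247 IH) (Lpe (K8.f37047 IH) (Lpe (K7.f37045 IH) (Lpr_dt (K42.f29470 IH) (Lpr_gt (K38.f548834 IH) (Lpr_ct (K38.f176664 IH) (Lpe (K40.f548821 IH) (Lpr_ct (K40.f211003 IH) (Lpn (LP (LK LD1_c11 LD2_c27 LD3_c25))))))))))))
theorem f557398 : Led Lsl_ct (LP (LK LD1_c5 LD2_c43 LD3_c55)) = (LP (LK LD1_c8 LD2_c2 LD3_c12)) :=
  Lgr Lrot7 (Lpr_df (K41.f75556 IH) (Lpe (K41.f75548 IH) (Lpe (K32.f75531 IH) (Lpe (K36.f428096 IH) (Lpe (K40.f185811 IH) (Lpr_gt (K40.f557393 IH) (Lpe (f548843 IH) (Lpe (K28.f203287 IH) (Lpr_dt (K40.f29504 IH) (Lpn (LP (LK LD1_c8 LD2_c2 LD3_c12))))))))))))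
theorem f69472 : Led Lsl_bt (LP (LK LD1_c8 LD2_c2 LD3_c12)) = (LP (LK LD1_c5 LD2_c55 LD3_c29)) :=
  Lgr Lrot127 (Lpr_bf (K40.f69434 IH) (Lpn (LP (LK LD1_c5 LD2_c55 LD3_c29))))
theorem f563888 : Led Lsl_bt (LP (LK LD1_c11 LD2_c36 LD3_c16)) = (LP (LK LD1_c9 LD2_c17 LD3_c50)) :=
  Lgr Lrot128 (Lpe (K8.f59548 IH) (Lpe (f69472 IH) (Lpe (f557398 IH) (Lpr_bf (K40.f563882 IH) (Lpe (K40.f538128 IH) (Lpn (LP (LK LD1_c9 LD2_c17 LD3_c50))))))))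
theorem f569012 : Led Lsl_gf (LP (LK LD1_c16 LD2_c57 LD3_c35)) = (LP (LK LD1_c9 LD2_c17 LD3_c50)) :=
  Lgr Lrot124 (Lpr_bf (K42.f569002 IH) (Lpr_ct (K8.f72138 IH) (Lpr_gt (K5.f37079 IH) (Lpr_cf (K4.f81778 IH) (Lpr_bt (K4.f112609 IH) (Lpr_gt (K8.f112650 IH) (Lpr_ct (K8.f119670 IH) (Lpe (K32.f161093 IH) (Lpe (K8.f59551 IH) (Lpr_bt (f563888 IH) (Lpn (LP (LK LD1_c9 LD2_c17 LD3_c50)))))))))))))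
theorem f538129 : Led Lsl_ct (LP (LK LD1_c4 LD2_c41 LD3_c26)) = (LP (LK LD1_c9 LD2_c17 LD3_c50)) :=
  Lre_c IH (LK LD1_c4 LD2_c41 LD3_c26) (LK LD1_c9 LD2_c17 LD3_c50) Lrfl Lrfl
theorem f546697 : Led Lsl_gt (LP (LK LD1_c4 LD2_c33 LD3_c4)) = (LP (LK LD1_c2 LD2_c13 LD3_c31)) :=
  Lre_g IH (LK LD1_c4 LD2_c33 LD3_c4) (LK LD1_c2 LD2_c13 LD3_c31) Lrfl Lrfl
theorem f549536 : Led Lsl_gt (LP (LK LD1_c2 LD2_c47 LD3_c18)) = (LP (LK LD1_c4 LD2_c33 LD3_c4)) :=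
  Lgr Lrot5 (Lpr_ft (K38.f549530 IH) (Lpr_at (K38.f546726 IH) (Lpe (f546697 IH) (Lpn (LP (LK LD1_c4 LD2_c33 LD3_c4))))))
theorem f579598 : Led Lsl_cf (LP (LK LD1_c8 LD2_c44 LD3_c30)) = (LP (LK LD1_c4 LD2_c33 LD3_c4)) :=
  Lgr Lrot188 (Lpr_gt (f579597 IH) (Lpr_ct (f567259 IH) (Lpr_dt (f579578 IH) (Lpe (f569021 IH) (Lpr_gf (f569012 IH) (Lpe (f538129 IH) (Lpr_gf (K42.f568435 IH) (Lpr_dt (K42.f268863 IH) (Lpr_gt (f549536 IH) (Lpn (LP (LK LD1_c4 LD2_c33 LD3_c4))))))))))))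
theorem f567258 : Led Lsl_ct (LP (LK LD1_c8 LD2_c44 LD3_c28)) = (LP (LK LD1_c4 LD2_c23 LD3_c26)) :=
  Lre_c IH (LK LD1_c8 LD2_c44 LD3_c28) (LK LD1_c4 LD2_c23 LD3_c26) Lrfl Lrfl
theorem f172539 : Led Lsl_et (LP (LK LD1_c5 LD2_c41 LD3_c37)) = (LP (LK LD1_c2 LD2_c46 LD3_c51)) :=
  Lre_e IH (LK LD1_c5 LD2_c41 LD3_c37) (LK LD1_c2 LD2_c46 LD3_c51) Lrfl Lrfl
theorem f547260 : Led Lsl_gf (LP (LK LD1_c11 LD2_c13 LD3_c25)) = (LP (LK LD1_c8 LD2_c51 LD3_c43)) :=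
  Lgr Lrot76 (Lpr_af (K38.f547252 IH) (Lpe (K36.f449413 IH) (Lpr_gt (K38.f547189 IH) (Lpn (LP (LK LD1_c8 LD2_c51 LD3_c43))))))
theorem f559179 : Led Lsl_gt (LP (LK LD1_c6 LD2_c14 LD3_c48)) = (LP (LK LD1_c9 LD2_c51 LD3_c20)) :=
  Lgr Lrot137 (Lpe (K41.f547093 IH) (Lpr_dt (K41.f559167 IH) (Lpe (K33.f96830 IH) (Lpe (K39.f96829 IH) (Lpr_et (K39.f556336 IH) (Lpe (K31.f411681 IH) (Lpe (f172539 IH) (Lpr_dt (K38.f411687 IH) (Lpr_gf (f547260 IH) (Lpr_df (K38.f198008 IH) (Lpn (LP (LK LD1_c9 LD2_c51 LD3_c20)))))))))))))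
theorem f559181 : Led Lsl_gt (LP (LK LD1_c5 LD2_c54 LD3_c22)) = (LP (LK LD1_c3 LD2_c33 LD3_c30)) :=
  Lgr Lrot137 (Lpe (K40.f556897 IH) (Lpr_dt (K39.f138621 IH) (Lpe (K41.f556923 IH) (Lpe (K39.f205032 IH) (Lpr_et (K39.f204943 IH) (Lpe (f559179 IH) (Lpe (K41.f547093 IH) (Lpr_dt (K41.f559167 IH) (Lpe (K33.f96830 IH) (Lpe (K39.f96829 IH) (Lpn (LP (LK LD1_c3 LD2_c33 LD3_c30)))))))))))))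
theorem f301889 : Led Lsl_bf (LP (LK LD1_c6 LD2_c25 LD3_c31)) = (LP (LK LD1_c5 LD2_c41 LD3_c15)) :=
  Lgr Lrot81 (Lpr_at (K36.f176671 IH) (Lpr_bt (K36.f176654 IH) (Lpr_at (K18.f301883 IH) (Lpr_bt (K35.f301887 IH) (Lpr_at (K40.f301888 IH) (Lpn (LP (LK LD1_c5 LD2_c41 LD3_c15))))))))
theorem f579609 : Led Lsl_bt (LP (LK LD1_c8 LD2_c44 LD3_c28)) = (LP (LK LD1_c4 LD2_c57 LD3_c14)) :=
  Lgr Lrot22 (Lpr_ct (f567258 IH) (Lpe (f579597 IH) (Lpr_cf (f579598 IH) (Lpe (f549536 IH) (Lpr_bf (K39.f268861 IH) (Lpe (K42.f556342 IH) (Lpe (f559181 IH) (Lpe (K40.f557841 IH) (Lpe (f301889 IH) (Lpe (K41.f558476 IH) (Lpn (LP (LK LD1_c4 LD2_c57 LD3_c14)))))))))))))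
theorem f381712 : Led Lsl_bt (LP (LK LD1_c2 LD2_c47 LD3_c49)) = (LP (LK LD1_c2 LD2_c47 LD3_c55)) :=
  Lgr Lrot119 (Lpe (K36.f381710 IH) (Lpr_bf (K27.f381687 IH) (Lpe (K40.f381711 IH) (Lpn (LP (LK LD1_c2 LD2_c47 LD3_c55))))))
theorem f579611 : Led Lsl_bf (LP (LK LD1_c2 LD2_c47 LD3_c58)) = (LP (LK LD1_c4 LD2_c33 LD3_c4)) :=
  Lgr Lrot34 (Lpr_gf (K41.f541753 IH) (Lpe (f381712 IH) (Lpe (K36.f539668 IH) (Lpe (K36.f541766 IH) (Lpe (K40.f205115 IH) (Lpe (K41.f558476 IH) (Lpe (f579609 IH) (Lpr_ct (f567258 IH) (Lpe (f579597 IH) (Lpr_cf (f579598 IH) (Lpn (LP (LK LD1_c4 LD2_c33 LD3_c4)))))))))))))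
theorem f450449 : Led Lsl_at (LP (LK LD1_c2 LD2_c50 LD3_c37)) = (LP (LK LD1_c5 LD2_c49 LD3_c3)) :=
  Lre_a IH (LK LD1_c2 LD2_c50 LD3_c37) (LK LD1_c5 LD2_c49 LD3_c3) Lrfl Lrfl
theorem f450478 : Led Lsl_gt (LP (LK LD1_c6 LD2_c17 LD3_c10)) = (LP (LK LD1_c5 LD2_c49 LD3_c3)) :=
  Lgr Lrot46 (Lpe (K40.f210790 IH) (Lpr_ft (K40.f450102 IH) (Lpr_at (f450449 IH) (Lpn (LP (LK LD1_c5 LD2_c49 LD3_c3))))))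
theorem f158610 : Led Lsl_ff (LP (LK LD1_c6 LD2_c14 LD3_c10)) = (LP (LK LD1_c4 LD2_c0 LD3_c46)) :=
  Lgr Lrot3 (Lpr_ft (K39.f158606 IH) (Lpn (LP (LK LD1_c4 LD2_c0 LD3_c46))))
theorem f558181 : Led Lsl_cf (LP (LK LD1_c4 LD2_c0 LD3_c46)) = (LP (LK LD1_c5 LD2_c49 LD3_c3)) :=
  Lgr Lrot108 (Lpe (f158610 IH) (Lpr_ct (K40.f558175 IH) (Lpr_ft (K40.f450117 IH) (Lpn (LP (LK LD1_c5 LD2_c49 LD3_c3))))))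
theorem f75565 : Led Lsl_ct (LP (LK LD1_c2 LD2_c47 LD3_c59)) = (LP (LK LD1_c5 LD2_c43 LD3_c56)) :=
  Lre_c IH (LK LD1_c2 LD2_c47 LD3_c59) (LK LD1_c5 LD2_c43 LD3_c56) Lrfl Lrfl
theorem f542514 : Led Lsl_ct (LP (LK LD1_c4 LD2_c23 LD3_c48)) = (LP (LK LD1_c5 LD2_c43 LD3_c47)) :=
  Lgr Lrot176 (Lpe (K32.f70100 IH) (Lpe (K9.f70091 IH) (Lpe (K36.f70099 IH) (Lpr_cf (K36.f541772 IH) (Lpe (K36.f381800 IH) (Lpe (K36.f75562 IH) (Lpe (K36.f75561 IH) (Lpe (K36.f541785 IH) (Lpr_df (K36.f542510 IH) (Lpe (K36.f81393 IH) (Lpe (K40.f542508 IH) (Lpe (f75565 IH) (Lpe (K40.f75554 IH) (Lpe (K36.f75564 IH) (Lpe (K36.f75563 IH) (Lpn (LP (LK LD1_c5 LD2_c43 LD3_c47))))))))))))))))))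
theorem f558308 : Led Lsl_ct (LP (LK LD1_c4 LD2_c57 LD3_c24)) = (LP (LK LD1_c2 LD2_c47 LD3_c58)) :=
  Lgr Lrot152 (Lpr_gf (K40.f558302 IH) (Lpe (K40.f558293 IH) (Lpr_gt (f450478 IH) (Lpe (f558181 IH) (Lpr_gt (K39.f156803 IH) (Lpr_ct (f542514 IH) (Lpe (K36.f381800 IH) (Lpe (K36.f75562 IH) (Lpe (K40.f381930 IH) (Lpn (LP (LK LD1_c2 LD2_c47 LD3_c58))))))))))))
theorem f563783 : Led Lsl_bf (LP (LK LD1_c5 LD2_c13 LD3_c60)) = (LP (LK LD1_c4 LD2_c57 LD3_c24)) :=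
  Lgr Lrot96 (Lpr_et (K36.f61386 IH) (Lpe (K39.f387145 IH) (Lpr_et (K40.f563779 IH) (Lpn (LP (LK LD1_c4 LD2_c57 LD3_c24))))))
theorem f302042 : Led Lsl_at (LP (LK LD1_c5 LD2_c41 LD3_c15)) = (LP (LK LD1_c2 LD2_c46 LD3_c40)) :=
  Lre_a IH (LK LD1_c5 LD2_c41 LD3_c15) (LK LD1_c2 LD2_c46 LD3_c40) Lrfl Lrfl
theorem f302043 : Led Lsl_ft (LP (LK LD1_c5 LD2_c13 LD3_c60)) = (LP (LK LD1_c5 LD2_c41 LD3_c15)) :=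
  Lgr Lrot101 (Lpe (K36.f61391 IH) (Lpr_ff (K36.f302038 IH) (Lpe (f302042 IH) (Lpn (LP (LK LD1_c5 LD2_c41 LD3_c15))))))
theorem f565242 : Led Lsl_gf (LP (LK LD1_c3 LD2_c59 LD3_c4)) = (LP (LK LD1_c5 LD2_c13 LD3_c60)) :=
  Lgr Lrot47 (Lpr_gt (K41.f565240 IH) (Lpe (f302042 IH) (Lpe (f302043 IH) (Lpn (LP (LK LD1_c5 LD2_c13 LD3_c60))))))
theorem f548953 : Led Lsl_bt (LP (LK LD1_c7 LD2_c59 LD3_c23)) = (LP (LK LD1_c3 LD2_c59 LD3_c4)) :=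
  Lre_b IH (LK LD1_c7 LD2_c59 LD3_c23) (LK LD1_c3 LD2_c59 LD3_c4) Lrfl Lrfl
theorem f574929 : Led Lsl_ct (LP (LK LD1_c7 LD2_c59 LD3_c23)) = (LP (LK LD1_c13 LD2_c27 LD3_c51)) :=
  Lgr Lrot83 (Lpe (K42.f571831 IH) (Lpe (f548954 IH) (Lpr_bf (f574914 IH) (Lpe (f10302 IH) (Lpe (f502714 IH) (Lpn (LP (LK LD1_c13 LD2_c27 LD3_c51))))))))
theorem f579613 : Led Lsl_gf (LP (LK LD1_c8 LD2_c44 LD3_c30)) = (LP (LK LD1_c13 LD2_c27 LD3_c51)) :=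
  Lgr Lrot126 (Lpr_cf (f579598 IH) (Lpe (f579611 IH) (Lpr_gt (K40.f381930 IH) (Lpr_ct (K36.f75562 IH) (Lpe (K41.f541753 IH) (Lpe (f558308 IH) (Lpe (f563783 IH) (Lpe (f565242 IH) (Lpe (f548953 IH) (Lpr_ct (f574929 IH) (Lpn (LP (LK LD1_c13 LD2_c27 LD3_c51)))))))))))))
theorem f546740 : Led Lsl_cf (LP (LK LD1_c3 LD2_c36 LD3_c46)) = (LP (LK LD1_c4 LD2_c32 LD3_c61)) :=
  Lgr Lrot11 (Lpr_ct (K37.f546734 IH) (Lpn (LP (LK LD1_c4 LD2_c32 LD3_c61))))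
theorem f127898 : Led Lsl_ff (LP (LK LD1_c3 LD2_c33 LD3_c21)) = (LP (LK LD1_c3 LD2_c36 LD3_c46)) :=
  Lgr Lrot19 (Lpr_dt (K8.f89685 IH) (Lpr_ft (K5.f127894 IH) (Lpr_dt (K37.f93069 IH) (Lpn (LP (LK LD1_c3 LD2_c36 LD3_c46))))))
theorem f549534 : Led Lsl_cf (LP (LK LD1_c2 LD2_c47 LD3_c18)) = (LP (LK LD1_c3 LD2_c33 LD3_c21)) :=
  Lgr Lrot108 (Lpr_ft (K38.f549530 IH) (Lpe (f546740 IH) (Lpe (f127898 IH) (Lpn (LP (LK LD1_c3 LD2_c33 LD3_c21))))))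
theorem f579605 : Led Lsl_dt (LP (LK LD1_c8 LD2_c44 LD3_c30)) = (LP (LK LD1_c7 LD2_c18 LD3_c55)) :=
  Lgr Lrot27 (Lpr_cf (f579598 IH) (Lpe (f549536 IH) (Lpr_cf (f549534 IH) (Lpe (K8.f98500 IH) (Lpe (K8.f98484 IH) (Lpe (K3.f109485 IH) (Lpr_ct (K2.f17788 IH) (Lpr_gt (K2.f17803 IH) (Lpr_ct (K37.f94502 IH) (Lpn (LP (LK LD1_c7 LD2_c18 LD3_c55))))))))))))
theorem f579626 : Led Lsl_et (LP (LK LD1_c7 LD2_c59 LD3_c21)) = (LP (LK LD1_c13 LD2_c27 LD3_c51)) :=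
  Lgr Lrot121 (Lpe (K41.f552654 IH) (Lpe (K39.f60609 IH) (Lpe (K39.f206806 IH) (Lpr_et (K1.f60257 IH) (Lpe (K8.f73027 IH) (Lpe (K41.f100242 IH) (Lpr_dt (K38.f100243 IH) (Lpe (K38.f548761 IH) (Lpe (f579605 IH) (Lpr_gf (f579613 IH) (Lpn (LP (LK LD1_c13 LD2_c27 LD3_c51)))))))))))))
theorem f579628 : Led Lsl_ef (LP (LK LD1_c8 LD2_c44 LD3_c30)) = (LP (LK LD1_c4 LD2_c25 LD3_c55)) :=
  Lgr Lrot17 (Lpr_gf (f579613 IH) (Lpe (f579626 IH) (Lpe (K41.f552654 IH) (Lpe (K39.f60609 IH) (Lpe (K39.f206806 IH) (Lpe (K39.f100245 IH) (Lpr_ef (K39.f551864 IH) (Lpr_dt (K39.f551860 IH) (Lpe (K39.f551871 IH) (Lpe (K36.f100246 IH) (Lpn (LP (LK LD1_c4 LD2_c25 LD3_c55)))))))))))))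
theorem f579634 : Led Lsl_et (LP (LK LD1_c8 LD2_c44 LD3_c30)) = (LP (LK LD1_c4 LD2_c25 LD3_c55)) :=
  Lgr Lrot87 (Lpr_ef (f579628 IH) (Lpn (LP (LK LD1_c4 LD2_c25 LD3_c55))))
theorem f579636 : Led Lsl_ef (LP (LK LD1_c4 LD2_c33 LD3_c4)) = K36.v1398 :=
  Lgr Lrot28 (Lpe (f579598 IH) (Lpr_et (f579634 IH) (Lpr_ct (K42.f495335 IH) (Lpn K36.v1398))))
theorem f579645 : Led Lsl_gt (LP (LK LD1_c5 LD2_c5 LD3_c58)) = (LP (LK LD1_c4 LD2_c37 LD3_c18)) :=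
  Lgr Lrot112 (Lpe (K38.f3132 IH) (Lpr_et (K42.f546670 IH) (Lpe (K41.f563566 IH) (Lpe (K41.f418056 IH) (Lpr_dt (K41.f418507 IH) (Lpr_gf (K41.f563558 IH) (Lpe (K41.f80215 IH) (Lpe (f546697 IH) (Lpr_ef (f579636 IH) (Lpq (K37.f542395 IH) (Lpr_dt (K38.f100263 IH) (Lpn (LP (LK LD1_c4 LD2_c37 LD3_c18))))))))))))))
theorem f572821 : Led Lsl_ff (LP (LK LD1_c5 LD2_c6 LD3_c48)) = (LP (LK LD1_c5 LD2_c5 LD3_c58)) :=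
  Lgr Lrot23 (Lpr_ct (K40.f169807 IH) (Lpr_ft (K42.f572816 IH) (Lpr_ct (K38.f546501 IH) (Lpn (LP (LK LD1_c5 LD2_c5 LD3_c58))))))
theorem f579647 : Led Lsl_at (LP (LK LD1_c5 LD2_c6 LD3_c48)) = (LP (LK LD1_c4 LD2_c5 LD3_c43)) :=
  Lgr Lrot26 (Lpr_ff (f572821 IH) (Lpr_gt (f579645 IH) (Lpe (K38.f547702 IH) (Lpn (LP (LK LD1_c4 LD2_c5 LD3_c43))))))
theorem f183419 : Led Lsl_bt (LP (LK LD1_c1 LD2_c25 LD3_c46)) = (LP (LK LD1_c2 LD2_c59 LD3_c60)) :=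
  Lre_b IH (LK LD1_c1 LD2_c25 LD3_c46) (LK LD1_c2 LD2_c59 LD3_c60) Lrfl Lrfl
theorem f579651 : Led Lsl_bf (LP (LK LD1_c5 LD2_c6 LD3_c48)) = (LP (LK LD1_c6 LD2_c7 LD3_c33)) :=
  Lgr Lrot81 (Lpr_at (f579647 IH) (Lpr_bt (K18.f168203 IH) (Lpe (K18.f296984 IH) (Lpr_bt (f183419 IH) (Lpr_at (K39.f296986 IH) (Lpn (LP (LK LD1_c6 LD2_c7 LD3_c33))))))))
theorem f194055 : Led Lsl_ct (LP (LK LD1_c2 LD2_c30 LD3_c60)) = (LP (LK LD1_c5 LD2_c7 LD3_c22)) :=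
  Lre_c IH (LK LD1_c2 LD2_c30 LD3_c60) (LK LD1_c5 LD2_c7 LD3_c22) Lrfl Lrfl
theorem f194056 : Led Lsl_gt (LP (LK LD1_c10 LD2_c5 LD3_c11)) = (LP (LK LD1_c5 LD2_c7 LD3_c22)) :=
  Lre_g IH (LK LD1_c10 LD2_c5 LD3_c11) (LK LD1_c5 LD2_c7 LD3_c22) Lrfl Lrfl
theorem f579657 : Led Lsl_cf (LP (LK LD1_c10 LD2_c5 LD3_c11)) = (LP (LK LD1_c6 LD2_c7 LD3_c33)) :=
  Lgr Lrot160 (Lpr_gt (f194056 IH) (Lpe (f194055 IH) (Lpr_bt (K36.f194046 IH) (Lpr_gt (K10.f194044 IH) (Lpe (K10.f165707 IH) (Lpe (K10.f194053 IH) (Lpr_cf (K15.f169770 IH) (Lpr_bt (K40.f169805 IH) (Lpr_gt (K39.f169806 IH) (Lpr_bf (f579651 IH) (Lpn (LP (LK LD1_c6 LD2_c7 LD3_c33)))))))))))))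
theorem f579667 : Led Lsl_bt (LP (LK LD1_c5 LD2_c7 LD3_c37)) = (LP (LK LD1_c8 LD2_c12 LD3_c11)) :=
  Lgr Lrot130 (Lpr_ct (K42.f427494 IH) (Lpe (K42.f557662 IH) (Lpe (K42.f165698 IH) (Lpr_bt (K36.f165697 IH) (Lpe (K10.f194044 IH) (Lpe (K36.f194046 IH) (Lpr_ct (f194055 IH) (Lpe (f194056 IH) (Lpr_cf (f579657 IH) (Lpr_gf (K39.f407109 IH) (Lpn (LP (LK LD1_c8 LD2_c12 LD3_c11)))))))))))))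
theorem f3285 : Led Lsl_dt (LP (LK LD1_c2 LD2_c31 LD3_c4)) = (LP (LK LD1_c5 LD2_c7 LD3_c37)) :=
  Lre_d IH (LK LD1_c2 LD2_c31 LD3_c4) (LK LD1_c5 LD2_c7 LD3_c37) Lrfl Lrfl
theorem f544480 : Led Lsl_cf (LP (LK LD1_c5 LD2_c7 LD3_c18)) = (LP (LK LD1_c4 LD2_c5 LD3_c40)) :=
  Lgr Lrot108 (Lpr_ft (K37.f544477 IH) (Lpr_ct (K39.f159188 IH) (Lpr_ft (K35.f538292 IH) (Lpn (LP (LK LD1_c4 LD2_c5 LD3_c40))))))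
theorem f412431 : Led Lsl_gf (LP (LK LD1_c4 LD2_c5 LD3_c40)) = (LP (LK LD1_c4 LD2_c7 LD3_c4)) :=
  Lgr Lrot76 (Lpe (K37.f192715 IH) (Lpr_ff (K36.f412427 IH) (Lpr_gt (K37.f55918 IH) (Lpn (LP (LK LD1_c4 LD2_c7 LD3_c4))))))
theorem f579665 : Led Lsl_df (LP (LK LD1_c4 LD2_c7 LD3_c4)) = (LP (LK LD1_c8 LD2_c12 LD3_c11)) :=
  Lgr Lrot155 (Lpe (f412431 IH) (Lpe (f544480 IH) (Lpr_gt (K37.f3301 IH) (Lpr_ct (K32.f53236 IH) (Lpr_dt (f308504 IH) (Lpe (K32.f194047 IH) (Lpe (f194056 IH) (Lpr_cf (f579657 IH) (Lpr_gf (K39.f407109 IH) (Lpn (LP (LK LD1_c8 LD2_c12 LD3_c11))))))))))))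
theorem f579671 : Led Lsl_bf (LP (LK LD1_c2 LD2_c31 LD3_c4)) = (LP (LK LD1_c4 LD2_c7 LD3_c4)) :=
  Lgr Lrot93 (Lpr_dt (f3285 IH) (Lpr_bt (f579667 IH) (Lpe (f579665 IH) (Lpn (LP (LK LD1_c4 LD2_c7 LD3_c4))))))
theorem f568563 : Led Lsl_ft (LP (LK LD1_c2 LD2_c31 LD3_c4)) = (LP (LK LD1_c5 LD2_c7 LD3_c39)) :=
  Lre_f IH (LK LD1_c2 LD2_c31 LD3_c4) (LK LD1_c5 LD2_c7 LD3_c39) Lrfl Lrfl
theorem f579678 : Led Lsl_bt (LP (LK LD1_c5 LD2_c7 LD3_c39)) = (LP (LK LD1_c4 LD2_c5 LD3_c38)) :=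
  Lgr Lrot35 (Lpe (f568563 IH) (Lpr_bf (f579671 IH) (Lpe (K41.f567076 IH) (Lpn (LP (LK LD1_c4 LD2_c5 LD3_c38))))))
theorem f579684 : Led Lsl_ef (LP (LK LD1_c5 LD2_c7 LD3_c39)) = (LP (LK LD1_c2 LD2_c31 LD3_c9)) :=
  Lgr Lrot29 (Lpr_bt (f579678 IH) (Lpr_et (K41.f567074 IH) (Lpq (K42.f570451 IH) (Lpr_bt (K36.f421469 IH) (Lpn (LP (LK LD1_c2 LD2_c31 LD3_c9)))))))
theorem f568513 : Led Lsl_ft (LP (LK LD1_c5 LD2_c7 LD3_c39)) = (LP (LK LD1_c2 LD2_c31 LD3_c4)) :=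
  Lre_f IH (LK LD1_c5 LD2_c7 LD3_c39) (LK LD1_c2 LD2_c31 LD3_c4) Lrfl Lrfl
theorem f568533 : Led Lsl_gf (LP (LK LD1_c2 LD2_c55 LD3_c18)) = (LP (LK LD1_c5 LD2_c7 LD3_c39)) :=
  Lgr Lrot47 (Lpr_gt (K36.f386769 IH) (Lpr_af (K42.f568524 IH) (Lpe (f568513 IH) (Lpn (LP (LK LD1_c5 LD2_c7 LD3_c39))))))
theorem f132819 : Led Lsl_gt (LP (LK LD1_c2 LD2_c50 LD3_c1)) = (LP (LK LD1_c5 LD2_c47 LD3_c61)) :=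
  Lre_g IH (LK LD1_c2 LD2_c50 LD3_c1) (LK LD1_c5 LD2_c47 LD3_c61) Lrfl Lrfl
theorem f421504 : Led Lsl_dt (LP (LK LD1_c2 LD2_c31 LD3_c9)) = (LP (LK LD1_c5 LD2_c7 LD3_c46)) :=
  Lre_d IH (LK LD1_c2 LD2_c31 LD3_c9) (LK LD1_c5 LD2_c7 LD3_c46) Lrfl Lrfl
theorem f421488 : Led Lsl_gt (LP (LK LD1_c10 LD2_c5 LD3_c30)) = (LP (LK LD1_c5 LD2_c7 LD3_c46)) :=
  Lre_g IH (LK LD1_c10 LD2_c5 LD3_c30) (LK LD1_c5 LD2_c7 LD3_c46) Lrfl Lrfl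
theorem f579688 : Led Lsl_dt (LP (LK LD1_c5 LD2_c47 LD3_c61)) = (LP (LK LD1_c10 LD2_c5 LD3_c30)) :=
  Lgr Lrot171 (Lpe (f132819 IH) (Lpe (K8.f132403 IH) (Lpr_dt (K6.f117295 IH) (Lpe (K8.f137302 IH) (Lpe (K8.f72400 IH) (Lpr_et (K38.f386774 IH) (Lpr_gf (f568533 IH) (Lpr_ef (f579684 IH) (Lpr_dt (f421504 IH) (Lpe (f421488 IH) (Lpn (LP (LK LD1_c10 LD2_c5 LD3_c30)))))))))))))
theorem f427493 : Led Lsl_gt (LP (LK LD1_c5 LD2_c7 LD3_c37)) = (LP (LK LD1_c10 LD2_c5 LD3_c30)) :=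
  Lre_g IH (LK LD1_c5 LD2_c7 LD3_c37) (LK LD1_c10 LD2_c5 LD3_c30) Lrfl Lrfl
theorem f561437 : Led Lsl_et (LP (LK LD1_c2 LD2_c31 LD3_c4)) = (LP (LK LD1_c5 LD2_c7 LD3_c38)) :=
  Lre_e IH (LK LD1_c2 LD2_c31 LD3_c4) (LK LD1_c5 LD2_c7 LD3_c38) Lrfl Lrfl
theorem f579694 : Led Lsl_et (LP (LK LD1_c5 LD2_c47 LD3_c61)) = (LP (LK LD1_c5 LD2_c37 LD3_c20)) :=
  Lgr Lrot121 (Lpr_dt (f579688 IH) (Lpe (f427493 IH) (Lpe (f3285 IH) (Lpr_et (f561437 IH) (Lpe (K40.f561435 IH) (Lpe (K40.f381828 IH) (Lpr_dt (K36.f381814 IH) (Lpr_gf (K40.f561424 IH) (Lpe (K40.f160999 IH) (Lpr_gf (K40.f544923 IH) (Lpn (LP (LK LD1_c5 LD2_c37 LD3_c20)))))))))))))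
theorem f579702 : Led Lsl_ef (LP (LK LD1_c5 LD2_c47 LD3_c61)) = (LP (LK LD1_c5 LD2_c37 LD3_c20)) :=
  Lgr Lrot88 (Lpr_et (f579694 IH) (Lpn (LP (LK LD1_c5 LD2_c37 LD3_c20))))
theorem f384036 : Led Lsl_bt (LP (LK LD1_c2 LD2_c44 LD3_c36)) = (LP (LK LD1_c5 LD2_c37 LD3_c20)) :=
  Lre_b IH (LK LD1_c2 LD2_c44 LD3_c36) (LK LD1_c5 LD2_c37 LD3_c20) Lrfl Lrfl
theorem f579706 : Led Lsl_bt (LP (LK LD1_c5 LD2_c47 LD3_c61)) = (LP (LK LD1_c3 LD2_c0 LD3_c6)) :=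
  Lgr Lrot119 (Lpr_ef (f579702 IH) (Lpe (f384036 IH) (Lpe (K36.f427736 IH) (Lpn (LP (LK LD1_c3 LD2_c0 LD3_c6))))))
theorem f579710 : Led Lsl_ff (LP (LK LD1_c5 LD2_c47 LD3_c61)) = (LP (LK LD1_c3 LD2_c0 LD3_c10)) :=
  Lgr Lrot25 (Lpr_bt (f579706 IH) (Lpr_ft (K36.f427727 IH) (Lpr_bt (K40.f501335 IH) (Lpn (LP (LK LD1_c3 LD2_c0 LD3_c10))))))
theorem f579716 : Led Lsl_ft (LP (LK LD1_c5 LD2_c47 LD3_c61)) = (LP (LK LD1_c3 LD2_c0 LD3_c10)) :=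
  Lgr Lrot48 (Lpr_ff (f579710 IH) (Lpn (LP (LK LD1_c3 LD2_c0 LD3_c10))))
theorem f579722 : Led Lsl_ff (LP (LK LD1_c11 LD2_c7 LD3_c7)) = (LP (LK LD1_c6 LD2_c7 LD3_c55)) :=
  Lgr Lrot72 (Lpr_et (f556119 IH) (Lpr_ft (K39.f556115 IH) (Lpe (f579702 IH) (Lpr_ft (f579716 IH) (Lpr_et (K42.f557531 IH) (Lpn (LP (LK LD1_c6 LD2_c7 LD3_c55))))))))
theorem f538263 : Led Lsl_dt (LP (LK LD1_c6 LD2_c3 LD3_c25)) = (LP (LK LD1_c6 LD2_c16 LD3_c17)) :=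
  Lgr Lrot42 (Lpr_df (K35.f538260 IH) (Lpn (LP (LK LD1_c6 LD2_c16 LD3_c17))))
theorem f568599 : Led Lsl_bf (LP (LK LD1_c5 LD2_c38 LD3_c22)) = (LP (LK LD1_c6 LD2_c16 LD3_c17)) :=
  Lgr Lrot93 (Lpr_dt (K42.f422735 IH) (Lpr_bt (K42.f568593 IH) (Lpr_dt (f538263 IH) (Lpn (LP (LK LD1_c6 LD2_c16 LD3_c17))))))
theorem f380369 : Led Lsl_bt (LP (LK LD1_c5 LD2_c38 LD3_c7)) = (LP (LK LD1_c11 LD2_c7 LD3_c29)) :=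
  Lre_b IH (LK LD1_c5 LD2_c38 LD3_c7) (LK LD1_c11 LD2_c7 LD3_c29) Lrfl Lrfl
theorem f579041 : Led Lsl_gt (LP (LK LD1_c6 LD2_c7 LD3_c55)) = (LP (LK LD1_c11 LD2_c7 LD3_c30)) :=
  Lgr Lrot149 (Lpe (f577780 IH) (Lpe (f572984 IH) (Lpr_bf (f568599 IH) (Lpr_ct (f538279 IH) (Lpr_gf (f579039 IH) (Lpe (f450395 IH) (Lpr_bt (f571877 IH) (Lpe (f578824 IH) (Lpe (f380369 IH) (Lpr_ct (f380357 IH) (Lpn (LP (LK LD1_c11 LD2_c7 LD3_c30)))))))))))))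
theorem f579724 : Led Lsl_at (LP (LK LD1_c11 LD2_c7 LD3_c7)) = (LP (LK LD1_c11 LD2_c28 LD3_c19)) :=
  Lgr Lrot26 (Lpr_ff (f579722 IH) (Lpr_gt (f579041 IH) (Lpe (f573409 IH) (Lpn (LP (LK LD1_c11 LD2_c28 LD3_c19))))))
theorem f579726 : Led Lsl_af (LP (LK LD1_c11 LD2_c7 LD3_c7)) = (LP (LK LD1_c11 LD2_c28 LD3_c19)) :=
  Lgr Lrot0 (Lpr_at (f579724 IH) (Lpn (LP (LK LD1_c11 LD2_c28 LD3_c19))))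
theorem f557467 : Led Lsl_bt (LP (LK LD1_c2 LD2_c56 LD3_c57)) = (LP (LK LD1_c6 LD2_c1 LD3_c33)) :=
  Lre_b IH (LK LD1_c2 LD2_c56 LD3_c57) (LK LD1_c6 LD2_c1 LD3_c33) Lrfl Lrfl
theorem f176845 : Led Lsl_bt (LP (LK LD1_c11 LD2_c28 LD3_c19)) = (LP (LK LD1_c5 LD2_c49 LD3_c52)) :=
  Lre_b IH (LK LD1_c11 LD2_c28 LD3_c19) (LK LD1_c5 LD2_c49 LD3_c52) Lrfl Lrfl
theorem f557468 : Led Lsl_dt (LP (LK LD1_c6 LD2_c1 LD3_c33)) = (LP (LK LD1_c11 LD2_c28 LD3_c19)) :=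
  Lgr Lrot79 (Lpe (f557467 IH) (Lpr_df (K40.f557463 IH) (Lpe (f176845 IH) (Lpn (LP (LK LD1_c11 LD2_c28 LD3_c19))))))
theorem f176567 : Led Lsl_ct (LP (LK LD1_c11 LD2_c47 LD3_c44)) = (LP (LK LD1_c6 LD2_c1 LD3_c33)) :=
  Lre_c IH (LK LD1_c11 LD2_c47 LD3_c44) (LK LD1_c6 LD2_c1 LD3_c33) Lrfl Lrfl
theorem f176568 : Led Lsl_dt (LP (LK LD1_c20 LD2_c49 LD3_c59)) = (LP (LK LD1_c11 LD2_c47 LD3_c44)) :=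
  Lre_d IH (LK LD1_c20 LD2_c49 LD3_c59) (LK LD1_c11 LD2_c47 LD3_c44) Lrfl Lrfl
theorem f558439 : Led Lsl_ff (LP (LK LD1_c11 LD2_c28 LD3_c19)) = (LP (LK LD1_c10 LD2_c3 LD3_c54)) :=
  Lgr Lrot25 (Lpr_bt (f176845 IH) (Lpr_ft (K40.f558437 IH) (Lpr_bt (K40.f387409 IH) (Lpn (LP (LK LD1_c10 LD2_c3 LD3_c54))))))
theorem f544953 : Led Lsl_dt (LP (LK LD1_c11 LD2_c29 LD3_c32)) = (LP (LK LD1_c20 LD2_c26 LD3_c36)) :=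
  Lre_d IH (LK LD1_c11 LD2_c29 LD3_c32) (LK LD1_c20 LD2_c26 LD3_c36) Lrfl Lrfl
theorem f579734 : Led Lsl_cf (LP (LK LD1_c20 LD2_c49 LD3_c59)) = (LP (LK LD1_c20 LD2_c26 LD3_c36)) :=
  Lgr Lrot116 (Lpr_dt (f176568 IH) (Lpr_ct (f176567 IH) (Lpr_dt (f557468 IH) (Lpr_ct (f564167 IH) (Lpr_af (f579726 IH) (Lpr_ff (f558439 IH) (Lpe (K40.f387410 IH) (Lpe (f544941 IH) (Lpr_dt (f544953 IH) (Lpn (LP (LK LD1_c20 LD2_c26 LD3_c36))))))))))))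
theorem f579738 : Led Lsl_ct (LP (LK LD1_c20 LD2_c49 LD3_c59)) = (LP (LK LD1_c20 LD2_c26 LD3_c36)) :=
  Lgr Lrot59 (Lpr_cf (f579734 IH) (Lpn (LP (LK LD1_c20 LD2_c26 LD3_c36))))
theorem f548341 : Led Lsl_dt (LP (LK LD1_c11 LD2_c47 LD3_c44)) = (LP (LK LD1_c20 LD2_c49 LD3_c59)) :=
  Lre_d IH (LK LD1_c11 LD2_c47 LD3_c44) (LK LD1_c20 LD2_c49 LD3_c59) Lrfl Lrfl
theorem f186440 : Led Lsl_ct (LP (LK LD1_c6 LD2_c1 LD3_c33)) = (LP (LK LD1_c11 LD2_c47 LD3_c44)) :=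
  Lre_c IH (LK LD1_c6 LD2_c1 LD3_c33) (LK LD1_c11 LD2_c47 LD3_c44) Lrfl Lrfl
theorem f544957 : Led Lsl_dt (LP (LK LD1_c20 LD2_c26 LD3_c36)) = (LP (LK LD1_c11 LD2_c29 LD3_c32)) :=
  Lre_d IH (LK LD1_c20 LD2_c26 LD3_c36) (LK LD1_c11 LD2_c29 LD3_c32) Lrfl Lrfl
theorem f544951 : Led Lsl_ct (LP (LK LD1_c11 LD2_c29 LD3_c32)) = (LP (LK LD1_c11 LD2_c20 LD3_c35)) :=
  Lgr Lrot59 (Lpr_cf (f544941 IH) (Lpn (LP (LK LD1_c11 LD2_c20 LD3_c35))))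
theorem f386644 : Led Lsl_dt (LP (LK LD1_c11 LD2_c20 LD3_c35)) = (LP (LK LD1_c10 LD2_c3 LD3_c54)) :=
  Lgr Lrot79 (Lpe (K40.f386642 IH) (Lpr_df (K27.f386640 IH) (Lpe (f386643 IH) (Lpn (LP (LK LD1_c10 LD2_c3 LD3_c54))))))
theorem f558447 : Led Lsl_ft (LP (LK LD1_c11 LD2_c28 LD3_c19)) = (LP (LK LD1_c10 LD2_c3 LD3_c54)) :=
  Lgr Lrot75 (Lpe (f557454 IH) (Lpr_ff (K40.f558445 IH) (Lpe (f386643 IH) (Lpn (LP (LK LD1_c10 LD2_c3 LD3_c54))))))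
theorem f579728 : Led Lsl_af (LP (LK LD1_c6 LD2_c7 LD3_c55)) = (LP (LK LD1_c10 LD2_c3 LD3_c54)) :=
  Lgr Lrot45 (Lpe (f579722 IH) (Lpr_at (f579724 IH) (Lpr_ft (f558447 IH) (Lpn (LP (LK LD1_c10 LD2_c3 LD3_c54))))))
theorem f579747 : Led Lsl_df (LP (LK LD1_c6 LD2_c1 LD3_c33)) = (LP (LK LD1_c11 LD2_c28 LD3_c19)) :=
  Lgr Lrot157 (Lpr_ct (f186440 IH) (Lpr_dt (f548341 IH) (Lpr_ct (f579738 IH) (Lpr_dt (f544957 IH) (Lpr_ct (f544951 IH) (Lpr_dt (f386644 IH) (Lpr_ct (f577780 IH) (Lpr_af (f579728 IH) (Lpe (f558447 IH) (Lpn (LP (LK LD1_c11 LD2_c28 LD3_c19))))))))))))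
theorem f565282 : Led Lsl_bt (LP (LK LD1_c8 LD2_c12 LD3_c33)) = (LP (LK LD1_c15 LD2_c26 LD3_c32)) :=
  Lre_b IH (LK LD1_c8 LD2_c12 LD3_c33) (LK LD1_c15 LD2_c26 LD3_c32) Lrfl Lrfl
theorem f565263 : Led Lsl_ct (LP (LK LD1_c8 LD2_c12 LD3_c33)) = (LP (LK LD1_c15 LD2_c26 LD3_c41)) :=
  Lre_c IH (LK LD1_c8 LD2_c12 LD3_c33) (LK LD1_c15 LD2_c26 LD3_c41) Lrfl Lrfl
theorem f423700 : Led Lsl_dt (LP (LK LD1_c5 LD2_c41 LD3_c25)) = (LP (LK LD1_c2 LD2_c46 LD3_c45)) :=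
  Lre_d IH (LK LD1_c5 LD2_c41 LD3_c25) (LK LD1_c2 LD2_c46 LD3_c45) Lrfl Lrfl
theorem f423353 : Led Lsl_ct (LP (LK LD1_c11 LD2_c13 LD3_c3)) = (LP (LK LD1_c5 LD2_c41 LD3_c25)) :=
  Lre_c IH (LK LD1_c11 LD2_c13 LD3_c3) (LK LD1_c5 LD2_c41 LD3_c25) Lrfl Lrfl
theorem f565317 : Led Lsl_gt (LP (LK LD1_c15 LD2_c26 LD3_c41)) = (LP (LK LD1_c11 LD2_c13 LD3_c3)) :=
  Lgr Lrot150 (Lpe (f565263 IH) (Lpr_gf (K42.f565275 IH) (Lpe (K42.f450542 IH) (Lpe (K39.f556719 IH) (Lpr_ct (K36.f427959 IH) (Lpr_gt (K41.f556723 IH) (Lpr_ct (K41.f181546 IH) (Lpe (f423700 IH) (Lpe (f423353 IH) (Lpn (LP (LK LD1_c11 LD2_c13 LD3_c3))))))))))))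
theorem f423691 : Led Lsl_ct (LP (LK LD1_c5 LD2_c41 LD3_c25)) = (LP (LK LD1_c11 LD2_c13 LD3_c3)) :=
  Lre_c IH (LK LD1_c5 LD2_c41 LD3_c25) (LK LD1_c11 LD2_c13 LD3_c3) Lrfl Lrfl
theorem f423699 : Led Lsl_bt (LP (LK LD1_c5 LD2_c41 LD3_c25)) = (LP (LK LD1_c11 LD2_c12 LD3_c53)) :=
  Lre_b IH (LK LD1_c5 LD2_c41 LD3_c25) (LK LD1_c11 LD2_c12 LD3_c53) Lrfl Lrfl
theorem f208546 : Led Lsl_bt (LP (LK LD1_c4 LD2_c34 LD3_c48)) = (LP (LK LD1_c9 LD2_c6 LD3_c13)) :=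
  Lre_b IH (LK LD1_c4 LD2_c34 LD3_c48) (LK LD1_c9 LD2_c6 LD3_c13) Lrfl Lrfl
theorem f565277 : Led Lsl_bt (LP (LK LD1_c15 LD2_c26 LD3_c32)) = (LP (LK LD1_c8 LD2_c12 LD3_c33)) :=
  Lre_b IH (LK LD1_c15 LD2_c26 LD3_c32) (LK LD1_c8 LD2_c12 LD3_c33) Lrfl Lrfl
theorem f176067 : Led Lsl_bt (LP (LK LD1_c2 LD2_c16 LD3_c16)) = (LP (LK LD1_c1 LD2_c5 LD3_c13)) :=
  Lre_b IH (LK LD1_c2 LD2_c16 LD3_c16) (LK LD1_c1 LD2_c5 LD3_c13) Lrfl Lrfl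
theorem f176469 : Led Lsl_gt (LP (LK LD1_c4 LD2_c38 LD3_c27)) = (LP (LK LD1_c9 LD2_c12 LD3_c43)) :=
  Lre_g IH (LK LD1_c4 LD2_c38 LD3_c27) (LK LD1_c9 LD2_c12 LD3_c43) Lrfl Lrfl
theorem f565278 : Led Lsl_ct (LP (LK LD1_c15 LD2_c26 LD3_c32)) = (LP (LK LD1_c9 LD2_c12 LD3_c43)) :=
  Lgr Lrot10 (Lpr_bt (f565277 IH) (Lpr_gt (K42.f565271 IH) (Lpr_ct (K37.f165055 IH) (Lpe (K37.f539281 IH) (Lpe (K37.f24007 IH) (Lpr_bt (K37.f23998 IH) (Lpr_gt (K9.f23929 IH) (Lpe (f176067 IH) (Lpr_ct (K37.f176068 IH) (Lpr_gt (f176469 IH) (Lpn (LP (LK LD1_c9 LD2_c12 LD3_c43)))))))))))))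
theorem f572897 : Led Lsl_gt (LP (LK LD1_c9 LD2_c12 LD3_c43)) = (LP (LK LD1_c5 LD2_c57 LD3_c1)) :=
  Lgr Lrot150 (Lpe (f565278 IH) (Lpr_gf (K42.f572894 IH) (Lpe (K42.f130557 IH) (Lpe (K40.f556717 IH) (Lpr_ct (K39.f556706 IH) (Lpr_gt (K39.f545957 IH) (Lpr_ct (K37.f82183 IH) (Lpe (K37.f418493 IH) (Lpe (K40.f500545 IH) (Lpn (LP (LK LD1_c5 LD2_c57 LD3_c1))))))))))))
theorem f500543 : Led Lsl_ct (LP (LK LD1_c2 LD2_c54 LD3_c48)) = (LP (LK LD1_c5 LD2_c57 LD3_c1)) :=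
  Lre_c IH (LK LD1_c2 LD2_c54 LD3_c48) (LK LD1_c5 LD2_c57 LD3_c1) Lrfl Lrfl
theorem f176566 : Led Lsl_bt (LP (LK LD1_c6 LD2_c1 LD3_c33)) = (LP (LK LD1_c2 LD2_c56 LD3_c57)) :=
  Lre_b IH (LK LD1_c6 LD2_c1 LD3_c33) (LK LD1_c2 LD2_c56 LD3_c57) Lrfl Lrfl
theorem f572900 : Led Lsl_gt (LP (LK LD1_c11 LD2_c47 LD3_c44)) = (LP (LK LD1_c9 LD2_c6 LD3_c14)) :=
  Lgr Lrot65 (Lpe (f186440 IH) (Lpr_bt (f176566 IH) (Lpe (K40.f452567 IH) (Lpe (K37.f546063 IH) (Lpr_ct (f500543 IH) (Lpe (f572897 IH) (Lpe (f565278 IH) (Lpr_gf (K42.f572894 IH) (Lpe (f208546 IH) (Lpr_ct (f72374 IH) (Lpn (LP (LK LD1_c9 LD2_c6 LD3_c14)))))))))))))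
theorem f572902 : Led Lsl_gt (LP (LK LD1_c11 LD2_c12 LD3_c53)) = (LP (LK LD1_c6 LD2_c1 LD3_c33)) :=
  Lgr Lrot82 (Lpe (f423699 IH) (Lpr_ct (f423691 IH) (Lpe (f565317 IH) (Lpe (f565263 IH) (Lpr_bt (f565282 IH) (Lpr_gf (K42.f572894 IH) (Lpe (f208546 IH) (Lpr_ct (f72374 IH) (Lpe (f572900 IH) (Lpe (f186440 IH) (Lpn (LP (LK LD1_c6 LD2_c1 LD3_c33)))))))))))))
theorem f386803 : Led Lsl_ef (LP (LK LD1_c2 LD2_c55 LD3_c50)) = (LP (LK LD1_c5 LD2_c6 LD3_c57)) :=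
  Lgr Lrot29 (Lpr_bt (K38.f386802 IH) (Lpr_et (K36.f386761 IH) (Lpr_bt (K27.f169708 IH) (Lpn (LP (LK LD1_c5 LD2_c6 LD3_c57))))))
theorem f545578 : Led Lsl_ft (LP (LK LD1_c5 LD2_c57 LD3_c54)) = (LP (LK LD1_c6 LD2_c7 LD3_c61)) :=
  Lgr Lrot48 (Lpr_ff (K38.f545571 IH) (Lpn (LP (LK LD1_c6 LD2_c7 LD3_c61))))
theorem f545569 : Led Lsl_af (LP (LK LD1_c10 LD2_c3 LD3_c55)) = (LP (LK LD1_c6 LD2_c7 LD3_c61)) :=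
  Lgr Lrot0 (Lpr_at (K38.f545566 IH) (Lpn (LP (LK LD1_c6 LD2_c7 LD3_c61))))
theorem f545706 : Led Lsl_gt (LP (LK LD1_c5 LD2_c55 LD3_c1)) = (LP (LK LD1_c10 LD2_c3 LD3_c55)) :=
  Lgr Lrot46 (Lpr_gf (K38.f545704 IH) (Lpr_ft (f545578 IH) (Lpe (f545569 IH) (Lpn (LP (LK LD1_c10 LD2_c3 LD3_c55))))))
theorem f579753 : Led Lsl_gt (LP (LK LD1_c6 LD2_c1 LD3_c33)) = (LP (LK LD1_c5 LD2_c50 LD3_c61)) :=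
  Lgr Lrot49 (Lpr_df (f579747 IH) (Lpr_gf (f573409 IH) (Lpe (f380357 IH) (Lpr_gt (K41.f380372 IH) (Lpe (K36.f538942 IH) (Lpe (K38.f544935 IH) (Lpr_dt (K38.f136254 IH) (Lpe (K37.f208541 IH) (Lpe (f208523 IH) (Lpn (LP (LK LD1_c5 LD2_c50 LD3_c61))))))))))))
theorem f426097 : Led Lsl_gt (LP (LK LD1_c2 LD2_c55 LD3_c44)) = (LP (LK LD1_c3 LD2_c4 LD3_c52)) :=
  Lgr Lrot49 (Lpe (K24.f425948 IH) (Lpr_gf (K24.f426091 IH) (Lpe (K6.f8362 IH) (Lpe (K7.f151711 IH) (Lpr_dt (K7.f20372 IH) (Lpr_gt (K11.f151671 IH) (Lpr_dt (K8.f157928 IH) (Lpr_cf (K11.f132484 IH) (Lpe (K8.f112187 IH) (Lpn (LP (LK LD1_c3 LD2_c4 LD3_c52))))))))))))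
theorem f426101 : Led Lsl_gt (LP (LK LD1_c3 LD2_c4 LD3_c53)) = (LP (LK LD1_c6 LD2_c15 LD3_c36)) :=
  Lre_g IH (LK LD1_c3 LD2_c4 LD3_c53) (LK LD1_c6 LD2_c15 LD3_c36) Lrfl Lrfl
theorem f579758 : Led Lsl_ef (LP (LK LD1_c6 LD2_c15 LD3_c36)) = (LP (LK LD1_c11 LD2_c28 LD3_c19)) :=
  Lgr Lrot17 (Lpe (f426101 IH) (Lpe (K38.f117889 IH) (Lpr_dt (K5.f112188 IH) (Lpe (f426097 IH) (Lpe (K24.f425948 IH) (Lpr_gf (K24.f426091 IH) (Lpe (K37.f208577 IH) (Lpr_dt (f208534 IH) (Lpe (f579753 IH) (Lpr_df (f579747 IH) (Lpn (LP (LK LD1_c11 LD2_c28 LD3_c19)))))))))))))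
theorem f579760 : Led Lsl_gf (LP (LK LD1_c4 LD2_c31 LD3_c42)) = (LP (LK LD1_c6 LD2_c15 LD3_c36)) :=
  Lgr Lrot141 (Lpe (K38.f548418 IH) (Lpr_dt (K38.f548422 IH) (Lpr_gt (f545706 IH) (Lpr_df (K27.f169703 IH) (Lpe (f386803 IH) (Lpe (K40.f563177 IH) (Lpr_dt (K38.f181487 IH) (Lpr_gt (f572902 IH) (Lpr_df (f579747 IH) (Lpe (f579758 IH) (Lpn (LP (LK LD1_c6 LD2_c15 LD3_c36)))))))))))))
theorem f579768 : Led Lsl_bt (LP (LK LD1_c5 LD2_c37 LD3_c18)) = (LP (LK LD1_c6 LD2_c15 LD3_c36)) :=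
  Lgr Lrot130 (Lpr_ct (K36.f211955 IH) (Lpe (K27.f211949 IH) (Lpr_cf (K17.f211844 IH) (Lpr_bt (K35.f211956 IH) (Lpr_gf (K12.f211982 IH) (Lpe (K35.f169106 IH) (Lpr_ct (K31.f380261 IH) (Lpe (K35.f169117 IH) (Lpe (K35.f380270 IH) (Lpr_gf (f579760 IH) (Lpn (LP (LK LD1_c6 LD2_c15 LD3_c36)))))))))))))
theorem f579772 : Led Lsl_bf (LP (LK LD1_c5 LD2_c37 LD3_c18)) = (LP (LK LD1_c6 LD2_c15 LD3_c36)) :=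
  Lgr Lrot24 (Lpr_bt (f579768 IH) (Lpn (LP (LK LD1_c6 LD2_c15 LD3_c36))))
theorem f386970 : Led Lsl_gf (LP (LK LD1_c2 LD2_c44 LD3_c46)) = (LP (LK LD1_c4 LD2_c19 LD3_c53)) :=
  Lgr Lrot47 (Lpr_gt (K39.f386969 IH) (Lpe (K36.f383417 IH) (Lpr_ff (K36.f386961 IH) (Lpn (LP (LK LD1_c4 LD2_c19 LD3_c53))))))
theorem f386977 : Led Lsl_bt (LP (LK LD1_c5 LD2_c37 LD3_c38)) = (LP (LK LD1_c2 LD2_c44 LD3_c46)) :=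
  Lre_b IH (LK LD1_c5 LD2_c37 LD3_c38) (LK LD1_c2 LD2_c44 LD3_c46) Lrfl Lrfl
theorem f567247 : Led Lsl_cf (LP (LK LD1_c10 LD2_c16 LD3_c12)) = (LP (LK LD1_c5 LD2_c37 LD3_c38)) :=
  Lgr Lrot160 (Lpr_gt (K41.f567241 IH) (Lpe (K2.f60698 IH) (Lpr_bt (K38.f73120 IH) (Lpe (K36.f542632 IH) (Lpr_ct (K36.f211955 IH) (Lpr_gt (K36.f289380 IH) (Lpe (K28.f289426 IH) (Lpr_bt (K36.f386955 IH) (Lpe (f386970 IH) (Lpe (f386977 IH) (Lpn (LP (LK LD1_c5 LD2_c37 LD3_c38)))))))))))))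
theorem f380279 : Led Lsl_dt (LP (LK LD1_c4 LD2_c31 LD3_c42)) = (LP (LK LD1_c9 LD2_c1 LD3_c21)) :=
  Lre_d IH (LK LD1_c4 LD2_c31 LD3_c42) (LK LD1_c9 LD2_c1 LD3_c21) Lrfl Lrfl
theorem f181467 : Led Lsl_at (LP (LK LD1_c9 LD2_c1 LD3_c41)) = (LP (LK LD1_c4 LD2_c31 LD3_c61)) :=
  Lre_a IH (LK LD1_c9 LD2_c1 LD3_c41) (LK LD1_c4 LD2_c31 LD3_c61) Lrfl Lrfl
theorem f380172 : Led Lsl_af (LP (LK LD1_c11 LD2_c11 LD3_c46)) = (LP (LK LD1_c9 LD2_c1 LD3_c45)) :=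
  Lgr Lrot117 (Lpr_dt (K30.f380170 IH) (Lpr_at (f181467 IH) (Lpr_dt (K30.f181466 IH) (Lpn (LP (LK LD1_c9 LD2_c1 LD3_c45))))))
theorem f380210 : Led Lsl_ft (LP (LK LD1_c5 LD2_c40 LD3_c31)) = (LP (LK LD1_c9 LD2_c1 LD3_c45)) :=
  Lgr Lrot48 (Lpr_ff (K30.f380193 IH) (Lpn (LP (LK LD1_c9 LD2_c1 LD3_c45))))
theorem f423701 : Led Lsl_gf (LP (LK LD1_c11 LD2_c7 LD3_c45)) = (LP (LK LD1_c5 LD2_c40 LD3_c31)) :=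
  Lgr Lrot47 (Lpr_gt (K40.f423277 IH) (Lpr_af (f380172 IH) (Lpe (f380210 IH) (Lpn (LP (LK LD1_c5 LD2_c40 LD3_c31))))))
theorem f381952 : Led Lsl_dt (LP (LK LD1_c5 LD2_c43 LD3_c13)) = (LP (LK LD1_c2 LD2_c47 LD3_c37)) :=
  Lre_d IH (LK LD1_c5 LD2_c43 LD3_c13) (LK LD1_c2 LD2_c47 LD3_c37) Lrfl Lrfl
theorem f561489 : Led Lsl_gf (LP (LK LD1_c5 LD2_c43 LD3_c13)) = (LP (LK LD1_c9 LD2_c1 LD3_c21)) :=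
  Lgr Lrot148 (Lpr_dt (f381952 IH) (Lpr_gt (K30.f382011 IH) (Lpr_dt (K31.f382016 IH) (Lpr_ct (K31.f423204 IH) (Lpe (K31.f423206 IH) (Lpr_gf (f423701 IH) (Lpe (K30.f380168 IH) (Lpe (K40.f226759 IH) (Lpr_ct (K40.f561477 IH) (Lpn (LP (LK LD1_c9 LD2_c1 LD3_c21))))))))))))
theorem f579766 : Led Lsl_cf (LP (LK LD1_c5 LD2_c37 LD3_c55)) = (LP (LK LD1_c6 LD2_c15 LD3_c36)) :=
  Lgr Lrot166 (Lpr_gt (K39.f380298 IH) (Lpr_dt (K40.f422715 IH) (Lpe (K40.f561532 IH) (Lpr_dt (K36.f181475 IH) (Lpr_ct (K31.f381975 IH) (Lpe (f381952 IH) (Lpr_gf (f561489 IH) (Lpe (f380279 IH) (Lpr_gf (f579760 IH) (Lpn (LP (LK LD1_c6 LD2_c15 LD3_c36))))))))))))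
theorem f211936 : Led Lsl_ct (LP (LK LD1_c1 LD2_c18 LD3_c45)) = (LP (LK LD1_c2 LD2_c44 LD3_c52)) :=
  Lre_c IH (LK LD1_c1 LD2_c18 LD3_c45) (LK LD1_c2 LD2_c44 LD3_c52) Lrfl Lrfl
theorem f211887 : Led Lsl_bt (LP (LK LD1_c1 LD2_c18 LD3_c45)) = (LP (LK LD1_c2 LD2_c44 LD3_c51)) :=
  Lre_b IH (LK LD1_c1 LD2_c18 LD3_c45) (LK LD1_c2 LD2_c44 LD3_c51) Lrfl Lrfl
theorem f579791 : Led Lsl_gf (LP (LK LD1_c5 LD2_c37 LD3_c38)) = (LP (LK LD1_c2 LD2_c44 LD3_c51)) :=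
  Lgr Lrot181 (Lpe (f567247 IH) (Lpr_gt (K41.f567241 IH) (Lpe (K2.f60698 IH) (Lpr_bt (K38.f73120 IH) (Lpe (K36.f542632 IH) (Lpr_bf (f579772 IH) (Lpe (f579766 IH) (Lpr_gt (K39.f380298 IH) (Lpe (f211936 IH) (Lpr_bt (f211887 IH) (Lpn (LP (LK LD1_c2 LD2_c44 LD3_c51)))))))))))))
theorem f552384 : Led Lsl_bt (LP (LK LD1_c2 LD2_c44 LD3_c46)) = (LP (LK LD1_c5 LD2_c37 LD3_c38)) :=
  Lre_b IH (LK LD1_c2 LD2_c44 LD3_c46) (LK LD1_c5 LD2_c37 LD3_c38) Lrfl Lrfl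
theorem f552385 : Led Lsl_df (LP (LK LD1_c7 LD2_c59 LD3_c36)) = (LP (LK LD1_c5 LD2_c37 LD3_c38)) :=
  Lgr Lrot12 (Lpr_bt (K39.f40203 IH) (Lpr_dt (K39.f552382 IH) (Lpr_bt (f552384 IH) (Lpn (LP (LK LD1_c5 LD2_c37 LD3_c38))))))
theorem f579795 : Led Lsl_cf (LP (LK LD1_c11 LD2_c15 LD3_c49)) = (LP (LK LD1_c11 LD2_c7 LD3_c5)) :=
  Lgr Lrot166 (Lpr_gt (K40.f280307 IH) (Lpr_dt (K40.f402622 IH) (Lpr_gt (K40.f402621 IH) (Lpe (K40.f561957 IH) (Lpr_ct (K40.f407069 IH) (Lpr_df (f552385 IH) (Lpr_gf (f579791 IH) (Lpe (f211891 IH) (Lpe (K40.f211893 IH) (Lpn (LP (LK LD1_c11 LD2_c7 LD3_c5))))))))))))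
theorem f579809 : Led Lsl_bt (LP (LK LD1_c2 LD2_c47 LD3_c23)) = (LP (LK LD1_c2 LD2_c49 LD3_c16)) :=
  Lgr Lrot130 (Lpr_ct (K36.f280304 IH) (Lpe (K40.f280307 IH) (Lpr_cf (f579795 IH) (Lpr_bt (K41.f561371 IH) (Lpe (K39.f172180 IH) (Lpe (K9.f73127 IH) (Lpr_ct (K17.f73150 IH) (Lpr_gf (K39.f412342 IH) (Lpe (K16.f26950 IH) (Lpe (K10.f175932 IH) (Lpn (LP (LK LD1_c2 LD2_c49 LD3_c16)))))))))))))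
theorem f443838 : Led Lsl_ft (LP (LK LD1_c1 LD2_c20 LD3_c43)) = (LP (LK LD1_c2 LD2_c49 LD3_c10)) :=
  Lre_f IH (LK LD1_c1 LD2_c20 LD3_c43) (LK LD1_c2 LD2_c49 LD3_c10) Lrfl Lrfl
theorem f549651 : Led Lsl_at (LP (LK LD1_c2 LD2_c49 LD3_c10)) = (LP (LK LD1_c2 LD2_c26 LD3_c19)) :=
  Lgr Lrot26 (Lpe (f443838 IH) (Lpr_gt (K38.f60161 IH) (Lpr_gt (K38.f549649 IH) (Lpn (LP (LK LD1_c2 LD2_c26 LD3_c19))))))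
theorem f552599 : Led Lsl_at (LP (LK LD1_c4 LD2_c32 LD3_c13)) = (LP (LK LD1_c2 LD2_c47 LD3_c23)) :=
  Lgr Lrot51 (Lpr_df (K38.f549655 IH) (Lpe (f549651 IH) (Lpr_df (K39.f552594 IH) (Lpn (LP (LK LD1_c2 LD2_c47 LD3_c23))))))
theorem f561711 : Led Lsl_af (LP (LK LD1_c3 LD2_c0 LD3_c18)) = (LP (LK LD1_c4 LD2_c56 LD3_c57)) :=
  Lgr Lrot50 (Lpr_et (K36.f68867 IH) (Lpr_at (K36.f55944 IH) (Lpr_et (K40.f561707 IH) (Lpn (LP (LK LD1_c4 LD2_c56 LD3_c57))))))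
theorem f561722 : Led Lsl_af (LP (LK LD1_c5 LD2_c43 LD3_c22)) = (LP (LK LD1_c5 LD2_c42 LD3_c21)) :=
  Lgr Lrot117 (Lpr_dt (K40.f561720 IH) (Lpe (f561711 IH) (Lpe (K36.f68878 IH) (Lpn (LP (LK LD1_c5 LD2_c42 LD3_c21))))))
theorem f579811 : Led Lsl_bf (LP (LK LD1_c4 LD2_c32 LD3_c13)) = (LP (LK LD1_c5 LD2_c43 LD3_c22)) :=
  Lgr Lrot81 (Lpr_at (f552599 IH) (Lpr_bt (f579809 IH) (Lpe (K36.f68796 IH) (Lpr_bt (K40.f68811 IH) (Lpe (f561722 IH) (Lpn (LP (LK LD1_c5 LD2_c43 LD3_c22))))))))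
theorem f226756 : Led Lsl_bt (LP (LK LD1_c1 LD2_c19 LD3_c29)) = (LP (LK LD1_c2 LD2_c46 LD3_c14)) :=
  Lre_b IH (LK LD1_c1 LD2_c19 LD3_c29) (LK LD1_c2 LD2_c46 LD3_c14) Lrfl Lrfl
theorem f558314 : Led Lsl_dt (LP (LK LD1_c4 LD2_c57 LD3_c13)) = (LP (LK LD1_c2 LD2_c26 LD3_c32)) :=
  Lre_d IH (LK LD1_c4 LD2_c57 LD3_c13) (LK LD1_c2 LD2_c26 LD3_c32) Lrfl Lrfl
theorem f563767 : Led Lsl_gt (LP (LK LD1_c2 LD2_c46 LD3_c14)) = (LP (LK LD1_c4 LD2_c57 LD3_c13)) :=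
  Lgr Lrot49 (Lpr_df (K20.f289442 IH) (Lpe (K28.f211953 IH) (Lpr_cf (K40.f563763 IH) (Lpr_gt (K40.f73151 IH) (Lpr_dt (K37.f80035 IH) (Lpr_gt (K39.f172180 IH) (Lpr_dt (K40.f558316 IH) (Lpe (K41.f557355 IH) (Lpe (f558314 IH) (Lpn (LP (LK LD1_c4 LD2_c57 LD3_c13))))))))))))
theorem f579826 : Led Lsl_ct (LP (LK LD1_c4 LD2_c57 LD3_c13)) = (LP (LK LD1_c9 LD2_c45 LD3_c29)) :=
  Lre_c IH (LK LD1_c4 LD2_c57 LD3_c13) (LK LD1_c9 LD2_c45 LD3_c29) Lrfl Lrfl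
theorem f579827 : Led Lsl_gt (LP (LK LD1_c9 LD2_c45 LD3_c29)) = (LP (LK LD1_c11 LD2_c16 LD3_c48)) :=
  Lgr Lrot149 (Lpe (f579826 IH) (Lpe (f563767 IH) (Lpe (f226756 IH) (Lpr_ct (K12.f226736 IH) (Lpr_gf (K17.f238315 IH) (Lpr_cf (K12.f173400 IH) (Lpr_bt (K20.f174453 IH) (Lpe (K38.f174454 IH) (Lpr_bf (f579811 IH) (Lpr_ct (K40.f382103 IH) (Lpn (LP (LK LD1_c11 LD2_c16 LD3_c48)))))))))))))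
theorem f579831 : Led Lsl_ft (LP (LK LD1_c9 LD2_c45 LD3_c29)) = (LP (LK LD1_c4 LD2_c57 LD3_c11)) :=
  Lre_f IH (LK LD1_c9 LD2_c45 LD3_c29) (LK LD1_c4 LD2_c57 LD3_c11) Lrfl Lrfl
theorem f579832 : Led Lsl_at (LP (LK LD1_c4 LD2_c57 LD3_c11)) = (LP (LK LD1_c9 LD2_c45 LD3_c13)) :=
  Lre_a IH (LK LD1_c4 LD2_c57 LD3_c11) (LK LD1_c9 LD2_c45 LD3_c13) Lrfl Lrfl
theorem f579833 : Led Lsl_gf (LP (LK LD1_c9 LD2_c45 LD3_c13)) = (LP (LK LD1_c11 LD2_c16 LD3_c48)) :=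
  Lgr Lrot76 (Lpe (f579832 IH) (Lpe (f579831 IH) (Lpr_gt (f579827 IH) (Lpn (LP (LK LD1_c11 LD2_c16 LD3_c48))))))
theorem f558323 : Led Lsl_ct (LP (LK LD1_c9 LD2_c45 LD3_c13)) = (LP (LK LD1_c4 LD2_c57 LD3_c3)) :=
  Lre_c IH (LK LD1_c9 LD2_c45 LD3_c13) (LK LD1_c4 LD2_c57 LD3_c3) Lrfl Lrfl
theorem f558327 : Led Lsl_dt (LP (LK LD1_c4 LD2_c57 LD3_c3)) = (LP (LK LD1_c2 LD2_c26 LD3_c28)) :=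
  Lre_d IH (LK LD1_c4 LD2_c57 LD3_c3) (LK LD1_c2 LD2_c26 LD3_c28) Lrfl Lrfl
theorem f381754 : Led Lsl_at (LP (LK LD1_c2 LD2_c47 LD3_c39)) = (LP (LK LD1_c2 LD2_c47 LD3_c43)) :=
  Lgr Lrot100 (Lpr_af (K27.f381752 IH) (Lpn (LP (LK LD1_c2 LD2_c47 LD3_c43))))
theorem f381485 : Led Lsl_dt (LP (LK LD1_c1 LD2_c20 LD3_c13)) = (LP (LK LD1_c2 LD2_c47 LD3_c54)) :=
  Lre_d IH (LK LD1_c1 LD2_c20 LD3_c13) (LK LD1_c2 LD2_c47 LD3_c54) Lrfl Lrfl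
theorem f381726 : Led Lsl_ff (LP (LK LD1_c2 LD2_c47 LD3_c39)) = (LP (LK LD1_c2 LD2_c47 LD3_c54)) :=
  Lgr Lrot19 (Lpr_dt (K27.f381455 IH) (Lpr_ft (K27.f381716 IH) (Lpr_dt (f381485 IH) (Lpn (LP (LK LD1_c2 LD2_c47 LD3_c54))))))
theorem f382101 : Led Lsl_gt (LP (LK LD1_c2 LD2_c47 LD3_c54)) = (LP (LK LD1_c5 LD2_c43 LD3_c22)) :=
  Lgr Lrot5 (Lpe (f381726 IH) (Lpr_at (f381754 IH) (Lpe (K40.f381128 IH) (Lpn (LP (LK LD1_c5 LD2_c43 LD3_c22))))))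

end

end K43

end

end Cfsg.Agent.Helper28.S1692
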