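import Cfsg.Agent.Lib.Helper28.S1692.Seeds43

set_option autoImplicit false
set_option maxRecDepth 100000
set_option linter.all false

namespace Cfsg.Agent.Helper28.S1692

open Cfsg.Agent.Helper28
open Cfsg.Spor.ON (Gen)

noncomputable section

namespace K44
abbrev LD1_c0 := D1.c0
abbrev LD1_c1 := D1.c1
abbrev LD1_c2 := D1.c2
abbrev LD1_c3 := D1.c3
abbrev LD1_c4 := D1.c4
abbrev LD1_c5 := D1.c5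
abbrev LD1_c6 := D1.c6
abbrev LD1_c7 := D1.c7
abbrev LD1_c8 := D1.c8
abbrev LD1_c9 := D1.c9
abbrev LD1_c10 := D1.c10
abbrev LD1_c11 := D1.c11
abbrev LD1_c12 := D1.c12
abbrev LD1_c13 := D1.c13
abbrev LD1_c14 := D1.c14
abbrev LD1_c15 := D1.c15
abbrev LD1_c16 := D1.c16
abbrev LD1_c17 := D1.c17
abbrev LD1_c18 := D1.c18
abbrev LD1_c19 := D1.c19
abbrev LD1_c20 := D1.c20
abbrev LD1_c21 := D1.c21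
abbrev LD1_c22 := D1.c22
abbrev LD1_c23 := D1.c23
abbrev LD1_c24 := D1.c24
abbrev LD1_c25 := D1.c25
abbrev LD1_c26 := D1.c26
abbrev LD1_c27 := D1.c27
abbrev LD1_c28 := D1.c28
abbrev LD1_c29 := D1.c29
abbrev LD1_c30 := D1.c30
abbrev LD1_c31 := D1.c31
abbrev LD1_c32 := D1.c32
abbrev LD2_c0 := D2.c0
abbrev LD2_c1 := D2.c1
abbrev LD2_c2 := D2.c2
abbrev LD2_c3 := D2.c3
abbrev LD2_c4 := D2.c4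
abbrev LD2_c5 := D2.c5
abbrev LD2_c6 := D2.c6
abbrev LD2_c7 := D2.c7
abbrev LD2_c8 := D2.c8
abbrev LD2_c9 := D2.c9
abbrev LD2_c10 := D2.c10
abbrev LD2_c11 := D2.c11
abbrev LD2_c12 := D2.c12
abbrev LD2_c13 := D2.c13
abbrev LD2_c14 := D2.c14
abbrev LD2_c15 := D2.c15
abbrev LD2_c16 := D2.c16
abbrev LD2_c17 := D2.c17
abbrev LD2_c18 := D2.c18
abbrev LD2_c19 := D2.c19
abbrev LD2_c20 := D2.c20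
abbrev LD2_c21 := D2.c21
abbrev LD2_c22 := D2.c22
abbrev LD2_c23 := D2.c23
abbrev LD2_c24 := D2.c24
abbrev LD2_c25 := D2.c25
abbrev LD2_c26 := D2.c26
abbrev LD2_c27 := D2.c27
abbrev LD2_c28 := D2.c28
abbrev LD2_c29 := D2.c29
abbrev LD2_c30 := D2.c30
abbrev LD2_c31 := D2.c31
abbrev LD2_c32 := D2.c32
abbrev LD2_c33 := D2.c33
abbrev LD2_c34 := D2.c34
abbrev LD2_c35 := D2.c35
abbrev LD2_c36 := D2.c36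
abbrev LD2_c37 := D2.c37
abbrev LD2_c38 := D2.c38
abbrev LD2_c39 := D2.c39
abbrev LD2_c40 := D2.c40
abbrev LD2_c41 := D2.c41
abbrev LD2_c42 := D2.c42
abbrev LD2_c43 := D2.c43
abbrev LD2_c44 := D2.c44
abbrev LD2_c45 := D2.c45
abbrev LD2_c46 := D2.c46
abbrev LD2_c47 := D2.c47
abbrev LD2_c48 := D2.c48
abbrev LD2_c49 := D2.c49
abbrev LD2_c50 := D2.c50
abbrev LD2_c51 := D2.c51
abbrev LD2_c52 := D2.c52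
abbrev LD2_c53 := D2.c53
abbrev LD2_c54 := D2.c54
abbrev LD2_c55 := D2.c55
abbrev LD2_c56 := D2.c56
abbrev LD2_c57 := D2.c57
abbrev LD2_c58 := D2.c58
abbrev LD2_c59 := D2.c59
abbrev LD3_c0 := D3.c0
abbrev LD3_c1 := D3.c1
abbrev LD3_c2 := D3.c2
abbrev LD3_c3 := D3.c3
abbrev LD3_c4 := D3.c4
abbrev LD3_c5 := D3.c5
abbrev LD3_c6 := D3.c6
abbrev LD3_c7 := D3.c7
abbrev LD3_c8 := D3.c8
abbrev LD3_c9 := D3.c9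
abbrev LD3_c10 := D3.c10
abbrev LD3_c11 := D3.c11
abbrev LD3_c12 := D3.c12
abbrev LD3_c13 := D3.c13
abbrev LD3_c14 := D3.c14
abbrev LD3_c15 := D3.c15
abbrev LD3_c16 := D3.c16
abbrev LD3_c17 := D3.c17
abbrev LD3_c18 := D3.c18
abbrev LD3_c19 := D3.c19
abbrev LD3_c20 := D3.c20
abbrev LD3_c21 := D3.c21
abbrev LD3_c22 := D3.c22
abbrev LD3_c23 := D3.c23
abbrev LD3_c24 := D3.c24
abbrev LD3_c25 := D3.c25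
abbrev LD3_c26 := D3.c26
abbrev LD3_c27 := D3.c27
abbrev LD3_c28 := D3.c28
abbrev LD3_c29 := D3.c29
abbrev LD3_c30 := D3.c30
abbrev LD3_c31 := D3.c31
abbrev LD3_c32 := D3.c32
abbrev LD3_c33 := D3.c33
abbrev LD3_c34 := D3.c34
abbrev LD3_c35 := D3.c35
abbrev LD3_c36 := D3.c36
abbrev LD3_c37 := D3.c37
abbrev LD3_c38 := D3.c38
abbrev LD3_c39 := D3.c39
abbrev LD3_c40 := D3.c40
abbrev LD3_c41 := D3.c41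
abbrev LD3_c42 := D3.c42
abbrev LD3_c43 := D3.c43
abbrev LD3_c44 := D3.c44
abbrev LD3_c45 := D3.c45
abbrev LD3_c46 := D3.c46
abbrev LD3_c47 := D3.c47
abbrev LD3_c48 := D3.c48
abbrev LD3_c49 := D3.c49
abbrev LD3_c50 := D3.c50
abbrev LD3_c51 := D3.c51
abbrev LD3_c52 := D3.c52
abbrev LD3_c53 := D3.c53
abbrev LD3_c54 := D3.c54
abbrev LD3_c55 := D3.c55
abbrev LD3_c56 := D3.c56
abbrev LD3_c57 := D3.c57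
abbrev LD3_c58 := D3.c58
abbrev LD3_c59 := D3.c59
abbrev LD3_c60 := D3.c60
abbrev LD3_c61 := D3.c61
abbrev LG_g := Gen.g
abbrev Lsl_gt : Gen × Bool := sl_gt
alias Lfl_gt := fl_gt
alias Lpr_gt := pr_gt
abbrev Lsl_gf : Gen × Bool := sl_gf
alias Lfl_gf := fl_gf
alias Lpr_gf := pr_gf
alias Lre_g := re_g
alias Leoe_g := eoe_g
abbrev LG_a := Gen.a
abbrev Lsl_at : Gen × Bool := sl_at
alias Lfl_at := fl_at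
alias Lpr_at := pr_at
abbrev Lsl_af : Gen × Bool := sl_af
alias Lfl_af := fl_af
alias Lpr_af := pr_af
alias Lre_a := re_a
alias Leoe_a := eoe_a
abbrev LG_b := Gen.b
abbrev Lsl_bt : Gen × Bool := sl_bt
alias Lfl_bt := fl_bt
alias Lpr_bt := pr_bt
abbrev Lsl_bf : Gen × Bool := sl_bf
alias Lfl_bf := fl_bf
alias Lpr_bf := pr_bf
alias Lre_b := re_b
alias Leoe_b := eoe_b
abbrev LG_c := Gen.c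
abbrev Lsl_ct : Gen × Bool := sl_ct
alias Lfl_ct := fl_ct
alias Lpr_ct := pr_ct
abbrev Lsl_cf : Gen × Bool := sl_cf
alias Lfl_cf := fl_cf
alias Lpr_cf := pr_cf
alias Lre_c := re_c
alias Leoe_c := eoe_c
abbrev LG_d := Gen.d
abbrev Lsl_dt : Gen × Bool := sl_dt
alias Lfl_dt := fl_dt
alias Lpr_dt := pr_dt
abbrev Lsl_df : Gen × Bool := sl_df
alias Lfl_df := fl_df
alias Lpr_df := pr_df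
alias Lre_d := re_d
alias Leoe_d := eoe_d
abbrev LG_e := Gen.e
abbrev Lsl_et : Gen × Bool := sl_et
alias Lfl_et := fl_et
alias Lpr_et := pr_et
abbrev Lsl_ef : Gen × Bool := sl_ef
alias Lfl_ef := fl_ef
alias Lpr_ef := pr_ef
alias Lre_e := re_e
alias Leoe_e := eoe_e
abbrev LG_f := Gen.f
abbrev Lsl_ft : Gen × Bool := sl_ft
alias Lfl_ft := fl_ft
alias Lpr_ft := pr_ft
abbrev Lsl_ff : Gen × Bool := sl_ff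
alias Lfl_ff := fl_ff
alias Lpr_ff := pr_ff
alias Lre_f := re_f
alias Leoe_f := eoe_f
abbrev LK := Pt.mk
abbrev LQ : Type := Qt rels S
abbrev LP (p : Pt) : LQ := P p
abbrev Led (l : Gen × Bool) (c : LQ) : LQ := ed l c
abbrev LEOK (x : Gen) (p : Pt) : Prop := EntryOK rels S fwd inv o plet idx x p
alias Lpe := pe
alias Lpn := pn
alias Lgr := gr
alias Lpq := pq
alias Lpqs := pqs
alias Llr := lr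
alias Leop := eop
alias Lefun := efun
alias Lecon := econ
theorem Lrfl {α : Sort _} {a : α} : a = a := rfl
alias Lrot0 := rot0
alias Lrot1 := rot1
alias Lrot2 := rot2
alias Lrot3 := rot3
alias Lrot4 := rot4
alias Lrot5 := rot5
alias Lrot6 := rot6
alias Lrot7 := rot7
alias Lrot8 := rot8
alias Lrot9 := rot9
alias Lrot10 := rot10
alias Lrot11 := rot11
alias Lrot12 := rot12
alias Lrot13 := rot13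
alias Lrot14 := rot14
alias Lrot15 := rot15
alias Lrot17 := rot17
alias Lrot18 := rot18
alias Lrot19 := rot19
alias Lrot20 := rot20
alias Lrot21 := rot21
alias Lrot22 := rot22
alias Lrot23 := rot23
alias Lrot24 := rot24
alias Lrot25 := rot25
alias Lrot26 := rot26
alias Lrot27 := rot27
alias Lrot28 := rot28
alias Lrot29 := rot29
alias Lrot30 := rot30
alias Lrot31 := rot31
alias Lrot32 := rot32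
alias Lrot34 := rot34
alias Lrot35 := rot35
alias Lrot36 := rot36
alias Lrot38 := rot38
alias Lrot39 := rot39
alias Lrot40 := rot40
alias Lrot41 := rot41
alias Lrot42 := rot42
alias Lrot43 := rot43
alias Lrot44 := rot44
alias Lrot45 := rot45
alias Lrot46 := rot46
alias Lrot47 := rot47
alias Lrot48 := rot48
alias Lrot49 := rot49
alias Lrot50 := rot50
alias Lrot51 := rot51
alias Lrot52 := rot52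
alias Lrot53 := rot53
alias Lrot54 := rot54
alias Lrot55 := rot55
alias Lrot57 := rot57
alias Lrot58 := rot58
alias Lrot59 := rot59
alias Lrot60 := rot60
alias Lrot61 := rot61
alias Lrot62 := rot62
alias Lrot63 := rot63
alias Lrot64 := rot64
alias Lrot65 := rot65
alias Lrot66 := rot66
alias Lrot67 := rot67
alias Lrot68 := rot68
alias Lrot69 := rot69
alias Lrot70 := rot70
alias Lrot71 := rot71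
alias Lrot72 := rot72
alias Lrot73 := rot73
alias Lrot74 := rot74
alias Lrot75 := rot75
alias Lrot76 := rot76
alias Lrot77 := rot77
alias Lrot78 := rot78
alias Lrot79 := rot79
alias Lrot80 := rot80
alias Lrot81 := rot81
alias Lrot82 := rot82
alias Lrot83 := rot83
alias Lrot84 := rot84
alias Lrot85 := rot85
alias Lrot86 := rot86
alias Lrot87 := rot87
alias Lrot88 := rot88
alias Lrot89 := rot89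
alias Lrot90 := rot90
alias Lrot91 := rot91
alias Lrot92 := rot92
alias Lrot93 := rot93
alias Lrot94 := rot94
alias Lrot95 := rot95
alias Lrot96 := rot96
alias Lrot97 := rot97
alias Lrot99 := rot99
alias Lrot100 := rot100
alias Lrot101 := rot101
alias Lrot102 := rot102
alias Lrot103 := rot103
alias Lrot104 := rot104
alias Lrot105 := rot105
alias Lrot106 := rot106
alias Lrot107 := rot107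
alias Lrot108 := rot108
alias Lrot109 := rot109
alias Lrot110 := rot110
alias Lrot111 := rot111
alias Lrot112 := rot112
alias Lrot114 := rot114
alias Lrot116 := rot116
alias Lrot117 := rot117
alias Lrot118 := rot118
alias Lrot119 := rot119
alias Lrot120 := rot120
alias Lrot121 := rot121
alias Lrot122 := rot122
alias Lrot123 := rot123
alias Lrot124 := rot124
alias Lrot125 := rot125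
alias Lrot126 := rot126
alias Lrot127 := rot127
alias Lrot128 := rot128
alias Lrot129 := rot129
alias Lrot130 := rot130
alias Lrot131 := rot131
alias Lrot134 := rot134
alias Lrot135 := rot135
alias Lrot136 := rot136
alias Lrot137 := rot137
alias Lrot138 := rot138
alias Lrot139 := rot139
alias Lrot140 := rot140
alias Lrot141 := rot141
alias Lrot142 := rot142
alias Lrot143 := rot143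
alias Lrot144 := rot144
alias Lrot145 := rot145
alias Lrot146 := rot146
alias Lrot147 := rot147
alias Lrot148 := rot148
alias Lrot149 := rot149
alias Lrot150 := rot150
alias Lrot151 := rot151
alias Lrot152 := rot152
alias Lrot153 := rot153
alias Lrot154 := rot154
alias Lrot155 := rot155
alias Lrot156 := rot156
alias Lrot157 := rot157
alias Lrot158 := rot158
alias Lrot159 := rot159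
alias Lrot160 := rot160
alias Lrot162 := rot162
alias Lrot163 := rot163
alias Lrot164 := rot164
alias Lrot165 := rot165
alias Lrot166 := rot166
alias Lrot169 := rot169
alias Lrot170 := rot170
alias Lrot171 := rot171
alias Lrot172 := rot172
alias Lrot174 := rot174
alias Lrot175 := rot175
alias Lrot176 := rot176
alias Lrot177 := rot177
alias Lrot178 := rot178
alias Lrot179 := rot179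
alias Lrot180 := rot180
alias Lrot181 := rot181
alias Lrot182 := rot182
alias Lrot183 := rot183
alias Lrot184 := rot184
alias Lrot187 := rot187
alias Lrot188 := rot188
alias Lrot189 := rot189
alias Lrot190 := rot190
alias Lrot191 := rot191

section
variable (IH : IHT)
include IH

theorem f579844 : (LP (LK LD1_c2 LD2_c26 LD3_c28)) = K35.v1383 :=
  (Llr Lrot27 (Lpe (K43.f558327 IH) (Lpe (K43.f558323 IH) (Lpr_gf (K43.f579833 IH) (Lpe (K40.f382103 IH) (Lpe (K43.f382101 IH) (Lpe (K43.f381485 IH) (Lpr_gt (K36.f381788 IH) (Lpr_ct (K36.f381791 IH) (Lpr_gt (K37.f424029 IH) (Lpr_ct (K35.f495249 IH) (Lpn K35.v1383)))))))))))).symm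
theorem f579856 : Led Lsl_ff (LP (LK LD1_c2 LD2_c26 LD3_c34)) = (LP (LK LD1_c3 LD2_c58 LD3_c58)) :=
  Lgr Lrot23 (Lpr_ct (K36.f172454 IH) (Lpr_ft (K42.f383920 IH) (Lpqs (f579844 IH) (Lpe (K35.f495250 IH) (Lpn (LP (LK LD1_c3 LD2_c58 LD3_c58)))))))
theorem f557354 : Led Lsl_at (LP (LK LD1_c2 LD2_c26 LD3_c34)) = (LP (LK LD1_c4 LD2_c57 LD3_c9)) :=
  Lre_a IH (LK LD1_c2 LD2_c26 LD3_c34) (LK LD1_c4 LD2_c57 LD3_c9) Lrfl Lrfl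
theorem f558315 : Led Lsl_ct (LP (LK LD1_c9 LD2_c45 LD3_c29)) = (LP (LK LD1_c4 LD2_c57 LD3_c13)) :=
  Lre_c IH (LK LD1_c9 LD2_c45 LD3_c29) (LK LD1_c4 LD2_c57 LD3_c13) Lrfl Lrfl
theorem f270622 : Led Lsl_cf (LP (LK LD1_c15 LD2_c45 LD3_c51)) = (LP (LK LD1_c11 LD2_c18 LD3_c12)) :=
  Lgr Lrot11 (Lpr_ct (K20.f270619 IH) (Lpn (LP (LK LD1_c11 LD2_c18 LD3_c12))))
theorem f579863 : Led Lsl_df (LP (LK LD1_c9 LD2_c45 LD3_c29)) = (LP (LK LD1_c15 LD2_c45 LD3_c51)) :=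
  Lgr Lrot13 (Lpr_ct (f558315 IH) (Lpr_dt (K43.f558314 IH) (Lpr_ct (K41.f557355 IH) (Lpe (f557354 IH) (Lpr_ff (f579856 IH) (Lpe (K37.f542151 IH) (Lpr_ct (K40.f542636 IH) (Lpe (K39.f382459 IH) (Lpe (f270622 IH) (Lpn (LP (LK LD1_c15 LD2_c45 LD3_c51))))))))))))
theorem f558321 : Led Lsl_ft (LP (LK LD1_c4 LD2_c57 LD3_c13)) = (LP (LK LD1_c2 LD2_c26 LD3_c31)) :=
  Lre_f IH (LK LD1_c4 LD2_c57 LD3_c13) (LK LD1_c2 LD2_c26 LD3_c31) Lrfl Lrfl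
theorem f558322 : Led Lsl_at (LP (LK LD1_c2 LD2_c26 LD3_c31)) = (LP (LK LD1_c4 LD2_c57 LD3_c3)) :=
  Lre_a IH (LK LD1_c2 LD2_c26 LD3_c31) (LK LD1_c4 LD2_c57 LD3_c3) Lrfl Lrfl
theorem f558324 : Led Lsl_dt (LP (LK LD1_c17 LD2_c54 LD3_c52)) = (LP (LK LD1_c9 LD2_c45 LD3_c13)) :=
  Lre_d IH (LK LD1_c17 LD2_c54 LD3_c52) (LK LD1_c9 LD2_c45 LD3_c13) Lrfl Lrfl
theorem f558325 : Led Lsl_ct (LP (LK LD1_c11 LD2_c18 LD3_c13)) = (LP (LK LD1_c17 LD2_c54 LD3_c52)) :=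
  Lgr Lrot53 (Lpr_df (K39.f382455 IH) (Lpe (K39.f552449 IH) (Lpr_df (K40.f558310 IH) (Lpe (K41.f557355 IH) (Lpe (K43.f558314 IH) (Lpr_ft (f558321 IH) (Lpr_at (f558322 IH) (Lpe (K43.f558323 IH) (Lpe (f558324 IH) (Lpn (LP (LK LD1_c17 LD2_c54 LD3_c52))))))))))))
theorem f318760 : Led Lsl_at (LP (LK LD1_c9 LD2_c45 LD3_c27)) = (LP (LK LD1_c17 LD2_c54 LD3_c52)) :=
  Lre_a IH (LK LD1_c9 LD2_c45 LD3_c27) (LK LD1_c17 LD2_c54 LD3_c52) Lrfl Lrfl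
theorem f579876 : Led Lsl_ff (LP (LK LD1_c9 LD2_c45 LD3_c27)) = (LP (LK LD1_c15 LD2_c45 LD3_c51)) :=
  Lgr Lrot103 (Lpr_at (f318760 IH) (Lpe (f558325 IH) (Lpr_df (K39.f382455 IH) (Lpe (K39.f552449 IH) (Lpr_df (K40.f558310 IH) (Lpe (K41.f557355 IH) (Lpe (K43.f558314 IH) (Lpe (f558315 IH) (Lpr_df (f579863 IH) (Lpn (LP (LK LD1_c15 LD2_c45 LD3_c51))))))))))))
theorem f318732 : Led Lsl_ct (LP (LK LD1_c9 LD2_c45 LD3_c27)) = (LP (LK LD1_c5 LD2_c44 LD3_c43)) :=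
  Lre_c IH (LK LD1_c9 LD2_c45 LD3_c27) (LK LD1_c5 LD2_c44 LD3_c43) Lrfl Lrfl
theorem f579880 : Led Lsl_ft (LP (LK LD1_c5 LD2_c44 LD3_c43)) = (LP (LK LD1_c11 LD2_c18 LD3_c12)) :=
  Lgr Lrot4 (Lpe (f318732 IH) (Lpr_ff (f579876 IH) (Lpr_cf (f270622 IH) (Lpn (LP (LK LD1_c11 LD2_c18 LD3_c12))))))
theorem f172562 : Led Lsl_gt (LP (LK LD1_c5 LD2_c44 LD3_c43)) = (LP (LK LD1_c2 LD2_c48 LD3_c12)) :=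
  Lre_g IH (LK LD1_c5 LD2_c44 LD3_c43) (LK LD1_c2 LD2_c48 LD3_c12) Lrfl Lrfl
theorem f579888 : Led Lsl_af (LP (LK LD1_c5 LD2_c44 LD3_c42)) = (LP (LK LD1_c11 LD2_c18 LD3_c12)) :=
  Lgr Lrot31 (Lpe (K39.f383855 IH) (Lpe (f172562 IH) (Lpr_ft (f579880 IH) (Lpn (LP (LK LD1_c11 LD2_c18 LD3_c12))))))
theorem f383899 : Led Lsl_df (LP (LK LD1_c9 LD2_c45 LD3_c20)) = (LP (LK LD1_c5 LD2_c44 LD3_c42)) :=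
  Lgr Lrot38 (Lpr_dt (K39.f383873 IH) (Lpn (LP (LK LD1_c5 LD2_c44 LD3_c42))))
theorem f579892 : Led Lsl_at (LP (LK LD1_c9 LD2_c45 LD3_c20)) = (LP (LK LD1_c11 LD2_c6 LD3_c27)) :=
  Lgr Lrot51 (Lpr_df (f383899 IH) (Lpr_af (f579888 IH) (Lpr_df (K39.f382459 IH) (Lpn (LP (LK LD1_c11 LD2_c6 LD3_c27))))))
theorem f579900 : Led Lsl_ff (LP (LK LD1_c9 LD2_c45 LD3_c20)) = (LP (LK LD1_c11 LD2_c6 LD3_c26)) :=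
  Lgr Lrot52 (Lpr_at (f579892 IH) (Lpr_gf (K39.f381244 IH) (Lpe (K39.f386625 IH) (Lpn (LP (LK LD1_c11 LD2_c6 LD3_c26))))))
theorem f579908 : Led Lsl_ft (LP (LK LD1_c9 LD2_c45 LD3_c20)) = (LP (LK LD1_c11 LD2_c6 LD3_c26)) :=
  Lgr Lrot48 (Lpr_ff (f579900 IH) (Lpn (LP (LK LD1_c11 LD2_c6 LD3_c26))))
theorem f579914 : Led Lsl_af (LP (LK LD1_c9 LD2_c45 LD3_c38)) = (LP (LK LD1_c11 LD2_c6 LD3_c26)) :=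
  Lgr Lrot31 (Lpe (K35.f318749 IH) (Lpe (K39.f383904 IH) (Lpr_ft (f579908 IH) (Lpn (LP (LK LD1_c11 LD2_c6 LD3_c26))))))
theorem f579894 : Led Lsl_af (LP (LK LD1_c9 LD2_c45 LD3_c20)) = (LP (LK LD1_c11 LD2_c6 LD3_c27)) :=
  Lgr Lrot0 (Lpr_at (f579892 IH) (Lpn (LP (LK LD1_c11 LD2_c6 LD3_c27))))
theorem f579920 : Led Lsl_ft (LP (LK LD1_c9 LD2_c45 LD3_c38)) = (LP (LK LD1_c11 LD2_c6 LD3_c27)) :=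
  Lgr Lrot101 (Lpr_af (f579914 IH) (Lpe (f579908 IH) (Lpr_af (f579894 IH) (Lpn (LP (LK LD1_c11 LD2_c6 LD3_c27))))))
theorem f542186 : Led Lsl_cf (LP (LK LD1_c5 LD2_c47 LD3_c11)) = (LP (LK LD1_c11 LD2_c6 LD3_c27)) :=
  Lgr Lrot99 (Lpr_df (K37.f542151 IH) (Lpr_cf (K35.f495250 IH) (Lpe (K35.f495247 IH) (Lpe (K1.f40115 IH) (Lpe (K27.f381676 IH) (Lpe (K27.f381642 IH) (Lpr_gt (K27.f382453 IH) (Lpr_ct (K36.f302419 IH) (Lpe (K39.f381244 IH) (Lpn (LP (LK LD1_c11 LD2_c6 LD3_c27))))))))))))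
theorem f579922 : Led Lsl_ff (LP (LK LD1_c4 LD2_c57 LD3_c20)) = (LP (LK LD1_c5 LD2_c47 LD3_c11)) :=
  Lgr Lrot23 (Lpr_ct (K35.f381217 IH) (Lpr_ft (f579920 IH) (Lpe (f542186 IH) (Lpn (LP (LK LD1_c5 LD2_c47 LD3_c11))))))
theorem f318942 : Led Lsl_ct (LP (LK LD1_c9 LD2_c45 LD3_c38)) = (LP (LK LD1_c4 LD2_c57 LD3_c20)) :=
  Lre_c IH (LK LD1_c9 LD2_c45 LD3_c38) (LK LD1_c4 LD2_c57 LD3_c20) Lrfl Lrfl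
theorem f579916 : Led Lsl_at (LP (LK LD1_c4 LD2_c57 LD3_c20)) = (LP (LK LD1_c5 LD2_c47 LD3_c10)) :=
  Lgr Lrot107 (Lpe (f318942 IH) (Lpr_af (f579914 IH) (Lpe (K39.f552449 IH) (Lpn (LP (LK LD1_c5 LD2_c47 LD3_c10))))))
theorem f558319 : Led Lsl_ft (LP (LK LD1_c5 LD2_c47 LD3_c10)) = (LP (LK LD1_c4 LD2_c57 LD3_c8)) :=
  Lgr Lrot54 (Lpr_df (K40.f558310 IH) (Lpe (K40.f383883 IH) (Lpe (K39.f172498 IH) (Lpn (LP (LK LD1_c4 LD2_c57 LD3_c8))))))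
theorem f579924 : Led Lsl_at (LP (LK LD1_c4 LD2_c57 LD3_c8)) = (LP (LK LD1_c5 LD2_c47 LD3_c11)) :=
  Lgr Lrot66 (Lpe (f558319 IH) (Lpe (f579916 IH) (Lpr_ff (f579922 IH) (Lpn (LP (LK LD1_c5 LD2_c47 LD3_c11))))))
theorem f557343 : Led Lsl_bt (LP (LK LD1_c9 LD2_c45 LD3_c18)) = (LP (LK LD1_c4 LD2_c57 LD3_c8)) :=
  Lgr Lrot127 (Lpr_bf (K39.f557338 IH) (Lpn (LP (LK LD1_c4 LD2_c57 LD3_c8))))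
theorem f566676 : Led Lsl_af (LP (LK LD1_c7 LD2_c59 LD3_c9)) = (LP (LK LD1_c4 LD2_c57 LD3_c6)) :=
  Lgr Lrot45 (Lpr_ft (K43.f566675 IH) (Lpr_at (K43.f566674 IH) (Lpr_ft (K41.f566672 IH) (Lpn (LP (LK LD1_c4 LD2_c57 LD3_c6))))))
theorem f579324 : Led Lsl_af (LP (LK LD1_c9 LD2_c45 LD3_c18)) = (LP (LK LD1_c11 LD2_c6 LD3_c55)) :=
  Lgr Lrot117 (Lpr_dt (K39.f495245 IH) (Lpe (f566676 IH) (Lpr_dt (K43.f579322 IH) (Lpn (LP (LK LD1_c11 LD2_c6 LD3_c55))))))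
theorem f402601 : Led Lsl_bt (LP (LK LD1_c5 LD2_c37 LD3_c45)) = (LP (LK LD1_c11 LD2_c6 LD3_c55)) :=
  Lre_b IH (LK LD1_c5 LD2_c37 LD3_c45) (LK LD1_c11 LD2_c6 LD3_c55) Lrfl Lrfl
theorem f542179 : Led Lsl_bt (LP (LK LD1_c5 LD2_c47 LD3_c11)) = (LP (LK LD1_c3 LD2_c58 LD3_c60)) :=
  Lgr Lrot95 (Lpr_df (K37.f542151 IH) (Lpe (K35.f174558 IH) (Lpe (K40.f181363 IH) (Lpn (LP (LK LD1_c3 LD2_c58 LD3_c60))))))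
theorem f580138 : Led Lsl_af (LP (LK LD1_c5 LD2_c37 LD3_c45)) = (LP (LK LD1_c3 LD2_c58 LD3_c60)) :=
  Lgr Lrot36 (Lpr_bt (f402601 IH) (Lpe (f579324 IH) (Lpr_bt (f557343 IH) (Lpr_at (f579924 IH) (Lpr_bt (f542179 IH) (Lpn (LP (LK LD1_c3 LD2_c58 LD3_c60))))))))
theorem f571844 : Led Lsl_ft (LP (LK LD1_c1 LD2_c56 LD3_c15)) = (LP (LK LD1_c3 LD2_c58 LD3_c57)) :=
  Lre_f IH (LK LD1_c1 LD2_c56 LD3_c15) (LK LD1_c3 LD2_c58 LD3_c57) Lrfl Lrfl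
theorem f174555 : Led Lsl_dt (LP (LK LD1_c3 LD2_c59 LD3_c3)) = (LP (LK LD1_c1 LD2_c56 LD3_c15)) :=
  Lre_d IH (LK LD1_c3 LD2_c59 LD3_c3) (LK LD1_c1 LD2_c56 LD3_c15) Lrfl Lrfl
theorem f579098 : Led Lsl_ff (LP (LK LD1_c3 LD2_c59 LD3_c3)) = (LP (LK LD1_c5 LD2_c37 LD3_c45)) :=
  Lgr Lrot19 (Lpr_dt (f174555 IH) (Lpr_ft (f571844 IH) (Lpr_dt (K43.f579087 IH) (Lpn (LP (LK LD1_c5 LD2_c37 LD3_c45))))))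
theorem f572330 : Led Lsl_ft (LP (LK LD1_c1 LD2_c56 LD3_c14)) = (LP (LK LD1_c3 LD2_c59 LD3_c0)) :=
  Lre_f IH (LK LD1_c1 LD2_c56 LD3_c14) (LK LD1_c3 LD2_c59 LD3_c0) Lrfl Lrfl
theorem f572331 : Led Lsl_ft (LP (LK LD1_c5 LD2_c37 LD3_c44)) = (LP (LK LD1_c3 LD2_c58 LD3_c60)) :=
  Lgr Lrot54 (Lpr_df (K42.f572324 IH) (Lpe (f572330 IH) (Lpe (K40.f181363 IH) (Lpn (LP (LK LD1_c3 LD2_c58 LD3_c60))))))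
theorem f580159 : Led Lsl_at (LP (LK LD1_c3 LD2_c59 LD3_c3)) = (LP (LK LD1_c5 LD2_c37 LD3_c44)) :=
  Lgr Lrot66 (Lpr_ff (f579098 IH) (Lpr_af (f580138 IH) (Lpe (f572331 IH) (Lpn (LP (LK LD1_c5 LD2_c37 LD3_c44))))))
theorem f174554 : Led Lsl_ct (LP (LK LD1_c7 LD2_c59 LD3_c27)) = (LP (LK LD1_c3 LD2_c59 LD3_c3)) :=
  Lre_c IH (LK LD1_c7 LD2_c59 LD3_c27) (LK LD1_c3 LD2_c59 LD3_c3) Lrfl Lrfl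
theorem f580161 : Led Lsl_af (LP (LK LD1_c7 LD2_c59 LD3_c27)) = (LP (LK LD1_c11 LD2_c6 LD3_c53)) :=
  Lgr Lrot68 (Lpr_ct (f174554 IH) (Lpr_at (f580159 IH) (Lpr_ct (K39.f381225 IH) (Lpn (LP (LK LD1_c11 LD2_c6 LD3_c53))))))
theorem f382096 : Led Lsl_dt (LP (LK LD1_c7 LD2_c59 LD3_c25)) = (LP (LK LD1_c3 LD2_c59 LD3_c2)) :=
  Lre_d IH (LK LD1_c7 LD2_c59 LD3_c25) (LK LD1_c3 LD2_c59 LD3_c2) Lrfl Lrfl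
theorem f552017 : Led Lsl_ct (LP (LK LD1_c15 LD2_c4 LD3_c1)) = (LP (LK LD1_c7 LD2_c59 LD3_c25)) :=
  Lre_c IH (LK LD1_c15 LD2_c4 LD3_c1) (LK LD1_c7 LD2_c59 LD3_c25) Lrfl Lrfl
theorem f39794 : Led Lsl_dt (LP (LK LD1_c24 LD2_c46 LD3_c18)) = (LP (LK LD1_c14 LD2_c58 LD3_c54)) :=
  Lre_d IH (LK LD1_c24 LD2_c46 LD3_c18) (LK LD1_c14 LD2_c58 LD3_c54) Lrfl Lrfl
theorem f39795 : Led Lsl_at (LP (LK LD1_c15 LD2_c4 LD3_c19)) = (LP (LK LD1_c24 LD2_c46 LD3_c18)) :=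
  Lre_a IH (LK LD1_c15 LD2_c4 LD3_c19) (LK LD1_c24 LD2_c46 LD3_c18) Lrfl Lrfl
theorem f566775 : Led Lsl_dt (LP (LK LD1_c20 LD2_c8 LD3_c24)) = (LP (LK LD1_c15 LD2_c4 LD3_c19)) :=
  Lgr Lrot44 (Lpr_af (K41.f566768 IH) (Lpe (f39794 IH) (Lpe (f39795 IH) (Lpn (LP (LK LD1_c15 LD2_c4 LD3_c19))))))
theorem f566782 : Led Lsl_gt (LP (LK LD1_c15 LD2_c4 LD3_c19)) = (LP (LK LD1_c24 LD2_c46 LD3_c16)) :=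
  Lre_g IH (LK LD1_c15 LD2_c4 LD3_c19) (LK LD1_c24 LD2_c46 LD3_c16) Lrfl Lrfl
theorem f174551 : Led Lsl_dt (LP (LK LD1_c3 LD2_c59 LD3_c2)) = (LP (LK LD1_c7 LD2_c59 LD3_c25)) :=
  Lre_d IH (LK LD1_c3 LD2_c59 LD3_c2) (LK LD1_c7 LD2_c59 LD3_c25) Lrfl Lrfl
theorem f566783 : Led Lsl_dt (LP (LK LD1_c24 LD2_c46 LD3_c16)) = (LP (LK LD1_c15 LD2_c4 LD3_c1)) :=
  Lgr Lrot105 (Lpe (f566782 IH) (Lpe (f566775 IH) (Lpr_gf (K41.f566780 IH) (Lpe (K41.f556813 IH) (Lpe (K39.f552012 IH) (Lpr_dt (K39.f174552 IH) (Lpr_gt (K31.f174550 IH) (Lpr_dt (f174551 IH) (Lpe (f552017 IH) (Lpn (LP (LK LD1_c15 LD2_c4 LD3_c1))))))))))))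
theorem f566617 : Led Lsl_gf (LP (LK LD1_c7 LD2_c59 LD3_c27)) = (LP (LK LD1_c9 LD2_c19 LD3_c50)) :=
  Lgr Lrot126 (Lpe (K40.f384163 IH) (Lpr_bt (K40.f423763 IH) (Lpe (K41.f566614 IH) (Lpr_ct (K41.f566600 IH) (Lpr_gt (K41.f280360 IH) (Lpe (K16.f181767 IH) (Lpe (K16.f280537 IH) (Lpr_gt (K42.f280557 IH) (Lpr_bf (K40.f561561 IH) (Lpr_ct (K40.f132945 IH) (Lpn (LP (LK LD1_c9 LD2_c19 LD3_c50)))))))))))))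
theorem f580205 : Led Lsl_ft (LP (LK LD1_c7 LD2_c59 LD3_c17)) = (LP (LK LD1_c11 LD2_c6 LD3_c53)) :=
  Lgr Lrot2 (Lpe (K40.f561557 IH) (Lpe (f566617 IH) (Lpr_af (f580161 IH) (Lpn (LP (LK LD1_c11 LD2_c6 LD3_c53))))))
theorem f561560 : Led Lsl_dt (LP (LK LD1_c7 LD2_c59 LD3_c17)) = (LP (LK LD1_c15 LD2_c3 LD3_c56)) :=
  Lre_d IH (LK LD1_c7 LD2_c59 LD3_c17) (LK LD1_c15 LD2_c3 LD3_c56) Lrfl Lrfl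
theorem f580207 : Led Lsl_cf (LP (LK LD1_c24 LD2_c46 LD3_c16)) = (LP (LK LD1_c15 LD2_c3 LD3_c56)) :=
  Lgr Lrot118 (Lpr_dt (f566783 IH) (Lpr_ct (f552017 IH) (Lpr_dt (f382096 IH) (Lpr_ct (K39.f174553 IH) (Lpr_dt (K41.f100561 IH) (Lpr_ct (K40.f384163 IH) (Lpr_af (f580161 IH) (Lpe (f580205 IH) (Lpr_dt (f561560 IH) (Lpn (LP (LK LD1_c15 LD2_c3 LD3_c56))))))))))))
theorem f580209 : Led Lsl_ct (LP (LK LD1_c24 LD2_c46 LD3_c16)) = (LP (LK LD1_c15 LD2_c3 LD3_c56)) :=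
  Lgr Lrot59 (Lpr_cf (f580207 IH) (Lpn (LP (LK LD1_c15 LD2_c3 LD3_c56))))
theorem f561559 : Led Lsl_dt (LP (LK LD1_c15 LD2_c3 LD3_c56)) = (LP (LK LD1_c7 LD2_c59 LD3_c17)) :=
  Lre_d IH (LK LD1_c15 LD2_c3 LD3_c56) (LK LD1_c7 LD2_c59 LD3_c17) Lrfl Lrfl
theorem f382083 : Led Lsl_ct (LP (LK LD1_c7 LD2_c59 LD3_c17)) = (LP (LK LD1_c3 LD2_c58 LD3_c60)) :=
  Lre_c IH (LK LD1_c7 LD2_c59 LD3_c17) (LK LD1_c3 LD2_c58 LD3_c60) Lrfl Lrfl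
theorem f542208 : Led Lsl_at (LP (LK LD1_c7 LD2_c59 LD3_c10)) = (LP (LK LD1_c3 LD2_c58 LD3_c59)) :=
  Lre_a IH (LK LD1_c7 LD2_c59 LD3_c10) (LK LD1_c3 LD2_c58 LD3_c59) Lrfl Lrfl
theorem f580212 : Led Lsl_ft (LP (LK LD1_c3 LD2_c59 LD3_c2)) = (LP (LK LD1_c7 LD2_c59 LD3_c10)) :=
  Lre_f IH (LK LD1_c3 LD2_c59 LD3_c2) (LK LD1_c7 LD2_c59 LD3_c10) Lrfl Lrfl
theorem f552014 : Led Lsl_ct (LP (LK LD1_c7 LD2_c59 LD3_c25)) = (LP (LK LD1_c15 LD2_c4 LD3_c1)) :=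
  Lre_c IH (LK LD1_c7 LD2_c59 LD3_c25) (LK LD1_c15 LD2_c4 LD3_c1) Lrfl Lrfl
theorem f580213 : Led Lsl_df (LP (LK LD1_c24 LD2_c46 LD3_c16)) = (LP (LK LD1_c15 LD2_c4 LD3_c1)) :=
  Lgr Lrot106 (Lpr_ct (f580209 IH) (Lpr_dt (f561559 IH) (Lpr_ct (f382083 IH) (Lpr_dt (K40.f181363 IH) (Lpr_ct (K30.f174535 IH) (Lpe (f542208 IH) (Lpe (f580212 IH) (Lpr_dt (f174551 IH) (Lpr_ct (f552014 IH) (Lpn (LP (LK LD1_c15 LD2_c4 LD3_c1))))))))))))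
theorem f571867 : Led Lsl_at (LP (LK LD1_c1 LD2_c56 LD3_c14)) = (LP (LK LD1_c3 LD2_c58 LD3_c57)) :=
  Lre_a IH (LK LD1_c1 LD2_c56 LD3_c14) (LK LD1_c3 LD2_c58 LD3_c57) Lrfl Lrfl
theorem f579089 : Led Lsl_af (LP (LK LD1_c3 LD2_c58 LD3_c60)) = (LP (LK LD1_c5 LD2_c37 LD3_c45)) :=
  Lgr Lrot117 (Lpr_dt (K40.f181363 IH) (Lpr_at (f571867 IH) (Lpr_dt (K43.f579087 IH) (Lpn (LP (LK LD1_c5 LD2_c37 LD3_c45))))))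
theorem f580215 : Led Lsl_ft (LP (LK LD1_c3 LD2_c59 LD3_c3)) = (LP (LK LD1_c5 LD2_c37 LD3_c45)) :=
  Lgr Lrot142 (Lpr_dt (f174555 IH) (Lpr_ct (K31.f174556 IH) (Lpr_dt (f174551 IH) (Lpr_ct (f552014 IH) (Lpe (f580213 IH) (Lpr_ct (f580209 IH) (Lpr_dt (f561559 IH) (Lpr_ct (f382083 IH) (Lpr_af (f579089 IH) (Lpn (LP (LK LD1_c5 LD2_c37 LD3_c45))))))))))))
theorem f386989 : Led Lsl_ct (LP (LK LD1_c5 LD2_c37 LD3_c45)) = (LP (LK LD1_c11 LD2_c6 LD3_c56)) :=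
  Lre_c IH (LK LD1_c5 LD2_c37 LD3_c45) (LK LD1_c11 LD2_c6 LD3_c56) Lrfl Lrfl
theorem f580219 : Led Lsl_ff (LP (LK LD1_c7 LD2_c59 LD3_c27)) = (LP (LK LD1_c11 LD2_c6 LD3_c56)) :=
  Lgr Lrot23 (Lpr_ct (f174554 IH) (Lpr_ft (f580215 IH) (Lpr_ct (f386989 IH) (Lpn (LP (LK LD1_c11 LD2_c6 LD3_c56))))))
theorem f561538 : Led Lsl_dt (LP (LK LD1_c7 LD2_c59 LD3_c27)) = (LP (LK LD1_c15 LD2_c4 LD3_c3)) :=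
  Lre_d IH (LK LD1_c7 LD2_c59 LD3_c27) (LK LD1_c15 LD2_c4 LD3_c3) Lrfl Lrfl
theorem f386991 : Led Lsl_dt (LP (LK LD1_c20 LD2_c0 LD3_c14)) = (LP (LK LD1_c11 LD2_c6 LD3_c56)) :=
  Lre_d IH (LK LD1_c20 LD2_c0 LD3_c14) (LK LD1_c11 LD2_c6 LD3_c56) Lrfl Lrfl
theorem f580221 : Led Lsl_ft (LP (LK LD1_c15 LD2_c4 LD3_c3)) = (LP (LK LD1_c20 LD2_c0 LD3_c14)) :=
  Lgr Lrot54 (Lpe (f561538 IH) (Lpr_ff (f580219 IH) (Lpe (f386991 IH) (Lpn (LP (LK LD1_c20 LD2_c0 LD3_c14))))))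
theorem f561536 : Led Lsl_dt (LP (LK LD1_c15 LD2_c4 LD3_c3)) = (LP (LK LD1_c7 LD2_c59 LD3_c27)) :=
  Lre_d IH (LK LD1_c15 LD2_c4 LD3_c3) (LK LD1_c7 LD2_c59 LD3_c27) Lrfl Lrfl
theorem f580229 : Led Lsl_af (LP (LK LD1_c15 LD2_c3 LD3_c56)) = (LP (LK LD1_c20 LD2_c0 LD3_c14)) :=
  Lgr Lrot109 (Lpe (f580209 IH) (Lpr_df (f580213 IH) (Lpe (f552014 IH) (Lpe (f174551 IH) (Lpe (K31.f174556 IH) (Lpe (f174555 IH) (Lpe (f174554 IH) (Lpe (f561536 IH) (Lpr_ft (f580221 IH) (Lpn (LP (LK LD1_c20 LD2_c0 LD3_c14))))))))))))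
theorem f386990 : Led Lsl_dt (LP (LK LD1_c11 LD2_c6 LD3_c56)) = (LP (LK LD1_c20 LD2_c0 LD3_c14)) :=
  Lre_d IH (LK LD1_c11 LD2_c6 LD3_c56) (LK LD1_c20 LD2_c0 LD3_c14) Lrfl Lrfl
theorem f580233 : Led Lsl_at (LP (LK LD1_c7 LD2_c59 LD3_c17)) = (LP (LK LD1_c11 LD2_c6 LD3_c56)) :=
  Lgr Lrot51 (Lpe (f561559 IH) (Lpr_af (f580229 IH) (Lpe (f386990 IH) (Lpn (LP (LK LD1_c11 LD2_c6 LD3_c56))))))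
theorem f580235 : Led Lsl_et (LP (LK LD1_c15 LD2_c3 LD3_c57)) = (LP (LK LD1_c7 LD2_c59 LD3_c17)) :=
  Lre_e IH (LK LD1_c15 LD2_c3 LD3_c57) (LK LD1_c7 LD2_c59 LD3_c17) Lrfl Lrfl
theorem f580228 : Led Lsl_et (LP (LK LD1_c11 LD2_c6 LD3_c56)) = (LP (LK LD1_c20 LD2_c0 LD3_c15)) :=
  Lre_e IH (LK LD1_c11 LD2_c6 LD3_c56) (LK LD1_c20 LD2_c0 LD3_c15) Lrfl Lrfl
theorem f580236 : Led Lsl_af (LP (LK LD1_c15 LD2_c3 LD3_c57)) = (LP (LK LD1_c20 LD2_c0 LD3_c15)) :=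
  Lgr Lrot50 (Lpr_et (f580235 IH) (Lpr_at (f580233 IH) (Lpr_et (f580228 IH) (Lpn (LP (LK LD1_c20 LD2_c0 LD3_c15))))))
theorem f580243 : Led Lsl_ct (LP (LK LD1_c15 LD2_c3 LD3_c57)) = (LP (LK LD1_c7 LD2_c59 LD3_c18)) :=
  Lre_c IH (LK LD1_c15 LD2_c3 LD3_c57) (LK LD1_c7 LD2_c59 LD3_c18) Lrfl Lrfl
theorem f402610 : Led Lsl_ct (LP (LK LD1_c11 LD2_c6 LD3_c57)) = (LP (LK LD1_c20 LD2_c0 LD3_c15)) :=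
  Lre_c IH (LK LD1_c11 LD2_c6 LD3_c57) (LK LD1_c20 LD2_c0 LD3_c15) Lrfl Lrfl
theorem f580244 : Led Lsl_at (LP (LK LD1_c7 LD2_c59 LD3_c18)) = (LP (LK LD1_c11 LD2_c6 LD3_c57)) :=
  Lgr Lrot107 (Lpe (f580243 IH) (Lpr_af (f580236 IH) (Lpe (f402610 IH) (Lpn (LP (LK LD1_c11 LD2_c6 LD3_c57))))))
theorem f157835 : Led Lsl_dt (LP (LK LD1_c15 LD2_c3 LD3_c58)) = (LP (LK LD1_c7 LD2_c59 LD3_c18)) :=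
  Lre_d IH (LK LD1_c15 LD2_c3 LD3_c58) (LK LD1_c7 LD2_c59 LD3_c18) Lrfl Lrfl
theorem f579065 : Led Lsl_df (LP (LK LD1_c7 LD2_c59 LD3_c11)) = (LP (LK LD1_c6 LD2_c15 LD3_c32)) :=
  Lgr Lrot38 (Lpr_dt (K43.f579061 IH) (Lpn (LP (LK LD1_c6 LD2_c15 LD3_c32))))
theorem f73875 : Led Lsl_et (LP (LK LD1_c12 LD2_c8 LD3_c58)) = (LP (LK LD1_c6 LD2_c15 LD3_c32)) :=
  Lre_e IH (LK LD1_c12 LD2_c8 LD3_c58) (LK LD1_c6 LD2_c15 LD3_c32) Lrfl Lrfl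
theorem f579095 : Led Lsl_et (LP (LK LD1_c5 LD2_c37 LD3_c45)) = (LP (LK LD1_c11 LD2_c6 LD3_c57)) :=
  Lre_e IH (LK LD1_c5 LD2_c37 LD3_c45) (LK LD1_c11 LD2_c6 LD3_c57) Lrfl Lrfl
theorem f579096 : Led Lsl_df (LP (LK LD1_c12 LD2_c8 LD3_c58)) = (LP (LK LD1_c11 LD2_c6 LD3_c57)) :=
  Lgr Lrot70 (Lpr_et (f73875 IH) (Lpe (f579065 IH) (Lpr_et (K43.f579060 IH) (Lpr_dt (K43.f579087 IH) (Lpr_et (f579095 IH) (Lpn (LP (LK LD1_c11 LD2_c6 LD3_c57))))))))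
theorem f580247 : Led Lsl_af (LP (LK LD1_c15 LD2_c3 LD3_c58)) = (LP (LK LD1_c12 LD2_c8 LD3_c58)) :=
  Lgr Lrot117 (Lpr_dt (f157835 IH) (Lpr_at (f580244 IH) (Lpe (f579096 IH) (Lpn (LP (LK LD1_c12 LD2_c8 LD3_c58))))))
theorem f157834 : Led Lsl_et (LP (LK LD1_c15 LD2_c3 LD3_c58)) = (LP (LK LD1_c7 LD2_c59 LD3_c19)) :=
  Lre_e IH (LK LD1_c15 LD2_c3 LD3_c58) (LK LD1_c7 LD2_c59 LD3_c19) Lrfl Lrfl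
theorem f579067 : Led Lsl_et (LP (LK LD1_c6 LD2_c15 LD3_c32)) = (LP (LK LD1_c12 LD2_c8 LD3_c58)) :=
  Lre_e IH (LK LD1_c6 LD2_c15 LD3_c32) (LK LD1_c12 LD2_c8 LD3_c58) Lrfl Lrfl
theorem f580253 : Led Lsl_at (LP (LK LD1_c7 LD2_c59 LD3_c19)) = (LP (LK LD1_c6 LD2_c15 LD3_c32)) :=
  Lgr Lrot80 (Lpe (f157834 IH) (Lpr_af (f580247 IH) (Lpe (f579067 IH) (Lpn (LP (LK LD1_c6 LD2_c15 LD3_c32))))))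
theorem f541705 : Led Lsl_at (LP (LK LD1_c9 LD2_c45 LD3_c32)) = (LP (LK LD1_c4 LD2_c57 LD3_c18)) :=
  Lre_a IH (LK LD1_c9 LD2_c45 LD3_c32) (LK LD1_c4 LD2_c57 LD3_c18) Lrfl Lrfl
theorem f541706 : Led Lsl_ft (LP (LK LD1_c6 LD2_c15 LD3_c32)) = (LP (LK LD1_c9 LD2_c45 LD3_c32)) :=
  Lgr Lrot2 (Lpr_gt (K40.f60801 IH) (Lpr_gt (K36.f541703 IH) (Lpe (f541705 IH) (Lpn (LP (LK LD1_c9 LD2_c45 LD3_c32))))))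
theorem f580257 : Led Lsl_ff (LP (LK LD1_c7 LD2_c59 LD3_c19)) = (LP (LK LD1_c4 LD2_c57 LD3_c18)) :=
  Lgr Lrot30 (Lpr_at (f580253 IH) (Lpr_ft (f541706 IH) (Lpr_at (f541705 IH) (Lpn (LP (LK LD1_c4 LD2_c57 LD3_c18))))))
theorem f580264 : Led Lsl_ft (LP (LK LD1_c7 LD2_c59 LD3_c19)) = (LP (LK LD1_c4 LD2_c57 LD3_c18)) :=
  Lgr Lrot48 (Lpr_ff (f580257 IH) (Lpn (LP (LK LD1_c4 LD2_c57 LD3_c18))))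
theorem f580266 : Led Lsl_at (LP (LK LD1_c4 LD2_c57 LD3_c18)) = (LP (LK LD1_c9 LD2_c45 LD3_c32)) :=
  Lre_a IH (LK LD1_c4 LD2_c57 LD3_c18) (LK LD1_c9 LD2_c45 LD3_c32) Lrfl Lrfl
theorem f580274 : Led Lsl_gt (LP (LK LD1_c6 LD2_c15 LD3_c24)) = (LP (LK LD1_c9 LD2_c45 LD3_c32)) :=
  Lgr Lrot46 (Lpe (K37.f157827 IH) (Lpr_ft (f580264 IH) (Lpr_at (f580266 IH) (Lpn (LP (LK LD1_c9 LD2_c45 LD3_c32))))))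
theorem f580288 : Led Lsl_dt (LP (LK LD1_c4 LD2_c57 LD3_c16)) = (LP (LK LD1_c9 LD2_c45 LD3_c32)) :=
  Lre_d IH (LK LD1_c4 LD2_c57 LD3_c16) (LK LD1_c9 LD2_c45 LD3_c32) Lrfl Lrfl
theorem f580289 : Led Lsl_ef (LP (LK LD1_c5 LD2_c14 LD3_c6)) = (LP (LK LD1_c4 LD2_c57 LD3_c16)) :=
  Lgr Lrot114 (Lpr_gt (K38.f61376 IH) (Lpe (K36.f61351 IH) (Lpr_dt (K32.f61410 IH) (Lpr_gt (K36.f61415 IH) (Lpe (K36.f539736 IH) (Lpr_et (K36.f539740 IH) (Lpr_gt (K36.f60878 IH) (Lpr_dt (K8.f60875 IH) (Lpr_gt (f580274 IH) (Lpe (f580288 IH) (Lpn (LP (LK LD1_c4 LD2_c57 LD3_c16)))))))))))))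
theorem f580297 : Led Lsl_et (LP (LK LD1_c5 LD2_c14 LD3_c6)) = (LP (LK LD1_c4 LD2_c57 LD3_c16)) :=
  Lgr Lrot87 (Lpr_ef (f580289 IH) (Lpn (LP (LK LD1_c4 LD2_c57 LD3_c16))))
theorem f559563 : Led Lsl_at (LP (LK LD1_c4 LD2_c57 LD3_c16)) = (LP (LK LD1_c2 LD2_c26 LD3_c33)) :=
  Lre_a IH (LK LD1_c4 LD2_c57 LD3_c16) (LK LD1_c2 LD2_c26 LD3_c33) Lrfl Lrfl
theorem f580299 : Led Lsl_af (LP (LK LD1_c5 LD2_c14 LD3_c6)) = (LP (LK LD1_c4 LD2_c57 LD3_c19)) :=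
  Lgr Lrot50 (Lpr_et (f580297 IH) (Lpr_at (f559563 IH) (Lpr_et (K36.f541702 IH) (Lpn (LP (LK LD1_c4 LD2_c57 LD3_c19))))))
theorem f580322 : Led Lsl_at (LP (LK LD1_c6 LD2_c17 LD3_c3)) = (LP (LK LD1_c5 LD2_c49 LD3_c13)) :=
  Lgr Lrot51 (Lpr_df (K40.f558765 IH) (Lpr_af (f580299 IH) (Lpr_df (K42.f571404 IH) (Lpn (LP (LK LD1_c5 LD2_c49 LD3_c13))))))
theorem f580324 : Led Lsl_af (LP (LK LD1_c6 LD2_c17 LD3_c3)) = (LP (LK LD1_c5 LD2_c49 LD3_c13)) :=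
  Lgr Lrot0 (Lpr_at (f580322 IH) (Lpn (LP (LK LD1_c5 LD2_c49 LD3_c13))))
theorem f580343 : Led Lsl_ft (LP (LK LD1_c6 LD2_c17 LD3_c2)) = (LP (LK LD1_c5 LD2_c49 LD3_c13)) :=
  Lgr Lrot2 (Lpr_gt (K37.f450215 IH) (Lpe (K40.f450227 IH) (Lpr_af (f580324 IH) (Lpn (LP (LK LD1_c5 LD2_c49 LD3_c13))))))
theorem f139334 : Led Lsl_dt (LP (LK LD1_c5 LD2_c51 LD3_c33)) = (LP (LK LD1_c9 LD2_c26 LD3_c6)) :=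
  Lgr Lrot42 (Lpr_df (K6.f139313 IH) (Lpn (LP (LK LD1_c9 LD2_c26 LD3_c6))))
theorem f426285 : Led Lsl_ct (LP (LK LD1_c9 LD2_c26 LD3_c6)) = (LP (LK LD1_c5 LD2_c57 LD3_c35)) :=
  Lgr Lrot59 (Lpr_cf (K28.f426277 IH) (Lpn (LP (LK LD1_c5 LD2_c57 LD3_c35))))
theorem f568277 : Led Lsl_bf (LP (LK LD1_c11 LD2_c27 LD3_c31)) = (LP (LK LD1_c5 LD2_c57 LD3_c35)) :=
  Lgr Lrot184 (Lpr_gt (K42.f568265 IH) (Lpr_dt (K40.f543874 IH) (Lpr_ct (K3.f88295 IH) (Lpr_bt (K3.f88294 IH) (Lpr_gt (K3.f88292 IH) (Lpe (K3.f88158 IH) (Lpe (K3.f110225 IH) (Lpr_bt (K5.f120822 IH) (Lpr_gt (K4.f121227 IH) (Lpr_dt (K2.f84762 IH) (Lpr_ct (K4.f84740 IH) (Lpr_bt (K2.f25115 IH) (Lpr_gt (K2.f25108 IH) (Lpr_dt (K2.f25099 IH) (Lpr_ct (K2.f25100 IH) (Lpr_bt (K2.f61806 IH) (Lpr_gt (K6.f74691 IH) (Lpr_dt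 (f139334 IH) (Lpr_ct (f426285 IH) (Lpn (LP (LK LD1_c5 LD2_c57 LD3_c35))))))))))))))))))))))
theorem f568279 : Led Lsl_bt (LP (LK LD1_c11 LD2_c27 LD3_c31)) = (LP (LK LD1_c5 LD2_c57 LD3_c35)) :=
  Lgr Lrot127 (Lpr_bf (f568277 IH) (Lpn (LP (LK LD1_c5 LD2_c57 LD3_c35))))
theorem f450248 : Led Lsl_bf (LP (LK LD1_c3 LD2_c5 LD3_c39)) = (LP (LK LD1_c2 LD2_c50 LD3_c36)) :=
  Lgr Lrot24 (Lpr_bt (K38.f450245 IH) (Lpn (LP (LK LD1_c2 LD2_c50 LD3_c36))))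
theorem f104889 : Led Lsl_dt (LP (LK LD1_c5 LD2_c46 LD3_c61)) = (LP (LK LD1_c2 LD2_c49 LD3_c21)) :=
  Lre_d IH (LK LD1_c5 LD2_c46 LD3_c61) (LK LD1_c2 LD2_c49 LD3_c21) Lrfl Lrfl
theorem f548817 : Led Lsl_cf (LP (LK LD1_c2 LD2_c50 LD3_c36)) = (LP (LK LD1_c3 LD2_c0 LD3_c33)) :=
  Lgr Lrot169 (Lpe (K38.f450474 IH) (Lpe (K40.f548783 IH) (Lpe (f104889 IH) (Lpe (K38.f104904 IH) (Lpr_gf (K38.f548813 IH) (Lpr_cf (K40.f541802 IH) (Lpe (K36.f75824 IH) (Lpe (K36.f75833 IH) (Lpr_gt (K41.f75548 IH) (Lpn (LP (LK LD1_c3 LD2_c0 LD3_c33))))))))))))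
theorem f426291 : Led Lsl_gf (LP (LK LD1_c9 LD2_c29 LD3_c59)) = (LP (LK LD1_c5 LD2_c57 LD3_c35)) :=
  Lgr Lrot144 (Lpr_dt (K28.f105099 IH) (Lpr_gt (K8.f56964 IH) (Lpr_dt (K8.f58888 IH) (Lpr_cf (K8.f105064 IH) (Lpe (K4.f26415 IH) (Lpr_gf (K0.f26408 IH) (Lpe (K32.f26417 IH) (Lpe (K6.f26418 IH) (Lpr_cf (K28.f426277 IH) (Lpn (LP (LK LD1_c5 LD2_c57 LD3_c35))))))))))))
theorem f496263 : Led Lsl_ct (LP (LK LD1_c4 LD2_c42 LD3_c47)) = K32.v1560 :=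
  Lgr Lrot8 (Lpr_gt (K32.f132808 IH) (Lpr_dt (K5.f60949 IH) (Lpr_gt (K8.f138136 IH) (Lpr_dt (K8.f72427 IH) (Lpe (K2.f72404 IH) (Lpe (K11.f72426 IH) (Lpr_gf (K11.f205786 IH) (Lpe (K32.f205769 IH) (Lpr_gf (K32.f496261 IH) (Lpn K32.v1560))))))))))
theorem f76108 : Led Lsl_df (LP (LK LD1_c2 LD2_c58 LD3_c18)) = (LP (LK LD1_c2 LD2_c27 LD3_c36)) :=
  Lgr Lrot12 (Lpr_bt (K5.f58963 IH) (Lpr_dt (K32.f76089 IH) (Lpr_bt (K11.f74393 IH) (Lpn (LP (LK LD1_c2 LD2_c27 LD3_c36))))))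
theorem f76116 : Led Lsl_at (LP (LK LD1_c4 LD2_c59 LD3_c30)) = (LP (LK LD1_c2 LD2_c27 LD3_c36)) :=
  Lre_a IH (LK LD1_c4 LD2_c59 LD3_c30) (LK LD1_c2 LD2_c27 LD3_c36) Lrfl Lrfl
theorem f497431 : Led Lsl_df (LP (LK LD1_c4 LD2_c59 LD3_c30)) = K32.v1560 :=
  Lgr Lrot18 (Lpr_at (f76116 IH) (Lpe (f76108 IH) (Lpr_at (K32.f497427 IH) (Lpn K32.v1560))))
theorem f497447 : Led Lsl_cf (LP (LK LD1_c9 LD2_c8 LD3_c1)) = (LP (LK LD1_c4 LD2_c59 LD3_c30)) :=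
  Lgr Lrot102 (Lpe (K32.f497445 IH) (Lpr_ff (K32.f497438 IH) (Lpe (K41.f128356 IH) (Lpe (K11.f158505 IH) (Lpe (K32.f438196 IH) (Lpr_ct (K32.f438188 IH) (Lpr_dt (K39.f438206 IH) (Lpr_ct (f496263 IH) (Lpe (f497431 IH) (Lpn (LP (LK LD1_c4 LD2_c59 LD3_c30))))))))))))
theorem f497457 : Led Lsl_gt (LP (LK LD1_c5 LD2_c54 LD3_c3)) = (LP (LK LD1_c4 LD2_c59 LD3_c30)) :=
  Lgr Lrot9 (Lpe (K8.f76304 IH) (Lpe (K8.f158464 IH) (Lpr_ct (K32.f158176 IH) (Lpe (K7.f149406 IH) (Lpr_ct (K7.f35551 IH) (Lpe (K7.f104776 IH) (Lpe (K4.f40642 IH) (Lpe (K32.f149092 IH) (Lpr_cf (f497447 IH) (Lpn (LP (LK LD1_c4 LD2_c59 LD3_c30))))))))))))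
theorem f202125 : Led Lsl_gt (LP (LK LD1_c2 LD2_c56 LD3_c61)) = (LP (LK LD1_c4 LD2_c38 LD3_c43)) :=
  Lgr Lrot189 (Lpr_df (K6.f139469 IH) (Lpe (K6.f22771 IH) (Lpr_ct (K2.f22809 IH) (Lpe (K7.f99499 IH) (Lpe (K6.f104351 IH) (Lpr_gt (K6.f137492 IH) (Lpr_dt (K11.f75634 IH) (Lpr_ct (K11.f202107 IH) (Lpe (K11.f104887 IH) (Lpn (LP (LK LD1_c4 LD2_c38 LD3_c43))))))))))))
theorem f497461 : Led Lsl_df K32.v1560 = (LP (LK LD1_c4 LD2_c59 LD3_c30)) :=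
  Lgr Lrot153 (Lpe (K32.f496261 IH) (Lpr_dt (K32.f205769 IH) (Lpe (K11.f205767 IH) (Lpr_df (K11.f112357 IH) (Lpr_gf (K11.f202127 IH) (Lpe (K11.f104887 IH) (Lpe (f202125 IH) (Lpe (K4.f69012 IH) (Lpr_gt (f497457 IH) (Lpn (LP (LK LD1_c4 LD2_c59 LD3_c30))))))))))))
theorem f568281 : Led Lsl_gf (LP (LK LD1_c5 LD2_c43 LD3_c55)) = (LP (LK LD1_c5 LD2_c43 LD3_c47)) :=
  Lgr Lrot85 (Lpr_dt (K41.f75558 IH) (Lpe (f548817 IH) (Lpe (f450248 IH) (Lpr_gt (K41.f450235 IH) (Lpr_dt (K41.f450237 IH) (Lpr_ct (K42.f450239 IH) (Lpr_bt (f568279 IH) (Lpe (f426291 IH) (Lpr_dt (K28.f105099 IH) (Lpr_ct (K8.f158480 IH) (Lpr_bt (K8.f125697 IH) (Lpr_gt (f497457 IH) (Lpe (f497461 IH) (Lpe (K32.f496264 IH) (Lpr_bt (K39.f420650 IH) (Lpr_gt (K36.f81397 IH) (Lpr_dt (K36.f81379 IH) (Lpr_ct (K36.f541768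 IH) (Lpr_bt (K36.f381916 IH) (Lpn (LP (LK LD1_c5 LD2_c43 LD3_c47))))))))))))))))))))))
theorem f568283 : Led Lsl_bt (LP (LK LD1_c5 LD2_c49 LD3_c5)) = (LP (LK LD1_c6 LD2_c17 LD3_c2)) :=
  Lgr Lrot22 (Lpr_ct (K40.f450471 IH) (Lpr_gf (K40.f558244 IH) (Lpe (K43.f557398 IH) (Lpr_gf (f568281 IH) (Lpe (K36.f381916 IH) (Lpe (K36.f539666 IH) (Lpe (K8.f70220 IH) (Lpr_cf (K40.f558177 IH) (Lpe (K40.f450368 IH) (Lpe (K37.f450215 IH) (Lpn (LP (LK LD1_c6 LD2_c17 LD3_c2)))))))))))))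
theorem f502129 : Led Lsl_bf (LP (LK LD1_c12 LD2_c6 LD3_c9)) = (LP (LK LD1_c8 LD2_c48 LD3_c58)) :=
  Lgr Lrot24 (Lpr_bt (K39.f502126 IH) (Lpn (LP (LK LD1_c8 LD2_c48 LD3_c58))))
theorem f563810 : Led Lsl_cf (LP (LK LD1_c8 LD2_c48 LD3_c58)) = (LP (LK LD1_c4 LD2_c57 LD3_c25)) :=
  Lgr Lrot166 (Lpr_gt (K39.f149424 IH) (Lpr_dt (K39.f149423 IH) (Lpr_gt (K8.f149414 IH) (Lpr_dt (K38.f138775 IH) (Lpr_ct (K36.f541834 IH) (Lpe (K8.f56025 IH) (Lpq (K38.f548772 IH) (Lpe (K38.f503210 IH) (Lpe (K37.f421031 IH) (Lpr_gf (K40.f563802 IH) (Lpn (LP (LK LD1_c4 LD2_c57 LD3_c25)))))))))))))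
theorem f577640 : Led Lsl_bf (LP (LK LD1_c4 LD2_c57 LD3_c25)) = (LP (LK LD1_c5 LD2_c49 LD3_c13)) :=
  Lgr Lrot90 (Lpe (f563810 IH) (Lpe (f502129 IH) (Lpr_ct (K39.f420420 IH) (Lpr_bt (K43.f577636 IH) (Lpr_ct (K42.f450200 IH) (Lpn (LP (LK LD1_c5 LD2_c49 LD3_c13))))))))
theorem f580347 : Led Lsl_ff (LP (LK LD1_c5 LD2_c49 LD3_c5)) = (LP (LK LD1_c4 LD2_c57 LD3_c25)) :=
  Lgr Lrot25 (Lpr_bt (f568283 IH) (Lpr_ft (f580343 IH) (Lpe (f577640 IH) (Lpn (LP (LK LD1_c4 LD2_c57 LD3_c25))))))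
theorem f580355 : Led Lsl_at (LP (LK LD1_c5 LD2_c49 LD3_c5)) = (LP (LK LD1_c6 LD2_c17 LD3_c10)) :=
  Lgr Lrot26 (Lpr_ff (f580347 IH) (Lpe (K40.f563802 IH) (Lpr_gt (K40.f210790 IH) (Lpn (LP (LK LD1_c6 LD2_c17 LD3_c10))))))
theorem f450473 : Led Lsl_et (LP (LK LD1_c11 LD2_c27 LD3_c30)) = (LP (LK LD1_c5 LD2_c49 LD3_c5)) :=
  Lre_e IH (LK LD1_c11 LD2_c27 LD3_c30) (LK LD1_c5 LD2_c49 LD3_c5) Lrfl Lrfl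
theorem f558295 : Led Lsl_et (LP (LK LD1_c6 LD2_c17 LD3_c10)) = (LP (LK LD1_c12 LD2_c11 LD3_c1)) :=
  Lre_e IH (LK LD1_c6 LD2_c17 LD3_c10) (LK LD1_c12 LD2_c11 LD3_c1) Lrfl Lrfl
theorem f580365 : Led Lsl_af (LP (LK LD1_c11 LD2_c27 LD3_c30)) = (LP (LK LD1_c12 LD2_c11 LD3_c1)) :=
  Lgr Lrot50 (Lpr_et (f450473 IH) (Lpr_at (f580355 IH) (Lpr_et (f558295 IH) (Lpn (LP (LK LD1_c12 LD2_c11 LD3_c1))))))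
theorem f558318 : Led Lsl_et (LP (LK LD1_c5 LD2_c47 LD3_c10)) = (LP (LK LD1_c11 LD2_c24 LD3_c34)) :=
  Lre_e IH (LK LD1_c5 LD2_c47 LD3_c10) (LK LD1_c11 LD2_c24 LD3_c34) Lrfl Lrfl
theorem f450480 : Led Lsl_et (LP (LK LD1_c12 LD2_c11 LD3_c1)) = (LP (LK LD1_c6 LD2_c17 LD3_c10)) :=
  Lre_e IH (LK LD1_c12 LD2_c11 LD3_c1) (LK LD1_c6 LD2_c17 LD3_c10) Lrfl Lrfl
theorem f558345 : Led Lsl_dt (LP (LK LD1_c11 LD2_c24 LD3_c34)) = (LP (LK LD1_c12 LD2_c11 LD3_c1)) :=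
  Lgr Lrot77 (Lpe (f558318 IH) (Lpr_df (K40.f558310 IH) (Lpr_ef (K40.f558339 IH) (Lpe (K40.f558293 IH) (Lpe (f450480 IH) (Lpn (LP (LK LD1_c12 LD2_c11 LD3_c1))))))))
theorem f548958 : Led Lsl_et (LP (LK LD1_c7 LD2_c59 LD3_c28)) = (LP (LK LD1_c3 LD2_c59 LD3_c3)) :=
  Lre_e IH (LK LD1_c7 LD2_c59 LD3_c28) (LK LD1_c3 LD2_c59 LD3_c3) Lrfl Lrfl
theorem f381227 : Led Lsl_et (LP (LK LD1_c5 LD2_c37 LD3_c44)) = (LP (LK LD1_c11 LD2_c6 LD3_c54)) :=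
  Lre_e IH (LK LD1_c5 LD2_c37 LD3_c44) (LK LD1_c11 LD2_c6 LD3_c54) Lrfl Lrfl
theorem f580163 : Led Lsl_af (LP (LK LD1_c7 LD2_c59 LD3_c28)) = (LP (LK LD1_c11 LD2_c6 LD3_c54)) :=
  Lgr Lrot50 (Lpr_et (f548958 IH) (Lpr_at (f580159 IH) (Lpr_et (f381227 IH) (Lpn (LP (LK LD1_c11 LD2_c6 LD3_c54))))))
theorem f566727 : Led Lsl_bt (LP (LK LD1_c7 LD2_c59 LD3_c28)) = (LP (LK LD1_c15 LD2_c3 LD3_c61)) :=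
  Lre_b IH (LK LD1_c7 LD2_c59 LD3_c28) (LK LD1_c15 LD2_c3 LD3_c61) Lrfl Lrfl
theorem f566721 : Led Lsl_af (LP (LK LD1_c7 LD2_c59 LD3_c22)) = (LP (LK LD1_c11 LD2_c7 LD3_c5)) :=
  Lgr Lrot31 (Lpr_gf (K39.f423759 IH) (Lpe (K39.f557334 IH) (Lpr_ft (K41.f566716 IH) (Lpn (LP (LK LD1_c11 LD2_c7 LD3_c5))))))
theorem f382091 : Led Lsl_et (LP (LK LD1_c7 LD2_c59 LD3_c22)) = (LP (LK LD1_c15 LD2_c3 LD3_c61)) :=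
  Lre_e IH (LK LD1_c7 LD2_c59 LD3_c22) (LK LD1_c15 LD2_c3 LD3_c61) Lrfl Lrfl
theorem f566715 : Led Lsl_et (LP (LK LD1_c20 LD2_c0 LD3_c22)) = (LP (LK LD1_c11 LD2_c7 LD3_c5)) :=
  Lre_e IH (LK LD1_c20 LD2_c0 LD3_c22) (LK LD1_c11 LD2_c7 LD3_c5) Lrfl Lrfl
theorem f566723 : Led Lsl_at (LP (LK LD1_c15 LD2_c3 LD3_c61)) = (LP (LK LD1_c20 LD2_c0 LD3_c22)) :=
  Lgr Lrot80 (Lpe (f382091 IH) (Lpr_af (f566721 IH) (Lpe (f566715 IH) (Lpn (LP (LK LD1_c20 LD2_c0 LD3_c22))))))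
theorem f561373 : Led Lsl_et (LP (LK LD1_c11 LD2_c7 LD3_c5)) = (LP (LK LD1_c20 LD2_c0 LD3_c22)) :=
  Lre_e IH (LK LD1_c11 LD2_c7 LD3_c5) (LK LD1_c20 LD2_c0 LD3_c22) Lrfl Lrfl
theorem f552470 : Led Lsl_et (LP (LK LD1_c11 LD2_c24 LD3_c34)) = (LP (LK LD1_c5 LD2_c47 LD3_c10)) :=
  Lre_e IH (LK LD1_c11 LD2_c24 LD3_c34) (LK LD1_c5 LD2_c47 LD3_c10) Lrfl Lrfl
theorem f561374 : Led Lsl_bt (LP (LK LD1_c20 LD2_c0 LD3_c22)) = (LP (LK LD1_c11 LD2_c24 LD3_c34)) :=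
  Lgr Lrot119 (Lpe (f561373 IH) (Lpr_bf (K40.f561369 IH) (Lpe (f552470 IH) (Lpn (LP (LK LD1_c11 LD2_c24 LD3_c34))))))
theorem f381226 : Led Lsl_et (LP (LK LD1_c9 LD2_c45 LD3_c39)) = (LP (LK LD1_c4 LD2_c57 LD3_c20)) :=
  Lre_e IH (LK LD1_c9 LD2_c45 LD3_c39) (LK LD1_c4 LD2_c57 LD3_c20) Lrfl Lrfl
theorem f381228 : Led Lsl_bf (LP (LK LD1_c9 LD2_c45 LD3_c39)) = (LP (LK LD1_c11 LD2_c6 LD3_c54)) :=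
  Lgr Lrot96 (Lpr_et (f381226 IH) (Lpr_bt (K42.f381219 IH) (Lpr_et (f381227 IH) (Lpn (LP (LK LD1_c11 LD2_c6 LD3_c54))))))
theorem f381230 : Led Lsl_bt (LP (LK LD1_c9 LD2_c45 LD3_c39)) = (LP (LK LD1_c11 LD2_c6 LD3_c54)) :=
  Lgr Lrot127 (Lpr_bf (f381228 IH) (Lpn (LP (LK LD1_c11 LD2_c6 LD3_c54))))
theorem f580167 : Led Lsl_at (LP (LK LD1_c11 LD2_c24 LD3_c34)) = (LP (LK LD1_c9 LD2_c45 LD3_c39)) :=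
  Lgr Lrot67 (Lpe (f561374 IH) (Lpe (f566723 IH) (Lpe (f566727 IH) (Lpr_af (f580163 IH) (Lpe (f381230 IH) (Lpn (LP (LK LD1_c9 LD2_c45 LD3_c39))))))))
theorem f580171 : Led Lsl_af (LP (LK LD1_c11 LD2_c24 LD3_c34)) = (LP (LK LD1_c9 LD2_c45 LD3_c39)) :=
  Lgr Lrot0 (Lpr_at (f580167 IH) (Lpn (LP (LK LD1_c9 LD2_c45 LD3_c39))))
theorem f580371 : Led Lsl_dt (LP (LK LD1_c11 LD2_c27 LD3_c30)) = (LP (LK LD1_c9 LD2_c45 LD3_c39)) :=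
  Lgr Lrot44 (Lpr_af (f580365 IH) (Lpe (f558345 IH) (Lpr_af (f580171 IH) (Lpn (LP (LK LD1_c9 LD2_c45 LD3_c39))))))
theorem f580373 : Led Lsl_df (LP (LK LD1_c11 LD2_c27 LD3_c30)) = (LP (LK LD1_c9 LD2_c45 LD3_c39)) :=
  Lgr Lrot38 (Lpr_dt (f580371 IH) (Lpn (LP (LK LD1_c9 LD2_c45 LD3_c39))))
theorem f546853 : Led Lsl_et (LP (LK LD1_c6 LD2_c17 LD3_c2)) = (LP (LK LD1_c12 LD2_c10 LD3_c54)) :=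
  Lre_e IH (LK LD1_c6 LD2_c17 LD3_c2) (LK LD1_c12 LD2_c10 LD3_c54) Lrfl Lrfl
theorem f568285 : Led Lsl_bf (LP (LK LD1_c11 LD2_c27 LD3_c30)) = (LP (LK LD1_c12 LD2_c10 LD3_c54)) :=
  Lgr Lrot96 (Lpr_et (f450473 IH) (Lpr_bt (f568283 IH) (Lpr_et (f546853 IH) (Lpn (LP (LK LD1_c12 LD2_c10 LD3_c54))))))
theorem f568287 : Led Lsl_bt (LP (LK LD1_c11 LD2_c27 LD3_c30)) = (LP (LK LD1_c12 LD2_c10 LD3_c54)) :=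
  Lgr Lrot127 (Lpr_bf (f568285 IH) (Lpn (LP (LK LD1_c12 LD2_c10 LD3_c54))))
theorem f580375 : Led Lsl_dt (LP (LK LD1_c12 LD2_c10 LD3_c54)) = (LP (LK LD1_c11 LD2_c6 LD3_c54)) :=
  Lgr Lrot79 (Lpe (f568287 IH) (Lpr_df (f580373 IH) (Lpr_bf (f381228 IH) (Lpn (LP (LK LD1_c11 LD2_c6 LD3_c54))))))
theorem f580165 : Led Lsl_at (LP (LK LD1_c7 LD2_c59 LD3_c28)) = (LP (LK LD1_c11 LD2_c6 LD3_c54)) :=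
  Lgr Lrot100 (Lpr_af (f580163 IH) (Lpn (LP (LK LD1_c11 LD2_c6 LD3_c54))))
theorem f548959 : Led Lsl_et (LP (LK LD1_c5 LD2_c49 LD3_c14)) = (LP (LK LD1_c11 LD2_c27 LD3_c36)) :=
  Lre_e IH (LK LD1_c5 LD2_c49 LD3_c14) (LK LD1_c11 LD2_c27 LD3_c36) Lrfl Lrfl
theorem f548960 : Led Lsl_df (LP (LK LD1_c7 LD2_c59 LD3_c28)) = (LP (LK LD1_c11 LD2_c27 LD3_c36)) :=
  Lgr Lrot70 (Lpr_et (f548958 IH) (Lpr_dt (f174555 IH) (Lpr_et (K41.f548957 IH) (Lpr_dt (K38.f548951 IH) (Lpr_et (f548959 IH) (Lpn (LP (LK LD1_c11 LD2_c27 LD3_c36))))))))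
theorem f450218 : Led Lsl_et (LP (LK LD1_c12 LD2_c10 LD3_c54)) = (LP (LK LD1_c6 LD2_c17 LD3_c2)) :=
  Lre_e IH (LK LD1_c12 LD2_c10 LD3_c54) (LK LD1_c6 LD2_c17 LD3_c2) Lrfl Lrfl
theorem f572328 : Led Lsl_dt (LP (LK LD1_c11 LD2_c6 LD3_c54)) = (LP (LK LD1_c12 LD2_c10 LD3_c54)) :=
  Lgr Lrot77 (Lpe (f381227 IH) (Lpr_df (K42.f572324 IH) (Lpr_ef (K42.f571855 IH) (Lpr_df (K39.f546851 IH) (Lpe (f450218 IH) (Lpn (LP (LK LD1_c12 LD2_c10 LD3_c54))))))))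
theorem f580195 : Led Lsl_af (LP (LK LD1_c11 LD2_c27 LD3_c36)) = (LP (LK LD1_c12 LD2_c10 LD3_c54)) :=
  Lgr Lrot117 (Lpe (f548960 IH) (Lpr_at (f580165 IH) (Lpr_dt (f572328 IH) (Lpn (LP (LK LD1_c12 LD2_c10 LD3_c54))))))
theorem f580199 : Led Lsl_at (LP (LK LD1_c11 LD2_c27 LD3_c36)) = (LP (LK LD1_c12 LD2_c10 LD3_c54)) :=
  Lgr Lrot100 (Lpr_af (f580195 IH) (Lpn (LP (LK LD1_c12 LD2_c10 LD3_c54))))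
theorem f580377 : Led Lsl_df (LP (LK LD1_c11 LD2_c27 LD3_c36)) = (LP (LK LD1_c7 LD2_c59 LD3_c28)) :=
  Lgr Lrot18 (Lpr_at (f580199 IH) (Lpr_dt (f580375 IH) (Lpe (f580163 IH) (Lpn (LP (LK LD1_c7 LD2_c59 LD3_c28))))))
theorem f566729 : Led Lsl_bt (LP (LK LD1_c15 LD2_c3 LD3_c61)) = (LP (LK LD1_c7 LD2_c59 LD3_c28)) :=
  Lre_b IH (LK LD1_c15 LD2_c3 LD3_c61) (LK LD1_c7 LD2_c59 LD3_c28) Lrfl Lrfl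
theorem f572994 : Led Lsl_et (LP (LK LD1_c11 LD2_c26 LD3_c49)) = (LP (LK LD1_c20 LD2_c24 LD3_c46)) :=
  Lre_e IH (LK LD1_c11 LD2_c26 LD3_c49) (LK LD1_c20 LD2_c24 LD3_c46) Lrfl Lrfl
theorem f423765 : Led Lsl_et (LP (LK LD1_c15 LD2_c3 LD3_c61)) = (LP (LK LD1_c7 LD2_c59 LD3_c22)) :=
  Lre_e IH (LK LD1_c15 LD2_c3 LD3_c61) (LK LD1_c7 LD2_c59 LD3_c22) Lrfl Lrfl
theorem f572995 : Led Lsl_dt (LP (LK LD1_c20 LD2_c24 LD3_c46)) = (LP (LK LD1_c15 LD2_c3 LD3_c61)) :=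
  Lgr Lrot77 (Lpe (f572994 IH) (Lpr_df (K43.f572986 IH) (Lpe (K42.f423764 IH) (Lpe (K39.f382090 IH) (Lpe (f423765 IH) (Lpn (LP (LK LD1_c15 LD2_c3 LD3_c61))))))))
theorem f580379 : Led Lsl_bt (LP (LK LD1_c11 LD2_c27 LD3_c36)) = (LP (LK LD1_c20 LD2_c24 LD3_c46)) :=
  Lgr Lrot95 (Lpr_df (f580377 IH) (Lpe (f566729 IH) (Lpe (f572995 IH) (Lpn (LP (LK LD1_c20 LD2_c24 LD3_c46))))))
theorem f580389 : Led Lsl_bf (LP (LK LD1_c11 LD2_c27 LD3_c36)) = (LP (LK LD1_c20 LD2_c24 LD3_c46)) :=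
  Lgr Lrot24 (Lpr_bt (f580379 IH) (Lpn (LP (LK LD1_c20 LD2_c24 LD3_c46))))
theorem f450462 : Led Lsl_et (LP (LK LD1_c11 LD2_c27 LD3_c36)) = (LP (LK LD1_c5 LD2_c49 LD3_c14)) :=
  Lre_e IH (LK LD1_c11 LD2_c27 LD3_c36) (LK LD1_c5 LD2_c49 LD3_c14) Lrfl Lrfl
theorem f580398 : Led Lsl_bt (LP (LK LD1_c5 LD2_c49 LD3_c14)) = (LP (LK LD1_c11 LD2_c26 LD3_c49)) :=
  Lgr Lrot119 (Lpe (f450462 IH) (Lpr_bf (f580389 IH) (Lpe (f572994 IH) (Lpn (LP (LK LD1_c11 LD2_c26 LD3_c49))))))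
theorem f96612 : Led Lsl_dt (LP (LK LD1_c13 LD2_c41 LD3_c23)) = (LP (LK LD1_c7 LD2_c14 LD3_c0)) :=
  Lre_d IH (LK LD1_c13 LD2_c41 LD3_c23) (LK LD1_c7 LD2_c14 LD3_c0) Lrfl Lrfl
theorem f559112 : Led Lsl_dt (LP (LK LD1_c2 LD2_c50 LD3_c41)) = (LP (LK LD1_c3 LD2_c36 LD3_c54)) :=
  Lgr Lrot105 (Lpr_gf (K40.f559108 IH) (Lpq (K37.f543803 IH) (Lpqs (K37.f543803 IH) (Lpe (K41.f519732 IH) (Lpe (K24.f18024 IH) (Lpe (K28.f97474 IH) (Lpr_gt (K28.f426565 IH) (Lpe (K28.f426505 IH) (Lpr_gt (K43.f426554 IH) (Lpr_dt (f96612 IH) (Lpe (K6.f17479 IH) (Lpn (LP (LK LD1_c3 LD2_c36 LD3_c54))))))))))))))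
theorem f162850 : Led Lsl_gf (LP (LK LD1_c3 LD2_c33 LD3_c28)) = (LP (LK LD1_c3 LD2_c36 LD3_c54)) :=
  Lgr Lrot47 (Lpr_gt (K8.f162848 IH) (Lpe (K42.f162483 IH) (Lpr_ff (K33.f162495 IH) (Lpn (LP (LK LD1_c3 LD2_c36 LD3_c54))))))
theorem f551670 : Led Lsl_dt (LP (LK LD1_c3 LD2_c33 LD3_c28)) = (LP (LK LD1_c4 LD2_c32 LD3_c34)) :=
  Lgr Lrot60 (Lpr_ff (K8.f162835 IH) (Lpe (K39.f160383 IH) (Lpr_ff (K39.f551668 IH) (Lpn (LP (LK LD1_c4 LD2_c32 LD3_c34))))))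
theorem f559114 : Led Lsl_gf (LP (LK LD1_c4 LD2_c32 LD3_c41)) = (LP (LK LD1_c6 LD2_c16 LD3_c13)) :=
  Lgr Lrot154 (Lpr_dt (K39.f181399 IH) (Lpr_ct (K37.f181332 IH) (Lpe (f551670 IH) (Lpr_gf (f162850 IH) (Lpe (f559112 IH) (Lpr_gf (K40.f559108 IH) (Lpq (K37.f543803 IH) (Lpr_ct (K37.f202261 IH) (Lpr_gt (K37.f202233 IH) (Lpr_dt (K42.f202235 IH) (Lpn (LP (LK LD1_c6 LD2_c16 LD3_c13)))))))))))))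
theorem f564297 : Led Lsl_gf (LP (LK LD1_c12 LD2_c10 LD3_c53)) = (LP (LK LD1_c9 LD2_c2 LD3_c51)) :=
  Lgr Lrot104 (Lpr_ct (K43.f450198 IH) (Lpe (K38.f450204 IH) (Lpr_cf (K41.f564283 IH) (Lpe (K40.f59104 IH) (Lpe (K40.f204469 IH) (Lpe (K37.f202278 IH) (Lpe (K42.f202269 IH) (Lpe (f559114 IH) (Lpr_ct (K37.f175523 IH) (Lpn (LP (LK LD1_c9 LD2_c2 LD3_c51))))))))))))
theorem f92300 : Led Lsl_ct (LP (LK LD1_c3 LD2_c39 LD3_c20)) = (LP (LK LD1_c7 LD2_c18 LD3_c53)) :=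
  Lre_c IH (LK LD1_c3 LD2_c39 LD3_c20) (LK LD1_c7 LD2_c18 LD3_c53) Lrfl Lrfl
theorem f568300 : Led Lsl_cf (LP (LK LD1_c11 LD2_c44 LD3_c35)) = (LP (LK LD1_c12 LD2_c10 LD3_c18)) :=
  Lgr Lrot99 (Lpr_df (K32.f426633 IH) (Lpe (f92300 IH) (Lpe (K28.f92296 IH) (Lpr_cf (K2.f94539 IH) (Lpr_gf (K3.f109018 IH) (Lpe (K3.f108996 IH) (Lpe (K4.f120254 IH) (Lpr_ct (K28.f120256 IH) (Lpr_gt (K42.f568294 IH) (Lpn (LP (LK LD1_c12 LD2_c10 LD3_c18))))))))))))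
theorem f568302 : Led Lsl_ct (LP (LK LD1_c5 LD2_c49 LD3_c14)) = (LP (LK LD1_c6 LD2_c0 LD3_c10)) :=
  Lgr Lrot151 (Lpe (K38.f450460 IH) (Lpe (K43.f450198 IH) (Lpr_gf (f564297 IH) (Lpe (K42.f543890 IH) (Lpr_gt (K42.f568294 IH) (Lpe (f568300 IH) (Lpr_gt (K32.f135980 IH) (Lpr_ct (K6.f110365 IH) (Lpr_dt (K43.f110364 IH) (Lpn (LP (LK LD1_c6 LD2_c0 LD3_c10))))))))))))
theorem f580402 : Led Lsl_gf (LP (LK LD1_c20 LD2_c12 LD3_c20)) = (LP (LK LD1_c11 LD2_c26 LD3_c49)) :=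
  Lgr Lrot181 (Lpr_ct (K42.f179928 IH) (Lpr_gt (K42.f568919 IH) (Lpe (K42.f496194 IH) (Lpr_bt (K42.f568897 IH) (Lpr_gt (K42.f569066 IH) (Lpr_bf (K43.f577654 IH) (Lpr_ct (K43.f503138 IH) (Lpe (K43.f577617 IH) (Lpe (f568302 IH) (Lpr_bt (f580398 IH) (Lpn (LP (LK LD1_c11 LD2_c26 LD3_c49)))))))))))))
theorem f567536 : Led Lsl_dt (LP (LK LD1_c5 LD2_c48 LD3_c45)) = (LP (LK LD1_c9 LD2_c1 LD3_c51)) :=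
  Lgr Lrot79 (Lpe (K40.f557396 IH) (Lpr_df (K41.f567533 IH) (Lpe (K41.f185837 IH) (Lpn (LP (LK LD1_c9 LD2_c1 LD3_c51))))))
theorem f119878 : Led Lsl_gt (LP (LK LD1_c11 LD2_c25 LD3_c11)) = (LP (LK LD1_c5 LD2_c47 LD3_c43)) :=
  Lre_g IH (LK LD1_c11 LD2_c25 LD3_c11) (LK LD1_c5 LD2_c47 LD3_c43) Lrfl Lrfl
theorem f567588 : Led Lsl_cf (LP (LK LD1_c11 LD2_c25 LD3_c11)) = (LP (LK LD1_c7 LD2_c12 LD3_c8)) :=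
  Lgr Lrot166 (Lpr_gt (f119878 IH) (Lpr_dt (K36.f119886 IH) (Lpe (K40.f557388 IH) (Lpr_dt (f567536 IH) (Lpr_ct (K41.f567577 IH) (Lpe (K41.f440240 IH) (Lpe (K3.f10765 IH) (Lpe (K8.f17909 IH) (Lpe (K8.f108539 IH) (Lpn (LP (LK LD1_c7 LD2_c12 LD3_c8))))))))))))
theorem f568873 : Led Lsl_df (LP (LK LD1_c11 LD2_c25 LD3_c11)) = (LP (LK LD1_c20 LD2_c12 LD3_c20)) :=
  Lgr Lrot162 (Lpr_cf (f567588 IH) (Lpr_gf (K42.f568865 IH) (Lpe (K40.f36481 IH) (Lpq (K40.f547083 IH) (Lpe (K40.f496200 IH) (Lpe (K42.f563614 IH) (Lpr_gt (K40.f172840 IH) (Lpr_ct (K37.f176857 IH) (Lpr_gt (K36.f179927 IH) (Lpr_ct (K42.f540109 IH) (Lpn (LP (LK LD1_c20 LD2_c12 LD3_c20)))))))))))))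
theorem f418509 : Led Lsl_dt (LP (LK LD1_c12 LD2_c8 LD3_c19)) = (LP (LK LD1_c6 LD2_c14 LD3_c60)) :=
  Lre_d IH (LK LD1_c12 LD2_c8 LD3_c19) (LK LD1_c6 LD2_c14 LD3_c60) Lrfl Lrfl
theorem f565170 : Led Lsl_ff (LP (LK LD1_c12 LD2_c8 LD3_c19)) = (LP (LK LD1_c11 LD2_c23 LD3_c1)) :=
  Lgr Lrot19 (Lpr_dt (f418509 IH) (Lpr_ft (K41.f565166 IH) (Lpr_dt (K38.f100243 IH) (Lpn (LP (LK LD1_c11 LD2_c23 LD3_c1))))))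
theorem f578266 : Led Lsl_ef (LP (LK LD1_c21 LD2_c14 LD3_c16)) = (LP (LK LD1_c22 LD2_c13 LD3_c13)) :=
  Lgr Lrot21 (Lpr_ft (K43.f578258 IH) (Lpe (K43.f425849 IH) (Lpe (f565170 IH) (Lpr_et (K43.f543138 IH) (Lpe (K43.f575128 IH) (Lpn (LP (LK LD1_c22 LD2_c13 LD3_c13))))))))
theorem f578282 : Led Lsl_et (LP (LK LD1_c21 LD2_c14 LD3_c16)) = (LP (LK LD1_c22 LD2_c13 LD3_c13)) :=
  Lgr Lrot87 (Lpr_ef (f578266 IH) (Lpn (LP (LK LD1_c22 LD2_c13 LD3_c13))))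
theorem f552969 : Led Lsl_dt (LP (LK LD1_c21 LD2_c14 LD3_c16)) = (LP (LK LD1_c12 LD2_c7 LD3_c61)) :=
  Lre_d IH (LK LD1_c21 LD2_c14 LD3_c16) (LK LD1_c12 LD2_c7 LD3_c61) Lrfl Lrfl
theorem f578248 : Led Lsl_ff (LP (LK LD1_c21 LD2_c14 LD3_c16)) = (LP (LK LD1_c16 LD2_c30 LD3_c17)) :=
  Lgr Lrot19 (Lpr_dt (f552969 IH) (Lpr_ft (K43.f578244 IH) (Lpr_dt (K43.f158173 IH) (Lpn (LP (LK LD1_c16 LD2_c30 LD3_c17))))))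
theorem f578286 : Led Lsl_ff (LP (LK LD1_c11 LD2_c23 LD3_c1)) = (LP (LK LD1_c12 LD2_c8 LD3_c19)) :=
  Lgr Lrot72 (Lpr_et (K43.f161548 IH) (Lpe (f578248 IH) (Lpr_et (f578282 IH) (Lpr_ft (K43.f575126 IH) (Lpr_et (K43.f575115 IH) (Lpn (LP (LK LD1_c12 LD2_c8 LD3_c19))))))))
theorem f575149 : Led Lsl_af (LP (LK LD1_c7 LD2_c18 LD3_c47)) = (LP (LK LD1_c11 LD2_c23 LD3_c1)) :=
  Lgr Lrot50 (Lpr_et (K43.f575146 IH) (Lpr_at (K43.f499037 IH) (Lpe (K43.f425849 IH) (Lpn (LP (LK LD1_c11 LD2_c23 LD3_c1))))))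
theorem f549503 : Led Lsl_gt (LP (LK LD1_c17 LD2_c12 LD3_c55)) = (LP (LK LD1_c9 LD2_c17 LD3_c51)) :=
  Lre_g IH (LK LD1_c17 LD2_c12 LD3_c55) (LK LD1_c9 LD2_c17 LD3_c51) Lrfl Lrfl
theorem f549512 : Led Lsl_df (LP (LK LD1_c11 LD2_c40 LD3_c39)) = (LP (LK LD1_c17 LD2_c12 LD3_c55)) :=
  Lgr Lrot155 (Lpe (K37.f426889 IH) (Lpr_ct (K37.f93542 IH) (Lpe (K8.f162648 IH) (Lpe (K4.f111847 IH) (Lpe (K37.f543969 IH) (Lpe (K35.f80183 IH) (Lpr_gf (K38.f549504 IH) (Lpe (K42.f544004 IH) (Lpe (f549503 IH) (Lpn (LP (LK LD1_c17 LD2_c12 LD3_c55))))))))))))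
theorem f565160 : Led Lsl_ct (LP (LK LD1_c6 LD2_c14 LD3_c60)) = (LP (LK LD1_c5 LD2_c47 LD3_c43)) :=
  Lgr Lrot15 (Lpr_ef (K41.f565154 IH) (Lpe (K32.f420343 IH) (Lpe (K36.f119877 IH) (Lpn (LP (LK LD1_c5 LD2_c47 LD3_c43))))))
theorem f578290 : Led Lsl_cf (LP (LK LD1_c17 LD2_c12 LD3_c55)) = (LP (LK LD1_c11 LD2_c25 LD3_c12)) :=
  Lgr Lrot116 (Lpe (f549512 IH) (Lpe (K37.f426883 IH) (Lpr_dt (K43.f127446 IH) (Lpe (K24.f116644 IH) (Lpr_af (f575149 IH) (Lpr_ff (f578286 IH) (Lpr_dt (f418509 IH) (Lpr_ct (f565160 IH) (Lpr_dt (K36.f119886 IH) (Lpn (LP (LK LD1_c11 LD2_c25 LD3_c12))))))))))))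
theorem f578296 : Led Lsl_ct (LP (LK LD1_c17 LD2_c12 LD3_c55)) = (LP (LK LD1_c11 LD2_c25 LD3_c12)) :=
  Lgr Lrot59 (Lpr_cf (f578290 IH) (Lpn (LP (LK LD1_c11 LD2_c25 LD3_c12))))
theorem f540261 : Led Lsl_df (LP (LK LD1_c13 LD2_c9 LD3_c58)) = (LP (LK LD1_c9 LD2_c15 LD3_c22)) :=
  Lgr Lrot157 (Lpr_ct (K4.f111853 IH) (Lpe (K4.f89577 IH) (Lpe (K7.f17912 IH) (Lpr_dt (K36.f540249 IH) (Lpe (K42.f36485 IH) (Lpr_dt (K38.f26922 IH) (Lpr_ct (K31.f26837 IH) (Lpe (K37.f26903 IH) (Lpe (K35.f538110 IH) (Lpn (LP (LK LD1_c9 LD2_c15 LD3_c22))))))))))))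
theorem f549510 : Led Lsl_dt (LP (LK LD1_c11 LD2_c40 LD3_c39)) = (LP (LK LD1_c17 LD2_c12 LD3_c55)) :=
  Lgr Lrot6 (Lpe (K37.f426889 IH) (Lpr_ct (K37.f93542 IH) (Lpe (K8.f162648 IH) (Lpe (K4.f111847 IH) (Lpr_df (f540261 IH) (Lpe (K35.f80183 IH) (Lpr_gf (K38.f549504 IH) (Lpe (K42.f544004 IH) (Lpe (f549503 IH) (Lpn (LP (LK LD1_c17 LD2_c12 LD3_c55))))))))))))
theorem f563874 : Led Lsl_df (LP (LK LD1_c14 LD2_c12 LD3_c31)) = (LP (LK LD1_c9 LD2_c17 LD3_c50)) :=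
  Lgr Lrot38 (Lpr_dt (K40.f563869 IH) (Lpn (LP (LK LD1_c9 LD2_c17 LD3_c50))))
theorem f565178 : Led Lsl_gf (LP (LK LD1_c6 LD2_c14 LD3_c61)) = (LP (LK LD1_c7 LD2_c41 LD3_c53)) :=
  Lgr Lrot144 (Lpr_dt (K37.f418052 IH) (Lpr_gt (K41.f565174 IH) (Lpr_dt (K41.f563616 IH) (Lpr_cf (K24.f116644 IH) (Lpe (K43.f127446 IH) (Lpe (K37.f126570 IH) (Lpr_df (K5.f127421 IH) (Lpe (K6.f136359 IH) (Lpe (K6.f66380 IH) (Lpn (LP (LK LD1_c7 LD2_c41 LD3_c53))))))))))))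
theorem f568452 : Led Lsl_df (LP (LK LD1_c4 LD2_c23 LD3_c26)) = (LP (LK LD1_c7 LD2_c41 LD3_c53)) :=
  Lgr Lrot155 (Lpr_gt (K42.f567178 IH) (Lpe (K40.f237365 IH) (Lpr_gt (K42.f568444 IH) (Lpe (K42.f546745 IH) (Lpr_dt (K8.f89685 IH) (Lpe (K3.f12040 IH) (Lpe (K8.f96333 IH) (Lpe (K43.f547062 IH) (Lpr_gf (f565178 IH) (Lpn (LP (LK LD1_c7 LD2_c41 LD3_c53))))))))))))
theorem f136409 : Led Lsl_dt (LP (LK LD1_c9 LD2_c49 LD3_c44)) = (LP (LK LD1_c4 LD2_c59 LD3_c39)) :=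
  Lre_d IH (LK LD1_c9 LD2_c49 LD3_c44) (LK LD1_c4 LD2_c59 LD3_c39) Lrfl Lrfl
theorem f565180 : Led Lsl_ct (LP (LK LD1_c17 LD2_c12 LD3_c54)) = (LP (LK LD1_c11 LD2_c25 LD3_c24)) :=
  Lgr Lrot110 (Lpe (K40.f301974 IH) (Lpe (K40.f301973 IH) (Lpe (K38.f26854 IH) (Lpe (K38.f26922 IH) (Lpr_gt (K41.f494675 IH) (Lpq (K41.f563541 IH) (Lpe (K40.f418045 IH) (Lpr_gt (K41.f565174 IH) (Lpe (K41.f142083 IH) (Lpe (K41.f142042 IH) (Lpn (LP (LK LD1_c11 LD2_c25 LD3_c24)))))))))))))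
theorem f569025 : Led Lsl_cf (LP (LK LD1_c16 LD2_c57 LD3_c35)) = (LP (LK LD1_c11 LD2_c26 LD3_c50)) :=
  Lgr Lrot166 (Lpr_gt (K42.f396307 IH) (Lpr_dt (K42.f569010 IH) (Lpr_gt (K43.f427055 IH) (Lpr_dt (K43.f563863 IH) (Lpr_ct (f565180 IH) (Lpe (K41.f142072 IH) (Lpe (K41.f557385 IH) (Lpe (K43.f537846 IH) (Lpe (K43.f569020 IH) (Lpn (LP (LK LD1_c11 LD2_c26 LD3_c50))))))))))))
theorem f501481 : Led Lsl_dt (LP (LK LD1_c9 LD2_c49 LD3_c51)) = (LP (LK LD1_c14 LD2_c59 LD3_c44)) :=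
  Lgr Lrot42 (Lpr_df (K36.f501477 IH) (Lpn (LP (LK LD1_c14 LD2_c59 LD3_c44))))
theorem f569008 : Led Lsl_dt (LP (LK LD1_c16 LD2_c57 LD3_c35)) = (LP (LK LD1_c14 LD2_c32 LD3_c8)) :=
  Lgr Lrot79 (Lpr_bf (K42.f569002 IH) (Lpe (f501481 IH) (Lpr_bf (K36.f501491 IH) (Lpn (LP (LK LD1_c14 LD2_c32 LD3_c8))))))
theorem f145199 : Led Lsl_dt (LP (LK LD1_c7 LD2_c6 LD3_c20)) = (LP (LK LD1_c13 LD2_c27 LD3_c51)) :=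
  Lre_d IH (LK LD1_c7 LD2_c6 LD3_c20) (LK LD1_c13 LD2_c27 LD3_c51) Lrfl Lrfl
theorem f579583 : Led Lsl_cf (LP (LK LD1_c9 LD2_c49 LD3_c44)) = (LP (LK LD1_c11 LD2_c26 LD3_c49)) :=
  Lgr Lrot55 (Lpr_dt (f136409 IH) (Lpe (K32.f136400 IH) (Lpr_dt (K32.f96525 IH) (Lpr_ct (K6.f64349 IH) (Lpe (f568452 IH) (Lpr_ct (K43.f567259 IH) (Lpr_dt (K43.f579578 IH) (Lpe (f569025 IH) (Lpr_dt (f569008 IH) (Lpr_ct (K36.f97927 IH) (Lpr_dt (K36.f97923 IH) (Lpr_ct (K37.f145193 IH) (Lpr_dt (f145199 IH) (Lpr_ct (K43.f574900 IH) (Lpe (K43.f572986 IH) (Lpn (LP (LK LD1_c11 LD2_c26 LD3_c49))))))))))))))))))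
theorem f580406 : Led Lsl_gf (LP (LK LD1_c9 LD2_c17 LD3_c50)) = (LP (LK LD1_c9 LD2_c49 LD3_c44)) :=
  Lgr Lrot148 (Lpe (f563874 IH) (Lpe (K37.f426898 IH) (Lpr_dt (f549510 IH) (Lpr_ct (f578296 IH) (Lpe (K36.f119886 IH) (Lpe (f119878 IH) (Lpr_df (f568873 IH) (Lpr_gf (f580402 IH) (Lpe (f579583 IH) (Lpn (LP (LK LD1_c9 LD2_c49 LD3_c44))))))))))))
theorem f580410 : Led Lsl_cf (LP (LK LD1_c11 LD2_c26 LD3_c49)) = (LP (LK LD1_c9 LD2_c49 LD3_c44)) :=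
  Lgr Lrot166 (Lpe (f580402 IH) (Lpe (f568873 IH) (Lpr_gt (f119878 IH) (Lpr_dt (K36.f119886 IH) (Lpe (f578290 IH) (Lpe (f549510 IH) (Lpr_gf (K37.f426898 IH) (Lpr_df (f563874 IH) (Lpr_gf (f580406 IH) (Lpn (LP (LK LD1_c9 LD2_c49 LD3_c44))))))))))))
theorem f72710 : Led Lsl_bt (LP (LK LD1_c9 LD2_c49 LD3_c44)) = (LP (LK LD1_c4 LD2_c59 LD3_c40)) :=
  Lre_b IH (LK LD1_c9 LD2_c49 LD3_c44) (LK LD1_c4 LD2_c59 LD3_c40) Lrfl Lrfl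
theorem f580504 : Led Lsl_bt (LP (LK LD1_c11 LD2_c16 LD3_c19)) = (LP (LK LD1_c6 LD2_c33 LD3_c20)) :=
  Lgr Lrot130 (Lpr_ct (K42.f540109 IH) (Lpr_gf (f580402 IH) (Lpr_cf (f580410 IH) (Lpr_bt (f72710 IH) (Lpr_gf (K4.f75340 IH) (Lpr_bf (K4.f76527 IH) (Lpr_ct (K2.f25102 IH) (Lpe (K2.f76686 IH) (Lpe (K42.f79035 IH) (Lpr_gf (K42.f128586 IH) (Lpn (LP (LK LD1_c6 LD2_c33 LD3_c20)))))))))))))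
theorem f112434 : Led Lsl_bt (LP (LK LD1_c8 LD2_c48 LD3_c19)) = (LP (LK LD1_c6 LD2_c18 LD3_c4)) :=
  Lgr Lrot127 (Lpr_bf (K4.f112432 IH) (Lpn (LP (LK LD1_c6 LD2_c18 LD3_c4))))
theorem f569006 : Led Lsl_bt (LP (LK LD1_c16 LD2_c57 LD3_c35)) = (LP (LK LD1_c14 LD2_c59 LD3_c44)) :=
  Lgr Lrot127 (Lpr_bf (K42.f569002 IH) (Lpn (LP (LK LD1_c14 LD2_c59 LD3_c44))))
theorem f580508 : Led Lsl_gt (LP (LK LD1_c20 LD2_c12 LD3_c20)) = (LP (LK LD1_c11 LD2_c26 LD3_c50)) :=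
  Lgr Lrot65 (Lpe (K42.f540109 IH) (Lpr_bt (f580504 IH) (Lpe (K42.f128589 IH) (Lpe (f112434 IH) (Lpr_ct (K8.f112436 IH) (Lpe (K6.f112456 IH) (Lpe (K8.f112462 IH) (Lpr_gf (K8.f138141 IH) (Lpe (f569006 IH) (Lpr_ct (K43.f569021 IH) (Lpn (LP (LK LD1_c11 LD2_c26 LD3_c50)))))))))))))
theorem f568871 : Led Lsl_dt (LP (LK LD1_c11 LD2_c25 LD3_c11)) = (LP (LK LD1_c20 LD2_c12 LD3_c20)) :=
  Lgr Lrot27 (Lpr_cf (f567588 IH) (Lpr_gf (K42.f568865 IH) (Lpe (K40.f36481 IH) (Lpq (K40.f547083 IH) (Lpe (K40.f496200 IH) (Lpe (K40.f558278 IH) (Lpr_gt (K40.f172840 IH) (Lpr_ct (K37.f176857 IH) (Lpr_gt (K36.f179927 IH) (Lpr_ct (K42.f540109 IH) (Lpn (LP (LK LD1_c20 LD2_c12 LD3_c20)))))))))))))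
theorem f580517 : Led Lsl_et (LP (LK LD1_c11 LD2_c25 LD3_c11)) = (LP (LK LD1_c20 LD2_c0 LD3_c36)) :=
  Lgr Lrot122 (Lpr_dt (f568871 IH) (Lpr_gt (f580508 IH) (Lpe (K43.f579578 IH) (Lpr_et (K43.f424202 IH) (Lpe (K39.f424193 IH) (Lpe (K39.f423641 IH) (Lpr_gt (K39.f423644 IH) (Lpr_df (K42.f557738 IH) (Lpr_et (K42.f557741 IH) (Lpr_gt (K42.f557742 IH) (Lpn (LP (LK LD1_c20 LD2_c0 LD3_c36)))))))))))))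
theorem f570280 : Led Lsl_gt (LP (LK LD1_c11 LD2_c8 LD3_c5)) = (LP (LK LD1_c5 LD2_c38 LD3_c24)) :=
  Lre_g IH (LK LD1_c11 LD2_c8 LD3_c5) (LK LD1_c5 LD2_c38 LD3_c24) Lrfl Lrfl
theorem f578970 : Led Lsl_df (LP (LK LD1_c16 LD2_c58 LD3_c42)) = (LP (LK LD1_c11 LD2_c8 LD3_c5)) :=
  Lgr Lrot155 (Lpr_gt (K40.f548296 IH) (Lpr_ct (K40.f548276 IH) (Lpr_gt (K40.f186441 IH) (Lpr_ct (K43.f412371 IH) (Lpr_dt (K36.f175411 IH) (Lpe (K36.f186112 IH) (Lpr_gf (K43.f578966 IH) (Lpe (K43.f422737 IH) (Lpe (f570280 IH) (Lpn (LP (LK LD1_c11 LD2_c8 LD3_c5))))))))))))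
theorem f580525 : Led Lsl_gf (LP (LK LD1_c11 LD2_c8 LD3_c5)) = (LP (LK LD1_c20 LD2_c0 LD3_c36)) :=
  Lgr Lrot138 (Lpe (f578970 IH) (Lpr_gt (K40.f548296 IH) (Lpe (K43.f541448 IH) (Lpr_et (K43.f573311 IH) (Lpe (K31.f382084 IH) (Lpe (K43.f382092 IH) (Lpe (K43.f572986 IH) (Lpe (f580402 IH) (Lpe (f568871 IH) (Lpr_et (f580517 IH) (Lpn (LP (LK LD1_c20 LD2_c0 LD3_c36)))))))))))))
theorem f570282 : Led Lsl_at (LP (LK LD1_c11 LD2_c8 LD3_c6)) = (LP (LK LD1_c5 LD2_c38 LD3_c24)) :=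
  Lre_a IH (LK LD1_c11 LD2_c8 LD3_c6) (LK LD1_c5 LD2_c38 LD3_c24) Lrfl Lrfl
theorem f580527 : Led Lsl_ff (LP (LK LD1_c11 LD2_c8 LD3_c6)) = (LP (LK LD1_c20 LD2_c0 LD3_c36)) :=
  Lgr Lrot52 (Lpr_at (f570282 IH) (Lpe (f570280 IH) (Lpr_gf (f580525 IH) (Lpn (LP (LK LD1_c20 LD2_c0 LD3_c36))))))
theorem f580533 : Led Lsl_ft (LP (LK LD1_c11 LD2_c8 LD3_c6)) = (LP (LK LD1_c20 LD2_c0 LD3_c36)) :=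
  Lgr Lrot48 (Lpr_ff (f580527 IH) (Lpn (LP (LK LD1_c20 LD2_c0 LD3_c36))))
theorem f580535 : Led Lsl_cf (LP (LK LD1_c11 LD2_c8 LD3_c6)) = (LP (LK LD1_c16 LD2_c34 LD3_c33)) :=
  Lgr Lrot108 (Lpr_ft (f580533 IH) (Lpe (K43.f572661 IH) (Lpr_ft (K43.f578958 IH) (Lpn (LP (LK LD1_c16 LD2_c34 LD3_c33))))))
theorem f538000 : Led Lsl_ct (LP (LK LD1_c2 LD2_c15 LD3_c61)) = (LP (LK LD1_c4 LD2_c37 LD3_c38)) :=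
  Lre_c IH (LK LD1_c2 LD2_c15 LD3_c61) (LK LD1_c4 LD2_c37 LD3_c38) Lrfl Lrfl
theorem f538137 : Led Lsl_gt (LP (LK LD1_c4 LD2_c37 LD3_c38)) = (LP (LK LD1_c9 LD2_c10 LD3_c53)) :=
  Lre_g IH (LK LD1_c4 LD2_c37 LD3_c38) (LK LD1_c9 LD2_c10 LD3_c53) Lrfl Lrfl
theorem f538138 : Led Lsl_ct (LP (LK LD1_c9 LD2_c10 LD3_c53)) = (LP (LK LD1_c17 LD2_c4 LD3_c8)) :=
  Lre_c IH (LK LD1_c9 LD2_c10 LD3_c53) (LK LD1_c17 LD2_c4 LD3_c8) Lrfl Lrfl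
theorem f580543 : Led Lsl_df (LP (LK LD1_c11 LD2_c8 LD3_c6)) = (LP (LK LD1_c17 LD2_c4 LD3_c8)) :=
  Lgr Lrot162 (Lpr_cf (f580535 IH) (Lpe (K40.f210964 IH) (Lpr_cf (K36.f542678 IH) (Lpe (K42.f568442 IH) (Lpe (K42.f538132 IH) (Lpr_gt (K42.f80218 IH) (Lpr_ct (f538000 IH) (Lpr_gt (f538137 IH) (Lpr_ct (f538138 IH) (Lpn (LP (LK LD1_c17 LD2_c4 LD3_c8))))))))))))
theorem f580531 : Led Lsl_ct (LP (LK LD1_c11 LD2_c8 LD3_c6)) = (LP (LK LD1_c16 LD2_c34 LD3_c33)) :=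
  Lgr Lrot40 (Lpr_ff (f580527 IH) (Lpr_cf (K42.f572571 IH) (Lpr_ff (K43.f577293 IH) (Lpn (LP (LK LD1_c16 LD2_c34 LD3_c33))))))
theorem f573027 : Led Lsl_bf (LP (LK LD1_c8 LD2_c43 LD3_c34)) = (LP (LK LD1_c4 LD2_c24 LD3_c51)) :=
  Lgr Lrot24 (Lpr_bt (K43.f573025 IH) (Lpn (LP (LK LD1_c4 LD2_c24 LD3_c51))))
theorem f547559 : Led Lsl_at (LP (LK LD1_c8 LD2_c43 LD3_c34)) = (LP (LK LD1_c4 LD2_c37 LD3_c28)) :=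
  Lgr Lrot66 (Lpr_ff (K38.f547557 IH) (Lpr_af (K42.f137822 IH) (Lpe (K42.f538572 IH) (Lpn (LP (LK LD1_c4 LD2_c37 LD3_c28))))))
theorem f565424 : Led Lsl_af (LP (LK LD1_c4 LD2_c36 LD3_c21)) = (LP (LK LD1_c7 LD2_c59 LD3_c54)) :=
  Lgr Lrot31 (Lpe (K41.f565083 IH) (Lpr_gf (K41.f565421 IH) (Lpr_ft (K42.f547504 IH) (Lpn (LP (LK LD1_c7 LD2_c59 LD3_c54))))))
theorem f569406 : Led Lsl_af (LP (LK LD1_c4 LD2_c36 LD3_c23)) = (LP (LK LD1_c9 LD2_c8 LD3_c18)) :=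
  Lgr Lrot45 (Lpr_ft (K42.f547504 IH) (Lpe (f565424 IH) (Lpr_ft (K42.f569404 IH) (Lpn (LP (LK LD1_c9 LD2_c8 LD3_c18))))))
theorem f573045 : Led Lsl_bt (LP (LK LD1_c4 LD2_c37 LD3_c28)) = (LP (LK LD1_c9 LD2_c8 LD3_c18)) :=
  Lgr Lrot62 (Lpe (f547559 IH) (Lpr_bf (f573027 IH) (Lpr_af (K43.f573041 IH) (Lpr_bf (K41.f210627 IH) (Lpr_af (f569406 IH) (Lpn (LP (LK LD1_c9 LD2_c8 LD3_c18))))))))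
theorem f573134 : Led Lsl_cf (LP (LK LD1_c4 LD2_c34 LD3_c58)) = (LP (LK LD1_c4 LD2_c37 LD3_c28)) :=
  Lgr Lrot160 (Lpe (K41.f565092 IH) (Lpe (K43.f556617 IH) (Lpr_bt (K39.f158179 IH) (Lpr_gt (K42.f565844 IH) (Lpr_ct (K41.f138757 IH) (Lpr_gt (K42.f570622 IH) (Lpe (K42.f421360 IH) (Lpe (K41.f565377 IH) (Lpr_gt (K43.f573129 IH) (Lpe (f573045 IH) (Lpn (LP (LK LD1_c4 LD2_c37 LD3_c28)))))))))))))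
theorem f565100 : Led Lsl_dt (LP (LK LD1_c6 LD2_c13 LD3_c22)) = (LP (LK LD1_c12 LD2_c5 LD3_c34)) :=
  Lre_d IH (LK LD1_c6 LD2_c13 LD3_c22) (LK LD1_c12 LD2_c5 LD3_c34) Lrfl Lrfl
theorem f580551 : Led Lsl_gt (LP (LK LD1_c12 LD2_c5 LD3_c34)) = (LP (LK LD1_c17 LD2_c4 LD3_c8)) :=
  Lgr Lrot49 (Lpe (f565100 IH) (Lpr_gf (K41.f565092 IH) (Lpr_cf (f573134 IH) (Lpr_gt (K36.f119048 IH) (Lpr_dt (K42.f80118 IH) (Lpr_gt (K42.f538578 IH) (Lpr_dt (K43.f577900 IH) (Lpe (f580531 IH) (Lpr_df (f580543 IH) (Lpn (LP (LK LD1_c17 LD2_c4 LD3_c8))))))))))))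
theorem f72288 : Led Lsl_gt (LP (LK LD1_c16 LD2_c57 LD3_c56)) = (LP (LK LD1_c9 LD2_c6 LD3_c13)) :=
  Lre_g IH (LK LD1_c16 LD2_c57 LD3_c56) (LK LD1_c9 LD2_c6 LD3_c13) Lrfl Lrfl
theorem f580541 : Led Lsl_dt (LP (LK LD1_c11 LD2_c8 LD3_c6)) = (LP (LK LD1_c17 LD2_c4 LD3_c8)) :=
  Lgr Lrot27 (Lpr_cf (f580535 IH) (Lpe (K40.f210964 IH) (Lpr_cf (K36.f542678 IH) (Lpe (K42.f568442 IH) (Lpe (K42.f538134 IH) (Lpr_gt (K42.f80218 IH) (Lpr_ct (f538000 IH) (Lpr_gt (f538137 IH) (Lpr_ct (f538138 IH) (Lpn (LP (LK LD1_c17 LD2_c4 LD3_c8))))))))))))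
theorem f579560 : Led Lsl_ct (LP (LK LD1_c15 LD2_c26 LD3_c31)) = (LP (LK LD1_c11 LD2_c38 LD3_c8)) :=
  Lgr Lrot59 (Lpr_cf (K43.f579558 IH) (Lpn (LP (LK LD1_c11 LD2_c38 LD3_c8))))
theorem f580539 : Led Lsl_et (LP (LK LD1_c11 LD2_c8 LD3_c6)) = (LP (LK LD1_c15 LD2_c26 LD3_c31)) :=
  Lgr Lrot158 (Lpr_cf (f580535 IH) (Lpe (K40.f547350 IH) (Lpe (f579560 IH) (Lpn (LP (LK LD1_c15 LD2_c26 LD3_c31))))))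
theorem f210777 : Led Lsl_ct (LP (LK LD1_c11 LD2_c8 LD3_c26)) = (LP (LK LD1_c5 LD2_c38 LD3_c43)) :=
  Lre_c IH (LK LD1_c11 LD2_c8 LD3_c26) (LK LD1_c5 LD2_c38 LD3_c43) Lrfl Lrfl
theorem f272701 : Led Lsl_bt (LP (LK LD1_c4 LD2_c25 LD3_c34)) = (LP (LK LD1_c8 LD2_c48 LD3_c40)) :=
  Lre_b IH (LK LD1_c4 LD2_c25 LD3_c34) (LK LD1_c8 LD2_c48 LD3_c40) Lrfl Lrfl
theorem f210719 : Led Lsl_bt (LP (LK LD1_c11 LD2_c8 LD3_c24)) = (LP (LK LD1_c5 LD2_c38 LD3_c42)) :=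
  Lre_b IH (LK LD1_c11 LD2_c8 LD3_c24) (LK LD1_c5 LD2_c38 LD3_c42) Lrfl Lrfl
theorem f449712 : Led Lsl_ft (LP (LK LD1_c8 LD2_c48 LD3_c40)) = (LP (LK LD1_c11 LD2_c8 LD3_c24)) :=
  Lgr Lrot75 (Lpe (f272701 IH) (Lpr_ff (K36.f449710 IH) (Lpe (f210719 IH) (Lpn (LP (LK LD1_c11 LD2_c8 LD3_c24))))))
theorem f571977 : Led Lsl_af (LP (LK LD1_c8 LD2_c49 LD3_c31)) = (LP (LK LD1_c11 LD2_c8 LD3_c24)) :=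
  Lgr Lrot45 (Lpr_ft (K42.f571964 IH) (Lpr_at (K42.f418578 IH) (Lpr_ft (f449712 IH) (Lpn (LP (LK LD1_c11 LD2_c8 LD3_c24))))))
theorem f571992 : Led Lsl_af (LP (LK LD1_c5 LD2_c38 LD3_c41)) = (LP (LK LD1_c9 LD2_c17 LD3_c49)) :=
  Lgr Lrot117 (Lpr_dt (K42.f450491 IH) (Lpe (f571977 IH) (Lpr_dt (K42.f571985 IH) (Lpn (LP (LK LD1_c9 LD2_c17 LD3_c49))))))
theorem f572971 : Led Lsl_gf (LP (LK LD1_c5 LD2_c38 LD3_c41)) = (LP (LK LD1_c11 LD2_c6 LD3_c11)) :=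
  Lgr Lrot76 (Lpr_af (f571992 IH) (Lpe (K42.f564277 IH) (Lpr_gt (K43.f572969 IH) (Lpn (LP (LK LD1_c11 LD2_c6 LD3_c11))))))
theorem f579564 : Led Lsl_gt (LP (LK LD1_c15 LD2_c26 LD3_c31)) = (LP (LK LD1_c11 LD2_c7 LD3_c2)) :=
  Lgr Lrot65 (Lpr_cf (K43.f579558 IH) (Lpe (K43.f577319 IH) (Lpr_gf (K43.f577295 IH) (Lpe (K43.f570238 IH) (Lpr_ct (f210777 IH) (Lpe (K42.f24556 IH) (Lpe (K42.f210776 IH) (Lpr_gf (f572971 IH) (Lpe (K43.f565139 IH) (Lpr_ct (K43.f565141 IH) (Lpn (LP (LK LD1_c11 LD2_c7 LD3_c2)))))))))))))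
theorem f580561 : Led Lsl_df (LP (LK LD1_c16 LD2_c57 LD3_c56)) = (LP (LK LD1_c11 LD2_c7 LD3_c2)) :=
  Lgr Lrot135 (Lpr_gt (f72288 IH) (Lpe (K42.f130557 IH) (Lpr_et (K42.f141953 IH) (Lpr_gt (K8.f148938 IH) (Lpr_ef (K42.f572031 IH) (Lpr_dt (f565100 IH) (Lpr_gt (f580551 IH) (Lpe (f580541 IH) (Lpr_et (f580539 IH) (Lpr_gt (f579564 IH) (Lpn (LP (LK LD1_c11 LD2_c7 LD3_c2)))))))))))))
theorem f211892 : Led Lsl_et (LP (LK LD1_c5 LD2_c37 LD3_c53)) = (LP (LK LD1_c2 LD2_c44 LD3_c51)) :=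
  Lre_e IH (LK LD1_c5 LD2_c37 LD3_c53) (LK LD1_c2 LD2_c44 LD3_c51) Lrfl Lrfl
theorem f557732 : Led Lsl_gf (LP (LK LD1_c11 LD2_c36 LD3_c50)) = (LP (LK LD1_c8 LD2_c0 LD3_c9)) :=
  Lgr Lrot47 (Lpr_gt (K40.f557730 IH) (Lpe (K40.f158397 IH) (Lpe (K36.f421454 IH) (Lpn (LP (LK LD1_c8 LD2_c0 LD3_c9))))))
theorem f580571 : Led Lsl_gf (LP (LK LD1_c16 LD2_c57 LD3_c56)) = (LP (LK LD1_c20 LD2_c35 LD3_c6)) :=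
  Lgr Lrot134 (Lpr_df (f580561 IH) (Lpr_et (K43.f552491 IH) (Lpr_gt (K39.f211852 IH) (Lpe (f211892 IH) (Lpr_dt (K43.f574503 IH) (Lpe (K43.f574501 IH) (Lpe (K43.f427976 IH) (Lpr_et (K36.f427969 IH) (Lpe (f557732 IH) (Lpr_dt (K43.f500537 IH) (Lpn (LP (LK LD1_c20 LD2_c35 LD3_c6)))))))))))))
theorem f425921 : Led Lsl_cf (LP (LK LD1_c4 LD2_c25 LD3_c60)) = (LP (LK LD1_c8 LD2_c0 LD3_c4)) :=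
  Lgr Lrot11 (Lpr_ct (K40.f161264 IH) (Lpn (LP (LK LD1_c8 LD2_c0 LD3_c4))))
theorem f545917 : Led Lsl_ff (LP (LK LD1_c4 LD2_c25 LD3_c39)) = (LP (LK LD1_c2 LD2_c54 LD3_c47)) :=
  Lgr Lrot19 (Lpr_dt (K41.f99756 IH) (Lpr_ft (K37.f545905 IH) (Lpr_dt (K37.f500548 IH) (Lpn (LP (LK LD1_c2 LD2_c54 LD3_c47))))))
theorem f101277 : Led Lsl_at (LP (LK LD1_c4 LD2_c25 LD3_c39)) = (LP (LK LD1_c2 LD2_c10 LD3_c27)) :=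
  Lre_a IH (LK LD1_c4 LD2_c25 LD3_c39) (LK LD1_c2 LD2_c10 LD3_c27) Lrfl Lrfl
theorem f569391 : Led Lsl_gf (LP (LK LD1_c2 LD2_c10 LD3_c27)) = (LP (LK LD1_c4 LD2_c25 LD3_c60)) :=
  Lgr Lrot76 (Lpe (f101277 IH) (Lpr_ff (f545917 IH) (Lpr_gt (K42.f569389 IH) (Lpn (LP (LK LD1_c4 LD2_c25 LD3_c60))))))
theorem f186017 : Led Lsl_ct (LP (LK LD1_c4 LD2_c38 LD3_c27)) = (LP (LK LD1_c2 LD2_c16 LD3_c16)) :=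
  Lre_c IH (LK LD1_c4 LD2_c38 LD3_c27) (LK LD1_c2 LD2_c16 LD3_c16) Lrfl Lrfl
theorem f176069 : Led Lsl_gt (LP (LK LD1_c9 LD2_c12 LD3_c44)) = (LP (LK LD1_c4 LD2_c38 LD3_c27)) :=
  Lre_g IH (LK LD1_c9 LD2_c12 LD3_c44) (LK LD1_c4 LD2_c38 LD3_c27) Lrfl Lrfl
theorem f580575 : Led Lsl_ct (LP (LK LD1_c16 LD2_c57 LD3_c56)) = (LP (LK LD1_c9 LD2_c12 LD3_c44)) :=
  Lgr Lrot152 (Lpr_gf (f580571 IH) (Lpe (K43.f500537 IH) (Lpr_gt (K40.f557730 IH) (Lpe (f425921 IH) (Lpe (f569391 IH) (Lpr_ct (K37.f192780 IH) (Lpe (K40.f494500 IH) (Lpe (f186017 IH) (Lpe (f176069 IH) (Lpn (LP (LK LD1_c9 LD2_c12 LD3_c44))))))))))))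
theorem f176771 : Led Lsl_ct (LP (LK LD1_c4 LD2_c39 LD3_c20)) = (LP (LK LD1_c9 LD2_c14 LD3_c19)) :=
  Lre_c IH (LK LD1_c4 LD2_c39 LD3_c20) (LK LD1_c9 LD2_c14 LD3_c19) Lrfl Lrfl
theorem f412374 : Led Lsl_gt (LP (LK LD1_c9 LD2_c14 LD3_c19)) = (LP (LK LD1_c17 LD2_c8 LD3_c38)) :=
  Lre_g IH (LK LD1_c9 LD2_c14 LD3_c19) (LK LD1_c17 LD2_c8 LD3_c38) Lrfl Lrfl
theorem f557750 : Led Lsl_dt (LP (LK LD1_c8 LD2_c49 LD3_c21)) = (LP (LK LD1_c16 LD2_c29 LD3_c59)) :=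
  Lre_d IH (LK LD1_c8 LD2_c49 LD3_c21) (LK LD1_c16 LD2_c29 LD3_c59) Lrfl Lrfl
theorem f557758 : Led Lsl_bf (LP (LK LD1_c20 LD2_c35 LD3_c6)) = (LP (LK LD1_c16 LD2_c29 LD3_c59)) :=
  Lgr Lrot93 (Lpr_dt (K43.f500536 IH) (Lpr_bt (K40.f557751 IH) (Lpr_dt (f557750 IH) (Lpn (LP (LK LD1_c16 LD2_c29 LD3_c59))))))
theorem f580577 : Led Lsl_cf (LP (LK LD1_c17 LD2_c8 LD3_c38)) = (LP (LK LD1_c16 LD2_c29 LD3_c59)) :=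
  Lgr Lrot58 (Lpe (f412374 IH) (Lpe (f176771 IH) (Lpr_bt (K36.f101529 IH) (Lpe (K9.f169774 IH) (Lpe (K43.f176067 IH) (Lpr_ct (K37.f176068 IH) (Lpe (f176069 IH) (Lpe (f580575 IH) (Lpr_gf (f580571 IH) (Lpr_bf (f557758 IH) (Lpn (LP (LK LD1_c16 LD2_c29 LD3_c59)))))))))))))
theorem f548290 : Led Lsl_cf (LP (LK LD1_c9 LD2_c6 LD3_c39)) = (LP (LK LD1_c11 LD2_c51 LD3_c7)) :=
  Lgr Lrot11 (Lpr_ct (K40.f548276 IH) (Lpn (LP (LK LD1_c11 LD2_c51 LD3_c7))))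
theorem f544943 : Led Lsl_ct (LP (LK LD1_c5 LD2_c50 LD3_c59)) = (LP (LK LD1_c11 LD2_c29 LD3_c28)) :=
  Lre_c IH (LK LD1_c5 LD2_c50 LD3_c59) (LK LD1_c11 LD2_c29 LD3_c28) Lrfl Lrfl
theorem f573327 : Led Lsl_ff (LP (LK LD1_c11 LD2_c51 LD3_c7)) = (LP (LK LD1_c11 LD2_c29 LD3_c28)) :=
  Lgr Lrot23 (Lpe (f548290 IH) (Lpr_ft (K43.f573323 IH) (Lpr_ct (f544943 IH) (Lpn (LP (LK LD1_c11 LD2_c29 LD3_c28))))))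
theorem f544944 : Led Lsl_gt (LP (LK LD1_c11 LD2_c29 LD3_c28)) = (LP (LK LD1_c9 LD2_c14 LD3_c19)) :=
  Lgr Lrot65 (Lpe (f544943 IH) (Lpr_bt (K43.f208544 IH) (Lpr_gf (K38.f544935 IH) (Lpe (K36.f176515 IH) (Lpe (K9.f176518 IH) (Lpe (K9.f24002 IH) (Lpe (K10.f9402 IH) (Lpe (K9.f26684 IH) (Lpe (K36.f101529 IH) (Lpr_ct (f176771 IH) (Lpn (LP (LK LD1_c9 LD2_c14 LD3_c19)))))))))))))
theorem f573333 : Led Lsl_at (LP (LK LD1_c11 LD2_c51 LD3_c7)) = (LP (LK LD1_c17 LD2_c8 LD3_c38)) :=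
  Lgr Lrot26 (Lpr_ff (f573327 IH) (Lpr_gt (f544944 IH) (Lpr_gt (f412374 IH) (Lpn (LP (LK LD1_c17 LD2_c8 LD3_c38))))))
theorem f208573 : Led Lsl_at (LP (LK LD1_c5 LD2_c50 LD3_c59)) = (LP (LK LD1_c11 LD2_c29 LD3_c24)) :=
  Lre_a IH (LK LD1_c5 LD2_c50 LD3_c59) (LK LD1_c11 LD2_c29 LD3_c24) Lrfl Lrfl
theorem f137828 : Led Lsl_ct (LP (LK LD1_c11 LD2_c29 LD3_c28)) = (LP (LK LD1_c5 LD2_c50 LD3_c59)) :=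
  Lre_c IH (LK LD1_c11 LD2_c29 LD3_c28) (LK LD1_c5 LD2_c50 LD3_c59) Lrfl Lrfl
theorem f545286 : Led Lsl_at (LP (LK LD1_c11 LD2_c51 LD3_c6)) = (LP (LK LD1_c11 LD2_c29 LD3_c28)) :=
  Lgr Lrot107 (Lpr_cf (K38.f545284 IH) (Lpe (f208573 IH) (Lpe (f137828 IH) (Lpn (LP (LK LD1_c11 LD2_c29 LD3_c28))))))
theorem f573340 : Led Lsl_ff (LP (LK LD1_c11 LD2_c51 LD3_c6)) = (LP (LK LD1_c17 LD2_c8 LD3_c38)) :=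
  Lgr Lrot30 (Lpr_at (f545286 IH) (Lpe (f573327 IH) (Lpr_at (f573333 IH) (Lpn (LP (LK LD1_c17 LD2_c8 LD3_c38))))))
theorem f580587 : Led Lsl_ft (LP (LK LD1_c11 LD2_c29 LD3_c24)) = (LP (LK LD1_c16 LD2_c29 LD3_c59)) :=
  Lgr Lrot4 (Lpe (K38.f545288 IH) (Lpr_ff (f573340 IH) (Lpr_cf (f580577 IH) (Lpn (LP (LK LD1_c16 LD2_c29 LD3_c59))))))
theorem f580591 : Led Lsl_ff (LP (LK LD1_c11 LD2_c29 LD3_c24)) = (LP (LK LD1_c16 LD2_c29 LD3_c59)) :=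
  Lgr Lrot3 (Lpr_ft (f580587 IH) (Lpn (LP (LK LD1_c16 LD2_c29 LD3_c59))))
theorem f208545 : Led Lsl_at (LP (LK LD1_c11 LD2_c29 LD3_c24)) = (LP (LK LD1_c5 LD2_c50 LD3_c59)) :=
  Lre_a IH (LK LD1_c11 LD2_c29 LD3_c24) (LK LD1_c5 LD2_c50 LD3_c59) Lrfl Lrfl
theorem f112853 : Led Lsl_gt (LP (LK LD1_c11 LD2_c29 LD3_c27)) = (LP (LK LD1_c5 LD2_c50 LD3_c59)) :=
  Lre_g IH (LK LD1_c11 LD2_c29 LD3_c27) (LK LD1_c5 LD2_c50 LD3_c59) Lrfl Lrfl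
theorem f580593 : Led Lsl_gf (LP (LK LD1_c11 LD2_c29 LD3_c27)) = (LP (LK LD1_c16 LD2_c29 LD3_c59)) :=
  Lgr Lrot47 (Lpr_gt (f112853 IH) (Lpe (f208545 IH) (Lpr_ff (f580591 IH) (Lpn (LP (LK LD1_c16 LD2_c29 LD3_c59))))))
theorem f542676 : Led Lsl_bf (LP (LK LD1_c2 LD2_c30 LD3_c13)) = (LP (LK LD1_c4 LD2_c39 LD3_c48)) :=
  Lgr Lrot61 (Lpe (K15.f268430 IH) (Lpr_bt (K36.f100657 IH) (Lpr_ft (K36.f542674 IH) (Lpn (LP (LK LD1_c4 LD2_c39 LD3_c48))))))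
theorem f577786 : Led Lsl_gt (LP (LK LD1_c8 LD2_c45 LD3_c53)) = (LP (LK LD1_c8 LD2_c51 LD3_c56)) :=
  Lgr Lrot149 (Lpe (K43.f577784 IH) (Lpr_gf (K43.f577782 IH) (Lpe (K43.f211980 IH) (Lpe (K43.f552477 IH) (Lpr_gf (K40.f556080 IH) (Lpe (K39.f198495 IH) (Lpr_bt (K39.f24454 IH) (Lpe (K10.f177755 IH) (Lpr_bf (f542676 IH) (Lpe (K36.f542678 IH) (Lpn (LP (LK LD1_c8 LD2_c51 LD3_c56)))))))))))))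
theorem f273159 : Led Lsl_ft (LP (LK LD1_c9 LD2_c51 LD3_c26)) = (LP (LK LD1_c8 LD2_c51 LD3_c56)) :=
  Lgr Lrot48 (Lpr_ff (K36.f273157 IH) (Lpn (LP (LK LD1_c8 LD2_c51 LD3_c56))))
theorem f542670 : Led Lsl_ct (LP (LK LD1_c8 LD2_c51 LD3_c56)) = (LP (LK LD1_c4 LD2_c39 LD3_c48)) :=
  Lgr Lrot40 (Lpe (f273159 IH) (Lpe (K38.f175567 IH) (Lpr_ff (K36.f542663 IH) (Lpn (LP (LK LD1_c4 LD2_c39 LD3_c48))))))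
theorem f101530 : Led Lsl_ct (LP (LK LD1_c9 LD2_c14 LD3_c19)) = (LP (LK LD1_c4 LD2_c39 LD3_c20)) :=
  Lre_c IH (LK LD1_c9 LD2_c14 LD3_c19) (LK LD1_c4 LD2_c39 LD3_c20) Lrfl Lrfl
theorem f577794 : Led Lsl_df (LP (LK LD1_c16 LD2_c49 LD3_c35)) = (LP (LK LD1_c11 LD2_c29 LD3_c27)) :=
  Lgr Lrot155 (Lpe (K43.f577782 IH) (Lpr_ct (K43.f577784 IH) (Lpr_gt (f577786 IH) (Lpr_ct (f542670 IH) (Lpe (K36.f542680 IH) (Lpe (f101530 IH) (Lpe (f544944 IH) (Lpe (f544943 IH) (Lpe (f112853 IH) (Lpn (LP (LK LD1_c11 LD2_c29 LD3_c27))))))))))))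
theorem f211978 : Led Lsl_cf (LP (LK LD1_c11 LD2_c6 LD3_c11)) = (LP (LK LD1_c16 LD2_c49 LD3_c35)) :=
  Lgr Lrot11 (Lpr_ct (K43.f211975 IH) (Lpn (LP (LK LD1_c16 LD2_c49 LD3_c35))))
theorem f553524 : Led Lsl_df (LP (LK LD1_c11 LD2_c6 LD3_c11)) = (LP (LK LD1_c16 LD2_c27 LD3_c36)) :=
  Lgr Lrot38 (Lpr_dt (K43.f553522 IH) (Lpn (LP (LK LD1_c16 LD2_c27 LD3_c36))))
theorem f571898 : Led Lsl_dt (LP (LK LD1_c4 LD2_c26 LD3_c3)) = (LP (LK LD1_c8 LD2_c49 LD3_c30)) :=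
  Lre_d IH (LK LD1_c4 LD2_c26 LD3_c3) (LK LD1_c8 LD2_c49 LD3_c30) Lrfl Lrfl
theorem f580595 : Led Lsl_gf (LP (LK LD1_c16 LD2_c27 LD3_c36)) = (LP (LK LD1_c8 LD2_c49 LD3_c30)) :=
  Lgr Lrot143 (Lpe (f553524 IH) (Lpr_cf (f211978 IH) (Lpr_df (f577794 IH) (Lpr_gf (f580593 IH) (Lpe (f557750 IH) (Lpr_gf (K43.f573021 IH) (Lpr_cf (K42.f570624 IH) (Lpe (K42.f571920 IH) (Lpr_dt (f571898 IH) (Lpn (LP (LK LD1_c8 LD2_c49 LD3_c30))))))))))))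
theorem f572021 : Led Lsl_ef (LP (LK LD1_c8 LD2_c47 LD3_c43)) = (LP (LK LD1_c4 LD2_c25 LD3_c57)) :=
  Lgr Lrot88 (Lpr_et (K42.f572015 IH) (Lpn (LP (LK LD1_c4 LD2_c25 LD3_c57))))
theorem f421370 : Led Lsl_dt (LP (LK LD1_c4 LD2_c25 LD3_c57)) = (LP (LK LD1_c8 LD2_c49 LD3_c15)) :=
  Lre_d IH (LK LD1_c4 LD2_c25 LD3_c57) (LK LD1_c8 LD2_c49 LD3_c15) Lrfl Lrfl
theorem f580606 : Led Lsl_gt (LP (LK LD1_c5 LD2_c5 LD3_c14)) = (LP (LK LD1_c8 LD2_c49 LD3_c15)) :=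
  Lgr Lrot112 (Lpe (K39.f164859 IH) (Lpe (K13.f164863 IH) (Lpe (K39.f164886 IH) (Lpe (K42.f164887 IH) (Lpr_dt (K43.f553522 IH) (Lpr_gf (f580595 IH) (Lpe (f571898 IH) (Lpr_gf (K42.f571920 IH) (Lpr_ef (f572021 IH) (Lpr_dt (f421370 IH) (Lpn (LP (LK LD1_c8 LD2_c49 LD3_c15)))))))))))))
theorem f566708 : Led Lsl_gf (LP (LK LD1_c8 LD2_c44 LD3_c38)) = (LP (LK LD1_c5 LD2_c42 LD3_c31)) :=
  Lgr Lrot147 (Lpr_ct (K41.f39307 IH) (Lpr_gt (K41.f424312 IH) (Lpr_ct (K31.f385877 IH) (Lpr_df (K31.f398544 IH) (Lpr_cf (K31.f181756 IH) (Lpe (K42.f566689 IH) (Lpr_cf (K41.f566697 IH) (Lpe (K39.f542234 IH) (Lpe (K31.f172503 IH) (Lpn (LP (LK LD1_c5 LD2_c42 LD3_c31))))))))))))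
theorem f580614 : Led Lsl_et (LP (LK LD1_c2 LD2_c47 LD3_c14)) = (LP (LK LD1_c4 LD2_c26 LD3_c3)) :=
  Lgr Lrot122 (Lpr_dt (K36.f172537 IH) (Lpe (f566708 IH) (Lpe (K39.f551844 IH) (Lpr_et (K39.f551855 IH) (Lpr_gt (K39.f164866 IH) (Lpr_dt (K39.f164859 IH) (Lpr_gt (f580606 IH) (Lpe (f421370 IH) (Lpe (f572021 IH) (Lpe (K42.f571920 IH) (Lpn (LP (LK LD1_c4 LD2_c26 LD3_c3)))))))))))))
theorem f172529 : Led Lsl_et (LP (LK LD1_c11 LD2_c15 LD3_c14)) = (LP (LK LD1_c5 LD2_c42 LD3_c31)) :=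
  Lre_e IH (LK LD1_c11 LD2_c15 LD3_c14) (LK LD1_c5 LD2_c42 LD3_c31) Lrfl Lrfl
theorem f571928 : Led Lsl_et (LP (LK LD1_c8 LD2_c49 LD3_c30)) = (LP (LK LD1_c16 LD2_c30 LD3_c8)) :=
  Lre_e IH (LK LD1_c8 LD2_c49 LD3_c30) (LK LD1_c16 LD2_c30 LD3_c8) Lrfl Lrfl
theorem f580618 : Led Lsl_df (LP (LK LD1_c11 LD2_c15 LD3_c14)) = (LP (LK LD1_c16 LD2_c30 LD3_c8)) :=
  Lgr Lrot70 (Lpr_et (f172529 IH) (Lpr_dt (K31.f172503 IH) (Lpr_et (f580614 IH) (Lpr_dt (f571898 IH) (Lpr_et (f571928 IH) (Lpn (LP (LK LD1_c16 LD2_c30 LD3_c8))))))))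
theorem f580622 : Led Lsl_dt (LP (LK LD1_c11 LD2_c15 LD3_c14)) = (LP (LK LD1_c16 LD2_c30 LD3_c8)) :=
  Lgr Lrot42 (Lpr_df (f580618 IH) (Lpn (LP (LK LD1_c16 LD2_c30 LD3_c8))))
theorem f172514 : Led Lsl_et (LP (LK LD1_c11 LD2_c13 LD3_c24)) = (LP (LK LD1_c5 LD2_c41 LD3_c36)) :=
  Lre_e IH (LK LD1_c11 LD2_c13 LD3_c24) (LK LD1_c5 LD2_c41 LD3_c36) Lrfl Lrfl
theorem f172515 : Led Lsl_et (LP (LK LD1_c5 LD2_c42 LD3_c31)) = (LP (LK LD1_c11 LD2_c15 LD3_c14)) :=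
  Lre_e IH (LK LD1_c5 LD2_c42 LD3_c31) (LK LD1_c11 LD2_c15 LD3_c14) Lrfl Lrfl
theorem f172516 : Led Lsl_bf (LP (LK LD1_c11 LD2_c13 LD3_c24)) = (LP (LK LD1_c11 LD2_c15 LD3_c14)) :=
  Lgr Lrot96 (Lpr_et (f172514 IH) (Lpr_bt (K31.f172504 IH) (Lpr_et (f172515 IH) (Lpn (LP (LK LD1_c11 LD2_c15 LD3_c14))))))
theorem f172520 : Led Lsl_bt (LP (LK LD1_c11 LD2_c13 LD3_c24)) = (LP (LK LD1_c11 LD2_c15 LD3_c14)) :=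
  Lgr Lrot127 (Lpr_bf (f172516 IH) (Lpn (LP (LK LD1_c11 LD2_c15 LD3_c14))))
theorem f172527 : Led Lsl_dt (LP (LK LD1_c20 LD2_c7 LD3_c61)) = (LP (LK LD1_c11 LD2_c13 LD3_c24)) :=
  Lre_d IH (LK LD1_c20 LD2_c7 LD3_c61) (LK LD1_c11 LD2_c13 LD3_c24) Lrfl Lrfl
theorem f580628 : Led Lsl_bf (LP (LK LD1_c20 LD2_c7 LD3_c61)) = (LP (LK LD1_c16 LD2_c30 LD3_c8)) :=
  Lgr Lrot93 (Lpr_dt (f172527 IH) (Lpr_bt (f172520 IH) (Lpr_dt (f580622 IH) (Lpn (LP (LK LD1_c16 LD2_c30 LD3_c8))))))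
theorem f557180 : Led Lsl_et (LP (LK LD1_c20 LD2_c7 LD3_c61)) = (LP (LK LD1_c11 LD2_c13 LD3_c25)) :=
  Lre_e IH (LK LD1_c20 LD2_c7 LD3_c61) (LK LD1_c11 LD2_c13 LD3_c25) Lrfl Lrfl
theorem f580635 : Led Lsl_bt (LP (LK LD1_c11 LD2_c13 LD3_c25)) = (LP (LK LD1_c8 LD2_c49 LD3_c30)) :=
  Lgr Lrot119 (Lpe (f557180 IH) (Lpr_bf (f580628 IH) (Lpe (f571928 IH) (Lpn (LP (LK LD1_c8 LD2_c49 LD3_c30))))))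
theorem f547270 : Led Lsl_ff (LP (LK LD1_c11 LD2_c13 LD3_c25)) = (LP (LK LD1_c5 LD2_c54 LD3_c6)) :=
  Lgr Lrot19 (Lpr_dt (K38.f547251 IH) (Lpr_ft (K38.f547268 IH) (Lpr_dt (K42.f71033 IH) (Lpn (LP (LK LD1_c5 LD2_c54 LD3_c6))))))
theorem f580637 : Led Lsl_ff (LP (LK LD1_c5 LD2_c55 LD3_c41)) = (LP (LK LD1_c8 LD2_c49 LD3_c30)) :=
  Lgr Lrot25 (Lpe (K6.f81857 IH) (Lpe (f547270 IH) (Lpr_bt (f580635 IH) (Lpn (LP (LK LD1_c8 LD2_c49 LD3_c30))))))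
theorem f580641 : Led Lsl_at (LP (LK LD1_c5 LD2_c55 LD3_c41)) = (LP (LK LD1_c8 LD2_c47 LD3_c44)) :=
  Lgr Lrot26 (Lpr_ff (f580637 IH) (Lpe (f580595 IH) (Lpr_gt (K42.f210981 IH) (Lpn (LP (LK LD1_c8 LD2_c47 LD3_c44))))))
theorem f227585 : Led Lsl_bt (LP (LK LD1_c4 LD2_c25 LD3_c4)) = (LP (LK LD1_c8 LD2_c47 LD3_c44)) :=
  Lre_b IH (LK LD1_c4 LD2_c25 LD3_c4) (LK LD1_c8 LD2_c47 LD3_c44) Lrfl Lrfl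
theorem f211209 : Led Lsl_bt (LP (LK LD1_c5 LD2_c53 LD3_c15)) = (LP (LK LD1_c2 LD2_c52 LD3_c60)) :=
  Lre_b IH (LK LD1_c5 LD2_c53 LD3_c15) (LK LD1_c2 LD2_c52 LD3_c60) Lrfl Lrfl
theorem f449787 : Led Lsl_ft (LP (LK LD1_c8 LD2_c47 LD3_c44)) = (LP (LK LD1_c5 LD2_c53 LD3_c15)) :=
  Lgr Lrot75 (Lpe (f227585 IH) (Lpr_ff (K36.f449785 IH) (Lpe (f211209 IH) (Lpn (LP (LK LD1_c5 LD2_c53 LD3_c15))))))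
theorem f580647 : Led Lsl_af (LP (LK LD1_c8 LD2_c49 LD3_c30)) = (LP (LK LD1_c5 LD2_c53 LD3_c15)) :=
  Lgr Lrot45 (Lpe (f580637 IH) (Lpr_at (f580641 IH) (Lpr_ft (f449787 IH) (Lpn (LP (LK LD1_c5 LD2_c53 LD3_c15))))))
theorem f272533 : Led Lsl_gt (LP (LK LD1_c8 LD2_c47 LD3_c44)) = (LP (LK LD1_c16 LD2_c27 LD3_c35)) :=
  Lre_g IH (LK LD1_c8 LD2_c47 LD3_c44) (LK LD1_c16 LD2_c27 LD3_c35) Lrfl Lrfl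
theorem f580651 : Led Lsl_gf (LP (LK LD1_c8 LD2_c49 LD3_c30)) = (LP (LK LD1_c16 LD2_c27 LD3_c35)) :=
  Lgr Lrot76 (Lpr_af (f580647 IH) (Lpe (f449787 IH) (Lpr_gt (f272533 IH) (Lpn (LP (LK LD1_c16 LD2_c27 LD3_c35))))))
theorem f571901 : Led Lsl_ef (LP (LK LD1_c2 LD2_c47 LD3_c14)) = (LP (LK LD1_c4 LD2_c26 LD3_c3)) :=
  Lgr Lrot29 (Lpe (K31.f172494 IH) (Lpr_et (K38.f172506 IH) (Lpr_bt (K42.f571890 IH) (Lpn (LP (LK LD1_c4 LD2_c26 LD3_c3))))))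
theorem f567255 : Led Lsl_df (LP (LK LD1_c6 LD2_c55 LD3_c52)) = (LP (LK LD1_c8 LD2_c44 LD3_c26)) :=
  Lgr Lrot155 (Lpe (K38.f547068 IH) (Lpr_ct (K40.f547060 IH) (Lpr_gt (K8.f17412 IH) (Lpe (K4.f17309 IH) (Lpr_dt (K37.f93069 IH) (Lpr_cf (K43.f546740 IH) (Lpe (K38.f546733 IH) (Lpq (K38.f546908 IH) (Lpe (K36.f177122 IH) (Lpr_gf (K41.f567249 IH) (Lpn (LP (LK LD1_c8 LD2_c44 LD3_c26)))))))))))))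
theorem f449975 : Led Lsl_et (LP (LK LD1_c2 LD2_c50 LD3_c56)) = (LP (LK LD1_c5 LD2_c38 LD3_c41)) :=
  Lre_e IH (LK LD1_c2 LD2_c50 LD3_c56) (LK LD1_c5 LD2_c38 LD3_c41) Lrfl Lrfl
theorem f24571 : Led Lsl_gt (LP (LK LD1_c5 LD2_c38 LD3_c41)) = (LP (LK LD1_c11 LD2_c8 LD3_c23)) :=
  Lre_g IH (LK LD1_c5 LD2_c38 LD3_c41) (LK LD1_c11 LD2_c8 LD3_c23) Lrfl Lrfl
theorem f580654 : Led Lsl_dt (LP (LK LD1_c11 LD2_c8 LD3_c23)) = (LP (LK LD1_c16 LD2_c27 LD3_c35)) :=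
  Lgr Lrot171 (Lpe (f24571 IH) (Lpe (f449975 IH) (Lpr_dt (K37.f449967 IH) (Lpr_gf (K38.f547068 IH) (Lpr_df (f567255 IH) (Lpr_et (K41.f542243 IH) (Lpe (K39.f542234 IH) (Lpr_ef (f571901 IH) (Lpr_dt (f571898 IH) (Lpr_gf (f580651 IH) (Lpn (LP (LK LD1_c16 LD2_c27 LD3_c35)))))))))))))
theorem f571907 : Led Lsl_dt (LP (LK LD1_c8 LD2_c49 LD3_c30)) = (LP (LK LD1_c4 LD2_c26 LD3_c3)) :=
  Lre_d IH (LK LD1_c8 LD2_c49 LD3_c30) (LK LD1_c4 LD2_c26 LD3_c3) Lrfl Lrfl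
theorem f449881 : Led Lsl_gt (LP (LK LD1_c4 LD2_c35 LD3_c12)) = (LP (LK LD1_c9 LD2_c7 LD3_c3)) :=
  Lre_g IH (LK LD1_c4 LD2_c35 LD3_c12) (LK LD1_c9 LD2_c7 LD3_c3) Lrfl Lrfl
theorem f541503 : Led Lsl_gf (LP (LK LD1_c4 LD2_c37 LD3_c36)) = (LP (LK LD1_c9 LD2_c7 LD3_c3)) :=
  Lgr Lrot76 (Lpr_af (K36.f541491 IH) (Lpe (K40.f449871 IH) (Lpr_gt (f449881 IH) (Lpn (LP (LK LD1_c9 LD2_c7 LD3_c3))))))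
theorem f580661 : Led Lsl_dt (LP (LK LD1_c5 LD2_c38 LD3_c43)) = (LP (LK LD1_c9 LD2_c7 LD3_c3)) :=
  Lgr Lrot57 (Lpe (K42.f24556 IH) (Lpe (K42.f210776 IH) (Lpr_gt (f24571 IH) (Lpr_dt (f580654 IH) (Lpe (f580651 IH) (Lpr_dt (f571907 IH) (Lpe (K42.f571269 IH) (Lpqs (K36.f541487 IH) (Lpe (K36.f537983 IH) (Lpr_gf (f541503 IH) (Lpn (LP (LK LD1_c9 LD2_c7 LD3_c3)))))))))))))
theorem f573309 : Led Lsl_gt (LP (LK LD1_c12 LD2_c5 LD3_c39)) = (LP (LK LD1_c11 LD2_c29 LD3_c24)) :=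
  Lgr Lrot112 (Lpr_df (K43.f573307 IH) (Lpr_et (K42.f556146 IH) (Lpe (K39.f547772 IH) (Lpq (K39.f547765 IH) (Lpe (K38.f496029 IH) (Lpr_dt (K5.f66270 IH) (Lpe (K8.f66274 IH) (Lpe (K8.f160919 IH) (Lpe (K8.f161266 IH) (Lpe (K43.f119704 IH) (Lpr_dt (K38.f149694 IH) (Lpn (LP (LK LD1_c11 LD2_c29 LD3_c24))))))))))))))
theorem f541505 : Led Lsl_ct (LP (LK LD1_c16 LD2_c59 LD3_c14)) = (LP (LK LD1_c9 LD2_c7 LD3_c3)) :=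
  Lre_c IH (LK LD1_c16 LD2_c59 LD3_c14) (LK LD1_c9 LD2_c7 LD3_c3) Lrfl Lrfl
theorem f580676 : Led Lsl_gt (LP (LK LD1_c11 LD2_c51 LD3_c6)) = (LP (LK LD1_c16 LD2_c59 LD3_c14)) :=
  Lgr Lrot187 (Lpr_cf (K38.f545284 IH) (Lpe (f573309 IH) (Lpr_dt (K43.f573305 IH) (Lpr_gt (K42.f557742 IH) (Lpe (K43.f572661 IH) (Lpr_gt (K42.f572657 IH) (Lpr_ct (f210777 IH) (Lpr_dt (f580661 IH) (Lpe (f541505 IH) (Lpn (LP (LK LD1_c16 LD2_c59 LD3_c14))))))))))))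
theorem f573343 : Led Lsl_ft (LP (LK LD1_c11 LD2_c51 LD3_c6)) = (LP (LK LD1_c17 LD2_c8 LD3_c38)) :=
  Lgr Lrot48 (Lpr_ff (f573340 IH) (Lpn (LP (LK LD1_c17 LD2_c8 LD3_c38))))
theorem f573335 : Led Lsl_af (LP (LK LD1_c11 LD2_c51 LD3_c7)) = (LP (LK LD1_c17 LD2_c8 LD3_c38)) :=
  Lgr Lrot0 (Lpr_at (f573333 IH) (Lpn (LP (LK LD1_c17 LD2_c8 LD3_c38))))
theorem f580680 : Led Lsl_gf (LP (LK LD1_c11 LD2_c51 LD3_c7)) = (LP (LK LD1_c16 LD2_c59 LD3_c14)) :=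
  Lgr Lrot76 (Lpr_af (f573335 IH) (Lpe (f573343 IH) (Lpr_gt (f580676 IH) (Lpn (LP (LK LD1_c16 LD2_c59 LD3_c14))))))
theorem f165060 : Led Lsl_gt (LP (LK LD1_c5 LD2_c38 LD3_c27)) = (LP (LK LD1_c11 LD2_c8 LD3_c10)) :=
  Lre_g IH (LK LD1_c5 LD2_c38 LD3_c27) (LK LD1_c11 LD2_c8 LD3_c10) Lrfl Lrfl
theorem f541506 : Led Lsl_ct (LP (LK LD1_c9 LD2_c7 LD3_c3)) = (LP (LK LD1_c16 LD2_c59 LD3_c14)) :=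
  Lre_c IH (LK LD1_c9 LD2_c7 LD3_c3) (LK LD1_c16 LD2_c59 LD3_c14) Lrfl Lrfl
theorem f580665 : Led Lsl_bf (LP (LK LD1_c5 LD2_c53 LD3_c39)) = (LP (LK LD1_c9 LD2_c7 LD3_c3)) :=
  Lgr Lrot93 (Lpr_dt (K42.f563637 IH) (Lpe (K42.f570232 IH) (Lpr_dt (f580661 IH) (Lpn (LP (LK LD1_c9 LD2_c7 LD3_c3))))))
theorem f208533 : Led Lsl_bt (LP (LK LD1_c5 LD2_c53 LD3_c26)) = (LP (LK LD1_c2 LD2_c53 LD3_c10)) :=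
  Lre_b IH (LK LD1_c5 LD2_c53 LD3_c26) (LK LD1_c2 LD2_c53 LD3_c10) Lrfl Lrfl
theorem f580695 : Led Lsl_cf (LP (LK LD1_c11 LD2_c8 LD3_c10)) = (LP (LK LD1_c5 LD2_c53 LD3_c26)) :=
  Lgr Lrot163 (Lpe (f165060 IH) (Lpe (K36.f165059 IH) (Lpe (K38.f548271 IH) (Lpe (K40.f541447 IH) (Lpr_ct (K40.f548276 IH) (Lpr_gf (f580680 IH) (Lpe (f541506 IH) (Lpe (f580665 IH) (Lpe (K42.f500413 IH) (Lpe (f208533 IH) (Lpn (LP (LK LD1_c5 LD2_c53 LD3_c26)))))))))))))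
theorem f165058 : Led Lsl_bt (LP (LK LD1_c2 LD2_c45 LD3_c4)) = (LP (LK LD1_c1 LD2_c18 LD3_c53)) :=
  Lre_b IH (LK LD1_c2 LD2_c45 LD3_c4) (LK LD1_c1 LD2_c18 LD3_c53) Lrfl Lrfl
theorem f548238 : Led Lsl_ct (LP (LK LD1_c5 LD2_c53 LD3_c39)) = (LP (LK LD1_c11 LD2_c33 LD3_c15)) :=
  Lre_c IH (LK LD1_c5 LD2_c53 LD3_c39) (LK LD1_c11 LD2_c33 LD3_c15) Lrfl Lrfl
theorem f580707 : Led Lsl_gf (LP (LK LD1_c9 LD2_c6 LD3_c60)) = (LP (LK LD1_c11 LD2_c33 LD3_c15)) :=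
  Lgr Lrot129 (Lpe (K37.f165055 IH) (Lpr_bt (K36.f165053 IH) (Lpe (K9.f164697 IH) (Lpe (f165058 IH) (Lpr_ct (K36.f165059 IH) (Lpr_gt (f165060 IH) (Lpr_cf (f580695 IH) (Lpr_bt (f208533 IH) (Lpr_gt (K42.f500413 IH) (Lpr_ct (f548238 IH) (Lpn (LP (LK LD1_c11 LD2_c33 LD3_c15)))))))))))))
theorem f580711 : Led Lsl_ff (LP (LK LD1_c11 LD2_c32 LD3_c12)) = (LP (LK LD1_c11 LD2_c33 LD3_c15)) :=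
  Lgr Lrot52 (Lpe (K40.f539068 IH) (Lpr_gf (K37.f539281 IH) (Lpr_gf (f580707 IH) (Lpn (LP (LK LD1_c11 LD2_c33 LD3_c15))))))
theorem f580722 : Led Lsl_ft (LP (LK LD1_c11 LD2_c32 LD3_c12)) = (LP (LK LD1_c11 LD2_c33 LD3_c15)) :=
  Lgr Lrot48 (Lpr_ff (f580711 IH) (Lpn (LP (LK LD1_c11 LD2_c33 LD3_c15))))
theorem f580724 : Led Lsl_af (LP (LK LD1_c6 LD2_c3 LD3_c41)) = (LP (LK LD1_c11 LD2_c33 LD3_c15)) :=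
  Lgr Lrot45 (Lpe (K40.f285275 IH) (Lpr_at (K40.f539065 IH) (Lpr_ft (f580722 IH) (Lpn (LP (LK LD1_c11 LD2_c33 LD3_c15))))))
theorem f285322 : Led Lsl_et (LP (LK LD1_c6 LD2_c3 LD3_c41)) = (LP (LK LD1_c11 LD2_c50 LD3_c53)) :=
  Lre_e IH (LK LD1_c6 LD2_c3 LD3_c41) (LK LD1_c11 LD2_c50 LD3_c53) Lrfl Lrfl
theorem f580714 : Led Lsl_et (LP (LK LD1_c20 LD2_c30 LD3_c29)) = (LP (LK LD1_c11 LD2_c33 LD3_c15)) :=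
  Lre_e IH (LK LD1_c20 LD2_c30 LD3_c29) (LK LD1_c11 LD2_c33 LD3_c15) Lrfl Lrfl
theorem f580732 : Led Lsl_at (LP (LK LD1_c11 LD2_c50 LD3_c53)) = (LP (LK LD1_c20 LD2_c30 LD3_c29)) :=
  Lgr Lrot80 (Lpe (f285322 IH) (Lpr_af (f580724 IH) (Lpe (f580714 IH) (Lpn (LP (LK LD1_c20 LD2_c30 LD3_c29))))))
theorem f186276 : Led Lsl_ct (LP (LK LD1_c6 LD2_c3 LD3_c42)) = (LP (LK LD1_c11 LD2_c50 LD3_c53)) :=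
  Lre_c IH (LK LD1_c6 LD2_c3 LD3_c42) (LK LD1_c11 LD2_c50 LD3_c53) Lrfl Lrfl
theorem f580737 : Led Lsl_ct (LP (LK LD1_c20 LD2_c30 LD3_c29)) = (LP (LK LD1_c11 LD2_c33 LD3_c16)) :=
  Lre_c IH (LK LD1_c20 LD2_c30 LD3_c29) (LK LD1_c11 LD2_c33 LD3_c16) Lrfl Lrfl
theorem f580738 : Led Lsl_af (LP (LK LD1_c6 LD2_c3 LD3_c42)) = (LP (LK LD1_c11 LD2_c33 LD3_c16)) :=
  Lgr Lrot68 (Lpr_ct (f186276 IH) (Lpr_at (f580732 IH) (Lpr_ct (f580737 IH) (Lpn (LP (LK LD1_c11 LD2_c33 LD3_c16))))))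
theorem f186240 : Led Lsl_at (LP (LK LD1_c10 LD2_c4 LD3_c32)) = (LP (LK LD1_c18 LD2_c23 LD3_c17)) :=
  Lre_a IH (LK LD1_c10 LD2_c4 LD3_c32) (LK LD1_c18 LD2_c23 LD3_c17) Lrfl Lrfl
theorem f580748 : Led Lsl_dt (LP (LK LD1_c18 LD2_c23 LD3_c17)) = (LP (LK LD1_c11 LD2_c33 LD3_c16)) :=
  Lgr Lrot44 (Lpe (f186240 IH) (Lpe (K39.f186237 IH) (Lpr_af (f580738 IH) (Lpn (LP (LK LD1_c11 LD2_c33 LD3_c16))))))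
theorem f186244 : Led Lsl_bt (LP (LK LD1_c10 LD2_c4 LD3_c32)) = (LP (LK LD1_c5 LD2_c6 LD3_c54)) :=
  Lre_b IH (LK LD1_c10 LD2_c4 LD3_c32) (LK LD1_c5 LD2_c6 LD3_c54) Lrfl Lrfl
theorem f186275 : Led Lsl_at (LP (LK LD1_c18 LD2_c23 LD3_c17)) = (LP (LK LD1_c10 LD2_c4 LD3_c32)) :=
  Lre_a IH (LK LD1_c18 LD2_c23 LD3_c17) (LK LD1_c10 LD2_c4 LD3_c32) Lrfl Lrfl
theorem f542707 : Led Lsl_at (LP (LK LD1_c9 LD2_c15 LD3_c5)) = (LP (LK LD1_c17 LD2_c9 LD3_c28)) :=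
  Lre_a IH (LK LD1_c9 LD2_c15 LD3_c5) (LK LD1_c17 LD2_c9 LD3_c28) Lrfl Lrfl
theorem f542727 : Led Lsl_bf (LP (LK LD1_c18 LD2_c23 LD3_c17)) = (LP (LK LD1_c17 LD2_c9 LD3_c28)) :=
  Lgr Lrot81 (Lpr_at (f186275 IH) (Lpr_bt (f186244 IH) (Lpe (K39.f285124 IH) (Lpr_bt (K36.f542722 IH) (Lpr_at (f542707 IH) (Lpn (LP (LK LD1_c17 LD2_c9 LD3_c28))))))))
theorem f570270 : Led Lsl_et (LP (LK LD1_c17 LD2_c9 LD3_c28)) = (LP (LK LD1_c9 LD2_c15 LD3_c2)) :=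
  Lre_e IH (LK LD1_c17 LD2_c9 LD3_c28) (LK LD1_c9 LD2_c15 LD3_c2) Lrfl Lrfl
theorem f580669 : Led Lsl_et (LP (LK LD1_c9 LD2_c7 LD3_c3)) = (LP (LK LD1_c16 LD2_c59 LD3_c15)) :=
  Lre_e IH (LK LD1_c9 LD2_c7 LD3_c3) (LK LD1_c16 LD2_c59 LD3_c15) Lrfl Lrfl
theorem f580670 : Led Lsl_df (LP (LK LD1_c17 LD2_c9 LD3_c28)) = (LP (LK LD1_c16 LD2_c59 LD3_c15)) :=
  Lgr Lrot70 (Lpr_et (f570270 IH) (Lpr_dt (K42.f542790 IH) (Lpe (K42.f570246 IH) (Lpr_dt (f580661 IH) (Lpr_et (f580669 IH) (Lpn (LP (LK LD1_c16 LD2_c59 LD3_c15))))))))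
theorem f580767 : Led Lsl_bf (LP (LK LD1_c16 LD2_c59 LD3_c15)) = (LP (LK LD1_c11 LD2_c33 LD3_c16)) :=
  Lgr Lrot93 (Lpe (f580670 IH) (Lpe (f542727 IH) (Lpr_dt (f580748 IH) (Lpn (LP (LK LD1_c11 LD2_c33 LD3_c16))))))
theorem f580780 : Led Lsl_bt (LP (LK LD1_c16 LD2_c59 LD3_c15)) = (LP (LK LD1_c11 LD2_c33 LD3_c16)) :=
  Lgr Lrot127 (Lpr_bf (f580767 IH) (Lpn (LP (LK LD1_c11 LD2_c33 LD3_c16))))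
theorem f548240 : Led Lsl_et (LP (LK LD1_c11 LD2_c33 LD3_c16)) = (LP (LK LD1_c5 LD2_c53 LD3_c39)) :=
  Lre_e IH (LK LD1_c11 LD2_c33 LD3_c16) (LK LD1_c5 LD2_c53 LD3_c39) Lrfl Lrfl
theorem f580787 : Led Lsl_bf (LP (LK LD1_c9 LD2_c7 LD3_c3)) = (LP (LK LD1_c5 LD2_c53 LD3_c39)) :=
  Lgr Lrot96 (Lpr_et (f580669 IH) (Lpr_bt (f580780 IH) (Lpr_et (f548240 IH) (Lpn (LP (LK LD1_c5 LD2_c53 LD3_c39))))))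
theorem f100512 : Led Lsl_ct (LP (LK LD1_c5 LD2_c0 LD3_c6)) = (LP (LK LD1_c9 LD2_c50 LD3_c46)) :=
  Lre_c IH (LK LD1_c5 LD2_c0 LD3_c6) (LK LD1_c9 LD2_c50 LD3_c46) Lrfl Lrfl
theorem f539053 : Led Lsl_at (LP (LK LD1_c11 LD2_c50 LD3_c52)) = (LP (LK LD1_c9 LD2_c6 LD3_c60)) :=
  Lgr Lrot100 (Lpr_af (K40.f539029 IH) (Lpn (LP (LK LD1_c9 LD2_c6 LD3_c60))))
theorem f539061 : Led Lsl_ff (LP (LK LD1_c11 LD2_c50 LD3_c52)) = (LP (LK LD1_c11 LD2_c32 LD3_c4)) :=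
  Lgr Lrot3 (Lpr_ft (K40.f539058 IH) (Lpn (LP (LK LD1_c11 LD2_c32 LD3_c4))))
theorem f580709 : Led Lsl_gt (LP (LK LD1_c11 LD2_c32 LD3_c4)) = (LP (LK LD1_c11 LD2_c33 LD3_c15)) :=
  Lgr Lrot5 (Lpe (f539061 IH) (Lpr_at (f539053 IH) (Lpr_gf (f580707 IH) (Lpn (LP (LK LD1_c11 LD2_c33 LD3_c15))))))
theorem f580789 : Led Lsl_bt (LP (LK LD1_c5 LD2_c0 LD3_c6)) = (LP (LK LD1_c9 LD2_c6 LD3_c59)) :=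
  Lgr Lrot130 (Lpr_ct (f100512 IH) (Lpr_gf (K40.f562427 IH) (Lpe (K38.f500693 IH) (Lpe (K36.f541524 IH) (Lpr_gf (f541503 IH) (Lpr_bf (f580787 IH) (Lpr_ct (f548238 IH) (Lpe (f580709 IH) (Lpe (K37.f450541 IH) (Lpr_gf (K43.f450560 IH) (Lpn (LP (LK LD1_c9 LD2_c6 LD3_c59)))))))))))))
theorem f539152 : Led Lsl_bt (LP (LK LD1_c2 LD2_c56 LD3_c56)) = (LP (LK LD1_c5 LD2_c53 LD3_c10)) :=
  Lgr Lrot127 (Lpr_bf (K43.f539148 IH) (Lpn (LP (LK LD1_c5 LD2_c53 LD3_c10))))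
theorem f387453 : Led Lsl_gt (LP (LK LD1_c11 LD2_c47 LD3_c38)) = (LP (LK LD1_c6 LD2_c1 LD3_c31)) :=
  Lre_g IH (LK LD1_c11 LD2_c47 LD3_c38) (LK LD1_c6 LD2_c1 LD3_c31) Lrfl Lrfl
theorem f580795 : Led Lsl_cf (LP (LK LD1_c11 LD2_c47 LD3_c38)) = (LP (LK LD1_c9 LD2_c6 LD3_c55)) :=
  Lgr Lrot160 (Lpr_gt (f387453 IH) (Lpe (K36.f186321 IH) (Lpr_bt (f539152 IH) (Lpe (K40.f562524 IH) (Lpr_ct (K38.f500693 IH) (Lpe (K40.f562427 IH) (Lpe (f100512 IH) (Lpr_bt (f580789 IH) (Lpe (K43.f450560 IH) (Lpr_bf (K37.f450545 IH) (Lpn (LP (LK LD1_c9 LD2_c6 LD3_c55)))))))))))))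
theorem f580805 : Led Lsl_gt (LP (LK LD1_c11 LD2_c47 LD3_c40)) = (LP (LK LD1_c16 LD2_c59 LD3_c11)) :=
  Lgr Lrot49 (Lpe (K40.f387443 IH) (Lpe (f387453 IH) (Lpr_cf (f580795 IH) (Lpr_gt (K37.f539895 IH) (Lpe (K39.f556063 IH) (Lpr_gt (K41.f556358 IH) (Lpe (K40.f418593 IH) (Lpe (K41.f418602 IH) (Lpe (K41.f418603 IH) (Lpn (LP (LK LD1_c16 LD2_c59 LD3_c11))))))))))))
theorem f562483 : Led Lsl_bt (LP (LK LD1_c20 LD2_c49 LD3_c50)) = (LP (LK LD1_c11 LD2_c47 LD3_c40)) :=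
  Lre_b IH (LK LD1_c20 LD2_c49 LD3_c50) (LK LD1_c11 LD2_c47 LD3_c40) Lrfl Lrfl
theorem f380312 : Led Lsl_et (LP (LK LD1_c0 LD2_c36 LD3_c24)) = (LP (LK LD1_c1 LD2_c18 LD3_c54)) :=
  Lgr Lrot74 (Lpe (K35.f177825 IH) (Lpr_ef (K35.f380307 IH) (Lpe (K36.f380311 IH) (Lpn (LP (LK LD1_c1 LD2_c18 LD3_c54))))))
theorem f380393 : Led Lsl_gf (LP (LK LD1_c2 LD2_c12 LD3_c33)) = (LP (LK LD1_c1 LD2_c18 LD3_c54)) :=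
  Lgr Lrot141 (Lpr_ef (K35.f211814 IH) (Lpe (K10.f26688 IH) (Lpr_gt (K10.f26686 IH) (Lpe (K10.f26702 IH) (Lpe (K35.f20579 IH) (Lpe (K35.f194057 IH) (Lpr_dt (K9.f22222 IH) (Lpr_gt (K43.f194059 IH) (Lpe (K22.f168217 IH) (Lpr_et (f380312 IH) (Lpn (LP (LK LD1_c1 LD2_c18 LD3_c54)))))))))))))
theorem f418600 : Led Lsl_gt (LP (LK LD1_c2 LD2_c14 LD3_c43)) = (LP (LK LD1_c1 LD2_c22 LD3_c31)) :=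
  Lgr Lrot49 (Lpr_df (K40.f418595 IH) (Lpr_gf (f380393 IH) (Lpr_cf (K36.f334499 IH) (Lpr_gt (K9.f164302 IH) (Lpr_dt (K9.f26629 IH) (Lpe (K9.f164300 IH) (Lpe (K9.f24424 IH) (Lpe (K9.f24578 IH) (Lpe (K10.f24579 IH) (Lpn (LP (LK LD1_c1 LD2_c22 LD3_c31))))))))))))
theorem f241255 : Led Lsl_ct (LP (LK LD1_c1 LD2_c27 LD3_c49)) = (LP (LK LD1_c3 LD2_c3 LD3_c18)) :=
  Lgr Lrot7 (Lpe (K13.f37973 IH) (Lpr_gf (K13.f241250 IH) (Lpe (K13.f210912 IH) (Lpe (K13.f175804 IH) (Lpe (K12.f26040 IH) (Lpe (K12.f198361 IH) (Lpr_dt (K12.f229371 IH) (Lpr_gt (K12.f101353 IH) (Lpr_dt (K16.f69405 IH) (Lpn (LP (LK LD1_c3 LD2_c3 LD3_c18))))))))))))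
theorem f580839 : Led Lsl_cf (LP (LK LD1_c20 LD2_c49 LD3_c50)) = (LP (LK LD1_c16 LD2_c28 LD3_c39)) :=
  Lgr Lrot89 (Lpr_bt (f562483 IH) (Lpr_gt (f580805 IH) (Lpr_dt (K41.f418603 IH) (Lpr_ct (K41.f418602 IH) (Lpr_bt (K40.f418592 IH) (Lpr_gt (f418600 IH) (Lpr_dt (K10.f24579 IH) (Lpr_ct (K9.f24578 IH) (Lpr_bt (K12.f24572 IH) (Lpr_gt (K12.f164344 IH) (Lpr_dt (K35.f164346 IH) (Lpr_ct (K35.f500276 IH) (Lpqs (K35.f536651 IH) (Lpr_bt (K35.f272477 IH) (Lpe (K13.f241250 IH) (Lpr_dt (K13.f37973 IH) (Lpr_ct (f241255 IH) (Lpr_bt (K41.f193493 IH) (Lpe (K41.f565067 IH) (Lpr_dt (K43.f227511 IH) (Lpn (LP (LK LD1_c16 LD2_c28 LD3_c39)))))))))))))))))))))))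
theorem f227505 : Led Lsl_dt (LP (LK LD1_c16 LD2_c28 LD3_c39)) = (LP (LK LD1_c8 LD2_c48 LD3_c28)) :=
  Lre_d IH (LK LD1_c16 LD2_c28 LD3_c39) (LK LD1_c8 LD2_c48 LD3_c28) Lrfl Lrfl
theorem f227506 : Led Lsl_bt (LP (LK LD1_c16 LD2_c28 LD3_c21)) = (LP (LK LD1_c16 LD2_c28 LD3_c39)) :=
  Lgr Lrot95 (Lpe (K42.f38418 IH) (Lpr_bf (K41.f227488 IH) (Lpe (f227505 IH) (Lpn (LP (LK LD1_c16 LD2_c28 LD3_c39))))))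
theorem f227508 : Led Lsl_bf (LP (LK LD1_c16 LD2_c28 LD3_c21)) = (LP (LK LD1_c16 LD2_c28 LD3_c39)) :=
  Lgr Lrot24 (Lpr_bt (f227506 IH) (Lpn (LP (LK LD1_c16 LD2_c28 LD3_c39))))
theorem f547120 : Led Lsl_ct (LP (LK LD1_c12 LD2_c5 LD3_c4)) = (LP (LK LD1_c21 LD2_c10 LD3_c22)) :=
  Lre_c IH (LK LD1_c12 LD2_c5 LD3_c4) (LK LD1_c21 LD2_c10 LD3_c22) Lrfl Lrfl
theorem f577087 : Led Lsl_gt (LP (LK LD1_c11 LD2_c39 LD3_c18)) = (LP (LK LD1_c12 LD2_c5 LD3_c4)) :=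
  Lgr Lrot46 (Lpr_gf (K42.f549082 IH) (Lpe (K42.f571313 IH) (Lpr_at (K43.f577081 IH) (Lpn (LP (LK LD1_c12 LD2_c5 LD3_c4))))))
theorem f577091 : Led Lsl_gf (LP (LK LD1_c24 LD2_c53 LD3_c21)) = (LP (LK LD1_c21 LD2_c10 LD3_c22)) :=
  Lgr Lrot104 (Lpr_ct (K43.f425883 IH) (Lpe (K42.f161365 IH) (Lpe (K38.f425880 IH) (Lpr_gf (K42.f568780 IH) (Lpe (K38.f71978 IH) (Lpe (K38.f418476 IH) (Lpe (K38.f418483 IH) (Lpr_gt (f577087 IH) (Lpr_ct (f547120 IH) (Lpn (LP (LK LD1_c21 LD2_c10 LD3_c22))))))))))))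
theorem f425885 : Led Lsl_ct (LP (LK LD1_c15 LD2_c4 LD3_c38)) = (LP (LK LD1_c24 LD2_c53 LD3_c21)) :=
  Lre_c IH (LK LD1_c15 LD2_c4 LD3_c38) (LK LD1_c24 LD2_c53 LD3_c21) Lrfl Lrfl
theorem f580853 : Led Lsl_gf (LP (LK LD1_c20 LD2_c49 LD3_c50)) = (LP (LK LD1_c22 LD2_c52 LD3_c21)) :=
  Lgr Lrot129 (Lpr_cf (f580839 IH) (Lpe (f227508 IH) (Lpr_gt (K42.f570547 IH) (Lpr_bf (K43.f577106 IH) (Lpr_ct (f547120 IH) (Lpe (f577091 IH) (Lpe (f425885 IH) (Lpe (K43.f573061 IH) (Lpe (K43.f574077 IH) (Lpr_ct (K42.f565610 IH) (Lpn (LP (LK LD1_c22 LD2_c52 LD3_c21)))))))))))))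
theorem f539200 : Led Lsl_dt (LP (LK LD1_c20 LD2_c49 LD3_c50)) = (LP (LK LD1_c11 LD2_c47 LD3_c39)) :=
  Lre_d IH (LK LD1_c20 LD2_c49 LD3_c50) (LK LD1_c11 LD2_c47 LD3_c39) Lrfl Lrfl
theorem f272556 : Led Lsl_dt (LP (LK LD1_c16 LD2_c26 LD3_c36)) = (LP (LK LD1_c8 LD2_c47 LD3_c14)) :=
  Lre_d IH (LK LD1_c16 LD2_c26 LD3_c36) (LK LD1_c8 LD2_c47 LD3_c14) Lrfl Lrfl
theorem f580855 : Led Lsl_gt (LP (LK LD1_c11 LD2_c47 LD3_c39)) = (LP (LK LD1_c16 LD2_c26 LD3_c36)) :=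
  Lgr Lrot49 (Lpe (f539200 IH) (Lpr_gf (f580853 IH) (Lpe (K42.f565610 IH) (Lpr_gt (K43.f574084 IH) (Lpr_dt (K43.f445679 IH) (Lpr_gt (K42.f38502 IH) (Lpr_dt (K42.f38479 IH) (Lpe (K41.f38496 IH) (Lpe (f272556 IH) (Lpn (LP (LK LD1_c16 LD2_c26 LD3_c36))))))))))))
theorem f387454 : Led Lsl_bt (LP (LK LD1_c6 LD2_c1 LD3_c31)) = (LP (LK LD1_c11 LD2_c47 LD3_c39)) :=
  Lre_b IH (LK LD1_c6 LD2_c1 LD3_c31) (LK LD1_c11 LD2_c47 LD3_c39) Lrfl Lrfl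
theorem f197369 : Led Lsl_bt (LP (LK LD1_c2 LD2_c52 LD3_c17)) = (LP (LK LD1_c1 LD2_c22 LD3_c10)) :=
  Lre_b IH (LK LD1_c2 LD2_c52 LD3_c17) (LK LD1_c1 LD2_c22 LD3_c10) Lrfl Lrfl
theorem f20715 : Led Lsl_dt (LP (LK LD1_c1 LD2_c3 LD3_c5)) = (LP (LK LD1_c1 LD2_c25 LD3_c42)) :=
  Lgr Lrot79 (Lpe (K12.f20713 IH) (Lpr_df (K9.f20668 IH) (Lpe (K35.f20714 IH) (Lpn (LP (LK LD1_c1 LD2_c25 LD3_c42))))))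
def v1754 : LQ := Led Lsl_ct (LP (LK LD1_c1 LD2_c25 LD3_c42))
theorem f501297 : Led Lsl_ct (LP (LK LD1_c1 LD2_c25 LD3_c42)) = v1754 :=
  Lrfl
theorem f501302 : Led Lsl_gt K35.v1597 = v1754 :=
  Lgr Lrot65 (Lpe (K35.f500276 IH) (Lpr_bt (K31.f211029 IH) (Lpr_gf (K12.f211667 IH) (Lpe (K12.f179894 IH) (Lpr_ct (K12.f179896 IH) (Lpe (K12.f185976 IH) (Lpe (K10.f24240 IH) (Lpe (K10.f178991 IH) (Lpe (K35.f20714 IH) (Lpr_ct (f501297 IH) (Lpn v1754)))))))))))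
theorem f536701 : v1754 = (LP (LK LD1_c2 LD2_c16 LD3_c42)) :=
  Lefun (Lecon (f501302 IH) (K35.f536651 IH)) (K35.f272481 IH)
theorem f176843 : Led Lsl_bt (LP (LK LD1_c1 LD2_c21 LD3_c34)) = (LP (LK LD1_c2 LD2_c51 LD3_c2)) :=
  Lre_b IH (LK LD1_c1 LD2_c21 LD3_c34) (LK LD1_c2 LD2_c51 LD3_c2) Lrfl Lrfl
theorem f580860 : Led Lsl_gf (LP (LK LD1_c5 LD2_c12 LD3_c28)) = (LP (LK LD1_c2 LD2_c51 LD3_c2)) :=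
  Lgr Lrot85 (Lpe (K28.f387441 IH) (Lpr_ct (K36.f186321 IH) (Lpr_bt (f387454 IH) (Lpr_gt (f580855 IH) (Lpr_dt (f272556 IH) (Lpr_ct (K41.f38496 IH) (Lpr_bt (K41.f82134 IH) (Lpr_gt (K12.f35897 IH) (Lpr_dt (K40.f272540 IH) (Lpe (K18.f272551 IH) (Lpr_bt (f197369 IH) (Lpr_gt (K35.f197362 IH) (Lpr_dt (f20715 IH) (Lpr_ct (f501297 IH) (Lpqs (f536701 IH) (Lpr_bt (K35.f26693 IH) (Lpr_gt (K9.f176810 IH) (Lpe (K10.f176820 IH) (Lpr_ct (K11.f176838 IH) (Lpr_bt (f176843 IH) (Lpn (LP (LK LD1_c2 LD2_c51 LD3_c2)))))))))))))))))))))))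
theorem f580863 : Led Lsl_gf (LP (LK LD1_c9 LD2_c7 LD3_c1)) = (LP (LK LD1_c5 LD2_c58 LD3_c58)) :=
  Lgr Lrot104 (Lpr_ct (K41.f418602 IH) (Lpr_df (K40.f418593 IH) (Lpr_cf (K40.f211821 IH) (Lpe (K43.f563922 IH) (Lpe (K41.f559641 IH) (Lpr_gf (f580860 IH) (Lpe (K40.f421052 IH) (Lpe (K40.f557439 IH) (Lpr_ct (K36.f428266 IH) (Lpn (LP (LK LD1_c5 LD2_c58 LD3_c58))))))))))))
theorem f580870 : Led Lsl_gf (LP (LK LD1_c16 LD2_c59 LD3_c7)) = (LP (LK LD1_c11 LD2_c42 LD3_c22)) :=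
  Lgr Lrot147 (Lpe (K36.f539844 IH) (Lpe (K38.f545300 IH) (Lpe (K40.f562308 IH) (Lpr_df (K40.f562330 IH) (Lpe (K37.f211067 IH) (Lpe (K40.f558491 IH) (Lpe (K41.f418602 IH) (Lpr_gf (f580863 IH) (Lpe (K36.f428345 IH) (Lpn (LP (LK LD1_c11 LD2_c42 LD3_c22))))))))))))
theorem f272560 : Led Lsl_gf (LP (LK LD1_c1 LD2_c22 LD3_c10)) = (LP (LK LD1_c1 LD2_c25 LD3_c42)) :=
  Lgr Lrot124 (Lpe (f197369 IH) (Lpr_ct (K18.f272546 IH) (Lpr_gt (K18.f173310 IH) (Lpe (K12.f173294 IH) (Lpe (K12.f173291 IH) (Lpe (K10.f175543 IH) (Lpr_ct (K12.f210988 IH) (Lpe (K12.f211682 IH) (Lpe (K12.f20735 IH) (Lpr_bt (K10.f20732 IH) (Lpn (LP (LK LD1_c1 LD2_c25 LD3_c42)))))))))))))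
def v2966 : LQ := Led Lsl_et K35.v418
theorem f536325 : Led Lsl_et K35.v418 = v2966 :=
  Lrfl
theorem f536327 : Led Lsl_ef K35.v418 = v2966 :=
  Lgr Lrot88 (Lpr_et (f536325 IH) (Lpn v2966))
theorem f536329 : Led Lsl_ct K35.v422 = v2966 :=
  Lgr Lrot15 (Lpe (K35.f452757 IH) (Lpr_cf (K35.f452740 IH) (Lpr_ef (f536327 IH) (Lpn v2966))))
theorem f536691 : v2966 = (LP (LK LD1_c0 LD2_c16 LD3_c47)) :=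
  Lefun (Lecon (f536329 IH) (K35.f536638 IH).symm) (K8.f37123 IH)
theorem f536792 : K35.v418 = (LP (LK LD1_c0 LD2_c37 LD3_c42)) :=
  Lefun (Lecon (Lfl_ef (f536327 IH)) (f536691 IH)) (K35.f37305 IH)
theorem f580881 : Led Lsl_bt (LP (LK LD1_c13 LD2_c42 LD3_c16)) = (LP (LK LD1_c11 LD2_c42 LD3_c22)) :=
  Lgr Lrot178 (Lpe (K41.f6174 IH) (Lpe (K29.f6155 IH) (Lpr_gf (K42.f98313 IH) (Lpr_bf (K43.f574737 IH) (Lpe (K13.f241073 IH) (Lpe (K13.f59151 IH) (Lpe (K13.f37972 IH) (Lpe (K35.f198461 IH) (Lpq (f536792 IH) (Lpe (K35.f452739 IH) (Lpe (K35.f24592 IH) (Lpr_gf (f272560 IH) (Lpe (K10.f20732 IH) (Lpe (K12.f20719 IH) (Lpe (K12.f20720 IH) (Lpr_gf (K12.f26635 IH) (Lpe (K36.f26639 IH) (Lpe (K37.f26640 IH) (Lpe (K38.f26641 IH) (Lpr_gf (f580870 IH) (Lpn (LP (LK LD1_c11 LD2_c42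 LD3_c22)))))))))))))))))))))))
theorem f98421 : Led Lsl_ft (LP (LK LD1_c7 LD2_c14 LD3_c37)) = (LP (LK LD1_c13 LD2_c42 LD3_c16)) :=
  Lre_f IH (LK LD1_c7 LD2_c14 LD3_c37) (LK LD1_c13 LD2_c42 LD3_c16) Lrfl Lrfl
theorem f580897 : Led Lsl_bf (LP (LK LD1_c7 LD2_c14 LD3_c37)) = (LP (LK LD1_c11 LD2_c47 LD3_c28)) :=
  Lgr Lrot61 (Lpr_ft (f98421 IH) (Lpr_bt (f580881 IH) (Lpr_ft (K36.f539408 IH) (Lpn (LP (LK LD1_c11 LD2_c47 LD3_c28))))))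
theorem f98419 : Led Lsl_et (LP (LK LD1_c7 LD2_c14 LD3_c37)) = (LP (LK LD1_c3 LD2_c37 LD3_c15)) :=
  Lre_e IH (LK LD1_c7 LD2_c14 LD3_c37) (LK LD1_c3 LD2_c37 LD3_c15) Lrfl Lrfl
theorem f580905 : Led Lsl_et (LP (LK LD1_c7 LD2_c15 LD3_c2)) = (LP (LK LD1_c11 LD2_c47 LD3_c28)) :=
  Lgr Lrot74 (Lpe (K29.f6277 IH) (Lpe (f98419 IH) (Lpr_bf (f580897 IH) (Lpn (LP (LK LD1_c11 LD2_c47 LD3_c28))))))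
theorem f580933 : Led Lsl_ef (LP (LK LD1_c7 LD2_c15 LD3_c2)) = (LP (LK LD1_c11 LD2_c47 LD3_c28)) :=
  Lgr Lrot88 (Lpr_et (f580905 IH) (Lpn (LP (LK LD1_c11 LD2_c47 LD3_c28))))
theorem f6250 : Led Lsl_dt (LP (LK LD1_c7 LD2_c15 LD3_c2)) = (LP (LK LD1_c13 LD2_c43 LD3_c18)) :=
  Lre_d IH (LK LD1_c7 LD2_c15 LD3_c2) (LK LD1_c13 LD2_c43 LD3_c18) Lrfl Lrfl
theorem f545543 : Led Lsl_et (LP (LK LD1_c11 LD2_c47 LD3_c29)) = (LP (LK LD1_c6 LD2_c1 LD3_c27)) :=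
  Lre_e IH (LK LD1_c11 LD2_c47 LD3_c29) (LK LD1_c6 LD2_c1 LD3_c27) Lrfl Lrfl
theorem f539122 : Led Lsl_dt (LP (LK LD1_c20 LD2_c49 LD3_c34)) = (LP (LK LD1_c11 LD2_c47 LD3_c29)) :=
  Lre_d IH (LK LD1_c20 LD2_c49 LD3_c34) (LK LD1_c11 LD2_c47 LD3_c29) Lrfl Lrfl
theorem f580950 : Led Lsl_et (LP (LK LD1_c13 LD2_c43 LD3_c18)) = (LP (LK LD1_c20 LD2_c49 LD3_c34)) :=
  Lgr Lrot71 (Lpe (f6250 IH) (Lpr_ef (f580933 IH) (Lpe (K36.f500897 IH) (Lpe (f545543 IH) (Lpe (f539122 IH) (Lpn (LP (LK LD1_c20 LD2_c49 LD3_c34))))))))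
theorem f580954 : Led Lsl_bt (LP (LK LD1_c7 LD2_c15 LD3_c3)) = (LP (LK LD1_c13 LD2_c43 LD3_c18)) :=
  Lre_b IH (LK LD1_c7 LD2_c15 LD3_c3) (LK LD1_c13 LD2_c43 LD3_c18) Lrfl Lrfl
theorem f481278 : Led Lsl_et (LP (LK LD1_c13 LD2_c43 LD3_c21)) = (LP (LK LD1_c7 LD2_c15 LD3_c3)) :=
  Lre_e IH (LK LD1_c13 LD2_c43 LD3_c21) (LK LD1_c7 LD2_c15 LD3_c3) Lrfl Lrfl
theorem f580955 : Led Lsl_bf (LP (LK LD1_c13 LD2_c43 LD3_c21)) = (LP (LK LD1_c20 LD2_c49 LD3_c34)) :=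
  Lgr Lrot96 (Lpr_et (f481278 IH) (Lpr_bt (f580954 IH) (Lpr_et (f580950 IH) (Lpn (LP (LK LD1_c20 LD2_c49 LD3_c34))))))
theorem f545443 : Led Lsl_dt (LP (LK LD1_c11 LD2_c47 LD3_c29)) = (LP (LK LD1_c20 LD2_c49 LD3_c34)) :=
  Lre_d IH (LK LD1_c11 LD2_c47 LD3_c29) (LK LD1_c20 LD2_c49 LD3_c34) Lrfl Lrfl
theorem f539120 : Led Lsl_bt (LP (LK LD1_c20 LD2_c49 LD3_c30)) = (LP (LK LD1_c11 LD2_c47 LD3_c29)) :=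
  Lre_b IH (LK LD1_c20 LD2_c49 LD3_c30) (LK LD1_c11 LD2_c47 LD3_c29) Lrfl Lrfl
theorem f580961 : Led Lsl_dt (LP (LK LD1_c13 LD2_c43 LD3_c21)) = (LP (LK LD1_c20 LD2_c49 LD3_c30)) :=
  Lgr Lrot79 (Lpr_bf (f580955 IH) (Lpe (f545443 IH) (Lpe (f539120 IH) (Lpn (LP (LK LD1_c20 LD2_c49 LD3_c30))))))
theorem f580972 : Led Lsl_et (LP (LK LD1_c7 LD2_c15 LD3_c3)) = (LP (LK LD1_c13 LD2_c43 LD3_c21)) :=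
  Lre_e IH (LK LD1_c7 LD2_c15 LD3_c3) (LK LD1_c13 LD2_c43 LD3_c21) Lrfl Lrfl
theorem f539132 : Led Lsl_et (LP (LK LD1_c20 LD2_c49 LD3_c30)) = (LP (LK LD1_c11 LD2_c47 LD3_c27)) :=
  Lre_e IH (LK LD1_c20 LD2_c49 LD3_c30) (LK LD1_c11 LD2_c47 LD3_c27) Lrfl Lrfl
theorem f580973 : Led Lsl_df (LP (LK LD1_c7 LD2_c14 LD3_c37)) = (LP (LK LD1_c11 LD2_c47 LD3_c27)) :=
  Lgr Lrot70 (Lpr_et (f98419 IH) (Lpr_dt (K29.f478210 IH) (Lpr_et (f580972 IH) (Lpr_dt (f580961 IH) (Lpr_et (f539132 IH) (Lpn (LP (LK LD1_c11 LD2_c47 LD3_c27))))))))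
theorem f539131 : Led Lsl_gt (LP (LK LD1_c20 LD2_c49 LD3_c28)) = (LP (LK LD1_c11 LD2_c47 LD3_c27)) :=
  Lre_g IH (LK LD1_c20 LD2_c49 LD3_c28) (LK LD1_c11 LD2_c47 LD3_c27) Lrfl Lrfl
theorem f539133 : Led Lsl_dt (LP (LK LD1_c29 LD2_c41 LD3_c9)) = (LP (LK LD1_c20 LD2_c49 LD3_c28)) :=
  Lre_d IH (LK LD1_c29 LD2_c41 LD3_c9) (LK LD1_c20 LD2_c49 LD3_c28) Lrfl Lrfl
theorem f580991 : Led Lsl_gt (LP (LK LD1_c23 LD2_c7 LD3_c40)) = (LP (LK LD1_c29 LD2_c41 LD3_c9)) :=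
  Lgr Lrot94 (Lpe (K43.f98431 IH) (Lpe (K43.f577213 IH) (Lpr_dt (K43.f98353 IH) (Lpr_gt (K42.f6556 IH) (Lpr_dt (K42.f6462 IH) (Lpe (K42.f6460 IH) (Lpr_df (f580973 IH) (Lpe (f539131 IH) (Lpe (f539133 IH) (Lpn (LP (LK LD1_c29 LD2_c41 LD3_c9))))))))))))
theorem f563237 : Led Lsl_at (LP (LK LD1_c11 LD2_c38 LD3_c4)) = (LP (LK LD1_c20 LD2_c35 LD3_c7)) :=
  Lgr Lrot100 (Lpr_af (K40.f563224 IH) (Lpn (LP (LK LD1_c20 LD2_c35 LD3_c7))))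
theorem f563213 : Led Lsl_ff (LP (LK LD1_c11 LD2_c38 LD3_c4)) = (LP (LK LD1_c17 LD2_c2 LD3_c32)) :=
  Lgr Lrot19 (Lpr_dt (K40.f553438 IH) (Lpr_ft (K40.f563210 IH) (Lpr_dt (K40.f72368 IH) (Lpn (LP (LK LD1_c17 LD2_c2 LD3_c32))))))
theorem f579504 : Led Lsl_gf (LP (LK LD1_c16 LD2_c31 LD3_c17)) = (LP (LK LD1_c17 LD2_c2 LD3_c32)) :=
  Lgr Lrot47 (Lpr_gt (K43.f579502 IH) (Lpe (f563237 IH) (Lpr_ff (f563213 IH) (Lpn (LP (LK LD1_c17 LD2_c2 LD3_c32))))))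
theorem f574758 : Led Lsl_bt (LP (LK LD1_c22 LD2_c47 LD3_c41)) = (LP (LK LD1_c16 LD2_c19 LD3_c28)) :=
  Lgr Lrot127 (Lpr_bf (K43.f574754 IH) (Lpn (LP (LK LD1_c16 LD2_c19 LD3_c28))))
theorem f580997 : Led Lsl_ct (LP (LK LD1_c22 LD2_c47 LD3_c41)) = (LP (LK LD1_c29 LD2_c41 LD3_c9)) :=
  Lgr Lrot10 (Lpr_bt (f574758 IH) (Lpr_gt (K39.f547697 IH) (Lpr_ct (K40.f72292 IH) (Lpe (f579504 IH) (Lpe (K43.f198436 IH) (Lpr_bt (K43.f572925 IH) (Lpr_gt (K43.f575062 IH) (Lpe (K43.f573207 IH) (Lpr_ct (K43.f98431 IH) (Lpr_gt (f580991 IH) (Lpn (LP (LK LD1_c29 LD2_c41 LD3_c9)))))))))))))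
theorem f112914 : Led Lsl_gt (LP (LK LD1_c8 LD2_c46 LD3_c59)) = (LP (LK LD1_c4 LD2_c24 LD3_c45)) :=
  Lre_g IH (LK LD1_c8 LD2_c46 LD3_c59) (LK LD1_c4 LD2_c24 LD3_c45) Lrfl Lrfl
theorem f98430 : Led Lsl_ct (LP (LK LD1_c23 LD2_c7 LD3_c42)) = (LP (LK LD1_c13 LD2_c42 LD3_c5)) :=
  Lre_c IH (LK LD1_c23 LD2_c7 LD3_c42) (LK LD1_c13 LD2_c42 LD3_c5) Lrfl Lrfl
theorem f581005 : Led Lsl_gf (LP (LK LD1_c23 LD2_c7 LD3_c42)) = (LP (LK LD1_c29 LD2_c41 LD3_c9)) :=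
  Lgr Lrot104 (Lpr_ct (f98430 IH) (Lpr_df (K42.f569929 IH) (Lpe (K42.f565824 IH) (Lpe (K41.f38594 IH) (Lpr_cf (K41.f38473 IH) (Lpe (f112914 IH) (Lpe (K43.f210663 IH) (Lpr_gt (K42.f570545 IH) (Lpr_ct (f580997 IH) (Lpn (LP (LK LD1_c29 LD2_c41 LD3_c9))))))))))))
theorem f442641 : Led Lsl_bt (LP (LK LD1_c11 LD2_c20 LD3_c34)) = (LP (LK LD1_c20 LD2_c17 LD3_c59)) :=
  Lre_b IH (LK LD1_c11 LD2_c20 LD3_c34) (LK LD1_c20 LD2_c17 LD3_c59) Lrfl Lrfl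
theorem f452918 : Led Lsl_bf (LP (LK LD1_c0 LD2_c39 LD3_c3)) = K35.v450 :=
  Lgr Lrot24 (Lpr_bt (K35.f452917 IH) (Lpn K35.v450))
theorem f448979 : Led Lsl_bf (LP (LK LD1_c0 LD2_c17 LD3_c21)) = K35.v120 :=
  Lgr Lrot24 (Lpr_bt (K35.f448978 IH) (Lpn K35.v120))
theorem f452919 : Led Lsl_df K35.v120 = K35.v450 :=
  Lgr Lrot12 (Lpe (f448979 IH) (Lpr_dt (K12.f9451 IH) (Lpr_bt (K35.f452917 IH) (Lpn K35.v450))))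
theorem f500271 : Led Lsl_gf K35.v450 = K35.v1596 :=
  Lgr Lrot138 (Lpe (f452919 IH) (Lpe (K35.f448982 IH) (Lpr_df (K35.f37306 IH) (Lpr_et (K35.f37304 IH) (Lpr_gt (K35.f37308 IH) (Lpe (K11.f24585 IH) (Lpe (K11.f24418 IH) (Lpr_gt (K12.f24589 IH) (Lpe (K35.f24592 IH) (Lpr_et (K35.f500265 IH) (Lpn K35.v1596)))))))))))
theorem f452921 : Led Lsl_ff (LP (LK LD1_c2 LD2_c16 LD3_c42)) = K35.v450 :=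
  Lgr Lrot25 (Lpr_bt (K35.f26693 IH) (Lpr_ft (K19.f313707 IH) (Lpr_bt (K35.f452917 IH) (Lpn K35.v450))))
theorem f452923 : Led Lsl_dt K35.v120 = K35.v450 :=
  Lgr Lrot60 (Lpe (K35.f448981 IH) (Lpe (K19.f177641 IH) (Lpr_ff (f452921 IH) (Lpn K35.v450))))
def v1234 : LQ := Led Lsl_dt (LP (LK LD1_c1 LD2_c3 LD3_c57))
theorem f494207 : Led Lsl_dt (LP (LK LD1_c1 LD2_c3 LD3_c57)) = v1234 :=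
  Lrfl
theorem f211749 : Led Lsl_gf (LP (LK LD1_c1 LD2_c25 LD3_c42)) = (LP (LK LD1_c1 LD2_c22 LD3_c12)) :=
  Lgr Lrot124 (Lpe (K10.f20732 IH) (Lpr_ct (K12.f20735 IH) (Lpr_gt (K12.f211742 IH) (Lpe (K12.f211711 IH) (Lpe (K12.f198071 IH) (Lpe (K10.f56072 IH) (Lpr_ct (K11.f28537 IH) (Lpr_gt (K11.f211100 IH) (Lpe (K12.f211035 IH) (Lpe (K11.f211026 IH) (Lpn (LP (LK LD1_c1 LD2_c22 LD3_c12)))))))))))))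
def v424 : LQ := Led Lsl_et (LP (LK LD1_c0 LD2_c38 LD3_c3))
theorem f452766 : Led Lsl_et (LP (LK LD1_c0 LD2_c38 LD3_c3)) = v424 :=
  Lrfl
def v1224 : LQ := Led Lsl_bt (LP (LK LD1_c1 LD2_c3 LD3_c33))
theorem f494110 : Led Lsl_bt (LP (LK LD1_c1 LD2_c3 LD3_c33)) = v1224 :=
  Lrfl
def v328 : LQ := Led Lsl_et (LP (LK LD1_c0 LD2_c28 LD3_c60))
theorem f452168 : Led Lsl_et (LP (LK LD1_c0 LD2_c28 LD3_c60)) = v328 :=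
  Lrfl
theorem f452169 : Led Lsl_bf (LP (LK LD1_c0 LD2_c29 LD3_c1)) = v328 :=
  Lgr Lrot96 (Lpr_et (K9.f20213 IH) (Lpr_bt (K13.f164993 IH) (Lpr_et (f452168 IH) (Lpn v328))))
theorem f494114 : Led Lsl_ff v328 = v1224 :=
  Lgr Lrot25 (Lpe (f452169 IH) (Lpr_ft (K19.f20224 IH) (Lpr_bt (f494110 IH) (Lpn v1224))))
theorem f494117 : Led Lsl_ft v328 = v1224 :=
  Lgr Lrot48 (Lpr_ff (f494114 IH) (Lpn v1224))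
theorem f452769 : Led Lsl_gt v328 = v424 :=
  Lgr Lrot131 (Lpe (f452168 IH) (Lpr_dt (K13.f193678 IH) (Lpe (K19.f313385 IH) (Lpr_df (K19.f313539 IH) (Lpe (K27.f313549 IH) (Lpe (K10.f20741 IH) (Lpr_dt (f20715 IH) (Lpr_gf (f211749 IH) (Lpe (K35.f164346 IH) (Lpr_et (f452766 IH) (Lpn v424)))))))))))
theorem f452170 : Led Lsl_ef (LP (LK LD1_c0 LD2_c28 LD3_c60)) = v328 :=
  Lgr Lrot88 (Lpr_et (f452168 IH) (Lpn v328))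
theorem f452171 : Led Lsl_at v328 = v328 :=
  Lgr Lrot80 (Lpe (f452168 IH) (Lpe (K22.f334580 IH) (Lpr_ef (f452170 IH) (Lpn v328))))
theorem f494118 : Led Lsl_af v1224 = v1224 :=
  Lgr Lrot45 (Lpe (f494114 IH) (Lpr_at (f452171 IH) (Lpr_ft (f494117 IH) (Lpn v1224))))
theorem f494119 : Led Lsl_gt v424 = v1224 :=
  Lgr Lrot46 (Lpe (f452769 IH) (Lpr_ft (f494117 IH) (Lpe (f494118 IH) (Lpn v1224))))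
theorem f313619 : Led Lsl_ft (LP (LK LD1_c0 LD2_c28 LD3_c60)) = (LP (LK LD1_c0 LD2_c16 LD3_c26)) :=
  Lgr Lrot54 (Lpe (K13.f193677 IH) (Lpr_ff (K19.f313611 IH) (Lpe (K18.f193683 IH) (Lpn (LP (LK LD1_c0 LD2_c16 LD3_c26))))))
theorem f494116 : Led Lsl_et K36.v381 = v1224 :=
  Lgr Lrot69 (Lpe (K36.f452537 IH) (Lpe (K35.f313404 IH) (Lpe (f313619 IH) (Lpr_ef (f452170 IH) (Lpr_ff (f494114 IH) (Lpn v1224))))))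
theorem f452532 : Led Lsl_df (LP (LK LD1_c0 LD2_c36 LD3_c51)) = K35.v380 :=
  Lgr Lrot38 (Lpr_dt (K35.f452530 IH) (Lpn K35.v380))
theorem f490694 : Led Lsl_dt K36.v381 = K35.v949 :=
  Lgr Lrot60 (Lpe (K36.f452537 IH) (Lpr_df (f452532 IH) (Lpr_ff (K35.f490692 IH) (Lpn K35.v949))))
theorem f494211 : Led Lsl_gt K35.v949 = v1234 :=
  Lgr Lrot112 (Lpe (f490694 IH) (Lpr_et (f494116 IH) (Lpe (f494119 IH) (Lpe (f452766 IH) (Lpr_dt (K35.f164346 IH) (Lpr_gf (K12.f197370 IH) (Lpr_df (K10.f20733 IH) (Lpr_gf (f211749 IH) (Lpr_ef (K31.f419040 IH) (Lpr_dt (f494207 IH) (Lpn v1234)))))))))))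
theorem f494209 : Led Lsl_df (LP (LK LD1_c1 LD2_c3 LD3_c57)) = v1234 :=
  Lgr Lrot38 (Lpr_dt (f494207 IH) (Lpn v1234))
theorem f452201 : Led Lsl_at K35.v332 = K35.v332 :=
  Lgr Lrot66 (Lpe (K35.f452196 IH) (Lpr_af (K35.f422766 IH) (Lpr_ff (K35.f452200 IH) (Lpn K35.v332))))
theorem f452206 : Led Lsl_gt (LP (LK LD1_c1 LD2_c3 LD3_c57)) = K35.v332 :=
  Lgr Lrot46 (Lpe (K11.f37101 IH) (Lpr_ft (K35.f452196 IH) (Lpr_at (f452201 IH) (Lpn K35.v332))))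
theorem f452203 : Led Lsl_dt K35.v116 = K35.v332 :=
  Lgr Lrot60 (Lpe (K35.f448955 IH) (Lpe (K35.f446798 IH) (Lpr_ff (K35.f452200 IH) (Lpn K35.v332))))
theorem f146274 : Led Lsl_ff (LP (LK LD1_c0 LD2_c7 LD3_c29)) = (LP (LK LD1_c0 LD2_c12 LD3_c53)) :=
  Lgr Lrot25 (Lpr_bt (K1.f21178 IH) (Lpr_ft (K6.f146270 IH) (Lpr_bt (K1.f37262 IH) (Lpn (LP (LK LD1_c0 LD2_c12 LD3_c53))))))
theorem f452204 : Led Lsl_et K35.v116 = K35.v332 :=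
  Lgr Lrot69 (Lpe (K35.f448955 IH) (Lpe (K35.f446792 IH) (Lpr_ff (f146274 IH) (Lpe (K35.f37266 IH) (Lpr_ff (K35.f452200 IH) (Lpn K35.v332))))))
theorem f500272 : Led Lsl_dt (LP (LK LD1_c2 LD2_c13 LD3_c50)) = K35.v1596 :=
  Lgr Lrot136 (Lpr_et (K35.f198455 IH) (Lpr_gf (K35.f452205 IH) (Lpe (f452204 IH) (Lpr_dt (f452203 IH) (Lpe (f452206 IH) (Lpr_df (f494209 IH) (Lpe (f494211 IH) (Lpe (K35.f490689 IH) (Lpr_dt (f452923 IH) (Lpr_gf (f500271 IH) (Lpn K35.v1596)))))))))))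
theorem f536705 : (LP (LK LD1_c2 LD2_c52 LD3_c16)) = K35.v1596 :=
  Lefun (Lecon (Lfl_df (K35.f500282 IH)) (K35.f536651 IH)) (f500272 IH)
theorem f536804 : K35.v450 = (LP (LK LD1_c1 LD2_c22 LD3_c8)) :=
  Lefun (Lecon (Lfl_gf (f500271 IH)) (f536705 IH).symm) (K31.f24255 IH)
def v1591 : LQ := Led Lsl_ct (LP (LK LD1_c1 LD2_c22 LD3_c8))
theorem f500228 : Led Lsl_ct (LP (LK LD1_c1 LD2_c22 LD3_c8)) = v1591 :=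
  Lrfl
theorem f500229 : Led Lsl_cf (LP (LK LD1_c1 LD2_c22 LD3_c8)) = v1591 :=
  Lgr Lrot11 (Lpr_ct (f500228 IH) (Lpn v1591))
def v3035 : LQ := Led Lsl_ct K35.v450
theorem f536583 : Led Lsl_ct K35.v450 = v3035 :=
  Lrfl
theorem f536988 : v3035 = v1591 :=
  Lefun (Lecon (f536583 IH) (f536804 IH)) (f500228 IH)
theorem f536802 : (LP (LK LD1_c1 LD2_c3 LD3_c5)) = v3035 :=
  Lefun (Lecon (Lfl_cf (K35.f494056 IH)) (K35.f536704 IH)) (f536583 IH)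
theorem f556082 : Led Lsl_gt (LP (LK LD1_c20 LD2_c17 LD3_c59)) = (LP (LK LD1_c26 LD2_c23 LD3_c56)) :=
  Lgr Lrot190 (Lpe (f442641 IH) (Lpe (K37.f176456 IH) (Lpr_df (K39.f442633 IH) (Lpr_gf (K39.f556078 IH) (Lpe (K43.f24453 IH) (Lpe (K9.f24452 IH) (Lpe (K9.f176815 IH) (Lpr_gf (K11.f176847 IH) (Lpr_bf (f452918 IH) (Lpqs (f536804 IH) (Lpr_cf (f500229 IH) (Lpq (f536988 IH) (Lpq (f536802 IH) (Lpr_df (K10.f20733 IH) (Lpr_gf (f211749 IH) (Lpr_bf (K11.f211026 IH) (Lpe (K11.f211031 IH) (Lpr_df (K12.f227550 IH) (Lpr_gf (K41.f272725 IH) (Lpe (K41.f37581 IH) (Lpe (K41.f38461 IH) (Lpe (K41.f38462 IH) (Lpn (LP (LK LD1_c26 LD2_c23 LD3_c56)))))))))))))))))))))))))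
theorem f581009 : Led Lsl_dt (LP (LK LD1_c23 LD2_c7 LD3_c42)) = (LP (LK LD1_c20 LD2_c17 LD3_c59)) :=
  Lgr Lrot57 (Lpr_gf (f581005 IH) (Lpe (f580997 IH) (Lpe (K43.f571238 IH) (Lpr_dt (K43.f137693 IH) (Lpe (K43.f565116 IH) (Lpr_dt (K36.f36188 IH) (Lpe (K41.f38461 IH) (Lpe (K41.f38462 IH) (Lpe (f556082 IH) (Lpn (LP (LK LD1_c20 LD2_c17 LD3_c59))))))))))))
theorem f427429 : Led Lsl_at (LP (LK LD1_c7 LD2_c56 LD3_c57)) = (LP (LK LD1_c4 LD2_c25 LD3_c19)) :=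
  Lgr Lrot100 (Lpr_af (K42.f427427 IH) (Lpn (LP (LK LD1_c4 LD2_c25 LD3_c19))))
theorem f565850 : Led Lsl_ft (LP (LK LD1_c8 LD2_c48 LD3_c28)) = (LP (LK LD1_c7 LD2_c56 LD3_c57)) :=
  Lgr Lrot2 (Lpr_gt (K41.f565065 IH) (Lpr_gt (K41.f565848 IH) (Lpe (f427429 IH) (Lpn (LP (LK LD1_c7 LD2_c56 LD3_c57))))))
theorem f569949 : Led Lsl_ft (LP (LK LD1_c13 LD2_c42 LD3_c5)) = (LP (LK LD1_c16 LD2_c28 LD3_c39)) :=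
  Lgr Lrot54 (Lpr_df (K42.f569929 IH) (Lpe (f565850 IH) (Lpe (f227505 IH) (Lpn (LP (LK LD1_c16 LD2_c28 LD3_c39))))))
theorem f580847 : Led Lsl_ft (LP (LK LD1_c20 LD2_c49 LD3_c50)) = (LP (LK LD1_c23 LD2_c7 LD3_c42)) :=
  Lgr Lrot4 (Lpr_cf (f580839 IH) (Lpe (f569949 IH) (Lpe (f98430 IH) (Lpn (LP (LK LD1_c23 LD2_c7 LD3_c42))))))
theorem f539197 : Led Lsl_dt (LP (LK LD1_c11 LD2_c47 LD3_c39)) = (LP (LK LD1_c20 LD2_c49 LD3_c50)) :=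
  Lre_d IH (LK LD1_c11 LD2_c47 LD3_c39) (LK LD1_c20 LD2_c49 LD3_c50) Lrfl Lrfl
theorem f581015 : Led Lsl_ff (LP (LK LD1_c11 LD2_c47 LD3_c39)) = (LP (LK LD1_c20 LD2_c17 LD3_c59)) :=
  Lgr Lrot19 (Lpr_dt (f539197 IH) (Lpr_ft (f580847 IH) (Lpr_dt (f581009 IH) (Lpn (LP (LK LD1_c20 LD2_c17 LD3_c59))))))
theorem f539192 : Led Lsl_at (LP (LK LD1_c11 LD2_c47 LD3_c39)) = (LP (LK LD1_c20 LD2_c49 LD3_c49)) :=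
  Lre_a IH (LK LD1_c11 LD2_c47 LD3_c39) (LK LD1_c20 LD2_c49 LD3_c49) Lrfl Lrfl
theorem f387446 : Led Lsl_et (LP (LK LD1_c2 LD2_c56 LD3_c56)) = (LP (LK LD1_c6 LD2_c1 LD3_c32)) :=
  Lre_e IH (LK LD1_c2 LD2_c56 LD3_c56) (LK LD1_c6 LD2_c1 LD3_c32) Lrfl Lrfl
theorem f539156 : Led Lsl_et (LP (LK LD1_c11 LD2_c32 LD3_c27)) = (LP (LK LD1_c5 LD2_c53 LD3_c10)) :=
  Lre_e IH (LK LD1_c11 LD2_c32 LD3_c27) (LK LD1_c5 LD2_c53 LD3_c10) Lrfl Lrfl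
theorem f539157 : Led Lsl_bt (LP (LK LD1_c6 LD2_c1 LD3_c32)) = (LP (LK LD1_c11 LD2_c32 LD3_c27)) :=
  Lgr Lrot119 (Lpe (f387446 IH) (Lpr_bf (K43.f539148 IH) (Lpe (f539156 IH) (Lpn (LP (LK LD1_c11 LD2_c32 LD3_c27))))))
theorem f539161 : Led Lsl_ct (LP (LK LD1_c11 LD2_c47 LD3_c41)) = (LP (LK LD1_c6 LD2_c1 LD3_c32)) :=
  Lre_c IH (LK LD1_c11 LD2_c47 LD3_c41) (LK LD1_c6 LD2_c1 LD3_c32) Lrfl Lrfl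
theorem f539162 : Led Lsl_bt (LP (LK LD1_c20 LD2_c49 LD3_c51)) = (LP (LK LD1_c11 LD2_c47 LD3_c41)) :=
  Lre_b IH (LK LD1_c20 LD2_c49 LD3_c51) (LK LD1_c11 LD2_c47 LD3_c41) Lrfl Lrfl
theorem f539163 : Led Lsl_ct (LP (LK LD1_c11 LD2_c32 LD3_c27)) = (LP (LK LD1_c20 LD2_c29 LD3_c16)) :=
  Lre_c IH (LK LD1_c11 LD2_c32 LD3_c27) (LK LD1_c20 LD2_c29 LD3_c16) Lrfl Lrfl
theorem f539164 : Led Lsl_bt (LP (LK LD1_c20 LD2_c29 LD3_c16)) = (LP (LK LD1_c29 LD2_c28 LD3_c17)) :=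
  Lre_b IH (LK LD1_c20 LD2_c29 LD3_c16) (LK LD1_c29 LD2_c28 LD3_c17) Lrfl Lrfl
theorem f539165 : Led Lsl_cf (LP (LK LD1_c20 LD2_c49 LD3_c51)) = (LP (LK LD1_c29 LD2_c28 LD3_c17)) :=
  Lgr Lrot97 (Lpr_bt (f539162 IH) (Lpr_ct (f539161 IH) (Lpr_bt (f539157 IH) (Lpr_ct (f539163 IH) (Lpr_bt (f539164 IH) (Lpn (LP (LK LD1_c29 LD2_c28 LD3_c17))))))))
theorem f539175 : Led Lsl_ct (LP (LK LD1_c20 LD2_c49 LD3_c51)) = (LP (LK LD1_c29 LD2_c28 LD3_c17)) :=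
  Lgr Lrot59 (Lpr_cf (f539165 IH) (Lpn (LP (LK LD1_c29 LD2_c28 LD3_c17))))
theorem f539188 : Led Lsl_et (LP (LK LD1_c11 LD2_c47 LD3_c39)) = (LP (LK LD1_c20 LD2_c49 LD3_c51)) :=
  Lre_e IH (LK LD1_c11 LD2_c47 LD3_c39) (LK LD1_c20 LD2_c49 LD3_c51) Lrfl Lrfl
theorem f539189 : Led Lsl_et (LP (LK LD1_c29 LD2_c28 LD3_c17)) = (LP (LK LD1_c20 LD2_c29 LD3_c14)) :=
  Lre_e IH (LK LD1_c29 LD2_c28 LD3_c17) (LK LD1_c20 LD2_c29 LD3_c14) Lrfl Lrfl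
theorem f539190 : Led Lsl_cf (LP (LK LD1_c11 LD2_c47 LD3_c39)) = (LP (LK LD1_c20 LD2_c29 LD3_c14)) :=
  Lgr Lrot39 (Lpr_et (f539188 IH) (Lpr_ct (f539175 IH) (Lpr_et (f539189 IH) (Lpn (LP (LK LD1_c20 LD2_c29 LD3_c14))))))
theorem f539193 : Led Lsl_at (LP (LK LD1_c29 LD2_c28 LD3_c16)) = (LP (LK LD1_c20 LD2_c29 LD3_c14)) :=
  Lre_a IH (LK LD1_c29 LD2_c28 LD3_c16) (LK LD1_c20 LD2_c29 LD3_c14) Lrfl Lrfl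
theorem f539194 : Led Lsl_ct (LP (LK LD1_c20 LD2_c49 LD3_c49)) = (LP (LK LD1_c29 LD2_c28 LD3_c16)) :=
  Lgr Lrot111 (Lpe (f539192 IH) (Lpr_cf (f539190 IH) (Lpe (f539193 IH) (Lpn (LP (LK LD1_c29 LD2_c28 LD3_c16))))))
theorem f539202 : Led Lsl_cf (LP (LK LD1_c20 LD2_c49 LD3_c49)) = (LP (LK LD1_c29 LD2_c28 LD3_c16)) :=
  Lgr Lrot11 (Lpr_ct (f539194 IH) (Lpn (LP (LK LD1_c29 LD2_c28 LD3_c16))))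
theorem f581013 : Led Lsl_df (LP (LK LD1_c23 LD2_c7 LD3_c42)) = (LP (LK LD1_c20 LD2_c17 LD3_c59)) :=
  Lgr Lrot38 (Lpr_dt (f581009 IH) (Lpn (LP (LK LD1_c20 LD2_c17 LD3_c59))))
theorem f569945 : Led Lsl_dt (LP (LK LD1_c13 LD2_c42 LD3_c5)) = (LP (LK LD1_c7 LD2_c56 LD3_c57)) :=
  Lgr Lrot42 (Lpr_df (K42.f569929 IH) (Lpn (LP (LK LD1_c7 LD2_c56 LD3_c57))))
theorem f581025 : Led Lsl_df (LP (LK LD1_c29 LD2_c28 LD3_c16)) = (LP (LK LD1_c26 LD2_c25 LD3_c28)) :=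
  Lgr Lrot177 (Lpe (f539202 IH) (Lpe (f539192 IH) (Lpr_ff (f581015 IH) (Lpe (f581013 IH) (Lpr_ct (f98430 IH) (Lpr_dt (f569945 IH) (Lpe (K42.f565816 IH) (Lpr_dt (K42.f38595 IH) (Lpr_ct (K43.f420832 IH) (Lpn (LP (LK LD1_c26 LD2_c25 LD3_c28))))))))))))
theorem f569893 : Led Lsl_at (LP (LK LD1_c4 LD2_c25 LD3_c26)) = (LP (LK LD1_c8 LD2_c48 LD3_c12)) :=
  Lgr Lrot80 (Lpr_ef (K42.f569891 IH) (Lpe (K42.f426386 IH) (Lpe (K41.f565826 IH) (Lpn (LP (LK LD1_c8 LD2_c48 LD3_c12))))))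
theorem f569967 : Led Lsl_at (LP (LK LD1_c4 LD2_c25 LD3_c27)) = (LP (LK LD1_c8 LD2_c48 LD3_c13)) :=
  Lgr Lrot100 (Lpr_af (K42.f569965 IH) (Lpn (LP (LK LD1_c8 LD2_c48 LD3_c13))))
theorem f569983 : Led Lsl_ft (LP (LK LD1_c8 LD2_c48 LD3_c12)) = (LP (LK LD1_c4 LD2_c25 LD3_c27)) :=
  Lgr Lrot101 (Lpe (f569893 IH) (Lpr_ff (K42.f569981 IH) (Lpe (f569967 IH) (Lpn (LP (LK LD1_c4 LD2_c25 LD3_c27))))))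
theorem f565753 : Led Lsl_cf (LP (LK LD1_c8 LD2_c48 LD3_c13)) = (LP (LK LD1_c8 LD2_c44 LD3_c8)) :=
  Lgr Lrot11 (Lpr_ct (K41.f565751 IH) (Lpn (LP (LK LD1_c8 LD2_c44 LD3_c8))))
theorem f573210 : Led Lsl_dt (LP (LK LD1_c13 LD2_c42 LD3_c4)) = (LP (LK LD1_c8 LD2_c44 LD3_c8)) :=
  Lgr Lrot42 (Lpr_df (K43.f573203 IH) (Lpn (LP (LK LD1_c8 LD2_c44 LD3_c8))))
theorem f581031 : Led Lsl_dt (LP (LK LD1_c20 LD2_c49 LD3_c49)) = (LP (LK LD1_c23 LD2_c7 LD3_c40)) :=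
  Lgr Lrot140 (Lpr_cf (f539202 IH) (Lpr_df (f581025 IH) (Lpe (K43.f420832 IH) (Lpe (K42.f38595 IH) (Lpr_ft (f569983 IH) (Lpr_at (f569967 IH) (Lpr_cf (f565753 IH) (Lpe (f573210 IH) (Lpe (K43.f573217 IH) (Lpn (LP (LK LD1_c23 LD2_c7 LD3_c40))))))))))))
theorem f581037 : Led Lsl_df (LP (LK LD1_c20 LD2_c49 LD3_c49)) = (LP (LK LD1_c23 LD2_c7 LD3_c40)) :=
  Lgr Lrot38 (Lpr_dt (f581031 IH) (Lpn (LP (LK LD1_c23 LD2_c7 LD3_c40))))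
theorem f581043 : Led Lsl_gt (LP (LK LD1_c20 LD2_c49 LD3_c49)) = (LP (LK LD1_c26 LD2_c23 LD3_c27)) :=
  Lgr Lrot49 (Lpr_df (f581037 IH) (Lpr_gf (K43.f573218 IH) (Lpe (K42.f211632 IH) (Lpr_gt (K43.f572563 IH) (Lpr_dt (K43.f210663 IH) (Lpr_gt (f112914 IH) (Lpr_dt (K41.f36021 IH) (Lpe (K41.f38469 IH) (Lpe (K41.f38470 IH) (Lpn (LP (LK LD1_c26 LD2_c23 LD3_c27))))))))))))
theorem f540986 : Led Lsl_ct (LP (LK LD1_c13 LD2_c31 LD3_c30)) = (LP (LK LD1_c21 LD2_c10 LD3_c60)) :=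
  Lgr Lrot59 (Lpr_cf (K41.f540982 IH) (Lpn (LP (LK LD1_c21 LD2_c10 LD3_c60))))
theorem f540994 : Led Lsl_dt (LP (LK LD1_c22 LD2_c52 LD3_c55)) = (LP (LK LD1_c13 LD2_c31 LD3_c30)) :=
  Lre_d IH (LK LD1_c22 LD2_c52 LD3_c55) (LK LD1_c13 LD2_c31 LD3_c30) Lrfl Lrfl
theorem f581033 : Led Lsl_gt (LP (LK LD1_c29 LD2_c28 LD3_c16)) = (LP (LK LD1_c22 LD2_c52 LD3_c55)) :=
  Lgr Lrot49 (Lpr_df (f581025 IH) (Lpr_gf (K43.f579509 IH) (Lpe (K43.f193745 IH) (Lpr_gt (K43.f575887 IH) (Lpr_dt (K39.f37843 IH) (Lpr_gt (K42.f538282 IH) (Lpr_dt (K41.f411104 IH) (Lpe (f540986 IH) (Lpe (f540994 IH) (Lpn (LP (LK LD1_c22 LD2_c52 LD3_c55))))))))))))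
theorem f98179 : Led Lsl_ct (LP (LK LD1_c7 LD2_c6 LD3_c33)) = (LP (LK LD1_c3 LD2_c37 LD3_c7)) :=
  Lgr Lrot15 (Lpr_ef (K36.f98170 IH) (Lpe (K36.f6160 IH) (Lpr_ef (K3.f10590 IH) (Lpn (LP (LK LD1_c3 LD2_c37 LD3_c7))))))
theorem f6165 : Led Lsl_ct (LP (LK LD1_c13 LD2_c42 LD3_c16)) = (LP (LK LD1_c7 LD2_c14 LD3_c38)) :=
  Lre_c IH (LK LD1_c13 LD2_c42 LD3_c16) (LK LD1_c7 LD2_c14 LD3_c38) Lrfl Lrfl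
theorem f574794 : Led Lsl_gf (LP (LK LD1_c13 LD2_c42 LD3_c16)) = (LP (LK LD1_c16 LD2_c26 LD3_c2)) :=
  Lgr Lrot104 (Lpr_ct (f6165 IH) (Lpe (K29.f6155 IH) (Lpe (f98179 IH) (Lpe (K42.f98190 IH) (Lpe (K42.f98330 IH) (Lpr_gf (K43.f574788 IH) (Lpe (K43.f97175 IH) (Lpe (K36.f540497 IH) (Lpr_ct (K41.f210641 IH) (Lpn (LP (LK LD1_c16 LD2_c26 LD3_c2))))))))))))
theorem f539130 : Led Lsl_bt (LP (LK LD1_c20 LD2_c29 LD3_c10)) = (LP (LK LD1_c11 LD2_c32 LD3_c23)) :=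
  Lre_b IH (LK LD1_c20 LD2_c29 LD3_c10) (LK LD1_c11 LD2_c32 LD3_c23) Lrfl Lrfl
theorem f428313 : Led Lsl_bt (LP (LK LD1_c5 LD2_c58 LD3_c35)) = (LP (LK LD1_c11 LD2_c41 LD3_c35)) :=
  Lre_b IH (LK LD1_c5 LD2_c58 LD3_c35) (LK LD1_c11 LD2_c41 LD3_c35) Lrfl Lrfl
theorem f545376 : Led Lsl_ff (LP (LK LD1_c20 LD2_c29 LD3_c10)) = (LP (LK LD1_c11 LD2_c41 LD3_c35)) :=
  Lgr Lrot25 (Lpr_bt (f539130 IH) (Lpr_ft (K38.f545369 IH) (Lpr_bt (f428313 IH) (Lpn (LP (LK LD1_c11 LD2_c41 LD3_c35))))))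
theorem f545385 : Led Lsl_ft (LP (LK LD1_c20 LD2_c29 LD3_c10)) = (LP (LK LD1_c11 LD2_c41 LD3_c35)) :=
  Lgr Lrot48 (Lpr_ff (f545376 IH) (Lpn (LP (LK LD1_c11 LD2_c41 LD3_c35))))
theorem f24264 : Led Lsl_ct (LP (LK LD1_c5 LD2_c53 LD3_c8)) = (LP (LK LD1_c11 LD2_c32 LD3_c23)) :=
  Lre_c IH (LK LD1_c5 LD2_c53 LD3_c8) (LK LD1_c11 LD2_c32 LD3_c23) Lrfl Lrfl
theorem f24265 : Led Lsl_bt (LP (LK LD1_c11 LD2_c32 LD3_c23)) = (LP (LK LD1_c20 LD2_c29 LD3_c10)) :=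
  Lre_b IH (LK LD1_c11 LD2_c32 LD3_c23) (LK LD1_c20 LD2_c29 LD3_c10) Lrfl Lrfl
theorem f539101 : Led Lsl_bt (LP (LK LD1_c11 LD2_c47 LD3_c27)) = (LP (LK LD1_c6 LD2_c1 LD3_c27)) :=
  Lre_b IH (LK LD1_c11 LD2_c47 LD3_c27) (LK LD1_c6 LD2_c1 LD3_c27) Lrfl Lrfl
theorem f539102 : Led Lsl_ct (LP (LK LD1_c20 LD2_c29 LD3_c10)) = (LP (LK LD1_c11 LD2_c47 LD3_c27)) :=
  Lgr Lrot83 (Lpe (f24265 IH) (Lpe (f24264 IH) (Lpr_bf (K38.f539092 IH) (Lpe (K36.f500894 IH) (Lpe (f539101 IH) (Lpn (LP (LK LD1_c11 LD2_c47 LD3_c27))))))))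
theorem f539126 : Led Lsl_cf (LP (LK LD1_c20 LD2_c29 LD3_c10)) = (LP (LK LD1_c11 LD2_c47 LD3_c27)) :=
  Lgr Lrot11 (Lpr_ct (f539102 IH) (Lpn (LP (LK LD1_c11 LD2_c47 LD3_c27))))
theorem f545387 : Led Lsl_ff (LP (LK LD1_c11 LD2_c47 LD3_c27)) = (LP (LK LD1_c11 LD2_c42 LD3_c21)) :=
  Lgr Lrot23 (Lpe (f539126 IH) (Lpr_ft (f545385 IH) (Lpr_ct (K40.f428307 IH) (Lpn (LP (LK LD1_c11 LD2_c42 LD3_c21))))))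
theorem f580985 : Led Lsl_dt (LP (LK LD1_c13 LD2_c42 LD3_c16)) = (LP (LK LD1_c11 LD2_c42 LD3_c21)) :=
  Lgr Lrot60 (Lpe (f98421 IH) (Lpr_df (f580973 IH) (Lpr_ff (f545387 IH) (Lpn (LP (LK LD1_c11 LD2_c42 LD3_c21))))))
theorem f581045 : Led Lsl_dt (LP (LK LD1_c7 LD2_c8 LD3_c29)) = (LP (LK LD1_c11 LD2_c41 LD3_c35)) :=
  Lgr Lrot105 (Lpe (K41.f6539 IH) (Lpe (f540994 IH) (Lpe (f581033 IH) (Lpe (f539194 IH) (Lpr_gt (f581043 IH) (Lpr_dt (K41.f38470 IH) (Lpe (f574794 IH) (Lpr_dt (f580985 IH) (Lpe (K40.f428307 IH) (Lpn (LP (LK LD1_c11 LD2_c41 LD3_c35))))))))))))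
theorem f539125 : Led Lsl_at (LP (LK LD1_c11 LD2_c47 LD3_c27)) = (LP (LK LD1_c20 LD2_c49 LD3_c29)) :=
  Lre_a IH (LK LD1_c11 LD2_c47 LD3_c27) (LK LD1_c20 LD2_c49 LD3_c29) Lrfl Lrfl
theorem f545389 : Led Lsl_ft (LP (LK LD1_c20 LD2_c49 LD3_c29)) = (LP (LK LD1_c20 LD2_c42 LD3_c37)) :=
  Lgr Lrot101 (Lpe (f539125 IH) (Lpr_ff (f545387 IH) (Lpe (K40.f428316 IH) (Lpn (LP (LK LD1_c20 LD2_c42 LD3_c37))))))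
theorem f581060 : Led Lsl_df (LP (LK LD1_c13 LD2_c31 LD3_c14)) = (LP (LK LD1_c20 LD2_c49 LD3_c29)) :=
  Lgr Lrot157 (Lpr_ct (K36.f98127 IH) (Lpr_dt (K43.f6551 IH) (Lpr_ct (K36.f6544 IH) (Lpr_dt (K41.f6134 IH) (Lpr_ct (K41.f6461 IH) (Lpr_dt (f581045 IH) (Lpr_ct (K40.f428307 IH) (Lpe (K40.f428316 IH) (Lpe (f545389 IH) (Lpn (LP (LK LD1_c20 LD2_c49 LD3_c29))))))))))))
theorem f574750 : Led Lsl_gf (LP (LK LD1_c16 LD2_c28 LD3_c39)) = (LP (LK LD1_c12 LD2_c5 LD3_c11)) :=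
  Lgr Lrot143 (Lpr_dt (f227505 IH) (Lpe (K41.f227504 IH) (Lpe (K42.f38497 IH) (Lpr_gf (K42.f565045 IH) (Lpe (K42.f6142 IH) (Lpe (K42.f6141 IH) (Lpe (K36.f6544 IH) (Lpr_gt (K42.f6557 IH) (Lpr_dt (K43.f574741 IH) (Lpn (LP (LK LD1_c12 LD2_c5 LD3_c11))))))))))))
theorem f98321 : Led Lsl_dt (LP (LK LD1_c13 LD2_c31 LD3_c22)) = (LP (LK LD1_c7 LD2_c8 LD3_c25)) :=
  Lre_d IH (LK LD1_c13 LD2_c31 LD3_c22) (LK LD1_c7 LD2_c8 LD3_c25) Lrfl Lrfl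
theorem f580851 : Led Lsl_gt (LP (LK LD1_c20 LD2_c49 LD3_c50)) = (LP (LK LD1_c22 LD2_c52 LD3_c33)) :=
  Lgr Lrot150 (Lpr_cf (f580839 IH) (Lpr_gf (f574750 IH) (Lpe (K43.f574741 IH) (Lpe (K42.f98313 IH) (Lpr_ct (K36.f98311 IH) (Lpr_gt (K41.f98187 IH) (Lpr_ct (K42.f98317 IH) (Lpe (f98321 IH) (Lpe (K42.f98319 IH) (Lpn (LP (LK LD1_c22 LD2_c52 LD3_c33))))))))))))
theorem f428318 : Led Lsl_gt (LP (LK LD1_c11 LD2_c42 LD3_c21)) = (LP (LK LD1_c20 LD2_c42 LD3_c35)) :=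
  Lre_g IH (LK LD1_c11 LD2_c42 LD3_c21) (LK LD1_c20 LD2_c42 LD3_c35) Lrfl Lrfl
theorem f545392 : Led Lsl_gf (LP (LK LD1_c20 LD2_c49 LD3_c29)) = (LP (LK LD1_c20 LD2_c42 LD3_c35)) :=
  Lgr Lrot76 (Lpe (f539125 IH) (Lpr_ff (f545387 IH) (Lpr_gt (f428318 IH) (Lpn (LP (LK LD1_c20 LD2_c42 LD3_c35))))))
theorem f581076 : Led Lsl_dt (LP (LK LD1_c22 LD2_c52 LD3_c33)) = (LP (LK LD1_c20 LD2_c42 LD3_c35)) :=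
  Lgr Lrot57 (Lpe (f580851 IH) (Lpr_cf (f580839 IH) (Lpe (K43.f571248 IH) (Lpr_dt (K42.f98137 IH) (Lpr_gt (K41.f6554 IH) (Lpr_dt (K36.f98054 IH) (Lpe (K36.f98127 IH) (Lpr_df (f581060 IH) (Lpr_gf (f545392 IH) (Lpn (LP (LK LD1_c20 LD2_c42 LD3_c35))))))))))))
theorem f581080 : Led Lsl_df (LP (LK LD1_c22 LD2_c52 LD3_c33)) = (LP (LK LD1_c20 LD2_c42 LD3_c35)) :=
  Lgr Lrot38 (Lpr_dt (f581076 IH) (Lpn (LP (LK LD1_c20 LD2_c42 LD3_c35))))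
theorem f580993 : Led Lsl_at (LP (LK LD1_c22 LD2_c52 LD3_c33)) = (LP (LK LD1_c29 LD2_c41 LD3_c9)) :=
  Lgr Lrot26 (Lpr_ff (K42.f572526 IH) (Lpe (K43.f573218 IH) (Lpr_gt (f580991 IH) (Lpn (LP (LK LD1_c29 LD2_c41 LD3_c9))))))
theorem f581089 : Led Lsl_at (LP (LK LD1_c20 LD2_c49 LD3_c28)) = (LP (LK LD1_c20 LD2_c42 LD3_c35)) :=
  Lgr Lrot51 (Lpe (f539133 IH) (Lpe (f580993 IH) (Lpr_df (f581080 IH) (Lpn (LP (LK LD1_c20 LD2_c42 LD3_c35))))))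
theorem f428320 : Led Lsl_gt (LP (LK LD1_c20 LD2_c42 LD3_c36)) = (LP (LK LD1_c11 LD2_c42 LD3_c21)) :=
  Lre_g IH (LK LD1_c20 LD2_c42 LD3_c36) (LK LD1_c11 LD2_c42 LD3_c21) Lrfl Lrfl
theorem f581091 : Led Lsl_ff (LP (LK LD1_c20 LD2_c49 LD3_c28)) = (LP (LK LD1_c20 LD2_c42 LD3_c36)) :=
  Lgr Lrot52 (Lpr_at (f581089 IH) (Lpe (f428318 IH) (Lpe (f428320 IH) (Lpn (LP (LK LD1_c20 LD2_c42 LD3_c36))))))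
theorem f581097 : Led Lsl_ft (LP (LK LD1_c20 LD2_c49 LD3_c28)) = (LP (LK LD1_c20 LD2_c42 LD3_c36)) :=
  Lgr Lrot48 (Lpr_ff (f581091 IH) (Lpn (LP (LK LD1_c20 LD2_c42 LD3_c36))))
theorem f9398 : Led Lsl_gt (LP (LK LD1_c11 LD2_c47 LD3_c27)) = (LP (LK LD1_c20 LD2_c49 LD3_c27)) :=
  Lre_g IH (LK LD1_c11 LD2_c47 LD3_c27) (LK LD1_c20 LD2_c49 LD3_c27) Lrfl Lrfl
theorem f581101 : Led Lsl_af (LP (LK LD1_c20 LD2_c49 LD3_c27)) = (LP (LK LD1_c20 LD2_c42 LD3_c36)) :=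
  Lgr Lrot31 (Lpe (f9398 IH) (Lpe (f539131 IH) (Lpr_ft (f581097 IH) (Lpn (LP (LK LD1_c20 LD2_c42 LD3_c36))))))
theorem f574762 : Led Lsl_ft (LP (LK LD1_c22 LD2_c47 LD3_c41)) = (LP (LK LD1_c13 LD2_c31 LD3_c18)) :=
  Lgr Lrot75 (Lpr_bf (K43.f574754 IH) (Lpe (K40.f546680 IH) (Lpe (K42.f570903 IH) (Lpn (LP (LK LD1_c13 LD2_c31 LD3_c18))))))
theorem f272644 : Led Lsl_ct (LP (LK LD1_c24 LD2_c59 LD3_c46)) = (LP (LK LD1_c15 LD2_c10 LD3_c27)) :=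
  Lre_c IH (LK LD1_c24 LD2_c59 LD3_c46) (LK LD1_c15 LD2_c10 LD3_c27) Lrfl Lrfl
theorem f572524 : Led Lsl_ff (LP (LK LD1_c13 LD2_c31 LD3_c22)) = (LP (LK LD1_c15 LD2_c10 LD3_c27)) :=
  Lgr Lrot23 (Lpr_ct (K42.f565781 IH) (Lpr_ft (K42.f572518 IH) (Lpr_ct (f272644 IH) (Lpn (LP (LK LD1_c15 LD2_c10 LD3_c27))))))
theorem f574780 : Led Lsl_af (LP (LK LD1_c22 LD2_c47 LD3_c41)) = (LP (LK LD1_c13 LD2_c31 LD3_c22)) :=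
  Lgr Lrot45 (Lpr_ft (f574762 IH) (Lpr_at (K42.f570925 IH) (Lpe (f572524 IH) (Lpn (LP (LK LD1_c13 LD2_c31 LD3_c22))))))
theorem f580999 : Led Lsl_af (LP (LK LD1_c22 LD2_c52 LD3_c33)) = (LP (LK LD1_c29 LD2_c41 LD3_c9)) :=
  Lgr Lrot68 (Lpr_ct (K42.f98319 IH) (Lpe (f574780 IH) (Lpr_ct (f580997 IH) (Lpn (LP (LK LD1_c29 LD2_c41 LD3_c9))))))
theorem f539134 : Led Lsl_dt (LP (LK LD1_c20 LD2_c49 LD3_c28)) = (LP (LK LD1_c29 LD2_c41 LD3_c9)) :=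
  Lre_d IH (LK LD1_c20 LD2_c49 LD3_c28) (LK LD1_c29 LD2_c41 LD3_c9) Lrfl Lrfl
theorem f581078 : Led Lsl_af (LP (LK LD1_c20 LD2_c49 LD3_c28)) = (LP (LK LD1_c20 LD2_c42 LD3_c35)) :=
  Lgr Lrot117 (Lpr_dt (f539134 IH) (Lpe (f580999 IH) (Lpr_dt (f581076 IH) (Lpn (LP (LK LD1_c20 LD2_c42 LD3_c35))))))
theorem f581108 : Led Lsl_ft (LP (LK LD1_c20 LD2_c49 LD3_c27)) = (LP (LK LD1_c20 LD2_c42 LD3_c35)) :=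
  Lgr Lrot101 (Lpr_af (f581101 IH) (Lpe (f581097 IH) (Lpr_af (f581078 IH) (Lpn (LP (LK LD1_c20 LD2_c42 LD3_c35))))))
theorem f545396 : Led Lsl_ff (LP (LK LD1_c20 LD2_c49 LD3_c29)) = (LP (LK LD1_c20 LD2_c42 LD3_c37)) :=
  Lgr Lrot3 (Lpr_ft (f545389 IH) (Lpn (LP (LK LD1_c20 LD2_c42 LD3_c37))))
theorem f539129 : Led Lsl_at (LP (LK LD1_c20 LD2_c49 LD3_c29)) = (LP (LK LD1_c11 LD2_c47 LD3_c27)) :=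
  Lre_a IH (LK LD1_c20 LD2_c49 LD3_c29) (LK LD1_c11 LD2_c47 LD3_c27) Lrfl Lrfl
theorem f545401 : Led Lsl_gf (LP (LK LD1_c20 LD2_c49 LD3_c28)) = (LP (LK LD1_c20 LD2_c42 LD3_c37)) :=
  Lgr Lrot47 (Lpr_gt (f539131 IH) (Lpe (f539129 IH) (Lpr_ff (f545396 IH) (Lpn (LP (LK LD1_c20 LD2_c42 LD3_c37))))))
theorem f581114 : Led Lsl_gt (LP (LK LD1_c20 LD2_c49 LD3_c27)) = (LP (LK LD1_c20 LD2_c42 LD3_c37)) :=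
  Lgr Lrot5 (Lpr_ft (f581108 IH) (Lpe (f581078 IH) (Lpr_gf (f545401 IH) (Lpn (LP (LK LD1_c20 LD2_c42 LD3_c37))))))
theorem f581110 : Led Lsl_df (LP (LK LD1_c20 LD2_c49 LD3_c27)) = (LP (LK LD1_c24 LD2_c59 LD3_c46)) :=
  Lgr Lrot78 (Lpr_ft (f581108 IH) (Lpe (f581080 IH) (Lpr_ft (K42.f572518 IH) (Lpn (LP (LK LD1_c24 LD2_c59 LD3_c46))))))
theorem f97425 : Led Lsl_dt (LP (LK LD1_c13 LD2_c26 LD3_c45)) = (LP (LK LD1_c7 LD2_c5 LD3_c42)) :=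
  Lre_d IH (LK LD1_c13 LD2_c26 LD3_c45) (LK LD1_c7 LD2_c5 LD3_c42) Lrfl Lrfl
theorem f556698 : Led Lsl_df (LP (LK LD1_c7 LD2_c12 LD3_c9)) = (LP (LK LD1_c8 LD2_c47 LD3_c13)) :=
  Lgr Lrot174 (Lpe (K34.f97423 IH) (Lpe (f97425 IH) (Lpe (K41.f540916 IH) (Lpe (K41.f411104 IH) (Lpe (K42.f538282 IH) (Lpr_ct (K39.f556685 IH) (Lpr_gt (K42.f556696 IH) (Lpr_dt (K42.f38487 IH) (Lpr_gt (K42.f556697 IH) (Lpn (LP (LK LD1_c8 LD2_c47 LD3_c13))))))))))))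
theorem f566053 : Led Lsl_gt (LP (LK LD1_c8 LD2_c47 LD3_c14)) = (LP (LK LD1_c16 LD2_c26 LD3_c34)) :=
  Lre_g IH (LK LD1_c8 LD2_c47 LD3_c14) (LK LD1_c16 LD2_c26 LD3_c34) Lrfl Lrfl
theorem f572565 : Led Lsl_cf (LP (LK LD1_c13 LD2_c31 LD3_c15)) = (LP (LK LD1_c16 LD2_c26 LD3_c34)) :=
  Lgr Lrot99 (Lpe (K41.f98189 IH) (Lpe (K36.f6160 IH) (Lpe (K42.f6529 IH) (Lpr_cf (K42.f571204 IH) (Lpr_gf (K42.f572561 IH) (Lpr_df (f556698 IH) (Lpr_gt (K42.f38492 IH) (Lpr_ct (K42.f38480 IH) (Lpr_gt (f566053 IH) (Lpn (LP (LK LD1_c16 LD2_c26 LD3_c34))))))))))))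
theorem f581116 : Led Lsl_df (LP (LK LD1_c16 LD2_c26 LD3_c34)) = (LP (LK LD1_c20 LD2_c42 LD3_c37)) :=
  Lgr Lrot174 (Lpe (f572565 IH) (Lpe (K41.f98189 IH) (Lpe (K41.f98426 IH) (Lpe (K43.f92637 IH) (Lpe (K42.f98428 IH) (Lpr_ct (K43.f98429 IH) (Lpr_gt (K43.f577201 IH) (Lpe (f581110 IH) (Lpr_gt (f581114 IH) (Lpn (LP (LK LD1_c20 LD2_c42 LD3_c37))))))))))))
theorem f581128 : Led Lsl_cf (LP (LK LD1_c16 LD2_c26 LD3_c34)) = (LP (LK LD1_c13 LD2_c31 LD3_c15)) :=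
  Lgr Lrot14 (Lpr_df (f581116 IH) (Lpe (f581114 IH) (Lpr_df (f581110 IH) (Lpe (K43.f577201 IH) (Lpr_ct (f98430 IH) (Lpr_gt (K42.f98428 IH) (Lpr_dt (K43.f92637 IH) (Lpr_gt (K41.f98426 IH) (Lpr_dt (K41.f98189 IH) (Lpn (LP (LK LD1_c13 LD2_c31 LD3_c15))))))))))))
theorem f566041 : Led Lsl_ct (LP (LK LD1_c13 LD2_c42 LD3_c15)) = (LP (LK LD1_c16 LD2_c26 LD3_c3)) :=
  Lgr Lrot59 (Lpr_cf (K41.f566037 IH) (Lpn (LP (LK LD1_c16 LD2_c26 LD3_c3))))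
theorem f581132 : Led Lsl_gt (LP (LK LD1_c16 LD2_c26 LD3_c34)) = (LP (LK LD1_c13 LD2_c42 LD3_c15)) :=
  Lgr Lrot150 (Lpr_cf (f581128 IH) (Lpe (K41.f98305 IH) (Lpr_df (K41.f565589 IH) (Lpr_gt (K41.f565848 IH) (Lpe (K43.f569975 IH) (Lpr_gt (K42.f569902 IH) (Lpe (K42.f565809 IH) (Lpe (K42.f568796 IH) (Lpe (f566041 IH) (Lpn (LP (LK LD1_c13 LD2_c42 LD3_c15))))))))))))
theorem f539201 : Led Lsl_gt (LP (LK LD1_c20 LD2_c49 LD3_c48)) = (LP (LK LD1_c11 LD2_c47 LD3_c39)) :=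
  Lre_g IH (LK LD1_c20 LD2_c49 LD3_c48) (LK LD1_c11 LD2_c47 LD3_c39) Lrfl Lrfl
theorem f581136 : Led Lsl_df (LP (LK LD1_c20 LD2_c49 LD3_c48)) = (LP (LK LD1_c13 LD2_c42 LD3_c15)) :=
  Lgr Lrot153 (Lpr_gt (f539201 IH) (Lpr_dt (f539197 IH) (Lpr_cf (f580839 IH) (Lpe (K43.f227511 IH) (Lpr_gf (K41.f565067 IH) (Lpe (K43.f566059 IH) (Lpr_gf (K41.f98289 IH) (Lpr_cf (f572565 IH) (Lpr_gt (f581132 IH) (Lpn (LP (LK LD1_c13 LD2_c42 LD3_c15))))))))))))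
theorem f581142 : Led Lsl_dt (LP (LK LD1_c20 LD2_c49 LD3_c48)) = (LP (LK LD1_c13 LD2_c42 LD3_c15)) :=
  Lgr Lrot42 (Lpr_df (f581136 IH) (Lpn (LP (LK LD1_c13 LD2_c42 LD3_c15))))
theorem f581268 : Led Lsl_ff (LP (LK LD1_c20 LD2_c49 LD3_c48)) = (LP (LK LD1_c26 LD2_c23 LD3_c27)) :=
  Lgr Lrot19 (Lpr_dt (f581142 IH) (Lpr_ft (K41.f566043 IH) (Lpr_dt (K41.f420833 IH) (Lpn (LP (LK LD1_c26 LD2_c23 LD3_c27))))))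
theorem f566046 : Led Lsl_ft (LP (LK LD1_c8 LD2_c47 LD3_c14)) = (LP (LK LD1_c16 LD2_c26 LD3_c37)) :=
  Lre_f IH (LK LD1_c8 LD2_c47 LD3_c14) (LK LD1_c16 LD2_c26 LD3_c37) Lrfl Lrfl
theorem f566047 : Led Lsl_af (LP (LK LD1_c13 LD2_c42 LD3_c15)) = (LP (LK LD1_c16 LD2_c26 LD3_c37)) :=
  Lgr Lrot45 (Lpr_ft (K41.f566043 IH) (Lpr_at (K41.f38488 IH) (Lpr_ft (f566046 IH) (Lpn (LP (LK LD1_c16 LD2_c26 LD3_c37))))))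
theorem f581140 : Led Lsl_at (LP (LK LD1_c20 LD2_c49 LD3_c48)) = (LP (LK LD1_c26 LD2_c23 LD3_c56)) :=
  Lgr Lrot51 (Lpr_df (f581136 IH) (Lpr_af (f566047 IH) (Lpe (K41.f38462 IH) (Lpn (LP (LK LD1_c26 LD2_c23 LD3_c56))))))
theorem f581270 : Led Lsl_gf (LP (LK LD1_c20 LD2_c17 LD3_c59)) = (LP (LK LD1_c26 LD2_c23 LD3_c27)) :=
  Lgr Lrot47 (Lpr_gt (f556082 IH) (Lpe (f581140 IH) (Lpr_ff (f581268 IH) (Lpn (LP (LK LD1_c26 LD2_c23 LD3_c27))))))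
theorem f581272 : Led Lsl_gt (LP (LK LD1_c13 LD2_c31 LD3_c14)) = (LP (LK LD1_c16 LD2_c26 LD3_c2)) :=
  Lgr Lrot94 (Lpe (K42.f98066 IH) (Lpr_gt (K41.f540973 IH) (Lpr_dt (K41.f198226 IH) (Lpr_gt (K42.f558232 IH) (Lpe (K42.f569929 IH) (Lpe (f98430 IH) (Lpr_df (f581013 IH) (Lpr_gf (f581270 IH) (Lpe (K41.f420833 IH) (Lpn (LP (LK LD1_c16 LD2_c26 LD3_c2))))))))))))
theorem f563418 : Led Lsl_bt (LP (LK LD1_c8 LD2_c50 LD3_c20)) = (LP (LK LD1_c16 LD2_c31 LD3_c13)) :=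
  Lre_b IH (LK LD1_c8 LD2_c50 LD3_c20) (LK LD1_c16 LD2_c31 LD3_c13) Lrfl Lrfl
theorem f442498 : Led Lsl_dt (LP (LK LD1_c5 LD2_c55 LD3_c50)) = (LP (LK LD1_c2 LD2_c54 LD3_c16)) :=
  Lre_d IH (LK LD1_c5 LD2_c55 LD3_c50) (LK LD1_c2 LD2_c54 LD3_c16) Lrfl Lrfl
theorem f442499 : Led Lsl_bt (LP (LK LD1_c8 LD2_c46 LD3_c60)) = (LP (LK LD1_c5 LD2_c55 LD3_c50)) :=
  Lgr Lrot95 (Lpe (K41.f36021 IH) (Lpr_bf (K42.f442496 IH) (Lpe (f442498 IH) (Lpn (LP (LK LD1_c5 LD2_c55 LD3_c50))))))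
theorem f442510 : Led Lsl_ct (LP (LK LD1_c11 LD2_c36 LD3_c52)) = (LP (LK LD1_c20 LD2_c35 LD3_c8)) :=
  Lre_c IH (LK LD1_c11 LD2_c36 LD3_c52) (LK LD1_c20 LD2_c35 LD3_c8) Lrfl Lrfl
theorem f581296 : Led Lsl_gf (LP (LK LD1_c16 LD2_c31 LD3_c14)) = (LP (LK LD1_c20 LD2_c35 LD3_c8)) :=
  Lgr Lrot129 (Lpe (K41.f101365 IH) (Lpr_bt (f563418 IH) (Lpr_gt (K42.f571608 IH) (Lpe (K42.f98219 IH) (Lpr_ct (K42.f98066 IH) (Lpr_gt (f581272 IH) (Lpe (K41.f210641 IH) (Lpr_bt (f442499 IH) (Lpr_gt (K43.f425919 IH) (Lpr_ct (f442510 IH) (Lpn (LP (LK LD1_c20 LD2_c35 LD3_c8)))))))))))))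
theorem f556711 : Led Lsl_dt (LP (LK LD1_c16 LD2_c31 LD3_c14)) = (LP (LK LD1_c26 LD2_c27 LD3_c41)) :=
  Lre_d IH (LK LD1_c16 LD2_c31 LD3_c14) (LK LD1_c26 LD2_c27 LD3_c41) Lrfl Lrfl
theorem f581300 : Led Lsl_gt (LP (LK LD1_c26 LD2_c27 LD3_c41)) = (LP (LK LD1_c29 LD2_c31 LD3_c9)) :=
  Lgr Lrot49 (Lpe (f556711 IH) (Lpr_gf (f581296 IH) (Lpe (f442510 IH) (Lpr_gt (K43.f579015 IH) (Lpr_dt (K2.f82075 IH) (Lpr_gt (K39.f82067 IH) (Lpr_dt (K39.f82068 IH) (Lpe (K40.f553473 IH) (Lpe (K40.f559870 IH) (Lpn (LP (LK LD1_c29 LD2_c31 LD3_c9))))))))))))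
theorem f581303 : Led Lsl_gf (LP (LK LD1_c26 LD2_c27 LD3_c41)) = (LP (LK LD1_c26 LD2_c57 LD3_c37)) :=
  Lgr Lrot47 (Lpr_gt (f581300 IH) (Lpe (K40.f563239 IH) (Lpr_ff (K40.f563216 IH) (Lpn (LP (LK LD1_c26 LD2_c57 LD3_c37))))))
theorem f545891 : Led Lsl_ct (LP (LK LD1_c16 LD2_c31 LD3_c17)) = (LP (LK LD1_c8 LD2_c50 LD3_c22)) :=
  Lre_c IH (LK LD1_c16 LD2_c31 LD3_c17) (LK LD1_c8 LD2_c50 LD3_c22) Lrfl Lrfl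
theorem f186019 : Led Lsl_gt (LP (LK LD1_c17 LD2_c7 LD3_c14)) = (LP (LK LD1_c9 LD2_c12 LD3_c46)) :=
  Lre_g IH (LK LD1_c17 LD2_c7 LD3_c14) (LK LD1_c9 LD2_c12 LD3_c46) Lrfl Lrfl
theorem f581307 : Led Lsl_ct (LP (LK LD1_c26 LD2_c27 LD3_c41)) = (LP (LK LD1_c17 LD2_c7 LD3_c14)) :=
  Lgr Lrot152 (Lpr_gf (f581303 IH) (Lpe (K40.f545247 IH) (Lpe (f579504 IH) (Lpr_ct (f545891 IH) (Lpr_gt (K42.f545889 IH) (Lpr_ct (K42.f545878 IH) (Lpe (K37.f545853 IH) (Lpe (K37.f542332 IH) (Lpe (f186019 IH) (Lpn (LP (LK LD1_c17 LD2_c7 LD3_c14))))))))))))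
theorem f557729 : Led Lsl_dt (LP (LK LD1_c26 LD2_c27 LD3_c41)) = (LP (LK LD1_c16 LD2_c31 LD3_c14)) :=
  Lre_d IH (LK LD1_c26 LD2_c27 LD3_c41) (LK LD1_c16 LD2_c31 LD3_c14) Lrfl Lrfl
theorem f563444 : Led Lsl_ff (LP (LK LD1_c26 LD2_c27 LD3_c41)) = (LP (LK LD1_c29 LD2_c32 LD3_c14)) :=
  Lgr Lrot19 (Lpr_dt (f557729 IH) (Lpr_ft (K41.f563436 IH) (Lpr_dt (K41.f563250 IH) (Lpn (LP (LK LD1_c29 LD2_c32 LD3_c14))))))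
theorem f581319 : Led Lsl_ff (LP (LK LD1_c26 LD2_c52 LD3_c26)) = (LP (LK LD1_c17 LD2_c7 LD3_c14)) :=
  Lgr Lrot23 (Lpr_ct (K40.f563380 IH) (Lpe (f563444 IH) (Lpr_ct (f581307 IH) (Lpn (LP (LK LD1_c17 LD2_c7 LD3_c14))))))
theorem f176242 : Led Lsl_gt (LP (LK LD1_c9 LD2_c12 LD3_c46)) = (LP (LK LD1_c17 LD2_c7 LD3_c13)) :=
  Lre_g IH (LK LD1_c9 LD2_c12 LD3_c46) (LK LD1_c17 LD2_c7 LD3_c13) Lrfl Lrfl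
theorem f581323 : Led Lsl_at (LP (LK LD1_c26 LD2_c52 LD3_c26)) = (LP (LK LD1_c17 LD2_c7 LD3_c13)) :=
  Lgr Lrot26 (Lpr_ff (f581319 IH) (Lpr_gt (f186019 IH) (Lpr_gt (f176242 IH) (Lpn (LP (LK LD1_c17 LD2_c7 LD3_c13))))))
theorem f562875 : Led Lsl_gt (LP (LK LD1_c2 LD2_c54 LD3_c49)) = (LP (LK LD1_c4 LD2_c38 LD3_c24)) :=
  Lgr Lrot46 (Lpe (K42.f452835 IH) (Lpr_ft (K40.f500580 IH) (Lpr_at (K40.f562863 IH) (Lpn (LP (LK LD1_c4 LD2_c38 LD3_c24))))))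
theorem f452836 : Led Lsl_ct (LP (LK LD1_c2 LD2_c54 LD3_c49)) = (LP (LK LD1_c5 LD2_c57 LD3_c3)) :=
  Lre_c IH (LK LD1_c2 LD2_c54 LD3_c49) (LK LD1_c5 LD2_c57 LD3_c3) Lrfl Lrfl
theorem f452837 : Led Lsl_gt (LP (LK LD1_c5 LD2_c57 LD3_c3)) = (LP (LK LD1_c11 LD2_c39 LD3_c26)) :=
  Lre_g IH (LK LD1_c5 LD2_c57 LD3_c3) (LK LD1_c11 LD2_c39 LD3_c26) Lrfl Lrfl
theorem f509340 : Led Lsl_dt (LP (LK LD1_c4 LD2_c38 LD3_c24)) = (LP (LK LD1_c2 LD2_c16 LD3_c15)) :=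
  Lre_d IH (LK LD1_c4 LD2_c38 LD3_c24) (LK LD1_c2 LD2_c16 LD3_c15) Lrfl Lrfl
theorem f500544 : Led Lsl_dt (LP (LK LD1_c11 LD2_c39 LD3_c22)) = (LP (LK LD1_c5 LD2_c57 LD3_c1)) :=
  Lre_d IH (LK LD1_c11 LD2_c39 LD3_c22) (LK LD1_c5 LD2_c57 LD3_c1) Lrfl Lrfl
theorem f546110 : Led Lsl_at (LP (LK LD1_c17 LD2_c2 LD3_c20)) = (LP (LK LD1_c9 LD2_c12 LD3_c46)) :=
  Lre_a IH (LK LD1_c17 LD2_c2 LD3_c20) (LK LD1_c9 LD2_c12 LD3_c46) Lrfl Lrfl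
theorem f176366 : Led Lsl_ft (LP (LK LD1_c9 LD2_c12 LD3_c46)) = (LP (LK LD1_c16 LD2_c55 LD3_c60)) :=
  Lre_f IH (LK LD1_c9 LD2_c12 LD3_c46) (LK LD1_c16 LD2_c55 LD3_c60) Lrfl Lrfl
theorem f546111 : Led Lsl_af (LP (LK LD1_c11 LD2_c39 LD3_c22)) = (LP (LK LD1_c16 LD2_c55 LD3_c60)) :=
  Lgr Lrot45 (Lpr_ft (K40.f546097 IH) (Lpr_at (f546110 IH) (Lpr_ft (f176366 IH) (Lpn (LP (LK LD1_c16 LD2_c55 LD3_c60))))))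
theorem f546314 : Led Lsl_gf (LP (LK LD1_c11 LD2_c39 LD3_c22)) = (LP (LK LD1_c17 LD2_c7 LD3_c13)) :=
  Lgr Lrot76 (Lpr_af (f546111 IH) (Lpe (f176366 IH) (Lpr_gt (f176242 IH) (Lpn (LP (LK LD1_c17 LD2_c7 LD3_c13))))))
theorem f562877 : Led Lsl_dt (LP (LK LD1_c11 LD2_c39 LD3_c26)) = (LP (LK LD1_c17 LD2_c7 LD3_c13)) :=
  Lgr Lrot57 (Lpe (f452837 IH) (Lpe (f452836 IH) (Lpr_gt (f562875 IH) (Lpr_dt (f509340 IH) (Lpq (K40.f545834 IH) (Lpe (K37.f500541 IH) (Lpr_dt (K37.f500542 IH) (Lpe (K40.f500545 IH) (Lpe (f500544 IH) (Lpr_gf (f546314 IH) (Lpn (LP (LK LD1_c17 LD2_c7 LD3_c13)))))))))))))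
theorem f562891 : Led Lsl_df (LP (LK LD1_c11 LD2_c39 LD3_c26)) = (LP (LK LD1_c17 LD2_c7 LD3_c13)) :=
  Lgr Lrot38 (Lpr_dt (f562877 IH) (Lpn (LP (LK LD1_c17 LD2_c7 LD3_c13))))
theorem f581329 : Led Lsl_af (LP (LK LD1_c18 LD2_c1 LD3_c44)) = (LP (LK LD1_c11 LD2_c39 LD3_c26)) :=
  Lgr Lrot117 (Lpe (K42.f563382 IH) (Lpr_at (f581323 IH) (Lpe (f562891 IH) (Lpn (LP (LK LD1_c11 LD2_c39 LD3_c26))))))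
theorem f562999 : Led Lsl_bt (LP (LK LD1_c5 LD2_c55 LD3_c58)) = (LP (LK LD1_c5 LD2_c58 LD3_c57)) :=
  Lgr Lrot127 (Lpr_bf (K40.f562996 IH) (Lpn (LP (LK LD1_c5 LD2_c58 LD3_c57))))
theorem f563959 : Led Lsl_gf (LP (LK LD1_c18 LD2_c1 LD3_c44)) = (LP (LK LD1_c11 LD2_c37 LD3_c4)) :=
  Lgr Lrot126 (Lpe (K41.f175590 IH) (Lpr_bt (K41.f563407 IH) (Lpe (K41.f563957 IH) (Lpr_ct (K41.f563951 IH) (Lpr_gt (K41.f428278 IH) (Lpe (K41.f428276 IH) (Lpr_bt (K36.f428258 IH) (Lpr_gt (K40.f428275 IH) (Lpe (f562999 IH) (Lpr_ct (K42.f442801 IH) (Lpn (LP (LK LD1_c11 LD2_c37 LD3_c4)))))))))))))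
theorem f562995 : Led Lsl_ct (LP (LK LD1_c11 LD2_c37 LD3_c4)) = (LP (LK LD1_c5 LD2_c55 LD3_c58)) :=
  Lre_c IH (LK LD1_c11 LD2_c37 LD3_c4) (LK LD1_c5 LD2_c55 LD3_c58) Lrfl Lrfl
theorem f563591 : Led Lsl_dt (LP (LK LD1_c11 LD2_c8 LD3_c2)) = (LP (LK LD1_c5 LD2_c38 LD3_c21)) :=
  Lre_d IH (LK LD1_c11 LD2_c8 LD3_c2) (LK LD1_c5 LD2_c38 LD3_c21) Lrfl Lrfl
theorem f563592 : Led Lsl_dt (LP (LK LD1_c5 LD2_c38 LD3_c21)) = (LP (LK LD1_c11 LD2_c8 LD3_c2)) :=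
  Lre_d IH (LK LD1_c5 LD2_c38 LD3_c21) (LK LD1_c11 LD2_c8 LD3_c2) Lrfl Lrfl
theorem f425926 : Led Lsl_dt (LP (LK LD1_c8 LD2_c0 LD3_c8)) = (LP (LK LD1_c3 LD2_c59 LD3_c30)) :=
  Lre_d IH (LK LD1_c8 LD2_c0 LD3_c8) (LK LD1_c3 LD2_c59 LD3_c30) Lrfl Lrfl
theorem f572978 : Led Lsl_gt (LP (LK LD1_c11 LD2_c8 LD3_c2)) = (LP (LK LD1_c8 LD2_c0 LD3_c8)) :=
  Lgr Lrot49 (Lpe (f563592 IH) (Lpr_gf (K43.f572975 IH) (Lpe (K43.f565141 IH) (Lpr_gt (K41.f418047 IH) (Lpr_dt (K41.f418054 IH) (Lpr_gt (K41.f565144 IH) (Lpr_dt (K39.f163024 IH) (Lpe (K38.f424931 IH) (Lpe (f425926 IH) (Lpn (LP (LK LD1_c8 LD2_c0 LD3_c8))))))))))))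
theorem f579574 : Led Lsl_gf (LP (LK LD1_c11 LD2_c37 LD3_c4)) = (LP (LK LD1_c15 LD2_c4 LD3_c49)) :=
  Lgr Lrot104 (Lpr_ct (f562995 IH) (Lpe (K42.f570254 IH) (Lpe (K40.f173313 IH) (Lpe (K42.f572937 IH) (Lpr_cf (K43.f572939 IH) (Lpr_gf (K43.f579568 IH) (Lpe (f563591 IH) (Lpr_gt (f572978 IH) (Lpr_ct (K41.f563196 IH) (Lpn (LP (LK LD1_c15 LD2_c4 LD3_c49))))))))))))
theorem f581333 : Led Lsl_ft (LP (LK LD1_c15 LD2_c4 LD3_c49)) = (LP (LK LD1_c11 LD2_c39 LD3_c26)) :=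
  Lgr Lrot2 (Lpe (f579574 IH) (Lpe (f563959 IH) (Lpr_af (f581329 IH) (Lpn (LP (LK LD1_c11 LD2_c39 LD3_c26))))))
theorem f581335 : Led Lsl_ff (LP (LK LD1_c24 LD2_c53 LD3_c25)) = (LP (LK LD1_c17 LD2_c7 LD3_c13)) :=
  Lgr Lrot19 (Lpr_dt (K40.f425928 IH) (Lpr_ft (f581333 IH) (Lpr_dt (f562877 IH) (Lpn (LP (LK LD1_c17 LD2_c7 LD3_c13))))))
theorem f424923 : Led Lsl_ct (LP (LK LD1_c16 LD2_c29 LD3_c55)) = (LP (LK LD1_c8 LD2_c49 LD3_c19)) :=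
  Lre_c IH (LK LD1_c16 LD2_c29 LD3_c55) (LK LD1_c8 LD2_c49 LD3_c19) Lrfl Lrfl
theorem f563315 : Led Lsl_af (LP (LK LD1_c16 LD2_c29 LD3_c55)) = (LP (LK LD1_c20 LD2_c37 LD3_c1)) :=
  Lgr Lrot68 (Lpr_ct (f424923 IH) (Lpr_at (K39.f424919 IH) (Lpr_ct (K41.f563308 IH) (Lpn (LP (LK LD1_c20 LD2_c37 LD3_c1))))))
theorem f425925 : Led Lsl_dt (LP (LK LD1_c16 LD2_c29 LD3_c55)) = (LP (LK LD1_c26 LD2_c26 LD3_c45)) :=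
  Lre_d IH (LK LD1_c16 LD2_c29 LD3_c55) (LK LD1_c26 LD2_c26 LD3_c45) Lrfl Lrfl
theorem f563318 : Led Lsl_at (LP (LK LD1_c26 LD2_c26 LD3_c45)) = (LP (LK LD1_c29 LD2_c32 LD3_c14)) :=
  Lgr Lrot51 (Lpe (f425925 IH) (Lpr_af (f563315 IH) (Lpr_df (K41.f563252 IH) (Lpn (LP (LK LD1_c29 LD2_c32 LD3_c14))))))
theorem f563343 : Led Lsl_ft (LP (LK LD1_c29 LD2_c32 LD3_c13)) = (LP (LK LD1_c26 LD2_c26 LD3_c45)) :=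
  Lgr Lrot2 (Lpr_gt (K40.f563341 IH) (Lpr_gt (K40.f563218 IH) (Lpe (f563318 IH) (Lpn (LP (LK LD1_c26 LD2_c26 LD3_c45))))))
theorem f581343 : Led Lsl_ct (LP (LK LD1_c26 LD2_c26 LD3_c45)) = (LP (LK LD1_c17 LD2_c7 LD3_c13)) :=
  Lgr Lrot40 (Lpe (f563343 IH) (Lpe (K41.f563356 IH) (Lpr_ff (f581335 IH) (Lpn (LP (LK LD1_c17 LD2_c7 LD3_c13))))))
theorem f424978 : Led Lsl_dt (LP (LK LD1_c26 LD2_c26 LD3_c45)) = (LP (LK LD1_c16 LD2_c29 LD3_c55)) :=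
  Lre_d IH (LK LD1_c26 LD2_c26 LD3_c45) (LK LD1_c16 LD2_c29 LD3_c55) Lrfl Lrfl
theorem f553465 : Led Lsl_dt (LP (LK LD1_c20 LD2_c35 LD3_c7)) = (LP (LK LD1_c29 LD2_c31 LD3_c9)) :=
  Lre_d IH (LK LD1_c20 LD2_c35 LD3_c7) (LK LD1_c29 LD2_c31 LD3_c9) Lrfl Lrfl
theorem f579506 : Led Lsl_gf (LP (LK LD1_c26 LD2_c26 LD3_c45)) = (LP (LK LD1_c29 LD2_c31 LD3_c9)) :=
  Lgr Lrot143 (Lpr_dt (f424978 IH) (Lpe (K41.f424976 IH) (Lpe (K39.f161087 IH) (Lpe (K42.f569389 IH) (Lpe (K37.f500548 IH) (Lpe (K42.f545889 IH) (Lpe (f545891 IH) (Lpr_gt (K43.f579502 IH) (Lpr_dt (f553465 IH) (Lpn (LP (LK LD1_c29 LD2_c31 LD3_c9))))))))))))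
theorem f198013 : Led Lsl_dt (LP (LK LD1_c16 LD2_c31 LD3_c23)) = (LP (LK LD1_c8 LD2_c50 LD3_c24)) :=
  Lre_d IH (LK LD1_c16 LD2_c31 LD3_c23) (LK LD1_c8 LD2_c50 LD3_c24) Lrfl Lrfl
theorem f545863 : Led Lsl_cf (LP (LK LD1_c16 LD2_c31 LD3_c23)) = (LP (LK LD1_c11 LD2_c39 LD3_c22)) :=
  Lgr Lrot55 (Lpr_dt (f198013 IH) (Lpr_ct (K40.f198012 IH) (Lpr_dt (K37.f494499 IH) (Lpr_ct (K37.f192780 IH) (Lpr_dt (K37.f142145 IH) (Lpr_ct (K37.f176068 IH) (Lpr_dt (K37.f542331 IH) (Lpr_ct (K37.f542332 IH) (Lpr_dt (K37.f545853 IH) (Lpr_ct (K37.f500547 IH) (Lpr_dt (K37.f500548 IH) (Lpr_ct (K37.f82183 IH) (Lpr_dt (K37.f500542 IH) (Lpr_ct (K43.f500543 IH) (Lpr_dt (K40.f500578 IH) (Lpn (LP (LK LD1_c11 LD2_c39 LD3_c22))))))))))))))))))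
theorem f545912 : Led Lsl_ct (LP (LK LD1_c16 LD2_c31 LD3_c19)) = (LP (LK LD1_c8 LD2_c50 LD3_c23)) :=
  Lre_c IH (LK LD1_c16 LD2_c31 LD3_c19) (LK LD1_c8 LD2_c50 LD3_c23) Lrfl Lrfl
theorem f581349 : Led Lsl_gt (LP (LK LD1_c20 LD2_c35 LD3_c7)) = (LP (LK LD1_c16 LD2_c31 LD3_c19)) :=
  Lgr Lrot9 (Lpe (K40.f559870 IH) (Lpe (f579506 IH) (Lpr_ct (f581343 IH) (Lpe (f546314 IH) (Lpe (f545863 IH) (Lpe (K40.f546285 IH) (Lpe (K41.f421142 IH) (Lpe (K41.f158165 IH) (Lpe (f545912 IH) (Lpn (LP (LK LD1_c16 LD2_c31 LD3_c19))))))))))))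
theorem f572980 : Led Lsl_cf (LP (LK LD1_c12 LD2_c8 LD3_c21)) = (LP (LK LD1_c11 LD2_c7 LD3_c2)) :=
  Lgr Lrot166 (Lpr_gt (K41.f418047 IH) (Lpr_dt (K41.f418054 IH) (Lpr_gt (K41.f565144 IH) (Lpr_dt (K39.f163024 IH) (Lpr_ct (K41.f425923 IH) (Lpe (f425926 IH) (Lpe (f572978 IH) (Lpe (f563592 IH) (Lpr_gf (K43.f572975 IH) (Lpn (LP (LK LD1_c11 LD2_c7 LD3_c2))))))))))))
theorem f581358 : Led Lsl_gt (LP (LK LD1_c6 LD2_c7 LD3_c42)) = (LP (LK LD1_c11 LD2_c38 LD3_c8)) :=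
  Lgr Lrot9 (Lpe (K38.f193831 IH) (Lpr_gt (K42.f553478 IH) (Lpr_ct (K43.f210973 IH) (Lpr_gt (f581349 IH) (Lpr_ct (f545912 IH) (Lpe (K41.f563571 IH) (Lpr_cf (f572980 IH) (Lpe (f579564 IH) (Lpr_cf (K43.f579558 IH) (Lpn (LP (LK LD1_c11 LD2_c38 LD3_c8))))))))))))
theorem f578962 : Led Lsl_at (LP (LK LD1_c20 LD2_c0 LD3_c36)) = (LP (LK LD1_c11 LD2_c7 LD3_c28)) :=
  Lgr Lrot107 (Lpr_cf (K42.f572571 IH) (Lpr_af (K43.f578960 IH) (Lpe (K43.f577784 IH) (Lpn (LP (LK LD1_c11 LD2_c7 LD3_c28))))))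
theorem f580537 : Led Lsl_gt (LP (LK LD1_c11 LD2_c8 LD3_c6)) = (LP (LK LD1_c16 LD2_c49 LD3_c35)) :=
  Lgr Lrot5 (Lpr_ft (f580533 IH) (Lpr_at (f578962 IH) (Lpr_gf (K43.f577782 IH) (Lpn (LP (LK LD1_c16 LD2_c49 LD3_c35))))))
theorem f581376 : Led Lsl_bf (LP (LK LD1_c11 LD2_c8 LD3_c6)) = (LP (LK LD1_c15 LD2_c26 LD3_c31)) :=
  Lgr Lrot165 (Lpr_gt (f580537 IH) (Lpe (f211978 IH) (Lpe (f572971 IH) (Lpe (K42.f179918 IH) (Lpr_bt (K42.f179917 IH) (Lpe (K12.f227552 IH) (Lpe (K41.f193398 IH) (Lpr_ct (K38.f193828 IH) (Lpr_gt (f581358 IH) (Lpe (f579560 IH) (Lpn (LP (LK LD1_c15 LD2_c26 LD3_c31)))))))))))))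
theorem f72287 : Led Lsl_dt (LP (LK LD1_c9 LD2_c6 LD3_c13)) = (LP (LK LD1_c4 LD2_c34 LD3_c47)) :=
  Lre_d IH (LK LD1_c9 LD2_c6 LD3_c13) (LK LD1_c4 LD2_c34 LD3_c47) Lrfl Lrfl
theorem f580567 : Led Lsl_gf (LP (LK LD1_c8 LD2_c42 LD3_c55)) = (LP (LK LD1_c11 LD2_c38 LD3_c8)) :=
  Lgr Lrot144 (Lpr_dt (K39.f385381 IH) (Lpr_gt (K39.f547697 IH) (Lpr_dt (K39.f72283 IH) (Lpe (K2.f72277 IH) (Lpe (f72287 IH) (Lpe (f72288 IH) (Lpr_df (f580561 IH) (Lpe (f579564 IH) (Lpr_cf (K43.f579558 IH) (Lpn (LP (LK LD1_c11 LD2_c38 LD3_c8))))))))))))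
theorem f575931 : Led Lsl_bt (LP (LK LD1_c9 LD2_c39 LD3_c19)) = (LP (LK LD1_c17 LD2_c45 LD3_c33)) :=
  Lre_b IH (LK LD1_c9 LD2_c39 LD3_c19) (LK LD1_c17 LD2_c45 LD3_c33) Lrfl Lrfl
theorem f581401 : Led Lsl_gf (LP (LK LD1_c11 LD2_c8 LD3_c6)) = (LP (LK LD1_c17 LD2_c45 LD3_c33)) :=
  Lgr Lrot124 (Lpr_bf (f581376 IH) (Lpr_ct (f579560 IH) (Lpe (f580567 IH) (Lpe (K43.f547723 IH) (Lpe (K38.f549787 IH) (Lpe (K43.f574696 IH) (Lpr_ct (K42.f546813 IH) (Lpr_gt (K43.f97177 IH) (Lpr_cf (K43.f575921 IH) (Lpr_bt (f575931 IH) (Lpn (LP (LK LD1_c17 LD2_c45 LD3_c33)))))))))))))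
theorem f563498 : Led Lsl_ct (LP (LK LD1_c17 LD2_c4 LD3_c8)) = (LP (LK LD1_c9 LD2_c10 LD3_c53)) :=
  Lre_c IH (LK LD1_c17 LD2_c4 LD3_c8) (LK LD1_c9 LD2_c10 LD3_c53) Lrfl Lrfl
theorem f563499 : Led Lsl_bt (LP (LK LD1_c17 LD2_c4 LD3_c8)) = (LP (LK LD1_c11 LD2_c39 LD3_c36)) :=
  Lgr Lrot130 (Lpr_ct (f563498 IH) (Lpe (f538137 IH) (Lpe (f538000 IH) (Lpq (K35.f537995 IH) (Lpe (K35.f501205 IH) (Lpr_gf (K10.f185960 IH) (Lpr_bf (K41.f563490 IH) (Lpr_ct (K41.f500523 IH) (Lpe (K41.f563480 IH) (Lpe (K41.f175590 IH) (Lpe (K43.f563405 IH) (Lpn (LP (LK LD1_c11 LD2_c39 LD3_c36))))))))))))))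
theorem f563501 : Led Lsl_bf (LP (LK LD1_c17 LD2_c4 LD3_c8)) = (LP (LK LD1_c11 LD2_c39 LD3_c36)) :=
  Lgr Lrot24 (Lpr_bt (f563499 IH) (Lpn (LP (LK LD1_c11 LD2_c39 LD3_c36))))
theorem f563090 : Led Lsl_bt (LP (LK LD1_c4 LD2_c34 LD3_c61)) = (LP (LK LD1_c9 LD2_c6 LD3_c45)) :=
  Lre_b IH (LK LD1_c4 LD2_c34 LD3_c61) (LK LD1_c9 LD2_c6 LD3_c45) Lrfl Lrfl
theorem f563086 : Led Lsl_gt (LP (LK LD1_c9 LD2_c10 LD3_c54)) = (LP (LK LD1_c4 LD2_c37 LD3_c38)) :=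
  Lre_g IH (LK LD1_c9 LD2_c10 LD3_c54) (LK LD1_c4 LD2_c37 LD3_c38) Lrfl Lrfl
theorem f20396 : Led Lsl_bt (LP (LK LD1_c9 LD2_c6 LD3_c45)) = (LP (LK LD1_c4 LD2_c34 LD3_c61)) :=
  Lre_b IH (LK LD1_c9 LD2_c6 LD3_c45) (LK LD1_c4 LD2_c34 LD3_c61) Lrfl Lrfl
theorem f563087 : Led Lsl_cf (LP (LK LD1_c9 LD2_c10 LD3_c54)) = (LP (LK LD1_c9 LD2_c6 LD3_c45)) :=
  Lgr Lrot160 (Lpr_gt (f563086 IH) (Lpe (f538000 IH) (Lpq (K35.f537995 IH) (Lpe (K35.f501205 IH) (Lpe (K12.f185969 IH) (Lpe (K40.f563083 IH) (Lpr_gt (K40.f563077 IH) (Lpe (K35.f172126 IH) (Lpr_bt (K40.f186287 IH) (Lpe (K40.f548614 IH) (Lpe (f20396 IH) (Lpn (LP (LK LD1_c9 LD2_c6 LD3_c45))))))))))))))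
theorem f538001 : Led Lsl_ct (LP (LK LD1_c4 LD2_c37 LD3_c38)) = (LP (LK LD1_c2 LD2_c15 LD3_c61)) :=
  Lre_c IH (LK LD1_c4 LD2_c37 LD3_c38) (LK LD1_c2 LD2_c15 LD3_c61) Lrfl Lrfl
theorem f494476 : Led Lsl_dt (LP (LK LD1_c2 LD2_c15 LD3_c61)) = (LP (LK LD1_c1 LD2_c4 LD3_c59)) :=
  Lre_d IH (LK LD1_c2 LD2_c15 LD3_c61) (LK LD1_c1 LD2_c4 LD3_c59) Lrfl Lrfl
theorem f494475 : Led Lsl_ct (LP (LK LD1_c2 LD2_c15 LD3_c57)) = (LP (LK LD1_c1 LD2_c4 LD3_c59)) :=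
  Lre_c IH (LK LD1_c2 LD2_c15 LD3_c57) (LK LD1_c1 LD2_c4 LD3_c59) Lrfl Lrfl
theorem f138937 : Led Lsl_dt (LP (LK LD1_c8 LD2_c49 LD3_c23)) = (LP (LK LD1_c16 LD2_c29 LD3_c61)) :=
  Lre_d IH (LK LD1_c8 LD2_c49 LD3_c23) (LK LD1_c16 LD2_c29 LD3_c61) Lrfl Lrfl
theorem f563098 : Led Lsl_gt (LP (LK LD1_c16 LD2_c29 LD3_c61)) = (LP (LK LD1_c9 LD2_c6 LD3_c45)) :=
  Lgr Lrot9 (Lpe (f138937 IH) (Lpe (K43.f545824 IH) (Lpr_ct (K36.f541459 IH) (Lpr_gt (K36.f119048 IH) (Lpr_ct (f494475 IH) (Lpe (f494476 IH) (Lpe (f538001 IH) (Lpe (f563086 IH) (Lpr_cf (f563087 IH) (Lpn (LP (LK LD1_c9 LD2_c6 LD3_c45))))))))))))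
theorem f563141 : Led Lsl_bt (LP (LK LD1_c9 LD2_c6 LD3_c54)) = (LP (LK LD1_c16 LD2_c29 LD3_c61)) :=
  Lgr Lrot22 (Lpr_ct (K37.f211067 IH) (Lpe (K40.f545770 IH) (Lpr_cf (K40.f545774 IH) (Lpr_gf (K40.f545454 IH) (Lpe (K40.f539502 IH) (Lpr_ct (K40.f428158 IH) (Lpr_gf (K40.f563133 IH) (Lpe (K40.f494355 IH) (Lpr_bt (f563090 IH) (Lpe (f563098 IH) (Lpn (LP (LK LD1_c16 LD2_c29 LD3_c61)))))))))))))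
theorem f563531 : Led Lsl_gt (LP (LK LD1_c17 LD2_c4 LD3_c8)) = (LP (LK LD1_c16 LD2_c29 LD3_c61)) :=
  Lgr Lrot164 (Lpr_bf (f563501 IH) (Lpr_ct (K43.f452847 IH) (Lpe (K43.f452846 IH) (Lpe (K40.f452845 IH) (Lpe (K40.f82179 IH) (Lpe (K40.f82180 IH) (Lpr_ct (K40.f558497 IH) (Lpr_gf (K40.f545793 IH) (Lpe (K37.f211067 IH) (Lpr_bt (f563141 IH) (Lpn (LP (LK LD1_c16 LD2_c29 LD3_c61)))))))))))))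
theorem f138931 : Led Lsl_dt (LP (LK LD1_c16 LD2_c29 LD3_c61)) = (LP (LK LD1_c8 LD2_c49 LD3_c23)) :=
  Lre_d IH (LK LD1_c16 LD2_c29 LD3_c61) (LK LD1_c8 LD2_c49 LD3_c23) Lrfl Lrfl
theorem f450492 : Led Lsl_ft (LP (LK LD1_c5 LD2_c38 LD3_c41)) = (LP (LK LD1_c8 LD2_c43 LD3_c8)) :=
  Lgr Lrot48 (Lpr_ff (K42.f450487 IH) (Lpn (LP (LK LD1_c8 LD2_c43 LD3_c8))))
theorem f450494 : Led Lsl_gt (LP (LK LD1_c11 LD2_c8 LD3_c23)) = (LP (LK LD1_c16 LD2_c19 LD3_c54)) :=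
  Lgr Lrot46 (Lpe (f24571 IH) (Lpr_ft (f450492 IH) (Lpr_at (K42.f418579 IH) (Lpn (LP (LK LD1_c16 LD2_c19 LD3_c54))))))
theorem f581407 : Led Lsl_cf (LP (LK LD1_c11 LD2_c8 LD3_c23)) = (LP (LK LD1_c17 LD2_c45 LD3_c33)) :=
  Lgr Lrot166 (Lpr_gt (f450494 IH) (Lpe (K42.f418580 IH) (Lpe (K42.f571988 IH) (Lpr_dt (K42.f428064 IH) (Lpr_ct (K39.f138930 IH) (Lpe (f138931 IH) (Lpe (f563531 IH) (Lpe (f580541 IH) (Lpr_gf (f581401 IH) (Lpn (LP (LK LD1_c17 LD2_c45 LD3_c33))))))))))))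
theorem f580658 : Led Lsl_df (LP (LK LD1_c11 LD2_c8 LD3_c23)) = (LP (LK LD1_c16 LD2_c27 LD3_c35)) :=
  Lgr Lrot38 (Lpr_dt (f580654 IH) (Lpn (LP (LK LD1_c16 LD2_c27 LD3_c35))))
theorem f158441 : Led Lsl_dt (LP (LK LD1_c2 LD2_c51 LD3_c41)) = (LP (LK LD1_c5 LD2_c50 LD3_c59)) :=
  Lre_d IH (LK LD1_c2 LD2_c51 LD3_c41) (LK LD1_c5 LD2_c50 LD3_c59) Lrfl Lrfl
theorem f544946 : Led Lsl_gt (LP (LK LD1_c5 LD2_c50 LD3_c59)) = (LP (LK LD1_c11 LD2_c29 LD3_c26)) :=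
  Lre_g IH (LK LD1_c5 LD2_c50 LD3_c59) (LK LD1_c11 LD2_c29 LD3_c26) Lrfl Lrfl
theorem f581415 : Led Lsl_dt (LP (LK LD1_c11 LD2_c29 LD3_c26)) = (LP (LK LD1_c17 LD2_c45 LD3_c33)) :=
  Lgr Lrot105 (Lpe (f544946 IH) (Lpe (f158441 IH) (Lpr_gf (K40.f557781 IH) (Lpe (K42.f425924 IH) (Lpe (K40.f557736 IH) (Lpr_dt (K36.f210983 IH) (Lpr_gt (f272533 IH) (Lpe (f580658 IH) (Lpr_cf (f581407 IH) (Lpn (LP (LK LD1_c17 LD2_c45 LD3_c33))))))))))))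
theorem f581419 : Led Lsl_bt (LP (LK LD1_c17 LD2_c45 LD3_c33)) = (LP (LK LD1_c9 LD2_c39 LD3_c19)) :=
  Lre_b IH (LK LD1_c17 LD2_c45 LD3_c33) (LK LD1_c9 LD2_c39 LD3_c19) Lrfl Lrfl
theorem f581428 : Led Lsl_bf (LP (LK LD1_c11 LD2_c29 LD3_c26)) = (LP (LK LD1_c12 LD2_c5 LD3_c27)) :=
  Lgr Lrot93 (Lpr_dt (f581415 IH) (Lpr_bt (f581419 IH) (Lpe (K43.f539783 IH) (Lpn (LP (LK LD1_c12 LD2_c5 LD3_c27))))))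
theorem f581438 : Led Lsl_et (LP (LK LD1_c11 LD2_c29 LD3_c26)) = (LP (LK LD1_c20 LD2_c26 LD3_c30)) :=
  Lre_e IH (LK LD1_c11 LD2_c29 LD3_c26) (LK LD1_c20 LD2_c26 LD3_c30) Lrfl Lrfl
theorem f575932 : Led Lsl_et (LP (LK LD1_c5 LD2_c14 LD3_c2)) = (LP (LK LD1_c10 LD2_c18 LD3_c4)) :=
  Lre_e IH (LK LD1_c5 LD2_c14 LD3_c2) (LK LD1_c10 LD2_c18 LD3_c4) Lrfl Lrfl
theorem f61418 : Led Lsl_dt (LP (LK LD1_c10 LD2_c18 LD3_c4)) = (LP (LK LD1_c18 LD2_c43 LD3_c11)) :=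
  Lre_d IH (LK LD1_c10 LD2_c18 LD3_c4) (LK LD1_c18 LD2_c43 LD3_c11) Lrfl Lrfl
theorem f575933 : Led Lsl_et (LP (LK LD1_c18 LD2_c43 LD3_c11)) = (LP (LK LD1_c12 LD2_c5 LD3_c27)) :=
  Lgr Lrot71 (Lpe (f61418 IH) (Lpe (f575932 IH) (Lpe (K43.f572340 IH) (Lpe (K43.f177299 IH) (Lpr_df (K43.f575929 IH) (Lpn (LP (LK LD1_c12 LD2_c5 LD3_c27))))))))
theorem f581451 : Led Lsl_bt (LP (LK LD1_c20 LD2_c26 LD3_c30)) = (LP (LK LD1_c18 LD2_c43 LD3_c11)) :=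
  Lgr Lrot119 (Lpe (f581438 IH) (Lpr_bf (f581428 IH) (Lpe (f575933 IH) (Lpn (LP (LK LD1_c18 LD2_c43 LD3_c11))))))
theorem f581456 : Led Lsl_dt (LP (LK LD1_c18 LD2_c43 LD3_c11)) = (LP (LK LD1_c10 LD2_c18 LD3_c4)) :=
  Lre_d IH (LK LD1_c18 LD2_c43 LD3_c11) (LK LD1_c10 LD2_c18 LD3_c4) Lrfl Lrfl
theorem f581457 : Led Lsl_bt (LP (LK LD1_c10 LD2_c18 LD3_c4)) = (LP (LK LD1_c18 LD2_c43 LD3_c9)) :=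
  Lre_b IH (LK LD1_c10 LD2_c18 LD3_c4) (LK LD1_c18 LD2_c43 LD3_c9) Lrfl Lrfl
theorem f581458 : Led Lsl_df (LP (LK LD1_c20 LD2_c26 LD3_c30)) = (LP (LK LD1_c18 LD2_c43 LD3_c9)) :=
  Lgr Lrot12 (Lpr_bt (f581451 IH) (Lpr_dt (f581456 IH) (Lpr_bt (f581457 IH) (Lpn (LP (LK LD1_c18 LD2_c43 LD3_c9))))))
theorem f581432 : Led Lsl_et (LP (LK LD1_c20 LD2_c26 LD3_c30)) = (LP (LK LD1_c11 LD2_c29 LD3_c26)) :=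
  Lre_e IH (LK LD1_c20 LD2_c26 LD3_c30) (LK LD1_c11 LD2_c29 LD3_c26) Lrfl Lrfl
theorem f581433 : Led Lsl_et (LP (LK LD1_c17 LD2_c45 LD3_c33)) = (LP (LK LD1_c9 LD2_c39 LD3_c18)) :=
  Lre_e IH (LK LD1_c17 LD2_c45 LD3_c33) (LK LD1_c9 LD2_c39 LD3_c18) Lrfl Lrfl
theorem f581462 : Led Lsl_et (LP (LK LD1_c10 LD2_c18 LD3_c2)) = (LP (LK LD1_c18 LD2_c43 LD3_c9)) :=
  Lre_e IH (LK LD1_c10 LD2_c18 LD3_c2) (LK LD1_c18 LD2_c43 LD3_c9) Lrfl Lrfl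
theorem f581463 : Led Lsl_dt (LP (LK LD1_c9 LD2_c39 LD3_c18)) = (LP (LK LD1_c10 LD2_c18 LD3_c2)) :=
  Lgr Lrot77 (Lpe (f581433 IH) (Lpe (f581415 IH) (Lpe (f581432 IH) (Lpr_df (f581458 IH) (Lpe (f581462 IH) (Lpn (LP (LK LD1_c10 LD2_c18 LD3_c2))))))))
theorem f581412 : Led Lsl_et (LP (LK LD1_c9 LD2_c39 LD3_c18)) = (LP (LK LD1_c17 LD2_c45 LD3_c33)) :=
  Lre_e IH (LK LD1_c9 LD2_c39 LD3_c18) (LK LD1_c17 LD2_c45 LD3_c33) Lrfl Lrfl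
theorem f568553 : Led Lsl_bt (LP (LK LD1_c2 LD2_c31 LD3_c7)) = (LP (LK LD1_c5 LD2_c7 LD3_c35)) :=
  Lre_b IH (LK LD1_c2 LD2_c31 LD3_c7) (LK LD1_c5 LD2_c7 LD3_c35) Lrfl Lrfl
theorem f568571 : Led Lsl_ef (LP (LK LD1_c2 LD2_c31 LD3_c8)) = (LP (LK LD1_c5 LD2_c7 LD3_c35)) :=
  Lgr Lrot29 (Lpr_bt (K36.f3296 IH) (Lpr_et (K42.f495357 IH) (Lpqs (K42.f568550 IH) (Lpr_bt (f568553 IH) (Lpn (LP (LK LD1_c5 LD2_c7 LD3_c35)))))))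
theorem f581411 : Led Lsl_dt (LP (LK LD1_c5 LD2_c7 LD3_c35)) = (LP (LK LD1_c10 LD2_c5 LD3_c28)) :=
  Lre_d IH (LK LD1_c5 LD2_c7 LD3_c35) (LK LD1_c10 LD2_c5 LD3_c28) Lrfl Lrfl
theorem f581468 : Led Lsl_gt (LP (LK LD1_c10 LD2_c5 LD3_c28)) = (LP (LK LD1_c10 LD2_c18 LD3_c2)) :=
  Lgr Lrot112 (Lpe (f581411 IH) (Lpe (f568571 IH) (Lpr_gf (K36.f428075 IH) (Lpe (K39.f138927 IH) (Lpr_dt (f138937 IH) (Lpe (f563531 IH) (Lpe (f580541 IH) (Lpr_gf (f581401 IH) (Lpe (f581412 IH) (Lpr_dt (f581463 IH) (Lpn (LP (LK LD1_c10 LD2_c18 LD3_c2)))))))))))))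
theorem f581470 : Led Lsl_ft (LP (LK LD1_c10 LD2_c5 LD3_c28)) = (LP (LK LD1_c5 LD2_c7 LD3_c33)) :=
  Lre_f IH (LK LD1_c10 LD2_c5 LD3_c28) (LK LD1_c5 LD2_c7 LD3_c33) Lrfl Lrfl
theorem f581471 : Led Lsl_at (LP (LK LD1_c5 LD2_c7 LD3_c33)) = (LP (LK LD1_c10 LD2_c5 LD3_c23)) :=
  Lre_a IH (LK LD1_c5 LD2_c7 LD3_c33) (LK LD1_c10 LD2_c5 LD3_c23) Lrfl Lrfl
theorem f581472 : Led Lsl_gf (LP (LK LD1_c10 LD2_c5 LD3_c23)) = (LP (LK LD1_c10 LD2_c18 LD3_c2)) :=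
  Lgr Lrot76 (Lpe (f581471 IH) (Lpe (f581470 IH) (Lpr_gt (f581468 IH) (Lpn (LP (LK LD1_c10 LD2_c18 LD3_c2))))))
theorem f581484 : Led Lsl_dt (LP (LK LD1_c5 LD2_c7 LD3_c31)) = (LP (LK LD1_c10 LD2_c5 LD3_c23)) :=
  Lre_d IH (LK LD1_c5 LD2_c7 LD3_c31) (LK LD1_c10 LD2_c5 LD3_c23) Lrfl Lrfl
theorem f581485 : Led Lsl_et (LP (LK LD1_c5 LD2_c7 LD3_c31)) = (LP (LK LD1_c10 LD2_c5 LD3_c24)) :=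
  Lre_e IH (LK LD1_c5 LD2_c7 LD3_c31) (LK LD1_c10 LD2_c5 LD3_c24) Lrfl Lrfl
theorem f577750 : Led Lsl_at (LP (LK LD1_c5 LD2_c38 LD3_c24)) = (LP (LK LD1_c11 LD2_c8 LD3_c6)) :=
  Lre_a IH (LK LD1_c5 LD2_c38 LD3_c24) (LK LD1_c11 LD2_c8 LD3_c6) Lrfl Lrfl
theorem f581403 : Led Lsl_gt (LP (LK LD1_c11 LD2_c7 LD3_c28)) = (LP (LK LD1_c17 LD2_c45 LD3_c33)) :=
  Lgr Lrot5 (Lpr_ft (K43.f577754 IH) (Lpr_at (f577750 IH) (Lpr_gf (f581401 IH) (Lpn (LP (LK LD1_c17 LD2_c45 LD3_c33))))))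
theorem f581486 : Led Lsl_gt (LP (LK LD1_c10 LD2_c5 LD3_c24)) = (LP (LK LD1_c12 LD2_c23 LD3_c45)) :=
  Lgr Lrot137 (Lpe (f581485 IH) (Lpr_dt (f581484 IH) (Lpr_gf (f581472 IH) (Lpe (f581463 IH) (Lpr_et (f581412 IH) (Lpe (f581403 IH) (Lpr_ef (K43.f577804 IH) (Lpr_dt (K43.f562669 IH) (Lpe (K42.f568984 IH) (Lpe (K42.f569031 IH) (Lpn (LP (LK LD1_c12 LD2_c23 LD3_c45)))))))))))))
theorem f166387 : Led Lsl_bt (LP (LK LD1_c2 LD2_c30 LD3_c42)) = (LP (LK LD1_c1 LD2_c12 LD3_c23)) :=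
  Lre_b IH (LK LD1_c2 LD2_c30 LD3_c42) (LK LD1_c1 LD2_c12 LD3_c23) Lrfl Lrfl
theorem f581502 : Led Lsl_bf (LP (LK LD1_c10 LD2_c5 LD3_c24)) = (LP (LK LD1_c11 LD2_c15 LD3_c47)) :=
  Lgr Lrot165 (Lpr_gt (f581486 IH) (Lpr_ct (K41.f566701 IH) (Lpe (K41.f567249 IH) (Lpe (K41.f177123 IH) (Lpr_bt (f166387 IH) (Lpr_gt (K11.f177116 IH) (Lpe (K16.f172722 IH) (Lpr_ct (K38.f172696 IH) (Lpr_gt (K38.f172736 IH) (Lpe (K43.f177124 IH) (Lpn (LP (LK LD1_c11 LD2_c15 LD3_c47)))))))))))))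
theorem f581509 : Led Lsl_et (LP (LK LD1_c10 LD2_c5 LD3_c24)) = (LP (LK LD1_c5 LD2_c7 LD3_c31)) :=
  Lre_e IH (LK LD1_c10 LD2_c5 LD3_c24) (LK LD1_c5 LD2_c7 LD3_c31) Lrfl Lrfl
theorem f581510 : Led Lsl_bt (LP (LK LD1_c5 LD2_c7 LD3_c31)) = (LP (LK LD1_c8 LD2_c49 LD3_c2)) :=
  Lgr Lrot119 (Lpe (f581509 IH) (Lpr_bf (f581502 IH) (Lpr_ef (K43.f570754 IH) (Lpn (LP (LK LD1_c8 LD2_c49 LD3_c2))))))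
theorem f581515 : Led Lsl_bf (LP (LK LD1_c5 LD2_c7 LD3_c31)) = (LP (LK LD1_c8 LD2_c49 LD3_c2)) :=
  Lgr Lrot24 (Lpr_bt (f581510 IH) (Lpn (LP (LK LD1_c8 LD2_c49 LD3_c2))))
theorem f544450 : Led Lsl_gf (LP (LK LD1_c2 LD2_c53 LD3_c49)) = (LP (LK LD1_c4 LD2_c5 LD3_c40)) :=
  Lgr Lrot47 (Lpr_gt (K37.f544444 IH) (Lpr_af (K35.f538392 IH) (Lpr_ff (K41.f538289 IH) (Lpn (LP (LK LD1_c4 LD2_c5 LD3_c40))))))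
theorem f581563 : Led Lsl_gf (LP (LK LD1_c5 LD2_c7 LD3_c31)) = (LP (LK LD1_c5 LD2_c13 LD3_c55)) :=
  Lgr Lrot124 (Lpr_bf (f581515 IH) (Lpe (K43.f570750 IH) (Lpr_gt (K42.f538363 IH) (Lpe (K35.f538304 IH) (Lpr_bt (K35.f538302 IH) (Lpe (f544450 IH) (Lpr_ct (K37.f171699 IH) (Lpe (K37.f421387 IH) (Lpe (K32.f308592 IH) (Lpr_bt (K32.f421264 IH) (Lpn (LP (LK LD1_c5 LD2_c13 LD3_c55)))))))))))))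
theorem f581477 : Led Lsl_dt (LP (LK LD1_c10 LD2_c5 LD3_c23)) = (LP (LK LD1_c5 LD2_c7 LD3_c31)) :=
  Lre_d IH (LK LD1_c10 LD2_c5 LD3_c23) (LK LD1_c5 LD2_c7 LD3_c31) Lrfl Lrfl
theorem f552430 : Led Lsl_ct (LP (LK LD1_c11 LD2_c32 LD3_c44)) = (LP (LK LD1_c5 LD2_c53 LD3_c19)) :=
  Lre_c IH (LK LD1_c11 LD2_c32 LD3_c44) (LK LD1_c5 LD2_c53 LD3_c19) Lrfl Lrfl
theorem f500402 : Led Lsl_ct (LP (LK LD1_c5 LD2_c53 LD3_c19)) = (LP (LK LD1_c11 LD2_c32 LD3_c44)) :=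
  Lre_c IH (LK LD1_c5 LD2_c53 LD3_c19) (LK LD1_c11 LD2_c32 LD3_c44) Lrfl Lrfl
theorem f552419 : Led Lsl_gt (LP (LK LD1_c5 LD2_c41 LD3_c25)) = (LP (LK LD1_c9 LD2_c8 LD3_c8)) :=
  Lgr Lrot46 (Lpr_gf (K40.f548163 IH) (Lpe (K40.f285266 IH) (Lpr_at (K39.f552409 IH) (Lpn (LP (LK LD1_c9 LD2_c8 LD3_c8))))))
theorem f552434 : Led Lsl_gt (LP (LK LD1_c11 LD2_c32 LD3_c44)) = (LP (LK LD1_c11 LD2_c29 LD3_c28)) :=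
  Lgr Lrot65 (Lpe (f500402 IH) (Lpr_bt (K39.f552426 IH) (Lpe (f552419 IH) (Lpe (K40.f423352 IH) (Lpr_ct (K38.f548156 IH) (Lpr_gf (K38.f538997 IH) (Lpe (K36.f380353 IH) (Lpe (K38.f544937 IH) (Lpe (K43.f208544 IH) (Lpr_ct (f544943 IH) (Lpn (LP (LK LD1_c11 LD2_c29 LD3_c28)))))))))))))
theorem f573345 : Led Lsl_gf (LP (LK LD1_c11 LD2_c32 LD3_c44)) = (LP (LK LD1_c17 LD2_c8 LD3_c38)) :=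
  Lgr Lrot47 (Lpr_gt (f552434 IH) (Lpe (f545286 IH) (Lpr_ff (f573340 IH) (Lpn (LP (LK LD1_c17 LD2_c8 LD3_c38))))))
theorem f581434 : Led Lsl_gt (LP (LK LD1_c11 LD2_c29 LD3_c26)) = (LP (LK LD1_c16 LD2_c29 LD3_c59)) :=
  Lgr Lrot146 (Lpr_dt (f581415 IH) (Lpe (f581401 IH) (Lpr_ct (f580531 IH) (Lpe (K40.f547348 IH) (Lpr_ct (K42.f547441 IH) (Lpe (K39.f552431 IH) (Lpe (f552430 IH) (Lpr_gf (f573345 IH) (Lpr_cf (f580577 IH) (Lpn (LP (LK LD1_c16 LD2_c29 LD3_c59))))))))))))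
theorem f581430 : Led Lsl_df (LP (LK LD1_c11 LD2_c29 LD3_c26)) = (LP (LK LD1_c17 LD2_c45 LD3_c33)) :=
  Lgr Lrot38 (Lpr_dt (f581415 IH) (Lpn (LP (LK LD1_c17 LD2_c45 LD3_c33))))
theorem f557760 : Led Lsl_ef (LP (LK LD1_c5 LD2_c40 LD3_c17)) = (LP (LK LD1_c8 LD2_c49 LD3_c21)) :=
  Lgr Lrot29 (Lpr_bt (K31.f424124 IH) (Lpr_et (K42.f557332 IH) (Lpr_bt (K40.f557751 IH) (Lpn (LP (LK LD1_c8 LD2_c49 LD3_c21))))))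
theorem f581445 : Led Lsl_gf (LP (LK LD1_c9 LD2_c39 LD3_c18)) = (LP (LK LD1_c5 LD2_c37 LD3_c53)) :=
  Lgr Lrot141 (Lpe (f581433 IH) (Lpe (f581430 IH) (Lpr_gt (f581434 IH) (Lpe (f557750 IH) (Lpe (f557760 IH) (Lpe (K41.f566691 IH) (Lpr_dt (K41.f566685 IH) (Lpr_gt (K40.f211893 IH) (Lpe (K40.f211937 IH) (Lpr_et (K43.f211938 IH) (Lpn (LP (LK LD1_c5 LD2_c37 LD3_c53)))))))))))))
theorem f553491 : Led Lsl_cf (LP (LK LD1_c5 LD2_c37 LD3_c53)) = (LP (LK LD1_c9 LD2_c14 LD3_c58)) :=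
  Lgr Lrot39 (Lpr_et (f211892 IH) (Lpr_ct (K39.f211850 IH) (Lpr_et (K39.f553489 IH) (Lpn (LP (LK LD1_c9 LD2_c14 LD3_c58))))))
theorem f34981 : Led Lsl_dt (LP (LK LD1_c8 LD2_c38 LD3_c14)) = (LP (LK LD1_c4 LD2_c20 LD3_c10)) :=
  Lre_d IH (LK LD1_c8 LD2_c38 LD3_c14) (LK LD1_c4 LD2_c20 LD3_c10) Lrfl Lrfl
theorem f581478 : Led Lsl_ct (LP (LK LD1_c5 LD2_c7 LD3_c31)) = (LP (LK LD1_c4 LD2_c20 LD3_c10)) :=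
  Lgr Lrot7 (Lpe (f581477 IH) (Lpr_gf (f581472 IH) (Lpe (f581463 IH) (Lpr_gf (f581445 IH) (Lpr_cf (f553491 IH) (Lpr_gt (K38.f56213 IH) (Lpr_dt (K36.f56249 IH) (Lpe (K39.f553497 IH) (Lpr_dt (f34981 IH) (Lpn (LP (LK LD1_c4 LD2_c20 LD3_c10))))))))))))
theorem f34901 : Led Lsl_ct (LP (LK LD1_c16 LD2_c59 LD3_c34)) = (LP (LK LD1_c9 LD2_c7 LD3_c23)) :=
  Lre_c IH (LK LD1_c16 LD2_c59 LD3_c34) (LK LD1_c9 LD2_c7 LD3_c23) Lrfl Lrfl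
theorem f574467 : Led Lsl_at (LP (LK LD1_c5 LD2_c7 LD3_c52)) = (LP (LK LD1_c10 LD2_c6 LD3_c1)) :=
  Lre_a IH (LK LD1_c5 LD2_c7 LD3_c52) (LK LD1_c10 LD2_c6 LD3_c1) Lrfl Lrfl
theorem f574468 : Led Lsl_cf (LP (LK LD1_c9 LD2_c7 LD3_c46)) = (LP (LK LD1_c10 LD2_c6 LD3_c1)) :=
  Lgr Lrot1 (Lpr_at (K43.f574462 IH) (Lpr_ct (K43.f169722 IH) (Lpr_at (f574467 IH) (Lpn (LP (LK LD1_c10 LD2_c6 LD3_c1))))))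
theorem f581567 : Led Lsl_gf (LP (LK LD1_c10 LD2_c6 LD3_c1)) = (LP (LK LD1_c10 LD2_c17 LD3_c56)) :=
  Lgr Lrot147 (Lpe (f574468 IH) (Lpr_gt (K43.f34977 IH) (Lpr_ct (f34901 IH) (Lpe (K40.f34958 IH) (Lpr_cf (K37.f34942 IH) (Lpe (K36.f34978 IH) (Lpe (f581478 IH) (Lpr_gf (f581563 IH) (Lpe (K37.f421322 IH) (Lpn (LP (LK LD1_c10 LD2_c17 LD3_c56))))))))))))
theorem f574505 : Led Lsl_df (LP (LK LD1_c11 LD2_c7 LD3_c4)) = (LP (LK LD1_c10 LD2_c6 LD3_c1)) :=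
  Lgr Lrot18 (Lpr_at (K43.f548394 IH) (Lpr_dt (K43.f574503 IH) (Lpr_at (f574467 IH) (Lpn (LP (LK LD1_c10 LD2_c6 LD3_c1))))))
theorem f581512 : Led Lsl_at (LP (LK LD1_c2 LD2_c31 LD3_c3)) = (LP (LK LD1_c5 LD2_c7 LD3_c31)) :=
  Lre_a IH (LK LD1_c2 LD2_c31 LD3_c3) (LK LD1_c5 LD2_c7 LD3_c31) Lrfl Lrfl
theorem f568560 : Led Lsl_ft (LP (LK LD1_c5 LD2_c7 LD3_c35)) = (LP (LK LD1_c2 LD2_c31 LD3_c3)) :=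
  Lre_f IH (LK LD1_c5 LD2_c7 LD3_c35) (LK LD1_c2 LD2_c31 LD3_c3) Lrfl Lrfl
theorem f581565 : Led Lsl_gt (LP (LK LD1_c5 LD2_c7 LD3_c35)) = (LP (LK LD1_c5 LD2_c13 LD3_c55)) :=
  Lgr Lrot5 (Lpr_ft (f568560 IH) (Lpr_at (f581512 IH) (Lpr_gf (f581563 IH) (Lpn (LP (LK LD1_c5 LD2_c13 LD3_c55))))))
theorem f581571 : Led Lsl_cf (LP (LK LD1_c4 LD2_c20 LD3_c11)) = (LP (LK LD1_c5 LD2_c7 LD3_c35)) :=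
  Lgr Lrot166 (Lpr_gt (K41.f34914 IH) (Lpr_dt (K38.f34875 IH) (Lpr_gt (K38.f32006 IH) (Lpe (K43.f547848 IH) (Lpe (K43.f574387 IH) (Lpr_df (f574505 IH) (Lpr_gf (f581567 IH) (Lpe (K36.f421323 IH) (Lpe (f581565 IH) (Lpn (LP (LK LD1_c5 LD2_c7 LD3_c35))))))))))))
theorem f34913 : Led Lsl_bt (LP (LK LD1_c1 LD2_c4 LD3_c36)) = (LP (LK LD1_c0 LD2_c29 LD3_c35)) :=
  Lre_b IH (LK LD1_c1 LD2_c4 LD3_c36) (LK LD1_c0 LD2_c29 LD3_c35) Lrfl Lrfl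
theorem f421459 : Led Lsl_bt (LP (LK LD1_c4 LD2_c58 LD3_c34)) = (LP (LK LD1_c9 LD2_c47 LD3_c38)) :=
  Lre_b IH (LK LD1_c4 LD2_c58 LD3_c34) (LK LD1_c9 LD2_c47 LD3_c38) Lrfl Lrfl
theorem f581580 : Led Lsl_gt (LP (LK LD1_c9 LD2_c47 LD3_c38)) = (LP (LK LD1_c5 LD2_c7 LD3_c35)) :=
  Lgr Lrot82 (Lpe (f421459 IH) (Lpr_ct (K40.f387203 IH) (Lpe (K32.f427803 IH) (Lpr_cf (K27.f194104 IH) (Lpr_bt (K36.f185754 IH) (Lpe (K10.f185750 IH) (Lpe (f34913 IH) (Lpr_ct (K2.f34871 IH) (Lpe (K41.f34914 IH) (Lpr_cf (f581571 IH) (Lpn (LP (LK LD1_c5 LD2_c7 LD3_c35)))))))))))))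
theorem f581590 : Led Lsl_et (LP (LK LD1_c15 LD2_c26 LD3_c31)) = (LP (LK LD1_c11 LD2_c8 LD3_c6)) :=
  Lgr Lrot122 (Lpr_dt (K43.f572965 IH) (Lpr_gt (K43.f563405 IH) (Lpe (K41.f175589 IH) (Lpr_et (K40.f557709 IH) (Lpr_gt (f581580 IH) (Lpr_dt (f581411 IH) (Lpr_gt (f581468 IH) (Lpe (f581463 IH) (Lpr_et (f581412 IH) (Lpe (f581401 IH) (Lpn (LP (LK LD1_c11 LD2_c8 LD3_c6)))))))))))))
theorem f577792 : Led Lsl_dt (LP (LK LD1_c16 LD2_c49 LD3_c35)) = (LP (LK LD1_c11 LD2_c29 LD3_c27)) :=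
  Lgr Lrot6 (Lpe (K43.f577782 IH) (Lpr_ct (K43.f577784 IH) (Lpr_gt (f577786 IH) (Lpr_ct (f542670 IH) (Lpe (K36.f542672 IH) (Lpe (f101530 IH) (Lpe (f544944 IH) (Lpe (f544943 IH) (Lpe (f112853 IH) (Lpn (LP (LK LD1_c11 LD2_c29 LD3_c27))))))))))))
theorem f149686 : Led Lsl_et (LP (LK LD1_c2 LD2_c51 LD3_c41)) = (LP (LK LD1_c1 LD2_c21 LD3_c53)) :=
  Lre_e IH (LK LD1_c2 LD2_c51 LD3_c41) (LK LD1_c1 LD2_c21 LD3_c53) Lrfl Lrfl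
theorem f581595 : Led Lsl_gf (LP (LK LD1_c11 LD2_c39 LD3_c36)) = (LP (LK LD1_c8 LD2_c0 LD3_c8)) :=
  Lgr Lrot145 (Lpe (K43.f572965 IH) (Lpr_et (f581590 IH) (Lpr_gt (f580537 IH) (Lpr_dt (f577792 IH) (Lpr_gt (f112853 IH) (Lpe (f158441 IH) (Lpr_et (f149686 IH) (Lpr_gt (K8.f158433 IH) (Lpe (K36.f161656 IH) (Lpr_dt (K40.f161657 IH) (Lpn (LP (LK LD1_c8 LD2_c0 LD3_c8)))))))))))))
theorem f211981 : Led Lsl_et (LP (LK LD1_c9 LD2_c0 LD3_c8)) = (LP (LK LD1_c16 LD2_c49 LD3_c35)) :=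
  Lre_e IH (LK LD1_c9 LD2_c0 LD3_c8) (LK LD1_c16 LD2_c49 LD3_c35) Lrfl Lrfl
theorem f581601 : Led Lsl_et (LP (LK LD1_c4 LD2_c31 LD3_c57)) = (LP (LK LD1_c5 LD2_c56 LD3_c23)) :=
  Lgr Lrot121 (Lpe (K31.f174817 IH) (Lpr_gf (K39.f424174 IH) (Lpe (K39.f383303 IH) (Lpr_et (f211981 IH) (Lpe (f580537 IH) (Lpe (f581590 IH) (Lpr_dt (K43.f572965 IH) (Lpr_gf (f581595 IH) (Lpe (K40.f161657 IH) (Lpe (K40.f563187 IH) (Lpn (LP (LK LD1_c5 LD2_c56 LD3_c23)))))))))))))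
theorem f581603 : Led Lsl_af (LP (LK LD1_c11 LD2_c36 LD3_c50)) = (LP (LK LD1_c5 LD2_c56 LD3_c23)) :=
  Lgr Lrot50 (Lpr_et (K43.f573005 IH) (Lpe (K31.f424126 IH) (Lpr_et (f581601 IH) (Lpn (LP (LK LD1_c5 LD2_c56 LD3_c23))))))
theorem f581609 : Led Lsl_at (LP (LK LD1_c20 LD2_c35 LD3_c6)) = (LP (LK LD1_c11 LD2_c38 LD3_c3)) :=
  Lgr Lrot51 (Lpe (K43.f500537 IH) (Lpr_af (f581603 IH) (Lpe (K40.f553470 IH) (Lpn (LP (LK LD1_c11 LD2_c38 LD3_c3))))))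
theorem f581615 : Led Lsl_ff (LP (LK LD1_c20 LD2_c35 LD3_c6)) = (LP (LK LD1_c11 LD2_c37 LD3_c61)) :=
  Lgr Lrot52 (Lpr_at (f581609 IH) (Lpe (K40.f563386 IH) (Lpe (K38.f545268 IH) (Lpn (LP (LK LD1_c11 LD2_c37 LD3_c61))))))
theorem f581619 : Led Lsl_bt (LP (LK LD1_c20 LD2_c35 LD3_c6)) = (LP (LK LD1_c16 LD2_c29 LD3_c59)) :=
  Lgr Lrot35 (Lpr_ff (f581615 IH) (Lpr_bf (K38.f545280 IH) (Lpr_ff (f580591 IH) (Lpn (LP (LK LD1_c16 LD2_c29 LD3_c59))))))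
theorem f211977 : Led Lsl_bt (LP (LK LD1_c16 LD2_c49 LD3_c35)) = (LP (LK LD1_c9 LD2_c0 LD3_c9)) :=
  Lre_b IH (LK LD1_c16 LD2_c49 LD3_c35) (LK LD1_c9 LD2_c0 LD3_c9) Lrfl Lrfl
theorem f577796 : Led Lsl_bt (LP (LK LD1_c5 LD2_c53 LD3_c0)) = (LP (LK LD1_c11 LD2_c29 LD3_c27)) :=
  Lgr Lrot95 (Lpr_df (K40.f559503 IH) (Lpe (f211977 IH) (Lpr_df (f577794 IH) (Lpn (LP (LK LD1_c11 LD2_c29 LD3_c27))))))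
theorem f557779 : Led Lsl_cf (LP (LK LD1_c11 LD2_c20 LD3_c38)) = (LP (LK LD1_c5 LD2_c53 LD3_c0)) :=
  Lgr Lrot169 (Lpr_gt (K40.f557778 IH) (Lpr_ct (K41.f387416 IH) (Lpe (K27.f386661 IH) (Lpe (K36.f72499 IH) (Lpe (K40.f76111 IH) (Lpr_cf (K40.f557764 IH) (Lpqs (K39.f556053 IH) (Lpe (K39.f500360 IH) (Lpe (K36.f211799 IH) (Lpr_gt (K40.f211802 IH) (Lpn (LP (LK LD1_c5 LD2_c53 LD3_c0)))))))))))))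
theorem f99769 : Led Lsl_ct (LP (LK LD1_c16 LD2_c22 LD3_c23)) = (LP (LK LD1_c8 LD2_c44 LD3_c51)) :=
  Lre_c IH (LK LD1_c16 LD2_c22 LD3_c23) (LK LD1_c8 LD2_c44 LD3_c51) Lrfl Lrfl
theorem f99765 : Led Lsl_dt (LP (LK LD1_c4 LD2_c23 LD3_c33)) = (LP (LK LD1_c8 LD2_c44 LD3_c51)) :=
  Lre_d IH (LK LD1_c4 LD2_c23 LD3_c33) (LK LD1_c8 LD2_c44 LD3_c51) Lrfl Lrfl
theorem f559942 : Led Lsl_gf (LP (LK LD1_c11 LD2_c57 LD3_c48)) = (LP (LK LD1_c9 LD2_c9 LD3_c34)) :=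
  Lgr Lrot147 (Lpr_ct (K40.f193838 IH) (Lpr_gt (K42.f559868 IH) (Lpr_ct (f99769 IH) (Lpe (f99765 IH) (Lpe (K31.f101288 IH) (Lpq (K37.f542326 IH) (Lpe (K37.f500527 IH) (Lpe (K37.f82057 IH) (Lpr_gf (K37.f542321 IH) (Lpe (K39.f72283 IH) (Lpn (LP (LK LD1_c9 LD2_c9 LD3_c34)))))))))))))
theorem f553463 : Led Lsl_gf (LP (LK LD1_c4 LD2_c36 LD3_c52)) = (LP (LK LD1_c2 LD2_c54 LD3_c16)) :=
  Lgr Lrot76 (Lpe (K39.f545147 IH) (Lpr_ff (K39.f553453 IH) (Lpr_gt (K42.f117656 IH) (Lpn (LP (LK LD1_c2 LD2_c54 LD3_c16))))))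
theorem f71977 : Led Lsl_ct (LP (LK LD1_c1 LD2_c23 LD3_c9)) = (LP (LK LD1_c2 LD2_c54 LD3_c16)) :=
  Lre_c IH (LK LD1_c1 LD2_c23 LD3_c9) (LK LD1_c2 LD2_c54 LD3_c16) Lrfl Lrfl
theorem f559945 : Led Lsl_gf (LP (LK LD1_c6 LD2_c7 LD3_c45)) = (LP (LK LD1_c4 LD2_c36 LD3_c37)) :=
  Lgr Lrot143 (Lpr_dt (K40.f193835 IH) (Lpe (K30.f193399 IH) (Lpe (K38.f193831 IH) (Lpr_gf (f559942 IH) (Lpe (K39.f72366 IH) (Lpr_gf (f553463 IH) (Lpe (f71977 IH) (Lpr_gt (K37.f500522 IH) (Lpq (K37.f542336 IH) (Lpr_dt (K38.f99674 IH) (Lpn (LP (LK LD1_c4 LD2_c36 LD3_c37)))))))))))))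
theorem f193825 : Led Lsl_ct (LP (LK LD1_c6 LD2_c7 LD3_c45)) = (LP (LK LD1_c11 LD2_c57 LD3_c55)) :=
  Lre_c IH (LK LD1_c6 LD2_c7 LD3_c45) (LK LD1_c11 LD2_c57 LD3_c55) Lrfl Lrfl
theorem f193826 : Led Lsl_gt (LP (LK LD1_c11 LD2_c57 LD3_c55)) = (LP (LK LD1_c21 LD2_c3 LD3_c0)) :=
  Lre_g IH (LK LD1_c11 LD2_c57 LD3_c55) (LK LD1_c21 LD2_c3 LD3_c0) Lrfl Lrfl
theorem f581623 : Led Lsl_ct (LP (LK LD1_c20 LD2_c35 LD3_c6)) = (LP (LK LD1_c21 LD2_c3 LD3_c0)) :=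
  Lgr Lrot63 (Lpr_bt (f581619 IH) (Lpe (f580593 IH) (Lpe (f577796 IH) (Lpe (f557779 IH) (Lpr_gt (K40.f557778 IH) (Lpe (K39.f387413 IH) (Lpr_bt (K40.f509277 IH) (Lpe (f559945 IH) (Lpr_ct (f193825 IH) (Lpr_gt (f193826 IH) (Lpn (LP (LK LD1_c21 LD2_c3 LD3_c0)))))))))))))
theorem f565314 : Led Lsl_dt (LP (LK LD1_c15 LD2_c26 LD3_c32)) = (LP (LK LD1_c8 LD2_c12 LD3_c28)) :=
  Lre_d IH (LK LD1_c15 LD2_c26 LD3_c32) (LK LD1_c8 LD2_c12 LD3_c28) Lrfl Lrfl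
theorem f99686 : Led Lsl_ct (LP (LK LD1_c16 LD2_c55 LD3_c57)) = (LP (LK LD1_c9 LD2_c4 LD3_c23)) :=
  Lre_c IH (LK LD1_c16 LD2_c55 LD3_c57) (LK LD1_c9 LD2_c4 LD3_c23) Lrfl Lrfl
theorem f581632 : Led Lsl_gf (LP (LK LD1_c16 LD2_c55 LD3_c57)) = (LP (LK LD1_c21 LD2_c3 LD3_c0)) :=
  Lgr Lrot104 (Lpr_ct (f99686 IH) (Lpe (K38.f99676 IH) (Lpe (K43.f553480 IH) (Lpr_gf (f580567 IH) (Lpe (f579560 IH) (Lpe (K43.f565324 IH) (Lpe (f565314 IH) (Lpr_gt (K43.f579572 IH) (Lpr_ct (f581623 IH) (Lpn (LP (LK LD1_c21 LD2_c3 LD3_c0))))))))))))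
theorem f101330 : Led Lsl_dt (LP (LK LD1_c26 LD2_c20 LD3_c17)) = (LP (LK LD1_c16 LD2_c22 LD3_c23)) :=
  Lre_d IH (LK LD1_c26 LD2_c20 LD3_c17) (LK LD1_c16 LD2_c22 LD3_c23) Lrfl Lrfl
theorem f540534 : Led Lsl_dt (LP (LK LD1_c11 LD2_c38 LD3_c17)) = (LP (LK LD1_c20 LD2_c35 LD3_c43)) :=
  Lre_d IH (LK LD1_c11 LD2_c38 LD3_c17) (LK LD1_c20 LD2_c35 LD3_c43) Lrfl Lrfl
theorem f563466 : Led Lsl_gf (LP (LK LD1_c26 LD2_c20 LD3_c17)) = (LP (LK LD1_c20 LD2_c35 LD3_c43)) :=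
  Lgr Lrot143 (Lpr_dt (f101330 IH) (Lpe (K43.f99770 IH) (Lpe (f99765 IH) (Lpe (K31.f99767 IH) (Lpe (K40.f175587 IH) (Lpr_gf (K41.f563464 IH) (Lpr_cf (K41.f540527 IH) (Lpe (K41.f540532 IH) (Lpr_dt (f540534 IH) (Lpn (LP (LK LD1_c20 LD2_c35 LD3_c43))))))))))))
theorem f500535 : Led Lsl_ct (LP (LK LD1_c11 LD2_c37 LD3_c9)) = (LP (LK LD1_c20 LD2_c35 LD3_c43)) :=
  Lre_c IH (LK LD1_c11 LD2_c37 LD3_c9) (LK LD1_c20 LD2_c35 LD3_c43) Lrfl Lrfl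
theorem f72002 : Led Lsl_gt (LP (LK LD1_c20 LD2_c35 LD3_c42)) = (LP (LK LD1_c11 LD2_c37 LD3_c9)) :=
  Lre_g IH (LK LD1_c20 LD2_c35 LD3_c42) (LK LD1_c11 LD2_c37 LD3_c9) Lrfl Lrfl
theorem f581638 : Led Lsl_df (LP (LK LD1_c20 LD2_c35 LD3_c42)) = (LP (LK LD1_c21 LD2_c3 LD3_c0)) :=
  Lgr Lrot155 (Lpr_gt (f72002 IH) (Lpr_ct (f500535 IH) (Lpe (f563466 IH) (Lpr_ct (K42.f546140 IH) (Lpr_dt (K40.f387419 IH) (Lpe (K40.f99688 IH) (Lpe (K38.f99675 IH) (Lpe (f99686 IH) (Lpr_gf (f581632 IH) (Lpn (LP (LK LD1_c21 LD2_c3 LD3_c0))))))))))))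
theorem f565284 : Led Lsl_cf (LP (LK LD1_c15 LD2_c26 LD3_c32)) = (LP (LK LD1_c9 LD2_c12 LD3_c43)) :=
  Lgr Lrot11 (Lpr_ct (K43.f565278 IH) (Lpn (LP (LK LD1_c9 LD2_c12 LD3_c43))))
theorem f186018 : Led Lsl_dt (LP (LK LD1_c9 LD2_c12 LD3_c46)) = (LP (LK LD1_c4 LD2_c38 LD3_c27)) :=
  Lre_d IH (LK LD1_c9 LD2_c12 LD3_c46) (LK LD1_c4 LD2_c38 LD3_c27) Lrfl Lrfl
theorem f581327 : Led Lsl_cf (LP (LK LD1_c26 LD2_c26 LD3_c45)) = (LP (LK LD1_c17 LD2_c7 LD3_c13)) :=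
  Lgr Lrot1 (Lpr_at (f563318 IH) (Lpe (K40.f563376 IH) (Lpr_at (f581323 IH) (Lpn (LP (LK LD1_c17 LD2_c7 LD3_c13))))))
theorem f563424 : Led Lsl_af (LP (LK LD1_c26 LD2_c27 LD3_c41)) = (LP (LK LD1_c29 LD2_c32 LD3_c13)) :=
  Lgr Lrot117 (Lpr_dt (f557729 IH) (Lpr_at (K41.f563419 IH) (Lpe (K40.f563345 IH) (Lpn (LP (LK LD1_c29 LD2_c32 LD3_c13))))))
theorem f563354 : Led Lsl_ft (LP (LK LD1_c26 LD2_c26 LD3_c45)) = (LP (LK LD1_c29 LD2_c32 LD3_c13)) :=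
  Lgr Lrot54 (Lpe (f425925 IH) (Lpe (K41.f563350 IH) (Lpr_df (K40.f563352 IH) (Lpn (LP (LK LD1_c29 LD2_c32 LD3_c13))))))
theorem f581305 : Led Lsl_gt (LP (LK LD1_c26 LD2_c26 LD3_c45)) = (LP (LK LD1_c26 LD2_c57 LD3_c37)) :=
  Lgr Lrot5 (Lpr_ft (f563354 IH) (Lpe (f563424 IH) (Lpr_gf (f581303 IH) (Lpn (LP (LK LD1_c26 LD2_c57 LD3_c37))))))
theorem f581652 : Led Lsl_cf (LP (LK LD1_c20 LD2_c35 LD3_c42)) = (LP (LK LD1_c26 LD2_c57 LD3_c37)) :=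
  Lgr Lrot99 (Lpr_df (f581638 IH) (Lpe (f581623 IH) (Lpe (K43.f579572 IH) (Lpr_cf (f565284 IH) (Lpe (K43.f176469 IH) (Lpe (f186018 IH) (Lpr_gt (f176242 IH) (Lpe (f581327 IH) (Lpr_gt (f581305 IH) (Lpn (LP (LK LD1_c26 LD2_c57 LD3_c37))))))))))))
theorem f581660 : Led Lsl_ft (LP (LK LD1_c20 LD2_c35 LD3_c42)) = (LP (LK LD1_c11 LD2_c39 LD3_c41)) :=
  Lgr Lrot4 (Lpr_cf (f581652 IH) (Lpe (K40.f563210 IH) (Lpe (K40.f562804 IH) (Lpn (LP (LK LD1_c11 LD2_c39 LD3_c41))))))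
theorem f581684 : Led Lsl_ff (LP (LK LD1_c20 LD2_c35 LD3_c42)) = (LP (LK LD1_c11 LD2_c39 LD3_c41)) :=
  Lgr Lrot3 (Lpr_ft (f581660 IH) (Lpn (LP (LK LD1_c11 LD2_c39 LD3_c41))))
theorem f581656 : Led Lsl_at (LP (LK LD1_c20 LD2_c35 LD3_c42)) = (LP (LK LD1_c11 LD2_c39 LD3_c42)) :=
  Lgr Lrot107 (Lpr_cf (f581652 IH) (Lpe (K40.f545214 IH) (Lpr_cf (K40.f563206 IH) (Lpn (LP (LK LD1_c11 LD2_c39 LD3_c42))))))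
theorem f581764 : Led Lsl_gf (LP (LK LD1_c11 LD2_c39 LD3_c42)) = (LP (LK LD1_c17 LD2_c6 LD3_c54)) :=
  Lgr Lrot76 (Lpe (f581656 IH) (Lpr_ff (f581684 IH) (Lpr_gt (K40.f562824 IH) (Lpn (LP (LK LD1_c17 LD2_c6 LD3_c54))))))
theorem f545865 : Led Lsl_df (LP (LK LD1_c17 LD2_c7 LD3_c15)) = (LP (LK LD1_c11 LD2_c39 LD3_c19)) :=
  Lgr Lrot38 (Lpr_dt (K37.f545853 IH) (Lpn (LP (LK LD1_c11 LD2_c39 LD3_c19))))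
theorem f581766 : Led Lsl_gt (LP (LK LD1_c17 LD2_c7 LD3_c15)) = (LP (LK LD1_c11 LD2_c38 LD3_c16)) :=
  Lgr Lrot9 (Lpr_df (f545865 IH) (Lpr_gt (K42.f559846 IH) (Lpr_ct (K40.f173303 IH) (Lpr_gt (K38.f547577 IH) (Lpr_ct (K40.f198266 IH) (Lpe (K40.f545190 IH) (Lpr_cf (K40.f563206 IH) (Lpr_gf (f581764 IH) (Lpe (K40.f562852 IH) (Lpn (LP (LK LD1_c11 LD2_c38 LD3_c16))))))))))))
theorem f562879 : Led Lsl_ct (LP (LK LD1_c5 LD2_c57 LD3_c3)) = (LP (LK LD1_c2 LD2_c54 LD3_c49)) :=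
  Lre_c IH (LK LD1_c5 LD2_c57 LD3_c3) (LK LD1_c2 LD2_c54 LD3_c49) Lrfl Lrfl
theorem f562880 : Led Lsl_gt (LP (LK LD1_c11 LD2_c39 LD3_c27)) = (LP (LK LD1_c5 LD2_c57 LD3_c3)) :=
  Lre_g IH (LK LD1_c11 LD2_c39 LD3_c27) (LK LD1_c5 LD2_c57 LD3_c3) Lrfl Lrfl
theorem f581776 : Led Lsl_df (LP (LK LD1_c17 LD2_c7 LD3_c14)) = (LP (LK LD1_c11 LD2_c39 LD3_c27)) :=
  Lgr Lrot155 (Lpr_gt (f186019 IH) (Lpr_ct (K37.f542332 IH) (Lpr_gt (f581766 IH) (Lpr_ct (K40.f562852 IH) (Lpr_dt (K40.f541653 IH) (Lpe (K40.f176785 IH) (Lpe (f562875 IH) (Lpe (f562879 IH) (Lpe (f562880 IH) (Lpn (LP (LK LD1_c11 LD2_c39 LD3_c27))))))))))))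
def v1277 : LQ := Led Lsl_gf (LP (LK LD1_c1 LD2_c5 LD3_c3))
theorem f494497 : Led Lsl_gf (LP (LK LD1_c1 LD2_c5 LD3_c3)) = v1277 :=
  Lrfl
theorem f545844 : (LP (LK LD1_c0 LD2_c38 LD3_c32)) = v1277 :=
  Lefun (Lecon (Lfl_gt (K37.f452832 IH)) (K37.f545833 IH)) (f494497 IH)
theorem f452833 : Led Lsl_ct (LP (LK LD1_c2 LD2_c54 LD3_c50)) = (LP (LK LD1_c5 LD2_c57 LD3_c7)) :=
  Lre_c IH (LK LD1_c2 LD2_c54 LD3_c50) (LK LD1_c5 LD2_c57 LD3_c7) Lrfl Lrfl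
theorem f581808 : Led Lsl_gt (LP (LK LD1_c5 LD2_c57 LD3_c7)) = (LP (LK LD1_c11 LD2_c39 LD3_c27)) :=
  Lgr Lrot94 (Lpe (f452833 IH) (Lpr_gt (K40.f82179 IH) (Lpr_dt (K40.f82178 IH) (Lpqs (f545844 IH) (Lpe (f494497 IH) (Lpr_dt (K37.f142145 IH) (Lpe (f186017 IH) (Lpe (f186018 IH) (Lpe (f186019 IH) (Lpr_df (f581776 IH) (Lpn (LP (LK LD1_c11 LD2_c39 LD3_c27)))))))))))))
theorem f539099 : Led Lsl_bt (LP (LK LD1_c5 LD2_c53 LD3_c8)) = (LP (LK LD1_c2 LD2_c56 LD3_c54)) :=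
  Lgr Lrot127 (Lpr_bf (K38.f539092 IH) (Lpn (LP (LK LD1_c2 LD2_c56 LD3_c54))))
theorem f558508 : Led Lsl_bt (LP (LK LD1_c11 LD2_c42 LD3_c61)) = (LP (LK LD1_c9 LD2_c48 LD3_c19)) :=
  Lgr Lrot92 (Lpr_ct (K40.f545413 IH) (Lpe (K40.f545411 IH) (Lpe (f24264 IH) (Lpr_bt (f539099 IH) (Lpe (K40.f558506 IH) (Lpr_ct (K40.f558497 IH) (Lpr_gt (K40.f545792 IH) (Lpe (K37.f539890 IH) (Lpr_bt (K43.f139004 IH) (Lpr_gt (K43.f138838 IH) (Lpn (LP (LK LD1_c9 LD2_c48 LD3_c19)))))))))))))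
theorem f558510 : Led Lsl_bf (LP (LK LD1_c11 LD2_c42 LD3_c61)) = (LP (LK LD1_c9 LD2_c48 LD3_c19)) :=
  Lgr Lrot24 (Lpr_bt (f558508 IH) (Lpn (LP (LK LD1_c9 LD2_c48 LD3_c19))))
theorem f581314 : Led Lsl_cf (LP (LK LD1_c26 LD2_c27 LD3_c41)) = (LP (LK LD1_c17 LD2_c7 LD3_c14)) :=
  Lgr Lrot11 (Lpr_ct (f581307 IH) (Lpn (LP (LK LD1_c17 LD2_c7 LD3_c14))))
theorem f424977 : Led Lsl_dt (LP (LK LD1_c8 LD2_c49 LD3_c19)) = (LP (LK LD1_c4 LD2_c25 LD3_c60)) :=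
  Lre_d IH (LK LD1_c8 LD2_c49 LD3_c19) (LK LD1_c4 LD2_c25 LD3_c60) Lrfl Lrfl
theorem f160926 : Led Lsl_dt (LP (LK LD1_c8 LD2_c0 LD3_c4)) = (LP (LK LD1_c15 LD2_c4 LD3_c45)) :=
  Lre_d IH (LK LD1_c8 LD2_c0 LD3_c4) (LK LD1_c15 LD2_c4 LD3_c45) Lrfl Lrfl
theorem f581806 : Led Lsl_ct (LP (LK LD1_c15 LD2_c4 LD3_c45)) = (LP (LK LD1_c11 LD2_c39 LD3_c27)) :=
  Lgr Lrot53 (Lpe (f160926 IH) (Lpe (K40.f161264 IH) (Lpe (f424977 IH) (Lpe (f424923 IH) (Lpe (f424978 IH) (Lpr_ft (f563354 IH) (Lpe (f563424 IH) (Lpr_cf (f581314 IH) (Lpr_df (f581776 IH) (Lpn (LP (LK LD1_c11 LD2_c39 LD3_c27))))))))))))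
theorem f581812 : Led Lsl_bf (LP (LK LD1_c9 LD2_c46 LD3_c21)) = (LP (LK LD1_c15 LD2_c4 LD3_c45)) :=
  Lgr Lrot156 (Lpr_gt (K40.f545415 IH) (Lpr_bf (f558510 IH) (Lpr_ct (K43.f562933 IH) (Lpr_gt (K43.f562930 IH) (Lpe (K38.f202301 IH) (Lpr_bt (K43.f562917 IH) (Lpe (K43.f562926 IH) (Lpr_ct (f452833 IH) (Lpr_gt (f581808 IH) (Lpe (f581806 IH) (Lpn (LP (LK LD1_c15 LD2_c4 LD3_c45)))))))))))))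
theorem f557723 : Led Lsl_ft (LP (LK LD1_c9 LD2_c50 LD3_c41)) = (LP (LK LD1_c15 LD2_c4 LD3_c45)) :=
  Lgr Lrot54 (Lpe (K41.f175589 IH) (Lpr_ff (K40.f557717 IH) (Lpe (K8.f160917 IH) (Lpn (LP (LK LD1_c15 LD2_c4 LD3_c45))))))
theorem f545757 : Led Lsl_bt (LP (LK LD1_c5 LD2_c0 LD3_c4)) = (LP (LK LD1_c9 LD2_c50 LD3_c41)) :=
  Lre_b IH (LK LD1_c5 LD2_c0 LD3_c4) (LK LD1_c9 LD2_c50 LD3_c41) Lrfl Lrfl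
theorem f581821 : Led Lsl_ft (LP (LK LD1_c9 LD2_c46 LD3_c21)) = (LP (LK LD1_c5 LD2_c0 LD3_c4)) :=
  Lgr Lrot75 (Lpr_bf (f581812 IH) (Lpe (f557723 IH) (Lpe (f545757 IH) (Lpn (LP (LK LD1_c5 LD2_c0 LD3_c4))))))
theorem f581825 : Led Lsl_ff (LP (LK LD1_c9 LD2_c46 LD3_c21)) = (LP (LK LD1_c5 LD2_c0 LD3_c4)) :=
  Lgr Lrot3 (Lpr_ft (f581821 IH) (Lpn (LP (LK LD1_c5 LD2_c0 LD3_c4))))
theorem f581829 : Led Lsl_at (LP (LK LD1_c9 LD2_c46 LD3_c21)) = (LP (LK LD1_c4 LD2_c58 LD3_c61)) :=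
  Lgr Lrot26 (Lpr_ff (f581825 IH) (Lpe (K41.f563957 IH) (Lpr_gt (K41.f424545 IH) (Lpn (LP (LK LD1_c4 LD2_c58 LD3_c61))))))
theorem f545420 : Led Lsl_et (LP (LK LD1_c17 LD2_c56 LD3_c21)) = (LP (LK LD1_c9 LD2_c46 LD3_c21)) :=
  Lre_e IH (LK LD1_c17 LD2_c56 LD3_c21) (LK LD1_c9 LD2_c46 LD3_c21) Lrfl Lrfl
theorem f539789 : Led Lsl_et (LP (LK LD1_c4 LD2_c58 LD3_c61)) = (LP (LK LD1_c9 LD2_c48 LD3_c23)) :=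
  Lre_e IH (LK LD1_c4 LD2_c58 LD3_c61) (LK LD1_c9 LD2_c48 LD3_c23) Lrfl Lrfl
theorem f581835 : Led Lsl_af (LP (LK LD1_c17 LD2_c56 LD3_c21)) = (LP (LK LD1_c9 LD2_c48 LD3_c23)) :=
  Lgr Lrot50 (Lpr_et (f545420 IH) (Lpr_at (f581829 IH) (Lpr_et (f539789 IH) (Lpn (LP (LK LD1_c9 LD2_c48 LD3_c23))))))
theorem f74976 : Led Lsl_dt (LP (LK LD1_c4 LD2_c58 LD3_c60)) = (LP (LK LD1_c9 LD2_c48 LD3_c23)) :=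
  Lre_d IH (LK LD1_c4 LD2_c58 LD3_c60) (LK LD1_c9 LD2_c48 LD3_c23) Lrfl Lrfl
theorem f74981 : Led Lsl_at (LP (LK LD1_c9 LD2_c47 LD3_c40)) = (LP (LK LD1_c4 LD2_c58 LD3_c60)) :=
  Lre_a IH (LK LD1_c9 LD2_c47 LD3_c40) (LK LD1_c4 LD2_c58 LD3_c60) Lrfl Lrfl
theorem f581839 : Led Lsl_dt (LP (LK LD1_c17 LD2_c56 LD3_c21)) = (LP (LK LD1_c9 LD2_c47 LD3_c40)) :=
  Lgr Lrot44 (Lpr_af (f581835 IH) (Lpe (f74976 IH) (Lpe (f74981 IH) (Lpn (LP (LK LD1_c9 LD2_c47 LD3_c40))))))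
theorem f581818 : Led Lsl_et (LP (LK LD1_c9 LD2_c46 LD3_c21)) = (LP (LK LD1_c17 LD2_c56 LD3_c21)) :=
  Lre_e IH (LK LD1_c9 LD2_c46 LD3_c21) (LK LD1_c17 LD2_c56 LD3_c21) Lrfl Lrfl
theorem f139268 : Led Lsl_et (LP (LK LD1_c9 LD2_c47 LD3_c40)) = (LP (LK LD1_c4 LD2_c58 LD3_c32)) :=
  Lre_e IH (LK LD1_c9 LD2_c47 LD3_c40) (LK LD1_c4 LD2_c58 LD3_c32) Lrfl Lrfl
theorem f581845 : Led Lsl_ef (LP (LK LD1_c4 LD2_c57 LD3_c43)) = (LP (LK LD1_c2 LD2_c27 LD3_c8)) :=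
  Lgr Lrot73 (Lpr_dt (K40.f100700 IH) (Lpr_et (f581818 IH) (Lpr_dt (f581839 IH) (Lpr_et (f139268 IH) (Lpr_dt (K6.f138899 IH) (Lpn (LP (LK LD1_c2 LD2_c27 LD3_c8))))))))
theorem f101583 : Led Lsl_gt (LP (LK LD1_c4 LD2_c58 LD3_c15)) = (LP (LK LD1_c9 LD2_c46 LD3_c24)) :=
  Lre_g IH (LK LD1_c4 LD2_c58 LD3_c15) (LK LD1_c9 LD2_c46 LD3_c24) Lrfl Lrfl
theorem f386654 : Led Lsl_dt (LP (LK LD1_c4 LD2_c57 LD3_c45)) = (LP (LK LD1_c2 LD2_c26 LD3_c43)) :=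
  Lre_d IH (LK LD1_c4 LD2_c57 LD3_c45) (LK LD1_c2 LD2_c26 LD3_c43) Lrfl Lrfl
theorem f386655 : Led Lsl_gt (LP (LK LD1_c9 LD2_c46 LD3_c24)) = (LP (LK LD1_c4 LD2_c57 LD3_c45)) :=
  Lre_g IH (LK LD1_c9 LD2_c46 LD3_c24) (LK LD1_c4 LD2_c57 LD3_c45) Lrfl Lrfl
theorem f564196 : Led Lsl_dt (LP (LK LD1_c8 LD2_c14 LD3_c49)) = (LP (LK LD1_c9 LD2_c46 LD3_c24)) :=
  Lgr Lrot57 (Lpr_gf (K39.f556073 IH) (Lpe (K39.f421054 IH) (Lpr_gt (K41.f564192 IH) (Lpe (K27.f386640 IH) (Lpr_gt (K27.f176772 IH) (Lpr_dt (K37.f386653 IH) (Lpe (K36.f172134 IH) (Lpe (f386654 IH) (Lpe (f386655 IH) (Lpn (LP (LK LD1_c9 LD2_c46 LD3_c24))))))))))))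
theorem f556372 : Led Lsl_et (LP (LK LD1_c8 LD2_c14 LD3_c49)) = (LP (LK LD1_c4 LD2_c7 LD3_c12)) :=
  Lre_e IH (LK LD1_c8 LD2_c14 LD3_c49) (LK LD1_c4 LD2_c7 LD3_c12) Lrfl Lrfl
theorem f581847 : Led Lsl_gt (LP (LK LD1_c4 LD2_c7 LD3_c12)) = (LP (LK LD1_c2 LD2_c24 LD3_c48)) :=
  Lgr Lrot131 (Lpe (f556372 IH) (Lpr_dt (f564196 IH) (Lpe (f101583 IH) (Lpe (K40.f72483 IH) (Lpe (K40.f76111 IH) (Lpr_ef (f581845 IH) (Lpr_dt (K6.f139132 IH) (Lpr_gf (K7.f150224 IH) (Lpr_df (K36.f499981 IH) (Lpqs (K36.f537287 IH) (Lpr_et (K11.f205121 IH) (Lpn (LP (LK LD1_c2 LD2_c24 LD3_c48))))))))))))))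
theorem f574875 : Led Lsl_bt (LP (LK LD1_c8 LD2_c12 LD3_c16)) = (LP (LK LD1_c4 LD2_c5 LD3_c48)) :=
  Lre_b IH (LK LD1_c8 LD2_c12 LD3_c16) (LK LD1_c4 LD2_c5 LD3_c48) Lrfl Lrfl
theorem f574876 : Led Lsl_at (LP (LK LD1_c4 LD2_c5 LD3_c48)) = (LP (LK LD1_c2 LD2_c0 LD3_c13)) :=
  Lre_a IH (LK LD1_c4 LD2_c5 LD3_c48) (LK LD1_c2 LD2_c0 LD3_c13) Lrfl Lrfl
theorem f574877 : Led Lsl_at (LP (LK LD1_c4 LD2_c5 LD3_c49)) = (LP (LK LD1_c4 LD2_c7 LD3_c9)) :=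
  Lgr Lrot67 (Lpe (K40.f541333 IH) (Lpe (f574876 IH) (Lpe (f574875 IH) (Lpr_af (K43.f574873 IH) (Lpe (K42.f55990 IH) (Lpn (LP (LK LD1_c4 LD2_c7 LD3_c9))))))))
theorem f581849 : Led Lsl_ft (LP (LK LD1_c4 LD2_c7 LD3_c12)) = (LP (LK LD1_c4 LD2_c5 LD3_c49)) :=
  Lgr Lrot2 (Lpr_gt (f581847 IH) (Lpr_gt (K36.f542640 IH) (Lpe (f574877 IH) (Lpn (LP (LK LD1_c4 LD2_c5 LD3_c49))))))
theorem f581883 : Led Lsl_ff (LP (LK LD1_c4 LD2_c7 LD3_c12)) = (LP (LK LD1_c4 LD2_c5 LD3_c49)) :=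
  Lgr Lrot3 (Lpr_ft (f581849 IH) (Lpn (LP (LK LD1_c4 LD2_c5 LD3_c49))))
theorem f581890 : Led Lsl_at (LP (LK LD1_c4 LD2_c7 LD3_c12)) = (LP (LK LD1_c4 LD2_c53 LD3_c51)) :=
  Lgr Lrot26 (Lpr_ff (f581883 IH) (Lpr_gt (K40.f559619 IH) (Lpr_gt (K40.f53228 IH) (Lpn (LP (LK LD1_c4 LD2_c53 LD3_c51))))))
theorem f581902 : Led Lsl_af (LP (LK LD1_c8 LD2_c14 LD3_c49)) = (LP (LK LD1_c6 LD2_c17 LD3_c12)) :=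
  Lgr Lrot50 (Lpr_et (f556372 IH) (Lpr_at (f581890 IH) (Lpe (K40.f563795 IH) (Lpn (LP (LK LD1_c6 LD2_c17 LD3_c12))))))
theorem f562501 : Led Lsl_df (LP (LK LD1_c6 LD2_c7 LD3_c53)) = (LP (LK LD1_c5 LD2_c53 LD3_c10)) :=
  Lgr Lrot18 (Lpr_at (K40.f427702 IH) (Lpr_dt (K41.f426323 IH) (Lpr_at (K40.f562497 IH) (Lpn (LP (LK LD1_c5 LD2_c53 LD3_c10))))))
theorem f539140 : Led Lsl_at (LP (LK LD1_c17 LD2_c54 LD3_c50)) = (LP (LK LD1_c9 LD2_c46 LD3_c25)) :=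
  Lre_a IH (LK LD1_c17 LD2_c54 LD3_c50) (LK LD1_c9 LD2_c46 LD3_c25) Lrfl Lrfl
theorem f539141 : Led Lsl_ft (LP (LK LD1_c9 LD2_c47 LD3_c21)) = (LP (LK LD1_c17 LD2_c54 LD3_c50)) :=
  Lre_f IH (LK LD1_c9 LD2_c47 LD3_c21) (LK LD1_c17 LD2_c54 LD3_c50) Lrfl Lrfl
theorem f539142 : Led Lsl_gt (LP (LK LD1_c9 LD2_c47 LD3_c21)) = (LP (LK LD1_c11 LD2_c32 LD3_c26)) :=
  Lgr Lrot5 (Lpr_ft (f539141 IH) (Lpr_at (f539140 IH) (Lpr_gf (K41.f539138 IH) (Lpn (LP (LK LD1_c11 LD2_c32 LD3_c26))))))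
theorem f72503 : Led Lsl_ct (LP (LK LD1_c4 LD2_c58 LD3_c15)) = (LP (LK LD1_c9 LD2_c47 LD3_c21)) :=
  Lre_c IH (LK LD1_c4 LD2_c58 LD3_c15) (LK LD1_c9 LD2_c47 LD3_c21) Lrfl Lrfl
theorem f564202 : Led Lsl_gf (LP (LK LD1_c6 LD2_c17 LD3_c9)) = (LP (LK LD1_c5 LD2_c47 LD3_c9)) :=
  Lgr Lrot147 (Lpe (K39.f421050 IH) (Lpr_gt (K41.f564192 IH) (Lpe (K41.f558441 IH) (Lpr_df (f562501 IH) (Lpe (K41.f539145 IH) (Lpe (f539142 IH) (Lpe (f72503 IH) (Lpe (K40.f72484 IH) (Lpr_df (K40.f72488 IH) (Lpn (LP (LK LD1_c5 LD2_c47 LD3_c9))))))))))))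
theorem f581910 : Led Lsl_ft (LP (LK LD1_c5 LD2_c47 LD3_c9)) = (LP (LK LD1_c6 LD2_c17 LD3_c12)) :=
  Lgr Lrot2 (Lpe (f564202 IH) (Lpe (K39.f556073 IH) (Lpr_af (f581902 IH) (Lpn (LP (LK LD1_c6 LD2_c17 LD3_c12))))))
theorem f581918 : Led Lsl_ff (LP (LK LD1_c5 LD2_c47 LD3_c9)) = (LP (LK LD1_c6 LD2_c17 LD3_c12)) :=
  Lgr Lrot3 (Lpr_ft (f581910 IH) (Lpn (LP (LK LD1_c6 LD2_c17 LD3_c12))))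
theorem f581926 : Led Lsl_at (LP (LK LD1_c5 LD2_c47 LD3_c9)) = (LP (LK LD1_c6 LD2_c17 LD3_c13)) :=
  Lgr Lrot26 (Lpr_ff (f581918 IH) (Lpr_gt (K40.f450409 IH) (Lpe (K41.f450415 IH) (Lpn (LP (LK LD1_c6 LD2_c17 LD3_c13))))))
theorem f581904 : Led Lsl_at (LP (LK LD1_c8 LD2_c14 LD3_c49)) = (LP (LK LD1_c6 LD2_c17 LD3_c12)) :=
  Lgr Lrot100 (Lpr_af (f581902 IH) (Lpn (LP (LK LD1_c6 LD2_c17 LD3_c12))))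
theorem f581936 : Led Lsl_ff (LP (LK LD1_c8 LD2_c14 LD3_c49)) = (LP (LK LD1_c6 LD2_c17 LD3_c13)) :=
  Lgr Lrot30 (Lpr_at (f581904 IH) (Lpe (f581918 IH) (Lpr_at (f581926 IH) (Lpn (LP (LK LD1_c6 LD2_c17 LD3_c13))))))
theorem f581946 : Led Lsl_ft (LP (LK LD1_c8 LD2_c14 LD3_c49)) = (LP (LK LD1_c6 LD2_c17 LD3_c13)) :=
  Lgr Lrot48 (Lpr_ff (f581936 IH) (Lpn (LP (LK LD1_c6 LD2_c17 LD3_c13))))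
theorem f563775 : Led Lsl_ef (LP (LK LD1_c4 LD2_c5 LD3_c49)) = (LP (LK LD1_c2 LD2_c49 LD3_c27)) :=
  Lgr Lrot88 (Lpr_et (K40.f563773 IH) (Lpn (LP (LK LD1_c2 LD2_c49 LD3_c27))))
theorem f581954 : Led Lsl_ff (LP (LK LD1_c2 LD2_c49 LD3_c27)) = (LP (LK LD1_c5 LD2_c37 LD3_c28)) :=
  Lgr Lrot72 (Lpe (f563775 IH) (Lpe (f581883 IH) (Lpr_et (K40.f556075 IH) (Lpr_ft (f581946 IH) (Lpr_et (K40.f558363 IH) (Lpn (LP (LK LD1_c5 LD2_c37 LD3_c28))))))))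
theorem f537925 : Led Lsl_dt (LP (LK LD1_c2 LD2_c45 LD3_c56)) = (LP (LK LD1_c5 LD2_c39 LD3_c58)) :=
  Lre_d IH (LK LD1_c2 LD2_c45 LD3_c56) (LK LD1_c5 LD2_c39 LD3_c58) Lrfl Lrfl
theorem f552516 : Led Lsl_gf (LP (LK LD1_c2 LD2_c45 LD3_c56)) = (LP (LK LD1_c5 LD2_c37 LD3_c28)) :=
  Lgr Lrot144 (Lpr_dt (f537925 IH) (Lpr_gt (K39.f552508 IH) (Lpr_dt (K39.f172498 IH) (Lpe (K31.f172431 IH) (Lpe (K39.f381404 IH) (Lpr_gf (K27.f381388 IH) (Lpe (K27.f165140 IH) (Lpe (K35.f165148 IH) (Lpe (K35.f289410 IH) (Lpn (LP (LK LD1_c5 LD2_c37 LD3_c28))))))))))))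
theorem f581962 : Led Lsl_at (LP (LK LD1_c2 LD2_c49 LD3_c27)) = (LP (LK LD1_c5 LD2_c37 LD3_c27)) :=
  Lgr Lrot26 (Lpr_ff (f581954 IH) (Lpe (f552516 IH) (Lpr_gt (K39.f552518 IH) (Lpn (LP (LK LD1_c5 LD2_c37 LD3_c27))))))
theorem f581970 : Led Lsl_af (LP (LK LD1_c4 LD2_c5 LD3_c49)) = (LP (LK LD1_c4 LD2_c7 LD3_c9)) :=
  Lgr Lrot50 (Lpr_et (K40.f563773 IH) (Lpr_at (f581962 IH) (Lpr_et (K36.f427540 IH) (Lpn (LP (LK LD1_c4 LD2_c7 LD3_c9))))))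
theorem f581976 : Led Lsl_ft (LP (LK LD1_c4 LD2_c53 LD3_c51)) = (LP (LK LD1_c4 LD2_c7 LD3_c9)) :=
  Lgr Lrot101 (Lpe (f581890 IH) (Lpr_ff (f581883 IH) (Lpr_af (f581970 IH) (Lpn (LP (LK LD1_c4 LD2_c7 LD3_c9))))))
theorem f302667 : Led Lsl_gt (LP (LK LD1_c4 LD2_c53 LD3_c51)) = (LP (LK LD1_c4 LD2_c53 LD3_c50)) :=
  Lgr Lrot46 (Lpe (K40.f53228 IH) (Lpr_ft (K27.f302663 IH) (Lpr_at (K27.f180678 IH) (Lpn (LP (LK LD1_c4 LD2_c53 LD3_c50))))))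
theorem f581978 : Led Lsl_gf (LP (LK LD1_c4 LD2_c5 LD3_c49)) = (LP (LK LD1_c4 LD2_c53 LD3_c50)) :=
  Lgr Lrot76 (Lpr_af (f581970 IH) (Lpe (f581976 IH) (Lpr_gt (f302667 IH) (Lpn (LP (LK LD1_c4 LD2_c53 LD3_c50))))))
theorem f56000 : Led Lsl_ct (LP (LK LD1_c4 LD2_c7 LD3_c12)) = (LP (LK LD1_c2 LD2_c0 LD3_c59)) :=
  Lre_c IH (LK LD1_c4 LD2_c7 LD3_c12) (LK LD1_c2 LD2_c0 LD3_c59) Lrfl Lrfl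
theorem f541697 : Led Lsl_ft (LP (LK LD1_c2 LD2_c0 LD3_c59)) = (LP (LK LD1_c4 LD2_c7 LD3_c7)) :=
  Lre_f IH (LK LD1_c2 LD2_c0 LD3_c59) (LK LD1_c4 LD2_c7 LD3_c7) Lrfl Lrfl
theorem f581888 : Led Lsl_ct (LP (LK LD1_c4 LD2_c7 LD3_c7)) = (LP (LK LD1_c4 LD2_c5 LD3_c49)) :=
  Lgr Lrot40 (Lpe (f541697 IH) (Lpe (f56000 IH) (Lpr_ff (f581883 IH) (Lpn (LP (LK LD1_c4 LD2_c5 LD3_c49))))))
theorem f302411 : Led Lsl_bf (LP (LK LD1_c2 LD2_c33 LD3_c6)) = (LP (LK LD1_c2 LD2_c30 LD3_c17)) :=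
  Lgr Lrot24 (Lpr_bt (K18.f302407 IH) (Lpn (LP (LK LD1_c2 LD2_c30 LD3_c17))))
theorem f495428 : Led Lsl_bt (LP (LK LD1_c2 LD2_c30 LD3_c33)) = K37.v1412 :=
  Lgr Lrot35 (Lpe (K27.f302669 IH) (Lpr_bf (f302411 IH) (Lpr_ff (K38.f495423 IH) (Lpn K37.v1412))))
theorem f571370 : Led Lsl_bt (LP (LK LD1_c3 LD2_c5 LD3_c9)) = (LP (LK LD1_c2 LD2_c30 LD3_c16)) :=
  Lgr Lrot127 (Lpr_bf (K42.f571368 IH) (Lpn (LP (LK LD1_c2 LD2_c30 LD3_c16))))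
theorem f552294 : Led Lsl_ct (LP (LK LD1_c4 LD2_c53 LD3_c49)) = (LP (LK LD1_c6 LD2_c7 LD3_c34)) :=
  Lgr Lrot59 (Lpr_cf (K39.f552288 IH) (Lpn (LP (LK LD1_c6 LD2_c7 LD3_c34))))
theorem f581982 : Led Lsl_bt (LP (LK LD1_c4 LD2_c7 LD3_c7)) = (LP (LK LD1_c4 LD2_c53 LD3_c53)) :=
  Lgr Lrot130 (Lpr_ct (f581888 IH) (Lpr_gf (f581978 IH) (Lpe (K27.f205139 IH) (Lpr_bt (f495428 IH) (Lpe (K37.f495424 IH) (Lpe (f571370 IH) (Lpe (K43.f546563 IH) (Lpe (K43.f575850 IH) (Lpe (f552294 IH) (Lpr_gf (K43.f288171 IH) (Lpn (LP (LK LD1_c4 LD2_c53 LD3_c53)))))))))))))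
theorem f581988 : Led Lsl_ff (LP (LK LD1_c4 LD2_c7 LD3_c11)) = (LP (LK LD1_c4 LD2_c53 LD3_c53)) :=
  Lgr Lrot25 (Lpr_bt (K42.f55872 IH) (Lpr_ft (f541697 IH) (Lpr_bt (f581982 IH) (Lpn (LP (LK LD1_c4 LD2_c53 LD3_c53))))))
theorem f581994 : Led Lsl_at (LP (LK LD1_c4 LD2_c7 LD3_c11)) = (LP (LK LD1_c4 LD2_c53 LD3_c54)) :=
  Lgr Lrot26 (Lpr_ff (f581988 IH) (Lpe (K43.f288171 IH) (Lpr_gt (K39.f288194 IH) (Lpn (LP (LK LD1_c4 LD2_c53 LD3_c54))))))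
theorem f582000 : Led Lsl_af (LP (LK LD1_c5 LD2_c49 LD3_c17)) = (LP (LK LD1_c9 LD2_c39 LD3_c19)) :=
  Lgr Lrot50 (Lpe (K42.f556069 IH) (Lpr_at (f581994 IH) (Lpr_et (K43.f552287 IH) (Lpn (LP (LK LD1_c9 LD2_c39 LD3_c19))))))
theorem f582010 : Led Lsl_ft (LP (LK LD1_c5 LD2_c49 LD3_c18)) = (LP (LK LD1_c9 LD2_c39 LD3_c19)) :=
  Lgr Lrot2 (Lpr_gt (K42.f176628 IH) (Lpr_gt (K39.f176629 IH) (Lpr_af (f582000 IH) (Lpn (LP (LK LD1_c9 LD2_c39 LD3_c19))))))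
theorem f582018 : Led Lsl_ff (LP (LK LD1_c5 LD2_c49 LD3_c18)) = (LP (LK LD1_c9 LD2_c39 LD3_c19)) :=
  Lgr Lrot3 (Lpr_ft (f582010 IH) (Lpn (LP (LK LD1_c9 LD2_c39 LD3_c19))))
theorem f564231 : Led Lsl_bf (LP (LK LD1_c8 LD2_c51 LD3_c55)) = (LP (LK LD1_c9 LD2_c44 LD3_c36)) :=
  Lgr Lrot96 (Lpr_et (K12.f198037 IH) (Lpr_bt (K41.f211722 IH) (Lpr_et (K41.f564229 IH) (Lpn (LP (LK LD1_c9 LD2_c44 LD3_c36))))))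
theorem f575937 : Led Lsl_gt (LP (LK LD1_c9 LD2_c39 LD3_c19)) = (LP (LK LD1_c5 LD2_c38 LD3_c38)) :=
  Lgr Lrot149 (Lpr_cf (K43.f575935 IH) (Lpe (K43.f97177 IH) (Lpe (K42.f97166 IH) (Lpr_ct (K34.f97167 IH) (Lpr_gf (K43.f575903 IH) (Lpe (K43.f98404 IH) (Lpe (K43.f569871 IH) (Lpe (K10.f198030 IH) (Lpr_bf (f564231 IH) (Lpe (K42.f564210 IH) (Lpn (LP (LK LD1_c5 LD2_c38 LD3_c38)))))))))))))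
theorem f582026 : Led Lsl_at (LP (LK LD1_c5 LD2_c49 LD3_c18)) = (LP (LK LD1_c6 LD2_c15 LD3_c28)) :=
  Lgr Lrot26 (Lpr_ff (f582018 IH) (Lpr_gt (f575937 IH) (Lpr_gt (K41.f564206 IH) (Lpn (LP (LK LD1_c6 LD2_c15 LD3_c28))))))
theorem f582002 : Led Lsl_at (LP (LK LD1_c5 LD2_c49 LD3_c17)) = (LP (LK LD1_c9 LD2_c39 LD3_c19)) :=
  Lgr Lrot100 (Lpr_af (f582000 IH) (Lpn (LP (LK LD1_c9 LD2_c39 LD3_c19))))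
theorem f582038 : Led Lsl_ff (LP (LK LD1_c5 LD2_c49 LD3_c17)) = (LP (LK LD1_c6 LD2_c15 LD3_c28)) :=
  Lgr Lrot30 (Lpr_at (f582002 IH) (Lpe (f582018 IH) (Lpr_at (f582026 IH) (Lpn (LP (LK LD1_c6 LD2_c15 LD3_c28))))))
theorem f582046 : Led Lsl_ft (LP (LK LD1_c5 LD2_c49 LD3_c17)) = (LP (LK LD1_c6 LD2_c15 LD3_c28)) :=
  Lgr Lrot48 (Lpr_ff (f582038 IH) (Lpn (LP (LK LD1_c6 LD2_c15 LD3_c28))))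
theorem f548966 : Led Lsl_dt (LP (LK LD1_c12 LD2_c5 LD3_c38)) = (LP (LK LD1_c21 LD2_c11 LD3_c22)) :=
  Lre_d IH (LK LD1_c12 LD2_c5 LD3_c38) (LK LD1_c21 LD2_c11 LD3_c22) Lrfl Lrfl
theorem f582028 : Led Lsl_af (LP (LK LD1_c5 LD2_c49 LD3_c18)) = (LP (LK LD1_c6 LD2_c15 LD3_c28)) :=
  Lgr Lrot0 (Lpr_at (f582026 IH) (Lpn (LP (LK LD1_c6 LD2_c15 LD3_c28))))
theorem f569296 : Led Lsl_cf (LP (LK LD1_c17 LD2_c1 LD3_c39)) = (LP (LK LD1_c21 LD2_c10 LD3_c25)) :=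
  Lgr Lrot11 (Lpr_ct (K42.f569285 IH) (Lpn (LP (LK LD1_c21 LD2_c10 LD3_c25))))
theorem f549761 : Led Lsl_dt (LP (LK LD1_c29 LD2_c52 LD3_c42)) = (LP (LK LD1_c21 LD2_c10 LD3_c25)) :=
  Lre_d IH (LK LD1_c29 LD2_c52 LD3_c42) (LK LD1_c21 LD2_c10 LD3_c25) Lrfl Lrfl
theorem f582052 : Led Lsl_ct (LP (LK LD1_c21 LD2_c11 LD3_c22)) = (LP (LK LD1_c29 LD2_c52 LD3_c42)) :=
  Lgr Lrot41 (Lpe (f548966 IH) (Lpe (K42.f422788 IH) (Lpr_df (K39.f548964 IH) (Lpr_ft (f582046 IH) (Lpe (f582028 IH) (Lpe (K42.f176690 IH) (Lpe (K42.f569276 IH) (Lpr_cf (f569296 IH) (Lpe (f549761 IH) (Lpn (LP (LK LD1_c29 LD2_c52 LD3_c42))))))))))))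
theorem f559916 : Led Lsl_dt (LP (LK LD1_c21 LD2_c10 LD3_c25)) = (LP (LK LD1_c29 LD2_c52 LD3_c42)) :=
  Lre_d IH (LK LD1_c21 LD2_c10 LD3_c25) (LK LD1_c29 LD2_c52 LD3_c42) Lrfl Lrfl
theorem f577089 : Led Lsl_gt (LP (LK LD1_c29 LD2_c52 LD3_c42)) = (LP (LK LD1_c26 LD2_c56 LD3_c28)) :=
  Lgr Lrot49 (Lpe (f559916 IH) (Lpe (K42.f559914 IH) (Lpe (K38.f418479 IH) (Lpr_gt (f577087 IH) (Lpr_dt (K43.f574698 IH) (Lpe (K43.f574692 IH) (Lpr_dt (K40.f559118 IH) (Lpe (K43.f559128 IH) (Lpe (K43.f559129 IH) (Lpn (LP (LK LD1_c26 LD2_c56 LD3_c28))))))))))))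
theorem f577040 : Led Lsl_ct (LP (LK LD1_c26 LD2_c56 LD3_c28)) = (LP (LK LD1_c17 LD2_c1 LD3_c59)) :=
  Lgr Lrot59 (Lpr_cf (K43.f577035 IH) (Lpn (LP (LK LD1_c17 LD2_c1 LD3_c59))))
theorem f562945 : Led Lsl_ct (LP (LK LD1_c9 LD2_c48 LD3_c20)) = (LP (LK LD1_c4 LD2_c58 LD3_c59)) :=
  Lre_c IH (LK LD1_c9 LD2_c48 LD3_c20) (LK LD1_c4 LD2_c58 LD3_c59) Lrfl Lrfl
theorem f202647 : Led Lsl_ct (LP (LK LD1_c6 LD2_c16 LD3_c26)) = (LP (LK LD1_c12 LD2_c10 LD3_c2)) :=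
  Lre_c IH (LK LD1_c6 LD2_c16 LD3_c26) (LK LD1_c12 LD2_c10 LD3_c2) Lrfl Lrfl
theorem f563711 : Led Lsl_gt (LP (LK LD1_c12 LD2_c10 LD3_c2)) = (LP (LK LD1_c9 LD2_c48 LD3_c20)) :=
  Lgr Lrot150 (Lpe (f202647 IH) (Lpr_gf (K42.f202645 IH) (Lpe (K42.f71235 IH) (Lpr_gt (K39.f71482 IH) (Lpr_ct (K40.f71483 IH) (Lpr_gt (K40.f563709 IH) (Lpr_ct (K6.f101715 IH) (Lpe (K43.f101745 IH) (Lpe (f562945 IH) (Lpn (LP (LK LD1_c9 LD2_c48 LD3_c20))))))))))))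
theorem f202664 : Led Lsl_dt (LP (LK LD1_c21 LD2_c15 LD3_c52)) = (LP (LK LD1_c12 LD2_c10 LD3_c2)) :=
  Lre_d IH (LK LD1_c21 LD2_c15 LD3_c52) (LK LD1_c12 LD2_c10 LD3_c2) Lrfl Lrfl
theorem f582058 : Led Lsl_gf (LP (LK LD1_c21 LD2_c11 LD3_c22)) = (LP (LK LD1_c21 LD2_c15 LD3_c52)) :=
  Lgr Lrot147 (Lpr_ct (f582052 IH) (Lpr_gt (f577089 IH) (Lpr_ct (f577040 IH) (Lpe (K43.f562940 IH) (Lpe (K43.f562933 IH) (Lpe (K43.f138838 IH) (Lpe (f562945 IH) (Lpe (f563711 IH) (Lpe (f202664 IH) (Lpn (LP (LK LD1_c21 LD2_c15 LD3_c52))))))))))))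
theorem f539923 : Led Lsl_dt (LP (LK LD1_c21 LD2_c11 LD3_c22)) = (LP (LK LD1_c12 LD2_c5 LD3_c38)) :=
  Lre_d IH (LK LD1_c21 LD2_c11 LD3_c22) (LK LD1_c12 LD2_c5 LD3_c38) Lrfl Lrfl
theorem f556392 : Led Lsl_ct (LP (LK LD1_c21 LD2_c15 LD3_c52)) = (LP (LK LD1_c29 LD2_c55 LD3_c47)) :=
  Lre_c IH (LK LD1_c21 LD2_c15 LD3_c52) (LK LD1_c29 LD2_c55 LD3_c47) Lrfl Lrfl
theorem f549675 : Led Lsl_bt (LP (LK LD1_c6 LD2_c13 LD3_c26)) = (LP (LK LD1_c12 LD2_c5 LD3_c39)) :=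
  Lre_b IH (LK LD1_c6 LD2_c13 LD3_c26) (LK LD1_c12 LD2_c5 LD3_c39) Lrfl Lrfl
theorem f101572 : Led Lsl_ct (LP (LK LD1_c6 LD2_c13 LD3_c26)) = (LP (LK LD1_c12 LD2_c5 LD3_c40)) :=
  Lre_c IH (LK LD1_c6 LD2_c13 LD3_c26) (LK LD1_c12 LD2_c5 LD3_c40) Lrfl Lrfl
theorem f580682 : Led Lsl_gf (LP (LK LD1_c12 LD2_c5 LD3_c40)) = (LP (LK LD1_c9 LD2_c8 LD3_c56)) :=
  Lgr Lrot126 (Lpe (f101572 IH) (Lpr_bt (f549675 IH) (Lpr_gt (f573309 IH) (Lpe (K38.f545284 IH) (Lpr_gt (f580676 IH) (Lpe (f541506 IH) (Lpe (f580665 IH) (Lpe (K42.f548235 IH) (Lpr_bf (K42.f548179 IH) (Lpr_ct (K42.f500556 IH) (Lpn (LP (LK LD1_c9 LD2_c8 LD3_c56)))))))))))))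
theorem f569217 : Led Lsl_dt (LP (LK LD1_c12 LD2_c5 LD3_c40)) = (LP (LK LD1_c21 LD2_c11 LD3_c23)) :=
  Lre_d IH (LK LD1_c12 LD2_c5 LD3_c40) (LK LD1_c21 LD2_c11 LD3_c23) Lrfl Lrfl
theorem f202648 : Led Lsl_ct (LP (LK LD1_c12 LD2_c10 LD3_c2)) = (LP (LK LD1_c6 LD2_c16 LD3_c26)) :=
  Lre_c IH (LK LD1_c12 LD2_c10 LD3_c2) (LK LD1_c6 LD2_c16 LD3_c26) Lrfl Lrfl
theorem f580685 : Led Lsl_gt (LP (LK LD1_c21 LD2_c11 LD3_c23)) = (LP (LK LD1_c21 LD2_c15 LD3_c52)) :=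
  Lgr Lrot49 (Lpe (f569217 IH) (Lpr_gf (f580682 IH) (Lpe (K42.f500556 IH) (Lpr_gt (K42.f549096 IH) (Lpr_dt (K42.f172600 IH) (Lpe (K39.f556352 IH) (Lpr_dt (K39.f202622 IH) (Lpe (f202648 IH) (Lpe (f202664 IH) (Lpn (LP (LK LD1_c21 LD2_c15 LD3_c52))))))))))))
theorem f569216 : Led Lsl_dt (LP (LK LD1_c21 LD2_c11 LD3_c23)) = (LP (LK LD1_c12 LD2_c5 LD3_c40)) :=
  Lre_d IH (LK LD1_c21 LD2_c11 LD3_c23) (LK LD1_c12 LD2_c5 LD3_c40) Lrfl Lrfl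
theorem f138515 : Led Lsl_ct (LP (LK LD1_c9 LD2_c8 LD3_c54)) = (LP (LK LD1_c4 LD2_c36 LD3_c22)) :=
  Lre_c IH (LK LD1_c9 LD2_c8 LD3_c54) (LK LD1_c4 LD2_c36 LD3_c22) Lrfl Lrfl
theorem f565089 : Led Lsl_gt (LP (LK LD1_c12 LD2_c5 LD3_c40)) = (LP (LK LD1_c9 LD2_c8 LD3_c54)) :=
  Lgr Lrot150 (Lpe (f101572 IH) (Lpe (K40.f100539 IH) (Lpe (K7.f100505 IH) (Lpr_gt (K38.f100553 IH) (Lpr_ct (K41.f101565 IH) (Lpr_gt (K41.f565083 IH) (Lpr_ct (K37.f198277 IH) (Lpe (K42.f538421 IH) (Lpe (f138515 IH) (Lpn (LP (LK LD1_c9 LD2_c8 LD3_c54))))))))))))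
theorem f580689 : Led Lsl_gf (LP (LK LD1_c27 LD2_c39 LD3_c21)) = (LP (LK LD1_c29 LD2_c55 LD3_c47)) :=
  Lgr Lrot104 (Lpr_ct (K42.f569212 IH) (Lpe (K42.f138493 IH) (Lpe (K42.f138492 IH) (Lpe (K35.f138489 IH) (Lpe (f138515 IH) (Lpe (f565089 IH) (Lpe (f569216 IH) (Lpr_gt (f580685 IH) (Lpr_ct (f556392 IH) (Lpn (LP (LK LD1_c29 LD2_c55 LD3_c47))))))))))))
theorem f547503 : Led Lsl_ct (LP (LK LD1_c17 LD2_c1 LD3_c40)) = (LP (LK LD1_c9 LD2_c8 LD3_c52)) :=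
  Lre_c IH (LK LD1_c17 LD2_c1 LD3_c40) (LK LD1_c9 LD2_c8 LD3_c52) Lrfl Lrfl
theorem f549098 : Led Lsl_gf (LP (LK LD1_c17 LD2_c1 LD3_c40)) = (LP (LK LD1_c17 LD2_c53 LD3_c52)) :=
  Lgr Lrot104 (Lpr_ct (f547503 IH) (Lpe (K42.f549023 IH) (Lpe (K37.f202304 IH) (Lpe (K35.f71468 IH) (Lpe (K41.f138514 IH) (Lpe (K39.f112408 IH) (Lpe (K43.f549074 IH) (Lpr_gt (K38.f549094 IH) (Lpr_ct (K42.f210413 IH) (Lpn (LP (LK LD1_c17 LD2_c53 LD3_c52))))))))))))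
theorem f582062 : Led Lsl_df (LP (LK LD1_c26 LD2_c56 LD3_c33)) = (LP (LK LD1_c17 LD2_c1 LD3_c40)) :=
  Lgr Lrot174 (Lpe (K43.f579397 IH) (Lpe (K43.f547501 IH) (Lpr_gf (K42.f556745 IH) (Lpe (f539923 IH) (Lpr_gf (f582058 IH) (Lpr_ct (f556392 IH) (Lpe (f580689 IH) (Lpr_dt (K42.f227540 IH) (Lpe (f549098 IH) (Lpn (LP (LK LD1_c17 LD2_c1 LD3_c40))))))))))))
theorem f202663 : Led Lsl_ct (LP (LK LD1_c29 LD2_c55 LD3_c47)) = (LP (LK LD1_c21 LD2_c15 LD3_c52)) :=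
  Lre_c IH (LK LD1_c29 LD2_c55 LD3_c47) (LK LD1_c21 LD2_c15 LD3_c52) Lrfl Lrfl
theorem f582070 : Led Lsl_cf (LP (LK LD1_c26 LD2_c56 LD3_c33)) = (LP (LK LD1_c17 LD2_c1 LD3_c49)) :=
  Lgr Lrot14 (Lpr_df (f582062 IH) (Lpr_gf (f549098 IH) (Lpe (K42.f227540 IH) (Lpr_gf (f580689 IH) (Lpr_ct (f202663 IH) (Lpe (f582058 IH) (Lpr_dt (f539923 IH) (Lpe (K42.f556745 IH) (Lpr_dt (K43.f547501 IH) (Lpn (LP (LK LD1_c17 LD2_c1 LD3_c49))))))))))))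
theorem f582072 : Led Lsl_gf (LP (LK LD1_c17 LD2_c1 LD3_c49)) = (LP (LK LD1_c21 LD2_c11 LD3_c14)) :=
  Lgr Lrot104 (Lpe (f582070 IH) (Lpr_df (f582062 IH) (Lpe (K42.f549100 IH) (Lpe (K42.f569273 IH) (Lpr_cf (f569296 IH) (Lpe (K42.f559914 IH) (Lpe (K38.f549026 IH) (Lpe (K42.f559929 IH) (Lpe (K42.f569316 IH) (Lpn (LP (LK LD1_c21 LD2_c11 LD3_c14))))))))))))
theorem f549766 : Led Lsl_dt (LP (LK LD1_c26 LD2_c55 LD3_c51)) = (LP (LK LD1_c17 LD2_c0 LD3_c49)) :=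
  Lre_d IH (LK LD1_c26 LD2_c55 LD3_c51) (LK LD1_c17 LD2_c0 LD3_c49) Lrfl Lrfl
theorem f569173 : Led Lsl_at (LP (LK LD1_c17 LD2_c1 LD3_c49)) = (LP (LK LD1_c26 LD2_c55 LD3_c51)) :=
  Lgr Lrot51 (Lpe (K43.f547501 IH) (Lpr_af (K42.f569167 IH) (Lpe (f549766 IH) (Lpn (LP (LK LD1_c26 LD2_c55 LD3_c51))))))
theorem f569176 : Led Lsl_af (LP (LK LD1_c17 LD2_c1 LD3_c49)) = (LP (LK LD1_c26 LD2_c55 LD3_c51)) :=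
  Lgr Lrot0 (Lpr_at (f569173 IH) (Lpn (LP (LK LD1_c26 LD2_c55 LD3_c51))))
theorem f569149 : Led Lsl_ff (LP (LK LD1_c9 LD2_c8 LD3_c54)) = (LP (LK LD1_c17 LD2_c0 LD3_c49)) :=
  Lgr Lrot23 (Lpr_ct (f138515 IH) (Lpr_ft (K42.f569146 IH) (Lpr_ct (K42.f198499 IH) (Lpn (LP (LK LD1_c17 LD2_c0 LD3_c49))))))
theorem f556380 : Led Lsl_dt (LP (LK LD1_c9 LD2_c8 LD3_c54)) = (LP (LK LD1_c17 LD2_c1 LD3_c45)) :=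
  Lre_d IH (LK LD1_c9 LD2_c8 LD3_c54) (LK LD1_c17 LD2_c1 LD3_c45) Lrfl Lrfl
theorem f569154 : Led Lsl_ft (LP (LK LD1_c17 LD2_c1 LD3_c45)) = (LP (LK LD1_c26 LD2_c55 LD3_c51)) :=
  Lgr Lrot54 (Lpe (f556380 IH) (Lpr_ff (f569149 IH) (Lpe (f549766 IH) (Lpn (LP (LK LD1_c26 LD2_c55 LD3_c51))))))
theorem f582076 : Led Lsl_gt (LP (LK LD1_c17 LD2_c1 LD3_c45)) = (LP (LK LD1_c21 LD2_c11 LD3_c14)) :=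
  Lgr Lrot5 (Lpr_ft (f569154 IH) (Lpe (f569176 IH) (Lpr_gf (f582072 IH) (Lpn (LP (LK LD1_c21 LD2_c11 LD3_c14))))))
theorem f210647 : Led Lsl_ct (LP (LK LD1_c9 LD2_c8 LD3_c55)) = (LP (LK LD1_c17 LD2_c1 LD3_c46)) :=
  Lre_c IH (LK LD1_c9 LD2_c8 LD3_c55) (LK LD1_c17 LD2_c1 LD3_c46) Lrfl Lrfl
theorem f420774 : Led Lsl_dt (LP (LK LD1_c17 LD2_c1 LD3_c20)) = (LP (LK LD1_c9 LD2_c8 LD3_c36)) :=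
  Lre_d IH (LK LD1_c17 LD2_c1 LD3_c20) (LK LD1_c9 LD2_c8 LD3_c36) Lrfl Lrfl
theorem f420775 : Led Lsl_gt (LP (LK LD1_c26 LD2_c56 LD3_c34)) = (LP (LK LD1_c17 LD2_c1 LD3_c20)) :=
  Lre_g IH (LK LD1_c26 LD2_c56 LD3_c34) (LK LD1_c17 LD2_c1 LD3_c20) Lrfl Lrfl
theorem f210644 : Led Lsl_bf (LP (LK LD1_c16 LD2_c26 LD3_c0)) = (LP (LK LD1_c9 LD2_c8 LD3_c55)) :=
  Lgr Lrot24 (Lpr_bt (K42.f210639 IH) (Lpn (LP (LK LD1_c9 LD2_c8 LD3_c55))))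
theorem f571355 : Led Lsl_gt (LP (LK LD1_c9 LD2_c8 LD3_c32)) = (LP (LK LD1_c13 LD2_c31 LD3_c16)) :=
  Lgr Lrot189 (Lpe (K38.f112751 IH) (Lpe (K38.f112748 IH) (Lpr_ct (K41.f138514 IH) (Lpr_gt (K35.f71468 IH) (Lpr_dt (K35.f71469 IH) (Lpr_gt (K35.f138489 IH) (Lpe (K42.f138494 IH) (Lpr_ct (K42.f571339 IH) (Lpe (K43.f571341 IH) (Lpn (LP (LK LD1_c13 LD2_c31 LD3_c16))))))))))))
theorem f574764 : Led Lsl_gf (LP (LK LD1_c17 LD2_c1 LD3_c46)) = (LP (LK LD1_c22 LD2_c52 LD3_c19)) :=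
  Lgr Lrot129 (Lpe (f210647 IH) (Lpe (f210644 IH) (Lpr_gt (K42.f570545 IH) (Lpr_bf (K43.f574754 IH) (Lpr_ct (K42.f406995 IH) (Lpr_gt (K42.f553482 IH) (Lpe (K40.f99763 IH) (Lpe (K42.f559872 IH) (Lpr_gt (f571355 IH) (Lpr_ct (K42.f565054 IH) (Lpn (LP (LK LD1_c22 LD2_c52 LD3_c19)))))))))))))
theorem f575867 : Led Lsl_df (LP (LK LD1_c26 LD2_c56 LD3_c34)) = (LP (LK LD1_c17 LD2_c1 LD3_c46)) :=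
  Lgr Lrot153 (Lpr_gt (f420775 IH) (Lpr_dt (f420774 IH) (Lpe (K39.f420776 IH) (Lpe (K39.f202188 IH) (Lpe (K39.f112408 IH) (Lpe (K43.f549074 IH) (Lpr_gf (K43.f575865 IH) (Lpe (K42.f565053 IH) (Lpe (f574764 IH) (Lpn (LP (LK LD1_c17 LD2_c1 LD3_c46))))))))))))
theorem f556379 : Led Lsl_dt (LP (LK LD1_c17 LD2_c1 LD3_c45)) = (LP (LK LD1_c9 LD2_c8 LD3_c54)) :=
  Lre_d IH (LK LD1_c17 LD2_c1 LD3_c45) (LK LD1_c9 LD2_c8 LD3_c54) Lrfl Lrfl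
theorem f582066 : Led Lsl_ct (LP (LK LD1_c26 LD2_c56 LD3_c34)) = (LP (LK LD1_c17 LD2_c1 LD3_c45)) :=
  Lgr Lrot176 (Lpr_df (f575867 IH) (Lpe (f210647 IH) (Lpe (K42.f210664 IH) (Lpe (K38.f210637 IH) (Lpe (K42.f210642 IH) (Lpe (K42.f548183 IH) (Lpe (K43.f548188 IH) (Lpr_cf (K43.f579397 IH) (Lpr_df (f582062 IH) (Lpe (K42.f549100 IH) (Lpe (K42.f549023 IH) (Lpe (K37.f202304 IH) (Lpe (K42.f538421 IH) (Lpe (f138515 IH) (Lpe (f556379 IH) (Lpn (LP (LK LD1_c17 LD2_c1 LD3_c45))))))))))))))))))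
theorem f540573 : Led Lsl_gt (LP (LK LD1_c17 LD2_c2 LD3_c3)) = (LP (LK LD1_c26 LD2_c56 LD3_c34)) :=
  Lre_g IH (LK LD1_c17 LD2_c2 LD3_c3) (LK LD1_c26 LD2_c56 LD3_c34) Lrfl Lrfl
theorem f540574 : Led Lsl_dt (LP (LK LD1_c17 LD2_c2 LD3_c3)) = (LP (LK LD1_c26 LD2_c55 LD3_c45)) :=
  Lre_d IH (LK LD1_c17 LD2_c2 LD3_c3) (LK LD1_c26 LD2_c55 LD3_c45) Lrfl Lrfl
theorem f540508 : Led Lsl_ct (LP (LK LD1_c17 LD2_c1 LD3_c18)) = (LP (LK LD1_c14 LD2_c25 LD3_c35)) :=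
  Lgr Lrot59 (Lpr_cf (K39.f540501 IH) (Lpn (LP (LK LD1_c14 LD2_c25 LD3_c35))))
theorem f569318 : Led Lsl_ct (LP (LK LD1_c21 LD2_c11 LD3_c14)) = (LP (LK LD1_c29 LD2_c52 LD3_c46)) :=
  Lgr Lrot59 (Lpr_cf (K42.f569316 IH) (Lpn (LP (LK LD1_c29 LD2_c52 LD3_c46))))
theorem f582089 : Led Lsl_gt (LP (LK LD1_c14 LD2_c25 LD3_c35)) = (LP (LK LD1_c12 LD2_c5 LD3_c35)) :=
  Lgr Lrot150 (Lpe (f540508 IH) (Lpe (K41.f540517 IH) (Lpe (f540574 IH) (Lpr_gt (f540573 IH) (Lpr_ct (f582066 IH) (Lpr_gt (f582076 IH) (Lpr_ct (f569318 IH) (Lpe (K42.f569320 IH) (Lpe (K42.f565402 IH) (Lpn (LP (LK LD1_c12 LD2_c5 LD3_c35))))))))))))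
theorem f582094 : Led Lsl_ef (LP (LK LD1_c4 LD2_c0 LD3_c44)) = (LP (LK LD1_c6 LD2_c13 LD3_c23)) :=
  Lgr Lrot114 (Lpe (K7.f149406 IH) (Lpr_ef (K43.f551579 IH) (Lpr_dt (K30.f181306 IH) (Lpe (K42.f571114 IH) (Lpe (K40.f60805 IH) (Lpr_et (K42.f559774 IH) (Lpr_gt (K42.f569095 IH) (Lpr_dt (K37.f540511 IH) (Lpr_gt (f582089 IH) (Lpe (K42.f565087 IH) (Lpn (LP (LK LD1_c6 LD2_c13 LD3_c23)))))))))))))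
theorem f149416 : Led Lsl_et (LP (LK LD1_c6 LD2_c15 LD3_c40)) = (LP (LK LD1_c12 LD2_c9 LD3_c7)) :=
  Lre_e IH (LK LD1_c6 LD2_c15 LD3_c40) (LK LD1_c12 LD2_c9 LD3_c7) Lrfl Lrfl
theorem f569342 : Led Lsl_et (LP (LK LD1_c21 LD2_c11 LD3_c18)) = (LP (LK LD1_c12 LD2_c5 LD3_c35)) :=
  Lre_e IH (LK LD1_c21 LD2_c11 LD3_c18) (LK LD1_c12 LD2_c5 LD3_c35) Lrfl Lrfl
theorem f582096 : Led Lsl_dt (LP (LK LD1_c12 LD2_c9 LD3_c7)) = (LP (LK LD1_c21 LD2_c11 LD3_c18)) :=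
  Lgr Lrot77 (Lpe (f149416 IH) (Lpr_df (K8.f149412 IH) (Lpr_ef (f582094 IH) (Lpe (K42.f556619 IH) (Lpe (f569342 IH) (Lpn (LP (LK LD1_c21 LD2_c11 LD3_c18))))))))
theorem f582102 : Led Lsl_df (LP (LK LD1_c12 LD2_c9 LD3_c7)) = (LP (LK LD1_c21 LD2_c11 LD3_c18)) :=
  Lgr Lrot38 (Lpr_dt (f582096 IH) (Lpn (LP (LK LD1_c21 LD2_c11 LD3_c18))))
theorem f132874 : Led Lsl_et (LP (LK LD1_c12 LD2_c9 LD3_c7)) = (LP (LK LD1_c6 LD2_c15 LD3_c40)) :=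
  Lre_e IH (LK LD1_c12 LD2_c9 LD3_c7) (LK LD1_c6 LD2_c15 LD3_c40) Lrfl Lrfl
theorem f149435 : Led Lsl_et (LP (LK LD1_c4 LD2_c0 LD3_c46)) = (LP (LK LD1_c8 LD2_c2 LD3_c19)) :=
  Lre_e IH (LK LD1_c4 LD2_c0 LD3_c46) (LK LD1_c8 LD2_c2 LD3_c19) Lrfl Lrfl
theorem f149436 : Led Lsl_bf (LP (LK LD1_c12 LD2_c9 LD3_c7)) = (LP (LK LD1_c8 LD2_c2 LD3_c19)) :=
  Lgr Lrot96 (Lpr_et (f132874 IH) (Lpr_bt (K39.f149431 IH) (Lpr_et (f149435 IH) (Lpn (LP (LK LD1_c8 LD2_c2 LD3_c19))))))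
theorem f149438 : Led Lsl_bt (LP (LK LD1_c12 LD2_c9 LD3_c7)) = (LP (LK LD1_c8 LD2_c2 LD3_c19)) :=
  Lgr Lrot127 (Lpr_bf (f149436 IH) (Lpn (LP (LK LD1_c8 LD2_c2 LD3_c19))))
theorem f149441 : Led Lsl_dt (LP (LK LD1_c8 LD2_c2 LD3_c19)) = (LP (LK LD1_c15 LD2_c8 LD3_c0)) :=
  Lre_d IH (LK LD1_c8 LD2_c2 LD3_c19) (LK LD1_c15 LD2_c8 LD3_c0) Lrfl Lrfl
theorem f582104 : Led Lsl_bt (LP (LK LD1_c15 LD2_c8 LD3_c0)) = (LP (LK LD1_c21 LD2_c11 LD3_c18)) :=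
  Lgr Lrot95 (Lpe (f149441 IH) (Lpe (f149438 IH) (Lpr_df (f582102 IH) (Lpn (LP (LK LD1_c21 LD2_c11 LD3_c18))))))
theorem f424958 : Led Lsl_et (LP (LK LD1_c8 LD2_c2 LD3_c20)) = (LP (LK LD1_c15 LD2_c8 LD3_c0)) :=
  Lre_e IH (LK LD1_c8 LD2_c2 LD3_c20) (LK LD1_c15 LD2_c8 LD3_c0) Lrfl Lrfl
theorem f582106 : Led Lsl_bf (LP (LK LD1_c8 LD2_c2 LD3_c20)) = (LP (LK LD1_c12 LD2_c5 LD3_c35)) :=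
  Lgr Lrot96 (Lpr_et (f424958 IH) (Lpr_bt (f582104 IH) (Lpr_et (f569342 IH) (Lpn (LP (LK LD1_c12 LD2_c5 LD3_c35))))))
theorem f420752 : Led Lsl_bt (LP (LK LD1_c6 LD2_c9 LD3_c17)) = (LP (LK LD1_c9 LD2_c8 LD3_c37)) :=
  Lgr Lrot95 (Lpe (K1.f27252 IH) (Lpr_bf (K39.f420737 IH) (Lpe (K43.f71454 IH) (Lpn (LP (LK LD1_c9 LD2_c8 LD3_c37))))))
theorem f582110 : Led Lsl_gt (LP (LK LD1_c8 LD2_c2 LD3_c20)) = (LP (LK LD1_c9 LD2_c47 LD3_c9)) :=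
  Lgr Lrot164 (Lpr_bf (f582106 IH) (Lpr_ct (K42.f565402 IH) (Lpr_gf (K42.f569326 IH) (Lpe (K43.f424555 IH) (Lpe (K38.f424552 IH) (Lpe (f420752 IH) (Lpe (K1.f38375 IH) (Lpe (K18.f272636 IH) (Lpr_cf (K18.f227801 IH) (Lpr_bt (K43.f227788 IH) (Lpn (LP (LK LD1_c9 LD2_c47 LD3_c9)))))))))))))
theorem f227794 : Led Lsl_at (LP (LK LD1_c17 LD2_c57 LD3_c28)) = (LP (LK LD1_c9 LD2_c47 LD3_c9)) :=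
  Lre_a IH (LK LD1_c17 LD2_c57 LD3_c28) (LK LD1_c9 LD2_c47 LD3_c9) Lrfl Lrfl
theorem f575964 : Led Lsl_ft (LP (LK LD1_c12 LD2_c8 LD3_c36)) = (LP (LK LD1_c17 LD2_c57 LD3_c28)) :=
  Lgr Lrot48 (Lpr_ff (K43.f575957 IH) (Lpn (LP (LK LD1_c17 LD2_c57 LD3_c28))))
theorem f582112 : Led Lsl_gf (LP (LK LD1_c8 LD2_c2 LD3_c20)) = (LP (LK LD1_c12 LD2_c8 LD3_c36)) :=
  Lgr Lrot47 (Lpr_gt (f582110 IH) (Lpe (f227794 IH) (Lpe (f575964 IH) (Lpn (LP (LK LD1_c12 LD2_c8 LD3_c36))))))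
theorem f424960 : Led Lsl_dt (LP (LK LD1_c4 LD2_c0 LD3_c47)) = (LP (LK LD1_c8 LD2_c2 LD3_c20)) :=
  Lre_d IH (LK LD1_c4 LD2_c0 LD3_c47) (LK LD1_c8 LD2_c2 LD3_c20) Lrfl Lrfl
theorem f29494 : Led Lsl_et (LP (LK LD1_c1 LD2_c56 LD3_c60)) = (LP (LK LD1_c0 LD2_c55 LD3_c24)) :=
  Lre_e IH (LK LD1_c1 LD2_c56 LD3_c60) (LK LD1_c0 LD2_c55 LD3_c24) Lrfl Lrfl
theorem f69787 : Led Lsl_et (LP (LK LD1_c4 LD2_c2 LD3_c20)) = (LP (LK LD1_c8 LD2_c5 LD3_c14)) :=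
  Lre_e IH (LK LD1_c4 LD2_c2 LD3_c20) (LK LD1_c8 LD2_c5 LD3_c14) Lrfl Lrfl
theorem f69789 : Led Lsl_dt (LP (LK LD1_c4 LD2_c2 LD3_c20)) = (LP (LK LD1_c8 LD2_c5 LD3_c13)) :=
  Lre_d IH (LK LD1_c4 LD2_c2 LD3_c20) (LK LD1_c8 LD2_c5 LD3_c13) Lrfl Lrfl
theorem f552263 : Led Lsl_ff (LP (LK LD1_c8 LD2_c38 LD3_c23)) = (LP (LK LD1_c8 LD2_c5 LD3_c8)) :=
  Lgr Lrot19 (Lpr_dt (K43.f225013 IH) (Lpr_ft (K39.f552255 IH) (Lpr_dt (K39.f81436 IH) (Lpn (LP (LK LD1_c8 LD2_c5 LD3_c8))))))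
theorem f346780 : Led Lsl_af (LP (LK LD1_c4 LD2_c20 LD3_c15)) = (LP (LK LD1_c4 LD2_c20 LD3_c41)) :=
  Lgr Lrot0 (Lpr_at (K23.f346778 IH) (Lpn (LP (LK LD1_c4 LD2_c20 LD3_c41))))
theorem f34282 : Led Lsl_bt (LP (LK LD1_c8 LD2_c5 LD3_c13)) = (LP (LK LD1_c4 LD2_c2 LD3_c25)) :=
  Lre_b IH (LK LD1_c8 LD2_c5 LD3_c13) (LK LD1_c4 LD2_c2 LD3_c25) Lrfl Lrfl
theorem f546545 : Led Lsl_at (LP (LK LD1_c8 LD2_c38 LD3_c23)) = (LP (LK LD1_c8 LD2_c5 LD3_c13)) :=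
  Lgr Lrot67 (Lpe (K39.f225012 IH) (Lpr_af (f346780 IH) (Lpr_bf (K38.f546543 IH) (Lpe (K2.f33754 IH) (Lpe (f34282 IH) (Lpn (LP (LK LD1_c8 LD2_c5 LD3_c13))))))))
theorem f554393 : Led Lsl_gf (LP (LK LD1_c8 LD2_c5 LD3_c13)) = (LP (LK LD1_c8 LD2_c2 LD3_c16)) :=
  Lgr Lrot76 (Lpe (f546545 IH) (Lpr_ff (f552263 IH) (Lpr_gt (K39.f554391 IH) (Lpn (LP (LK LD1_c8 LD2_c2 LD3_c16))))))
theorem f29512 : Led Lsl_gt (LP (LK LD1_c8 LD2_c1 LD3_c54)) = (LP (LK LD1_c4 LD2_c0 LD3_c28)) :=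
  Lre_g IH (LK LD1_c8 LD2_c1 LD3_c54) (LK LD1_c4 LD2_c0 LD3_c28) Lrfl Lrfl
theorem f573431 : Led Lsl_df (LP (LK LD1_c8 LD2_c1 LD3_c54)) = (LP (LK LD1_c9 LD2_c44 LD3_c34)) :=
  Lgr Lrot135 (Lpr_gt (f29512 IH) (Lpe (K41.f29431 IH) (Lpr_et (f29494 IH) (Lpr_gt (K6.f29498 IH) (Lpe (K39.f69485 IH) (Lpr_dt (K39.f421317 IH) (Lpe (f554393 IH) (Lpe (f69789 IH) (Lpr_et (f69787 IH) (Lpr_gt (K43.f573423 IH) (Lpn (LP (LK LD1_c9 LD2_c44 LD3_c34)))))))))))))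
theorem f573436 : Led Lsl_dt (LP (LK LD1_c8 LD2_c1 LD3_c54)) = (LP (LK LD1_c9 LD2_c44 LD3_c34)) :=
  Lgr Lrot42 (Lpr_df (f573431 IH) (Lpn (LP (LK LD1_c9 LD2_c44 LD3_c34))))
theorem f549206 : Led Lsl_gt (LP (LK LD1_c15 LD2_c7 LD3_c5)) = (LP (LK LD1_c8 LD2_c1 LD3_c54)) :=
  Lre_g IH (LK LD1_c15 LD2_c7 LD3_c5) (LK LD1_c8 LD2_c1 LD3_c54) Lrfl Lrfl
theorem f29450 : Led Lsl_gt (LP (LK LD1_c4 LD2_c0 LD3_c25)) = (LP (LK LD1_c8 LD2_c1 LD3_c44)) :=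
  Lre_g IH (LK LD1_c4 LD2_c0 LD3_c25) (LK LD1_c8 LD2_c1 LD3_c44) Lrfl Lrfl
theorem f573445 : Led Lsl_dt (LP (LK LD1_c16 LD2_c21 LD3_c49)) = (LP (LK LD1_c11 LD2_c6 LD3_c9)) :=
  Lgr Lrot105 (Lpr_gf (K41.f564997 IH) (Lpe (K42.f564999 IH) (Lpe (K43.f571099 IH) (Lpe (K39.f29515 IH) (Lpr_gt (f29450 IH) (Lpr_dt (K39.f29421 IH) (Lpr_gt (f549206 IH) (Lpr_dt (f573436 IH) (Lpr_cf (K43.f419028 IH) (Lpn (LP (LK LD1_c11 LD2_c6 LD3_c9))))))))))))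
theorem f236862 : Led Lsl_ct (LP (LK LD1_c15 LD2_c7 LD3_c24)) = (LP (LK LD1_c16 LD2_c21 LD3_c49)) :=
  Lgr Lrot59 (Lpr_cf (K39.f236858 IH) (Lpn (LP (LK LD1_c16 LD2_c21 LD3_c49))))
theorem f239163 : Led Lsl_gt (LP (LK LD1_c4 LD2_c56 LD3_c33)) = (LP (LK LD1_c9 LD2_c44 LD3_c33)) :=
  Lre_g IH (LK LD1_c4 LD2_c56 LD3_c33) (LK LD1_c9 LD2_c44 LD3_c33) Lrfl Lrfl
theorem f419034 : Led Lsl_bt (LP (LK LD1_c8 LD2_c37 LD3_c42)) = (LP (LK LD1_c9 LD2_c44 LD3_c33)) :=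
  Lgr Lrot92 (Lpr_ct (K40.f225663 IH) (Lpr_gt (K40.f180231 IH) (Lpe (K39.f180200 IH) (Lpr_bt (K39.f180142 IH) (Lpe (K13.f181967 IH) (Lpr_ct (K13.f28942 IH) (Lpr_gt (K11.f211128 IH) (Lpe (K11.f182326 IH) (Lpr_bt (K39.f211150 IH) (Lpr_gt (f239163 IH) (Lpn (LP (LK LD1_c9 LD2_c44 LD3_c33)))))))))))))
theorem f557111 : Led Lsl_gf (LP (LK LD1_c8 LD2_c5 LD3_c14)) = (LP (LK LD1_c9 LD2_c44 LD3_c33)) :=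
  Lgr Lrot124 (Lpe (K9.f69778 IH) (Lpr_ct (K2.f69775 IH) (Lpr_gt (K10.f69811 IH) (Lpe (K10.f37242 IH) (Lpe (K39.f197817 IH) (Lpr_gt (K39.f557103 IH) (Lpr_ct (K39.f551969 IH) (Lpr_gt (K40.f386982 IH) (Lpe (K40.f225663 IH) (Lpr_bt (f419034 IH) (Lpn (LP (LK LD1_c9 LD2_c44 LD3_c33)))))))))))))
theorem f573450 : Led Lsl_df (LP (LK LD1_c8 LD2_c1 LD3_c53)) = (LP (LK LD1_c9 LD2_c44 LD3_c33)) :=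
  Lgr Lrot155 (Lpr_gt (K40.f29443 IH) (Lpr_ct (K39.f29420 IH) (Lpr_gt (K39.f29425 IH) (Lpr_ct (f236862 IH) (Lpr_dt (f573445 IH) (Lpe (K43.f419031 IH) (Lpe (K43.f573423 IH) (Lpr_cf (K9.f69779 IH) (Lpr_gf (f557111 IH) (Lpn (LP (LK LD1_c9 LD2_c44 LD3_c33))))))))))))
theorem f418465 : Led Lsl_dt (LP (LK LD1_c6 LD2_c15 LD3_c10)) = (LP (LK LD1_c12 LD2_c8 LD3_c36)) :=
  Lre_d IH (LK LD1_c6 LD2_c15 LD3_c10) (LK LD1_c12 LD2_c8 LD3_c36) Lrfl Lrfl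
theorem f196247 : Led Lsl_gt (LP (LK LD1_c12 LD2_c8 LD3_c35)) = (LP (LK LD1_c6 LD2_c15 LD3_c10)) :=
  Lre_g IH (LK LD1_c12 LD2_c8 LD3_c35) (LK LD1_c6 LD2_c15 LD3_c10) Lrfl Lrfl
theorem f582126 : Led Lsl_et (LP (LK LD1_c9 LD2_c44 LD3_c33)) = (LP (LK LD1_c12 LD2_c8 LD3_c35)) :=
  Lgr Lrot121 (Lpe (f573450 IH) (Lpe (K43.f30811 IH) (Lpe (K41.f29431 IH) (Lpr_et (f29494 IH) (Lpe (K7.f29500 IH) (Lpe (K41.f158224 IH) (Lpr_dt (f424960 IH) (Lpr_gf (f582112 IH) (Lpe (f418465 IH) (Lpe (f196247 IH) (Lpn (LP (LK LD1_c12 LD2_c8 LD3_c35)))))))))))))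
theorem f425780 : Led Lsl_et (LP (LK LD1_c8 LD2_c1 LD3_c51)) = (LP (LK LD1_c4 LD2_c0 LD3_c26)) :=
  Lre_e IH (LK LD1_c8 LD2_c1 LD3_c51) (LK LD1_c4 LD2_c0 LD3_c26) Lrfl Lrfl
theorem f418463 : Led Lsl_et (LP (LK LD1_c3 LD2_c4 LD3_c35)) = (LP (LK LD1_c6 LD2_c15 LD3_c10)) :=
  Lre_e IH (LK LD1_c3 LD2_c4 LD3_c35) (LK LD1_c6 LD2_c15 LD3_c10) Lrfl Lrfl
theorem f418461 : Led Lsl_dt (LP (LK LD1_c3 LD2_c4 LD3_c35)) = (LP (LK LD1_c6 LD2_c15 LD3_c9)) :=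
  Lre_d IH (LK LD1_c3 LD2_c4 LD3_c35) (LK LD1_c6 LD2_c15 LD3_c9) Lrfl Lrfl
theorem f582134 : Led Lsl_gf (LP (LK LD1_c7 LD2_c6 LD3_c21)) = (LP (LK LD1_c6 LD2_c15 LD3_c9)) :=
  Lgr Lrot145 (Lpe (K43.f559085 IH) (Lpr_et (f425780 IH) (Lpr_gt (K39.f29513 IH) (Lpr_dt (K41.f29431 IH) (Lpr_gt (K43.f30811 IH) (Lpr_df (f573450 IH) (Lpr_et (f582126 IH) (Lpr_gt (f196247 IH) (Lpe (f418463 IH) (Lpr_dt (f418461 IH) (Lpn (LP (LK LD1_c6 LD2_c15 LD3_c9)))))))))))))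
theorem f582138 : Led Lsl_gf (LP (LK LD1_c6 LD2_c14 LD3_c9)) = (LP (LK LD1_c3 LD2_c4 LD3_c35)) :=
  Lgr Lrot147 (Lpr_ct (K42.f546832 IH) (Lpr_gt (K42.f98372 IH) (Lpr_ct (K36.f98356 IH) (Lpe (K42.f6411 IH) (Lpr_cf (K29.f10620 IH) (Lpe (K36.f10622 IH) (Lpe (K36.f10626 IH) (Lpr_gf (f582134 IH) (Lpe (f418461 IH) (Lpn (LP (LK LD1_c3 LD2_c4 LD3_c35))))))))))))
theorem f37057 : Led Lsl_et (LP (LK LD1_c15 LD2_c8 LD3_c3)) = (LP (LK LD1_c8 LD2_c2 LD3_c22)) :=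
  Lre_e IH (LK LD1_c15 LD2_c8 LD3_c3) (LK LD1_c8 LD2_c2 LD3_c22) Lrfl Lrfl
theorem f570648 : Led Lsl_df (LP (LK LD1_c15 LD2_c8 LD3_c3)) = (LP (LK LD1_c13 LD2_c46 LD3_c25)) :=
  Lgr Lrot70 (Lpr_et (f37057 IH) (Lpr_dt (K40.f158249 IH) (Lpr_et (K43.f70427 IH) (Lpr_dt (K42.f570642 IH) (Lpr_et (K28.f94474 IH) (Lpn (LP (LK LD1_c13 LD2_c46 LD3_c25))))))))
theorem f570652 : Led Lsl_dt (LP (LK LD1_c15 LD2_c8 LD3_c3)) = (LP (LK LD1_c13 LD2_c46 LD3_c25)) :=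
  Lgr Lrot42 (Lpr_df (f570648 IH) (Lpn (LP (LK LD1_c13 LD2_c46 LD3_c25))))
theorem f499067 : Led Lsl_af (LP (LK LD1_c8 LD2_c2 LD3_c22)) = (LP (LK LD1_c4 LD2_c0 LD3_c49)) :=
  Lgr Lrot117 (Lpr_dt (K40.f158249 IH) (Lpr_at (K36.f499059 IH) (Lpe (K36.f425768 IH) (Lpn (LP (LK LD1_c4 LD2_c0 LD3_c49))))))
theorem f163419 : Led Lsl_et (LP (LK LD1_c8 LD2_c2 LD3_c22)) = (LP (LK LD1_c15 LD2_c8 LD3_c3)) :=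
  Lre_e IH (LK LD1_c8 LD2_c2 LD3_c22) (LK LD1_c15 LD2_c8 LD3_c3) Lrfl Lrfl
theorem f425770 : Led Lsl_et (LP (LK LD1_c8 LD2_c2 LD3_c24)) = (LP (LK LD1_c4 LD2_c0 LD3_c49)) :=
  Lre_e IH (LK LD1_c8 LD2_c2 LD3_c24) (LK LD1_c4 LD2_c0 LD3_c49) Lrfl Lrfl
theorem f499073 : Led Lsl_at (LP (LK LD1_c15 LD2_c8 LD3_c3)) = (LP (LK LD1_c8 LD2_c2 LD3_c24)) :=
  Lgr Lrot80 (Lpe (f163419 IH) (Lpr_af (f499067 IH) (Lpe (f425770 IH) (Lpn (LP (LK LD1_c8 LD2_c2 LD3_c24))))))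
theorem f499075 : Led Lsl_af (LP (LK LD1_c15 LD2_c8 LD3_c3)) = (LP (LK LD1_c8 LD2_c2 LD3_c24)) :=
  Lgr Lrot0 (Lpr_at (f499073 IH) (Lpn (LP (LK LD1_c8 LD2_c2 LD3_c24))))
theorem f570654 : Led Lsl_df (LP (LK LD1_c8 LD2_c2 LD3_c24)) = (LP (LK LD1_c13 LD2_c50 LD3_c7)) :=
  Lgr Lrot18 (Lpe (f499075 IH) (Lpr_dt (f570652 IH) (Lpe (K28.f426686 IH) (Lpn (LP (LK LD1_c13 LD2_c50 LD3_c7))))))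
theorem f109560 : Led Lsl_et (LP (LK LD1_c7 LD2_c18 LD3_c48)) = (LP (LK LD1_c13 LD2_c50 LD3_c7)) :=
  Lre_e IH (LK LD1_c7 LD2_c18 LD3_c48) (LK LD1_c13 LD2_c50 LD3_c7) Lrfl Lrfl
theorem f570656 : Led Lsl_dt (LP (LK LD1_c6 LD2_c14 LD3_c9)) = (LP (LK LD1_c7 LD2_c18 LD3_c48)) :=
  Lgr Lrot77 (Lpe (K42.f80627 IH) (Lpe (K36.f425764 IH) (Lpe (f425770 IH) (Lpr_df (f570654 IH) (Lpe (f109560 IH) (Lpn (LP (LK LD1_c7 LD2_c18 LD3_c48))))))))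
theorem f538647 : Led Lsl_cf (LP (LK LD1_c1 LD2_c59 LD3_c30)) = (LP (LK LD1_c3 LD2_c3 LD3_c35)) :=
  Lgr Lrot39 (Lpr_et (K14.f193104 IH) (Lpr_ct (K13.f192977 IH) (Lpr_et (K35.f538643 IH) (Lpn (LP (LK LD1_c3 LD2_c3 LD3_c35))))))
theorem f552235 : Led Lsl_bf (LP (LK LD1_c4 LD2_c24 LD3_c28)) = (LP (LK LD1_c8 LD2_c45 LD3_c26)) :=
  Lgr Lrot24 (Lpr_bt (K39.f552233 IH) (Lpn (LP (LK LD1_c8 LD2_c45 LD3_c26))))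
theorem f567618 : Led Lsl_bf (LP (LK LD1_c5 LD2_c41 LD3_c17)) = (LP (LK LD1_c2 LD2_c47 LD3_c27)) :=
  Lgr Lrot24 (Lpr_bt (K41.f567614 IH) (Lpn (LP (LK LD1_c2 LD2_c47 LD3_c27))))
theorem f172841 : Led Lsl_ct (LP (LK LD1_c5 LD2_c42 LD3_c61)) = (LP (LK LD1_c2 LD2_c47 LD3_c27)) :=
  Lre_c IH (LK LD1_c5 LD2_c42 LD3_c61) (LK LD1_c2 LD2_c47 LD3_c27) Lrfl Lrfl
theorem f582140 : Led Lsl_dt (LP (LK LD1_c7 LD2_c17 LD3_c8)) = (LP (LK LD1_c5 LD2_c42 LD3_c61)) :=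
  Lgr Lrot182 (Lpr_gf (K24.f151506 IH) (Lpe (K24.f109559 IH) (Lpe (K24.f5552 IH) (Lpe (f570656 IH) (Lpr_gf (f582138 IH) (Lpe (K43.f182405 IH) (Lpe (K13.f59145 IH) (Lpe (K11.f59096 IH) (Lpr_gf (K12.f182400 IH) (Lpr_bf (K13.f193096 IH) (Lpr_cf (f538647 IH) (Lpe (K42.f80894 IH) (Lpe (K42.f552227 IH) (Lpr_bf (f552235 IH) (Lpr_cf (K36.f541777 IH) (Lpe (K36.f541673 IH) (Lpe (K36.f541766 IH) (Lpr_bf (f567618 IH) (Lpe (f172841 IH) (Lpn (LP (LK LD1_c5 LD2_c42 LD3_c61))))))))))))))))))))))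
theorem f556429 : Led Lsl_cf (LP (LK LD1_c7 LD2_c0 LD3_c43)) = (LP (LK LD1_c8 LD2_c12 LD3_c5)) :=
  Lgr Lrot97 (Lpr_bt (K3.f98531 IH) (Lpe (K3.f98508 IH) (Lpr_bt (K3.f98529 IH) (Lpr_ct (K37.f542937 IH) (Lpr_bt (K39.f556424 IH) (Lpn (LP (LK LD1_c8 LD2_c12 LD3_c5))))))))
theorem f574904 : Led Lsl_gt (LP (LK LD1_c5 LD2_c42 LD3_c46)) = (LP (LK LD1_c3 LD2_c36 LD3_c46)) :=
  Lgr Lrot149 (Lpe (K43.f177124 IH) (Lpr_gf (K43.f574896 IH) (Lpe (K42.f571831 IH) (Lpr_ct (K43.f551680 IH) (Lpr_gf (K43.f565248 IH) (Lpr_cf (f556429 IH) (Lpe (K42.f556427 IH) (Lpr_gf (K37.f543967 IH) (Lpr_bf (K37.f546738 IH) (Lpe (K43.f546740 IH) (Lpn (LP (LK LD1_c3 LD2_c36 LD3_c46)))))))))))))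
theorem f567620 : Led Lsl_ct (LP (LK LD1_c2 LD2_c47 LD3_c27)) = (LP (LK LD1_c5 LD2_c42 LD3_c61)) :=
  Lre_c IH (LK LD1_c2 LD2_c47 LD3_c27) (LK LD1_c5 LD2_c42 LD3_c61) Lrfl Lrfl
theorem f582156 : Led Lsl_gt (LP (LK LD1_c4 LD2_c32 LD3_c61)) = (LP (LK LD1_c2 LD2_c47 LD3_c27)) :=
  Lgr Lrot187 (Lpe (K37.f546734 IH) (Lpe (f574904 IH) (Lpe (K38.f549506 IH) (Lpr_gt (K24.f116577 IH) (Lpe (K4.f92430 IH) (Lpr_gt (K7.f92357 IH) (Lpe (K24.f97477 IH) (Lpr_dt (f582140 IH) (Lpe (f567620 IH) (Lpn (LP (LK LD1_c2 LD2_c47 LD3_c27))))))))))))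
theorem f494152 : Led Lsl_et (LP (LK LD1_c2 LD2_c13 LD3_c28)) = (LP (LK LD1_c4 LD2_c32 LD3_c61)) :=
  Lre_e IH (LK LD1_c2 LD2_c13 LD3_c28) (LK LD1_c4 LD2_c32 LD3_c61) Lrfl Lrfl
theorem f494137 : Led Lsl_dt (LP (LK LD1_c2 LD2_c13 LD3_c28)) = (LP (LK LD1_c4 LD2_c32 LD3_c60)) :=
  Lre_d IH (LK LD1_c2 LD2_c13 LD3_c28) (LK LD1_c4 LD2_c32 LD3_c60) Lrfl Lrfl
theorem f193984 : Led Lsl_et (LP (LK LD1_c2 LD2_c33 LD3_c3)) = (LP (LK LD1_c3 LD2_c0 LD3_c55)) :=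
  Lgr Lrot74 (Lpe (K36.f193983 IH) (Lpr_ef (K10.f193979 IH) (Lpe (K36.f60136 IH) (Lpn (LP (LK LD1_c3 LD2_c0 LD3_c55))))))
theorem f285114 : Led Lsl_bt (LP (LK LD1_c5 LD2_c6 LD3_c51)) = (LP (LK LD1_c2 LD2_c30 LD3_c43)) :=
  Lre_b IH (LK LD1_c5 LD2_c6 LD3_c51) (LK LD1_c2 LD2_c30 LD3_c43) Lrfl Lrfl
theorem f421546 : Led Lsl_dt (LP (LK LD1_c2 LD2_c33 LD3_c3)) = (LP (LK LD1_c5 LD2_c6 LD3_c51)) :=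
  Lgr Lrot79 (Lpe (K36.f193983 IH) (Lpr_df (K12.f194024 IH) (Lpe (f285114 IH) (Lpn (LP (LK LD1_c5 LD2_c6 LD3_c51))))))
theorem f34956 : Led Lsl_dt (LP (LK LD1_c4 LD2_c35 LD3_c23)) = (LP (LK LD1_c9 LD2_c7 LD3_c20)) :=
  Lre_d IH (LK LD1_c4 LD2_c35 LD3_c23) (LK LD1_c9 LD2_c7 LD3_c20) Lrfl Lrfl
theorem f544903 : Led Lsl_gf (LP (LK LD1_c5 LD2_c6 LD3_c51)) = (LP (LK LD1_c9 LD2_c7 LD3_c20)) :=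
  Lgr Lrot143 (Lpe (K36.f194022 IH) (Lpe (K36.f212068 IH) (Lpe (K36.f212065 IH) (Lpr_gf (K38.f544899 IH) (Lpe (K38.f387112 IH) (Lpe (K37.f387128 IH) (Lpe (K37.f34962 IH) (Lpr_gt (K37.f34990 IH) (Lpr_dt (f34956 IH) (Lpn (LP (LK LD1_c9 LD2_c7 LD3_c20))))))))))))
theorem f582168 : Led Lsl_et (LP (LK LD1_c4 LD2_c35 LD3_c23)) = (LP (LK LD1_c2 LD2_c47 LD3_c27)) :=
  Lgr Lrot122 (Lpr_dt (f34956 IH) (Lpe (f544903 IH) (Lpe (f421546 IH) (Lpr_et (f193984 IH) (Lpr_gt (K39.f552532 IH) (Lpe (K39.f225931 IH) (Lpe (K39.f557192 IH) (Lpe (f494137 IH) (Lpr_et (f494152 IH) (Lpr_gt (f582156 IH) (Lpn (LP (LK LD1_c2 LD2_c47 LD3_c27)))))))))))))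
theorem f34912 : Led Lsl_dt (LP (LK LD1_c4 LD2_c35 LD3_c36)) = (LP (LK LD1_c2 LD2_c14 LD3_c58)) :=
  Lre_d IH (LK LD1_c4 LD2_c35 LD3_c36) (LK LD1_c2 LD2_c14 LD3_c58) Lrfl Lrfl
theorem f562734 : Led Lsl_ff (LP (LK LD1_c4 LD2_c35 LD3_c23)) = (LP (LK LD1_c2 LD2_c14 LD3_c58)) :=
  Lgr Lrot19 (Lpr_dt (f34956 IH) (Lpr_ft (K40.f562730 IH) (Lpr_dt (f34912 IH) (Lpn (LP (LK LD1_c2 LD2_c14 LD3_c58))))))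
theorem f579602 : Led Lsl_ct (LP (LK LD1_c8 LD2_c44 LD3_c30)) = (LP (LK LD1_c4 LD2_c33 LD3_c4)) :=
  Lgr Lrot59 (Lpr_cf (K43.f579598 IH) (Lpn (LP (LK LD1_c4 LD2_c33 LD3_c4))))
theorem f579632 : Led Lsl_et (LP (LK LD1_c4 LD2_c33 LD3_c4)) = K36.v1398 :=
  Lgr Lrot158 (Lpe (f579602 IH) (Lpr_ef (K43.f579628 IH) (Lpr_cf (K36.f495333 IH) (Lpn K36.v1398))))
theorem f582171 : Led Lsl_ff (LP (LK LD1_c4 LD2_c33 LD3_c4)) = (LP (LK LD1_c2 LD2_c47 LD3_c27)) :=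
  Lgr Lrot72 (Lpr_et (f579632 IH) (Lpe (K37.f495334 IH) (Lpe (K39.f551773 IH) (Lpe (f562734 IH) (Lpr_et (f582168 IH) (Lpn (LP (LK LD1_c2 LD2_c47 LD3_c27))))))))
theorem f579638 : Led Lsl_at (LP (LK LD1_c4 LD2_c33 LD3_c4)) = (LP (LK LD1_c2 LD2_c30 LD3_c42)) :=
  Lgr Lrot80 (Lpr_ef (K43.f579636 IH) (Lpq (K37.f542395 IH) (Lpqs (K37.f542395 IH) (Lpe (K36.f495330 IH) (Lpe (K38.f308152 IH) (Lpn (LP (LK LD1_c2 LD2_c30 LD3_c42))))))))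
theorem f567253 : Led Lsl_cf (LP (LK LD1_c6 LD2_c15 LD3_c4)) = (LP (LK LD1_c3 LD2_c45 LD3_c39)) :=
  Lgr Lrot14 (Lpe (K41.f424500 IH) (Lpr_gf (K41.f567249 IH) (Lpe (K42.f567251 IH) (Lpr_gf (K28.f136912 IH) (Lpr_ct (K3.f96771 IH) (Lpe (K5.f127866 IH) (Lpr_dt (K5.f104068 IH) (Lpr_gt (K42.f419845 IH) (Lpr_dt (K42.f92481 IH) (Lpn (LP (LK LD1_c3 LD2_c45 LD3_c39))))))))))))
theorem f549617 : Led Lsl_et (LP (LK LD1_c2 LD2_c31 LD3_c3)) = (LP (LK LD1_c5 LD2_c7 LD3_c34)) :=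
  Lre_e IH (LK LD1_c2 LD2_c31 LD3_c3) (LK LD1_c5 LD2_c7 LD3_c34) Lrfl Lrfl
theorem f549618 : Led Lsl_cf (LP (LK LD1_c5 LD2_c42 LD3_c47)) = (LP (LK LD1_c5 LD2_c7 LD3_c34)) :=
  Lgr Lrot39 (Lpr_et (K38.f549613 IH) (Lpr_ct (K40.f387116 IH) (Lpr_et (f549617 IH) (Lpn (LP (LK LD1_c5 LD2_c7 LD3_c34))))))
theorem f561450 : Led Lsl_bf (LP (LK LD1_c4 LD2_c32 LD3_c39)) = (LP (LK LD1_c5 LD2_c7 LD3_c38)) :=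
  Lgr Lrot24 (Lpr_bt (K40.f561446 IH) (Lpn (LP (LK LD1_c5 LD2_c7 LD3_c38))))
theorem f561465 : Led Lsl_gf (LP (LK LD1_c5 LD2_c42 LD3_c47)) = (LP (LK LD1_c3 LD2_c36 LD3_c46)) :=
  Lgr Lrot126 (Lpr_cf (f549618 IH) (Lpr_bt (K42.f561464 IH) (Lpe (K42.f561444 IH) (Lpr_ct (K42.f181454 IH) (Lpr_gt (K40.f561458 IH) (Lpe (K42.f496104 IH) (Lpe (f561450 IH) (Lpe (K40.f557858 IH) (Lpr_bf (K37.f546738 IH) (Lpe (K43.f546740 IH) (Lpn (LP (LK LD1_c3 LD2_c36 LD3_c46)))))))))))))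
theorem f26850 : Led Lsl_gt (LP (LK LD1_c4 LD2_c41 LD3_c29)) = (LP (LK LD1_c2 LD2_c17 LD3_c49)) :=
  Lre_g IH (LK LD1_c4 LD2_c41 LD3_c29) (LK LD1_c2 LD2_c17 LD3_c49) Lrfl Lrfl
theorem f582158 : Led Lsl_df (LP (LK LD1_c4 LD2_c41 LD3_c29)) = (LP (LK LD1_c2 LD2_c47 LD3_c27)) :=
  Lgr Lrot153 (Lpr_gt (f26850 IH) (Lpr_dt (K8.f26842 IH) (Lpr_cf (K42.f36485 IH) (Lpe (K36.f540249 IH) (Lpr_gf (K7.f136752 IH) (Lpr_df (K38.f546904 IH) (Lpr_gf (f561465 IH) (Lpr_cf (K43.f546740 IH) (Lpr_gt (f582156 IH) (Lpn (LP (LK LD1_c2 LD2_c47 LD3_c27))))))))))))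
theorem f494676 : Led Lsl_ct (LP (LK LD1_c4 LD2_c41 LD3_c29)) = (LP (LK LD1_c9 LD2_c17 LD3_c53)) :=
  Lre_c IH (LK LD1_c4 LD2_c41 LD3_c29) (LK LD1_c9 LD2_c17 LD3_c53) Lrfl Lrfl
theorem f582175 : Led Lsl_df (LP (LK LD1_c14 LD2_c12 LD3_c25)) = (LP (LK LD1_c9 LD2_c17 LD3_c53)) :=
  Lgr Lrot106 (Lpr_ct (K32.f419811 IH) (Lpr_dt (K42.f92481 IH) (Lpe (f567253 IH) (Lpe (K41.f424467 IH) (Lpr_ct (K36.f177122 IH) (Lpe (f579638 IH) (Lpr_ff (f582171 IH) (Lpe (f582158 IH) (Lpr_ct (f494676 IH) (Lpn (LP (LK LD1_c9 LD2_c17 LD3_c53))))))))))))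
theorem f567489 : Led Lsl_df (LP (LK LD1_c11 LD2_c26 LD3_c55)) = (LP (LK LD1_c6 LD2_c56 LD3_c29)) :=
  Lgr Lrot155 (Lpr_gt (K40.f210536 IH) (Lpr_ct (K40.f36585 IH) (Lpr_gt (K40.f562686 IH) (Lpr_ct (K32.f186387 IH) (Lpr_dt (K41.f567483 IH) (Lpr_cf (K32.f205901 IH) (Lpe (K32.f205908 IH) (Lpe (K36.f127648 IH) (Lpr_gf (K5.f127639 IH) (Lpn (LP (LK LD1_c6 LD2_c56 LD3_c29))))))))))))
theorem f582186 : Led Lsl_gf (LP (LK LD1_c17 LD2_c12 LD3_c55)) = (LP (LK LD1_c9 LD2_c17 LD3_c53)) :=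
  Lgr Lrot147 (Lpr_ct (f578296 IH) (Lpe (K40.f557388 IH) (Lpr_ct (K40.f210535 IH) (Lpr_df (f567489 IH) (Lpe (K5.f15618 IH) (Lpe (K36.f428978 IH) (Lpe (K40.f501578 IH) (Lpr_gf (K39.f502114 IH) (Lpr_df (f582175 IH) (Lpn (LP (LK LD1_c9 LD2_c17 LD3_c53))))))))))))
theorem f548734 : Led Lsl_bt (LP (LK LD1_c11 LD2_c25 LD3_c12)) = (LP (LK LD1_c5 LD2_c49 LD3_c2)) :=
  Lgr Lrot127 (Lpr_bf (K38.f548732 IH) (Lpn (LP (LK LD1_c5 LD2_c49 LD3_c2))))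
theorem f557402 : Led Lsl_gf (LP (LK LD1_c9 LD2_c5 LD3_c44)) = (LP (LK LD1_c5 LD2_c49 LD3_c2)) :=
  Lgr Lrot104 (Lpe (K36.f541824 IH) (Lpr_df (K40.f420483 IH) (Lpr_cf (K36.f70232 IH) (Lpe (K40.f70234 IH) (Lpe (K40.f206062 IH) (Lpr_gf (K40.f206070 IH) (Lpr_df (K40.f541828 IH) (Lpr_gt (K40.f557393 IH) (Lpr_ct (K40.f548736 IH) (Lpn (LP (LK LD1_c5 LD2_c49 LD3_c2))))))))))))
theorem f582193 : Led Lsl_bf (LP (LK LD1_c6 LD2_c8 LD3_c34)) = (LP (LK LD1_c4 LD2_c41 LD3_c29)) :=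
  Lgr Lrot34 (Lpe (K36.f75824 IH) (Lpe (K32.f75829 IH) (Lpe (K38.f541794 IH) (Lpe (K36.f29550 IH) (Lpr_cf (K36.f541824 IH) (Lpr_gf (f557402 IH) (Lpe (f548734 IH) (Lpe (f578290 IH) (Lpr_gf (f582186 IH) (Lpe (f494676 IH) (Lpn (LP (LK LD1_c4 LD2_c41 LD3_c29)))))))))))))
theorem f26851 : Led Lsl_et (LP (LK LD1_c9 LD2_c17 LD3_c54)) = (LP (LK LD1_c4 LD2_c41 LD3_c29)) :=
  Lre_e IH (LK LD1_c9 LD2_c17 LD3_c54) (LK LD1_c4 LD2_c41 LD3_c29) Lrfl Lrfl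
theorem f582197 : Led Lsl_bt (LP (LK LD1_c11 LD2_c58 LD3_c40)) = (LP (LK LD1_c9 LD2_c17 LD3_c54)) :=
  Lgr Lrot119 (Lpe (K36.f428104 IH) (Lpr_bf (f582193 IH) (Lpe (f26851 IH) (Lpn (LP (LK LD1_c9 LD2_c17 LD3_c54))))))
theorem f582201 : Led Lsl_bf (LP (LK LD1_c11 LD2_c58 LD3_c40)) = (LP (LK LD1_c9 LD2_c17 LD3_c54)) :=
  Lgr Lrot24 (Lpr_bt (f582197 IH) (Lpn (LP (LK LD1_c9 LD2_c17 LD3_c54))))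
theorem f186356 : Led Lsl_et (LP (LK LD1_c1 LD2_c28 LD3_c44)) = (LP (LK LD1_c3 LD2_c5 LD3_c28)) :=
  Lre_e IH (LK LD1_c1 LD2_c28 LD3_c44) (LK LD1_c3 LD2_c5 LD3_c28) Lrfl Lrfl
theorem f302563 : Led Lsl_at (LP (LK LD1_c3 LD2_c5 LD3_c28)) = (LP (LK LD1_c4 LD2_c41 LD3_c33)) :=
  Lgr Lrot80 (Lpe (f186356 IH) (Lpr_af (K18.f302559 IH) (Lpe (K18.f26817 IH) (Lpn (LP (LK LD1_c4 LD2_c41 LD3_c33))))))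
theorem f302565 : Led Lsl_af (LP (LK LD1_c3 LD2_c5 LD3_c28)) = (LP (LK LD1_c4 LD2_c41 LD3_c33)) :=
  Lgr Lrot0 (Lpr_at (f302563 IH) (Lpn (LP (LK LD1_c4 LD2_c41 LD3_c33))))
theorem f186369 : Led Lsl_bt (LP (LK LD1_c3 LD2_c5 LD3_c28)) = (LP (LK LD1_c6 LD2_c16 LD3_c45)) :=
  Lre_b IH (LK LD1_c3 LD2_c5 LD3_c28) (LK LD1_c6 LD2_c16 LD3_c45) Lrfl Lrfl
theorem f582206 : Led Lsl_at (LP (LK LD1_c6 LD2_c16 LD3_c45)) = (LP (LK LD1_c9 LD2_c17 LD3_c54)) :=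
  Lgr Lrot67 (Lpe (f186369 IH) (Lpr_af (f302565 IH) (Lpe (K18.f176971 IH) (Lpr_af (K36.f428105 IH) (Lpr_bf (f582201 IH) (Lpn (LP (LK LD1_c9 LD2_c17 LD3_c54))))))))
theorem f186386 : Led Lsl_et (LP (LK LD1_c3 LD2_c5 LD3_c27)) = (LP (LK LD1_c6 LD2_c16 LD3_c45)) :=
  Lre_e IH (LK LD1_c3 LD2_c5 LD3_c27) (LK LD1_c6 LD2_c16 LD3_c45) Lrfl Lrfl
theorem f582213 : Led Lsl_af (LP (LK LD1_c3 LD2_c5 LD3_c27)) = (LP (LK LD1_c4 LD2_c41 LD3_c29)) :=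
  Lgr Lrot50 (Lpr_et (f186386 IH) (Lpr_at (f582206 IH) (Lpr_et (f26851 IH) (Lpn (LP (LK LD1_c4 LD2_c41 LD3_c29))))))
theorem f120418 : Led Lsl_et (LP (LK LD1_c9 LD2_c20 LD3_c60)) = (LP (LK LD1_c4 LD2_c44 LD3_c3)) :=
  Lre_e IH (LK LD1_c9 LD2_c20 LD3_c60) (LK LD1_c4 LD2_c44 LD3_c3) Lrfl Lrfl
theorem f120419 : Led Lsl_dt (LP (LK LD1_c4 LD2_c44 LD3_c3)) = (LP (LK LD1_c7 LD2_c1 LD3_c50)) :=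
  Lgr Lrot77 (Lpe (f120418 IH) (Lpe (K4.f120417 IH) (Lpr_ef (K4.f120414 IH) (Lpe (K3.f95497 IH) (Lpe (K4.f109599 IH) (Lpn (LP (LK LD1_c7 LD2_c1 LD3_c50))))))))
theorem f205916 : Led Lsl_df (LP (LK LD1_c12 LD2_c51 LD3_c14)) = (LP (LK LD1_c7 LD2_c0 LD3_c16)) :=
  Lgr Lrot162 (Lpe (K39.f205905 IH) (Lpr_gf (K36.f205910 IH) (Lpe (K36.f97928 IH) (Lpe (K36.f120451 IH) (Lpr_dt (f120419 IH) (Lpe (K36.f116626 IH) (Lpr_ct (K28.f116571 IH) (Lpr_gt (K37.f157317 IH) (Lpe (K2.f94489 IH) (Lpn (LP (LK LD1_c7 LD2_c0 LD3_c16))))))))))))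
theorem f567175 : Led Lsl_dt (LP (LK LD1_c9 LD2_c49 LD3_c42)) = (LP (LK LD1_c6 LD2_c16 LD3_c44)) :=
  Lgr Lrot32 (Lpr_cf (K32.f205901 IH) (Lpr_df (f205916 IH) (Lpr_ft (K32.f497720 IH) (Lpe (K32.f497726 IH) (Lpe (K40.f109483 IH) (Lpr_df (K41.f567165 IH) (Lpe (K40.f237367 IH) (Lpr_df (K40.f186360 IH) (Lpe (K41.f186383 IH) (Lpn (LP (LK LD1_c6 LD2_c16 LD3_c44))))))))))))
theorem f549555 : Led Lsl_dt (LP (LK LD1_c9 LD2_c3 LD3_c24)) = (LP (LK LD1_c4 LD2_c33 LD3_c4)) :=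
  Lre_d IH (LK LD1_c9 LD2_c3 LD3_c24) (LK LD1_c4 LD2_c33 LD3_c4) Lrfl Lrfl
theorem f582223 : Led Lsl_ft (LP (LK LD1_c9 LD2_c3 LD3_c24)) = (LP (LK LD1_c4 LD2_c41 LD3_c29)) :=
  Lgr Lrot142 (Lpr_dt (f549555 IH) (Lpe (K43.f579598 IH) (Lpr_dt (K43.f579605 IH) (Lpe (K2.f94489 IH) (Lpe (f205916 IH) (Lpe (K32.f205901 IH) (Lpr_dt (f567175 IH) (Lpr_ct (K41.f186383 IH) (Lpr_af (f582213 IH) (Lpn (LP (LK LD1_c4 LD2_c41 LD3_c29))))))))))))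
theorem f582234 : Led Lsl_gt (LP (LK LD1_c9 LD2_c3 LD3_c24)) = (LP (LK LD1_c4 LD2_c41 LD3_c31)) :=
  Lgr Lrot5 (Lpr_ft (f582223 IH) (Lpe (f582213 IH) (Lpe (K40.f562686 IH) (Lpn (LP (LK LD1_c4 LD2_c41 LD3_c31))))))
theorem f579604 : Led Lsl_ct (LP (LK LD1_c16 LD2_c54 LD3_c17)) = (LP (LK LD1_c9 LD2_c3 LD3_c24)) :=
  Lre_c IH (LK LD1_c16 LD2_c54 LD3_c17) (LK LD1_c9 LD2_c3 LD3_c24) Lrfl Lrfl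
theorem f543971 : Led Lsl_dt (LP (LK LD1_c9 LD2_c17 LD3_c58)) = (LP (LK LD1_c7 LD2_c38 LD3_c16)) :=
  Lgr Lrot44 (Lpe (K35.f538087 IH) (Lpr_df (K37.f543969 IH) (Lpr_af (K37.f111855 IH) (Lpn (LP (LK LD1_c7 LD2_c38 LD3_c16))))))
theorem f582241 : Led Lsl_gf (LP (LK LD1_c16 LD2_c54 LD3_c17)) = (LP (LK LD1_c9 LD2_c49 LD3_c56)) :=
  Lgr Lrot179 (Lpr_ct (f579604 IH) (Lpr_gt (f582234 IH) (Lpr_ct (K35.f36583 IH) (Lpr_dt (f543971 IH) (Lpe (K5.f89305 IH) (Lpr_gf (K8.f127427 IH) (Lpr_cf (K8.f162969 IH) (Lpe (K8.f72807 IH) (Lpr_dt (K38.f72562 IH) (Lpn (LP (LK LD1_c9 LD2_c49 LD3_c56))))))))))))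
theorem f72605 : Led Lsl_bt (LP (LK LD1_c11 LD2_c40 LD3_c29)) = (LP (LK LD1_c20 LD2_c40 LD3_c26)) :=
  Lre_b IH (LK LD1_c11 LD2_c40 LD3_c29) (LK LD1_c20 LD2_c40 LD3_c26) Lrfl Lrfl
theorem f538096 : Led Lsl_bt (LP (LK LD1_c9 LD2_c17 LD3_c58)) = (LP (LK LD1_c17 LD2_c13 LD3_c5)) :=
  Lre_b IH (LK LD1_c9 LD2_c17 LD3_c58) (LK LD1_c17 LD2_c13 LD3_c5) Lrfl Lrfl
theorem f582243 : Led Lsl_gf (LP (LK LD1_c20 LD2_c40 LD3_c26)) = (LP (LK LD1_c17 LD2_c13 LD3_c5)) :=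
  Lgr Lrot124 (Lpe (f72605 IH) (Lpr_ct (K8.f72608 IH) (Lpr_gt (K37.f72578 IH) (Lpr_cf (K37.f72540 IH) (Lpr_bt (K37.f72528 IH) (Lpe (f582241 IH) (Lpr_ct (f579604 IH) (Lpr_gt (f582234 IH) (Lpe (K40.f36585 IH) (Lpr_bt (f538096 IH) (Lpn (LP (LK LD1_c17 LD2_c13 LD3_c5)))))))))))))
theorem f538095 : Led Lsl_ft (LP (LK LD1_c17 LD2_c13 LD3_c5)) = (LP (LK LD1_c9 LD2_c17 LD3_c57)) :=
  Lre_f IH (LK LD1_c17 LD2_c13 LD3_c5) (LK LD1_c9 LD2_c17 LD3_c57) Lrfl Lrfl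
theorem f567517 : Led Lsl_at (LP (LK LD1_c9 LD2_c17 LD3_c57)) = (LP (LK LD1_c17 LD2_c13 LD3_c4)) :=
  Lre_a IH (LK LD1_c9 LD2_c17 LD3_c57) (LK LD1_c17 LD2_c13 LD3_c4) Lrfl Lrfl
theorem f582247 : Led Lsl_gt (LP (LK LD1_c20 LD2_c40 LD3_c26)) = (LP (LK LD1_c17 LD2_c13 LD3_c4)) :=
  Lgr Lrot46 (Lpr_gf (f582243 IH) (Lpr_ft (f538095 IH) (Lpr_at (f567517 IH) (Lpn (LP (LK LD1_c17 LD2_c13 LD3_c4))))))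
theorem f582251 : Led Lsl_bt (LP (LK LD1_c17 LD2_c19 LD3_c56)) = (LP (LK LD1_c17 LD2_c13 LD3_c4)) :=
  Lgr Lrot92 (Lpr_ct (K11.f14067 IH) (Lpr_gt (K11.f13752 IH) (Lpr_cf (K4.f13727 IH) (Lpr_bt (K11.f14034 IH) (Lpr_gt (K2.f14069 IH) (Lpr_ct (K2.f56977 IH) (Lpr_gt (K7.f26529 IH) (Lpe (K8.f72608 IH) (Lpr_bt (f72605 IH) (Lpr_gt (f582247 IH) (Lpn (LP (LK LD1_c17 LD2_c13 LD3_c4)))))))))))))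
theorem f210289 : Led Lsl_ct (LP (LK LD1_c17 LD2_c13 LD3_c4)) = (LP (LK LD1_c9 LD2_c18 LD3_c1)) :=
  Lre_c IH (LK LD1_c17 LD2_c13 LD3_c4) (LK LD1_c9 LD2_c18 LD3_c1) Lrfl Lrfl
theorem f186334 : Led Lsl_bt (LP (LK LD1_c1 LD2_c28 LD3_c46)) = (LP (LK LD1_c3 LD2_c5 LD3_c32)) :=
  Lre_b IH (LK LD1_c1 LD2_c28 LD3_c46) (LK LD1_c3 LD2_c5 LD3_c32) Lrfl Lrfl
theorem f210280 : Led Lsl_at (LP (LK LD1_c3 LD2_c5 LD3_c32)) = (LP (LK LD1_c6 LD2_c16 LD3_c53)) :=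
  Lre_a IH (LK LD1_c3 LD2_c5 LD3_c32) (LK LD1_c6 LD2_c16 LD3_c53) Lrfl Lrfl
theorem f205163 : Led Lsl_bt (LP (LK LD1_c4 LD2_c41 LD3_c35)) = (LP (LK LD1_c2 LD2_c17 LD3_c53)) :=
  Lre_b IH (LK LD1_c4 LD2_c41 LD3_c35) (LK LD1_c2 LD2_c17 LD3_c53) Lrfl Lrfl
theorem f210281 : Led Lsl_at (LP (LK LD1_c9 LD2_c18 LD3_c1)) = (LP (LK LD1_c4 LD2_c41 LD3_c35)) :=
  Lre_a IH (LK LD1_c9 LD2_c18 LD3_c1) (LK LD1_c4 LD2_c41 LD3_c35) Lrfl Lrfl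
theorem f210282 : Led Lsl_bt (LP (LK LD1_c6 LD2_c16 LD3_c53)) = (LP (LK LD1_c9 LD2_c18 LD3_c1)) :=
  Lgr Lrot62 (Lpe (f210280 IH) (Lpe (f186334 IH) (Lpr_af (K32.f210277 IH) (Lpe (f205163 IH) (Lpe (f210281 IH) (Lpn (LP (LK LD1_c9 LD2_c18 LD3_c1))))))))
theorem f210284 : Led Lsl_bf (LP (LK LD1_c6 LD2_c16 LD3_c53)) = (LP (LK LD1_c9 LD2_c18 LD3_c1)) :=
  Lgr Lrot24 (Lpr_bt (f210282 IH) (Lpn (LP (LK LD1_c9 LD2_c18 LD3_c1))))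
theorem f210231 : Led Lsl_ct (LP (LK LD1_c6 LD2_c16 LD3_c53)) = (LP (LK LD1_c12 LD2_c10 LD3_c25)) :=
  Lre_c IH (LK LD1_c6 LD2_c16 LD3_c53) (LK LD1_c12 LD2_c10 LD3_c25) Lrfl Lrfl
theorem f582254 : Led Lsl_bf (LP (LK LD1_c9 LD2_c23 LD3_c22)) = (LP (LK LD1_c12 LD2_c10 LD3_c25)) :=
  Lgr Lrot90 (Lpr_ct (K11.f14115 IH) (Lpr_bt (f582251 IH) (Lpr_ct (f210289 IH) (Lpe (f210284 IH) (Lpr_ct (f210231 IH) (Lpn (LP (LK LD1_c12 LD2_c10 LD3_c25))))))))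
theorem f59900 : Led Lsl_at (LP (LK LD1_c0 LD2_c40 LD3_c7)) = (LP (LK LD1_c0 LD2_c18 LD3_c3)) :=
  Lre_a IH (LK LD1_c0 LD2_c40 LD3_c7) (LK LD1_c0 LD2_c18 LD3_c3) Lrfl Lrfl
theorem f110021 : Led Lsl_gf (LP (LK LD1_c0 LD2_c18 LD3_c3)) = (LP (LK LD1_c0 LD2_c40 LD3_c8)) :=
  Lgr Lrot76 (Lpe (f59900 IH) (Lpe (K3.f58203 IH) (Lpr_gt (K3.f110016 IH) (Lpn (LP (LK LD1_c0 LD2_c40 LD3_c8))))))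
theorem f113024 : Led Lsl_df (LP (LK LD1_c3 LD2_c12 LD3_c8)) = (LP (LK LD1_c1 LD2_c34 LD3_c50)) :=
  Lgr Lrot153 (Lpr_gt (K4.f112090 IH) (Lpr_dt (K3.f62857 IH) (Lpe (K1.f22502 IH) (Lpe (K3.f62879 IH) (Lpr_gf (f110021 IH) (Lpe (K3.f110197 IH) (Lpe (K3.f93517 IH) (Lpe (K3.f63845 IH) (Lpr_gt (K3.f63841 IH) (Lpn (LP (LK LD1_c1 LD2_c34 LD3_c50))))))))))))
theorem f24192 : Led Lsl_dt (LP (LK LD1_c0 LD2_c43 LD3_c38)) = (LP (LK LD1_c1 LD2_c34 LD3_c4)) :=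
  Lre_d IH (LK LD1_c0 LD2_c43 LD3_c38) (LK LD1_c1 LD2_c34 LD3_c4) Lrfl Lrfl
theorem f210227 : Led Lsl_dt (LP (LK LD1_c12 LD2_c10 LD3_c45)) = (LP (LK LD1_c6 LD2_c16 LD3_c53)) :=
  Lre_d IH (LK LD1_c12 LD2_c10 LD3_c45) (LK LD1_c6 LD2_c16 LD3_c53) Lrfl Lrfl
theorem f68656 : Led Lsl_gt (LP (LK LD1_c3 LD2_c10 LD3_c22)) = (LP (LK LD1_c6 LD2_c25 LD3_c24)) :=
  Lre_g IH (LK LD1_c3 LD2_c10 LD3_c22) (LK LD1_c6 LD2_c25 LD3_c24) Lrfl Lrfl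
theorem f210224 : Led Lsl_gt (LP (LK LD1_c6 LD2_c25 LD3_c24)) = (LP (LK LD1_c12 LD2_c10 LD3_c45)) :=
  Lgr Lrot46 (Lpe (f68656 IH) (Lpr_ft (K40.f210215 IH) (Lpr_at (K40.f210172 IH) (Lpn (LP (LK LD1_c12 LD2_c10 LD3_c45))))))
theorem f582258 : Led Lsl_bt (LP (LK LD1_c7 LD2_c36 LD3_c16)) = (LP (LK LD1_c6 LD2_c25 LD3_c24)) :=
  Lgr Lrot178 (Lpe (K6.f135805 IH) (Lpr_df (K37.f156670 IH) (Lpe (K4.f58837 IH) (Lpe (K4.f58804 IH) (Lpr_cf (K3.f65873 IH) (Lpe (f24192 IH) (Lpe (K4.f24203 IH) (Lpr_bf (K4.f111885 IH) (Lpe (K7.f112082 IH) (Lpr_df (f113024 IH) (Lpe (K3.f63841 IH) (Lpe (K7.f69316 IH) (Lpe (K4.f14346 IH) (Lpe (K4.f14008 IH) (Lpe (K11.f13752 IH) (Lpr_bf (f582254 IH) (Lpe (f210231 IH) (Lpe (f210227 IH) (Lpe (f210224 IH) (Lpn (LP (LK LD1_c6 LD2_c25 LD3_c24))))))))))))))))))))))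
theorem f582269 : Led Lsl_cf (LP (LK LD1_c6 LD2_c20 LD3_c21)) = (LP (LK LD1_c12 LD2_c10 LD3_c45)) :=
  Lgr Lrot125 (Lpr_gt (K30.f131602 IH) (Lpe (K30.f104092 IH) (Lpr_bt (K6.f26245 IH) (Lpr_gt (K6.f144339 IH) (Lpe (K6.f144347 IH) (Lpe (K6.f135764 IH) (Lpr_gt (K6.f113300 IH) (Lpr_cf (K32.f135816 IH) (Lpr_bt (f582258 IH) (Lpr_gt (f210224 IH) (Lpn (LP (LK LD1_c12 LD2_c10 LD3_c45)))))))))))))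
theorem f134803 : Led Lsl_gt (LP (LK LD1_c3 LD2_c43 LD3_c3)) = (LP (LK LD1_c7 LD2_c26 LD3_c48)) :=
  Lre_g IH (LK LD1_c3 LD2_c43 LD3_c3) (LK LD1_c7 LD2_c26 LD3_c48) Lrfl Lrfl
theorem f582273 : Led Lsl_bf (LP (LK LD1_c7 LD2_c26 LD3_c48)) = (LP (LK LD1_c12 LD2_c10 LD3_c45)) :=
  Lgr Lrot34 (Lpe (f134803 IH) (Lpe (K40.f129276 IH) (Lpr_ct (K4.f107059 IH) (Lpe (K5.f134794 IH) (Lpe (K6.f24847 IH) (Lpe (K6.f144339 IH) (Lpe (K6.f26245 IH) (Lpr_ct (K30.f104092 IH) (Lpe (K30.f131602 IH) (Lpr_cf (f582269 IH) (Lpn (LP (LK LD1_c12 LD2_c10 LD3_c45)))))))))))))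
theorem f68967 : Led Lsl_at (LP (LK LD1_c3 LD2_c10 LD3_c22)) = (LP (LK LD1_c6 LD2_c25 LD3_c26)) :=
  Lre_a IH (LK LD1_c3 LD2_c10 LD3_c22) (LK LD1_c6 LD2_c25 LD3_c26) Lrfl Lrfl
theorem f210207 : Led Lsl_at (LP (LK LD1_c12 LD2_c10 LD3_c45)) = (LP (LK LD1_c6 LD2_c16 LD3_c54)) :=
  Lre_a IH (LK LD1_c12 LD2_c10 LD3_c45) (LK LD1_c6 LD2_c16 LD3_c54) Lrfl Lrfl
theorem f210208 : Led Lsl_ft (LP (LK LD1_c6 LD2_c25 LD3_c26)) = (LP (LK LD1_c12 LD2_c10 LD3_c45)) :=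
  Lgr Lrot101 (Lpe (f68967 IH) (Lpr_ff (K40.f210201 IH) (Lpe (f210207 IH) (Lpn (LP (LK LD1_c12 LD2_c10 LD3_c45))))))
theorem f104854 : Led Lsl_bt (LP (LK LD1_c2 LD2_c19 LD3_c2)) = (LP (LK LD1_c4 LD2_c42 LD3_c60)) :=
  Lre_b IH (LK LD1_c2 LD2_c19 LD3_c2) (LK LD1_c4 LD2_c42 LD3_c60) Lrfl Lrfl
theorem f558012 : Led Lsl_bt (LP (LK LD1_c6 LD2_c31 LD3_c8)) = (LP (LK LD1_c6 LD2_c25 LD3_c26)) :=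
  Lgr Lrot62 (Lpr_af (K40.f558008 IH) (Lpe (f104854 IH) (Lpe (K36.f204303 IH) (Lpe (K40.f68971 IH) (Lpe (K40.f68956 IH) (Lpn (LP (LK LD1_c6 LD2_c25 LD3_c26))))))))
theorem f582279 : Led Lsl_ft (LP (LK LD1_c7 LD2_c26 LD3_c48)) = (LP (LK LD1_c6 LD2_c31 LD3_c8)) :=
  Lgr Lrot75 (Lpr_bf (f582273 IH) (Lpe (f210208 IH) (Lpe (f558012 IH) (Lpn (LP (LK LD1_c6 LD2_c31 LD3_c8))))))
theorem f582283 : Led Lsl_ff (LP (LK LD1_c7 LD2_c26 LD3_c48)) = (LP (LK LD1_c6 LD2_c31 LD3_c8)) :=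
  Lgr Lrot3 (Lpr_ft (f582279 IH) (Lpn (LP (LK LD1_c6 LD2_c31 LD3_c8))))
theorem f582277 : Led Lsl_dt (LP (LK LD1_c7 LD2_c26 LD3_c48)) = (LP (LK LD1_c9 LD2_c18 LD3_c1)) :=
  Lgr Lrot79 (Lpr_bf (f582273 IH) (Lpe (K40.f210232 IH) (Lpr_bf (f210284 IH) (Lpn (LP (LK LD1_c9 LD2_c18 LD3_c1))))))
theorem f440033 : Led Lsl_dt (LP (LK LD1_c12 LD2_c30 LD3_c51)) = (LP (LK LD1_c6 LD2_c31 LD3_c8)) :=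
  Lre_d IH (LK LD1_c12 LD2_c30 LD3_c51) (LK LD1_c6 LD2_c31 LD3_c8) Lrfl Lrfl
theorem f582285 : Led Lsl_ft (LP (LK LD1_c9 LD2_c18 LD3_c1)) = (LP (LK LD1_c12 LD2_c30 LD3_c51)) :=
  Lgr Lrot54 (Lpe (f582277 IH) (Lpr_ff (f582283 IH) (Lpe (f440033 IH) (Lpn (LP (LK LD1_c12 LD2_c30 LD3_c51))))))
theorem f582289 : Led Lsl_ff (LP (LK LD1_c9 LD2_c18 LD3_c1)) = (LP (LK LD1_c12 LD2_c30 LD3_c51)) :=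
  Lgr Lrot3 (Lpr_ft (f582285 IH) (Lpn (LP (LK LD1_c12 LD2_c30 LD3_c51))))
theorem f582301 : Led Lsl_gf (LP (LK LD1_c9 LD2_c18 LD3_c0)) = (LP (LK LD1_c12 LD2_c30 LD3_c51)) :=
  Lgr Lrot47 (Lpr_gt (K37.f225446 IH) (Lpe (f210281 IH) (Lpr_ff (f582289 IH) (Lpn (LP (LK LD1_c12 LD2_c30 LD3_c51))))))
theorem f544052 : Led Lsl_dt (LP (LK LD1_c9 LD2_c18 LD3_c0)) = (LP (LK LD1_c6 LD2_c31 LD3_c36)) :=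
  Lgr Lrot60 (Lpr_ff (K37.f544047 IH) (Lpr_df (K11.f209330 IH) (Lpe (K36.f209383 IH) (Lpn (LP (LK LD1_c6 LD2_c31 LD3_c36))))))
theorem f205166 : Led Lsl_gt (LP (LK LD1_c17 LD2_c13 LD3_c3)) = (LP (LK LD1_c9 LD2_c17 LD3_c57)) :=
  Lre_g IH (LK LD1_c17 LD2_c13 LD3_c3) (LK LD1_c9 LD2_c17 LD3_c57) Lrfl Lrfl
theorem f544009 : Led Lsl_dt (LP (LK LD1_c17 LD2_c13 LD3_c3)) = (LP (LK LD1_c17 LD2_c5 LD3_c43)) :=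
  Lgr Lrot6 (Lpr_gt (f205166 IH) (Lpr_ct (K37.f205164 IH) (Lpr_gt (K37.f544005 IH) (Lpr_ct (K8.f148138 IH) (Lpe (K37.f203558 IH) (Lpe (K6.f118833 IH) (Lpe (K6.f93388 IH) (Lpe (K6.f93424 IH) (Lpe (K6.f96246 IH) (Lpn (LP (LK LD1_c17 LD2_c5 LD3_c43))))))))))))
theorem f582295 : Led Lsl_ct (LP (LK LD1_c21 LD2_c37 LD3_c16)) = (LP (LK LD1_c12 LD2_c30 LD3_c51)) :=
  Lre_c IH (LK LD1_c21 LD2_c37 LD3_c16) (LK LD1_c12 LD2_c30 LD3_c51) Lrfl Lrfl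
theorem f582303 : Led Lsl_gf (LP (LK LD1_c17 LD2_c13 LD3_c3)) = (LP (LK LD1_c21 LD2_c37 LD3_c16)) :=
  Lgr Lrot144 (Lpr_dt (f544009 IH) (Lpr_gt (K6.f96246 IH) (Lpr_dt (K41.f567625 IH) (Lpe (K36.f210788 IH) (Lpe (K36.f540117 IH) (Lpe (K36.f209390 IH) (Lpe (f544052 IH) (Lpr_gf (f582301 IH) (Lpe (f582295 IH) (Lpn (LP (LK LD1_c21 LD2_c37 LD3_c16))))))))))))
theorem f156451 : Led Lsl_ct (LP (LK LD1_c12 LD2_c30 LD3_c51)) = (LP (LK LD1_c21 LD2_c37 LD3_c16)) :=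
  Lre_c IH (LK LD1_c12 LD2_c30 LD3_c51) (LK LD1_c21 LD2_c37 LD3_c16) Lrfl Lrfl
theorem f156450 : Led Lsl_dt (LP (LK LD1_c6 LD2_c31 LD3_c8)) = (LP (LK LD1_c12 LD2_c30 LD3_c51)) :=
  Lre_d IH (LK LD1_c6 LD2_c31 LD3_c8) (LK LD1_c12 LD2_c30 LD3_c51) Lrfl Lrfl
theorem f558027 : Led Lsl_bt (LP (LK LD1_c12 LD2_c30 LD3_c51)) = (LP (LK LD1_c12 LD2_c10 LD3_c38)) :=
  Lgr Lrot95 (Lpe (f156450 IH) (Lpr_bf (K40.f558025 IH) (Lpr_df (K40.f210241 IH) (Lpn (LP (LK LD1_c12 LD2_c10 LD3_c38))))))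
theorem f558043 : Led Lsl_cf (LP (LK LD1_c7 LD2_c51 LD3_c55)) = (LP (LK LD1_c12 LD2_c10 LD3_c40)) :=
  Lgr Lrot11 (Lpr_ct (K40.f558037 IH) (Lpn (LP (LK LD1_c12 LD2_c10 LD3_c40))))
theorem f122987 : Led Lsl_bt (LP (LK LD1_c14 LD2_c46 LD3_c31)) = (LP (LK LD1_c7 LD2_c49 LD3_c61)) :=
  Lre_b IH (LK LD1_c14 LD2_c46 LD3_c31) (LK LD1_c7 LD2_c49 LD3_c61) Lrfl Lrfl
theorem f582309 : Led Lsl_cf (LP (LK LD1_c17 LD2_c13 LD3_c3)) = (LP (LK LD1_c14 LD2_c46 LD3_c31)) :=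
  Lgr Lrot58 (Lpr_gf (f582303 IH) (Lpe (f156451 IH) (Lpr_bt (f558027 IH) (Lpe (K40.f210245 IH) (Lpe (K40.f210252 IH) (Lpe (f558043 IH) (Lpe (K40.f11770 IH) (Lpr_cf (K6.f122964 IH) (Lpe (K7.f122986 IH) (Lpe (f122987 IH) (Lpn (LP (LK LD1_c14 LD2_c46 LD3_c31)))))))))))))
theorem f582311 : Led Lsl_gt (LP (LK LD1_c7 LD2_c27 LD3_c11)) = (LP (LK LD1_c12 LD2_c30 LD3_c51)) :=
  Lgr Lrot82 (Lpe (K11.f148133 IH) (Lpe (K7.f148110 IH) (Lpr_gf (K6.f142712 IH) (Lpe (K7.f21156 IH) (Lpr_bt (K6.f122981 IH) (Lpe (K7.f122986 IH) (Lpe (f122987 IH) (Lpe (f582309 IH) (Lpr_gf (f582303 IH) (Lpe (f156451 IH) (Lpn (LP (LK LD1_c12 LD2_c30 LD3_c51)))))))))))))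
theorem f582313 : Led Lsl_bf (LP (LK LD1_c17 LD2_c24 LD3_c37)) = (LP (LK LD1_c21 LD2_c37 LD3_c16)) :=
  Lgr Lrot156 (Lpe (K37.f101889 IH) (Lpe (K11.f101886 IH) (Lpr_ct (K8.f36590 IH) (Lpe (K8.f161931 IH) (Lpe (K6.f119701 IH) (Lpr_bt (K8.f149590 IH) (Lpr_gt (K8.f159008 IH) (Lpr_ct (K8.f148121 IH) (Lpr_gt (f582311 IH) (Lpe (f582295 IH) (Lpn (LP (LK LD1_c21 LD2_c37 LD3_c16)))))))))))))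
theorem f80829 : Led Lsl_bt (LP (LK LD1_c9 LD2_c26 LD3_c35)) = (LP (LK LD1_c17 LD2_c24 LD3_c36)) :=
  Lre_b IH (LK LD1_c9 LD2_c26 LD3_c35) (LK LD1_c17 LD2_c24 LD3_c36) Lrfl Lrfl
theorem f210249 : Led Lsl_ft (LP (LK LD1_c6 LD2_c16 LD3_c53)) = (LP (LK LD1_c12 LD2_c10 LD3_c38)) :=
  Lre_f IH (LK LD1_c6 LD2_c16 LD3_c53) (LK LD1_c12 LD2_c10 LD3_c38) Lrfl Lrfl
theorem f582293 : Led Lsl_bt (LP (LK LD1_c12 LD2_c10 LD3_c38)) = (LP (LK LD1_c12 LD2_c30 LD3_c51)) :=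
  Lgr Lrot35 (Lpe (f210249 IH) (Lpr_bf (f210284 IH) (Lpr_ff (f582289 IH) (Lpn (LP (LK LD1_c12 LD2_c30 LD3_c51))))))
theorem f582317 : Led Lsl_ct (LP (LK LD1_c17 LD2_c24 LD3_c36)) = (LP (LK LD1_c12 LD2_c10 LD3_c38)) :=
  Lgr Lrot83 (Lpe (f80829 IH) (Lpe (K6.f40544 IH) (Lpr_bf (f582313 IH) (Lpe (f156451 IH) (Lpe (f582293 IH) (Lpn (LP (LK LD1_c12 LD2_c10 LD3_c38))))))))
theorem f558031 : Led Lsl_ct (LP (LK LD1_c6 LD2_c28 LD3_c54)) = (LP (LK LD1_c6 LD2_c25 LD3_c26)) :=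
  Lgr Lrot59 (Lpr_cf (K40.f558029 IH) (Lpn (LP (LK LD1_c6 LD2_c25 LD3_c26))))
theorem f546767 : Led Lsl_ct (LP (LK LD1_c12 LD2_c31 LD3_c30)) = (LP (LK LD1_c12 LD2_c10 LD3_c23)) :=
  Lgr Lrot59 (Lpr_cf (K37.f546761 IH) (Lpn (LP (LK LD1_c12 LD2_c10 LD3_c23))))
theorem f582328 : Led Lsl_gf (LP (LK LD1_c17 LD2_c24 LD3_c36)) = (LP (LK LD1_c12 LD2_c10 LD3_c23)) :=
  Lgr Lrot104 (Lpr_ct (f582317 IH) (Lpe (K40.f210234 IH) (Lpe (f558031 IH) (Lpr_gf (K36.f208852 IH) (Lpr_cf (K7.f130906 IH) (Lpe (K40.f150780 IH) (Lpe (K30.f150776 IH) (Lpe (K24.f207667 IH) (Lpr_ct (f546767 IH) (Lpn (LP (LK LD1_c12 LD2_c10 LD3_c23))))))))))))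
theorem f546765 : Led Lsl_bt (LP (LK LD1_c9 LD2_c25 LD3_c27)) = (LP (LK LD1_c12 LD2_c10 LD3_c23)) :=
  Lgr Lrot128 (Lpe (K36.f420292 IH) (Lpe (K40.f157836 IH) (Lpe (K24.f40666 IH) (Lpe (K24.f207677 IH) (Lpr_cf (K37.f546761 IH) (Lpn (LP (LK LD1_c12 LD2_c10 LD3_c23))))))))
theorem f420297 : Led Lsl_cf (LP (LK LD1_c7 LD2_c57 LD3_c16)) = (LP (LK LD1_c9 LD2_c25 LD3_c27)) :=
  Lgr Lrot11 (Lpr_ct (K36.f420292 IH) (Lpn (LP (LK LD1_c9 LD2_c25 LD3_c27))))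
theorem f26547 : Led Lsl_bt (LP (LK LD1_c5 LD2_c58 LD3_c19)) = (LP (LK LD1_c2 LD2_c55 LD3_c31)) :=
  Lre_b IH (LK LD1_c5 LD2_c58 LD3_c19) (LK LD1_c2 LD2_c55 LD3_c31) Lrfl Lrfl
theorem f150436 : Led Lsl_bf (LP (LK LD1_c5 LD2_c58 LD3_c23)) = (LP (LK LD1_c9 LD2_c22 LD3_c38)) :=
  Lgr Lrot24 (Lpr_bt (K28.f150434 IH) (Lpn (LP (LK LD1_c9 LD2_c22 LD3_c38))))
theorem f210243 : Led Lsl_gt (LP (LK LD1_c12 LD2_c10 LD3_c38)) = (LP (LK LD1_c6 LD2_c16 LD3_c52)) :=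
  Lre_g IH (LK LD1_c12 LD2_c10 LD3_c38) (LK LD1_c6 LD2_c16 LD3_c52) Lrfl Lrfl
theorem f582334 : Led Lsl_ct (LP (LK LD1_c9 LD2_c22 LD3_c38)) = (LP (LK LD1_c6 LD2_c16 LD3_c52)) :=
  Lgr Lrot63 (Lpe (f150436 IH) (Lpr_gt (K8.f150243 IH) (Lpe (f26547 IH) (Lpe (K28.f420611 IH) (Lpe (K36.f420301 IH) (Lpr_cf (f420297 IH) (Lpr_bt (f546765 IH) (Lpe (f582328 IH) (Lpr_ct (f582317 IH) (Lpr_gt (f210243 IH) (Lpn (LP (LK LD1_c6 LD2_c16 LD3_c52)))))))))))))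
theorem f162710 : Led Lsl_at (LP (LK LD1_c14 LD2_c11 LD3_c59)) = (LP (LK LD1_c7 LD2_c31 LD3_c39)) :=
  Lre_a IH (LK LD1_c14 LD2_c11 LD3_c59) (LK LD1_c7 LD2_c31 LD3_c39) Lrfl Lrfl
theorem f424787 : Led Lsl_ff (LP (LK LD1_c14 LD2_c11 LD3_c59)) = (LP (LK LD1_c21 LD2_c6 LD3_c49)) :=
  Lgr Lrot30 (Lpr_at (f162710 IH) (Lpe (K36.f162713 IH) (Lpr_at (K36.f424783 IH) (Lpn (LP (LK LD1_c21 LD2_c6 LD3_c49))))))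
theorem f424900 : Led Lsl_ft (LP (LK LD1_c14 LD2_c11 LD3_c59)) = (LP (LK LD1_c21 LD2_c6 LD3_c49)) :=
  Lgr Lrot48 (Lpr_ff (f424787 IH) (Lpn (LP (LK LD1_c21 LD2_c6 LD3_c49))))
theorem f424785 : Led Lsl_af (LP (LK LD1_c12 LD2_c1 LD3_c54)) = (LP (LK LD1_c21 LD2_c6 LD3_c49)) :=
  Lgr Lrot0 (Lpr_at (K36.f424783 IH) (Lpn (LP (LK LD1_c21 LD2_c6 LD3_c49))))
theorem f157280 : Led Lsl_gf (LP (LK LD1_c12 LD2_c31 LD3_c25)) = (LP (LK LD1_c12 LD2_c1 LD3_c54)) :=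
  Lgr Lrot85 (Lpr_dt (K28.f149836 IH) (Lpr_ct (K8.f157276 IH) (Lpr_bt (K8.f131600 IH) (Lpe (K5.f131594 IH) (Lpr_dt (K5.f104343 IH) (Lpr_ct (K5.f65560 IH) (Lpr_bt (K3.f65559 IH) (Lpe (K3.f96721 IH) (Lpr_dt (K3.f95985 IH) (Lpr_ct (K3.f95986 IH) (Lpr_bt (K3.f104195 IH) (Lpe (K3.f107274 IH) (Lpr_dt (K3.f95914 IH) (Lpr_ct (K5.f95906 IH) (Lpr_bt (K5.f107280 IH) (Lpr_gt (K5.f107281 IH) (Lpr_dt (K8.f145260 IH) (Lpr_ct (K7.f105242 IH) (Lpr_bt (K36.f122294 IH) (Lpn (LP (LK LD1_c12 LD2_c1 LD3_c54))))))))))))))))))))))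
theorem f419232 : Led Lsl_gf (LP (LK LD1_c12 LD2_c1 LD3_c54)) = (LP (LK LD1_c12 LD2_c31 LD3_c28)) :=
  Lgr Lrot47 (Lpe (f157280 IH) (Lpr_af (K28.f419170 IH) (Lpr_ff (K28.f419224 IH) (Lpn (LP (LK LD1_c12 LD2_c31 LD3_c28))))))
theorem f424905 : Led Lsl_gt (LP (LK LD1_c14 LD2_c11 LD3_c59)) = (LP (LK LD1_c12 LD2_c31 LD3_c28)) :=
  Lgr Lrot5 (Lpr_ft (f424900 IH) (Lpe (f424785 IH) (Lpr_gf (f419232 IH) (Lpn (LP (LK LD1_c12 LD2_c31 LD3_c28))))))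
theorem f424907 : Led Lsl_gf (LP (LK LD1_c14 LD2_c11 LD3_c59)) = (LP (LK LD1_c12 LD2_c31 LD3_c25)) :=
  Lgr Lrot47 (Lpr_gt (f424905 IH) (Lpe (K28.f419222 IH) (Lpe (K28.f419182 IH) (Lpn (LP (LK LD1_c12 LD2_c31 LD3_c25))))))
theorem f210247 : Led Lsl_dt (LP (LK LD1_c12 LD2_c10 LD3_c44)) = (LP (LK LD1_c6 LD2_c16 LD3_c52)) :=
  Lre_d IH (LK LD1_c12 LD2_c10 LD3_c44) (LK LD1_c6 LD2_c16 LD3_c52) Lrfl Lrfl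
theorem f582340 : Led Lsl_ct (LP (LK LD1_c14 LD2_c11 LD3_c59)) = (LP (LK LD1_c12 LD2_c10 LD3_c44)) :=
  Lgr Lrot110 (Lpr_gf (f424907 IH) (Lpe (K8.f148546 IH) (Lpe (K8.f148543 IH) (Lpe (K40.f148545 IH) (Lpr_gt (K28.f146860 IH) (Lpr_ct (K40.f207936 IH) (Lpr_gt (K28.f104540 IH) (Lpr_ct (f582334 IH) (Lpe (f210247 IH) (Lpn (LP (LK LD1_c12 LD2_c10 LD3_c44))))))))))))
theorem f582344 : Led Lsl_cf (LP (LK LD1_c14 LD2_c11 LD3_c59)) = (LP (LK LD1_c12 LD2_c10 LD3_c44)) :=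
  Lgr Lrot11 (Lpr_ct (f582340 IH) (Lpn (LP (LK LD1_c12 LD2_c10 LD3_c44))))
theorem f424898 : Led Lsl_bt (LP (LK LD1_c14 LD2_c11 LD3_c59)) = (LP (LK LD1_c11 LD2_c36 LD3_c28)) :=
  Lgr Lrot35 (Lpr_ff (f424787 IH) (Lpe (K28.f158836 IH) (Lpe (K36.f163031 IH) (Lpn (LP (LK LD1_c11 LD2_c36 LD3_c28))))))
theorem f81991 : Led Lsl_bt (LP (LK LD1_c1 LD2_c23 LD3_c5)) = (LP (LK LD1_c2 LD2_c54 LD3_c9)) :=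
  Lre_b IH (LK LD1_c1 LD2_c23 LD3_c5) (LK LD1_c2 LD2_c54 LD3_c9) Lrfl Lrfl
theorem f163188 : Led Lsl_at (LP (LK LD1_c4 LD2_c59 LD3_c23)) = (LP (LK LD1_c5 LD2_c57 LD3_c51)) :=
  Lgr Lrot100 (Lpr_af (K8.f163186 IH) (Lpn (LP (LK LD1_c5 LD2_c57 LD3_c51))))
theorem f424607 : Led Lsl_at (LP (LK LD1_c2 LD2_c55 LD3_c16)) = (LP (LK LD1_c2 LD2_c55 LD3_c7)) :=
  Lgr Lrot107 (Lpe (K6.f72593 IH) (Lpe (f163188 IH) (Lpr_cf (K28.f424605 IH) (Lpn (LP (LK LD1_c2 LD2_c55 LD3_c7))))))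
theorem f163103 : Led Lsl_ft (LP (LK LD1_c2 LD2_c54 LD3_c9)) = (LP (LK LD1_c2 LD2_c55 LD3_c16)) :=
  Lgr Lrot75 (Lpe (f81991 IH) (Lpr_ff (K8.f163098 IH) (Lpr_bf (K7.f101614 IH) (Lpn (LP (LK LD1_c2 LD2_c55 LD3_c16))))))
theorem f559348 : Led Lsl_gt (LP (LK LD1_c2 LD2_c54 LD3_c9)) = (LP (LK LD1_c3 LD2_c0 LD3_c35)) :=
  Lgr Lrot5 (Lpr_ft (f163103 IH) (Lpr_at (f424607 IH) (Lpr_gf (K42.f559346 IH) (Lpn (LP (LK LD1_c3 LD2_c0 LD3_c35))))))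
theorem f76130 : Led Lsl_dt (LP (LK LD1_c3 LD2_c0 LD3_c35)) = (LP (LK LD1_c1 LD2_c26 LD3_c7)) :=
  Lre_d IH (LK LD1_c3 LD2_c0 LD3_c35) (LK LD1_c1 LD2_c26 LD3_c7) Lrfl Lrfl
theorem f502814 : Led Lsl_ct (LP (LK LD1_c1 LD2_c26 LD3_c7)) = K37.v1775 :=
  Lgr Lrot15 (Lpe (K36.f75044 IH) (Lpe (K37.f37269 IH) (Lpr_ef (K37.f502812 IH) (Lpn K37.v1775))))
theorem f452970 : Led Lsl_bf (LP (LK LD1_c1 LD2_c26 LD3_c6)) = K24.v458 :=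
  Lgr Lrot24 (Lpr_bt (K37.f452968 IH) (Lpn K24.v458))
theorem f210244 : Led Lsl_dt (LP (LK LD1_c6 LD2_c16 LD3_c52)) = (LP (LK LD1_c12 LD2_c10 LD3_c44)) :=
  Lre_d IH (LK LD1_c6 LD2_c16 LD3_c52) (LK LD1_c12 LD2_c10 LD3_c44) Lrfl Lrfl
theorem f582349 : Led Lsl_dt (LP (LK LD1_c17 LD2_c58 LD3_c0)) = (LP (LK LD1_c21 LD2_c37 LD3_c16)) :=
  Lgr Lrot182 (Lpe (K32.f157058 IH) (Lpe (K32.f157048 IH) (Lpr_cf (K8.f157046 IH) (Lpr_df (K32.f161068 IH) (Lpe (K32.f426316 IH) (Lpr_bf (f452970 IH) (Lpq (K37.f538022 IH) (Lpe (f502814 IH) (Lpe (f76130 IH) (Lpe (f559348 IH) (Lpe (f81991 IH) (Lpe (K6.f69450 IH) (Lpe (K8.f71954 IH) (Lpr_gf (K8.f162997 IH) (Lpe (f424898 IH) (Lpr_cf (f582344 IH) (Lpe (f210244 IH) (Lpe (f210243 IH) (Lpe (f558027 IH) (Lpe (f582295 IH) (Lpn (LP (LK LD1_c21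 LD2_c37 LD3_c16)))))))))))))))))))))))
theorem f65602 : Led Lsl_at (LP (LK LD1_c3 LD2_c15 LD3_c27)) = (LP (LK LD1_c6 LD2_c34 LD3_c13)) :=
  Lre_a IH (LK LD1_c3 LD2_c15 LD3_c27) (LK LD1_c6 LD2_c34 LD3_c13) Lrfl Lrfl
theorem f207522 : Led Lsl_dt (LP (LK LD1_c6 LD2_c34 LD3_c13)) = (LP (LK LD1_c12 LD2_c28 LD3_c16)) :=
  Lgr Lrot44 (Lpe (f65602 IH) (Lpe (K4.f65613 IH) (Lpr_af (K32.f207509 IH) (Lpn (LP (LK LD1_c12 LD2_c28 LD3_c16))))))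
theorem f65582 : Led Lsl_bt (LP (LK LD1_c3 LD2_c15 LD3_c29)) = (LP (LK LD1_c6 LD2_c34 LD3_c15)) :=
  Lre_b IH (LK LD1_c3 LD2_c15 LD3_c29) (LK LD1_c6 LD2_c34 LD3_c15) Lrfl Lrfl
theorem f65584 : Led Lsl_bt (LP (LK LD1_c1 LD2_c33 LD3_c11)) = (LP (LK LD1_c3 LD2_c13 LD3_c25)) :=
  Lre_b IH (LK LD1_c1 LD2_c33 LD3_c11) (LK LD1_c3 LD2_c13 LD3_c25) Lrfl Lrfl
theorem f65585 : Led Lsl_ct (LP (LK LD1_c3 LD2_c13 LD3_c28)) = (LP (LK LD1_c1 LD2_c33 LD3_c11)) :=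
  Lre_c IH (LK LD1_c3 LD2_c13 LD3_c28) (LK LD1_c1 LD2_c33 LD3_c11) Lrfl Lrfl
theorem f65586 : Led Lsl_bt (LP (LK LD1_c6 LD2_c30 LD3_c40)) = (LP (LK LD1_c3 LD2_c13 LD3_c28)) :=
  Lre_b IH (LK LD1_c6 LD2_c30 LD3_c40) (LK LD1_c3 LD2_c13 LD3_c28) Lrfl Lrfl
theorem f65587 : Led Lsl_ct (LP (LK LD1_c6 LD2_c34 LD3_c15)) = (LP (LK LD1_c6 LD2_c30 LD3_c40)) :=
  Lgr Lrot83 (Lpe (f65582 IH) (Lpr_cf (K34.f65579 IH) (Lpe (f65584 IH) (Lpe (f65585 IH) (Lpe (f65586 IH) (Lpn (LP (LK LD1_c6 LD2_c30 LD3_c40))))))))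
theorem f65597 : Led Lsl_et (LP (LK LD1_c3 LD2_c15 LD3_c27)) = (LP (LK LD1_c6 LD2_c34 LD3_c15)) :=
  Lre_e IH (LK LD1_c3 LD2_c15 LD3_c27) (LK LD1_c6 LD2_c34 LD3_c15) Lrfl Lrfl
theorem f65598 : Led Lsl_et (LP (LK LD1_c6 LD2_c30 LD3_c40)) = (LP (LK LD1_c3 LD2_c13 LD3_c26)) :=
  Lre_e IH (LK LD1_c6 LD2_c30 LD3_c40) (LK LD1_c3 LD2_c13 LD3_c26) Lrfl Lrfl
theorem f65599 : Led Lsl_cf (LP (LK LD1_c3 LD2_c15 LD3_c27)) = (LP (LK LD1_c3 LD2_c13 LD3_c26)) :=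
  Lgr Lrot39 (Lpr_et (f65597 IH) (Lpr_ct (f65587 IH) (Lpr_et (f65598 IH) (Lpn (LP (LK LD1_c3 LD2_c13 LD3_c26))))))
theorem f65603 : Led Lsl_at (LP (LK LD1_c6 LD2_c30 LD3_c38)) = (LP (LK LD1_c3 LD2_c13 LD3_c26)) :=
  Lre_a IH (LK LD1_c6 LD2_c30 LD3_c38) (LK LD1_c3 LD2_c13 LD3_c26) Lrfl Lrfl
theorem f65604 : Led Lsl_ct (LP (LK LD1_c6 LD2_c34 LD3_c13)) = (LP (LK LD1_c6 LD2_c30 LD3_c38)) :=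
  Lgr Lrot111 (Lpe (f65602 IH) (Lpr_cf (f65599 IH) (Lpe (f65603 IH) (Lpn (LP (LK LD1_c6 LD2_c30 LD3_c38))))))
theorem f65618 : Led Lsl_cf (LP (LK LD1_c6 LD2_c34 LD3_c13)) = (LP (LK LD1_c6 LD2_c30 LD3_c38)) :=
  Lgr Lrot11 (Lpr_ct (f65604 IH) (Lpn (LP (LK LD1_c6 LD2_c30 LD3_c38))))
theorem f210555 : Led Lsl_ft (LP (LK LD1_c4 LD2_c41 LD3_c35)) = (LP (LK LD1_c9 LD2_c18 LD3_c2)) :=
  Lre_f IH (LK LD1_c4 LD2_c41 LD3_c35) (LK LD1_c9 LD2_c18 LD3_c2) Lrfl Lrfl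
theorem f582291 : Led Lsl_at (LP (LK LD1_c9 LD2_c18 LD3_c2)) = (LP (LK LD1_c12 LD2_c30 LD3_c51)) :=
  Lgr Lrot66 (Lpe (f210555 IH) (Lpe (f210281 IH) (Lpr_ff (f582289 IH) (Lpn (LP (LK LD1_c12 LD2_c30 LD3_c51))))))
theorem f210271 : Led Lsl_bt (LP (LK LD1_c9 LD2_c18 LD3_c2)) = (LP (LK LD1_c4 LD2_c41 LD3_c37)) :=
  Lre_b IH (LK LD1_c9 LD2_c18 LD3_c2) (LK LD1_c4 LD2_c41 LD3_c37) Lrfl Lrfl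
theorem f210272 : Led Lsl_dt (LP (LK LD1_c4 LD2_c42 LD3_c60)) = (LP (LK LD1_c9 LD2_c18 LD3_c2)) :=
  Lgr Lrot79 (Lpe (f104854 IH) (Lpr_df (K11.f210269 IH) (Lpe (f210271 IH) (Lpn (LP (LK LD1_c9 LD2_c18 LD3_c2))))))
theorem f210553 : Led Lsl_ft (LP (LK LD1_c9 LD2_c18 LD3_c2)) = (LP (LK LD1_c4 LD2_c41 LD3_c35)) :=
  Lre_f IH (LK LD1_c9 LD2_c18 LD3_c2) (LK LD1_c4 LD2_c41 LD3_c35) Lrfl Lrfl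
theorem f558004 : Led Lsl_df (LP (LK LD1_c6 LD2_c31 LD3_c9)) = (LP (LK LD1_c4 LD2_c41 LD3_c35)) :=
  Lgr Lrot78 (Lpr_ft (K40.f558000 IH) (Lpr_dt (f210272 IH) (Lpr_ft (f210553 IH) (Lpn (LP (LK LD1_c4 LD2_c41 LD3_c35))))))
theorem f94005 : Led Lsl_ct (LP (LK LD1_c6 LD2_c31 LD3_c9)) = (LP (LK LD1_c8 LD2_c0 LD3_c37)) :=
  Lgr Lrot59 (Lpr_cf (K40.f94002 IH) (Lpn (LP (LK LD1_c8 LD2_c0 LD3_c37))))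
theorem f582353 : Led Lsl_df (LP (LK LD1_c6 LD2_c30 LD3_c38)) = (LP (LK LD1_c8 LD2_c0 LD3_c37)) :=
  Lgr Lrot106 (Lpe (f65618 IH) (Lpr_dt (f207522 IH) (Lpe (K32.f207533 IH) (Lpr_dt (f582349 IH) (Lpr_ct (f582295 IH) (Lpe (f582291 IH) (Lpe (f210555 IH) (Lpe (f558004 IH) (Lpr_ct (f94005 IH) (Lpn (LP (LK LD1_c8 LD2_c0 LD3_c37))))))))))))
theorem f582359 : Led Lsl_dt (LP (LK LD1_c12 LD2_c39 LD3_c32)) = (LP (LK LD1_c9 LD2_c17 LD3_c57)) :=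
  Lgr Lrot32 (Lpe (K32.f66276 IH) (Lpe (K4.f96287 IH) (Lpr_ft (K4.f111551 IH) (Lpr_at (f65602 IH) (Lpr_cf (f65618 IH) (Lpr_df (f582353 IH) (Lpe (f94005 IH) (Lpr_df (f558004 IH) (Lpe (K37.f205164 IH) (Lpn (LP (LK LD1_c9 LD2_c17 LD3_c57))))))))))))
theorem f538099 : Led Lsl_ft (LP (LK LD1_c9 LD2_c17 LD3_c57)) = (LP (LK LD1_c17 LD2_c13 LD3_c5)) :=
  Lre_f IH (LK LD1_c9 LD2_c17 LD3_c57) (LK LD1_c17 LD2_c13 LD3_c5) Lrfl Lrfl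
theorem f582363 : Led Lsl_df (LP (LK LD1_c12 LD2_c35 LD3_c0)) = (LP (LK LD1_c17 LD2_c13 LD3_c5)) :=
  Lgr Lrot78 (Lpe (K4.f111534 IH) (Lpr_dt (f582359 IH) (Lpr_ft (f538099 IH) (Lpn (LP (LK LD1_c17 LD2_c13 LD3_c5))))))
theorem f582379 : Led Lsl_dt (LP (LK LD1_c7 LD2_c38 LD3_c16)) = (LP (LK LD1_c9 LD2_c17 LD3_c58)) :=
  Lgr Lrot79 (Lpr_bf (K4.f96712 IH) (Lpr_df (f582363 IH) (Lpe (f538096 IH) (Lpn (LP (LK LD1_c9 LD2_c17 LD3_c58))))))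
theorem f581499 : Led Lsl_dt (LP (LK LD1_c10 LD2_c5 LD3_c24)) = (LP (LK LD1_c18 LD2_c24 LD3_c4)) :=
  Lre_d IH (LK LD1_c10 LD2_c5 LD3_c24) (LK LD1_c18 LD2_c24 LD3_c4) Lrfl Lrfl
theorem f581500 : Led Lsl_gt (LP (LK LD1_c18 LD2_c24 LD3_c4)) = (LP (LK LD1_c11 LD2_c25 LD3_c12)) :=
  Lgr Lrot9 (Lpe (f581499 IH) (Lpr_gt (f581486 IH) (Lpr_ct (K41.f566701 IH) (Lpe (K41.f567249 IH) (Lpr_ct (K36.f177122 IH) (Lpr_df (K42.f549496 IH) (Lpe (K42.f544004 IH) (Lpe (f549503 IH) (Lpr_cf (f578290 IH) (Lpn (LP (LK LD1_c11 LD2_c25 LD3_c12))))))))))))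
theorem f427107 : Led Lsl_gf (LP (LK LD1_c6 LD2_c33 LD3_c23)) = (LP (LK LD1_c3 LD2_c50 LD3_c49)) :=
  Lgr Lrot76 (Lpr_af (K43.f427059 IH) (Lpr_ff (K37.f426917 IH) (Lpr_gt (K37.f127444 IH) (Lpn (LP (LK LD1_c3 LD2_c50 LD3_c49))))))
theorem f427075 : Led Lsl_dt (LP (LK LD1_c6 LD2_c33 LD3_c23)) = (LP (LK LD1_c7 LD2_c1 LD3_c33)) :=
  Lgr Lrot60 (Lpr_ff (K40.f427067 IH) (Lpr_df (K37.f209736 IH) (Lpe (K37.f426866 IH) (Lpn (LP (LK LD1_c7 LD2_c1 LD3_c33))))))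
theorem f137187 : Led Lsl_gt (LP (LK LD1_c7 LD2_c1 LD3_c33)) = (LP (LK LD1_c6 LD2_c32 LD3_c55)) :=
  Lgr Lrot82 (Lpe (K36.f136941 IH) (Lpr_ct (K36.f136932 IH) (Lpe (K6.f115859 IH) (Lpr_cf (K6.f115840 IH) (Lpr_bt (K6.f103741 IH) (Lpe (K4.f103778 IH) (Lpe (K4.f111485 IH) (Lpr_ct (K4.f92444 IH) (Lpr_gf (K4.f111493 IH) (Lpr_cf (K4.f120473 IH) (Lpn (LP (LK LD1_c6 LD2_c32 LD3_c55)))))))))))))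
theorem f120464 : Led Lsl_dt (LP (LK LD1_c6 LD2_c32 LD3_c55)) = (LP (LK LD1_c3 LD2_c14 LD3_c42)) :=
  Lre_d IH (LK LD1_c6 LD2_c32 LD3_c55) (LK LD1_c3 LD2_c14 LD3_c42) Lrfl Lrfl
theorem f120476 : Led Lsl_dt (LP (LK LD1_c12 LD2_c33 LD3_c0)) = (LP (LK LD1_c6 LD2_c32 LD3_c48)) :=
  Lre_d IH (LK LD1_c12 LD2_c33 LD3_c0) (LK LD1_c6 LD2_c32 LD3_c48) Lrfl Lrfl
theorem f582385 : Led Lsl_gf (LP (LK LD1_c12 LD2_c33 LD3_c0)) = (LP (LK LD1_c9 LD2_c17 LD3_c58)) :=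
  Lgr Lrot143 (Lpr_dt (f120476 IH) (Lpe (K5.f107392 IH) (Lpe (f120464 IH) (Lpe (f137187 IH) (Lpe (f427075 IH) (Lpr_gf (f427107 IH) (Lpe (K42.f64394 IH) (Lpr_gt (K5.f89306 IH) (Lpr_dt (f582379 IH) (Lpn (LP (LK LD1_c9 LD2_c17 LD3_c58))))))))))))
theorem f582387 : Led Lsl_cf (LP (LK LD1_c18 LD2_c24 LD3_c4)) = (LP (LK LD1_c12 LD2_c33 LD3_c0)) :=
  Lgr Lrot188 (Lpr_gt (f581500 IH) (Lpe (f578290 IH) (Lpe (f549512 IH) (Lpe (K37.f426885 IH) (Lpe (K37.f126570 IH) (Lpe (K5.f127329 IH) (Lpr_gf (K5.f127358 IH) (Lpr_dt (f582379 IH) (Lpe (f582385 IH) (Lpn (LP (LK LD1_c12 LD2_c33 LD3_c0))))))))))))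
theorem f581490 : Led Lsl_gf (LP (LK LD1_c10 LD2_c5 LD3_c24)) = (LP (LK LD1_c10 LD2_c18 LD3_c11)) :=
  Lgr Lrot47 (Lpr_gt (f581486 IH) (Lpe (K42.f571823 IH) (Lpr_ff (K42.f571832 IH) (Lpn (LP (LK LD1_c10 LD2_c18 LD3_c11))))))
theorem f120465 : Led Lsl_dt (LP (LK LD1_c6 LD2_c32 LD3_c48)) = (LP (LK LD1_c12 LD2_c33 LD3_c0)) :=
  Lre_d IH (LK LD1_c6 LD2_c32 LD3_c48) (LK LD1_c12 LD2_c33 LD3_c0) Lrfl Lrfl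
theorem f89717 : Led Lsl_dt (LP (LK LD1_c1 LD2_c43 LD3_c25)) = (LP (LK LD1_c3 LD2_c33 LD3_c21)) :=
  Lre_d IH (LK LD1_c1 LD2_c43 LD3_c25) (LK LD1_c3 LD2_c33 LD3_c21) Lrfl Lrfl
theorem f549543 : Led Lsl_df (LP (LK LD1_c12 LD2_c32 LD3_c61)) = (LP (LK LD1_c9 LD2_c3 LD3_c25)) :=
  Lgr Lrot43 (Lpr_ct (K36.f127648 IH) (Lpe (K8.f103949 IH) (Lpr_ct (K3.f12040 IH) (Lpr_dt (f89717 IH) (Lpe (K43.f549534 IH) (Lpr_dt (K38.f268866 IH) (Lpr_ct (K38.f549538 IH) (Lpe (K38.f540094 IH) (Lpr_ct (K5.f127666 IH) (Lpr_dt (K5.f93026 IH) (Lpe (K5.f17407 IH) (Lpr_dt (K38.f549539 IH) (Lpr_ct (K38.f538141 IH) (Lpr_dt (K41.f80215 IH) (Lpr_ct (K42.f538142 IH) (Lpn (LP (LK LD1_c9 LD2_c3 LD3_c25))))))))))))))))))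
theorem f582399 : Led Lsl_df (LP (LK LD1_c10 LD2_c18 LD3_c11)) = (LP (LK LD1_c12 LD2_c10 LD3_c55)) :=
  Lgr Lrot153 (Lpe (f581490 IH) (Lpr_dt (f581499 IH) (Lpr_cf (f582387 IH) (Lpe (f120465 IH) (Lpe (K5.f95268 IH) (Lpr_df (f549543 IH) (Lpr_gf (K42.f569027 IH) (Lpr_cf (K42.f568976 IH) (Lpe (K42.f568968 IH) (Lpn (LP (LK LD1_c12 LD2_c10 LD3_c55))))))))))))
theorem f177135 : Led Lsl_bt (LP (LK LD1_c2 LD2_c30 LD3_c40)) = (LP (LK LD1_c5 LD2_c6 LD3_c43)) :=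
  Lre_b IH (LK LD1_c2 LD2_c30 LD3_c40) (LK LD1_c5 LD2_c6 LD3_c43) Lrfl Lrfl
theorem f567257 : Led Lsl_bt (LP (LK LD1_c4 LD2_c23 LD3_c26)) = (LP (LK LD1_c8 LD2_c44 LD3_c26)) :=
  Lre_b IH (LK LD1_c4 LD2_c23 LD3_c26) (LK LD1_c8 LD2_c44 LD3_c26) Lrfl Lrfl
theorem f567260 : Led Lsl_gt (LP (LK LD1_c11 LD2_c15 LD3_c47)) = (LP (LK LD1_c8 LD2_c44 LD3_c28)) :=
  Lgr Lrot149 (Lpe (K43.f172738 IH) (Lpe (K38.f172736 IH) (Lpe (K16.f172724 IH) (Lpr_ct (K38.f172694 IH) (Lpr_gf (K13.f241806 IH) (Lpe (K38.f177119 IH) (Lpr_bt (f177135 IH) (Lpr_gf (K41.f567249 IH) (Lpe (f567257 IH) (Lpr_ct (K43.f567259 IH) (Lpn (LP (LK LD1_c8 LD2_c44 LD3_c28)))))))))))))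
theorem f574898 : Led Lsl_af (LP (LK LD1_c8 LD2_c44 LD3_c28)) = (LP (LK LD1_c10 LD2_c18 LD3_c11)) :=
  Lgr Lrot31 (Lpe (f567260 IH) (Lpr_gf (K43.f574896 IH) (Lpr_ft (K42.f571836 IH) (Lpn (LP (LK LD1_c10 LD2_c18 LD3_c11))))))
theorem f582401 : Led Lsl_at (LP (LK LD1_c11 LD2_c26 LD3_c50)) = (LP (LK LD1_c12 LD2_c10 LD3_c55)) :=
  Lgr Lrot51 (Lpe (K43.f579578 IH) (Lpr_af (f574898 IH) (Lpr_df (f582399 IH) (Lpn (LP (LK LD1_c12 LD2_c10 LD3_c55))))))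
theorem f582409 : Led Lsl_ff (LP (LK LD1_c11 LD2_c26 LD3_c50)) = (LP (LK LD1_c12 LD2_c11 LD3_c0)) :=
  Lgr Lrot52 (Lpr_at (f582401 IH) (Lpr_gf (K42.f568968 IH) (Lpe (K42.f568984 IH) (Lpn (LP (LK LD1_c12 LD2_c11 LD3_c0))))))
theorem f567606 : Led Lsl_bt (LP (LK LD1_c4 LD2_c57 LD3_c14)) = (LP (LK LD1_c8 LD2_c44 LD3_c28)) :=
  Lgr Lrot128 (Lpr_cf (K41.f567602 IH) (Lpe (K41.f205160 IH) (Lpr_cf (K42.f567565 IH) (Lpe (f567257 IH) (Lpe (K43.f567258 IH) (Lpn (LP (LK LD1_c8 LD2_c44 LD3_c28))))))))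
theorem f557373 : Led Lsl_ct (LP (LK LD1_c2 LD2_c49 LD3_c21)) = (LP (LK LD1_c3 LD2_c5 LD3_c42)) :=
  Lgr Lrot111 (Lpe (K38.f499337 IH) (Lpr_cf (K40.f557370 IH) (Lpr_af (K38.f548779 IH) (Lpn (LP (LK LD1_c3 LD2_c5 LD3_c42))))))
theorem f567612 : Led Lsl_df (LP (LK LD1_c4 LD2_c57 LD3_c14)) = (LP (LK LD1_c5 LD2_c49 LD3_c4)) :=
  Lgr Lrot84 (Lpr_cf (K41.f567602 IH) (Lpe (K40.f558293 IH) (Lpe (K40.f210790 IH) (Lpe (K40.f421027 IH) (Lpe (K38.f421035 IH) (Lpe (f557373 IH) (Lpq (K38.f548703 IH) (Lpe (K38.f496163 IH) (Lpr_dt (K37.f171800 IH) (Lpr_gt (K40.f171801 IH) (Lpn (LP (LK LD1_c5 LD2_c49 LD3_c4)))))))))))))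
theorem f579581 : Led Lsl_bf (LP (LK LD1_c5 LD2_c49 LD3_c4)) = (LP (LK LD1_c11 LD2_c26 LD3_c50)) :=
  Lgr Lrot93 (Lpe (f567612 IH) (Lpr_bt (f567606 IH) (Lpr_dt (K43.f579578 IH) (Lpn (LP (LK LD1_c11 LD2_c26 LD3_c50))))))
theorem f582413 : Led Lsl_ft (LP (LK LD1_c5 LD2_c49 LD3_c4)) = (LP (LK LD1_c6 LD2_c17 LD3_c10)) :=
  Lgr Lrot75 (Lpr_bf (f579581 IH) (Lpr_ff (f582409 IH) (Lpe (K42.f210798 IH) (Lpn (LP (LK LD1_c6 LD2_c17 LD3_c10))))))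
theorem f582441 : Led Lsl_ff (LP (LK LD1_c5 LD2_c49 LD3_c4)) = (LP (LK LD1_c6 LD2_c17 LD3_c10)) :=
  Lgr Lrot3 (Lpr_ft (f582413 IH) (Lpn (LP (LK LD1_c6 LD2_c17 LD3_c10))))
theorem f582443 : Led Lsl_at (LP (LK LD1_c5 LD2_c49 LD3_c4)) = (LP (LK LD1_c4 LD2_c57 LD3_c25)) :=
  Lgr Lrot66 (Lpr_ff (f582441 IH) (Lpe (f580355 IH) (Lpr_ff (f580347 IH) (Lpn (LP (LK LD1_c4 LD2_c57 LD3_c25))))))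
theorem f450127 : Led Lsl_et (LP (LK LD1_c11 LD2_c27 LD3_c28)) = (LP (LK LD1_c5 LD2_c49 LD3_c4)) :=
  Lre_e IH (LK LD1_c11 LD2_c27 LD3_c28) (LK LD1_c5 LD2_c49 LD3_c4) Lrfl Lrfl
theorem f557372 : Led Lsl_et (LP (LK LD1_c4 LD2_c57 LD3_c25)) = (LP (LK LD1_c9 LD2_c45 LD3_c44)) :=
  Lre_e IH (LK LD1_c4 LD2_c57 LD3_c25) (LK LD1_c9 LD2_c45 LD3_c44) Lrfl Lrfl
theorem f582451 : Led Lsl_af (LP (LK LD1_c11 LD2_c27 LD3_c28)) = (LP (LK LD1_c9 LD2_c45 LD3_c44)) :=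
  Lgr Lrot50 (Lpr_et (f450127 IH) (Lpr_at (f582443 IH) (Lpr_et (f557372 IH) (Lpn (LP (LK LD1_c9 LD2_c45 LD3_c44))))))
theorem f582453 : Led Lsl_at (LP (LK LD1_c11 LD2_c27 LD3_c28)) = (LP (LK LD1_c9 LD2_c45 LD3_c44)) :=
  Lgr Lrot100 (Lpr_af (f582451 IH) (Lpn (LP (LK LD1_c9 LD2_c45 LD3_c44))))
theorem f450230 : Led Lsl_et (LP (LK LD1_c12 LD2_c10 LD3_c56)) = (LP (LK LD1_c6 LD2_c17 LD3_c3)) :=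
  Lre_e IH (LK LD1_c12 LD2_c10 LD3_c56) (LK LD1_c6 LD2_c17 LD3_c3) Lrfl Lrfl
theorem f571415 : Led Lsl_et (LP (LK LD1_c5 LD2_c49 LD3_c13)) = (LP (LK LD1_c11 LD2_c27 LD3_c35)) :=
  Lre_e IH (LK LD1_c5 LD2_c49 LD3_c13) (LK LD1_c11 LD2_c27 LD3_c35) Lrfl Lrfl
theorem f580326 : Led Lsl_af (LP (LK LD1_c12 LD2_c10 LD3_c56)) = (LP (LK LD1_c11 LD2_c27 LD3_c35)) :=
  Lgr Lrot50 (Lpr_et (f450230 IH) (Lpr_at (f580322 IH) (Lpr_et (f571415 IH) (Lpn (LP (LK LD1_c11 LD2_c27 LD3_c35))))))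
theorem f580328 : Led Lsl_at (LP (LK LD1_c12 LD2_c10 LD3_c56)) = (LP (LK LD1_c11 LD2_c27 LD3_c35)) :=
  Lgr Lrot100 (Lpr_af (f580326 IH) (Lpn (LP (LK LD1_c11 LD2_c27 LD3_c35))))
theorem f580301 : Led Lsl_et (LP (LK LD1_c9 LD2_c45 LD3_c32)) = (LP (LK LD1_c17 LD2_c55 LD3_c5)) :=
  Lre_e IH (LK LD1_c9 LD2_c45 LD3_c32) (LK LD1_c17 LD2_c55 LD3_c5) Lrfl Lrfl
theorem f580302 : Led Lsl_df (LP (LK LD1_c12 LD2_c10 LD3_c56)) = (LP (LK LD1_c17 LD2_c55 LD3_c5)) :=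
  Lgr Lrot70 (Lpr_et (f450230 IH) (Lpr_dt (K40.f559090 IH) (Lpr_et (f580297 IH) (Lpr_dt (f580288 IH) (Lpr_et (f580301 IH) (Lpn (LP (LK LD1_c17 LD2_c55 LD3_c5))))))))
theorem f580304 : Led Lsl_at (LP (LK LD1_c9 LD2_c45 LD3_c37)) = (LP (LK LD1_c17 LD2_c55 LD3_c5)) :=
  Lre_a IH (LK LD1_c9 LD2_c45 LD3_c37) (LK LD1_c17 LD2_c55 LD3_c5) Lrfl Lrfl
theorem f580331 : Led Lsl_df (LP (LK LD1_c9 LD2_c45 LD3_c37)) = (LP (LK LD1_c11 LD2_c27 LD3_c35)) :=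
  Lgr Lrot18 (Lpr_at (f580304 IH) (Lpe (f580302 IH) (Lpr_at (f580328 IH) (Lpn (LP (LK LD1_c11 LD2_c27 LD3_c35))))))
theorem f580333 : Led Lsl_bt (LP (LK LD1_c9 LD2_c45 LD3_c37)) = (LP (LK LD1_c4 LD2_c57 LD3_c23)) :=
  Lre_b IH (LK LD1_c9 LD2_c45 LD3_c37) (LK LD1_c4 LD2_c57 LD3_c23) Lrfl Lrfl
theorem f381401 : Led Lsl_dt (LP (LK LD1_c4 LD2_c57 LD3_c23)) = (LP (LK LD1_c9 LD2_c45 LD3_c44)) :=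
  Lre_d IH (LK LD1_c4 LD2_c57 LD3_c23) (LK LD1_c9 LD2_c45 LD3_c44) Lrfl Lrfl
theorem f580334 : Led Lsl_bt (LP (LK LD1_c9 LD2_c45 LD3_c44)) = (LP (LK LD1_c11 LD2_c27 LD3_c35)) :=
  Lgr Lrot95 (Lpe (f381401 IH) (Lpe (f580333 IH) (Lpr_df (f580331 IH) (Lpn (LP (LK LD1_c11 LD2_c27 LD3_c35))))))
theorem f580305 : Led Lsl_bt (LP (LK LD1_c12 LD2_c10 LD3_c56)) = (LP (LK LD1_c21 LD2_c16 LD3_c14)) :=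
  Lre_b IH (LK LD1_c12 LD2_c10 LD3_c56) (LK LD1_c21 LD2_c16 LD3_c14) Lrfl Lrfl
theorem f580516 : Led Lsl_et (LP (LK LD1_c20 LD2_c24 LD3_c47)) = (LP (LK LD1_c11 LD2_c26 LD3_c50)) :=
  Lre_e IH (LK LD1_c20 LD2_c24 LD3_c47) (LK LD1_c11 LD2_c26 LD3_c50) Lrfl Lrfl
theorem f582403 : Led Lsl_et (LP (LK LD1_c12 LD2_c10 LD3_c55)) = (LP (LK LD1_c21 LD2_c16 LD3_c14)) :=
  Lre_e IH (LK LD1_c12 LD2_c10 LD3_c55) (LK LD1_c21 LD2_c16 LD3_c14) Lrfl Lrfl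
theorem f582407 : Led Lsl_af (LP (LK LD1_c20 LD2_c24 LD3_c47)) = (LP (LK LD1_c21 LD2_c16 LD3_c14)) :=
  Lgr Lrot50 (Lpr_et (f580516 IH) (Lpr_at (f582401 IH) (Lpr_et (f582403 IH) (Lpn (LP (LK LD1_c21 LD2_c16 LD3_c14))))))
theorem f582464 : Led Lsl_bf (LP (LK LD1_c11 LD2_c27 LD3_c28)) = (LP (LK LD1_c20 LD2_c24 LD3_c47)) :=
  Lgr Lrot81 (Lpr_at (f582453 IH) (Lpr_bt (f580334 IH) (Lpe (f580326 IH) (Lpr_bt (f580305 IH) (Lpe (f582407 IH) (Lpn (LP (LK LD1_c20 LD2_c24 LD3_c47))))))))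
theorem f582466 : Led Lsl_bt (LP (LK LD1_c11 LD2_c27 LD3_c28)) = (LP (LK LD1_c20 LD2_c24 LD3_c47)) :=
  Lgr Lrot127 (Lpr_bf (f582464 IH) (Lpn (LP (LK LD1_c20 LD2_c24 LD3_c47))))
theorem f582455 : Led Lsl_at (LP (LK LD1_c9 LD2_c45 LD3_c30)) = (LP (LK LD1_c4 LD2_c57 LD3_c23)) :=
  Lre_a IH (LK LD1_c9 LD2_c45 LD3_c30) (LK LD1_c4 LD2_c57 LD3_c23) Lrfl Lrfl
theorem f582456 : Led Lsl_dt (LP (LK LD1_c11 LD2_c27 LD3_c28)) = (LP (LK LD1_c9 LD2_c45 LD3_c30)) :=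
  Lgr Lrot44 (Lpr_af (f582451 IH) (Lpe (f381401 IH) (Lpe (f582455 IH) (Lpn (LP (LK LD1_c9 LD2_c45 LD3_c30))))))
theorem f582458 : Led Lsl_df (LP (LK LD1_c11 LD2_c27 LD3_c28)) = (LP (LK LD1_c9 LD2_c45 LD3_c30)) :=
  Lgr Lrot38 (Lpr_dt (f582456 IH) (Lpn (LP (LK LD1_c9 LD2_c45 LD3_c30))))
theorem f495267 : Led Lsl_et (LP (LK LD1_c4 LD2_c23 LD3_c24)) = (LP (LK LD1_c8 LD2_c44 LD3_c28)) :=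
  Lre_e IH (LK LD1_c4 LD2_c23 LD3_c24) (LK LD1_c8 LD2_c44 LD3_c28) Lrfl Lrfl
theorem f424196 : Led Lsl_dt (LP (LK LD1_c8 LD2_c44 LD3_c27)) = (LP (LK LD1_c4 LD2_c23 LD3_c24)) :=
  Lre_d IH (LK LD1_c8 LD2_c44 LD3_c27) (LK LD1_c4 LD2_c23 LD3_c24) Lrfl Lrfl
theorem f579587 : Led Lsl_et (LP (LK LD1_c16 LD2_c21 LD3_c46)) = (LP (LK LD1_c8 LD2_c44 LD3_c27)) :=
  Lre_e IH (LK LD1_c16 LD2_c21 LD3_c46) (LK LD1_c8 LD2_c44 LD3_c27) Lrfl Lrfl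
theorem f579588 : Led Lsl_et (LP (LK LD1_c11 LD2_c26 LD3_c50)) = (LP (LK LD1_c20 LD2_c24 LD3_c47)) :=
  Lre_e IH (LK LD1_c11 LD2_c26 LD3_c50) (LK LD1_c20 LD2_c24 LD3_c47) Lrfl Lrfl
theorem f579589 : Led Lsl_df (LP (LK LD1_c16 LD2_c21 LD3_c46)) = (LP (LK LD1_c20 LD2_c24 LD3_c47)) :=
  Lgr Lrot70 (Lpr_et (f579587 IH) (Lpr_dt (f424196 IH) (Lpr_et (f495267 IH) (Lpr_dt (K43.f579578 IH) (Lpr_et (f579588 IH) (Lpn (LP (LK LD1_c20 LD2_c24 LD3_c47))))))))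
theorem f582470 : Led Lsl_bf (LP (LK LD1_c9 LD2_c45 LD3_c30)) = (LP (LK LD1_c16 LD2_c21 LD3_c46)) :=
  Lgr Lrot93 (Lpe (f582458 IH) (Lpr_bt (f582466 IH) (Lpe (f579589 IH) (Lpn (LP (LK LD1_c16 LD2_c21 LD3_c46))))))
theorem f582460 : Led Lsl_et (LP (LK LD1_c9 LD2_c45 LD3_c30)) = (LP (LK LD1_c4 LD2_c57 LD3_c13)) :=
  Lre_e IH (LK LD1_c9 LD2_c45 LD3_c30) (LK LD1_c4 LD2_c57 LD3_c13) Lrfl Lrfl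
theorem f424203 : Led Lsl_et (LP (LK LD1_c8 LD2_c44 LD3_c27)) = (LP (LK LD1_c16 LD2_c21 LD3_c46)) :=
  Lre_e IH (LK LD1_c8 LD2_c44 LD3_c27) (LK LD1_c16 LD2_c21 LD3_c46) Lrfl Lrfl
theorem f582474 : Led Lsl_bt (LP (LK LD1_c4 LD2_c57 LD3_c13)) = (LP (LK LD1_c8 LD2_c44 LD3_c27)) :=
  Lgr Lrot119 (Lpe (f582460 IH) (Lpr_bf (f582470 IH) (Lpe (f424203 IH) (Lpn (LP (LK LD1_c8 LD2_c44 LD3_c27))))))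
theorem f579829 : Led Lsl_gf (LP (LK LD1_c9 LD2_c45 LD3_c29)) = (LP (LK LD1_c6 LD2_c8 LD3_c53)) :=
  Lgr Lrot47 (Lpr_gt (K43.f579827 IH) (Lpr_af (K40.f561738 IH) (Lpr_ff (K40.f561755 IH) (Lpn (LP (LK LD1_c6 LD2_c8 LD3_c53))))))
theorem f582480 : Led Lsl_gf (LP (LK LD1_c5 LD2_c40 LD3_c26)) = (LP (LK LD1_c8 LD2_c44 LD3_c27)) :=
  Lgr Lrot124 (Lpe (K39.f423707 IH) (Lpr_ct (K40.f380626 IH) (Lpr_gt (K40.f561517 IH) (Lpe (K40.f561526 IH) (Lpr_bt (K36.f381757 IH) (Lpe (K37.f542147 IH) (Lpr_ct (K40.f26965 IH) (Lpe (f579829 IH) (Lpe (K43.f579826 IH) (Lpr_bt (f582474 IH) (Lpn (LP (LK LD1_c8 LD2_c44 LD3_c27)))))))))))))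
theorem f424135 : Led Lsl_dt (LP (LK LD1_c4 LD2_c23 LD3_c24)) = (LP (LK LD1_c8 LD2_c44 LD3_c27)) :=
  Lre_d IH (LK LD1_c4 LD2_c23 LD3_c24) (LK LD1_c8 LD2_c44 LD3_c27) Lrfl Lrfl
theorem f572886 : Led Lsl_dt (LP (LK LD1_c4 LD2_c5 LD3_c54)) = (LP (LK LD1_c8 LD2_c12 LD3_c27)) :=
  Lre_d IH (LK LD1_c4 LD2_c5 LD3_c54) (LK LD1_c8 LD2_c12 LD3_c27) Lrfl Lrfl
theorem f548409 : Led Lsl_ft (LP (LK LD1_c6 LD2_c7 LD3_c26)) = (LP (LK LD1_c4 LD2_c34 LD3_c20)) :=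
  Lgr Lrot75 (Lpe (K43.f56010 IH) (Lpr_ff (K38.f548407 IH) (Lpe (K37.f36546 IH) (Lpn (LP (LK LD1_c4 LD2_c34 LD3_c20))))))
theorem f572880 : Led Lsl_gf (LP (LK LD1_c4 LD2_c5 LD3_c54)) = (LP (LK LD1_c6 LD2_c7 LD3_c26)) :=
  Lgr Lrot47 (Lpr_gt (K42.f572878 IH) (Lpr_af (K8.f117596 IH) (Lpe (f548409 IH) (Lpn (LP (LK LD1_c6 LD2_c7 LD3_c26))))))
theorem f582491 : Led Lsl_et (LP (LK LD1_c4 LD2_c31 LD3_c41)) = (LP (LK LD1_c6 LD2_c7 LD3_c26)) :=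
  Lgr Lrot121 (Lpe (K39.f557198 IH) (Lpr_gf (f582480 IH) (Lpe (f424135 IH) (Lpr_et (f495267 IH) (Lpe (f567260 IH) (Lpr_ef (K43.f570754 IH) (Lpe (K43.f574889 IH) (Lpe (K43.f570490 IH) (Lpe (f572886 IH) (Lpr_gf (f572880 IH) (Lpn (LP (LK LD1_c6 LD2_c7 LD3_c26)))))))))))))
theorem f582499 : Led Lsl_ef (LP (LK LD1_c4 LD2_c31 LD3_c41)) = (LP (LK LD1_c6 LD2_c7 LD3_c26)) :=
  Lgr Lrot88 (Lpr_et (f582491 IH) (Lpn (LP (LK LD1_c6 LD2_c7 LD3_c26))))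
theorem f573978 : Led Lsl_dt (LP (LK LD1_c6 LD2_c15 LD3_c29)) = (LP (LK LD1_c12 LD2_c8 LD3_c56)) :=
  Lre_d IH (LK LD1_c6 LD2_c15 LD3_c29) (LK LD1_c12 LD2_c8 LD3_c56) Lrfl Lrfl
theorem f56278 : Led Lsl_ct (LP (LK LD1_c1 LD2_c25 LD3_c53)) = (LP (LK LD1_c3 LD2_c0 LD3_c15)) :=
  Lre_c IH (LK LD1_c1 LD2_c25 LD3_c53) (LK LD1_c3 LD2_c0 LD3_c15) Lrfl Lrfl
theorem f161224 : Led Lsl_dt (LP (LK LD1_c2 LD2_c27 LD3_c14)) = (LP (LK LD1_c1 LD2_c10 LD3_c51)) :=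
  Lre_d IH (LK LD1_c2 LD2_c27 LD3_c14) (LK LD1_c1 LD2_c10 LD3_c51) Lrfl Lrfl
theorem f161225 : Led Lsl_ct (LP (LK LD1_c4 LD2_c58 LD3_c49)) = (LP (LK LD1_c2 LD2_c27 LD3_c14)) :=
  Lre_c IH (LK LD1_c4 LD2_c58 LD3_c49) (LK LD1_c2 LD2_c27 LD3_c14) Lrfl Lrfl
theorem f539624 : Led Lsl_gf (LP (LK LD1_c4 LD2_c58 LD3_c49)) = (LP (LK LD1_c3 LD2_c0 LD3_c15)) :=
  Lgr Lrot172 (Lpr_ct (f161225 IH) (Lpr_dt (f161224 IH) (Lpe (K32.f161222 IH) (Lpr_gf (K37.f535995 IH) (Lpqs (K37.f537524 IH) (Lpe (K27.f308046 IH) (Lpq (K40.f537821 IH) (Lpe (K37.f500625 IH) (Lpr_dt (K36.f539605 IH) (Lpr_gt (K36.f9095 IH) (Lpr_ct (f56278 IH) (Lpn (LP (LK LD1_c3 LD2_c0 LD3_c15))))))))))))))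
theorem f387073 : Led Lsl_ct (LP (LK LD1_c2 LD2_c27 LD3_c14)) = (LP (LK LD1_c4 LD2_c58 LD3_c49)) :=
  Lre_c IH (LK LD1_c2 LD2_c27 LD3_c14) (LK LD1_c4 LD2_c58 LD3_c49) Lrfl Lrfl
theorem f421446 : Led Lsl_bt (LP (LK LD1_c2 LD2_c27 LD3_c14)) = (LP (LK LD1_c4 LD2_c58 LD3_c26)) :=
  Lre_b IH (LK LD1_c2 LD2_c27 LD3_c14) (LK LD1_c4 LD2_c58 LD3_c26) Lrfl Lrfl
theorem f387083 : Led Lsl_gt (LP (LK LD1_c4 LD2_c58 LD3_c26)) = (LP (LK LD1_c9 LD2_c47 LD3_c33)) :=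
  Lre_g IH (LK LD1_c4 LD2_c58 LD3_c26) (LK LD1_c9 LD2_c47 LD3_c33) Lrfl Lrfl
theorem f557557 : Led Lsl_bt (LP (LK LD1_c5 LD2_c7 LD3_c49)) = (LP (LK LD1_c9 LD2_c47 LD3_c33)) :=
  Lgr Lrot92 (Lpr_ct (K40.f495364 IH) (Lpe (K40.f557555 IH) (Lpr_cf (K40.f557541 IH) (Lpr_bt (K40.f9096 IH) (Lpr_gt (K36.f9095 IH) (Lpr_ct (f56278 IH) (Lpe (f539624 IH) (Lpe (f387073 IH) (Lpr_bt (f421446 IH) (Lpr_gt (f387083 IH) (Lpn (LP (LK LD1_c9 LD2_c47 LD3_c33)))))))))))))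
theorem f557559 : Led Lsl_bf (LP (LK LD1_c5 LD2_c7 LD3_c49)) = (LP (LK LD1_c9 LD2_c47 LD3_c33)) :=
  Lgr Lrot24 (Lpr_bt (f557557 IH) (Lpn (LP (LK LD1_c9 LD2_c47 LD3_c33))))
theorem f557623 : Led Lsl_df (LP (LK LD1_c9 LD2_c47 LD3_c33)) = (LP (LK LD1_c6 LD2_c7 LD3_c26)) :=
  Lgr Lrot12 (Lpe (f557559 IH) (Lpr_dt (K40.f557619 IH) (Lpr_bt (K43.f56010 IH) (Lpn (LP (LK LD1_c6 LD2_c7 LD3_c26))))))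
theorem f557330 : Led Lsl_et (LP (LK LD1_c4 LD2_c57 LD3_c4)) = (LP (LK LD1_c2 LD2_c27 LD3_c1)) :=
  Lgr Lrot87 (Lpr_ef (K39.f557324 IH) (Lpn (LP (LK LD1_c2 LD2_c27 LD3_c1))))
theorem f582505 : Led Lsl_gt (LP (LK LD1_c12 LD2_c8 LD3_c56)) = (LP (LK LD1_c9 LD2_c45 LD3_c14)) :=
  Lgr Lrot139 (Lpe (f573978 IH) (Lpe (K43.f573519 IH) (Lpr_ef (f582499 IH) (Lpe (f557623 IH) (Lpe (f387083 IH) (Lpe (K42.f148949 IH) (Lpr_et (K39.f138925 IH) (Lpe (K7.f82030 IH) (Lpe (f557330 IH) (Lpr_dt (K39.f172471 IH) (Lpn (LP (LK LD1_c9 LD2_c45 LD3_c14)))))))))))))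
theorem f582507 : Led Lsl_gf (LP (LK LD1_c12 LD2_c8 LD3_c56)) = (LP (LK LD1_c9 LD2_c1 LD3_c25)) :=
  Lgr Lrot47 (Lpr_gt (f582505 IH) (Lpe (K39.f424172 IH) (Lpe (K39.f423060 IH) (Lpn (LP (LK LD1_c9 LD2_c1 LD3_c25))))))
theorem f547307 : Led Lsl_dt (LP (LK LD1_c12 LD2_c8 LD3_c56)) = (LP (LK LD1_c6 LD2_c15 LD3_c29)) :=
  Lre_d IH (LK LD1_c12 LD2_c8 LD3_c56) (LK LD1_c6 LD2_c15 LD3_c29) Lrfl Lrfl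
theorem f553943 : Led Lsl_ct (LP (LK LD1_c16 LD2_c21 LD3_c51)) = (LP (LK LD1_c11 LD2_c6 LD3_c18)) :=
  Lgr Lrot59 (Lpr_cf (K39.f553939 IH) (Lpn (LP (LK LD1_c11 LD2_c6 LD3_c18))))
theorem f573421 : Led Lsl_dt (LP (LK LD1_c8 LD2_c44 LD3_c32)) = (LP (LK LD1_c5 LD2_c37 LD3_c5)) :=
  Lgr Lrot6 (Lpr_gt (K39.f148969 IH) (Lpr_ct (K39.f40135 IH) (Lpr_gt (K39.f40137 IH) (Lpr_ct (f553943 IH) (Lpe (K39.f547327 IH) (Lpe (K38.f547315 IH) (Lpqs (K38.f547308 IH) (Lpqs (K41.f552530 IH) (Lpe (K41.f506337 IH) (Lpe (K43.f117781 IH) (Lpr_gf (K43.f573417 IH) (Lpn (LP (LK LD1_c5 LD2_c37 LD3_c5))))))))))))))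
theorem f494164 : Led Lsl_dt (LP (LK LD1_c2 LD2_c9 LD3_c10)) = (LP (LK LD1_c4 LD2_c23 LD3_c32)) :=
  Lre_d IH (LK LD1_c2 LD2_c9 LD3_c10) (LK LD1_c4 LD2_c23 LD3_c32) Lrfl Lrfl
theorem f582514 : Led Lsl_gf (LP (LK LD1_c2 LD2_c9 LD3_c10)) = (LP (LK LD1_c4 LD2_c23 LD3_c17)) :=
  Lgr Lrot144 (Lpr_dt (f494164 IH) (Lpr_gt (K39.f39275 IH) (Lpr_dt (f573421 IH) (Lpr_cf (K38.f547291 IH) (Lpe (f547307 IH) (Lpr_gf (f582507 IH) (Lpr_df (K31.f174817 IH) (Lpe (K31.f424143 IH) (Lpe (K43.f577561 IH) (Lpn (LP (LK LD1_c4 LD2_c23 LD3_c17))))))))))))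
theorem f582522 : Led Lsl_ft (LP (LK LD1_c4 LD2_c23 LD3_c17)) = (LP (LK LD1_c2 LD2_c9 LD3_c7)) :=
  Lre_f IH (LK LD1_c4 LD2_c23 LD3_c17) (LK LD1_c2 LD2_c9 LD3_c7) Lrfl Lrfl
theorem f582523 : Led Lsl_at (LP (LK LD1_c2 LD2_c9 LD3_c7)) = (LP (LK LD1_c4 LD2_c23 LD3_c22)) :=
  Lre_a IH (LK LD1_c2 LD2_c9 LD3_c7) (LK LD1_c4 LD2_c23 LD3_c22) Lrfl Lrfl
theorem f582524 : Led Lsl_gt (LP (LK LD1_c2 LD2_c9 LD3_c10)) = (LP (LK LD1_c4 LD2_c23 LD3_c22)) :=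
  Lgr Lrot46 (Lpr_gf (f582514 IH) (Lpr_ft (f582522 IH) (Lpr_at (f582523 IH) (Lpn (LP (LK LD1_c4 LD2_c23 LD3_c22))))))
theorem f99766 : Led Lsl_et (LP (LK LD1_c4 LD2_c23 LD3_c33)) = (LP (LK LD1_c2 LD2_c9 LD3_c10)) :=
  Lre_e IH (LK LD1_c4 LD2_c23 LD3_c33) (LK LD1_c2 LD2_c9 LD3_c10) Lrfl Lrfl
theorem f582541 : Led Lsl_et (LP (LK LD1_c8 LD2_c44 LD3_c24)) = (LP (LK LD1_c4 LD2_c23 LD3_c22)) :=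
  Lre_e IH (LK LD1_c8 LD2_c44 LD3_c24) (LK LD1_c4 LD2_c23 LD3_c22) Lrfl Lrfl
theorem f582542 : Led Lsl_df (LP (LK LD1_c6 LD2_c55 LD3_c55)) = (LP (LK LD1_c8 LD2_c44 LD3_c24)) :=
  Lgr Lrot170 (Lpr_gt (K8.f145120 IH) (Lpe (K42.f562666 IH) (Lpr_et (K40.f562658 IH) (Lpe (K43.f578865 IH) (Lpr_dt (K43.f549859 IH) (Lpr_gt (K41.f101325 IH) (Lpe (f99765 IH) (Lpr_et (f99766 IH) (Lpr_gt (f582524 IH) (Lpe (f582541 IH) (Lpn (LP (LK LD1_c8 LD2_c44 LD3_c24)))))))))))))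
theorem f575808 : Led Lsl_et (LP (LK LD1_c5 LD2_c12 LD3_c59)) = (LP (LK LD1_c10 LD2_c16 LD3_c13)) :=
  Lre_e IH (LK LD1_c5 LD2_c12 LD3_c59) (LK LD1_c10 LD2_c16 LD3_c13) Lrfl Lrfl
theorem f548741 : Led Lsl_ff (LP (LK LD1_c5 LD2_c47 LD3_c43)) = (LP (LK LD1_c6 LD2_c4 LD3_c14)) :=
  Lgr Lrot19 (Lpr_dt (K36.f119886 IH) (Lpr_ft (K38.f548737 IH) (Lpr_dt (K38.f75500 IH) (Lpn (LP (LK LD1_c6 LD2_c4 LD3_c14))))))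
theorem f565168 : Led Lsl_cf (LP (LK LD1_c6 LD2_c14 LD3_c60)) = (LP (LK LD1_c5 LD2_c47 LD3_c43)) :=
  Lgr Lrot108 (Lpr_ft (K41.f565166 IH) (Lpr_ct (K38.f161557 IH) (Lpe (f548741 IH) (Lpn (LP (LK LD1_c5 LD2_c47 LD3_c43))))))
theorem f562670 : Led Lsl_df (LP (LK LD1_c4 LD2_c24 LD3_c3)) = (LP (LK LD1_c3 LD2_c32 LD3_c36)) :=
  Lgr Lrot162 (Lpe (K40.f36481 IH) (Lpq (K40.f547083 IH) (Lpe (K40.f496200 IH) (Lpe (K40.f562662 IH) (Lpr_gf (K40.f562664 IH) (Lpr_dt (K38.f547072 IH) (Lpr_gt (K37.f157317 IH) (Lpe (K2.f94489 IH) (Lpe (K4.f111497 IH) (Lpr_ct (K4.f92444 IH) (Lpn (LP (LK LD1_c3 LD2_c32 LD3_c36)))))))))))))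
theorem f568869 : Led Lsl_cf (LP (LK LD1_c12 LD2_c8 LD3_c19)) = (LP (LK LD1_c7 LD2_c1 LD3_c33)) :=
  Lgr Lrot99 (Lpe (K42.f418508 IH) (Lpr_cf (f565168 IH) (Lpe (f119878 IH) (Lpr_cf (f567588 IH) (Lpr_gf (K42.f568865 IH) (Lpr_df (f562670 IH) (Lpr_gt (K4.f111491 IH) (Lpr_ct (K24.f116640 IH) (Lpe (K36.f137191 IH) (Lpn (LP (LK LD1_c7 LD2_c1 LD3_c33))))))))))))
theorem f582555 : Led Lsl_gt (LP (LK LD1_c5 LD2_c6 LD3_c43)) = (LP (LK LD1_c8 LD2_c44 LD3_c24)) :=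
  Lgr Lrot49 (Lpr_df (K41.f424467 IH) (Lpr_gf (K42.f572011 IH) (Lpr_cf (f568869 IH) (Lpr_gt (f137187 IH) (Lpr_dt (f120464 IH) (Lpr_gt (K36.f103514 IH) (Lpr_dt (K36.f428970 IH) (Lpe (K3.f89696 IH) (Lpr_df (f582542 IH) (Lpn (LP (LK LD1_c8 LD2_c44 LD3_c24))))))))))))
theorem f166414 : Led Lsl_gt (LP (LK LD1_c10 LD2_c4 LD3_c8)) = (LP (LK LD1_c5 LD2_c6 LD3_c42)) :=
  Lre_g IH (LK LD1_c10 LD2_c4 LD3_c8) (LK LD1_c5 LD2_c6 LD3_c42) Lrfl Lrfl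
theorem f582559 : Led Lsl_dt (LP (LK LD1_c5 LD2_c12 LD3_c59)) = (LP (LK LD1_c10 LD2_c4 LD3_c8)) :=
  Lgr Lrot136 (Lpr_et (f575808 IH) (Lpr_gf (K43.f578865 IH) (Lpe (K40.f562658 IH) (Lpr_dt (K42.f562666 IH) (Lpe (K8.f145120 IH) (Lpr_df (f582542 IH) (Lpe (f582555 IH) (Lpe (K41.f405147 IH) (Lpr_dt (K36.f308135 IH) (Lpe (f166414 IH) (Lpn (LP (LK LD1_c10 LD2_c4 LD3_c8)))))))))))))
theorem f201392 : Led Lsl_ct (LP (LK LD1_c5 LD2_c6 LD3_c42)) = (LP (LK LD1_c10 LD2_c4 LD3_c9)) :=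
  Lre_c IH (LK LD1_c5 LD2_c6 LD3_c42) (LK LD1_c10 LD2_c4 LD3_c9) Lrfl Lrfl
theorem f405131 : Led Lsl_gt (LP (LK LD1_c10 LD2_c4 LD3_c9)) = (LP (LK LD1_c18 LD2_c22 LD3_c46)) :=
  Lre_g IH (LK LD1_c10 LD2_c4 LD3_c9) (LK LD1_c18 LD2_c22 LD3_c46) Lrfl Lrfl
theorem f582570 : Led Lsl_cf (LP (LK LD1_c10 LD2_c17 LD3_c9)) = (LP (LK LD1_c18 LD2_c22 LD3_c46)) :=
  Lgr Lrot175 (Lpr_dt (K42.f569482 IH) (Lpe (K42.f406470 IH) (Lpe (K39.f165514 IH) (Lpe (K39.f193992 IH) (Lpe (K43.f193995 IH) (Lpr_dt (f582559 IH) (Lpr_gt (f166414 IH) (Lpr_ct (f201392 IH) (Lpr_gt (f405131 IH) (Lpn (LP (LK LD1_c18 LD2_c22 LD3_c46))))))))))))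
theorem f582578 : Led Lsl_ft (LP (LK LD1_c18 LD2_c21 LD3_c7)) = (LP (LK LD1_c18 LD2_c22 LD3_c46)) :=
  Lgr Lrot4 (Lpe (K39.f547605 IH) (Lpe (K42.f572836 IH) (Lpr_cf (f582570 IH) (Lpn (LP (LK LD1_c18 LD2_c22 LD3_c46))))))
theorem f582584 : Led Lsl_df (LP (LK LD1_c21 LD2_c2 LD3_c57)) = (LP (LK LD1_c18 LD2_c22 LD3_c46)) :=
  Lgr Lrot78 (Lpe (K39.f385915 IH) (Lpr_dt (K38.f547611 IH) (Lpr_ft (f582578 IH) (Lpn (LP (LK LD1_c18 LD2_c22 LD3_c46))))))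
theorem f567235 : Led Lsl_df (LP (LK LD1_c5 LD2_c12 LD3_c58)) = (LP (LK LD1_c10 LD2_c4 LD3_c7)) :=
  Lgr Lrot38 (Lpr_dt (K41.f567233 IH) (Lpn (LP (LK LD1_c10 LD2_c4 LD3_c7))))
theorem f187896 : Led Lsl_bt (LP (LK LD1_c1 LD2_c13 LD3_c37)) = (LP (LK LD1_c2 LD2_c33 LD3_c21)) :=
  Lre_b IH (LK LD1_c1 LD2_c13 LD3_c37) (LK LD1_c2 LD2_c33 LD3_c21) Lrfl Lrfl
theorem f255445 : Led Lsl_ft (LP (LK LD1_c2 LD2_c33 LD3_c21)) = (LP (LK LD1_c2 LD2_c29 LD3_c55)) :=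
  Lgr Lrot75 (Lpe (f187896 IH) (Lpr_ff (K14.f255443 IH) (Lpe (K11.f164854 IH) (Lpn (LP (LK LD1_c2 LD2_c29 LD3_c55))))))
theorem f413415 : Led Lsl_gt (LP (LK LD1_c5 LD2_c12 LD3_c58)) = (LP (LK LD1_c5 LD2_c5 LD3_c13)) :=
  Lgr Lrot46 (Lpe (K41.f185156 IH) (Lpr_ft (f255445 IH) (Lpr_at (K38.f164850 IH) (Lpn (LP (LK LD1_c5 LD2_c5 LD3_c13))))))
theorem f185734 : Led Lsl_dt (LP (LK LD1_c5 LD2_c13 LD3_c28)) = (LP (LK LD1_c10 LD2_c17 LD3_c12)) :=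
  Lre_d IH (LK LD1_c5 LD2_c13 LD3_c28) (LK LD1_c10 LD2_c17 LD3_c12) Lrfl Lrfl
theorem f303909 : Led Lsl_ct (LP (LK LD1_c10 LD2_c17 LD3_c12)) = (LP (LK LD1_c18 LD2_c42 LD3_c5)) :=
  Lre_c IH (LK LD1_c10 LD2_c17 LD3_c12) (LK LD1_c18 LD2_c42 LD3_c5) Lrfl Lrfl
theorem f546410 : Led Lsl_dt (LP (LK LD1_c18 LD2_c42 LD3_c5)) = (LP (LK LD1_c16 LD2_c29 LD3_c39)) :=
  Lgr Lrot140 (Lpe (f303909 IH) (Lpe (f185734 IH) (Lpe (K36.f185163 IH) (Lpe (K18.f185746 IH) (Lpr_ft (K43.f302384 IH) (Lpr_at (K43.f164970 IH) (Lpe (K18.f164966 IH) (Lpr_df (K38.f546402 IH) (Lpe (K43.f546405 IH) (Lpn (LP (LK LD1_c16 LD2_c29 LD3_c39))))))))))))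
theorem f582592 : Led Lsl_gt (LP (LK LD1_c21 LD2_c2 LD3_c57)) = (LP (LK LD1_c18 LD2_c42 LD3_c5)) :=
  Lgr Lrot49 (Lpr_df (f582584 IH) (Lpe (f405131 IH) (Lpe (f201392 IH) (Lpr_gt (K41.f240926 IH) (Lpe (f567235 IH) (Lpr_gt (f413415 IH) (Lpr_dt (K38.f546398 IH) (Lpe (K43.f546405 IH) (Lpe (f546410 IH) (Lpn (LP (LK LD1_c18 LD2_c42 LD3_c5))))))))))))
theorem f582594 : Led Lsl_gf (LP (LK LD1_c21 LD2_c2 LD3_c49)) = (LP (LK LD1_c18 LD2_c42 LD3_c5)) :=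
  Lgr Lrot76 (Lpr_af (K39.f408531 IH) (Lpr_ff (K39.f385915 IH) (Lpr_gt (f582592 IH) (Lpn (LP (LK LD1_c18 LD2_c42 LD3_c5))))))
theorem f32481 : Led Lsl_dt (LP (LK LD1_c10 LD2_c23 LD3_c52)) = (LP (LK LD1_c18 LD2_c51 LD3_c56)) :=
  Lre_d IH (LK LD1_c10 LD2_c23 LD3_c52) (LK LD1_c18 LD2_c51 LD3_c56) Lrfl Lrfl
theorem f406456 : Led Lsl_bt (LP (LK LD1_c28 LD2_c13 LD3_c6)) = (LP (LK LD1_c18 LD2_c42 LD3_c5)) :=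
  Lre_b IH (LK LD1_c28 LD2_c13 LD3_c6) (LK LD1_c18 LD2_c42 LD3_c5) Lrfl Lrfl
theorem f582598 : Led Lsl_ct (LP (LK LD1_c18 LD2_c51 LD3_c56)) = (LP (LK LD1_c28 LD2_c13 LD3_c6)) :=
  Lgr Lrot191 (Lpe (f32481 IH) (Lpe (K37.f32480 IH) (Lpe (K2.f32447 IH) (Lpe (K2.f32446 IH) (Lpe (K15.f32159 IH) (Lpe (K10.f32921 IH) (Lpr_bf (K10.f171517 IH) (Lpe (K10.f171524 IH) (Lpe (K10.f171529 IH) (Lpe (K12.f227918 IH) (Lpr_bf (K12.f227927 IH) (Lpe (K12.f190439 IH) (Lpe (K13.f190438 IH) (Lpe (K13.f242522 IH) (Lpe (K38.f193855 IH) (Lpe (K38.f193870 IH) (Lpe (K38.f193873 IH) (Lpr_gf (f582594 IH) (Lpe (f406456 IH) (Lpn (LP (LK LD1_c28 LD2_c13 LD3_c6))))))))))))))))))))))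
theorem f582603 : Led Lsl_ft (LP (LK LD1_c28 LD2_c20 LD3_c12)) = (LP (LK LD1_c18 LD2_c51 LD3_c56)) :=
  Lre_f IH (LK LD1_c28 LD2_c20 LD3_c12) (LK LD1_c18 LD2_c51 LD3_c56) Lrfl Lrfl
theorem f302389 : Led Lsl_ff (LP (LK LD1_c5 LD2_c13 LD3_c28)) = (LP (LK LD1_c5 LD2_c5 LD3_c60)) :=
  Lgr Lrot23 (Lpr_ct (K38.f185161 IH) (Lpr_ft (K18.f302386 IH) (Lpr_ct (K42.f166178 IH) (Lpn (LP (LK LD1_c5 LD2_c5 LD3_c60))))))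
theorem f406437 : Led Lsl_ft (LP (LK LD1_c10 LD2_c17 LD3_c12)) = (LP (LK LD1_c10 LD2_c2 LD3_c56)) :=
  Lgr Lrot54 (Lpe (f185734 IH) (Lpr_ff (f302389 IH) (Lpe (K38.f166202 IH) (Lpn (LP (LK LD1_c10 LD2_c2 LD3_c56))))))
theorem f406448 : Led Lsl_ff (LP (LK LD1_c10 LD2_c17 LD3_c12)) = (LP (LK LD1_c10 LD2_c2 LD3_c56)) :=
  Lgr Lrot3 (Lpr_ft (f406437 IH) (Lpn (LP (LK LD1_c10 LD2_c2 LD3_c56))))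
theorem f406450 : Led Lsl_ft (LP (LK LD1_c18 LD2_c42 LD3_c5)) = (LP (LK LD1_c18 LD2_c21 LD3_c16)) :=
  Lgr Lrot4 (Lpe (f303909 IH) (Lpr_ff (f406448 IH) (Lpe (K38.f166328 IH) (Lpn (LP (LK LD1_c18 LD2_c21 LD3_c16))))))
theorem f166348 : Led Lsl_bt (LP (LK LD1_c18 LD2_c21 LD3_c16)) = (LP (LK LD1_c27 LD2_c59 LD3_c41)) :=
  Lre_b IH (LK LD1_c18 LD2_c21 LD3_c16) (LK LD1_c27 LD2_c59 LD3_c41) Lrfl Lrfl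
theorem f406457 : Led Lsl_ff (LP (LK LD1_c28 LD2_c13 LD3_c6)) = (LP (LK LD1_c27 LD2_c59 LD3_c41)) :=
  Lgr Lrot25 (Lpr_bt (f406456 IH) (Lpr_ft (f406450 IH) (Lpr_bt (f166348 IH) (Lpn (LP (LK LD1_c27 LD2_c59 LD3_c41))))))
theorem f406461 : Led Lsl_ft (LP (LK LD1_c28 LD2_c13 LD3_c6)) = (LP (LK LD1_c27 LD2_c59 LD3_c41)) :=
  Lgr Lrot48 (Lpr_ff (f406457 IH) (Lpn (LP (LK LD1_c27 LD2_c59 LD3_c41))))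
theorem f582604 : Led Lsl_cf (LP (LK LD1_c28 LD2_c20 LD3_c12)) = (LP (LK LD1_c27 LD2_c59 LD3_c41)) :=
  Lgr Lrot108 (Lpr_ft (f582603 IH) (Lpr_ct (f582598 IH) (Lpr_ft (f406461 IH) (Lpn (LP (LK LD1_c27 LD2_c59 LD3_c41))))))
theorem f582614 : Led Lsl_ct (LP (LK LD1_c28 LD2_c20 LD3_c12)) = (LP (LK LD1_c27 LD2_c59 LD3_c41)) :=
  Lgr Lrot59 (Lpr_cf (f582604 IH) (Lpn (LP (LK LD1_c27 LD2_c59 LD3_c41))))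
theorem f582619 : Led Lsl_dt (LP (LK LD1_c18 LD2_c51 LD3_c58)) = (LP (LK LD1_c28 LD2_c20 LD3_c12)) :=
  Lre_d IH (LK LD1_c18 LD2_c51 LD3_c58) (LK LD1_c28 LD2_c20 LD3_c12) Lrfl Lrfl
theorem f166329 : Led Lsl_bt (LP (LK LD1_c27 LD2_c59 LD3_c41)) = (LP (LK LD1_c18 LD2_c21 LD3_c16)) :=
  Lre_b IH (LK LD1_c27 LD2_c59 LD3_c41) (LK LD1_c18 LD2_c21 LD3_c16) Lrfl Lrfl
theorem f192106 : Led Lsl_bt (LP (LK LD1_c2 LD2_c1 LD3_c7)) = (LP (LK LD1_c1 LD2_c11 LD3_c17)) :=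
  Lgr Lrot130 (Lpr_ct (K10.f191559 IH) (Lpe (K13.f32904 IH) (Lpe (K10.f32164 IH) (Lpr_bt (K1.f32276 IH) (Lpe (K10.f32340 IH) (Lpe (K10.f32905 IH) (Lpr_ct (K10.f186840 IH) (Lpe (K10.f3720 IH) (Lpr_cf (K0.f3349 IH) (Lpe (K16.f3721 IH) (Lpn (LP (LK LD1_c1 LD2_c11 LD3_c17)))))))))))))
theorem f192109 : Led Lsl_bt (LP (LK LD1_c0 LD2_c55 LD3_c50)) = (LP (LK LD1_c0 LD2_c34 LD3_c42)) :=
  Lgr Lrot130 (Lpr_ct (K10.f192108 IH) (Lpe (K10.f81104 IH) (Lpe (K0.f33579 IH) (Lpr_bt (K10.f33577 IH) (Lpe (K16.f3721 IH) (Lpe (f192106 IH) (Lpr_ct (K10.f191559 IH) (Lpe (K13.f32904 IH) (Lpe (K10.f32164 IH) (Lpe (K10.f32177 IH) (Lpn (LP (LK LD1_c0 LD2_c34 LD3_c42)))))))))))))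
theorem f32555 : Led Lsl_bt (LP (LK LD1_c5 LD2_c17 LD3_c9)) = (LP (LK LD1_c10 LD2_c23 LD3_c56)) :=
  Lre_b IH (LK LD1_c5 LD2_c17 LD3_c9) (LK LD1_c10 LD2_c23 LD3_c56) Lrfl Lrfl
theorem f582627 : Led Lsl_gf (LP (LK LD1_c18 LD2_c51 LD3_c58)) = (LP (LK LD1_c10 LD2_c23 LD3_c56)) :=
  Lgr Lrot85 (Lpr_dt (f582619 IH) (Lpr_ct (f582614 IH) (Lpr_bt (f166329 IH) (Lpe (K43.f574841 IH) (Lpr_dt (K38.f197347 IH) (Lpr_ct (K38.f197346 IH) (Lpr_bt (K39.f240044 IH) (Lpr_gt (K13.f80332 IH) (Lpr_dt (K13.f240643 IH) (Lpr_ct (K13.f194138 IH) (Lpe (K13.f240591 IH) (Lpr_gt (K13.f194133 IH) (Lpr_dt (K10.f81105 IH) (Lpr_ct (K10.f193459 IH) (Lpr_bt (f192109 IH) (Lpr_gt (K10.f32177 IH) (Lpr_dt (K1.f32166 IH) (Lpr_ct (K10.f32554 IH) (Lpr_bt (f32555 IH) (Lpn (LP (LK LD1_c10 LD2_c23 LD3_c56))))))))))))))))))))))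
theorem f49125 : Led Lsl_bt (LP (LK LD1_c8 LD2_c15 LD3_c52)) = (LP (LK LD1_c4 LD2_c7 LD3_c56)) :=
  Lre_b IH (LK LD1_c8 LD2_c15 LD3_c52) (LK LD1_c4 LD2_c7 LD3_c56) Lrfl Lrfl
theorem f31491 : Led Lsl_at (LP (LK LD1_c17 LD2_c46 LD3_c59)) = (LP (LK LD1_c9 LD2_c40 LD3_c4)) :=
  Lre_a IH (LK LD1_c17 LD2_c46 LD3_c59) (LK LD1_c9 LD2_c40 LD3_c4) Lrfl Lrfl
theorem f31506 : Led Lsl_cf (LP (LK LD1_c17 LD2_c46 LD3_c59)) = (LP (LK LD1_c15 LD2_c0 LD3_c43)) :=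
  Lgr Lrot1 (Lpr_at (f31491 IH) (Lpr_ct (K12.f31487 IH) (Lpr_at (K14.f31505 IH) (Lpn (LP (LK LD1_c15 LD2_c0 LD3_c43))))))
theorem f43538 : Led Lsl_bt (LP (LK LD1_c9 LD2_c39 LD3_c32)) = (LP (LK LD1_c4 LD2_c54 LD3_c3)) :=
  Lre_b IH (LK LD1_c9 LD2_c39 LD3_c32) (LK LD1_c4 LD2_c54 LD3_c3) Lrfl Lrfl
theorem f43539 : Led Lsl_at (LP (LK LD1_c17 LD2_c45 LD3_c49)) = (LP (LK LD1_c9 LD2_c39 LD3_c32)) :=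
  Lre_a IH (LK LD1_c17 LD2_c45 LD3_c49) (LK LD1_c9 LD2_c39 LD3_c32) Lrfl Lrfl
theorem f31483 : Led Lsl_at (LP (LK LD1_c9 LD2_c40 LD3_c4)) = (LP (LK LD1_c17 LD2_c46 LD3_c59)) :=
  Lre_a IH (LK LD1_c9 LD2_c40 LD3_c4) (LK LD1_c17 LD2_c46 LD3_c59) Lrfl Lrfl
theorem f43540 : Led Lsl_bf (LP (LK LD1_c17 LD2_c45 LD3_c49)) = (LP (LK LD1_c17 LD2_c46 LD3_c59)) :=
  Lgr Lrot81 (Lpr_at (f43539 IH) (Lpr_bt (f43538 IH) (Lpr_at (K9.f43534 IH) (Lpr_bt (K12.f31508 IH) (Lpr_at (f31483 IH) (Lpn (LP (LK LD1_c17 LD2_c46 LD3_c59))))))))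
theorem f45035 : Led Lsl_at (LP (LK LD1_c15 LD2_c50 LD3_c48)) = (LP (LK LD1_c8 LD2_c26 LD3_c12)) :=
  Lre_a IH (LK LD1_c15 LD2_c50 LD3_c48) (LK LD1_c8 LD2_c26 LD3_c12) Lrfl Lrfl
theorem f45036 : Led Lsl_et (LP (LK LD1_c15 LD2_c31 LD3_c2)) = (LP (LK LD1_c15 LD2_c50 LD3_c48)) :=
  Lgr Lrot123 (Lpe (K14.f45034 IH) (Lpr_ef (K13.f45019 IH) (Lpe (f45035 IH) (Lpn (LP (LK LD1_c15 LD2_c50 LD3_c48))))))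
theorem f49955 : Led Lsl_bf (LP (LK LD1_c15 LD2_c31 LD3_c2)) = (LP (LK LD1_c15 LD2_c32 LD3_c14)) :=
  Lgr Lrot96 (Lpr_et (f45036 IH) (Lpr_bt (K13.f49521 IH) (Lpr_et (K13.f49945 IH) (Lpn (LP (LK LD1_c15 LD2_c32 LD3_c14))))))
theorem f51320 : Led Lsl_ct (LP (LK LD1_c17 LD2_c45 LD3_c49)) = (LP (LK LD1_c15 LD2_c32 LD3_c14)) :=
  Lgr Lrot83 (Lpr_bf (f43540 IH) (Lpr_cf (f31506 IH) (Lpr_bf (K13.f43855 IH) (Lpr_cf (K13.f51318 IH) (Lpr_bf (f49955 IH) (Lpn (LP (LK LD1_c15 LD2_c32 LD3_c14))))))))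
theorem f43544 : Led Lsl_at (LP (LK LD1_c9 LD2_c39 LD3_c32)) = (LP (LK LD1_c17 LD2_c45 LD3_c49)) :=
  Lre_a IH (LK LD1_c9 LD2_c39 LD3_c32) (LK LD1_c17 LD2_c45 LD3_c49) Lrfl Lrfl
theorem f51322 : Led Lsl_cf (LP (LK LD1_c9 LD2_c39 LD3_c32)) = (LP (LK LD1_c8 LD2_c15 LD3_c52)) :=
  Lgr Lrot1 (Lpr_at (f43544 IH) (Lpr_ct (f51320 IH) (Lpr_at (K13.f49944 IH) (Lpn (LP (LK LD1_c8 LD2_c15 LD3_c52))))))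
theorem f51324 : Led Lsl_gt (LP (LK LD1_c17 LD2_c45 LD3_c48)) = (LP (LK LD1_c9 LD2_c39 LD3_c32)) :=
  Lre_g IH (LK LD1_c17 LD2_c45 LD3_c48) (LK LD1_c9 LD2_c39 LD3_c32) Lrfl Lrfl
theorem f51325 : Led Lsl_ct (LP (LK LD1_c27 LD2_c32 LD3_c2)) = (LP (LK LD1_c17 LD2_c45 LD3_c48)) :=
  Lre_c IH (LK LD1_c27 LD2_c32 LD3_c2) (LK LD1_c17 LD2_c45 LD3_c48) Lrfl Lrfl
theorem f582636 : Led Lsl_bf (LP (LK LD1_c18 LD2_c51 LD3_c58)) = (LP (LK LD1_c27 LD2_c32 LD3_c2)) :=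
  Lgr Lrot34 (Lpr_gf (f582627 IH) (Lpe (f32555 IH) (Lpr_ct (K10.f32507 IH) (Lpe (K10.f32174 IH) (Lpe (K10.f188288 IH) (Lpr_gf (K10.f188289 IH) (Lpe (f49125 IH) (Lpe (f51322 IH) (Lpe (f51324 IH) (Lpe (f51325 IH) (Lpn (LP (LK LD1_c27 LD2_c32 LD3_c2)))))))))))))
theorem f582626 : Led Lsl_ft (LP (LK LD1_c18 LD2_c51 LD3_c58)) = (LP (LK LD1_c10 LD2_c23 LD3_c52)) :=
  Lre_f IH (LK LD1_c18 LD2_c51 LD3_c58) (LK LD1_c10 LD2_c23 LD3_c52) Lrfl Lrfl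
theorem f197108 : Led Lsl_bt (LP (LK LD1_c10 LD2_c23 LD3_c52)) = (LP (LK LD1_c18 LD2_c51 LD3_c54)) :=
  Lre_b IH (LK LD1_c10 LD2_c23 LD3_c52) (LK LD1_c18 LD2_c51 LD3_c54) Lrfl Lrfl
theorem f582645 : Led Lsl_ft (LP (LK LD1_c18 LD2_c51 LD3_c54)) = (LP (LK LD1_c27 LD2_c32 LD3_c2)) :=
  Lgr Lrot75 (Lpe (f197108 IH) (Lpe (f582626 IH) (Lpr_bf (f582636 IH) (Lpn (LP (LK LD1_c27 LD2_c32 LD3_c2))))))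
theorem f582649 : Led Lsl_ff (LP (LK LD1_c18 LD2_c51 LD3_c54)) = (LP (LK LD1_c27 LD2_c32 LD3_c2)) :=
  Lgr Lrot3 (Lpr_ft (f582645 IH) (Lpn (LP (LK LD1_c27 LD2_c32 LD3_c2))))
theorem f582607 : Led Lsl_at (LP (LK LD1_c18 LD2_c51 LD3_c58)) = (LP (LK LD1_c10 LD2_c23 LD3_c53)) :=
  Lre_a IH (LK LD1_c18 LD2_c51 LD3_c58) (LK LD1_c10 LD2_c23 LD3_c53) Lrfl Lrfl
theorem f544729 : Led Lsl_at (LP (LK LD1_c18 LD2_c51 LD3_c59)) = (LP (LK LD1_c27 LD2_c33 LD3_c52)) :=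
  Lgr Lrot100 (Lpr_af (K37.f544727 IH) (Lpn (LP (LK LD1_c27 LD2_c33 LD3_c52))))
theorem f249360 : Led Lsl_bt (LP (LK LD1_c10 LD2_c14 LD3_c56)) = (LP (LK LD1_c5 LD2_c12 LD3_c4)) :=
  Lre_b IH (LK LD1_c10 LD2_c14 LD3_c56) (LK LD1_c5 LD2_c12 LD3_c4) Lrfl Lrfl
theorem f249370 : Led Lsl_ct (LP (LK LD1_c18 LD2_c38 LD3_c46)) = (LP (LK LD1_c10 LD2_c14 LD3_c56)) :=
  Lre_c IH (LK LD1_c18 LD2_c38 LD3_c46) (LK LD1_c10 LD2_c14 LD3_c56) Lrfl Lrfl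
theorem f249371 : Led Lsl_bt (LP (LK LD1_c9 LD2_c40 LD3_c8)) = (LP (LK LD1_c17 LD2_c47 LD3_c2)) :=
  Lre_b IH (LK LD1_c9 LD2_c40 LD3_c8) (LK LD1_c17 LD2_c47 LD3_c2) Lrfl Lrfl
theorem f249524 : Led Lsl_bf (LP (LK LD1_c18 LD2_c38 LD3_c46)) = (LP (LK LD1_c27 LD2_c33 LD3_c52)) :=
  Lgr Lrot90 (Lpr_ct (f249370 IH) (Lpr_bt (f249360 IH) (Lpr_ct (K15.f249378 IH) (Lpr_bt (f249371 IH) (Lpr_ct (K18.f233457 IH) (Lpn (LP (LK LD1_c27 LD2_c33 LD3_c52))))))))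
theorem f582638 : Led Lsl_at (LP (LK LD1_c18 LD2_c38 LD3_c46)) = (LP (LK LD1_c27 LD2_c32 LD3_c2)) :=
  Lgr Lrot67 (Lpr_bf (f249524 IH) (Lpe (f544729 IH) (Lpe (K37.f197099 IH) (Lpe (f582607 IH) (Lpr_bf (f582636 IH) (Lpn (LP (LK LD1_c27 LD2_c32 LD3_c2))))))))
theorem f582651 : Led Lsl_at (LP (LK LD1_c18 LD2_c51 LD3_c54)) = (LP (LK LD1_c18 LD2_c21 LD3_c54)) :=
  Lgr Lrot66 (Lpr_ff (f582649 IH) (Lpe (f582638 IH) (Lpe (K18.f300257 IH) (Lpn (LP (LK LD1_c18 LD2_c21 LD3_c54))))))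
theorem f169663 : Led Lsl_ct (LP (LK LD1_c10 LD2_c3 LD3_c21)) = (LP (LK LD1_c18 LD2_c21 LD3_c54)) :=
  Lre_c IH (LK LD1_c10 LD2_c3 LD3_c21) (LK LD1_c18 LD2_c21 LD3_c54) Lrfl Lrfl
theorem f169605 : Led Lsl_dt (LP (LK LD1_c5 LD2_c6 LD3_c10)) = (LP (LK LD1_c10 LD2_c3 LD3_c21)) :=
  Lre_d IH (LK LD1_c5 LD2_c6 LD3_c10) (LK LD1_c10 LD2_c3 LD3_c21) Lrfl Lrfl
theorem f165303 : Led Lsl_ct (LP (LK LD1_c2 LD2_c30 LD3_c25)) = (LP (LK LD1_c5 LD2_c6 LD3_c10)) :=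
  Lre_c IH (LK LD1_c2 LD2_c30 LD3_c25) (LK LD1_c5 LD2_c6 LD3_c10) Lrfl Lrfl
theorem f165302 : Led Lsl_bt (LP (LK LD1_c2 LD2_c30 LD3_c25)) = (LP (LK LD1_c1 LD2_c12 LD3_c13)) :=
  Lre_b IH (LK LD1_c2 LD2_c30 LD3_c25) (LK LD1_c1 LD2_c12 LD3_c13) Lrfl Lrfl
theorem f166204 : Led Lsl_bt (LP (LK LD1_c2 LD2_c29 LD3_c41)) = (LP (LK LD1_c5 LD2_c4 LD3_c39)) :=
  Lre_b IH (LK LD1_c2 LD2_c29 LD3_c41) (LK LD1_c5 LD2_c4 LD3_c39) Lrfl Lrfl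
theorem f169608 : Led Lsl_df (LP (LK LD1_c2 LD2_c30 LD3_c25)) = (LP (LK LD1_c5 LD2_c4 LD3_c39)) :=
  Lgr Lrot12 (Lpr_bt (f165302 IH) (Lpr_dt (K9.f169582 IH) (Lpr_bt (f166204 IH) (Lpn (LP (LK LD1_c5 LD2_c4 LD3_c39))))))
theorem f166240 : Led Lsl_ct (LP (LK LD1_c10 LD2_c0 LD3_c26)) = (LP (LK LD1_c5 LD2_c4 LD3_c39)) :=
  Lre_c IH (LK LD1_c10 LD2_c0 LD3_c26) (LK LD1_c5 LD2_c4 LD3_c39) Lrfl Lrfl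
theorem f166320 : Led Lsl_dt (LP (LK LD1_c18 LD2_c17 LD3_c23)) = (LP (LK LD1_c10 LD2_c0 LD3_c26)) :=
  Lre_d IH (LK LD1_c18 LD2_c17 LD3_c23) (LK LD1_c10 LD2_c0 LD3_c26) Lrfl Lrfl
theorem f166347 : Led Lsl_ct (LP (LK LD1_c27 LD2_c56 LD3_c23)) = (LP (LK LD1_c18 LD2_c17 LD3_c23)) :=
  Lre_c IH (LK LD1_c27 LD2_c56 LD3_c23) (LK LD1_c18 LD2_c17 LD3_c23) Lrfl Lrfl
theorem f582654 : Led Lsl_df (LP (LK LD1_c27 LD2_c56 LD3_c23)) = (LP (LK LD1_c27 LD2_c32 LD3_c2)) :=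
  Lgr Lrot157 (Lpr_ct (f166347 IH) (Lpr_dt (f166320 IH) (Lpr_ct (f166240 IH) (Lpe (f169608 IH) (Lpr_ct (f165303 IH) (Lpr_dt (f169605 IH) (Lpr_ct (f169663 IH) (Lpe (f582651 IH) (Lpr_ff (f582649 IH) (Lpn (LP (LK LD1_c27 LD2_c32 LD3_c2))))))))))))
theorem f169666 : Led Lsl_at (LP (LK LD1_c10 LD2_c3 LD3_c20)) = (LP (LK LD1_c5 LD2_c6 LD3_c10)) :=
  Lre_a IH (LK LD1_c10 LD2_c3 LD3_c20) (LK LD1_c5 LD2_c6 LD3_c10) Lrfl Lrfl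
theorem f582642 : Led Lsl_ct (LP (LK LD1_c17 LD2_c45 LD3_c48)) = (LP (LK LD1_c27 LD2_c32 LD3_c2)) :=
  Lre_c IH (LK LD1_c17 LD2_c45 LD3_c48) (LK LD1_c27 LD2_c32 LD3_c2) Lrfl Lrfl
theorem f582656 : Led Lsl_dt (LP (LK LD1_c10 LD2_c14 LD3_c55)) = (LP (LK LD1_c17 LD2_c45 LD3_c48)) :=
  Lgr Lrot159 (Lpr_ft (K18.f300581 IH) (Lpr_at (f169666 IH) (Lpe (f165303 IH) (Lpr_df (f169608 IH) (Lpe (f166240 IH) (Lpe (f166320 IH) (Lpe (f166347 IH) (Lpr_df (f582654 IH) (Lpe (f582642 IH) (Lpn (LP (LK LD1_c17 LD2_c45 LD3_c48))))))))))))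
theorem f582665 : Led Lsl_ff (LP (LK LD1_c18 LD2_c21 LD3_c52)) = (LP (LK LD1_c17 LD2_c45 LD3_c48)) :=
  Lgr Lrot19 (Lpr_dt (K18.f300570 IH) (Lpe (K18.f300590 IH) (Lpr_dt (f582656 IH) (Lpn (LP (LK LD1_c17 LD2_c45 LD3_c48))))))
theorem f582673 : Led Lsl_ft (LP (LK LD1_c18 LD2_c21 LD3_c52)) = (LP (LK LD1_c17 LD2_c45 LD3_c48)) :=
  Lgr Lrot48 (Lpr_ff (f582665 IH) (Lpn (LP (LK LD1_c17 LD2_c45 LD3_c48))))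
theorem f582675 : Led Lsl_cf (LP (LK LD1_c18 LD2_c21 LD3_c52)) = (LP (LK LD1_c18 LD2_c51 LD3_c54)) :=
  Lgr Lrot108 (Lpr_ft (f582673 IH) (Lpr_ct (f582642 IH) (Lpe (f582649 IH) (Lpn (LP (LK LD1_c18 LD2_c51 LD3_c54))))))
theorem f32833 : Led Lsl_bt (LP (LK LD1_c18 LD2_c51 LD3_c54)) = (LP (LK LD1_c10 LD2_c23 LD3_c52)) :=
  Lre_b IH (LK LD1_c18 LD2_c51 LD3_c54) (LK LD1_c10 LD2_c23 LD3_c52) Lrfl Lrfl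
theorem f32775 : Led Lsl_gt (LP (LK LD1_c10 LD2_c23 LD3_c52)) = (LP (LK LD1_c18 LD2_c51 LD3_c52)) :=
  Lre_g IH (LK LD1_c10 LD2_c23 LD3_c52) (LK LD1_c18 LD2_c51 LD3_c52) Lrfl Lrfl
theorem f32688 : Led Lsl_bt (LP (LK LD1_c10 LD2_c25 LD3_c53)) = (LP (LK LD1_c18 LD2_c51 LD3_c52)) :=
  Lre_b IH (LK LD1_c10 LD2_c25 LD3_c53) (LK LD1_c18 LD2_c51 LD3_c52) Lrfl Lrfl
theorem f43886 : Led Lsl_bf (LP (LK LD1_c24 LD2_c48 LD3_c12)) = (LP (LK LD1_c24 LD2_c48 LD3_c25)) :=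
  Lgr Lrot24 (Lpr_bt (K13.f43867 IH) (Lpn (LP (LK LD1_c24 LD2_c48 LD3_c25))))
theorem f31513 : Led Lsl_dt (LP (LK LD1_c24 LD2_c48 LD3_c12)) = (LP (LK LD1_c15 LD2_c0 LD3_c43)) :=
  Lre_d IH (LK LD1_c24 LD2_c48 LD3_c12) (LK LD1_c15 LD2_c0 LD3_c43) Lrfl Lrfl
theorem f43894 : Led Lsl_bt (LP (LK LD1_c15 LD2_c0 LD3_c43)) = (LP (LK LD1_c15 LD2_c0 LD3_c50)) :=
  Lgr Lrot95 (Lpe (f31513 IH) (Lpr_bf (f43886 IH) (Lpe (K13.f43893 IH) (Lpn (LP (LK LD1_c15 LD2_c0 LD3_c50))))))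
theorem f31485 : Led Lsl_ct (LP (LK LD1_c17 LD2_c46 LD3_c59)) = (LP (LK LD1_c15 LD2_c0 LD3_c43)) :=
  Lgr Lrot111 (Lpe (f31483 IH) (Lpr_cf (K12.f31478 IH) (Lpe (K13.f31484 IH) (Lpn (LP (LK LD1_c15 LD2_c0 LD3_c43))))))
theorem f43542 : Led Lsl_bt (LP (LK LD1_c17 LD2_c45 LD3_c49)) = (LP (LK LD1_c17 LD2_c46 LD3_c59)) :=
  Lgr Lrot127 (Lpr_bf (f43540 IH) (Lpn (LP (LK LD1_c17 LD2_c46 LD3_c59))))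
theorem f51316 : Led Lsl_cf (LP (LK LD1_c17 LD2_c45 LD3_c49)) = (LP (LK LD1_c15 LD2_c32 LD3_c14)) :=
  Lgr Lrot97 (Lpr_bt (f43542 IH) (Lpr_ct (f31485 IH) (Lpr_bt (f43894 IH) (Lpr_ct (K13.f51308 IH) (Lpr_bt (K13.f49962 IH) (Lpn (LP (LK LD1_c15 LD2_c32 LD3_c14))))))))
theorem f582683 : Led Lsl_gf (LP (LK LD1_c18 LD2_c21 LD3_c52)) = (LP (LK LD1_c17 LD2_c45 LD3_c49)) :=
  Lgr Lrot129 (Lpr_cf (f582675 IH) (Lpr_bt (f32833 IH) (Lpr_gt (f32775 IH) (Lpe (f32688 IH) (Lpr_ct (K13.f32755 IH) (Lpr_gt (K13.f32695 IH) (Lpe (K13.f186641 IH) (Lpr_bt (K13.f214605 IH) (Lpe (K13.f214606 IH) (Lpe (f51316 IH) (Lpn (LP (LK LD1_c17 LD2_c45 LD3_c49)))))))))))))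
theorem f406491 : Led Lsl_at (LP (LK LD1_c10 LD2_c3 LD3_c21)) = (LP (LK LD1_c18 LD2_c21 LD3_c52)) :=
  Lre_a IH (LK LD1_c10 LD2_c3 LD3_c21) (LK LD1_c18 LD2_c21 LD3_c52) Lrfl Lrfl
theorem f300259 : Led Lsl_ff (LP (LK LD1_c10 LD2_c3 LD3_c21)) = (LP (LK LD1_c10 LD2_c14 LD3_c56)) :=
  Lgr Lrot23 (Lpr_ct (f169663 IH) (Lpr_ft (K18.f300257 IH) (Lpr_ct (f249370 IH) (Lpn (LP (LK LD1_c10 LD2_c14 LD3_c56))))))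
theorem f582685 : Led Lsl_gt (LP (LK LD1_c10 LD2_c14 LD3_c56)) = (LP (LK LD1_c17 LD2_c45 LD3_c49)) :=
  Lgr Lrot5 (Lpe (f300259 IH) (Lpr_at (f406491 IH) (Lpr_gf (f582683 IH) (Lpn (LP (LK LD1_c17 LD2_c45 LD3_c49))))))
theorem f28304 : Led Lsl_ct (LP (LK LD1_c2 LD2_c36 LD3_c44)) = (LP (LK LD1_c5 LD2_c20 LD3_c11)) :=
  Lre_c IH (LK LD1_c2 LD2_c36 LD3_c44) (LK LD1_c5 LD2_c20 LD3_c11) Lrfl Lrfl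
theorem f214217 : Led Lsl_at (LP (LK LD1_c18 LD2_c30 LD3_c31)) = (LP (LK LD1_c10 LD2_c9 LD3_c37)) :=
  Lre_a IH (LK LD1_c18 LD2_c30 LD3_c31) (LK LD1_c10 LD2_c9 LD3_c37) Lrfl Lrfl
theorem f214437 : Led Lsl_ff (LP (LK LD1_c18 LD2_c30 LD3_c31)) = (LP (LK LD1_c15 LD2_c0 LD3_c43)) :=
  Lgr Lrot30 (Lpr_at (f214217 IH) (Lpr_ft (K13.f214435 IH) (Lpr_at (K14.f31505 IH) (Lpn (LP (LK LD1_c15 LD2_c0 LD3_c43))))))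
theorem f214575 : Led Lsl_gt (LP (LK LD1_c18 LD2_c30 LD3_c30)) = (LP (LK LD1_c10 LD2_c9 LD3_c37)) :=
  Lre_g IH (LK LD1_c18 LD2_c30 LD3_c30) (LK LD1_c10 LD2_c9 LD3_c37) Lrfl Lrfl
theorem f214975 : Led Lsl_gf (LP (LK LD1_c18 LD2_c30 LD3_c30)) = (LP (LK LD1_c15 LD2_c0 LD3_c43)) :=
  Lgr Lrot47 (Lpr_gt (f214575 IH) (Lpe (f214217 IH) (Lpr_ff (f214437 IH) (Lpn (LP (LK LD1_c15 LD2_c0 LD3_c43))))))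
theorem f214218 : Led Lsl_bt (LP (LK LD1_c10 LD2_c9 LD3_c37)) = (LP (LK LD1_c5 LD2_c9 LD3_c27)) :=
  Lre_b IH (LK LD1_c10 LD2_c9 LD3_c37) (LK LD1_c5 LD2_c9 LD3_c27) Lrfl Lrfl
theorem f184083 : Led Lsl_bt (LP (LK LD1_c5 LD2_c16 LD3_c26)) = (LP (LK LD1_c10 LD2_c22 LD3_c24)) :=
  Lre_b IH (LK LD1_c5 LD2_c16 LD3_c26) (LK LD1_c10 LD2_c22 LD3_c24) Lrfl Lrfl
theorem f214264 : Led Lsl_cf (LP (LK LD1_c10 LD2_c9 LD3_c37)) = (LP (LK LD1_c10 LD2_c22 LD3_c24)) :=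
  Lgr Lrot97 (Lpr_bt (f214218 IH) (Lpr_ct (K12.f214102 IH) (Lpr_bt (K12.f214128 IH) (Lpe (K9.f184081 IH) (Lpr_bt (f184083 IH) (Lpn (LP (LK LD1_c10 LD2_c22 LD3_c24))))))))
theorem f166116 : Led Lsl_bt (LP (LK LD1_c10 LD2_c22 LD3_c24)) = (LP (LK LD1_c5 LD2_c16 LD3_c26)) :=
  Lre_b IH (LK LD1_c10 LD2_c22 LD3_c24) (LK LD1_c5 LD2_c16 LD3_c26) Lrfl Lrfl
theorem f44198 : Led Lsl_bt (LP (LK LD1_c1 LD2_c15 LD3_c13)) = (LP (LK LD1_c2 LD2_c36 LD3_c26)) :=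
  Lre_b IH (LK LD1_c1 LD2_c15 LD3_c13) (LK LD1_c2 LD2_c36 LD3_c26) Lrfl Lrfl
theorem f44187 : Led Lsl_gt (LP (LK LD1_c2 LD2_c36 LD3_c26)) = (LP (LK LD1_c5 LD2_c19 LD3_c34)) :=
  Lre_g IH (LK LD1_c2 LD2_c36 LD3_c26) (LK LD1_c5 LD2_c19 LD3_c34) Lrfl Lrfl
theorem f184228 : Led Lsl_bt (LP (LK LD1_c10 LD2_c28 LD3_c60)) = (LP (LK LD1_c5 LD2_c19 LD3_c34)) :=
  Lre_b IH (LK LD1_c10 LD2_c28 LD3_c60) (LK LD1_c5 LD2_c19 LD3_c34) Lrfl Lrfl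
theorem f215909 : Led Lsl_cf (LP (LK LD1_c18 LD2_c30 LD3_c30)) = (LP (LK LD1_c10 LD2_c28 LD3_c60)) :=
  Lgr Lrot160 (Lpr_gt (f214575 IH) (Lpr_cf (f214264 IH) (Lpr_bt (f166116 IH) (Lpr_gt (K9.f166115 IH) (Lpr_ct (K9.f165881 IH) (Lpr_gt (K9.f184104 IH) (Lpe (K1.f44062 IH) (Lpr_bt (f44198 IH) (Lpr_gt (f44187 IH) (Lpe (f184228 IH) (Lpn (LP (LK LD1_c10 LD2_c28 LD3_c60)))))))))))))
theorem f582691 : Led Lsl_gf (LP (LK LD1_c2 LD2_c36 LD3_c44)) = (LP (LK LD1_c5 LD2_c19 LD3_c34)) :=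
  Lgr Lrot181 (Lpr_ct (f28304 IH) (Lpr_gt (K14.f233447 IH) (Lpe (K15.f249378 IH) (Lpr_bt (K18.f249374 IH) (Lpr_gt (f582685 IH) (Lpr_bf (f43540 IH) (Lpr_ct (f31485 IH) (Lpe (f214975 IH) (Lpr_cf (f215909 IH) (Lpr_bt (f184228 IH) (Lpn (LP (LK LD1_c5 LD2_c19 LD3_c34)))))))))))))
theorem f259065 : Led Lsl_gt (LP (LK LD1_c10 LD2_c14 LD3_c49)) = (LP (LK LD1_c5 LD2_c19 LD3_c32)) :=
  Lgr Lrot180 (Lpr_ct (K15.f259055 IH) (Lpr_gt (K15.f251629 IH) (Lpr_dt (K12.f229931 IH) (Lpe (K14.f248279 IH) (Lpe (K14.f212337 IH) (Lpr_ct (K14.f46527 IH) (Lpe (K14.f44126 IH) (Lpe (K14.f44275 IH) (Lpe (K15.f212428 IH) (Lpn (LP (LK LD1_c5 LD2_c19 LD3_c32))))))))))))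
theorem f266241 : Led Lsl_gt (LP (LK LD1_c5 LD2_c8 LD3_c45)) = (LP (LK LD1_c5 LD2_c11 LD3_c61)) :=
  Lgr Lrot94 (Lpe (K13.f190307 IH) (Lpr_gt (K14.f190322 IH) (Lpr_dt (K14.f251303 IH) (Lpr_gt (K15.f260251 IH) (Lpr_dt (K15.f266235 IH) (Lpe (K15.f229986 IH) (Lpe (K15.f212428 IH) (Lpe (f259065 IH) (Lpe (K22.f258067 IH) (Lpn (LP (LK LD1_c5 LD2_c11 LD3_c61))))))))))))
theorem f582700 : Led Lsl_df (LP (LK LD1_c5 LD2_c8 LD3_c45)) = (LP (LK LD1_c5 LD2_c19 LD3_c34)) :=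
  Lgr Lrot155 (Lpr_gt (f266241 IH) (Lpr_ct (K23.f249385 IH) (Lpr_gt (K15.f186799 IH) (Lpr_ct (K14.f191165 IH) (Lpr_dt (K14.f249112 IH) (Lpr_cf (K14.f249368 IH) (Lpe (K14.f233447 IH) (Lpe (f28304 IH) (Lpr_gf (f582691 IH) (Lpn (LP (LK LD1_c5 LD2_c19 LD3_c34))))))))))))
theorem f582710 : Led Lsl_gf (LP (LK LD1_c5 LD2_c2 LD3_c12)) = (LP (LK LD1_c5 LD2_c19 LD3_c6)) :=
  Lgr Lrot144 (Lpr_dt (K15.f177632 IH) (Lpr_gt (K15.f249431 IH) (Lpr_dt (K15.f251628 IH) (Lpe (K15.f259055 IH) (Lpe (K22.f258067 IH) (Lpe (f266241 IH) (Lpr_df (f582700 IH) (Lpe (f44187 IH) (Lpe (K1.f44200 IH) (Lpn (LP (LK LD1_c5 LD2_c19 LD3_c6))))))))))))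
theorem f249413 : Led Lsl_bt (LP (LK LD1_c9 LD2_c55 LD3_c10)) = (LP (LK LD1_c5 LD2_c2 LD3_c12)) :=
  Lre_b IH (LK LD1_c9 LD2_c55 LD3_c10) (LK LD1_c5 LD2_c2 LD3_c12) Lrfl Lrfl
theorem f249432 : Led Lsl_ct (LP (LK LD1_c9 LD2_c55 LD3_c10)) = (LP (LK LD1_c18 LD2_c9 LD3_c32)) :=
  Lre_c IH (LK LD1_c9 LD2_c55 LD3_c10) (LK LD1_c18 LD2_c9 LD3_c32) Lrfl Lrfl
theorem f44221 : Led Lsl_bt (LP (LK LD1_c2 LD2_c36 LD3_c12)) = (LP (LK LD1_c5 LD2_c19 LD3_c6)) :=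
  Lre_b IH (LK LD1_c2 LD2_c36 LD3_c12) (LK LD1_c5 LD2_c19 LD3_c6) Lrfl Lrfl
theorem f43682 : Led Lsl_bt (LP (LK LD1_c9 LD2_c40 LD3_c28)) = (LP (LK LD1_c4 LD2_c54 LD3_c28)) :=
  Lre_b IH (LK LD1_c9 LD2_c40 LD3_c28) (LK LD1_c4 LD2_c54 LD3_c28) Lrfl Lrfl
theorem f252413 : Led Lsl_bt (LP (LK LD1_c18 LD2_c46 LD3_c40)) = (LP (LK LD1_c28 LD2_c16 LD3_c12)) :=
  Lre_b IH (LK LD1_c18 LD2_c46 LD3_c40) (LK LD1_c28 LD2_c16 LD3_c12) Lrfl Lrfl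
theorem f188424 : Led Lsl_bt (LP (LK LD1_c28 LD2_c22 LD3_c8)) = (LP (LK LD1_c18 LD2_c54 LD3_c21)) :=
  Lre_b IH (LK LD1_c28 LD2_c22 LD3_c8) (LK LD1_c18 LD2_c54 LD3_c21) Lrfl Lrfl
theorem f252429 : Led Lsl_ft (LP (LK LD1_c28 LD2_c16 LD3_c12)) = (LP (LK LD1_c28 LD2_c22 LD3_c8)) :=
  Lgr Lrot75 (Lpe (f252413 IH) (Lpr_ff (K24.f252425 IH) (Lpe (f188424 IH) (Lpn (LP (LK LD1_c28 LD2_c22 LD3_c8))))))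
theorem f252440 : Led Lsl_ff (LP (LK LD1_c28 LD2_c16 LD3_c12)) = (LP (LK LD1_c28 LD2_c22 LD3_c8)) :=
  Lgr Lrot3 (Lpr_ft (f252429 IH) (Lpn (LP (LK LD1_c28 LD2_c22 LD3_c8))))
theorem f252442 : Led Lsl_dt (LP (LK LD1_c28 LD2_c16 LD3_c12)) = (LP (LK LD1_c18 LD2_c46 LD3_c39)) :=
  Lre_d IH (LK LD1_c28 LD2_c16 LD3_c12) (LK LD1_c18 LD2_c46 LD3_c39) Lrfl Lrfl
theorem f252447 : Led Lsl_ft (LP (LK LD1_c18 LD2_c46 LD3_c39)) = (LP (LK LD1_c18 LD2_c54 LD3_c20)) :=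
  Lgr Lrot54 (Lpe (f252442 IH) (Lpr_ff (f252440 IH) (Lpe (K13.f188438 IH) (Lpn (LP (LK LD1_c18 LD2_c54 LD3_c20))))))
theorem f43315 : Led Lsl_bt (LP (LK LD1_c9 LD2_c40 LD3_c34)) = (LP (LK LD1_c17 LD2_c47 LD3_c49)) :=
  Lre_b IH (LK LD1_c9 LD2_c40 LD3_c34) (LK LD1_c17 LD2_c47 LD3_c49) Lrfl Lrfl
theorem f43664 : Led Lsl_at (LP (LK LD1_c17 LD2_c47 LD3_c49)) = (LP (LK LD1_c27 LD2_c34 LD3_c45)) :=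
  Lre_a IH (LK LD1_c17 LD2_c47 LD3_c49) (LK LD1_c27 LD2_c34 LD3_c45) Lrfl Lrfl
theorem f43665 : Led Lsl_bt (LP (LK LD1_c17 LD2_c46 LD3_c38)) = (LP (LK LD1_c9 LD2_c39 LD3_c61)) :=
  Lre_b IH (LK LD1_c17 LD2_c46 LD3_c38) (LK LD1_c9 LD2_c39 LD3_c61) Lrfl Lrfl
theorem f43666 : Led Lsl_at (LP (LK LD1_c27 LD2_c33 LD3_c8)) = (LP (LK LD1_c17 LD2_c46 LD3_c38)) :=
  Lre_a IH (LK LD1_c27 LD2_c33 LD3_c8) (LK LD1_c17 LD2_c46 LD3_c38) Lrfl Lrfl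
theorem f43667 : Led Lsl_bt (LP (LK LD1_c27 LD2_c34 LD3_c45)) = (LP (LK LD1_c27 LD2_c33 LD3_c8)) :=
  Lgr Lrot62 (Lpe (f43664 IH) (Lpe (f43315 IH) (Lpr_af (K13.f43660 IH) (Lpe (f43665 IH) (Lpe (f43666 IH) (Lpn (LP (LK LD1_c27 LD2_c33 LD3_c8))))))))
theorem f43677 : Led Lsl_et (LP (LK LD1_c17 LD2_c47 LD3_c37)) = (LP (LK LD1_c27 LD2_c34 LD3_c45)) :=
  Lre_e IH (LK LD1_c17 LD2_c47 LD3_c37) (LK LD1_c27 LD2_c34 LD3_c45) Lrfl Lrfl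
theorem f43678 : Led Lsl_et (LP (LK LD1_c27 LD2_c33 LD3_c8)) = (LP (LK LD1_c17 LD2_c46 LD3_c27)) :=
  Lre_e IH (LK LD1_c27 LD2_c33 LD3_c8) (LK LD1_c17 LD2_c46 LD3_c27) Lrfl Lrfl
theorem f43679 : Led Lsl_bf (LP (LK LD1_c17 LD2_c47 LD3_c37)) = (LP (LK LD1_c17 LD2_c46 LD3_c27)) :=
  Lgr Lrot96 (Lpr_et (f43677 IH) (Lpr_bt (f43667 IH) (Lpr_et (f43678 IH) (Lpn (LP (LK LD1_c17 LD2_c46 LD3_c27))))))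
theorem f43686 : Led Lsl_ft (LP (LK LD1_c17 LD2_c47 LD3_c37)) = (LP (LK LD1_c9 LD2_c40 LD3_c26)) :=
  Lre_f IH (LK LD1_c17 LD2_c47 LD3_c37) (LK LD1_c9 LD2_c40 LD3_c26) Lrfl Lrfl
theorem f43687 : Led Lsl_ft (LP (LK LD1_c9 LD2_c39 LD3_c53)) = (LP (LK LD1_c17 LD2_c46 LD3_c27)) :=
  Lre_f IH (LK LD1_c9 LD2_c39 LD3_c53) (LK LD1_c17 LD2_c46 LD3_c27) Lrfl Lrfl
theorem f43688 : Led Lsl_bt (LP (LK LD1_c9 LD2_c40 LD3_c26)) = (LP (LK LD1_c9 LD2_c39 LD3_c53)) :=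
  Lgr Lrot35 (Lpe (f43686 IH) (Lpr_bf (f43679 IH) (Lpe (f43687 IH) (Lpn (LP (LK LD1_c9 LD2_c39 LD3_c53))))))
theorem f44401 : Led Lsl_ef (LP (LK LD1_c9 LD2_c40 LD3_c26)) = (LP (LK LD1_c15 LD2_c0 LD3_c50)) :=
  Lgr Lrot29 (Lpr_bt (f43688 IH) (Lpr_et (K13.f44369 IH) (Lpr_bt (f43894 IH) (Lpn (LP (LK LD1_c15 LD2_c0 LD3_c50))))))
theorem f43706 : Led Lsl_ft (LP (LK LD1_c9 LD2_c40 LD3_c26)) = (LP (LK LD1_c17 LD2_c47 LD3_c37)) :=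
  Lre_f IH (LK LD1_c9 LD2_c40 LD3_c26) (LK LD1_c17 LD2_c47 LD3_c37) Lrfl Lrfl
theorem f214476 : Led Lsl_ff (LP (LK LD1_c27 LD2_c51 LD3_c28)) = (LP (LK LD1_c27 LD2_c34 LD3_c45)) :=
  Lgr Lrot72 (Lpr_et (K14.f214223 IH) (Lpr_ft (K13.f214467 IH) (Lpe (f44401 IH) (Lpr_ft (f43706 IH) (Lpr_et (f43677 IH) (Lpn (LP (LK LD1_c27 LD2_c34 LD3_c45))))))))
theorem f214770 : Led Lsl_ft (LP (LK LD1_c18 LD2_c11 LD3_c18)) = (LP (LK LD1_c17 LD2_c47 LD3_c49)) :=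
  Lgr Lrot101 (Lpe (K15.f214147 IH) (Lpr_ff (f214476 IH) (Lpe (f43664 IH) (Lpn (LP (LK LD1_c17 LD2_c47 LD3_c49))))))
theorem f252451 : Led Lsl_cf (LP (LK LD1_c18 LD2_c46 LD3_c39)) = (LP (LK LD1_c17 LD2_c47 LD3_c49)) :=
  Lgr Lrot108 (Lpr_ft (f252447 IH) (Lpe (K14.f214526 IH) (Lpr_ft (f214770 IH) (Lpn (LP (LK LD1_c17 LD2_c47 LD3_c49))))))
theorem f252457 : Led Lsl_at (LP (LK LD1_c18 LD2_c46 LD3_c39)) = (LP (LK LD1_c28 LD2_c16 LD3_c9)) :=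
  Lre_a IH (LK LD1_c18 LD2_c46 LD3_c39) (LK LD1_c28 LD2_c16 LD3_c9) Lrfl Lrfl
theorem f43714 : Led Lsl_at (LP (LK LD1_c27 LD2_c34 LD3_c45)) = (LP (LK LD1_c17 LD2_c47 LD3_c49)) :=
  Lre_a IH (LK LD1_c27 LD2_c34 LD3_c45) (LK LD1_c17 LD2_c47 LD3_c49) Lrfl Lrfl
theorem f252458 : Led Lsl_ct (LP (LK LD1_c28 LD2_c16 LD3_c9)) = (LP (LK LD1_c27 LD2_c34 LD3_c45)) :=
  Lgr Lrot111 (Lpe (f252457 IH) (Lpr_cf (f252451 IH) (Lpe (f43714 IH) (Lpn (LP (LK LD1_c27 LD2_c34 LD3_c45))))))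
theorem f252464 : Led Lsl_et (LP (LK LD1_c18 LD2_c46 LD3_c38)) = (LP (LK LD1_c28 LD2_c16 LD3_c9)) :=
  Lre_e IH (LK LD1_c18 LD2_c46 LD3_c38) (LK LD1_c28 LD2_c16 LD3_c9) Lrfl Lrfl
theorem f43704 : Led Lsl_et (LP (LK LD1_c27 LD2_c34 LD3_c45)) = (LP (LK LD1_c17 LD2_c47 LD3_c37)) :=
  Lre_e IH (LK LD1_c27 LD2_c34 LD3_c45) (LK LD1_c17 LD2_c47 LD3_c37) Lrfl Lrfl
theorem f252465 : Led Lsl_cf (LP (LK LD1_c18 LD2_c46 LD3_c38)) = (LP (LK LD1_c17 LD2_c47 LD3_c37)) :=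
  Lgr Lrot39 (Lpr_et (f252464 IH) (Lpr_ct (f252458 IH) (Lpr_et (f43704 IH) (Lpn (LP (LK LD1_c17 LD2_c47 LD3_c37))))))
theorem f51303 : Led Lsl_cf (LP (LK LD1_c9 LD2_c40 LD3_c26)) = (LP (LK LD1_c15 LD2_c50 LD3_c48)) :=
  Lgr Lrot1 (Lpr_at (K13.f43484 IH) (Lpr_ct (K13.f51298 IH) (Lpr_at (K13.f45048 IH) (Lpn (LP (LK LD1_c15 LD2_c50 LD3_c48))))))
theorem f252470 : Led Lsl_ft (LP (LK LD1_c18 LD2_c46 LD3_c38)) = (LP (LK LD1_c15 LD2_c50 LD3_c48)) :=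
  Lgr Lrot4 (Lpr_cf (f252465 IH) (Lpe (f43706 IH) (Lpr_cf (f51303 IH) (Lpn (LP (LK LD1_c15 LD2_c50 LD3_c48))))))
theorem f252474 : Led Lsl_ff (LP (LK LD1_c18 LD2_c46 LD3_c38)) = (LP (LK LD1_c15 LD2_c50 LD3_c48)) :=
  Lgr Lrot3 (Lpr_ft (f252470 IH) (Lpn (LP (LK LD1_c15 LD2_c50 LD3_c48))))
theorem f252467 : Led Lsl_at (LP (LK LD1_c18 LD2_c46 LD3_c38)) = (LP (LK LD1_c10 LD2_c20 LD3_c48)) :=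
  Lre_a IH (LK LD1_c18 LD2_c46 LD3_c38) (LK LD1_c10 LD2_c20 LD3_c48) Lrfl Lrfl
theorem f252478 : Led Lsl_ft (LP (LK LD1_c10 LD2_c20 LD3_c48)) = (LP (LK LD1_c8 LD2_c26 LD3_c12)) :=
  Lgr Lrot101 (Lpe (f252467 IH) (Lpr_ff (f252474 IH) (Lpe (K13.f45048 IH) (Lpn (LP (LK LD1_c8 LD2_c26 LD3_c12))))))
theorem f44413 : Led Lsl_ft (LP (LK LD1_c4 LD2_c54 LD3_c26)) = (LP (LK LD1_c9 LD2_c40 LD3_c28)) :=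
  Lre_f IH (LK LD1_c4 LD2_c54 LD3_c26) (LK LD1_c9 LD2_c40 LD3_c28) Lrfl Lrfl
theorem f252484 : Led Lsl_cf (LP (LK LD1_c10 LD2_c20 LD3_c48)) = (LP (LK LD1_c9 LD2_c40 LD3_c28)) :=
  Lgr Lrot108 (Lpr_ft (f252478 IH) (Lpe (K13.f50827 IH) (Lpr_ft (f44413 IH) (Lpn (LP (LK LD1_c9 LD2_c40 LD3_c28))))))
theorem f582719 : Led Lsl_gt (LP (LK LD1_c18 LD2_c9 LD3_c32)) = (LP (LK LD1_c10 LD2_c20 LD3_c48)) :=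
  Lgr Lrot65 (Lpe (f249432 IH) (Lpr_bt (f249413 IH) (Lpr_gf (f582710 IH) (Lpe (f44221 IH) (Lpr_ct (K1.f28270 IH) (Lpe (K12.f28268 IH) (Lpe (K12.f229052 IH) (Lpe (K12.f43495 IH) (Lpe (f43682 IH) (Lpe (f252484 IH) (Lpn (LP (LK LD1_c10 LD2_c20 LD3_c48)))))))))))))
theorem f582722 : Led Lsl_gf (LP (LK LD1_c18 LD2_c9 LD3_c32)) = (LP (LK LD1_c15 LD2_c50 LD3_c48)) :=
  Lgr Lrot47 (Lpr_gt (f582719 IH) (Lpe (f252467 IH) (Lpr_ff (f252474 IH) (Lpn (LP (LK LD1_c15 LD2_c50 LD3_c48))))))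
theorem f51296 : Led Lsl_ct (LP (LK LD1_c9 LD2_c40 LD3_c26)) = (LP (LK LD1_c15 LD2_c50 LD3_c48)) :=
  Lgr Lrot111 (Lpe (K13.f43696 IH) (Lpr_cf (K13.f50827 IH) (Lpe (f45035 IH) (Lpn (LP (LK LD1_c15 LD2_c50 LD3_c48))))))
theorem f44438 : Led Lsl_ft (LP (LK LD1_c9 LD2_c39 LD3_c55)) = (LP (LK LD1_c4 LD2_c54 LD3_c11)) :=
  Lre_f IH (LK LD1_c9 LD2_c39 LD3_c55) (LK LD1_c4 LD2_c54 LD3_c11) Lrfl Lrfl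
theorem f544887 : Led Lsl_gf (LP (LK LD1_c9 LD2_c39 LD3_c53)) = (LP (LK LD1_c17 LD2_c46 LD3_c31)) :=
  Lgr Lrot76 (Lpe (K13.f43486 IH) (Lpe (f44438 IH) (Lpr_gt (K38.f544883 IH) (Lpn (LP (LK LD1_c17 LD2_c46 LD3_c31))))))
theorem f582792 : Led Lsl_gt (LP (LK LD1_c2 LD2_c36 LD3_c44)) = (LP (LK LD1_c5 LD2_c19 LD3_c35)) :=
  Lgr Lrot149 (Lpe (K14.f28258 IH) (Lpe (K14.f249424 IH) (Lpe (f249413 IH) (Lpr_ct (f249432 IH) (Lpr_gf (f582722 IH) (Lpe (f51296 IH) (Lpr_bt (f43688 IH) (Lpr_gf (f544887 IH) (Lpr_bf (K38.f544552 IH) (Lpe (K38.f544859 IH) (Lpn (LP (LK LD1_c5 LD2_c19 LD3_c35)))))))))))))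
theorem f44194 : Led Lsl_at (LP (LK LD1_c5 LD2_c19 LD3_c36)) = (LP (LK LD1_c2 LD2_c36 LD3_c26)) :=
  Lre_a IH (LK LD1_c5 LD2_c19 LD3_c36) (LK LD1_c2 LD2_c36 LD3_c26) Lrfl Lrfl
theorem f582794 : Led Lsl_ft (LP (LK LD1_c2 LD2_c36 LD3_c44)) = (LP (LK LD1_c5 LD2_c19 LD3_c36)) :=
  Lgr Lrot2 (Lpr_gt (f582792 IH) (Lpr_gt (K38.f44191 IH) (Lpe (f44194 IH) (Lpn (LP (LK LD1_c5 LD2_c19 LD3_c36))))))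
theorem f582804 : Led Lsl_ff (LP (LK LD1_c2 LD2_c36 LD3_c44)) = (LP (LK LD1_c5 LD2_c19 LD3_c36)) :=
  Lgr Lrot3 (Lpr_ft (f582794 IH) (Lpn (LP (LK LD1_c5 LD2_c19 LD3_c36))))
theorem f28303 : Led Lsl_dt (LP (LK LD1_c1 LD2_c15 LD3_c20)) = (LP (LK LD1_c2 LD2_c36 LD3_c44)) :=
  Lre_d IH (LK LD1_c1 LD2_c15 LD3_c20) (LK LD1_c2 LD2_c36 LD3_c44) Lrfl Lrfl
theorem f46270 : Led Lsl_at (LP (LK LD1_c2 LD2_c36 LD3_c44)) = (LP (LK LD1_c2 LD2_c36 LD3_c27)) :=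
  Lgr Lrot51 (Lpe (f28303 IH) (Lpr_af (K1.f46254 IH) (Lpe (K14.f44120 IH) (Lpn (LP (LK LD1_c2 LD2_c36 LD3_c27))))))
theorem f582816 : Led Lsl_gf (LP (LK LD1_c5 LD2_c19 LD3_c38)) = (LP (LK LD1_c5 LD2_c19 LD3_c36)) :=
  Lgr Lrot47 (Lpr_gt (K15.f44131 IH) (Lpe (f46270 IH) (Lpr_ff (f582804 IH) (Lpn (LP (LK LD1_c5 LD2_c19 LD3_c36))))))
theorem f43710 : Led Lsl_gt (LP (LK LD1_c9 LD2_c39 LD3_c51)) = (LP (LK LD1_c17 LD2_c46 LD3_c27)) :=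
  Lre_g IH (LK LD1_c9 LD2_c39 LD3_c51) (LK LD1_c17 LD2_c46 LD3_c27) Lrfl Lrfl
theorem f43684 : Led Lsl_bt (LP (LK LD1_c17 LD2_c47 LD3_c37)) = (LP (LK LD1_c17 LD2_c46 LD3_c27)) :=
  Lgr Lrot127 (Lpr_bf (f43679 IH) (Lpn (LP (LK LD1_c17 LD2_c46 LD3_c27))))
theorem f45055 : Led Lsl_gt (LP (LK LD1_c15 LD2_c50 LD3_c47)) = (LP (LK LD1_c8 LD2_c26 LD3_c12)) :=
  Lre_g IH (LK LD1_c15 LD2_c50 LD3_c47) (LK LD1_c8 LD2_c26 LD3_c12) Lrfl Lrfl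
theorem f252476 : Led Lsl_gt (LP (LK LD1_c18 LD2_c46 LD3_c38)) = (LP (LK LD1_c15 LD2_c50 LD3_c47)) :=
  Lgr Lrot5 (Lpr_ft (f252470 IH) (Lpr_at (f45035 IH) (Lpe (f45055 IH) (Lpn (LP (LK LD1_c15 LD2_c50 LD3_c47))))))
theorem f582810 : Led Lsl_ct (LP (LK LD1_c5 LD2_c19 LD3_c13)) = (LP (LK LD1_c5 LD2_c19 LD3_c36)) :=
  Lgr Lrot40 (Lpe (K14.f47375 IH) (Lpe (f28304 IH) (Lpr_ff (f582804 IH) (Lpn (LP (LK LD1_c5 LD2_c19 LD3_c36))))))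
theorem f248275 : Led Lsl_bt (LP (LK LD1_c10 LD2_c11 LD3_c3)) = (LP (LK LD1_c5 LD2_c10 LD3_c10)) :=
  Lre_b IH (LK LD1_c10 LD2_c11 LD3_c3) (LK LD1_c5 LD2_c10 LD3_c10) Lrfl Lrfl
theorem f582820 : Led Lsl_cf (LP (LK LD1_c15 LD2_c50 LD3_c47)) = (LP (LK LD1_c10 LD2_c11 LD3_c3)) :=
  Lgr Lrot58 (Lpe (f252476 IH) (Lpr_cf (f252465 IH) (Lpr_bt (f43684 IH) (Lpe (f43710 IH) (Lpr_bf (K37.f544526 IH) (Lpr_ct (K15.f212341 IH) (Lpr_gf (f582816 IH) (Lpe (f582810 IH) (Lpr_gf (K22.f257775 IH) (Lpe (f248275 IH) (Lpn (LP (LK LD1_c10 LD2_c11 LD3_c3)))))))))))))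
theorem f43748 : Led Lsl_bt (LP (LK LD1_c9 LD2_c40 LD3_c18)) = (LP (LK LD1_c4 LD2_c54 LD3_c24)) :=
  Lre_b IH (LK LD1_c9 LD2_c40 LD3_c18) (LK LD1_c4 LD2_c54 LD3_c24) Lrfl Lrfl
theorem f260047 : Led Lsl_ct (LP (LK LD1_c18 LD2_c28 LD3_c53)) = (LP (LK LD1_c10 LD2_c8 LD3_c50)) :=
  Lre_c IH (LK LD1_c18 LD2_c28 LD3_c53) (LK LD1_c10 LD2_c8 LD3_c50) Lrfl Lrfl
theorem f248278 : Led Lsl_gt (LP (LK LD1_c18 LD2_c33 LD3_c9)) = (LP (LK LD1_c10 LD2_c11 LD3_c3)) :=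
  Lre_g IH (LK LD1_c18 LD2_c33 LD3_c9) (LK LD1_c10 LD2_c11 LD3_c3) Lrfl Lrfl
theorem f582831 : Led Lsl_bt (LP (LK LD1_c18 LD2_c28 LD3_c53)) = (LP (LK LD1_c18 LD2_c33 LD3_c9)) :=
  Lgr Lrot130 (Lpr_ct (f260047 IH) (Lpe (K37.f260027 IH) (Lpe (K19.f260031 IH) (Lpr_bt (f43748 IH) (Lpe (K14.f43743 IH) (Lpe (K13.f43483 IH) (Lpr_ct (K13.f51298 IH) (Lpe (f45055 IH) (Lpr_cf (f582820 IH) (Lpe (f248278 IH) (Lpn (LP (LK LD1_c18 LD2_c33 LD3_c9)))))))))))))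
theorem f260043 : Led Lsl_ct (LP (LK LD1_c10 LD2_c8 LD3_c50)) = (LP (LK LD1_c18 LD2_c28 LD3_c53)) :=
  Lre_c IH (LK LD1_c10 LD2_c8 LD3_c50) (LK LD1_c18 LD2_c28 LD3_c53) Lrfl Lrfl
theorem f413146 : Led Lsl_dt (LP (LK LD1_c18 LD2_c28 LD3_c54)) = (LP (LK LD1_c10 LD2_c8 LD3_c50)) :=
  Lre_d IH (LK LD1_c18 LD2_c28 LD3_c54) (LK LD1_c10 LD2_c8 LD3_c50) Lrfl Lrfl
theorem f249985 : Led Lsl_ct (LP (LK LD1_c5 LD2_c10 LD3_c9)) = (LP (LK LD1_c2 LD2_c32 LD3_c11)) :=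
  Lre_c IH (LK LD1_c5 LD2_c10 LD3_c9) (LK LD1_c2 LD2_c32 LD3_c11) Lrfl Lrfl
theorem f249979 : Led Lsl_cf (LP (LK LD1_c2 LD2_c30 LD3_c12)) = (LP (LK LD1_c5 LD2_c3 LD3_c29)) :=
  Lgr Lrot14 (Lpe (K11.f164753 IH) (Lpe (K9.f164693 IH) (Lpe (K9.f164735 IH) (Lpe (K9.f166162 IH) (Lpr_ct (K8.f71517 IH) (Lpr_gt (K14.f186767 IH) (Lpr_dt (K14.f185398 IH) (Lpe (K14.f186771 IH) (Lpr_dt (K14.f249952 IH) (Lpn (LP (LK LD1_c5 LD2_c3 LD3_c29))))))))))))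
theorem f542738 : Led Lsl_bt (LP (LK LD1_c2 LD2_c30 LD3_c12)) = (LP (LK LD1_c4 LD2_c39 LD3_c47)) :=
  Lgr Lrot127 (Lpr_bf (K36.f542729 IH) (Lpn (LP (LK LD1_c4 LD2_c39 LD3_c47))))
theorem f35207 : Led Lsl_dt (LP (LK LD1_c4 LD2_c35 LD3_c34)) = (LP (LK LD1_c2 LD2_c14 LD3_c57)) :=
  Lre_d IH (LK LD1_c4 LD2_c35 LD3_c34) (LK LD1_c2 LD2_c14 LD3_c57) Lrfl Lrfl
theorem f196156 : Led Lsl_bt (LP (LK LD1_c5 LD2_c9 LD3_c20)) = (LP (LK LD1_c10 LD2_c9 LD3_c19)) :=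
  Lre_b IH (LK LD1_c5 LD2_c9 LD3_c20) (LK LD1_c10 LD2_c9 LD3_c19) Lrfl Lrfl
theorem f582840 : Led Lsl_gf (LP (LK LD1_c18 LD2_c28 LD3_c54)) = (LP (LK LD1_c10 LD2_c9 LD3_c19)) :=
  Lgr Lrot85 (Lpr_dt (f413146 IH) (Lpr_ct (f260043 IH) (Lpr_bt (f582831 IH) (Lpr_gt (f248278 IH) (Lpr_dt (K18.f249986 IH) (Lpr_ct (f249985 IH) (Lpr_bt (K18.f186735 IH) (Lpe (K14.f186771 IH) (Lpr_dt (K14.f249952 IH) (Lpe (f249979 IH) (Lpr_bt (f542738 IH) (Lpe (K40.f553508 IH) (Lpr_dt (f35207 IH) (Lpr_ct (K41.f35191 IH) (Lpe (K41.f567096 IH) (Lpe (K10.f196099 IH) (Lpr_dt (K10.f192722 IH) (Lpr_ct (K12.f196154 IH) (Lpr_bt (f196156 IH) (Lpn (LP (LK LD1_c10 LD2_c9 LD3_c19))))))))))))))))))))))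
theorem f264114 : Led Lsl_dt (LP (LK LD1_c8 LD2_c15 LD3_c13)) = (LP (LK LD1_c15 LD2_c31 LD3_c14)) :=
  Lre_d IH (LK LD1_c8 LD2_c15 LD3_c13) (LK LD1_c15 LD2_c31 LD3_c14) Lrfl Lrfl
theorem f282402 : Led Lsl_af (LP (LK LD1_c11 LD2_c54 LD3_c41)) = (LP (LK LD1_c15 LD2_c31 LD3_c14)) :=
  Lgr Lrot117 (Lpr_dt (K23.f258868 IH) (Lpr_at (K17.f282398 IH) (Lpr_dt (f264114 IH) (Lpn (LP (LK LD1_c15 LD2_c31 LD3_c14))))))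
theorem f258885 : Led Lsl_et (LP (LK LD1_c11 LD2_c54 LD3_c41)) = (LP (LK LD1_c20 LD2_c59 LD3_c14)) :=
  Lre_e IH (LK LD1_c11 LD2_c54 LD3_c41) (LK LD1_c20 LD2_c59 LD3_c14) Lrfl Lrfl
theorem f368598 : Led Lsl_et (LP (LK LD1_c25 LD2_c24 LD3_c16)) = (LP (LK LD1_c15 LD2_c31 LD3_c14)) :=
  Lre_e IH (LK LD1_c25 LD2_c24 LD3_c16) (LK LD1_c15 LD2_c31 LD3_c14) Lrfl Lrfl
theorem f409409 : Led Lsl_at (LP (LK LD1_c20 LD2_c59 LD3_c14)) = (LP (LK LD1_c25 LD2_c24 LD3_c16)) :=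
  Lgr Lrot80 (Lpe (f258885 IH) (Lpr_af (f282402 IH) (Lpe (f368598 IH) (Lpn (LP (LK LD1_c25 LD2_c24 LD3_c16))))))
theorem f188249 : Led Lsl_dt (LP (LK LD1_c11 LD2_c54 LD3_c38)) = (LP (LK LD1_c20 LD2_c59 LD3_c14)) :=
  Lre_d IH (LK LD1_c11 LD2_c54 LD3_c38) (LK LD1_c20 LD2_c59 LD3_c14) Lrfl Lrfl
theorem f368599 : Led Lsl_dt (LP (LK LD1_c25 LD2_c24 LD3_c16)) = (LP (LK LD1_c15 LD2_c31 LD3_c11)) :=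
  Lre_d IH (LK LD1_c25 LD2_c24 LD3_c16) (LK LD1_c15 LD2_c31 LD3_c11) Lrfl Lrfl
theorem f409413 : Led Lsl_af (LP (LK LD1_c11 LD2_c54 LD3_c38)) = (LP (LK LD1_c15 LD2_c31 LD3_c11)) :=
  Lgr Lrot117 (Lpr_dt (f188249 IH) (Lpr_at (f409409 IH) (Lpr_dt (f368599 IH) (Lpn (LP (LK LD1_c15 LD2_c31 LD3_c11))))))
theorem f409415 : Led Lsl_at (LP (LK LD1_c11 LD2_c54 LD3_c38)) = (LP (LK LD1_c15 LD2_c31 LD3_c11)) :=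
  Lgr Lrot100 (Lpr_af (f409413 IH) (Lpn (LP (LK LD1_c15 LD2_c31 LD3_c11))))
theorem f188264 : Led Lsl_et (LP (LK LD1_c6 LD2_c5 LD3_c31)) = (LP (LK LD1_c11 LD2_c54 LD3_c38)) :=
  Lre_e IH (LK LD1_c6 LD2_c5 LD3_c31) (LK LD1_c11 LD2_c54 LD3_c38) Lrfl Lrfl
theorem f235070 : Led Lsl_et (LP (LK LD1_c15 LD2_c31 LD3_c11)) = (LP (LK LD1_c8 LD2_c15 LD3_c12)) :=
  Lre_e IH (LK LD1_c15 LD2_c31 LD3_c11) (LK LD1_c8 LD2_c15 LD3_c12) Lrfl Lrfl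
theorem f409421 : Led Lsl_af (LP (LK LD1_c6 LD2_c5 LD3_c31)) = (LP (LK LD1_c8 LD2_c15 LD3_c12)) :=
  Lgr Lrot50 (Lpr_et (f188264 IH) (Lpr_at (f409415 IH) (Lpr_et (f235070 IH) (Lpn (LP (LK LD1_c8 LD2_c15 LD3_c12))))))
theorem f273361 : Led Lsl_ft (LP (LK LD1_c8 LD2_c15 LD3_c57)) = (LP (LK LD1_c8 LD2_c15 LD3_c12)) :=
  Lgr Lrot4 (Lpr_cf (K10.f188209 IH) (Lpr_ff (K16.f273354 IH) (Lpe (K19.f251439 IH) (Lpn (LP (LK LD1_c8 LD2_c15 LD3_c12))))))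
theorem f189522 : Led Lsl_dt (LP (LK LD1_c10 LD2_c23 LD3_c41)) = (LP (LK LD1_c5 LD2_c17 LD3_c1)) :=
  Lre_d IH (LK LD1_c10 LD2_c23 LD3_c41) (LK LD1_c5 LD2_c17 LD3_c1) Lrfl Lrfl
theorem f273586 : Led Lsl_af (LP (LK LD1_c10 LD2_c23 LD3_c41)) = (LP (LK LD1_c5 LD2_c17 LD3_c34)) :=
  Lgr Lrot117 (Lpr_dt (f189522 IH) (Lpr_at (K16.f273578 IH) (Lpr_dt (K10.f48945 IH) (Lpn (LP (LK LD1_c5 LD2_c17 LD3_c34))))))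
theorem f273611 : Led Lsl_af (LP (LK LD1_c8 LD2_c15 LD3_c57)) = (LP (LK LD1_c5 LD2_c26 LD3_c10)) :=
  Lgr Lrot68 (Lpr_ct (K10.f188200 IH) (Lpe (f273586 IH) (Lpr_ct (K16.f273609 IH) (Lpn (LP (LK LD1_c5 LD2_c26 LD3_c10))))))
theorem f409427 : Led Lsl_ft (LP (LK LD1_c6 LD2_c5 LD3_c31)) = (LP (LK LD1_c5 LD2_c26 LD3_c10)) :=
  Lgr Lrot101 (Lpr_af (f409421 IH) (Lpe (f273361 IH) (Lpr_af (f273611 IH) (Lpn (LP (LK LD1_c5 LD2_c26 LD3_c10))))))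
theorem f188231 : Led Lsl_bt (LP (LK LD1_c11 LD2_c54 LD3_c37)) = (LP (LK LD1_c6 LD2_c5 LD3_c31)) :=
  Lre_b IH (LK LD1_c11 LD2_c54 LD3_c37) (LK LD1_c6 LD2_c5 LD3_c31) Lrfl Lrfl
theorem f273614 : Led Lsl_bt (LP (LK LD1_c5 LD2_c26 LD3_c10)) = (LP (LK LD1_c10 LD2_c43 LD3_c38)) :=
  Lre_b IH (LK LD1_c5 LD2_c26 LD3_c10) (LK LD1_c10 LD2_c43 LD3_c38) Lrfl Lrfl
theorem f409429 : Led Lsl_ff (LP (LK LD1_c11 LD2_c54 LD3_c37)) = (LP (LK LD1_c10 LD2_c43 LD3_c38)) :=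
  Lgr Lrot25 (Lpr_bt (f188231 IH) (Lpr_ft (f409427 IH) (Lpr_bt (f273614 IH) (Lpn (LP (LK LD1_c10 LD2_c43 LD3_c38))))))
theorem f188270 : Led Lsl_ct (LP (LK LD1_c11 LD2_c54 LD3_c37)) = (LP (LK LD1_c20 LD2_c59 LD3_c10)) :=
  Lre_c IH (LK LD1_c11 LD2_c54 LD3_c37) (LK LD1_c20 LD2_c59 LD3_c10) Lrfl Lrfl
theorem f402306 : Led Lsl_ct (LP (LK LD1_c19 LD2_c24 LD3_c48)) = (LP (LK LD1_c10 LD2_c43 LD3_c38)) :=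
  Lre_c IH (LK LD1_c19 LD2_c24 LD3_c48) (LK LD1_c10 LD2_c43 LD3_c38) Lrfl Lrfl
theorem f409434 : Led Lsl_ft (LP (LK LD1_c20 LD2_c59 LD3_c10)) = (LP (LK LD1_c19 LD2_c24 LD3_c48)) :=
  Lgr Lrot4 (Lpe (f188270 IH) (Lpr_ff (f409429 IH) (Lpe (f402306 IH) (Lpn (LP (LK LD1_c19 LD2_c24 LD3_c48))))))
theorem f188229 : Led Lsl_bt (LP (LK LD1_c5 LD2_c17 LD3_c43)) = (LP (LK LD1_c10 LD2_c25 LD3_c1)) :=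
  Lre_b IH (LK LD1_c5 LD2_c17 LD3_c43) (LK LD1_c10 LD2_c25 LD3_c1) Lrfl Lrfl
theorem f188230 : Led Lsl_ct (LP (LK LD1_c10 LD2_c25 LD3_c1)) = (LP (LK LD1_c18 LD2_c54 LD3_c0)) :=
  Lre_c IH (LK LD1_c10 LD2_c25 LD3_c1) (LK LD1_c18 LD2_c54 LD3_c0) Lrfl Lrfl
theorem f188232 : Led Lsl_ct (LP (LK LD1_c20 LD2_c59 LD3_c10)) = (LP (LK LD1_c11 LD2_c54 LD3_c37)) :=
  Lre_c IH (LK LD1_c20 LD2_c59 LD3_c10) (LK LD1_c11 LD2_c54 LD3_c37) Lrfl Lrfl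
theorem f188233 : Led Lsl_bt (LP (LK LD1_c18 LD2_c54 LD3_c0)) = (LP (LK LD1_c20 LD2_c59 LD3_c10)) :=
  Lgr Lrot128 (Lpe (f188230 IH) (Lpe (f188229 IH) (Lpr_cf (K15.f188211 IH) (Lpe (f188231 IH) (Lpe (f188232 IH) (Lpn (LP (LK LD1_c20 LD2_c59 LD3_c10))))))))
theorem f273613 : Led Lsl_bt (LP (LK LD1_c18 LD2_c51 LD3_c34)) = (LP (LK LD1_c10 LD2_c23 LD3_c41)) :=
  Lre_b IH (LK LD1_c18 LD2_c51 LD3_c34) (LK LD1_c10 LD2_c23 LD3_c41) Lrfl Lrfl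
theorem f248230 : Led Lsl_ct (LP (LK LD1_c28 LD2_c19 LD3_c52)) = (LP (LK LD1_c18 LD2_c51 LD3_c34)) :=
  Lre_c IH (LK LD1_c28 LD2_c19 LD3_c52) (LK LD1_c18 LD2_c51 LD3_c34) Lrfl Lrfl
theorem f273615 : Led Lsl_ct (LP (LK LD1_c10 LD2_c43 LD3_c38)) = (LP (LK LD1_c19 LD2_c24 LD3_c48)) :=
  Lre_c IH (LK LD1_c10 LD2_c43 LD3_c38) (LK LD1_c19 LD2_c24 LD3_c48) Lrfl Lrfl
theorem f273616 : Led Lsl_bf (LP (LK LD1_c28 LD2_c19 LD3_c52)) = (LP (LK LD1_c19 LD2_c24 LD3_c48)) :=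
  Lgr Lrot90 (Lpr_ct (f248230 IH) (Lpr_bt (f273613 IH) (Lpr_ct (K16.f273609 IH) (Lpr_bt (f273614 IH) (Lpr_ct (f273615 IH) (Lpn (LP (LK LD1_c19 LD2_c24 LD3_c48))))))))
theorem f409517 : Led Lsl_ff (LP (LK LD1_c18 LD2_c54 LD3_c0)) = (LP (LK LD1_c28 LD2_c19 LD3_c52)) :=
  Lgr Lrot25 (Lpr_bt (f188233 IH) (Lpr_ft (f409434 IH) (Lpe (f273616 IH) (Lpn (LP (LK LD1_c28 LD2_c19 LD3_c52))))))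
theorem f409521 : Led Lsl_ft (LP (LK LD1_c18 LD2_c54 LD3_c0)) = (LP (LK LD1_c28 LD2_c19 LD3_c52)) :=
  Lgr Lrot48 (Lpr_ff (f409517 IH) (Lpn (LP (LK LD1_c28 LD2_c19 LD3_c52))))
theorem f409528 : Led Lsl_ff (LP (LK LD1_c10 LD2_c25 LD3_c1)) = (LP (LK LD1_c18 LD2_c51 LD3_c34)) :=
  Lgr Lrot23 (Lpr_ct (f188230 IH) (Lpr_ft (f409521 IH) (Lpr_ct (f248230 IH) (Lpn (LP (LK LD1_c18 LD2_c51 LD3_c34))))))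
theorem f409530 : Led Lsl_at (LP (LK LD1_c10 LD2_c25 LD3_c1)) = (LP (LK LD1_c18 LD2_c53 LD3_c58)) :=
  Lre_a IH (LK LD1_c10 LD2_c25 LD3_c1) (LK LD1_c18 LD2_c53 LD3_c58) Lrfl Lrfl
theorem f409531 : Led Lsl_at (LP (LK LD1_c28 LD2_c19 LD3_c49)) = (LP (LK LD1_c18 LD2_c51 LD3_c34)) :=
  Lre_a IH (LK LD1_c28 LD2_c19 LD3_c49) (LK LD1_c18 LD2_c51 LD3_c34) Lrfl Lrfl
theorem f409532 : Led Lsl_ft (LP (LK LD1_c18 LD2_c53 LD3_c58)) = (LP (LK LD1_c28 LD2_c19 LD3_c49)) :=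
  Lgr Lrot101 (Lpe (f409530 IH) (Lpr_ff (f409528 IH) (Lpe (f409531 IH) (Lpn (LP (LK LD1_c28 LD2_c19 LD3_c49))))))
theorem f409524 : Led Lsl_dt (LP (LK LD1_c10 LD2_c25 LD3_c0)) = (LP (LK LD1_c18 LD2_c53 LD3_c58)) :=
  Lre_d IH (LK LD1_c10 LD2_c25 LD3_c0) (LK LD1_c18 LD2_c53 LD3_c58) Lrfl Lrfl
theorem f254605 : Led Lsl_dt (LP (LK LD1_c28 LD2_c19 LD3_c49)) = (LP (LK LD1_c18 LD2_c51 LD3_c33)) :=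
  Lre_d IH (LK LD1_c28 LD2_c19 LD3_c49) (LK LD1_c18 LD2_c51 LD3_c33) Lrfl Lrfl
theorem f409541 : Led Lsl_ff (LP (LK LD1_c10 LD2_c25 LD3_c0)) = (LP (LK LD1_c18 LD2_c51 LD3_c33)) :=
  Lgr Lrot19 (Lpr_dt (f409524 IH) (Lpr_ft (f409532 IH) (Lpr_dt (f254605 IH) (Lpn (LP (LK LD1_c18 LD2_c51 LD3_c33))))))
theorem f193144 : Led Lsl_at (LP (LK LD1_c10 LD2_c25 LD3_c0)) = (LP (LK LD1_c5 LD2_c17 LD3_c42)) :=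
  Lre_a IH (LK LD1_c10 LD2_c25 LD3_c0) (LK LD1_c5 LD2_c17 LD3_c42) Lrfl Lrfl
theorem f188286 : Led Lsl_gt (LP (LK LD1_c10 LD2_c24 LD3_c61)) = (LP (LK LD1_c5 LD2_c17 LD3_c42)) :=
  Lre_g IH (LK LD1_c10 LD2_c24 LD3_c61) (LK LD1_c5 LD2_c17 LD3_c42) Lrfl Lrfl
theorem f409568 : Led Lsl_gf (LP (LK LD1_c10 LD2_c24 LD3_c61)) = (LP (LK LD1_c18 LD2_c51 LD3_c33)) :=
  Lgr Lrot47 (Lpr_gt (f188286 IH) (Lpe (f193144 IH) (Lpr_ff (f409541 IH) (Lpn (LP (LK LD1_c18 LD2_c51 LD3_c33))))))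
theorem f216147 : Led Lsl_bt (LP (LK LD1_c2 LD2_c28 LD3_c42)) = (LP (LK LD1_c5 LD2_c2 LD3_c11)) :=
  Lre_b IH (LK LD1_c2 LD2_c28 LD3_c42) (LK LD1_c5 LD2_c2 LD3_c11) Lrfl Lrfl
theorem f216148 : Led Lsl_gt (LP (LK LD1_c5 LD2_c2 LD3_c11)) = (LP (LK LD1_c9 LD2_c55 LD3_c7)) :=
  Lre_g IH (LK LD1_c5 LD2_c2 LD3_c11) (LK LD1_c9 LD2_c55 LD3_c7) Lrfl Lrfl
theorem f249480 : Led Lsl_bt (LP (LK LD1_c18 LD2_c9 LD3_c21)) = (LP (LK LD1_c9 LD2_c55 LD3_c7)) :=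
  Lre_b IH (LK LD1_c18 LD2_c9 LD3_c21) (LK LD1_c9 LD2_c55 LD3_c7) Lrfl Lrfl
theorem f193126 : Led Lsl_bt (LP (LK LD1_c10 LD2_c24 LD3_c55)) = (LP (LK LD1_c5 LD2_c17 LD3_c39)) :=
  Lre_b IH (LK LD1_c10 LD2_c24 LD3_c55) (LK LD1_c5 LD2_c17 LD3_c39) Lrfl Lrfl
theorem f193141 : Led Lsl_ct (LP (LK LD1_c10 LD2_c24 LD3_c55)) = (LP (LK LD1_c5 LD2_c17 LD3_c42)) :=
  Lre_c IH (LK LD1_c10 LD2_c24 LD3_c55) (LK LD1_c5 LD2_c17 LD3_c42) Lrfl Lrfl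
theorem f249481 : Led Lsl_ct (LP (LK LD1_c18 LD2_c9 LD3_c21)) = (LP (LK LD1_c10 LD2_c24 LD3_c61)) :=
  Lgr Lrot64 (Lpr_bt (f249480 IH) (Lpe (f216148 IH) (Lpe (f216147 IH) (Lpr_ct (K11.f165324 IH) (Lpe (K15.f166628 IH) (Lpe (K15.f184879 IH) (Lpr_gf (K15.f249473 IH) (Lpe (f193126 IH) (Lpr_ct (f193141 IH) (Lpe (f188286 IH) (Lpn (LP (LK LD1_c10 LD2_c24 LD3_c61)))))))))))))
theorem f299684 : Led Lsl_gf (LP (LK LD1_c10 LD2_c11 LD3_c2)) = (LP (LK LD1_c9 LD2_c55 LD3_c7)) :=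
  Lgr Lrot76 (Lpe (K18.f299676 IH) (Lpr_ff (K18.f299663 IH) (Lpr_gt (f216148 IH) (Lpn (LP (LK LD1_c9 LD2_c55 LD3_c7))))))
theorem f299647 : Led Lsl_ct (LP (LK LD1_c10 LD2_c11 LD3_c2)) = (LP (LK LD1_c5 LD2_c10 LD3_c18)) :=
  Lre_c IH (LK LD1_c10 LD2_c11 LD3_c2) (LK LD1_c5 LD2_c10 LD3_c18) Lrfl Lrfl
theorem f299714 : Led Lsl_ft (LP (LK LD1_c5 LD2_c10 LD3_c18)) = (LP (LK LD1_c5 LD2_c2 LD3_c35)) :=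
  Lgr Lrot48 (Lpr_ff (K18.f299693 IH) (Lpn (LP (LK LD1_c5 LD2_c2 LD3_c35))))
theorem f266126 : Led Lsl_gt (LP (LK LD1_c5 LD2_c2 LD3_c34)) = (LP (LK LD1_c2 LD2_c28 LD3_c51)) :=
  Lre_g IH (LK LD1_c5 LD2_c2 LD3_c34) (LK LD1_c2 LD2_c28 LD3_c51) Lrfl Lrfl
theorem f299728 : Led Lsl_gt (LP (LK LD1_c5 LD2_c10 LD3_c18)) = (LP (LK LD1_c5 LD2_c2 LD3_c34)) :=
  Lgr Lrot5 (Lpr_ft (f299714 IH) (Lpr_at (K18.f288234 IH) (Lpe (f266126 IH) (Lpn (LP (LK LD1_c5 LD2_c2 LD3_c34))))))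
theorem f266127 : Led Lsl_ct (LP (LK LD1_c9 LD2_c56 LD3_c4)) = (LP (LK LD1_c5 LD2_c2 LD3_c34)) :=
  Lre_c IH (LK LD1_c9 LD2_c56 LD3_c4) (LK LD1_c5 LD2_c2 LD3_c34) Lrfl Lrfl
theorem f266128 : Led Lsl_bt (LP (LK LD1_c9 LD2_c56 LD3_c4)) = (LP (LK LD1_c18 LD2_c10 LD3_c49)) :=
  Lre_b IH (LK LD1_c9 LD2_c56 LD3_c4) (LK LD1_c18 LD2_c10 LD3_c49) Lrfl Lrfl
theorem f254592 : Led Lsl_at (LP (LK LD1_c10 LD2_c23 LD3_c40)) = (LP (LK LD1_c18 LD2_c51 LD3_c33)) :=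
  Lre_a IH (LK LD1_c10 LD2_c23 LD3_c40) (LK LD1_c18 LD2_c51 LD3_c33) Lrfl Lrfl
theorem f248228 : Led Lsl_at (LP (LK LD1_c18 LD2_c58 LD3_c10)) = (LP (LK LD1_c10 LD2_c27 LD3_c51)) :=
  Lre_a IH (LK LD1_c18 LD2_c58 LD3_c10) (LK LD1_c10 LD2_c27 LD3_c51) Lrfl Lrfl
theorem f254593 : Led Lsl_ct (LP (LK LD1_c18 LD2_c51 LD3_c33)) = (LP (LK LD1_c18 LD2_c58 LD3_c10)) :=
  Lgr Lrot111 (Lpe (f254592 IH) (Lpr_cf (K37.f254585 IH) (Lpe (f248228 IH) (Lpn (LP (LK LD1_c18 LD2_c58 LD3_c10))))))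
theorem f254603 : Led Lsl_cf (LP (LK LD1_c18 LD2_c51 LD3_c33)) = (LP (LK LD1_c18 LD2_c58 LD3_c10)) :=
  Lgr Lrot11 (Lpr_ct (f254593 IH) (Lpn (LP (LK LD1_c18 LD2_c58 LD3_c10))))
theorem f248229 : Led Lsl_bt (LP (LK LD1_c5 LD2_c18 LD3_c61)) = (LP (LK LD1_c10 LD2_c27 LD3_c51)) :=
  Lre_b IH (LK LD1_c5 LD2_c18 LD3_c61) (LK LD1_c10 LD2_c27 LD3_c51) Lrfl Lrfl
theorem f248216 : Led Lsl_at (LP (LK LD1_c10 LD2_c27 LD3_c51)) = (LP (LK LD1_c18 LD2_c58 LD3_c10)) :=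
  Lre_a IH (LK LD1_c10 LD2_c27 LD3_c51) (LK LD1_c18 LD2_c58 LD3_c10) Lrfl Lrfl
theorem f193065 : Led Lsl_at (LP (LK LD1_c18 LD2_c58 LD3_c19)) = (LP (LK LD1_c10 LD2_c28 LD3_c3)) :=
  Lre_a IH (LK LD1_c18 LD2_c58 LD3_c19) (LK LD1_c10 LD2_c28 LD3_c3) Lrfl Lrfl
theorem f271333 : Led Lsl_bt (LP (LK LD1_c18 LD2_c58 LD3_c10)) = (LP (LK LD1_c18 LD2_c58 LD3_c19)) :=
  Lgr Lrot62 (Lpe (f248216 IH) (Lpe (f248229 IH) (Lpr_af (K16.f271329 IH) (Lpe (K37.f193064 IH) (Lpe (f193065 IH) (Lpn (LP (LK LD1_c18 LD2_c58 LD3_c19))))))))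
theorem f409570 : Led Lsl_gt (LP (LK LD1_c18 LD2_c10 LD3_c49)) = (LP (LK LD1_c18 LD2_c58 LD3_c19)) :=
  Lgr Lrot164 (Lpe (f266128 IH) (Lpr_ct (f266127 IH) (Lpe (f299728 IH) (Lpe (f299647 IH) (Lpr_gf (f299684 IH) (Lpe (f249480 IH) (Lpr_ct (f249481 IH) (Lpr_gf (f409568 IH) (Lpr_cf (f254603 IH) (Lpr_bt (f271333 IH) (Lpn (LP (LK LD1_c18 LD2_c58 LD3_c19)))))))))))))
theorem f251658 : Led Lsl_bt (LP (LK LD1_c9 LD2_c40 LD3_c7)) = (LP (LK LD1_c4 LD2_c54 LD3_c20)) :=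
  Lre_b IH (LK LD1_c9 LD2_c40 LD3_c7) (LK LD1_c4 LD2_c54 LD3_c20) Lrfl Lrfl
theorem f50755 : Led Lsl_bt (LP (LK LD1_c4 LD2_c54 LD3_c5)) = (LP (LK LD1_c9 LD2_c39 LD3_c35)) :=
  Lre_b IH (LK LD1_c4 LD2_c54 LD3_c5) (LK LD1_c9 LD2_c39 LD3_c35) Lrfl Lrfl
theorem f289908 : Led Lsl_ff (LP (LK LD1_c9 LD2_c40 LD3_c7)) = (LP (LK LD1_c9 LD2_c39 LD3_c35)) :=
  Lgr Lrot25 (Lpr_bt (f251658 IH) (Lpr_ft (K17.f289906 IH) (Lpr_bt (f50755 IH) (Lpn (LP (LK LD1_c9 LD2_c39 LD3_c35))))))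
theorem f50756 : Led Lsl_gt (LP (LK LD1_c9 LD2_c39 LD3_c35)) = (LP (LK LD1_c17 LD2_c45 LD3_c51)) :=
  Lre_g IH (LK LD1_c9 LD2_c39 LD3_c35) (LK LD1_c17 LD2_c45 LD3_c51) Lrfl Lrfl
theorem f407805 : Led Lsl_gf (LP (LK LD1_c17 LD2_c47 LD3_c1)) = (LP (LK LD1_c17 LD2_c45 LD3_c51)) :=
  Lgr Lrot76 (Lpe (K18.f299807 IH) (Lpr_ff (f289908 IH) (Lpr_gt (f50756 IH) (Lpn (LP (LK LD1_c17 LD2_c45 LD3_c51))))))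
theorem f184739 : Led Lsl_gt (LP (LK LD1_c15 LD2_c12 LD3_c43)) = (LP (LK LD1_c8 LD2_c4 LD3_c44)) :=
  Lre_g IH (LK LD1_c15 LD2_c12 LD3_c43) (LK LD1_c8 LD2_c4 LD3_c44) Lrfl Lrfl
theorem f184740 : Led Lsl_ct (LP (LK LD1_c25 LD2_c1 LD3_c42)) = (LP (LK LD1_c15 LD2_c12 LD3_c43)) :=
  Lre_c IH (LK LD1_c25 LD2_c1 LD3_c42) (LK LD1_c15 LD2_c12 LD3_c43) Lrfl Lrfl
theorem f248195 : Led Lsl_bf (LP (LK LD1_c17 LD2_c45 LD3_c51)) = (LP (LK LD1_c25 LD2_c1 LD3_c42)) :=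
  Lgr Lrot34 (Lpe (f50756 IH) (Lpe (f50755 IH) (Lpr_ct (K14.f190637 IH) (Lpr_gf (K15.f248189 IH) (Lpe (K15.f186744 IH) (Lpe (K15.f248192 IH) (Lpe (K38.f184679 IH) (Lpr_ct (K38.f184731 IH) (Lpe (f184739 IH) (Lpe (f184740 IH) (Lpn (LP (LK LD1_c25 LD2_c1 LD3_c42)))))))))))))
theorem f193014 : Led Lsl_bt (LP (LK LD1_c8 LD2_c3 LD3_c10)) = (LP (LK LD1_c15 LD2_c9 LD3_c45)) :=
  Lre_b IH (LK LD1_c8 LD2_c3 LD3_c10) (LK LD1_c15 LD2_c9 LD3_c45) Lrfl Lrfl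
theorem f193016 : Led Lsl_bt (LP (LK LD1_c18 LD2_c58 LD3_c20)) = (LP (LK LD1_c10 LD2_c28 LD3_c4)) :=
  Lre_b IH (LK LD1_c18 LD2_c58 LD3_c20) (LK LD1_c10 LD2_c28 LD3_c4) Lrfl Lrfl
theorem f193017 : Led Lsl_ct (LP (LK LD1_c15 LD2_c9 LD3_c45)) = (LP (LK LD1_c18 LD2_c58 LD3_c20)) :=
  Lgr Lrot83 (Lpe (f193014 IH) (Lpe (K22.f193013 IH) (Lpr_bf (K16.f193008 IH) (Lpe (K25.f193015 IH) (Lpe (f193016 IH) (Lpn (LP (LK LD1_c18 LD2_c58 LD3_c20))))))))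
theorem f193040 : Led Lsl_cf (LP (LK LD1_c15 LD2_c9 LD3_c45)) = (LP (LK LD1_c18 LD2_c58 LD3_c20)) :=
  Lgr Lrot11 (Lpr_ct (f193017 IH) (Lpn (LP (LK LD1_c18 LD2_c58 LD3_c20))))
theorem f193054 : Led Lsl_et (LP (LK LD1_c15 LD2_c9 LD3_c45)) = (LP (LK LD1_c8 LD2_c3 LD3_c9)) :=
  Lre_e IH (LK LD1_c15 LD2_c9 LD3_c45) (LK LD1_c8 LD2_c3 LD3_c9) Lrfl Lrfl
theorem f193055 : Led Lsl_et (LP (LK LD1_c10 LD2_c28 LD3_c3)) = (LP (LK LD1_c18 LD2_c58 LD3_c20)) :=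
  Lre_e IH (LK LD1_c10 LD2_c28 LD3_c3) (LK LD1_c18 LD2_c58 LD3_c20) Lrfl Lrfl
theorem f193056 : Led Lsl_ct (LP (LK LD1_c8 LD2_c3 LD3_c9)) = (LP (LK LD1_c10 LD2_c28 LD3_c3)) :=
  Lgr Lrot15 (Lpe (f193054 IH) (Lpr_cf (f193040 IH) (Lpe (f193055 IH) (Lpn (LP (LK LD1_c10 LD2_c28 LD3_c3))))))
theorem f193059 : Led Lsl_at (LP (LK LD1_c15 LD2_c9 LD3_c44)) = (LP (LK LD1_c8 LD2_c3 LD3_c9)) :=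
  Lre_a IH (LK LD1_c15 LD2_c9 LD3_c44) (LK LD1_c8 LD2_c3 LD3_c9) Lrfl Lrfl
theorem f193060 : Led Lsl_at (LP (LK LD1_c10 LD2_c28 LD3_c3)) = (LP (LK LD1_c18 LD2_c58 LD3_c19)) :=
  Lre_a IH (LK LD1_c10 LD2_c28 LD3_c3) (LK LD1_c18 LD2_c58 LD3_c19) Lrfl Lrfl
theorem f193061 : Led Lsl_cf (LP (LK LD1_c15 LD2_c9 LD3_c44)) = (LP (LK LD1_c18 LD2_c58 LD3_c19)) :=
  Lgr Lrot1 (Lpr_at (f193059 IH) (Lpr_ct (f193056 IH) (Lpr_at (f193060 IH) (Lpn (LP (LK LD1_c18 LD2_c58 LD3_c19))))))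
theorem f409573 : Led Lsl_gf (LP (LK LD1_c15 LD2_c12 LD3_c43)) = (LP (LK LD1_c15 LD2_c9 LD3_c44)) :=
  Lgr Lrot129 (Lpe (f184740 IH) (Lpe (f248195 IH) (Lpe (f407805 IH) (Lpe (K18.f299797 IH) (Lpr_ct (f299647 IH) (Lpr_gt (f299728 IH) (Lpe (f266127 IH) (Lpr_bt (f266128 IH) (Lpr_gt (f409570 IH) (Lpe (f193061 IH) (Lpn (LP (LK LD1_c15 LD2_c9 LD3_c44)))))))))))))
theorem f184736 : Led Lsl_at (LP (LK LD1_c15 LD2_c12 LD3_c44)) = (LP (LK LD1_c8 LD2_c4 LD3_c44)) :=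
  Lre_a IH (LK LD1_c15 LD2_c12 LD3_c44) (LK LD1_c8 LD2_c4 LD3_c44) Lrfl Lrfl
theorem f409575 : Led Lsl_ff (LP (LK LD1_c15 LD2_c12 LD3_c44)) = (LP (LK LD1_c15 LD2_c9 LD3_c44)) :=
  Lgr Lrot52 (Lpr_at (f184736 IH) (Lpe (f184739 IH) (Lpr_gf (f409573 IH) (Lpn (LP (LK LD1_c15 LD2_c9 LD3_c44))))))
theorem f409582 : Led Lsl_ft (LP (LK LD1_c15 LD2_c12 LD3_c44)) = (LP (LK LD1_c15 LD2_c9 LD3_c44)) :=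
  Lgr Lrot48 (Lpr_ff (f409575 IH) (Lpn (LP (LK LD1_c15 LD2_c9 LD3_c44))))
theorem f184734 : Led Lsl_at (LP (LK LD1_c8 LD2_c4 LD3_c44)) = (LP (LK LD1_c15 LD2_c12 LD3_c44)) :=
  Lre_a IH (LK LD1_c8 LD2_c4 LD3_c44) (LK LD1_c15 LD2_c12 LD3_c44) Lrfl Lrfl
theorem f409584 : Led Lsl_ff (LP (LK LD1_c8 LD2_c4 LD3_c44)) = (LP (LK LD1_c8 LD2_c3 LD3_c9)) :=
  Lgr Lrot30 (Lpr_at (f184734 IH) (Lpr_ft (f409582 IH) (Lpr_at (f193059 IH) (Lpn (LP (LK LD1_c8 LD2_c3 LD3_c9))))))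
theorem f184681 : Led Lsl_bt (LP (LK LD1_c4 LD2_c2 LD3_c4)) = (LP (LK LD1_c8 LD2_c4 LD3_c44)) :=
  Lre_b IH (LK LD1_c4 LD2_c2 LD3_c4) (LK LD1_c8 LD2_c4 LD3_c44) Lrfl Lrfl
theorem f213495 : Led Lsl_bt (LP (LK LD1_c15 LD2_c12 LD3_c23)) = (LP (LK LD1_c8 LD2_c4 LD3_c33)) :=
  Lre_b IH (LK LD1_c15 LD2_c12 LD3_c23) (LK LD1_c8 LD2_c4 LD3_c33) Lrfl Lrfl
theorem f242115 : Led Lsl_dt (LP (LK LD1_c8 LD2_c4 LD3_c44)) = (LP (LK LD1_c15 LD2_c12 LD3_c23)) :=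
  Lgr Lrot79 (Lpe (f184681 IH) (Lpr_df (K13.f242112 IH) (Lpe (f213495 IH) (Lpn (LP (LK LD1_c15 LD2_c12 LD3_c23))))))
theorem f240237 : Led Lsl_dt (LP (LK LD1_c10 LD2_c9 LD3_c19)) = (LP (LK LD1_c8 LD2_c3 LD3_c9)) :=
  Lgr Lrot79 (Lpe (f196156 IH) (Lpr_df (K13.f240234 IH) (Lpe (K37.f193004 IH) (Lpn (LP (LK LD1_c8 LD2_c3 LD3_c9))))))
theorem f409591 : Led Lsl_ft (LP (LK LD1_c15 LD2_c12 LD3_c23)) = (LP (LK LD1_c10 LD2_c9 LD3_c19)) :=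
  Lgr Lrot54 (Lpe (f242115 IH) (Lpr_ff (f409584 IH) (Lpe (f240237 IH) (Lpn (LP (LK LD1_c10 LD2_c9 LD3_c19))))))
theorem f409599 : Led Lsl_ff (LP (LK LD1_c15 LD2_c12 LD3_c23)) = (LP (LK LD1_c10 LD2_c9 LD3_c19)) :=
  Lgr Lrot3 (Lpr_ft (f409591 IH) (Lpn (LP (LK LD1_c10 LD2_c9 LD3_c19))))
theorem f409601 : Led Lsl_at (LP (LK LD1_c15 LD2_c12 LD3_c23)) = (LP (LK LD1_c25 LD2_c1 LD3_c20)) :=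
  Lre_a IH (LK LD1_c15 LD2_c12 LD3_c23) (LK LD1_c25 LD2_c1 LD3_c20) Lrfl Lrfl
theorem f582846 : Led Lsl_gt (LP (LK LD1_c18 LD2_c28 LD3_c54)) = (LP (LK LD1_c25 LD2_c1 LD3_c20)) :=
  Lgr Lrot46 (Lpr_gf (f582840 IH) (Lpe (f409599 IH) (Lpr_at (f409601 IH) (Lpn (LP (LK LD1_c25 LD2_c1 LD3_c20))))))
theorem f260028 : Led Lsl_dt (LP (LK LD1_c10 LD2_c8 LD3_c50)) = (LP (LK LD1_c18 LD2_c28 LD3_c54)) :=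
  Lre_d IH (LK LD1_c10 LD2_c8 LD3_c50) (LK LD1_c18 LD2_c28 LD3_c54) Lrfl Lrfl
theorem f260023 : Led Lsl_ct (LP (LK LD1_c5 LD2_c9 LD3_c9)) = (LP (LK LD1_c9 LD2_c40 LD3_c18)) :=
  Lgr Lrot83 (Lpe (K37.f260000 IH) (Lpr_cf (K15.f259998 IH) (Lpe (K15.f247720 IH) (Lpe (K15.f193107 IH) (Lpe (f43748 IH) (Lpn (LP (LK LD1_c9 LD2_c40 LD3_c18))))))))
theorem f193114 : Led Lsl_gt (LP (LK LD1_c9 LD2_c40 LD3_c18)) = (LP (LK LD1_c17 LD2_c47 LD3_c22)) :=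
  Lre_g IH (LK LD1_c9 LD2_c40 LD3_c18) (LK LD1_c17 LD2_c47 LD3_c22) Lrfl Lrfl
theorem f171563 : Led Lsl_dt (LP (LK LD1_c15 LD2_c9 LD3_c60)) = (LP (LK LD1_c8 LD2_c3 LD3_c19)) :=
  Lre_d IH (LK LD1_c15 LD2_c9 LD3_c60) (LK LD1_c8 LD2_c3 LD3_c19) Lrfl Lrfl
theorem f184754 : Led Lsl_dt (LP (LK LD1_c8 LD2_c4 LD3_c45)) = (LP (LK LD1_c15 LD2_c12 LD3_c46)) :=
  Lre_d IH (LK LD1_c8 LD2_c4 LD3_c45) (LK LD1_c15 LD2_c12 LD3_c46) Lrfl Lrfl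
theorem f275976 : Led Lsl_af (LP (LK LD1_c15 LD2_c9 LD3_c60)) = (LP (LK LD1_c15 LD2_c12 LD3_c46)) :=
  Lgr Lrot117 (Lpr_dt (f171563 IH) (Lpr_at (K16.f275970 IH) (Lpr_dt (f184754 IH) (Lpn (LP (LK LD1_c15 LD2_c12 LD3_c46))))))
theorem f410323 : Led Lsl_at (LP (LK LD1_c15 LD2_c9 LD3_c60)) = (LP (LK LD1_c15 LD2_c12 LD3_c46)) :=
  Lgr Lrot100 (Lpr_af (f275976 IH) (Lpn (LP (LK LD1_c15 LD2_c12 LD3_c46))))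
theorem f242122 : Led Lsl_et (LP (LK LD1_c15 LD2_c12 LD3_c24)) = (LP (LK LD1_c8 LD2_c4 LD3_c33)) :=
  Lre_e IH (LK LD1_c15 LD2_c12 LD3_c24) (LK LD1_c8 LD2_c4 LD3_c33) Lrfl Lrfl
theorem f242123 : Led Lsl_dt (LP (LK LD1_c25 LD2_c1 LD3_c24)) = (LP (LK LD1_c15 LD2_c12 LD3_c24)) :=
  Lre_d IH (LK LD1_c25 LD2_c1 LD3_c24) (LK LD1_c15 LD2_c12 LD3_c24) Lrfl Lrfl
theorem f242124 : Led Lsl_et (LP (LK LD1_c15 LD2_c12 LD3_c46)) = (LP (LK LD1_c25 LD2_c1 LD3_c24)) :=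
  Lgr Lrot71 (Lpe (f184754 IH) (Lpe (K16.f242121 IH) (Lpr_df (K13.f242112 IH) (Lpe (f242122 IH) (Lpe (f242123 IH) (Lpn (LP (LK LD1_c25 LD2_c1 LD3_c24))))))))
theorem f184753 : Led Lsl_et (LP (LK LD1_c8 LD2_c4 LD3_c45)) = (LP (LK LD1_c4 LD2_c2 LD3_c4)) :=
  Lre_e IH (LK LD1_c8 LD2_c4 LD3_c45) (LK LD1_c4 LD2_c2 LD3_c4) Lrfl Lrfl
theorem f275978 : Led Lsl_af (LP (LK LD1_c4 LD2_c1 LD3_c19)) = (LP (LK LD1_c4 LD2_c2 LD3_c4)) :=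
  Lgr Lrot50 (Lpr_et (K23.f242325 IH) (Lpr_at (K16.f275970 IH) (Lpr_et (f184753 IH) (Lpn (LP (LK LD1_c4 LD2_c2 LD3_c4))))))
theorem f410267 : Led Lsl_at (LP (LK LD1_c5 LD2_c9 LD3_c21)) = (LP (LK LD1_c8 LD2_c4 LD3_c33)) :=
  Lgr Lrot51 (Lpr_df (K13.f240230 IH) (Lpr_af (f275978 IH) (Lpr_df (K13.f242112 IH) (Lpn (LP (LK LD1_c8 LD2_c4 LD3_c33))))))
theorem f21729 : Led Lsl_et (LP (LK LD1_c10 LD2_c9 LD3_c22)) = (LP (LK LD1_c5 LD2_c9 LD3_c21)) :=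
  Lre_e IH (LK LD1_c10 LD2_c9 LD3_c22) (LK LD1_c5 LD2_c9 LD3_c21) Lrfl Lrfl
theorem f242128 : Led Lsl_et (LP (LK LD1_c8 LD2_c4 LD3_c33)) = (LP (LK LD1_c15 LD2_c12 LD3_c24)) :=
  Lre_e IH (LK LD1_c8 LD2_c4 LD3_c33) (LK LD1_c15 LD2_c12 LD3_c24) Lrfl Lrfl
theorem f410272 : Led Lsl_af (LP (LK LD1_c10 LD2_c9 LD3_c22)) = (LP (LK LD1_c15 LD2_c12 LD3_c24)) :=
  Lgr Lrot50 (Lpr_et (f21729 IH) (Lpr_at (f410267 IH) (Lpr_et (f242128 IH) (Lpn (LP (LK LD1_c15 LD2_c12 LD3_c24))))))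
theorem f410278 : Led Lsl_ft (LP (LK LD1_c10 LD2_c9 LD3_c22)) = (LP (LK LD1_c18 LD2_c30 LD3_c4)) :=
  Lre_f IH (LK LD1_c10 LD2_c9 LD3_c22) (LK LD1_c18 LD2_c30 LD3_c4) Lrfl Lrfl
theorem f262442 : Led Lsl_ft (LP (LK LD1_c25 LD2_c1 LD3_c25)) = (LP (LK LD1_c15 LD2_c12 LD3_c24)) :=
  Lre_f IH (LK LD1_c25 LD2_c1 LD3_c25) (LK LD1_c15 LD2_c12 LD3_c24) Lrfl Lrfl
theorem f410279 : Led Lsl_at (LP (LK LD1_c18 LD2_c30 LD3_c4)) = (LP (LK LD1_c25 LD2_c1 LD3_c25)) :=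
  Lgr Lrot66 (Lpe (f410278 IH) (Lpr_af (f410272 IH) (Lpe (f262442 IH) (Lpn (LP (LK LD1_c25 LD2_c1 LD3_c25))))))
theorem f410285 : Led Lsl_dt (LP (LK LD1_c28 LD2_c4 LD3_c15)) = (LP (LK LD1_c18 LD2_c30 LD3_c4)) :=
  Lre_d IH (LK LD1_c28 LD2_c4 LD3_c15) (LK LD1_c18 LD2_c30 LD3_c4) Lrfl Lrfl
theorem f262440 : Led Lsl_dt (LP (LK LD1_c25 LD2_c1 LD3_c25)) = (LP (LK LD1_c31 LD2_c44 LD3_c39)) :=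
  Lre_d IH (LK LD1_c25 LD2_c1 LD3_c25) (LK LD1_c31 LD2_c44 LD3_c39) Lrfl Lrfl
theorem f410286 : Led Lsl_af (LP (LK LD1_c28 LD2_c4 LD3_c15)) = (LP (LK LD1_c31 LD2_c44 LD3_c39)) :=
  Lgr Lrot117 (Lpr_dt (f410285 IH) (Lpr_at (f410279 IH) (Lpr_dt (f262440 IH) (Lpn (LP (LK LD1_c31 LD2_c44 LD3_c39))))))
theorem f410288 : Led Lsl_at (LP (LK LD1_c28 LD2_c4 LD3_c15)) = (LP (LK LD1_c31 LD2_c44 LD3_c39)) :=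
  Lgr Lrot100 (Lpr_af (f410286 IH) (Lpn (LP (LK LD1_c31 LD2_c44 LD3_c39))))
theorem f410294 : Led Lsl_ft (LP (LK LD1_c18 LD2_c30 LD3_c3)) = (LP (LK LD1_c28 LD2_c4 LD3_c15)) :=
  Lre_f IH (LK LD1_c18 LD2_c30 LD3_c3) (LK LD1_c28 LD2_c4 LD3_c15) Lrfl Lrfl
theorem f262439 : Led Lsl_ft (LP (LK LD1_c31 LD2_c44 LD3_c39)) = (LP (LK LD1_c25 LD2_c1 LD3_c24)) :=
  Lre_f IH (LK LD1_c31 LD2_c44 LD3_c39) (LK LD1_c25 LD2_c1 LD3_c24) Lrfl Lrfl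
theorem f410295 : Led Lsl_af (LP (LK LD1_c18 LD2_c30 LD3_c3)) = (LP (LK LD1_c25 LD2_c1 LD3_c24)) :=
  Lgr Lrot45 (Lpr_ft (f410294 IH) (Lpr_at (f410288 IH) (Lpr_ft (f262439 IH) (Lpn (LP (LK LD1_c25 LD2_c1 LD3_c24))))))
theorem f410329 : Led Lsl_ef (LP (LK LD1_c15 LD2_c9 LD3_c60)) = (LP (LK LD1_c18 LD2_c30 LD3_c3)) :=
  Lgr Lrot20 (Lpr_at (f410323 IH) (Lpr_et (f242124 IH) (Lpe (f410295 IH) (Lpn (LP (LK LD1_c18 LD2_c30 LD3_c3))))))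
theorem f410325 : Led Lsl_bt (LP (LK LD1_c15 LD2_c9 LD3_c60)) = (LP (LK LD1_c24 LD2_c59 LD3_c5)) :=
  Lre_b IH (LK LD1_c15 LD2_c9 LD3_c60) (LK LD1_c24 LD2_c59 LD3_c5) Lrfl Lrfl
theorem f410305 : Led Lsl_bt (LP (LK LD1_c28 LD2_c4 LD3_c12)) = (LP (LK LD1_c18 LD2_c30 LD3_c3)) :=
  Lre_b IH (LK LD1_c28 LD2_c4 LD3_c12) (LK LD1_c18 LD2_c30 LD3_c3) Lrfl Lrfl
theorem f410331 : Led Lsl_et (LP (LK LD1_c24 LD2_c59 LD3_c5)) = (LP (LK LD1_c28 LD2_c4 LD3_c12)) :=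
  Lgr Lrot74 (Lpe (f410325 IH) (Lpr_ef (f410329 IH) (Lpe (f410305 IH) (Lpn (LP (LK LD1_c28 LD2_c4 LD3_c12))))))
theorem f171568 : Led Lsl_dt (LP (LK LD1_c15 LD2_c9 LD3_c59)) = (LP (LK LD1_c24 LD2_c59 LD3_c5)) :=
  Lre_d IH (LK LD1_c15 LD2_c9 LD3_c59) (LK LD1_c24 LD2_c59 LD3_c5) Lrfl Lrfl
theorem f410333 : Led Lsl_dt (LP (LK LD1_c28 LD2_c4 LD3_c12)) = (LP (LK LD1_c18 LD2_c30 LD3_c1)) :=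
  Lre_d IH (LK LD1_c28 LD2_c4 LD3_c12) (LK LD1_c18 LD2_c30 LD3_c1) Lrfl Lrfl
theorem f410334 : Led Lsl_et (LP (LK LD1_c18 LD2_c30 LD3_c1)) = (LP (LK LD1_c10 LD2_c9 LD3_c21)) :=
  Lre_e IH (LK LD1_c18 LD2_c30 LD3_c1) (LK LD1_c10 LD2_c9 LD3_c21) Lrfl Lrfl
theorem f410335 : Led Lsl_df (LP (LK LD1_c8 LD2_c3 LD3_c18)) = (LP (LK LD1_c10 LD2_c9 LD3_c21)) :=
  Lgr Lrot70 (Lpr_et (K16.f171581 IH) (Lpr_dt (f171568 IH) (Lpr_et (f410331 IH) (Lpr_dt (f410333 IH) (Lpr_et (f410334 IH) (Lpn (LP (LK LD1_c10 LD2_c9 LD3_c21))))))))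
theorem f171586 : Led Lsl_at (LP (LK LD1_c8 LD2_c3 LD3_c18)) = (LP (LK LD1_c15 LD2_c9 LD3_c58)) :=
  Lre_a IH (LK LD1_c8 LD2_c3 LD3_c18) (LK LD1_c15 LD2_c9 LD3_c58) Lrfl Lrfl
theorem f410269 : Led Lsl_at (LP (LK LD1_c18 LD2_c29 LD3_c61)) = (LP (LK LD1_c10 LD2_c9 LD3_c21)) :=
  Lre_a IH (LK LD1_c18 LD2_c29 LD3_c61) (LK LD1_c10 LD2_c9 LD3_c21) Lrfl Lrfl
theorem f410342 : Led Lsl_dt (LP (LK LD1_c15 LD2_c9 LD3_c58)) = (LP (LK LD1_c18 LD2_c29 LD3_c61)) :=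
  Lgr Lrot44 (Lpe (f171586 IH) (Lpr_df (f410335 IH) (Lpe (f410269 IH) (Lpn (LP (LK LD1_c18 LD2_c29 LD3_c61))))))
theorem f240241 : Led Lsl_et (LP (LK LD1_c8 LD2_c3 LD3_c10)) = (LP (LK LD1_c4 LD2_c1 LD3_c12)) :=
  Lre_e IH (LK LD1_c8 LD2_c3 LD3_c10) (LK LD1_c4 LD2_c1 LD3_c12) Lrfl Lrfl
theorem f229124 : Led Lsl_et (LP (LK LD1_c4 LD2_c1 LD3_c60)) = (LP (LK LD1_c8 LD2_c4 LD3_c38)) :=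
  Lre_e IH (LK LD1_c4 LD2_c1 LD3_c60) (LK LD1_c8 LD2_c4 LD3_c38) Lrfl Lrfl
theorem f275932 : Led Lsl_at (LP (LK LD1_c4 LD2_c1 LD3_c12)) = (LP (LK LD1_c4 LD2_c1 LD3_c60)) :=
  Lgr Lrot80 (Lpe (f240241 IH) (Lpr_af (K16.f275920 IH) (Lpe (f229124 IH) (Lpn (LP (LK LD1_c4 LD2_c1 LD3_c60))))))
theorem f229118 : Led Lsl_bt (LP (LK LD1_c4 LD2_c1 LD3_c60)) = (LP (LK LD1_c8 LD2_c4 LD3_c37)) :=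
  Lre_b IH (LK LD1_c4 LD2_c1 LD3_c60) (LK LD1_c8 LD2_c4 LD3_c37) Lrfl Lrfl
theorem f229215 : Led Lsl_at (LP (LK LD1_c8 LD2_c4 LD3_c37)) = (LP (LK LD1_c15 LD2_c12 LD3_c34)) :=
  Lre_a IH (LK LD1_c8 LD2_c4 LD3_c37) (LK LD1_c15 LD2_c12 LD3_c34) Lrfl Lrfl
theorem f275935 : Led Lsl_bf (LP (LK LD1_c15 LD2_c9 LD3_c44)) = (LP (LK LD1_c15 LD2_c12 LD3_c34)) :=
  Lgr Lrot81 (Lpr_at (f193059 IH) (Lpr_bt (K37.f193004 IH) (Lpr_at (f275932 IH) (Lpr_bt (f229118 IH) (Lpr_at (f229215 IH) (Lpn (LP (LK LD1_c15 LD2_c12 LD3_c34))))))))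
theorem f229196 : Led Lsl_at (LP (LK LD1_c15 LD2_c12 LD3_c34)) = (LP (LK LD1_c8 LD2_c4 LD3_c37)) :=
  Lre_a IH (LK LD1_c15 LD2_c12 LD3_c34) (LK LD1_c8 LD2_c4 LD3_c37) Lrfl Lrfl
theorem f273310 : Led Lsl_ff (LP (LK LD1_c15 LD2_c12 LD3_c34)) = (LP (LK LD1_c15 LD2_c9 LD3_c58)) :=
  Lgr Lrot30 (Lpr_at (f229196 IH) (Lpr_ft (K16.f273308 IH) (Lpr_at (f171586 IH) (Lpn (LP (LK LD1_c15 LD2_c9 LD3_c58))))))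
theorem f409579 : Led Lsl_bt (LP (LK LD1_c15 LD2_c12 LD3_c44)) = (LP (LK LD1_c15 LD2_c9 LD3_c58)) :=
  Lgr Lrot35 (Lpr_ff (f409575 IH) (Lpr_bf (f275935 IH) (Lpr_ff (f273310 IH) (Lpn (LP (LK LD1_c15 LD2_c9 LD3_c58))))))
theorem f33794 : Led Lsl_bt (LP (LK LD1_c10 LD2_c9 LD3_c21)) = (LP (LK LD1_c5 LD2_c9 LD3_c21)) :=
  Lre_b IH (LK LD1_c10 LD2_c9 LD3_c21) (LK LD1_c5 LD2_c9 LD3_c21) Lrfl Lrfl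
theorem f262423 : Led Lsl_bt (LP (LK LD1_c8 LD2_c4 LD3_c33)) = (LP (LK LD1_c15 LD2_c12 LD3_c23)) :=
  Lre_b IH (LK LD1_c8 LD2_c4 LD3_c33) (LK LD1_c15 LD2_c12 LD3_c23) Lrfl Lrfl
theorem f410270 : Led Lsl_bf (LP (LK LD1_c18 LD2_c29 LD3_c61)) = (LP (LK LD1_c25 LD2_c1 LD3_c20)) :=
  Lgr Lrot81 (Lpr_at (f410269 IH) (Lpr_bt (f33794 IH) (Lpr_at (f410267 IH) (Lpr_bt (f262423 IH) (Lpr_at (f409601 IH) (Lpn (LP (LK LD1_c25 LD2_c1 LD3_c20))))))))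
theorem f410318 : Led Lsl_bt (LP (LK LD1_c18 LD2_c29 LD3_c61)) = (LP (LK LD1_c25 LD2_c1 LD3_c20)) :=
  Lgr Lrot127 (Lpr_bf (f410270 IH) (Lpn (LP (LK LD1_c25 LD2_c1 LD3_c20))))
theorem f410352 : Led Lsl_df (LP (LK LD1_c15 LD2_c12 LD3_c44)) = (LP (LK LD1_c25 LD2_c1 LD3_c20)) :=
  Lgr Lrot12 (Lpr_bt (f409579 IH) (Lpr_dt (f410342 IH) (Lpr_bt (f410318 IH) (Lpn (LP (LK LD1_c25 LD2_c1 LD3_c20))))))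
theorem f271326 : Led Lsl_ff (LP (LK LD1_c9 LD2_c39 LD3_c57)) = (LP (LK LD1_c9 LD2_c40 LD3_c29)) :=
  Lgr Lrot19 (Lpr_dt (K14.f247960 IH) (Lpr_ft (K16.f271320 IH) (Lpr_dt (K15.f257062 IH) (Lpn (LP (LK LD1_c9 LD2_c40 LD3_c29))))))
theorem f544561 : Led Lsl_bt (LP (LK LD1_c9 LD2_c39 LD3_c51)) = (LP (LK LD1_c9 LD2_c40 LD3_c29)) :=
  Lgr Lrot35 (Lpe (K38.f544533 IH) (Lpr_bf (K38.f544552 IH) (Lpr_ff (f271326 IH) (Lpn (LP (LK LD1_c9 LD2_c40 LD3_c29))))))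
theorem f544523 : Led Lsl_at (LP (LK LD1_c17 LD2_c46 LD3_c28)) = (LP (LK LD1_c9 LD2_c39 LD3_c51)) :=
  Lre_a IH (LK LD1_c17 LD2_c46 LD3_c28) (LK LD1_c9 LD2_c39 LD3_c51) Lrfl Lrfl
theorem f544563 : Led Lsl_bt (LP (LK LD1_c27 LD2_c33 LD3_c9)) = (LP (LK LD1_c17 LD2_c46 LD3_c28)) :=
  Lre_b IH (LK LD1_c27 LD2_c33 LD3_c9) (LK LD1_c17 LD2_c46 LD3_c28) Lrfl Lrfl
theorem f544564 : Led Lsl_af (LP (LK LD1_c27 LD2_c33 LD3_c9)) = (LP (LK LD1_c17 LD2_c46 LD3_c39)) :=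
  Lgr Lrot36 (Lpr_bt (f544563 IH) (Lpr_at (f544523 IH) (Lpr_bt (f544561 IH) (Lpe (K16.f271355 IH) (Lpr_bt (K38.f248182 IH) (Lpn (LP (LK LD1_c17 LD2_c46 LD3_c39))))))))
theorem f248217 : Led Lsl_df (LP (LK LD1_c17 LD2_c46 LD3_c39)) = (LP (LK LD1_c10 LD2_c27 LD3_c51)) :=
  Lgr Lrot38 (Lpr_dt (K38.f248183 IH) (Lpn (LP (LK LD1_c10 LD2_c27 LD3_c51))))
theorem f544583 : Led Lsl_dt (LP (LK LD1_c27 LD2_c33 LD3_c9)) = (LP (LK LD1_c18 LD2_c58 LD3_c10)) :=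
  Lgr Lrot44 (Lpr_af (f544564 IH) (Lpr_df (f248217 IH) (Lpe (f248228 IH) (Lpn (LP (LK LD1_c18 LD2_c58 LD3_c10))))))
theorem f544589 : Led Lsl_ft (LP (LK LD1_c17 LD2_c46 LD3_c32)) = (LP (LK LD1_c27 LD2_c33 LD3_c9)) :=
  Lre_f IH (LK LD1_c17 LD2_c46 LD3_c32) (LK LD1_c27 LD2_c33 LD3_c9) Lrfl Lrfl
theorem f409543 : Led Lsl_ff (LP (LK LD1_c18 LD2_c53 LD3_c58)) = (LP (LK LD1_c28 LD2_c19 LD3_c49)) :=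
  Lgr Lrot3 (Lpr_ft (f409532 IH) (Lpn (LP (LK LD1_c28 LD2_c19 LD3_c49))))
theorem f409538 : Led Lsl_dt (LP (LK LD1_c18 LD2_c53 LD3_c58)) = (LP (LK LD1_c10 LD2_c25 LD3_c0)) :=
  Lre_d IH (LK LD1_c18 LD2_c53 LD3_c58) (LK LD1_c10 LD2_c25 LD3_c0) Lrfl Lrfl
theorem f254620 : Led Lsl_dt (LP (LK LD1_c18 LD2_c51 LD3_c33)) = (LP (LK LD1_c28 LD2_c19 LD3_c49)) :=
  Lre_d IH (LK LD1_c18 LD2_c51 LD3_c33) (LK LD1_c28 LD2_c19 LD3_c49) Lrfl Lrfl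
theorem f409549 : Led Lsl_ft (LP (LK LD1_c10 LD2_c25 LD3_c0)) = (LP (LK LD1_c18 LD2_c51 LD3_c33)) :=
  Lgr Lrot54 (Lpe (f409538 IH) (Lpr_ff (f409543 IH) (Lpe (f254620 IH) (Lpn (LP (LK LD1_c18 LD2_c51 LD3_c33))))))
theorem f409525 : Led Lsl_ct (LP (LK LD1_c18 LD2_c53 LD3_c46)) = (LP (LK LD1_c10 LD2_c25 LD3_c0)) :=
  Lre_c IH (LK LD1_c18 LD2_c53 LD3_c46) (LK LD1_c10 LD2_c25 LD3_c0) Lrfl Lrfl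
theorem f409554 : Led Lsl_ff (LP (LK LD1_c18 LD2_c53 LD3_c46)) = (LP (LK LD1_c18 LD2_c58 LD3_c10)) :=
  Lgr Lrot23 (Lpr_ct (f409525 IH) (Lpr_ft (f409549 IH) (Lpr_ct (f254593 IH) (Lpn (LP (LK LD1_c18 LD2_c58 LD3_c10))))))
theorem f544590 : Led Lsl_df (LP (LK LD1_c17 LD2_c46 LD3_c32)) = (LP (LK LD1_c18 LD2_c53 LD3_c46)) :=
  Lgr Lrot78 (Lpr_ft (f544589 IH) (Lpr_dt (f544583 IH) (Lpe (f409554 IH) (Lpn (LP (LK LD1_c18 LD2_c53 LD3_c46))))))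
theorem f544594 : Led Lsl_dt (LP (LK LD1_c17 LD2_c46 LD3_c32)) = (LP (LK LD1_c18 LD2_c53 LD3_c46)) :=
  Lgr Lrot42 (Lpr_df (f544590 IH) (Lpn (LP (LK LD1_c18 LD2_c53 LD3_c46))))
theorem f544556 : Led Lsl_bt (LP (LK LD1_c9 LD2_c39 LD3_c52)) = (LP (LK LD1_c17 LD2_c46 LD3_c32)) :=
  Lre_b IH (LK LD1_c9 LD2_c39 LD3_c52) (LK LD1_c17 LD2_c46 LD3_c32) Lrfl Lrfl
theorem f544549 : Led Lsl_dt (LP (LK LD1_c17 LD2_c46 LD3_c34)) = (LP (LK LD1_c9 LD2_c39 LD3_c52)) :=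
  Lre_d IH (LK LD1_c17 LD2_c46 LD3_c34) (LK LD1_c9 LD2_c39 LD3_c52) Lrfl Lrfl
theorem f544613 : Led Lsl_bf (LP (LK LD1_c17 LD2_c46 LD3_c34)) = (LP (LK LD1_c18 LD2_c53 LD3_c46)) :=
  Lgr Lrot93 (Lpr_dt (f544549 IH) (Lpr_bt (f544556 IH) (Lpr_dt (f544594 IH) (Lpn (LP (LK LD1_c18 LD2_c53 LD3_c46))))))
theorem f372237 : Led Lsl_ct (LP (LK LD1_c10 LD2_c25 LD3_c0)) = (LP (LK LD1_c18 LD2_c53 LD3_c46)) :=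
  Lre_c IH (LK LD1_c10 LD2_c25 LD3_c0) (LK LD1_c18 LD2_c53 LD3_c46) Lrfl Lrfl
theorem f282396 : Led Lsl_at (LP (LK LD1_c6 LD2_c5 LD3_c31)) = (LP (LK LD1_c8 LD2_c15 LD3_c12)) :=
  Lgr Lrot51 (Lpe (K15.f182085 IH) (Lpr_af (K17.f282389 IH) (Lpe (K19.f191346 IH) (Lpn (LP (LK LD1_c8 LD2_c15 LD3_c12))))))
theorem f409621 : Led Lsl_af (LP (LK LD1_c5 LD2_c17 LD3_c43)) = (LP (LK LD1_c10 LD2_c23 LD3_c43)) :=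
  Lgr Lrot68 (Lpr_ct (K15.f188235 IH) (Lpr_at (f282396 IH) (Lpr_ct (K19.f251439 IH) (Lpn (LP (LK LD1_c10 LD2_c23 LD3_c43))))))
theorem f273339 : Led Lsl_at (LP (LK LD1_c28 LD2_c19 LD3_c56)) = (LP (LK LD1_c18 LD2_c51 LD3_c38)) :=
  Lre_a IH (LK LD1_c28 LD2_c19 LD3_c56) (LK LD1_c18 LD2_c51 LD3_c38) Lrfl Lrfl
theorem f409623 : Led Lsl_bt (LP (LK LD1_c18 LD2_c53 LD3_c58)) = (LP (LK LD1_c28 LD2_c19 LD3_c56)) :=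
  Lgr Lrot62 (Lpe (f409530 IH) (Lpe (f188229 IH) (Lpr_af (f409621 IH) (Lpe (K16.f273353 IH) (Lpe (f273339 IH) (Lpn (LP (LK LD1_c28 LD2_c19 LD3_c56))))))))
theorem f171605 : Led Lsl_dt (LP (LK LD1_c28 LD2_c19 LD3_c56)) = (LP (LK LD1_c18 LD2_c51 LD3_c37)) :=
  Lre_d IH (LK LD1_c28 LD2_c19 LD3_c56) (LK LD1_c18 LD2_c51 LD3_c37) Lrfl Lrfl
theorem f409653 : Led Lsl_bf (LP (LK LD1_c10 LD2_c25 LD3_c0)) = (LP (LK LD1_c18 LD2_c51 LD3_c37)) :=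
  Lgr Lrot93 (Lpr_dt (f409524 IH) (Lpr_bt (f409623 IH) (Lpr_dt (f171605 IH) (Lpn (LP (LK LD1_c18 LD2_c51 LD3_c37))))))
theorem f171585 : Led Lsl_at (LP (LK LD1_c18 LD2_c51 LD3_c37)) = (LP (LK LD1_c10 LD2_c23 LD3_c42)) :=
  Lre_a IH (LK LD1_c18 LD2_c51 LD3_c37) (LK LD1_c10 LD2_c23 LD3_c42) Lrfl Lrfl
theorem f171587 : Led Lsl_cf (LP (LK LD1_c18 LD2_c51 LD3_c37)) = (LP (LK LD1_c15 LD2_c9 LD3_c58)) :=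
  Lgr Lrot1 (Lpr_at (f171585 IH) (Lpr_ct (K16.f171582 IH) (Lpr_at (f171586 IH) (Lpn (LP (LK LD1_c15 LD2_c9 LD3_c58))))))
theorem f544616 : Led Lsl_ct (LP (LK LD1_c17 LD2_c46 LD3_c34)) = (LP (LK LD1_c15 LD2_c12 LD3_c44)) :=
  Lgr Lrot83 (Lpr_bf (f544613 IH) (Lpe (f372237 IH) (Lpr_bf (f409653 IH) (Lpr_cf (f171587 IH) (Lpe (f409579 IH) (Lpn (LP (LK LD1_c15 LD2_c12 LD3_c44))))))))
theorem f43709 : Led Lsl_dt (LP (LK LD1_c9 LD2_c39 LD3_c52)) = (LP (LK LD1_c17 LD2_c46 LD3_c34)) :=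
  Lre_d IH (LK LD1_c9 LD2_c39 LD3_c52) (LK LD1_c17 LD2_c46 LD3_c34) Lrfl Lrfl
theorem f43708 : Led Lsl_gt (LP (LK LD1_c17 LD2_c46 LD3_c27)) = (LP (LK LD1_c9 LD2_c39 LD3_c52)) :=
  Lre_g IH (LK LD1_c17 LD2_c46 LD3_c27) (LK LD1_c9 LD2_c39 LD3_c52) Lrfl Lrfl
theorem f582849 : Led Lsl_dt (LP (LK LD1_c17 LD2_c47 LD3_c22)) = (LP (LK LD1_c17 LD2_c46 LD3_c27)) :=
  Lgr Lrot57 (Lpe (f193114 IH) (Lpe (f260023 IH) (Lpr_gt (K37.f260027 IH) (Lpr_dt (f260028 IH) (Lpr_gt (f582846 IH) (Lpe (f410352 IH) (Lpe (f544616 IH) (Lpe (f43709 IH) (Lpe (f43708 IH) (Lpn (LP (LK LD1_c17 LD2_c46 LD3_c27))))))))))))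
theorem f260142 : Led Lsl_et (LP (LK LD1_c27 LD2_c34 LD3_c23)) = (LP (LK LD1_c17 LD2_c47 LD3_c22)) :=
  Lre_e IH (LK LD1_c27 LD2_c34 LD3_c23) (LK LD1_c17 LD2_c47 LD3_c22) Lrfl Lrfl
theorem f260160 : Led Lsl_dt (LP (LK LD1_c32 LD2_c26 LD3_c39)) = (LP (LK LD1_c27 LD2_c34 LD3_c23)) :=
  Lre_d IH (LK LD1_c32 LD2_c26 LD3_c39) (LK LD1_c27 LD2_c34 LD3_c23) Lrfl Lrfl
theorem f43705 : Led Lsl_et (LP (LK LD1_c17 LD2_c46 LD3_c27)) = (LP (LK LD1_c27 LD2_c33 LD3_c8)) :=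
  Lre_e IH (LK LD1_c17 LD2_c46 LD3_c27) (LK LD1_c27 LD2_c33 LD3_c8) Lrfl Lrfl
theorem f43676 : Led Lsl_dt (LP (LK LD1_c27 LD2_c33 LD3_c8)) = (LP (LK LD1_c32 LD2_c26 LD3_c7)) :=
  Lre_d IH (LK LD1_c27 LD2_c33 LD3_c8) (LK LD1_c32 LD2_c26 LD3_c7) Lrfl Lrfl
theorem f582855 : Led Lsl_ef (LP (LK LD1_c32 LD2_c26 LD3_c39)) = (LP (LK LD1_c32 LD2_c26 LD3_c7)) :=
  Lgr Lrot73 (Lpr_dt (f260160 IH) (Lpr_et (f260142 IH) (Lpr_dt (f582849 IH) (Lpr_et (f43705 IH) (Lpr_dt (f43676 IH) (Lpn (LP (LK LD1_c32 LD2_c26 LD3_c7))))))))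
theorem f582859 : Led Lsl_et (LP (LK LD1_c32 LD2_c26 LD3_c39)) = (LP (LK LD1_c32 LD2_c26 LD3_c7)) :=
  Lgr Lrot87 (Lpr_ef (f582855 IH) (Lpn (LP (LK LD1_c32 LD2_c26 LD3_c7))))
theorem f260001 : Led Lsl_gt (LP (LK LD1_c10 LD2_c8 LD3_c51)) = (LP (LK LD1_c5 LD2_c9 LD3_c9)) :=
  Lre_g IH (LK LD1_c10 LD2_c8 LD3_c51) (LK LD1_c5 LD2_c9 LD3_c9) Lrfl Lrfl
theorem f260002 : Led Lsl_bt (LP (LK LD1_c18 LD2_c28 LD3_c56)) = (LP (LK LD1_c10 LD2_c8 LD3_c51)) :=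
  Lre_b IH (LK LD1_c18 LD2_c28 LD3_c56) (LK LD1_c10 LD2_c8 LD3_c51) Lrfl Lrfl
theorem f260003 : Led Lsl_ct (LP (LK LD1_c18 LD2_c28 LD3_c56)) = (LP (LK LD1_c28 LD2_c3 LD3_c34)) :=
  Lre_c IH (LK LD1_c18 LD2_c28 LD3_c56) (LK LD1_c28 LD2_c3 LD3_c34) Lrfl Lrfl
theorem f45984 : Led Lsl_bt (LP (LK LD1_c4 LD2_c2 LD3_c41)) = (LP (LK LD1_c8 LD2_c5 LD3_c58)) :=
  Lre_b IH (LK LD1_c4 LD2_c2 LD3_c41) (LK LD1_c8 LD2_c5 LD3_c58) Lrfl Lrfl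
theorem f233494 : Led Lsl_at (LP (LK LD1_c18 LD2_c34 LD3_c10)) = (LP (LK LD1_c10 LD2_c11 LD3_c38)) :=
  Lre_a IH (LK LD1_c18 LD2_c34 LD3_c10) (LK LD1_c10 LD2_c11 LD3_c38) Lrfl Lrfl
theorem f233495 : Led Lsl_ff (LP (LK LD1_c18 LD2_c34 LD3_c10)) = (LP (LK LD1_c10 LD2_c33 LD3_c5)) :=
  Lgr Lrot30 (Lpr_at (f233494 IH) (Lpr_ft (K14.f233492 IH) (Lpr_at (K14.f44005 IH) (Lpn (LP (LK LD1_c10 LD2_c33 LD3_c5))))))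
theorem f233553 : Led Lsl_gt (LP (LK LD1_c18 LD2_c34 LD3_c9)) = (LP (LK LD1_c10 LD2_c11 LD3_c38)) :=
  Lre_g IH (LK LD1_c18 LD2_c34 LD3_c9) (LK LD1_c10 LD2_c11 LD3_c38) Lrfl Lrfl
theorem f233560 : Led Lsl_gf (LP (LK LD1_c18 LD2_c34 LD3_c9)) = (LP (LK LD1_c10 LD2_c33 LD3_c5)) :=
  Lgr Lrot47 (Lpr_gt (f233553 IH) (Lpe (f233494 IH) (Lpr_ff (f233495 IH) (Lpn (LP (LK LD1_c10 LD2_c33 LD3_c5))))))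
theorem f45958 : Led Lsl_ft (LP (LK LD1_c4 LD2_c2 LD3_c39)) = (LP (LK LD1_c8 LD2_c5 LD3_c58)) :=
  Lre_f IH (LK LD1_c4 LD2_c2 LD3_c39) (LK LD1_c8 LD2_c5 LD3_c58) Lrfl Lrfl
theorem f233497 : Led Lsl_cf (LP (LK LD1_c10 LD2_c11 LD3_c38)) = (LP (LK LD1_c8 LD2_c5 LD3_c58)) :=
  Lgr Lrot108 (Lpr_ft (K14.f233492 IH) (Lpe (K10.f45929 IH) (Lpr_ft (f45958 IH) (Lpn (LP (LK LD1_c8 LD2_c5 LD3_c58))))))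
theorem f45823 : Led Lsl_bt (LP (LK LD1_c8 LD2_c5 LD3_c58)) = (LP (LK LD1_c4 LD2_c2 LD3_c41)) :=
  Lre_b IH (LK LD1_c8 LD2_c5 LD3_c58) (LK LD1_c4 LD2_c2 LD3_c41) Lrfl Lrfl
theorem f34577 : Led Lsl_gt (LP (LK LD1_c4 LD2_c1 LD3_c54)) = (LP (LK LD1_c8 LD2_c4 LD3_c27)) :=
  Lre_g IH (LK LD1_c4 LD2_c1 LD3_c54) (LK LD1_c8 LD2_c4 LD3_c27) Lrfl Lrfl
theorem f34196 : Led Lsl_bt (LP (LK LD1_c15 LD2_c12 LD3_c6)) = (LP (LK LD1_c8 LD2_c4 LD3_c27)) :=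
  Lre_b IH (LK LD1_c15 LD2_c12 LD3_c6) (LK LD1_c8 LD2_c4 LD3_c27) Lrfl Lrfl
theorem f233554 : Led Lsl_cf (LP (LK LD1_c18 LD2_c34 LD3_c9)) = (LP (LK LD1_c15 LD2_c12 LD3_c6)) :=
  Lgr Lrot160 (Lpr_gt (f233553 IH) (Lpr_cf (f233497 IH) (Lpr_bt (f45823 IH) (Lpr_gt (K13.f190751 IH) (Lpr_ct (K13.f33703 IH) (Lpr_gt (K10.f27772 IH) (Lpe (K0.f33674 IH) (Lpr_bt (K10.f33848 IH) (Lpr_gt (f34577 IH) (Lpe (f34196 IH) (Lpn (LP (LK LD1_c15 LD2_c12 LD3_c6)))))))))))))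
theorem f34189 : Led Lsl_gt (LP (LK LD1_c8 LD2_c4 LD3_c27)) = (LP (LK LD1_c15 LD2_c12 LD3_c4)) :=
  Lre_g IH (LK LD1_c8 LD2_c4 LD3_c27) (LK LD1_c15 LD2_c12 LD3_c4) Lrfl Lrfl
theorem f34394 : Led Lsl_bf (LP (LK LD1_c15 LD2_c12 LD3_c15)) = (LP (LK LD1_c10 LD2_c9 LD3_c13)) :=
  Lgr Lrot24 (Lpr_bt (K2.f34392 IH) (Lpn (LP (LK LD1_c10 LD2_c9 LD3_c13))))
theorem f34170 : Led Lsl_dt (LP (LK LD1_c15 LD2_c12 LD3_c15)) = (LP (LK LD1_c8 LD2_c4 LD3_c29)) :=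
  Lre_d IH (LK LD1_c15 LD2_c12 LD3_c15) (LK LD1_c8 LD2_c4 LD3_c29) Lrfl Lrfl
theorem f34561 : Led Lsl_bt (LP (LK LD1_c8 LD2_c4 LD3_c29)) = (LP (LK LD1_c5 LD2_c9 LD3_c17)) :=
  Lgr Lrot95 (Lpe (f34170 IH) (Lpr_bf (f34394 IH) (Lpe (K2.f21619 IH) (Lpn (LP (LK LD1_c5 LD2_c9 LD3_c17))))))
theorem f21627 : Led Lsl_ft (LP (LK LD1_c5 LD2_c9 LD3_c17)) = (LP (LK LD1_c10 LD2_c9 LD3_c2)) :=
  Lre_f IH (LK LD1_c5 LD2_c9 LD3_c17) (LK LD1_c10 LD2_c9 LD3_c2) Lrfl Lrfl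
theorem f34566 : Led Lsl_bf (LP (LK LD1_c15 LD2_c12 LD3_c4)) = (LP (LK LD1_c10 LD2_c9 LD3_c2)) :=
  Lgr Lrot61 (Lpr_ft (K2.f34174 IH) (Lpr_bt (f34561 IH) (Lpr_ft (f21627 IH) (Lpn (LP (LK LD1_c10 LD2_c9 LD3_c2))))))
theorem f34339 : Led Lsl_ct (LP (LK LD1_c10 LD2_c9 LD3_c2)) = (LP (LK LD1_c5 LD2_c11 LD3_c28)) :=
  Lre_c IH (LK LD1_c10 LD2_c9 LD3_c2) (LK LD1_c5 LD2_c11 LD3_c28) Lrfl Lrfl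
theorem f21555 : Led Lsl_gt (LP (LK LD1_c5 LD2_c11 LD3_c28)) = (LP (LK LD1_c2 LD2_c32 LD3_c42)) :=
  Lre_g IH (LK LD1_c5 LD2_c11 LD3_c28) (LK LD1_c2 LD2_c32 LD3_c42) Lrfl Lrfl
theorem f34571 : Led Lsl_ct (LP (LK LD1_c5 LD2_c11 LD3_c36)) = (LP (LK LD1_c2 LD2_c32 LD3_c42)) :=
  Lre_c IH (LK LD1_c5 LD2_c11 LD3_c36) (LK LD1_c2 LD2_c32 LD3_c42) Lrfl Lrfl
theorem f34572 : Led Lsl_bt (LP (LK LD1_c5 LD2_c11 LD3_c36)) = (LP (LK LD1_c10 LD2_c13 LD3_c56)) :=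
  Lre_b IH (LK LD1_c5 LD2_c11 LD3_c36) (LK LD1_c10 LD2_c13 LD3_c56) Lrfl Lrfl
theorem f45951 : Led Lsl_at (LP (LK LD1_c4 LD2_c2 LD3_c39)) = (LP (LK LD1_c8 LD2_c5 LD3_c56)) :=
  Lre_a IH (LK LD1_c4 LD2_c2 LD3_c39) (LK LD1_c8 LD2_c5 LD3_c56) Lrfl Lrfl
theorem f45952 : Led Lsl_ct (LP (LK LD1_c8 LD2_c5 LD3_c56)) = (LP (LK LD1_c10 LD2_c33 LD3_c5)) :=
  Lgr Lrot111 (Lpe (f45951 IH) (Lpr_cf (K10.f45929 IH) (Lpe (K14.f43989 IH) (Lpn (LP (LK LD1_c10 LD2_c33 LD3_c5))))))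
theorem f233562 : Led Lsl_gt (LP (LK LD1_c10 LD2_c13 LD3_c56)) = (LP (LK LD1_c8 LD2_c5 LD3_c56)) :=
  Lgr Lrot82 (Lpe (f34572 IH) (Lpr_ct (f34571 IH) (Lpe (f21555 IH) (Lpe (f34339 IH) (Lpe (f34566 IH) (Lpe (f34189 IH) (Lpe (f34196 IH) (Lpe (f233554 IH) (Lpr_gf (f233560 IH) (Lpe (f45952 IH) (Lpn (LP (LK LD1_c8 LD2_c5 LD3_c56)))))))))))))
theorem f45933 : Led Lsl_ft (LP (LK LD1_c8 LD2_c5 LD3_c58)) = (LP (LK LD1_c4 LD2_c2 LD3_c39)) :=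
  Lre_f IH (LK LD1_c8 LD2_c5 LD3_c58) (LK LD1_c4 LD2_c2 LD3_c39) Lrfl Lrfl
theorem f233564 : Led Lsl_gf (LP (LK LD1_c10 LD2_c13 LD3_c56)) = (LP (LK LD1_c8 LD2_c5 LD3_c58)) :=
  Lgr Lrot47 (Lpr_gt (f233562 IH) (Lpe (f45951 IH) (Lpe (f45933 IH) (Lpn (LP (LK LD1_c8 LD2_c5 LD3_c58))))))
theorem f233566 : Led Lsl_ct (LP (LK LD1_c10 LD2_c13 LD3_c56)) = (LP (LK LD1_c18 LD2_c37 LD3_c19)) :=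
  Lre_c IH (LK LD1_c10 LD2_c13 LD3_c56) (LK LD1_c18 LD2_c37 LD3_c19) Lrfl Lrfl
theorem f260004 : Led Lsl_gt (LP (LK LD1_c18 LD2_c37 LD3_c19)) = (LP (LK LD1_c28 LD2_c3 LD3_c34)) :=
  Lgr Lrot149 (Lpe (f233566 IH) (Lpr_gf (f233564 IH) (Lpe (f45984 IH) (Lpr_ct (K1.f27862 IH) (Lpr_gf (K15.f259994 IH) (Lpe (K15.f259996 IH) (Lpr_bt (K37.f260000 IH) (Lpe (f260001 IH) (Lpe (f260002 IH) (Lpr_ct (f260003 IH) (Lpn (LP (LK LD1_c28 LD2_c3 LD3_c34)))))))))))))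
theorem f260019 : Led Lsl_bt (LP (LK LD1_c10 LD2_c13 LD3_c56)) = (LP (LK LD1_c5 LD2_c11 LD3_c36)) :=
  Lre_b IH (LK LD1_c10 LD2_c13 LD3_c56) (LK LD1_c5 LD2_c11 LD3_c36) Lrfl Lrfl
theorem f196218 : Led Lsl_gt (LP (LK LD1_c10 LD2_c13 LD3_c37)) = (LP (LK LD1_c5 LD2_c11 LD3_c36)) :=
  Lre_g IH (LK LD1_c10 LD2_c13 LD3_c37) (LK LD1_c5 LD2_c11 LD3_c36) Lrfl Lrfl
theorem f260020 : Led Lsl_bt (LP (LK LD1_c18 LD2_c36 LD3_c54)) = (LP (LK LD1_c10 LD2_c13 LD3_c37)) :=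
  Lre_b IH (LK LD1_c18 LD2_c36 LD3_c54) (LK LD1_c10 LD2_c13 LD3_c37) Lrfl Lrfl
theorem f260128 : Led Lsl_ct (LP (LK LD1_c18 LD2_c36 LD3_c54)) = (LP (LK LD1_c17 LD2_c47 LD3_c22)) :=
  Lgr Lrot63 (Lpr_bt (f260020 IH) (Lpr_gt (f196218 IH) (Lpe (f260019 IH) (Lpr_ct (f233566 IH) (Lpr_gt (f260004 IH) (Lpe (f260003 IH) (Lpr_bt (f260002 IH) (Lpr_gt (f260001 IH) (Lpr_ct (f260023 IH) (Lpr_gt (f193114 IH) (Lpn (LP (LK LD1_c17 LD2_c47 LD3_c22)))))))))))))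
theorem f260130 : Led Lsl_bt (LP (LK LD1_c10 LD2_c13 LD3_c37)) = (LP (LK LD1_c18 LD2_c36 LD3_c54)) :=
  Lre_b IH (LK LD1_c10 LD2_c13 LD3_c37) (LK LD1_c18 LD2_c36 LD3_c54) Lrfl Lrfl
theorem f260131 : Led Lsl_ct (LP (LK LD1_c10 LD2_c12 LD3_c37)) = (LP (LK LD1_c10 LD2_c13 LD3_c37)) :=
  Lre_c IH (LK LD1_c10 LD2_c12 LD3_c37) (LK LD1_c10 LD2_c13 LD3_c37) Lrfl Lrfl
theorem f260132 : Led Lsl_bt (LP (LK LD1_c5 LD2_c10 LD3_c60)) = (LP (LK LD1_c10 LD2_c12 LD3_c37)) :=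
  Lre_b IH (LK LD1_c5 LD2_c10 LD3_c60) (LK LD1_c10 LD2_c12 LD3_c37) Lrfl Lrfl
theorem f212440 : Led Lsl_ct (LP (LK LD1_c10 LD2_c12 LD3_c38)) = (LP (LK LD1_c5 LD2_c10 LD3_c60)) :=
  Lre_c IH (LK LD1_c10 LD2_c12 LD3_c38) (LK LD1_c5 LD2_c10 LD3_c60) Lrfl Lrfl
theorem f260133 : Led Lsl_bf (LP (LK LD1_c10 LD2_c12 LD3_c38)) = (LP (LK LD1_c17 LD2_c47 LD3_c22)) :=
  Lgr Lrot90 (Lpr_ct (f212440 IH) (Lpr_bt (f260132 IH) (Lpr_ct (f260131 IH) (Lpr_bt (f260130 IH) (Lpr_ct (f260128 IH) (Lpn (LP (LK LD1_c17 LD2_c47 LD3_c22))))))))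
theorem f260144 : Led Lsl_et (LP (LK LD1_c10 LD2_c12 LD3_c38)) = (LP (LK LD1_c18 LD2_c35 LD3_c36)) :=
  Lre_e IH (LK LD1_c10 LD2_c12 LD3_c38) (LK LD1_c18 LD2_c35 LD3_c36) Lrfl Lrfl
theorem f260145 : Led Lsl_bt (LP (LK LD1_c18 LD2_c35 LD3_c36)) = (LP (LK LD1_c27 LD2_c34 LD3_c23)) :=
  Lgr Lrot119 (Lpe (f260144 IH) (Lpr_bf (f260133 IH) (Lpe (f260142 IH) (Lpn (LP (LK LD1_c27 LD2_c34 LD3_c23))))))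
theorem f260152 : Led Lsl_dt (LP (LK LD1_c28 LD2_c9 LD3_c35)) = (LP (LK LD1_c18 LD2_c35 LD3_c36)) :=
  Lre_d IH (LK LD1_c28 LD2_c9 LD3_c35) (LK LD1_c18 LD2_c35 LD3_c36) Lrfl Lrfl
theorem f260153 : Led Lsl_dt (LP (LK LD1_c27 LD2_c34 LD3_c23)) = (LP (LK LD1_c32 LD2_c26 LD3_c39)) :=
  Lre_d IH (LK LD1_c27 LD2_c34 LD3_c23) (LK LD1_c32 LD2_c26 LD3_c39) Lrfl Lrfl
theorem f260154 : Led Lsl_bf (LP (LK LD1_c28 LD2_c9 LD3_c35)) = (LP (LK LD1_c32 LD2_c26 LD3_c39)) :=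
  Lgr Lrot93 (Lpr_dt (f260152 IH) (Lpr_bt (f260145 IH) (Lpr_dt (f260153 IH) (Lpn (LP (LK LD1_c32 LD2_c26 LD3_c39))))))
theorem f260157 : Led Lsl_bt (LP (LK LD1_c28 LD2_c9 LD3_c35)) = (LP (LK LD1_c32 LD2_c26 LD3_c39)) :=
  Lgr Lrot127 (Lpr_bf (f260154 IH) (Lpn (LP (LK LD1_c32 LD2_c26 LD3_c39))))
theorem f43652 : Led Lsl_bt (LP (LK LD1_c27 LD2_c35 LD3_c1)) = (LP (LK LD1_c17 LD2_c47 LD3_c60)) :=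
  Lre_b IH (LK LD1_c27 LD2_c35 LD3_c1) (LK LD1_c17 LD2_c47 LD3_c60) Lrfl Lrfl
theorem f43653 : Led Lsl_at (LP (LK LD1_c32 LD2_c26 LD3_c42)) = (LP (LK LD1_c27 LD2_c35 LD3_c1)) :=
  Lre_a IH (LK LD1_c32 LD2_c26 LD3_c42) (LK LD1_c27 LD2_c35 LD3_c1) Lrfl Lrfl
theorem f43655 : Led Lsl_at (LP (LK LD1_c27 LD2_c33 LD3_c20)) = (LP (LK LD1_c32 LD2_c26 LD3_c7)) :=
  Lre_a IH (LK LD1_c27 LD2_c33 LD3_c20) (LK LD1_c32 LD2_c26 LD3_c7) Lrfl Lrfl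
theorem f43656 : Led Lsl_bf (LP (LK LD1_c32 LD2_c26 LD3_c42)) = (LP (LK LD1_c32 LD2_c26 LD3_c7)) :=
  Lgr Lrot81 (Lpr_at (f43653 IH) (Lpr_bt (f43652 IH) (Lpr_at (K13.f43647 IH) (Lpr_bt (K13.f43654 IH) (Lpr_at (f43655 IH) (Lpn (LP (LK LD1_c32 LD2_c26 LD3_c7))))))))
theorem f582861 : Led Lsl_ef (LP (LK LD1_c28 LD2_c9 LD3_c35)) = (LP (LK LD1_c32 LD2_c26 LD3_c42)) :=
  Lgr Lrot29 (Lpr_bt (f260157 IH) (Lpr_et (f582859 IH) (Lpe (f43656 IH) (Lpn (LP (LK LD1_c32 LD2_c26 LD3_c42))))))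
theorem f260163 : Led Lsl_et (LP (LK LD1_c18 LD2_c35 LD3_c36)) = (LP (LK LD1_c10 LD2_c12 LD3_c38)) :=
  Lre_e IH (LK LD1_c18 LD2_c35 LD3_c36) (LK LD1_c10 LD2_c12 LD3_c38) Lrfl Lrfl
theorem f43717 : Led Lsl_dt (LP (LK LD1_c27 LD2_c34 LD3_c45)) = (LP (LK LD1_c32 LD2_c26 LD3_c42)) :=
  Lre_d IH (LK LD1_c27 LD2_c34 LD3_c45) (LK LD1_c32 LD2_c26 LD3_c42) Lrfl Lrfl
theorem f582865 : Led Lsl_dt (LP (LK LD1_c10 LD2_c12 LD3_c38)) = (LP (LK LD1_c17 LD2_c47 LD3_c37)) :=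
  Lgr Lrot77 (Lpe (f260163 IH) (Lpe (f260152 IH) (Lpr_ef (f582861 IH) (Lpe (f43717 IH) (Lpe (f43677 IH) (Lpn (LP (LK LD1_c17 LD2_c47 LD3_c37))))))))
theorem f43681 : Led Lsl_at (LP (LK LD1_c17 LD2_c47 LD3_c37)) = (LP (LK LD1_c9 LD2_c40 LD3_c28)) :=
  Lre_a IH (LK LD1_c17 LD2_c47 LD3_c37) (LK LD1_c9 LD2_c40 LD3_c28) Lrfl Lrfl
theorem f43701 : Led Lsl_bt (LP (LK LD1_c4 LD2_c54 LD3_c28)) = (LP (LK LD1_c9 LD2_c40 LD3_c28)) :=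
  Lre_b IH (LK LD1_c4 LD2_c54 LD3_c28) (LK LD1_c9 LD2_c40 LD3_c28) Lrfl Lrfl
theorem f544850 : Led Lsl_df (LP (LK LD1_c9 LD2_c57 LD3_c44)) = (LP (LK LD1_c9 LD2_c40 LD3_c28)) :=
  Lgr Lrot12 (Lpr_bt (K38.f544838 IH) (Lpr_dt (K14.f43567 IH) (Lpr_bt (f43701 IH) (Lpn (LP (LK LD1_c9 LD2_c40 LD3_c28))))))
theorem f582867 : Led Lsl_af (LP (LK LD1_c10 LD2_c12 LD3_c38)) = (LP (LK LD1_c9 LD2_c57 LD3_c44)) :=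
  Lgr Lrot117 (Lpr_dt (f582865 IH) (Lpr_at (f43681 IH) (Lpe (f544850 IH) (Lpn (LP (LK LD1_c9 LD2_c57 LD3_c44))))))
theorem f544852 : Led Lsl_et (LP (LK LD1_c18 LD2_c13 LD3_c48)) = (LP (LK LD1_c9 LD2_c57 LD3_c44)) :=
  Lre_e IH (LK LD1_c18 LD2_c13 LD3_c48) (LK LD1_c9 LD2_c57 LD3_c44) Lrfl Lrfl
theorem f582874 : Led Lsl_at (LP (LK LD1_c18 LD2_c35 LD3_c36)) = (LP (LK LD1_c18 LD2_c13 LD3_c48)) :=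
  Lgr Lrot80 (Lpe (f260144 IH) (Lpr_af (f582867 IH) (Lpe (f544852 IH) (Lpn (LP (LK LD1_c18 LD2_c13 LD3_c48))))))
theorem f260149 : Led Lsl_ct (LP (LK LD1_c10 LD2_c12 LD3_c39)) = (LP (LK LD1_c18 LD2_c35 LD3_c36)) :=
  Lre_c IH (LK LD1_c10 LD2_c12 LD3_c39) (LK LD1_c18 LD2_c35 LD3_c36) Lrfl Lrfl
theorem f582771 : Led Lsl_ct (LP (LK LD1_c18 LD2_c13 LD3_c48)) = (LP (LK LD1_c9 LD2_c57 LD3_c45)) :=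
  Lre_c IH (LK LD1_c18 LD2_c13 LD3_c48) (LK LD1_c9 LD2_c57 LD3_c45) Lrfl Lrfl
theorem f583422 : Led Lsl_af (LP (LK LD1_c10 LD2_c12 LD3_c39)) = (LP (LK LD1_c9 LD2_c57 LD3_c45)) :=
  Lgr Lrot68 (Lpr_ct (f260149 IH) (Lpr_at (f582874 IH) (Lpr_ct (f582771 IH) (Lpn (LP (LK LD1_c9 LD2_c57 LD3_c45))))))
theorem f583426 : Led Lsl_at (LP (LK LD1_c10 LD2_c12 LD3_c39)) = (LP (LK LD1_c9 LD2_c57 LD3_c45)) :=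
  Lgr Lrot100 (Lpr_af (f583422 IH) (Lpn (LP (LK LD1_c9 LD2_c57 LD3_c45))))
theorem f583429 : Led Lsl_et (LP (LK LD1_c5 LD2_c10 LD3_c60)) = (LP (LK LD1_c10 LD2_c12 LD3_c39)) :=
  Lre_e IH (LK LD1_c5 LD2_c10 LD3_c60) (LK LD1_c10 LD2_c12 LD3_c39) Lrfl Lrfl
theorem f405314 : Led Lsl_et (LP (LK LD1_c9 LD2_c57 LD3_c45)) = (LP (LK LD1_c5 LD2_c3 LD3_c24)) :=
  Lre_e IH (LK LD1_c9 LD2_c57 LD3_c45) (LK LD1_c5 LD2_c3 LD3_c24) Lrfl Lrfl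
theorem f583430 : Led Lsl_af (LP (LK LD1_c5 LD2_c10 LD3_c60)) = (LP (LK LD1_c5 LD2_c3 LD3_c24)) :=
  Lgr Lrot50 (Lpr_et (f583429 IH) (Lpr_at (f583426 IH) (Lpr_et (f405314 IH) (Lpn (LP (LK LD1_c5 LD2_c3 LD3_c24))))))
theorem f212439 : Led Lsl_gt (LP (LK LD1_c5 LD2_c10 LD3_c60)) = (LP (LK LD1_c2 LD2_c32 LD3_c29)) :=
  Lre_g IH (LK LD1_c5 LD2_c10 LD3_c60) (LK LD1_c2 LD2_c32 LD3_c29) Lrfl Lrfl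
theorem f343361 : Led Lsl_gt (LP (LK LD1_c5 LD2_c3 LD3_c26)) = (LP (LK LD1_c5 LD2_c10 LD3_c60)) :=
  Lgr Lrot5 (Lpr_ft (K37.f343342 IH) (Lpr_at (K37.f301744 IH) (Lpe (f212439 IH) (Lpn (LP (LK LD1_c5 LD2_c10 LD3_c60))))))
theorem f248956 : Led Lsl_at (LP (LK LD1_c2 LD2_c29 LD3_c14)) = (LP (LK LD1_c5 LD2_c3 LD3_c26)) :=
  Lre_a IH (LK LD1_c2 LD2_c29 LD3_c14) (LK LD1_c5 LD2_c3 LD3_c26) Lrfl Lrfl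
theorem f343352 : Led Lsl_ff (LP (LK LD1_c2 LD2_c29 LD3_c14)) = (LP (LK LD1_c2 LD2_c32 LD3_c29)) :=
  Lgr Lrot30 (Lpr_at (f248956 IH) (Lpr_ft (K37.f343342 IH) (Lpr_at (K37.f301744 IH) (Lpn (LP (LK LD1_c2 LD2_c32 LD3_c29))))))
theorem f165261 : Led Lsl_gt (LP (LK LD1_c2 LD2_c32 LD3_c29)) = (LP (LK LD1_c5 LD2_c10 LD3_c59)) :=
  Lre_g IH (LK LD1_c2 LD2_c32 LD3_c29) (LK LD1_c5 LD2_c10 LD3_c59) Lrfl Lrfl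
theorem f343600 : Led Lsl_gf (LP (LK LD1_c5 LD2_c3 LD3_c26)) = (LP (LK LD1_c5 LD2_c10 LD3_c59)) :=
  Lgr Lrot76 (Lpe (f248956 IH) (Lpr_ff (f343352 IH) (Lpr_gt (f165261 IH) (Lpn (LP (LK LD1_c5 LD2_c10 LD3_c59))))))
theorem f583432 : Led Lsl_ft (LP (LK LD1_c5 LD2_c10 LD3_c59)) = (LP (LK LD1_c5 LD2_c3 LD3_c24)) :=
  Lgr Lrot2 (Lpe (f343600 IH) (Lpr_gt (f343361 IH) (Lpr_af (f583430 IH) (Lpn (LP (LK LD1_c5 LD2_c3 LD3_c24))))))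
theorem f583438 : Led Lsl_ff (LP (LK LD1_c5 LD2_c10 LD3_c59)) = (LP (LK LD1_c5 LD2_c3 LD3_c24)) :=
  Lgr Lrot3 (Lpr_ft (f583432 IH) (Lpn (LP (LK LD1_c5 LD2_c3 LD3_c24))))
theorem f583444 : Led Lsl_at (LP (LK LD1_c5 LD2_c10 LD3_c59)) = (LP (LK LD1_c5 LD2_c3 LD3_c25)) :=
  Lgr Lrot26 (Lpr_ff (f583438 IH) (Lpe (K38.f405309 IH) (Lpe (K37.f343344 IH) (Lpn (LP (LK LD1_c5 LD2_c3 LD3_c25))))))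
theorem f405312 : Led Lsl_ct (LP (LK LD1_c5 LD2_c3 LD3_c24)) = (LP (LK LD1_c9 LD2_c57 LD3_c44)) :=
  Lre_c IH (LK LD1_c5 LD2_c3 LD3_c24) (LK LD1_c9 LD2_c57 LD3_c44) Lrfl Lrfl
theorem f582872 : Led Lsl_at (LP (LK LD1_c5 LD2_c10 LD3_c60)) = (LP (LK LD1_c5 LD2_c3 LD3_c24)) :=
  Lgr Lrot107 (Lpe (f212440 IH) (Lpr_af (f582867 IH) (Lpe (f405312 IH) (Lpn (LP (LK LD1_c5 LD2_c3 LD3_c24))))))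
theorem f583450 : Led Lsl_ff (LP (LK LD1_c5 LD2_c10 LD3_c60)) = (LP (LK LD1_c5 LD2_c3 LD3_c25)) :=
  Lgr Lrot30 (Lpr_at (f582872 IH) (Lpe (f583438 IH) (Lpr_at (f583444 IH) (Lpn (LP (LK LD1_c5 LD2_c3 LD3_c25))))))
theorem f583456 : Led Lsl_ft (LP (LK LD1_c5 LD2_c10 LD3_c60)) = (LP (LK LD1_c5 LD2_c3 LD3_c25)) :=
  Lgr Lrot48 (Lpr_ff (f583450 IH) (Lpn (LP (LK LD1_c5 LD2_c3 LD3_c25))))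
theorem f233695 : Led Lsl_ct (LP (LK LD1_c5 LD2_c3 LD3_c25)) = (LP (LK LD1_c9 LD2_c57 LD3_c47)) :=
  Lre_c IH (LK LD1_c5 LD2_c3 LD3_c25) (LK LD1_c9 LD2_c57 LD3_c47) Lrfl Lrfl
theorem f583460 : Led Lsl_ff (LP (LK LD1_c10 LD2_c12 LD3_c38)) = (LP (LK LD1_c9 LD2_c57 LD3_c47)) :=
  Lgr Lrot23 (Lpr_ct (f212440 IH) (Lpr_ft (f583456 IH) (Lpr_ct (f233695 IH) (Lpn (LP (LK LD1_c9 LD2_c57 LD3_c47))))))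
theorem f583466 : Led Lsl_dt (LP (LK LD1_c9 LD2_c40 LD3_c26)) = (LP (LK LD1_c9 LD2_c57 LD3_c47)) :=
  Lgr Lrot60 (Lpe (f43686 IH) (Lpe (f582865 IH) (Lpr_ff (f583460 IH) (Lpn (LP (LK LD1_c9 LD2_c57 LD3_c47))))))
theorem f583472 : Led Lsl_df (LP (LK LD1_c9 LD2_c40 LD3_c26)) = (LP (LK LD1_c9 LD2_c57 LD3_c47)) :=
  Lgr Lrot38 (Lpr_dt (f583466 IH) (Lpn (LP (LK LD1_c9 LD2_c57 LD3_c47))))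
theorem f233693 : Led Lsl_bt (LP (LK LD1_c17 LD2_c46 LD3_c21)) = (LP (LK LD1_c9 LD2_c57 LD3_c47)) :=
  Lgr Lrot127 (Lpr_bf (K37.f233691 IH) (Lpn (LP (LK LD1_c9 LD2_c57 LD3_c47))))
theorem f583507 : Led Lsl_dt (LP (LK LD1_c9 LD2_c39 LD3_c53)) = (LP (LK LD1_c17 LD2_c46 LD3_c21)) :=
  Lgr Lrot79 (Lpe (f43688 IH) (Lpr_df (f583472 IH) (Lpe (f233693 IH) (Lpn (LP (LK LD1_c17 LD2_c46 LD3_c21))))))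
theorem f43707 : Led Lsl_ft (LP (LK LD1_c17 LD2_c46 LD3_c27)) = (LP (LK LD1_c9 LD2_c39 LD3_c53)) :=
  Lre_f IH (LK LD1_c17 LD2_c46 LD3_c27) (LK LD1_c9 LD2_c39 LD3_c53) Lrfl Lrfl
theorem f583511 : Led Lsl_ff (LP (LK LD1_c17 LD2_c47 LD3_c22)) = (LP (LK LD1_c17 LD2_c46 LD3_c21)) :=
  Lgr Lrot19 (Lpr_dt (f582849 IH) (Lpr_ft (f43707 IH) (Lpr_dt (f583507 IH) (Lpn (LP (LK LD1_c17 LD2_c46 LD3_c21))))))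
theorem f294554 : Led Lsl_gt (LP (LK LD1_c17 LD2_c46 LD3_c22)) = (LP (LK LD1_c9 LD2_c39 LD3_c48)) :=
  Lre_g IH (LK LD1_c17 LD2_c46 LD3_c22) (LK LD1_c9 LD2_c39 LD3_c48) Lrfl Lrfl
theorem f294555 : Led Lsl_gf (LP (LK LD1_c17 LD2_c46 LD3_c22)) = (LP (LK LD1_c17 LD2_c47 LD3_c23)) :=
  Lgr Lrot47 (Lpr_gt (f294554 IH) (Lpe (K37.f294544 IH) (Lpr_ff (K37.f294545 IH) (Lpn (LP (LK LD1_c17 LD2_c47 LD3_c23))))))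
theorem f583513 : Led Lsl_at (LP (LK LD1_c17 LD2_c47 LD3_c22)) = (LP (LK LD1_c17 LD2_c46 LD3_c22)) :=
  Lgr Lrot26 (Lpr_ff (f583511 IH) (Lpr_gt (K37.f294547 IH) (Lpe (f294555 IH) (Lpn (LP (LK LD1_c17 LD2_c46 LD3_c22))))))
theorem f413143 : Led Lsl_et (LP (LK LD1_c17 LD2_c46 LD3_c22)) = (LP (LK LD1_c27 LD2_c33 LD3_c1)) :=
  Lre_e IH (LK LD1_c17 LD2_c46 LD3_c22) (LK LD1_c27 LD2_c33 LD3_c1) Lrfl Lrfl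
theorem f583523 : Led Lsl_af (LP (LK LD1_c27 LD2_c34 LD3_c23)) = (LP (LK LD1_c27 LD2_c33 LD3_c1)) :=
  Lgr Lrot50 (Lpr_et (f260142 IH) (Lpr_at (f583513 IH) (Lpr_et (f413143 IH) (Lpn (LP (LK LD1_c27 LD2_c33 LD3_c1))))))
theorem f583529 : Led Lsl_dt (LP (LK LD1_c32 LD2_c26 LD3_c4)) = (LP (LK LD1_c27 LD2_c33 LD3_c1)) :=
  Lre_d IH (LK LD1_c32 LD2_c26 LD3_c4) (LK LD1_c27 LD2_c33 LD3_c1) Lrfl Lrfl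
theorem f583530 : Led Lsl_at (LP (LK LD1_c32 LD2_c26 LD3_c39)) = (LP (LK LD1_c32 LD2_c26 LD3_c4)) :=
  Lgr Lrot51 (Lpe (f260153 IH) (Lpr_af (f583523 IH) (Lpe (f583529 IH) (Lpn (LP (LK LD1_c32 LD2_c26 LD3_c4))))))
theorem f583536 : Led Lsl_ef (LP (LK LD1_c27 LD2_c33 LD3_c20)) = (LP (LK LD1_c32 LD2_c26 LD3_c4)) :=
  Lgr Lrot20 (Lpr_at (f43655 IH) (Lpe (f582855 IH) (Lpr_at (f583530 IH) (Lpn (LP (LK LD1_c32 LD2_c26 LD3_c4))))))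
theorem f44439 : Led Lsl_et (LP (LK LD1_c17 LD2_c46 LD3_c38)) = (LP (LK LD1_c9 LD2_c39 LD3_c55)) :=
  Lre_e IH (LK LD1_c17 LD2_c46 LD3_c38) (LK LD1_c9 LD2_c39 LD3_c55) Lrfl Lrfl
theorem f294559 : Led Lsl_dt (LP (LK LD1_c27 LD2_c33 LD3_c1)) = (LP (LK LD1_c32 LD2_c26 LD3_c4)) :=
  Lre_d IH (LK LD1_c27 LD2_c33 LD3_c1) (LK LD1_c32 LD2_c26 LD3_c4) Lrfl Lrfl
theorem f583540 : Led Lsl_dt (LP (LK LD1_c9 LD2_c39 LD3_c55)) = (LP (LK LD1_c17 LD2_c46 LD3_c22)) :=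
  Lgr Lrot77 (Lpe (f44439 IH) (Lpe (K13.f214427 IH) (Lpr_ef (f583536 IH) (Lpe (f294559 IH) (Lpe (f413143 IH) (Lpn (LP (LK LD1_c17 LD2_c46 LD3_c22))))))))
theorem f44436 : Led Lsl_dt (LP (LK LD1_c9 LD2_c39 LD3_c54)) = (LP (LK LD1_c4 LD2_c54 LD3_c11)) :=
  Lre_d IH (LK LD1_c9 LD2_c39 LD3_c54) (LK LD1_c4 LD2_c54 LD3_c11) Lrfl Lrfl
theorem f583545 : Led Lsl_ff (LP (LK LD1_c9 LD2_c39 LD3_c54)) = (LP (LK LD1_c17 LD2_c46 LD3_c22)) :=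
  Lgr Lrot19 (Lpr_dt (f44436 IH) (Lpr_ft (K13.f44374 IH) (Lpr_dt (f583540 IH) (Lpn (LP (LK LD1_c17 LD2_c46 LD3_c22))))))
theorem f583551 : Led Lsl_ft (LP (LK LD1_c9 LD2_c39 LD3_c54)) = (LP (LK LD1_c17 LD2_c46 LD3_c22)) :=
  Lgr Lrot48 (Lpr_ff (f583545 IH) (Lpn (LP (LK LD1_c17 LD2_c46 LD3_c22))))
theorem f351157 : Led Lsl_bt (LP (LK LD1_c15 LD2_c11 LD3_c43)) = (LP (LK LD1_c10 LD2_c8 LD3_c41)) :=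
  Lgr Lrot35 (Lpr_ff (K37.f350939 IH) (Lpe (K18.f287174 IH) (Lpr_ff (K37.f351155 IH) (Lpn (LP (LK LD1_c10 LD2_c8 LD3_c41))))))
theorem f287196 : Led Lsl_ft (LP (LK LD1_c8 LD2_c4 LD3_c10)) = (LP (LK LD1_c5 LD2_c9 LD3_c3)) :=
  Lgr Lrot75 (Lpe (K18.f258951 IH) (Lpr_ff (K17.f287194 IH) (Lpe (K37.f190446 IH) (Lpn (LP (LK LD1_c5 LD2_c9 LD3_c3))))))
theorem f259034 : Led Lsl_gt (LP (LK LD1_c8 LD2_c4 LD3_c10)) = (LP (LK LD1_c15 LD2_c11 LD3_c26)) :=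
  Lre_g IH (LK LD1_c8 LD2_c4 LD3_c10) (LK LD1_c15 LD2_c11 LD3_c26) Lrfl Lrfl
theorem f408555 : Led Lsl_gt (LP (LK LD1_c15 LD2_c11 LD3_c26)) = (LP (LK LD1_c10 LD2_c8 LD3_c41)) :=
  Lgr Lrot46 (Lpe (f259034 IH) (Lpr_ft (f287196 IH) (Lpr_at (K37.f287141 IH) (Lpn (LP (LK LD1_c10 LD2_c8 LD3_c41))))))
theorem f408557 : Led Lsl_bt (LP (LK LD1_c25 LD2_c0 LD3_c32)) = (LP (LK LD1_c15 LD2_c11 LD3_c26)) :=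
  Lre_b IH (LK LD1_c25 LD2_c0 LD3_c32) (LK LD1_c15 LD2_c11 LD3_c26) Lrfl Lrfl
theorem f413125 : Led Lsl_ct (LP (LK LD1_c25 LD2_c0 LD3_c32)) = (LP (LK LD1_c17 LD2_c46 LD3_c22)) :=
  Lgr Lrot63 (Lpr_bt (f408557 IH) (Lpr_gt (f408555 IH) (Lpe (f351157 IH) (Lpe (K37.f180863 IH) (Lpr_gt (K37.f351122 IH) (Lpe (K37.f229107 IH) (Lpr_bt (K37.f229106 IH) (Lpr_gt (K37.f413122 IH) (Lpe (K37.f260035 IH) (Lpe (f294555 IH) (Lpn (LP (LK LD1_c17 LD2_c46 LD3_c22)))))))))))))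
theorem f413141 : Led Lsl_cf (LP (LK LD1_c25 LD2_c0 LD3_c32)) = (LP (LK LD1_c17 LD2_c46 LD3_c22)) :=
  Lgr Lrot11 (Lpr_ct (f413125 IH) (Lpn (LP (LK LD1_c17 LD2_c46 LD3_c22))))
theorem f583553 : Led Lsl_ff (LP (LK LD1_c17 LD2_c46 LD3_c36)) = (LP (LK LD1_c25 LD2_c0 LD3_c32)) :=
  Lgr Lrot23 (Lpr_ct (K37.f402972 IH) (Lpr_ft (f583551 IH) (Lpe (f413141 IH) (Lpn (LP (LK LD1_c25 LD2_c0 LD3_c32))))))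
theorem f413140 : Led Lsl_bt (LP (LK LD1_c15 LD2_c11 LD3_c26)) = (LP (LK LD1_c25 LD2_c0 LD3_c32)) :=
  Lre_b IH (LK LD1_c15 LD2_c11 LD3_c26) (LK LD1_c25 LD2_c0 LD3_c32) Lrfl Lrfl
theorem f583555 : Led Lsl_ft (LP (LK LD1_c10 LD2_c8 LD3_c39)) = (LP (LK LD1_c15 LD2_c11 LD3_c26)) :=
  Lgr Lrot75 (Lpr_bf (K37.f544754 IH) (Lpr_ff (f583553 IH) (Lpe (f413140 IH) (Lpn (LP (LK LD1_c15 LD2_c11 LD3_c26))))))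
theorem f240074 : Led Lsl_gt (LP (LK LD1_c10 LD2_c8 LD3_c40)) = (LP (LK LD1_c5 LD2_c9 LD3_c3)) :=
  Lre_g IH (LK LD1_c10 LD2_c8 LD3_c40) (LK LD1_c5 LD2_c9 LD3_c3) Lrfl Lrfl
theorem f351198 : Led Lsl_gt (LP (LK LD1_c15 LD2_c11 LD3_c28)) = (LP (LK LD1_c10 LD2_c8 LD3_c40)) :=
  Lgr Lrot5 (Lpr_ft (K37.f351149 IH) (Lpr_at (K37.f321809 IH) (Lpe (f240074 IH) (Lpn (LP (LK LD1_c10 LD2_c8 LD3_c40))))))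
theorem f583559 : Led Lsl_af (LP (LK LD1_c10 LD2_c8 LD3_c40)) = (LP (LK LD1_c15 LD2_c11 LD3_c26)) :=
  Lgr Lrot31 (Lpe (f351198 IH) (Lpr_gf (K37.f408558 IH) (Lpr_ft (f583555 IH) (Lpn (LP (LK LD1_c15 LD2_c11 LD3_c26))))))
theorem f583561 : Led Lsl_at (LP (LK LD1_c10 LD2_c8 LD3_c40)) = (LP (LK LD1_c15 LD2_c11 LD3_c26)) :=
  Lgr Lrot100 (Lpr_af (f583559 IH) (Lpn (LP (LK LD1_c15 LD2_c11 LD3_c26))))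
theorem f583566 : Led Lsl_ff (LP (LK LD1_c10 LD2_c8 LD3_c40)) = (LP (LK LD1_c15 LD2_c11 LD3_c27)) :=
  Lgr Lrot52 (Lpr_at (f583561 IH) (Lpe (f259034 IH) (Lpe (K37.f259036 IH) (Lpn (LP (LK LD1_c15 LD2_c11 LD3_c27))))))
theorem f583570 : Led Lsl_ft (LP (LK LD1_c10 LD2_c8 LD3_c40)) = (LP (LK LD1_c15 LD2_c11 LD3_c27)) :=
  Lgr Lrot48 (Lpr_ff (f583566 IH) (Lpn (LP (LK LD1_c15 LD2_c11 LD3_c27))))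
theorem f583572 : Led Lsl_af (LP (LK LD1_c10 LD2_c8 LD3_c39)) = (LP (LK LD1_c15 LD2_c11 LD3_c27)) :=
  Lgr Lrot45 (Lpr_ft (f583555 IH) (Lpe (f583559 IH) (Lpr_ft (f583570 IH) (Lpn (LP (LK LD1_c15 LD2_c11 LD3_c27))))))
theorem f583574 : Led Lsl_at (LP (LK LD1_c17 LD2_c46 LD3_c42)) = (LP (LK LD1_c18 LD2_c15 LD3_c52)) :=
  Lgr Lrot107 (Lpe (K37.f544758 IH) (Lpr_af (f583572 IH) (Lpr_cf (K37.f259057 IH) (Lpn (LP (LK LD1_c18 LD2_c15 LD3_c52))))))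
theorem f421697 : Led Lsl_dt (LP (LK LD1_c10 LD2_c22 LD3_c24)) = (LP (LK LD1_c17 LD2_c46 LD3_c42)) :=
  Lgr Lrot79 (Lpe (f184083 IH) (Lpr_df (K14.f184095 IH) (Lpe (K37.f43754 IH) (Lpn (LP (LK LD1_c17 LD2_c46 LD3_c42))))))
theorem f214574 : Led Lsl_at (LP (LK LD1_c18 LD2_c49 LD3_c30)) = (LP (LK LD1_c10 LD2_c22 LD3_c24)) :=
  Lre_a IH (LK LD1_c18 LD2_c49 LD3_c30) (LK LD1_c10 LD2_c22 LD3_c24) Lrfl Lrfl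
theorem f583578 : Led Lsl_df (LP (LK LD1_c18 LD2_c49 LD3_c30)) = (LP (LK LD1_c18 LD2_c15 LD3_c52)) :=
  Lgr Lrot18 (Lpr_at (f214574 IH) (Lpr_dt (f421697 IH) (Lpr_at (f583574 IH) (Lpn (LP (LK LD1_c18 LD2_c15 LD3_c52))))))
theorem f583582 : Led Lsl_dt (LP (LK LD1_c18 LD2_c49 LD3_c30)) = (LP (LK LD1_c18 LD2_c15 LD3_c52)) :=
  Lgr Lrot42 (Lpr_df (f583578 IH) (Lpn (LP (LK LD1_c18 LD2_c15 LD3_c52))))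
theorem f166000 : Led Lsl_dt (LP (LK LD1_c9 LD2_c59 LD3_c23)) = (LP (LK LD1_c18 LD2_c15 LD3_c53)) :=
  Lre_d IH (LK LD1_c9 LD2_c59 LD3_c23) (LK LD1_c18 LD2_c15 LD3_c53) Lrfl Lrfl
theorem f583584 : Led Lsl_bf (LP (LK LD1_c18 LD2_c49 LD3_c30)) = (LP (LK LD1_c18 LD2_c15 LD3_c53)) :=
  Lgr Lrot93 (Lpr_dt (f583582 IH) (Lpr_bt (K37.f166002 IH) (Lpr_dt (f166000 IH) (Lpn (LP (LK LD1_c18 LD2_c15 LD3_c53))))))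
theorem f214261 : Led Lsl_bt (LP (LK LD1_c18 LD2_c30 LD3_c33)) = (LP (LK LD1_c10 LD2_c9 LD3_c39)) :=
  Lre_b IH (LK LD1_c18 LD2_c30 LD3_c33) (LK LD1_c10 LD2_c9 LD3_c39) Lrfl Lrfl
theorem f191646 : Led Lsl_bt (LP (LK LD1_c10 LD2_c22 LD3_c25)) = (LP (LK LD1_c18 LD2_c49 LD3_c31)) :=
  Lre_b IH (LK LD1_c10 LD2_c22 LD3_c25) (LK LD1_c18 LD2_c49 LD3_c31) Lrfl Lrfl
theorem f214549 : Led Lsl_cf (LP (LK LD1_c18 LD2_c30 LD3_c33)) = (LP (LK LD1_c18 LD2_c49 LD3_c31)) :=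
  Lgr Lrot97 (Lpr_bt (f214261 IH) (Lpr_ct (K12.f214117 IH) (Lpr_bt (K15.f214543 IH) (Lpe (K21.f191654 IH) (Lpr_bt (f191646 IH) (Lpn (LP (LK LD1_c18 LD2_c49 LD3_c31))))))))
theorem f214566 : Led Lsl_et (LP (LK LD1_c10 LD2_c22 LD3_c24)) = (LP (LK LD1_c18 LD2_c49 LD3_c31)) :=
  Lre_e IH (LK LD1_c10 LD2_c22 LD3_c24) (LK LD1_c18 LD2_c49 LD3_c31) Lrfl Lrfl
theorem f214567 : Led Lsl_ct (LP (LK LD1_c10 LD2_c9 LD3_c37)) = (LP (LK LD1_c10 LD2_c22 LD3_c24)) :=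
  Lgr Lrot15 (Lpe (K13.f214434 IH) (Lpr_cf (f214549 IH) (Lpe (f214566 IH) (Lpn (LP (LK LD1_c10 LD2_c22 LD3_c24))))))
theorem f214572 : Led Lsl_ff (LP (LK LD1_c9 LD2_c40 LD3_c4)) = (LP (LK LD1_c10 LD2_c22 LD3_c24)) :=
  Lgr Lrot23 (Lpr_ct (K12.f31487 IH) (Lpe (K13.f214444 IH) (Lpr_ct (f214567 IH) (Lpn (LP (LK LD1_c10 LD2_c22 LD3_c24))))))
theorem f214576 : Led Lsl_ft (LP (LK LD1_c17 LD2_c46 LD3_c59)) = (LP (LK LD1_c18 LD2_c49 LD3_c30)) :=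
  Lgr Lrot101 (Lpe (f31483 IH) (Lpr_ff (f214572 IH) (Lpe (f214574 IH) (Lpn (LP (LK LD1_c18 LD2_c49 LD3_c30))))))
theorem f214579 : Led Lsl_ff (LP (LK LD1_c17 LD2_c46 LD3_c59)) = (LP (LK LD1_c18 LD2_c49 LD3_c30)) :=
  Lgr Lrot3 (Lpr_ft (f214576 IH) (Lpn (LP (LK LD1_c18 LD2_c49 LD3_c30))))
theorem f583590 : Led Lsl_ft (LP (LK LD1_c17 LD2_c45 LD3_c49)) = (LP (LK LD1_c18 LD2_c15 LD3_c53)) :=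
  Lgr Lrot75 (Lpr_bf (f43540 IH) (Lpr_ff (f214579 IH) (Lpr_bf (f583584 IH) (Lpn (LP (LK LD1_c18 LD2_c15 LD3_c53))))))
theorem f49965 : Led Lsl_ft (LP (LK LD1_c25 LD2_c25 LD3_c34)) = (LP (LK LD1_c15 LD2_c32 LD3_c14)) :=
  Lre_f IH (LK LD1_c25 LD2_c25 LD3_c34) (LK LD1_c15 LD2_c32 LD3_c14) Lrfl Lrfl
theorem f583594 : Led Lsl_cf (LP (LK LD1_c25 LD2_c25 LD3_c34)) = (LP (LK LD1_c18 LD2_c15 LD3_c53)) :=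
  Lgr Lrot108 (Lpr_ft (f49965 IH) (Lpe (f51316 IH) (Lpr_ft (f583590 IH) (Lpn (LP (LK LD1_c18 LD2_c15 LD3_c53))))))
theorem f49960 : Led Lsl_ft (LP (LK LD1_c15 LD2_c32 LD3_c14)) = (LP (LK LD1_c25 LD2_c25 LD3_c34)) :=
  Lre_f IH (LK LD1_c15 LD2_c32 LD3_c14) (LK LD1_c25 LD2_c25 LD3_c34) Lrfl Lrfl
theorem f188473 : Led Lsl_bf (LP (LK LD1_c18 LD2_c54 LD3_c19)) = (LP (LK LD1_c25 LD2_c25 LD3_c34)) :=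
  Lgr Lrot61 (Lpr_ft (K13.f188466 IH) (Lpr_bt (K13.f49962 IH) (Lpr_ft (f49960 IH) (Lpn (LP (LK LD1_c25 LD2_c25 LD3_c34))))))
theorem f45046 : Led Lsl_gt (LP (LK LD1_c15 LD2_c31 LD3_c1)) = (LP (LK LD1_c8 LD2_c15 LD3_c8)) :=
  Lre_g IH (LK LD1_c15 LD2_c31 LD3_c1) (LK LD1_c8 LD2_c15 LD3_c8) Lrfl Lrfl
theorem f188475 : Led Lsl_gt (LP (LK LD1_c18 LD2_c54 LD3_c19)) = (LP (LK LD1_c15 LD2_c31 LD3_c1)) :=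
  Lgr Lrot5 (Lpr_ft (K13.f188466 IH) (Lpr_at (K13.f45047 IH) (Lpe (f45046 IH) (Lpn (LP (LK LD1_c15 LD2_c31 LD3_c1))))))
theorem f51314 : Led Lsl_dt (LP (LK LD1_c15 LD2_c31 LD3_c1)) = (LP (LK LD1_c25 LD2_c24 LD3_c2)) :=
  Lre_d IH (LK LD1_c15 LD2_c31 LD3_c1) (LK LD1_c25 LD2_c24 LD3_c2) Lrfl Lrfl
theorem f265990 : Led Lsl_gt (LP (LK LD1_c4 LD2_c2 LD3_c33)) = (LP (LK LD1_c5 LD2_c15 LD3_c11)) :=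
  Lgr Lrot9 (Lpe (K17.f45885 IH) (Lpr_gt (K17.f45871 IH) (Lpr_ct (K1.f45867 IH) (Lpe (K9.f184614 IH) (Lpr_ct (K10.f3741 IH) (Lpe (K15.f3687 IH) (Lpe (K14.f184759 IH) (Lpe (K15.f184760 IH) (Lpr_cf (K22.f265987 IH) (Lpn (LP (LK LD1_c5 LD2_c15 LD3_c11))))))))))))
theorem f265995 : Led Lsl_bt (LP (LK LD1_c5 LD2_c17 LD3_c38)) = (LP (LK LD1_c5 LD2_c15 LD3_c11)) :=
  Lgr Lrot127 (Lpr_bf (K22.f265993 IH) (Lpn (LP (LK LD1_c5 LD2_c15 LD3_c11))))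
theorem f278622 : Led Lsl_bf (LP (LK LD1_c4 LD2_c2 LD3_c33)) = (LP (LK LD1_c4 LD2_c27 LD3_c8)) :=
  Lgr Lrot156 (Lpr_gt (f265990 IH) (Lpe (f265995 IH) (Lpe (K15.f257046 IH) (Lpe (K15.f257042 IH) (Lpe (K15.f50754 IH) (Lpe (K16.f278561 IH) (Lpr_gt (K16.f278609 IH) (Lpr_ct (K17.f192127 IH) (Lpe (K16.f214942 IH) (Lpe (K14.f46488 IH) (Lpn (LP (LK LD1_c4 LD2_c27 LD3_c8)))))))))))))
theorem f583632 : Led Lsl_ct (LP (LK LD1_c25 LD2_c24 LD3_c2)) = (LP (LK LD1_c18 LD2_c11 LD3_c17)) :=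
  Lgr Lrot191 (Lpe (f51314 IH) (Lpe (f188475 IH) (Lpr_bf (f188473 IH) (Lpr_cf (f583594 IH) (Lpe (f166000 IH) (Lpe (K37.f165411 IH) (Lpe (K19.f165986 IH) (Lpe (K9.f32858 IH) (Lpe (K10.f169380 IH) (Lpe (K14.f169404 IH) (Lpe (K22.f169408 IH) (Lpr_cf (K22.f338265 IH) (Lpe (K22.f330306 IH) (Lpe (f265990 IH) (Lpr_bf (f278622 IH) (Lpe (K14.f46489 IH) (Lpr_df (K14.f214918 IH) (Lpe (K14.f214334 IH) (Lpe (K13.f214206 IH) (Lpn (LP (LK LD1_c18 LD2_c11 LD3_c17))))))))))))))))))))))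
theorem f214238 : Led Lsl_bt (LP (LK LD1_c9 LD2_c56 LD3_c24)) = (LP (LK LD1_c18 LD2_c11 LD3_c17)) :=
  Lre_b IH (LK LD1_c9 LD2_c56 LD3_c24) (LK LD1_c18 LD2_c11 LD3_c17) Lrfl Lrfl
theorem f214322 : Led Lsl_ft (LP (LK LD1_c18 LD2_c11 LD3_c17)) = (LP (LK LD1_c15 LD2_c0 LD3_c51)) :=
  Lgr Lrot75 (Lpe (f214238 IH) (Lpr_ff (K12.f214316 IH) (Lpe (K13.f43865 IH) (Lpn (LP (LK LD1_c15 LD2_c0 LD3_c51))))))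
theorem f51310 : Led Lsl_ct (LP (LK LD1_c15 LD2_c0 LD3_c51)) = (LP (LK LD1_c24 LD2_c48 LD3_c28)) :=
  Lre_c IH (LK LD1_c15 LD2_c0 LD3_c51) (LK LD1_c24 LD2_c48 LD3_c28) Lrfl Lrfl
theorem f583638 : Led Lsl_ff (LP (LK LD1_c25 LD2_c24 LD3_c2)) = (LP (LK LD1_c24 LD2_c48 LD3_c28)) :=
  Lgr Lrot23 (Lpr_ct (f583632 IH) (Lpr_ft (f214322 IH) (Lpr_ct (f51310 IH) (Lpn (LP (LK LD1_c24 LD2_c48 LD3_c28))))))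
theorem f215651 : Led Lsl_bt (LP (LK LD1_c31 LD2_c39 LD3_c32)) = (LP (LK LD1_c24 LD2_c48 LD3_c28)) :=
  Lre_b IH (LK LD1_c31 LD2_c39 LD3_c32) (LK LD1_c24 LD2_c48 LD3_c28) Lrfl Lrfl
theorem f215626 : Led Lsl_bt (LP (LK LD1_c24 LD2_c48 LD3_c29)) = (LP (LK LD1_c15 LD2_c0 LD3_c52)) :=
  Lre_b IH (LK LD1_c24 LD2_c48 LD3_c29) (LK LD1_c15 LD2_c0 LD3_c52) Lrfl Lrfl
theorem f214792 : Led Lsl_bt (LP (LK LD1_c10 LD2_c33 LD3_c29)) = (LP (LK LD1_c19 LD2_c7 LD3_c19)) :=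
  Lre_b IH (LK LD1_c10 LD2_c33 LD3_c29) (LK LD1_c19 LD2_c7 LD3_c19) Lrfl Lrfl
theorem f215627 : Led Lsl_ff (LP (LK LD1_c24 LD2_c48 LD3_c29)) = (LP (LK LD1_c19 LD2_c7 LD3_c19)) :=
  Lgr Lrot25 (Lpr_bt (f215626 IH) (Lpr_ft (K15.f215624 IH) (Lpr_bt (f214792 IH) (Lpn (LP (LK LD1_c19 LD2_c7 LD3_c19))))))
theorem f215638 : Led Lsl_ft (LP (LK LD1_c24 LD2_c48 LD3_c29)) = (LP (LK LD1_c19 LD2_c7 LD3_c19)) :=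
  Lgr Lrot48 (Lpr_ff (f215627 IH) (Lpn (LP (LK LD1_c19 LD2_c7 LD3_c19))))
theorem f215644 : Led Lsl_ct (LP (LK LD1_c31 LD2_c39 LD3_c32)) = (LP (LK LD1_c24 LD2_c48 LD3_c29)) :=
  Lre_c IH (LK LD1_c31 LD2_c39 LD3_c32) (LK LD1_c24 LD2_c48 LD3_c29) Lrfl Lrfl
theorem f215645 : Led Lsl_ct (LP (LK LD1_c19 LD2_c7 LD3_c19)) = (LP (LK LD1_c28 LD2_c32 LD3_c51)) :=
  Lre_c IH (LK LD1_c19 LD2_c7 LD3_c19) (LK LD1_c28 LD2_c32 LD3_c51) Lrfl Lrfl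
theorem f215646 : Led Lsl_ff (LP (LK LD1_c31 LD2_c39 LD3_c32)) = (LP (LK LD1_c28 LD2_c32 LD3_c51)) :=
  Lgr Lrot23 (Lpr_ct (f215644 IH) (Lpr_ft (f215638 IH) (Lpr_ct (f215645 IH) (Lpn (LP (LK LD1_c28 LD2_c32 LD3_c51))))))
theorem f583640 : Led Lsl_bt (LP (LK LD1_c25 LD2_c24 LD3_c2)) = (LP (LK LD1_c28 LD2_c32 LD3_c51)) :=
  Lgr Lrot35 (Lpr_ff (f583638 IH) (Lpe (f215651 IH) (Lpr_ff (f215646 IH) (Lpn (LP (LK LD1_c28 LD2_c32 LD3_c51))))))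
theorem f51315 : Led Lsl_bt (LP (LK LD1_c25 LD2_c24 LD3_c0)) = (LP (LK LD1_c15 LD2_c31 LD3_c1)) :=
  Lre_b IH (LK LD1_c25 LD2_c24 LD3_c0) (LK LD1_c15 LD2_c31 LD3_c1) Lrfl Lrfl
theorem f583644 : Led Lsl_df (LP (LK LD1_c25 LD2_c24 LD3_c0)) = (LP (LK LD1_c28 LD2_c32 LD3_c51)) :=
  Lgr Lrot12 (Lpr_bt (f51315 IH) (Lpr_dt (f51314 IH) (Lpr_bt (f583640 IH) (Lpn (LP (LK LD1_c28 LD2_c32 LD3_c51))))))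
theorem f45051 : Led Lsl_bt (LP (LK LD1_c4 LD2_c7 LD3_c35)) = (LP (LK LD1_c8 LD2_c15 LD3_c8)) :=
  Lre_b IH (LK LD1_c4 LD2_c7 LD3_c35) (LK LD1_c8 LD2_c15 LD3_c8) Lrfl Lrfl
theorem f214643 : Led Lsl_ct (LP (LK LD1_c10 LD2_c25 LD3_c44)) = (LP (LK LD1_c18 LD2_c54 LD3_c54)) :=
  Lre_c IH (LK LD1_c10 LD2_c25 LD3_c44) (LK LD1_c18 LD2_c54 LD3_c54) Lrfl Lrfl
theorem f214644 : Led Lsl_gt (LP (LK LD1_c18 LD2_c54 LD3_c54)) = (LP (LK LD1_c28 LD2_c22 LD3_c48)) :=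
  Lre_g IH (LK LD1_c18 LD2_c54 LD3_c54) (LK LD1_c28 LD2_c22 LD3_c48) Lrfl Lrfl
theorem f214645 : Led Lsl_ct (LP (LK LD1_c25 LD2_c24 LD3_c0)) = (LP (LK LD1_c28 LD2_c22 LD3_c48)) :=
  Lgr Lrot63 (Lpr_bt (f51315 IH) (Lpr_gt (f45046 IH) (Lpe (f45051 IH) (Lpr_ct (K12.f44976 IH) (Lpr_gt (K13.f45010 IH) (Lpr_cf (K13.f214615 IH) (Lpr_bt (K22.f214637 IH) (Lpr_gt (K37.f214640 IH) (Lpr_ct (f214643 IH) (Lpr_gt (f214644 IH) (Lpn (LP (LK LD1_c28 LD2_c22 LD3_c48)))))))))))))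
theorem f214647 : Led Lsl_cf (LP (LK LD1_c25 LD2_c24 LD3_c0)) = (LP (LK LD1_c28 LD2_c22 LD3_c48)) :=
  Lgr Lrot11 (Lpr_ct (f214645 IH) (Lpn (LP (LK LD1_c28 LD2_c22 LD3_c48))))
theorem f191502 : Led Lsl_gt (LP (LK LD1_c10 LD2_c25 LD3_c47)) = (LP (LK LD1_c18 LD2_c55 LD3_c0)) :=
  Lre_g IH (LK LD1_c10 LD2_c25 LD3_c47) (LK LD1_c18 LD2_c55 LD3_c0) Lrfl Lrfl
theorem f191503 : Led Lsl_ct (LP (LK LD1_c18 LD2_c55 LD3_c0)) = (LP (LK LD1_c28 LD2_c22 LD3_c55)) :=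
  Lre_c IH (LK LD1_c18 LD2_c55 LD3_c0) (LK LD1_c28 LD2_c22 LD3_c55) Lrfl Lrfl
theorem f583648 : Led Lsl_gt (LP (LK LD1_c28 LD2_c22 LD3_c55)) = (LP (LK LD1_c19 LD2_c7 LD3_c19)) :=
  Lgr Lrot150 (Lpe (f191503 IH) (Lpe (f191502 IH) (Lpe (K20.f214650 IH) (Lpr_gt (K37.f214640 IH) (Lpr_ct (f214643 IH) (Lpr_gt (f214644 IH) (Lpe (f214647 IH) (Lpr_df (f583644 IH) (Lpe (f215645 IH) (Lpn (LP (LK LD1_c19 LD2_c7 LD3_c19))))))))))))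
theorem f284884 : Led Lsl_bt (LP (LK LD1_c10 LD2_c24 LD3_c38)) = (LP (LK LD1_c18 LD2_c53 LD3_c12)) :=
  Lre_b IH (LK LD1_c10 LD2_c24 LD3_c38) (LK LD1_c18 LD2_c53 LD3_c12) Lrfl Lrfl
theorem f215620 : Led Lsl_ct (LP (LK LD1_c28 LD2_c32 LD3_c51)) = (LP (LK LD1_c19 LD2_c7 LD3_c19)) :=
  Lre_c IH (LK LD1_c28 LD2_c32 LD3_c51) (LK LD1_c19 LD2_c7 LD3_c19) Lrfl Lrfl
theorem f583634 : Led Lsl_bf (LP (LK LD1_c25 LD2_c24 LD3_c2)) = (LP (LK LD1_c28 LD2_c32 LD3_c51)) :=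
  Lgr Lrot90 (Lpr_ct (f583632 IH) (Lpr_bt (K13.f214206 IH) (Lpr_ct (K14.f214308 IH) (Lpr_bt (f214792 IH) (Lpr_ct (f215645 IH) (Lpn (LP (LK LD1_c28 LD2_c32 LD3_c51))))))))
theorem f583653 : Led Lsl_gf (LP (LK LD1_c18 LD2_c53 LD3_c12)) = (LP (LK LD1_c25 LD2_c24 LD3_c2)) :=
  Lgr Lrot124 (Lpe (f284884 IH) (Lpe (K17.f284858 IH) (Lpr_gt (K26.f284880 IH) (Lpr_cf (K26.f191490 IH) (Lpr_bt (K20.f191500 IH) (Lpr_gt (f191502 IH) (Lpr_ct (f191503 IH) (Lpr_gt (f583648 IH) (Lpe (f215620 IH) (Lpe (f583634 IH) (Lpn (LP (LK LD1_c25 LD2_c24 LD3_c2)))))))))))))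
theorem f278343 : Led Lsl_dt (LP (LK LD1_c18 LD2_c53 LD3_c12)) = (LP (LK LD1_c10 LD2_c24 LD3_c37)) :=
  Lre_d IH (LK LD1_c18 LD2_c53 LD3_c12) (LK LD1_c10 LD2_c24 LD3_c37) Lrfl Lrfl
theorem f278339 : Led Lsl_dt (LP (LK LD1_c18 LD2_c11 LD3_c38)) = (LP (LK LD1_c9 LD2_c56 LD3_c32)) :=
  Lre_d IH (LK LD1_c18 LD2_c11 LD3_c38) (LK LD1_c9 LD2_c56 LD3_c32) Lrfl Lrfl
theorem f44431 : Led Lsl_gt (LP (LK LD1_c15 LD2_c0 LD3_c49)) = (LP (LK LD1_c7 LD2_c57 LD3_c35)) :=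
  Lre_g IH (LK LD1_c15 LD2_c0 LD3_c49) (LK LD1_c7 LD2_c57 LD3_c35) Lrfl Lrfl
theorem f214480 : Led Lsl_gt (LP (LK LD1_c18 LD2_c11 LD3_c16)) = (LP (LK LD1_c15 LD2_c0 LD3_c49)) :=
  Lgr Lrot5 (Lpr_ft (K13.f214467 IH) (Lpr_at (K13.f43897 IH) (Lpe (f44431 IH) (Lpn (LP (LK LD1_c15 LD2_c0 LD3_c49))))))
theorem f51329 : Led Lsl_dt (LP (LK LD1_c15 LD2_c0 LD3_c49)) = (LP (LK LD1_c24 LD2_c48 LD3_c24)) :=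
  Lre_d IH (LK LD1_c15 LD2_c0 LD3_c49) (LK LD1_c24 LD2_c48 LD3_c24) Lrfl Lrfl
theorem f583657 : Led Lsl_gf (LP (LK LD1_c18 LD2_c11 LD3_c38)) = (LP (LK LD1_c24 LD2_c48 LD3_c24)) :=
  Lgr Lrot143 (Lpr_dt (f278339 IH) (Lpe (K23.f278335 IH) (Lpe (f278343 IH) (Lpr_gf (f583653 IH) (Lpe (f51314 IH) (Lpe (f188475 IH) (Lpe (K13.f214483 IH) (Lpr_gt (f214480 IH) (Lpr_dt (f51329 IH) (Lpn (LP (LK LD1_c24 LD2_c48 LD3_c24))))))))))))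
theorem f185500 : Led Lsl_at (LP (LK LD1_c10 LD2_c12 LD3_c58)) = (LP (LK LD1_c5 LD2_c11 LD3_c13)) :=
  Lre_a IH (LK LD1_c10 LD2_c12 LD3_c58) (LK LD1_c5 LD2_c11 LD3_c13) Lrfl Lrfl
theorem f165994 : Led Lsl_at (LP (LK LD1_c5 LD2_c4 LD3_c15)) = (LP (LK LD1_c9 LD2_c59 LD3_c21)) :=
  Lre_a IH (LK LD1_c5 LD2_c4 LD3_c15) (LK LD1_c9 LD2_c59 LD3_c21) Lrfl Lrfl
theorem f307579 : Led Lsl_ff (LP (LK LD1_c10 LD2_c12 LD3_c58)) = (LP (LK LD1_c9 LD2_c59 LD3_c21)) :=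
  Lgr Lrot30 (Lpr_at (f185500 IH) (Lpr_ft (K19.f307577 IH) (Lpr_at (f165994 IH) (Lpn (LP (LK LD1_c9 LD2_c59 LD3_c21))))))
theorem f163777 : Led Lsl_gt (LP (LK LD1_c10 LD2_c12 LD3_c61)) = (LP (LK LD1_c5 LD2_c11 LD3_c13)) :=
  Lre_g IH (LK LD1_c10 LD2_c12 LD3_c61) (LK LD1_c5 LD2_c11 LD3_c13) Lrfl Lrfl
theorem f405317 : Led Lsl_gf (LP (LK LD1_c10 LD2_c12 LD3_c61)) = (LP (LK LD1_c9 LD2_c59 LD3_c21)) :=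
  Lgr Lrot47 (Lpr_gt (f163777 IH) (Lpe (f185500 IH) (Lpr_ff (f307579 IH) (Lpn (LP (LK LD1_c9 LD2_c59 LD3_c21))))))
theorem f163773 : Led Lsl_bt (LP (LK LD1_c2 LD2_c32 LD3_c35)) = (LP (LK LD1_c1 LD2_c13 LD3_c15)) :=
  Lre_b IH (LK LD1_c2 LD2_c32 LD3_c35) (LK LD1_c1 LD2_c13 LD3_c15) Lrfl Lrfl
theorem f163776 : Led Lsl_ct (LP (LK LD1_c2 LD2_c32 LD3_c35)) = (LP (LK LD1_c5 LD2_c11 LD3_c13)) :=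
  Lre_c IH (LK LD1_c2 LD2_c32 LD3_c35) (LK LD1_c5 LD2_c11 LD3_c13) Lrfl Lrfl
theorem f165260 : Led Lsl_bt (LP (LK LD1_c1 LD2_c13 LD3_c13)) = (LP (LK LD1_c2 LD2_c32 LD3_c29)) :=
  Lre_b IH (LK LD1_c1 LD2_c13 LD3_c13) (LK LD1_c2 LD2_c32 LD3_c29) Lrfl Lrfl
theorem f165262 : Led Lsl_bt (LP (LK LD1_c10 LD2_c12 LD3_c36)) = (LP (LK LD1_c5 LD2_c10 LD3_c59)) :=
  Lre_b IH (LK LD1_c10 LD2_c12 LD3_c36) (LK LD1_c5 LD2_c10 LD3_c59) Lrfl Lrfl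
theorem f165263 : Led Lsl_cf (LP (LK LD1_c10 LD2_c12 LD3_c61)) = (LP (LK LD1_c10 LD2_c12 LD3_c36)) :=
  Lgr Lrot160 (Lpr_gt (f163777 IH) (Lpe (f163776 IH) (Lpr_bt (f163773 IH) (Lpe (K10.f163767 IH) (Lpr_ct (K8.f33389 IH) (Lpr_gt (K9.f165254 IH) (Lpe (K10.f165259 IH) (Lpr_bt (f165260 IH) (Lpr_gt (f165261 IH) (Lpe (f165262 IH) (Lpn (LP (LK LD1_c10 LD2_c12 LD3_c36)))))))))))))
theorem f307576 : Led Lsl_ct (LP (LK LD1_c5 LD2_c4 LD3_c14)) = (LP (LK LD1_c9 LD2_c59 LD3_c21)) :=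
  Lre_c IH (LK LD1_c5 LD2_c4 LD3_c14) (LK LD1_c9 LD2_c59 LD3_c21) Lrfl Lrfl
theorem f165410 : Led Lsl_ct (LP (LK LD1_c2 LD2_c29 LD3_c32)) = (LP (LK LD1_c5 LD2_c4 LD3_c15)) :=
  Lre_c IH (LK LD1_c2 LD2_c29 LD3_c32) (LK LD1_c5 LD2_c4 LD3_c15) Lrfl Lrfl
theorem f307598 : Led Lsl_ft (LP (LK LD1_c2 LD2_c32 LD3_c35)) = (LP (LK LD1_c2 LD2_c29 LD3_c32)) :=
  Lgr Lrot4 (Lpe (K37.f163774 IH) (Lpr_ff (K19.f307585 IH) (Lpe (f165410 IH) (Lpn (LP (LK LD1_c2 LD2_c29 LD3_c32))))))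
theorem f185195 : Led Lsl_gt (LP (LK LD1_c2 LD2_c32 LD3_c35)) = (LP (LK LD1_c5 LD2_c11 LD3_c10)) :=
  Lre_g IH (LK LD1_c2 LD2_c32 LD3_c35) (LK LD1_c5 LD2_c11 LD3_c10) Lrfl Lrfl
theorem f350998 : Led Lsl_at (LP (LK LD1_c2 LD2_c29 LD3_c32)) = (LP (LK LD1_c5 LD2_c4 LD3_c14)) :=
  Lre_a IH (LK LD1_c2 LD2_c29 LD3_c32) (LK LD1_c5 LD2_c4 LD3_c14) Lrfl Lrfl
theorem f405288 : Led Lsl_gt (LP (LK LD1_c5 LD2_c11 LD3_c10)) = (LP (LK LD1_c5 LD2_c4 LD3_c14)) :=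
  Lgr Lrot46 (Lpe (f185195 IH) (Lpr_ft (f307598 IH) (Lpr_at (f350998 IH) (Lpn (LP (LK LD1_c5 LD2_c4 LD3_c14))))))
theorem f185199 : Led Lsl_bt (LP (LK LD1_c10 LD2_c12 LD3_c51)) = (LP (LK LD1_c5 LD2_c11 LD3_c10)) :=
  Lre_b IH (LK LD1_c10 LD2_c12 LD3_c51) (LK LD1_c5 LD2_c11 LD3_c10) Lrfl Lrfl
theorem f185194 : Led Lsl_bt (LP (LK LD1_c1 LD2_c13 LD3_c15)) = (LP (LK LD1_c2 LD2_c32 LD3_c35)) :=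
  Lre_b IH (LK LD1_c1 LD2_c13 LD3_c15) (LK LD1_c2 LD2_c32 LD3_c35) Lrfl Lrfl
theorem f165608 : Led Lsl_bt (LP (LK LD1_c2 LD2_c29 LD3_c23)) = (LP (LK LD1_c1 LD2_c11 LD3_c48)) :=
  Lre_b IH (LK LD1_c2 LD2_c29 LD3_c23) (LK LD1_c1 LD2_c11 LD3_c48) Lrfl Lrfl
theorem f165613 : Led Lsl_gt (LP (LK LD1_c9 LD2_c58 LD3_c21)) = (LP (LK LD1_c5 LD2_c3 LD3_c45)) :=
  Lre_g IH (LK LD1_c9 LD2_c58 LD3_c21) (LK LD1_c5 LD2_c3 LD3_c45) Lrfl Lrfl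
theorem f185200 : Led Lsl_ct (LP (LK LD1_c10 LD2_c12 LD3_c51)) = (LP (LK LD1_c9 LD2_c58 LD3_c21)) :=
  Lgr Lrot64 (Lpr_bt (f185199 IH) (Lpe (f185195 IH) (Lpe (f185194 IH) (Lpr_ct (K10.f185181 IH) (Lpe (K10.f32885 IH) (Lpe (K8.f31618 IH) (Lpe (K8.f165584 IH) (Lpe (f165608 IH) (Lpr_ct (K14.f165612 IH) (Lpe (f165613 IH) (Lpn (LP (LK LD1_c9 LD2_c58 LD3_c21)))))))))))))
theorem f405319 : Led Lsl_gt (LP (LK LD1_c10 LD2_c11 LD3_c42)) = (LP (LK LD1_c9 LD2_c58 LD3_c21)) :=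
  Lgr Lrot65 (Lpe (K14.f248959 IH) (Lpe (K37.f248872 IH) (Lpr_gf (f343600 IH) (Lpe (f165262 IH) (Lpe (f165263 IH) (Lpr_gf (f405317 IH) (Lpe (f307576 IH) (Lpe (f405288 IH) (Lpe (f185199 IH) (Lpr_ct (f185200 IH) (Lpn (LP (LK LD1_c9 LD2_c58 LD3_c21)))))))))))))
theorem f186625 : Led Lsl_dt (LP (LK LD1_c5 LD2_c3 LD3_c18)) = (LP (LK LD1_c9 LD2_c57 LD3_c27)) :=
  Lre_d IH (LK LD1_c5 LD2_c3 LD3_c18) (LK LD1_c9 LD2_c57 LD3_c27) Lrfl Lrfl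
theorem f180743 : Led Lsl_dt (LP (LK LD1_c10 LD2_c12 LD3_c24)) = (LP (LK LD1_c5 LD2_c10 LD3_c53)) :=
  Lre_d IH (LK LD1_c10 LD2_c12 LD3_c24) (LK LD1_c5 LD2_c10 LD3_c53) Lrfl Lrfl
theorem f343463 : Led Lsl_ff (LP (LK LD1_c5 LD2_c3 LD3_c18)) = (LP (LK LD1_c5 LD2_c10 LD3_c53)) :=
  Lgr Lrot19 (Lpr_dt (f186625 IH) (Lpr_ft (K37.f343455 IH) (Lpr_dt (f180743 IH) (Lpn (LP (LK LD1_c5 LD2_c10 LD3_c53))))))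
theorem f343470 : Led Lsl_at (LP (LK LD1_c5 LD2_c3 LD3_c18)) = (LP (LK LD1_c9 LD2_c57 LD3_c26)) :=
  Lre_a IH (LK LD1_c5 LD2_c3 LD3_c18) (LK LD1_c9 LD2_c57 LD3_c26) Lrfl Lrfl
theorem f171480 : Led Lsl_gt (LP (LK LD1_c5 LD2_c10 LD3_c53)) = (LP (LK LD1_c10 LD2_c12 LD3_c21)) :=
  Lre_g IH (LK LD1_c5 LD2_c10 LD3_c53) (LK LD1_c10 LD2_c12 LD3_c21) Lrfl Lrfl
theorem f343475 : Led Lsl_gf (LP (LK LD1_c9 LD2_c57 LD3_c26)) = (LP (LK LD1_c10 LD2_c12 LD3_c21)) :=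
  Lgr Lrot76 (Lpe (f343470 IH) (Lpr_ff (f343463 IH) (Lpr_gt (f171480 IH) (Lpn (LP (LK LD1_c10 LD2_c12 LD3_c21))))))
theorem f212437 : Led Lsl_bt (LP (LK LD1_c5 LD2_c10 LD3_c53)) = (LP (LK LD1_c2 LD2_c32 LD3_c27)) :=
  Lre_b IH (LK LD1_c5 LD2_c10 LD3_c53) (LK LD1_c2 LD2_c32 LD3_c27) Lrfl Lrfl
theorem f180742 : Led Lsl_ct (LP (LK LD1_c5 LD2_c10 LD3_c53)) = (LP (LK LD1_c2 LD2_c32 LD3_c29)) :=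
  Lre_c IH (LK LD1_c5 LD2_c10 LD3_c53) (LK LD1_c2 LD2_c32 LD3_c29) Lrfl Lrfl
theorem f212441 : Led Lsl_bf (LP (LK LD1_c17 LD2_c47 LD3_c22)) = (LP (LK LD1_c10 LD2_c12 LD3_c38)) :=
  Lgr Lrot34 (Lpe (f193114 IH) (Lpe (K19.f193106 IH) (Lpr_ct (K15.f193107 IH) (Lpe (K13.f43964 IH) (Lpe (K1.f43932 IH) (Lpr_gf (K12.f212433 IH) (Lpe (f212437 IH) (Lpr_ct (f180742 IH) (Lpe (f212439 IH) (Lpe (f212440 IH) (Lpn (LP (LK LD1_c10 LD2_c12 LD3_c38)))))))))))))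
theorem f230030 : Led Lsl_bt (LP (LK LD1_c18 LD2_c35 LD3_c16)) = (LP (LK LD1_c10 LD2_c12 LD3_c21)) :=
  Lre_b IH (LK LD1_c18 LD2_c35 LD3_c16) (LK LD1_c10 LD2_c12 LD3_c21) Lrfl Lrfl
theorem f230031 : Led Lsl_gt (LP (LK LD1_c18 LD2_c51 LD3_c43)) = (LP (LK LD1_c10 LD2_c23 LD3_c45)) :=
  Lre_g IH (LK LD1_c18 LD2_c51 LD3_c43) (LK LD1_c10 LD2_c23 LD3_c45) Lrfl Lrfl
theorem f230032 : Led Lsl_ct (LP (LK LD1_c18 LD2_c35 LD3_c16)) = (LP (LK LD1_c18 LD2_c51 LD3_c43)) :=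
  Lgr Lrot64 (Lpr_bt (f230030 IH) (Lpe (f171480 IH) (Lpe (K37.f171479 IH) (Lpr_ct (K14.f171474 IH) (Lpe (K12.f212435 IH) (Lpe (K14.f43454 IH) (Lpr_gf (K14.f43781 IH) (Lpe (K37.f43785 IH) (Lpr_ct (K37.f229998 IH) (Lpe (f230031 IH) (Lpn (LP (LK LD1_c18 LD2_c51 LD3_c43)))))))))))))
theorem f294506 : Led Lsl_gf (LP (LK LD1_c18 LD2_c51 LD3_c43)) = (LP (LK LD1_c10 LD2_c25 LD3_c33)) :=
  Lgr Lrot47 (Lpr_gt (f230031 IH) (Lpe (K37.f230023 IH) (Lpr_ff (K37.f294387 IH) (Lpn (LP (LK LD1_c10 LD2_c25 LD3_c33))))))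
theorem f343477 : Led Lsl_gt (LP (LK LD1_c17 LD2_c47 LD3_c22)) = (LP (LK LD1_c17 LD2_c46 LD3_c23)) :=
  Lgr Lrot164 (Lpr_bf (f212441 IH) (Lpr_ct (f212440 IH) (Lpe (f343361 IH) (Lpe (K14.f248958 IH) (Lpr_gf (f343475 IH) (Lpe (f230030 IH) (Lpr_ct (f230032 IH) (Lpr_gf (f294506 IH) (Lpe (K37.f294361 IH) (Lpe (K37.f294560 IH) (Lpn (LP (LK LD1_c17 LD2_c46 LD3_c23)))))))))))))
theorem f294598 : Led Lsl_ct (LP (LK LD1_c17 LD2_c46 LD3_c23)) = (LP (LK LD1_c15 LD2_c11 LD3_c61)) :=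
  Lgr Lrot59 (Lpr_cf (K37.f294581 IH) (Lpn (LP (LK LD1_c15 LD2_c11 LD3_c61))))
theorem f294602 : Led Lsl_ff (LP (LK LD1_c10 LD2_c8 LD3_c52)) = (LP (LK LD1_c15 LD2_c11 LD3_c61)) :=
  Lgr Lrot3 (Lpr_ft (K37.f294600 IH) (Lpn (LP (LK LD1_c15 LD2_c11 LD3_c61))))
theorem f260042 : Led Lsl_at (LP (LK LD1_c10 LD2_c8 LD3_c52)) = (LP (LK LD1_c5 LD2_c9 LD3_c9)) :=
  Lre_a IH (LK LD1_c10 LD2_c8 LD3_c52) (LK LD1_c5 LD2_c9 LD3_c9) Lrfl Lrfl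
theorem f294606 : Led Lsl_gf (LP (LK LD1_c10 LD2_c8 LD3_c51)) = (LP (LK LD1_c15 LD2_c11 LD3_c61)) :=
  Lgr Lrot47 (Lpr_gt (f260001 IH) (Lpe (f260042 IH) (Lpr_ff (f294602 IH) (Lpn (LP (LK LD1_c15 LD2_c11 LD3_c61))))))
theorem f260044 : Led Lsl_ct (LP (LK LD1_c18 LD2_c28 LD3_c57)) = (LP (LK LD1_c10 LD2_c8 LD3_c51)) :=
  Lre_c IH (LK LD1_c18 LD2_c28 LD3_c57) (LK LD1_c10 LD2_c8 LD3_c51) Lrfl Lrfl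
theorem f43476 : Led Lsl_bt (LP (LK LD1_c4 LD2_c54 LD3_c22)) = (LP (LK LD1_c9 LD2_c40 LD3_c12)) :=
  Lre_b IH (LK LD1_c4 LD2_c54 LD3_c22) (LK LD1_c9 LD2_c40 LD3_c12) Lrfl Lrfl
theorem f43477 : Led Lsl_gt (LP (LK LD1_c9 LD2_c40 LD3_c12)) = (LP (LK LD1_c17 LD2_c47 LD3_c9)) :=
  Lre_g IH (LK LD1_c9 LD2_c40 LD3_c12) (LK LD1_c17 LD2_c47 LD3_c9) Lrfl Lrfl
theorem f260045 : Led Lsl_bf (LP (LK LD1_c17 LD2_c47 LD3_c9)) = (LP (LK LD1_c18 LD2_c28 LD3_c57)) :=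
  Lgr Lrot34 (Lpe (f43477 IH) (Lpe (f43476 IH) (Lpr_ct (K14.f43475 IH) (Lpr_gf (K12.f43469 IH) (Lpe (K9.f43432 IH) (Lpe (K14.f43744 IH) (Lpe (f43748 IH) (Lpr_ct (K19.f260031 IH) (Lpe (f260001 IH) (Lpe (f260044 IH) (Lpn (LP (LK LD1_c18 LD2_c28 LD3_c57)))))))))))))
theorem f343492 : Led Lsl_gf (LP (LK LD1_c17 LD2_c46 LD3_c1)) = (LP (LK LD1_c17 LD2_c47 LD3_c9)) :=
  Lgr Lrot124 (Lpr_bf (K37.f248985 IH) (Lpr_ct (K14.f248958 IH) (Lpr_gt (f343361 IH) (Lpe (f212440 IH) (Lpe (f212441 IH) (Lpr_gt (f343477 IH) (Lpr_ct (f294598 IH) (Lpe (f294606 IH) (Lpe (f260044 IH) (Lpe (f260045 IH) (Lpn (LP (LK LD1_c17 LD2_c47 LD3_c9)))))))))))))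
theorem f259993 : Led Lsl_ct (LP (LK LD1_c27 LD2_c34 LD3_c3)) = (LP (LK LD1_c17 LD2_c47 LD3_c9)) :=
  Lre_c IH (LK LD1_c27 LD2_c34 LD3_c3) (LK LD1_c17 LD2_c47 LD3_c9) Lrfl Lrfl
theorem f43478 : Led Lsl_ct (LP (LK LD1_c17 LD2_c47 LD3_c9)) = (LP (LK LD1_c27 LD2_c34 LD3_c3)) :=
  Lre_c IH (LK LD1_c17 LD2_c47 LD3_c9) (LK LD1_c27 LD2_c34 LD3_c3) Lrfl Lrfl
theorem f260050 : Led Lsl_ct (LP (LK LD1_c10 LD2_c8 LD3_c51)) = (LP (LK LD1_c18 LD2_c28 LD3_c57)) :=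
  Lre_c IH (LK LD1_c10 LD2_c8 LD3_c51) (LK LD1_c18 LD2_c28 LD3_c57) Lrfl Lrfl
theorem f260016 : Led Lsl_ct (LP (LK LD1_c28 LD2_c3 LD3_c34)) = (LP (LK LD1_c18 LD2_c28 LD3_c56)) :=
  Lre_c IH (LK LD1_c28 LD2_c3 LD3_c34) (LK LD1_c18 LD2_c28 LD3_c56) Lrfl Lrfl
theorem f260051 : Led Lsl_bt (LP (LK LD1_c27 LD2_c34 LD3_c3)) = (LP (LK LD1_c28 LD2_c3 LD3_c34)) :=
  Lgr Lrot128 (Lpe (f43478 IH) (Lpr_bf (f260045 IH) (Lpe (f260050 IH) (Lpe (f260002 IH) (Lpe (f260016 IH) (Lpn (LP (LK LD1_c28 LD2_c3 LD3_c34))))))))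
theorem f260017 : Led Lsl_bt (LP (LK LD1_c10 LD2_c13 LD3_c53)) = (LP (LK LD1_c18 LD2_c37 LD3_c19)) :=
  Lre_b IH (LK LD1_c10 LD2_c13 LD3_c53) (LK LD1_c18 LD2_c37 LD3_c19) Lrfl Lrfl
theorem f164537 : Led Lsl_ct (LP (LK LD1_c10 LD2_c13 LD3_c53)) = (LP (LK LD1_c5 LD2_c11 LD3_c35)) :=
  Lre_c IH (LK LD1_c10 LD2_c13 LD3_c53) (LK LD1_c5 LD2_c11 LD3_c35) Lrfl Lrfl
theorem f185211 : Led Lsl_cf (LP (LK LD1_c10 LD2_c12 LD3_c51)) = (LP (LK LD1_c9 LD2_c58 LD3_c21)) :=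
  Lgr Lrot11 (Lpr_ct (f185200 IH) (Lpn (LP (LK LD1_c9 LD2_c58 LD3_c21))))
theorem f405323 : Led Lsl_gf (LP (LK LD1_c5 LD2_c11 LD3_c35)) = (LP (LK LD1_c10 LD2_c12 LD3_c51)) :=
  Lgr Lrot129 (Lpe (f164537 IH) (Lpr_bt (f260017 IH) (Lpr_gt (f260004 IH) (Lpe (f260051 IH) (Lpr_ct (f259993 IH) (Lpe (f343492 IH) (Lpr_cf (K14.f248961 IH) (Lpr_bt (K37.f248980 IH) (Lpr_gt (f405319 IH) (Lpe (f185211 IH) (Lpn (LP (LK LD1_c10 LD2_c12 LD3_c51)))))))))))))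
theorem f405330 : Led Lsl_at (LP (LK LD1_c10 LD2_c13 LD3_c52)) = (LP (LK LD1_c5 LD2_c11 LD3_c35)) :=
  Lre_a IH (LK LD1_c10 LD2_c13 LD3_c52) (LK LD1_c5 LD2_c11 LD3_c35) Lrfl Lrfl
theorem f185220 : Led Lsl_gt (LP (LK LD1_c18 LD2_c35 LD3_c45)) = (LP (LK LD1_c10 LD2_c12 LD3_c51)) :=
  Lre_g IH (LK LD1_c18 LD2_c35 LD3_c45) (LK LD1_c10 LD2_c12 LD3_c51) Lrfl Lrfl
theorem f405331 : Led Lsl_ff (LP (LK LD1_c10 LD2_c13 LD3_c52)) = (LP (LK LD1_c18 LD2_c35 LD3_c45)) :=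
  Lgr Lrot52 (Lpr_at (f405330 IH) (Lpr_gf (f405323 IH) (Lpe (f185220 IH) (Lpn (LP (LK LD1_c18 LD2_c35 LD3_c45))))))
theorem f405364 : Led Lsl_ft (LP (LK LD1_c10 LD2_c13 LD3_c52)) = (LP (LK LD1_c18 LD2_c35 LD3_c45)) :=
  Lgr Lrot48 (Lpr_ff (f405331 IH) (Lpn (LP (LK LD1_c18 LD2_c35 LD3_c45))))
theorem f405366 : Led Lsl_at (LP (LK LD1_c5 LD2_c11 LD3_c35)) = (LP (LK LD1_c10 LD2_c13 LD3_c52)) :=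
  Lre_a IH (LK LD1_c5 LD2_c11 LD3_c35) (LK LD1_c10 LD2_c13 LD3_c52) Lrfl Lrfl
theorem f405367 : Led Lsl_ft (LP (LK LD1_c10 LD2_c13 LD3_c27)) = (LP (LK LD1_c5 LD2_c11 LD3_c35)) :=
  Lre_f IH (LK LD1_c10 LD2_c13 LD3_c27) (LK LD1_c5 LD2_c11 LD3_c35) Lrfl Lrfl
theorem f405368 : Led Lsl_af (LP (LK LD1_c10 LD2_c13 LD3_c27)) = (LP (LK LD1_c18 LD2_c35 LD3_c45)) :=
  Lgr Lrot45 (Lpr_ft (f405367 IH) (Lpr_at (f405366 IH) (Lpr_ft (f405364 IH) (Lpn (LP (LK LD1_c18 LD2_c35 LD3_c45))))))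
theorem f405373 : Led Lsl_bt (LP (LK LD1_c10 LD2_c13 LD3_c27)) = (LP (LK LD1_c5 LD2_c11 LD3_c29)) :=
  Lre_b IH (LK LD1_c10 LD2_c13 LD3_c27) (LK LD1_c5 LD2_c11 LD3_c29) Lrfl Lrfl
theorem f405374 : Led Lsl_at (LP (LK LD1_c5 LD2_c11 LD3_c29)) = (LP (LK LD1_c2 LD2_c32 LD3_c41)) :=
  Lre_a IH (LK LD1_c5 LD2_c11 LD3_c29) (LK LD1_c2 LD2_c32 LD3_c41) Lrfl Lrfl
theorem f343488 : Led Lsl_bt (LP (LK LD1_c2 LD2_c32 LD3_c41)) = (LP (LK LD1_c5 LD2_c11 LD3_c30)) :=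
  Lre_b IH (LK LD1_c2 LD2_c32 LD3_c41) (LK LD1_c5 LD2_c11 LD3_c30) Lrfl Lrfl
theorem f405375 : Led Lsl_at (LP (LK LD1_c5 LD2_c11 LD3_c30)) = (LP (LK LD1_c10 LD2_c13 LD3_c32)) :=
  Lre_a IH (LK LD1_c5 LD2_c11 LD3_c30) (LK LD1_c10 LD2_c13 LD3_c32) Lrfl Lrfl
theorem f405376 : Led Lsl_bt (LP (LK LD1_c10 LD2_c13 LD3_c32)) = (LP (LK LD1_c18 LD2_c35 LD3_c45)) :=
  Lgr Lrot62 (Lpe (f405375 IH) (Lpe (f343488 IH) (Lpe (f405374 IH) (Lpe (f405373 IH) (Lpr_af (f405368 IH) (Lpn (LP (LK LD1_c18 LD2_c35 LD3_c45))))))))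
theorem f185205 : Led Lsl_bt (LP (LK LD1_c5 LD2_c11 LD3_c10)) = (LP (LK LD1_c10 LD2_c12 LD3_c51)) :=
  Lre_b IH (LK LD1_c5 LD2_c11 LD3_c10) (LK LD1_c10 LD2_c12 LD3_c51) Lrfl Lrfl
theorem f185196 : Led Lsl_ct (LP (LK LD1_c5 LD2_c11 LD3_c10)) = (LP (LK LD1_c10 LD2_c12 LD3_c52)) :=
  Lre_c IH (LK LD1_c5 LD2_c11 LD3_c10) (LK LD1_c10 LD2_c12 LD3_c52) Lrfl Lrfl
theorem f32703 : Led Lsl_bt (LP (LK LD1_c5 LD2_c18 LD3_c45)) = (LP (LK LD1_c2 LD2_c35 LD3_c61)) :=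
  Lre_b IH (LK LD1_c5 LD2_c18 LD3_c45) (LK LD1_c2 LD2_c35 LD3_c61) Lrfl Lrfl
theorem f32704 : Led Lsl_ct (LP (LK LD1_c5 LD2_c18 LD3_c45)) = (LP (LK LD1_c10 LD2_c27 LD3_c13)) :=
  Lre_c IH (LK LD1_c5 LD2_c18 LD3_c45) (LK LD1_c10 LD2_c27 LD3_c13) Lrfl Lrfl
theorem f185197 : Led Lsl_gt (LP (LK LD1_c10 LD2_c12 LD3_c52)) = (LP (LK LD1_c10 LD2_c27 LD3_c13)) :=
  Lgr Lrot149 (Lpe (f185196 IH) (Lpe (f185195 IH) (Lpe (f185194 IH) (Lpr_ct (K10.f185181 IH) (Lpe (K10.f32885 IH) (Lpe (K8.f31618 IH) (Lpr_bt (K10.f32668 IH) (Lpe (K13.f48803 IH) (Lpe (f32703 IH) (Lpr_ct (f32704 IH) (Lpn (LP (LK LD1_c10 LD2_c27 LD3_c13)))))))))))))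
theorem f48498 : Led Lsl_ct (LP (LK LD1_c1 LD2_c14 LD3_c61)) = (LP (LK LD1_c2 LD2_c35 LD3_c46)) :=
  Lre_c IH (LK LD1_c1 LD2_c14 LD3_c61) (LK LD1_c2 LD2_c35 LD3_c46) Lrfl Lrfl
theorem f405405 : Led Lsl_ct (LP (LK LD1_c10 LD2_c13 LD3_c32)) = (LP (LK LD1_c5 LD2_c18 LD3_c7)) :=
  Lgr Lrot63 (Lpr_bt (f405376 IH) (Lpr_gt (f185220 IH) (Lpe (f185205 IH) (Lpr_ct (f185196 IH) (Lpr_gt (f185197 IH) (Lpe (f32704 IH) (Lpr_bt (f32703 IH) (Lpr_gt (K13.f48803 IH) (Lpr_ct (f48498 IH) (Lpr_gt (K13.f48859 IH) (Lpn (LP (LK LD1_c5 LD2_c18 LD3_c7)))))))))))))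
theorem f405409 : Led Lsl_cf (LP (LK LD1_c10 LD2_c13 LD3_c32)) = (LP (LK LD1_c5 LD2_c18 LD3_c7)) :=
  Lgr Lrot11 (Lpr_ct (f405405 IH) (Lpn (LP (LK LD1_c5 LD2_c18 LD3_c7))))
theorem f405401 : Led Lsl_at (LP (LK LD1_c10 LD2_c13 LD3_c32)) = (LP (LK LD1_c5 LD2_c11 LD3_c30)) :=
  Lre_a IH (LK LD1_c10 LD2_c13 LD3_c32) (LK LD1_c5 LD2_c11 LD3_c30) Lrfl Lrfl
theorem f165439 : Led Lsl_ct (LP (LK LD1_c5 LD2_c11 LD3_c30)) = (LP (LK LD1_c10 LD2_c13 LD3_c33)) :=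
  Lre_c IH (LK LD1_c5 LD2_c11 LD3_c30) (LK LD1_c10 LD2_c13 LD3_c33) Lrfl Lrfl
theorem f405423 : Led Lsl_at (LP (LK LD1_c10 LD2_c13 LD3_c33)) = (LP (LK LD1_c5 LD2_c18 LD3_c7)) :=
  Lgr Lrot107 (Lpe (f165439 IH) (Lpe (f405401 IH) (Lpr_cf (f405409 IH) (Lpn (LP (LK LD1_c5 LD2_c18 LD3_c7))))))
theorem f405414 : Led Lsl_ft (LP (LK LD1_c5 LD2_c18 LD3_c7)) = (LP (LK LD1_c10 LD2_c25 LD3_c57)) :=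
  Lre_f IH (LK LD1_c5 LD2_c18 LD3_c7) (LK LD1_c10 LD2_c25 LD3_c57) Lrfl Lrfl
theorem f405433 : Led Lsl_at (LP (LK LD1_c10 LD2_c25 LD3_c57)) = (LP (LK LD1_c5 LD2_c18 LD3_c8)) :=
  Lre_a IH (LK LD1_c10 LD2_c25 LD3_c57) (LK LD1_c5 LD2_c18 LD3_c8) Lrfl Lrfl
theorem f405434 : Led Lsl_ff (LP (LK LD1_c10 LD2_c13 LD3_c33)) = (LP (LK LD1_c5 LD2_c18 LD3_c8)) :=
  Lgr Lrot30 (Lpr_at (f405423 IH) (Lpr_ft (f405414 IH) (Lpr_at (f405433 IH) (Lpn (LP (LK LD1_c5 LD2_c18 LD3_c8))))))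
theorem f405446 : Led Lsl_ft (LP (LK LD1_c10 LD2_c13 LD3_c33)) = (LP (LK LD1_c5 LD2_c18 LD3_c8)) :=
  Lgr Lrot48 (Lpr_ff (f405434 IH) (Lpn (LP (LK LD1_c5 LD2_c18 LD3_c8))))
theorem f32684 : Led Lsl_bt (LP (LK LD1_c2 LD2_c36 LD3_c2)) = (LP (LK LD1_c1 LD2_c15 LD3_c1)) :=
  Lre_b IH (LK LD1_c2 LD2_c36 LD3_c2) (LK LD1_c1 LD2_c15 LD3_c1) Lrfl Lrfl
theorem f71563 : Led Lsl_ct (LP (LK LD1_c2 LD2_c36 LD3_c2)) = (LP (LK LD1_c5 LD2_c18 LD3_c11)) :=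
  Lre_c IH (LK LD1_c2 LD2_c36 LD3_c2) (LK LD1_c5 LD2_c18 LD3_c11) Lrfl Lrfl
theorem f21477 : Led Lsl_bt (LP (LK LD1_c0 LD2_c33 LD3_c58)) = (LP (LK LD1_c1 LD2_c13 LD3_c17)) :=
  Lre_b IH (LK LD1_c0 LD2_c33 LD3_c58) (LK LD1_c1 LD2_c13 LD3_c17) Lrfl Lrfl
theorem f21952 : Led Lsl_gt (LP (LK LD1_c1 LD2_c13 LD3_c17)) = (LP (LK LD1_c2 LD2_c32 LD3_c41)) :=
  Lre_g IH (LK LD1_c1 LD2_c13 LD3_c17) (LK LD1_c2 LD2_c32 LD3_c41) Lrfl Lrfl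
theorem f164642 : Led Lsl_bt (LP (LK LD1_c5 LD2_c11 LD3_c30)) = (LP (LK LD1_c2 LD2_c32 LD3_c41)) :=
  Lre_b IH (LK LD1_c5 LD2_c11 LD3_c30) (LK LD1_c2 LD2_c32 LD3_c41) Lrfl Lrfl
theorem f181047 : Led Lsl_gf (LP (LK LD1_c5 LD2_c18 LD3_c11)) = (LP (LK LD1_c10 LD2_c13 LD3_c33)) :=
  Lgr Lrot126 (Lpe (f71563 IH) (Lpr_bt (f32684 IH) (Lpr_gt (K12.f180739 IH) (Lpr_ct (K10.f165259 IH) (Lpr_gt (K9.f20822 IH) (Lpe (K10.f21313 IH) (Lpr_bt (f21477 IH) (Lpr_gt (f21952 IH) (Lpe (f164642 IH) (Lpr_ct (f165439 IH) (Lpn (LP (LK LD1_c10 LD2_c13 LD3_c33)))))))))))))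
theorem f405448 : Led Lsl_at (LP (LK LD1_c5 LD2_c18 LD3_c8)) = (LP (LK LD1_c10 LD2_c25 LD3_c57)) :=
  Lre_a IH (LK LD1_c5 LD2_c18 LD3_c8) (LK LD1_c10 LD2_c25 LD3_c57) Lrfl Lrfl
theorem f405457 : Led Lsl_gt (LP (LK LD1_c5 LD2_c18 LD3_c11)) = (LP (LK LD1_c10 LD2_c25 LD3_c57)) :=
  Lgr Lrot46 (Lpr_gf (f181047 IH) (Lpr_ft (f405446 IH) (Lpr_at (f405448 IH) (Lpn (LP (LK LD1_c10 LD2_c25 LD3_c57))))))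
theorem f181061 : Led Lsl_bt (LP (LK LD1_c2 LD2_c35 LD3_c48)) = (LP (LK LD1_c5 LD2_c18 LD3_c11)) :=
  Lre_b IH (LK LD1_c2 LD2_c35 LD3_c48) (LK LD1_c5 LD2_c18 LD3_c11) Lrfl Lrfl
theorem f405464 : Led Lsl_bt (LP (LK LD1_c18 LD2_c55 LD3_c17)) = (LP (LK LD1_c10 LD2_c25 LD3_c57)) :=
  Lre_b IH (LK LD1_c18 LD2_c55 LD3_c17) (LK LD1_c10 LD2_c25 LD3_c57) Lrfl Lrfl
theorem f405465 : Led Lsl_cf (LP (LK LD1_c15 LD2_c0 LD3_c49)) = (LP (LK LD1_c18 LD2_c55 LD3_c17)) :=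
  Lgr Lrot160 (Lpr_gt (f44431 IH) (Lpr_cf (K13.f51305 IH) (Lpr_bt (K13.f45017 IH) (Lpe (K14.f189508 IH) (Lpr_ct (K16.f189510 IH) (Lpr_gt (K14.f32107 IH) (Lpe (K9.f32855 IH) (Lpr_bt (f181061 IH) (Lpr_gt (f405457 IH) (Lpe (f405464 IH) (Lpn (LP (LK LD1_c18 LD2_c55 LD3_c17)))))))))))))
theorem f214769 : Led Lsl_ft (LP (LK LD1_c10 LD2_c25 LD3_c54)) = (LP (LK LD1_c18 LD2_c55 LD3_c17)) :=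
  Lre_f IH (LK LD1_c10 LD2_c25 LD3_c54) (LK LD1_c18 LD2_c55 LD3_c17) Lrfl Lrfl
theorem f214591 : Led Lsl_ct (LP (LK LD1_c18 LD2_c11 LD3_c15)) = (LP (LK LD1_c10 LD2_c25 LD3_c54)) :=
  Lgr Lrot59 (Lpr_cf (K13.f214587 IH) (Lpn (LP (LK LD1_c10 LD2_c25 LD3_c54))))
theorem f405473 : Led Lsl_ft (LP (LK LD1_c15 LD2_c0 LD3_c49)) = (LP (LK LD1_c18 LD2_c11 LD3_c15)) :=
  Lgr Lrot4 (Lpr_cf (f405465 IH) (Lpe (f214769 IH) (Lpe (f214591 IH) (Lpn (LP (LK LD1_c18 LD2_c11 LD3_c15))))))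
theorem f44432 : Led Lsl_gt (LP (LK LD1_c7 LD2_c57 LD3_c35)) = (LP (LK LD1_c15 LD2_c0 LD3_c48)) :=
  Lre_g IH (LK LD1_c7 LD2_c57 LD3_c35) (LK LD1_c15 LD2_c0 LD3_c48) Lrfl Lrfl
theorem f405481 : Led Lsl_af (LP (LK LD1_c15 LD2_c0 LD3_c48)) = (LP (LK LD1_c18 LD2_c11 LD3_c15)) :=
  Lgr Lrot31 (Lpe (f44432 IH) (Lpe (f44431 IH) (Lpr_ft (f405473 IH) (Lpn (LP (LK LD1_c18 LD2_c11 LD3_c15))))))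
theorem f405483 : Led Lsl_at (LP (LK LD1_c15 LD2_c0 LD3_c48)) = (LP (LK LD1_c18 LD2_c11 LD3_c15)) :=
  Lgr Lrot100 (Lpr_af (f405481 IH) (Lpn (LP (LK LD1_c18 LD2_c11 LD3_c15))))
theorem f405504 : Led Lsl_ff (LP (LK LD1_c15 LD2_c0 LD3_c48)) = (LP (LK LD1_c18 LD2_c11 LD3_c14)) :=
  Lgr Lrot52 (Lpr_at (f405483 IH) (Lpr_gf (K13.f214488 IH) (Lpe (K14.f215020 IH) (Lpn (LP (LK LD1_c18 LD2_c11 LD3_c14))))))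
theorem f405512 : Led Lsl_ft (LP (LK LD1_c15 LD2_c0 LD3_c48)) = (LP (LK LD1_c18 LD2_c11 LD3_c14)) :=
  Lgr Lrot48 (Lpr_ff (f405504 IH) (Lpn (LP (LK LD1_c18 LD2_c11 LD3_c14))))
theorem f214778 : Led Lsl_dt (LP (LK LD1_c24 LD2_c48 LD3_c22)) = (LP (LK LD1_c15 LD2_c0 LD3_c48)) :=
  Lre_d IH (LK LD1_c24 LD2_c48 LD3_c22) (LK LD1_c15 LD2_c0 LD3_c48) Lrfl Lrfl
theorem f214538 : Led Lsl_dt (LP (LK LD1_c18 LD2_c11 LD3_c14)) = (LP (LK LD1_c27 LD2_c51 LD3_c24)) :=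
  Lre_d IH (LK LD1_c18 LD2_c11 LD3_c14) (LK LD1_c27 LD2_c51 LD3_c24) Lrfl Lrfl
theorem f405518 : Led Lsl_ff (LP (LK LD1_c24 LD2_c48 LD3_c22)) = (LP (LK LD1_c27 LD2_c51 LD3_c24)) :=
  Lgr Lrot19 (Lpr_dt (f214778 IH) (Lpr_ft (f405512 IH) (Lpr_dt (f214538 IH) (Lpn (LP (LK LD1_c27 LD2_c51 LD3_c24))))))
theorem f44434 : Led Lsl_dt (LP (LK LD1_c15 LD2_c0 LD3_c48)) = (LP (LK LD1_c24 LD2_c48 LD3_c22)) :=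
  Lre_d IH (LK LD1_c15 LD2_c0 LD3_c48) (LK LD1_c24 LD2_c48 LD3_c22) Lrfl Lrfl
theorem f214491 : Led Lsl_dt (LP (LK LD1_c27 LD2_c51 LD3_c25)) = (LP (LK LD1_c18 LD2_c11 LD3_c15)) :=
  Lre_d IH (LK LD1_c27 LD2_c51 LD3_c25) (LK LD1_c18 LD2_c11 LD3_c15) Lrfl Lrfl
theorem f405488 : Led Lsl_at (LP (LK LD1_c24 LD2_c48 LD3_c22)) = (LP (LK LD1_c27 LD2_c51 LD3_c25)) :=
  Lgr Lrot51 (Lpe (f44434 IH) (Lpr_af (f405481 IH) (Lpe (f214491 IH) (Lpn (LP (LK LD1_c27 LD2_c51 LD3_c25))))))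
theorem f51331 : Led Lsl_dt (LP (LK LD1_c24 LD2_c48 LD3_c24)) = (LP (LK LD1_c15 LD2_c0 LD3_c49)) :=
  Lre_d IH (LK LD1_c24 LD2_c48 LD3_c24) (LK LD1_c15 LD2_c0 LD3_c49) Lrfl Lrfl
theorem f214490 : Led Lsl_dt (LP (LK LD1_c18 LD2_c11 LD3_c15)) = (LP (LK LD1_c27 LD2_c51 LD3_c25)) :=
  Lre_d IH (LK LD1_c18 LD2_c11 LD3_c15) (LK LD1_c27 LD2_c51 LD3_c25) Lrfl Lrfl
theorem f405477 : Led Lsl_ff (LP (LK LD1_c24 LD2_c48 LD3_c24)) = (LP (LK LD1_c27 LD2_c51 LD3_c25)) :=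
  Lgr Lrot19 (Lpr_dt (f51331 IH) (Lpr_ft (f405473 IH) (Lpr_dt (f214490 IH) (Lpn (LP (LK LD1_c27 LD2_c51 LD3_c25))))))
theorem f405520 : Led Lsl_at (LP (LK LD1_c24 LD2_c48 LD3_c24)) = (LP (LK LD1_c27 LD2_c51 LD3_c24)) :=
  Lgr Lrot66 (Lpr_ff (f405477 IH) (Lpe (f405488 IH) (Lpr_ff (f405518 IH) (Lpn (LP (LK LD1_c27 LD2_c51 LD3_c24))))))
theorem f405528 : Led Lsl_af (LP (LK LD1_c24 LD2_c48 LD3_c24)) = (LP (LK LD1_c27 LD2_c51 LD3_c24)) :=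
  Lgr Lrot0 (Lpr_at (f405520 IH) (Lpn (LP (LK LD1_c27 LD2_c51 LD3_c24))))
theorem f215022 : Led Lsl_dt (LP (LK LD1_c27 LD2_c51 LD3_c24)) = (LP (LK LD1_c18 LD2_c11 LD3_c14)) :=
  Lre_d IH (LK LD1_c27 LD2_c51 LD3_c24) (LK LD1_c18 LD2_c11 LD3_c14) Lrfl Lrfl
theorem f405510 : Led Lsl_ft (LP (LK LD1_c24 LD2_c48 LD3_c22)) = (LP (LK LD1_c27 LD2_c51 LD3_c24)) :=
  Lgr Lrot54 (Lpe (f44434 IH) (Lpr_ff (f405504 IH) (Lpe (f215022 IH) (Lpn (LP (LK LD1_c27 LD2_c51 LD3_c24))))))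
theorem f405495 : Led Lsl_af (LP (LK LD1_c24 LD2_c48 LD3_c22)) = (LP (LK LD1_c27 LD2_c51 LD3_c25)) :=
  Lgr Lrot0 (Lpr_at (f405488 IH) (Lpn (LP (LK LD1_c27 LD2_c51 LD3_c25))))
theorem f405530 : Led Lsl_ft (LP (LK LD1_c24 LD2_c48 LD3_c24)) = (LP (LK LD1_c27 LD2_c51 LD3_c25)) :=
  Lgr Lrot101 (Lpr_af (f405528 IH) (Lpe (f405510 IH) (Lpr_af (f405495 IH) (Lpn (LP (LK LD1_c27 LD2_c51 LD3_c25))))))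
theorem f583661 : Led Lsl_gt (LP (LK LD1_c18 LD2_c11 LD3_c38)) = (LP (LK LD1_c24 LD2_c48 LD3_c22)) :=
  Lgr Lrot46 (Lpr_gf (f583657 IH) (Lpr_ft (f405530 IH) (Lpe (f405495 IH) (Lpn (LP (LK LD1_c24 LD2_c48 LD3_c22))))))
theorem f342462 : Led Lsl_bt (LP (LK LD1_c5 LD2_c2 LD3_c23)) = (LP (LK LD1_c9 LD2_c54 LD3_c55)) :=
  Lgr Lrot119 (Lpe (K23.f342427 IH) (Lpr_bf (K23.f342458 IH) (Lpe (K23.f333539 IH) (Lpn (LP (LK LD1_c9 LD2_c54 LD3_c55))))))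
theorem f177567 : Led Lsl_ct (LP (LK LD1_c5 LD2_c2 LD3_c23)) = (LP (LK LD1_c9 LD2_c55 LD3_c39)) :=
  Lre_c IH (LK LD1_c5 LD2_c2 LD3_c23) (LK LD1_c9 LD2_c55 LD3_c39) Lrfl Lrfl
theorem f370514 : Led Lsl_gt (LP (LK LD1_c10 LD2_c2 LD3_c18)) = (LP (LK LD1_c9 LD2_c55 LD3_c39)) :=
  Lgr Lrot65 (Lpe (K16.f169488 IH) (Lpr_bt (K19.f169485 IH) (Lpr_gf (K22.f335548 IH) (Lpr_bf (K27.f339933 IH) (Lpr_ct (K27.f370460 IH) (Lpe (K27.f214352 IH) (Lpe (K27.f214353 IH) (Lpe (K23.f250127 IH) (Lpe (f342462 IH) (Lpr_ct (f177567 IH) (Lpn (LP (LK LD1_c9 LD2_c55 LD3_c39)))))))))))))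
theorem f370516 : Led Lsl_gf (LP (LK LD1_c5 LD2_c2 LD3_c30)) = (LP (LK LD1_c9 LD2_c55 LD3_c39)) :=
  Lgr Lrot76 (Lpr_af (K15.f264261 IH) (Lpe (K18.f264285 IH) (Lpr_gt (f370514 IH) (Lpn (LP (LK LD1_c9 LD2_c55 LD3_c39))))))
theorem f183134 : Led Lsl_ct (LP (LK LD1_c2 LD2_c39 LD3_c35)) = (LP (LK LD1_c1 LD2_c16 LD3_c34)) :=
  Lre_c IH (LK LD1_c2 LD2_c39 LD3_c35) (LK LD1_c1 LD2_c16 LD3_c34) Lrfl Lrfl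
theorem f370519 : Led Lsl_gt (LP (LK LD1_c5 LD2_c9 LD3_c52)) = (LP (LK LD1_c5 LD2_c2 LD3_c23)) :=
  Lgr Lrot9 (Lpe (K22.f335002 IH) (Lpr_gt (K18.f183138 IH) (Lpr_ct (K15.f183132 IH) (Lpr_gt (K17.f183087 IH) (Lpr_ct (f183134 IH) (Lpe (K12.f185627 IH) (Lpe (K15.f212221 IH) (Lpr_gf (f370516 IH) (Lpe (f177567 IH) (Lpn (LP (LK LD1_c5 LD2_c2 LD3_c23))))))))))))
theorem f339775 : Led Lsl_bt (LP (LK LD1_c10 LD2_c8 LD3_c7)) = (LP (LK LD1_c5 LD2_c9 LD3_c52)) :=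
  Lgr Lrot119 (Lpe (K22.f339774 IH) (Lpr_bf (K22.f339761 IH) (Lpr_ef (K22.f335015 IH) (Lpn (LP (LK LD1_c5 LD2_c9 LD3_c52))))))
theorem f341843 : Led Lsl_ct (LP (LK LD1_c10 LD2_c8 LD3_c7)) = (LP (LK LD1_c18 LD2_c27 LD3_c39)) :=
  Lre_c IH (LK LD1_c10 LD2_c8 LD3_c7) (LK LD1_c18 LD2_c27 LD3_c39) Lrfl Lrfl
theorem f330550 : Led Lsl_bt (LP (LK LD1_c15 LD2_c16 LD3_c33)) = (LP (LK LD1_c10 LD2_c15 LD3_c5)) :=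
  Lgr Lrot127 (Lpr_bf (K21.f330548 IH) (Lpn (LP (LK LD1_c10 LD2_c15 LD3_c5))))
theorem f185664 : Led Lsl_bt (LP (LK LD1_c2 LD2_c32 LD3_c56)) = (LP (LK LD1_c5 LD2_c12 LD3_c10)) :=
  Lre_b IH (LK LD1_c2 LD2_c32 LD3_c56) (LK LD1_c5 LD2_c12 LD3_c10) Lrfl Lrfl
theorem f370522 : Led Lsl_cf (LP (LK LD1_c5 LD2_c2 LD3_c30)) = (LP (LK LD1_c2 LD2_c32 LD3_c56)) :=
  Lgr Lrot163 (Lpr_gf (f370516 IH) (Lpe (f177567 IH) (Lpe (f370519 IH) (Lpe (f339775 IH) (Lpr_ct (f341843 IH) (Lpr_gf (K26.f339813 IH) (Lpe (K24.f332880 IH) (Lpr_bt (f330550 IH) (Lpe (K17.f185678 IH) (Lpe (f185664 IH) (Lpn (LP (LK LD1_c2 LD2_c32 LD3_c56)))))))))))))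
theorem f287931 : Led Lsl_gf (LP (LK LD1_c9 LD2_c55 LD3_c38)) = (LP (LK LD1_c5 LD2_c2 LD3_c30)) :=
  Lgr Lrot47 (Lpr_gt (K23.f287927 IH) (Lpe (K22.f264276 IH) (Lpe (K16.f264284 IH) (Lpn (LP (LK LD1_c5 LD2_c2 LD3_c30))))))
theorem f370526 : Led Lsl_gt (LP (LK LD1_c18 LD2_c30 LD3_c57)) = (LP (LK LD1_c18 LD2_c11 LD3_c42)) :=
  Lgr Lrot149 (Lpe (K26.f359621 IH) (Lpr_gf (K26.f359628 IH) (Lpe (K23.f185845 IH) (Lpr_ct (K23.f177571 IH) (Lpr_gf (f287931 IH) (Lpr_cf (f370522 IH) (Lpr_bt (f185664 IH) (Lpe (K23.f185675 IH) (Lpe (K25.f185679 IH) (Lpr_ct (K25.f323258 IH) (Lpn (LP (LK LD1_c18 LD2_c11 LD3_c42)))))))))))))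
theorem f369911 : Led Lsl_ft (LP (LK LD1_c18 LD2_c30 LD3_c57)) = (LP (LK LD1_c10 LD2_c9 LD3_c50)) :=
  Lre_f IH (LK LD1_c18 LD2_c30 LD3_c57) (LK LD1_c10 LD2_c9 LD3_c50) Lrfl Lrfl
theorem f370528 : Led Lsl_at (LP (LK LD1_c10 LD2_c9 LD3_c50)) = (LP (LK LD1_c9 LD2_c56 LD3_c34)) :=
  Lgr Lrot26 (Lpe (f369911 IH) (Lpr_gt (f370526 IH) (Lpr_gt (K25.f278239 IH) (Lpn (LP (LK LD1_c9 LD2_c56 LD3_c34))))))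
theorem f370532 : Led Lsl_af (LP (LK LD1_c5 LD2_c9 LD3_c33)) = (LP (LK LD1_c5 LD2_c2 LD3_c53)) :=
  Lgr Lrot50 (Lpr_et (K23.f288500 IH) (Lpr_at (f370528 IH) (Lpr_et (K24.f214946 IH) (Lpn (LP (LK LD1_c5 LD2_c2 LD3_c53))))))
theorem f370539 : Led Lsl_ft (LP (LK LD1_c5 LD2_c9 LD3_c36)) = (LP (LK LD1_c5 LD2_c2 LD3_c53)) :=
  Lgr Lrot101 (Lpe (K27.f369912 IH) (Lpr_ff (K27.f369905 IH) (Lpr_af (f370532 IH) (Lpn (LP (LK LD1_c5 LD2_c2 LD3_c53))))))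
theorem f214964 : Led Lsl_dt (LP (LK LD1_c5 LD2_c2 LD3_c53)) = (LP (LK LD1_c9 LD2_c56 LD3_c33)) :=
  Lre_d IH (LK LD1_c5 LD2_c2 LD3_c53) (LK LD1_c9 LD2_c56 LD3_c33) Lrfl Lrfl
theorem f370543 : Led Lsl_ff (LP (LK LD1_c10 LD2_c9 LD3_c57)) = (LP (LK LD1_c9 LD2_c56 LD3_c33)) :=
  Lgr Lrot19 (Lpr_dt (K17.f215588 IH) (Lpr_ft (f370539 IH) (Lpr_dt (f214964 IH) (Lpn (LP (LK LD1_c9 LD2_c56 LD3_c33))))))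
theorem f370553 : Led Lsl_ft (LP (LK LD1_c10 LD2_c9 LD3_c57)) = (LP (LK LD1_c9 LD2_c56 LD3_c33)) :=
  Lgr Lrot48 (Lpr_ff (f370543 IH) (Lpn (LP (LK LD1_c9 LD2_c56 LD3_c33))))
theorem f283858 : Led Lsl_bt (LP (LK LD1_c18 LD2_c31 LD3_c2)) = (LP (LK LD1_c10 LD2_c9 LD3_c57)) :=
  Lre_b IH (LK LD1_c18 LD2_c31 LD3_c2) (LK LD1_c10 LD2_c9 LD3_c57) Lrfl Lrfl
theorem f275187 : Led Lsl_bt (LP (LK LD1_c9 LD2_c56 LD3_c33)) = (LP (LK LD1_c18 LD2_c11 LD3_c38)) :=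
  Lre_b IH (LK LD1_c9 LD2_c56 LD3_c33) (LK LD1_c18 LD2_c11 LD3_c38) Lrfl Lrfl
theorem f370555 : Led Lsl_ff (LP (LK LD1_c18 LD2_c31 LD3_c2)) = (LP (LK LD1_c18 LD2_c11 LD3_c38)) :=
  Lgr Lrot25 (Lpr_bt (f283858 IH) (Lpr_ft (f370553 IH) (Lpr_bt (f275187 IH) (Lpn (LP (LK LD1_c18 LD2_c11 LD3_c38))))))
theorem f370575 : Led Lsl_at (LP (LK LD1_c18 LD2_c31 LD3_c2)) = (LP (LK LD1_c28 LD2_c5 LD3_c15)) :=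
  Lre_a IH (LK LD1_c18 LD2_c31 LD3_c2) (LK LD1_c28 LD2_c5 LD3_c15) Lrfl Lrfl
theorem f583663 : Led Lsl_gf (LP (LK LD1_c28 LD2_c5 LD3_c15)) = (LP (LK LD1_c24 LD2_c48 LD3_c22)) :=
  Lgr Lrot76 (Lpe (f370575 IH) (Lpr_ff (f370555 IH) (Lpr_gt (f583661 IH) (Lpn (LP (LK LD1_c24 LD2_c48 LD3_c22))))))
theorem f285473 : Led Lsl_dt (LP (LK LD1_c28 LD2_c5 LD3_c15)) = (LP (LK LD1_c18 LD2_c31 LD3_c1)) :=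
  Lre_d IH (LK LD1_c28 LD2_c5 LD3_c15) (LK LD1_c18 LD2_c31 LD3_c1) Lrfl Lrfl
theorem f285472 : Led Lsl_ct (LP (LK LD1_c18 LD2_c31 LD3_c1)) = (LP (LK LD1_c28 LD2_c5 LD3_c10)) :=
  Lre_c IH (LK LD1_c18 LD2_c31 LD3_c1) (LK LD1_c28 LD2_c5 LD3_c10) Lrfl Lrfl
theorem f246192 : Led Lsl_bt (LP (LK LD1_c10 LD2_c9 LD3_c54)) = (LP (LK LD1_c18 LD2_c30 LD3_c60)) :=
  Lre_b IH (LK LD1_c10 LD2_c9 LD3_c54) (LK LD1_c18 LD2_c30 LD3_c60) Lrfl Lrfl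
theorem f285414 : Led Lsl_bt (LP (LK LD1_c18 LD2_c54 LD3_c31)) = (LP (LK LD1_c10 LD2_c25 LD3_c20)) :=
  Lre_b IH (LK LD1_c18 LD2_c54 LD3_c31) (LK LD1_c10 LD2_c25 LD3_c20) Lrfl Lrfl
theorem f285445 : Led Lsl_dt (LP (LK LD1_c18 LD2_c30 LD3_c60)) = (LP (LK LD1_c18 LD2_c54 LD3_c31)) :=
  Lgr Lrot79 (Lpe (f246192 IH) (Lpr_df (K19.f285441 IH) (Lpe (f285414 IH) (Lpn (LP (LK LD1_c18 LD2_c54 LD3_c31))))))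
theorem f285457 : Led Lsl_at (LP (LK LD1_c28 LD2_c5 LD3_c10)) = (LP (LK LD1_c18 LD2_c30 LD3_c60)) :=
  Lre_a IH (LK LD1_c28 LD2_c5 LD3_c10) (LK LD1_c18 LD2_c30 LD3_c60) Lrfl Lrfl
theorem f285458 : Led Lsl_at (LP (LK LD1_c18 LD2_c54 LD3_c31)) = (LP (LK LD1_c28 LD2_c22 LD3_c19)) :=
  Lre_a IH (LK LD1_c18 LD2_c54 LD3_c31) (LK LD1_c28 LD2_c22 LD3_c19) Lrfl Lrfl
theorem f285459 : Led Lsl_df (LP (LK LD1_c28 LD2_c5 LD3_c10)) = (LP (LK LD1_c28 LD2_c22 LD3_c19)) :=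
  Lgr Lrot18 (Lpr_at (f285457 IH) (Lpr_dt (f285445 IH) (Lpr_at (f285458 IH) (Lpn (LP (LK LD1_c28 LD2_c22 LD3_c19))))))
theorem f45042 : Led Lsl_gt (LP (LK LD1_c8 LD2_c15 LD3_c8)) = (LP (LK LD1_c15 LD2_c31 LD3_c0)) :=
  Lre_g IH (LK LD1_c8 LD2_c15 LD3_c8) (LK LD1_c15 LD2_c31 LD3_c0) Lrfl Lrfl
theorem f45043 : Led Lsl_dt (LP (LK LD1_c15 LD2_c31 LD3_c0)) = (LP (LK LD1_c25 LD2_c23 LD3_c60)) :=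
  Lre_d IH (LK LD1_c15 LD2_c31 LD3_c0) (LK LD1_c25 LD2_c23 LD3_c60) Lrfl Lrfl
theorem f583665 : Led Lsl_gf (LP (LK LD1_c28 LD2_c22 LD3_c19)) = (LP (LK LD1_c25 LD2_c23 LD3_c60)) :=
  Lgr Lrot143 (Lpe (f285459 IH) (Lpe (f285472 IH) (Lpe (f285473 IH) (Lpr_gf (f583663 IH) (Lpe (f44434 IH) (Lpe (f44432 IH) (Lpr_cf (K13.f51305 IH) (Lpr_gt (f45042 IH) (Lpr_dt (f45043 IH) (Lpn (LP (LK LD1_c25 LD2_c23 LD3_c60))))))))))))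
theorem f215603 : Led Lsl_dt (LP (LK LD1_c18 LD2_c31 LD3_c2)) = (LP (LK LD1_c10 LD2_c9 LD3_c56)) :=
  Lre_d IH (LK LD1_c18 LD2_c31 LD3_c2) (LK LD1_c10 LD2_c9 LD3_c56) Lrfl Lrfl
theorem f278357 : Led Lsl_dt (LP (LK LD1_c9 LD2_c56 LD3_c32)) = (LP (LK LD1_c18 LD2_c11 LD3_c38)) :=
  Lre_d IH (LK LD1_c9 LD2_c56 LD3_c32) (LK LD1_c18 LD2_c11 LD3_c38) Lrfl Lrfl
theorem f370882 : Led Lsl_ft (LP (LK LD1_c10 LD2_c9 LD3_c56)) = (LP (LK LD1_c9 LD2_c56 LD3_c32)) :=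
  Lgr Lrot54 (Lpe (f215603 IH) (Lpr_ff (f370555 IH) (Lpe (f278357 IH) (Lpn (LP (LK LD1_c9 LD2_c56 LD3_c32))))))
theorem f242357 : Led Lsl_gt (LP (LK LD1_c10 LD2_c9 LD3_c56)) = (LP (LK LD1_c18 LD2_c30 LD3_c61)) :=
  Lre_g IH (LK LD1_c10 LD2_c9 LD3_c56) (LK LD1_c18 LD2_c30 LD3_c61) Lrfl Lrfl
theorem f278364 : Led Lsl_at (LP (LK LD1_c9 LD2_c56 LD3_c32)) = (LP (LK LD1_c18 LD2_c11 LD3_c37)) :=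
  Lre_a IH (LK LD1_c9 LD2_c56 LD3_c32) (LK LD1_c18 LD2_c11 LD3_c37) Lrfl Lrfl
theorem f370889 : Led Lsl_gt (LP (LK LD1_c18 LD2_c30 LD3_c61)) = (LP (LK LD1_c18 LD2_c11 LD3_c37)) :=
  Lgr Lrot46 (Lpe (f242357 IH) (Lpr_ft (f370882 IH) (Lpr_at (f278364 IH) (Lpn (LP (LK LD1_c18 LD2_c11 LD3_c37))))))
theorem f288344 : Led Lsl_bt (LP (LK LD1_c28 LD2_c5 LD3_c11)) = (LP (LK LD1_c18 LD2_c30 LD3_c61)) :=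
  Lre_b IH (LK LD1_c28 LD2_c5 LD3_c11) (LK LD1_c18 LD2_c30 LD3_c61) Lrfl Lrfl
theorem f242435 : Led Lsl_bt (LP (LK LD1_c10 LD2_c9 LD3_c59)) = (LP (LK LD1_c5 LD2_c9 LD3_c38)) :=
  Lre_b IH (LK LD1_c10 LD2_c9 LD3_c59) (LK LD1_c5 LD2_c9 LD3_c38) Lrfl Lrfl
theorem f196123 : Led Lsl_bt (LP (LK LD1_c10 LD2_c16 LD3_c4)) = (LP (LK LD1_c5 LD2_c12 LD3_c51)) :=
  Lre_b IH (LK LD1_c10 LD2_c16 LD3_c4) (LK LD1_c5 LD2_c12 LD3_c51) Lrfl Lrfl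
theorem f242367 : Led Lsl_cf (LP (LK LD1_c10 LD2_c16 LD3_c4)) = (LP (LK LD1_c10 LD2_c9 LD3_c59)) :=
  Lgr Lrot97 (Lpr_bt (f196123 IH) (Lpr_ct (K13.f196115 IH) (Lpr_bt (K14.f183941 IH) (Lpr_ct (K14.f242345 IH) (Lpr_bt (K26.f242366 IH) (Lpn (LP (LK LD1_c10 LD2_c9 LD3_c59))))))))
theorem f242313 : Led Lsl_gt (LP (LK LD1_c18 LD2_c40 LD3_c32)) = (LP (LK LD1_c10 LD2_c16 LD3_c4)) :=
  Lre_g IH (LK LD1_c18 LD2_c40 LD3_c32) (LK LD1_c10 LD2_c16 LD3_c4) Lrfl Lrfl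
theorem f283829 : Led Lsl_ct (LP (LK LD1_c5 LD2_c2 LD3_c48)) = (LP (LK LD1_c2 LD2_c28 LD3_c58)) :=
  Lre_c IH (LK LD1_c5 LD2_c2 LD3_c48) (LK LD1_c2 LD2_c28 LD3_c58) Lrfl Lrfl
theorem f246194 : Led Lsl_bt (LP (LK LD1_c5 LD2_c9 LD3_c36)) = (LP (LK LD1_c10 LD2_c9 LD3_c56)) :=
  Lre_b IH (LK LD1_c5 LD2_c9 LD3_c36) (LK LD1_c10 LD2_c9 LD3_c56) Lrfl Lrfl
theorem f288345 : Led Lsl_cf (LP (LK LD1_c18 LD2_c40 LD3_c32)) = (LP (LK LD1_c28 LD2_c5 LD3_c11)) :=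
  Lgr Lrot160 (Lpr_gt (f242313 IH) (Lpr_cf (f242367 IH) (Lpr_bt (f242435 IH) (Lpr_gt (K17.f288340 IH) (Lpr_ct (f283829 IH) (Lpe (K17.f283972 IH) (Lpe (K15.f215582 IH) (Lpr_bt (f246194 IH) (Lpr_gt (f242357 IH) (Lpe (f288344 IH) (Lpn (LP (LK LD1_c28 LD2_c5 LD3_c11)))))))))))))
theorem f242431 : Led Lsl_at (LP (LK LD1_c18 LD2_c40 LD3_c33)) = (LP (LK LD1_c10 LD2_c16 LD3_c4)) :=
  Lre_a IH (LK LD1_c18 LD2_c40 LD3_c33) (LK LD1_c10 LD2_c16 LD3_c4) Lrfl Lrfl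
theorem f293621 : Led Lsl_gt (LP (LK LD1_c18 LD2_c26 LD3_c54)) = (LP (LK LD1_c18 LD2_c40 LD3_c32)) :=
  Lgr Lrot5 (Lpr_ft (K18.f293616 IH) (Lpr_at (f242431 IH) (Lpe (f242313 IH) (Lpn (LP (LK LD1_c18 LD2_c40 LD3_c32))))))
theorem f247918 : Led Lsl_bt (LP (LK LD1_c18 LD2_c5 LD3_c33)) = (LP (LK LD1_c9 LD2_c53 LD3_c9)) :=
  Lre_b IH (LK LD1_c18 LD2_c5 LD3_c33) (LK LD1_c9 LD2_c53 LD3_c9) Lrfl Lrfl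
theorem f304205 : Led Lsl_ct (LP (LK LD1_c18 LD2_c33 LD3_c18)) = (LP (LK LD1_c18 LD2_c5 LD3_c33)) :=
  Lgr Lrot83 (Lpe (K26.f304204 IH) (Lpr_cf (K18.f304202 IH) (Lpe (K19.f304121 IH) (Lpe (K25.f293581 IH) (Lpe (f247918 IH) (Lpn (LP (LK LD1_c18 LD2_c5 LD3_c33))))))))
theorem f306280 : Led Lsl_ct (LP (LK LD1_c18 LD2_c26 LD3_c56)) = (LP (LK LD1_c18 LD2_c11 LD3_c51)) :=
  Lgr Lrot40 (Lpr_ff (K18.f293559 IH) (Lpe (f304205 IH) (Lpr_ff (K26.f306275 IH) (Lpn (LP (LK LD1_c18 LD2_c11 LD3_c51))))))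
theorem f306298 : Led Lsl_cf (LP (LK LD1_c18 LD2_c26 LD3_c56)) = (LP (LK LD1_c18 LD2_c11 LD3_c51)) :=
  Lgr Lrot11 (Lpr_ct (f306280 IH) (Lpn (LP (LK LD1_c18 LD2_c11 LD3_c51))))
theorem f294148 : Led Lsl_at (LP (LK LD1_c27 LD2_c52 LD3_c28)) = (LP (LK LD1_c18 LD2_c11 LD3_c51)) :=
  Lre_a IH (LK LD1_c27 LD2_c52 LD3_c28) (LK LD1_c18 LD2_c11 LD3_c51) Lrfl Lrfl
theorem f306302 : Led Lsl_ct (LP (LK LD1_c28 LD2_c2 LD3_c0)) = (LP (LK LD1_c27 LD2_c52 LD3_c28)) :=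
  Lgr Lrot111 (Lpe (K18.f293606 IH) (Lpr_cf (f306298 IH) (Lpe (f294148 IH) (Lpn (LP (LK LD1_c27 LD2_c52 LD3_c28))))))
theorem f306279 : Led Lsl_et (LP (LK LD1_c27 LD2_c52 LD3_c28)) = (LP (LK LD1_c18 LD2_c11 LD3_c49)) :=
  Lre_e IH (LK LD1_c27 LD2_c52 LD3_c28) (LK LD1_c18 LD2_c11 LD3_c49) Lrfl Lrfl
theorem f306304 : Led Lsl_cf (LP (LK LD1_c18 LD2_c26 LD3_c54)) = (LP (LK LD1_c18 LD2_c11 LD3_c49)) :=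
  Lgr Lrot39 (Lpr_et (K18.f293615 IH) (Lpr_ct (f306302 IH) (Lpr_et (f306279 IH) (Lpn (LP (LK LD1_c18 LD2_c11 LD3_c49))))))
theorem f306308 : Led Lsl_ct (LP (LK LD1_c18 LD2_c26 LD3_c54)) = (LP (LK LD1_c18 LD2_c11 LD3_c49)) :=
  Lgr Lrot59 (Lpr_cf (f306304 IH) (Lpn (LP (LK LD1_c18 LD2_c11 LD3_c49))))
theorem f294066 : Led Lsl_bt (LP (LK LD1_c18 LD2_c41 LD3_c12)) = (LP (LK LD1_c18 LD2_c19 LD3_c31)) :=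
  Lgr Lrot127 (Lpr_bf (K18.f294064 IH) (Lpn (LP (LK LD1_c18 LD2_c19 LD3_c31))))
theorem f242990 : Led Lsl_cf (LP (LK LD1_c18 LD2_c19 LD3_c41)) = (LP (LK LD1_c24 LD2_c58 LD3_c47)) :=
  Lgr Lrot11 (Lpr_ct (K18.f242974 IH) (Lpn (LP (LK LD1_c24 LD2_c58 LD3_c47))))
theorem f293632 : Led Lsl_ff (LP (LK LD1_c18 LD2_c41 LD3_c12)) = (LP (LK LD1_c18 LD2_c19 LD3_c41)) :=
  Lgr Lrot23 (Lpr_ct (K18.f240423 IH) (Lpr_ft (K18.f293630 IH) (Lpe (f242990 IH) (Lpn (LP (LK LD1_c18 LD2_c19 LD3_c41))))))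
theorem f294078 : Led Lsl_bt (LP (LK LD1_c18 LD2_c41 LD3_c8)) = (LP (LK LD1_c18 LD2_c19 LD3_c41)) :=
  Lgr Lrot35 (Lpr_ff (K18.f294074 IH) (Lpe (f294066 IH) (Lpr_ff (f293632 IH) (Lpn (LP (LK LD1_c18 LD2_c19 LD3_c41))))))
theorem f306321 : Led Lsl_bf (LP (LK LD1_c18 LD2_c31 LD3_c14)) = (LP (LK LD1_c18 LD2_c11 LD3_c49)) :=
  Lgr Lrot90 (Lpr_ct (K18.f165560 IH) (Lpr_bt (f294078 IH) (Lpr_ct (K18.f242974 IH) (Lpe (K18.f293628 IH) (Lpr_ct (f306308 IH) (Lpn (LP (LK LD1_c18 LD2_c11 LD3_c49))))))))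
theorem f169859 : Led Lsl_gt (LP (LK LD1_c9 LD2_c56 LD3_c40)) = (LP (LK LD1_c18 LD2_c11 LD3_c54)) :=
  Lre_g IH (LK LD1_c9 LD2_c56 LD3_c40) (LK LD1_c18 LD2_c11 LD3_c54) Lrfl Lrfl
theorem f294093 : Led Lsl_gf (LP (LK LD1_c18 LD2_c31 LD3_c14)) = (LP (LK LD1_c18 LD2_c11 LD3_c54)) :=
  Lgr Lrot76 (Lpe (K18.f165558 IH) (Lpr_ff (K18.f294084 IH) (Lpr_gt (f169859 IH) (Lpn (LP (LK LD1_c18 LD2_c11 LD3_c54))))))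
theorem f169956 : Led Lsl_bt (LP (LK LD1_c27 LD2_c52 LD3_c39)) = (LP (LK LD1_c18 LD2_c11 LD3_c54)) :=
  Lre_b IH (LK LD1_c27 LD2_c52 LD3_c39) (LK LD1_c18 LD2_c11 LD3_c54) Lrfl Lrfl
theorem f215590 : Led Lsl_bt (LP (LK LD1_c10 LD2_c9 LD3_c56)) = (LP (LK LD1_c5 LD2_c9 LD3_c36)) :=
  Lre_b IH (LK LD1_c10 LD2_c9 LD3_c56) (LK LD1_c5 LD2_c9 LD3_c36) Lrfl Lrfl
theorem f215592 : Led Lsl_ct (LP (LK LD1_c10 LD2_c9 LD3_c56)) = (LP (LK LD1_c18 LD2_c30 LD3_c60)) :=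
  Lre_c IH (LK LD1_c10 LD2_c9 LD3_c56) (LK LD1_c18 LD2_c30 LD3_c60) Lrfl Lrfl
theorem f215593 : Led Lsl_gt (LP (LK LD1_c28 LD2_c5 LD3_c9)) = (LP (LK LD1_c18 LD2_c30 LD3_c60)) :=
  Lre_g IH (LK LD1_c28 LD2_c5 LD3_c9) (LK LD1_c18 LD2_c30 LD3_c60) Lrfl Lrfl
theorem f215594 : Led Lsl_ct (LP (LK LD1_c27 LD2_c52 LD3_c39)) = (LP (LK LD1_c28 LD2_c5 LD3_c9)) :=
  Lgr Lrot64 (Lpr_bt (f169956 IH) (Lpe (f169859 IH) (Lpe (K19.f169844 IH) (Lpe (K17.f169847 IH) (Lpr_gf (K14.f194158 IH) (Lpe (K14.f190363 IH) (Lpr_gf (K17.f215583 IH) (Lpe (f215590 IH) (Lpr_ct (f215592 IH) (Lpe (f215593 IH) (Lpn (LP (LK LD1_c28 LD2_c5 LD3_c9)))))))))))))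
theorem f278342 : Led Lsl_at (LP (LK LD1_c18 LD2_c53 LD3_c11)) = (LP (LK LD1_c10 LD2_c24 LD3_c37)) :=
  Lre_a IH (LK LD1_c18 LD2_c53 LD3_c11) (LK LD1_c10 LD2_c24 LD3_c37) Lrfl Lrfl
theorem f278365 : Led Lsl_cf (LP (LK LD1_c18 LD2_c53 LD3_c11)) = (LP (LK LD1_c18 LD2_c11 LD3_c37)) :=
  Lgr Lrot1 (Lpr_at (f278342 IH) (Lpr_ct (K23.f278335 IH) (Lpr_at (f278364 IH) (Lpn (LP (LK LD1_c18 LD2_c11 LD3_c37))))))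
theorem f370892 : Led Lsl_gf (LP (LK LD1_c28 LD2_c5 LD3_c9)) = (LP (LK LD1_c18 LD2_c53 LD3_c11)) :=
  Lgr Lrot129 (Lpe (f215594 IH) (Lpr_bt (f169956 IH) (Lpe (f294093 IH) (Lpr_bf (f306321 IH) (Lpe (f306304 IH) (Lpr_gt (f293621 IH) (Lpr_cf (f288345 IH) (Lpr_bt (f288344 IH) (Lpr_gt (f370889 IH) (Lpe (f278365 IH) (Lpn (LP (LK LD1_c18 LD2_c53 LD3_c11)))))))))))))
theorem f370895 : Led Lsl_ff (LP (LK LD1_c28 LD2_c5 LD3_c10)) = (LP (LK LD1_c18 LD2_c53 LD3_c11)) :=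
  Lgr Lrot52 (Lpr_at (f285457 IH) (Lpe (f215593 IH) (Lpr_gf (f370892 IH) (Lpn (LP (LK LD1_c18 LD2_c53 LD3_c11))))))
theorem f370904 : Led Lsl_ft (LP (LK LD1_c28 LD2_c5 LD3_c10)) = (LP (LK LD1_c18 LD2_c53 LD3_c11)) :=
  Lgr Lrot48 (Lpr_ff (f370895 IH) (Lpn (LP (LK LD1_c18 LD2_c53 LD3_c11))))
theorem f278399 : Led Lsl_dt (LP (LK LD1_c18 LD2_c53 LD3_c11)) = (LP (LK LD1_c28 LD2_c20 LD3_c56)) :=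
  Lre_d IH (LK LD1_c18 LD2_c53 LD3_c11) (LK LD1_c28 LD2_c20 LD3_c56) Lrfl Lrfl
theorem f370906 : Led Lsl_ff (LP (LK LD1_c28 LD2_c22 LD3_c19)) = (LP (LK LD1_c28 LD2_c20 LD3_c56)) :=
  Lgr Lrot19 (Lpe (f285459 IH) (Lpr_ft (f370904 IH) (Lpr_dt (f278399 IH) (Lpn (LP (LK LD1_c28 LD2_c20 LD3_c56))))))
theorem f285466 : Led Lsl_at (LP (LK LD1_c28 LD2_c22 LD3_c19)) = (LP (LK LD1_c18 LD2_c54 LD3_c31)) :=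
  Lre_a IH (LK LD1_c28 LD2_c22 LD3_c19) (LK LD1_c18 LD2_c54 LD3_c31) Lrfl Lrfl
theorem f364543 : Led Lsl_at (LP (LK LD1_c18 LD2_c53 LD3_c12)) = (LP (LK LD1_c28 LD2_c20 LD3_c56)) :=
  Lre_a IH (LK LD1_c18 LD2_c53 LD3_c12) (LK LD1_c28 LD2_c20 LD3_c56) Lrfl Lrfl
theorem f370912 : Led Lsl_ft (LP (LK LD1_c18 LD2_c54 LD3_c31)) = (LP (LK LD1_c18 LD2_c53 LD3_c12)) :=
  Lgr Lrot101 (Lpe (f285466 IH) (Lpr_ff (f370906 IH) (Lpe (f364543 IH) (Lpn (LP (LK LD1_c18 LD2_c53 LD3_c12))))))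
theorem f370916 : Led Lsl_ff (LP (LK LD1_c18 LD2_c54 LD3_c31)) = (LP (LK LD1_c18 LD2_c53 LD3_c12)) :=
  Lgr Lrot3 (Lpr_ft (f370912 IH) (Lpn (LP (LK LD1_c18 LD2_c53 LD3_c12))))
theorem f583667 : Led Lsl_gt (LP (LK LD1_c18 LD2_c53 LD3_c12)) = (LP (LK LD1_c25 LD2_c23 LD3_c60)) :=
  Lgr Lrot5 (Lpe (f370916 IH) (Lpr_at (f285458 IH) (Lpr_gf (f583665 IH) (Lpn (LP (LK LD1_c25 LD2_c23 LD3_c60))))))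
theorem f583642 : Led Lsl_ft (LP (LK LD1_c25 LD2_c24 LD3_c2)) = (LP (LK LD1_c24 LD2_c48 LD3_c28)) :=
  Lgr Lrot48 (Lpr_ff (f583638 IH) (Lpn (LP (LK LD1_c24 LD2_c48 LD3_c28))))
theorem f583670 : Led Lsl_at (LP (LK LD1_c24 LD2_c48 LD3_c28)) = (LP (LK LD1_c25 LD2_c23 LD3_c60)) :=
  Lgr Lrot26 (Lpe (f583642 IH) (Lpe (f583653 IH) (Lpr_gt (f583667 IH) (Lpn (LP (LK LD1_c25 LD2_c23 LD3_c60))))))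
theorem f583674 : Led Lsl_cf (LP (LK LD1_c24 LD2_c48 LD3_c25)) = (LP (LK LD1_c25 LD2_c23 LD3_c60)) :=
  Lgr Lrot1 (Lpr_at (K13.f43866 IH) (Lpr_ct (f51310 IH) (Lpr_at (f583670 IH) (Lpn (LP (LK LD1_c25 LD2_c23 LD3_c60))))))
theorem f43892 : Led Lsl_at (LP (LK LD1_c15 LD2_c0 LD3_c51)) = (LP (LK LD1_c24 LD2_c48 LD3_c25)) :=
  Lre_a IH (LK LD1_c15 LD2_c0 LD3_c51) (LK LD1_c24 LD2_c48 LD3_c25) Lrfl Lrfl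
theorem f214536 : Led Lsl_dt (LP (LK LD1_c18 LD2_c11 LD3_c17)) = (LP (LK LD1_c9 LD2_c56 LD3_c23)) :=
  Lre_d IH (LK LD1_c18 LD2_c11 LD3_c17) (LK LD1_c9 LD2_c56 LD3_c23) Lrfl Lrfl
theorem f53499 : Led Lsl_bt (LP (LK LD1_c15 LD2_c33 LD3_c8)) = (LP (LK LD1_c8 LD2_c16 LD3_c18)) :=
  Lre_b IH (LK LD1_c15 LD2_c33 LD3_c8) (LK LD1_c8 LD2_c16 LD3_c18) Lrfl Lrfl
theorem f188398 : Led Lsl_dt (LP (LK LD1_c10 LD2_c25 LD3_c13)) = (LP (LK LD1_c15 LD2_c33 LD3_c8)) :=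
  Lgr Lrot79 (Lpe (K14.f188312 IH) (Lpr_df (K13.f188331 IH) (Lpe (f53499 IH) (Lpn (LP (LK LD1_c15 LD2_c33 LD3_c8))))))
theorem f53518 : Led Lsl_ct (LP (LK LD1_c15 LD2_c33 LD3_c8)) = (LP (LK LD1_c25 LD2_c26 LD3_c29)) :=
  Lre_c IH (LK LD1_c15 LD2_c33 LD3_c8) (LK LD1_c25 LD2_c26 LD3_c29) Lrfl Lrfl
theorem f51332 : Led Lsl_ct (LP (LK LD1_c25 LD2_c23 LD3_c59)) = (LP (LK LD1_c15 LD2_c31 LD3_c0)) :=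
  Lre_c IH (LK LD1_c25 LD2_c23 LD3_c59) (LK LD1_c15 LD2_c31 LD3_c0) Lrfl Lrfl
theorem f583678 : Led Lsl_dt (LP (LK LD1_c25 LD2_c26 LD3_c29)) = (LP (LK LD1_c25 LD2_c23 LD3_c59)) :=
  Lgr Lrot140 (Lpe (f53518 IH) (Lpe (f188398 IH) (Lpe (K14.f214529 IH) (Lpe (f214536 IH) (Lpr_ft (f214322 IH) (Lpr_at (f43892 IH) (Lpr_cf (f583674 IH) (Lpe (f45043 IH) (Lpe (f51332 IH) (Lpn (LP (LK LD1_c25 LD2_c23 LD3_c59))))))))))))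
theorem f184182 : Led Lsl_gt (LP (LK LD1_c25 LD2_c26 LD3_c42)) = (LP (LK LD1_c15 LD2_c33 LD3_c8)) :=
  Lre_g IH (LK LD1_c25 LD2_c26 LD3_c42) (LK LD1_c15 LD2_c33 LD3_c8) Lrfl Lrfl
theorem f51330 : Led Lsl_ct (LP (LK LD1_c15 LD2_c31 LD3_c0)) = (LP (LK LD1_c25 LD2_c23 LD3_c59)) :=
  Lre_c IH (LK LD1_c15 LD2_c31 LD3_c0) (LK LD1_c25 LD2_c23 LD3_c59) Lrfl Lrfl
theorem f50819 : Led Lsl_ct (LP (LK LD1_c7 LD2_c57 LD3_c35)) = (LP (LK LD1_c8 LD2_c15 LD3_c8)) :=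
  Lgr Lrot83 (Lpe (K13.f43853 IH) (Lpe (K14.f43860 IH) (Lpr_bf (K9.f50816 IH) (Lpe (K12.f44976 IH) (Lpe (K13.f45017 IH) (Lpn (LP (LK LD1_c8 LD2_c15 LD3_c8))))))))
theorem f583684 : Led Lsl_cf (LP (LK LD1_c25 LD2_c26 LD3_c42)) = (LP (LK LD1_c18 LD2_c11 LD3_c38)) :=
  Lgr Lrot188 (Lpr_gt (f184182 IH) (Lpr_ct (f53518 IH) (Lpr_dt (f583678 IH) (Lpe (f51330 IH) (Lpe (f45042 IH) (Lpe (f50819 IH) (Lpe (f44431 IH) (Lpr_dt (f51329 IH) (Lpe (f583657 IH) (Lpn (LP (LK LD1_c18 LD2_c11 LD3_c38))))))))))))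
theorem f188333 : Led Lsl_gt (LP (LK LD1_c10 LD2_c25 LD3_c13)) = (LP (LK LD1_c18 LD2_c54 LD3_c17)) :=
  Lre_g IH (LK LD1_c10 LD2_c25 LD3_c13) (LK LD1_c18 LD2_c54 LD3_c17) Lrfl Lrfl
theorem f188334 : Led Lsl_dt (LP (LK LD1_c18 LD2_c54 LD3_c17)) = (LP (LK LD1_c28 LD2_c22 LD3_c3)) :=
  Lre_d IH (LK LD1_c18 LD2_c54 LD3_c17) (LK LD1_c28 LD2_c22 LD3_c3) Lrfl Lrfl
theorem f214472 : Led Lsl_ff (LP (LK LD1_c9 LD2_c56 LD3_c23)) = (LP (LK LD1_c7 LD2_c57 LD3_c35)) :=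
  Lgr Lrot30 (Lpr_at (K13.f214220 IH) (Lpr_ft (K13.f214467 IH) (Lpr_at (K13.f43897 IH) (Lpn (LP (LK LD1_c7 LD2_c57 LD3_c35))))))
theorem f214776 : Led Lsl_gf (LP (LK LD1_c18 LD2_c11 LD3_c16)) = (LP (LK LD1_c15 LD2_c0 LD3_c48)) :=
  Lgr Lrot76 (Lpe (K13.f214220 IH) (Lpr_ff (f214472 IH) (Lpr_gt (f44432 IH) (Lpn (LP (LK LD1_c15 LD2_c0 LD3_c48))))))
theorem f214230 : Led Lsl_dt (LP (LK LD1_c18 LD2_c11 LD3_c16)) = (LP (LK LD1_c27 LD2_c51 LD3_c27)) :=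
  Lre_d IH (LK LD1_c18 LD2_c11 LD3_c16) (LK LD1_c27 LD2_c51 LD3_c27) Lrfl Lrfl
theorem f583690 : Led Lsl_ct (LP (LK LD1_c28 LD2_c22 LD3_c3)) = (LP (LK LD1_c27 LD2_c51 LD3_c27)) :=
  Lgr Lrot7 (Lpe (f188334 IH) (Lpe (f188333 IH) (Lpr_df (K13.f188441 IH) (Lpe (f184182 IH) (Lpr_cf (f583684 IH) (Lpr_gt (f583661 IH) (Lpr_dt (f214778 IH) (Lpe (f214776 IH) (Lpr_dt (f214230 IH) (Lpn (LP (LK LD1_c27 LD2_c51 LD3_c27))))))))))))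
theorem f188465 : Led Lsl_ct (LP (LK LD1_c28 LD2_c22 LD3_c2)) = (LP (LK LD1_c18 LD2_c54 LD3_c17)) :=
  Lre_c IH (LK LD1_c28 LD2_c22 LD3_c2) (LK LD1_c18 LD2_c54 LD3_c17) Lrfl Lrfl
theorem f214239 : Led Lsl_at (LP (LK LD1_c18 LD2_c11 LD3_c17)) = (LP (LK LD1_c27 LD2_c51 LD3_c27)) :=
  Lre_a IH (LK LD1_c18 LD2_c11 LD3_c17) (LK LD1_c27 LD2_c51 LD3_c27) Lrfl Lrfl
theorem f43891 : Led Lsl_bt (LP (LK LD1_c7 LD2_c57 LD3_c36)) = (LP (LK LD1_c15 LD2_c0 LD3_c51)) :=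
  Lre_b IH (LK LD1_c7 LD2_c57 LD3_c36) (LK LD1_c15 LD2_c0 LD3_c51) Lrfl Lrfl
theorem f214330 : Led Lsl_ff (LP (LK LD1_c18 LD2_c11 LD3_c17)) = (LP (LK LD1_c15 LD2_c0 LD3_c51)) :=
  Lgr Lrot25 (Lpr_bt (K13.f214206 IH) (Lpr_ft (K12.f214326 IH) (Lpr_bt (f43891 IH) (Lpn (LP (LK LD1_c15 LD2_c0 LD3_c51))))))
theorem f44410 : Led Lsl_dt (LP (LK LD1_c15 LD2_c0 LD3_c51)) = (LP (LK LD1_c7 LD2_c57 LD3_c35)) :=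
  Lre_d IH (LK LD1_c15 LD2_c0 LD3_c51) (LK LD1_c7 LD2_c57 LD3_c35) Lrfl Lrfl
theorem f51328 : Led Lsl_ct (LP (LK LD1_c15 LD2_c31 LD3_c3)) = (LP (LK LD1_c25 LD2_c24 LD3_c5)) :=
  Lre_c IH (LK LD1_c15 LD2_c31 LD3_c3) (LK LD1_c25 LD2_c24 LD3_c5) Lrfl Lrfl
theorem f583698 : Led Lsl_df (LP (LK LD1_c28 LD2_c22 LD3_c2)) = (LP (LK LD1_c25 LD2_c24 LD3_c5)) :=
  Lgr Lrot13 (Lpr_ct (f188465 IH) (Lpr_dt (f188334 IH) (Lpr_ct (f583690 IH) (Lpe (f214239 IH) (Lpr_ff (f214330 IH) (Lpr_dt (f44410 IH) (Lpr_ct (f50819 IH) (Lpr_dt (K13.f45038 IH) (Lpr_ct (f51328 IH) (Lpn (LP (LK LD1_c25 LD2_c24 LD3_c5))))))))))))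
theorem f49639 : Led Lsl_ct (LP (LK LD1_c25 LD2_c24 LD3_c5)) = (LP (LK LD1_c15 LD2_c31 LD3_c3)) :=
  Lre_c IH (LK LD1_c25 LD2_c24 LD3_c5) (LK LD1_c15 LD2_c31 LD3_c3) Lrfl Lrfl
theorem f53519 : Led Lsl_ff (LP (LK LD1_c25 LD2_c24 LD3_c5)) = (LP (LK LD1_c25 LD2_c26 LD3_c29)) :=
  Lgr Lrot23 (Lpr_ct (f49639 IH) (Lpr_ft (K13.f53514 IH) (Lpr_ct (f53518 IH) (Lpn (LP (LK LD1_c25 LD2_c26 LD3_c29))))))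
theorem f583682 : Led Lsl_df (LP (LK LD1_c25 LD2_c26 LD3_c29)) = (LP (LK LD1_c25 LD2_c23 LD3_c59)) :=
  Lgr Lrot38 (Lpr_dt (f583678 IH) (Lpn (LP (LK LD1_c25 LD2_c23 LD3_c59))))
theorem f583704 : Led Lsl_ft (LP (LK LD1_c28 LD2_c22 LD3_c2)) = (LP (LK LD1_c25 LD2_c23 LD3_c59)) :=
  Lgr Lrot54 (Lpr_df (f583698 IH) (Lpr_ff (f53519 IH) (Lpr_df (f583682 IH) (Lpn (LP (LK LD1_c25 LD2_c23 LD3_c59))))))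
theorem f583710 : Led Lsl_ff (LP (LK LD1_c28 LD2_c22 LD3_c2)) = (LP (LK LD1_c25 LD2_c23 LD3_c59)) :=
  Lgr Lrot3 (Lpr_ft (f583704 IH) (Lpn (LP (LK LD1_c25 LD2_c23 LD3_c59))))
theorem f3728 : Led Lsl_bt (LP (LK LD1_c9 LD2_c52 LD3_c5)) = (LP (LK LD1_c5 LD2_c0 LD3_c52)) :=
  Lre_b IH (LK LD1_c9 LD2_c52 LD3_c5) (LK LD1_c5 LD2_c0 LD3_c52) Lrfl Lrfl
theorem f320841 : Led Lsl_ff (LP (LK LD1_c9 LD2_c52 LD3_c5)) = (LP (LK LD1_c5 LD2_c1 LD3_c47)) :=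
  Lgr Lrot25 (Lpr_bt (f3728 IH) (Lpr_ft (K20.f320839 IH) (Lpr_bt (K10.f190483 IH) (Lpn (LP (LK LD1_c5 LD2_c1 LD3_c47))))))
theorem f190500 : Led Lsl_gt (LP (LK LD1_c5 LD2_c1 LD3_c47)) = (LP (LK LD1_c9 LD2_c53 LD3_c58)) :=
  Lre_g IH (LK LD1_c5 LD2_c1 LD3_c47) (LK LD1_c9 LD2_c53 LD3_c58) Lrfl Lrfl
theorem f402462 : Led Lsl_gf (LP (LK LD1_c18 LD2_c3 LD3_c51)) = (LP (LK LD1_c9 LD2_c53 LD3_c58)) :=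
  Lgr Lrot76 (Lpe (K22.f333102 IH) (Lpr_ff (f320841 IH) (Lpr_gt (f190500 IH) (Lpn (LP (LK LD1_c9 LD2_c53 LD3_c58))))))
theorem f343081 : Led Lsl_ft (LP (LK LD1_c15 LD2_c36 LD3_c20)) = (LP (LK LD1_c10 LD2_c20 LD3_c52)) :=
  Lgr Lrot101 (Lpe (K37.f252840 IH) (Lpr_ff (K23.f343076 IH) (Lpe (K26.f180989 IH) (Lpn (LP (LK LD1_c10 LD2_c20 LD3_c52))))))
theorem f180999 : Led Lsl_gt (LP (LK LD1_c10 LD2_c20 LD3_c51)) = (LP (LK LD1_c5 LD2_c15 LD3_c46)) :=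
  Lre_g IH (LK LD1_c10 LD2_c20 LD3_c51) (LK LD1_c5 LD2_c15 LD3_c46) Lrfl Lrfl
theorem f395130 : Led Lsl_gt (LP (LK LD1_c15 LD2_c36 LD3_c20)) = (LP (LK LD1_c10 LD2_c20 LD3_c51)) :=
  Lgr Lrot5 (Lpr_ft (f343081 IH) (Lpr_at (K26.f180989 IH) (Lpe (f180999 IH) (Lpn (LP (LK LD1_c10 LD2_c20 LD3_c51))))))
theorem f181001 : Led Lsl_ct (LP (LK LD1_c18 LD2_c46 LD3_c45)) = (LP (LK LD1_c10 LD2_c20 LD3_c51)) :=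
  Lre_c IH (LK LD1_c18 LD2_c46 LD3_c45) (LK LD1_c10 LD2_c20 LD3_c51) Lrfl Lrfl
theorem f180754 : Led Lsl_bt (LP (LK LD1_c5 LD2_c15 LD3_c46)) = (LP (LK LD1_c2 LD2_c34 LD3_c44)) :=
  Lre_b IH (LK LD1_c5 LD2_c15 LD3_c46) (LK LD1_c2 LD2_c34 LD3_c44) Lrfl Lrfl
theorem f180756 : Led Lsl_cf (LP (LK LD1_c5 LD2_c15 LD3_c46)) = (LP (LK LD1_c9 LD2_c52 LD3_c2)) :=
  Lgr Lrot97 (Lpr_bt (f180754 IH) (Lpr_ct (K21.f45504 IH) (Lpr_bt (K12.f180753 IH) (Lpr_ct (K10.f180748 IH) (Lpr_bt (K26.f180755 IH) (Lpn (LP (LK LD1_c9 LD2_c52 LD3_c2))))))))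
theorem f3367 : Led Lsl_bt (LP (LK LD1_c9 LD2_c52 LD3_c2)) = (LP (LK LD1_c5 LD2_c0 LD3_c51)) :=
  Lre_b IH (LK LD1_c9 LD2_c52 LD3_c2) (LK LD1_c5 LD2_c0 LD3_c51) Lrfl Lrfl
theorem f33391 : Led Lsl_gt (LP (LK LD1_c9 LD2_c34 LD3_c42)) = (LP (LK LD1_c17 LD2_c38 LD3_c18)) :=
  Lre_g IH (LK LD1_c9 LD2_c34 LD3_c42) (LK LD1_c17 LD2_c38 LD3_c18) Lrfl Lrfl
theorem f181032 : Led Lsl_bt (LP (LK LD1_c18 LD2_c46 LD3_c45)) = (LP (LK LD1_c17 LD2_c38 LD3_c18)) :=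
  Lgr Lrot92 (Lpr_ct (f181001 IH) (Lpr_gt (f180999 IH) (Lpr_cf (f180756 IH) (Lpr_bt (f3367 IH) (Lpr_gt (K10.f3334 IH) (Lpr_ct (K0.f3311 IH) (Lpe (K10.f33356 IH) (Lpe (K14.f33362 IH) (Lpr_bt (K15.f33368 IH) (Lpr_gt (f33391 IH) (Lpn (LP (LK LD1_c17 LD2_c38 LD3_c18)))))))))))))
theorem f333185 : Led Lsl_at (LP (LK LD1_c5 LD2_c1 LD3_c34)) = (LP (LK LD1_c9 LD2_c53 LD3_c27)) :=
  Lre_a IH (LK LD1_c5 LD2_c1 LD3_c34) (LK LD1_c9 LD2_c53 LD3_c27) Lrfl Lrfl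
theorem f333230 : Led Lsl_gf (LP (LK LD1_c9 LD2_c53 LD3_c27)) = (LP (LK LD1_c17 LD2_c38 LD3_c18)) :=
  Lgr Lrot76 (Lpe (f333185 IH) (Lpr_ff (K22.f333222 IH) (Lpr_gt (f33391 IH) (Lpn (LP (LK LD1_c17 LD2_c38 LD3_c18))))))
theorem f333193 : Led Lsl_ct (LP (LK LD1_c9 LD2_c53 LD3_c27)) = (LP (LK LD1_c18 LD2_c5 LD3_c49)) :=
  Lre_c IH (LK LD1_c9 LD2_c53 LD3_c27) (LK LD1_c18 LD2_c5 LD3_c49) Lrfl Lrfl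
theorem f192026 : Led Lsl_at (LP (LK LD1_c10 LD2_c25 LD3_c52)) = (LP (LK LD1_c5 LD2_c18 LD3_c4)) :=
  Lre_a IH (LK LD1_c10 LD2_c25 LD3_c52) (LK LD1_c5 LD2_c18 LD3_c4) Lrfl Lrfl
theorem f191527 : Led Lsl_gt (LP (LK LD1_c10 LD2_c25 LD3_c51)) = (LP (LK LD1_c5 LD2_c18 LD3_c4)) :=
  Lre_g IH (LK LD1_c10 LD2_c25 LD3_c51) (LK LD1_c5 LD2_c18 LD3_c4) Lrfl Lrfl
theorem f333245 : Led Lsl_gt (LP (LK LD1_c18 LD2_c5 LD3_c49)) = (LP (LK LD1_c10 LD2_c25 LD3_c51)) :=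
  Lgr Lrot5 (Lpr_ft (K22.f333238 IH) (Lpr_at (f192026 IH) (Lpe (f191527 IH) (Lpn (LP (LK LD1_c10 LD2_c25 LD3_c51))))))
theorem f190545 : Led Lsl_bt (LP (LK LD1_c18 LD2_c6 LD3_c42)) = (LP (LK LD1_c9 LD2_c53 LD3_c58)) :=
  Lre_b IH (LK LD1_c18 LD2_c6 LD3_c42) (LK LD1_c9 LD2_c53 LD3_c58) Lrfl Lrfl
theorem f402465 : Led Lsl_cf (LP (LK LD1_c10 LD2_c25 LD3_c51)) = (LP (LK LD1_c18 LD2_c6 LD3_c42)) :=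
  Lgr Lrot163 (Lpe (f333245 IH) (Lpe (f333193 IH) (Lpr_gf (f333230 IH) (Lpe (f181032 IH) (Lpr_ct (f181001 IH) (Lpe (f395130 IH) (Lpr_cf (K37.f252892 IH) (Lpr_bt (K22.f333097 IH) (Lpr_gf (f402462 IH) (Lpe (f190545 IH) (Lpn (LP (LK LD1_c18 LD2_c6 LD3_c42)))))))))))))
theorem f402468 : Led Lsl_bt (LP (LK LD1_c10 LD2_c25 LD3_c51)) = (LP (LK LD1_c18 LD2_c55 LD3_c9)) :=
  Lre_b IH (LK LD1_c10 LD2_c25 LD3_c51) (LK LD1_c18 LD2_c55 LD3_c9) Lrfl Lrfl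
theorem f190562 : Led Lsl_bt (LP (LK LD1_c9 LD2_c53 LD3_c58)) = (LP (LK LD1_c18 LD2_c6 LD3_c42)) :=
  Lre_b IH (LK LD1_c9 LD2_c53 LD3_c58) (LK LD1_c18 LD2_c6 LD3_c42) Lrfl Lrfl
theorem f190501 : Led Lsl_ct (LP (LK LD1_c18 LD2_c6 LD3_c43)) = (LP (LK LD1_c9 LD2_c53 LD3_c58)) :=
  Lre_c IH (LK LD1_c18 LD2_c6 LD3_c43) (LK LD1_c9 LD2_c53 LD3_c58) Lrfl Lrfl
theorem f190579 : Led Lsl_bt (LP (LK LD1_c27 LD2_c47 LD3_c40)) = (LP (LK LD1_c18 LD2_c6 LD3_c43)) :=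
  Lre_b IH (LK LD1_c27 LD2_c47 LD3_c40) (LK LD1_c18 LD2_c6 LD3_c43) Lrfl Lrfl
theorem f402469 : Led Lsl_ct (LP (LK LD1_c18 LD2_c55 LD3_c9)) = (LP (LK LD1_c27 LD2_c47 LD3_c40)) :=
  Lgr Lrot83 (Lpe (f402468 IH) (Lpr_cf (f402465 IH) (Lpe (f190562 IH) (Lpe (f190501 IH) (Lpe (f190579 IH) (Lpn (LP (LK LD1_c27 LD2_c47 LD3_c40))))))))
theorem f191528 : Led Lsl_bt (LP (LK LD1_c18 LD2_c55 LD3_c9)) = (LP (LK LD1_c10 LD2_c25 LD3_c51)) :=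
  Lre_b IH (LK LD1_c18 LD2_c55 LD3_c9) (LK LD1_c10 LD2_c25 LD3_c51) Lrfl Lrfl
theorem f402506 : Led Lsl_gt (LP (LK LD1_c25 LD2_c23 LD3_c59)) = (LP (LK LD1_c27 LD2_c47 LD3_c40)) :=
  Lgr Lrot149 (Lpe (f51330 IH) (Lpe (f45042 IH) (Lpe (f45051 IH) (Lpr_ct (K12.f44976 IH) (Lpe (K10.f45012 IH) (Lpr_cf (K10.f191516 IH) (Lpr_bt (K22.f191526 IH) (Lpe (f191527 IH) (Lpe (f191528 IH) (Lpr_ct (f402469 IH) (Lpn (LP (LK LD1_c27 LD2_c47 LD3_c40)))))))))))))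
theorem f3589 : Led Lsl_ct (LP (LK LD1_c9 LD2_c53 LD3_c61)) = (LP (LK LD1_c5 LD2_c1 LD3_c47)) :=
  Lre_c IH (LK LD1_c9 LD2_c53 LD3_c61) (LK LD1_c5 LD2_c1 LD3_c47) Lrfl Lrfl
theorem f190502 : Led Lsl_bt (LP (LK LD1_c18 LD2_c6 LD3_c43)) = (LP (LK LD1_c27 LD2_c47 LD3_c40)) :=
  Lre_b IH (LK LD1_c18 LD2_c6 LD3_c43) (LK LD1_c27 LD2_c47 LD3_c40) Lrfl Lrfl
theorem f51312 : Led Lsl_ct (LP (LK LD1_c25 LD2_c24 LD3_c1)) = (LP (LK LD1_c15 LD2_c31 LD3_c1)) :=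
  Lre_c IH (LK LD1_c25 LD2_c24 LD3_c1) (LK LD1_c15 LD2_c31 LD3_c1) Lrfl Lrfl
theorem f214346 : Led Lsl_gt (LP (LK LD1_c27 LD2_c47 LD3_c40)) = (LP (LK LD1_c25 LD2_c24 LD3_c1)) :=
  Lgr Lrot82 (Lpe (f190502 IH) (Lpr_ct (f190501 IH) (Lpe (f190500 IH) (Lpe (f3589 IH) (Lpe (K10.f190484 IH) (Lpr_gf (K14.f214342 IH) (Lpe (K14.f43896 IH) (Lpr_ct (f50819 IH) (Lpe (f45046 IH) (Lpe (f51312 IH) (Lpn (LP (LK LD1_c25 LD2_c24 LD3_c1)))))))))))))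
theorem f583714 : Led Lsl_at (LP (LK LD1_c28 LD2_c22 LD3_c2)) = (LP (LK LD1_c25 LD2_c24 LD3_c1)) :=
  Lgr Lrot26 (Lpr_ff (f583710 IH) (Lpr_gt (f402506 IH) (Lpr_gt (f214346 IH) (Lpn (LP (LK LD1_c25 LD2_c24 LD3_c1))))))
theorem f188452 : Led Lsl_ct (LP (LK LD1_c18 LD2_c54 LD3_c17)) = (LP (LK LD1_c28 LD2_c22 LD3_c2)) :=
  Lre_c IH (LK LD1_c18 LD2_c54 LD3_c17) (LK LD1_c28 LD2_c22 LD3_c2) Lrfl Lrfl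
theorem f583718 : Led Lsl_af (LP (LK LD1_c18 LD2_c54 LD3_c17)) = (LP (LK LD1_c15 LD2_c31 LD3_c1)) :=
  Lgr Lrot68 (Lpr_ct (f188452 IH) (Lpr_at (f583714 IH) (Lpr_ct (f51312 IH) (Lpn (LP (LK LD1_c15 LD2_c31 LD3_c1))))))
theorem f51311 : Led Lsl_ct (LP (LK LD1_c24 LD2_c48 LD3_c28)) = (LP (LK LD1_c15 LD2_c0 LD3_c51)) :=
  Lre_c IH (LK LD1_c24 LD2_c48 LD3_c28) (LK LD1_c15 LD2_c0 LD3_c51) Lrfl Lrfl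
theorem f583724 : Led Lsl_ft (LP (LK LD1_c18 LD2_c54 LD3_c18)) = (LP (LK LD1_c15 LD2_c31 LD3_c1)) :=
  Lgr Lrot2 (Lpr_gt (K14.f188454 IH) (Lpr_gt (f188333 IH) (Lpr_af (f583718 IH) (Lpn (LP (LK LD1_c15 LD2_c31 LD3_c1))))))
theorem f583726 : Led Lsl_df (LP (LK LD1_c24 LD2_c48 LD3_c28)) = (LP (LK LD1_c18 LD2_c54 LD3_c18)) :=
  Lgr Lrot157 (Lpr_ct (f51311 IH) (Lpr_dt (f44410 IH) (Lpr_ct (f50819 IH) (Lpr_dt (K13.f45038 IH) (Lpr_ct (f51328 IH) (Lpe (f583698 IH) (Lpr_ct (f188465 IH) (Lpr_af (f583718 IH) (Lpe (f583724 IH) (Lpn (LP (LK LD1_c18 LD2_c54 LD3_c18))))))))))))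
theorem f185185 : Led Lsl_bf (LP (LK LD1_c5 LD2_c11 LD3_c13)) = (LP (LK LD1_c2 LD2_c35 LD3_c50)) :=
  Lgr Lrot90 (Lpr_ct (K37.f163774 IH) (Lpr_bt (f163773 IH) (Lpr_ct (K10.f185181 IH) (Lpr_bt (K12.f185184 IH) (Lpr_ct (K10.f32891 IH) (Lpn (LP (LK LD1_c2 LD2_c35 LD3_c50))))))))
theorem f185694 : Led Lsl_gt (LP (LK LD1_c5 LD2_c11 LD3_c13)) = (LP (LK LD1_c10 LD2_c12 LD3_c60)) :=
  Lre_g IH (LK LD1_c5 LD2_c11 LD3_c13) (LK LD1_c10 LD2_c12 LD3_c60) Lrfl Lrfl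
theorem f583736 : Led Lsl_dt (LP (LK LD1_c10 LD2_c12 LD3_c60)) = (LP (LK LD1_c17 LD2_c45 LD3_c49)) :=
  Lgr Lrot182 (Lpe (f185694 IH) (Lpr_bf (f185185 IH) (Lpe (K10.f32891 IH) (Lpe (K14.f248466 IH) (Lpr_gf (K14.f256262 IH) (Lpe (K15.f256276 IH) (Lpr_cf (K19.f265926 IH) (Lpe (K15.f184817 IH) (Lpe (K15.f184765 IH) (Lpe (K18.f190354 IH) (Lpe (K14.f190363 IH) (Lpe (K14.f190370 IH) (Lpr_gf (K14.f215025 IH) (Lpe (K13.f43865 IH) (Lpe (f51311 IH) (Lpr_df (f583726 IH) (Lpr_gf (K14.f188479 IH) (Lpr_bf (f49955 IH) (Lpe (f51320 IH) (Lpn (LP (LK LD1_c17 LD2_c45 LD3_c49))))))))))))))))))))))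
theorem f307604 : Led Lsl_dt (LP (LK LD1_c18 LD2_c15 LD3_c53)) = (LP (LK LD1_c9 LD2_c59 LD3_c23)) :=
  Lre_d IH (LK LD1_c18 LD2_c15 LD3_c53) (LK LD1_c9 LD2_c59 LD3_c23) Lrfl Lrfl
theorem f583742 : Led Lsl_ff (LP (LK LD1_c10 LD2_c12 LD3_c60)) = (LP (LK LD1_c9 LD2_c59 LD3_c23)) :=
  Lgr Lrot19 (Lpr_dt (f583736 IH) (Lpr_ft (f583590 IH) (Lpr_dt (f307604 IH) (Lpn (LP (LK LD1_c9 LD2_c59 LD3_c23))))))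
theorem f583770 : Led Lsl_at (LP (LK LD1_c10 LD2_c12 LD3_c60)) = (LP (LK LD1_c9 LD2_c59 LD3_c24)) :=
  Lgr Lrot26 (Lpr_ff (f583742 IH) (Lpe (K37.f307602 IH) (Lpr_gt (K38.f405304 IH) (Lpn (LP (LK LD1_c9 LD2_c59 LD3_c24))))))
theorem f405306 : Led Lsl_ct (LP (LK LD1_c9 LD2_c59 LD3_c24)) = (LP (LK LD1_c9 LD2_c57 LD3_c43)) :=
  Lre_c IH (LK LD1_c9 LD2_c59 LD3_c24) (LK LD1_c9 LD2_c57 LD3_c43) Lrfl Lrfl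
theorem f583493 : Led Lsl_at (LP (LK LD1_c9 LD2_c57 LD3_c43)) = (LP (LK LD1_c18 LD2_c13 LD3_c45)) :=
  Lre_a IH (LK LD1_c9 LD2_c57 LD3_c43) (LK LD1_c18 LD2_c13 LD3_c45) Lrfl Lrfl
theorem f583772 : Led Lsl_cf (LP (LK LD1_c10 LD2_c12 LD3_c60)) = (LP (LK LD1_c18 LD2_c13 LD3_c45)) :=
  Lgr Lrot1 (Lpr_at (f583770 IH) (Lpr_ct (f405306 IH) (Lpr_at (f583493 IH) (Lpn (LP (LK LD1_c18 LD2_c13 LD3_c45))))))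
theorem f21375 : Led Lsl_bt (LP (LK LD1_c1 LD2_c13 LD3_c17)) = (LP (LK LD1_c0 LD2_c33 LD3_c58)) :=
  Lre_b IH (LK LD1_c1 LD2_c13 LD3_c17) (LK LD1_c0 LD2_c33 LD3_c58) Lrfl Lrfl
theorem f21880 : Led Lsl_ct (LP (LK LD1_c1 LD2_c13 LD3_c17)) = (LP (LK LD1_c2 LD2_c31 LD3_c46)) :=
  Lre_c IH (LK LD1_c1 LD2_c13 LD3_c17) (LK LD1_c2 LD2_c31 LD3_c46) Lrfl Lrfl
theorem f21925 : Led Lsl_gt (LP (LK LD1_c5 LD2_c9 LD3_c16)) = (LP (LK LD1_c2 LD2_c31 LD3_c46)) :=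
  Lre_g IH (LK LD1_c5 LD2_c9 LD3_c16) (LK LD1_c2 LD2_c31 LD3_c46) Lrfl Lrfl
theorem f163867 : Led Lsl_ct (LP (LK LD1_c10 LD2_c9 LD3_c10)) = (LP (LK LD1_c5 LD2_c9 LD3_c16)) :=
  Lre_c IH (LK LD1_c10 LD2_c9 LD3_c10) (LK LD1_c5 LD2_c9 LD3_c16) Lrfl Lrfl
theorem f177240 : Led Lsl_gt (LP (LK LD1_c18 LD2_c29 LD3_c20)) = (LP (LK LD1_c10 LD2_c9 LD3_c10)) :=
  Lre_g IH (LK LD1_c18 LD2_c29 LD3_c20) (LK LD1_c10 LD2_c9 LD3_c10) Lrfl Lrfl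
theorem f583778 : Led Lsl_bf (LP (LK LD1_c18 LD2_c29 LD3_c20)) = (LP (LK LD1_c18 LD2_c13 LD3_c45)) :=
  Lgr Lrot165 (Lpr_gt (f177240 IH) (Lpr_ct (f163867 IH) (Lpr_gt (f21925 IH) (Lpe (f21880 IH) (Lpr_bt (f21375 IH) (Lpr_gt (K10.f21996 IH) (Lpe (f163773 IH) (Lpr_ct (f163776 IH) (Lpr_gt (f185694 IH) (Lpr_cf (f583772 IH) (Lpn (LP (LK LD1_c18 LD2_c13 LD3_c45)))))))))))))
theorem f583768 : Led Lsl_ft (LP (LK LD1_c10 LD2_c12 LD3_c60)) = (LP (LK LD1_c9 LD2_c59 LD3_c23)) :=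
  Lgr Lrot48 (Lpr_ff (f583742 IH) (Lpn (LP (LK LD1_c9 LD2_c59 LD3_c23))))
theorem f307942 : Led Lsl_at (LP (LK LD1_c5 LD2_c11 LD3_c21)) = (LP (LK LD1_c2 LD2_c32 LD3_c38)) :=
  Lre_a IH (LK LD1_c5 LD2_c11 LD3_c21) (LK LD1_c2 LD2_c32 LD3_c38) Lrfl Lrfl
theorem f307943 : Led Lsl_ff (LP (LK LD1_c5 LD2_c11 LD3_c21)) = (LP (LK LD1_c5 LD2_c4 LD3_c3)) :=
  Lgr Lrot30 (Lpr_at (f307942 IH) (Lpr_ft (K19.f307940 IH) (Lpr_at (K38.f267976 IH) (Lpn (LP (LK LD1_c5 LD2_c4 LD3_c3))))))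
theorem f405264 : Led Lsl_gf (LP (LK LD1_c5 LD2_c11 LD3_c20)) = (LP (LK LD1_c5 LD2_c4 LD3_c3)) :=
  Lgr Lrot47 (Lpr_gt (K19.f186611 IH) (Lpe (f307942 IH) (Lpr_ff (f307943 IH) (Lpn (LP (LK LD1_c5 LD2_c4 LD3_c3))))))
theorem f32699 : Led Lsl_ct (LP (LK LD1_c2 LD2_c35 LD3_c61)) = (LP (LK LD1_c5 LD2_c18 LD3_c46)) :=
  Lre_c IH (LK LD1_c2 LD2_c35 LD3_c61) (LK LD1_c5 LD2_c18 LD3_c46) Lrfl Lrfl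
theorem f186642 : Led Lsl_bt (LP (LK LD1_c2 LD2_c35 LD3_c61)) = (LP (LK LD1_c5 LD2_c18 LD3_c45)) :=
  Lre_b IH (LK LD1_c2 LD2_c35 LD3_c61) (LK LD1_c5 LD2_c18 LD3_c45) Lrfl Lrfl
theorem f185245 : Led Lsl_gt (LP (LK LD1_c5 LD2_c18 LD3_c45)) = (LP (LK LD1_c10 LD2_c27 LD3_c11)) :=
  Lre_g IH (LK LD1_c5 LD2_c18 LD3_c45) (LK LD1_c10 LD2_c27 LD3_c11) Lrfl Lrfl
theorem f405268 : Led Lsl_ct (LP (LK LD1_c10 LD2_c27 LD3_c11)) = (LP (LK LD1_c9 LD2_c59 LD3_c23)) :=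
  Lgr Lrot91 (Lpe (f185245 IH) (Lpe (f186642 IH) (Lpr_ct (f32699 IH) (Lpe (K19.f71685 IH) (Lpr_cf (K19.f186613 IH) (Lpr_bt (K19.f186612 IH) (Lpr_gf (f405264 IH) (Lpr_bf (K15.f267978 IH) (Lpr_ct (K38.f267981 IH) (Lpr_gf (K37.f307602 IH) (Lpn (LP (LK LD1_c9 LD2_c59 LD3_c23)))))))))))))
theorem f405271 : Led Lsl_cf (LP (LK LD1_c10 LD2_c27 LD3_c11)) = (LP (LK LD1_c9 LD2_c59 LD3_c23)) :=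
  Lgr Lrot11 (Lpr_ct (f405268 IH) (Lpn (LP (LK LD1_c9 LD2_c59 LD3_c23))))
theorem f583776 : Led Lsl_ft (LP (LK LD1_c10 LD2_c27 LD3_c11)) = (LP (LK LD1_c18 LD2_c13 LD3_c45)) :=
  Lgr Lrot4 (Lpr_cf (f405271 IH) (Lpe (f583768 IH) (Lpr_cf (f583772 IH) (Lpn (LP (LK LD1_c18 LD2_c13 LD3_c45))))))
theorem f166079 : Led Lsl_gt (LP (LK LD1_c5 LD2_c4 LD3_c13)) = (LP (LK LD1_c2 LD2_c29 LD3_c32)) :=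
  Lre_g IH (LK LD1_c5 LD2_c4 LD3_c13) (LK LD1_c2 LD2_c29 LD3_c32) Lrfl Lrfl
theorem f166080 : Led Lsl_bt (LP (LK LD1_c9 LD2_c59 LD3_c18)) = (LP (LK LD1_c5 LD2_c4 LD3_c13)) :=
  Lre_b IH (LK LD1_c9 LD2_c59 LD3_c18) (LK LD1_c5 LD2_c4 LD3_c13) Lrfl Lrfl
theorem f31689 : Led Lsl_ct (LP (LK LD1_c0 LD2_c34 LD3_c33)) = (LP (LK LD1_c0 LD2_c15 LD3_c29)) :=
  Lre_c IH (LK LD1_c0 LD2_c34 LD3_c33) (LK LD1_c0 LD2_c15 LD3_c29) Lrfl Lrfl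
theorem f32596 : Led Lsl_bt (LP (LK LD1_c0 LD2_c34 LD3_c33)) = (LP (LK LD1_c1 LD2_c14 LD3_c31)) :=
  Lre_b IH (LK LD1_c0 LD2_c34 LD3_c33) (LK LD1_c1 LD2_c14 LD3_c31) Lrfl Lrfl
theorem f48580 : Led Lsl_gt (LP (LK LD1_c1 LD2_c14 LD3_c31)) = (LP (LK LD1_c2 LD2_c35 LD3_c3)) :=
  Lre_g IH (LK LD1_c1 LD2_c14 LD3_c31) (LK LD1_c2 LD2_c35 LD3_c3) Lrfl Lrfl
theorem f35083 : Led Lsl_ct (LP (LK LD1_c2 LD2_c35 LD3_c3)) = (LP (LK LD1_c5 LD2_c16 LD3_c37)) :=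
  Lre_c IH (LK LD1_c2 LD2_c35 LD3_c3) (LK LD1_c5 LD2_c16 LD3_c37) Lrfl Lrfl
theorem f35082 : Led Lsl_gt (LP (LK LD1_c5 LD2_c16 LD3_c37)) = (LP (LK LD1_c10 LD2_c22 LD3_c41)) :=
  Lre_g IH (LK LD1_c5 LD2_c16 LD3_c37) (LK LD1_c10 LD2_c22 LD3_c41) Lrfl Lrfl
theorem f165882 : Led Lsl_bt (LP (LK LD1_c1 LD2_c11 LD3_c51)) = (LP (LK LD1_c2 LD2_c29 LD3_c32)) :=
  Lre_b IH (LK LD1_c1 LD2_c11 LD3_c51) (LK LD1_c2 LD2_c29 LD3_c32) Lrfl Lrfl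
theorem f166081 : Led Lsl_cf (LP (LK LD1_c10 LD2_c22 LD3_c41)) = (LP (LK LD1_c9 LD2_c59 LD3_c18)) :=
  Lgr Lrot163 (Lpe (f35082 IH) (Lpe (f35083 IH) (Lpe (f48580 IH) (Lpe (f32596 IH) (Lpr_ct (f31689 IH) (Lpe (K9.f31448 IH) (Lpr_cf (K9.f165885 IH) (Lpr_bt (f165882 IH) (Lpe (f166079 IH) (Lpe (f166080 IH) (Lpn (LP (LK LD1_c9 LD2_c59 LD3_c18)))))))))))))
theorem f166100 : Led Lsl_bt (LP (LK LD1_c2 LD2_c35 LD3_c3)) = (LP (LK LD1_c5 LD2_c16 LD3_c36)) :=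
  Lre_b IH (LK LD1_c2 LD2_c35 LD3_c3) (LK LD1_c5 LD2_c16 LD3_c36) Lrfl Lrfl
theorem f166101 : Led Lsl_gt (LP (LK LD1_c10 LD2_c22 LD3_c38)) = (LP (LK LD1_c5 LD2_c16 LD3_c36)) :=
  Lre_g IH (LK LD1_c10 LD2_c22 LD3_c38) (LK LD1_c5 LD2_c16 LD3_c36) Lrfl Lrfl
theorem f405274 : Led Lsl_bt (LP (LK LD1_c10 LD2_c27 LD3_c11)) = (LP (LK LD1_c10 LD2_c22 LD3_c38)) :=
  Lgr Lrot22 (Lpr_ct (f405268 IH) (Lpe (K37.f165411 IH) (Lpe (f165410 IH) (Lpe (f166079 IH) (Lpe (f166080 IH) (Lpe (f166081 IH) (Lpe (f35082 IH) (Lpe (f35083 IH) (Lpr_bt (f166100 IH) (Lpe (f166101 IH) (Lpn (LP (LK LD1_c10 LD2_c22 LD3_c38)))))))))))))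
theorem f405276 : Led Lsl_bf (LP (LK LD1_c10 LD2_c27 LD3_c11)) = (LP (LK LD1_c10 LD2_c22 LD3_c38)) :=
  Lgr Lrot24 (Lpr_bt (f405274 IH) (Lpn (LP (LK LD1_c10 LD2_c22 LD3_c38))))
theorem f583784 : Led Lsl_ft (LP (LK LD1_c18 LD2_c29 LD3_c20)) = (LP (LK LD1_c10 LD2_c22 LD3_c38)) :=
  Lgr Lrot75 (Lpr_bf (f583778 IH) (Lpe (f583776 IH) (Lpr_bf (f405276 IH) (Lpn (LP (LK LD1_c10 LD2_c22 LD3_c38))))))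
theorem f583787 : Led Lsl_ff (LP (LK LD1_c18 LD2_c29 LD3_c20)) = (LP (LK LD1_c10 LD2_c22 LD3_c38)) :=
  Lgr Lrot3 (Lpr_ft (f583784 IH) (Lpn (LP (LK LD1_c10 LD2_c22 LD3_c38))))
theorem f583782 : Led Lsl_bt (LP (LK LD1_c18 LD2_c29 LD3_c20)) = (LP (LK LD1_c18 LD2_c13 LD3_c45)) :=
  Lgr Lrot127 (Lpr_bf (f583778 IH) (Lpn (LP (LK LD1_c18 LD2_c13 LD3_c45))))
theorem f583791 : Led Lsl_ft (LP (LK LD1_c18 LD2_c13 LD3_c45)) = (LP (LK LD1_c10 LD2_c27 LD3_c11)) :=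
  Lgr Lrot75 (Lpe (f583782 IH) (Lpr_ff (f583787 IH) (Lpe (f405274 IH) (Lpn (LP (LK LD1_c10 LD2_c27 LD3_c11))))))
theorem f165267 : Led Lsl_bt (LP (LK LD1_c5 LD2_c10 LD3_c59)) = (LP (LK LD1_c10 LD2_c12 LD3_c36)) :=
  Lre_b IH (LK LD1_c5 LD2_c10 LD3_c59) (LK LD1_c10 LD2_c12 LD3_c36) Lrfl Lrfl
theorem f583440 : Led Lsl_ft (LP (LK LD1_c10 LD2_c12 LD3_c36)) = (LP (LK LD1_c9 LD2_c57 LD3_c43)) :=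
  Lgr Lrot75 (Lpe (f165267 IH) (Lpr_ff (f583438 IH) (Lpe (K38.f405308 IH) (Lpn (LP (LK LD1_c9 LD2_c57 LD3_c43))))))
theorem f583793 : Led Lsl_af (LP (LK LD1_c10 LD2_c12 LD3_c36)) = (LP (LK LD1_c10 LD2_c27 LD3_c11)) :=
  Lgr Lrot45 (Lpr_ft (f583440 IH) (Lpr_at (f583493 IH) (Lpr_ft (f583791 IH) (Lpn (LP (LK LD1_c10 LD2_c27 LD3_c11))))))
theorem f583797 : Led Lsl_at (LP (LK LD1_c10 LD2_c12 LD3_c61)) = (LP (LK LD1_c9 LD2_c59 LD3_c23)) :=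
  Lgr Lrot107 (Lpr_cf (f165263 IH) (Lpr_af (f583793 IH) (Lpr_cf (f405271 IH) (Lpn (LP (LK LD1_c9 LD2_c59 LD3_c23))))))
theorem f259059 : Led Lsl_bt (LP (LK LD1_c9 LD2_c59 LD3_c23)) = (LP (LK LD1_c18 LD2_c15 LD3_c52)) :=
  Lre_b IH (LK LD1_c9 LD2_c59 LD3_c23) (LK LD1_c18 LD2_c15 LD3_c52) Lrfl Lrfl
theorem f583576 : Led Lsl_af (LP (LK LD1_c17 LD2_c46 LD3_c42)) = (LP (LK LD1_c18 LD2_c15 LD3_c52)) :=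
  Lgr Lrot0 (Lpr_at (f583574 IH) (Lpn (LP (LK LD1_c18 LD2_c15 LD3_c52))))
theorem f583801 : Led Lsl_bf (LP (LK LD1_c10 LD2_c12 LD3_c61)) = (LP (LK LD1_c9 LD2_c40 LD3_c31)) :=
  Lgr Lrot81 (Lpr_at (f583797 IH) (Lpr_bt (f259059 IH) (Lpe (f583576 IH) (Lpr_bt (K37.f43754 IH) (Lpe (K14.f43521 IH) (Lpn (LP (LK LD1_c9 LD2_c40 LD3_c31))))))))
theorem f185206 : Led Lsl_ct (LP (LK LD1_c10 LD2_c12 LD3_c52)) = (LP (LK LD1_c5 LD2_c11 LD3_c10)) :=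
  Lre_c IH (LK LD1_c10 LD2_c12 LD3_c52) (LK LD1_c5 LD2_c11 LD3_c10) Lrfl Lrfl
theorem f185235 : Led Lsl_bt (LP (LK LD1_c10 LD2_c12 LD3_c52)) = (LP (LK LD1_c18 LD2_c35 LD3_c49)) :=
  Lre_b IH (LK LD1_c10 LD2_c12 LD3_c52) (LK LD1_c18 LD2_c35 LD3_c49) Lrfl Lrfl
theorem f230079 : Led Lsl_bt (LP (LK LD1_c5 LD2_c19 LD3_c37)) = (LP (LK LD1_c10 LD2_c29 LD3_c2)) :=
  Lre_b IH (LK LD1_c5 LD2_c19 LD3_c37) (LK LD1_c10 LD2_c29 LD3_c2) Lrfl Lrfl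
theorem f583817 : Led Lsl_gt (LP (LK LD1_c18 LD2_c35 LD3_c49)) = (LP (LK LD1_c10 LD2_c29 LD3_c2)) :=
  Lgr Lrot164 (Lpe (f185235 IH) (Lpr_ct (f185206 IH) (Lpe (f185195 IH) (Lpe (K37.f163774 IH) (Lpe (f163777 IH) (Lpr_bf (f583801 IH) (Lpr_ct (K9.f43417 IH) (Lpe (K14.f43763 IH) (Lpe (K15.f258939 IH) (Lpr_bt (f230079 IH) (Lpn (LP (LK LD1_c10 LD2_c29 LD3_c2)))))))))))))
theorem f31494 : Led Lsl_gt (LP (LK LD1_c15 LD2_c0 LD3_c42)) = (LP (LK LD1_c7 LD2_c57 LD3_c33)) :=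
  Lre_g IH (LK LD1_c15 LD2_c0 LD3_c42) (LK LD1_c7 LD2_c57 LD3_c33) Lrfl Lrfl
theorem f583828 : Led Lsl_cf (LP (LK LD1_c15 LD2_c0 LD3_c42)) = (LP (LK LD1_c10 LD2_c29 LD3_c2)) :=
  Lgr Lrot125 (Lpr_gt (f31494 IH) (Lpe (K12.f31487 IH) (Lpr_bt (K12.f31475 IH) (Lpe (K10.f189451 IH) (Lpe (K19.f185493 IH) (Lpr_ct (K37.f163774 IH) (Lpr_gt (f185195 IH) (Lpe (f185206 IH) (Lpr_bt (f185235 IH) (Lpr_gt (f583817 IH) (Lpn (LP (LK LD1_c10 LD2_c29 LD3_c2)))))))))))))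
theorem f214449 : Led Lsl_ft (LP (LK LD1_c18 LD2_c30 LD3_c31)) = (LP (LK LD1_c15 LD2_c0 LD3_c43)) :=
  Lgr Lrot101 (Lpe (K14.f214224 IH) (Lpr_ff (K13.f214444 IH) (Lpe (K13.f31484 IH) (Lpn (LP (LK LD1_c15 LD2_c0 LD3_c43))))))
theorem f214782 : Led Lsl_gt (LP (LK LD1_c18 LD2_c30 LD3_c31)) = (LP (LK LD1_c15 LD2_c0 LD3_c42)) :=
  Lgr Lrot5 (Lpr_ft (f214449 IH) (Lpr_at (K13.f31484 IH) (Lpe (f31494 IH) (Lpn (LP (LK LD1_c15 LD2_c0 LD3_c42))))))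
theorem f191670 : Led Lsl_at (LP (LK LD1_c10 LD2_c22 LD3_c24)) = (LP (LK LD1_c18 LD2_c49 LD3_c30)) :=
  Lre_a IH (LK LD1_c10 LD2_c22 LD3_c24) (LK LD1_c18 LD2_c49 LD3_c30) Lrfl Lrfl
theorem f214570 : Led Lsl_cf (LP (LK LD1_c18 LD2_c30 LD3_c31)) = (LP (LK LD1_c18 LD2_c49 LD3_c30)) :=
  Lgr Lrot1 (Lpr_at (f214217 IH) (Lpr_ct (f214567 IH) (Lpr_at (f191670 IH) (Lpn (LP (LK LD1_c18 LD2_c49 LD3_c30))))))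
theorem f184093 : Led Lsl_ff (LP (LK LD1_c10 LD2_c22 LD3_c24)) = (LP (LK LD1_c9 LD2_c40 LD3_c4)) :=
  Lgr Lrot25 (Lpr_bt (f166116 IH) (Lpr_ft (K9.f184091 IH) (Lpr_bt (K12.f31508 IH) (Lpn (LP (LK LD1_c9 LD2_c40 LD3_c4))))))
theorem f31492 : Led Lsl_gt (LP (LK LD1_c9 LD2_c40 LD3_c4)) = (LP (LK LD1_c17 LD2_c46 LD3_c57)) :=
  Lre_g IH (LK LD1_c9 LD2_c40 LD3_c4) (LK LD1_c17 LD2_c46 LD3_c57) Lrfl Lrfl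
theorem f421701 : Led Lsl_gf (LP (LK LD1_c18 LD2_c49 LD3_c30)) = (LP (LK LD1_c17 LD2_c46 LD3_c57)) :=
  Lgr Lrot76 (Lpe (f191670 IH) (Lpr_ff (f184093 IH) (Lpr_gt (f31492 IH) (Lpn (LP (LK LD1_c17 LD2_c46 LD3_c57))))))
theorem f230208 : Led Lsl_bt (LP (LK LD1_c27 LD2_c33 LD3_c42)) = (LP (LK LD1_c17 LD2_c46 LD3_c57)) :=
  Lre_b IH (LK LD1_c27 LD2_c33 LD3_c42) (LK LD1_c17 LD2_c46 LD3_c57) Lrfl Lrfl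
theorem f46286 : Led Lsl_bt (LP (LK LD1_c5 LD2_c20 LD3_c10)) = (LP (LK LD1_c2 LD2_c36 LD3_c45)) :=
  Lre_b IH (LK LD1_c5 LD2_c20 LD3_c10) (LK LD1_c2 LD2_c36 LD3_c45) Lrfl Lrfl
theorem f184529 : Led Lsl_bt (LP (LK LD1_c5 LD2_c1 LD3_c33)) = (LP (LK LD1_c9 LD2_c53 LD3_c23)) :=
  Lre_b IH (LK LD1_c5 LD2_c1 LD3_c33) (LK LD1_c9 LD2_c53 LD3_c23) Lrfl Lrfl
theorem f47004 : Led Lsl_bt (LP (LK LD1_c5 LD2_c19 LD3_c45)) = (LP (LK LD1_c2 LD2_c36 LD3_c32)) :=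
  Lre_b IH (LK LD1_c5 LD2_c19 LD3_c45) (LK LD1_c2 LD2_c36 LD3_c32) Lrfl Lrfl
theorem f184583 : Led Lsl_ft (LP (LK LD1_c9 LD2_c53 LD3_c23)) = (LP (LK LD1_c5 LD2_c19 LD3_c45)) :=
  Lgr Lrot75 (Lpe (f184529 IH) (Lpr_ff (K12.f184581 IH) (Lpe (f47004 IH) (Lpn (LP (LK LD1_c5 LD2_c19 LD3_c45))))))
theorem f44866 : Led Lsl_ct (LP (LK LD1_c5 LD2_c19 LD3_c45)) = (LP (LK LD1_c2 LD2_c36 LD3_c43)) :=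
  Lre_c IH (LK LD1_c5 LD2_c19 LD3_c45) (LK LD1_c2 LD2_c36 LD3_c43) Lrfl Lrfl
theorem f44890 : Led Lsl_ft (LP (LK LD1_c2 LD2_c36 LD3_c43)) = (LP (LK LD1_c5 LD2_c20 LD3_c10)) :=
  Lre_f IH (LK LD1_c2 LD2_c36 LD3_c43) (LK LD1_c5 LD2_c20 LD3_c10) Lrfl Lrfl
theorem f184585 : Led Lsl_cf (LP (LK LD1_c9 LD2_c53 LD3_c23)) = (LP (LK LD1_c5 LD2_c20 LD3_c10)) :=
  Lgr Lrot108 (Lpr_ft (f184583 IH) (Lpr_ct (f44866 IH) (Lpr_ft (f44890 IH) (Lpn (LP (LK LD1_c5 LD2_c20 LD3_c10))))))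
theorem f184602 : Led Lsl_gt (LP (LK LD1_c18 LD2_c5 LD3_c53)) = (LP (LK LD1_c9 LD2_c53 LD3_c23)) :=
  Lre_g IH (LK LD1_c18 LD2_c5 LD3_c53) (LK LD1_c9 LD2_c53 LD3_c23) Lrfl Lrfl
theorem f248081 : Led Lsl_ct (LP (LK LD1_c27 LD2_c33 LD3_c42)) = (LP (LK LD1_c18 LD2_c5 LD3_c53)) :=
  Lgr Lrot64 (Lpr_bt (f230208 IH) (Lpe (f31492 IH) (Lpe (K12.f31508 IH) (Lpr_ct (K9.f31474 IH) (Lpe (K10.f31520 IH) (Lpe (K15.f229986 IH) (Lpr_gf (K14.f248079 IH) (Lpe (f46286 IH) (Lpe (f184585 IH) (Lpe (f184602 IH) (Lpn (LP (LK LD1_c18 LD2_c5 LD3_c53)))))))))))))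
theorem f43761 : Led Lsl_bt (LP (LK LD1_c4 LD2_c54 LD3_c27)) = (LP (LK LD1_c9 LD2_c40 LD3_c27)) :=
  Lre_b IH (LK LD1_c4 LD2_c54 LD3_c27) (LK LD1_c9 LD2_c40 LD3_c27) Lrfl Lrfl
theorem f544855 : Led Lsl_ff (LP (LK LD1_c9 LD2_c57 LD3_c44)) = (LP (LK LD1_c9 LD2_c40 LD3_c27)) :=
  Lgr Lrot25 (Lpr_bt (K38.f544838 IH) (Lpr_ft (K14.f43574 IH) (Lpr_bt (f43761 IH) (Lpn (LP (LK LD1_c9 LD2_c40 LD3_c27))))))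
theorem f44430 : Led Lsl_gt (LP (LK LD1_c9 LD2_c40 LD3_c27)) = (LP (LK LD1_c17 LD2_c47 LD3_c48)) :=
  Lre_g IH (LK LD1_c9 LD2_c40 LD3_c27) (LK LD1_c17 LD2_c47 LD3_c48) Lrfl Lrfl
theorem f582876 : Led Lsl_gf (LP (LK LD1_c10 LD2_c12 LD3_c38)) = (LP (LK LD1_c17 LD2_c47 LD3_c48)) :=
  Lgr Lrot76 (Lpr_af (f582867 IH) (Lpr_ff (f544855 IH) (Lpr_gt (f44430 IH) (Lpn (LP (LK LD1_c17 LD2_c47 LD3_c48))))))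
theorem f45918 : Led Lsl_gt (LP (LK LD1_c8 LD2_c5 LD3_c44)) = (LP (LK LD1_c15 LD2_c14 LD3_c33)) :=
  Lre_g IH (LK LD1_c8 LD2_c5 LD3_c44) (LK LD1_c15 LD2_c14 LD3_c33) Lrfl Lrfl
theorem f45921 : Led Lsl_ct (LP (LK LD1_c25 LD2_c3 LD3_c41)) = (LP (LK LD1_c15 LD2_c14 LD3_c33)) :=
  Lre_c IH (LK LD1_c25 LD2_c3 LD3_c41) (LK LD1_c15 LD2_c14 LD3_c33) Lrfl Lrfl
theorem f582878 : Led Lsl_bt (LP (LK LD1_c25 LD2_c3 LD3_c41)) = (LP (LK LD1_c17 LD2_c47 LD3_c48)) :=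
  Lgr Lrot130 (Lpr_ct (f45921 IH) (Lpe (f45918 IH) (Lpr_cf (K10.f45860 IH) (Lpr_bt (K10.f43968 IH) (Lpr_gf (K12.f212433 IH) (Lpe (f212437 IH) (Lpr_ct (f180742 IH) (Lpe (f212439 IH) (Lpe (f212440 IH) (Lpr_gf (f582876 IH) (Lpn (LP (LK LD1_c17 LD2_c47 LD3_c48)))))))))))))
theorem f47367 : Led Lsl_bt (LP (LK LD1_c10 LD2_c30 LD3_c21)) = (LP (LK LD1_c5 LD2_c20 LD3_c11)) :=
  Lre_b IH (LK LD1_c10 LD2_c30 LD3_c21) (LK LD1_c5 LD2_c20 LD3_c11) Lrfl Lrfl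
theorem f233455 : Led Lsl_ct (LP (LK LD1_c10 LD2_c30 LD3_c21)) = (LP (LK LD1_c19 LD2_c2 LD3_c14)) :=
  Lre_c IH (LK LD1_c10 LD2_c30 LD3_c21) (LK LD1_c19 LD2_c2 LD3_c14) Lrfl Lrfl
theorem f582884 : Led Lsl_gt (LP (LK LD1_c15 LD2_c14 LD3_c33)) = (LP (LK LD1_c19 LD2_c2 LD3_c14)) :=
  Lgr Lrot65 (Lpe (f45921 IH) (Lpr_bt (f582878 IH) (Lpe (f44430 IH) (Lpe (f43761 IH) (Lpr_ct (K15.f43524 IH) (Lpe (K14.f249356 IH) (Lpr_cf (K14.f249368 IH) (Lpe (K14.f233447 IH) (Lpe (f47367 IH) (Lpr_ct (f233455 IH) (Lpn (LP (LK LD1_c19 LD2_c2 LD3_c14)))))))))))))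
theorem f45916 : Led Lsl_ft (LP (LK LD1_c8 LD2_c5 LD3_c44)) = (LP (LK LD1_c15 LD2_c14 LD3_c37)) :=
  Lre_f IH (LK LD1_c8 LD2_c5 LD3_c44) (LK LD1_c15 LD2_c14 LD3_c37) Lrfl Lrfl
theorem f582886 : Led Lsl_at (LP (LK LD1_c15 LD2_c14 LD3_c37)) = (LP (LK LD1_c19 LD2_c2 LD3_c14)) :=
  Lgr Lrot26 (Lpe (f45916 IH) (Lpr_gt (f45918 IH) (Lpr_gt (f582884 IH) (Lpn (LP (LK LD1_c19 LD2_c2 LD3_c14))))))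
theorem f45917 : Led Lsl_at (LP (LK LD1_c15 LD2_c14 LD3_c35)) = (LP (LK LD1_c8 LD2_c5 LD3_c44)) :=
  Lre_a IH (LK LD1_c15 LD2_c14 LD3_c35) (LK LD1_c8 LD2_c5 LD3_c44) Lrfl Lrfl
theorem f582898 : Led Lsl_ff (LP (LK LD1_c15 LD2_c14 LD3_c35)) = (LP (LK LD1_c19 LD2_c2 LD3_c14)) :=
  Lgr Lrot30 (Lpr_at (f45917 IH) (Lpr_ft (f45916 IH) (Lpr_at (f582886 IH) (Lpn (LP (LK LD1_c19 LD2_c2 LD3_c14))))))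
theorem f47036 : Led Lsl_at (LP (LK LD1_c10 LD2_c29 LD3_c22)) = (LP (LK LD1_c5 LD2_c19 LD3_c45)) :=
  Lre_a IH (LK LD1_c10 LD2_c29 LD3_c22) (LK LD1_c5 LD2_c19 LD3_c45) Lrfl Lrfl
theorem f45977 : Led Lsl_bt (LP (LK LD1_c4 LD2_c2 LD3_c35)) = (LP (LK LD1_c8 LD2_c5 LD3_c44)) :=
  Lre_b IH (LK LD1_c4 LD2_c2 LD3_c35) (LK LD1_c8 LD2_c5 LD3_c44) Lrfl Lrfl
theorem f45907 : Led Lsl_at (LP (LK LD1_c8 LD2_c5 LD3_c44)) = (LP (LK LD1_c15 LD2_c14 LD3_c35)) :=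
  Lre_a IH (LK LD1_c8 LD2_c5 LD3_c44) (LK LD1_c15 LD2_c14 LD3_c35) Lrfl Lrfl
theorem f47037 : Led Lsl_bf (LP (LK LD1_c10 LD2_c29 LD3_c22)) = (LP (LK LD1_c15 LD2_c14 LD3_c35)) :=
  Lgr Lrot81 (Lpr_at (f47036 IH) (Lpr_bt (f47004 IH) (Lpr_at (K1.f47034 IH) (Lpr_bt (f45977 IH) (Lpr_at (f45907 IH) (Lpn (LP (LK LD1_c15 LD2_c14 LD3_c35))))))))
theorem f582890 : Led Lsl_bt (LP (LK LD1_c10 LD2_c30 LD3_c18)) = (LP (LK LD1_c19 LD2_c2 LD3_c14)) :=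
  Lre_b IH (LK LD1_c10 LD2_c30 LD3_c18) (LK LD1_c19 LD2_c2 LD3_c14) Lrfl Lrfl
theorem f582900 : Led Lsl_ft (LP (LK LD1_c10 LD2_c29 LD3_c22)) = (LP (LK LD1_c10 LD2_c30 LD3_c18)) :=
  Lgr Lrot75 (Lpr_bf (f47037 IH) (Lpr_ff (f582898 IH) (Lpe (f582890 IH) (Lpn (LP (LK LD1_c10 LD2_c30 LD3_c18))))))
theorem f45848 : Led Lsl_bt (LP (LK LD1_c8 LD2_c5 LD3_c46)) = (LP (LK LD1_c15 LD2_c14 LD3_c37)) :=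
  Lre_b IH (LK LD1_c8 LD2_c5 LD3_c46) (LK LD1_c15 LD2_c14 LD3_c37) Lrfl Lrfl
theorem f184596 : Led Lsl_bt (LP (LK LD1_c9 LD2_c53 LD3_c23)) = (LP (LK LD1_c5 LD2_c1 LD3_c33)) :=
  Lre_b IH (LK LD1_c9 LD2_c53 LD3_c23) (LK LD1_c5 LD2_c1 LD3_c33) Lrfl Lrfl
theorem f233685 : Led Lsl_bt (LP (LK LD1_c19 LD2_c2 LD3_c14)) = (LP (LK LD1_c10 LD2_c30 LD3_c18)) :=
  Lre_b IH (LK LD1_c19 LD2_c2 LD3_c14) (LK LD1_c10 LD2_c30 LD3_c18) Lrfl Lrfl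
theorem f582894 : Led Lsl_af (LP (LK LD1_c9 LD2_c53 LD3_c23)) = (LP (LK LD1_c10 LD2_c30 LD3_c18)) :=
  Lgr Lrot36 (Lpr_bt (f184596 IH) (Lpr_at (K12.f184527 IH) (Lpr_bt (f45848 IH) (Lpr_at (f582886 IH) (Lpr_bt (f233685 IH) (Lpn (LP (LK LD1_c10 LD2_c30 LD3_c18))))))))
theorem f583418 : Led Lsl_gt (LP (LK LD1_c10 LD2_c29 LD3_c22)) = (LP (LK LD1_c18 LD2_c5 LD3_c53)) :=
  Lgr Lrot5 (Lpr_ft (f582900 IH) (Lpe (f582894 IH) (Lpe (f184602 IH) (Lpn (LP (LK LD1_c18 LD2_c5 LD3_c53))))))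
theorem f44876 : Led Lsl_ct (LP (LK LD1_c5 LD2_c20 LD3_c8)) = (LP (LK LD1_c10 LD2_c29 LD3_c22)) :=
  Lre_c IH (LK LD1_c5 LD2_c20 LD3_c8) (LK LD1_c10 LD2_c29 LD3_c22) Lrfl Lrfl
theorem f44864 : Led Lsl_bt (LP (LK LD1_c1 LD2_c15 LD3_c20)) = (LP (LK LD1_c2 LD2_c36 LD3_c43)) :=
  Lre_b IH (LK LD1_c1 LD2_c15 LD3_c20) (LK LD1_c2 LD2_c36 LD3_c43) Lrfl Lrfl
theorem f44882 : Led Lsl_at (LP (LK LD1_c2 LD2_c36 LD3_c43)) = (LP (LK LD1_c5 LD2_c20 LD3_c8)) :=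
  Lre_a IH (LK LD1_c2 LD2_c36 LD3_c43) (LK LD1_c5 LD2_c20 LD3_c8) Lrfl Lrfl
theorem f46266 : Led Lsl_bt (LP (LK LD1_c5 LD2_c20 LD3_c8)) = (LP (LK LD1_c5 LD2_c19 LD3_c36)) :=
  Lgr Lrot62 (Lpe (f44882 IH) (Lpe (f44864 IH) (Lpr_af (K1.f46254 IH) (Lpe (K1.f44114 IH) (Lpe (f44194 IH) (Lpn (LP (LK LD1_c5 LD2_c19 LD3_c36))))))))
theorem f230064 : Led Lsl_bt (LP (LK LD1_c10 LD2_c29 LD3_c2)) = (LP (LK LD1_c5 LD2_c19 LD3_c37)) :=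
  Lre_b IH (LK LD1_c10 LD2_c29 LD3_c2) (LK LD1_c5 LD2_c19 LD3_c37) Lrfl Lrfl
theorem f583839 : Led Lsl_gf (LP (LK LD1_c5 LD2_c19 LD3_c36)) = (LP (LK LD1_c5 LD2_c19 LD3_c37)) :=
  Lgr Lrot124 (Lpe (f46266 IH) (Lpr_ct (f44876 IH) (Lpr_gt (f583418 IH) (Lpe (f248081 IH) (Lpr_bt (f230208 IH) (Lpe (f421701 IH) (Lpe (f214570 IH) (Lpr_gt (f214782 IH) (Lpr_cf (f583828 IH) (Lpr_bt (f230064 IH) (Lpn (LP (LK LD1_c5 LD2_c19 LD3_c37)))))))))))))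
theorem f582708 : Led Lsl_ft (LP (LK LD1_c5 LD2_c19 LD3_c37)) = (LP (LK LD1_c5 LD2_c19 LD3_c34)) :=
  Lgr Lrot54 (Lpr_df (K15.f230065 IH) (Lpr_ff (K22.f279336 IH) (Lpr_df (f582700 IH) (Lpn (LP (LK LD1_c5 LD2_c19 LD3_c34))))))
theorem f583841 : Led Lsl_af (LP (LK LD1_c5 LD2_c19 LD3_c38)) = (LP (LK LD1_c5 LD2_c19 LD3_c34)) :=
  Lgr Lrot31 (Lpr_gf (f582816 IH) (Lpr_gf (f583839 IH) (Lpr_ft (f582708 IH) (Lpn (LP (LK LD1_c5 LD2_c19 LD3_c34))))))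
theorem f212347 : Led Lsl_et (LP (LK LD1_c5 LD2_c19 LD3_c38)) = (LP (LK LD1_c10 LD2_c29 LD3_c5)) :=
  Lre_e IH (LK LD1_c5 LD2_c19 LD3_c38) (LK LD1_c10 LD2_c29 LD3_c5) Lrfl Lrfl
theorem f44189 : Led Lsl_et (LP (LK LD1_c10 LD2_c28 LD3_c61)) = (LP (LK LD1_c5 LD2_c19 LD3_c34)) :=
  Lre_e IH (LK LD1_c10 LD2_c28 LD3_c61) (LK LD1_c5 LD2_c19 LD3_c34) Lrfl Lrfl
theorem f583845 : Led Lsl_at (LP (LK LD1_c10 LD2_c29 LD3_c5)) = (LP (LK LD1_c10 LD2_c28 LD3_c61)) :=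
  Lgr Lrot80 (Lpe (f212347 IH) (Lpr_af (f583841 IH) (Lpe (f44189 IH) (Lpn (LP (LK LD1_c10 LD2_c28 LD3_c61))))))
theorem f212348 : Led Lsl_cf (LP (LK LD1_c17 LD2_c47 LD3_c50)) = (LP (LK LD1_c10 LD2_c29 LD3_c5)) :=
  Lgr Lrot39 (Lpr_et (K16.f43805 IH) (Lpr_ct (K15.f212341 IH) (Lpr_et (f212347 IH) (Lpn (LP (LK LD1_c10 LD2_c29 LD3_c5))))))
theorem f212414 : Led Lsl_ct (LP (LK LD1_c17 LD2_c47 LD3_c50)) = (LP (LK LD1_c10 LD2_c29 LD3_c5)) :=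
  Lgr Lrot59 (Lpr_cf (f212348 IH) (Lpn (LP (LK LD1_c10 LD2_c29 LD3_c5))))
theorem f583962 : Led Lsl_cf (LP (LK LD1_c17 LD2_c46 LD3_c40)) = (LP (LK LD1_c10 LD2_c28 LD3_c61)) :=
  Lgr Lrot1 (Lpr_at (K16.f271373 IH) (Lpr_ct (f212414 IH) (Lpr_at (f583845 IH) (Lpn (LP (LK LD1_c10 LD2_c28 LD3_c61))))))
theorem f583993 : Led Lsl_ct (LP (LK LD1_c17 LD2_c46 LD3_c40)) = (LP (LK LD1_c10 LD2_c28 LD3_c61)) :=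
  Lgr Lrot59 (Lpr_cf (f583962 IH) (Lpn (LP (LK LD1_c10 LD2_c28 LD3_c61))))
theorem f271377 : Led Lsl_bt (LP (LK LD1_c27 LD2_c33 LD3_c22)) = (LP (LK LD1_c17 LD2_c46 LD3_c40)) :=
  Lre_b IH (LK LD1_c27 LD2_c33 LD3_c22) (LK LD1_c17 LD2_c46 LD3_c40) Lrfl Lrfl
theorem f584093 : Led Lsl_ct (LP (LK LD1_c32 LD2_c26 LD3_c13)) = (LP (LK LD1_c27 LD2_c33 LD3_c22)) :=
  Lre_c IH (LK LD1_c32 LD2_c26 LD3_c13) (LK LD1_c27 LD2_c33 LD3_c22) Lrfl Lrfl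
theorem f215924 : Led Lsl_bt (LP (LK LD1_c10 LD2_c28 LD3_c61)) = (LP (LK LD1_c19 LD2_c0 LD3_c4)) :=
  Lre_b IH (LK LD1_c10 LD2_c28 LD3_c61) (LK LD1_c19 LD2_c0 LD3_c4) Lrfl Lrfl
theorem f215915 : Led Lsl_et (LP (LK LD1_c18 LD2_c30 LD3_c30)) = (LP (LK LD1_c28 LD2_c4 LD3_c32)) :=
  Lre_e IH (LK LD1_c18 LD2_c30 LD3_c30) (LK LD1_c28 LD2_c4 LD3_c32) Lrfl Lrfl
theorem f215916 : Led Lsl_et (LP (LK LD1_c19 LD2_c0 LD3_c4)) = (LP (LK LD1_c10 LD2_c28 LD3_c60)) :=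
  Lre_e IH (LK LD1_c19 LD2_c0 LD3_c4) (LK LD1_c10 LD2_c28 LD3_c60) Lrfl Lrfl
theorem f215917 : Led Lsl_ct (LP (LK LD1_c28 LD2_c4 LD3_c32)) = (LP (LK LD1_c19 LD2_c0 LD3_c4)) :=
  Lgr Lrot15 (Lpe (f215915 IH) (Lpr_cf (f215909 IH) (Lpe (f215916 IH) (Lpn (LP (LK LD1_c19 LD2_c0 LD3_c4))))))
theorem f215920 : Led Lsl_cf (LP (LK LD1_c28 LD2_c4 LD3_c32)) = (LP (LK LD1_c19 LD2_c0 LD3_c4)) :=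
  Lgr Lrot11 (Lpr_ct (f215917 IH) (Lpn (LP (LK LD1_c19 LD2_c0 LD3_c4))))
theorem f584094 : Led Lsl_bf (LP (LK LD1_c32 LD2_c26 LD3_c13)) = (LP (LK LD1_c28 LD2_c4 LD3_c32)) :=
  Lgr Lrot90 (Lpr_ct (f584093 IH) (Lpr_bt (f271377 IH) (Lpr_ct (f583993 IH) (Lpr_bt (f215924 IH) (Lpe (f215920 IH) (Lpn (LP (LK LD1_c28 LD2_c4 LD3_c32))))))))
theorem f544842 : Led Lsl_et (LP (LK LD1_c32 LD2_c26 LD3_c13)) = (LP (LK LD1_c27 LD2_c33 LD3_c21)) :=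
  Lre_e IH (LK LD1_c32 LD2_c26 LD3_c13) (LK LD1_c27 LD2_c33 LD3_c21) Lrfl Lrfl
theorem f584096 : Led Lsl_bt (LP (LK LD1_c27 LD2_c33 LD3_c21)) = (LP (LK LD1_c18 LD2_c30 LD3_c30)) :=
  Lgr Lrot119 (Lpe (f544842 IH) (Lpr_bf (f584094 IH) (Lpe (f215915 IH) (Lpn (LP (LK LD1_c18 LD2_c30 LD3_c30))))))
theorem f271367 : Led Lsl_ft (LP (LK LD1_c17 LD2_c46 LD3_c40)) = (LP (LK LD1_c27 LD2_c33 LD3_c25)) :=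
  Lre_f IH (LK LD1_c17 LD2_c46 LD3_c40) (LK LD1_c27 LD2_c33 LD3_c25) Lrfl Lrfl
theorem f583986 : Led Lsl_ft (LP (LK LD1_c19 LD2_c0 LD3_c7)) = (LP (LK LD1_c10 LD2_c28 LD3_c61)) :=
  Lre_f IH (LK LD1_c19 LD2_c0 LD3_c7) (LK LD1_c10 LD2_c28 LD3_c61) Lrfl Lrfl
theorem f583995 : Led Lsl_ct (LP (LK LD1_c27 LD2_c33 LD3_c25)) = (LP (LK LD1_c19 LD2_c0 LD3_c7)) :=
  Lgr Lrot40 (Lpe (f271367 IH) (Lpr_cf (f583962 IH) (Lpe (f583986 IH) (Lpn (LP (LK LD1_c19 LD2_c0 LD3_c7))))))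
theorem f43585 : Led Lsl_et (LP (LK LD1_c17 LD2_c46 LD3_c40)) = (LP (LK LD1_c9 LD2_c39 LD3_c56)) :=
  Lre_e IH (LK LD1_c17 LD2_c46 LD3_c40) (LK LD1_c9 LD2_c39 LD3_c56) Lrfl Lrfl
theorem f271359 : Led Lsl_ft (LP (LK LD1_c27 LD2_c33 LD3_c25)) = (LP (LK LD1_c17 LD2_c46 LD3_c40)) :=
  Lre_f IH (LK LD1_c27 LD2_c33 LD3_c25) (LK LD1_c17 LD2_c46 LD3_c40) Lrfl Lrfl
theorem f193121 : Led Lsl_et (LP (LK LD1_c9 LD2_c40 LD3_c30)) = (LP (LK LD1_c17 LD2_c47 LD3_c52)) :=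
  Lre_e IH (LK LD1_c9 LD2_c40 LD3_c30) (LK LD1_c17 LD2_c47 LD3_c52) Lrfl Lrfl
theorem f271360 : Led Lsl_ft (LP (LK LD1_c17 LD2_c47 LD3_c52)) = (LP (LK LD1_c27 LD2_c35 LD3_c6)) :=
  Lre_f IH (LK LD1_c17 LD2_c47 LD3_c52) (LK LD1_c27 LD2_c35 LD3_c6) Lrfl Lrfl
theorem f271361 : Led Lsl_ef (LP (LK LD1_c27 LD2_c33 LD3_c25)) = (LP (LK LD1_c27 LD2_c35 LD3_c6)) :=
  Lgr Lrot21 (Lpr_ft (f271359 IH) (Lpr_et (f43585 IH) (Lpr_ft (K16.f271353 IH) (Lpr_et (f193121 IH) (Lpr_ft (f271360 IH) (Lpn (LP (LK LD1_c27 LD2_c35 LD3_c6))))))))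
theorem f44167 : Led Lsl_et (LP (LK LD1_c10 LD2_c29 LD3_c3)) = (LP (LK LD1_c5 LD2_c19 LD3_c37)) :=
  Lre_e IH (LK LD1_c10 LD2_c29 LD3_c3) (LK LD1_c5 LD2_c19 LD3_c37) Lrfl Lrfl
theorem f258941 : Led Lsl_cf (LP (LK LD1_c10 LD2_c29 LD3_c3)) = (LP (LK LD1_c17 LD2_c47 LD3_c52)) :=
  Lgr Lrot39 (Lpr_et (f44167 IH) (Lpr_ct (K15.f258939 IH) (Lpr_et (f193121 IH) (Lpn (LP (LK LD1_c17 LD2_c47 LD3_c52))))))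
theorem f413327 : Led Lsl_ft (LP (LK LD1_c10 LD2_c29 LD3_c3)) = (LP (LK LD1_c19 LD2_c0 LD3_c19)) :=
  Lre_f IH (LK LD1_c10 LD2_c29 LD3_c3) (LK LD1_c19 LD2_c0 LD3_c19) Lrfl Lrfl
theorem f271368 : Led Lsl_ft (LP (LK LD1_c27 LD2_c35 LD3_c6)) = (LP (LK LD1_c17 LD2_c47 LD3_c52)) :=
  Lre_f IH (LK LD1_c27 LD2_c35 LD3_c6) (LK LD1_c17 LD2_c47 LD3_c52) Lrfl Lrfl
theorem f413328 : Led Lsl_ct (LP (LK LD1_c19 LD2_c0 LD3_c19)) = (LP (LK LD1_c27 LD2_c35 LD3_c6)) :=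
  Lgr Lrot40 (Lpe (f413327 IH) (Lpr_cf (f258941 IH) (Lpe (f271368 IH) (Lpn (LP (LK LD1_c27 LD2_c35 LD3_c6))))))
theorem f583999 : Led Lsl_ef (LP (LK LD1_c19 LD2_c0 LD3_c19)) = (LP (LK LD1_c19 LD2_c0 LD3_c7)) :=
  Lgr Lrot28 (Lpr_ct (f413328 IH) (Lpe (f271361 IH) (Lpr_ct (f583995 IH) (Lpn (LP (LK LD1_c19 LD2_c0 LD3_c7))))))
theorem f584003 : Led Lsl_et (LP (LK LD1_c19 LD2_c0 LD3_c19)) = (LP (LK LD1_c19 LD2_c0 LD3_c7)) :=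
  Lgr Lrot87 (Lpr_ef (f583999 IH) (Lpn (LP (LK LD1_c19 LD2_c0 LD3_c7))))
theorem f230071 : Led Lsl_et (LP (LK LD1_c5 LD2_c19 LD3_c37)) = (LP (LK LD1_c10 LD2_c29 LD3_c3)) :=
  Lre_e IH (LK LD1_c5 LD2_c19 LD3_c37) (LK LD1_c10 LD2_c29 LD3_c3) Lrfl Lrfl
theorem f584007 : Led Lsl_ff (LP (LK LD1_c5 LD2_c19 LD3_c37)) = (LP (LK LD1_c5 LD2_c19 LD3_c34)) :=
  Lgr Lrot72 (Lpr_et (f230071 IH) (Lpr_ft (f413327 IH) (Lpr_et (f584003 IH) (Lpr_ft (f583986 IH) (Lpr_et (f44189 IH) (Lpn (LP (LK LD1_c5 LD2_c19 LD3_c34))))))))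
theorem f584011 : Led Lsl_ft (LP (LK LD1_c10 LD2_c29 LD3_c2)) = (LP (LK LD1_c10 LD2_c28 LD3_c60)) :=
  Lgr Lrot75 (Lpe (f230079 IH) (Lpr_ff (f584007 IH) (Lpe (f184228 IH) (Lpn (LP (LK LD1_c10 LD2_c28 LD3_c60))))))
theorem f583834 : Led Lsl_ct (LP (LK LD1_c15 LD2_c0 LD3_c42)) = (LP (LK LD1_c10 LD2_c29 LD3_c2)) :=
  Lgr Lrot59 (Lpr_cf (f583828 IH) (Lpn (LP (LK LD1_c10 LD2_c29 LD3_c2))))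
theorem f584013 : Led Lsl_ff (LP (LK LD1_c15 LD2_c0 LD3_c42)) = (LP (LK LD1_c18 LD2_c30 LD3_c30)) :=
  Lgr Lrot23 (Lpr_ct (f583834 IH) (Lpr_ft (f584011 IH) (Lpe (f215909 IH) (Lpn (LP (LK LD1_c18 LD2_c30 LD3_c30))))))
theorem f583831 : Led Lsl_bt (LP (LK LD1_c15 LD2_c0 LD3_c42)) = (LP (LK LD1_c24 LD2_c48 LD3_c9)) :=
  Lre_b IH (LK LD1_c15 LD2_c0 LD3_c42) (LK LD1_c24 LD2_c48 LD3_c9) Lrfl Lrfl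
theorem f584100 : Led Lsl_ff (LP (LK LD1_c27 LD2_c33 LD3_c21)) = (LP (LK LD1_c24 LD2_c48 LD3_c9)) :=
  Lgr Lrot25 (Lpr_bt (f584096 IH) (Lpe (f584013 IH) (Lpr_bt (f583831 IH) (Lpn (LP (LK LD1_c24 LD2_c48 LD3_c9))))))
theorem f271357 : Led Lsl_ff (LP (LK LD1_c17 LD2_c46 LD3_c39)) = (LP (LK LD1_c17 LD2_c47 LD3_c51)) :=
  Lgr Lrot25 (Lpr_bt (K38.f43581 IH) (Lpr_ft (K16.f271353 IH) (Lpr_bt (K37.f193125 IH) (Lpn (LP (LK LD1_c17 LD2_c47 LD3_c51))))))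
theorem f271370 : Led Lsl_ft (LP (LK LD1_c17 LD2_c46 LD3_c39)) = (LP (LK LD1_c17 LD2_c47 LD3_c51)) :=
  Lgr Lrot48 (Lpr_ff (f271357 IH) (Lpn (LP (LK LD1_c17 LD2_c47 LD3_c51))))
theorem f584102 : Led Lsl_ct (LP (LK LD1_c17 LD2_c47 LD3_c51)) = (LP (LK LD1_c24 LD2_c48 LD3_c9)) :=
  Lgr Lrot40 (Lpe (f271370 IH) (Lpe (K38.f43582 IH) (Lpr_ff (f584100 IH) (Lpn (LP (LK LD1_c24 LD2_c48 LD3_c9))))))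
theorem f43766 : Led Lsl_bt (LP (LK LD1_c17 LD2_c47 LD3_c51)) = (LP (LK LD1_c9 LD2_c40 LD3_c30)) :=
  Lre_b IH (LK LD1_c17 LD2_c47 LD3_c51) (LK LD1_c9 LD2_c40 LD3_c30) Lrfl Lrfl
theorem f43592 : Led Lsl_bt (LP (LK LD1_c9 LD2_c40 LD3_c27)) = (LP (LK LD1_c4 LD2_c54 LD3_c27)) :=
  Lre_b IH (LK LD1_c9 LD2_c40 LD3_c27) (LK LD1_c4 LD2_c54 LD3_c27) Lrfl Lrfl
theorem f544690 : Led Lsl_cf (LP (LK LD1_c5 LD2_c10 LD3_c59)) = (LP (LK LD1_c9 LD2_c40 LD3_c27)) :=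
  Lgr Lrot58 (Lpe (f165261 IH) (Lpe (f180742 IH) (Lpr_bt (f212437 IH) (Lpe (K12.f171477 IH) (Lpr_bf (K37.f544678 IH) (Lpr_ct (K14.f46527 IH) (Lpe (K15.f44131 IH) (Lpe (K15.f212341 IH) (Lpe (K15.f43802 IH) (Lpe (f43592 IH) (Lpn (LP (LK LD1_c9 LD2_c40 LD3_c27)))))))))))))
theorem f343513 : Led Lsl_gt (LP (LK LD1_c17 LD2_c47 LD3_c10)) = (LP (LK LD1_c9 LD2_c40 LD3_c12)) :=
  Lre_g IH (LK LD1_c17 LD2_c47 LD3_c10) (LK LD1_c9 LD2_c40 LD3_c12) Lrfl Lrfl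
theorem f343514 : Led Lsl_gf (LP (LK LD1_c17 LD2_c47 LD3_c10)) = (LP (LK LD1_c17 LD2_c46 LD3_c1)) :=
  Lgr Lrot47 (Lpr_gt (f343513 IH) (Lpe (K37.f248541 IH) (Lpr_ff (K37.f343507 IH) (Lpn (LP (LK LD1_c17 LD2_c46 LD3_c1))))))
theorem f343516 : Led Lsl_ct (LP (LK LD1_c17 LD2_c47 LD3_c10)) = (LP (LK LD1_c27 LD2_c34 LD3_c4)) :=
  Lre_c IH (LK LD1_c17 LD2_c47 LD3_c10) (LK LD1_c27 LD2_c34 LD3_c4) Lrfl Lrfl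
theorem f584111 : Led Lsl_gt (LP (LK LD1_c27 LD2_c34 LD3_c4)) = (LP (LK LD1_c24 LD2_c48 LD3_c9)) :=
  Lgr Lrot149 (Lpe (f343516 IH) (Lpr_gf (f343514 IH) (Lpr_bf (K37.f248985 IH) (Lpr_ct (K14.f248958 IH) (Lpr_gf (f343600 IH) (Lpr_cf (f544690 IH) (Lpr_bt (f43592 IH) (Lpe (K14.f43763 IH) (Lpe (f43766 IH) (Lpr_ct (f584102 IH) (Lpn (LP (LK LD1_c24 LD2_c48 LD3_c9)))))))))))))
theorem f249426 : Led Lsl_bt (LP (LK LD1_c5 LD2_c2 LD3_c12)) = (LP (LK LD1_c9 LD2_c55 LD3_c10)) :=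
  Lre_b IH (LK LD1_c5 LD2_c2 LD3_c12) (LK LD1_c9 LD2_c55 LD3_c10) Lrfl Lrfl
theorem f249427 : Led Lsl_gt (LP (LK LD1_c9 LD2_c55 LD3_c10)) = (LP (LK LD1_c18 LD2_c9 LD3_c30)) :=
  Lre_g IH (LK LD1_c9 LD2_c55 LD3_c10) (LK LD1_c18 LD2_c9 LD3_c30) Lrfl Lrfl
theorem f584115 : Led Lsl_bt (LP (LK LD1_c17 LD2_c47 LD3_c10)) = (LP (LK LD1_c18 LD2_c9 LD3_c30)) :=
  Lgr Lrot92 (Lpr_ct (f343516 IH) (Lpr_gt (f584111 IH) (Lpe (f584102 IH) (Lpr_bt (f43766 IH) (Lpr_gt (K14.f43763 IH) (Lpr_ct (K15.f43524 IH) (Lpr_gt (K14.f249207 IH) (Lpe (K14.f249380 IH) (Lpr_bt (f249426 IH) (Lpr_gt (f249427 IH) (Lpn (LP (LK LD1_c18 LD2_c9 LD3_c30)))))))))))))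
theorem f166922 : Led Lsl_bt (LP (LK LD1_c5 LD2_c3 LD3_c42)) = (LP (LK LD1_c9 LD2_c58 LD3_c13)) :=
  Lre_b IH (LK LD1_c5 LD2_c3 LD3_c42) (LK LD1_c9 LD2_c58 LD3_c13) Lrfl Lrfl
theorem f249637 : Led Lsl_ct (LP (LK LD1_c9 LD2_c58 LD3_c13)) = (LP (LK LD1_c9 LD2_c40 LD3_c12)) :=
  Lgr Lrot83 (Lpe (f166922 IH) (Lpe (K14.f166912 IH) (Lpr_bf (K14.f249624 IH) (Lpe (K14.f43475 IH) (Lpe (K37.f230554 IH) (Lpn (LP (LK LD1_c9 LD2_c40 LD3_c12))))))))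
theorem f249700 : Led Lsl_bt (LP (LK LD1_c9 LD2_c58 LD3_c13)) = (LP (LK LD1_c5 LD2_c3 LD3_c42)) :=
  Lre_b IH (LK LD1_c9 LD2_c58 LD3_c13) (LK LD1_c5 LD2_c3 LD3_c42) Lrfl Lrfl
theorem f44207 : Led Lsl_gt (LP (LK LD1_c4 LD2_c27 LD3_c18)) = (LP (LK LD1_c8 LD2_c52 LD3_c21)) :=
  Lre_g IH (LK LD1_c4 LD2_c27 LD3_c18) (LK LD1_c8 LD2_c52 LD3_c21) Lrfl Lrfl
theorem f190722 : Led Lsl_ct (LP (LK LD1_c16 LD2_c35 LD3_c20)) = (LP (LK LD1_c8 LD2_c52 LD3_c21)) :=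
  Lre_c IH (LK LD1_c16 LD2_c35 LD3_c20) (LK LD1_c8 LD2_c52 LD3_c21) Lrfl Lrfl
theorem f190732 : Led Lsl_bt (LP (LK LD1_c16 LD2_c35 LD3_c20)) = (LP (LK LD1_c26 LD2_c32 LD3_c35)) :=
  Lre_b IH (LK LD1_c16 LD2_c35 LD3_c20) (LK LD1_c26 LD2_c32 LD3_c35) Lrfl Lrfl
theorem f343517 : Led Lsl_ct (LP (LK LD1_c27 LD2_c34 LD3_c4)) = (LP (LK LD1_c17 LD2_c47 LD3_c10)) :=
  Lre_c IH (LK LD1_c27 LD2_c34 LD3_c4) (LK LD1_c17 LD2_c47 LD3_c10) Lrfl Lrfl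
theorem f417560 : Led Lsl_gt (LP (LK LD1_c26 LD2_c32 LD3_c35)) = (LP (LK LD1_c27 LD2_c34 LD3_c4)) :=
  Lgr Lrot82 (Lpe (f190732 IH) (Lpr_ct (f190722 IH) (Lpe (f44207 IH) (Lpe (K14.f44180 IH) (Lpr_bt (K14.f44222 IH) (Lpe (K17.f249622 IH) (Lpe (f249700 IH) (Lpr_ct (f249637 IH) (Lpe (f343513 IH) (Lpe (f343517 IH) (Lpn (LP (LK LD1_c27 LD2_c34 LD3_c4)))))))))))))
theorem f299636 : Led Lsl_at (LP (LK LD1_c10 LD2_c11 LD3_c3)) = (LP (LK LD1_c18 LD2_c33 LD3_c6)) :=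
  Lre_a IH (LK LD1_c10 LD2_c11 LD3_c3) (LK LD1_c18 LD2_c33 LD3_c6) Lrfl Lrfl
theorem f299642 : Led Lsl_gf (LP (LK LD1_c18 LD2_c33 LD3_c6)) = (LP (LK LD1_c18 LD2_c9 LD3_c30)) :=
  Lgr Lrot76 (Lpe (f299636 IH) (Lpr_ff (K18.f299634 IH) (Lpr_gt (f249427 IH) (Lpn (LP (LK LD1_c18 LD2_c9 LD3_c30))))))
theorem f299610 : Led Lsl_at (LP (LK LD1_c18 LD2_c33 LD3_c6)) = (LP (LK LD1_c10 LD2_c11 LD3_c3)) :=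
  Lre_a IH (LK LD1_c18 LD2_c33 LD3_c6) (LK LD1_c10 LD2_c11 LD3_c3) Lrfl Lrfl
theorem f299612 : Led Lsl_bf (LP (LK LD1_c18 LD2_c33 LD3_c6)) = (LP (LK LD1_c27 LD2_c33 LD3_c50)) :=
  Lgr Lrot81 (Lpr_at (f299610 IH) (Lpr_bt (f248275 IH) (Lpr_at (K18.f299606 IH) (Lpr_bt (f249371 IH) (Lpr_at (K37.f299611 IH) (Lpn (LP (LK LD1_c27 LD2_c33 LD3_c50))))))))
theorem f544736 : Led Lsl_cf (LP (LK LD1_c18 LD2_c51 LD3_c59)) = (LP (LK LD1_c27 LD2_c33 LD3_c50)) :=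
  Lgr Lrot11 (Lpr_ct (K37.f544732 IH) (Lpn (LP (LK LD1_c27 LD2_c33 LD3_c50))))
theorem f544694 : Led Lsl_gt (LP (LK LD1_c27 LD2_c34 LD3_c30)) = (LP (LK LD1_c27 LD2_c33 LD3_c9)) :=
  Lgr Lrot46 (Lpr_gf (K37.f544692 IH) (Lpe (f271357 IH) (Lpe (f544564 IH) (Lpn (LP (LK LD1_c27 LD2_c33 LD3_c9))))))
theorem f584123 : Led Lsl_cf (LP (LK LD1_c26 LD2_c32 LD3_c35)) = (LP (LK LD1_c27 LD2_c33 LD3_c9)) :=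
  Lgr Lrot125 (Lpr_gt (f417560 IH) (Lpe (f343516 IH) (Lpr_bt (f584115 IH) (Lpe (f299642 IH) (Lpr_bf (f299612 IH) (Lpe (f544736 IH) (Lpr_gt (K37.f413129 IH) (Lpe (K37.f184866 IH) (Lpr_bt (K37.f294385 IH) (Lpr_gt (f544694 IH) (Lpn (LP (LK LD1_c27 LD2_c33 LD3_c9)))))))))))))
theorem f212458 : Led Lsl_gt (LP (LK LD1_c10 LD2_c20 LD3_c48)) = (LP (LK LD1_c18 LD2_c46 LD3_c37)) :=
  Lre_g IH (LK LD1_c10 LD2_c20 LD3_c48) (LK LD1_c18 LD2_c46 LD3_c37) Lrfl Lrfl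
theorem f252486 : Led Lsl_gt (LP (LK LD1_c18 LD2_c46 LD3_c37)) = (LP (LK LD1_c15 LD2_c50 LD3_c48)) :=
  Lgr Lrot46 (Lpe (f212458 IH) (Lpr_ft (f252478 IH) (Lpr_at (K13.f45048 IH) (Lpn (LP (LK LD1_c15 LD2_c50 LD3_c48))))))
theorem f212448 : Led Lsl_bt (LP (LK LD1_c5 LD2_c15 LD3_c45)) = (LP (LK LD1_c10 LD2_c20 LD3_c48)) :=
  Lre_b IH (LK LD1_c5 LD2_c15 LD3_c45) (LK LD1_c10 LD2_c20 LD3_c48) Lrfl Lrfl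
theorem f418904 : Led Lsl_bf (LP (LK LD1_c18 LD2_c46 LD3_c37)) = (LP (LK LD1_c18 LD2_c51 LD3_c60)) :=
  Lgr Lrot34 (Lpe (f212458 IH) (Lpe (f212448 IH) (Lpr_ct (K14.f212451 IH) (Lpr_gf (K12.f197162 IH) (Lpe (K15.f33992 IH) (Lpe (K10.f197061 IH) (Lpe (K2.f32449 IH) (Lpe (K37.f32465 IH) (Lpe (K37.f32487 IH) (Lpe (K37.f32490 IH) (Lpn (LP (LK LD1_c18 LD2_c51 LD3_c60)))))))))))))
theorem f418906 : Led Lsl_bt (LP (LK LD1_c18 LD2_c46 LD3_c37)) = (LP (LK LD1_c18 LD2_c51 LD3_c60)) :=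
  Lgr Lrot127 (Lpr_bf (f418904 IH) (Lpn (LP (LK LD1_c18 LD2_c51 LD3_c60))))
theorem f544734 : Led Lsl_cf (LP (LK LD1_c18 LD2_c46 LD3_c37)) = (LP (LK LD1_c18 LD2_c33 LD3_c6)) :=
  Lgr Lrot97 (Lpr_bt (f418906 IH) (Lpr_ct (K37.f32490 IH) (Lpr_bt (K37.f197099 IH) (Lpr_ct (K37.f544732 IH) (Lpe (f299612 IH) (Lpn (LP (LK LD1_c18 LD2_c33 LD3_c6))))))))
theorem f184050 : Led Lsl_bt (LP (LK LD1_c2 LD2_c29 LD3_c12)) = (LP (LK LD1_c5 LD2_c3 LD3_c18)) :=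
  Lre_b IH (LK LD1_c2 LD2_c29 LD3_c12) (LK LD1_c5 LD2_c3 LD3_c18) Lrfl Lrfl
theorem f248667 : Led Lsl_ft (LP (LK LD1_c5 LD2_c3 LD3_c18)) = (LP (LK LD1_c5 LD2_c10 LD3_c53)) :=
  Lgr Lrot75 (Lpe (f184050 IH) (Lpr_ff (K14.f248665 IH) (Lpe (f212437 IH) (Lpn (LP (LK LD1_c5 LD2_c10 LD3_c53))))))
theorem f165821 : Led Lsl_gt (LP (LK LD1_c5 LD2_c3 LD3_c18)) = (LP (LK LD1_c9 LD2_c57 LD3_c24)) :=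
  Lre_g IH (LK LD1_c5 LD2_c3 LD3_c18) (LK LD1_c9 LD2_c57 LD3_c24) Lrfl Lrfl
theorem f417616 : Led Lsl_gt (LP (LK LD1_c9 LD2_c57 LD3_c24)) = (LP (LK LD1_c10 LD2_c12 LD3_c23)) :=
  Lgr Lrot46 (Lpe (f165821 IH) (Lpr_ft (f248667 IH) (Lpr_at (K37.f248540 IH) (Lpn (LP (LK LD1_c10 LD2_c12 LD3_c23))))))
theorem f583474 : Led Lsl_df (LP (LK LD1_c18 LD2_c9 LD3_c30)) = (LP (LK LD1_c9 LD2_c57 LD3_c24)) :=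
  Lgr Lrot155 (Lpe (f299642 IH) (Lpe (f544734 IH) (Lpr_gt (f252486 IH) (Lpe (f51303 IH) (Lpr_dt (f583466 IH) (Lpe (f233695 IH) (Lpr_gf (K37.f343344 IH) (Lpe (K37.f343334 IH) (Lpe (f417616 IH) (Lpn (LP (LK LD1_c9 LD2_c57 LD3_c24))))))))))))
theorem f583476 : Led Lsl_dt (LP (LK LD1_c18 LD2_c9 LD3_c30)) = (LP (LK LD1_c9 LD2_c57 LD3_c24)) :=
  Lgr Lrot42 (Lpr_df (f583474 IH) (Lpn (LP (LK LD1_c9 LD2_c57 LD3_c24))))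
theorem f417623 : Led Lsl_bt (LP (LK LD1_c9 LD2_c57 LD3_c24)) = (LP (LK LD1_c18 LD2_c13 LD3_c8)) :=
  Lre_b IH (LK LD1_c9 LD2_c57 LD3_c24) (LK LD1_c18 LD2_c13 LD3_c8) Lrfl Lrfl
theorem f584119 : Led Lsl_df (LP (LK LD1_c17 LD2_c47 LD3_c10)) = (LP (LK LD1_c18 LD2_c13 LD3_c8)) :=
  Lgr Lrot12 (Lpr_bt (f584115 IH) (Lpr_dt (f583476 IH) (Lpr_bt (f417623 IH) (Lpn (LP (LK LD1_c18 LD2_c13 LD3_c8))))))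
theorem f417618 : Led Lsl_bt (LP (LK LD1_c18 LD2_c13 LD3_c8)) = (LP (LK LD1_c9 LD2_c57 LD3_c24)) :=
  Lre_b IH (LK LD1_c18 LD2_c13 LD3_c8) (LK LD1_c9 LD2_c57 LD3_c24) Lrfl Lrfl
theorem f294296 : Led Lsl_at (LP (LK LD1_c9 LD2_c39 LD3_c48)) = (LP (LK LD1_c17 LD2_c46 LD3_c23)) :=
  Lre_a IH (LK LD1_c9 LD2_c39 LD3_c48) (LK LD1_c17 LD2_c46 LD3_c23) Lrfl Lrfl
theorem f43772 : Led Lsl_bt (LP (LK LD1_c9 LD2_c40 LD3_c21)) = (LP (LK LD1_c4 LD2_c54 LD3_c25)) :=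
  Lre_b IH (LK LD1_c9 LD2_c40 LD3_c21) (LK LD1_c4 LD2_c54 LD3_c25) Lrfl Lrfl
theorem f294297 : Led Lsl_at (LP (LK LD1_c17 LD2_c47 LD3_c31)) = (LP (LK LD1_c9 LD2_c40 LD3_c21)) :=
  Lre_a IH (LK LD1_c17 LD2_c47 LD3_c31) (LK LD1_c9 LD2_c40 LD3_c21) Lrfl Lrfl
theorem f294298 : Led Lsl_bt (LP (LK LD1_c17 LD2_c46 LD3_c23)) = (LP (LK LD1_c17 LD2_c47 LD3_c31)) :=
  Lgr Lrot62 (Lpe (f294296 IH) (Lpe (K37.f229051 IH) (Lpr_af (K18.f294294 IH) (Lpe (f43772 IH) (Lpe (f294297 IH) (Lpn (LP (LK LD1_c17 LD2_c47 LD3_c31))))))))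
theorem f294549 : Led Lsl_bt (LP (LK LD1_c17 LD2_c46 LD3_c15)) = (LP (LK LD1_c17 LD2_c47 LD3_c23)) :=
  Lgr Lrot35 (Lpr_ff (K37.f294508 IH) (Lpe (f294298 IH) (Lpr_ff (K37.f294545 IH) (Lpn (LP (LK LD1_c17 LD2_c47 LD3_c23))))))
theorem f188386 : Led Lsl_gt (LP (LK LD1_c10 LD2_c25 LD3_c32)) = (LP (LK LD1_c5 LD2_c17 LD3_c57)) :=
  Lre_g IH (LK LD1_c10 LD2_c25 LD3_c32) (LK LD1_c5 LD2_c17 LD3_c57) Lrfl Lrfl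
theorem f294496 : Led Lsl_gt (LP (LK LD1_c18 LD2_c51 LD3_c44)) = (LP (LK LD1_c10 LD2_c25 LD3_c32)) :=
  Lgr Lrot5 (Lpr_ft (K37.f294401 IH) (Lpr_at (K37.f251230 IH) (Lpe (f188386 IH) (Lpn (LP (LK LD1_c10 LD2_c25 LD3_c32))))))
theorem f417619 : Led Lsl_ct (LP (LK LD1_c18 LD2_c13 LD3_c8)) = (LP (LK LD1_c10 LD2_c25 LD3_c32)) :=
  Lgr Lrot10 (Lpr_bt (f417618 IH) (Lpr_gt (f417616 IH) (Lpr_ct (K37.f343334 IH) (Lpe (K37.f343344 IH) (Lpe (K37.f233690 IH) (Lpe (K37.f233691 IH) (Lpr_gt (K37.f294547 IH) (Lpe (f294549 IH) (Lpr_ct (K37.f230039 IH) (Lpr_gt (f294496 IH) (Lpn (LP (LK LD1_c10 LD2_c25 LD3_c32)))))))))))))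
theorem f417625 : Led Lsl_cf (LP (LK LD1_c18 LD2_c13 LD3_c8)) = (LP (LK LD1_c10 LD2_c25 LD3_c32)) :=
  Lgr Lrot11 (Lpr_ct (f417619 IH) (Lpn (LP (LK LD1_c10 LD2_c25 LD3_c32))))
theorem f584134 : Led Lsl_df (LP (LK LD1_c17 LD2_c47 LD3_c29)) = (LP (LK LD1_c27 LD2_c34 LD3_c30)) :=
  Lgr Lrot155 (Lpe (K37.f407426 IH) (Lpr_ct (K37.f230039 IH) (Lpr_gt (f294496 IH) (Lpe (f417625 IH) (Lpe (f584119 IH) (Lpe (f343517 IH) (Lpe (f417560 IH) (Lpr_cf (f584123 IH) (Lpe (f544694 IH) (Lpn (LP (LK LD1_c27 LD2_c34 LD3_c30))))))))))))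
theorem f407430 : Led Lsl_ct (LP (LK LD1_c18 LD2_c33 LD3_c58)) = (LP (LK LD1_c27 LD2_c34 LD3_c30)) :=
  Lgr Lrot59 (Lpr_cf (K37.f407428 IH) (Lpn (LP (LK LD1_c27 LD2_c34 LD3_c30))))
theorem f584168 : Led Lsl_dt (LP (LK LD1_c27 LD2_c32 LD3_c10)) = (LP (LK LD1_c17 LD2_c45 LD3_c61)) :=
  Lgr Lrot6 (Lpr_gt (K37.f300254 IH) (Lpe (f544736 IH) (Lpr_gt (K37.f413129 IH) (Lpr_ct (K37.f294368 IH) (Lpr_df (f584134 IH) (Lpe (f407430 IH) (Lpe (K37.f249761 IH) (Lpe (K37.f343509 IH) (Lpe (K37.f343348 IH) (Lpn (LP (LK LD1_c17 LD2_c45 LD3_c61))))))))))))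
theorem f584170 : Led Lsl_df (LP (LK LD1_c27 LD2_c32 LD3_c10)) = (LP (LK LD1_c17 LD2_c45 LD3_c61)) :=
  Lgr Lrot38 (Lpr_dt (f584168 IH) (Lpn (LP (LK LD1_c17 LD2_c45 LD3_c61))))
theorem f300023 : Led Lsl_ft (LP (LK LD1_c9 LD2_c56 LD3_c26)) = (LP (LK LD1_c10 LD2_c9 LD3_c40)) :=
  Lgr Lrot48 (Lpr_ff (K18.f300013 IH) (Lpn (LP (LK LD1_c10 LD2_c9 LD3_c40))))
theorem f300033 : Led Lsl_dt (LP (LK LD1_c18 LD2_c11 LD3_c24)) = (LP (LK LD1_c9 LD2_c56 LD3_c26)) :=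
  Lre_d IH (LK LD1_c18 LD2_c11 LD3_c24) (LK LD1_c9 LD2_c56 LD3_c26) Lrfl Lrfl
theorem f300028 : Led Lsl_dt (LP (LK LD1_c10 LD2_c9 LD3_c40)) = (LP (LK LD1_c18 LD2_c30 LD3_c39)) :=
  Lre_d IH (LK LD1_c10 LD2_c9 LD3_c40) (LK LD1_c18 LD2_c30 LD3_c39) Lrfl Lrfl
theorem f300034 : Led Lsl_ff (LP (LK LD1_c18 LD2_c11 LD3_c24)) = (LP (LK LD1_c18 LD2_c30 LD3_c39)) :=
  Lgr Lrot19 (Lpr_dt (f300033 IH) (Lpr_ft (f300023 IH) (Lpr_dt (f300028 IH) (Lpn (LP (LK LD1_c18 LD2_c30 LD3_c39))))))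
theorem f300043 : Led Lsl_at (LP (LK LD1_c18 LD2_c11 LD3_c24)) = (LP (LK LD1_c27 LD2_c51 LD3_c44)) :=
  Lre_a IH (LK LD1_c18 LD2_c11 LD3_c24) (LK LD1_c27 LD2_c51 LD3_c44) Lrfl Lrfl
theorem f283941 : Led Lsl_gt (LP (LK LD1_c18 LD2_c30 LD3_c39)) = (LP (LK LD1_c28 LD2_c4 LD3_c45)) :=
  Lre_g IH (LK LD1_c18 LD2_c30 LD3_c39) (LK LD1_c28 LD2_c4 LD3_c45) Lrfl Lrfl
theorem f300050 : Led Lsl_gf (LP (LK LD1_c27 LD2_c51 LD3_c44)) = (LP (LK LD1_c28 LD2_c4 LD3_c45)) :=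
  Lgr Lrot76 (Lpe (f300043 IH) (Lpr_ff (f300034 IH) (Lpr_gt (f283941 IH) (Lpn (LP (LK LD1_c28 LD2_c4 LD3_c45))))))
theorem f248982 : Led Lsl_cf (LP (LK LD1_c9 LD2_c39 LD3_c39)) = (LP (LK LD1_c10 LD2_c11 LD3_c32)) :=
  Lgr Lrot1 (Lpr_at (K14.f248660 IH) (Lpr_ct (K14.f248971 IH) (Lpr_at (K37.f248981 IH) (Lpn (LP (LK LD1_c10 LD2_c11 LD3_c32))))))
theorem f256471 : Led Lsl_gt (LP (LK LD1_c10 LD2_c11 LD3_c32)) = (LP (LK LD1_c18 LD2_c33 LD3_c57)) :=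
  Lre_g IH (LK LD1_c10 LD2_c11 LD3_c32) (LK LD1_c18 LD2_c33 LD3_c57) Lrfl Lrfl
theorem f584174 : Led Lsl_df (LP (LK LD1_c28 LD2_c4 LD3_c45)) = (LP (LK LD1_c18 LD2_c33 LD3_c57)) :=
  Lgr Lrot153 (Lpe (f300050 IH) (Lpr_dt (K18.f299819 IH) (Lpr_cf (K18.f299803 IH) (Lpe (K18.f299813 IH) (Lpe (K37.f300254 IH) (Lpr_df (f584170 IH) (Lpe (K37.f229936 IH) (Lpr_cf (f248982 IH) (Lpr_gt (f256471 IH) (Lpn (LP (LK LD1_c18 LD2_c33 LD3_c57))))))))))))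
theorem f584180 : Led Lsl_dt (LP (LK LD1_c28 LD2_c4 LD3_c45)) = (LP (LK LD1_c18 LD2_c33 LD3_c57)) :=
  Lgr Lrot42 (Lpr_df (f584174 IH) (Lpn (LP (LK LD1_c18 LD2_c33 LD3_c57))))
theorem f278626 : Led Lsl_gt (LP (LK LD1_c18 LD2_c30 LD3_c37)) = (LP (LK LD1_c10 LD2_c9 LD3_c40)) :=
  Lre_g IH (LK LD1_c18 LD2_c30 LD3_c37) (LK LD1_c10 LD2_c9 LD3_c40) Lrfl Lrfl
theorem f294363 : Led Lsl_dt (LP (LK LD1_c9 LD2_c40 LD3_c21)) = (LP (LK LD1_c17 LD2_c47 LD3_c32)) :=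
  Lre_d IH (LK LD1_c9 LD2_c40 LD3_c21) (LK LD1_c17 LD2_c47 LD3_c32) Lrfl Lrfl
theorem f212379 : Led Lsl_gt (LP (LK LD1_c17 LD2_c47 LD3_c32)) = (LP (LK LD1_c27 LD2_c34 LD3_c36)) :=
  Lre_g IH (LK LD1_c17 LD2_c47 LD3_c32) (LK LD1_c27 LD2_c34 LD3_c36) Lrfl Lrfl
theorem f300052 : Led Lsl_dt (LP (LK LD1_c9 LD2_c39 LD3_c35)) = (LP (LK LD1_c17 LD2_c45 LD3_c54)) :=
  Lre_d IH (LK LD1_c9 LD2_c39 LD3_c35) (LK LD1_c17 LD2_c45 LD3_c54) Lrfl Lrfl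
theorem f278601 : Led Lsl_bt (LP (LK LD1_c5 LD2_c9 LD3_c29)) = (LP (LK LD1_c10 LD2_c9 LD3_c40)) :=
  Lre_b IH (LK LD1_c5 LD2_c9 LD3_c29) (LK LD1_c10 LD2_c9 LD3_c40) Lrfl Lrfl
theorem f278602 : Led Lsl_ct (LP (LK LD1_c10 LD2_c9 LD3_c40)) = (LP (LK LD1_c9 LD2_c39 LD3_c35)) :=
  Lgr Lrot83 (Lpe (f278601 IH) (Lpe (K17.f278600 IH) (Lpr_bf (K16.f278561 IH) (Lpe (K14.f190637 IH) (Lpe (K18.f258947 IH) (Lpn (LP (LK LD1_c9 LD2_c39 LD3_c35))))))))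
theorem f544702 : Led Lsl_ct (LP (LK LD1_c27 LD2_c34 LD3_c36)) = (LP (LK LD1_c18 LD2_c30 LD3_c37)) :=
  Lgr Lrot152 (Lpe (f212379 IH) (Lpe (f294363 IH) (Lpr_gt (K37.f184061 IH) (Lpr_ct (K37.f184866 IH) (Lpr_gt (K37.f544698 IH) (Lpr_ct (K18.f190641 IH) (Lpe (f300052 IH) (Lpe (f278602 IH) (Lpe (f278626 IH) (Lpn (LP (LK LD1_c18 LD2_c30 LD3_c37))))))))))))
theorem f294289 : Led Lsl_ff (LP (LK LD1_c9 LD2_c39 LD3_c46)) = (LP (LK LD1_c9 LD2_c40 LD3_c22)) :=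
  Lgr Lrot19 (Lpr_dt (K15.f43783 IH) (Lpr_ft (K18.f294285 IH) (Lpr_dt (K14.f43771 IH) (Lpn (LP (LK LD1_c9 LD2_c40 LD3_c22))))))
theorem f230345 : Led Lsl_bt (LP (LK LD1_c9 LD2_c39 LD3_c46)) = (LP (LK LD1_c17 LD2_c46 LD3_c16)) :=
  Lre_b IH (LK LD1_c9 LD2_c39 LD3_c46) (LK LD1_c17 LD2_c46 LD3_c16) Lrfl Lrfl
theorem f212410 : Led Lsl_bt (LP (LK LD1_c17 LD2_c47 LD3_c32)) = (LP (LK LD1_c9 LD2_c40 LD3_c22)) :=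
  Lre_b IH (LK LD1_c17 LD2_c47 LD3_c32) (LK LD1_c9 LD2_c40 LD3_c22) Lrfl Lrfl
theorem f407411 : Led Lsl_ft (LP (LK LD1_c17 LD2_c46 LD3_c16)) = (LP (LK LD1_c17 LD2_c47 LD3_c32)) :=
  Lgr Lrot75 (Lpe (f230345 IH) (Lpr_ff (f294289 IH) (Lpe (f212410 IH) (Lpn (LP (LK LD1_c17 LD2_c47 LD3_c32))))))
theorem f407416 : Led Lsl_ff (LP (LK LD1_c17 LD2_c46 LD3_c16)) = (LP (LK LD1_c17 LD2_c47 LD3_c32)) :=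
  Lgr Lrot3 (Lpr_ft (f407411 IH) (Lpn (LP (LK LD1_c17 LD2_c47 LD3_c32))))
theorem f407418 : Led Lsl_at (LP (LK LD1_c17 LD2_c46 LD3_c16)) = (LP (LK LD1_c27 LD2_c32 LD3_c51)) :=
  Lre_a IH (LK LD1_c17 LD2_c46 LD3_c16) (LK LD1_c27 LD2_c32 LD3_c51) Lrfl Lrfl
theorem f407422 : Led Lsl_gf (LP (LK LD1_c27 LD2_c32 LD3_c51)) = (LP (LK LD1_c27 LD2_c34 LD3_c36)) :=
  Lgr Lrot76 (Lpe (f407418 IH) (Lpr_ff (f407416 IH) (Lpr_gt (f212379 IH) (Lpn (LP (LK LD1_c27 LD2_c34 LD3_c36))))))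
theorem f230055 : Led Lsl_dt (LP (LK LD1_c27 LD2_c32 LD3_c51)) = (LP (LK LD1_c17 LD2_c46 LD3_c15)) :=
  Lre_d IH (LK LD1_c27 LD2_c32 LD3_c51) (LK LD1_c17 LD2_c46 LD3_c15) Lrfl Lrfl
theorem f294371 : Led Lsl_gt (LP (LK LD1_c17 LD2_c47 LD3_c30)) = (LP (LK LD1_c9 LD2_c40 LD3_c21)) :=
  Lre_g IH (LK LD1_c17 LD2_c47 LD3_c30) (LK LD1_c9 LD2_c40 LD3_c21) Lrfl Lrfl
theorem f294510 : Led Lsl_gt (LP (LK LD1_c17 LD2_c46 LD3_c15)) = (LP (LK LD1_c17 LD2_c47 LD3_c30)) :=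
  Lgr Lrot5 (Lpr_ft (K37.f294504 IH) (Lpr_at (f294297 IH) (Lpe (f294371 IH) (Lpn (LP (LK LD1_c17 LD2_c47 LD3_c30))))))
theorem f294512 : Led Lsl_dt (LP (LK LD1_c17 LD2_c47 LD3_c30)) = (LP (LK LD1_c27 LD2_c34 LD3_c34)) :=
  Lre_d IH (LK LD1_c17 LD2_c47 LD3_c30) (LK LD1_c27 LD2_c34 LD3_c34) Lrfl Lrfl
theorem f584185 : Led Lsl_cf (LP (LK LD1_c27 LD2_c34 LD3_c34)) = (LP (LK LD1_c18 LD2_c33 LD3_c57)) :=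
  Lgr Lrot14 (Lpe (f294512 IH) (Lpe (f294510 IH) (Lpe (f230055 IH) (Lpr_gf (f407422 IH) (Lpr_ct (f544702 IH) (Lpr_gt (f278626 IH) (Lpr_dt (f300028 IH) (Lpr_gt (f283941 IH) (Lpr_dt (f584180 IH) (Lpn (LP (LK LD1_c18 LD2_c33 LD3_c57))))))))))))
theorem f294372 : Led Lsl_ct (LP (LK LD1_c27 LD2_c34 LD3_c33)) = (LP (LK LD1_c17 LD2_c47 LD3_c30)) :=
  Lre_c IH (LK LD1_c27 LD2_c34 LD3_c33) (LK LD1_c17 LD2_c47 LD3_c30) Lrfl Lrfl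
theorem f249428 : Led Lsl_gt (LP (LK LD1_c18 LD2_c9 LD3_c31)) = (LP (LK LD1_c9 LD2_c55 LD3_c10)) :=
  Lre_g IH (LK LD1_c18 LD2_c9 LD3_c31) (LK LD1_c9 LD2_c55 LD3_c10) Lrfl Lrfl
theorem f229110 : Led Lsl_ct (LP (LK LD1_c25 LD2_c0 LD3_c55)) = (LP (LK LD1_c15 LD2_c11 LD3_c59)) :=
  Lre_c IH (LK LD1_c25 LD2_c0 LD3_c55) (LK LD1_c15 LD2_c11 LD3_c59) Lrfl Lrfl
theorem f582726 : Led Lsl_bf (LP (LK LD1_c18 LD2_c9 LD3_c31)) = (LP (LK LD1_c25 LD2_c0 LD3_c55)) :=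
  Lgr Lrot165 (Lpr_gt (f249428 IH) (Lpr_ct (f249432 IH) (Lpr_gt (f582719 IH) (Lpr_cf (f252484 IH) (Lpr_bt (f43682 IH) (Lpr_gt (K12.f43495 IH) (Lpe (K37.f43758 IH) (Lpr_ct (K37.f294575 IH) (Lpr_gt (K37.f229103 IH) (Lpe (f229110 IH) (Lpn (LP (LK LD1_c25 LD2_c0 LD3_c55)))))))))))))
theorem f299637 : Led Lsl_at (LP (LK LD1_c18 LD2_c9 LD3_c28)) = (LP (LK LD1_c9 LD2_c55 LD3_c10)) :=
  Lre_a IH (LK LD1_c18 LD2_c9 LD3_c28) (LK LD1_c9 LD2_c55 LD3_c10) Lrfl Lrfl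
theorem f299638 : Led Lsl_ft (LP (LK LD1_c18 LD2_c33 LD3_c6)) = (LP (LK LD1_c18 LD2_c9 LD3_c28)) :=
  Lgr Lrot101 (Lpe (f299636 IH) (Lpr_ff (K18.f299634 IH) (Lpe (f299637 IH) (Lpn (LP (LK LD1_c18 LD2_c9 LD3_c28))))))
theorem f406789 : Led Lsl_gt (LP (LK LD1_c18 LD2_c33 LD3_c6)) = (LP (LK LD1_c18 LD2_c9 LD3_c31)) :=
  Lgr Lrot5 (Lpr_ft (f299638 IH) (Lpr_at (f299637 IH) (Lpe (f249428 IH) (Lpn (LP (LK LD1_c18 LD2_c9 LD3_c31))))))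
theorem f294377 : Led Lsl_ct (LP (LK LD1_c17 LD2_c47 LD3_c30)) = (LP (LK LD1_c27 LD2_c34 LD3_c33)) :=
  Lre_c IH (LK LD1_c17 LD2_c47 LD3_c30) (LK LD1_c27 LD2_c34 LD3_c33) Lrfl Lrfl
theorem f582737 : Led Lsl_gf (LP (LK LD1_c18 LD2_c51 LD3_c59)) = (LP (LK LD1_c27 LD2_c34 LD3_c33)) :=
  Lgr Lrot129 (Lpr_cf (f544736 IH) (Lpe (f299612 IH) (Lpr_gt (f406789 IH) (Lpr_bf (f582726 IH) (Lpr_ct (f229110 IH) (Lpr_gt (K37.f413122 IH) (Lpe (K37.f260122 IH) (Lpe (K37.f294268 IH) (Lpr_gt (f294510 IH) (Lpr_ct (f294377 IH) (Lpn (LP (LK LD1_c27 LD2_c34 LD3_c33)))))))))))))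
theorem f582739 : Led Lsl_gt (LP (LK LD1_c27 LD2_c32 LD3_c11)) = (LP (LK LD1_c27 LD2_c34 LD3_c33)) :=
  Lgr Lrot5 (Lpr_ft (K37.f300246 IH) (Lpe (K37.f544727 IH) (Lpr_gf (f582737 IH) (Lpn (LP (LK LD1_c27 LD2_c34 LD3_c33))))))
theorem f582904 : Led Lsl_ft (LP (LK LD1_c15 LD2_c14 LD3_c35)) = (LP (LK LD1_c19 LD2_c2 LD3_c14)) :=
  Lgr Lrot48 (Lpr_ff (f582898 IH) (Lpn (LP (LK LD1_c19 LD2_c2 LD3_c14))))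
theorem f45970 : Led Lsl_et (LP (LK LD1_c15 LD2_c14 LD3_c35)) = (LP (LK LD1_c8 LD2_c5 LD3_c56)) :=
  Lre_e IH (LK LD1_c15 LD2_c14 LD3_c35) (LK LD1_c8 LD2_c5 LD3_c56) Lrfl Lrfl
theorem f43994 : Led Lsl_ef (LP (LK LD1_c5 LD2_c21 LD3_c23)) = (LP (LK LD1_c5 LD2_c19 LD3_c12)) :=
  Lgr Lrot88 (Lpr_et (K10.f43969 IH) (Lpn (LP (LK LD1_c5 LD2_c19 LD3_c12))))
theorem f44006 : Led Lsl_at (LP (LK LD1_c10 LD2_c28 LD3_c11)) = (LP (LK LD1_c5 LD2_c19 LD3_c12)) :=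
  Lre_a IH (LK LD1_c10 LD2_c28 LD3_c11) (LK LD1_c5 LD2_c19 LD3_c12) Lrfl Lrfl
theorem f44007 : Led Lsl_et (LP (LK LD1_c10 LD2_c33 LD3_c5)) = (LP (LK LD1_c10 LD2_c28 LD3_c11)) :=
  Lgr Lrot123 (Lpe (K14.f44005 IH) (Lpr_ef (f43994 IH) (Lpe (f44006 IH) (Lpn (LP (LK LD1_c10 LD2_c28 LD3_c11))))))
theorem f45971 : Led Lsl_cf (LP (LK LD1_c15 LD2_c14 LD3_c35)) = (LP (LK LD1_c10 LD2_c28 LD3_c11)) :=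
  Lgr Lrot39 (Lpr_et (f45970 IH) (Lpr_ct (f45952 IH) (Lpr_et (f44007 IH) (Lpn (LP (LK LD1_c10 LD2_c28 LD3_c11))))))
theorem f233454 : Led Lsl_ct (LP (LK LD1_c19 LD2_c2 LD3_c14)) = (LP (LK LD1_c10 LD2_c30 LD3_c21)) :=
  Lre_c IH (LK LD1_c19 LD2_c2 LD3_c14) (LK LD1_c10 LD2_c30 LD3_c21) Lrfl Lrfl
theorem f582912 : Led Lsl_ff (LP (LK LD1_c10 LD2_c28 LD3_c11)) = (LP (LK LD1_c10 LD2_c30 LD3_c21)) :=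
  Lgr Lrot23 (Lpe (f45971 IH) (Lpr_ft (f582904 IH) (Lpr_ct (f233454 IH) (Lpn (LP (LK LD1_c10 LD2_c30 LD3_c21))))))
theorem f47366 : Led Lsl_bt (LP (LK LD1_c5 LD2_c20 LD3_c11)) = (LP (LK LD1_c10 LD2_c30 LD3_c21)) :=
  Lre_b IH (LK LD1_c5 LD2_c20 LD3_c11) (LK LD1_c10 LD2_c30 LD3_c21) Lrfl Lrfl
theorem f582914 : Led Lsl_bt (LP (LK LD1_c10 LD2_c28 LD3_c11)) = (LP (LK LD1_c5 LD2_c19 LD3_c13)) :=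
  Lgr Lrot35 (Lpr_ff (f582912 IH) (Lpe (f47366 IH) (Lpr_ff (K14.f47372 IH) (Lpn (LP (LK LD1_c5 LD2_c19 LD3_c13))))))
theorem f21733 : Led Lsl_bt (LP (LK LD1_c2 LD2_c28 LD3_c36)) = (LP (LK LD1_c1 LD2_c11 LD3_c30)) :=
  Lre_b IH (LK LD1_c2 LD2_c28 LD3_c36) (LK LD1_c1 LD2_c11 LD3_c30) Lrfl Lrfl
theorem f21881 : Led Lsl_ct (LP (LK LD1_c2 LD2_c28 LD3_c36)) = (LP (LK LD1_c1 LD2_c11 LD3_c52)) :=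
  Lre_c IH (LK LD1_c2 LD2_c28 LD3_c36) (LK LD1_c1 LD2_c11 LD3_c52) Lrfl Lrfl
theorem f21491 : Led Lsl_gt (LP (LK LD1_c2 LD2_c29 LD3_c36)) = (LP (LK LD1_c1 LD2_c11 LD3_c52)) :=
  Lre_g IH (LK LD1_c2 LD2_c29 LD3_c36) (LK LD1_c1 LD2_c11 LD3_c52) Lrfl Lrfl
theorem f190542 : Led Lsl_ct (LP (LK LD1_c5 LD2_c4 LD3_c29)) = (LP (LK LD1_c2 LD2_c29 LD3_c36)) :=
  Lre_c IH (LK LD1_c5 LD2_c4 LD3_c29) (LK LD1_c2 LD2_c29 LD3_c36) Lrfl Lrfl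
theorem f190543 : Led Lsl_bt (LP (LK LD1_c5 LD2_c4 LD3_c29)) = (LP (LK LD1_c10 LD2_c0 LD3_c1)) :=
  Lre_b IH (LK LD1_c5 LD2_c4 LD3_c29) (LK LD1_c10 LD2_c0 LD3_c1) Lrfl Lrfl
theorem f247929 : Led Lsl_gf (LP (LK LD1_c10 LD2_c0 LD3_c1)) = (LP (LK LD1_c15 LD2_c14 LD3_c37)) :=
  Lgr Lrot124 (Lpe (f190543 IH) (Lpr_ct (f190542 IH) (Lpr_gt (f21491 IH) (Lpe (f21881 IH) (Lpr_bt (f21733 IH) (Lpr_gt (K14.f21840 IH) (Lpe (K14.f190537 IH) (Lpr_gt (K14.f247895 IH) (Lpe (K9.f45893 IH) (Lpr_bt (f45848 IH) (Lpn (LP (LK LD1_c15 LD2_c14 LD3_c37)))))))))))))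
theorem f45973 : Led Lsl_ft (LP (LK LD1_c15 LD2_c14 LD3_c37)) = (LP (LK LD1_c8 LD2_c5 LD3_c44)) :=
  Lre_f IH (LK LD1_c15 LD2_c14 LD3_c37) (LK LD1_c8 LD2_c5 LD3_c44) Lrfl Lrfl
theorem f247932 : Led Lsl_gt (LP (LK LD1_c10 LD2_c0 LD3_c1)) = (LP (LK LD1_c15 LD2_c14 LD3_c35)) :=
  Lgr Lrot46 (Lpr_gf (f247929 IH) (Lpr_ft (f45973 IH) (Lpr_at (f45907 IH) (Lpn (LP (LK LD1_c15 LD2_c14 LD3_c35))))))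
theorem f247934 : Led Lsl_ct (LP (LK LD1_c18 LD2_c16 LD3_c48)) = (LP (LK LD1_c10 LD2_c0 LD3_c1)) :=
  Lre_c IH (LK LD1_c18 LD2_c16 LD3_c48) (LK LD1_c10 LD2_c0 LD3_c1) Lrfl Lrfl
theorem f294381 : Led Lsl_bt (LP (LK LD1_c17 LD2_c47 LD3_c30)) = (LP (LK LD1_c27 LD2_c34 LD3_c32)) :=
  Lre_b IH (LK LD1_c17 LD2_c47 LD3_c30) (LK LD1_c27 LD2_c34 LD3_c32) Lrfl Lrfl
theorem f583274 : Led Lsl_gf (LP (LK LD1_c18 LD2_c16 LD3_c48)) = (LP (LK LD1_c27 LD2_c34 LD3_c32)) :=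
  Lgr Lrot181 (Lpr_ct (f247934 IH) (Lpr_gt (f247932 IH) (Lpr_cf (f45971 IH) (Lpr_bt (f582914 IH) (Lpr_gt (K14.f190629 IH) (Lpe (K37.f190638 IH) (Lpr_ct (K18.f190639 IH) (Lpr_gt (f582739 IH) (Lpe (f294377 IH) (Lpr_bt (f294381 IH) (Lpn (LP (LK LD1_c27 LD2_c34 LD3_c32)))))))))))))
theorem f343491 : Led Lsl_bt (LP (LK LD1_c9 LD2_c59 LD3_c60)) = (LP (LK LD1_c18 LD2_c16 LD3_c48)) :=
  Lre_b IH (LK LD1_c9 LD2_c59 LD3_c60) (LK LD1_c18 LD2_c16 LD3_c48) Lrfl Lrfl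
theorem f247940 : Led Lsl_ct (LP (LK LD1_c9 LD2_c59 LD3_c60)) = (LP (LK LD1_c5 LD2_c4 LD3_c28)) :=
  Lre_c IH (LK LD1_c9 LD2_c59 LD3_c60) (LK LD1_c5 LD2_c4 LD3_c28) Lrfl Lrfl
theorem f247941 : Led Lsl_gt (LP (LK LD1_c5 LD2_c4 LD3_c28)) = (LP (LK LD1_c9 LD2_c59 LD3_c58)) :=
  Lre_g IH (LK LD1_c5 LD2_c4 LD3_c28) (LK LD1_c9 LD2_c59 LD3_c58) Lrfl Lrfl
theorem f165739 : Led Lsl_bt (LP (LK LD1_c9 LD2_c58 LD3_c39)) = (LP (LK LD1_c5 LD2_c3 LD3_c52)) :=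
  Lre_b IH (LK LD1_c9 LD2_c58 LD3_c39) (LK LD1_c5 LD2_c3 LD3_c52) Lrfl Lrfl
theorem f343303 : Led Lsl_ct (LP (LK LD1_c9 LD2_c58 LD3_c39)) = (LP (LK LD1_c9 LD2_c59 LD3_c45)) :=
  Lre_c IH (LK LD1_c9 LD2_c58 LD3_c39) (LK LD1_c9 LD2_c59 LD3_c45) Lrfl Lrfl
theorem f343304 : Led Lsl_gt (LP (LK LD1_c9 LD2_c59 LD3_c45)) = (LP (LK LD1_c5 LD2_c4 LD3_c29)) :=
  Lre_g IH (LK LD1_c9 LD2_c59 LD3_c45) (LK LD1_c5 LD2_c4 LD3_c29) Lrfl Lrfl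
theorem f163861 : Led Lsl_ct (LP (LK LD1_c2 LD2_c29 LD3_c36)) = (LP (LK LD1_c5 LD2_c4 LD3_c29)) :=
  Lre_c IH (LK LD1_c2 LD2_c29 LD3_c36) (LK LD1_c5 LD2_c4 LD3_c29) Lrfl Lrfl
theorem f343305 : Led Lsl_bt (LP (LK LD1_c2 LD2_c29 LD3_c36)) = (LP (LK LD1_c5 LD2_c4 LD3_c28)) :=
  Lre_b IH (LK LD1_c2 LD2_c29 LD3_c36) (LK LD1_c5 LD2_c4 LD3_c28) Lrfl Lrfl
theorem f343479 : Led Lsl_ct (LP (LK LD1_c9 LD2_c59 LD3_c58)) = (LP (LK LD1_c10 LD2_c12 LD3_c21)) :=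
  Lgr Lrot91 (Lpe (f247941 IH) (Lpe (f343305 IH) (Lpr_ct (f163861 IH) (Lpe (f343304 IH) (Lpe (f343303 IH) (Lpr_bt (f165739 IH) (Lpe (K37.f343296 IH) (Lpe (K14.f248946 IH) (Lpr_ct (K37.f248966 IH) (Lpr_gf (f343475 IH) (Lpn (LP (LK LD1_c10 LD2_c12 LD3_c21)))))))))))))
theorem f343481 : Led Lsl_cf (LP (LK LD1_c9 LD2_c59 LD3_c58)) = (LP (LK LD1_c10 LD2_c12 LD3_c21)) :=
  Lgr Lrot11 (Lpr_ct (f343479 IH) (Lpn (LP (LK LD1_c10 LD2_c12 LD3_c21))))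
theorem f230034 : Led Lsl_bt (LP (LK LD1_c10 LD2_c12 LD3_c21)) = (LP (LK LD1_c18 LD2_c35 LD3_c16)) :=
  Lre_b IH (LK LD1_c10 LD2_c12 LD3_c21) (LK LD1_c18 LD2_c35 LD3_c16) Lrfl Lrfl
theorem f583277 : Led Lsl_gt (LP (LK LD1_c18 LD2_c35 LD3_c16)) = (LP (LK LD1_c17 LD2_c45 LD3_c54)) :=
  Lgr Lrot82 (Lpe (f230034 IH) (Lpe (f343481 IH) (Lpe (f247941 IH) (Lpe (f247940 IH) (Lpr_bt (f343491 IH) (Lpr_gf (f583274 IH) (Lpe (f294381 IH) (Lpr_ct (f294377 IH) (Lpe (f582739 IH) (Lpe (K18.f190639 IH) (Lpn (LP (LK LD1_c17 LD2_c45 LD3_c54)))))))))))))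
theorem f584191 : Led Lsl_df (LP (LK LD1_c18 LD2_c35 LD3_c16)) = (LP (LK LD1_c17 LD2_c46 LD3_c0)) :=
  Lgr Lrot155 (Lpr_gt (f583277 IH) (Lpr_ct (K18.f190639 IH) (Lpr_gt (f582739 IH) (Lpr_ct (f294372 IH) (Lpr_dt (f294512 IH) (Lpr_cf (f584185 IH) (Lpe (f256471 IH) (Lpe (K37.f248969 IH) (Lpe (K37.f43800 IH) (Lpn (LP (LK LD1_c17 LD2_c46 LD3_c0))))))))))))
theorem f230246 : Led Lsl_gt (LP (LK LD1_c17 LD2_c46 LD3_c2)) = (LP (LK LD1_c27 LD2_c32 LD3_c24)) :=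
  Lre_g IH (LK LD1_c17 LD2_c46 LD3_c2) (LK LD1_c27 LD2_c32 LD3_c24) Lrfl Lrfl
theorem f307558 : Led Lsl_gf (LP (LK LD1_c27 LD2_c34 LD3_c6)) = (LP (LK LD1_c27 LD2_c32 LD3_c24)) :=
  Lgr Lrot76 (Lpe (K37.f307550 IH) (Lpr_ff (K19.f307547 IH) (Lpr_gt (f230246 IH) (Lpn (LP (LK LD1_c27 LD2_c32 LD3_c24))))))
theorem f405781 : Led Lsl_ct (LP (LK LD1_c27 LD2_c33 LD3_c13)) = (LP (LK LD1_c17 LD2_c46 LD3_c32)) :=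
  Lre_c IH (LK LD1_c27 LD2_c33 LD3_c13) (LK LD1_c17 LD2_c46 LD3_c32) Lrfl Lrfl
theorem f294597 : Led Lsl_gt (LP (LK LD1_c27 LD2_c32 LD3_c19)) = (LP (LK LD1_c27 LD2_c33 LD3_c13)) :=
  Lre_g IH (LK LD1_c27 LD2_c32 LD3_c19) (LK LD1_c27 LD2_c33 LD3_c13) Lrfl Lrfl
theorem f294592 : Led Lsl_ct (LP (LK LD1_c17 LD2_c45 LD3_c61)) = (LP (LK LD1_c27 LD2_c32 LD3_c19)) :=
  Lre_c IH (LK LD1_c17 LD2_c45 LD3_c61) (LK LD1_c27 LD2_c32 LD3_c19) Lrfl Lrfl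
theorem f230266 : Led Lsl_dt (LP (LK LD1_c9 LD2_c39 LD3_c39)) = (LP (LK LD1_c17 LD2_c46 LD3_c2)) :=
  Lre_d IH (LK LD1_c9 LD2_c39 LD3_c39) (LK LD1_c17 LD2_c46 LD3_c2) Lrfl Lrfl
theorem f193148 : Led Lsl_bt (LP (LK LD1_c5 LD2_c17 LD3_c42)) = (LP (LK LD1_c2 LD2_c35 LD3_c36)) :=
  Lre_b IH (LK LD1_c5 LD2_c17 LD3_c42) (LK LD1_c2 LD2_c35 LD3_c36) Lrfl Lrfl
theorem f273590 : Led Lsl_ft (LP (LK LD1_c10 LD2_c23 LD3_c40)) = (LP (LK LD1_c5 LD2_c17 LD3_c42)) :=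
  Lgr Lrot75 (Lpe (K37.f32919 IH) (Lpr_ff (K16.f273588 IH) (Lpe (f193148 IH) (Lpn (LP (LK LD1_c5 LD2_c17 LD3_c42))))))
theorem f32920 : Led Lsl_gt (LP (LK LD1_c10 LD2_c23 LD3_c40)) = (LP (LK LD1_c18 LD2_c51 LD3_c31)) :=
  Lre_g IH (LK LD1_c10 LD2_c23 LD3_c40) (LK LD1_c18 LD2_c51 LD3_c31) Lrfl Lrfl
theorem f273372 : Led Lsl_at (LP (LK LD1_c5 LD2_c17 LD3_c42)) = (LP (LK LD1_c10 LD2_c25 LD3_c0)) :=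
  Lre_a IH (LK LD1_c5 LD2_c17 LD3_c42) (LK LD1_c10 LD2_c25 LD3_c0) Lrfl Lrfl
theorem f410474 : Led Lsl_gt (LP (LK LD1_c18 LD2_c51 LD3_c31)) = (LP (LK LD1_c10 LD2_c25 LD3_c0)) :=
  Lgr Lrot46 (Lpe (f32920 IH) (Lpr_ft (f273590 IH) (Lpr_at (f273372 IH) (Lpn (LP (LK LD1_c10 LD2_c25 LD3_c0))))))
theorem f544598 : Led Lsl_ct (LP (LK LD1_c27 LD2_c32 LD3_c24)) = (LP (LK LD1_c18 LD2_c51 LD3_c31)) :=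
  Lgr Lrot152 (Lpe (f230246 IH) (Lpe (f230266 IH) (Lpr_gt (K37.f229936 IH) (Lpr_ct (f294592 IH) (Lpr_gt (f294597 IH) (Lpr_ct (f405781 IH) (Lpr_df (f544590 IH) (Lpe (f372237 IH) (Lpe (f410474 IH) (Lpn (LP (LK LD1_c18 LD2_c51 LD3_c31))))))))))))
theorem f544601 : Led Lsl_cf (LP (LK LD1_c27 LD2_c32 LD3_c24)) = (LP (LK LD1_c18 LD2_c51 LD3_c31)) :=
  Lgr Lrot11 (Lpr_ct (f544598 IH) (Lpn (LP (LK LD1_c18 LD2_c51 LD3_c31))))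
theorem f248223 : Led Lsl_gt (LP (LK LD1_c28 LD2_c19 LD3_c51)) = (LP (LK LD1_c18 LD2_c51 LD3_c34)) :=
  Lre_g IH (LK LD1_c28 LD2_c19 LD3_c51) (LK LD1_c18 LD2_c51 LD3_c34) Lrfl Lrfl
theorem f409545 : Led Lsl_gt (LP (LK LD1_c18 LD2_c53 LD3_c58)) = (LP (LK LD1_c28 LD2_c19 LD3_c51)) :=
  Lgr Lrot5 (Lpr_ft (f409532 IH) (Lpr_at (f409531 IH) (Lpe (f248223 IH) (Lpn (LP (LK LD1_c28 LD2_c19 LD3_c51))))))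
theorem f584218 : Led Lsl_df (LP (LK LD1_c18 LD2_c51 LD3_c43)) = (LP (LK LD1_c28 LD2_c19 LD3_c51)) :=
  Lgr Lrot84 (Lpe (f230032 IH) (Lpr_df (f584191 IH) (Lpe (K37.f343533 IH) (Lpe (K37.f307560 IH) (Lpr_gf (f307558 IH) (Lpr_cf (f544601 IH) (Lpr_gt (f410474 IH) (Lpr_dt (f409524 IH) (Lpr_gt (f409545 IH) (Lpn (LP (LK LD1_c28 LD2_c19 LD3_c51))))))))))))
theorem f584269 : Led Lsl_dt (LP (LK LD1_c18 LD2_c51 LD3_c43)) = (LP (LK LD1_c28 LD2_c19 LD3_c51)) :=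
  Lgr Lrot42 (Lpr_df (f584218 IH) (Lpn (LP (LK LD1_c28 LD2_c19 LD3_c51))))
theorem f230027 : Led Lsl_dt (LP (LK LD1_c17 LD2_c46 LD3_c14)) = (LP (LK LD1_c27 LD2_c32 LD3_c50)) :=
  Lre_d IH (LK LD1_c17 LD2_c46 LD3_c14) (LK LD1_c27 LD2_c32 LD3_c50) Lrfl Lrfl
theorem f248222 : Led Lsl_dt (LP (LK LD1_c18 LD2_c51 LD3_c34)) = (LP (LK LD1_c10 LD2_c23 LD3_c40)) :=
  Lre_d IH (LK LD1_c18 LD2_c51 LD3_c34) (LK LD1_c10 LD2_c23 LD3_c40) Lrfl Lrfl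
theorem f584273 : Led Lsl_gt (LP (LK LD1_c27 LD2_c32 LD3_c50)) = (LP (LK LD1_c17 LD2_c46 LD3_c39)) :=
  Lgr Lrot49 (Lpe (f230027 IH) (Lpr_gf (K37.f294517 IH) (Lpe (K37.f294515 IH) (Lpe (f294506 IH) (Lpr_dt (f584269 IH) (Lpr_gt (f248223 IH) (Lpr_dt (f248222 IH) (Lpr_cf (K37.f254585 IH) (Lpe (K38.f248183 IH) (Lpn (LP (LK LD1_c17 LD2_c46 LD3_c39))))))))))))
theorem f166923 : Led Lsl_gt (LP (LK LD1_c9 LD2_c58 LD3_c13)) = (LP (LK LD1_c18 LD2_c14 LD3_c18)) :=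
  Lre_g IH (LK LD1_c9 LD2_c58 LD3_c13) (LK LD1_c18 LD2_c14 LD3_c18) Lrfl Lrfl
theorem f584279 : Led Lsl_cf (LP (LK LD1_c27 LD2_c32 LD3_c50)) = (LP (LK LD1_c18 LD2_c14 LD3_c18)) :=
  Lgr Lrot125 (Lpr_gt (f584273 IH) (Lpe (K38.f43582 IH) (Lpr_bt (f584096 IH) (Lpr_gt (f214575 IH) (Lpe (K14.f171651 IH) (Lpr_ct (K12.f214102 IH) (Lpe (K14.f249618 IH) (Lpe (K14.f166898 IH) (Lpr_bt (f166922 IH) (Lpr_gt (f166923 IH) (Lpn (LP (LK LD1_c18 LD2_c14 LD3_c18)))))))))))))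
theorem f230029 : Led Lsl_dt (LP (LK LD1_c27 LD2_c32 LD3_c50)) = (LP (LK LD1_c17 LD2_c46 LD3_c14)) :=
  Lre_d IH (LK LD1_c27 LD2_c32 LD3_c50) (LK LD1_c17 LD2_c46 LD3_c14) Lrfl Lrfl
theorem f230050 : Led Lsl_ct (LP (LK LD1_c17 LD2_c46 LD3_c14)) = (LP (LK LD1_c18 LD2_c55 LD3_c7)) :=
  Lgr Lrot59 (Lpr_cf (K37.f230046 IH) (Lpn (LP (LK LD1_c18 LD2_c55 LD3_c7))))
theorem f299646 : Led Lsl_dt (LP (LK LD1_c18 LD2_c33 LD3_c6)) = (LP (LK LD1_c10 LD2_c11 LD3_c2)) :=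
  Lre_d IH (LK LD1_c18 LD2_c33 LD3_c6) (LK LD1_c10 LD2_c11 LD3_c2) Lrfl Lrfl
theorem f299669 : Led Lsl_dt (LP (LK LD1_c9 LD2_c55 LD3_c9)) = (LP (LK LD1_c18 LD2_c9 LD3_c28)) :=
  Lre_d IH (LK LD1_c9 LD2_c55 LD3_c9) (LK LD1_c18 LD2_c9 LD3_c28) Lrfl Lrfl
theorem f299695 : Led Lsl_ff (LP (LK LD1_c18 LD2_c33 LD3_c6)) = (LP (LK LD1_c18 LD2_c9 LD3_c28)) :=
  Lgr Lrot19 (Lpr_dt (f299646 IH) (Lpr_ft (K18.f299678 IH) (Lpr_dt (f299669 IH) (Lpn (LP (LK LD1_c18 LD2_c9 LD3_c28))))))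
theorem f299707 : Led Lsl_gf (LP (LK LD1_c18 LD2_c33 LD3_c9)) = (LP (LK LD1_c18 LD2_c9 LD3_c28)) :=
  Lgr Lrot47 (Lpr_gt (f248278 IH) (Lpe (f299610 IH) (Lpr_ff (f299695 IH) (Lpn (LP (LK LD1_c18 LD2_c9 LD3_c28))))))
theorem f300239 : Led Lsl_bf (LP (LK LD1_c27 LD2_c32 LD3_c8)) = (LP (LK LD1_c18 LD2_c9 LD3_c28)) :=
  Lgr Lrot61 (Lpr_ft (K18.f300229 IH) (Lpe (f299612 IH) (Lpr_ft (f299638 IH) (Lpn (LP (LK LD1_c18 LD2_c9 LD3_c28))))))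
theorem f300242 : Led Lsl_bt (LP (LK LD1_c27 LD2_c32 LD3_c8)) = (LP (LK LD1_c18 LD2_c9 LD3_c28)) :=
  Lgr Lrot127 (Lpr_bf (f300239 IH) (Lpn (LP (LK LD1_c18 LD2_c9 LD3_c28))))
theorem f544725 : Led Lsl_cf (LP (LK LD1_c28 LD2_c20 LD3_c6)) = (LP (LK LD1_c27 LD2_c32 LD3_c8)) :=
  Lgr Lrot1 (Lpr_at (K37.f544700 IH) (Lpr_ct (K18.f190641 IH) (Lpr_at (K18.f300235 IH) (Lpn (LP (LK LD1_c27 LD2_c32 LD3_c8))))))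
theorem f582842 : Led Lsl_gt (LP (LK LD1_c18 LD2_c55 LD3_c7)) = (LP (LK LD1_c28 LD2_c20 LD3_c6)) :=
  Lgr Lrot149 (Lpe (f230050 IH) (Lpr_gf (K37.f294517 IH) (Lpe (f294298 IH) (Lpr_ct (f294598 IH) (Lpr_gf (K37.f413144 IH) (Lpe (f260047 IH) (Lpr_bt (f582831 IH) (Lpr_gf (f299707 IH) (Lpe (f300242 IH) (Lpe (f544725 IH) (Lpn (LP (LK LD1_c28 LD2_c20 LD3_c6)))))))))))))
theorem f544719 : Led Lsl_af (LP (LK LD1_c28 LD2_c20 LD3_c6)) = (LP (LK LD1_c27 LD2_c32 LD3_c11)) :=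
  Lgr Lrot0 (Lpr_at (K37.f544700 IH) (Lpn (LP (LK LD1_c27 LD2_c32 LD3_c11))))
theorem f582844 : Led Lsl_gf (LP (LK LD1_c18 LD2_c55 LD3_c7)) = (LP (LK LD1_c27 LD2_c33 LD3_c52)) :=
  Lgr Lrot47 (Lpr_gt (f582842 IH) (Lpr_af (f544719 IH) (Lpr_ff (K18.f300251 IH) (Lpn (LP (LK LD1_c27 LD2_c33 LD3_c52))))))
theorem f248957 : Led Lsl_at (LP (LK LD1_c5 LD2_c10 LD3_c39)) = (LP (LK LD1_c2 LD2_c32 LD3_c21)) :=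
  Lre_a IH (LK LD1_c5 LD2_c10 LD3_c39) (LK LD1_c2 LD2_c32 LD3_c21) Lrfl Lrfl
theorem f249875 : Led Lsl_ft (LP (LK LD1_c5 LD2_c3 LD3_c53)) = (LP (LK LD1_c5 LD2_c10 LD3_c39)) :=
  Lgr Lrot101 (Lpe (K37.f249874 IH) (Lpr_ff (K14.f249865 IH) (Lpe (f248957 IH) (Lpn (LP (LK LD1_c5 LD2_c10 LD3_c39))))))
theorem f343354 : Led Lsl_bf (LP (LK LD1_c5 LD2_c3 LD3_c53)) = (LP (LK LD1_c5 LD2_c10 LD3_c61)) :=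
  Lgr Lrot61 (Lpr_ft (f249875 IH) (Lpe (K37.f248872 IH) (Lpr_ft (K37.f343342 IH) (Lpn (LP (LK LD1_c5 LD2_c10 LD3_c61))))))
theorem f249763 : Led Lsl_ct (LP (LK LD1_c5 LD2_c3 LD3_c53)) = (LP (LK LD1_c9 LD2_c58 LD3_c22)) :=
  Lre_c IH (LK LD1_c5 LD2_c3 LD3_c53) (LK LD1_c9 LD2_c58 LD3_c22) Lrfl Lrfl
theorem f249754 : Led Lsl_bt (LP (LK LD1_c9 LD2_c58 LD3_c22)) = (LP (LK LD1_c18 LD2_c14 LD3_c20)) :=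
  Lre_b IH (LK LD1_c9 LD2_c58 LD3_c22) (LK LD1_c18 LD2_c14 LD3_c20) Lrfl Lrfl
theorem f343505 : Led Lsl_cf (LP (LK LD1_c17 LD2_c47 LD3_c11)) = (LP (LK LD1_c18 LD2_c14 LD3_c20)) :=
  Lgr Lrot97 (Lpr_bt (K37.f343503 IH) (Lpr_ct (K37.f343334 IH) (Lpe (f343354 IH) (Lpr_ct (f249763 IH) (Lpr_bt (f249754 IH) (Lpn (LP (LK LD1_c18 LD2_c14 LD3_c20))))))))
theorem f249753 : Led Lsl_at (LP (LK LD1_c9 LD2_c58 LD3_c13)) = (LP (LK LD1_c18 LD2_c14 LD3_c20)) :=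
  Lre_a IH (LK LD1_c9 LD2_c58 LD3_c13) (LK LD1_c18 LD2_c14 LD3_c20) Lrfl Lrfl
theorem f343537 : Led Lsl_ct (LP (LK LD1_c9 LD2_c40 LD3_c12)) = (LP (LK LD1_c9 LD2_c58 LD3_c13)) :=
  Lgr Lrot111 (Lpe (K37.f248541 IH) (Lpr_cf (f343505 IH) (Lpe (f249753 IH) (Lpn (LP (LK LD1_c9 LD2_c58 LD3_c13))))))
theorem f584283 : Led Lsl_gf (LP (LK LD1_c17 LD2_c47 LD3_c2)) = (LP (LK LD1_c18 LD2_c13 LD3_c8)) :=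
  Lgr Lrot147 (Lpr_ct (K18.f233457 IH) (Lpe (f582844 IH) (Lpe (K37.f230046 IH) (Lpe (f230029 IH) (Lpr_cf (f584279 IH) (Lpe (f166923 IH) (Lpe (f343537 IH) (Lpe (f343513 IH) (Lpr_df (f584119 IH) (Lpn (LP (LK LD1_c18 LD2_c13 LD3_c8))))))))))))
theorem f288408 : Led Lsl_dt (LP (LK LD1_c17 LD2_c47 LD3_c2)) = (LP (LK LD1_c9 LD2_c40 LD3_c7)) :=
  Lre_d IH (LK LD1_c17 LD2_c47 LD3_c2) (LK LD1_c9 LD2_c40 LD3_c7) Lrfl Lrfl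
theorem f288349 : Led Lsl_bt (LP (LK LD1_c9 LD2_c56 LD3_c26)) = (LP (LK LD1_c5 LD2_c2 LD3_c48)) :=
  Lre_b IH (LK LD1_c9 LD2_c56 LD3_c26) (LK LD1_c5 LD2_c2 LD3_c48) Lrfl Lrfl
theorem f288400 : Led Lsl_ct (LP (LK LD1_c9 LD2_c40 LD3_c7)) = (LP (LK LD1_c9 LD2_c56 LD3_c26)) :=
  Lgr Lrot83 (Lpe (K18.f43837 IH) (Lpe (K14.f43836 IH) (Lpr_bf (K17.f288347 IH) (Lpe (f283829 IH) (Lpe (f288349 IH) (Lpn (LP (LK LD1_c9 LD2_c56 LD3_c26))))))))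
theorem f300003 : Led Lsl_gt (LP (LK LD1_c27 LD2_c51 LD3_c47)) = (LP (LK LD1_c18 LD2_c11 LD3_c24)) :=
  Lre_g IH (LK LD1_c27 LD2_c51 LD3_c47) (LK LD1_c18 LD2_c11 LD3_c24) Lrfl Lrfl
theorem f249059 : Led Lsl_bt (LP (LK LD1_c5 LD2_c10 LD3_c28)) = (LP (LK LD1_c10 LD2_c11 LD3_c32)) :=
  Lre_b IH (LK LD1_c5 LD2_c10 LD3_c28) (LK LD1_c10 LD2_c11 LD3_c32) Lrfl Lrfl
theorem f31497 : Led Lsl_bt (LP (LK LD1_c24 LD2_c48 LD3_c9)) = (LP (LK LD1_c15 LD2_c0 LD3_c42)) :=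
  Lre_b IH (LK LD1_c24 LD2_c48 LD3_c9) (LK LD1_c15 LD2_c0 LD3_c42) Lrfl Lrfl
theorem f583832 : Led Lsl_ct (LP (LK LD1_c24 LD2_c48 LD3_c9)) = (LP (LK LD1_c17 LD2_c47 LD3_c51)) :=
  Lgr Lrot83 (Lpe (f583831 IH) (Lpr_cf (f583828 IH) (Lpe (f230079 IH) (Lpr_cf (K37.f258037 IH) (Lpe (f43766 IH) (Lpn (LP (LK LD1_c17 LD2_c47 LD3_c51))))))))
theorem f584193 : Led Lsl_gt (LP (LK LD1_c27 LD2_c34 LD3_c34)) = (LP (LK LD1_c17 LD2_c47 LD3_c51)) :=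
  Lgr Lrot149 (Lpr_cf (f584185 IH) (Lpe (f256471 IH) (Lpe (f249059 IH) (Lpr_ct (K14.f249067 IH) (Lpe (K14.f249063 IH) (Lpe (K12.f31509 IH) (Lpr_bt (K12.f31477 IH) (Lpe (f31494 IH) (Lpe (f31497 IH) (Lpr_ct (f583832 IH) (Lpn (LP (LK LD1_c17 LD2_c47 LD3_c51)))))))))))))
theorem f193127 : Led Lsl_dt (LP (LK LD1_c17 LD2_c47 LD3_c51)) = (LP (LK LD1_c10 LD2_c24 LD3_c55)) :=
  Lgr Lrot79 (Lpe (K37.f193125 IH) (Lpr_df (K14.f193117 IH) (Lpe (f193126 IH) (Lpn (LP (LK LD1_c10 LD2_c24 LD3_c55))))))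
theorem f193145 : Led Lsl_ct (LP (LK LD1_c5 LD2_c17 LD3_c42)) = (LP (LK LD1_c10 LD2_c24 LD3_c55)) :=
  Lre_c IH (LK LD1_c5 LD2_c17 LD3_c42) (LK LD1_c10 LD2_c24 LD3_c55) Lrfl Lrfl
theorem f193146 : Led Lsl_dt (LP (LK LD1_c10 LD2_c25 LD3_c1)) = (LP (LK LD1_c5 LD2_c17 LD3_c42)) :=
  Lre_d IH (LK LD1_c10 LD2_c25 LD3_c1) (LK LD1_c5 LD2_c17 LD3_c42) Lrfl Lrfl
theorem f188274 : Led Lsl_gt (LP (LK LD1_c18 LD2_c53 LD3_c61)) = (LP (LK LD1_c10 LD2_c25 LD3_c1)) :=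
  Lre_g IH (LK LD1_c18 LD2_c53 LD3_c61) (LK LD1_c10 LD2_c25 LD3_c1) Lrfl Lrfl
theorem f584197 : Led Lsl_dt (LP (LK LD1_c10 LD2_c25 LD3_c32)) = (LP (LK LD1_c18 LD2_c53 LD3_c61)) :=
  Lgr Lrot57 (Lpe (f294496 IH) (Lpe (K37.f230039 IH) (Lpr_gt (f294510 IH) (Lpr_dt (f294512 IH) (Lpr_gt (f584193 IH) (Lpr_dt (f193127 IH) (Lpe (f193145 IH) (Lpe (f193146 IH) (Lpe (f188274 IH) (Lpn (LP (LK LD1_c18 LD2_c53 LD3_c61))))))))))))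
theorem f584204 : Led Lsl_df (LP (LK LD1_c10 LD2_c25 LD3_c32)) = (LP (LK LD1_c18 LD2_c53 LD3_c61)) :=
  Lgr Lrot38 (Lpr_dt (f584197 IH) (Lpn (LP (LK LD1_c18 LD2_c53 LD3_c61))))
theorem f409547 : Led Lsl_at (LP (LK LD1_c18 LD2_c53 LD3_c58)) = (LP (LK LD1_c10 LD2_c25 LD3_c1)) :=
  Lre_a IH (LK LD1_c18 LD2_c53 LD3_c58) (LK LD1_c10 LD2_c25 LD3_c1) Lrfl Lrfl
theorem f409552 : Led Lsl_gf (LP (LK LD1_c18 LD2_c53 LD3_c61)) = (LP (LK LD1_c28 LD2_c19 LD3_c49)) :=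
  Lgr Lrot47 (Lpr_gt (f188274 IH) (Lpe (f409547 IH) (Lpr_ff (f409543 IH) (Lpn (LP (LK LD1_c28 LD2_c19 LD3_c49))))))
theorem f254568 : Led Lsl_bt (LP (LK LD1_c10 LD2_c23 LD3_c40)) = (LP (LK LD1_c5 LD2_c17 LD3_c1)) :=
  Lre_b IH (LK LD1_c10 LD2_c23 LD3_c40) (LK LD1_c5 LD2_c17 LD3_c1) Lrfl Lrfl
theorem f32415 : Led Lsl_bt (LP (LK LD1_c2 LD2_c35 LD3_c36)) = (LP (LK LD1_c5 LD2_c17 LD3_c42)) :=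
  Lre_b IH (LK LD1_c2 LD2_c35 LD3_c36) (LK LD1_c5 LD2_c17 LD3_c42) Lrfl Lrfl
theorem f273600 : Led Lsl_ff (LP (LK LD1_c10 LD2_c23 LD3_c40)) = (LP (LK LD1_c5 LD2_c17 LD3_c42)) :=
  Lgr Lrot25 (Lpr_bt (f254568 IH) (Lpr_ft (K16.f273598 IH) (Lpr_bt (f32415 IH) (Lpn (LP (LK LD1_c5 LD2_c17 LD3_c42))))))
theorem f32416 : Led Lsl_gt (LP (LK LD1_c5 LD2_c17 LD3_c42)) = (LP (LK LD1_c10 LD2_c24 LD3_c60)) :=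
  Lre_g IH (LK LD1_c5 LD2_c17 LD3_c42) (LK LD1_c10 LD2_c24 LD3_c60) Lrfl Lrfl
theorem f410469 : Led Lsl_gf (LP (LK LD1_c18 LD2_c51 LD3_c33)) = (LP (LK LD1_c10 LD2_c24 LD3_c60)) :=
  Lgr Lrot76 (Lpe (f254592 IH) (Lpr_ff (f273600 IH) (Lpr_gt (f32416 IH) (Lpn (LP (LK LD1_c10 LD2_c24 LD3_c60))))))
theorem f250163 : Led Lsl_ct (LP (LK LD1_c18 LD2_c53 LD3_c52)) = (LP (LK LD1_c10 LD2_c24 LD3_c60)) :=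
  Lre_c IH (LK LD1_c18 LD2_c53 LD3_c52) (LK LD1_c10 LD2_c24 LD3_c60) Lrfl Lrfl
theorem f544548 : Led Lsl_at (LP (LK LD1_c9 LD2_c39 LD3_c52)) = (LP (LK LD1_c17 LD2_c46 LD3_c31)) :=
  Lre_a IH (LK LD1_c9 LD2_c39 LD3_c52) (LK LD1_c17 LD2_c46 LD3_c31) Lrfl Lrfl
theorem f544630 : Led Lsl_ft (LP (LK LD1_c17 LD2_c46 LD3_c28)) = (LP (LK LD1_c9 LD2_c39 LD3_c52)) :=
  Lre_f IH (LK LD1_c17 LD2_c46 LD3_c28) (LK LD1_c9 LD2_c39 LD3_c52) Lrfl Lrfl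
theorem f544885 : Led Lsl_gf (LP (LK LD1_c9 LD2_c39 LD3_c55)) = (LP (LK LD1_c17 LD2_c46 LD3_c28)) :=
  Lgr Lrot47 (Lpr_gt (K38.f544883 IH) (Lpe (f544548 IH) (Lpe (f544630 IH) (Lpn (LP (LK LD1_c17 LD2_c46 LD3_c28))))))
theorem f584136 : Led Lsl_gf (LP (LK LD1_c26 LD2_c32 LD3_c35)) = (LP (LK LD1_c27 LD2_c34 LD3_c3)) :=
  Lgr Lrot129 (Lpr_cf (f584123 IH) (Lpr_bt (f544563 IH) (Lpe (f544885 IH) (Lpe (K38.f43479 IH) (Lpr_ct (K9.f43432 IH) (Lpe (K12.f43469 IH) (Lpe (K14.f43475 IH) (Lpr_bt (f43476 IH) (Lpr_gt (f43477 IH) (Lpr_ct (f43478 IH) (Lpn (LP (LK LD1_c27 LD2_c34 LD3_c3)))))))))))))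
theorem f584130 : Led Lsl_ct (LP (LK LD1_c26 LD2_c32 LD3_c35)) = (LP (LK LD1_c27 LD2_c33 LD3_c9)) :=
  Lgr Lrot59 (Lpr_cf (f584123 IH) (Lpn (LP (LK LD1_c27 LD2_c33 LD3_c9))))
theorem f307549 : Led Lsl_dt (LP (LK LD1_c17 LD2_c47 LD3_c12)) = (LP (LK LD1_c9 LD2_c40 LD3_c12)) :=
  Lre_d IH (LK LD1_c17 LD2_c47 LD3_c12) (LK LD1_c9 LD2_c40 LD3_c12) Lrfl Lrfl
theorem f584138 : Led Lsl_gf (LP (LK LD1_c18 LD2_c53 LD3_c52)) = (LP (LK LD1_c17 LD2_c47 LD3_c12)) :=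
  Lgr Lrot147 (Lpr_ct (f250163 IH) (Lpe (f410469 IH) (Lpr_ct (f254593 IH) (Lpe (f544583 IH) (Lpe (f584130 IH) (Lpr_gf (f584136 IH) (Lpe (f43478 IH) (Lpe (f43477 IH) (Lpe (f307549 IH) (Lpn (LP (LK LD1_c17 LD2_c47 LD3_c12))))))))))))
theorem f584144 : Led Lsl_gt (LP (LK LD1_c18 LD2_c53 LD3_c52)) = (LP (LK LD1_c27 LD2_c32 LD3_c22)) :=
  Lgr Lrot46 (Lpr_gf (f584138 IH) (Lpr_ft (K19.f307530 IH) (Lpr_at (K37.f307525 IH) (Lpn (LP (LK LD1_c27 LD2_c32 LD3_c22))))))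
theorem f248979 : Led Lsl_dt (LP (LK LD1_c27 LD2_c32 LD3_c22)) = (LP (LK LD1_c17 LD2_c46 LD3_c1)) :=
  Lre_d IH (LK LD1_c27 LD2_c32 LD3_c22) (LK LD1_c17 LD2_c46 LD3_c1) Lrfl Lrfl
theorem f584208 : Led Lsl_df (LP (LK LD1_c18 LD2_c13 LD3_c8)) = (LP (LK LD1_c17 LD2_c47 LD3_c10)) :=
  Lgr Lrot84 (Lpr_cf (f417625 IH) (Lpr_df (f584204 IH) (Lpr_gf (f409552 IH) (Lpe (f254620 IH) (Lpr_gf (f410469 IH) (Lpe (f250163 IH) (Lpr_gt (f584144 IH) (Lpr_dt (f248979 IH) (Lpe (f343514 IH) (Lpn (LP (LK LD1_c17 LD2_c47 LD3_c10))))))))))))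
theorem f249747 : Led Lsl_gt (LP (LK LD1_c18 LD2_c14 LD3_c19)) = (LP (LK LD1_c9 LD2_c58 LD3_c13)) :=
  Lre_g IH (LK LD1_c18 LD2_c14 LD3_c19) (LK LD1_c9 LD2_c58 LD3_c13) Lrfl Lrfl
theorem f249748 : Led Lsl_gf (LP (LK LD1_c18 LD2_c14 LD3_c19)) = (LP (LK LD1_c18 LD2_c33 LD3_c59)) :=
  Lgr Lrot47 (Lpr_gt (f249747 IH) (Lpe (K14.f249733 IH) (Lpr_ff (K14.f249734 IH) (Lpn (LP (LK LD1_c18 LD2_c33 LD3_c59))))))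
theorem f584287 : Led Lsl_df (LP (LK LD1_c27 LD2_c51 LD3_c47)) = (LP (LK LD1_c18 LD2_c14 LD3_c19)) :=
  Lgr Lrot153 (Lpr_gt (f300003 IH) (Lpr_dt (f300033 IH) (Lpe (f288400 IH) (Lpe (f288408 IH) (Lpr_gf (f584283 IH) (Lpr_df (f584208 IH) (Lpr_gf (f343514 IH) (Lpr_cf (K14.f248961 IH) (Lpe (f249748 IH) (Lpn (LP (LK LD1_c18 LD2_c14 LD3_c19))))))))))))
theorem f585552 : Led Lsl_dt (LP (LK LD1_c27 LD2_c51 LD3_c47)) = (LP (LK LD1_c18 LD2_c14 LD3_c19)) :=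
  Lgr Lrot42 (Lpr_df (f584287 IH) (Lpn (LP (LK LD1_c18 LD2_c14 LD3_c19))))
theorem f299996 : Led Lsl_at (LP (LK LD1_c27 LD2_c51 LD3_c44)) = (LP (LK LD1_c18 LD2_c11 LD3_c24)) :=
  Lre_a IH (LK LD1_c27 LD2_c51 LD3_c44) (LK LD1_c18 LD2_c11 LD3_c24) Lrfl Lrfl
theorem f300004 : Led Lsl_gf (LP (LK LD1_c27 LD2_c51 LD3_c47)) = (LP (LK LD1_c28 LD2_c4 LD3_c44)) :=
  Lgr Lrot47 (Lpr_gt (f300003 IH) (Lpe (f299996 IH) (Lpr_ff (K18.f299989 IH) (Lpn (LP (LK LD1_c28 LD2_c4 LD3_c44))))))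
theorem f300037 : Led Lsl_gt (LP (LK LD1_c9 LD2_c56 LD3_c26)) = (LP (LK LD1_c18 LD2_c11 LD3_c21)) :=
  Lre_g IH (LK LD1_c9 LD2_c56 LD3_c26) (LK LD1_c18 LD2_c11 LD3_c21) Lrfl Lrfl
theorem f300038 : Led Lsl_gt (LP (LK LD1_c18 LD2_c11 LD3_c21)) = (LP (LK LD1_c18 LD2_c30 LD3_c38)) :=
  Lgr Lrot46 (Lpe (f300037 IH) (Lpr_ft (f300023 IH) (Lpr_at (K18.f300031 IH) (Lpn (LP (LK LD1_c18 LD2_c30 LD3_c38))))))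
theorem f409130 : Led Lsl_ft (LP (LK LD1_c5 LD2_c9 LD3_c12)) = (LP (LK LD1_c8 LD2_c4 LD3_c21)) :=
  Lgr Lrot101 (Lpe (K37.f197149 IH) (Lpr_ff (K37.f409127 IH) (Lpe (K37.f192090 IH) (Lpn (LP (LK LD1_c8 LD2_c4 LD3_c21))))))
theorem f192900 : Led Lsl_gt (LP (LK LD1_c5 LD2_c9 LD3_c12)) = (LP (LK LD1_c10 LD2_c8 LD3_c57)) :=
  Lre_g IH (LK LD1_c5 LD2_c9 LD3_c12) (LK LD1_c10 LD2_c8 LD3_c57) Lrfl Lrfl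
theorem f409155 : Led Lsl_gt (LP (LK LD1_c10 LD2_c8 LD3_c57)) = (LP (LK LD1_c15 LD2_c11 LD3_c53)) :=
  Lgr Lrot46 (Lpe (f192900 IH) (Lpr_ft (f409130 IH) (Lpr_at (K37.f192090 IH) (Lpn (LP (LK LD1_c15 LD2_c11 LD3_c53))))))
theorem f197109 : Led Lsl_ct (LP (LK LD1_c18 LD2_c29 LD3_c4)) = (LP (LK LD1_c10 LD2_c8 LD3_c57)) :=
  Lre_c IH (LK LD1_c18 LD2_c29 LD3_c4) (LK LD1_c10 LD2_c8 LD3_c57) Lrfl Lrfl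
theorem f197110 : Led Lsl_bt (LP (LK LD1_c18 LD2_c29 LD3_c4)) = (LP (LK LD1_c28 LD2_c3 LD3_c40)) :=
  Lre_b IH (LK LD1_c18 LD2_c29 LD3_c4) (LK LD1_c28 LD2_c3 LD3_c40) Lrfl Lrfl
theorem f584289 : Led Lsl_gt (LP (LK LD1_c18 LD2_c38 LD3_c46)) = (LP (LK LD1_c28 LD2_c3 LD3_c40)) :=
  Lgr Lrot164 (Lpr_bf (f249524 IH) (Lpr_ct (K18.f249375 IH) (Lpr_gf (f584283 IH) (Lpr_cf (f417625 IH) (Lpe (f294496 IH) (Lpr_bf (K37.f409119 IH) (Lpr_ct (K37.f192054 IH) (Lpe (f409155 IH) (Lpe (f197109 IH) (Lpr_bt (f197110 IH) (Lpn (LP (LK LD1_c28 LD2_c3 LD3_c40)))))))))))))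
theorem f191568 : Led Lsl_bt (LP (LK LD1_c5 LD2_c18 LD3_c20)) = (LP (LK LD1_c10 LD2_c26 LD3_c25)) :=
  Lre_b IH (LK LD1_c5 LD2_c18 LD3_c20) (LK LD1_c10 LD2_c26 LD3_c25) Lrfl Lrfl
theorem f191587 : Led Lsl_ff (LP (LK LD1_c9 LD2_c39 LD3_c32)) = (LP (LK LD1_c10 LD2_c26 LD3_c25)) :=
  Lgr Lrot25 (Lpr_bt (f43538 IH) (Lpr_ft (K12.f191585 IH) (Lpr_bt (f191568 IH) (Lpn (LP (LK LD1_c10 LD2_c26 LD3_c25))))))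
theorem f582687 : Led Lsl_gf (LP (LK LD1_c10 LD2_c14 LD3_c56)) = (LP (LK LD1_c10 LD2_c26 LD3_c25)) :=
  Lgr Lrot47 (Lpr_gt (f582685 IH) (Lpe (f43544 IH) (Lpr_ff (f191587 IH) (Lpn (LP (LK LD1_c10 LD2_c26 LD3_c25))))))
theorem f583592 : Led Lsl_af (LP (LK LD1_c10 LD2_c26 LD3_c25)) = (LP (LK LD1_c18 LD2_c15 LD3_c53)) :=
  Lgr Lrot45 (Lpe (f191587 IH) (Lpr_at (f43544 IH) (Lpr_ft (f583590 IH) (Lpn (LP (LK LD1_c18 LD2_c15 LD3_c53))))))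
theorem f583803 : Led Lsl_df (LP (LK LD1_c10 LD2_c12 LD3_c61)) = (LP (LK LD1_c10 LD2_c26 LD3_c25)) :=
  Lgr Lrot18 (Lpr_at (f583797 IH) (Lpr_dt (f166000 IH) (Lpe (f583592 IH) (Lpn (LP (LK LD1_c10 LD2_c26 LD3_c25))))))
theorem f185252 : Led Lsl_dt (LP (LK LD1_c10 LD2_c12 LD3_c52)) = (LP (LK LD1_c18 LD2_c35 LD3_c50)) :=
  Lre_d IH (LK LD1_c10 LD2_c12 LD3_c52) (LK LD1_c18 LD2_c35 LD3_c50) Lrfl Lrfl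
theorem f584291 : Led Lsl_cf (LP (LK LD1_c18 LD2_c35 LD3_c50)) = (LP (LK LD1_c28 LD2_c3 LD3_c40)) :=
  Lgr Lrot99 (Lpe (f185252 IH) (Lpe (f185196 IH) (Lpe (f185195 IH) (Lpe (K37.f163774 IH) (Lpe (f163777 IH) (Lpr_df (f583803 IH) (Lpe (f582687 IH) (Lpr_ct (K18.f249361 IH) (Lpr_gt (f584289 IH) (Lpn (LP (LK LD1_c28 LD2_c3 LD3_c40))))))))))))
theorem f584295 : Led Lsl_ct (LP (LK LD1_c18 LD2_c35 LD3_c50)) = (LP (LK LD1_c28 LD2_c3 LD3_c40)) :=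
  Lgr Lrot59 (Lpr_cf (f584291 IH) (Lpn (LP (LK LD1_c28 LD2_c3 LD3_c40))))
theorem f197115 : Led Lsl_ct (LP (LK LD1_c10 LD2_c8 LD3_c57)) = (LP (LK LD1_c18 LD2_c29 LD3_c4)) :=
  Lre_c IH (LK LD1_c10 LD2_c8 LD3_c57) (LK LD1_c18 LD2_c29 LD3_c4) Lrfl Lrfl
theorem f192963 : Led Lsl_bt (LP (LK LD1_c18 LD2_c29 LD3_c3)) = (LP (LK LD1_c10 LD2_c8 LD3_c57)) :=
  Lre_b IH (LK LD1_c18 LD2_c29 LD3_c3) (LK LD1_c10 LD2_c8 LD3_c57) Lrfl Lrfl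
theorem f258965 : Led Lsl_gt (LP (LK LD1_c10 LD2_c28 LD3_c45)) = (LP (LK LD1_c5 LD2_c19 LD3_c28)) :=
  Lre_g IH (LK LD1_c10 LD2_c28 LD3_c45) (LK LD1_c5 LD2_c19 LD3_c28) Lrfl Lrfl
theorem f351153 : Led Lsl_gf (LP (LK LD1_c10 LD2_c28 LD3_c45)) = (LP (LK LD1_c10 LD2_c30 LD3_c2)) :=
  Lgr Lrot47 (Lpr_gt (f258965 IH) (Lpe (K18.f259026 IH) (Lpr_ff (K37.f351147 IH) (Lpn (LP (LK LD1_c10 LD2_c30 LD3_c2))))))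
theorem f413131 : Led Lsl_cf (LP (LK LD1_c10 LD2_c28 LD3_c45)) = (LP (LK LD1_c18 LD2_c29 LD3_c3)) :=
  Lgr Lrot58 (Lpr_gf (f351153 IH) (Lpr_cf (K37.f321819 IH) (Lpe (K37.f287142 IH) (Lpr_gf (K37.f408563 IH) (Lpe (K37.f197127 IH) (Lpe (K37.f197122 IH) (Lpr_gf (K37.f413127 IH) (Lpr_cf (K37.f192091 IH) (Lpe (f409155 IH) (Lpe (f192963 IH) (Lpn (LP (LK LD1_c18 LD2_c29 LD3_c3)))))))))))))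
theorem f413135 : Led Lsl_ct (LP (LK LD1_c10 LD2_c28 LD3_c45)) = (LP (LK LD1_c18 LD2_c29 LD3_c3)) :=
  Lgr Lrot59 (Lpr_cf (f413131 IH) (Lpn (LP (LK LD1_c18 LD2_c29 LD3_c3))))
theorem f584293 : Led Lsl_bt (LP (LK LD1_c18 LD2_c35 LD3_c50)) = (LP (LK LD1_c10 LD2_c28 LD3_c45)) :=
  Lgr Lrot128 (Lpr_cf (f584291 IH) (Lpe (f197110 IH) (Lpe (f197115 IH) (Lpe (f192963 IH) (Lpe (f413135 IH) (Lpn (LP (LK LD1_c10 LD2_c28 LD3_c45))))))))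
theorem f33996 : Led Lsl_gt (LP (LK LD1_c10 LD2_c8 LD3_c21)) = (LP (LK LD1_c5 LD2_c8 LD3_c58)) :=
  Lre_g IH (LK LD1_c10 LD2_c8 LD3_c21) (LK LD1_c5 LD2_c8 LD3_c58) Lrfl Lrfl
theorem f350954 : Led Lsl_gt (LP (LK LD1_c15 LD2_c11 LD3_c43)) = (LP (LK LD1_c10 LD2_c8 LD3_c21)) :=
  Lgr Lrot5 (Lpr_ft (K37.f350948 IH) (Lpr_at (K18.f287173 IH) (Lpe (f33996 IH) (Lpn (LP (LK LD1_c10 LD2_c8 LD3_c21))))))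
theorem f197159 : Led Lsl_ct (LP (LK LD1_c18 LD2_c28 LD3_c4)) = (LP (LK LD1_c10 LD2_c8 LD3_c21)) :=
  Lre_c IH (LK LD1_c18 LD2_c28 LD3_c4) (LK LD1_c10 LD2_c8 LD3_c21) Lrfl Lrfl
theorem f232007 : Led Lsl_gt (LP (LK LD1_c8 LD2_c17 LD3_c52)) = (LP (LK LD1_c15 LD2_c36 LD3_c18)) :=
  Lre_g IH (LK LD1_c8 LD2_c17 LD3_c52) (LK LD1_c15 LD2_c36 LD3_c18) Lrfl Lrfl
theorem f232008 : Led Lsl_bt (LP (LK LD1_c18 LD2_c28 LD3_c4)) = (LP (LK LD1_c15 LD2_c36 LD3_c18)) :=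
  Lgr Lrot92 (Lpr_ct (f197159 IH) (Lpr_gt (f33996 IH) (Lpe (K37.f197067 IH) (Lpr_bt (K37.f197066 IH) (Lpe (K10.f197063 IH) (Lpr_ct (K10.f32911 IH) (Lpr_gt (K13.f231996 IH) (Lpe (K14.f229035 IH) (Lpr_bt (K37.f232006 IH) (Lpr_gt (f232007 IH) (Lpn (LP (LK LD1_c15 LD2_c36 LD3_c18)))))))))))))
theorem f181013 : Led Lsl_at (LP (LK LD1_c5 LD2_c15 LD3_c46)) = (LP (LK LD1_c10 LD2_c20 LD3_c52)) :=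
  Lre_a IH (LK LD1_c5 LD2_c15 LD3_c46) (LK LD1_c10 LD2_c20 LD3_c52) Lrfl Lrfl
theorem f343078 : Led Lsl_gt (LP (LK LD1_c15 LD2_c36 LD3_c18)) = (LP (LK LD1_c10 LD2_c20 LD3_c52)) :=
  Lgr Lrot46 (Lpe (f232007 IH) (Lpr_ft (K23.f343067 IH) (Lpr_at (f181013 IH) (Lpn (LP (LK LD1_c10 LD2_c20 LD3_c52))))))
theorem f249737 : Led Lsl_gt (LP (LK LD1_c18 LD2_c14 LD3_c18)) = (LP (LK LD1_c18 LD2_c33 LD3_c59)) :=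
  Lgr Lrot46 (Lpe (f166923 IH) (Lpr_ft (K14.f249730 IH) (Lpr_at (K14.f248968 IH) (Lpn (LP (LK LD1_c18 LD2_c33 LD3_c59))))))
theorem f190498 : Led Lsl_gt (LP (LK LD1_c9 LD2_c53 LD3_c59)) = (LP (LK LD1_c5 LD2_c1 LD3_c47)) :=
  Lre_g IH (LK LD1_c9 LD2_c53 LD3_c59) (LK LD1_c5 LD2_c1 LD3_c47) Lrfl Lrfl
theorem f190499 : Led Lsl_ct (LP (LK LD1_c18 LD2_c6 LD3_c47)) = (LP (LK LD1_c9 LD2_c53 LD3_c59)) :=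
  Lre_c IH (LK LD1_c18 LD2_c6 LD3_c47) (LK LD1_c9 LD2_c53 LD3_c59) Lrfl Lrfl
theorem f249626 : Led Lsl_bf (LP (LK LD1_c18 LD2_c14 LD3_c18)) = (LP (LK LD1_c18 LD2_c6 LD3_c47)) :=
  Lgr Lrot34 (Lpe (f166923 IH) (Lpe (f166922 IH) (Lpr_ct (K14.f166898 IH) (Lpr_gf (K14.f249618 IH) (Lpe (K12.f214102 IH) (Lpr_gf (K14.f214103 IH) (Lpr_bf (K10.f190484 IH) (Lpr_ct (f3589 IH) (Lpe (f190498 IH) (Lpe (f190499 IH) (Lpn (LP (LK LD1_c18 LD2_c6 LD3_c47)))))))))))))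
theorem f343306 : Led Lsl_gf (LP (LK LD1_c9 LD2_c53 LD3_c59)) = (LP (LK LD1_c18 LD2_c3 LD3_c51)) :=
  Lgr Lrot129 (Lpe (f190499 IH) (Lpe (f249626 IH) (Lpr_gt (f249737 IH) (Lpe (K14.f248960 IH) (Lpr_ct (K37.f248984 IH) (Lpr_gt (K37.f343296 IH) (Lpe (K10.f190618 IH) (Lpr_bt (K10.f190617 IH) (Lpe (K37.f343009 IH) (Lpr_ct (K37.f342943 IH) (Lpn (LP (LK LD1_c18 LD2_c3 LD3_c51)))))))))))))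
theorem f343309 : Led Lsl_ff (LP (LK LD1_c9 LD2_c53 LD3_c60)) = (LP (LK LD1_c18 LD2_c3 LD3_c51)) :=
  Lgr Lrot52 (Lpr_at (K26.f320852 IH) (Lpe (f190498 IH) (Lpr_gf (f343306 IH) (Lpn (LP (LK LD1_c18 LD2_c3 LD3_c51))))))
theorem f343213 : Led Lsl_bf (LP (LK LD1_c18 LD2_c44 LD3_c50)) = (LP (LK LD1_c10 LD2_c20 LD3_c52)) :=
  Lgr Lrot24 (Lpr_bt (K26.f343209 IH) (Lpn (LP (LK LD1_c10 LD2_c20 LD3_c52))))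
theorem f214841 : Led Lsl_at (LP (LK LD1_c10 LD2_c19 LD3_c35)) = (LP (LK LD1_c18 LD2_c44 LD3_c50)) :=
  Lre_a IH (LK LD1_c10 LD2_c19 LD3_c35) (LK LD1_c18 LD2_c44 LD3_c50) Lrfl Lrfl
theorem f214843 : Led Lsl_ct (LP (LK LD1_c18 LD2_c44 LD3_c50)) = (LP (LK LD1_c24 LD2_c47 LD3_c58)) :=
  Lgr Lrot111 (Lpe (f214841 IH) (Lpr_cf (K14.f214831 IH) (Lpe (K37.f214842 IH) (Lpn (LP (LK LD1_c24 LD2_c47 LD3_c58))))))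
theorem f343207 : Led Lsl_bt (LP (LK LD1_c24 LD2_c47 LD3_c58)) = (LP (LK LD1_c18 LD2_c6 LD3_c49)) :=
  Lgr Lrot127 (Lpr_bf (K26.f343203 IH) (Lpn (LP (LK LD1_c18 LD2_c6 LD3_c49))))
theorem f343212 : Led Lsl_ct (LP (LK LD1_c18 LD2_c6 LD3_c49)) = (LP (LK LD1_c9 LD2_c53 LD3_c60)) :=
  Lre_c IH (LK LD1_c18 LD2_c6 LD3_c49) (LK LD1_c9 LD2_c53 LD3_c60) Lrfl Lrfl
theorem f343232 : Led Lsl_bt (LP (LK LD1_c9 LD2_c53 LD3_c60)) = (LP (LK LD1_c18 LD2_c3 LD3_c43)) :=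
  Lgr Lrot128 (Lpe (f343212 IH) (Lpe (f343207 IH) (Lpe (f214843 IH) (Lpr_bf (f343213 IH) (Lpr_cf (K26.f180991 IH) (Lpn (LP (LK LD1_c18 LD2_c3 LD3_c43))))))))
theorem f343312 : Led Lsl_ft (LP (LK LD1_c18 LD2_c3 LD3_c43)) = (LP (LK LD1_c9 LD2_c54 LD3_c9)) :=
  Lgr Lrot75 (Lpe (f343232 IH) (Lpr_ff (f343309 IH) (Lpe (K22.f333097 IH) (Lpn (LP (LK LD1_c9 LD2_c54 LD3_c9))))))
theorem f252792 : Led Lsl_gt (LP (LK LD1_c9 LD2_c54 LD3_c8)) = (LP (LK LD1_c5 LD2_c1 LD3_c50)) :=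
  Lre_g IH (LK LD1_c9 LD2_c54 LD3_c8) (LK LD1_c5 LD2_c1 LD3_c50) Lrfl Lrfl
theorem f343322 : Led Lsl_gt (LP (LK LD1_c18 LD2_c3 LD3_c43)) = (LP (LK LD1_c9 LD2_c54 LD3_c8)) :=
  Lgr Lrot5 (Lpr_ft (f343312 IH) (Lpr_at (K22.f252841 IH) (Lpe (f252792 IH) (Lpn (LP (LK LD1_c9 LD2_c54 LD3_c8))))))
theorem f252849 : Led Lsl_ct (LP (LK LD1_c18 LD2_c7 LD3_c14)) = (LP (LK LD1_c9 LD2_c54 LD3_c8)) :=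
  Lre_c IH (LK LD1_c18 LD2_c7 LD3_c14) (LK LD1_c9 LD2_c54 LD3_c8) Lrfl Lrfl
theorem f252785 : Led Lsl_ct (LP (LK LD1_c8 LD2_c17 LD3_c52)) = (LP (LK LD1_c5 LD2_c1 LD3_c50)) :=
  Lgr Lrot83 (Lpe (K37.f232006 IH) (Lpe (K12.f229038 IH) (Lpr_bf (K14.f228969 IH) (Lpr_cf (K22.f252771 IH) (Lpe (K22.f165384 IH) (Lpn (LP (LK LD1_c5 LD2_c1 LD3_c50))))))))
theorem f184064 : Led Lsl_bt (LP (LK LD1_c2 LD2_c34 LD3_c49)) = (LP (LK LD1_c5 LD2_c15 LD3_c60)) :=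
  Lre_b IH (LK LD1_c2 LD2_c34 LD3_c49) (LK LD1_c5 LD2_c15 LD3_c60) Lrfl Lrfl
theorem f184072 : Led Lsl_gt (LP (LK LD1_c5 LD2_c15 LD3_c60)) = (LP (LK LD1_c10 LD2_c21 LD3_c22)) :=
  Lre_g IH (LK LD1_c5 LD2_c15 LD3_c60) (LK LD1_c10 LD2_c21 LD3_c22) Lrfl Lrfl
theorem f252905 : Led Lsl_bf (LP (LK LD1_c10 LD2_c21 LD3_c22)) = (LP (LK LD1_c18 LD2_c7 LD3_c14)) :=
  Lgr Lrot34 (Lpe (f184072 IH) (Lpe (f184064 IH) (Lpe (K13.f184065 IH) (Lpe (K9.f44995 IH) (Lpe (K12.f45006 IH) (Lpr_gf (K13.f231994 IH) (Lpe (K23.f229036 IH) (Lpr_ct (f252785 IH) (Lpe (f252792 IH) (Lpe (f252849 IH) (Lpn (LP (LK LD1_c18 LD2_c7 LD3_c14)))))))))))))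
theorem f350959 : Led Lsl_gf (LP (LK LD1_c18 LD2_c44 LD3_c60)) = (LP (LK LD1_c10 LD2_c21 LD3_c22)) :=
  Lgr Lrot124 (Lpr_bf (K37.f350865 IH) (Lpr_ct (K37.f180846 IH) (Lpr_gt (f350954 IH) (Lpe (f197159 IH) (Lpr_bt (f232008 IH) (Lpr_gt (f343078 IH) (Lpr_ct (K26.f181008 IH) (Lpr_gt (f343322 IH) (Lpe (f252849 IH) (Lpe (f252905 IH) (Lpn (LP (LK LD1_c10 LD2_c21 LD3_c22)))))))))))))
theorem f252926 : Led Lsl_ct (LP (LK LD1_c18 LD2_c47 LD3_c38)) = (LP (LK LD1_c10 LD2_c21 LD3_c22)) :=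
  Lre_c IH (LK LD1_c18 LD2_c47 LD3_c38) (LK LD1_c10 LD2_c21 LD3_c22) Lrfl Lrfl
theorem f197111 : Led Lsl_gf (LP (LK LD1_c18 LD2_c51 LD3_c54)) = (LP (LK LD1_c28 LD2_c3 LD3_c40)) :=
  Lgr Lrot124 (Lpe (f197108 IH) (Lpr_ct (K37.f32838 IH) (Lpr_gt (K37.f197095 IH) (Lpe (K37.f197106 IH) (Lpr_bt (K37.f197105 IH) (Lpr_gt (K37.f197104 IH) (Lpr_ct (K37.f197056 IH) (Lpr_gt (f192900 IH) (Lpe (f197109 IH) (Lpr_bt (f197110 IH) (Lpn (LP (LK LD1_c28 LD2_c3 LD3_c40)))))))))))))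
theorem f582671 : Led Lsl_ct (LP (LK LD1_c18 LD2_c21 LD3_c52)) = (LP (LK LD1_c18 LD2_c51 LD3_c54)) :=
  Lgr Lrot40 (Lpr_ff (f582665 IH) (Lpe (f51325 IH) (Lpe (f582645 IH) (Lpn (LP (LK LD1_c18 LD2_c51 LD3_c54))))))
theorem f300568 : Led Lsl_bf (LP (LK LD1_c19 LD2_c0 LD3_c52)) = (LP (LK LD1_c18 LD2_c21 LD3_c52)) :=
  Lgr Lrot24 (Lpr_bt (K18.f300566 IH) (Lpn (LP (LK LD1_c18 LD2_c21 LD3_c52))))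
theorem f584299 : Led Lsl_gf (LP (LK LD1_c18 LD2_c47 LD3_c38)) = (LP (LK LD1_c19 LD2_c0 LD3_c52)) :=
  Lgr Lrot181 (Lpr_ct (f252926 IH) (Lpe (f350959 IH) (Lpe (K37.f230152 IH) (Lpr_bt (K37.f351141 IH) (Lpe (f351153 IH) (Lpe (f584293 IH) (Lpr_ct (f584295 IH) (Lpe (f197111 IH) (Lpe (f582671 IH) (Lpe (f300568 IH) (Lpn (LP (LK LD1_c19 LD2_c0 LD3_c52)))))))))))))
theorem f299547 : Led Lsl_at (LP (LK LD1_c18 LD2_c58 LD3_c36)) = (LP (LK LD1_c10 LD2_c28 LD3_c17)) :=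
  Lre_a IH (LK LD1_c18 LD2_c58 LD3_c36) (LK LD1_c10 LD2_c28 LD3_c17) Lrfl Lrfl
theorem f299549 : Led Lsl_ff (LP (LK LD1_c18 LD2_c58 LD3_c36)) = (LP (LK LD1_c19 LD2_c0 LD3_c52)) :=
  Lgr Lrot30 (Lpr_at (f299547 IH) (Lpr_ft (K18.f299542 IH) (Lpr_at (K18.f299548 IH) (Lpn (LP (LK LD1_c19 LD2_c0 LD3_c52))))))
theorem f584301 : Led Lsl_gt (LP (LK LD1_c18 LD2_c47 LD3_c38)) = (LP (LK LD1_c10 LD2_c28 LD3_c17)) :=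
  Lgr Lrot46 (Lpr_gf (f584299 IH) (Lpe (f299549 IH) (Lpr_at (f299547 IH) (Lpn (LP (LK LD1_c10 LD2_c28 LD3_c17))))))
theorem f584016 : Led Lsl_ff (LP (LK LD1_c10 LD2_c29 LD3_c2)) = (LP (LK LD1_c10 LD2_c28 LD3_c60)) :=
  Lgr Lrot3 (Lpr_ft (f584011 IH) (Lpn (LP (LK LD1_c10 LD2_c28 LD3_c60))))
theorem f215913 : Led Lsl_ct (LP (LK LD1_c18 LD2_c30 LD3_c30)) = (LP (LK LD1_c10 LD2_c28 LD3_c60)) :=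
  Lgr Lrot59 (Lpr_cf (f215909 IH) (Lpn (LP (LK LD1_c10 LD2_c28 LD3_c60))))
theorem f584018 : Led Lsl_ft (LP (LK LD1_c15 LD2_c0 LD3_c42)) = (LP (LK LD1_c18 LD2_c30 LD3_c30)) :=
  Lgr Lrot4 (Lpr_cf (f583828 IH) (Lpr_ff (f584016 IH) (Lpe (f215913 IH) (Lpn (LP (LK LD1_c18 LD2_c30 LD3_c30))))))
theorem f31493 : Led Lsl_gt (LP (LK LD1_c7 LD2_c57 LD3_c33)) = (LP (LK LD1_c15 LD2_c0 LD3_c41)) :=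
  Lre_g IH (LK LD1_c7 LD2_c57 LD3_c33) (LK LD1_c15 LD2_c0 LD3_c41) Lrfl Lrfl
theorem f584022 : Led Lsl_af (LP (LK LD1_c15 LD2_c0 LD3_c41)) = (LP (LK LD1_c18 LD2_c30 LD3_c30)) :=
  Lgr Lrot31 (Lpe (f31493 IH) (Lpe (f31494 IH) (Lpr_ft (f584018 IH) (Lpn (LP (LK LD1_c18 LD2_c30 LD3_c30))))))
theorem f215911 : Led Lsl_at (LP (LK LD1_c19 LD2_c0 LD3_c3)) = (LP (LK LD1_c10 LD2_c28 LD3_c60)) :=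
  Lre_a IH (LK LD1_c19 LD2_c0 LD3_c3) (LK LD1_c10 LD2_c28 LD3_c60) Lrfl Lrfl
theorem f584026 : Led Lsl_ct (LP (LK LD1_c15 LD2_c0 LD3_c41)) = (LP (LK LD1_c19 LD2_c0 LD3_c3)) :=
  Lgr Lrot111 (Lpr_af (f584022 IH) (Lpr_cf (f215909 IH) (Lpe (f215911 IH) (Lpn (LP (LK LD1_c19 LD2_c0 LD3_c3))))))
theorem f185236 : Led Lsl_bt (LP (LK LD1_c18 LD2_c14 LD3_c34)) = (LP (LK LD1_c9 LD2_c58 LD3_c21)) :=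
  Lre_b IH (LK LD1_c18 LD2_c14 LD3_c34) (LK LD1_c9 LD2_c58 LD3_c21) Lrfl Lrfl
theorem f185207 : Led Lsl_bt (LP (LK LD1_c18 LD2_c35 LD3_c49)) = (LP (LK LD1_c10 LD2_c12 LD3_c52)) :=
  Lre_b IH (LK LD1_c18 LD2_c35 LD3_c49) (LK LD1_c10 LD2_c12 LD3_c52) Lrfl Lrfl
theorem f185208 : Led Lsl_bt (LP (LK LD1_c9 LD2_c58 LD3_c21)) = (LP (LK LD1_c18 LD2_c14 LD3_c34)) :=
  Lre_b IH (LK LD1_c9 LD2_c58 LD3_c21) (LK LD1_c18 LD2_c14 LD3_c34) Lrfl Lrfl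
theorem f185209 : Led Lsl_cf (LP (LK LD1_c18 LD2_c35 LD3_c49)) = (LP (LK LD1_c18 LD2_c14 LD3_c34)) :=
  Lgr Lrot97 (Lpr_bt (f185207 IH) (Lpr_ct (f185206 IH) (Lpr_bt (f185205 IH) (Lpr_ct (f185200 IH) (Lpr_bt (f185208 IH) (Lpn (LP (LK LD1_c18 LD2_c14 LD3_c34))))))))
theorem f584035 : Led Lsl_gf (LP (LK LD1_c18 LD2_c35 LD3_c49)) = (LP (LK LD1_c19 LD2_c0 LD3_c3)) :=
  Lgr Lrot129 (Lpr_cf (f185209 IH) (Lpr_bt (f185236 IH) (Lpr_gt (f165613 IH) (Lpe (K37.f166893 IH) (Lpr_ct (K14.f3136 IH) (Lpr_gt (K10.f189448 IH) (Lpe (K12.f31509 IH) (Lpr_bt (K12.f31477 IH) (Lpr_gt (f31493 IH) (Lpr_ct (f584026 IH) (Lpn (LP (LK LD1_c19 LD2_c0 LD3_c3)))))))))))))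
theorem f230645 : Led Lsl_gt (LP (LK LD1_c10 LD2_c28 LD3_c28)) = (LP (LK LD1_c5 LD2_c19 LD3_c21)) :=
  Lre_g IH (LK LD1_c10 LD2_c28 LD3_c28) (LK LD1_c5 LD2_c19 LD3_c21) Lrfl Lrfl
theorem f288965 : Led Lsl_gf (LP (LK LD1_c10 LD2_c28 LD3_c28)) = (LP (LK LD1_c10 LD2_c29 LD3_c44)) :=
  Lgr Lrot47 (Lpr_gt (f230645 IH) (Lpe (K37.f230639 IH) (Lpr_ff (K37.f288948 IH) (Lpn (LP (LK LD1_c10 LD2_c29 LD3_c44))))))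
theorem f288967 : Led Lsl_ct (LP (LK LD1_c10 LD2_c28 LD3_c28)) = (LP (LK LD1_c18 LD2_c59 LD3_c1)) :=
  Lre_c IH (LK LD1_c10 LD2_c28 LD3_c28) (LK LD1_c18 LD2_c59 LD3_c1) Lrfl Lrfl
theorem f212343 : Led Lsl_bt (LP (LK LD1_c5 LD2_c19 LD3_c38)) = (LP (LK LD1_c10 LD2_c29 LD3_c4)) :=
  Lre_b IH (LK LD1_c5 LD2_c19 LD3_c38) (LK LD1_c10 LD2_c29 LD3_c4) Lrfl Lrfl
theorem f413373 : Led Lsl_at (LP (LK LD1_c10 LD2_c29 LD3_c4)) = (LP (LK LD1_c19 LD2_c0 LD3_c20)) :=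
  Lre_a IH (LK LD1_c10 LD2_c29 LD3_c4) (LK LD1_c19 LD2_c0 LD3_c20) Lrfl Lrfl
theorem f583843 : Led Lsl_bt (LP (LK LD1_c19 LD2_c0 LD3_c20)) = (LP (LK LD1_c19 LD2_c0 LD3_c3)) :=
  Lgr Lrot62 (Lpe (f413373 IH) (Lpe (f212343 IH) (Lpr_af (f583841 IH) (Lpe (f184228 IH) (Lpe (f215911 IH) (Lpn (LP (LK LD1_c19 LD2_c0 LD3_c3))))))))
theorem f544861 : Led Lsl_at (LP (LK LD1_c5 LD2_c19 LD3_c35)) = (LP (LK LD1_c5 LD2_c19 LD3_c37)) :=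
  Lgr Lrot107 (Lpr_cf (K38.f544859 IH) (Lpr_af (K16.f271309 IH) (Lpe (K15.f258939 IH) (Lpn (LP (LK LD1_c5 LD2_c19 LD3_c37))))))
theorem f583847 : Led Lsl_ft (LP (LK LD1_c5 LD2_c19 LD3_c38)) = (LP (LK LD1_c5 LD2_c19 LD3_c35)) :=
  Lgr Lrot101 (Lpr_af (f583841 IH) (Lpe (f582708 IH) (Lpe (f544861 IH) (Lpn (LP (LK LD1_c5 LD2_c19 LD3_c35))))))
theorem f544863 : Led Lsl_bt (LP (LK LD1_c5 LD2_c19 LD3_c35)) = (LP (LK LD1_c10 LD2_c29 LD3_c0)) :=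
  Lre_b IH (LK LD1_c5 LD2_c19 LD3_c35) (LK LD1_c10 LD2_c29 LD3_c0) Lrfl Lrfl
theorem f583849 : Led Lsl_ff (LP (LK LD1_c10 LD2_c29 LD3_c4)) = (LP (LK LD1_c10 LD2_c29 LD3_c0)) :=
  Lgr Lrot25 (Lpr_bt (K37.f212425 IH) (Lpr_ft (f583847 IH) (Lpr_bt (f544863 IH) (Lpn (LP (LK LD1_c10 LD2_c29 LD3_c0))))))
theorem f583873 : Led Lsl_ft (LP (LK LD1_c10 LD2_c29 LD3_c4)) = (LP (LK LD1_c10 LD2_c29 LD3_c0)) :=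
  Lgr Lrot48 (Lpr_ff (f583849 IH) (Lpn (LP (LK LD1_c10 LD2_c29 LD3_c0))))
theorem f307587 : Led Lsl_gt (LP (LK LD1_c10 LD2_c12 LD3_c60)) = (LP (LK LD1_c9 LD2_c59 LD3_c21)) :=
  Lgr Lrot46 (Lpe (f185694 IH) (Lpr_ft (K19.f307577 IH) (Lpr_at (f165994 IH) (Lpn (LP (LK LD1_c9 LD2_c59 LD3_c21))))))
theorem f214626 : Led Lsl_ct (LP (LK LD1_c5 LD2_c11 LD3_c11)) = (LP (LK LD1_c10 LD2_c12 LD3_c56)) :=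
  Lre_c IH (LK LD1_c5 LD2_c11 LD3_c11) (LK LD1_c10 LD2_c12 LD3_c56) Lrfl Lrfl
theorem f214628 : Led Lsl_dt (LP (LK LD1_c18 LD2_c35 LD3_c56)) = (LP (LK LD1_c10 LD2_c12 LD3_c56)) :=
  Lre_d IH (LK LD1_c18 LD2_c35 LD3_c56) (LK LD1_c10 LD2_c12 LD3_c56) Lrfl Lrfl
theorem f214622 : Led Lsl_ct (LP (LK LD1_c28 LD2_c9 LD3_c41)) = (LP (LK LD1_c18 LD2_c35 LD3_c56)) :=
  Lre_c IH (LK LD1_c28 LD2_c9 LD3_c41) (LK LD1_c18 LD2_c35 LD3_c56) Lrfl Lrfl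
theorem f583746 : Led Lsl_gf (LP (LK LD1_c28 LD2_c9 LD3_c41)) = (LP (LK LD1_c18 LD2_c51 LD3_c54)) :=
  Lgr Lrot172 (Lpr_ct (f214622 IH) (Lpr_dt (f214628 IH) (Lpe (f214626 IH) (Lpr_gf (K37.f350990 IH) (Lpe (K37.f307589 IH) (Lpe (f307587 IH) (Lpr_dt (f583736 IH) (Lpe (f582683 IH) (Lpr_ct (f582671 IH) (Lpn (LP (LK LD1_c18 LD2_c51 LD3_c54))))))))))))
theorem f544721 : Led Lsl_bt (LP (LK LD1_c18 LD2_c51 LD3_c53)) = (LP (LK LD1_c28 LD2_c20 LD3_c6)) :=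
  Lre_b IH (LK LD1_c18 LD2_c51 LD3_c53) (LK LD1_c28 LD2_c20 LD3_c6) Lrfl Lrfl
theorem f544722 : Led Lsl_at (LP (LK LD1_c10 LD2_c23 LD3_c52)) = (LP (LK LD1_c18 LD2_c51 LD3_c53)) :=
  Lre_a IH (LK LD1_c10 LD2_c23 LD3_c52) (LK LD1_c18 LD2_c51 LD3_c53) Lrfl Lrfl
theorem f544723 : Led Lsl_af (LP (LK LD1_c18 LD2_c51 LD3_c54)) = (LP (LK LD1_c18 LD2_c21 LD3_c54)) :=
  Lgr Lrot36 (Lpr_bt (f32833 IH) (Lpr_at (f544722 IH) (Lpr_bt (f544721 IH) (Lpr_at (K37.f544700 IH) (Lpr_bt (K18.f248102 IH) (Lpn (LP (LK LD1_c18 LD2_c21 LD3_c54))))))))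
theorem f582647 : Led Lsl_af (LP (LK LD1_c18 LD2_c38 LD3_c46)) = (LP (LK LD1_c27 LD2_c32 LD3_c2)) :=
  Lgr Lrot45 (Lpe (K18.f300261 IH) (Lpe (f544723 IH) (Lpr_ft (f582645 IH) (Lpn (LP (LK LD1_c27 LD2_c32 LD3_c2))))))
theorem f583748 : Led Lsl_gt (LP (LK LD1_c28 LD2_c9 LD3_c41)) = (LP (LK LD1_c18 LD2_c38 LD3_c46)) :=
  Lgr Lrot46 (Lpr_gf (f583746 IH) (Lpr_ft (f582645 IH) (Lpe (f582647 IH) (Lpn (LP (LK LD1_c18 LD2_c38 LD3_c46))))))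
theorem f214621 : Led Lsl_ct (LP (LK LD1_c18 LD2_c35 LD3_c56)) = (LP (LK LD1_c28 LD2_c9 LD3_c41)) :=
  Lre_c IH (LK LD1_c18 LD2_c35 LD3_c56) (LK LD1_c28 LD2_c9 LD3_c41) Lrfl Lrfl
theorem f229995 : Led Lsl_dt (LP (LK LD1_c10 LD2_c28 LD3_c52)) = (LP (LK LD1_c18 LD2_c59 LD3_c44)) :=
  Lre_d IH (LK LD1_c10 LD2_c28 LD3_c52) (LK LD1_c18 LD2_c59 LD3_c44) Lrfl Lrfl
theorem f230214 : Led Lsl_bt (LP (LK LD1_c18 LD2_c59 LD3_c44)) = (LP (LK LD1_c18 LD2_c35 LD3_c56)) :=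
  Lgr Lrot95 (Lpe (f229995 IH) (Lpr_bf (K37.f230206 IH) (Lpe (f214628 IH) (Lpn (LP (LK LD1_c18 LD2_c35 LD3_c56))))))
theorem f230216 : Led Lsl_bf (LP (LK LD1_c18 LD2_c59 LD3_c44)) = (LP (LK LD1_c18 LD2_c35 LD3_c56)) :=
  Lgr Lrot24 (Lpr_bt (f230214 IH) (Lpn (LP (LK LD1_c18 LD2_c35 LD3_c56))))
theorem f212345 : Led Lsl_cf (LP (LK LD1_c9 LD2_c40 LD3_c29)) = (LP (LK LD1_c5 LD2_c19 LD3_c38)) :=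
  Lgr Lrot11 (Lpr_ct (K15.f212341 IH) (Lpn (LP (LK LD1_c5 LD2_c19 LD3_c38))))
theorem f583750 : Led Lsl_gf (LP (LK LD1_c18 LD2_c59 LD3_c44)) = (LP (LK LD1_c10 LD2_c29 LD3_c4)) :=
  Lgr Lrot124 (Lpr_bf (f230216 IH) (Lpr_ct (f214621 IH) (Lpr_gt (f583748 IH) (Lpe (K18.f249361 IH) (Lpr_bt (f249360 IH) (Lpr_gt (K14.f249356 IH) (Lpr_ct (K9.f43417 IH) (Lpr_gt (K15.f43802 IH) (Lpr_cf (f212345 IH) (Lpr_bt (f212343 IH) (Lpn (LP (LK LD1_c10 LD2_c29 LD3_c4)))))))))))))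
theorem f583877 : Led Lsl_at (LP (LK LD1_c10 LD2_c29 LD3_c0)) = (LP (LK LD1_c19 LD2_c0 LD3_c9)) :=
  Lre_a IH (LK LD1_c10 LD2_c29 LD3_c0) (LK LD1_c19 LD2_c0 LD3_c9) Lrfl Lrfl
theorem f583886 : Led Lsl_gt (LP (LK LD1_c18 LD2_c59 LD3_c44)) = (LP (LK LD1_c19 LD2_c0 LD3_c9)) :=
  Lgr Lrot46 (Lpr_gf (f583750 IH) (Lpr_ft (f583873 IH) (Lpr_at (f583877 IH) (Lpn (LP (LK LD1_c19 LD2_c0 LD3_c9))))))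
theorem f351053 : Led Lsl_cf (LP (LK LD1_c16 LD2_c35 LD3_c35)) = (LP (LK LD1_c10 LD2_c29 LD3_c44)) :=
  Lgr Lrot11 (Lpr_ct (K37.f351015 IH) (Lpn (LP (LK LD1_c10 LD2_c29 LD3_c44))))
theorem f351057 : Led Lsl_ft (LP (LK LD1_c16 LD2_c35 LD3_c35)) = (LP (LK LD1_c16 LD2_c34 LD3_c58)) :=
  Lgr Lrot48 (Lpr_ff (K37.f351055 IH) (Lpn (LP (LK LD1_c16 LD2_c34 LD3_c58))))
theorem f351052 : Led Lsl_at (LP (LK LD1_c8 LD2_c52 LD3_c32)) = (LP (LK LD1_c16 LD2_c35 LD3_c35)) :=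
  Lre_a IH (LK LD1_c8 LD2_c52 LD3_c32) (LK LD1_c16 LD2_c35 LD3_c35) Lrfl Lrfl
theorem f351061 : Led Lsl_ff (LP (LK LD1_c8 LD2_c52 LD3_c32)) = (LP (LK LD1_c8 LD2_c52 LD3_c9)) :=
  Lgr Lrot30 (Lpr_at (f351052 IH) (Lpr_ft (f351057 IH) (Lpr_at (K15.f230630 IH) (Lpn (LP (LK LD1_c8 LD2_c52 LD3_c9))))))
theorem f230640 : Led Lsl_gt (LP (LK LD1_c8 LD2_c52 LD3_c9)) = (LP (LK LD1_c16 LD2_c34 LD3_c56)) :=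
  Lre_g IH (LK LD1_c8 LD2_c52 LD3_c9) (LK LD1_c16 LD2_c34 LD3_c56) Lrfl Lrfl
theorem f351070 : Led Lsl_gf (LP (LK LD1_c16 LD2_c35 LD3_c35)) = (LP (LK LD1_c16 LD2_c34 LD3_c56)) :=
  Lgr Lrot76 (Lpe (f351052 IH) (Lpr_ff (f351061 IH) (Lpr_gt (f230640 IH) (Lpn (LP (LK LD1_c16 LD2_c34 LD3_c56))))))
theorem f583819 : Led Lsl_cf (LP (LK LD1_c16 LD2_c34 LD3_c56)) = (LP (LK LD1_c18 LD2_c59 LD3_c44)) :=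
  Lgr Lrot125 (Lpe (f351070 IH) (Lpr_cf (f351053 IH) (Lpr_bt (K37.f307663 IH) (Lpe (f405317 IH) (Lpr_bf (f583801 IH) (Lpr_ct (K9.f43417 IH) (Lpr_gt (K15.f43802 IH) (Lpr_cf (f212345 IH) (Lpr_bt (f212343 IH) (Lpe (f583750 IH) (Lpn (LP (LK LD1_c18 LD2_c59 LD3_c44)))))))))))))
theorem f583823 : Led Lsl_ct (LP (LK LD1_c16 LD2_c34 LD3_c56)) = (LP (LK LD1_c18 LD2_c59 LD3_c44)) :=
  Lgr Lrot59 (Lpr_cf (f583819 IH) (Lpn (LP (LK LD1_c18 LD2_c59 LD3_c44))))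
theorem f230634 : Led Lsl_bt (LP (LK LD1_c4 LD2_c27 LD3_c14)) = (LP (LK LD1_c8 LD2_c52 LD3_c9)) :=
  Lre_b IH (LK LD1_c4 LD2_c27 LD3_c14) (LK LD1_c8 LD2_c52 LD3_c9) Lrfl Lrfl
theorem f47316 : Led Lsl_bt (LP (LK LD1_c16 LD2_c35 LD3_c23)) = (LP (LK LD1_c8 LD2_c52 LD3_c22)) :=
  Lre_b IH (LK LD1_c16 LD2_c35 LD3_c23) (LK LD1_c8 LD2_c52 LD3_c22) Lrfl Lrfl
theorem f583888 : Led Lsl_ct (LP (LK LD1_c16 LD2_c35 LD3_c23)) = (LP (LK LD1_c19 LD2_c0 LD3_c9)) :=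
  Lgr Lrot63 (Lpr_bt (f47316 IH) (Lpr_gt (K14.f44205 IH) (Lpe (K1.f44115 IH) (Lpr_ct (K12.f44119 IH) (Lpr_gt (K12.f44078 IH) (Lpe (K17.f188016 IH) (Lpr_bt (f230634 IH) (Lpr_gt (f230640 IH) (Lpr_ct (f583823 IH) (Lpr_gt (f583886 IH) (Lpn (LP (LK LD1_c19 LD2_c0 LD3_c9)))))))))))))
theorem f583899 : Led Lsl_ft (LP (LK LD1_c26 LD2_c32 LD3_c33)) = (LP (LK LD1_c16 LD2_c35 LD3_c23)) :=
  Lre_f IH (LK LD1_c26 LD2_c32 LD3_c33) (LK LD1_c16 LD2_c35 LD3_c23) Lrfl Lrfl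
theorem f413372 : Led Lsl_at (LP (LK LD1_c19 LD2_c0 LD3_c20)) = (LP (LK LD1_c10 LD2_c29 LD3_c4)) :=
  Lre_a IH (LK LD1_c19 LD2_c0 LD3_c20) (LK LD1_c10 LD2_c29 LD3_c4) Lrfl Lrfl
theorem f583878 : Led Lsl_ff (LP (LK LD1_c19 LD2_c0 LD3_c20)) = (LP (LK LD1_c19 LD2_c0 LD3_c9)) :=
  Lgr Lrot30 (Lpr_at (f413372 IH) (Lpr_ft (f583873 IH) (Lpr_at (f583877 IH) (Lpn (LP (LK LD1_c19 LD2_c0 LD3_c9))))))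
theorem f583900 : Led Lsl_cf (LP (LK LD1_c26 LD2_c32 LD3_c33)) = (LP (LK LD1_c19 LD2_c0 LD3_c20)) :=
  Lgr Lrot108 (Lpr_ft (f583899 IH) (Lpr_ct (f583888 IH) (Lpe (f583878 IH) (Lpn (LP (LK LD1_c19 LD2_c0 LD3_c20))))))
theorem f584037 : Led Lsl_gt (LP (LK LD1_c18 LD2_c59 LD3_c1)) = (LP (LK LD1_c26 LD2_c32 LD3_c33)) :=
  Lgr Lrot149 (Lpe (f288967 IH) (Lpr_gf (f288965 IH) (Lpr_bf (K37.f307659 IH) (Lpr_ct (K37.f307589 IH) (Lpe (f405288 IH) (Lpe (f185206 IH) (Lpr_bt (f185235 IH) (Lpr_gf (f584035 IH) (Lpe (f583843 IH) (Lpe (f583900 IH) (Lpn (LP (LK LD1_c26 LD2_c32 LD3_c33)))))))))))))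
theorem f583905 : Led Lsl_ct (LP (LK LD1_c26 LD2_c32 LD3_c33)) = (LP (LK LD1_c19 LD2_c0 LD3_c20)) :=
  Lgr Lrot59 (Lpr_cf (f583900 IH) (Lpn (LP (LK LD1_c19 LD2_c0 LD3_c20))))
theorem f583907 : Led Lsl_af (LP (LK LD1_c26 LD2_c32 LD3_c33)) = (LP (LK LD1_c19 LD2_c0 LD3_c21)) :=
  Lgr Lrot68 (Lpr_ct (f583905 IH) (Lpr_at (f413372 IH) (Lpr_ct (K37.f212344 IH) (Lpn (LP (LK LD1_c19 LD2_c0 LD3_c21))))))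
theorem f544864 : Led Lsl_ct (LP (LK LD1_c10 LD2_c29 LD3_c0)) = (LP (LK LD1_c19 LD2_c0 LD3_c10)) :=
  Lre_c IH (LK LD1_c10 LD2_c29 LD3_c0) (LK LD1_c19 LD2_c0 LD3_c10) Lrfl Lrfl
theorem f583880 : Led Lsl_ff (LP (LK LD1_c19 LD2_c0 LD3_c21)) = (LP (LK LD1_c19 LD2_c0 LD3_c10)) :=
  Lgr Lrot23 (Lpr_ct (K37.f212426 IH) (Lpr_ft (f583873 IH) (Lpr_ct (f544864 IH) (Lpn (LP (LK LD1_c19 LD2_c0 LD3_c10))))))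
theorem f584039 : Led Lsl_gf (LP (LK LD1_c18 LD2_c59 LD3_c1)) = (LP (LK LD1_c19 LD2_c0 LD3_c10)) :=
  Lgr Lrot47 (Lpr_gt (f584037 IH) (Lpr_af (f583907 IH) (Lpr_ff (f583880 IH) (Lpn (LP (LK LD1_c19 LD2_c0 LD3_c10))))))
theorem f584041 : Led Lsl_bt (LP (LK LD1_c10 LD2_c28 LD3_c28)) = (LP (LK LD1_c18 LD2_c59 LD3_c0)) :=
  Lre_b IH (LK LD1_c10 LD2_c28 LD3_c28) (LK LD1_c18 LD2_c59 LD3_c0) Lrfl Lrfl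
theorem f582721 : Led Lsl_bt (LP (LK LD1_c10 LD2_c29 LD3_c0)) = (LP (LK LD1_c5 LD2_c19 LD3_c35)) :=
  Lre_b IH (LK LD1_c10 LD2_c29 LD3_c0) (LK LD1_c5 LD2_c19 LD3_c35) Lrfl Lrfl
theorem f444532 : Led Lsl_bt (LP (LK LD1_c5 LD2_c20 LD3_c9)) = (LP (LK LD1_c2 LD2_c36 LD3_c44)) :=
  Lre_b IH (LK LD1_c5 LD2_c20 LD3_c9) (LK LD1_c2 LD2_c36 LD3_c44) Lrfl Lrfl
theorem f582702 : Led Lsl_ct (LP (LK LD1_c5 LD2_c20 LD3_c9)) = (LP (LK LD1_c10 LD2_c30 LD3_c18)) :=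
  Lre_c IH (LK LD1_c5 LD2_c20 LD3_c9) (LK LD1_c10 LD2_c30 LD3_c18) Lrfl Lrfl
theorem f233421 : Led Lsl_bt (LP (LK LD1_c5 LD2_c3 LD3_c17)) = (LP (LK LD1_c9 LD2_c57 LD3_c22)) :=
  Lre_b IH (LK LD1_c5 LD2_c3 LD3_c17) (LK LD1_c9 LD2_c57 LD3_c22) Lrfl Lrfl
theorem f233680 : Led Lsl_df (LP (LK LD1_c10 LD2_c30 LD3_c21)) = (LP (LK LD1_c9 LD2_c57 LD3_c22)) :=
  Lgr Lrot12 (Lpr_bt (f47367 IH) (Lpr_dt (K14.f233439 IH) (Lpr_bt (f233421 IH) (Lpn (LP (LK LD1_c9 LD2_c57 LD3_c22))))))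
theorem f233460 : Led Lsl_ff (LP (LK LD1_c5 LD2_c19 LD3_c12)) = (LP (LK LD1_c9 LD2_c57 LD3_c22)) :=
  Lgr Lrot25 (Lpr_bt (K10.f43968 IH) (Lpr_ft (K14.f233445 IH) (Lpr_bt (f233421 IH) (Lpn (LP (LK LD1_c9 LD2_c57 LD3_c22))))))
theorem f233669 : Led Lsl_ft (LP (LK LD1_c5 LD2_c19 LD3_c12)) = (LP (LK LD1_c9 LD2_c57 LD3_c22)) :=
  Lgr Lrot48 (Lpr_ff (f233460 IH) (Lpn (LP (LK LD1_c9 LD2_c57 LD3_c22))))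
theorem f582916 : Led Lsl_dt (LP (LK LD1_c10 LD2_c28 LD3_c11)) = (LP (LK LD1_c5 LD2_c19 LD3_c12)) :=
  Lgr Lrot60 (Lpr_ff (f582912 IH) (Lpr_df (f233680 IH) (Lpe (f233669 IH) (Lpn (LP (LK LD1_c5 LD2_c19 LD3_c12))))))
theorem f44017 : Led Lsl_dt (LP (LK LD1_c19 LD2_c6 LD3_c38)) = (LP (LK LD1_c10 LD2_c33 LD3_c5)) :=
  Lre_d IH (LK LD1_c19 LD2_c6 LD3_c38) (LK LD1_c10 LD2_c33 LD3_c5) Lrfl Lrfl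
theorem f43996 : Led Lsl_dt (LP (LK LD1_c5 LD2_c21 LD3_c23)) = (LP (LK LD1_c10 LD2_c33 LD3_c6)) :=
  Lre_d IH (LK LD1_c5 LD2_c21 LD3_c23) (LK LD1_c10 LD2_c33 LD3_c6) Lrfl Lrfl
theorem f582924 : Led Lsl_ef (LP (LK LD1_c19 LD2_c6 LD3_c38)) = (LP (LK LD1_c10 LD2_c33 LD3_c6)) :=
  Lgr Lrot73 (Lpr_dt (f44017 IH) (Lpr_et (f44007 IH) (Lpr_dt (f582916 IH) (Lpe (f43994 IH) (Lpr_dt (f43996 IH) (Lpn (LP (LK LD1_c10 LD2_c33 LD3_c6))))))))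
theorem f233505 : Led Lsl_bt (LP (LK LD1_c10 LD2_c11 LD3_c38)) = (LP (LK LD1_c5 LD2_c10 LD3_c30)) :=
  Lre_b IH (LK LD1_c10 LD2_c11 LD3_c38) (LK LD1_c5 LD2_c10 LD3_c30) Lrfl Lrfl
theorem f259802 : Led Lsl_bt (LP (LK LD1_c10 LD2_c10 LD3_c6)) = (LP (LK LD1_c18 LD2_c31 LD3_c27)) :=
  Lre_b IH (LK LD1_c10 LD2_c10 LD3_c6) (LK LD1_c18 LD2_c31 LD3_c27) Lrfl Lrfl
theorem f259825 : Led Lsl_df (LP (LK LD1_c10 LD2_c11 LD3_c38)) = (LP (LK LD1_c18 LD2_c31 LD3_c27)) :=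
  Lgr Lrot12 (Lpr_bt (f233505 IH) (Lpr_dt (K17.f259820 IH) (Lpr_bt (f259802 IH) (Lpn (LP (LK LD1_c18 LD2_c31 LD3_c27))))))
theorem f259874 : Led Lsl_ft (LP (LK LD1_c10 LD2_c33 LD3_c6)) = (LP (LK LD1_c18 LD2_c31 LD3_c27)) :=
  Lgr Lrot54 (Lpe (f43996 IH) (Lpe (K14.f233492 IH) (Lpr_df (f259825 IH) (Lpn (LP (LK LD1_c18 LD2_c31 LD3_c27))))))
theorem f259883 : Led Lsl_ff (LP (LK LD1_c10 LD2_c33 LD3_c6)) = (LP (LK LD1_c18 LD2_c31 LD3_c27)) :=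
  Lgr Lrot3 (Lpr_ft (f259874 IH) (Lpn (LP (LK LD1_c18 LD2_c31 LD3_c27))))
theorem f46518 : Led Lsl_at (LP (LK LD1_c10 LD2_c33 LD3_c6)) = (LP (LK LD1_c19 LD2_c6 LD3_c38)) :=
  Lre_a IH (LK LD1_c10 LD2_c33 LD3_c6) (LK LD1_c19 LD2_c6 LD3_c38) Lrfl Lrfl
theorem f259867 : Led Lsl_at (LP (LK LD1_c28 LD2_c5 LD3_c45)) = (LP (LK LD1_c18 LD2_c31 LD3_c27)) :=
  Lre_a IH (LK LD1_c28 LD2_c5 LD3_c45) (LK LD1_c18 LD2_c31 LD3_c27) Lrfl Lrfl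
theorem f259889 : Led Lsl_ft (LP (LK LD1_c19 LD2_c6 LD3_c38)) = (LP (LK LD1_c28 LD2_c5 LD3_c45)) :=
  Lgr Lrot101 (Lpe (f46518 IH) (Lpr_ff (f259883 IH) (Lpe (f259867 IH) (Lpn (LP (LK LD1_c28 LD2_c5 LD3_c45))))))
theorem f259903 : Led Lsl_et (LP (LK LD1_c28 LD2_c5 LD3_c45)) = (LP (LK LD1_c32 LD2_c31 LD3_c48)) :=
  Lre_e IH (LK LD1_c28 LD2_c5 LD3_c45) (LK LD1_c32 LD2_c31 LD3_c48) Lrfl Lrfl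
theorem f259873 : Led Lsl_et (LP (LK LD1_c28 LD2_c5 LD3_c47)) = (LP (LK LD1_c18 LD2_c31 LD3_c27)) :=
  Lre_e IH (LK LD1_c28 LD2_c5 LD3_c47) (LK LD1_c18 LD2_c31 LD3_c27) Lrfl Lrfl
theorem f582930 : Led Lsl_ft (LP (LK LD1_c32 LD2_c31 LD3_c48)) = (LP (LK LD1_c28 LD2_c5 LD3_c47)) :=
  Lgr Lrot86 (Lpe (f259903 IH) (Lpe (f259889 IH) (Lpr_ef (f582924 IH) (Lpr_ff (f259883 IH) (Lpe (f259873 IH) (Lpn (LP (LK LD1_c28 LD2_c5 LD3_c47))))))))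
theorem f582934 : Led Lsl_ff (LP (LK LD1_c32 LD2_c31 LD3_c48)) = (LP (LK LD1_c28 LD2_c5 LD3_c47)) :=
  Lgr Lrot3 (Lpr_ft (f582930 IH) (Lpn (LP (LK LD1_c28 LD2_c5 LD3_c47))))
theorem f259862 : Led Lsl_bt (LP (LK LD1_c18 LD2_c31 LD3_c28)) = (LP (LK LD1_c28 LD2_c5 LD3_c47)) :=
  Lre_b IH (LK LD1_c18 LD2_c31 LD3_c28) (LK LD1_c28 LD2_c5 LD3_c47) Lrfl Lrfl
theorem f259900 : Led Lsl_ft (LP (LK LD1_c28 LD2_c5 LD3_c51)) = (LP (LK LD1_c18 LD2_c31 LD3_c28)) :=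
  Lre_f IH (LK LD1_c28 LD2_c5 LD3_c51) (LK LD1_c18 LD2_c31 LD3_c28) Lrfl Lrfl
theorem f582936 : Led Lsl_bt (LP (LK LD1_c32 LD2_c31 LD3_c48)) = (LP (LK LD1_c28 LD2_c5 LD3_c51)) :=
  Lgr Lrot35 (Lpr_ff (f582934 IH) (Lpe (f259862 IH) (Lpe (f259900 IH) (Lpn (LP (LK LD1_c28 LD2_c5 LD3_c51))))))
theorem f46515 : Led Lsl_bt (LP (LK LD1_c10 LD2_c33 LD3_c6)) = (LP (LK LD1_c5 LD2_c21 LD3_c24)) :=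
  Lre_b IH (LK LD1_c10 LD2_c33 LD3_c6) (LK LD1_c5 LD2_c21 LD3_c24) Lrfl Lrfl
theorem f259891 : Led Lsl_ft (LP (LK LD1_c5 LD2_c21 LD3_c24)) = (LP (LK LD1_c10 LD2_c10 LD3_c6)) :=
  Lgr Lrot75 (Lpe (f46515 IH) (Lpr_ff (f259883 IH) (Lpe (f259802 IH) (Lpn (LP (LK LD1_c10 LD2_c10 LD3_c6))))))
theorem f43985 : Led Lsl_et (LP (LK LD1_c10 LD2_c33 LD3_c7)) = (LP (LK LD1_c5 LD2_c21 LD3_c24)) :=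
  Lre_e IH (LK LD1_c10 LD2_c33 LD3_c7) (LK LD1_c5 LD2_c21 LD3_c24) Lrfl Lrfl
theorem f43980 : Led Lsl_ft (LP (LK LD1_c19 LD2_c6 LD3_c44)) = (LP (LK LD1_c10 LD2_c33 LD3_c7)) :=
  Lre_f IH (LK LD1_c19 LD2_c6 LD3_c44) (LK LD1_c10 LD2_c33 LD3_c7) Lrfl Lrfl
theorem f259806 : Led Lsl_et (LP (LK LD1_c10 LD2_c10 LD3_c6)) = (LP (LK LD1_c18 LD2_c31 LD3_c28)) :=
  Lre_e IH (LK LD1_c10 LD2_c10 LD3_c6) (LK LD1_c18 LD2_c31 LD3_c28) Lrfl Lrfl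
theorem f259866 : Led Lsl_ft (LP (LK LD1_c18 LD2_c31 LD3_c28)) = (LP (LK LD1_c28 LD2_c5 LD3_c51)) :=
  Lre_f IH (LK LD1_c18 LD2_c31 LD3_c28) (LK LD1_c28 LD2_c5 LD3_c51) Lrfl Lrfl
theorem f259896 : Led Lsl_ef (LP (LK LD1_c19 LD2_c6 LD3_c44)) = (LP (LK LD1_c28 LD2_c5 LD3_c51)) :=
  Lgr Lrot21 (Lpr_ft (f43980 IH) (Lpr_et (f43985 IH) (Lpr_ft (f259891 IH) (Lpr_et (f259806 IH) (Lpr_ft (f259866 IH) (Lpn (LP (LK LD1_c28 LD2_c5 LD3_c51))))))))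
theorem f582942 : Led Lsl_bf (LP (LK LD1_c28 LD2_c5 LD3_c45)) = (LP (LK LD1_c19 LD2_c6 LD3_c44)) :=
  Lgr Lrot96 (Lpr_et (f259903 IH) (Lpr_bt (f582936 IH) (Lpe (f259896 IH) (Lpn (LP (LK LD1_c19 LD2_c6 LD3_c44))))))
theorem f44018 : Led Lsl_dt (LP (LK LD1_c10 LD2_c33 LD3_c5)) = (LP (LK LD1_c19 LD2_c6 LD3_c38)) :=
  Lre_d IH (LK LD1_c10 LD2_c33 LD3_c5) (LK LD1_c19 LD2_c6 LD3_c38) Lrfl Lrfl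
theorem f259901 : Led Lsl_df (LP (LK LD1_c18 LD2_c34 LD3_c10)) = (LP (LK LD1_c28 LD2_c5 LD3_c45)) :=
  Lgr Lrot78 (Lpr_ft (K14.f233503 IH) (Lpr_dt (f44018 IH) (Lpr_ft (f259889 IH) (Lpn (LP (LK LD1_c28 LD2_c5 LD3_c45))))))
theorem f582948 : Led Lsl_dt (LP (LK LD1_c18 LD2_c14 LD3_c30)) = (LP (LK LD1_c19 LD2_c6 LD3_c44)) :=
  Lgr Lrot79 (Lpr_bf (K14.f192923 IH) (Lpr_df (f259901 IH) (Lpr_bf (f582942 IH) (Lpn (LP (LK LD1_c19 LD2_c6 LD3_c44))))))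
theorem f43971 : Led Lsl_dt (LP (LK LD1_c2 LD2_c37 LD3_c17)) = (LP (LK LD1_c5 LD2_c21 LD3_c24)) :=
  Lre_d IH (LK LD1_c2 LD2_c37 LD3_c17) (LK LD1_c5 LD2_c21 LD3_c24) Lrfl Lrfl
theorem f43972 : Led Lsl_et (LP (LK LD1_c5 LD2_c21 LD3_c24)) = (LP (LK LD1_c10 LD2_c33 LD3_c7)) :=
  Lre_e IH (LK LD1_c5 LD2_c21 LD3_c24) (LK LD1_c10 LD2_c33 LD3_c7) Lrfl Lrfl
theorem f43974 : Led Lsl_et (LP (LK LD1_c10 LD2_c28 LD3_c12)) = (LP (LK LD1_c5 LD2_c19 LD3_c13)) :=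
  Lre_e IH (LK LD1_c10 LD2_c28 LD3_c12) (LK LD1_c5 LD2_c19 LD3_c13) Lrfl Lrfl
theorem f43975 : Led Lsl_dt (LP (LK LD1_c10 LD2_c33 LD3_c7)) = (LP (LK LD1_c10 LD2_c28 LD3_c12)) :=
  Lgr Lrot77 (Lpe (f43972 IH) (Lpe (f43971 IH) (Lpr_ef (K1.f43958 IH) (Lpe (K14.f43973 IH) (Lpe (f43974 IH) (Lpn (LP (LK LD1_c10 LD2_c28 LD3_c12))))))))
theorem f582956 : Led Lsl_ff (LP (LK LD1_c18 LD2_c14 LD3_c30)) = (LP (LK LD1_c10 LD2_c28 LD3_c12)) :=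
  Lgr Lrot19 (Lpr_dt (f582948 IH) (Lpr_ft (f43980 IH) (Lpr_dt (f43975 IH) (Lpn (LP (LK LD1_c10 LD2_c28 LD3_c12))))))
theorem f582966 : Led Lsl_ft (LP (LK LD1_c18 LD2_c14 LD3_c30)) = (LP (LK LD1_c10 LD2_c28 LD3_c12)) :=
  Lgr Lrot48 (Lpr_ff (f582956 IH) (Lpn (LP (LK LD1_c10 LD2_c28 LD3_c12))))
theorem f190644 : Led Lsl_ft (LP (LK LD1_c8 LD2_c52 LD3_c2)) = (LP (LK LD1_c9 LD2_c58 LD3_c18)) :=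
  Lgr Lrot75 (Lpe (K1.f44210 IH) (Lpr_ff (K10.f190623 IH) (Lpe (K14.f189450 IH) (Lpn (LP (LK LD1_c9 LD2_c58 LD3_c18))))))
theorem f582970 : Led Lsl_af (LP (LK LD1_c8 LD2_c52 LD3_c2)) = (LP (LK LD1_c10 LD2_c28 LD3_c12)) :=
  Lgr Lrot45 (Lpr_ft (f190644 IH) (Lpr_at (K14.f190707 IH) (Lpr_ft (f582966 IH) (Lpn (LP (LK LD1_c10 LD2_c28 LD3_c12))))))
theorem f43988 : Led Lsl_et (LP (LK LD1_c5 LD2_c19 LD3_c13)) = (LP (LK LD1_c10 LD2_c28 LD3_c12)) :=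
  Lre_e IH (LK LD1_c5 LD2_c19 LD3_c13) (LK LD1_c10 LD2_c28 LD3_c12) Lrfl Lrfl
theorem f582980 : Led Lsl_at (LP (LK LD1_c5 LD2_c19 LD3_c6)) = (LP (LK LD1_c5 LD2_c19 LD3_c13)) :=
  Lgr Lrot80 (Lpr_ef (K1.f44202 IH) (Lpr_af (f582970 IH) (Lpe (f43988 IH) (Lpn (LP (LK LD1_c5 LD2_c19 LD3_c13))))))
theorem f582984 : Led Lsl_ff (LP (LK LD1_c5 LD2_c19 LD3_c6)) = (LP (LK LD1_c5 LD2_c19 LD3_c39)) :=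
  Lgr Lrot30 (Lpr_at (f582980 IH) (Lpe (K14.f47372 IH) (Lpr_at (K14.f47364 IH) (Lpn (LP (LK LD1_c5 LD2_c19 LD3_c39))))))
theorem f44179 : Led Lsl_ct (LP (LK LD1_c2 LD2_c36 LD3_c26)) = (LP (LK LD1_c5 LD2_c19 LD3_c6)) :=
  Lre_c IH (LK LD1_c2 LD2_c36 LD3_c26) (LK LD1_c5 LD2_c19 LD3_c6) Lrfl Lrfl
theorem f44181 : Led Lsl_et (LP (LK LD1_c5 LD2_c19 LD3_c6)) = (LP (LK LD1_c8 LD2_c52 LD3_c2)) :=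
  Lgr Lrot158 (Lpe (f44179 IH) (Lpr_ef (K1.f44116 IH) (Lpe (K14.f44180 IH) (Lpn (LP (LK LD1_c8 LD2_c52 LD3_c2))))))
theorem f190705 : Led Lsl_et (LP (LK LD1_c9 LD2_c58 LD3_c18)) = (LP (LK LD1_c18 LD2_c14 LD3_c31)) :=
  Lre_e IH (LK LD1_c9 LD2_c58 LD3_c18) (LK LD1_c18 LD2_c14 LD3_c31) Lrfl Lrfl
theorem f582986 : Led Lsl_ft (LP (LK LD1_c18 LD2_c14 LD3_c31)) = (LP (LK LD1_c10 LD2_c29 LD3_c6)) :=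
  Lgr Lrot86 (Lpe (f190705 IH) (Lpe (f190644 IH) (Lpe (f44181 IH) (Lpr_ff (f582984 IH) (Lpe (K14.f47354 IH) (Lpn (LP (LK LD1_c10 LD2_c29 LD3_c6))))))))
theorem f582996 : Led Lsl_ff (LP (LK LD1_c18 LD2_c14 LD3_c31)) = (LP (LK LD1_c10 LD2_c29 LD3_c6)) :=
  Lgr Lrot3 (Lpr_ft (f582986 IH) (Lpn (LP (LK LD1_c10 LD2_c29 LD3_c6))))
theorem f44135 : Led Lsl_ct (LP (LK LD1_c5 LD2_c19 LD3_c40)) = (LP (LK LD1_c10 LD2_c29 LD3_c6)) :=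
  Lre_c IH (LK LD1_c5 LD2_c19 LD3_c40) (LK LD1_c10 LD2_c29 LD3_c6) Lrfl Lrfl
theorem f583009 : Led Lsl_ct (LP (LK LD1_c18 LD2_c14 LD3_c31)) = (LP (LK LD1_c10 LD2_c29 LD3_c9)) :=
  Lgr Lrot40 (Lpr_ff (f582996 IH) (Lpe (f44135 IH) (Lpe (K14.f44161 IH) (Lpn (LP (LK LD1_c10 LD2_c29 LD3_c9))))))
theorem f583193 : Led Lsl_ef (LP (LK LD1_c8 LD2_c52 LD3_c25)) = (LP (LK LD1_c10 LD2_c29 LD3_c9)) :=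
  Lgr Lrot28 (Lpr_ct (K14.f190712 IH) (Lpr_et (f190705 IH) (Lpr_ct (f583009 IH) (Lpn (LP (LK LD1_c10 LD2_c29 LD3_c9))))))
theorem f47305 : Led Lsl_bt (LP (LK LD1_c8 LD2_c52 LD3_c25)) = (LP (LK LD1_c4 LD2_c27 LD3_c20)) :=
  Lre_b IH (LK LD1_c8 LD2_c52 LD3_c25) (LK LD1_c4 LD2_c27 LD3_c20) Lrfl Lrfl
theorem f583206 : Led Lsl_bt (LP (LK LD1_c8 LD2_c52 LD3_c28)) = (LP (LK LD1_c10 LD2_c29 LD3_c9)) :=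
  Lgr Lrot119 (Lpe (K1.f44109 IH) (Lpe (f47305 IH) (Lpr_ef (f583193 IH) (Lpn (LP (LK LD1_c10 LD2_c29 LD3_c9))))))
theorem f44085 : Led Lsl_ct (LP (LK LD1_c8 LD2_c52 LD3_c28)) = (LP (LK LD1_c4 LD2_c27 LD3_c21)) :=
  Lre_c IH (LK LD1_c8 LD2_c52 LD3_c28) (LK LD1_c4 LD2_c27 LD3_c21) Lrfl Lrfl
theorem f44086 : Led Lsl_ft (LP (LK LD1_c5 LD2_c19 LD3_c41)) = (LP (LK LD1_c8 LD2_c52 LD3_c28)) :=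
  Lgr Lrot4 (Lpe (K1.f44084 IH) (Lpr_ff (K1.f44072 IH) (Lpe (f44085 IH) (Lpn (LP (LK LD1_c8 LD2_c52 LD3_c28))))))
theorem f583212 : Led Lsl_bf (LP (LK LD1_c5 LD2_c19 LD3_c41)) = (LP (LK LD1_c5 LD2_c19 LD3_c40)) :=
  Lgr Lrot61 (Lpr_ft (f44086 IH) (Lpr_bt (f583206 IH) (Lpr_ft (K14.f44161 IH) (Lpn (LP (LK LD1_c5 LD2_c19 LD3_c40))))))
theorem f46075 : Led Lsl_bt (LP (LK LD1_c5 LD2_c20 LD3_c13)) = (LP (LK LD1_c10 LD2_c30 LD3_c20)) :=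
  Lre_b IH (LK LD1_c5 LD2_c20 LD3_c13) (LK LD1_c10 LD2_c30 LD3_c20) Lrfl Lrfl
theorem f44137 : Led Lsl_dt (LP (LK LD1_c5 LD2_c19 LD3_c40)) = (LP (LK LD1_c8 LD2_c52 LD3_c27)) :=
  Lgr Lrot42 (Lpr_df (K14.f44124 IH) (Lpn (LP (LK LD1_c8 LD2_c52 LD3_c27))))
theorem f47320 : Led Lsl_at (LP (LK LD1_c5 LD2_c20 LD3_c12)) = (LP (LK LD1_c5 LD2_c19 LD3_c40)) :=
  Lgr Lrot51 (Lpr_df (K14.f44780 IH) (Lpr_af (K14.f47223 IH) (Lpe (f44137 IH) (Lpn (LP (LK LD1_c5 LD2_c19 LD3_c40))))))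
theorem f44832 : Led Lsl_bt (LP (LK LD1_c10 LD2_c30 LD3_c19)) = (LP (LK LD1_c5 LD2_c20 LD3_c12)) :=
  Lre_b IH (LK LD1_c10 LD2_c30 LD3_c19) (LK LD1_c5 LD2_c20 LD3_c12) Lrfl Lrfl
theorem f583220 : Led Lsl_at (LP (LK LD1_c10 LD2_c30 LD3_c20)) = (LP (LK LD1_c10 LD2_c30 LD3_c19)) :=
  Lgr Lrot67 (Lpe (f46075 IH) (Lpr_af (K1.f46289 IH) (Lpr_bf (f583212 IH) (Lpe (f47320 IH) (Lpe (f44832 IH) (Lpn (LP (LK LD1_c10 LD2_c30 LD3_c19))))))))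
theorem f44891 : Led Lsl_et (LP (LK LD1_c5 LD2_c20 LD3_c10)) = (LP (LK LD1_c10 LD2_c30 LD3_c20)) :=
  Lre_e IH (LK LD1_c5 LD2_c20 LD3_c10) (LK LD1_c10 LD2_c30 LD3_c20) Lrfl Lrfl
theorem f44845 : Led Lsl_et (LP (LK LD1_c10 LD2_c30 LD3_c19)) = (LP (LK LD1_c5 LD2_c20 LD3_c9)) :=
  Lre_e IH (LK LD1_c10 LD2_c30 LD3_c19) (LK LD1_c5 LD2_c20 LD3_c9) Lrfl Lrfl
theorem f583236 : Led Lsl_af (LP (LK LD1_c5 LD2_c20 LD3_c10)) = (LP (LK LD1_c5 LD2_c20 LD3_c9)) :=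
  Lgr Lrot50 (Lpr_et (f44891 IH) (Lpr_at (f583220 IH) (Lpr_et (f44845 IH) (Lpn (LP (LK LD1_c5 LD2_c20 LD3_c9))))))
theorem f252930 : Led Lsl_ct (LP (LK LD1_c10 LD2_c30 LD3_c18)) = (LP (LK LD1_c5 LD2_c20 LD3_c9)) :=
  Lre_c IH (LK LD1_c10 LD2_c30 LD3_c18) (LK LD1_c5 LD2_c20 LD3_c9) Lrfl Lrfl
theorem f583238 : Led Lsl_at (LP (LK LD1_c9 LD2_c53 LD3_c23)) = (LP (LK LD1_c10 LD2_c30 LD3_c18)) :=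
  Lgr Lrot107 (Lpr_cf (f184585 IH) (Lpr_af (f583236 IH) (Lpe (f252930 IH) (Lpn (LP (LK LD1_c10 LD2_c30 LD3_c18))))))
theorem f184589 : Led Lsl_ff (LP (LK LD1_c9 LD2_c53 LD3_c23)) = (LP (LK LD1_c5 LD2_c19 LD3_c45)) :=
  Lgr Lrot3 (Lpr_ft (f184583 IH) (Lpn (LP (LK LD1_c5 LD2_c19 LD3_c45))))
theorem f184599 : Led Lsl_gt (LP (LK LD1_c5 LD2_c19 LD3_c45)) = (LP (LK LD1_c10 LD2_c29 LD3_c20)) :=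
  Lre_g IH (LK LD1_c5 LD2_c19 LD3_c45) (LK LD1_c10 LD2_c29 LD3_c20) Lrfl Lrfl
theorem f583245 : Led Lsl_gt (LP (LK LD1_c10 LD2_c29 LD3_c20)) = (LP (LK LD1_c10 LD2_c30 LD3_c18)) :=
  Lgr Lrot46 (Lpe (f184599 IH) (Lpe (f184589 IH) (Lpr_at (f583238 IH) (Lpn (LP (LK LD1_c10 LD2_c30 LD3_c18))))))
theorem f252800 : Led Lsl_ct (LP (LK LD1_c19 LD2_c0 LD3_c37)) = (LP (LK LD1_c10 LD2_c29 LD3_c20)) :=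
  Lre_c IH (LK LD1_c19 LD2_c0 LD3_c37) (LK LD1_c10 LD2_c29 LD3_c20) Lrfl Lrfl
theorem f584042 : Led Lsl_gt (LP (LK LD1_c18 LD2_c59 LD3_c0)) = (LP (LK LD1_c19 LD2_c0 LD3_c37)) :=
  Lgr Lrot82 (Lpe (f584041 IH) (Lpr_ct (f288967 IH) (Lpr_gf (f584039 IH) (Lpe (f544864 IH) (Lpr_bt (f582721 IH) (Lpe (f582792 IH) (Lpe (f444532 IH) (Lpr_ct (f582702 IH) (Lpe (f583245 IH) (Lpe (f252800 IH) (Lpn (LP (LK LD1_c19 LD2_c0 LD3_c37)))))))))))))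
theorem f44846 : Led Lsl_dt (LP (LK LD1_c5 LD2_c20 LD3_c9)) = (LP (LK LD1_c2 LD2_c36 LD3_c43)) :=
  Lre_d IH (LK LD1_c5 LD2_c20 LD3_c9) (LK LD1_c2 LD2_c36 LD3_c43) Lrfl Lrfl
theorem f190546 : Led Lsl_gt (LP (LK LD1_c10 LD2_c29 LD3_c21)) = (LP (LK LD1_c5 LD2_c19 LD3_c45)) :=
  Lre_g IH (LK LD1_c10 LD2_c29 LD3_c21) (LK LD1_c5 LD2_c19 LD3_c45) Lrfl Lrfl
theorem f190553 : Led Lsl_ct (LP (LK LD1_c19 LD2_c0 LD3_c40)) = (LP (LK LD1_c10 LD2_c29 LD3_c21)) :=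
  Lre_c IH (LK LD1_c19 LD2_c0 LD3_c40) (LK LD1_c10 LD2_c29 LD3_c21) Lrfl Lrfl
theorem f252909 : Led Lsl_ct (LP (LK LD1_c10 LD2_c21 LD3_c22)) = (LP (LK LD1_c18 LD2_c47 LD3_c38)) :=
  Lre_c IH (LK LD1_c10 LD2_c21 LD3_c22) (LK LD1_c18 LD2_c47 LD3_c38) Lrfl Lrfl
theorem f252910 : Led Lsl_ct (LP (LK LD1_c9 LD2_c54 LD3_c8)) = (LP (LK LD1_c18 LD2_c7 LD3_c14)) :=
  Lre_c IH (LK LD1_c9 LD2_c54 LD3_c8) (LK LD1_c18 LD2_c7 LD3_c14) Lrfl Lrfl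
theorem f252793 : Led Lsl_bt (LP (LK LD1_c18 LD2_c7 LD3_c13)) = (LP (LK LD1_c9 LD2_c54 LD3_c8)) :=
  Lre_b IH (LK LD1_c18 LD2_c7 LD3_c13) (LK LD1_c9 LD2_c54 LD3_c8) Lrfl Lrfl
theorem f252801 : Led Lsl_ct (LP (LK LD1_c27 LD2_c47 LD3_c60)) = (LP (LK LD1_c18 LD2_c7 LD3_c13)) :=
  Lre_c IH (LK LD1_c27 LD2_c47 LD3_c60) (LK LD1_c18 LD2_c7 LD3_c13) Lrfl Lrfl
theorem f252911 : Led Lsl_bt (LP (LK LD1_c18 LD2_c47 LD3_c38)) = (LP (LK LD1_c27 LD2_c47 LD3_c60)) :=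
  Lgr Lrot128 (Lpe (f252909 IH) (Lpr_bf (f252905 IH) (Lpe (f252910 IH) (Lpe (f252793 IH) (Lpe (f252801 IH) (Lpn (LP (LK LD1_c27 LD2_c47 LD3_c60))))))))
theorem f44773 : Led Lsl_bt (LP (LK LD1_c2 LD2_c36 LD3_c43)) = (LP (LK LD1_c1 LD2_c15 LD3_c20)) :=
  Lre_b IH (LK LD1_c2 LD2_c36 LD3_c43) (LK LD1_c1 LD2_c15 LD3_c20) Lrfl Lrfl
theorem f44889 : Led Lsl_ct (LP (LK LD1_c2 LD2_c36 LD3_c43)) = (LP (LK LD1_c5 LD2_c19 LD3_c45)) :=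
  Lre_c IH (LK LD1_c2 LD2_c36 LD3_c43) (LK LD1_c5 LD2_c19 LD3_c45) Lrfl Lrfl
theorem f252928 : Led Lsl_gf (LP (LK LD1_c19 LD2_c0 LD3_c40)) = (LP (LK LD1_c27 LD2_c47 LD3_c60)) :=
  Lgr Lrot181 (Lpr_ct (f190553 IH) (Lpr_gt (f190546 IH) (Lpe (f44889 IH) (Lpr_bt (f44773 IH) (Lpr_gt (K9.f44904 IH) (Lpe (K18.f46295 IH) (Lpe (K37.f184852 IH) (Lpr_gt (f184072 IH) (Lpe (f252926 IH) (Lpr_bt (f252911 IH) (Lpn (LP (LK LD1_c27 LD2_c47 LD3_c60)))))))))))))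
theorem f584046 : Led Lsl_df (LP (LK LD1_c18 LD2_c59 LD3_c0)) = (LP (LK LD1_c27 LD2_c47 LD3_c60)) :=
  Lgr Lrot155 (Lpr_gt (f584042 IH) (Lpr_ct (f252800 IH) (Lpr_gt (f583245 IH) (Lpr_ct (f252930 IH) (Lpr_dt (f44846 IH) (Lpe (f44866 IH) (Lpe (f190546 IH) (Lpe (f190553 IH) (Lpr_gf (f252928 IH) (Lpn (LP (LK LD1_c27 LD2_c47 LD3_c60))))))))))))
theorem f230659 : Led Lsl_bt (LP (LK LD1_c18 LD2_c59 LD3_c0)) = (LP (LK LD1_c10 LD2_c28 LD3_c28)) :=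
  Lre_b IH (LK LD1_c18 LD2_c59 LD3_c0) (LK LD1_c10 LD2_c28 LD3_c28) Lrfl Lrfl
theorem f584048 : Led Lsl_dt (LP (LK LD1_c10 LD2_c28 LD3_c28)) = (LP (LK LD1_c18 LD2_c47 LD3_c38)) :=
  Lgr Lrot79 (Lpe (f230659 IH) (Lpr_df (f584046 IH) (Lpe (f252911 IH) (Lpn (LP (LK LD1_c18 LD2_c47 LD3_c38))))))
theorem f584050 : Led Lsl_df (LP (LK LD1_c10 LD2_c28 LD3_c28)) = (LP (LK LD1_c18 LD2_c47 LD3_c38)) :=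
  Lgr Lrot38 (Lpr_dt (f584048 IH) (Lpn (LP (LK LD1_c18 LD2_c47 LD3_c38))))
theorem f230563 : Led Lsl_cf (LP (LK LD1_c8 LD2_c52 LD3_c9)) = (LP (LK LD1_c5 LD2_c19 LD3_c21)) :=
  Lgr Lrot97 (Lpr_bt (K15.f188018 IH) (Lpr_ct (K17.f188016 IH) (Lpr_bt (K12.f230555 IH) (Lpr_ct (K12.f230278 IH) (Lpr_bt (K37.f230223 IH) (Lpn (LP (LK LD1_c5 LD2_c19 LD3_c21))))))))
theorem f230218 : Led Lsl_dt (LP (LK LD1_c18 LD2_c59 LD3_c44)) = (LP (LK LD1_c10 LD2_c28 LD3_c52)) :=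
  Lre_d IH (LK LD1_c18 LD2_c59 LD3_c44) (LK LD1_c10 LD2_c28 LD3_c52) Lrfl Lrfl
theorem f230163 : Led Lsl_ct (LP (LK LD1_c18 LD2_c59 LD3_c43)) = (LP (LK LD1_c10 LD2_c28 LD3_c52)) :=
  Lre_c IH (LK LD1_c18 LD2_c59 LD3_c43) (LK LD1_c10 LD2_c28 LD3_c52) Lrfl Lrfl
theorem f183990 : Led Lsl_ct (LP (LK LD1_c10 LD2_c28 LD3_c17)) = (LP (LK LD1_c18 LD2_c58 LD3_c38)) :=
  Lre_c IH (LK LD1_c10 LD2_c28 LD3_c17) (LK LD1_c18 LD2_c58 LD3_c38) Lrfl Lrfl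
theorem f584303 : Led Lsl_gf (LP (LK LD1_c18 LD2_c59 LD3_c43)) = (LP (LK LD1_c18 LD2_c58 LD3_c38)) :=
  Lgr Lrot104 (Lpr_ct (f230163 IH) (Lpe (f230218 IH) (Lpe (f583823 IH) (Lpe (f230640 IH) (Lpr_cf (f230563 IH) (Lpe (f230645 IH) (Lpr_df (f584050 IH) (Lpr_gt (f584301 IH) (Lpr_ct (f183990 IH) (Lpn (LP (LK LD1_c18 LD2_c58 LD3_c38))))))))))))
theorem f180881 : Led Lsl_bt (LP (LK LD1_c18 LD2_c48 LD3_c0)) = (LP (LK LD1_c10 LD2_c21 LD3_c32)) :=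
  Lre_b IH (LK LD1_c18 LD2_c48 LD3_c0) (LK LD1_c10 LD2_c21 LD3_c32) Lrfl Lrfl
theorem f248170 : Led Lsl_bt (LP (LK LD1_c5 LD2_c10 LD3_c10)) = (LP (LK LD1_c10 LD2_c11 LD3_c3)) :=
  Lre_b IH (LK LD1_c5 LD2_c10 LD3_c10) (LK LD1_c10 LD2_c11 LD3_c3) Lrfl Lrfl
theorem f183989 : Led Lsl_bt (LP (LK LD1_c10 LD2_c28 LD3_c17)) = (LP (LK LD1_c5 LD2_c19 LD3_c16)) :=
  Lre_b IH (LK LD1_c10 LD2_c28 LD3_c17) (LK LD1_c5 LD2_c19 LD3_c16) Lrfl Lrfl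
theorem f183994 : Led Lsl_ct (LP (LK LD1_c18 LD2_c58 LD3_c38)) = (LP (LK LD1_c10 LD2_c28 LD3_c17)) :=
  Lre_c IH (LK LD1_c18 LD2_c58 LD3_c38) (LK LD1_c10 LD2_c28 LD3_c17) Lrfl Lrfl
theorem f582822 : Led Lsl_bt (LP (LK LD1_c15 LD2_c50 LD3_c47)) = (LP (LK LD1_c18 LD2_c58 LD3_c38)) :=
  Lgr Lrot128 (Lpr_cf (f582820 IH) (Lpe (f248170 IH) (Lpe (K14.f248106 IH) (Lpe (f183989 IH) (Lpe (f183994 IH) (Lpn (LP (LK LD1_c18 LD2_c58 LD3_c38))))))))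
theorem f582824 : Led Lsl_ct (LP (LK LD1_c15 LD2_c50 LD3_c47)) = (LP (LK LD1_c10 LD2_c11 LD3_c3)) :=
  Lgr Lrot59 (Lpr_cf (f582820 IH) (Lpn (LP (LK LD1_c10 LD2_c11 LD3_c3))))
theorem f584316 : Led Lsl_ct (LP (LK LD1_c18 LD2_c48 LD3_c0)) = (LP (LK LD1_c18 LD2_c33 LD3_c9)) :=
  Lgr Lrot64 (Lpr_bt (f180881 IH) (Lpr_gf (K37.f351110 IH) (Lpe (K37.f294834 IH) (Lpe (K18.f294786 IH) (Lpe (K37.f350988 IH) (Lpe (f230163 IH) (Lpr_gf (f584303 IH) (Lpe (f582822 IH) (Lpr_ct (f582824 IH) (Lpe (f248278 IH) (Lpn (LP (LK LD1_c18 LD2_c33 LD3_c9)))))))))))))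
theorem f45058 : Led Lsl_gt (LP (LK LD1_c8 LD2_c26 LD3_c12)) = (LP (LK LD1_c15 LD2_c50 LD3_c46)) :=
  Lre_g IH (LK LD1_c8 LD2_c26 LD3_c12) (LK LD1_c15 LD2_c50 LD3_c46) Lrfl Lrfl
theorem f584323 : Led Lsl_ct (LP (LK LD1_c15 LD2_c50 LD3_c46)) = (LP (LK LD1_c18 LD2_c9 LD3_c28)) :=
  Lgr Lrot91 (Lpe (f45058 IH) (Lpe (K13.f45018 IH) (Lpr_ct (K12.f45006 IH) (Lpr_gf (K15.f212508 IH) (Lpe (K15.f180773 IH) (Lpr_bt (K37.f180768 IH) (Lpe (K37.f180862 IH) (Lpe (f180881 IH) (Lpr_ct (f584316 IH) (Lpr_gf (f299707 IH) (Lpn (LP (LK LD1_c18 LD2_c9 LD3_c28)))))))))))))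
theorem f584334 : Led Lsl_ff (LP (LK LD1_c15 LD2_c50 LD3_c46)) = (LP (LK LD1_c18 LD2_c46 LD3_c37)) :=
  Lgr Lrot23 (Lpr_ct (f584323 IH) (Lpe (f299695 IH) (Lpe (f544734 IH) (Lpn (LP (LK LD1_c18 LD2_c46 LD3_c37))))))
theorem f584345 : Led Lsl_ft (LP (LK LD1_c15 LD2_c50 LD3_c46)) = (LP (LK LD1_c18 LD2_c46 LD3_c37)) :=
  Lgr Lrot48 (Lpr_ff (f584334 IH) (Lpn (LP (LK LD1_c18 LD2_c46 LD3_c37))))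
theorem f584330 : Led Lsl_cf (LP (LK LD1_c15 LD2_c50 LD3_c46)) = (LP (LK LD1_c18 LD2_c9 LD3_c28)) :=
  Lgr Lrot11 (Lpr_ct (f584323 IH) (Lpn (LP (LK LD1_c18 LD2_c9 LD3_c28))))
theorem f584359 : Led Lsl_cf (LP (LK LD1_c18 LD2_c33 LD3_c6)) = (LP (LK LD1_c18 LD2_c46 LD3_c37)) :=
  Lgr Lrot108 (Lpr_ft (f299638 IH) (Lpe (f584330 IH) (Lpr_ft (f584345 IH) (Lpn (LP (LK LD1_c18 LD2_c46 LD3_c37))))))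
theorem f584361 : Led Lsl_at (LP (LK LD1_c15 LD2_c50 LD3_c47)) = (LP (LK LD1_c18 LD2_c46 LD3_c37)) :=
  Lgr Lrot107 (Lpr_cf (f582820 IH) (Lpe (f299610 IH) (Lpr_cf (f584359 IH) (Lpn (LP (LK LD1_c18 LD2_c46 LD3_c37))))))
theorem f584305 : Led Lsl_bf (LP (LK LD1_c15 LD2_c50 LD3_c47)) = (LP (LK LD1_c18 LD2_c58 LD3_c38)) :=
  Lgr Lrot156 (Lpr_gt (f45055 IH) (Lpe (K13.f45018 IH) (Lpr_ct (K12.f45006 IH) (Lpr_gt (K9.f44995 IH) (Lpr_cf (K13.f184065 IH) (Lpr_bt (f184064 IH) (Lpr_gt (f184072 IH) (Lpr_ct (f252909 IH) (Lpr_gt (f584301 IH) (Lpe (f183994 IH) (Lpn (LP (LK LD1_c18 LD2_c58 LD3_c38)))))))))))))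
theorem f418917 : Led Lsl_at (LP (LK LD1_c18 LD2_c51 LD3_c60)) = (LP (LK LD1_c28 LD2_c20 LD3_c10)) :=
  Lre_a IH (LK LD1_c18 LD2_c51 LD3_c60) (LK LD1_c28 LD2_c20 LD3_c10) Lrfl Lrfl
theorem f582620 : Led Lsl_ct (LP (LK LD1_c28 LD2_c20 LD3_c10)) = (LP (LK LD1_c18 LD2_c51 LD3_c58)) :=
  Lre_c IH (LK LD1_c28 LD2_c20 LD3_c10) (LK LD1_c18 LD2_c51 LD3_c58) Lrfl Lrfl
theorem f32525 : Led Lsl_bt (LP (LK LD1_c10 LD2_c19 LD3_c47)) = (LP (LK LD1_c5 LD2_c15 LD3_c9)) :=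
  Lre_b IH (LK LD1_c10 LD2_c19 LD3_c47) (LK LD1_c5 LD2_c15 LD3_c9) Lrfl Lrfl
theorem f252927 : Led Lsl_gt (LP (LK LD1_c10 LD2_c29 LD3_c56)) = (LP (LK LD1_c5 LD2_c20 LD3_c0)) :=
  Lre_g IH (LK LD1_c10 LD2_c29 LD3_c56) (LK LD1_c5 LD2_c20 LD3_c0) Lrfl Lrfl
theorem f47575 : Led Lsl_bt (LP (LK LD1_c2 LD2_c34 LD3_c47)) = (LP (LK LD1_c5 LD2_c15 LD3_c54)) :=
  Lre_b IH (LK LD1_c2 LD2_c34 LD3_c47) (LK LD1_c5 LD2_c15 LD3_c54) Lrfl Lrfl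
theorem f47576 : Led Lsl_gt (LP (LK LD1_c5 LD2_c15 LD3_c54)) = (LP (LK LD1_c10 LD2_c21 LD3_c9)) :=
  Lre_g IH (LK LD1_c5 LD2_c15 LD3_c54) (LK LD1_c10 LD2_c21 LD3_c9) Lrfl Lrfl
theorem f294766 : Led Lsl_bt (LP (LK LD1_c18 LD2_c47 LD3_c13)) = (LP (LK LD1_c10 LD2_c21 LD3_c9)) :=
  Lre_b IH (LK LD1_c18 LD2_c47 LD3_c13) (LK LD1_c10 LD2_c21 LD3_c9) Lrfl Lrfl
theorem f294767 : Led Lsl_cf (LP (LK LD1_c10 LD2_c29 LD3_c56)) = (LP (LK LD1_c18 LD2_c47 LD3_c13)) :=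
  Lgr Lrot160 (Lpr_gt (f252927 IH) (Lpr_cf (K18.f294739 IH) (Lpr_bt (K37.f32527 IH) (Lpr_gt (K9.f32526 IH) (Lpr_ct (K10.f32556 IH) (Lpr_gt (K10.f32339 IH) (Lpe (K15.f47573 IH) (Lpr_bt (f47575 IH) (Lpr_gt (f47576 IH) (Lpe (f294766 IH) (Lpn (LP (LK LD1_c18 LD2_c47 LD3_c13)))))))))))))
theorem f294772 : Led Lsl_gt (LP (LK LD1_c28 LD2_c16 LD3_c57)) = (LP (LK LD1_c18 LD2_c47 LD3_c13)) :=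
  Lre_g IH (LK LD1_c28 LD2_c16 LD3_c57) (LK LD1_c18 LD2_c47 LD3_c13) Lrfl Lrfl
theorem f582634 : Led Lsl_bt (LP (LK LD1_c28 LD2_c20 LD3_c10)) = (LP (LK LD1_c28 LD2_c16 LD3_c57)) :=
  Lgr Lrot130 (Lpr_ct (f582620 IH) (Lpr_gf (f582627 IH) (Lpr_cf (K2.f32473 IH) (Lpr_bt (f32525 IH) (Lpe (K9.f32526 IH) (Lpe (K37.f32527 IH) (Lpe (K18.f294739 IH) (Lpe (f252927 IH) (Lpr_cf (f294767 IH) (Lpe (f294772 IH) (Lpn (LP (LK LD1_c28 LD2_c16 LD3_c57)))))))))))))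
theorem f584371 : Led Lsl_af (LP (LK LD1_c18 LD2_c58 LD3_c38)) = (LP (LK LD1_c28 LD2_c16 LD3_c57)) :=
  Lgr Lrot36 (Lpe (f584305 IH) (Lpr_at (f584361 IH) (Lpr_bt (f418906 IH) (Lpr_at (f418917 IH) (Lpr_bt (f582634 IH) (Lpn (LP (LK LD1_c28 LD2_c16 LD3_c57))))))))
theorem f230172 : Led Lsl_ct (LP (LK LD1_c10 LD2_c28 LD3_c53)) = (LP (LK LD1_c18 LD2_c59 LD3_c46)) :=
  Lre_c IH (LK LD1_c10 LD2_c28 LD3_c53) (LK LD1_c18 LD2_c59 LD3_c46) Lrfl Lrfl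
theorem f544762 : Led Lsl_gt (LP (LK LD1_c18 LD2_c59 LD3_c46)) = (LP (LK LD1_c18 LD2_c58 LD3_c38)) :=
  Lgr Lrot149 (Lpe (f230172 IH) (Lpr_gf (K37.f350927 IH) (Lpr_bf (K18.f294824 IH) (Lpr_ct (K18.f259037 IH) (Lpr_gf (K37.f408558 IH) (Lpr_cf (K37.f544760 IH) (Lpr_bt (K37.f43754 IH) (Lpr_gf (K14.f183985 IH) (Lpe (f183989 IH) (Lpr_ct (f183990 IH) (Lpn (LP (LK LD1_c18 LD2_c58 LD3_c38)))))))))))))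
theorem f32776 : Led Lsl_ct (LP (LK LD1_c18 LD2_c51 LD3_c55)) = (LP (LK LD1_c10 LD2_c23 LD3_c52)) :=
  Lre_c IH (LK LD1_c18 LD2_c51 LD3_c55) (LK LD1_c10 LD2_c23 LD3_c52) Lrfl Lrfl
theorem f32778 : Led Lsl_bt (LP (LK LD1_c18 LD2_c51 LD3_c55)) = (LP (LK LD1_c28 LD2_c20 LD3_c8)) :=
  Lre_b IH (LK LD1_c18 LD2_c51 LD3_c55) (LK LD1_c28 LD2_c20 LD3_c8) Lrfl Lrfl
theorem f230166 : Led Lsl_gf (LP (LK LD1_c18 LD2_c59 LD3_c46)) = (LP (LK LD1_c28 LD2_c20 LD3_c8)) :=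
  Lgr Lrot181 (Lpr_ct (K37.f230165 IH) (Lpr_gt (K37.f230164 IH) (Lpr_cf (K37.f230147 IH) (Lpr_bt (K37.f32841 IH) (Lpr_gt (K10.f32460 IH) (Lpe (K2.f32449 IH) (Lpe (K37.f32465 IH) (Lpr_gt (K37.f32480 IH) (Lpe (f32776 IH) (Lpr_bt (f32778 IH) (Lpn (LP (LK LD1_c28 LD2_c20 LD3_c8)))))))))))))
theorem f584379 : Led Lsl_ft (LP (LK LD1_c28 LD2_c20 LD3_c8)) = (LP (LK LD1_c28 LD2_c16 LD3_c57)) :=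
  Lgr Lrot2 (Lpe (f230166 IH) (Lpr_gt (f544762 IH) (Lpr_af (f584371 IH) (Lpn (LP (LK LD1_c28 LD2_c16 LD3_c57))))))
theorem f584388 : Led Lsl_ff (LP (LK LD1_c28 LD2_c20 LD3_c8)) = (LP (LK LD1_c28 LD2_c16 LD3_c57)) :=
  Lgr Lrot3 (Lpr_ft (f584379 IH) (Lpn (LP (LK LD1_c28 LD2_c16 LD3_c57))))
theorem f584375 : Led Lsl_at (LP (LK LD1_c18 LD2_c58 LD3_c38)) = (LP (LK LD1_c28 LD2_c16 LD3_c57)) :=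
  Lgr Lrot100 (Lpr_af (f584371 IH) (Lpn (LP (LK LD1_c28 LD2_c16 LD3_c57))))
theorem f249298 : Led Lsl_ct (LP (LK LD1_c10 LD2_c29 LD3_c28)) = (LP (LK LD1_c19 LD2_c0 LD3_c54)) :=
  Lre_c IH (LK LD1_c10 LD2_c29 LD3_c28) (LK LD1_c19 LD2_c0 LD3_c54) Lrfl Lrfl
theorem f299553 : Led Lsl_ff (LP (LK LD1_c18 LD2_c58 LD3_c38)) = (LP (LK LD1_c19 LD2_c0 LD3_c54)) :=
  Lgr Lrot23 (Lpr_ct (f183994 IH) (Lpr_ft (K18.f299542 IH) (Lpr_ct (f249298 IH) (Lpn (LP (LK LD1_c19 LD2_c0 LD3_c54))))))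
theorem f584390 : Led Lsl_at (LP (LK LD1_c28 LD2_c20 LD3_c8)) = (LP (LK LD1_c19 LD2_c0 LD3_c54)) :=
  Lgr Lrot66 (Lpr_ff (f584388 IH) (Lpe (f584375 IH) (Lpr_ff (f299553 IH) (Lpn (LP (LK LD1_c19 LD2_c0 LD3_c54))))))
theorem f249414 : Led Lsl_ct (LP (LK LD1_c18 LD2_c9 LD3_c32)) = (LP (LK LD1_c9 LD2_c55 LD3_c10)) :=
  Lre_c IH (LK LD1_c18 LD2_c9 LD3_c32) (LK LD1_c9 LD2_c55 LD3_c10) Lrfl Lrfl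
theorem f249416 : Led Lsl_bf (LP (LK LD1_c18 LD2_c9 LD3_c32)) = (LP (LK LD1_c19 LD2_c0 LD3_c54)) :=
  Lgr Lrot90 (Lpr_ct (f249414 IH) (Lpr_bt (f249413 IH) (Lpr_ct (K14.f249380 IH) (Lpr_bt (K18.f249415 IH) (Lpr_ct (f249298 IH) (Lpn (LP (LK LD1_c19 LD2_c0 LD3_c54))))))))
theorem f584325 : Led Lsl_af (LP (LK LD1_c15 LD2_c50 LD3_c46)) = (LP (LK LD1_c18 LD2_c9 LD3_c32)) :=
  Lgr Lrot68 (Lpr_ct (f584323 IH) (Lpr_at (f299637 IH) (Lpr_ct (f249432 IH) (Lpn (LP (LK LD1_c18 LD2_c9 LD3_c32))))))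
theorem f584338 : Led Lsl_bt (LP (LK LD1_c15 LD2_c50 LD3_c46)) = (LP (LK LD1_c25 LD2_c46 LD3_c47)) :=
  Lre_b IH (LK LD1_c15 LD2_c50 LD3_c46) (LK LD1_c25 LD2_c46 LD3_c47) Lrfl Lrfl
theorem f584432 : Led Lsl_af (LP (LK LD1_c18 LD2_c51 LD3_c55)) = (LP (LK LD1_c25 LD2_c46 LD3_c47)) :=
  Lgr Lrot36 (Lpr_bt (f32778 IH) (Lpr_at (f584390 IH) (Lpe (f249416 IH) (Lpe (f584325 IH) (Lpr_bt (f584338 IH) (Lpn (LP (LK LD1_c25 LD2_c46 LD3_c47))))))))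
theorem f584434 : Led Lsl_at (LP (LK LD1_c18 LD2_c51 LD3_c55)) = (LP (LK LD1_c25 LD2_c46 LD3_c47)) :=
  Lgr Lrot100 (Lpr_af (f584432 IH) (Lpn (LP (LK LD1_c25 LD2_c46 LD3_c47))))
theorem f584437 : Led Lsl_at (LP (LK LD1_c18 LD2_c51 LD3_c53)) = (LP (LK LD1_c10 LD2_c23 LD3_c52)) :=
  Lre_a IH (LK LD1_c18 LD2_c51 LD3_c53) (LK LD1_c10 LD2_c23 LD3_c52) Lrfl Lrfl
theorem f584438 : Led Lsl_cf (LP (LK LD1_c18 LD2_c51 LD3_c53)) = (LP (LK LD1_c25 LD2_c46 LD3_c47)) :=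
  Lgr Lrot1 (Lpr_at (f584437 IH) (Lpr_ct (K37.f32838 IH) (Lpr_at (f584434 IH) (Lpn (LP (LK LD1_c25 LD2_c46 LD3_c47))))))
theorem f584440 : Led Lsl_ct (LP (LK LD1_c28 LD2_c20 LD3_c6)) = (LP (LK LD1_c27 LD2_c32 LD3_c8)) :=
  Lgr Lrot83 (Lpe (f544721 IH) (Lpr_cf (f584438 IH) (Lpe (f584338 IH) (Lpr_cf (f584330 IH) (Lpe (f300242 IH) (Lpn (LP (LK LD1_c27 LD2_c32 LD3_c8))))))))
theorem f584327 : Led Lsl_bt (LP (LK LD1_c28 LD2_c20 LD3_c6)) = (LP (LK LD1_c18 LD2_c51 LD3_c53)) :=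
  Lre_b IH (LK LD1_c28 LD2_c20 LD3_c6) (LK LD1_c18 LD2_c51 LD3_c53) Lrfl Lrfl
theorem f544731 : Led Lsl_at (LP (LK LD1_c10 LD2_c23 LD3_c53)) = (LP (LK LD1_c18 LD2_c51 LD3_c58)) :=
  Lre_a IH (LK LD1_c10 LD2_c23 LD3_c53) (LK LD1_c18 LD2_c51 LD3_c58) Lrfl Lrfl
theorem f582629 : Led Lsl_ft (LP (LK LD1_c18 LD2_c51 LD3_c53)) = (LP (LK LD1_c10 LD2_c23 LD3_c53)) :=
  Lre_f IH (LK LD1_c18 LD2_c51 LD3_c53) (LK LD1_c10 LD2_c23 LD3_c53) Lrfl Lrfl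
theorem f582630 : Led Lsl_gt (LP (LK LD1_c18 LD2_c51 LD3_c53)) = (LP (LK LD1_c10 LD2_c23 LD3_c56)) :=
  Lgr Lrot5 (Lpr_ft (f582629 IH) (Lpr_at (f544731 IH) (Lpr_gf (f582627 IH) (Lpn (LP (LK LD1_c10 LD2_c23 LD3_c56))))))
theorem f215119 : Led Lsl_ct (LP (LK LD1_c10 LD2_c25 LD3_c31)) = (LP (LK LD1_c18 LD2_c54 LD3_c40)) :=
  Lre_c IH (LK LD1_c10 LD2_c25 LD3_c31) (LK LD1_c18 LD2_c54 LD3_c40) Lrfl Lrfl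
theorem f584442 : Led Lsl_gt (LP (LK LD1_c18 LD2_c54 LD3_c40)) = (LP (LK LD1_c27 LD2_c32 LD3_c8)) :=
  Lgr Lrot149 (Lpe (f215119 IH) (Lpe (K37.f48272 IH) (Lpe (K37.f48271 IH) (Lpr_ct (K13.f48267 IH) (Lpe (K9.f32179 IH) (Lpe (K10.f32507 IH) (Lpr_bt (f32555 IH) (Lpe (f582630 IH) (Lpe (f584327 IH) (Lpr_ct (f584440 IH) (Lpn (LP (LK LD1_c27 LD2_c32 LD3_c8)))))))))))))
theorem f584444 : Led Lsl_gf (LP (LK LD1_c18 LD2_c54 LD3_c40)) = (LP (LK LD1_c17 LD2_c47 LD3_c2)) :=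
  Lgr Lrot47 (Lpr_gt (f584442 IH) (Lpe (K18.f300235 IH) (Lpr_ff (K18.f300237 IH) (Lpn (LP (LK LD1_c17 LD2_c47 LD3_c2))))))
theorem f215113 : Led Lsl_ct (LP (LK LD1_c18 LD2_c54 LD3_c40)) = (LP (LK LD1_c10 LD2_c25 LD3_c31)) :=
  Lre_c IH (LK LD1_c18 LD2_c54 LD3_c40) (LK LD1_c10 LD2_c25 LD3_c31) Lrfl Lrfl
theorem f230060 : Led Lsl_dt (LP (LK LD1_c17 LD2_c46 LD3_c15)) = (LP (LK LD1_c27 LD2_c32 LD3_c51)) :=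
  Lre_d IH (LK LD1_c17 LD2_c46 LD3_c15) (LK LD1_c27 LD2_c32 LD3_c51) Lrfl Lrfl
theorem f230056 : Led Lsl_ct (LP (LK LD1_c32 LD2_c25 LD3_c61)) = (LP (LK LD1_c27 LD2_c32 LD3_c51)) :=
  Lre_c IH (LK LD1_c32 LD2_c25 LD3_c61) (LK LD1_c27 LD2_c32 LD3_c51) Lrfl Lrfl
theorem f249526 : Led Lsl_dt (LP (LK LD1_c9 LD2_c40 LD3_c7)) = (LP (LK LD1_c17 LD2_c47 LD3_c2)) :=
  Lre_d IH (LK LD1_c9 LD2_c40 LD3_c7) (LK LD1_c17 LD2_c47 LD3_c2) Lrfl Lrfl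
theorem f43838 : Led Lsl_gt (LP (LK LD1_c9 LD2_c40 LD3_c7)) = (LP (LK LD1_c17 LD2_c46 LD3_c61)) :=
  Lre_g IH (LK LD1_c9 LD2_c40 LD3_c7) (LK LD1_c17 LD2_c46 LD3_c61) Lrfl Lrfl
theorem f193136 : Led Lsl_ct (LP (LK LD1_c17 LD2_c46 LD3_c61)) = (LP (LK LD1_c27 LD2_c33 LD3_c46)) :=
  Lre_c IH (LK LD1_c17 LD2_c46 LD3_c61) (LK LD1_c27 LD2_c33 LD3_c46) Lrfl Lrfl
theorem f584446 : Led Lsl_gf (LP (LK LD1_c32 LD2_c25 LD3_c61)) = (LP (LK LD1_c27 LD2_c33 LD3_c46)) :=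
  Lgr Lrot104 (Lpr_ct (f230056 IH) (Lpe (f230060 IH) (Lpr_cf (K37.f230014 IH) (Lpr_gf (K37.f294406 IH) (Lpe (f215113 IH) (Lpr_gf (f584444 IH) (Lpe (f249526 IH) (Lpr_gt (f43838 IH) (Lpr_ct (f193136 IH) (Lpn (LP (LK LD1_c27 LD2_c33 LD3_c46))))))))))))
theorem f230061 : Led Lsl_ct (LP (LK LD1_c27 LD2_c32 LD3_c51)) = (LP (LK LD1_c32 LD2_c25 LD3_c61)) :=
  Lre_c IH (LK LD1_c27 LD2_c32 LD3_c51) (LK LD1_c32 LD2_c25 LD3_c61) Lrfl Lrfl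
theorem f165338 : Led Lsl_bt (LP (LK LD1_c5 LD2_c2 LD3_c4)) = (LP (LK LD1_c9 LD2_c54 LD3_c51)) :=
  Lre_b IH (LK LD1_c5 LD2_c2 LD3_c4) (LK LD1_c9 LD2_c54 LD3_c51) Lrfl Lrfl
theorem f193137 : Led Lsl_gt (LP (LK LD1_c18 LD2_c8 LD3_c53)) = (LP (LK LD1_c9 LD2_c54 LD3_c51)) :=
  Lre_g IH (LK LD1_c18 LD2_c8 LD3_c53) (LK LD1_c9 LD2_c54 LD3_c51) Lrfl Lrfl
theorem f584450 : Led Lsl_bt (LP (LK LD1_c27 LD2_c32 LD3_c51)) = (LP (LK LD1_c18 LD2_c8 LD3_c53)) :=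
  Lgr Lrot22 (Lpr_ct (f230061 IH) (Lpr_gf (f584446 IH) (Lpe (f193136 IH) (Lpe (f43838 IH) (Lpe (K18.f43837 IH) (Lpr_ct (K14.f43834 IH) (Lpr_gf (K14.f193130 IH) (Lpe (K15.f165337 IH) (Lpr_bt (f165338 IH) (Lpe (f193137 IH) (Lpn (LP (LK LD1_c18 LD2_c8 LD3_c53)))))))))))))
theorem f544705 : Led Lsl_cf (LP (LK LD1_c27 LD2_c34 LD3_c36)) = (LP (LK LD1_c18 LD2_c30 LD3_c37)) :=
  Lgr Lrot11 (Lpr_ct (f544702 IH) (Lpn (LP (LK LD1_c18 LD2_c30 LD3_c37))))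
theorem f300016 : Led Lsl_gt (LP (LK LD1_c18 LD2_c11 LD3_c23)) = (LP (LK LD1_c18 LD2_c30 LD3_c37)) :=
  Lgr Lrot5 (Lpr_ft (K18.f300001 IH) (Lpr_at (K18.f300012 IH) (Lpe (f278626 IH) (Lpn (LP (LK LD1_c18 LD2_c30 LD3_c37))))))
theorem f299847 : Led Lsl_bt (LP (LK LD1_c9 LD2_c56 LD3_c45)) = (LP (LK LD1_c18 LD2_c11 LD3_c23)) :=
  Lre_b IH (LK LD1_c9 LD2_c56 LD3_c45) (LK LD1_c18 LD2_c11 LD3_c23) Lrfl Lrfl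
theorem f186790 : Led Lsl_bt (LP (LK LD1_c2 LD2_c32 LD3_c58)) = (LP (LK LD1_c1 LD2_c13 LD3_c24)) :=
  Lre_b IH (LK LD1_c2 LD2_c32 LD3_c58) (LK LD1_c1 LD2_c13 LD3_c24) Lrfl Lrfl
theorem f300629 : Led Lsl_at (LP (LK LD1_c5 LD2_c12 LD3_c18)) = (LP (LK LD1_c2 LD2_c32 LD3_c58)) :=
  Lre_a IH (LK LD1_c5 LD2_c12 LD3_c18) (LK LD1_c2 LD2_c32 LD3_c58) Lrfl Lrfl
theorem f169440 : Led Lsl_bt (LP (LK LD1_c1 LD2_c12 LD3_c2)) = (LP (LK LD1_c2 LD2_c30 LD3_c4)) :=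
  Lre_b IH (LK LD1_c1 LD2_c12 LD3_c2) (LK LD1_c2 LD2_c30 LD3_c4) Lrfl Lrfl
theorem f302195 : Led Lsl_at (LP (LK LD1_c2 LD2_c30 LD3_c4)) = (LP (LK LD1_c5 LD2_c5 LD3_c42)) :=
  Lre_a IH (LK LD1_c2 LD2_c30 LD3_c4) (LK LD1_c5 LD2_c5 LD3_c42) Lrfl Lrfl
theorem f302315 : Led Lsl_bf (LP (LK LD1_c5 LD2_c12 LD3_c18)) = (LP (LK LD1_c5 LD2_c5 LD3_c42)) :=
  Lgr Lrot81 (Lpr_at (f300629 IH) (Lpr_bt (f186790 IH) (Lpr_at (K18.f302311 IH) (Lpr_bt (f169440 IH) (Lpr_at (f302195 IH) (Lpn (LP (LK LD1_c5 LD2_c5 LD3_c42))))))))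
theorem f165875 : Led Lsl_gt (LP (LK LD1_c2 LD2_c30 LD3_c25)) = (LP (LK LD1_c5 LD2_c6 LD3_c17)) :=
  Lre_g IH (LK LD1_c2 LD2_c30 LD3_c25) (LK LD1_c5 LD2_c6 LD3_c17) Lrfl Lrfl
theorem f300619 : Led Lsl_gf (LP (LK LD1_c5 LD2_c12 LD3_c18)) = (LP (LK LD1_c5 LD2_c6 LD3_c17)) :=
  Lgr Lrot76 (Lpe (K18.f300599 IH) (Lpr_ff (K18.f300600 IH) (Lpr_gt (f165875 IH) (Lpn (LP (LK LD1_c5 LD2_c6 LD3_c17))))))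
theorem f180603 : Led Lsl_bt (LP (LK LD1_c10 LD2_c3 LD3_c35)) = (LP (LK LD1_c5 LD2_c6 LD3_c17)) :=
  Lre_b IH (LK LD1_c10 LD2_c3 LD3_c35) (LK LD1_c5 LD2_c6 LD3_c17) Lrfl Lrfl
theorem f165874 : Led Lsl_bt (LP (LK LD1_c1 LD2_c12 LD3_c13)) = (LP (LK LD1_c2 LD2_c30 LD3_c25)) :=
  Lre_b IH (LK LD1_c1 LD2_c12 LD3_c13) (LK LD1_c2 LD2_c30 LD3_c25) Lrfl Lrfl
theorem f180575 : Led Lsl_bt (LP (LK LD1_c2 LD2_c32 LD3_c0)) = (LP (LK LD1_c1 LD2_c13 LD3_c2)) :=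
  Lre_b IH (LK LD1_c2 LD2_c32 LD3_c0) (LK LD1_c1 LD2_c13 LD3_c2) Lrfl Lrfl
theorem f180576 : Led Lsl_ct (LP (LK LD1_c2 LD2_c32 LD3_c0)) = (LP (LK LD1_c5 LD2_c9 LD3_c40)) :=
  Lre_c IH (LK LD1_c2 LD2_c32 LD3_c0) (LK LD1_c5 LD2_c9 LD3_c40) Lrfl Lrfl
theorem f180604 : Led Lsl_gt (LP (LK LD1_c10 LD2_c10 LD3_c2)) = (LP (LK LD1_c5 LD2_c9 LD3_c40)) :=
  Lre_g IH (LK LD1_c10 LD2_c10 LD3_c2) (LK LD1_c5 LD2_c9 LD3_c40) Lrfl Lrfl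
theorem f180605 : Led Lsl_ct (LP (LK LD1_c10 LD2_c3 LD3_c35)) = (LP (LK LD1_c10 LD2_c10 LD3_c2)) :=
  Lgr Lrot64 (Lpr_bt (f180603 IH) (Lpe (f165875 IH) (Lpe (f165874 IH) (Lpr_ct (K9.f163683 IH) (Lpe (K10.f178981 IH) (Lpe (K10.f169457 IH) (Lpr_gf (K13.f180585 IH) (Lpe (f180575 IH) (Lpr_ct (f180576 IH) (Lpe (f180604 IH) (Lpn (LP (LK LD1_c10 LD2_c10 LD3_c2)))))))))))))
theorem f299959 : Led Lsl_at (LP (LK LD1_c10 LD2_c10 LD3_c3)) = (LP (LK LD1_c5 LD2_c9 LD3_c40)) :=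
  Lre_a IH (LK LD1_c10 LD2_c10 LD3_c3) (LK LD1_c5 LD2_c9 LD3_c40) Lrfl Lrfl
theorem f299968 : Led Lsl_gt (LP (LK LD1_c9 LD2_c56 LD3_c45)) = (LP (LK LD1_c10 LD2_c10 LD3_c2)) :=
  Lgr Lrot5 (Lpr_ft (K18.f299874 IH) (Lpr_at (f299959 IH) (Lpe (f180604 IH) (Lpn (LP (LK LD1_c10 LD2_c10 LD3_c2))))))
theorem f185278 : Led Lsl_gt (LP (LK LD1_c10 LD2_c16 LD3_c39)) = (LP (LK LD1_c5 LD2_c13 LD3_c9)) :=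
  Lre_g IH (LK LD1_c10 LD2_c16 LD3_c39) (LK LD1_c5 LD2_c13 LD3_c9) Lrfl Lrfl
theorem f302237 : Led Lsl_gf (LP (LK LD1_c10 LD2_c16 LD3_c39)) = (LP (LK LD1_c10 LD2_c1 LD3_c56)) :=
  Lgr Lrot47 (Lpr_gt (f185278 IH) (Lpe (K18.f185413 IH) (Lpr_ff (K18.f302222 IH) (Lpn (LP (LK LD1_c10 LD2_c1 LD3_c56))))))
theorem f165578 : Led Lsl_gt (LP (LK LD1_c2 LD2_c32 LD3_c0)) = (LP (LK LD1_c5 LD2_c9 LD3_c54)) :=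
  Lre_g IH (LK LD1_c2 LD2_c32 LD3_c0) (LK LD1_c5 LD2_c9 LD3_c54) Lrfl Lrfl
theorem f185277 : Led Lsl_bt (LP (LK LD1_c10 LD2_c10 LD3_c33)) = (LP (LK LD1_c5 LD2_c9 LD3_c54)) :=
  Lre_b IH (LK LD1_c10 LD2_c10 LD3_c33) (LK LD1_c5 LD2_c9 LD3_c54) Lrfl Lrfl
theorem f165529 : Led Lsl_bt (LP (LK LD1_c2 LD2_c33 LD3_c29)) = (LP (LK LD1_c1 LD2_c13 LD3_c41)) :=
  Lre_b IH (LK LD1_c2 LD2_c33 LD3_c29) (LK LD1_c1 LD2_c13 LD3_c41) Lrfl Lrfl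
theorem f165530 : Led Lsl_ct (LP (LK LD1_c2 LD2_c33 LD3_c29)) = (LP (LK LD1_c5 LD2_c13 LD3_c9)) :=
  Lre_c IH (LK LD1_c2 LD2_c33 LD3_c29) (LK LD1_c5 LD2_c13 LD3_c9) Lrfl Lrfl
theorem f185279 : Led Lsl_ct (LP (LK LD1_c10 LD2_c10 LD3_c33)) = (LP (LK LD1_c10 LD2_c16 LD3_c39)) :=
  Lgr Lrot64 (Lpr_bt (f185277 IH) (Lpe (f165578 IH) (Lpe (K18.f182430 IH) (Lpr_ct (K10.f22104 IH) (Lpe (K13.f165483 IH) (Lpe (K13.f165484 IH) (Lpr_gf (K13.f185270 IH) (Lpe (f165529 IH) (Lpr_ct (f165530 IH) (Lpe (f185278 IH) (Lpn (LP (LK LD1_c10 LD2_c16 LD3_c39)))))))))))))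
theorem f406503 : Led Lsl_gf (LP (LK LD1_c5 LD2_c3 LD3_c6)) = (LP (LK LD1_c5 LD2_c9 LD3_c54)) :=
  Lgr Lrot181 (Lpr_ct (K18.f299736 IH) (Lpr_gt (f299968 IH) (Lpe (f180605 IH) (Lpr_bt (f180603 IH) (Lpe (f300619 IH) (Lpr_bf (f302315 IH) (Lpr_ct (K18.f302203 IH) (Lpe (f302237 IH) (Lpe (f185279 IH) (Lpr_bt (f185277 IH) (Lpn (LP (LK LD1_c5 LD2_c9 LD3_c54)))))))))))))
theorem f165579 : Led Lsl_ct (LP (LK LD1_c10 LD2_c10 LD3_c34)) = (LP (LK LD1_c5 LD2_c9 LD3_c54)) :=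
  Lre_c IH (LK LD1_c10 LD2_c10 LD3_c34) (LK LD1_c5 LD2_c9 LD3_c54) Lrfl Lrfl
theorem f165580 : Led Lsl_bt (LP (LK LD1_c10 LD2_c10 LD3_c34)) = (LP (LK LD1_c18 LD2_c32 LD3_c19)) :=
  Lre_b IH (LK LD1_c10 LD2_c10 LD3_c34) (LK LD1_c18 LD2_c32 LD3_c19) Lrfl Lrfl
theorem f185326 : Led Lsl_gt (LP (LK LD1_c28 LD2_c6 LD3_c51)) = (LP (LK LD1_c18 LD2_c32 LD3_c19)) :=
  Lre_g IH (LK LD1_c28 LD2_c6 LD3_c51) (LK LD1_c18 LD2_c32 LD3_c19) Lrfl Lrfl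
theorem f544713 : Led Lsl_bt (LP (LK LD1_c32 LD2_c25 LD3_c61)) = (LP (LK LD1_c28 LD2_c6 LD3_c51)) :=
  Lgr Lrot22 (Lpr_ct (f230056 IH) (Lpr_gf (f407422 IH) (Lpr_cf (f544705 IH) (Lpe (f300016 IH) (Lpe (f299847 IH) (Lpr_ct (K18.f299734 IH) (Lpr_gf (f406503 IH) (Lpe (f165579 IH) (Lpr_bt (f165580 IH) (Lpe (f185326 IH) (Lpn (LP (LK LD1_c28 LD2_c6 LD3_c51)))))))))))))
theorem f544715 : Led Lsl_bf (LP (LK LD1_c32 LD2_c25 LD3_c61)) = (LP (LK LD1_c28 LD2_c6 LD3_c51)) :=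
  Lgr Lrot24 (Lpr_bt (f544713 IH) (Lpn (LP (LK LD1_c28 LD2_c6 LD3_c51))))
theorem f185282 : Led Lsl_bt (LP (LK LD1_c5 LD2_c9 LD3_c54)) = (LP (LK LD1_c10 LD2_c10 LD3_c33)) :=
  Lre_b IH (LK LD1_c5 LD2_c9 LD3_c54) (LK LD1_c10 LD2_c10 LD3_c33) Lrfl Lrfl
theorem f185283 : Led Lsl_bt (LP (LK LD1_c18 LD2_c32 LD3_c19)) = (LP (LK LD1_c10 LD2_c10 LD3_c34)) :=
  Lre_b IH (LK LD1_c18 LD2_c32 LD3_c19) (LK LD1_c10 LD2_c10 LD3_c34) Lrfl Lrfl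
theorem f185284 : Led Lsl_bt (LP (LK LD1_c10 LD2_c16 LD3_c39)) = (LP (LK LD1_c18 LD2_c41 LD3_c30)) :=
  Lre_b IH (LK LD1_c10 LD2_c16 LD3_c39) (LK LD1_c18 LD2_c41 LD3_c30) Lrfl Lrfl
theorem f185285 : Led Lsl_cf (LP (LK LD1_c18 LD2_c32 LD3_c19)) = (LP (LK LD1_c18 LD2_c41 LD3_c30)) :=
  Lgr Lrot97 (Lpr_bt (f185283 IH) (Lpr_ct (f165579 IH) (Lpr_bt (f185282 IH) (Lpr_ct (f185279 IH) (Lpr_bt (f185284 IH) (Lpn (LP (LK LD1_c18 LD2_c41 LD3_c30))))))))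
theorem f185324 : Led Lsl_bt (LP (LK LD1_c18 LD2_c41 LD3_c30)) = (LP (LK LD1_c10 LD2_c16 LD3_c39)) :=
  Lre_b IH (LK LD1_c18 LD2_c41 LD3_c30) (LK LD1_c10 LD2_c16 LD3_c39) Lrfl Lrfl
theorem f183901 : Led Lsl_bt (LP (LK LD1_c2 LD2_c33 LD3_c26)) = (LP (LK LD1_c5 LD2_c13 LD3_c9)) :=
  Lre_b IH (LK LD1_c2 LD2_c33 LD3_c26) (LK LD1_c5 LD2_c13 LD3_c9) Lrfl Lrfl
theorem f165564 : Led Lsl_gt (LP (LK LD1_c10 LD2_c16 LD3_c25)) = (LP (LK LD1_c18 LD2_c41 LD3_c6)) :=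
  Lre_g IH (LK LD1_c10 LD2_c16 LD3_c25) (LK LD1_c18 LD2_c41 LD3_c6) Lrfl Lrfl
theorem f185337 : Led Lsl_cf (LP (LK LD1_c28 LD2_c6 LD3_c51)) = (LP (LK LD1_c18 LD2_c41 LD3_c6)) :=
  Lgr Lrot125 (Lpr_gt (f185326 IH) (Lpr_cf (f185285 IH) (Lpr_bt (f185324 IH) (Lpr_gt (f185278 IH) (Lpe (f183901 IH) (Lpr_ct (K12.f183894 IH) (Lpr_gt (K14.f165525 IH) (Lpe (K14.f165538 IH) (Lpr_bt (K18.f165551 IH) (Lpr_gt (f165564 IH) (Lpn (LP (LK LD1_c18 LD2_c41 LD3_c6)))))))))))))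
theorem f185341 : Led Lsl_ct (LP (LK LD1_c28 LD2_c6 LD3_c51)) = (LP (LK LD1_c18 LD2_c41 LD3_c6)) :=
  Lgr Lrot59 (Lpr_cf (f185337 IH) (Lpn (LP (LK LD1_c18 LD2_c41 LD3_c6))))
theorem f165536 : Led Lsl_bt (LP (LK LD1_c5 LD2_c9 LD3_c39)) = (LP (LK LD1_c10 LD2_c9 LD3_c61)) :=
  Lre_b IH (LK LD1_c5 LD2_c9 LD3_c39) (LK LD1_c10 LD2_c9 LD3_c61) Lrfl Lrfl
theorem f165540 : Led Lsl_ct (LP (LK LD1_c10 LD2_c9 LD3_c61)) = (LP (LK LD1_c10 LD2_c16 LD3_c25)) :=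
  Lgr Lrot83 (Lpe (f165536 IH) (Lpr_cf (K17.f165527 IH) (Lpe (K15.f165537 IH) (Lpe (K14.f165538 IH) (Lpe (K18.f165539 IH) (Lpn (LP (LK LD1_c10 LD2_c16 LD3_c25))))))))
theorem f249527 : Led Lsl_gt (LP (LK LD1_c17 LD2_c47 LD3_c0)) = (LP (LK LD1_c9 LD2_c40 LD3_c7)) :=
  Lre_g IH (LK LD1_c17 LD2_c47 LD3_c0) (LK LD1_c9 LD2_c40 LD3_c7) Lrfl Lrfl
theorem f300227 : Led Lsl_ct (LP (LK LD1_c27 LD2_c33 LD3_c48)) = (LP (LK LD1_c17 LD2_c47 LD3_c0)) :=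
  Lre_c IH (LK LD1_c27 LD2_c33 LD3_c48) (LK LD1_c17 LD2_c47 LD3_c0) Lrfl Lrfl
theorem f544717 : Led Lsl_gt (LP (LK LD1_c32 LD2_c25 LD3_c61)) = (LP (LK LD1_c27 LD2_c33 LD3_c48)) :=
  Lgr Lrot82 (Lpr_bf (f544715 IH) (Lpr_ct (f185341 IH) (Lpe (f165564 IH) (Lpe (f165540 IH) (Lpr_bt (K18.f165550 IH) (Lpr_gf (K17.f288404 IH) (Lpe (f288349 IH) (Lpr_ct (K18.f299808 IH) (Lpe (f249527 IH) (Lpe (f300227 IH) (Lpn (LP (LK LD1_c27 LD2_c33 LD3_c48)))))))))))))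
theorem f300226 : Led Lsl_ct (LP (LK LD1_c17 LD2_c47 LD3_c0)) = (LP (LK LD1_c27 LD2_c33 LD3_c48)) :=
  Lre_c IH (LK LD1_c17 LD2_c47 LD3_c0) (LK LD1_c27 LD2_c33 LD3_c48) Lrfl Lrfl
theorem f304234 : Led Lsl_ct (LP (LK LD1_c10 LD2_c29 LD3_c31)) = (LP (LK LD1_c9 LD2_c56 LD3_c52)) :=
  Lgr Lrot59 (Lpr_cf (K18.f304229 IH) (Lpn (LP (LK LD1_c9 LD2_c56 LD3_c52))))
theorem f367276 : Led Lsl_ff (LP (LK LD1_c10 LD2_c29 LD3_c31)) = (LP (LK LD1_c10 LD2_c1 LD3_c53)) :=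
  Lgr Lrot23 (Lpr_ct (f304234 IH) (Lpr_ft (K27.f367274 IH) (Lpe (K22.f251381 IH) (Lpn (LP (LK LD1_c10 LD2_c1 LD3_c53))))))
theorem f367815 : Led Lsl_af (LP (LK LD1_c10 LD2_c3 LD3_c24)) = (LP (LK LD1_c10 LD2_c29 LD3_c31)) :=
  Lgr Lrot45 (Lpe (K27.f367780 IH) (Lpr_at (K27.f367808 IH) (Lpe (f367276 IH) (Lpn (LP (LK LD1_c10 LD2_c29 LD3_c31))))))
theorem f367778 : Led Lsl_ef (LP (LK LD1_c18 LD2_c19 LD3_c51)) = (LP (LK LD1_c10 LD2_c3 LD3_c24)) :=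
  Lgr Lrot88 (Lpr_et (K27.f367769 IH) (Lpn (LP (LK LD1_c10 LD2_c3 LD3_c24))))
theorem f376901 : Led Lsl_et (LP (LK LD1_c18 LD2_c41 LD3_c28)) = (LP (LK LD1_c10 LD2_c29 LD3_c31)) :=
  Lgr Lrot123 (Lpe (K27.f367225 IH) (Lpr_ef (f367778 IH) (Lpr_af (f367815 IH) (Lpn (LP (LK LD1_c10 LD2_c29 LD3_c31))))))
theorem f230769 : Led Lsl_bt (LP (LK LD1_c28 LD2_c12 LD3_c52)) = (LP (LK LD1_c18 LD2_c41 LD3_c28)) :=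
  Lre_b IH (LK LD1_c28 LD2_c12 LD3_c52) (LK LD1_c18 LD2_c41 LD3_c28) Lrfl Lrfl
theorem f304231 : Led Lsl_bt (LP (LK LD1_c10 LD2_c29 LD3_c31)) = (LP (LK LD1_c19 LD2_c0 LD3_c58)) :=
  Lre_b IH (LK LD1_c10 LD2_c29 LD3_c31) (LK LD1_c19 LD2_c0 LD3_c58) Lrfl Lrfl
theorem f376903 : Led Lsl_ef (LP (LK LD1_c28 LD2_c12 LD3_c52)) = (LP (LK LD1_c19 LD2_c0 LD3_c58)) :=
  Lgr Lrot29 (Lpr_bt (f230769 IH) (Lpr_et (f376901 IH) (Lpr_bt (f304231 IH) (Lpn (LP (LK LD1_c19 LD2_c0 LD3_c58))))))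
theorem f376907 : Led Lsl_et (LP (LK LD1_c28 LD2_c12 LD3_c52)) = (LP (LK LD1_c19 LD2_c0 LD3_c58)) :=
  Lgr Lrot87 (Lpr_ef (f376903 IH) (Lpn (LP (LK LD1_c19 LD2_c0 LD3_c58))))
theorem f230772 : Led Lsl_bt (LP (LK LD1_c18 LD2_c41 LD3_c28)) = (LP (LK LD1_c28 LD2_c12 LD3_c52)) :=
  Lre_b IH (LK LD1_c18 LD2_c41 LD3_c28) (LK LD1_c28 LD2_c12 LD3_c52) Lrfl Lrfl
theorem f250132 : Led Lsl_bt (LP (LK LD1_c27 LD2_c49 LD3_c16)) = (LP (LK LD1_c18 LD2_c8 LD3_c60)) :=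
  Lre_b IH (LK LD1_c27 LD2_c49 LD3_c16) (LK LD1_c18 LD2_c8 LD3_c60) Lrfl Lrfl
theorem f250133 : Led Lsl_ct (LP (LK LD1_c28 LD2_c12 LD3_c52)) = (LP (LK LD1_c27 LD2_c49 LD3_c16)) :=
  Lgr Lrot83 (Lpe (f230772 IH) (Lpe (K27.f230770 IH) (Lpr_bf (K27.f250123 IH) (Lpe (K27.f250131 IH) (Lpe (f250132 IH) (Lpn (LP (LK LD1_c27 LD2_c49 LD3_c16))))))))
theorem f250138 : Led Lsl_cf (LP (LK LD1_c28 LD2_c12 LD3_c52)) = (LP (LK LD1_c27 LD2_c49 LD3_c16)) :=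
  Lgr Lrot11 (Lpr_ct (f250133 IH) (Lpn (LP (LK LD1_c27 LD2_c49 LD3_c16))))
theorem f257660 : Led Lsl_bt (LP (LK LD1_c18 LD2_c12 LD3_c26)) = (LP (LK LD1_c9 LD2_c56 LD3_c53)) :=
  Lre_b IH (LK LD1_c18 LD2_c12 LD3_c26) (LK LD1_c9 LD2_c56 LD3_c53) Lrfl Lrfl
theorem f304232 : Led Lsl_ct (LP (LK LD1_c19 LD2_c0 LD3_c58)) = (LP (LK LD1_c18 LD2_c12 LD3_c26)) :=
  Lgr Lrot83 (Lpe (f304231 IH) (Lpr_cf (K18.f304229 IH) (Lpe (K22.f257649 IH) (Lpe (K27.f257654 IH) (Lpe (f257660 IH) (Lpn (LP (LK LD1_c18 LD2_c12 LD3_c26))))))))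
theorem f376909 : Led Lsl_ef (LP (LK LD1_c27 LD2_c49 LD3_c16)) = (LP (LK LD1_c18 LD2_c12 LD3_c26)) :=
  Lgr Lrot28 (Lpe (f250138 IH) (Lpr_et (f376907 IH) (Lpr_ct (f304232 IH) (Lpn (LP (LK LD1_c18 LD2_c12 LD3_c26))))))
theorem f250141 : Led Lsl_ft (LP (LK LD1_c27 LD2_c49 LD3_c16)) = (LP (LK LD1_c18 LD2_c8 LD3_c56)) :=
  Lre_f IH (LK LD1_c27 LD2_c49 LD3_c16) (LK LD1_c18 LD2_c8 LD3_c56) Lrfl Lrfl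
theorem f250153 : Led Lsl_et (LP (LK LD1_c18 LD2_c8 LD3_c56)) = (LP (LK LD1_c9 LD2_c54 LD3_c51)) :=
  Lre_e IH (LK LD1_c18 LD2_c8 LD3_c56) (LK LD1_c9 LD2_c54 LD3_c51) Lrfl Lrfl
theorem f251376 : Led Lsl_bt (LP (LK LD1_c9 LD2_c42 LD3_c23)) = (LP (LK LD1_c17 LD2_c51 LD3_c5)) :=
  Lre_b IH (LK LD1_c9 LD2_c42 LD3_c23) (LK LD1_c17 LD2_c51 LD3_c5) Lrfl Lrfl
theorem f364020 : Led Lsl_ft (LP (LK LD1_c17 LD2_c51 LD3_c5)) = (LP (LK LD1_c18 LD2_c12 LD3_c26)) :=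
  Lgr Lrot75 (Lpe (f251376 IH) (Lpr_ff (K26.f364018 IH) (Lpe (f257660 IH) (Lpn (LP (LK LD1_c18 LD2_c12 LD3_c26))))))
theorem f376914 : Led Lsl_ft (LP (LK LD1_c9 LD2_c54 LD3_c51)) = (LP (LK LD1_c10 LD2_c10 LD3_c52)) :=
  Lgr Lrot86 (Lpe (f250153 IH) (Lpe (f250141 IH) (Lpr_ef (f376909 IH) (Lpe (f364020 IH) (Lpe (K22.f251353 IH) (Lpn (LP (LK LD1_c10 LD2_c10 LD3_c52))))))))
theorem f250161 : Led Lsl_at (LP (LK LD1_c18 LD2_c8 LD3_c54)) = (LP (LK LD1_c9 LD2_c54 LD3_c51)) :=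
  Lre_a IH (LK LD1_c18 LD2_c8 LD3_c54) (LK LD1_c9 LD2_c54 LD3_c51) Lrfl Lrfl
theorem f186763 : Led Lsl_at (LP (LK LD1_c10 LD2_c10 LD3_c52)) = (LP (LK LD1_c18 LD2_c32 LD3_c47)) :=
  Lre_a IH (LK LD1_c10 LD2_c10 LD3_c52) (LK LD1_c18 LD2_c32 LD3_c47) Lrfl Lrfl
theorem f376917 : Led Lsl_ff (LP (LK LD1_c18 LD2_c8 LD3_c54)) = (LP (LK LD1_c18 LD2_c32 LD3_c47)) :=
  Lgr Lrot30 (Lpr_at (f250161 IH) (Lpr_ft (f376914 IH) (Lpr_at (f186763 IH) (Lpn (LP (LK LD1_c18 LD2_c32 LD3_c47))))))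
theorem f376932 : Led Lsl_gf (LP (LK LD1_c18 LD2_c8 LD3_c53)) = (LP (LK LD1_c18 LD2_c32 LD3_c47)) :=
  Lgr Lrot47 (Lpr_gt (f193137 IH) (Lpe (f250161 IH) (Lpr_ff (f376917 IH) (Lpn (LP (LK LD1_c18 LD2_c32 LD3_c47))))))
theorem f376927 : Led Lsl_et (LP (LK LD1_c18 LD2_c8 LD3_c54)) = (LP (LK LD1_c27 LD2_c49 LD3_c12)) :=
  Lre_e IH (LK LD1_c18 LD2_c8 LD3_c54) (LK LD1_c27 LD2_c49 LD3_c12) Lrfl Lrfl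
theorem f250143 : Led Lsl_ft (LP (LK LD1_c27 LD2_c49 LD3_c12)) = (LP (LK LD1_c32 LD2_c28 LD3_c41)) :=
  Lre_f IH (LK LD1_c27 LD2_c49 LD3_c12) (LK LD1_c32 LD2_c28 LD3_c41) Lrfl Lrfl
theorem f250137 : Led Lsl_at (LP (LK LD1_c27 LD2_c49 LD3_c16)) = (LP (LK LD1_c32 LD2_c28 LD3_c41)) :=
  Lre_a IH (LK LD1_c27 LD2_c49 LD3_c16) (LK LD1_c32 LD2_c28 LD3_c41) Lrfl Lrfl
theorem f257661 : Led Lsl_at (LP (LK LD1_c27 LD2_c53 LD3_c14)) = (LP (LK LD1_c18 LD2_c12 LD3_c26)) :=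
  Lre_a IH (LK LD1_c27 LD2_c53 LD3_c14) (LK LD1_c18 LD2_c12 LD3_c26) Lrfl Lrfl
theorem f376911 : Led Lsl_et (LP (LK LD1_c32 LD2_c28 LD3_c41)) = (LP (LK LD1_c27 LD2_c53 LD3_c14)) :=
  Lgr Lrot123 (Lpe (f250137 IH) (Lpr_ef (f376909 IH) (Lpe (f257661 IH) (Lpn (LP (LK LD1_c27 LD2_c53 LD3_c14))))))
theorem f186760 : Led Lsl_at (LP (LK LD1_c18 LD2_c32 LD3_c47)) = (LP (LK LD1_c10 LD2_c10 LD3_c52)) :=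
  Lre_a IH (LK LD1_c18 LD2_c32 LD3_c47) (LK LD1_c10 LD2_c10 LD3_c52) Lrfl Lrfl
theorem f251364 : Led Lsl_at (LP (LK LD1_c17 LD2_c51 LD3_c5)) = (LP (LK LD1_c27 LD2_c37 LD3_c60)) :=
  Lre_a IH (LK LD1_c17 LD2_c51 LD3_c5) (LK LD1_c27 LD2_c37 LD3_c60) Lrfl Lrfl
theorem f251365 : Led Lsl_ef (LP (LK LD1_c18 LD2_c32 LD3_c47)) = (LP (LK LD1_c27 LD2_c37 LD3_c60)) :=
  Lgr Lrot20 (Lpr_at (f186760 IH) (Lpr_et (K22.f251353 IH) (Lpr_at (f251364 IH) (Lpn (LP (LK LD1_c27 LD2_c37 LD3_c60))))))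
theorem f376928 : Led Lsl_ft (LP (LK LD1_c27 LD2_c53 LD3_c14)) = (LP (LK LD1_c27 LD2_c37 LD3_c60)) :=
  Lgr Lrot86 (Lpe (f376911 IH) (Lpe (f250143 IH) (Lpe (f376927 IH) (Lpr_ff (f376917 IH) (Lpr_ef (f251365 IH) (Lpn (LP (LK LD1_c27 LD2_c37 LD3_c60))))))))
theorem f376938 : Led Lsl_ff (LP (LK LD1_c27 LD2_c53 LD3_c14)) = (LP (LK LD1_c27 LD2_c37 LD3_c60)) :=
  Lgr Lrot3 (Lpr_ft (f376928 IH) (Lpn (LP (LK LD1_c27 LD2_c37 LD3_c60))))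
theorem f257658 : Led Lsl_bt (LP (LK LD1_c18 LD2_c9 LD3_c10)) = (LP (LK LD1_c27 LD2_c49 LD3_c31)) :=
  Lre_b IH (LK LD1_c18 LD2_c9 LD3_c10) (LK LD1_c27 LD2_c49 LD3_c31) Lrfl Lrfl
theorem f257659 : Led Lsl_at (LP (LK LD1_c27 LD2_c49 LD3_c31)) = (LP (LK LD1_c32 LD2_c28 LD3_c47)) :=
  Lre_a IH (LK LD1_c27 LD2_c49 LD3_c31) (LK LD1_c32 LD2_c28 LD3_c47) Lrfl Lrfl
theorem f257662 : Led Lsl_bt (LP (LK LD1_c32 LD2_c28 LD3_c47)) = (LP (LK LD1_c27 LD2_c53 LD3_c14)) :=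
  Lgr Lrot62 (Lpe (f257659 IH) (Lpe (f257658 IH) (Lpr_af (K22.f257652 IH) (Lpe (f257660 IH) (Lpe (f257661 IH) (Lpn (LP (LK LD1_c27 LD2_c53 LD3_c14))))))))
theorem f257666 : Led Lsl_bf (LP (LK LD1_c32 LD2_c28 LD3_c47)) = (LP (LK LD1_c27 LD2_c53 LD3_c14)) :=
  Lgr Lrot24 (Lpr_bt (f257662 IH) (Lpn (LP (LK LD1_c27 LD2_c53 LD3_c14))))
theorem f257673 : Led Lsl_ft (LP (LK LD1_c32 LD2_c28 LD3_c47)) = (LP (LK LD1_c27 LD2_c49 LD3_c27)) :=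
  Lre_f IH (LK LD1_c32 LD2_c28 LD3_c47) (LK LD1_c27 LD2_c49 LD3_c27) Lrfl Lrfl
theorem f376942 : Led Lsl_bt (LP (LK LD1_c27 LD2_c49 LD3_c27)) = (LP (LK LD1_c27 LD2_c37 LD3_c60)) :=
  Lgr Lrot35 (Lpe (f257673 IH) (Lpr_bf (f257666 IH) (Lpr_ff (f376938 IH) (Lpn (LP (LK LD1_c27 LD2_c37 LD3_c60))))))
theorem f263382 : Led Lsl_et (LP (LK LD1_c18 LD2_c9 LD3_c5)) = (LP (LK LD1_c27 LD2_c49 LD3_c27)) :=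
  Lre_e IH (LK LD1_c18 LD2_c9 LD3_c5) (LK LD1_c27 LD2_c49 LD3_c27) Lrfl Lrfl
theorem f376948 : Led Lsl_bf (LP (LK LD1_c18 LD2_c9 LD3_c5)) = (LP (LK LD1_c18 LD2_c32 LD3_c47)) :=
  Lgr Lrot96 (Lpr_et (f263382 IH) (Lpr_bt (f376942 IH) (Lpe (f251365 IH) (Lpn (LP (LK LD1_c18 LD2_c32 LD3_c47))))))
theorem f376950 : Led Lsl_bt (LP (LK LD1_c18 LD2_c9 LD3_c5)) = (LP (LK LD1_c18 LD2_c32 LD3_c47)) :=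
  Lgr Lrot127 (Lpr_bf (f376948 IH) (Lpn (LP (LK LD1_c18 LD2_c32 LD3_c47))))
theorem f263372 : Led Lsl_ct (LP (LK LD1_c18 LD2_c9 LD3_c5)) = (LP (LK LD1_c27 LD2_c49 LD3_c26)) :=
  Lre_c IH (LK LD1_c18 LD2_c9 LD3_c5) (LK LD1_c27 LD2_c49 LD3_c26) Lrfl Lrfl
theorem f191775 : Led Lsl_bt (LP (LK LD1_c5 LD2_c17 LD3_c21)) = (LP (LK LD1_c9 LD2_c39 LD3_c20)) :=
  Lgr Lrot95 (Lpe (K27.f32958 IH) (Lpe (K17.f191774 IH) (Lpr_df (K16.f191771 IH) (Lpn (LP (LK LD1_c9 LD2_c39 LD3_c20))))))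
theorem f363889 : Led Lsl_af (LP (LK LD1_c2 LD2_c32 LD3_c7)) = (LP (LK LD1_c2 LD2_c28 LD3_c40)) :=
  Lgr Lrot117 (Lpr_dt (K15.f248042 IH) (Lpr_at (K26.f363883 IH) (Lpe (K14.f251626 IH) (Lpn (LP (LK LD1_c2 LD2_c28 LD3_c40))))))
theorem f366611 : Led Lsl_af (LP (LK LD1_c5 LD2_c17 LD3_c21)) = (LP (LK LD1_c5 LD2_c8 LD3_c28)) :=
  Lgr Lrot36 (Lpr_bt (f191775 IH) (Lpr_at (K27.f366609 IH) (Lpe (K14.f250060 IH) (Lpe (f363889 IH) (Lpr_bt (K14.f247995 IH) (Lpn (LP (LK LD1_c5 LD2_c8 LD3_c28))))))))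
theorem f367878 : Led Lsl_ff (LP (LK LD1_c5 LD2_c8 LD3_c28)) = (LP (LK LD1_c5 LD2_c2 LD3_c6)) :=
  Lgr Lrot30 (Lpe (f366611 IH) (Lpr_ft (K27.f367876 IH) (Lpe (K27.f367872 IH) (Lpn (LP (LK LD1_c5 LD2_c2 LD3_c6))))))
theorem f260634 : Led Lsl_ct (LP (LK LD1_c5 LD2_c8 LD3_c28)) = (LP (LK LD1_c5 LD2_c15 LD3_c23)) :=
  Lgr Lrot63 (Lpe (K37.f247997 IH) (Lpr_gt (K14.f189551 IH) (Lpe (K10.f186730 IH) (Lpr_ct (K10.f185396 IH) (Lpe (K14.f186771 IH) (Lpe (K10.f180532 IH) (Lpr_bt (K17.f180579 IH) (Lpr_gt (K15.f260628 IH) (Lpr_ct (K15.f32880 IH) (Lpr_gt (K15.f47783 IH) (Lpn (LP (LK LD1_c5 LD2_c15 LD3_c23)))))))))))))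
theorem f376873 : Led Lsl_ft (LP (LK LD1_c5 LD2_c15 LD3_c23)) = (LP (LK LD1_c9 LD2_c54 LD3_c57)) :=
  Lgr Lrot4 (Lpe (f260634 IH) (Lpr_ff (f367878 IH) (Lpe (K15.f252977 IH) (Lpn (LP (LK LD1_c9 LD2_c54 LD3_c57))))))
theorem f376877 : Led Lsl_ff (LP (LK LD1_c5 LD2_c15 LD3_c23)) = (LP (LK LD1_c9 LD2_c54 LD3_c57)) :=
  Lgr Lrot3 (Lpr_ft (f376873 IH) (Lpn (LP (LK LD1_c9 LD2_c54 LD3_c57))))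
theorem f264944 : Led Lsl_bt (LP (LK LD1_c5 LD2_c15 LD3_c23)) = (LP (LK LD1_c10 LD2_c20 LD3_c5)) :=
  Lre_b IH (LK LD1_c5 LD2_c15 LD3_c23) (LK LD1_c10 LD2_c20 LD3_c5) Lrfl Lrfl
theorem f252978 : Led Lsl_bt (LP (LK LD1_c18 LD2_c9 LD3_c2)) = (LP (LK LD1_c9 LD2_c54 LD3_c57)) :=
  Lre_b IH (LK LD1_c18 LD2_c9 LD3_c2) (LK LD1_c9 LD2_c54 LD3_c57) Lrfl Lrfl
theorem f376879 : Led Lsl_ft (LP (LK LD1_c10 LD2_c20 LD3_c5)) = (LP (LK LD1_c18 LD2_c9 LD3_c2)) :=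
  Lgr Lrot75 (Lpe (f264944 IH) (Lpr_ff (f376877 IH) (Lpe (f252978 IH) (Lpn (LP (LK LD1_c18 LD2_c9 LD3_c2))))))
theorem f263377 : Led Lsl_at (LP (LK LD1_c18 LD2_c9 LD3_c2)) = (LP (LK LD1_c27 LD2_c49 LD3_c26)) :=
  Lre_a IH (LK LD1_c18 LD2_c9 LD3_c2) (LK LD1_c27 LD2_c49 LD3_c26) Lrfl Lrfl
theorem f376884 : Led Lsl_gt (LP (LK LD1_c18 LD2_c45 LD3_c36)) = (LP (LK LD1_c27 LD2_c49 LD3_c26)) :=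
  Lgr Lrot46 (Lpe (K37.f264950 IH) (Lpr_ft (f376879 IH) (Lpr_at (f263377 IH) (Lpn (LP (LK LD1_c27 LD2_c49 LD3_c26))))))
theorem f186626 : Led Lsl_gt (LP (LK LD1_c9 LD2_c57 LD3_c27)) = (LP (LK LD1_c18 LD2_c13 LD3_c13)) :=
  Lre_g IH (LK LD1_c9 LD2_c57 LD3_c27) (LK LD1_c18 LD2_c13 LD3_c13) Lrfl Lrfl
theorem f343467 : Led Lsl_gt (LP (LK LD1_c18 LD2_c13 LD3_c13)) = (LP (LK LD1_c18 LD2_c35 LD3_c19)) :=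
  Lgr Lrot46 (Lpe (f186626 IH) (Lpr_ft (K37.f343455 IH) (Lpr_at (K37.f343454 IH) (Lpn (LP (LK LD1_c18 LD2_c35 LD3_c19))))))
theorem f584459 : Led Lsl_bt (LP (LK LD1_c17 LD2_c47 LD3_c0)) = (LP (LK LD1_c18 LD2_c13 LD3_c13)) :=
  Lgr Lrot130 (Lpr_ct (f300226 IH) (Lpe (f544717 IH) (Lpe (f230061 IH) (Lpr_bt (f584450 IH) (Lpr_gf (f376932 IH) (Lpe (f376950 IH) (Lpr_ct (f263372 IH) (Lpe (f376884 IH) (Lpe (K37.f544824 IH) (Lpe (f343467 IH) (Lpn (LP (LK LD1_c18 LD2_c13 LD3_c13)))))))))))))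
theorem f249530 : Led Lsl_bt (LP (LK LD1_c5 LD2_c3 LD3_c19)) = (LP (LK LD1_c9 LD2_c57 LD3_c27)) :=
  Lre_b IH (LK LD1_c5 LD2_c3 LD3_c19) (LK LD1_c9 LD2_c57 LD3_c27) Lrfl Lrfl
theorem f212372 : Led Lsl_ct (LP (LK LD1_c17 LD2_c47 LD3_c32)) = (LP (LK LD1_c27 LD2_c34 LD3_c38)) :=
  Lre_c IH (LK LD1_c17 LD2_c47 LD3_c32) (LK LD1_c27 LD2_c34 LD3_c38) Lrfl Lrfl
theorem f584466 : Led Lsl_gt (LP (LK LD1_c27 LD2_c33 LD3_c48)) = (LP (LK LD1_c27 LD2_c34 LD3_c38)) :=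
  Lgr Lrot65 (Lpe (f300226 IH) (Lpr_bt (f584459 IH) (Lpe (f186626 IH) (Lpe (f249530 IH) (Lpe (K15.f257435 IH) (Lpe (K14.f255879 IH) (Lpr_cf (K14.f248239 IH) (Lpr_gf (K14.f255903 IH) (Lpe (f212410 IH) (Lpr_ct (f212372 IH) (Lpn (LP (LK LD1_c27 LD2_c34 LD3_c38)))))))))))))
theorem f299799 : Led Lsl_at (LP (LK LD1_c17 LD2_c47 LD3_c1)) = (LP (LK LD1_c9 LD2_c40 LD3_c7)) :=
  Lre_a IH (LK LD1_c17 LD2_c47 LD3_c1) (LK LD1_c9 LD2_c40 LD3_c7) Lrfl Lrfl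
theorem f300224 : Led Lsl_gt (LP (LK LD1_c17 LD2_c45 LD3_c53)) = (LP (LK LD1_c17 LD2_c47 LD3_c0)) :=
  Lgr Lrot5 (Lpr_ft (K18.f300215 IH) (Lpr_at (f299799 IH) (Lpe (f249527 IH) (Lpn (LP (LK LD1_c17 LD2_c47 LD3_c0))))))
theorem f289900 : Led Lsl_at (LP (LK LD1_c5 LD2_c2 LD3_c11)) = (LP (LK LD1_c9 LD2_c55 LD3_c9)) :=
  Lre_a IH (LK LD1_c5 LD2_c2 LD3_c11) (LK LD1_c9 LD2_c55 LD3_c9) Lrfl Lrfl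
theorem f289902 : Led Lsl_bt (LP (LK LD1_c9 LD2_c55 LD3_c9)) = (LP (LK LD1_c17 LD2_c45 LD3_c53)) :=
  Lgr Lrot62 (Lpe (f289900 IH) (Lpe (f216147 IH) (Lpr_af (K17.f289896 IH) (Lpe (K18.f258947 IH) (Lpe (K18.f289901 IH) (Lpn (LP (LK LD1_c17 LD2_c45 LD3_c53))))))))
theorem f288287 : Led Lsl_ff (LP (LK LD1_c2 LD2_c32 LD3_c0)) = (LP (LK LD1_c2 LD2_c29 LD3_c5)) :=
  Lgr Lrot25 (Lpr_bt (f180575 IH) (Lpr_ft (K17.f288285 IH) (Lpr_bt (K18.f164127 IH) (Lpn (LP (LK LD1_c2 LD2_c29 LD3_c5))))))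
theorem f164128 : Led Lsl_gt (LP (LK LD1_c2 LD2_c29 LD3_c5)) = (LP (LK LD1_c5 LD2_c3 LD3_c4)) :=
  Lre_g IH (LK LD1_c2 LD2_c29 LD3_c5) (LK LD1_c5 LD2_c3 LD3_c4) Lrfl Lrfl
theorem f408323 : Led Lsl_gf (LP (LK LD1_c5 LD2_c9 LD3_c56)) = (LP (LK LD1_c5 LD2_c3 LD3_c4)) :=
  Lgr Lrot76 (Lpe (K18.f288232 IH) (Lpr_ff (f288287 IH) (Lpr_gt (f164128 IH) (Lpn (LP (LK LD1_c5 LD2_c3 LD3_c4))))))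
theorem f299872 : Led Lsl_bt (LP (LK LD1_c5 LD2_c2 LD3_c35)) = (LP (LK LD1_c5 LD2_c9 LD3_c56)) :=
  Lgr Lrot35 (Lpe (f299714 IH) (Lpr_bf (K18.f288266 IH) (Lpr_ff (K18.f299862 IH) (Lpn (LP (LK LD1_c5 LD2_c9 LD3_c56))))))
theorem f299668 : Led Lsl_ct (LP (LK LD1_c5 LD2_c2 LD3_c35)) = (LP (LK LD1_c9 LD2_c55 LD3_c9)) :=
  Lre_c IH (LK LD1_c5 LD2_c2 LD3_c35) (LK LD1_c9 LD2_c55 LD3_c9) Lrfl Lrfl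
theorem f299655 : Led Lsl_at (LP (LK LD1_c10 LD2_c11 LD3_c2)) = (LP (LK LD1_c5 LD2_c10 LD3_c9)) :=
  Lre_a IH (LK LD1_c10 LD2_c11 LD3_c2) (LK LD1_c5 LD2_c10 LD3_c9) Lrfl Lrfl
theorem f299656 : Led Lsl_ff (LP (LK LD1_c10 LD2_c11 LD3_c2)) = (LP (LK LD1_c9 LD2_c55 LD3_c9)) :=
  Lgr Lrot30 (Lpr_at (f299655 IH) (Lpr_ft (K18.f299640 IH) (Lpr_at (f289900 IH) (Lpn (LP (LK LD1_c9 LD2_c55 LD3_c9))))))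
theorem f406783 : Led Lsl_gt (LP (LK LD1_c10 LD2_c11 LD3_c1)) = (LP (LK LD1_c5 LD2_c10 LD3_c9)) :=
  Lre_g IH (LK LD1_c10 LD2_c11 LD3_c1) (LK LD1_c5 LD2_c10 LD3_c9) Lrfl Lrfl
theorem f406784 : Led Lsl_gf (LP (LK LD1_c10 LD2_c11 LD3_c1)) = (LP (LK LD1_c9 LD2_c55 LD3_c9)) :=
  Lgr Lrot47 (Lpr_gt (f406783 IH) (Lpe (f299655 IH) (Lpr_ff (f299656 IH) (Lpn (LP (LK LD1_c9 LD2_c55 LD3_c9))))))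
theorem f169630 : Led Lsl_bt (LP (LK LD1_c9 LD2_c56 LD3_c58)) = (LP (LK LD1_c5 LD2_c3 LD3_c4)) :=
  Lre_b IH (LK LD1_c9 LD2_c56 LD3_c58) (LK LD1_c5 LD2_c3 LD3_c4) Lrfl Lrfl
theorem f169825 : Led Lsl_bt (LP (LK LD1_c2 LD2_c30 LD3_c4)) = (LP (LK LD1_c1 LD2_c12 LD3_c2)) :=
  Lre_b IH (LK LD1_c2 LD2_c30 LD3_c4) (LK LD1_c1 LD2_c12 LD3_c2) Lrfl Lrfl
theorem f169834 : Led Lsl_ct (LP (LK LD1_c2 LD2_c30 LD3_c4)) = (LP (LK LD1_c5 LD2_c5 LD3_c24)) :=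
  Lre_c IH (LK LD1_c2 LD2_c30 LD3_c4) (LK LD1_c5 LD2_c5 LD3_c24) Lrfl Lrfl
theorem f177317 : Led Lsl_gt (LP (LK LD1_c10 LD2_c1 LD3_c55)) = (LP (LK LD1_c5 LD2_c5 LD3_c24)) :=
  Lre_g IH (LK LD1_c10 LD2_c1 LD3_c55) (LK LD1_c5 LD2_c5 LD3_c24) Lrfl Lrfl
theorem f177318 : Led Lsl_ct (LP (LK LD1_c9 LD2_c56 LD3_c58)) = (LP (LK LD1_c10 LD2_c1 LD3_c55)) :=
  Lgr Lrot64 (Lpr_bt (f169630 IH) (Lpe (f164128 IH) (Lpe (K18.f164127 IH) (Lpr_ct (K9.f28367 IH) (Lpe (K9.f169610 IH) (Lpe (K9.f165286 IH) (Lpr_gf (K9.f177309 IH) (Lpe (f169825 IH) (Lpr_ct (f169834 IH) (Lpe (f177317 IH) (Lpn (LP (LK LD1_c10 LD2_c1 LD3_c55)))))))))))))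
theorem f299486 : Led Lsl_at (LP (LK LD1_c10 LD2_c1 LD3_c56)) = (LP (LK LD1_c5 LD2_c5 LD3_c24)) :=
  Lre_a IH (LK LD1_c10 LD2_c1 LD3_c56) (LK LD1_c5 LD2_c5 LD3_c24) Lrfl Lrfl
theorem f302243 : Led Lsl_gt (LP (LK LD1_c10 LD2_c16 LD3_c40)) = (LP (LK LD1_c10 LD2_c1 LD3_c55)) :=
  Lgr Lrot5 (Lpr_ft (K18.f302235 IH) (Lpr_at (f299486 IH) (Lpe (f177317 IH) (Lpn (LP (LK LD1_c10 LD2_c1 LD3_c55))))))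
theorem f300644 : Led Lsl_ct (LP (LK LD1_c5 LD2_c13 LD3_c18)) = (LP (LK LD1_c10 LD2_c16 LD3_c40)) :=
  Lre_c IH (LK LD1_c5 LD2_c13 LD3_c18) (LK LD1_c10 LD2_c16 LD3_c40) Lrfl Lrfl
theorem f169441 : Led Lsl_gt (LP (LK LD1_c2 LD2_c30 LD3_c4)) = (LP (LK LD1_c5 LD2_c5 LD3_c40)) :=
  Lre_g IH (LK LD1_c2 LD2_c30 LD3_c4) (LK LD1_c5 LD2_c5 LD3_c40) Lrfl Lrfl
theorem f302215 : Led Lsl_gf (LP (LK LD1_c5 LD2_c13 LD3_c18)) = (LP (LK LD1_c5 LD2_c5 LD3_c40)) :=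
  Lgr Lrot76 (Lpe (K18.f185409 IH) (Lpr_ff (K18.f302198 IH) (Lpr_gt (f169441 IH) (Lpn (LP (LK LD1_c5 LD2_c5 LD3_c40))))))
theorem f302218 : Led Lsl_bt (LP (LK LD1_c10 LD2_c2 LD3_c24)) = (LP (LK LD1_c5 LD2_c5 LD3_c40)) :=
  Lre_b IH (LK LD1_c10 LD2_c2 LD3_c24) (LK LD1_c5 LD2_c5 LD3_c40) Lrfl Lrfl
theorem f408329 : Led Lsl_cf (LP (LK LD1_c10 LD2_c11 LD3_c1)) = (LP (LK LD1_c10 LD2_c2 LD3_c24)) :=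
  Lgr Lrot58 (Lpr_gf (f406784 IH) (Lpe (f299668 IH) (Lpr_bt (f299872 IH) (Lpr_gf (f408323 IH) (Lpe (f169630 IH) (Lpr_ct (f177318 IH) (Lpe (f302243 IH) (Lpe (f300644 IH) (Lpr_gf (f302215 IH) (Lpe (f302218 IH) (Lpn (LP (LK LD1_c10 LD2_c2 LD3_c24)))))))))))))
theorem f198607 : Led Lsl_bt (LP (LK LD1_c5 LD2_c6 LD3_c20)) = (LP (LK LD1_c2 LD2_c30 LD3_c26)) :=
  Lre_b IH (LK LD1_c5 LD2_c6 LD3_c20) (LK LD1_c2 LD2_c30 LD3_c26) Lrfl Lrfl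
theorem f304336 : Led Lsl_at (LP (LK LD1_c10 LD2_c3 LD3_c43)) = (LP (LK LD1_c5 LD2_c6 LD3_c20)) :=
  Lre_a IH (LK LD1_c10 LD2_c3 LD3_c43) (LK LD1_c5 LD2_c6 LD3_c20) Lrfl Lrfl
theorem f185043 : Led Lsl_bt (LP (LK LD1_c2 LD2_c33 LD3_c30)) = (LP (LK LD1_c5 LD2_c13 LD3_c19)) :=
  Lre_b IH (LK LD1_c2 LD2_c33 LD3_c30) (LK LD1_c5 LD2_c13 LD3_c19) Lrfl Lrfl
theorem f304337 : Led Lsl_at (LP (LK LD1_c5 LD2_c13 LD3_c19)) = (LP (LK LD1_c10 LD2_c16 LD3_c58)) :=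
  Lre_a IH (LK LD1_c5 LD2_c13 LD3_c19) (LK LD1_c10 LD2_c16 LD3_c58) Lrfl Lrfl
theorem f304338 : Led Lsl_bf (LP (LK LD1_c10 LD2_c3 LD3_c43)) = (LP (LK LD1_c10 LD2_c16 LD3_c58)) :=
  Lgr Lrot81 (Lpr_at (f304336 IH) (Lpr_bt (f198607 IH) (Lpr_at (K20.f304332 IH) (Lpr_bt (f185043 IH) (Lpr_at (f304337 IH) (Lpn (LP (LK LD1_c10 LD2_c16 LD3_c58))))))))
theorem f300647 : Led Lsl_et (LP (LK LD1_c10 LD2_c3 LD3_c43)) = (LP (LK LD1_c5 LD2_c6 LD3_c19)) :=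
  Lre_e IH (LK LD1_c10 LD2_c3 LD3_c43) (LK LD1_c5 LD2_c6 LD3_c19) Lrfl Lrfl
theorem f304396 : Led Lsl_et (LP (LK LD1_c5 LD2_c13 LD3_c18)) = (LP (LK LD1_c10 LD2_c16 LD3_c58)) :=
  Lre_e IH (LK LD1_c5 LD2_c13 LD3_c18) (LK LD1_c10 LD2_c16 LD3_c58) Lrfl Lrfl
theorem f304397 : Led Lsl_bt (LP (LK LD1_c5 LD2_c6 LD3_c19)) = (LP (LK LD1_c5 LD2_c13 LD3_c18)) :=
  Lgr Lrot119 (Lpe (f300647 IH) (Lpr_bf (f304338 IH) (Lpe (f304396 IH) (Lpn (LP (LK LD1_c5 LD2_c13 LD3_c18))))))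
theorem f300429 : Led Lsl_at (LP (LK LD1_c10 LD2_c14 LD3_c55)) = (LP (LK LD1_c5 LD2_c12 LD3_c3)) :=
  Lre_a IH (LK LD1_c10 LD2_c14 LD3_c55) (LK LD1_c5 LD2_c12 LD3_c3) Lrfl Lrfl
theorem f186794 : Led Lsl_gt (LP (LK LD1_c10 LD2_c14 LD3_c54)) = (LP (LK LD1_c5 LD2_c12 LD3_c3)) :=
  Lre_g IH (LK LD1_c10 LD2_c14 LD3_c54) (LK LD1_c5 LD2_c12 LD3_c3) Lrfl Lrfl
theorem f300597 : Led Lsl_gf (LP (LK LD1_c10 LD2_c14 LD3_c54)) = (LP (LK LD1_c10 LD2_c3 LD3_c20)) :=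
  Lgr Lrot47 (Lpr_gt (f186794 IH) (Lpe (f300429 IH) (Lpr_ff (K18.f300590 IH) (Lpn (LP (LK LD1_c10 LD2_c3 LD3_c20))))))
theorem f186793 : Led Lsl_ct (LP (LK LD1_c2 LD2_c32 LD3_c58)) = (LP (LK LD1_c5 LD2_c12 LD3_c3)) :=
  Lre_c IH (LK LD1_c2 LD2_c32 LD3_c58) (LK LD1_c5 LD2_c12 LD3_c3) Lrfl Lrfl
theorem f185400 : Led Lsl_bt (LP (LK LD1_c1 LD2_c13 LD3_c6)) = (LP (LK LD1_c2 LD2_c32 LD3_c11)) :=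
  Lre_b IH (LK LD1_c1 LD2_c13 LD3_c6) (LK LD1_c2 LD2_c32 LD3_c11) Lrfl Lrfl
theorem f185401 : Led Lsl_gt (LP (LK LD1_c2 LD2_c32 LD3_c11)) = (LP (LK LD1_c5 LD2_c10 LD3_c16)) :=
  Lre_g IH (LK LD1_c2 LD2_c32 LD3_c11) (LK LD1_c5 LD2_c10 LD3_c16) Lrfl Lrfl
theorem f185407 : Led Lsl_bt (LP (LK LD1_c10 LD2_c11 LD3_c15)) = (LP (LK LD1_c5 LD2_c10 LD3_c16)) :=
  Lre_b IH (LK LD1_c10 LD2_c11 LD3_c15) (LK LD1_c5 LD2_c10 LD3_c16) Lrfl Lrfl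
theorem f186795 : Led Lsl_cf (LP (LK LD1_c10 LD2_c14 LD3_c54)) = (LP (LK LD1_c10 LD2_c11 LD3_c15)) :=
  Lgr Lrot160 (Lpr_gt (f186794 IH) (Lpe (f186793 IH) (Lpr_bt (f186790 IH) (Lpr_gt (K10.f186784 IH) (Lpr_ct (K10.f22029 IH) (Lpe (K10.f185354 IH) (Lpe (K10.f185399 IH) (Lpr_bt (f185400 IH) (Lpr_gt (f185401 IH) (Lpe (f185407 IH) (Lpn (LP (LK LD1_c10 LD2_c11 LD3_c15)))))))))))))
theorem f408341 : Led Lsl_gf (LP (LK LD1_c5 LD2_c2 LD3_c35)) = (LP (LK LD1_c5 LD2_c10 LD3_c16)) :=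
  Lgr Lrot181 (Lpr_ct (f299668 IH) (Lpe (f406784 IH) (Lpr_cf (f408329 IH) (Lpr_bt (f302218 IH) (Lpe (f302215 IH) (Lpe (f304397 IH) (Lpr_ct (K18.f300577 IH) (Lpe (f300597 IH) (Lpr_cf (f186795 IH) (Lpr_bt (f185407 IH) (Lpn (LP (LK LD1_c5 LD2_c10 LD3_c16)))))))))))))
theorem f186803 : Led Lsl_ct (LP (LK LD1_c10 LD2_c11 LD3_c16)) = (LP (LK LD1_c5 LD2_c10 LD3_c16)) :=
  Lre_c IH (LK LD1_c10 LD2_c11 LD3_c16) (LK LD1_c5 LD2_c10 LD3_c16) Lrfl Lrfl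
theorem f584468 : Led Lsl_bt (LP (LK LD1_c10 LD2_c11 LD3_c16)) = (LP (LK LD1_c10 LD2_c10 LD3_c55)) :=
  Lgr Lrot92 (Lpr_ct (f186803 IH) (Lpe (f408341 IH) (Lpe (K18.f299670 IH) (Lpr_bt (f289902 IH) (Lpr_gt (f300224 IH) (Lpr_ct (f300226 IH) (Lpr_gt (f584466 IH) (Lpe (f212372 IH) (Lpr_bt (f212410 IH) (Lpe (K14.f255903 IH) (Lpn (LP (LK LD1_c10 LD2_c10 LD3_c55)))))))))))))
theorem f185402 : Led Lsl_ct (LP (LK LD1_c5 LD2_c10 LD3_c16)) = (LP (LK LD1_c10 LD2_c11 LD3_c16)) :=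
  Lre_c IH (LK LD1_c5 LD2_c10 LD3_c16) (LK LD1_c10 LD2_c11 LD3_c16) Lrfl Lrfl
def v454 : LQ := Led Lsl_bt (LP (LK LD1_c0 LD2_c39 LD3_c33))
theorem f452941 : Led Lsl_bt (LP (LK LD1_c0 LD2_c39 LD3_c33)) = v454 :=
  Lrfl
def v3041 : LQ := Led Lsl_bt K35.v453
theorem f536604 : Led Lsl_bt K35.v453 = v3041 :=
  Lrfl
theorem f452942 : Led Lsl_bf (LP (LK LD1_c0 LD2_c39 LD3_c33)) = v454 :=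
  Lgr Lrot24 (Lpr_bt (f452941 IH) (Lpn v454))
theorem f536606 : Led Lsl_cf v454 = v3041 :=
  Lgr Lrot97 (Lpe (f452942 IH) (Lpr_ct (K9.f20577 IH) (Lpr_bt (K35.f169099 IH) (Lpr_ct (K35.f452938 IH) (Lpr_bt (f536604 IH) (Lpn v3041))))))
def v2918 : LQ := Led Lsl_et K35.v398
theorem f536185 : Led Lsl_et K35.v398 = v2918 :=
  Lrfl
theorem f536629 : K35.v1405 = v2918 :=
  Lefun (Lecon (Lfl_ef (K35.f495753 IH)) (K35.f536620 IH)) (f536185 IH)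
theorem f452641 : Led Lsl_ct K35.v397 = K35.v398 :=
  Lgr Lrot7 (Lpe (K35.f452631 IH) (Lpr_gf (K1.f37149 IH) (Lpr_df (K35.f448924 IH) (Lpr_gf (K35.f452615 IH) (Lpe (K35.f452617 IH) (Lpe (K35.f452406 IH) (Lpr_dt (K35.f37096 IH) (Lpr_gt (K11.f37277 IH) (Lpr_dt (K35.f452636 IH) (Lpn K35.v398))))))))))
theorem f452635 : Led Lsl_at K35.v397 = K35.v397 :=
  Lgr Lrot51 (Lpe (K35.f452631 IH) (Lpr_af (K1.f37126 IH) (Lpr_df (K35.f452632 IH) (Lpn K35.v397))))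
theorem f452643 : Led Lsl_af K35.v398 = K35.v398 :=
  Lgr Lrot68 (Lpe (K35.f452639 IH) (Lpr_at (f452635 IH) (Lpr_ct (f452641 IH) (Lpn K35.v398))))
theorem f452644 : Led Lsl_ft K35.v397 = K35.v398 :=
  Lgr Lrot142 (Lpe (K35.f452632 IH) (Lpr_ct (K1.f37113 IH) (Lpe (K1.f37108 IH) (Lpr_ct (K0.f8268 IH) (Lpr_dt (K1.f37105 IH) (Lpr_ct (K1.f37107 IH) (Lpr_dt (K35.f452631 IH) (Lpr_ct (f452641 IH) (Lpr_af (f452643 IH) (Lpn K35.v398))))))))))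
theorem f536669 : K35.v398 = (LP (LK LD1_c1 LD2_c12 LD3_c46)) :=
  Lefun (Lecon (f452644 IH) (K35.f536628 IH).symm) (K35.f396365 IH)
theorem f536740 : v2918 = (LP (LK LD1_c0 LD2_c33 LD3_c43)) :=
  Lefun (Lecon (f536185 IH) (f536669 IH)) (K35.f37152 IH)
theorem f536852 : K35.v453 = (LP (LK LD1_c0 LD2_c33 LD3_c46)) :=
  Lefun (Lecon (Lfl_gf (K35.f495393 IH)) ((f536629 IH).trans (f536740 IH))) (K20.f165469 IH)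
theorem f537070 : v3041 = (LP (LK LD1_c0 LD2_c15 LD3_c24)) :=
  Lefun (Lecon (f536604 IH) (f536852 IH)) (K20.f163713 IH)
theorem f537201 : v454 = (LP (LK LD1_c0 LD2_c34 LD3_c20)) :=
  Lefun (Lecon (Lfl_cf (f536606 IH)) (f537070 IH)) (K8.f163648 IH)
theorem f248841 : Led Lsl_bt (LP (LK LD1_c2 LD2_c29 LD3_c15)) = (LP (LK LD1_c5 LD2_c3 LD3_c27)) :=
  Lre_b IH (LK LD1_c2 LD2_c29 LD3_c15) (LK LD1_c5 LD2_c3 LD3_c27) Lrfl Lrfl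
theorem f249933 : Led Lsl_gt (LP (LK LD1_c5 LD2_c3 LD3_c27)) = (LP (LK LD1_c9 LD2_c57 LD3_c50)) :=
  Lre_g IH (LK LD1_c5 LD2_c3 LD3_c27) (LK LD1_c9 LD2_c57 LD3_c50) Lrfl Lrfl
theorem f584478 : Led Lsl_df (LP (LK LD1_c5 LD2_c10 LD3_c16)) = (LP (LK LD1_c9 LD2_c57 LD3_c50)) :=
  Lgr Lrot183 (Lpr_ct (f185402 IH) (Lpr_bt (f584468 IH) (Lpr_gt (K15.f255901 IH) (Lpr_dt (K15.f43746 IH) (Lpr_ct (K15.f193107 IH) (Lpr_bt (K15.f247720 IH) (Lpe (K15.f259994 IH) (Lpr_dt (K1.f27861 IH) (Lpe (K1.f27852 IH) (Lpr_bt (K1.f45814 IH) (Lpr_gt (K0.f9080 IH) (Lpr_dt (K9.f9081 IH) (Lpr_ct (K9.f45992 IH) (Lpr_bt (f452941 IH) (Lpqs (f537201 IH) (Lpe (K9.f163639 IH) (Lpr_dt (K10.f53189 IH) (Lpr_ct (K14.f249915 IH) (Lpr_bt (f248841 IH) (Lpr_gt (f249933 IH) (Lpn (LP (LK LD1_c9 LD2_c57 LD3_c50)))))))))))))))))))))))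
theorem f584482 : Led Lsl_dt (LP (LK LD1_c5 LD2_c10 LD3_c16)) = (LP (LK LD1_c9 LD2_c57 LD3_c50)) :=
  Lgr Lrot42 (Lpr_df (f584478 IH) (Lpn (LP (LK LD1_c9 LD2_c57 LD3_c50))))
theorem f186736 : Led Lsl_ct (LP (LK LD1_c2 LD2_c32 LD3_c11)) = (LP (LK LD1_c5 LD2_c10 LD3_c9)) :=
  Lre_c IH (LK LD1_c2 LD2_c32 LD3_c11) (LK LD1_c5 LD2_c10 LD3_c9) Lrfl Lrfl
theorem f181073 : Led Lsl_bt (LP (LK LD1_c5 LD2_c11 LD3_c0)) = (LP (LK LD1_c2 LD2_c32 LD3_c30)) :=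
  Lre_b IH (LK LD1_c5 LD2_c11 LD3_c0) (LK LD1_c2 LD2_c32 LD3_c30) Lrfl Lrfl
theorem f248842 : Led Lsl_ft (LP (LK LD1_c5 LD2_c3 LD3_c27)) = (LP (LK LD1_c5 LD2_c11 LD3_c0)) :=
  Lgr Lrot75 (Lpe (f248841 IH) (Lpr_ff (K14.f248839 IH) (Lpe (f181073 IH) (Lpn (LP (LK LD1_c5 LD2_c11 LD3_c0))))))
theorem f301749 : Led Lsl_at (LP (LK LD1_c5 LD2_c11 LD3_c0)) = (LP (LK LD1_c10 LD2_c12 LD3_c40)) :=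
  Lre_a IH (LK LD1_c5 LD2_c11 LD3_c0) (LK LD1_c10 LD2_c12 LD3_c40) Lrfl Lrfl
theorem f417603 : Led Lsl_gt (LP (LK LD1_c9 LD2_c57 LD3_c50)) = (LP (LK LD1_c10 LD2_c12 LD3_c40)) :=
  Lgr Lrot46 (Lpe (f249933 IH) (Lpr_ft (f248842 IH) (Lpr_at (f301749 IH) (Lpn (LP (LK LD1_c10 LD2_c12 LD3_c40))))))
theorem f343338 : Led Lsl_dt (LP (LK LD1_c10 LD2_c12 LD3_c40)) = (LP (LK LD1_c5 LD2_c10 LD3_c61)) :=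
  Lre_d IH (LK LD1_c10 LD2_c12 LD3_c40) (LK LD1_c5 LD2_c10 LD3_c61) Lrfl Lrfl
theorem f584489 : Led Lsl_dt (LP (LK LD1_c10 LD2_c11 LD3_c0)) = (LP (LK LD1_c18 LD2_c13 LD3_c13)) :=
  Lgr Lrot57 (Lpe (K37.f186737 IH) (Lpe (f186736 IH) (Lpr_gt (f185401 IH) (Lpr_dt (f584482 IH) (Lpr_gt (f417603 IH) (Lpr_dt (f343338 IH) (Lpe (K37.f343334 IH) (Lpe (K37.f343439 IH) (Lpe (f343467 IH) (Lpn (LP (LK LD1_c18 LD2_c13 LD3_c13))))))))))))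
theorem f299665 : Led Lsl_gt (LP (LK LD1_c10 LD2_c11 LD3_c0)) = (LP (LK LD1_c9 LD2_c55 LD3_c9)) :=
  Lgr Lrot46 (Lpe (K37.f186737 IH) (Lpr_ft (K18.f299640 IH) (Lpr_at (f289900 IH) (Lpn (LP (LK LD1_c9 LD2_c55 LD3_c9))))))
theorem f257054 : Led Lsl_gt (LP (LK LD1_c5 LD2_c10 LD3_c17)) = (LP (LK LD1_c2 LD2_c32 LD3_c11)) :=
  Lre_g IH (LK LD1_c5 LD2_c10 LD3_c17) (LK LD1_c2 LD2_c32 LD3_c11) Lrfl Lrfl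
theorem f299716 : Led Lsl_gf (LP (LK LD1_c5 LD2_c10 LD3_c17)) = (LP (LK LD1_c5 LD2_c2 LD3_c35)) :=
  Lgr Lrot47 (Lpr_gt (f257054 IH) (Lpe (K18.f288264 IH) (Lpr_ff (K18.f299693 IH) (Lpn (LP (LK LD1_c5 LD2_c2 LD3_c35))))))
theorem f299718 : Led Lsl_ct (LP (LK LD1_c5 LD2_c10 LD3_c17)) = (LP (LK LD1_c10 LD2_c11 LD3_c19)) :=
  Lre_c IH (LK LD1_c5 LD2_c10 LD3_c17) (LK LD1_c10 LD2_c11 LD3_c19) Lrfl Lrfl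
theorem f263381 : Led Lsl_ct (LP (LK LD1_c27 LD2_c49 LD3_c26)) = (LP (LK LD1_c18 LD2_c9 LD3_c5)) :=
  Lre_c IH (LK LD1_c27 LD2_c49 LD3_c26) (LK LD1_c18 LD2_c9 LD3_c5) Lrfl Lrfl
theorem f584497 : Led Lsl_df (LP (LK LD1_c10 LD2_c11 LD3_c19)) = (LP (LK LD1_c18 LD2_c9 LD3_c5)) :=
  Lgr Lrot162 (Lpe (f299718 IH) (Lpr_gf (f299716 IH) (Lpe (K18.f299670 IH) (Lpe (f299665 IH) (Lpr_dt (f584489 IH) (Lpr_gt (f343467 IH) (Lpr_ct (K37.f544824 IH) (Lpr_gt (f376884 IH) (Lpr_ct (f263381 IH) (Lpn (LP (LK LD1_c18 LD2_c9 LD3_c5))))))))))))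
theorem f584508 : Led Lsl_et (LP (LK LD1_c10 LD2_c11 LD3_c19)) = (LP (LK LD1_c18 LD2_c33 LD3_c43)) :=
  Lre_e IH (LK LD1_c10 LD2_c11 LD3_c19) (LK LD1_c18 LD2_c33 LD3_c43) Lrfl Lrfl
theorem f584509 : Led Lsl_dt (LP (LK LD1_c18 LD2_c33 LD3_c43)) = (LP (LK LD1_c28 LD2_c7 LD3_c60)) :=
  Lre_d IH (LK LD1_c18 LD2_c33 LD3_c43) (LK LD1_c28 LD2_c7 LD3_c60) Lrfl Lrfl
theorem f263371 : Led Lsl_et (LP (LK LD1_c27 LD2_c49 LD3_c27)) = (LP (LK LD1_c18 LD2_c9 LD3_c5)) :=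
  Lre_e IH (LK LD1_c27 LD2_c49 LD3_c27) (LK LD1_c18 LD2_c9 LD3_c5) Lrfl Lrfl
theorem f263375 : Led Lsl_dt (LP (LK LD1_c32 LD2_c28 LD3_c46)) = (LP (LK LD1_c27 LD2_c49 LD3_c27)) :=
  Lre_d IH (LK LD1_c32 LD2_c28 LD3_c46) (LK LD1_c27 LD2_c49 LD3_c27) Lrfl Lrfl
theorem f584510 : Led Lsl_et (LP (LK LD1_c28 LD2_c7 LD3_c60)) = (LP (LK LD1_c32 LD2_c28 LD3_c46)) :=
  Lgr Lrot71 (Lpe (f584509 IH) (Lpe (f584508 IH) (Lpr_df (f584497 IH) (Lpe (f263371 IH) (Lpe (f263375 IH) (Lpn (LP (LK LD1_c32 LD2_c28 LD3_c46))))))))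
theorem f584516 : Led Lsl_ef (LP (LK LD1_c28 LD2_c7 LD3_c60)) = (LP (LK LD1_c32 LD2_c28 LD3_c46)) :=
  Lgr Lrot88 (Lpr_et (f584510 IH) (Lpn (LP (LK LD1_c32 LD2_c28 LD3_c46))))
theorem f364460 : Led Lsl_at (LP (LK LD1_c27 LD2_c49 LD3_c30)) = (LP (LK LD1_c32 LD2_c28 LD3_c46)) :=
  Lre_a IH (LK LD1_c27 LD2_c49 LD3_c30) (LK LD1_c32 LD2_c28 LD3_c46) Lrfl Lrfl
theorem f300241 : Led Lsl_at (LP (LK LD1_c27 LD2_c32 LD3_c8)) = (LP (LK LD1_c17 LD2_c45 LD3_c54)) :=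
  Lre_a IH (LK LD1_c27 LD2_c32 LD3_c8) (LK LD1_c17 LD2_c45 LD3_c54) Lrfl Lrfl
theorem f300218 : Led Lsl_dt (LP (LK LD1_c27 LD2_c32 LD3_c8)) = (LP (LK LD1_c17 LD2_c45 LD3_c53)) :=
  Lre_d IH (LK LD1_c27 LD2_c32 LD3_c8) (LK LD1_c17 LD2_c45 LD3_c53) Lrfl Lrfl
theorem f299805 : Led Lsl_dt (LP (LK LD1_c17 LD2_c47 LD3_c1)) = (LP (LK LD1_c27 LD2_c33 LD3_c50)) :=
  Lre_d IH (LK LD1_c17 LD2_c47 LD3_c1) (LK LD1_c27 LD2_c33 LD3_c50) Lrfl Lrfl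
theorem f300219 : Led Lsl_ff (LP (LK LD1_c27 LD2_c32 LD3_c8)) = (LP (LK LD1_c27 LD2_c33 LD3_c50)) :=
  Lgr Lrot19 (Lpr_dt (f300218 IH) (Lpr_ft (K18.f300215 IH) (Lpr_dt (f299805 IH) (Lpn (LP (LK LD1_c27 LD2_c33 LD3_c50))))))
theorem f583280 : Led Lsl_gf (LP (LK LD1_c18 LD2_c35 LD3_c16)) = (LP (LK LD1_c27 LD2_c33 LD3_c50)) :=
  Lgr Lrot47 (Lpr_gt (f583277 IH) (Lpe (f300241 IH) (Lpr_ff (f300219 IH) (Lpn (LP (LK LD1_c27 LD2_c33 LD3_c50))))))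
theorem f230037 : Led Lsl_dt (LP (LK LD1_c9 LD2_c39 LD3_c45)) = (LP (LK LD1_c17 LD2_c46 LD3_c16)) :=
  Lre_d IH (LK LD1_c9 LD2_c39 LD3_c45) (LK LD1_c17 LD2_c46 LD3_c16) Lrfl Lrfl
theorem f230019 : Led Lsl_ct (LP (LK LD1_c27 LD2_c32 LD3_c55)) = (LP (LK LD1_c17 LD2_c46 LD3_c16)) :=
  Lre_c IH (LK LD1_c27 LD2_c32 LD3_c55) (LK LD1_c17 LD2_c46 LD3_c16) Lrfl Lrfl
theorem f248049 : Led Lsl_gt (LP (LK LD1_c17 LD2_c45 LD3_c52)) = (LP (LK LD1_c9 LD2_c39 LD3_c35)) :=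
  Lre_g IH (LK LD1_c17 LD2_c45 LD3_c52) (LK LD1_c9 LD2_c39 LD3_c35) Lrfl Lrfl
theorem f300231 : Led Lsl_gf (LP (LK LD1_c17 LD2_c45 LD3_c52)) = (LP (LK LD1_c17 LD2_c47 LD3_c1)) :=
  Lgr Lrot47 (Lpr_gt (f248049 IH) (Lpe (K18.f289901 IH) (Lpr_ff (K18.f300222 IH) (Lpn (LP (LK LD1_c17 LD2_c47 LD3_c1))))))
theorem f283905 : Led Lsl_ct (LP (LK LD1_c17 LD2_c45 LD3_c52)) = (LP (LK LD1_c27 LD2_c32 LD3_c6)) :=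
  Lre_c IH (LK LD1_c17 LD2_c45 LD3_c52) (LK LD1_c27 LD2_c32 LD3_c6) Lrfl Lrfl
theorem f583282 : Led Lsl_gf (LP (LK LD1_c27 LD2_c32 LD3_c55)) = (LP (LK LD1_c27 LD2_c32 LD3_c6)) :=
  Lgr Lrot104 (Lpr_ct (f230019 IH) (Lpe (f230037 IH) (Lpr_cf (K37.f230016 IH) (Lpe (f230031 IH) (Lpe (f230032 IH) (Lpr_gf (f583280 IH) (Lpe (f299805 IH) (Lpe (f300231 IH) (Lpr_ct (f283905 IH) (Lpn (LP (LK LD1_c27 LD2_c32 LD3_c6))))))))))))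
theorem f230042 : Led Lsl_ct (LP (LK LD1_c17 LD2_c46 LD3_c16)) = (LP (LK LD1_c27 LD2_c32 LD3_c55)) :=
  Lre_c IH (LK LD1_c17 LD2_c46 LD3_c16) (LK LD1_c27 LD2_c32 LD3_c55) Lrfl Lrfl
theorem f230374 : Led Lsl_bt (LP (LK LD1_c17 LD2_c46 LD3_c16)) = (LP (LK LD1_c9 LD2_c39 LD3_c46)) :=
  Lre_b IH (LK LD1_c17 LD2_c46 LD3_c16) (LK LD1_c9 LD2_c39 LD3_c46) Lrfl Lrfl
theorem f300584 : Led Lsl_ct (LP (LK LD1_c5 LD2_c12 LD3_c18)) = (LP (LK LD1_c10 LD2_c14 LD3_c55)) :=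
  Lre_c IH (LK LD1_c5 LD2_c12 LD3_c18) (LK LD1_c10 LD2_c14 LD3_c55) Lrfl Lrfl
theorem f169591 : Led Lsl_gt (LP (LK LD1_c10 LD2_c3 LD3_c19)) = (LP (LK LD1_c5 LD2_c6 LD3_c10)) :=
  Lre_g IH (LK LD1_c10 LD2_c3 LD3_c19) (LK LD1_c5 LD2_c6 LD3_c10) Lrfl Lrfl
theorem f300592 : Led Lsl_gt (LP (LK LD1_c10 LD2_c14 LD3_c55)) = (LP (LK LD1_c10 LD2_c3 LD3_c19)) :=
  Lgr Lrot5 (Lpr_ft (K18.f300581 IH) (Lpr_at (f169666 IH) (Lpe (f169591 IH) (Lpn (LP (LK LD1_c10 LD2_c3 LD3_c19))))))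
theorem f3786 : Led Lsl_bt (LP (LK LD1_c1 LD2_c11 LD3_c35)) = (LP (LK LD1_c2 LD2_c28 LD3_c51)) :=
  Lre_b IH (LK LD1_c1 LD2_c11 LD3_c35) (LK LD1_c2 LD2_c28 LD3_c51) Lrfl Lrfl
theorem f3787 : Led Lsl_gt (LP (LK LD1_c2 LD2_c28 LD3_c51)) = (LP (LK LD1_c5 LD2_c2 LD3_c33)) :=
  Lre_g IH (LK LD1_c2 LD2_c28 LD3_c51) (LK LD1_c5 LD2_c2 LD3_c33) Lrfl Lrfl
theorem f169592 : Led Lsl_bt (LP (LK LD1_c9 LD2_c55 LD3_c61)) = (LP (LK LD1_c5 LD2_c2 LD3_c33)) :=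
  Lre_b IH (LK LD1_c9 LD2_c55 LD3_c61) (LK LD1_c5 LD2_c2 LD3_c33) Lrfl Lrfl
theorem f169593 : Led Lsl_cf (LP (LK LD1_c10 LD2_c3 LD3_c19)) = (LP (LK LD1_c9 LD2_c55 LD3_c61)) :=
  Lgr Lrot160 (Lpr_gt (f169591 IH) (Lpe (f165303 IH) (Lpr_bt (f165302 IH) (Lpr_gt (K9.f169585 IH) (Lpr_ct (K9.f165278 IH) (Lpr_gt (K9.f165276 IH) (Lpe (K9.f165607 IH) (Lpr_bt (f3786 IH) (Lpr_gt (f3787 IH) (Lpe (f169592 IH) (Lpn (LP (LK LD1_c9 LD2_c55 LD3_c61)))))))))))))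
theorem f300622 : Led Lsl_gt (LP (LK LD1_c5 LD2_c2 LD3_c33)) = (LP (LK LD1_c5 LD2_c10 LD3_c18)) :=
  Lgr Lrot164 (Lpe (f169592 IH) (Lpe (f169593 IH) (Lpe (f300592 IH) (Lpe (f300584 IH) (Lpr_gf (f300619 IH) (Lpe (f180603 IH) (Lpr_ct (f180605 IH) (Lpe (f299968 IH) (Lpe (K18.f299736 IH) (Lpe (K18.f288266 IH) (Lpn (LP (LK LD1_c5 LD2_c10 LD3_c18)))))))))))))
theorem f165341 : Led Lsl_ct (LP (LK LD1_c9 LD2_c56 LD3_c0)) = (LP (LK LD1_c5 LD2_c2 LD3_c33)) :=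
  Lre_c IH (LK LD1_c9 LD2_c56 LD3_c0) (LK LD1_c5 LD2_c2 LD3_c33) Lrfl Lrfl
theorem f583313 : Led Lsl_bf (LP (LK LD1_c9 LD2_c54 LD3_c59)) = (LP (LK LD1_c9 LD2_c56 LD3_c0)) :=
  Lgr Lrot34 (Lpr_gf (K15.f266159 IH) (Lpe (f230374 IH) (Lpr_ct (f230042 IH) (Lpr_gf (f583282 IH) (Lpe (f283905 IH) (Lpr_gf (f300231 IH) (Lpe (K18.f299797 IH) (Lpr_ct (f299647 IH) (Lpe (f300622 IH) (Lpe (f165341 IH) (Lpn (LP (LK LD1_c9 LD2_c56 LD3_c0)))))))))))))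
theorem f249487 : Led Lsl_et (LP (LK LD1_c9 LD2_c54 LD3_c59)) = (LP (LK LD1_c18 LD2_c9 LD3_c7)) :=
  Lre_e IH (LK LD1_c9 LD2_c54 LD3_c59) (LK LD1_c18 LD2_c9 LD3_c7) Lrfl Lrfl
theorem f583321 : Led Lsl_et (LP (LK LD1_c18 LD2_c10 LD3_c44)) = (LP (LK LD1_c9 LD2_c56 LD3_c0)) :=
  Lre_e IH (LK LD1_c18 LD2_c10 LD3_c44) (LK LD1_c9 LD2_c56 LD3_c0) Lrfl Lrfl
theorem f583322 : Led Lsl_bt (LP (LK LD1_c18 LD2_c9 LD3_c7)) = (LP (LK LD1_c18 LD2_c10 LD3_c44)) :=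
  Lgr Lrot119 (Lpe (f249487 IH) (Lpr_bf (f583313 IH) (Lpe (f583321 IH) (Lpn (LP (LK LD1_c18 LD2_c10 LD3_c44))))))
theorem f364445 : Led Lsl_dt (LP (LK LD1_c27 LD2_c49 LD3_c32)) = (LP (LK LD1_c18 LD2_c9 LD3_c7)) :=
  Lre_d IH (LK LD1_c27 LD2_c49 LD3_c32) (LK LD1_c18 LD2_c9 LD3_c7) Lrfl Lrfl
theorem f583391 : Led Lsl_dt (LP (LK LD1_c18 LD2_c10 LD3_c44)) = (LP (LK LD1_c27 LD2_c50 LD3_c58)) :=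
  Lre_d IH (LK LD1_c18 LD2_c10 LD3_c44) (LK LD1_c27 LD2_c50 LD3_c58) Lrfl Lrfl
theorem f583392 : Led Lsl_bf (LP (LK LD1_c27 LD2_c49 LD3_c32)) = (LP (LK LD1_c27 LD2_c50 LD3_c58)) :=
  Lgr Lrot93 (Lpr_dt (f364445 IH) (Lpr_bt (f583322 IH) (Lpr_dt (f583391 IH) (Lpn (LP (LK LD1_c27 LD2_c50 LD3_c58))))))
theorem f364450 : Led Lsl_et (LP (LK LD1_c27 LD2_c49 LD3_c32)) = (LP (LK LD1_c18 LD2_c9 LD3_c9)) :=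
  Lre_e IH (LK LD1_c27 LD2_c49 LD3_c32) (LK LD1_c18 LD2_c9 LD3_c9) Lrfl Lrfl
theorem f364459 : Led Lsl_bt (LP (LK LD1_c18 LD2_c9 LD3_c9)) = (LP (LK LD1_c27 LD2_c49 LD3_c30)) :=
  Lre_b IH (LK LD1_c18 LD2_c9 LD3_c9) (LK LD1_c27 LD2_c49 LD3_c30) Lrfl Lrfl
theorem f583398 : Led Lsl_et (LP (LK LD1_c27 LD2_c49 LD3_c30)) = (LP (LK LD1_c27 LD2_c50 LD3_c58)) :=
  Lgr Lrot74 (Lpe (f364459 IH) (Lpe (f364450 IH) (Lpr_bf (f583392 IH) (Lpn (LP (LK LD1_c27 LD2_c50 LD3_c58))))))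
theorem f583403 : Led Lsl_ef (LP (LK LD1_c27 LD2_c49 LD3_c30)) = (LP (LK LD1_c27 LD2_c50 LD3_c58)) :=
  Lgr Lrot88 (Lpr_et (f583398 IH) (Lpn (LP (LK LD1_c27 LD2_c50 LD3_c58))))
theorem f584521 : Led Lsl_at (LP (LK LD1_c28 LD2_c7 LD3_c60)) = (LP (LK LD1_c27 LD2_c50 LD3_c58)) :=
  Lgr Lrot80 (Lpr_ef (f584516 IH) (Lpe (f364460 IH) (Lpr_ef (f583403 IH) (Lpn (LP (LK LD1_c27 LD2_c50 LD3_c58))))))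
theorem f583400 : Led Lsl_dt (LP (LK LD1_c27 LD2_c50 LD3_c58)) = (LP (LK LD1_c18 LD2_c10 LD3_c44)) :=
  Lre_d IH (LK LD1_c27 LD2_c50 LD3_c58) (LK LD1_c18 LD2_c10 LD3_c44) Lrfl Lrfl
theorem f584525 : Led Lsl_af (LP (LK LD1_c18 LD2_c33 LD3_c43)) = (LP (LK LD1_c18 LD2_c10 LD3_c44)) :=
  Lgr Lrot117 (Lpr_dt (f584509 IH) (Lpr_at (f584521 IH) (Lpr_dt (f583400 IH) (Lpn (LP (LK LD1_c18 LD2_c10 LD3_c44))))))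
theorem f584529 : Led Lsl_ct (LP (LK LD1_c18 LD2_c33 LD3_c43)) = (LP (LK LD1_c10 LD2_c11 LD3_c20)) :=
  Lre_c IH (LK LD1_c18 LD2_c33 LD3_c43) (LK LD1_c10 LD2_c11 LD3_c20) Lrfl Lrfl
theorem f583407 : Led Lsl_ct (LP (LK LD1_c9 LD2_c56 LD3_c2)) = (LP (LK LD1_c18 LD2_c10 LD3_c44)) :=
  Lre_c IH (LK LD1_c9 LD2_c56 LD3_c2) (LK LD1_c18 LD2_c10 LD3_c44) Lrfl Lrfl
theorem f584530 : Led Lsl_at (LP (LK LD1_c10 LD2_c11 LD3_c20)) = (LP (LK LD1_c9 LD2_c56 LD3_c2)) :=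
  Lgr Lrot107 (Lpe (f584529 IH) (Lpr_af (f584525 IH) (Lpe (f583407 IH) (Lpn (LP (LK LD1_c9 LD2_c56 LD3_c2))))))
theorem f584537 : Led Lsl_et (LP (LK LD1_c5 LD2_c10 LD3_c17)) = (LP (LK LD1_c10 LD2_c11 LD3_c20)) :=
  Lre_e IH (LK LD1_c5 LD2_c10 LD3_c17) (LK LD1_c10 LD2_c11 LD3_c20) Lrfl Lrfl
theorem f300628 : Led Lsl_et (LP (LK LD1_c9 LD2_c56 LD3_c2)) = (LP (LK LD1_c5 LD2_c2 LD3_c33)) :=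
  Lre_e IH (LK LD1_c9 LD2_c56 LD3_c2) (LK LD1_c5 LD2_c2 LD3_c33) Lrfl Lrfl
theorem f584538 : Led Lsl_af (LP (LK LD1_c5 LD2_c10 LD3_c17)) = (LP (LK LD1_c5 LD2_c2 LD3_c33)) :=
  Lgr Lrot50 (Lpr_et (f584537 IH) (Lpr_at (f584530 IH) (Lpr_et (f300628 IH) (Lpn (LP (LK LD1_c5 LD2_c2 LD3_c33))))))
theorem f584546 : Led Lsl_ft (LP (LK LD1_c5 LD2_c10 LD3_c16)) = (LP (LK LD1_c5 LD2_c2 LD3_c33)) :=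
  Lgr Lrot2 (Lpe (f408341 IH) (Lpe (f299716 IH) (Lpr_af (f584538 IH) (Lpn (LP (LK LD1_c5 LD2_c2 LD3_c33))))))
theorem f584552 : Led Lsl_ff (LP (LK LD1_c5 LD2_c10 LD3_c16)) = (LP (LK LD1_c5 LD2_c2 LD3_c33)) :=
  Lgr Lrot3 (Lpr_ft (f584546 IH) (Lpn (LP (LK LD1_c5 LD2_c2 LD3_c33))))
theorem f584560 : Led Lsl_at (LP (LK LD1_c5 LD2_c10 LD3_c16)) = (LP (LK LD1_c5 LD2_c2 LD3_c34)) :=
  Lgr Lrot26 (Lpr_ff (f584552 IH) (Lpr_gt (f300622 IH) (Lpr_gt (f299728 IH) (Lpn (LP (LK LD1_c5 LD2_c2 LD3_c34))))))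
theorem f584541 : Led Lsl_at (LP (LK LD1_c5 LD2_c10 LD3_c17)) = (LP (LK LD1_c5 LD2_c2 LD3_c33)) :=
  Lgr Lrot100 (Lpr_af (f584538 IH) (Lpn (LP (LK LD1_c5 LD2_c2 LD3_c33))))
theorem f584573 : Led Lsl_ff (LP (LK LD1_c5 LD2_c10 LD3_c17)) = (LP (LK LD1_c5 LD2_c2 LD3_c34)) :=
  Lgr Lrot30 (Lpr_at (f584541 IH) (Lpe (f584552 IH) (Lpr_at (f584560 IH) (Lpn (LP (LK LD1_c5 LD2_c2 LD3_c34))))))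
theorem f584583 : Led Lsl_ft (LP (LK LD1_c5 LD2_c10 LD3_c17)) = (LP (LK LD1_c5 LD2_c2 LD3_c34)) :=
  Lgr Lrot48 (Lpr_ff (f584573 IH) (Lpn (LP (LK LD1_c5 LD2_c2 LD3_c34))))
theorem f257055 : Led Lsl_ct (LP (LK LD1_c10 LD2_c11 LD3_c19)) = (LP (LK LD1_c5 LD2_c10 LD3_c17)) :=
  Lre_c IH (LK LD1_c10 LD2_c11 LD3_c19) (LK LD1_c5 LD2_c10 LD3_c17) Lrfl Lrfl
theorem f299731 : Led Lsl_ct (LP (LK LD1_c5 LD2_c2 LD3_c34)) = (LP (LK LD1_c9 LD2_c56 LD3_c4)) :=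
  Lre_c IH (LK LD1_c5 LD2_c2 LD3_c34) (LK LD1_c9 LD2_c56 LD3_c4) Lrfl Lrfl
theorem f584587 : Led Lsl_ff (LP (LK LD1_c10 LD2_c11 LD3_c19)) = (LP (LK LD1_c9 LD2_c56 LD3_c4)) :=
  Lgr Lrot23 (Lpr_ct (f257055 IH) (Lpr_ft (f584583 IH) (Lpr_ct (f299731 IH) (Lpn (LP (LK LD1_c9 LD2_c56 LD3_c4))))))
theorem f584506 : Led Lsl_dt (LP (LK LD1_c10 LD2_c11 LD3_c19)) = (LP (LK LD1_c18 LD2_c9 LD3_c5)) :=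
  Lgr Lrot42 (Lpr_df (f584497 IH) (Lpn (LP (LK LD1_c18 LD2_c9 LD3_c5))))
theorem f299732 : Led Lsl_dt (LP (LK LD1_c18 LD2_c10 LD3_c50)) = (LP (LK LD1_c9 LD2_c56 LD3_c4)) :=
  Lre_d IH (LK LD1_c18 LD2_c10 LD3_c50) (LK LD1_c9 LD2_c56 LD3_c4) Lrfl Lrfl
theorem f584612 : Led Lsl_ft (LP (LK LD1_c18 LD2_c9 LD3_c5)) = (LP (LK LD1_c18 LD2_c10 LD3_c50)) :=
  Lgr Lrot54 (Lpe (f584506 IH) (Lpr_ff (f584587 IH) (Lpe (f299732 IH) (Lpn (LP (LK LD1_c18 LD2_c10 LD3_c50))))))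
theorem f584624 : Led Lsl_ff (LP (LK LD1_c18 LD2_c9 LD3_c5)) = (LP (LK LD1_c18 LD2_c10 LD3_c50)) :=
  Lgr Lrot3 (Lpr_ft (f584612 IH) (Lpn (LP (LK LD1_c18 LD2_c10 LD3_c50))))
theorem f263385 : Led Lsl_at (LP (LK LD1_c18 LD2_c9 LD3_c5)) = (LP (LK LD1_c9 LD2_c54 LD3_c58)) :=
  Lre_a IH (LK LD1_c18 LD2_c9 LD3_c5) (LK LD1_c9 LD2_c54 LD3_c58) Lrfl Lrfl
theorem f257416 : Led Lsl_bt (LP (LK LD1_c5 LD2_c2 LD3_c7)) = (LP (LK LD1_c9 LD2_c54 LD3_c58)) :=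
  Lre_b IH (LK LD1_c5 LD2_c2 LD3_c7) (LK LD1_c9 LD2_c54 LD3_c58) Lrfl Lrfl
theorem f364369 : Led Lsl_ff (LP (LK LD1_c10 LD2_c10 LD3_c54)) = (LP (LK LD1_c9 LD2_c54 LD3_c58)) :=
  Lgr Lrot25 (Lpr_bt (K37.f247979 IH) (Lpr_ft (K26.f364365 IH) (Lpr_bt (f257416 IH) (Lpn (LP (LK LD1_c9 LD2_c54 LD3_c58))))))
theorem f584628 : Led Lsl_at (LP (LK LD1_c10 LD2_c10 LD3_c54)) = (LP (LK LD1_c18 LD2_c10 LD3_c50)) :=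
  Lgr Lrot66 (Lpr_ff (f364369 IH) (Lpe (f263385 IH) (Lpr_ff (f584624 IH) (Lpn (LP (LK LD1_c18 LD2_c10 LD3_c50))))))
theorem f584566 : Led Lsl_af (LP (LK LD1_c10 LD2_c11 LD3_c16)) = (LP (LK LD1_c9 LD2_c56 LD3_c4)) :=
  Lgr Lrot68 (Lpr_ct (f186803 IH) (Lpr_at (f584560 IH) (Lpr_ct (f299731 IH) (Lpn (LP (LK LD1_c9 LD2_c56 LD3_c4))))))
theorem f584672 : Led Lsl_df (LP (LK LD1_c10 LD2_c10 LD3_c54)) = (LP (LK LD1_c10 LD2_c11 LD3_c16)) :=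
  Lgr Lrot18 (Lpr_at (f584628 IH) (Lpr_dt (f299732 IH) (Lpe (f584566 IH) (Lpn (LP (LK LD1_c10 LD2_c11 LD3_c16))))))
theorem f257094 : Led Lsl_bt (LP (LK LD1_c9 LD2_c54 LD3_c57)) = (LP (LK LD1_c18 LD2_c9 LD3_c2)) :=
  Lre_b IH (LK LD1_c9 LD2_c54 LD3_c57) (LK LD1_c18 LD2_c9 LD3_c2) Lrfl Lrfl
theorem f376875 : Led Lsl_ff (LP (LK LD1_c10 LD2_c20 LD3_c5)) = (LP (LK LD1_c18 LD2_c9 LD3_c2)) :=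
  Lgr Lrot25 (Lpr_bt (K37.f264945 IH) (Lpr_ft (f376873 IH) (Lpr_bt (f257094 IH) (Lpn (LP (LK LD1_c18 LD2_c9 LD3_c2))))))
theorem f249485 : Led Lsl_ct (LP (LK LD1_c9 LD2_c54 LD3_c58)) = (LP (LK LD1_c18 LD2_c9 LD3_c2)) :=
  Lre_c IH (LK LD1_c9 LD2_c54 LD3_c58) (LK LD1_c18 LD2_c9 LD3_c2) Lrfl Lrfl
theorem f249484 : Led Lsl_bt (LP (LK LD1_c9 LD2_c54 LD3_c58)) = (LP (LK LD1_c5 LD2_c2 LD3_c7)) :=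
  Lre_b IH (LK LD1_c9 LD2_c54 LD3_c58) (LK LD1_c5 LD2_c2 LD3_c7) Lrfl Lrfl
theorem f364376 : Led Lsl_ft (LP (LK LD1_c10 LD2_c10 LD3_c54)) = (LP (LK LD1_c9 LD2_c54 LD3_c58)) :=
  Lgr Lrot75 (Lpe (K37.f248047 IH) (Lpr_ff (K26.f364374 IH) (Lpe (f249484 IH) (Lpn (LP (LK LD1_c9 LD2_c54 LD3_c58))))))
theorem f376889 : Led Lsl_ct (LP (LK LD1_c10 LD2_c20 LD3_c5)) = (LP (LK LD1_c10 LD2_c10 LD3_c54)) :=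
  Lgr Lrot40 (Lpr_ff (f376875 IH) (Lpe (f249485 IH) (Lpe (f364376 IH) (Lpn (LP (LK LD1_c10 LD2_c10 LD3_c54))))))
theorem f165833 : Led Lsl_gt (LP (LK LD1_c18 LD2_c13 LD3_c14)) = (LP (LK LD1_c9 LD2_c57 LD3_c27)) :=
  Lre_g IH (LK LD1_c18 LD2_c13 LD3_c14) (LK LD1_c9 LD2_c57 LD3_c27) Lrfl Lrfl
theorem f584677 : Led Lsl_dt (LP (LK LD1_c18 LD2_c13 LD3_c14)) = (LP (LK LD1_c10 LD2_c11 LD3_c1)) :=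
  Lgr Lrot6 (Lpr_gt (f165833 IH) (Lpr_ct (K37.f257481 IH) (Lpr_gt (K37.f544803 IH) (Lpr_ct (f376889 IH) (Lpr_df (f584672 IH) (Lpe (f185402 IH) (Lpe (f185401 IH) (Lpe (f249985 IH) (Lpe (f406783 IH) (Lpn (LP (LK LD1_c10 LD2_c11 LD3_c1))))))))))))
theorem f584683 : Led Lsl_df (LP (LK LD1_c18 LD2_c13 LD3_c14)) = (LP (LK LD1_c10 LD2_c11 LD3_c1)) :=
  Lgr Lrot38 (Lpr_dt (f584677 IH) (Lpn (LP (LK LD1_c10 LD2_c11 LD3_c1))))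
theorem f165832 : Led Lsl_dt (LP (LK LD1_c9 LD2_c57 LD3_c27)) = (LP (LK LD1_c5 LD2_c3 LD3_c18)) :=
  Lre_d IH (LK LD1_c9 LD2_c57 LD3_c27) (LK LD1_c5 LD2_c3 LD3_c18) Lrfl Lrfl
theorem f186628 : Led Lsl_dt (LP (LK LD1_c5 LD2_c3 LD3_c27)) = (LP (LK LD1_c2 LD2_c29 LD3_c14)) :=
  Lre_d IH (LK LD1_c5 LD2_c3 LD3_c27) (LK LD1_c2 LD2_c29 LD3_c14) Lrfl Lrfl
theorem f233449 : Led Lsl_gt (LP (LK LD1_c9 LD2_c57 LD3_c51)) = (LP (LK LD1_c5 LD2_c3 LD3_c27)) :=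
  Lre_g IH (LK LD1_c9 LD2_c57 LD3_c51) (LK LD1_c5 LD2_c3 LD3_c27) Lrfl Lrfl
theorem f584687 : Led Lsl_df (LP (LK LD1_c9 LD2_c57 LD3_c51)) = (LP (LK LD1_c5 LD2_c10 LD3_c17)) :=
  Lgr Lrot153 (Lpr_gt (f233449 IH) (Lpr_dt (f186628 IH) (Lpe (K37.f165831 IH) (Lpe (f165832 IH) (Lpe (f165833 IH) (Lpr_df (f584683 IH) (Lpr_gf (f406784 IH) (Lpe (f299668 IH) (Lpe (f299716 IH) (Lpn (LP (LK LD1_c5 LD2_c10 LD3_c17))))))))))))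
theorem f299739 : Led Lsl_dt (LP (LK LD1_c9 LD2_c56 LD3_c5)) = (LP (LK LD1_c5 LD2_c2 LD3_c34)) :=
  Lre_d IH (LK LD1_c9 LD2_c56 LD3_c5) (LK LD1_c5 LD2_c2 LD3_c34) Lrfl Lrfl
theorem f584693 : Led Lsl_ft (LP (LK LD1_c9 LD2_c57 LD3_c51)) = (LP (LK LD1_c9 LD2_c56 LD3_c5)) :=
  Lgr Lrot54 (Lpr_df (f584687 IH) (Lpr_ff (f584573 IH) (Lpe (f299739 IH) (Lpn (LP (LK LD1_c9 LD2_c56 LD3_c5))))))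
theorem f584698 : Led Lsl_ff (LP (LK LD1_c9 LD2_c57 LD3_c51)) = (LP (LK LD1_c9 LD2_c56 LD3_c5)) :=
  Lgr Lrot3 (Lpr_ft (f584693 IH) (Lpn (LP (LK LD1_c9 LD2_c56 LD3_c5))))
theorem f300626 : Led Lsl_dt (LP (LK LD1_c9 LD2_c56 LD3_c1)) = (LP (LK LD1_c5 LD2_c2 LD3_c33)) :=
  Lre_d IH (LK LD1_c9 LD2_c56 LD3_c1) (LK LD1_c5 LD2_c2 LD3_c33) Lrfl Lrfl
theorem f584689 : Led Lsl_at (LP (LK LD1_c9 LD2_c57 LD3_c51)) = (LP (LK LD1_c9 LD2_c56 LD3_c1)) :=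
  Lgr Lrot51 (Lpr_df (f584687 IH) (Lpr_af (f584538 IH) (Lpe (f300626 IH) (Lpn (LP (LK LD1_c9 LD2_c56 LD3_c1))))))
theorem f249478 : Led Lsl_cf (LP (LK LD1_c9 LD2_c54 LD3_c59)) = (LP (LK LD1_c10 LD2_c14 LD3_c51)) :=
  Lgr Lrot14 (Lpe (K15.f249475 IH) (Lpr_gf (K15.f249473 IH) (Lpe (K14.f193112 IH) (Lpr_gf (K14.f43764 IH) (Lpe (K15.f43436 IH) (Lpe (K14.f249105 IH) (Lpr_dt (K14.f185692 IH) (Lpr_gt (K15.f249358 IH) (Lpr_dt (K15.f249359 IH) (Lpn (LP (LK LD1_c10 LD2_c14 LD3_c51))))))))))))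
theorem f266155 : Led Lsl_gt (LP (LK LD1_c9 LD2_c54 LD3_c59)) = (LP (LK LD1_c9 LD2_c39 LD3_c49)) :=
  Lgr Lrot94 (Lpr_cf (f249478 IH) (Lpr_gt (K15.f266141 IH) (Lpr_dt (K15.f230290 IH) (Lpe (K12.f230416 IH) (Lpr_dt (K14.f184086 IH) (Lpe (K9.f43440 IH) (Lpe (K9.f43489 IH) (Lpe (K12.f43494 IH) (Lpe (K15.f43584 IH) (Lpn (LP (LK LD1_c9 LD2_c39 LD3_c49))))))))))))
theorem f181077 : Led Lsl_bt (LP (LK LD1_c2 LD2_c32 LD3_c30)) = (LP (LK LD1_c5 LD2_c11 LD3_c0)) :=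
  Lre_b IH (LK LD1_c2 LD2_c32 LD3_c30) (LK LD1_c5 LD2_c11 LD3_c0) Lrfl Lrfl
theorem f169607 : Led Lsl_ct (LP (LK LD1_c5 LD2_c2 LD3_c33)) = (LP (LK LD1_c9 LD2_c56 LD3_c0)) :=
  Lre_c IH (LK LD1_c5 LD2_c2 LD3_c33) (LK LD1_c9 LD2_c56 LD3_c0) Lrfl Lrfl
theorem f583324 : Led Lsl_gt (LP (LK LD1_c5 LD2_c11 LD3_c0)) = (LP (LK LD1_c9 LD2_c56 LD3_c1)) :=
  Lgr Lrot190 (Lpe (f181077 IH) (Lpe (K12.f181041 IH) (Lpe (K12.f61289 IH) (Lpe (K10.f61288 IH) (Lpe (K37.f163630 IH) (Lpqs (K37.f537077 IH) (Lpe (K36.f452269 IH) (Lpe (K9.f8385 IH) (Lpe (K0.f8384 IH) (Lpr_bf (K1.f28202 IH) (Lpr_cf (K1.f27832 IH) (Lpe (K1.f27839 IH) (Lpe (K12.f27849 IH) (Lpr_bf (K12.f229060 IH) (Lpe (K12.f229052 IH) (Lpe (K15.f43584 IH) (Lpe (f266155 IH) (Lpr_bf (f583313 IH) (Lpe (f169607 IH) (Lpe (f300626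 IH) (Lpn (LP (LK LD1_c9 LD2_c56 LD3_c1)))))))))))))))))))))))
theorem f584702 : Led Lsl_gf (LP (LK LD1_c5 LD2_c11 LD3_c0)) = (LP (LK LD1_c9 LD2_c56 LD3_c5)) :=
  Lgr Lrot47 (Lpr_gt (f583324 IH) (Lpe (f584689 IH) (Lpr_ff (f584698 IH) (Lpn (LP (LK LD1_c9 LD2_c56 LD3_c5))))))
theorem f212438 : Led Lsl_dt (LP (LK LD1_c5 LD2_c11 LD3_c0)) = (LP (LK LD1_c2 LD2_c32 LD3_c29)) :=
  Lre_d IH (LK LD1_c5 LD2_c11 LD3_c0) (LK LD1_c2 LD2_c32 LD3_c29) Lrfl Lrfl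
theorem f180744 : Led Lsl_ct (LP (LK LD1_c2 LD2_c32 LD3_c29)) = (LP (LK LD1_c5 LD2_c10 LD3_c53)) :=
  Lre_c IH (LK LD1_c2 LD2_c32 LD3_c29) (LK LD1_c5 LD2_c10 LD3_c53) Lrfl Lrfl
theorem f299730 : Led Lsl_dt (LP (LK LD1_c5 LD2_c2 LD3_c34)) = (LP (LK LD1_c9 LD2_c56 LD3_c5)) :=
  Lre_d IH (LK LD1_c5 LD2_c2 LD3_c34) (LK LD1_c9 LD2_c56 LD3_c5) Lrfl Lrfl
theorem f249468 : Led Lsl_gt (LP (LK LD1_c9 LD2_c55 LD3_c8)) = (LP (LK LD1_c5 LD2_c2 LD3_c11)) :=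
  Lre_g IH (LK LD1_c9 LD2_c55 LD3_c8) (LK LD1_c5 LD2_c2 LD3_c11) Lrfl Lrfl
theorem f299698 : Led Lsl_gt (LP (LK LD1_c10 LD2_c11 LD3_c2)) = (LP (LK LD1_c9 LD2_c55 LD3_c8)) :=
  Lgr Lrot5 (Lpr_ft (K18.f299678 IH) (Lpr_at (K18.f299677 IH) (Lpe (f249468 IH) (Lpn (LP (LK LD1_c9 LD2_c55 LD3_c8))))))
theorem f299701 : Led Lsl_dt (LP (LK LD1_c9 LD2_c55 LD3_c8)) = (LP (LK LD1_c18 LD2_c9 LD3_c26)) :=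
  Lre_d IH (LK LD1_c9 LD2_c55 LD3_c8) (LK LD1_c18 LD2_c9 LD3_c26) Lrfl Lrfl
theorem f584706 : Led Lsl_gf (LP (LK LD1_c10 LD2_c12 LD3_c24)) = (LP (LK LD1_c18 LD2_c9 LD3_c26)) :=
  Lgr Lrot143 (Lpr_dt (f180743 IH) (Lpe (f180744 IH) (Lpe (f212438 IH) (Lpr_gf (f584702 IH) (Lpe (f299730 IH) (Lpe (f299728 IH) (Lpe (f299647 IH) (Lpr_gt (f299698 IH) (Lpr_dt (f299701 IH) (Lpn (LP (LK LD1_c18 LD2_c9 LD3_c26))))))))))))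
theorem f165340 : Led Lsl_ct (LP (LK LD1_c5 LD2_c2 LD3_c11)) = (LP (LK LD1_c2 LD2_c28 LD3_c51)) :=
  Lre_c IH (LK LD1_c5 LD2_c2 LD3_c11) (LK LD1_c2 LD2_c28 LD3_c51) Lrfl Lrfl
theorem f583319 : Led Lsl_dt (LP (LK LD1_c9 LD2_c54 LD3_c58)) = (LP (LK LD1_c9 LD2_c56 LD3_c0)) :=
  Lgr Lrot79 (Lpe (f257416 IH) (Lpe (K15.f249486 IH) (Lpr_bf (f583313 IH) (Lpn (LP (LK LD1_c9 LD2_c56 LD3_c0))))))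
theorem f252979 : Led Lsl_ct (LP (LK LD1_c18 LD2_c9 LD3_c2)) = (LP (LK LD1_c9 LD2_c54 LD3_c58)) :=
  Lre_c IH (LK LD1_c18 LD2_c9 LD3_c2) (LK LD1_c9 LD2_c54 LD3_c58) Lrfl Lrfl
theorem f584712 : Led Lsl_gt (LP (LK LD1_c18 LD2_c35 LD3_c20)) = (LP (LK LD1_c18 LD2_c9 LD3_c2)) :=
  Lgr Lrot150 (Lpe (K37.f248150 IH) (Lpr_gf (f584706 IH) (Lpe (f299701 IH) (Lpr_gt (f249468 IH) (Lpr_ct (f165340 IH) (Lpr_gt (f3787 IH) (Lpr_ct (f169607 IH) (Lpe (f583319 IH) (Lpe (f252979 IH) (Lpn (LP (LK LD1_c18 LD2_c9 LD3_c2))))))))))))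
theorem f248117 : Led Lsl_bt (LP (LK LD1_c10 LD2_c12 LD3_c24)) = (LP (LK LD1_c5 LD2_c10 LD3_c54)) :=
  Lre_b IH (LK LD1_c10 LD2_c12 LD3_c24) (LK LD1_c5 LD2_c10 LD3_c54) Lrfl Lrfl
theorem f257596 : Led Lsl_gt (LP (LK LD1_c9 LD2_c55 LD3_c5)) = (LP (LK LD1_c5 LD2_c10 LD3_c54)) :=
  Lgr Lrot49 (Lpe (K19.f165320 IH) (Lpe (K17.f251631 IH) (Lpe (K14.f43836 IH) (Lpr_gt (K15.f257086 IH) (Lpr_dt (K15.f257574 IH) (Lpr_gt (K12.f171472 IH) (Lpr_dt (K12.f171439 IH) (Lpe (K14.f171474 IH) (Lpe (K15.f171475 IH) (Lpn (LP (LK LD1_c5 LD2_c10 LD3_c54))))))))))))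
theorem f584726 : Led Lsl_bf (LP (LK LD1_c9 LD2_c55 LD3_c5)) = (LP (LK LD1_c5 LD2_c10 LD3_c8)) :=
  Lgr Lrot156 (Lpr_gt (f257596 IH) (Lpe (f248117 IH) (Lpr_ct (K37.f248150 IH) (Lpr_gt (f584712 IH) (Lpe (f249485 IH) (Lpr_bt (f249484 IH) (Lpe (K15.f257083 IH) (Lpr_ct (K15.f184646 IH) (Lpe (K13.f240250 IH) (Lpr_cf (K16.f240486 IH) (Lpn (LP (LK LD1_c5 LD2_c10 LD3_c8)))))))))))))
theorem f335875 : Led Lsl_ft (LP (LK LD1_c5 LD2_c2 LD3_c10)) = (LP (LK LD1_c5 LD2_c10 LD3_c8)) :=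
  Lgr Lrot4 (Lpr_cf (K11.f165300 IH) (Lpr_ff (K22.f335871 IH) (Lpr_cf (K16.f240486 IH) (Lpn (LP (LK LD1_c5 LD2_c10 LD3_c8))))))
theorem f584734 : Led Lsl_ft (LP (LK LD1_c9 LD2_c55 LD3_c5)) = (LP (LK LD1_c9 LD2_c55 LD3_c4)) :=
  Lgr Lrot75 (Lpr_bf (f584726 IH) (Lpe (f335875 IH) (Lpe (K37.f165329 IH) (Lpn (LP (LK LD1_c9 LD2_c55 LD3_c4))))))
theorem f251463 : Led Lsl_bt (LP (LK LD1_c10 LD2_c3 LD3_c8)) = (LP (LK LD1_c5 LD2_c6 LD3_c6)) :=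
  Lre_b IH (LK LD1_c10 LD2_c3 LD3_c8) (LK LD1_c5 LD2_c6 LD3_c6) Lrfl Lrfl
theorem f258074 : Led Lsl_bt (LP (LK LD1_c5 LD2_c11 LD3_c61)) = (LP (LK LD1_c10 LD2_c14 LD3_c48)) :=
  Lre_b IH (LK LD1_c5 LD2_c11 LD3_c61) (LK LD1_c10 LD2_c14 LD3_c48) Lrfl Lrfl
theorem f345839 : Led Lsl_ft (LP (LK LD1_c5 LD2_c6 LD3_c6)) = (LP (LK LD1_c5 LD2_c11 LD3_c61)) :=
  Lgr Lrot75 (Lpe (f251463 IH) (Lpr_ff (K23.f345834 IH) (Lpe (f258074 IH) (Lpn (LP (LK LD1_c5 LD2_c11 LD3_c61))))))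
theorem f346174 : Led Lsl_af (LP (LK LD1_c5 LD2_c6 LD3_c4)) = (LP (LK LD1_c5 LD2_c11 LD3_c61)) :=
  Lgr Lrot31 (Lpe (K15.f264920 IH) (Lpr_gf (K15.f257547 IH) (Lpr_ft (f345839 IH) (Lpn (LP (LK LD1_c5 LD2_c11 LD3_c61))))))
theorem f346176 : Led Lsl_at (LP (LK LD1_c5 LD2_c6 LD3_c4)) = (LP (LK LD1_c5 LD2_c11 LD3_c61)) :=
  Lgr Lrot100 (Lpr_af (f346174 IH) (Lpn (LP (LK LD1_c5 LD2_c11 LD3_c61))))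
theorem f335897 : Led Lsl_af (LP (LK LD1_c5 LD2_c11 LD3_c59)) = (LP (LK LD1_c5 LD2_c6 LD3_c6)) :=
  Lgr Lrot68 (Lpr_ct (K15.f190321 IH) (Lpr_at (K22.f335893 IH) (Lpr_ct (K15.f184627 IH) (Lpn (LP (LK LD1_c5 LD2_c6 LD3_c6))))))
theorem f346178 : Led Lsl_ff (LP (LK LD1_c5 LD2_c6 LD3_c4)) = (LP (LK LD1_c5 LD2_c11 LD3_c59)) :=
  Lgr Lrot30 (Lpr_at (f346176 IH) (Lpe (K23.f345845 IH) (Lpe (f335897 IH) (Lpn (LP (LK LD1_c5 LD2_c11 LD3_c59))))))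
theorem f190323 : Led Lsl_bt (LP (LK LD1_c10 LD2_c14 LD3_c43)) = (LP (LK LD1_c5 LD2_c11 LD3_c59)) :=
  Lre_b IH (LK LD1_c10 LD2_c14 LD3_c43) (LK LD1_c5 LD2_c11 LD3_c59) Lrfl Lrfl
theorem f346180 : Led Lsl_ft (LP (LK LD1_c10 LD2_c3 LD3_c6)) = (LP (LK LD1_c10 LD2_c14 LD3_c43)) :=
  Lgr Lrot75 (Lpe (K37.f165330 IH) (Lpr_ff (f346178 IH) (Lpe (f190323 IH) (Lpn (LP (LK LD1_c10 LD2_c14 LD3_c43))))))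
theorem f584738 : Led Lsl_cf (LP (LK LD1_c9 LD2_c55 LD3_c5)) = (LP (LK LD1_c10 LD2_c14 LD3_c43)) :=
  Lgr Lrot108 (Lpr_ft (f584734 IH) (Lpr_ct (K21.f165316 IH) (Lpr_ft (f346180 IH) (Lpn (LP (LK LD1_c10 LD2_c14 LD3_c43))))))
theorem f166004 : Led Lsl_bt (LP (LK LD1_c5 LD2_c16 LD3_c27)) = (LP (LK LD1_c9 LD2_c59 LD3_c25)) :=
  Lgr Lrot127 (Lpr_bf (K19.f165998 IH) (Lpn (LP (LK LD1_c9 LD2_c59 LD3_c25))))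
theorem f251553 : Led Lsl_bt (LP (LK LD1_c5 LD2_c6 LD3_c8)) = (LP (LK LD1_c10 LD2_c3 LD3_c13)) :=
  Lre_b IH (LK LD1_c5 LD2_c6 LD3_c8) (LK LD1_c10 LD2_c3 LD3_c13) Lrfl Lrfl
theorem f584750 : Led Lsl_gf (LP (LK LD1_c9 LD2_c59 LD3_c25)) = (LP (LK LD1_c10 LD2_c3 LD3_c13)) :=
  Lgr Lrot124 (Lpe (f166004 IH) (Lpe (K12.f230240 IH) (Lpr_gt (K19.f251032 IH) (Lpr_cf (f584738 IH) (Lpr_bt (f190323 IH) (Lpe (K13.f190317 IH) (Lpr_ct (K13.f190313 IH) (Lpr_gt (K14.f190322 IH) (Lpr_cf (K15.f251556 IH) (Lpr_bt (f251553 IH) (Lpn (LP (LK LD1_c10 LD2_c3 LD3_c13)))))))))))))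
theorem f166011 : Led Lsl_ct (LP (LK LD1_c9 LD2_c59 LD3_c25)) = (LP (LK LD1_c18 LD2_c15 LD3_c55)) :=
  Lre_c IH (LK LD1_c9 LD2_c59 LD3_c25) (LK LD1_c18 LD2_c15 LD3_c55) Lrfl Lrfl
theorem f230238 : Led Lsl_bf (LP (LK LD1_c27 LD2_c32 LD3_c25)) = (LP (LK LD1_c18 LD2_c15 LD3_c55)) :=
  Lgr Lrot90 (Lpr_ct (K19.f230237 IH) (Lpr_bt (K19.f230236 IH) (Lpr_ct (K12.f229929 IH) (Lpr_bt (f166004 IH) (Lpr_ct (f166011 IH) (Lpn (LP (LK LD1_c18 LD2_c15 LD3_c55))))))))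
theorem f257553 : Led Lsl_bt (LP (LK LD1_c10 LD2_c3 LD3_c13)) = (LP (LK LD1_c5 LD2_c6 LD3_c8)) :=
  Lre_b IH (LK LD1_c10 LD2_c3 LD3_c13) (LK LD1_c5 LD2_c6 LD3_c8) Lrfl Lrfl
theorem f258063 : Led Lsl_bt (LP (LK LD1_c5 LD2_c12 LD3_c1)) = (LP (LK LD1_c10 LD2_c14 LD3_c50)) :=
  Lre_b IH (LK LD1_c5 LD2_c12 LD3_c1) (LK LD1_c10 LD2_c14 LD3_c50) Lrfl Lrfl
theorem f364473 : Led Lsl_ff (LP (LK LD1_c10 LD2_c3 LD3_c13)) = (LP (LK LD1_c10 LD2_c14 LD3_c50)) :=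
  Lgr Lrot25 (Lpr_bt (f257553 IH) (Lpr_ft (K26.f364471 IH) (Lpr_bt (f258063 IH) (Lpn (LP (LK LD1_c10 LD2_c14 LD3_c50))))))
theorem f377980 : Led Lsl_ft (LP (LK LD1_c10 LD2_c3 LD3_c13)) = (LP (LK LD1_c10 LD2_c14 LD3_c50)) :=
  Lgr Lrot48 (Lpr_ff (f364473 IH) (Lpn (LP (LK LD1_c10 LD2_c14 LD3_c50))))
theorem f258079 : Led Lsl_ct (LP (LK LD1_c10 LD2_c14 LD3_c50)) = (LP (LK LD1_c18 LD2_c38 LD3_c44)) :=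
  Lre_c IH (LK LD1_c10 LD2_c14 LD3_c50) (LK LD1_c18 LD2_c38 LD3_c44) Lrfl Lrfl
theorem f364501 : Led Lsl_ft (LP (LK LD1_c5 LD2_c17 LD3_c32)) = (LP (LK LD1_c10 LD2_c20 LD3_c29)) :=
  Lgr Lrot4 (Lpe (K14.f188402 IH) (Lpr_ff (K26.f364499 IH) (Lpe (K18.f49909 IH) (Lpn (LP (LK LD1_c10 LD2_c20 LD3_c29))))))
theorem f188291 : Led Lsl_bt (LP (LK LD1_c10 LD2_c24 LD3_c40)) = (LP (LK LD1_c5 LD2_c17 LD3_c32)) :=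
  Lre_b IH (LK LD1_c10 LD2_c24 LD3_c40) (LK LD1_c5 LD2_c17 LD3_c32) Lrfl Lrfl
theorem f258046 : Led Lsl_bt (LP (LK LD1_c10 LD2_c14 LD3_c50)) = (LP (LK LD1_c5 LD2_c12 LD3_c1)) :=
  Lre_b IH (LK LD1_c10 LD2_c14 LD3_c50) (LK LD1_c5 LD2_c12 LD3_c1) Lrfl Lrfl
theorem f258047 : Led Lsl_ct (LP (LK LD1_c18 LD2_c38 LD3_c44)) = (LP (LK LD1_c10 LD2_c14 LD3_c50)) :=
  Lre_c IH (LK LD1_c18 LD2_c38 LD3_c44) (LK LD1_c10 LD2_c14 LD3_c50) Lrfl Lrfl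
theorem f258048 : Led Lsl_bf (LP (LK LD1_c18 LD2_c38 LD3_c44)) = (LP (LK LD1_c10 LD2_c20 LD3_c29)) :=
  Lgr Lrot90 (Lpr_ct (f258047 IH) (Lpr_bt (f258046 IH) (Lpr_ct (K15.f258044 IH) (Lpe (K26.f237077 IH) (Lpr_ct (K14.f49907 IH) (Lpn (LP (LK LD1_c10 LD2_c20 LD3_c29))))))))
theorem f377968 : Led Lsl_ff (LP (LK LD1_c10 LD2_c24 LD3_c40)) = (LP (LK LD1_c18 LD2_c38 LD3_c44)) :=
  Lgr Lrot25 (Lpr_bt (f188291 IH) (Lpr_ft (f364501 IH) (Lpe (f258048 IH) (Lpn (LP (LK LD1_c18 LD2_c38 LD3_c44))))))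
theorem f377982 : Led Lsl_cf (LP (LK LD1_c10 LD2_c3 LD3_c13)) = (LP (LK LD1_c10 LD2_c24 LD3_c40)) :=
  Lgr Lrot108 (Lpr_ft (f377980 IH) (Lpr_ct (f258079 IH) (Lpe (f377968 IH) (Lpn (LP (LK LD1_c10 LD2_c24 LD3_c40))))))
theorem f193150 : Led Lsl_gt (LP (LK LD1_c18 LD2_c53 LD3_c45)) = (LP (LK LD1_c10 LD2_c24 LD3_c55)) :=
  Lre_g IH (LK LD1_c18 LD2_c53 LD3_c45) (LK LD1_c10 LD2_c24 LD3_c55) Lrfl Lrfl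
theorem f184120 : Led Lsl_bt (LP (LK LD1_c5 LD2_c0 LD3_c60)) = (LP (LK LD1_c9 LD2_c52 LD3_c21)) :=
  Lre_b IH (LK LD1_c5 LD2_c0 LD3_c60) (LK LD1_c9 LD2_c52 LD3_c21) Lrfl Lrfl
theorem f184121 : Led Lsl_gt (LP (LK LD1_c9 LD2_c52 LD3_c21)) = (LP (LK LD1_c18 LD2_c4 LD3_c19)) :=
  Lre_g IH (LK LD1_c9 LD2_c52 LD3_c21) (LK LD1_c18 LD2_c4 LD3_c19) Lrfl Lrfl
theorem f188412 : Led Lsl_bt (LP (LK LD1_c27 LD2_c45 LD3_c58)) = (LP (LK LD1_c18 LD2_c4 LD3_c19)) :=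
  Lre_b IH (LK LD1_c27 LD2_c45 LD3_c58) (LK LD1_c18 LD2_c4 LD3_c19) Lrfl Lrfl
theorem f257787 : Led Lsl_cf (LP (LK LD1_c18 LD2_c53 LD3_c45)) = (LP (LK LD1_c27 LD2_c45 LD3_c58)) :=
  Lgr Lrot160 (Lpr_gt (f193150 IH) (Lpe (f193145 IH) (Lpr_bt (f193148 IH) (Lpr_gt (K15.f257781 IH) (Lpe (K15.f188404 IH) (Lpr_gt (K14.f170516 IH) (Lpe (K17.f165864 IH) (Lpr_bt (f184120 IH) (Lpr_gt (f184121 IH) (Lpe (f188412 IH) (Lpn (LP (LK LD1_c27 LD2_c45 LD3_c58)))))))))))))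
theorem f584756 : Led Lsl_gt (LP (LK LD1_c27 LD2_c32 LD3_c25)) = (LP (LK LD1_c27 LD2_c45 LD3_c58)) :=
  Lgr Lrot82 (Lpr_bf (f230238 IH) (Lpr_ct (K19.f166006 IH) (Lpr_gf (f584750 IH) (Lpr_cf (f377982 IH) (Lpr_bt (f188291 IH) (Lpe (K15.f257781 IH) (Lpe (f193148 IH) (Lpr_ct (f193145 IH) (Lpe (f193150 IH) (Lpr_cf (f257787 IH) (Lpn (LP (LK LD1_c27 LD2_c45 LD3_c58)))))))))))))
theorem f544834 : Led Lsl_gf (LP (LK LD1_c17 LD2_c46 LD3_c2)) = (LP (LK LD1_c18 LD2_c33 LD3_c1)) :=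
  Lgr Lrot76 (Lpe (K37.f307551 IH) (Lpe (K37.f307552 IH) (Lpr_gt (K37.f544832 IH) (Lpn (LP (LK LD1_c18 LD2_c33 LD3_c1))))))
theorem f584461 : Led Lsl_bf (LP (LK LD1_c17 LD2_c47 LD3_c0)) = (LP (LK LD1_c18 LD2_c13 LD3_c13)) :=
  Lgr Lrot24 (Lpr_bt (f584459 IH) (Lpn (LP (LK LD1_c18 LD2_c13 LD3_c13))))
theorem f584492 : Led Lsl_df (LP (LK LD1_c18 LD2_c33 LD3_c1)) = (LP (LK LD1_c17 LD2_c47 LD3_c0)) :=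
  Lgr Lrot12 (Lpr_bt (K37.f248241 IH) (Lpr_dt (f584489 IH) (Lpe (f584461 IH) (Lpn (LP (LK LD1_c17 LD2_c47 LD3_c0))))))
theorem f248833 : Led Lsl_bt (LP (LK LD1_c5 LD2_c3 LD3_c27)) = (LP (LK LD1_c2 LD2_c29 LD3_c15)) :=
  Lre_b IH (LK LD1_c5 LD2_c3 LD3_c27) (LK LD1_c2 LD2_c29 LD3_c15) Lrfl Lrfl
theorem f248856 : Led Lsl_ff (LP (LK LD1_c5 LD2_c3 LD3_c27)) = (LP (LK LD1_c5 LD2_c11 LD3_c0)) :=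
  Lgr Lrot25 (Lpr_bt (f248833 IH) (Lpr_ft (K14.f248844 IH) (Lpr_bt (f181077 IH) (Lpn (LP (LK LD1_c5 LD2_c11 LD3_c0))))))
theorem f343593 : Led Lsl_at (LP (LK LD1_c5 LD2_c3 LD3_c27)) = (LP (LK LD1_c9 LD2_c57 LD3_c48)) :=
  Lre_a IH (LK LD1_c5 LD2_c3 LD3_c27) (LK LD1_c9 LD2_c57 LD3_c48) Lrfl Lrfl
theorem f583326 : Led Lsl_gf (LP (LK LD1_c9 LD2_c57 LD3_c48)) = (LP (LK LD1_c9 LD2_c56 LD3_c1)) :=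
  Lgr Lrot76 (Lpe (f343593 IH) (Lpr_ff (f248856 IH) (Lpr_gt (f583324 IH) (Lpn (LP (LK LD1_c9 LD2_c56 LD3_c1))))))
theorem f248963 : Led Lsl_dt (LP (LK LD1_c9 LD2_c57 LD3_c48)) = (LP (LK LD1_c5 LD2_c3 LD3_c26)) :=
  Lre_d IH (LK LD1_c9 LD2_c57 LD3_c48) (LK LD1_c5 LD2_c3 LD3_c26) Lrfl Lrfl
theorem f248965 : Led Lsl_dt (LP (LK LD1_c18 LD2_c13 LD3_c11)) = (LP (LK LD1_c9 LD2_c57 LD3_c26)) :=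
  Lre_d IH (LK LD1_c18 LD2_c13 LD3_c11) (LK LD1_c9 LD2_c57 LD3_c26) Lrfl Lrfl
theorem f3788 : Led Lsl_dt (LP (LK LD1_c5 LD2_c2 LD3_c33)) = (LP (LK LD1_c9 LD2_c56 LD3_c1)) :=
  Lre_d IH (LK LD1_c5 LD2_c2 LD3_c33) (LK LD1_c9 LD2_c56 LD3_c1) Lrfl Lrfl
theorem f216149 : Led Lsl_dt (LP (LK LD1_c9 LD2_c55 LD3_c7)) = (LP (LK LD1_c18 LD2_c9 LD3_c23)) :=
  Lre_d IH (LK LD1_c9 LD2_c55 LD3_c7) (LK LD1_c18 LD2_c9 LD3_c23) Lrfl Lrfl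
theorem f583331 : Led Lsl_gf (LP (LK LD1_c18 LD2_c13 LD3_c11)) = (LP (LK LD1_c18 LD2_c9 LD3_c23)) :=
  Lgr Lrot143 (Lpr_dt (f248965 IH) (Lpe (K37.f248966 IH) (Lpe (f248963 IH) (Lpr_gf (f583326 IH) (Lpe (f3788 IH) (Lpe (f3787 IH) (Lpe (f165340 IH) (Lpr_gt (f216148 IH) (Lpr_dt (f216149 IH) (Lpn (LP (LK LD1_c18 LD2_c9 LD3_c23))))))))))))
theorem f343445 : Led Lsl_at (LP (LK LD1_c9 LD2_c57 LD3_c27)) = (LP (LK LD1_c18 LD2_c13 LD3_c11)) :=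
  Lre_a IH (LK LD1_c9 LD2_c57 LD3_c27) (LK LD1_c18 LD2_c13 LD3_c11) Lrfl Lrfl
theorem f343447 : Led Lsl_ff (LP (LK LD1_c9 LD2_c57 LD3_c27)) = (LP (LK LD1_c10 LD2_c12 LD3_c24)) :=
  Lgr Lrot30 (Lpr_at (f343445 IH) (Lpr_ft (K37.f343440 IH) (Lpr_at (K37.f343446 IH) (Lpn (LP (LK LD1_c10 LD2_c12 LD3_c24))))))
theorem f583333 : Led Lsl_gt (LP (LK LD1_c10 LD2_c12 LD3_c24)) = (LP (LK LD1_c18 LD2_c9 LD3_c23)) :=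
  Lgr Lrot5 (Lpe (f343447 IH) (Lpr_at (f343445 IH) (Lpr_gf (f583331 IH) (Lpn (LP (LK LD1_c18 LD2_c9 LD3_c23))))))
theorem f230418 : Led Lsl_bt (LP (LK LD1_c5 LD2_c10 LD3_c54)) = (LP (LK LD1_c10 LD2_c12 LD3_c24)) :=
  Lre_b IH (LK LD1_c5 LD2_c10 LD3_c54) (LK LD1_c10 LD2_c12 LD3_c24) Lrfl Lrfl
theorem f583340 : Led Lsl_bt (LP (LK LD1_c17 LD2_c45 LD3_c52)) = (LP (LK LD1_c18 LD2_c9 LD3_c23)) :=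
  Lgr Lrot92 (Lpr_ct (f283905 IH) (Lpe (f583282 IH) (Lpe (f230042 IH) (Lpr_bt (f230374 IH) (Lpe (K15.f266159 IH) (Lpr_ct (K15.f249476 IH) (Lpr_gt (K15.f266141 IH) (Lpe (K19.f248111 IH) (Lpr_bt (f230418 IH) (Lpr_gt (f583333 IH) (Lpn (LP (LK LD1_c18 LD2_c9 LD3_c23)))))))))))))
theorem f300233 : Led Lsl_et (LP (LK LD1_c27 LD2_c32 LD3_c7)) = (LP (LK LD1_c17 LD2_c45 LD3_c52)) :=
  Lre_e IH (LK LD1_c27 LD2_c32 LD3_c7) (LK LD1_c17 LD2_c45 LD3_c52) Lrfl Lrfl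
theorem f299691 : Led Lsl_et (LP (LK LD1_c18 LD2_c9 LD3_c23)) = (LP (LK LD1_c27 LD2_c49 LD3_c49)) :=
  Lre_e IH (LK LD1_c18 LD2_c9 LD3_c23) (LK LD1_c27 LD2_c49 LD3_c49) Lrfl Lrfl
theorem f583348 : Led Lsl_bf (LP (LK LD1_c27 LD2_c32 LD3_c7)) = (LP (LK LD1_c27 LD2_c49 LD3_c49)) :=
  Lgr Lrot96 (Lpr_et (f300233 IH) (Lpr_bt (f583340 IH) (Lpr_et (f299691 IH) (Lpn (LP (LK LD1_c27 LD2_c49 LD3_c49))))))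
theorem f300234 : Led Lsl_dt (LP (LK LD1_c27 LD2_c32 LD3_c7)) = (LP (LK LD1_c32 LD2_c25 LD3_c35)) :=
  Lre_d IH (LK LD1_c27 LD2_c32 LD3_c7) (LK LD1_c32 LD2_c25 LD3_c35) Lrfl Lrfl
theorem f583353 : Led Lsl_dt (LP (LK LD1_c32 LD2_c28 LD3_c54)) = (LP (LK LD1_c27 LD2_c49 LD3_c49)) :=
  Lre_d IH (LK LD1_c32 LD2_c28 LD3_c54) (LK LD1_c27 LD2_c49 LD3_c49) Lrfl Lrfl
theorem f583354 : Led Lsl_bt (LP (LK LD1_c32 LD2_c25 LD3_c35)) = (LP (LK LD1_c32 LD2_c28 LD3_c54)) :=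
  Lgr Lrot95 (Lpe (f300234 IH) (Lpr_bf (f583348 IH) (Lpe (f583353 IH) (Lpn (LP (LK LD1_c32 LD2_c28 LD3_c54))))))
theorem f583360 : Led Lsl_et (LP (LK LD1_c32 LD2_c28 LD3_c54)) = (LP (LK LD1_c27 LD2_c49 LD3_c51)) :=
  Lre_e IH (LK LD1_c32 LD2_c28 LD3_c54) (LK LD1_c27 LD2_c49 LD3_c51) Lrfl Lrfl
theorem f583361 : Led Lsl_bt (LP (LK LD1_c27 LD2_c49 LD3_c51)) = (LP (LK LD1_c32 LD2_c28 LD3_c52)) :=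
  Lre_b IH (LK LD1_c27 LD2_c49 LD3_c51) (LK LD1_c32 LD2_c28 LD3_c52) Lrfl Lrfl
theorem f583362 : Led Lsl_ef (LP (LK LD1_c32 LD2_c25 LD3_c35)) = (LP (LK LD1_c32 LD2_c28 LD3_c52)) :=
  Lgr Lrot29 (Lpr_bt (f583354 IH) (Lpr_et (f583360 IH) (Lpr_bt (f583361 IH) (Lpn (LP (LK LD1_c32 LD2_c28 LD3_c52))))))
theorem f583364 : Led Lsl_dt (LP (LK LD1_c32 LD2_c25 LD3_c35)) = (LP (LK LD1_c27 LD2_c32 LD3_c7)) :=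
  Lre_d IH (LK LD1_c32 LD2_c25 LD3_c35) (LK LD1_c27 LD2_c32 LD3_c7) Lrfl Lrfl
theorem f249506 : Led Lsl_dt (LP (LK LD1_c27 LD2_c49 LD3_c46)) = (LP (LK LD1_c32 LD2_c28 LD3_c52)) :=
  Lre_d IH (LK LD1_c27 LD2_c49 LD3_c46) (LK LD1_c32 LD2_c28 LD3_c52) Lrfl Lrfl
theorem f249518 : Led Lsl_et (LP (LK LD1_c18 LD2_c9 LD3_c21)) = (LP (LK LD1_c27 LD2_c49 LD3_c46)) :=
  Lre_e IH (LK LD1_c18 LD2_c9 LD3_c21) (LK LD1_c27 LD2_c49 LD3_c46) Lrfl Lrfl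
theorem f583365 : Led Lsl_dt (LP (LK LD1_c17 LD2_c45 LD3_c52)) = (LP (LK LD1_c18 LD2_c9 LD3_c21)) :=
  Lgr Lrot77 (Lpe (f300233 IH) (Lpe (f583364 IH) (Lpr_ef (f583362 IH) (Lpe (f249506 IH) (Lpe (f249518 IH) (Lpn (LP (LK LD1_c18 LD2_c9 LD3_c21))))))))
theorem f294396 : Led Lsl_dt (LP (LK LD1_c10 LD2_c25 LD3_c33)) = (LP (LK LD1_c18 LD2_c54 LD3_c43)) :=
  Lre_d IH (LK LD1_c10 LD2_c25 LD3_c33) (LK LD1_c18 LD2_c54 LD3_c43) Lrfl Lrfl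
theorem f249494 : Led Lsl_cf (LP (LK LD1_c18 LD2_c9 LD3_c21)) = (LP (LK LD1_c10 LD2_c24 LD3_c61)) :=
  Lgr Lrot11 (Lpr_ct (f249481 IH) (Lpn (LP (LK LD1_c10 LD2_c24 LD3_c61))))
theorem f249501 : Led Lsl_dt (LP (LK LD1_c18 LD2_c53 LD3_c56)) = (LP (LK LD1_c10 LD2_c24 LD3_c61)) :=
  Lre_d IH (LK LD1_c18 LD2_c53 LD3_c56) (LK LD1_c10 LD2_c24 LD3_c61) Lrfl Lrfl
theorem f583372 : Led Lsl_gt (LP (LK LD1_c18 LD2_c54 LD3_c43)) = (LP (LK LD1_c18 LD2_c53 LD3_c56)) :=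
  Lgr Lrot49 (Lpe (f294396 IH) (Lpe (K37.f294394 IH) (Lpr_cf (K37.f544741 IH) (Lpr_gt (K37.f300254 IH) (Lpr_dt (K18.f299813 IH) (Lpe (f300231 IH) (Lpr_dt (f583365 IH) (Lpr_cf (f249494 IH) (Lpe (f249501 IH) (Lpn (LP (LK LD1_c18 LD2_c53 LD3_c56))))))))))))
theorem f230020 : Led Lsl_dt (LP (LK LD1_c10 LD2_c23 LD3_c45)) = (LP (LK LD1_c18 LD2_c51 LD3_c45)) :=
  Lre_d IH (LK LD1_c10 LD2_c23 LD3_c45) (LK LD1_c18 LD2_c51 LD3_c45) Lrfl Lrfl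
theorem f294364 : Led Lsl_dt (LP (LK LD1_c10 LD2_c25 LD3_c34)) = (LP (LK LD1_c5 LD2_c17 LD3_c57)) :=
  Lre_d IH (LK LD1_c10 LD2_c25 LD3_c34) (LK LD1_c5 LD2_c17 LD3_c57) Lrfl Lrfl
theorem f294403 : Led Lsl_ft (LP (LK LD1_c18 LD2_c51 LD3_c45)) = (LP (LK LD1_c10 LD2_c25 LD3_c34)) :=
  Lgr Lrot54 (Lpe (f230020 IH) (Lpr_ff (K37.f294392 IH) (Lpe (f294364 IH) (Lpn (LP (LK LD1_c10 LD2_c25 LD3_c34))))))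
theorem f294408 : Led Lsl_at (LP (LK LD1_c28 LD2_c19 LD3_c60)) = (LP (LK LD1_c18 LD2_c51 LD3_c45)) :=
  Lre_a IH (LK LD1_c28 LD2_c19 LD3_c60) (LK LD1_c18 LD2_c51 LD3_c45) Lrfl Lrfl
theorem f251239 : Led Lsl_at (LP (LK LD1_c10 LD2_c25 LD3_c34)) = (LP (LK LD1_c18 LD2_c54 LD3_c43)) :=
  Lre_a IH (LK LD1_c10 LD2_c25 LD3_c34) (LK LD1_c18 LD2_c54 LD3_c43) Lrfl Lrfl
theorem f294409 : Led Lsl_ff (LP (LK LD1_c28 LD2_c19 LD3_c60)) = (LP (LK LD1_c18 LD2_c54 LD3_c43)) :=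
  Lgr Lrot30 (Lpr_at (f294408 IH) (Lpr_ft (f294403 IH) (Lpr_at (f251239 IH) (Lpn (LP (LK LD1_c18 LD2_c54 LD3_c43))))))
theorem f583374 : Led Lsl_gf (LP (LK LD1_c18 LD2_c51 LD3_c45)) = (LP (LK LD1_c18 LD2_c53 LD3_c56)) :=
  Lgr Lrot76 (Lpe (f294408 IH) (Lpr_ff (f294409 IH) (Lpr_gt (f583372 IH) (Lpn (LP (LK LD1_c18 LD2_c53 LD3_c56))))))
theorem f230026 : Led Lsl_dt (LP (LK LD1_c18 LD2_c51 LD3_c45)) = (LP (LK LD1_c10 LD2_c23 LD3_c45)) :=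
  Lre_d IH (LK LD1_c18 LD2_c51 LD3_c45) (LK LD1_c10 LD2_c23 LD3_c45) Lrfl Lrfl
theorem f230018 : Led Lsl_dt (LP (LK LD1_c17 LD2_c46 LD3_c16)) = (LP (LK LD1_c9 LD2_c39 LD3_c45)) :=
  Lre_d IH (LK LD1_c17 LD2_c46 LD3_c16) (LK LD1_c9 LD2_c39 LD3_c45) Lrfl Lrfl
theorem f230025 : Led Lsl_gt (LP (LK LD1_c27 LD2_c32 LD3_c54)) = (LP (LK LD1_c17 LD2_c46 LD3_c16)) :=
  Lre_g IH (LK LD1_c27 LD2_c32 LD3_c54) (LK LD1_c17 LD2_c46 LD3_c16) Lrfl Lrfl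
theorem f249496 : Led Lsl_dt (LP (LK LD1_c10 LD2_c24 LD3_c61)) = (LP (LK LD1_c18 LD2_c53 LD3_c56)) :=
  Lre_d IH (LK LD1_c10 LD2_c24 LD3_c61) (LK LD1_c18 LD2_c53 LD3_c56) Lrfl Lrfl
theorem f193151 : Led Lsl_at (LP (LK LD1_c18 LD2_c53 LD3_c46)) = (LP (LK LD1_c10 LD2_c24 LD3_c55)) :=
  Lre_a IH (LK LD1_c18 LD2_c53 LD3_c46) (LK LD1_c10 LD2_c24 LD3_c55) Lrfl Lrfl
theorem f409563 : Led Lsl_gf (LP (LK LD1_c18 LD2_c53 LD3_c45)) = (LP (LK LD1_c18 LD2_c58 LD3_c10)) :=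
  Lgr Lrot47 (Lpr_gt (f193150 IH) (Lpe (f193151 IH) (Lpr_ff (f409554 IH) (Lpn (LP (LK LD1_c18 LD2_c58 LD3_c10))))))
theorem f583378 : Led Lsl_df (LP (LK LD1_c27 LD2_c32 LD3_c54)) = (LP (LK LD1_c18 LD2_c53 LD3_c45)) :=
  Lgr Lrot153 (Lpr_gt (f230025 IH) (Lpr_dt (f230018 IH) (Lpr_cf (K37.f230016 IH) (Lpe (f230026 IH) (Lpr_gf (f583374 IH) (Lpe (f249496 IH) (Lpr_gf (f409568 IH) (Lpr_cf (f254603 IH) (Lpe (f409563 IH) (Lpn (LP (LK LD1_c18 LD2_c53 LD3_c45))))))))))))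
theorem f584758 : Led Lsl_ct (LP (LK LD1_c18 LD2_c11 LD3_c21)) = (LP (LK LD1_c27 LD2_c32 LD3_c54)) :=
  Lgr Lrot151 (Lpe (f300037 IH) (Lpe (f288400 IH) (Lpe (f249527 IH) (Lpe (f584492 IH) (Lpe (f544834 IH) (Lpr_ct (K19.f230261 IH) (Lpr_gt (f584756 IH) (Lpe (f257787 IH) (Lpe (f583378 IH) (Lpn (LP (LK LD1_c27 LD2_c32 LD3_c54))))))))))))
theorem f229958 : Led Lsl_gt (LP (LK LD1_c9 LD2_c39 LD3_c45)) = (LP (LK LD1_c17 LD2_c46 LD3_c13)) :=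
  Lre_g IH (LK LD1_c9 LD2_c39 LD3_c45) (LK LD1_c17 LD2_c46 LD3_c13) Lrfl Lrfl
theorem f229959 : Led Lsl_bt (LP (LK LD1_c27 LD2_c32 LD3_c46)) = (LP (LK LD1_c17 LD2_c46 LD3_c13)) :=
  Lre_b IH (LK LD1_c27 LD2_c32 LD3_c46) (LK LD1_c17 LD2_c46 LD3_c13) Lrfl Lrfl
theorem f343543 : Led Lsl_ct (LP (LK LD1_c27 LD2_c32 LD3_c46)) = (LP (LK LD1_c18 LD2_c14 LD3_c19)) :=
  Lgr Lrot64 (Lpr_bt (f229959 IH) (Lpe (f229958 IH) (Lpe (K37.f229955 IH) (Lpe (K14.f229947 IH) (Lpe (K14.f33116 IH) (Lpe (K1.f28270 IH) (Lpe (K12.f230551 IH) (Lpe (K37.f230554 IH) (Lpr_ct (f343537 IH) (Lpe (f249747 IH) (Lpn (LP (LK LD1_c18 LD2_c14 LD3_c19)))))))))))))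
theorem f585557 : Led Lsl_dt (LP (LK LD1_c17 LD2_c46 LD3_c13)) = (LP (LK LD1_c27 LD2_c32 LD3_c46)) :=
  Lgr Lrot105 (Lpe (f229958 IH) (Lpe (f230018 IH) (Lpe (f230025 IH) (Lpe (f584758 IH) (Lpr_gt (f300038 IH) (Lpr_dt (K18.f300000 IH) (Lpe (f300004 IH) (Lpr_dt (f585552 IH) (Lpe (f343543 IH) (Lpn (LP (LK LD1_c27 LD2_c32 LD3_c46))))))))))))
theorem f583702 : Led Lsl_dt (LP (LK LD1_c28 LD2_c22 LD3_c2)) = (LP (LK LD1_c25 LD2_c24 LD3_c5)) :=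
  Lgr Lrot42 (Lpr_df (f583698 IH) (Lpn (LP (LK LD1_c25 LD2_c24 LD3_c5))))
theorem f343546 : Led Lsl_bt (LP (LK LD1_c18 LD2_c14 LD3_c19)) = (LP (LK LD1_c27 LD2_c54 LD3_c34)) :=
  Lre_b IH (LK LD1_c18 LD2_c14 LD3_c19) (LK LD1_c27 LD2_c54 LD3_c34) Lrfl Lrfl
theorem f585564 : Led Lsl_gf (LP (LK LD1_c28 LD2_c22 LD3_c2)) = (LP (LK LD1_c27 LD2_c54 LD3_c34)) :=
  Lgr Lrot85 (Lpr_dt (f583702 IH) (Lpr_ct (f49639 IH) (Lpr_bt (K13.f49638 IH) (Lpe (K16.f273626 IH) (Lpr_dt (f189522 IH) (Lpr_ct (K19.f183696 IH) (Lpr_bt (K16.f189532 IH) (Lpr_gt (K15.f28266 IH) (Lpe (K15.f192228 IH) (Lpr_ct (K15.f266133 IH) (Lpr_bt (K15.f256282 IH) (Lpe (K15.f256268 IH) (Lpr_dt (K14.f33117 IH) (Lpr_ct (K14.f229949 IH) (Lpr_bt (K37.f229955 IH) (Lpr_gt (f229958 IH) (Lpr_dt (f585557 IH) (Lpr_ct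 (f343543 IH) (Lpr_bt (f343546 IH) (Lpn (LP (LK LD1_c27 LD2_c54 LD3_c34))))))))))))))))))))))
theorem f188463 : Led Lsl_gt (LP (LK LD1_c18 LD2_c54 LD3_c17)) = (LP (LK LD1_c15 LD2_c31 LD3_c2)) :=
  Lgr Lrot46 (Lpe (f188333 IH) (Lpr_ft (K13.f188450 IH) (Lpr_at (K14.f45034 IH) (Lpn (LP (LK LD1_c15 LD2_c31 LD3_c2))))))
theorem f343547 : Led Lsl_cf (LP (LK LD1_c27 LD2_c32 LD3_c46)) = (LP (LK LD1_c18 LD2_c14 LD3_c19)) :=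
  Lgr Lrot11 (Lpr_ct (f343543 IH) (Lpn (LP (LK LD1_c18 LD2_c14 LD3_c19))))
theorem f585569 : Led Lsl_gt (LP (LK LD1_c17 LD2_c46 LD3_c39)) = (LP (LK LD1_c27 LD2_c32 LD3_c46)) :=
  Lgr Lrot65 (Lpe (K38.f43582 IH) (Lpr_bt (f584096 IH) (Lpr_gf (f214975 IH) (Lpr_bf (K13.f43855 IH) (Lpr_ct (K13.f51308 IH) (Lpe (f188463 IH) (Lpe (f188465 IH) (Lpr_gf (f585564 IH) (Lpe (f343546 IH) (Lpe (f343547 IH) (Lpn (LP (LK LD1_c27 LD2_c32 LD3_c46)))))))))))))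
theorem f43580 : Led Lsl_dt (LP (LK LD1_c4 LD2_c54 LD3_c10)) = (LP (LK LD1_c9 LD2_c39 LD3_c49)) :=
  Lre_d IH (LK LD1_c4 LD2_c54 LD3_c10) (LK LD1_c9 LD2_c39 LD3_c49) Lrfl Lrfl
theorem f582694 : Led Lsl_ct (LP (LK LD1_c9 LD2_c39 LD3_c56)) = (LP (LK LD1_c5 LD2_c19 LD3_c34)) :=
  Lgr Lrot8 (Lpe (K14.f43578 IH) (Lpr_dt (K14.f43567 IH) (Lpr_gt (K12.f43495 IH) (Lpr_dt (f43580 IH) (Lpr_cf (K15.f230333 IH) (Lpe (K15.f44905 IH) (Lpe (K9.f44904 IH) (Lpe (K14.f28257 IH) (Lpr_gf (f582691 IH) (Lpn (LP (LK LD1_c5 LD2_c19 LD3_c34))))))))))))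
theorem f289921 : Led Lsl_ft (LP (LK LD1_c9 LD2_c40 LD3_c8)) = (LP (LK LD1_c9 LD2_c39 LD3_c36)) :=
  Lgr Lrot54 (Lpe (K14.f193135 IH) (Lpr_ff (K17.f289917 IH) (Lpe (K14.f190636 IH) (Lpn (LP (LK LD1_c9 LD2_c39 LD3_c36))))))
theorem f299616 : Led Lsl_at (LP (LK LD1_c9 LD2_c39 LD3_c36)) = (LP (LK LD1_c5 LD2_c2 LD3_c12)) :=
  Lgr Lrot66 (Lpe (f289921 IH) (Lpe (K18.f299606 IH) (Lpr_ff (K18.f299614 IH) (Lpn (LP (LK LD1_c5 LD2_c2 LD3_c12))))))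
theorem f582713 : Led Lsl_gt (LP (LK LD1_c9 LD2_c40 LD3_c8)) = (LP (LK LD1_c5 LD2_c19 LD3_c6)) :=
  Lgr Lrot5 (Lpr_ft (f289921 IH) (Lpr_at (f299616 IH) (Lpr_gf (f582710 IH) (Lpn (LP (LK LD1_c5 LD2_c19 LD3_c6))))))
theorem f343545 : Led Lsl_bt (LP (LK LD1_c17 LD2_c46 LD3_c13)) = (LP (LK LD1_c27 LD2_c32 LD3_c46)) :=
  Lre_b IH (LK LD1_c17 LD2_c46 LD3_c13) (LK LD1_c27 LD2_c32 LD3_c46) Lrfl Lrfl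
theorem f229960 : Led Lsl_ct (LP (LK LD1_c17 LD2_c46 LD3_c13)) = (LP (LK LD1_c27 LD2_c32 LD3_c47)) :=
  Lre_c IH (LK LD1_c17 LD2_c46 LD3_c13) (LK LD1_c27 LD2_c32 LD3_c47) Lrfl Lrfl
theorem f585573 : Led Lsl_gf (LP (LK LD1_c27 LD2_c33 LD3_c52)) = (LP (LK LD1_c27 LD2_c32 LD3_c47)) :=
  Lgr Lrot126 (Lpe (K18.f233457 IH) (Lpr_bt (K18.f233456 IH) (Lpr_gt (f582713 IH) (Lpr_ct (K1.f44200 IH) (Lpr_gt (f44187 IH) (Lpe (f582694 IH) (Lpr_bt (K38.f248182 IH) (Lpr_gt (f585569 IH) (Lpe (f343545 IH) (Lpr_ct (f229960 IH) (Lpn (LP (LK LD1_c27 LD2_c32 LD3_c47)))))))))))))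
theorem f406736 : Led Lsl_gt (LP (LK LD1_c18 LD2_c11 LD3_c22)) = (LP (LK LD1_c9 LD2_c56 LD3_c26)) :=
  Lre_g IH (LK LD1_c18 LD2_c11 LD3_c22) (LK LD1_c9 LD2_c56 LD3_c26) Lrfl Lrfl
theorem f230053 : Led Lsl_gt (LP (LK LD1_c17 LD2_c46 LD3_c16)) = (LP (LK LD1_c27 LD2_c32 LD3_c53)) :=
  Lre_g IH (LK LD1_c17 LD2_c46 LD3_c16) (LK LD1_c27 LD2_c32 LD3_c53) Lrfl Lrfl
theorem f585577 : Led Lsl_cf (LP (LK LD1_c18 LD2_c11 LD3_c22)) = (LP (LK LD1_c27 LD2_c32 LD3_c53)) :=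
  Lgr Lrot169 (Lpr_gt (f406736 IH) (Lpr_ct (K18.f299808 IH) (Lpe (f288408 IH) (Lpe (K18.f249375 IH) (Lpr_gf (f585573 IH) (Lpe (f229960 IH) (Lpe (f229958 IH) (Lpe (f230018 IH) (Lpr_gt (f230053 IH) (Lpn (LP (LK LD1_c27 LD2_c32 LD3_c53))))))))))))
theorem f248221 : Led Lsl_gt (LP (LK LD1_c10 LD2_c27 LD3_c51)) = (LP (LK LD1_c18 LD2_c58 LD3_c8)) :=
  Lre_g IH (LK LD1_c10 LD2_c27 LD3_c51) (LK LD1_c18 LD2_c58 LD3_c8) Lrfl Lrfl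
theorem f585587 : Led Lsl_bf (LP (LK LD1_c18 LD2_c58 LD3_c8)) = (LP (LK LD1_c27 LD2_c32 LD3_c53)) :=
  Lgr Lrot34 (Lpe (f248221 IH) (Lpe (f248229 IH) (Lpr_ct (K10.f184850 IH) (Lpe (K14.f249429 IH) (Lpe (K14.f165318 IH) (Lpe (K17.f251631 IH) (Lpe (f251658 IH) (Lpr_ct (f288400 IH) (Lpe (f406736 IH) (Lpr_cf (f585577 IH) (Lpn (LP (LK LD1_c27 LD2_c32 LD3_c53)))))))))))))
theorem f248224 : Led Lsl_ct (LP (LK LD1_c18 LD2_c58 LD3_c8)) = (LP (LK LD1_c28 LD2_c25 LD3_c34)) :=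
  Lre_c IH (LK LD1_c18 LD2_c58 LD3_c8) (LK LD1_c28 LD2_c25 LD3_c34) Lrfl Lrfl
theorem f585581 : Led Lsl_ct (LP (LK LD1_c18 LD2_c11 LD3_c22)) = (LP (LK LD1_c27 LD2_c32 LD3_c53)) :=
  Lgr Lrot59 (Lpr_cf (f585577 IH) (Lpn (LP (LK LD1_c27 LD2_c32 LD3_c53))))
theorem f406740 : Led Lsl_bt (LP (LK LD1_c27 LD2_c51 LD3_c41)) = (LP (LK LD1_c18 LD2_c11 LD3_c22)) :=
  Lre_b IH (LK LD1_c27 LD2_c51 LD3_c41) (LK LD1_c18 LD2_c11 LD3_c22) Lrfl Lrfl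
theorem f409319 : Led Lsl_ct (LP (LK LD1_c32 LD2_c29 LD3_c20)) = (LP (LK LD1_c27 LD2_c51 LD3_c41)) :=
  Lre_c IH (LK LD1_c32 LD2_c29 LD3_c20) (LK LD1_c27 LD2_c51 LD3_c41) Lrfl Lrfl
theorem f585591 : Led Lsl_bt (LP (LK LD1_c28 LD2_c25 LD3_c34)) = (LP (LK LD1_c32 LD2_c29 LD3_c20)) :=
  Lgr Lrot128 (Lpe (f248224 IH) (Lpr_bf (f585587 IH) (Lpe (f585581 IH) (Lpe (f406740 IH) (Lpe (f409319 IH) (Lpn (LP (LK LD1_c32 LD2_c29 LD3_c20))))))))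
theorem f585593 : Led Lsl_bf (LP (LK LD1_c28 LD2_c25 LD3_c34)) = (LP (LK LD1_c32 LD2_c29 LD3_c20)) :=
  Lgr Lrot24 (Lpr_bt (f585591 IH) (Lpn (LP (LK LD1_c32 LD2_c29 LD3_c20))))
theorem f585571 : Led Lsl_gt (LP (LK LD1_c28 LD2_c25 LD3_c34)) = (LP (LK LD1_c27 LD2_c34 LD3_c7)) :=
  Lgr Lrot150 (Lpe (f248224 IH) (Lpe (f248221 IH) (Lpe (K38.f248183 IH) (Lpr_gt (f585569 IH) (Lpr_ct (f343543 IH) (Lpr_gt (f249747 IH) (Lpr_ct (f249637 IH) (Lpe (f307549 IH) (Lpe (K19.f248453 IH) (Lpn (LP (LK LD1_c27 LD2_c34 LD3_c7))))))))))))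
theorem f185527 : Led Lsl_ct (LP (LK LD1_c18 LD2_c36 LD3_c0)) = (LP (LK LD1_c10 LD2_c13 LD3_c0)) :=
  Lre_c IH (LK LD1_c18 LD2_c36 LD3_c0) (LK LD1_c10 LD2_c13 LD3_c0) Lrfl Lrfl
theorem f49964 : Led Lsl_dt (LP (LK LD1_c25 LD2_c25 LD3_c36)) = (LP (LK LD1_c15 LD2_c32 LD3_c14)) :=
  Lre_d IH (LK LD1_c25 LD2_c25 LD3_c36) (LK LD1_c15 LD2_c32 LD3_c14) Lrfl Lrfl
theorem f49795 : Led Lsl_bt (LP (LK LD1_c15 LD2_c31 LD3_c55)) = (LP (LK LD1_c8 LD2_c15 LD3_c35)) :=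
  Lre_b IH (LK LD1_c15 LD2_c31 LD3_c55) (LK LD1_c8 LD2_c15 LD3_c35) Lrfl Lrfl
theorem f49568 : Led Lsl_bt (LP (LK LD1_c8 LD2_c15 LD3_c53)) = (LP (LK LD1_c15 LD2_c32 LD3_c15)) :=
  Lre_b IH (LK LD1_c8 LD2_c15 LD3_c53) (LK LD1_c15 LD2_c32 LD3_c15) Lrfl Lrfl
theorem f49982 : Led Lsl_ff (LP (LK LD1_c15 LD2_c31 LD3_c55)) = (LP (LK LD1_c15 LD2_c32 LD3_c15)) :=
  Lgr Lrot25 (Lpr_bt (f49795 IH) (Lpr_ft (K13.f49980 IH) (Lpr_bt (f49568 IH) (Lpn (LP (LK LD1_c15 LD2_c32 LD3_c15))))))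
theorem f49991 : Led Lsl_ft (LP (LK LD1_c15 LD2_c31 LD3_c55)) = (LP (LK LD1_c15 LD2_c32 LD3_c15)) :=
  Lgr Lrot48 (Lpr_ff (f49982 IH) (Lpn (LP (LK LD1_c15 LD2_c32 LD3_c15))))
theorem f50001 : Led Lsl_gt (LP (LK LD1_c15 LD2_c31 LD3_c55)) = (LP (LK LD1_c25 LD2_c25 LD3_c6)) :=
  Lre_g IH (LK LD1_c15 LD2_c31 LD3_c55) (LK LD1_c25 LD2_c25 LD3_c6) Lrfl Lrfl
theorem f49997 : Led Lsl_at (LP (LK LD1_c15 LD2_c32 LD3_c15)) = (LP (LK LD1_c25 LD2_c25 LD3_c36)) :=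
  Lre_a IH (LK LD1_c15 LD2_c32 LD3_c15) (LK LD1_c25 LD2_c25 LD3_c36) Lrfl Lrfl
theorem f50002 : Led Lsl_gt (LP (LK LD1_c25 LD2_c25 LD3_c6)) = (LP (LK LD1_c25 LD2_c25 LD3_c36)) :=
  Lgr Lrot46 (Lpe (f50001 IH) (Lpr_ft (f49991 IH) (Lpr_at (f49997 IH) (Lpn (LP (LK LD1_c25 LD2_c25 LD3_c36))))))
theorem f251451 : Led Lsl_bt (LP (LK LD1_c10 LD2_c2 LD3_c6)) = (LP (LK LD1_c5 LD2_c5 LD3_c30)) :=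
  Lre_b IH (LK LD1_c10 LD2_c2 LD3_c6) (LK LD1_c5 LD2_c5 LD3_c30) Lrfl Lrfl
theorem f264205 : Led Lsl_bf (LP (LK LD1_c9 LD2_c55 LD3_c58)) = (LP (LK LD1_c5 LD2_c12 LD3_c15)) :=
  Lgr Lrot61 (Lpr_ft (K15.f264200 IH) (Lpr_bt (f251451 IH) (Lpe (K17.f264182 IH) (Lpn (LP (LK LD1_c5 LD2_c12 LD3_c15))))))
theorem f409179 : Led Lsl_gt (LP (LK LD1_c18 LD2_c10 LD3_c37)) = (LP (LK LD1_c9 LD2_c55 LD3_c58)) :=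
  Lre_g IH (LK LD1_c18 LD2_c10 LD3_c37) (LK LD1_c9 LD2_c55 LD3_c58) Lrfl Lrfl
theorem f242871 : Led Lsl_bt (LP (LK LD1_c27 LD2_c50 LD3_c49)) = (LP (LK LD1_c18 LD2_c10 LD3_c37)) :=
  Lre_b IH (LK LD1_c27 LD2_c50 LD3_c49) (LK LD1_c18 LD2_c10 LD3_c37) Lrfl Lrfl
theorem f242865 : Led Lsl_ct (LP (LK LD1_c27 LD2_c50 LD3_c49)) = (LP (LK LD1_c27 LD2_c50 LD3_c31)) :=
  Lre_c IH (LK LD1_c27 LD2_c50 LD3_c49) (LK LD1_c27 LD2_c50 LD3_c31) Lrfl Lrfl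
theorem f32254 : Led Lsl_bt (LP (LK LD1_c2 LD2_c35 LD3_c32)) = (LP (LK LD1_c5 LD2_c17 LD3_c33)) :=
  Lre_b IH (LK LD1_c2 LD2_c35 LD3_c32) (LK LD1_c5 LD2_c17 LD3_c33) Lrfl Lrfl
theorem f32255 : Led Lsl_gt (LP (LK LD1_c5 LD2_c17 LD3_c33)) = (LP (LK LD1_c10 LD2_c24 LD3_c43)) :=
  Lre_g IH (LK LD1_c5 LD2_c17 LD3_c33) (LK LD1_c10 LD2_c24 LD3_c43) Lrfl Lrfl
theorem f188299 : Led Lsl_ct (LP (LK LD1_c10 LD2_c24 LD3_c43)) = (LP (LK LD1_c18 LD2_c53 LD3_c23)) :=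
  Lre_c IH (LK LD1_c10 LD2_c24 LD3_c43) (LK LD1_c18 LD2_c53 LD3_c23) Lrfl Lrfl
theorem f412775 : Led Lsl_gf (LP (LK LD1_c27 LD2_c50 LD3_c31)) = (LP (LK LD1_c18 LD2_c53 LD3_c23)) :=
  Lgr Lrot129 (Lpe (f242865 IH) (Lpr_bt (f242871 IH) (Lpr_gt (f409179 IH) (Lpr_bf (f264205 IH) (Lpr_ct (K14.f185033 IH) (Lpe (K14.f250064 IH) (Lpe (K10.f48236 IH) (Lpr_bt (f32254 IH) (Lpr_gt (f32255 IH) (Lpr_ct (f188299 IH) (Lpn (LP (LK LD1_c18 LD2_c53 LD3_c23)))))))))))))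
theorem f242864 : Led Lsl_ct (LP (LK LD1_c27 LD2_c50 LD3_c31)) = (LP (LK LD1_c27 LD2_c50 LD3_c49)) :=
  Lre_c IH (LK LD1_c27 LD2_c50 LD3_c31) (LK LD1_c27 LD2_c50 LD3_c49) Lrfl Lrfl
theorem f188298 : Led Lsl_dt (LP (LK LD1_c5 LD2_c17 LD3_c33)) = (LP (LK LD1_c10 LD2_c24 LD3_c46)) :=
  Lre_d IH (LK LD1_c5 LD2_c17 LD3_c33) (LK LD1_c10 LD2_c24 LD3_c46) Lrfl Lrfl
theorem f188217 : Led Lsl_gt (LP (LK LD1_c10 LD2_c24 LD3_c46)) = (LP (LK LD1_c18 LD2_c53 LD3_c32)) :=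
  Lre_g IH (LK LD1_c10 LD2_c24 LD3_c46) (LK LD1_c18 LD2_c53 LD3_c32) Lrfl Lrfl
theorem f188294 : Led Lsl_ct (LP (LK LD1_c18 LD2_c53 LD3_c32)) = (LP (LK LD1_c28 LD2_c21 LD3_c16)) :=
  Lre_c IH (LK LD1_c18 LD2_c53 LD3_c32) (LK LD1_c28 LD2_c21 LD3_c16) Lrfl Lrfl
theorem f187763 : Led Lsl_bt (LP (LK LD1_c2 LD2_c35 LD3_c47)) = (LP (LK LD1_c5 LD2_c18 LD3_c10)) :=
  Lre_b IH (LK LD1_c2 LD2_c35 LD3_c47) (LK LD1_c5 LD2_c18 LD3_c10) Lrfl Lrfl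
theorem f48510 : Led Lsl_gt (LP (LK LD1_c10 LD2_c26 LD3_c1)) = (LP (LK LD1_c5 LD2_c18 LD3_c10)) :=
  Lre_g IH (LK LD1_c10 LD2_c26 LD3_c1) (LK LD1_c5 LD2_c18 LD3_c10) Lrfl Lrfl
theorem f165815 : Led Lsl_bt (LP (LK LD1_c18 LD2_c55 LD3_c30)) = (LP (LK LD1_c10 LD2_c26 LD3_c1)) :=
  Lre_b IH (LK LD1_c18 LD2_c55 LD3_c30) (LK LD1_c10 LD2_c26 LD3_c1) Lrfl Lrfl
theorem f188202 : Led Lsl_ct (LP (LK LD1_c18 LD2_c55 LD3_c30)) = (LP (LK LD1_c28 LD2_c23 LD3_c39)) :=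
  Lre_c IH (LK LD1_c18 LD2_c55 LD3_c30) (LK LD1_c28 LD2_c23 LD3_c39) Lrfl Lrfl
theorem f188295 : Led Lsl_gf (LP (LK LD1_c28 LD2_c23 LD3_c39)) = (LP (LK LD1_c28 LD2_c21 LD3_c16)) :=
  Lgr Lrot129 (Lpe (f188202 IH) (Lpr_bt (f165815 IH) (Lpr_gt (f48510 IH) (Lpe (f187763 IH) (Lpr_ct (K10.f187650 IH) (Lpe (K10.f188045 IH) (Lpr_cf (K10.f188209 IH) (Lpr_bt (K16.f188208 IH) (Lpr_gt (f188217 IH) (Lpr_ct (f188294 IH) (Lpn (LP (LK LD1_c28 LD2_c21 LD3_c16)))))))))))))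
theorem f165816 : Led Lsl_ct (LP (LK LD1_c28 LD2_c23 LD3_c39)) = (LP (LK LD1_c18 LD2_c55 LD3_c30)) :=
  Lre_c IH (LK LD1_c28 LD2_c23 LD3_c39) (LK LD1_c18 LD2_c55 LD3_c30) Lrfl Lrfl
theorem f412779 : Led Lsl_df (LP (LK LD1_c27 LD2_c50 LD3_c49)) = (LP (LK LD1_c18 LD2_c55 LD3_c30)) :=
  Lgr Lrot162 (Lpe (f242864 IH) (Lpr_gf (f412775 IH) (Lpe (f188299 IH) (Lpe (f32255 IH) (Lpr_dt (f188298 IH) (Lpr_gt (f188217 IH) (Lpr_ct (f188294 IH) (Lpe (f188295 IH) (Lpr_ct (f165816 IH) (Lpn (LP (LK LD1_c18 LD2_c55 LD3_c30))))))))))))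
theorem f412783 : Led Lsl_bt (LP (LK LD1_c10 LD2_c26 LD3_c1)) = (LP (LK LD1_c18 LD2_c55 LD3_c30)) :=
  Lre_b IH (LK LD1_c10 LD2_c26 LD3_c1) (LK LD1_c18 LD2_c55 LD3_c30) Lrfl Lrfl
theorem f412784 : Led Lsl_dt (LP (LK LD1_c18 LD2_c10 LD3_c37)) = (LP (LK LD1_c10 LD2_c26 LD3_c1)) :=
  Lgr Lrot79 (Lpe (f242871 IH) (Lpr_df (f412779 IH) (Lpe (f412783 IH) (Lpn (LP (LK LD1_c10 LD2_c26 LD3_c1))))))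
theorem f165781 : Led Lsl_ct (LP (LK LD1_c9 LD2_c55 LD3_c58)) = (LP (LK LD1_c5 LD2_c2 LD3_c31)) :=
  Lre_c IH (LK LD1_c9 LD2_c55 LD3_c58) (LK LD1_c5 LD2_c2 LD3_c31) Lrfl Lrfl
theorem f250059 : Led Lsl_gt (LP (LK LD1_c5 LD2_c2 LD3_c31)) = (LP (LK LD1_c9 LD2_c55 LD3_c55)) :=
  Lre_g IH (LK LD1_c5 LD2_c2 LD3_c31) (LK LD1_c9 LD2_c55 LD3_c55) Lrfl Lrfl
theorem f412795 : Led Lsl_ct (LP (LK LD1_c9 LD2_c55 LD3_c55)) = (LP (LK LD1_c18 LD2_c10 LD3_c31)) :=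
  Lre_c IH (LK LD1_c9 LD2_c55 LD3_c55) (LK LD1_c18 LD2_c10 LD3_c31) Lrfl Lrfl
theorem f412796 : Led Lsl_dt (LP (LK LD1_c27 LD2_c50 LD3_c44)) = (LP (LK LD1_c18 LD2_c10 LD3_c31)) :=
  Lre_d IH (LK LD1_c27 LD2_c50 LD3_c44) (LK LD1_c18 LD2_c10 LD3_c31) Lrfl Lrfl
theorem f188301 : Led Lsl_ct (LP (LK LD1_c5 LD2_c18 LD3_c10)) = (LP (LK LD1_c10 LD2_c26 LD3_c2)) :=
  Lre_c IH (LK LD1_c5 LD2_c18 LD3_c10) (LK LD1_c10 LD2_c26 LD3_c2) Lrfl Lrfl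
theorem f188302 : Led Lsl_gt (LP (LK LD1_c10 LD2_c26 LD3_c2)) = (LP (LK LD1_c18 LD2_c55 LD3_c33)) :=
  Lre_g IH (LK LD1_c10 LD2_c26 LD3_c2) (LK LD1_c18 LD2_c55 LD3_c33) Lrfl Lrfl
theorem f412797 : Led Lsl_cf (LP (LK LD1_c27 LD2_c50 LD3_c44)) = (LP (LK LD1_c18 LD2_c55 LD3_c33)) :=
  Lgr Lrot175 (Lpr_dt (f412796 IH) (Lpe (f412795 IH) (Lpe (f250059 IH) (Lpe (f165781 IH) (Lpe (f409179 IH) (Lpr_dt (f412784 IH) (Lpr_gt (f48510 IH) (Lpr_ct (f188301 IH) (Lpr_gt (f188302 IH) (Lpn (LP (LK LD1_c18 LD2_c55 LD3_c33))))))))))))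
theorem f412801 : Led Lsl_ct (LP (LK LD1_c27 LD2_c50 LD3_c44)) = (LP (LK LD1_c18 LD2_c55 LD3_c33)) :=
  Lgr Lrot59 (Lpr_cf (f412797 IH) (Lpn (LP (LK LD1_c18 LD2_c55 LD3_c33))))
theorem f71687 : Led Lsl_gt (LP (LK LD1_c18 LD2_c55 LD3_c33)) = (LP (LK LD1_c28 LD2_c23 LD3_c12)) :=
  Lre_g IH (LK LD1_c18 LD2_c55 LD3_c33) (LK LD1_c28 LD2_c23 LD3_c12) Lrfl Lrfl
theorem f71646 : Led Lsl_ct (LP (LK LD1_c28 LD2_c23 LD3_c12)) = (LP (LK LD1_c18 LD2_c55 LD3_c12)) :=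
  Lre_c IH (LK LD1_c28 LD2_c23 LD3_c12) (LK LD1_c18 LD2_c55 LD3_c12) Lrfl Lrfl
theorem f71672 : Led Lsl_dt (LP (LK LD1_c10 LD2_c25 LD3_c53)) = (LP (LK LD1_c18 LD2_c55 LD3_c12)) :=
  Lre_d IH (LK LD1_c10 LD2_c25 LD3_c53) (LK LD1_c18 LD2_c55 LD3_c12) Lrfl Lrfl
theorem f32687 : Led Lsl_ct (LP (LK LD1_c5 LD2_c18 LD3_c38)) = (LP (LK LD1_c10 LD2_c25 LD3_c53)) :=
  Lre_c IH (LK LD1_c5 LD2_c18 LD3_c38) (LK LD1_c10 LD2_c25 LD3_c53) Lrfl Lrfl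
theorem f32705 : Led Lsl_gt (LP (LK LD1_c2 LD2_c35 LD3_c60)) = (LP (LK LD1_c5 LD2_c18 LD3_c38)) :=
  Lre_g IH (LK LD1_c2 LD2_c35 LD3_c60) (LK LD1_c5 LD2_c18 LD3_c38) Lrfl Lrfl
theorem f71662 : Led Lsl_ct (LP (LK LD1_c5 LD2_c18 LD3_c41)) = (LP (LK LD1_c2 LD2_c35 LD3_c60)) :=
  Lre_c IH (LK LD1_c5 LD2_c18 LD3_c41) (LK LD1_c2 LD2_c35 LD3_c60) Lrfl Lrfl
theorem f412809 : Led Lsl_gt (LP (LK LD1_c10 LD2_c26 LD3_c60)) = (LP (LK LD1_c5 LD2_c18 LD3_c41)) :=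
  Lre_g IH (LK LD1_c10 LD2_c26 LD3_c60) (LK LD1_c5 LD2_c18 LD3_c41) Lrfl Lrfl
theorem f412810 : Led Lsl_dt (LP (LK LD1_c18 LD2_c56 LD3_c53)) = (LP (LK LD1_c10 LD2_c26 LD3_c60)) :=
  Lre_d IH (LK LD1_c18 LD2_c56 LD3_c53) (LK LD1_c10 LD2_c26 LD3_c60) Lrfl Lrfl
theorem f412811 : Led Lsl_gf (LP (LK LD1_c27 LD2_c50 LD3_c44)) = (LP (LK LD1_c18 LD2_c56 LD3_c53)) :=
  Lgr Lrot147 (Lpr_ct (f412801 IH) (Lpr_gt (f71687 IH) (Lpr_ct (f71646 IH) (Lpe (f71672 IH) (Lpe (f32687 IH) (Lpe (f32705 IH) (Lpe (f71662 IH) (Lpe (f412809 IH) (Lpe (f412810 IH) (Lpn (LP (LK LD1_c18 LD2_c56 LD3_c53))))))))))))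
theorem f250102 : Led Lsl_ct (LP (LK LD1_c18 LD2_c10 LD3_c31)) = (LP (LK LD1_c9 LD2_c55 LD3_c55)) :=
  Lre_c IH (LK LD1_c18 LD2_c10 LD3_c31) (LK LD1_c9 LD2_c55 LD3_c55) Lrfl Lrfl
theorem f412814 : Led Lsl_dt (LP (LK LD1_c10 LD2_c26 LD3_c60)) = (LP (LK LD1_c18 LD2_c56 LD3_c53)) :=
  Lre_d IH (LK LD1_c10 LD2_c26 LD3_c60) (LK LD1_c18 LD2_c56 LD3_c53) Lrfl Lrfl
theorem f32700 : Led Lsl_gt (LP (LK LD1_c5 LD2_c18 LD3_c46)) = (LP (LK LD1_c10 LD2_c26 LD3_c60)) :=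
  Lre_g IH (LK LD1_c5 LD2_c18 LD3_c46) (LK LD1_c10 LD2_c26 LD3_c60) Lrfl Lrfl
theorem f48583 : Led Lsl_dt (LP (LK LD1_c1 LD2_c14 LD3_c61)) = (LP (LK LD1_c2 LD2_c36 LD3_c1)) :=
  Lre_d IH (LK LD1_c1 LD2_c14 LD3_c61) (LK LD1_c2 LD2_c36 LD3_c1) Lrfl Lrfl
theorem f48588 : Led Lsl_gt (LP (LK LD1_c2 LD2_c36 LD3_c1)) = (LP (LK LD1_c5 LD2_c18 LD3_c50)) :=
  Lre_g IH (LK LD1_c2 LD2_c36 LD3_c1) (LK LD1_c5 LD2_c18 LD3_c50) Lrfl Lrfl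
theorem f412817 : Led Lsl_df (LP (LK LD1_c9 LD2_c55 LD3_c55)) = (LP (LK LD1_c5 LD2_c18 LD3_c50)) :=
  Lgr Lrot84 (Lpe (f250102 IH) (Lpe (f412796 IH) (Lpr_gf (f412811 IH) (Lpe (f412814 IH) (Lpe (f32700 IH) (Lpe (f32699 IH) (Lpr_gt (K13.f48803 IH) (Lpr_dt (f48583 IH) (Lpr_gt (f48588 IH) (Lpn (LP (LK LD1_c5 LD2_c18 LD3_c50))))))))))))
theorem f412826 : Led Lsl_dt (LP (LK LD1_c9 LD2_c55 LD3_c55)) = (LP (LK LD1_c5 LD2_c18 LD3_c50)) :=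
  Lgr Lrot42 (Lpr_df (f412817 IH) (Lpn (LP (LK LD1_c5 LD2_c18 LD3_c50))))
theorem f264212 : Led Lsl_gt (LP (LK LD1_c9 LD2_c55 LD3_c58)) = (LP (LK LD1_c18 LD2_c10 LD3_c36)) :=
  Lre_g IH (LK LD1_c9 LD2_c55 LD3_c58) (LK LD1_c18 LD2_c10 LD3_c36) Lrfl Lrfl
theorem f32604 : Led Lsl_bt (LP (LK LD1_c1 LD2_c15 LD3_c0)) = (LP (LK LD1_c2 LD2_c36 LD3_c1)) :=
  Lre_b IH (LK LD1_c1 LD2_c15 LD3_c0) (LK LD1_c2 LD2_c36 LD3_c1) Lrfl Lrfl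
theorem f186514 : Led Lsl_bt (LP (LK LD1_c10 LD2_c27 LD3_c26)) = (LP (LK LD1_c5 LD2_c18 LD3_c50)) :=
  Lre_b IH (LK LD1_c10 LD2_c27 LD3_c26) (LK LD1_c5 LD2_c18 LD3_c50) Lrfl Lrfl
theorem f163940 : Led Lsl_ct (LP (LK LD1_c2 LD2_c34 LD3_c10)) = (LP (LK LD1_c5 LD2_c14 LD3_c27)) :=
  Lre_c IH (LK LD1_c2 LD2_c34 LD3_c10) (LK LD1_c5 LD2_c14 LD3_c27) Lrfl Lrfl
theorem f163941 : Led Lsl_gt (LP (LK LD1_c10 LD2_c18 LD3_c30)) = (LP (LK LD1_c5 LD2_c14 LD3_c27)) :=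
  Lre_g IH (LK LD1_c10 LD2_c18 LD3_c30) (LK LD1_c5 LD2_c14 LD3_c27) Lrfl Lrfl
theorem f186578 : Led Lsl_ct (LP (LK LD1_c10 LD2_c27 LD3_c26)) = (LP (LK LD1_c10 LD2_c18 LD3_c30)) :=
  Lgr Lrot64 (Lpr_bt (f186514 IH) (Lpe (f48588 IH) (Lpe (f32604 IH) (Lpe (K20.f71543 IH) (Lpr_gf (K10.f186502 IH) (Lpr_cf (K10.f186565 IH) (Lpr_gf (K10.f163936 IH) (Lpe (K10.f163918 IH) (Lpr_ct (f163940 IH) (Lpe (f163941 IH) (Lpn (LP (LK LD1_c10 LD2_c18 LD3_c30)))))))))))))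
theorem f164017 : Led Lsl_gt (LP (LK LD1_c10 LD2_c0 LD3_c8)) = (LP (LK LD1_c10 LD2_c18 LD3_c30)) :=
  Lgr Lrot5 (Lpr_ft (K10.f164005 IH) (Lpr_at (K10.f164004 IH) (Lpe (f163941 IH) (Lpn (LP (LK LD1_c10 LD2_c18 LD3_c30))))))
theorem f164597 : Led Lsl_gt (LP (LK LD1_c2 LD2_c31 LD3_c21)) = (LP (LK LD1_c5 LD2_c8 LD3_c17)) :=
  Lre_g IH (LK LD1_c2 LD2_c31 LD3_c21) (LK LD1_c5 LD2_c8 LD3_c17) Lrfl Lrfl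
theorem f164628 : Led Lsl_gt (LP (LK LD1_c5 LD2_c8 LD3_c17)) = (LP (LK LD1_c5 LD2_c11 LD3_c39)) :=
  Lgr Lrot46 (Lpe (f164597 IH) (Lpr_ft (K10.f164446 IH) (Lpr_at (K10.f34318 IH) (Lpn (LP (LK LD1_c5 LD2_c11 LD3_c39))))))
theorem f164632 : Led Lsl_bt (LP (LK LD1_c10 LD2_c7 LD3_c1)) = (LP (LK LD1_c5 LD2_c8 LD3_c17)) :=
  Lre_b IH (LK LD1_c10 LD2_c7 LD3_c1) (LK LD1_c5 LD2_c8 LD3_c17) Lrfl Lrfl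
theorem f71554 : Led Lsl_ct (LP (LK LD1_c2 LD2_c36 LD3_c1)) = (LP (LK LD1_c5 LD2_c18 LD3_c52)) :=
  Lre_c IH (LK LD1_c2 LD2_c36 LD3_c1) (LK LD1_c5 LD2_c18 LD3_c52) Lrfl Lrfl
theorem f71752 : Led Lsl_gt (LP (LK LD1_c10 LD2_c27 LD3_c33)) = (LP (LK LD1_c5 LD2_c18 LD3_c52)) :=
  Lre_g IH (LK LD1_c10 LD2_c27 LD3_c33) (LK LD1_c5 LD2_c18 LD3_c52) Lrfl Lrfl
theorem f165784 : Led Lsl_cf (LP (LK LD1_c10 LD2_c27 LD3_c33)) = (LP (LK LD1_c10 LD2_c7 LD3_c1)) :=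
  Lgr Lrot160 (Lpr_gt (f71752 IH) (Lpe (f71554 IH) (Lpr_bt (K2.f32652 IH) (Lpe (K8.f165605 IH) (Lpr_ct (K9.f165648 IH) (Lpr_gt (K9.f3764 IH) (Lpe (K8.f53213 IH) (Lpr_bt (K10.f164113 IH) (Lpr_gt (f164597 IH) (Lpe (f164632 IH) (Lpn (LP (LK LD1_c10 LD2_c7 LD3_c1)))))))))))))
theorem f32653 : Led Lsl_bt (LP (LK LD1_c1 LD2_c14 LD3_c32)) = (LP (LK LD1_c2 LD2_c35 LD3_c6)) :=
  Lre_b IH (LK LD1_c1 LD2_c14 LD3_c32) (LK LD1_c2 LD2_c35 LD3_c6) Lrfl Lrfl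
theorem f35013 : Led Lsl_gt (LP (LK LD1_c2 LD2_c35 LD3_c6)) = (LP (LK LD1_c5 LD2_c16 LD3_c46)) :=
  Lre_g IH (LK LD1_c2 LD2_c35 LD3_c6) (LK LD1_c5 LD2_c16 LD3_c46) Lrfl Lrfl
theorem f35014 : Led Lsl_bt (LP (LK LD1_c10 LD2_c23 LD3_c4)) = (LP (LK LD1_c5 LD2_c16 LD3_c46)) :=
  Lre_b IH (LK LD1_c10 LD2_c23 LD3_c4) (LK LD1_c5 LD2_c16 LD3_c46) Lrfl Lrfl
theorem f163806 : Led Lsl_bt (LP (LK LD1_c2 LD2_c31 LD3_c21)) = (LP (LK LD1_c1 LD2_c12 LD3_c40)) :=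
  Lre_b IH (LK LD1_c2 LD2_c31 LD3_c21) (LK LD1_c1 LD2_c12 LD3_c40) Lrfl Lrfl
theorem f163809 : Led Lsl_ct (LP (LK LD1_c2 LD2_c31 LD3_c21)) = (LP (LK LD1_c5 LD2_c7 LD3_c60)) :=
  Lre_c IH (LK LD1_c2 LD2_c31 LD3_c21) (LK LD1_c5 LD2_c7 LD3_c60) Lrfl Lrfl
theorem f163810 : Led Lsl_gt (LP (LK LD1_c10 LD2_c6 LD3_c26)) = (LP (LK LD1_c5 LD2_c7 LD3_c60)) :=
  Lre_g IH (LK LD1_c10 LD2_c6 LD3_c26) (LK LD1_c5 LD2_c7 LD3_c60) Lrfl Lrfl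
theorem f166205 : Led Lsl_ct (LP (LK LD1_c10 LD2_c23 LD3_c4)) = (LP (LK LD1_c10 LD2_c6 LD3_c26)) :=
  Lgr Lrot64 (Lpr_bt (f35014 IH) (Lpe (f35013 IH) (Lpe (f32653 IH) (Lpe (K2.f34996 IH) (Lpr_gf (K9.f166171 IH) (Lpe (K9.f166199 IH) (Lpr_gf (K9.f163804 IH) (Lpe (f163806 IH) (Lpr_ct (f163809 IH) (Lpe (f163810 IH) (Lpn (LP (LK LD1_c10 LD2_c6 LD3_c26)))))))))))))
theorem f35018 : Led Lsl_ff (LP (LK LD1_c4 LD2_c35 LD3_c46)) = (LP (LK LD1_c2 LD2_c35 LD3_c6)) :=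
  Lgr Lrot25 (Lpr_bt (K10.f35017 IH) (Lpr_ft (K2.f35009 IH) (Lpr_bt (f32653 IH) (Lpn (LP (LK LD1_c2 LD2_c35 LD3_c6))))))
theorem f35033 : Led Lsl_at (LP (LK LD1_c4 LD2_c35 LD3_c46)) = (LP (LK LD1_c9 LD2_c7 LD3_c58)) :=
  Lre_a IH (LK LD1_c4 LD2_c35 LD3_c46) (LK LD1_c9 LD2_c7 LD3_c58) Lrfl Lrfl
theorem f35193 : Led Lsl_gf (LP (LK LD1_c9 LD2_c7 LD3_c58)) = (LP (LK LD1_c5 LD2_c16 LD3_c46)) :=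
  Lgr Lrot76 (Lpe (f35033 IH) (Lpr_ff (f35018 IH) (Lpr_gt (f35013 IH) (Lpn (LP (LK LD1_c5 LD2_c16 LD3_c46))))))
theorem f71603 : Led Lsl_at (LP (LK LD1_c20 LD2_c33 LD3_c59)) = (LP (LK LD1_c18 LD2_c55 LD3_c35)) :=
  Lgr Lrot100 (Lpr_af (K2.f71592 IH) (Lpn (LP (LK LD1_c18 LD2_c55 LD3_c35))))
theorem f71607 : Led Lsl_at (LP (LK LD1_c11 LD2_c35 LD3_c46)) = (LP (LK LD1_c20 LD2_c33 LD3_c56)) :=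
  Lre_a IH (LK LD1_c11 LD2_c35 LD3_c46) (LK LD1_c20 LD2_c33 LD3_c56) Lrfl Lrfl
theorem f71608 : Led Lsl_ct (LP (LK LD1_c20 LD2_c33 LD3_c56)) = (LP (LK LD1_c18 LD2_c55 LD3_c35)) :=
  Lgr Lrot111 (Lpe (f71607 IH) (Lpe (K2.f71606 IH) (Lpr_af (K2.f71592 IH) (Lpn (LP (LK LD1_c18 LD2_c55 LD3_c35))))))
theorem f71644 : Led Lsl_dt (LP (LK LD1_c11 LD2_c35 LD3_c45)) = (LP (LK LD1_c20 LD2_c33 LD3_c56)) :=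
  Lre_d IH (LK LD1_c11 LD2_c35 LD3_c45) (LK LD1_c20 LD2_c33 LD3_c56) Lrfl Lrfl
theorem f71645 : Led Lsl_ct (LP (LK LD1_c5 LD2_c55 LD3_c26)) = (LP (LK LD1_c11 LD2_c35 LD3_c45)) :=
  Lre_c IH (LK LD1_c5 LD2_c55 LD3_c26) (LK LD1_c11 LD2_c35 LD3_c45) Lrfl Lrfl
theorem f71619 : Led Lsl_dt (LP (LK LD1_c18 LD2_c57 LD3_c47)) = (LP (LK LD1_c28 LD2_c23 LD3_c12)) :=
  Lre_d IH (LK LD1_c18 LD2_c57 LD3_c47) (LK LD1_c28 LD2_c23 LD3_c12) Lrfl Lrfl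
theorem f32783 : Led Lsl_dt (LP (LK LD1_c18 LD2_c55 LD3_c12)) = (LP (LK LD1_c10 LD2_c25 LD3_c53)) :=
  Lre_d IH (LK LD1_c18 LD2_c55 LD3_c12) (LK LD1_c10 LD2_c25 LD3_c53) Lrfl Lrfl
theorem f71647 : Led Lsl_df (LP (LK LD1_c5 LD2_c55 LD3_c26)) = (LP (LK LD1_c5 LD2_c18 LD3_c38)) :=
  Lgr Lrot13 (Lpr_ct (f71645 IH) (Lpr_dt (f71644 IH) (Lpr_ct (f71608 IH) (Lpe (f71603 IH) (Lpr_ff (K2.f71624 IH) (Lpr_dt (f71619 IH) (Lpr_ct (f71646 IH) (Lpr_dt (f32783 IH) (Lpr_ct (K13.f32755 IH) (Lpn (LP (LK LD1_c5 LD2_c18 LD3_c38))))))))))))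
theorem f32661 : Led Lsl_dt (LP (LK LD1_c5 LD2_c18 LD3_c49)) = (LP (LK LD1_c2 LD2_c36 LD3_c0)) :=
  Lre_d IH (LK LD1_c5 LD2_c18 LD3_c49) (LK LD1_c2 LD2_c36 LD3_c0) Lrfl Lrfl
theorem f32662 : Led Lsl_dt (LP (LK LD1_c2 LD2_c35 LD3_c5)) = (LP (LK LD1_c5 LD2_c16 LD3_c45)) :=
  Lre_d IH (LK LD1_c2 LD2_c35 LD3_c5) (LK LD1_c5 LD2_c16 LD3_c45) Lrfl Lrfl
theorem f32663 : Led Lsl_bt (LP (LK LD1_c2 LD2_c36 LD3_c0)) = (LP (LK LD1_c2 LD2_c35 LD3_c5)) :=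
  Lgr Lrot95 (Lpe (f32661 IH) (Lpr_bf (K10.f32648 IH) (Lpe (f32662 IH) (Lpn (LP (LK LD1_c2 LD2_c35 LD3_c5))))))
theorem f32675 : Led Lsl_ft (LP (LK LD1_c5 LD2_c18 LD3_c38)) = (LP (LK LD1_c2 LD2_c36 LD3_c0)) :=
  Lre_f IH (LK LD1_c5 LD2_c18 LD3_c38) (LK LD1_c2 LD2_c36 LD3_c0) Lrfl Lrfl
theorem f32676 : Led Lsl_ft (LP (LK LD1_c2 LD2_c35 LD3_c5)) = (LP (LK LD1_c5 LD2_c16 LD3_c34)) :=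
  Lre_f IH (LK LD1_c2 LD2_c35 LD3_c5) (LK LD1_c5 LD2_c16 LD3_c34) Lrfl Lrfl
theorem f32677 : Led Lsl_bf (LP (LK LD1_c5 LD2_c18 LD3_c38)) = (LP (LK LD1_c5 LD2_c16 LD3_c34)) :=
  Lgr Lrot61 (Lpr_ft (f32675 IH) (Lpr_bt (f32663 IH) (Lpr_ft (f32676 IH) (Lpn (LP (LK LD1_c5 LD2_c16 LD3_c34))))))
theorem f32685 : Led Lsl_bt (LP (LK LD1_c1 LD2_c14 LD3_c33)) = (LP (LK LD1_c2 LD2_c35 LD3_c7)) :=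
  Lre_b IH (LK LD1_c1 LD2_c14 LD3_c33) (LK LD1_c2 LD2_c35 LD3_c7) Lrfl Lrfl
theorem f35031 : Led Lsl_df (LP (LK LD1_c4 LD2_c35 LD3_c46)) = (LP (LK LD1_c2 LD2_c35 LD3_c7)) :=
  Lgr Lrot12 (Lpr_bt (K10.f35017 IH) (Lpr_dt (K2.f35029 IH) (Lpr_bt (f32685 IH) (Lpn (LP (LK LD1_c2 LD2_c35 LD3_c7))))))
theorem f32584 : Led Lsl_at (LP (LK LD1_c5 LD2_c16 LD3_c34)) = (LP (LK LD1_c2 LD2_c35 LD3_c7)) :=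
  Lre_a IH (LK LD1_c5 LD2_c16 LD3_c34) (LK LD1_c2 LD2_c35 LD3_c7) Lrfl Lrfl
theorem f35034 : Led Lsl_dt (LP (LK LD1_c9 LD2_c7 LD3_c58)) = (LP (LK LD1_c5 LD2_c16 LD3_c34)) :=
  Lgr Lrot44 (Lpe (f35033 IH) (Lpr_df (f35031 IH) (Lpe (f32584 IH) (Lpn (LP (LK LD1_c5 LD2_c16 LD3_c34))))))
theorem f71649 : Led Lsl_bt (LP (LK LD1_c5 LD2_c55 LD3_c26)) = (LP (LK LD1_c9 LD2_c7 LD3_c58)) :=
  Lgr Lrot95 (Lpr_df (f71647 IH) (Lpr_bf (f32677 IH) (Lpe (f35034 IH) (Lpn (LP (LK LD1_c9 LD2_c7 LD3_c58))))))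
theorem f163807 : Led Lsl_ct (LP (LK LD1_c5 LD2_c7 LD3_c60)) = (LP (LK LD1_c2 LD2_c31 LD3_c21)) :=
  Lre_c IH (LK LD1_c5 LD2_c7 LD3_c60) (LK LD1_c2 LD2_c31 LD3_c21) Lrfl Lrfl
theorem f163808 : Led Lsl_dt (LP (LK LD1_c10 LD2_c6 LD3_c28)) = (LP (LK LD1_c5 LD2_c7 LD3_c60)) :=
  Lre_d IH (LK LD1_c10 LD2_c6 LD3_c28) (LK LD1_c5 LD2_c7 LD3_c60) Lrfl Lrfl
theorem f164458 : Led Lsl_ct (LP (LK LD1_c18 LD2_c25 LD3_c32)) = (LP (LK LD1_c10 LD2_c6 LD3_c28)) :=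
  Lre_c IH (LK LD1_c18 LD2_c25 LD3_c32) (LK LD1_c10 LD2_c6 LD3_c28) Lrfl Lrfl
theorem f164459 : Led Lsl_df (LP (LK LD1_c18 LD2_c25 LD3_c32)) = (LP (LK LD1_c18 LD2_c29 LD3_c43)) :=
  Lgr Lrot13 (Lpr_ct (f164458 IH) (Lpr_dt (f163808 IH) (Lpr_ct (f163807 IH) (Lpe (K10.f164445 IH) (Lpr_ff (K10.f164442 IH) (Lpr_dt (K2.f21599 IH) (Lpr_ct (K2.f21637 IH) (Lpr_dt (K2.f21619 IH) (Lpr_ct (K2.f34304 IH) (Lpn (LP (LK LD1_c18 LD2_c29 LD3_c43))))))))))))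
theorem f164463 : Led Lsl_dt (LP (LK LD1_c18 LD2_c25 LD3_c32)) = (LP (LK LD1_c18 LD2_c29 LD3_c43)) :=
  Lgr Lrot42 (Lpr_df (f164459 IH) (Lpn (LP (LK LD1_c18 LD2_c29 LD3_c43))))
theorem f164468 : Led Lsl_ct (LP (LK LD1_c10 LD2_c6 LD3_c28)) = (LP (LK LD1_c18 LD2_c25 LD3_c32)) :=
  Lre_c IH (LK LD1_c10 LD2_c6 LD3_c28) (LK LD1_c18 LD2_c25 LD3_c32) Lrfl Lrfl
theorem f164465 : Led Lsl_dt (LP (LK LD1_c5 LD2_c7 LD3_c60)) = (LP (LK LD1_c10 LD2_c6 LD3_c28)) :=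
  Lre_d IH (LK LD1_c5 LD2_c7 LD3_c60) (LK LD1_c10 LD2_c6 LD3_c28) Lrfl Lrfl
theorem f34363 : Led Lsl_ct (LP (LK LD1_c18 LD2_c29 LD3_c43)) = (LP (LK LD1_c10 LD2_c9 LD3_c13)) :=
  Lre_c IH (LK LD1_c18 LD2_c29 LD3_c43) (LK LD1_c10 LD2_c9 LD3_c13) Lrfl Lrfl
theorem f34322 : Led Lsl_ct (LP (LK LD1_c5 LD2_c11 LD3_c39)) = (LP (LK LD1_c10 LD2_c14 LD3_c2)) :=
  Lre_c IH (LK LD1_c5 LD2_c11 LD3_c39) (LK LD1_c10 LD2_c14 LD3_c2) Lrfl Lrfl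
theorem f164477 : Led Lsl_at (LP (LK LD1_c5 LD2_c11 LD3_c42)) = (LP (LK LD1_c10 LD2_c14 LD3_c2)) :=
  Lre_a IH (LK LD1_c5 LD2_c11 LD3_c42) (LK LD1_c10 LD2_c14 LD3_c2) Lrfl Lrfl
theorem f164478 : Led Lsl_ft (LP (LK LD1_c5 LD2_c7 LD3_c60)) = (LP (LK LD1_c5 LD2_c11 LD3_c42)) :=
  Lgr Lrot142 (Lpr_dt (f164465 IH) (Lpr_ct (f164468 IH) (Lpr_dt (f164463 IH) (Lpr_ct (f34363 IH) (Lpr_dt (K0.f21639 IH) (Lpr_ct (K0.f21595 IH) (Lpr_dt (K8.f21605 IH) (Lpr_ct (f34322 IH) (Lpe (f164477 IH) (Lpn (LP (LK LD1_c5 LD2_c11 LD3_c42))))))))))))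
theorem f164480 : Led Lsl_at (LP (LK LD1_c10 LD2_c6 LD3_c27)) = (LP (LK LD1_c5 LD2_c7 LD3_c60)) :=
  Lre_a IH (LK LD1_c10 LD2_c6 LD3_c27) (LK LD1_c5 LD2_c7 LD3_c60) Lrfl Lrfl
theorem f164481 : Led Lsl_ff (LP (LK LD1_c10 LD2_c6 LD3_c27)) = (LP (LK LD1_c10 LD2_c14 LD3_c2)) :=
  Lgr Lrot30 (Lpr_at (f164480 IH) (Lpr_ft (f164478 IH) (Lpr_at (f164477 IH) (Lpn (LP (LK LD1_c10 LD2_c14 LD3_c2))))))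
theorem f164590 : Led Lsl_gf (LP (LK LD1_c10 LD2_c6 LD3_c26)) = (LP (LK LD1_c10 LD2_c14 LD3_c2)) :=
  Lgr Lrot47 (Lpr_gt (f163810 IH) (Lpe (f164480 IH) (Lpr_ff (f164481 IH) (Lpn (LP (LK LD1_c10 LD2_c14 LD3_c2))))))
theorem f166219 : Led Lsl_gt (LP (LK LD1_c11 LD2_c35 LD3_c45)) = (LP (LK LD1_c10 LD2_c27 LD3_c33)) :=
  Lgr Lrot65 (Lpe (f71645 IH) (Lpr_bt (f71649 IH) (Lpr_gf (f35193 IH) (Lpe (f35014 IH) (Lpr_ct (f166205 IH) (Lpr_gf (f164590 IH) (Lpe (f34322 IH) (Lpe (f164628 IH) (Lpe (f164632 IH) (Lpe (f165784 IH) (Lpn (LP (LK LD1_c10 LD2_c27 LD3_c33)))))))))))))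
theorem f186588 : Led Lsl_gt (LP (LK LD1_c5 LD2_c18 LD3_c50)) = (LP (LK LD1_c5 LD2_c55 LD3_c26)) :=
  Lgr Lrot82 (Lpe (f186514 IH) (Lpr_ct (f186578 IH) (Lpe (f164017 IH) (Lpe (K10.f163844 IH) (Lpr_bt (K10.f163800 IH) (Lpe (f164628 IH) (Lpe (f164632 IH) (Lpe (f165784 IH) (Lpe (f166219 IH) (Lpe (f71645 IH) (Lpn (LP (LK LD1_c5 LD2_c55 LD3_c26)))))))))))))
theorem f71573 : Led Lsl_at (LP (LK LD1_c2 LD2_c54 LD3_c3)) = (LP (LK LD1_c5 LD2_c55 LD3_c26)) :=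
  Lre_a IH (LK LD1_c2 LD2_c54 LD3_c3) (LK LD1_c5 LD2_c55 LD3_c26) Lrfl Lrfl
theorem f32683 : Led Lsl_at (LP (LK LD1_c5 LD2_c18 LD3_c38)) = (LP (LK LD1_c2 LD2_c36 LD3_c2)) :=
  Lre_a IH (LK LD1_c5 LD2_c18 LD3_c38) (LK LD1_c2 LD2_c36 LD3_c2) Lrfl Lrfl
theorem f71574 : Led Lsl_dt (LP (LK LD1_c5 LD2_c55 LD3_c26)) = (LP (LK LD1_c5 LD2_c18 LD3_c38)) :=
  Lgr Lrot44 (Lpe (f71573 IH) (Lpr_df (K2.f71557 IH) (Lpe (f32683 IH) (Lpn (LP (LK LD1_c5 LD2_c18 LD3_c38))))))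
theorem f32784 : Led Lsl_gt (LP (LK LD1_c10 LD2_c26 LD3_c0)) = (LP (LK LD1_c18 LD2_c55 LD3_c12)) :=
  Lre_g IH (LK LD1_c10 LD2_c26 LD3_c0) (LK LD1_c18 LD2_c55 LD3_c12) Lrfl Lrfl
theorem f412836 : Led Lsl_dt (LP (LK LD1_c18 LD2_c10 LD3_c36)) = (LP (LK LD1_c10 LD2_c26 LD3_c0)) :=
  Lgr Lrot57 (Lpe (f264212 IH) (Lpe (K15.f250052 IH) (Lpr_gt (f250059 IH) (Lpr_dt (f412826 IH) (Lpr_gt (f186588 IH) (Lpr_dt (f71574 IH) (Lpe (K13.f32755 IH) (Lpe (f32783 IH) (Lpe (f32784 IH) (Lpn (LP (LK LD1_c10 LD2_c26 LD3_c0))))))))))))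
theorem f264204 : Led Lsl_at (LP (LK LD1_c10 LD2_c2 LD3_c6)) = (LP (LK LD1_c18 LD2_c20 LD3_c16)) :=
  Lre_a IH (LK LD1_c10 LD2_c2 LD3_c6) (LK LD1_c18 LD2_c20 LD3_c16) Lrfl Lrfl
theorem f264213 : Led Lsl_gt (LP (LK LD1_c18 LD2_c10 LD3_c36)) = (LP (LK LD1_c18 LD2_c20 LD3_c16)) :=
  Lgr Lrot46 (Lpe (f264212 IH) (Lpr_ft (K15.f264200 IH) (Lpr_at (f264204 IH) (Lpn (LP (LK LD1_c18 LD2_c20 LD3_c16))))))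
theorem f264218 : Led Lsl_ct (LP (LK LD1_c18 LD2_c20 LD3_c16)) = (LP (LK LD1_c10 LD2_c2 LD3_c14)) :=
  Lre_c IH (LK LD1_c18 LD2_c20 LD3_c16) (LK LD1_c10 LD2_c2 LD3_c14) Lrfl Lrfl
theorem f180572 : Led Lsl_bt (LP (LK LD1_c5 LD2_c5 LD3_c39)) = (LP (LK LD1_c2 LD2_c30 LD3_c3)) :=
  Lre_b IH (LK LD1_c5 LD2_c5 LD3_c39) (LK LD1_c2 LD2_c30 LD3_c3) Lrfl Lrfl
theorem f212106 : Led Lsl_bt (LP (LK LD1_c2 LD2_c28 LD3_c49)) = (LP (LK LD1_c5 LD2_c2 LD3_c28)) :=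
  Lre_b IH (LK LD1_c2 LD2_c28 LD3_c49) (LK LD1_c5 LD2_c2 LD3_c28) Lrfl Lrfl
theorem f276068 : Led Lsl_ff (LP (LK LD1_c5 LD2_c5 LD3_c39)) = (LP (LK LD1_c5 LD2_c2 LD3_c28)) :=
  Lgr Lrot25 (Lpr_bt (f180572 IH) (Lpr_ft (K16.f276066 IH) (Lpr_bt (f212106 IH) (Lpn (LP (LK LD1_c5 LD2_c2 LD3_c28))))))
theorem f212168 : Led Lsl_at (LP (LK LD1_c5 LD2_c5 LD3_c39)) = (LP (LK LD1_c10 LD2_c2 LD3_c23)) :=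
  Lre_a IH (LK LD1_c5 LD2_c5 LD3_c39) (LK LD1_c10 LD2_c2 LD3_c23) Lrfl Lrfl
theorem f264298 : Led Lsl_at (LP (LK LD1_c9 LD2_c55 LD3_c48)) = (LP (LK LD1_c5 LD2_c2 LD3_c28)) :=
  Lre_a IH (LK LD1_c9 LD2_c55 LD3_c48) (LK LD1_c5 LD2_c2 LD3_c28) Lrfl Lrfl
theorem f410235 : Led Lsl_ft (LP (LK LD1_c10 LD2_c2 LD3_c23)) = (LP (LK LD1_c9 LD2_c55 LD3_c48)) :=
  Lgr Lrot101 (Lpe (f212168 IH) (Lpr_ff (f276068 IH) (Lpe (f264298 IH) (Lpn (LP (LK LD1_c9 LD2_c55 LD3_c48))))))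
theorem f212156 : Led Lsl_at (LP (LK LD1_c10 LD2_c2 LD3_c23)) = (LP (LK LD1_c5 LD2_c5 LD3_c39)) :=
  Lre_a IH (LK LD1_c10 LD2_c2 LD3_c23) (LK LD1_c5 LD2_c5 LD3_c39) Lrfl Lrfl
theorem f264233 : Led Lsl_at (LP (LK LD1_c5 LD2_c2 LD3_c31)) = (LP (LK LD1_c9 LD2_c55 LD3_c57)) :=
  Lre_a IH (LK LD1_c5 LD2_c2 LD3_c31) (LK LD1_c9 LD2_c55 LD3_c57) Lrfl Lrfl
theorem f276052 : Led Lsl_bf (LP (LK LD1_c10 LD2_c2 LD3_c23)) = (LP (LK LD1_c9 LD2_c55 LD3_c57)) :=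
  Lgr Lrot81 (Lpr_at (f212156 IH) (Lpr_bt (f180572 IH) (Lpr_at (K16.f276048 IH) (Lpr_bt (K15.f250051 IH) (Lpr_at (f264233 IH) (Lpn (LP (LK LD1_c9 LD2_c55 LD3_c57))))))))
theorem f264254 : Led Lsl_at (LP (LK LD1_c5 LD2_c2 LD3_c28)) = (LP (LK LD1_c9 LD2_c55 LD3_c48)) :=
  Lre_a IH (LK LD1_c5 LD2_c2 LD3_c28) (LK LD1_c9 LD2_c55 LD3_c48) Lrfl Lrfl
theorem f180610 : Led Lsl_bt (LP (LK LD1_c5 LD2_c5 LD3_c32)) = (LP (LK LD1_c2 LD2_c30 LD3_c0)) :=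
  Lre_b IH (LK LD1_c5 LD2_c5 LD3_c32) (LK LD1_c2 LD2_c30 LD3_c0) Lrfl Lrfl
theorem f264234 : Led Lsl_at (LP (LK LD1_c10 LD2_c2 LD3_c14)) = (LP (LK LD1_c5 LD2_c5 LD3_c32)) :=
  Lre_a IH (LK LD1_c10 LD2_c2 LD3_c14) (LK LD1_c5 LD2_c5 LD3_c32) Lrfl Lrfl
theorem f264255 : Led Lsl_bt (LP (LK LD1_c9 LD2_c55 LD3_c48)) = (LP (LK LD1_c10 LD2_c2 LD3_c14)) :=
  Lgr Lrot62 (Lpe (f264254 IH) (Lpe (f212106 IH) (Lpr_af (K15.f264250 IH) (Lpe (f180610 IH) (Lpe (f264234 IH) (Lpn (LP (LK LD1_c10 LD2_c2 LD3_c14))))))))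
theorem f410245 : Led Lsl_ff (LP (LK LD1_c9 LD2_c55 LD3_c57)) = (LP (LK LD1_c10 LD2_c2 LD3_c14)) :=
  Lgr Lrot25 (Lpe (f276052 IH) (Lpr_ft (f410235 IH) (Lpr_bt (f264255 IH) (Lpn (LP (LK LD1_c10 LD2_c2 LD3_c14))))))
theorem f276134 : Led Lsl_at (LP (LK LD1_c9 LD2_c55 LD3_c57)) = (LP (LK LD1_c5 LD2_c2 LD3_c31)) :=
  Lre_a IH (LK LD1_c9 LD2_c55 LD3_c57) (LK LD1_c5 LD2_c2 LD3_c31) Lrfl Lrfl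
theorem f250105 : Led Lsl_gt (LP (LK LD1_c9 LD2_c55 LD3_c56)) = (LP (LK LD1_c5 LD2_c2 LD3_c31)) :=
  Lre_g IH (LK LD1_c9 LD2_c55 LD3_c56) (LK LD1_c5 LD2_c2 LD3_c31) Lrfl Lrfl
theorem f410254 : Led Lsl_gf (LP (LK LD1_c9 LD2_c55 LD3_c56)) = (LP (LK LD1_c10 LD2_c2 LD3_c14)) :=
  Lgr Lrot47 (Lpr_gt (f250105 IH) (Lpe (f276134 IH) (Lpr_ff (f410245 IH) (Lpn (LP (LK LD1_c10 LD2_c2 LD3_c14))))))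
theorem f409192 : Led Lsl_ct (LP (LK LD1_c9 LD2_c55 LD3_c56)) = (LP (LK LD1_c18 LD2_c10 LD3_c34)) :=
  Lre_c IH (LK LD1_c9 LD2_c55 LD3_c56) (LK LD1_c18 LD2_c10 LD3_c34) Lrfl Lrfl
theorem f409196 : Led Lsl_dt (LP (LK LD1_c27 LD2_c50 LD3_c46)) = (LP (LK LD1_c18 LD2_c10 LD3_c34)) :=
  Lre_d IH (LK LD1_c27 LD2_c50 LD3_c46) (LK LD1_c18 LD2_c10 LD3_c34) Lrfl Lrfl
theorem f71673 : Led Lsl_ct (LP (LK LD1_c18 LD2_c55 LD3_c12)) = (LP (LK LD1_c28 LD2_c23 LD3_c12)) :=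
  Lre_c IH (LK LD1_c18 LD2_c55 LD3_c12) (LK LD1_c28 LD2_c23 LD3_c12) Lrfl Lrfl
theorem f71690 : Led Lsl_gt (LP (LK LD1_c28 LD2_c23 LD3_c12)) = (LP (LK LD1_c18 LD2_c55 LD3_c34)) :=
  Lre_g IH (LK LD1_c28 LD2_c23 LD3_c12) (LK LD1_c18 LD2_c55 LD3_c34) Lrfl Lrfl
theorem f412844 : Led Lsl_cf (LP (LK LD1_c27 LD2_c50 LD3_c46)) = (LP (LK LD1_c18 LD2_c55 LD3_c34)) :=
  Lgr Lrot175 (Lpr_dt (f409196 IH) (Lpe (f409192 IH) (Lpr_gf (f410254 IH) (Lpe (f264218 IH) (Lpe (f264213 IH) (Lpr_dt (f412836 IH) (Lpr_gt (f32784 IH) (Lpr_ct (f71673 IH) (Lpr_gt (f71690 IH) (Lpn (LP (LK LD1_c18 LD2_c55 LD3_c34))))))))))))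
theorem f412848 : Led Lsl_ct (LP (LK LD1_c27 LD2_c50 LD3_c46)) = (LP (LK LD1_c18 LD2_c55 LD3_c34)) :=
  Lgr Lrot59 (Lpr_cf (f412844 IH) (Lpn (LP (LK LD1_c18 LD2_c55 LD3_c34))))
theorem f214680 : Led Lsl_gt (LP (LK LD1_c18 LD2_c55 LD3_c34)) = (LP (LK LD1_c10 LD2_c26 LD3_c2)) :=
  Lre_g IH (LK LD1_c18 LD2_c55 LD3_c34) (LK LD1_c10 LD2_c26 LD3_c2) Lrfl Lrfl
theorem f191536 : Led Lsl_bt (LP (LK LD1_c5 LD2_c18 LD3_c10)) = (LP (LK LD1_c2 LD2_c35 LD3_c47)) :=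
  Lre_b IH (LK LD1_c5 LD2_c18 LD3_c10) (LK LD1_c2 LD2_c35 LD3_c47) Lrfl Lrfl
theorem f50000 : Led Lsl_bt (LP (LK LD1_c8 LD2_c15 LD3_c35)) = (LP (LK LD1_c15 LD2_c31 LD3_c55)) :=
  Lre_b IH (LK LD1_c8 LD2_c15 LD3_c35) (LK LD1_c15 LD2_c31 LD3_c55) Lrfl Lrfl
theorem f412858 : Led Lsl_bt (LP (LK LD1_c27 LD2_c50 LD3_c46)) = (LP (LK LD1_c25 LD2_c25 LD3_c6)) :=
  Lgr Lrot92 (Lpr_ct (f412848 IH) (Lpr_gt (f214680 IH) (Lpe (f188301 IH) (Lpr_bt (f191536 IH) (Lpr_gt (K13.f48413 IH) (Lpe (K13.f214635 IH) (Lpr_gt (K13.f49693 IH) (Lpe (K10.f49576 IH) (Lpr_bt (f50000 IH) (Lpr_gt (f50001 IH) (Lpn (LP (LK LD1_c25 LD2_c25 LD3_c6)))))))))))))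
theorem f409191 : Led Lsl_dt (LP (LK LD1_c18 LD2_c10 LD3_c34)) = (LP (LK LD1_c27 LD2_c50 LD3_c46)) :=
  Lre_d IH (LK LD1_c18 LD2_c10 LD3_c34) (LK LD1_c27 LD2_c50 LD3_c46) Lrfl Lrfl
theorem f409188 : Led Lsl_bt (LP (LK LD1_c27 LD2_c50 LD3_c45)) = (LP (LK LD1_c18 LD2_c10 LD3_c34)) :=
  Lre_b IH (LK LD1_c27 LD2_c50 LD3_c45) (LK LD1_c18 LD2_c10 LD3_c34) Lrfl Lrfl
theorem f412862 : Led Lsl_df (LP (LK LD1_c27 LD2_c50 LD3_c45)) = (LP (LK LD1_c25 LD2_c25 LD3_c6)) :=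
  Lgr Lrot12 (Lpr_bt (f409188 IH) (Lpr_dt (f409191 IH) (Lpr_bt (f412858 IH) (Lpn (LP (LK LD1_c25 LD2_c25 LD3_c6))))))
theorem f412864 : Led Lsl_dt (LP (LK LD1_c27 LD2_c50 LD3_c45)) = (LP (LK LD1_c25 LD2_c25 LD3_c6)) :=
  Lgr Lrot42 (Lpr_df (f412862 IH) (Lpn (LP (LK LD1_c25 LD2_c25 LD3_c6))))
theorem f250106 : Led Lsl_ct (LP (LK LD1_c18 LD2_c10 LD3_c34)) = (LP (LK LD1_c9 LD2_c55 LD3_c56)) :=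
  Lre_c IH (LK LD1_c18 LD2_c10 LD3_c34) (LK LD1_c9 LD2_c55 LD3_c56) Lrfl Lrfl
theorem f250107 : Led Lsl_bt (LP (LK LD1_c18 LD2_c10 LD3_c34)) = (LP (LK LD1_c27 LD2_c50 LD3_c45)) :=
  Lre_b IH (LK LD1_c18 LD2_c10 LD3_c34) (LK LD1_c27 LD2_c50 LD3_c45) Lrfl Lrfl
theorem f264219 : Led Lsl_bt (LP (LK LD1_c27 LD2_c50 LD3_c48)) = (LP (LK LD1_c18 LD2_c10 LD3_c36)) :=
  Lre_b IH (LK LD1_c27 LD2_c50 LD3_c48) (LK LD1_c18 LD2_c10 LD3_c36) Lrfl Lrfl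
theorem f278345 : Led Lsl_gt (LP (LK LD1_c18 LD2_c11 LD3_c36)) = (LP (LK LD1_c9 LD2_c56 LD3_c32)) :=
  Lre_g IH (LK LD1_c18 LD2_c11 LD3_c36) (LK LD1_c9 LD2_c56 LD3_c32) Lrfl Lrfl
theorem f278372 : Led Lsl_ct (LP (LK LD1_c27 LD2_c50 LD3_c48)) = (LP (LK LD1_c18 LD2_c11 LD3_c36)) :=
  Lgr Lrot64 (Lpr_bt (f264219 IH) (Lpe (f264212 IH) (Lpr_bf (f264205 IH) (Lpr_ct (K14.f185033 IH) (Lpe (K14.f250062 IH) (Lpe (K15.f49108 IH) (Lpr_gf (K16.f259680 IH) (Lpe (K23.f229231 IH) (Lpr_ct (K23.f278335 IH) (Lpe (f278345 IH) (Lpn (LP (LK LD1_c18 LD2_c11 LD3_c36)))))))))))))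
theorem f285474 : Led Lsl_ct (LP (LK LD1_c28 LD2_c5 LD3_c10)) = (LP (LK LD1_c18 LD2_c31 LD3_c1)) :=
  Lre_c IH (LK LD1_c28 LD2_c5 LD3_c10) (LK LD1_c18 LD2_c31 LD3_c1) Lrfl Lrfl
theorem f370900 : Led Lsl_ft (LP (LK LD1_c18 LD2_c31 LD3_c1)) = (LP (LK LD1_c18 LD2_c11 LD3_c37)) :=
  Lgr Lrot4 (Lpe (f285474 IH) (Lpr_ff (f370895 IH) (Lpr_cf (f278365 IH) (Lpn (LP (LK LD1_c18 LD2_c11 LD3_c37))))))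
theorem f278332 : Led Lsl_at (LP (LK LD1_c18 LD2_c11 LD3_c37)) = (LP (LK LD1_c9 LD2_c56 LD3_c32)) :=
  Lre_a IH (LK LD1_c18 LD2_c11 LD3_c37) (LK LD1_c9 LD2_c56 LD3_c32) Lrfl Lrfl
theorem f370925 : Led Lsl_gt (LP (LK LD1_c18 LD2_c31 LD3_c1)) = (LP (LK LD1_c18 LD2_c11 LD3_c36)) :=
  Lgr Lrot5 (Lpr_ft (f370900 IH) (Lpr_at (f278332 IH) (Lpe (f278345 IH) (Lpn (LP (LK LD1_c18 LD2_c11 LD3_c36))))))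
theorem f167966 : Led Lsl_bt (LP (LK LD1_c10 LD2_c31 LD3_c59)) = (LP (LK LD1_c5 LD2_c20 LD3_c57)) :=
  Lre_b IH (LK LD1_c10 LD2_c31 LD3_c59) (LK LD1_c5 LD2_c20 LD3_c57) Lrfl Lrfl
theorem f373297 : Led Lsl_at (LP (LK LD1_c5 LD2_c24 LD3_c56)) = (LP (LK LD1_c10 LD2_c40 LD3_c28)) :=
  Lre_a IH (LK LD1_c5 LD2_c24 LD3_c56) (LK LD1_c10 LD2_c40 LD3_c28) Lrfl Lrfl
theorem f373298 : Led Lsl_bt (LP (LK LD1_c2 LD2_c39 LD3_c0)) = (LP (LK LD1_c5 LD2_c24 LD3_c56)) :=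
  Lre_b IH (LK LD1_c2 LD2_c39 LD3_c0) (LK LD1_c5 LD2_c24 LD3_c56) Lrfl Lrfl
theorem f373299 : Led Lsl_at (LP (LK LD1_c5 LD2_c20 LD3_c57)) = (LP (LK LD1_c2 LD2_c39 LD3_c0)) :=
  Lgr Lrot67 (Lpe (f167966 IH) (Lpe (K41.f167988 IH) (Lpr_bf (K41.f373294 IH) (Lpe (f373297 IH) (Lpe (f373298 IH) (Lpn (LP (LK LD1_c2 LD2_c39 LD3_c0))))))))
theorem f320131 : Led Lsl_ct (LP (LK LD1_c2 LD2_c39 LD3_c0)) = (LP (LK LD1_c5 LD2_c24 LD3_c58)) :=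
  Lre_c IH (LK LD1_c2 LD2_c39 LD3_c0) (LK LD1_c5 LD2_c24 LD3_c58) Lrfl Lrfl
theorem f373315 : Led Lsl_af (LP (LK LD1_c7 LD2_c58 LD3_c10)) = (LP (LK LD1_c5 LD2_c24 LD3_c58)) :=
  Lgr Lrot68 (Lpr_ct (K23.f167969 IH) (Lpr_at (f373299 IH) (Lpr_ct (f320131 IH) (Lpn (LP (LK LD1_c5 LD2_c24 LD3_c58))))))
theorem f167971 : Led Lsl_ft (LP (LK LD1_c7 LD2_c58 LD3_c10)) = (LP (LK LD1_c15 LD2_c2 LD3_c1)) :=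
  Lre_f IH (LK LD1_c7 LD2_c58 LD3_c10) (LK LD1_c15 LD2_c2 LD3_c1) Lrfl Lrfl
theorem f373324 : Led Lsl_ft (LP (LK LD1_c10 LD2_c40 LD3_c40)) = (LP (LK LD1_c5 LD2_c24 LD3_c58)) :=
  Lre_f IH (LK LD1_c10 LD2_c40 LD3_c40) (LK LD1_c5 LD2_c24 LD3_c58) Lrfl Lrfl
theorem f373325 : Led Lsl_at (LP (LK LD1_c15 LD2_c2 LD3_c1)) = (LP (LK LD1_c10 LD2_c40 LD3_c40)) :=
  Lgr Lrot66 (Lpe (f167971 IH) (Lpr_af (f373315 IH) (Lpe (f373324 IH) (Lpn (LP (LK LD1_c10 LD2_c40 LD3_c40))))))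
theorem f373212 : Led Lsl_bt (LP (LK LD1_c7 LD2_c58 LD3_c17)) = (LP (LK LD1_c15 LD2_c2 LD3_c1)) :=
  Lre_b IH (LK LD1_c7 LD2_c58 LD3_c17) (LK LD1_c15 LD2_c2 LD3_c1) Lrfl Lrfl
theorem f373206 : Led Lsl_af (LP (LK LD1_c7 LD2_c57 LD3_c42)) = (LP (LK LD1_c3 LD2_c58 LD3_c26)) :=
  Lgr Lrot68 (Lpr_ct (K13.f196499 IH) (Lpr_at (K27.f373200 IH) (Lpr_ct (K25.f167978 IH) (Lpn (LP (LK LD1_c3 LD2_c58 LD3_c26))))))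
theorem f233864 : Led Lsl_ft (LP (LK LD1_c7 LD2_c57 LD3_c42)) = (LP (LK LD1_c15 LD2_c1 LD3_c2)) :=
  Lre_f IH (LK LD1_c7 LD2_c57 LD3_c42) (LK LD1_c15 LD2_c1 LD3_c2) Lrfl Lrfl
theorem f300195 : Led Lsl_ft (LP (LK LD1_c7 LD2_c58 LD3_c17)) = (LP (LK LD1_c3 LD2_c58 LD3_c26)) :=
  Lre_f IH (LK LD1_c7 LD2_c58 LD3_c17) (LK LD1_c3 LD2_c58 LD3_c26) Lrfl Lrfl
theorem f373210 : Led Lsl_at (LP (LK LD1_c15 LD2_c1 LD3_c2)) = (LP (LK LD1_c7 LD2_c58 LD3_c17)) :=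
  Lgr Lrot66 (Lpe (f233864 IH) (Lpr_af (f373206 IH) (Lpe (f300195 IH) (Lpn (LP (LK LD1_c7 LD2_c58 LD3_c17))))))
theorem f233863 : Led Lsl_ft (LP (LK LD1_c18 LD2_c2 LD3_c39)) = (LP (LK LD1_c9 LD2_c51 LD3_c27)) :=
  Lre_f IH (LK LD1_c18 LD2_c2 LD3_c39) (LK LD1_c9 LD2_c51 LD3_c27) Lrfl Lrfl
theorem f233865 : Led Lsl_bf (LP (LK LD1_c18 LD2_c2 LD3_c39)) = (LP (LK LD1_c15 LD2_c1 LD3_c2)) :=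
  Lgr Lrot61 (Lpr_ft (f233863 IH) (Lpr_bt (K13.f233857 IH) (Lpr_ft (f233864 IH) (Lpn (LP (LK LD1_c15 LD2_c1 LD3_c2))))))
theorem f233868 : Led Lsl_bt (LP (LK LD1_c18 LD2_c2 LD3_c39)) = (LP (LK LD1_c15 LD2_c1 LD3_c2)) :=
  Lgr Lrot127 (Lpr_bf (f233865 IH) (Lpn (LP (LK LD1_c15 LD2_c1 LD3_c2))))
theorem f373334 : Led Lsl_bt (LP (LK LD1_c10 LD2_c40 LD3_c40)) = (LP (LK LD1_c19 LD2_c20 LD3_c3)) :=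
  Lre_b IH (LK LD1_c10 LD2_c40 LD3_c40) (LK LD1_c19 LD2_c20 LD3_c3) Lrfl Lrfl
theorem f373335 : Led Lsl_af (LP (LK LD1_c18 LD2_c2 LD3_c39)) = (LP (LK LD1_c19 LD2_c20 LD3_c3)) :=
  Lgr Lrot36 (Lpr_bt (f233868 IH) (Lpr_at (f373210 IH) (Lpr_bt (f373212 IH) (Lpr_at (f373325 IH) (Lpr_bt (f373334 IH) (Lpn (LP (LK LD1_c19 LD2_c20 LD3_c3))))))))
theorem f363541 : Led Lsl_ef (LP (LK LD1_c7 LD2_c58 LD3_c25)) = (LP (LK LD1_c15 LD2_c1 LD3_c2)) :=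
  Lgr Lrot17 (Lpr_gf (K26.f359838 IH) (Lpr_ef (K26.f363535 IH) (Lpr_dt (K26.f301189 IH) (Lpe (K26.f363539 IH) (Lpe (K25.f326864 IH) (Lpe (K19.f305709 IH) (Lpe (K19.f305720 IH) (Lpr_dt (K19.f305737 IH) (Lpe (K26.f289944 IH) (Lpr_df (K26.f360463 IH) (Lpn (LP (LK LD1_c15 LD2_c1 LD3_c2)))))))))))))
theorem f363543 : Led Lsl_et (LP (LK LD1_c15 LD2_c2 LD3_c18)) = (LP (LK LD1_c18 LD2_c2 LD3_c39)) :=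
  Lgr Lrot74 (Lpe (K26.f223110 IH) (Lpr_ef (f363541 IH) (Lpe (f233868 IH) (Lpn (LP (LK LD1_c18 LD2_c2 LD3_c39))))))
theorem f363547 : Led Lsl_ef (LP (LK LD1_c15 LD2_c2 LD3_c18)) = (LP (LK LD1_c18 LD2_c2 LD3_c39)) :=
  Lgr Lrot88 (Lpr_et (f363543 IH) (Lpn (LP (LK LD1_c18 LD2_c2 LD3_c39))))
theorem f218909 : Led Lsl_ft (LP (LK LD1_c7 LD2_c58 LD3_c18)) = (LP (LK LD1_c15 LD2_c2 LD3_c18)) :=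
  Lre_f IH (LK LD1_c7 LD2_c58 LD3_c18) (LK LD1_c15 LD2_c2 LD3_c18) Lrfl Lrfl
theorem f359910 : Led Lsl_at (LP (LK LD1_c15 LD2_c2 LD3_c18)) = (LP (LK LD1_c18 LD2_c2 LD3_c40)) :=
  Lgr Lrot26 (Lpe (f218909 IH) (Lpr_gt (K23.f347954 IH) (Lpr_gt (K26.f359908 IH) (Lpn (LP (LK LD1_c18 LD2_c2 LD3_c40))))))
theorem f373345 : Led Lsl_et (LP (LK LD1_c18 LD2_c2 LD3_c40)) = (LP (LK LD1_c19 LD2_c20 LD3_c3)) :=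
  Lgr Lrot123 (Lpe (f359910 IH) (Lpr_ef (f363547 IH) (Lpr_af (f373335 IH) (Lpn (LP (LK LD1_c19 LD2_c20 LD3_c3))))))
theorem f305851 : Led Lsl_bt (LP (LK LD1_c10 LD2_c11 LD3_c55)) = (LP (LK LD1_c18 LD2_c34 LD3_c41)) :=
  Lre_b IH (LK LD1_c10 LD2_c11 LD3_c55) (LK LD1_c18 LD2_c34 LD3_c41) Lrfl Lrfl
theorem f323926 : Led Lsl_ef (LP (LK LD1_c11 LD2_c2 LD3_c31)) = (LP (LK LD1_c18 LD2_c34 LD3_c41)) :=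
  Lgr Lrot29 (Lpr_bt (K21.f323488 IH) (Lpe (K22.f305849 IH) (Lpr_bt (f305851 IH) (Lpn (LP (LK LD1_c18 LD2_c34 LD3_c41))))))
theorem f324025 : Led Lsl_et (LP (LK LD1_c11 LD2_c2 LD3_c31)) = (LP (LK LD1_c18 LD2_c34 LD3_c41)) :=
  Lgr Lrot87 (Lpr_ef (f323926 IH) (Lpn (LP (LK LD1_c18 LD2_c34 LD3_c41))))
theorem f306062 : Led Lsl_dt (LP (LK LD1_c18 LD2_c34 LD3_c41)) = (LP (LK LD1_c10 LD2_c11 LD3_c53)) :=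
  Lre_d IH (LK LD1_c18 LD2_c34 LD3_c41) (LK LD1_c10 LD2_c11 LD3_c53) Lrfl Lrfl
theorem f306061 : Led Lsl_et (LP (LK LD1_c10 LD2_c11 LD3_c53)) = (LP (LK LD1_c18 LD2_c34 LD3_c42)) :=
  Lre_e IH (LK LD1_c10 LD2_c11 LD3_c53) (LK LD1_c18 LD2_c34 LD3_c42) Lrfl Lrfl
theorem f305842 : Led Lsl_bt (LP (LK LD1_c20 LD2_c5 LD3_c21)) = (LP (LK LD1_c11 LD2_c10 LD3_c35)) :=
  Lre_b IH (LK LD1_c20 LD2_c5 LD3_c21) (LK LD1_c11 LD2_c10 LD3_c35) Lrfl Lrfl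
theorem f306058 : Led Lsl_bt (LP (LK LD1_c10 LD2_c11 LD3_c56)) = (LP (LK LD1_c18 LD2_c34 LD3_c42)) :=
  Lre_b IH (LK LD1_c10 LD2_c11 LD3_c56) (LK LD1_c18 LD2_c34 LD3_c42) Lrfl Lrfl
theorem f306059 : Led Lsl_df (LP (LK LD1_c20 LD2_c5 LD3_c21)) = (LP (LK LD1_c18 LD2_c34 LD3_c42)) :=
  Lgr Lrot12 (Lpr_bt (f305842 IH) (Lpr_dt (K19.f305836 IH) (Lpr_bt (f306058 IH) (Lpn (LP (LK LD1_c18 LD2_c34 LD3_c42))))))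
theorem f324037 : Led Lsl_ef (LP (LK LD1_c19 LD2_c53 LD3_c49)) = (LP (LK LD1_c20 LD2_c5 LD3_c21)) :=
  Lgr Lrot73 (Lpr_dt (K23.f213045 IH) (Lpr_et (f324025 IH) (Lpr_dt (f306062 IH) (Lpr_et (f306061 IH) (Lpe (f306059 IH) (Lpn (LP (LK LD1_c20 LD2_c5 LD3_c21))))))))
theorem f305831 : Led Lsl_bt (LP (LK LD1_c11 LD2_c10 LD3_c35)) = (LP (LK LD1_c20 LD2_c5 LD3_c21)) :=
  Lre_b IH (LK LD1_c11 LD2_c10 LD3_c35) (LK LD1_c20 LD2_c5 LD3_c21) Lrfl Lrfl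
theorem f305832 : Led Lsl_bt (LP (LK LD1_c18 LD2_c34 LD3_c42)) = (LP (LK LD1_c10 LD2_c11 LD3_c56)) :=
  Lre_b IH (LK LD1_c18 LD2_c34 LD3_c42) (LK LD1_c10 LD2_c11 LD3_c56) Lrfl Lrfl
theorem f305833 : Led Lsl_dt (LP (LK LD1_c20 LD2_c5 LD3_c21)) = (LP (LK LD1_c18 LD2_c34 LD3_c42)) :=
  Lgr Lrot79 (Lpe (f305831 IH) (Lpr_df (K19.f305829 IH) (Lpe (f305832 IH) (Lpn (LP (LK LD1_c18 LD2_c34 LD3_c42))))))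
theorem f324029 : Led Lsl_gf (LP (LK LD1_c8 LD2_c15 LD3_c6)) = (LP (LK LD1_c10 LD2_c11 LD3_c53)) :=
  Lgr Lrot145 (Lpe (K17.f284818 IH) (Lpe (K17.f251733 IH) (Lpe (K14.f234776 IH) (Lpr_dt (K12.f51417 IH) (Lpe (K12.f222242 IH) (Lpe (K12.f212849 IH) (Lpr_et (K12.f212852 IH) (Lpr_gt (K20.f213044 IH) (Lpr_ef (f323926 IH) (Lpr_dt (f306062 IH) (Lpn (LP (LK LD1_c10 LD2_c11 LD3_c53)))))))))))))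
theorem f306063 : Led Lsl_et (LP (LK LD1_c18 LD2_c34 LD3_c42)) = (LP (LK LD1_c10 LD2_c11 LD3_c53)) :=
  Lre_e IH (LK LD1_c18 LD2_c34 LD3_c42) (LK LD1_c10 LD2_c11 LD3_c53) Lrfl Lrfl
theorem f324031 : Led Lsl_gt (LP (LK LD1_c11 LD2_c54 LD3_c58)) = (LP (LK LD1_c20 LD2_c5 LD3_c21)) :=
  Lgr Lrot139 (Lpe (K27.f195687 IH) (Lpe (K18.f284833 IH) (Lpe (K18.f188409 IH) (Lpr_dt (K18.f251301 IH) (Lpr_gf (K15.f263678 IH) (Lpr_df (K17.f284828 IH) (Lpr_et (K19.f214630 IH) (Lpr_gf (f324029 IH) (Lpe (f306063 IH) (Lpe (f306059 IH) (Lpn (LP (LK LD1_c20 LD2_c5 LD3_c21)))))))))))))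
theorem f263566 : Led Lsl_af (LP (LK LD1_c18 LD2_c52 LD3_c22)) = (LP (LK LD1_c15 LD2_c36 LD3_c49)) :=
  Lgr Lrot0 (Lpr_at (K15.f263563 IH) (Lpn (LP (LK LD1_c15 LD2_c36 LD3_c49))))
theorem f324033 : Led Lsl_gf (LP (LK LD1_c18 LD2_c52 LD3_c22)) = (LP (LK LD1_c20 LD2_c5 LD3_c21)) :=
  Lgr Lrot76 (Lpr_af (f263566 IH) (Lpe (K15.f263576 IH) (Lpr_gt (f324031 IH) (Lpn (LP (LK LD1_c20 LD2_c5 LD3_c21))))))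
theorem f301015 : Led Lsl_et (LP (LK LD1_c15 LD2_c50 LD3_c54)) = (LP (LK LD1_c15 LD2_c50 LD3_c43)) :=
  Lgr Lrot71 (Lpr_df (K18.f49183 IH) (Lpr_ef (K24.f301011 IH) (Lpe (K18.f300981 IH) (Lpe (K17.f258511 IH) (Lpr_df (K15.f263622 IH) (Lpn (LP (LK LD1_c15 LD2_c50 LD3_c43))))))))
theorem f309621 : Led Lsl_gt (LP (LK LD1_c9 LD2_c54 LD3_c46)) = (LP (LK LD1_c8 LD2_c26 LD3_c14)) :=
  Lgr Lrot46 (Lpr_gf (K24.f309619 IH) (Lpe (K9.f49831 IH) (Lpe (K9.f49457 IH) (Lpn (LP (LK LD1_c8 LD2_c26 LD3_c14))))))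
theorem f239641 : Led Lsl_dt (LP (LK LD1_c18 LD2_c8 LD3_c46)) = (LP (LK LD1_c9 LD2_c54 LD3_c46)) :=
  Lre_d IH (LK LD1_c18 LD2_c8 LD3_c46) (LK LD1_c9 LD2_c54 LD3_c46) Lrfl Lrfl
theorem f309625 : Led Lsl_gf (LP (LK LD1_c18 LD2_c8 LD3_c46)) = (LP (LK LD1_c18 LD2_c4 LD3_c25)) :=
  Lgr Lrot138 (Lpr_dt (f239641 IH) (Lpr_gt (f309621 IH) (Lpe (K9.f50071 IH) (Lpr_et (K9.f45003 IH) (Lpr_gt (K10.f49480 IH) (Lpe (K17.f49487 IH) (Lpr_dt (K26.f219941 IH) (Lpr_gt (K22.f219955 IH) (Lpe (K27.f219960 IH) (Lpr_et (K27.f219962 IH) (Lpn (LP (LK LD1_c18 LD2_c4 LD3_c25)))))))))))))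
theorem f239640 : Led Lsl_et (LP (LK LD1_c9 LD2_c54 LD3_c46)) = (LP (LK LD1_c18 LD2_c8 LD3_c47)) :=
  Lre_e IH (LK LD1_c9 LD2_c54 LD3_c46) (LK LD1_c18 LD2_c8 LD3_c47) Lrfl Lrfl
theorem f324035 : Led Lsl_gt (LP (LK LD1_c18 LD2_c8 LD3_c47)) = (LP (LK LD1_c18 LD2_c34 LD3_c42)) :=
  Lgr Lrot137 (Lpe (f239640 IH) (Lpr_dt (K24.f239637 IH) (Lpr_gf (f309625 IH) (Lpe (K27.f219969 IH) (Lpr_et (K27.f33268 IH) (Lpr_gf (K21.f263632 IH) (Lpe (f301015 IH) (Lpr_dt (K14.f49176 IH) (Lpr_gf (f324033 IH) (Lpr_df (f306059 IH) (Lpn (LP (LK LD1_c18 LD2_c34 LD3_c42)))))))))))))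
theorem f373351 : Led Lsl_gf (LP (LK LD1_c15 LD2_c53 LD3_c41)) = (LP (LK LD1_c19 LD2_c20 LD3_c3)) :=
  Lgr Lrot138 (Lpr_dt (K24.f239543 IH) (Lpr_gt (f324035 IH) (Lpe (f305833 IH) (Lpe (f324037 IH) (Lpr_gt (K23.f222248 IH) (Lpe (K23.f189743 IH) (Lpr_dt (K23.f189741 IH) (Lpe (K27.f369817 IH) (Lpe (K26.f232123 IH) (Lpr_et (f373345 IH) (Lpn (LP (LK LD1_c19 LD2_c20 LD3_c3)))))))))))))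
theorem f373357 : Led Lsl_dt (LP (LK LD1_c15 LD2_c50 LD3_c53)) = (LP (LK LD1_c19 LD2_c20 LD3_c3)) :=
  Lgr Lrot171 (Lpe (K21.f49179 IH) (Lpe (K14.f49186 IH) (Lpr_dt (K14.f49166 IH) (Lpe (K10.f49437 IH) (Lpe (K9.f49443 IH) (Lpr_et (K9.f44985 IH) (Lpe (f309621 IH) (Lpe (K24.f239636 IH) (Lpe (K24.f239633 IH) (Lpr_gf (f373351 IH) (Lpn (LP (LK LD1_c19 LD2_c20 LD3_c3)))))))))))))
theorem f284841 : Led Lsl_ft (LP (LK LD1_c19 LD2_c20 LD3_c3)) = (LP (LK LD1_c10 LD2_c40 LD3_c39)) :=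
  Lre_f IH (LK LD1_c19 LD2_c20 LD3_c3) (LK LD1_c10 LD2_c40 LD3_c39) Lrfl Lrfl
theorem f373367 : Led Lsl_ff (LP (LK LD1_c15 LD2_c50 LD3_c53)) = (LP (LK LD1_c9 LD2_c52 LD3_c19)) :=
  Lgr Lrot19 (Lpr_dt (f373357 IH) (Lpr_ft (f284841 IH) (Lpe (K18.f284837 IH) (Lpn (LP (LK LD1_c9 LD2_c52 LD3_c19))))))
theorem f373375 : Led Lsl_ft (LP (LK LD1_c15 LD2_c50 LD3_c53)) = (LP (LK LD1_c9 LD2_c52 LD3_c19)) :=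
  Lgr Lrot48 (Lpr_ff (f373367 IH) (Lpn (LP (LK LD1_c9 LD2_c52 LD3_c19))))
theorem f326713 : Led Lsl_ct (LP (LK LD1_c10 LD2_c20 LD3_c36)) = (LP (LK LD1_c15 LD2_c50 LD3_c53)) :=
  Lgr Lrot59 (Lpr_cf (K21.f326711 IH) (Lpn (LP (LK LD1_c15 LD2_c50 LD3_c53))))
theorem f53555 : Led Lsl_et (LP (LK LD1_c10 LD2_c24 LD3_c42)) = (LP (LK LD1_c5 LD2_c17 LD3_c32)) :=
  Lre_e IH (LK LD1_c10 LD2_c24 LD3_c42) (LK LD1_c5 LD2_c17 LD3_c32) Lrfl Lrfl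
theorem f188410 : Led Lsl_ct (LP (LK LD1_c9 LD2_c52 LD3_c19)) = (LP (LK LD1_c10 LD2_c24 LD3_c42)) :=
  Lgr Lrot15 (Lpe (K18.f188409 IH) (Lpr_cf (K15.f188404 IH) (Lpe (f53555 IH) (Lpn (LP (LK LD1_c10 LD2_c24 LD3_c42))))))
theorem f373377 : Led Lsl_ff (LP (LK LD1_c10 LD2_c20 LD3_c36)) = (LP (LK LD1_c10 LD2_c24 LD3_c42)) :=
  Lgr Lrot23 (Lpr_ct (f326713 IH) (Lpr_ft (f373375 IH) (Lpr_ct (f188410 IH) (Lpn (LP (LK LD1_c10 LD2_c24 LD3_c42))))))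
theorem f188420 : Led Lsl_et (LP (LK LD1_c5 LD2_c17 LD3_c32)) = (LP (LK LD1_c10 LD2_c24 LD3_c42)) :=
  Lre_e IH (LK LD1_c5 LD2_c17 LD3_c32) (LK LD1_c10 LD2_c24 LD3_c42) Lrfl Lrfl
theorem f284854 : Led Lsl_gt (LP (LK LD1_c10 LD2_c24 LD3_c42)) = (LP (LK LD1_c10 LD2_c19 LD3_c34)) :=
  Lgr Lrot131 (Lpe (f188420 IH) (Lpr_dt (K16.f188421 IH) (Lpr_gf (K17.f284831 IH) (Lpe (K17.f189514 IH) (Lpr_gf (K14.f189508 IH) (Lpr_ef (K13.f44978 IH) (Lpr_dt (K14.f45023 IH) (Lpr_gf (K15.f252538 IH) (Lpe (K14.f192458 IH) (Lpr_et (K26.f252536 IH) (Lpn (LP (LK LD1_c10 LD2_c19 LD3_c34)))))))))))))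
theorem f373379 : Led Lsl_at (LP (LK LD1_c10 LD2_c20 LD3_c36)) = (LP (LK LD1_c18 LD2_c44 LD3_c47)) :=
  Lgr Lrot26 (Lpr_ff (f373377 IH) (Lpr_gt (f284854 IH) (Lpr_gt (K26.f252537 IH) (Lpn (LP (LK LD1_c18 LD2_c44 LD3_c47))))))
theorem f278391 : Led Lsl_et (LP (LK LD1_c5 LD2_c17 LD3_c31)) = (LP (LK LD1_c10 LD2_c24 LD3_c39)) :=
  Lre_e IH (LK LD1_c5 LD2_c17 LD3_c31) (LK LD1_c10 LD2_c24 LD3_c39) Lrfl Lrfl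
theorem f278398 : Led Lsl_ft (LP (LK LD1_c10 LD2_c24 LD3_c39)) = (LP (LK LD1_c18 LD2_c53 LD3_c15)) :=
  Lre_f IH (LK LD1_c10 LD2_c24 LD3_c39) (LK LD1_c18 LD2_c53 LD3_c15) Lrfl Lrfl
theorem f246191 : Led Lsl_et (LP (LK LD1_c5 LD2_c9 LD3_c35)) = (LP (LK LD1_c10 LD2_c9 LD3_c55)) :=
  Lre_e IH (LK LD1_c5 LD2_c9 LD3_c35) (LK LD1_c10 LD2_c9 LD3_c55) Lrfl Lrfl
theorem f330510 : Led Lsl_ef (LP (LK LD1_c10 LD2_c9 LD3_c54)) = (LP (LK LD1_c10 LD2_c20 LD3_c37)) :=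
  Lgr Lrot28 (Lpr_ct (K19.f190997 IH) (Lpr_et (f246191 IH) (Lpr_ct (K21.f330503 IH) (Lpn (LP (LK LD1_c10 LD2_c20 LD3_c37))))))
theorem f364531 : Led Lsl_ft (LP (LK LD1_c18 LD2_c44 LD3_c47)) = (LP (LK LD1_c10 LD2_c20 LD3_c37)) :=
  Lgr Lrot86 (Lpr_ef (K26.f359712 IH) (Lpe (f278398 IH) (Lpe (f278391 IH) (Lpr_ff (K26.f364525 IH) (Lpr_ef (f330510 IH) (Lpn (LP (LK LD1_c10 LD2_c20 LD3_c37))))))))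
theorem f373383 : Led Lsl_af (LP (LK LD1_c10 LD2_c24 LD3_c42)) = (LP (LK LD1_c10 LD2_c20 LD3_c37)) :=
  Lgr Lrot45 (Lpe (f373377 IH) (Lpr_at (f373379 IH) (Lpr_ft (f364531 IH) (Lpn (LP (LK LD1_c10 LD2_c20 LD3_c37))))))
theorem f373385 : Led Lsl_at (LP (LK LD1_c10 LD2_c24 LD3_c42)) = (LP (LK LD1_c10 LD2_c20 LD3_c37)) :=
  Lgr Lrot100 (Lpr_af (f373383 IH) (Lpn (LP (LK LD1_c10 LD2_c20 LD3_c37))))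
theorem f188417 : Led Lsl_cf (LP (LK LD1_c9 LD2_c52 LD3_c19)) = (LP (LK LD1_c10 LD2_c24 LD3_c42)) :=
  Lgr Lrot11 (Lpr_ct (f188410 IH) (Lpn (LP (LK LD1_c10 LD2_c24 LD3_c42))))
theorem f373373 : Led Lsl_ft (LP (LK LD1_c10 LD2_c20 LD3_c36)) = (LP (LK LD1_c10 LD2_c24 LD3_c42)) :=
  Lgr Lrot4 (Lpr_cf (K21.f326711 IH) (Lpr_ff (f373367 IH) (Lpr_cf (f188417 IH) (Lpn (LP (LK LD1_c10 LD2_c24 LD3_c42))))))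
theorem f373381 : Led Lsl_af (LP (LK LD1_c10 LD2_c20 LD3_c36)) = (LP (LK LD1_c18 LD2_c44 LD3_c47)) :=
  Lgr Lrot0 (Lpr_at (f373379 IH) (Lpn (LP (LK LD1_c18 LD2_c44 LD3_c47))))
theorem f373405 : Led Lsl_ff (LP (LK LD1_c18 LD2_c44 LD3_c47)) = (LP (LK LD1_c10 LD2_c20 LD3_c37)) :=
  Lgr Lrot30 (Lpe (f373381 IH) (Lpr_ft (f373373 IH) (Lpr_at (f373385 IH) (Lpn (LP (LK LD1_c10 LD2_c20 LD3_c37))))))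
theorem f373407 : Led Lsl_et (LP (LK LD1_c10 LD2_c9 LD3_c54)) = (LP (LK LD1_c10 LD2_c20 LD3_c37)) :=
  Lgr Lrot69 (Lpe (K26.f364517 IH) (Lpe (K23.f259670 IH) (Lpe (K26.f278392 IH) (Lpe (K26.f359716 IH) (Lpr_ff (f373405 IH) (Lpn (LP (LK LD1_c10 LD2_c20 LD3_c37))))))))
theorem f373409 : Led Lsl_af (LP (LK LD1_c10 LD2_c9 LD3_c54)) = (LP (LK LD1_c5 LD2_c17 LD3_c32)) :=
  Lgr Lrot50 (Lpr_et (f373407 IH) (Lpe (f373383 IH) (Lpr_et (f53555 IH) (Lpn (LP (LK LD1_c5 LD2_c17 LD3_c32))))))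
theorem f285465 : Led Lsl_at (LP (LK LD1_c18 LD2_c30 LD3_c60)) = (LP (LK LD1_c28 LD2_c5 LD3_c10)) :=
  Lre_a IH (LK LD1_c18 LD2_c30 LD3_c60) (LK LD1_c28 LD2_c5 LD3_c10) Lrfl Lrfl
theorem f373459 : Led Lsl_at (LP (LK LD1_c18 LD2_c53 LD3_c18)) = (LP (LK LD1_c10 LD2_c24 LD3_c40)) :=
  Lre_a IH (LK LD1_c18 LD2_c53 LD3_c18) (LK LD1_c10 LD2_c24 LD3_c40) Lrfl Lrfl
theorem f373460 : Led Lsl_bt (LP (LK LD1_c28 LD2_c5 LD3_c10)) = (LP (LK LD1_c18 LD2_c53 LD3_c18)) :=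
  Lgr Lrot62 (Lpe (f285465 IH) (Lpe (f246192 IH) (Lpr_af (f373409 IH) (Lpe (f188291 IH) (Lpe (f373459 IH) (Lpn (LP (LK LD1_c18 LD2_c53 LD3_c18))))))))
theorem f410257 : Led Lsl_gt (LP (LK LD1_c27 LD2_c50 LD3_c45)) = (LP (LK LD1_c18 LD2_c53 LD3_c18)) :=
  Lgr Lrot164 (Lpe (f250107 IH) (Lpr_ct (f250106 IH) (Lpr_gf (f410254 IH) (Lpe (f264218 IH) (Lpe (f264213 IH) (Lpe (f264219 IH) (Lpr_ct (f278372 IH) (Lpe (f370925 IH) (Lpe (f285474 IH) (Lpr_bt (f373460 IH) (Lpn (LP (LK LD1_c18 LD2_c53 LD3_c18)))))))))))))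
theorem f373464 : Led Lsl_at (LP (LK LD1_c10 LD2_c24 LD3_c40)) = (LP (LK LD1_c18 LD2_c53 LD3_c18)) :=
  Lre_a IH (LK LD1_c10 LD2_c24 LD3_c40) (LK LD1_c18 LD2_c53 LD3_c18) Lrfl Lrfl
theorem f410259 : Led Lsl_gf (LP (LK LD1_c27 LD2_c50 LD3_c45)) = (LP (LK LD1_c18 LD2_c38 LD3_c44)) :=
  Lgr Lrot47 (Lpr_gt (f410257 IH) (Lpe (f373464 IH) (Lpr_ff (f377968 IH) (Lpn (LP (LK LD1_c18 LD2_c38 LD3_c44))))))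
theorem f583744 : Led Lsl_gf (LP (LK LD1_c10 LD2_c13 LD3_c0)) = (LP (LK LD1_c10 LD2_c14 LD3_c50)) :=
  Lgr Lrot144 (Lpr_dt (K19.f163775 IH) (Lpr_gt (f185694 IH) (Lpr_dt (f583736 IH) (Lpr_cf (f51316 IH) (Lpe (f49964 IH) (Lpe (f50002 IH) (Lpe (f412864 IH) (Lpr_gf (f410259 IH) (Lpe (f258079 IH) (Lpn (LP (LK LD1_c10 LD2_c14 LD3_c50))))))))))))
theorem f375439 : Led Lsl_at (LP (LK LD1_c10 LD2_c3 LD3_c13)) = (LP (LK LD1_c18 LD2_c21 LD3_c46)) :=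
  Lre_a IH (LK LD1_c10 LD2_c3 LD3_c13) (LK LD1_c18 LD2_c21 LD3_c46) Lrfl Lrfl
theorem f583752 : Led Lsl_gt (LP (LK LD1_c10 LD2_c13 LD3_c0)) = (LP (LK LD1_c18 LD2_c21 LD3_c46)) :=
  Lgr Lrot46 (Lpr_gf (f583744 IH) (Lpe (f364473 IH) (Lpr_at (f375439 IH) (Lpn (LP (LK LD1_c18 LD2_c21 LD3_c46))))))
theorem f377984 : Led Lsl_ct (LP (LK LD1_c18 LD2_c21 LD3_c46)) = (LP (LK LD1_c18 LD2_c53 LD3_c18)) :=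
  Lgr Lrot111 (Lpe (f375439 IH) (Lpr_cf (f377982 IH) (Lpe (f373459 IH) (Lpn (LP (LK LD1_c18 LD2_c53 LD3_c18))))))
theorem f377993 : Led Lsl_cf (LP (LK LD1_c18 LD2_c21 LD3_c46)) = (LP (LK LD1_c18 LD2_c53 LD3_c18)) :=
  Lgr Lrot11 (Lpr_ct (f377984 IH) (Lpn (LP (LK LD1_c18 LD2_c53 LD3_c18))))
theorem f373462 : Led Lsl_bf (LP (LK LD1_c28 LD2_c5 LD3_c10)) = (LP (LK LD1_c18 LD2_c53 LD3_c18)) :=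
  Lgr Lrot24 (Lpr_bt (f373460 IH) (Lpn (LP (LK LD1_c18 LD2_c53 LD3_c18))))
theorem f259678 : Led Lsl_gt (LP (LK LD1_c18 LD2_c53 LD3_c10)) = (LP (LK LD1_c10 LD2_c24 LD3_c37)) :=
  Lre_g IH (LK LD1_c18 LD2_c53 LD3_c10) (LK LD1_c10 LD2_c24 LD3_c37) Lrfl Lrfl
theorem f370908 : Led Lsl_gt (LP (LK LD1_c28 LD2_c5 LD3_c10)) = (LP (LK LD1_c18 LD2_c53 LD3_c10)) :=
  Lgr Lrot5 (Lpr_ft (f370904 IH) (Lpr_at (f278342 IH) (Lpe (f259678 IH) (Lpn (LP (LK LD1_c18 LD2_c53 LD3_c10))))))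
theorem f214945 : Led Lsl_bt (LP (LK LD1_c9 LD2_c56 LD3_c32)) = (LP (LK LD1_c5 LD2_c2 LD3_c53)) :=
  Lre_b IH (LK LD1_c9 LD2_c56 LD3_c32) (LK LD1_c5 LD2_c2 LD3_c53) Lrfl Lrfl
theorem f165549 : Led Lsl_gt (LP (LK LD1_c10 LD2_c9 LD3_c61)) = (LP (LK LD1_c18 LD2_c31 LD3_c12)) :=
  Lre_g IH (LK LD1_c10 LD2_c9 LD3_c61) (LK LD1_c18 LD2_c31 LD3_c12) Lrfl Lrfl
theorem f165555 : Led Lsl_bt (LP (LK LD1_c28 LD2_c5 LD3_c30)) = (LP (LK LD1_c18 LD2_c31 LD3_c12)) :=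
  Lre_b IH (LK LD1_c28 LD2_c5 LD3_c30) (LK LD1_c18 LD2_c31 LD3_c12) Lrfl Lrfl
theorem f278347 : Led Lsl_cf (LP (LK LD1_c18 LD2_c53 LD3_c10)) = (LP (LK LD1_c28 LD2_c5 LD3_c30)) :=
  Lgr Lrot160 (Lpr_gt (f259678 IH) (Lpr_cf (K23.f278329 IH) (Lpr_bt (f214945 IH) (Lpe (K16.f214942 IH) (Lpr_ct (K14.f46489 IH) (Lpe (K15.f256487 IH) (Lpe (K18.f165542 IH) (Lpr_bt (f165536 IH) (Lpr_gt (f165549 IH) (Lpe (f165555 IH) (Lpn (LP (LK LD1_c28 LD2_c5 LD3_c30)))))))))))))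
theorem f278351 : Led Lsl_ct (LP (LK LD1_c18 LD2_c53 LD3_c10)) = (LP (LK LD1_c28 LD2_c5 LD3_c30)) :=
  Lgr Lrot59 (Lpr_cf (f278347 IH) (Lpn (LP (LK LD1_c28 LD2_c5 LD3_c30))))
theorem f585601 : Led Lsl_gt (LP (LK LD1_c28 LD2_c5 LD3_c30)) = (LP (LK LD1_c27 LD2_c51 LD3_c41)) :=
  Lgr Lrot149 (Lpe (f278351 IH) (Lpe (f370908 IH) (Lpr_bf (f373462 IH) (Lpe (f377993 IH) (Lpe (f583752 IH) (Lpe (f185527 IH) (Lpe (K19.f248454 IH) (Lpe (f585571 IH) (Lpr_bf (f585593 IH) (Lpr_ct (f409319 IH) (Lpn (LP (LK LD1_c27 LD2_c51 LD3_c41)))))))))))))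
theorem f278337 : Led Lsl_dt (LP (LK LD1_c10 LD2_c24 LD3_c37)) = (LP (LK LD1_c18 LD2_c53 LD3_c12)) :=
  Lre_d IH (LK LD1_c10 LD2_c24 LD3_c37) (LK LD1_c18 LD2_c53 LD3_c12) Lrfl Lrfl
theorem f188470 : Led Lsl_dt (LP (LK LD1_c25 LD2_c23 LD3_c60)) = (LP (LK LD1_c15 LD2_c31 LD3_c0)) :=
  Lre_d IH (LK LD1_c25 LD2_c23 LD3_c60) (LK LD1_c15 LD2_c31 LD3_c0) Lrfl Lrfl
theorem f48517 : Led Lsl_gt (LP (LK LD1_c5 LD2_c18 LD3_c10)) = (LP (LK LD1_c10 LD2_c26 LD3_c0)) :=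
  Lre_g IH (LK LD1_c5 LD2_c18 LD3_c10) (LK LD1_c10 LD2_c26 LD3_c0) Lrfl Lrfl
theorem f32785 : Led Lsl_bt (LP (LK LD1_c18 LD2_c55 LD3_c27)) = (LP (LK LD1_c10 LD2_c26 LD3_c0)) :=
  Lre_b IH (LK LD1_c18 LD2_c55 LD3_c27) (LK LD1_c10 LD2_c26 LD3_c0) Lrfl Lrfl
theorem f257822 : Led Lsl_ct (LP (LK LD1_c18 LD2_c55 LD3_c27)) = (LP (LK LD1_c28 LD2_c23 LD3_c31)) :=
  Lre_c IH (LK LD1_c18 LD2_c55 LD3_c27) (LK LD1_c28 LD2_c23 LD3_c31) Lrfl Lrfl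
theorem f257823 : Led Lsl_gf (LP (LK LD1_c25 LD2_c26 LD3_c29)) = (LP (LK LD1_c28 LD2_c23 LD3_c31)) :=
  Lgr Lrot126 (Lpe (f53518 IH) (Lpr_bt (f53499 IH) (Lpe (K15.f257799 IH) (Lpr_ct (K15.f188235 IH) (Lpr_gt (K15.f257810 IH) (Lpe (K10.f187650 IH) (Lpr_bt (f187763 IH) (Lpr_gt (f48517 IH) (Lpe (f32785 IH) (Lpr_ct (f257822 IH) (Lpn (LP (LK LD1_c28 LD2_c23 LD3_c31)))))))))))))
theorem f585603 : Led Lsl_df (LP (LK LD1_c28 LD2_c23 LD3_c31)) = (LP (LK LD1_c27 LD2_c51 LD3_c41)) :=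
  Lgr Lrot153 (Lpe (f257823 IH) (Lpr_dt (f583678 IH) (Lpe (f51330 IH) (Lpe (f188470 IH) (Lpe (f583667 IH) (Lpe (f278337 IH) (Lpe (f259678 IH) (Lpr_cf (f278347 IH) (Lpr_gt (f585601 IH) (Lpn (LP (LK LD1_c27 LD2_c51 LD3_c41))))))))))))
theorem f53510 : Led Lsl_ct (LP (LK LD1_c25 LD2_c26 LD3_c29)) = (LP (LK LD1_c15 LD2_c33 LD3_c8)) :=
  Lre_c IH (LK LD1_c25 LD2_c26 LD3_c29) (LK LD1_c15 LD2_c33 LD3_c8) Lrfl Lrfl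
theorem f53516 : Led Lsl_gt (LP (LK LD1_c15 LD2_c33 LD3_c8)) = (LP (LK LD1_c25 LD2_c26 LD3_c41)) :=
  Lre_g IH (LK LD1_c15 LD2_c33 LD3_c8) (LK LD1_c25 LD2_c26 LD3_c41) Lrfl Lrfl
theorem f585580 : Led Lsl_bt (LP (LK LD1_c18 LD2_c11 LD3_c22)) = (LP (LK LD1_c27 LD2_c51 LD3_c41)) :=
  Lre_b IH (LK LD1_c18 LD2_c11 LD3_c22) (LK LD1_c27 LD2_c51 LD3_c41) Lrfl Lrfl
theorem f406742 : Led Lsl_dt (LP (LK LD1_c27 LD2_c51 LD3_c42)) = (LP (LK LD1_c18 LD2_c11 LD3_c22)) :=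
  Lre_d IH (LK LD1_c27 LD2_c51 LD3_c42) (LK LD1_c18 LD2_c11 LD3_c22) Lrfl Lrfl
theorem f249094 : Led Lsl_dt (LP (LK LD1_c17 LD2_c46 LD3_c2)) = (LP (LK LD1_c9 LD2_c39 LD3_c39)) :=
  Lre_d IH (LK LD1_c17 LD2_c46 LD3_c2) (LK LD1_c9 LD2_c39 LD3_c39) Lrfl Lrfl
theorem f249732 : Led Lsl_dt (LP (LK LD1_c18 LD2_c33 LD3_c60)) = (LP (LK LD1_c10 LD2_c11 LD3_c32)) :=
  Lre_d IH (LK LD1_c18 LD2_c33 LD3_c60) (LK LD1_c10 LD2_c11 LD3_c32) Lrfl Lrfl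
theorem f299890 : Led Lsl_bt (LP (LK LD1_c10 LD2_c10 LD3_c3)) = (LP (LK LD1_c18 LD2_c30 LD3_c38)) :=
  Lre_b IH (LK LD1_c10 LD2_c10 LD3_c3) (LK LD1_c18 LD2_c30 LD3_c38) Lrfl Lrfl
theorem f299962 : Led Lsl_ff (LP (LK LD1_c18 LD2_c11 LD3_c23)) = (LP (LK LD1_c18 LD2_c30 LD3_c38)) :=
  Lgr Lrot25 (Lpr_bt (K18.f299802 IH) (Lpr_ft (K18.f299874 IH) (Lpr_bt (f299890 IH) (Lpn (LP (LK LD1_c18 LD2_c30 LD3_c38))))))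
theorem f406737 : Led Lsl_gf (LP (LK LD1_c18 LD2_c11 LD3_c22)) = (LP (LK LD1_c18 LD2_c30 LD3_c38)) :=
  Lgr Lrot47 (Lpr_gt (f406736 IH) (Lpe (K18.f299806 IH) (Lpr_ff (f299962 IH) (Lpn (LP (LK LD1_c18 LD2_c30 LD3_c38))))))
theorem f406739 : Led Lsl_dt (LP (LK LD1_c18 LD2_c11 LD3_c22)) = (LP (LK LD1_c27 LD2_c51 LD3_c42)) :=
  Lre_d IH (LK LD1_c18 LD2_c11 LD3_c22) (LK LD1_c27 LD2_c51 LD3_c42) Lrfl Lrfl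
theorem f585423 : Led Lsl_gf (LP (LK LD1_c18 LD2_c33 LD3_c60)) = (LP (LK LD1_c27 LD2_c51 LD3_c42)) :=
  Lgr Lrot143 (Lpr_dt (f249732 IH) (Lpe (K37.f248969 IH) (Lpe (f249094 IH) (Lpr_gf (f544834 IH) (Lpr_df (f584492 IH) (Lpe (f300224 IH) (Lpr_cf (K18.f300058 IH) (Lpe (f406737 IH) (Lpr_dt (f406739 IH) (Lpn (LP (LK LD1_c27 LD2_c51 LD3_c42))))))))))))
theorem f249725 : Led Lsl_at (LP (LK LD1_c28 LD2_c8 LD3_c7)) = (LP (LK LD1_c18 LD2_c33 LD3_c60)) :=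
  Lre_a IH (LK LD1_c28 LD2_c8 LD3_c7) (LK LD1_c18 LD2_c33 LD3_c60) Lrfl Lrfl
theorem f249724 : Led Lsl_at (LP (LK LD1_c18 LD2_c14 LD3_c21)) = (LP (LK LD1_c27 LD2_c54 LD3_c36)) :=
  Lre_a IH (LK LD1_c18 LD2_c14 LD3_c21) (LK LD1_c27 LD2_c54 LD3_c36) Lrfl Lrfl
theorem f249726 : Led Lsl_ft (LP (LK LD1_c27 LD2_c54 LD3_c36)) = (LP (LK LD1_c28 LD2_c8 LD3_c7)) :=
  Lgr Lrot101 (Lpe (f249724 IH) (Lpr_ff (K14.f249721 IH) (Lpe (f249725 IH) (Lpn (LP (LK LD1_c28 LD2_c8 LD3_c7))))))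
theorem f585426 : Led Lsl_gt (LP (LK LD1_c27 LD2_c54 LD3_c36)) = (LP (LK LD1_c27 LD2_c51 LD3_c42)) :=
  Lgr Lrot5 (Lpr_ft (f249726 IH) (Lpr_at (f249725 IH) (Lpr_gf (f585423 IH) (Lpn (LP (LK LD1_c27 LD2_c51 LD3_c42))))))
theorem f249743 : Led Lsl_dt (LP (LK LD1_c18 LD2_c14 LD3_c20)) = (LP (LK LD1_c27 LD2_c54 LD3_c36)) :=
  Lre_d IH (LK LD1_c18 LD2_c14 LD3_c20) (LK LD1_c27 LD2_c54 LD3_c36) Lrfl Lrfl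
theorem f249095 : Led Lsl_ct (LP (LK LD1_c27 LD2_c32 LD3_c21)) = (LP (LK LD1_c17 LD2_c46 LD3_c0)) :=
  Lre_c IH (LK LD1_c27 LD2_c32 LD3_c21) (LK LD1_c17 LD2_c46 LD3_c0) Lrfl Lrfl
theorem f47657 : Led Lsl_bt (LP (LK LD1_c5 LD2_c15 LD3_c52)) = (LP (LK LD1_c10 LD2_c21 LD3_c3)) :=
  Lre_b IH (LK LD1_c5 LD2_c15 LD3_c52) (LK LD1_c10 LD2_c21 LD3_c3) Lrfl Lrfl
theorem f47658 : Led Lsl_gt (LP (LK LD1_c10 LD2_c21 LD3_c3)) = (LP (LK LD1_c18 LD2_c47 LD3_c5)) :=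
  Lre_g IH (LK LD1_c10 LD2_c21 LD3_c3) (LK LD1_c18 LD2_c47 LD3_c5) Lrfl Lrfl
theorem f249084 : Led Lsl_bt (LP (LK LD1_c10 LD2_c11 LD3_c32)) = (LP (LK LD1_c5 LD2_c10 LD3_c28)) :=
  Lre_b IH (LK LD1_c10 LD2_c11 LD3_c32) (LK LD1_c5 LD2_c10 LD3_c28) Lrfl Lrfl
theorem f249096 : Led Lsl_bf (LP (LK LD1_c18 LD2_c47 LD3_c5)) = (LP (LK LD1_c27 LD2_c32 LD3_c21)) :=
  Lgr Lrot34 (Lpe (f47658 IH) (Lpe (f47657 IH) (Lpr_ct (K14.f45405 IH) (Lpe (K12.f212473 IH) (Lpr_cf (K14.f190716 IH) (Lpr_gf (K14.f249081 IH) (Lpe (f249084 IH) (Lpe (f248982 IH) (Lpe (K37.f43800 IH) (Lpe (f249095 IH) (Lpn (LP (LK LD1_c27 LD2_c32 LD3_c21)))))))))))))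
theorem f343178 : Led Lsl_gf (LP (LK LD1_c24 LD2_c47 LD3_c58)) = (LP (LK LD1_c18 LD2_c47 LD3_c5)) :=
  Lgr Lrot76 (Lpe (K26.f214968 IH) (Lpr_ff (K26.f343158 IH) (Lpr_gt (f47658 IH) (Lpn (LP (LK LD1_c18 LD2_c47 LD3_c5))))))
theorem f343315 : Led Lsl_ft (LP (LK LD1_c9 LD2_c53 LD3_c60)) = (LP (LK LD1_c18 LD2_c3 LD3_c51)) :=
  Lgr Lrot48 (Lpr_ff (f343309 IH) (Lpn (LP (LK LD1_c18 LD2_c3 LD3_c51))))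
theorem f333099 : Led Lsl_at (LP (LK LD1_c18 LD2_c3 LD3_c51)) = (LP (LK LD1_c9 LD2_c52 LD3_c5)) :=
  Lre_a IH (LK LD1_c18 LD2_c3 LD3_c51) (LK LD1_c9 LD2_c52 LD3_c5) Lrfl Lrfl
theorem f342983 : Led Lsl_gt (LP (LK LD1_c18 LD2_c3 LD3_c50)) = (LP (LK LD1_c9 LD2_c52 LD3_c5)) :=
  Lre_g IH (LK LD1_c18 LD2_c3 LD3_c50) (LK LD1_c9 LD2_c52 LD3_c5) Lrfl Lrfl
theorem f343317 : Led Lsl_gt (LP (LK LD1_c9 LD2_c53 LD3_c60)) = (LP (LK LD1_c18 LD2_c3 LD3_c50)) :=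
  Lgr Lrot5 (Lpr_ft (f343315 IH) (Lpr_at (f333099 IH) (Lpe (f342983 IH) (Lpn (LP (LK LD1_c18 LD2_c3 LD3_c50))))))
theorem f342984 : Led Lsl_ct (LP (LK LD1_c27 LD2_c45 LD3_c30)) = (LP (LK LD1_c18 LD2_c3 LD3_c50)) :=
  Lre_c IH (LK LD1_c27 LD2_c45 LD3_c30) (LK LD1_c18 LD2_c3 LD3_c50) Lrfl Lrfl
theorem f342941 : Led Lsl_at (LP (LK LD1_c24 LD2_c48 LD3_c2)) = (LP (LK LD1_c15 LD2_c0 LD3_c38)) :=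
  Lre_a IH (LK LD1_c24 LD2_c48 LD3_c2) (LK LD1_c15 LD2_c0 LD3_c38) Lrfl Lrfl
theorem f342972 : Led Lsl_ct (LP (LK LD1_c15 LD2_c0 LD3_c38)) = (LP (LK LD1_c9 LD2_c52 LD3_c5)) :=
  Lgr Lrot111 (Lpe (f342941 IH) (Lpr_cf (K37.f342953 IH) (Lpe (K22.f333102 IH) (Lpn (LP (LK LD1_c9 LD2_c52 LD3_c5))))))
theorem f31500 : Led Lsl_bt (LP (LK LD1_c15 LD2_c0 LD3_c38)) = (LP (LK LD1_c7 LD2_c57 LD3_c32)) :=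
  Lre_b IH (LK LD1_c15 LD2_c0 LD3_c38) (LK LD1_c7 LD2_c57 LD3_c32) Lrfl Lrfl
theorem f342985 : Led Lsl_bf (LP (LK LD1_c18 LD2_c33 LD3_c57)) = (LP (LK LD1_c27 LD2_c45 LD3_c30)) :=
  Lgr Lrot34 (Lpe (f256471 IH) (Lpe (f249059 IH) (Lpr_ct (K14.f249067 IH) (Lpe (K14.f249063 IH) (Lpe (K12.f31509 IH) (Lpe (K14.f31499 IH) (Lpe (f31500 IH) (Lpr_ct (f342972 IH) (Lpe (f342983 IH) (Lpe (f342984 IH) (Lpn (LP (LK LD1_c27 LD2_c45 LD3_c30)))))))))))))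
theorem f343535 : Led Lsl_gf (LP (LK LD1_c18 LD2_c14 LD3_c20)) = (LP (LK LD1_c18 LD2_c33 LD3_c57)) :=
  Lgr Lrot181 (Lpe (f343505 IH) (Lpr_gt (K37.f343533 IH) (Lpe (f249095 IH) (Lpe (f249096 IH) (Lpe (f343178 IH) (Lpr_bf (K26.f343203 IH) (Lpr_ct (f343212 IH) (Lpr_gt (f343317 IH) (Lpe (f342984 IH) (Lpe (f342985 IH) (Lpn (LP (LK LD1_c18 LD2_c33 LD3_c57)))))))))))))
theorem f184837 : Led Lsl_gt (LP (LK LD1_c10 LD2_c24 LD3_c55)) = (LP (LK LD1_c18 LD2_c53 LD3_c44)) :=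
  Lre_g IH (LK LD1_c10 LD2_c24 LD3_c55) (LK LD1_c18 LD2_c53 LD3_c44) Lrfl Lrfl
theorem f585583 : Led Lsl_dt (LP (LK LD1_c18 LD2_c53 LD3_c44)) = (LP (LK LD1_c27 LD2_c32 LD3_c53)) :=
  Lgr Lrot105 (Lpe (f184837 IH) (Lpe (f193127 IH) (Lpe (f584193 IH) (Lpr_cf (f584185 IH) (Lpe (f343535 IH) (Lpr_dt (f249743 IH) (Lpr_gt (f585426 IH) (Lpr_dt (f406742 IH) (Lpr_cf (f585577 IH) (Lpn (LP (LK LD1_c27 LD2_c32 LD3_c53))))))))))))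
theorem f184836 : Led Lsl_bt (LP (LK LD1_c5 LD2_c17 LD3_c39)) = (LP (LK LD1_c10 LD2_c24 LD3_c55)) :=
  Lre_b IH (LK LD1_c5 LD2_c17 LD3_c39) (LK LD1_c10 LD2_c24 LD3_c55) Lrfl Lrfl
theorem f285481 : Led Lsl_gt (LP (LK LD1_c10 LD2_c24 LD3_c38)) = (LP (LK LD1_c10 LD2_c23 LD3_c46)) :=
  Lgr Lrot46 (Lpe (K17.f273653 IH) (Lpr_ft (K17.f285477 IH) (Lpe (K17.f285479 IH) (Lpn (LP (LK LD1_c10 LD2_c23 LD3_c46))))))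
theorem f284872 : Led Lsl_bt (LP (LK LD1_c18 LD2_c53 LD3_c12)) = (LP (LK LD1_c10 LD2_c24 LD3_c38)) :=
  Lre_b IH (LK LD1_c18 LD2_c53 LD3_c12) (LK LD1_c10 LD2_c24 LD3_c38) Lrfl Lrfl
theorem f278344 : Led Lsl_ct (LP (LK LD1_c28 LD2_c20 LD3_c57)) = (LP (LK LD1_c18 LD2_c53 LD3_c12)) :=
  Lre_c IH (LK LD1_c28 LD2_c20 LD3_c57) (LK LD1_c18 LD2_c53 LD3_c12) Lrfl Lrfl
theorem f186802 : Led Lsl_bt (LP (LK LD1_c5 LD2_c10 LD3_c16)) = (LP (LK LD1_c10 LD2_c11 LD3_c15)) :=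
  Lre_b IH (LK LD1_c5 LD2_c10 LD3_c16) (LK LD1_c10 LD2_c11 LD3_c15) Lrfl Lrfl
theorem f584554 : Led Lsl_ft (LP (LK LD1_c10 LD2_c11 LD3_c15)) = (LP (LK LD1_c9 LD2_c55 LD3_c61)) :=
  Lgr Lrot75 (Lpe (f186802 IH) (Lpr_ff (f584552 IH) (Lpe (f169592 IH) (Lpn (LP (LK LD1_c9 LD2_c55 LD3_c61))))))
theorem f186804 : Led Lsl_ct (LP (LK LD1_c10 LD2_c14 LD3_c54)) = (LP (LK LD1_c10 LD2_c11 LD3_c15)) :=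
  Lgr Lrot59 (Lpr_cf (f186795 IH) (Lpn (LP (LK LD1_c10 LD2_c11 LD3_c15))))
theorem f585194 : Led Lsl_ff (LP (LK LD1_c10 LD2_c14 LD3_c54)) = (LP (LK LD1_c10 LD2_c3 LD3_c19)) :=
  Lgr Lrot23 (Lpr_ct (f186804 IH) (Lpr_ft (f584554 IH) (Lpe (f169593 IH) (Lpn (LP (LK LD1_c10 LD2_c3 LD3_c19))))))
theorem f165304 : Led Lsl_gt (LP (LK LD1_c5 LD2_c6 LD3_c10)) = (LP (LK LD1_c10 LD2_c3 LD3_c18)) :=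
  Lre_g IH (LK LD1_c5 LD2_c6 LD3_c10) (LK LD1_c10 LD2_c3 LD3_c18) Lrfl Lrfl
theorem f585202 : Led Lsl_at (LP (LK LD1_c10 LD2_c14 LD3_c54)) = (LP (LK LD1_c10 LD2_c3 LD3_c18)) :=
  Lgr Lrot26 (Lpr_ff (f585194 IH) (Lpr_gt (f169591 IH) (Lpr_gt (f165304 IH) (Lpn (LP (LK LD1_c10 LD2_c3 LD3_c18))))))
theorem f585204 : Led Lsl_af (LP (LK LD1_c10 LD2_c14 LD3_c54)) = (LP (LK LD1_c10 LD2_c3 LD3_c18)) :=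
  Lgr Lrot0 (Lpr_at (f585202 IH) (Lpn (LP (LK LD1_c10 LD2_c3 LD3_c18))))
theorem f169603 : Led Lsl_ct (LP (LK LD1_c10 LD2_c3 LD3_c19)) = (LP (LK LD1_c9 LD2_c55 LD3_c61)) :=
  Lgr Lrot59 (Lpr_cf (f169593 IH) (Lpn (LP (LK LD1_c9 LD2_c55 LD3_c61))))
theorem f583317 : Led Lsl_bt (LP (LK LD1_c10 LD2_c14 LD3_c51)) = (LP (LK LD1_c10 LD2_c3 LD3_c19)) :=
  Lgr Lrot128 (Lpe (K15.f249476 IH) (Lpr_bf (f583313 IH) (Lpe (f169607 IH) (Lpe (f169592 IH) (Lpe (f169603 IH) (Lpn (LP (LK LD1_c10 LD2_c3 LD3_c19))))))))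
theorem f583410 : Led Lsl_df (LP (LK LD1_c10 LD2_c14 LD3_c50)) = (LP (LK LD1_c10 LD2_c3 LD3_c19)) :=
  Lgr Lrot12 (Lpr_bt (f258046 IH) (Lpr_dt (K15.f249359 IH) (Lpr_bt (f583317 IH) (Lpn (LP (LK LD1_c10 LD2_c3 LD3_c19))))))
theorem f583412 : Led Lsl_dt (LP (LK LD1_c10 LD2_c14 LD3_c50)) = (LP (LK LD1_c10 LD2_c3 LD3_c19)) :=
  Lgr Lrot42 (Lpr_df (f583410 IH) (Lpn (LP (LK LD1_c10 LD2_c3 LD3_c19))))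
theorem f585198 : Led Lsl_dt (LP (LK LD1_c10 LD2_c14 LD3_c54)) = (LP (LK LD1_c10 LD2_c3 LD3_c13)) :=
  Lgr Lrot60 (Lpr_ff (f585194 IH) (Lpe (f583412 IH) (Lpe (f377980 IH) (Lpn (LP (LK LD1_c10 LD2_c3 LD3_c13))))))
theorem f585235 : Led Lsl_dt (LP (LK LD1_c18 LD2_c21 LD3_c46)) = (LP (LK LD1_c10 LD2_c3 LD3_c18)) :=
  Lgr Lrot44 (Lpe (f375439 IH) (Lpe (f585198 IH) (Lpr_af (f585204 IH) (Lpn (LP (LK LD1_c10 LD2_c3 LD3_c18))))))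
theorem f585286 : Led Lsl_df (LP (LK LD1_c18 LD2_c21 LD3_c46)) = (LP (LK LD1_c10 LD2_c3 LD3_c18)) :=
  Lgr Lrot38 (Lpr_dt (f585235 IH) (Lpn (LP (LK LD1_c10 LD2_c3 LD3_c18))))
theorem f184622 : Led Lsl_bt (LP (LK LD1_c2 LD2_c30 LD3_c22)) = (LP (LK LD1_c5 LD2_c6 LD3_c10)) :=
  Lre_b IH (LK LD1_c2 LD2_c30 LD3_c22) (LK LD1_c5 LD2_c6 LD3_c10) Lrfl Lrfl
theorem f190486 : Led Lsl_dt (LP (LK LD1_c10 LD2_c32 LD3_c61)) = (LP (LK LD1_c5 LD2_c21 LD3_c21)) :=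
  Lre_d IH (LK LD1_c10 LD2_c32 LD3_c61) (LK LD1_c5 LD2_c21 LD3_c21) Lrfl Lrfl
theorem f177553 : Led Lsl_bt (LP (LK LD1_c0 LD2_c35 LD3_c31)) = (LP (LK LD1_c1 LD2_c15 LD3_c49)) :=
  Lre_b IH (LK LD1_c0 LD2_c35 LD3_c31) (LK LD1_c1 LD2_c15 LD3_c49) Lrfl Lrfl
theorem f9020 : Led Lsl_ct (LP (LK LD1_c0 LD2_c35 LD3_c31)) = (LP (LK LD1_c1 LD2_c16 LD3_c45)) :=
  Lre_c IH (LK LD1_c0 LD2_c35 LD3_c31) (LK LD1_c1 LD2_c16 LD3_c45) Lrfl Lrfl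
theorem f253426 : Led Lsl_gf (LP (LK LD1_c4 LD2_c50 LD3_c36)) = (LP (LK LD1_c4 LD2_c27 LD3_c59)) :=
  Lgr Lrot129 (Lpe (K11.f27720 IH) (Lpr_bt (K11.f27718 IH) (Lpe (K17.f198855 IH) (Lpe (K11.f198824 IH) (Lpr_ct (K11.f198814 IH) (Lpe (K11.f198810 IH) (Lpe (f9020 IH) (Lpr_bt (f177553 IH) (Lpr_gt (K14.f253421 IH) (Lpr_ct (K13.f231382 IH) (Lpn (LP (LK LD1_c4 LD2_c27 LD3_c59)))))))))))))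
theorem f275190 : Led Lsl_gt (LP (LK LD1_c9 LD2_c56 LD3_c33)) = (LP (LK LD1_c10 LD2_c32 LD3_c61)) :=
  Lgr Lrot94 (Lpe (K16.f275178 IH) (Lpr_gt (K16.f275185 IH) (Lpr_dt (K14.f231381 IH) (Lpe (f253426 IH) (Lpr_dt (K12.f43904 IH) (Lpe (K12.f214312 IH) (Lpe (K14.f214232 IH) (Lpr_gf (K14.f214103 IH) (Lpe (f190486 IH) (Lpn (LP (LK LD1_c10 LD2_c32 LD3_c61))))))))))))
theorem f275177 : Led Lsl_bt (LP (LK LD1_c18 LD2_c11 LD3_c38)) = (LP (LK LD1_c9 LD2_c56 LD3_c33)) :=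
  Lre_b IH (LK LD1_c18 LD2_c11 LD3_c38) (LK LD1_c9 LD2_c56 LD3_c33) Lrfl Lrfl
theorem f583688 : Led Lsl_ct (LP (LK LD1_c25 LD2_c26 LD3_c42)) = (LP (LK LD1_c18 LD2_c11 LD3_c38)) :=
  Lgr Lrot59 (Lpr_cf (f583684 IH) (Lpn (LP (LK LD1_c18 LD2_c11 LD3_c38))))
theorem f585290 : Led Lsl_dt (LP (LK LD1_c18 LD2_c53 LD3_c10)) = (LP (LK LD1_c25 LD2_c26 LD3_c42)) :=
  Lgr Lrot182 (Lpe (f370908 IH) (Lpr_bf (f373462 IH) (Lpe (f377984 IH) (Lpr_df (f585286 IH) (Lpe (f165304 IH) (Lpe (f184622 IH) (Lpe (K14.f180544 IH) (Lpe (K10.f182058 IH) (Lpr_gf (K10.f184616 IH) (Lpe (K1.f28294 IH) (Lpe (K1.f45888 IH) (Lpe (K1.f45849 IH) (Lpe (K14.f247895 IH) (Lpe (K10.f190456 IH) (Lpe (K10.f190482 IH) (Lpe (f190486 IH) (Lpe (f275190 IH) (Lpe (f275177 IH) (Lpe (f583688 IH) (Lpn (LP (LK LD1_c25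 LD2_c26 LD3_c42))))))))))))))))))))))
theorem f214469 : Led Lsl_gt (LP (LK LD1_c27 LD2_c51 LD3_c30)) = (LP (LK LD1_c18 LD2_c11 LD3_c17)) :=
  Lre_g IH (LK LD1_c27 LD2_c51 LD3_c30) (LK LD1_c18 LD2_c11 LD3_c17) Lrfl Lrfl
theorem f214470 : Led Lsl_gf (LP (LK LD1_c27 LD2_c51 LD3_c30)) = (LP (LK LD1_c24 LD2_c48 LD3_c25)) :=
  Lgr Lrot47 (Lpr_gt (f214469 IH) (Lpe (K13.f214207 IH) (Lpr_ff (K13.f214465 IH) (Lpn (LP (LK LD1_c24 LD2_c48 LD3_c25))))))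
theorem f585299 : Led Lsl_dt (LP (LK LD1_c27 LD2_c51 LD3_c30)) = (LP (LK LD1_c18 LD2_c11 LD3_c36)) :=
  Lgr Lrot57 (Lpr_gf (f214470 IH) (Lpr_cf (f583674 IH) (Lpe (f583665 IH) (Lpe (f285459 IH) (Lpr_gt (f370908 IH) (Lpr_dt (f585290 IH) (Lpr_cf (f583684 IH) (Lpe (f278357 IH) (Lpe (f278345 IH) (Lpn (LP (LK LD1_c18 LD2_c11 LD3_c36))))))))))))
theorem f583636 : Led Lsl_cf (LP (LK LD1_c25 LD2_c24 LD3_c2)) = (LP (LK LD1_c18 LD2_c11 LD3_c17)) :=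
  Lgr Lrot11 (Lpr_ct (f583632 IH) (Lpn (LP (LK LD1_c18 LD2_c11 LD3_c17))))
theorem f278338 : Led Lsl_ct (LP (LK LD1_c18 LD2_c53 LD3_c12)) = (LP (LK LD1_c28 LD2_c20 LD3_c57)) :=
  Lre_c IH (LK LD1_c18 LD2_c53 LD3_c12) (LK LD1_c28 LD2_c20 LD3_c57) Lrfl Lrfl
theorem f259676 : Led Lsl_gt (LP (LK LD1_c10 LD2_c24 LD3_c37)) = (LP (LK LD1_c18 LD2_c53 LD3_c9)) :=
  Lre_g IH (LK LD1_c10 LD2_c24 LD3_c37) (LK LD1_c18 LD2_c53 LD3_c9) Lrfl Lrfl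
theorem f259677 : Led Lsl_ct (LP (LK LD1_c18 LD2_c53 LD3_c9)) = (LP (LK LD1_c28 LD2_c20 LD3_c53)) :=
  Lre_c IH (LK LD1_c18 LD2_c53 LD3_c9) (LK LD1_c28 LD2_c20 LD3_c53) Lrfl Lrfl
theorem f585301 : Led Lsl_df (LP (LK LD1_c28 LD2_c20 LD3_c57)) = (LP (LK LD1_c28 LD2_c20 LD3_c53)) :=
  Lgr Lrot162 (Lpe (f278338 IH) (Lpr_gf (f583653 IH) (Lpr_cf (f583636 IH) (Lpe (f214469 IH) (Lpr_dt (f585299 IH) (Lpr_gt (f278345 IH) (Lpe (K23.f278329 IH) (Lpr_gt (f259676 IH) (Lpr_ct (f259677 IH) (Lpn (LP (LK LD1_c28 LD2_c20 LD3_c53))))))))))))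
theorem f585585 : Led Lsl_gt (LP (LK LD1_c27 LD2_c51 LD3_c41)) = (LP (LK LD1_c28 LD2_c20 LD3_c53)) :=
  Lgr Lrot190 (Lpe (f585580 IH) (Lpr_cf (f585577 IH) (Lpe (f585583 IH) (Lpe (f184837 IH) (Lpe (f184836 IH) (Lpe (K14.f184834 IH) (Lpe (K14.f184829 IH) (Lpr_gf (K9.f184826 IH) (Lpe (K9.f28281 IH) (Lpe (K9.f28282 IH) (Lpe (K14.f45898 IH) (Lpe (K14.f247956 IH) (Lpr_bf (K14.f229996 IH) (Lpe (K16.f189510 IH) (Lpe (K17.f189513 IH) (Lpe (f285481 IH) (Lpe (f284872 IH) (Lpe (f278344 IH) (Lpr_df (f585301 IH) (Lpn (LP (LK LD1_c28 LD2_c20 LD3_c53))))))))))))))))))))))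
theorem f278346 : Led Lsl_ct (LP (LK LD1_c28 LD2_c20 LD3_c53)) = (LP (LK LD1_c18 LD2_c53 LD3_c9)) :=
  Lre_c IH (LK LD1_c28 LD2_c20 LD3_c53) (LK LD1_c18 LD2_c53 LD3_c9) Lrfl Lrfl
theorem f259675 : Led Lsl_bt (LP (LK LD1_c5 LD2_c17 LD3_c31)) = (LP (LK LD1_c10 LD2_c24 LD3_c37)) :=
  Lre_b IH (LK LD1_c5 LD2_c17 LD3_c31) (LK LD1_c10 LD2_c24 LD3_c37) Lrfl Lrfl
theorem f242356 : Led Lsl_bt (LP (LK LD1_c18 LD2_c30 LD3_c60)) = (LP (LK LD1_c10 LD2_c9 LD3_c54)) :=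
  Lre_b IH (LK LD1_c18 LD2_c30 LD3_c60) (LK LD1_c10 LD2_c9 LD3_c54) Lrfl Lrfl
theorem f364527 : Led Lsl_ft (LP (LK LD1_c10 LD2_c24 LD3_c37)) = (LP (LK LD1_c18 LD2_c30 LD3_c60)) :=
  Lgr Lrot75 (Lpe (f259675 IH) (Lpr_ff (K26.f364525 IH) (Lpe (f242356 IH) (Lpn (LP (LK LD1_c18 LD2_c30 LD3_c60))))))
theorem f377964 : Led Lsl_gt (LP (LK LD1_c18 LD2_c53 LD3_c9)) = (LP (LK LD1_c28 LD2_c5 LD3_c10)) :=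
  Lgr Lrot46 (Lpe (f259676 IH) (Lpr_ft (f364527 IH) (Lpr_at (f285465 IH) (Lpn (LP (LK LD1_c28 LD2_c5 LD3_c10))))))
theorem f585640 : Led Lsl_ct (LP (LK LD1_c25 LD2_c26 LD3_c41)) = (LP (LK LD1_c28 LD2_c5 LD3_c15)) :=
  Lgr Lrot110 (Lpe (f53516 IH) (Lpe (f53510 IH) (Lpr_gf (f257823 IH) (Lpr_df (f585603 IH) (Lpr_gt (f585585 IH) (Lpr_ct (f278346 IH) (Lpr_gt (f377964 IH) (Lpr_ct (f285474 IH) (Lpe (f285473 IH) (Lpn (LP (LK LD1_c28 LD2_c5 LD3_c15))))))))))))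
theorem f585305 : Led Lsl_dt (LP (LK LD1_c28 LD2_c20 LD3_c57)) = (LP (LK LD1_c28 LD2_c20 LD3_c53)) :=
  Lgr Lrot42 (Lpr_df (f585301 IH) (Lpn (LP (LK LD1_c28 LD2_c20 LD3_c53))))
theorem f585645 : Led Lsl_df (LP (LK LD1_c25 LD2_c26 LD3_c41)) = (LP (LK LD1_c18 LD2_c53 LD3_c9)) :=
  Lgr Lrot177 (Lpr_ct (f585640 IH) (Lpe (f370575 IH) (Lpr_ff (f370555 IH) (Lpr_dt (f278339 IH) (Lpe (K23.f278329 IH) (Lpr_dt (f278337 IH) (Lpr_ct (f278338 IH) (Lpr_dt (f585305 IH) (Lpr_ct (f278346 IH) (Lpn (LP (LK LD1_c18 LD2_c53 LD3_c9))))))))))))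
theorem f585655 : Led Lsl_dt (LP (LK LD1_c25 LD2_c26 LD3_c41)) = (LP (LK LD1_c18 LD2_c53 LD3_c9)) :=
  Lgr Lrot42 (Lpr_df (f585645 IH) (Lpn (LP (LK LD1_c18 LD2_c53 LD3_c9))))
theorem f215737 : Led Lsl_ct (LP (LK LD1_c18 LD2_c54 LD3_c18)) = (LP (LK LD1_c26 LD2_c32 LD3_c11)) :=
  Lgr Lrot59 (Lpr_cf (K14.f215732 IH) (Lpn (LP (LK LD1_c26 LD2_c32 LD3_c11))))
theorem f585549 : Led Lsl_bt (LP (LK LD1_c27 LD2_c51 LD3_c47)) = (LP (LK LD1_c32 LD2_c29 LD3_c24)) :=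
  Lre_b IH (LK LD1_c27 LD2_c51 LD3_c47) (LK LD1_c32 LD2_c29 LD3_c24) Lrfl Lrfl
theorem f249751 : Led Lsl_bt (LP (LK LD1_c27 LD2_c54 LD3_c34)) = (LP (LK LD1_c18 LD2_c14 LD3_c19)) :=
  Lre_b IH (LK LD1_c27 LD2_c54 LD3_c34) (LK LD1_c18 LD2_c14 LD3_c19) Lrfl Lrfl
theorem f585550 : Led Lsl_dt (LP (LK LD1_c32 LD2_c29 LD3_c24)) = (LP (LK LD1_c27 LD2_c54 LD3_c34)) :=
  Lgr Lrot79 (Lpe (f585549 IH) (Lpr_df (f584287 IH) (Lpe (f249751 IH) (Lpn (LP (LK LD1_c27 LD2_c54 LD3_c34))))))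
theorem f585567 : Led Lsl_gf (LP (LK LD1_c28 LD2_c20 LD3_c57)) = (LP (LK LD1_c32 LD2_c29 LD3_c24)) :=
  Lgr Lrot147 (Lpr_ct (f278344 IH) (Lpr_gt (f583667 IH) (Lpe (f583674 IH) (Lpe (K13.f43893 IH) (Lpr_cf (K13.f51318 IH) (Lpe (f188463 IH) (Lpe (f188465 IH) (Lpr_gf (f585564 IH) (Lpe (f585550 IH) (Lpn (LP (LK LD1_c32 LD2_c29 LD3_c24))))))))))))
theorem f300010 : Led Lsl_bt (LP (LK LD1_c32 LD2_c29 LD3_c24)) = (LP (LK LD1_c27 LD2_c51 LD3_c47)) :=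
  Lre_b IH (LK LD1_c32 LD2_c29 LD3_c24) (LK LD1_c27 LD2_c51 LD3_c47) Lrfl Lrfl
theorem f585555 : Led Lsl_df (LP (LK LD1_c32 LD2_c29 LD3_c24)) = (LP (LK LD1_c27 LD2_c54 LD3_c34)) :=
  Lgr Lrot12 (Lpr_bt (f300010 IH) (Lpr_dt (f585552 IH) (Lpr_bt (f343546 IH) (Lpn (LP (LK LD1_c27 LD2_c54 LD3_c34))))))
theorem f585658 : Led Lsl_gt (LP (LK LD1_c26 LD2_c32 LD3_c11)) = (LP (LK LD1_c27 LD2_c54 LD3_c34)) :=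
  Lgr Lrot94 (Lpe (f215737 IH) (Lpr_gt (K14.f188454 IH) (Lpr_dt (f188398 IH) (Lpr_gt (f53516 IH) (Lpr_dt (f585655 IH) (Lpe (f278346 IH) (Lpe (f585305 IH) (Lpr_gf (f585567 IH) (Lpr_df (f585555 IH) (Lpn (LP (LK LD1_c27 LD2_c54 LD3_c34))))))))))))
theorem f583716 : Led Lsl_af (LP (LK LD1_c28 LD2_c22 LD3_c2)) = (LP (LK LD1_c25 LD2_c24 LD3_c1)) :=
  Lgr Lrot0 (Lpr_at (f583714 IH) (Lpn (LP (LK LD1_c25 LD2_c24 LD3_c1))))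
theorem f585660 : Led Lsl_ft (LP (LK LD1_c26 LD2_c32 LD3_c11)) = (LP (LK LD1_c25 LD2_c24 LD3_c1)) :=
  Lgr Lrot2 (Lpr_gt (f585658 IH) (Lpe (f585564 IH) (Lpr_af (f583716 IH) (Lpn (LP (LK LD1_c25 LD2_c24 LD3_c1))))))
theorem f585666 : Led Lsl_ff (LP (LK LD1_c26 LD2_c32 LD3_c11)) = (LP (LK LD1_c25 LD2_c24 LD3_c1)) :=
  Lgr Lrot3 (Lpr_ft (f585660 IH) (Lpn (LP (LK LD1_c25 LD2_c24 LD3_c1))))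
theorem f190699 : Led Lsl_bt (LP (LK LD1_c5 LD2_c3 LD3_c44)) = (LP (LK LD1_c9 LD2_c58 LD3_c18)) :=
  Lre_b IH (LK LD1_c5 LD2_c3 LD3_c44) (LK LD1_c9 LD2_c58 LD3_c18) Lrfl Lrfl
theorem f190701 : Led Lsl_gt (LP (LK LD1_c9 LD2_c58 LD3_c18)) = (LP (LK LD1_c18 LD2_c14 LD3_c28)) :=
  Lre_g IH (LK LD1_c9 LD2_c58 LD3_c18) (LK LD1_c18 LD2_c14 LD3_c28) Lrfl Lrfl
theorem f214344 : Led Lsl_bf (LP (LK LD1_c18 LD2_c14 LD3_c28)) = (LP (LK LD1_c25 LD2_c24 LD3_c1)) :=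
  Lgr Lrot34 (Lpe (f190701 IH) (Lpe (f190699 IH) (Lpe (K14.f190716 IH) (Lpr_gf (K14.f190740 IH) (Lpe (K10.f190482 IH) (Lpr_gf (K14.f214342 IH) (Lpe (K14.f43896 IH) (Lpr_ct (f50819 IH) (Lpe (f45046 IH) (Lpe (f51312 IH) (Lpn (LP (LK LD1_c25 LD2_c24 LD3_c1)))))))))))))
theorem f214359 : Led Lsl_bt (LP (LK LD1_c18 LD2_c14 LD3_c28)) = (LP (LK LD1_c25 LD2_c24 LD3_c1)) :=
  Lgr Lrot127 (Lpr_bf (f214344 IH) (Lpn (LP (LK LD1_c25 LD2_c24 LD3_c1))))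
theorem f585670 : Led Lsl_ft (LP (LK LD1_c16 LD2_c34 LD3_c45)) = (LP (LK LD1_c18 LD2_c14 LD3_c28)) :=
  Lgr Lrot75 (Lpe (K14.f45751 IH) (Lpr_ff (f585666 IH) (Lpe (f214359 IH) (Lpn (LP (LK LD1_c18 LD2_c14 LD3_c28))))))
theorem f44248 : Led Lsl_gt (LP (LK LD1_c16 LD2_c34 LD3_c46)) = (LP (LK LD1_c8 LD2_c52 LD3_c2)) :=
  Lre_g IH (LK LD1_c16 LD2_c34 LD3_c46) (LK LD1_c8 LD2_c52 LD3_c2) Lrfl Lrfl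
theorem f582976 : Led Lsl_gt (LP (LK LD1_c18 LD2_c14 LD3_c30)) = (LP (LK LD1_c16 LD2_c34 LD3_c46)) :=
  Lgr Lrot5 (Lpr_ft (f582966 IH) (Lpe (f582970 IH) (Lpe (f44248 IH) (Lpn (LP (LK LD1_c16 LD2_c34 LD3_c46))))))
theorem f585672 : Led Lsl_af (LP (LK LD1_c16 LD2_c34 LD3_c46)) = (LP (LK LD1_c18 LD2_c14 LD3_c28)) :=
  Lgr Lrot31 (Lpe (f582976 IH) (Lpr_gf (K14.f215739 IH) (Lpr_ft (f585670 IH) (Lpn (LP (LK LD1_c18 LD2_c14 LD3_c28))))))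
theorem f585676 : Led Lsl_bt (LP (LK LD1_c16 LD2_c34 LD3_c46)) = (LP (LK LD1_c26 LD2_c32 LD3_c12)) :=
  Lre_b IH (LK LD1_c16 LD2_c34 LD3_c46) (LK LD1_c26 LD2_c32 LD3_c12) Lrfl Lrfl
theorem f214864 : Led Lsl_gt (LP (LK LD1_c27 LD2_c54 LD3_c47)) = (LP (LK LD1_c18 LD2_c14 LD3_c33)) :=
  Lre_g IH (LK LD1_c27 LD2_c54 LD3_c47) (LK LD1_c18 LD2_c14 LD3_c33) Lrfl Lrfl
theorem f214866 : Led Lsl_bt (LP (LK LD1_c28 LD2_c22 LD3_c2)) = (LP (LK LD1_c27 LD2_c54 LD3_c47)) :=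
  Lgr Lrot130 (Lpr_ct (f188465 IH) (Lpe (f188333 IH) (Lpe (K14.f214529 IH) (Lpr_bt (K14.f214226 IH) (Lpr_gf (K14.f214787 IH) (Lpe (K37.f31504 IH) (Lpe (K14.f214831 IH) (Lpe (K37.f214858 IH) (Lpr_cf (K37.f214859 IH) (Lpe (f214864 IH) (Lpn (LP (LK LD1_c27 LD2_c54 LD3_c47)))))))))))))
theorem f214868 : Led Lsl_bf (LP (LK LD1_c28 LD2_c22 LD3_c2)) = (LP (LK LD1_c27 LD2_c54 LD3_c47)) :=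
  Lgr Lrot24 (Lpr_bt (f214866 IH) (Lpn (LP (LK LD1_c27 LD2_c54 LD3_c47))))
theorem f585677 : Led Lsl_at (LP (LK LD1_c26 LD2_c32 LD3_c12)) = (LP (LK LD1_c27 LD2_c54 LD3_c47)) :=
  Lgr Lrot67 (Lpe (f585676 IH) (Lpr_af (f585672 IH) (Lpr_bf (f214344 IH) (Lpe (f583714 IH) (Lpr_bf (f214868 IH) (Lpn (LP (LK LD1_c27 LD2_c54 LD3_c47))))))))
theorem f32754 : Led Lsl_bt (LP (LK LD1_c18 LD2_c51 LD3_c52)) = (LP (LK LD1_c10 LD2_c25 LD3_c53)) :=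
  Lre_b IH (LK LD1_c18 LD2_c51 LD3_c52) (LK LD1_c10 LD2_c25 LD3_c53) Lrfl Lrfl
theorem f32502 : Led Lsl_at (LP (LK LD1_c10 LD2_c23 LD3_c56)) = (LP (LK LD1_c18 LD2_c51 LD3_c52)) :=
  Lre_a IH (LK LD1_c10 LD2_c23 LD3_c56) (LK LD1_c18 LD2_c51 LD3_c52) Lrfl Lrfl
theorem f32503 : Led Lsl_at (LP (LK LD1_c18 LD2_c45 LD3_c4)) = (LP (LK LD1_c10 LD2_c19 LD3_c47)) :=
  Lre_a IH (LK LD1_c18 LD2_c45 LD3_c4) (LK LD1_c10 LD2_c19 LD3_c47) Lrfl Lrfl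
theorem f32504 : Led Lsl_ct (LP (LK LD1_c18 LD2_c51 LD3_c52)) = (LP (LK LD1_c18 LD2_c45 LD3_c4)) :=
  Lgr Lrot111 (Lpe (f32502 IH) (Lpr_cf (K2.f32473 IH) (Lpe (f32503 IH) (Lpn (LP (LK LD1_c18 LD2_c45 LD3_c4))))))
theorem f32763 : Led Lsl_gt (LP (LK LD1_c18 LD2_c45 LD3_c4)) = (LP (LK LD1_c10 LD2_c19 LD3_c44)) :=
  Lre_g IH (LK LD1_c18 LD2_c45 LD3_c4) (LK LD1_c10 LD2_c19 LD3_c44) Lrfl Lrfl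
theorem f32496 : Led Lsl_ct (LP (LK LD1_c18 LD2_c45 LD3_c11)) = (LP (LK LD1_c10 LD2_c19 LD3_c44)) :=
  Lre_c IH (LK LD1_c18 LD2_c45 LD3_c11) (LK LD1_c10 LD2_c19 LD3_c44) Lrfl Lrfl
theorem f214603 : Led Lsl_bf (LP (LK LD1_c18 LD2_c54 LD3_c17)) = (LP (LK LD1_c18 LD2_c45 LD3_c11)) :=
  Lgr Lrot165 (Lpr_gt (f188463 IH) (Lpe (K13.f51318 IH) (Lpe (K13.f214488 IH) (Lpr_cf (K13.f214587 IH) (Lpr_bt (K13.f32834 IH) (Lpr_gt (K13.f32791 IH) (Lpe (f32754 IH) (Lpr_ct (f32504 IH) (Lpr_gt (f32763 IH) (Lpe (f32496 IH) (Lpn (LP (LK LD1_c18 LD2_c45 LD3_c11)))))))))))))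
theorem f32828 : Led Lsl_ct (LP (LK LD1_c10 LD2_c19 LD3_c44)) = (LP (LK LD1_c18 LD2_c45 LD3_c11)) :=
  Lre_c IH (LK LD1_c10 LD2_c19 LD3_c44) (LK LD1_c18 LD2_c45 LD3_c11) Lrfl Lrfl
theorem f32840 : Led Lsl_bt (LP (LK LD1_c18 LD2_c45 LD3_c10)) = (LP (LK LD1_c10 LD2_c19 LD3_c44)) :=
  Lre_b IH (LK LD1_c18 LD2_c45 LD3_c10) (LK LD1_c10 LD2_c19 LD3_c44) Lrfl Lrfl
theorem f214870 : Led Lsl_cf (LP (LK LD1_c18 LD2_c45 LD3_c10)) = (LP (LK LD1_c27 LD2_c54 LD3_c47)) :=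
  Lgr Lrot97 (Lpr_bt (f32840 IH) (Lpr_ct (f32828 IH) (Lpe (f214603 IH) (Lpr_ct (f188452 IH) (Lpr_bt (f214866 IH) (Lpn (LP (LK LD1_c27 LD2_c54 LD3_c47))))))))
theorem f214872 : Led Lsl_at (LP (LK LD1_c18 LD2_c45 LD3_c10)) = (LP (LK LD1_c28 LD2_c15 LD3_c1)) :=
  Lre_a IH (LK LD1_c18 LD2_c45 LD3_c10) (LK LD1_c28 LD2_c15 LD3_c1) Lrfl Lrfl
theorem f585682 : Led Lsl_cf (LP (LK LD1_c26 LD2_c32 LD3_c12)) = (LP (LK LD1_c28 LD2_c15 LD3_c1)) :=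
  Lgr Lrot1 (Lpr_at (f585677 IH) (Lpe (f214870 IH) (Lpr_at (f214872 IH) (Lpn (LP (LK LD1_c28 LD2_c15 LD3_c1))))))
theorem f585680 : Led Lsl_af (LP (LK LD1_c26 LD2_c32 LD3_c12)) = (LP (LK LD1_c27 LD2_c54 LD3_c47)) :=
  Lgr Lrot0 (Lpr_at (f585677 IH) (Lpn (LP (LK LD1_c27 LD2_c54 LD3_c47))))
theorem f53525 : Led Lsl_bt (LP (LK LD1_c15 LD2_c33 LD3_c1)) = (LP (LK LD1_c25 LD2_c26 LD3_c29)) :=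
  Lre_b IH (LK LD1_c15 LD2_c33 LD3_c1) (LK LD1_c25 LD2_c26 LD3_c29) Lrfl Lrfl
theorem f191262 : Led Lsl_dt (LP (LK LD1_c25 LD2_c26 LD3_c30)) = (LP (LK LD1_c15 LD2_c33 LD3_c1)) :=
  Lre_d IH (LK LD1_c25 LD2_c26 LD3_c30) (LK LD1_c15 LD2_c33 LD3_c1) Lrfl Lrfl
theorem f583680 : Led Lsl_bf (LP (LK LD1_c25 LD2_c26 LD3_c30)) = (LP (LK LD1_c25 LD2_c23 LD3_c59)) :=
  Lgr Lrot93 (Lpr_dt (f191262 IH) (Lpr_bt (f53525 IH) (Lpr_dt (f583678 IH) (Lpn (LP (LK LD1_c25 LD2_c23 LD3_c59))))))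
theorem f583706 : Led Lsl_ff (LP (LK LD1_c27 LD2_c54 LD3_c47)) = (LP (LK LD1_c25 LD2_c26 LD3_c30)) :=
  Lgr Lrot25 (Lpe (f214868 IH) (Lpr_ft (f583704 IH) (Lpe (f583680 IH) (Lpn (LP (LK LD1_c25 LD2_c26 LD3_c30))))))
theorem f191261 : Led Lsl_ct (LP (LK LD1_c15 LD2_c33 LD3_c1)) = (LP (LK LD1_c8 LD2_c16 LD3_c14)) :=
  Lre_c IH (LK LD1_c15 LD2_c33 LD3_c1) (LK LD1_c8 LD2_c16 LD3_c14) Lrfl Lrfl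
theorem f49299 : Led Lsl_dt (LP (LK LD1_c8 LD2_c16 LD3_c14)) = (LP (LK LD1_c4 LD2_c8 LD3_c4)) :=
  Lre_d IH (LK LD1_c8 LD2_c16 LD3_c14) (LK LD1_c4 LD2_c8 LD3_c4) Lrfl Lrfl
theorem f49261 : Led Lsl_ct (LP (LK LD1_c4 LD2_c8 LD3_c4)) = (LP (LK LD1_c8 LD2_c15 LD3_c44)) :=
  Lre_c IH (LK LD1_c4 LD2_c8 LD3_c4) (LK LD1_c8 LD2_c15 LD3_c44) Lrfl Lrfl
theorem f49270 : Led Lsl_dt (LP (LK LD1_c8 LD2_c15 LD3_c44)) = (LP (LK LD1_c15 LD2_c32 LD3_c8)) :=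
  Lre_d IH (LK LD1_c8 LD2_c15 LD3_c44) (LK LD1_c15 LD2_c32 LD3_c8) Lrfl Lrfl
theorem f191256 : Led Lsl_ct (LP (LK LD1_c15 LD2_c32 LD3_c8)) = (LP (LK LD1_c25 LD2_c25 LD3_c27)) :=
  Lre_c IH (LK LD1_c15 LD2_c32 LD3_c8) (LK LD1_c25 LD2_c25 LD3_c27) Lrfl Lrfl
theorem f585688 : Led Lsl_dt (LP (LK LD1_c25 LD2_c25 LD3_c27)) = (LP (LK LD1_c28 LD2_c15 LD3_c1)) :=
  Lgr Lrot120 (Lpe (f191256 IH) (Lpe (f49270 IH) (Lpe (f49261 IH) (Lpe (f49299 IH) (Lpe (f191261 IH) (Lpe (f191262 IH) (Lpe (f583706 IH) (Lpe (f585680 IH) (Lpr_cf (f585682 IH) (Lpn (LP (LK LD1_c28 LD2_c15 LD3_c1))))))))))))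
theorem f585693 : Led Lsl_df (LP (LK LD1_c25 LD2_c25 LD3_c27)) = (LP (LK LD1_c28 LD2_c15 LD3_c1)) :=
  Lgr Lrot38 (Lpr_dt (f585688 IH) (Lpn (LP (LK LD1_c28 LD2_c15 LD3_c1))))
theorem f214879 : Led Lsl_dt (LP (LK LD1_c28 LD2_c15 LD3_c2)) = (LP (LK LD1_c18 LD2_c45 LD3_c10)) :=
  Lre_d IH (LK LD1_c28 LD2_c15 LD3_c2) (LK LD1_c18 LD2_c45 LD3_c10) Lrfl Lrfl
theorem f585695 : Led Lsl_at (LP (LK LD1_c25 LD2_c25 LD3_c27)) = (LP (LK LD1_c28 LD2_c15 LD3_c2)) :=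
  Lgr Lrot51 (Lpr_df (f585693 IH) (Lpe (f214872 IH) (Lpe (f214879 IH) (Lpn (LP (LK LD1_c28 LD2_c15 LD3_c2))))))
theorem f50733 : Led Lsl_at (LP (LK LD1_c25 LD2_c25 LD3_c25)) = (LP (LK LD1_c15 LD2_c32 LD3_c8)) :=
  Lre_a IH (LK LD1_c25 LD2_c25 LD3_c25) (LK LD1_c15 LD2_c32 LD3_c8) Lrfl Lrfl
theorem f585698 : Led Lsl_cf (LP (LK LD1_c25 LD2_c25 LD3_c25)) = (LP (LK LD1_c28 LD2_c15 LD3_c2)) :=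
  Lgr Lrot1 (Lpr_at (f50733 IH) (Lpr_ct (f191256 IH) (Lpr_at (f585695 IH) (Lpn (LP (LK LD1_c28 LD2_c15 LD3_c2))))))
theorem f50747 : Led Lsl_at (LP (LK LD1_c15 LD2_c32 LD3_c8)) = (LP (LK LD1_c25 LD2_c25 LD3_c25)) :=
  Lre_a IH (LK LD1_c15 LD2_c32 LD3_c8) (LK LD1_c25 LD2_c25 LD3_c25) Lrfl Lrfl
theorem f247515 : Led Lsl_ft (LP (LK LD1_c10 LD2_c16 LD3_c42)) = (LP (LK LD1_c10 LD2_c1 LD3_c58)) :=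
  Lgr Lrot48 (Lpr_ff (K27.f247489 IH) (Lpn (LP (LK LD1_c10 LD2_c1 LD3_c58))))
theorem f291940 : Led Lsl_ff (LP (LK LD1_c15 LD2_c24 LD3_c53)) = (LP (LK LD1_c8 LD2_c15 LD3_c45)) :=
  Lgr Lrot23 (Lpr_ct (K26.f291929 IH) (Lpr_ft (f247515 IH) (Lpe (K27.f247482 IH) (Lpn (LP (LK LD1_c8 LD2_c15 LD3_c45))))))
theorem f291928 : Led Lsl_bt (LP (LK LD1_c15 LD2_c24 LD3_c53)) = (LP (LK LD1_c25 LD2_c17 LD3_c8)) :=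
  Lre_b IH (LK LD1_c15 LD2_c24 LD3_c53) (LK LD1_c25 LD2_c17 LD3_c8) Lrfl Lrfl
theorem f50732 : Led Lsl_bt (LP (LK LD1_c15 LD2_c32 LD3_c8)) = (LP (LK LD1_c8 LD2_c15 LD3_c45)) :=
  Lre_b IH (LK LD1_c15 LD2_c32 LD3_c8) (LK LD1_c8 LD2_c15 LD3_c45) Lrfl Lrfl
theorem f291979 : Led Lsl_ft (LP (LK LD1_c25 LD2_c17 LD3_c8)) = (LP (LK LD1_c15 LD2_c32 LD3_c8)) :=
  Lgr Lrot75 (Lpe (f291928 IH) (Lpr_ff (f291940 IH) (Lpe (f50732 IH) (Lpn (LP (LK LD1_c15 LD2_c32 LD3_c8))))))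
theorem f291987 : Led Lsl_ff (LP (LK LD1_c25 LD2_c17 LD3_c8)) = (LP (LK LD1_c15 LD2_c32 LD3_c8)) :=
  Lgr Lrot3 (Lpr_ft (f291979 IH) (Lpn (LP (LK LD1_c15 LD2_c32 LD3_c8))))
theorem f291991 : Led Lsl_dt (LP (LK LD1_c25 LD2_c17 LD3_c8)) = (LP (LK LD1_c15 LD2_c25 LD3_c9)) :=
  Lgr Lrot60 (Lpr_ff (f291987 IH) (Lpe (f49270 IH) (Lpe (K21.f191219 IH) (Lpn (LP (LK LD1_c15 LD2_c25 LD3_c9))))))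
theorem f50675 : Led Lsl_bt (LP (LK LD1_c8 LD2_c16 LD3_c15)) = (LP (LK LD1_c4 LD2_c8 LD3_c6)) :=
  Lre_b IH (LK LD1_c8 LD2_c16 LD3_c15) (LK LD1_c4 LD2_c8 LD3_c6) Lrfl Lrfl
theorem f191201 : Led Lsl_ct (LP (LK LD1_c15 LD2_c25 LD3_c9)) = (LP (LK LD1_c8 LD2_c16 LD3_c15)) :=
  Lgr Lrot83 (Lpe (K21.f191200 IH) (Lpr_cf (K11.f191190 IH) (Lpe (K11.f49620 IH) (Lpe (K9.f49634 IH) (Lpe (f50675 IH) (Lpn (LP (LK LD1_c8 LD2_c16 LD3_c15))))))))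
theorem f53574 : Led Lsl_dt (LP (LK LD1_c8 LD2_c16 LD3_c15)) = (LP (LK LD1_c15 LD2_c33 LD3_c2)) :=
  Lre_d IH (LK LD1_c8 LD2_c16 LD3_c15) (LK LD1_c15 LD2_c33 LD3_c2) Lrfl Lrfl
theorem f49641 : Led Lsl_ct (LP (LK LD1_c15 LD2_c33 LD3_c2)) = (LP (LK LD1_c25 LD2_c26 LD3_c31)) :=
  Lre_c IH (LK LD1_c15 LD2_c33 LD3_c2) (LK LD1_c25 LD2_c26 LD3_c31) Lrfl Lrfl
theorem f214875 : Led Lsl_dt (LP (LK LD1_c18 LD2_c45 LD3_c10)) = (LP (LK LD1_c28 LD2_c15 LD3_c2)) :=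
  Lre_d IH (LK LD1_c18 LD2_c45 LD3_c10) (LK LD1_c28 LD2_c15 LD3_c2) Lrfl Lrfl
theorem f585703 : Led Lsl_dt (LP (LK LD1_c25 LD2_c26 LD3_c31)) = (LP (LK LD1_c27 LD2_c54 LD3_c47)) :=
  Lgr Lrot140 (Lpe (f49641 IH) (Lpe (f53574 IH) (Lpe (f191201 IH) (Lpe (f291991 IH) (Lpr_ft (f291979 IH) (Lpr_at (f50747 IH) (Lpr_cf (f585698 IH) (Lpe (f214875 IH) (Lpr_cf (f214870 IH) (Lpn (LP (LK LD1_c27 LD2_c54 LD3_c47))))))))))))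
theorem f53530 : Led Lsl_ft (LP (LK LD1_c15 LD2_c33 LD3_c1)) = (LP (LK LD1_c25 LD2_c26 LD3_c31)) :=
  Lre_f IH (LK LD1_c15 LD2_c33 LD3_c1) (LK LD1_c25 LD2_c26 LD3_c31) Lrfl Lrfl
theorem f585705 : Led Lsl_ff (LP (LK LD1_c25 LD2_c26 LD3_c30)) = (LP (LK LD1_c27 LD2_c54 LD3_c47)) :=
  Lgr Lrot19 (Lpr_dt (f191262 IH) (Lpr_ft (f53530 IH) (Lpr_dt (f585703 IH) (Lpn (LP (LK LD1_c27 LD2_c54 LD3_c47))))))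
theorem f214873 : Led Lsl_ct (LP (LK LD1_c18 LD2_c45 LD3_c10)) = (LP (LK LD1_c27 LD2_c54 LD3_c47)) :=
  Lgr Lrot59 (Lpr_cf (f214870 IH) (Lpn (LP (LK LD1_c27 LD2_c54 LD3_c47))))
theorem f214881 : Led Lsl_ft (LP (LK LD1_c28 LD2_c14 LD3_c57)) = (LP (LK LD1_c18 LD2_c45 LD3_c10)) :=
  Lre_f IH (LK LD1_c28 LD2_c14 LD3_c57) (LK LD1_c18 LD2_c45 LD3_c10) Lrfl Lrfl
theorem f585709 : Led Lsl_ct (LP (LK LD1_c25 LD2_c26 LD3_c30)) = (LP (LK LD1_c28 LD2_c14 LD3_c57)) :=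
  Lgr Lrot40 (Lpr_ff (f585705 IH) (Lpe (f214873 IH) (Lpe (f214881 IH) (Lpn (LP (LK LD1_c28 LD2_c14 LD3_c57))))))
theorem f585715 : Led Lsl_cf (LP (LK LD1_c25 LD2_c26 LD3_c30)) = (LP (LK LD1_c28 LD2_c14 LD3_c57)) :=
  Lgr Lrot11 (Lpr_ct (f585709 IH) (Lpn (LP (LK LD1_c28 LD2_c14 LD3_c57))))
theorem f585707 : Led Lsl_bt (LP (LK LD1_c25 LD2_c26 LD3_c30)) = (LP (LK LD1_c25 LD2_c23 LD3_c59)) :=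
  Lgr Lrot35 (Lpr_ff (f585705 IH) (Lpe (f214866 IH) (Lpr_ff (f583710 IH) (Lpn (LP (LK LD1_c25 LD2_c23 LD3_c59))))))
theorem f402508 : Led Lsl_bt (LP (LK LD1_c15 LD2_c31 LD3_c0)) = (LP (LK LD1_c25 LD2_c23 LD3_c58)) :=
  Lre_b IH (LK LD1_c15 LD2_c31 LD3_c0) (LK LD1_c25 LD2_c23 LD3_c58) Lrfl Lrfl
theorem f585723 : Led Lsl_bt (LP (LK LD1_c18 LD2_c45 LD3_c5)) = (LP (LK LD1_c28 LD2_c14 LD3_c57)) :=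
  Lre_b IH (LK LD1_c18 LD2_c45 LD3_c5) (LK LD1_c28 LD2_c14 LD3_c57) Lrfl Lrfl
theorem f585744 : Led Lsl_ct (LP (LK LD1_c25 LD2_c23 LD3_c58)) = (LP (LK LD1_c18 LD2_c45 LD3_c5)) :=
  Lgr Lrot83 (Lpe (f402508 IH) (Lpe (f51332 IH) (Lpe (f585707 IH) (Lpr_cf (f585715 IH) (Lpe (f585723 IH) (Lpn (LP (LK LD1_c18 LD2_c45 LD3_c5))))))))
theorem f188471 : Led Lsl_bt (LP (LK LD1_c25 LD2_c23 LD3_c58)) = (LP (LK LD1_c15 LD2_c31 LD3_c0)) :=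
  Lre_b IH (LK LD1_c25 LD2_c23 LD3_c58) (LK LD1_c15 LD2_c31 LD3_c0) Lrfl Lrfl
theorem f32506 : Led Lsl_bt (LP (LK LD1_c10 LD2_c23 LD3_c56)) = (LP (LK LD1_c5 LD2_c17 LD3_c9)) :=
  Lre_b IH (LK LD1_c10 LD2_c23 LD3_c56) (LK LD1_c5 LD2_c17 LD3_c9) Lrfl Lrfl
theorem f32510 : Led Lsl_ct (LP (LK LD1_c10 LD2_c23 LD3_c56)) = (LP (LK LD1_c10 LD2_c19 LD3_c47)) :=
  Lgr Lrot59 (Lpr_cf (K2.f32473 IH) (Lpn (LP (LK LD1_c10 LD2_c19 LD3_c47))))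
theorem f585757 : Led Lsl_gf (LP (LK LD1_c10 LD2_c19 LD3_c47)) = (LP (LK LD1_c18 LD2_c45 LD3_c5)) :=
  Lgr Lrot126 (Lpe (f32510 IH) (Lpr_bt (f32506 IH) (Lpr_gt (K10.f32523 IH) (Lpe (K10.f191516 IH) (Lpr_gt (K10.f45012 IH) (Lpe (K12.f44976 IH) (Lpr_bt (f45051 IH) (Lpr_gt (f45042 IH) (Lpe (f188471 IH) (Lpr_ct (f585744 IH) (Lpn (LP (LK LD1_c18 LD2_c45 LD3_c5)))))))))))))
theorem f585750 : Led Lsl_ft (LP (LK LD1_c18 LD2_c45 LD3_c5)) = (LP (LK LD1_c10 LD2_c19 LD3_c44)) :=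
  Lre_f IH (LK LD1_c18 LD2_c45 LD3_c5) (LK LD1_c10 LD2_c19 LD3_c44) Lrfl Lrfl
theorem f585759 : Led Lsl_at (LP (LK LD1_c10 LD2_c19 LD3_c44)) = (LP (LK LD1_c18 LD2_c45 LD3_c9)) :=
  Lre_a IH (LK LD1_c10 LD2_c19 LD3_c44) (LK LD1_c18 LD2_c45 LD3_c9) Lrfl Lrfl
theorem f585760 : Led Lsl_gt (LP (LK LD1_c10 LD2_c19 LD3_c47)) = (LP (LK LD1_c18 LD2_c45 LD3_c9)) :=
  Lgr Lrot46 (Lpr_gf (f585757 IH) (Lpr_ft (f585750 IH) (Lpr_at (f585759 IH) (Lpn (LP (LK LD1_c18 LD2_c45 LD3_c9))))))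
theorem f32509 : Led Lsl_bt (LP (LK LD1_c5 LD2_c15 LD3_c9)) = (LP (LK LD1_c10 LD2_c19 LD3_c47)) :=
  Lre_b IH (LK LD1_c5 LD2_c15 LD3_c9) (LK LD1_c10 LD2_c19 LD3_c47) Lrfl Lrfl
theorem f49515 : Led Lsl_bt (LP (LK LD1_c4 LD2_c13 LD3_c47)) = (LP (LK LD1_c8 LD2_c26 LD3_c19)) :=
  Lre_b IH (LK LD1_c4 LD2_c13 LD3_c47) (LK LD1_c8 LD2_c26 LD3_c19) Lrfl Lrfl
theorem f183967 : Led Lsl_bt (LP (LK LD1_c10 LD2_c26 LD3_c40)) = (LP (LK LD1_c5 LD2_c18 LD3_c29)) :=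
  Lre_b IH (LK LD1_c10 LD2_c26 LD3_c40) (LK LD1_c5 LD2_c18 LD3_c29) Lrfl Lrfl
theorem f183968 : Led Lsl_ct (LP (LK LD1_c8 LD2_c26 LD3_c19)) = (LP (LK LD1_c10 LD2_c26 LD3_c40)) :=
  Lgr Lrot83 (Lpe (f49515 IH) (Lpe (K12.f49451 IH) (Lpe (K9.f49546 IH) (Lpr_cf (K9.f183956 IH) (Lpe (f183967 IH) (Lpn (LP (LK LD1_c10 LD2_c26 LD3_c40))))))))
theorem f183975 : Led Lsl_gt (LP (LK LD1_c18 LD2_c56 LD3_c28)) = (LP (LK LD1_c10 LD2_c26 LD3_c40)) :=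
  Lre_g IH (LK LD1_c18 LD2_c56 LD3_c28) (LK LD1_c10 LD2_c26 LD3_c40) Lrfl Lrfl
theorem f585782 : Led Lsl_bt (LP (LK LD1_c28 LD2_c14 LD3_c59)) = (LP (LK LD1_c18 LD2_c45 LD3_c9)) :=
  Lre_b IH (LK LD1_c28 LD2_c14 LD3_c59) (LK LD1_c18 LD2_c45 LD3_c9) Lrfl Lrfl
theorem f585783 : Led Lsl_cf (LP (LK LD1_c18 LD2_c56 LD3_c28)) = (LP (LK LD1_c28 LD2_c14 LD3_c59)) :=
  Lgr Lrot160 (Lpr_gt (f183975 IH) (Lpe (f183968 IH) (Lpr_bt (K13.f49519 IH) (Lpe (K14.f248075 IH) (Lpr_ct (K21.f45504 IH) (Lpr_gt (K10.f32342 IH) (Lpe (K10.f32556 IH) (Lpr_bt (f32509 IH) (Lpr_gt (f585760 IH) (Lpe (f585782 IH) (Lpn (LP (LK LD1_c28 LD2_c14 LD3_c59)))))))))))))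
theorem f585787 : Led Lsl_ct (LP (LK LD1_c18 LD2_c56 LD3_c28)) = (LP (LK LD1_c28 LD2_c14 LD3_c59)) :=
  Lgr Lrot59 (Lpr_cf (f585783 IH) (Lpn (LP (LK LD1_c28 LD2_c14 LD3_c59))))
theorem f183976 : Led Lsl_bt (LP (LK LD1_c28 LD2_c24 LD3_c34)) = (LP (LK LD1_c18 LD2_c56 LD3_c28)) :=
  Lre_b IH (LK LD1_c28 LD2_c24 LD3_c34) (LK LD1_c18 LD2_c56 LD3_c28) Lrfl Lrfl
theorem f585776 : Led Lsl_ct (LP (LK LD1_c18 LD2_c45 LD3_c9)) = (LP (LK LD1_c28 LD2_c14 LD3_c61)) :=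
  Lre_c IH (LK LD1_c18 LD2_c45 LD3_c9) (LK LD1_c28 LD2_c14 LD3_c61) Lrfl Lrfl
theorem f215112 : Led Lsl_bt (LP (LK LD1_c10 LD2_c25 LD3_c31)) = (LP (LK LD1_c18 LD2_c54 LD3_c39)) :=
  Lre_b IH (LK LD1_c10 LD2_c25 LD3_c31) (LK LD1_c18 LD2_c54 LD3_c39) Lrfl Lrfl
theorem f215117 : Led Lsl_gt (LP (LK LD1_c28 LD2_c22 LD3_c30)) = (LP (LK LD1_c18 LD2_c54 LD3_c39)) :=
  Lre_g IH (LK LD1_c28 LD2_c22 LD3_c30) (LK LD1_c18 LD2_c54 LD3_c39) Lrfl Lrfl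
theorem f585779 : Led Lsl_ct (LP (LK LD1_c28 LD2_c14 LD3_c61)) = (LP (LK LD1_c18 LD2_c45 LD3_c9)) :=
  Lre_c IH (LK LD1_c28 LD2_c14 LD3_c61) (LK LD1_c18 LD2_c45 LD3_c9) Lrfl Lrfl
theorem f585780 : Led Lsl_bf (LP (LK LD1_c28 LD2_c22 LD3_c30)) = (LP (LK LD1_c28 LD2_c14 LD3_c61)) :=
  Lgr Lrot156 (Lpr_gt (f215117 IH) (Lpe (f215112 IH) (Lpr_ct (f215119 IH) (Lpr_gt (f584442 IH) (Lpe (f584440 IH) (Lpr_bt (f584327 IH) (Lpr_gt (f582630 IH) (Lpr_ct (f32510 IH) (Lpr_gt (f585760 IH) (Lpe (f585779 IH) (Lpn (LP (LK LD1_c28 LD2_c14 LD3_c61)))))))))))))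
theorem f585790 : Led Lsl_cf (LP (LK LD1_c28 LD2_c24 LD3_c34)) = (LP (LK LD1_c28 LD2_c22 LD3_c30)) :=
  Lgr Lrot97 (Lpr_bt (f183976 IH) (Lpr_ct (f585787 IH) (Lpr_bt (f585782 IH) (Lpr_ct (f585776 IH) (Lpe (f585780 IH) (Lpn (LP (LK LD1_c28 LD2_c22 LD3_c30))))))))
theorem f585793 : Led Lsl_ct (LP (LK LD1_c28 LD2_c24 LD3_c34)) = (LP (LK LD1_c28 LD2_c22 LD3_c30)) :=
  Lgr Lrot59 (Lpr_cf (f585790 IH) (Lpn (LP (LK LD1_c28 LD2_c22 LD3_c30))))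
theorem f183974 : Led Lsl_bt (LP (LK LD1_c5 LD2_c18 LD3_c29)) = (LP (LK LD1_c10 LD2_c26 LD3_c40)) :=
  Lre_b IH (LK LD1_c5 LD2_c18 LD3_c29) (LK LD1_c10 LD2_c26 LD3_c40) Lrfl Lrfl
theorem f585797 : Led Lsl_gt (LP (LK LD1_c18 LD2_c56 LD3_c51)) = (LP (LK LD1_c28 LD2_c22 LD3_c30)) :=
  Lgr Lrot149 (Lpe (K19.f215122 IH) (Lpe (K19.f215050 IH) (Lpe (K19.f215039 IH) (Lpr_ct (K17.f215042 IH) (Lpe (K14.f215048 IH) (Lpr_cf (K9.f183956 IH) (Lpr_bt (f183974 IH) (Lpe (f183975 IH) (Lpe (f183976 IH) (Lpr_ct (f585793 IH) (Lpn (LP (LK LD1_c28 LD2_c22 LD3_c30)))))))))))))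
theorem f186630 : Led Lsl_bt (LP (LK LD1_c10 LD2_c26 LD3_c59)) = (LP (LK LD1_c18 LD2_c56 LD3_c51)) :=
  Lre_b IH (LK LD1_c10 LD2_c26 LD3_c59) (LK LD1_c18 LD2_c56 LD3_c51) Lrfl Lrfl
theorem f32462 : Led Lsl_at (LP (LK LD1_c5 LD2_c15 LD3_c7)) = (LP (LK LD1_c10 LD2_c19 LD3_c45)) :=
  Lre_a IH (LK LD1_c5 LD2_c15 LD3_c7) (LK LD1_c10 LD2_c19 LD3_c45) Lrfl Lrfl
theorem f585774 : Led Lsl_gf (LP (LK LD1_c10 LD2_c19 LD3_c45)) = (LP (LK LD1_c18 LD2_c45 LD3_c9)) :=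
  Lgr Lrot76 (Lpe (f32462 IH) (Lpe (K17.f32746 IH) (Lpr_gt (f585760 IH) (Lpn (LP (LK LD1_c18 LD2_c45 LD3_c9))))))
theorem f32594 : Led Lsl_bt (LP (LK LD1_c1 LD2_c14 LD3_c61)) = (LP (LK LD1_c0 LD2_c34 LD3_c48)) :=
  Lre_b IH (LK LD1_c1 LD2_c14 LD3_c61) (LK LD1_c0 LD2_c34 LD3_c48) Lrfl Lrfl
theorem f32598 : Led Lsl_bf (LP (LK LD1_c2 LD2_c36 LD3_c0)) = (LP (LK LD1_c2 LD2_c35 LD3_c5)) :=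
  Lgr Lrot81 (Lpr_at (K17.f32595 IH) (Lpr_bt (f32594 IH) (Lpr_at (K2.f32590 IH) (Lpr_bt (f32596 IH) (Lpr_at (K17.f32597 IH) (Lpn (LP (LK LD1_c2 LD2_c35 LD3_c5))))))))
theorem f32729 : Led Lsl_bt (LP (LK LD1_c5 LD2_c18 LD3_c9)) = (LP (LK LD1_c10 LD2_c23 LD3_c54)) :=
  Lre_b IH (LK LD1_c5 LD2_c18 LD3_c9) (LK LD1_c10 LD2_c23 LD3_c54) Lrfl Lrfl
theorem f32731 : Led Lsl_bt (LP (LK LD1_c10 LD2_c19 LD3_c45)) = (LP (LK LD1_c5 LD2_c16 LD3_c6)) :=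
  Lre_b IH (LK LD1_c10 LD2_c19 LD3_c45) (LK LD1_c5 LD2_c16 LD3_c6) Lrfl Lrfl
theorem f32732 : Led Lsl_ct (LP (LK LD1_c10 LD2_c23 LD3_c54)) = (LP (LK LD1_c10 LD2_c19 LD3_c45)) :=
  Lgr Lrot83 (Lpe (f32729 IH) (Lpe (K17.f32682 IH) (Lpr_bf (f32598 IH) (Lpe (K17.f32730 IH) (Lpe (f32731 IH) (Lpn (LP (LK LD1_c10 LD2_c19 LD3_c45))))))))
theorem f181050 : Led Lsl_at (LP (LK LD1_c10 LD2_c25 LD3_c53)) = (LP (LK LD1_c5 LD2_c18 LD3_c11)) :=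
  Lre_a IH (LK LD1_c10 LD2_c25 LD3_c53) (LK LD1_c5 LD2_c18 LD3_c11) Lrfl Lrfl
theorem f48815 : Led Lsl_ft (LP (LK LD1_c5 LD2_c18 LD3_c9)) = (LP (LK LD1_c10 LD2_c25 LD3_c53)) :=
  Lre_f IH (LK LD1_c5 LD2_c18 LD3_c9) (LK LD1_c10 LD2_c25 LD3_c53) Lrfl Lrfl
theorem f181051 : Led Lsl_gt (LP (LK LD1_c5 LD2_c18 LD3_c9)) = (LP (LK LD1_c10 LD2_c13 LD3_c33)) :=
  Lgr Lrot5 (Lpr_ft (f48815 IH) (Lpr_at (f181050 IH) (Lpr_gf (f181047 IH) (Lpn (LP (LK LD1_c10 LD2_c13 LD3_c33))))))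
theorem f164643 : Led Lsl_ct (LP (LK LD1_c10 LD2_c13 LD3_c33)) = (LP (LK LD1_c5 LD2_c11 LD3_c30)) :=
  Lre_c IH (LK LD1_c10 LD2_c13 LD3_c33) (LK LD1_c5 LD2_c11 LD3_c30) Lrfl Lrfl
theorem f585799 : Led Lsl_gf (LP (LK LD1_c10 LD2_c13 LD3_c12)) = (LP (LK LD1_c5 LD2_c11 LD3_c30)) :=
  Lgr Lrot129 (Lpe (K19.f186633 IH) (Lpr_bt (f186630 IH) (Lpr_gt (f585797 IH) (Lpr_bf (f585780 IH) (Lpr_ct (f585779 IH) (Lpe (f585774 IH) (Lpe (f32732 IH) (Lpr_bt (K17.f32672 IH) (Lpr_gt (f181051 IH) (Lpr_ct (f164643 IH) (Lpn (LP (LK LD1_c5 LD2_c11 LD3_c30)))))))))))))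
theorem f164611 : Led Lsl_ct (LP (LK LD1_c2 LD2_c32 LD3_c41)) = (LP (LK LD1_c5 LD2_c11 LD3_c31)) :=
  Lre_c IH (LK LD1_c2 LD2_c32 LD3_c41) (LK LD1_c5 LD2_c11 LD3_c31) Lrfl Lrfl
theorem f34354 : Led Lsl_gt (LP (LK LD1_c10 LD2_c13 LD3_c38)) = (LP (LK LD1_c5 LD2_c11 LD3_c31)) :=
  Lre_g IH (LK LD1_c10 LD2_c13 LD3_c38) (LK LD1_c5 LD2_c11 LD3_c31) Lrfl Lrfl
theorem f585809 : Led Lsl_ct (LP (LK LD1_c10 LD2_c22 LD3_c38)) = (LP (LK LD1_c10 LD2_c13 LD3_c38)) :=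
  Lgr Lrot64 (Lpe (f405276 IH) (Lpe (f185245 IH) (Lpe (f186642 IH) (Lpr_ct (f32699 IH) (Lpe (K19.f71685 IH) (Lpr_cf (K19.f186613 IH) (Lpr_gf (f585799 IH) (Lpe (f343488 IH) (Lpr_ct (f164611 IH) (Lpe (f34354 IH) (Lpn (LP (LK LD1_c10 LD2_c13 LD3_c38)))))))))))))
theorem f164615 : Led Lsl_gt (LP (LK LD1_c5 LD2_c11 LD3_c36)) = (LP (LK LD1_c10 LD2_c13 LD3_c38)) :=
  Lre_g IH (LK LD1_c5 LD2_c11 LD3_c36) (LK LD1_c10 LD2_c13 LD3_c38) Lrfl Lrfl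
theorem f164614 : Led Lsl_ct (LP (LK LD1_c2 LD2_c32 LD3_c42)) = (LP (LK LD1_c5 LD2_c11 LD3_c36)) :=
  Lre_c IH (LK LD1_c2 LD2_c32 LD3_c42) (LK LD1_c5 LD2_c11 LD3_c36) Lrfl Lrfl
theorem f343363 : Led Lsl_bt (LP (LK LD1_c2 LD2_c32 LD3_c42)) = (LP (LK LD1_c5 LD2_c11 LD3_c35)) :=
  Lre_b IH (LK LD1_c2 LD2_c32 LD3_c42) (LK LD1_c5 LD2_c11 LD3_c35) Lrfl Lrfl
theorem f185248 : Led Lsl_gt (LP (LK LD1_c18 LD2_c35 LD3_c48)) = (LP (LK LD1_c10 LD2_c12 LD3_c52)) :=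
  Lre_g IH (LK LD1_c18 LD2_c35 LD3_c48) (LK LD1_c10 LD2_c12 LD3_c52) Lrfl Lrfl
theorem f165440 : Led Lsl_ct (LP (LK LD1_c5 LD2_c11 LD3_c35)) = (LP (LK LD1_c10 LD2_c13 LD3_c53)) :=
  Lre_c IH (LK LD1_c5 LD2_c11 LD3_c35) (LK LD1_c10 LD2_c13 LD3_c53) Lrfl Lrfl
theorem f233568 : Led Lsl_ct (LP (LK LD1_c18 LD2_c37 LD3_c19)) = (LP (LK LD1_c10 LD2_c13 LD3_c56)) :=
  Lre_c IH (LK LD1_c18 LD2_c37 LD3_c19) (LK LD1_c10 LD2_c13 LD3_c56) Lrfl Lrfl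
theorem f233571 : Led Lsl_bt (LP (LK LD1_c18 LD2_c37 LD3_c19)) = (LP (LK LD1_c10 LD2_c13 LD3_c53)) :=
  Lre_b IH (LK LD1_c18 LD2_c37 LD3_c19) (LK LD1_c10 LD2_c13 LD3_c53) Lrfl Lrfl
theorem f192908 : Led Lsl_cf (LP (LK LD1_c8 LD2_c5 LD3_c58)) = (LP (LK LD1_c10 LD2_c11 LD3_c38)) :=
  Lgr Lrot97 (Lpr_bt (f45823 IH) (Lpr_ct (K1.f27862 IH) (Lpr_bt (K1.f45817 IH) (Lpr_ct (K10.f192903 IH) (Lpr_bt (K14.f192907 IH) (Lpn (LP (LK LD1_c10 LD2_c11 LD3_c38))))))))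
theorem f192933 : Led Lsl_bt (LP (LK LD1_c5 LD2_c10 LD3_c31)) = (LP (LK LD1_c2 LD2_c32 LD3_c19)) :=
  Lre_b IH (LK LD1_c5 LD2_c10 LD3_c31) (LK LD1_c2 LD2_c32 LD3_c19) Lrfl Lrfl
theorem f165251 : Led Lsl_gt (LP (LK LD1_c5 LD2_c10 LD3_c38)) = (LP (LK LD1_c2 LD2_c32 LD3_c21)) :=
  Lre_g IH (LK LD1_c5 LD2_c10 LD3_c38) (LK LD1_c2 LD2_c32 LD3_c21) Lrfl Lrfl
theorem f233578 : Led Lsl_ct (LP (LK LD1_c10 LD2_c11 LD3_c60)) = (LP (LK LD1_c5 LD2_c10 LD3_c38)) :=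
  Lre_c IH (LK LD1_c10 LD2_c11 LD3_c60) (LK LD1_c5 LD2_c10 LD3_c38) Lrfl Lrfl
theorem f233579 : Led Lsl_gt (LP (LK LD1_c10 LD2_c13 LD3_c53)) = (LP (LK LD1_c10 LD2_c11 LD3_c60)) :=
  Lgr Lrot82 (Lpe (f233571 IH) (Lpr_ct (f233568 IH) (Lpr_gf (f233564 IH) (Lpr_cf (f192908 IH) (Lpr_bt (f233505 IH) (Lpe (K10.f192902 IH) (Lpe (f192933 IH) (Lpr_ct (K14.f171623 IH) (Lpe (f165251 IH) (Lpe (f233578 IH) (Lpn (LP (LK LD1_c10 LD2_c11 LD3_c60)))))))))))))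
theorem f233587 : Led Lsl_ct (LP (LK LD1_c5 LD2_c10 LD3_c38)) = (LP (LK LD1_c10 LD2_c11 LD3_c60)) :=
  Lre_c IH (LK LD1_c5 LD2_c10 LD3_c38) (LK LD1_c10 LD2_c11 LD3_c60) Lrfl Lrfl
theorem f233588 : Led Lsl_bt (LP (LK LD1_c5 LD2_c10 LD3_c38)) = (LP (LK LD1_c10 LD2_c11 LD3_c59)) :=
  Lre_b IH (LK LD1_c5 LD2_c10 LD3_c38) (LK LD1_c10 LD2_c11 LD3_c59) Lrfl Lrfl
theorem f164536 : Led Lsl_bt (LP (LK LD1_c5 LD2_c11 LD3_c35)) = (LP (LK LD1_c2 LD2_c32 LD3_c42)) :=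
  Lre_b IH (LK LD1_c5 LD2_c11 LD3_c35) (LK LD1_c2 LD2_c32 LD3_c42) Lrfl Lrfl
theorem f163753 : Led Lsl_bt (LP (LK LD1_c1 LD2_c11 LD3_c54)) = (LP (LK LD1_c2 LD2_c29 LD3_c39)) :=
  Lre_b IH (LK LD1_c1 LD2_c11 LD3_c54) (LK LD1_c2 LD2_c29 LD3_c39) Lrfl Lrfl
theorem f163754 : Led Lsl_at (LP (LK LD1_c2 LD2_c29 LD3_c39)) = (LP (LK LD1_c5 LD2_c4 LD3_c21)) :=
  Lre_a IH (LK LD1_c2 LD2_c29 LD3_c39) (LK LD1_c5 LD2_c4 LD3_c21) Lrfl Lrfl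
theorem f163755 : Led Lsl_bt (LP (LK LD1_c2 LD2_c32 LD3_c45)) = (LP (LK LD1_c1 LD2_c13 LD3_c19)) :=
  Lre_b IH (LK LD1_c2 LD2_c32 LD3_c45) (LK LD1_c1 LD2_c13 LD3_c19) Lrfl Lrfl
theorem f34595 : Led Lsl_at (LP (LK LD1_c5 LD2_c11 LD3_c28)) = (LP (LK LD1_c2 LD2_c32 LD3_c45)) :=
  Lre_a IH (LK LD1_c5 LD2_c11 LD3_c28) (LK LD1_c2 LD2_c32 LD3_c45) Lrfl Lrfl
theorem f163756 : Led Lsl_bt (LP (LK LD1_c5 LD2_c4 LD3_c21)) = (LP (LK LD1_c5 LD2_c11 LD3_c28)) :=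
  Lgr Lrot62 (Lpe (f163754 IH) (Lpe (f163753 IH) (Lpr_af (K8.f163738 IH) (Lpe (f163755 IH) (Lpe (f34595 IH) (Lpn (LP (LK LD1_c5 LD2_c11 LD3_c28))))))))
theorem f163854 : Led Lsl_ct (LP (LK LD1_c5 LD2_c4 LD3_c21)) = (LP (LK LD1_c9 LD2_c54 LD3_c15)) :=
  Lre_c IH (LK LD1_c5 LD2_c4 LD3_c21) (LK LD1_c9 LD2_c54 LD3_c15) Lrfl Lrfl
theorem f164041 : Led Lsl_gt (LP (LK LD1_c5 LD2_c1 LD3_c53)) = (LP (LK LD1_c9 LD2_c54 LD3_c15)) :=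
  Lre_g IH (LK LD1_c5 LD2_c1 LD3_c53) (LK LD1_c9 LD2_c54 LD3_c15) Lrfl Lrfl
theorem f164042 : Led Lsl_ct (LP (LK LD1_c9 LD2_c54 LD3_c18)) = (LP (LK LD1_c5 LD2_c1 LD3_c53)) :=
  Lre_c IH (LK LD1_c9 LD2_c54 LD3_c18) (LK LD1_c5 LD2_c1 LD3_c53) Lrfl Lrfl
theorem f233589 : Led Lsl_gf (LP (LK LD1_c9 LD2_c54 LD3_c18)) = (LP (LK LD1_c10 LD2_c11 LD3_c59)) :=
  Lgr Lrot181 (Lpr_ct (f164042 IH) (Lpr_gt (f164041 IH) (Lpe (f163854 IH) (Lpr_bt (f163756 IH) (Lpr_gt (f21555 IH) (Lpe (f164536 IH) (Lpr_ct (f165440 IH) (Lpr_gt (f233579 IH) (Lpe (f233587 IH) (Lpr_bt (f233588 IH) (Lpn (LP (LK LD1_c10 LD2_c11 LD3_c59)))))))))))))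
theorem f233598 : Led Lsl_bt (LP (LK LD1_c18 LD2_c7 LD3_c36)) = (LP (LK LD1_c9 LD2_c54 LD3_c18)) :=
  Lre_b IH (LK LD1_c18 LD2_c7 LD3_c36) (LK LD1_c9 LD2_c54 LD3_c18) Lrfl Lrfl
theorem f405335 : Led Lsl_ct (LP (LK LD1_c18 LD2_c7 LD3_c36)) = (LP (LK LD1_c18 LD2_c35 LD3_c48)) :=
  Lgr Lrot64 (Lpr_bt (f233598 IH) (Lpr_gf (f233589 IH) (Lpe (f233588 IH) (Lpr_ct (f233587 IH) (Lpe (f233579 IH) (Lpe (f165440 IH) (Lpr_gf (f405323 IH) (Lpe (f185205 IH) (Lpr_ct (f185196 IH) (Lpe (f185248 IH) (Lpn (LP (LK LD1_c18 LD2_c35 LD3_c48)))))))))))))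
theorem f585826 : Led Lsl_gt (LP (LK LD1_c10 LD2_c27 LD3_c11)) = (LP (LK LD1_c18 LD2_c7 LD3_c36)) :=
  Lgr Lrot82 (Lpr_bf (f405276 IH) (Lpr_ct (f585809 IH) (Lpe (f164615 IH) (Lpe (f164614 IH) (Lpr_bt (f343363 IH) (Lpr_gf (f405323 IH) (Lpe (f185205 IH) (Lpr_ct (f185196 IH) (Lpe (f185248 IH) (Lpe (f405335 IH) (Lpn (LP (LK LD1_c18 LD2_c7 LD3_c36)))))))))))))
theorem f585828 : Led Lsl_ft (LP (LK LD1_c5 LD2_c18 LD3_c45)) = (LP (LK LD1_c10 LD2_c26 LD3_c53)) :=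
  Lre_f IH (LK LD1_c5 LD2_c18 LD3_c45) (LK LD1_c10 LD2_c26 LD3_c53) Lrfl Lrfl
theorem f585829 : Led Lsl_at (LP (LK LD1_c10 LD2_c26 LD3_c53)) = (LP (LK LD1_c18 LD2_c7 LD3_c36)) :=
  Lgr Lrot26 (Lpe (f585828 IH) (Lpr_gt (f185245 IH) (Lpr_gt (f585826 IH) (Lpn (LP (LK LD1_c18 LD2_c7 LD3_c36))))))
theorem f585838 : Led Lsl_et (LP (LK LD1_c18 LD2_c56 LD3_c44)) = (LP (LK LD1_c10 LD2_c26 LD3_c53)) :=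
  Lre_e IH (LK LD1_c18 LD2_c56 LD3_c44) (LK LD1_c10 LD2_c26 LD3_c53) Lrfl Lrfl
theorem f405356 : Led Lsl_et (LP (LK LD1_c18 LD2_c7 LD3_c36)) = (LP (LK LD1_c27 LD2_c48 LD3_c8)) :=
  Lre_e IH (LK LD1_c18 LD2_c7 LD3_c36) (LK LD1_c27 LD2_c48 LD3_c8) Lrfl Lrfl
theorem f585839 : Led Lsl_af (LP (LK LD1_c18 LD2_c56 LD3_c44)) = (LP (LK LD1_c27 LD2_c48 LD3_c8)) :=
  Lgr Lrot50 (Lpr_et (f585838 IH) (Lpr_at (f585829 IH) (Lpr_et (f405356 IH) (Lpn (LP (LK LD1_c27 LD2_c48 LD3_c8))))))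
theorem f585890 : Led Lsl_bt (LP (LK LD1_c18 LD2_c56 LD3_c44)) = (LP (LK LD1_c10 LD2_c26 LD3_c56)) :=
  Lre_b IH (LK LD1_c18 LD2_c56 LD3_c44) (LK LD1_c10 LD2_c26 LD3_c56) Lrfl Lrfl
theorem f585891 : Led Lsl_at (LP (LK LD1_c10 LD2_c26 LD3_c56)) = (LP (LK LD1_c5 LD2_c18 LD3_c43)) :=
  Lre_a IH (LK LD1_c10 LD2_c26 LD3_c56) (LK LD1_c5 LD2_c18 LD3_c43) Lrfl Lrfl
theorem f585892 : Led Lsl_bt (LP (LK LD1_c5 LD2_c18 LD3_c43)) = (LP (LK LD1_c10 LD2_c26 LD3_c58)) :=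
  Lre_b IH (LK LD1_c5 LD2_c18 LD3_c43) (LK LD1_c10 LD2_c26 LD3_c58) Lrfl Lrfl
theorem f405353 : Led Lsl_bt (LP (LK LD1_c18 LD2_c7 LD3_c37)) = (LP (LK LD1_c27 LD2_c48 LD3_c8)) :=
  Lre_b IH (LK LD1_c18 LD2_c7 LD3_c37) (LK LD1_c27 LD2_c48 LD3_c8) Lrfl Lrfl
theorem f585893 : Led Lsl_at (LP (LK LD1_c10 LD2_c26 LD3_c58)) = (LP (LK LD1_c18 LD2_c7 LD3_c37)) :=
  Lgr Lrot67 (Lpe (f585892 IH) (Lpe (f585891 IH) (Lpe (f585890 IH) (Lpr_af (f585839 IH) (Lpe (f405353 IH) (Lpn (LP (LK LD1_c18 LD2_c7 LD3_c37))))))))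
theorem f405349 : Led Lsl_ct (LP (LK LD1_c18 LD2_c7 LD3_c37)) = (LP (LK LD1_c9 LD2_c54 LD3_c20)) :=
  Lre_c IH (LK LD1_c18 LD2_c7 LD3_c37) (LK LD1_c9 LD2_c54 LD3_c20) Lrfl Lrfl
theorem f585897 : Led Lsl_at (LP (LK LD1_c9 LD2_c54 LD3_c20)) = (LP (LK LD1_c18 LD2_c7 LD3_c33)) :=
  Lre_a IH (LK LD1_c9 LD2_c54 LD3_c20) (LK LD1_c18 LD2_c7 LD3_c33) Lrfl Lrfl
theorem f585898 : Led Lsl_cf (LP (LK LD1_c10 LD2_c26 LD3_c58)) = (LP (LK LD1_c18 LD2_c7 LD3_c33)) :=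
  Lgr Lrot1 (Lpr_at (f585893 IH) (Lpr_ct (f405349 IH) (Lpr_at (f585897 IH) (Lpn (LP (LK LD1_c18 LD2_c7 LD3_c33))))))
theorem f583310 : Led Lsl_et (LP (LK LD1_c10 LD2_c26 LD3_c58)) = (LP (LK LD1_c5 LD2_c18 LD3_c40)) :=
  Lre_e IH (LK LD1_c10 LD2_c26 LD3_c58) (LK LD1_c5 LD2_c18 LD3_c40) Lrfl Lrfl
theorem f585921 : Led Lsl_et (LP (LK LD1_c9 LD2_c54 LD3_c16)) = (LP (LK LD1_c18 LD2_c7 LD3_c33)) :=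
  Lre_e IH (LK LD1_c9 LD2_c54 LD3_c16) (LK LD1_c18 LD2_c7 LD3_c33) Lrfl Lrfl
theorem f585922 : Led Lsl_ct (LP (LK LD1_c5 LD2_c18 LD3_c40)) = (LP (LK LD1_c9 LD2_c54 LD3_c16)) :=
  Lgr Lrot15 (Lpe (f583310 IH) (Lpr_cf (f585898 IH) (Lpe (f585921 IH) (Lpn (LP (LK LD1_c9 LD2_c54 LD3_c16))))))
theorem f186644 : Led Lsl_gt (LP (LK LD1_c10 LD2_c26 LD3_c57)) = (LP (LK LD1_c5 LD2_c18 LD3_c40)) :=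
  Lre_g IH (LK LD1_c10 LD2_c26 LD3_c57) (LK LD1_c5 LD2_c18 LD3_c40) Lrfl Lrfl
theorem f163793 : Led Lsl_ct (LP (LK LD1_c2 LD2_c32 LD3_c38)) = (LP (LK LD1_c5 LD2_c11 LD3_c22)) :=
  Lre_c IH (LK LD1_c2 LD2_c32 LD3_c38) (LK LD1_c5 LD2_c11 LD3_c22) Lrfl Lrfl
theorem f307956 : Led Lsl_ft (LP (LK LD1_c5 LD2_c11 LD3_c22)) = (LP (LK LD1_c5 LD2_c4 LD3_c4)) :=
  Lgr Lrot4 (Lpe (f163793 IH) (Lpr_ff (K19.f307949 IH) (Lpe (K15.f165447 IH) (Lpn (LP (LK LD1_c5 LD2_c4 LD3_c4))))))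
theorem f163794 : Led Lsl_gt (LP (LK LD1_c5 LD2_c11 LD3_c22)) = (LP (LK LD1_c10 LD2_c13 LD3_c17)) :=
  Lre_g IH (LK LD1_c5 LD2_c11 LD3_c22) (LK LD1_c10 LD2_c13 LD3_c17) Lrfl Lrfl
theorem f405249 : Led Lsl_gt (LP (LK LD1_c10 LD2_c13 LD3_c17)) = (LP (LK LD1_c9 LD2_c58 LD3_c58)) :=
  Lgr Lrot46 (Lpe (f163794 IH) (Lpr_ft (f307956 IH) (Lpr_at (K15.f170052 IH) (Lpn (LP (LK LD1_c9 LD2_c58 LD3_c58))))))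
theorem f351004 : Led Lsl_at (LP (LK LD1_c5 LD2_c4 LD3_c14)) = (LP (LK LD1_c2 LD2_c29 LD3_c32)) :=
  Lre_a IH (LK LD1_c5 LD2_c4 LD3_c14) (LK LD1_c2 LD2_c29 LD3_c32) Lrfl Lrfl
theorem f351009 : Led Lsl_gt (LP (LK LD1_c5 LD2_c11 LD3_c12)) = (LP (LK LD1_c5 LD2_c4 LD3_c13)) :=
  Lgr Lrot5 (Lpr_ft (K37.f351002 IH) (Lpr_at (f351004 IH) (Lpe (f166079 IH) (Lpn (LP (LK LD1_c5 LD2_c4 LD3_c13))))))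
theorem f166093 : Led Lsl_gt (LP (LK LD1_c10 LD2_c22 LD3_c41)) = (LP (LK LD1_c5 LD2_c16 LD3_c42)) :=
  Lre_g IH (LK LD1_c10 LD2_c22 LD3_c41) (LK LD1_c5 LD2_c16 LD3_c42) Lrfl Lrfl
theorem f32794 : Led Lsl_ct (LP (LK LD1_c2 LD2_c35 LD3_c4)) = (LP (LK LD1_c5 LD2_c16 LD3_c42)) :=
  Lre_c IH (LK LD1_c2 LD2_c35 LD3_c4) (LK LD1_c5 LD2_c16 LD3_c42) Lrfl Lrfl
theorem f166098 : Led Lsl_bt (LP (LK LD1_c2 LD2_c35 LD3_c4)) = (LP (LK LD1_c5 LD2_c16 LD3_c41)) :=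
  Lre_b IH (LK LD1_c2 LD2_c35 LD3_c4) (LK LD1_c5 LD2_c16 LD3_c41) Lrfl Lrfl
theorem f166099 : Led Lsl_gt (LP (LK LD1_c5 LD2_c16 LD3_c41)) = (LP (LK LD1_c10 LD2_c22 LD3_c53)) :=
  Lre_g IH (LK LD1_c5 LD2_c16 LD3_c41) (LK LD1_c10 LD2_c22 LD3_c53) Lrfl Lrfl
theorem f405251 : Led Lsl_cf (LP (LK LD1_c10 LD2_c13 LD3_c17)) = (LP (LK LD1_c10 LD2_c22 LD3_c53)) :=
  Lgr Lrot125 (Lpr_gt (f405249 IH) (Lpe (K15.f267982 IH) (Lpr_bt (K15.f267972 IH) (Lpr_gt (f351009 IH) (Lpe (f166080 IH) (Lpe (f166081 IH) (Lpr_gt (f166093 IH) (Lpe (f32794 IH) (Lpr_bt (f166098 IH) (Lpr_gt (f166099 IH) (Lpn (LP (LK LD1_c10 LD2_c22 LD3_c53)))))))))))))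
theorem f186643 : Led Lsl_bt (LP (LK LD1_c2 LD2_c35 LD3_c60)) = (LP (LK LD1_c5 LD2_c18 LD3_c40)) :=
  Lre_b IH (LK LD1_c2 LD2_c35 LD3_c60) (LK LD1_c5 LD2_c18 LD3_c40) Lrfl Lrfl
theorem f405256 : Led Lsl_bf (LP (LK LD1_c10 LD2_c26 LD3_c57)) = (LP (LK LD1_c10 LD2_c22 LD3_c53)) :=
  Lgr Lrot156 (Lpr_gt (f186644 IH) (Lpe (f186643 IH) (Lpr_ct (K19.f71666 IH) (Lpr_gt (K19.f71663 IH) (Lpr_cf (K19.f186613 IH) (Lpr_bt (K19.f186612 IH) (Lpr_gt (K19.f186611 IH) (Lpr_ct (f163793 IH) (Lpr_gt (f163794 IH) (Lpr_cf (f405251 IH) (Lpn (LP (LK LD1_c10 LD2_c22 LD3_c53)))))))))))))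
theorem f163778 : Led Lsl_bt (LP (LK LD1_c2 LD2_c29 LD3_c39)) = (LP (LK LD1_c1 LD2_c11 LD3_c54)) :=
  Lre_b IH (LK LD1_c2 LD2_c29 LD3_c39) (LK LD1_c1 LD2_c11 LD3_c54) Lrfl Lrfl
theorem f163779 : Led Lsl_ct (LP (LK LD1_c2 LD2_c29 LD3_c39)) = (LP (LK LD1_c5 LD2_c1 LD3_c57)) :=
  Lre_c IH (LK LD1_c2 LD2_c29 LD3_c39) (LK LD1_c5 LD2_c1 LD3_c57) Lrfl Lrfl
theorem f585943 : Led Lsl_gf (LP (LK LD1_c5 LD2_c1 LD3_c57)) = (LP (LK LD1_c9 LD2_c54 LD3_c16)) :=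
  Lgr Lrot129 (Lpe (f163779 IH) (Lpr_bt (f163778 IH) (Lpr_gt (K10.f163788 IH) (Lpe (K37.f163743 IH) (Lpr_ct (f163793 IH) (Lpr_gt (f163794 IH) (Lpr_cf (f405251 IH) (Lpe (f405256 IH) (Lpr_gt (f186644 IH) (Lpr_ct (f585922 IH) (Lpn (LP (LK LD1_c9 LD2_c54 LD3_c16)))))))))))))
theorem f585934 : Led Lsl_ft (LP (LK LD1_c9 LD2_c54 LD3_c16)) = (LP (LK LD1_c5 LD2_c1 LD3_c54)) :=
  Lre_f IH (LK LD1_c9 LD2_c54 LD3_c16) (LK LD1_c5 LD2_c1 LD3_c54) Lrfl Lrfl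
theorem f585945 : Led Lsl_at (LP (LK LD1_c5 LD2_c1 LD3_c54)) = (LP (LK LD1_c9 LD2_c54 LD3_c21)) :=
  Lre_a IH (LK LD1_c5 LD2_c1 LD3_c54) (LK LD1_c9 LD2_c54 LD3_c21) Lrfl Lrfl
theorem f585946 : Led Lsl_gt (LP (LK LD1_c5 LD2_c1 LD3_c57)) = (LP (LK LD1_c9 LD2_c54 LD3_c21)) :=
  Lgr Lrot46 (Lpr_gf (f585943 IH) (Lpr_ft (f585934 IH) (Lpr_at (f585945 IH) (Lpn (LP (LK LD1_c9 LD2_c54 LD3_c21))))))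
theorem f33392 : Led Lsl_bt (LP (LK LD1_c2 LD2_c28 LD3_c38)) = (LP (LK LD1_c5 LD2_c1 LD3_c57)) :=
  Lre_b IH (LK LD1_c2 LD2_c28 LD3_c38) (LK LD1_c5 LD2_c1 LD3_c57) Lrfl Lrfl
theorem f44898 : Led Lsl_gt (LP (LK LD1_c5 LD2_c20 LD3_c7)) = (LP (LK LD1_c2 LD2_c36 LD3_c43)) :=
  Lre_g IH (LK LD1_c5 LD2_c20 LD3_c7) (LK LD1_c2 LD2_c36 LD3_c43) Lrfl Lrfl
theorem f186885 : Led Lsl_ct (LP (LK LD1_c10 LD2_c30 LD3_c15)) = (LP (LK LD1_c5 LD2_c20 LD3_c7)) :=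
  Lre_c IH (LK LD1_c10 LD2_c30 LD3_c15) (LK LD1_c5 LD2_c20 LD3_c7) Lrfl Lrfl
theorem f585980 : Led Lsl_bt (LP (LK LD1_c10 LD2_c30 LD3_c15)) = (LP (LK LD1_c9 LD2_c54 LD3_c21)) :=
  Lgr Lrot92 (Lpr_ct (f186885 IH) (Lpr_gt (f44898 IH) (Lpe (f44866 IH) (Lpr_bt (f47004 IH) (Lpe (K12.f186865 IH) (Lpr_ct (K14.f3727 IH) (Lpr_gt (K14.f3333 IH) (Lpe (K0.f3311 IH) (Lpr_bt (f33392 IH) (Lpr_gt (f585946 IH) (Lpn (LP (LK LD1_c9 LD2_c54 LD3_c21)))))))))))))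
theorem f585938 : Led Lsl_ft (LP (LK LD1_c9 LD2_c54 LD3_c21)) = (LP (LK LD1_c5 LD2_c1 LD3_c53)) :=
  Lre_f IH (LK LD1_c9 LD2_c54 LD3_c21) (LK LD1_c5 LD2_c1 LD3_c53) Lrfl Lrfl
theorem f233597 : Led Lsl_bt (LP (LK LD1_c5 LD2_c1 LD3_c53)) = (LP (LK LD1_c9 LD2_c54 LD3_c17)) :=
  Lre_b IH (LK LD1_c5 LD2_c1 LD3_c53) (LK LD1_c9 LD2_c54 LD3_c17) Lrfl Lrfl
theorem f585996 : Led Lsl_ff (LP (LK LD1_c10 LD2_c30 LD3_c15)) = (LP (LK LD1_c9 LD2_c54 LD3_c17)) :=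
  Lgr Lrot25 (Lpr_bt (f585980 IH) (Lpr_ft (f585938 IH) (Lpr_bt (f233597 IH) (Lpn (LP (LK LD1_c9 LD2_c54 LD3_c17))))))
theorem f586037 : Led Lsl_ft (LP (LK LD1_c10 LD2_c30 LD3_c15)) = (LP (LK LD1_c9 LD2_c54 LD3_c17)) :=
  Lgr Lrot48 (Lpr_ff (f585996 IH) (Lpn (LP (LK LD1_c9 LD2_c54 LD3_c17))))
theorem f288982 : Led Lsl_ct (LP (LK LD1_c5 LD2_c20 LD3_c7)) = (LP (LK LD1_c10 LD2_c30 LD3_c15)) :=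
  Lre_c IH (LK LD1_c5 LD2_c20 LD3_c7) (LK LD1_c10 LD2_c30 LD3_c15) Lrfl Lrfl
theorem f586044 : Led Lsl_ft (LP (LK LD1_c10 LD2_c30 LD3_c8)) = (LP (LK LD1_c5 LD2_c20 LD3_c7)) :=
  Lre_f IH (LK LD1_c10 LD2_c30 LD3_c8) (LK LD1_c5 LD2_c20 LD3_c7) Lrfl Lrfl
theorem f586045 : Led Lsl_cf (LP (LK LD1_c10 LD2_c30 LD3_c8)) = (LP (LK LD1_c9 LD2_c54 LD3_c17)) :=
  Lgr Lrot108 (Lpr_ft (f586044 IH) (Lpr_ct (f288982 IH) (Lpr_ft (f586037 IH) (Lpn (LP (LK LD1_c9 LD2_c54 LD3_c17))))))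
theorem f165401 : Led Lsl_bt (LP (LK LD1_c9 LD2_c54 LD3_c17)) = (LP (LK LD1_c5 LD2_c1 LD3_c53)) :=
  Lre_b IH (LK LD1_c9 LD2_c54 LD3_c17) (LK LD1_c5 LD2_c1 LD3_c53) Lrfl Lrfl
theorem f3622 : Led Lsl_bt (LP (LK LD1_c18 LD2_c3 LD3_c56)) = (LP (LK LD1_c9 LD2_c54 LD3_c15)) :=
  Lre_b IH (LK LD1_c18 LD2_c3 LD3_c56) (LK LD1_c9 LD2_c54 LD3_c15) Lrfl Lrfl
theorem f3661 : Led Lsl_bt (LP (LK LD1_c9 LD2_c54 LD3_c15)) = (LP (LK LD1_c18 LD2_c3 LD3_c56)) :=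
  Lre_b IH (LK LD1_c9 LD2_c54 LD3_c15) (LK LD1_c18 LD2_c3 LD3_c56) Lrfl Lrfl
theorem f163855 : Led Lsl_ct (LP (LK LD1_c18 LD2_c3 LD3_c56)) = (LP (LK LD1_c15 LD2_c12 LD3_c4)) :=
  Lgr Lrot83 (Lpe (f3661 IH) (Lpe (f163854 IH) (Lpr_bf (K8.f163850 IH) (Lpe (f34339 IH) (Lpe (K2.f33808 IH) (Lpn (LP (LK LD1_c15 LD2_c12 LD3_c4))))))))
theorem f34185 : Led Lsl_gt (LP (LK LD1_c15 LD2_c12 LD3_c4)) = (LP (LK LD1_c8 LD2_c4 LD3_c28)) :=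
  Lre_g IH (LK LD1_c15 LD2_c12 LD3_c4) (LK LD1_c8 LD2_c4 LD3_c28) Lrfl Lrfl
theorem f165361 : Led Lsl_ct (LP (LK LD1_c15 LD2_c12 LD3_c12)) = (LP (LK LD1_c8 LD2_c4 LD3_c28)) :=
  Lre_c IH (LK LD1_c15 LD2_c12 LD3_c12) (LK LD1_c8 LD2_c4 LD3_c28) Lrfl Lrfl
theorem f34579 : Led Lsl_gt (LP (LK LD1_c8 LD2_c4 LD3_c28)) = (LP (LK LD1_c4 LD2_c1 LD3_c54)) :=
  Lre_g IH (LK LD1_c8 LD2_c4 LD3_c28) (LK LD1_c4 LD2_c1 LD3_c54) Lrfl Lrfl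
theorem f184541 : Led Lsl_gt (LP (LK LD1_c9 LD2_c53 LD3_c23)) = (LP (LK LD1_c18 LD2_c5 LD3_c52)) :=
  Lre_g IH (LK LD1_c9 LD2_c53 LD3_c23) (LK LD1_c18 LD2_c5 LD3_c52) Lrfl Lrfl
theorem f248077 : Led Lsl_bt (LP (LK LD1_c15 LD2_c12 LD3_c12)) = (LP (LK LD1_c18 LD2_c5 LD3_c52)) :=
  Lgr Lrot92 (Lpr_ct (f165361 IH) (Lpr_gt (f34579 IH) (Lpe (K10.f165355 IH) (Lpr_bt (K10.f33849 IH) (Lpr_gt (K10.f33365 IH) (Lpe (K14.f180758 IH) (Lpr_gt (K14.f248072 IH) (Lpe (K9.f184532 IH) (Lpr_bt (f184529 IH) (Lpr_gt (f184541 IH) (Lpn (LP (LK LD1_c18 LD2_c5 LD3_c52)))))))))))))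
theorem f47178 : Led Lsl_at (LP (LK LD1_c5 LD2_c19 LD3_c45)) = (LP (LK LD1_c10 LD2_c29 LD3_c22)) :=
  Lre_a IH (LK LD1_c5 LD2_c19 LD3_c45) (LK LD1_c10 LD2_c29 LD3_c22) Lrfl Lrfl
theorem f184591 : Led Lsl_gt (LP (LK LD1_c18 LD2_c5 LD3_c52)) = (LP (LK LD1_c10 LD2_c29 LD3_c22)) :=
  Lgr Lrot46 (Lpe (f184541 IH) (Lpr_ft (f184583 IH) (Lpr_at (f47178 IH) (Lpn (LP (LK LD1_c10 LD2_c29 LD3_c22))))))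
theorem f44884 : Led Lsl_ct (LP (LK LD1_c10 LD2_c29 LD3_c22)) = (LP (LK LD1_c5 LD2_c20 LD3_c8)) :=
  Lre_c IH (LK LD1_c10 LD2_c29 LD3_c22) (LK LD1_c5 LD2_c20 LD3_c8) Lrfl Lrfl
theorem f586059 : Led Lsl_gf (LP (LK LD1_c10 LD2_c30 LD3_c8)) = (LP (LK LD1_c5 LD2_c20 LD3_c8)) :=
  Lgr Lrot129 (Lpr_cf (f586045 IH) (Lpr_bt (f165401 IH) (Lpr_gt (f164041 IH) (Lpe (f3622 IH) (Lpr_ct (f163855 IH) (Lpr_gt (f34185 IH) (Lpe (f165361 IH) (Lpr_bt (f248077 IH) (Lpr_gt (f184591 IH) (Lpr_ct (f44884 IH) (Lpn (LP (LK LD1_c5 LD2_c20 LD3_c8)))))))))))))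
theorem f46259 : Led Lsl_bt (LP (LK LD1_c8 LD2_c52 LD3_c48)) = (LP (LK LD1_c4 LD2_c27 LD3_c30)) :=
  Lre_b IH (LK LD1_c8 LD2_c52 LD3_c48) (LK LD1_c4 LD2_c27 LD3_c30) Lrfl Lrfl
theorem f47123 : Led Lsl_at (LP (LK LD1_c16 LD2_c35 LD3_c53)) = (LP (LK LD1_c8 LD2_c52 LD3_c48)) :=
  Lre_a IH (LK LD1_c16 LD2_c35 LD3_c53) (LK LD1_c8 LD2_c52 LD3_c48) Lrfl Lrfl
theorem f47256 : Led Lsl_at (LP (LK LD1_c8 LD2_c52 LD3_c25)) = (LP (LK LD1_c16 LD2_c35 LD3_c18)) :=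
  Lre_a IH (LK LD1_c8 LD2_c52 LD3_c25) (LK LD1_c16 LD2_c35 LD3_c18) Lrfl Lrfl
theorem f47257 : Led Lsl_bf (LP (LK LD1_c16 LD2_c35 LD3_c53)) = (LP (LK LD1_c16 LD2_c35 LD3_c18)) :=
  Lgr Lrot81 (Lpr_at (f47123 IH) (Lpr_bt (f46259 IH) (Lpr_at (K13.f47229 IH) (Lpr_bt (K14.f46185 IH) (Lpr_at (f47256 IH) (Lpn (LP (LK LD1_c16 LD2_c35 LD3_c18))))))))
theorem f44880 : Led Lsl_ft (LP (LK LD1_c16 LD2_c35 LD3_c53)) = (LP (LK LD1_c8 LD2_c52 LD3_c46)) :=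
  Lre_f IH (LK LD1_c16 LD2_c35 LD3_c53) (LK LD1_c8 LD2_c52 LD3_c46) Lrfl Lrfl
theorem f44251 : Led Lsl_ft (LP (LK LD1_c8 LD2_c52 LD3_c23)) = (LP (LK LD1_c16 LD2_c35 LD3_c18)) :=
  Lre_f IH (LK LD1_c8 LD2_c52 LD3_c23) (LK LD1_c16 LD2_c35 LD3_c18) Lrfl Lrfl
theorem f47309 : Led Lsl_bt (LP (LK LD1_c8 LD2_c52 LD3_c46)) = (LP (LK LD1_c8 LD2_c52 LD3_c23)) :=
  Lgr Lrot35 (Lpe (f44880 IH) (Lpr_bf (f47257 IH) (Lpe (f44251 IH) (Lpn (LP (LK LD1_c8 LD2_c52 LD3_c23))))))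
theorem f44798 : Led Lsl_dt (LP (LK LD1_c5 LD2_c20 LD3_c12)) = (LP (LK LD1_c8 LD2_c52 LD3_c52)) :=
  Lgr Lrot42 (Lpr_df (K14.f44780 IH) (Lpn (LP (LK LD1_c8 LD2_c52 LD3_c52))))
theorem f44833 : Led Lsl_bt (LP (LK LD1_c8 LD2_c52 LD3_c52)) = (LP (LK LD1_c16 LD2_c36 LD3_c4)) :=
  Lre_b IH (LK LD1_c8 LD2_c52 LD3_c52) (LK LD1_c16 LD2_c36 LD3_c4) Lrfl Lrfl
theorem f44834 : Led Lsl_df (LP (LK LD1_c10 LD2_c30 LD3_c19)) = (LP (LK LD1_c16 LD2_c36 LD3_c4)) :=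
  Lgr Lrot12 (Lpr_bt (f44832 IH) (Lpr_dt (f44798 IH) (Lpr_bt (f44833 IH) (Lpn (LP (LK LD1_c16 LD2_c36 LD3_c4))))))
theorem f44847 : Led Lsl_et (LP (LK LD1_c8 LD2_c52 LD3_c47)) = (LP (LK LD1_c16 LD2_c36 LD3_c4)) :=
  Lre_e IH (LK LD1_c8 LD2_c52 LD3_c47) (LK LD1_c16 LD2_c36 LD3_c4) Lrfl Lrfl
theorem f44848 : Led Lsl_dt (LP (LK LD1_c4 LD2_c27 LD3_c28)) = (LP (LK LD1_c8 LD2_c52 LD3_c47)) :=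
  Lre_d IH (LK LD1_c4 LD2_c27 LD3_c28) (LK LD1_c8 LD2_c52 LD3_c47) Lrfl Lrfl
theorem f44849 : Led Lsl_et (LP (LK LD1_c2 LD2_c36 LD3_c43)) = (LP (LK LD1_c4 LD2_c27 LD3_c28)) :=
  Lgr Lrot71 (Lpe (f44846 IH) (Lpe (f44845 IH) (Lpr_df (f44834 IH) (Lpe (f44847 IH) (Lpe (f44848 IH) (Lpn (LP (LK LD1_c4 LD2_c27 LD3_c28))))))))
theorem f44860 : Led Lsl_at (LP (LK LD1_c5 LD2_c20 LD3_c8)) = (LP (LK LD1_c2 LD2_c36 LD3_c43)) :=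
  Lre_a IH (LK LD1_c5 LD2_c20 LD3_c8) (LK LD1_c2 LD2_c36 LD3_c43) Lrfl Lrfl
theorem f44861 : Led Lsl_at (LP (LK LD1_c4 LD2_c27 LD3_c28)) = (LP (LK LD1_c8 LD2_c52 LD3_c46)) :=
  Lre_a IH (LK LD1_c4 LD2_c27 LD3_c28) (LK LD1_c8 LD2_c52 LD3_c46) Lrfl Lrfl
theorem f44862 : Led Lsl_ef (LP (LK LD1_c5 LD2_c20 LD3_c8)) = (LP (LK LD1_c8 LD2_c52 LD3_c46)) :=
  Lgr Lrot20 (Lpr_at (f44860 IH) (Lpr_et (f44849 IH) (Lpr_at (f44861 IH) (Lpn (LP (LK LD1_c8 LD2_c52 LD3_c46))))))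
theorem f44878 : Led Lsl_et (LP (LK LD1_c5 LD2_c20 LD3_c8)) = (LP (LK LD1_c8 LD2_c52 LD3_c46)) :=
  Lgr Lrot87 (Lpr_ef (f44862 IH) (Lpn (LP (LK LD1_c8 LD2_c52 LD3_c46))))
theorem f44195 : Led Lsl_at (LP (LK LD1_c4 LD2_c27 LD3_c18)) = (LP (LK LD1_c8 LD2_c52 LD3_c23)) :=
  Lre_a IH (LK LD1_c4 LD2_c27 LD3_c18) (LK LD1_c8 LD2_c52 LD3_c23) Lrfl Lrfl
theorem f44196 : Led Lsl_ef (LP (LK LD1_c5 LD2_c19 LD3_c36)) = (LP (LK LD1_c8 LD2_c52 LD3_c23)) :=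
  Lgr Lrot20 (Lpr_at (f44194 IH) (Lpr_et (K1.f44184 IH) (Lpr_at (f44195 IH) (Lpn (LP (LK LD1_c8 LD2_c52 LD3_c23))))))
theorem f47311 : Led Lsl_bf (LP (LK LD1_c5 LD2_c20 LD3_c8)) = (LP (LK LD1_c5 LD2_c19 LD3_c36)) :=
  Lgr Lrot96 (Lpr_et (f44878 IH) (Lpr_bt (f47309 IH) (Lpe (f44196 IH) (Lpn (LP (LK LD1_c5 LD2_c19 LD3_c36))))))
theorem f582798 : Led Lsl_cf (LP (LK LD1_c5 LD2_c19 LD3_c13)) = (LP (LK LD1_c5 LD2_c19 LD3_c36)) :=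
  Lgr Lrot108 (Lpe (K14.f47372 IH) (Lpr_ct (K14.f28258 IH) (Lpr_ft (f582794 IH) (Lpn (LP (LK LD1_c5 LD2_c19 LD3_c36))))))
theorem f582732 : Led Lsl_bt (LP (LK LD1_c18 LD2_c9 LD3_c31)) = (LP (LK LD1_c25 LD2_c0 LD3_c55)) :=
  Lgr Lrot127 (Lpr_bf (f582726 IH) (Lpn (LP (LK LD1_c25 LD2_c0 LD3_c55))))
theorem f212449 : Led Lsl_ct (LP (LK LD1_c10 LD2_c20 LD3_c48)) = (LP (LK LD1_c9 LD2_c40 LD3_c28)) :=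
  Lgr Lrot83 (Lpe (f212448 IH) (Lpr_cf (K12.f212445 IH) (Lpe (K12.f50835 IH) (Lpe (K14.f43454 IH) (Lpe (f43682 IH) (Lpn (LP (LK LD1_c9 LD2_c40 LD3_c28))))))))
theorem f582724 : Led Lsl_df (LP (LK LD1_c18 LD2_c9 LD3_c31)) = (LP (LK LD1_c9 LD2_c57 LD3_c25)) :=
  Lgr Lrot155 (Lpr_gt (f249428 IH) (Lpr_ct (f249432 IH) (Lpr_gt (f582719 IH) (Lpr_ct (f212449 IH) (Lpe (f544850 IH) (Lpe (f405312 IH) (Lpe (K38.f184512 IH) (Lpe (K37.f165831 IH) (Lpe (K38.f165834 IH) (Lpn (LP (LK LD1_c9 LD2_c57 LD3_c25))))))))))))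
theorem f184051 : Led Lsl_bt (LP (LK LD1_c18 LD2_c13 LD3_c10)) = (LP (LK LD1_c9 LD2_c57 LD3_c25)) :=
  Lre_b IH (LK LD1_c18 LD2_c13 LD3_c10) (LK LD1_c9 LD2_c57 LD3_c25) Lrfl Lrfl
theorem f582743 : Led Lsl_df (LP (LK LD1_c18 LD2_c13 LD3_c10)) = (LP (LK LD1_c25 LD2_c0 LD3_c55)) :=
  Lgr Lrot12 (Lpr_bt (f184051 IH) (Lpe (f582724 IH) (Lpr_bt (f582732 IH) (Lpn (LP (LK LD1_c25 LD2_c0 LD3_c55))))))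
theorem f582745 : Led Lsl_dt (LP (LK LD1_c18 LD2_c13 LD3_c10)) = (LP (LK LD1_c25 LD2_c0 LD3_c55)) :=
  Lgr Lrot42 (Lpr_df (f582743 IH) (Lpn (LP (LK LD1_c25 LD2_c0 LD3_c55))))
theorem f186620 : Led Lsl_bt (LP (LK LD1_c9 LD2_c57 LD3_c25)) = (LP (LK LD1_c18 LD2_c13 LD3_c10)) :=
  Lre_b IH (LK LD1_c9 LD2_c57 LD3_c25) (LK LD1_c18 LD2_c13 LD3_c10) Lrfl Lrfl
theorem f582747 : Led Lsl_df (LP (LK LD1_c9 LD2_c57 LD3_c25)) = (LP (LK LD1_c18 LD2_c9 LD3_c31)) :=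
  Lgr Lrot12 (Lpr_bt (f186620 IH) (Lpr_dt (f582745 IH) (Lpe (f582726 IH) (Lpn (LP (LK LD1_c18 LD2_c9 LD3_c31))))))
theorem f582749 : Led Lsl_dt (LP (LK LD1_c9 LD2_c57 LD3_c44)) = (LP (LK LD1_c9 LD2_c40 LD3_c28)) :=
  Lgr Lrot27 (Lpe (f405312 IH) (Lpe (K38.f184512 IH) (Lpe (K37.f165831 IH) (Lpe (K38.f165834 IH) (Lpr_df (f582747 IH) (Lpr_gt (f249428 IH) (Lpr_ct (f249432 IH) (Lpr_gt (f582719 IH) (Lpr_ct (f212449 IH) (Lpn (LP (LK LD1_c9 LD2_c40 LD3_c28))))))))))))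
theorem f582751 : Led Lsl_dt (LP (LK LD1_c27 LD2_c54 LD3_c15)) = (LP (LK LD1_c18 LD2_c13 LD3_c48)) :=
  Lre_d IH (LK LD1_c27 LD2_c54 LD3_c15) (LK LD1_c18 LD2_c13 LD3_c48) Lrfl Lrfl
theorem f44414 : Led Lsl_et (LP (LK LD1_c9 LD2_c40 LD3_c28)) = (LP (LK LD1_c17 LD2_c47 LD3_c49)) :=
  Lre_e IH (LK LD1_c9 LD2_c40 LD3_c28) (LK LD1_c17 LD2_c47 LD3_c49) Lrfl Lrfl
theorem f214524 : Led Lsl_dt (LP (LK LD1_c17 LD2_c47 LD3_c49)) = (LP (LK LD1_c27 LD2_c35 LD3_c1)) :=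
  Lre_d IH (LK LD1_c17 LD2_c47 LD3_c49) (LK LD1_c27 LD2_c35 LD3_c1) Lrfl Lrfl
theorem f582752 : Led Lsl_ef (LP (LK LD1_c27 LD2_c54 LD3_c15)) = (LP (LK LD1_c27 LD2_c35 LD3_c1)) :=
  Lgr Lrot73 (Lpr_dt (f582751 IH) (Lpr_et (f544852 IH) (Lpr_dt (f582749 IH) (Lpr_et (f44414 IH) (Lpr_dt (f214524 IH) (Lpn (LP (LK LD1_c27 LD2_c35 LD3_c1))))))))
theorem f582759 : Led Lsl_et (LP (LK LD1_c27 LD2_c54 LD3_c15)) = (LP (LK LD1_c27 LD2_c35 LD3_c1)) :=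
  Lgr Lrot87 (Lpr_ef (f582752 IH) (Lpn (LP (LK LD1_c27 LD2_c35 LD3_c1))))
theorem f43732 : Led Lsl_et (LP (LK LD1_c17 LD2_c47 LD3_c60)) = (LP (LK LD1_c27 LD2_c35 LD3_c11)) :=
  Lre_e IH (LK LD1_c17 LD2_c47 LD3_c60) (LK LD1_c27 LD2_c35 LD3_c11) Lrfl Lrfl
theorem f582761 : Led Lsl_bf (LP (LK LD1_c27 LD2_c54 LD3_c15)) = (LP (LK LD1_c27 LD2_c35 LD3_c11)) :=
  Lgr Lrot96 (Lpr_et (f582759 IH) (Lpr_bt (f43652 IH) (Lpr_et (f43732 IH) (Lpn (LP (LK LD1_c27 LD2_c35 LD3_c11))))))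
theorem f43590 : Led Lsl_dt (LP (LK LD1_c17 LD2_c47 LD3_c57)) = (LP (LK LD1_c27 LD2_c35 LD3_c11)) :=
  Lre_d IH (LK LD1_c17 LD2_c47 LD3_c57) (LK LD1_c27 LD2_c35 LD3_c11) Lrfl Lrfl
theorem f582764 : Led Lsl_bt (LP (LK LD1_c18 LD2_c13 LD3_c48)) = (LP (LK LD1_c17 LD2_c47 LD3_c57)) :=
  Lgr Lrot95 (Lpe (f582751 IH) (Lpr_bf (f582761 IH) (Lpe (f43590 IH) (Lpn (LP (LK LD1_c17 LD2_c47 LD3_c57))))))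
theorem f582766 : Led Lsl_ct (LP (LK LD1_c9 LD2_c57 LD3_c45)) = (LP (LK LD1_c18 LD2_c13 LD3_c48)) :=
  Lre_c IH (LK LD1_c9 LD2_c57 LD3_c45) (LK LD1_c18 LD2_c13 LD3_c48) Lrfl Lrfl
theorem f582767 : Led Lsl_bt (LP (LK LD1_c18 LD2_c13 LD3_c46)) = (LP (LK LD1_c9 LD2_c57 LD3_c45)) :=
  Lre_b IH (LK LD1_c18 LD2_c13 LD3_c46) (LK LD1_c9 LD2_c57 LD3_c45) Lrfl Lrfl
theorem f582768 : Led Lsl_ct (LP (LK LD1_c18 LD2_c15 LD3_c54)) = (LP (LK LD1_c18 LD2_c13 LD3_c46)) :=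
  Lre_c IH (LK LD1_c18 LD2_c15 LD3_c54) (LK LD1_c18 LD2_c13 LD3_c46) Lrfl Lrfl
theorem f43507 : Led Lsl_et (LP (LK LD1_c17 LD2_c47 LD3_c57)) = (LP (LK LD1_c9 LD2_c40 LD3_c33)) :=
  Lre_e IH (LK LD1_c17 LD2_c47 LD3_c57) (LK LD1_c9 LD2_c40 LD3_c33) Lrfl Lrfl
theorem f43508 : Led Lsl_et (LP (LK LD1_c9 LD2_c39 LD3_c33)) = (LP (LK LD1_c17 LD2_c45 LD3_c50)) :=
  Lre_e IH (LK LD1_c9 LD2_c39 LD3_c33) (LK LD1_c17 LD2_c45 LD3_c50) Lrfl Lrfl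
theorem f43509 : Led Lsl_cf (LP (LK LD1_c17 LD2_c47 LD3_c57)) = (LP (LK LD1_c17 LD2_c45 LD3_c50)) :=
  Lgr Lrot39 (Lpr_et (f43507 IH) (Lpr_ct (K9.f43502 IH) (Lpr_et (f43508 IH) (Lpn (LP (LK LD1_c17 LD2_c45 LD3_c50))))))
theorem f43755 : Led Lsl_ct (LP (LK LD1_c17 LD2_c47 LD3_c57)) = (LP (LK LD1_c17 LD2_c45 LD3_c50)) :=
  Lgr Lrot59 (Lpr_cf (f43509 IH) (Lpn (LP (LK LD1_c17 LD2_c45 LD3_c50))))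
theorem f582769 : Led Lsl_bf (LP (LK LD1_c18 LD2_c15 LD3_c54)) = (LP (LK LD1_c17 LD2_c45 LD3_c50)) :=
  Lgr Lrot90 (Lpr_ct (f582768 IH) (Lpr_bt (f582767 IH) (Lpr_ct (f582766 IH) (Lpr_bt (f582764 IH) (Lpr_ct (f43755 IH) (Lpn (LP (LK LD1_c17 LD2_c45 LD3_c50))))))))
theorem f405311 : Led Lsl_et (LP (LK LD1_c18 LD2_c15 LD3_c54)) = (LP (LK LD1_c9 LD2_c59 LD3_c24)) :=
  Lre_e IH (LK LD1_c18 LD2_c15 LD3_c54) (LK LD1_c9 LD2_c59 LD3_c24) Lrfl Lrfl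
theorem f582775 : Led Lsl_bt (LP (LK LD1_c9 LD2_c59 LD3_c24)) = (LP (LK LD1_c9 LD2_c39 LD3_c33)) :=
  Lgr Lrot119 (Lpe (f405311 IH) (Lpr_bf (f582769 IH) (Lpe (f43508 IH) (Lpn (LP (LK LD1_c9 LD2_c39 LD3_c33))))))
theorem f405346 : Led Lsl_gt (LP (LK LD1_c18 LD2_c7 LD3_c36)) = (LP (LK LD1_c9 LD2_c57 LD3_c43)) :=
  Lre_g IH (LK LD1_c18 LD2_c7 LD3_c36) (LK LD1_c9 LD2_c57 LD3_c43) Lrfl Lrfl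
theorem f405340 : Led Lsl_cf (LP (LK LD1_c18 LD2_c7 LD3_c36)) = (LP (LK LD1_c18 LD2_c35 LD3_c48)) :=
  Lgr Lrot11 (Lpr_ct (f405335 IH) (Lpn (LP (LK LD1_c18 LD2_c35 LD3_c48))))
theorem f586065 : Led Lsl_bf (LP (LK LD1_c10 LD2_c30 LD3_c8)) = (LP (LK LD1_c18 LD2_c35 LD3_c48)) :=
  Lgr Lrot34 (Lpr_gf (f586059 IH) (Lpr_bf (f47311 IH) (Lpe (f582798 IH) (Lpr_gf (K22.f257775 IH) (Lpe (K14.f248106 IH) (Lpe (K9.f183983 IH) (Lpe (f582775 IH) (Lpr_ct (f405306 IH) (Lpe (f405346 IH) (Lpr_cf (f405340 IH) (Lpn (LP (LK LD1_c18 LD2_c35 LD3_c48)))))))))))))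
theorem f288983 : Led Lsl_bt (LP (LK LD1_c5 LD2_c20 LD3_c7)) = (LP (LK LD1_c10 LD2_c30 LD3_c14)) :=
  Lre_b IH (LK LD1_c5 LD2_c20 LD3_c7) (LK LD1_c10 LD2_c30 LD3_c14) Lrfl Lrfl
theorem f586070 : Led Lsl_ft (LP (LK LD1_c10 LD2_c30 LD3_c14)) = (LP (LK LD1_c18 LD2_c35 LD3_c48)) :=
  Lgr Lrot75 (Lpe (f288983 IH) (Lpe (f586044 IH) (Lpr_bf (f586065 IH) (Lpn (LP (LK LD1_c18 LD2_c35 LD3_c48))))))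
theorem f267904 : Led Lsl_ft (LP (LK LD1_c2 LD2_c29 LD3_c32)) = (LP (LK LD1_c2 LD2_c32 LD3_c35)) :=
  Lgr Lrot75 (Lpe (f165882 IH) (Lpr_ff (K15.f267900 IH) (Lpe (f163773 IH) (Lpn (LP (LK LD1_c2 LD2_c32 LD3_c35))))))
theorem f165890 : Led Lsl_gt (LP (LK LD1_c2 LD2_c29 LD3_c32)) = (LP (LK LD1_c5 LD2_c4 LD3_c12)) :=
  Lre_g IH (LK LD1_c2 LD2_c29 LD3_c32) (LK LD1_c5 LD2_c4 LD3_c12) Lrfl Lrfl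
theorem f267984 : Led Lsl_at (LP (LK LD1_c2 LD2_c32 LD3_c35)) = (LP (LK LD1_c5 LD2_c11 LD3_c12)) :=
  Lre_a IH (LK LD1_c2 LD2_c32 LD3_c35) (LK LD1_c5 LD2_c11 LD3_c12) Lrfl Lrfl
theorem f412516 : Led Lsl_gt (LP (LK LD1_c5 LD2_c4 LD3_c12)) = (LP (LK LD1_c5 LD2_c11 LD3_c12)) :=
  Lgr Lrot46 (Lpe (f165890 IH) (Lpr_ft (f267904 IH) (Lpr_at (f267984 IH) (Lpn (LP (LK LD1_c5 LD2_c11 LD3_c12))))))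
theorem f166117 : Led Lsl_ct (LP (LK LD1_c9 LD2_c59 LD3_c16)) = (LP (LK LD1_c5 LD2_c4 LD3_c12)) :=
  Lre_c IH (LK LD1_c9 LD2_c59 LD3_c16) (LK LD1_c5 LD2_c4 LD3_c12) Lrfl Lrfl
theorem f267990 : Led Lsl_bf (LP (LK LD1_c10 LD2_c28 LD3_c29)) = (LP (LK LD1_c10 LD2_c12 LD3_c58)) :=
  Lgr Lrot24 (Lpr_bt (K15.f267986 IH) (Lpn (LP (LK LD1_c10 LD2_c12 LD3_c58))))
theorem f288937 : Led Lsl_at (LP (LK LD1_c10 LD2_c29 LD3_c44)) = (LP (LK LD1_c5 LD2_c19 LD3_c56)) :=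
  Lre_a IH (LK LD1_c10 LD2_c29 LD3_c44) (LK LD1_c5 LD2_c19 LD3_c56) Lrfl Lrfl
theorem f288938 : Led Lsl_ft (LP (LK LD1_c10 LD2_c28 LD3_c29)) = (LP (LK LD1_c10 LD2_c29 LD3_c44)) :=
  Lgr Lrot101 (Lpe (K15.f230631 IH) (Lpr_ff (K37.f288934 IH) (Lpe (f288937 IH) (Lpn (LP (LK LD1_c10 LD2_c29 LD3_c44))))))
theorem f257488 : Led Lsl_gt (LP (LK LD1_c10 LD2_c29 LD3_c43)) = (LP (LK LD1_c5 LD2_c19 LD3_c56)) :=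
  Lre_g IH (LK LD1_c10 LD2_c29 LD3_c43) (LK LD1_c5 LD2_c19 LD3_c56) Lrfl Lrfl
theorem f288979 : Led Lsl_gt (LP (LK LD1_c10 LD2_c28 LD3_c29)) = (LP (LK LD1_c10 LD2_c29 LD3_c43)) :=
  Lgr Lrot5 (Lpr_ft (f288938 IH) (Lpr_at (f288937 IH) (Lpe (f257488 IH) (Lpn (LP (LK LD1_c10 LD2_c29 LD3_c43))))))
theorem f257489 : Led Lsl_bt (LP (LK LD1_c19 LD2_c1 LD3_c13)) = (LP (LK LD1_c10 LD2_c29 LD3_c43)) :=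
  Lre_b IH (LK LD1_c19 LD2_c1 LD3_c13) (LK LD1_c10 LD2_c29 LD3_c43) Lrfl Lrfl
theorem f288981 : Led Lsl_ct (LP (LK LD1_c19 LD2_c1 LD3_c13)) = (LP (LK LD1_c19 LD2_c1 LD3_c58)) :=
  Lre_c IH (LK LD1_c19 LD2_c1 LD3_c13) (LK LD1_c19 LD2_c1 LD3_c58) Lrfl Lrfl
theorem f186886 : Led Lsl_gt (LP (LK LD1_c19 LD2_c1 LD3_c58)) = (LP (LK LD1_c10 LD2_c30 LD3_c15)) :=
  Lre_g IH (LK LD1_c19 LD2_c1 LD3_c58) (LK LD1_c10 LD2_c30 LD3_c15) Lrfl Lrfl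
theorem f412521 : Led Lsl_gf (LP (LK LD1_c9 LD2_c59 LD3_c16)) = (LP (LK LD1_c10 LD2_c30 LD3_c14)) :=
  Lgr Lrot181 (Lpr_ct (f166117 IH) (Lpr_gt (f412516 IH) (Lpe (K15.f267985 IH) (Lpe (f267990 IH) (Lpr_gt (f288979 IH) (Lpe (f257489 IH) (Lpr_ct (f288981 IH) (Lpr_gt (f186886 IH) (Lpe (f288982 IH) (Lpr_bt (f288983 IH) (Lpn (LP (LK LD1_c10 LD2_c30 LD3_c14)))))))))))))
theorem f166085 : Led Lsl_gt (LP (LK LD1_c9 LD2_c59 LD3_c16)) = (LP (LK LD1_c18 LD2_c15 LD3_c41)) :=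
  Lre_g IH (LK LD1_c9 LD2_c59 LD3_c16) (LK LD1_c18 LD2_c15 LD3_c41) Lrfl Lrfl
theorem f586076 : Led Lsl_af (LP (LK LD1_c18 LD2_c15 LD3_c41)) = (LP (LK LD1_c18 LD2_c35 LD3_c48)) :=
  Lgr Lrot31 (Lpe (f166085 IH) (Lpr_gf (f412521 IH) (Lpr_ft (f586070 IH) (Lpn (LP (LK LD1_c18 LD2_c35 LD3_c48))))))
theorem f586084 : Led Lsl_et (LP (LK LD1_c18 LD2_c15 LD3_c41)) = (LP (LK LD1_c27 LD2_c55 LD3_c41)) :=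
  Lre_e IH (LK LD1_c18 LD2_c15 LD3_c41) (LK LD1_c27 LD2_c55 LD3_c41) Lrfl Lrfl
theorem f405357 : Led Lsl_et (LP (LK LD1_c28 LD2_c9 LD3_c39)) = (LP (LK LD1_c18 LD2_c35 LD3_c48)) :=
  Lre_e IH (LK LD1_c28 LD2_c9 LD3_c39) (LK LD1_c18 LD2_c35 LD3_c48) Lrfl Lrfl
theorem f586085 : Led Lsl_at (LP (LK LD1_c27 LD2_c55 LD3_c41)) = (LP (LK LD1_c28 LD2_c9 LD3_c39)) :=
  Lgr Lrot80 (Lpe (f586084 IH) (Lpr_af (f586076 IH) (Lpe (f405357 IH) (Lpn (LP (LK LD1_c28 LD2_c9 LD3_c39))))))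
theorem f405342 : Led Lsl_et (LP (LK LD1_c27 LD2_c48 LD3_c8)) = (LP (LK LD1_c18 LD2_c7 LD3_c36)) :=
  Lre_e IH (LK LD1_c27 LD2_c48 LD3_c8) (LK LD1_c18 LD2_c7 LD3_c36) Lrfl Lrfl
theorem f405343 : Led Lsl_et (LP (LK LD1_c18 LD2_c35 LD3_c48)) = (LP (LK LD1_c28 LD2_c9 LD3_c39)) :=
  Lre_e IH (LK LD1_c18 LD2_c35 LD3_c48) (LK LD1_c28 LD2_c9 LD3_c39) Lrfl Lrfl
theorem f405344 : Led Lsl_cf (LP (LK LD1_c27 LD2_c48 LD3_c8)) = (LP (LK LD1_c28 LD2_c9 LD3_c39)) :=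
  Lgr Lrot39 (Lpr_et (f405342 IH) (Lpr_ct (f405335 IH) (Lpr_et (f405343 IH) (Lpn (LP (LK LD1_c28 LD2_c9 LD3_c39))))))
theorem f586089 : Led Lsl_cf (LP (LK LD1_c27 LD2_c55 LD3_c41)) = (LP (LK LD1_c18 LD2_c56 LD3_c44)) :=
  Lgr Lrot1 (Lpr_at (f586085 IH) (Lpe (f405344 IH) (Lpe (f585839 IH) (Lpn (LP (LK LD1_c18 LD2_c56 LD3_c44))))))
theorem f586092 : Led Lsl_ct (LP (LK LD1_c27 LD2_c55 LD3_c41)) = (LP (LK LD1_c18 LD2_c56 LD3_c44)) :=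
  Lgr Lrot59 (Lpr_cf (f586089 IH) (Lpn (LP (LK LD1_c18 LD2_c56 LD3_c44))))
theorem f586096 : Led Lsl_cf (LP (LK LD1_c18 LD2_c15 LD3_c41)) = (LP (LK LD1_c10 LD2_c26 LD3_c53)) :=
  Lgr Lrot39 (Lpr_et (f586084 IH) (Lpr_ct (f586092 IH) (Lpr_et (f585838 IH) (Lpn (LP (LK LD1_c10 LD2_c26 LD3_c53))))))
theorem f166084 : Led Lsl_ct (LP (LK LD1_c5 LD2_c4 LD3_c12)) = (LP (LK LD1_c9 LD2_c59 LD3_c16)) :=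
  Lre_c IH (LK LD1_c5 LD2_c4 LD3_c12) (LK LD1_c9 LD2_c59 LD3_c16) Lrfl Lrfl
theorem f32581 : Led Lsl_bt (LP (LK LD1_c1 LD2_c15 LD3_c1)) = (LP (LK LD1_c2 LD2_c36 LD3_c2)) :=
  Lre_b IH (LK LD1_c1 LD2_c15 LD3_c1) (LK LD1_c2 LD2_c36 LD3_c2) Lrfl Lrfl
theorem f586102 : Led Lsl_bt (LP (LK LD1_c10 LD2_c26 LD3_c53)) = (LP (LK LD1_c5 LD2_c18 LD3_c39)) :=
  Lre_b IH (LK LD1_c10 LD2_c26 LD3_c53) (LK LD1_c5 LD2_c18 LD3_c39) Lrfl Lrfl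
theorem f586103 : Led Lsl_gf (LP (LK LD1_c2 LD2_c36 LD3_c2)) = (LP (LK LD1_c5 LD2_c18 LD3_c39)) :=
  Lgr Lrot124 (Lpe (f32581 IH) (Lpr_ct (K10.f32240 IH) (Lpr_gt (K9.f32853 IH) (Lpr_cf (K9.f165885 IH) (Lpr_bt (f165882 IH) (Lpr_gt (f165890 IH) (Lpr_ct (f166084 IH) (Lpr_gt (f166085 IH) (Lpr_cf (f586096 IH) (Lpr_bt (f586102 IH) (Lpn (LP (LK LD1_c5 LD2_c18 LD3_c39)))))))))))))
theorem f165914 : Led Lsl_bt (LP (LK LD1_c5 LD2_c18 LD3_c11)) = (LP (LK LD1_c2 LD2_c35 LD3_c48)) :=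
  Lre_b IH (LK LD1_c5 LD2_c18 LD3_c11) (LK LD1_c2 LD2_c35 LD3_c48) Lrfl Lrfl
theorem f49975 : Led Lsl_gt (LP (LK LD1_c8 LD2_c15 LD3_c52)) = (LP (LK LD1_c15 LD2_c32 LD3_c12)) :=
  Lre_g IH (LK LD1_c8 LD2_c15 LD3_c52) (LK LD1_c15 LD2_c32 LD3_c12) Lrfl Lrfl
theorem f586098 : Led Lsl_ct (LP (LK LD1_c10 LD2_c26 LD3_c54)) = (LP (LK LD1_c5 LD2_c18 LD3_c39)) :=
  Lre_c IH (LK LD1_c10 LD2_c26 LD3_c54) (LK LD1_c5 LD2_c18 LD3_c39) Lrfl Lrfl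
theorem f586114 : Led Lsl_bf (LP (LK LD1_c15 LD2_c32 LD3_c12)) = (LP (LK LD1_c10 LD2_c26 LD3_c54)) :=
  Lgr Lrot34 (Lpe (f49975 IH) (Lpe (K13.f49937 IH) (Lpr_ct (K9.f49114 IH) (Lpe (K10.f49154 IH) (Lpe (K10.f184180 IH) (Lpe (K10.f32814 IH) (Lpe (f165914 IH) (Lpr_ct (K2.f71579 IH) (Lpr_gf (f586103 IH) (Lpe (f586098 IH) (Lpn (LP (LK LD1_c10 LD2_c26 LD3_c54)))))))))))))
theorem f586124 : Led Lsl_ft (LP (LK LD1_c5 LD2_c18 LD3_c46)) = (LP (LK LD1_c10 LD2_c26 LD3_c54)) :=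
  Lre_f IH (LK LD1_c5 LD2_c18 LD3_c46) (LK LD1_c10 LD2_c26 LD3_c54) Lrfl Lrfl
theorem f215125 : Led Lsl_bt (LP (LK LD1_c10 LD2_c27 LD3_c16)) = (LP (LK LD1_c5 LD2_c18 LD3_c46)) :=
  Lre_b IH (LK LD1_c10 LD2_c27 LD3_c16) (LK LD1_c5 LD2_c18 LD3_c46) Lrfl Lrfl
theorem f586125 : Led Lsl_ft (LP (LK LD1_c15 LD2_c32 LD3_c12)) = (LP (LK LD1_c10 LD2_c27 LD3_c16)) :=
  Lgr Lrot75 (Lpr_bf (f586114 IH) (Lpe (f586124 IH) (Lpe (f215125 IH) (Lpn (LP (LK LD1_c10 LD2_c27 LD3_c16))))))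
theorem f50013 : Led Lsl_gt (LP (LK LD1_c15 LD2_c32 LD3_c12)) = (LP (LK LD1_c25 LD2_c25 LD3_c34)) :=
  Lre_g IH (LK LD1_c15 LD2_c32 LD3_c12) (LK LD1_c25 LD2_c25 LD3_c34) Lrfl Lrfl
theorem f50012 : Led Lsl_gt (LP (LK LD1_c25 LD2_c25 LD3_c34)) = (LP (LK LD1_c15 LD2_c32 LD3_c13)) :=
  Lre_g IH (LK LD1_c25 LD2_c25 LD3_c34) (LK LD1_c15 LD2_c32 LD3_c13) Lrfl Lrfl
theorem f586132 : Led Lsl_af (LP (LK LD1_c15 LD2_c32 LD3_c13)) = (LP (LK LD1_c10 LD2_c27 LD3_c16)) :=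
  Lgr Lrot31 (Lpe (f50012 IH) (Lpe (f50013 IH) (Lpr_ft (f586125 IH) (Lpn (LP (LK LD1_c10 LD2_c27 LD3_c16))))))
theorem f586134 : Led Lsl_at (LP (LK LD1_c15 LD2_c32 LD3_c13)) = (LP (LK LD1_c10 LD2_c27 LD3_c16)) :=
  Lgr Lrot100 (Lpr_af (f586132 IH) (Lpn (LP (LK LD1_c10 LD2_c27 LD3_c16))))
theorem f44893 : Led Lsl_gt (LP (LK LD1_c2 LD2_c36 LD3_c43)) = (LP (LK LD1_c5 LD2_c20 LD3_c6)) :=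
  Lre_g IH (LK LD1_c2 LD2_c36 LD3_c43) (LK LD1_c5 LD2_c20 LD3_c6) Lrfl Lrfl
theorem f249531 : Led Lsl_bt (LP (LK LD1_c10 LD2_c30 LD3_c9)) = (LP (LK LD1_c5 LD2_c20 LD3_c6)) :=
  Lre_b IH (LK LD1_c10 LD2_c30 LD3_c9) (LK LD1_c5 LD2_c20 LD3_c6) Lrfl Lrfl
theorem f249532 : Led Lsl_ct (LP (LK LD1_c10 LD2_c30 LD3_c9)) = (LP (LK LD1_c19 LD2_c1 LD3_c55)) :=
  Lre_c IH (LK LD1_c10 LD2_c30 LD3_c9) (LK LD1_c19 LD2_c1 LD3_c55) Lrfl Lrfl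
theorem f185506 : Led Lsl_bt (LP (LK LD1_c10 LD2_c26 LD3_c25)) = (LP (LK LD1_c5 LD2_c18 LD3_c20)) :=
  Lre_b IH (LK LD1_c10 LD2_c26 LD3_c25) (LK LD1_c5 LD2_c18 LD3_c20) Lrfl Lrfl
theorem f50016 : Led Lsl_bt (LP (LK LD1_c15 LD2_c32 LD3_c16)) = (LP (LK LD1_c8 LD2_c15 LD3_c54)) :=
  Lre_b IH (LK LD1_c15 LD2_c32 LD3_c16) (LK LD1_c8 LD2_c15 LD3_c54) Lrfl Lrfl
theorem f191569 : Led Lsl_cf (LP (LK LD1_c15 LD2_c32 LD3_c16)) = (LP (LK LD1_c10 LD2_c26 LD3_c25)) :=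
  Lgr Lrot97 (Lpr_bt (f50016 IH) (Lpr_ct (K9.f49792 IH) (Lpe (K10.f50029 IH) (Lpr_ct (K12.f191564 IH) (Lpr_bt (f191568 IH) (Lpn (LP (LK LD1_c10 LD2_c26 LD3_c25))))))))
theorem f249533 : Led Lsl_gt (LP (LK LD1_c19 LD2_c1 LD3_c55)) = (LP (LK LD1_c15 LD2_c32 LD3_c16)) :=
  Lgr Lrot65 (Lpe (f249532 IH) (Lpr_bt (f249531 IH) (Lpe (f44893 IH) (Lpe (f44864 IH) (Lpr_ct (K9.f28256 IH) (Lpe (K14.f28269 IH) (Lpe (K14.f46336 IH) (Lpr_gf (K15.f249103 IH) (Lpe (f185506 IH) (Lpe (f191569 IH) (Lpn (LP (LK LD1_c15 LD2_c32 LD3_c16)))))))))))))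
theorem f586138 : Led Lsl_ff (LP (LK LD1_c15 LD2_c32 LD3_c13)) = (LP (LK LD1_c19 LD2_c1 LD3_c55)) :=
  Lgr Lrot52 (Lpr_at (f586134 IH) (Lpe (K13.f214608 IH) (Lpe (f249533 IH) (Lpn (LP (LK LD1_c19 LD2_c1 LD3_c55))))))
theorem f586144 : Led Lsl_ft (LP (LK LD1_c15 LD2_c32 LD3_c13)) = (LP (LK LD1_c19 LD2_c1 LD3_c55)) :=
  Lgr Lrot48 (Lpr_ff (f586138 IH) (Lpn (LP (LK LD1_c19 LD2_c1 LD3_c55))))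
theorem f249537 : Led Lsl_ct (LP (LK LD1_c19 LD2_c1 LD3_c55)) = (LP (LK LD1_c10 LD2_c30 LD3_c9)) :=
  Lre_c IH (LK LD1_c19 LD2_c1 LD3_c55) (LK LD1_c10 LD2_c30 LD3_c9) Lrfl Lrfl
theorem f585258 : Led Lsl_ft (LP (LK LD1_c10 LD2_c30 LD3_c9)) = (LP (LK LD1_c19 LD2_c1 LD3_c57)) :=
  Lre_f IH (LK LD1_c10 LD2_c30 LD3_c9) (LK LD1_c19 LD2_c1 LD3_c57) Lrfl Lrfl
theorem f586148 : Led Lsl_cf (LP (LK LD1_c15 LD2_c32 LD3_c13)) = (LP (LK LD1_c19 LD2_c1 LD3_c57)) :=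
  Lgr Lrot108 (Lpr_ft (f586144 IH) (Lpr_ct (f249537 IH) (Lpr_ft (f585258 IH) (Lpn (LP (LK LD1_c19 LD2_c1 LD3_c57))))))
theorem f49974 : Led Lsl_gt (LP (LK LD1_c15 LD2_c32 LD3_c13)) = (LP (LK LD1_c8 LD2_c15 LD3_c52)) :=
  Lre_g IH (LK LD1_c15 LD2_c32 LD3_c13) (LK LD1_c8 LD2_c15 LD3_c52) Lrfl Lrfl
theorem f49951 : Led Lsl_dt (LP (LK LD1_c8 LD2_c15 LD3_c52)) = (LP (LK LD1_c15 LD2_c32 LD3_c15)) :=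
  Lre_d IH (LK LD1_c8 LD2_c15 LD3_c52) (LK LD1_c15 LD2_c32 LD3_c15) Lrfl Lrfl
theorem f49585 : Led Lsl_gt (LP (LK LD1_c15 LD2_c32 LD3_c15)) = (LP (LK LD1_c25 LD2_c25 LD3_c37)) :=
  Lre_g IH (LK LD1_c15 LD2_c32 LD3_c15) (LK LD1_c25 LD2_c25 LD3_c37) Lrfl Lrfl
theorem f166058 : Led Lsl_dt (LP (LK LD1_c9 LD2_c59 LD3_c25)) = (LP (LK LD1_c5 LD2_c4 LD3_c15)) :=
  Lre_d IH (LK LD1_c9 LD2_c59 LD3_c25) (LK LD1_c5 LD2_c4 LD3_c15) Lrfl Lrfl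
theorem f49996 : Led Lsl_at (LP (LK LD1_c25 LD2_c25 LD3_c8)) = (LP (LK LD1_c15 LD2_c31 LD3_c55)) :=
  Lre_a IH (LK LD1_c25 LD2_c25 LD3_c8) (LK LD1_c15 LD2_c31 LD3_c55) Lrfl Lrfl
theorem f49998 : Led Lsl_ff (LP (LK LD1_c25 LD2_c25 LD3_c8)) = (LP (LK LD1_c25 LD2_c25 LD3_c36)) :=
  Lgr Lrot30 (Lpr_at (f49996 IH) (Lpr_ft (f49991 IH) (Lpr_at (f49997 IH) (Lpn (LP (LK LD1_c25 LD2_c25 LD3_c36))))))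
theorem f49957 : Led Lsl_dt (LP (LK LD1_c15 LD2_c32 LD3_c14)) = (LP (LK LD1_c25 LD2_c25 LD3_c36)) :=
  Lre_d IH (LK LD1_c15 LD2_c32 LD3_c14) (LK LD1_c25 LD2_c25 LD3_c36) Lrfl Lrfl
theorem f50004 : Led Lsl_dt (LP (LK LD1_c25 LD2_c25 LD3_c8)) = (LP (LK LD1_c25 LD2_c25 LD3_c34)) :=
  Lgr Lrot60 (Lpr_ff (f49998 IH) (Lpe (f49957 IH) (Lpe (f49965 IH) (Lpn (LP (LK LD1_c25 LD2_c25 LD3_c34))))))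
theorem f49986 : Led Lsl_at (LP (LK LD1_c15 LD2_c31 LD3_c55)) = (LP (LK LD1_c25 LD2_c25 LD3_c8)) :=
  Lre_a IH (LK LD1_c15 LD2_c31 LD3_c55) (LK LD1_c25 LD2_c25 LD3_c8) Lrfl Lrfl
theorem f49993 : Led Lsl_gf (LP (LK LD1_c25 LD2_c25 LD3_c8)) = (LP (LK LD1_c25 LD2_c25 LD3_c37)) :=
  Lgr Lrot76 (Lpe (f49986 IH) (Lpr_ff (f49982 IH) (Lpr_gt (f49585 IH) (Lpn (LP (LK LD1_c25 LD2_c25 LD3_c37))))))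
theorem f188416 : Led Lsl_gt (LP (LK LD1_c10 LD2_c24 LD3_c40)) = (LP (LK LD1_c18 LD2_c53 LD3_c16)) :=
  Lre_g IH (LK LD1_c10 LD2_c24 LD3_c40) (LK LD1_c18 LD2_c53 LD3_c16) Lrfl Lrfl
theorem f584754 : Led Lsl_df (LP (LK LD1_c25 LD2_c25 LD3_c37)) = (LP (LK LD1_c18 LD2_c53 LD3_c16)) :=
  Lgr Lrot153 (Lpe (f49993 IH) (Lpr_dt (f50004 IH) (Lpr_cf (f583594 IH) (Lpe (f166000 IH) (Lpe (K37.f165411 IH) (Lpe (f166058 IH) (Lpr_gf (f584750 IH) (Lpr_cf (f377982 IH) (Lpr_gt (f188416 IH) (Lpn (LP (LK LD1_c18 LD2_c53 LD3_c16))))))))))))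
theorem f584875 : Led Lsl_dt (LP (LK LD1_c25 LD2_c25 LD3_c37)) = (LP (LK LD1_c18 LD2_c53 LD3_c16)) :=
  Lgr Lrot42 (Lpr_df (f584754 IH) (Lpn (LP (LK LD1_c18 LD2_c53 LD3_c16))))
theorem f585841 : Led Lsl_at (LP (LK LD1_c10 LD2_c27 LD3_c12)) = (LP (LK LD1_c5 LD2_c18 LD3_c45)) :=
  Lre_a IH (LK LD1_c10 LD2_c27 LD3_c12) (LK LD1_c5 LD2_c18 LD3_c45) Lrfl Lrfl
theorem f585842 : Led Lsl_ff (LP (LK LD1_c10 LD2_c27 LD3_c12)) = (LP (LK LD1_c18 LD2_c7 LD3_c36)) :=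
  Lgr Lrot30 (Lpr_at (f585841 IH) (Lpr_ft (f585828 IH) (Lpr_at (f585829 IH) (Lpn (LP (LK LD1_c18 LD2_c7 LD3_c36))))))
theorem f585849 : Led Lsl_gf (LP (LK LD1_c5 LD2_c18 LD3_c45)) = (LP (LK LD1_c9 LD2_c57 LD3_c43)) :=
  Lgr Lrot76 (Lpe (f585841 IH) (Lpr_ff (f585842 IH) (Lpr_gt (f405346 IH) (Lpn (LP (LK LD1_c9 LD2_c57 LD3_c43))))))
theorem f185250 : Led Lsl_dt (LP (LK LD1_c10 LD2_c27 LD3_c13)) = (LP (LK LD1_c18 LD2_c57 LD3_c7)) :=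
  Lre_d IH (LK LD1_c10 LD2_c27 LD3_c13) (LK LD1_c18 LD2_c57 LD3_c7) Lrfl Lrfl
theorem f166003 : Led Lsl_at (LP (LK LD1_c18 LD2_c15 LD3_c47)) = (LP (LK LD1_c9 LD2_c59 LD3_c25)) :=
  Lre_a IH (LK LD1_c18 LD2_c15 LD3_c47) (LK LD1_c9 LD2_c59 LD3_c25) Lrfl Lrfl
theorem f377986 : Led Lsl_gt (LP (LK LD1_c18 LD2_c21 LD3_c45)) = (LP (LK LD1_c10 LD2_c3 LD3_c13)) :=
  Lre_g IH (LK LD1_c18 LD2_c21 LD3_c45) (LK LD1_c10 LD2_c3 LD3_c13) Lrfl Lrfl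
theorem f584752 : Led Lsl_ff (LP (LK LD1_c18 LD2_c15 LD3_c47)) = (LP (LK LD1_c18 LD2_c21 LD3_c45)) :=
  Lgr Lrot52 (Lpr_at (f166003 IH) (Lpr_gf (f584750 IH) (Lpe (f377986 IH) (Lpn (LP (LK LD1_c18 LD2_c21 LD3_c45))))))
theorem f584889 : Led Lsl_ft (LP (LK LD1_c18 LD2_c15 LD3_c47)) = (LP (LK LD1_c18 LD2_c21 LD3_c45)) :=
  Lgr Lrot48 (Lpr_ff (f584752 IH) (Lpn (LP (LK LD1_c18 LD2_c21 LD3_c45))))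
theorem f307575 : Led Lsl_dt (LP (LK LD1_c9 LD2_c59 LD3_c21)) = (LP (LK LD1_c18 LD2_c15 LD3_c47)) :=
  Lre_d IH (LK LD1_c9 LD2_c59 LD3_c21) (LK LD1_c18 LD2_c15 LD3_c47) Lrfl Lrfl
theorem f584897 : Led Lsl_df (LP (LK LD1_c10 LD2_c12 LD3_c58)) = (LP (LK LD1_c18 LD2_c21 LD3_c45)) :=
  Lgr Lrot78 (Lpr_ft (K38.f307594 IH) (Lpr_dt (f307575 IH) (Lpr_ft (f584889 IH) (Lpn (LP (LK LD1_c18 LD2_c21 LD3_c45))))))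
theorem f251554 : Led Lsl_cf (LP (LK LD1_c10 LD2_c24 LD3_c40)) = (LP (LK LD1_c10 LD2_c3 LD3_c13)) :=
  Lgr Lrot97 (Lpr_bt (f188291 IH) (Lpe (K15.f188404 IH) (Lpe (K14.f240137 IH) (Lpr_ct (K14.f251449 IH) (Lpr_bt (f251553 IH) (Lpn (LP (LK LD1_c10 LD2_c3 LD3_c13))))))))
theorem f585851 : Led Lsl_cf (LP (LK LD1_c18 LD2_c57 LD3_c7)) = (LP (LK LD1_c18 LD2_c53 LD3_c16)) :=
  Lgr Lrot99 (Lpe (f185250 IH) (Lpe (f32704 IH) (Lpr_gf (f585849 IH) (Lpe (f405306 IH) (Lpe (K38.f405304 IH) (Lpr_df (f584897 IH) (Lpr_gt (f377986 IH) (Lpe (f251554 IH) (Lpr_gt (f188416 IH) (Lpn (LP (LK LD1_c18 LD2_c53 LD3_c16))))))))))))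
theorem f185251 : Led Lsl_dt (LP (LK LD1_c18 LD2_c35 LD3_c50)) = (LP (LK LD1_c10 LD2_c12 LD3_c52)) :=
  Lre_d IH (LK LD1_c18 LD2_c35 LD3_c50) (LK LD1_c10 LD2_c12 LD3_c52) Lrfl Lrfl
theorem f586154 : Led Lsl_gf (LP (LK LD1_c18 LD2_c35 LD3_c50)) = (LP (LK LD1_c19 LD2_c1 LD3_c57)) :=
  Lgr Lrot144 (Lpr_dt (f185251 IH) (Lpr_gt (f185197 IH) (Lpr_dt (f185250 IH) (Lpr_cf (f585851 IH) (Lpe (f584875 IH) (Lpe (f49585 IH) (Lpe (f49951 IH) (Lpe (f49974 IH) (Lpr_cf (f586148 IH) (Lpn (LP (LK LD1_c19 LD2_c1 LD3_c57))))))))))))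
theorem f300587 : Led Lsl_dt (LP (LK LD1_c10 LD2_c3 LD3_c20)) = (LP (LK LD1_c18 LD2_c21 LD3_c52)) :=
  Lre_d IH (LK LD1_c10 LD2_c3 LD3_c20) (LK LD1_c18 LD2_c21 LD3_c52) Lrfl Lrfl
theorem f185583 : Led Lsl_gt (LP (LK LD1_c2 LD2_c32 LD3_c58)) = (LP (LK LD1_c5 LD2_c12 LD3_c16)) :=
  Lre_g IH (LK LD1_c2 LD2_c32 LD3_c58) (LK LD1_c5 LD2_c12 LD3_c16) Lrfl Lrfl
theorem f169662 : Led Lsl_at (LP (LK LD1_c2 LD2_c30 LD3_c25)) = (LP (LK LD1_c5 LD2_c6 LD3_c19)) :=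
  Lre_a IH (LK LD1_c2 LD2_c30 LD3_c25) (LK LD1_c5 LD2_c6 LD3_c19) Lrfl Lrfl
theorem f300637 : Led Lsl_gt (LP (LK LD1_c5 LD2_c12 LD3_c16)) = (LP (LK LD1_c5 LD2_c6 LD3_c19)) :=
  Lgr Lrot46 (Lpe (f185583 IH) (Lpr_ft (K18.f300617 IH) (Lpr_at (f169662 IH) (Lpn (LP (LK LD1_c5 LD2_c6 LD3_c19))))))
theorem f300641 : Led Lsl_ct (LP (LK LD1_c10 LD2_c15 LD3_c11)) = (LP (LK LD1_c5 LD2_c12 LD3_c16)) :=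
  Lre_c IH (LK LD1_c10 LD2_c15 LD3_c11) (LK LD1_c5 LD2_c12 LD3_c16) Lrfl Lrfl
theorem f300642 : Led Lsl_gt (LP (LK LD1_c18 LD2_c39 LD3_c13)) = (LP (LK LD1_c10 LD2_c15 LD3_c11)) :=
  Lre_g IH (LK LD1_c18 LD2_c39 LD3_c13) (LK LD1_c10 LD2_c15 LD3_c11) Lrfl Lrfl
theorem f586167 : Led Lsl_df (LP (LK LD1_c18 LD2_c39 LD3_c13)) = (LP (LK LD1_c19 LD2_c1 LD3_c57)) :=
  Lgr Lrot155 (Lpr_gt (f300642 IH) (Lpr_ct (f300641 IH) (Lpr_gt (f300637 IH) (Lpr_ct (K18.f300577 IH) (Lpr_dt (f300587 IH) (Lpr_cf (f582675 IH) (Lpr_gf (f197111 IH) (Lpe (f584295 IH) (Lpr_gf (f586154 IH) (Lpn (LP (LK LD1_c19 LD2_c1 LD3_c57))))))))))))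
theorem f585281 : Led Lsl_ft (LP (LK LD1_c19 LD2_c1 LD3_c57)) = (LP (LK LD1_c10 LD2_c30 LD3_c9)) :=
  Lre_f IH (LK LD1_c19 LD2_c1 LD3_c57) (LK LD1_c10 LD2_c30 LD3_c9) Lrfl Lrfl
theorem f586142 : Led Lsl_ct (LP (LK LD1_c15 LD2_c32 LD3_c13)) = (LP (LK LD1_c19 LD2_c1 LD3_c57)) :=
  Lgr Lrot40 (Lpr_ff (f586138 IH) (Lpe (f249532 IH) (Lpe (f585281 IH) (Lpn (LP (LK LD1_c19 LD2_c1 LD3_c57))))))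
theorem f583596 : Led Lsl_ff (LP (LK LD1_c17 LD2_c45 LD3_c49)) = (LP (LK LD1_c18 LD2_c15 LD3_c53)) :=
  Lgr Lrot3 (Lpr_ft (f583590 IH) (Lpn (LP (LK LD1_c18 LD2_c15 LD3_c53))))
theorem f583598 : Led Lsl_gf (LP (LK LD1_c17 LD2_c45 LD3_c48)) = (LP (LK LD1_c18 LD2_c15 LD3_c53)) :=
  Lgr Lrot47 (Lpr_gt (f51324 IH) (Lpe (f43539 IH) (Lpr_ff (f583596 IH) (Lpn (LP (LK LD1_c18 LD2_c15 LD3_c53))))))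
theorem f582667 : Led Lsl_at (LP (LK LD1_c10 LD2_c14 LD3_c56)) = (LP (LK LD1_c17 LD2_c45 LD3_c48)) :=
  Lgr Lrot66 (Lpe (K18.f300265 IH) (Lpe (K18.f300267 IH) (Lpr_ff (f582665 IH) (Lpn (LP (LK LD1_c17 LD2_c45 LD3_c48))))))
theorem f583600 : Led Lsl_gt (LP (LK LD1_c10 LD2_c3 LD3_c21)) = (LP (LK LD1_c18 LD2_c15 LD3_c53)) :=
  Lgr Lrot5 (Lpr_ft (K18.f300265 IH) (Lpr_at (f582667 IH) (Lpr_gf (f583598 IH) (Lpn (LP (LK LD1_c18 LD2_c15 LD3_c53))))))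
theorem f406704 : Led Lsl_ct (LP (LK LD1_c10 LD2_c3 LD3_c18)) = (LP (LK LD1_c18 LD2_c21 LD3_c51)) :=
  Lre_c IH (LK LD1_c10 LD2_c3 LD3_c18) (LK LD1_c18 LD2_c21 LD3_c51) Lrfl Lrfl
theorem f585206 : Led Lsl_af (LP (LK LD1_c10 LD2_c11 LD3_c15)) = (LP (LK LD1_c18 LD2_c21 LD3_c51)) :=
  Lgr Lrot68 (Lpe (f186795 IH) (Lpr_at (f585202 IH) (Lpr_ct (f406704 IH) (Lpn (LP (LK LD1_c18 LD2_c21 LD3_c51))))))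
theorem f169606 : Led Lsl_at (LP (LK LD1_c9 LD2_c55 LD3_c61)) = (LP (LK LD1_c18 LD2_c10 LD3_c41)) :=
  Lre_a IH (LK LD1_c9 LD2_c55 LD3_c61) (LK LD1_c18 LD2_c10 LD3_c41) Lrfl Lrfl
theorem f585212 : Led Lsl_ft (LP (LK LD1_c18 LD2_c10 LD3_c41)) = (LP (LK LD1_c18 LD2_c21 LD3_c51)) :=
  Lgr Lrot101 (Lpe (f169606 IH) (Lpe (f584554 IH) (Lpr_af (f585206 IH) (Lpn (LP (LK LD1_c18 LD2_c21 LD3_c51))))))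
theorem f585218 : Led Lsl_ff (LP (LK LD1_c18 LD2_c10 LD3_c41)) = (LP (LK LD1_c18 LD2_c21 LD3_c51)) :=
  Lgr Lrot3 (Lpr_ft (f585212 IH) (Lpn (LP (LK LD1_c18 LD2_c21 LD3_c51))))
theorem f169601 : Led Lsl_at (LP (LK LD1_c18 LD2_c10 LD3_c41)) = (LP (LK LD1_c9 LD2_c55 LD3_c61)) :=
  Lre_a IH (LK LD1_c18 LD2_c10 LD3_c41) (LK LD1_c9 LD2_c55 LD3_c61) Lrfl Lrfl
theorem f169595 : Led Lsl_gt (LP (LK LD1_c18 LD2_c10 LD3_c40)) = (LP (LK LD1_c9 LD2_c55 LD3_c61)) :=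
  Lre_g IH (LK LD1_c18 LD2_c10 LD3_c40) (LK LD1_c9 LD2_c55 LD3_c61) Lrfl Lrfl
theorem f585222 : Led Lsl_gf (LP (LK LD1_c18 LD2_c10 LD3_c40)) = (LP (LK LD1_c18 LD2_c21 LD3_c51)) :=
  Lgr Lrot47 (Lpr_gt (f169595 IH) (Lpe (f169601 IH) (Lpr_ff (f585218 IH) (Lpn (LP (LK LD1_c18 LD2_c21 LD3_c51))))))
theorem f586177 : Led Lsl_cf (LP (LK LD1_c18 LD2_c39 LD3_c13)) = (LP (LK LD1_c18 LD2_c10 LD3_c40)) :=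
  Lgr Lrot99 (Lpr_df (f586167 IH) (Lpe (f586142 IH) (Lpe (f50012 IH) (Lpr_cf (f583594 IH) (Lpe (f583600 IH) (Lpe (f169605 IH) (Lpr_gt (f165304 IH) (Lpr_ct (f406704 IH) (Lpe (f585222 IH) (Lpn (LP (LK LD1_c18 LD2_c10 LD3_c40))))))))))))
theorem f186792 : Led Lsl_dt (LP (LK LD1_c10 LD2_c14 LD3_c56)) = (LP (LK LD1_c5 LD2_c12 LD3_c3)) :=
  Lre_d IH (LK LD1_c10 LD2_c14 LD3_c56) (LK LD1_c5 LD2_c12 LD3_c3) Lrfl Lrfl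
theorem f300270 : Led Lsl_ff (LP (LK LD1_c5 LD2_c6 LD3_c10)) = (LP (LK LD1_c5 LD2_c12 LD3_c3)) :=
  Lgr Lrot19 (Lpr_dt (f169605 IH) (Lpr_ft (K18.f300265 IH) (Lpr_dt (f186792 IH) (Lpn (LP (LK LD1_c5 LD2_c12 LD3_c3))))))
theorem f300575 : Led Lsl_at (LP (LK LD1_c5 LD2_c6 LD3_c10)) = (LP (LK LD1_c10 LD2_c3 LD3_c20)) :=
  Lre_a IH (LK LD1_c5 LD2_c6 LD3_c10) (LK LD1_c10 LD2_c3 LD3_c20) Lrfl Lrfl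
theorem f240460 : Led Lsl_gt (LP (LK LD1_c5 LD2_c12 LD3_c3)) = (LP (LK LD1_c10 LD2_c14 LD3_c53)) :=
  Lre_g IH (LK LD1_c5 LD2_c12 LD3_c3) (LK LD1_c10 LD2_c14 LD3_c53) Lrfl Lrfl
theorem f406705 : Led Lsl_gf (LP (LK LD1_c10 LD2_c3 LD3_c20)) = (LP (LK LD1_c10 LD2_c14 LD3_c53)) :=
  Lgr Lrot76 (Lpe (f300575 IH) (Lpr_ff (f300270 IH) (Lpr_gt (f240460 IH) (Lpn (LP (LK LD1_c10 LD2_c14 LD3_c53))))))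
theorem f585237 : Led Lsl_ft (LP (LK LD1_c10 LD2_c14 LD3_c53)) = (LP (LK LD1_c10 LD2_c3 LD3_c18)) :=
  Lgr Lrot2 (Lpe (f406705 IH) (Lpe (f300597 IH) (Lpr_af (f585204 IH) (Lpn (LP (LK LD1_c10 LD2_c3 LD3_c18))))))
theorem f585243 : Led Lsl_ff (LP (LK LD1_c10 LD2_c14 LD3_c53)) = (LP (LK LD1_c10 LD2_c3 LD3_c18)) :=
  Lgr Lrot3 (Lpr_ft (f585237 IH) (Lpn (LP (LK LD1_c10 LD2_c3 LD3_c18))))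
theorem f165305 : Led Lsl_ct (LP (LK LD1_c18 LD2_c21 LD3_c51)) = (LP (LK LD1_c10 LD2_c3 LD3_c18)) :=
  Lre_c IH (LK LD1_c18 LD2_c21 LD3_c51) (LK LD1_c10 LD2_c3 LD3_c18) Lrfl Lrfl
theorem f585247 : Led Lsl_ct (LP (LK LD1_c10 LD2_c14 LD3_c53)) = (LP (LK LD1_c18 LD2_c10 LD3_c41)) :=
  Lgr Lrot40 (Lpr_ff (f585243 IH) (Lpe (f165305 IH) (Lpe (f585212 IH) (Lpn (LP (LK LD1_c18 LD2_c10 LD3_c41))))))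
theorem f50009 : Led Lsl_at (LP (LK LD1_c25 LD2_c25 LD3_c34)) = (LP (LK LD1_c15 LD2_c32 LD3_c16)) :=
  Lre_a IH (LK LD1_c25 LD2_c25 LD3_c34) (LK LD1_c15 LD2_c32 LD3_c16) Lrfl Lrfl
theorem f249535 : Led Lsl_gf (LP (LK LD1_c19 LD2_c1 LD3_c55)) = (LP (LK LD1_c15 LD2_c32 LD3_c14)) :=
  Lgr Lrot47 (Lpr_gt (f249533 IH) (Lpe (f50009 IH) (Lpe (f49960 IH) (Lpn (LP (LK LD1_c15 LD2_c32 LD3_c14))))))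
theorem f186797 : Led Lsl_gt (LP (LK LD1_c18 LD2_c33 LD3_c35)) = (LP (LK LD1_c10 LD2_c11 LD3_c15)) :=
  Lre_g IH (LK LD1_c18 LD2_c33 LD3_c35) (LK LD1_c10 LD2_c11 LD3_c15) Lrfl Lrfl
theorem f585214 : Led Lsl_gf (LP (LK LD1_c18 LD2_c33 LD3_c35)) = (LP (LK LD1_c18 LD2_c10 LD3_c41)) :=
  Lgr Lrot47 (Lpr_gt (f186797 IH) (Lpr_af (f585206 IH) (Lpe (f585212 IH) (Lpn (LP (LK LD1_c18 LD2_c10 LD3_c41))))))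
theorem f299810 : Led Lsl_ct (LP (LK LD1_c18 LD2_c11 LD3_c23)) = (LP (LK LD1_c17 LD2_c47 LD3_c1)) :=
  Lgr Lrot59 (Lpr_cf (K18.f299803 IH) (Lpn (LP (LK LD1_c17 LD2_c47 LD3_c1))))
theorem f180617 : Led Lsl_cf (LP (LK LD1_c10 LD2_c3 LD3_c35)) = (LP (LK LD1_c10 LD2_c10 LD3_c2)) :=
  Lgr Lrot11 (Lpr_ct (f180605 IH) (Lpn (LP (LK LD1_c10 LD2_c10 LD3_c2))))
theorem f248207 : Led Lsl_ct (LP (LK LD1_c27 LD2_c32 LD3_c4)) = (LP (LK LD1_c17 LD2_c45 LD3_c51)) :=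
  Lre_c IH (LK LD1_c27 LD2_c32 LD3_c4) (LK LD1_c17 LD2_c45 LD3_c51) Lrfl Lrfl
theorem f248194 : Led Lsl_ct (LP (LK LD1_c17 LD2_c45 LD3_c51)) = (LP (LK LD1_c27 LD2_c32 LD3_c4)) :=
  Lre_c IH (LK LD1_c17 LD2_c45 LD3_c51) (LK LD1_c27 LD2_c32 LD3_c4) Lrfl Lrfl
theorem f248199 : Led Lsl_ct (LP (LK LD1_c15 LD2_c12 LD3_c43)) = (LP (LK LD1_c25 LD2_c1 LD3_c42)) :=
  Lre_c IH (LK LD1_c15 LD2_c12 LD3_c43) (LK LD1_c25 LD2_c1 LD3_c42) Lrfl Lrfl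
theorem f184747 : Led Lsl_bt (LP (LK LD1_c25 LD2_c1 LD3_c41)) = (LP (LK LD1_c15 LD2_c12 LD3_c43)) :=
  Lre_b IH (LK LD1_c25 LD2_c1 LD3_c41) (LK LD1_c15 LD2_c12 LD3_c43) Lrfl Lrfl
theorem f240113 : Led Lsl_ct (LP (LK LD1_c31 LD2_c44 LD3_c44)) = (LP (LK LD1_c25 LD2_c1 LD3_c41)) :=
  Lre_c IH (LK LD1_c31 LD2_c44 LD3_c44) (LK LD1_c25 LD2_c1 LD3_c41) Lrfl Lrfl
theorem f248200 : Led Lsl_bt (LP (LK LD1_c27 LD2_c32 LD3_c4)) = (LP (LK LD1_c31 LD2_c44 LD3_c44)) :=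
  Lgr Lrot128 (Lpe (f248194 IH) (Lpr_bf (f248195 IH) (Lpe (f248199 IH) (Lpe (f184747 IH) (Lpe (f240113 IH) (Lpn (LP (LK LD1_c31 LD2_c44 LD3_c44))))))))
theorem f240081 : Led Lsl_bt (LP (LK LD1_c5 LD2_c8 LD3_c36)) = (LP (LK LD1_c10 LD2_c7 LD3_c38)) :=
  Lre_b IH (LK LD1_c5 LD2_c8 LD3_c36) (LK LD1_c10 LD2_c7 LD3_c38) Lrfl Lrfl
theorem f240084 : Led Lsl_gt (LP (LK LD1_c10 LD2_c7 LD3_c38)) = (LP (LK LD1_c18 LD2_c26 LD3_c52)) :=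
  Lre_g IH (LK LD1_c10 LD2_c7 LD3_c38) (LK LD1_c18 LD2_c26 LD3_c52) Lrfl Lrfl
theorem f184749 : Led Lsl_bt (LP (LK LD1_c9 LD2_c55 LD3_c22)) = (LP (LK LD1_c5 LD2_c2 LD3_c17)) :=
  Lre_b IH (LK LD1_c9 LD2_c55 LD3_c22) (LK LD1_c5 LD2_c2 LD3_c17) Lrfl Lrfl
theorem f165290 : Led Lsl_ct (LP (LK LD1_c9 LD2_c55 LD3_c22)) = (LP (LK LD1_c5 LD2_c2 LD3_c19)) :=
  Lre_c IH (LK LD1_c9 LD2_c55 LD3_c22) (LK LD1_c5 LD2_c2 LD3_c19) Lrfl Lrfl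
theorem f169635 : Led Lsl_gt (LP (LK LD1_c9 LD2_c55 LD3_c28)) = (LP (LK LD1_c5 LD2_c2 LD3_c19)) :=
  Lre_g IH (LK LD1_c9 LD2_c55 LD3_c28) (LK LD1_c5 LD2_c2 LD3_c19) Lrfl Lrfl
theorem f169645 : Led Lsl_ct (LP (LK LD1_c18 LD2_c10 LD3_c7)) = (LP (LK LD1_c9 LD2_c55 LD3_c28)) :=
  Lre_c IH (LK LD1_c18 LD2_c10 LD3_c7) (LK LD1_c9 LD2_c55 LD3_c28) Lrfl Lrfl
theorem f240089 : Led Lsl_bf (LP (LK LD1_c18 LD2_c26 LD3_c52)) = (LP (LK LD1_c18 LD2_c10 LD3_c7)) :=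
  Lgr Lrot34 (Lpe (f240084 IH) (Lpe (f240081 IH) (Lpe (K13.f239959 IH) (Lpr_gf (K14.f240087 IH) (Lpe (K11.f184654 IH) (Lpe (K11.f184655 IH) (Lpe (f184749 IH) (Lpr_ct (f165290 IH) (Lpe (f169635 IH) (Lpe (f169645 IH) (Lpn (LP (LK LD1_c18 LD2_c10 LD3_c7)))))))))))))
theorem f169653 : Led Lsl_ct (LP (LK LD1_c9 LD2_c55 LD3_c28)) = (LP (LK LD1_c18 LD2_c10 LD3_c7)) :=
  Lre_c IH (LK LD1_c9 LD2_c55 LD3_c28) (LK LD1_c18 LD2_c10 LD3_c7) Lrfl Lrfl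
theorem f169636 : Led Lsl_bt (LP (LK LD1_c18 LD2_c10 LD3_c6)) = (LP (LK LD1_c9 LD2_c55 LD3_c28)) :=
  Lre_b IH (LK LD1_c18 LD2_c10 LD3_c6) (LK LD1_c9 LD2_c55 LD3_c28) Lrfl Lrfl
theorem f169634 : Led Lsl_bt (LP (LK LD1_c2 LD2_c28 LD3_c45)) = (LP (LK LD1_c5 LD2_c2 LD3_c19)) :=
  Lre_b IH (LK LD1_c2 LD2_c28 LD3_c45) (LK LD1_c5 LD2_c2 LD3_c19) Lrfl Lrfl
theorem f169637 : Led Lsl_ct (LP (LK LD1_c5 LD2_c3 LD3_c4)) = (LP (LK LD1_c9 LD2_c56 LD3_c59)) :=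
  Lre_c IH (LK LD1_c5 LD2_c3 LD3_c4) (LK LD1_c9 LD2_c56 LD3_c59) Lrfl Lrfl
theorem f169638 : Led Lsl_gt (LP (LK LD1_c9 LD2_c56 LD3_c59)) = (LP (LK LD1_c18 LD2_c12 LD3_c36)) :=
  Lre_g IH (LK LD1_c9 LD2_c56 LD3_c59) (LK LD1_c18 LD2_c12 LD3_c36) Lrfl Lrfl
theorem f169639 : Led Lsl_ct (LP (LK LD1_c18 LD2_c10 LD3_c6)) = (LP (LK LD1_c18 LD2_c12 LD3_c36)) :=
  Lgr Lrot63 (Lpr_bt (f169636 IH) (Lpr_gt (f169635 IH) (Lpe (f169634 IH) (Lpr_ct (K9.f165286 IH) (Lpr_gt (K9.f169610 IH) (Lpe (K9.f28367 IH) (Lpr_bt (K18.f164127 IH) (Lpr_gt (f164128 IH) (Lpr_ct (f169637 IH) (Lpr_gt (f169638 IH) (Lpn (LP (LK LD1_c18 LD2_c12 LD3_c36)))))))))))))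
theorem f169647 : Led Lsl_cf (LP (LK LD1_c18 LD2_c10 LD3_c6)) = (LP (LK LD1_c18 LD2_c12 LD3_c36)) :=
  Lgr Lrot11 (Lpr_ct (f169639 IH) (Lpn (LP (LK LD1_c18 LD2_c12 LD3_c36))))
theorem f169654 : Led Lsl_bt (LP (LK LD1_c27 LD2_c53 LD3_c17)) = (LP (LK LD1_c18 LD2_c12 LD3_c36)) :=
  Lre_b IH (LK LD1_c27 LD2_c53 LD3_c17) (LK LD1_c18 LD2_c12 LD3_c36) Lrfl Lrfl
theorem f240093 : Led Lsl_ct (LP (LK LD1_c18 LD2_c26 LD3_c52)) = (LP (LK LD1_c27 LD2_c53 LD3_c17)) :=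
  Lgr Lrot83 (Lpr_bf (f240089 IH) (Lpe (f169653 IH) (Lpe (f169636 IH) (Lpr_cf (f169647 IH) (Lpe (f169654 IH) (Lpn (LP (LK LD1_c27 LD2_c53 LD3_c17))))))))
theorem f184748 : Led Lsl_ct (LP (LK LD1_c25 LD2_c1 LD3_c41)) = (LP (LK LD1_c31 LD2_c44 LD3_c44)) :=
  Lre_c IH (LK LD1_c25 LD2_c1 LD3_c41) (LK LD1_c31 LD2_c44 LD3_c44) Lrfl Lrfl
theorem f240111 : Led Lsl_gf (LP (LK LD1_c31 LD2_c44 LD3_c44)) = (LP (LK LD1_c27 LD2_c53 LD3_c17)) :=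
  Lgr Lrot129 (Lpe (f184748 IH) (Lpr_bt (f184747 IH) (Lpr_gt (f184739 IH) (Lpe (f184681 IH) (Lpr_ct (K11.f184654 IH) (Lpe (K14.f240087 IH) (Lpr_cf (K13.f239959 IH) (Lpr_bt (f240081 IH) (Lpr_gt (f240084 IH) (Lpr_ct (f240093 IH) (Lpn (LP (LK LD1_c27 LD2_c53 LD3_c17)))))))))))))
theorem f169646 : Led Lsl_bt (LP (LK LD1_c18 LD2_c12 LD3_c36)) = (LP (LK LD1_c27 LD2_c53 LD3_c17)) :=
  Lre_b IH (LK LD1_c18 LD2_c12 LD3_c36) (LK LD1_c27 LD2_c53 LD3_c17) Lrfl Lrfl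
theorem f407807 : Led Lsl_gt (LP (LK LD1_c10 LD2_c3 LD3_c35)) = (LP (LK LD1_c18 LD2_c10 LD3_c6)) :=
  Lgr Lrot149 (Lpr_cf (f180617 IH) (Lpe (f299968 IH) (Lpe (K18.f299802 IH) (Lpr_ct (f299810 IH) (Lpr_gf (f407805 IH) (Lpe (f248207 IH) (Lpr_bt (f248200 IH) (Lpr_gf (f240111 IH) (Lpe (f169646 IH) (Lpe (f169647 IH) (Lpn (LP (LK LD1_c18 LD2_c10 LD3_c6)))))))))))))
theorem f180614 : Led Lsl_bt (LP (LK LD1_c5 LD2_c6 LD3_c17)) = (LP (LK LD1_c10 LD2_c3 LD3_c35)) :=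
  Lre_b IH (LK LD1_c5 LD2_c6 LD3_c17) (LK LD1_c10 LD2_c3 LD3_c35) Lrfl Lrfl
theorem f169667 : Led Lsl_ct (LP (LK LD1_c5 LD2_c6 LD3_c17)) = (LP (LK LD1_c10 LD2_c3 LD3_c36)) :=
  Lre_c IH (LK LD1_c5 LD2_c6 LD3_c17) (LK LD1_c10 LD2_c3 LD3_c36) Lrfl Lrfl
theorem f300621 : Led Lsl_gt (LP (LK LD1_c18 LD2_c22 LD3_c18)) = (LP (LK LD1_c10 LD2_c3 LD3_c36)) :=
  Lre_g IH (LK LD1_c18 LD2_c22 LD3_c18) (LK LD1_c10 LD2_c3 LD3_c36) Lrfl Lrfl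
theorem f242409 : Led Lsl_bt (LP (LK LD1_c5 LD2_c12 LD3_c49)) = (LP (LK LD1_c10 LD2_c15 LD3_c39)) :=
  Lre_b IH (LK LD1_c5 LD2_c12 LD3_c49) (LK LD1_c10 LD2_c15 LD3_c39) Lrfl Lrfl
theorem f242410 : Led Lsl_bt (LP (LK LD1_c18 LD2_c40 LD3_c29)) = (LP (LK LD1_c10 LD2_c16 LD3_c2)) :=
  Lre_b IH (LK LD1_c18 LD2_c40 LD3_c29) (LK LD1_c10 LD2_c16 LD3_c2) Lrfl Lrfl
theorem f242395 : Led Lsl_bt (LP (LK LD1_c10 LD2_c9 LD3_c60)) = (LP (LK LD1_c18 LD2_c31 LD3_c10)) :=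
  Lre_b IH (LK LD1_c10 LD2_c9 LD3_c60) (LK LD1_c18 LD2_c31 LD3_c10) Lrfl Lrfl
theorem f242411 : Led Lsl_cf (LP (LK LD1_c18 LD2_c40 LD3_c29)) = (LP (LK LD1_c18 LD2_c31 LD3_c10)) :=
  Lgr Lrot97 (Lpr_bt (f242410 IH) (Lpr_ct (K18.f242319 IH) (Lpr_bt (f242409 IH) (Lpr_ct (K25.f242382 IH) (Lpr_bt (f242395 IH) (Lpn (LP (LK LD1_c18 LD2_c31 LD3_c10))))))))
theorem f242422 : Led Lsl_et (LP (LK LD1_c18 LD2_c40 LD3_c29)) = (LP (LK LD1_c10 LD2_c16 LD3_c4)) :=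
  Lre_e IH (LK LD1_c18 LD2_c40 LD3_c29) (LK LD1_c10 LD2_c16 LD3_c4) Lrfl Lrfl
theorem f242423 : Led Lsl_et (LP (LK LD1_c10 LD2_c9 LD3_c59)) = (LP (LK LD1_c18 LD2_c31 LD3_c10)) :=
  Lre_e IH (LK LD1_c10 LD2_c9 LD3_c59) (LK LD1_c18 LD2_c31 LD3_c10) Lrfl Lrfl
theorem f242424 : Led Lsl_ct (LP (LK LD1_c10 LD2_c16 LD3_c4)) = (LP (LK LD1_c10 LD2_c9 LD3_c59)) :=
  Lgr Lrot15 (Lpe (f242422 IH) (Lpr_cf (f242411 IH) (Lpe (f242423 IH) (Lpn (LP (LK LD1_c10 LD2_c9 LD3_c59))))))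
theorem f306272 : Led Lsl_cf (LP (LK LD1_c10 LD2_c7 LD3_c38)) = (LP (LK LD1_c9 LD2_c56 LD3_c37)) :=
  Lgr Lrot108 (Lpr_ft (K18.f293608 IH) (Lpr_ct (f242424 IH) (Lpr_ft (K26.f306261 IH) (Lpn (LP (LK LD1_c9 LD2_c56 LD3_c37))))))
theorem f240105 : Led Lsl_cf (LP (LK LD1_c18 LD2_c26 LD3_c52)) = (LP (LK LD1_c27 LD2_c53 LD3_c17)) :=
  Lgr Lrot11 (Lpr_ct (f240093 IH) (Lpn (LP (LK LD1_c27 LD2_c53 LD3_c17))))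
theorem f278624 : Led Lsl_bt (LP (LK LD1_c9 LD2_c56 LD3_c37)) = (LP (LK LD1_c5 LD2_c2 LD3_c55)) :=
  Lre_b IH (LK LD1_c9 LD2_c56 LD3_c37) (LK LD1_c5 LD2_c2 LD3_c55) Lrfl Lrfl
theorem f169957 : Led Lsl_bt (LP (LK LD1_c5 LD2_c2 LD3_c57)) = (LP (LK LD1_c2 LD2_c29 LD3_c0)) :=
  Lre_b IH (LK LD1_c5 LD2_c2 LD3_c57) (LK LD1_c2 LD2_c29 LD3_c0) Lrfl Lrfl
theorem f169958 : Led Lsl_ct (LP (LK LD1_c5 LD2_c2 LD3_c57)) = (LP (LK LD1_c2 LD2_c29 LD3_c5)) :=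
  Lre_c IH (LK LD1_c5 LD2_c2 LD3_c57) (LK LD1_c2 LD2_c29 LD3_c5) Lrfl Lrfl
theorem f169979 : Led Lsl_gt (LP (LK LD1_c5 LD2_c3 LD3_c5)) = (LP (LK LD1_c2 LD2_c29 LD3_c5)) :=
  Lre_g IH (LK LD1_c5 LD2_c3 LD3_c5) (LK LD1_c2 LD2_c29 LD3_c5) Lrfl Lrfl
theorem f299888 : Led Lsl_ct (LP (LK LD1_c9 LD2_c57 LD3_c1)) = (LP (LK LD1_c5 LD2_c3 LD3_c5)) :=
  Lre_c IH (LK LD1_c9 LD2_c57 LD3_c1) (LK LD1_c5 LD2_c3 LD3_c5) Lrfl Lrfl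
theorem f306331 : Led Lsl_gt (LP (LK LD1_c18 LD2_c12 LD3_c36)) = (LP (LK LD1_c9 LD2_c57 LD3_c1)) :=
  Lgr Lrot82 (Lpe (f169654 IH) (Lpe (f240105 IH) (Lpe (f240084 IH) (Lpr_cf (f306272 IH) (Lpr_bt (f278624 IH) (Lpe (K17.f169633 IH) (Lpe (f169957 IH) (Lpr_ct (f169958 IH) (Lpe (f169979 IH) (Lpe (f299888 IH) (Lpn (LP (LK LD1_c9 LD2_c57 LD3_c1)))))))))))))
theorem f299885 : Led Lsl_ct (LP (LK LD1_c5 LD2_c3 LD3_c5)) = (LP (LK LD1_c9 LD2_c57 LD3_c1)) :=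
  Lre_c IH (LK LD1_c5 LD2_c3 LD3_c5) (LK LD1_c9 LD2_c57 LD3_c1) Lrfl Lrfl
theorem f306341 : Led Lsl_bt (LP (LK LD1_c5 LD2_c3 LD3_c5)) = (LP (LK LD1_c9 LD2_c57 LD3_c0)) :=
  Lre_b IH (LK LD1_c5 LD2_c3 LD3_c5) (LK LD1_c9 LD2_c57 LD3_c0) Lrfl Lrfl
theorem f169988 : Led Lsl_gt (LP (LK LD1_c9 LD2_c57 LD3_c0)) = (LP (LK LD1_c18 LD2_c12 LD3_c42)) :=
  Lre_g IH (LK LD1_c9 LD2_c57 LD3_c0) (LK LD1_c18 LD2_c12 LD3_c42) Lrfl Lrfl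
theorem f251531 : Led Lsl_bt (LP (LK LD1_c9 LD2_c52 LD3_c36)) = (LP (LK LD1_c5 LD2_c1 LD3_c5)) :=
  Lre_b IH (LK LD1_c9 LD2_c52 LD3_c36) (LK LD1_c5 LD2_c1 LD3_c5) Lrfl Lrfl
theorem f22088 : Led Lsl_bt (LP (LK LD1_c5 LD2_c9 LD3_c46)) = (LP (LK LD1_c10 LD2_c10 LD3_c18)) :=
  Lre_b IH (LK LD1_c5 LD2_c9 LD3_c46) (LK LD1_c10 LD2_c10 LD3_c18) Lrfl Lrfl
theorem f342310 : Led Lsl_ff (LP (LK LD1_c9 LD2_c52 LD3_c36)) = (LP (LK LD1_c10 LD2_c10 LD3_c18)) :=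
  Lgr Lrot25 (Lpr_bt (f251531 IH) (Lpr_ft (K23.f342308 IH) (Lpr_bt (f22088 IH) (Lpn (LP (LK LD1_c10 LD2_c10 LD3_c18))))))
theorem f251547 : Led Lsl_at (LP (LK LD1_c9 LD2_c52 LD3_c36)) = (LP (LK LD1_c18 LD2_c4 LD3_c46)) :=
  Lre_a IH (LK LD1_c9 LD2_c52 LD3_c36) (LK LD1_c18 LD2_c4 LD3_c46) Lrfl Lrfl
theorem f22089 : Led Lsl_gt (LP (LK LD1_c10 LD2_c10 LD3_c18)) = (LP (LK LD1_c18 LD2_c31 LD3_c50)) :=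
  Lre_g IH (LK LD1_c10 LD2_c10 LD3_c18) (LK LD1_c18 LD2_c31 LD3_c50) Lrfl Lrfl
theorem f395447 : Led Lsl_gf (LP (LK LD1_c18 LD2_c4 LD3_c46)) = (LP (LK LD1_c18 LD2_c31 LD3_c50)) :=
  Lgr Lrot76 (Lpe (f251547 IH) (Lpr_ff (f342310 IH) (Lpr_gt (f22089 IH) (Lpn (LP (LK LD1_c18 LD2_c31 LD3_c50))))))
theorem f246834 : Led Lsl_bt (LP (LK LD1_c5 LD2_c1 LD3_c5)) = (LP (LK LD1_c9 LD2_c52 LD3_c36)) :=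
  Lre_b IH (LK LD1_c5 LD2_c1 LD3_c5) (LK LD1_c9 LD2_c52 LD3_c36) Lrfl Lrfl
theorem f169596 : Led Lsl_bt (LP (LK LD1_c5 LD2_c2 LD3_c25)) = (LP (LK LD1_c2 LD2_c28 LD3_c47)) :=
  Lre_b IH (LK LD1_c5 LD2_c2 LD3_c25) (LK LD1_c2 LD2_c28 LD3_c47) Lrfl Lrfl
theorem f251457 : Led Lsl_ct (LP (LK LD1_c9 LD2_c52 LD3_c36)) = (LP (LK LD1_c5 LD2_c2 LD3_c25)) :=
  Lgr Lrot83 (Lpe (f246834 IH) (Lpe (K15.f3689 IH) (Lpr_bf (K15.f251453 IH) (Lpe (K9.f165278 IH) (Lpe (f169596 IH) (Lpn (LP (LK LD1_c5 LD2_c2 LD3_c25))))))))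
theorem f251518 : Led Lsl_at (LP (LK LD1_c18 LD2_c4 LD3_c46)) = (LP (LK LD1_c9 LD2_c52 LD3_c36)) :=
  Lre_a IH (LK LD1_c18 LD2_c4 LD3_c46) (LK LD1_c9 LD2_c52 LD3_c36) Lrfl Lrfl
theorem f251519 : Led Lsl_at (LP (LK LD1_c5 LD2_c2 LD3_c25)) = (LP (LK LD1_c9 LD2_c55 LD3_c42)) :=
  Lre_a IH (LK LD1_c5 LD2_c2 LD3_c25) (LK LD1_c9 LD2_c55 LD3_c42) Lrfl Lrfl
theorem f251520 : Led Lsl_cf (LP (LK LD1_c18 LD2_c4 LD3_c46)) = (LP (LK LD1_c9 LD2_c55 LD3_c42)) :=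
  Lgr Lrot1 (Lpr_at (f251518 IH) (Lpr_ct (f251457 IH) (Lpr_at (f251519 IH) (Lpn (LP (LK LD1_c9 LD2_c55 LD3_c42))))))
theorem f345062 : Led Lsl_ft (LP (LK LD1_c10 LD2_c8 LD3_c6)) = (LP (LK LD1_c9 LD2_c52 LD3_c38)) :=
  Lgr Lrot54 (Lpe (K23.f339839 IH) (Lpr_ff (K23.f345056 IH) (Lpe (K23.f246850 IH) (Lpn (LP (LK LD1_c9 LD2_c52 LD3_c38))))))
theorem f342350 : Led Lsl_bt (LP (LK LD1_c18 LD2_c27 LD3_c37)) = (LP (LK LD1_c10 LD2_c8 LD3_c6)) :=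
  Lre_b IH (LK LD1_c18 LD2_c27 LD3_c37) (LK LD1_c10 LD2_c8 LD3_c6) Lrfl Lrfl
theorem f246887 : Led Lsl_bt (LP (LK LD1_c9 LD2_c52 LD3_c38)) = (LP (LK LD1_c18 LD2_c4 LD3_c48)) :=
  Lre_b IH (LK LD1_c9 LD2_c52 LD3_c38) (LK LD1_c18 LD2_c4 LD3_c48) Lrfl Lrfl
theorem f345066 : Led Lsl_ff (LP (LK LD1_c18 LD2_c27 LD3_c37)) = (LP (LK LD1_c18 LD2_c4 LD3_c48)) :=
  Lgr Lrot25 (Lpr_bt (f342350 IH) (Lpr_ft (f345062 IH) (Lpr_bt (f246887 IH) (Lpn (LP (LK LD1_c18 LD2_c4 LD3_c48))))))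
theorem f338814 : Led Lsl_ct (LP (LK LD1_c5 LD2_c8 LD3_c51)) = (LP (LK LD1_c10 LD2_c8 LD3_c6)) :=
  Lre_c IH (LK LD1_c5 LD2_c8 LD3_c51) (LK LD1_c10 LD2_c8 LD3_c6) Lrfl Lrfl
theorem f339769 : Led Lsl_bt (LP (LK LD1_c10 LD2_c8 LD3_c6)) = (LP (LK LD1_c18 LD2_c27 LD3_c37)) :=
  Lre_b IH (LK LD1_c10 LD2_c8 LD3_c6) (LK LD1_c18 LD2_c27 LD3_c37) Lrfl Lrfl
theorem f249995 : Led Lsl_ct (LP (LK LD1_c5 LD2_c10 LD3_c23)) = (LP (LK LD1_c2 LD2_c32 LD3_c14)) :=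
  Lre_c IH (LK LD1_c5 LD2_c10 LD3_c23) (LK LD1_c2 LD2_c32 LD3_c14) Lrfl Lrfl
theorem f302924 : Led Lsl_bt (LP (LK LD1_c10 LD2_c11 LD3_c28)) = (LP (LK LD1_c5 LD2_c10 LD3_c23)) :=
  Lre_b IH (LK LD1_c10 LD2_c11 LD3_c28) (LK LD1_c5 LD2_c10 LD3_c23) Lrfl Lrfl
theorem f339770 : Led Lsl_ct (LP (LK LD1_c18 LD2_c27 LD3_c37)) = (LP (LK LD1_c10 LD2_c11 LD3_c28)) :=
  Lgr Lrot83 (Lpe (f339769 IH) (Lpe (f338814 IH) (Lpr_bf (K22.f339761 IH) (Lpe (f249995 IH) (Lpe (f302924 IH) (Lpn (LP (LK LD1_c10 LD2_c11 LD3_c28))))))))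
theorem f251525 : Led Lsl_et (LP (LK LD1_c18 LD2_c4 LD3_c48)) = (LP (LK LD1_c9 LD2_c52 LD3_c36)) :=
  Lre_e IH (LK LD1_c18 LD2_c4 LD3_c48) (LK LD1_c9 LD2_c52 LD3_c36) Lrfl Lrfl
theorem f251526 : Led Lsl_et (LP (LK LD1_c5 LD2_c2 LD3_c25)) = (LP (LK LD1_c9 LD2_c55 LD3_c44)) :=
  Lre_e IH (LK LD1_c5 LD2_c2 LD3_c25) (LK LD1_c9 LD2_c55 LD3_c44) Lrfl Lrfl
theorem f251527 : Led Lsl_cf (LP (LK LD1_c18 LD2_c4 LD3_c48)) = (LP (LK LD1_c9 LD2_c55 LD3_c44)) :=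
  Lgr Lrot39 (Lpr_et (f251525 IH) (Lpr_ct (f251457 IH) (Lpr_et (f251526 IH) (Lpn (LP (LK LD1_c9 LD2_c55 LD3_c44))))))
theorem f345068 : Led Lsl_ft (LP (LK LD1_c10 LD2_c11 LD3_c28)) = (LP (LK LD1_c9 LD2_c55 LD3_c44)) :=
  Lgr Lrot4 (Lpe (f339770 IH) (Lpr_ff (f345066 IH) (Lpr_cf (f251527 IH) (Lpn (LP (LK LD1_c9 LD2_c55 LD3_c44))))))
theorem f345082 : Led Lsl_at (LP (LK LD1_c18 LD2_c33 LD3_c52)) = (LP (LK LD1_c10 LD2_c11 LD3_c28)) :=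
  Lre_a IH (LK LD1_c18 LD2_c33 LD3_c52) (LK LD1_c10 LD2_c11 LD3_c28) Lrfl Lrfl
theorem f251543 : Led Lsl_at (LP (LK LD1_c9 LD2_c55 LD3_c44)) = (LP (LK LD1_c18 LD2_c10 LD3_c20)) :=
  Lre_a IH (LK LD1_c9 LD2_c55 LD3_c44) (LK LD1_c18 LD2_c10 LD3_c20) Lrfl Lrfl
theorem f345112 : Led Lsl_ff (LP (LK LD1_c18 LD2_c33 LD3_c52)) = (LP (LK LD1_c18 LD2_c10 LD3_c20)) :=
  Lgr Lrot30 (Lpr_at (f345082 IH) (Lpr_ft (f345068 IH) (Lpr_at (f251543 IH) (Lpn (LP (LK LD1_c18 LD2_c10 LD3_c20))))))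
theorem f345071 : Led Lsl_et (LP (LK LD1_c18 LD2_c27 LD3_c37)) = (LP (LK LD1_c28 LD2_c2 LD3_c36)) :=
  Lre_e IH (LK LD1_c18 LD2_c27 LD3_c37) (LK LD1_c28 LD2_c2 LD3_c36) Lrfl Lrfl
theorem f251545 : Led Lsl_et (LP (LK LD1_c9 LD2_c52 LD3_c36)) = (LP (LK LD1_c18 LD2_c4 LD3_c48)) :=
  Lre_e IH (LK LD1_c9 LD2_c52 LD3_c36) (LK LD1_c18 LD2_c4 LD3_c48) Lrfl Lrfl
theorem f345072 : Led Lsl_et (LP (LK LD1_c18 LD2_c31 LD3_c53)) = (LP (LK LD1_c10 LD2_c10 LD3_c18)) :=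
  Lre_e IH (LK LD1_c18 LD2_c31 LD3_c53) (LK LD1_c10 LD2_c10 LD3_c18) Lrfl Lrfl
theorem f345073 : Led Lsl_ft (LP (LK LD1_c28 LD2_c2 LD3_c36)) = (LP (LK LD1_c18 LD2_c31 LD3_c53)) :=
  Lgr Lrot86 (Lpe (f345071 IH) (Lpr_ff (f345066 IH) (Lpe (f251545 IH) (Lpr_ff (f342310 IH) (Lpe (f345072 IH) (Lpn (LP (LK LD1_c18 LD2_c31 LD3_c53))))))))
theorem f185376 : Led Lsl_ct (LP (LK LD1_c18 LD2_c31 LD3_c53)) = (LP (LK LD1_c10 LD2_c10 LD3_c25)) :=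
  Lre_c IH (LK LD1_c18 LD2_c31 LD3_c53) (LK LD1_c10 LD2_c10 LD3_c25) Lrfl Lrfl
theorem f185380 : Led Lsl_ft (LP (LK LD1_c10 LD2_c10 LD3_c25)) = (LP (LK LD1_c18 LD2_c32 LD3_c6)) :=
  Lre_f IH (LK LD1_c10 LD2_c10 LD3_c25) (LK LD1_c18 LD2_c32 LD3_c6) Lrfl Lrfl
theorem f345085 : Led Lsl_cf (LP (LK LD1_c28 LD2_c2 LD3_c36)) = (LP (LK LD1_c18 LD2_c32 LD3_c6)) :=
  Lgr Lrot108 (Lpr_ft (f345073 IH) (Lpr_ct (f185376 IH) (Lpr_ft (f185380 IH) (Lpn (LP (LK LD1_c18 LD2_c32 LD3_c6))))))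
theorem f345095 : Led Lsl_ct (LP (LK LD1_c28 LD2_c2 LD3_c36)) = (LP (LK LD1_c18 LD2_c32 LD3_c6)) :=
  Lgr Lrot59 (Lpr_cf (f345085 IH) (Lpn (LP (LK LD1_c18 LD2_c32 LD3_c6))))
theorem f345075 : Led Lsl_ft (LP (LK LD1_c18 LD2_c27 LD3_c37)) = (LP (LK LD1_c18 LD2_c4 LD3_c48)) :=
  Lgr Lrot48 (Lpr_ff (f345066 IH) (Lpn (LP (LK LD1_c18 LD2_c4 LD3_c48))))
theorem f251536 : Led Lsl_ct (LP (LK LD1_c18 LD2_c4 LD3_c48)) = (LP (LK LD1_c9 LD2_c55 LD3_c44)) :=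
  Lgr Lrot59 (Lpr_cf (f251527 IH) (Lpn (LP (LK LD1_c9 LD2_c55 LD3_c44))))
theorem f171283 : Led Lsl_bt (LP (LK LD1_c5 LD2_c2 LD3_c27)) = (LP (LK LD1_c9 LD2_c55 LD3_c44)) :=
  Lre_b IH (LK LD1_c5 LD2_c2 LD3_c27) (LK LD1_c9 LD2_c55 LD3_c44) Lrfl Lrfl
theorem f335055 : Led Lsl_ff (LP (LK LD1_c10 LD2_c11 LD3_c28)) = (LP (LK LD1_c9 LD2_c55 LD3_c44)) :=
  Lgr Lrot25 (Lpr_bt (f302924 IH) (Lpr_ft (K22.f335051 IH) (Lpr_bt (f171283 IH) (Lpn (LP (LK LD1_c9 LD2_c55 LD3_c44))))))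
theorem f345077 : Led Lsl_cf (LP (LK LD1_c18 LD2_c27 LD3_c37)) = (LP (LK LD1_c10 LD2_c11 LD3_c28)) :=
  Lgr Lrot108 (Lpr_ft (f345075 IH) (Lpr_ct (f251536 IH) (Lpe (f335055 IH) (Lpn (LP (LK LD1_c10 LD2_c11 LD3_c28))))))
theorem f345097 : Led Lsl_ef (LP (LK LD1_c10 LD2_c11 LD3_c28)) = (LP (LK LD1_c18 LD2_c32 LD3_c6)) :=
  Lgr Lrot28 (Lpe (f345077 IH) (Lpr_et (f345071 IH) (Lpr_ct (f345095 IH) (Lpn (LP (LK LD1_c18 LD2_c32 LD3_c6))))))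
theorem f345100 : Led Lsl_at (LP (LK LD1_c10 LD2_c11 LD3_c28)) = (LP (LK LD1_c18 LD2_c33 LD3_c52)) :=
  Lre_a IH (LK LD1_c10 LD2_c11 LD3_c28) (LK LD1_c18 LD2_c33 LD3_c52) Lrfl Lrfl
theorem f335102 : Led Lsl_at (LP (LK LD1_c28 LD2_c6 LD3_c35)) = (LP (LK LD1_c18 LD2_c32 LD3_c6)) :=
  Lre_a IH (LK LD1_c28 LD2_c6 LD3_c35) (LK LD1_c18 LD2_c32 LD3_c6) Lrfl Lrfl
theorem f345101 : Led Lsl_et (LP (LK LD1_c18 LD2_c33 LD3_c52)) = (LP (LK LD1_c28 LD2_c6 LD3_c35)) :=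
  Lgr Lrot123 (Lpe (f345100 IH) (Lpr_ef (f345097 IH) (Lpe (f335102 IH) (Lpn (LP (LK LD1_c28 LD2_c6 LD3_c35))))))
theorem f345106 : Led Lsl_ft (LP (LK LD1_c28 LD2_c6 LD3_c35)) = (LP (LK LD1_c18 LD2_c32 LD3_c3)) :=
  Lre_f IH (LK LD1_c28 LD2_c6 LD3_c35) (LK LD1_c18 LD2_c32 LD3_c3) Lrfl Lrfl
theorem f345107 : Led Lsl_et (LP (LK LD1_c18 LD2_c32 LD3_c3)) = (LP (LK LD1_c10 LD2_c10 LD3_c24)) :=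
  Lre_e IH (LK LD1_c18 LD2_c32 LD3_c3) (LK LD1_c10 LD2_c10 LD3_c24) Lrfl Lrfl
theorem f251551 : Led Lsl_et (LP (LK LD1_c9 LD2_c55 LD3_c42)) = (LP (LK LD1_c18 LD2_c10 LD3_c20)) :=
  Lre_e IH (LK LD1_c9 LD2_c55 LD3_c42) (LK LD1_c18 LD2_c10 LD3_c20) Lrfl Lrfl
theorem f345125 : Led Lsl_ft (LP (LK LD1_c10 LD2_c10 LD3_c24)) = (LP (LK LD1_c9 LD2_c55 LD3_c42)) :=
  Lgr Lrot86 (Lpe (f345107 IH) (Lpe (f345106 IH) (Lpe (f345101 IH) (Lpr_ff (f345112 IH) (Lpe (f251551 IH) (Lpn (LP (LK LD1_c9 LD2_c55 LD3_c42))))))))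
theorem f313873 : Led Lsl_at (LP (LK LD1_c5 LD2_c2 LD3_c19)) = (LP (LK LD1_c9 LD2_c55 LD3_c29)) :=
  Lre_a IH (LK LD1_c5 LD2_c2 LD3_c19) (LK LD1_c9 LD2_c55 LD3_c29) Lrfl Lrfl
theorem f165517 : Led Lsl_bt (LP (LK LD1_c5 LD2_c9 LD3_c48)) = (LP (LK LD1_c2 LD2_c31 LD3_c59)) :=
  Lre_b IH (LK LD1_c5 LD2_c9 LD3_c48) (LK LD1_c2 LD2_c31 LD3_c59) Lrfl Lrfl
theorem f313874 : Led Lsl_at (LP (LK LD1_c10 LD2_c10 LD3_c24)) = (LP (LK LD1_c5 LD2_c9 LD3_c48)) :=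
  Lre_a IH (LK LD1_c10 LD2_c10 LD3_c24) (LK LD1_c5 LD2_c9 LD3_c48) Lrfl Lrfl
theorem f313875 : Led Lsl_bt (LP (LK LD1_c9 LD2_c55 LD3_c29)) = (LP (LK LD1_c10 LD2_c10 LD3_c24)) :=
  Lgr Lrot62 (Lpe (f313873 IH) (Lpe (f169634 IH) (Lpr_af (K19.f313869 IH) (Lpe (f165517 IH) (Lpe (f313874 IH) (Lpn (LP (LK LD1_c10 LD2_c10 LD3_c24))))))))
theorem f240290 : Led Lsl_ef (LP (LK LD1_c9 LD2_c43 LD3_c34)) = (LP (LK LD1_c5 LD2_c8 LD3_c34)) :=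
  Lgr Lrot28 (Lpr_ct (K18.f185870 IH) (Lpr_et (K13.f240288 IH) (Lpr_ct (K13.f196352 IH) (Lpn (LP (LK LD1_c5 LD2_c8 LD3_c34))))))
theorem f314226 : Led Lsl_et (LP (LK LD1_c9 LD2_c53 LD3_c11)) = (LP (LK LD1_c18 LD2_c5 LD3_c36)) :=
  Lre_e IH (LK LD1_c9 LD2_c53 LD3_c11) (LK LD1_c18 LD2_c5 LD3_c36) Lrfl Lrfl
theorem f342052 : Led Lsl_ff (LP (LK LD1_c5 LD2_c8 LD3_c34)) = (LP (LK LD1_c5 LD2_c2 LD3_c17)) :=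
  Lgr Lrot72 (Lpe (f240290 IH) (Lpr_ft (K23.f342046 IH) (Lpr_et (f314226 IH) (Lpr_ft (K22.f314187 IH) (Lpr_et (K21.f184752 IH) (Lpn (LP (LK LD1_c5 LD2_c2 LD3_c17))))))))
theorem f240304 : Led Lsl_bt (LP (LK LD1_c5 LD2_c8 LD3_c34)) = (LP (LK LD1_c10 LD2_c7 LD3_c33)) :=
  Lre_b IH (LK LD1_c5 LD2_c8 LD3_c34) (LK LD1_c10 LD2_c7 LD3_c33) Lrfl Lrfl
theorem f342056 : Led Lsl_ft (LP (LK LD1_c10 LD2_c7 LD3_c33)) = (LP (LK LD1_c9 LD2_c55 LD3_c22)) :=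
  Lgr Lrot75 (Lpe (f240304 IH) (Lpr_ff (f342052 IH) (Lpe (f184749 IH) (Lpn (LP (LK LD1_c9 LD2_c55 LD3_c22))))))
theorem f342072 : Led Lsl_ff (LP (LK LD1_c10 LD2_c7 LD3_c33)) = (LP (LK LD1_c9 LD2_c55 LD3_c22)) :=
  Lgr Lrot3 (Lpr_ft (f342056 IH) (Lpn (LP (LK LD1_c9 LD2_c55 LD3_c22))))
theorem f240326 : Led Lsl_at (LP (LK LD1_c10 LD2_c7 LD3_c33)) = (LP (LK LD1_c18 LD2_c26 LD3_c42)) :=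
  Lre_a IH (LK LD1_c10 LD2_c7 LD3_c33) (LK LD1_c18 LD2_c26 LD3_c42) Lrfl Lrfl
theorem f169651 : Led Lsl_gt (LP (LK LD1_c9 LD2_c55 LD3_c22)) = (LP (LK LD1_c18 LD2_c9 LD3_c57)) :=
  Lre_g IH (LK LD1_c9 LD2_c55 LD3_c22) (LK LD1_c18 LD2_c9 LD3_c57) Lrfl Lrfl
theorem f342081 : Led Lsl_gf (LP (LK LD1_c18 LD2_c26 LD3_c42)) = (LP (LK LD1_c18 LD2_c9 LD3_c57)) :=
  Lgr Lrot76 (Lpe (f240326 IH) (Lpr_ff (f342072 IH) (Lpr_gt (f169651 IH) (Lpn (LP (LK LD1_c18 LD2_c9 LD3_c57))))))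
theorem f240298 : Led Lsl_et (LP (LK LD1_c9 LD2_c43 LD3_c34)) = (LP (LK LD1_c5 LD2_c8 LD3_c34)) :=
  Lgr Lrot158 (Lpe (K18.f185872 IH) (Lpr_ef (K13.f240294 IH) (Lpe (K13.f196351 IH) (Lpn (LP (LK LD1_c5 LD2_c8 LD3_c34))))))
theorem f240316 : Led Lsl_bt (LP (LK LD1_c17 LD2_c52 LD3_c50)) = (LP (LK LD1_c9 LD2_c43 LD3_c34)) :=
  Lre_b IH (LK LD1_c17 LD2_c52 LD3_c50) (LK LD1_c9 LD2_c43 LD3_c34) Lrfl Lrfl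
theorem f240317 : Led Lsl_ef (LP (LK LD1_c17 LD2_c52 LD3_c50)) = (LP (LK LD1_c10 LD2_c7 LD3_c33)) :=
  Lgr Lrot29 (Lpr_bt (f240316 IH) (Lpr_et (f240298 IH) (Lpr_bt (f240304 IH) (Lpn (LP (LK LD1_c10 LD2_c7 LD3_c33))))))
theorem f240322 : Led Lsl_et (LP (LK LD1_c17 LD2_c52 LD3_c50)) = (LP (LK LD1_c10 LD2_c7 LD3_c33)) :=
  Lgr Lrot87 (Lpr_ef (f240317 IH) (Lpn (LP (LK LD1_c10 LD2_c7 LD3_c33))))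
theorem f181935 : Led Lsl_ct (LP (LK LD1_c9 LD2_c43 LD3_c39)) = (LP (LK LD1_c17 LD2_c52 LD3_c50)) :=
  Lre_c IH (LK LD1_c9 LD2_c43 LD3_c39) (LK LD1_c17 LD2_c52 LD3_c50) Lrfl Lrfl
theorem f181921 : Led Lsl_bt (LP (LK LD1_c4 LD2_c55 LD3_c61)) = (LP (LK LD1_c9 LD2_c43 LD3_c39)) :=
  Lre_b IH (LK LD1_c4 LD2_c55 LD3_c61) (LK LD1_c9 LD2_c43 LD3_c39) Lrfl Lrfl
theorem f181922 : Led Lsl_bt (LP (LK LD1_c5 LD2_c9 LD3_c53)) = (LP (LK LD1_c2 LD2_c31 LD3_c61)) :=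
  Lre_b IH (LK LD1_c5 LD2_c9 LD3_c53) (LK LD1_c2 LD2_c31 LD3_c61) Lrfl Lrfl
theorem f181923 : Led Lsl_et (LP (LK LD1_c9 LD2_c43 LD3_c39)) = (LP (LK LD1_c5 LD2_c9 LD3_c53)) :=
  Lgr Lrot74 (Lpe (f181921 IH) (Lpr_ef (K20.f181893 IH) (Lpe (f181922 IH) (Lpn (LP (LK LD1_c5 LD2_c9 LD3_c53))))))
theorem f181928 : Led Lsl_ef (LP (LK LD1_c9 LD2_c43 LD3_c39)) = (LP (LK LD1_c5 LD2_c9 LD3_c53)) :=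
  Lgr Lrot88 (Lpr_et (f181923 IH) (Lpn (LP (LK LD1_c5 LD2_c9 LD3_c53))))
theorem f240328 : Led Lsl_cf (LP (LK LD1_c5 LD2_c9 LD3_c53)) = (LP (LK LD1_c10 LD2_c7 LD3_c33)) :=
  Lgr Lrot39 (Lpe (f181928 IH) (Lpr_ct (f181935 IH) (Lpr_et (f240322 IH) (Lpn (LP (LK LD1_c10 LD2_c7 LD3_c33))))))
theorem f181926 : Led Lsl_at (LP (LK LD1_c5 LD2_c9 LD3_c53)) = (LP (LK LD1_c10 LD2_c10 LD3_c32)) :=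
  Lre_a IH (LK LD1_c5 LD2_c9 LD3_c53) (LK LD1_c10 LD2_c10 LD3_c32) Lrfl Lrfl
theorem f240320 : Led Lsl_at (LP (LK LD1_c18 LD2_c26 LD3_c42)) = (LP (LK LD1_c10 LD2_c7 LD3_c33)) :=
  Lre_a IH (LK LD1_c18 LD2_c26 LD3_c42) (LK LD1_c10 LD2_c7 LD3_c33) Lrfl Lrfl
theorem f240332 : Led Lsl_ct (LP (LK LD1_c10 LD2_c10 LD3_c32)) = (LP (LK LD1_c18 LD2_c26 LD3_c42)) :=
  Lgr Lrot111 (Lpe (f181926 IH) (Lpr_cf (f240328 IH) (Lpe (f240320 IH) (Lpn (LP (LK LD1_c18 LD2_c26 LD3_c42))))))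
theorem f240353 : Led Lsl_cf (LP (LK LD1_c10 LD2_c10 LD3_c32)) = (LP (LK LD1_c18 LD2_c26 LD3_c42)) :=
  Lgr Lrot11 (Lpr_ct (f240332 IH) (Lpn (LP (LK LD1_c18 LD2_c26 LD3_c42))))
theorem f182053 : Led Lsl_bt (LP (LK LD1_c27 LD2_c50 LD3_c28)) = (LP (LK LD1_c18 LD2_c9 LD3_c57)) :=
  Lre_b IH (LK LD1_c27 LD2_c50 LD3_c28) (LK LD1_c18 LD2_c9 LD3_c57) Lrfl Lrfl
theorem f242984 : Led Lsl_gt (LP (LK LD1_c18 LD2_c19 LD3_c40)) = (LP (LK LD1_c10 LD2_c1 LD3_c45)) :=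
  Lre_g IH (LK LD1_c18 LD2_c19 LD3_c40) (LK LD1_c10 LD2_c1 LD3_c45) Lrfl Lrfl
theorem f177620 : Led Lsl_bt (LP (LK LD1_c5 LD2_c2 LD3_c17)) = (LP (LK LD1_c9 LD2_c55 LD3_c22)) :=
  Lre_b IH (LK LD1_c5 LD2_c2 LD3_c17) (LK LD1_c9 LD2_c55 LD3_c22) Lrfl Lrfl
theorem f242985 : Led Lsl_cf (LP (LK LD1_c18 LD2_c19 LD3_c40)) = (LP (LK LD1_c27 LD2_c50 LD3_c28)) :=
  Lgr Lrot160 (Lpr_gt (f242984 IH) (Lpr_cf (K18.f242971 IH) (Lpr_bt (K18.f237033 IH) (Lpe (K13.f237071 IH) (Lpr_ct (K13.f182045 IH) (Lpe (K10.f182042 IH) (Lpe (K13.f169628 IH) (Lpr_bt (f177620 IH) (Lpr_gt (f169651 IH) (Lpe (f182053 IH) (Lpn (LP (LK LD1_c27 LD2_c50 LD3_c28)))))))))))))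
theorem f293655 : Led Lsl_gt (LP (LK LD1_c18 LD2_c41 LD3_c12)) = (LP (LK LD1_c18 LD2_c19 LD3_c40)) :=
  Lgr Lrot5 (Lpr_ft (K18.f293640 IH) (Lpr_at (K18.f242979 IH) (Lpe (f242984 IH) (Lpn (LP (LK LD1_c18 LD2_c19 LD3_c40))))))
theorem f269231 : Led Lsl_at (LP (LK LD1_c10 LD2_c7 LD3_c38)) = (LP (LK LD1_c18 LD2_c26 LD3_c54)) :=
  Lre_a IH (LK LD1_c10 LD2_c7 LD3_c38) (LK LD1_c18 LD2_c26 LD3_c54) Lrfl Lrfl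
theorem f269232 : Led Lsl_bt (LP (LK LD1_c18 LD2_c26 LD3_c54)) = (LP (LK LD1_c24 LD2_c58 LD3_c47)) :=
  Lgr Lrot62 (Lpe (f269231 IH) (Lpe (f240081 IH) (Lpr_af (K16.f269229 IH) (Lpe (K18.f237033 IH) (Lpe (K18.f237046 IH) (Lpn (LP (LK LD1_c24 LD2_c58 LD3_c47))))))))
theorem f293638 : Led Lsl_bt (LP (LK LD1_c18 LD2_c26 LD3_c47)) = (LP (LK LD1_c18 LD2_c40 LD3_c33)) :=
  Lgr Lrot35 (Lpr_ff (K18.f293636 IH) (Lpe (f269232 IH) (Lpr_ff (K18.f293611 IH) (Lpn (LP (LK LD1_c18 LD2_c40 LD3_c33))))))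
theorem f293613 : Led Lsl_gt (LP (LK LD1_c18 LD2_c26 LD3_c52)) = (LP (LK LD1_c18 LD2_c40 LD3_c33)) :=
  Lgr Lrot46 (Lpe (f240084 IH) (Lpr_ft (K18.f293608 IH) (Lpr_at (K18.f242451 IH) (Lpn (LP (LK LD1_c18 LD2_c40 LD3_c33))))))
theorem f342083 : Led Lsl_gt (LP (LK LD1_c10 LD2_c10 LD3_c32)) = (LP (LK LD1_c9 LD2_c55 LD3_c28)) :=
  Lgr Lrot149 (Lpr_cf (f240353 IH) (Lpr_gf (f342081 IH) (Lpe (f182053 IH) (Lpe (f242985 IH) (Lpe (f293655 IH) (Lpr_cf (K18.f240431 IH) (Lpr_bt (f293638 IH) (Lpe (f293613 IH) (Lpr_bf (f240089 IH) (Lpr_ct (f169645 IH) (Lpn (LP (LK LD1_c9 LD2_c55 LD3_c28)))))))))))))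
theorem f342085 : Led Lsl_at (LP (LK LD1_c9 LD2_c55 LD3_c29)) = (LP (LK LD1_c5 LD2_c2 LD3_c19)) :=
  Lre_a IH (LK LD1_c9 LD2_c55 LD3_c29) (LK LD1_c5 LD2_c2 LD3_c19) Lrfl Lrfl
theorem f342086 : Led Lsl_ft (LP (LK LD1_c10 LD2_c10 LD3_c32)) = (LP (LK LD1_c9 LD2_c55 LD3_c29)) :=
  Lgr Lrot2 (Lpr_gt (f342083 IH) (Lpr_gt (f169635 IH) (Lpe (f342085 IH) (Lpn (LP (LK LD1_c9 LD2_c55 LD3_c29))))))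
theorem f345178 : Led Lsl_bf (LP (LK LD1_c10 LD2_c10 LD3_c32)) = (LP (LK LD1_c9 LD2_c55 LD3_c42)) :=
  Lgr Lrot61 (Lpr_ft (f342086 IH) (Lpr_bt (f313875 IH) (Lpr_ft (f345125 IH) (Lpn (LP (LK LD1_c9 LD2_c55 LD3_c42))))))
theorem f395449 : Led Lsl_ct (LP (LK LD1_c18 LD2_c12 LD3_c42)) = (LP (LK LD1_c18 LD2_c31 LD3_c50)) :=
  Lgr Lrot91 (Lpe (f169988 IH) (Lpe (f306341 IH) (Lpr_ct (f299885 IH) (Lpe (f306331 IH) (Lpe (f169639 IH) (Lpr_bt (f169636 IH) (Lpe (f342083 IH) (Lpr_bf (f345178 IH) (Lpe (f251520 IH) (Lpr_gf (f395447 IH) (Lpn (LP (LK LD1_c18 LD2_c31 LD3_c50)))))))))))))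
theorem f165519 : Led Lsl_ct (LP (LK LD1_c5 LD2_c9 LD3_c48)) = (LP (LK LD1_c10 LD2_c10 LD3_c18)) :=
  Lre_c IH (LK LD1_c5 LD2_c9 LD3_c48) (LK LD1_c10 LD2_c10 LD3_c18) Lrfl Lrfl
theorem f395453 : Led Lsl_bt (LP (LK LD1_c18 LD2_c12 LD3_c42)) = (LP (LK LD1_c18 LD2_c33 LD3_c35)) :=
  Lgr Lrot130 (Lpr_ct (f395449 IH) (Lpe (f22089 IH) (Lpe (f165519 IH) (Lpr_bt (f165517 IH) (Lpe (K10.f186784 IH) (Lpe (f186790 IH) (Lpr_ct (f186793 IH) (Lpe (f186794 IH) (Lpr_cf (f186795 IH) (Lpe (f186797 IH) (Lpn (LP (LK LD1_c18 LD2_c33 LD3_c35)))))))))))))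
theorem f395455 : Led Lsl_bf (LP (LK LD1_c18 LD2_c12 LD3_c42)) = (LP (LK LD1_c18 LD2_c33 LD3_c35)) :=
  Lgr Lrot24 (Lpr_bt (f395453 IH) (Lpn (LP (LK LD1_c18 LD2_c33 LD3_c35))))
theorem f407809 : Led Lsl_cf (LP (LK LD1_c18 LD2_c22 LD3_c18)) = (LP (LK LD1_c18 LD2_c33 LD3_c35)) :=
  Lgr Lrot160 (Lpr_gt (f300621 IH) (Lpe (f169667 IH) (Lpr_bt (f180614 IH) (Lpr_gt (f407807 IH) (Lpr_ct (f169639 IH) (Lpr_gt (f306331 IH) (Lpe (f299885 IH) (Lpr_bt (f306341 IH) (Lpr_gt (f169988 IH) (Lpr_bf (f395455 IH) (Lpn (LP (LK LD1_c18 LD2_c33 LD3_c35)))))))))))))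
theorem f585251 : Led Lsl_df (LP (LK LD1_c10 LD2_c30 LD3_c9)) = (LP (LK LD1_c18 LD2_c22 LD3_c18)) :=
  Lgr Lrot162 (Lpe (f249537 IH) (Lpr_gf (f249535 IH) (Lpe (f51320 IH) (Lpe (f582685 IH) (Lpr_dt (f186792 IH) (Lpr_gt (f240460 IH) (Lpr_ct (f585247 IH) (Lpe (f585214 IH) (Lpe (f407809 IH) (Lpn (LP (LK LD1_c18 LD2_c22 LD3_c18))))))))))))
theorem f586175 : Led Lsl_ft (LP (LK LD1_c18 LD2_c39 LD3_c13)) = (LP (LK LD1_c18 LD2_c22 LD3_c18)) :=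
  Lgr Lrot54 (Lpr_df (f586167 IH) (Lpe (f585258 IH) (Lpr_df (f585251 IH) (Lpn (LP (LK LD1_c18 LD2_c22 LD3_c18))))))
theorem f407811 : Led Lsl_ct (LP (LK LD1_c18 LD2_c22 LD3_c18)) = (LP (LK LD1_c18 LD2_c33 LD3_c35)) :=
  Lgr Lrot59 (Lpr_cf (f407809 IH) (Lpn (LP (LK LD1_c18 LD2_c33 LD3_c35))))
theorem f586185 : Led Lsl_ft (LP (LK LD1_c18 LD2_c33 LD3_c35)) = (LP (LK LD1_c18 LD2_c10 LD3_c40)) :=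
  Lgr Lrot4 (Lpe (f407811 IH) (Lpe (f586175 IH) (Lpr_cf (f586177 IH) (Lpn (LP (LK LD1_c18 LD2_c10 LD3_c40))))))
theorem f185258 : Led Lsl_et (LP (LK LD1_c18 LD2_c57 LD3_c7)) = (LP (LK LD1_c28 LD2_c24 LD3_c61)) :=
  Lre_e IH (LK LD1_c18 LD2_c57 LD3_c7) (LK LD1_c28 LD2_c24 LD3_c61) Lrfl Lrfl
theorem f417495 : Led Lsl_et (LP (LK LD1_c28 LD2_c21 LD3_c0)) = (LP (LK LD1_c18 LD2_c53 LD3_c16)) :=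
  Lre_e IH (LK LD1_c28 LD2_c21 LD3_c0) (LK LD1_c18 LD2_c53 LD3_c16) Lrfl Lrfl
theorem f585860 : Led Lsl_ct (LP (LK LD1_c28 LD2_c24 LD3_c61)) = (LP (LK LD1_c28 LD2_c21 LD3_c0)) :=
  Lgr Lrot15 (Lpe (f185258 IH) (Lpr_cf (f585851 IH) (Lpe (f417495 IH) (Lpn (LP (LK LD1_c28 LD2_c21 LD3_c0))))))
theorem f585864 : Led Lsl_cf (LP (LK LD1_c28 LD2_c24 LD3_c61)) = (LP (LK LD1_c28 LD2_c21 LD3_c0)) :=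
  Lgr Lrot11 (Lpr_ct (f585860 IH) (Lpn (LP (LK LD1_c28 LD2_c21 LD3_c0))))
theorem f51289 : Led Lsl_ct (LP (LK LD1_c9 LD2_c39 LD3_c22)) = (LP (LK LD1_c4 LD2_c53 LD3_c57)) :=
  Lre_c IH (LK LD1_c9 LD2_c39 LD3_c22) (LK LD1_c4 LD2_c53 LD3_c57) Lrfl Lrfl
theorem f251564 : Led Lsl_gt (LP (LK LD1_c5 LD2_c13 LD3_c5)) = (LP (LK LD1_c9 LD2_c39 LD3_c22)) :=
  Lgr Lrot150 (Lpe (K13.f183907 IH) (Lpr_gf (K14.f251560 IH) (Lpe (K14.f44057 IH) (Lpe (K10.f46163 IH) (Lpe (K1.f47104 IH) (Lpr_gt (K14.f47204 IH) (Lpe (K15.f201318 IH) (Lpe (K15.f44465 IH) (Lpe (f51289 IH) (Lpn (LP (LK LD1_c9 LD2_c39 LD3_c22))))))))))))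
theorem f51288 : Led Lsl_ct (LP (LK LD1_c4 LD2_c53 LD3_c57)) = (LP (LK LD1_c9 LD2_c39 LD3_c22)) :=
  Lre_c IH (LK LD1_c4 LD2_c53 LD3_c57) (LK LD1_c9 LD2_c39 LD3_c22) Lrfl Lrfl
theorem f212269 : Led Lsl_bt (LP (LK LD1_c4 LD2_c53 LD3_c57)) = (LP (LK LD1_c4 LD2_c7 LD3_c53)) :=
  Lgr Lrot127 (Lpr_bf (K15.f212267 IH) (Lpn (LP (LK LD1_c4 LD2_c7 LD3_c53))))
theorem f251566 : Led Lsl_gt (LP (LK LD1_c4 LD2_c7 LD3_c53)) = (LP (LK LD1_c5 LD2_c0 LD3_c59)) :=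
  Lgr Lrot164 (Lpe (f212269 IH) (Lpr_ct (f51288 IH) (Lpe (f251564 IH) (Lpe (K13.f183907 IH) (Lpr_gf (K14.f251560 IH) (Lpr_bf (K14.f230444 IH) (Lpr_ct (K9.f28276 IH) (Lpr_gf (K14.f251558 IH) (Lpe (K14.f251449 IH) (Lpr_bt (K14.f240161 IH) (Lpn (LP (LK LD1_c5 LD2_c0 LD3_c59)))))))))))))
theorem f285240 : Led Lsl_gt (LP (LK LD1_c10 LD2_c2 LD3_c13)) = (LP (LK LD1_c5 LD2_c5 LD3_c32)) :=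
  Lre_g IH (LK LD1_c10 LD2_c2 LD3_c13) (LK LD1_c5 LD2_c5 LD3_c32) Lrfl Lrfl
theorem f285241 : Led Lsl_ct (LP (LK LD1_c18 LD2_c20 LD3_c27)) = (LP (LK LD1_c10 LD2_c2 LD3_c13)) :=
  Lre_c IH (LK LD1_c18 LD2_c20 LD3_c27) (LK LD1_c10 LD2_c2 LD3_c13) Lrfl Lrfl
theorem f188413 : Led Lsl_bt (LP (LK LD1_c5 LD2_c17 LD3_c32)) = (LP (LK LD1_c10 LD2_c24 LD3_c40)) :=
  Lre_b IH (LK LD1_c5 LD2_c17 LD3_c32) (LK LD1_c10 LD2_c24 LD3_c40) Lrfl Lrfl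
theorem f417480 : Led Lsl_bt (LP (LK LD1_c18 LD2_c20 LD3_c27)) = (LP (LK LD1_c18 LD2_c53 LD3_c16)) :=
  Lgr Lrot92 (Lpr_ct (f285241 IH) (Lpr_gt (f285240 IH) (Lpe (K15.f186725 IH) (Lpr_bt (f251451 IH) (Lpe (K16.f192528 IH) (Lpr_ct (K15.f51339 IH) (Lpr_gt (f251566 IH) (Lpr_cf (K15.f188404 IH) (Lpr_bt (f188413 IH) (Lpr_gt (f188416 IH) (Lpn (LP (LK LD1_c18 LD2_c53 LD3_c16)))))))))))))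
theorem f417484 : Led Lsl_et (LP (LK LD1_c27 LD2_c59 LD3_c12)) = (LP (LK LD1_c18 LD2_c20 LD3_c27)) :=
  Lre_e IH (LK LD1_c27 LD2_c59 LD3_c12) (LK LD1_c18 LD2_c20 LD3_c27) Lrfl Lrfl
theorem f417485 : Led Lsl_et (LP (LK LD1_c18 LD2_c53 LD3_c16)) = (LP (LK LD1_c28 LD2_c21 LD3_c0)) :=
  Lre_e IH (LK LD1_c18 LD2_c53 LD3_c16) (LK LD1_c28 LD2_c21 LD3_c0) Lrfl Lrfl
theorem f417486 : Led Lsl_bf (LP (LK LD1_c27 LD2_c59 LD3_c12)) = (LP (LK LD1_c28 LD2_c21 LD3_c0)) :=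
  Lgr Lrot96 (Lpr_et (f417484 IH) (Lpr_bt (f417480 IH) (Lpr_et (f417485 IH) (Lpn (LP (LK LD1_c28 LD2_c21 LD3_c0))))))
theorem f417488 : Led Lsl_bt (LP (LK LD1_c27 LD2_c59 LD3_c12)) = (LP (LK LD1_c28 LD2_c21 LD3_c0)) :=
  Lgr Lrot127 (Lpr_bf (f417486 IH) (Lpn (LP (LK LD1_c28 LD2_c21 LD3_c0))))
theorem f417492 : Led Lsl_ct (LP (LK LD1_c18 LD2_c20 LD3_c28)) = (LP (LK LD1_c27 LD2_c59 LD3_c12)) :=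
  Lre_c IH (LK LD1_c18 LD2_c20 LD3_c28) (LK LD1_c27 LD2_c59 LD3_c12) Lrfl Lrfl
theorem f417493 : Led Lsl_bt (LP (LK LD1_c27 LD2_c59 LD3_c10)) = (LP (LK LD1_c18 LD2_c20 LD3_c28)) :=
  Lre_b IH (LK LD1_c27 LD2_c59 LD3_c10) (LK LD1_c18 LD2_c20 LD3_c28) Lrfl Lrfl
theorem f285243 : Led Lsl_bt (LP (LK LD1_c18 LD2_c20 LD3_c26)) = (LP (LK LD1_c10 LD2_c2 LD3_c13)) :=
  Lre_b IH (LK LD1_c18 LD2_c20 LD3_c26) (LK LD1_c10 LD2_c2 LD3_c13) Lrfl Lrfl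
theorem f169668 : Led Lsl_gt (LP (LK LD1_c10 LD2_c3 LD3_c36)) = (LP (LK LD1_c18 LD2_c22 LD3_c17)) :=
  Lre_g IH (LK LD1_c10 LD2_c3 LD3_c36) (LK LD1_c18 LD2_c22 LD3_c17) Lrfl Lrfl
theorem f422703 : Led Lsl_ct (LP (LK LD1_c18 LD2_c20 LD3_c26)) = (LP (LK LD1_c18 LD2_c22 LD3_c17)) :=
  Lgr Lrot63 (Lpr_bt (f285243 IH) (Lpr_gt (f285240 IH) (Lpe (K15.f169458 IH) (Lpr_ct (K10.f169457 IH) (Lpr_gt (K10.f178981 IH) (Lpe (K9.f163683 IH) (Lpr_bt (f165874 IH) (Lpr_gt (f165875 IH) (Lpr_ct (f169667 IH) (Lpr_gt (f169668 IH) (Lpn (LP (LK LD1_c18 LD2_c22 LD3_c17)))))))))))))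
theorem f422707 : Led Lsl_et (LP (LK LD1_c27 LD2_c59 LD3_c10)) = (LP (LK LD1_c18 LD2_c20 LD3_c26)) :=
  Lre_e IH (LK LD1_c27 LD2_c59 LD3_c10) (LK LD1_c18 LD2_c20 LD3_c26) Lrfl Lrfl
theorem f422708 : Led Lsl_et (LP (LK LD1_c18 LD2_c22 LD3_c17)) = (LP (LK LD1_c28 LD2_c0 LD3_c24)) :=
  Lre_e IH (LK LD1_c18 LD2_c22 LD3_c17) (LK LD1_c28 LD2_c0 LD3_c24) Lrfl Lrfl
theorem f422709 : Led Lsl_cf (LP (LK LD1_c27 LD2_c59 LD3_c10)) = (LP (LK LD1_c28 LD2_c0 LD3_c24)) :=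
  Lgr Lrot39 (Lpr_et (f422707 IH) (Lpr_ct (f422703 IH) (Lpr_et (f422708 IH) (Lpn (LP (LK LD1_c28 LD2_c0 LD3_c24))))))
theorem f585866 : Led Lsl_bt (LP (LK LD1_c28 LD2_c24 LD3_c61)) = (LP (LK LD1_c28 LD2_c0 LD3_c24)) :=
  Lgr Lrot128 (Lpr_cf (f585864 IH) (Lpe (f417488 IH) (Lpe (f417492 IH) (Lpe (f417493 IH) (Lpr_cf (f422709 IH) (Lpn (LP (LK LD1_c28 LD2_c0 LD3_c24))))))))
theorem f422714 : Led Lsl_et (LP (LK LD1_c28 LD2_c0 LD3_c24)) = (LP (LK LD1_c18 LD2_c22 LD3_c17)) :=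
  Lre_e IH (LK LD1_c28 LD2_c0 LD3_c24) (LK LD1_c18 LD2_c22 LD3_c17) Lrfl Lrfl
theorem f585869 : Led Lsl_bf (LP (LK LD1_c18 LD2_c57 LD3_c7)) = (LP (LK LD1_c18 LD2_c22 LD3_c17)) :=
  Lgr Lrot96 (Lpr_et (f185258 IH) (Lpr_bt (f585866 IH) (Lpr_et (f422714 IH) (Lpn (LP (LK LD1_c18 LD2_c22 LD3_c17))))))
theorem f185257 : Led Lsl_dt (LP (LK LD1_c18 LD2_c57 LD3_c7)) = (LP (LK LD1_c10 LD2_c27 LD3_c13)) :=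
  Lre_d IH (LK LD1_c18 LD2_c57 LD3_c7) (LK LD1_c10 LD2_c27 LD3_c13) Lrfl Lrfl
theorem f405285 : Led Lsl_bt (LP (LK LD1_c10 LD2_c27 LD3_c13)) = (LP (LK LD1_c18 LD2_c57 LD3_c6)) :=
  Lre_b IH (LK LD1_c10 LD2_c27 LD3_c13) (LK LD1_c18 LD2_c57 LD3_c6) Lrfl Lrfl
theorem f585871 : Led Lsl_dt (LP (LK LD1_c18 LD2_c57 LD3_c6)) = (LP (LK LD1_c18 LD2_c22 LD3_c17)) :=
  Lgr Lrot79 (Lpe (f405285 IH) (Lpe (f185257 IH) (Lpr_bf (f585869 IH) (Lpn (LP (LK LD1_c18 LD2_c22 LD3_c17))))))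
theorem f214611 : Led Lsl_ct (LP (LK LD1_c10 LD2_c27 LD3_c16)) = (LP (LK LD1_c18 LD2_c57 LD3_c6)) :=
  Lre_c IH (LK LD1_c10 LD2_c27 LD3_c16) (LK LD1_c18 LD2_c57 LD3_c6) Lrfl Lrfl
theorem f43545 : Led Lsl_bt (LP (LK LD1_c4 LD2_c54 LD3_c3)) = (LP (LK LD1_c9 LD2_c39 LD3_c32)) :=
  Lre_b IH (LK LD1_c4 LD2_c54 LD3_c3) (LK LD1_c9 LD2_c39 LD3_c32) Lrfl Lrfl
theorem f50023 : Led Lsl_ct (LP (LK LD1_c9 LD2_c39 LD3_c32)) = (LP (LK LD1_c8 LD2_c15 LD3_c52)) :=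
  Lgr Lrot83 (Lpe (f43545 IH) (Lpe (K9.f43514 IH) (Lpr_bf (K9.f49835 IH) (Lpe (K9.f49114 IH) (Lpe (f49125 IH) (Lpn (LP (LK LD1_c8 LD2_c15 LD3_c52))))))))
theorem f49973 : Led Lsl_ft (LP (LK LD1_c8 LD2_c15 LD3_c52)) = (LP (LK LD1_c15 LD2_c32 LD3_c16)) :=
  Lre_f IH (LK LD1_c8 LD2_c15 LD3_c52) (LK LD1_c15 LD2_c32 LD3_c16) Lrfl Lrfl
theorem f191668 : Led Lsl_ct (LP (LK LD1_c15 LD2_c32 LD3_c16)) = (LP (LK LD1_c10 LD2_c26 LD3_c25)) :=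
  Lgr Lrot40 (Lpe (f49973 IH) (Lpe (f50023 IH) (Lpr_ff (f191587 IH) (Lpn (LP (LK LD1_c10 LD2_c26 LD3_c25))))))
theorem f582681 : Led Lsl_gt (LP (LK LD1_c18 LD2_c21 LD3_c52)) = (LP (LK LD1_c10 LD2_c26 LD3_c25)) :=
  Lgr Lrot149 (Lpr_cf (f582675 IH) (Lpr_gf (f197111 IH) (Lpe (f197110 IH) (Lpr_ct (f197109 IH) (Lpe (f192900 IH) (Lpe (K37.f197056 IH) (Lpr_bt (K37.f197117 IH) (Lpr_gf (K16.f215051 IH) (Lpe (f50016 IH) (Lpr_ct (f191668 IH) (Lpn (LP (LK LD1_c10 LD2_c26 LD3_c25)))))))))))))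
theorem f585875 : Led Lsl_gt (LP (LK LD1_c10 LD2_c11 LD3_c15)) = (LP (LK LD1_c18 LD2_c20 LD3_c26)) :=
  Lgr Lrot187 (Lpe (f186804 IH) (Lpr_gf (f300597 IH) (Lpr_dt (f300587 IH) (Lpr_gt (f582681 IH) (Lpe (f191569 IH) (Lpr_gt (K13.f214608 IH) (Lpr_ct (f214611 IH) (Lpr_dt (f585871 IH) (Lpe (f422703 IH) (Lpn (LP (LK LD1_c18 LD2_c20 LD3_c26))))))))))))
theorem f586190 : Led Lsl_af (LP (LK LD1_c18 LD2_c20 LD3_c26)) = (LP (LK LD1_c18 LD2_c10 LD3_c40)) :=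
  Lgr Lrot31 (Lpe (f585875 IH) (Lpe (f186797 IH) (Lpr_ft (f586185 IH) (Lpn (LP (LK LD1_c18 LD2_c10 LD3_c40))))))
theorem f582662 : Led Lsl_df (LP (LK LD1_c10 LD2_c14 LD3_c55)) = (LP (LK LD1_c17 LD2_c45 LD3_c48)) :=
  Lgr Lrot38 (Lpr_dt (f582656 IH) (Lpn (LP (LK LD1_c17 LD2_c45 LD3_c48))))
theorem f164638 : Led Lsl_bt (LP (LK LD1_c5 LD2_c11 LD3_c45)) = (LP (LK LD1_c2 LD2_c32 LD3_c46)) :=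
  Lre_b IH (LK LD1_c5 LD2_c11 LD3_c45) (LK LD1_c2 LD2_c32 LD3_c46) Lrfl Lrfl
theorem f302360 : Led Lsl_ff (LP (LK LD1_c5 LD2_c11 LD3_c45)) = (LP (LK LD1_c5 LD2_c4 LD3_c39)) :=
  Lgr Lrot25 (Lpr_bt (f164638 IH) (Lpr_ft (K18.f302358 IH) (Lpr_bt (f166204 IH) (Lpn (LP (LK LD1_c5 LD2_c4 LD3_c39))))))
theorem f163813 : Led Lsl_bt (LP (LK LD1_c5 LD2_c4 LD3_c39)) = (LP (LK LD1_c2 LD2_c29 LD3_c41)) :=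
  Lre_b IH (LK LD1_c5 LD2_c4 LD3_c39) (LK LD1_c2 LD2_c29 LD3_c41) Lrfl Lrfl
theorem f169578 : Led Lsl_dt (LP (LK LD1_c2 LD2_c30 LD3_c25)) = (LP (LK LD1_c5 LD2_c4 LD3_c39)) :=
  Lgr Lrot79 (Lpe (f165874 IH) (Lpr_df (K9.f169575 IH) (Lpe (f163813 IH) (Lpn (LP (LK LD1_c5 LD2_c4 LD3_c39))))))
theorem f406480 : Led Lsl_dt (LP (LK LD1_c5 LD2_c11 LD3_c45)) = (LP (LK LD1_c2 LD2_c32 LD3_c58)) :=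
  Lgr Lrot60 (Lpr_ff (f302360 IH) (Lpe (f169578 IH) (Lpe (K18.f300617 IH) (Lpn (LP (LK LD1_c2 LD2_c32 LD3_c58))))))
theorem f406485 : Led Lsl_df (LP (LK LD1_c5 LD2_c11 LD3_c45)) = (LP (LK LD1_c2 LD2_c32 LD3_c58)) :=
  Lgr Lrot38 (Lpr_dt (f406480 IH) (Lpn (LP (LK LD1_c2 LD2_c32 LD3_c58))))
theorem f302321 : Led Lsl_at (LP (LK LD1_c5 LD2_c11 LD3_c45)) = (LP (LK LD1_c10 LD2_c14 LD3_c19)) :=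
  Lre_a IH (LK LD1_c5 LD2_c11 LD3_c45) (LK LD1_c10 LD2_c14 LD3_c19) Lrfl Lrfl
theorem f406488 : Led Lsl_dt (LP (LK LD1_c10 LD2_c14 LD3_c19)) = (LP (LK LD1_c5 LD2_c12 LD3_c18)) :=
  Lgr Lrot44 (Lpe (f302321 IH) (Lpr_df (f406485 IH) (Lpe (f300629 IH) (Lpn (LP (LK LD1_c5 LD2_c12 LD3_c18))))))
theorem f165891 : Led Lsl_dt (LP (LK LD1_c5 LD2_c4 LD3_c12)) = (LP (LK LD1_c9 LD2_c59 LD3_c17)) :=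
  Lre_d IH (LK LD1_c5 LD2_c4 LD3_c12) (LK LD1_c9 LD2_c59 LD3_c17) Lrfl Lrfl
theorem f583602 : Led Lsl_gf (LP (LK LD1_c10 LD2_c14 LD3_c19)) = (LP (LK LD1_c9 LD2_c59 LD3_c17)) :=
  Lgr Lrot143 (Lpr_dt (f406488 IH) (Lpe (K18.f300430 IH) (Lpr_df (f582662 IH) (Lpr_gf (f583598 IH) (Lpe (f166000 IH) (Lpe (K37.f165411 IH) (Lpe (f165410 IH) (Lpr_gt (f165890 IH) (Lpr_dt (f165891 IH) (Lpn (LP (LK LD1_c9 LD2_c59 LD3_c17))))))))))))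
theorem f583604 : Led Lsl_gt (LP (LK LD1_c5 LD2_c4 LD3_c39)) = (LP (LK LD1_c9 LD2_c59 LD3_c17)) :=
  Lgr Lrot5 (Lpe (f302360 IH) (Lpr_at (f302321 IH) (Lpr_gf (f583602 IH) (Lpn (LP (LK LD1_c9 LD2_c59 LD3_c17))))))
theorem f71602 : Led Lsl_gt (LP (LK LD1_c5 LD2_c55 LD3_c25)) = (LP (LK LD1_c2 LD2_c54 LD3_c3)) :=
  Lre_g IH (LK LD1_c5 LD2_c55 LD3_c25) (LK LD1_c2 LD2_c54 LD3_c3) Lrfl Lrfl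
theorem f166180 : Led Lsl_bt (LP (LK LD1_c11 LD2_c36 LD3_c10)) = (LP (LK LD1_c5 LD2_c55 LD3_c25)) :=
  Lre_b IH (LK LD1_c11 LD2_c36 LD3_c10) (LK LD1_c5 LD2_c55 LD3_c25) Lrfl Lrfl
theorem f166181 : Led Lsl_ct (LP (LK LD1_c11 LD2_c36 LD3_c10)) = (LP (LK LD1_c20 LD2_c34 LD3_c20)) :=
  Lre_c IH (LK LD1_c11 LD2_c36 LD3_c10) (LK LD1_c20 LD2_c34 LD3_c20) Lrfl Lrfl
theorem f165892 : Led Lsl_ct (LP (LK LD1_c9 LD2_c59 LD3_c17)) = (LP (LK LD1_c18 LD2_c15 LD3_c42)) :=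
  Lre_c IH (LK LD1_c9 LD2_c59 LD3_c17) (LK LD1_c18 LD2_c15 LD3_c42) Lrfl Lrfl
theorem f583610 : Led Lsl_gf (LP (LK LD1_c20 LD2_c34 LD3_c20)) = (LP (LK LD1_c18 LD2_c15 LD3_c42)) :=
  Lgr Lrot129 (Lpe (f166181 IH) (Lpr_bt (f166180 IH) (Lpr_gt (f71602 IH) (Lpe (K2.f71528 IH) (Lpr_ct (K2.f71525 IH) (Lpr_gt (K9.f166162 IH) (Lpe (K9.f166199 IH) (Lpr_bt (f166204 IH) (Lpr_gt (f583604 IH) (Lpr_ct (f165892 IH) (Lpn (LP (LK LD1_c18 LD2_c15 LD3_c42)))))))))))))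
theorem f188515 : Led Lsl_ct (LP (LK LD1_c20 LD2_c34 LD3_c20)) = (LP (LK LD1_c11 LD2_c36 LD3_c10)) :=
  Lre_c IH (LK LD1_c20 LD2_c34 LD3_c20) (LK LD1_c11 LD2_c36 LD3_c10) Lrfl Lrfl
theorem f422705 : Led Lsl_cf (LP (LK LD1_c18 LD2_c20 LD3_c26)) = (LP (LK LD1_c18 LD2_c22 LD3_c17)) :=
  Lgr Lrot11 (Lpr_ct (f422703 IH) (Lpn (LP (LK LD1_c18 LD2_c22 LD3_c17))))
theorem f583615 : Led Lsl_df (LP (LK LD1_c11 LD2_c36 LD3_c10)) = (LP (LK LD1_c18 LD2_c20 LD3_c26)) :=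
  Lgr Lrot162 (Lpe (f188515 IH) (Lpr_gf (f583610 IH) (Lpe (f165892 IH) (Lpe (f583604 IH) (Lpe (f169608 IH) (Lpr_gt (f165875 IH) (Lpr_ct (f169667 IH) (Lpr_gt (f169668 IH) (Lpe (f422705 IH) (Lpn (LP (LK LD1_c18 LD2_c20 LD3_c26))))))))))))
theorem f583618 : Led Lsl_at (LP (LK LD1_c11 LD2_c36 LD3_c10)) = (LP (LK LD1_c20 LD2_c34 LD3_c19)) :=
  Lre_a IH (LK LD1_c11 LD2_c36 LD3_c10) (LK LD1_c20 LD2_c34 LD3_c19) Lrfl Lrfl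
theorem f586194 : Led Lsl_dt (LP (LK LD1_c20 LD2_c34 LD3_c19)) = (LP (LK LD1_c18 LD2_c10 LD3_c40)) :=
  Lgr Lrot44 (Lpe (f583618 IH) (Lpr_df (f583615 IH) (Lpr_af (f586190 IH) (Lpn (LP (LK LD1_c18 LD2_c10 LD3_c40))))))
theorem f586181 : Led Lsl_ct (LP (LK LD1_c18 LD2_c39 LD3_c13)) = (LP (LK LD1_c18 LD2_c10 LD3_c40)) :=
  Lgr Lrot59 (Lpr_cf (f586177 IH) (Lpn (LP (LK LD1_c18 LD2_c10 LD3_c40))))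
theorem f582778 : Led Lsl_df (LP (LK LD1_c9 LD2_c59 LD3_c24)) = (LP (LK LD1_c9 LD2_c39 LD3_c32)) :=
  Lgr Lrot12 (Lpr_bt (f582775 IH) (Lpr_dt (K9.f43501 IH) (Lpr_bt (f43545 IH) (Lpn (LP (LK LD1_c9 LD2_c39 LD3_c32))))))
theorem f230162 : Led Lsl_ct (LP (LK LD1_c10 LD2_c28 LD3_c52)) = (LP (LK LD1_c18 LD2_c59 LD3_c43)) :=
  Lre_c IH (LK LD1_c10 LD2_c28 LD3_c52) (LK LD1_c18 LD2_c59 LD3_c43) Lrfl Lrfl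
theorem f230209 : Led Lsl_bt (LP (LK LD1_c10 LD2_c28 LD3_c52)) = (LP (LK LD1_c10 LD2_c12 LD3_c56)) :=
  Lgr Lrot127 (Lpr_bf (K37.f230206 IH) (Lpn (LP (LK LD1_c10 LD2_c12 LD3_c56))))
theorem f584318 : Led Lsl_gt (LP (LK LD1_c10 LD2_c12 LD3_c56)) = (LP (LK LD1_c18 LD2_c35 LD3_c48)) :=
  Lgr Lrot82 (Lpe (f230209 IH) (Lpr_ct (f230162 IH) (Lpr_gf (f584303 IH) (Lpe (f183990 IH) (Lpr_bt (f183989 IH) (Lpe (K9.f183983 IH) (Lpe (f582775 IH) (Lpr_ct (f405306 IH) (Lpe (f405346 IH) (Lpr_cf (f405340 IH) (Lpn (LP (LK LD1_c18 LD2_c35 LD3_c48)))))))))))))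

end

end K44

end

end Cfsg.Agent.Helper28.S1692
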