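import Cfsg.Agent.Lib.Helper28.S1692.Seeds44

set_option autoImplicit false
set_option maxRecDepth 100000
set_option linter.all false

namespace Cfsg.Agent.Helper28.S1692

open Cfsg.Agent.Helper28
open Cfsg.Spor.ON (Gen)

noncomputable section

namespace K45
abbrev LD1_c0 := D1.c0
abbrev LD1_c1 := D1.c1
abbrev LD1_c2 := D1.c2
abbrev LD1_c3 := D1.c3
abbrev LD1_c4 := D1.c4
abbrev LD1_c5 := D1.c5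
abbrev LD1_c6 := D1.c6
abbrev LD1_c7 := D1.c7
abbrev LD1_c8 := D1.c8
abbrev LD1_c9 := D1.c9
abbrev LD1_c10 := D1.c10
abbrev LD1_c11 := D1.c11
abbrev LD1_c12 := D1.c12
abbrev LD1_c13 := D1.c13
abbrev LD1_c14 := D1.c14
abbrev LD1_c15 := D1.c15
abbrev LD1_c16 := D1.c16
abbrev LD1_c17 := D1.c17
abbrev LD1_c18 := D1.c18
abbrev LD1_c19 := D1.c19
abbrev LD1_c20 := D1.c20
abbrev LD1_c21 := D1.c21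
abbrev LD1_c22 := D1.c22
abbrev LD1_c23 := D1.c23
abbrev LD1_c24 := D1.c24
abbrev LD1_c25 := D1.c25
abbrev LD1_c26 := D1.c26
abbrev LD1_c27 := D1.c27
abbrev LD1_c28 := D1.c28
abbrev LD1_c29 := D1.c29
abbrev LD1_c30 := D1.c30
abbrev LD1_c31 := D1.c31
abbrev LD1_c32 := D1.c32
abbrev LD2_c0 := D2.c0
abbrev LD2_c1 := D2.c1
abbrev LD2_c2 := D2.c2
abbrev LD2_c3 := D2.c3
abbrev LD2_c4 := D2.c4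
abbrev LD2_c5 := D2.c5
abbrev LD2_c6 := D2.c6
abbrev LD2_c7 := D2.c7
abbrev LD2_c8 := D2.c8
abbrev LD2_c9 := D2.c9
abbrev LD2_c10 := D2.c10
abbrev LD2_c11 := D2.c11
abbrev LD2_c12 := D2.c12
abbrev LD2_c13 := D2.c13
abbrev LD2_c14 := D2.c14
abbrev LD2_c15 := D2.c15
abbrev LD2_c16 := D2.c16
abbrev LD2_c17 := D2.c17
abbrev LD2_c18 := D2.c18
abbrev LD2_c19 := D2.c19
abbrev LD2_c20 := D2.c20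
abbrev LD2_c21 := D2.c21
abbrev LD2_c22 := D2.c22
abbrev LD2_c23 := D2.c23
abbrev LD2_c24 := D2.c24
abbrev LD2_c25 := D2.c25
abbrev LD2_c26 := D2.c26
abbrev LD2_c27 := D2.c27
abbrev LD2_c28 := D2.c28
abbrev LD2_c29 := D2.c29
abbrev LD2_c30 := D2.c30
abbrev LD2_c31 := D2.c31
abbrev LD2_c32 := D2.c32
abbrev LD2_c33 := D2.c33
abbrev LD2_c34 := D2.c34
abbrev LD2_c35 := D2.c35
abbrev LD2_c36 := D2.c36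
abbrev LD2_c37 := D2.c37
abbrev LD2_c38 := D2.c38
abbrev LD2_c39 := D2.c39
abbrev LD2_c40 := D2.c40
abbrev LD2_c41 := D2.c41
abbrev LD2_c42 := D2.c42
abbrev LD2_c43 := D2.c43
abbrev LD2_c44 := D2.c44
abbrev LD2_c45 := D2.c45
abbrev LD2_c46 := D2.c46
abbrev LD2_c47 := D2.c47
abbrev LD2_c48 := D2.c48
abbrev LD2_c49 := D2.c49
abbrev LD2_c50 := D2.c50
abbrev LD2_c51 := D2.c51
abbrev LD2_c52 := D2.c52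
abbrev LD2_c53 := D2.c53
abbrev LD2_c54 := D2.c54
abbrev LD2_c55 := D2.c55
abbrev LD2_c56 := D2.c56
abbrev LD2_c57 := D2.c57
abbrev LD2_c58 := D2.c58
abbrev LD2_c59 := D2.c59
abbrev LD3_c0 := D3.c0
abbrev LD3_c1 := D3.c1
abbrev LD3_c2 := D3.c2
abbrev LD3_c3 := D3.c3
abbrev LD3_c4 := D3.c4
abbrev LD3_c5 := D3.c5
abbrev LD3_c6 := D3.c6
abbrev LD3_c7 := D3.c7
abbrev LD3_c8 := D3.c8
abbrev LD3_c9 := D3.c9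
abbrev LD3_c10 := D3.c10
abbrev LD3_c11 := D3.c11
abbrev LD3_c12 := D3.c12
abbrev LD3_c13 := D3.c13
abbrev LD3_c14 := D3.c14
abbrev LD3_c15 := D3.c15
abbrev LD3_c16 := D3.c16
abbrev LD3_c17 := D3.c17
abbrev LD3_c18 := D3.c18
abbrev LD3_c19 := D3.c19
abbrev LD3_c20 := D3.c20
abbrev LD3_c21 := D3.c21
abbrev LD3_c22 := D3.c22
abbrev LD3_c23 := D3.c23
abbrev LD3_c24 := D3.c24
abbrev LD3_c25 := D3.c25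
abbrev LD3_c26 := D3.c26
abbrev LD3_c27 := D3.c27
abbrev LD3_c28 := D3.c28
abbrev LD3_c29 := D3.c29
abbrev LD3_c30 := D3.c30
abbrev LD3_c31 := D3.c31
abbrev LD3_c32 := D3.c32
abbrev LD3_c33 := D3.c33
abbrev LD3_c34 := D3.c34
abbrev LD3_c35 := D3.c35
abbrev LD3_c36 := D3.c36
abbrev LD3_c37 := D3.c37
abbrev LD3_c38 := D3.c38
abbrev LD3_c39 := D3.c39
abbrev LD3_c40 := D3.c40
abbrev LD3_c41 := D3.c41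
abbrev LD3_c42 := D3.c42
abbrev LD3_c43 := D3.c43
abbrev LD3_c44 := D3.c44
abbrev LD3_c45 := D3.c45
abbrev LD3_c46 := D3.c46
abbrev LD3_c47 := D3.c47
abbrev LD3_c48 := D3.c48
abbrev LD3_c49 := D3.c49
abbrev LD3_c50 := D3.c50
abbrev LD3_c51 := D3.c51
abbrev LD3_c52 := D3.c52
abbrev LD3_c53 := D3.c53
abbrev LD3_c54 := D3.c54
abbrev LD3_c55 := D3.c55
abbrev LD3_c56 := D3.c56
abbrev LD3_c57 := D3.c57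
abbrev LD3_c58 := D3.c58
abbrev LD3_c59 := D3.c59
abbrev LD3_c60 := D3.c60
abbrev LD3_c61 := D3.c61
abbrev LG_g := Gen.g
abbrev Lsl_gt : Gen × Bool := sl_gt
alias Lfl_gt := fl_gt
alias Lpr_gt := pr_gt
abbrev Lsl_gf : Gen × Bool := sl_gf
alias Lfl_gf := fl_gf
alias Lpr_gf := pr_gf
alias Lre_g := re_g
alias Leoe_g := eoe_g
abbrev LG_a := Gen.a
abbrev Lsl_at : Gen × Bool := sl_at
alias Lfl_at := fl_at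
alias Lpr_at := pr_at
abbrev Lsl_af : Gen × Bool := sl_af
alias Lfl_af := fl_af
alias Lpr_af := pr_af
alias Lre_a := re_a
alias Leoe_a := eoe_a
abbrev LG_b := Gen.b
abbrev Lsl_bt : Gen × Bool := sl_bt
alias Lfl_bt := fl_bt
alias Lpr_bt := pr_bt
abbrev Lsl_bf : Gen × Bool := sl_bf
alias Lfl_bf := fl_bf
alias Lpr_bf := pr_bf
alias Lre_b := re_b
alias Leoe_b := eoe_b
abbrev LG_c := Gen.c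
abbrev Lsl_ct : Gen × Bool := sl_ct
alias Lfl_ct := fl_ct
alias Lpr_ct := pr_ct
abbrev Lsl_cf : Gen × Bool := sl_cf
alias Lfl_cf := fl_cf
alias Lpr_cf := pr_cf
alias Lre_c := re_c
alias Leoe_c := eoe_c
abbrev LG_d := Gen.d
abbrev Lsl_dt : Gen × Bool := sl_dt
alias Lfl_dt := fl_dt
alias Lpr_dt := pr_dt
abbrev Lsl_df : Gen × Bool := sl_df
alias Lfl_df := fl_df
alias Lpr_df := pr_df
alias Lre_d := re_d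
alias Leoe_d := eoe_d
abbrev LG_e := Gen.e
abbrev Lsl_et : Gen × Bool := sl_et
alias Lfl_et := fl_et
alias Lpr_et := pr_et
abbrev Lsl_ef : Gen × Bool := sl_ef
alias Lfl_ef := fl_ef
alias Lpr_ef := pr_ef
alias Lre_e := re_e
alias Leoe_e := eoe_e
abbrev LG_f := Gen.f
abbrev Lsl_ft : Gen × Bool := sl_ft
alias Lfl_ft := fl_ft
alias Lpr_ft := pr_ft
abbrev Lsl_ff : Gen × Bool := sl_ff
alias Lfl_ff := fl_ff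
alias Lpr_ff := pr_ff
alias Lre_f := re_f
alias Leoe_f := eoe_f
abbrev LK := Pt.mk
abbrev LQ : Type := Qt rels S
abbrev LP (p : Pt) : LQ := P p
abbrev Led (l : Gen × Bool) (c : LQ) : LQ := ed l c
abbrev LEOK (x : Gen) (p : Pt) : Prop := EntryOK rels S fwd inv o plet idx x p
alias Lpe := pe
alias Lpn := pn
alias Lgr := gr
alias Lpq := pq
alias Lpqs := pqs
alias Llr := lr
alias Leop := eop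
alias Lefun := efun
alias Lecon := econ
theorem Lrfl {α : Sort _} {a : α} : a = a := rfl
alias Lrot0 := rot0
alias Lrot1 := rot1
alias Lrot2 := rot2
alias Lrot3 := rot3
alias Lrot4 := rot4
alias Lrot5 := rot5
alias Lrot6 := rot6
alias Lrot7 := rot7
alias Lrot8 := rot8
alias Lrot9 := rot9
alias Lrot10 := rot10
alias Lrot11 := rot11
alias Lrot12 := rot12
alias Lrot13 := rot13
alias Lrot14 := rot14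
alias Lrot15 := rot15
alias Lrot16 := rot16
alias Lrot17 := rot17
alias Lrot18 := rot18
alias Lrot19 := rot19
alias Lrot20 := rot20
alias Lrot21 := rot21
alias Lrot22 := rot22
alias Lrot23 := rot23
alias Lrot24 := rot24
alias Lrot25 := rot25
alias Lrot26 := rot26
alias Lrot27 := rot27
alias Lrot28 := rot28
alias Lrot29 := rot29
alias Lrot30 := rot30
alias Lrot31 := rot31
alias Lrot33 := rot33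
alias Lrot34 := rot34
alias Lrot35 := rot35
alias Lrot36 := rot36
alias Lrot37 := rot37
alias Lrot38 := rot38
alias Lrot39 := rot39
alias Lrot40 := rot40
alias Lrot41 := rot41
alias Lrot42 := rot42
alias Lrot43 := rot43
alias Lrot44 := rot44
alias Lrot45 := rot45
alias Lrot46 := rot46
alias Lrot47 := rot47
alias Lrot48 := rot48
alias Lrot49 := rot49
alias Lrot50 := rot50
alias Lrot51 := rot51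
alias Lrot52 := rot52
alias Lrot53 := rot53
alias Lrot54 := rot54
alias Lrot55 := rot55
alias Lrot56 := rot56
alias Lrot57 := rot57
alias Lrot58 := rot58
alias Lrot59 := rot59
alias Lrot60 := rot60
alias Lrot61 := rot61
alias Lrot62 := rot62
alias Lrot63 := rot63
alias Lrot64 := rot64
alias Lrot65 := rot65
alias Lrot66 := rot66
alias Lrot67 := rot67
alias Lrot68 := rot68
alias Lrot69 := rot69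
alias Lrot70 := rot70
alias Lrot71 := rot71
alias Lrot72 := rot72
alias Lrot73 := rot73
alias Lrot74 := rot74
alias Lrot75 := rot75
alias Lrot76 := rot76
alias Lrot77 := rot77
alias Lrot78 := rot78
alias Lrot79 := rot79
alias Lrot80 := rot80
alias Lrot81 := rot81
alias Lrot82 := rot82
alias Lrot83 := rot83
alias Lrot84 := rot84
alias Lrot85 := rot85
alias Lrot86 := rot86
alias Lrot87 := rot87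
alias Lrot88 := rot88
alias Lrot90 := rot90
alias Lrot91 := rot91
alias Lrot92 := rot92
alias Lrot93 := rot93
alias Lrot94 := rot94
alias Lrot95 := rot95
alias Lrot96 := rot96
alias Lrot97 := rot97
alias Lrot98 := rot98
alias Lrot99 := rot99
alias Lrot100 := rot100
alias Lrot101 := rot101
alias Lrot102 := rot102
alias Lrot103 := rot103
alias Lrot104 := rot104
alias Lrot105 := rot105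
alias Lrot106 := rot106
alias Lrot107 := rot107
alias Lrot108 := rot108
alias Lrot109 := rot109
alias Lrot110 := rot110
alias Lrot111 := rot111
alias Lrot112 := rot112
alias Lrot113 := rot113
alias Lrot114 := rot114
alias Lrot115 := rot115
alias Lrot116 := rot116
alias Lrot117 := rot117
alias Lrot118 := rot118
alias Lrot119 := rot119
alias Lrot120 := rot120
alias Lrot121 := rot121
alias Lrot122 := rot122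
alias Lrot123 := rot123
alias Lrot124 := rot124
alias Lrot126 := rot126
alias Lrot127 := rot127
alias Lrot128 := rot128
alias Lrot129 := rot129
alias Lrot130 := rot130
alias Lrot131 := rot131
alias Lrot132 := rot132
alias Lrot134 := rot134
alias Lrot135 := rot135
alias Lrot136 := rot136
alias Lrot137 := rot137
alias Lrot138 := rot138
alias Lrot139 := rot139
alias Lrot140 := rot140
alias Lrot141 := rot141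
alias Lrot142 := rot142
alias Lrot143 := rot143
alias Lrot144 := rot144
alias Lrot145 := rot145
alias Lrot146 := rot146
alias Lrot147 := rot147
alias Lrot148 := rot148
alias Lrot149 := rot149
alias Lrot150 := rot150
alias Lrot151 := rot151
alias Lrot152 := rot152
alias Lrot153 := rot153
alias Lrot154 := rot154
alias Lrot155 := rot155
alias Lrot156 := rot156
alias Lrot157 := rot157
alias Lrot158 := rot158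
alias Lrot159 := rot159
alias Lrot160 := rot160
alias Lrot161 := rot161
alias Lrot162 := rot162
alias Lrot163 := rot163
alias Lrot164 := rot164
alias Lrot165 := rot165
alias Lrot166 := rot166
alias Lrot168 := rot168
alias Lrot169 := rot169
alias Lrot170 := rot170
alias Lrot171 := rot171
alias Lrot172 := rot172
alias Lrot173 := rot173
alias Lrot174 := rot174
alias Lrot175 := rot175
alias Lrot176 := rot176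
alias Lrot177 := rot177
alias Lrot178 := rot178
alias Lrot180 := rot180
alias Lrot181 := rot181
alias Lrot182 := rot182
alias Lrot183 := rot183
alias Lrot184 := rot184
alias Lrot187 := rot187
alias Lrot188 := rot188
alias Lrot191 := rot191

section
variable (IH : IHT)
include IH

theorem f214619 : Led Lsl_dt (LP (LK LD1_c10 LD2_c12 LD3_c56)) = (LP (LK LD1_c18 LD2_c35 LD3_c56)) :=
  Lre_d IH (LK LD1_c10 LD2_c12 LD3_c56) (LK LD1_c18 LD2_c35 LD3_c56) Lrfl Lrfl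
theorem f586156 : Led Lsl_gt (LP (LK LD1_c18 LD2_c35 LD3_c56)) = (LP (LK LD1_c19 LD2_c1 LD3_c57)) :=
  Lgr Lrot9 (Lpe (f214619 IH) (Lpr_gt (K44.f584318 IH) (Lpe (K44.f405340 IH) (Lpr_gt (K44.f405346 IH) (Lpr_ct (K38.f405307 IH) (Lpr_df (K44.f582778 IH) (Lpr_cf (K44.f51322 IH) (Lpe (K44.f49974 IH) (Lpr_cf (K44.f586148 IH) (Lpn (LP (LK LD1_c19 LD2_c1 LD3_c57))))))))))))
theorem f185247 : Led Lsl_ct (LP (LK LD1_c18 LD2_c57 LD3_c6)) = (LP (LK LD1_c10 LD2_c27 LD3_c16)) :=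
  Lre_c IH (LK LD1_c18 LD2_c57 LD3_c6) (LK LD1_c10 LD2_c27 LD3_c16) Lrfl Lrfl
theorem f185246 : Led Lsl_bt (LP (LK LD1_c18 LD2_c57 LD3_c6)) = (LP (LK LD1_c10 LD2_c27 LD3_c13)) :=
  Lre_b IH (LK LD1_c18 LD2_c57 LD3_c6) (LK LD1_c10 LD2_c27 LD3_c13) Lrfl Lrfl
theorem f214617 : Led Lsl_gf (LP (LK LD1_c10 LD2_c12 LD3_c56)) = (LP (LK LD1_c10 LD2_c27 LD3_c13)) :=
  Lgr Lrot181 (Lpr_ct (K37.f185505 IH) (Lpr_gt (K37.f185202 IH) (Lpe (K37.f163774 IH) (Lpr_bt (K19.f185493 IH) (Lpr_gt (K12.f185504 IH) (Lpe (K44.f185506 IH) (Lpe (K44.f191569 IH) (Lpr_gt (K13.f214608 IH) (Lpe (f185247 IH) (Lpr_bt (f185246 IH) (Lpn (LP (LK LD1_c10 LD2_c27 LD3_c13)))))))))))))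
theorem f214620 : Led Lsl_dt (LP (LK LD1_c10 LD2_c27 LD3_c11)) = (LP (LK LD1_c18 LD2_c57 LD3_c4)) :=
  Lre_d IH (LK LD1_c10 LD2_c27 LD3_c11) (LK LD1_c18 LD2_c57 LD3_c4) Lrfl Lrfl
theorem f586209 : Led Lsl_gf (LP (LK LD1_c20 LD2_c34 LD3_c19)) = (LP (LK LD1_c18 LD2_c57 LD3_c4)) :=
  Lgr Lrot143 (Lpr_dt (K44.f586194 IH) (Lpe (K44.f586181 IH) (Lpr_df (K44.f586167 IH) (Lpe (f586156 IH) (Lpe (f214619 IH) (Lpr_gf (f214617 IH) (Lpe (K44.f32704 IH) (Lpr_gt (K44.f185245 IH) (Lpr_dt (f214620 IH) (Lpn (LP (LK LD1_c18 LD2_c57 LD3_c4))))))))))))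
theorem f585208 : Led Lsl_at (LP (LK LD1_c10 LD2_c11 LD3_c15)) = (LP (LK LD1_c18 LD2_c21 LD3_c51)) :=
  Lgr Lrot100 (Lpr_af (K44.f585206 IH) (Lpn (LP (LK LD1_c18 LD2_c21 LD3_c51))))
theorem f169602 : Led Lsl_bt (LP (LK LD1_c5 LD2_c2 LD3_c33)) = (LP (LK LD1_c9 LD2_c55 LD3_c61)) :=
  Lre_b IH (LK LD1_c5 LD2_c2 LD3_c33) (LK LD1_c9 LD2_c55 LD3_c61) Lrfl Lrfl
theorem f584548 : Led Lsl_ff (LP (LK LD1_c10 LD2_c11 LD3_c15)) = (LP (LK LD1_c9 LD2_c55 LD3_c61)) :=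
  Lgr Lrot25 (Lpr_bt (K44.f185407 IH) (Lpr_ft (K44.f584546 IH) (Lpr_bt (f169602 IH) (Lpn (LP (LK LD1_c9 LD2_c55 LD3_c61))))))
theorem f185275 : Led Lsl_ct (LP (LK LD1_c5 LD2_c13 LD3_c9)) = (LP (LK LD1_c2 LD2_c33 LD3_c29)) :=
  Lre_c IH (LK LD1_c5 LD2_c13 LD3_c9) (LK LD1_c2 LD2_c33 LD3_c29) Lrfl Lrfl
theorem f185420 : Led Lsl_gt (LP (LK LD1_c5 LD2_c13 LD3_c17)) = (LP (LK LD1_c2 LD2_c33 LD3_c29)) :=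
  Lre_g IH (LK LD1_c5 LD2_c13 LD3_c17) (LK LD1_c2 LD2_c33 LD3_c29) Lrfl Lrfl
theorem f185425 : Led Lsl_ct (LP (LK LD1_c10 LD2_c16 LD3_c56)) = (LP (LK LD1_c5 LD2_c13 LD3_c17)) :=
  Lre_c IH (LK LD1_c10 LD2_c16 LD3_c56) (LK LD1_c5 LD2_c13 LD3_c17) Lrfl Lrfl
theorem f265857 : Led Lsl_bt (LP (LK LD1_c10 LD2_c16 LD3_c56)) = (LP (LK LD1_c18 LD2_c41 LD3_c48)) :=
  Lre_b IH (LK LD1_c10 LD2_c16 LD3_c56) (LK LD1_c18 LD2_c41 LD3_c48) Lrfl Lrfl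
theorem f187886 : Led Lsl_bt (LP (LK LD1_c8 LD2_c11 LD3_c4)) = (LP (LK LD1_c15 LD2_c24 LD3_c35)) :=
  Lre_b IH (LK LD1_c8 LD2_c11 LD3_c4) (LK LD1_c15 LD2_c24 LD3_c35) Lrfl Lrfl
theorem f284790 : Led Lsl_gf (LP (LK LD1_c18 LD2_c41 LD3_c48)) = (LP (LK LD1_c15 LD2_c24 LD3_c35)) :=
  Lgr Lrot124 (Lpe (f265857 IH) (Lpr_ct (f185425 IH) (Lpr_gt (f185420 IH) (Lpe (f185275 IH) (Lpr_bt (K18.f185416 IH) (Lpr_gt (K15.f185417 IH) (Lpe (K15.f265835 IH) (Lpr_gt (K17.f284783 IH) (Lpe (K15.f187880 IH) (Lpr_bt (f187886 IH) (Lpn (LP (LK LD1_c15 LD2_c24 LD3_c35)))))))))))))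
theorem f409184 : Led Lsl_ct (LP (LK LD1_c28 LD2_c13 LD3_c1)) = (LP (LK LD1_c18 LD2_c41 LD3_c48)) :=
  Lre_c IH (LK LD1_c28 LD2_c13 LD3_c1) (LK LD1_c18 LD2_c41 LD3_c48) Lrfl Lrfl
theorem f409185 : Led Lsl_bt (LP (LK LD1_c28 LD2_c13 LD3_c1)) = (LP (LK LD1_c18 LD2_c41 LD3_c46)) :=
  Lre_b IH (LK LD1_c28 LD2_c13 LD3_c1) (LK LD1_c18 LD2_c41 LD3_c46) Lrfl Lrfl
theorem f49910 : Led Lsl_bt (LP (LK LD1_c8 LD2_c15 LD3_c1)) = (LP (LK LD1_c15 LD2_c30 LD3_c49)) :=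
  Lre_b IH (LK LD1_c8 LD2_c15 LD3_c1) (LK LD1_c15 LD2_c30 LD3_c49) Lrfl Lrfl
theorem f191065 : Led Lsl_bt (LP (LK LD1_c15 LD2_c24 LD3_c35)) = (LP (LK LD1_c8 LD2_c11 LD3_c4)) :=
  Lre_b IH (LK LD1_c15 LD2_c24 LD3_c35) (LK LD1_c8 LD2_c11 LD3_c4) Lrfl Lrfl
theorem f191066 : Led Lsl_ct (LP (LK LD1_c15 LD2_c30 LD3_c49)) = (LP (LK LD1_c15 LD2_c24 LD3_c35)) :=
  Lgr Lrot83 (Lpe (f49910 IH) (Lpe (K13.f49897 IH) (Lpr_bf (K14.f191051 IH) (Lpe (K15.f187880 IH) (Lpe (f191065 IH) (Lpn (LP (LK LD1_c15 LD2_c24 LD3_c35))))))))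
theorem f191093 : Led Lsl_bt (LP (LK LD1_c15 LD2_c30 LD3_c49)) = (LP (LK LD1_c8 LD2_c15 LD3_c1)) :=
  Lre_b IH (LK LD1_c15 LD2_c30 LD3_c49) (LK LD1_c8 LD2_c15 LD3_c1) Lrfl Lrfl
theorem f409186 : Led Lsl_gt (LP (LK LD1_c18 LD2_c41 LD3_c46)) = (LP (LK LD1_c18 LD2_c10 LD3_c34)) :=
  Lgr Lrot82 (Lpe (f409185 IH) (Lpr_ct (f409184 IH) (Lpr_gf (f284790 IH) (Lpe (f191066 IH) (Lpr_bt (f191093 IH) (Lpr_gf (K14.f250066 IH) (Lpe (K15.f250053 IH) (Lpr_ct (K44.f165781 IH) (Lpe (K44.f250105 IH) (Lpe (K44.f250106 IH) (Lpn (LP (LK LD1_c18 LD2_c10 LD3_c34)))))))))))))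
theorem f406555 : Led Lsl_ct (LP (LK LD1_c10 LD2_c16 LD3_c55)) = (LP (LK LD1_c18 LD2_c41 LD3_c46)) :=
  Lre_c IH (LK LD1_c10 LD2_c16 LD3_c55) (LK LD1_c18 LD2_c41 LD3_c46) Lrfl Lrfl
theorem f185427 : Led Lsl_bt (LP (LK LD1_c10 LD2_c16 LD3_c55)) = (LP (LK LD1_c5 LD2_c13 LD3_c17)) :=
  Lre_b IH (LK LD1_c10 LD2_c16 LD3_c55) (LK LD1_c5 LD2_c13 LD3_c17) Lrfl Lrfl
theorem f185422 : Led Lsl_at (LP (LK LD1_c5 LD2_c13 LD3_c18)) = (LP (LK LD1_c2 LD2_c33 LD3_c29)) :=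
  Lre_a IH (LK LD1_c5 LD2_c13 LD3_c18) (LK LD1_c2 LD2_c33 LD3_c29) Lrfl Lrfl
theorem f302196 : Led Lsl_ff (LP (LK LD1_c5 LD2_c13 LD3_c18)) = (LP (LK LD1_c5 LD2_c5 LD3_c42)) :=
  Lgr Lrot30 (Lpr_at (f185422 IH) (Lpr_ft (K18.f302193 IH) (Lpr_at (K44.f302195 IH) (Lpn (LP (LK LD1_c5 LD2_c5 LD3_c42))))))
theorem f406553 : Led Lsl_gf (LP (LK LD1_c5 LD2_c13 LD3_c17)) = (LP (LK LD1_c5 LD2_c5 LD3_c42)) :=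
  Lgr Lrot47 (Lpr_gt (f185420 IH) (Lpe (f185422 IH) (Lpr_ff (f302196 IH) (Lpn (LP (LK LD1_c5 LD2_c5 LD3_c42))))))
theorem f230505 : Led Lsl_at (LP (LK LD1_c16 LD2_c34 LD3_c49)) = (LP (LK LD1_c8 LD2_c52 LD3_c5)) :=
  Lre_a IH (LK LD1_c16 LD2_c34 LD3_c49) (LK LD1_c8 LD2_c52 LD3_c5) Lrfl Lrfl
theorem f230506 : Led Lsl_at (LP (LK LD1_c5 LD2_c19 LD3_c15)) = (LP (LK LD1_c10 LD2_c28 LD3_c16)) :=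
  Lre_a IH (LK LD1_c5 LD2_c19 LD3_c15) (LK LD1_c10 LD2_c28 LD3_c16) Lrfl Lrfl
theorem f230507 : Led Lsl_cf (LP (LK LD1_c16 LD2_c34 LD3_c49)) = (LP (LK LD1_c10 LD2_c28 LD3_c16)) :=
  Lgr Lrot1 (Lpr_at (f230505 IH) (Lpr_ct (K18.f230497 IH) (Lpr_at (f230506 IH) (Lpn (LP (LK LD1_c10 LD2_c28 LD3_c16))))))
theorem f230521 : Led Lsl_ct (LP (LK LD1_c16 LD2_c34 LD3_c49)) = (LP (LK LD1_c10 LD2_c28 LD3_c16)) :=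
  Lgr Lrot59 (Lpr_cf (f230507 IH) (Lpn (LP (LK LD1_c10 LD2_c28 LD3_c16))))
theorem f302245 : Led Lsl_bt (LP (LK LD1_c5 LD2_c12 LD3_c18)) = (LP (LK LD1_c5 LD2_c5 LD3_c42)) :=
  Lgr Lrot128 (Lpe (K18.f300430 IH) (Lpr_bf (K18.f300420 IH) (Lpe (f230521 IH) (Lpr_bf (K18.f302240 IH) (Lpe (K18.f302203 IH) (Lpn (LP (LK LD1_c5 LD2_c5 LD3_c42))))))))
theorem f249521 : Led Lsl_bt (LP (LK LD1_c5 LD2_c12 LD3_c3)) = (LP (LK LD1_c2 LD2_c32 LD3_c53)) :=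
  Lre_b IH (LK LD1_c5 LD2_c12 LD3_c3) (LK LD1_c2 LD2_c32 LD3_c53) Lrfl Lrfl
theorem f300297 : Led Lsl_ft (LP (LK LD1_c5 LD2_c6 LD3_c10)) = (LP (LK LD1_c5 LD2_c12 LD3_c3)) :=
  Lgr Lrot75 (Lpe (K44.f184622 IH) (Lpr_ff (K18.f300295 IH) (Lpe (f249521 IH) (Lpn (LP (LK LD1_c5 LD2_c12 LD3_c3))))))
theorem f300319 : Led Lsl_at (LP (LK LD1_c5 LD2_c12 LD3_c3)) = (LP (LK LD1_c10 LD2_c14 LD3_c55)) :=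
  Lre_a IH (LK LD1_c5 LD2_c12 LD3_c3) (LK LD1_c10 LD2_c14 LD3_c55) Lrfl Lrfl
theorem f406702 : Led Lsl_gt (LP (LK LD1_c10 LD2_c3 LD3_c18)) = (LP (LK LD1_c10 LD2_c14 LD3_c55)) :=
  Lgr Lrot46 (Lpe (K44.f165304 IH) (Lpr_ft (f300297 IH) (Lpr_at (f300319 IH) (Lpn (LP (LK LD1_c10 LD2_c14 LD3_c55))))))
theorem f409193 : Led Lsl_bt (LP (LK LD1_c9 LD2_c55 LD3_c56)) = (LP (LK LD1_c18 LD2_c10 LD3_c33)) :=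
  Lre_b IH (LK LD1_c9 LD2_c55 LD3_c56) (LK LD1_c18 LD2_c10 LD3_c33) Lrfl Lrfl
theorem f409194 : Led Lsl_gf (LP (LK LD1_c18 LD2_c21 LD3_c51)) = (LP (LK LD1_c18 LD2_c10 LD3_c33)) :=
  Lgr Lrot181 (Lpr_ct (K44.f165305 IH) (Lpr_gt (f406702 IH) (Lpe (K44.f300584 IH) (Lpr_bt (f302245 IH) (Lpe (f406553 IH) (Lpe (f185427 IH) (Lpr_ct (f406555 IH) (Lpr_gt (f409186 IH) (Lpe (K44.f409192 IH) (Lpr_bt (f409193 IH) (Lpn (LP (LK LD1_c18 LD2_c10 LD3_c33)))))))))))))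
theorem f585229 : Led Lsl_gt (LP (LK LD1_c9 LD2_c55 LD3_c61)) = (LP (LK LD1_c18 LD2_c10 LD3_c33)) :=
  Lgr Lrot5 (Lpe (f584548 IH) (Lpr_at (f585208 IH) (Lpr_gf (f409194 IH) (Lpn (LP (LK LD1_c18 LD2_c10 LD3_c33))))))
theorem f405273 : Led Lsl_dt (LP (LK LD1_c18 LD2_c57 LD3_c4)) = (LP (LK LD1_c10 LD2_c27 LD3_c11)) :=
  Lre_d IH (LK LD1_c18 LD2_c57 LD3_c4) (LK LD1_c10 LD2_c27 LD3_c11) Lrfl Lrfl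
theorem f71652 : Led Lsl_ct (LP (LK LD1_c10 LD2_c26 LD3_c2)) = (LP (LK LD1_c5 LD2_c18 LD3_c10)) :=
  Lre_c IH (LK LD1_c10 LD2_c26 LD3_c2) (LK LD1_c5 LD2_c18 LD3_c10) Lrfl Lrfl
theorem f48509 : Led Lsl_dt (LP (LK LD1_c2 LD2_c35 LD3_c46)) = (LP (LK LD1_c5 LD2_c18 LD3_c10)) :=
  Lre_d IH (LK LD1_c2 LD2_c35 LD3_c46) (LK LD1_c5 LD2_c18 LD3_c10) Lrfl Lrfl
theorem f71686 : Led Lsl_dt (LP (LK LD1_c18 LD2_c56 LD3_c52)) = (LP (LK LD1_c10 LD2_c26 LD3_c59)) :=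
  Lre_d IH (LK LD1_c18 LD2_c56 LD3_c52) (LK LD1_c10 LD2_c26 LD3_c59) Lrfl Lrfl
theorem f412854 : Led Lsl_gf (LP (LK LD1_c27 LD2_c50 LD3_c46)) = (LP (LK LD1_c18 LD2_c56 LD3_c52)) :=
  Lgr Lrot147 (Lpr_ct (K44.f412848 IH) (Lpr_gt (K44.f214680 IH) (Lpr_ct (f71652 IH) (Lpe (f48509 IH) (Lpe (K44.f48498 IH) (Lpe (K13.f48803 IH) (Lpe (K13.f186641 IH) (Lpe (K19.f71685 IH) (Lpe (f71686 IH) (Lpn (LP (LK LD1_c18 LD2_c56 LD3_c52))))))))))))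
theorem f71664 : Led Lsl_dt (LP (LK LD1_c10 LD2_c26 LD3_c59)) = (LP (LK LD1_c18 LD2_c56 LD3_c52)) :=
  Lre_d IH (LK LD1_c10 LD2_c26 LD3_c59) (LK LD1_c18 LD2_c56 LD3_c52) Lrfl Lrfl
theorem f32734 : Led Lsl_ft (LP (LK LD1_c2 LD2_c36 LD3_c0)) = (LP (LK LD1_c5 LD2_c18 LD3_c38)) :=
  Lre_f IH (LK LD1_c2 LD2_c36 LD3_c0) (LK LD1_c5 LD2_c18 LD3_c38) Lrfl Lrfl
theorem f71655 : Led Lsl_ft (LP (LK LD1_c5 LD2_c55 LD3_c26)) = (LP (LK LD1_c5 LD2_c18 LD3_c49)) :=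
  Lgr Lrot54 (Lpr_df (K44.f71647 IH) (Lpe (f32734 IH) (Lpe (K44.f32661 IH) (Lpn (LP (LK LD1_c5 LD2_c18 LD3_c49))))))
theorem f32651 : Led Lsl_at (LP (LK LD1_c5 LD2_c18 LD3_c49)) = (LP (LK LD1_c2 LD2_c36 LD3_c1)) :=
  Lre_a IH (LK LD1_c5 LD2_c18 LD3_c49) (LK LD1_c2 LD2_c36 LD3_c1) Lrfl Lrfl
theorem f48584 : Led Lsl_gt (LP (LK LD1_c5 LD2_c18 LD3_c51)) = (LP (LK LD1_c2 LD2_c36 LD3_c1)) :=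
  Lre_g IH (LK LD1_c5 LD2_c18 LD3_c51) (LK LD1_c2 LD2_c36 LD3_c1) Lrfl Lrfl
theorem f71670 : Led Lsl_gt (LP (LK LD1_c5 LD2_c55 LD3_c26)) = (LP (LK LD1_c5 LD2_c18 LD3_c51)) :=
  Lgr Lrot5 (Lpr_ft (f71655 IH) (Lpr_at (f32651 IH) (Lpe (f48584 IH) (Lpn (LP (LK LD1_c5 LD2_c18 LD3_c51))))))
theorem f412874 : Led Lsl_df (LP (LK LD1_c9 LD2_c55 LD3_c56)) = (LP (LK LD1_c5 LD2_c18 LD3_c51)) :=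
  Lgr Lrot84 (Lpe (K44.f250106 IH) (Lpe (K44.f409196 IH) (Lpr_gf (f412854 IH) (Lpe (f71664 IH) (Lpe (K19.f71663 IH) (Lpe (K19.f71666 IH) (Lpr_gt (K44.f32705 IH) (Lpe (K44.f71647 IH) (Lpr_gt (f71670 IH) (Lpn (LP (LK LD1_c5 LD2_c18 LD3_c51))))))))))))
theorem f71680 : Led Lsl_bt (LP (LK LD1_c10 LD2_c27 LD3_c29)) = (LP (LK LD1_c5 LD2_c18 LD3_c51)) :=
  Lre_b IH (LK LD1_c10 LD2_c27 LD3_c29) (LK LD1_c5 LD2_c18 LD3_c51) Lrfl Lrfl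
theorem f412878 : Led Lsl_dt (LP (LK LD1_c18 LD2_c10 LD3_c33)) = (LP (LK LD1_c10 LD2_c27 LD3_c29)) :=
  Lgr Lrot79 (Lpe (f409193 IH) (Lpr_df (f412874 IH) (Lpe (f71680 IH) (Lpn (LP (LK LD1_c10 LD2_c27 LD3_c29))))))
theorem f585231 : Led Lsl_gf (LP (LK LD1_c18 LD2_c57 LD3_c4)) = (LP (LK LD1_c10 LD2_c27 LD3_c29)) :=
  Lgr Lrot143 (Lpr_dt (f405273 IH) (Lpr_cf (K44.f405271 IH) (Lpe (K44.f307604 IH) (Lpe (K44.f583600 IH) (Lpe (K44.f169605 IH) (Lpe (K44.f169591 IH) (Lpr_cf (K44.f169593 IH) (Lpr_gt (f585229 IH) (Lpr_dt (f412878 IH) (Lpn (LP (LK LD1_c10 LD2_c27 LD3_c29))))))))))))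
theorem f586211 : Led Lsl_ff (LP (LK LD1_c11 LD2_c36 LD3_c10)) = (LP (LK LD1_c10 LD2_c27 LD3_c29)) :=
  Lgr Lrot52 (Lpr_at (K44.f583618 IH) (Lpr_gf (f586209 IH) (Lpr_gf (f585231 IH) (Lpn (LP (LK LD1_c10 LD2_c27 LD3_c29))))))
theorem f586220 : Led Lsl_ft (LP (LK LD1_c11 LD2_c36 LD3_c10)) = (LP (LK LD1_c10 LD2_c27 LD3_c29)) :=
  Lgr Lrot48 (Lpr_ff (f586211 IH) (Lpn (LP (LK LD1_c10 LD2_c27 LD3_c29))))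
theorem f412890 : Led Lsl_df (LP (LK LD1_c18 LD2_c10 LD3_c33)) = (LP (LK LD1_c10 LD2_c27 LD3_c29)) :=
  Lgr Lrot38 (Lpr_dt (f412878 IH) (Lpn (LP (LK LD1_c10 LD2_c27 LD3_c29))))
theorem f586226 : Led Lsl_ff (LP (LK LD1_c18 LD2_c20 LD3_c26)) = (LP (LK LD1_c18 LD2_c10 LD3_c33)) :=
  Lgr Lrot19 (Lpe (K44.f583615 IH) (Lpr_ft (f586220 IH) (Lpe (f412890 IH) (Lpn (LP (LK LD1_c18 LD2_c10 LD3_c33))))))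
theorem f250044 : Led Lsl_ct (LP (LK LD1_c2 LD2_c28 LD3_c50)) = (LP (LK LD1_c1 LD2_c13 LD3_c23)) :=
  Lgr Lrot176 (Lpe (K14.f165655 IH) (Lpr_cf (K14.f250035 IH) (Lpe (K14.f185129 IH) (Lpr_cf (K10.f185147 IH) (Lpe (K9.f28337 IH) (Lpe (K12.f182491 IH) (Lpe (K15.f185579 IH) (Lpr_cf (K12.f185942 IH) (Lpe (K12.f165630 IH) (Lpr_cf (K20.f194033 IH) (Lpe (K10.f194019 IH) (Lpe (K12.f186506 IH) (Lpe (K10.f169334 IH) (Lpe (K13.f167627 IH) (Lpr_df (K10.f184999 IH) (Lpn (LP (LK LD1_c1 LD2_c13 LD3_c23))))))))))))))))))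
theorem f410256 : Led Lsl_bt (LP (LK LD1_c18 LD2_c10 LD3_c33)) = (LP (LK LD1_c9 LD2_c55 LD3_c56)) :=
  Lre_b IH (LK LD1_c18 LD2_c10 LD3_c33) (LK LD1_c9 LD2_c55 LD3_c56) Lrfl Lrfl
theorem f185582 : Led Lsl_bt (LP (LK LD1_c1 LD2_c13 LD3_c24)) = (LP (LK LD1_c2 LD2_c32 LD3_c58)) :=
  Lre_b IH (LK LD1_c1 LD2_c13 LD3_c24) (LK LD1_c2 LD2_c32 LD3_c58) Lrfl Lrfl
theorem f300639 : Led Lsl_ct (LP (LK LD1_c5 LD2_c12 LD3_c16)) = (LP (LK LD1_c10 LD2_c15 LD3_c11)) :=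
  Lre_c IH (LK LD1_c5 LD2_c12 LD3_c16) (LK LD1_c10 LD2_c15 LD3_c11) Lrfl Lrfl
theorem f300640 : Led Lsl_gt (LP (LK LD1_c10 LD2_c15 LD3_c11)) = (LP (LK LD1_c18 LD2_c39 LD3_c12)) :=
  Lre_g IH (LK LD1_c10 LD2_c15 LD3_c11) (LK LD1_c18 LD2_c39 LD3_c12) Lrfl Lrfl
theorem f417516 : Led Lsl_ct (LP (LK LD1_c18 LD2_c10 LD3_c33)) = (LP (LK LD1_c18 LD2_c39 LD3_c12)) :=
  Lgr Lrot63 (Lpr_bt (f410256 IH) (Lpr_gt (K44.f250105 IH) (Lpe (K15.f250051 IH) (Lpr_ct (f250044 IH) (Lpr_gt (K10.f184991 IH) (Lpe (K20.f185581 IH) (Lpr_bt (f185582 IH) (Lpr_gt (K44.f185583 IH) (Lpr_ct (f300639 IH) (Lpr_gt (f300640 IH) (Lpn (LP (LK LD1_c18 LD2_c39 LD3_c12)))))))))))))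
theorem f417518 : Led Lsl_cf (LP (LK LD1_c18 LD2_c10 LD3_c33)) = (LP (LK LD1_c18 LD2_c39 LD3_c12)) :=
  Lgr Lrot11 (Lpr_ct (f417516 IH) (Lpn (LP (LK LD1_c18 LD2_c39 LD3_c12))))
theorem f586233 : Led Lsl_ft (LP (LK LD1_c18 LD2_c22 LD3_c17)) = (LP (LK LD1_c18 LD2_c39 LD3_c12)) :=
  Lgr Lrot4 (Lpe (K44.f422703 IH) (Lpr_ff (f586226 IH) (Lpr_cf (f417518 IH) (Lpn (LP (LK LD1_c18 LD2_c39 LD3_c12))))))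
theorem f586235 : Led Lsl_ff (LP (LK LD1_c18 LD2_c22 LD3_c17)) = (LP (LK LD1_c18 LD2_c39 LD3_c12)) :=
  Lgr Lrot3 (Lpr_ft (f586233 IH) (Lpn (LP (LK LD1_c18 LD2_c39 LD3_c12))))
theorem f586192 : Led Lsl_at (LP (LK LD1_c18 LD2_c22 LD3_c17)) = (LP (LK LD1_c18 LD2_c39 LD3_c13)) :=
  Lgr Lrot107 (Lpe (K44.f422703 IH) (Lpr_af (K44.f586190 IH) (Lpe (K44.f586181 IH) (Lpn (LP (LK LD1_c18 LD2_c39 LD3_c13))))))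
theorem f586237 : Led Lsl_at (LP (LK LD1_c18 LD2_c22 LD3_c18)) = (LP (LK LD1_c18 LD2_c39 LD3_c12)) :=
  Lgr Lrot66 (Lpe (K44.f586175 IH) (Lpe (f586192 IH) (Lpr_ff (f586235 IH) (Lpn (LP (LK LD1_c18 LD2_c39 LD3_c12))))))
theorem f186806 : Led Lsl_dt (LP (LK LD1_c5 LD2_c12 LD3_c3)) = (LP (LK LD1_c10 LD2_c14 LD3_c56)) :=
  Lre_d IH (LK LD1_c5 LD2_c12 LD3_c3) (LK LD1_c10 LD2_c14 LD3_c56) Lrfl Lrfl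
theorem f585249 : Led Lsl_dt (LP (LK LD1_c10 LD2_c30 LD3_c9)) = (LP (LK LD1_c18 LD2_c22 LD3_c18)) :=
  Lgr Lrot27 (Lpe (K44.f249537 IH) (Lpr_gf (K44.f249535 IH) (Lpe (K44.f51320 IH) (Lpe (K44.f582685 IH) (Lpe (f186806 IH) (Lpr_gt (K44.f240460 IH) (Lpr_ct (K44.f585247 IH) (Lpe (K44.f585214 IH) (Lpe (K44.f407809 IH) (Lpn (LP (LK LD1_c18 LD2_c22 LD3_c18))))))))))))
theorem f585278 : Led Lsl_at (LP (LK LD1_c19 LD2_c1 LD3_c54)) = (LP (LK LD1_c10 LD2_c30 LD3_c9)) :=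
  Lre_a IH (LK LD1_c19 LD2_c1 LD3_c54) (LK LD1_c10 LD2_c30 LD3_c9) Lrfl Lrfl
theorem f586243 : Led Lsl_df (LP (LK LD1_c19 LD2_c1 LD3_c54)) = (LP (LK LD1_c18 LD2_c39 LD3_c12)) :=
  Lgr Lrot18 (Lpr_at (f585278 IH) (Lpr_dt (f585249 IH) (Lpr_at (f586237 IH) (Lpn (LP (LK LD1_c18 LD2_c39 LD3_c12))))))
theorem f586249 : Led Lsl_cf (LP (LK LD1_c19 LD2_c1 LD3_c54)) = (LP (LK LD1_c15 LD2_c32 LD3_c12)) :=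
  Lgr Lrot99 (Lpr_df (f586243 IH) (Lpe (f417516 IH) (Lpe (f585229 IH) (Lpe (K44.f169603 IH) (Lpe (K44.f300592 IH) (Lpr_df (K44.f582662 IH) (Lpr_gt (K44.f51324 IH) (Lpr_ct (K44.f50023 IH) (Lpr_gt (K44.f49975 IH) (Lpn (LP (LK LD1_c15 LD2_c32 LD3_c12))))))))))))
theorem f184191 : Led Lsl_bt (LP (LK LD1_c5 LD2_c17 LD3_c6)) = (LP (LK LD1_c10 LD2_c23 LD3_c49)) :=
  Lre_b IH (LK LD1_c5 LD2_c17 LD3_c6) (LK LD1_c10 LD2_c23 LD3_c49) Lrfl Lrfl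
theorem f184193 : Led Lsl_gt (LP (LK LD1_c18 LD2_c51 LD3_c48)) = (LP (LK LD1_c10 LD2_c23 LD3_c49)) :=
  Lre_g IH (LK LD1_c18 LD2_c51 LD3_c48) (LK LD1_c10 LD2_c23 LD3_c49) Lrfl Lrfl
theorem f351072 : Led Lsl_bt (LP (LK LD1_c26 LD2_c32 LD3_c23)) = (LP (LK LD1_c16 LD2_c34 LD3_c56)) :=
  Lre_b IH (LK LD1_c26 LD2_c32 LD3_c23) (LK LD1_c16 LD2_c34 LD3_c56) Lrfl Lrfl
theorem f212287 : Led Lsl_cf (LP (LK LD1_c10 LD2_c23 LD3_c49)) = (LP (LK LD1_c8 LD2_c52 LD3_c18)) :=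
  Lgr Lrot97 (Lpr_bt (K22.f32501 IH) (Lpr_ct (K10.f184180 IH) (Lpr_bt (K10.f190785 IH) (Lpr_ct (K12.f212260 IH) (Lpr_bt (K20.f212286 IH) (Lpn (LP (LK LD1_c8 LD2_c52 LD3_c18))))))))
theorem f46260 : Led Lsl_bt (LP (LK LD1_c8 LD2_c52 LD3_c18)) = (LP (LK LD1_c4 LD2_c27 LD3_c17)) :=
  Lre_b IH (LK LD1_c8 LD2_c52 LD3_c18) (LK LD1_c4 LD2_c27 LD3_c17) Lrfl Lrfl
theorem f418919 : Led Lsl_cf (LP (LK LD1_c18 LD2_c51 LD3_c48)) = (LP (LK LD1_c26 LD2_c32 LD3_c23)) :=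
  Lgr Lrot160 (Lpr_gt (f184193 IH) (Lpr_cf (f212287 IH) (Lpr_bt (f46260 IH) (Lpr_gt (K12.f44128 IH) (Lpr_ct (K12.f44119 IH) (Lpr_gt (K12.f44078 IH) (Lpe (K17.f188016 IH) (Lpr_bt (K44.f230634 IH) (Lpr_gt (K44.f230640 IH) (Lpe (f351072 IH) (Lpn (LP (LK LD1_c26 LD2_c32 LD3_c23)))))))))))))
theorem f418922 : Led Lsl_ct (LP (LK LD1_c18 LD2_c51 LD3_c48)) = (LP (LK LD1_c26 LD2_c32 LD3_c23)) :=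
  Lgr Lrot59 (Lpr_cf (f418919 IH) (Lpn (LP (LK LD1_c26 LD2_c32 LD3_c23))))
theorem f583826 : Led Lsl_bf (LP (LK LD1_c18 LD2_c51 LD3_c48)) = (LP (LK LD1_c28 LD2_c9 LD3_c41)) :=
  Lgr Lrot90 (Lpr_ct (f418922 IH) (Lpr_bt (f351072 IH) (Lpr_ct (K44.f583823 IH) (Lpr_bt (K44.f230214 IH) (Lpr_ct (K44.f214621 IH) (Lpn (LP (LK LD1_c28 LD2_c9 LD3_c41))))))))
theorem f586256 : Led Lsl_gt (LP (LK LD1_c19 LD2_c1 LD3_c54)) = (LP (LK LD1_c18 LD2_c35 LD3_c56)) :=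
  Lgr Lrot149 (Lpr_cf (f586249 IH) (Lpe (K44.f49975 IH) (Lpe (K13.f49937 IH) (Lpr_ct (K9.f49114 IH) (Lpe (K10.f49154 IH) (Lpe (K10.f184180 IH) (Lpr_bt (f184191 IH) (Lpe (f184193 IH) (Lpr_bf (f583826 IH) (Lpr_ct (K44.f214622 IH) (Lpn (LP (LK LD1_c18 LD2_c35 LD3_c56)))))))))))))
theorem f586049 : Led Lsl_bt (LP (LK LD1_c10 LD2_c30 LD3_c8)) = (LP (LK LD1_c18 LD2_c35 LD3_c48)) :=
  Lgr Lrot128 (Lpr_cf (K44.f586045 IH) (Lpe (K44.f233597 IH) (Lpe (K44.f164042 IH) (Lpe (K44.f233598 IH) (Lpr_cf (K44.f405340 IH) (Lpn (LP (LK LD1_c18 LD2_c35 LD3_c48))))))))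
theorem f586054 : Led Lsl_at (LP (LK LD1_c5 LD2_c20 LD3_c6)) = (LP (LK LD1_c10 LD2_c30 LD3_c8)) :=
  Lre_a IH (LK LD1_c5 LD2_c20 LD3_c6) (LK LD1_c10 LD2_c30 LD3_c8) Lrfl Lrfl
theorem f586080 : Led Lsl_bt (LP (LK LD1_c18 LD2_c15 LD3_c41)) = (LP (LK LD1_c19 LD2_c1 LD3_c54)) :=
  Lgr Lrot62 (Lpr_af (K44.f586076 IH) (Lpe (f586049 IH) (Lpe (f586054 IH) (Lpe (K44.f249531 IH) (Lpe (f585278 IH) (Lpn (LP (LK LD1_c19 LD2_c1 LD3_c54))))))))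
theorem f586082 : Led Lsl_ct (LP (LK LD1_c18 LD2_c15 LD3_c41)) = (LP (LK LD1_c10 LD2_c26 LD3_c53)) :=
  Lgr Lrot111 (Lpr_af (K44.f586076 IH) (Lpe (K44.f405335 IH) (Lpe (K44.f585829 IH) (Lpn (LP (LK LD1_c10 LD2_c26 LD3_c53))))))
theorem f583805 : Led Lsl_ff (LP (LK LD1_c10 LD2_c12 LD3_c61)) = (LP (LK LD1_c9 LD2_c59 LD3_c24)) :=
  Lgr Lrot30 (Lpr_at (K44.f583797 IH) (Lpe (K44.f583742 IH) (Lpr_at (K44.f583770 IH) (Lpn (LP (LK LD1_c9 LD2_c59 LD3_c24))))))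
theorem f544848 : Led Lsl_bf (LP (LK LD1_c9 LD2_c59 LD3_c24)) = (LP (LK LD1_c9 LD2_c39 LD3_c33)) :=
  Lgr Lrot90 (Lpr_ct (K44.f405306 IH) (Lpr_bt (K38.f405308 IH) (Lpr_ct (K44.f405312 IH) (Lpr_bt (K38.f544838 IH) (Lpr_ct (K9.f43502 IH) (Lpn (LP (LK LD1_c9 LD2_c39 LD3_c33))))))))
theorem f583807 : Led Lsl_bt (LP (LK LD1_c10 LD2_c12 LD3_c61)) = (LP (LK LD1_c9 LD2_c40 LD3_c31)) :=
  Lgr Lrot35 (Lpr_ff (f583805 IH) (Lpr_bf (f544848 IH) (Lpe (K14.f43517 IH) (Lpn (LP (LK LD1_c9 LD2_c40 LD3_c31))))))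
theorem f165268 : Led Lsl_ct (LP (LK LD1_c10 LD2_c12 LD3_c61)) = (LP (LK LD1_c10 LD2_c12 LD3_c36)) :=
  Lgr Lrot59 (Lpr_cf (K44.f165263 IH) (Lpn (LP (LK LD1_c10 LD2_c12 LD3_c36))))
theorem f586270 : Led Lsl_gf (LP (LK LD1_c10 LD2_c26 LD3_c53)) = (LP (LK LD1_c10 LD2_c12 LD3_c36)) :=
  Lgr Lrot126 (Lpe (f586082 IH) (Lpr_bt (f586080 IH) (Lpr_gt (f586256 IH) (Lpr_ct (K44.f214621 IH) (Lpr_gt (K44.f583748 IH) (Lpe (K18.f249361 IH) (Lpr_bt (K44.f249360 IH) (Lpr_gt (K14.f249356 IH) (Lpe (f583807 IH) (Lpr_ct (f165268 IH) (Lpn (LP (LK LD1_c10 LD2_c12 LD3_c36)))))))))))))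
theorem f586274 : Led Lsl_gt (LP (LK LD1_c10 LD2_c26 LD3_c53)) = (LP (LK LD1_c18 LD2_c13 LD3_c45)) :=
  Lgr Lrot46 (Lpr_gf (f586270 IH) (Lpr_ft (K44.f583440 IH) (Lpr_at (K44.f583493 IH) (Lpn (LP (LK LD1_c18 LD2_c13 LD3_c45))))))
theorem f585885 : Led Lsl_ft (LP (LK LD1_c10 LD2_c26 LD3_c53)) = (LP (LK LD1_c5 LD2_c18 LD3_c45)) :=
  Lre_f IH (LK LD1_c10 LD2_c26 LD3_c53) (LK LD1_c5 LD2_c18 LD3_c45) Lrfl Lrfl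
theorem f585884 : Led Lsl_at (LP (LK LD1_c5 LD2_c18 LD3_c45)) = (LP (LK LD1_c10 LD2_c27 LD3_c12)) :=
  Lre_a IH (LK LD1_c5 LD2_c18 LD3_c45) (LK LD1_c10 LD2_c27 LD3_c12) Lrfl Lrfl
theorem f586277 : Led Lsl_gf (LP (LK LD1_c10 LD2_c27 LD3_c12)) = (LP (LK LD1_c18 LD2_c13 LD3_c45)) :=
  Lgr Lrot76 (Lpe (f585884 IH) (Lpe (f585885 IH) (Lpr_gt (f586274 IH) (Lpn (LP (LK LD1_c18 LD2_c13 LD3_c45))))))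
theorem f583774 : Led Lsl_ct (LP (LK LD1_c10 LD2_c12 LD3_c60)) = (LP (LK LD1_c18 LD2_c13 LD3_c45)) :=
  Lgr Lrot59 (Lpr_cf (K44.f583772 IH) (Lpn (LP (LK LD1_c18 LD2_c13 LD3_c45))))
theorem f421604 : Led Lsl_bt (LP (LK LD1_c10 LD2_c30 LD3_c14)) = (LP (LK LD1_c5 LD2_c20 LD3_c7)) :=
  Lre_b IH (LK LD1_c10 LD2_c30 LD3_c14) (LK LD1_c5 LD2_c20 LD3_c7) Lrfl Lrfl
theorem f586291 : Led Lsl_cf (LP (LK LD1_c10 LD2_c27 LD3_c12)) = (LP (LK LD1_c10 LD2_c30 LD3_c14)) :=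
  Lgr Lrot163 (Lpr_gf (f586277 IH) (Lpe (f583774 IH) (Lpe (K44.f185694 IH) (Lpr_bf (K44.f185185 IH) (Lpr_ct (K14.f32889 IH) (Lpr_gf (K14.f192119 IH) (Lpe (K9.f28256 IH) (Lpr_bt (K44.f44864 IH) (Lpe (K44.f44898 IH) (Lpe (f421604 IH) (Lpn (LP (LK LD1_c10 LD2_c30 LD3_c14)))))))))))))
theorem f585845 : Led Lsl_et (LP (LK LD1_c10 LD2_c27 LD3_c12)) = (LP (LK LD1_c18 LD2_c57 LD3_c5)) :=
  Lre_e IH (LK LD1_c10 LD2_c27 LD3_c12) (LK LD1_c18 LD2_c57 LD3_c5) Lrfl Lrfl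
theorem f412526 : Led Lsl_et (LP (LK LD1_c19 LD2_c2 LD3_c7)) = (LP (LK LD1_c10 LD2_c30 LD3_c14)) :=
  Lre_e IH (LK LD1_c19 LD2_c2 LD3_c7) (LK LD1_c10 LD2_c30 LD3_c14) Lrfl Lrfl
theorem f586295 : Led Lsl_ct (LP (LK LD1_c18 LD2_c57 LD3_c5)) = (LP (LK LD1_c19 LD2_c2 LD3_c7)) :=
  Lgr Lrot15 (Lpe (f585845 IH) (Lpr_cf (f586291 IH) (Lpe (f412526 IH) (Lpn (LP (LK LD1_c19 LD2_c2 LD3_c7))))))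
theorem f586359 : Led Lsl_cf (LP (LK LD1_c18 LD2_c57 LD3_c5)) = (LP (LK LD1_c19 LD2_c2 LD3_c7)) :=
  Lgr Lrot11 (Lpr_ct (f586295 IH) (Lpn (LP (LK LD1_c19 LD2_c2 LD3_c7))))
theorem f586362 : Led Lsl_at (LP (LK LD1_c18 LD2_c57 LD3_c5)) = (LP (LK LD1_c10 LD2_c27 LD3_c15)) :=
  Lre_a IH (LK LD1_c18 LD2_c57 LD3_c5) (LK LD1_c10 LD2_c27 LD3_c15) Lrfl Lrfl
theorem f586363 : Led Lsl_ct (LP (LK LD1_c10 LD2_c27 LD3_c15)) = (LP (LK LD1_c18 LD2_c57 LD3_c8)) :=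
  Lre_c IH (LK LD1_c10 LD2_c27 LD3_c15) (LK LD1_c18 LD2_c57 LD3_c8) Lrfl Lrfl
theorem f586364 : Led Lsl_at (LP (LK LD1_c18 LD2_c57 LD3_c8)) = (LP (LK LD1_c19 LD2_c2 LD3_c7)) :=
  Lgr Lrot107 (Lpe (f586363 IH) (Lpe (f586362 IH) (Lpr_cf (f586359 IH) (Lpn (LP (LK LD1_c19 LD2_c2 LD3_c7))))))
theorem f586374 : Led Lsl_et (LP (LK LD1_c10 LD2_c27 LD3_c13)) = (LP (LK LD1_c18 LD2_c57 LD3_c8)) :=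
  Lre_e IH (LK LD1_c10 LD2_c27 LD3_c13) (LK LD1_c18 LD2_c57 LD3_c8) Lrfl Lrfl
theorem f586375 : Led Lsl_af (LP (LK LD1_c10 LD2_c27 LD3_c13)) = (LP (LK LD1_c10 LD2_c30 LD3_c14)) :=
  Lgr Lrot50 (Lpr_et (f586374 IH) (Lpr_at (f586364 IH) (Lpr_et (f412526 IH) (Lpn (LP (LK LD1_c10 LD2_c30 LD3_c14))))))
theorem f412523 : Led Lsl_dt (LP (LK LD1_c19 LD2_c2 LD3_c6)) = (LP (LK LD1_c10 LD2_c30 LD3_c14)) :=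
  Lre_d IH (LK LD1_c19 LD2_c2 LD3_c6) (LK LD1_c10 LD2_c30 LD3_c14) Lrfl Lrfl
theorem f586377 : Led Lsl_at (LP (LK LD1_c18 LD2_c57 LD3_c7)) = (LP (LK LD1_c19 LD2_c2 LD3_c6)) :=
  Lgr Lrot51 (Lpe (K44.f185250 IH) (Lpr_af (f586375 IH) (Lpe (f412523 IH) (Lpn (LP (LK LD1_c19 LD2_c2 LD3_c6))))))
theorem f585998 : Led Lsl_dt (LP (LK LD1_c10 LD2_c30 LD3_c16)) = (LP (LK LD1_c5 LD2_c20 LD3_c7)) :=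
  Lre_d IH (LK LD1_c10 LD2_c30 LD3_c16) (LK LD1_c5 LD2_c20 LD3_c7) Lrfl Lrfl
theorem f21902 : Led Lsl_ft (LP (LK LD1_c5 LD2_c1 LD3_c57)) = (LP (LK LD1_c2 LD2_c28 LD3_c36)) :=
  Lre_f IH (LK LD1_c5 LD2_c1 LD3_c57) (LK LD1_c2 LD2_c28 LD3_c36) Lrfl Lrfl
theorem f21615 : Led Lsl_at (LP (LK LD1_c2 LD2_c28 LD3_c36)) = (LP (LK LD1_c5 LD2_c1 LD3_c55)) :=
  Lre_a IH (LK LD1_c2 LD2_c28 LD3_c36) (LK LD1_c5 LD2_c1 LD3_c55) Lrfl Lrfl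
theorem f585978 : Led Lsl_gf (LP (LK LD1_c5 LD2_c1 LD3_c55)) = (LP (LK LD1_c9 LD2_c54 LD3_c21)) :=
  Lgr Lrot76 (Lpe (f21615 IH) (Lpe (f21902 IH) (Lpr_gt (K44.f585946 IH) (Lpn (LP (LK LD1_c9 LD2_c54 LD3_c21))))))
theorem f584691 : Led Lsl_dt (LP (LK LD1_c9 LD2_c57 LD3_c51)) = (LP (LK LD1_c5 LD2_c10 LD3_c17)) :=
  Lgr Lrot42 (Lpr_df (K44.f584687 IH) (Lpn (LP (LK LD1_c5 LD2_c10 LD3_c17))))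
theorem f343346 : Led Lsl_dt (LP (LK LD1_c5 LD2_c10 LD3_c61)) = (LP (LK LD1_c10 LD2_c12 LD3_c40)) :=
  Lre_d IH (LK LD1_c5 LD2_c10 LD3_c61) (LK LD1_c10 LD2_c12 LD3_c40) Lrfl Lrfl
theorem f343358 : Led Lsl_ff (LP (LK LD1_c9 LD2_c57 LD3_c48)) = (LP (LK LD1_c10 LD2_c12 LD3_c40)) :=
  Lgr Lrot19 (Lpr_dt (K44.f248963 IH) (Lpr_ft (K37.f343342 IH) (Lpr_dt (f343346 IH) (Lpn (LP (LK LD1_c10 LD2_c12 LD3_c40))))))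
theorem f248834 : Led Lsl_at (LP (LK LD1_c9 LD2_c57 LD3_c48)) = (LP (LK LD1_c5 LD2_c3 LD3_c27)) :=
  Lre_a IH (LK LD1_c9 LD2_c57 LD3_c48) (LK LD1_c5 LD2_c3 LD3_c27) Lrfl Lrfl
theorem f343433 : Led Lsl_gf (LP (LK LD1_c9 LD2_c57 LD3_c51)) = (LP (LK LD1_c10 LD2_c12 LD3_c40)) :=
  Lgr Lrot47 (Lpr_gt (K44.f233449 IH) (Lpe (f248834 IH) (Lpr_ff (f343358 IH) (Lpn (LP (LK LD1_c10 LD2_c12 LD3_c40))))))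
theorem f247939 : Led Lsl_gt (LP (LK LD1_c9 LD2_c57 LD3_c44)) = (LP (LK LD1_c9 LD2_c59 LD3_c60)) :=
  Lre_g IH (LK LD1_c9 LD2_c57 LD3_c44) (LK LD1_c9 LD2_c59 LD3_c60) Lrfl Lrfl
theorem f247943 : Led Lsl_dt (LP (LK LD1_c9 LD2_c59 LD3_c60)) = (LP (LK LD1_c18 LD2_c16 LD3_c49)) :=
  Lre_d IH (LK LD1_c9 LD2_c59 LD3_c60) (LK LD1_c18 LD2_c16 LD3_c49) Lrfl Lrfl
theorem f584988 : Led Lsl_gt (LP (LK LD1_c18 LD2_c16 LD3_c49)) = (LP (LK LD1_c18 LD2_c9 LD3_c5)) :=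
  Lgr Lrot49 (Lpe (f247943 IH) (Lpe (f247939 IH) (Lpe (K44.f405312 IH) (Lpe (K38.f405309 IH) (Lpr_dt (f343346 IH) (Lpe (f343433 IH) (Lpr_dt (f584691 IH) (Lpe (K44.f257055 IH) (Lpr_df (K44.f584497 IH) (Lpn (LP (LK LD1_c18 LD2_c9 LD3_c5))))))))))))
theorem f376952 : Led Lsl_at (LP (LK LD1_c9 LD2_c54 LD3_c58)) = (LP (LK LD1_c18 LD2_c9 LD3_c5)) :=
  Lre_a IH (LK LD1_c9 LD2_c54 LD3_c58) (LK LD1_c18 LD2_c9 LD3_c5) Lrfl Lrfl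
theorem f584990 : Led Lsl_gf (LP (LK LD1_c18 LD2_c16 LD3_c49)) = (LP (LK LD1_c10 LD2_c10 LD3_c54)) :=
  Lgr Lrot47 (Lpr_gt (f584988 IH) (Lpe (f376952 IH) (Lpe (K44.f364376 IH) (Lpn (LP (LK LD1_c10 LD2_c10 LD3_c54))))))
theorem f247942 : Led Lsl_dt (LP (LK LD1_c18 LD2_c16 LD3_c49)) = (LP (LK LD1_c9 LD2_c59 LD3_c60)) :=
  Lre_d IH (LK LD1_c18 LD2_c16 LD3_c49) (LK LD1_c9 LD2_c59 LD3_c60) Lrfl Lrfl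
theorem f163863 : Led Lsl_bt (LP (LK LD1_c5 LD2_c4 LD3_c28)) = (LP (LK LD1_c2 LD2_c29 LD3_c36)) :=
  Lre_b IH (LK LD1_c5 LD2_c4 LD3_c28) (LK LD1_c2 LD2_c29 LD3_c36) Lrfl Lrfl
theorem f584993 : Led Lsl_bt (LP (LK LD1_c5 LD2_c4 LD3_c35)) = (LP (LK LD1_c2 LD2_c59 LD3_c32)) :=
  Lgr Lrot178 (Lpe (K10.f163645 IH) (Lpe (K0.f21455 IH) (Lpe (K44.f21491 IH) (Lpe (f163863 IH) (Lpe (K44.f247940 IH) (Lpe (f247942 IH) (Lpr_gf (f584990 IH) (Lpe (K37.f248047 IH) (Lpe (K14.f189552 IH) (Lpr_df (K14.f247999 IH) (Lpr_gf (K14.f255923 IH) (Lpe (K17.f249639 IH) (Lpr_cf (K14.f253408 IH) (Lpe (K14.f231289 IH) (Lpe (K14.f253421 IH) (Lpe (K44.f177553 IH) (Lpe (K9.f8494 IH) (Lpr_df (K9.f8959 IH) (Lpe (K9.f9046 IH) (Lpn (LP (LK LD1_c2 LD2_c59 LD3_c32))))))))))))))))))))))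
theorem f169003 : Led Lsl_bt (LP (LK LD1_c1 LD2_c25 LD3_c31)) = (LP (LK LD1_c2 LD2_c59 LD3_c38)) :=
  Lre_b IH (LK LD1_c1 LD2_c25 LD3_c31) (LK LD1_c2 LD2_c59 LD3_c38) Lrfl Lrfl
theorem f584999 : Led Lsl_df (LP (LK LD1_c5 LD2_c4 LD3_c35)) = (LP (LK LD1_c2 LD2_c59 LD3_c38)) :=
  Lgr Lrot12 (Lpr_bt (f584993 IH) (Lpe (K9.f177468 IH) (Lpr_bt (f169003 IH) (Lpn (LP (LK LD1_c2 LD2_c59 LD3_c38))))))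
theorem f164008 : Led Lsl_ct (LP (LK LD1_c5 LD2_c4 LD3_c35)) = (LP (LK LD1_c2 LD2_c29 LD3_c38)) :=
  Lre_c IH (LK LD1_c5 LD2_c4 LD3_c35) (LK LD1_c2 LD2_c29 LD3_c38) Lrfl Lrfl
theorem f21942 : Led Lsl_dt (LP (LK LD1_c2 LD2_c29 LD3_c38)) = (LP (LK LD1_c1 LD2_c11 LD3_c52)) :=
  Lre_d IH (LK LD1_c2 LD2_c29 LD3_c38) (LK LD1_c1 LD2_c11 LD3_c52) Lrfl Lrfl
theorem f21480 : Led Lsl_ct (LP (LK LD1_c1 LD2_c11 LD3_c52)) = (LP (LK LD1_c2 LD2_c28 LD3_c36)) :=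
  Lre_c IH (LK LD1_c1 LD2_c11 LD3_c52) (LK LD1_c2 LD2_c28 LD3_c36) Lrfl Lrfl
theorem f21873 : Led Lsl_dt (LP (LK LD1_c2 LD2_c28 LD3_c36)) = (LP (LK LD1_c5 LD2_c1 LD3_c56)) :=
  Lre_d IH (LK LD1_c2 LD2_c28 LD3_c36) (LK LD1_c5 LD2_c1 LD3_c56) Lrfl Lrfl
theorem f164046 : Led Lsl_ct (LP (LK LD1_c5 LD2_c1 LD3_c56)) = (LP (LK LD1_c9 LD2_c54 LD3_c29)) :=
  Lre_c IH (LK LD1_c5 LD2_c1 LD3_c56) (LK LD1_c9 LD2_c54 LD3_c29) Lrfl Lrfl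
theorem f226075 : Led Lsl_bt (LP (LK LD1_c4 LD2_c6 LD3_c52)) = (LP (LK LD1_c2 LD2_c0 LD3_c47)) :=
  Lre_b IH (LK LD1_c4 LD2_c6 LD3_c52) (LK LD1_c2 LD2_c0 LD3_c47) Lrfl Lrfl
theorem f334963 : Led Lsl_ft (LP (LK LD1_c2 LD2_c59 LD3_c38)) = (LP (LK LD1_c4 LD2_c6 LD3_c52)) :=
  Lgr Lrot75 (Lpe (f169003 IH) (Lpr_ff (K22.f334961 IH) (Lpe (f226075 IH) (Lpn (LP (LK LD1_c4 LD2_c6 LD3_c52))))))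
theorem f585011 : Led Lsl_dt (LP (LK LD1_c9 LD2_c54 LD3_c29)) = (LP (LK LD1_c15 LD2_c29 LD3_c50)) :=
  Lgr Lrot120 (Lpe (f164046 IH) (Lpe (f21873 IH) (Lpe (f21480 IH) (Lpe (f21942 IH) (Lpe (f164008 IH) (Lpr_df (f584999 IH) (Lpr_ft (f334963 IH) (Lpr_at (K25.f334954 IH) (Lpe (K25.f338911 IH) (Lpn (LP (LK LD1_c15 LD2_c29 LD3_c50))))))))))))
theorem f3679 : Led Lsl_ft (LP (LK LD1_c9 LD2_c54 LD3_c29)) = (LP (LK LD1_c18 LD2_c8 LD3_c2)) :=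
  Lre_f IH (LK LD1_c9 LD2_c54 LD3_c29) (LK LD1_c18 LD2_c8 LD3_c2) Lrfl Lrfl
theorem f185055 : Led Lsl_ct (LP (LK LD1_c6 LD2_c6 LD3_c59)) = (LP (LK LD1_c2 LD2_c59 LD3_c38)) :=
  Lre_c IH (LK LD1_c6 LD2_c6 LD3_c59) (LK LD1_c2 LD2_c59 LD3_c38) Lrfl Lrfl
theorem f185056 : Led Lsl_dt (LP (LK LD1_c11 LD2_c56 LD3_c54)) = (LP (LK LD1_c6 LD2_c6 LD3_c59)) :=
  Lre_d IH (LK LD1_c11 LD2_c56 LD3_c54) (LK LD1_c6 LD2_c6 LD3_c59) Lrfl Lrfl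
theorem f163842 : Led Lsl_at (LP (LK LD1_c5 LD2_c4 LD3_c32)) = (LP (LK LD1_c2 LD2_c29 LD3_c38)) :=
  Lre_a IH (LK LD1_c5 LD2_c4 LD3_c32) (LK LD1_c2 LD2_c29 LD3_c38) Lrfl Lrfl
theorem f164021 : Led Lsl_dt (LP (LK LD1_c5 LD2_c4 LD3_c21)) = (LP (LK LD1_c5 LD2_c14 LD3_c45)) :=
  Lgr Lrot60 (Lpe (K0.f21576 IH) (Lpe (K8.f21929 IH) (Lpr_ff (K10.f164015 IH) (Lpn (LP (LK LD1_c5 LD2_c14 LD3_c45))))))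
theorem f164035 : Led Lsl_df (LP (LK LD1_c5 LD2_c4 LD3_c21)) = (LP (LK LD1_c5 LD2_c14 LD3_c45)) :=
  Lgr Lrot38 (Lpr_dt (f164021 IH) (Lpn (LP (LK LD1_c5 LD2_c14 LD3_c45))))
theorem f3623 : Led Lsl_dt (LP (LK LD1_c9 LD2_c54 LD3_c15)) = (LP (LK LD1_c18 LD2_c7 LD3_c29)) :=
  Lre_d IH (LK LD1_c9 LD2_c54 LD3_c15) (LK LD1_c18 LD2_c7 LD3_c29) Lrfl Lrfl
theorem f585007 : Led Lsl_ct (LP (LK LD1_c18 LD2_c7 LD3_c29)) = (LP (LK LD1_c11 LD2_c56 LD3_c54)) :=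
  Lgr Lrot41 (Lpe (f3623 IH) (Lpe (K44.f163854 IH) (Lpr_df (f164035 IH) (Lpe (K10.f164015 IH) (Lpr_at (f163842 IH) (Lpe (f164008 IH) (Lpr_df (f584999 IH) (Lpe (f185055 IH) (Lpe (f185056 IH) (Lpn (LP (LK LD1_c11 LD2_c56 LD3_c54))))))))))))
theorem f585023 : Led Lsl_df (LP (LK LD1_c10 LD2_c18 LD3_c31)) = (LP (LK LD1_c8 LD2_c14 LD3_c18)) :=
  Lgr Lrot43 (Lpr_ct (K10.f164002 IH) (Lpe (f164035 IH) (Lpr_ct (K44.f163854 IH) (Lpr_dt (f3623 IH) (Lpr_ct (f585007 IH) (Lpr_dt (f185056 IH) (Lpr_ct (f185055 IH) (Lpe (f584999 IH) (Lpr_ct (f164008 IH) (Lpr_dt (f21942 IH) (Lpr_ct (f21480 IH) (Lpr_dt (f21873 IH) (Lpr_ct (f164046 IH) (Lpr_dt (f585011 IH) (Lpr_ct (K25.f338911 IH) (Lpn (LP (LK LD1_c8 LD2_c14 LD3_c18))))))))))))))))))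
theorem f585030 : Led Lsl_at (LP (LK LD1_c18 LD2_c8 LD3_c2)) = (LP (LK LD1_c11 LD2_c56 LD3_c54)) :=
  Lgr Lrot33 (Lpe (f3679 IH) (Lpr_dt (f585011 IH) (Lpr_ct (K25.f338911 IH) (Lpe (f585023 IH) (Lpr_ct (K10.f164002 IH) (Lpe (f164035 IH) (Lpr_ct (K44.f163854 IH) (Lpr_dt (f3623 IH) (Lpr_ct (f585007 IH) (Lpn (LP (LK LD1_c11 LD2_c56 LD3_c54))))))))))))
theorem f3401 : Led Lsl_ct (LP (LK LD1_c9 LD2_c54 LD3_c31)) = (LP (LK LD1_c18 LD2_c8 LD3_c2)) :=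
  Lre_c IH (LK LD1_c9 LD2_c54 LD3_c31) (LK LD1_c18 LD2_c8 LD3_c2) Lrfl Lrfl
theorem f3660 : Led Lsl_at (LP (LK LD1_c18 LD2_c7 LD3_c29)) = (LP (LK LD1_c9 LD2_c54 LD3_c31)) :=
  Lre_a IH (LK LD1_c18 LD2_c7 LD3_c29) (LK LD1_c9 LD2_c54 LD3_c31) Lrfl Lrfl
theorem f585039 : Led Lsl_cf (LP (LK LD1_c18 LD2_c7 LD3_c29)) = (LP (LK LD1_c11 LD2_c56 LD3_c54)) :=
  Lgr Lrot1 (Lpr_at (f3660 IH) (Lpr_ct (f3401 IH) (Lpr_at (f585030 IH) (Lpn (LP (LK LD1_c11 LD2_c56 LD3_c54))))))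
theorem f3638 : Led Lsl_ft (LP (LK LD1_c18 LD2_c7 LD3_c29)) = (LP (LK LD1_c9 LD2_c54 LD3_c26)) :=
  Lre_f IH (LK LD1_c18 LD2_c7 LD3_c29) (LK LD1_c9 LD2_c54 LD3_c26) Lrfl Lrfl
theorem f233766 : Led Lsl_bt (LP (LK LD1_c8 LD2_c14 LD3_c14)) = (LP (LK LD1_c15 LD2_c29 LD3_c51)) :=
  Lre_b IH (LK LD1_c8 LD2_c14 LD3_c14) (LK LD1_c15 LD2_c29 LD3_c51) Lrfl Lrfl
theorem f265701 : Led Lsl_bt (LP (LK LD1_c11 LD2_c56 LD3_c54)) = (LP (LK LD1_c6 LD2_c6 LD3_c60)) :=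
  Lre_b IH (LK LD1_c11 LD2_c56 LD3_c54) (LK LD1_c6 LD2_c6 LD3_c60) Lrfl Lrfl
theorem f338891 : Led Lsl_ft (LP (LK LD1_c15 LD2_c29 LD3_c51)) = (LP (LK LD1_c11 LD2_c56 LD3_c54)) :=
  Lgr Lrot75 (Lpe (f233766 IH) (Lpr_ff (K25.f338889 IH) (Lpe (f265701 IH) (Lpn (LP (LK LD1_c11 LD2_c56 LD3_c54))))))
theorem f585055 : Led Lsl_ct (LP (LK LD1_c9 LD2_c54 LD3_c26)) = (LP (LK LD1_c15 LD2_c29 LD3_c51)) :=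
  Lgr Lrot40 (Lpe (f3638 IH) (Lpr_cf (f585039 IH) (Lpe (f338891 IH) (Lpn (LP (LK LD1_c15 LD2_c29 LD3_c51))))))
theorem f233753 : Led Lsl_bt (LP (LK LD1_c15 LD2_c29 LD3_c51)) = (LP (LK LD1_c8 LD2_c14 LD3_c14)) :=
  Lre_b IH (LK LD1_c15 LD2_c29 LD3_c51) (LK LD1_c8 LD2_c14 LD3_c14) Lrfl Lrfl
theorem f585999 : Led Lsl_gf (LP (LK LD1_c10 LD2_c30 LD3_c16)) = (LP (LK LD1_c10 LD2_c14 LD3_c48)) :=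
  Lgr Lrot85 (Lpr_dt (f585998 IH) (Lpr_ct (K44.f288982 IH) (Lpr_bt (K44.f585980 IH) (Lpe (f585978 IH) (Lpr_dt (K0.f21631 IH) (Lpr_ct (f585055 IH) (Lpr_bt (f233753 IH) (Lpr_gt (K15.f233748 IH) (Lpr_dt (K10.f31023 IH) (Lpr_ct (K10.f31012 IH) (Lpr_bt (K10.f30864 IH) (Lpr_gt (K10.f188020 IH) (Lpe (K15.f253295 IH) (Lpe (K15.f253309 IH) (Lpe (K12.f230925 IH) (Lpr_gt (K15.f230299 IH) (Lpe (K15.f258061 IH) (Lpr_ct (K15.f258066 IH) (Lpr_bt (K44.f258074 IH) (Lpn (LP (LK LD1_c10 LD2_c14 LD3_c48))))))))))))))))))))))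
theorem f586008 : Led Lsl_bt (LP (LK LD1_c19 LD2_c2 LD3_c6)) = (LP (LK LD1_c10 LD2_c30 LD3_c16)) :=
  Lre_b IH (LK LD1_c19 LD2_c2 LD3_c6) (LK LD1_c10 LD2_c30 LD3_c16) Lrfl Lrfl
theorem f258080 : Led Lsl_gt (LP (LK LD1_c28 LD2_c10 LD3_c39)) = (LP (LK LD1_c18 LD2_c38 LD3_c44)) :=
  Lre_g IH (LK LD1_c28 LD2_c10 LD3_c39) (LK LD1_c18 LD2_c38 LD3_c44) Lrfl Lrfl
theorem f586009 : Led Lsl_ct (LP (LK LD1_c19 LD2_c2 LD3_c6)) = (LP (LK LD1_c28 LD2_c10 LD3_c39)) :=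
  Lgr Lrot64 (Lpr_bt (f586008 IH) (Lpr_gf (f585999 IH) (Lpe (K44.f258074 IH) (Lpr_ct (K23.f249385 IH) (Lpr_gf (K18.f258075 IH) (Lpe (K14.f230553 IH) (Lpe (K18.f258055 IH) (Lpe (K44.f258046 IH) (Lpr_ct (K44.f258079 IH) (Lpe (f258080 IH) (Lpn (LP (LK LD1_c28 LD2_c10 LD3_c39)))))))))))))
theorem f586383 : Led Lsl_af (LP (LK LD1_c18 LD2_c53 LD3_c16)) = (LP (LK LD1_c28 LD2_c10 LD3_c39)) :=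
  Lgr Lrot68 (Lpe (K44.f585851 IH) (Lpr_at (f586377 IH) (Lpr_ct (f586009 IH) (Lpn (LP (LK LD1_c28 LD2_c10 LD3_c39))))))
theorem f188414 : Led Lsl_gt (LP (LK LD1_c18 LD2_c53 LD3_c17)) = (LP (LK LD1_c10 LD2_c24 LD3_c40)) :=
  Lre_g IH (LK LD1_c18 LD2_c53 LD3_c17) (LK LD1_c10 LD2_c24 LD3_c40) Lrfl Lrfl
theorem f586395 : Led Lsl_ft (LP (LK LD1_c18 LD2_c53 LD3_c17)) = (LP (LK LD1_c28 LD2_c10 LD3_c39)) :=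
  Lgr Lrot2 (Lpr_gt (f188414 IH) (Lpr_gt (K44.f188416 IH) (Lpr_af (f586383 IH) (Lpn (LP (LK LD1_c28 LD2_c10 LD3_c39))))))
theorem f586398 : Led Lsl_ff (LP (LK LD1_c18 LD2_c53 LD3_c17)) = (LP (LK LD1_c28 LD2_c10 LD3_c39)) :=
  Lgr Lrot3 (Lpr_ft (f586395 IH) (Lpn (LP (LK LD1_c28 LD2_c10 LD3_c39))))
theorem f586402 : Led Lsl_at (LP (LK LD1_c18 LD2_c53 LD3_c17)) = (LP (LK LD1_c27 LD2_c50 LD3_c45)) :=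
  Lgr Lrot26 (Lpr_ff (f586398 IH) (Lpr_gt (f258080 IH) (Lpe (K44.f410259 IH) (Lpn (LP (LK LD1_c27 LD2_c50 LD3_c45))))))
theorem f586391 : Led Lsl_at (LP (LK LD1_c18 LD2_c53 LD3_c16)) = (LP (LK LD1_c28 LD2_c10 LD3_c39)) :=
  Lgr Lrot100 (Lpr_af (f586383 IH) (Lpn (LP (LK LD1_c28 LD2_c10 LD3_c39))))
theorem f586406 : Led Lsl_ff (LP (LK LD1_c18 LD2_c53 LD3_c16)) = (LP (LK LD1_c27 LD2_c50 LD3_c45)) :=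
  Lgr Lrot30 (Lpr_at (f586391 IH) (Lpe (f586398 IH) (Lpr_at (f586402 IH) (Lpn (LP (LK LD1_c27 LD2_c50 LD3_c45))))))
theorem f417482 : Led Lsl_bf (LP (LK LD1_c18 LD2_c20 LD3_c27)) = (LP (LK LD1_c18 LD2_c53 LD3_c16)) :=
  Lgr Lrot24 (Lpr_bt (K44.f417480 IH) (Lpn (LP (LK LD1_c18 LD2_c53 LD3_c16))))
theorem f586408 : Led Lsl_ft (LP (LK LD1_c18 LD2_c20 LD3_c27)) = (LP (LK LD1_c18 LD2_c10 LD3_c34)) :=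
  Lgr Lrot75 (Lpr_bf (f417482 IH) (Lpr_ff (f586406 IH) (Lpe (K44.f250107 IH) (Lpn (LP (LK LD1_c18 LD2_c10 LD3_c34))))))
theorem f285242 : Led Lsl_ct (LP (LK LD1_c10 LD2_c2 LD3_c13)) = (LP (LK LD1_c18 LD2_c20 LD3_c27)) :=
  Lre_c IH (LK LD1_c10 LD2_c2 LD3_c13) (LK LD1_c18 LD2_c20 LD3_c27) Lrfl Lrfl
theorem f586436 : Led Lsl_ff (LP (LK LD1_c10 LD2_c2 LD3_c13)) = (LP (LK LD1_c9 LD2_c55 LD3_c56)) :=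
  Lgr Lrot23 (Lpr_ct (f285242 IH) (Lpr_ft (f586408 IH) (Lpr_ct (K44.f250106 IH) (Lpn (LP (LK LD1_c9 LD2_c55 LD3_c56))))))
theorem f586438 : Led Lsl_at (LP (LK LD1_c10 LD2_c2 LD3_c13)) = (LP (LK LD1_c9 LD2_c55 LD3_c55)) :=
  Lgr Lrot26 (Lpr_ff (f586436 IH) (Lpr_gt (K44.f250105 IH) (Lpr_gt (K44.f250059 IH) (Lpn (LP (LK LD1_c9 LD2_c55 LD3_c55))))))
theorem f417496 : Led Lsl_bt (LP (LK LD1_c10 LD2_c2 LD3_c13)) = (LP (LK LD1_c18 LD2_c20 LD3_c26)) :=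
  Lre_b IH (LK LD1_c10 LD2_c2 LD3_c13) (LK LD1_c18 LD2_c20 LD3_c26) Lrfl Lrfl
theorem f583619 : Led Lsl_dt (LP (LK LD1_c5 LD2_c55 LD3_c25)) = (LP (LK LD1_c10 LD2_c2 LD3_c13)) :=
  Lgr Lrot79 (Lpe (K44.f166180 IH) (Lpr_df (K44.f583615 IH) (Lpe (f417496 IH) (Lpn (LP (LK LD1_c10 LD2_c2 LD3_c13))))))
theorem f586444 : Led Lsl_af (LP (LK LD1_c5 LD2_c55 LD3_c25)) = (LP (LK LD1_c5 LD2_c18 LD3_c50)) :=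
  Lgr Lrot117 (Lpr_dt (f583619 IH) (Lpr_at (f586438 IH) (Lpr_dt (K44.f412826 IH) (Lpn (LP (LK LD1_c5 LD2_c18 LD3_c50))))))
theorem f71550 : Led Lsl_at (LP (LK LD1_c5 LD2_c55 LD3_c26)) = (LP (LK LD1_c2 LD2_c54 LD3_c3)) :=
  Lre_a IH (LK LD1_c5 LD2_c55 LD3_c26) (LK LD1_c2 LD2_c54 LD3_c3) Lrfl Lrfl
theorem f71551 : Led Lsl_ff (LP (LK LD1_c5 LD2_c55 LD3_c26)) = (LP (LK LD1_c5 LD2_c18 LD3_c49)) :=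
  Lgr Lrot30 (Lpr_at (f71550 IH) (Lpr_ft (K2.f71548 IH) (Lpr_at (K10.f32605 IH) (Lpn (LP (LK LD1_c5 LD2_c18 LD3_c49))))))
theorem f442779 : Led Lsl_gf (LP (LK LD1_c5 LD2_c55 LD3_c25)) = (LP (LK LD1_c5 LD2_c18 LD3_c49)) :=
  Lgr Lrot47 (Lpr_gt (K44.f71602 IH) (Lpe (f71550 IH) (Lpr_ff (f71551 IH) (Lpn (LP (LK LD1_c5 LD2_c18 LD3_c49))))))
theorem f586456 : Led Lsl_ft (LP (LK LD1_c5 LD2_c55 LD3_c24)) = (LP (LK LD1_c5 LD2_c18 LD3_c50)) :=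
  Lgr Lrot2 (Lpr_gt (K10.f71561 IH) (Lpe (f442779 IH) (Lpr_af (f586444 IH) (Lpn (LP (LK LD1_c5 LD2_c18 LD3_c50))))))
theorem f586468 : Led Lsl_ff (LP (LK LD1_c5 LD2_c55 LD3_c24)) = (LP (LK LD1_c5 LD2_c18 LD3_c50)) :=
  Lgr Lrot3 (Lpr_ft (f586456 IH) (Lpn (LP (LK LD1_c5 LD2_c18 LD3_c50))))
theorem f169752 : Led Lsl_bt (LP (LK LD1_c5 LD2_c55 LD3_c24)) = (LP (LK LD1_c11 LD2_c36 LD3_c7)) :=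
  Lre_b IH (LK LD1_c5 LD2_c55 LD3_c24) (LK LD1_c11 LD2_c36 LD3_c7) Lrfl Lrfl
theorem f586472 : Led Lsl_ft (LP (LK LD1_c11 LD2_c36 LD3_c7)) = (LP (LK LD1_c10 LD2_c27 LD3_c26)) :=
  Lgr Lrot75 (Lpe (f169752 IH) (Lpr_ff (f586468 IH) (Lpe (K44.f186514 IH) (Lpn (LP (LK LD1_c10 LD2_c27 LD3_c26))))))
theorem f169754 : Led Lsl_cf (LP (LK LD1_c11 LD2_c36 LD3_c7)) = (LP (LK LD1_c10 LD2_c0 LD3_c16)) :=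
  Lgr Lrot11 (Lpr_ct (K10.f169750 IH) (Lpn (LP (LK LD1_c10 LD2_c0 LD3_c16))))
theorem f586493 : Led Lsl_ff (LP (LK LD1_c10 LD2_c0 LD3_c16)) = (LP (LK LD1_c10 LD2_c18 LD3_c30)) :=
  Lgr Lrot23 (Lpe (f169754 IH) (Lpr_ft (f586472 IH) (Lpr_ct (K44.f186578 IH) (Lpn (LP (LK LD1_c10 LD2_c18 LD3_c30))))))
theorem f164009 : Led Lsl_gt (LP (LK LD1_c5 LD2_c14 LD3_c27)) = (LP (LK LD1_c10 LD2_c18 LD3_c29)) :=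
  Lre_g IH (LK LD1_c5 LD2_c14 LD3_c27) (LK LD1_c10 LD2_c18 LD3_c29) Lrfl Lrfl
theorem f586499 : Led Lsl_at (LP (LK LD1_c10 LD2_c0 LD3_c16)) = (LP (LK LD1_c10 LD2_c18 LD3_c29)) :=
  Lgr Lrot26 (Lpr_ff (f586493 IH) (Lpr_gt (K44.f163941 IH) (Lpr_gt (f164009 IH) (Lpn (LP (LK LD1_c10 LD2_c18 LD3_c29))))))
theorem f164013 : Led Lsl_ct (LP (LK LD1_c10 LD2_c18 LD3_c29)) = (LP (LK LD1_c18 LD2_c43 LD3_c27)) :=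
  Lre_c IH (LK LD1_c10 LD2_c18 LD3_c29) (LK LD1_c18 LD2_c43 LD3_c27) Lrfl Lrfl
theorem f586503 : Led Lsl_af (LP (LK LD1_c11 LD2_c36 LD3_c7)) = (LP (LK LD1_c18 LD2_c43 LD3_c27)) :=
  Lgr Lrot68 (Lpr_ct (K10.f169750 IH) (Lpr_at (f586499 IH) (Lpr_ct (f164013 IH) (Lpn (LP (LK LD1_c18 LD2_c43 LD3_c27))))))
theorem f586450 : Led Lsl_at (LP (LK LD1_c5 LD2_c55 LD3_c25)) = (LP (LK LD1_c5 LD2_c18 LD3_c50)) :=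
  Lgr Lrot100 (Lpr_af (f586444 IH) (Lpn (LP (LK LD1_c5 LD2_c18 LD3_c50))))
theorem f583628 : Led Lsl_bt (LP (LK LD1_c5 LD2_c55 LD3_c25)) = (LP (LK LD1_c11 LD2_c36 LD3_c10)) :=
  Lre_b IH (LK LD1_c5 LD2_c55 LD3_c25) (LK LD1_c11 LD2_c36 LD3_c10) Lrfl Lrfl
theorem f586224 : Led Lsl_ff (LP (LK LD1_c5 LD2_c55 LD3_c25)) = (LP (LK LD1_c5 LD2_c18 LD3_c51)) :=
  Lgr Lrot25 (Lpr_bt (f583628 IH) (Lpr_ft (f586220 IH) (Lpr_bt (f71680 IH) (Lpn (LP (LK LD1_c5 LD2_c18 LD3_c51))))))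
theorem f586470 : Led Lsl_at (LP (LK LD1_c5 LD2_c55 LD3_c24)) = (LP (LK LD1_c5 LD2_c18 LD3_c51)) :=
  Lgr Lrot66 (Lpr_ff (f586468 IH) (Lpe (f586450 IH) (Lpr_ff (f586224 IH) (Lpn (LP (LK LD1_c5 LD2_c18 LD3_c51))))))
theorem f412894 : Led Lsl_bt (LP (LK LD1_c5 LD2_c18 LD3_c51)) = (LP (LK LD1_c10 LD2_c27 LD3_c29)) :=
  Lre_b IH (LK LD1_c5 LD2_c18 LD3_c51) (LK LD1_c10 LD2_c27 LD3_c29) Lrfl Lrfl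
theorem f412889 : Led Lsl_at (LP (LK LD1_c10 LD2_c27 LD3_c29)) = (LP (LK LD1_c18 LD2_c57 LD3_c35)) :=
  Lre_a IH (LK LD1_c10 LD2_c27 LD3_c29) (LK LD1_c18 LD2_c57 LD3_c35) Lrfl Lrfl
theorem f586512 : Led Lsl_bt (LP (LK LD1_c18 LD2_c57 LD3_c35)) = (LP (LK LD1_c18 LD2_c43 LD3_c27)) :=
  Lgr Lrot62 (Lpe (f412889 IH) (Lpe (f412894 IH) (Lpe (f586470 IH) (Lpe (K10.f71571 IH) (Lpr_af (f586503 IH) (Lpn (LP (LK LD1_c18 LD2_c43 LD3_c27))))))))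
theorem f586514 : Led Lsl_bf (LP (LK LD1_c18 LD2_c57 LD3_c35)) = (LP (LK LD1_c18 LD2_c43 LD3_c27)) :=
  Lgr Lrot24 (Lpr_bt (f586512 IH) (Lpn (LP (LK LD1_c18 LD2_c43 LD3_c27))))
theorem f164012 : Led Lsl_ct (LP (LK LD1_c18 LD2_c43 LD3_c27)) = (LP (LK LD1_c10 LD2_c18 LD3_c29)) :=
  Lre_c IH (LK LD1_c18 LD2_c43 LD3_c27) (LK LD1_c10 LD2_c18 LD3_c29) Lrfl Lrfl
theorem f164640 : Led Lsl_ct (LP (LK LD1_c5 LD2_c11 LD3_c45)) = (LP (LK LD1_c10 LD2_c14 LD3_c20)) :=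
  Lre_c IH (LK LD1_c5 LD2_c11 LD3_c45) (LK LD1_c10 LD2_c14 LD3_c20) Lrfl Lrfl
theorem f164641 : Led Lsl_gt (LP (LK LD1_c18 LD2_c38 LD3_c12)) = (LP (LK LD1_c10 LD2_c14 LD3_c20)) :=
  Lre_g IH (LK LD1_c18 LD2_c38 LD3_c12) (LK LD1_c10 LD2_c14 LD3_c20) Lrfl Lrfl
theorem f186779 : Led Lsl_bt (LP (LK LD1_c2 LD2_c32 LD3_c12)) = (LP (LK LD1_c5 LD2_c10 LD3_c19)) :=
  Lre_b IH (LK LD1_c2 LD2_c32 LD3_c12) (LK LD1_c5 LD2_c10 LD3_c19) Lrfl Lrfl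
theorem f186786 : Led Lsl_gt (LP (LK LD1_c5 LD2_c10 LD3_c19)) = (LP (LK LD1_c10 LD2_c11 LD3_c23)) :=
  Lre_g IH (LK LD1_c5 LD2_c10 LD3_c19) (LK LD1_c10 LD2_c11 LD3_c23) Lrfl Lrfl
theorem f421648 : Led Lsl_bt (LP (LK LD1_c18 LD2_c33 LD3_c46)) = (LP (LK LD1_c10 LD2_c11 LD3_c23)) :=
  Lre_b IH (LK LD1_c18 LD2_c33 LD3_c46) (LK LD1_c10 LD2_c11 LD3_c23) Lrfl Lrfl
theorem f421649 : Led Lsl_cf (LP (LK LD1_c18 LD2_c38 LD3_c12)) = (LP (LK LD1_c18 LD2_c33 LD3_c46)) :=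
  Lgr Lrot160 (Lpr_gt (f164641 IH) (Lpe (f164640 IH) (Lpr_bt (K44.f164638 IH) (Lpe (K10.f164635 IH) (Lpr_ct (K9.f163658 IH) (Lpr_gt (K9.f163938 IH) (Lpr_cf (K14.f186715 IH) (Lpr_bt (f186779 IH) (Lpr_gt (f186786 IH) (Lpe (f421648 IH) (Lpn (LP (LK LD1_c18 LD2_c33 LD3_c46)))))))))))))
theorem f586518 : Led Lsl_gt (LP (LK LD1_c18 LD2_c57 LD3_c35)) = (LP (LK LD1_c18 LD2_c33 LD3_c46)) :=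
  Lgr Lrot82 (Lpr_bf (f586514 IH) (Lpr_ct (f164012 IH) (Lpe (f164009 IH) (Lpe (K44.f163940 IH) (Lpr_bt (K10.f163918 IH) (Lpr_gf (K10.f164635 IH) (Lpe (K44.f164638 IH) (Lpr_ct (f164640 IH) (Lpe (f164641 IH) (Lpr_cf (f421649 IH) (Lpn (LP (LK LD1_c18 LD2_c33 LD3_c46)))))))))))))
theorem f164639 : Led Lsl_ct (LP (LK LD1_c10 LD2_c14 LD3_c20)) = (LP (LK LD1_c5 LD2_c11 LD3_c45)) :=
  Lre_c IH (LK LD1_c10 LD2_c14 LD3_c20) (LK LD1_c5 LD2_c11 LD3_c45) Lrfl Lrfl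
theorem f186791 : Led Lsl_ct (LP (LK LD1_c5 LD2_c12 LD3_c3)) = (LP (LK LD1_c2 LD2_c32 LD3_c58)) :=
  Lre_c IH (LK LD1_c5 LD2_c12 LD3_c3) (LK LD1_c2 LD2_c32 LD3_c58) Lrfl Lrfl
theorem f586524 : Led Lsl_dt (LP (LK LD1_c18 LD2_c57 LD3_c35)) = (LP (LK LD1_c18 LD2_c33 LD3_c35)) :=
  Lgr Lrot6 (Lpr_gt (f586518 IH) (Lpe (f421649 IH) (Lpr_gt (f164641 IH) (Lpr_ct (f164639 IH) (Lpr_df (K44.f406485 IH) (Lpe (f186791 IH) (Lpe (K44.f186794 IH) (Lpr_cf (K44.f186795 IH) (Lpe (K44.f186797 IH) (Lpn (LP (LK LD1_c18 LD2_c33 LD3_c35))))))))))))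
theorem f586545 : Led Lsl_df (LP (LK LD1_c18 LD2_c43 LD3_c27)) = (LP (LK LD1_c18 LD2_c12 LD3_c42)) :=
  Lgr Lrot12 (Lpe (f586514 IH) (Lpr_dt (f586524 IH) (Lpe (K44.f395455 IH) (Lpn (LP (LK LD1_c18 LD2_c12 LD3_c42))))))
theorem f164051 : Led Lsl_gt (LP (LK LD1_c5 LD2_c14 LD3_c44)) = (LP (LK LD1_c2 LD2_c34 LD3_c10)) :=
  Lre_g IH (LK LD1_c5 LD2_c14 LD3_c44) (LK LD1_c2 LD2_c34 LD3_c10) Lrfl Lrfl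
theorem f395451 : Led Lsl_cf (LP (LK LD1_c18 LD2_c12 LD3_c42)) = (LP (LK LD1_c18 LD2_c31 LD3_c50)) :=
  Lgr Lrot11 (Lpr_ct (K44.f395449 IH) (Lpn (LP (LK LD1_c18 LD2_c31 LD3_c50))))
theorem f185387 : Led Lsl_gt (LP (LK LD1_c10 LD2_c10 LD3_c23)) = (LP (LK LD1_c5 LD2_c9 LD3_c48)) :=
  Lre_g IH (LK LD1_c10 LD2_c10 LD3_c23) (LK LD1_c5 LD2_c9 LD3_c48) Lrfl Lrfl
theorem f586551 : Led Lsl_dt (LP (LK LD1_c5 LD2_c14 LD3_c44)) = (LP (LK LD1_c10 LD2_c10 LD3_c23)) :=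
  Lgr Lrot6 (Lpr_gt (f164051 IH) (Lpr_ct (K44.f163940 IH) (Lpr_gt (f164009 IH) (Lpr_ct (f164013 IH) (Lpr_df (f586545 IH) (Lpr_cf (f395451 IH) (Lpe (K44.f22089 IH) (Lpe (K44.f165519 IH) (Lpe (f185387 IH) (Lpn (LP (LK LD1_c10 LD2_c10 LD3_c23))))))))))))
theorem f163975 : Led Lsl_at (LP (LK LD1_c5 LD2_c14 LD3_c45)) = (LP (LK LD1_c2 LD2_c34 LD3_c10)) :=
  Lre_a IH (LK LD1_c5 LD2_c14 LD3_c45) (LK LD1_c2 LD2_c34 LD3_c10) Lrfl Lrfl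
theorem f163976 : Led Lsl_ft (LP (LK LD1_c5 LD2_c4 LD3_c32)) = (LP (LK LD1_c5 LD2_c14 LD3_c45)) :=
  Lgr Lrot101 (Lpe (K10.f163798 IH) (Lpr_ff (K10.f163973 IH) (Lpe (f163975 IH) (Lpn (LP (LK LD1_c5 LD2_c14 LD3_c45))))))
theorem f164064 : Led Lsl_gt (LP (LK LD1_c5 LD2_c4 LD3_c32)) = (LP (LK LD1_c5 LD2_c14 LD3_c44)) :=
  Lgr Lrot5 (Lpr_ft (f163976 IH) (Lpr_at (f163975 IH) (Lpe (f164051 IH) (Lpn (LP (LK LD1_c5 LD2_c14 LD3_c44))))))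
theorem f163984 : Led Lsl_ct (LP (LK LD1_c10 LD2_c0 LD3_c8)) = (LP (LK LD1_c5 LD2_c4 LD3_c32)) :=
  Lre_c IH (LK LD1_c10 LD2_c0 LD3_c8) (LK LD1_c5 LD2_c4 LD3_c32) Lrfl Lrfl
theorem f180611 : Led Lsl_ct (LP (LK LD1_c5 LD2_c5 LD3_c32)) = (LP (LK LD1_c10 LD2_c2 LD3_c6)) :=
  Lre_c IH (LK LD1_c5 LD2_c5 LD3_c32) (LK LD1_c10 LD2_c2 LD3_c6) Lrfl Lrfl
theorem f264194 : Led Lsl_ft (LP (LK LD1_c5 LD2_c2 LD3_c31)) = (LP (LK LD1_c5 LD2_c5 LD3_c32)) :=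
  Lgr Lrot4 (Lpe (K44.f165781 IH) (Lpr_ff (K15.f264176 IH) (Lpe (f180611 IH) (Lpn (LP (LK LD1_c5 LD2_c5 LD3_c32))))))
theorem f264300 : Led Lsl_at (LP (LK LD1_c5 LD2_c5 LD3_c32)) = (LP (LK LD1_c10 LD2_c2 LD3_c14)) :=
  Lre_a IH (LK LD1_c5 LD2_c5 LD3_c32) (LK LD1_c10 LD2_c2 LD3_c14) Lrfl Lrfl
theorem f412919 : Led Lsl_gt (LP (LK LD1_c9 LD2_c55 LD3_c55)) = (LP (LK LD1_c10 LD2_c2 LD3_c14)) :=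
  Lgr Lrot46 (Lpe (K44.f250059 IH) (Lpr_ft (f264194 IH) (Lpr_at (f264300 IH) (Lpn (LP (LK LD1_c10 LD2_c2 LD3_c14))))))
theorem f412832 : Led Lsl_bt (LP (LK LD1_c18 LD2_c10 LD3_c30)) = (LP (LK LD1_c9 LD2_c55 LD3_c55)) :=
  Lre_b IH (LK LD1_c18 LD2_c10 LD3_c30) (LK LD1_c9 LD2_c55 LD3_c55) Lrfl Lrfl
theorem f264216 : Led Lsl_ct (LP (LK LD1_c10 LD2_c2 LD3_c14)) = (LP (LK LD1_c18 LD2_c20 LD3_c16)) :=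
  Lre_c IH (LK LD1_c10 LD2_c2 LD3_c14) (LK LD1_c18 LD2_c20 LD3_c16) Lrfl Lrfl
theorem f264299 : Led Lsl_bt (LP (LK LD1_c5 LD2_c2 LD3_c28)) = (LP (LK LD1_c2 LD2_c28 LD3_c49)) :=
  Lre_b IH (LK LD1_c5 LD2_c2 LD3_c28) (LK LD1_c2 LD2_c28 LD3_c49) Lrfl Lrfl
theorem f276060 : Led Lsl_ft (LP (LK LD1_c5 LD2_c5 LD3_c39)) = (LP (LK LD1_c5 LD2_c2 LD3_c28)) :=
  Lgr Lrot75 (Lpe (K27.f180546 IH) (Lpr_ff (K16.f276058 IH) (Lpe (f264299 IH) (Lpn (LP (LK LD1_c5 LD2_c2 LD3_c28))))))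
theorem f180547 : Led Lsl_gt (LP (LK LD1_c5 LD2_c5 LD3_c39)) = (LP (LK LD1_c10 LD2_c2 LD3_c22)) :=
  Lre_g IH (LK LD1_c5 LD2_c5 LD3_c39) (LK LD1_c10 LD2_c2 LD3_c22) Lrfl Lrfl
theorem f410261 : Led Lsl_gt (LP (LK LD1_c10 LD2_c2 LD3_c22)) = (LP (LK LD1_c9 LD2_c55 LD3_c48)) :=
  Lgr Lrot46 (Lpe (f180547 IH) (Lpr_ft (f276060 IH) (Lpr_at (K44.f264254 IH) (Lpn (LP (LK LD1_c9 LD2_c55 LD3_c48))))))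
theorem f180549 : Led Lsl_bt (LP (LK LD1_c18 LD2_c20 LD3_c37)) = (LP (LK LD1_c10 LD2_c2 LD3_c22)) :=
  Lre_b IH (LK LD1_c18 LD2_c20 LD3_c37) (LK LD1_c10 LD2_c2 LD3_c22) Lrfl Lrfl
theorem f165289 : Led Lsl_bt (LP (LK LD1_c5 LD2_c2 LD3_c19)) = (LP (LK LD1_c2 LD2_c28 LD3_c45)) :=
  Lre_b IH (LK LD1_c5 LD2_c2 LD3_c19) (LK LD1_c2 LD2_c28 LD3_c45) Lrfl Lrfl
theorem f165291 : Led Lsl_ct (LP (LK LD1_c5 LD2_c2 LD3_c19)) = (LP (LK LD1_c9 LD2_c55 LD3_c22)) :=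
  Lre_c IH (LK LD1_c5 LD2_c2 LD3_c19) (LK LD1_c9 LD2_c55 LD3_c22) Lrfl Lrfl
theorem f165292 : Led Lsl_gt (LP (LK LD1_c18 LD2_c9 LD3_c58)) = (LP (LK LD1_c9 LD2_c55 LD3_c22)) :=
  Lre_g IH (LK LD1_c18 LD2_c9 LD3_c58) (LK LD1_c9 LD2_c55 LD3_c22) Lrfl Lrfl
theorem f180550 : Led Lsl_ct (LP (LK LD1_c18 LD2_c20 LD3_c37)) = (LP (LK LD1_c18 LD2_c9 LD3_c58)) :=
  Lgr Lrot64 (Lpr_bt (f180549 IH) (Lpe (f180547 IH) (Lpe (K27.f180546 IH) (Lpr_ct (K10.f169683 IH) (Lpr_gf (K10.f180536 IH) (Lpe (K9.f163683 IH) (Lpe (K9.f165280 IH) (Lpe (f165289 IH) (Lpr_ct (f165291 IH) (Lpe (f165292 IH) (Lpn (LP (LK LD1_c18 LD2_c9 LD3_c58)))))))))))))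
theorem f342078 : Led Lsl_at (LP (LK LD1_c18 LD2_c9 LD3_c59)) = (LP (LK LD1_c9 LD2_c55 LD3_c22)) :=
  Lre_a IH (LK LD1_c18 LD2_c9 LD3_c59) (LK LD1_c9 LD2_c55 LD3_c22) Lrfl Lrfl
theorem f342079 : Led Lsl_ft (LP (LK LD1_c18 LD2_c26 LD3_c42)) = (LP (LK LD1_c18 LD2_c9 LD3_c59)) :=
  Lgr Lrot101 (Lpe (K44.f240326 IH) (Lpr_ff (K44.f342072 IH) (Lpe (f342078 IH) (Lpn (LP (LK LD1_c18 LD2_c9 LD3_c59))))))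
theorem f342095 : Led Lsl_gt (LP (LK LD1_c18 LD2_c26 LD3_c42)) = (LP (LK LD1_c18 LD2_c9 LD3_c58)) :=
  Lgr Lrot5 (Lpr_ft (f342079 IH) (Lpr_at (f342078 IH) (Lpe (f165292 IH) (Lpn (LP (LK LD1_c18 LD2_c9 LD3_c58))))))
theorem f313911 : Led Lsl_ft (LP (LK LD1_c5 LD2_c2 LD3_c19)) = (LP (LK LD1_c5 LD2_c9 LD3_c53)) :=
  Lgr Lrot75 (Lpe (K44.f169634 IH) (Lpr_ff (K19.f313909 IH) (Lpe (K44.f181922 IH) (Lpn (LP (LK LD1_c5 LD2_c9 LD3_c53))))))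
theorem f177375 : Led Lsl_gt (LP (LK LD1_c5 LD2_c2 LD3_c19)) = (LP (LK LD1_c9 LD2_c55 LD3_c27)) :=
  Lre_g IH (LK LD1_c5 LD2_c2 LD3_c19) (LK LD1_c9 LD2_c55 LD3_c27) Lrfl Lrfl
theorem f403035 : Led Lsl_gt (LP (LK LD1_c9 LD2_c55 LD3_c27)) = (LP (LK LD1_c10 LD2_c10 LD3_c32)) :=
  Lgr Lrot46 (Lpe (f177375 IH) (Lpr_ft (f313911 IH) (Lpr_at (K44.f181926 IH) (Lpn (LP (LK LD1_c10 LD2_c10 LD3_c32))))))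
theorem f403038 : Led Lsl_bt (LP (LK LD1_c18 LD2_c10 LD3_c3)) = (LP (LK LD1_c9 LD2_c55 LD3_c27)) :=
  Lre_b IH (LK LD1_c18 LD2_c10 LD3_c3) (LK LD1_c9 LD2_c55 LD3_c27) Lrfl Lrfl
theorem f403040 : Led Lsl_ct (LP (LK LD1_c18 LD2_c10 LD3_c3)) = (LP (LK LD1_c18 LD2_c10 LD3_c37)) :=
  Lre_c IH (LK LD1_c18 LD2_c10 LD3_c3) (LK LD1_c18 LD2_c10 LD3_c37) Lrfl Lrfl
theorem f264263 : Led Lsl_bt (LP (LK LD1_c9 LD2_c55 LD3_c51)) = (LP (LK LD1_c5 LD2_c2 LD3_c30)) :=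
  Lre_b IH (LK LD1_c9 LD2_c55 LD3_c51) (LK LD1_c5 LD2_c2 LD3_c30) Lrfl Lrfl
theorem f264264 : Led Lsl_at (LP (LK LD1_c18 LD2_c10 LD3_c25)) = (LP (LK LD1_c9 LD2_c55 LD3_c51)) :=
  Lre_a IH (LK LD1_c18 LD2_c10 LD3_c25) (LK LD1_c9 LD2_c55 LD3_c51) Lrfl Lrfl
theorem f169551 : Led Lsl_bt (LP (LK LD1_c5 LD2_c5 LD3_c33)) = (LP (LK LD1_c10 LD2_c2 LD3_c15)) :=
  Lre_b IH (LK LD1_c5 LD2_c5 LD3_c33) (LK LD1_c10 LD2_c2 LD3_c15) Lrfl Lrfl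
theorem f264265 : Led Lsl_at (LP (LK LD1_c10 LD2_c2 LD3_c15)) = (LP (LK LD1_c18 LD2_c20 LD3_c29)) :=
  Lre_a IH (LK LD1_c10 LD2_c2 LD3_c15) (LK LD1_c18 LD2_c20 LD3_c29) Lrfl Lrfl
theorem f264266 : Led Lsl_bf (LP (LK LD1_c18 LD2_c10 LD3_c25)) = (LP (LK LD1_c18 LD2_c20 LD3_c29)) :=
  Lgr Lrot81 (Lpr_at (f264264 IH) (Lpr_bt (f264263 IH) (Lpr_at (K15.f264259 IH) (Lpr_bt (f169551 IH) (Lpr_at (f264265 IH) (Lpn (LP (LK LD1_c18 LD2_c20 LD3_c29))))))))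
theorem f264286 : Led Lsl_bt (LP (LK LD1_c18 LD2_c10 LD3_c25)) = (LP (LK LD1_c18 LD2_c20 LD3_c29)) :=
  Lgr Lrot127 (Lpr_bf (f264266 IH) (Lpn (LP (LK LD1_c18 LD2_c20 LD3_c29))))
theorem f264294 : Led Lsl_et (LP (LK LD1_c9 LD2_c55 LD3_c48)) = (LP (LK LD1_c18 LD2_c10 LD3_c25)) :=
  Lre_e IH (LK LD1_c9 LD2_c55 LD3_c48) (LK LD1_c18 LD2_c10 LD3_c25) Lrfl Lrfl
theorem f264295 : Led Lsl_et (LP (LK LD1_c18 LD2_c20 LD3_c29)) = (LP (LK LD1_c10 LD2_c2 LD3_c14)) :=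
  Lre_e IH (LK LD1_c18 LD2_c20 LD3_c29) (LK LD1_c10 LD2_c2 LD3_c14) Lrfl Lrfl
theorem f264296 : Led Lsl_bf (LP (LK LD1_c9 LD2_c55 LD3_c48)) = (LP (LK LD1_c10 LD2_c2 LD3_c14)) :=
  Lgr Lrot96 (Lpr_et (f264294 IH) (Lpr_bt (f264286 IH) (Lpr_et (f264295 IH) (Lpn (LP (LK LD1_c10 LD2_c2 LD3_c14))))))
theorem f410263 : Led Lsl_gf (LP (LK LD1_c18 LD2_c10 LD3_c37)) = (LP (LK LD1_c18 LD2_c20 LD3_c16)) :=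
  Lgr Lrot126 (Lpe (f403040 IH) (Lpr_bt (f403038 IH) (Lpr_gt (f403035 IH) (Lpr_ct (K44.f240332 IH) (Lpr_gt (f342095 IH) (Lpe (f180550 IH) (Lpr_bt (f180549 IH) (Lpr_gt (f410261 IH) (Lpr_bf (f264296 IH) (Lpr_ct (f264216 IH) (Lpn (LP (LK LD1_c18 LD2_c20 LD3_c16)))))))))))))
theorem f345127 : Led Lsl_ft (LP (LK LD1_c18 LD2_c33 LD3_c52)) = (LP (LK LD1_c18 LD2_c10 LD3_c20)) :=
  Lgr Lrot48 (Lpr_ff (K44.f345112 IH) (Lpn (LP (LK LD1_c18 LD2_c10 LD3_c20))))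
theorem f345104 : Led Lsl_ef (LP (LK LD1_c18 LD2_c33 LD3_c52)) = (LP (LK LD1_c28 LD2_c6 LD3_c35)) :=
  Lgr Lrot88 (Lpr_et (K44.f345101 IH) (Lpn (LP (LK LD1_c28 LD2_c6 LD3_c35))))
theorem f345099 : Led Lsl_ft (LP (LK LD1_c18 LD2_c32 LD3_c3)) = (LP (LK LD1_c28 LD2_c6 LD3_c35)) :=
  Lre_f IH (LK LD1_c18 LD2_c32 LD3_c3) (LK LD1_c28 LD2_c6 LD3_c35) Lrfl Lrfl
theorem f345111 : Led Lsl_et (LP (LK LD1_c10 LD2_c10 LD3_c24)) = (LP (LK LD1_c18 LD2_c32 LD3_c3)) :=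
  Lre_e IH (LK LD1_c10 LD2_c10 LD3_c24) (LK LD1_c18 LD2_c32 LD3_c3) Lrfl Lrfl
theorem f251552 : Led Lsl_et (LP (LK LD1_c18 LD2_c10 LD3_c20)) = (LP (LK LD1_c9 LD2_c55 LD3_c42)) :=
  Lre_e IH (LK LD1_c18 LD2_c10 LD3_c20) (LK LD1_c9 LD2_c55 LD3_c42) Lrfl Lrfl
theorem f345129 : Led Lsl_ff (LP (LK LD1_c10 LD2_c10 LD3_c24)) = (LP (LK LD1_c9 LD2_c55 LD3_c42)) :=
  Lgr Lrot72 (Lpr_et (f345111 IH) (Lpr_ft (f345099 IH) (Lpe (f345104 IH) (Lpr_ft (f345127 IH) (Lpr_et (f251552 IH) (Lpn (LP (LK LD1_c9 LD2_c55 LD3_c42))))))))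
theorem f345136 : Led Lsl_ct (LP (LK LD1_c10 LD2_c10 LD3_c24)) = (LP (LK LD1_c18 LD2_c31 LD3_c52)) :=
  Lre_c IH (LK LD1_c10 LD2_c10 LD3_c24) (LK LD1_c18 LD2_c31 LD3_c52) Lrfl Lrfl
theorem f251522 : Led Lsl_cf (LP (LK LD1_c9 LD2_c52 LD3_c36)) = (LP (LK LD1_c5 LD2_c2 LD3_c25)) :=
  Lgr Lrot11 (Lpr_ct (K44.f251457 IH) (Lpn (LP (LK LD1_c5 LD2_c2 LD3_c25))))
theorem f251529 : Led Lsl_at (LP (LK LD1_c9 LD2_c55 LD3_c42)) = (LP (LK LD1_c5 LD2_c2 LD3_c25)) :=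
  Lre_a IH (LK LD1_c9 LD2_c55 LD3_c42) (LK LD1_c5 LD2_c2 LD3_c25) Lrfl Lrfl
theorem f251548 : Led Lsl_ct (LP (LK LD1_c18 LD2_c4 LD3_c46)) = (LP (LK LD1_c9 LD2_c55 LD3_c42)) :=
  Lgr Lrot111 (Lpe (K44.f251547 IH) (Lpr_cf (f251522 IH) (Lpe (f251529 IH) (Lpn (LP (LK LD1_c9 LD2_c55 LD3_c42))))))
theorem f345137 : Led Lsl_ft (LP (LK LD1_c18 LD2_c31 LD3_c52)) = (LP (LK LD1_c18 LD2_c4 LD3_c46)) :=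
  Lgr Lrot4 (Lpe (f345136 IH) (Lpr_ff (f345129 IH) (Lpe (f251548 IH) (Lpn (LP (LK LD1_c18 LD2_c4 LD3_c46))))))
theorem f345147 : Led Lsl_ff (LP (LK LD1_c18 LD2_c31 LD3_c52)) = (LP (LK LD1_c18 LD2_c4 LD3_c46)) :=
  Lgr Lrot3 (Lpr_ft (f345137 IH) (Lpn (LP (LK LD1_c18 LD2_c4 LD3_c46))))
theorem f345152 : Led Lsl_at (LP (LK LD1_c18 LD2_c31 LD3_c52)) = (LP (LK LD1_c10 LD2_c10 LD3_c18)) :=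
  Lre_a IH (LK LD1_c18 LD2_c31 LD3_c52) (LK LD1_c10 LD2_c10 LD3_c18) Lrfl Lrfl
theorem f165520 : Led Lsl_gt (LP (LK LD1_c18 LD2_c31 LD3_c51)) = (LP (LK LD1_c10 LD2_c10 LD3_c18)) :=
  Lre_g IH (LK LD1_c18 LD2_c31 LD3_c51) (LK LD1_c10 LD2_c10 LD3_c18) Lrfl Lrfl
theorem f345154 : Led Lsl_gf (LP (LK LD1_c18 LD2_c31 LD3_c51)) = (LP (LK LD1_c18 LD2_c4 LD3_c46)) :=
  Lgr Lrot47 (Lpr_gt (f165520 IH) (Lpe (f345152 IH) (Lpr_ff (f345147 IH) (Lpn (LP (LK LD1_c18 LD2_c4 LD3_c46))))))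
theorem f412925 : Led Lsl_ct (LP (LK LD1_c18 LD2_c10 LD3_c30)) = (LP (LK LD1_c18 LD2_c31 LD3_c51)) :=
  Lgr Lrot10 (Lpr_bt (f412832 IH) (Lpr_gt (f412919 IH) (Lpr_ct (f264216 IH) (Lpe (f410263 IH) (Lpe (f403040 IH) (Lpr_bt (f403038 IH) (Lpr_gt (f403035 IH) (Lpr_bf (K44.f345178 IH) (Lpe (K44.f251520 IH) (Lpe (f345154 IH) (Lpn (LP (LK LD1_c18 LD2_c31 LD3_c51)))))))))))))
theorem f412927 : Led Lsl_cf (LP (LK LD1_c18 LD2_c10 LD3_c30)) = (LP (LK LD1_c18 LD2_c31 LD3_c51)) :=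
  Lgr Lrot11 (Lpr_ct (f412925 IH) (Lpn (LP (LK LD1_c18 LD2_c31 LD3_c51))))
theorem f186580 : Led Lsl_bt (LP (LK LD1_c5 LD2_c18 LD3_c50)) = (LP (LK LD1_c10 LD2_c27 LD3_c26)) :=
  Lre_b IH (LK LD1_c5 LD2_c18 LD3_c50) (LK LD1_c10 LD2_c27 LD3_c26) Lrfl Lrfl
theorem f412833 : Led Lsl_df (LP (LK LD1_c18 LD2_c10 LD3_c30)) = (LP (LK LD1_c10 LD2_c27 LD3_c26)) :=
  Lgr Lrot12 (Lpr_bt (f412832 IH) (Lpr_dt (K44.f412826 IH) (Lpr_bt (f186580 IH) (Lpn (LP (LK LD1_c10 LD2_c27 LD3_c26))))))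
theorem f186586 : Led Lsl_cf (LP (LK LD1_c10 LD2_c27 LD3_c26)) = (LP (LK LD1_c10 LD2_c18 LD3_c30)) :=
  Lgr Lrot11 (Lpr_ct (K44.f186578 IH) (Lpn (LP (LK LD1_c10 LD2_c18 LD3_c30))))
theorem f163981 : Led Lsl_gt (LP (LK LD1_c2 LD2_c34 LD3_c10)) = (LP (LK LD1_c5 LD2_c14 LD3_c43)) :=
  Lre_g IH (LK LD1_c2 LD2_c34 LD3_c10) (LK LD1_c5 LD2_c14 LD3_c43) Lrfl Lrfl
theorem f163982 : Led Lsl_gf (LP (LK LD1_c5 LD2_c4 LD3_c32)) = (LP (LK LD1_c5 LD2_c14 LD3_c43)) :=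
  Lgr Lrot76 (Lpe (K10.f163798 IH) (Lpr_ff (K10.f163973 IH) (Lpr_gt (f163981 IH) (Lpn (LP (LK LD1_c5 LD2_c14 LD3_c43))))))
theorem f22030 : Led Lsl_bt (LP (LK LD1_c2 LD2_c31 LD3_c59)) = (LP (LK LD1_c5 LD2_c9 LD3_c48)) :=
  Lre_b IH (LK LD1_c2 LD2_c31 LD3_c59) (LK LD1_c5 LD2_c9 LD3_c48) Lrfl Lrfl
theorem f313883 : Led Lsl_ff (LP (LK LD1_c5 LD2_c2 LD3_c25)) = (LP (LK LD1_c5 LD2_c9 LD3_c48)) :=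
  Lgr Lrot25 (Lpr_bt (K44.f169596 IH) (Lpr_ft (K19.f313881 IH) (Lpr_bt (f22030 IH) (Lpn (LP (LK LD1_c5 LD2_c9 LD3_c48))))))
theorem f22031 : Led Lsl_gt (LP (LK LD1_c5 LD2_c9 LD3_c48)) = (LP (LK LD1_c10 LD2_c10 LD3_c22)) :=
  Lre_g IH (LK LD1_c5 LD2_c9 LD3_c48) (LK LD1_c10 LD2_c10 LD3_c22) Lrfl Lrfl
theorem f403055 : Led Lsl_gf (LP (LK LD1_c9 LD2_c55 LD3_c42)) = (LP (LK LD1_c10 LD2_c10 LD3_c22)) :=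
  Lgr Lrot76 (Lpe (K44.f251519 IH) (Lpr_ff (f313883 IH) (Lpr_gt (f22031 IH) (Lpn (LP (LK LD1_c10 LD2_c10 LD3_c22))))))
theorem f412938 : Led Lsl_df (LP (LK LD1_c5 LD2_c14 LD3_c43)) = (LP (LK LD1_c10 LD2_c10 LD3_c22)) :=
  Lgr Lrot155 (Lpe (f163982 IH) (Lpr_ct (K10.f163844 IH) (Lpr_gt (K44.f164017 IH) (Lpe (f186586 IH) (Lpe (f412833 IH) (Lpr_cf (f412927 IH) (Lpr_gf (f345154 IH) (Lpr_cf (K44.f251520 IH) (Lpr_gf (f403055 IH) (Lpn (LP (LK LD1_c10 LD2_c10 LD3_c22))))))))))))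
theorem f21621 : Led Lsl_dt (LP (LK LD1_c9 LD2_c54 LD3_c26)) = (LP (LK LD1_c5 LD2_c1 LD3_c55)) :=
  Lre_d IH (LK LD1_c9 LD2_c54 LD3_c26) (LK LD1_c5 LD2_c1 LD3_c55) Lrfl Lrfl
theorem f21632 : Led Lsl_gt (LP (LK LD1_c18 LD2_c7 LD3_c52)) = (LP (LK LD1_c9 LD2_c54 LD3_c26)) :=
  Lre_g IH (LK LD1_c18 LD2_c7 LD3_c52) (LK LD1_c9 LD2_c54 LD3_c26) Lrfl Lrfl
theorem f165518 : Led Lsl_ct (LP (LK LD1_c10 LD2_c10 LD3_c18)) = (LP (LK LD1_c5 LD2_c9 LD3_c48)) :=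
  Lre_c IH (LK LD1_c10 LD2_c10 LD3_c18) (LK LD1_c5 LD2_c9 LD3_c48) Lrfl Lrfl
theorem f412942 : Led Lsl_df (LP (LK LD1_c18 LD2_c7 LD3_c52)) = (LP (LK LD1_c18 LD2_c31 LD3_c50)) :=
  Lgr Lrot153 (Lpr_gt (f21632 IH) (Lpr_dt (f21621 IH) (Lpe (K0.f21596 IH) (Lpe (K8.f21929 IH) (Lpr_gf (f163982 IH) (Lpr_df (f412938 IH) (Lpe (f22031 IH) (Lpe (f165518 IH) (Lpr_gt (K44.f22089 IH) (Lpn (LP (LK LD1_c18 LD2_c31 LD3_c50))))))))))))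
theorem f412946 : Led Lsl_dt (LP (LK LD1_c18 LD2_c7 LD3_c52)) = (LP (LK LD1_c18 LD2_c31 LD3_c50)) :=
  Lgr Lrot42 (Lpr_df (f412942 IH) (Lpn (LP (LK LD1_c18 LD2_c31 LD3_c50))))
theorem f584577 : Led Lsl_ft (LP (LK LD1_c10 LD2_c11 LD3_c19)) = (LP (LK LD1_c9 LD2_c56 LD3_c4)) :=
  Lgr Lrot4 (Lpe (K44.f299718 IH) (Lpr_ff (K44.f584573 IH) (Lpe (K44.f266127 IH) (Lpn (LP (LK LD1_c9 LD2_c56 LD3_c4))))))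
theorem f44421 : Led Lsl_gt (LP (LK LD1_c9 LD2_c40 LD3_c25)) = (LP (LK LD1_c4 LD2_c54 LD3_c26)) :=
  Lre_g IH (LK LD1_c9 LD2_c40 LD3_c25) (LK LD1_c4 LD2_c54 LD3_c26) Lrfl Lrfl
theorem f43691 : Led Lsl_dt (LP (LK LD1_c9 LD2_c40 LD3_c25)) = (LP (LK LD1_c17 LD2_c47 LD3_c46)) :=
  Lre_d IH (LK LD1_c9 LD2_c40 LD3_c25) (LK LD1_c17 LD2_c47 LD3_c46) Lrfl Lrfl
theorem f584336 : Led Lsl_gt (LP (LK LD1_c17 LD2_c47 LD3_c46)) = (LP (LK LD1_c10 LD2_c11 LD3_c16)) :=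
  Lgr Lrot9 (Lpe (f43691 IH) (Lpr_gt (f44421 IH) (Lpr_ct (K13.f51298 IH) (Lpr_gt (K44.f45058 IH) (Lpr_ct (K44.f584323 IH) (Lpe (K44.f299669 IH) (Lpe (K44.f299668 IH) (Lpr_gf (K44.f408341 IH) (Lpe (K44.f186803 IH) (Lpn (LP (LK LD1_c10 LD2_c11 LD3_c16))))))))))))
theorem f585161 : Led Lsl_gt (LP (LK LD1_c10 LD2_c11 LD3_c19)) = (LP (LK LD1_c17 LD2_c47 LD3_c46)) :=
  Lgr Lrot5 (Lpr_ft (f584577 IH) (Lpe (K44.f584566 IH) (Lpe (f584336 IH) (Lpn (LP (LK LD1_c17 LD2_c47 LD3_c46))))))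
theorem f406798 : Led Lsl_dt (LP (LK LD1_c2 LD2_c32 LD3_c11)) = (LP (LK LD1_c5 LD2_c10 LD3_c19)) :=
  Lre_d IH (LK LD1_c2 LD2_c32 LD3_c11) (LK LD1_c5 LD2_c10 LD3_c19) Lrfl Lrfl
theorem f51307 : Led Lsl_dt (LP (LK LD1_c17 LD2_c47 LD3_c46)) = (LP (LK LD1_c9 LD2_c40 LD3_c25)) :=
  Lre_d IH (LK LD1_c17 LD2_c47 LD3_c46) (LK LD1_c9 LD2_c40 LD3_c25) Lrfl Lrfl
theorem f44409 : Led Lsl_dt (LP (LK LD1_c4 LD2_c54 LD3_c26)) = (LP (LK LD1_c9 LD2_c40 LD3_c27)) :=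
  Lre_d IH (LK LD1_c4 LD2_c54 LD3_c26) (LK LD1_c9 LD2_c40 LD3_c27) Lrfl Lrfl
theorem f583442 : Led Lsl_ct (LP (LK LD1_c5 LD2_c10 LD3_c59)) = (LP (LK LD1_c9 LD2_c40 LD3_c27)) :=
  Lgr Lrot40 (Lpr_ff (K44.f583438 IH) (Lpe (K38.f184513 IH) (Lpr_ff (K44.f544855 IH) (Lpn (LP (LK LD1_c9 LD2_c40 LD3_c27))))))
theorem f585163 : Led Lsl_dt (LP (LK LD1_c10 LD2_c11 LD3_c23)) = (LP (LK LD1_c5 LD2_c10 LD3_c59)) :=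
  Lgr Lrot105 (Lpe (f186786 IH) (Lpe (f406798 IH) (Lpe (K44.f257054 IH) (Lpe (K44.f257055 IH) (Lpr_gt (f585161 IH) (Lpr_dt (f51307 IH) (Lpr_gt (f44421 IH) (Lpr_dt (f44409 IH) (Lpe (f583442 IH) (Lpn (LP (LK LD1_c5 LD2_c10 LD3_c59))))))))))))
theorem f299648 : Led Lsl_dt (LP (LK LD1_c10 LD2_c11 LD3_c21)) = (LP (LK LD1_c5 LD2_c10 LD3_c18)) :=
  Lre_d IH (LK LD1_c10 LD2_c11 LD3_c21) (LK LD1_c5 LD2_c10 LD3_c18) Lrfl Lrfl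
theorem f288253 : Led Lsl_ft (LP (LK LD1_c2 LD2_c32 LD3_c11)) = (LP (LK LD1_c2 LD2_c28 LD3_c51)) :=
  Lgr Lrot75 (Lpe (K44.f185400 IH) (Lpr_ff (K17.f288251 IH) (Lpe (K18.f288233 IH) (Lpn (LP (LK LD1_c2 LD2_c28 LD3_c51))))))
theorem f257563 : Led Lsl_dt (LP (LK LD1_c5 LD2_c10 LD3_c19)) = (LP (LK LD1_c2 LD2_c32 LD3_c11)) :=
  Lre_d IH (LK LD1_c5 LD2_c10 LD3_c19) (LK LD1_c2 LD2_c32 LD3_c11) Lrfl Lrfl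
theorem f299645 : Led Lsl_dt (LP (LK LD1_c2 LD2_c28 LD3_c51)) = (LP (LK LD1_c5 LD2_c2 LD3_c36)) :=
  Lre_d IH (LK LD1_c2 LD2_c28 LD3_c51) (LK LD1_c5 LD2_c2 LD3_c36) Lrfl Lrfl
theorem f408422 : Led Lsl_ff (LP (LK LD1_c5 LD2_c10 LD3_c19)) = (LP (LK LD1_c5 LD2_c2 LD3_c36)) :=
  Lgr Lrot19 (Lpr_dt (f257563 IH) (Lpr_ft (f288253 IH) (Lpr_dt (f299645 IH) (Lpn (LP (LK LD1_c5 LD2_c2 LD3_c36))))))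
theorem f406760 : Led Lsl_at (LP (LK LD1_c5 LD2_c10 LD3_c19)) = (LP (LK LD1_c10 LD2_c11 LD3_c21)) :=
  Lre_a IH (LK LD1_c5 LD2_c10 LD3_c19) (LK LD1_c10 LD2_c11 LD3_c21) Lrfl Lrfl
theorem f165656 : Led Lsl_gt (LP (LK LD1_c5 LD2_c2 LD3_c36)) = (LP (LK LD1_c9 LD2_c56 LD3_c8)) :=
  Lre_g IH (LK LD1_c5 LD2_c2 LD3_c36) (LK LD1_c9 LD2_c56 LD3_c8) Lrfl Lrfl
theorem f408431 : Led Lsl_gf (LP (LK LD1_c10 LD2_c11 LD3_c21)) = (LP (LK LD1_c9 LD2_c56 LD3_c8)) :=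
  Lgr Lrot76 (Lpe (f406760 IH) (Lpr_ff (f408422 IH) (Lpr_gt (f165656 IH) (Lpn (LP (LK LD1_c9 LD2_c56 LD3_c8))))))
theorem f583482 : Led Lsl_df (LP (LK LD1_c9 LD2_c56 LD3_c8)) = (LP (LK LD1_c5 LD2_c3 LD3_c24)) :=
  Lgr Lrot153 (Lpe (f408431 IH) (Lpr_dt (f299648 IH) (Lpe (K44.f299647 IH) (Lpe (K44.f299646 IH) (Lpr_gf (K44.f299642 IH) (Lpr_df (K44.f583474 IH) (Lpe (K44.f165821 IH) (Lpe (K38.f165820 IH) (Lpr_gt (K38.f184512 IH) (Lpn (LP (LK LD1_c5 LD2_c3 LD3_c24))))))))))))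
theorem f585171 : Led Lsl_ff (LP (LK LD1_c10 LD2_c11 LD3_c23)) = (LP (LK LD1_c9 LD2_c56 LD3_c8)) :=
  Lgr Lrot19 (Lpr_dt (f585163 IH) (Lpr_ft (K44.f583432 IH) (Lpe (f583482 IH) (Lpn (LP (LK LD1_c9 LD2_c56 LD3_c8))))))
theorem f585175 : Led Lsl_ft (LP (LK LD1_c10 LD2_c11 LD3_c23)) = (LP (LK LD1_c9 LD2_c56 LD3_c8)) :=
  Lgr Lrot48 (Lpr_ff (f585171 IH) (Lpn (LP (LK LD1_c9 LD2_c56 LD3_c8))))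
theorem f583487 : Led Lsl_bt (LP (LK LD1_c9 LD2_c56 LD3_c8)) = (LP (LK LD1_c18 LD2_c10 LD3_c55)) :=
  Lre_b IH (LK LD1_c9 LD2_c56 LD3_c8) (LK LD1_c18 LD2_c10 LD3_c55) Lrfl Lrfl
theorem f585177 : Led Lsl_ff (LP (LK LD1_c18 LD2_c33 LD3_c46)) = (LP (LK LD1_c18 LD2_c10 LD3_c55)) :=
  Lgr Lrot25 (Lpr_bt (f421648 IH) (Lpr_ft (f585175 IH) (Lpr_bt (f583487 IH) (Lpn (LP (LK LD1_c18 LD2_c10 LD3_c55))))))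
theorem f583488 : Led Lsl_dt (LP (LK LD1_c18 LD2_c10 LD3_c55)) = (LP (LK LD1_c9 LD2_c57 LD3_c43)) :=
  Lgr Lrot79 (Lpe (f583487 IH) (Lpr_df (f583482 IH) (Lpe (K38.f405308 IH) (Lpn (LP (LK LD1_c9 LD2_c57 LD3_c43))))))
theorem f583494 : Led Lsl_df (LP (LK LD1_c18 LD2_c10 LD3_c55)) = (LP (LK LD1_c9 LD2_c57 LD3_c43)) :=
  Lgr Lrot38 (Lpr_dt (f583488 IH) (Lpn (LP (LK LD1_c9 LD2_c57 LD3_c43))))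
theorem f585179 : Led Lsl_dt (LP (LK LD1_c18 LD2_c33 LD3_c46)) = (LP (LK LD1_c10 LD2_c12 LD3_c36)) :=
  Lgr Lrot60 (Lpr_ff (f585177 IH) (Lpr_df (f583494 IH) (Lpe (K44.f583440 IH) (Lpn (LP (LK LD1_c10 LD2_c12 LD3_c36))))))
theorem f249218 : Led Lsl_bf (LP (LK LD1_c2 LD2_c10 LD3_c53)) = (LP (LK LD1_c1 LD2_c15 LD3_c17)) :=
  Lgr Lrot93 (Lpr_dt (K15.f44607 IH) (Lpr_bt (K15.f249211 IH) (Lpr_dt (K14.f28273 IH) (Lpn (LP (LK LD1_c1 LD2_c15 LD3_c17))))))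
theorem f178257 : Led Lsl_bt (LP (LK LD1_c1 LD2_c18 LD3_c34)) = (LP (LK LD1_c0 LD2_c36 LD3_c10)) :=
  Lre_b IH (LK LD1_c1 LD2_c18 LD3_c34) (LK LD1_c0 LD2_c36 LD3_c10) Lrfl Lrfl
theorem f187526 : Led Lsl_gt (LP (LK LD1_c2 LD2_c39 LD3_c56)) = (LP (LK LD1_c5 LD2_c26 LD3_c60)) :=
  Lre_g IH (LK LD1_c2 LD2_c39 LD3_c56) (LK LD1_c5 LD2_c26 LD3_c60) Lrfl Lrfl
theorem f586526 : Led Lsl_df (LP (LK LD1_c10 LD2_c18 LD3_c29)) = (LP (LK LD1_c5 LD2_c26 LD3_c60)) :=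
  Lgr Lrot183 (Lpr_ct (f164013 IH) (Lpe (f586514 IH) (Lpr_gt (f586518 IH) (Lpr_dt (f585179 IH) (Lpe (K44.f165263 IH) (Lpr_bt (f583807 IH) (Lpr_gt (K14.f249207 IH) (Lpr_dt (K14.f249206 IH) (Lpr_ct (K14.f230553 IH) (Lpe (f249218 IH) (Lpe (K15.f242998 IH) (Lpr_dt (K14.f253972 IH) (Lpe (K14.f253947 IH) (Lpr_bt (f178257 IH) (Lpr_gt (K9.f178243 IH) (Lpr_dt (K9.f7947 IH) (Lpe (K10.f187513 IH) (Lpr_bt (K39.f187515 IH) (Lpr_gt (f187526 IH) (Lpn (LP (LK LD1_c5 LD2_c26 LD3_c60))))))))))))))))))))))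
theorem f164010 : Led Lsl_gf (LP (LK LD1_c10 LD2_c0 LD3_c8)) = (LP (LK LD1_c10 LD2_c18 LD3_c29)) :=
  Lgr Lrot76 (Lpe (K10.f164003 IH) (Lpr_ff (K10.f163996 IH) (Lpr_gt (f164009 IH) (Lpn (LP (LK LD1_c10 LD2_c18 LD3_c29))))))
theorem f338926 : Led Lsl_at (LP (LK LD1_c6 LD2_c7 LD3_c5)) = (LP (LK LD1_c2 LD2_c59 LD3_c38)) :=
  Lre_a IH (LK LD1_c6 LD2_c7 LD3_c5) (LK LD1_c2 LD2_c59 LD3_c38) Lrfl Lrfl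
theorem f585001 : Led Lsl_dt (LP (LK LD1_c10 LD2_c0 LD3_c8)) = (LP (LK LD1_c6 LD2_c7 LD3_c5)) :=
  Lgr Lrot44 (Lpe (K10.f164003 IH) (Lpr_df (f584999 IH) (Lpe (f338926 IH) (Lpn (LP (LK LD1_c6 LD2_c7 LD3_c5))))))
theorem f338920 : Led Lsl_ct (LP (LK LD1_c6 LD2_c7 LD3_c5)) = (LP (LK LD1_c11 LD2_c56 LD3_c53)) :=
  Lre_c IH (LK LD1_c6 LD2_c7 LD3_c5) (LK LD1_c11 LD2_c56 LD3_c53) Lrfl Lrfl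
theorem f226077 : Led Lsl_dt (LP (LK LD1_c15 LD2_c29 LD3_c51)) = (LP (LK LD1_c8 LD2_c14 LD3_c13)) :=
  Lre_d IH (LK LD1_c15 LD2_c29 LD3_c51) (LK LD1_c8 LD2_c14 LD3_c13) Lrfl Lrfl
theorem f226076 : Led Lsl_ct (LP (LK LD1_c8 LD2_c14 LD3_c13)) = (LP (LK LD1_c4 LD2_c6 LD3_c52)) :=
  Lre_c IH (LK LD1_c8 LD2_c14 LD3_c13) (LK LD1_c4 LD2_c6 LD3_c52) Lrfl Lrfl
theorem f338932 : Led Lsl_at (LP (LK LD1_c8 LD2_c14 LD3_c18)) = (LP (LK LD1_c4 LD2_c6 LD3_c52)) :=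
  Lre_a IH (LK LD1_c8 LD2_c14 LD3_c18) (LK LD1_c4 LD2_c6 LD3_c52) Lrfl Lrfl
theorem f338905 : Led Lsl_ft (LP (LK LD1_c8 LD2_c14 LD3_c13)) = (LP (LK LD1_c6 LD2_c6 LD3_c59)) :=
  Lgr Lrot48 (Lpr_ff (K25.f338897 IH) (Lpn (LP (LK LD1_c6 LD2_c6 LD3_c59))))
theorem f338914 : Led Lsl_ff (LP (LK LD1_c15 LD2_c29 LD3_c50)) = (LP (LK LD1_c11 LD2_c56 LD3_c53)) :=
  Lgr Lrot30 (Lpr_at (K25.f338913 IH) (Lpr_ft (f338905 IH) (Lpr_at (K25.f327128 IH) (Lpn (LP (LK LD1_c11 LD2_c56 LD3_c53))))))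
theorem f338922 : Led Lsl_ft (LP (LK LD1_c8 LD2_c14 LD3_c18)) = (LP (LK LD1_c6 LD2_c7 LD3_c5)) :=
  Lgr Lrot4 (Lpe (K25.f338911 IH) (Lpr_ff (f338914 IH) (Lpe (f338920 IH) (Lpn (LP (LK LD1_c6 LD2_c7 LD3_c5))))))
theorem f338927 : Led Lsl_ff (LP (LK LD1_c8 LD2_c14 LD3_c18)) = (LP (LK LD1_c6 LD2_c7 LD3_c5)) :=
  Lgr Lrot3 (Lpr_ft (f338922 IH) (Lpn (LP (LK LD1_c6 LD2_c7 LD3_c5))))
theorem f585065 : Led Lsl_df (LP (LK LD1_c10 LD2_c0 LD3_c8)) = (LP (LK LD1_c6 LD2_c7 LD3_c5)) :=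
  Lgr Lrot157 (Lpr_ct (f163984 IH) (Lpr_dt (K8.f21929 IH) (Lpr_ct (K0.f21596 IH) (Lpr_dt (K0.f21631 IH) (Lpr_ct (f585055 IH) (Lpr_dt (f226077 IH) (Lpr_ct (f226076 IH) (Lpe (f338932 IH) (Lpr_ff (f338927 IH) (Lpn (LP (LK LD1_c6 LD2_c7 LD3_c5))))))))))))
theorem f21646 : Led Lsl_ft (LP (LK LD1_c5 LD2_c1 LD3_c55)) = (LP (LK LD1_c9 LD2_c54 LD3_c15)) :=
  Lre_f IH (LK LD1_c5 LD2_c1 LD3_c55) (LK LD1_c9 LD2_c54 LD3_c15) Lrfl Lrfl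
theorem f164050 : Led Lsl_at (LP (LK LD1_c9 LD2_c54 LD3_c15)) = (LP (LK LD1_c5 LD2_c1 LD3_c57)) :=
  Lre_a IH (LK LD1_c9 LD2_c54 LD3_c15) (LK LD1_c5 LD2_c1 LD3_c57) Lrfl Lrfl
theorem f164032 : Led Lsl_df (LP (LK LD1_c2 LD2_c29 LD3_c39)) = (LP (LK LD1_c2 LD2_c34 LD3_c10)) :=
  Lgr Lrot18 (Lpr_at (K44.f163754 IH) (Lpr_dt (f164021 IH) (Lpr_at (f163975 IH) (Lpn (LP (LK LD1_c2 LD2_c34 LD3_c10))))))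
theorem f585063 : Led Lsl_df (LP (LK LD1_c5 LD2_c14 LD3_c27)) = (LP (LK LD1_c4 LD2_c6 LD3_c52)) :=
  Lgr Lrot13 (Lpr_ct (K10.f163939 IH) (Lpe (f164032 IH) (Lpr_ct (K44.f163779 IH) (Lpe (f164050 IH) (Lpe (f21646 IH) (Lpr_dt (K0.f21631 IH) (Lpr_ct (f585055 IH) (Lpr_dt (f226077 IH) (Lpr_ct (f226076 IH) (Lpn (LP (LK LD1_c4 LD2_c6 LD3_c52))))))))))))
theorem f3682 : Led Lsl_dt (LP (LK LD1_c5 LD2_c1 LD3_c57)) = (LP (LK LD1_c9 LD2_c54 LD3_c31)) :=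
  Lre_d IH (LK LD1_c5 LD2_c1 LD3_c57) (LK LD1_c9 LD2_c54 LD3_c31) Lrfl Lrfl
theorem f338921 : Led Lsl_ct (LP (LK LD1_c11 LD2_c56 LD3_c53)) = (LP (LK LD1_c6 LD2_c7 LD3_c5)) :=
  Lre_c IH (LK LD1_c11 LD2_c56 LD3_c53) (LK LD1_c6 LD2_c7 LD3_c5) Lrfl Lrfl
theorem f585067 : Led Lsl_dt (LP (LK LD1_c18 LD2_c8 LD3_c2)) = (LP (LK LD1_c11 LD2_c56 LD3_c53)) :=
  Lgr Lrot173 (Lpe (f3401 IH) (Lpe (f3682 IH) (Lpe (K44.f163779 IH) (Lpr_df (f164032 IH) (Lpe (K10.f163939 IH) (Lpr_df (f585063 IH) (Lpe (f226076 IH) (Lpe (f226077 IH) (Lpe (f585055 IH) (Lpe (K0.f21631 IH) (Lpe (K0.f21596 IH) (Lpe (K8.f21929 IH) (Lpe (f163984 IH) (Lpr_df (f585065 IH) (Lpe (f338921 IH) (Lpn (LP (LK LD1_c11 LD2_c56 LD3_c53))))))))))))))))))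
theorem f187593 : Led Lsl_gt (LP (LK LD1_c5 LD2_c27 LD3_c1)) = (LP (LK LD1_c10 LD2_c45 LD3_c6)) :=
  Lre_g IH (LK LD1_c5 LD2_c27 LD3_c1) (LK LD1_c10 LD2_c45 LD3_c6) Lrfl Lrfl
theorem f187612 : Led Lsl_dt (LP (LK LD1_c10 LD2_c45 LD3_c6)) = (LP (LK LD1_c19 LD2_c26 LD3_c48)) :=
  Lre_d IH (LK LD1_c10 LD2_c45 LD3_c6) (LK LD1_c19 LD2_c26 LD3_c48) Lrfl Lrfl
theorem f586531 : Led Lsl_gf (LP (LK LD1_c18 LD2_c8 LD3_c2)) = (LP (LK LD1_c19 LD2_c26 LD3_c48)) :=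
  Lgr Lrot143 (Lpr_dt (f585067 IH) (Lpe (f338920 IH) (Lpe (f585001 IH) (Lpr_gf (f164010 IH) (Lpr_df (f586526 IH) (Lpe (f187526 IH) (Lpe (K39.f187576 IH) (Lpr_gt (f187593 IH) (Lpr_dt (f187612 IH) (Lpn (LP (LK LD1_c19 LD2_c26 LD3_c48))))))))))))
theorem f3343 : Led Lsl_ct (LP (LK LD1_c18 LD2_c8 LD3_c2)) = (LP (LK LD1_c9 LD2_c54 LD3_c31)) :=
  Lre_c IH (LK LD1_c18 LD2_c8 LD3_c2) (LK LD1_c9 LD2_c54 LD3_c31) Lrfl Lrfl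
theorem f3370 : Led Lsl_gt (LP (LK LD1_c9 LD2_c54 LD3_c31)) = (LP (LK LD1_c18 LD2_c7 LD3_c52)) :=
  Lre_g IH (LK LD1_c9 LD2_c54 LD3_c31) (LK LD1_c18 LD2_c7 LD3_c52) Lrfl Lrfl
theorem f198812 : Led Lsl_et (LP (LK LD1_c1 LD2_c25 LD3_c23)) = (LP (LK LD1_c2 LD2_c59 LD3_c24)) :=
  Lre_e IH (LK LD1_c1 LD2_c25 LD3_c23) (LK LD1_c2 LD2_c59 LD3_c24) Lrfl Lrfl
theorem f198849 : Led Lsl_cf (LP (LK LD1_c1 LD2_c59 LD3_c56)) = (LP (LK LD1_c2 LD2_c59 LD3_c24)) :=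
  Lgr Lrot39 (Lpr_et (K17.f198848 IH) (Lpr_ct (K11.f198814 IH) (Lpr_et (f198812 IH) (Lpn (LP (LK LD1_c2 LD2_c59 LD3_c24))))))
theorem f256164 : Led Lsl_bt (LP (LK LD1_c6 LD2_c6 LD3_c35)) = (LP (LK LD1_c2 LD2_c59 LD3_c24)) :=
  Lre_b IH (LK LD1_c6 LD2_c6 LD3_c35) (LK LD1_c2 LD2_c59 LD3_c24) Lrfl Lrfl
theorem f256165 : Led Lsl_ct (LP (LK LD1_c11 LD2_c56 LD3_c16)) = (LP (LK LD1_c6 LD2_c6 LD3_c35)) :=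
  Lre_c IH (LK LD1_c11 LD2_c56 LD3_c16) (LK LD1_c6 LD2_c6 LD3_c35) Lrfl Lrfl
theorem f256166 : Led Lsl_bf (LP (LK LD1_c11 LD2_c56 LD3_c16)) = (LP (LK LD1_c8 LD2_c7 LD3_c0)) :=
  Lgr Lrot90 (Lpr_ct (f256165 IH) (Lpr_bt (f256164 IH) (Lpe (f198849 IH) (Lpr_bt (K21.f237917 IH) (Lpr_ct (K18.f256147 IH) (Lpn (LP (LK LD1_c8 LD2_c7 LD3_c0))))))))
theorem f256176 : Led Lsl_et (LP (LK LD1_c11 LD2_c56 LD3_c16)) = (LP (LK LD1_c6 LD2_c6 LD3_c33)) :=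
  Lre_e IH (LK LD1_c11 LD2_c56 LD3_c16) (LK LD1_c6 LD2_c6 LD3_c33) Lrfl Lrfl
theorem f256177 : Led Lsl_bt (LP (LK LD1_c6 LD2_c6 LD3_c33)) = (LP (LK LD1_c4 LD2_c3 LD3_c13)) :=
  Lgr Lrot119 (Lpe (f256176 IH) (Lpr_bf (f256166 IH) (Lpe (K18.f256143 IH) (Lpn (LP (LK LD1_c4 LD2_c3 LD3_c13))))))
theorem f187575 : Led Lsl_bt (LP (LK LD1_c2 LD2_c39 LD3_c56)) = (LP (LK LD1_c1 LD2_c16 LD3_c42)) :=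
  Lre_b IH (LK LD1_c2 LD2_c39 LD3_c56) (LK LD1_c1 LD2_c16 LD3_c42) Lrfl Lrfl
theorem f187577 : Led Lsl_bf (LP (LK LD1_c5 LD2_c27 LD3_c1)) = (LP (LK LD1_c2 LD2_c43 LD3_c61)) :=
  Lgr Lrot90 (Lpr_ct (K39.f187576 IH) (Lpr_bt (f187575 IH) (Lpr_ct (K39.f187519 IH) (Lpr_bt (K11.f187529 IH) (Lpr_ct (K10.f178253 IH) (Lpn (LP (LK LD1_c2 LD2_c43 LD3_c61))))))))
theorem f315504 : Led Lsl_ff (LP (LK LD1_c6 LD2_c6 LD3_c33)) = (LP (LK LD1_c5 LD2_c27 LD3_c1)) :=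
  Lgr Lrot25 (Lpr_bt (f256177 IH) (Lpr_ft (K20.f315502 IH) (Lpe (f187577 IH) (Lpn (LP (LK LD1_c5 LD2_c27 LD3_c1))))))
theorem f256228 : Led Lsl_at (LP (LK LD1_c6 LD2_c6 LD3_c33)) = (LP (LK LD1_c11 LD2_c56 LD3_c12)) :=
  Lre_a IH (LK LD1_c6 LD2_c6 LD3_c33) (LK LD1_c11 LD2_c56 LD3_c12) Lrfl Lrfl
theorem f402939 : Led Lsl_gf (LP (LK LD1_c11 LD2_c56 LD3_c12)) = (LP (LK LD1_c10 LD2_c45 LD3_c6)) :=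
  Lgr Lrot76 (Lpe (f256228 IH) (Lpr_ff (f315504 IH) (Lpr_gt (f187593 IH) (Lpn (LP (LK LD1_c10 LD2_c45 LD3_c6))))))
theorem f396415 : Led Lsl_ct (LP (LK LD1_c11 LD2_c56 LD3_c12)) = (LP (LK LD1_c6 LD2_c6 LD3_c32)) :=
  Lre_c IH (LK LD1_c11 LD2_c56 LD3_c12) (LK LD1_c6 LD2_c6 LD3_c32) Lrfl Lrfl
theorem f168216 : Led Lsl_dt (LP (LK LD1_c2 LD2_c39 LD3_c57)) = (LP (LK LD1_c1 LD2_c16 LD3_c42)) :=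
  Lre_d IH (LK LD1_c2 LD2_c39 LD3_c57) (LK LD1_c1 LD2_c16 LD3_c42) Lrfl Lrfl
theorem f334445 : Led Lsl_ft (LP (LK LD1_c1 LD2_c16 LD3_c42)) = (LP (LK LD1_c1 LD2_c25 LD3_c23)) :=
  Lgr Lrot54 (Lpe (f168216 IH) (Lpr_ff (K22.f334439 IH) (Lpe (K11.f177410 IH) (Lpn (LP (LK LD1_c1 LD2_c25 LD3_c23))))))
theorem f198845 : Led Lsl_bt (LP (LK LD1_c1 LD2_c25 LD3_c23)) = (LP (LK LD1_c2 LD2_c59 LD3_c22)) :=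
  Lre_b IH (LK LD1_c1 LD2_c25 LD3_c23) (LK LD1_c2 LD2_c59 LD3_c22) Lrfl Lrfl
theorem f396397 : Led Lsl_ff (LP (LK LD1_c2 LD2_c39 LD3_c56)) = (LP (LK LD1_c2 LD2_c59 LD3_c22)) :=
  Lgr Lrot25 (Lpr_bt (f187575 IH) (Lpr_ft (f334445 IH) (Lpr_bt (f198845 IH) (Lpn (LP (LK LD1_c2 LD2_c59 LD3_c22))))))
theorem f396403 : Led Lsl_ft (LP (LK LD1_c2 LD2_c39 LD3_c56)) = (LP (LK LD1_c2 LD2_c59 LD3_c22)) :=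
  Lgr Lrot48 (Lpr_ff (f396397 IH) (Lpn (LP (LK LD1_c2 LD2_c59 LD3_c22))))
theorem f396396 : Led Lsl_at (LP (LK LD1_c5 LD2_c27 LD3_c0)) = (LP (LK LD1_c2 LD2_c39 LD3_c56)) :=
  Lre_a IH (LK LD1_c5 LD2_c27 LD3_c0) (LK LD1_c2 LD2_c39 LD3_c56) Lrfl Lrfl
theorem f334408 : Led Lsl_at (LP (LK LD1_c2 LD2_c59 LD3_c22)) = (LP (LK LD1_c6 LD2_c6 LD3_c32)) :=
  Lre_a IH (LK LD1_c2 LD2_c59 LD3_c22) (LK LD1_c6 LD2_c6 LD3_c32) Lrfl Lrfl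
theorem f396410 : Led Lsl_ff (LP (LK LD1_c5 LD2_c27 LD3_c0)) = (LP (LK LD1_c6 LD2_c6 LD3_c32)) :=
  Lgr Lrot30 (Lpr_at (f396396 IH) (Lpr_ft (f396403 IH) (Lpr_at (f334408 IH) (Lpn (LP (LK LD1_c6 LD2_c6 LD3_c32))))))
theorem f396419 : Led Lsl_gf (LP (LK LD1_c5 LD2_c26 LD3_c61)) = (LP (LK LD1_c6 LD2_c6 LD3_c32)) :=
  Lgr Lrot47 (Lpr_gt (K39.f187580 IH) (Lpe (f396396 IH) (Lpr_ff (f396410 IH) (Lpn (LP (LK LD1_c6 LD2_c6 LD3_c32))))))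
theorem f216262 : Led Lsl_dt (LP (LK LD1_c19 LD2_c26 LD3_c45)) = (LP (LK LD1_c10 LD2_c45 LD3_c3)) :=
  Lre_d IH (LK LD1_c19 LD2_c26 LD3_c45) (LK LD1_c10 LD2_c45 LD3_c3) Lrfl Lrfl
theorem f586535 : Led Lsl_ct (LP (LK LD1_c18 LD2_c7 LD3_c52)) = (LP (LK LD1_c19 LD2_c26 LD3_c45)) :=
  Lgr Lrot110 (Lpe (f3370 IH) (Lpe (f3343 IH) (Lpr_gf (f586531 IH) (Lpe (f187612 IH) (Lpe (f402939 IH) (Lpr_ct (f396415 IH) (Lpe (f396419 IH) (Lpr_ct (K39.f187604 IH) (Lpe (f216262 IH) (Lpn (LP (LK LD1_c19 LD2_c26 LD3_c45))))))))))))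
theorem f586537 : Led Lsl_cf (LP (LK LD1_c18 LD2_c7 LD3_c52)) = (LP (LK LD1_c19 LD2_c26 LD3_c45)) :=
  Lgr Lrot11 (Lpr_ct (f586535 IH) (Lpn (LP (LK LD1_c19 LD2_c26 LD3_c45))))
theorem f216274 : Led Lsl_dt (LP (LK LD1_c10 LD2_c45 LD3_c3)) = (LP (LK LD1_c19 LD2_c26 LD3_c45)) :=
  Lre_d IH (LK LD1_c10 LD2_c45 LD3_c3) (LK LD1_c19 LD2_c26 LD3_c45) Lrfl Lrfl
theorem f586549 : Led Lsl_dt (LP (LK LD1_c10 LD2_c18 LD3_c30)) = (LP (LK LD1_c5 LD2_c26 LD3_c61)) :=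
  Lgr Lrot159 (Lpe (f586493 IH) (Lpr_at (f586499 IH) (Lpe (f164012 IH) (Lpr_df (f586545 IH) (Lpr_cf (f395451 IH) (Lpe (f412946 IH) (Lpr_cf (f586537 IH) (Lpe (f216274 IH) (Lpe (K39.f187604 IH) (Lpn (LP (LK LD1_c5 LD2_c26 LD3_c61))))))))))))
theorem f187606 : Led Lsl_dt (LP (LK LD1_c2 LD2_c39 LD3_c56)) = (LP (LK LD1_c5 LD2_c27 LD3_c2)) :=
  Lre_d IH (LK LD1_c2 LD2_c39 LD3_c56) (LK LD1_c5 LD2_c27 LD3_c2) Lrfl Lrfl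
theorem f313895 : Led Lsl_ft (LP (LK LD1_c5 LD2_c2 LD3_c26)) = (LP (LK LD1_c5 LD2_c4 LD3_c8)) :=
  Lgr Lrot54 (Lpe (K9.f169588 IH) (Lpr_ff (K19.f313889 IH) (Lpr_df (K14.f249981 IH) (Lpn (LP (LK LD1_c5 LD2_c4 LD3_c8))))))
theorem f177191 : Led Lsl_bt (LP (LK LD1_c9 LD2_c55 LD3_c43)) = (LP (LK LD1_c5 LD2_c2 LD3_c26)) :=
  Lre_b IH (LK LD1_c9 LD2_c55 LD3_c43) (LK LD1_c5 LD2_c2 LD3_c26) Lrfl Lrfl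
theorem f250176 : Led Lsl_bt (LP (LK LD1_c5 LD2_c4 LD3_c8)) = (LP (LK LD1_c9 LD2_c59 LD3_c6)) :=
  Lre_b IH (LK LD1_c5 LD2_c4 LD3_c8) (LK LD1_c9 LD2_c59 LD3_c6) Lrfl Lrfl
theorem f403044 : Led Lsl_ff (LP (LK LD1_c9 LD2_c55 LD3_c43)) = (LP (LK LD1_c9 LD2_c59 LD3_c6)) :=
  Lgr Lrot25 (Lpr_bt (f177191 IH) (Lpr_ft (f313895 IH) (Lpr_bt (f250176 IH) (Lpn (LP (LK LD1_c9 LD2_c59 LD3_c6))))))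
theorem f169989 : Led Lsl_dt (LP (LK LD1_c9 LD2_c55 LD3_c43)) = (LP (LK LD1_c5 LD2_c2 LD3_c25)) :=
  Lre_d IH (LK LD1_c9 LD2_c55 LD3_c43) (LK LD1_c5 LD2_c2 LD3_c25) Lrfl Lrfl
theorem f169977 : Led Lsl_bt (LP (LK LD1_c2 LD2_c28 LD3_c47)) = (LP (LK LD1_c5 LD2_c2 LD3_c25)) :=
  Lre_b IH (LK LD1_c2 LD2_c28 LD3_c47) (LK LD1_c5 LD2_c2 LD3_c25) Lrfl Lrfl
theorem f313891 : Led Lsl_ft (LP (LK LD1_c5 LD2_c2 LD3_c25)) = (LP (LK LD1_c5 LD2_c9 LD3_c48)) :=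
  Lgr Lrot75 (Lpe (f169977 IH) (Lpr_ff (K19.f313889 IH) (Lpe (K44.f165517 IH) (Lpn (LP (LK LD1_c5 LD2_c9 LD3_c48))))))
theorem f403046 : Led Lsl_dt (LP (LK LD1_c5 LD2_c9 LD3_c48)) = (LP (LK LD1_c9 LD2_c59 LD3_c6)) :=
  Lgr Lrot60 (Lpe (f313891 IH) (Lpe (f169989 IH) (Lpr_ff (f403044 IH) (Lpn (LP (LK LD1_c9 LD2_c59 LD3_c6))))))
theorem f586562 : Led Lsl_cf (LP (LK LD1_c5 LD2_c27 LD3_c2)) = (LP (LK LD1_c9 LD2_c59 LD3_c6)) :=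
  Lgr Lrot14 (Lpe (f187606 IH) (Lpe (K39.f187580 IH) (Lpe (f586549 IH) (Lpe (K44.f164017 IH) (Lpr_ct (f163984 IH) (Lpr_gt (f164064 IH) (Lpr_dt (f586551 IH) (Lpr_gt (f185387 IH) (Lpr_dt (f403046 IH) (Lpn (LP (LK LD1_c9 LD2_c59 LD3_c6))))))))))))
theorem f196098 : Led Lsl_bt (LP (LK LD1_c2 LD2_c39 LD3_c57)) = (LP (LK LD1_c5 LD2_c27 LD3_c2)) :=
  Lre_b IH (LK LD1_c2 LD2_c39 LD3_c57) (LK LD1_c5 LD2_c27 LD3_c2) Lrfl Lrfl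
theorem f177413 : Led Lsl_bt (LP (LK LD1_c6 LD2_c6 LD3_c34)) = (LP (LK LD1_c2 LD2_c59 LD3_c23)) :=
  Lre_b IH (LK LD1_c6 LD2_c6 LD3_c34) (LK LD1_c2 LD2_c59 LD3_c23) Lrfl Lrfl
theorem f334441 : Led Lsl_ft (LP (LK LD1_c5 LD2_c27 LD3_c2)) = (LP (LK LD1_c6 LD2_c6 LD3_c34)) :=
  Lgr Lrot75 (Lpe (f196098 IH) (Lpr_ff (K22.f334439 IH) (Lpe (f177413 IH) (Lpn (LP (LK LD1_c6 LD2_c6 LD3_c34))))))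
theorem f403048 : Led Lsl_ft (LP (LK LD1_c9 LD2_c55 LD3_c43)) = (LP (LK LD1_c9 LD2_c59 LD3_c6)) :=
  Lgr Lrot48 (Lpr_ff (f403044 IH) (Lpn (LP (LK LD1_c9 LD2_c59 LD3_c6))))
theorem f586565 : Led Lsl_ct (LP (LK LD1_c6 LD2_c6 LD3_c34)) = (LP (LK LD1_c9 LD2_c55 LD3_c43)) :=
  Lgr Lrot40 (Lpe (f334441 IH) (Lpr_cf (f586562 IH) (Lpe (f403048 IH) (Lpn (LP (LK LD1_c9 LD2_c55 LD3_c43))))))
theorem f198836 : Led Lsl_dt (LP (LK LD1_c2 LD2_c59 LD3_c22)) = (LP (LK LD1_c6 LD2_c6 LD3_c34)) :=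
  Lre_d IH (LK LD1_c2 LD2_c59 LD3_c22) (LK LD1_c6 LD2_c6 LD3_c34) Lrfl Lrfl
theorem f256184 : Led Lsl_gt (LP (LK LD1_c6 LD2_c6 LD3_c31)) = (LP (LK LD1_c2 LD2_c59 LD3_c22)) :=
  Lre_g IH (LK LD1_c6 LD2_c6 LD3_c31) (LK LD1_c2 LD2_c59 LD3_c22) Lrfl Lrfl
theorem f256192 : Led Lsl_bt (LP (LK LD1_c11 LD2_c56 LD3_c10)) = (LP (LK LD1_c6 LD2_c6 LD3_c31)) :=
  Lre_b IH (LK LD1_c11 LD2_c56 LD3_c10) (LK LD1_c6 LD2_c6 LD3_c31) Lrfl Lrfl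
theorem f256193 : Led Lsl_ct (LP (LK LD1_c21 LD2_c1 LD3_c0)) = (LP (LK LD1_c11 LD2_c56 LD3_c10)) :=
  Lre_c IH (LK LD1_c21 LD2_c1 LD3_c0) (LK LD1_c11 LD2_c56 LD3_c10) Lrfl Lrfl
theorem f182213 : Led Lsl_bt (LP (LK LD1_c8 LD2_c13 LD3_c2)) = (LP (LK LD1_c15 LD2_c27 LD3_c26)) :=
  Lre_b IH (LK LD1_c8 LD2_c13 LD3_c2) (LK LD1_c15 LD2_c27 LD3_c26) Lrfl Lrfl
theorem f182214 : Led Lsl_gt (LP (LK LD1_c15 LD2_c27 LD3_c26)) = (LP (LK LD1_c25 LD2_c19 LD3_c4)) :=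
  Lre_g IH (LK LD1_c15 LD2_c27 LD3_c26) (LK LD1_c25 LD2_c19 LD3_c4) Lrfl Lrfl
theorem f586593 : Led Lsl_df (LP (LK LD1_c21 LD2_c1 LD3_c0)) = (LP (LK LD1_c25 LD2_c19 LD3_c4)) :=
  Lgr Lrot183 (Lpr_ct (f256193 IH) (Lpr_bt (f256192 IH) (Lpr_gt (f256184 IH) (Lpr_dt (f198836 IH) (Lpr_ct (f586565 IH) (Lpr_bt (f177191 IH) (Lpr_gt (K10.f186608 IH) (Lpr_dt (K10.f163741 IH) (Lpe (K10.f186576 IH) (Lpr_bt (K10.f178532 IH) (Lpe (K9.f182204 IH) (Lpr_dt (K1.f44049 IH) (Lpe (K10.f46223 IH) (Lpr_bt (K10.f55015 IH) (Lpr_gt (K9.f54529 IH) (Lpr_dt (K10.f182211 IH) (Lpr_ct (K15.f182212 IH) (Lpr_bt (f182213 IH) (Lpr_gt (f182214 IH) (Lpn (LP (LK LD1_c25 LD2_c19 LD3_c4))))))))))))))))))))))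
theorem f194689 : Led Lsl_cf (LP (LK LD1_c8 LD2_c6 LD3_c55)) = (LP (LK LD1_c10 LD2_c35 LD3_c45)) :=
  Lgr Lrot97 (Lpr_bt (K17.f194688 IH) (Lpr_ct (K13.f51280 IH) (Lpr_bt (K10.f194642 IH) (Lpr_ct (K15.f194632 IH) (Lpr_bt (K39.f194640 IH) (Lpn (LP (LK LD1_c10 LD2_c35 LD3_c45))))))))
theorem f256129 : Led Lsl_gt (LP (LK LD1_c8 LD2_c6 LD3_c55)) = (LP (LK LD1_c15 LD2_c16 LD3_c48)) :=
  Lre_g IH (LK LD1_c8 LD2_c6 LD3_c55) (LK LD1_c15 LD2_c16 LD3_c48) Lrfl Lrfl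
theorem f256130 : Led Lsl_ct (LP (LK LD1_c25 LD2_c6 LD3_c49)) = (LP (LK LD1_c15 LD2_c16 LD3_c48)) :=
  Lre_c IH (LK LD1_c25 LD2_c6 LD3_c49) (LK LD1_c15 LD2_c16 LD3_c48) Lrfl Lrfl
theorem f198817 : Led Lsl_ct (LP (LK LD1_c6 LD2_c6 LD3_c33)) = (LP (LK LD1_c2 LD2_c59 LD3_c22)) :=
  Lre_c IH (LK LD1_c6 LD2_c6 LD3_c33) (LK LD1_c2 LD2_c59 LD3_c22) Lrfl Lrfl
theorem f256185 : Led Lsl_ct (LP (LK LD1_c11 LD2_c56 LD3_c11)) = (LP (LK LD1_c6 LD2_c6 LD3_c31)) :=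
  Lre_c IH (LK LD1_c11 LD2_c56 LD3_c11) (LK LD1_c6 LD2_c6 LD3_c31) Lrfl Lrfl
theorem f256186 : Led Lsl_bt (LP (LK LD1_c4 LD2_c3 LD3_c11)) = (LP (LK LD1_c8 LD2_c6 LD3_c55)) :=
  Lre_b IH (LK LD1_c4 LD2_c3 LD3_c11) (LK LD1_c8 LD2_c6 LD3_c55) Lrfl Lrfl
theorem f256187 : Led Lsl_bt (LP (LK LD1_c11 LD2_c56 LD3_c11)) = (LP (LK LD1_c15 LD2_c16 LD3_c48)) :=
  Lgr Lrot92 (Lpr_ct (f256185 IH) (Lpr_gt (f256184 IH) (Lpe (f198817 IH) (Lpr_bt (f256177 IH) (Lpr_gt (K15.f30977 IH) (Lpr_ct (K10.f30957 IH) (Lpr_gt (K10.f28072 IH) (Lpe (K13.f51280 IH) (Lpr_bt (f256186 IH) (Lpr_gt (f256129 IH) (Lpn (LP (LK LD1_c15 LD2_c16 LD3_c48)))))))))))))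
theorem f256191 : Led Lsl_ct (LP (LK LD1_c6 LD2_c6 LD3_c31)) = (LP (LK LD1_c11 LD2_c56 LD3_c11)) :=
  Lre_c IH (LK LD1_c6 LD2_c6 LD3_c31) (LK LD1_c11 LD2_c56 LD3_c11) Lrfl Lrfl
theorem f256194 : Led Lsl_ct (LP (LK LD1_c15 LD2_c16 LD3_c48)) = (LP (LK LD1_c25 LD2_c6 LD3_c49)) :=
  Lre_c IH (LK LD1_c15 LD2_c16 LD3_c48) (LK LD1_c25 LD2_c6 LD3_c49) Lrfl Lrfl
theorem f256195 : Led Lsl_bf (LP (LK LD1_c21 LD2_c1 LD3_c0)) = (LP (LK LD1_c25 LD2_c6 LD3_c49)) :=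
  Lgr Lrot90 (Lpr_ct (f256193 IH) (Lpr_bt (f256192 IH) (Lpr_ct (f256191 IH) (Lpr_bt (f256187 IH) (Lpr_ct (f256194 IH) (Lpn (LP (LK LD1_c25 LD2_c6 LD3_c49))))))))
theorem f554863 : Led Lsl_gt (LP (LK LD1_c21 LD2_c1 LD3_c0)) = (LP (LK LD1_c15 LD2_c30 LD3_c12)) :=
  Lgr Lrot82 (Lpr_bf (f256195 IH) (Lpr_ct (f256130 IH) (Lpe (f256129 IH) (Lpr_cf (f194689 IH) (Lpr_bt (K39.f256128 IH) (Lpe (K15.f256122 IH) (Lpe (K39.f177485 IH) (Lpr_ct (K39.f177486 IH) (Lpr_gf (K39.f554857 IH) (Lpe (K39.f554687 IH) (Lpn (LP (LK LD1_c15 LD2_c30 LD3_c12)))))))))))))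
theorem f55477 : Led Lsl_dt (LP (LK LD1_c8 LD2_c13 LD3_c59)) = (LP (LK LD1_c15 LD2_c29 LD3_c20)) :=
  Lre_d IH (LK LD1_c8 LD2_c13 LD3_c59) (LK LD1_c15 LD2_c29 LD3_c20) Lrfl Lrfl
theorem f248035 : Led Lsl_bt (LP (LK LD1_c8 LD2_c13 LD3_c35)) = (LP (LK LD1_c15 LD2_c28 LD3_c21)) :=
  Lre_b IH (LK LD1_c8 LD2_c13 LD3_c35) (LK LD1_c15 LD2_c28 LD3_c21) Lrfl Lrfl
theorem f339995 : Led Lsl_bt (LP (LK LD1_c19 LD2_c58 LD3_c24)) = (LP (LK LD1_c11 LD2_c5 LD3_c19)) :=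
  Lre_b IH (LK LD1_c19 LD2_c58 LD3_c24) (LK LD1_c11 LD2_c5 LD3_c19) Lrfl Lrfl
theorem f370437 : Led Lsl_ft (LP (LK LD1_c15 LD2_c28 LD3_c21)) = (LP (LK LD1_c19 LD2_c58 LD3_c24)) :=
  Lgr Lrot75 (Lpe (f248035 IH) (Lpr_ff (K27.f370433 IH) (Lpe (f339995 IH) (Lpn (LP (LK LD1_c19 LD2_c58 LD3_c24))))))
theorem f287876 : Led Lsl_et (LP (LK LD1_c8 LD2_c13 LD3_c33)) = (LP (LK LD1_c15 LD2_c28 LD3_c21)) :=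
  Lre_e IH (LK LD1_c8 LD2_c13 LD3_c33) (LK LD1_c15 LD2_c28 LD3_c21) Lrfl Lrfl
theorem f217613 : Led Lsl_bt (LP (LK LD1_c27 LD2_c38 LD3_c18)) = (LP (LK LD1_c17 LD2_c51 LD3_c40)) :=
  Lre_b IH (LK LD1_c27 LD2_c38 LD3_c18) (LK LD1_c17 LD2_c51 LD3_c40) Lrfl Lrfl
theorem f340023 : Led Lsl_bt (LP (LK LD1_c11 LD2_c5 LD3_c19)) = (LP (LK LD1_c19 LD2_c58 LD3_c24)) :=
  Lre_b IH (LK LD1_c11 LD2_c5 LD3_c19) (LK LD1_c19 LD2_c58 LD3_c24) Lrfl Lrfl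
theorem f370429 : Led Lsl_ef (LP (LK LD1_c27 LD2_c38 LD3_c18)) = (LP (LK LD1_c19 LD2_c58 LD3_c24)) :=
  Lgr Lrot29 (Lpr_bt (f217613 IH) (Lpr_et (K27.f370425 IH) (Lpr_bt (f340023 IH) (Lpn (LP (LK LD1_c19 LD2_c58 LD3_c24))))))
theorem f217590 : Led Lsl_ft (LP (LK LD1_c27 LD2_c38 LD3_c18)) = (LP (LK LD1_c17 LD2_c51 LD3_c38)) :=
  Lre_f IH (LK LD1_c27 LD2_c38 LD3_c18) (LK LD1_c17 LD2_c51 LD3_c38) Lrfl Lrfl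
theorem f217565 : Led Lsl_bt (LP (LK LD1_c9 LD2_c42 LD3_c44)) = (LP (LK LD1_c17 LD2_c51 LD3_c38)) :=
  Lre_b IH (LK LD1_c9 LD2_c42 LD3_c44) (LK LD1_c17 LD2_c51 LD3_c38) Lrfl Lrfl
theorem f217566 : Led Lsl_bt (LP (LK LD1_c15 LD2_c27 LD3_c26)) = (LP (LK LD1_c8 LD2_c13 LD3_c2)) :=
  Lre_b IH (LK LD1_c15 LD2_c27 LD3_c26) (LK LD1_c8 LD2_c13 LD3_c2) Lrfl Lrfl
theorem f217567 : Led Lsl_et (LP (LK LD1_c17 LD2_c51 LD3_c38)) = (LP (LK LD1_c15 LD2_c27 LD3_c26)) :=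
  Lgr Lrot74 (Lpe (f217565 IH) (Lpr_ef (K26.f217560 IH) (Lpe (f217566 IH) (Lpn (LP (LK LD1_c15 LD2_c27 LD3_c26))))))
theorem f375001 : Led Lsl_ff (LP (LK LD1_c8 LD2_c13 LD3_c33)) = (LP (LK LD1_c15 LD2_c27 LD3_c26)) :=
  Lgr Lrot72 (Lpr_et (f287876 IH) (Lpr_ft (f370437 IH) (Lpe (f370429 IH) (Lpr_ft (f217590 IH) (Lpr_et (f217567 IH) (Lpn (LP (LK LD1_c15 LD2_c27 LD3_c26))))))))
theorem f375011 : Led Lsl_gf (LP (LK LD1_c15 LD2_c28 LD3_c19)) = (LP (LK LD1_c25 LD2_c19 LD3_c4)) :=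
  Lgr Lrot76 (Lpe (K27.f363760 IH) (Lpr_ff (f375001 IH) (Lpr_gt (f182214 IH) (Lpn (LP (LK LD1_c25 LD2_c19 LD3_c4))))))
theorem f287888 : Led Lsl_ct (LP (LK LD1_c15 LD2_c28 LD3_c19)) = (LP (LK LD1_c25 LD2_c20 LD3_c13)) :=
  Lre_c IH (LK LD1_c15 LD2_c28 LD3_c19) (LK LD1_c25 LD2_c20 LD3_c13) Lrfl Lrfl
theorem f266678 : Led Lsl_ct (LP (LK LD1_c8 LD2_c13 LD3_c33)) = (LP (LK LD1_c15 LD2_c28 LD3_c13)) :=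
  Lre_c IH (LK LD1_c8 LD2_c13 LD3_c33) (LK LD1_c15 LD2_c28 LD3_c13) Lrfl Lrfl
theorem f217539 : Led Lsl_bt (LP (LK LD1_c17 LD2_c51 LD3_c38)) = (LP (LK LD1_c9 LD2_c42 LD3_c44)) :=
  Lre_b IH (LK LD1_c17 LD2_c51 LD3_c38) (LK LD1_c9 LD2_c42 LD3_c44) Lrfl Lrfl
theorem f217518 : Led Lsl_bt (LP (LK LD1_c10 LD2_c24 LD3_c5)) = (LP (LK LD1_c18 LD2_c52 LD3_c26)) :=
  Lre_b IH (LK LD1_c10 LD2_c24 LD3_c5) (LK LD1_c18 LD2_c52 LD3_c26) Lrfl Lrfl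
theorem f217540 : Led Lsl_cf (LP (LK LD1_c17 LD2_c51 LD3_c38)) = (LP (LK LD1_c18 LD2_c52 LD3_c26)) :=
  Lgr Lrot97 (Lpr_bt (f217539 IH) (Lpr_ct (K25.f217538 IH) (Lpr_bt (K15.f217536 IH) (Lpr_ct (K24.f217507 IH) (Lpr_bt (f217518 IH) (Lpn (LP (LK LD1_c18 LD2_c52 LD3_c26))))))))
theorem f214731 : Led Lsl_et (LP (LK LD1_c10 LD2_c24 LD3_c4)) = (LP (LK LD1_c18 LD2_c52 LD3_c26)) :=
  Lre_e IH (LK LD1_c10 LD2_c24 LD3_c4) (LK LD1_c18 LD2_c52 LD3_c26) Lrfl Lrfl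
theorem f217585 : Led Lsl_cf (LP (LK LD1_c10 LD2_c24 LD3_c4)) = (LP (LK LD1_c15 LD2_c27 LD3_c26)) :=
  Lgr Lrot39 (Lpr_et (f214731 IH) (Lpe (f217540 IH) (Lpr_et (f217567 IH) (Lpn (LP (LK LD1_c15 LD2_c27 LD3_c26))))))
theorem f217602 : Led Lsl_ct (LP (LK LD1_c10 LD2_c24 LD3_c4)) = (LP (LK LD1_c15 LD2_c27 LD3_c26)) :=
  Lgr Lrot59 (Lpr_cf (f217585 IH) (Lpn (LP (LK LD1_c15 LD2_c27 LD3_c26))))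
theorem f375008 : Led Lsl_ft (LP (LK LD1_c15 LD2_c28 LD3_c13)) = (LP (LK LD1_c10 LD2_c24 LD3_c4)) :=
  Lgr Lrot4 (Lpe (f266678 IH) (Lpr_ff (f375001 IH) (Lpe (f217602 IH) (Lpn (LP (LK LD1_c10 LD2_c24 LD3_c4))))))
theorem f214725 : Led Lsl_at (LP (LK LD1_c10 LD2_c24 LD3_c4)) = (LP (LK LD1_c18 LD2_c52 LD3_c25)) :=
  Lre_a IH (LK LD1_c10 LD2_c24 LD3_c4) (LK LD1_c18 LD2_c52 LD3_c25) Lrfl Lrfl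
theorem f375013 : Led Lsl_ff (LP (LK LD1_c25 LD2_c20 LD3_c13)) = (LP (LK LD1_c18 LD2_c52 LD3_c25)) :=
  Lgr Lrot30 (Lpr_at (K27.f287894 IH) (Lpr_ft (f375008 IH) (Lpr_at (f214725 IH) (Lpn (LP (LK LD1_c18 LD2_c52 LD3_c25))))))
theorem f375017 : Led Lsl_ft (LP (LK LD1_c25 LD2_c20 LD3_c13)) = (LP (LK LD1_c18 LD2_c52 LD3_c25)) :=
  Lgr Lrot48 (Lpr_ff (f375013 IH) (Lpn (LP (LK LD1_c18 LD2_c52 LD3_c25))))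
theorem f214735 : Led Lsl_at (LP (LK LD1_c18 LD2_c52 LD3_c25)) = (LP (LK LD1_c10 LD2_c24 LD3_c4)) :=
  Lre_a IH (LK LD1_c18 LD2_c52 LD3_c25) (LK LD1_c10 LD2_c24 LD3_c4) Lrfl Lrfl
theorem f214733 : Led Lsl_gt (LP (LK LD1_c18 LD2_c52 LD3_c24)) = (LP (LK LD1_c10 LD2_c24 LD3_c4)) :=
  Lre_g IH (LK LD1_c18 LD2_c52 LD3_c24) (LK LD1_c10 LD2_c24 LD3_c4) Lrfl Lrfl
theorem f375022 : Led Lsl_gt (LP (LK LD1_c25 LD2_c20 LD3_c13)) = (LP (LK LD1_c18 LD2_c52 LD3_c24)) :=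
  Lgr Lrot5 (Lpr_ft (f375017 IH) (Lpr_at (f214735 IH) (Lpe (f214733 IH) (Lpn (LP (LK LD1_c18 LD2_c52 LD3_c24))))))
theorem f586599 : Led Lsl_cf (LP (LK LD1_c15 LD2_c29 LD3_c20)) = (LP (LK LD1_c18 LD2_c52 LD3_c24)) :=
  Lgr Lrot99 (Lpe (f55477 IH) (Lpe (K39.f55476 IH) (Lpr_gf (K39.f554857 IH) (Lpe (K39.f554687 IH) (Lpe (f554863 IH) (Lpr_df (f586593 IH) (Lpe (f375011 IH) (Lpr_ct (f287888 IH) (Lpr_gt (f375022 IH) (Lpn (LP (LK LD1_c18 LD2_c52 LD3_c24))))))))))))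
theorem f444469 : Led Lsl_ft (LP (LK LD1_c15 LD2_c29 LD3_c20)) = (LP (LK LD1_c8 LD2_c13 LD3_c58)) :=
  Lre_f IH (LK LD1_c15 LD2_c29 LD3_c20) (LK LD1_c8 LD2_c13 LD3_c58) Lrfl Lrfl
theorem f55485 : Led Lsl_ct (LP (LK LD1_c8 LD2_c13 LD3_c58)) = (LP (LK LD1_c15 LD2_c29 LD3_c18)) :=
  Lre_c IH (LK LD1_c8 LD2_c13 LD3_c58) (LK LD1_c15 LD2_c29 LD3_c18) Lrfl Lrfl
theorem f586607 : Led Lsl_ft (LP (LK LD1_c15 LD2_c29 LD3_c18)) = (LP (LK LD1_c18 LD2_c52 LD3_c24)) :=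
  Lgr Lrot4 (Lpe (f55485 IH) (Lpe (f444469 IH) (Lpr_cf (f586599 IH) (Lpn (LP (LK LD1_c18 LD2_c52 LD3_c24))))))
theorem f586614 : Led Lsl_ff (LP (LK LD1_c15 LD2_c29 LD3_c18)) = (LP (LK LD1_c18 LD2_c52 LD3_c24)) :=
  Lgr Lrot3 (Lpr_ft (f586607 IH) (Lpn (LP (LK LD1_c18 LD2_c52 LD3_c24))))
theorem f32090 : Led Lsl_gt (LP (LK LD1_c10 LD2_c24 LD3_c4)) = (LP (LK LD1_c18 LD2_c52 LD3_c23)) :=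
  Lre_g IH (LK LD1_c10 LD2_c24 LD3_c4) (LK LD1_c18 LD2_c52 LD3_c23) Lrfl Lrfl
theorem f586619 : Led Lsl_at (LP (LK LD1_c15 LD2_c29 LD3_c18)) = (LP (LK LD1_c18 LD2_c52 LD3_c23)) :=
  Lgr Lrot26 (Lpr_ff (f586614 IH) (Lpr_gt (f214733 IH) (Lpr_gt (f32090 IH) (Lpn (LP (LK LD1_c18 LD2_c52 LD3_c23))))))
theorem f586611 : Led Lsl_et (LP (LK LD1_c25 LD2_c22 LD3_c8)) = (LP (LK LD1_c15 LD2_c29 LD3_c18)) :=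
  Lre_e IH (LK LD1_c25 LD2_c22 LD3_c8) (LK LD1_c15 LD2_c29 LD3_c18) Lrfl Lrfl
theorem f257853 : Led Lsl_et (LP (LK LD1_c18 LD2_c52 LD3_c23)) = (LP (LK LD1_c28 LD2_c20 LD3_c33)) :=
  Lre_e IH (LK LD1_c18 LD2_c52 LD3_c23) (LK LD1_c28 LD2_c20 LD3_c33) Lrfl Lrfl
theorem f586626 : Led Lsl_af (LP (LK LD1_c25 LD2_c22 LD3_c8)) = (LP (LK LD1_c28 LD2_c20 LD3_c33)) :=
  Lgr Lrot50 (Lpr_et (f586611 IH) (Lpr_at (f586619 IH) (Lpr_et (f257853 IH) (Lpn (LP (LK LD1_c28 LD2_c20 LD3_c33))))))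
theorem f586630 : Led Lsl_ct (LP (LK LD1_c25 LD2_c22 LD3_c8)) = (LP (LK LD1_c15 LD2_c29 LD3_c19)) :=
  Lre_c IH (LK LD1_c25 LD2_c22 LD3_c8) (LK LD1_c15 LD2_c29 LD3_c19) Lrfl Lrfl
theorem f586631 : Led Lsl_at (LP (LK LD1_c15 LD2_c29 LD3_c19)) = (LP (LK LD1_c25 LD2_c22 LD3_c0)) :=
  Lre_a IH (LK LD1_c15 LD2_c29 LD3_c19) (LK LD1_c25 LD2_c22 LD3_c0) Lrfl Lrfl
theorem f586632 : Led Lsl_ct (LP (LK LD1_c25 LD2_c22 LD3_c0)) = (LP (LK LD1_c28 LD2_c20 LD3_c33)) :=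
  Lgr Lrot111 (Lpe (f586631 IH) (Lpe (f586630 IH) (Lpr_af (f586626 IH) (Lpn (LP (LK LD1_c28 LD2_c20 LD3_c33))))))
theorem f586638 : Led Lsl_cf (LP (LK LD1_c25 LD2_c22 LD3_c0)) = (LP (LK LD1_c28 LD2_c20 LD3_c33)) :=
  Lgr Lrot11 (Lpr_ct (f586632 IH) (Lpn (LP (LK LD1_c28 LD2_c20 LD3_c33))))
theorem f54912 : Led Lsl_et (LP (LK LD1_c25 LD2_c22 LD3_c0)) = (LP (LK LD1_c15 LD2_c29 LD3_c15)) :=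
  Lre_e IH (LK LD1_c25 LD2_c22 LD3_c0) (LK LD1_c15 LD2_c29 LD3_c15) Lrfl Lrfl
theorem f586642 : Led Lsl_ct (LP (LK LD1_c15 LD2_c29 LD3_c15)) = (LP (LK LD1_c18 LD2_c52 LD3_c23)) :=
  Lgr Lrot15 (Lpe (f54912 IH) (Lpr_cf (f586638 IH) (Lpe (f257853 IH) (Lpn (LP (LK LD1_c18 LD2_c52 LD3_c23))))))
theorem f54760 : Led Lsl_dt (LP (LK LD1_c8 LD2_c13 LD3_c57)) = (LP (LK LD1_c15 LD2_c29 LD3_c15)) :=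
  Lre_d IH (LK LD1_c8 LD2_c13 LD3_c57) (LK LD1_c15 LD2_c29 LD3_c15) Lrfl Lrfl
theorem f54762 : Led Lsl_ft (LP (LK LD1_c8 LD2_c13 LD3_c57)) = (LP (LK LD1_c15 LD2_c29 LD3_c8)) :=
  Lre_f IH (LK LD1_c8 LD2_c13 LD3_c57) (LK LD1_c15 LD2_c29 LD3_c8) Lrfl Lrfl
theorem f421708 : Led Lsl_at (LP (LK LD1_c15 LD2_c29 LD3_c8)) = (LP (LK LD1_c8 LD2_c13 LD3_c59)) :=
  Lre_a IH (LK LD1_c15 LD2_c29 LD3_c8) (LK LD1_c8 LD2_c13 LD3_c59) Lrfl Lrfl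
theorem f55387 : Led Lsl_dt (LP (LK LD1_c4 LD2_c6 LD3_c2)) = (LP (LK LD1_c4 LD2_c7 LD3_c1)) :=
  Lgr Lrot79 (Lpe (K1.f55385 IH) (Lpr_df (K1.f55383 IH) (Lpe (K39.f55386 IH) (Lpn (LP (LK LD1_c4 LD2_c7 LD3_c1))))))
theorem f55468 : Led Lsl_ct (LP (LK LD1_c8 LD2_c12 LD3_c43)) = (LP (LK LD1_c4 LD2_c6 LD3_c2)) :=
  Lre_c IH (LK LD1_c8 LD2_c12 LD3_c43) (LK LD1_c4 LD2_c6 LD3_c2) Lrfl Lrfl
theorem f55513 : Led Lsl_ct (LP (LK LD1_c25 LD2_c18 LD3_c38)) = (LP (LK LD1_c15 LD2_c26 LD3_c57)) :=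
  Lre_c IH (LK LD1_c25 LD2_c18 LD3_c38) (LK LD1_c15 LD2_c26 LD3_c57) Lrfl Lrfl
theorem f586647 : Led Lsl_df (LP (LK LD1_c25 LD2_c18 LD3_c38)) = (LP (LK LD1_c18 LD2_c52 LD3_c23)) :=
  Lgr Lrot106 (Lpr_ct (f55513 IH) (Lpr_dt (K1.f55492 IH) (Lpr_ct (f55468 IH) (Lpr_dt (f55387 IH) (Lpr_ct (K39.f55476 IH) (Lpe (f421708 IH) (Lpe (f54762 IH) (Lpr_dt (f54760 IH) (Lpr_ct (f586642 IH) (Lpn (LP (LK LD1_c18 LD2_c52 LD3_c23))))))))))))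
theorem f55499 : Led Lsl_bt (LP (LK LD1_c15 LD2_c26 LD3_c57)) = (LP (LK LD1_c8 LD2_c12 LD3_c44)) :=
  Lre_b IH (LK LD1_c15 LD2_c26 LD3_c57) (LK LD1_c8 LD2_c12 LD3_c44) Lrfl Lrfl
theorem f548029 : Led Lsl_gt (LP (LK LD1_c8 LD2_c12 LD3_c44)) = (LP (LK LD1_c15 LD2_c26 LD3_c58)) :=
  Lre_g IH (LK LD1_c8 LD2_c12 LD3_c44) (LK LD1_c15 LD2_c26 LD3_c58) Lrfl Lrfl
theorem f32089 : Led Lsl_bt (LP (LK LD1_c5 LD2_c17 LD3_c15)) = (LP (LK LD1_c10 LD2_c24 LD3_c4)) :=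
  Lre_b IH (LK LD1_c5 LD2_c17 LD3_c15) (LK LD1_c10 LD2_c24 LD3_c4) Lrfl Lrfl
theorem f198619 : Led Lsl_ct (LP (LK LD1_c10 LD2_c2 LD3_c48)) = (LP (LK LD1_c5 LD2_c5 LD3_c55)) :=
  Lre_c IH (LK LD1_c10 LD2_c2 LD3_c48) (LK LD1_c5 LD2_c5 LD3_c55) Lrfl Lrfl
theorem f586664 : Led Lsl_dt (LP (LK LD1_c15 LD2_c26 LD3_c58)) = (LP (LK LD1_c10 LD2_c2 LD3_c48)) :=
  Lgr Lrot182 (Lpe (f548029 IH) (Lpe (f55499 IH) (Lpe (f55513 IH) (Lpr_df (f586647 IH) (Lpe (f32090 IH) (Lpe (f32089 IH) (Lpe (K13.f32088 IH) (Lpe (K10.f32087 IH) (Lpe (K10.f32086 IH) (Lpr_bf (K0.f32063 IH) (Lpe (K0.f31699 IH) (Lpe (K9.f31999 IH) (Lpe (K10.f193353 IH) (Lpe (K13.f185096 IH) (Lpe (K10.f164637 IH) (Lpe (K11.f164695 IH) (Lpe (K11.f198596 IH) (Lpe (K39.f185821 IH) (Lpe (f198619 IH) (Lpn (LP (LK LD1_c10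 LD2_c2 LD3_c48))))))))))))))))))))))
theorem f553896 : Led Lsl_cf (LP (LK LD1_c4 LD2_c4 LD3_c52)) = (LP (LK LD1_c2 LD2_c30 LD3_c14)) :=
  Lgr Lrot108 (Lpr_ft (K39.f553890 IH) (Lpr_ct (K38.f204924 IH) (Lpe (K39.f285262 IH) (Lpn (LP (LK LD1_c2 LD2_c30 LD3_c14))))))
theorem f181429 : Led Lsl_ct (LP (LK LD1_c8 LD2_c10 LD3_c33)) = (LP (LK LD1_c15 LD2_c23 LD3_c38)) :=
  Lre_c IH (LK LD1_c8 LD2_c10 LD3_c33) (LK LD1_c15 LD2_c23 LD3_c38) Lrfl Lrfl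
theorem f546632 : Led Lsl_ct (LP (LK LD1_c15 LD2_c23 LD3_c38)) = (LP (LK LD1_c8 LD2_c10 LD3_c33)) :=
  Lre_c IH (LK LD1_c15 LD2_c23 LD3_c38) (LK LD1_c8 LD2_c10 LD3_c33) Lrfl Lrfl
theorem f556919 : Led Lsl_af (LP (LK LD1_c15 LD2_c23 LD3_c38)) = (LP (LK LD1_c20 LD2_c32 LD3_c23)) :=
  Lgr Lrot68 (Lpr_ct (f546632 IH) (Lpr_at (K41.f556917 IH) (Lpr_ct (K41.f556886 IH) (Lpn (LP (LK LD1_c20 LD2_c32 LD3_c23))))))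
theorem f556896 : Led Lsl_ct (LP (LK LD1_c20 LD2_c32 LD3_c23)) = (LP (LK LD1_c11 LD2_c34 LD3_c34)) :=
  Lre_c IH (LK LD1_c20 LD2_c32 LD3_c23) (LK LD1_c11 LD2_c34 LD3_c34) Lrfl Lrfl
theorem f56271 : Led Lsl_ct (LP (LK LD1_c8 LD2_c10 LD3_c34)) = (LP (LK LD1_c15 LD2_c23 LD3_c40)) :=
  Lre_c IH (LK LD1_c8 LD2_c10 LD3_c34) (LK LD1_c15 LD2_c23 LD3_c40) Lrfl Lrfl
theorem f556898 : Led Lsl_ff (LP (LK LD1_c20 LD2_c32 LD3_c23)) = (LP (LK LD1_c15 LD2_c23 LD3_c40)) :=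
  Lgr Lrot23 (Lpr_ct (f556896 IH) (Lpr_ft (K39.f556894 IH) (Lpr_ct (f56271 IH) (Lpn (LP (LK LD1_c15 LD2_c23 LD3_c40))))))
theorem f553797 : Led Lsl_dt (LP (LK LD1_c15 LD2_c23 LD3_c40)) = (LP (LK LD1_c25 LD2_c16 LD3_c2)) :=
  Lre_d IH (LK LD1_c15 LD2_c23 LD3_c40) (LK LD1_c25 LD2_c16 LD3_c2) Lrfl Lrfl
theorem f586672 : Led Lsl_cf (LP (LK LD1_c15 LD2_c26 LD3_c58)) = (LP (LK LD1_c25 LD2_c16 LD3_c2)) :=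
  Lgr Lrot118 (Lpr_dt (f586664 IH) (Lpr_ct (f198619 IH) (Lpr_dt (K39.f180388 IH) (Lpe (f553896 IH) (Lpr_dt (K39.f73478 IH) (Lpr_ct (f181429 IH) (Lpr_af (f556919 IH) (Lpr_ff (f556898 IH) (Lpr_dt (f553797 IH) (Lpn (LP (LK LD1_c25 LD2_c16 LD3_c2))))))))))))
theorem f553916 : Led Lsl_et (LP (LK LD1_c15 LD2_c23 LD3_c39)) = (LP (LK LD1_c8 LD2_c10 LD3_c33)) :=
  Lre_e IH (LK LD1_c15 LD2_c23 LD3_c39) (LK LD1_c8 LD2_c10 LD3_c33) Lrfl Lrfl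
theorem f556891 : Led Lsl_et (LP (LK LD1_c11 LD2_c34 LD3_c34)) = (LP (LK LD1_c20 LD2_c32 LD3_c24)) :=
  Lre_e IH (LK LD1_c11 LD2_c34 LD3_c34) (LK LD1_c20 LD2_c32 LD3_c24) Lrfl Lrfl
theorem f556921 : Led Lsl_af (LP (LK LD1_c15 LD2_c23 LD3_c39)) = (LP (LK LD1_c20 LD2_c32 LD3_c24)) :=
  Lgr Lrot50 (Lpr_et (f553916 IH) (Lpr_at (K41.f556917 IH) (Lpr_et (f556891 IH) (Lpn (LP (LK LD1_c20 LD2_c32 LD3_c24))))))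
theorem f556901 : Led Lsl_ft (LP (LK LD1_c29 LD2_c30 LD3_c3)) = (LP (LK LD1_c20 LD2_c32 LD3_c24)) :=
  Lre_f IH (LK LD1_c29 LD2_c30 LD3_c3) (LK LD1_c20 LD2_c32 LD3_c24) Lrfl Lrfl
theorem f556986 : Led Lsl_at (LP (LK LD1_c25 LD2_c16 LD3_c1)) = (LP (LK LD1_c29 LD2_c30 LD3_c3)) :=
  Lgr Lrot66 (Lpe (K39.f553906 IH) (Lpr_af (f556921 IH) (Lpe (f556901 IH) (Lpn (LP (LK LD1_c29 LD2_c30 LD3_c3))))))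
theorem f556988 : Led Lsl_af (LP (LK LD1_c25 LD2_c16 LD3_c1)) = (LP (LK LD1_c29 LD2_c30 LD3_c3)) :=
  Lgr Lrot0 (Lpr_at (f556986 IH) (Lpn (LP (LK LD1_c29 LD2_c30 LD3_c3))))
theorem f556900 : Led Lsl_et (LP (LK LD1_c20 LD2_c32 LD3_c24)) = (LP (LK LD1_c11 LD2_c34 LD3_c34)) :=
  Lre_e IH (LK LD1_c20 LD2_c32 LD3_c24) (LK LD1_c11 LD2_c34 LD3_c34) Lrfl Lrfl
theorem f556902 : Led Lsl_et (LP (LK LD1_c8 LD2_c10 LD3_c34)) = (LP (LK LD1_c15 LD2_c23 LD3_c41)) :=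
  Lre_e IH (LK LD1_c8 LD2_c10 LD3_c34) (LK LD1_c15 LD2_c23 LD3_c41) Lrfl Lrfl
theorem f556903 : Led Lsl_ft (LP (LK LD1_c15 LD2_c23 LD3_c41)) = (LP (LK LD1_c25 LD2_c16 LD3_c5)) :=
  Lre_f IH (LK LD1_c15 LD2_c23 LD3_c41) (LK LD1_c25 LD2_c16 LD3_c5) Lrfl Lrfl
theorem f556904 : Led Lsl_ef (LP (LK LD1_c29 LD2_c30 LD3_c3)) = (LP (LK LD1_c25 LD2_c16 LD3_c5)) :=
  Lgr Lrot21 (Lpr_ft (f556901 IH) (Lpr_et (f556900 IH) (Lpr_ft (K39.f556894 IH) (Lpr_et (f556902 IH) (Lpr_ft (f556903 IH) (Lpn (LP (LK LD1_c25 LD2_c16 LD3_c5))))))))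
theorem f556992 : Led Lsl_at (LP (LK LD1_c27 LD2_c57 LD3_c38)) = (LP (LK LD1_c25 LD2_c16 LD3_c5)) :=
  Lgr Lrot80 (Lpe (K39.f553907 IH) (Lpr_af (f556988 IH) (Lpr_ef (f556904 IH) (Lpn (LP (LK LD1_c25 LD2_c16 LD3_c5))))))
theorem f205033 : Led Lsl_ft (LP (LK LD1_c18 LD2_c18 LD3_c55)) = (LP (LK LD1_c27 LD2_c57 LD3_c38)) :=
  Lre_f IH (LK LD1_c18 LD2_c18 LD3_c55) (LK LD1_c27 LD2_c57 LD3_c38) Lrfl Lrfl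
theorem f556997 : Led Lsl_ft (LP (LK LD1_c25 LD2_c16 LD3_c5)) = (LP (LK LD1_c15 LD2_c23 LD3_c41)) :=
  Lre_f IH (LK LD1_c25 LD2_c16 LD3_c5) (LK LD1_c15 LD2_c23 LD3_c41) Lrfl Lrfl
theorem f556998 : Led Lsl_af (LP (LK LD1_c18 LD2_c18 LD3_c55)) = (LP (LK LD1_c15 LD2_c23 LD3_c41)) :=
  Lgr Lrot45 (Lpr_ft (f205033 IH) (Lpr_at (f556992 IH) (Lpr_ft (f556997 IH) (Lpn (LP (LK LD1_c15 LD2_c23 LD3_c41))))))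
theorem f205036 : Led Lsl_ct (LP (LK LD1_c18 LD2_c18 LD3_c55)) = (LP (LK LD1_c27 LD2_c57 LD3_c36)) :=
  Lre_c IH (LK LD1_c18 LD2_c18 LD3_c55) (LK LD1_c27 LD2_c57 LD3_c36) Lrfl Lrfl
theorem f557002 : Led Lsl_ct (LP (LK LD1_c25 LD2_c16 LD3_c3)) = (LP (LK LD1_c15 LD2_c23 LD3_c41)) :=
  Lre_c IH (LK LD1_c25 LD2_c16 LD3_c3) (LK LD1_c15 LD2_c23 LD3_c41) Lrfl Lrfl
theorem f557003 : Led Lsl_at (LP (LK LD1_c27 LD2_c57 LD3_c36)) = (LP (LK LD1_c25 LD2_c16 LD3_c3)) :=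
  Lgr Lrot107 (Lpe (f205036 IH) (Lpr_af (f556998 IH) (Lpe (f557002 IH) (Lpn (LP (LK LD1_c25 LD2_c16 LD3_c3))))))
theorem f557007 : Led Lsl_et (LP (LK LD1_c18 LD2_c18 LD3_c54)) = (LP (LK LD1_c27 LD2_c57 LD3_c36)) :=
  Lre_e IH (LK LD1_c18 LD2_c18 LD3_c54) (LK LD1_c27 LD2_c57 LD3_c36) Lrfl Lrfl
theorem f557008 : Led Lsl_et (LP (LK LD1_c25 LD2_c16 LD3_c3)) = (LP (LK LD1_c15 LD2_c23 LD3_c40)) :=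
  Lre_e IH (LK LD1_c25 LD2_c16 LD3_c3) (LK LD1_c15 LD2_c23 LD3_c40) Lrfl Lrfl
theorem f557009 : Led Lsl_af (LP (LK LD1_c18 LD2_c18 LD3_c54)) = (LP (LK LD1_c15 LD2_c23 LD3_c40)) :=
  Lgr Lrot50 (Lpr_et (f557007 IH) (Lpr_at (f557003 IH) (Lpr_et (f557008 IH) (Lpn (LP (LK LD1_c15 LD2_c23 LD3_c40))))))
theorem f169804 : Led Lsl_ct (LP (LK LD1_c5 LD2_c6 LD3_c53)) = (LP (LK LD1_c10 LD2_c4 LD3_c31)) :=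
  Lre_c IH (LK LD1_c5 LD2_c6 LD3_c53) (LK LD1_c10 LD2_c4 LD3_c31) Lrfl Lrfl
theorem f186280 : Led Lsl_dt (LP (LK LD1_c10 LD2_c4 LD3_c31)) = (LP (LK LD1_c18 LD2_c23 LD3_c18)) :=
  Lre_d IH (LK LD1_c10 LD2_c4 LD3_c31) (LK LD1_c18 LD2_c23 LD3_c18) Lrfl Lrfl
theorem f186281 : Led Lsl_ct (LP (LK LD1_c18 LD2_c23 LD3_c18)) = (LP (LK LD1_c28 LD2_c0 LD3_c46)) :=
  Lre_c IH (LK LD1_c18 LD2_c23 LD3_c18) (LK LD1_c28 LD2_c0 LD3_c46) Lrfl Lrfl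
theorem f556925 : Led Lsl_dt (LP (LK LD1_c28 LD2_c0 LD3_c46)) = (LP (LK LD1_c20 LD2_c32 LD3_c23)) :=
  Lgr Lrot120 (Lpe (f186281 IH) (Lpe (f186280 IH) (Lpe (f169804 IH) (Lpe (K39.f186186 IH) (Lpe (K38.f204924 IH) (Lpe (K41.f205037 IH) (Lpe (K39.f553899 IH) (Lpr_at (K41.f556917 IH) (Lpe (f556896 IH) (Lpn (LP (LK LD1_c20 LD2_c32 LD3_c23))))))))))))
theorem f546636 : Led Lsl_dt (LP (LK LD1_c15 LD2_c23 LD3_c38)) = (LP (LK LD1_c25 LD2_c15 LD3_c60)) :=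
  Lre_d IH (LK LD1_c15 LD2_c23 LD3_c38) (LK LD1_c25 LD2_c15 LD3_c60) Lrfl Lrfl
theorem f556927 : Led Lsl_af (LP (LK LD1_c28 LD2_c0 LD3_c46)) = (LP (LK LD1_c25 LD2_c15 LD3_c60)) :=
  Lgr Lrot117 (Lpr_dt (f556925 IH) (Lpe (f556919 IH) (Lpr_dt (f546636 IH) (Lpn (LP (LK LD1_c25 LD2_c15 LD3_c60))))))
theorem f556936 : Led Lsl_ft (LP (LK LD1_c27 LD2_c57 LD3_c35)) = (LP (LK LD1_c25 LD2_c15 LD3_c60)) :=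
  Lgr Lrot142 (Lpr_dt (K41.f205058 IH) (Lpr_ct (K41.f205042 IH) (Lpr_dt (K41.f205037 IH) (Lpr_ct (K38.f204924 IH) (Lpr_dt (K39.f186186 IH) (Lpr_ct (f169804 IH) (Lpr_dt (f186280 IH) (Lpr_ct (f186281 IH) (Lpr_af (f556927 IH) (Lpn (LP (LK LD1_c25 LD2_c15 LD3_c60))))))))))))
theorem f556938 : Led Lsl_ff (LP (LK LD1_c27 LD2_c57 LD3_c35)) = (LP (LK LD1_c25 LD2_c15 LD3_c60)) :=
  Lgr Lrot3 (Lpr_ft (f556936 IH) (Lpn (LP (LK LD1_c25 LD2_c15 LD3_c60))))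
theorem f556940 : Led Lsl_ft (LP (LK LD1_c18 LD2_c18 LD3_c54)) = (LP (LK LD1_c15 LD2_c23 LD3_c38)) :=
  Lgr Lrot54 (Lpe (K41.f205058 IH) (Lpr_ff (f556938 IH) (Lpe (f546636 IH) (Lpn (LP (LK LD1_c15 LD2_c23 LD3_c38))))))
theorem f556943 : Led Lsl_af (LP (LK LD1_c20 LD2_c32 LD3_c23)) = (LP (LK LD1_c15 LD2_c23 LD3_c38)) :=
  Lgr Lrot109 (Lpe (K41.f556886 IH) (Lpr_df (K39.f556882 IH) (Lpe (K39.f553818 IH) (Lpe (K39.f553872 IH) (Lpe (K39.f553877 IH) (Lpe (K39.f553878 IH) (Lpr_cf (K39.f553879 IH) (Lpe (K39.f205041 IH) (Lpr_ft (f556940 IH) (Lpn (LP (LK LD1_c15 LD2_c23 LD3_c38))))))))))))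
theorem f557015 : Led Lsl_ft (LP (LK LD1_c20 LD2_c32 LD3_c23)) = (LP (LK LD1_c15 LD2_c23 LD3_c40)) :=
  Lgr Lrot101 (Lpr_af (f556943 IH) (Lpe (f556940 IH) (Lpr_af (f557009 IH) (Lpn (LP (LK LD1_c15 LD2_c23 LD3_c40))))))
theorem f557017 : Led Lsl_ff (LP (LK LD1_c28 LD2_c0 LD3_c46)) = (LP (LK LD1_c25 LD2_c16 LD3_c2)) :=
  Lgr Lrot19 (Lpr_dt (f556925 IH) (Lpr_ft (f557015 IH) (Lpr_dt (f553797 IH) (Lpn (LP (LK LD1_c25 LD2_c16 LD3_c2))))))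
theorem f556934 : Led Lsl_at (LP (LK LD1_c28 LD2_c0 LD3_c46)) = (LP (LK LD1_c25 LD2_c15 LD3_c60)) :=
  Lgr Lrot100 (Lpr_af (f556927 IH) (Lpn (LP (LK LD1_c25 LD2_c15 LD3_c60))))
theorem f546633 : Led Lsl_dt (LP (LK LD1_c25 LD2_c15 LD3_c60)) = (LP (LK LD1_c15 LD2_c23 LD3_c38)) :=
  Lre_d IH (LK LD1_c25 LD2_c15 LD3_c60) (LK LD1_c15 LD2_c23 LD3_c38) Lrfl Lrfl
theorem f546634 : Led Lsl_gt (LP (LK LD1_c20 LD2_c32 LD3_c45)) = (LP (LK LD1_c25 LD2_c15 LD3_c60)) :=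
  Lgr Lrot49 (Lpe (K38.f538470 IH) (Lpr_gf (K43.f546630 IH) (Lpe (K38.f546591 IH) (Lpr_gt (K38.f73372 IH) (Lpr_dt (K2.f73377 IH) (Lpr_gt (K39.f73477 IH) (Lpr_dt (K39.f73478 IH) (Lpe (f546632 IH) (Lpe (f546633 IH) (Lpn (LP (LK LD1_c25 LD2_c15 LD3_c60))))))))))))
theorem f557022 : Led Lsl_gf (LP (LK LD1_c20 LD2_c32 LD3_c45)) = (LP (LK LD1_c25 LD2_c16 LD3_c2)) :=
  Lgr Lrot47 (Lpr_gt (f546634 IH) (Lpe (f556934 IH) (Lpr_ff (f557017 IH) (Lpn (LP (LK LD1_c25 LD2_c16 LD3_c2))))))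
theorem f538478 : Led Lsl_dt (LP (LK LD1_c5 LD2_c54 LD3_c25)) = (LP (LK LD1_c11 LD2_c34 LD3_c45)) :=
  Lre_d IH (LK LD1_c5 LD2_c54 LD3_c25) (LK LD1_c11 LD2_c34 LD3_c45) Lrfl Lrfl
theorem f166176 : Led Lsl_ct (LP (LK LD1_c1 LD2_c22 LD3_c56)) = (LP (LK LD1_c2 LD2_c53 LD3_c54)) :=
  Lre_c IH (LK LD1_c1 LD2_c22 LD3_c56) (LK LD1_c2 LD2_c53 LD3_c54) Lrfl Lrfl
theorem f420954 : Led Lsl_dt (LP (LK LD1_c11 LD2_c34 LD3_c45)) = (LP (LK LD1_c5 LD2_c54 LD3_c25)) :=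
  Lre_d IH (LK LD1_c11 LD2_c34 LD3_c45) (LK LD1_c5 LD2_c54 LD3_c25) Lrfl Lrfl
theorem f548018 : Led Lsl_cf (LP (LK LD1_c11 LD2_c34 LD3_c45)) = (LP (LK LD1_c15 LD2_c26 LD3_c54)) :=
  Lgr Lrot55 (Lpr_dt (f420954 IH) (Lpr_ct (K35.f420946 IH) (Lpr_dt (K35.f166375 IH) (Lpr_ct (K35.f166374 IH) (Lpr_dt (K43.f186706 IH) (Lpr_ct (f166176 IH) (Lpr_dt (K38.f545689 IH) (Lpr_ct (K38.f546621 IH) (Lpr_dt (K38.f546610 IH) (Lpr_ct (K38.f546603 IH) (Lpe (K38.f546592 IH) (Lpr_ct (K35.f71066 IH) (Lpr_dt (K35.f71098 IH) (Lpr_ct (K38.f548010 IH) (Lpr_dt (K43.f548017 IH) (Lpn (LP (LK LD1_c15 LD2_c26 LD3_c54))))))))))))))))))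
theorem f586683 : Led Lsl_gt (LP (LK LD1_c15 LD2_c26 LD3_c58)) = (LP (LK LD1_c11 LD2_c35 LD3_c41)) :=
  Lgr Lrot94 (Lpr_cf (f586672 IH) (Lpe (f557022 IH) (Lpr_dt (K38.f538471 IH) (Lpr_gt (K35.f420932 IH) (Lpr_dt (f538478 IH) (Lpr_cf (f548018 IH) (Lpe (K43.f548017 IH) (Lpe (K38.f548038 IH) (Lpe (K38.f548043 IH) (Lpn (LP (LK LD1_c11 LD2_c35 LD3_c41))))))))))))
theorem f586668 : Led Lsl_df (LP (LK LD1_c15 LD2_c26 LD3_c58)) = (LP (LK LD1_c10 LD2_c2 LD3_c48)) :=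
  Lgr Lrot38 (Lpr_dt (f586664 IH) (Lpn (LP (LK LD1_c10 LD2_c2 LD3_c48))))
theorem f421693 : Led Lsl_ct (LP (LK LD1_c10 LD2_c18 LD3_c25)) = (LP (LK LD1_c5 LD2_c14 LD3_c25)) :=
  Lre_c IH (LK LD1_c10 LD2_c18 LD3_c25) (LK LD1_c5 LD2_c14 LD3_c25) Lrfl Lrfl
theorem f586686 : Led Lsl_gf (LP (LK LD1_c10 LD2_c2 LD3_c48)) = (LP (LK LD1_c10 LD2_c18 LD3_c25)) :=
  Lgr Lrot144 (Lpe (f586668 IH) (Lpr_gt (f586683 IH) (Lpr_dt (K38.f548043 IH) (Lpr_cf (K43.f548052 IH) (Lpe (K10.f55835 IH) (Lpe (K43.f46868 IH) (Lpe (K36.f137992 IH) (Lpr_gf (K36.f541316 IH) (Lpe (f421693 IH) (Lpn (LP (LK LD1_c10 LD2_c18 LD3_c25))))))))))))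
theorem f185822 : Led Lsl_ct (LP (LK LD1_c5 LD2_c5 LD3_c55)) = (LP (LK LD1_c10 LD2_c2 LD3_c48)) :=
  Lre_c IH (LK LD1_c5 LD2_c5 LD3_c55) (LK LD1_c10 LD2_c2 LD3_c48) Lrfl Lrfl
theorem f198620 : Led Lsl_gt (LP (LK LD1_c5 LD2_c13 LD3_c46)) = (LP (LK LD1_c10 LD2_c17 LD3_c40)) :=
  Lre_g IH (LK LD1_c5 LD2_c13 LD3_c46) (LK LD1_c10 LD2_c17 LD3_c40) Lrfl Lrfl
theorem f427912 : Led Lsl_ct (LP (LK LD1_c5 LD2_c14 LD3_c25)) = (LP (LK LD1_c10 LD2_c18 LD3_c25)) :=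
  Lre_c IH (LK LD1_c5 LD2_c14 LD3_c25) (LK LD1_c10 LD2_c18 LD3_c25) Lrfl Lrfl
theorem f586690 : Led Lsl_bt (LP (LK LD1_c8 LD2_c12 LD3_c27)) = (LP (LK LD1_c4 LD2_c5 LD3_c56)) :=
  Lre_b IH (LK LD1_c8 LD2_c12 LD3_c27) (LK LD1_c4 LD2_c5 LD3_c56) Lrfl Lrfl
theorem f586691 : Led Lsl_cf (LP (LK LD1_c10 LD2_c17 LD3_c40)) = (LP (LK LD1_c8 LD2_c12 LD3_c27)) :=
  Lgr Lrot58 (Lpe (f198620 IH) (Lpe (K38.f186534 IH) (Lpr_bt (K19.f186560 IH) (Lpe (K11.f198596 IH) (Lpe (K39.f185821 IH) (Lpr_ct (f185822 IH) (Lpr_gf (f586686 IH) (Lpe (f427912 IH) (Lpe (K42.f541320 IH) (Lpe (f586690 IH) (Lpn (LP (LK LD1_c8 LD2_c12 LD3_c27)))))))))))))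
theorem f542470 : Led Lsl_dt (LP (LK LD1_c9 LD2_c10 LD3_c13)) = (LP (LK LD1_c17 LD2_c3 LD3_c20)) :=
  Lre_d IH (LK LD1_c9 LD2_c10 LD3_c13) (LK LD1_c17 LD2_c3 LD3_c20) Lrfl Lrfl
theorem f542433 : Led Lsl_at (LP (LK LD1_c5 LD2_c6 LD3_c49)) = (LP (LK LD1_c9 LD2_c10 LD3_c13)) :=
  Lgr Lrot100 (Lpr_af (K38.f542425 IH) (Lpn (LP (LK LD1_c9 LD2_c10 LD3_c13))))
theorem f542471 : Led Lsl_gt (LP (LK LD1_c10 LD2_c17 LD3_c40)) = (LP (LK LD1_c9 LD2_c10 LD3_c13)) :=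
  Lgr Lrot46 (Lpe (f198620 IH) (Lpr_ft (K38.f308128 IH) (Lpr_at (f542433 IH) (Lpn (LP (LK LD1_c9 LD2_c10 LD3_c13))))))
theorem f166350 : Led Lsl_gt (LP (LK LD1_c10 LD2_c2 LD3_c56)) = (LP (LK LD1_c18 LD2_c21 LD3_c14)) :=
  Lre_g IH (LK LD1_c10 LD2_c2 LD3_c56) (LK LD1_c18 LD2_c21 LD3_c14) Lrfl Lrfl
theorem f574852 : Led Lsl_df (LP (LK LD1_c10 LD2_c17 LD3_c40)) = (LP (LK LD1_c18 LD2_c21 LD3_c14)) :=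
  Lgr Lrot153 (Lpr_gt (f542471 IH) (Lpr_dt (f542470 IH) (Lpr_cf (K38.f542415 IH) (Lpe (K38.f308159 IH) (Lpr_gf (K42.f551889 IH) (Lpe (K38.f197347 IH) (Lpr_gf (K43.f574841 IH) (Lpe (K43.f166334 IH) (Lpr_gt (f166350 IH) (Lpn (LP (LK LD1_c18 LD2_c21 LD3_c14))))))))))))
theorem f166321 : Led Lsl_dt (LP (LK LD1_c5 LD2_c5 LD3_c60)) = (LP (LK LD1_c10 LD2_c2 LD3_c56)) :=
  Lre_d IH (LK LD1_c5 LD2_c5 LD3_c60) (LK LD1_c10 LD2_c2 LD3_c56) Lrfl Lrfl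
theorem f586705 : Led Lsl_dt (LP (LK LD1_c9 LD2_c47 LD3_c33)) = (LP (LK LD1_c6 LD2_c7 LD3_c26)) :=
  Lgr Lrot57 (Lpe (K44.f387083 IH) (Lpe (K42.f387082 IH) (Lpr_gt (K42.f387075 IH) (Lpr_dt (f166321 IH) (Lpr_gt (f166350 IH) (Lpe (f574852 IH) (Lpr_cf (f586691 IH) (Lpe (K44.f572886 IH) (Lpr_gf (K44.f572880 IH) (Lpn (LP (LK LD1_c6 LD2_c7 LD3_c26))))))))))))
theorem f586709 : Led Lsl_ff (LP (LK LD1_c9 LD2_c47 LD3_c33)) = (LP (LK LD1_c5 LD2_c7 LD3_c55)) :=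
  Lgr Lrot19 (Lpr_dt (f586705 IH) (Lpr_ft (K44.f548409 IH) (Lpr_dt (K38.f545041 IH) (Lpn (LP (LK LD1_c5 LD2_c7 LD3_c55))))))
theorem f141962 : Led Lsl_gt (LP (LK LD1_c8 LD2_c49 LD3_c3)) = (LP (LK LD1_c16 LD2_c29 LD3_c27)) :=
  Lre_g IH (LK LD1_c8 LD2_c49 LD3_c3) (LK LD1_c16 LD2_c29 LD3_c27) Lrfl Lrfl
theorem f586715 : Led Lsl_at (LP (LK LD1_c9 LD2_c47 LD3_c33)) = (LP (LK LD1_c16 LD2_c29 LD3_c27)) :=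
  Lgr Lrot26 (Lpr_ff (f586709 IH) (Lpr_gt (K42.f570748 IH) (Lpr_gt (f141962 IH) (Lpn (LP (LK LD1_c16 LD2_c29 LD3_c27))))))
theorem f572906 : Led Lsl_af (LP (LK LD1_c5 LD2_c7 LD3_c55)) = (LP (LK LD1_c9 LD2_c47 LD3_c34)) :=
  Lgr Lrot117 (Lpe (K43.f545050 IH) (Lpe (K8.f117596 IH) (Lpr_dt (K42.f572904 IH) (Lpn (LP (LK LD1_c9 LD2_c47 LD3_c34))))))
theorem f586726 : Led Lsl_ff (LP (LK LD1_c9 LD2_c47 LD3_c34)) = (LP (LK LD1_c16 LD2_c29 LD3_c27)) :=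
  Lgr Lrot30 (Lpe (f572906 IH) (Lpe (f586709 IH) (Lpr_at (f586715 IH) (Lpn (LP (LK LD1_c16 LD2_c29 LD3_c27))))))
theorem f3293 : Led Lsl_ct (LP (LK LD1_c10 LD2_c6 LD3_c12)) = (LP (LK LD1_c5 LD2_c7 LD3_c55)) :=
  Lre_c IH (LK LD1_c10 LD2_c6 LD3_c12) (LK LD1_c5 LD2_c7 LD3_c55) Lrfl Lrfl
theorem f3294 : Led Lsl_dt (LP (LK LD1_c18 LD2_c25 LD3_c12)) = (LP (LK LD1_c10 LD2_c6 LD3_c12)) :=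
  Lre_d IH (LK LD1_c18 LD2_c25 LD3_c12) (LK LD1_c10 LD2_c6 LD3_c12) Lrfl Lrfl
theorem f56004 : Led Lsl_at (LP (LK LD1_c11 LD2_c57 LD3_c34)) = (LP (LK LD1_c6 LD2_c7 LD3_c26)) :=
  Lre_a IH (LK LD1_c11 LD2_c57 LD3_c34) (LK LD1_c6 LD2_c7 LD3_c26) Lrfl Lrfl
theorem f586721 : Led Lsl_df (LP (LK LD1_c11 LD2_c57 LD3_c34)) = (LP (LK LD1_c16 LD2_c29 LD3_c27)) :=
  Lgr Lrot18 (Lpr_at (f56004 IH) (Lpe (K44.f557623 IH) (Lpr_at (f586715 IH) (Lpn (LP (LK LD1_c16 LD2_c29 LD3_c27))))))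
theorem f201645 : Led Lsl_bt (LP (LK LD1_c2 LD2_c33 LD3_c22)) = (LP (LK LD1_c5 LD2_c12 LD3_c60)) :=
  Lre_b IH (LK LD1_c2 LD2_c33 LD3_c22) (LK LD1_c5 LD2_c12 LD3_c60) Lrfl Lrfl
theorem f549871 : Led Lsl_gt (LP (LK LD1_c5 LD2_c12 LD3_c60)) = (LP (LK LD1_c4 LD2_c25 LD3_c56)) :=
  Lgr Lrot112 (Lpe (K39.f302395 IH) (Lpq (K38.f537896 IH) (Lpe (K38.f506321 IH) (Lpe (K11.f116807 IH) (Lpr_ef (K38.f549861 IH) (Lpr_dt (K36.f80126 IH) (Lpe (K8.f16154 IH) (Lpe (K6.f16612 IH) (Lpe (K6.f80134 IH) (Lpe (K38.f80165 IH) (Lpr_dt (K36.f80166 IH) (Lpn (LP (LK LD1_c4 LD2_c25 LD3_c56))))))))))))))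
theorem f546414 : Led Lsl_gt (LP (LK LD1_c8 LD2_c49 LD3_c14)) = (LP (LK LD1_c16 LD2_c29 LD3_c41)) :=
  Lre_g IH (LK LD1_c8 LD2_c49 LD3_c14) (LK LD1_c16 LD2_c29 LD3_c41) Lrfl Lrfl
theorem f570535 : Led Lsl_bt (LP (LK LD1_c12 LD2_c22 LD3_c1)) = (LP (LK LD1_c16 LD2_c11 LD3_c57)) :=
  Lgr Lrot95 (Lpe (K38.f117600 IH) (Lpr_bf (K42.f547735 IH) (Lpr_df (K42.f570532 IH) (Lpn (LP (LK LD1_c16 LD2_c11 LD3_c57))))))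
theorem f570543 : Led Lsl_cf (LP (LK LD1_c16 LD2_c29 LD3_c41)) = (LP (LK LD1_c12 LD2_c22 LD3_c1)) :=
  Lgr Lrot163 (Lpe (f546414 IH) (Lpe (K36.f427615 IH) (Lpe (f549871 IH) (Lpe (f201645 IH) (Lpr_ct (K11.f201633 IH) (Lpr_gf (K11.f201636 IH) (Lpr_cf (K0.f31711 IH) (Lpr_bt (K35.f31746 IH) (Lpr_gf (K42.f570539 IH) (Lpe (f570535 IH) (Lpn (LP (LK LD1_c12 LD2_c22 LD3_c1)))))))))))))
theorem f546415 : Led Lsl_dt (LP (LK LD1_c16 LD2_c29 LD3_c41)) = (LP (LK LD1_c26 LD2_c26 LD3_c32)) :=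
  Lre_d IH (LK LD1_c16 LD2_c29 LD3_c41) (LK LD1_c26 LD2_c26 LD3_c32) Lrfl Lrfl
theorem f586735 : Led Lsl_cf (LP (LK LD1_c18 LD2_c25 LD3_c12)) = (LP (LK LD1_c26 LD2_c26 LD3_c32)) :=
  Lgr Lrot161 (Lpr_dt (f3294 IH) (Lpr_ct (f3293 IH) (Lpr_af (f572906 IH) (Lpr_ff (f586726 IH) (Lpe (f586721 IH) (Lpr_ct (K43.f574521 IH) (Lpr_dt (K38.f117600 IH) (Lpe (f570543 IH) (Lpr_dt (f546415 IH) (Lpn (LP (LK LD1_c26 LD2_c26 LD3_c32))))))))))))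
theorem f36556 : Led Lsl_ct (LP (LK LD1_c8 LD2_c45 LD3_c39)) = (LP (LK LD1_c16 LD2_c23 LD3_c50)) :=
  Lre_c IH (LK LD1_c8 LD2_c45 LD3_c39) (LK LD1_c16 LD2_c23 LD3_c50) Lrfl Lrfl
theorem f117574 : Led Lsl_ct (LP (LK LD1_c12 LD2_c22 LD3_c0)) = (LP (LK LD1_c6 LD2_c24 LD3_c29)) :=
  Lre_c IH (LK LD1_c12 LD2_c22 LD3_c0) (LK LD1_c6 LD2_c24 LD3_c29) Lrfl Lrfl
theorem f117575 : Led Lsl_af (LP (LK LD1_c12 LD2_c22 LD3_c0)) = (LP (LK LD1_c16 LD2_c23 LD3_c50)) :=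
  Lgr Lrot68 (Lpr_ct (f117574 IH) (Lpr_at (K38.f117569 IH) (Lpr_ct (f36556 IH) (Lpn (LP (LK LD1_c16 LD2_c23 LD3_c50))))))
theorem f117580 : Led Lsl_at (LP (LK LD1_c12 LD2_c22 LD3_c0)) = (LP (LK LD1_c16 LD2_c23 LD3_c50)) :=
  Lgr Lrot100 (Lpr_af (f117575 IH) (Lpn (LP (LK LD1_c16 LD2_c23 LD3_c50))))
theorem f586740 : Led Lsl_ff (LP (LK LD1_c12 LD2_c22 LD3_c0)) = (LP (LK LD1_c16 LD2_c29 LD3_c41)) :=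
  Lgr Lrot103 (Lpr_at (f117580 IH) (Lpe (f36556 IH) (Lpe (K35.f36555 IH) (Lpe (K8.f36548 IH) (Lpr_df (K43.f545050 IH) (Lpe (f3293 IH) (Lpe (f3294 IH) (Lpr_cf (f586735 IH) (Lpe (f546415 IH) (Lpn (LP (LK LD1_c16 LD2_c29 LD3_c41))))))))))))
theorem f586745 : Led Lsl_ft (LP (LK LD1_c12 LD2_c22 LD3_c0)) = (LP (LK LD1_c16 LD2_c29 LD3_c41)) :=
  Lgr Lrot48 (Lpr_ff (f586740 IH) (Lpn (LP (LK LD1_c16 LD2_c29 LD3_c41))))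
theorem f117586 : Led Lsl_ct (LP (LK LD1_c6 LD2_c24 LD3_c29)) = (LP (LK LD1_c12 LD2_c22 LD3_c0)) :=
  Lre_c IH (LK LD1_c6 LD2_c24 LD3_c29) (LK LD1_c12 LD2_c22 LD3_c0) Lrfl Lrfl
theorem f586747 : Led Lsl_cf (LP (LK LD1_c12 LD2_c22 LD3_c1)) = (LP (LK LD1_c16 LD2_c29 LD3_c41)) :=
  Lgr Lrot108 (Lpr_ft (K38.f117578 IH) (Lpr_ct (f117586 IH) (Lpr_ft (f586745 IH) (Lpn (LP (LK LD1_c16 LD2_c29 LD3_c41))))))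
theorem f586742 : Led Lsl_dt (LP (LK LD1_c26 LD2_c26 LD3_c32)) = (LP (LK LD1_c16 LD2_c29 LD3_c41)) :=
  Lre_d IH (LK LD1_c26 LD2_c26 LD3_c32) (LK LD1_c16 LD2_c29 LD3_c41) Lrfl Lrfl
theorem f586737 : Led Lsl_ct (LP (LK LD1_c18 LD2_c25 LD3_c12)) = (LP (LK LD1_c26 LD2_c26 LD3_c32)) :=
  Lgr Lrot59 (Lpr_cf (f586735 IH) (Lpn (LP (LK LD1_c26 LD2_c26 LD3_c32))))
theorem f545049 : Led Lsl_dt (LP (LK LD1_c10 LD2_c6 LD3_c12)) = (LP (LK LD1_c18 LD2_c25 LD3_c12)) :=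
  Lre_d IH (LK LD1_c10 LD2_c6 LD3_c12) (LK LD1_c18 LD2_c25 LD3_c12) Lrfl Lrfl
theorem f163812 : Led Lsl_ct (LP (LK LD1_c5 LD2_c7 LD3_c55)) = (LP (LK LD1_c10 LD2_c6 LD3_c12)) :=
  Lre_c IH (LK LD1_c5 LD2_c7 LD3_c55) (LK LD1_c10 LD2_c6 LD3_c12) Lrfl Lrfl
theorem f495664 : Led Lsl_bt (LP (LK LD1_c6 LD2_c7 LD3_c26)) = (LP (LK LD1_c2 LD2_c59 LD3_c53)) :=
  Lre_b IH (LK LD1_c6 LD2_c7 LD3_c26) (LK LD1_c2 LD2_c59 LD3_c53) Lrfl Lrfl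
theorem f548403 : Led Lsl_ff (LP (LK LD1_c6 LD2_c7 LD3_c26)) = (LP (LK LD1_c4 LD2_c34 LD3_c20)) :=
  Lgr Lrot25 (Lpr_bt (f495664 IH) (Lpr_ft (K38.f548401 IH) (Lpr_bt (K8.f36553 IH) (Lpn (LP (LK LD1_c4 LD2_c34 LD3_c20))))))
theorem f586753 : Led Lsl_ct (LP (LK LD1_c6 LD2_c24 LD3_c30)) = (LP (LK LD1_c11 LD2_c57 LD3_c34)) :=
  Lgr Lrot98 (Lpe (K39.f117579 IH) (Lpr_cf (f586747 IH) (Lpe (f586742 IH) (Lpe (f586737 IH) (Lpe (f545049 IH) (Lpe (f163812 IH) (Lpe (K38.f545041 IH) (Lpe (f548403 IH) (Lpr_at (K43.f548393 IH) (Lpn (LP (LK LD1_c11 LD2_c57 LD3_c34))))))))))))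
theorem f586757 : Led Lsl_ff (LP (LK LD1_c6 LD2_c24 LD3_c26)) = (LP (LK LD1_c11 LD2_c57 LD3_c34)) :=
  Lgr Lrot23 (Lpr_ct (K42.f117571 IH) (Lpr_ft (K38.f117551 IH) (Lpr_ct (f586753 IH) (Lpn (LP (LK LD1_c11 LD2_c57 LD3_c34))))))
theorem f586763 : Led Lsl_ft (LP (LK LD1_c6 LD2_c24 LD3_c26)) = (LP (LK LD1_c11 LD2_c57 LD3_c34)) :=
  Lgr Lrot48 (Lpr_ff (f586757 IH) (Lpn (LP (LK LD1_c11 LD2_c57 LD3_c34))))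
theorem f572910 : Led Lsl_df (LP (LK LD1_c6 LD2_c24 LD3_c26)) = (LP (LK LD1_c9 LD2_c47 LD3_c34)) :=
  Lgr Lrot38 (Lpr_dt (K42.f572904 IH) (Lpn (LP (LK LD1_c9 LD2_c47 LD3_c34))))
theorem f586765 : Led Lsl_df (LP (LK LD1_c16 LD2_c29 LD3_c27)) = (LP (LK LD1_c11 LD2_c57 LD3_c34)) :=
  Lgr Lrot78 (Lpe (f586726 IH) (Lpe (f572910 IH) (Lpr_ft (f586763 IH) (Lpn (LP (LK LD1_c11 LD2_c57 LD3_c34))))))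
theorem f586723 : Led Lsl_et (LP (LK LD1_c16 LD2_c29 LD3_c27)) = (LP (LK LD1_c26 LD2_c26 LD3_c22)) :=
  Lre_e IH (LK LD1_c16 LD2_c29 LD3_c27) (LK LD1_c26 LD2_c26 LD3_c22) Lrfl Lrfl
theorem f582501 : Led Lsl_et (LP (LK LD1_c9 LD2_c1 LD3_c20)) = (LP (LK LD1_c11 LD2_c57 LD3_c34)) :=
  Lgr Lrot123 (Lpe (K39.f544918 IH) (Lpr_ef (K44.f582499 IH) (Lpe (f56004 IH) (Lpn (LP (LK LD1_c11 LD2_c57 LD3_c34))))))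
theorem f586767 : Led Lsl_dt (LP (LK LD1_c26 LD2_c26 LD3_c22)) = (LP (LK LD1_c17 LD2_c54 LD3_c54)) :=
  Lgr Lrot77 (Lpe (f586723 IH) (Lpr_df (f586765 IH) (Lpe (f582501 IH) (Lpr_df (K39.f551835 IH) (Lpe (K41.f424151 IH) (Lpn (LP (LK LD1_c17 LD2_c54 LD3_c54))))))))
theorem f557579 : Led Lsl_et (LP (LK LD1_c17 LD2_c57 LD3_c52)) = (LP (LK LD1_c9 LD2_c47 LD3_c33)) :=
  Lre_e IH (LK LD1_c17 LD2_c57 LD3_c52) (LK LD1_c9 LD2_c47 LD3_c33) Lrfl Lrfl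
theorem f586707 : Led Lsl_df (LP (LK LD1_c17 LD2_c57 LD3_c52)) = (LP (LK LD1_c11 LD2_c11 LD3_c34)) :=
  Lgr Lrot70 (Lpr_et (f557579 IH) (Lpr_dt (f586705 IH) (Lpe (K44.f582499 IH) (Lpe (K39.f557198 IH) (Lpr_et (K41.f553530 IH) (Lpn (LP (LK LD1_c11 LD2_c11 LD3_c34))))))))
theorem f586769 : Led Lsl_af (LP (LK LD1_c26 LD2_c26 LD3_c22)) = (LP (LK LD1_c17 LD2_c57 LD3_c52)) :=
  Lgr Lrot117 (Lpr_dt (f586767 IH) (Lpe (K41.f566581 IH) (Lpe (f586707 IH) (Lpn (LP (LK LD1_c17 LD2_c57 LD3_c52))))))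
theorem f557562 : Led Lsl_et (LP (LK LD1_c9 LD2_c47 LD3_c33)) = (LP (LK LD1_c17 LD2_c57 LD3_c52)) :=
  Lre_e IH (LK LD1_c9 LD2_c47 LD3_c33) (LK LD1_c17 LD2_c57 LD3_c52) Lrfl Lrfl
theorem f557563 : Led Lsl_bf (LP (LK LD1_c10 LD2_c5 LD3_c54)) = (LP (LK LD1_c17 LD2_c57 LD3_c52)) :=
  Lgr Lrot96 (Lpr_et (K43.f22333 IH) (Lpr_bt (K44.f557557 IH) (Lpr_et (f557562 IH) (Lpn (LP (LK LD1_c17 LD2_c57 LD3_c52))))))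
theorem f557566 : Led Lsl_bt (LP (LK LD1_c10 LD2_c5 LD3_c54)) = (LP (LK LD1_c17 LD2_c57 LD3_c52)) :=
  Lgr Lrot127 (Lpr_bf (f557563 IH) (Lpn (LP (LK LD1_c17 LD2_c57 LD3_c52))))
theorem f579166 : Led Lsl_bt (LP (LK LD1_c10 LD2_c6 LD3_c3)) = (LP (LK LD1_c5 LD2_c7 LD3_c54)) :=
  Lre_b IH (LK LD1_c10 LD2_c6 LD3_c3) (LK LD1_c5 LD2_c7 LD3_c54) Lrfl Lrfl
theorem f579167 : Led Lsl_at (LP (LK LD1_c18 LD2_c24 LD3_c52)) = (LP (LK LD1_c10 LD2_c6 LD3_c3)) :=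
  Lre_a IH (LK LD1_c18 LD2_c24 LD3_c52) (LK LD1_c10 LD2_c6 LD3_c3) Lrfl Lrfl
theorem f586773 : Led Lsl_bt (LP (LK LD1_c26 LD2_c26 LD3_c22)) = (LP (LK LD1_c18 LD2_c24 LD3_c52)) :=
  Lgr Lrot62 (Lpr_af (f586769 IH) (Lpe (f557566 IH) (Lpr_af (K43.f579162 IH) (Lpe (f579166 IH) (Lpe (f579167 IH) (Lpn (LP (LK LD1_c18 LD2_c24 LD3_c52))))))))
theorem f586775 : Led Lsl_bf (LP (LK LD1_c26 LD2_c26 LD3_c22)) = (LP (LK LD1_c18 LD2_c24 LD3_c52)) :=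
  Lgr Lrot24 (Lpr_bt (f586773 IH) (Lpn (LP (LK LD1_c18 LD2_c24 LD3_c52))))
theorem f566597 : Led Lsl_et (LP (LK LD1_c20 LD2_c0 LD3_c21)) = (LP (LK LD1_c11 LD2_c7 LD3_c3)) :=
  Lre_e IH (LK LD1_c20 LD2_c0 LD3_c21) (LK LD1_c11 LD2_c7 LD3_c3) Lrfl Lrfl
theorem f566598 : Led Lsl_bf (LP (LK LD1_c20 LD2_c0 LD3_c21)) = (LP (LK LD1_c17 LD2_c54 LD3_c54)) :=
  Lgr Lrot96 (Lpr_et (f566597 IH) (Lpr_bt (K41.f566590 IH) (Lpr_et (K41.f551839 IH) (Lpn (LP (LK LD1_c17 LD2_c54 LD3_c54))))))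
theorem f586777 : Led Lsl_dt (LP (LK LD1_c20 LD2_c0 LD3_c21)) = (LP (LK LD1_c18 LD2_c24 LD3_c52)) :=
  Lgr Lrot79 (Lpr_bf (f566598 IH) (Lpe (f586767 IH) (Lpr_bf (f586775 IH) (Lpn (LP (LK LD1_c18 LD2_c24 LD3_c52))))))
theorem f586781 : Led Lsl_df (LP (LK LD1_c20 LD2_c0 LD3_c21)) = (LP (LK LD1_c18 LD2_c24 LD3_c52)) :=
  Lgr Lrot38 (Lpr_dt (f586777 IH) (Lpn (LP (LK LD1_c18 LD2_c24 LD3_c52))))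
theorem f566628 : Led Lsl_et (LP (LK LD1_c5 LD2_c37 LD3_c51)) = (LP (LK LD1_c11 LD2_c7 LD3_c4)) :=
  Lre_e IH (LK LD1_c5 LD2_c37 LD3_c51) (LK LD1_c11 LD2_c7 LD3_c4) Lrfl Lrfl
theorem f574525 : Led Lsl_et (LP (LK LD1_c10 LD2_c6 LD3_c1)) = (LP (LK LD1_c18 LD2_c24 LD3_c52)) :=
  Lre_e IH (LK LD1_c10 LD2_c6 LD3_c1) (LK LD1_c18 LD2_c24 LD3_c52) Lrfl Lrfl
theorem f586788 : Led Lsl_dt (LP (LK LD1_c11 LD2_c7 LD3_c4)) = (LP (LK LD1_c10 LD2_c6 LD3_c1)) :=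
  Lgr Lrot77 (Lpe (f566628 IH) (Lpe (K41.f566621 IH) (Lpe (f566597 IH) (Lpr_df (f586781 IH) (Lpe (f574525 IH) (Lpn (LP (LK LD1_c10 LD2_c6 LD3_c1))))))))
theorem f56250 : Led Lsl_gt (LP (LK LD1_c3 LD2_c0 LD3_c5)) = (LP (LK LD1_c1 LD2_c25 LD3_c51)) :=
  Lre_g IH (LK LD1_c3 LD2_c0 LD3_c5) (LK LD1_c1 LD2_c25 LD3_c51) Lrfl Lrfl
theorem f56236 : Led Lsl_bt (LP (LK LD1_c4 LD2_c39 LD3_c41)) = (LP (LK LD1_c3 LD2_c0 LD3_c5)) :=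
  Lre_b IH (LK LD1_c4 LD2_c39 LD3_c41) (LK LD1_c3 LD2_c0 LD3_c5) Lrfl Lrfl
theorem f46872 : Led Lsl_gt (LP (LK LD1_c4 LD2_c13 LD3_c28)) = (LP (LK LD1_c8 LD2_c25 LD3_c52)) :=
  Lre_g IH (LK LD1_c4 LD2_c13 LD3_c28) (LK LD1_c8 LD2_c25 LD3_c52) Lrfl Lrfl
theorem f557516 : Led Lsl_ct (LP (LK LD1_c5 LD2_c47 LD3_c57)) = (LP (LK LD1_c4 LD2_c13 LD3_c28)) :=
  Lgr Lrot91 (Lpe (K43.f436719 IH) (Lpe (K43.f132426 IH) (Lpr_ct (K38.f132354 IH) (Lpr_gf (K40.f557512 IH) (Lpe (K40.f557506 IH) (Lpr_bt (K40.f55991 IH) (Lpe (f56250 IH) (Lpe (f56236 IH) (Lpe (K40.f56219 IH) (Lpe (f46872 IH) (Lpn (LP (LK LD1_c4 LD2_c13 LD3_c28)))))))))))))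
theorem f574634 : Led Lsl_ef (LP (LK LD1_c5 LD2_c47 LD3_c57)) = (LP (LK LD1_c6 LD2_c15 LD3_c29)) :=
  Lgr Lrot28 (Lpr_ct (f557516 IH) (Lpr_et (K43.f574615 IH) (Lpr_ct (K43.f547305 IH) (Lpn (LP (LK LD1_c6 LD2_c15 LD3_c29))))))
theorem f557715 : Led Lsl_ef (LP (LK LD1_c5 LD2_c0 LD3_c3)) = (LP (LK LD1_c9 LD2_c47 LD3_c38)) :=
  Lgr Lrot88 (Lpr_et (K40.f557709 IH) (Lpn (LP (LK LD1_c9 LD2_c47 LD3_c38))))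
theorem f34890 : Led Lsl_ct (LP (LK LD1_c4 LD2_c35 LD3_c39)) = (LP (LK LD1_c2 LD2_c14 LD3_c59)) :=
  Lre_c IH (LK LD1_c4 LD2_c35 LD3_c39) (LK LD1_c2 LD2_c14 LD3_c59) Lrfl Lrfl
theorem f35214 : Led Lsl_gt (LP (LK LD1_c9 LD2_c7 LD3_c47)) = (LP (LK LD1_c4 LD2_c35 LD3_c39)) :=
  Lre_g IH (LK LD1_c9 LD2_c7 LD3_c47) (LK LD1_c4 LD2_c35 LD3_c39) Lrfl Lrfl
theorem f142049 : Led Lsl_gt (LP (LK LD1_c11 LD2_c25 LD3_c32)) = (LP (LK LD1_c5 LD2_c47 LD3_c59)) :=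
  Lre_g IH (LK LD1_c11 LD2_c25 LD3_c32) (LK LD1_c5 LD2_c47 LD3_c59) Lrfl Lrfl
theorem f581584 : Led Lsl_dt (LP (LK LD1_c9 LD2_c47 LD3_c38)) = (LP (LK LD1_c11 LD2_c25 LD3_c32)) :=
  Lgr Lrot6 (Lpr_gt (K44.f581580 IH) (Lpe (K44.f581571 IH) (Lpr_gt (K41.f34914 IH) (Lpe (K2.f34887 IH) (Lpe (K36.f34889 IH) (Lpe (f34890 IH) (Lpe (f35214 IH) (Lpr_cf (K38.f547981 IH) (Lpe (f142049 IH) (Lpn (LP (LK LD1_c11 LD2_c25 LD3_c32))))))))))))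
theorem f586794 : Led Lsl_gf (LP (LK LD1_c11 LD2_c25 LD3_c32)) = (LP (LK LD1_c10 LD2_c6 LD3_c1)) :=
  Lgr Lrot134 (Lpe (f581584 IH) (Lpe (f557715 IH) (Lpe (K40.f563185 IH) (Lpe (K44.f581601 IH) (Lpe (K31.f174817 IH) (Lpe (K44.f582507 IH) (Lpe (K44.f573978 IH) (Lpe (f574634 IH) (Lpe (K43.f574519 IH) (Lpr_dt (f586788 IH) (Lpn (LP (LK LD1_c10 LD2_c6 LD3_c1)))))))))))))
theorem f56199 : Led Lsl_ct (LP (LK LD1_c4 LD2_c39 LD3_c49)) = (LP (LK LD1_c2 LD2_c16 LD3_c56)) :=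
  Lre_c IH (LK LD1_c4 LD2_c39 LD3_c49) (LK LD1_c2 LD2_c16 LD3_c56) Lrfl Lrfl
theorem f56293 : Led Lsl_gt (LP (LK LD1_c9 LD2_c15 LD3_c7)) = (LP (LK LD1_c4 LD2_c39 LD3_c49)) :=
  Lre_g IH (LK LD1_c9 LD2_c15 LD3_c7) (LK LD1_c4 LD2_c39 LD3_c49) Lrfl Lrfl
theorem f586798 : Led Lsl_ct (LP (LK LD1_c11 LD2_c25 LD3_c32)) = (LP (LK LD1_c9 LD2_c15 LD3_c7)) :=
  Lgr Lrot152 (Lpr_gf (f586794 IH) (Lpe (f586788 IH) (Lpe (K43.f575802 IH) (Lpr_ct (K43.f575797 IH) (Lpr_gt (K43.f56217 IH) (Lpr_ct (K42.f56194 IH) (Lpe (K36.f56198 IH) (Lpe (f56199 IH) (Lpe (f56293 IH) (Lpn (LP (LK LD1_c9 LD2_c15 LD3_c7))))))))))))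
theorem f55638 : Led Lsl_bt (LP (LK LD1_c2 LD2_c1 LD3_c4)) = (LP (LK LD1_c4 LD2_c7 LD3_c20)) :=
  Lre_b IH (LK LD1_c2 LD2_c1 LD3_c4) (LK LD1_c4 LD2_c7 LD3_c20) Lrfl Lrfl
theorem f55639 : Led Lsl_gt (LP (LK LD1_c4 LD2_c7 LD3_c20)) = (LP (LK LD1_c8 LD2_c14 LD3_c50)) :=
  Lre_g IH (LK LD1_c4 LD2_c7 LD3_c20) (LK LD1_c8 LD2_c14 LD3_c50) Lrfl Lrfl
theorem f586808 : Led Lsl_bt (LP (LK LD1_c11 LD2_c25 LD3_c32)) = (LP (LK LD1_c8 LD2_c14 LD3_c50)) :=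
  Lgr Lrot92 (Lpr_ct (f586798 IH) (Lpr_gt (f56293 IH) (Lpe (K37.f56241 IH) (Lpr_bt (K37.f183086 IH) (Lpr_gt (K9.f182474 IH) (Lpr_ct (K9.f183083 IH) (Lpe (K9.f183074 IH) (Lpe (K2.f55626 IH) (Lpr_bt (f55638 IH) (Lpr_gt (f55639 IH) (Lpn (LP (LK LD1_c8 LD2_c14 LD3_c50)))))))))))))
theorem f55817 : Led Lsl_bt (LP (LK LD1_c4 LD2_c5 LD3_c58)) = (LP (LK LD1_c4 LD2_c7 LD3_c15)) :=
  Lgr Lrot127 (Lpr_bf (K10.f55809 IH) (Lpn (LP (LK LD1_c4 LD2_c7 LD3_c15))))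
theorem f71513 : Led Lsl_at (LP (LK LD1_c1 LD2_c22 LD3_c56)) = (LP (LK LD1_c2 LD2_c53 LD3_c22)) :=
  Lre_a IH (LK LD1_c1 LD2_c22 LD3_c56) (LK LD1_c2 LD2_c53 LD3_c22) Lrfl Lrfl
theorem f71514 : Led Lsl_bt (LP (LK LD1_c2 LD2_c14 LD3_c59)) = (LP (LK LD1_c1 LD2_c4 LD3_c38)) :=
  Lre_b IH (LK LD1_c2 LD2_c14 LD3_c59) (LK LD1_c1 LD2_c4 LD3_c38) Lrfl Lrfl
theorem f35206 : Led Lsl_at (LP (LK LD1_c4 LD2_c35 LD3_c24)) = (LP (LK LD1_c2 LD2_c14 LD3_c59)) :=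
  Lre_a IH (LK LD1_c4 LD2_c35 LD3_c24) (LK LD1_c2 LD2_c14 LD3_c59) Lrfl Lrfl
theorem f71515 : Led Lsl_bt (LP (LK LD1_c2 LD2_c53 LD3_c22)) = (LP (LK LD1_c4 LD2_c35 LD3_c24)) :=
  Lgr Lrot62 (Lpe (f71513 IH) (Lpe (K38.f71512 IH) (Lpr_af (K2.f71508 IH) (Lpe (f71514 IH) (Lpe (f35206 IH) (Lpn (LP (LK LD1_c4 LD2_c35 LD3_c24))))))))
theorem f239283 : Led Lsl_ct (LP (LK LD1_c9 LD2_c7 LD3_c21)) = (LP (LK LD1_c16 LD2_c59 LD3_c30)) :=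
  Lre_c IH (LK LD1_c9 LD2_c7 LD3_c21) (LK LD1_c16 LD2_c59 LD3_c30) Lrfl Lrfl
theorem f586812 : Led Lsl_gf (LP (LK LD1_c9 LD2_c15 LD3_c7)) = (LP (LK LD1_c16 LD2_c59 LD3_c30)) :=
  Lgr Lrot129 (Lpe (f586798 IH) (Lpr_bt (f586808 IH) (Lpr_gt (K40.f55902 IH) (Lpe (f55817 IH) (Lpr_ct (K38.f55819 IH) (Lpe (K38.f545722 IH) (Lpe (K38.f71800 IH) (Lpr_bt (f71515 IH) (Lpr_gt (K38.f161078 IH) (Lpr_ct (f239283 IH) (Lpn (LP (LK LD1_c16 LD2_c59 LD3_c30)))))))))))))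
theorem f547902 : Led Lsl_at (LP (LK LD1_c9 LD2_c7 LD3_c44)) = (LP (LK LD1_c4 LD2_c39 LD3_c49)) :=
  Lgr Lrot107 (Lpe (K43.f71797 IH) (Lpr_af (K36.f547894 IH) (Lpe (f56199 IH) (Lpn (LP (LK LD1_c4 LD2_c39 LD3_c49))))))
theorem f586814 : Led Lsl_ff (LP (LK LD1_c9 LD2_c7 LD3_c44)) = (LP (LK LD1_c16 LD2_c59 LD3_c30)) :=
  Lgr Lrot52 (Lpr_at (f547902 IH) (Lpe (f56293 IH) (Lpr_gf (f586812 IH) (Lpn (LP (LK LD1_c16 LD2_c59 LD3_c30))))))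
theorem f547838 : Led Lsl_ct (LP (LK LD1_c9 LD2_c7 LD3_c42)) = (LP (LK LD1_c4 LD2_c35 LD3_c37)) :=
  Lre_c IH (LK LD1_c9 LD2_c7 LD3_c42) (LK LD1_c4 LD2_c35 LD3_c37) Lrfl Lrfl
theorem f547884 : Led Lsl_ff (LP (LK LD1_c9 LD2_c7 LD3_c42)) = (LP (LK LD1_c4 LD2_c39 LD3_c49)) :=
  Lgr Lrot23 (Lpr_ct (f547838 IH) (Lpr_ft (K36.f547831 IH) (Lpr_ct (K37.f56241 IH) (Lpn (LP (LK LD1_c4 LD2_c39 LD3_c49))))))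
theorem f586817 : Led Lsl_at (LP (LK LD1_c9 LD2_c7 LD3_c42)) = (LP (LK LD1_c16 LD2_c59 LD3_c30)) :=
  Lgr Lrot66 (Lpr_ff (f547884 IH) (Lpe (f547902 IH) (Lpr_ff (f586814 IH) (Lpn (LP (LK LD1_c16 LD2_c59 LD3_c30))))))
theorem f35201 : Led Lsl_ct (LP (LK LD1_c16 LD2_c59 LD3_c30)) = (LP (LK LD1_c9 LD2_c7 LD3_c21)) :=
  Lre_c IH (LK LD1_c16 LD2_c59 LD3_c30) (LK LD1_c9 LD2_c7 LD3_c21) Lrfl Lrfl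
theorem f586825 : Led Lsl_af (LP (LK LD1_c4 LD2_c35 LD3_c37)) = (LP (LK LD1_c9 LD2_c7 LD3_c21)) :=
  Lgr Lrot68 (Lpr_ct (K43.f165643 IH) (Lpr_at (f586817 IH) (Lpr_ct (f35201 IH) (Lpn (LP (LK LD1_c9 LD2_c7 LD3_c21))))))
theorem f549659 : Led Lsl_et (LP (LK LD1_c4 LD2_c32 LD3_c13)) = (LP (LK LD1_c9 LD2_c2 LD3_c4)) :=
  Lre_e IH (LK LD1_c4 LD2_c32 LD3_c13) (LK LD1_c9 LD2_c2 LD3_c4) Lrfl Lrfl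
theorem f281919 : Led Lsl_dt (LP (LK LD1_c9 LD2_c2 LD3_c4)) = (LP (LK LD1_c16 LD2_c52 LD3_c11)) :=
  Lre_d IH (LK LD1_c9 LD2_c2 LD3_c4) (LK LD1_c16 LD2_c52 LD3_c11) Lrfl Lrfl
theorem f549660 : Led Lsl_et (LP (LK LD1_c16 LD2_c52 LD3_c11)) = (LP (LK LD1_c9 LD2_c7 LD3_c21)) :=
  Lgr Lrot71 (Lpe (f281919 IH) (Lpe (f549659 IH) (Lpr_df (K38.f549655 IH) (Lpe (K38.f549637 IH) (Lpe (K43.f546519 IH) (Lpn (LP (LK LD1_c9 LD2_c7 LD3_c21))))))))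
theorem f586845 : Led Lsl_at (LP (LK LD1_c9 LD2_c7 LD3_c43)) = (LP (LK LD1_c16 LD2_c52 LD3_c11)) :=
  Lgr Lrot80 (Lpe (K40.f547830 IH) (Lpr_af (f586825 IH) (Lpe (f549660 IH) (Lpn (LP (LK LD1_c16 LD2_c52 LD3_c11))))))
theorem f561860 : Led Lsl_dt (LP (LK LD1_c5 LD2_c42 LD3_c49)) = (LP (LK LD1_c9 LD2_c7 LD3_c43)) :=
  Lgr Lrot60 (Lpe (K40.f561836 IH) (Lpr_df (K40.f561851 IH) (Lpe (K40.f561859 IH) (Lpn (LP (LK LD1_c9 LD2_c7 LD3_c43))))))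
theorem f586849 : Led Lsl_dt (LP (LK LD1_c16 LD2_c52 LD3_c11)) = (LP (LK LD1_c9 LD2_c2 LD3_c4)) :=
  Lre_d IH (LK LD1_c16 LD2_c52 LD3_c11) (LK LD1_c9 LD2_c2 LD3_c4) Lrfl Lrfl
theorem f586850 : Led Lsl_af (LP (LK LD1_c5 LD2_c42 LD3_c49)) = (LP (LK LD1_c9 LD2_c2 LD3_c4)) :=
  Lgr Lrot117 (Lpr_dt (f561860 IH) (Lpr_at (f586845 IH) (Lpr_dt (f586849 IH) (Lpn (LP (LK LD1_c9 LD2_c2 LD3_c4))))))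
theorem f561853 : Led Lsl_ft (LP (LK LD1_c5 LD2_c42 LD3_c49)) = (LP (LK LD1_c11 LD2_c15 LD3_c54)) :=
  Lre_f IH (LK LD1_c5 LD2_c42 LD3_c49) (LK LD1_c11 LD2_c15 LD3_c54) Lrfl Lrfl
theorem f586859 : Led Lsl_ft (LP (LK LD1_c16 LD2_c52 LD3_c12)) = (LP (LK LD1_c9 LD2_c2 LD3_c4)) :=
  Lre_f IH (LK LD1_c16 LD2_c52 LD3_c12) (LK LD1_c9 LD2_c2 LD3_c4) Lrfl Lrfl
theorem f586860 : Led Lsl_at (LP (LK LD1_c11 LD2_c15 LD3_c54)) = (LP (LK LD1_c16 LD2_c52 LD3_c12)) :=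
  Lgr Lrot66 (Lpe (f561853 IH) (Lpr_af (f586850 IH) (Lpe (f586859 IH) (Lpn (LP (LK LD1_c16 LD2_c52 LD3_c12))))))
theorem f561798 : Led Lsl_at (LP (LK LD1_c9 LD2_c17 LD3_c17)) = (LP (LK LD1_c17 LD2_c12 LD3_c13)) :=
  Lre_a IH (LK LD1_c9 LD2_c17 LD3_c17) (LK LD1_c17 LD2_c12 LD3_c13) Lrfl Lrfl
theorem f75906 : Led Lsl_bt (LP (LK LD1_c4 LD2_c41 LD3_c0)) = (LP (LK LD1_c9 LD2_c17 LD3_c17)) :=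
  Lre_b IH (LK LD1_c4 LD2_c41 LD3_c0) (LK LD1_c9 LD2_c17 LD3_c17) Lrfl Lrfl
theorem f561799 : Led Lsl_at (LP (LK LD1_c3 LD2_c2 LD3_c42)) = (LP (LK LD1_c4 LD2_c41 LD3_c0)) :=
  Lre_a IH (LK LD1_c3 LD2_c2 LD3_c42) (LK LD1_c4 LD2_c41 LD3_c0) Lrfl Lrfl
theorem f561800 : Led Lsl_at (LP (LK LD1_c11 LD2_c15 LD3_c58)) = (LP (LK LD1_c6 LD2_c12 LD3_c0)) :=
  Lgr Lrot67 (Lpr_bf (K40.f561792 IH) (Lpe (f561798 IH) (Lpe (f75906 IH) (Lpe (f561799 IH) (Lpe (K40.f22919 IH) (Lpn (LP (LK LD1_c6 LD2_c12 LD3_c0))))))))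
theorem f586867 : Led Lsl_ef (LP (LK LD1_c11 LD2_c15 LD3_c58)) = (LP (LK LD1_c16 LD2_c52 LD3_c12)) :=
  Lgr Lrot20 (Lpr_at (f561800 IH) (Lpe (K40.f561837 IH) (Lpr_at (f586860 IH) (Lpn (LP (LK LD1_c16 LD2_c52 LD3_c12))))))
theorem f586875 : Led Lsl_et (LP (LK LD1_c11 LD2_c15 LD3_c58)) = (LP (LK LD1_c16 LD2_c52 LD3_c12)) :=
  Lgr Lrot87 (Lpr_ef (f586867 IH) (Lpn (LP (LK LD1_c16 LD2_c52 LD3_c12))))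
theorem f561809 : Led Lsl_ct (LP (LK LD1_c20 LD2_c11 LD3_c46)) = (LP (LK LD1_c11 LD2_c15 LD3_c58)) :=
  Lre_c IH (LK LD1_c20 LD2_c11 LD3_c46) (LK LD1_c11 LD2_c15 LD3_c58) Lrfl Lrfl
theorem f586864 : Led Lsl_ct (LP (LK LD1_c16 LD2_c52 LD3_c12)) = (LP (LK LD1_c26 LD2_c49 LD3_c14)) :=
  Lre_c IH (LK LD1_c16 LD2_c52 LD3_c12) (LK LD1_c26 LD2_c49 LD3_c14) Lrfl Lrfl
theorem f586878 : Led Lsl_ef (LP (LK LD1_c20 LD2_c11 LD3_c46)) = (LP (LK LD1_c26 LD2_c49 LD3_c14)) :=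
  Lgr Lrot28 (Lpr_ct (f561809 IH) (Lpr_et (f586875 IH) (Lpr_ct (f586864 IH) (Lpn (LP (LK LD1_c26 LD2_c49 LD3_c14))))))
theorem f586880 : Led Lsl_ft (LP (LK LD1_c20 LD2_c11 LD3_c46)) = (LP (LK LD1_c11 LD2_c15 LD3_c57)) :=
  Lre_f IH (LK LD1_c20 LD2_c11 LD3_c46) (LK LD1_c11 LD2_c15 LD3_c57) Lrfl Lrfl
theorem f423989 : Led Lsl_et (LP (LK LD1_c11 LD2_c15 LD3_c57)) = (LP (LK LD1_c5 LD2_c42 LD3_c51)) :=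
  Lre_e IH (LK LD1_c11 LD2_c15 LD3_c57) (LK LD1_c5 LD2_c42 LD3_c51) Lrfl Lrfl
theorem f586881 : Led Lsl_ft (LP (LK LD1_c16 LD2_c52 LD3_c9)) = (LP (LK LD1_c26 LD2_c49 LD3_c14)) :=
  Lre_f IH (LK LD1_c16 LD2_c52 LD3_c9) (LK LD1_c26 LD2_c49 LD3_c14) Lrfl Lrfl
theorem f586882 : Led Lsl_et (LP (LK LD1_c9 LD2_c2 LD3_c3)) = (LP (LK LD1_c16 LD2_c52 LD3_c9)) :=
  Lre_e IH (LK LD1_c9 LD2_c2 LD3_c3) (LK LD1_c16 LD2_c52 LD3_c9) Lrfl Lrfl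
theorem f586883 : Led Lsl_ft (LP (LK LD1_c5 LD2_c42 LD3_c51)) = (LP (LK LD1_c9 LD2_c2 LD3_c3)) :=
  Lgr Lrot86 (Lpe (f423989 IH) (Lpe (f586880 IH) (Lpr_ef (f586878 IH) (Lpe (f586881 IH) (Lpe (f586882 IH) (Lpn (LP (LK LD1_c9 LD2_c2 LD3_c3))))))))
theorem f586891 : Led Lsl_af (LP (LK LD1_c5 LD2_c42 LD3_c48)) = (LP (LK LD1_c9 LD2_c2 LD3_c3)) :=
  Lgr Lrot31 (Lpe (K40.f280307 IH) (Lpr_gf (K41.f424060 IH) (Lpr_ft (f586883 IH) (Lpn (LP (LK LD1_c9 LD2_c2 LD3_c3))))))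
theorem f281916 : Led Lsl_dt (LP (LK LD1_c16 LD2_c52 LD3_c8)) = (LP (LK LD1_c9 LD2_c2 LD3_c3)) :=
  Lre_d IH (LK LD1_c16 LD2_c52 LD3_c8) (LK LD1_c9 LD2_c2 LD3_c3) Lrfl Lrfl
theorem f586898 : Led Lsl_at (LP (LK LD1_c11 LD2_c15 LD3_c51)) = (LP (LK LD1_c16 LD2_c52 LD3_c8)) :=
  Lgr Lrot51 (Lpe (K40.f402622 IH) (Lpr_af (f586891 IH) (Lpe (f281916 IH) (Lpn (LP (LK LD1_c16 LD2_c52 LD3_c8))))))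
theorem f561937 : Led Lsl_ft (LP (LK LD1_c11 LD2_c23 LD3_c51)) = (LP (LK LD1_c11 LD2_c15 LD3_c51)) :=
  Lgr Lrot48 (Lpr_ff (K40.f561929 IH) (Lpn (LP (LK LD1_c11 LD2_c15 LD3_c51))))
theorem f281915 : Led Lsl_ct (LP (LK LD1_c4 LD2_c32 LD3_c13)) = (LP (LK LD1_c9 LD2_c2 LD3_c3)) :=
  Lre_c IH (LK LD1_c4 LD2_c32 LD3_c13) (LK LD1_c9 LD2_c2 LD3_c3) Lrfl Lrfl
theorem f547727 : Led Lsl_df (LP (LK LD1_c2 LD2_c49 LD3_c8)) = (LP (LK LD1_c4 LD2_c33 LD3_c26)) :=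
  Lgr Lrot84 (Lpr_cf (K38.f547713 IH) (Lpe (K31.f385378 IH) (Lpe (K31.f411699 IH) (Lpe (K31.f172851 IH) (Lpe (K31.f172463 IH) (Lpe (K16.f172462 IH) (Lpr_gt (K31.f172438 IH) (Lpr_dt (K31.f172844 IH) (Lpr_gt (K39.f422916 IH) (Lpn (LP (LK LD1_c4 LD2_c33 LD3_c26))))))))))))
theorem f422921 : Led Lsl_gt (LP (LK LD1_c5 LD2_c42 LD3_c28)) = (LP (LK LD1_c11 LD2_c15 LD3_c7)) :=
  Lre_g IH (LK LD1_c5 LD2_c42 LD3_c28) (LK LD1_c11 LD2_c15 LD3_c7) Lrfl Lrfl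
theorem f422931 : Led Lsl_dt (LP (LK LD1_c11 LD2_c15 LD3_c7)) = (LP (LK LD1_c20 LD2_c10 LD3_c4)) :=
  Lre_d IH (LK LD1_c11 LD2_c15 LD3_c7) (LK LD1_c20 LD2_c10 LD3_c4) Lrfl Lrfl
theorem f549662 : Led Lsl_gf (LP (LK LD1_c16 LD2_c52 LD3_c8)) = (LP (LK LD1_c20 LD2_c10 LD3_c4)) :=
  Lgr Lrot143 (Lpr_dt (f281916 IH) (Lpe (f281915 IH) (Lpr_df (K38.f549655 IH) (Lpe (K38.f549649 IH) (Lpr_df (f547727 IH) (Lpe (K39.f422916 IH) (Lpe (K31.f271572 IH) (Lpr_gt (f422921 IH) (Lpr_dt (f422931 IH) (Lpn (LP (LK LD1_c20 LD2_c10 LD3_c4))))))))))))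
theorem f586990 : Led Lsl_gt (LP (LK LD1_c11 LD2_c23 LD3_c51)) = (LP (LK LD1_c20 LD2_c10 LD3_c4)) :=
  Lgr Lrot5 (Lpr_ft (f561937 IH) (Lpr_at (f586898 IH) (Lpr_gf (f549662 IH) (Lpn (LP (LK LD1_c20 LD2_c10 LD3_c4))))))
theorem f418413 : Led Lsl_dt (LP (LK LD1_c16 LD2_c21 LD3_c61)) = (LP (LK LD1_c26 LD2_c19 LD3_c61)) :=
  Lre_d IH (LK LD1_c16 LD2_c21 LD3_c61) (LK LD1_c26 LD2_c19 LD3_c61) Lrfl Lrfl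
theorem f586996 : Led Lsl_cf (LP (LK LD1_c26 LD2_c19 LD3_c61)) = (LP (LK LD1_c20 LD2_c10 LD3_c4)) :=
  Lgr Lrot99 (Lpe (f418413 IH) (Lpe (K41.f39307 IH) (Lpr_gf (K44.f566708 IH) (Lpe (K31.f172534 IH) (Lpr_gf (K31.f411695 IH) (Lpr_df (K30.f385394 IH) (Lpr_gt (K39.f385397 IH) (Lpr_ct (K40.f561306 IH) (Lpr_gt (f586990 IH) (Lpn (LP (LK LD1_c20 LD2_c10 LD3_c4))))))))))))
theorem f542261 : Led Lsl_gf (LP (LK LD1_c16 LD2_c51 LD3_c57)) = (LP (LK LD1_c20 LD2_c21 LD3_c41)) :=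
  Lgr Lrot147 (Lpr_ct (K31.f407044 IH) (Lpr_gt (K31.f398601 IH) (Lpe (K31.f280382 IH) (Lpe (K16.f280398 IH) (Lpe (K16.f268844 IH) (Lpr_gf (K37.f542254 IH) (Lpe (K40.f73036 IH) (Lpe (K41.f73117 IH) (Lpe (K41.f542260 IH) (Lpn (LP (LK LD1_c20 LD2_c21 LD3_c41))))))))))))
theorem f542265 : Led Lsl_gt (LP (LK LD1_c9 LD2_c2 LD3_c3)) = (LP (LK LD1_c11 LD2_c23 LD3_c49)) :=
  Lgr Lrot94 (Lpe (f281915 IH) (Lpr_gt (K38.f174454 IH) (Lpr_dt (K31.f181741 IH) (Lpr_gt (K31.f173368 IH) (Lpr_dt (K31.f173369 IH) (Lpe (K40.f398566 IH) (Lpe (K31.f398567 IH) (Lpr_gf (f542261 IH) (Lpe (K41.f542263 IH) (Lpn (LP (LK LD1_c11 LD2_c23 LD3_c49))))))))))))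
theorem f280490 : Led Lsl_dt (LP (LK LD1_c20 LD2_c10 LD3_c59)) = (LP (LK LD1_c11 LD2_c15 LD3_c37)) :=
  Lre_d IH (LK LD1_c20 LD2_c10 LD3_c59) (LK LD1_c11 LD2_c15 LD3_c37) Lrfl Lrfl
theorem f587004 : Led Lsl_gt (LP (LK LD1_c26 LD2_c19 LD3_c61)) = (LP (LK LD1_c20 LD2_c10 LD3_c59)) :=
  Lgr Lrot94 (Lpr_cf (f586996 IH) (Lpe (f549662 IH) (Lpr_dt (f281916 IH) (Lpr_gt (f542265 IH) (Lpr_dt (K41.f542263 IH) (Lpe (K41.f566661 IH) (Lpr_df (K41.f424347 IH) (Lpe (K41.f424349 IH) (Lpe (f280490 IH) (Lpn (LP (LK LD1_c20 LD2_c10 LD3_c59))))))))))))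
theorem f542283 : Led Lsl_cf (LP (LK LD1_c7 LD2_c59 LD3_c22)) = (LP (LK LD1_c11 LD2_c23 LD3_c48)) :=
  Lgr Lrot99 (Lpe (K41.f382087 IH) (Lpe (K39.f382089 IH) (Lpr_gf (K36.f422816 IH) (Lpe (K31.f181777 IH) (Lpe (K31.f173368 IH) (Lpe (K31.f181741 IH) (Lpr_gt (K37.f542256 IH) (Lpr_ct (K40.f68607 IH) (Lpr_gt (K41.f68608 IH) (Lpn (LP (LK LD1_c11 LD2_c23 LD3_c48))))))))))))
theorem f281940 : Led Lsl_dt (LP (LK LD1_c11 LD2_c15 LD3_c60)) = (LP (LK LD1_c5 LD2_c42 LD3_c53)) :=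
  Lre_d IH (LK LD1_c11 LD2_c15 LD3_c60) (LK LD1_c5 LD2_c42 LD3_c53) Lrfl Lrfl
theorem f587008 : Led Lsl_ct (LP (LK LD1_c20 LD2_c10 LD3_c59)) = (LP (LK LD1_c11 LD2_c15 LD3_c60)) :=
  Lgr Lrot110 (Lpe (f587004 IH) (Lpr_cf (f586996 IH) (Lpe (f586990 IH) (Lpe (K40.f73064 IH) (Lpr_gt (K41.f68608 IH) (Lpe (f542283 IH) (Lpe (K41.f566614 IH) (Lpr_ct (K41.f566600 IH) (Lpe (f281940 IH) (Lpn (LP (LK LD1_c11 LD2_c15 LD3_c60))))))))))))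
theorem f280489 : Led Lsl_dt (LP (LK LD1_c11 LD2_c15 LD3_c37)) = (LP (LK LD1_c20 LD2_c10 LD3_c59)) :=
  Lre_d IH (LK LD1_c11 LD2_c15 LD3_c37) (LK LD1_c20 LD2_c10 LD3_c59) Lrfl Lrfl
theorem f552650 : Led Lsl_df (LP (LK LD1_c4 LD2_c31 LD3_c40)) = (LP (LK LD1_c5 LD2_c40 LD3_c23)) :=
  Lgr Lrot38 (Lpr_dt (K39.f552611 IH) (Lpn (LP (LK LD1_c5 LD2_c40 LD3_c23))))
theorem f281950 : Led Lsl_dt (LP (LK LD1_c11 LD2_c16 LD3_c1)) = (LP (LK LD1_c5 LD2_c42 LD3_c54)) :=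
  Lre_d IH (LK LD1_c11 LD2_c16 LD3_c1) (LK LD1_c5 LD2_c42 LD3_c54) Lrfl Lrfl
theorem f587017 : Led Lsl_at (LP (LK LD1_c11 LD2_c21 LD3_c21)) = (LP (LK LD1_c11 LD2_c15 LD3_c60)) :=
  Lgr Lrot33 (Lpe (K43.f579271 IH) (Lpr_dt (f281950 IH) (Lpr_ct (K39.f418625 IH) (Lpe (f552650 IH) (Lpr_ct (K38.f178957 IH) (Lpr_dt (K38.f549525 IH) (Lpr_ct (K41.f280488 IH) (Lpr_dt (f280489 IH) (Lpr_ct (f587008 IH) (Lpn (LP (LK LD1_c11 LD2_c15 LD3_c60))))))))))))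
theorem f385514 : Led Lsl_et (LP (LK LD1_c20 LD2_c19 LD3_c4)) = (LP (LK LD1_c11 LD2_c21 LD3_c21)) :=
  Lre_e IH (LK LD1_c20 LD2_c19 LD3_c4) (LK LD1_c11 LD2_c21 LD3_c21) Lrfl Lrfl
theorem f281943 : Led Lsl_et (LP (LK LD1_c11 LD2_c15 LD3_c60)) = (LP (LK LD1_c20 LD2_c11 LD3_c49)) :=
  Lre_e IH (LK LD1_c11 LD2_c15 LD3_c60) (LK LD1_c20 LD2_c11 LD3_c49) Lrfl Lrfl
theorem f587024 : Led Lsl_af (LP (LK LD1_c20 LD2_c19 LD3_c4)) = (LP (LK LD1_c20 LD2_c11 LD3_c49)) :=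
  Lgr Lrot50 (Lpr_et (f385514 IH) (Lpr_at (f587017 IH) (Lpr_et (f281943 IH) (Lpn (LP (LK LD1_c20 LD2_c11 LD3_c49))))))
theorem f587026 : Led Lsl_at (LP (LK LD1_c20 LD2_c19 LD3_c4)) = (LP (LK LD1_c20 LD2_c11 LD3_c49)) :=
  Lgr Lrot100 (Lpr_af (f587024 IH) (Lpn (LP (LK LD1_c20 LD2_c11 LD3_c49))))
theorem f587032 : Led Lsl_ct (LP (LK LD1_c29 LD2_c24 LD3_c22)) = (LP (LK LD1_c20 LD2_c19 LD3_c4)) :=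
  Lre_c IH (LK LD1_c29 LD2_c24 LD3_c22) (LK LD1_c20 LD2_c19 LD3_c4) Lrfl Lrfl
theorem f587014 : Led Lsl_et (LP (LK LD1_c29 LD2_c20 LD3_c40)) = (LP (LK LD1_c20 LD2_c10 LD3_c59)) :=
  Lre_e IH (LK LD1_c29 LD2_c20 LD3_c40) (LK LD1_c20 LD2_c10 LD3_c59) Lrfl Lrfl
theorem f587015 : Led Lsl_cf (LP (LK LD1_c29 LD2_c20 LD3_c40)) = (LP (LK LD1_c20 LD2_c11 LD3_c49)) :=
  Lgr Lrot39 (Lpr_et (f587014 IH) (Lpr_ct (f587008 IH) (Lpr_et (f281943 IH) (Lpn (LP (LK LD1_c20 LD2_c11 LD3_c49))))))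
theorem f587045 : Led Lsl_af (LP (LK LD1_c29 LD2_c24 LD3_c22)) = (LP (LK LD1_c29 LD2_c20 LD3_c40)) :=
  Lgr Lrot68 (Lpr_ct (f587032 IH) (Lpr_at (f587026 IH) (Lpe (f587015 IH) (Lpn (LP (LK LD1_c29 LD2_c20 LD3_c40))))))
theorem f411717 : Led Lsl_et (LP (LK LD1_c29 LD2_c24 LD3_c22)) = (LP (LK LD1_c20 LD2_c19 LD3_c3)) :=
  Lre_e IH (LK LD1_c29 LD2_c24 LD3_c22) (LK LD1_c20 LD2_c19 LD3_c3) Lrfl Lrfl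
theorem f424352 : Led Lsl_et (LP (LK LD1_c20 LD2_c10 LD3_c59)) = (LP (LK LD1_c29 LD2_c20 LD3_c40)) :=
  Lre_e IH (LK LD1_c20 LD2_c10 LD3_c59) (LK LD1_c29 LD2_c20 LD3_c40) Lrfl Lrfl
theorem f587054 : Led Lsl_at (LP (LK LD1_c20 LD2_c19 LD3_c3)) = (LP (LK LD1_c20 LD2_c10 LD3_c59)) :=
  Lgr Lrot80 (Lpe (f411717 IH) (Lpr_af (f587045 IH) (Lpe (f424352 IH) (Lpn (LP (LK LD1_c20 LD2_c10 LD3_c59))))))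
theorem f423771 : Led Lsl_cf (LP (LK LD1_c11 LD2_c16 LD3_c3)) = (LP (LK LD1_c20 LD2_c10 LD3_c45)) :=
  Lgr Lrot1 (Lpe (K31.f418945 IH) (Lpe (K31.f398588 IH) (Lpr_at (K31.f423757 IH) (Lpn (LP (LK LD1_c20 LD2_c10 LD3_c45))))))
theorem f281949 : Led Lsl_dt (LP (LK LD1_c5 LD2_c42 LD3_c54)) = (LP (LK LD1_c11 LD2_c16 LD3_c1)) :=
  Lre_d IH (LK LD1_c5 LD2_c42 LD3_c54) (LK LD1_c11 LD2_c16 LD3_c1) Lrfl Lrfl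
theorem f424353 : Led Lsl_dt (LP (LK LD1_c11 LD2_c15 LD3_c35)) = (LP (LK LD1_c20 LD2_c10 LD3_c53)) :=
  Lre_d IH (LK LD1_c11 LD2_c15 LD3_c35) (LK LD1_c20 LD2_c10 LD3_c53) Lrfl Lrfl
theorem f424354 : Led Lsl_ct (LP (LK LD1_c11 LD2_c16 LD3_c1)) = (LP (LK LD1_c20 LD2_c10 LD3_c53)) :=
  Lgr Lrot7 (Lpe (f281949 IH) (Lpr_gf (K39.f281947 IH) (Lpe (K16.f181774 IH) (Lpe (K31.f281976 IH) (Lpr_cf (f423771 IH) (Lpe (K41.f424222 IH) (Lpr_dt (K41.f424345 IH) (Lpr_gt (K41.f418020 IH) (Lpr_dt (f424353 IH) (Lpn (LP (LK LD1_c20 LD2_c10 LD3_c53))))))))))))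
theorem f579278 : Led Lsl_ft (LP (LK LD1_c20 LD2_c10 LD3_c53)) = (LP (LK LD1_c20 LD2_c19 LD3_c3)) :=
  Lgr Lrot4 (Lpe (f424354 IH) (Lpr_ff (K43.f579276 IH) (Lpe (K39.f385398 IH) (Lpn (LP (LK LD1_c20 LD2_c19 LD3_c3))))))
theorem f587058 : Led Lsl_gt (LP (LK LD1_c20 LD2_c10 LD3_c53)) = (LP (LK LD1_c26 LD2_c19 LD3_c61)) :=
  Lgr Lrot5 (Lpr_ft (f579278 IH) (Lpr_at (f587054 IH) (Lpe (f587004 IH) (Lpn (LP (LK LD1_c26 LD2_c19 LD3_c61))))))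
theorem f174452 : Led Lsl_dt (LP (LK LD1_c26 LD2_c19 LD3_c61)) = (LP (LK LD1_c16 LD2_c21 LD3_c61)) :=
  Lre_d IH (LK LD1_c26 LD2_c19 LD3_c61) (LK LD1_c16 LD2_c21 LD3_c61) Lrfl Lrfl
theorem f419025 : Led Lsl_dt (LP (LK LD1_c9 LD2_c45 LD3_c4)) = (LP (LK LD1_c4 LD2_c56 LD3_c58)) :=
  Lre_d IH (LK LD1_c9 LD2_c45 LD3_c4) (LK LD1_c4 LD2_c56 LD3_c58) Lrfl Lrfl
theorem f587062 : Led Lsl_gt (LP (LK LD1_c11 LD2_c23 LD3_c11)) = (LP (LK LD1_c9 LD2_c45 LD3_c4)) :=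
  Lgr Lrot94 (Lpr_cf (K41.f552659 IH) (Lpr_gt (K41.f418020 IH) (Lpr_dt (f424353 IH) (Lpr_gt (f587058 IH) (Lpr_dt (f174452 IH) (Lpe (K41.f39307 IH) (Lpe (K39.f551844 IH) (Lpr_gf (K40.f561695 IH) (Lpe (f419025 IH) (Lpn (LP (LK LD1_c9 LD2_c45 LD3_c4))))))))))))
theorem f419027 : Led Lsl_dt (LP (LK LD1_c4 LD2_c56 LD3_c58)) = (LP (LK LD1_c9 LD2_c45 LD3_c4)) :=
  Lre_d IH (LK LD1_c4 LD2_c56 LD3_c58) (LK LD1_c9 LD2_c45 LD3_c4) Lrfl Lrfl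
theorem f549643 : Led Lsl_ef (LP (LK LD1_c8 LD2_c25 LD3_c52)) = (LP (LK LD1_c4 LD2_c56 LD3_c58)) :=
  Lgr Lrot28 (Lpr_ct (K28.f56228 IH) (Lpr_et (K38.f549637 IH) (Lpr_ct (K40.f168263 IH) (Lpn (LP (LK LD1_c4 LD2_c56 LD3_c58))))))
theorem f46864 : Led Lsl_dt (LP (LK LD1_c4 LD2_c13 LD3_c29)) = (LP (LK LD1_c8 LD2_c25 LD3_c56)) :=
  Lre_d IH (LK LD1_c4 LD2_c13 LD3_c29) (LK LD1_c8 LD2_c25 LD3_c56) Lrfl Lrfl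
theorem f587076 : Led Lsl_gf (LP (LK LD1_c9 LD2_c7 LD3_c37)) = (LP (LK LD1_c8 LD2_c25 LD3_c56)) :=
  Lgr Lrot134 (Lpe (K43.f35215 IH) (Lpe (K41.f567110 IH) (Lpr_gt (K43.f568448 IH) (Lpe (K43.f579626 IH) (Lpe (K41.f552654 IH) (Lpr_gt (f587062 IH) (Lpe (f419027 IH) (Lpe (f549643 IH) (Lpr_gt (K43.f46863 IH) (Lpr_dt (f46864 IH) (Lpn (LP (LK LD1_c8 LD2_c25 LD3_c56)))))))))))))
theorem f424979 : Led Lsl_af (LP (LK LD1_c14 LD2_c12 LD3_c29)) = (LP (LK LD1_c11 LD2_c40 LD3_c38)) :=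
  Lgr Lrot68 (Lpr_ct (K37.f93542 IH) (Lpe (K8.f162656 IH) (Lpr_ct (K37.f162973 IH) (Lpn (LP (LK LD1_c11 LD2_c40 LD3_c38))))))
theorem f563878 : Led Lsl_df (LP (LK LD1_c7 LD2_c14 LD3_c2)) = (LP (LK LD1_c4 LD2_c41 LD3_c25)) :=
  Lgr Lrot13 (Lpe (K6.f96471 IH) (Lpr_dt (K8.f162652 IH) (Lpr_ct (K37.f93541 IH) (Lpr_af (f424979 IH) (Lpe (K8.f162975 IH) (Lpr_dt (K40.f563869 IH) (Lpr_ct (K40.f538128 IH) (Lpr_dt (K42.f26926 IH) (Lpr_ct (K42.f272493 IH) (Lpn (LP (LK LD1_c4 LD2_c41 LD3_c25))))))))))))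
theorem f272502 : Led Lsl_et (LP (LK LD1_c4 LD2_c41 LD3_c25)) = (LP (LK LD1_c9 LD2_c17 LD3_c49)) :=
  Lre_e IH (LK LD1_c4 LD2_c41 LD3_c25) (LK LD1_c9 LD2_c17 LD3_c49) Lrfl Lrfl
theorem f575800 : Led Lsl_et (LP (LK LD1_c4 LD2_c13 LD3_c29)) = (LP (LK LD1_c8 LD2_c25 LD3_c57)) :=
  Lre_e IH (LK LD1_c4 LD2_c13 LD3_c29) (LK LD1_c8 LD2_c25 LD3_c57) Lrfl Lrfl
theorem f587085 : Led Lsl_gt (LP (LK LD1_c9 LD2_c17 LD3_c49)) = (LP (LK LD1_c8 LD2_c25 LD3_c57)) :=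
  Lgr Lrot131 (Lpe (f272502 IH) (Lpe (f563878 IH) (Lpe (K37.f157346 IH) (Lpe (K43.f145200 IH) (Lpe (K43.f568448 IH) (Lpr_ef (K41.f567110 IH) (Lpr_dt (K43.f35215 IH) (Lpr_gf (f587076 IH) (Lpe (f46864 IH) (Lpr_et (f575800 IH) (Lpn (LP (LK LD1_c8 LD2_c25 LD3_c57)))))))))))))
theorem f24484 : Led Lsl_gt (LP (LK LD1_c11 LD2_c32 LD3_c34)) = (LP (LK LD1_c5 LD2_c53 LD3_c15)) :=
  Lre_g IH (LK LD1_c11 LD2_c32 LD3_c34) (LK LD1_c5 LD2_c53 LD3_c15) Lrfl Lrfl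
theorem f56319 : Led Lsl_et (LP (LK LD1_c8 LD2_c25 LD3_c57)) = (LP (LK LD1_c4 LD2_c13 LD3_c29)) :=
  Lre_e IH (LK LD1_c8 LD2_c25 LD3_c57) (LK LD1_c4 LD2_c13 LD3_c29) Lrfl Lrfl
theorem f587073 : Led Lsl_df (LP (LK LD1_c11 LD2_c32 LD3_c34)) = (LP (LK LD1_c8 LD2_c25 LD3_c57)) :=
  Lgr Lrot170 (Lpr_gt (f24484 IH) (Lpe (K43.f449860 IH) (Lpe (K36.f538888 IH) (Lpe (K36.f422816 IH) (Lpe (K41.f552654 IH) (Lpr_gt (f587062 IH) (Lpe (f419027 IH) (Lpe (f549643 IH) (Lpr_gt (K43.f46863 IH) (Lpe (f56319 IH) (Lpn (LP (LK LD1_c8 LD2_c25 LD3_c57)))))))))))))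
theorem f587093 : Led Lsl_et (LP (LK LD1_c13 LD2_c27 LD3_c51)) = (LP (LK LD1_c7 LD2_c59 LD3_c21)) :=
  Lgr Lrot122 (Lpr_dt (K43.f145200 IH) (Lpr_gt (K37.f157346 IH) (Lpr_df (f563878 IH) (Lpr_et (f272502 IH) (Lpr_gt (f587085 IH) (Lpe (f587073 IH) (Lpr_gt (f24484 IH) (Lpe (K43.f449860 IH) (Lpe (K36.f538888 IH) (Lpe (K36.f422816 IH) (Lpn (LP (LK LD1_c7 LD2_c59 LD3_c21)))))))))))))
theorem f579335 : Led Lsl_ft (LP (LK LD1_c7 LD2_c59 LD3_c21)) = (LP (LK LD1_c4 LD2_c23 LD3_c21)) :=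
  Lgr Lrot4 (Lpe (K36.f382088 IH) (Lpe (K43.f566675 IH) (Lpr_cf (K43.f579329 IH) (Lpn (LP (LK LD1_c4 LD2_c23 LD3_c21))))))
theorem f587099 : Led Lsl_ft (LP (LK LD1_c2 LD2_c9 LD3_c6)) = (LP (LK LD1_c4 LD2_c23 LD3_c22)) :=
  Lre_f IH (LK LD1_c2 LD2_c9 LD3_c6) (LK LD1_c4 LD2_c23 LD3_c22) Lrfl Lrfl
theorem f582551 : Led Lsl_et (LP (LK LD1_c4 LD2_c23 LD3_c22)) = (LP (LK LD1_c8 LD2_c44 LD3_c24)) :=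
  Lre_e IH (LK LD1_c4 LD2_c23 LD3_c22) (LK LD1_c8 LD2_c44 LD3_c24) Lrfl Lrfl
theorem f587100 : Led Lsl_ff (LP (LK LD1_c13 LD2_c27 LD3_c51)) = (LP (LK LD1_c8 LD2_c44 LD3_c24)) :=
  Lgr Lrot72 (Lpr_et (f587093 IH) (Lpr_ft (f579335 IH) (Lpr_et (K39.f80169 IH) (Lpr_ft (f587099 IH) (Lpr_et (f582551 IH) (Lpn (LP (LK LD1_c8 LD2_c44 LD3_c24))))))))
theorem f582557 : Led Lsl_gf (LP (LK LD1_c5 LD2_c42 LD3_c61)) = (LP (LK LD1_c8 LD2_c44 LD3_c24)) :=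
  Lgr Lrot147 (Lpr_ct (K44.f172841 IH) (Lpr_gt (K41.f172730 IH) (Lpr_ct (K38.f172696 IH) (Lpe (K42.f552857 IH) (Lpe (K5.f104067 IH) (Lpr_gf (K5.f127866 IH) (Lpe (K3.f96771 IH) (Lpe (K8.f145120 IH) (Lpr_df (K44.f582542 IH) (Lpn (LP (LK LD1_c8 LD2_c44 LD3_c24))))))))))))
theorem f94805 : Led Lsl_dt (LP (LK LD1_c3 LD2_c30 LD3_c3)) = (LP (LK LD1_c3 LD2_c27 LD3_c16)) :=
  Lgr Lrot79 (Lpe (K4.f94804 IH) (Lpr_df (K2.f94781 IH) (Lpe (K4.f15617 IH) (Lpn (LP (LK LD1_c3 LD2_c27 LD3_c16))))))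
theorem f582154 : Led Lsl_gf (LP (LK LD1_c8 LD2_c44 LD3_c26)) = (LP (LK LD1_c5 LD2_c42 LD3_c61)) :=
  Lgr Lrot143 (Lpe (K44.f567255 IH) (Lpe (K6.f107306 IH) (Lpr_df (K36.f136506 IH) (Lpe (K42.f136849 IH) (Lpe (f94805 IH) (Lpe (K24.f94906 IH) (Lpe (K24.f116642 IH) (Lpe (K24.f151506 IH) (Lpr_dt (K44.f582140 IH) (Lpn (LP (LK LD1_c5 LD2_c42 LD3_c61))))))))))))
theorem f587102 : Led Lsl_at (LP (LK LD1_c13 LD2_c27 LD3_c51)) = (LP (LK LD1_c8 LD2_c44 LD3_c26)) :=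
  Lgr Lrot26 (Lpr_ff (f587100 IH) (Lpe (f582557 IH) (Lpe (f582154 IH) (Lpn (LP (LK LD1_c8 LD2_c44 LD3_c26))))))
theorem f582544 : Led Lsl_at (LP (LK LD1_c4 LD2_c23 LD3_c26)) = (LP (LK LD1_c8 LD2_c44 LD3_c24)) :=
  Lre_a IH (LK LD1_c4 LD2_c23 LD3_c26) (LK LD1_c8 LD2_c44 LD3_c24) Lrfl Lrfl
theorem f587106 : Led Lsl_ff (LP (LK LD1_c4 LD2_c23 LD3_c26)) = (LP (LK LD1_c8 LD2_c44 LD3_c26)) :=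
  Lgr Lrot30 (Lpr_at (f582544 IH) (Lpe (f587100 IH) (Lpr_at (f587102 IH) (Lpn (LP (LK LD1_c8 LD2_c44 LD3_c26))))))
theorem f587110 : Led Lsl_ft (LP (LK LD1_c4 LD2_c23 LD3_c26)) = (LP (LK LD1_c8 LD2_c44 LD3_c26)) :=
  Lgr Lrot48 (Lpr_ff (f587106 IH) (Lpn (LP (LK LD1_c8 LD2_c44 LD3_c26))))
theorem f587112 : Led Lsl_ff (LP (LK LD1_c8 LD2_c44 LD3_c28)) = (LP (LK LD1_c12 LD2_c23 LD3_c45)) :=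
  Lgr Lrot23 (Lpr_ct (K43.f567258 IH) (Lpr_ft (f587110 IH) (Lpe (K42.f567565 IH) (Lpn (LP (LK LD1_c12 LD2_c23 LD3_c45))))))
theorem f587114 : Led Lsl_at (LP (LK LD1_c8 LD2_c44 LD3_c28)) = (LP (LK LD1_c10 LD2_c18 LD3_c11)) :=
  Lgr Lrot66 (Lpr_ff (f587112 IH) (Lpe (K42.f571823 IH) (Lpr_ff (K42.f571832 IH) (Lpn (LP (LK LD1_c10 LD2_c18 LD3_c11))))))
theorem f582549 : Led Lsl_dt (LP (LK LD1_c6 LD2_c55 LD3_c55)) = (LP (LK LD1_c8 LD2_c44 LD3_c24)) :=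
  Lgr Lrot42 (Lpr_df (K44.f582542 IH) (Lpn (LP (LK LD1_c8 LD2_c44 LD3_c24))))
theorem f587116 : Led Lsl_cf (LP (LK LD1_c10 LD2_c18 LD3_c11)) = (LP (LK LD1_c8 LD2_c44 LD3_c24)) :=
  Lgr Lrot102 (Lpe (f587114 IH) (Lpr_ff (f587112 IH) (Lpr_dt (K42.f569031 IH) (Lpr_ct (K40.f210794 IH) (Lpr_dt (K40.f563848 IH) (Lpr_ct (K40.f501578 IH) (Lpr_dt (K36.f428970 IH) (Lpr_ct (K3.f89713 IH) (Lpr_dt (f582549 IH) (Lpn (LP (LK LD1_c8 LD2_c44 LD3_c24))))))))))))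
theorem f582534 : Led Lsl_ct (LP (LK LD1_c8 LD2_c44 LD3_c21)) = (LP (LK LD1_c4 LD2_c23 LD3_c22)) :=
  Lre_c IH (LK LD1_c8 LD2_c44 LD3_c21) (LK LD1_c4 LD2_c23 LD3_c22) Lrfl Lrfl
theorem f587118 : Led Lsl_et (LP (LK LD1_c10 LD2_c18 LD3_c11)) = (LP (LK LD1_c8 LD2_c44 LD3_c21)) :=
  Lgr Lrot158 (Lpr_cf (f587116 IH) (Lpe (f582551 IH) (Lpe (f582534 IH) (Lpn (LP (LK LD1_c8 LD2_c44 LD3_c21))))))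
theorem f581397 : Led Lsl_ft (LP (LK LD1_c11 LD2_c8 LD3_c0)) = (LP (LK LD1_c15 LD2_c26 LD3_c31)) :=
  Lgr Lrot75 (Lpr_bf (K43.f578845 IH) (Lpe (K44.f580533 IH) (Lpr_bf (K44.f581376 IH) (Lpn (LP (LK LD1_c15 LD2_c26 LD3_c31))))))
theorem f580523 : Led Lsl_ef (LP (LK LD1_c11 LD2_c25 LD3_c11)) = (LP (LK LD1_c20 LD2_c0 LD3_c36)) :=
  Lgr Lrot88 (Lpr_et (K44.f580517 IH) (Lpn (LP (LK LD1_c20 LD2_c0 LD3_c36))))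
theorem f496078 : Led Lsl_at (LP (LK LD1_c5 LD2_c48 LD3_c38)) = (LP (LK LD1_c2 LD2_c50 LD3_c22)) :=
  Lre_a IH (LK LD1_c5 LD2_c48 LD3_c38) (LK LD1_c2 LD2_c50 LD3_c22) Lrfl Lrfl
theorem f557383 : Led Lsl_ff (LP (LK LD1_c5 LD2_c48 LD3_c38)) = (LP (LK LD1_c11 LD2_c25 LD3_c11)) :=
  Lgr Lrot52 (Lpr_at (f496078 IH) (Lpr_gf (K40.f557381 IH) (Lpe (K44.f119878 IH) (Lpn (LP (LK LD1_c11 LD2_c25 LD3_c11))))))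
theorem f581593 : Led Lsl_ef (LP (LK LD1_c11 LD2_c8 LD3_c0)) = (LP (LK LD1_c5 LD2_c48 LD3_c38)) :=
  Lgr Lrot21 (Lpr_ft (f581397 IH) (Lpr_et (K44.f581590 IH) (Lpr_ft (K44.f580533 IH) (Lpe (f580523 IH) (Lpe (f557383 IH) (Lpn (LP (LK LD1_c5 LD2_c48 LD3_c38))))))))
theorem f553424 : Led Lsl_et (LP (LK LD1_c5 LD2_c56 LD3_c23)) = (LP (LK LD1_c4 LD2_c31 LD3_c57)) :=
  Lgr Lrot158 (Lpe (K40.f553423 IH) (Lpr_ef (K39.f553419 IH) (Lpe (K43.f174844 IH) (Lpn (LP (LK LD1_c4 LD2_c31 LD3_c57))))))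
theorem f587153 : Led Lsl_gt (LP (LK LD1_c4 LD2_c31 LD3_c57)) = (LP (LK LD1_c8 LD2_c44 LD3_c21)) :=
  Lgr Lrot131 (Lpe (f553424 IH) (Lpr_dt (K40.f562812 IH) (Lpe (K40.f563386 IH) (Lpr_df (K43.f578855 IH) (Lpe (K43.f578853 IH) (Lpr_ef (f581593 IH) (Lpr_dt (K42.f571810 IH) (Lpr_gf (K42.f571797 IH) (Lpr_df (K42.f559092 IH) (Lpr_et (f587118 IH) (Lpn (LP (LK LD1_c8 LD2_c44 LD3_c21)))))))))))))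
theorem f552756 : Led Lsl_cf (LP (LK LD1_c7 LD2_c14 LD3_c15)) = (LP (LK LD1_c4 LD2_c32 LD3_c55)) :=
  Lgr Lrot108 (Lpr_ft (K41.f93093 IH) (Lpr_ct (K8.f93085 IH) (Lpr_ft (K39.f552752 IH) (Lpn (LP (LK LD1_c4 LD2_c32 LD3_c55))))))
theorem f158254 : Led Lsl_cf (LP (LK LD1_c3 LD2_c57 LD3_c47)) = (LP (LK LD1_c4 LD2_c25 LD3_c13)) :=
  Lgr Lrot97 (Lpr_bt (K28.f158253 IH) (Lpr_ct (K8.f158251 IH) (Lpe (K28.f38542 IH) (Lpr_ct (K8.f38521 IH) (Lpr_bt (K28.f38564 IH) (Lpn (LP (LK LD1_c4 LD2_c25 LD3_c13))))))))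
theorem f569649 : Led Lsl_cf (LP (LK LD1_c7 LD2_c8 LD3_c7)) = (LP (LK LD1_c7 LD2_c7 LD3_c57)) :=
  Lgr Lrot39 (Lpe (K41.f540731 IH) (Lpe (f158254 IH) (Lpr_et (K42.f569642 IH) (Lpn (LP (LK LD1_c7 LD2_c7 LD3_c57))))))
theorem f569646 : Led Lsl_bt (LP (LK LD1_c7 LD2_c7 LD3_c57)) = (LP (LK LD1_c13 LD2_c30 LD3_c36)) :=
  Lre_b IH (LK LD1_c7 LD2_c7 LD3_c57) (LK LD1_c13 LD2_c30 LD3_c36) Lrfl Lrfl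
theorem f548841 : Led Lsl_dt (LP (LK LD1_c7 LD2_c56 LD3_c58)) = (LP (LK LD1_c11 LD2_c27 LD3_c25)) :=
  Lgr Lrot27 (Lpr_cf (K28.f158256 IH) (Lpe (K8.f158247 IH) (Lpe (K8.f37047 IH) (Lpe (K7.f37045 IH) (Lpe (K36.f29547 IH) (Lpr_gt (K38.f548834 IH) (Lpr_ct (K38.f176664 IH) (Lpe (K40.f548821 IH) (Lpr_ct (K40.f211003 IH) (Lpn (LP (LK LD1_c11 LD2_c27 LD3_c25))))))))))))
theorem f569635 : Led Lsl_bt (LP (LK LD1_c13 LD2_c30 LD3_c36)) = (LP (LK LD1_c7 LD2_c7 LD3_c57)) :=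
  Lre_b IH (LK LD1_c13 LD2_c30 LD3_c36) (LK LD1_c7 LD2_c7 LD3_c57) Lrfl Lrfl
theorem f569636 : Led Lsl_et (LP (LK LD1_c7 LD2_c56 LD3_c58)) = (LP (LK LD1_c13 LD2_c30 LD3_c36)) :=
  Lgr Lrot74 (Lpe (K28.f158253 IH) (Lpr_ef (K42.f569631 IH) (Lpe (f569635 IH) (Lpn (LP (LK LD1_c13 LD2_c30 LD3_c36))))))
theorem f575014 : Led Lsl_gt (LP (LK LD1_c8 LD2_c1 LD3_c49)) = (LP (LK LD1_c13 LD2_c30 LD3_c36)) :=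
  Lgr Lrot131 (Lpr_ef (K43.f575008 IH) (Lpr_dt (K43.f10674 IH) (Lpe (K3.f10272 IH) (Lpr_df (K42.f98114 IH) (Lpe (K42.f98372 IH) (Lpr_ef (K42.f570667 IH) (Lpe (K36.f499051 IH) (Lpr_gf (K42.f559270 IH) (Lpe (f548841 IH) (Lpr_et (f569636 IH) (Lpn (LP (LK LD1_c13 LD2_c30 LD3_c36)))))))))))))
theorem f582531 : Led Lsl_ct (LP (LK LD1_c4 LD2_c23 LD3_c22)) = (LP (LK LD1_c8 LD2_c44 LD3_c21)) :=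
  Lre_c IH (LK LD1_c4 LD2_c23 LD3_c22) (LK LD1_c8 LD2_c44 LD3_c21) Lrfl Lrfl
theorem f587155 : Led Lsl_bf (LP (LK LD1_c8 LD2_c1 LD3_c49)) = (LP (LK LD1_c4 LD2_c23 LD3_c22)) :=
  Lgr Lrot156 (Lpr_gt (f575014 IH) (Lpe (f569646 IH) (Lpe (f569649 IH) (Lpe (K41.f160330 IH) (Lpr_cf (f552756 IH) (Lpr_bt (K39.f181557 IH) (Lpr_gt (K31.f174811 IH) (Lpr_ct (K10.f174812 IH) (Lpr_gt (f587153 IH) (Lpe (f582531 IH) (Lpn (LP (LK LD1_c4 LD2_c23 LD3_c22)))))))))))))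
theorem f237630 : Led Lsl_bt (LP (LK LD1_c4 LD2_c23 LD3_c18)) = (LP (LK LD1_c2 LD2_c9 LD3_c6)) :=
  Lre_b IH (LK LD1_c4 LD2_c23 LD3_c18) (LK LD1_c2 LD2_c9 LD3_c6) Lrfl Lrfl
theorem f587161 : Led Lsl_ft (LP (LK LD1_c8 LD2_c1 LD3_c49)) = (LP (LK LD1_c4 LD2_c23 LD3_c18)) :=
  Lgr Lrot75 (Lpr_bf (f587155 IH) (Lpe (f587099 IH) (Lpe (f237630 IH) (Lpn (LP (LK LD1_c4 LD2_c23 LD3_c18))))))
theorem f572106 : Led Lsl_dt (LP (LK LD1_c4 LD2_c23 LD3_c18)) = (LP (LK LD1_c8 LD2_c44 LD3_c18)) :=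
  Lre_d IH (LK LD1_c4 LD2_c23 LD3_c18) (LK LD1_c8 LD2_c44 LD3_c18) Lrfl Lrfl
theorem f587165 : Led Lsl_ff (LP (LK LD1_c15 LD2_c7 LD3_c11)) = (LP (LK LD1_c8 LD2_c44 LD3_c18)) :=
  Lgr Lrot19 (Lpr_dt (K42.f29527 IH) (Lpr_ft (f587161 IH) (Lpr_dt (f572106 IH) (Lpn (LP (LK LD1_c8 LD2_c44 LD3_c18))))))
theorem f269018 : Led Lsl_ff (LP (LK LD1_c5 LD2_c41 LD3_c42)) = (LP (LK LD1_c9 LD2_c2 LD3_c37)) :=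
  Lgr Lrot23 (Lpr_ct (K30.f181656 IH) (Lpr_ft (K16.f269009 IH) (Lpr_ct (K39.f181368 IH) (Lpn (LP (LK LD1_c9 LD2_c2 LD3_c37))))))
theorem f281753 : Led Lsl_at (LP (LK LD1_c5 LD2_c41 LD3_c42)) = (LP (LK LD1_c11 LD2_c13 LD3_c13)) :=
  Lre_a IH (LK LD1_c5 LD2_c41 LD3_c42) (LK LD1_c11 LD2_c13 LD3_c13) Lrfl Lrfl
theorem f411854 : Led Lsl_gf (LP (LK LD1_c11 LD2_c13 LD3_c13)) = (LP (LK LD1_c16 LD2_c52 LD3_c61)) :=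
  Lgr Lrot76 (Lpe (f281753 IH) (Lpr_ff (f269018 IH) (Lpr_gt (K39.f181397 IH) (Lpn (LP (LK LD1_c16 LD2_c52 LD3_c61))))))
theorem f571105 : Led Lsl_dt (LP (LK LD1_c15 LD2_c7 LD3_c10)) = (LP (LK LD1_c8 LD2_c1 LD3_c48)) :=
  Lre_d IH (LK LD1_c15 LD2_c7 LD3_c10) (LK LD1_c8 LD2_c1 LD3_c48) Lrfl Lrfl
theorem f572098 : Led Lsl_gf (LP (LK LD1_c9 LD2_c44 LD3_c42)) = (LP (LK LD1_c15 LD2_c7 LD3_c10)) :=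
  Lgr Lrot147 (Lpr_ct (K42.f572092 IH) (Lpe (f411854 IH) (Lpr_ct (K16.f269045 IH) (Lpe (K30.f269069 IH) (Lpe (K30.f269084 IH) (Lpr_gf (K30.f269080 IH) (Lpe (K37.f181299 IH) (Lpr_gf (K42.f571101 IH) (Lpe (f571105 IH) (Lpn (LP (LK LD1_c15 LD2_c7 LD3_c10))))))))))))
theorem f554454 : Led Lsl_bt (LP (LK LD1_c8 LD2_c1 LD3_c50)) = (LP (LK LD1_c15 LD2_c7 LD3_c10)) :=
  Lre_b IH (LK LD1_c8 LD2_c1 LD3_c50) (LK LD1_c15 LD2_c7 LD3_c10) Lrfl Lrfl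
theorem f554445 : Led Lsl_ct (LP (LK LD1_c8 LD2_c1 LD3_c50)) = (LP (LK LD1_c15 LD2_c7 LD3_c12)) :=
  Lre_c IH (LK LD1_c8 LD2_c1 LD3_c50) (LK LD1_c15 LD2_c7 LD3_c12) Lrfl Lrfl
theorem f181680 : Led Lsl_bt (LP (LK LD1_c5 LD2_c41 LD3_c32)) = (LP (LK LD1_c11 LD2_c13 LD3_c12)) :=
  Lre_b IH (LK LD1_c5 LD2_c41 LD3_c32) (LK LD1_c11 LD2_c13 LD3_c12) Lrfl Lrfl
theorem f572102 : Led Lsl_gf (LP (LK LD1_c15 LD2_c7 LD3_c12)) = (LP (LK LD1_c24 LD2_c55 LD3_c25)) :=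
  Lgr Lrot126 (Lpe (f554445 IH) (Lpr_bt (f554454 IH) (Lpe (f572098 IH) (Lpr_ct (K42.f572092 IH) (Lpe (f411854 IH) (Lpe (K30.f269070 IH) (Lpr_bt (f181680 IH) (Lpr_gt (K41.f564938 IH) (Lpe (K43.f237723 IH) (Lpr_ct (K43.f554427 IH) (Lpn (LP (LK LD1_c24 LD2_c55 LD3_c25)))))))))))))
theorem f554443 : Led Lsl_ct (LP (LK LD1_c15 LD2_c7 LD3_c12)) = (LP (LK LD1_c8 LD2_c1 LD3_c50)) :=
  Lre_c IH (LK LD1_c15 LD2_c7 LD3_c12) (LK LD1_c8 LD2_c1 LD3_c50) Lrfl Lrfl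
theorem f382039 : Led Lsl_ct (LP (LK LD1_c2 LD2_c9 LD3_c6)) = (LP (LK LD1_c4 LD2_c23 LD3_c19)) :=
  Lre_c IH (LK LD1_c2 LD2_c9 LD3_c6) (LK LD1_c4 LD2_c23 LD3_c19) Lrfl Lrfl
theorem f382040 : Led Lsl_bt (LP (LK LD1_c2 LD2_c9 LD3_c6)) = (LP (LK LD1_c4 LD2_c23 LD3_c18)) :=
  Lre_b IH (LK LD1_c2 LD2_c9 LD3_c6) (LK LD1_c4 LD2_c23 LD3_c18) Lrfl Lrfl
theorem f571108 : Led Lsl_gt (LP (LK LD1_c4 LD2_c23 LD3_c18)) = (LP (LK LD1_c8 LD2_c44 LD3_c6)) :=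
  Lgr Lrot82 (Lpe (f382040 IH) (Lpr_ct (f382039 IH) (Lpe (K39.f382006 IH) (Lpe (K37.f181268 IH) (Lpe (K39.f181293 IH) (Lpr_gf (K42.f571101 IH) (Lpe (K42.f559087 IH) (Lpr_ct (K42.f29524 IH) (Lpr_gf (K41.f564994 IH) (Lpe (K42.f571081 IH) (Lpn (LP (LK LD1_c8 LD2_c44 LD3_c6)))))))))))))
theorem f572107 : Led Lsl_gt (LP (LK LD1_c8 LD2_c44 LD3_c18)) = (LP (LK LD1_c16 LD2_c21 LD3_c28)) :=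
  Lgr Lrot9 (Lpe (f572106 IH) (Lpr_gt (f571108 IH) (Lpr_ct (K42.f571081 IH) (Lpe (K41.f564994 IH) (Lpr_ct (K41.f29514 IH) (Lpe (K42.f29518 IH) (Lpe (f554443 IH) (Lpr_gf (f572102 IH) (Lpe (K43.f554427 IH) (Lpn (LP (LK LD1_c16 LD2_c21 LD3_c28))))))))))))
theorem f573452 : Led Lsl_dt (LP (LK LD1_c8 LD2_c1 LD3_c53)) = (LP (LK LD1_c9 LD2_c44 LD3_c33)) :=
  Lgr Lrot42 (Lpr_df (K44.f573450 IH) (Lpn (LP (LK LD1_c9 LD2_c44 LD3_c33))))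
theorem f30702 : Led Lsl_gt (LP (LK LD1_c8 LD2_c1 LD3_c55)) = (LP (LK LD1_c15 LD2_c7 LD3_c23)) :=
  Lre_g IH (LK LD1_c8 LD2_c1 LD3_c55) (LK LD1_c15 LD2_c7 LD3_c23) Lrfl Lrfl
theorem f30703 : Led Lsl_dt (LP (LK LD1_c15 LD2_c7 LD3_c23)) = (LP (LK LD1_c24 LD2_c55 LD3_c60)) :=
  Lre_d IH (LK LD1_c15 LD2_c7 LD3_c23) (LK LD1_c24 LD2_c55 LD3_c60) Lrfl Lrfl
theorem f573456 : Led Lsl_gt (LP (LK LD1_c24 LD2_c55 LD3_c60)) = (LP (LK LD1_c31 LD2_c43 LD3_c10)) :=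
  Lre_g IH (LK LD1_c24 LD2_c55 LD3_c60) (LK LD1_c31 LD2_c43 LD3_c10) Lrfl Lrfl
theorem f69782 : Led Lsl_dt (LP (LK LD1_c8 LD2_c5 LD3_c14)) = (LP (LK LD1_c15 LD2_c13 LD3_c42)) :=
  Lre_d IH (LK LD1_c8 LD2_c5 LD3_c14) (LK LD1_c15 LD2_c13 LD3_c42) Lrfl Lrfl
theorem f69785 : Led Lsl_ct (LP (LK LD1_c25 LD2_c2 LD3_c48)) = (LP (LK LD1_c15 LD2_c13 LD3_c42)) :=
  Lre_c IH (LK LD1_c25 LD2_c2 LD3_c48) (LK LD1_c15 LD2_c13 LD3_c42) Lrfl Lrfl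
theorem f573457 : Led Lsl_dt (LP (LK LD1_c31 LD2_c43 LD3_c10)) = (LP (LK LD1_c25 LD2_c2 LD3_c48)) :=
  Lgr Lrot105 (Lpe (f573456 IH) (Lpe (f30703 IH) (Lpe (f30702 IH) (Lpe (K39.f29430 IH) (Lpr_gt (K43.f30811 IH) (Lpr_dt (f573452 IH) (Lpe (K44.f557111 IH) (Lpr_dt (f69782 IH) (Lpe (f69785 IH) (Lpn (LP (LK LD1_c25 LD2_c2 LD3_c48))))))))))))
theorem f554489 : Led Lsl_af (LP (LK LD1_c8 LD2_c5 LD3_c14)) = (LP (LK LD1_c4 LD2_c4 LD3_c48)) :=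
  Lgr Lrot0 (Lpr_at (K39.f554487 IH) (Lpn (LP (LK LD1_c4 LD2_c4 LD3_c48))))
theorem f238972 : Led Lsl_ct (LP (LK LD1_c8 LD2_c43 LD3_c42)) = (LP (LK LD1_c16 LD2_c20 LD3_c42)) :=
  Lre_c IH (LK LD1_c8 LD2_c43 LD3_c42) (LK LD1_c16 LD2_c20 LD3_c42) Lrfl Lrfl
theorem f394668 : Led Lsl_dt (LP (LK LD1_c16 LD2_c20 LD3_c42)) = (LP (LK LD1_c26 LD2_c18 LD3_c39)) :=
  Lre_d IH (LK LD1_c16 LD2_c20 LD3_c42) (LK LD1_c26 LD2_c18 LD3_c39) Lrfl Lrfl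
theorem f573474 : Led Lsl_cf (LP (LK LD1_c31 LD2_c43 LD3_c10)) = (LP (LK LD1_c26 LD2_c18 LD3_c39)) :=
  Lgr Lrot116 (Lpr_dt (f573457 IH) (Lpr_ct (f69785 IH) (Lpr_dt (K39.f69784 IH) (Lpe (K9.f69779 IH) (Lpr_af (f554489 IH) (Lpr_ff (K39.f346756 IH) (Lpe (K39.f237245 IH) (Lpr_ct (f238972 IH) (Lpr_dt (f394668 IH) (Lpn (LP (LK LD1_c26 LD2_c18 LD3_c39))))))))))))
theorem f69783 : Led Lsl_ct (LP (LK LD1_c15 LD2_c13 LD3_c42)) = (LP (LK LD1_c25 LD2_c2 LD3_c48)) :=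
  Lre_c IH (LK LD1_c15 LD2_c13 LD3_c42) (LK LD1_c25 LD2_c2 LD3_c48) Lrfl Lrfl
theorem f573483 : Led Lsl_af (LP (LK LD1_c25 LD2_c2 LD3_c48)) = (LP (LK LD1_c15 LD2_c23 LD3_c32)) :=
  Lgr Lrot109 (Lpe (f69783 IH) (Lpe (f69782 IH) (Lpr_cf (K9.f69779 IH) (Lpe (K39.f69784 IH) (Lpe (f69785 IH) (Lpe (f573457 IH) (Lpr_cf (f573474 IH) (Lpe (f394668 IH) (Lpe (K43.f394672 IH) (Lpn (LP (LK LD1_c15 LD2_c23 LD3_c32))))))))))))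
theorem f394678 : Led Lsl_gt (LP (LK LD1_c16 LD2_c20 LD3_c42)) = (LP (LK LD1_c26 LD2_c18 LD3_c38)) :=
  Lre_g IH (LK LD1_c16 LD2_c20 LD3_c42) (LK LD1_c26 LD2_c18 LD3_c38) Lrfl Lrfl
theorem f573485 : Led Lsl_gf (LP (LK LD1_c25 LD2_c2 LD3_c48)) = (LP (LK LD1_c26 LD2_c18 LD3_c38)) :=
  Lgr Lrot76 (Lpr_af (f573483 IH) (Lpr_ff (K43.f394672 IH) (Lpr_gt (f394678 IH) (Lpn (LP (LK LD1_c26 LD2_c18 LD3_c38))))))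
theorem f69816 : Led Lsl_bt (LP (LK LD1_c15 LD2_c13 LD3_c42)) = (LP (LK LD1_c8 LD2_c5 LD3_c25)) :=
  Lre_b IH (LK LD1_c15 LD2_c13 LD3_c42) (LK LD1_c8 LD2_c5 LD3_c25) Lrfl Lrfl
theorem f549969 : Led Lsl_cf (LP (LK LD1_c10 LD2_c39 LD3_c9)) = (LP (LK LD1_c8 LD2_c44 LD3_c10)) :=
  Lgr Lrot11 (Lpr_ct (K38.f549961 IH) (Lpn (LP (LK LD1_c8 LD2_c44 LD3_c10))))
theorem f549968 : Led Lsl_bt (LP (LK LD1_c8 LD2_c44 LD3_c10)) = (LP (LK LD1_c16 LD2_c21 LD3_c28)) :=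
  Lre_b IH (LK LD1_c8 LD2_c44 LD3_c10) (LK LD1_c16 LD2_c21 LD3_c28) Lrfl Lrfl
theorem f241341 : Led Lsl_bt (LP (LK LD1_c20 LD2_c20 LD3_c53)) = (LP (LK LD1_c11 LD2_c23 LD3_c11)) :=
  Lre_b IH (LK LD1_c20 LD2_c20 LD3_c53) (LK LD1_c11 LD2_c23 LD3_c11) Lrfl Lrfl
theorem f573487 : Led Lsl_ct (LP (LK LD1_c20 LD2_c20 LD3_c53)) = (LP (LK LD1_c26 LD2_c18 LD3_c38)) :=
  Lgr Lrot64 (Lpr_bt (f241341 IH) (Lpe (K39.f60609 IH) (Lpe (K42.f60608 IH) (Lpr_ct (K1.f59285 IH) (Lpe (K13.f60629 IH) (Lpe (K13.f241309 IH) (Lpr_gf (K13.f241339 IH) (Lpe (f69816 IH) (Lpr_ct (f69783 IH) (Lpr_gf (f573485 IH) (Lpn (LP (LK LD1_c26 LD2_c18 LD3_c38)))))))))))))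
theorem f573489 : Led Lsl_gt (LP (LK LD1_c16 LD2_c21 LD3_c28)) = (LP (LK LD1_c20 LD2_c20 LD3_c53)) :=
  Lgr Lrot82 (Lpe (f549968 IH) (Lpe (f549969 IH) (Lpr_gf (K38.f549957 IH) (Lpe (K42.f566173 IH) (Lpr_bt (K42.f37175 IH) (Lpr_gf (K13.f241339 IH) (Lpe (f69816 IH) (Lpr_ct (f69783 IH) (Lpr_gf (f573485 IH) (Lpe (f573487 IH) (Lpn (LP (LK LD1_c20 LD2_c20 LD3_c53)))))))))))))
theorem f587172 : Led Lsl_at (LP (LK LD1_c15 LD2_c7 LD3_c11)) = (LP (LK LD1_c20 LD2_c20 LD3_c53)) :=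
  Lgr Lrot26 (Lpr_ff (f587165 IH) (Lpr_gt (f572107 IH) (Lpr_gt (f573489 IH) (Lpn (LP (LK LD1_c20 LD2_c20 LD3_c53))))))
theorem f10677 : Led Lsl_dt (LP (LK LD1_c7 LD2_c12 LD3_c57)) = (LP (LK LD1_c13 LD2_c39 LD3_c26)) :=
  Lre_d IH (LK LD1_c7 LD2_c12 LD3_c57) (LK LD1_c13 LD2_c39 LD3_c26) Lrfl Lrfl
theorem f575006 : Led Lsl_ef (LP (LK LD1_c15 LD2_c7 LD3_c11)) = (LP (LK LD1_c13 LD2_c39 LD3_c26)) :=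
  Lgr Lrot73 (Lpr_dt (K42.f29527 IH) (Lpr_et (K43.f574960 IH) (Lpr_dt (K43.f10674 IH) (Lpr_et (K36.f96924 IH) (Lpr_dt (f10677 IH) (Lpn (LP (LK LD1_c13 LD2_c39 LD3_c26))))))))
theorem f10628 : Led Lsl_dt (LP (LK LD1_c7 LD2_c6 LD3_c23)) = (LP (LK LD1_c13 LD2_c27 LD3_c56)) :=
  Lre_d IH (LK LD1_c7 LD2_c6 LD3_c23) (LK LD1_c13 LD2_c27 LD3_c56) Lrfl Lrfl
theorem f96922 : Led Lsl_dt (LP (LK LD1_c13 LD2_c39 LD3_c26)) = (LP (LK LD1_c7 LD2_c12 LD3_c57)) :=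
  Lre_d IH (LK LD1_c13 LD2_c39 LD3_c26) (LK LD1_c7 LD2_c12 LD3_c57) Lrfl Lrfl
theorem f501649 : Led Lsl_at (LP (LK LD1_c13 LD2_c27 LD3_c56)) = (LP (LK LD1_c13 LD2_c39 LD3_c26)) :=
  Lgr Lrot51 (Lpe (f10628 IH) (Lpr_af (K36.f501643 IH) (Lpe (f96922 IH) (Lpn (LP (LK LD1_c13 LD2_c39 LD3_c26))))))
theorem f587182 : Led Lsl_ef (LP (LK LD1_c13 LD2_c27 LD3_c56)) = (LP (LK LD1_c20 LD2_c20 LD3_c53)) :=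
  Lgr Lrot20 (Lpr_at (f501649 IH) (Lpe (f575006 IH) (Lpr_at (f587172 IH) (Lpn (LP (LK LD1_c20 LD2_c20 LD3_c53))))))
theorem f96555 : Led Lsl_dt (LP (LK LD1_c13 LD2_c27 LD3_c56)) = (LP (LK LD1_c7 LD2_c6 LD3_c23)) :=
  Lre_d IH (LK LD1_c13 LD2_c27 LD3_c56) (LK LD1_c7 LD2_c6 LD3_c23) Lrfl Lrfl
theorem f587188 : Led Lsl_dt (LP (LK LD1_c13 LD2_c27 LD3_c55)) = (LP (LK LD1_c20 LD2_c20 LD3_c53)) :=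
  Lgr Lrot77 (Lpe (K43.f10631 IH) (Lpe (K43.f10301 IH) (Lpe (K36.f10627 IH) (Lpe (f96555 IH) (Lpr_ef (f587182 IH) (Lpn (LP (LK LD1_c20 LD2_c20 LD3_c53))))))))
theorem f501641 : Led Lsl_af (LP (LK LD1_c7 LD2_c6 LD3_c22)) = (LP (LK LD1_c7 LD2_c12 LD3_c56)) :=
  Lgr Lrot117 (Lpr_dt (K43.f10625 IH) (Lpr_at (K36.f501635 IH) (Lpr_dt (K43.f10273 IH) (Lpn (LP (LK LD1_c7 LD2_c12 LD3_c56))))))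
theorem f574908 : Led Lsl_gf (LP (LK LD1_c3 LD2_c38 LD3_c13)) = (LP (LK LD1_c7 LD2_c6 LD3_c22)) :=
  Lgr Lrot47 (Lpr_gt (K43.f574906 IH) (Lpr_af (f501641 IH) (Lpe (K43.f501632 IH) (Lpn (LP (LK LD1_c7 LD2_c6 LD3_c22))))))
theorem f570721 : Led Lsl_et (LP (LK LD1_c7 LD2_c8 LD3_c15)) = (LP (LK LD1_c6 LD2_c14 LD3_c8)) :=
  Lgr Lrot74 (Lpr_bf (K43.f570663 IH) (Lpr_ef (K42.f570709 IH) (Lpe (K36.f161813 IH) (Lpn (LP (LK LD1_c6 LD2_c14 LD3_c8))))))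
theorem f587200 : Led Lsl_ef (LP (LK LD1_c11 LD2_c23 LD3_c0)) = (LP (LK LD1_c15 LD2_c5 LD3_c43)) :=
  Lgr Lrot17 (Lpe (K36.f420646 IH) (Lpe (f570721 IH) (Lpe (K42.f571628 IH) (Lpe (K3.f5062 IH) (Lpe (K24.f5056 IH) (Lpr_gf (f574908 IH) (Lpe (K43.f502715 IH) (Lpr_dt (f587188 IH) (Lpe (f573489 IH) (Lpe (K43.f564944 IH) (Lpn (LP (LK LD1_c15 LD2_c5 LD3_c43)))))))))))))
theorem f554397 : Led Lsl_et (LP (LK LD1_c8 LD2_c45 LD3_c24)) = (LP (LK LD1_c5 LD2_c46 LD3_c22)) :=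
  Lgr Lrot158 (Lpe (K38.f59193 IH) (Lpr_ef (K39.f554395 IH) (Lpr_cf (K36.f81398 IH) (Lpn (LP (LK LD1_c5 LD2_c46 LD3_c22))))))
theorem f552578 : Led Lsl_gt (LP (LK LD1_c8 LD2_c44 LD3_c17)) = (LP (LK LD1_c4 LD2_c23 LD3_c18)) :=
  Lre_g IH (LK LD1_c8 LD2_c44 LD3_c17) (LK LD1_c4 LD2_c23 LD3_c18) Lrfl Lrfl
theorem f587204 : Led Lsl_et (LP (LK LD1_c4 LD2_c25 LD3_c43)) = (LP (LK LD1_c8 LD2_c44 LD3_c17)) :=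
  Lgr Lrot121 (Lpr_dt (K40.f38545 IH) (Lpe (K40.f558649 IH) (Lpe (K42.f558673 IH) (Lpr_et (f554397 IH) (Lpe (K36.f81403 IH) (Lpr_ef (f587200 IH) (Lpr_dt (K43.f564944 IH) (Lpe (f572107 IH) (Lpe (f572106 IH) (Lpe (f552578 IH) (Lpn (LP (LK LD1_c8 LD2_c44 LD3_c17)))))))))))))
theorem f587219 : Led Lsl_et (LP (LK LD1_c8 LD2_c1 LD3_c46)) = (LP (LK LD1_c4 LD2_c23 LD3_c18)) :=
  Lgr Lrot122 (Lpr_dt (K43.f29516 IH) (Lpe (K43.f570993 IH) (Lpe (K42.f540744 IH) (Lpr_et (K43.f420645 IH) (Lpr_gt (K38.f420657 IH) (Lpr_dt (K42.f558673 IH) (Lpr_gt (K40.f558649 IH) (Lpe (K40.f38545 IH) (Lpr_et (f587204 IH) (Lpr_gt (f552578 IH) (Lpn (LP (LK LD1_c4 LD2_c23 LD3_c18)))))))))))))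
theorem f502711 : Led Lsl_at (LP (LK LD1_c7 LD2_c6 LD3_c22)) = (LP (LK LD1_c7 LD2_c12 LD3_c56)) :=
  Lgr Lrot100 (Lpr_af (f501641 IH) (Lpn (LP (LK LD1_c7 LD2_c12 LD3_c56))))
theorem f575010 : Led Lsl_at (LP (LK LD1_c8 LD2_c1 LD3_c49)) = (LP (LK LD1_c13 LD2_c27 LD3_c55)) :=
  Lgr Lrot80 (Lpr_ef (K43.f575008 IH) (Lpe (f502711 IH) (Lpe (K43.f502715 IH) (Lpn (LP (LK LD1_c13 LD2_c27 LD3_c55))))))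
theorem f575066 : Led Lsl_ft (LP (LK LD1_c4 LD2_c23 LD3_c18)) = (LP (LK LD1_c8 LD2_c1 LD3_c49)) :=
  Lgr Lrot2 (Lpr_gt (f571108 IH) (Lpr_gt (K43.f575064 IH) (Lpe (f575010 IH) (Lpn (LP (LK LD1_c8 LD2_c1 LD3_c49))))))
theorem f502716 : Led Lsl_ff (LP (LK LD1_c7 LD2_c6 LD3_c22)) = (LP (LK LD1_c7 LD2_c12 LD3_c56)) :=
  Lgr Lrot3 (Lpr_ft (K43.f501632 IH) (Lpn (LP (LK LD1_c7 LD2_c12 LD3_c56))))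
theorem f587225 : Led Lsl_ff (LP (LK LD1_c8 LD2_c1 LD3_c46)) = (LP (LK LD1_c13 LD2_c27 LD3_c55)) :=
  Lgr Lrot72 (Lpr_et (f587219 IH) (Lpr_ft (f575066 IH) (Lpr_et (K43.f574960 IH) (Lpe (f502716 IH) (Lpr_et (K43.f10631 IH) (Lpn (LP (LK LD1_c13 LD2_c27 LD3_c55))))))))
theorem f587235 : Led Lsl_ft (LP (LK LD1_c8 LD2_c1 LD3_c46)) = (LP (LK LD1_c13 LD2_c27 LD3_c55)) :=
  Lgr Lrot48 (Lpr_ff (f587225 IH) (Lpn (LP (LK LD1_c13 LD2_c27 LD3_c55))))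
theorem f587241 : Led Lsl_ff (LP (LK LD1_c15 LD2_c7 LD3_c7)) = (LP (LK LD1_c20 LD2_c20 LD3_c53)) :=
  Lgr Lrot19 (Lpr_dt (K39.f29519 IH) (Lpr_ft (f587235 IH) (Lpr_dt (f587188 IH) (Lpn (LP (LK LD1_c20 LD2_c20 LD3_c53))))))
theorem f587243 : Led Lsl_at (LP (LK LD1_c15 LD2_c7 LD3_c7)) = (LP (LK LD1_c8 LD2_c44 LD3_c18)) :=
  Lgr Lrot66 (Lpr_ff (f587241 IH) (Lpe (f587172 IH) (Lpr_ff (f587165 IH) (Lpn (LP (LK LD1_c8 LD2_c44 LD3_c18))))))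
theorem f572113 : Led Lsl_gt (LP (LK LD1_c16 LD2_c21 LD3_c38)) = (LP (LK LD1_c8 LD2_c44 LD3_c18)) :=
  Lre_g IH (LK LD1_c16 LD2_c21 LD3_c38) (LK LD1_c8 LD2_c44 LD3_c18) Lrfl Lrfl
theorem f587249 : Led Lsl_gf (LP (LK LD1_c16 LD2_c21 LD3_c38)) = (LP (LK LD1_c20 LD2_c20 LD3_c53)) :=
  Lgr Lrot47 (Lpr_gt (f572113 IH) (Lpe (f587243 IH) (Lpr_ff (f587241 IH) (Lpn (LP (LK LD1_c20 LD2_c20 LD3_c53))))))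
theorem f573491 : Led Lsl_cf (LP (LK LD1_c20 LD2_c20 LD3_c53)) = (LP (LK LD1_c26 LD2_c18 LD3_c38)) :=
  Lgr Lrot11 (Lpr_ct (f573487 IH) (Lpn (LP (LK LD1_c26 LD2_c18 LD3_c38))))
theorem f573470 : Led Lsl_df (LP (LK LD1_c31 LD2_c43 LD3_c10)) = (LP (LK LD1_c25 LD2_c2 LD3_c48)) :=
  Lgr Lrot38 (Lpr_dt (f573457 IH) (Lpn (LP (LK LD1_c25 LD2_c2 LD3_c48))))
theorem f573481 : Led Lsl_ft (LP (LK LD1_c31 LD2_c43 LD3_c10)) = (LP (LK LD1_c26 LD2_c21 LD3_c39)) :=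
  Lgr Lrot4 (Lpr_cf (f573474 IH) (Lpe (K43.f394675 IH) (Lpe (K39.f554478 IH) (Lpn (LP (LK LD1_c26 LD2_c21 LD3_c39))))))
theorem f554472 : Led Lsl_at (LP (LK LD1_c26 LD2_c21 LD3_c39)) = (LP (LK LD1_c26 LD2_c18 LD3_c39)) :=
  Lgr Lrot51 (Lpe (K39.f70030 IH) (Lpr_af (K39.f554466 IH) (Lpe (K43.f238971 IH) (Lpn (LP (LK LD1_c26 LD2_c18 LD3_c39))))))
theorem f29452 : Led Lsl_dt (LP (LK LD1_c15 LD2_c7 LD3_c24)) = (LP (LK LD1_c24 LD2_c56 LD3_c1)) :=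
  Lre_d IH (LK LD1_c15 LD2_c7 LD3_c24) (LK LD1_c24 LD2_c56 LD3_c1) Lrfl Lrfl
theorem f573443 : Led Lsl_gt (LP (LK LD1_c24 LD2_c56 LD3_c1)) = (LP (LK LD1_c26 LD2_c18 LD3_c39)) :=
  Lgr Lrot49 (Lpe (f29452 IH) (Lpe (K39.f29425 IH) (Lpe (K39.f29420 IH) (Lpr_gt (K44.f549206 IH) (Lpr_dt (K44.f573436 IH) (Lpr_gt (K43.f297433 IH) (Lpe (K39.f237245 IH) (Lpe (K39.f238935 IH) (Lpe (K43.f238971 IH) (Lpn (LP (LK LD1_c26 LD2_c18 LD3_c39))))))))))))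
theorem f573493 : Led Lsl_gt (LP (LK LD1_c31 LD2_c43 LD3_c10)) = (LP (LK LD1_c24 LD2_c56 LD3_c1)) :=
  Lgr Lrot5 (Lpr_ft (f573481 IH) (Lpr_at (f554472 IH) (Lpe (f573443 IH) (Lpn (LP (LK LD1_c24 LD2_c56 LD3_c1))))))
theorem f29442 : Led Lsl_dt (LP (LK LD1_c24 LD2_c56 LD3_c1)) = (LP (LK LD1_c15 LD2_c7 LD3_c24)) :=
  Lre_d IH (LK LD1_c24 LD2_c56 LD3_c1) (LK LD1_c15 LD2_c7 LD3_c24) Lrfl Lrfl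
theorem f573448 : Led Lsl_df (LP (LK LD1_c16 LD2_c21 LD3_c49)) = (LP (LK LD1_c11 LD2_c6 LD3_c9)) :=
  Lgr Lrot38 (Lpr_dt (K44.f573445 IH) (Lpn (LP (LK LD1_c11 LD2_c6 LD3_c9))))
theorem f419033 : Led Lsl_gt (LP (LK LD1_c19 LD2_c59 LD3_c37)) = (LP (LK LD1_c11 LD2_c6 LD3_c9)) :=
  Lre_g IH (LK LD1_c19 LD2_c59 LD3_c37) (LK LD1_c11 LD2_c6 LD3_c9) Lrfl Lrfl
theorem f587251 : Led Lsl_dt (LP (LK LD1_c16 LD2_c21 LD3_c38)) = (LP (LK LD1_c19 LD2_c59 LD3_c37)) :=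
  Lgr Lrot57 (Lpr_gf (f587249 IH) (Lpr_cf (f573491 IH) (Lpe (f573485 IH) (Lpe (f573470 IH) (Lpr_gt (f573493 IH) (Lpr_dt (f29442 IH) (Lpr_cf (K39.f236858 IH) (Lpr_df (f573448 IH) (Lpe (f419033 IH) (Lpn (LP (LK LD1_c19 LD2_c59 LD3_c37))))))))))))
theorem f552664 : Led Lsl_bt (LP (LK LD1_c11 LD2_c23 LD3_c11)) = (LP (LK LD1_c20 LD2_c20 LD3_c53)) :=
  Lre_b IH (LK LD1_c11 LD2_c23 LD3_c11) (LK LD1_c20 LD2_c20 LD3_c53) Lrfl Lrfl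
theorem f424221 : Led Lsl_bt (LP (LK LD1_c29 LD2_c20 LD3_c30)) = (LP (LK LD1_c20 LD2_c10 LD3_c45)) :=
  Lre_b IH (LK LD1_c29 LD2_c20 LD3_c30) (LK LD1_c20 LD2_c10 LD3_c45) Lrfl Lrfl
theorem f213288 : Led Lsl_at (LP (LK LD1_c19 LD2_c44 LD3_c24)) = (LP (LK LD1_c10 LD2_c55 LD3_c58)) :=
  Lre_a IH (LK LD1_c19 LD2_c44 LD3_c24) (LK LD1_c10 LD2_c55 LD3_c58) Lrfl Lrfl
theorem f213289 : Led Lsl_ft (LP (LK LD1_c25 LD2_c4 LD3_c19)) = (LP (LK LD1_c19 LD2_c44 LD3_c24)) :=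
  Lgr Lrot101 (Lpe (K38.f213287 IH) (Lpr_ff (K24.f213277 IH) (Lpe (f213288 IH) (Lpn (LP (LK LD1_c19 LD2_c44 LD3_c24))))))
theorem f213352 : Led Lsl_gt (LP (LK LD1_c19 LD2_c44 LD3_c27)) = (LP (LK LD1_c10 LD2_c55 LD3_c58)) :=
  Lre_g IH (LK LD1_c19 LD2_c44 LD3_c27) (LK LD1_c10 LD2_c55 LD3_c58) Lrfl Lrfl
theorem f213353 : Led Lsl_gt (LP (LK LD1_c25 LD2_c4 LD3_c19)) = (LP (LK LD1_c19 LD2_c44 LD3_c27)) :=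
  Lgr Lrot5 (Lpr_ft (f213289 IH) (Lpr_at (f213288 IH) (Lpe (f213352 IH) (Lpn (LP (LK LD1_c19 LD2_c44 LD3_c27))))))
theorem f550091 : Led Lsl_af (LP (LK LD1_c19 LD2_c44 LD3_c27)) = (LP (LK LD1_c19 LD2_c35 LD3_c12)) :=
  Lgr Lrot31 (Lpe (f213353 IH) (Lpr_gf (K38.f213302 IH) (Lpr_ft (K38.f550083 IH) (Lpn (LP (LK LD1_c19 LD2_c35 LD3_c12))))))
theorem f395699 : Led Lsl_cf (LP (LK LD1_c19 LD2_c35 LD3_c12)) = (LP (LK LD1_c10 LD2_c53 LD3_c28)) :=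
  Lgr Lrot97 (Lpr_bt (K38.f395697 IH) (Lpr_ct (K38.f229782 IH) (Lpr_bt (K16.f262892 IH) (Lpr_ct (K15.f262890 IH) (Lpr_bt (K38.f221367 IH) (Lpn (LP (LK LD1_c10 LD2_c53 LD3_c28))))))))
theorem f221376 : Led Lsl_at (LP (LK LD1_c19 LD2_c40 LD3_c56)) = (LP (LK LD1_c10 LD2_c53 LD3_c28)) :=
  Lre_a IH (LK LD1_c19 LD2_c40 LD3_c56) (LK LD1_c10 LD2_c53 LD3_c28) Lrfl Lrfl
theorem f550096 : Led Lsl_ct (LP (LK LD1_c19 LD2_c44 LD3_c27)) = (LP (LK LD1_c19 LD2_c40 LD3_c56)) :=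
  Lgr Lrot111 (Lpr_af (f550091 IH) (Lpr_cf (f395699 IH) (Lpe (f221376 IH) (Lpn (LP (LK LD1_c19 LD2_c40 LD3_c56))))))
theorem f213304 : Led Lsl_dt (LP (LK LD1_c10 LD2_c55 LD3_c58)) = (LP (LK LD1_c5 LD2_c32 LD3_c8)) :=
  Lre_d IH (LK LD1_c10 LD2_c55 LD3_c58) (LK LD1_c5 LD2_c32 LD3_c8) Lrfl Lrfl
theorem f244964 : Led Lsl_ct (LP (LK LD1_c10 LD2_c46 LD3_c8)) = (LP (LK LD1_c19 LD2_c28 LD3_c36)) :=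
  Lre_c IH (LK LD1_c10 LD2_c46 LD3_c8) (LK LD1_c19 LD2_c28 LD3_c36) Lrfl Lrfl
theorem f374610 : Led Lsl_bt (LP (LK LD1_c19 LD2_c28 LD3_c36)) = (LP (LK LD1_c19 LD2_c19 LD3_c40)) :=
  Lgr Lrot128 (Lpe (f244964 IH) (Lpe (K30.f244809 IH) (Lpr_cf (K15.f245035 IH) (Lpe (K31.f253955 IH) (Lpr_cf (K31.f374499 IH) (Lpn (LP (LK LD1_c19 LD2_c19 LD3_c40))))))))
theorem f374604 : Led Lsl_bf (LP (LK LD1_c10 LD2_c55 LD3_c55)) = (LP (LK LD1_c10 LD2_c40 LD3_c24)) :=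
  Lgr Lrot24 (Lpr_bt (K27.f374503 IH) (Lpn (LP (LK LD1_c10 LD2_c40 LD3_c24))))
theorem f374614 : Led Lsl_df (LP (LK LD1_c19 LD2_c28 LD3_c36)) = (LP (LK LD1_c10 LD2_c55 LD3_c55)) :=
  Lgr Lrot12 (Lpr_bt (f374610 IH) (Lpr_dt (K27.f374483 IH) (Lpe (f374604 IH) (Lpn (LP (LK LD1_c10 LD2_c55 LD3_c55))))))
theorem f245001 : Led Lsl_dt (LP (LK LD1_c19 LD2_c28 LD3_c32)) = (LP (LK LD1_c10 LD2_c46 LD3_c6)) :=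
  Lre_d IH (LK LD1_c19 LD2_c28 LD3_c32) (LK LD1_c10 LD2_c46 LD3_c6) Lrfl Lrfl
theorem f550100 : Led Lsl_gf (LP (LK LD1_c19 LD2_c28 LD3_c32)) = (LP (LK LD1_c19 LD2_c40 LD3_c56)) :=
  Lgr Lrot148 (Lpr_dt (f245001 IH) (Lpr_gt (K31.f244989 IH) (Lpr_dt (K30.f244956 IH) (Lpr_ct (f244964 IH) (Lpr_df (f374614 IH) (Lpe (K24.f213381 IH) (Lpe (f213304 IH) (Lpe (f213352 IH) (Lpr_ct (f550096 IH) (Lpn (LP (LK LD1_c19 LD2_c40 LD3_c56))))))))))))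
theorem f244993 : Led Lsl_ct (LP (LK LD1_c19 LD2_c28 LD3_c32)) = (LP (LK LD1_c28 LD2_c50 LD3_c48)) :=
  Lre_c IH (LK LD1_c19 LD2_c28 LD3_c32) (LK LD1_c28 LD2_c50 LD3_c48) Lrfl Lrfl
theorem f550104 : Led Lsl_df (LP (LK LD1_c25 LD2_c5 LD3_c17)) = (LP (LK LD1_c28 LD2_c50 LD3_c48)) :=
  Lgr Lrot162 (Lpe (K30.f388984 IH) (Lpr_gf (K30.f388988 IH) (Lpe (K30.f213333 IH) (Lpe (K30.f213331 IH) (Lpr_dt (K30.f213306 IH) (Lpr_gt (f213353 IH) (Lpr_ct (f550096 IH) (Lpe (f550100 IH) (Lpr_ct (f244993 IH) (Lpn (LP (LK LD1_c28 LD2_c50 LD3_c48))))))))))))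
theorem f261750 : Led Lsl_dt (LP (LK LD1_c15 LD2_c54 LD3_c21)) = (LP (LK LD1_c25 LD2_c50 LD3_c18)) :=
  Lre_d IH (LK LD1_c15 LD2_c54 LD3_c21) (LK LD1_c25 LD2_c50 LD3_c18) Lrfl Lrfl
theorem f244992 : Led Lsl_dt (LP (LK LD1_c10 LD2_c46 LD3_c6)) = (LP (LK LD1_c19 LD2_c28 LD3_c32)) :=
  Lre_d IH (LK LD1_c10 LD2_c46 LD3_c6) (LK LD1_c19 LD2_c28 LD3_c32) Lrfl Lrfl
theorem f244997 : Led Lsl_dt (LP (LK LD1_c28 LD2_c50 LD3_c46)) = (LP (LK LD1_c19 LD2_c28 LD3_c31)) :=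
  Lre_d IH (LK LD1_c28 LD2_c50 LD3_c46) (LK LD1_c19 LD2_c28 LD3_c31) Lrfl Lrfl
theorem f550108 : Led Lsl_ct (LP (LK LD1_c25 LD2_c50 LD3_c18)) = (LP (LK LD1_c28 LD2_c50 LD3_c46)) :=
  Lgr Lrot176 (Lpe (f261750 IH) (Lpr_cf (K31.f389007 IH) (Lpe (K38.f403012 IH) (Lpe (K38.f403001 IH) (Lpe (K38.f245014 IH) (Lpe (K30.f245013 IH) (Lpe (K38.f386413 IH) (Lpr_cf (K38.f403016 IH) (Lpe (K38.f388986 IH) (Lpr_cf (K30.f388977 IH) (Lpr_df (f550104 IH) (Lpe (f244993 IH) (Lpe (f244992 IH) (Lpe (K31.f244998 IH) (Lpe (f244997 IH) (Lpn (LP (LK LD1_c28 LD2_c50 LD3_c46))))))))))))))))))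
theorem f550110 : Led Lsl_cf (LP (LK LD1_c25 LD2_c50 LD3_c18)) = (LP (LK LD1_c28 LD2_c50 LD3_c46)) :=
  Lgr Lrot11 (Lpr_ct (f550108 IH) (Lpn (LP (LK LD1_c28 LD2_c50 LD3_c46))))
theorem f387940 : Led Lsl_gt (LP (LK LD1_c15 LD2_c52 LD3_c12)) = (LP (LK LD1_c10 LD2_c53 LD3_c60)) :=
  Lgr Lrot49 (Lpe (K31.f200781 IH) (Lpe (K11.f52840 IH) (Lpe (K10.f52723 IH) (Lpr_gt (K30.f52744 IH) (Lpr_dt (K30.f52745 IH) (Lpr_gt (K30.f387934 IH) (Lpr_dt (K31.f286713 IH) (Lpr_cf (K14.f247281 IH) (Lpe (K30.f282818 IH) (Lpn (LP (LK LD1_c10 LD2_c53 LD3_c60))))))))))))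
theorem f388106 : Led Lsl_ct (LP (LK LD1_c25 LD2_c50 LD3_c21)) = (LP (LK LD1_c15 LD2_c54 LD3_c22)) :=
  Lre_c IH (LK LD1_c25 LD2_c50 LD3_c21) (LK LD1_c15 LD2_c54 LD3_c22) Lrfl Lrfl
theorem f388180 : Led Lsl_gf (LP (LK LD1_c25 LD2_c50 LD3_c21)) = (LP (LK LD1_c19 LD2_c41 LD3_c57)) :=
  Lgr Lrot104 (Lpr_ct (f388106 IH) (Lpe (K30.f220916 IH) (Lpe (K20.f52833 IH) (Lpe (K20.f196942 IH) (Lpe (K18.f52829 IH) (Lpe (K11.f200792 IH) (Lpe (K31.f200793 IH) (Lpr_gt (f387940 IH) (Lpr_ct (K18.f221374 IH) (Lpn (LP (LK LD1_c19 LD2_c41 LD3_c57))))))))))))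
theorem f388112 : Led Lsl_bt (LP (LK LD1_c15 LD2_c54 LD3_c22)) = (LP (LK LD1_c25 LD2_c50 LD3_c18)) :=
  Lre_b IH (LK LD1_c15 LD2_c54 LD3_c22) (LK LD1_c25 LD2_c50 LD3_c18) Lrfl Lrfl
theorem f550085 : Led Lsl_gf (LP (LK LD1_c19 LD2_c44 LD3_c28)) = (LP (LK LD1_c25 LD2_c50 LD3_c18)) :=
  Lgr Lrot181 (Lpr_ct (K38.f213291 IH) (Lpr_gt (K38.f213301 IH) (Lpr_cf (K38.f550077 IH) (Lpr_bt (K38.f221366 IH) (Lpr_gt (K17.f221372 IH) (Lpe (K18.f174994 IH) (Lpr_ct (K18.f221374 IH) (Lpe (f388180 IH) (Lpe (K30.f387967 IH) (Lpr_bt (f388112 IH) (Lpn (LP (LK LD1_c25 LD2_c50 LD3_c18)))))))))))))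
theorem f213311 : Led Lsl_bt (LP (LK LD1_c10 LD2_c55 LD3_c58)) = (LP (LK LD1_c5 LD2_c32 LD3_c9)) :=
  Lre_b IH (LK LD1_c10 LD2_c55 LD3_c58) (LK LD1_c5 LD2_c32 LD3_c9) Lrfl Lrfl
theorem f250958 : Led Lsl_gf (LP (LK LD1_c8 LD2_c17 LD3_c24)) = (LP (LK LD1_c8 LD2_c16 LD3_c49)) :=
  Lgr Lrot143 (Lpr_dt (K13.f220041 IH) (Lpe (K12.f220038 IH) (Lpr_df (K13.f220205 IH) (Lpr_gf (K14.f250927 IH) (Lpr_df (K15.f236112 IH) (Lpe (K12.f1325 IH) (Lpe (K9.f792 IH) (Lpr_gt (K13.f1301 IH) (Lpr_dt (K15.f1302 IH) (Lpn (LP (LK LD1_c8 LD2_c16 LD3_c49))))))))))))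
theorem f217006 : Led Lsl_dt (LP (LK LD1_c5 LD2_c29 LD3_c58)) = (LP (LK LD1_c2 LD2_c41 LD3_c17)) :=
  Lre_d IH (LK LD1_c5 LD2_c29 LD3_c58) (LK LD1_c2 LD2_c41 LD3_c17) Lrfl Lrfl
theorem f258608 : Led Lsl_gf (LP (LK LD1_c5 LD2_c29 LD3_c58)) = (LP (LK LD1_c5 LD2_c32 LD3_c9)) :=
  Lgr Lrot148 (Lpr_dt (f217006 IH) (Lpr_gt (K13.f217005 IH) (Lpr_dt (K12.f216985 IH) (Lpe (K12.f216982 IH) (Lpr_df (K12.f219978 IH) (Lpe (K12.f220039 IH) (Lpe (K13.f220041 IH) (Lpr_gf (f250958 IH) (Lpr_ct (K15.f258593 IH) (Lpn (LP (LK LD1_c5 LD2_c32 LD3_c9))))))))))))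
theorem f234415 : Led Lsl_cf (LP (LK LD1_c4 LD2_c9 LD3_c33)) = (LP (LK LD1_c8 LD2_c6 LD3_c15)) :=
  Lgr Lrot11 (Lpr_ct (K14.f234360 IH) (Lpn (LP (LK LD1_c8 LD2_c6 LD3_c15))))
theorem f234422 : Led Lsl_gt (LP (LK LD1_c15 LD2_c15 LD3_c28)) = (LP (LK LD1_c25 LD2_c4 LD3_c41)) :=
  Lre_g IH (LK LD1_c15 LD2_c15 LD3_c28) (LK LD1_c25 LD2_c4 LD3_c41) Lrfl Lrfl
theorem f550112 : Led Lsl_bf (LP (LK LD1_c25 LD2_c4 LD3_c41)) = (LP (LK LD1_c28 LD2_c50 LD3_c46)) :=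
  Lgr Lrot34 (Lpe (f234422 IH) (Lpe (K27.f234412 IH) (Lpe (f234415 IH) (Lpe (K14.f254718 IH) (Lpr_cf (K14.f254748 IH) (Lpr_gf (f258608 IH) (Lpe (f213311 IH) (Lpr_ct (K38.f213312 IH) (Lpr_gf (f550085 IH) (Lpr_cf (f550110 IH) (Lpn (LP (LK LD1_c28 LD2_c50 LD3_c46)))))))))))))
theorem f234723 : Led Lsl_ct (LP (LK LD1_c25 LD2_c4 LD3_c41)) = (LP (LK LD1_c31 LD2_c45 LD3_c33)) :=
  Lre_c IH (LK LD1_c25 LD2_c4 LD3_c41) (LK LD1_c31 LD2_c45 LD3_c33) Lrfl Lrfl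
theorem f550116 : Led Lsl_bt (LP (LK LD1_c31 LD2_c45 LD3_c33)) = (LP (LK LD1_c25 LD2_c50 LD3_c21)) :=
  Lgr Lrot128 (Lpe (f234723 IH) (Lpr_bf (f550112 IH) (Lpe (f550108 IH) (Lpe (f388112 IH) (Lpe (f388106 IH) (Lpn (LP (LK LD1_c25 LD2_c50 LD3_c21))))))))
theorem f388088 : Led Lsl_df (LP (LK LD1_c25 LD2_c50 LD3_c21)) = (LP (LK LD1_c19 LD2_c21 LD3_c37)) :=
  Lgr Lrot38 (Lpr_dt (K30.f387968 IH) (Lpn (LP (LK LD1_c19 LD2_c21 LD3_c37))))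
theorem f393005 : Led Lsl_ff (LP (LK LD1_c28 LD2_c52 LD3_c51)) = (LP (LK LD1_c25 LD2_c50 LD3_c21)) :=
  Lgr Lrot19 (Lpr_dt (K42.f392989 IH) (Lpe (K42.f392101 IH) (Lpe (f388088 IH) (Lpn (LP (LK LD1_c25 LD2_c50 LD3_c21))))))
theorem f179428 : Led Lsl_ct (LP (LK LD1_c5 LD2_c27 LD3_c53)) = (LP (LK LD1_c5 LD2_c38 LD3_c54)) :=
  Lre_c IH (LK LD1_c5 LD2_c27 LD3_c53) (LK LD1_c5 LD2_c38 LD3_c54) Lrfl Lrfl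
theorem f277546 : Led Lsl_ct (LP (LK LD1_c10 LD2_c39 LD3_c19)) = (LP (LK LD1_c19 LD2_c17 LD3_c58)) :=
  Lre_c IH (LK LD1_c10 LD2_c39 LD3_c19) (LK LD1_c19 LD2_c17 LD3_c58) Lrfl Lrfl
theorem f286678 : Led Lsl_dt (LP (LK LD1_c19 LD2_c17 LD3_c58)) = (LP (LK LD1_c28 LD2_c43 LD3_c21)) :=
  Lre_d IH (LK LD1_c19 LD2_c17 LD3_c58) (LK LD1_c28 LD2_c43 LD3_c21) Lrfl Lrfl
theorem f295555 : Led Lsl_cf (LP (LK LD1_c19 LD2_c41 LD3_c56)) = (LP (LK LD1_c28 LD2_c43 LD3_c21)) :=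
  Lgr Lrot102 (Lpe (K31.f295533 IH) (Lpr_ff (K18.f295545 IH) (Lpr_dt (K18.f200996 IH) (Lpr_ct (f179428 IH) (Lpr_dt (K31.f244438 IH) (Lpr_ct (K31.f256931 IH) (Lpe (K17.f277515 IH) (Lpr_ct (f277546 IH) (Lpr_dt (f286678 IH) (Lpn (LP (LK LD1_c28 LD2_c43 LD3_c21))))))))))))
theorem f295538 : Led Lsl_at (LP (LK LD1_c19 LD2_c41 LD3_c56)) = (LP (LK LD1_c10 LD2_c53 LD3_c60)) :=
  Lre_a IH (LK LD1_c19 LD2_c41 LD3_c56) (LK LD1_c10 LD2_c53 LD3_c60) Lrfl Lrfl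
theorem f295557 : Led Lsl_at (LP (LK LD1_c19 LD2_c41 LD3_c57)) = (LP (LK LD1_c28 LD2_c43 LD3_c21)) :=
  Lgr Lrot107 (Lpe (K18.f221374 IH) (Lpe (f295538 IH) (Lpr_cf (f295555 IH) (Lpn (LP (LK LD1_c28 LD2_c43 LD3_c21))))))
theorem f295542 : Led Lsl_ff (LP (LK LD1_c19 LD2_c41 LD3_c57)) = (LP (LK LD1_c19 LD2_c30 LD3_c15)) :=
  Lgr Lrot23 (Lpr_ct (K18.f174995 IH) (Lpr_ft (K18.f295536 IH) (Lpr_ct (K42.f244542 IH) (Lpn (LP (LK LD1_c19 LD2_c30 LD3_c15))))))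
theorem f295582 : Led Lsl_gt (LP (LK LD1_c28 LD2_c52 LD3_c51)) = (LP (LK LD1_c28 LD2_c43 LD3_c21)) :=
  Lgr Lrot46 (Lpe (K42.f244762 IH) (Lpe (f295542 IH) (Lpr_at (f295557 IH) (Lpn (LP (LK LD1_c28 LD2_c43 LD3_c21))))))
theorem f286812 : Led Lsl_dt (LP (LK LD1_c28 LD2_c43 LD3_c21)) = (LP (LK LD1_c19 LD2_c17 LD3_c58)) :=
  Lre_d IH (LK LD1_c28 LD2_c43 LD3_c21) (LK LD1_c19 LD2_c17 LD3_c58) Lrfl Lrfl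
theorem f277918 : Led Lsl_ct (LP (LK LD1_c19 LD2_c17 LD3_c58)) = (LP (LK LD1_c10 LD2_c39 LD3_c19)) :=
  Lre_c IH (LK LD1_c19 LD2_c17 LD3_c58) (LK LD1_c10 LD2_c39 LD3_c19) Lrfl Lrfl
theorem f199740 : Led Lsl_gt (LP (LK LD1_c8 LD2_c17 LD3_c12)) = (LP (LK LD1_c15 LD2_c34 LD3_c58)) :=
  Lre_g IH (LK LD1_c8 LD2_c17 LD3_c12) (LK LD1_c15 LD2_c34 LD3_c58) Lrfl Lrfl
theorem f199741 : Led Lsl_dt (LP (LK LD1_c15 LD2_c34 LD3_c58)) = (LP (LK LD1_c25 LD2_c29 LD3_c2)) :=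
  Lre_d IH (LK LD1_c15 LD2_c34 LD3_c58) (LK LD1_c25 LD2_c29 LD3_c2) Lrfl Lrfl
theorem f232155 : Led Lsl_ct (LP (LK LD1_c25 LD2_c29 LD3_c2)) = (LP (LK LD1_c31 LD2_c54 LD3_c32)) :=
  Lre_c IH (LK LD1_c25 LD2_c29 LD3_c2) (LK LD1_c31 LD2_c54 LD3_c32) Lrfl Lrfl
theorem f295584 : Led Lsl_bf (LP (LK LD1_c28 LD2_c52 LD3_c51)) = (LP (LK LD1_c31 LD2_c54 LD3_c32)) :=
  Lgr Lrot184 (Lpr_gt (f295582 IH) (Lpr_dt (f286812 IH) (Lpr_ct (f277918 IH) (Lpr_bt (K17.f277514 IH) (Lpr_gt (K27.f277525 IH) (Lpr_dt (K27.f194443 IH) (Lpr_ct (K12.f194442 IH) (Lpr_bt (K13.f194441 IH) (Lpr_gt (K12.f194439 IH) (Lpr_dt (K10.f28982 IH) (Lpr_ct (K8.f33280 IH) (Lpr_bt (K8.f48158 IH) (Lpr_gt (K13.f232147 IH) (Lpr_dt (K13.f199760 IH) (Lpr_ct (K13.f199695 IH) (Lpr_bt (K23.f199696 IH) (Lpr_gt (f199740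 IH) (Lpr_dt (f199741 IH) (Lpr_ct (f232155 IH) (Lpn (LP (LK LD1_c31 LD2_c54 LD3_c32))))))))))))))))))))))
theorem f295588 : Led Lsl_bt (LP (LK LD1_c28 LD2_c52 LD3_c51)) = (LP (LK LD1_c31 LD2_c54 LD3_c32)) :=
  Lgr Lrot127 (Lpr_bf (f295584 IH) (Lpn (LP (LK LD1_c31 LD2_c54 LD3_c32))))
theorem f550130 : Led Lsl_ff (LP (LK LD1_c31 LD2_c45 LD3_c33)) = (LP (LK LD1_c31 LD2_c54 LD3_c32)) :=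
  Lgr Lrot25 (Lpr_bt (f550116 IH) (Lpe (f393005 IH) (Lpr_bt (f295588 IH) (Lpn (LP (LK LD1_c31 LD2_c54 LD3_c32))))))
theorem f550136 : Led Lsl_ft (LP (LK LD1_c31 LD2_c45 LD3_c33)) = (LP (LK LD1_c31 LD2_c54 LD3_c32)) :=
  Lgr Lrot48 (Lpr_ff (f550130 IH) (Lpn (LP (LK LD1_c31 LD2_c54 LD3_c32))))
theorem f295586 : Led Lsl_ct (LP (LK LD1_c31 LD2_c54 LD3_c32)) = (LP (LK LD1_c25 LD2_c29 LD3_c2)) :=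
  Lre_c IH (LK LD1_c31 LD2_c54 LD3_c32) (LK LD1_c25 LD2_c29 LD3_c2) Lrfl Lrfl
theorem f550138 : Led Lsl_ff (LP (LK LD1_c25 LD2_c4 LD3_c41)) = (LP (LK LD1_c25 LD2_c29 LD3_c2)) :=
  Lgr Lrot23 (Lpr_ct (f234723 IH) (Lpr_ft (f550136 IH) (Lpr_ct (f295586 IH) (Lpn (LP (LK LD1_c25 LD2_c29 LD3_c2))))))
theorem f244996 : Led Lsl_dt (LP (LK LD1_c19 LD2_c28 LD3_c31)) = (LP (LK LD1_c28 LD2_c50 LD3_c46)) :=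
  Lre_d IH (LK LD1_c19 LD2_c28 LD3_c31) (LK LD1_c28 LD2_c50 LD3_c46) Lrfl Lrfl
theorem f386418 : Led Lsl_bf (LP (LK LD1_c19 LD2_c28 LD3_c31)) = (LP (LK LD1_c24 LD2_c50 LD3_c1)) :=
  Lgr Lrot24 (Lpr_bt (K31.f386416 IH) (Lpn (LP (LK LD1_c24 LD2_c50 LD3_c1))))
theorem f550118 : Led Lsl_dt (LP (LK LD1_c25 LD2_c4 LD3_c41)) = (LP (LK LD1_c24 LD2_c50 LD3_c1)) :=
  Lgr Lrot79 (Lpr_bf (f550112 IH) (Lpe (f244996 IH) (Lpr_bf (f386418 IH) (Lpn (LP (LK LD1_c24 LD2_c50 LD3_c1))))))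
theorem f550140 : Led Lsl_ft (LP (LK LD1_c24 LD2_c50 LD3_c1)) = (LP (LK LD1_c15 LD2_c34 LD3_c58)) :=
  Lgr Lrot54 (Lpe (f550118 IH) (Lpr_ff (f550138 IH) (Lpe (f199741 IH) (Lpn (LP (LK LD1_c15 LD2_c34 LD3_c58))))))
theorem f347467 : Led Lsl_gt (LP (LK LD1_c24 LD2_c50 LD3_c1)) = (LP (LK LD1_c15 LD2_c34 LD3_c60)) :=
  Lgr Lrot46 (Lpe (K31.f223078 IH) (Lpr_ft (K23.f347456 IH) (Lpr_at (K23.f199733 IH) (Lpn (LP (LK LD1_c15 LD2_c34 LD3_c60))))))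
theorem f234812 : Led Lsl_gt (LP (LK LD1_c24 LD2_c50 LD3_c2)) = (LP (LK LD1_c15 LD2_c1 LD3_c49)) :=
  Lre_g IH (LK LD1_c24 LD2_c50 LD3_c2) (LK LD1_c15 LD2_c1 LD3_c49) Lrfl Lrfl
theorem f347476 : Led Lsl_gf (LP (LK LD1_c24 LD2_c50 LD3_c2)) = (LP (LK LD1_c15 LD2_c34 LD3_c60)) :=
  Lgr Lrot47 (Lpr_gt (f234812 IH) (Lpe (K23.f234873 IH) (Lpr_ff (K23.f347465 IH) (Lpn (LP (LK LD1_c15 LD2_c34 LD3_c60))))))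
theorem f550147 : Led Lsl_af (LP (LK LD1_c24 LD2_c50 LD3_c2)) = (LP (LK LD1_c15 LD2_c34 LD3_c58)) :=
  Lgr Lrot31 (Lpr_gf (f347476 IH) (Lpe (f347467 IH) (Lpr_ft (f550140 IH) (Lpn (LP (LK LD1_c15 LD2_c34 LD3_c58))))))
theorem f550149 : Led Lsl_at (LP (LK LD1_c24 LD2_c50 LD3_c2)) = (LP (LK LD1_c15 LD2_c34 LD3_c58)) :=
  Lgr Lrot100 (Lpr_af (f550147 IH) (Lpn (LP (LK LD1_c15 LD2_c34 LD3_c58))))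
theorem f199743 : Led Lsl_gt (LP (LK LD1_c15 LD2_c34 LD3_c59)) = (LP (LK LD1_c8 LD2_c17 LD3_c12)) :=
  Lre_g IH (LK LD1_c15 LD2_c34 LD3_c59) (LK LD1_c8 LD2_c17 LD3_c12) Lrfl Lrfl
theorem f550212 : Led Lsl_ff (LP (LK LD1_c24 LD2_c50 LD3_c2)) = (LP (LK LD1_c15 LD2_c34 LD3_c59)) :=
  Lgr Lrot52 (Lpr_at (f550149 IH) (Lpe (f199740 IH) (Lpe (f199743 IH) (Lpn (LP (LK LD1_c15 LD2_c34 LD3_c59))))))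
theorem f550218 : Led Lsl_ft (LP (LK LD1_c24 LD2_c50 LD3_c2)) = (LP (LK LD1_c15 LD2_c34 LD3_c59)) :=
  Lgr Lrot48 (Lpr_ff (f550212 IH) (Lpn (LP (LK LD1_c15 LD2_c34 LD3_c59))))
theorem f550220 : Led Lsl_af (LP (LK LD1_c24 LD2_c50 LD3_c1)) = (LP (LK LD1_c15 LD2_c34 LD3_c59)) :=
  Lgr Lrot45 (Lpr_ft (f550140 IH) (Lpe (f550147 IH) (Lpr_ft (f550218 IH) (Lpn (LP (LK LD1_c15 LD2_c34 LD3_c59))))))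
theorem f550120 : Led Lsl_df (LP (LK LD1_c25 LD2_c4 LD3_c41)) = (LP (LK LD1_c24 LD2_c50 LD3_c1)) :=
  Lgr Lrot38 (Lpr_dt (f550118 IH) (Lpn (LP (LK LD1_c24 LD2_c50 LD3_c1))))
theorem f199757 : Led Lsl_dt (LP (LK LD1_c25 LD2_c29 LD3_c6)) = (LP (LK LD1_c15 LD2_c34 LD3_c59)) :=
  Lre_d IH (LK LD1_c25 LD2_c29 LD3_c6) (LK LD1_c15 LD2_c34 LD3_c59) Lrfl Lrfl
theorem f550301 : Led Lsl_at (LP (LK LD1_c25 LD2_c4 LD3_c41)) = (LP (LK LD1_c25 LD2_c29 LD3_c6)) :=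
  Lgr Lrot51 (Lpr_df (f550120 IH) (Lpr_af (f550220 IH) (Lpe (f199757 IH) (Lpn (LP (LK LD1_c25 LD2_c29 LD3_c6))))))
theorem f550307 : Led Lsl_af (LP (LK LD1_c25 LD2_c4 LD3_c41)) = (LP (LK LD1_c25 LD2_c29 LD3_c6)) :=
  Lgr Lrot0 (Lpr_at (f550301 IH) (Lpn (LP (LK LD1_c25 LD2_c29 LD3_c6))))
theorem f196490 : Led Lsl_gt (LP (LK LD1_c25 LD2_c4 LD3_c42)) = (LP (LK LD1_c15 LD2_c15 LD3_c28)) :=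
  Lre_g IH (LK LD1_c25 LD2_c4 LD3_c42) (LK LD1_c15 LD2_c15 LD3_c28) Lrfl Lrfl
theorem f550325 : Led Lsl_ft (LP (LK LD1_c25 LD2_c4 LD3_c42)) = (LP (LK LD1_c25 LD2_c29 LD3_c6)) :=
  Lgr Lrot2 (Lpr_gt (f196490 IH) (Lpr_gt (f234422 IH) (Lpr_af (f550307 IH) (Lpn (LP (LK LD1_c25 LD2_c29 LD3_c6))))))
theorem f550333 : Led Lsl_ff (LP (LK LD1_c25 LD2_c4 LD3_c42)) = (LP (LK LD1_c25 LD2_c29 LD3_c6)) :=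
  Lgr Lrot3 (Lpr_ft (f550325 IH) (Lpn (LP (LK LD1_c25 LD2_c29 LD3_c6))))
theorem f347484 : Led Lsl_ct (LP (LK LD1_c31 LD2_c54 LD3_c33)) = (LP (LK LD1_c25 LD2_c29 LD3_c6)) :=
  Lre_c IH (LK LD1_c31 LD2_c54 LD3_c33) (LK LD1_c25 LD2_c29 LD3_c6) Lrfl Lrfl
theorem f234734 : Led Lsl_ct (LP (LK LD1_c31 LD2_c45 LD3_c33)) = (LP (LK LD1_c25 LD2_c4 LD3_c41)) :=
  Lre_c IH (LK LD1_c31 LD2_c45 LD3_c33) (LK LD1_c25 LD2_c4 LD3_c41) Lrfl Lrfl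
theorem f347485 : Led Lsl_ct (LP (LK LD1_c25 LD2_c29 LD3_c6)) = (LP (LK LD1_c31 LD2_c54 LD3_c33)) :=
  Lre_c IH (LK LD1_c25 LD2_c29 LD3_c6) (LK LD1_c31 LD2_c54 LD3_c33) Lrfl Lrfl
theorem f550309 : Led Lsl_af (LP (LK LD1_c31 LD2_c45 LD3_c33)) = (LP (LK LD1_c31 LD2_c54 LD3_c33)) :=
  Lgr Lrot68 (Lpr_ct (f234734 IH) (Lpr_at (f550301 IH) (Lpr_ct (f347485 IH) (Lpn (LP (LK LD1_c31 LD2_c54 LD3_c33))))))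
theorem f423845 : Led Lsl_ft (LP (LK LD1_c16 LD2_c19 LD3_c31)) = (LP (LK LD1_c11 LD2_c15 LD3_c32)) :=
  Lgr Lrot4 (Lpe (K31.f385874 IH) (Lpr_ff (K31.f423843 IH) (Lpe (K31.f280500 IH) (Lpn (LP (LK LD1_c11 LD2_c15 LD3_c32))))))
theorem f398576 : Led Lsl_bt (LP (LK LD1_c26 LD2_c17 LD3_c28)) = (LP (LK LD1_c16 LD2_c19 LD3_c31)) :=
  Lre_b IH (LK LD1_c26 LD2_c17 LD3_c28) (LK LD1_c16 LD2_c19 LD3_c31) Lrfl Lrfl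
theorem f280502 : Led Lsl_bt (LP (LK LD1_c11 LD2_c15 LD3_c32)) = (LP (LK LD1_c20 LD2_c10 LD3_c44)) :=
  Lre_b IH (LK LD1_c11 LD2_c15 LD3_c32) (LK LD1_c20 LD2_c10 LD3_c44) Lrfl Lrfl
theorem f424317 : Led Lsl_ff (LP (LK LD1_c26 LD2_c17 LD3_c28)) = (LP (LK LD1_c20 LD2_c10 LD3_c44)) :=
  Lgr Lrot25 (Lpr_bt (f398576 IH) (Lpr_ft (f423845 IH) (Lpr_bt (f280502 IH) (Lpn (LP (LK LD1_c20 LD2_c10 LD3_c44))))))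
theorem f424322 : Led Lsl_ft (LP (LK LD1_c26 LD2_c17 LD3_c28)) = (LP (LK LD1_c20 LD2_c10 LD3_c44)) :=
  Lgr Lrot48 (Lpr_ff (f424317 IH) (Lpn (LP (LK LD1_c20 LD2_c10 LD3_c44))))
theorem f424280 : Led Lsl_at (LP (LK LD1_c28 LD2_c46 LD3_c1)) = (LP (LK LD1_c26 LD2_c17 LD3_c28)) :=
  Lgr Lrot100 (Lpr_af (K42.f424278 IH) (Lpn (LP (LK LD1_c26 LD2_c17 LD3_c28))))
theorem f424327 : Led Lsl_at (LP (LK LD1_c20 LD2_c10 LD3_c44)) = (LP (LK LD1_c29 LD2_c20 LD3_c29)) :=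
  Lre_a IH (LK LD1_c20 LD2_c10 LD3_c44) (LK LD1_c29 LD2_c20 LD3_c29) Lrfl Lrfl
theorem f424328 : Led Lsl_ff (LP (LK LD1_c28 LD2_c46 LD3_c1)) = (LP (LK LD1_c29 LD2_c20 LD3_c29)) :=
  Lgr Lrot30 (Lpr_at (f424280 IH) (Lpr_ft (f424322 IH) (Lpr_at (f424327 IH) (Lpn (LP (LK LD1_c29 LD2_c20 LD3_c29))))))
theorem f392032 : Led Lsl_ft (LP (LK LD1_c19 LD2_c21 LD3_c41)) = (LP (LK LD1_c28 LD2_c45 LD3_c59)) :=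
  Lgr Lrot75 (Lpe (K42.f277379 IH) (Lpr_ff (K42.f392025 IH) (Lpe (K43.f391768 IH) (Lpn (LP (LK LD1_c28 LD2_c45 LD3_c59))))))
theorem f424330 : Led Lsl_ct (LP (LK LD1_c28 LD2_c45 LD3_c59)) = (LP (LK LD1_c29 LD2_c20 LD3_c29)) :=
  Lgr Lrot40 (Lpe (f392032 IH) (Lpe (K42.f218462 IH) (Lpr_ff (f424328 IH) (Lpn (LP (LK LD1_c29 LD2_c20 LD3_c29))))))
theorem f424332 : Led Lsl_bf (LP (LK LD1_c28 LD2_c45 LD3_c57)) = (LP (LK LD1_c29 LD2_c20 LD3_c29)) :=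
  Lgr Lrot90 (Lpr_ct (K42.f224671 IH) (Lpr_bt (K42.f224665 IH) (Lpr_ct (K42.f224670 IH) (Lpr_bt (K43.f391763 IH) (Lpr_ct (f424330 IH) (Lpn (LP (LK LD1_c29 LD2_c20 LD3_c29))))))))
theorem f424336 : Led Lsl_dt (LP (LK LD1_c31 LD2_c54 LD3_c32)) = (LP (LK LD1_c29 LD2_c20 LD3_c29)) :=
  Lgr Lrot79 (Lpe (f295588 IH) (Lpr_df (K42.f393003 IH) (Lpr_bf (f424332 IH) (Lpn (LP (LK LD1_c29 LD2_c20 LD3_c29))))))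
theorem f424338 : Led Lsl_df (LP (LK LD1_c31 LD2_c54 LD3_c32)) = (LP (LK LD1_c29 LD2_c20 LD3_c29)) :=
  Lgr Lrot38 (Lpr_dt (f424336 IH) (Lpn (LP (LK LD1_c29 LD2_c20 LD3_c29))))
theorem f424321 : Led Lsl_dt (LP (LK LD1_c29 LD2_c20 LD3_c30)) = (LP (LK LD1_c20 LD2_c10 LD3_c44)) :=
  Lre_d IH (LK LD1_c29 LD2_c20 LD3_c30) (LK LD1_c20 LD2_c10 LD3_c44) Lrfl Lrfl
theorem f424340 : Led Lsl_at (LP (LK LD1_c31 LD2_c54 LD3_c32)) = (LP (LK LD1_c29 LD2_c20 LD3_c30)) :=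
  Lgr Lrot51 (Lpr_df (f424338 IH) (Lpe (f424327 IH) (Lpe (f424321 IH) (Lpn (LP (LK LD1_c29 LD2_c20 LD3_c30))))))
theorem f550315 : Led Lsl_ft (LP (LK LD1_c29 LD2_c20 LD3_c30)) = (LP (LK LD1_c31 LD2_c54 LD3_c33)) :=
  Lgr Lrot101 (Lpe (f424340 IH) (Lpe (f550136 IH) (Lpr_af (f550309 IH) (Lpn (LP (LK LD1_c31 LD2_c54 LD3_c33))))))
theorem f550337 : Led Lsl_ct (LP (LK LD1_c25 LD2_c4 LD3_c42)) = (LP (LK LD1_c29 LD2_c20 LD3_c30)) :=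
  Lgr Lrot40 (Lpr_ff (f550333 IH) (Lpe (f347484 IH) (Lpe (f550315 IH) (Lpn (LP (LK LD1_c29 LD2_c20 LD3_c30))))))
theorem f550331 : Led Lsl_df (LP (LK LD1_c25 LD2_c4 LD3_c42)) = (LP (LK LD1_c24 LD2_c50 LD3_c2)) :=
  Lgr Lrot78 (Lpr_ft (f550325 IH) (Lpr_dt (f199757 IH) (Lpe (f550212 IH) (Lpn (LP (LK LD1_c24 LD2_c50 LD3_c2))))))
theorem f339381 : Led Lsl_ft (LP (LK LD1_c10 LD2_c32 LD3_c19)) = (LP (LK LD1_c5 LD2_c25 LD3_c29)) :=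
  Lgr Lrot54 (Lpr_df (K30.f221781 IH) (Lpr_ff (K22.f339356 IH) (Lpe (K30.f224116 IH) (Lpn (LP (LK LD1_c5 LD2_c25 LD3_c29))))))
theorem f224137 : Led Lsl_at (LP (LK LD1_c5 LD2_c25 LD3_c29)) = (LP (LK LD1_c10 LD2_c42 LD3_c3)) :=
  Lre_a IH (LK LD1_c5 LD2_c25 LD3_c29) (LK LD1_c10 LD2_c42 LD3_c3) Lrfl Lrfl
theorem f398432 : Led Lsl_gt (LP (LK LD1_c16 LD2_c15 LD3_c10)) = (LP (LK LD1_c10 LD2_c42 LD3_c3)) :=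
  Lgr Lrot46 (Lpr_gf (K31.f398430 IH) (Lpr_ft (f339381 IH) (Lpr_at (f224137 IH) (Lpn (LP (LK LD1_c10 LD2_c42 LD3_c3))))))
theorem f69738 : Led Lsl_gt (LP (LK LD1_c8 LD2_c1 LD3_c42)) = (LP (LK LD1_c4 LD2_c0 LD3_c22)) :=
  Lre_g IH (LK LD1_c8 LD2_c1 LD3_c42) (LK LD1_c4 LD2_c0 LD3_c22) Lrfl Lrfl
theorem f201534 : Led Lsl_bt (LP (LK LD1_c15 LD2_c7 LD3_c4)) = (LP (LK LD1_c8 LD2_c1 LD3_c42)) :=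
  Lre_b IH (LK LD1_c15 LD2_c7 LD3_c4) (LK LD1_c8 LD2_c1 LD3_c42) Lrfl Lrfl
theorem f587253 : Led Lsl_ct (LP (LK LD1_c19 LD2_c59 LD3_c37)) = (LP (LK LD1_c15 LD2_c7 LD3_c4)) :=
  Lgr Lrot191 (Lpe (f587251 IH) (Lpr_gf (f587249 IH) (Lpe (f552664 IH) (Lpr_cf (K41.f552659 IH) (Lpe (K41.f424345 IH) (Lpr_gf (K41.f424222 IH) (Lpe (f424221 IH) (Lpe (f550337 IH) (Lpr_df (f550331 IH) (Lpr_gf (f347476 IH) (Lpe (K23.f347470 IH) (Lpe (K38.f351749 IH) (Lpe (K38.f224130 IH) (Lpe (f398432 IH) (Lpr_bf (K31.f373777 IH) (Lpe (K18.f39302 IH) (Lpr_df (K18.f201521 IH) (Lpe (f69738 IH) (Lpe (f201534 IH) (Lpn (LP (LK LD1_c15 LD2_c7 LD3_c4))))))))))))))))))))))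
theorem f587259 : Led Lsl_cf (LP (LK LD1_c19 LD2_c59 LD3_c37)) = (LP (LK LD1_c15 LD2_c7 LD3_c4)) :=
  Lgr Lrot11 (Lpr_ct (f587253 IH) (Lpn (LP (LK LD1_c15 LD2_c7 LD3_c4))))
theorem f30600 : Led Lsl_ct (LP (LK LD1_c15 LD2_c7 LD3_c21)) = (LP (LK LD1_c8 LD2_c1 LD3_c54)) :=
  Lre_c IH (LK LD1_c15 LD2_c7 LD3_c21) (LK LD1_c8 LD2_c1 LD3_c54) Lrfl Lrfl
theorem f561693 : Led Lsl_bt (LP (LK LD1_c6 LD2_c15 LD3_c30)) = (LP (LK LD1_c9 LD2_c44 LD3_c34)) :=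
  Lgr Lrot22 (Lpr_ct (K40.f60807 IH) (Lpe (K40.f60837 IH) (Lpr_cf (K40.f561687 IH) (Lpe (K39.f172682 IH) (Lpe (K40.f182349 IH) (Lpr_ct (K13.f179872 IH) (Lpe (K11.f180287 IH) (Lpe (K11.f182326 IH) (Lpr_bt (K39.f211150 IH) (Lpe (K43.f297433 IH) (Lpn (LP (LK LD1_c9 LD2_c44 LD3_c34)))))))))))))
theorem f573433 : Led Lsl_bt (LP (LK LD1_c8 LD2_c1 LD3_c54)) = (LP (LK LD1_c12 LD2_c8 LD3_c57)) :=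
  Lgr Lrot95 (Lpr_df (K44.f573431 IH) (Lpe (f561693 IH) (Lpe (K43.f561692 IH) (Lpn (LP (LK LD1_c12 LD2_c8 LD3_c57))))))
theorem f569866 : Led Lsl_ct (LP (LK LD1_c8 LD2_c1 LD3_c54)) = (LP (LK LD1_c15 LD2_c7 LD3_c21)) :=
  Lre_c IH (LK LD1_c8 LD2_c1 LD3_c54) (LK LD1_c15 LD2_c7 LD3_c21) Lrfl Lrfl
theorem f400047 : Led Lsl_bt (LP (LK LD1_c16 LD2_c21 LD3_c24)) = (LP (LK LD1_c8 LD2_c44 LD3_c7)) :=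
  Lre_b IH (LK LD1_c16 LD2_c21 LD3_c24) (LK LD1_c8 LD2_c44 LD3_c7) Lrfl Lrfl
theorem f236876 : Led Lsl_ct (LP (LK LD1_c8 LD2_c1 LD3_c53)) = (LP (LK LD1_c15 LD2_c7 LD3_c19)) :=
  Lre_c IH (LK LD1_c8 LD2_c1 LD3_c53) (LK LD1_c15 LD2_c7 LD3_c19) Lrfl Lrfl
theorem f400053 : Led Lsl_gt (LP (LK LD1_c15 LD2_c7 LD3_c19)) = (LP (LK LD1_c24 LD2_c55 LD3_c46)) :=
  Lre_g IH (LK LD1_c15 LD2_c7 LD3_c19) (LK LD1_c24 LD2_c55 LD3_c46) Lrfl Lrfl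
theorem f400054 : Led Lsl_cf (LP (LK LD1_c24 LD2_c55 LD3_c46)) = (LP (LK LD1_c16 LD2_c21 LD3_c24)) :=
  Lgr Lrot163 (Lpe (f400053 IH) (Lpe (f236876 IH) (Lpe (K43.f30811 IH) (Lpe (K35.f30012 IH) (Lpr_ct (K1.f29583 IH) (Lpr_gf (K13.f237291 IH) (Lpe (K13.f216814 IH) (Lpr_bt (K18.f201462 IH) (Lpr_gf (K41.f400043 IH) (Lpe (f400047 IH) (Lpn (LP (LK LD1_c16 LD2_c21 LD3_c24)))))))))))))
theorem f573986 : Led Lsl_gf (LP (LK LD1_c15 LD2_c7 LD3_c21)) = (LP (LK LD1_c24 LD2_c55 LD3_c46)) :=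
  Lgr Lrot126 (Lpe (f569866 IH) (Lpr_bt (f573433 IH) (Lpr_gt (K43.f573982 IH) (Lpr_ct (K39.f181303 IH) (Lpr_gt (K30.f411670 IH) (Lpe (K30.f210441 IH) (Lpr_bt (K31.f262276 IH) (Lpr_gt (K41.f400041 IH) (Lpe (f400047 IH) (Lpe (f400054 IH) (Lpn (LP (LK LD1_c24 LD2_c55 LD3_c46)))))))))))))
theorem f554497 : Led Lsl_dt (LP (LK LD1_c8 LD2_c44 LD3_c35)) = (LP (LK LD1_c15 LD2_c23 LD3_c31)) :=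
  Lgr Lrot27 (Lpe (K39.f418224 IH) (Lpe (K39.f418221 IH) (Lpe (K7.f29374 IH) (Lpe (K39.f29406 IH) (Lpe (K39.f158612 IH) (Lpr_gt (K39.f552339 IH) (Lpe (K9.f70031 IH) (Lpr_gt (K39.f554495 IH) (Lpr_ct (K39.f418854 IH) (Lpn (LP (LK LD1_c15 LD2_c23 LD3_c31))))))))))))
theorem f587263 : Led Lsl_gt (LP (LK LD1_c15 LD2_c23 LD3_c31)) = (LP (LK LD1_c15 LD2_c7 LD3_c4)) :=
  Lgr Lrot9 (Lpe (f554497 IH) (Lpe (K42.f570997 IH) (Lpe (f400054 IH) (Lpe (f573986 IH) (Lpr_ct (f30600 IH) (Lpr_df (K44.f573431 IH) (Lpr_cf (K43.f419028 IH) (Lpe (f419033 IH) (Lpr_cf (f587259 IH) (Lpn (LP (LK LD1_c15 LD2_c7 LD3_c4))))))))))))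
theorem f554444 : Led Lsl_gt (LP (LK LD1_c15 LD2_c7 LD3_c12)) = (LP (LK LD1_c24 LD2_c55 LD3_c26)) :=
  Lre_g IH (LK LD1_c15 LD2_c7 LD3_c12) (LK LD1_c24 LD2_c55 LD3_c26) Lrfl Lrfl
theorem f587265 : Led Lsl_cf (LP (LK LD1_c16 LD2_c21 LD3_c38)) = (LP (LK LD1_c24 LD2_c55 LD3_c26)) :=
  Lgr Lrot175 (Lpr_dt (f587251 IH) (Lpr_cf (f587259 IH) (Lpe (f587263 IH) (Lpe (K39.f418854 IH) (Lpe (K39.f554495 IH) (Lpr_dt (K39.f70028 IH) (Lpr_gt (K40.f554441 IH) (Lpr_ct (f554445 IH) (Lpr_gt (f554444 IH) (Lpn (LP (LK LD1_c24 LD2_c55 LD3_c26))))))))))))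
theorem f587269 : Led Lsl_df (LP (LK LD1_c16 LD2_c21 LD3_c38)) = (LP (LK LD1_c19 LD2_c59 LD3_c37)) :=
  Lgr Lrot162 (Lpr_cf (f587265 IH) (Lpe (f554444 IH) (Lpe (f554445 IH) (Lpe (K40.f554441 IH) (Lpr_dt (K39.f70024 IH) (Lpr_gt (K39.f554495 IH) (Lpr_ct (K39.f418854 IH) (Lpr_gt (f587263 IH) (Lpe (f587259 IH) (Lpn (LP (LK LD1_c19 LD2_c59 LD3_c37))))))))))))
theorem f587223 : Led Lsl_ef (LP (LK LD1_c8 LD2_c1 LD3_c46)) = (LP (LK LD1_c4 LD2_c23 LD3_c18)) :=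
  Lgr Lrot88 (Lpr_et (f587219 IH) (Lpn (LP (LK LD1_c4 LD2_c23 LD3_c18))))
theorem f574533 : Led Lsl_gt (LP (LK LD1_c8 LD2_c25 LD3_c53)) = (LP (LK LD1_c15 LD2_c12 LD3_c59)) :=
  Lgr Lrot82 (Lpe (K43.f574532 IH) (Lpr_ct (K43.f574523 IH) (Lpe (K43.f436719 IH) (Lpe (K38.f132811 IH) (Lpr_bt (K43.f132593 IH) (Lpe (K39.f556453 IH) (Lpe (K43.f552283 IH) (Lpr_ct (K43.f552274 IH) (Lpe (K43.f573748 IH) (Lpe (K43.f242254 IH) (Lpn (LP (LK LD1_c15 LD2_c12 LD3_c59)))))))))))))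
theorem f587276 : Led Lsl_ef (LP (LK LD1_c15 LD2_c12 LD3_c59)) = (LP (LK LD1_c19 LD2_c59 LD3_c37)) :=
  Lgr Lrot17 (Lpe (f574533 IH) (Lpr_ef (K43.f574613 IH) (Lpe (f573448 IH) (Lpr_gf (K41.f564997 IH) (Lpe (K42.f564999 IH) (Lpe (K43.f571099 IH) (Lpr_ef (f587223 IH) (Lpr_dt (f572106 IH) (Lpe (f572113 IH) (Lpr_df (f587269 IH) (Lpn (LP (LK LD1_c19 LD2_c59 LD3_c37)))))))))))))
theorem f574582 : Led Lsl_ft (LP (LK LD1_c15 LD2_c12 LD3_c59)) = (LP (LK LD1_c12 LD2_c6 LD3_c13)) :=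
  Lgr Lrot48 (Lpr_ff (K43.f574578 IH) (Lpn (LP (LK LD1_c12 LD2_c6 LD3_c13))))
theorem f206067 : Led Lsl_et (LP (LK LD1_c12 LD2_c6 LD3_c13)) = (LP (LK LD1_c6 LD2_c13 LD3_c45)) :=
  Lre_e IH (LK LD1_c12 LD2_c6 LD3_c13) (LK LD1_c6 LD2_c13 LD3_c45) Lrfl Lrfl
theorem f502438 : Led Lsl_ft (LP (LK LD1_c6 LD2_c13 LD3_c45)) = (LP (LK LD1_c8 LD2_c2 LD3_c5)) :=
  Lgr Lrot4 (Lpr_cf (K40.f206065 IH) (Lpr_ff (K43.f502436 IH) (Lpe (K36.f420638 IH) (Lpn (LP (LK LD1_c8 LD2_c2 LD3_c5))))))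
theorem f587282 : Led Lsl_ft (LP (LK LD1_c15 LD2_c7 LD3_c50)) = (LP (LK LD1_c19 LD2_c59 LD3_c37)) :=
  Lgr Lrot86 (Lpe (K42.f420644 IH) (Lpe (f502438 IH) (Lpe (f206067 IH) (Lpe (f574582 IH) (Lpr_ef (f587276 IH) (Lpn (LP (LK LD1_c19 LD2_c59 LD3_c37))))))))
theorem f587292 : Led Lsl_af (LP (LK LD1_c15 LD2_c7 LD3_c4)) = (LP (LK LD1_c19 LD2_c59 LD3_c37)) :=
  Lgr Lrot31 (Lpe (f587263 IH) (Lpe (K42.f570991 IH) (Lpr_ft (f587282 IH) (Lpn (LP (LK LD1_c19 LD2_c59 LD3_c37))))))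
theorem f587286 : Led Lsl_ff (LP (LK LD1_c15 LD2_c5 LD3_c43)) = (LP (LK LD1_c15 LD2_c7 LD3_c4)) :=
  Lgr Lrot23 (Lpe (K42.f570989 IH) (Lpr_ft (f587282 IH) (Lpr_ct (f587253 IH) (Lpn (LP (LK LD1_c15 LD2_c7 LD3_c4))))))
theorem f587296 : Led Lsl_at (LP (LK LD1_c15 LD2_c5 LD3_c43)) = (LP (LK LD1_c15 LD2_c7 LD3_c50)) :=
  Lgr Lrot66 (Lpr_ff (f587286 IH) (Lpr_af (f587292 IH) (Lpe (f587282 IH) (Lpn (LP (LK LD1_c15 LD2_c7 LD3_c50))))))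
theorem f587302 : Led Lsl_gt (LP (LK LD1_c15 LD2_c7 LD3_c4)) = (LP (LK LD1_c15 LD2_c13 LD3_c17)) :=
  Lgr Lrot5 (Lpe (f587286 IH) (Lpr_at (f587296 IH) (Lpr_gf (K42.f570983 IH) (Lpn (LP (LK LD1_c15 LD2_c13 LD3_c17))))))
theorem f587278 : Led Lsl_et (LP (LK LD1_c15 LD2_c13 LD3_c15)) = (LP (LK LD1_c15 LD2_c7 LD3_c4)) :=
  Lgr Lrot158 (Lpe (K43.f242254 IH) (Lpr_ef (f587276 IH) (Lpr_cf (f587259 IH) (Lpn (LP (LK LD1_c15 LD2_c7 LD3_c4))))))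
theorem f158643 : Led Lsl_dt (LP (LK LD1_c15 LD2_c13 LD3_c17)) = (LP (LK LD1_c25 LD2_c2 LD3_c15)) :=
  Lre_d IH (LK LD1_c15 LD2_c13 LD3_c17) (LK LD1_c25 LD2_c2 LD3_c15) Lrfl Lrfl
theorem f574551 : Led Lsl_ef (LP (LK LD1_c15 LD2_c50 LD3_c5)) = (LP (LK LD1_c9 LD2_c14 LD3_c47)) :=
  Lgr Lrot88 (Lpr_et (K43.f574544 IH) (Lpn (LP (LK LD1_c9 LD2_c14 LD3_c47))))
theorem f569647 : Led Lsl_ef (LP (LK LD1_c7 LD2_c56 LD3_c58)) = (LP (LK LD1_c13 LD2_c30 LD3_c36)) :=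
  Lgr Lrot29 (Lpr_bt (K8.f37049 IH) (Lpr_et (K42.f569642 IH) (Lpr_bt (f569646 IH) (Lpn (LP (LK LD1_c13 LD2_c30 LD3_c36))))))
theorem f565659 : Led Lsl_dt (LP (LK LD1_c13 LD2_c30 LD3_c36)) = (LP (LK LD1_c22 LD2_c51 LD3_c27)) :=
  Lre_d IH (LK LD1_c13 LD2_c30 LD3_c36) (LK LD1_c22 LD2_c51 LD3_c27) Lrfl Lrfl
theorem f574619 : Led Lsl_gf (LP (LK LD1_c22 LD2_c51 LD3_c27)) = (LP (LK LD1_c16 LD2_c21 LD3_c49)) :=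
  Lgr Lrot145 (Lpe (f565659 IH) (Lpe (f569647 IH) (Lpe (K28.f203287 IH) (Lpr_dt (K40.f29504 IH) (Lpe (K40.f558244 IH) (Lpe (K40.f558187 IH) (Lpe (f574551 IH) (Lpr_gt (K43.f574535 IH) (Lpr_ef (K43.f574613 IH) (Lpe (f573448 IH) (Lpn (LP (LK LD1_c16 LD2_c21 LD3_c49)))))))))))))
theorem f565658 : Led Lsl_dt (LP (LK LD1_c22 LD2_c51 LD3_c27)) = (LP (LK LD1_c13 LD2_c30 LD3_c36)) :=
  Lre_d IH (LK LD1_c22 LD2_c51 LD3_c27) (LK LD1_c13 LD2_c30 LD3_c36) Lrfl Lrfl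
theorem f587210 : Led Lsl_cf (LP (LK LD1_c13 LD2_c30 LD3_c36)) = (LP (LK LD1_c8 LD2_c44 LD3_c17)) :=
  Lgr Lrot39 (Lpe (f569647 IH) (Lpr_ct (K8.f158251 IH) (Lpr_et (f587204 IH) (Lpn (LP (LK LD1_c8 LD2_c44 LD3_c17))))))
theorem f587261 : Led Lsl_dt (LP (LK LD1_c16 LD2_c21 LD3_c37)) = (LP (LK LD1_c8 LD2_c44 LD3_c17)) :=
  Lre_d IH (LK LD1_c16 LD2_c21 LD3_c37) (LK LD1_c8 LD2_c44 LD3_c17) Lrfl Lrfl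
theorem f587304 : Led Lsl_gf (LP (LK LD1_c16 LD2_c21 LD3_c37)) = (LP (LK LD1_c25 LD2_c2 LD3_c15)) :=
  Lgr Lrot154 (Lpr_dt (f587261 IH) (Lpe (f587210 IH) (Lpe (f565658 IH) (Lpr_gf (f574619 IH) (Lpr_df (f573448 IH) (Lpe (f419033 IH) (Lpr_ct (f587253 IH) (Lpr_gt (f587302 IH) (Lpr_dt (f158643 IH) (Lpn (LP (LK LD1_c25 LD2_c2 LD3_c15))))))))))))
theorem f587212 : Led Lsl_dt (LP (LK LD1_c8 LD2_c44 LD3_c17)) = (LP (LK LD1_c16 LD2_c21 LD3_c37)) :=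
  Lre_d IH (LK LD1_c8 LD2_c44 LD3_c17) (LK LD1_c16 LD2_c21 LD3_c37) Lrfl Lrfl
theorem f587213 : Led Lsl_ef (LP (LK LD1_c4 LD2_c25 LD3_c43)) = (LP (LK LD1_c8 LD2_c44 LD3_c17)) :=
  Lgr Lrot88 (Lpr_et (f587204 IH) (Lpn (LP (LK LD1_c8 LD2_c44 LD3_c17))))
theorem f149426 : Led Lsl_dt (LP (LK LD1_c4 LD2_c25 LD3_c45)) = (LP (LK LD1_c8 LD2_c48 LD3_c61)) :=
  Lre_d IH (LK LD1_c4 LD2_c25 LD3_c45) (LK LD1_c8 LD2_c48 LD3_c61) Lrfl Lrfl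
theorem f557677 : Led Lsl_gt (LP (LK LD1_c8 LD2_c48 LD3_c61)) = (LP (LK LD1_c16 LD2_c29 LD3_c23)) :=
  Lre_g IH (LK LD1_c8 LD2_c48 LD3_c61) (LK LD1_c16 LD2_c29 LD3_c23) Lrfl Lrfl
theorem f587310 : Led Lsl_dt (LP (LK LD1_c15 LD2_c13 LD3_c15)) = (LP (LK LD1_c16 LD2_c29 LD3_c23)) :=
  Lgr Lrot37 (Lpr_et (f587278 IH) (Lpr_gt (f587302 IH) (Lpr_dt (f158643 IH) (Lpe (f587304 IH) (Lpe (f587212 IH) (Lpe (f587213 IH) (Lpr_gt (K8.f38525 IH) (Lpe (K32.f149425 IH) (Lpr_dt (f149426 IH) (Lpr_gt (f557677 IH) (Lpn (LP (LK LD1_c16 LD2_c29 LD3_c23)))))))))))))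
theorem f556847 : Led Lsl_et (LP (LK LD1_c15 LD2_c13 LD3_c17)) = (LP (LK LD1_c8 LD2_c5 LD3_c0)) :=
  Lre_e IH (LK LD1_c15 LD2_c13 LD3_c17) (LK LD1_c8 LD2_c5 LD3_c0) Lrfl Lrfl
theorem f29388 : Led Lsl_gt (LP (LK LD1_c15 LD2_c7 LD3_c14)) = (LP (LK LD1_c8 LD2_c1 LD3_c57)) :=
  Lre_g IH (LK LD1_c15 LD2_c7 LD3_c14) (LK LD1_c8 LD2_c1 LD3_c57) Lrfl Lrfl
theorem f556590 : Led Lsl_dt (LP (LK LD1_c8 LD2_c10 LD3_c26)) = (LP (LK LD1_c15 LD2_c7 LD3_c14)) :=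
  Lgr Lrot171 (Lpe (K39.f554495 IH) (Lpe (K9.f70025 IH) (Lpr_dt (K32.f70100 IH) (Lpe (K39.f156803 IH) (Lpe (K39.f29482 IH) (Lpr_et (K39.f156805 IH) (Lpr_gf (K39.f556582 IH) (Lpe (K39.f29367 IH) (Lpr_dt (K7.f29363 IH) (Lpe (f29388 IH) (Lpn (LP (LK LD1_c15 LD2_c7 LD3_c14)))))))))))))
theorem f158615 : Led Lsl_dt (LP (LK LD1_c25 LD2_c2 LD3_c15)) = (LP (LK LD1_c15 LD2_c13 LD3_c17)) :=
  Lre_d IH (LK LD1_c25 LD2_c2 LD3_c15) (LK LD1_c15 LD2_c13 LD3_c17) Lrfl Lrfl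
theorem f556597 : Led Lsl_cf (LP (LK LD1_c25 LD2_c2 LD3_c15)) = (LP (LK LD1_c24 LD2_c55 LD3_c38)) :=
  Lgr Lrot175 (Lpr_dt (f158615 IH) (Lpe (K42.f158642 IH) (Lpr_gf (K39.f552341 IH) (Lpe (K39.f192793 IH) (Lpe (K39.f53125 IH) (Lpr_dt (f556590 IH) (Lpr_gt (f29388 IH) (Lpr_ct (K7.f29364 IH) (Lpr_gt (K43.f30517 IH) (Lpn (LP (LK LD1_c24 LD2_c55 LD3_c38))))))))))))
theorem f556599 : Led Lsl_ct (LP (LK LD1_c25 LD2_c2 LD3_c15)) = (LP (LK LD1_c24 LD2_c55 LD3_c38)) :=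
  Lgr Lrot59 (Lpr_cf (f556597 IH) (Lpn (LP (LK LD1_c24 LD2_c55 LD3_c38))))
theorem f556845 : Led Lsl_gf (LP (LK LD1_c25 LD2_c2 LD3_c15)) = (LP (LK LD1_c16 LD2_c21 LD3_c24)) :=
  Lgr Lrot181 (Lpr_ct (f556599 IH) (Lpr_gt (K43.f29404 IH) (Lpe (K7.f29374 IH) (Lpe (K35.f30013 IH) (Lpr_gt (K35.f538842 IH) (Lpe (K41.f410597 IH) (Lpr_ct (K41.f556837 IH) (Lpr_gt (K41.f400111 IH) (Lpe (K42.f400045 IH) (Lpr_bt (K42.f400056 IH) (Lpn (LP (LK LD1_c16 LD2_c21 LD3_c24)))))))))))))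
theorem f556466 : Led Lsl_dt (LP (LK LD1_c8 LD2_c5 LD3_c10)) = (LP (LK LD1_c8 LD2_c2 LD3_c17)) :=
  Lgr Lrot79 (Lpr_bf (K39.f556462 IH) (Lpe (K39.f308554 IH) (Lpr_bf (K39.f427927 IH) (Lpn (LP (LK LD1_c8 LD2_c2 LD3_c17))))))
theorem f567198 : Led Lsl_dt (LP (LK LD1_c23 LD2_c13 LD3_c38)) = (LP (LK LD1_c13 LD2_c46 LD3_c27)) :=
  Lre_d IH (LK LD1_c23 LD2_c13 LD3_c38) (LK LD1_c13 LD2_c46 LD3_c27) Lrfl Lrfl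
theorem f587314 : Led Lsl_gf (LP (LK LD1_c23 LD2_c13 LD3_c38)) = (LP (LK LD1_c16 LD2_c29 LD3_c23)) :=
  Lgr Lrot143 (Lpr_dt (f567198 IH) (Lpe (K43.f567196 IH) (Lpe (f556466 IH) (Lpr_gf (K39.f554365 IH) (Lpe (K39.f346850 IH) (Lpr_gf (K39.f552269 IH) (Lpe (K42.f421592 IH) (Lpr_gt (K43.f242255 IH) (Lpr_dt (f587310 IH) (Lpn (LP (LK LD1_c16 LD2_c29 LD3_c23))))))))))))
theorem f5230 : Led Lsl_dt (LP (LK LD1_c13 LD2_c46 LD3_c27)) = (LP (LK LD1_c23 LD2_c13 LD3_c38)) :=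
  Lre_d IH (LK LD1_c13 LD2_c46 LD3_c27) (LK LD1_c23 LD2_c13 LD3_c38) Lrfl Lrfl
theorem f587316 : Led Lsl_ef (LP (LK LD1_c8 LD2_c50 LD3_c19)) = (LP (LK LD1_c13 LD2_c46 LD3_c27)) :=
  Lgr Lrot114 (Lpr_gt (K39.f556681 IH) (Lpe (K42.f570606 IH) (Lpr_dt (K42.f400059 IH) (Lpe (f556845 IH) (Lpe (f158643 IH) (Lpr_et (f556847 IH) (Lpr_gt (K43.f242255 IH) (Lpr_dt (f587310 IH) (Lpe (f587314 IH) (Lpe (f5230 IH) (Lpn (LP (LK LD1_c13 LD2_c46 LD3_c27)))))))))))))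
theorem f237447 : Led Lsl_ct (LP (LK LD1_c8 LD2_c5 LD3_c5)) = (LP (LK LD1_c4 LD2_c2 LD3_c17)) :=
  Lre_c IH (LK LD1_c8 LD2_c5 LD3_c5) (LK LD1_c4 LD2_c2 LD3_c17) Lrfl Lrfl
theorem f203342 : Led Lsl_dt (LP (LK LD1_c8 LD2_c48 LD3_c61)) = (LP (LK LD1_c4 LD2_c25 LD3_c45)) :=
  Lre_d IH (LK LD1_c8 LD2_c48 LD3_c61) (LK LD1_c4 LD2_c25 LD3_c45) Lrfl Lrfl
theorem f149427 : Led Lsl_gt (LP (LK LD1_c16 LD2_c29 LD3_c24)) = (LP (LK LD1_c8 LD2_c48 LD3_c61)) :=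
  Lre_g IH (LK LD1_c16 LD2_c29 LD3_c24) (LK LD1_c8 LD2_c48 LD3_c61) Lrfl Lrfl
theorem f574572 : Led Lsl_df (LP (LK LD1_c16 LD2_c29 LD3_c24)) = (LP (LK LD1_c12 LD2_c6 LD3_c13)) :=
  Lgr Lrot153 (Lpr_gt (f149427 IH) (Lpr_dt (f203342 IH) (Lpr_cf (K32.f158208 IH) (Lpe (K43.f556488 IH) (Lpe (K39.f34043 IH) (Lpe (K39.f81408 IH) (Lpe (K39.f81412 IH) (Lpe (f237447 IH) (Lpr_gt (K43.f574564 IH) (Lpn (LP (LK LD1_c12 LD2_c6 LD3_c13))))))))))))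
theorem f587322 : Led Lsl_gf (LP (LK LD1_c16 LD2_c29 LD3_c24)) = (LP (LK LD1_c23 LD2_c13 LD3_c38)) :=
  Lgr Lrot145 (Lpr_df (f574572 IH) (Lpr_et (f206067 IH) (Lpr_gt (K40.f425873 IH) (Lpe (K36.f499051 IH) (Lpe (K38.f548813 IH) (Lpr_df (K43.f548803 IH) (Lpr_et (K41.f138755 IH) (Lpe (K41.f565842 IH) (Lpr_ef (f587316 IH) (Lpr_dt (f5230 IH) (Lpn (LP (LK LD1_c23 LD2_c13 LD3_c38)))))))))))))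
theorem f574566 : Led Lsl_df (LP (LK LD1_c15 LD2_c50 LD3_c5)) = (LP (LK LD1_c23 LD2_c14 LD3_c59)) :=
  Lgr Lrot162 (Lpr_cf (K43.f574549 IH) (Lpe (K43.f574564 IH) (Lpe (K43.f552274 IH) (Lpe (K39.f552265 IH) (Lpr_dt (K39.f346850 IH) (Lpe (K39.f554365 IH) (Lpr_ct (K43.f554367 IH) (Lpr_gt (K43.f574562 IH) (Lpe (K43.f574560 IH) (Lpn (LP (LK LD1_c23 LD2_c14 LD3_c59))))))))))))
theorem f587326 : Led Lsl_dt (LP (LK LD1_c16 LD2_c29 LD3_c24)) = (LP (LK LD1_c12 LD2_c6 LD3_c13)) :=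
  Lgr Lrot105 (Lpr_gf (f587322 IH) (Lpe (f5230 IH) (Lpe (K41.f5195 IH) (Lpr_cf (K42.f5550 IH) (Lpe (K42.f571593 IH) (Lpr_dt (K43.f158204 IH) (Lpe (K43.f574555 IH) (Lpe (f574566 IH) (Lpr_cf (K43.f574549 IH) (Lpn (LP (LK LD1_c12 LD2_c6 LD3_c13))))))))))))
theorem f420412 : Led Lsl_et (LP (LK LD1_c8 LD2_c48 LD3_c16)) = (LP (LK LD1_c16 LD2_c28 LD3_c24)) :=
  Lre_e IH (LK LD1_c8 LD2_c48 LD3_c16) (LK LD1_c16 LD2_c28 LD3_c24) Lrfl Lrfl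
theorem f160725 : Led Lsl_dt (LP (LK LD1_c16 LD2_c28 LD3_c24)) = (LP (LK LD1_c26 LD2_c25 LD3_c31)) :=
  Lre_d IH (LK LD1_c16 LD2_c28 LD3_c24) (LK LD1_c26 LD2_c25 LD3_c31) Lrfl Lrfl
theorem f587336 : Led Lsl_ef (LP (LK LD1_c16 LD2_c29 LD3_c24)) = (LP (LK LD1_c26 LD2_c25 LD3_c31)) :=
  Lgr Lrot73 (Lpr_dt (f587326 IH) (Lpr_et (f206067 IH) (Lpr_dt (K40.f420410 IH) (Lpr_et (f420412 IH) (Lpr_dt (f160725 IH) (Lpn (LP (LK LD1_c26 LD2_c25 LD3_c31))))))))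
theorem f420403 : Led Lsl_bt (LP (LK LD1_c16 LD2_c28 LD3_c26)) = (LP (LK LD1_c26 LD2_c25 LD3_c31)) :=
  Lre_b IH (LK LD1_c16 LD2_c28 LD3_c26) (LK LD1_c26 LD2_c25 LD3_c31) Lrfl Lrfl
theorem f587338 : Led Lsl_bt (LP (LK LD1_c16 LD2_c29 LD3_c24)) = (LP (LK LD1_c12 LD2_c6 LD3_c15)) :=
  Lgr Lrot119 (Lpr_ef (f587336 IH) (Lpe (f420403 IH) (Lpe (K43.f420400 IH) (Lpn (LP (LK LD1_c12 LD2_c6 LD3_c15))))))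
theorem f5036 : Led Lsl_bt (LP (LK LD1_c7 LD2_c16 LD3_c53)) = (LP (LK LD1_c13 LD2_c46 LD3_c29)) :=
  Lre_b IH (LK LD1_c7 LD2_c16 LD3_c53) (LK LD1_c13 LD2_c46 LD3_c29) Lrfl Lrfl
theorem f566083 : Led Lsl_gt (LP (LK LD1_c13 LD2_c46 LD3_c29)) = (LP (LK LD1_c8 LD2_c2 LD3_c13)) :=
  Lgr Lrot82 (Lpe (f5036 IH) (Lpr_ct (K43.f5158 IH) (Lpr_gf (K41.f566077 IH) (Lpe (K35.f190292 IH) (Lpr_bt (K35.f175016 IH) (Lpr_gf (K12.f190343 IH) (Lpr_bf (K38.f542371 IH) (Lpe (K38.f421337 IH) (Lpe (K38.f69471 IH) (Lpe (K32.f69465 IH) (Lpn (LP (LK LD1_c8 LD2_c2 LD3_c13)))))))))))))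
theorem f203353 : Led Lsl_ct (LP (LK LD1_c15 LD2_c7 LD3_c58)) = (LP (LK LD1_c8 LD2_c2 LD3_c16)) :=
  Lre_c IH (LK LD1_c15 LD2_c7 LD3_c58) (LK LD1_c8 LD2_c2 LD3_c16) Lrfl Lrfl
theorem f421318 : Led Lsl_gt (LP (LK LD1_c24 LD2_c56 LD3_c50)) = (LP (LK LD1_c15 LD2_c7 LD3_c58)) :=
  Lre_g IH (LK LD1_c24 LD2_c56 LD3_c50) (LK LD1_c15 LD2_c7 LD3_c58) Lrfl Lrfl
theorem f587328 : Led Lsl_ct (LP (LK LD1_c16 LD2_c29 LD3_c24)) = (LP (LK LD1_c24 LD2_c56 LD3_c50)) :=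
  Lgr Lrot152 (Lpr_gf (f587322 IH) (Lpe (f5230 IH) (Lpr_gt (K43.f573941 IH) (Lpe (K43.f566118 IH) (Lpr_gt (f566083 IH) (Lpr_ct (K32.f69465 IH) (Lpe (K39.f69470 IH) (Lpe (f203353 IH) (Lpe (f421318 IH) (Lpn (LP (LK LD1_c24 LD2_c56 LD3_c50))))))))))))
theorem f33756 : Led Lsl_bt (LP (LK LD1_c4 LD2_c2 LD3_c25)) = (LP (LK LD1_c8 LD2_c5 LD3_c13)) :=
  Lre_b IH (LK LD1_c4 LD2_c2 LD3_c25) (LK LD1_c8 LD2_c5 LD3_c13) Lrfl Lrfl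
theorem f33792 : Led Lsl_gt (LP (LK LD1_c8 LD2_c5 LD3_c13)) = (LP (LK LD1_c15 LD2_c13 LD3_c27)) :=
  Lre_g IH (LK LD1_c8 LD2_c5 LD3_c13) (LK LD1_c15 LD2_c13 LD3_c27) Lrfl Lrfl
theorem f421144 : Led Lsl_ct (LP (LK LD1_c15 LD2_c13 LD3_c27)) = (LP (LK LD1_c25 LD2_c2 LD3_c29)) :=
  Lre_c IH (LK LD1_c15 LD2_c13 LD3_c27) (LK LD1_c25 LD2_c2 LD3_c29) Lrfl Lrfl
theorem f587351 : Led Lsl_gf (LP (LK LD1_c24 LD2_c56 LD3_c50)) = (LP (LK LD1_c25 LD2_c2 LD3_c29)) :=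
  Lgr Lrot129 (Lpe (f587328 IH) (Lpr_bt (f587338 IH) (Lpe (K43.f574097 IH) (Lpr_bf (K43.f574201 IH) (Lpe (K13.f196228 IH) (Lpr_gt (K13.f21728 IH) (Lpe (K0.f33774 IH) (Lpr_bt (f33756 IH) (Lpr_gt (f33792 IH) (Lpr_ct (f421144 IH) (Lpn (LP (LK LD1_c25 LD2_c2 LD3_c29)))))))))))))
theorem f34589 : Led Lsl_ct (LP (LK LD1_c8 LD2_c5 LD3_c9)) = (LP (LK LD1_c15 LD2_c13 LD3_c30)) :=
  Lre_c IH (LK LD1_c8 LD2_c5 LD3_c9) (LK LD1_c15 LD2_c13 LD3_c30) Lrfl Lrfl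
theorem f556486 : Led Lsl_at (LP (LK LD1_c15 LD2_c13 LD3_c30)) = (LP (LK LD1_c15 LD2_c7 LD3_c58)) :=
  Lgr Lrot107 (Lpe (f34589 IH) (Lpr_af (K39.f556479 IH) (Lpe (f203353 IH) (Lpn (LP (LK LD1_c15 LD2_c7 LD3_c58))))))
theorem f587356 : Led Lsl_ff (LP (LK LD1_c15 LD2_c13 LD3_c30)) = (LP (LK LD1_c25 LD2_c2 LD3_c29)) :=
  Lgr Lrot52 (Lpr_at (f556486 IH) (Lpe (f421318 IH) (Lpr_gf (f587351 IH) (Lpn (LP (LK LD1_c25 LD2_c2 LD3_c29))))))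
theorem f587360 : Led Lsl_ft (LP (LK LD1_c8 LD2_c5 LD3_c9)) = (LP (LK LD1_c15 LD2_c13 LD3_c27)) :=
  Lgr Lrot4 (Lpe (K43.f556481 IH) (Lpr_ff (f587356 IH) (Lpe (f421144 IH) (Lpn (LP (LK LD1_c15 LD2_c13 LD3_c27))))))
theorem f570636 : Led Lsl_bt (LP (LK LD1_c15 LD2_c13 LD3_c27)) = (LP (LK LD1_c18 LD2_c23 LD3_c58)) :=
  Lgr Lrot95 (Lpr_df (K42.f570632 IH) (Lpr_bf (K41.f565364 IH) (Lpe (K43.f565359 IH) (Lpn (LP (LK LD1_c18 LD2_c23 LD3_c58))))))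
theorem f587367 : Led Lsl_bf (LP (LK LD1_c8 LD2_c5 LD3_c9)) = (LP (LK LD1_c11 LD2_c32 LD3_c58)) :=
  Lgr Lrot61 (Lpr_ft (f587360 IH) (Lpr_bt (f570636 IH) (Lpe (K43.f575731 IH) (Lpn (LP (LK LD1_c11 LD2_c32 LD3_c58))))))
theorem f34042 : Led Lsl_bt (LP (LK LD1_c1 LD2_c58 LD3_c9)) = (LP (LK LD1_c4 LD2_c2 LD3_c19)) :=
  Lre_b IH (LK LD1_c1 LD2_c58 LD3_c9) (LK LD1_c4 LD2_c2 LD3_c19) Lrfl Lrfl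
theorem f33686 : Led Lsl_ct (LP (LK LD1_c1 LD2_c58 LD3_c9)) = (LP (LK LD1_c4 LD2_c2 LD3_c23)) :=
  Lre_c IH (LK LD1_c1 LD2_c58 LD3_c9) (LK LD1_c4 LD2_c2 LD3_c23) Lrfl Lrfl
theorem f240542 : Led Lsl_bt (LP (LK LD1_c8 LD2_c10 LD3_c39)) = (LP (LK LD1_c4 LD2_c4 LD3_c59)) :=
  Lre_b IH (LK LD1_c8 LD2_c10 LD3_c39) (LK LD1_c4 LD2_c4 LD3_c59) Lrfl Lrfl
theorem f46650 : Led Lsl_ct (LP (LK LD1_c8 LD2_c10 LD3_c39)) = (LP (LK LD1_c15 LD2_c23 LD3_c49)) :=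
  Lre_c IH (LK LD1_c8 LD2_c10 LD3_c39) (LK LD1_c15 LD2_c23 LD3_c49) Lrfl Lrfl
theorem f158341 : Led Lsl_ct (LP (LK LD1_c11 LD2_c32 LD3_c58)) = (LP (LK LD1_c20 LD2_c30 LD3_c1)) :=
  Lre_c IH (LK LD1_c11 LD2_c32 LD3_c58) (LK LD1_c20 LD2_c30 LD3_c1) Lrfl Lrfl
theorem f587371 : Led Lsl_gf (LP (LK LD1_c15 LD2_c23 LD3_c49)) = (LP (LK LD1_c20 LD2_c30 LD3_c1)) :=
  Lgr Lrot126 (Lpe (f46650 IH) (Lpr_bt (f240542 IH) (Lpe (K12.f193455 IH) (Lpr_ct (K13.f242058 IH) (Lpr_gt (K12.f34582 IH) (Lpe (f33686 IH) (Lpr_bt (f34042 IH) (Lpr_gt (K39.f34043 IH) (Lpr_bf (f587367 IH) (Lpr_ct (f158341 IH) (Lpn (LP (LK LD1_c20 LD2_c30 LD3_c1)))))))))))))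
theorem f190297 : Led Lsl_ct (LP (LK LD1_c8 LD2_c4 LD3_c49)) = (LP (LK LD1_c15 LD2_c12 LD3_c51)) :=
  Lre_c IH (LK LD1_c8 LD2_c4 LD3_c49) (LK LD1_c15 LD2_c12 LD3_c51) Lrfl Lrfl
theorem f417962 : Led Lsl_gt (LP (LK LD1_c15 LD2_c12 LD3_c51)) = (LP (LK LD1_c25 LD2_c1 LD3_c49)) :=
  Lre_g IH (LK LD1_c15 LD2_c12 LD3_c51) (LK LD1_c25 LD2_c1 LD3_c49) Lrfl Lrfl
theorem f538466 : Led Lsl_gt (LP (LK LD1_c12 LD2_c9 LD3_c29)) = (LP (LK LD1_c11 LD2_c32 LD3_c58)) :=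
  Lgr Lrot46 (Lpr_gf (K35.f538464 IH) (Lpe (K43.f387238 IH) (Lpe (K43.f158328 IH) (Lpn (LP (LK LD1_c11 LD2_c32 LD3_c58))))))
theorem f538484 : Led Lsl_bf (LP (LK LD1_c12 LD2_c9 LD3_c29)) = (LP (LK LD1_c16 LD2_c11 LD3_c58)) :=
  Lgr Lrot24 (Lpr_bt (K35.f538482 IH) (Lpn (LP (LK LD1_c16 LD2_c11 LD3_c58))))
theorem f587375 : Led Lsl_cf (LP (LK LD1_c25 LD2_c1 LD3_c49)) = (LP (LK LD1_c16 LD2_c11 LD3_c58)) :=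
  Lgr Lrot58 (Lpe (f417962 IH) (Lpe (f190297 IH) (Lpr_bt (K43.f193503 IH) (Lpr_gf (K12.f193455 IH) (Lpe (f240542 IH) (Lpr_ct (f46650 IH) (Lpr_gf (f587371 IH) (Lpe (f158341 IH) (Lpe (f538466 IH) (Lpr_bf (f538484 IH) (Lpn (LP (LK LD1_c16 LD2_c11 LD3_c58)))))))))))))
theorem f570061 : Led Lsl_ct (LP (LK LD1_c4 LD2_c36 LD3_c56)) = (LP (LK LD1_c7 LD2_c17 LD3_c25)) :=
  Lgr Lrot111 (Lpr_af (K42.f540891 IH) (Lpe (K42.f566089 IH) (Lpr_af (K42.f570055 IH) (Lpn (LP (LK LD1_c7 LD2_c17 LD3_c25))))))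
theorem f5662 : Led Lsl_ct (LP (LK LD1_c23 LD2_c14 LD3_c56)) = (LP (LK LD1_c13 LD2_c47 LD3_c30)) :=
  Lre_c IH (LK LD1_c23 LD2_c14 LD3_c56) (LK LD1_c13 LD2_c47 LD3_c30) Lrfl Lrfl
theorem f587383 : Led Lsl_gt (LP (LK LD1_c25 LD2_c1 LD3_c49)) = (LP (LK LD1_c23 LD2_c14 LD3_c56)) :=
  Lgr Lrot150 (Lpr_cf (f587375 IH) (Lpe (K35.f31747 IH) (Lpe (K42.f36203 IH) (Lpe (K37.f239268 IH) (Lpr_ct (K42.f544428 IH) (Lpe (K42.f540894 IH) (Lpr_ct (f570061 IH) (Lpe (K43.f5117 IH) (Lpe (f5662 IH) (Lpn (LP (LK LD1_c23 LD2_c14 LD3_c56))))))))))))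
theorem f5688 : Led Lsl_ct (LP (LK LD1_c13 LD2_c50 LD3_c49)) = (LP (LK LD1_c7 LD2_c19 LD3_c16)) :=
  Lre_c IH (LK LD1_c13 LD2_c50 LD3_c49) (LK LD1_c7 LD2_c19 LD3_c16) Lrfl Lrfl
theorem f574203 : Led Lsl_ff (LP (LK LD1_c13 LD2_c50 LD3_c49)) = (LP (LK LD1_c15 LD2_c12 LD3_c51)) :=
  Lgr Lrot23 (Lpr_ct (f5688 IH) (Lpr_ft (K43.f574197 IH) (Lpr_ct (f190297 IH) (Lpn (LP (LK LD1_c15 LD2_c12 LD3_c51))))))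
theorem f587385 : Led Lsl_at (LP (LK LD1_c13 LD2_c50 LD3_c49)) = (LP (LK LD1_c23 LD2_c14 LD3_c56)) :=
  Lgr Lrot26 (Lpr_ff (f574203 IH) (Lpr_gt (f417962 IH) (Lpr_gt (f587383 IH) (Lpn (LP (LK LD1_c23 LD2_c14 LD3_c56))))))
theorem f587387 : Led Lsl_af (LP (LK LD1_c13 LD2_c50 LD3_c49)) = (LP (LK LD1_c23 LD2_c14 LD3_c56)) :=
  Lgr Lrot0 (Lpr_at (f587385 IH) (Lpn (LP (LK LD1_c23 LD2_c14 LD3_c56))))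
theorem f574179 : Led Lsl_ft (LP (LK LD1_c13 LD2_c50 LD3_c47)) = (LP (LK LD1_c23 LD2_c14 LD3_c56)) :=
  Lgr Lrot4 (Lpe (K42.f5419 IH) (Lpr_ff (K43.f574177 IH) (Lpe (f5662 IH) (Lpn (LP (LK LD1_c23 LD2_c14 LD3_c56))))))
theorem f540875 : Led Lsl_bt (LP (LK LD1_c9 LD2_c9 LD3_c42)) = (LP (LK LD1_c4 LD2_c37 LD3_c3)) :=
  Lre_b IH (LK LD1_c9 LD2_c9 LD3_c42) (LK LD1_c4 LD2_c37 LD3_c3) Lrfl Lrfl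
theorem f540802 : Led Lsl_ct (LP (LK LD1_c8 LD2_c38 LD3_c61)) = (LP (LK LD1_c16 LD2_c12 LD3_c0)) :=
  Lre_c IH (LK LD1_c8 LD2_c38 LD3_c61) (LK LD1_c16 LD2_c12 LD3_c0) Lrfl Lrfl
theorem f574213 : Led Lsl_gf (LP (LK LD1_c16 LD2_c12 LD3_c0)) = (LP (LK LD1_c13 LD2_c50 LD3_c47)) :=
  Lgr Lrot129 (Lpe (f540802 IH) (Lpe (K43.f540800 IH) (Lpe (K43.f557793 IH) (Lpe (f540875 IH) (Lpr_ct (K43.f540876 IH) (Lpr_gt (K43.f573754 IH) (Lpe (K43.f573752 IH) (Lpr_bt (K43.f574207 IH) (Lpr_gt (K43.f5674 IH) (Lpr_ct (K42.f5419 IH) (Lpn (LP (LK LD1_c13 LD2_c50 LD3_c47)))))))))))))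
theorem f587394 : Led Lsl_gf (LP (LK LD1_c13 LD2_c50 LD3_c49)) = (LP (LK LD1_c16 LD2_c12 LD3_c0)) :=
  Lgr Lrot76 (Lpr_af (f587387 IH) (Lpe (f574179 IH) (Lpe (f574213 IH) (Lpn (LP (LK LD1_c16 LD2_c12 LD3_c0))))))
theorem f5690 : Led Lsl_ct (LP (LK LD1_c7 LD2_c19 LD3_c16)) = (LP (LK LD1_c13 LD2_c50 LD3_c49)) :=
  Lre_c IH (LK LD1_c7 LD2_c19 LD3_c16) (LK LD1_c13 LD2_c50 LD3_c49) Lrfl Lrfl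
theorem f574193 : Led Lsl_bt (LP (LK LD1_c7 LD2_c19 LD3_c16)) = (LP (LK LD1_c4 LD2_c1 LD3_c17)) :=
  Lgr Lrot35 (Lpr_ff (K43.f574191 IH) (Lpe (K43.f242072 IH) (Lpr_ff (K16.f271953 IH) (Lpn (LP (LK LD1_c4 LD2_c1 LD3_c17))))))
theorem f46586 : Led Lsl_bt (LP (LK LD1_c8 LD2_c26 LD3_c1)) = (LP (LK LD1_c4 LD2_c13 LD3_c35)) :=
  Lre_b IH (LK LD1_c8 LD2_c26 LD3_c1) (LK LD1_c4 LD2_c13 LD3_c35) Lrfl Lrfl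
theorem f56232 : Led Lsl_ct (LP (LK LD1_c8 LD2_c26 LD3_c1)) = (LP (LK LD1_c15 LD2_c50 LD3_c23)) :=
  Lre_c IH (LK LD1_c8 LD2_c26 LD3_c1) (LK LD1_c15 LD2_c50 LD3_c23) Lrfl Lrfl
theorem f209890 : Led Lsl_gt (LP (LK LD1_c15 LD2_c50 LD3_c23)) = (LP (LK LD1_c25 LD2_c46 LD3_c20)) :=
  Lre_g IH (LK LD1_c15 LD2_c50 LD3_c23) (LK LD1_c25 LD2_c46 LD3_c20) Lrfl Lrfl
theorem f587398 : Led Lsl_bt (LP (LK LD1_c16 LD2_c10 LD3_c30)) = (LP (LK LD1_c13 LD2_c47 LD3_c32)) :=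
  Lgr Lrot130 (Lpr_ct (K42.f547846 IH) (Lpe (f209890 IH) (Lpe (f56232 IH) (Lpr_bt (f46586 IH) (Lpr_gf (K13.f227325 IH) (Lpe (f574193 IH) (Lpr_ct (f5690 IH) (Lpr_gf (f587394 IH) (Lpe (f540802 IH) (Lpr_gf (K42.f568823 IH) (Lpn (LP (LK LD1_c13 LD2_c47 LD3_c32)))))))))))))
theorem f420746 : Led Lsl_ct (LP (LK LD1_c5 LD2_c53 LD3_c54)) = (LP (LK LD1_c11 LD2_c33 LD3_c41)) :=
  Lre_c IH (LK LD1_c5 LD2_c53 LD3_c54) (LK LD1_c11 LD2_c33 LD3_c41) Lrfl Lrfl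
theorem f547199 : Led Lsl_gt (LP (LK LD1_c11 LD2_c33 LD3_c41)) = (LP (LK LD1_c20 LD2_c30 LD3_c61)) :=
  Lre_g IH (LK LD1_c11 LD2_c33 LD3_c41) (LK LD1_c20 LD2_c30 LD3_c61) Lrfl Lrfl
theorem f421397 : Led Lsl_at (LP (LK LD1_c18 LD2_c42 LD3_c61)) = (LP (LK LD1_c15 LD2_c4 LD3_c44)) :=
  Lgr Lrot100 (Lpr_af (K39.f421391 IH) (Lpn (LP (LK LD1_c15 LD2_c4 LD3_c44))))
theorem f556460 : Led Lsl_gt (LP (LK LD1_c12 LD2_c7 LD3_c26)) = (LP (LK LD1_c15 LD2_c4 LD3_c44)) :=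
  Lgr Lrot46 (Lpr_gf (K39.f556458 IH) (Lpr_ft (K39.f428030 IH) (Lpr_at (f421397 IH) (Lpn (LP (LK LD1_c15 LD2_c4 LD3_c44))))))
theorem f572756 : Led Lsl_bt (LP (LK LD1_c8 LD2_c38 LD3_c60)) = (LP (LK LD1_c15 LD2_c26 LD3_c19)) :=
  Lgr Lrot92 (Lpr_ct (K42.f255277 IH) (Lpr_gt (K42.f572737 IH) (Lpe (K42.f5419 IH) (Lpe (K42.f572753 IH) (Lpe (K42.f546559 IH) (Lpr_ct (K39.f496275 IH) (Lpr_gt (f556460 IH) (Lpe (K39.f421206 IH) (Lpr_bt (K39.f132721 IH) (Lpr_gt (K43.f572455 IH) (Lpn (LP (LK LD1_c15 LD2_c26 LD3_c19)))))))))))))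
theorem f572759 : Led Lsl_bf (LP (LK LD1_c8 LD2_c38 LD3_c60)) = (LP (LK LD1_c15 LD2_c26 LD3_c19)) :=
  Lgr Lrot24 (Lpr_bt (f572756 IH) (Lpn (LP (LK LD1_c15 LD2_c26 LD3_c19))))
theorem f587403 : Led Lsl_cf (LP (LK LD1_c20 LD2_c30 LD3_c61)) = (LP (LK LD1_c15 LD2_c26 LD3_c19)) :=
  Lgr Lrot163 (Lpe (f547199 IH) (Lpe (f420746 IH) (Lpr_gf (K38.f547195 IH) (Lpe (K2.f46815 IH) (Lpr_ct (K42.f46831 IH) (Lpe (K42.f46832 IH) (Lpe (K42.f547846 IH) (Lpr_bt (f587398 IH) (Lpe (K42.f572502 IH) (Lpr_bf (f572759 IH) (Lpn (LP (LK LD1_c15 LD2_c26 LD3_c19)))))))))))))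
theorem f308507 : Led Lsl_at (LP (LK LD1_c1 LD2_c13 LD3_c55)) = (LP (LK LD1_c2 LD2_c33 LD3_c53)) :=
  Lre_a IH (LK LD1_c1 LD2_c13 LD3_c55) (LK LD1_c2 LD2_c33 LD3_c53) Lrfl Lrfl
theorem f164078 : Led Lsl_bt (LP (LK LD1_c1 LD2_c13 LD3_c55)) = (LP (LK LD1_c0 LD2_c34 LD3_c16)) :=
  Lre_b IH (LK LD1_c1 LD2_c13 LD3_c55) (LK LD1_c0 LD2_c34 LD3_c16) Lrfl Lrfl
theorem f301801 : Led Lsl_ff (LP (LK LD1_c1 LD2_c13 LD3_c55)) = (LP (LK LD1_c1 LD2_c12 LD3_c30)) :=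
  Lgr Lrot25 (Lpr_bt (f164078 IH) (Lpr_ft (K18.f301797 IH) (Lpr_bt (K36.f53194 IH) (Lpn (LP (LK LD1_c1 LD2_c12 LD3_c30))))))
theorem f428010 : Led Lsl_gt (LP (LK LD1_c1 LD2_c12 LD3_c30)) = (LP (LK LD1_c1 LD2_c56 LD3_c25)) :=
  Lgr Lrot5 (Lpe (f301801 IH) (Lpr_at (f308507 IH) (Lpr_gf (K36.f428008 IH) (Lpn (LP (LK LD1_c1 LD2_c56 LD3_c25))))))
theorem f201397 : Led Lsl_bf (LP (LK LD1_c2 LD2_c10 LD3_c1)) = (LP (LK LD1_c2 LD2_c53 LD3_c36)) :=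
  Lgr Lrot90 (Lpr_ct (K11.f201379 IH) (Lpr_bt (K2.f31592 IH) (Lpe (K2.f71479 IH) (Lpr_bt (K36.f71291 IH) (Lpr_ct (K36.f71228 IH) (Lpn (LP (LK LD1_c2 LD2_c53 LD3_c36))))))))
theorem f428016 : Led Lsl_gf (LP (LK LD1_c5 LD2_c53 LD3_c57)) = (LP (LK LD1_c7 LD2_c59 LD3_c56)) :=
  Lgr Lrot181 (Lpr_ct (K37.f227343 IH) (Lpr_gt (K39.f71236 IH) (Lpe (K39.f186567 IH) (Lpe (f201397 IH) (Lpr_gt (K13.f227339 IH) (Lpe (K36.f53196 IH) (Lpr_ct (K32.f53236 IH) (Lpr_gt (f428010 IH) (Lpe (K35.f161189 IH) (Lpr_bt (K36.f158336 IH) (Lpn (LP (LK LD1_c7 LD2_c59 LD3_c56)))))))))))))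
theorem f587409 : Led Lsl_gt (LP (LK LD1_c20 LD2_c30 LD3_c61)) = (LP (LK LD1_c11 LD2_c34 LD3_c46)) :=
  Lgr Lrot150 (Lpr_cf (f587403 IH) (Lpe (K43.f572455 IH) (Lpe (K39.f37825 IH) (Lpe (f428016 IH) (Lpr_ct (K37.f227343 IH) (Lpr_gt (K39.f71236 IH) (Lpr_ct (K36.f71228 IH) (Lpe (K39.f186568 IH) (Lpe (K35.f420840 IH) (Lpn (LP (LK LD1_c11 LD2_c34 LD3_c46))))))))))))
theorem f546614 : Led Lsl_ft (LP (LK LD1_c11 LD2_c35 LD3_c49)) = (LP (LK LD1_c20 LD2_c31 LD3_c2)) :=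
  Lre_f IH (LK LD1_c11 LD2_c35 LD3_c49) (LK LD1_c20 LD2_c31 LD3_c2) Lrfl Lrfl
theorem f546615 : Led Lsl_dt (LP (LK LD1_c20 LD2_c31 LD3_c2)) = (LP (LK LD1_c11 LD2_c33 LD3_c41)) :=
  Lre_d IH (LK LD1_c20 LD2_c31 LD3_c2) (LK LD1_c11 LD2_c33 LD3_c41) Lrfl Lrfl
theorem f546616 : Led Lsl_ft (LP (LK LD1_c11 LD2_c33 LD3_c41)) = (LP (LK LD1_c15 LD2_c23 LD3_c44)) :=
  Lgr Lrot54 (Lpe (f546615 IH) (Lpe (f546614 IH) (Lpr_df (K38.f546599 IH) (Lpn (LP (LK LD1_c15 LD2_c23 LD3_c44))))))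
theorem f587411 : Led Lsl_at (LP (LK LD1_c15 LD2_c23 LD3_c44)) = (LP (LK LD1_c11 LD2_c34 LD3_c46)) :=
  Lgr Lrot26 (Lpe (f546616 IH) (Lpr_gt (f547199 IH) (Lpr_gt (f587409 IH) (Lpn (LP (LK LD1_c11 LD2_c34 LD3_c46))))))
theorem f546613 : Led Lsl_et (LP (LK LD1_c25 LD2_c16 LD3_c7)) = (LP (LK LD1_c15 LD2_c23 LD3_c44)) :=
  Lre_e IH (LK LD1_c25 LD2_c16 LD3_c7) (LK LD1_c15 LD2_c23 LD3_c44) Lrfl Lrfl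
theorem f420890 : Led Lsl_et (LP (LK LD1_c11 LD2_c34 LD3_c46)) = (LP (LK LD1_c20 LD2_c32 LD3_c53)) :=
  Lre_e IH (LK LD1_c11 LD2_c34 LD3_c46) (LK LD1_c20 LD2_c32 LD3_c53) Lrfl Lrfl
theorem f587417 : Led Lsl_af (LP (LK LD1_c25 LD2_c16 LD3_c7)) = (LP (LK LD1_c20 LD2_c32 LD3_c53)) :=
  Lgr Lrot50 (Lpr_et (f546613 IH) (Lpr_at (f587411 IH) (Lpr_et (f420890 IH) (Lpn (LP (LK LD1_c20 LD2_c32 LD3_c53))))))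
theorem f587422 : Led Lsl_ct (LP (LK LD1_c25 LD2_c16 LD3_c7)) = (LP (LK LD1_c15 LD2_c23 LD3_c45)) :=
  Lre_c IH (LK LD1_c25 LD2_c16 LD3_c7) (LK LD1_c15 LD2_c23 LD3_c45) Lrfl Lrfl
theorem f420853 : Led Lsl_ct (LP (LK LD1_c11 LD2_c34 LD3_c47)) = (LP (LK LD1_c20 LD2_c32 LD3_c53)) :=
  Lre_c IH (LK LD1_c11 LD2_c34 LD3_c47) (LK LD1_c20 LD2_c32 LD3_c53) Lrfl Lrfl
theorem f587423 : Led Lsl_at (LP (LK LD1_c15 LD2_c23 LD3_c45)) = (LP (LK LD1_c11 LD2_c34 LD3_c47)) :=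
  Lgr Lrot107 (Lpe (f587422 IH) (Lpr_af (f587417 IH) (Lpe (f420853 IH) (Lpn (LP (LK LD1_c11 LD2_c34 LD3_c47))))))
theorem f97244 : Led Lsl_et (LP (LK LD1_c7 LD2_c17 LD3_c29)) = (LP (LK LD1_c13 LD2_c47 LD3_c36)) :=
  Lre_e IH (LK LD1_c7 LD2_c17 LD3_c29) (LK LD1_c13 LD2_c47 LD3_c36) Lrfl Lrfl
theorem f73373 : Led Lsl_et (LP (LK LD1_c15 LD2_c23 LD3_c45)) = (LP (LK LD1_c8 LD2_c10 LD3_c36)) :=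
  Lre_e IH (LK LD1_c15 LD2_c23 LD3_c45) (LK LD1_c8 LD2_c10 LD3_c36) Lrfl Lrfl
theorem f574247 : Led Lsl_bt (LP (LK LD1_c13 LD2_c47 LD3_c36)) = (LP (LK LD1_c15 LD2_c23 LD3_c45)) :=
  Lgr Lrot119 (Lpe (f97244 IH) (Lpr_bf (K43.f574241 IH) (Lpe (f73373 IH) (Lpn (LP (LK LD1_c15 LD2_c23 LD3_c45))))))
theorem f201386 : Led Lsl_et (LP (LK LD1_c4 LD2_c25 LD3_c12)) = (LP (LK LD1_c8 LD2_c47 LD3_c61)) :=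
  Lre_e IH (LK LD1_c4 LD2_c25 LD3_c12) (LK LD1_c8 LD2_c47 LD3_c61) Lrfl Lrfl
theorem f420843 : Led Lsl_et (LP (LK LD1_c11 LD2_c34 LD3_c47)) = (LP (LK LD1_c5 LD2_c54 LD3_c26)) :=
  Lre_e IH (LK LD1_c11 LD2_c34 LD3_c47) (LK LD1_c5 LD2_c54 LD3_c26) Lrfl Lrfl
theorem f420844 : Led Lsl_bt (LP (LK LD1_c8 LD2_c47 LD3_c61)) = (LP (LK LD1_c11 LD2_c34 LD3_c47)) :=
  Lgr Lrot119 (Lpe (f201386 IH) (Lpr_bf (K35.f420735 IH) (Lpe (f420843 IH) (Lpn (LP (LK LD1_c11 LD2_c34 LD3_c47))))))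
theorem f420851 : Led Lsl_bf (LP (LK LD1_c8 LD2_c47 LD3_c61)) = (LP (LK LD1_c11 LD2_c34 LD3_c47)) :=
  Lgr Lrot24 (Lpr_bt (f420844 IH) (Lpn (LP (LK LD1_c11 LD2_c34 LD3_c47))))
theorem f31357 : Led Lsl_et (LP (LK LD1_c4 LD2_c20 LD3_c59)) = (LP (LK LD1_c8 LD2_c39 LD3_c41)) :=
  Lre_e IH (LK LD1_c4 LD2_c20 LD3_c59) (LK LD1_c8 LD2_c39 LD3_c41) Lrfl Lrfl
theorem f31384 : Led Lsl_ft (LP (LK LD1_c8 LD2_c39 LD3_c41)) = (LP (LK LD1_c16 LD2_c13 LD3_c21)) :=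
  Lre_f IH (LK LD1_c8 LD2_c39 LD3_c41) (LK LD1_c16 LD2_c13 LD3_c21) Lrfl Lrfl
theorem f231468 : Led Lsl_et (LP (LK LD1_c8 LD2_c47 LD3_c58)) = (LP (LK LD1_c4 LD2_c25 LD3_c11)) :=
  Lre_e IH (LK LD1_c8 LD2_c47 LD3_c58) (LK LD1_c4 LD2_c25 LD3_c11) Lrfl Lrfl
theorem f418285 : Led Lsl_ft (LP (LK LD1_c16 LD2_c28 LD3_c1)) = (LP (LK LD1_c8 LD2_c47 LD3_c58)) :=
  Lre_f IH (LK LD1_c16 LD2_c28 LD3_c1) (LK LD1_c8 LD2_c47 LD3_c58) Lrfl Lrfl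
theorem f418286 : Led Lsl_et (LP (LK LD1_c16 LD2_c13 LD3_c21)) = (LP (LK LD1_c16 LD2_c28 LD3_c1)) :=
  Lgr Lrot69 (Lpe (f31384 IH) (Lpe (f31357 IH) (Lpr_ff (K35.f231473 IH) (Lpe (f231468 IH) (Lpe (f418285 IH) (Lpn (LP (LK LD1_c16 LD2_c28 LD3_c1))))))))
theorem f70797 : Led Lsl_ct (LP (LK LD1_c16 LD2_c28 LD3_c1)) = (LP (LK LD1_c8 LD2_c47 LD3_c59)) :=
  Lre_c IH (LK LD1_c16 LD2_c28 LD3_c1) (LK LD1_c8 LD2_c47 LD3_c59) Lrfl Lrfl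
theorem f418288 : Led Lsl_cf (LP (LK LD1_c16 LD2_c13 LD3_c21)) = (LP (LK LD1_c16 LD2_c28 LD3_c2)) :=
  Lgr Lrot39 (Lpr_et (f418286 IH) (Lpr_ct (f70797 IH) (Lpr_et (K2.f70786 IH) (Lpn (LP (LK LD1_c16 LD2_c28 LD3_c2))))))
theorem f31366 : Led Lsl_ft (LP (LK LD1_c16 LD2_c13 LD3_c21)) = (LP (LK LD1_c8 LD2_c39 LD3_c41)) :=
  Lre_f IH (LK LD1_c16 LD2_c13 LD3_c21) (LK LD1_c8 LD2_c39 LD3_c41) Lrfl Lrfl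
theorem f418304 : Led Lsl_ct (LP (LK LD1_c8 LD2_c39 LD3_c41)) = (LP (LK LD1_c8 LD2_c47 LD3_c61)) :=
  Lgr Lrot40 (Lpe (f31366 IH) (Lpr_cf (f418288 IH) (Lpe (K2.f70810 IH) (Lpn (LP (LK LD1_c8 LD2_c47 LD3_c61))))))
theorem f31358 : Led Lsl_af (LP (LK LD1_c8 LD2_c39 LD3_c23)) = (LP (LK LD1_c8 LD2_c39 LD3_c41)) :=
  Lgr Lrot50 (Lpr_et (K11.f31356 IH) (Lpr_at (K13.f31339 IH) (Lpr_et (f31357 IH) (Lpn (LP (LK LD1_c8 LD2_c39 LD3_c41))))))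
theorem f31360 : Led Lsl_at (LP (LK LD1_c8 LD2_c39 LD3_c23)) = (LP (LK LD1_c8 LD2_c39 LD3_c41)) :=
  Lgr Lrot100 (Lpr_af (f31358 IH) (Lpn (LP (LK LD1_c8 LD2_c39 LD3_c41))))
theorem f418306 : Led Lsl_af (LP (LK LD1_c10 LD2_c16 LD3_c18)) = (LP (LK LD1_c8 LD2_c47 LD3_c61)) :=
  Lgr Lrot68 (Lpe (K11.f201867 IH) (Lpr_at (f31360 IH) (Lpr_ct (f418304 IH) (Lpn (LP (LK LD1_c8 LD2_c47 LD3_c61))))))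
theorem f201896 : Led Lsl_bt (LP (LK LD1_c10 LD2_c16 LD3_c18)) = (LP (LK LD1_c18 LD2_c40 LD3_c50)) :=
  Lre_b IH (LK LD1_c10 LD2_c16 LD3_c18) (LK LD1_c18 LD2_c40 LD3_c50) Lrfl Lrfl
theorem f587429 : Led Lsl_af (LP (LK LD1_c13 LD2_c47 LD3_c36)) = (LP (LK LD1_c18 LD2_c40 LD3_c50)) :=
  Lgr Lrot36 (Lpr_bt (f574247 IH) (Lpr_at (f587423 IH) (Lpe (f420851 IH) (Lpe (f418306 IH) (Lpr_bt (f201896 IH) (Lpn (LP (LK LD1_c18 LD2_c40 LD3_c50))))))))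
theorem f97215 : Led Lsl_ct (LP (LK LD1_c13 LD2_c47 LD3_c36)) = (LP (LK LD1_c23 LD2_c15 LD3_c5)) :=
  Lre_c IH (LK LD1_c13 LD2_c47 LD3_c36) (LK LD1_c23 LD2_c15 LD3_c5) Lrfl Lrfl
theorem f201885 : Led Lsl_ct (LP (LK LD1_c28 LD2_c12 LD3_c20)) = (LP (LK LD1_c18 LD2_c40 LD3_c50)) :=
  Lre_c IH (LK LD1_c28 LD2_c12 LD3_c20) (LK LD1_c18 LD2_c40 LD3_c50) Lrfl Lrfl
theorem f587463 : Led Lsl_at (LP (LK LD1_c23 LD2_c15 LD3_c5)) = (LP (LK LD1_c28 LD2_c12 LD3_c20)) :=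
  Lgr Lrot107 (Lpe (f97215 IH) (Lpr_af (f587429 IH) (Lpe (f201885 IH) (Lpn (LP (LK LD1_c28 LD2_c12 LD3_c20))))))
theorem f574222 : Led Lsl_et (LP (LK LD1_c13 LD2_c47 LD3_c35)) = (LP (LK LD1_c23 LD2_c15 LD3_c5)) :=
  Lre_e IH (LK LD1_c13 LD2_c47 LD3_c35) (LK LD1_c23 LD2_c15 LD3_c5) Lrfl Lrfl
theorem f420723 : Led Lsl_et (LP (LK LD1_c28 LD2_c12 LD3_c20)) = (LP (LK LD1_c18 LD2_c40 LD3_c49)) :=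
  Lre_e IH (LK LD1_c28 LD2_c12 LD3_c20) (LK LD1_c18 LD2_c40 LD3_c49) Lrfl Lrfl
theorem f587467 : Led Lsl_af (LP (LK LD1_c13 LD2_c47 LD3_c35)) = (LP (LK LD1_c18 LD2_c40 LD3_c49)) :=
  Lgr Lrot50 (Lpr_et (f574222 IH) (Lpr_at (f587463 IH) (Lpr_et (f420723 IH) (Lpn (LP (LK LD1_c18 LD2_c40 LD3_c49))))))
theorem f568820 : Led Lsl_gt (LP (LK LD1_c23 LD2_c15 LD3_c2)) = (LP (LK LD1_c13 LD2_c47 LD3_c35)) :=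
  Lre_g IH (LK LD1_c23 LD2_c15 LD3_c2) (LK LD1_c13 LD2_c47 LD3_c35) Lrfl Lrfl
theorem f587476 : Led Lsl_ft (LP (LK LD1_c13 LD2_c47 LD3_c37)) = (LP (LK LD1_c18 LD2_c40 LD3_c49)) :=
  Lgr Lrot101 (Lpr_af (K43.f574269 IH) (Lpe (K43.f574261 IH) (Lpr_af (f587467 IH) (Lpn (LP (LK LD1_c18 LD2_c40 LD3_c49))))))
theorem f587478 : Led Lsl_gf (LP (LK LD1_c23 LD2_c15 LD3_c2)) = (LP (LK LD1_c13 LD2_c47 LD3_c37)) :=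
  Lgr Lrot47 (Lpr_gt (f568820 IH) (Lpr_af (f587467 IH) (Lpe (f587476 IH) (Lpn (LP (LK LD1_c13 LD2_c47 LD3_c37))))))
theorem f574812 : Led Lsl_cf (LP (LK LD1_c8 LD2_c4 LD3_c54)) = (LP (LK LD1_c10 LD2_c1 LD3_c17)) :=
  Lgr Lrot166 (Lpr_gt (K42.f386134 IH) (Lpr_dt (K42.f386136 IH) (Lpr_gt (K43.f574800 IH) (Lpr_dt (K42.f97160 IH) (Lpr_ct (K36.f97156 IH) (Lpe (K43.f97163 IH) (Lpr_gf (K43.f573155 IH) (Lpe (K43.f411041 IH) (Lpr_gf (K43.f411039 IH) (Lpn (LP (LK LD1_c10 LD2_c1 LD3_c17))))))))))))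
theorem f386137 : Led Lsl_dt (LP (LK LD1_c15 LD2_c13 LD3_c1)) = (LP (LK LD1_c8 LD2_c4 LD3_c54)) :=
  Lre_d IH (LK LD1_c15 LD2_c13 LD3_c1) (LK LD1_c8 LD2_c4 LD3_c54) Lrfl Lrfl
theorem f587481 : Led Lsl_ct (LP (LK LD1_c23 LD2_c15 LD3_c2)) = (LP (LK LD1_c15 LD2_c13 LD3_c1)) :=
  Lgr Lrot110 (Lpr_gf (f587478 IH) (Lpe (K43.f569920 IH) (Lpe (K42.f569916 IH) (Lpr_df (K42.f569904 IH) (Lpr_gt (K41.f240842 IH) (Lpr_ct (K13.f240697 IH) (Lpr_gt (K42.f240693 IH) (Lpe (f574812 IH) (Lpe (f386137 IH) (Lpn (LP (LK LD1_c15 LD2_c13 LD3_c1))))))))))))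
theorem f573826 : Led Lsl_dt (LP (LK LD1_c30 LD2_c57 LD3_c51)) = (LP (LK LD1_c23 LD2_c15 LD3_c2)) :=
  Lre_d IH (LK LD1_c30 LD2_c57 LD3_c51) (LK LD1_c23 LD2_c15 LD3_c2) Lrfl Lrfl
theorem f225147 : Led Lsl_dt (LP (LK LD1_c8 LD2_c4 LD3_c54)) = (LP (LK LD1_c15 LD2_c13 LD3_c1)) :=
  Lre_d IH (LK LD1_c8 LD2_c4 LD3_c54) (LK LD1_c15 LD2_c13 LD3_c1) Lrfl Lrfl
theorem f574804 : Led Lsl_gf (LP (LK LD1_c8 LD2_c4 LD3_c56)) = (LP (LK LD1_c13 LD2_c29 LD3_c22)) :=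
  Lgr Lrot76 (Lpe (K43.f386151 IH) (Lpr_ff (K43.f386144 IH) (Lpr_gt (K43.f574800 IH) (Lpn (LP (LK LD1_c13 LD2_c29 LD3_c22))))))
theorem f587487 : Led Lsl_gf (LP (LK LD1_c30 LD2_c57 LD3_c51)) = (LP (LK LD1_c27 LD2_c57 LD3_c41)) :=
  Lgr Lrot154 (Lpr_dt (f573826 IH) (Lpr_ct (f587481 IH) (Lpe (f225147 IH) (Lpe (K42.f225146 IH) (Lpe (K18.f225099 IH) (Lpr_gf (f574804 IH) (Lpr_ct (K43.f97164 IH) (Lpe (K43.f574814 IH) (Lpr_dt (K43.f240851 IH) (Lpn (LP (LK LD1_c27 LD2_c57 LD3_c41))))))))))))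
theorem f587489 : Led Lsl_gf (LP (LK LD1_c13 LD2_c50 LD3_c57)) = (LP (LK LD1_c23 LD2_c20 LD3_c11)) :=
  Lgr Lrot148 (Lpr_dt (K43.f573861 IH) (Lpr_gt (K43.f241026 IH) (Lpr_dt (K43.f573163 IH) (Lpe (K43.f573817 IH) (Lpe (K43.f573763 IH) (Lpe (f568820 IH) (Lpe (f573826 IH) (Lpr_gf (f587487 IH) (Lpr_ct (K43.f573175 IH) (Lpn (LP (LK LD1_c23 LD2_c20 LD3_c11))))))))))))
theorem f573183 : Led Lsl_dt (LP (LK LD1_c13 LD2_c50 LD3_c56)) = (LP (LK LD1_c23 LD2_c20 LD3_c11)) :=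
  Lre_d IH (LK LD1_c13 LD2_c50 LD3_c56) (LK LD1_c23 LD2_c20 LD3_c11) Lrfl Lrfl
theorem f5522 : Led Lsl_ct (LP (LK LD1_c7 LD2_c19 LD3_c18)) = (LP (LK LD1_c13 LD2_c50 LD3_c51)) :=
  Lre_c IH (LK LD1_c7 LD2_c19 LD3_c18) (LK LD1_c13 LD2_c50 LD3_c51) Lrfl Lrfl
theorem f569627 : Led Lsl_dt (LP (LK LD1_c23 LD2_c19 LD3_c61)) = (LP (LK LD1_c13 LD2_c50 LD3_c51)) :=
  Lre_d IH (LK LD1_c23 LD2_c19 LD3_c61) (LK LD1_c13 LD2_c50 LD3_c51) Lrfl Lrfl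
theorem f587495 : Led Lsl_ct (LP (LK LD1_c23 LD2_c15 LD3_c28)) = (LP (LK LD1_c23 LD2_c19 LD3_c61)) :=
  Lgr Lrot110 (Lpe (K43.f5455 IH) (Lpr_cf (K43.f5448 IH) (Lpr_gf (f587489 IH) (Lpe (f573183 IH) (Lpr_gt (K43.f5192 IH) (Lpr_ct (K43.f5120 IH) (Lpr_gt (K42.f5521 IH) (Lpr_ct (f5522 IH) (Lpe (f569627 IH) (Lpn (LP (LK LD1_c23 LD2_c19 LD3_c61))))))))))))
theorem f573933 : Led Lsl_dt (LP (LK LD1_c15 LD2_c10 LD3_c25)) = (LP (LK LD1_c23 LD2_c15 LD3_c28)) :=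
  Lgr Lrot42 (Lpr_df (K43.f573929 IH) (Lpn (LP (LK LD1_c23 LD2_c15 LD3_c28))))
theorem f5683 : Led Lsl_ct (LP (LK LD1_c13 LD2_c50 LD3_c51)) = (LP (LK LD1_c7 LD2_c19 LD3_c18)) :=
  Lre_c IH (LK LD1_c13 LD2_c50 LD3_c51) (LK LD1_c7 LD2_c19 LD3_c18) Lrfl Lrfl
theorem f587513 : Led Lsl_df (LP (LK LD1_c8 LD2_c3 LD3_c26)) = (LP (LK LD1_c7 LD2_c19 LD3_c18)) :=
  Lgr Lrot177 (Lpe (K18.f237445 IH) (Lpe (K43.f225128 IH) (Lpe (K43.f287375 IH) (Lpr_dt (K42.f240031 IH) (Lpr_ct (K41.f239977 IH) (Lpr_dt (f573933 IH) (Lpr_ct (f587495 IH) (Lpr_dt (f569627 IH) (Lpr_ct (f5683 IH) (Lpn (LP (LK LD1_c7 LD2_c19 LD3_c18))))))))))))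
theorem f587533 : Led Lsl_ft (LP (LK LD1_c13 LD2_c31 LD3_c21)) = (LP (LK LD1_c7 LD2_c19 LD3_c18)) :=
  Lgr Lrot54 (Lpe (K43.f98192 IH) (Lpr_ff (K43.f573738 IH) (Lpr_df (f587513 IH) (Lpn (LP (LK LD1_c7 LD2_c19 LD3_c18))))))
theorem f128254 : Led Lsl_ct (LP (LK LD1_c22 LD2_c52 LD3_c32)) = (LP (LK LD1_c13 LD2_c31 LD3_c21)) :=
  Lre_c IH (LK LD1_c22 LD2_c52 LD3_c32) (LK LD1_c13 LD2_c31 LD3_c21) Lrfl Lrfl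
theorem f587569 : Led Lsl_ff (LP (LK LD1_c22 LD2_c52 LD3_c32)) = (LP (LK LD1_c13 LD2_c50 LD3_c51)) :=
  Lgr Lrot23 (Lpr_ct (f128254 IH) (Lpr_ft (f587533 IH) (Lpr_ct (f5522 IH) (Lpn (LP (LK LD1_c13 LD2_c50 LD3_c51))))))
theorem f569570 : Led Lsl_dt (LP (LK LD1_c13 LD2_c50 LD3_c51)) = (LP (LK LD1_c23 LD2_c19 LD3_c61)) :=
  Lre_d IH (LK LD1_c13 LD2_c50 LD3_c51) (LK LD1_c23 LD2_c19 LD3_c61) Lrfl Lrfl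
theorem f573937 : Led Lsl_ct (LP (LK LD1_c23 LD2_c19 LD3_c61)) = (LP (LK LD1_c23 LD2_c15 LD3_c28)) :=
  Lgr Lrot53 (Lpe (f569570 IH) (Lpe (f5522 IH) (Lpe (K42.f564955 IH) (Lpe (K43.f237438 IH) (Lpe (K42.f225130 IH) (Lpr_ft (K42.f386140 IH) (Lpr_at (K42.f386153 IH) (Lpe (K42.f240033 IH) (Lpr_df (K43.f573929 IH) (Lpn (LP (LK LD1_c23 LD2_c15 LD3_c28))))))))))))
theorem f5187 : Led Lsl_dt (LP (LK LD1_c3 LD2_c39 LD3_c33)) = (LP (LK LD1_c1 LD2_c46 LD3_c42)) :=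
  Lre_d IH (LK LD1_c3 LD2_c39 LD3_c33) (LK LD1_c1 LD2_c46 LD3_c42) Lrfl Lrfl
theorem f5188 : Led Lsl_gt (LP (LK LD1_c7 LD2_c19 LD3_c19)) = (LP (LK LD1_c3 LD2_c39 LD3_c33)) :=
  Lre_g IH (LK LD1_c7 LD2_c19 LD3_c19) (LK LD1_c3 LD2_c39 LD3_c33) Lrfl Lrfl
theorem f573195 : Led Lsl_df (LP (LK LD1_c7 LD2_c19 LD3_c19)) = (LP (LK LD1_c4 LD2_c2 LD3_c9)) :=
  Lgr Lrot16 (Lpr_gt (f5188 IH) (Lpr_dt (f5187 IH) (Lpe (K0.f5173 IH) (Lpe (K42.f5175 IH) (Lpe (K41.f17614 IH) (Lpe (K41.f17613 IH) (Lpr_gf (K43.f573193 IH) (Lpe (K43.f565697 IH) (Lpr_gt (K43.f242250 IH) (Lpn (LP (LK LD1_c4 LD2_c2 LD3_c9))))))))))))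
theorem f5695 : Led Lsl_ct (LP (LK LD1_c7 LD2_c19 LD3_c19)) = (LP (LK LD1_c13 LD2_c50 LD3_c53)) :=
  Lre_c IH (LK LD1_c7 LD2_c19 LD3_c19) (LK LD1_c13 LD2_c50 LD3_c53) Lrfl Lrfl
theorem f587597 : Led Lsl_at (LP (LK LD1_c22 LD2_c52 LD3_c32)) = (LP (LK LD1_c13 LD2_c50 LD3_c53)) :=
  Lgr Lrot33 (Lpr_ff (f587569 IH) (Lpr_dt (f569570 IH) (Lpr_ct (f573937 IH) (Lpe (K43.f573929 IH) (Lpr_ct (K42.f240033 IH) (Lpr_dt (K43.f242246 IH) (Lpr_ct (K42.f242223 IH) (Lpe (f573195 IH) (Lpr_ct (f5695 IH) (Lpn (LP (LK LD1_c13 LD2_c50 LD3_c53))))))))))))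
theorem f128247 : Led Lsl_gf (LP (LK LD1_c7 LD2_c17 LD3_c26)) = (LP (LK LD1_c13 LD2_c31 LD3_c21)) :=
  Lgr Lrot145 (Lpe (K41.f5114 IH) (Lpr_et (K41.f4988 IH) (Lpr_gt (K28.f128244 IH) (Lpr_dt (K5.f10504 IH) (Lpr_gt (K3.f6108 IH) (Lpe (K3.f6562 IH) (Lpr_et (K41.f6547 IH) (Lpr_gt (K42.f6141 IH) (Lpe (K43.f98191 IH) (Lpr_dt (K43.f98192 IH) (Lpn (LP (LK LD1_c13 LD2_c31 LD3_c21)))))))))))))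
theorem f587572 : Led Lsl_af (LP (LK LD1_c8 LD2_c3 LD3_c27)) = (LP (LK LD1_c7 LD2_c19 LD3_c18)) :=
  Lgr Lrot31 (Lpe (K41.f565683 IH) (Lpr_gf (f128247 IH) (Lpr_ft (f587533 IH) (Lpn (LP (LK LD1_c7 LD2_c19 LD3_c18))))))
theorem f196169 : Led Lsl_ct (LP (LK LD1_c8 LD2_c3 LD3_c27)) = (LP (LK LD1_c15 LD2_c10 LD3_c7)) :=
  Lre_c IH (LK LD1_c8 LD2_c3 LD3_c27) (LK LD1_c15 LD2_c10 LD3_c7) Lrfl Lrfl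
theorem f587574 : Led Lsl_at (LP (LK LD1_c15 LD2_c10 LD3_c7)) = (LP (LK LD1_c13 LD2_c50 LD3_c51)) :=
  Lgr Lrot107 (Lpe (f196169 IH) (Lpr_af (f587572 IH) (Lpe (f5683 IH) (Lpn (LP (LK LD1_c13 LD2_c50 LD3_c51))))))
theorem f587606 : Led Lsl_ff (LP (LK LD1_c15 LD2_c10 LD3_c7)) = (LP (LK LD1_c13 LD2_c50 LD3_c53)) :=
  Lgr Lrot30 (Lpr_at (f587574 IH) (Lpe (f587569 IH) (Lpr_at (f587597 IH) (Lpn (LP (LK LD1_c13 LD2_c50 LD3_c53))))))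
theorem f441459 : Led Lsl_ct (LP (LK LD1_c7 LD2_c33 LD3_c51)) = (LP (LK LD1_c14 LD2_c15 LD3_c50)) :=
  Lre_c IH (LK LD1_c7 LD2_c33 LD3_c51) (LK LD1_c14 LD2_c15 LD3_c50) Lrfl Lrfl
theorem f542802 : Led Lsl_at (LP (LK LD1_c5 LD2_c5 LD3_c5)) = (LP (LK LD1_c9 LD2_c14 LD3_c59)) :=
  Lgr Lrot67 (Lpe (K13.f240692 IH) (Lpe (K16.f272355 IH) (Lpr_bf (K36.f212013 IH) (Lpr_af (K36.f542797 IH) (Lpe (K43.f193626 IH) (Lpn (LP (LK LD1_c9 LD2_c14 LD3_c59))))))))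
theorem f563650 : Led Lsl_gf (LP (LK LD1_c8 LD2_c46 LD3_c3)) = (LP (LK LD1_c5 LD2_c12 LD3_c53)) :=
  Lgr Lrot47 (Lpr_gt (K42.f563648 IH) (Lpe (f542802 IH) (Lpe (K43.f411032 IH) (Lpn (LP (LK LD1_c5 LD2_c12 LD3_c53))))))
theorem f571172 : Led Lsl_gt (LP (LK LD1_c14 LD2_c15 LD3_c50)) = (LP (LK LD1_c13 LD2_c50 LD3_c51)) :=
  Lgr Lrot187 (Lpe (f441459 IH) (Lpr_gf (K42.f571166 IH) (Lpr_dt (K43.f273020 IH) (Lpe (f563650 IH) (Lpr_ct (K8.f80996 IH) (Lpr_gt (K43.f563656 IH) (Lpr_ct (K43.f237438 IH) (Lpr_dt (K42.f564955 IH) (Lpe (f5683 IH) (Lpn (LP (LK LD1_c13 LD2_c50 LD3_c51))))))))))))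
theorem f587616 : Led Lsl_gf (LP (LK LD1_c14 LD2_c15 LD3_c50)) = (LP (LK LD1_c13 LD2_c50 LD3_c53)) :=
  Lgr Lrot47 (Lpr_gt (f571172 IH) (Lpe (f587574 IH) (Lpr_ff (f587606 IH) (Lpn (LP (LK LD1_c13 LD2_c50 LD3_c53))))))
theorem f441497 : Led Lsl_dt (LP (LK LD1_c14 LD2_c15 LD3_c50)) = (LP (LK LD1_c23 LD2_c52 LD3_c34)) :=
  Lre_d IH (LK LD1_c14 LD2_c15 LD3_c50) (LK LD1_c23 LD2_c52 LD3_c34) Lrfl Lrfl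
theorem f587618 : Led Lsl_gt (LP (LK LD1_c23 LD2_c52 LD3_c34)) = (LP (LK LD1_c23 LD2_c19 LD3_c54)) :=
  Lgr Lrot49 (Lpe (f441497 IH) (Lpr_gf (f587616 IH) (Lpe (f5695 IH) (Lpr_gt (f5188 IH) (Lpr_dt (f5187 IH) (Lpr_gt (K41.f5185 IH) (Lpr_dt (K42.f5186 IH) (Lpe (K43.f569576 IH) (Lpe (K43.f572739 IH) (Lpn (LP (LK LD1_c23 LD2_c19 LD3_c54))))))))))))
theorem f566107 : Led Lsl_ct (LP (LK LD1_c7 LD2_c14 LD3_c32)) = (LP (LK LD1_c10 LD2_c16 LD3_c6)) :=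
  Lgr Lrot7 (Lpe (K43.f17621 IH) (Lpr_gf (K41.f17617 IH) (Lpe (K24.f5212 IH) (Lpr_gf (K41.f566103 IH) (Lpe (K41.f201567 IH) (Lpe (K37.f239268 IH) (Lpr_dt (K42.f239271 IH) (Lpe (K41.f556960 IH) (Lpr_dt (K41.f411042 IH) (Lpn (LP (LK LD1_c10 LD2_c16 LD3_c6))))))))))))
theorem f569918 : Led Lsl_gt (LP (LK LD1_c10 LD2_c16 LD3_c6)) = (LP (LK LD1_c6 LD2_c24 LD3_c25)) :=
  Lgr Lrot94 (Lpe (f566107 IH) (Lpe (K42.f569629 IH) (Lpe (K42.f569904 IH) (Lpr_gt (K42.f569916 IH) (Lpr_dt (K43.f481572 IH) (Lpr_cf (K42.f566081 IH) (Lpe (K43.f36120 IH) (Lpe (K42.f36114 IH) (Lpe (K42.f540796 IH) (Lpn (LP (LK LD1_c6 LD2_c24 LD3_c25))))))))))))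
theorem f133032 : Led Lsl_dt (LP (LK LD1_c14 LD2_c59 LD3_c25)) = (LP (LK LD1_c7 LD2_c56 LD3_c41)) :=
  Lre_d IH (LK LD1_c14 LD2_c59 LD3_c25) (LK LD1_c7 LD2_c56 LD3_c41) Lrfl Lrfl
theorem f573198 : Led Lsl_cf (LP (LK LD1_c14 LD2_c59 LD3_c25)) = (LP (LK LD1_c23 LD2_c15 LD3_c1)) :=
  Lgr Lrot175 (Lpr_dt (f133032 IH) (Lpe (K43.f133025 IH) (Lpe (f569918 IH) (Lpe (f566107 IH) (Lpr_gf (K43.f573193 IH) (Lpr_dt (K43.f572507 IH) (Lpr_gt (K43.f97255 IH) (Lpr_ct (K43.f5625 IH) (Lpr_gt (K43.f573197 IH) (Lpn (LP (LK LD1_c23 LD2_c15 LD3_c1))))))))))))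
theorem f573825 : Led Lsl_gt (LP (LK LD1_c23 LD2_c15 LD3_c4)) = (LP (LK LD1_c30 LD2_c57 LD3_c54)) :=
  Lre_g IH (LK LD1_c23 LD2_c15 LD3_c4) (LK LD1_c30 LD2_c57 LD3_c54) Lrfl Lrfl
theorem f587622 : Led Lsl_cf (LP (LK LD1_c23 LD2_c52 LD3_c34)) = (LP (LK LD1_c30 LD2_c57 LD3_c54)) :=
  Lgr Lrot169 (Lpr_gt (f587618 IH) (Lpe (K42.f570068 IH) (Lpe (K42.f193433 IH) (Lpe (K42.f193432 IH) (Lpr_gf (K43.f574093 IH) (Lpr_cf (f573198 IH) (Lpe (K43.f573197 IH) (Lpe (K43.f573762 IH) (Lpr_gt (f573825 IH) (Lpn (LP (LK LD1_c30 LD2_c57 LD3_c54))))))))))))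
theorem f441465 : Led Lsl_dt (LP (LK LD1_c23 LD2_c52 LD3_c34)) = (LP (LK LD1_c14 LD2_c15 LD3_c50)) :=
  Lre_d IH (LK LD1_c23 LD2_c52 LD3_c34) (LK LD1_c14 LD2_c15 LD3_c50) Lrfl Lrfl
theorem f240928 : Led Lsl_ct (LP (LK LD1_c10 LD2_c16 LD3_c7)) = (LP (LK LD1_c18 LD2_c40 LD3_c38)) :=
  Lre_c IH (LK LD1_c10 LD2_c16 LD3_c7) (LK LD1_c18 LD2_c40 LD3_c38) Lrfl Lrfl
theorem f565687 : Led Lsl_gt (LP (LK LD1_c13 LD2_c50 LD3_c59)) = (LP (LK LD1_c18 LD2_c40 LD3_c38)) :=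
  Lgr Lrot149 (Lpe (K24.f5131 IH) (Lpr_gf (K41.f565685 IH) (Lpe (K41.f196168 IH) (Lpr_ct (K13.f196174 IH) (Lpe (K13.f240055 IH) (Lpr_cf (K13.f240053 IH) (Lpe (K38.f544889 IH) (Lpe (K16.f240958 IH) (Lpe (K41.f240927 IH) (Lpr_ct (f240928 IH) (Lpn (LP (LK LD1_c18 LD2_c40 LD3_c38)))))))))))))
theorem f5143 : Led Lsl_df (LP (LK LD1_c23 LD2_c15 LD3_c34)) = (LP (LK LD1_c13 LD2_c50 LD3_c59)) :=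
  Lgr Lrot38 (Lpr_dt (K0.f5140 IH) (Lpn (LP (LK LD1_c13 LD2_c50 LD3_c59))))
theorem f587628 : Led Lsl_gt (LP (LK LD1_c23 LD2_c15 LD3_c34)) = (LP (LK LD1_c16 LD2_c12 LD3_c4)) :=
  Lgr Lrot9 (Lpr_df (f5143 IH) (Lpr_gt (f565687 IH) (Lpr_ct (K43.f240932 IH) (Lpe (K42.f571166 IH) (Lpr_ct (f441459 IH) (Lpe (f441465 IH) (Lpr_cf (f587622 IH) (Lpe (f573825 IH) (Lpr_cf (K43.f573817 IH) (Lpn (LP (LK LD1_c16 LD2_c12 LD3_c4))))))))))))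
theorem f5447 : Led Lsl_bt (LP (LK LD1_c13 LD2_c50 LD3_c57)) = (LP (LK LD1_c7 LD2_c19 LD3_c20)) :=
  Lre_b IH (LK LD1_c13 LD2_c50 LD3_c57) (LK LD1_c7 LD2_c19 LD3_c20) Lrfl Lrfl
theorem f573868 : Led Lsl_bt (LP (LK LD1_c13 LD2_c50 LD3_c58)) = (LP (LK LD1_c16 LD2_c12 LD3_c3)) :=
  Lgr Lrot95 (Lpe (K43.f5146 IH) (Lpe (f5447 IH) (Lpr_df (K43.f573865 IH) (Lpn (LP (LK LD1_c16 LD2_c12 LD3_c3))))))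
theorem f5202 : Led Lsl_ft (LP (LK LD1_c23 LD2_c15 LD3_c34)) = (LP (LK LD1_c13 LD2_c50 LD3_c58)) :=
  Lgr Lrot4 (Lpe (K0.f5138 IH) (Lpe (K42.f5201 IH) (Lpr_cf (K43.f5183 IH) (Lpn (LP (LK LD1_c13 LD2_c50 LD3_c58))))))
theorem f574154 : Led Lsl_bt (LP (LK LD1_c23 LD2_c19 LD3_c52)) = (LP (LK LD1_c23 LD2_c15 LD3_c34)) :=
  Lgr Lrot35 (Lpr_ff (K43.f574148 IH) (Lpe (f573868 IH) (Lpe (f5202 IH) (Lpn (LP (LK LD1_c23 LD2_c15 LD3_c34))))))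
theorem f31980 : Led Lsl_bt (LP (LK LD1_c4 LD2_c20 LD3_c39)) = (LP (LK LD1_c2 LD2_c7 LD3_c49)) :=
  Lre_b IH (LK LD1_c4 LD2_c20 LD3_c39) (LK LD1_c2 LD2_c7 LD3_c49) Lrfl Lrfl
theorem f260186 : Led Lsl_df (LP (LK LD1_c0 LD2_c55 LD3_c42)) = (LP (LK LD1_c1 LD2_c56 LD3_c43)) :=
  Lgr Lrot84 (Lpe (K13.f69720 IH) (Lpe (K13.f69746 IH) (Lpe (K13.f69748 IH) (Lpr_df (K13.f242133 IH) (Lpe (K13.f240596 IH) (Lpe (K13.f180879 IH) (Lpr_gt (K10.f182046 IH) (Lpr_dt (K13.f242579 IH) (Lpr_gt (K15.f260168 IH) (Lpn (LP (LK LD1_c1 LD2_c56 LD3_c43))))))))))))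
theorem f69745 : Led Lsl_gt (LP (LK LD1_c4 LD2_c1 LD3_c23)) = (LP (LK LD1_c8 LD2_c3 LD3_c25)) :=
  Lre_g IH (LK LD1_c4 LD2_c1 LD3_c23) (LK LD1_c8 LD2_c3 LD3_c25) Lrfl Lrfl
theorem f587636 : Led Lsl_df (LP (LK LD1_c13 LD2_c50 LD3_c46)) = (LP (LK LD1_c8 LD2_c3 LD3_c25)) :=
  Lgr Lrot183 (Lpr_ct (K43.f5676 IH) (Lpr_bt (f574154 IH) (Lpr_gt (f587628 IH) (Lpr_dt (K43.f240689 IH) (Lpr_ct (K43.f240688 IH) (Lpr_bt (f31980 IH) (Lpr_gt (K13.f31790 IH) (Lpr_dt (K23.f239246 IH) (Lpr_ct (K13.f190229 IH) (Lpr_bt (K19.f190260 IH) (Lpr_gt (K19.f240683 IH) (Lpr_dt (K10.f177635 IH) (Lpr_ct (K19.f182022 IH) (Lpr_bt (K16.f242583 IH) (Lpr_gt (K15.f260168 IH) (Lpe (f260186 IH) (Lpr_ct (K9.f69715 IH) (Lpr_bt (K18.f69724 IH) (Lpr_gt (f69745 IH) (Lpn (LP (LK LD1_c8 LD2_c3 LD3_c25))))))))))))))))))))))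
theorem f98060 : Led Lsl_et (LP (LK LD1_c3 LD2_c39 LD3_c31)) = (LP (LK LD1_c7 LD2_c19 LD3_c15)) :=
  Lre_e IH (LK LD1_c3 LD2_c39 LD3_c31) (LK LD1_c7 LD2_c19 LD3_c15) Lrfl Lrfl
theorem f587262 : Led Lsl_bt (LP (LK LD1_c8 LD2_c1 LD3_c42)) = (LP (LK LD1_c15 LD2_c7 LD3_c4)) :=
  Lre_b IH (LK LD1_c8 LD2_c1 LD3_c42) (LK LD1_c15 LD2_c7 LD3_c4) Lrfl Lrfl
theorem f502373 : Led Lsl_af (LP (LK LD1_c8 LD2_c2 LD3_c6)) = (LP (LK LD1_c6 LD2_c13 LD3_c44)) :=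
  Lgr Lrot50 (Lpr_et (K42.f80729 IH) (Lpr_at (K43.f502367 IH) (Lpr_et (K41.f420379 IH) (Lpn (LP (LK LD1_c6 LD2_c13 LD3_c44))))))
theorem f502421 : Led Lsl_ft (LP (LK LD1_c12 LD2_c6 LD3_c12)) = (LP (LK LD1_c6 LD2_c13 LD3_c44)) :=
  Lre_f IH (LK LD1_c12 LD2_c6 LD3_c12) (LK LD1_c6 LD2_c13 LD3_c44) Lrfl Lrfl
theorem f569605 : Led Lsl_gt (LP (LK LD1_c12 LD2_c6 LD3_c12)) = (LP (LK LD1_c11 LD2_c6 LD3_c49)) :=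
  Lgr Lrot5 (Lpr_ft (f502421 IH) (Lpe (f502373 IH) (Lpr_gf (K42.f569603 IH) (Lpn (LP (LK LD1_c11 LD2_c6 LD3_c49))))))
theorem f569671 : Led Lsl_ct (LP (LK LD1_c7 LD2_c14 LD3_c12)) = (LP (LK LD1_c4 LD2_c23 LD3_c12)) :=
  Lgr Lrot8 (Lpr_gt (K42.f160334 IH) (Lpr_dt (K42.f569661 IH) (Lpr_gt (K42.f566187 IH) (Lpr_dt (K42.f420440 IH) (Lpr_cf (K43.f565024 IH) (Lpr_df (K41.f564940 IH) (Lpe (K41.f564938 IH) (Lpe (K41.f410992 IH) (Lpr_gf (K42.f410995 IH) (Lpn (LP (LK LD1_c4 LD2_c23 LD3_c12))))))))))))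
theorem f570029 : Led Lsl_cf (LP (LK LD1_c12 LD2_c6 LD3_c12)) = (LP (LK LD1_c8 LD2_c1 LD3_c42)) :=
  Lgr Lrot166 (Lpr_gt (f569605 IH) (Lpr_dt (K42.f556815 IH) (Lpr_gt (K42.f570025 IH) (Lpr_dt (K42.f160336 IH) (Lpr_ct (f569671 IH) (Lpe (K41.f403282 IH) (Lpe (K31.f403278 IH) (Lpr_df (K18.f201521 IH) (Lpe (f69738 IH) (Lpn (LP (LK LD1_c8 LD2_c1 LD3_c42))))))))))))
theorem f158614 : Led Lsl_ct (LP (LK LD1_c15 LD2_c13 LD3_c17)) = (LP (LK LD1_c8 LD2_c5 LD3_c2)) :=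
  Lre_c IH (LK LD1_c15 LD2_c13 LD3_c17) (LK LD1_c8 LD2_c5 LD3_c2) Lrfl Lrfl
theorem f587306 : Led Lsl_gf (LP (LK LD1_c12 LD2_c6 LD3_c12)) = (LP (LK LD1_c6 LD2_c14 LD3_c3)) :=
  Lgr Lrot126 (Lpr_cf (f570029 IH) (Lpr_bt (f587262 IH) (Lpr_gt (f587302 IH) (Lpr_ct (f158614 IH) (Lpr_gt (K39.f552339 IH) (Lpr_cf (K9.f70031 IH) (Lpr_bt (K10.f70010 IH) (Lpr_gt (K10.f193723 IH) (Lpe (K42.f101378 IH) (Lpr_ct (K39.f197985 IH) (Lpn (LP (LK LD1_c6 LD2_c14 LD3_c3)))))))))))))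
theorem f587650 : Led Lsl_ef (LP (LK LD1_c12 LD2_c6 LD3_c12)) = (LP (LK LD1_c8 LD2_c3 LD3_c25)) :=
  Lgr Lrot17 (Lpr_gf (f587306 IH) (Lpr_ef (K42.f569877 IH) (Lpr_dt (K42.f98352 IH) (Lpr_gf (K43.f577213 IH) (Lpr_df (K43.f573203 IH) (Lpe (K43.f570618 IH) (Lpe (f98060 IH) (Lpr_dt (K42.f5186 IH) (Lpe (K43.f5674 IH) (Lpr_df (f587636 IH) (Lpn (LP (LK LD1_c8 LD2_c3 LD3_c25)))))))))))))
theorem f587654 : Led Lsl_et (LP (LK LD1_c12 LD2_c6 LD3_c12)) = (LP (LK LD1_c8 LD2_c3 LD3_c25)) :=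
  Lgr Lrot87 (Lpr_ef (f587650 IH) (Lpn (LP (LK LD1_c8 LD2_c3 LD3_c25))))
theorem f540809 : Led Lsl_ct (LP (LK LD1_c16 LD2_c12 LD3_c0)) = (LP (LK LD1_c8 LD2_c38 LD3_c61)) :=
  Lre_c IH (LK LD1_c16 LD2_c12 LD3_c0) (LK LD1_c8 LD2_c38 LD3_c61) Lrfl Lrfl
theorem f540804 : Led Lsl_df (LP (LK LD1_c6 LD2_c24 LD3_c25)) = (LP (LK LD1_c8 LD2_c38 LD3_c61)) :=
  Lgr Lrot38 (Lpr_dt (K42.f540796 IH) (Lpn (LP (LK LD1_c8 LD2_c38 LD3_c61))))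
theorem f587648 : Led Lsl_gf (LP (LK LD1_c7 LD2_c8 LD3_c24)) = (LP (LK LD1_c8 LD2_c3 LD3_c25)) :=
  Lgr Lrot147 (Lpr_ct (K43.f570946 IH) (Lpr_gt (K43.f574088 IH) (Lpe (K43.f133029 IH) (Lpr_df (f540804 IH) (Lpe (f540809 IH) (Lpr_gf (f574213 IH) (Lpe (K42.f5419 IH) (Lpe (K43.f5674 IH) (Lpr_df (f587636 IH) (Lpn (LP (LK LD1_c8 LD2_c3 LD3_c25))))))))))))
theorem f128251 : Led Lsl_gt (LP (LK LD1_c7 LD2_c8 LD3_c9)) = (LP (LK LD1_c13 LD2_c30 LD3_c60)) :=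
  Lre_g IH (LK LD1_c7 LD2_c8 LD3_c9) (LK LD1_c13 LD2_c30 LD3_c60) Lrfl Lrfl
theorem f587656 : Led Lsl_dt (LP (LK LD1_c12 LD2_c6 LD3_c12)) = (LP (LK LD1_c13 LD2_c30 LD3_c60)) :=
  Lgr Lrot56 (Lpr_et (f587654 IH) (Lpe (f587648 IH) (Lpe (K43.f565047 IH) (Lpr_dt (K42.f6142 IH) (Lpe (K42.f565045 IH) (Lpe (K42.f38494 IH) (Lpr_et (K41.f565036 IH) (Lpr_gt (K41.f160307 IH) (Lpr_dt (K8.f128250 IH) (Lpr_gt (f128251 IH) (Lpn (LP (LK LD1_c13 LD2_c30 LD3_c60)))))))))))))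
theorem f397366 : Led Lsl_dt (LP (LK LD1_c19 LD2_c10 LD3_c39)) = (LP (LK LD1_c10 LD2_c38 LD3_c44)) :=
  Lgr Lrot159 (Lpr_ft (K39.f397352 IH) (Lpr_at (K18.f237451 IH) (Lpe (K18.f225002 IH) (Lpe (K18.f225101 IH) (Lpr_cf (K18.f237430 IH) (Lpe (K18.f201463 IH) (Lpe (K31.f181879 IH) (Lpe (K41.f181880 IH) (Lpr_cf (K41.f374579 IH) (Lpn (LP (LK LD1_c10 LD2_c38 LD3_c44))))))))))))
theorem f277537 : Led Lsl_dt (LP (LK LD1_c5 LD2_c24 LD3_c0)) = (LP (LK LD1_c10 LD2_c38 LD3_c46)) :=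
  Lre_d IH (LK LD1_c5 LD2_c24 LD3_c0) (LK LD1_c10 LD2_c38 LD3_c46) Lrfl Lrfl
theorem f587667 : Led Lsl_ct (LP (LK LD1_c10 LD2_c38 LD3_c46)) = (LP (LK LD1_c13 LD2_c30 LD3_c60)) :=
  Lgr Lrot7 (Lpe (f277537 IH) (Lpe (K39.f173145 IH) (Lpe (f397366 IH) (Lpr_gf (K39.f397377 IH) (Lpr_cf (K42.f570019 IH) (Lpe (K42.f569864 IH) (Lpr_dt (K39.f410573 IH) (Lpe (f587306 IH) (Lpr_dt (f587656 IH) (Lpn (LP (LK LD1_c13 LD2_c30 LD3_c60))))))))))))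
theorem f587673 : Led Lsl_bf (LP (LK LD1_c8 LD2_c44 LD3_c9)) = (LP (LK LD1_c13 LD2_c30 LD3_c60)) :=
  Lgr Lrot90 (Lpr_ct (K38.f550001 IH) (Lpr_bt (K38.f224794 IH) (Lpr_ct (K19.f224674 IH) (Lpr_bt (K39.f224681 IH) (Lpr_ct (f587667 IH) (Lpn (LP (LK LD1_c13 LD2_c30 LD3_c60))))))))
theorem f546974 : Led Lsl_bf (LP (LK LD1_c7 LD2_c8 LD3_c9)) = (LP (LK LD1_c6 LD2_c14 LD3_c26)) :=
  Lgr Lrot96 (Lpr_et (K42.f160372 IH) (Lpr_bt (K28.f160347 IH) (Lpr_et (K38.f546952 IH) (Lpn (LP (LK LD1_c6 LD2_c14 LD3_c26))))))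
theorem f551739 : Led Lsl_ct (LP (LK LD1_c13 LD2_c30 LD3_c60)) = (LP (LK LD1_c10 LD2_c38 LD3_c46)) :=
  Lgr Lrot91 (Lpe (f128251 IH) (Lpr_bf (f546974 IH) (Lpr_ct (K10.f197854 IH) (Lpe (K10.f69841 IH) (Lpe (K13.f37235 IH) (Lpr_bt (K39.f551708 IH) (Lpe (K13.f238822 IH) (Lpe (K16.f238824 IH) (Lpr_ct (K16.f197791 IH) (Lpe (K39.f551532 IH) (Lpn (LP (LK LD1_c10 LD2_c38 LD3_c46)))))))))))))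
theorem f237435 : Led Lsl_dt (LP (LK LD1_c8 LD2_c43 LD3_c24)) = (LP (LK LD1_c4 LD2_c22 LD3_c47)) :=
  Lre_d IH (LK LD1_c8 LD2_c43 LD3_c24) (LK LD1_c4 LD2_c22 LD3_c47) Lrfl Lrfl
theorem f217731 : Led Lsl_dt (LP (LK LD1_c10 LD2_c38 LD3_c46)) = (LP (LK LD1_c5 LD2_c24 LD3_c0)) :=
  Lre_d IH (LK LD1_c10 LD2_c38 LD3_c46) (LK LD1_c5 LD2_c24 LD3_c0) Lrfl Lrfl
theorem f571158 : Led Lsl_gt (LP (LK LD1_c13 LD2_c30 LD3_c8)) = (LP (LK LD1_c10 LD2_c38 LD3_c46)) :=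
  Lgr Lrot94 (Lpe (K39.f98096 IH) (Lpr_gt (K42.f571153 IH) (Lpr_dt (f237435 IH) (Lpr_gt (K38.f225120 IH) (Lpr_dt (K18.f225101 IH) (Lpe (K18.f225001 IH) (Lpe (K18.f297374 IH) (Lpe (K18.f217469 IH) (Lpe (f217731 IH) (Lpn (LP (LK LD1_c10 LD2_c38 LD3_c46))))))))))))
theorem f587690 : Led Lsl_bt (LP (LK LD1_c8 LD2_c46 LD3_c10)) = (LP (LK LD1_c8 LD2_c43 LD3_c36)) :=
  Lgr Lrot22 (Lpe (K42.f556212 IH) (Lpr_gf (K39.f556238 IH) (Lpe (K39.f550037 IH) (Lpe (K39.f411497 IH) (Lpr_bf (f587673 IH) (Lpr_ct (f551739 IH) (Lpe (f571158 IH) (Lpe (K39.f98096 IH) (Lpr_bt (K39.f552798 IH) (Lpr_gf (K39.f418023 IH) (Lpn (LP (LK LD1_c8 LD2_c43 LD3_c36)))))))))))))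
theorem f587692 : Led Lsl_bf (LP (LK LD1_c8 LD2_c46 LD3_c10)) = (LP (LK LD1_c8 LD2_c43 LD3_c36)) :=
  Lgr Lrot24 (Lpr_bt (f587690 IH) (Lpn (LP (LK LD1_c8 LD2_c43 LD3_c36))))
theorem f160290 : Led Lsl_at (LP (LK LD1_c7 LD2_c13 LD3_c50)) = (LP (LK LD1_c7 LD2_c7 LD3_c10)) :=
  Lgr Lrot100 (Lpr_af (K8.f160237 IH) (Lpn (LP (LK LD1_c7 LD2_c7 LD3_c10))))
theorem f569854 : Led Lsl_gf (LP (LK LD1_c7 LD2_c7 LD3_c10)) = (LP (LK LD1_c8 LD2_c46 LD3_c10)) :=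
  Lgr Lrot76 (Lpe (f160290 IH) (Lpr_ff (K39.f552748 IH) (Lpr_gt (K42.f569852 IH) (Lpn (LP (LK LD1_c8 LD2_c46 LD3_c10))))))
theorem f427559 : Led Lsl_dt (LP (LK LD1_c16 LD2_c21 LD3_c43)) = (LP (LK LD1_c26 LD2_c19 LD3_c46)) :=
  Lre_d IH (LK LD1_c16 LD2_c21 LD3_c43) (LK LD1_c26 LD2_c19 LD3_c46) Lrfl Lrfl
theorem f571017 : Led Lsl_gt (LP (LK LD1_c26 LD2_c19 LD3_c46)) = (LP (LK LD1_c26 LD2_c17 LD3_c23)) :=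
  Lgr Lrot49 (Lpe (f427559 IH) (Lpr_gf (K43.f571015 IH) (Lpe (K43.f280483 IH) (Lpr_gt (K39.f181746 IH) (Lpr_dt (K16.f181745 IH) (Lpr_gt (K31.f181744 IH) (Lpe (K31.f398494 IH) (Lpe (K31.f398481 IH) (Lpe (K31.f398504 IH) (Lpn (LP (LK LD1_c26 LD2_c17 LD3_c23))))))))))))
theorem f427560 : Led Lsl_dt (LP (LK LD1_c26 LD2_c19 LD3_c46)) = (LP (LK LD1_c16 LD2_c21 LD3_c43)) :=
  Lre_d IH (LK LD1_c26 LD2_c19 LD3_c46) (LK LD1_c16 LD2_c21 LD3_c43) Lrfl Lrfl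
theorem f418025 : Led Lsl_ct (LP (LK LD1_c16 LD2_c20 LD3_c36)) = (LP (LK LD1_c8 LD2_c43 LD3_c36)) :=
  Lre_c IH (LK LD1_c16 LD2_c20 LD3_c36) (LK LD1_c8 LD2_c43 LD3_c36) Lrfl Lrfl
theorem f571024 : Led Lsl_gt (LP (LK LD1_c16 LD2_c21 LD3_c43)) = (LP (LK LD1_c16 LD2_c20 LD3_c36)) :=
  Lgr Lrot9 (Lpe (f427560 IH) (Lpr_gt (f571017 IH) (Lpr_ct (K31.f398596 IH) (Lpr_gt (K31.f174487 IH) (Lpr_ct (K16.f174484 IH) (Lpe (K16.f280377 IH) (Lpe (K16.f280380 IH) (Lpr_gf (K39.f418023 IH) (Lpe (f418025 IH) (Lpn (LP (LK LD1_c16 LD2_c20 LD3_c36))))))))))))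
theorem f587734 : Led Lsl_bf (LP (LK LD1_c7 LD2_c7 LD3_c10)) = (LP (LK LD1_c8 LD2_c1 LD3_c3)) :=
  Lgr Lrot34 (Lpr_gf (f569854 IH) (Lpr_bf (f587692 IH) (Lpr_ct (K39.f236583 IH) (Lpe (f571024 IH) (Lpe (K43.f427558 IH) (Lpr_gf (K39.f427554 IH) (Lpe (K39.f60492 IH) (Lpr_ct (K1.f60480 IH) (Lpe (K13.f60740 IH) (Lpr_cf (K39.f549204 IH) (Lpn (LP (LK LD1_c8 LD2_c1 LD3_c3)))))))))))))
theorem f530802 : Led Lsl_gt (LP (LK LD1_c7 LD2_c7 LD3_c10)) = (LP (LK LD1_c13 LD2_c29 LD3_c25)) :=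
  Lre_g IH (LK LD1_c7 LD2_c7 LD3_c10) (LK LD1_c13 LD2_c29 LD3_c25) Lrfl Lrfl
theorem f181394 : Led Lsl_at (LP (LK LD1_c9 LD2_c2 LD3_c31)) = (LP (LK LD1_c4 LD2_c32 LD3_c33)) :=
  Lre_a IH (LK LD1_c9 LD2_c2 LD3_c31) (LK LD1_c4 LD2_c32 LD3_c33) Lrfl Lrfl
theorem f269033 : Led Lsl_ft (LP (LK LD1_c5 LD2_c41 LD3_c32)) = (LP (LK LD1_c9 LD2_c2 LD3_c31)) :=
  Lgr Lrot101 (Lpe (K16.f181679 IH) (Lpr_ff (K16.f269024 IH) (Lpe (f181394 IH) (Lpn (LP (LK LD1_c9 LD2_c2 LD3_c31))))))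
theorem f551687 : Led Lsl_gf (LP (LK LD1_c6 LD2_c14 LD3_c20)) = (LP (LK LD1_c5 LD2_c41 LD3_c32)) :=
  Lgr Lrot47 (Lpr_gt (K39.f551681 IH) (Lpe (f181394 IH) (Lpe (f269033 IH) (Lpn (LP (LK LD1_c5 LD2_c41 LD3_c32))))))
theorem f587745 : Led Lsl_ct (LP (LK LD1_c13 LD2_c29 LD3_c25)) = (LP (LK LD1_c10 LD2_c41 LD3_c34)) :=
  Lgr Lrot91 (Lpe (f530802 IH) (Lpr_bf (f587734 IH) (Lpe (K39.f549204 IH) (Lpe (K13.f60491 IH) (Lpe (K1.f60450 IH) (Lpr_bt (K39.f60509 IH) (Lpr_gf (f551687 IH) (Lpe (K39.f181655 IH) (Lpr_ct (K39.f550037 IH) (Lpe (K38.f331800 IH) (Lpn (LP (LK LD1_c10 LD2_c41 LD3_c34)))))))))))))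
theorem f60465 : Led Lsl_gt (LP (LK LD1_c6 LD2_c15 LD3_c14)) = (LP (LK LD1_c12 LD2_c8 LD3_c42)) :=
  Lre_g IH (LK LD1_c6 LD2_c15 LD3_c14) (LK LD1_c12 LD2_c8 LD3_c42) Lrfl Lrfl
theorem f587755 : Led Lsl_df (LP (LK LD1_c13 LD2_c29 LD3_c25)) = (LP (LK LD1_c12 LD2_c8 LD3_c42)) :=
  Lgr Lrot174 (Lpr_ct (f587745 IH) (Lpe (K38.f331799 IH) (Lpe (K38.f331854 IH) (Lpe (K18.f246619 IH) (Lpe (K31.f411723 IH) (Lpr_ct (K42.f411711 IH) (Lpe (K42.f556843 IH) (Lpr_dt (K43.f410593 IH) (Lpr_gt (f60465 IH) (Lpn (LP (LK LD1_c12 LD2_c8 LD3_c42))))))))))))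
theorem f587669 : Led Lsl_gf (LP (LK LD1_c13 LD2_c41 LD3_c45)) = (LP (LK LD1_c13 LD2_c30 LD3_c60)) :=
  Lgr Lrot134 (Lpe (K42.f160323 IH) (Lpe (K41.f564977 IH) (Lpr_gt (K42.f550009 IH) (Lpe (K43.f550016 IH) (Lpe (K43.f573203 IH) (Lpe (K43.f577213 IH) (Lpe (K42.f98352 IH) (Lpe (K42.f569877 IH) (Lpe (f587306 IH) (Lpr_dt (f587656 IH) (Lpn (LP (LK LD1_c13 LD2_c30 LD3_c60)))))))))))))
theorem f552745 : Led Lsl_dt (LP (LK LD1_c9 LD2_c3 LD3_c4)) = (LP (LK LD1_c4 LD2_c32 LD3_c55)) :=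
  Lre_d IH (LK LD1_c9 LD2_c3 LD3_c4) (LK LD1_c4 LD2_c32 LD3_c55) Lrfl Lrfl
theorem f587761 : Led Lsl_gt (LP (LK LD1_c13 LD2_c29 LD3_c25)) = (LP (LK LD1_c9 LD2_c3 LD3_c4)) :=
  Lgr Lrot49 (Lpr_df (f587755 IH) (Lpe (f60465 IH) (Lpe (K39.f410591 IH) (Lpe (f587306 IH) (Lpr_dt (f587656 IH) (Lpe (f587669 IH) (Lpr_dt (K42.f160325 IH) (Lpr_cf (f552756 IH) (Lpe (f552745 IH) (Lpn (LP (LK LD1_c9 LD2_c3 LD3_c4))))))))))))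
theorem f382032 : Led Lsl_gt (LP (LK LD1_c4 LD2_c23 LD3_c19)) = (LP (LK LD1_c8 LD2_c44 LD3_c19)) :=
  Lre_g IH (LK LD1_c4 LD2_c23 LD3_c19) (LK LD1_c8 LD2_c44 LD3_c19) Lrfl Lrfl
theorem f552579 : Led Lsl_bt (LP (LK LD1_c8 LD2_c43 LD3_c40)) = (LP (LK LD1_c4 LD2_c23 LD3_c3)) :=
  Lgr Lrot22 (Lpr_ct (K39.f552572 IH) (Lpe (f382032 IH) (Lpe (f382039 IH) (Lpe (K38.f80168 IH) (Lpe (K41.f181979 IH) (Lpr_ct (K1.f28950 IH) (Lpe (K13.f39431 IH) (Lpe (K14.f39432 IH) (Lpr_bt (K31.f237310 IH) (Lpe (K43.f403072 IH) (Lpn (LP (LK LD1_c4 LD2_c23 LD3_c3)))))))))))))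
theorem f552773 : Led Lsl_gt (LP (LK LD1_c7 LD2_c7 LD3_c41)) = (LP (LK LD1_c4 LD2_c23 LD3_c3)) :=
  Lgr Lrot164 (Lpr_bf (K39.f552764 IH) (Lpr_ct (K16.f181735 IH) (Lpe (K31.f412030 IH) (Lpe (K38.f172748 IH) (Lpr_gf (K39.f552581 IH) (Lpe (K39.f424201 IH) (Lpr_ct (K39.f424195 IH) (Lpe (K31.f181754 IH) (Lpe (K39.f552572 IH) (Lpr_bt (f552579 IH) (Lpn (LP (LK LD1_c4 LD2_c23 LD3_c3)))))))))))))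
theorem f397360 : Led Lsl_cf (LP (LK LD1_c19 LD2_c10 LD3_c39)) = (LP (LK LD1_c14 LD2_c58 LD3_c21)) :=
  Lgr Lrot108 (Lpr_ft (K39.f397352 IH) (Lpr_ct (K18.f237450 IH) (Lpr_ft (K22.f331797 IH) (Lpn (LP (LK LD1_c14 LD2_c58 LD3_c21))))))
theorem f403073 : Led Lsl_df (LP (LK LD1_c4 LD2_c23 LD3_c3)) = (LP (LK LD1_c8 LD2_c43 LD3_c28)) :=
  Lgr Lrot153 (Lpr_gt (K43.f403072 IH) (Lpr_dt (K39.f403071 IH) (Lpe (K16.f237614 IH) (Lpr_df (K38.f403062 IH) (Lpe (K31.f182173 IH) (Lpe (K41.f312934 IH) (Lpe (K39.f224728 IH) (Lpr_cf (f397360 IH) (Lpe (K39.f331810 IH) (Lpn (LP (LK LD1_c8 LD2_c43 LD3_c28))))))))))))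
theorem f403077 : Led Lsl_dt (LP (LK LD1_c4 LD2_c23 LD3_c3)) = (LP (LK LD1_c8 LD2_c43 LD3_c28)) :=
  Lgr Lrot42 (Lpr_df (f403073 IH) (Lpn (LP (LK LD1_c8 LD2_c43 LD3_c28))))
theorem f225028 : Led Lsl_ef (LP (LK LD1_c4 LD2_c2 LD3_c12)) = (LP (LK LD1_c2 LD2_c8 LD3_c50)) :=
  Lgr Lrot29 (Lpr_bt (K42.f33749 IH) (Lpr_et (K13.f225026 IH) (Lpr_bt (K18.f180217 IH) (Lpn (LP (LK LD1_c2 LD2_c8 LD3_c50))))))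
theorem f587763 : Led Lsl_ef (LP (LK LD1_c8 LD2_c4 LD3_c54)) = (LP (LK LD1_c12 LD2_c8 LD3_c42)) :=
  Lgr Lrot17 (Lpe (K42.f225146 IH) (Lpr_ef (f225028 IH) (Lpr_dt (K18.f225101 IH) (Lpe (K39.f225108 IH) (Lpe (f403077 IH) (Lpe (f552773 IH) (Lpr_ef (K39.f552758 IH) (Lpr_dt (K39.f552751 IH) (Lpe (f587761 IH) (Lpr_df (f587755 IH) (Lpn (LP (LK LD1_c12 LD2_c8 LD3_c42)))))))))))))
theorem f574090 : Led Lsl_ft (LP (LK LD1_c8 LD2_c4 LD3_c54)) = (LP (LK LD1_c4 LD2_c24 LD3_c13)) :=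
  Lgr Lrot2 (Lpr_gt (K42.f386134 IH) (Lpr_gt (K43.f574088 IH) (Lpe (K43.f133033 IH) (Lpn (LP (LK LD1_c4 LD2_c24 LD3_c13))))))
theorem f587769 : Led Lsl_ft (LP (LK LD1_c7 LD2_c56 LD3_c40)) = (LP (LK LD1_c12 LD2_c8 LD3_c42)) :=
  Lgr Lrot86 (Lpe (K39.f59404 IH) (Lpe (K8.f132854 IH) (Lpe (K37.f81094 IH) (Lpe (f574090 IH) (Lpr_ef (f587763 IH) (Lpn (LP (LK LD1_c12 LD2_c8 LD3_c42))))))))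
theorem f587779 : Led Lsl_ff (LP (LK LD1_c7 LD2_c56 LD3_c40)) = (LP (LK LD1_c12 LD2_c8 LD3_c42)) :=
  Lgr Lrot3 (Lpr_ft (f587769 IH) (Lpn (LP (LK LD1_c12 LD2_c8 LD3_c42))))
theorem f112926 : Led Lsl_gt (LP (LK LD1_c8 LD2_c46 LD3_c9)) = (LP (LK LD1_c4 LD2_c24 LD3_c16)) :=
  Lre_g IH (LK LD1_c8 LD2_c46 LD3_c9) (LK LD1_c4 LD2_c24 LD3_c16) Lrfl Lrfl
theorem f587787 : Led Lsl_gf (LP (LK LD1_c8 LD2_c46 LD3_c9)) = (LP (LK LD1_c12 LD2_c8 LD3_c42)) :=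
  Lgr Lrot47 (Lpr_gt (f112926 IH) (Lpr_af (K42.f133009 IH) (Lpr_ff (f587779 IH) (Lpn (LP (LK LD1_c12 LD2_c8 LD3_c42))))))
theorem f587791 : Led Lsl_dt (LP (LK LD1_c8 LD2_c46 LD3_c9)) = (LP (LK LD1_c16 LD2_c24 LD3_c27)) :=
  Lre_d IH (LK LD1_c8 LD2_c46 LD3_c9) (LK LD1_c16 LD2_c24 LD3_c27) Lrfl Lrfl
theorem f393931 : Led Lsl_at (LP (LK LD1_c19 LD2_c21 LD3_c16)) = (LP (LK LD1_c10 LD2_c41 LD3_c34)) :=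
  Lre_a IH (LK LD1_c19 LD2_c21 LD3_c16) (LK LD1_c10 LD2_c41 LD3_c34) Lrfl Lrfl
theorem f331859 : Led Lsl_dt (LP (LK LD1_c19 LD2_c21 LD3_c16)) = (LP (LK LD1_c10 LD2_c41 LD3_c33)) :=
  Lre_d IH (LK LD1_c19 LD2_c21 LD3_c16) (LK LD1_c10 LD2_c41 LD3_c33) Lrfl Lrfl
theorem f549999 : Led Lsl_ft (LP (LK LD1_c16 LD2_c21 LD3_c30)) = (LP (LK LD1_c19 LD2_c21 LD3_c16)) :=
  Lgr Lrot54 (Lpr_df (K38.f549990 IH) (Lpr_ff (K41.f331852 IH) (Lpe (f331859 IH) (Lpn (LP (LK LD1_c19 LD2_c21 LD3_c16))))))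
theorem f237628 : Led Lsl_ct (LP (LK LD1_c8 LD2_c43 LD3_c54)) = (LP (LK LD1_c16 LD2_c21 LD3_c3)) :=
  Lre_c IH (LK LD1_c8 LD2_c43 LD3_c54) (LK LD1_c16 LD2_c21 LD3_c3) Lrfl Lrfl
theorem f550041 : Led Lsl_df (LP (LK LD1_c16 LD2_c21 LD3_c3)) = (LP (LK LD1_c17 LD2_c53 LD3_c28)) :=
  Lgr Lrot162 (Lpe (f237628 IH) (Lpe (K38.f237627 IH) (Lpe (K16.f237614 IH) (Lpr_gf (K38.f550035 IH) (Lpr_dt (K38.f168708 IH) (Lpr_gt (K18.f167939 IH) (Lpe (K22.f331790 IH) (Lpe (K22.f331831 IH) (Lpr_ct (K22.f332236 IH) (Lpn (LP (LK LD1_c17 LD2_c53 LD3_c28))))))))))))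
theorem f418215 : Led Lsl_ct (LP (LK LD1_c16 LD2_c21 LD3_c3)) = (LP (LK LD1_c8 LD2_c43 LD3_c54)) :=
  Lre_c IH (LK LD1_c16 LD2_c21 LD3_c3) (LK LD1_c8 LD2_c43 LD3_c54) Lrfl Lrfl
theorem f587759 : Led Lsl_ct (LP (LK LD1_c7 LD2_c56 LD3_c12)) = (LP (LK LD1_c12 LD2_c8 LD3_c42)) :=
  Lgr Lrot53 (Lpr_df (K38.f549937 IH) (Lpe (f418215 IH) (Lpr_df (f550041 IH) (Lpe (K22.f332236 IH) (Lpe (K41.f549996 IH) (Lpr_ft (f549999 IH) (Lpr_at (f393931 IH) (Lpe (f587745 IH) (Lpr_df (f587755 IH) (Lpn (LP (LK LD1_c12 LD2_c8 LD3_c42))))))))))))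
theorem f569702 : Led Lsl_gt (LP (LK LD1_c8 LD2_c43 LD3_c26)) = (LP (LK LD1_c13 LD2_c30 LD3_c6)) :=
  Lgr Lrot94 (Lpe (K18.f237450 IH) (Lpr_gt (K41.f400169 IH) (Lpe (K41.f218556 IH) (Lpr_gt (K16.f169232 IH) (Lpe (K16.f238825 IH) (Lpe (K16.f197791 IH) (Lpe (K42.f197790 IH) (Lpr_gf (K42.f569700 IH) (Lpe (K42.f488638 IH) (Lpn (LP (LK LD1_c13 LD2_c30 LD3_c6))))))))))))
theorem f411728 : Led Lsl_dt (LP (LK LD1_c11 LD2_c15 LD3_c28)) = (LP (LK LD1_c5 LD2_c42 LD3_c38)) :=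
  Lre_d IH (LK LD1_c11 LD2_c15 LD3_c28) (LK LD1_c5 LD2_c42 LD3_c38) Lrfl Lrfl
theorem f587792 : Led Lsl_gt (LP (LK LD1_c16 LD2_c24 LD3_c27)) = (LP (LK LD1_c11 LD2_c15 LD3_c28)) :=
  Lgr Lrot49 (Lpe (f587791 IH) (Lpr_gf (f587787 IH) (Lpe (f587759 IH) (Lpe (K38.f331820 IH) (Lpr_dt (K22.f225127 IH) (Lpr_gt (f569702 IH) (Lpr_dt (K42.f488638 IH) (Lpe (K42.f569694 IH) (Lpe (f411728 IH) (Lpn (LP (LK LD1_c11 LD2_c15 LD3_c28))))))))))))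
theorem f569708 : Led Lsl_ef (LP (LK LD1_c2 LD2_c54 LD3_c20)) = (LP (LK LD1_c5 LD2_c42 LD3_c38)) :=
  Lgr Lrot28 (Lpe (K6.f81825 IH) (Lpr_et (K42.f569706 IH) (Lpe (K42.f569698 IH) (Lpn (LP (LK LD1_c5 LD2_c42 LD3_c38))))))
theorem f142233 : Led Lsl_ft (LP (LK LD1_c4 LD2_c36 LD3_c57)) = (LP (LK LD1_c2 LD2_c15 LD3_c41)) :=
  Lre_f IH (LK LD1_c4 LD2_c36 LD3_c57) (LK LD1_c2 LD2_c15 LD3_c41) Lrfl Lrfl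
theorem f142232 : Led Lsl_at (LP (LK LD1_c2 LD2_c15 LD3_c41)) = (LP (LK LD1_c4 LD2_c36 LD3_c54)) :=
  Lre_a IH (LK LD1_c2 LD2_c15 LD3_c41) (LK LD1_c4 LD2_c36 LD3_c54) Lrfl Lrfl
theorem f158680 : Led Lsl_gf (LP (LK LD1_c4 LD2_c36 LD3_c54)) = (LP (LK LD1_c2 LD2_c54 LD3_c20)) :=
  Lgr Lrot76 (Lpe (f142232 IH) (Lpe (f142233 IH) (Lpr_gt (K8.f158676 IH) (Lpn (LP (LK LD1_c2 LD2_c54 LD3_c20))))))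
theorem f587767 : Led Lsl_et (LP (LK LD1_c8 LD2_c4 LD3_c54)) = (LP (LK LD1_c12 LD2_c8 LD3_c42)) :=
  Lgr Lrot87 (Lpr_ef (f587763 IH) (Lpn (LP (LK LD1_c12 LD2_c8 LD3_c42))))
theorem f587800 : Led Lsl_gt (LP (LK LD1_c8 LD2_c5 LD3_c15)) = (LP (LK LD1_c15 LD2_c13 LD3_c1)) :=
  Lgr Lrot112 (Lpr_df (K42.f193413 IH) (Lpe (K42.f540836 IH) (Lpr_gf (f158680 IH) (Lpr_ef (f569708 IH) (Lpr_dt (K42.f411729 IH) (Lpe (f587792 IH) (Lpe (f587791 IH) (Lpr_gf (f587787 IH) (Lpe (f587767 IH) (Lpr_dt (f225147 IH) (Lpn (LP (LK LD1_c15 LD2_c13 LD3_c1)))))))))))))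
theorem f544416 : Led Lsl_gf (LP (LK LD1_c4 LD2_c13 LD3_c27)) = (LP (LK LD1_c7 LD2_c7 LD3_c7)) :=
  Lgr Lrot144 (Lpr_dt (K37.f272165 IH) (Lpr_gt (K37.f544412 IH) (Lpr_dt (K5.f81002 IH) (Lpe (K8.f80996 IH) (Lpr_df (K35.f538486 IH) (Lpe (K35.f31747 IH) (Lpe (K42.f36203 IH) (Lpr_gf (K36.f540491 IH) (Lpe (K36.f97156 IH) (Lpn (LP (LK LD1_c7 LD2_c7 LD3_c7))))))))))))
theorem f5414 : Led Lsl_dt (LP (LK LD1_c3 LD2_c38 LD3_c36)) = (LP (LK LD1_c1 LD2_c46 LD3_c16)) :=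
  Lre_d IH (LK LD1_c3 LD2_c38 LD3_c36) (LK LD1_c1 LD2_c46 LD3_c16) Lrfl Lrfl
theorem f5516 : Led Lsl_ct (LP (LK LD1_c7 LD2_c17 LD3_c34)) = (LP (LK LD1_c3 LD2_c38 LD3_c36)) :=
  Lre_c IH (LK LD1_c7 LD2_c17 LD3_c34) (LK LD1_c3 LD2_c38 LD3_c36) Lrfl Lrfl
theorem f4141 : Led Lsl_gt (LP (LK LD1_c13 LD2_c47 LD3_c44)) = (LP (LK LD1_c7 LD2_c17 LD3_c34)) :=
  Lre_g IH (LK LD1_c13 LD2_c47 LD3_c44) (LK LD1_c7 LD2_c17 LD3_c34) Lrfl Lrfl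
theorem f570960 : Led Lsl_cf (LP (LK LD1_c13 LD2_c47 LD3_c44)) = (LP (LK LD1_c15 LD2_c10 LD3_c23)) :=
  Lgr Lrot188 (Lpr_gt (f4141 IH) (Lpr_ct (f5516 IH) (Lpr_dt (f5414 IH) (Lpe (K0.f5134 IH) (Lpe (K41.f4999 IH) (Lpe (f570061 IH) (Lpr_gf (K42.f540894 IH) (Lpr_dt (K42.f570950 IH) (Lpe (K42.f408504 IH) (Lpn (LP (LK LD1_c15 LD2_c10 LD3_c23))))))))))))
theorem f573712 : Led Lsl_gt (LP (LK LD1_c13 LD2_c47 LD3_c46)) = (LP (LK LD1_c23 LD2_c15 LD3_c32)) :=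
  Lre_g IH (LK LD1_c13 LD2_c47 LD3_c46) (LK LD1_c23 LD2_c15 LD3_c32) Lrfl Lrfl
theorem f574806 : Led Lsl_dt (LP (LK LD1_c23 LD2_c15 LD3_c32)) = (LP (LK LD1_c15 LD2_c10 LD3_c42)) :=
  Lgr Lrot105 (Lpe (f573712 IH) (Lpe (K0.f5137 IH) (Lpe (f4141 IH) (Lpr_cf (f570960 IH) (Lpr_gt (K43.f574800 IH) (Lpr_dt (K42.f97160 IH) (Lpe (f544416 IH) (Lpr_dt (K37.f272165 IH) (Lpe (K42.f69753 IH) (Lpn (LP (LK LD1_c15 LD2_c10 LD3_c42))))))))))))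
theorem f574810 : Led Lsl_cf (LP (LK LD1_c15 LD2_c10 LD3_c23)) = (LP (LK LD1_c13 LD2_c47 LD3_c44)) :=
  Lgr Lrot166 (Lpr_gt (K43.f574800 IH) (Lpr_dt (K42.f97160 IH) (Lpe (f544416 IH) (Lpr_dt (K37.f272165 IH) (Lpr_ct (K42.f34112 IH) (Lpe (f574806 IH) (Lpe (f573712 IH) (Lpe (K0.f5137 IH) (Lpe (f4141 IH) (Lpn (LP (LK LD1_c13 LD2_c47 LD3_c44))))))))))))
theorem f5670 : Led Lsl_dt (LP (LK LD1_c23 LD2_c15 LD3_c26)) = (LP (LK LD1_c13 LD2_c47 LD3_c44)) :=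
  Lre_d IH (LK LD1_c23 LD2_c15 LD3_c26) (LK LD1_c13 LD2_c47 LD3_c44) Lrfl Lrfl
theorem f587804 : Led Lsl_gt (LP (LK LD1_c23 LD2_c15 LD3_c30)) = (LP (LK LD1_c23 LD2_c15 LD3_c26)) :=
  Lgr Lrot49 (Lpr_df (K43.f573166 IH) (Lpe (K43.f282296 IH) (Lpe (K42.f193432 IH) (Lpr_gt (f587800 IH) (Lpr_dt (f386137 IH) (Lpr_gt (K42.f386134 IH) (Lpr_dt (K42.f386136 IH) (Lpr_cf (f574810 IH) (Lpe (f5670 IH) (Lpn (LP (LK LD1_c23 LD2_c15 LD3_c26))))))))))))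
theorem f573880 : Led Lsl_af (LP (LK LD1_c23 LD2_c15 LD3_c31)) = (LP (LK LD1_c30 LD2_c57 LD3_c47)) :=
  Lgr Lrot45 (Lpr_ft (K24.f5437 IH) (Lpr_at (K43.f5604 IH) (Lpr_ft (K43.f573874 IH) (Lpn (LP (LK LD1_c30 LD2_c57 LD3_c47))))))
theorem f587810 : Led Lsl_gf (LP (LK LD1_c23 LD2_c15 LD3_c31)) = (LP (LK LD1_c23 LD2_c15 LD3_c26)) :=
  Lgr Lrot76 (Lpr_af (f573880 IH) (Lpe (K43.f573874 IH) (Lpr_gt (f587804 IH) (Lpn (LP (LK LD1_c23 LD2_c15 LD3_c26))))))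
theorem f5434 : Led Lsl_ct (LP (LK LD1_c23 LD2_c15 LD3_c31)) = (LP (LK LD1_c23 LD2_c20 LD3_c14)) :=
  Lgr Lrot59 (Lpr_cf (K24.f5430 IH) (Lpn (LP (LK LD1_c23 LD2_c20 LD3_c14))))
theorem f4179 : Led Lsl_dt (LP (LK LD1_c13 LD2_c47 LD3_c44)) = (LP (LK LD1_c23 LD2_c15 LD3_c26)) :=
  Lre_d IH (LK LD1_c13 LD2_c47 LD3_c44) (LK LD1_c23 LD2_c15 LD3_c26) Lrfl Lrfl
theorem f5619 : Led Lsl_ct (LP (LK LD1_c7 LD2_c17 LD3_c32)) = (LP (LK LD1_c13 LD2_c47 LD3_c39)) :=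
  Lre_c IH (LK LD1_c7 LD2_c17 LD3_c32) (LK LD1_c13 LD2_c47 LD3_c39) Lrfl Lrfl
theorem f569598 : Led Lsl_dt (LP (LK LD1_c23 LD2_c15 LD3_c14)) = (LP (LK LD1_c13 LD2_c47 LD3_c39)) :=
  Lre_d IH (LK LD1_c23 LD2_c15 LD3_c14) (LK LD1_c13 LD2_c47 LD3_c39) Lrfl Lrfl
theorem f587814 : Led Lsl_ct (LP (LK LD1_c28 LD2_c12 LD3_c11)) = (LP (LK LD1_c23 LD2_c15 LD3_c14)) :=
  Lgr Lrot110 (Lpe (K43.f566079 IH) (Lpe (f5434 IH) (Lpr_gf (f587810 IH) (Lpe (f4179 IH) (Lpr_gt (f4141 IH) (Lpr_ct (f5516 IH) (Lpr_gt (K42.f5618 IH) (Lpr_ct (f5619 IH) (Lpe (f569598 IH) (Lpn (LP (LK LD1_c23 LD2_c15 LD3_c14))))))))))))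
theorem f411034 : Led Lsl_dt (LP (LK LD1_c18 LD2_c40 LD3_c38)) = (LP (LK LD1_c28 LD2_c12 LD3_c11)) :=
  Lre_d IH (LK LD1_c18 LD2_c40 LD3_c38) (LK LD1_c28 LD2_c12 LD3_c11) Lrfl Lrfl
theorem f573685 : Led Lsl_dt (LP (LK LD1_c7 LD2_c17 LD3_c33)) = (LP (LK LD1_c5 LD2_c12 LD3_c56)) :=
  Lgr Lrot42 (Lpr_df (K43.f573677 IH) (Lpn (LP (LK LD1_c5 LD2_c12 LD3_c56))))
theorem f573690 : Led Lsl_ft (LP (LK LD1_c7 LD2_c17 LD3_c33)) = (LP (LK LD1_c10 LD2_c1 LD3_c25)) :=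
  Lgr Lrot54 (Lpr_df (K43.f573677 IH) (Lpe (K43.f411049 IH) (Lpe (K43.f240848 IH) (Lpn (LP (LK LD1_c10 LD2_c1 LD3_c25))))))
theorem f569599 : Led Lsl_ct (LP (LK LD1_c13 LD2_c47 LD3_c39)) = (LP (LK LD1_c7 LD2_c17 LD3_c32)) :=
  Lre_c IH (LK LD1_c13 LD2_c47 LD3_c39) (LK LD1_c7 LD2_c17 LD3_c32) Lrfl Lrfl
theorem f587821 : Led Lsl_at (LP (LK LD1_c10 LD2_c1 LD3_c25)) = (LP (LK LD1_c7 LD2_c17 LD3_c32)) :=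
  Lgr Lrot33 (Lpe (f573690 IH) (Lpr_dt (f573685 IH) (Lpe (K43.f411046 IH) (Lpr_dt (K42.f273019 IH) (Lpr_ct (f240928 IH) (Lpr_dt (f411034 IH) (Lpr_ct (f587814 IH) (Lpr_dt (f569598 IH) (Lpr_ct (f569599 IH) (Lpn (LP (LK LD1_c7 LD2_c17 LD3_c32))))))))))))
theorem f240849 : Led Lsl_et (LP (LK LD1_c18 LD2_c18 LD3_c60)) = (LP (LK LD1_c10 LD2_c1 LD3_c25)) :=
  Lre_e IH (LK LD1_c18 LD2_c18 LD3_c60) (LK LD1_c10 LD2_c1 LD3_c25) Lrfl Lrfl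
theorem f481562 : Led Lsl_et (LP (LK LD1_c7 LD2_c17 LD3_c32)) = (LP (LK LD1_c13 LD2_c47 LD3_c40)) :=
  Lre_e IH (LK LD1_c7 LD2_c17 LD3_c32) (LK LD1_c13 LD2_c47 LD3_c40) Lrfl Lrfl
theorem f587826 : Led Lsl_af (LP (LK LD1_c18 LD2_c18 LD3_c60)) = (LP (LK LD1_c13 LD2_c47 LD3_c40)) :=
  Lgr Lrot50 (Lpr_et (f240849 IH) (Lpr_at (f587821 IH) (Lpr_et (f481562 IH) (Lpn (LP (LK LD1_c13 LD2_c47 LD3_c40))))))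
theorem f417963 : Led Lsl_ct (LP (LK LD1_c18 LD2_c18 LD3_c60)) = (LP (LK LD1_c27 LD2_c57 LD3_c42)) :=
  Lre_c IH (LK LD1_c18 LD2_c18 LD3_c60) (LK LD1_c27 LD2_c57 LD3_c42) Lrfl Lrfl
theorem f481567 : Led Lsl_ct (LP (LK LD1_c23 LD2_c15 LD3_c15)) = (LP (LK LD1_c13 LD2_c47 LD3_c40)) :=
  Lre_c IH (LK LD1_c23 LD2_c15 LD3_c15) (LK LD1_c13 LD2_c47 LD3_c40) Lrfl Lrfl
theorem f587832 : Led Lsl_at (LP (LK LD1_c27 LD2_c57 LD3_c42)) = (LP (LK LD1_c23 LD2_c15 LD3_c15)) :=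
  Lgr Lrot107 (Lpe (f417963 IH) (Lpr_af (f587826 IH) (Lpe (f481567 IH) (Lpn (LP (LK LD1_c23 LD2_c15 LD3_c15))))))
theorem f587835 : Led Lsl_af (LP (LK LD1_c27 LD2_c57 LD3_c42)) = (LP (LK LD1_c23 LD2_c15 LD3_c15)) :=
  Lgr Lrot0 (Lpr_at (f587832 IH) (Lpn (LP (LK LD1_c23 LD2_c15 LD3_c15))))
theorem f417967 : Led Lsl_et (LP (LK LD1_c27 LD2_c57 LD3_c42)) = (LP (LK LD1_c18 LD2_c18 LD3_c59)) :=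
  Lre_e IH (LK LD1_c27 LD2_c57 LD3_c42) (LK LD1_c18 LD2_c18 LD3_c59) Lrfl Lrfl
theorem f587838 : Led Lsl_et (LP (LK LD1_c13 LD2_c47 LD3_c39)) = (LP (LK LD1_c23 LD2_c15 LD3_c15)) :=
  Lre_e IH (LK LD1_c13 LD2_c47 LD3_c39) (LK LD1_c23 LD2_c15 LD3_c15) Lrfl Lrfl
theorem f587839 : Led Lsl_at (LP (LK LD1_c18 LD2_c18 LD3_c59)) = (LP (LK LD1_c13 LD2_c47 LD3_c39)) :=
  Lgr Lrot80 (Lpe (f417967 IH) (Lpr_af (f587835 IH) (Lpe (f587838 IH) (Lpn (LP (LK LD1_c13 LD2_c47 LD3_c39))))))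
theorem f417966 : Led Lsl_dt (LP (LK LD1_c27 LD2_c57 LD3_c41)) = (LP (LK LD1_c18 LD2_c18 LD3_c59)) :=
  Lre_d IH (LK LD1_c27 LD2_c57 LD3_c41) (LK LD1_c18 LD2_c18 LD3_c59) Lrfl Lrfl
theorem f569593 : Led Lsl_dt (LP (LK LD1_c13 LD2_c47 LD3_c39)) = (LP (LK LD1_c23 LD2_c15 LD3_c14)) :=
  Lre_d IH (LK LD1_c13 LD2_c47 LD3_c39) (LK LD1_c23 LD2_c15 LD3_c14) Lrfl Lrfl
theorem f587841 : Led Lsl_af (LP (LK LD1_c27 LD2_c57 LD3_c41)) = (LP (LK LD1_c23 LD2_c15 LD3_c14)) :=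
  Lgr Lrot117 (Lpr_dt (f417966 IH) (Lpr_at (f587839 IH) (Lpr_dt (f569593 IH) (Lpn (LP (LK LD1_c23 LD2_c15 LD3_c14))))))
theorem f587845 : Led Lsl_at (LP (LK LD1_c23 LD2_c20 LD3_c11)) = (LP (LK LD1_c28 LD2_c12 LD3_c11)) :=
  Lgr Lrot107 (Lpe (K43.f573175 IH) (Lpr_af (f587841 IH) (Lpe (f587814 IH) (Lpn (LP (LK LD1_c28 LD2_c12 LD3_c11))))))
theorem f587848 : Led Lsl_af (LP (LK LD1_c23 LD2_c20 LD3_c11)) = (LP (LK LD1_c28 LD2_c12 LD3_c11)) :=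
  Lgr Lrot0 (Lpr_at (f587845 IH) (Lpn (LP (LK LD1_c28 LD2_c12 LD3_c11))))
theorem f573179 : Led Lsl_dt (LP (LK LD1_c16 LD2_c12 LD3_c2)) = (LP (LK LD1_c26 LD2_c8 LD3_c55)) :=
  Lre_d IH (LK LD1_c16 LD2_c12 LD3_c2) (LK LD1_c26 LD2_c8 LD3_c55) Lrfl Lrfl
theorem f573180 : Led Lsl_gt (LP (LK LD1_c26 LD2_c8 LD3_c55)) = (LP (LK LD1_c23 LD2_c20 LD3_c11)) :=
  Lgr Lrot49 (Lpe (f573179 IH) (Lpe (K43.f540811 IH) (Lpe (K43.f241025 IH) (Lpr_gt (K42.f31847 IH) (Lpr_dt (K43.f572494 IH) (Lpe (K43.f411039 IH) (Lpr_dt (K43.f411041 IH) (Lpr_cf (K43.f573168 IH) (Lpe (K43.f5207 IH) (Lpn (LP (LK LD1_c23 LD2_c20 LD3_c11))))))))))))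
theorem f573182 : Led Lsl_dt (LP (LK LD1_c26 LD2_c8 LD3_c55)) = (LP (LK LD1_c16 LD2_c12 LD3_c2)) :=
  Lre_d IH (LK LD1_c26 LD2_c8 LD3_c55) (LK LD1_c16 LD2_c12 LD3_c2) Lrfl Lrfl
theorem f5457 : Led Lsl_gt (LP (LK LD1_c7 LD2_c19 LD3_c20)) = (LP (LK LD1_c13 LD2_c50 LD3_c55)) :=
  Lre_g IH (LK LD1_c7 LD2_c19 LD3_c20) (LK LD1_c13 LD2_c50 LD3_c55) Lrfl Lrfl
theorem f5458 : Led Lsl_dt (LP (LK LD1_c13 LD2_c50 LD3_c55)) = (LP (LK LD1_c23 LD2_c20 LD3_c8)) :=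
  Lre_d IH (LK LD1_c13 LD2_c50 LD3_c55) (LK LD1_c23 LD2_c20 LD3_c8) Lrfl Lrfl
theorem f587539 : Led Lsl_gf (LP (LK LD1_c26 LD2_c8 LD3_c55)) = (LP (LK LD1_c23 LD2_c20 LD3_c8)) :=
  Lgr Lrot143 (Lpr_dt (f573182 IH) (Lpr_cf (K43.f574158 IH) (Lpe (K43.f573744 IH) (Lpr_gf (K43.f573742 IH) (Lpr_df (f587513 IH) (Lpe (K42.f5521 IH) (Lpe (K43.f5120 IH) (Lpr_gt (f5457 IH) (Lpr_dt (f5458 IH) (Lpn (LP (LK LD1_c23 LD2_c20 LD3_c8))))))))))))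
theorem f587853 : Led Lsl_ft (LP (LK LD1_c23 LD2_c20 LD3_c8)) = (LP (LK LD1_c28 LD2_c12 LD3_c11)) :=
  Lgr Lrot2 (Lpe (f587539 IH) (Lpr_gt (f573180 IH) (Lpr_af (f587848 IH) (Lpn (LP (LK LD1_c28 LD2_c12 LD3_c11))))))
theorem f587544 : Led Lsl_dt (LP (LK LD1_c23 LD2_c20 LD3_c8)) = (LP (LK LD1_c13 LD2_c50 LD3_c55)) :=
  Lre_d IH (LK LD1_c23 LD2_c20 LD3_c8) (LK LD1_c13 LD2_c50 LD3_c55) Lrfl Lrfl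
theorem f587855 : Led Lsl_cf (LP (LK LD1_c10 LD2_c1 LD3_c18)) = (LP (LK LD1_c13 LD2_c50 LD3_c55)) :=
  Lgr Lrot118 (Lpr_dt (K43.f240827 IH) (Lpr_ct (K41.f240846 IH) (Lpr_dt (K41.f240838 IH) (Lpr_ct (K42.f240850 IH) (Lpr_dt (K43.f240851 IH) (Lpr_ct (K43.f573175 IH) (Lpr_af (f587848 IH) (Lpe (f587853 IH) (Lpr_dt (f587544 IH) (Lpn (LP (LK LD1_c13 LD2_c50 LD3_c55))))))))))))
theorem f587866 : Led Lsl_gt (LP (LK LD1_c13 LD2_c50 LD3_c57)) = (LP (LK LD1_c23 LD2_c20 LD3_c8)) :=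
  Lgr Lrot49 (Lpr_df (K43.f573865 IH) (Lpe (K43.f573841 IH) (Lpe (K43.f568818 IH) (Lpe (K42.f568823 IH) (Lpe (f540804 IH) (Lpe (K42.f570526 IH) (Lpr_dt (K39.f240819 IH) (Lpr_cf (f587855 IH) (Lpe (f587544 IH) (Lpn (LP (LK LD1_c23 LD2_c20 LD3_c8))))))))))))
theorem f587871 : Led Lsl_at (LP (LK LD1_c23 LD2_c20 LD3_c14)) = (LP (LK LD1_c26 LD2_c8 LD3_c55)) :=
  Lgr Lrot26 (Lpe (K24.f5438 IH) (Lpr_gt (f587866 IH) (Lpe (f587539 IH) (Lpn (LP (LK LD1_c26 LD2_c8 LD3_c55))))))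
theorem f5665 : Led Lsl_ct (LP (LK LD1_c13 LD2_c47 LD3_c33)) = (LP (LK LD1_c23 LD2_c14 LD3_c60)) :=
  Lre_c IH (LK LD1_c13 LD2_c47 LD3_c33) (LK LD1_c23 LD2_c14 LD3_c60) Lrfl Lrfl
theorem f569907 : Led Lsl_dt (LP (LK LD1_c23 LD2_c14 LD3_c60)) = (LP (LK LD1_c30 LD2_c57 LD3_c47)) :=
  Lre_d IH (LK LD1_c23 LD2_c14 LD3_c60) (LK LD1_c30 LD2_c57 LD3_c47) Lrfl Lrfl
theorem f587877 : Led Lsl_ct (LP (LK LD1_c30 LD2_c57 LD3_c47)) = (LP (LK LD1_c26 LD2_c8 LD3_c55)) :=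
  Lgr Lrot98 (Lpe (f569907 IH) (Lpe (f5665 IH) (Lpr_df (K42.f569904 IH) (Lpe (K43.f569583 IH) (Lpe (K43.f112593 IH) (Lpr_cf (K43.f573843 IH) (Lpe (K43.f573861 IH) (Lpr_ft (K24.f5438 IH) (Lpr_at (f587871 IH) (Lpn (LP (LK LD1_c26 LD2_c8 LD3_c55))))))))))))
theorem f587493 : Led Lsl_cf (LP (LK LD1_c27 LD2_c57 LD3_c41)) = (LP (LK LD1_c23 LD2_c20 LD3_c11)) :=
  Lgr Lrot166 (Lpe (f587487 IH) (Lpr_dt (f573826 IH) (Lpr_gt (f568820 IH) (Lpr_dt (K43.f573763 IH) (Lpr_ct (K43.f573819 IH) (Lpe (K43.f573163 IH) (Lpe (K43.f241026 IH) (Lpe (K43.f573861 IH) (Lpr_gf (f587489 IH) (Lpn (LP (LK LD1_c23 LD2_c20 LD3_c11))))))))))))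
theorem f587885 : Led Lsl_gf (LP (LK LD1_c30 LD2_c57 LD3_c47)) = (LP (LK LD1_c23 LD2_c15 LD3_c28)) :=
  Lgr Lrot147 (Lpr_ct (f587877 IH) (Lpr_gt (f573180 IH) (Lpe (f587493 IH) (Lpe (K43.f240851 IH) (Lpe (K42.f240850 IH) (Lpe (K41.f565695 IH) (Lpe (K42.f5176 IH) (Lpr_gf (K42.f565691 IH) (Lpr_df (K43.f573929 IH) (Lpn (LP (LK LD1_c23 LD2_c15 LD3_c28))))))))))))
theorem f569628 : Led Lsl_gt (LP (LK LD1_c31 LD2_c0 LD3_c44)) = (LP (LK LD1_c23 LD2_c19 LD3_c61)) :=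
  Lre_g IH (LK LD1_c31 LD2_c0 LD3_c44) (LK LD1_c23 LD2_c19 LD3_c61) Lrfl Lrfl
theorem f587889 : Led Lsl_df (LP (LK LD1_c31 LD2_c0 LD3_c44)) = (LP (LK LD1_c25 LD2_c1 LD3_c49)) :=
  Lgr Lrot155 (Lpr_gt (f569628 IH) (Lpr_ct (f573937 IH) (Lpe (f587885 IH) (Lpr_ct (f587877 IH) (Lpr_dt (f573182 IH) (Lpr_cf (K43.f574158 IH) (Lpe (K43.f574169 IH) (Lpe (f5662 IH) (Lpe (f587383 IH) (Lpn (LP (LK LD1_c25 LD2_c1 LD3_c49))))))))))))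
theorem f573839 : Led Lsl_ff (LP (LK LD1_c23 LD2_c14 LD3_c57)) = (LP (LK LD1_c16 LD2_c11 LD3_c59)) :=
  Lgr Lrot3 (Lpr_ft (K43.f573832 IH) (Lpn (LP (LK LD1_c16 LD2_c11 LD3_c59))))
theorem f573827 : Led Lsl_at (LP (LK LD1_c23 LD2_c14 LD3_c57)) = (LP (LK LD1_c16 LD2_c12 LD3_c5)) :=
  Lgr Lrot100 (Lpr_af (K43.f573823 IH) (Lpn (LP (LK LD1_c16 LD2_c12 LD3_c5))))
theorem f574140 : Led Lsl_gt (LP (LK LD1_c23 LD2_c19 LD3_c52)) = (LP (LK LD1_c16 LD2_c12 LD3_c5)) :=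
  Lgr Lrot46 (Lpr_gf (K43.f574135 IH) (Lpe (f573839 IH) (Lpr_at (f573827 IH) (Lpn (LP (LK LD1_c16 LD2_c12 LD3_c5))))))
theorem f574146 : Led Lsl_df (LP (LK LD1_c23 LD2_c19 LD3_c52)) = (LP (LK LD1_c23 LD2_c20 LD3_c14)) :=
  Lgr Lrot38 (Lpr_dt (K43.f574142 IH) (Lpn (LP (LK LD1_c23 LD2_c20 LD3_c14))))
theorem f587823 : Led Lsl_gt (LP (LK LD1_c23 LD2_c15 LD3_c14)) = (LP (LK LD1_c30 LD2_c58 LD3_c4)) :=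
  Lre_g IH (LK LD1_c23 LD2_c15 LD3_c14) (LK LD1_c30 LD2_c58 LD3_c4) Lrfl Lrfl
theorem f587893 : Led Lsl_cf (LP (LK LD1_c31 LD2_c0 LD3_c44)) = (LP (LK LD1_c30 LD2_c58 LD3_c4)) :=
  Lgr Lrot99 (Lpr_df (f587889 IH) (Lpr_cf (f587375 IH) (Lpe (K35.f31747 IH) (Lpe (K43.f31716 IH) (Lpe (f574140 IH) (Lpr_df (f574146 IH) (Lpr_gt (K43.f566079 IH) (Lpr_ct (f587814 IH) (Lpr_gt (f587823 IH) (Lpn (LP (LK LD1_c30 LD2_c58 LD3_c4))))))))))))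
theorem f5620 : Led Lsl_gt (LP (LK LD1_c13 LD2_c47 LD3_c39)) = (LP (LK LD1_c23 LD2_c15 LD3_c12)) :=
  Lre_g IH (LK LD1_c13 LD2_c47 LD3_c39) (LK LD1_c23 LD2_c15 LD3_c12) Lrfl Lrfl
theorem f587899 : Led Lsl_cf (LP (LK LD1_c15 LD2_c10 LD3_c24)) = (LP (LK LD1_c23 LD2_c15 LD3_c12)) :=
  Lgr Lrot169 (Lpr_gt (K42.f240034 IH) (Lpr_ct (K41.f239977 IH) (Lpr_df (K43.f573929 IH) (Lpe (f573937 IH) (Lpe (f569628 IH) (Lpr_cf (f587893 IH) (Lpe (f587823 IH) (Lpe (f569593 IH) (Lpr_gt (f5620 IH) (Lpn (LP (LK LD1_c23 LD2_c15 LD3_c12))))))))))))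
theorem f97161 : Led Lsl_ct (LP (LK LD1_c22 LD2_c49 LD3_c51)) = (LP (LK LD1_c13 LD2_c29 LD3_c22)) :=
  Lre_c IH (LK LD1_c22 LD2_c49 LD3_c51) (LK LD1_c13 LD2_c29 LD3_c22) Lrfl Lrfl
theorem f441486 : Led Lsl_at (LP (LK LD1_c22 LD2_c34 LD3_c5)) = (LP (LK LD1_c22 LD2_c49 LD3_c51)) :=
  Lgr Lrot107 (Lpe (K42.f441485 IH) (Lpr_af (K42.f441481 IH) (Lpe (f97161 IH) (Lpn (LP (LK LD1_c22 LD2_c49 LD3_c51))))))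
theorem f97165 : Led Lsl_dt (LP (LK LD1_c22 LD2_c49 LD3_c51)) = (LP (LK LD1_c30 LD2_c44 LD3_c38)) :=
  Lre_d IH (LK LD1_c22 LD2_c49 LD3_c51) (LK LD1_c30 LD2_c44 LD3_c38) Lrfl Lrfl
theorem f441502 : Led Lsl_af (LP (LK LD1_c30 LD2_c35 LD3_c0)) = (LP (LK LD1_c30 LD2_c44 LD3_c38)) :=
  Lgr Lrot117 (Lpr_dt (K42.f441492 IH) (Lpr_at (f441486 IH) (Lpr_dt (f97165 IH) (Lpn (LP (LK LD1_c30 LD2_c44 LD3_c38))))))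
theorem f587624 : Led Lsl_ct (LP (LK LD1_c23 LD2_c52 LD3_c34)) = (LP (LK LD1_c30 LD2_c57 LD3_c54)) :=
  Lgr Lrot59 (Lpr_cf (f587622 IH) (Lpn (LP (LK LD1_c30 LD2_c57 LD3_c54))))
theorem f587904 : Led Lsl_dt (LP (LK LD1_c30 LD2_c57 LD3_c54)) = (LP (LK LD1_c23 LD2_c15 LD3_c12)) :=
  Lgr Lrot173 (Lpe (f587624 IH) (Lpe (f441497 IH) (Lpe (f441459 IH) (Lpe (K42.f97000 IH) (Lpe (K42.f441495 IH) (Lpe (K42.f441488 IH) (Lpe (K42.f441491 IH) (Lpe (K42.f441492 IH) (Lpe (K42.f572728 IH) (Lpe (K42.f572727 IH) (Lpe (K42.f572704 IH) (Lpe (K42.f572703 IH) (Lpe (K42.f570100 IH) (Lpe (K42.f566097 IH) (Lpr_cf (f587899 IH) (Lpn (LP (LK LD1_c23 LD2_c15 LD3_c12))))))))))))))))))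
theorem f587911 : Led Lsl_ff (LP (LK LD1_c30 LD2_c44 LD3_c38)) = (LP (LK LD1_c30 LD2_c57 LD3_c54)) :=
  Lgr Lrot103 (Lpe (f441502 IH) (Lpe (K42.f572728 IH) (Lpe (K42.f572727 IH) (Lpe (K42.f572704 IH) (Lpe (K42.f572703 IH) (Lpe (K42.f570100 IH) (Lpe (K42.f566097 IH) (Lpr_cf (f587899 IH) (Lpe (f587904 IH) (Lpn (LP (LK LD1_c30 LD2_c57 LD3_c54))))))))))))
theorem f587918 : Led Lsl_ft (LP (LK LD1_c30 LD2_c44 LD3_c38)) = (LP (LK LD1_c30 LD2_c57 LD3_c54)) :=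
  Lgr Lrot48 (Lpr_ff (f587911 IH) (Lpn (LP (LK LD1_c30 LD2_c57 LD3_c54))))
theorem f587920 : Led Lsl_ff (LP (LK LD1_c22 LD2_c49 LD3_c51)) = (LP (LK LD1_c23 LD2_c15 LD3_c12)) :=
  Lgr Lrot19 (Lpr_dt (f97165 IH) (Lpr_ft (f587918 IH) (Lpr_dt (f587904 IH) (Lpn (LP (LK LD1_c23 LD2_c15 LD3_c12))))))
theorem f441498 : Led Lsl_af (LP (LK LD1_c22 LD2_c34 LD3_c5)) = (LP (LK LD1_c22 LD2_c49 LD3_c51)) :=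
  Lgr Lrot0 (Lpr_at (f441486 IH) (Lpn (LP (LK LD1_c22 LD2_c49 LD3_c51))))
theorem f574215 : Led Lsl_gf (LP (LK LD1_c23 LD2_c15 LD3_c4)) = (LP (LK LD1_c30 LD2_c35 LD3_c0)) :=
  Lgr Lrot104 (Lpr_ct (K43.f573819 IH) (Lpe (K43.f573163 IH) (Lpe (K43.f241025 IH) (Lpe (K42.f36114 IH) (Lpe (f540809 IH) (Lpr_gf (f574213 IH) (Lpe (K43.f572739 IH) (Lpe (K42.f572735 IH) (Lpr_ct (K42.f572728 IH) (Lpn (LP (LK LD1_c30 LD2_c35 LD3_c0))))))))))))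
theorem f573683 : Led Lsl_ct (LP (LK LD1_c7 LD2_c17 LD3_c33)) = (LP (LK LD1_c13 LD2_c47 LD3_c41)) :=
  Lre_c IH (LK LD1_c7 LD2_c17 LD3_c33) (LK LD1_c13 LD2_c47 LD3_c41) Lrfl Lrfl
theorem f574220 : Led Lsl_gt (LP (LK LD1_c13 LD2_c47 LD3_c41)) = (LP (LK LD1_c22 LD2_c34 LD3_c5)) :=
  Lgr Lrot94 (Lpe (f573683 IH) (Lpr_gt (K43.f5621 IH) (Lpr_dt (f5414 IH) (Lpr_gt (K41.f5623 IH) (Lpr_dt (K42.f5624 IH) (Lpe (K43.f568819 IH) (Lpe (K43.f573762 IH) (Lpr_gf (f574215 IH) (Lpe (K42.f441537 IH) (Lpn (LP (LK LD1_c22 LD2_c34 LD3_c5))))))))))))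
theorem f587928 : Led Lsl_gf (LP (LK LD1_c13 LD2_c47 LD3_c41)) = (LP (LK LD1_c23 LD2_c15 LD3_c12)) :=
  Lgr Lrot47 (Lpr_gt (f574220 IH) (Lpr_af (f441498 IH) (Lpr_ff (f587920 IH) (Lpn (LP (LK LD1_c23 LD2_c15 LD3_c12))))))
theorem f573681 : Led Lsl_bt (LP (LK LD1_c7 LD2_c17 LD3_c33)) = (LP (LK LD1_c5 LD2_c6 LD3_c45)) :=
  Lgr Lrot95 (Lpr_df (K43.f573677 IH) (Lpe (K42.f239506 IH) (Lpr_df (K13.f239504 IH) (Lpn (LP (LK LD1_c5 LD2_c6 LD3_c45))))))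
theorem f572675 : Led Lsl_gt (LP (LK LD1_c10 LD2_c15 LD3_c23)) = (LP (LK LD1_c16 LD2_c10 LD3_c32)) :=
  Lgr Lrot5 (Lpr_ft (K36.f542821 IH) (Lpr_at (K38.f542823 IH) (Lpr_gf (K42.f572673 IH) (Lpn (LP (LK LD1_c16 LD2_c10 LD3_c32))))))
theorem f587902 : Led Lsl_ct (LP (LK LD1_c15 LD2_c10 LD3_c24)) = (LP (LK LD1_c23 LD2_c15 LD3_c12)) :=
  Lgr Lrot59 (Lpr_cf (f587899 IH) (Lpn (LP (LK LD1_c23 LD2_c15 LD3_c12))))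
theorem f587932 : Led Lsl_bf (LP (LK LD1_c16 LD2_c10 LD3_c32)) = (LP (LK LD1_c15 LD2_c10 LD3_c24)) :=
  Lgr Lrot34 (Lpe (f572675 IH) (Lpe (K36.f212066 IH) (Lpr_ct (K13.f239489 IH) (Lpe (K13.f211560 IH) (Lpe (K13.f204954 IH) (Lpe (K13.f165476 IH) (Lpe (f573681 IH) (Lpr_ct (f573683 IH) (Lpr_gf (f587928 IH) (Lpe (f587902 IH) (Lpn (LP (LK LD1_c15 LD2_c10 LD3_c24)))))))))))))
theorem f572686 : Led Lsl_et (LP (LK LD1_c16 LD2_c10 LD3_c32)) = (LP (LK LD1_c26 LD2_c7 LD3_c26)) :=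
  Lre_e IH (LK LD1_c16 LD2_c10 LD3_c32) (LK LD1_c26 LD2_c7 LD3_c26) Lrfl Lrfl
theorem f386156 : Led Lsl_et (LP (LK LD1_c24 LD2_c59 LD3_c41)) = (LP (LK LD1_c15 LD2_c10 LD3_c24)) :=
  Lre_e IH (LK LD1_c24 LD2_c59 LD3_c41) (LK LD1_c15 LD2_c10 LD3_c24) Lrfl Lrfl
theorem f587959 : Led Lsl_bt (LP (LK LD1_c26 LD2_c7 LD3_c26)) = (LP (LK LD1_c24 LD2_c59 LD3_c41)) :=
  Lgr Lrot119 (Lpe (f572686 IH) (Lpr_bf (f587932 IH) (Lpe (f386156 IH) (Lpn (LP (LK LD1_c24 LD2_c59 LD3_c41))))))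
theorem f587961 : Led Lsl_bf (LP (LK LD1_c26 LD2_c7 LD3_c26)) = (LP (LK LD1_c24 LD2_c59 LD3_c41)) :=
  Lgr Lrot24 (Lpr_bt (f587959 IH) (Lpn (LP (LK LD1_c24 LD2_c59 LD3_c41))))
theorem f572793 : Led Lsl_et (LP (LK LD1_c17 LD2_c2 LD3_c55)) = (LP (LK LD1_c9 LD2_c9 LD3_c52)) :=
  Lre_e IH (LK LD1_c17 LD2_c2 LD3_c55) (LK LD1_c9 LD2_c9 LD3_c52) Lrfl Lrfl
theorem f572794 : Led Lsl_df (LP (LK LD1_c17 LD2_c2 LD3_c55)) = (LP (LK LD1_c26 LD2_c7 LD3_c26)) :=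
  Lgr Lrot70 (Lpr_et (f572793 IH) (Lpr_dt (K42.f571547 IH) (Lpr_et (K42.f572790 IH) (Lpr_dt (K42.f571581 IH) (Lpr_et (f572686 IH) (Lpn (LP (LK LD1_c26 LD2_c7 LD3_c26))))))))
theorem f572714 : Led Lsl_et (LP (LK LD1_c8 LD2_c38 LD3_c58)) = (LP (LK LD1_c16 LD2_c11 LD3_c56)) :=
  Lre_e IH (LK LD1_c8 LD2_c38 LD3_c58) (LK LD1_c16 LD2_c11 LD3_c56) Lrfl Lrfl
theorem f572717 : Led Lsl_dt (LP (LK LD1_c16 LD2_c11 LD3_c56)) = (LP (LK LD1_c24 LD2_c59 LD3_c41)) :=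
  Lgr Lrot77 (Lpe (f572714 IH) (Lpe (K42.f572703 IH) (Lpr_ef (K42.f572715 IH) (Lpe (K42.f566097 IH) (Lpe (f386156 IH) (Lpn (LP (LK LD1_c24 LD2_c59 LD3_c41))))))))
theorem f587963 : Led Lsl_bt (LP (LK LD1_c17 LD2_c2 LD3_c55)) = (LP (LK LD1_c16 LD2_c11 LD3_c56)) :=
  Lgr Lrot95 (Lpr_df (f572794 IH) (Lpr_bf (f587961 IH) (Lpe (f572717 IH) (Lpn (LP (LK LD1_c16 LD2_c11 LD3_c56))))))
theorem f571579 : Led Lsl_et (LP (LK LD1_c9 LD2_c9 LD3_c52)) = (LP (LK LD1_c17 LD2_c2 LD3_c55)) :=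
  Lre_e IH (LK LD1_c9 LD2_c9 LD3_c52) (LK LD1_c17 LD2_c2 LD3_c55) Lrfl Lrfl
theorem f587968 : Led Lsl_et (LP (LK LD1_c16 LD2_c11 LD3_c56)) = (LP (LK LD1_c8 LD2_c38 LD3_c58)) :=
  Lre_e IH (LK LD1_c16 LD2_c11 LD3_c56) (LK LD1_c8 LD2_c38 LD3_c58) Lrfl Lrfl
theorem f587969 : Led Lsl_bf (LP (LK LD1_c9 LD2_c9 LD3_c52)) = (LP (LK LD1_c8 LD2_c38 LD3_c58)) :=
  Lgr Lrot96 (Lpr_et (f571579 IH) (Lpr_bt (f587963 IH) (Lpr_et (f587968 IH) (Lpn (LP (LK LD1_c8 LD2_c38 LD3_c58))))))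
theorem f572800 : Led Lsl_gt (LP (LK LD1_c9 LD2_c9 LD3_c52)) = (LP (LK LD1_c10 LD2_c2 LD3_c51)) :=
  Lgr Lrot46 (Lpr_gf (K42.f572798 IH) (Lpr_ft (K38.f287332 IH) (Lpr_at (K38.f547599 IH) (Lpn (LP (LK LD1_c10 LD2_c2 LD3_c51))))))
theorem f240941 : Led Lsl_bt (LP (LK LD1_c5 LD2_c12 LD3_c54)) = (LP (LK LD1_c10 LD2_c16 LD3_c7)) :=
  Lre_b IH (LK LD1_c5 LD2_c12 LD3_c54) (LK LD1_c10 LD2_c16 LD3_c7) Lrfl Lrfl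
theorem f571174 : Led Lsl_bt (LP (LK LD1_c7 LD2_c19 LD3_c18)) = (LP (LK LD1_c10 LD2_c5 LD3_c6)) :=
  Lgr Lrot22 (Lpr_ct (f5522 IH) (Lpe (f571172 IH) (Lpe (f441459 IH) (Lpr_gf (K42.f571166 IH) (Lpe (f240941 IH) (Lpe (K13.f240924 IH) (Lpr_gf (K17.f241922 IH) (Lpe (K13.f53254 IH) (Lpe (K43.f53250 IH) (Lpe (K39.f53303 IH) (Lpn (LP (LK LD1_c10 LD2_c5 LD3_c6)))))))))))))
theorem f587972 : Led Lsl_gt (LP (LK LD1_c13 LD2_c50 LD3_c51)) = (LP (LK LD1_c16 LD2_c11 LD3_c55)) :=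
  Lgr Lrot65 (Lpe (f5522 IH) (Lpr_bt (f571174 IH) (Lpe (K39.f308563 IH) (Lpr_bf (K39.f427877 IH) (Lpr_ct (K36.f427836 IH) (Lpe (K43.f574837 IH) (Lpe (K39.f547605 IH) (Lpe (f572800 IH) (Lpr_bf (f587969 IH) (Lpr_ct (K42.f572704 IH) (Lpn (LP (LK LD1_c16 LD2_c11 LD3_c55)))))))))))))
theorem f587515 : Led Lsl_gt (LP (LK LD1_c23 LD2_c19 LD3_c61)) = (LP (LK LD1_c31 LD2_c0 LD3_c43)) :=
  Lre_g IH (LK LD1_c23 LD2_c19 LD3_c61) (LK LD1_c31 LD2_c0 LD3_c43) Lrfl Lrfl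
theorem f538489 : Led Lsl_dt (LP (LK LD1_c16 LD2_c24 LD3_c22)) = (LP (LK LD1_c26 LD2_c22 LD3_c1)) :=
  Lre_d IH (LK LD1_c16 LD2_c24 LD3_c22) (LK LD1_c26 LD2_c22 LD3_c1) Lrfl Lrfl
theorem f587516 : Led Lsl_cf (LP (LK LD1_c26 LD2_c22 LD3_c1)) = (LP (LK LD1_c31 LD2_c0 LD3_c43)) :=
  Lgr Lrot99 (Lpe (f538489 IH) (Lpe (K37.f81012 IH) (Lpe (K37.f544412 IH) (Lpe (K42.f69753 IH) (Lpe (K43.f573790 IH) (Lpr_df (K43.f573921 IH) (Lpr_gt (K43.f5455 IH) (Lpr_ct (f587495 IH) (Lpr_gt (f587515 IH) (Lpn (LP (LK LD1_c31 LD2_c0 LD3_c43))))))))))))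
theorem f570189 : Led Lsl_gt (LP (LK LD1_c10 LD2_c16 LD3_c8)) = (LP (LK LD1_c13 LD2_c38 LD3_c27)) :=
  Lgr Lrot164 (Lpe (K43.f241460 IH) (Lpr_ct (K13.f241457 IH) (Lpe (K13.f241455 IH) (Lpe (K13.f176686 IH) (Lpe (K13.f241474 IH) (Lpe (K42.f566826 IH) (Lpr_ct (K42.f566822 IH) (Lpe (K42.f570170 IH) (Lpe (K42.f569128 IH) (Lpr_bt (K42.f570184 IH) (Lpn (LP (LK LD1_c13 LD2_c38 LD3_c27)))))))))))))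
theorem f572711 : Led Lsl_gt (LP (LK LD1_c8 LD2_c38 LD3_c58)) = (LP (LK LD1_c10 LD2_c16 LD3_c7)) :=
  Lgr Lrot139 (Lpe (K42.f572703 IH) (Lpr_gf (K42.f572699 IH) (Lpr_ef (K42.f568849 IH) (Lpr_dt (K42.f38487 IH) (Lpe (K41.f420825 IH) (Lpr_df (K42.f571214 IH) (Lpr_et (K42.f97452 IH) (Lpe (f570189 IH) (Lpe (K42.f273120 IH) (Lpr_dt (K42.f273019 IH) (Lpn (LP (LK LD1_c10 LD2_c16 LD3_c7)))))))))))))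
theorem f587816 : Led Lsl_cf (LP (LK LD1_c28 LD2_c12 LD3_c11)) = (LP (LK LD1_c23 LD2_c15 LD3_c14)) :=
  Lgr Lrot11 (Lpr_ct (f587814 IH) (Lpn (LP (LK LD1_c23 LD2_c15 LD3_c14))))
theorem f587980 : Led Lsl_gt (LP (LK LD1_c26 LD2_c22 LD3_c1)) = (LP (LK LD1_c23 LD2_c15 LD3_c14)) :=
  Lgr Lrot150 (Lpr_cf (f587516 IH) (Lpe (f587515 IH) (Lpe (f569570 IH) (Lpr_gt (f587972 IH) (Lpr_ct (K42.f572706 IH) (Lpr_gt (f572711 IH) (Lpr_ct (f240928 IH) (Lpe (K43.f411048 IH) (Lpr_cf (f587816 IH) (Lpn (LP (LK LD1_c23 LD2_c15 LD3_c14))))))))))))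
theorem f181113 : Led Lsl_ct (LP (LK LD1_c18 LD2_c40 LD3_c49)) = (LP (LK LD1_c10 LD2_c16 LD3_c17)) :=
  Lre_c IH (LK LD1_c18 LD2_c40 LD3_c49) (LK LD1_c10 LD2_c16 LD3_c17) Lrfl Lrfl
theorem f587988 : Led Lsl_gf (LP (LK LD1_c16 LD2_c24 LD3_c22)) = (LP (LK LD1_c18 LD2_c40 LD3_c49)) :=
  Lgr Lrot144 (Lpr_dt (f538489 IH) (Lpr_gt (f587980 IH) (Lpr_dt (f569598 IH) (Lpe (f5619 IH) (Lpr_df (K42.f569587 IH) (Lpe (K42.f417969 IH) (Lpe (K42.f417971 IH) (Lpr_gf (K42.f569541 IH) (Lpe (f181113 IH) (Lpn (LP (LK LD1_c18 LD2_c40 LD3_c49))))))))))))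
theorem f81062 : Led Lsl_ct (LP (LK LD1_c16 LD2_c24 LD3_c22)) = (LP (LK LD1_c8 LD2_c46 LD3_c6)) :=
  Lre_c IH (LK LD1_c16 LD2_c24 LD3_c22) (LK LD1_c8 LD2_c46 LD3_c6) Lrfl Lrfl
theorem f241893 : Led Lsl_gt (LP (LK LD1_c10 LD2_c16 LD3_c11)) = (LP (LK LD1_c5 LD2_c12 LD3_c56)) :=
  Lre_g IH (LK LD1_c10 LD2_c16 LD3_c11) (LK LD1_c5 LD2_c12 LD3_c56) Lrfl Lrfl
theorem f411052 : Led Lsl_dt (LP (LK LD1_c10 LD2_c16 LD3_c11)) = (LP (LK LD1_c18 LD2_c40 LD3_c43)) :=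
  Lre_d IH (LK LD1_c10 LD2_c16 LD3_c11) (LK LD1_c18 LD2_c40 LD3_c43) Lrfl Lrfl
theorem f201642 : Led Lsl_ct (LP (LK LD1_c10 LD2_c16 LD3_c17)) = (LP (LK LD1_c18 LD2_c40 LD3_c49)) :=
  Lre_c IH (LK LD1_c10 LD2_c16 LD3_c17) (LK LD1_c18 LD2_c40 LD3_c49) Lrfl Lrfl
theorem f587990 : Led Lsl_gt (LP (LK LD1_c18 LD2_c40 LD3_c43)) = (LP (LK LD1_c10 LD2_c16 LD3_c17)) :=
  Lgr Lrot9 (Lpe (f411052 IH) (Lpr_gt (f241893 IH) (Lpe (K43.f411046 IH) (Lpe (f563650 IH) (Lpr_ct (K8.f80996 IH) (Lpe (K5.f81002 IH) (Lpe (f81062 IH) (Lpr_gf (f587988 IH) (Lpe (f201642 IH) (Lpn (LP (LK LD1_c10 LD2_c16 LD3_c17))))))))))))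
theorem f565745 : Led Lsl_et (LP (LK LD1_c7 LD2_c6 LD3_c31)) = (LP (LK LD1_c8 LD2_c1 LD3_c1)) :=
  Lgr Lrot87 (Lpr_ef (K41.f565735 IH) (Lpn (LP (LK LD1_c8 LD2_c1 LD3_c1))))
theorem f297391 : Led Lsl_ff (LP (LK LD1_c8 LD2_c1 LD3_c43)) = (LP (LK LD1_c8 LD2_c1 LD3_c1)) :=
  Lgr Lrot103 (Lpr_at (K18.f69739 IH) (Lpe (K18.f237426 IH) (Lpe (K18.f225145 IH) (Lpe (K18.f225001 IH) (Lpe (K18.f297374 IH) (Lpe (K18.f218692 IH) (Lpr_df (K18.f297384 IH) (Lpe (K42.f210773 IH) (Lpe (K18.f210757 IH) (Lpn (LP (LK LD1_c8 LD2_c1 LD3_c1))))))))))))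
theorem f406914 : Led Lsl_gf (LP (LK LD1_c8 LD2_c1 LD3_c42)) = (LP (LK LD1_c8 LD2_c1 LD3_c1)) :=
  Lgr Lrot47 (Lpr_gt (f69738 IH) (Lpe (K18.f69739 IH) (Lpr_ff (f297391 IH) (Lpn (LP (LK LD1_c8 LD2_c1 LD3_c1))))))
theorem f587998 : Led Lsl_et (LP (LK LD1_c10 LD2_c16 LD3_c11)) = (LP (LK LD1_c8 LD2_c1 LD3_c42)) :=
  Lgr Lrot122 (Lpr_dt (f411052 IH) (Lpr_gt (f587990 IH) (Lpr_df (K42.f420726 IH) (Lpe (K41.f201565 IH) (Lpr_gt (K41.f38417 IH) (Lpr_dt (K42.f38418 IH) (Lpr_gt (K42.f570547 IH) (Lpe (K42.f6526 IH) (Lpr_et (f565745 IH) (Lpe (f406914 IH) (Lpn (LP (LK LD1_c8 LD2_c1 LD3_c42)))))))))))))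
theorem f588002 : Led Lsl_ef (LP (LK LD1_c10 LD2_c16 LD3_c11)) = (LP (LK LD1_c8 LD2_c1 LD3_c42)) :=
  Lgr Lrot88 (Lpr_et (f587998 IH) (Lpn (LP (LK LD1_c8 LD2_c1 LD3_c42))))
theorem f201621 : Led Lsl_bt (LP (LK LD1_c5 LD2_c12 LD3_c61)) = (LP (LK LD1_c10 LD2_c16 LD3_c17)) :=
  Lre_b IH (LK LD1_c5 LD2_c12 LD3_c61) (LK LD1_c10 LD2_c16 LD3_c17) Lrfl Lrfl
theorem f201622 : Led Lsl_dt (LP (LK LD1_c10 LD2_c16 LD3_c17)) = (LP (LK LD1_c5 LD2_c13 LD3_c37)) :=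
  Lgr Lrot79 (Lpe (f201621 IH) (Lpr_df (K11.f201580 IH) (Lpe (K36.f193358 IH) (Lpn (LP (LK LD1_c5 LD2_c13 LD3_c37))))))
theorem f36187 : Led Lsl_dt (LP (LK LD1_c8 LD2_c39 LD3_c2)) = (LP (LK LD1_c4 LD2_c20 LD3_c40)) :=
  Lre_d IH (LK LD1_c8 LD2_c39 LD3_c2) (LK LD1_c4 LD2_c20 LD3_c40) Lrfl Lrfl
theorem f587996 : Led Lsl_gf (LP (LK LD1_c10 LD2_c16 LD3_c11)) = (LP (LK LD1_c10 LD2_c1 LD3_c24)) :=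
  Lgr Lrot144 (Lpr_dt (f411052 IH) (Lpr_gt (f587990 IH) (Lpr_dt (f201622 IH) (Lpe (K41.f201567 IH) (Lpe (f36187 IH) (Lpr_gf (K42.f570539 IH) (Lpe (K42.f570537 IH) (Lpr_gf (K42.f569499 IH) (Lpe (K41.f556863 IH) (Lpn (LP (LK LD1_c10 LD2_c1 LD3_c24))))))))))))
theorem f168721 : Led Lsl_dt (LP (LK LD1_c9 LD2_c42 LD3_c58)) = (LP (LK LD1_c17 LD2_c52 LD3_c5)) :=
  Lre_d IH (LK LD1_c9 LD2_c42 LD3_c58) (LK LD1_c17 LD2_c52 LD3_c5) Lrfl Lrfl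
theorem f374583 : Led Lsl_at (LP (LK LD1_c9 LD2_c42 LD3_c56)) = (LP (LK LD1_c10 LD2_c38 LD3_c44)) :=
  Lgr Lrot33 (Lpr_ff (K18.f297436 IH) (Lpr_dt (K18.f297374 IH) (Lpr_ct (K18.f225001 IH) (Lpr_dt (K18.f225145 IH) (Lpr_ct (K18.f237426 IH) (Lpe (K18.f201521 IH) (Lpr_ct (K18.f39302 IH) (Lpr_dt (K39.f201532 IH) (Lpr_ct (K39.f374575 IH) (Lpn (LP (LK LD1_c10 LD2_c38 LD3_c44))))))))))))
theorem f374587 : Led Lsl_gt (LP (LK LD1_c10 LD2_c38 LD3_c43)) = (LP (LK LD1_c9 LD2_c42 LD3_c58)) :=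
  Lgr Lrot5 (Lpe (K18.f297436 IH) (Lpr_at (f374583 IH) (Lpe (K39.f331736 IH) (Lpn (LP (LK LD1_c9 LD2_c42 LD3_c58))))))
theorem f397383 : Led Lsl_dt (LP (LK LD1_c10 LD2_c37 LD3_c37)) = (LP (LK LD1_c16 LD2_c20 LD3_c23)) :=
  Lgr Lrot60 (Lpe (K38.f312911 IH) (Lpe (K39.f312921 IH) (Lpr_ff (K39.f397379 IH) (Lpn (LP (LK LD1_c16 LD2_c20 LD3_c23))))))
theorem f403169 : Led Lsl_gt (LP (LK LD1_c19 LD2_c10 LD3_c35)) = (LP (LK LD1_c25 LD2_c50 LD3_c27)) :=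
  Lgr Lrot5 (Lpe (K38.f403092 IH) (Lpr_at (K38.f403139 IH) (Lpr_gf (K31.f237284 IH) (Lpn (LP (LK LD1_c25 LD2_c50 LD3_c27))))))
theorem f403173 : Led Lsl_gt (LP (LK LD1_c10 LD2_c35 LD3_c3)) = (LP (LK LD1_c10 LD2_c37 LD3_c37)) :=
  Lgr Lrot94 (Lpe (K31.f263746 IH) (Lpr_gt (f403169 IH) (Lpe (K31.f400038 IH) (Lpr_gt (K31.f39303 IH) (Lpr_dt (K39.f201532 IH) (Lpr_cf (K41.f374579 IH) (Lpe (f397366 IH) (Lpr_gf (K39.f397377 IH) (Lpe (f397383 IH) (Lpn (LP (LK LD1_c10 LD2_c37 LD3_c37))))))))))))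
theorem f566171 : Led Lsl_gf (LP (LK LD1_c7 LD2_c14 LD3_c14)) = (LP (LK LD1_c12 LD2_c6 LD3_c11)) :=
  Lgr Lrot143 (Lpr_dt (K8.f93090 IH) (Lpr_cf (K8.f93088 IH) (Lpe (K8.f93097 IH) (Lpe (K39.f93098 IH) (Lpe (K39.f556198 IH) (Lpe (K39.f556186 IH) (Lpr_cf (K38.f197465 IH) (Lpr_gt (K41.f566165 IH) (Lpr_dt (K41.f80757 IH) (Lpn (LP (LK LD1_c12 LD2_c6 LD3_c11))))))))))))
theorem f566183 : Led Lsl_ct (LP (LK LD1_c16 LD2_c20 LD3_c23)) = (LP (LK LD1_c13 LD2_c41 LD3_c41)) :=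
  Lgr Lrot7 (Lpe (f397383 IH) (Lpe (f403173 IH) (Lpe (K38.f403066 IH) (Lpr_gf (K38.f550035 IH) (Lpr_cf (K41.f566175 IH) (Lpe (f566171 IH) (Lpr_dt (K8.f93090 IH) (Lpr_gt (K42.f93095 IH) (Lpr_dt (K42.f93096 IH) (Lpn (LP (LK LD1_c13 LD2_c41 LD3_c41))))))))))))
theorem f388755 : Led Lsl_dt (LP (LK LD1_c5 LD2_c22 LD3_c19)) = (LP (LK LD1_c10 LD2_c35 LD3_c6)) :=
  Lre_d IH (LK LD1_c5 LD2_c22 LD3_c19) (LK LD1_c10 LD2_c35 LD3_c6) Lrfl Lrfl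
theorem f569680 : Led Lsl_cf (LP (LK LD1_c13 LD2_c41 LD3_c42)) = (LP (LK LD1_c10 LD2_c35 LD3_c6)) :=
  Lgr Lrot55 (Lpr_dt (K42.f93100 IH) (Lpr_ct (K42.f569675 IH) (Lpr_dt (K41.f400048 IH) (Lpr_ct (K42.f400045 IH) (Lpe (K42.f400081 IH) (Lpe (K38.f169241 IH) (Lpr_dt (f397383 IH) (Lpr_ct (f566183 IH) (Lpr_dt (K42.f160336 IH) (Lpr_ct (f569671 IH) (Lpr_dt (K31.f29620 IH) (Lpe (K31.f403270 IH) (Lpr_dt (K31.f228687 IH) (Lpr_ct (K31.f228409 IH) (Lpr_dt (f388755 IH) (Lpn (LP (LK LD1_c10 LD2_c35 LD3_c6))))))))))))))))))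
theorem f571011 : Led Lsl_gf (LP (LK LD1_c14 LD2_c58 LD3_c46)) = (LP (LK LD1_c13 LD2_c41 LD3_c42)) :=
  Lgr Lrot148 (Lpe (K41.f556806 IH) (Lpe (K42.f569603 IH) (Lpr_dt (K42.f540733 IH) (Lpr_ct (K42.f571007 IH) (Lpe (f168721 IH) (Lpe (f374587 IH) (Lpr_df (K18.f297370 IH) (Lpe (K39.f397349 IH) (Lpe (f569680 IH) (Lpn (LP (LK LD1_c13 LD2_c41 LD3_c42))))))))))))
theorem f410990 : Led Lsl_at (LP (LK LD1_c5 LD2_c41 LD3_c31)) = (LP (LK LD1_c3 LD2_c57 LD3_c23)) :=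
  Lgr Lrot100 (Lpr_af (K41.f410978 IH) (Lpn (LP (LK LD1_c3 LD2_c57 LD3_c23))))
theorem f564979 : Led Lsl_et (LP (LK LD1_c3 LD2_c57 LD3_c23)) = (LP (LK LD1_c7 LD2_c8 LD3_c10)) :=
  Lgr Lrot123 (Lpe (f410990 IH) (Lpr_ef (K41.f564977 IH) (Lpr_af (K41.f160319 IH) (Lpn (LP (LK LD1_c7 LD2_c8 LD3_c10))))))
theorem f441958 : Led Lsl_gt (LP (LK LD1_c7 LD2_c7 LD3_c59)) = (LP (LK LD1_c13 LD2_c30 LD3_c39)) :=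
  Lre_g IH (LK LD1_c7 LD2_c7 LD3_c59) (LK LD1_c13 LD2_c30 LD3_c39) Lrfl Lrfl
theorem f588010 : Led Lsl_df (LP (LK LD1_c13 LD2_c30 LD3_c39)) = (LP (LK LD1_c8 LD2_c1 LD3_c42)) :=
  Lgr Lrot168 (Lpe (f441958 IH) (Lpe (K41.f98104 IH) (Lpr_et (K39.f98106 IH) (Lpe (K3.f98494 IH) (Lpe (K42.f5622 IH) (Lpr_dt (K0.f5135 IH) (Lpe (K43.f5621 IH) (Lpr_df (K43.f573677 IH) (Lpe (f241893 IH) (Lpr_ef (f588002 IH) (Lpn (LP (LK LD1_c8 LD2_c1 LD3_c42)))))))))))))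
theorem f588012 : Led Lsl_gf (LP (LK LD1_c7 LD2_c56 LD3_c20)) = (LP (LK LD1_c13 LD2_c30 LD3_c39)) :=
  Lgr Lrot145 (Lpe (K38.f197440 IH) (Lpr_et (f564979 IH) (Lpe (K42.f440149 IH) (Lpr_dt (K42.f93099 IH) (Lpe (f571011 IH) (Lpe (K42.f556815 IH) (Lpe (K41.f556857 IH) (Lpe (f587996 IH) (Lpr_ef (f588002 IH) (Lpe (f588010 IH) (Lpn (LP (LK LD1_c13 LD2_c30 LD3_c39)))))))))))))
theorem f169235 : Led Lsl_gt (LP (LK LD1_c10 LD2_c31 LD3_c15)) = (LP (LK LD1_c5 LD2_c20 LD3_c37)) :=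
  Lre_g IH (LK LD1_c10 LD2_c31 LD3_c15) (LK LD1_c5 LD2_c20 LD3_c37) Lrfl Lrfl
theorem f218489 : Led Lsl_ct (LP (LK LD1_c5 LD2_c24 LD3_c13)) = (LP (LK LD1_c10 LD2_c39 LD3_c13)) :=
  Lre_c IH (LK LD1_c5 LD2_c24 LD3_c13) (LK LD1_c10 LD2_c39 LD3_c13) Lrfl Lrfl
theorem f565679 : Led Lsl_df (LP (LK LD1_c10 LD2_c31 LD3_c15)) = (LP (LK LD1_c10 LD2_c39 LD3_c12)) :=
  Lgr Lrot155 (Lpr_gt (f169235 IH) (Lpe (K38.f169219 IH) (Lpr_gt (K16.f169232 IH) (Lpr_ct (K42.f169236 IH) (Lpr_dt (K42.f564925 IH) (Lpe (K41.f98105 IH) (Lpr_gf (K41.f565669 IH) (Lpe (f218489 IH) (Lpe (K42.f218520 IH) (Lpn (LP (LK LD1_c10 LD2_c39 LD3_c12))))))))))))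
theorem f588014 : Led Lsl_cf (LP (LK LD1_c19 LD2_c4 LD3_c39)) = (LP (LK LD1_c13 LD2_c30 LD3_c39)) :=
  Lgr Lrot166 (Lpr_gt (K42.f331769 IH) (Lpe (f565679 IH) (Lpr_gt (f169235 IH) (Lpr_dt (K41.f169253 IH) (Lpr_ct (K41.f565006 IH) (Lpe (K41.f98101 IH) (Lpe (K41.f553338 IH) (Lpe (K41.f197442 IH) (Lpr_gf (f588012 IH) (Lpn (LP (LK LD1_c13 LD2_c30 LD3_c39))))))))))))
theorem f588058 : Led Lsl_ft (LP (LK LD1_c8 LD2_c44 LD3_c10)) = (LP (LK LD1_c13 LD2_c30 LD3_c39)) :=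
  Lgr Lrot4 (Lpe (K38.f549961 IH) (Lpe (K22.f331765 IH) (Lpr_cf (f588014 IH) (Lpn (LP (LK LD1_c13 LD2_c30 LD3_c39))))))
theorem f588065 : Led Lsl_af (LP (LK LD1_c8 LD2_c44 LD3_c9)) = (LP (LK LD1_c13 LD2_c30 LD3_c39)) :=
  Lgr Lrot31 (Lpe (K38.f237724 IH) (Lpe (K38.f237722 IH) (Lpr_ft (f588058 IH) (Lpn (LP (LK LD1_c13 LD2_c30 LD3_c39))))))
theorem f471043 : Led Lsl_et (LP (LK LD1_c22 LD2_c51 LD3_c30)) = (LP (LK LD1_c13 LD2_c30 LD3_c39)) :=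
  Lre_e IH (LK LD1_c22 LD2_c51 LD3_c30) (LK LD1_c13 LD2_c30 LD3_c39) Lrfl Lrfl
theorem f588069 : Led Lsl_at (LP (LK LD1_c16 LD2_c21 LD3_c27)) = (LP (LK LD1_c22 LD2_c51 LD3_c30)) :=
  Lgr Lrot80 (Lpe (K43.f550015 IH) (Lpr_af (f588065 IH) (Lpe (f471043 IH) (Lpn (LP (LK LD1_c22 LD2_c51 LD3_c30))))))
theorem f471018 : Led Lsl_et (LP (LK LD1_c13 LD2_c48 LD3_c24)) = (LP (LK LD1_c7 LD2_c17 LD3_c51)) :=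
  Lre_e IH (LK LD1_c13 LD2_c48 LD3_c24) (LK LD1_c7 LD2_c17 LD3_c51) Lrfl Lrfl
theorem f471019 : Led Lsl_dt (LP (LK LD1_c13 LD2_c48 LD3_c24)) = (LP (LK LD1_c7 LD2_c17 LD3_c49)) :=
  Lre_d IH (LK LD1_c13 LD2_c48 LD3_c24) (LK LD1_c7 LD2_c17 LD3_c49) Lrfl Lrfl
theorem f471044 : Led Lsl_gt (LP (LK LD1_c13 LD2_c48 LD3_c23)) = (LP (LK LD1_c7 LD2_c17 LD3_c49)) :=
  Lre_g IH (LK LD1_c13 LD2_c48 LD3_c23) (LK LD1_c7 LD2_c17 LD3_c49) Lrfl Lrfl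
theorem f471045 : Led Lsl_dt (LP (LK LD1_c22 LD2_c51 LD3_c30)) = (LP (LK LD1_c13 LD2_c48 LD3_c23)) :=
  Lgr Lrot136 (Lpr_et (f471043 IH) (Lpe (f441958 IH) (Lpe (K41.f425532 IH) (Lpr_dt (K28.f97337 IH) (Lpr_gf (K34.f470835 IH) (Lpe (K33.f451247 IH) (Lpr_gf (K33.f471028 IH) (Lpe (f471018 IH) (Lpr_dt (f471019 IH) (Lpe (f471044 IH) (Lpn (LP (LK LD1_c13 LD2_c48 LD3_c23)))))))))))))
theorem f588073 : Led Lsl_af (LP (LK LD1_c23 LD2_c14 LD3_c9)) = (LP (LK LD1_c13 LD2_c48 LD3_c23)) :=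
  Lgr Lrot117 (Lpr_dt (K43.f573772 IH) (Lpr_at (f588069 IH) (Lpr_dt (f471045 IH) (Lpn (LP (LK LD1_c13 LD2_c48 LD3_c23))))))
theorem f525512 : Led Lsl_at (LP (LK LD1_c7 LD2_c21 LD3_c44)) = (LP (LK LD1_c3 LD2_c41 LD3_c49)) :=
  Lgr Lrot100 (Lpr_af (K35.f525510 IH) (Lpn (LP (LK LD1_c3 LD2_c41 LD3_c49))))
theorem f525508 : Led Lsl_ff (LP (LK LD1_c7 LD2_c21 LD3_c45)) = (LP (LK LD1_c3 LD2_c41 LD3_c49)) :=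
  Lgr Lrot3 (Lpr_ft (K35.f525500 IH) (Lpn (LP (LK LD1_c3 LD2_c41 LD3_c49))))
theorem f525589 : Led Lsl_at (LP (LK LD1_c7 LD2_c21 LD3_c45)) = (LP (LK LD1_c3 LD2_c41 LD3_c57)) :=
  Lgr Lrot66 (Lpr_ff (f525508 IH) (Lpe (f525512 IH) (Lpr_ff (K35.f525587 IH) (Lpn (LP (LK LD1_c3 LD2_c41 LD3_c57))))))
theorem f148245 : Led Lsl_dt (LP (LK LD1_c3 LD2_c40 LD3_c44)) = (LP (LK LD1_c7 LD2_c21 LD3_c45)) :=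
  Lre_d IH (LK LD1_c3 LD2_c40 LD3_c44) (LK LD1_c7 LD2_c21 LD3_c45) Lrfl Lrfl
theorem f525888 : Led Lsl_af (LP (LK LD1_c3 LD2_c40 LD3_c44)) = (LP (LK LD1_c1 LD2_c47 LD3_c51)) :=
  Lgr Lrot117 (Lpr_dt (f148245 IH) (Lpr_at (f525589 IH) (Lpr_dt (K29.f457173 IH) (Lpn (LP (LK LD1_c1 LD2_c47 LD3_c51))))))
theorem f458248 : Led Lsl_ct (LP (LK LD1_c7 LD2_c4 LD3_c46)) = (LP (LK LD1_c3 LD2_c31 LD3_c32)) :=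
  Lre_c IH (LK LD1_c7 LD2_c4 LD3_c46) (LK LD1_c3 LD2_c31 LD3_c32) Lrfl Lrfl
theorem f493699 : Led Lsl_et (LP (LK LD1_c3 LD2_c40 LD3_c44)) = (LP (LK LD1_c7 LD2_c4 LD3_c46)) :=
  Lgr Lrot158 (Lpe (K29.f4536 IH) (Lpr_ef (K34.f493697 IH) (Lpe (f458248 IH) (Lpn (LP (LK LD1_c7 LD2_c4 LD3_c46))))))
theorem f483601 : Led Lsl_et (LP (LK LD1_c3 LD2_c41 LD3_c58)) = (LP (LK LD1_c1 LD2_c47 LD3_c51)) :=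
  Lre_e IH (LK LD1_c3 LD2_c41 LD3_c58) (LK LD1_c1 LD2_c47 LD3_c51) Lrfl Lrfl
theorem f525892 : Led Lsl_at (LP (LK LD1_c7 LD2_c4 LD3_c46)) = (LP (LK LD1_c3 LD2_c41 LD3_c58)) :=
  Lgr Lrot80 (Lpe (f493699 IH) (Lpr_af (f525888 IH) (Lpe (f483601 IH) (Lpn (LP (LK LD1_c3 LD2_c41 LD3_c58))))))
theorem f455671 : Led Lsl_ct (LP (LK LD1_c3 LD2_c31 LD3_c32)) = (LP (LK LD1_c7 LD2_c4 LD3_c46)) :=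
  Lre_c IH (LK LD1_c3 LD2_c31 LD3_c32) (LK LD1_c7 LD2_c4 LD3_c46) Lrfl Lrfl
theorem f525899 : Led Lsl_af (LP (LK LD1_c3 LD2_c31 LD3_c32)) = (LP (LK LD1_c1 LD2_c47 LD3_c53)) :=
  Lgr Lrot68 (Lpr_ct (f455671 IH) (Lpr_at (f525892 IH) (Lpr_ct (K34.f483654 IH) (Lpn (LP (LK LD1_c1 LD2_c47 LD3_c53))))))
theorem f493693 : Led Lsl_bf (LP (LK LD1_c7 LD2_c0 LD3_c48)) = (LP (LK LD1_c3 LD2_c31 LD3_c32)) :=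
  Lgr Lrot24 (Lpr_bt (K30.f493691 IH) (Lpn (LP (LK LD1_c3 LD2_c31 LD3_c32))))
theorem f485734 : Led Lsl_et (LP (LK LD1_c6 LD2_c53 LD3_c31)) = (LP (LK LD1_c13 LD2_c5 LD3_c60)) :=
  Lre_e IH (LK LD1_c6 LD2_c53 LD3_c31) (LK LD1_c13 LD2_c5 LD3_c60) Lrfl Lrfl
theorem f478509 : Led Lsl_et (LP (LK LD1_c14 LD2_c0 LD3_c58)) = (LP (LK LD1_c7 LD2_c24 LD3_c31)) :=
  Lre_e IH (LK LD1_c14 LD2_c0 LD3_c58) (LK LD1_c7 LD2_c24 LD3_c31) Lrfl Lrfl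
theorem f525739 : Led Lsl_at (LP (LK LD1_c13 LD2_c5 LD3_c60)) = (LP (LK LD1_c14 LD2_c0 LD3_c58)) :=
  Lgr Lrot80 (Lpe (f485734 IH) (Lpr_af (K35.f525731 IH) (Lpe (f478509 IH) (Lpn (LP (LK LD1_c14 LD2_c0 LD3_c58))))))
theorem f471778 : Led Lsl_dt (LP (LK LD1_c22 LD2_c17 LD3_c9)) = (LP (LK LD1_c13 LD2_c5 LD3_c60)) :=
  Lre_d IH (LK LD1_c22 LD2_c17 LD3_c9) (LK LD1_c13 LD2_c5 LD3_c60) Lrfl Lrfl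
theorem f478507 : Led Lsl_et (LP (LK LD1_c7 LD2_c53 LD3_c34)) = (LP (LK LD1_c14 LD2_c53 LD3_c7)) :=
  Lre_e IH (LK LD1_c7 LD2_c53 LD3_c34) (LK LD1_c14 LD2_c53 LD3_c7) Lrfl Lrfl
theorem f478508 : Led Lsl_et (LP (LK LD1_c3 LD2_c41 LD3_c53)) = (LP (LK LD1_c7 LD2_c24 LD3_c32)) :=
  Lre_e IH (LK LD1_c3 LD2_c41 LD3_c53) (LK LD1_c7 LD2_c24 LD3_c32) Lrfl Lrfl
theorem f4892 : Led Lsl_dt (LP (LK LD1_c7 LD2_c24 LD3_c31)) = (LP (LK LD1_c3 LD2_c41 LD3_c53)) :=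
  Lre_d IH (LK LD1_c7 LD2_c24 LD3_c31) (LK LD1_c3 LD2_c41 LD3_c53) Lrfl Lrfl
theorem f478510 : Led Lsl_dt (LP (LK LD1_c14 LD2_c53 LD3_c7)) = (LP (LK LD1_c14 LD2_c0 LD3_c58)) :=
  Lgr Lrot77 (Lpe (f478507 IH) (Lpr_df (K35.f478498 IH) (Lpe (f478508 IH) (Lpe (f4892 IH) (Lpe (f478509 IH) (Lpn (LP (LK LD1_c14 LD2_c0 LD3_c58))))))))
theorem f478521 : Led Lsl_df (LP (LK LD1_c14 LD2_c53 LD3_c7)) = (LP (LK LD1_c14 LD2_c0 LD3_c58)) :=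
  Lgr Lrot38 (Lpr_dt (f478510 IH) (Lpn (LP (LK LD1_c14 LD2_c0 LD3_c58))))
theorem f525745 : Led Lsl_af (LP (LK LD1_c22 LD2_c17 LD3_c9)) = (LP (LK LD1_c14 LD2_c53 LD3_c7)) :=
  Lgr Lrot117 (Lpr_dt (f471778 IH) (Lpr_at (f525739 IH) (Lpe (f478521 IH) (Lpn (LP (LK LD1_c14 LD2_c53 LD3_c7))))))
theorem f471777 : Led Lsl_et (LP (LK LD1_c22 LD2_c17 LD3_c9)) = (LP (LK LD1_c13 LD2_c5 LD3_c61)) :=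
  Lre_e IH (LK LD1_c22 LD2_c17 LD3_c9) (LK LD1_c13 LD2_c5 LD3_c61) Lrfl Lrfl
theorem f525759 : Led Lsl_at (LP (LK LD1_c13 LD2_c5 LD3_c61)) = (LP (LK LD1_c7 LD2_c53 LD3_c34)) :=
  Lgr Lrot80 (Lpe (f471777 IH) (Lpr_af (f525745 IH) (Lpe (f478507 IH) (Lpn (LP (LK LD1_c7 LD2_c53 LD3_c34))))))
theorem f102631 : Led Lsl_dt (LP (LK LD1_c6 LD2_c53 LD3_c32)) = (LP (LK LD1_c13 LD2_c5 LD3_c61)) :=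
  Lre_d IH (LK LD1_c6 LD2_c53 LD3_c32) (LK LD1_c13 LD2_c5 LD3_c61) Lrfl Lrfl
theorem f478505 : Led Lsl_dt (LP (LK LD1_c7 LD2_c53 LD3_c34)) = (LP (LK LD1_c7 LD2_c24 LD3_c32)) :=
  Lgr Lrot42 (Lpr_df (K35.f478498 IH) (Lpn (LP (LK LD1_c7 LD2_c24 LD3_c32))))
theorem f525763 : Led Lsl_af (LP (LK LD1_c6 LD2_c53 LD3_c32)) = (LP (LK LD1_c7 LD2_c24 LD3_c32)) :=
  Lgr Lrot117 (Lpr_dt (f102631 IH) (Lpr_at (f525759 IH) (Lpr_dt (f478505 IH) (Lpn (LP (LK LD1_c7 LD2_c24 LD3_c32))))))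
theorem f85258 : Led Lsl_et (LP (LK LD1_c3 LD2_c45 LD3_c3)) = (LP (LK LD1_c1 LD2_c49 LD3_c37)) :=
  Lre_e IH (LK LD1_c3 LD2_c45 LD3_c3) (LK LD1_c1 LD2_c49 LD3_c37) Lrfl Lrfl
theorem f483322 : Led Lsl_et (LP (LK LD1_c3 LD2_c25 LD3_c48)) = (LP (LK LD1_c6 LD2_c53 LD3_c32)) :=
  Lre_e IH (LK LD1_c3 LD2_c25 LD3_c48) (LK LD1_c6 LD2_c53 LD3_c32) Lrfl Lrfl
theorem f483323 : Led Lsl_cf (LP (LK LD1_c3 LD2_c45 LD3_c3)) = (LP (LK LD1_c6 LD2_c53 LD3_c32)) :=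
  Lgr Lrot39 (Lpr_et (f85258 IH) (Lpr_ct (K34.f483029 IH) (Lpr_et (f483322 IH) (Lpn (LP (LK LD1_c6 LD2_c53 LD3_c32))))))
theorem f525777 : Led Lsl_at (LP (LK LD1_c3 LD2_c45 LD3_c3)) = (LP (LK LD1_c3 LD2_c41 LD3_c55)) :=
  Lgr Lrot107 (Lpr_cf (f483323 IH) (Lpr_af (f525763 IH) (Lpe (K34.f478504 IH) (Lpn (LP (LK LD1_c3 LD2_c41 LD3_c55))))))
theorem f483254 : Led Lsl_bt (LP (LK LD1_c7 LD2_c30 LD3_c56)) = (LP (LK LD1_c3 LD2_c45 LD3_c3)) :=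
  Lre_b IH (LK LD1_c7 LD2_c30 LD3_c56) (LK LD1_c3 LD2_c45 LD3_c3) Lrfl Lrfl
theorem f525908 : Led Lsl_at (LP (LK LD1_c7 LD2_c0 LD3_c48)) = (LP (LK LD1_c7 LD2_c30 LD3_c56)) :=
  Lgr Lrot67 (Lpr_bf (f493693 IH) (Lpr_af (f525899 IH) (Lpe (K34.f478572 IH) (Lpe (f525777 IH) (Lpe (f483254 IH) (Lpn (LP (LK LD1_c7 LD2_c30 LD3_c56))))))))
theorem f467377 : Led Lsl_et (LP (LK LD1_c7 LD2_c30 LD3_c56)) = (LP (LK LD1_c3 LD2_c45 LD3_c1)) :=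
  Lre_e IH (LK LD1_c7 LD2_c30 LD3_c56) (LK LD1_c3 LD2_c45 LD3_c1) Lrfl Lrfl
theorem f471401 : Led Lsl_et (LP (LK LD1_c3 LD2_c38 LD3_c17)) = (LP (LK LD1_c7 LD2_c16 LD3_c58)) :=
  Lre_e IH (LK LD1_c3 LD2_c38 LD3_c17) (LK LD1_c7 LD2_c16 LD3_c58) Lrfl Lrfl
theorem f483038 : Led Lsl_cf (LP (LK LD1_c7 LD2_c30 LD3_c56)) = (LP (LK LD1_c7 LD2_c16 LD3_c58)) :=
  Lgr Lrot39 (Lpr_et (f467377 IH) (Lpr_ct (K30.f483033 IH) (Lpr_et (f471401 IH) (Lpn (LP (LK LD1_c7 LD2_c16 LD3_c58))))))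
theorem f483255 : Led Lsl_ct (LP (LK LD1_c7 LD2_c30 LD3_c56)) = (LP (LK LD1_c7 LD2_c16 LD3_c58)) :=
  Lgr Lrot59 (Lpr_cf (f483038 IH) (Lpn (LP (LK LD1_c7 LD2_c16 LD3_c58))))
theorem f525948 : Led Lsl_af (LP (LK LD1_c3 LD2_c38 LD3_c43)) = (LP (LK LD1_c7 LD2_c16 LD3_c58)) :=
  Lgr Lrot68 (Lpe (K30.f476438 IH) (Lpr_at (f525908 IH) (Lpr_ct (f483255 IH) (Lpn (LP (LK LD1_c7 LD2_c16 LD3_c58))))))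
theorem f476448 : Led Lsl_ft (LP (LK LD1_c3 LD2_c38 LD3_c43)) = (LP (LK LD1_c7 LD2_c17 LD3_c52)) :=
  Lre_f IH (LK LD1_c3 LD2_c38 LD3_c43) (LK LD1_c7 LD2_c17 LD3_c52) Lrfl Lrfl
theorem f511119 : Led Lsl_af (LP (LK LD1_c13 LD2_c38 LD3_c48)) = (LP (LK LD1_c7 LD2_c17 LD3_c52)) :=
  Lgr Lrot31 (Lpr_gf (K33.f511117 IH) (Lpe (K30.f471017 IH) (Lpr_ft (f476448 IH) (Lpn (LP (LK LD1_c7 LD2_c17 LD3_c52))))))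
theorem f525954 : Led Lsl_ft (LP (LK LD1_c13 LD2_c38 LD3_c48)) = (LP (LK LD1_c7 LD2_c16 LD3_c58)) :=
  Lgr Lrot101 (Lpr_af (f511119 IH) (Lpe (f476448 IH) (Lpr_af (f525948 IH) (Lpn (LP (LK LD1_c7 LD2_c16 LD3_c58))))))
theorem f525960 : Led Lsl_ff (LP (LK LD1_c13 LD2_c38 LD3_c48)) = (LP (LK LD1_c7 LD2_c16 LD3_c58)) :=
  Lgr Lrot3 (Lpr_ft (f525954 IH) (Lpn (LP (LK LD1_c7 LD2_c16 LD3_c58))))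
theorem f470686 : Led Lsl_et (LP (LK LD1_c13 LD2_c38 LD3_c48)) = (LP (LK LD1_c7 LD2_c14 LD3_c56)) :=
  Lgr Lrot87 (Lpr_ef (K33.f470682 IH) (Lpn (LP (LK LD1_c7 LD2_c14 LD3_c56))))
theorem f525964 : Led Lsl_ft (LP (LK LD1_c7 LD2_c14 LD3_c56)) = (LP (LK LD1_c3 LD2_c38 LD3_c40)) :=
  Lgr Lrot86 (Lpe (f470686 IH) (Lpr_ff (f525960 IH) (Lpe (f471401 IH) (Lpqs (K34.f523823 IH) (Lpe (K34.f522577 IH) (Lpe (K29.f441997 IH) (Lpn (LP (LK LD1_c3 LD2_c38 LD3_c40)))))))))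
theorem f6312 : Led Lsl_dt (LP (LK LD1_c3 LD2_c37 LD3_c13)) = (LP (LK LD1_c7 LD2_c14 LD3_c56)) :=
  Lre_d IH (LK LD1_c3 LD2_c37 LD3_c13) (LK LD1_c7 LD2_c14 LD3_c56) Lrfl Lrfl
theorem f525970 : Led Lsl_ff (LP (LK LD1_c3 LD2_c37 LD3_c13)) = (LP (LK LD1_c7 LD2_c13 LD3_c5)) :=
  Lgr Lrot19 (Lpr_dt (f6312 IH) (Lpr_ft (f525964 IH) (Lpr_dt (K29.f441998 IH) (Lpn (LP (LK LD1_c7 LD2_c13 LD3_c5))))))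
theorem f10797 : Led Lsl_gt (LP (LK LD1_c3 LD2_c36 LD3_c21)) = (LP (LK LD1_c7 LD2_c13 LD3_c4)) :=
  Lre_g IH (LK LD1_c3 LD2_c36 LD3_c21) (LK LD1_c7 LD2_c13 LD3_c4) Lrfl Lrfl
theorem f525981 : Led Lsl_at (LP (LK LD1_c3 LD2_c37 LD3_c13)) = (LP (LK LD1_c7 LD2_c13 LD3_c4)) :=
  Lgr Lrot26 (Lpr_ff (f525970 IH) (Lpr_gt (K29.f10503 IH) (Lpr_gt (f10797 IH) (Lpn (LP (LK LD1_c7 LD2_c13 LD3_c4))))))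
theorem f487848 : Led Lsl_ct (LP (LK LD1_c7 LD2_c14 LD3_c55)) = (LP (LK LD1_c3 LD2_c37 LD3_c13)) :=
  Lre_c IH (LK LD1_c7 LD2_c14 LD3_c55) (LK LD1_c3 LD2_c37 LD3_c13) Lrfl Lrfl
theorem f456628 : Led Lsl_ct (LP (LK LD1_c7 LD2_c13 LD3_c4)) = (LP (LK LD1_c13 LD2_c39 LD3_c47)) :=
  Lre_c IH (LK LD1_c7 LD2_c13 LD3_c4) (LK LD1_c13 LD2_c39 LD3_c47) Lrfl Lrfl
theorem f525986 : Led Lsl_af (LP (LK LD1_c7 LD2_c14 LD3_c55)) = (LP (LK LD1_c13 LD2_c39 LD3_c47)) :=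
  Lgr Lrot68 (Lpr_ct (f487848 IH) (Lpr_at (f525981 IH) (Lpr_ct (f456628 IH) (Lpn (LP (LK LD1_c13 LD2_c39 LD3_c47))))))
theorem f6316 : Led Lsl_ct (LP (LK LD1_c3 LD2_c37 LD3_c13)) = (LP (LK LD1_c7 LD2_c14 LD3_c55)) :=
  Lre_c IH (LK LD1_c3 LD2_c37 LD3_c13) (LK LD1_c7 LD2_c14 LD3_c55) Lrfl Lrfl
theorem f87165 : Led Lsl_gt (LP (LK LD1_c1 LD2_c51 LD3_c39)) = (LP (LK LD1_c3 LD2_c49 LD3_c13)) :=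
  Lre_g IH (LK LD1_c1 LD2_c51 LD3_c39) (LK LD1_c3 LD2_c49 LD3_c13) Lrfl Lrfl
theorem f87174 : Led Lsl_dt (LP (LK LD1_c3 LD2_c49 LD3_c13)) = (LP (LK LD1_c7 LD2_c39 LD3_c22)) :=
  Lre_d IH (LK LD1_c3 LD2_c49 LD3_c13) (LK LD1_c7 LD2_c39 LD3_c22) Lrfl Lrfl
theorem f487835 : Led Lsl_cf (LP (LK LD1_c7 LD2_c14 LD3_c56)) = (LP (LK LD1_c7 LD2_c39 LD3_c22)) :=
  Lgr Lrot14 (Lpe (f6312 IH) (Lpe (K33.f6311 IH) (Lpe (K28.f6007 IH) (Lpe (K33.f6023 IH) (Lpr_ct (K33.f487828 IH) (Lpr_gt (K33.f87132 IH) (Lpr_dt (K28.f87128 IH) (Lpr_gt (f87165 IH) (Lpr_dt (f87174 IH) (Lpn (LP (LK LD1_c7 LD2_c39 LD3_c22))))))))))))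
theorem f10843 : Led Lsl_ct (LP (LK LD1_c7 LD2_c13 LD3_c17)) = (LP (LK LD1_c3 LD2_c36 LD3_c28)) :=
  Lre_c IH (LK LD1_c7 LD2_c13 LD3_c17) (LK LD1_c3 LD2_c36 LD3_c28) Lrfl Lrfl
theorem f10853 : Led Lsl_gt (LP (LK LD1_c3 LD2_c37 LD3_c37)) = (LP (LK LD1_c7 LD2_c13 LD3_c17)) :=
  Lre_g IH (LK LD1_c3 LD2_c37 LD3_c37) (LK LD1_c7 LD2_c13 LD3_c17) Lrfl Lrfl
theorem f87131 : Led Lsl_dt (LP (LK LD1_c1 LD2_c51 LD3_c39)) = (LP (LK LD1_c0 LD2_c52 LD3_c38)) :=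
  Lre_d IH (LK LD1_c1 LD2_c51 LD3_c39) (LK LD1_c0 LD2_c52 LD3_c38) Lrfl Lrfl
theorem f467444 : Led Lsl_cf (LP (LK LD1_c3 LD2_c37 LD3_c37)) = (LP (LK LD1_c3 LD2_c49 LD3_c13)) :=
  Lgr Lrot169 (Lpr_gt (f10853 IH) (Lpr_ct (f10843 IH) (Lpe (K2.f10810 IH) (Lpe (K29.f6595 IH) (Lpe (K29.f10522 IH) (Lpr_cf (K29.f467435 IH) (Lpe (K29.f87133 IH) (Lpe (f87131 IH) (Lpr_gt (f87165 IH) (Lpn (LP (LK LD1_c3 LD2_c49 LD3_c13))))))))))))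
theorem f467544 : Led Lsl_ct (LP (LK LD1_c3 LD2_c37 LD3_c37)) = (LP (LK LD1_c3 LD2_c49 LD3_c13)) :=
  Lgr Lrot59 (Lpr_cf (f467444 IH) (Lpn (LP (LK LD1_c3 LD2_c49 LD3_c13))))
theorem f467546 : Led Lsl_dt (LP (LK LD1_c7 LD2_c15 LD3_c41)) = (LP (LK LD1_c3 LD2_c37 LD3_c37)) :=
  Lre_d IH (LK LD1_c7 LD2_c15 LD3_c41) (LK LD1_c3 LD2_c37 LD3_c37) Lrfl Lrfl
theorem f6317 : Led Lsl_gt (LP (LK LD1_c7 LD2_c14 LD3_c55)) = (LP (LK LD1_c13 LD2_c42 LD3_c53)) :=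
  Lre_g IH (LK LD1_c7 LD2_c14 LD3_c55) (LK LD1_c13 LD2_c42 LD3_c53) Lrfl Lrfl
theorem f488500 : Led Lsl_cf (LP (LK LD1_c13 LD2_c39 LD3_c58)) = (LP (LK LD1_c13 LD2_c42 LD3_c53)) :=
  Lgr Lrot99 (Lpe (K28.f442095 IH) (Lpr_cf (K29.f467964 IH) (Lpe (K29.f467417 IH) (Lpe (K33.f467433 IH) (Lpe (K35.f6015 IH) (Lpe (K41.f6301 IH) (Lpr_gt (K33.f6311 IH) (Lpr_ct (f6316 IH) (Lpr_gt (f6317 IH) (Lpn (LP (LK LD1_c13 LD2_c42 LD3_c53))))))))))))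
theorem f477959 : Led Lsl_ct (LP (LK LD1_c7 LD2_c15 LD3_c9)) = (LP (LK LD1_c13 LD2_c43 LD3_c31)) :=
  Lre_c IH (LK LD1_c7 LD2_c15 LD3_c9) (LK LD1_c13 LD2_c43 LD3_c31) Lrfl Lrfl
theorem f488502 : Led Lsl_at (LP (LK LD1_c13 LD2_c43 LD3_c31)) = (LP (LK LD1_c13 LD2_c42 LD3_c53)) :=
  Lgr Lrot107 (Lpe (f477959 IH) (Lpr_af (K33.f481198 IH) (Lpr_cf (f488500 IH) (Lpn (LP (LK LD1_c13 LD2_c42 LD3_c53))))))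
theorem f477963 : Led Lsl_ct (LP (LK LD1_c13 LD2_c43 LD3_c31)) = (LP (LK LD1_c7 LD2_c15 LD3_c9)) :=
  Lre_c IH (LK LD1_c13 LD2_c43 LD3_c31) (LK LD1_c7 LD2_c15 LD3_c9) Lrfl Lrfl
theorem f97993 : Led Lsl_ct (LP (LK LD1_c3 LD2_c49 LD3_c10)) = (LP (LK LD1_c7 LD2_c39 LD3_c21)) :=
  Lre_c IH (LK LD1_c3 LD2_c49 LD3_c10) (LK LD1_c7 LD2_c39 LD3_c21) Lrfl Lrfl
theorem f481200 : Led Lsl_ff (LP (LK LD1_c13 LD2_c43 LD3_c31)) = (LP (LK LD1_c7 LD2_c39 LD3_c21)) :=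
  Lgr Lrot23 (Lpr_ct (f477963 IH) (Lpr_ft (K29.f481052 IH) (Lpr_ct (f97993 IH) (Lpn (LP (LK LD1_c7 LD2_c39 LD3_c21))))))
theorem f488544 : Led Lsl_gt (LP (LK LD1_c7 LD2_c39 LD3_c21)) = (LP (LK LD1_c7 LD2_c14 LD3_c55)) :=
  Lgr Lrot5 (Lpe (f481200 IH) (Lpr_at (f488502 IH) (Lpe (f6317 IH) (Lpn (LP (LK LD1_c7 LD2_c14 LD3_c55))))))
theorem f456491 : Led Lsl_ct (LP (LK LD1_c3 LD2_c37 LD3_c14)) = (LP (LK LD1_c7 LD2_c14 LD3_c59)) :=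
  Lre_c IH (LK LD1_c3 LD2_c37 LD3_c14) (LK LD1_c7 LD2_c14 LD3_c59) Lrfl Lrfl
theorem f97982 : Led Lsl_ct (LP (LK LD1_c7 LD2_c39 LD3_c21)) = (LP (LK LD1_c3 LD2_c49 LD3_c10)) :=
  Lre_c IH (LK LD1_c7 LD2_c39 LD3_c21) (LK LD1_c3 LD2_c49 LD3_c10) Lrfl Lrfl
theorem f487837 : Led Lsl_gt (LP (LK LD1_c7 LD2_c14 LD3_c59)) = (LP (LK LD1_c7 LD2_c39 LD3_c21)) :=
  Lgr Lrot150 (Lpe (f456491 IH) (Lpe (K28.f10554 IH) (Lpe (K3.f10515 IH) (Lpr_gt (K33.f10525 IH) (Lpr_ct (K33.f487828 IH) (Lpr_gt (K33.f87132 IH) (Lpr_ct (K29.f97994 IH) (Lpe (K29.f97998 IH) (Lpe (f97982 IH) (Lpn (LP (LK LD1_c7 LD2_c39 LD3_c21))))))))))))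
theorem f526069 : Led Lsl_ft (LP (LK LD1_c7 LD2_c14 LD3_c59)) = (LP (LK LD1_c13 LD2_c39 LD3_c47)) :=
  Lgr Lrot2 (Lpr_gt (f487837 IH) (Lpr_gt (f488544 IH) (Lpr_af (f525986 IH) (Lpn (LP (LK LD1_c13 LD2_c39 LD3_c47))))))
theorem f456492 : Led Lsl_dt (LP (LK LD1_c7 LD2_c14 LD3_c59)) = (LP (LK LD1_c13 LD2_c43 LD3_c3)) :=
  Lre_d IH (LK LD1_c7 LD2_c14 LD3_c59) (LK LD1_c13 LD2_c43 LD3_c3) Lrfl Lrfl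
theorem f526071 : Led Lsl_cf (LP (LK LD1_c7 LD2_c15 LD3_c41)) = (LP (LK LD1_c13 LD2_c43 LD3_c3)) :=
  Lgr Lrot118 (Lpr_dt (f467546 IH) (Lpr_ct (f467544 IH) (Lpr_dt (f87174 IH) (Lpe (f487835 IH) (Lpr_dt (K33.f10665 IH) (Lpr_ct (f6316 IH) (Lpr_af (f525986 IH) (Lpe (f526069 IH) (Lpr_dt (f456492 IH) (Lpn (LP (LK LD1_c13 LD2_c43 LD3_c3))))))))))))
theorem f487847 : Led Lsl_dt (LP (LK LD1_c7 LD2_c14 LD3_c55)) = (LP (LK LD1_c13 LD2_c42 LD3_c54)) :=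
  Lre_d IH (LK LD1_c7 LD2_c14 LD3_c55) (LK LD1_c13 LD2_c42 LD3_c54) Lrfl Lrfl
theorem f450918 : Led Lsl_ct (LP (LK LD1_c1 LD2_c45 LD3_c39)) = (LP (LK LD1_c0 LD2_c49 LD3_c27)) :=
  Lre_c IH (LK LD1_c1 LD2_c45 LD3_c39) (LK LD1_c0 LD2_c49 LD3_c27) Lrfl Lrfl
theorem f429141 : Led Lsl_gt (LP (LK LD1_c3 LD2_c37 LD3_c38)) = (LP (LK LD1_c1 LD2_c45 LD3_c39)) :=
  Lre_g IH (LK LD1_c3 LD2_c37 LD3_c38) (LK LD1_c1 LD2_c45 LD3_c39) Lrfl Lrfl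
theorem f467430 : Led Lsl_gt (LP (LK LD1_c3 LD2_c49 LD3_c3)) = (LP (LK LD1_c1 LD2_c51 LD3_c38)) :=
  Lre_g IH (LK LD1_c3 LD2_c49 LD3_c3) (LK LD1_c1 LD2_c51 LD3_c38) Lrfl Lrfl
theorem f467418 : Led Lsl_dt (LP (LK LD1_c7 LD2_c39 LD3_c10)) = (LP (LK LD1_c3 LD2_c49 LD3_c3)) :=
  Lre_d IH (LK LD1_c7 LD2_c39 LD3_c10) (LK LD1_c3 LD2_c49 LD3_c3) Lrfl Lrfl
theorem f487855 : Led Lsl_cf (LP (LK LD1_c3 LD2_c37 LD3_c38)) = (LP (LK LD1_c3 LD2_c49 LD3_c14)) :=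
  Lgr Lrot169 (Lpr_gt (f429141 IH) (Lpr_ct (f450918 IH) (Lpe (K2.f92511 IH) (Lpe (K29.f6004 IH) (Lpe (K33.f6023 IH) (Lpr_cf (K33.f487830 IH) (Lpe (f467430 IH) (Lpe (f467418 IH) (Lpr_gt (K28.f467413 IH) (Lpn (LP (LK LD1_c3 LD2_c49 LD3_c14))))))))))))
theorem f488137 : Led Lsl_ct (LP (LK LD1_c3 LD2_c37 LD3_c38)) = (LP (LK LD1_c3 LD2_c49 LD3_c14)) :=
  Lgr Lrot59 (Lpr_cf (f487855 IH) (Lpn (LP (LK LD1_c3 LD2_c49 LD3_c14))))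
theorem f488140 : Led Lsl_dt (LP (LK LD1_c7 LD2_c15 LD3_c43)) = (LP (LK LD1_c3 LD2_c37 LD3_c38)) :=
  Lre_d IH (LK LD1_c7 LD2_c15 LD3_c43) (LK LD1_c3 LD2_c37 LD3_c38) Lrfl Lrfl
theorem f526077 : Led Lsl_ct (LP (LK LD1_c13 LD2_c42 LD3_c54)) = (LP (LK LD1_c7 LD2_c15 LD3_c43)) :=
  Lgr Lrot176 (Lpe (f487847 IH) (Lpe (f6316 IH) (Lpe (K33.f10665 IH) (Lpr_cf (f487835 IH) (Lpe (f87174 IH) (Lpe (f467544 IH) (Lpe (f467546 IH) (Lpr_cf (f526071 IH) (Lpe (f456492 IH) (Lpe (f456491 IH) (Lpe (K28.f10670 IH) (Lpe (K33.f456483 IH) (Lpr_df (K29.f467411 IH) (Lpe (f488137 IH) (Lpe (f488140 IH) (Lpn (LP (LK LD1_c7 LD2_c15 LD3_c43))))))))))))))))))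
theorem f526100 : Led Lsl_at (LP (LK LD1_c3 LD2_c38 LD3_c40)) = (LP (LK LD1_c7 LD2_c14 LD3_c60)) :=
  Lgr Lrot33 (Lpe (f525964 IH) (Lpr_dt (K33.f10665 IH) (Lpr_ct (f6316 IH) (Lpr_dt (f487847 IH) (Lpr_ct (f526077 IH) (Lpr_dt (f488140 IH) (Lpr_ct (f488137 IH) (Lpe (K29.f467411 IH) (Lpr_ct (K33.f456483 IH) (Lpn (LP (LK LD1_c7 LD2_c14 LD3_c60))))))))))))
theorem f526106 : Led Lsl_af (LP (LK LD1_c7 LD2_c13 LD3_c5)) = (LP (LK LD1_c3 LD2_c37 LD3_c14)) :=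
  Lgr Lrot117 (Lpe (K29.f442004 IH) (Lpr_at (f526100 IH) (Lpr_dt (K28.f10670 IH) (Lpn (LP (LK LD1_c3 LD2_c37 LD3_c14))))))
theorem f526113 : Led Lsl_ft (LP (LK LD1_c7 LD2_c13 LD3_c4)) = (LP (LK LD1_c3 LD2_c37 LD3_c14)) :=
  Lgr Lrot101 (Lpe (f525981 IH) (Lpr_ff (f525970 IH) (Lpr_af (f526106 IH) (Lpn (LP (LK LD1_c3 LD2_c37 LD3_c14))))))
theorem f526120 : Led Lsl_ff (LP (LK LD1_c7 LD2_c13 LD3_c4)) = (LP (LK LD1_c3 LD2_c37 LD3_c14)) :=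
  Lgr Lrot3 (Lpr_ft (f526113 IH) (Lpn (LP (LK LD1_c3 LD2_c37 LD3_c14))))
theorem f456485 : Led Lsl_ct (LP (LK LD1_c7 LD2_c14 LD3_c59)) = (LP (LK LD1_c3 LD2_c37 LD3_c14)) :=
  Lre_c IH (LK LD1_c7 LD2_c14 LD3_c59) (LK LD1_c3 LD2_c37 LD3_c14) Lrfl Lrfl
theorem f526124 : Led Lsl_ft (LP (LK LD1_c13 LD2_c39 LD3_c47)) = (LP (LK LD1_c7 LD2_c14 LD3_c59)) :=
  Lgr Lrot4 (Lpe (f456628 IH) (Lpr_ff (f526120 IH) (Lpe (f456485 IH) (Lpn (LP (LK LD1_c7 LD2_c14 LD3_c59))))))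
theorem f10549 : Led Lsl_et (LP (LK LD1_c7 LD2_c14 LD3_c57)) = (LP (LK LD1_c3 LD2_c37 LD3_c13)) :=
  Lre_e IH (LK LD1_c7 LD2_c14 LD3_c57) (LK LD1_c3 LD2_c37 LD3_c13) Lrfl Lrfl
theorem f525988 : Led Lsl_et (LP (LK LD1_c7 LD2_c13 LD3_c4)) = (LP (LK LD1_c13 LD2_c39 LD3_c48)) :=
  Lre_e IH (LK LD1_c7 LD2_c13 LD3_c4) (LK LD1_c13 LD2_c39 LD3_c48) Lrfl Lrfl
theorem f525989 : Led Lsl_af (LP (LK LD1_c7 LD2_c14 LD3_c57)) = (LP (LK LD1_c13 LD2_c39 LD3_c48)) :=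
  Lgr Lrot50 (Lpr_et (f10549 IH) (Lpr_at (f525981 IH) (Lpr_et (f525988 IH) (Lpn (LP (LK LD1_c13 LD2_c39 LD3_c48))))))
theorem f525976 : Led Lsl_ft (LP (LK LD1_c7 LD2_c14 LD3_c57)) = (LP (LK LD1_c13 LD2_c42 LD3_c59)) :=
  Lre_f IH (LK LD1_c7 LD2_c14 LD3_c57) (LK LD1_c13 LD2_c42 LD3_c59) Lrfl Lrfl
theorem f525999 : Led Lsl_ft (LP (LK LD1_c23 LD2_c5 LD3_c10)) = (LP (LK LD1_c13 LD2_c39 LD3_c48)) :=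
  Lre_f IH (LK LD1_c23 LD2_c5 LD3_c10) (LK LD1_c13 LD2_c39 LD3_c48) Lrfl Lrfl
theorem f526000 : Led Lsl_at (LP (LK LD1_c13 LD2_c42 LD3_c59)) = (LP (LK LD1_c23 LD2_c5 LD3_c10)) :=
  Lgr Lrot66 (Lpe (f525976 IH) (Lpr_af (f525989 IH) (Lpe (f525999 IH) (Lpn (LP (LK LD1_c23 LD2_c5 LD3_c10))))))
theorem f526015 : Led Lsl_ct (LP (LK LD1_c23 LD2_c9 LD3_c4)) = (LP (LK LD1_c13 LD2_c42 LD3_c59)) :=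
  Lre_c IH (LK LD1_c23 LD2_c9 LD3_c4) (LK LD1_c13 LD2_c42 LD3_c59) Lrfl Lrfl
theorem f526009 : Led Lsl_ct (LP (LK LD1_c23 LD2_c5 LD3_c10)) = (LP (LK LD1_c30 LD2_c53 LD3_c27)) :=
  Lre_c IH (LK LD1_c23 LD2_c5 LD3_c10) (LK LD1_c30 LD2_c53 LD3_c27) Lrfl Lrfl
theorem f526016 : Led Lsl_af (LP (LK LD1_c23 LD2_c9 LD3_c4)) = (LP (LK LD1_c30 LD2_c53 LD3_c27)) :=
  Lgr Lrot68 (Lpr_ct (f526015 IH) (Lpr_at (f526000 IH) (Lpr_ct (f526009 IH) (Lpn (LP (LK LD1_c30 LD2_c53 LD3_c27))))))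
theorem f526027 : Led Lsl_at (LP (LK LD1_c23 LD2_c9 LD3_c4)) = (LP (LK LD1_c30 LD2_c53 LD3_c27)) :=
  Lgr Lrot100 (Lpr_af (f526016 IH) (Lpn (LP (LK LD1_c30 LD2_c53 LD3_c27))))
theorem f526032 : Led Lsl_ft (LP (LK LD1_c13 LD2_c42 LD3_c55)) = (LP (LK LD1_c23 LD2_c9 LD3_c4)) :=
  Lre_f IH (LK LD1_c13 LD2_c42 LD3_c55) (LK LD1_c23 LD2_c9 LD3_c4) Lrfl Lrfl
theorem f526033 : Led Lsl_ft (LP (LK LD1_c30 LD2_c53 LD3_c27)) = (LP (LK LD1_c23 LD2_c5 LD3_c7)) :=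
  Lre_f IH (LK LD1_c30 LD2_c53 LD3_c27) (LK LD1_c23 LD2_c5 LD3_c7) Lrfl Lrfl
theorem f526034 : Led Lsl_af (LP (LK LD1_c13 LD2_c42 LD3_c55)) = (LP (LK LD1_c23 LD2_c5 LD3_c7)) :=
  Lgr Lrot45 (Lpr_ft (f526032 IH) (Lpr_at (f526027 IH) (Lpr_ft (f526033 IH) (Lpn (LP (LK LD1_c23 LD2_c5 LD3_c7))))))
theorem f488547 : Led Lsl_et (LP (LK LD1_c13 LD2_c42 LD3_c55)) = (LP (LK LD1_c7 LD2_c14 LD3_c55)) :=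
  Lre_e IH (LK LD1_c13 LD2_c42 LD3_c55) (LK LD1_c7 LD2_c14 LD3_c55) Lrfl Lrfl
theorem f526041 : Led Lsl_et (LP (LK LD1_c13 LD2_c39 LD3_c47)) = (LP (LK LD1_c23 LD2_c5 LD3_c7)) :=
  Lre_e IH (LK LD1_c13 LD2_c39 LD3_c47) (LK LD1_c23 LD2_c5 LD3_c7) Lrfl Lrfl
theorem f526042 : Led Lsl_at (LP (LK LD1_c7 LD2_c14 LD3_c55)) = (LP (LK LD1_c13 LD2_c39 LD3_c47)) :=
  Lgr Lrot80 (Lpe (f488547 IH) (Lpr_af (f526034 IH) (Lpe (f526041 IH) (Lpn (LP (LK LD1_c13 LD2_c39 LD3_c47))))))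
theorem f97096 : Led Lsl_ct (LP (LK LD1_c7 LD2_c13 LD3_c28)) = (LP (LK LD1_c13 LD2_c40 LD3_c33)) :=
  Lre_c IH (LK LD1_c7 LD2_c13 LD3_c28) (LK LD1_c13 LD2_c40 LD3_c33) Lrfl Lrfl
theorem f488512 : Led Lsl_ft (LP (LK LD1_c13 LD2_c40 LD3_c33)) = (LP (LK LD1_c13 LD2_c42 LD3_c53)) :=
  Lgr Lrot4 (Lpe (f97096 IH) (Lpe (K28.f467968 IH) (Lpr_cf (f488500 IH) (Lpn (LP (LK LD1_c13 LD2_c42 LD3_c53))))))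
theorem f97983 : Led Lsl_at (LP (LK LD1_c13 LD2_c40 LD3_c33)) = (LP (LK LD1_c7 LD2_c39 LD3_c21)) :=
  Lgr Lrot107 (Lpe (f97096 IH) (Lpr_af (K28.f97972 IH) (Lpe (f97982 IH) (Lpn (LP (LK LD1_c7 LD2_c39 LD3_c21))))))
theorem f97987 : Led Lsl_af (LP (LK LD1_c13 LD2_c40 LD3_c33)) = (LP (LK LD1_c7 LD2_c39 LD3_c21)) :=
  Lgr Lrot0 (Lpr_at (f97983 IH) (Lpn (LP (LK LD1_c7 LD2_c39 LD3_c21))))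
theorem f481373 : Led Lsl_ft (LP (LK LD1_c13 LD2_c43 LD3_c31)) = (LP (LK LD1_c7 LD2_c39 LD3_c21)) :=
  Lgr Lrot48 (Lpr_ff (f481200 IH) (Lpn (LP (LK LD1_c7 LD2_c39 LD3_c21))))
theorem f488515 : Led Lsl_af (LP (LK LD1_c13 LD2_c43 LD3_c31)) = (LP (LK LD1_c13 LD2_c42 LD3_c53)) :=
  Lgr Lrot45 (Lpr_ft (f481373 IH) (Lpe (f97987 IH) (Lpr_ft (f488512 IH) (Lpn (LP (LK LD1_c13 LD2_c42 LD3_c53))))))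
theorem f481008 : Led Lsl_gf (LP (LK LD1_c13 LD2_c43 LD3_c31)) = (LP (LK LD1_c13 LD2_c39 LD3_c47)) :=
  Lgr Lrot104 (Lpr_ct (f477963 IH) (Lpe (K29.f477958 IH) (Lpr_cf (K29.f477949 IH) (Lpr_gf (K29.f480912 IH) (Lpr_cf (K29.f456622 IH) (Lpe (K29.f10660 IH) (Lpe (K33.f10692 IH) (Lpr_gt (f10797 IH) (Lpr_ct (f456628 IH) (Lpn (LP (LK LD1_c13 LD2_c39 LD3_c47))))))))))))
theorem f488522 : Led Lsl_gt (LP (LK LD1_c13 LD2_c40 LD3_c33)) = (LP (LK LD1_c13 LD2_c39 LD3_c47)) :=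
  Lgr Lrot5 (Lpr_ft (f488512 IH) (Lpe (f488515 IH) (Lpr_gf (f481008 IH) (Lpn (LP (LK LD1_c13 LD2_c39 LD3_c47))))))
theorem f6604 : Led Lsl_ct (LP (LK LD1_c7 LD2_c13 LD3_c5)) = (LP (LK LD1_c13 LD2_c39 LD3_c50)) :=
  Lre_c IH (LK LD1_c7 LD2_c13 LD3_c5) (LK LD1_c13 LD2_c39 LD3_c50) Lrfl Lrfl
theorem f97098 : Led Lsl_ct (LP (LK LD1_c13 LD2_c40 LD3_c33)) = (LP (LK LD1_c7 LD2_c13 LD3_c28)) :=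
  Lre_c IH (LK LD1_c13 LD2_c40 LD3_c33) (LK LD1_c7 LD2_c13 LD3_c28) Lrfl Lrfl
theorem f477646 : Led Lsl_gt (LP (LK LD1_c13 LD2_c39 LD3_c50)) = (LP (LK LD1_c13 LD2_c40 LD3_c33)) :=
  Lgr Lrot150 (Lpe (f6604 IH) (Lpe (K29.f6602 IH) (Lpe (K29.f6331 IH) (Lpr_gt (K29.f6623 IH) (Lpr_ct (K29.f477619 IH) (Lpr_gt (K29.f87149 IH) (Lpe (K29.f97025 IH) (Lpe (K29.f97082 IH) (Lpe (f97098 IH) (Lpn (LP (LK LD1_c13 LD2_c40 LD3_c33))))))))))))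
theorem f526050 : Led Lsl_ff (LP (LK LD1_c7 LD2_c14 LD3_c55)) = (LP (LK LD1_c13 LD2_c39 LD3_c50)) :=
  Lgr Lrot52 (Lpr_at (f526042 IH) (Lpe (f488522 IH) (Lpe (f477646 IH) (Lpn (LP (LK LD1_c13 LD2_c39 LD3_c50))))))
theorem f526139 : Led Lsl_af (LP (LK LD1_c13 LD2_c39 LD3_c50)) = (LP (LK LD1_c7 LD2_c14 LD3_c59)) :=
  Lgr Lrot45 (Lpe (f526050 IH) (Lpr_at (f526042 IH) (Lpr_ft (f526124 IH) (Lpn (LP (LK LD1_c7 LD2_c14 LD3_c59))))))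
theorem f526150 : Led Lsl_et (LP (LK LD1_c13 LD2_c39 LD3_c50)) = (LP (LK LD1_c23 LD2_c5 LD3_c12)) :=
  Lre_e IH (LK LD1_c13 LD2_c39 LD3_c50) (LK LD1_c23 LD2_c5 LD3_c12) Lrfl Lrfl
theorem f487843 : Led Lsl_et (LP (LK LD1_c13 LD2_c43 LD3_c4)) = (LP (LK LD1_c7 LD2_c14 LD3_c59)) :=
  Lre_e IH (LK LD1_c13 LD2_c43 LD3_c4) (LK LD1_c7 LD2_c14 LD3_c59) Lrfl Lrfl
theorem f526151 : Led Lsl_at (LP (LK LD1_c23 LD2_c5 LD3_c12)) = (LP (LK LD1_c13 LD2_c43 LD3_c4)) :=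
  Lgr Lrot80 (Lpe (f526150 IH) (Lpr_af (f526139 IH) (Lpe (f487843 IH) (Lpn (LP (LK LD1_c13 LD2_c43 LD3_c4))))))
theorem f442056 : Led Lsl_ct (LP (LK LD1_c13 LD2_c39 LD3_c51)) = (LP (LK LD1_c23 LD2_c5 LD3_c12)) :=
  Lre_c IH (LK LD1_c13 LD2_c39 LD3_c51) (LK LD1_c23 LD2_c5 LD3_c12) Lrfl Lrfl
theorem f526156 : Led Lsl_ct (LP (LK LD1_c13 LD2_c43 LD3_c4)) = (LP (LK LD1_c7 LD2_c14 LD3_c61)) :=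
  Lre_c IH (LK LD1_c13 LD2_c43 LD3_c4) (LK LD1_c7 LD2_c14 LD3_c61) Lrfl Lrfl
theorem f526157 : Led Lsl_af (LP (LK LD1_c13 LD2_c39 LD3_c51)) = (LP (LK LD1_c7 LD2_c14 LD3_c61)) :=
  Lgr Lrot68 (Lpr_ct (f442056 IH) (Lpr_at (f526151 IH) (Lpr_ct (f526156 IH) (Lpn (LP (LK LD1_c7 LD2_c14 LD3_c61))))))
theorem f442025 : Led Lsl_ft (LP (LK LD1_c13 LD2_c39 LD3_c51)) = (LP (LK LD1_c23 LD2_c5 LD3_c15)) :=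
  Lre_f IH (LK LD1_c13 LD2_c39 LD3_c51) (LK LD1_c23 LD2_c5 LD3_c15) Lrfl Lrfl
theorem f526126 : Led Lsl_ft (LP (LK LD1_c13 LD2_c43 LD3_c8)) = (LP (LK LD1_c7 LD2_c14 LD3_c61)) :=
  Lre_f IH (LK LD1_c13 LD2_c43 LD3_c8) (LK LD1_c7 LD2_c14 LD3_c61) Lrfl Lrfl
theorem f526165 : Led Lsl_at (LP (LK LD1_c23 LD2_c5 LD3_c15)) = (LP (LK LD1_c13 LD2_c43 LD3_c8)) :=
  Lgr Lrot66 (Lpe (f442025 IH) (Lpr_af (f526157 IH) (Lpe (f526126 IH) (Lpn (LP (LK LD1_c13 LD2_c43 LD3_c8))))))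
theorem f442007 : Led Lsl_et (LP (LK LD1_c7 LD2_c17 LD3_c42)) = (LP (LK LD1_c3 LD2_c38 LD3_c39)) :=
  Lre_e IH (LK LD1_c7 LD2_c17 LD3_c42) (LK LD1_c3 LD2_c38 LD3_c39) Lrfl Lrfl
theorem f442008 : Led Lsl_et (LP (LK LD1_c7 LD2_c13 LD3_c5)) = (LP (LK LD1_c13 LD2_c39 LD3_c51)) :=
  Lre_e IH (LK LD1_c7 LD2_c13 LD3_c5) (LK LD1_c13 LD2_c39 LD3_c51) Lrfl Lrfl
theorem f442009 : Led Lsl_df (LP (LK LD1_c7 LD2_c17 LD3_c42)) = (LP (LK LD1_c13 LD2_c39 LD3_c51)) :=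
  Lgr Lrot70 (Lpr_et (f442007 IH) (Lpr_dt (K34.f4271 IH) (Lpr_et (K29.f442006 IH) (Lpr_dt (K29.f441998 IH) (Lpr_et (f442008 IH) (Lpn (LP (LK LD1_c13 LD2_c39 LD3_c51))))))))
theorem f442021 : Led Lsl_ft (LP (LK LD1_c7 LD2_c17 LD3_c42)) = (LP (LK LD1_c13 LD2_c48 LD3_c6)) :=
  Lre_f IH (LK LD1_c7 LD2_c17 LD3_c42) (LK LD1_c13 LD2_c48 LD3_c6) Lrfl Lrfl
theorem f442022 : Led Lsl_ft (LP (LK LD1_c23 LD2_c5 LD3_c15)) = (LP (LK LD1_c13 LD2_c39 LD3_c51)) :=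
  Lre_f IH (LK LD1_c23 LD2_c5 LD3_c15) (LK LD1_c13 LD2_c39 LD3_c51) Lrfl Lrfl
theorem f442023 : Led Lsl_dt (LP (LK LD1_c13 LD2_c48 LD3_c6)) = (LP (LK LD1_c23 LD2_c5 LD3_c15)) :=
  Lgr Lrot60 (Lpe (f442021 IH) (Lpr_df (f442009 IH) (Lpe (f442022 IH) (Lpn (LP (LK LD1_c23 LD2_c5 LD3_c15))))))
theorem f525458 : Led Lsl_dt (LP (LK LD1_c13 LD2_c43 LD3_c8)) = (LP (LK LD1_c23 LD2_c9 LD3_c34)) :=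
  Lre_d IH (LK LD1_c13 LD2_c43 LD3_c8) (LK LD1_c23 LD2_c9 LD3_c34) Lrfl Lrfl
theorem f526173 : Led Lsl_af (LP (LK LD1_c13 LD2_c48 LD3_c6)) = (LP (LK LD1_c23 LD2_c9 LD3_c34)) :=
  Lgr Lrot117 (Lpr_dt (f442023 IH) (Lpr_at (f526165 IH) (Lpr_dt (f525458 IH) (Lpn (LP (LK LD1_c23 LD2_c9 LD3_c34))))))
theorem f442057 : Led Lsl_et (LP (LK LD1_c3 LD2_c38 LD3_c39)) = (LP (LK LD1_c7 LD2_c17 LD3_c42)) :=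
  Lre_e IH (LK LD1_c3 LD2_c38 LD3_c39) (LK LD1_c7 LD2_c17 LD3_c42) Lrfl Lrfl
theorem f471402 : Led Lsl_et (LP (LK LD1_c13 LD2_c46 LD3_c50)) = (LP (LK LD1_c7 LD2_c16 LD3_c57)) :=
  Lre_e IH (LK LD1_c13 LD2_c46 LD3_c50) (LK LD1_c7 LD2_c16 LD3_c57) Lrfl Lrfl
theorem f471421 : Led Lsl_ft (LP (LK LD1_c23 LD2_c14 LD3_c10)) = (LP (LK LD1_c13 LD2_c46 LD3_c50)) :=
  Lre_f IH (LK LD1_c23 LD2_c14 LD3_c10) (LK LD1_c13 LD2_c46 LD3_c50) Lrfl Lrfl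
theorem f523836 : Led Lsl_et (LP (LK LD1_c13 LD2_c48 LD3_c6)) = (LP (LK LD1_c23 LD2_c14 LD3_c10)) :=
  Lgr Lrot69 (Lpe (f442021 IH) (Lpe (f442057 IH) (Lpr_ff (K34.f523830 IH) (Lpe (f471402 IH) (Lpe (f471421 IH) (Lpn (LP (LK LD1_c23 LD2_c14 LD3_c10))))))))
theorem f525446 : Led Lsl_ct (LP (LK LD1_c23 LD2_c16 LD3_c29)) = (LP (LK LD1_c13 LD2_c48 LD3_c25)) :=
  Lre_c IH (LK LD1_c23 LD2_c16 LD3_c29) (LK LD1_c13 LD2_c48 LD3_c25) Lrfl Lrfl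
theorem f525447 : Led Lsl_ct (LP (LK LD1_c23 LD2_c9 LD3_c34)) = (LP (LK LD1_c30 LD2_c55 LD3_c17)) :=
  Lre_c IH (LK LD1_c23 LD2_c9 LD3_c34) (LK LD1_c30 LD2_c55 LD3_c17) Lrfl Lrfl
theorem f525448 : Led Lsl_et (LP (LK LD1_c13 LD2_c48 LD3_c25)) = (LP (LK LD1_c23 LD2_c9 LD3_c34)) :=
  Lgr Lrot158 (Lpe (f525446 IH) (Lpr_ef (K35.f525443 IH) (Lpe (f525447 IH) (Lpn (LP (LK LD1_c23 LD2_c9 LD3_c34))))))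
theorem f526181 : Led Lsl_at (LP (LK LD1_c23 LD2_c14 LD3_c10)) = (LP (LK LD1_c13 LD2_c48 LD3_c25)) :=
  Lgr Lrot80 (Lpe (f523836 IH) (Lpr_af (f526173 IH) (Lpe (f525448 IH) (Lpn (LP (LK LD1_c13 LD2_c48 LD3_c25))))))
theorem f471410 : Led Lsl_ft (LP (LK LD1_c13 LD2_c46 LD3_c50)) = (LP (LK LD1_c23 LD2_c14 LD3_c10)) :=
  Lre_f IH (LK LD1_c13 LD2_c46 LD3_c50) (LK LD1_c23 LD2_c14 LD3_c10) Lrfl Lrfl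
theorem f526188 : Led Lsl_af (LP (LK LD1_c13 LD2_c46 LD3_c50)) = (LP (LK LD1_c7 LD2_c17 LD3_c49)) :=
  Lgr Lrot45 (Lpr_ft (f471410 IH) (Lpr_at (f526181 IH) (Lpr_ft (K35.f525459 IH) (Lpn (LP (LK LD1_c7 LD2_c17 LD3_c49))))))
theorem f526201 : Led Lsl_gf (LP (LK LD1_c23 LD2_c14 LD3_c9)) = (LP (LK LD1_c13 LD2_c48 LD3_c25)) :=
  Lgr Lrot47 (Lpr_gt (K43.f471418 IH) (Lpr_af (f526188 IH) (Lpe (K35.f525459 IH) (Lpn (LP (LK LD1_c13 LD2_c48 LD3_c25))))))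
theorem f471415 : Led Lsl_gt (LP (LK LD1_c13 LD2_c46 LD3_c50)) = (LP (LK LD1_c23 LD2_c14 LD3_c8)) :=
  Lre_g IH (LK LD1_c13 LD2_c46 LD3_c50) (LK LD1_c23 LD2_c14 LD3_c8) Lrfl Lrfl
theorem f526190 : Led Lsl_gt (LP (LK LD1_c23 LD2_c14 LD3_c8)) = (LP (LK LD1_c13 LD2_c48 LD3_c25)) :=
  Lgr Lrot46 (Lpe (f471415 IH) (Lpr_ft (f471410 IH) (Lpr_at (f526181 IH) (Lpn (LP (LK LD1_c13 LD2_c48 LD3_c25))))))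
theorem f588081 : Led Lsl_ft (LP (LK LD1_c23 LD2_c14 LD3_c8)) = (LP (LK LD1_c13 LD2_c48 LD3_c23)) :=
  Lgr Lrot2 (Lpr_gt (f526190 IH) (Lpe (f526201 IH) (Lpr_af (f588073 IH) (Lpn (LP (LK LD1_c13 LD2_c48 LD3_c23))))))
theorem f588083 : Led Lsl_ff (LP (LK LD1_c23 LD2_c14 LD3_c8)) = (LP (LK LD1_c13 LD2_c48 LD3_c23)) :=
  Lgr Lrot3 (Lpr_ft (f588081 IH) (Lpn (LP (LK LD1_c13 LD2_c48 LD3_c23))))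
theorem f471020 : Led Lsl_gt (LP (LK LD1_c7 LD2_c17 LD3_c49)) = (LP (LK LD1_c13 LD2_c48 LD3_c22)) :=
  Lre_g IH (LK LD1_c7 LD2_c17 LD3_c49) (LK LD1_c13 LD2_c48 LD3_c22) Lrfl Lrfl
theorem f588085 : Led Lsl_at (LP (LK LD1_c23 LD2_c14 LD3_c8)) = (LP (LK LD1_c13 LD2_c48 LD3_c22)) :=
  Lgr Lrot26 (Lpr_ff (f588083 IH) (Lpr_gt (f471044 IH) (Lpr_gt (f471020 IH) (Lpn (LP (LK LD1_c13 LD2_c48 LD3_c22))))))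
theorem f588075 : Led Lsl_at (LP (LK LD1_c23 LD2_c14 LD3_c9)) = (LP (LK LD1_c13 LD2_c48 LD3_c23)) :=
  Lgr Lrot100 (Lpr_af (f588073 IH) (Lpn (LP (LK LD1_c13 LD2_c48 LD3_c23))))
theorem f588090 : Led Lsl_ff (LP (LK LD1_c23 LD2_c14 LD3_c9)) = (LP (LK LD1_c13 LD2_c48 LD3_c22)) :=
  Lgr Lrot30 (Lpr_at (f588075 IH) (Lpe (f588083 IH) (Lpr_at (f588085 IH) (Lpn (LP (LK LD1_c13 LD2_c48 LD3_c22))))))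
theorem f588098 : Led Lsl_ft (LP (LK LD1_c23 LD2_c14 LD3_c9)) = (LP (LK LD1_c13 LD2_c48 LD3_c22)) :=
  Lgr Lrot48 (Lpr_ff (f588090 IH) (Lpn (LP (LK LD1_c13 LD2_c48 LD3_c22))))
theorem f471424 : Led Lsl_ct (LP (LK LD1_c30 LD2_c57 LD3_c17)) = (LP (LK LD1_c23 LD2_c14 LD3_c9)) :=
  Lre_c IH (LK LD1_c30 LD2_c57 LD3_c17) (LK LD1_c23 LD2_c14 LD3_c9) Lrfl Lrfl
theorem f526365 : Led Lsl_ct (LP (LK LD1_c13 LD2_c48 LD3_c22)) = (LP (LK LD1_c23 LD2_c16 LD3_c30)) :=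
  Lre_c IH (LK LD1_c13 LD2_c48 LD3_c22) (LK LD1_c23 LD2_c16 LD3_c30) Lrfl Lrfl
theorem f588100 : Led Lsl_ff (LP (LK LD1_c30 LD2_c57 LD3_c17)) = (LP (LK LD1_c23 LD2_c16 LD3_c30)) :=
  Lgr Lrot23 (Lpr_ct (f471424 IH) (Lpr_ft (f588098 IH) (Lpr_ct (f526365 IH) (Lpn (LP (LK LD1_c23 LD2_c16 LD3_c30))))))
theorem f471425 : Led Lsl_ct (LP (LK LD1_c23 LD2_c14 LD3_c9)) = (LP (LK LD1_c30 LD2_c57 LD3_c17)) :=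
  Lre_c IH (LK LD1_c23 LD2_c14 LD3_c9) (LK LD1_c30 LD2_c57 LD3_c17) Lrfl Lrfl
theorem f573770 : Led Lsl_et (LP (LK LD1_c30 LD2_c57 LD3_c17)) = (LP (LK LD1_c23 LD2_c15 LD3_c0)) :=
  Lgr Lrot158 (Lpe (f471425 IH) (Lpr_ef (K43.f573768 IH) (Lpe (K43.f573753 IH) (Lpn (LP (LK LD1_c23 LD2_c15 LD3_c0))))))
theorem f573891 : Led Lsl_at (LP (LK LD1_c25 LD2_c2 LD3_c50)) = (LP (LK LD1_c23 LD2_c14 LD3_c60)) :=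
  Lgr Lrot100 (Lpr_af (K43.f573889 IH) (Lpn (LP (LK LD1_c23 LD2_c14 LD3_c60))))
theorem f573927 : Led Lsl_ft (LP (LK LD1_c23 LD2_c15 LD3_c0)) = (LP (LK LD1_c25 LD2_c2 LD3_c50)) :=
  Lgr Lrot142 (Lpr_dt (K43.f573915 IH) (Lpr_ct (K24.f5439 IH) (Lpr_dt (K43.f573861 IH) (Lpe (K43.f573843 IH) (Lpr_dt (K43.f112593 IH) (Lpr_ct (K43.f569583 IH) (Lpe (K42.f569904 IH) (Lpr_ct (f5665 IH) (Lpe (f573891 IH) (Lpn (LP (LK LD1_c25 LD2_c2 LD3_c50))))))))))))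
theorem f588104 : Led Lsl_et (LP (LK LD1_c30 LD2_c58 LD3_c56)) = (LP (LK LD1_c23 LD2_c16 LD3_c30)) :=
  Lre_e IH (LK LD1_c30 LD2_c58 LD3_c56) (LK LD1_c23 LD2_c16 LD3_c30) Lrfl Lrfl
theorem f588105 : Led Lsl_ft (LP (LK LD1_c31 LD2_c45 LD3_c4)) = (LP (LK LD1_c30 LD2_c58 LD3_c56)) :=
  Lgr Lrot86 (Lpe (K43.f569549 IH) (Lpe (f573927 IH) (Lpe (f573770 IH) (Lpr_ff (f588100 IH) (Lpe (f588104 IH) (Lpn (LP (LK LD1_c30 LD2_c58 LD3_c56))))))))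
theorem f567395 : Led Lsl_ct (LP (LK LD1_c30 LD2_c58 LD3_c56)) = (LP (LK LD1_c23 LD2_c16 LD3_c32)) :=
  Lre_c IH (LK LD1_c30 LD2_c58 LD3_c56) (LK LD1_c23 LD2_c16 LD3_c32) Lrfl Lrfl
theorem f588107 : Led Lsl_ff (LP (LK LD1_c28 LD2_c12 LD3_c14)) = (LP (LK LD1_c23 LD2_c16 LD3_c32)) :=
  Lgr Lrot23 (Lpr_ct (K43.f569572 IH) (Lpr_ft (f588105 IH) (Lpr_ct (f567395 IH) (Lpn (LP (LK LD1_c23 LD2_c16 LD3_c32))))))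
theorem f588089 : Led Lsl_et (LP (LK LD1_c13 LD2_c48 LD3_c22)) = (LP (LK LD1_c23 LD2_c16 LD3_c32)) :=
  Lre_e IH (LK LD1_c13 LD2_c48 LD3_c22) (LK LD1_c23 LD2_c16 LD3_c32) Lrfl Lrfl
theorem f588112 : Led Lsl_ft (LP (LK LD1_c18 LD2_c40 LD3_c42)) = (LP (LK LD1_c13 LD2_c47 LD3_c34)) :=
  Lgr Lrot86 (Lpe (K43.f569528 IH) (Lpr_ff (f588107 IH) (Lpe (f588089 IH) (Lpe (f588098 IH) (Lpr_ef (K43.f573768 IH) (Lpn (LP (LK LD1_c13 LD2_c47 LD3_c34))))))))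
theorem f573887 : Led Lsl_df (LP (LK LD1_c25 LD2_c2 LD3_c49)) = (LP (LK LD1_c23 LD2_c15 LD3_c30)) :=
  Lgr Lrot78 (Lpr_ft (K43.f573885 IH) (Lpr_dt (f569907 IH) (Lpe (K43.f573870 IH) (Lpn (LP (LK LD1_c23 LD2_c15 LD3_c30))))))
theorem f569768 : Led Lsl_df (LP (LK LD1_c8 LD2_c1 LD3_c42)) = (LP (LK LD1_c13 LD2_c30 LD3_c39)) :=
  Lgr Lrot153 (Lpr_gt (f69738 IH) (Lpe (K18.f201521 IH) (Lpe (K31.f181879 IH) (Lpe (K41.f181880 IH) (Lpr_gf (K41.f393906 IH) (Lpe (f331859 IH) (Lpr_gf (K42.f569764 IH) (Lpe (K41.f98105 IH) (Lpr_gt (f441958 IH) (Lpn (LP (LK LD1_c13 LD2_c30 LD3_c39))))))))))))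
theorem f471052 : Led Lsl_df (LP (LK LD1_c22 LD2_c51 LD3_c30)) = (LP (LK LD1_c13 LD2_c48 LD3_c23)) :=
  Lgr Lrot38 (Lpr_dt (f471045 IH) (Lpn (LP (LK LD1_c13 LD2_c48 LD3_c23))))
theorem f588008 : Led Lsl_et (LP (LK LD1_c18 LD2_c40 LD3_c43)) = (LP (LK LD1_c13 LD2_c48 LD3_c23)) :=
  Lgr Lrot71 (Lpe (f411052 IH) (Lpr_ef (f588002 IH) (Lpr_df (f569768 IH) (Lpe (f471043 IH) (Lpr_df (f471052 IH) (Lpn (LP (LK LD1_c13 LD2_c48 LD3_c23))))))))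
theorem f588079 : Led Lsl_at (LP (LK LD1_c13 LD2_c47 LD3_c34)) = (LP (LK LD1_c18 LD2_c40 LD3_c43)) :=
  Lgr Lrot80 (Lpe (K43.f573774 IH) (Lpr_af (f588073 IH) (Lpe (f588008 IH) (Lpn (LP (LK LD1_c18 LD2_c40 LD3_c43))))))
theorem f588114 : Led Lsl_ct (LP (LK LD1_c25 LD2_c2 LD3_c49)) = (LP (LK LD1_c18 LD2_c40 LD3_c43)) :=
  Lgr Lrot98 (Lpr_df (f573887 IH) (Lpr_cf (K43.f5444 IH) (Lpe (K43.f569585 IH) (Lpe (K42.f420396 IH) (Lpe (K42.f80746 IH) (Lpr_cf (K42.f569577 IH) (Lpe (K42.f417971 IH) (Lpr_ft (f588112 IH) (Lpr_at (f588079 IH) (Lpn (LP (LK LD1_c18 LD2_c40 LD3_c43))))))))))))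
theorem f411051 : Led Lsl_dt (LP (LK LD1_c18 LD2_c40 LD3_c43)) = (LP (LK LD1_c10 LD2_c16 LD3_c11)) :=
  Lre_d IH (LK LD1_c18 LD2_c40 LD3_c43) (LK LD1_c10 LD2_c16 LD3_c11) Lrfl Lrfl
theorem f570027 : Led Lsl_ct (LP (LK LD1_c12 LD2_c6 LD3_c12)) = (LP (LK LD1_c8 LD2_c1 LD3_c42)) :=
  Lgr Lrot8 (Lpr_gt (f569605 IH) (Lpr_dt (K42.f556815 IH) (Lpr_gt (K42.f570025 IH) (Lpr_dt (K42.f160336 IH) (Lpr_cf (K42.f569673 IH) (Lpe (K41.f403282 IH) (Lpe (K31.f403278 IH) (Lpr_df (K18.f201521 IH) (Lpe (f69738 IH) (Lpn (LP (LK LD1_c8 LD2_c1 LD3_c42))))))))))))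
theorem f588006 : Led Lsl_ct (LP (LK LD1_c10 LD2_c16 LD3_c11)) = (LP (LK LD1_c8 LD2_c3 LD3_c25)) :=
  Lgr Lrot15 (Lpr_ef (f588002 IH) (Lpe (f570027 IH) (Lpr_ef (f587650 IH) (Lpn (LP (LK LD1_c8 LD2_c3 LD3_c25))))))
theorem f587875 : Led Lsl_af (LP (LK LD1_c23 LD2_c19 LD3_c52)) = (LP (LK LD1_c16 LD2_c12 LD3_c2)) :=
  Lgr Lrot117 (Lpr_dt (K43.f574142 IH) (Lpr_at (f587871 IH) (Lpr_dt (f573182 IH) (Lpn (LP (LK LD1_c16 LD2_c12 LD3_c2))))))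
theorem f588120 : Led Lsl_ft (LP (LK LD1_c21 LD2_c12 LD3_c19)) = (LP (LK LD1_c16 LD2_c12 LD3_c2)) :=
  Lgr Lrot142 (Lpr_dt (K43.f569585 IH) (Lpe (K43.f5444 IH) (Lpe (f573887 IH) (Lpr_ct (f588114 IH) (Lpr_dt (f411051 IH) (Lpr_ct (f588006 IH) (Lpe (f587636 IH) (Lpr_ct (K43.f5676 IH) (Lpr_af (f587875 IH) (Lpn (LP (LK LD1_c16 LD2_c12 LD3_c2))))))))))))
theorem f588132 : Led Lsl_ff (LP (LK LD1_c21 LD2_c12 LD3_c19)) = (LP (LK LD1_c16 LD2_c12 LD3_c2)) :=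
  Lgr Lrot3 (Lpr_ft (f588120 IH) (Lpn (LP (LK LD1_c16 LD2_c12 LD3_c2))))
theorem f588136 : Led Lsl_ft (LP (LK LD1_c12 LD2_c6 LD3_c15)) = (LP (LK LD1_c15 LD2_c12 LD3_c50)) :=
  Lgr Lrot4 (Lpe (K42.f420404 IH) (Lpr_ff (f588132 IH) (Lpr_cf (K43.f574158 IH) (Lpn (LP (LK LD1_c15 LD2_c12 LD3_c50))))))
theorem f569574 : Led Lsl_ff (LP (LK LD1_c15 LD2_c7 LD3_c49)) = (LP (LK LD1_c13 LD2_c50 LD3_c46)) :=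
  Lgr Lrot52 (Lpe (K43.f502386 IH) (Lpr_gf (K42.f569543 IH) (Lpe (K43.f5674 IH) (Lpn (LP (LK LD1_c13 LD2_c50 LD3_c46))))))
theorem f588140 : Led Lsl_af (LP (LK LD1_c13 LD2_c50 LD3_c46)) = (LP (LK LD1_c15 LD2_c12 LD3_c50)) :=
  Lgr Lrot45 (Lpe (f569574 IH) (Lpe (K43.f502386 IH) (Lpr_ft (f588136 IH) (Lpn (LP (LK LD1_c15 LD2_c12 LD3_c50))))))
theorem f587640 : Led Lsl_dt (LP (LK LD1_c13 LD2_c50 LD3_c46)) = (LP (LK LD1_c8 LD2_c3 LD3_c25)) :=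
  Lgr Lrot42 (Lpr_df (f587636 IH) (Lpn (LP (LK LD1_c8 LD2_c3 LD3_c25))))
theorem f588142 : Led Lsl_at (LP (LK LD1_c8 LD2_c3 LD3_c25)) = (LP (LK LD1_c8 LD2_c4 LD3_c52)) :=
  Lgr Lrot51 (Lpe (f587640 IH) (Lpr_af (f588140 IH) (Lpe (K43.f573744 IH) (Lpn (LP (LK LD1_c8 LD2_c4 LD3_c52))))))
theorem f588146 : Led Lsl_af (LP (LK LD1_c10 LD2_c16 LD3_c11)) = (LP (LK LD1_c10 LD2_c1 LD3_c22)) :=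
  Lgr Lrot68 (Lpr_ct (f588006 IH) (Lpr_at (f588142 IH) (Lpr_ct (K43.f573746 IH) (Lpn (LP (LK LD1_c10 LD2_c1 LD3_c22))))))
theorem f588148 : Led Lsl_at (LP (LK LD1_c10 LD2_c16 LD3_c11)) = (LP (LK LD1_c10 LD2_c1 LD3_c22)) :=
  Lgr Lrot100 (Lpr_af (f588146 IH) (Lpn (LP (LK LD1_c10 LD2_c1 LD3_c22))))
theorem f587638 : Led Lsl_bt (LP (LK LD1_c10 LD2_c1 LD3_c22)) = (LP (LK LD1_c8 LD2_c3 LD3_c25)) :=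
  Lgr Lrot95 (Lpr_df (K43.f573764 IH) (Lpr_bf (K43.f574209 IH) (Lpr_df (f587636 IH) (Lpn (LP (LK LD1_c8 LD2_c3 LD3_c25))))))
theorem f588179 : Led Lsl_bf (LP (LK LD1_c10 LD2_c16 LD3_c11)) = (LP (LK LD1_c15 LD2_c13 LD3_c15)) :=
  Lgr Lrot81 (Lpr_at (f588148 IH) (Lpr_bt (f587638 IH) (Lpr_at (f588142 IH) (Lpr_bt (K43.f573756 IH) (Lpr_at (K43.f574580 IH) (Lpn (LP (LK LD1_c15 LD2_c13 LD3_c15))))))))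
theorem f550007 : Led Lsl_ff (LP (LK LD1_c8 LD2_c44 LD3_c9)) = (LP (LK LD1_c10 LD2_c39 LD3_c13)) :=
  Lgr Lrot23 (Lpr_ct (K38.f550001 IH) (Lpr_ft (K42.f331763 IH) (Lpr_ct (f218489 IH) (Lpn (LP (LK LD1_c10 LD2_c39 LD3_c13))))))
theorem f550017 : Led Lsl_ff (LP (LK LD1_c8 LD2_c1 LD3_c41)) = (LP (LK LD1_c8 LD2_c0 LD3_c61)) :=
  Lgr Lrot19 (Lpe (K41.f277529 IH) (Lpe (f550007 IH) (Lpr_dt (K38.f550013 IH) (Lpn (LP (LK LD1_c8 LD2_c0 LD3_c61))))))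
theorem f573786 : Led Lsl_ff (LP (LK LD1_c10 LD2_c1 LD3_c22)) = (LP (LK LD1_c10 LD2_c16 LD3_c10)) :=
  Lgr Lrot72 (Lpr_et (K43.f573784 IH) (Lpe (f550017 IH) (Lpe (K42.f565681 IH) (Lpr_ft (K43.f502357 IH) (Lpe (K42.f569539 IH) (Lpn (LP (LK LD1_c10 LD2_c16 LD3_c10))))))))
theorem f588154 : Led Lsl_ft (LP (LK LD1_c10 LD2_c16 LD3_c11)) = (LP (LK LD1_c10 LD2_c1 LD3_c23)) :=
  Lgr Lrot101 (Lpr_af (f588146 IH) (Lpr_ff (f573786 IH) (Lpr_af (K43.f569531 IH) (Lpn (LP (LK LD1_c10 LD2_c1 LD3_c23))))))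
theorem f588187 : Led Lsl_ft (LP (LK LD1_c15 LD2_c50 LD3_c5)) = (LP (LK LD1_c15 LD2_c13 LD3_c15)) :=
  Lgr Lrot75 (Lpr_bf (K43.f574536 IH) (Lpe (f588154 IH) (Lpr_bf (f588179 IH) (Lpn (LP (LK LD1_c15 LD2_c13 LD3_c15))))))
theorem f588191 : Led Lsl_ff (LP (LK LD1_c23 LD2_c14 LD3_c59)) = (LP (LK LD1_c16 LD2_c29 LD3_c23)) :=
  Lgr Lrot19 (Lpe (f574566 IH) (Lpr_ft (f588187 IH) (Lpr_dt (f587310 IH) (Lpn (LP (LK LD1_c16 LD2_c29 LD3_c23))))))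
theorem f588193 : Led Lsl_ft (LP (LK LD1_c23 LD2_c14 LD3_c59)) = (LP (LK LD1_c16 LD2_c29 LD3_c23)) :=
  Lgr Lrot48 (Lpr_ff (f588191 IH) (Lpn (LP (LK LD1_c16 LD2_c29 LD3_c23))))
theorem f569906 : Led Lsl_bt (LP (LK LD1_c13 LD2_c47 LD3_c33)) = (LP (LK LD1_c23 LD2_c14 LD3_c59)) :=
  Lre_b IH (LK LD1_c13 LD2_c47 LD3_c33) (LK LD1_c23 LD2_c14 LD3_c59) Lrfl Lrfl
theorem f587994 : Led Lsl_ft (LP (LK LD1_c18 LD2_c40 LD3_c43)) = (LP (LK LD1_c13 LD2_c47 LD3_c33)) :=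
  Lgr Lrot2 (Lpr_gt (f587990 IH) (Lpe (K42.f569541 IH) (Lpr_af (K43.f573907 IH) (Lpn (LP (LK LD1_c13 LD2_c47 LD3_c33))))))
theorem f588195 : Led Lsl_bf (LP (LK LD1_c18 LD2_c40 LD3_c43)) = (LP (LK LD1_c16 LD2_c29 LD3_c23)) :=
  Lgr Lrot61 (Lpr_ft (f587994 IH) (Lpr_bt (f569906 IH) (Lpr_ft (f588193 IH) (Lpn (LP (LK LD1_c16 LD2_c29 LD3_c23))))))
theorem f471048 : Led Lsl_bt (LP (LK LD1_c13 LD2_c48 LD3_c23)) = (LP (LK LD1_c23 LD2_c16 LD3_c33)) :=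
  Lre_b IH (LK LD1_c13 LD2_c48 LD3_c23) (LK LD1_c23 LD2_c16 LD3_c33) Lrfl Lrfl
theorem f588249 : Led Lsl_et (LP (LK LD1_c23 LD2_c16 LD3_c33)) = (LP (LK LD1_c16 LD2_c29 LD3_c23)) :=
  Lgr Lrot74 (Lpe (f471048 IH) (Lpe (f588008 IH) (Lpr_bf (f588195 IH) (Lpn (LP (LK LD1_c16 LD2_c29 LD3_c23))))))
theorem f588253 : Led Lsl_ef (LP (LK LD1_c23 LD2_c16 LD3_c33)) = (LP (LK LD1_c16 LD2_c29 LD3_c23)) :=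
  Lgr Lrot88 (Lpr_et (f588249 IH) (Lpn (LP (LK LD1_c16 LD2_c29 LD3_c23))))
theorem f471047 : Led Lsl_bt (LP (LK LD1_c30 LD2_c45 LD3_c41)) = (LP (LK LD1_c22 LD2_c51 LD3_c30)) :=
  Lre_b IH (LK LD1_c30 LD2_c45 LD3_c41) (LK LD1_c22 LD2_c51 LD3_c30) Lrfl Lrfl
theorem f471049 : Led Lsl_df (LP (LK LD1_c30 LD2_c45 LD3_c41)) = (LP (LK LD1_c23 LD2_c16 LD3_c33)) :=
  Lgr Lrot12 (Lpr_bt (f471047 IH) (Lpr_dt (f471045 IH) (Lpr_bt (f471048 IH) (Lpn (LP (LK LD1_c23 LD2_c16 LD3_c33))))))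
theorem f471063 : Led Lsl_et (LP (LK LD1_c30 LD2_c45 LD3_c41)) = (LP (LK LD1_c22 LD2_c51 LD3_c29)) :=
  Lre_e IH (LK LD1_c30 LD2_c45 LD3_c41) (LK LD1_c22 LD2_c51 LD3_c29) Lrfl Lrfl
theorem f588185 : Led Lsl_et (LP (LK LD1_c15 LD2_c7 LD3_c4)) = (LP (LK LD1_c15 LD2_c13 LD3_c15)) :=
  Lgr Lrot74 (Lpe (f587262 IH) (Lpe (f587998 IH) (Lpr_bf (f588179 IH) (Lpn (LP (LK LD1_c15 LD2_c13 LD3_c15))))))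
theorem f588255 : Led Lsl_dt (LP (LK LD1_c22 LD2_c51 LD3_c29)) = (LP (LK LD1_c15 LD2_c7 LD3_c4)) :=
  Lgr Lrot77 (Lpe (f471063 IH) (Lpr_df (f471049 IH) (Lpr_ef (f588253 IH) (Lpe (f587310 IH) (Lpe (f588185 IH) (Lpn (LP (LK LD1_c15 LD2_c7 LD3_c4))))))))
theorem f588271 : Led Lsl_gt (LP (LK LD1_c22 LD2_c51 LD3_c29)) = (LP (LK LD1_c15 LD2_c7 LD3_c7)) :=
  Lgr Lrot146 (Lpr_dt (f588255 IH) (Lpr_gt (f587302 IH) (Lpr_ct (f158614 IH) (Lpr_gt (K39.f552339 IH) (Lpe (K9.f70031 IH) (Lpr_dt (K39.f70028 IH) (Lpe (K39.f70037 IH) (Lpr_gf (K39.f554464 IH) (Lpe (K39.f554449 IH) (Lpn (LP (LK LD1_c15 LD2_c7 LD3_c7))))))))))))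
theorem f587687 : Led Lsl_bt (LP (LK LD1_c13 LD2_c30 LD3_c39)) = (LP (LK LD1_c22 LD2_c51 LD3_c29)) :=
  Lre_b IH (LK LD1_c13 LD2_c30 LD3_c39) (LK LD1_c22 LD2_c51 LD3_c29) Lrfl Lrfl
theorem f587739 : Led Lsl_bt (LP (LK LD1_c7 LD2_c7 LD3_c10)) = (LP (LK LD1_c8 LD2_c1 LD3_c3)) :=
  Lgr Lrot127 (Lpr_bf (f587734 IH) (Lpn (LP (LK LD1_c8 LD2_c1 LD3_c3))))
theorem f588288 : Led Lsl_cf (LP (LK LD1_c10 LD2_c39 LD3_c11)) = (LP (LK LD1_c7 LD2_c7 LD3_c10)) :=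
  Lgr Lrot160 (Lpe (K41.f331773 IH) (Lpr_cf (f588014 IH) (Lpr_bt (f587687 IH) (Lpr_gt (f588271 IH) (Lpr_ct (K39.f554449 IH) (Lpe (K39.f554464 IH) (Lpe (K39.f70029 IH) (Lpr_bt (K39.f70001 IH) (Lpe (K39.f538854 IH) (Lpe (f587739 IH) (Lpn (LP (LK LD1_c7 LD2_c7 LD3_c10)))))))))))))
theorem f588298 : Led Lsl_gf (LP (LK LD1_c6 LD2_c14 LD3_c2)) = (LP (LK LD1_c8 LD2_c1 LD3_c3)) :=
  Lgr Lrot124 (Lpr_bf (K39.f551695 IH) (Lpr_ct (K13.f239093 IH) (Lpe (K13.f238985 IH) (Lpe (K13.f229285 IH) (Lpr_bt (K38.f229858 IH) (Lpr_gt (K41.f565671 IH) (Lpr_ct (K41.f218516 IH) (Lpr_gt (K14.f218497 IH) (Lpr_cf (f588288 IH) (Lpr_bt (f587739 IH) (Lpn (LP (LK LD1_c8 LD2_c1 LD3_c3)))))))))))))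
theorem f69706 : Led Lsl_et (LP (LK LD1_c3 LD2_c3 LD3_c52)) = (LP (LK LD1_c1 LD2_c57 LD3_c46)) :=
  Lgr Lrot158 (Lpe (K2.f37243 IH) (Lpr_ef (K2.f69702 IH) (Lpe (K0.f33724 IH) (Lpn (LP (LK LD1_c1 LD2_c57 LD3_c46))))))
theorem f3020 : Led Lsl_dt (LP (LK LD1_c3 LD2_c59 LD3_c61)) = (LP (LK LD1_c8 LD2_c1 LD3_c3)) :=
  Lre_d IH (LK LD1_c3 LD2_c59 LD3_c61) (LK LD1_c8 LD2_c1 LD3_c3) Lrfl Lrfl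
theorem f588306 : Led Lsl_ef (LP (LK LD1_c3 LD2_c33 LD3_c5)) = (LP (LK LD1_c3 LD2_c59 LD3_c61)) :=
  Lgr Lrot17 (Lpr_gf (K40.f558977 IH) (Lpe (K13.f242495 IH) (Lpr_dt (K13.f190440 IH) (Lpe (K13.f242522 IH) (Lpe (K13.f33722 IH) (Lpr_gf (K10.f33720 IH) (Lpe (f69706 IH) (Lpr_dt (K2.f37244 IH) (Lpr_gf (f588298 IH) (Lpe (f3020 IH) (Lpn (LP (LK LD1_c3 LD2_c59 LD3_c61)))))))))))))
def v2426 : LQ := Led Lsl_dt (LP (LK LD1_c1 LD2_c45 LD3_c9))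
theorem f519639 : Led Lsl_dt (LP (LK LD1_c1 LD2_c45 LD3_c9)) = v2426 :=
  Lrfl
theorem f519642 : Led Lsl_ff (LP (LK LD1_c3 LD2_c33 LD3_c5)) = v2426 :=
  Lgr Lrot19 (Lpr_dt (K40.f11766 IH) (Lpe (K8.f128199 IH) (Lpr_dt (f519639 IH) (Lpn v2426))))
theorem f519644 : Led Lsl_ft (LP (LK LD1_c3 LD2_c33 LD3_c5)) = v2426 :=
  Lgr Lrot48 (Lpr_ff (f519642 IH) (Lpn v2426))
theorem f542939 : v2426 = (LP (LK LD1_c2 LD2_c8 LD3_c60)) :=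
  (Llr Lrot23 (Lpe (f519642 IH) (Lpr_ct (K37.f542925 IH) (Lpr_ft (K13.f237337 IH) (Lpr_ct (K32.f237341 IH) (Lpn (LP (LK LD1_c2 LD2_c8 LD3_c60)))))))).symm
theorem f229325 : Led Lsl_et (LP (LK LD1_c2 LD2_c8 LD3_c60)) = (LP (LK LD1_c1 LD2_c1 LD3_c40)) :=
  Lre_e IH (LK LD1_c2 LD2_c8 LD3_c60) (LK LD1_c1 LD2_c1 LD3_c40) Lrfl Lrfl
theorem f239418 : Led Lsl_ft (LP (LK LD1_c1 LD2_c1 LD3_c40)) = (LP (LK LD1_c1 LD2_c55 LD3_c27)) :=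
  Lgr Lrot4 (Lpe (K13.f229314 IH) (Lpr_ff (K13.f239414 IH) (Lpe (K12.f39273 IH) (Lpn (LP (LK LD1_c1 LD2_c55 LD3_c27))))))
theorem f588312 : Led Lsl_ft (LP (LK LD1_c3 LD2_c57 LD3_c22)) = (LP (LK LD1_c3 LD2_c59 LD3_c61)) :=
  Lgr Lrot86 (Lpe (K13.f225155 IH) (Lpe (f239418 IH) (Lpe (f229325 IH) (Lpq (f542939 IH) (Lpe (f519644 IH) (Lpr_ef (f588306 IH) (Lpn (LP (LK LD1_c3 LD2_c59 LD3_c61)))))))))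
theorem f547148 : Led Lsl_gf (LP (LK LD1_c4 LD2_c0 LD3_c2)) = (LP (LK LD1_c3 LD2_c57 LD3_c22)) :=
  Lgr Lrot144 (Lpr_dt (K38.f30812 IH) (Lpr_gt (K38.f547146 IH) (Lpr_dt (K16.f60704 IH) (Lpe (K10.f60701 IH) (Lpe (K9.f80918 IH) (Lpe (K10.f80922 IH) (Lpr_df (K12.f198246 IH) (Lpe (K37.f212023 IH) (Lpe (K42.f175004 IH) (Lpn (LP (LK LD1_c3 LD2_c57 LD3_c22))))))))))))
theorem f241585 : Led Lsl_af (LP (LK LD1_c3 LD2_c57 LD3_c22)) = (LP (LK LD1_c2 LD2_c8 LD3_c54)) :=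
  Lgr Lrot0 (Lpr_at (K13.f241583 IH) (Lpn (LP (LK LD1_c2 LD2_c8 LD3_c54))))
theorem f241566 : Led Lsl_ft (LP (LK LD1_c4 LD2_c22 LD3_c61)) = (LP (LK LD1_c2 LD2_c8 LD3_c54)) :=
  Lre_f IH (LK LD1_c4 LD2_c22 LD3_c61) (LK LD1_c2 LD2_c8 LD3_c54) Lrfl Lrfl
theorem f588314 : Led Lsl_af (LP (LK LD1_c4 LD2_c22 LD3_c61)) = (LP (LK LD1_c3 LD2_c59 LD3_c61)) :=
  Lgr Lrot45 (Lpr_ft (f241566 IH) (Lpe (f241585 IH) (Lpr_ft (f588312 IH) (Lpn (LP (LK LD1_c3 LD2_c59 LD3_c61))))))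
theorem f588322 : Led Lsl_gt (LP (LK LD1_c4 LD2_c0 LD3_c2)) = (LP (LK LD1_c4 LD2_c22 LD3_c61)) :=
  Lgr Lrot46 (Lpr_gf (f547148 IH) (Lpr_ft (f588312 IH) (Lpe (f588314 IH) (Lpn (LP (LK LD1_c4 LD2_c22 LD3_c61))))))
theorem f588324 : Led Lsl_bt (LP (LK LD1_c2 LD2_c13 LD3_c29)) = (LP (LK LD1_c4 LD2_c22 LD3_c61)) :=
  Lgr Lrot92 (Lpr_ct (K10.f181561 IH) (Lpr_gt (K10.f80213 IH) (Lpe (K10.f174449 IH) (Lpr_bt (K10.f40107 IH) (Lpr_gt (K10.f39202 IH) (Lpe (K12.f181568 IH) (Lpr_gt (K10.f197799 IH) (Lpe (K1.f6938 IH) (Lpr_bt (K38.f29305 IH) (Lpr_gt (f588322 IH) (Lpn (LP (LK LD1_c4 LD2_c22 LD3_c61)))))))))))))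
theorem f574939 : Led Lsl_ft (LP (LK LD1_c8 LD2_c1 LD3_c45)) = (LP (LK LD1_c4 LD2_c0 LD3_c26)) :=
  Lre_f IH (LK LD1_c8 LD2_c1 LD3_c45) (LK LD1_c4 LD2_c0 LD3_c26) Lrfl Lrfl
theorem f587163 : Led Lsl_cf (LP (LK LD1_c8 LD2_c1 LD3_c45)) = (LP (LK LD1_c4 LD2_c23 LD3_c18)) :=
  Lgr Lrot108 (Lpr_ft (f574939 IH) (Lpr_ct (K42.f29524 IH) (Lpr_ft (f587161 IH) (Lpn (LP (LK LD1_c4 LD2_c23 LD3_c18))))))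
theorem f538846 : Led Lsl_gf (LP (LK LD1_c4 LD2_c0 LD3_c0)) = (LP (LK LD1_c4 LD2_c22 LD3_c61)) :=
  Lgr Lrot144 (Lpr_dt (K35.f30038 IH) (Lpr_gt (K35.f538842 IH) (Lpr_dt (K38.f60456 IH) (Lpe (K13.f60455 IH) (Lpe (K13.f101375 IH) (Lpe (K40.f227735 IH) (Lpr_df (K12.f227689 IH) (Lpr_gf (K13.f241579 IH) (Lpe (K13.f227741 IH) (Lpn (LP (LK LD1_c4 LD2_c22 LD3_c61))))))))))))
theorem f588332 : Led Lsl_gf (LP (LK LD1_c8 LD2_c1 LD3_c45)) = (LP (LK LD1_c4 LD2_c0 LD3_c27)) :=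
  Lgr Lrot126 (Lpr_cf (f587163 IH) (Lpr_bt (f237630 IH) (Lpr_gt (K39.f381797 IH) (Lpr_ct (K39.f382034 IH) (Lpr_gt (K37.f422831 IH) (Lpe (K10.f181561 IH) (Lpr_bt (f588324 IH) (Lpe (f538846 IH) (Lpr_bf (K38.f29570 IH) (Lpr_ct (K7.f29394 IH) (Lpn (LP (LK LD1_c4 LD2_c0 LD3_c27)))))))))))))
theorem f587174 : Led Lsl_dt (LP (LK LD1_c8 LD2_c1 LD3_c45)) = (LP (LK LD1_c15 LD2_c7 LD3_c6)) :=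
  Lre_d IH (LK LD1_c8 LD2_c1 LD3_c45) (LK LD1_c15 LD2_c7 LD3_c6) Lrfl Lrfl
theorem f554401 : Led Lsl_et (LP (LK LD1_c4 LD2_c23 LD3_c45)) = (LP (LK LD1_c3 LD2_c3 LD3_c58)) :=
  Lgr Lrot87 (Lpr_ef (K39.f554395 IH) (Lpn (LP (LK LD1_c3 LD2_c3 LD3_c58))))
theorem f552253 : Led Lsl_et (LP (LK LD1_c4 LD2_c56 LD3_c33)) = (LP (LK LD1_c4 LD2_c23 LD3_c47)) :=
  Lgr Lrot158 (Lpr_cf (K43.f211151 IH) (Lpr_ef (K39.f552249 IH) (Lpr_cf (K36.f70095 IH) (Lpn (LP (LK LD1_c4 LD2_c23 LD3_c47))))))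
theorem f588344 : Led Lsl_gt (LP (LK LD1_c15 LD2_c7 LD3_c6)) = (LP (LK LD1_c8 LD2_c43 LD3_c42)) :=
  Lgr Lrot139 (Lpe (f587174 IH) (Lpr_gf (f588332 IH) (Lpe (K7.f29453 IH) (Lpr_dt (K40.f29463 IH) (Lpr_gf (K42.f548837 IH) (Lpe (K40.f548823 IH) (Lpr_et (f554401 IH) (Lpr_gf (K40.f81404 IH) (Lpe (f552253 IH) (Lpe (K39.f237245 IH) (Lpn (LP (LK LD1_c8 LD2_c43 LD3_c42)))))))))))))
theorem f588337 : Led Lsl_ct (LP (LK LD1_c24 LD2_c55 LD3_c23)) = (LP (LK LD1_c15 LD2_c7 LD3_c6)) :=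
  Lre_c IH (LK LD1_c24 LD2_c55 LD3_c23) (LK LD1_c15 LD2_c7 LD3_c6) Lrfl Lrfl
theorem f269695 : Led Lsl_bt (LP (LK LD1_c25 LD2_c15 LD3_c50)) = (LP (LK LD1_c15 LD2_c23 LD3_c32)) :=
  Lre_b IH (LK LD1_c25 LD2_c15 LD3_c50) (LK LD1_c15 LD2_c23 LD3_c32) Lrfl Lrfl
theorem f269646 : Led Lsl_ct (LP (LK LD1_c25 LD2_c15 LD3_c50)) = (LP (LK LD1_c15 LD2_c23 LD3_c34)) :=
  Lre_c IH (LK LD1_c25 LD2_c15 LD3_c50) (LK LD1_c15 LD2_c23 LD3_c34) Lrfl Lrfl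
theorem f337258 : Led Lsl_ff (LP (LK LD1_c25 LD2_c15 LD3_c50)) = (LP (LK LD1_c20 LD2_c4 LD3_c14)) :=
  Lgr Lrot23 (Lpr_ct (f269646 IH) (Lpr_ft (K22.f337252 IH) (Lpr_ct (K38.f178415 IH) (Lpn (LP (LK LD1_c20 LD2_c4 LD3_c14))))))
theorem f394666 : Led Lsl_bf (LP (LK LD1_c20 LD2_c4 LD3_c14)) = (LP (LK LD1_c16 LD2_c20 LD3_c42)) :=
  Lgr Lrot61 (Lpe (f337258 IH) (Lpr_bt (f269695 IH) (Lpr_ft (K39.f394660 IH) (Lpn (LP (LK LD1_c16 LD2_c20 LD3_c42))))))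
theorem f409955 : Led Lsl_ct (LP (LK LD1_c19 LD2_c15 LD3_c15)) = (LP (LK LD1_c10 LD2_c37 LD3_c50)) :=
  Lre_c IH (LK LD1_c19 LD2_c15 LD3_c15) (LK LD1_c10 LD2_c37 LD3_c50) Lrfl Lrfl
theorem f189133 : Led Lsl_dt (LP (LK LD1_c5 LD2_c35 LD3_c44)) = (LP (LK LD1_c11 LD2_c3 LD3_c42)) :=
  Lre_d IH (LK LD1_c5 LD2_c35 LD3_c44) (LK LD1_c11 LD2_c3 LD3_c42) Lrfl Lrfl
theorem f312857 : Led Lsl_dt (LP (LK LD1_c19 LD2_c15 LD3_c18)) = (LP (LK LD1_c10 LD2_c37 LD3_c52)) :=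
  Lre_d IH (LK LD1_c19 LD2_c15 LD3_c18) (LK LD1_c10 LD2_c37 LD3_c52) Lrfl Lrfl
theorem f409908 : Led Lsl_bt (LP (LK LD1_c11 LD2_c3 LD3_c42)) = (LP (LK LD1_c19 LD2_c15 LD3_c18)) :=
  Lgr Lrot95 (Lpe (f189133 IH) (Lpr_bf (K22.f278011 IH) (Lpe (f312857 IH) (Lpn (LP (LK LD1_c19 LD2_c15 LD3_c18))))))
theorem f409931 : Led Lsl_bf (LP (LK LD1_c11 LD2_c3 LD3_c42)) = (LP (LK LD1_c19 LD2_c15 LD3_c18)) :=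
  Lgr Lrot24 (Lpr_bt (f409908 IH) (Lpn (LP (LK LD1_c19 LD2_c15 LD3_c18))))
theorem f213696 : Led Lsl_at (LP (LK LD1_c5 LD2_c33 LD3_c4)) = (LP (LK LD1_c10 LD2_c57 LD3_c49)) :=
  Lre_a IH (LK LD1_c5 LD2_c33 LD3_c4) (LK LD1_c10 LD2_c57 LD3_c49) Lrfl Lrfl
theorem f388250 : Led Lsl_bt (LP (LK LD1_c11 LD2_c5 LD3_c36)) = (LP (LK LD1_c5 LD2_c36 LD3_c47)) :=
  Lre_b IH (LK LD1_c11 LD2_c5 LD3_c36) (LK LD1_c5 LD2_c36 LD3_c47) Lrfl Lrfl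
theorem f388263 : Led Lsl_gf (LP (LK LD1_c5 LD2_c33 LD3_c0)) = (LP (LK LD1_c5 LD2_c36 LD3_c47)) :=
  Lgr Lrot124 (Lpe (K20.f319906 IH) (Lpr_ct (K22.f319790 IH) (Lpr_gt (K22.f319791 IH) (Lpe (K22.f226033 IH) (Lpr_bt (K22.f226032 IH) (Lpr_gt (K22.f280810 IH) (Lpr_ct (K20.f280639 IH) (Lpe (K31.f281229 IH) (Lpr_cf (K31.f388253 IH) (Lpr_bt (f388250 IH) (Lpn (LP (LK LD1_c5 LD2_c36 LD3_c47)))))))))))))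
theorem f319922 : Led Lsl_dt (LP (LK LD1_c10 LD2_c57 LD3_c49)) = (LP (LK LD1_c5 LD2_c32 LD3_c61)) :=
  Lre_d IH (LK LD1_c10 LD2_c57 LD3_c49) (LK LD1_c5 LD2_c32 LD3_c61) Lrfl Lrfl
theorem f178174 : Led Lsl_dt (LP (LK LD1_c2 LD2_c44 LD3_c14)) = (LP (LK LD1_c5 LD2_c36 LD3_c47)) :=
  Lre_d IH (LK LD1_c2 LD2_c44 LD3_c14) (LK LD1_c5 LD2_c36 LD3_c47) Lrfl Lrfl
theorem f388266 : Led Lsl_gf (LP (LK LD1_c10 LD2_c57 LD3_c49)) = (LP (LK LD1_c11 LD2_c3 LD3_c42)) :=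
  Lgr Lrot143 (Lpr_dt (f319922 IH) (Lpe (K24.f319923 IH) (Lpe (K20.f319910 IH) (Lpr_gf (f388263 IH) (Lpe (f178174 IH) (Lpe (K30.f178047 IH) (Lpe (K30.f178046 IH) (Lpr_gt (K22.f189132 IH) (Lpr_dt (f189133 IH) (Lpn (LP (LK LD1_c11 LD2_c3 LD3_c42))))))))))))
theorem f389448 : Led Lsl_gf (LP (LK LD1_c11 LD2_c3 LD3_c42)) = (LP (LK LD1_c8 LD2_c58 LD3_c46)) :=
  Lgr Lrot47 (Lpe (f388266 IH) (Lpe (f213696 IH) (Lpr_ff (K38.f389443 IH) (Lpn (LP (LK LD1_c8 LD2_c58 LD3_c46))))))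
theorem f399908 : Led Lsl_ct (LP (LK LD1_c19 LD2_c15 LD3_c18)) = (LP (LK LD1_c28 LD2_c41 LD3_c36)) :=
  Lre_c IH (LK LD1_c19 LD2_c15 LD3_c18) (LK LD1_c28 LD2_c41 LD3_c36) Lrfl Lrfl
theorem f409933 : Led Lsl_gf (LP (LK LD1_c27 LD2_c44 LD3_c28)) = (LP (LK LD1_c28 LD2_c41 LD3_c36)) :=
  Lgr Lrot126 (Lpe (K22.f235172 IH) (Lpr_bt (K22.f279625 IH) (Lpr_gt (K20.f316704 IH) (Lpr_ct (K20.f278004 IH) (Lpe (K20.f316708 IH) (Lpe (K19.f235281 IH) (Lpr_bt (K38.f389414 IH) (Lpe (f389448 IH) (Lpr_bf (f409931 IH) (Lpr_ct (f399908 IH) (Lpn (LP (LK LD1_c28 LD2_c41 LD3_c36)))))))))))))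
theorem f409935 : Led Lsl_gt (LP (LK LD1_c28 LD2_c43 LD3_c41)) = (LP (LK LD1_c28 LD2_c41 LD3_c36)) :=
  Lgr Lrot5 (Lpr_ft (K22.f338134 IH) (Lpr_at (K22.f235178 IH) (Lpr_gf (f409933 IH) (Lpn (LP (LK LD1_c28 LD2_c41 LD3_c36))))))
theorem f338140 : Led Lsl_ct (LP (LK LD1_c19 LD2_c18 LD3_c23)) = (LP (LK LD1_c28 LD2_c43 LD3_c41)) :=
  Lre_c IH (LK LD1_c19 LD2_c18 LD3_c23) (LK LD1_c28 LD2_c43 LD3_c41) Lrfl Lrfl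
theorem f312855 : Led Lsl_ct (LP (LK LD1_c28 LD2_c41 LD3_c36)) = (LP (LK LD1_c19 LD2_c15 LD3_c18)) :=
  Lre_c IH (LK LD1_c28 LD2_c41 LD3_c36) (LK LD1_c19 LD2_c15 LD3_c18) Lrfl Lrfl
theorem f312854 : Led Lsl_dt (LP (LK LD1_c10 LD2_c37 LD3_c52)) = (LP (LK LD1_c19 LD2_c15 LD3_c18)) :=
  Lre_d IH (LK LD1_c10 LD2_c37 LD3_c52) (LK LD1_c19 LD2_c15 LD3_c18) Lrfl Lrfl
theorem f312853 : Led Lsl_ct (LP (LK LD1_c5 LD2_c23 LD3_c41)) = (LP (LK LD1_c10 LD2_c37 LD3_c52)) :=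
  Lre_c IH (LK LD1_c5 LD2_c23 LD3_c41) (LK LD1_c10 LD2_c37 LD3_c52) Lrfl Lrfl
theorem f312856 : Led Lsl_dt (LP (LK LD1_c19 LD2_c14 LD3_c32)) = (LP (LK LD1_c10 LD2_c37 LD3_c23)) :=
  Lre_d IH (LK LD1_c19 LD2_c14 LD3_c32) (LK LD1_c10 LD2_c37 LD3_c23) Lrfl Lrfl
theorem f409937 : Led Lsl_gf (LP (LK LD1_c19 LD2_c18 LD3_c23)) = (LP (LK LD1_c19 LD2_c14 LD3_c32)) :=
  Lgr Lrot147 (Lpr_ct (f338140 IH) (Lpr_gt (f409935 IH) (Lpr_ct (f312855 IH) (Lpe (f312854 IH) (Lpe (f312853 IH) (Lpr_gf (K22.f312848 IH) (Lpe (K22.f312784 IH) (Lpe (K22.f312767 IH) (Lpe (f312856 IH) (Lpn (LP (LK LD1_c19 LD2_c14 LD3_c32))))))))))))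
theorem f331655 : Led Lsl_ct (LP (LK LD1_c10 LD2_c39 LD3_c42)) = (LP (LK LD1_c5 LD2_c24 LD3_c38)) :=
  Lre_c IH (LK LD1_c10 LD2_c39 LD3_c42) (LK LD1_c5 LD2_c24 LD3_c38) Lrfl Lrfl
theorem f312114 : Led Lsl_dt (LP (LK LD1_c10 LD2_c37 LD3_c23)) = (LP (LK LD1_c19 LD2_c14 LD3_c32)) :=
  Lre_d IH (LK LD1_c10 LD2_c37 LD3_c23) (LK LD1_c19 LD2_c14 LD3_c32) Lrfl Lrfl
theorem f409950 : Led Lsl_gf (LP (LK LD1_c10 LD2_c39 LD3_c55)) = (LP (LK LD1_c10 LD2_c37 LD3_c50)) :=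
  Lgr Lrot143 (Lpr_dt (K22.f331651 IH) (Lpe (f331655 IH) (Lpe (K41.f331656 IH) (Lpr_gf (f409937 IH) (Lpe (f312114 IH) (Lpe (K22.f228434 IH) (Lpe (K22.f218427 IH) (Lpr_gt (K30.f219766 IH) (Lpr_dt (K38.f219767 IH) (Lpn (LP (LK LD1_c10 LD2_c37 LD3_c50))))))))))))
theorem f331660 : Led Lsl_ct (LP (LK LD1_c19 LD2_c18 LD3_c45)) = (LP (LK LD1_c10 LD2_c39 LD3_c55)) :=
  Lre_c IH (LK LD1_c19 LD2_c18 LD3_c45) (LK LD1_c10 LD2_c39 LD3_c55) Lrfl Lrfl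
theorem f218652 : Led Lsl_bt (LP (LK LD1_c19 LD2_c18 LD3_c45)) = (LP (LK LD1_c28 LD2_c43 LD3_c61)) :=
  Lre_b IH (LK LD1_c19 LD2_c18 LD3_c45) (LK LD1_c28 LD2_c43 LD3_c61) Lrfl Lrfl
theorem f588356 : Led Lsl_gf (LP (LK LD1_c24 LD2_c55 LD3_c23)) = (LP (LK LD1_c28 LD2_c43 LD3_c61)) :=
  Lgr Lrot181 (Lpr_ct (f588337 IH) (Lpr_gt (f588344 IH) (Lpe (K39.f238935 IH) (Lpe (f394666 IH) (Lpr_gt (K38.f550847 IH) (Lpe (K38.f550742 IH) (Lpr_ct (f409955 IH) (Lpe (f409950 IH) (Lpe (f331660 IH) (Lpr_bt (f218652 IH) (Lpn (LP (LK LD1_c28 LD2_c43 LD3_c61)))))))))))))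
theorem f573479 : Led Lsl_ct (LP (LK LD1_c31 LD2_c43 LD3_c10)) = (LP (LK LD1_c26 LD2_c18 LD3_c39)) :=
  Lgr Lrot59 (Lpr_cf (f573474 IH) (Lpn (LP (LK LD1_c26 LD2_c18 LD3_c39))))
theorem f29429 : Led Lsl_dt (LP (LK LD1_c8 LD2_c1 LD3_c55)) = (LP (LK LD1_c15 LD2_c7 LD3_c26)) :=
  Lre_d IH (LK LD1_c8 LD2_c1 LD3_c55) (LK LD1_c15 LD2_c7 LD3_c26) Lrfl Lrfl
theorem f29398 : Led Lsl_ct (LP (LK LD1_c24 LD2_c56 LD3_c8)) = (LP (LK LD1_c15 LD2_c7 LD3_c26)) :=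
  Lre_c IH (LK LD1_c24 LD2_c56 LD3_c8) (LK LD1_c15 LD2_c7 LD3_c26) Lrfl Lrfl
theorem f29399 : Led Lsl_ft (LP (LK LD1_c24 LD2_c55 LD3_c40)) = (LP (LK LD1_c24 LD2_c56 LD3_c8)) :=
  Lgr Lrot4 (Lpr_cf (K7.f29382 IH) (Lpe (K39.f29397 IH) (Lpe (f29398 IH) (Lpn (LP (LK LD1_c24 LD2_c56 LD3_c8))))))
theorem f29411 : Led Lsl_ff (LP (LK LD1_c24 LD2_c55 LD3_c40)) = (LP (LK LD1_c24 LD2_c56 LD3_c8)) :=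
  Lgr Lrot3 (Lpr_ft (f29399 IH) (Lpn (LP (LK LD1_c24 LD2_c56 LD3_c8))))
theorem f29415 : Led Lsl_dt (LP (LK LD1_c24 LD2_c55 LD3_c21)) = (LP (LK LD1_c24 LD2_c56 LD3_c8)) :=
  Lgr Lrot60 (Lpe (K39.f29386 IH) (Lpe (K7.f29381 IH) (Lpr_ff (f29411 IH) (Lpn (LP (LK LD1_c24 LD2_c56 LD3_c8))))))
theorem f29424 : Led Lsl_gt (LP (LK LD1_c15 LD2_c7 LD3_c23)) = (LP (LK LD1_c24 LD2_c55 LD3_c21)) :=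
  Lre_g IH (LK LD1_c15 LD2_c7 LD3_c23) (LK LD1_c24 LD2_c55 LD3_c21) Lrfl Lrfl
theorem f29440 : Led Lsl_dt (LP (LK LD1_c24 LD2_c55 LD3_c60)) = (LP (LK LD1_c15 LD2_c7 LD3_c23)) :=
  Lre_d IH (LK LD1_c24 LD2_c55 LD3_c60) (LK LD1_c15 LD2_c7 LD3_c23) Lrfl Lrfl
theorem f573495 : Led Lsl_gt (LP (LK LD1_c26 LD2_c18 LD3_c39)) = (LP (LK LD1_c24 LD2_c55 LD3_c60)) :=
  Lgr Lrot94 (Lpe (f573479 IH) (Lpr_gt (f573493 IH) (Lpr_dt (f29442 IH) (Lpr_gt (K39.f29441 IH) (Lpr_dt (f29429 IH) (Lpe (f29398 IH) (Lpe (f29415 IH) (Lpe (f29424 IH) (Lpe (f29440 IH) (Lpn (LP (LK LD1_c24 LD2_c55 LD3_c60))))))))))))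
theorem f29423 : Led Lsl_ct (LP (LK LD1_c24 LD2_c55 LD3_c21)) = (LP (LK LD1_c15 LD2_c7 LD3_c5)) :=
  Lre_c IH (LK LD1_c24 LD2_c55 LD3_c21) (LK LD1_c15 LD2_c7 LD3_c5) Lrfl Lrfl
theorem f573435 : Led Lsl_dt (LP (LK LD1_c15 LD2_c7 LD3_c21)) = (LP (LK LD1_c24 LD2_c55 LD3_c54)) :=
  Lre_d IH (LK LD1_c15 LD2_c7 LD3_c21) (LK LD1_c24 LD2_c55 LD3_c54) Lrfl Lrfl
theorem f573502 : Led Lsl_cf (LP (LK LD1_c24 LD2_c55 LD3_c54)) = (LP (LK LD1_c24 LD2_c55 LD3_c60)) :=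
  Lgr Lrot99 (Lpe (f573435 IH) (Lpe (f569866 IH) (Lpe (K44.f549206 IH) (Lpe (f29423 IH) (Lpe (f29424 IH) (Lpe (f29440 IH) (Lpr_gt (f573456 IH) (Lpr_ct (f573479 IH) (Lpr_gt (f573495 IH) (Lpn (LP (LK LD1_c24 LD2_c55 LD3_c60))))))))))))
theorem f573505 : Led Lsl_ct (LP (LK LD1_c24 LD2_c55 LD3_c54)) = (LP (LK LD1_c24 LD2_c55 LD3_c60)) :=
  Lgr Lrot59 (Lpr_cf (f573502 IH) (Lpn (LP (LK LD1_c24 LD2_c55 LD3_c60))))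
theorem f331650 : Led Lsl_ct (LP (LK LD1_c10 LD2_c39 LD3_c55)) = (LP (LK LD1_c19 LD2_c18 LD3_c45)) :=
  Lre_c IH (LK LD1_c10 LD2_c39 LD3_c55) (LK LD1_c19 LD2_c18 LD3_c45) Lrfl Lrfl
theorem f566195 : Led Lsl_bt (LP (LK LD1_c22 LD2_c51 LD3_c29)) = (LP (LK LD1_c13 LD2_c30 LD3_c39)) :=
  Lre_b IH (LK LD1_c22 LD2_c51 LD3_c29) (LK LD1_c13 LD2_c30 LD3_c39) Lrfl Lrfl
theorem f588056 : Led Lsl_ct (LP (LK LD1_c28 LD2_c43 LD3_c61)) = (LP (LK LD1_c22 LD2_c51 LD3_c29)) :=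
  Lgr Lrot83 (Lpe (f218652 IH) (Lpe (f331650 IH) (Lpe (K22.f331640 IH) (Lpr_cf (f588014 IH) (Lpe (f566195 IH) (Lpn (LP (LK LD1_c22 LD2_c51 LD3_c29))))))))
theorem f587267 : Led Lsl_ct (LP (LK LD1_c16 LD2_c21 LD3_c38)) = (LP (LK LD1_c24 LD2_c55 LD3_c26)) :=
  Lgr Lrot59 (Lpr_cf (f587265 IH) (Lpn (LP (LK LD1_c24 LD2_c55 LD3_c26))))
theorem f554418 : Led Lsl_dt (LP (LK LD1_c24 LD2_c55 LD3_c26)) = (LP (LK LD1_c31 LD2_c43 LD3_c1)) :=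
  Lre_d IH (LK LD1_c24 LD2_c55 LD3_c26) (LK LD1_c31 LD2_c43 LD3_c1) Lrfl Lrfl
theorem f556204 : Led Lsl_df (LP (LK LD1_c7 LD2_c56 LD3_c40)) = (LP (LK LD1_c13 LD2_c41 LD3_c0)) :=
  Lgr Lrot38 (Lpr_dt (K39.f556198 IH) (Lpn (LP (LK LD1_c13 LD2_c41 LD3_c0))))
theorem f588016 : Led Lsl_gt (LP (LK LD1_c14 LD2_c58 LD3_c33)) = (LP (LK LD1_c19 LD2_c20 LD3_c43)) :=
  Lgr Lrot150 (Lpe (K38.f197441 IH) (Lpr_gf (f588012 IH) (Lpr_df (f588010 IH) (Lpr_gt (f69738 IH) (Lpe (K18.f237430 IH) (Lpr_gt (K39.f180218 IH) (Lpr_ct (K39.f541351 IH) (Lpr_df (f556204 IH) (Lpe (K39.f556210 IH) (Lpn (LP (LK LD1_c19 LD2_c20 LD3_c43))))))))))))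
theorem f59407 : Led Lsl_bt (LP (LK LD1_c4 LD2_c42 LD3_c53)) = (LP (LK LD1_c7 LD2_c56 LD3_c40)) :=
  Lgr Lrot127 (Lpr_bf (K39.f59405 IH) (Lpn (LP (LK LD1_c7 LD2_c56 LD3_c40))))
theorem f556202 : Led Lsl_bf (LP (LK LD1_c9 LD2_c19 LD3_c48)) = (LP (LK LD1_c13 LD2_c41 LD3_c0)) :=
  Lgr Lrot93 (Lpr_dt (K39.f59413 IH) (Lpr_bt (f59407 IH) (Lpr_dt (K39.f556198 IH) (Lpn (LP (LK LD1_c13 LD2_c41 LD3_c0))))))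
theorem f561543 : Led Lsl_gt (LP (LK LD1_c9 LD2_c19 LD3_c48)) = (LP (LK LD1_c7 LD2_c59 LD3_c25)) :=
  Lgr Lrot49 (Lpe (K39.f59410 IH) (Lpe (K36.f541343 IH) (Lpe (K36.f137995 IH) (Lpr_gt (K36.f541277 IH) (Lpr_dt (K39.f383418 IH) (Lpr_gt (K40.f561539 IH) (Lpr_dt (K44.f174555 IH) (Lpe (K39.f174553 IH) (Lpe (K44.f382096 IH) (Lpn (LP (LK LD1_c7 LD2_c59 LD3_c25))))))))))))
theorem f588027 : Led Lsl_gf (LP (LK LD1_c16 LD2_c8 LD3_c33)) = (LP (LK LD1_c15 LD2_c4 LD3_c1)) :=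
  Lgr Lrot129 (Lpe (K39.f225668 IH) (Lpr_bt (K39.f238979 IH) (Lpr_gt (K13.f211157 IH) (Lpe (K39.f229887 IH) (Lpr_ct (K38.f197441 IH) (Lpr_gt (f588016 IH) (Lpr_cf (K39.f556208 IH) (Lpe (f556202 IH) (Lpr_gt (f561543 IH) (Lpr_ct (K44.f552014 IH) (Lpn (LP (LK LD1_c15 LD2_c4 LD3_c1)))))))))))))
theorem f588029 : Led Lsl_bt (LP (LK LD1_c7 LD2_c59 LD3_c25)) = (LP (LK LD1_c15 LD2_c4 LD3_c0)) :=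
  Lre_b IH (LK LD1_c7 LD2_c59 LD3_c25) (LK LD1_c15 LD2_c4 LD3_c0) Lrfl Lrfl
theorem f588030 : Led Lsl_gt (LP (LK LD1_c8 LD2_c43 LD3_c42)) = (LP (LK LD1_c15 LD2_c4 LD3_c0)) :=
  Lgr Lrot164 (Lpe (K39.f238923 IH) (Lpe (K13.f238919 IH) (Lpe (K13.f238969 IH) (Lpe (K13.f229285 IH) (Lpe (K13.f211157 IH) (Lpe (K39.f238979 IH) (Lpr_ct (K39.f225668 IH) (Lpr_gf (f588027 IH) (Lpe (K44.f552014 IH) (Lpr_bt (f588029 IH) (Lpn (LP (LK LD1_c15 LD2_c4 LD3_c0)))))))))))))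
theorem f588032 : Led Lsl_gf (LP (LK LD1_c15 LD2_c13 LD3_c42)) = (LP (LK LD1_c15 LD2_c4 LD3_c0)) :=
  Lgr Lrot76 (Lpr_af (K39.f554491 IH) (Lpr_ff (K39.f394658 IH) (Lpr_gt (f588030 IH) (Lpn (LP (LK LD1_c15 LD2_c4 LD3_c0))))))
theorem f400063 : Led Lsl_dt (LP (LK LD1_c15 LD2_c7 LD3_c19)) = (LP (LK LD1_c24 LD2_c55 LD3_c49)) :=
  Lre_d IH (LK LD1_c15 LD2_c7 LD3_c19) (LK LD1_c24 LD2_c55 LD3_c49) Lrfl Lrfl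
theorem f573497 : Led Lsl_cf (LP (LK LD1_c24 LD2_c55 LD3_c49)) = (LP (LK LD1_c24 LD2_c56 LD3_c1)) :=
  Lgr Lrot99 (Lpe (f400063 IH) (Lpe (f236876 IH) (Lpe (K43.f30811 IH) (Lpe (K41.f29433 IH) (Lpe (K39.f29441 IH) (Lpe (f29442 IH) (Lpr_gt (f573443 IH) (Lpe (f573474 IH) (Lpr_gt (f573493 IH) (Lpn (LP (LK LD1_c24 LD2_c56 LD3_c1))))))))))))
theorem f573500 : Led Lsl_ct (LP (LK LD1_c24 LD2_c55 LD3_c49)) = (LP (LK LD1_c24 LD2_c56 LD3_c1)) :=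
  Lgr Lrot59 (Lpr_cf (f573497 IH) (Lpn (LP (LK LD1_c24 LD2_c56 LD3_c1))))
theorem f563706 : Led Lsl_gt (LP (LK LD1_c31 LD2_c43 LD3_c6)) = (LP (LK LD1_c24 LD2_c55 LD3_c49)) :=
  Lre_g IH (LK LD1_c31 LD2_c43 LD3_c6) (LK LD1_c24 LD2_c55 LD3_c49) Lrfl Lrfl
theorem f197730 : Led Lsl_ct (LP (LK LD1_c24 LD2_c53 LD3_c6)) = (LP (LK LD1_c15 LD2_c4 LD3_c0)) :=
  Lre_c IH (LK LD1_c24 LD2_c53 LD3_c6) (LK LD1_c15 LD2_c4 LD3_c0) Lrfl Lrfl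
theorem f160392 : Led Lsl_ct (LP (LK LD1_c22 LD2_c51 LD3_c60)) = (LP (LK LD1_c30 LD2_c45 LD3_c60)) :=
  Lre_c IH (LK LD1_c22 LD2_c51 LD3_c60) (LK LD1_c30 LD2_c45 LD3_c60) Lrfl Lrfl
theorem f575068 : Led Lsl_cf (LP (LK LD1_c7 LD2_c59 LD3_c24)) = (LP (LK LD1_c13 LD2_c27 LD3_c55)) :=
  Lgr Lrot169 (Lpr_gt (K43.f197726 IH) (Lpr_ct (K7.f29394 IH) (Lpe (K7.f29393 IH) (Lpe (K7.f29380 IH) (Lpe (K43.f29404 IH) (Lpe (f556599 IH) (Lpr_gf (f556845 IH) (Lpe (K42.f400059 IH) (Lpr_gt (K43.f575064 IH) (Lpn (LP (LK LD1_c13 LD2_c27 LD3_c55))))))))))))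
theorem f197731 : Led Lsl_dt (LP (LK LD1_c15 LD2_c4 LD3_c0)) = (LP (LK LD1_c7 LD2_c59 LD3_c24)) :=
  Lre_d IH (LK LD1_c15 LD2_c4 LD3_c0) (LK LD1_c7 LD2_c59 LD3_c24) Lrfl Lrfl
theorem f575070 : Led Lsl_gt (LP (LK LD1_c30 LD2_c45 LD3_c60)) = (LP (LK LD1_c24 LD2_c53 LD3_c6)) :=
  Lgr Lrot150 (Lpe (f160392 IH) (Lpr_gf (K43.f570993 IH) (Lpe (K43.f29516 IH) (Lpr_gt (K43.f571099 IH) (Lpe (K43.f569690 IH) (Lpr_gt (K43.f575064 IH) (Lpe (f575068 IH) (Lpe (f197731 IH) (Lpe (f197730 IH) (Lpn (LP (LK LD1_c24 LD2_c53 LD3_c6))))))))))))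
theorem f588036 : Led Lsl_df (LP (LK LD1_c31 LD2_c43 LD3_c6)) = (LP (LK LD1_c30 LD2_c45 LD3_c60)) :=
  Lgr Lrot155 (Lpr_gt (f563706 IH) (Lpr_ct (f573500 IH) (Lpr_gt (f573443 IH) (Lpe (f573474 IH) (Lpr_dt (f573457 IH) (Lpe (f69783 IH) (Lpr_gf (f588032 IH) (Lpe (f197730 IH) (Lpe (f575070 IH) (Lpn (LP (LK LD1_c30 LD2_c45 LD3_c60))))))))))))
theorem f554417 : Led Lsl_dt (LP (LK LD1_c31 LD2_c43 LD3_c1)) = (LP (LK LD1_c24 LD2_c55 LD3_c26)) :=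
  Lre_d IH (LK LD1_c31 LD2_c43 LD3_c1) (LK LD1_c24 LD2_c55 LD3_c26) Lrfl Lrfl
theorem f588048 : Led Lsl_ct (LP (LK LD1_c31 LD2_c43 LD3_c6)) = (LP (LK LD1_c31 LD2_c43 LD3_c1)) :=
  Lgr Lrot41 (Lpr_df (f588036 IH) (Lpe (f160392 IH) (Lpe (K42.f540744 IH) (Lpr_ft (f587282 IH) (Lpe (f587292 IH) (Lpe (f587253 IH) (Lpe (f587251 IH) (Lpr_cf (f587265 IH) (Lpe (f554417 IH) (Lpn (LP (LK LD1_c31 LD2_c43 LD3_c1))))))))))))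
theorem f588051 : Led Lsl_cf (LP (LK LD1_c31 LD2_c43 LD3_c6)) = (LP (LK LD1_c31 LD2_c43 LD3_c1)) :=
  Lgr Lrot11 (Lpr_ct (f588048 IH) (Lpn (LP (LK LD1_c31 LD2_c43 LD3_c1))))
theorem f588034 : Led Lsl_dt (LP (LK LD1_c31 LD2_c43 LD3_c6)) = (LP (LK LD1_c30 LD2_c45 LD3_c60)) :=
  Lgr Lrot6 (Lpr_gt (f563706 IH) (Lpr_ct (f573500 IH) (Lpr_gt (f573443 IH) (Lpe (f573474 IH) (Lpr_df (f573470 IH) (Lpe (f69783 IH) (Lpr_gf (f588032 IH) (Lpe (f197730 IH) (Lpe (f575070 IH) (Lpn (LP (LK LD1_c30 LD2_c45 LD3_c60))))))))))))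
theorem f441963 : Led Lsl_ct (LP (LK LD1_c30 LD2_c45 LD3_c60)) = (LP (LK LD1_c22 LD2_c51 LD3_c60)) :=
  Lre_c IH (LK LD1_c30 LD2_c45 LD3_c60) (LK LD1_c22 LD2_c51 LD3_c60) Lrfl Lrfl
theorem f554413 : Led Lsl_dt (LP (LK LD1_c24 LD2_c55 LD3_c25)) = (LP (LK LD1_c31 LD2_c43 LD3_c0)) :=
  Lre_d IH (LK LD1_c24 LD2_c55 LD3_c25) (LK LD1_c31 LD2_c43 LD3_c0) Lrfl Lrfl
theorem f117787 : Led Lsl_ct (LP (LK LD1_c6 LD2_c14 LD3_c31)) = (LP (LK LD1_c12 LD2_c7 LD3_c20)) :=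
  Lre_c IH (LK LD1_c6 LD2_c14 LD3_c31) (LK LD1_c12 LD2_c7 LD3_c20) Lrfl Lrfl
theorem f588038 : Led Lsl_gt (LP (LK LD1_c12 LD2_c7 LD3_c20)) = (LP (LK LD1_c15 LD2_c4 LD3_c1)) :=
  Lgr Lrot149 (Lpe (f117787 IH) (Lpe (K39.f551962 IH) (Lpr_bf (K39.f181606 IH) (Lpr_ct (K10.f80607 IH) (Lpr_gf (K10.f197847 IH) (Lpe (K2.f69814 IH) (Lpr_bt (K40.f69831 IH) (Lpr_gf (f588032 IH) (Lpe (f588029 IH) (Lpr_ct (K44.f552014 IH) (Lpn (LP (LK LD1_c15 LD2_c4 LD3_c1)))))))))))))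
theorem f117774 : Led Lsl_dt (LP (LK LD1_c6 LD2_c25 LD3_c14)) = (LP (LK LD1_c3 LD2_c10 LD3_c16)) :=
  Lre_d IH (LK LD1_c6 LD2_c25 LD3_c14) (LK LD1_c3 LD2_c10 LD3_c16) Lrfl Lrfl
theorem f117776 : Led Lsl_bf (LP (LK LD1_c6 LD2_c25 LD3_c14)) = (LP (LK LD1_c6 LD2_c14 LD3_c31)) :=
  Lgr Lrot93 (Lpr_dt (f117774 IH) (Lpr_bt (K39.f117769 IH) (Lpr_dt (K39.f117775 IH) (Lpn (LP (LK LD1_c6 LD2_c14 LD3_c31))))))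
theorem f549881 : Led Lsl_bt (LP (LK LD1_c8 LD2_c44 LD3_c18)) = (LP (LK LD1_c4 LD2_c23 LD3_c20)) :=
  Lre_b IH (LK LD1_c8 LD2_c44 LD3_c18) (LK LD1_c4 LD2_c23 LD3_c20) Lrfl Lrfl
theorem f549884 : Led Lsl_ct (LP (LK LD1_c8 LD2_c44 LD3_c18)) = (LP (LK LD1_c16 LD2_c21 LD3_c39)) :=
  Lre_c IH (LK LD1_c8 LD2_c44 LD3_c18) (LK LD1_c16 LD2_c21 LD3_c39) Lrfl Lrfl
theorem f588040 : Led Lsl_gf (LP (LK LD1_c16 LD2_c21 LD3_c39)) = (LP (LK LD1_c25 LD2_c2 LD3_c48)) :=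
  Lgr Lrot129 (Lpe (f549884 IH) (Lpr_bt (f549881 IH) (Lpe (K38.f549873 IH) (Lpr_bf (f117776 IH) (Lpr_ct (f117787 IH) (Lpr_gt (f588038 IH) (Lpe (K44.f552014 IH) (Lpr_bt (f588029 IH) (Lpe (f588032 IH) (Lpr_ct (f69783 IH) (Lpn (LP (LK LD1_c25 LD2_c2 LD3_c48)))))))))))))
theorem f549882 : Led Lsl_ct (LP (LK LD1_c16 LD2_c21 LD3_c39)) = (LP (LK LD1_c8 LD2_c44 LD3_c18)) :=
  Lre_c IH (LK LD1_c16 LD2_c21 LD3_c39) (LK LD1_c8 LD2_c44 LD3_c18) Lrfl Lrfl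
theorem f400064 : Led Lsl_gt (LP (LK LD1_c24 LD2_c55 LD3_c49)) = (LP (LK LD1_c31 LD2_c43 LD3_c5)) :=
  Lre_g IH (LK LD1_c24 LD2_c55 LD3_c49) (LK LD1_c31 LD2_c43 LD3_c5) Lrfl Lrfl
theorem f588044 : Led Lsl_cf (LP (LK LD1_c31 LD2_c43 LD3_c0)) = (LP (LK LD1_c31 LD2_c43 LD3_c5)) :=
  Lgr Lrot99 (Lpe (f554413 IH) (Lpe (K43.f554427 IH) (Lpe (f572107 IH) (Lpe (f549882 IH) (Lpr_gf (f588040 IH) (Lpe (f573457 IH) (Lpr_gt (f573493 IH) (Lpe (f573497 IH) (Lpr_gt (f400064 IH) (Lpn (LP (LK LD1_c31 LD2_c43 LD3_c5))))))))))))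
theorem f588046 : Led Lsl_ct (LP (LK LD1_c31 LD2_c43 LD3_c0)) = (LP (LK LD1_c31 LD2_c43 LD3_c5)) :=
  Lgr Lrot59 (Lpr_cf (f588044 IH) (Lpn (LP (LK LD1_c31 LD2_c43 LD3_c5))))
theorem f588261 : Led Lsl_df (LP (LK LD1_c28 LD2_c43 LD3_c61)) = (LP (LK LD1_c31 LD2_c43 LD3_c5)) :=
  Lgr Lrot43 (Lpr_ct (f588056 IH) (Lpr_dt (f588255 IH) (Lpe (f587259 IH) (Lpe (f587269 IH) (Lpr_ct (f587267 IH) (Lpr_dt (f554418 IH) (Lpe (f588051 IH) (Lpr_dt (f588034 IH) (Lpr_ct (f441963 IH) (Lpe (K43.f540738 IH) (Lpr_ct (K43.f570987 IH) (Lpr_dt (K43.f564944 IH) (Lpr_ct (K43.f554427 IH) (Lpr_dt (f554413 IH) (Lpr_ct (f588046 IH) (Lpn (LP (LK LD1_c31 LD2_c43 LD3_c5))))))))))))))))))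
theorem f588361 : Led Lsl_gf (LP (LK LD1_c24 LD2_c55 LD3_c54)) = (LP (LK LD1_c31 LD2_c43 LD3_c5)) :=
  Lgr Lrot147 (Lpr_ct (f573505 IH) (Lpr_gt (f573456 IH) (Lpr_ct (f573479 IH) (Lpe (f394668 IH) (Lpe (f238972 IH) (Lpe (f588344 IH) (Lpe (f588337 IH) (Lpr_gf (f588356 IH) (Lpr_df (f588261 IH) (Lpn (LP (LK LD1_c31 LD2_c43 LD3_c5))))))))))))
theorem f588363 : Led Lsl_df (LP (LK LD1_c31 LD2_c43 LD3_c5)) = (LP (LK LD1_c28 LD2_c43 LD3_c61)) :=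
  Lgr Lrot155 (Lpe (f588361 IH) (Lpr_ct (f573505 IH) (Lpr_gt (f573456 IH) (Lpr_ct (f573479 IH) (Lpr_dt (K43.f238971 IH) (Lpe (f238972 IH) (Lpe (f588344 IH) (Lpe (f588337 IH) (Lpr_gf (f588356 IH) (Lpn (LP (LK LD1_c28 LD2_c43 LD3_c61))))))))))))
theorem f554433 : Led Lsl_dt (LP (LK LD1_c31 LD2_c43 LD3_c0)) = (LP (LK LD1_c24 LD2_c55 LD3_c25)) :=
  Lre_d IH (LK LD1_c31 LD2_c43 LD3_c0) (LK LD1_c24 LD2_c55 LD3_c25) Lrfl Lrfl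
theorem f564951 : Led Lsl_df (LP (LK LD1_c15 LD2_c5 LD3_c43)) = (LP (LK LD1_c16 LD2_c21 LD3_c28)) :=
  Lgr Lrot12 (Lpr_bt (K42.f210769 IH) (Lpr_dt (K41.f564946 IH) (Lpr_bt (f549968 IH) (Lpn (LP (LK LD1_c16 LD2_c21 LD3_c28))))))
theorem f471058 : Led Lsl_bt (LP (LK LD1_c22 LD2_c51 LD3_c30)) = (LP (LK LD1_c30 LD2_c45 LD3_c41)) :=
  Lre_b IH (LK LD1_c22 LD2_c51 LD3_c30) (LK LD1_c30 LD2_c45 LD3_c41) Lrfl Lrfl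
theorem f471059 : Led Lsl_bt (LP (LK LD1_c23 LD2_c16 LD3_c33)) = (LP (LK LD1_c13 LD2_c48 LD3_c23)) :=
  Lre_b IH (LK LD1_c23 LD2_c16 LD3_c33) (LK LD1_c13 LD2_c48 LD3_c23) Lrfl Lrfl
theorem f471060 : Led Lsl_dt (LP (LK LD1_c30 LD2_c45 LD3_c41)) = (LP (LK LD1_c23 LD2_c16 LD3_c33)) :=
  Lgr Lrot79 (Lpe (f471058 IH) (Lpr_df (f471052 IH) (Lpe (f471059 IH) (Lpn (LP (LK LD1_c23 LD2_c16 LD3_c33))))))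
theorem f471062 : Led Lsl_et (LP (LK LD1_c22 LD2_c51 LD3_c29)) = (LP (LK LD1_c30 LD2_c45 LD3_c41)) :=
  Lre_e IH (LK LD1_c22 LD2_c51 LD3_c29) (LK LD1_c30 LD2_c45 LD3_c41) Lrfl Lrfl
theorem f587312 : Led Lsl_df (LP (LK LD1_c15 LD2_c13 LD3_c15)) = (LP (LK LD1_c16 LD2_c29 LD3_c23)) :=
  Lgr Lrot38 (Lpr_dt (f587310 IH) (Lpn (LP (LK LD1_c16 LD2_c29 LD3_c23))))
theorem f588251 : Led Lsl_df (LP (LK LD1_c22 LD2_c51 LD3_c29)) = (LP (LK LD1_c15 LD2_c7 LD3_c4)) :=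
  Lgr Lrot70 (Lpr_et (f471062 IH) (Lpr_dt (f471060 IH) (Lpr_et (f588249 IH) (Lpe (f587312 IH) (Lpr_et (f587278 IH) (Lpn (LP (LK LD1_c15 LD2_c7 LD3_c4))))))))
theorem f588369 : Led Lsl_ct (LP (LK LD1_c22 LD2_c51 LD3_c29)) = (LP (LK LD1_c28 LD2_c43 LD3_c61)) :=
  Lgr Lrot176 (Lpr_df (f588251 IH) (Lpe (f587253 IH) (Lpe (f587251 IH) (Lpr_cf (f587265 IH) (Lpe (f554417 IH) (Lpe (f588048 IH) (Lpr_df (f588036 IH) (Lpe (f160392 IH) (Lpe (K42.f540744 IH) (Lpr_cf (K42.f570989 IH) (Lpr_df (f564951 IH) (Lpr_cf (K43.f554431 IH) (Lpe (f554433 IH) (Lpr_cf (f588044 IH) (Lpr_df (f588363 IH) (Lpn (LP (LK LD1_c28 LD2_c43 LD3_c61))))))))))))))))))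
theorem f588269 : Led Lsl_gf (LP (LK LD1_c22 LD2_c51 LD3_c29)) = (LP (LK LD1_c15 LD2_c7 LD3_c11)) :=
  Lgr Lrot144 (Lpr_dt (f588255 IH) (Lpr_gt (f587302 IH) (Lpr_dt (f158643 IH) (Lpr_cf (f556597 IH) (Lpe (K43.f29405 IH) (Lpr_gf (K43.f554482 IH) (Lpe (K39.f192833 IH) (Lpe (K42.f570995 IH) (Lpe (K42.f554419 IH) (Lpn (LP (LK LD1_c15 LD2_c7 LD3_c11))))))))))))
theorem f588460 : Led Lsl_ct (LP (LK LD1_c13 LD2_c30 LD3_c36)) = (LP (LK LD1_c8 LD2_c44 LD3_c17)) :=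
  Lgr Lrot152 (Lpe (f575014 IH) (Lpe (K42.f29527 IH) (Lpe (f588269 IH) (Lpr_ct (f588369 IH) (Lpe (f588356 IH) (Lpr_ct (f588337 IH) (Lpe (f587174 IH) (Lpr_cf (f587163 IH) (Lpe (f552578 IH) (Lpn (LP (LK LD1_c8 LD2_c44 LD3_c17))))))))))))
theorem f588338 : Led Lsl_ct (LP (LK LD1_c8 LD2_c1 LD3_c45)) = (LP (LK LD1_c4 LD2_c23 LD3_c18)) :=
  Lgr Lrot110 (Lpr_gf (f588332 IH) (Lpe (K7.f29394 IH) (Lpe (K43.f197726 IH) (Lpe (f197731 IH) (Lpe (f588032 IH) (Lpr_ct (f69783 IH) (Lpe (f588040 IH) (Lpr_ct (f549882 IH) (Lpe (f572106 IH) (Lpn (LP (LK LD1_c4 LD2_c23 LD3_c18))))))))))))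
theorem f588466 : Led Lsl_bf (LP (LK LD1_c5 LD2_c41 LD3_c20)) = (LP (LK LD1_c8 LD2_c1 LD3_c45)) :=
  Lgr Lrot156 (Lpr_gt (K38.f181488 IH) (Lpr_bf (K43.f181532 IH) (Lpr_ct (K10.f174812 IH) (Lpr_gt (f587153 IH) (Lpe (f582531 IH) (Lpe (f587155 IH) (Lpr_gt (f575014 IH) (Lpr_ct (f588460 IH) (Lpr_gt (f552578 IH) (Lpe (f588338 IH) (Lpn (LP (LK LD1_c8 LD2_c1 LD3_c45)))))))))))))
theorem f588476 : Led Lsl_ft (LP (LK LD1_c4 LD2_c0 LD3_c26)) = (LP (LK LD1_c8 LD2_c1 LD3_c45)) :=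
  Lre_f IH (LK LD1_c4 LD2_c0 LD3_c26) (LK LD1_c8 LD2_c1 LD3_c45) Lrfl Lrfl
theorem f29522 : Led Lsl_bt (LP (LK LD1_c8 LD2_c1 LD3_c48)) = (LP (LK LD1_c4 LD2_c0 LD3_c26)) :=
  Lre_b IH (LK LD1_c8 LD2_c1 LD3_c48) (LK LD1_c4 LD2_c0 LD3_c26) Lrfl Lrfl
theorem f588477 : Led Lsl_ft (LP (LK LD1_c5 LD2_c41 LD3_c20)) = (LP (LK LD1_c8 LD2_c1 LD3_c48)) :=
  Lgr Lrot75 (Lpr_bf (f588466 IH) (Lpe (f588476 IH) (Lpe (f29522 IH) (Lpn (LP (LK LD1_c8 LD2_c1 LD3_c48))))))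
theorem f588481 : Led Lsl_ff (LP (LK LD1_c5 LD2_c41 LD3_c20)) = (LP (LK LD1_c8 LD2_c1 LD3_c48)) :=
  Lgr Lrot3 (Lpr_ft (f588477 IH) (Lpn (LP (LK LD1_c8 LD2_c1 LD3_c48))))
theorem f588485 : Led Lsl_ft (LP (LK LD1_c11 LD2_c12 LD3_c54)) = (LP (LK LD1_c15 LD2_c7 LD3_c10)) :=
  Lgr Lrot54 (Lpe (K38.f380614 IH) (Lpr_ff (f588481 IH) (Lpe (f571105 IH) (Lpn (LP (LK LD1_c15 LD2_c7 LD3_c10))))))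
theorem f574033 : Led Lsl_dt (LP (LK LD1_c4 LD2_c57 LD3_c33)) = (LP (LK LD1_c6 LD2_c15 LD3_c23)) :=
  Lgr Lrot27 (Lpe (K43.f174135 IH) (Lpe (K31.f411978 IH) (Lpe (K31.f174965 IH) (Lpr_gf (K31.f411972 IH) (Lpe (K30.f172543 IH) (Lpr_gt (K35.f172615 IH) (Lpr_ct (K39.f172619 IH) (Lpr_gt (K39.f172620 IH) (Lpr_ct (K43.f574025 IH) (Lpn (LP (LK LD1_c6 LD2_c15 LD3_c23))))))))))))
theorem f574029 : Led Lsl_cf (LP (LK LD1_c9 LD2_c44 LD3_c40)) = (LP (LK LD1_c6 LD2_c15 LD3_c23)) :=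
  Lgr Lrot11 (Lpr_ct (K43.f574025 IH) (Lpn (LP (LK LD1_c6 LD2_c15 LD3_c23))))
theorem f423620 : Led Lsl_df (LP (LK LD1_c9 LD2_c44 LD3_c40)) = (LP (LK LD1_c11 LD2_c12 LD3_c55)) :=
  Lgr Lrot155 (Lpr_gt (K39.f423616 IH) (Lpr_ct (K39.f172692 IH) (Lpr_gt (K36.f172629 IH) (Lpr_ct (K38.f172608 IH) (Lpe (K30.f210417 IH) (Lpe (K30.f183246 IH) (Lpr_gf (K31.f406937 IH) (Lpe (K31.f406936 IH) (Lpe (K39.f423612 IH) (Lpn (LP (LK LD1_c11 LD2_c12 LD3_c55))))))))))))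
theorem f579081 : Led Lsl_cf (LP (LK LD1_c7 LD2_c59 LD3_c11)) = (LP (LK LD1_c5 LD2_c41 LD3_c20)) :=
  Lgr Lrot166 (Lpr_gt (K43.f579075 IH) (Lpe (K30.f418798 IH) (Lpr_gt (K40.f559566 IH) (Lpr_dt (f574033 IH) (Lpe (f574029 IH) (Lpr_df (f423620 IH) (Lpe (K39.f181499 IH) (Lpe (K31.f181507 IH) (Lpe (K38.f181488 IH) (Lpn (LP (LK LD1_c5 LD2_c41 LD3_c20))))))))))))
theorem f280601 : Led Lsl_dt (LP (LK LD1_c16 LD2_c52 LD3_c52)) = (LP (LK LD1_c9 LD2_c2 LD3_c32)) :=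
  Lre_d IH (LK LD1_c16 LD2_c52 LD3_c52) (LK LD1_c9 LD2_c2 LD3_c32) Lrfl Lrfl
theorem f411953 : Led Lsl_df (LP (LK LD1_c20 LD2_c7 LD3_c29)) = (LP (LK LD1_c11 LD2_c13 LD3_c43)) :=
  Lgr Lrot155 (Lpr_gt (K39.f411941 IH) (Lpr_ct (K31.f411934 IH) (Lpr_gt (K31.f411947 IH) (Lpr_ct (K30.f281734 IH) (Lpr_dt (f280601 IH) (Lpe (K16.f268835 IH) (Lpe (K31.f411916 IH) (Lpe (K39.f174346 IH) (Lpe (K39.f181514 IH) (Lpn (LP (LK LD1_c11 LD2_c13 LD3_c43))))))))))))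
theorem f588492 : Led Lsl_af (LP (LK LD1_c9 LD2_c45 LD3_c33)) = (LP (LK LD1_c15 LD2_c7 LD3_c10)) :=
  Lgr Lrot31 (Lpe (K39.f556303 IH) (Lpr_gf (K38.f549818 IH) (Lpr_ft (f588485 IH) (Lpn (LP (LK LD1_c15 LD2_c7 LD3_c10))))))
theorem f181495 : Led Lsl_ct (LP (LK LD1_c17 LD2_c55 LD3_c6)) = (LP (LK LD1_c9 LD2_c45 LD3_c33)) :=
  Lre_c IH (LK LD1_c17 LD2_c55 LD3_c6) (LK LD1_c9 LD2_c45 LD3_c33) Lrfl Lrfl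
theorem f181491 : Led Lsl_dt (LP (LK LD1_c27 LD2_c40 LD3_c34)) = (LP (LK LD1_c17 LD2_c55 LD3_c6)) :=
  Lre_d IH (LK LD1_c27 LD2_c40 LD3_c34) (LK LD1_c17 LD2_c55 LD3_c6) Lrfl Lrfl
theorem f588494 : Led Lsl_ct (LP (LK LD1_c20 LD2_c7 LD3_c29)) = (LP (LK LD1_c27 LD2_c40 LD3_c34)) :=
  Lgr Lrot53 (Lpr_df (f411953 IH) (Lpe (K40.f561681 IH) (Lpe (K43.f579061 IH) (Lpr_cf (f579081 IH) (Lpe (K39.f380615 IH) (Lpr_ft (f588485 IH) (Lpe (f588492 IH) (Lpe (f181495 IH) (Lpe (f181491 IH) (Lpn (LP (LK LD1_c27 LD2_c40 LD3_c34))))))))))))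
theorem f588496 : Led Lsl_cf (LP (LK LD1_c20 LD2_c7 LD3_c29)) = (LP (LK LD1_c27 LD2_c40 LD3_c34)) :=
  Lgr Lrot11 (Lpr_ct (f588494 IH) (Lpn (LP (LK LD1_c27 LD2_c40 LD3_c34))))
theorem f549924 : Led Lsl_dt (LP (LK LD1_c17 LD2_c55 LD3_c6)) = (LP (LK LD1_c27 LD2_c40 LD3_c34)) :=
  Lre_d IH (LK LD1_c17 LD2_c55 LD3_c6) (LK LD1_c27 LD2_c40 LD3_c34) Lrfl Lrfl
theorem f181518 : Led Lsl_ct (LP (LK LD1_c27 LD2_c40 LD3_c37)) = (LP (LK LD1_c17 LD2_c55 LD3_c10)) :=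
  Lre_c IH (LK LD1_c27 LD2_c40 LD3_c37) (LK LD1_c17 LD2_c55 LD3_c10) Lrfl Lrfl
theorem f423579 : Led Lsl_ct (LP (LK LD1_c11 LD2_c12 LD3_c54)) = (LP (LK LD1_c20 LD2_c7 LD3_c21)) :=
  Lre_c IH (LK LD1_c11 LD2_c12 LD3_c54) (LK LD1_c20 LD2_c7 LD3_c21) Lrfl Lrfl
theorem f181516 : Led Lsl_ct (LP (LK LD1_c17 LD2_c55 LD3_c10)) = (LP (LK LD1_c27 LD2_c40 LD3_c37)) :=
  Lre_c IH (LK LD1_c17 LD2_c55 LD3_c10) (LK LD1_c27 LD2_c40 LD3_c37) Lrfl Lrfl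
theorem f549919 : Led Lsl_dt (LP (LK LD1_c20 LD2_c7 LD3_c21)) = (LP (LK LD1_c27 LD2_c40 LD3_c37)) :=
  Lgr Lrot27 (Lpe (f423579 IH) (Lpe (K39.f549917 IH) (Lpr_cf (K38.f549909 IH) (Lpr_gf (K38.f281768 IH) (Lpe (K16.f268992 IH) (Lpe (K31.f411949 IH) (Lpr_ct (K31.f411942 IH) (Lpr_gt (K40.f423514 IH) (Lpr_ct (f181516 IH) (Lpn (LP (LK LD1_c27 LD2_c40 LD3_c37))))))))))))
theorem f579079 : Led Lsl_ct (LP (LK LD1_c7 LD2_c59 LD3_c11)) = (LP (LK LD1_c5 LD2_c41 LD3_c20)) :=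
  Lgr Lrot8 (Lpr_gt (K43.f579075 IH) (Lpe (K30.f418798 IH) (Lpr_gt (K40.f559566 IH) (Lpr_dt (f574033 IH) (Lpe (K43.f574025 IH) (Lpr_df (f423620 IH) (Lpe (K39.f181499 IH) (Lpe (K31.f181507 IH) (Lpe (K38.f181488 IH) (Lpn (LP (LK LD1_c5 LD2_c41 LD3_c20))))))))))))
theorem f588498 : Led Lsl_ct (LP (LK LD1_c11 LD2_c13 LD3_c43)) = (LP (LK LD1_c6 LD2_c15 LD3_c32)) :=
  Lgr Lrot176 (Lpe (K39.f411951 IH) (Lpr_cf (f588496 IH) (Lpe (f549924 IH) (Lpe (K40.f181490 IH) (Lpe (K39.f181489 IH) (Lpe (K31.f40184 IH) (Lpe (K40.f181506 IH) (Lpe (K31.f181502 IH) (Lpe (K31.f181528 IH) (Lpe (f181518 IH) (Lpe (f549919 IH) (Lpe (f423579 IH) (Lpe (K38.f380614 IH) (Lpe (f579079 IH) (Lpr_df (K44.f579065 IH) (Lpn (LP (LK LD1_c6 LD2_c15 LD3_c32))))))))))))))))))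
theorem f181520 : Led Lsl_gt (LP (LK LD1_c11 LD2_c13 LD3_c45)) = (LP (LK LD1_c20 LD2_c8 LD3_c28)) :=
  Lre_g IH (LK LD1_c11 LD2_c13 LD3_c45) (LK LD1_c20 LD2_c8 LD3_c28) Lrfl Lrfl
theorem f588504 : Led Lsl_dt (LP (LK LD1_c20 LD2_c8 LD3_c28)) = (LP (LK LD1_c12 LD2_c8 LD3_c54)) :=
  Lgr Lrot113 (Lpe (f181520 IH) (Lpe (K39.f181521 IH) (Lpe (K39.f181514 IH) (Lpr_ct (f588498 IH) (Lpr_gt (K40.f60801 IH) (Lpr_dt (K37.f60800 IH) (Lpr_gt (K40.f60729 IH) (Lpr_dt (K40.f60730 IH) (Lpr_ct (K40.f60731 IH) (Lpn (LP (LK LD1_c12 LD2_c8 LD3_c54))))))))))))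
theorem f411931 : Led Lsl_ct (LP (LK LD1_c20 LD2_c7 LD3_c26)) = (LP (LK LD1_c11 LD2_c13 LD3_c10)) :=
  Lgr Lrot59 (Lpr_cf (K31.f411922 IH) (Lpn (LP (LK LD1_c11 LD2_c13 LD3_c10))))
theorem f423437 : Led Lsl_cf (LP (LK LD1_c20 LD2_c8 LD3_c15)) = (LP (LK LD1_c11 LD2_c13 LD3_c45)) :=
  Lgr Lrot14 (Lpe (K39.f281770 IH) (Lpr_gf (K38.f281768 IH) (Lpe (K16.f268992 IH) (Lpe (K31.f385818 IH) (Lpr_ct (f411931 IH) (Lpr_gt (K39.f423433 IH) (Lpr_dt (K39.f411951 IH) (Lpr_gt (K39.f181514 IH) (Lpr_dt (K39.f181521 IH) (Lpn (LP (LK LD1_c11 LD2_c13 LD3_c45))))))))))))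
theorem f180391 : Led Lsl_ct (LP (LK LD1_c5 LD2_c46 LD3_c53)) = (LP (LK LD1_c11 LD2_c23 LD3_c55)) :=
  Lre_c IH (LK LD1_c5 LD2_c46 LD3_c53) (LK LD1_c11 LD2_c23 LD3_c55) Lrfl Lrfl
theorem f40125 : Led Lsl_ct (LP (LK LD1_c3 LD2_c57 LD3_c29)) = (LP (LK LD1_c1 LD2_c56 LD3_c16)) :=
  Lre_c IH (LK LD1_c3 LD2_c57 LD3_c29) (LK LD1_c1 LD2_c56 LD3_c16) Lrfl Lrfl
theorem f40123 : Led Lsl_dt (LP (LK LD1_c3 LD2_c59 LD3_c5)) = (LP (LK LD1_c1 LD2_c56 LD3_c16)) :=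
  Lre_d IH (LK LD1_c3 LD2_c59 LD3_c5) (LK LD1_c1 LD2_c56 LD3_c16) Lrfl Lrfl
theorem f174674 : Led Lsl_ct (LP (LK LD1_c7 LD2_c59 LD3_c31)) = (LP (LK LD1_c3 LD2_c59 LD3_c5)) :=
  Lre_c IH (LK LD1_c7 LD2_c59 LD3_c31) (LK LD1_c3 LD2_c59 LD3_c5) Lrfl Lrfl
theorem f552074 : Led Lsl_gt (LP (LK LD1_c11 LD2_c23 LD3_c55)) = (LP (LK LD1_c7 LD2_c59 LD3_c31)) :=
  Lgr Lrot150 (Lpe (f180391 IH) (Lpr_gf (K38.f547475 IH) (Lpe (K38.f174562 IH) (Lpr_gt (K39.f552070 IH) (Lpr_ct (K10.f175494 IH) (Lpr_gt (K41.f542299 IH) (Lpr_ct (f40125 IH) (Lpe (f40123 IH) (Lpe (f174674 IH) (Lpn (LP (LK LD1_c7 LD2_c59 LD3_c31))))))))))))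
theorem f174575 : Led Lsl_bt (LP (LK LD1_c4 LD2_c32 LD3_c26)) = (LP (LK LD1_c9 LD2_c2 LD3_c26)) :=
  Lre_b IH (LK LD1_c4 LD2_c32 LD3_c26) (LK LD1_c9 LD2_c2 LD3_c26) Lrfl Lrfl
theorem f559746 : Led Lsl_gt (LP (LK LD1_c12 LD2_c8 LD3_c54)) = (LP (LK LD1_c9 LD2_c2 LD3_c28)) :=
  Lgr Lrot65 (Lpe (K40.f60731 IH) (Lpr_bt (K40.f559738 IH) (Lpe (K38.f161282 IH) (Lpe (K9.f40148 IH) (Lpr_ct (K9.f137994 IH) (Lpe (f552074 IH) (Lpe (f180391 IH) (Lpr_gf (K38.f547475 IH) (Lpe (f174575 IH) (Lpr_ct (K39.f174571 IH) (Lpn (LP (LK LD1_c9 LD2_c2 LD3_c28)))))))))))))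
theorem f588510 : Led Lsl_gt (LP (LK LD1_c20 LD2_c8 LD3_c15)) = (LP (LK LD1_c20 LD2_c18 LD3_c13)) :=
  Lgr Lrot94 (Lpr_cf (f423437 IH) (Lpr_gt (f181520 IH) (Lpr_dt (f588504 IH) (Lpr_gt (f559746 IH) (Lpr_dt (K38.f385554 IH) (Lpe (K39.f411893 IH) (Lpe (K30.f411672 IH) (Lpr_gf (K30.f411668 IH) (Lpr_df (K31.f385244 IH) (Lpn (LP (LK LD1_c20 LD2_c18 LD3_c13))))))))))))
theorem f269014 : Led Lsl_ff (LP (LK LD1_c5 LD2_c41 LD3_c32)) = (LP (LK LD1_c9 LD2_c2 LD3_c31)) :=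
  Lgr Lrot30 (Lpr_at (K39.f181654 IH) (Lpr_ft (K16.f269009 IH) (Lpr_at (K16.f181365 IH) (Lpn (LP (LK LD1_c9 LD2_c2 LD3_c31))))))
theorem f181686 : Led Lsl_gt (LP (LK LD1_c5 LD2_c41 LD3_c41)) = (LP (LK LD1_c2 LD2_c46 LD3_c53)) :=
  Lre_g IH (LK LD1_c5 LD2_c41 LD3_c41) (LK LD1_c2 LD2_c46 LD3_c53) Lrfl Lrfl
theorem f411856 : Led Lsl_gf (LP (LK LD1_c5 LD2_c41 LD3_c41)) = (LP (LK LD1_c9 LD2_c2 LD3_c31)) :=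
  Lgr Lrot47 (Lpr_gt (f181686 IH) (Lpe (K39.f181654 IH) (Lpr_ff (f269014 IH) (Lpn (LP (LK LD1_c9 LD2_c2 LD3_c31))))))
theorem f541655 : Led Lsl_gt (LP (LK LD1_c6 LD2_c14 LD3_c21)) = (LP (LK LD1_c3 LD2_c58 LD3_c52)) :=
  Lgr Lrot5 (Lpr_ft (K2.f56480 IH) (Lpr_at (K2.f60644 IH) (Lpr_gf (K35.f541561 IH) (Lpn (LP (LK LD1_c3 LD2_c58 LD3_c52))))))
theorem f588512 : Led Lsl_dt (LP (LK LD1_c5 LD2_c41 LD3_c41)) = (LP (LK LD1_c6 LD2_c14 LD3_c21)) :=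
  Lgr Lrot57 (Lpr_gf (f411856 IH) (Lpe (K16.f268991 IH) (Lpe (K38.f281768 IH) (Lpr_dt (K39.f281770 IH) (Lpr_gt (f588510 IH) (Lpe (K31.f385244 IH) (Lpe (K30.f39896 IH) (Lpr_df (K30.f193571 IH) (Lpe (f541655 IH) (Lpn (LP (LK LD1_c6 LD2_c14 LD3_c21))))))))))))
theorem f411906 : Led Lsl_dt (LP (LK LD1_c5 LD2_c41 LD3_c53)) = (LP (LK LD1_c11 LD2_c13 LD3_c61)) :=
  Lre_d IH (LK LD1_c5 LD2_c41 LD3_c53) (LK LD1_c11 LD2_c13 LD3_c61) Lrfl Lrfl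
theorem f60824 : Led Lsl_ft (LP (LK LD1_c3 LD2_c4 LD3_c50)) = (LP (LK LD1_c1 LD2_c28 LD3_c27)) :=
  Lre_f IH (LK LD1_c3 LD2_c4 LD3_c50) (LK LD1_c1 LD2_c28 LD3_c27) Lrfl Lrfl
theorem f269028 : Led Lsl_ct (LP (LK LD1_c11 LD2_c13 LD3_c30)) = (LP (LK LD1_c5 LD2_c41 LD3_c40)) :=
  Lre_c IH (LK LD1_c11 LD2_c13 LD3_c30) (LK LD1_c5 LD2_c41 LD3_c40) Lrfl Lrfl
theorem f549898 : Led Lsl_dt (LP (LK LD1_c20 LD2_c8 LD3_c8)) = (LP (LK LD1_c11 LD2_c13 LD3_c30)) :=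
  Lre_d IH (LK LD1_c20 LD2_c8 LD3_c8) (LK LD1_c11 LD2_c13 LD3_c30) Lrfl Lrfl
theorem f549903 : Led Lsl_ct (LP (LK LD1_c11 LD2_c13 LD3_c61)) = (LP (LK LD1_c20 LD2_c8 LD3_c8)) :=
  Lgr Lrot41 (Lpe (f411906 IH) (Lpr_cf (K37.f542232 IH) (Lpe (K37.f172225 IH) (Lpr_ft (f60824 IH) (Lpr_at (K35.f60785 IH) (Lpe (K2.f60872 IH) (Lpr_df (K38.f549894 IH) (Lpe (f269028 IH) (Lpe (f549898 IH) (Lpn (LP (LK LD1_c20 LD2_c8 LD3_c8))))))))))))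
theorem f549896 : Led Lsl_at (LP (LK LD1_c6 LD2_c14 LD3_c20)) = (LP (LK LD1_c5 LD2_c41 LD3_c40)) :=
  Lgr Lrot51 (Lpe (K39.f60879 IH) (Lpe (K35.f60695 IH) (Lpr_df (K38.f549894 IH) (Lpn (LP (LK LD1_c5 LD2_c41 LD3_c40))))))
theorem f588534 : Led Lsl_ft (LP (LK LD1_c5 LD2_c41 LD3_c41)) = (LP (LK LD1_c6 LD2_c14 LD3_c20)) :=
  Lgr Lrot142 (Lpr_dt (f588512 IH) (Lpr_ct (K38.f60436 IH) (Lpr_dt (K37.f172225 IH) (Lpe (K37.f542232 IH) (Lpr_dt (f411906 IH) (Lpr_ct (f549903 IH) (Lpr_dt (f549898 IH) (Lpr_ct (f269028 IH) (Lpe (f549896 IH) (Lpn (LP (LK LD1_c6 LD2_c14 LD3_c20))))))))))))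
theorem f281780 : Led Lsl_ct (LP (LK LD1_c11 LD2_c13 LD3_c32)) = (LP (LK LD1_c5 LD2_c41 LD3_c41)) :=
  Lre_c IH (LK LD1_c11 LD2_c13 LD3_c32) (LK LD1_c5 LD2_c41 LD3_c41) Lrfl Lrfl
theorem f60880 : Led Lsl_ct (LP (LK LD1_c6 LD2_c14 LD3_c20)) = (LP (LK LD1_c12 LD2_c7 LD3_c4)) :=
  Lre_c IH (LK LD1_c6 LD2_c14 LD3_c20) (LK LD1_c12 LD2_c7 LD3_c4) Lrfl Lrfl
theorem f588620 : Led Lsl_ff (LP (LK LD1_c11 LD2_c13 LD3_c32)) = (LP (LK LD1_c12 LD2_c7 LD3_c4)) :=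
  Lgr Lrot23 (Lpr_ct (f281780 IH) (Lpr_ft (f588534 IH) (Lpr_ct (f60880 IH) (Lpn (LP (LK LD1_c12 LD2_c7 LD3_c4))))))
theorem f559568 : Led Lsl_gt (LP (LK LD1_c12 LD2_c7 LD3_c4)) = (LP (LK LD1_c17 LD2_c55 LD3_c6)) :=
  Lgr Lrot150 (Lpe (f60880 IH) (Lpr_gf (f551687 IH) (Lpe (K30.f269069 IH) (Lpr_gt (K30.f281785 IH) (Lpr_ct (K30.f281788 IH) (Lpr_gt (K40.f559559 IH) (Lpr_ct (K31.f40184 IH) (Lpe (K39.f181511 IH) (Lpe (f181495 IH) (Lpn (LP (LK LD1_c17 LD2_c55 LD3_c6))))))))))))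
theorem f588625 : Led Lsl_at (LP (LK LD1_c11 LD2_c13 LD3_c32)) = (LP (LK LD1_c16 LD2_c52 LD3_c59)) :=
  Lgr Lrot26 (Lpr_ff (f588620 IH) (Lpr_gt (f559568 IH) (Lpe (K40.f559754 IH) (Lpn (LP (LK LD1_c16 LD2_c52 LD3_c59))))))
theorem f588627 : Led Lsl_af (LP (LK LD1_c11 LD2_c13 LD3_c32)) = (LP (LK LD1_c16 LD2_c52 LD3_c59)) :=
  Lgr Lrot0 (Lpr_at (f588625 IH) (Lpn (LP (LK LD1_c16 LD2_c52 LD3_c59))))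
theorem f411858 : Led Lsl_ct (LP (LK LD1_c5 LD2_c41 LD3_c41)) = (LP (LK LD1_c11 LD2_c13 LD3_c32)) :=
  Lre_c IH (LK LD1_c5 LD2_c41 LD3_c41) (LK LD1_c11 LD2_c13 LD3_c32) Lrfl Lrfl
theorem f588528 : Led Lsl_df (LP (LK LD1_c5 LD2_c41 LD3_c41)) = (LP (LK LD1_c6 LD2_c14 LD3_c21)) :=
  Lgr Lrot38 (Lpr_dt (f588512 IH) (Lpn (LP (LK LD1_c6 LD2_c14 LD3_c21))))
theorem f411862 : Led Lsl_dt (LP (LK LD1_c11 LD2_c13 LD3_c61)) = (LP (LK LD1_c5 LD2_c41 LD3_c53)) :=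
  Lre_d IH (LK LD1_c11 LD2_c13 LD3_c61) (LK LD1_c5 LD2_c41 LD3_c53) Lrfl Lrfl
theorem f551552 : Led Lsl_cf (LP (LK LD1_c9 LD2_c44 LD3_c44)) = (LP (LK LD1_c16 LD2_c53 LD3_c0)) :=
  Lgr Lrot11 (Lpr_ct (K39.f551550 IH) (Lpn (LP (LK LD1_c16 LD2_c53 LD3_c0))))
theorem f571106 : Led Lsl_gt (LP (LK LD1_c9 LD2_c44 LD3_c44)) = (LP (LK LD1_c15 LD2_c7 LD3_c10)) :=
  Lgr Lrot94 (Lpr_cf (f551552 IH) (Lpr_gt (K39.f181361 IH) (Lpr_dt (K31.f268995 IH) (Lpe (K30.f411673 IH) (Lpr_dt (K30.f181309 IH) (Lpe (K39.f181303 IH) (Lpe (K30.f181306 IH) (Lpr_gf (K42.f571101 IH) (Lpe (f571105 IH) (Lpn (LP (LK LD1_c15 LD2_c7 LD3_c10))))))))))))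
theorem f588538 : Led Lsl_gf (LP (LK LD1_c11 LD2_c13 LD3_c32)) = (LP (LK LD1_c20 LD2_c8 LD3_c5)) :=
  Lgr Lrot172 (Lpr_ct (f281780 IH) (Lpr_dt (f588512 IH) (Lpr_cf (K2.f60796 IH) (Lpe (K39.f60759 IH) (Lpr_cf (K39.f556177 IH) (Lpe (K39.f556184 IH) (Lpr_dt (K39.f386171 IH) (Lpr_gt (f571106 IH) (Lpe (K39.f554450 IH) (Lpn (LP (LK LD1_c20 LD2_c8 LD3_c5))))))))))))
theorem f588633 : Led Lsl_ft (LP (LK LD1_c11 LD2_c13 LD3_c30)) = (LP (LK LD1_c16 LD2_c52 LD3_c59)) :=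
  Lgr Lrot2 (Lpr_gt (K39.f181684 IH) (Lpe (f588538 IH) (Lpr_af (f588627 IH) (Lpn (LP (LK LD1_c16 LD2_c52 LD3_c59))))))
theorem f561635 : Led Lsl_dt (LP (LK LD1_c11 LD2_c13 LD3_c30)) = (LP (LK LD1_c20 LD2_c8 LD3_c8)) :=
  Lre_d IH (LK LD1_c11 LD2_c13 LD3_c30) (LK LD1_c20 LD2_c8 LD3_c8) Lrfl Lrfl
theorem f588635 : Led Lsl_cf (LP (LK LD1_c11 LD2_c13 LD3_c61)) = (LP (LK LD1_c20 LD2_c8 LD3_c8)) :=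
  Lgr Lrot118 (Lpr_dt (f411862 IH) (Lpr_ct (K38.f542230 IH) (Lpe (K39.f172156 IH) (Lpe (K2.f60796 IH) (Lpe (f588528 IH) (Lpr_ct (f411858 IH) (Lpr_af (f588627 IH) (Lpe (f588633 IH) (Lpr_dt (f561635 IH) (Lpn (LP (LK LD1_c20 LD2_c8 LD3_c8))))))))))))
theorem f73400 : Led Lsl_ft (LP (LK LD1_c8 LD2_c10 LD3_c31)) = (LP (LK LD1_c4 LD2_c4 LD3_c54)) :=
  Lre_f IH (LK LD1_c8 LD2_c10 LD3_c31) (LK LD1_c4 LD2_c4 LD3_c54) Lrfl Lrfl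
theorem f557136 : Led Lsl_ff (LP (LK LD1_c4 LD2_c56 LD3_c34)) = (LP (LK LD1_c6 LD2_c14 LD3_c16)) :=
  Lgr Lrot72 (Lpr_et (K39.f557128 IH) (Lpr_ft (f73400 IH) (Lpr_et (K2.f73392 IH) (Lpe (K4.f73410 IH) (Lpr_et (K2.f60652 IH) (Lpn (LP (LK LD1_c6 LD2_c14 LD3_c16))))))))
theorem f588644 : Led Lsl_af (LP (LK LD1_c6 LD2_c14 LD3_c21)) = (LP (LK LD1_c4 LD2_c56 LD3_c34)) :=
  Lgr Lrot109 (Lpr_cf (K2.f60796 IH) (Lpr_df (K39.f172156 IH) (Lpe (K38.f542230 IH) (Lpe (f411862 IH) (Lpr_cf (f588635 IH) (Lpe (f561635 IH) (Lpe (K39.f181683 IH) (Lpe (K39.f549899 IH) (Lpe (f557136 IH) (Lpn (LP (LK LD1_c4 LD2_c56 LD3_c34))))))))))))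
theorem f60277 : Led Lsl_bt (LP (LK LD1_c2 LD2_c49 LD3_c2)) = (LP (LK LD1_c5 LD2_c46 LD3_c31)) :=
  Lre_b IH (LK LD1_c2 LD2_c49 LD3_c2) (LK LD1_c5 LD2_c46 LD3_c31) Lrfl Lrfl
theorem f588646 : Led Lsl_at (LP (LK LD1_c5 LD2_c46 LD3_c31)) = (LP (LK LD1_c4 LD2_c56 LD3_c58)) :=
  Lgr Lrot67 (Lpe (f60277 IH) (Lpe (K39.f60432 IH) (Lpe (K39.f56472 IH) (Lpr_af (f588644 IH) (Lpr_bf (K40.f419021 IH) (Lpn (LP (LK LD1_c4 LD2_c56 LD3_c58))))))))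
theorem f60283 : Led Lsl_ft (LP (LK LD1_c2 LD2_c48 LD3_c59)) = (LP (LK LD1_c5 LD2_c46 LD3_c31)) :=
  Lre_f IH (LK LD1_c2 LD2_c48 LD3_c59) (LK LD1_c5 LD2_c46 LD3_c31) Lrfl Lrfl
theorem f99750 : Led Lsl_gt (LP (LK LD1_c2 LD2_c48 LD3_c59)) = (LP (LK LD1_c5 LD2_c46 LD3_c28)) :=
  Lre_g IH (LK LD1_c2 LD2_c48 LD3_c59) (LK LD1_c5 LD2_c46 LD3_c28) Lrfl Lrfl
theorem f588652 : Led Lsl_gt (LP (LK LD1_c5 LD2_c46 LD3_c28)) = (LP (LK LD1_c4 LD2_c56 LD3_c58)) :=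
  Lgr Lrot46 (Lpe (f99750 IH) (Lpr_ft (f60283 IH) (Lpr_at (f588646 IH) (Lpn (LP (LK LD1_c4 LD2_c56 LD3_c58))))))
theorem f241300 : Led Lsl_bt (LP (LK LD1_c11 LD2_c23 LD3_c9)) = (LP (LK LD1_c5 LD2_c46 LD3_c28)) :=
  Lre_b IH (LK LD1_c11 LD2_c23 LD3_c9) (LK LD1_c5 LD2_c46 LD3_c28) Lrfl Lrfl
theorem f588660 : Led Lsl_ct (LP (LK LD1_c11 LD2_c23 LD3_c9)) = (LP (LK LD1_c9 LD2_c44 LD3_c33)) :=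
  Lgr Lrot10 (Lpr_bt (f241300 IH) (Lpr_gt (f588652 IH) (Lpr_ct (K40.f168267 IH) (Lpr_gt (K38.f56551 IH) (Lpe (K38.f56555 IH) (Lpr_bt (K30.f168310 IH) (Lpe (K11.f211153 IH) (Lpe (K39.f211130 IH) (Lpe (K43.f211151 IH) (Lpr_gt (K44.f239163 IH) (Lpn (LP (LK LD1_c9 LD2_c44 LD3_c33)))))))))))))
theorem f554470 : Led Lsl_at (LP (LK LD1_c8 LD2_c45 LD3_c28)) = (LP (LK LD1_c8 LD2_c43 LD3_c42)) :=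
  Lgr Lrot107 (Lpe (K39.f70037 IH) (Lpr_af (K39.f554466 IH) (Lpe (f238972 IH) (Lpn (LP (LK LD1_c8 LD2_c43 LD3_c42))))))
theorem f70002 : Led Lsl_ft (LP (LK LD1_c15 LD2_c13 LD3_c42)) = (LP (LK LD1_c8 LD2_c45 LD3_c28)) :=
  Lgr Lrot75 (Lpe (K40.f69831 IH) (Lpr_ff (K2.f69997 IH) (Lpe (K39.f70001 IH) (Lpn (LP (LK LD1_c8 LD2_c45 LD3_c28))))))
theorem f588349 : Led Lsl_gf (LP (LK LD1_c15 LD2_c7 LD3_c6)) = (LP (LK LD1_c15 LD2_c13 LD3_c42)) :=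
  Lgr Lrot47 (Lpr_gt (f588344 IH) (Lpe (f554470 IH) (Lpe (f70002 IH) (Lpn (LP (LK LD1_c15 LD2_c13 LD3_c42))))))
theorem f587273 : Led Lsl_dt (LP (LK LD1_c15 LD2_c7 LD3_c6)) = (LP (LK LD1_c8 LD2_c1 LD3_c45)) :=
  Lre_d IH (LK LD1_c15 LD2_c7 LD3_c6) (LK LD1_c8 LD2_c1 LD3_c45) Lrfl Lrfl
theorem f572109 : Led Lsl_dt (LP (LK LD1_c8 LD2_c44 LD3_c18)) = (LP (LK LD1_c4 LD2_c23 LD3_c18)) :=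
  Lre_d IH (LK LD1_c8 LD2_c44 LD3_c18) (LK LD1_c4 LD2_c23 LD3_c18) Lrfl Lrfl
theorem f588667 : Led Lsl_gt (LP (LK LD1_c11 LD2_c23 LD3_c9)) = (LP (LK LD1_c19 LD2_c59 LD3_c37)) :=
  Lgr Lrot180 (Lpr_ct (f588660 IH) (Lpe (K44.f557111 IH) (Lpr_dt (f69782 IH) (Lpe (f588349 IH) (Lpr_dt (f587273 IH) (Lpr_ct (f588338 IH) (Lpe (f572109 IH) (Lpe (f572113 IH) (Lpr_df (f587269 IH) (Lpn (LP (LK LD1_c19 LD2_c59 LD3_c37))))))))))))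
theorem f588662 : Led Lsl_bt (LP (LK LD1_c5 LD2_c46 LD3_c28)) = (LP (LK LD1_c11 LD2_c23 LD3_c9)) :=
  Lre_b IH (LK LD1_c5 LD2_c46 LD3_c28) (LK LD1_c11 LD2_c23 LD3_c9) Lrfl Lrfl
theorem f552347 : Led Lsl_bt (LP (LK LD1_c8 LD2_c5 LD3_c2)) = (LP (LK LD1_c5 LD2_c37 LD3_c39)) :=
  Lgr Lrot127 (Lpr_bf (K39.f552345 IH) (Lpn (LP (LK LD1_c5 LD2_c37 LD3_c39))))
theorem f59416 : Led Lsl_ft (LP (LK LD1_c9 LD2_c19 LD3_c49)) = (LP (LK LD1_c4 LD2_c42 LD3_c53)) :=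
  Lre_f IH (LK LD1_c9 LD2_c19 LD3_c49) (LK LD1_c4 LD2_c42 LD3_c53) Lrfl Lrfl
theorem f132926 : Led Lsl_dt (LP (LK LD1_c3 LD2_c4 LD3_c58)) = (LP (LK LD1_c6 LD2_c15 LD3_c43)) :=
  Lre_d IH (LK LD1_c3 LD2_c4 LD3_c58) (LK LD1_c6 LD2_c15 LD3_c43) Lrfl Lrfl
theorem f132927 : Led Lsl_af (LP (LK LD1_c3 LD2_c4 LD3_c58)) = (LP (LK LD1_c4 LD2_c42 LD3_c53)) :=
  Lgr Lrot117 (Lpr_dt (f132926 IH) (Lpr_at (K6.f132913 IH) (Lpr_dt (K39.f59413 IH) (Lpn (LP (LK LD1_c4 LD2_c42 LD3_c53))))))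
theorem f552392 : Led Lsl_gf (LP (LK LD1_c3 LD2_c4 LD3_c58)) = (LP (LK LD1_c5 LD2_c37 LD3_c39)) :=
  Lgr Lrot76 (Lpr_af (f132927 IH) (Lpe (f59416 IH) (Lpr_gt (K39.f552389 IH) (Lpn (LP (LK LD1_c5 LD2_c37 LD3_c39))))))
theorem f132601 : Led Lsl_et (LP (LK LD1_c3 LD2_c4 LD3_c58)) = (LP (LK LD1_c1 LD2_c28 LD3_c32)) :=
  Lre_e IH (LK LD1_c3 LD2_c4 LD3_c58) (LK LD1_c1 LD2_c28 LD3_c32) Lrfl Lrfl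
theorem f547573 : Led Lsl_bt (LP (LK LD1_c4 LD2_c22 LD3_c30)) = (LP (LK LD1_c3 LD2_c4 LD3_c58)) :=
  Lgr Lrot119 (Lpr_ef (K38.f547571 IH) (Lpe (K5.f59366 IH) (Lpe (f132601 IH) (Lpn (LP (LK LD1_c3 LD2_c4 LD3_c58))))))
theorem f419038 : Led Lsl_bt (LP (LK LD1_c4 LD2_c19 LD3_c52)) = (LP (LK LD1_c8 LD2_c37 LD3_c41)) :=
  Lre_b IH (LK LD1_c4 LD2_c19 LD3_c52) (LK LD1_c8 LD2_c37 LD3_c41) Lrfl Lrfl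
theorem f556759 : Led Lsl_bt (LP (LK LD1_c3 LD2_c5 LD3_c1)) = (LP (LK LD1_c2 LD2_c44 LD3_c52)) :=
  Lgr Lrot127 (Lpr_bf (K39.f556755 IH) (Lpn (LP (LK LD1_c2 LD2_c44 LD3_c52))))
theorem f494265 : Led Lsl_cf (LP (LK LD1_c3 LD2_c4 LD3_c53)) = K38.v1243 :=
  Lgr Lrot39 (Lpr_et (K40.f117888 IH) (Lpe (K11.f132484 IH) (Lpr_et (K38.f494263 IH) (Lpn K38.v1243))))
theorem f561553 : Led Lsl_gf (LP (LK LD1_c8 LD2_c37 LD3_c41)) = (LP (LK LD1_c4 LD2_c31 LD3_c40)) :=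
  Lgr Lrot124 (Lpe (f419038 IH) (Lpr_ct (K40.f225662 IH) (Lpr_gt (K40.f561545 IH) (Lpe (K6.f132949 IH) (Lpr_bt (f556759 IH) (Lpr_gt (K39.f211965 IH) (Lpr_ct (K40.f382483 IH) (Lpe (K40.f544923 IH) (Lpr_cf (f494265 IH) (Lpqs (K38.f544926 IH) (Lpr_bt (K39.f178965 IH) (Lpn (LP (LK LD1_c4 LD2_c31 LD3_c40))))))))))))))
theorem f588708 : Led Lsl_ct (LP (LK LD1_c5 LD2_c46 LD3_c28)) = (LP (LK LD1_c8 LD2_c37 LD3_c41)) :=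
  Lgr Lrot10 (Lpr_bt (f588662 IH) (Lpr_gt (f588667 IH) (Lpr_ct (f587253 IH) (Lpr_gt (f587302 IH) (Lpe (K42.f158642 IH) (Lpr_bt (f552347 IH) (Lpe (f552392 IH) (Lpe (f547573 IH) (Lpe (K39.f178966 IH) (Lpe (f561553 IH) (Lpn (LP (LK LD1_c8 LD2_c37 LD3_c41)))))))))))))
theorem f40848 : Led Lsl_bt (LP (LK LD1_c1 LD2_c56 LD3_c21)) = (LP (LK LD1_c3 LD2_c59 LD3_c10)) :=
  Lre_b IH (LK LD1_c1 LD2_c56 LD3_c21) (LK LD1_c3 LD2_c59 LD3_c10) Lrfl Lrfl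
theorem f168546 : Led Lsl_bt (LP (LK LD1_c15 LD2_c4 LD3_c6)) = (LP (LK LD1_c7 LD2_c59 LD3_c29)) :=
  Lre_b IH (LK LD1_c15 LD2_c4 LD3_c6) (LK LD1_c7 LD2_c59 LD3_c29) Lrfl Lrfl
theorem f422925 : Led Lsl_cf (LP (LK LD1_c11 LD2_c15 LD3_c7)) = (LP (LK LD1_c15 LD2_c4 LD3_c6)) :=
  Lgr Lrot163 (Lpe (f422921 IH) (Lpe (K31.f172845 IH) (Lpr_gf (K31.f422914 IH) (Lpe (K18.f168220 IH) (Lpe (K9.f172399 IH) (Lpe (K9.f168092 IH) (Lpe (K12.f40851 IH) (Lpr_bt (f40848 IH) (Lpe (K42.f101554 IH) (Lpe (f168546 IH) (Lpn (LP (LK LD1_c15 LD2_c4 LD3_c6)))))))))))))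
theorem f422929 : Led Lsl_ct (LP (LK LD1_c11 LD2_c15 LD3_c7)) = (LP (LK LD1_c15 LD2_c4 LD3_c6)) :=
  Lgr Lrot59 (Lpr_cf (f422925 IH) (Lpn (LP (LK LD1_c15 LD2_c4 LD3_c6))))
theorem f588716 : Led Lsl_dt (LP (LK LD1_c15 LD2_c4 LD3_c6)) = (LP (LK LD1_c8 LD2_c37 LD3_c41)) :=
  Lgr Lrot27 (Lpe (f422929 IH) (Lpe (f422921 IH) (Lpe (K31.f172845 IH) (Lpr_gf (K31.f422914 IH) (Lpe (K18.f168246 IH) (Lpqs (K39.f547709 IH) (Lpe (K39.f495976 IH) (Lpr_ct (K39.f175477 IH) (Lpr_gt (f99750 IH) (Lpr_ct (f588708 IH) (Lpn (LP (LK LD1_c8 LD2_c37 LD3_c41)))))))))))))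
theorem f566622 : Led Lsl_ct (LP (LK LD1_c5 LD2_c37 LD3_c51)) = (LP (LK LD1_c4 LD2_c22 LD3_c29)) :=
  Lgr Lrot7 (Lpe (K41.f566621 IH) (Lpr_gf (K41.f566614 IH) (Lpe (K41.f382087 IH) (Lpr_gf (K31.f382084 IH) (Lpe (K31.f280501 IH) (Lpr_gt (K30.f172854 IH) (Lpr_dt (K16.f172833 IH) (Lpr_gt (K38.f172762 IH) (Lpr_dt (K41.f549594 IH) (Lpn (LP (LK LD1_c4 LD2_c22 LD3_c29))))))))))))
theorem f588714 : Led Lsl_gf (LP (LK LD1_c5 LD2_c37 LD3_c51)) = (LP (LK LD1_c8 LD2_c37 LD3_c41)) :=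
  Lgr Lrot104 (Lpr_ct (f566622 IH) (Lpe (K41.f549594 IH) (Lpe (K41.f269680 IH) (Lpe (K41.f418020 IH) (Lpe (K42.f552665 IH) (Lpe (K39.f60609 IH) (Lpe (K39.f206806 IH) (Lpr_gt (f99750 IH) (Lpr_ct (f588708 IH) (Lpn (LP (LK LD1_c8 LD2_c37 LD3_c41))))))))))))
theorem f588722 : Led Lsl_gt (LP (LK LD1_c15 LD2_c4 LD3_c6)) = (LP (LK LD1_c11 LD2_c7 LD3_c31)) :=
  Lgr Lrot146 (Lpr_dt (f588716 IH) (Lpe (f588714 IH) (Lpr_ct (f566622 IH) (Lpr_gt (K38.f407096 IH) (Lpr_ct (K30.f168282 IH) (Lpr_dt (K18.f168276 IH) (Lpe (K18.f168274 IH) (Lpe (K31.f385437 IH) (Lpr_cf (K31.f422965 IH) (Lpn (LP (LK LD1_c11 LD2_c7 LD3_c31))))))))))))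
theorem f422922 : Led Lsl_dt (LP (LK LD1_c5 LD2_c42 LD3_c28)) = (LP (LK LD1_c11 LD2_c15 LD3_c10)) :=
  Lre_d IH (LK LD1_c5 LD2_c42 LD3_c28) (LK LD1_c11 LD2_c15 LD3_c10) Lrfl Lrfl
theorem f588724 : Led Lsl_gt (LP (LK LD1_c26 LD2_c19 LD3_c47)) = (LP (LK LD1_c26 LD2_c17 LD3_c29)) :=
  Lgr Lrot150 (Lpr_cf (K43.f579296 IH) (Lpe (K36.f422933 IH) (Lpe (f422922 IH) (Lpr_gt (f422921 IH) (Lpr_ct (f422929 IH) (Lpr_gt (f588722 IH) (Lpe (K31.f422965 IH) (Lpr_df (K31.f398607 IH) (Lpe (K31.f398521 IH) (Lpn (LP (LK LD1_c26 LD2_c17 LD3_c29))))))))))))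
theorem f588726 : Led Lsl_gf (LP (LK LD1_c26 LD2_c19 LD3_c47)) = (LP (LK LD1_c26 LD2_c17 LD3_c23)) :=
  Lgr Lrot47 (Lpr_gt (f588724 IH) (Lpe (K41.f423735 IH) (Lpr_ff (K41.f424097 IH) (Lpn (LP (LK LD1_c26 LD2_c17 LD3_c23))))))
theorem f280476 : Led Lsl_ct (LP (LK LD1_c16 LD2_c20 LD3_c38)) = (LP (LK LD1_c8 LD2_c43 LD3_c37)) :=
  Lre_c IH (LK LD1_c16 LD2_c20 LD3_c38) (LK LD1_c8 LD2_c43 LD3_c37) Lrfl Lrfl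
theorem f542240 : Led Lsl_ct (LP (LK LD1_c8 LD2_c44 LD3_c25)) = (LP (LK LD1_c16 LD2_c21 LD3_c44)) :=
  Lre_c IH (LK LD1_c8 LD2_c44 LD3_c25) (LK LD1_c16 LD2_c21 LD3_c44) Lrfl Lrfl
theorem f574023 : Led Lsl_gf (LP (LK LD1_c16 LD2_c20 LD3_c38)) = (LP (LK LD1_c16 LD2_c21 LD3_c44)) :=
  Lgr Lrot104 (Lpr_ct (f280476 IH) (Lpr_df (K39.f549664 IH) (Lpe (K39.f211850 IH) (Lpe (K39.f211852 IH) (Lpr_cf (K43.f574021 IH) (Lpe (K41.f562296 IH) (Lpe (K38.f549601 IH) (Lpr_gt (K41.f552588 IH) (Lpr_ct (f542240 IH) (Lpn (LP (LK LD1_c16 LD2_c21 LD3_c44))))))))))))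
theorem f174511 : Led Lsl_gt (LP (LK LD1_c4 LD2_c32 LD3_c14)) = (LP (LK LD1_c9 LD2_c2 LD3_c5)) :=
  Lre_g IH (LK LD1_c4 LD2_c32 LD3_c14) (LK LD1_c9 LD2_c2 LD3_c5) Lrfl Lrfl
theorem f588729 : Led Lsl_df (LP (LK LD1_c11 LD2_c21 LD3_c20)) = (LP (LK LD1_c9 LD2_c2 LD3_c5)) :=
  Lgr Lrot84 (Lpe (K43.f385842 IH) (Lpr_df (K43.f579283 IH) (Lpr_gf (f574023 IH) (Lpe (K43.f542239 IH) (Lpr_gf (f588726 IH) (Lpr_cf (K31.f398588 IH) (Lpr_gt (K31.f174487 IH) (Lpr_dt (K20.f174468 IH) (Lpr_gt (f174511 IH) (Lpn (LP (LK LD1_c9 LD2_c2 LD3_c5))))))))))))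
theorem f173340 : Led Lsl_at (LP (LK LD1_c16 LD2_c19 LD3_c26)) = (LP (LK LD1_c8 LD2_c42 LD3_c58)) :=
  Lre_a IH (LK LD1_c16 LD2_c19 LD3_c26) (LK LD1_c8 LD2_c42 LD3_c58) Lrfl Lrfl
theorem f385401 : Led Lsl_at (LP (LK LD1_c16 LD2_c19 LD3_c35)) = (LP (LK LD1_c11 LD2_c21 LD3_c22)) :=
  Lgr Lrot51 (Lpe (K18.f173339 IH) (Lpe (f173340 IH) (Lpr_df (K30.f385394 IH) (Lpn (LP (LK LD1_c11 LD2_c21 LD3_c22))))))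
theorem f173331 : Led Lsl_dt (LP (LK LD1_c16 LD2_c19 LD3_c35)) = (LP (LK LD1_c8 LD2_c42 LD3_c58)) :=
  Lre_d IH (LK LD1_c16 LD2_c19 LD3_c35) (LK LD1_c8 LD2_c42 LD3_c58) Lrfl Lrfl
theorem f168306 : Led Lsl_dt (LP (LK LD1_c9 LD2_c44 LD3_c59)) = (LP (LK LD1_c17 LD2_c54 LD3_c22)) :=
  Lre_d IH (LK LD1_c9 LD2_c44 LD3_c59) (LK LD1_c17 LD2_c54 LD3_c22) Lrfl Lrfl
theorem f297074 : Led Lsl_ff (LP (LK LD1_c16 LD2_c19 LD3_c35)) = (LP (LK LD1_c17 LD2_c54 LD3_c22)) :=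
  Lgr Lrot19 (Lpr_dt (f173331 IH) (Lpr_ft (K18.f297065 IH) (Lpr_dt (f168306 IH) (Lpn (LP (LK LD1_c17 LD2_c54 LD3_c22))))))
theorem f385400 : Led Lsl_gt (LP (LK LD1_c20 LD2_c19 LD3_c6)) = (LP (LK LD1_c11 LD2_c21 LD3_c22)) :=
  Lre_g IH (LK LD1_c20 LD2_c19 LD3_c6) (LK LD1_c11 LD2_c21 LD3_c22) Lrfl Lrfl
theorem f385855 : Led Lsl_gt (LP (LK LD1_c17 LD2_c54 LD3_c22)) = (LP (LK LD1_c20 LD2_c19 LD3_c6)) :=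
  Lgr Lrot5 (Lpe (f297074 IH) (Lpr_at (f385401 IH) (Lpe (f385400 IH) (Lpn (LP (LK LD1_c20 LD2_c19 LD3_c6))))))
theorem f280293 : Led Lsl_ff (LP (LK LD1_c2 LD2_c47 LD3_c25)) = (LP (LK LD1_c4 LD2_c32 LD3_c14)) :=
  Lgr Lrot23 (Lpr_ct (K31.f174233 IH) (Lpr_ft (K16.f280288 IH) (Lpr_ct (K20.f174457 IH) (Lpn (LP (LK LD1_c4 LD2_c32 LD3_c14))))))
theorem f280449 : Led Lsl_at (LP (LK LD1_c2 LD2_c47 LD3_c25)) = (LP (LK LD1_c5 LD2_c42 LD3_c35)) :=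
  Lre_a IH (LK LD1_c2 LD2_c47 LD3_c25) (LK LD1_c5 LD2_c42 LD3_c35) Lrfl Lrfl
theorem f281964 : Led Lsl_gf (LP (LK LD1_c5 LD2_c42 LD3_c35)) = (LP (LK LD1_c9 LD2_c2 LD3_c5)) :=
  Lgr Lrot76 (Lpe (f280449 IH) (Lpr_ff (f280293 IH) (Lpr_gt (f174511 IH) (Lpn (LP (LK LD1_c9 LD2_c2 LD3_c5))))))
theorem f588740 : Led Lsl_ct (LP (LK LD1_c20 LD2_c19 LD3_c6)) = (LP (LK LD1_c16 LD2_c52 LD3_c8)) :=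
  Lgr Lrot110 (Lpe (f385855 IH) (Lpe (K39.f385463 IH) (Lpr_gf (K43.f385840 IH) (Lpr_df (f588729 IH) (Lpe (f281964 IH) (Lpr_ct (K16.f268833 IH) (Lpr_gt (K38.f281913 IH) (Lpr_ct (f281915 IH) (Lpe (f281916 IH) (Lpn (LP (LK LD1_c16 LD2_c52 LD3_c8))))))))))))
theorem f281917 : Led Lsl_dt (LP (LK LD1_c9 LD2_c2 LD3_c3)) = (LP (LK LD1_c16 LD2_c52 LD3_c8)) :=
  Lre_d IH (LK LD1_c9 LD2_c2 LD3_c3) (LK LD1_c16 LD2_c52 LD3_c8) Lrfl Lrfl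
theorem f586887 : Led Lsl_ff (LP (LK LD1_c11 LD2_c15 LD3_c56)) = (LP (LK LD1_c16 LD2_c52 LD3_c8)) :=
  Lgr Lrot19 (Lpr_dt (K40.f281970 IH) (Lpr_ft (f586883 IH) (Lpr_dt (f281917 IH) (Lpn (LP (LK LD1_c16 LD2_c52 LD3_c8))))))
theorem f588751 : Led Lsl_ff (LP (LK LD1_c20 LD2_c19 LD3_c6)) = (LP (LK LD1_c20 LD2_c11 LD3_c1)) :=
  Lgr Lrot23 (Lpr_ct (f588740 IH) (Lpe (f586887 IH) (Lpe (K40.f423983 IH) (Lpn (LP (LK LD1_c20 LD2_c11 LD3_c1))))))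
theorem f561326 : Led Lsl_dt (LP (LK LD1_c20 LD2_c19 LD3_c6)) = (LP (LK LD1_c11 LD2_c23 LD3_c12)) :=
  Lgr Lrot57 (Lpe (f385855 IH) (Lpe (K39.f385463 IH) (Lpr_gt (K39.f385511 IH) (Lpr_dt (K40.f561313 IH) (Lpr_gt (K40.f174512 IH) (Lpr_dt (K20.f174494 IH) (Lpe (K16.f174492 IH) (Lpe (K16.f280377 IH) (Lpe (K39.f552657 IH) (Lpn (LP (LK LD1_c11 LD2_c23 LD3_c12))))))))))))
theorem f588766 : Led Lsl_ft (LP (LK LD1_c11 LD2_c23 LD3_c12)) = (LP (LK LD1_c11 LD2_c15 LD3_c39)) :=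
  Lgr Lrot54 (Lpe (f561326 IH) (Lpr_ff (f588751 IH) (Lpe (K40.f172828 IH) (Lpn (LP (LK LD1_c11 LD2_c15 LD3_c39))))))
theorem f588835 : Led Lsl_af (LP (LK LD1_c16 LD2_c20 LD3_c40)) = (LP (LK LD1_c11 LD2_c15 LD3_c39)) :=
  Lgr Lrot45 (Lpe (K40.f561304 IH) (Lpr_at (K40.f561296 IH) (Lpr_ft (f588766 IH) (Lpn (LP (LK LD1_c11 LD2_c15 LD3_c39))))))
theorem f588838 : Led Lsl_at (LP (LK LD1_c16 LD2_c20 LD3_c40)) = (LP (LK LD1_c11 LD2_c15 LD3_c39)) :=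
  Lgr Lrot100 (Lpr_af (f588835 IH) (Lpn (LP (LK LD1_c11 LD2_c15 LD3_c39))))
theorem f588768 : Led Lsl_ft (LP (LK LD1_c20 LD2_c19 LD3_c6)) = (LP (LK LD1_c20 LD2_c11 LD3_c1)) :=
  Lgr Lrot48 (Lpr_ff (f588751 IH) (Lpn (LP (LK LD1_c20 LD2_c11 LD3_c1))))
theorem f174475 : Led Lsl_ct (LP (LK LD1_c9 LD2_c2 LD3_c3)) = (LP (LK LD1_c4 LD2_c32 LD3_c13)) :=
  Lre_c IH (LK LD1_c9 LD2_c2 LD3_c3) (LK LD1_c4 LD2_c32 LD3_c13) Lrfl Lrfl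
theorem f549657 : Led Lsl_dt (LP (LK LD1_c4 LD2_c32 LD3_c13)) = (LP (LK LD1_c2 LD2_c26 LD3_c19)) :=
  Lgr Lrot42 (Lpr_df (K38.f549655 IH) (Lpn (LP (LK LD1_c2 LD2_c26 LD3_c19))))
theorem f587070 : Led Lsl_cf (LP (LK LD1_c16 LD2_c20 LD3_c40)) = (LP (LK LD1_c9 LD2_c45 LD3_c4)) :=
  Lgr Lrot169 (Lpr_gt (K39.f181748 IH) (Lpr_ct (K16.f181747 IH) (Lpe (K31.f181738 IH) (Lpr_cf (K16.f181731 IH) (Lpe (K31.f174474 IH) (Lpe (K31.f181749 IH) (Lpe (K36.f424016 IH) (Lpe (K39.f552652 IH) (Lpr_gt (f587062 IH) (Lpn (LP (LK LD1_c9 LD2_c45 LD3_c4))))))))))))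
theorem f588749 : Led Lsl_df (LP (LK LD1_c20 LD2_c19 LD3_c6)) = (LP (LK LD1_c11 LD2_c23 LD3_c12)) :=
  Lgr Lrot43 (Lpr_ct (f588740 IH) (Lpr_dt (f281916 IH) (Lpr_ct (f174475 IH) (Lpr_dt (f549657 IH) (Lpr_ct (K40.f168263 IH) (Lpr_dt (f419027 IH) (Lpe (f587070 IH) (Lpe (K39.f552679 IH) (Lpr_ct (K40.f561306 IH) (Lpr_dt (K40.f73060 IH) (Lpr_ct (K40.f73036 IH) (Lpr_dt (K40.f73043 IH) (Lpr_ct (K39.f175477 IH) (Lpr_dt (K39.f206806 IH) (Lpr_ct (K39.f197507 IH) (Lpn (LP (LK LD1_c11 LD2_c23 LD3_c12))))))))))))))))))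
theorem f588799 : Led Lsl_ff (LP (LK LD1_c11 LD2_c23 LD3_c12)) = (LP (LK LD1_c11 LD2_c15 LD3_c39)) :=
  Lgr Lrot19 (Lpe (f588749 IH) (Lpr_ft (f588768 IH) (Lpr_dt (K41.f280371 IH) (Lpn (LP (LK LD1_c11 LD2_c15 LD3_c39))))))
theorem f561298 : Led Lsl_af (LP (LK LD1_c11 LD2_c15 LD3_c40)) = (LP (LK LD1_c11 LD2_c23 LD3_c12)) :=
  Lgr Lrot0 (Lpr_at (K40.f561296 IH) (Lpn (LP (LK LD1_c11 LD2_c23 LD3_c12))))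
theorem f588848 : Led Lsl_ff (LP (LK LD1_c16 LD2_c20 LD3_c40)) = (LP (LK LD1_c11 LD2_c15 LD3_c40)) :=
  Lgr Lrot30 (Lpr_at (f588838 IH) (Lpe (f588799 IH) (Lpe (f561298 IH) (Lpn (LP (LK LD1_c11 LD2_c15 LD3_c40))))))
theorem f552698 : Led Lsl_cf (LP (LK LD1_c9 LD2_c45 LD3_c4)) = (LP (LK LD1_c16 LD2_c20 LD3_c40)) :=
  Lgr Lrot175 (Lpr_dt (f419025 IH) (Lpe (K40.f168263 IH) (Lpe (K38.f549649 IH) (Lpr_cf (K38.f547713 IH) (Lpr_gf (K38.f385374 IH) (Lpr_dt (K39.f552690 IH) (Lpe (K39.f418023 IH) (Lpr_ct (K16.f280380 IH) (Lpr_gt (K39.f281928 IH) (Lpn (LP (LK LD1_c16 LD2_c20 LD3_c40))))))))))))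
theorem f588852 : Led Lsl_ft (LP (LK LD1_c9 LD2_c45 LD3_c4)) = (LP (LK LD1_c11 LD2_c13 LD3_c29)) :=
  Lgr Lrot4 (Lpr_cf (f552698 IH) (Lpr_ff (f588848 IH) (Lpr_cf (K38.f269648 IH) (Lpn (LP (LK LD1_c11 LD2_c13 LD3_c29))))))
theorem f588856 : Led Lsl_ff (LP (LK LD1_c9 LD2_c45 LD3_c4)) = (LP (LK LD1_c11 LD2_c13 LD3_c29)) :=
  Lgr Lrot3 (Lpr_ft (f588852 IH) (Lpn (LP (LK LD1_c11 LD2_c13 LD3_c29))))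
theorem f587696 : Led Lsl_bf (LP (LK LD1_c9 LD2_c2 LD3_c36)) = (LP (LK LD1_c9 LD2_c45 LD3_c4)) :=
  Lgr Lrot156 (Lpe (K39.f269043 IH) (Lpe (K39.f181655 IH) (Lpr_ct (K39.f550037 IH) (Lpe (K39.f556238 IH) (Lpr_cf (K42.f556212 IH) (Lpr_bt (f587690 IH) (Lpe (K39.f418023 IH) (Lpr_ct (K16.f280380 IH) (Lpr_gt (K39.f281928 IH) (Lpr_cf (f587070 IH) (Lpn (LP (LK LD1_c9 LD2_c45 LD3_c4)))))))))))))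
theorem f588858 : Led Lsl_ft (LP (LK LD1_c9 LD2_c2 LD3_c36)) = (LP (LK LD1_c5 LD2_c41 LD3_c40)) :=
  Lgr Lrot75 (Lpr_bf (f587696 IH) (Lpr_ff (f588856 IH) (Lpe (K39.f269665 IH) (Lpn (LP (LK LD1_c5 LD2_c41 LD3_c40))))))
theorem f572069 : Led Lsl_df (LP (LK LD1_c11 LD2_c20 LD3_c51)) = (LP (LK LD1_c9 LD2_c2 LD3_c43)) :=
  Lgr Lrot38 (Lpr_dt (K42.f572065 IH) (Lpn (LP (LK LD1_c9 LD2_c2 LD3_c43))))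
theorem f386270 : Led Lsl_ct (LP (LK LD1_c11 LD2_c20 LD3_c51)) = (LP (LK LD1_c20 LD2_c18 LD3_c22)) :=
  Lre_c IH (LK LD1_c11 LD2_c20 LD3_c51) (LK LD1_c20 LD2_c18 LD3_c22) Lrfl Lrfl
theorem f60767 : Led Lsl_bt (LP (LK LD1_c6 LD2_c14 LD3_c20)) = (LP (LK LD1_c3 LD2_c4 LD3_c5)) :=
  Lre_b IH (LK LD1_c6 LD2_c14 LD3_c20) (LK LD1_c3 LD2_c4 LD3_c5) Lrfl Lrfl
theorem f561294 : Led Lsl_at (LP (LK LD1_c5 LD2_c41 LD3_c40)) = (LP (LK LD1_c6 LD2_c14 LD3_c20)) :=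
  Lgr Lrot67 (Lpe (K38.f181685 IH) (Lpr_af (K40.f561291 IH) (Lpe (K42.f60608 IH) (Lpe (K11.f60507 IH) (Lpe (f60767 IH) (Lpn (LP (LK LD1_c6 LD2_c14 LD3_c20))))))))
theorem f60789 : Led Lsl_ct (LP (LK LD1_c12 LD2_c7 LD3_c4)) = (LP (LK LD1_c6 LD2_c14 LD3_c20)) :=
  Lre_c IH (LK LD1_c12 LD2_c7 LD3_c4) (LK LD1_c6 LD2_c14 LD3_c20) Lrfl Lrfl
theorem f588863 : Led Lsl_dt (LP (LK LD1_c20 LD2_c18 LD3_c22)) = (LP (LK LD1_c12 LD2_c7 LD3_c4)) :=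
  Lgr Lrot120 (Lpe (f386270 IH) (Lpr_df (f572069 IH) (Lpe (K40.f411869 IH) (Lpe (K40.f561677 IH) (Lpr_cf (K40.f561687 IH) (Lpr_df (K40.f559756 IH) (Lpr_ft (f588858 IH) (Lpr_at (f561294 IH) (Lpe (f60789 IH) (Lpn (LP (LK LD1_c12 LD2_c7 LD3_c4))))))))))))
theorem f411859 : Led Lsl_dt (LP (LK LD1_c11 LD2_c13 LD3_c32)) = (LP (LK LD1_c20 LD2_c8 LD3_c10)) :=
  Lre_d IH (LK LD1_c11 LD2_c13 LD3_c32) (LK LD1_c20 LD2_c8 LD3_c10) Lrfl Lrfl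
theorem f588865 : Led Lsl_ff (LP (LK LD1_c20 LD2_c18 LD3_c22)) = (LP (LK LD1_c20 LD2_c8 LD3_c10)) :=
  Lgr Lrot19 (Lpr_dt (f588863 IH) (Lpe (f588620 IH) (Lpr_dt (f411859 IH) (Lpn (LP (LK LD1_c20 LD2_c8 LD3_c10))))))
theorem f386335 : Led Lsl_ct (LP (LK LD1_c20 LD2_c18 LD3_c22)) = (LP (LK LD1_c11 LD2_c20 LD3_c51)) :=
  Lre_c IH (LK LD1_c20 LD2_c18 LD3_c22) (LK LD1_c11 LD2_c20 LD3_c51) Lrfl Lrfl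
theorem f411860 : Led Lsl_dt (LP (LK LD1_c20 LD2_c8 LD3_c10)) = (LP (LK LD1_c11 LD2_c13 LD3_c32)) :=
  Lre_d IH (LK LD1_c20 LD2_c8 LD3_c10) (LK LD1_c11 LD2_c13 LD3_c32) Lrfl Lrfl
theorem f174385 : Led Lsl_dt (LP (LK LD1_c5 LD2_c41 LD3_c52)) = (LP (LK LD1_c11 LD2_c13 LD3_c58)) :=
  Lre_d IH (LK LD1_c5 LD2_c41 LD3_c52) (LK LD1_c11 LD2_c13 LD3_c58) Lrfl Lrfl
theorem f588526 : Led Lsl_cf (LP (LK LD1_c20 LD2_c8 LD3_c10)) = (LP (LK LD1_c11 LD2_c13 LD3_c58)) :=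
  Lgr Lrot55 (Lpr_dt (f411860 IH) (Lpr_ct (f281780 IH) (Lpr_dt (f588512 IH) (Lpr_ct (K38.f60436 IH) (Lpr_dt (K37.f172225 IH) (Lpe (K37.f542232 IH) (Lpr_dt (f411906 IH) (Lpr_ct (f549903 IH) (Lpr_dt (f549898 IH) (Lpr_ct (f269028 IH) (Lpe (K38.f549894 IH) (Lpr_ct (K2.f60872 IH) (Lpr_dt (K8.f60875 IH) (Lpr_ct (K40.f541666 IH) (Lpr_dt (f174385 IH) (Lpn (LP (LK LD1_c11 LD2_c13 LD3_c58))))))))))))))))))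
theorem f588869 : Led Lsl_ft (LP (LK LD1_c11 LD2_c20 LD3_c51)) = (LP (LK LD1_c11 LD2_c13 LD3_c58)) :=
  Lgr Lrot4 (Lpe (f386335 IH) (Lpr_ff (f588865 IH) (Lpr_cf (f588526 IH) (Lpn (LP (LK LD1_c11 LD2_c13 LD3_c58))))))
theorem f181375 : Led Lsl_ct (LP (LK LD1_c9 LD2_c2 LD3_c36)) = (LP (LK LD1_c16 LD2_c52 LD3_c59)) :=
  Lre_c IH (LK LD1_c9 LD2_c2 LD3_c36) (LK LD1_c16 LD2_c52 LD3_c59) Lrfl Lrfl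
theorem f385568 : Led Lsl_ff (LP (LK LD1_c11 LD2_c20 LD3_c43)) = (LP (LK LD1_c16 LD2_c56 LD3_c21)) :=
  Lgr Lrot23 (Lpr_ct (K31.f172636 IH) (Lpe (K31.f210458 IH) (Lpr_ct (K30.f385563 IH) (Lpn (LP (LK LD1_c16 LD2_c56 LD3_c21))))))
theorem f385570 : Led Lsl_at (LP (LK LD1_c11 LD2_c20 LD3_c43)) = (LP (LK LD1_c5 LD2_c45 LD3_c11)) :=
  Lre_a IH (LK LD1_c11 LD2_c20 LD3_c43) (LK LD1_c5 LD2_c45 LD3_c11) Lrfl Lrfl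
theorem f172691 : Led Lsl_gt (LP (LK LD1_c11 LD2_c20 LD3_c52)) = (LP (LK LD1_c5 LD2_c45 LD3_c11)) :=
  Lre_g IH (LK LD1_c11 LD2_c20 LD3_c52) (LK LD1_c5 LD2_c45 LD3_c11) Lrfl Lrfl
theorem f385573 : Led Lsl_gf (LP (LK LD1_c11 LD2_c20 LD3_c52)) = (LP (LK LD1_c16 LD2_c56 LD3_c21)) :=
  Lgr Lrot47 (Lpr_gt (f172691 IH) (Lpe (f385570 IH) (Lpr_ff (f385568 IH) (Lpn (LP (LK LD1_c16 LD2_c56 LD3_c21))))))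
theorem f588877 : Led Lsl_af (LP (LK LD1_c11 LD2_c20 LD3_c52)) = (LP (LK LD1_c11 LD2_c13 LD3_c58)) :=
  Lgr Lrot31 (Lpr_gf (f385573 IH) (Lpr_gf (K42.f386333 IH) (Lpr_ft (f588869 IH) (Lpn (LP (LK LD1_c11 LD2_c13 LD3_c58))))))
theorem f385576 : Led Lsl_ct (LP (LK LD1_c20 LD2_c18 LD3_c25)) = (LP (LK LD1_c11 LD2_c20 LD3_c52)) :=
  Lre_c IH (LK LD1_c20 LD2_c18 LD3_c25) (LK LD1_c11 LD2_c20 LD3_c52) Lrfl Lrfl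
theorem f588879 : Led Lsl_dt (LP (LK LD1_c16 LD2_c52 LD3_c59)) = (LP (LK LD1_c20 LD2_c18 LD3_c25)) :=
  Lgr Lrot120 (Lpe (f181375 IH) (Lpr_df (K39.f553773 IH) (Lpr_cf (K40.f557132 IH) (Lpr_df (K40.f561683 IH) (Lpr_cf (K40.f411877 IH) (Lpe (K42.f572065 IH) (Lpr_ft (f588869 IH) (Lpe (f588877 IH) (Lpe (f385576 IH) (Lpn (LP (LK LD1_c20 LD2_c18 LD3_c25))))))))))))
theorem f588883 : Led Lsl_ff (LP (LK LD1_c20 LD2_c8 LD3_c8)) = (LP (LK LD1_c20 LD2_c18 LD3_c25)) :=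
  Lgr Lrot19 (Lpr_dt (f549898 IH) (Lpr_ft (f588633 IH) (Lpr_dt (f588879 IH) (Lpn (LP (LK LD1_c20 LD2_c18 LD3_c25))))))
theorem f588891 : Led Lsl_ft (LP (LK LD1_c20 LD2_c8 LD3_c8)) = (LP (LK LD1_c20 LD2_c18 LD3_c25)) :=
  Lgr Lrot48 (Lpr_ff (f588883 IH) (Lpn (LP (LK LD1_c20 LD2_c18 LD3_c25))))
theorem f551571 : Led Lsl_df (LP (LK LD1_c2 LD2_c26 LD3_c9)) = (LP (LK LD1_c4 LD2_c32 LD3_c36)) :=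
  Lgr Lrot84 (Lpe (K39.f172692 IH) (Lpe (K39.f386170 IH) (Lpr_gf (K39.f551556 IH) (Lpe (K39.f181362 IH) (Lpr_gf (K39.f423602 IH) (Lpe (K30.f174543 IH) (Lpe (K30.f269080 IH) (Lpr_dt (K20.f269059 IH) (Lpr_gt (K42.f280557 IH) (Lpn (LP (LK LD1_c4 LD2_c32 LD3_c36))))))))))))
theorem f553760 : Led Lsl_df (LP (LK LD1_c11 LD2_c20 LD3_c52)) = (LP (LK LD1_c6 LD2_c15 LD3_c33)) :=
  Lgr Lrot153 (Lpr_gt (f172691 IH) (Lpr_dt (K39.f172610 IH) (Lpe (K30.f172685 IH) (Lpe (K30.f172543 IH) (Lpe (K36.f172629 IH) (Lpr_df (f551571 IH) (Lpe (K42.f280557 IH) (Lpe (K39.f269083 IH) (Lpr_gt (K39.f553747 IH) (Lpn (LP (LK LD1_c6 LD2_c15 LD3_c33))))))))))))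
theorem f385575 : Led Lsl_ct (LP (LK LD1_c11 LD2_c20 LD3_c52)) = (LP (LK LD1_c20 LD2_c18 LD3_c25)) :=
  Lre_c IH (LK LD1_c11 LD2_c20 LD3_c52) (LK LD1_c20 LD2_c18 LD3_c25) Lrfl Lrfl
theorem f561689 : Led Lsl_dt (LP (LK LD1_c20 LD2_c18 LD3_c25)) = (LP (LK LD1_c16 LD2_c52 LD3_c59)) :=
  Lgr Lrot140 (Lpe (f385575 IH) (Lpr_df (f553760 IH) (Lpe (K17.f60791 IH) (Lpe (K2.f60790 IH) (Lpr_ft (K2.f60795 IH) (Lpr_at (K43.f60814 IH) (Lpr_cf (K40.f561687 IH) (Lpr_df (K40.f559756 IH) (Lpe (K40.f269071 IH) (Lpn (LP (LK LD1_c16 LD2_c52 LD3_c59))))))))))))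
theorem f588895 : Led Lsl_ff (LP (LK LD1_c11 LD2_c13 LD3_c30)) = (LP (LK LD1_c16 LD2_c52 LD3_c59)) :=
  Lgr Lrot19 (Lpr_dt (f561635 IH) (Lpr_ft (f588891 IH) (Lpr_dt (f561689 IH) (Lpn (LP (LK LD1_c16 LD2_c52 LD3_c59))))))
theorem f588897 : Led Lsl_at (LP (LK LD1_c11 LD2_c13 LD3_c30)) = (LP (LK LD1_c12 LD2_c7 LD3_c4)) :=
  Lgr Lrot66 (Lpr_ff (f588895 IH) (Lpe (f588625 IH) (Lpr_ff (f588620 IH) (Lpn (LP (LK LD1_c12 LD2_c7 LD3_c4))))))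
theorem f588905 : Led Lsl_af (LP (LK LD1_c11 LD2_c13 LD3_c30)) = (LP (LK LD1_c12 LD2_c7 LD3_c4)) :=
  Lgr Lrot0 (Lpr_at (f588897 IH) (Lpn (LP (LK LD1_c12 LD2_c7 LD3_c4))))
theorem f269029 : Led Lsl_gt (LP (LK LD1_c20 LD2_c8 LD3_c6)) = (LP (LK LD1_c11 LD2_c13 LD3_c30)) :=
  Lre_g IH (LK LD1_c20 LD2_c8 LD3_c6) (LK LD1_c11 LD2_c13 LD3_c30) Lrfl Lrfl
theorem f588623 : Led Lsl_ft (LP (LK LD1_c11 LD2_c13 LD3_c32)) = (LP (LK LD1_c12 LD2_c7 LD3_c4)) :=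
  Lgr Lrot48 (Lpr_ff (f588620 IH) (Lpn (LP (LK LD1_c12 LD2_c7 LD3_c4))))
theorem f588907 : Led Lsl_gf (LP (LK LD1_c20 LD2_c8 LD3_c6)) = (LP (LK LD1_c11 LD2_c13 LD3_c32)) :=
  Lgr Lrot47 (Lpr_gt (f269029 IH) (Lpr_af (f588905 IH) (Lpe (f588623 IH) (Lpn (LP (LK LD1_c11 LD2_c13 LD3_c32))))))
theorem f574031 : Led Lsl_ct (LP (LK LD1_c15 LD2_c3 LD3_c53)) = (LP (LK LD1_c20 LD2_c8 LD3_c6)) :=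
  Lgr Lrot152 (Lpr_gf (K42.f556182 IH) (Lpe (K39.f547284 IH) (Lpr_gt (K39.f172620 IH) (Lpr_ct (K43.f574025 IH) (Lpr_gt (K36.f60878 IH) (Lpe (K35.f60786 IH) (Lpr_df (K38.f549894 IH) (Lpe (f269028 IH) (Lpe (f269029 IH) (Lpn (LP (LK LD1_c20 LD2_c8 LD3_c6))))))))))))
theorem f551587 : Led Lsl_bt (LP (LK LD1_c15 LD2_c3 LD3_c53)) = (LP (LK LD1_c7 LD2_c59 LD3_c15)) :=
  Lre_b IH (LK LD1_c15 LD2_c3 LD3_c53) (LK LD1_c7 LD2_c59 LD3_c15) Lrfl Lrfl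
theorem f132923 : Led Lsl_ct (LP (LK LD1_c9 LD2_c19 LD3_c48)) = (LP (LK LD1_c17 LD2_c15 LD3_c42)) :=
  Lre_c IH (LK LD1_c9 LD2_c19 LD3_c48) (LK LD1_c17 LD2_c15 LD3_c42) Lrfl Lrfl
theorem f557052 : Led Lsl_gf (LP (LK LD1_c20 LD2_c0 LD3_c8)) = (LP (LK LD1_c17 LD2_c15 LD3_c42)) :=
  Lgr Lrot172 (Lpr_ct (K39.f557043 IH) (Lpr_dt (K39.f557037 IH) (Lpe (K10.f175494 IH) (Lpe (K39.f552070 IH) (Lpe (K30.f174546 IH) (Lpe (K30.f174536 IH) (Lpr_dt (K39.f174563 IH) (Lpe (K39.f551581 IH) (Lpr_ct (f132923 IH) (Lpn (LP (LK LD1_c17 LD2_c15 LD3_c42))))))))))))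
theorem f387051 : Led Lsl_ct (LP (LK LD1_c11 LD2_c6 LD3_c50)) = (LP (LK LD1_c20 LD2_c0 LD3_c8)) :=
  Lre_c IH (LK LD1_c11 LD2_c6 LD3_c50) (LK LD1_c20 LD2_c0 LD3_c8) Lrfl Lrfl
theorem f70036 : Led Lsl_bt (LP (LK LD1_c4 LD2_c23 LD3_c51)) = (LP (LK LD1_c8 LD2_c45 LD3_c28)) :=
  Lre_b IH (LK LD1_c4 LD2_c23 LD3_c51) (LK LD1_c8 LD2_c45 LD3_c28) Lrfl Lrfl
theorem f588544 : Led Lsl_bt (LP (LK LD1_c5 LD2_c41 LD3_c41)) = (LP (LK LD1_c6 LD2_c14 LD3_c28)) :=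
  Lgr Lrot130 (Lpr_ct (f411858 IH) (Lpr_gf (f588538 IH) (Lpr_cf (K39.f554450 IH) (Lpr_bt (K39.f554448 IH) (Lpe (K40.f554441 IH) (Lpe (f70036 IH) (Lpr_ct (K2.f69946 IH) (Lpr_gf (K13.f197471 IH) (Lpe (K13.f59272 IH) (Lpe (K11.f60768 IH) (Lpn (LP (LK LD1_c6 LD2_c14 LD3_c28)))))))))))))
theorem f588913 : Led Lsl_bt (LP (LK LD1_c11 LD2_c6 LD3_c50)) = (LP (LK LD1_c5 LD2_c46 LD3_c40)) :=
  Lgr Lrot22 (Lpr_ct (f387051 IH) (Lpr_gf (f557052 IH) (Lpe (f132923 IH) (Lpr_gf (K39.f551581 IH) (Lpe (f551587 IH) (Lpr_ct (f574031 IH) (Lpr_gf (f588907 IH) (Lpe (f411858 IH) (Lpr_bt (f588544 IH) (Lpr_gf (K13.f60778 IH) (Lpn (LP (LK LD1_c5 LD2_c46 LD3_c40)))))))))))))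
theorem f60510 : Led Lsl_bt (LP (LK LD1_c5 LD2_c46 LD3_c30)) = (LP (LK LD1_c2 LD2_c49 LD3_c1)) :=
  Lre_b IH (LK LD1_c5 LD2_c46 LD3_c30) (LK LD1_c2 LD2_c49 LD3_c1) Lrfl Lrfl
theorem f574019 : Led Lsl_bf (LP (LK LD1_c8 LD2_c43 LD3_c37)) = (LP (LK LD1_c12 LD2_c9 LD3_c17)) :=
  Lgr Lrot93 (Lpe (K39.f552677 IH) (Lpr_bt (K43.f574009 IH) (Lpr_dt (K40.f132995 IH) (Lpn (LP (LK LD1_c12 LD2_c9 LD3_c17))))))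
theorem f132940 : Led Lsl_ct (LP (LK LD1_c12 LD2_c9 LD3_c17)) = (LP (LK LD1_c21 LD2_c15 LD3_c34)) :=
  Lre_c IH (LK LD1_c12 LD2_c9 LD3_c17) (LK LD1_c21 LD2_c15 LD3_c34) Lrfl Lrfl
theorem f588919 : Led Lsl_gt (LP (LK LD1_c20 LD2_c0 LD3_c8)) = (LP (LK LD1_c21 LD2_c15 LD3_c34)) :=
  Lgr Lrot65 (Lpe (f387051 IH) (Lpr_bt (f588913 IH) (Lpe (K13.f60777 IH) (Lpe (f60510 IH) (Lpr_ct (K39.f197507 IH) (Lpr_gf (K39.f552672 IH) (Lpe (K16.f181739 IH) (Lpe (K39.f181746 IH) (Lpr_bf (f574019 IH) (Lpr_ct (f132940 IH) (Lpn (LP (LK LD1_c21 LD2_c15 LD3_c34)))))))))))))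
theorem f181613 : Led Lsl_ct (LP (LK LD1_c5 LD2_c41 LD3_c45)) = (LP (LK LD1_c11 LD2_c13 LD3_c42)) :=
  Lre_c IH (LK LD1_c5 LD2_c41 LD3_c45) (LK LD1_c11 LD2_c13 LD3_c42) Lrfl Lrfl
theorem f566402 : Led Lsl_ft (LP (LK LD1_c11 LD2_c13 LD3_c42)) = (LP (LK LD1_c20 LD2_c0 LD3_c8)) :=
  Lgr Lrot4 (Lpe (f181613 IH) (Lpr_ff (K43.f566400 IH) (Lpe (K39.f557043 IH) (Lpn (LP (LK LD1_c20 LD2_c0 LD3_c8))))))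
theorem f566408 : Led Lsl_ff (LP (LK LD1_c11 LD2_c13 LD3_c42)) = (LP (LK LD1_c20 LD2_c0 LD3_c8)) :=
  Lgr Lrot3 (Lpr_ft (f566402 IH) (Lpn (LP (LK LD1_c20 LD2_c0 LD3_c8))))
theorem f382095 : Led Lsl_ct (LP (LK LD1_c16 LD2_c53 LD3_c42)) = (LP (LK LD1_c9 LD2_c2 LD3_c61)) :=
  Lre_c IH (LK LD1_c16 LD2_c53 LD3_c42) (LK LD1_c9 LD2_c2 LD3_c61) Lrfl Lrfl
theorem f557079 : Led Lsl_at (LP (LK LD1_c11 LD2_c13 LD3_c42)) = (LP (LK LD1_c16 LD2_c53 LD3_c42)) :=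
  Lgr Lrot107 (Lpe (f181613 IH) (Lpr_af (K39.f557075 IH) (Lpe (f382095 IH) (Lpn (LP (LK LD1_c16 LD2_c53 LD3_c42))))))
theorem f588921 : Led Lsl_gf (LP (LK LD1_c16 LD2_c53 LD3_c42)) = (LP (LK LD1_c21 LD2_c15 LD3_c34)) :=
  Lgr Lrot76 (Lpe (f557079 IH) (Lpr_ff (f566408 IH) (Lpr_gt (f588919 IH) (Lpn (LP (LK LD1_c21 LD2_c15 LD3_c34))))))
theorem f495259 : Led Lsl_ct (LP (LK LD1_c9 LD2_c2 LD3_c61)) = (LP (LK LD1_c16 LD2_c53 LD3_c42)) :=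
  Lre_c IH (LK LD1_c9 LD2_c2 LD3_c61) (LK LD1_c16 LD2_c53 LD3_c42) Lrfl Lrfl
theorem f588925 : Led Lsl_bt (LP (LK LD1_c9 LD2_c2 LD3_c61)) = (LP (LK LD1_c13 LD2_c41 LD3_c45)) :=
  Lgr Lrot130 (Lpr_ct (f495259 IH) (Lpr_gf (f588921 IH) (Lpe (f132940 IH) (Lpe (f574019 IH) (Lpe (K39.f280481 IH) (Lpe (K39.f552798 IH) (Lpr_ct (K39.f98096 IH) (Lpr_gf (K42.f571013 IH) (Lpe (K42.f571007 IH) (Lpe (K42.f160389 IH) (Lpn (LP (LK LD1_c13 LD2_c41 LD3_c45)))))))))))))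
theorem f59306 : Led Lsl_bt (LP (LK LD1_c11 LD2_c23 LD3_c32)) = (LP (LK LD1_c5 LD2_c46 LD3_c41)) :=
  Lre_b IH (LK LD1_c11 LD2_c23 LD3_c32) (LK LD1_c5 LD2_c46 LD3_c41) Lrfl Lrfl
theorem f588927 : Led Lsl_af (LP (LK LD1_c11 LD2_c23 LD3_c32)) = (LP (LK LD1_c13 LD2_c41 LD3_c45)) :=
  Lgr Lrot36 (Lpr_bt (f59306 IH) (Lpr_at (K16.f270137 IH) (Lpe (K39.f181606 IH) (Lpr_at (K43.f557077 IH) (Lpr_bt (f588925 IH) (Lpn (LP (LK LD1_c13 LD2_c41 LD3_c45))))))))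
theorem f93094 : Led Lsl_ft (LP (LK LD1_c7 LD2_c14 LD3_c14)) = (LP (LK LD1_c13 LD2_c41 LD3_c45)) :=
  Lre_f IH (LK LD1_c7 LD2_c14 LD3_c14) (LK LD1_c13 LD2_c41 LD3_c45) Lrfl Lrfl
theorem f92640 : Led Lsl_gt (LP (LK LD1_c7 LD2_c14 LD3_c14)) = (LP (LK LD1_c13 LD2_c41 LD3_c43)) :=
  Lre_g IH (LK LD1_c7 LD2_c14 LD3_c14) (LK LD1_c13 LD2_c41 LD3_c43) Lrfl Lrfl
theorem f588929 : Led Lsl_gf (LP (LK LD1_c11 LD2_c23 LD3_c32)) = (LP (LK LD1_c13 LD2_c41 LD3_c43)) :=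
  Lgr Lrot76 (Lpr_af (f588927 IH) (Lpe (f93094 IH) (Lpr_gt (f92640 IH) (Lpn (LP (LK LD1_c13 LD2_c41 LD3_c43))))))
theorem f565031 : Led Lsl_et (LP (LK LD1_c8 LD2_c48 LD3_c28)) = (LP (LK LD1_c7 LD2_c7 LD3_c58)) :=
  Lgr Lrot158 (Lpe (K41.f227504 IH) (Lpr_ef (K41.f565027 IH) (Lpe (K41.f564991 IH) (Lpn (LP (LK LD1_c7 LD2_c7 LD3_c58))))))
theorem f565599 : Led Lsl_et (LP (LK LD1_c7 LD2_c8 LD3_c18)) = (LP (LK LD1_c12 LD2_c6 LD3_c10)) :=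
  Lgr Lrot87 (Lpr_ef (K43.f565597 IH) (Lpn (LP (LK LD1_c12 LD2_c6 LD3_c10))))
theorem f197473 : Led Lsl_gt (LP (LK LD1_c11 LD2_c23 LD3_c26)) = (LP (LK LD1_c5 LD2_c46 LD3_c38)) :=
  Lre_g IH (LK LD1_c11 LD2_c23 LD3_c26) (LK LD1_c5 LD2_c46 LD3_c38) Lrfl Lrfl
theorem f502418 : Led Lsl_at (LP (LK LD1_c8 LD2_c2 LD3_c6)) = (LP (LK LD1_c6 LD2_c13 LD3_c44)) :=
  Lgr Lrot100 (Lpr_af (f502373 IH) (Lpn (LP (LK LD1_c6 LD2_c13 LD3_c44))))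
theorem f566167 : Led Lsl_ft (LP (LK LD1_c11 LD2_c23 LD3_c26)) = (LP (LK LD1_c8 LD2_c2 LD3_c6)) :=
  Lgr Lrot2 (Lpr_gt (f197473 IH) (Lpr_gt (K41.f566165 IH) (Lpe (f502418 IH) (Lpn (LP (LK LD1_c8 LD2_c2 LD3_c6))))))
theorem f587284 : Led Lsl_bf (LP (LK LD1_c11 LD2_c23 LD3_c26)) = (LP (LK LD1_c19 LD2_c59 LD3_c37)) :=
  Lgr Lrot61 (Lpr_ft (f566167 IH) (Lpr_bt (K42.f502420 IH) (Lpr_ft (f587282 IH) (Lpn (LP (LK LD1_c19 LD2_c59 LD3_c37))))))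
theorem f132962 : Led Lsl_ct (LP (LK LD1_c3 LD2_c4 LD3_c58)) = (LP (LK LD1_c1 LD2_c28 LD3_c34)) :=
  Lre_c IH (LK LD1_c3 LD2_c4 LD3_c58) (LK LD1_c1 LD2_c28 LD3_c34) Lrfl Lrfl
theorem f573627 : Led Lsl_bt (LP (LK LD1_c6 LD2_c14 LD3_c30)) = (LP (LK LD1_c12 LD2_c6 LD3_c10)) :=
  Lgr Lrot95 (Lpe (K39.f547218 IH) (Lpr_bf (K43.f573621 IH) (Lpe (K41.f420442 IH) (Lpn (LP (LK LD1_c12 LD2_c6 LD3_c10))))))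
theorem f587308 : Led Lsl_gf (LP (LK LD1_c11 LD2_c23 LD3_c26)) = (LP (LK LD1_c12 LD2_c6 LD3_c10)) :=
  Lgr Lrot124 (Lpr_bf (f587284 IH) (Lpr_ct (f587253 IH) (Lpr_gt (f587302 IH) (Lpe (K42.f158642 IH) (Lpr_bt (f552347 IH) (Lpe (f552392 IH) (Lpr_ct (f132962 IH) (Lpr_gt (K38.f112363 IH) (Lpe (K43.f557172 IH) (Lpr_bt (f573627 IH) (Lpn (LP (LK LD1_c12 LD2_c6 LD3_c10)))))))))))))
theorem f588939 : Led Lsl_dt (LP (LK LD1_c11 LD2_c23 LD3_c26)) = (LP (LK LD1_c13 LD2_c41 LD3_c43)) :=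
  Lgr Lrot171 (Lpr_gf (f587308 IH) (Lpe (f565599 IH) (Lpr_dt (K42.f98414 IH) (Lpr_gf (K43.f571248 IH) (Lpe (K43.f227511 IH) (Lpr_et (f565031 IH) (Lpe (K41.f553338 IH) (Lpr_ef (K42.f553336 IH) (Lpr_dt (K42.f569661 IH) (Lpr_gf (f588929 IH) (Lpn (LP (LK LD1_c13 LD2_c41 LD3_c43)))))))))))))
theorem f92532 : Led Lsl_dt (LP (LK LD1_c3 LD2_c36 LD3_c59)) = (LP (LK LD1_c7 LD2_c14 LD3_c14)) :=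
  Lre_d IH (LK LD1_c3 LD2_c36 LD3_c59) (LK LD1_c7 LD2_c14 LD3_c14) Lrfl Lrfl
theorem f588953 : Led Lsl_et (LP (LK LD1_c11 LD2_c23 LD3_c26)) = (LP (LK LD1_c8 LD2_c4 LD3_c52)) :=
  Lgr Lrot121 (Lpr_dt (f588939 IH) (Lpe (f92640 IH) (Lpe (f92532 IH) (Lpr_et (K42.f92531 IH) (Lpe (K2.f92526 IH) (Lpe (K24.f5178 IH) (Lpr_dt (K41.f5121 IH) (Lpe (f5188 IH) (Lpr_df (f573195 IH) (Lpe (K43.f242250 IH) (Lpn (LP (LK LD1_c8 LD2_c4 LD3_c52)))))))))))))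
theorem f588959 : Led Lsl_ef (LP (LK LD1_c11 LD2_c23 LD3_c26)) = (LP (LK LD1_c8 LD2_c4 LD3_c52)) :=
  Lgr Lrot88 (Lpr_et (f588953 IH) (Lpn (LP (LK LD1_c8 LD2_c4 LD3_c52))))
theorem f588965 : Led Lsl_ct (LP (LK LD1_c11 LD2_c23 LD3_c26)) = (LP (LK LD1_c8 LD2_c0 LD3_c61)) :=
  Lgr Lrot15 (Lpr_ef (f588959 IH) (Lpr_cf (K43.f565697 IH) (Lpe (K43.f573200 IH) (Lpn (LP (LK LD1_c8 LD2_c0 LD3_c61))))))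
theorem f589029 : Led Lsl_bt (LP (LK LD1_c3 LD2_c4 LD3_c58)) = (LP (LK LD1_c4 LD2_c22 LD3_c30)) :=
  Lgr Lrot92 (Lpr_ct (f132962 IH) (Lpr_gt (K38.f112363 IH) (Lpe (K43.f557172 IH) (Lpr_bt (f573627 IH) (Lpe (f587308 IH) (Lpr_ct (f588965 IH) (Lpe (K38.f297416 IH) (Lpe (K18.f237448 IH) (Lpe (K42.f385890 IH) (Lpe (K38.f385860 IH) (Lpn (LP (LK LD1_c4 LD2_c22 LD3_c30)))))))))))))
theorem f132990 : Led Lsl_dt (LP (LK LD1_c6 LD2_c15 LD3_c43)) = (LP (LK LD1_c3 LD2_c4 LD3_c58)) :=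
  Lre_d IH (LK LD1_c6 LD2_c15 LD3_c43) (LK LD1_c3 LD2_c4 LD3_c58) Lrfl Lrfl
theorem f589033 : Led Lsl_bf (LP (LK LD1_c6 LD2_c15 LD3_c43)) = (LP (LK LD1_c5 LD2_c42 LD3_c43)) :=
  Lgr Lrot93 (Lpr_dt (f132990 IH) (Lpr_bt (f589029 IH) (Lpr_dt (K38.f549525 IH) (Lpn (LP (LK LD1_c5 LD2_c42 LD3_c43))))))
theorem f133069 : Led Lsl_gt (LP (LK LD1_c12 LD2_c9 LD3_c15)) = (LP (LK LD1_c6 LD2_c15 LD3_c43)) :=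
  Lre_g IH (LK LD1_c12 LD2_c9 LD3_c15) (LK LD1_c6 LD2_c15 LD3_c43) Lrfl Lrfl
theorem f554416 : Led Lsl_gt (LP (LK LD1_c24 LD2_c55 LD3_c26)) = (LP (LK LD1_c15 LD2_c7 LD3_c8)) :=
  Lre_g IH (LK LD1_c24 LD2_c55 LD3_c26) (LK LD1_c15 LD2_c7 LD3_c8) Lrfl Lrfl
theorem f589043 : Led Lsl_bf (LP (LK LD1_c12 LD2_c9 LD3_c15)) = (LP (LK LD1_c8 LD2_c1 LD3_c47)) :=
  Lgr Lrot156 (Lpr_gt (f133069 IH) (Lpr_bf (f589033 IH) (Lpr_ct (K41.f280488 IH) (Lpr_gt (K41.f424349 IH) (Lpe (K42.f552665 IH) (Lpr_bt (f552664 IH) (Lpe (f587249 IH) (Lpr_ct (f587267 IH) (Lpr_gt (f554416 IH) (Lpe (K43.f224881 IH) (Lpn (LP (LK LD1_c8 LD2_c1 LD3_c47)))))))))))))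
theorem f132920 : Led Lsl_af (LP (LK LD1_c6 LD2_c15 LD3_c43)) = (LP (LK LD1_c9 LD2_c19 LD3_c48)) :=
  Lgr Lrot0 (Lpr_at (K6.f132913 IH) (Lpn (LP (LK LD1_c9 LD2_c19 LD3_c48))))
theorem f133050 : Led Lsl_ft (LP (LK LD1_c17 LD2_c15 LD3_c43)) = (LP (LK LD1_c9 LD2_c19 LD3_c48)) :=
  Lre_f IH (LK LD1_c17 LD2_c15 LD3_c43) (LK LD1_c9 LD2_c19 LD3_c48) Lrfl Lrfl
theorem f133070 : Led Lsl_gf (LP (LK LD1_c12 LD2_c9 LD3_c15)) = (LP (LK LD1_c17 LD2_c15 LD3_c43)) :=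
  Lgr Lrot47 (Lpr_gt (f133069 IH) (Lpr_af (f132920 IH) (Lpe (f133050 IH) (Lpn (LP (LK LD1_c17 LD2_c15 LD3_c43))))))
theorem f589053 : Led Lsl_bf (LP (LK LD1_c17 LD2_c15 LD3_c43)) = (LP (LK LD1_c13 LD2_c29 LD3_c25)) :=
  Lgr Lrot156 (Lpe (f133070 IH) (Lpr_bf (f589043 IH) (Lpr_ct (K43.f224881 IH) (Lpr_gt (K43.f554412 IH) (Lpe (K43.f554427 IH) (Lpr_bt (K43.f237723 IH) (Lpr_gt (K38.f237722 IH) (Lpr_ct (K38.f237286 IH) (Lpr_gt (K38.f550019 IH) (Lpe (f587745 IH) (Lpn (LP (LK LD1_c13 LD2_c29 LD3_c25)))))))))))))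
theorem f132938 : Led Lsl_at (LP (LK LD1_c12 LD2_c9 LD3_c17)) = (LP (LK LD1_c17 LD2_c15 LD3_c43)) :=
  Lgr Lrot100 (Lpr_af (K6.f132931 IH) (Lpn (LP (LK LD1_c17 LD2_c15 LD3_c43))))
theorem f133049 : Led Lsl_ft (LP (LK LD1_c6 LD2_c15 LD3_c43)) = (LP (LK LD1_c12 LD2_c9 LD3_c17)) :=
  Lre_f IH (LK LD1_c6 LD2_c15 LD3_c43) (LK LD1_c12 LD2_c9 LD3_c17) Lrfl Lrfl
theorem f133051 : Led Lsl_gt (LP (LK LD1_c6 LD2_c15 LD3_c43)) = (LP (LK LD1_c12 LD2_c9 LD3_c14)) :=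
  Lre_g IH (LK LD1_c6 LD2_c15 LD3_c43) (LK LD1_c12 LD2_c9 LD3_c14) Lrfl Lrfl
theorem f133052 : Led Lsl_gt (LP (LK LD1_c12 LD2_c9 LD3_c14)) = (LP (LK LD1_c17 LD2_c15 LD3_c43)) :=
  Lgr Lrot46 (Lpe (f133051 IH) (Lpr_ft (f133049 IH) (Lpr_at (f132938 IH) (Lpn (LP (LK LD1_c17 LD2_c15 LD3_c43))))))
theorem f589061 : Led Lsl_bf (LP (LK LD1_c12 LD2_c9 LD3_c14)) = (LP (LK LD1_c9 LD2_c45 LD3_c33)) :=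
  Lgr Lrot156 (Lpr_gt (f133052 IH) (Lpr_bf (f589053 IH) (Lpr_ct (f587745 IH) (Lpr_gt (K38.f331800 IH) (Lpe (K39.f550037 IH) (Lpr_bt (K39.f181655 IH) (Lpe (f551687 IH) (Lpr_ct (f60880 IH) (Lpr_gt (f559568 IH) (Lpe (K40.f181490 IH) (Lpn (LP (LK LD1_c9 LD2_c45 LD3_c33)))))))))))))
theorem f569087 : Led Lsl_gf (LP (LK LD1_c17 LD2_c0 LD3_c48)) = (LP (LK LD1_c24 LD2_c5 LD3_c26)) :=
  Lgr Lrot143 (Lpr_dt (K43.f547122 IH) (Lpe (K40.f71483 IH) (Lpe (K38.f549758 IH) (Lpe (K38.f549759 IH) (Lpr_df (K40.f198549 IH) (Lpr_gf (K42.f569085 IH) (Lpr_cf (K37.f546811 IH) (Lpr_gt (K43.f97177 IH) (Lpr_dt (K43.f97178 IH) (Lpn (LP (LK LD1_c24 LD2_c5 LD3_c26))))))))))))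
theorem f563688 : Led Lsl_ef (LP (LK LD1_c5 LD2_c41 LD3_c60)) = (LP (LK LD1_c9 LD2_c8 LD3_c18)) :=
  Lgr Lrot28 (Lpr_ct (K39.f181678 IH) (Lpr_et (K40.f563684 IH) (Lpr_ct (K40.f71483 IH) (Lpn (LP (LK LD1_c9 LD2_c8 LD3_c18))))))
theorem f132848 : Led Lsl_ef (LP (LK LD1_c6 LD2_c16 LD3_c2)) = (LP (LK LD1_c9 LD2_c19 LD3_c49)) :=
  Lgr Lrot88 (Lpr_et (K41.f132844 IH) (Lpn (LP (LK LD1_c9 LD2_c19 LD3_c49))))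
theorem f575925 : Led Lsl_dt (LP (LK LD1_c7 LD2_c59 LD3_c16)) = (LP (LK LD1_c12 LD2_c9 LD3_c14)) :=
  Lgr Lrot171 (Lpr_gf (K42.f571871 IH) (Lpr_ef (f563688 IH) (Lpr_dt (K42.f547126 IH) (Lpr_gf (f569087 IH) (Lpe (K43.f97178 IH) (Lpr_et (K43.f575919 IH) (Lpr_gf (K39.f556455 IH) (Lpr_ef (f132848 IH) (Lpr_dt (K6.f132847 IH) (Lpe (f133052 IH) (Lpn (LP (LK LD1_c12 LD2_c9 LD3_c14)))))))))))))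
theorem f110238 : Led Lsl_dt (LP (LK LD1_c14 LD2_c25 LD3_c32)) = (LP (LK LD1_c7 LD2_c39 LD3_c12)) :=
  Lre_d IH (LK LD1_c14 LD2_c25 LD3_c32) (LK LD1_c7 LD2_c39 LD3_c12) Lrfl Lrfl
theorem f577599 : Led Lsl_et (LP (LK LD1_c12 LD2_c9 LD3_c14)) = (LP (LK LD1_c14 LD2_c25 LD3_c32)) :=
  Lgr Lrot71 (Lpe (f575925 IH) (Lpr_ef (K43.f577595 IH) (Lpr_df (K37.f120272 IH) (Lpe (K41.f88610 IH) (Lpe (f110238 IH) (Lpn (LP (LK LD1_c14 LD2_c25 LD3_c32))))))))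
theorem f556308 : Led Lsl_et (LP (LK LD1_c17 LD2_c55 LD3_c7)) = (LP (LK LD1_c9 LD2_c45 LD3_c33)) :=
  Lre_e IH (LK LD1_c17 LD2_c55 LD3_c7) (LK LD1_c9 LD2_c45 LD3_c33) Lrfl Lrfl
theorem f589067 : Led Lsl_bt (LP (LK LD1_c14 LD2_c25 LD3_c32)) = (LP (LK LD1_c17 LD2_c55 LD3_c7)) :=
  Lgr Lrot119 (Lpe (f577599 IH) (Lpr_bf (f589061 IH) (Lpe (f556308 IH) (Lpn (LP (LK LD1_c17 LD2_c55 LD3_c7))))))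
theorem f564805 : Led Lsl_ff (LP (LK LD1_c13 LD2_c41 LD3_c7)) = (LP (LK LD1_c7 LD2_c39 LD3_c12)) :=
  Lgr Lrot3 (Lpr_ft (K41.f564799 IH) (Lpn (LP (LK LD1_c7 LD2_c39 LD3_c12))))
theorem f465388 : Led Lsl_dt (LP (LK LD1_c13 LD2_c41 LD3_c7)) = (LP (LK LD1_c23 LD2_c6 LD3_c38)) :=
  Lre_d IH (LK LD1_c13 LD2_c41 LD3_c7) (LK LD1_c23 LD2_c6 LD3_c38) Lrfl Lrfl
theorem f564807 : Led Lsl_ft (LP (LK LD1_c23 LD2_c6 LD3_c38)) = (LP (LK LD1_c14 LD2_c25 LD3_c32)) :=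
  Lgr Lrot54 (Lpe (f465388 IH) (Lpr_ff (f564805 IH) (Lpe (f110238 IH) (Lpn (LP (LK LD1_c14 LD2_c25 LD3_c32))))))
theorem f465387 : Led Lsl_dt (LP (LK LD1_c23 LD2_c6 LD3_c38)) = (LP (LK LD1_c13 LD2_c41 LD3_c7)) :=
  Lre_d IH (LK LD1_c23 LD2_c6 LD3_c38) (LK LD1_c13 LD2_c41 LD3_c7) Lrfl Lrfl
theorem f488344 : Led Lsl_bf (LP (LK LD1_c23 LD2_c6 LD3_c38)) = (LP (LK LD1_c14 LD2_c42 LD3_c55)) :=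
  Lgr Lrot93 (Lpr_dt (f465387 IH) (Lpr_bt (K41.f488340 IH) (Lpr_dt (K41.f471488 IH) (Lpn (LP (LK LD1_c14 LD2_c42 LD3_c55))))))
theorem f589801 : Led Lsl_ff (LP (LK LD1_c14 LD2_c42 LD3_c55)) = (LP (LK LD1_c17 LD2_c55 LD3_c7)) :=
  Lgr Lrot25 (Lpe (f488344 IH) (Lpr_ft (f564807 IH) (Lpr_bt (f589067 IH) (Lpn (LP (LK LD1_c17 LD2_c55 LD3_c7))))))
theorem f589808 : Led Lsl_ft (LP (LK LD1_c14 LD2_c42 LD3_c55)) = (LP (LK LD1_c17 LD2_c55 LD3_c7)) :=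
  Lgr Lrot48 (Lpr_ff (f589801 IH) (Lpn (LP (LK LD1_c17 LD2_c55 LD3_c7))))
theorem f571430 : Led Lsl_gf (LP (LK LD1_c6 LD2_c16 LD3_c60)) = (LP (LK LD1_c6 LD2_c16 LD3_c15)) :=
  Lgr Lrot104 (Lpr_ct (K42.f450467 IH) (Lpe (K42.f450466 IH) (Lpe (K42.f558769 IH) (Lpr_gf (K42.f571426 IH) (Lpe (K42.f202260 IH) (Lpr_gf (K37.f202257 IH) (Lpe (K37.f202277 IH) (Lpr_gt (K35.f59056 IH) (Lpr_ct (K40.f202281 IH) (Lpn (LP (LK LD1_c6 LD2_c16 LD3_c15))))))))))))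
theorem f558750 : Led Lsl_df (LP (LK LD1_c6 LD2_c16 LD3_c15)) = (LP (LK LD1_c7 LD2_c13 LD3_c24)) :=
  Lgr Lrot38 (Lpr_dt (K40.f558747 IH) (Lpn (LP (LK LD1_c7 LD2_c13 LD3_c24))))
theorem f88517 : Led Lsl_et (LP (LK LD1_c7 LD2_c39 LD3_c11)) = (LP (LK LD1_c3 LD2_c49 LD3_c4)) :=
  Lre_e IH (LK LD1_c7 LD2_c39 LD3_c11) (LK LD1_c3 LD2_c49 LD3_c4) Lrfl Lrfl
theorem f88518 : Led Lsl_dt (LP (LK LD1_c7 LD2_c39 LD3_c11)) = (LP (LK LD1_c14 LD2_c25 LD3_c31)) :=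
  Lre_d IH (LK LD1_c7 LD2_c39 LD3_c11) (LK LD1_c14 LD2_c25 LD3_c31) Lrfl Lrfl
theorem f578388 : Led Lsl_gf (LP (LK LD1_c14 LD2_c25 LD3_c31)) = (LP (LK LD1_c13 LD2_c30 LD3_c13)) :=
  Lgr Lrot145 (Lpe (f88518 IH) (Lpr_et (f88517 IH) (Lpr_gt (K36.f88514 IH) (Lpe (f558750 IH) (Lpe (f571430 IH) (Lpr_df (K40.f559100 IH) (Lpr_et (K28.f426628 IH) (Lpr_gt (K43.f578378 IH) (Lpe (K43.f466591 IH) (Lpr_dt (K43.f488650 IH) (Lpn (LP (LK LD1_c13 LD2_c30 LD3_c13)))))))))))))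
theorem f589812 : Led Lsl_af (LP (LK LD1_c14 LD2_c25 LD3_c31)) = (LP (LK LD1_c17 LD2_c55 LD3_c7)) :=
  Lgr Lrot31 (Lpr_gf (f578388 IH) (Lpr_gf (K41.f476525 IH) (Lpr_ft (f589808 IH) (Lpn (LP (LK LD1_c17 LD2_c55 LD3_c7))))))
theorem f145229 : Led Lsl_ct (LP (LK LD1_c14 LD2_c25 LD3_c31)) = (LP (LK LD1_c24 LD2_c5 LD3_c25)) :=
  Lre_c IH (LK LD1_c14 LD2_c25 LD3_c31) (LK LD1_c24 LD2_c5 LD3_c25) Lrfl Lrfl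
theorem f589803 : Led Lsl_ct (LP (LK LD1_c27 LD2_c40 LD3_c35)) = (LP (LK LD1_c17 LD2_c55 LD3_c7)) :=
  Lre_c IH (LK LD1_c27 LD2_c40 LD3_c35) (LK LD1_c17 LD2_c55 LD3_c7) Lrfl Lrfl
theorem f589816 : Led Lsl_at (LP (LK LD1_c24 LD2_c5 LD3_c25)) = (LP (LK LD1_c27 LD2_c40 LD3_c35)) :=
  Lgr Lrot107 (Lpe (f145229 IH) (Lpr_af (f589812 IH) (Lpe (f589803 IH) (Lpn (LP (LK LD1_c27 LD2_c40 LD3_c35))))))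
theorem f573439 : Led Lsl_dt (LP (LK LD1_c24 LD2_c55 LD3_c54)) = (LP (LK LD1_c15 LD2_c7 LD3_c21)) :=
  Lre_d IH (LK LD1_c24 LD2_c55 LD3_c54) (LK LD1_c15 LD2_c7 LD3_c21) Lrfl Lrfl
theorem f197729 : Led Lsl_ct (LP (LK LD1_c15 LD2_c4 LD3_c0)) = (LP (LK LD1_c24 LD2_c53 LD3_c6)) :=
  Lre_c IH (LK LD1_c15 LD2_c4 LD3_c0) (LK LD1_c24 LD2_c53 LD3_c6) Lrfl Lrfl
theorem f588373 : Led Lsl_gt (LP (LK LD1_c24 LD2_c53 LD3_c6)) = (LP (LK LD1_c28 LD2_c43 LD3_c61)) :=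
  Lgr Lrot94 (Lpe (f197729 IH) (Lpe (f588032 IH) (Lpr_dt (K39.f69784 IH) (Lpr_gt (K43.f573423 IH) (Lpe (K44.f573431 IH) (Lpe (f30600 IH) (Lpe (f573439 IH) (Lpr_gf (f588361 IH) (Lpr_df (f588363 IH) (Lpn (LP (LK LD1_c28 LD2_c43 LD3_c61))))))))))))
theorem f588358 : Led Lsl_at (LP (LK LD1_c15 LD2_c7 LD3_c8)) = (LP (LK LD1_c24 LD2_c55 LD3_c23)) :=
  Lre_a IH (LK LD1_c15 LD2_c7 LD3_c8) (LK LD1_c24 LD2_c55 LD3_c23) Lrfl Lrfl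
theorem f588377 : Led Lsl_ft (LP (LK LD1_c24 LD2_c53 LD3_c6)) = (LP (LK LD1_c15 LD2_c7 LD3_c8)) :=
  Lgr Lrot2 (Lpr_gt (f588373 IH) (Lpe (f588356 IH) (Lpe (f588358 IH) (Lpn (LP (LK LD1_c15 LD2_c7 LD3_c8))))))
theorem f554411 : Led Lsl_ct (LP (LK LD1_c15 LD2_c7 LD3_c8)) = (LP (LK LD1_c8 LD2_c1 LD3_c47)) :=
  Lre_c IH (LK LD1_c15 LD2_c7 LD3_c8) (LK LD1_c8 LD2_c1 LD3_c47) Lrfl Lrfl
theorem f588382 : Led Lsl_ff (LP (LK LD1_c15 LD2_c4 LD3_c0)) = (LP (LK LD1_c8 LD2_c1 LD3_c47)) :=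
  Lgr Lrot23 (Lpr_ct (f197729 IH) (Lpr_ft (f588377 IH) (Lpr_ct (f554411 IH) (Lpn (LP (LK LD1_c8 LD2_c1 LD3_c47))))))
theorem f588398 : Led Lsl_at (LP (LK LD1_c15 LD2_c4 LD3_c0)) = (LP (LK LD1_c8 LD2_c1 LD3_c50)) :=
  Lgr Lrot66 (Lpr_ff (f588382 IH) (Lpe (K39.f554421 IH) (Lpe (K39.f554422 IH) (Lpn (LP (LK LD1_c8 LD2_c1 LD3_c50))))))
theorem f574933 : Led Lsl_et (LP (LK LD1_c7 LD2_c59 LD3_c24)) = (LP (LK LD1_c13 LD2_c27 LD3_c54)) :=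
  Lgr Lrot74 (Lpe (K43.f197723 IH) (Lpe (K42.f427686 IH) (Lpr_bf (K43.f574914 IH) (Lpn (LP (LK LD1_c13 LD2_c27 LD3_c54))))))
theorem f96919 : Led Lsl_dt (LP (LK LD1_c13 LD2_c39 LD3_c25)) = (LP (LK LD1_c23 LD2_c4 LD3_c39)) :=
  Lre_d IH (LK LD1_c13 LD2_c39 LD3_c25) (LK LD1_c23 LD2_c4 LD3_c39) Lrfl Lrfl
theorem f574948 : Led Lsl_ef (LP (LK LD1_c15 LD2_c4 LD3_c0)) = (LP (LK LD1_c23 LD2_c4 LD3_c39)) :=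
  Lgr Lrot73 (Lpr_dt (f197731 IH) (Lpr_et (f574933 IH) (Lpr_dt (K43.f574944 IH) (Lpr_et (K36.f96931 IH) (Lpr_dt (f96919 IH) (Lpn (LP (LK LD1_c23 LD2_c4 LD3_c39))))))))
theorem f588401 : Led Lsl_et (LP (LK LD1_c8 LD2_c1 LD3_c50)) = (LP (LK LD1_c15 LD2_c7 LD3_c13)) :=
  Lre_e IH (LK LD1_c8 LD2_c1 LD3_c50) (LK LD1_c15 LD2_c7 LD3_c13) Lrfl Lrfl
theorem f588402 : Led Lsl_af (LP (LK LD1_c23 LD2_c4 LD3_c39)) = (LP (LK LD1_c15 LD2_c7 LD3_c13)) :=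
  Lgr Lrot50 (Lpe (f574948 IH) (Lpr_at (f588398 IH) (Lpr_et (f588401 IH) (Lpn (LP (LK LD1_c15 LD2_c7 LD3_c13))))))
theorem f96925 : Led Lsl_dt (LP (LK LD1_c23 LD2_c4 LD3_c39)) = (LP (LK LD1_c13 LD2_c39 LD3_c25)) :=
  Lre_d IH (LK LD1_c23 LD2_c4 LD3_c39) (LK LD1_c13 LD2_c39 LD3_c25) Lrfl Lrfl
theorem f588407 : Led Lsl_dt (LP (LK LD1_c13 LD2_c27 LD3_c53)) = (LP (LK LD1_c15 LD2_c7 LD3_c13)) :=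
  Lgr Lrot44 (Lpr_af (K36.f501661 IH) (Lpe (f96925 IH) (Lpr_af (f588402 IH) (Lpn (LP (LK LD1_c15 LD2_c7 LD3_c13))))))
theorem f96551 : Led Lsl_dt (LP (LK LD1_c14 LD2_c25 LD3_c31)) = (LP (LK LD1_c7 LD2_c39 LD3_c11)) :=
  Lre_d IH (LK LD1_c14 LD2_c25 LD3_c31) (LK LD1_c7 LD2_c39 LD3_c11) Lrfl Lrfl
theorem f588414 : Led Lsl_bf (LP (LK LD1_c14 LD2_c25 LD3_c31)) = (LP (LK LD1_c15 LD2_c7 LD3_c13)) :=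
  Lgr Lrot93 (Lpr_dt (f96551 IH) (Lpe (K36.f96545 IH) (Lpr_dt (f588407 IH) (Lpn (LP (LK LD1_c15 LD2_c7 LD3_c13))))))
theorem f588434 : Led Lsl_et (LP (LK LD1_c14 LD2_c25 LD3_c31)) = (LP (LK LD1_c15 LD2_c7 LD3_c10)) :=
  Lgr Lrot74 (Lpr_bf (f588414 IH) (Lpe (f588401 IH) (Lpe (K39.f554448 IH) (Lpn (LP (LK LD1_c15 LD2_c7 LD3_c10))))))
theorem f145232 : Led Lsl_ct (LP (LK LD1_c24 LD2_c5 LD3_c25)) = (LP (LK LD1_c14 LD2_c25 LD3_c31)) :=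
  Lre_c IH (LK LD1_c24 LD2_c5 LD3_c25) (LK LD1_c14 LD2_c25 LD3_c31) Lrfl Lrfl
theorem f588436 : Led Lsl_ef (LP (LK LD1_c24 LD2_c5 LD3_c25)) = (LP (LK LD1_c20 LD2_c8 LD3_c5)) :=
  Lgr Lrot28 (Lpr_ct (f145232 IH) (Lpr_et (f588434 IH) (Lpe (K39.f554450 IH) (Lpn (LP (LK LD1_c20 LD2_c8 LD3_c5))))))
theorem f559571 : Led Lsl_et (LP (LK LD1_c27 LD2_c40 LD3_c35)) = (LP (LK LD1_c17 LD2_c55 LD3_c6)) :=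
  Lre_e IH (LK LD1_c27 LD2_c40 LD3_c35) (LK LD1_c17 LD2_c55 LD3_c6) Lrfl Lrfl
theorem f589820 : Led Lsl_af (LP (LK LD1_c20 LD2_c8 LD3_c5)) = (LP (LK LD1_c17 LD2_c55 LD3_c6)) :=
  Lgr Lrot50 (Lpe (f588436 IH) (Lpr_at (f589816 IH) (Lpr_et (f559571 IH) (Lpn (LP (LK LD1_c17 LD2_c55 LD3_c6))))))
theorem f423578 : Led Lsl_ct (LP (LK LD1_c20 LD2_c7 LD3_c21)) = (LP (LK LD1_c11 LD2_c12 LD3_c54)) :=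
  Lre_c IH (LK LD1_c20 LD2_c7 LD3_c21) (LK LD1_c11 LD2_c12 LD3_c54) Lrfl Lrfl
theorem f588490 : Led Lsl_ff (LP (LK LD1_c20 LD2_c7 LD3_c21)) = (LP (LK LD1_c20 LD2_c8 LD3_c5)) :=
  Lgr Lrot23 (Lpr_ct (f423578 IH) (Lpr_ft (f588485 IH) (Lpe (K39.f554450 IH) (Lpn (LP (LK LD1_c20 LD2_c8 LD3_c5))))))
theorem f588909 : Led Lsl_af (LP (LK LD1_c20 LD2_c8 LD3_c6)) = (LP (LK LD1_c20 LD2_c7 LD3_c21)) :=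
  Lgr Lrot31 (Lpr_gf (f588907 IH) (Lpr_gf (f588538 IH) (Lpe (f588490 IH) (Lpn (LP (LK LD1_c20 LD2_c7 LD3_c21))))))
theorem f589824 : Led Lsl_ft (LP (LK LD1_c20 LD2_c8 LD3_c6)) = (LP (LK LD1_c17 LD2_c55 LD3_c6)) :=
  Lgr Lrot101 (Lpr_af (f588909 IH) (Lpr_ff (f588490 IH) (Lpr_af (f589820 IH) (Lpn (LP (LK LD1_c17 LD2_c55 LD3_c6))))))
theorem f589831 : Led Lsl_ff (LP (LK LD1_c20 LD2_c8 LD3_c6)) = (LP (LK LD1_c17 LD2_c55 LD3_c6)) :=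
  Lgr Lrot3 (Lpr_ft (f589824 IH) (Lpn (LP (LK LD1_c17 LD2_c55 LD3_c6))))
theorem f589838 : Led Lsl_at (LP (LK LD1_c20 LD2_c8 LD3_c6)) = (LP (LK LD1_c20 LD2_c7 LD3_c21)) :=
  Lgr Lrot33 (Lpr_ff (f589831 IH) (Lpr_dt (f549924 IH) (Lpe (f588496 IH) (Lpr_dt (K39.f411951 IH) (Lpr_ct (f588498 IH) (Lpe (K44.f579065 IH) (Lpr_ct (f579079 IH) (Lpr_dt (K38.f380614 IH) (Lpr_ct (f423579 IH) (Lpn (LP (LK LD1_c20 LD2_c7 LD3_c21))))))))))))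
theorem f589840 : Led Lsl_af (LP (LK LD1_c15 LD2_c3 LD3_c53)) = (LP (LK LD1_c11 LD2_c12 LD3_c54)) :=
  Lgr Lrot68 (Lpr_ct (f574031 IH) (Lpr_at (f589838 IH) (Lpr_ct (f423578 IH) (Lpn (LP (LK LD1_c11 LD2_c12 LD3_c54))))))
theorem f589852 : Led Lsl_at (LP (LK LD1_c7 LD2_c59 LD3_c14)) = (LP (LK LD1_c5 LD2_c41 LD3_c20)) :=
  Lgr Lrot51 (Lpe (K39.f181357 IH) (Lpr_af (f589840 IH) (Lpe (K38.f380614 IH) (Lpn (LP (LK LD1_c5 LD2_c41 LD3_c20))))))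
theorem f588340 : Led Lsl_bf (LP (LK LD1_c8 LD2_c1 LD3_c45)) = (LP (LK LD1_c5 LD2_c41 LD3_c20)) :=
  Lgr Lrot34 (Lpr_gf (f588332 IH) (Lpe (K38.f30023 IH) (Lpr_ct (K38.f538860 IH) (Lpr_gf (K18.f225583 IH) (Lpe (K10.f37241 IH) (Lpe (K10.f197911 IH) (Lpr_bf (K43.f542307 IH) (Lpr_ct (K30.f281788 IH) (Lpe (K43.f579075 IH) (Lpr_cf (f579081 IH) (Lpn (LP (LK LD1_c5 LD2_c41 LD3_c20)))))))))))))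
theorem f588348 : Led Lsl_at (LP (LK LD1_c8 LD2_c1 LD3_c45)) = (LP (LK LD1_c4 LD2_c0 LD3_c25)) :=
  Lre_a IH (LK LD1_c8 LD2_c1 LD3_c45) (LK LD1_c4 LD2_c0 LD3_c25) Lrfl Lrfl
theorem f590178 : Led Lsl_bf (LP (LK LD1_c7 LD2_c59 LD3_c10)) = (LP (LK LD1_c4 LD2_c0 LD3_c25)) :=
  Lgr Lrot81 (Lpr_at (K44.f542208 IH) (Lpr_bt (K39.f181351 IH) (Lpr_at (f589852 IH) (Lpe (f588340 IH) (Lpr_at (f588348 IH) (Lpn (LP (LK LD1_c4 LD2_c0 LD3_c25))))))))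
theorem f587221 : Led Lsl_ef (LP (LK LD1_c4 LD2_c0 LD3_c25)) = (LP (LK LD1_c8 LD2_c1 LD3_c45)) :=
  Lgr Lrot28 (Lpr_ct (K39.f29515 IH) (Lpr_et (f587219 IH) (Lpe (f587163 IH) (Lpn (LP (LK LD1_c8 LD2_c1 LD3_c45))))))
theorem f590184 : Led Lsl_et (LP (LK LD1_c7 LD2_c59 LD3_c10)) = (LP (LK LD1_c5 LD2_c41 LD3_c20)) :=
  Lgr Lrot74 (Lpr_bf (f590178 IH) (Lpr_ef (f587221 IH) (Lpr_bf (f588340 IH) (Lpn (LP (LK LD1_c5 LD2_c41 LD3_c20))))))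
theorem f29451 : Led Lsl_dt (LP (LK LD1_c8 LD2_c1 LD3_c47)) = (LP (LK LD1_c4 LD2_c0 LD3_c25)) :=
  Lre_d IH (LK LD1_c8 LD2_c1 LD3_c47) (LK LD1_c4 LD2_c0 LD3_c25) Lrfl Lrfl
theorem f589045 : Led Lsl_bt (LP (LK LD1_c12 LD2_c9 LD3_c15)) = (LP (LK LD1_c8 LD2_c1 LD3_c47)) :=
  Lgr Lrot127 (Lpr_bf (f589043 IH) (Lpn (LP (LK LD1_c8 LD2_c1 LD3_c47))))
theorem f590182 : Led Lsl_dt (LP (LK LD1_c7 LD2_c59 LD3_c10)) = (LP (LK LD1_c12 LD2_c9 LD3_c15)) :=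
  Lgr Lrot79 (Lpr_bf (f590178 IH) (Lpe (f29451 IH) (Lpe (f589045 IH) (Lpn (LP (LK LD1_c12 LD2_c9 LD3_c15))))))
theorem f181510 : Led Lsl_dt (LP (LK LD1_c5 LD2_c41 LD3_c22)) = (LP (LK LD1_c11 LD2_c12 LD3_c58)) :=
  Lre_d IH (LK LD1_c5 LD2_c41 LD3_c22) (LK LD1_c11 LD2_c12 LD3_c58) Lrfl Lrfl
theorem f590190 : Led Lsl_gf (LP (LK LD1_c17 LD2_c0 LD3_c29)) = (LP (LK LD1_c11 LD2_c12 LD3_c58)) :=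
  Lgr Lrot145 (Lpr_df (K43.f552023 IH) (Lpr_et (K43.f552022 IH) (Lpe (K39.f552019 IH) (Lpr_dt (K6.f132847 IH) (Lpe (f133070 IH) (Lpe (f590182 IH) (Lpr_et (f590184 IH) (Lpr_gt (K38.f181488 IH) (Lpe (K40.f181509 IH) (Lpr_dt (f181510 IH) (Lpn (LP (LK LD1_c11 LD2_c12 LD3_c58)))))))))))))
theorem f590197 : Led Lsl_bt (LP (LK LD1_c5 LD2_c56 LD3_c24)) = (LP (LK LD1_c11 LD2_c12 LD3_c58)) :=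
  Lgr Lrot22 (Lpr_ct (K40.f553437 IH) (Lpr_gf (K41.f563241 IH) (Lpe (K41.f563283 IH) (Lpe (K41.f545922 IH) (Lpe (K42.f559876 IH) (Lpr_ct (K42.f420761 IH) (Lpe (K43.f559888 IH) (Lpr_cf (K43.f575876 IH) (Lpr_bt (K43.f561618 IH) (Lpr_gf (f590190 IH) (Lpn (LP (LK LD1_c11 LD2_c12 LD3_c58)))))))))))))
theorem f563289 : Led Lsl_bt (LP (LK LD1_c16 LD2_c22 LD3_c22)) = (LP (LK LD1_c11 LD2_c32 LD3_c34)) :=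
  Lgr Lrot22 (Lpr_ct (K41.f563283 IH) (Lpe (K41.f545193 IH) (Lpe (K40.f198266 IH) (Lpe (K38.f547577 IH) (Lpe (K38.f242180 IH) (Lpr_ct (K18.f193383 IH) (Lpr_gf (K18.f242164 IH) (Lpe (K18.f24561 IH) (Lpr_bt (K43.f242181 IH) (Lpe (f24484 IH) (Lpn (LP (LK LD1_c11 LD2_c32 LD3_c34)))))))))))))
theorem f563189 : Led Lsl_gt (LP (LK LD1_c3 LD2_c3 LD3_c24)) = (LP (LK LD1_c2 LD2_c52 LD3_c45)) :=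
  Lgr Lrot149 (Lpe (K41.f101728 IH) (Lpe (K40.f563181 IH) (Lpe (K40.f553421 IH) (Lpr_ct (K40.f553423 IH) (Lpr_gf (K40.f563185 IH) (Lpe (K40.f175582 IH) (Lpr_bt (K42.f545816 IH) (Lpr_gf (K39.f555889 IH) (Lpe (K6.f81842 IH) (Lpr_ct (K39.f556725 IH) (Lpn (LP (LK LD1_c2 LD2_c52 LD3_c45)))))))))))))
theorem f81941 : Led Lsl_ct (LP (LK LD1_c11 LD2_c34 LD3_c1)) = (LP (LK LD1_c5 LD2_c54 LD3_c6)) :=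
  Lre_c IH (LK LD1_c11 LD2_c34 LD3_c1) (LK LD1_c5 LD2_c54 LD3_c6) Lrfl Lrfl
theorem f81944 : Led Lsl_gt (LP (LK LD1_c20 LD2_c31 LD3_c29)) = (LP (LK LD1_c11 LD2_c34 LD3_c1)) :=
  Lre_g IH (LK LD1_c20 LD2_c31 LD3_c29) (LK LD1_c11 LD2_c34 LD3_c1) Lrfl Lrfl
theorem f590194 : Led Lsl_ct (LP (LK LD1_c17 LD2_c0 LD3_c29)) = (LP (LK LD1_c20 LD2_c31 LD3_c29)) :=
  Lgr Lrot152 (Lpr_gf (f590190 IH) (Lpe (f181510 IH) (Lpr_gt (K40.f563181 IH) (Lpr_ct (K41.f101728 IH) (Lpr_gt (f563189 IH) (Lpr_ct (K39.f556731 IH) (Lpe (K6.f81856 IH) (Lpe (f81941 IH) (Lpe (f81944 IH) (Lpn (LP (LK LD1_c20 LD2_c31 LD3_c29))))))))))))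
theorem f81861 : Led Lsl_ct (LP (LK LD1_c5 LD2_c54 LD3_c6)) = (LP (LK LD1_c11 LD2_c34 LD3_c1)) :=
  Lre_c IH (LK LD1_c5 LD2_c54 LD3_c6) (LK LD1_c11 LD2_c34 LD3_c1) Lrfl Lrfl
theorem f81859 : Led Lsl_bt (LP (LK LD1_c5 LD2_c54 LD3_c6)) = (LP (LK LD1_c5 LD2_c55 LD3_c41)) :=
  Lgr Lrot127 (Lpr_bf (K6.f81857 IH) (Lpn (LP (LK LD1_c5 LD2_c55 LD3_c41))))
theorem f590205 : Led Lsl_gf (LP (LK LD1_c11 LD2_c32 LD3_c34)) = (LP (LK LD1_c5 LD2_c55 LD3_c41)) :=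
  Lgr Lrot124 (Lpe (f563289 IH) (Lpr_ct (K41.f563283 IH) (Lpe (K41.f563241 IH) (Lpe (K40.f553437 IH) (Lpr_bt (f590197 IH) (Lpe (f590190 IH) (Lpr_ct (f590194 IH) (Lpr_gt (f81944 IH) (Lpe (f81861 IH) (Lpr_bt (f81859 IH) (Lpn (LP (LK LD1_c5 LD2_c55 LD3_c41)))))))))))))
theorem f56188 : Led Lsl_dt (LP (LK LD1_c2 LD2_c4 LD3_c5)) = (LP (LK LD1_c4 LD2_c13 LD3_c31)) :=
  Lre_d IH (LK LD1_c2 LD2_c4 LD3_c5) (LK LD1_c4 LD2_c13 LD3_c31) Lrfl Lrfl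
theorem f46940 : Led Lsl_gt (LP (LK LD1_c4 LD2_c13 LD3_c31)) = (LP (LK LD1_c8 LD2_c25 LD3_c59)) :=
  Lre_g IH (LK LD1_c4 LD2_c13 LD3_c31) (LK LD1_c8 LD2_c25 LD3_c59) Lrfl Lrfl
theorem f59555 : Led Lsl_et (LP (LK LD1_c5 LD2_c55 LD3_c30)) = (LP (LK LD1_c2 LD2_c54 LD3_c5)) :=
  Lre_e IH (LK LD1_c5 LD2_c55 LD3_c30) (LK LD1_c2 LD2_c54 LD3_c5) Lrfl Lrfl
theorem f590217 : Led Lsl_df (LP (LK LD1_c8 LD2_c25 LD3_c59)) = (LP (LK LD1_c5 LD2_c55 LD3_c30)) :=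
  Lgr Lrot132 (Lpe (f46940 IH) (Lpe (f56188 IH) (Lpe (K43.f56217 IH) (Lpe (f56319 IH) (Lpe (f587073 IH) (Lpr_gf (f590205 IH) (Lpe (K6.f69462 IH) (Lpr_et (K6.f69461 IH) (Lpr_gf (K8.f69441 IH) (Lpe (f59555 IH) (Lpn (LP (LK LD1_c5 LD2_c55 LD3_c30)))))))))))))
theorem f546531 : Led Lsl_cf (LP (LK LD1_c8 LD2_c38 LD3_c22)) = (LP (LK LD1_c15 LD2_c50 LD3_c19)) :=
  Lgr Lrot11 (Lpr_ct (K38.f546527 IH) (Lpn (LP (LK LD1_c15 LD2_c50 LD3_c19))))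
theorem f420967 : Led Lsl_bt (LP (LK LD1_c11 LD2_c34 LD3_c39)) = (LP (LK LD1_c5 LD2_c54 LD3_c24)) :=
  Lre_b IH (LK LD1_c11 LD2_c34 LD3_c39) (LK LD1_c5 LD2_c54 LD3_c24) Lrfl Lrfl
theorem f420968 : Led Lsl_ct (LP (LK LD1_c11 LD2_c34 LD3_c39)) = (LP (LK LD1_c20 LD2_c32 LD3_c35)) :=
  Lre_c IH (LK LD1_c11 LD2_c34 LD3_c39) (LK LD1_c20 LD2_c32 LD3_c35) Lrfl Lrfl
theorem f546541 : Led Lsl_gt (LP (LK LD1_c20 LD2_c32 LD3_c35)) = (LP (LK LD1_c15 LD2_c50 LD3_c19)) :=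
  Lgr Lrot65 (Lpe (f420968 IH) (Lpr_bt (f420967 IH) (Lpe (K43.f420966 IH) (Lpe (K43.f420731 IH) (Lpr_ct (K13.f201437 IH) (Lpe (K13.f231475 IH) (Lpr_cf (K15.f231527 IH) (Lpr_gf (K15.f239252 IH) (Lpe (K38.f239284 IH) (Lpr_ct (K38.f546527 IH) (Lpn (LP (LK LD1_c15 LD2_c50 LD3_c19)))))))))))))
theorem f590229 : Led Lsl_gt (LP (LK LD1_c8 LD2_c25 LD3_c59)) = (LP (LK LD1_c11 LD2_c34 LD3_c39)) :=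
  Lgr Lrot9 (Lpr_df (f590217 IH) (Lpe (K36.f421332 IH) (Lpr_ct (K36.f239254 IH) (Lpr_gt (K36.f34940 IH) (Lpr_ct (K20.f34922 IH) (Lpe (K38.f34927 IH) (Lpr_cf (f546531 IH) (Lpe (f546541 IH) (Lpe (f420968 IH) (Lpn (LP (LK LD1_c11 LD2_c34 LD3_c39))))))))))))
theorem f551873 : Led Lsl_gf (LP (LK LD1_c5 LD2_c13 LD3_c40)) = (LP (LK LD1_c10 LD2_c1 LD3_c30)) :=
  Lgr Lrot76 (Lpe (K42.f308193 IH) (Lpr_ff (K42.f427881 IH) (Lpr_gt (K39.f551871 IH) (Lpn (LP (LK LD1_c10 LD2_c1 LD3_c30))))))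
theorem f557130 : Led Lsl_ef (LP (LK LD1_c4 LD2_c56 LD3_c58)) = (LP (LK LD1_c8 LD2_c25 LD3_c52)) :=
  Lgr Lrot29 (Lpe (K40.f419021 IH) (Lpr_et (K39.f557128 IH) (Lpe (K43.f46856 IH) (Lpn (LP (LK LD1_c8 LD2_c25 LD3_c52))))))
theorem f590233 : Led Lsl_df (LP (LK LD1_c11 LD2_c34 LD3_c39)) = (LP (LK LD1_c8 LD2_c25 LD3_c52)) :=
  Lgr Lrot132 (Lpe (f590229 IH) (Lpr_df (f590217 IH) (Lpe (K37.f542365 IH) (Lpe (K41.f405149 IH) (Lpr_dt (K36.f308199 IH) (Lpr_gf (f551873 IH) (Lpe (K39.f551860 IH) (Lpe (K39.f551864 IH) (Lpr_gf (K40.f561695 IH) (Lpr_ef (f557130 IH) (Lpn (LP (LK LD1_c8 LD2_c25 LD3_c52)))))))))))))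
theorem f586819 : Led Lsl_ft (LP (LK LD1_c9 LD2_c7 LD3_c44)) = (LP (LK LD1_c16 LD2_c59 LD3_c30)) :=
  Lgr Lrot48 (Lpr_ff (f586814 IH) (Lpn (LP (LK LD1_c16 LD2_c59 LD3_c30))))
theorem f586821 : Led Lsl_ff (LP (LK LD1_c4 LD2_c35 LD3_c38)) = (LP (LK LD1_c9 LD2_c7 LD3_c21)) :=
  Lgr Lrot23 (Lpr_ct (K43.f71797 IH) (Lpr_ft (f586819 IH) (Lpr_ct (f35201 IH) (Lpn (LP (LK LD1_c9 LD2_c7 LD3_c21))))))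
theorem f547898 : Led Lsl_at (LP (LK LD1_c4 LD2_c35 LD3_c38)) = (LP (LK LD1_c2 LD2_c16 LD3_c56)) :=
  Lgr Lrot100 (Lpr_af (K36.f547894 IH) (Lpn (LP (LK LD1_c2 LD2_c16 LD3_c56))))
theorem f56200 : Led Lsl_dt (LP (LK LD1_c9 LD2_c15 LD3_c9)) = (LP (LK LD1_c4 LD2_c39 LD3_c49)) :=
  Lre_d IH (LK LD1_c9 LD2_c15 LD3_c9) (LK LD1_c4 LD2_c39 LD3_c49) Lrfl Lrfl
theorem f56201 : Led Lsl_ct (LP (LK LD1_c17 LD2_c9 LD3_c41)) = (LP (LK LD1_c9 LD2_c15 LD3_c9)) :=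
  Lre_c IH (LK LD1_c17 LD2_c9 LD3_c41) (LK LD1_c9 LD2_c15 LD3_c9) Lrfl Lrfl
theorem f590244 : Led Lsl_dt (LP (LK LD1_c20 LD2_c32 LD3_c35)) = (LP (LK LD1_c17 LD2_c9 LD3_c41)) :=
  Lgr Lrot140 (Lpe (f420968 IH) (Lpr_df (f590233 IH) (Lpr_cf (K40.f56219 IH) (Lpe (K43.f546519 IH) (Lpe (f586821 IH) (Lpr_at (f547898 IH) (Lpe (f56199 IH) (Lpe (f56200 IH) (Lpe (f56201 IH) (Lpn (LP (LK LD1_c17 LD2_c9 LD3_c41))))))))))))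
theorem f56206 : Led Lsl_at (LP (LK LD1_c15 LD2_c50 LD3_c13)) = (LP (LK LD1_c8 LD2_c25 LD3_c61)) :=
  Lre_a IH (LK LD1_c15 LD2_c50 LD3_c13) (LK LD1_c8 LD2_c25 LD3_c61) Lrfl Lrfl
theorem f590249 : Led Lsl_ft (LP (LK LD1_c20 LD2_c32 LD3_c35)) = (LP (LK LD1_c15 LD2_c50 LD3_c13)) :=
  Lgr Lrot142 (Lpr_dt (f590244 IH) (Lpr_ct (f56201 IH) (Lpr_dt (f56200 IH) (Lpr_ct (f56199 IH) (Lpr_dt (K36.f56198 IH) (Lpe (K28.f56185 IH) (Lpr_dt (f56188 IH) (Lpr_ct (K38.f56196 IH) (Lpe (f56206 IH) (Lpn (LP (LK LD1_c15 LD2_c50 LD3_c13))))))))))))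
theorem f590260 : Led Lsl_ff (LP (LK LD1_c20 LD2_c32 LD3_c35)) = (LP (LK LD1_c15 LD2_c50 LD3_c13)) :=
  Lgr Lrot3 (Lpr_ft (f590249 IH) (Lpn (LP (LK LD1_c15 LD2_c50 LD3_c13))))
theorem f56262 : Led Lsl_at (LP (LK LD1_c8 LD2_c25 LD3_c61)) = (LP (LK LD1_c15 LD2_c50 LD3_c13)) :=
  Lre_a IH (LK LD1_c8 LD2_c25 LD3_c61) (LK LD1_c15 LD2_c50 LD3_c13) Lrfl Lrfl
theorem f56263 : Led Lsl_ft (LP (LK LD1_c15 LD2_c50 LD3_c23)) = (LP (LK LD1_c8 LD2_c25 LD3_c61)) :=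
  Lre_f IH (LK LD1_c15 LD2_c50 LD3_c23) (LK LD1_c8 LD2_c25 LD3_c61) Lrfl Lrfl
theorem f590262 : Led Lsl_at (LP (LK LD1_c20 LD2_c32 LD3_c35)) = (LP (LK LD1_c15 LD2_c50 LD3_c23)) :=
  Lgr Lrot66 (Lpr_ff (f590260 IH) (Lpe (f56262 IH) (Lpe (f56263 IH) (Lpn (LP (LK LD1_c15 LD2_c50 LD3_c23))))))
theorem f46587 : Led Lsl_ct (LP (LK LD1_c15 LD2_c50 LD3_c23)) = (LP (LK LD1_c8 LD2_c26 LD3_c1)) :=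
  Lre_c IH (LK LD1_c15 LD2_c50 LD3_c23) (LK LD1_c8 LD2_c26 LD3_c1) Lrfl Lrfl
theorem f590323 : Led Lsl_af (LP (LK LD1_c11 LD2_c34 LD3_c39)) = (LP (LK LD1_c8 LD2_c26 LD3_c1)) :=
  Lgr Lrot68 (Lpr_ct (f420968 IH) (Lpr_at (f590262 IH) (Lpr_ct (f46587 IH) (Lpn (LP (LK LD1_c8 LD2_c26 LD3_c1))))))
theorem f590239 : Led Lsl_et (LP (LK LD1_c11 LD2_c34 LD3_c39)) = (LP (LK LD1_c20 LD2_c32 LD3_c36)) :=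
  Lre_e IH (LK LD1_c11 LD2_c34 LD3_c39) (LK LD1_c20 LD2_c32 LD3_c36) Lrfl Lrfl
theorem f60270 : Led Lsl_et (LP (LK LD1_c15 LD2_c50 LD3_c27)) = (LP (LK LD1_c8 LD2_c26 LD3_c1)) :=
  Lre_e IH (LK LD1_c15 LD2_c50 LD3_c27) (LK LD1_c8 LD2_c26 LD3_c1) Lrfl Lrfl
theorem f590327 : Led Lsl_at (LP (LK LD1_c20 LD2_c32 LD3_c36)) = (LP (LK LD1_c15 LD2_c50 LD3_c27)) :=
  Lgr Lrot80 (Lpe (f590239 IH) (Lpr_af (f590323 IH) (Lpe (f60270 IH) (Lpn (LP (LK LD1_c15 LD2_c50 LD3_c27))))))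
theorem f590331 : Led Lsl_bt (LP (LK LD1_c11 LD2_c34 LD3_c41)) = (LP (LK LD1_c20 LD2_c32 LD3_c36)) :=
  Lre_b IH (LK LD1_c11 LD2_c34 LD3_c41) (LK LD1_c20 LD2_c32 LD3_c36) Lrfl Lrfl
theorem f46759 : Led Lsl_bt (LP (LK LD1_c15 LD2_c50 LD3_c27)) = (LP (LK LD1_c8 LD2_c26 LD3_c7)) :=
  Lre_b IH (LK LD1_c15 LD2_c50 LD3_c27) (LK LD1_c8 LD2_c26 LD3_c7) Lrfl Lrfl
theorem f46760 : Led Lsl_bt (LP (LK LD1_c8 LD2_c10 LD3_c45)) = (LP (LK LD1_c15 LD2_c23 LD3_c52)) :=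
  Lre_b IH (LK LD1_c8 LD2_c10 LD3_c45) (LK LD1_c15 LD2_c23 LD3_c52) Lrfl Lrfl
theorem f590332 : Led Lsl_af (LP (LK LD1_c11 LD2_c34 LD3_c41)) = (LP (LK LD1_c15 LD2_c23 LD3_c52)) :=
  Lgr Lrot36 (Lpr_bt (f590331 IH) (Lpr_at (f590327 IH) (Lpr_bt (f46759 IH) (Lpr_at (K1.f46757 IH) (Lpr_bt (f46760 IH) (Lpn (LP (LK LD1_c15 LD2_c23 LD3_c52))))))))
theorem f590335 : Led Lsl_at (LP (LK LD1_c11 LD2_c34 LD3_c41)) = (LP (LK LD1_c15 LD2_c23 LD3_c52)) :=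
  Lgr Lrot100 (Lpr_af (f590332 IH) (Lpn (LP (LK LD1_c15 LD2_c23 LD3_c52))))
theorem f590343 : Led Lsl_et (LP (LK LD1_c5 LD2_c54 LD3_c24)) = (LP (LK LD1_c11 LD2_c34 LD3_c41)) :=
  Lre_e IH (LK LD1_c5 LD2_c54 LD3_c24) (LK LD1_c11 LD2_c34 LD3_c41) Lrfl Lrfl
theorem f56479 : Led Lsl_et (LP (LK LD1_c15 LD2_c23 LD3_c52)) = (LP (LK LD1_c8 LD2_c10 LD3_c39)) :=
  Lre_e IH (LK LD1_c15 LD2_c23 LD3_c52) (LK LD1_c8 LD2_c10 LD3_c39) Lrfl Lrfl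
theorem f590344 : Led Lsl_af (LP (LK LD1_c5 LD2_c54 LD3_c24)) = (LP (LK LD1_c8 LD2_c10 LD3_c39)) :=
  Lgr Lrot50 (Lpr_et (f590343 IH) (Lpr_at (f590335 IH) (Lpr_et (f56479 IH) (Lpn (LP (LK LD1_c8 LD2_c10 LD3_c39))))))
theorem f575718 : Led Lsl_ct (LP (LK LD1_c11 LD2_c34 LD3_c40)) = (LP (LK LD1_c5 LD2_c54 LD3_c24)) :=
  Lre_c IH (LK LD1_c11 LD2_c34 LD3_c40) (LK LD1_c5 LD2_c54 LD3_c24) Lrfl Lrfl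
theorem f590352 : Led Lsl_ft (LP (LK LD1_c4 LD2_c4 LD3_c55)) = (LP (LK LD1_c8 LD2_c10 LD3_c39)) :=
  Lre_f IH (LK LD1_c4 LD2_c4 LD3_c55) (LK LD1_c8 LD2_c10 LD3_c39) Lrfl Lrfl
theorem f548028 : Led Lsl_dt (LP (LK LD1_c4 LD2_c5 LD3_c61)) = (LP (LK LD1_c8 LD2_c12 LD3_c44)) :=
  Lre_d IH (LK LD1_c4 LD2_c5 LD3_c61) (LK LD1_c8 LD2_c12 LD3_c44) Lrfl Lrfl
theorem f548064 : Led Lsl_ct (LP (LK LD1_c8 LD2_c12 LD3_c44)) = (LP (LK LD1_c15 LD2_c26 LD3_c60)) :=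
  Lre_c IH (LK LD1_c8 LD2_c12 LD3_c44) (LK LD1_c15 LD2_c26 LD3_c60) Lrfl Lrfl
theorem f590355 : Led Lsl_df (LP (LK LD1_c11 LD2_c34 LD3_c40)) = (LP (LK LD1_c15 LD2_c26 LD3_c60)) :=
  Lgr Lrot177 (Lpr_ct (f575718 IH) (Lpr_af (f590344 IH) (Lpe (f590352 IH) (Lpr_dt (K2.f73377 IH) (Lpr_ct (K38.f73279 IH) (Lpr_dt (K38.f73284 IH) (Lpr_ct (K38.f169101 IH) (Lpr_dt (f548028 IH) (Lpr_ct (f548064 IH) (Lpn (LP (LK LD1_c15 LD2_c26 LD3_c60))))))))))))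
theorem f177397 : Led Lsl_gt (LP (LK LD1_c15 LD2_c26 LD3_c59)) = (LP (LK LD1_c8 LD2_c12 LD3_c44)) :=
  Lre_g IH (LK LD1_c15 LD2_c26 LD3_c59) (LK LD1_c8 LD2_c12 LD3_c44) Lrfl Lrfl
theorem f590363 : Led Lsl_ct (LP (LK LD1_c25 LD2_c15 LD3_c60)) = (LP (LK LD1_c15 LD2_c26 LD3_c59)) :=
  Lgr Lrot152 (Lpe (f546634 IH) (Lpe (K38.f538470 IH) (Lpr_gt (K35.f420932 IH) (Lpr_ct (K35.f420946 IH) (Lpr_gt (K43.f420966 IH) (Lpr_ct (K43.f420969 IH) (Lpr_df (f590355 IH) (Lpe (f548064 IH) (Lpe (f177397 IH) (Lpn (LP (LK LD1_c15 LD2_c26 LD3_c59))))))))))))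
theorem f557020 : Led Lsl_ft (LP (LK LD1_c28 LD2_c0 LD3_c46)) = (LP (LK LD1_c25 LD2_c16 LD3_c2)) :=
  Lgr Lrot48 (Lpr_ff (f557017 IH) (Lpn (LP (LK LD1_c25 LD2_c16 LD3_c2))))
theorem f586681 : Led Lsl_ft (LP (LK LD1_c15 LD2_c26 LD3_c58)) = (LP (LK LD1_c18 LD2_c23 LD3_c18)) :=
  Lgr Lrot4 (Lpr_cf (f586672 IH) (Lpe (f557020 IH) (Lpe (f186281 IH) (Lpn (LP (LK LD1_c18 LD2_c23 LD3_c18))))))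
theorem f590373 : Led Lsl_at (LP (LK LD1_c18 LD2_c23 LD3_c18)) = (LP (LK LD1_c15 LD2_c26 LD3_c59)) :=
  Lgr Lrot33 (Lpe (f586681 IH) (Lpr_dt (f586664 IH) (Lpr_ct (f198619 IH) (Lpr_dt (K39.f180388 IH) (Lpe (f553896 IH) (Lpr_dt (K39.f73478 IH) (Lpr_ct (f181429 IH) (Lpr_dt (f546636 IH) (Lpr_ct (f590363 IH) (Lpn (LP (LK LD1_c15 LD2_c26 LD3_c59))))))))))))
theorem f590375 : Led Lsl_gt (LP (LK LD1_c11 LD2_c35 LD3_c41)) = (LP (LK LD1_c15 LD2_c26 LD3_c59)) :=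
  Lgr Lrot46 (Lpe (f586683 IH) (Lpr_ft (f586681 IH) (Lpr_at (f590373 IH) (Lpn (LP (LK LD1_c15 LD2_c26 LD3_c59))))))
theorem f548015 : Led Lsl_cf (LP (LK LD1_c5 LD2_c54 LD3_c2)) = (LP (LK LD1_c8 LD2_c12 LD3_c42)) :=
  Lgr Lrot11 (Lpr_ct (K38.f548010 IH) (Lpn (LP (LK LD1_c8 LD2_c12 LD3_c42))))
theorem f538434 : Led Lsl_dt (LP (LK LD1_c5 LD2_c55 LD3_c4)) = (LP (LK LD1_c11 LD2_c35 LD3_c37)) :=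
  Lre_d IH (LK LD1_c5 LD2_c55 LD3_c4) (LK LD1_c11 LD2_c35 LD3_c37) Lrfl Lrfl
theorem f8400 : Led Lsl_bt (LP (LK LD1_c2 LD2_c37 LD3_c23)) = (LP (LK LD1_c5 LD2_c21 LD3_c33)) :=
  Lre_b IH (LK LD1_c2 LD2_c37 LD3_c23) (LK LD1_c5 LD2_c21 LD3_c33) Lrfl Lrfl
theorem f8401 : Led Lsl_gt (LP (LK LD1_c5 LD2_c21 LD3_c33)) = (LP (LK LD1_c10 LD2_c33 LD3_c25)) :=
  Lre_g IH (LK LD1_c5 LD2_c21 LD3_c33) (LK LD1_c10 LD2_c33 LD3_c25) Lrfl Lrfl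
theorem f8402 : Led Lsl_dt (LP (LK LD1_c10 LD2_c33 LD3_c25)) = (LP (LK LD1_c19 LD2_c7 LD3_c9)) :=
  Lre_d IH (LK LD1_c10 LD2_c33 LD3_c25) (LK LD1_c19 LD2_c7 LD3_c9) Lrfl Lrfl
theorem f575498 : Led Lsl_bt (LP (LK LD1_c25 LD2_c18 LD3_c35)) = (LP (LK LD1_c15 LD2_c26 LD3_c54)) :=
  Lre_b IH (LK LD1_c25 LD2_c18 LD3_c35) (LK LD1_c15 LD2_c26 LD3_c54) Lrfl Lrfl
theorem f575499 : Led Lsl_ct (LP (LK LD1_c19 LD2_c7 LD3_c9)) = (LP (LK LD1_c25 LD2_c18 LD3_c35)) :=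
  Lgr Lrot191 (Lpe (f8402 IH) (Lpe (f8401 IH) (Lpe (f8400 IH) (Lpe (K12.f8399 IH) (Lpe (K12.f8398 IH) (Lpe (K10.f8397 IH) (Lpe (K10.f8396 IH) (Lpr_cf (K0.f8276 IH) (Lpe (K0.f8383 IH) (Lpe (K0.f8302 IH) (Lpr_bf (K9.f177826 IH) (Lpe (K10.f8386 IH) (Lpe (K22.f21264 IH) (Lpe (K43.f194059 IH) (Lpe (K43.f172046 IH) (Lpe (K43.f194066 IH) (Lpr_df (K43.f575492 IH) (Lpe (K43.f575496 IH) (Lpe (f575498 IH) (Lpn (LP (LK LD1_c25 LD2_c18 LD3_c35))))))))))))))))))))))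
theorem f575503 : Led Lsl_bt (LP (LK LD1_c28 LD2_c32 LD3_c41)) = (LP (LK LD1_c19 LD2_c7 LD3_c9)) :=
  Lre_b IH (LK LD1_c28 LD2_c32 LD3_c41) (LK LD1_c19 LD2_c7 LD3_c9) Lrfl Lrfl
theorem f420920 : Led Lsl_bt (LP (LK LD1_c11 LD2_c34 LD3_c45)) = (LP (LK LD1_c20 LD2_c32 LD3_c49)) :=
  Lre_b IH (LK LD1_c11 LD2_c34 LD3_c45) (LK LD1_c20 LD2_c32 LD3_c49) Lrfl Lrfl
theorem f575504 : Led Lsl_cf (LP (LK LD1_c28 LD2_c32 LD3_c41)) = (LP (LK LD1_c20 LD2_c32 LD3_c49)) :=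
  Lgr Lrot97 (Lpr_bt (f575503 IH) (Lpr_ct (f575499 IH) (Lpr_bt (f575498 IH) (Lpe (f548018 IH) (Lpr_bt (f420920 IH) (Lpn (LP (LK LD1_c20 LD2_c32 LD3_c49))))))))
theorem f575523 : Led Lsl_ct (LP (LK LD1_c28 LD2_c32 LD3_c41)) = (LP (LK LD1_c20 LD2_c32 LD3_c49)) :=
  Lgr Lrot59 (Lpr_cf (f575504 IH) (Lpn (LP (LK LD1_c20 LD2_c32 LD3_c49))))
theorem f575514 : Led Lsl_bt (LP (LK LD1_c19 LD2_c7 LD3_c9)) = (LP (LK LD1_c28 LD2_c32 LD3_c41)) :=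
  Lre_b IH (LK LD1_c19 LD2_c7 LD3_c9) (LK LD1_c28 LD2_c32 LD3_c41) Lrfl Lrfl
theorem f575506 : Led Lsl_cf (LP (LK LD1_c19 LD2_c7 LD3_c9)) = (LP (LK LD1_c25 LD2_c18 LD3_c35)) :=
  Lgr Lrot11 (Lpr_ct (f575499 IH) (Lpn (LP (LK LD1_c25 LD2_c18 LD3_c35))))
theorem f566958 : Led Lsl_bt (LP (LK LD1_c15 LD2_c26 LD3_c54)) = (LP (LK LD1_c25 LD2_c18 LD3_c35)) :=
  Lre_b IH (LK LD1_c15 LD2_c26 LD3_c54) (LK LD1_c25 LD2_c18 LD3_c35) Lrfl Lrfl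
theorem f420945 : Led Lsl_bt (LP (LK LD1_c20 LD2_c32 LD3_c49)) = (LP (LK LD1_c11 LD2_c34 LD3_c45)) :=
  Lre_b IH (LK LD1_c20 LD2_c32 LD3_c49) (LK LD1_c11 LD2_c34 LD3_c45) Lrfl Lrfl
theorem f575529 : Led Lsl_cf (LP (LK LD1_c15 LD2_c26 LD3_c54)) = (LP (LK LD1_c11 LD2_c34 LD3_c45)) :=
  Lgr Lrot97 (Lpr_bt (f566958 IH) (Lpe (f575506 IH) (Lpr_bt (f575514 IH) (Lpr_ct (f575523 IH) (Lpr_bt (f420945 IH) (Lpn (LP (LK LD1_c11 LD2_c34 LD3_c45))))))))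
theorem f420955 : Led Lsl_gt (LP (LK LD1_c20 LD2_c32 LD3_c51)) = (LP (LK LD1_c11 LD2_c34 LD3_c45)) :=
  Lre_g IH (LK LD1_c20 LD2_c32 LD3_c51) (LK LD1_c11 LD2_c34 LD3_c45) Lrfl Lrfl
theorem f575542 : Led Lsl_df (LP (LK LD1_c11 LD2_c35 LD3_c23)) = (LP (LK LD1_c20 LD2_c32 LD3_c51)) :=
  Lgr Lrot155 (Lpe (K41.f556966 IH) (Lpr_ct (K41.f205042 IH) (Lpr_gt (K41.f556923 IH) (Lpr_ct (K43.f417502 IH) (Lpr_dt (K43.f556949 IH) (Lpr_cf (K43.f575484 IH) (Lpe (K43.f575496 IH) (Lpr_cf (f575529 IH) (Lpe (f420955 IH) (Lpn (LP (LK LD1_c20 LD2_c32 LD3_c51))))))))))))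
theorem f442698 : Led Lsl_ct (LP (LK LD1_c2 LD2_c53 LD3_c51)) = (LP (LK LD1_c5 LD2_c54 LD3_c61)) :=
  Lre_c IH (LK LD1_c2 LD2_c53 LD3_c51) (LK LD1_c5 LD2_c54 LD3_c61) Lrfl Lrfl
theorem f545670 : Led Lsl_gt (LP (LK LD1_c11 LD2_c35 LD3_c31)) = (LP (LK LD1_c5 LD2_c55 LD3_c2)) :=
  Lre_g IH (LK LD1_c11 LD2_c35 LD3_c31) (LK LD1_c5 LD2_c55 LD3_c2) Lrfl Lrfl
theorem f545052 : Led Lsl_bt (LP (LK LD1_c2 LD2_c31 LD3_c13)) = (LP (LK LD1_c5 LD2_c7 LD3_c55)) :=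
  Lre_b IH (LK LD1_c2 LD2_c31 LD3_c13) (LK LD1_c5 LD2_c7 LD3_c55) Lrfl Lrfl
theorem f557514 : Led Lsl_gt (LP (LK LD1_c6 LD2_c7 LD3_c27)) = (LP (LK LD1_c5 LD2_c6 LD3_c30)) :=
  Lgr Lrot5 (Lpr_ft (K38.f548411 IH) (Lpr_at (K5.f132344 IH) (Lpr_gf (K40.f557512 IH) (Lpn (LP (LK LD1_c5 LD2_c6 LD3_c30))))))
theorem f557535 : Led Lsl_gf (LP (LK LD1_c5 LD2_c7 LD3_c56)) = (LP (LK LD1_c10 LD2_c6 LD3_c4)) :=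
  Lgr Lrot104 (Lpr_ct (K43.f3255 IH) (Lpr_df (K38.f544987 IH) (Lpq (K38.f544988 IH) (Lpe (K38.f36554 IH) (Lpr_gf (K40.f557526 IH) (Lpr_cf (K40.f557528 IH) (Lpe (f557514 IH) (Lpr_df (K40.f548426 IH) (Lpr_gt (K43.f545706 IH) (Lpr_ct (K27.f169688 IH) (Lpn (LP (LK LD1_c10 LD2_c6 LD3_c4)))))))))))))
theorem f421447 : Led Lsl_dt (LP (LK LD1_c8 LD2_c49 LD3_c3)) = (LP (LK LD1_c4 LD2_c25 LD3_c49)) :=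
  Lre_d IH (LK LD1_c8 LD2_c49 LD3_c3) (LK LD1_c4 LD2_c25 LD3_c49) Lrfl Lrfl
theorem f539744 : Led Lsl_bt (LP (LK LD1_c8 LD2_c12 LD3_c34)) = (LP (LK LD1_c8 LD2_c49 LD3_c3)) :=
  Lgr Lrot95 (Lpr_df (K36.f539742 IH) (Lpr_bf (K36.f427894 IH) (Lpe (f421447 IH) (Lpn (LP (LK LD1_c8 LD2_c49 LD3_c3))))))
theorem f570756 : Led Lsl_cf (LP (LK LD1_c11 LD2_c35 LD3_c31)) = (LP (LK LD1_c8 LD2_c12 LD3_c34)) :=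
  Lgr Lrot160 (Lpr_gt (f545670 IH) (Lpe (K38.f180590 IH) (Lpr_bt (K38.f545703 IH) (Lpr_gt (K43.f545706 IH) (Lpr_ct (K27.f169688 IH) (Lpe (f557535 IH) (Lpe (K38.f545062 IH) (Lpr_bt (f545052 IH) (Lpr_gt (K42.f570748 IH) (Lpe (f539744 IH) (Lpn (LP (LK LD1_c8 LD2_c12 LD3_c34)))))))))))))
theorem f570836 : Led Lsl_ct (LP (LK LD1_c11 LD2_c35 LD3_c31)) = (LP (LK LD1_c8 LD2_c12 LD3_c34)) :=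
  Lgr Lrot59 (Lpr_cf (f570756 IH) (Lpn (LP (LK LD1_c8 LD2_c12 LD3_c34))))
theorem f71300 : Led Lsl_dt (LP (LK LD1_c5 LD2_c54 LD3_c2)) = (LP (LK LD1_c2 LD2_c53 LD3_c23)) :=
  Lre_d IH (LK LD1_c5 LD2_c54 LD3_c2) (LK LD1_c2 LD2_c53 LD3_c23) Lrfl Lrfl
theorem f570840 : Led Lsl_gf (LP (LK LD1_c11 LD2_c35 LD3_c31)) = (LP (LK LD1_c5 LD2_c55 LD3_c4)) :=
  Lgr Lrot104 (Lpr_ct (f570836 IH) (Lpr_df (K36.f539742 IH) (Lpr_cf (K36.f427916 IH) (Lpe (K43.f421246 IH) (Lpe (K37.f239274 IH) (Lpe (K37.f71114 IH) (Lpe (f71300 IH) (Lpr_gt (K35.f202286 IH) (Lpr_ct (K38.f421258 IH) (Lpn (LP (LK LD1_c5 LD2_c55 LD3_c4))))))))))))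
theorem f428090 : Led Lsl_ct (LP (LK LD1_c5 LD2_c54 LD3_c54)) = (LP (LK LD1_c2 LD2_c53 LD3_c47)) :=
  Lre_c IH (LK LD1_c5 LD2_c54 LD3_c54) (LK LD1_c2 LD2_c53 LD3_c47) Lrfl Lrfl
theorem f553861 : Led Lsl_dt (LP (LK LD1_c11 LD2_c35 LD3_c15)) = (LP (LK LD1_c5 LD2_c54 LD3_c54)) :=
  Lre_d IH (LK LD1_c11 LD2_c35 LD3_c15) (LK LD1_c5 LD2_c54 LD3_c54) Lrfl Lrfl
theorem f570842 : Led Lsl_gt (LP (LK LD1_c20 LD2_c33 LD3_c15)) = (LP (LK LD1_c11 LD2_c35 LD3_c15)) :=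
  Lre_g IH (LK LD1_c20 LD2_c33 LD3_c15) (LK LD1_c11 LD2_c35 LD3_c15) Lrfl Lrfl
theorem f570843 : Led Lsl_dt (LP (LK LD1_c11 LD2_c35 LD3_c31)) = (LP (LK LD1_c20 LD2_c33 LD3_c15)) :=
  Lgr Lrot57 (Lpr_gf (f570840 IH) (Lpe (K38.f421258 IH) (Lpr_gt (K38.f186787 IH) (Lpr_dt (K38.f186708 IH) (Lpr_gt (K35.f137409 IH) (Lpr_dt (K39.f137410 IH) (Lpe (f428090 IH) (Lpe (f553861 IH) (Lpe (f570842 IH) (Lpn (LP (LK LD1_c20 LD2_c33 LD3_c15))))))))))))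
theorem f575538 : Led Lsl_ct (LP (LK LD1_c11 LD2_c35 LD3_c15)) = (LP (LK LD1_c20 LD2_c32 LD3_c51)) :=
  Lgr Lrot152 (Lpe (f570842 IH) (Lpe (f570843 IH) (Lpr_gt (f545670 IH) (Lpr_ct (K38.f545661 IH) (Lpr_gt (K38.f442704 IH) (Lpr_ct (K38.f548010 IH) (Lpe (K43.f548030 IH) (Lpr_cf (f575529 IH) (Lpe (f420955 IH) (Lpn (LP (LK LD1_c20 LD2_c32 LD3_c51))))))))))))
theorem f500455 : Led Lsl_dt (LP (LK LD1_c5 LD2_c54 LD3_c54)) = (LP (LK LD1_c11 LD2_c35 LD3_c15)) :=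
  Lre_d IH (LK LD1_c5 LD2_c54 LD3_c54) (LK LD1_c11 LD2_c35 LD3_c15) Lrfl Lrfl
theorem f409404 : Led Lsl_ct (LP (LK LD1_c2 LD2_c53 LD3_c47)) = (LP (LK LD1_c5 LD2_c54 LD3_c54)) :=
  Lre_c IH (LK LD1_c2 LD2_c53 LD3_c47) (LK LD1_c5 LD2_c54 LD3_c54) Lrfl Lrfl
theorem f421481 : Led Lsl_ct (LP (LK LD1_c11 LD2_c33 LD3_c46)) = (LP (LK LD1_c5 LD2_c53 LD3_c60)) :=
  Lre_c IH (LK LD1_c11 LD2_c33 LD3_c46) (LK LD1_c5 LD2_c53 LD3_c60) Lrfl Lrfl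
theorem f570464 : Led Lsl_ft (LP (LK LD1_c5 LD2_c54 LD3_c54)) = (LP (LK LD1_c11 LD2_c33 LD3_c46)) :=
  Lgr Lrot4 (Lpe (f409404 IH) (Lpr_ff (K42.f570462 IH) (Lpe (f421481 IH) (Lpn (LP (LK LD1_c11 LD2_c33 LD3_c46))))))
theorem f575544 : Led Lsl_af (LP (LK LD1_c5 LD2_c54 LD3_c61)) = (LP (LK LD1_c11 LD2_c33 LD3_c46)) :=
  Lgr Lrot109 (Lpe (f442698 IH) (Lpe (K41.f71115 IH) (Lpe (K35.f201595 IH) (Lpe (K42.f421255 IH) (Lpe (K41.f421250 IH) (Lpr_df (f575542 IH) (Lpe (f575538 IH) (Lpe (f500455 IH) (Lpr_ft (f570464 IH) (Lpn (LP (LK LD1_c11 LD2_c33 LD3_c46))))))))))))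
theorem f428021 : Led Lsl_ct (LP (LK LD1_c11 LD2_c33 LD3_c43)) = (LP (LK LD1_c5 LD2_c53 LD3_c58)) :=
  Lre_c IH (LK LD1_c11 LD2_c33 LD3_c43) (LK LD1_c5 LD2_c53 LD3_c58) Lrfl Lrfl
theorem f566975 : Led Lsl_ft (LP (LK LD1_c5 LD2_c54 LD3_c61)) = (LP (LK LD1_c11 LD2_c33 LD3_c43)) :=
  Lgr Lrot4 (Lpe (f442698 IH) (Lpr_ff (K41.f566972 IH) (Lpe (f428021 IH) (Lpn (LP (LK LD1_c11 LD2_c33 LD3_c43))))))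
theorem f575554 : Led Lsl_at (LP (LK LD1_c11 LD2_c33 LD3_c43)) = (LP (LK LD1_c5 LD2_c54 LD3_c54)) :=
  Lgr Lrot66 (Lpe (f566975 IH) (Lpr_af (f575544 IH) (Lpe (f570464 IH) (Lpn (LP (LK LD1_c5 LD2_c54 LD3_c54))))))
theorem f544439 : Led Lsl_ct (LP (LK LD1_c8 LD2_c12 LD3_c31)) = (LP (LK LD1_c4 LD2_c5 LD3_c56)) :=
  Lre_c IH (LK LD1_c8 LD2_c12 LD3_c31) (LK LD1_c4 LD2_c5 LD3_c56) Lrfl Lrfl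
theorem f570486 : Led Lsl_gf (LP (LK LD1_c8 LD2_c12 LD3_c31)) = (LP (LK LD1_c5 LD2_c54 LD3_c61)) :=
  Lgr Lrot104 (Lpr_ct (f544439 IH) (Lpe (K42.f55851 IH) (Lpe (K43.f46875 IH) (Lpe (K42.f237444 IH) (Lpe (K42.f563671 IH) (Lpe (K39.f553815 IH) (Lpe (K39.f553872 IH) (Lpr_gt (K42.f570476 IH) (Lpr_ct (f442698 IH) (Lpn (LP (LK LD1_c5 LD2_c54 LD3_c61))))))))))))
theorem f575561 : Led Lsl_gt (LP (LK LD1_c8 LD2_c12 LD3_c31)) = (LP (LK LD1_c5 LD2_c54 LD3_c54)) :=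
  Lgr Lrot46 (Lpr_gf (f570486 IH) (Lpr_ft (f566975 IH) (Lpr_at (f575554 IH) (Lpn (LP (LK LD1_c5 LD2_c54 LD3_c54))))))
theorem f421694 : Led Lsl_dt (LP (LK LD1_c5 LD2_c14 LD3_c25)) = (LP (LK LD1_c2 LD2_c34 LD3_c2)) :=
  Lre_d IH (LK LD1_c5 LD2_c14 LD3_c25) (LK LD1_c2 LD2_c34 LD3_c2) Lrfl Lrfl
theorem f575563 : Led Lsl_gt (LP (LK LD1_c11 LD2_c35 LD3_c15)) = (LP (LK LD1_c20 LD2_c33 LD3_c14)) :=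
  Lre_g IH (LK LD1_c11 LD2_c35 LD3_c15) (LK LD1_c20 LD2_c33 LD3_c14) Lrfl Lrfl
theorem f575564 : Led Lsl_df (LP (LK LD1_c11 LD2_c35 LD3_c30)) = (LP (LK LD1_c20 LD2_c33 LD3_c14)) :=
  Lgr Lrot84 (Lpr_cf (K38.f545690 IH) (Lpe (K38.f545711 IH) (Lpr_gf (K37.f544435 IH) (Lpe (f421694 IH) (Lpe (K42.f541320 IH) (Lpe (f544439 IH) (Lpr_gt (f575561 IH) (Lpr_dt (f500455 IH) (Lpr_gt (f575563 IH) (Lpn (LP (LK LD1_c20 LD2_c33 LD3_c14))))))))))))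
theorem f420933 : Led Lsl_gt (LP (LK LD1_c5 LD2_c54 LD3_c25)) = (LP (LK LD1_c11 LD2_c34 LD3_c42)) :=
  Lre_g IH (LK LD1_c5 LD2_c54 LD3_c25) (LK LD1_c11 LD2_c34 LD3_c42) Lrfl Lrfl
theorem f420949 : Led Lsl_dt (LP (LK LD1_c11 LD2_c34 LD3_c42)) = (LP (LK LD1_c20 LD2_c32 LD3_c43)) :=
  Lre_d IH (LK LD1_c11 LD2_c34 LD3_c42) (LK LD1_c20 LD2_c32 LD3_c43) Lrfl Lrfl
theorem f575576 : Led Lsl_cf (LP (LK LD1_c11 LD2_c35 LD3_c37)) = (LP (LK LD1_c20 LD2_c32 LD3_c43)) :=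
  Lgr Lrot14 (Lpe (f538434 IH) (Lpe (K38.f545685 IH) (Lpr_df (f575564 IH) (Lpe (f575563 IH) (Lpr_ct (f575538 IH) (Lpr_gt (f420955 IH) (Lpr_dt (f420954 IH) (Lpr_gt (f420933 IH) (Lpr_dt (f420949 IH) (Lpn (LP (LK LD1_c20 LD2_c32 LD3_c43))))))))))))
theorem f590369 : Led Lsl_cf (LP (LK LD1_c25 LD2_c15 LD3_c60)) = (LP (LK LD1_c15 LD2_c26 LD3_c59)) :=
  Lgr Lrot11 (Lpr_ct (f590363 IH) (Lpn (LP (LK LD1_c15 LD2_c26 LD3_c59))))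
theorem f590377 : Led Lsl_gf (LP (LK LD1_c20 LD2_c32 LD3_c43)) = (LP (LK LD1_c25 LD2_c15 LD3_c60)) :=
  Lgr Lrot104 (Lpe (f575576 IH) (Lpe (f538434 IH) (Lpe (K38.f421258 IH) (Lpe (K35.f202286 IH) (Lpr_cf (f548015 IH) (Lpe (K38.f548038 IH) (Lpe (K38.f548043 IH) (Lpr_gt (f590375 IH) (Lpe (f590369 IH) (Lpn (LP (LK LD1_c25 LD2_c15 LD3_c60))))))))))))
theorem f557012 : Led Lsl_dt (LP (LK LD1_c25 LD2_c16 LD3_c2)) = (LP (LK LD1_c15 LD2_c23 LD3_c40)) :=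
  Lre_d IH (LK LD1_c25 LD2_c16 LD3_c2) (LK LD1_c15 LD2_c23 LD3_c40) Lrfl Lrfl
theorem f557013 : Led Lsl_at (LP (LK LD1_c27 LD2_c57 LD3_c35)) = (LP (LK LD1_c25 LD2_c16 LD3_c2)) :=
  Lgr Lrot51 (Lpe (K39.f205041 IH) (Lpr_af (f557009 IH) (Lpe (f557012 IH) (Lpn (LP (LK LD1_c25 LD2_c16 LD3_c2))))))
theorem f590379 : Led Lsl_gt (LP (LK LD1_c20 LD2_c32 LD3_c43)) = (LP (LK LD1_c25 LD2_c16 LD3_c2)) :=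
  Lgr Lrot46 (Lpr_gf (f590377 IH) (Lpe (f556938 IH) (Lpr_at (f557013 IH) (Lpn (LP (LK LD1_c25 LD2_c16 LD3_c2))))))
theorem f575587 : Led Lsl_dt (LP (LK LD1_c20 LD2_c32 LD3_c43)) = (LP (LK LD1_c11 LD2_c34 LD3_c42)) :=
  Lre_d IH (LK LD1_c20 LD2_c32 LD3_c43) (LK LD1_c11 LD2_c34 LD3_c42) Lrfl Lrfl
theorem f590382 : Led Lsl_gt (LP (LK LD1_c11 LD2_c34 LD3_c42)) = (LP (LK LD1_c15 LD2_c23 LD3_c44)) :=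
  Lgr Lrot9 (Lpe (f575587 IH) (Lpr_gt (f590379 IH) (Lpe (f586672 IH) (Lpr_gt (f586683 IH) (Lpr_ct (K38.f548060 IH) (Lpe (K38.f548069 IH) (Lpe (K38.f196134 IH) (Lpe (K38.f73372 IH) (Lpe (K38.f546603 IH) (Lpn (LP (LK LD1_c15 LD2_c23 LD3_c44))))))))))))
theorem f442767 : Led Lsl_gt (LP (LK LD1_c11 LD2_c35 LD3_c49)) = (LP (LK LD1_c20 LD2_c32 LD3_c51)) :=
  Lre_g IH (LK LD1_c11 LD2_c35 LD3_c49) (LK LD1_c20 LD2_c32 LD3_c51) Lrfl Lrfl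
theorem f590391 : Led Lsl_cf (LP (LK LD1_c11 LD2_c34 LD3_c42)) = (LP (LK LD1_c17 LD2_c2 LD3_c56)) :=
  Lgr Lrot166 (Lpr_gt (f590382 IH) (Lpe (K38.f546599 IH) (Lpr_gt (f442767 IH) (Lpe (f575542 IH) (Lpr_ct (K41.f421250 IH) (Lpe (K41.f421248 IH) (Lpr_gf (K35.f421244 IH) (Lpe (K39.f186702 IH) (Lpr_gf (K43.f575775 IH) (Lpn (LP (LK LD1_c17 LD2_c2 LD3_c56))))))))))))
theorem f441466 : Led Lsl_bt (LP (LK LD1_c7 LD2_c33 LD3_c50)) = (LP (LK LD1_c3 LD2_c46 LD3_c25)) :=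
  Lre_b IH (LK LD1_c7 LD2_c33 LD3_c50) (LK LD1_c3 LD2_c46 LD3_c25) Lrfl Lrfl
theorem f543946 : Led Lsl_bf (LP (LK LD1_c11 LD2_c33 LD3_c42)) = (LP (LK LD1_c7 LD2_c33 LD3_c51)) :=
  Lgr Lrot96 (Lpr_et (K41.f543944 IH) (Lpr_bt (f441466 IH) (Lpr_et (K42.f441452 IH) (Lpn (LP (LK LD1_c7 LD2_c33 LD3_c51))))))
theorem f543960 : Led Lsl_bt (LP (LK LD1_c11 LD2_c33 LD3_c42)) = (LP (LK LD1_c7 LD2_c33 LD3_c51)) :=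
  Lgr Lrot127 (Lpr_bf (f543946 IH) (Lpn (LP (LK LD1_c7 LD2_c33 LD3_c51))))
theorem f241999 : Led Lsl_ft (LP (LK LD1_c5 LD2_c6 LD3_c44)) = (LP (LK LD1_c5 LD2_c5 LD3_c8)) :=
  Lgr Lrot54 (Lpe (K13.f211524 IH) (Lpr_ff (K13.f241997 IH) (Lpe (K14.f201357 IH) (Lpn (LP (LK LD1_c5 LD2_c5 LD3_c8))))))
theorem f553901 : Led Lsl_bt (LP (LK LD1_c8 LD2_c10 LD3_c33)) = (LP (LK LD1_c5 LD2_c6 LD3_c44)) :=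
  Lgr Lrot35 (Lpr_ff (K39.f553899 IH) (Lpe (K41.f255285 IH) (Lpe (f241999 IH) (Lpn (LP (LK LD1_c5 LD2_c6 LD3_c44))))))
theorem f571176 : Led Lsl_gt (LP (LK LD1_c20 LD2_c31 LD3_c3)) = (LP (LK LD1_c15 LD2_c23 LD3_c38)) :=
  Lgr Lrot65 (Lpe (K41.f428019 IH) (Lpr_bt (f543960 IH) (Lpr_gf (K42.f571166 IH) (Lpe (f240941 IH) (Lpe (K13.f240924 IH) (Lpr_gf (K17.f241922 IH) (Lpe (K13.f53254 IH) (Lpe (K13.f227293 IH) (Lpe (f553901 IH) (Lpr_ct (f181429 IH) (Lpn (LP (LK LD1_c15 LD2_c23 LD3_c38)))))))))))))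
theorem f428020 : Led Lsl_ct (LP (LK LD1_c20 LD2_c31 LD3_c3)) = (LP (LK LD1_c11 LD2_c33 LD3_c42)) :=
  Lre_c IH (LK LD1_c20 LD2_c31 LD3_c3) (LK LD1_c11 LD2_c33 LD3_c42) Lrfl Lrfl
theorem f242256 : Led Lsl_ct (LP (LK LD1_c4 LD2_c2 LD3_c16)) = (LP (LK LD1_c8 LD2_c5 LD3_c0)) :=
  Lre_c IH (LK LD1_c4 LD2_c2 LD3_c16) (LK LD1_c8 LD2_c5 LD3_c0) Lrfl Lrfl
theorem f570218 : Led Lsl_bt (LP (LK LD1_c4 LD2_c4 LD3_c53)) = (LP (LK LD1_c7 LD2_c14 LD3_c32)) :=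
  Lgr Lrot119 (Lpr_ef (K42.f570216 IH) (Lpe (K43.f570195 IH) (Lpe (K41.f17612 IH) (Lpn (LP (LK LD1_c7 LD2_c14 LD3_c32))))))
theorem f574586 : Led Lsl_gt (LP (LK LD1_c8 LD2_c4 LD3_c61)) = (LP (LK LD1_c9 LD2_c44 LD3_c43)) :=
  Lgr Lrot82 (Lpe (K39.f242257 IH) (Lpr_ct (f242256 IH) (Lpr_gf (K43.f574584 IH) (Lpe (K43.f574574 IH) (Lpr_bt (K43.f574540 IH) (Lpr_gf (K42.f569629 IH) (Lpe (f570218 IH) (Lpr_ct (K39.f553795 IH) (Lpr_gf (K39.f553777 IH) (Lpe (K43.f553780 IH) (Lpn (LP (LK LD1_c9 LD2_c44 LD3_c43)))))))))))))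
theorem f552353 : Led Lsl_dt (LP (LK LD1_c15 LD2_c13 LD3_c14)) = (LP (LK LD1_c8 LD2_c4 LD3_c61)) :=
  Lre_d IH (LK LD1_c15 LD2_c13 LD3_c14) (LK LD1_c8 LD2_c4 LD3_c61) Lrfl Lrfl
theorem f590404 : Led Lsl_gt (LP (LK LD1_c11 LD2_c33 LD3_c42)) = (LP (LK LD1_c15 LD2_c13 LD3_c14)) :=
  Lgr Lrot94 (Lpe (f428020 IH) (Lpr_gt (f571176 IH) (Lpr_dt (f546636 IH) (Lpe (f590377 IH) (Lpr_dt (f575587 IH) (Lpr_cf (f590391 IH) (Lpe (K43.f575772 IH) (Lpe (f574586 IH) (Lpe (f552353 IH) (Lpn (LP (LK LD1_c15 LD2_c13 LD3_c14))))))))))))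
theorem f503123 : Led Lsl_cf (LP (LK LD1_c4 LD2_c23 LD3_c56)) = K35.v1822 :=
  Lgr Lrot1 (Lpe (K8.f119075 IH) (Lpr_ct (K8.f73837 IH) (Lpr_at (K35.f503120 IH) (Lpn K35.v1822))))
theorem f559597 : Led Lsl_ct (LP (LK LD1_c8 LD2_c12 LD3_c19)) = (LP (LK LD1_c4 LD2_c42 LD3_c58)) :=
  Lgr Lrot15 (Lpr_ef (K40.f559591 IH) (Lpr_cf (f503123 IH) (Lpq (K35.f538186 IH) (Lpe (K38.f104819 IH) (Lpn (LP (LK LD1_c4 LD2_c42 LD3_c58)))))))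
theorem f575743 : Led Lsl_gt (LP (LK LD1_c5 LD2_c53 LD3_c57)) = (LP (LK LD1_c10 LD2_c5 LD3_c14)) :=
  Lgr Lrot94 (Lpe (K37.f428023 IH) (Lpr_gt (K39.f71236 IH) (Lpr_dt (K11.f71231 IH) (Lpr_gt (K38.f71265 IH) (Lpe (K40.f436706 IH) (Lpe (f559597 IH) (Lpe (K43.f559608 IH) (Lpr_gf (K43.f575737 IH) (Lpe (K43.f565360 IH) (Lpn (LP (LK LD1_c10 LD2_c5 LD3_c14))))))))))))
theorem f565354 : Led Lsl_ct (LP (LK LD1_c11 LD2_c34 LD3_c37)) = (LP (LK LD1_c5 LD2_c54 LD3_c23)) :=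
  Lre_c IH (LK LD1_c11 LD2_c34 LD3_c37) (LK LD1_c5 LD2_c54 LD3_c23) Lrfl Lrfl
theorem f552322 : Led Lsl_bt (LP (LK LD1_c15 LD2_c13 LD3_c14)) = (LP (LK LD1_c8 LD2_c5 LD3_c1)) :=
  Lre_b IH (LK LD1_c15 LD2_c13 LD3_c14) (LK LD1_c8 LD2_c5 LD3_c1) Lrfl Lrfl
theorem f556947 : Led Lsl_gt (LP (LK LD1_c11 LD2_c34 LD3_c35)) = (LP (LK LD1_c20 LD2_c32 LD3_c25)) :=
  Lre_g IH (LK LD1_c11 LD2_c34 LD3_c35) (LK LD1_c20 LD2_c32 LD3_c25) Lrfl Lrfl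
theorem f556950 : Led Lsl_ct (LP (LK LD1_c15 LD2_c13 LD3_c14)) = (LP (LK LD1_c20 LD2_c32 LD3_c25)) :=
  Lgr Lrot63 (Lpr_bt (f552322 IH) (Lpr_gt (K41.f552316 IH) (Lpe (K41.f241020 IH) (Lpr_ct (K13.f240960 IH) (Lpr_gt (K14.f255311 IH) (Lpe (K15.f255281 IH) (Lpr_bt (K41.f255285 IH) (Lpr_gt (K41.f556923 IH) (Lpr_ct (K43.f417502 IH) (Lpr_gt (f556947 IH) (Lpn (LP (LK LD1_c20 LD2_c32 LD3_c25)))))))))))))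
theorem f590584 : Led Lsl_gf (LP (LK LD1_c11 LD2_c34 LD3_c37)) = (LP (LK LD1_c20 LD2_c32 LD3_c25)) :=
  Lgr Lrot104 (Lpr_ct (f565354 IH) (Lpe (K41.f71078 IH) (Lpe (K43.f557818 IH) (Lpe (K41.f421703 IH) (Lpe (K41.f565363 IH) (Lpe (f575743 IH) (Lpe (K41.f428024 IH) (Lpr_gt (f590404 IH) (Lpr_ct (f556950 IH) (Lpn (LP (LK LD1_c20 LD2_c32 LD3_c25))))))))))))
theorem f557830 : Led Lsl_dt (LP (LK LD1_c11 LD2_c34 LD3_c37)) = (LP (LK LD1_c20 LD2_c32 LD3_c32)) :=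
  Lre_d IH (LK LD1_c11 LD2_c34 LD3_c37) (LK LD1_c20 LD2_c32 LD3_c32) Lrfl Lrfl
theorem f421503 : Led Lsl_dt (LP (LK LD1_c5 LD2_c53 LD3_c60)) = (LP (LK LD1_c2 LD2_c53 LD3_c21)) :=
  Lre_d IH (LK LD1_c5 LD2_c53 LD3_c60) (LK LD1_c2 LD2_c53 LD3_c21) Lrfl Lrfl
theorem f421507 : Led Lsl_dt (LP (LK LD1_c11 LD2_c33 LD3_c45)) = (LP (LK LD1_c5 LD2_c53 LD3_c59)) :=
  Lre_d IH (LK LD1_c11 LD2_c33 LD3_c45) (LK LD1_c5 LD2_c53 LD3_c59) Lrfl Lrfl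
theorem f563644 : Led Lsl_gt (LP (LK LD1_c3 LD2_c5 LD3_c4)) = (LP (LK LD1_c2 LD2_c30 LD3_c14)) :=
  Lgr Lrot46 (Lpr_gf (K42.f563642 IH) (Lpe (K39.f553813 IH) (Lpe (K39.f542795 IH) (Lpn (LP (LK LD1_c2 LD2_c30 LD3_c14))))))
theorem f563658 : Led Lsl_gt (LP (LK LD1_c6 LD2_c15 LD3_c56)) = (LP (LK LD1_c8 LD2_c4 LD3_c61)) :=
  Lgr Lrot164 (Lpe (K8.f81067 IH) (Lpr_ct (K8.f80996 IH) (Lpr_gf (K43.f563652 IH) (Lpr_cf (K42.f242244 IH) (Lpe (K43.f242250 IH) (Lpe (K43.f242253 IH) (Lpr_ct (K43.f242254 IH) (Lpe (K43.f242255 IH) (Lpe (f242256 IH) (Lpr_bt (K39.f242257 IH) (Lpn (LP (LK LD1_c8 LD2_c4 LD3_c61)))))))))))))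
theorem f570448 : Led Lsl_gf (LP (LK LD1_c11 LD2_c33 LD3_c45)) = (LP (LK LD1_c15 LD2_c13 LD3_c14)) :=
  Lgr Lrot143 (Lpr_dt (f421507 IH) (Lpe (K36.f421467 IH) (Lpe (f421503 IH) (Lpr_gf (K42.f570442 IH) (Lpe (K39.f180382 IH) (Lpe (f563644 IH) (Lpe (K38.f81072 IH) (Lpr_gt (f563658 IH) (Lpr_dt (K39.f552360 IH) (Lpn (LP (LK LD1_c15 LD2_c13 LD3_c14))))))))))))
theorem f196135 : Led Lsl_gt (LP (LK LD1_c8 LD2_c10 LD3_c37)) = (LP (LK LD1_c15 LD2_c23 LD3_c46)) :=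
  Lre_g IH (LK LD1_c8 LD2_c10 LD3_c37) (LK LD1_c15 LD2_c23 LD3_c46) Lrfl Lrfl
theorem f573959 : Led Lsl_cf (LP (LK LD1_c15 LD2_c4 LD3_c40)) = (LP (LK LD1_c15 LD2_c23 LD3_c46)) :=
  Lgr Lrot99 (Lpe (K39.f37825 IH) (Lpr_cf (K35.f161114 IH) (Lpr_gf (K43.f573953 IH) (Lpr_cf (K43.f557805 IH) (Lpe (K41.f71077 IH) (Lpr_df (K38.f546592 IH) (Lpr_gt (K38.f73372 IH) (Lpr_ct (K38.f196134 IH) (Lpr_gt (f196135 IH) (Lpn (LP (LK LD1_c15 LD2_c23 LD3_c46))))))))))))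
theorem f575705 : Led Lsl_dt (LP (LK LD1_c25 LD2_c16 LD3_c10)) = (LP (LK LD1_c15 LD2_c23 LD3_c46)) :=
  Lre_d IH (LK LD1_c25 LD2_c16 LD3_c10) (LK LD1_c15 LD2_c23 LD3_c46) Lrfl Lrfl
theorem f590684 : Led Lsl_gt (LP (LK LD1_c20 LD2_c32 LD3_c32)) = (LP (LK LD1_c25 LD2_c16 LD3_c10)) :=
  Lgr Lrot49 (Lpe (f557830 IH) (Lpr_gf (f590584 IH) (Lpe (f556950 IH) (Lpe (f570448 IH) (Lpr_dt (f421507 IH) (Lpr_gt (K36.f428068 IH) (Lpr_dt (K39.f37825 IH) (Lpr_cf (f573959 IH) (Lpe (f575705 IH) (Lpn (LP (LK LD1_c25 LD2_c16 LD3_c10))))))))))))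
theorem f556972 : Led Lsl_cf (LP (LK LD1_c15 LD2_c13 LD3_c14)) = (LP (LK LD1_c20 LD2_c32 LD3_c25)) :=
  Lgr Lrot11 (Lpr_ct (f556950 IH) (Lpn (LP (LK LD1_c20 LD2_c32 LD3_c25))))
theorem f590686 : Led Lsl_cf (LP (LK LD1_c15 LD2_c23 LD3_c46)) = (LP (LK LD1_c15 LD2_c4 LD3_c40)) :=
  Lgr Lrot14 (Lpe (f575705 IH) (Lpe (f590684 IH) (Lpe (f557830 IH) (Lpr_gf (f590584 IH) (Lpe (f556972 IH) (Lpe (f570448 IH) (Lpr_dt (f421507 IH) (Lpr_gt (K36.f428068 IH) (Lpr_dt (K39.f37825 IH) (Lpn (LP (LK LD1_c15 LD2_c4 LD3_c40))))))))))))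
theorem f574243 : Led Lsl_bt (LP (LK LD1_c7 LD2_c17 LD3_c29)) = (LP (LK LD1_c8 LD2_c10 LD3_c36)) :=
  Lgr Lrot127 (Lpr_bf (K43.f574241 IH) (Lpn (LP (LK LD1_c8 LD2_c10 LD3_c36))))
theorem f587483 : Led Lsl_cf (LP (LK LD1_c23 LD2_c15 LD3_c2)) = (LP (LK LD1_c15 LD2_c13 LD3_c1)) :=
  Lgr Lrot11 (Lpr_ct (f587481 IH) (Lpn (LP (LK LD1_c15 LD2_c13 LD3_c1))))
theorem f590704 : Led Lsl_bt (LP (LK LD1_c15 LD2_c13 LD3_c1)) = (LP (LK LD1_c12 LD2_c9 LD3_c42)) :=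
  Lgr Lrot92 (Lpe (f587483 IH) (Lpr_gt (f568820 IH) (Lpe (K43.f5625 IH) (Lpr_bt (f574243 IH) (Lpr_gt (K38.f73372 IH) (Lpr_ct (K38.f196134 IH) (Lpr_gt (f196135 IH) (Lpr_cf (f590686 IH) (Lpr_bt (K43.f132714 IH) (Lpe (K41.f552394 IH) (Lpn (LP (LK LD1_c12 LD2_c9 LD3_c42)))))))))))))
theorem f590710 : Led Lsl_ff (LP (LK LD1_c15 LD2_c13 LD3_c1)) = (LP (LK LD1_c8 LD2_c46 LD3_c6)) :=
  Lgr Lrot25 (Lpr_bt (f590704 IH) (Lpr_ft (K39.f81018 IH) (Lpe (K5.f81003 IH) (Lpn (LP (LK LD1_c8 LD2_c46 LD3_c6))))))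
theorem f574379 : Led Lsl_ff (LP (LK LD1_c14 LD2_c59 LD3_c25)) = (LP (LK LD1_c15 LD2_c10 LD3_c22)) :=
  Lgr Lrot25 (Lpe (K43.f574287 IH) (Lpr_ft (K43.f574377 IH) (Lpe (K42.f569507 IH) (Lpn (LP (LK LD1_c15 LD2_c10 LD3_c22))))))
theorem f590712 : Led Lsl_at (LP (LK LD1_c15 LD2_c13 LD3_c1)) = (LP (LK LD1_c15 LD2_c10 LD3_c22)) :=
  Lgr Lrot66 (Lpr_ff (f590710 IH) (Lpr_af (K43.f133035 IH) (Lpr_ff (f574379 IH) (Lpn (LP (LK LD1_c15 LD2_c10 LD3_c22))))))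
theorem f587895 : Led Lsl_ct (LP (LK LD1_c31 LD2_c0 LD3_c44)) = (LP (LK LD1_c30 LD2_c58 LD3_c4)) :=
  Lgr Lrot59 (Lpr_cf (f587893 IH) (Lpn (LP (LK LD1_c30 LD2_c58 LD3_c4))))
theorem f590718 : Led Lsl_df (LP (LK LD1_c24 LD2_c59 LD3_c39)) = (LP (LK LD1_c30 LD2_c58 LD3_c4)) :=
  Lgr Lrot177 (Lpr_ct (K42.f386148 IH) (Lpe (f590712 IH) (Lpr_ff (f590710 IH) (Lpr_dt (K5.f81002 IH) (Lpr_ct (K43.f81008 IH) (Lpr_dt (K35.f538490 IH) (Lpe (f587375 IH) (Lpe (f587889 IH) (Lpr_ct (f587895 IH) (Lpn (LP (LK LD1_c30 LD2_c58 LD3_c4))))))))))))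
theorem f31982 : Led Lsl_bt (LP (LK LD1_c2 LD2_c7 LD3_c35)) = (LP (LK LD1_c4 LD2_c20 LD3_c13)) :=
  Lre_b IH (LK LD1_c2 LD2_c7 LD3_c35) (LK LD1_c4 LD2_c20 LD3_c13) Lrfl Lrfl
theorem f569519 : Led Lsl_gt (LP (LK LD1_c24 LD2_c59 LD3_c39)) = (LP (LK LD1_c18 LD2_c40 LD3_c49)) :=
  Lgr Lrot65 (Lpe (K42.f386149 IH) (Lpr_bt (K42.f569511 IH) (Lpe (K38.f32006 IH) (Lpe (f31982 IH) (Lpr_ct (K11.f31723 IH) (Lpe (K11.f201634 IH) (Lpe (K11.f201633 IH) (Lpe (K11.f181111 IH) (Lpe (K42.f181112 IH) (Lpr_ct (f201642 IH) (Lpn (LP (LK LD1_c18 LD2_c40 LD3_c49)))))))))))))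
theorem f420724 : Led Lsl_dt (LP (LK LD1_c18 LD2_c40 LD3_c49)) = (LP (LK LD1_c28 LD2_c12 LD3_c19)) :=
  Lre_d IH (LK LD1_c18 LD2_c40 LD3_c49) (LK LD1_c28 LD2_c12 LD3_c19) Lrfl Lrfl
theorem f128256 : Led Lsl_dt (LP (LK LD1_c13 LD2_c31 LD3_c21)) = (LP (LK LD1_c7 LD2_c8 LD3_c24)) :=
  Lre_d IH (LK LD1_c13 LD2_c31 LD3_c21) (LK LD1_c7 LD2_c8 LD3_c24) Lrfl Lrfl
theorem f128252 : Led Lsl_gt (LP (LK LD1_c7 LD2_c19 LD3_c21)) = (LP (LK LD1_c13 LD2_c31 LD3_c21)) :=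
  Lgr Lrot5 (Lpr_ft (K0.f5125 IH) (Lpe (K0.f5112 IH) (Lpr_gf (f128247 IH) (Lpn (LP (LK LD1_c13 LD2_c31 LD3_c21))))))
theorem f573726 : Led Lsl_gt (LP (LK LD1_c28 LD2_c12 LD3_c11)) = (LP (LK LD1_c23 LD2_c20 LD3_c13)) :=
  Lgr Lrot49 (Lpe (f411034 IH) (Lpe (f565687 IH) (Lpe (K24.f5131 IH) (Lpr_gt (f128252 IH) (Lpr_dt (f128256 IH) (Lpr_gt (K43.f571380 IH) (Lpr_dt (K42.f80746 IH) (Lpe (K42.f420404 IH) (Lpr_df (K43.f573724 IH) (Lpn (LP (LK LD1_c23 LD2_c20 LD3_c13))))))))))))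
theorem f590722 : Led Lsl_ct (LP (LK LD1_c28 LD2_c12 LD3_c19)) = (LP (LK LD1_c23 LD2_c20 LD3_c16)) :=
  Lgr Lrot7 (Lpe (f420724 IH) (Lpe (f569519 IH) (Lpr_df (f590718 IH) (Lpe (f587823 IH) (Lpe (f587814 IH) (Lpr_gt (f573726 IH) (Lpe (K43.f573724 IH) (Lpr_gt (K42.f569579 IH) (Lpe (K43.f574101 IH) (Lpn (LP (LK LD1_c23 LD2_c20 LD3_c16))))))))))))
theorem f97162 : Led Lsl_dt (LP (LK LD1_c30 LD2_c44 LD3_c38)) = (LP (LK LD1_c22 LD2_c49 LD3_c51)) :=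
  Lre_d IH (LK LD1_c30 LD2_c44 LD3_c38) (LK LD1_c22 LD2_c49 LD3_c51) Lrfl Lrfl
theorem f590726 : Led Lsl_gf (LP (LK LD1_c28 LD2_c12 LD3_c19)) = (LP (LK LD1_c30 LD2_c44 LD3_c38)) :=
  Lgr Lrot147 (Lpr_ct (f590722 IH) (Lpr_gt (K43.f5209 IH) (Lpe (K43.f5183 IH) (Lpe (K42.f4233 IH) (Lpe (K41.f5208 IH) (Lpr_gf (K41.f565693 IH) (Lpe (K43.f240852 IH) (Lpr_gf (K43.f574814 IH) (Lpe (f97162 IH) (Lpn (LP (LK LD1_c30 LD2_c44 LD3_c38))))))))))))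
theorem f181114 : Led Lsl_dt (LP (LK LD1_c28 LD2_c12 LD3_c19)) = (LP (LK LD1_c18 LD2_c40 LD3_c49)) :=
  Lre_d IH (LK LD1_c28 LD2_c12 LD3_c19) (LK LD1_c18 LD2_c40 LD3_c49) Lrfl Lrfl
theorem f17619 : Led Lsl_ct (LP (LK LD1_c13 LD2_c42 LD3_c8)) = (LP (LK LD1_c23 LD2_c7 LD3_c49)) :=
  Lre_c IH (LK LD1_c13 LD2_c42 LD3_c8) (LK LD1_c23 LD2_c7 LD3_c49) Lrfl Lrfl
theorem f590748 : Led Lsl_gt (LP (LK LD1_c23 LD2_c7 LD3_c49)) = (LP (LK LD1_c22 LD2_c49 LD3_c51)) :=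
  Lgr Lrot94 (Lpe (f17619 IH) (Lpr_gt (K41.f17614 IH) (Lpr_dt (K42.f5175 IH) (Lpr_gt (K42.f566105 IH) (Lpe (K42.f420726 IH) (Lpe (f181113 IH) (Lpe (f181114 IH) (Lpr_gf (f590726 IH) (Lpe (f97165 IH) (Lpn (LP (LK LD1_c22 LD2_c49 LD3_c51))))))))))))
theorem f587824 : Led Lsl_af (LP (LK LD1_c18 LD2_c18 LD3_c59)) = (LP (LK LD1_c13 LD2_c47 LD3_c39)) :=
  Lgr Lrot68 (Lpr_ct (K43.f240852 IH) (Lpr_at (f587821 IH) (Lpr_ct (f5619 IH) (Lpn (LP (LK LD1_c13 LD2_c47 LD3_c39))))))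
theorem f590751 : Led Lsl_ft (LP (LK LD1_c23 LD2_c7 LD3_c49)) = (LP (LK LD1_c13 LD2_c47 LD3_c39)) :=
  Lgr Lrot2 (Lpr_gt (f590748 IH) (Lpe (K43.f574814 IH) (Lpr_af (f587824 IH) (Lpn (LP (LK LD1_c13 LD2_c47 LD3_c39))))))
theorem f590755 : Led Lsl_ff (LP (LK LD1_c23 LD2_c7 LD3_c49)) = (LP (LK LD1_c13 LD2_c47 LD3_c39)) :=
  Lgr Lrot3 (Lpr_ft (f590751 IH) (Lpn (LP (LK LD1_c13 LD2_c47 LD3_c39))))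
theorem f590760 : Led Lsl_at (LP (LK LD1_c23 LD2_c7 LD3_c49)) = (LP (LK LD1_c13 LD2_c47 LD3_c41)) :=
  Lgr Lrot26 (Lpr_ff (f590755 IH) (Lpr_gt (f5620 IH) (Lpe (f587928 IH) (Lpn (LP (LK LD1_c13 LD2_c47 LD3_c41))))))
theorem f590768 : Led Lsl_ff (LP (LK LD1_c18 LD2_c18 LD3_c59)) = (LP (LK LD1_c13 LD2_c47 LD3_c41)) :=
  Lgr Lrot30 (Lpr_at (f587839 IH) (Lpe (f590755 IH) (Lpr_at (f590760 IH) (Lpn (LP (LK LD1_c13 LD2_c47 LD3_c41))))))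
theorem f590776 : Led Lsl_ft (LP (LK LD1_c18 LD2_c18 LD3_c59)) = (LP (LK LD1_c13 LD2_c47 LD3_c41)) :=
  Lgr Lrot48 (Lpr_ff (f590768 IH) (Lpn (LP (LK LD1_c13 LD2_c47 LD3_c41))))
theorem f590762 : Led Lsl_af (LP (LK LD1_c23 LD2_c7 LD3_c49)) = (LP (LK LD1_c13 LD2_c47 LD3_c41)) :=
  Lgr Lrot0 (Lpr_at (f590760 IH) (Lpn (LP (LK LD1_c13 LD2_c47 LD3_c41))))
theorem f590780 : Led Lsl_gt (LP (LK LD1_c25 LD2_c1 LD3_c60)) = (LP (LK LD1_c23 LD2_c7 LD3_c49)) :=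
  Lgr Lrot46 (Lpe (K42.f570962 IH) (Lpr_ft (f590776 IH) (Lpe (f590762 IH) (Lpn (LP (LK LD1_c23 LD2_c7 LD3_c49))))))
theorem f575785 : Led Lsl_bt (LP (LK LD1_c8 LD2_c12 LD3_c21)) = (LP (LK LD1_c15 LD2_c26 LD3_c21)) :=
  Lre_b IH (LK LD1_c8 LD2_c12 LD3_c21) (LK LD1_c15 LD2_c26 LD3_c21) Lrfl Lrfl
theorem f541332 : Led Lsl_ct (LP (LK LD1_c8 LD2_c12 LD3_c21)) = (LP (LK LD1_c15 LD2_c26 LD3_c22)) :=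
  Lre_c IH (LK LD1_c8 LD2_c12 LD3_c21) (LK LD1_c15 LD2_c26 LD3_c22) Lrfl Lrfl
theorem f556977 : Led Lsl_bt (LP (LK LD1_c5 LD2_c54 LD3_c21)) = (LP (LK LD1_c11 LD2_c34 LD3_c33)) :=
  Lre_b IH (LK LD1_c5 LD2_c54 LD3_c21) (LK LD1_c11 LD2_c34 LD3_c33) Lrfl Lrfl
theorem f269236 : Led Lsl_at (LP (LK LD1_c10 LD2_c7 LD3_c39)) = (LP (LK LD1_c10 LD2_c8 LD3_c25)) :=
  Lgr Lrot51 (Lpe (K13.f240085 IH) (Lpr_af (K16.f269229 IH) (Lpr_df (K13.f242553 IH) (Lpn (LP (LK LD1_c10 LD2_c8 LD3_c25))))))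
theorem f411626 : Led Lsl_af (LP (LK LD1_c8 LD2_c3 LD3_c28)) = (LP (LK LD1_c5 LD2_c13 LD3_c2)) :=
  Lgr Lrot68 (Lpr_ct (K13.f242077 IH) (Lpr_at (f269236 IH) (Lpr_ct (K13.f240647 IH) (Lpn (LP (LK LD1_c5 LD2_c13 LD3_c2))))))
theorem f575480 : Led Lsl_bt (LP (LK LD1_c8 LD2_c3 LD3_c28)) = (LP (LK LD1_c10 LD2_c18 LD3_c24)) :=
  Lgr Lrot62 (Lpr_af (f411626 IH) (Lpr_bf (K41.f567148 IH) (Lpe (K41.f567116 IH) (Lpe (f556977 IH) (Lpr_af (K43.f575475 IH) (Lpn (LP (LK LD1_c10 LD2_c18 LD3_c24))))))))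
theorem f590784 : Led Lsl_bf (LP (LK LD1_c8 LD2_c10 LD3_c34)) = (LP (LK LD1_c13 LD2_c42 LD3_c8)) :=
  Lgr Lrot156 (Lpr_gt (K39.f557116 IH) (Lpe (f575480 IH) (Lpr_ct (K13.f242077 IH) (Lpe (K13.f242073 IH) (Lpr_cf (K17.f242092 IH) (Lpr_bt (K42.f242091 IH) (Lpr_gt (K42.f225119 IH) (Lpr_ct (K42.f408507 IH) (Lpr_gt (f590780 IH) (Lpe (f17619 IH) (Lpn (LP (LK LD1_c13 LD2_c42 LD3_c8)))))))))))))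
theorem f421690 : Led Lsl_ct (LP (LK LD1_c10 LD2_c18 LD3_c24)) = (LP (LK LD1_c18 LD2_c43 LD3_c21)) :=
  Lre_c IH (LK LD1_c10 LD2_c18 LD3_c24) (LK LD1_c18 LD2_c43 LD3_c21) Lrfl Lrfl
theorem f590786 : Led Lsl_gf (LP (LK LD1_c15 LD2_c26 LD3_c22)) = (LP (LK LD1_c18 LD2_c43 LD3_c21)) :=
  Lgr Lrot129 (Lpe (f541332 IH) (Lpr_bt (f575785 IH) (Lpe (K43.f575782 IH) (Lpr_bf (K42.f570952 IH) (Lpr_ct (K42.f408507 IH) (Lpr_gt (f590780 IH) (Lpe (f17619 IH) (Lpe (f590784 IH) (Lpr_gt (K39.f557116 IH) (Lpr_ct (f421690 IH) (Lpn (LP (LK LD1_c18 LD2_c43 LD3_c21)))))))))))))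
theorem f46862 : Led Lsl_ct (LP (LK LD1_c4 LD2_c5 LD3_c47)) = (LP (LK LD1_c8 LD2_c10 LD3_c31)) :=
  Lre_c IH (LK LD1_c4 LD2_c5 LD3_c47) (LK LD1_c8 LD2_c10 LD3_c31) Lrfl Lrfl
theorem f46865 : Led Lsl_dt (LP (LK LD1_c8 LD2_c12 LD3_c15)) = (LP (LK LD1_c4 LD2_c5 LD3_c47)) :=
  Lre_d IH (LK LD1_c8 LD2_c12 LD3_c15) (LK LD1_c4 LD2_c5 LD3_c47) Lrfl Lrfl
theorem f573957 : Led Lsl_df (LP (LK LD1_c8 LD2_c10 LD3_c31)) = (LP (LK LD1_c5 LD2_c54 LD3_c24)) :=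
  Lgr Lrot84 (Lpe (f46862 IH) (Lpe (f46865 IH) (Lpe (K43.f46866 IH) (Lpe (K42.f572416 IH) (Lpr_gf (K43.f573953 IH) (Lpr_cf (K43.f557805 IH) (Lpr_gt (K40.f138193 IH) (Lpr_dt (K39.f202072 IH) (Lpr_gt (K43.f420966 IH) (Lpn (LP (LK LD1_c5 LD2_c54 LD3_c24))))))))))))
theorem f590700 : Led Lsl_gt (LP (LK LD1_c15 LD2_c23 LD3_c46)) = (LP (LK LD1_c11 LD2_c34 LD3_c40)) :=
  Lgr Lrot150 (Lpr_cf (f590686 IH) (Lpe (K43.f559609 IH) (Lpe (K43.f559599 IH) (Lpr_gt (K40.f46871 IH) (Lpr_ct (K43.f46869 IH) (Lpr_gt (K43.f46868 IH) (Lpr_ct (f46862 IH) (Lpr_df (f573957 IH) (Lpe (f575718 IH) (Lpn (LP (LK LD1_c11 LD2_c34 LD3_c40))))))))))))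
theorem f590702 : Led Lsl_df (LP (LK LD1_c5 LD2_c54 LD3_c24)) = (LP (LK LD1_c8 LD2_c10 LD3_c31)) :=
  Lgr Lrot162 (Lpe (f575718 IH) (Lpe (f590700 IH) (Lpr_cf (f590686 IH) (Lpe (K43.f559609 IH) (Lpr_dt (K43.f559608 IH) (Lpr_gt (K40.f46871 IH) (Lpr_ct (K43.f46869 IH) (Lpr_gt (K43.f46868 IH) (Lpr_ct (f46862 IH) (Lpn (LP (LK LD1_c8 LD2_c10 LD3_c31))))))))))))
theorem f586685 : Led Lsl_gt (LP (LK LD1_c25 LD2_c16 LD3_c12)) = (LP (LK LD1_c15 LD2_c26 LD3_c60)) :=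
  Lre_g IH (LK LD1_c25 LD2_c16 LD3_c12) (LK LD1_c15 LD2_c26 LD3_c60) Lrfl Lrfl
theorem f590788 : Led Lsl_dt (LP (LK LD1_c15 LD2_c26 LD3_c22)) = (LP (LK LD1_c25 LD2_c16 LD3_c12)) :=
  Lgr Lrot57 (Lpr_gf (f590786 IH) (Lpe (f421690 IH) (Lpe (K39.f557114 IH) (Lpr_dt (K39.f553898 IH) (Lpr_gt (K39.f55871 IH) (Lpe (f590702 IH) (Lpe (f575718 IH) (Lpr_df (f590355 IH) (Lpe (f586685 IH) (Lpn (LP (LK LD1_c25 LD2_c16 LD3_c12))))))))))))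
theorem f590791 : Led Lsl_ft (LP (LK LD1_c4 LD2_c5 LD3_c50)) = (LP (LK LD1_c8 LD2_c12 LD3_c23)) :=
  Lre_f IH (LK LD1_c4 LD2_c5 LD3_c50) (LK LD1_c8 LD2_c12 LD3_c23) Lrfl Lrfl
theorem f590792 : Led Lsl_at (LP (LK LD1_c8 LD2_c12 LD3_c23)) = (LP (LK LD1_c4 LD2_c5 LD3_c55)) :=
  Lre_a IH (LK LD1_c8 LD2_c12 LD3_c23) (LK LD1_c4 LD2_c5 LD3_c55) Lrfl Lrfl
theorem f570488 : Led Lsl_dt (LP (LK LD1_c4 LD2_c5 LD3_c56)) = (LP (LK LD1_c2 LD2_c0 LD3_c14)) :=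
  Lre_d IH (LK LD1_c4 LD2_c5 LD3_c56) (LK LD1_c2 LD2_c0 LD3_c14) Lrfl Lrfl
theorem f572439 : Led Lsl_dt (LP (LK LD1_c15 LD2_c26 LD3_c38)) = (LP (LK LD1_c8 LD2_c12 LD3_c31)) :=
  Lre_d IH (LK LD1_c15 LD2_c26 LD3_c38) (LK LD1_c8 LD2_c12 LD3_c31) Lrfl Lrfl
theorem f590793 : Led Lsl_cf (LP (LK LD1_c15 LD2_c26 LD3_c38)) = (LP (LK LD1_c25 LD2_c16 LD3_c12)) :=
  Lgr Lrot116 (Lpr_dt (f572439 IH) (Lpr_ct (f544439 IH) (Lpr_dt (f570488 IH) (Lpr_ct (K42.f55854 IH) (Lpe (f590792 IH) (Lpe (f590791 IH) (Lpr_dt (K36.f541340 IH) (Lpr_ct (f541332 IH) (Lpr_dt (f590788 IH) (Lpn (LP (LK LD1_c25 LD2_c16 LD3_c12))))))))))))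
theorem f590798 : Led Lsl_ct (LP (LK LD1_c15 LD2_c26 LD3_c38)) = (LP (LK LD1_c25 LD2_c16 LD3_c12)) :=
  Lgr Lrot59 (Lpr_cf (f590793 IH) (Lpn (LP (LK LD1_c25 LD2_c16 LD3_c12))))
theorem f553836 : Led Lsl_dt (LP (LK LD1_c11 LD2_c33 LD3_c48)) = (LP (LK LD1_c20 LD2_c31 LD3_c10)) :=
  Lre_d IH (LK LD1_c11 LD2_c33 LD3_c48) (LK LD1_c20 LD2_c31 LD3_c10) Lrfl Lrfl
theorem f46874 : Led Lsl_gt (LP (LK LD1_c4 LD2_c5 LD3_c47)) = (LP (LK LD1_c2 LD2_c0 LD3_c14)) :=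
  Lre_g IH (LK LD1_c4 LD2_c5 LD3_c47) (LK LD1_c2 LD2_c0 LD3_c14) Lrfl Lrfl
theorem f572440 : Led Lsl_gt (LP (LK LD1_c20 LD2_c31 LD3_c10)) = (LP (LK LD1_c15 LD2_c26 LD3_c38)) :=
  Lgr Lrot49 (Lpe (f553836 IH) (Lpr_gf (K42.f572432 IH) (Lpe (K42.f183036 IH) (Lpr_gt (K43.f46866 IH) (Lpr_dt (f46865 IH) (Lpr_gt (f46874 IH) (Lpr_dt (K42.f55851 IH) (Lpe (f544439 IH) (Lpe (f572439 IH) (Lpn (LP (LK LD1_c15 LD2_c26 LD3_c38))))))))))))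
theorem f553841 : Led Lsl_dt (LP (LK LD1_c20 LD2_c31 LD3_c10)) = (LP (LK LD1_c11 LD2_c33 LD3_c48)) :=
  Lre_d IH (LK LD1_c20 LD2_c31 LD3_c10) (LK LD1_c11 LD2_c33 LD3_c48) Lrfl Lrfl
theorem f548071 : Led Lsl_ct (LP (LK LD1_c15 LD2_c26 LD3_c60)) = (LP (LK LD1_c8 LD2_c12 LD3_c44)) :=
  Lre_c IH (LK LD1_c15 LD2_c26 LD3_c60) (LK LD1_c8 LD2_c12 LD3_c44) Lrfl Lrfl
theorem f73287 : Led Lsl_gt (LP (LK LD1_c4 LD2_c5 LD3_c60)) = (LP (LK LD1_c2 LD2_c0 LD3_c16)) :=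
  Lre_g IH (LK LD1_c4 LD2_c5 LD3_c60) (LK LD1_c2 LD2_c0 LD3_c16) Lrfl Lrfl
theorem f548089 : Led Lsl_ct (LP (LK LD1_c8 LD2_c12 LD3_c40)) = (LP (LK LD1_c4 LD2_c5 LD3_c60)) :=
  Lre_c IH (LK LD1_c8 LD2_c12 LD3_c40) (LK LD1_c4 LD2_c5 LD3_c60) Lrfl Lrfl
theorem f590803 : Led Lsl_gt (LP (LK LD1_c11 LD2_c33 LD3_c48)) = (LP (LK LD1_c8 LD2_c12 LD3_c40)) :=
  Lgr Lrot9 (Lpe (f553841 IH) (Lpr_gt (f572440 IH) (Lpr_ct (f590798 IH) (Lpr_gt (f586685 IH) (Lpr_ct (f548071 IH) (Lpe (f548028 IH) (Lpe (K38.f169101 IH) (Lpe (f73287 IH) (Lpe (f548089 IH) (Lpn (LP (LK LD1_c8 LD2_c12 LD3_c40))))))))))))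
theorem f71492 : Led Lsl_ct (LP (LK LD1_c5 LD2_c53 LD3_c60)) = (LP (LK LD1_c11 LD2_c33 LD3_c46)) :=
  Lre_c IH (LK LD1_c5 LD2_c53 LD3_c60) (LK LD1_c11 LD2_c33 LD3_c46) Lrfl Lrfl
theorem f421487 : Led Lsl_dt (LP (LK LD1_c20 LD2_c31 LD3_c8)) = (LP (LK LD1_c11 LD2_c33 LD3_c46)) :=
  Lre_d IH (LK LD1_c20 LD2_c31 LD3_c8) (LK LD1_c11 LD2_c33 LD3_c46) Lrfl Lrfl
theorem f548087 : Led Lsl_dt (LP (LK LD1_c8 LD2_c12 LD3_c40)) = (LP (LK LD1_c15 LD2_c26 LD3_c49)) :=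
  Lre_d IH (LK LD1_c8 LD2_c12 LD3_c40) (LK LD1_c15 LD2_c26 LD3_c49) Lrfl Lrfl
theorem f590807 : Led Lsl_gf (LP (LK LD1_c20 LD2_c31 LD3_c8)) = (LP (LK LD1_c15 LD2_c26 LD3_c49)) :=
  Lgr Lrot143 (Lpr_dt (f421487 IH) (Lpe (f71492 IH) (Lpe (K42.f71239 IH) (Lpe (K36.f71238 IH) (Lpe (K39.f71276 IH) (Lpe (K38.f71263 IH) (Lpe (K42.f71753 IH) (Lpr_gt (f590803 IH) (Lpr_dt (f548087 IH) (Lpn (LP (LK LD1_c15 LD2_c26 LD3_c49))))))))))))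
theorem f71810 : Led Lsl_ct (LP (LK LD1_c5 LD2_c53 LD3_c61)) = (LP (LK LD1_c11 LD2_c33 LD3_c48)) :=
  Lre_c IH (LK LD1_c5 LD2_c53 LD3_c61) (LK LD1_c11 LD2_c33 LD3_c48) Lrfl Lrfl
theorem f545657 : Led Lsl_ft (LP (LK LD1_c11 LD2_c33 LD3_c48)) = (LP (LK LD1_c5 LD2_c55 LD3_c4)) :=
  Lgr Lrot4 (Lpe (f71810 IH) (Lpr_ff (K38.f545653 IH) (Lpe (K38.f538440 IH) (Lpn (LP (LK LD1_c5 LD2_c55 LD3_c4))))))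
theorem f572194 : Led Lsl_at (LP (LK LD1_c5 LD2_c55 LD3_c4)) = (LP (LK LD1_c11 LD2_c33 LD3_c49)) :=
  Lgr Lrot66 (Lpe (f545657 IH) (Lpr_af (K42.f572189 IH) (Lpr_ff (K42.f545683 IH) (Lpn (LP (LK LD1_c11 LD2_c33 LD3_c49))))))
theorem f590805 : Led Lsl_gf (LP (LK LD1_c11 LD2_c33 LD3_c49)) = (LP (LK LD1_c8 LD2_c12 LD3_c40)) :=
  Lgr Lrot76 (Lpe (f572194 IH) (Lpe (f545657 IH) (Lpr_gt (f590803 IH) (Lpn (LP (LK LD1_c8 LD2_c12 LD3_c40))))))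
theorem f71751 : Led Lsl_ct (LP (LK LD1_c11 LD2_c33 LD3_c49)) = (LP (LK LD1_c5 LD2_c54 LD3_c0)) :=
  Lre_c IH (LK LD1_c11 LD2_c33 LD3_c49) (LK LD1_c5 LD2_c54 LD3_c0) Lrfl Lrfl
theorem f442795 : Led Lsl_dt (LP (LK LD1_c11 LD2_c33 LD3_c52)) = (LP (LK LD1_c5 LD2_c54 LD3_c1)) :=
  Lre_d IH (LK LD1_c11 LD2_c33 LD3_c52) (LK LD1_c5 LD2_c54 LD3_c1) Lrfl Lrfl
theorem f420926 : Led Lsl_ct (LP (LK LD1_c20 LD2_c31 LD3_c14)) = (LP (LK LD1_c11 LD2_c33 LD3_c52)) :=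
  Lre_c IH (LK LD1_c20 LD2_c31 LD3_c14) (LK LD1_c11 LD2_c33 LD3_c52) Lrfl Lrfl
theorem f420848 : Led Lsl_gt (LP (LK LD1_c29 LD2_c29 LD3_c20)) = (LP (LK LD1_c20 LD2_c31 LD3_c14)) :=
  Lre_g IH (LK LD1_c29 LD2_c29 LD3_c20) (LK LD1_c20 LD2_c31 LD3_c14) Lrfl Lrfl
theorem f590814 : Led Lsl_ct (LP (LK LD1_c20 LD2_c31 LD3_c8)) = (LP (LK LD1_c29 LD2_c29 LD3_c20)) :=
  Lgr Lrot152 (Lpr_gf (f590807 IH) (Lpe (f548087 IH) (Lpe (f590805 IH) (Lpr_ct (f71751 IH) (Lpr_gt (K38.f71126 IH) (Lpr_ct (K38.f71800 IH) (Lpe (f442795 IH) (Lpe (f420926 IH) (Lpe (f420848 IH) (Lpn (LP (LK LD1_c29 LD2_c29 LD3_c20))))))))))))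
theorem f570450 : Led Lsl_dt (LP (LK LD1_c11 LD2_c33 LD3_c46)) = (LP (LK LD1_c20 LD2_c31 LD3_c8)) :=
  Lre_d IH (LK LD1_c11 LD2_c33 LD3_c46) (LK LD1_c20 LD2_c31 LD3_c8) Lrfl Lrfl
theorem f442729 : Led Lsl_dt (LP (LK LD1_c11 LD2_c33 LD3_c41)) = (LP (LK LD1_c20 LD2_c31 LD3_c2)) :=
  Lre_d IH (LK LD1_c11 LD2_c33 LD3_c41) (LK LD1_c20 LD2_c31 LD3_c2) Lrfl Lrfl
theorem f442731 : Led Lsl_gt (LP (LK LD1_c20 LD2_c31 LD3_c2)) = (LP (LK LD1_c29 LD2_c29 LD3_c20)) :=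
  Lre_g IH (LK LD1_c20 LD2_c31 LD3_c2) (LK LD1_c29 LD2_c29 LD3_c20) Lrfl Lrfl
theorem f575750 : Led Lsl_df (LP (LK LD1_c20 LD2_c31 LD3_c3)) = (LP (LK LD1_c29 LD2_c29 LD3_c20)) :=
  Lgr Lrot174 (Lpr_ct (f428020 IH) (Lpe (K41.f428018 IH) (Lpr_gf (f428016 IH) (Lpe (K43.f132717 IH) (Lpe (K43.f559609 IH) (Lpr_ct (K43.f575745 IH) (Lpr_gt (K43.f442730 IH) (Lpr_dt (f442729 IH) (Lpr_gt (f442731 IH) (Lpn (LP (LK LD1_c29 LD2_c29 LD3_c20))))))))))))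
theorem f590823 : Led Lsl_ft (LP (LK LD1_c11 LD2_c33 LD3_c45)) = (LP (LK LD1_c5 LD2_c54 LD3_c51)) :=
  Lgr Lrot142 (Lpr_dt (f421507 IH) (Lpr_ct (K41.f420971 IH) (Lpr_dt (K42.f71239 IH) (Lpr_ct (f71492 IH) (Lpr_dt (f570450 IH) (Lpr_ct (f590814 IH) (Lpe (f575750 IH) (Lpr_ct (f428020 IH) (Lpe (K41.f566926 IH) (Lpn (LP (LK LD1_c5 LD2_c54 LD3_c51))))))))))))
theorem f590827 : Led Lsl_ff (LP (LK LD1_c11 LD2_c33 LD3_c45)) = (LP (LK LD1_c5 LD2_c54 LD3_c51)) :=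
  Lgr Lrot3 (Lpr_ft (f590823 IH) (Lpn (LP (LK LD1_c5 LD2_c54 LD3_c51))))
theorem f421513 : Led Lsl_ct (LP (LK LD1_c11 LD2_c33 LD3_c45)) = (LP (LK LD1_c20 LD2_c31 LD3_c6)) :=
  Lre_c IH (LK LD1_c11 LD2_c33 LD3_c45) (LK LD1_c20 LD2_c31 LD3_c6) Lrfl Lrfl
theorem f590831 : Led Lsl_ft (LP (LK LD1_c20 LD2_c31 LD3_c6)) = (LP (LK LD1_c11 LD2_c35 LD3_c11)) :=
  Lgr Lrot4 (Lpe (f421513 IH) (Lpr_ff (f590827 IH) (Lpe (K41.f428089 IH) (Lpn (LP (LK LD1_c11 LD2_c35 LD3_c11))))))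
theorem f566932 : Led Lsl_at (LP (LK LD1_c11 LD2_c35 LD3_c11)) = (LP (LK LD1_c20 LD2_c31 LD3_c3)) :=
  Lgr Lrot100 (Lpr_af (K41.f566930 IH) (Lpn (LP (LK LD1_c20 LD2_c31 LD3_c3))))
theorem f590833 : Led Lsl_af (LP (LK LD1_c20 LD2_c31 LD3_c6)) = (LP (LK LD1_c11 LD2_c35 LD3_c23)) :=
  Lgr Lrot45 (Lpr_ft (f590831 IH) (Lpr_at (f566932 IH) (Lpe (K41.f566940 IH) (Lpn (LP (LK LD1_c11 LD2_c35 LD3_c23))))))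
theorem f421535 : Led Lsl_dt (LP (LK LD1_c5 LD2_c53 LD3_c59)) = (LP (LK LD1_c11 LD2_c33 LD3_c45)) :=
  Lre_d IH (LK LD1_c5 LD2_c53 LD3_c59) (LK LD1_c11 LD2_c33 LD3_c45) Lrfl Lrfl
theorem f590819 : Led Lsl_cf (LP (LK LD1_c20 LD2_c31 LD3_c8)) = (LP (LK LD1_c29 LD2_c29 LD3_c20)) :=
  Lgr Lrot11 (Lpr_ct (f590814 IH) (Lpn (LP (LK LD1_c29 LD2_c29 LD3_c20))))
theorem f591109 : Led Lsl_df (LP (LK LD1_c29 LD2_c29 LD3_c20)) = (LP (LK LD1_c20 LD2_c31 LD3_c3)) :=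
  Lgr Lrot157 (Lpe (f590819 IH) (Lpr_dt (f421487 IH) (Lpr_ct (f421481 IH) (Lpr_dt (f421503 IH) (Lpr_ct (K36.f421467 IH) (Lpr_dt (f421535 IH) (Lpr_ct (f421513 IH) (Lpr_af (f590833 IH) (Lpr_ff (K41.f566940 IH) (Lpn (LP (LK LD1_c20 LD2_c31 LD3_c3))))))))))))
theorem f591111 : Led Lsl_af (LP (LK LD1_c5 LD2_c53 LD3_c59)) = (LP (LK LD1_c2 LD2_c53 LD3_c50)) :=
  Lgr Lrot109 (Lpe (K36.f421467 IH) (Lpe (f421503 IH) (Lpe (f421481 IH) (Lpe (f421487 IH) (Lpr_cf (f590819 IH) (Lpr_df (f591109 IH) (Lpe (K41.f428019 IH) (Lpe (K41.f428018 IH) (Lpe (K41.f566948 IH) (Lpn (LP (LK LD1_c2 LD2_c53 LD3_c50))))))))))))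
theorem f591113 : Led Lsl_at (LP (LK LD1_c4 LD2_c20 LD3_c37)) = (LP (LK LD1_c5 LD2_c54 LD3_c59)) :=
  Lgr Lrot67 (Lpr_bf (K42.f571591 IH) (Lpr_af (K42.f571552 IH) (Lpe (K36.f421472 IH) (Lpr_af (f591111 IH) (Lpe (K37.f421254 IH) (Lpn (LP (LK LD1_c5 LD2_c54 LD3_c59))))))))
theorem f572713 : Led Lsl_dt (LP (LK LD1_c8 LD2_c38 LD3_c58)) = (LP (LK LD1_c4 LD2_c20 LD3_c37)) :=
  Lre_d IH (LK LD1_c8 LD2_c38 LD3_c58) (LK LD1_c4 LD2_c20 LD3_c37) Lrfl Lrfl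
theorem f591117 : Led Lsl_af (LP (LK LD1_c8 LD2_c38 LD3_c58)) = (LP (LK LD1_c11 LD2_c35 LD3_c22)) :=
  Lgr Lrot117 (Lpr_dt (f572713 IH) (Lpr_at (f591113 IH) (Lpr_dt (K42.f239271 IH) (Lpn (LP (LK LD1_c11 LD2_c35 LD3_c22))))))
theorem f556964 : Led Lsl_et (LP (LK LD1_c20 LD2_c33 LD3_c25)) = (LP (LK LD1_c11 LD2_c35 LD3_c22)) :=
  Lre_e IH (LK LD1_c20 LD2_c33 LD3_c25) (LK LD1_c11 LD2_c35 LD3_c22) Lrfl Lrfl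
theorem f591125 : Led Lsl_at (LP (LK LD1_c16 LD2_c11 LD3_c56)) = (LP (LK LD1_c20 LD2_c33 LD3_c25)) :=
  Lgr Lrot80 (Lpe (f572714 IH) (Lpr_af (f591117 IH) (Lpe (f556964 IH) (Lpn (LP (LK LD1_c20 LD2_c33 LD3_c25))))))
theorem f592524 : Led Lsl_ct (LP (LK LD1_c26 LD2_c8 LD3_c45)) = (LP (LK LD1_c16 LD2_c11 LD3_c56)) :=
  Lre_c IH (LK LD1_c26 LD2_c8 LD3_c45) (LK LD1_c16 LD2_c11 LD3_c56) Lrfl Lrfl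
theorem f592525 : Led Lsl_ct (LP (LK LD1_c20 LD2_c33 LD3_c25)) = (LP (LK LD1_c29 LD2_c30 LD3_c25)) :=
  Lre_c IH (LK LD1_c20 LD2_c33 LD3_c25) (LK LD1_c29 LD2_c30 LD3_c25) Lrfl Lrfl
theorem f592526 : Led Lsl_af (LP (LK LD1_c26 LD2_c8 LD3_c45)) = (LP (LK LD1_c29 LD2_c30 LD3_c25)) :=
  Lgr Lrot68 (Lpr_ct (f592524 IH) (Lpr_at (f591125 IH) (Lpr_ct (f592525 IH) (Lpn (LP (LK LD1_c29 LD2_c30 LD3_c25))))))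
theorem f592529 : Led Lsl_at (LP (LK LD1_c26 LD2_c8 LD3_c45)) = (LP (LK LD1_c29 LD2_c30 LD3_c25)) :=
  Lgr Lrot100 (Lpr_af (f592526 IH) (Lpn (LP (LK LD1_c29 LD2_c30 LD3_c25))))
theorem f572742 : Led Lsl_et (LP (LK LD1_c16 LD2_c11 LD3_c55)) = (LP (LK LD1_c26 LD2_c8 LD3_c45)) :=
  Lre_e IH (LK LD1_c16 LD2_c11 LD3_c55) (LK LD1_c26 LD2_c8 LD3_c45) Lrfl Lrfl
theorem f592532 : Led Lsl_et (LP (LK LD1_c29 LD2_c30 LD3_c25)) = (LP (LK LD1_c20 LD2_c33 LD3_c24)) :=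
  Lre_e IH (LK LD1_c29 LD2_c30 LD3_c25) (LK LD1_c20 LD2_c33 LD3_c24) Lrfl Lrfl
theorem f592533 : Led Lsl_af (LP (LK LD1_c16 LD2_c11 LD3_c55)) = (LP (LK LD1_c20 LD2_c33 LD3_c24)) :=
  Lgr Lrot50 (Lpr_et (f572742 IH) (Lpr_at (f592529 IH) (Lpr_et (f592532 IH) (Lpn (LP (LK LD1_c20 LD2_c33 LD3_c24))))))
theorem f592537 : Led Lsl_ft (LP (LK LD1_c14 LD2_c15 LD3_c50)) = (LP (LK LD1_c20 LD2_c33 LD3_c24)) :=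
  Lgr Lrot2 (Lpr_gt (f571172 IH) (Lpr_gt (f587972 IH) (Lpr_af (f592533 IH) (Lpn (LP (LK LD1_c20 LD2_c33 LD3_c24))))))
theorem f592541 : Led Lsl_ff (LP (LK LD1_c14 LD2_c15 LD3_c50)) = (LP (LK LD1_c20 LD2_c33 LD3_c24)) :=
  Lgr Lrot3 (Lpr_ft (f592537 IH) (Lpn (LP (LK LD1_c20 LD2_c33 LD3_c24))))
theorem f239279 : Led Lsl_dt (LP (LK LD1_c29 LD2_c30 LD3_c24)) = (LP (LK LD1_c20 LD2_c33 LD3_c24)) :=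
  Lre_d IH (LK LD1_c29 LD2_c30 LD3_c24) (LK LD1_c20 LD2_c33 LD3_c24) Lrfl Lrfl
theorem f592543 : Led Lsl_ft (LP (LK LD1_c23 LD2_c52 LD3_c34)) = (LP (LK LD1_c29 LD2_c30 LD3_c24)) :=
  Lgr Lrot54 (Lpe (f441497 IH) (Lpr_ff (f592541 IH) (Lpe (f239279 IH) (Lpn (LP (LK LD1_c29 LD2_c30 LD3_c24))))))
theorem f592547 : Led Lsl_af (LP (LK LD1_c26 LD2_c8 LD3_c44)) = (LP (LK LD1_c29 LD2_c30 LD3_c24)) :=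
  Lgr Lrot31 (Lpr_gf (K42.f572735 IH) (Lpe (f587618 IH) (Lpr_ft (f592543 IH) (Lpn (LP (LK LD1_c29 LD2_c30 LD3_c24))))))
theorem f441535 : Led Lsl_at (LP (LK LD1_c30 LD2_c35 LD3_c0)) = (LP (LK LD1_c30 LD2_c44 LD3_c38)) :=
  Lgr Lrot100 (Lpr_af (f441502 IH) (Lpn (LP (LK LD1_c30 LD2_c44 LD3_c38))))
theorem f592549 : Led Lsl_ct (LP (LK LD1_c30 LD2_c44 LD3_c38)) = (LP (LK LD1_c29 LD2_c30 LD3_c24)) :=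
  Lgr Lrot111 (Lpe (f441535 IH) (Lpe (K42.f572728 IH) (Lpr_af (f592547 IH) (Lpn (LP (LK LD1_c29 LD2_c30 LD3_c24))))))
theorem f239280 : Led Lsl_ct (LP (LK LD1_c20 LD2_c33 LD3_c24)) = (LP (LK LD1_c11 LD2_c35 LD3_c22)) :=
  Lre_c IH (LK LD1_c20 LD2_c33 LD3_c24) (LK LD1_c11 LD2_c35 LD3_c22) Lrfl Lrfl
theorem f592553 : Led Lsl_at (LP (LK LD1_c8 LD2_c10 LD3_c30)) = (LP (LK LD1_c8 LD2_c25 LD3_c51)) :=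
  Lgr Lrot33 (Lpr_ff (K42.f572697 IH) (Lpr_dt (K42.f11565 IH) (Lpr_ct (K43.f97164 IH) (Lpr_dt (f97165 IH) (Lpr_ct (f592549 IH) (Lpr_dt (f239279 IH) (Lpr_ct (f239280 IH) (Lpr_dt (K43.f239270 IH) (Lpr_ct (K42.f544428 IH) (Lpn (LP (LK LD1_c8 LD2_c25 LD3_c51))))))))))))
theorem f592572 : Led Lsl_af (LP (LK LD1_c15 LD2_c10 LD3_c24)) = (LP (LK LD1_c15 LD2_c13 LD3_c3)) :=
  Lgr Lrot117 (Lpr_dt (K42.f566097 IH) (Lpr_at (f592553 IH) (Lpr_dt (K42.f570950 IH) (Lpn (LP (LK LD1_c15 LD2_c13 LD3_c3))))))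
theorem f572733 : Led Lsl_ft (LP (LK LD1_c15 LD2_c10 LD3_c24)) = (LP (LK LD1_c13 LD2_c29 LD3_c22)) :=
  Lgr Lrot142 (Lpr_dt (K42.f566097 IH) (Lpr_ct (K42.f570100 IH) (Lpr_dt (K42.f572703 IH) (Lpr_ct (K42.f572704 IH) (Lpr_dt (K42.f572727 IH) (Lpr_ct (K42.f572728 IH) (Lpr_dt (K42.f441492 IH) (Lpr_ct (K42.f441491 IH) (Lpr_af (K42.f441481 IH) (Lpn (LP (LK LD1_c13 LD2_c29 LD3_c22))))))))))))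
theorem f592576 : Led Lsl_ft (LP (LK LD1_c13 LD2_c18 LD3_c8)) = (LP (LK LD1_c15 LD2_c13 LD3_c3)) :=
  Lgr Lrot101 (Lpr_af (K42.f441481 IH) (Lpe (f572733 IH) (Lpr_af (f592572 IH) (Lpn (LP (LK LD1_c15 LD2_c13 LD3_c3))))))
theorem f441521 : Led Lsl_et (LP (LK LD1_c7 LD2_c0 LD3_c46)) = (LP (LK LD1_c13 LD2_c18 LD3_c8)) :=
  Lre_e IH (LK LD1_c7 LD2_c0 LD3_c46) (LK LD1_c13 LD2_c18 LD3_c8) Lrfl Lrfl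
theorem f4437 : Led Lsl_et (LP (LK LD1_c13 LD2_c49 LD3_c2)) = (LP (LK LD1_c7 LD2_c18 LD3_c7)) :=
  Lre_e IH (LK LD1_c13 LD2_c49 LD3_c2) (LK LD1_c7 LD2_c18 LD3_c7) Lrfl Lrfl
theorem f467000 : Led Lsl_ft (LP (LK LD1_c23 LD2_c17 LD3_c53)) = (LP (LK LD1_c13 LD2_c49 LD3_c2)) :=
  Lre_f IH (LK LD1_c23 LD2_c17 LD3_c53) (LK LD1_c13 LD2_c49 LD3_c2) Lrfl Lrfl
theorem f592580 : Led Lsl_ef (LP (LK LD1_c23 LD2_c17 LD3_c53)) = (LP (LK LD1_c15 LD2_c13 LD3_c3)) :=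
  Lgr Lrot21 (Lpr_ft (f467000 IH) (Lpr_et (f4437 IH) (Lpr_ft (K29.f466990 IH) (Lpr_et (f441521 IH) (Lpr_ft (f592576 IH) (Lpn (LP (LK LD1_c15 LD2_c13 LD3_c3))))))))
theorem f592589 : Led Lsl_et (LP (LK LD1_c23 LD2_c17 LD3_c53)) = (LP (LK LD1_c15 LD2_c13 LD3_c3)) :=
  Lgr Lrot87 (Lpr_ef (f592580 IH) (Lpn (LP (LK LD1_c15 LD2_c13 LD3_c3))))
theorem f570955 : Led Lsl_df (LP (LK LD1_c8 LD2_c25 LD3_c51)) = (LP (LK LD1_c15 LD2_c13 LD3_c3)) :=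
  Lgr Lrot38 (Lpr_dt (K42.f570950 IH) (Lpn (LP (LK LD1_c15 LD2_c13 LD3_c3))))
theorem f239277 : Led Lsl_et (LP (LK LD1_c11 LD2_c35 LD3_c22)) = (LP (LK LD1_c20 LD2_c33 LD3_c25)) :=
  Lre_e IH (LK LD1_c11 LD2_c35 LD3_c22) (LK LD1_c20 LD2_c33 LD3_c25) Lrfl Lrfl
theorem f592598 : Led Lsl_df (LP (LK LD1_c23 LD2_c17 LD3_c53)) = (LP (LK LD1_c20 LD2_c33 LD3_c25)) :=
  Lgr Lrot70 (Lpr_et (f592589 IH) (Lpe (f570955 IH) (Lpe (K42.f570511 IH) (Lpr_dt (K42.f239271 IH) (Lpr_et (f239277 IH) (Lpn (LP (LK LD1_c20 LD2_c33 LD3_c25))))))))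
theorem f592602 : Led Lsl_bt (LP (LK LD1_c11 LD2_c35 LD3_c24)) = (LP (LK LD1_c20 LD2_c33 LD3_c25)) :=
  Lre_b IH (LK LD1_c11 LD2_c35 LD3_c24) (LK LD1_c20 LD2_c33 LD3_c25) Lrfl Lrfl
theorem f566950 : Led Lsl_et (LP (LK LD1_c11 LD2_c35 LD3_c24)) = (LP (LK LD1_c5 LD2_c54 LD3_c60)) :=
  Lre_e IH (LK LD1_c11 LD2_c35 LD3_c24) (LK LD1_c5 LD2_c54 LD3_c60) Lrfl Lrfl
theorem f171712 : Led Lsl_et (LP (LK LD1_c11 LD2_c35 LD3_c21)) = (LP (LK LD1_c20 LD2_c33 LD3_c23)) :=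
  Lre_e IH (LK LD1_c11 LD2_c35 LD3_c21) (LK LD1_c20 LD2_c33 LD3_c23) Lrfl Lrfl
theorem f570513 : Led Lsl_df (LP (LK LD1_c11 LD2_c35 LD3_c24)) = (LP (LK LD1_c20 LD2_c33 LD3_c23)) :=
  Lgr Lrot70 (Lpr_et (f566950 IH) (Lpr_dt (K42.f421255 IH) (Lpr_et (K42.f570509 IH) (Lpr_dt (K43.f171703 IH) (Lpr_et (f171712 IH) (Lpn (LP (LK LD1_c20 LD2_c33 LD3_c23))))))))
theorem f592603 : Led Lsl_bt (LP (LK LD1_c23 LD2_c17 LD3_c53)) = (LP (LK LD1_c20 LD2_c33 LD3_c23)) :=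
  Lgr Lrot95 (Lpr_df (f592598 IH) (Lpe (f592602 IH) (Lpr_df (f570513 IH) (Lpn (LP (LK LD1_c20 LD2_c33 LD3_c23))))))
theorem f467029 : Led Lsl_ft (LP (LK LD1_c13 LD2_c49 LD3_c2)) = (LP (LK LD1_c23 LD2_c17 LD3_c53)) :=
  Lre_f IH (LK LD1_c13 LD2_c49 LD3_c2) (LK LD1_c23 LD2_c17 LD3_c53) Lrfl Lrfl
theorem f592607 : Led Lsl_bt (LP (LK LD1_c23 LD2_c17 LD3_c48)) = (LP (LK LD1_c13 LD2_c49 LD3_c2)) :=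
  Lre_b IH (LK LD1_c23 LD2_c17 LD3_c48) (LK LD1_c13 LD2_c49 LD3_c2) Lrfl Lrfl
theorem f592608 : Led Lsl_ff (LP (LK LD1_c23 LD2_c17 LD3_c48)) = (LP (LK LD1_c20 LD2_c33 LD3_c23)) :=
  Lgr Lrot25 (Lpr_bt (f592607 IH) (Lpr_ft (f467029 IH) (Lpr_bt (f592603 IH) (Lpn (LP (LK LD1_c20 LD2_c33 LD3_c23))))))
theorem f592612 : Led Lsl_ft (LP (LK LD1_c23 LD2_c17 LD3_c48)) = (LP (LK LD1_c20 LD2_c33 LD3_c23)) :=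
  Lgr Lrot48 (Lpr_ff (f592608 IH) (Lpn (LP (LK LD1_c20 LD2_c33 LD3_c23))))
theorem f467076 : Led Lsl_et (LP (LK LD1_c13 LD2_c49 LD3_c0)) = (LP (LK LD1_c23 LD2_c17 LD3_c48)) :=
  Lre_e IH (LK LD1_c13 LD2_c49 LD3_c0) (LK LD1_c23 LD2_c17 LD3_c48) Lrfl Lrfl
theorem f4431 : Led Lsl_bt (LP (LK LD1_c13 LD2_c49 LD3_c0)) = (LP (LK LD1_c7 LD2_c18 LD3_c7)) :=
  Lre_b IH (LK LD1_c13 LD2_c49 LD3_c0) (LK LD1_c7 LD2_c18 LD3_c7) Lrfl Lrfl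
theorem f109590 : Led Lsl_bt (LP (LK LD1_c7 LD2_c0 LD3_c46)) = (LP (LK LD1_c13 LD2_c18 LD3_c7)) :=
  Lre_b IH (LK LD1_c7 LD2_c0 LD3_c46) (LK LD1_c13 LD2_c18 LD3_c7) Lrfl Lrfl
theorem f466994 : Led Lsl_ff (LP (LK LD1_c13 LD2_c49 LD3_c0)) = (LP (LK LD1_c13 LD2_c18 LD3_c7)) :=
  Lgr Lrot25 (Lpr_bt (f4431 IH) (Lpr_ft (K29.f466990 IH) (Lpr_bt (f109590 IH) (Lpn (LP (LK LD1_c13 LD2_c18 LD3_c7))))))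
theorem f556457 : Led Lsl_et (LP (LK LD1_c20 LD2_c33 LD3_c23)) = (LP (LK LD1_c11 LD2_c35 LD3_c21)) :=
  Lre_e IH (LK LD1_c20 LD2_c33 LD3_c23) (LK LD1_c11 LD2_c35 LD3_c21) Lrfl Lrfl
theorem f161197 : Led Lsl_dt (LP (LK LD1_c7 LD2_c59 LD3_c59)) = (LP (LK LD1_c15 LD2_c4 LD3_c42)) :=
  Lre_d IH (LK LD1_c7 LD2_c59 LD3_c59) (LK LD1_c15 LD2_c4 LD3_c42) Lrfl Lrfl
theorem f573949 : Led Lsl_bt (LP (LK LD1_c15 LD2_c4 LD3_c42)) = (LP (LK LD1_c13 LD2_c18 LD3_c8)) :=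
  Lgr Lrot95 (Lpe (f161197 IH) (Lpr_bf (K43.f573947 IH) (Lpe (K42.f441488 IH) (Lpn (LP (LK LD1_c13 LD2_c18 LD3_c8))))))
theorem f592578 : Led Lsl_ff (LP (LK LD1_c15 LD2_c4 LD3_c42)) = (LP (LK LD1_c11 LD2_c35 LD3_c21)) :=
  Lgr Lrot25 (Lpr_bt (f573949 IH) (Lpr_ft (f592576 IH) (Lpe (K42.f570952 IH) (Lpn (LP (LK LD1_c11 LD2_c35 LD3_c21))))))
theorem f592618 : Led Lsl_ef (LP (LK LD1_c13 LD2_c18 LD3_c7)) = (LP (LK LD1_c15 LD2_c4 LD3_c42)) :=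
  Lgr Lrot21 (Lpe (f466994 IH) (Lpr_et (f467076 IH) (Lpr_ft (f592612 IH) (Lpr_et (f556457 IH) (Lpe (f592578 IH) (Lpn (LP (LK LD1_c15 LD2_c4 LD3_c42))))))))
theorem f109056 : Led Lsl_et (LP (LK LD1_c7 LD2_c0 LD3_c44)) = (LP (LK LD1_c3 LD2_c29 LD3_c31)) :=
  Lre_e IH (LK LD1_c7 LD2_c0 LD3_c44) (LK LD1_c3 LD2_c29 LD3_c31) Lrfl Lrfl
theorem f592624 : Led Lsl_et (LP (LK LD1_c7 LD2_c0 LD3_c43)) = (LP (LK LD1_c7 LD2_c59 LD3_c59)) :=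
  Lgr Lrot71 (Lpe (K43.f97509 IH) (Lpe (f109056 IH) (Lpe (K43.f467047 IH) (Lpr_ef (f592618 IH) (Lpe (f161197 IH) (Lpn (LP (LK LD1_c7 LD2_c59 LD3_c59))))))))
theorem f549615 : Led Lsl_ef (LP (LK LD1_c9 LD2_c2 LD3_c50)) = (LP (LK LD1_c8 LD2_c14 LD3_c45)) :=
  Lgr Lrot29 (Lpr_bt (K38.f546896 IH) (Lpr_et (K38.f549613 IH) (Lpr_bt (K42.f544468 IH) (Lpn (LP (LK LD1_c8 LD2_c14 LD3_c45))))))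
theorem f592637 : Led Lsl_af (LP (LK LD1_c8 LD2_c14 LD3_c45)) = (LP (LK LD1_c7 LD2_c59 LD3_c59)) :=
  Lgr Lrot50 (Lpe (f549615 IH) (Lpe (K42.f546869 IH) (Lpr_et (f592624 IH) (Lpn (LP (LK LD1_c7 LD2_c59 LD3_c59))))))
theorem f567092 : Led Lsl_ft (LP (LK LD1_c8 LD2_c14 LD3_c45)) = (LP (LK LD1_c7 LD2_c59 LD3_c60)) :=
  Lgr Lrot4 (Lpe (K40.f193924 IH) (Lpe (K41.f567076 IH) (Lpr_cf (K41.f567086 IH) (Lpn (LP (LK LD1_c7 LD2_c59 LD3_c60))))))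
theorem f556441 : Led Lsl_ct (LP (LK LD1_c7 LD2_c59 LD3_c59)) = (LP (LK LD1_c4 LD2_c5 LD3_c39)) :=
  Lgr Lrot59 (Lpr_cf (K39.f556437 IH) (Lpn (LP (LK LD1_c4 LD2_c5 LD3_c39))))
theorem f567066 : Led Lsl_ff (LP (LK LD1_c7 LD2_c59 LD3_c59)) = (LP (LK LD1_c5 LD2_c54 LD3_c57)) :=
  Lgr Lrot23 (Lpr_ct (f556441 IH) (Lpe (K41.f566970 IH) (Lpr_ct (K37.f171699 IH) (Lpn (LP (LK LD1_c5 LD2_c54 LD3_c57))))))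
theorem f592645 : Led Lsl_at (LP (LK LD1_c7 LD2_c59 LD3_c60)) = (LP (LK LD1_c5 LD2_c54 LD3_c57)) :=
  Lgr Lrot66 (Lpe (f567092 IH) (Lpr_af (f592637 IH) (Lpr_ff (f567066 IH) (Lpn (LP (LK LD1_c5 LD2_c54 LD3_c57))))))
theorem f592649 : Led Lsl_ef (LP (LK LD1_c7 LD2_c59 LD3_c60)) = (LP (LK LD1_c5 LD2_c53 LD3_c59)) :=
  Lgr Lrot20 (Lpr_at (f592645 IH) (Lpe (K42.f570515 IH) (Lpe (f591111 IH) (Lpn (LP (LK LD1_c5 LD2_c53 LD3_c59))))))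
theorem f571560 : Led Lsl_ft (LP (LK LD1_c2 LD2_c53 LD3_c46)) = (LP (LK LD1_c5 LD2_c53 LD3_c59)) :=
  Lgr Lrot75 (Lpr_bf (K41.f566904 IH) (Lpr_ff (K42.f571558 IH) (Lpe (K36.f421472 IH) (Lpn (LP (LK LD1_c5 LD2_c53 LD3_c59))))))
theorem f592655 : Led Lsl_ft (LP (LK LD1_c7 LD2_c59 LD3_c60)) = (LP (LK LD1_c8 LD2_c14 LD3_c45)) :=
  Lgr Lrot86 (Lpr_ef (f592649 IH) (Lpe (f571560 IH) (Lpe (K38.f428095 IH) (Lpr_ff (K38.f546875 IH) (Lpr_ef (f549615 IH) (Lpn (LP (LK LD1_c8 LD2_c14 LD3_c45))))))))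
theorem f427955 : Led Lsl_dt (LP (LK LD1_c15 LD2_c4 LD3_c43)) = (LP (LK LD1_c7 LD2_c59 LD3_c60)) :=
  Lre_d IH (LK LD1_c15 LD2_c4 LD3_c43) (LK LD1_c7 LD2_c59 LD3_c60) Lrfl Lrfl
theorem f544479 : Led Lsl_dt (LP (LK LD1_c8 LD2_c14 LD3_c45)) = (LP (LK LD1_c15 LD2_c30 LD3_c40)) :=
  Lre_d IH (LK LD1_c8 LD2_c14 LD3_c45) (LK LD1_c15 LD2_c30 LD3_c40) Lrfl Lrfl
theorem f592657 : Led Lsl_ff (LP (LK LD1_c15 LD2_c4 LD3_c43)) = (LP (LK LD1_c15 LD2_c30 LD3_c40)) :=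
  Lgr Lrot19 (Lpr_dt (f427955 IH) (Lpr_ft (f592655 IH) (Lpr_dt (f544479 IH) (Lpn (LP (LK LD1_c15 LD2_c30 LD3_c40))))))
theorem f592659 : Led Lsl_ft (LP (LK LD1_c15 LD2_c4 LD3_c43)) = (LP (LK LD1_c15 LD2_c30 LD3_c40)) :=
  Lgr Lrot48 (Lpr_ff (f592657 IH) (Lpn (LP (LK LD1_c15 LD2_c30 LD3_c40))))
theorem f428049 : Led Lsl_dt (LP (LK LD1_c15 LD2_c4 LD3_c42)) = (LP (LK LD1_c7 LD2_c59 LD3_c59)) :=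
  Lre_d IH (LK LD1_c15 LD2_c4 LD3_c42) (LK LD1_c7 LD2_c59 LD3_c59) Lrfl Lrfl
theorem f592643 : Led Lsl_at (LP (LK LD1_c15 LD2_c30 LD3_c40)) = (LP (LK LD1_c15 LD2_c4 LD3_c42)) :=
  Lgr Lrot51 (Lpe (f544479 IH) (Lpr_af (f592637 IH) (Lpe (f428049 IH) (Lpn (LP (LK LD1_c15 LD2_c4 LD3_c42))))))
theorem f503130 : Led Lsl_dt (LP (LK LD1_c6 LD2_c16 LD3_c0)) = (LP (LK LD1_c12 LD2_c9 LD3_c40)) :=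
  Lre_d IH (LK LD1_c6 LD2_c16 LD3_c0) (LK LD1_c12 LD2_c9 LD3_c40) Lrfl Lrfl
theorem f556443 : Led Lsl_et (LP (LK LD1_c7 LD2_c59 LD3_c59)) = (LP (LK LD1_c7 LD2_c0 LD3_c43)) :=
  Lgr Lrot158 (Lpr_cf (K39.f556437 IH) (Lpe (K39.f422806 IH) (Lpe (K43.f556420 IH) (Lpn (LP (LK LD1_c7 LD2_c0 LD3_c43))))))
theorem f569436 : Led Lsl_gt (LP (LK LD1_c12 LD2_c9 LD3_c40)) = (LP (LK LD1_c15 LD2_c4 LD3_c42)) :=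
  Lgr Lrot112 (Lpe (f503130 IH) (Lpr_et (K42.f569432 IH) (Lpr_gf (K42.f556362 IH) (Lpe (K42.f556378 IH) (Lpr_dt (K41.f559157 IH) (Lpr_gf (K3.f88613 IH) (Lpe (K42.f548938 IH) (Lpr_gf (K43.f565248 IH) (Lpe (f556443 IH) (Lpr_dt (f161197 IH) (Lpn (LP (LK LD1_c15 LD2_c4 LD3_c42)))))))))))))
theorem f592662 : Led Lsl_gt (LP (LK LD1_c15 LD2_c4 LD3_c43)) = (LP (LK LD1_c12 LD2_c9 LD3_c40)) :=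
  Lgr Lrot5 (Lpr_ft (f592659 IH) (Lpr_at (f592643 IH) (Lpe (f569436 IH) (Lpn (LP (LK LD1_c12 LD2_c9 LD3_c40))))))
theorem f427952 : Led Lsl_dt (LP (LK LD1_c7 LD2_c59 LD3_c60)) = (LP (LK LD1_c15 LD2_c4 LD3_c43)) :=
  Lre_d IH (LK LD1_c7 LD2_c59 LD3_c60) (LK LD1_c15 LD2_c4 LD3_c43) Lrfl Lrfl
theorem f592653 : Led Lsl_et (LP (LK LD1_c7 LD2_c59 LD3_c60)) = (LP (LK LD1_c5 LD2_c53 LD3_c59)) :=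
  Lgr Lrot87 (Lpr_ef (f592649 IH) (Lpn (LP (LK LD1_c5 LD2_c53 LD3_c59))))
theorem f592670 : Led Lsl_gf (LP (LK LD1_c21 LD2_c11 LD3_c8)) = (LP (LK LD1_c16 LD2_c26 LD3_c29)) :=
  Lgr Lrot134 (Lpe (K42.f565381 IH) (Lpr_et (K41.f565375 IH) (Lpe (K43.f565361 IH) (Lpe (f592653 IH) (Lpr_dt (f427952 IH) (Lpr_gt (f592662 IH) (Lpe (f503130 IH) (Lpr_et (K42.f569432 IH) (Lpr_gt (K43.f570139 IH) (Lpe (K43.f578783 IH) (Lpn (LP (LK LD1_c16 LD2_c26 LD3_c29)))))))))))))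
theorem f149689 : Led Lsl_dt (LP (LK LD1_c5 LD2_c50 LD3_c58)) = (LP (LK LD1_c11 LD2_c29 LD3_c25)) :=
  Lre_d IH (LK LD1_c5 LD2_c50 LD3_c58) (LK LD1_c11 LD2_c29 LD3_c25) Lrfl Lrfl
theorem f571947 : Led Lsl_df (LP (LK LD1_c6 LD2_c13 LD3_c17)) = (LP (LK LD1_c11 LD2_c27 LD3_c42)) :=
  Lgr Lrot12 (Lpe (K43.f571932 IH) (Lpr_dt (f149689 IH) (Lpr_bt (K42.f571944 IH) (Lpn (LP (LK LD1_c11 LD2_c27 LD3_c42))))))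
theorem f592674 : Led Lsl_gf (LP (LK LD1_c11 LD2_c27 LD3_c42)) = (LP (LK LD1_c9 LD2_c48 LD3_c19)) :=
  Lgr Lrot143 (Lpe (f571947 IH) (Lpe (K43.f112540 IH) (Lpe (K42.f565379 IH) (Lpr_gf (f592670 IH) (Lpr_df (K43.f578783 IH) (Lpe (K43.f570139 IH) (Lpe (K42.f176630 IH) (Lpr_gt (K43.f450378 IH) (Lpr_dt (K43.f569091 IH) (Lpn (LP (LK LD1_c9 LD2_c48 LD3_c19))))))))))))
theorem f548969 : Led Lsl_ct (LP (LK LD1_c11 LD2_c27 LD3_c42)) = (LP (LK LD1_c20 LD2_c25 LD3_c30)) :=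
  Lre_c IH (LK LD1_c11 LD2_c27 LD3_c42) (LK LD1_c20 LD2_c25 LD3_c30) Lrfl Lrfl
theorem f202662 : Led Lsl_dt (LP (LK LD1_c12 LD2_c10 LD3_c2)) = (LP (LK LD1_c21 LD2_c15 LD3_c52)) :=
  Lre_d IH (LK LD1_c12 LD2_c10 LD3_c2) (LK LD1_c21 LD2_c15 LD3_c52) Lrfl Lrfl
theorem f582060 : Led Lsl_gt (LP (LK LD1_c20 LD2_c25 LD3_c30)) = (LP (LK LD1_c12 LD2_c10 LD3_c2)) :=
  Lgr Lrot94 (Lpe (f548969 IH) (Lpr_gt (K41.f176613 IH) (Lpr_dt (K38.f176689 IH) (Lpr_gt (K39.f176629 IH) (Lpe (K39.f548964 IH) (Lpe (K42.f539920 IH) (Lpe (K44.f539923 IH) (Lpr_gf (K44.f582058 IH) (Lpe (f202662 IH) (Lpn (LP (LK LD1_c12 LD2_c10 LD3_c2))))))))))))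
theorem f428342 : Led Lsl_bt (LP (LK LD1_c1 LD2_c23 LD3_c57)) = (LP (LK LD1_c2 LD2_c55 LD3_c49)) :=
  Lre_b IH (LK LD1_c1 LD2_c23 LD3_c57) (LK LD1_c2 LD2_c55 LD3_c49) Lrfl Lrfl
theorem f592678 : Led Lsl_bt (LP (LK LD1_c6 LD2_c16 LD3_c26)) = (LP (LK LD1_c5 LD2_c58 LD3_c48)) :=
  Lgr Lrot22 (Lpr_ct (K44.f202647 IH) (Lpe (f582060 IH) (Lpe (f548969 IH) (Lpr_gf (f592674 IH) (Lpe (K44.f558508 IH) (Lpr_ct (K40.f545413 IH) (Lpe (K40.f427711 IH) (Lpe (K36.f427710 IH) (Lpr_bt (f428342 IH) (Lpe (K40.f428172 IH) (Lpn (LP (LK LD1_c5 LD2_c58 LD3_c48)))))))))))))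
theorem f592680 : Led Lsl_bt (LP (LK LD1_c21 LD2_c15 LD3_c51)) = (LP (LK LD1_c12 LD2_c10 LD3_c2)) :=
  Lre_b IH (LK LD1_c21 LD2_c15 LD3_c51) (LK LD1_c12 LD2_c10 LD3_c2) Lrfl Lrfl
theorem f563159 : Led Lsl_ct (LP (LK LD1_c2 LD2_c55 LD3_c48)) = (LP (LK LD1_c2 LD2_c14 LD3_c34)) :=
  Lgr Lrot59 (Lpr_cf (K40.f563139 IH) (Lpqs (K35.f541444 IH) (Lpn (LP (LK LD1_c2 LD2_c14 LD3_c34)))))
theorem f20380 : Led Lsl_dt (LP (LK LD1_c1 LD2_c4 LD3_c24)) = (LP (LK LD1_c2 LD2_c14 LD3_c35)) :=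
  Lre_d IH (LK LD1_c1 LD2_c4 LD3_c24) (LK LD1_c2 LD2_c14 LD3_c35) Lrfl Lrfl
theorem f20384 : Led Lsl_ct (LP (LK LD1_c4 LD2_c35 LD3_c0)) = (LP (LK LD1_c2 LD2_c14 LD3_c35)) :=
  Lre_c IH (LK LD1_c4 LD2_c35 LD3_c0) (LK LD1_c2 LD2_c14 LD3_c35) Lrfl Lrfl
theorem f20391 : Led Lsl_gt (LP (LK LD1_c9 LD2_c6 LD3_c48)) = (LP (LK LD1_c4 LD2_c35 LD3_c0)) :=
  Lre_g IH (LK LD1_c9 LD2_c6 LD3_c48) (LK LD1_c4 LD2_c35 LD3_c0) Lrfl Lrfl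
theorem f563716 : Led Lsl_cf (LP (LK LD1_c9 LD2_c6 LD3_c48)) = (LP (LK LD1_c5 LD2_c58 LD3_c48)) :=
  Lgr Lrot169 (Lpr_gt (f20391 IH) (Lpr_ct (f20384 IH) (Lpe (f20380 IH) (Lpr_cf (K36.f20314 IH) (Lpe (K35.f20392 IH) (Lpe (f563159 IH) (Lpr_gf (K40.f563713 IH) (Lpe (K36.f539576 IH) (Lpe (K40.f539589 IH) (Lpn (LP (LK LD1_c5 LD2_c58 LD3_c48))))))))))))
theorem f564061 : Led Lsl_bt (LP (LK LD1_c9 LD2_c6 LD3_c48)) = (LP (LK LD1_c16 LD2_c58 LD3_c56)) :=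
  Lre_b IH (LK LD1_c9 LD2_c6 LD3_c48) (LK LD1_c16 LD2_c58 LD3_c56) Lrfl Lrfl
theorem f592681 : Led Lsl_cf (LP (LK LD1_c21 LD2_c15 LD3_c51)) = (LP (LK LD1_c16 LD2_c58 LD3_c56)) :=
  Lgr Lrot97 (Lpr_bt (f592680 IH) (Lpr_ct (K44.f202648 IH) (Lpr_bt (f592678 IH) (Lpe (f563716 IH) (Lpr_bt (f564061 IH) (Lpn (LP (LK LD1_c16 LD2_c58 LD3_c56))))))))
theorem f592687 : Led Lsl_ct (LP (LK LD1_c21 LD2_c15 LD3_c51)) = (LP (LK LD1_c16 LD2_c58 LD3_c56)) :=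
  Lgr Lrot59 (Lpr_cf (f592681 IH) (Lpn (LP (LK LD1_c16 LD2_c58 LD3_c56))))
theorem f202653 : Led Lsl_bt (LP (LK LD1_c12 LD2_c10 LD3_c2)) = (LP (LK LD1_c21 LD2_c15 LD3_c51)) :=
  Lre_b IH (LK LD1_c12 LD2_c10 LD3_c2) (LK LD1_c21 LD2_c15 LD3_c51) Lrfl Lrfl
theorem f558873 : Led Lsl_bt (LP (LK LD1_c5 LD2_c58 LD3_c48)) = (LP (LK LD1_c6 LD2_c16 LD3_c26)) :=
  Lgr Lrot95 (Lpr_df (K40.f558871 IH) (Lpe (K43.f556377 IH) (Lpe (K42.f202649 IH) (Lpn (LP (LK LD1_c6 LD2_c16 LD3_c26))))))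
theorem f592696 : Led Lsl_bt (LP (LK LD1_c16 LD2_c58 LD3_c56)) = (LP (LK LD1_c9 LD2_c6 LD3_c48)) :=
  Lre_b IH (LK LD1_c16 LD2_c58 LD3_c56) (LK LD1_c9 LD2_c6 LD3_c48) Lrfl Lrfl
theorem f592701 : Led Lsl_cf (LP (LK LD1_c5 LD2_c58 LD3_c48)) = (LP (LK LD1_c9 LD2_c6 LD3_c48)) :=
  Lgr Lrot97 (Lpr_bt (f558873 IH) (Lpr_ct (K44.f202647 IH) (Lpr_bt (f202653 IH) (Lpr_ct (f592687 IH) (Lpr_bt (f592696 IH) (Lpn (LP (LK LD1_c9 LD2_c6 LD3_c48))))))))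
theorem f564060 : Led Lsl_dt (LP (LK LD1_c16 LD2_c58 LD3_c57)) = (LP (LK LD1_c9 LD2_c6 LD3_c48)) :=
  Lre_d IH (LK LD1_c16 LD2_c58 LD3_c57) (LK LD1_c9 LD2_c6 LD3_c48) Lrfl Lrfl
theorem f592710 : Led Lsl_gt (LP (LK LD1_c18 LD2_c2 LD3_c20)) = (LP (LK LD1_c16 LD2_c58 LD3_c57)) :=
  Lgr Lrot49 (Lpe (K36.f334772 IH) (Lpe (K38.f175793 IH) (Lpe (K38.f548156 IH) (Lpr_gt (K43.f572902 IH) (Lpr_dt (K43.f557468 IH) (Lpr_gt (K43.f563992 IH) (Lpe (K40.f558871 IH) (Lpr_cf (f592701 IH) (Lpe (f564060 IH) (Lpn (LP (LK LD1_c16 LD2_c58 LD3_c57))))))))))))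
theorem f422728 : Led Lsl_ft (LP (LK LD1_c11 LD2_c8 LD3_c13)) = (LP (LK LD1_c20 LD2_c1 LD3_c54)) :=
  Lre_f IH (LK LD1_c11 LD2_c8 LD3_c13) (LK LD1_c20 LD2_c1 LD3_c54) Lrfl Lrfl
theorem f422729 : Led Lsl_at (LP (LK LD1_c20 LD2_c1 LD3_c54)) = (LP (LK LD1_c20 LD2_c1 LD3_c52)) :=
  Lgr Lrot33 (Lpe (f422728 IH) (Lpr_dt (K36.f211716 IH) (Lpr_ct (K36.f211715 IH) (Lpr_dt (K35.f422722 IH) (Lpr_ct (K36.f177838 IH) (Lpr_dt (K36.f422724 IH) (Lpr_ct (K36.f165059 IH) (Lpr_dt (K36.f422725 IH) (Lpr_ct (K36.f422726 IH) (Lpn (LP (LK LD1_c20 LD2_c1 LD3_c52))))))))))))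
theorem f422741 : Led Lsl_af (LP (LK LD1_c20 LD2_c1 LD3_c54)) = (LP (LK LD1_c20 LD2_c1 LD3_c52)) :=
  Lgr Lrot0 (Lpr_at (f422729 IH) (Lpn (LP (LK LD1_c20 LD2_c1 LD3_c52))))
theorem f538976 : Led Lsl_cf (LP (LK LD1_c18 LD2_c2 LD3_c20)) = (LP (LK LD1_c20 LD2_c1 LD3_c54)) :=
  Lgr Lrot1 (Lpr_at (K36.f538972 IH) (Lpr_ct (K36.f422726 IH) (Lpe (f422741 IH) (Lpn (LP (LK LD1_c20 LD2_c1 LD3_c54))))))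
theorem f176764 : Led Lsl_ct (LP (LK LD1_c9 LD2_c51 LD3_c11)) = (LP (LK LD1_c5 LD2_c0 LD3_c25)) :=
  Lre_c IH (LK LD1_c9 LD2_c51 LD3_c11) (LK LD1_c5 LD2_c0 LD3_c25) Lrfl Lrfl
theorem f539009 : Led Lsl_ft (LP (LK LD1_c18 LD2_c2 LD3_c20)) = (LP (LK LD1_c20 LD2_c1 LD3_c52)) :=
  Lgr Lrot142 (Lpr_dt (K36.f334776 IH) (Lpr_ct (f176764 IH) (Lpr_dt (K36.f538948 IH) (Lpe (K36.f380440 IH) (Lpe (K36.f538942 IH) (Lpr_ct (K36.f101580 IH) (Lpr_dt (K36.f334772 IH) (Lpr_ct (K36.f539005 IH) (Lpr_af (f422741 IH) (Lpn (LP (LK LD1_c20 LD2_c1 LD3_c52))))))))))))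
theorem f592712 : Led Lsl_gf (LP (LK LD1_c20 LD2_c1 LD3_c54)) = (LP (LK LD1_c16 LD2_c58 LD3_c57)) :=
  Lgr Lrot76 (Lpr_af (f422741 IH) (Lpe (f539009 IH) (Lpr_gt (f592710 IH) (Lpn (LP (LK LD1_c16 LD2_c58 LD3_c57))))))
theorem f494357 : Led Lsl_gt (LP (LK LD1_c2 LD2_c14 LD3_c35)) = (LP (LK LD1_c4 LD2_c34 LD3_c60)) :=
  Lre_g IH (LK LD1_c2 LD2_c14 LD3_c35) (LK LD1_c4 LD2_c34 LD3_c60) Lrfl Lrfl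
theorem f494358 : Led Lsl_ct (LP (LK LD1_c4 LD2_c34 LD3_c60)) = (LP (LK LD1_c9 LD2_c6 LD3_c43)) :=
  Lre_c IH (LK LD1_c4 LD2_c34 LD3_c60) (LK LD1_c9 LD2_c6 LD3_c43) Lrfl Lrfl
theorem f539949 : Led Lsl_dt (LP (LK LD1_c9 LD2_c6 LD3_c43)) = (LP (LK LD1_c16 LD2_c58 LD3_c49)) :=
  Lre_d IH (LK LD1_c9 LD2_c6 LD3_c43) (LK LD1_c16 LD2_c58 LD3_c49) Lrfl Lrfl
theorem f592714 : Led Lsl_cf (LP (LK LD1_c16 LD2_c58 LD3_c49)) = (LP (LK LD1_c16 LD2_c58 LD3_c57)) :=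
  Lgr Lrot99 (Lpe (f539949 IH) (Lpe (f494358 IH) (Lpe (f494357 IH) (Lpe (f20384 IH) (Lpe (f20391 IH) (Lpe (f564060 IH) (Lpe (f592712 IH) (Lpe (f538976 IH) (Lpr_gt (f592710 IH) (Lpn (LP (LK LD1_c16 LD2_c58 LD3_c57))))))))))))
theorem f544985 : Led Lsl_dt (LP (LK LD1_c20 LD2_c26 LD3_c39)) = (LP (LK LD1_c11 LD2_c29 LD3_c33)) :=
  Lre_d IH (LK LD1_c20 LD2_c26 LD3_c39) (LK LD1_c11 LD2_c29 LD3_c33) Lrfl Lrfl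
theorem f592724 : Led Lsl_gt (LP (LK LD1_c16 LD2_c58 LD3_c49)) = (LP (LK LD1_c20 LD2_c26 LD3_c39)) :=
  Lgr Lrot94 (Lpr_cf (f592714 IH) (Lpe (f592712 IH) (Lpr_dt (K36.f380352 IH) (Lpe (K38.f538997 IH) (Lpe (K38.f548149 IH) (Lpe (K38.f208567 IH) (Lpe (K38.f208554 IH) (Lpe (K43.f208557 IH) (Lpe (f544985 IH) (Lpn (LP (LK LD1_c20 LD2_c26 LD3_c39))))))))))))
theorem f573407 : Led Lsl_gf (LP (LK LD1_c11 LD2_c7 LD3_c7)) = (LP (LK LD1_c5 LD2_c38 LD3_c25)) :=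
  Lgr Lrot144 (Lpr_dt (K43.f573403 IH) (Lpe (K43.f573396 IH) (Lpr_dt (K43.f72376 IH) (Lpe (K2.f72371 IH) (Lpe (K38.f72379 IH) (Lpr_gf (K38.f548358 IH) (Lpe (K36.f422724 IH) (Lpe (K42.f210998 IH) (Lpe (K42.f210999 IH) (Lpn (LP (LK LD1_c5 LD2_c38 LD3_c25))))))))))))
theorem f570328 : Led Lsl_df (LP (LK LD1_c5 LD2_c38 LD3_c25)) = (LP (LK LD1_c9 LD2_c8 LD3_c58)) :=
  Lgr Lrot84 (Lpe (K42.f548273 IH) (Lpe (K42.f422734 IH) (Lpr_gf (K42.f570322 IH) (Lpe (K7.f20356 IH) (Lpqs (K38.f541437 IH) (Lpr_gf (K38.f541425 IH) (Lpe (K37.f181541 IH) (Lpe (K40.f541429 IH) (Lpr_dt (K38.f426102 IH) (Lpr_gt (K38.f548646 IH) (Lpn (LP (LK LD1_c9 LD2_c8 LD3_c58)))))))))))))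
theorem f592728 : Led Lsl_gf (LP (LK LD1_c9 LD2_c6 LD3_c43)) = (LP (LK LD1_c11 LD2_c41 LD3_c42)) :=
  Lgr Lrot144 (Lpr_dt (f539949 IH) (Lpr_gt (f592724 IH) (Lpr_dt (f544985 IH) (Lpr_cf (K43.f573384 IH) (Lpe (K43.f573403 IH) (Lpr_gf (f573407 IH) (Lpr_df (f570328 IH) (Lpe (K38.f548646 IH) (Lpe (K40.f428173 IH) (Lpn (LP (LK LD1_c11 LD2_c41 LD3_c42))))))))))))
theorem f539947 : Led Lsl_ct (LP (LK LD1_c9 LD2_c6 LD3_c43)) = (LP (LK LD1_c4 LD2_c34 LD3_c60)) :=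
  Lre_c IH (LK LD1_c9 LD2_c6 LD3_c43) (LK LD1_c4 LD2_c34 LD3_c60) Lrfl Lrfl
theorem f426095 : Led Lsl_gt (LP (LK LD1_c1 LD2_c23 LD3_c49)) = (LP (LK LD1_c1 LD2_c21 LD3_c57)) :=
  Lgr Lrot46 (Lpr_gf (K24.f426091 IH) (Lpr_ft (K38.f208580 IH) (Lpe (K38.f208582 IH) (Lpn (LP (LK LD1_c1 LD2_c21 LD3_c57))))))
theorem f571462 : Led Lsl_gt (LP (LK LD1_c11 LD2_c8 LD3_c3)) = (LP (LK LD1_c5 LD2_c58 LD3_c38)) :=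
  Lgr Lrot112 (Lpe (K42.f422735 IH) (Lpr_et (K42.f571458 IH) (Lpr_gf (K42.f558743 IH) (Lpe (K40.f136283 IH) (Lpe (K40.f136273 IH) (Lpe (K6.f136334 IH) (Lpe (K7.f136322 IH) (Lpe (f426095 IH) (Lpe (K36.f425960 IH) (Lpr_dt (K38.f426102 IH) (Lpn (LP (LK LD1_c5 LD2_c58 LD3_c38)))))))))))))
theorem f422733 : Led Lsl_dt (LP (LK LD1_c11 LD2_c8 LD3_c3)) = (LP (LK LD1_c5 LD2_c38 LD3_c22)) :=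
  Lre_d IH (LK LD1_c11 LD2_c8 LD3_c3) (LK LD1_c5 LD2_c38 LD3_c22) Lrfl Lrfl
theorem f592735 : Led Lsl_df (LP (LK LD1_c4 LD2_c34 LD3_c60)) = (LP (LK LD1_c5 LD2_c38 LD3_c7)) :=
  Lgr Lrot162 (Lpe (f539947 IH) (Lpr_gf (f592728 IH) (Lpe (K40.f428158 IH) (Lpe (f571462 IH) (Lpr_dt (f422733 IH) (Lpr_gt (K43.f572984 IH) (Lpr_ct (K43.f577780 IH) (Lpr_gt (K43.f579041 IH) (Lpr_ct (K43.f380358 IH) (Lpn (LP (LK LD1_c5 LD2_c38 LD3_c7))))))))))))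
theorem f592746 : Led Lsl_gt (LP (LK LD1_c4 LD2_c34 LD3_c60)) = (LP (LK LD1_c2 LD2_c58 LD3_c6)) :=
  Lgr Lrot139 (Lpr_df (f592735 IH) (Lpe (K41.f380310 IH) (Lpe (K35.f380290 IH) (Lpr_dt (K40.f380309 IH) (Lpe (K42.f570342 IH) (Lpe (K42.f568557 IH) (Lpq (K42.f568550 IH) (Lpe (K42.f495359 IH) (Lpr_gf (K37.f495345 IH) (Lpqs (K38.f537482 IH) (Lpr_ef (K38.f22430 IH) (Lpr_dt (K38.f22438 IH) (Lpn (LP (LK LD1_c2 LD2_c58 LD3_c6)))))))))))))))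
theorem f494382 : Led Lsl_bt (LP (LK LD1_c9 LD2_c6 LD3_c42)) = (LP (LK LD1_c4 LD2_c34 LD3_c60)) :=
  Lre_b IH (LK LD1_c9 LD2_c6 LD3_c42) (LK LD1_c4 LD2_c34 LD3_c60) Lrfl Lrfl
theorem f422800 : Led Lsl_ct (LP (LK LD1_c2 LD2_c58 LD3_c6)) = (LP (LK LD1_c6 LD2_c4 LD3_c2)) :=
  Lre_c IH (LK LD1_c2 LD2_c58 LD3_c6) (LK LD1_c6 LD2_c4 LD3_c2) Lrfl Lrfl
theorem f539948 : Led Lsl_dt (LP (LK LD1_c16 LD2_c58 LD3_c49)) = (LP (LK LD1_c9 LD2_c6 LD3_c43)) :=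
  Lre_d IH (LK LD1_c16 LD2_c58 LD3_c49) (LK LD1_c9 LD2_c6 LD3_c43) Lrfl Lrfl
theorem f577775 : Led Lsl_dt (LP (LK LD1_c9 LD2_c6 LD3_c48)) = (LP (LK LD1_c16 LD2_c58 LD3_c57)) :=
  Lre_d IH (LK LD1_c9 LD2_c6 LD3_c48) (LK LD1_c16 LD2_c58 LD3_c57) Lrfl Lrfl
theorem f577776 : Led Lsl_ff (LP (LK LD1_c5 LD2_c38 LD3_c25)) = (LP (LK LD1_c6 LD2_c16 LD3_c22)) :=
  Lgr Lrot23 (Lpr_ct (K42.f210999 IH) (Lpe (K43.f577751 IH) (Lpr_ct (K43.f577771 IH) (Lpn (LP (LK LD1_c6 LD2_c16 LD3_c22))))))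
theorem f577744 : Led Lsl_af (LP (LK LD1_c11 LD2_c7 LD3_c30)) = (LP (LK LD1_c5 LD2_c38 LD3_c25)) :=
  Lgr Lrot0 (Lpr_at (K43.f577742 IH) (Lpn (LP (LK LD1_c5 LD2_c38 LD3_c25))))
theorem f592722 : Led Lsl_dt (LP (LK LD1_c4 LD2_c34 LD3_c60)) = (LP (LK LD1_c5 LD2_c38 LD3_c7)) :=
  Lgr Lrot120 (Lpe (f539947 IH) (Lpe (f539948 IH) (Lpr_cf (f592714 IH) (Lpe (f577775 IH) (Lpr_cf (f563716 IH) (Lpr_df (K40.f558871 IH) (Lpe (f577776 IH) (Lpe (f577744 IH) (Lpe (K43.f380357 IH) (Lpn (LP (LK LD1_c5 LD2_c38 LD3_c7))))))))))))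
theorem f592752 : Led Lsl_gf (LP (LK LD1_c9 LD2_c6 LD3_c48)) = (LP (LK LD1_c6 LD2_c4 LD3_c2)) :=
  Lgr Lrot104 (Lpe (f592701 IH) (Lpr_df (K40.f558871 IH) (Lpe (K43.f577771 IH) (Lpe (K43.f380413 IH) (Lpr_cf (K36.f380440 IH) (Lpe (K41.f380372 IH) (Lpe (f592722 IH) (Lpr_gt (f592746 IH) (Lpr_ct (f422800 IH) (Lpn (LP (LK LD1_c6 LD2_c4 LD3_c2))))))))))))
theorem f72005 : Led Lsl_gt (LP (LK LD1_c5 LD2_c55 LD3_c60)) = (LP (LK LD1_c11 LD2_c37 LD3_c6)) :=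
  Lre_g IH (LK LD1_c5 LD2_c55 LD3_c60) (LK LD1_c11 LD2_c37 LD3_c6) Lrfl Lrfl
theorem f592756 : Led Lsl_ct (LP (LK LD1_c9 LD2_c6 LD3_c42)) = (LP (LK LD1_c11 LD2_c37 LD3_c6)) :=
  Lgr Lrot10 (Lpr_bt (f494382 IH) (Lpr_gt (f592746 IH) (Lpr_ct (f422800 IH) (Lpe (f592752 IH) (Lpr_cf (f563716 IH) (Lpr_bt (f558873 IH) (Lpr_gt (K39.f202623 IH) (Lpe (K43.f71981 IH) (Lpr_ct (K41.f72004 IH) (Lpr_gt (f72005 IH) (Lpn (LP (LK LD1_c11 LD2_c37 LD3_c6)))))))))))))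
theorem f72067 : Led Lsl_dt (LP (LK LD1_c11 LD2_c37 LD3_c6)) = (LP (LK LD1_c20 LD2_c35 LD3_c35)) :=
  Lre_d IH (LK LD1_c11 LD2_c37 LD3_c6) (LK LD1_c20 LD2_c35 LD3_c35) Lrfl Lrfl
theorem f72001 : Led Lsl_dt (LP (LK LD1_c11 LD2_c37 LD3_c9)) = (LP (LK LD1_c5 LD2_c55 LD3_c60)) :=
  Lre_d IH (LK LD1_c11 LD2_c37 LD3_c9) (LK LD1_c5 LD2_c55 LD3_c60) Lrfl Lrfl
theorem f82061 : Led Lsl_dt (LP (LK LD1_c2 LD2_c54 LD3_c33)) = (LP (LK LD1_c5 LD2_c56 LD3_c28)) :=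
  Lre_d IH (LK LD1_c2 LD2_c54 LD3_c33) (LK LD1_c5 LD2_c56 LD3_c28) Lrfl Lrfl
theorem f272708 : Led Lsl_ct (LP (LK LD1_c11 LD2_c36 LD3_c53)) = (LP (LK LD1_c20 LD2_c35 LD3_c10)) :=
  Lre_c IH (LK LD1_c11 LD2_c36 LD3_c53) (LK LD1_c20 LD2_c35 LD3_c10) Lrfl Lrfl
theorem f557734 : Led Lsl_gt (LP (LK LD1_c20 LD2_c35 LD3_c10)) = (LP (LK LD1_c16 LD2_c29 LD3_c55)) :=
  Lgr Lrot150 (Lpe (f272708 IH) (Lpe (K43.f82081 IH) (Lpe (f82061 IH) (Lpr_gt (K39.f82067 IH) (Lpr_ct (K40.f210974 IH) (Lpr_gt (K40.f557730 IH) (Lpe (K44.f425921 IH) (Lpe (K44.f424977 IH) (Lpe (K44.f424923 IH) (Lpn (LP (LK LD1_c16 LD2_c29 LD3_c55))))))))))))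
theorem f563446 : Led Lsl_gt (LP (LK LD1_c16 LD2_c31 LD3_c14)) = (LP (LK LD1_c20 LD2_c35 LD3_c10)) :=
  Lgr Lrot5 (Lpr_ft (K41.f563436 IH) (Lpe (K44.f563315 IH) (Lpe (f557734 IH) (Lpn (LP (LK LD1_c20 LD2_c35 LD3_c10))))))
theorem f540537 : Led Lsl_dt (LP (LK LD1_c20 LD2_c35 LD3_c10)) = (LP (LK LD1_c29 LD2_c31 LD3_c13)) :=
  Lre_d IH (LK LD1_c20 LD2_c35 LD3_c10) (LK LD1_c29 LD2_c31 LD3_c13) Lrfl Lrfl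
theorem f581662 : Led Lsl_ct (LP (LK LD1_c20 LD2_c35 LD3_c35)) = (LP (LK LD1_c29 LD2_c31 LD3_c13)) :=
  Lgr Lrot7 (Lpe (f72067 IH) (Lpe (f72005 IH) (Lpe (f72001 IH) (Lpe (K44.f72002 IH) (Lpr_cf (K44.f581652 IH) (Lpe (K44.f581303 IH) (Lpr_dt (K44.f557729 IH) (Lpr_gt (f563446 IH) (Lpr_dt (f540537 IH) (Lpn (LP (LK LD1_c29 LD2_c31 LD3_c13))))))))))))
theorem f540538 : Led Lsl_dt (LP (LK LD1_c29 LD2_c31 LD3_c13)) = (LP (LK LD1_c20 LD2_c35 LD3_c10)) :=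
  Lre_d IH (LK LD1_c29 LD2_c31 LD3_c13) (LK LD1_c20 LD2_c35 LD3_c10) Lrfl Lrfl
theorem f540541 : Led Lsl_ct (LP (LK LD1_c20 LD2_c35 LD3_c10)) = (LP (LK LD1_c11 LD2_c36 LD3_c53)) :=
  Lre_c IH (LK LD1_c20 LD2_c35 LD3_c10) (LK LD1_c11 LD2_c36 LD3_c53) Lrfl Lrfl
theorem f592765 : Led Lsl_df (LP (LK LD1_c9 LD2_c6 LD3_c42)) = (LP (LK LD1_c11 LD2_c7 LD3_c29)) :=
  Lgr Lrot157 (Lpr_ct (f592756 IH) (Lpr_dt (f72067 IH) (Lpr_ct (f581662 IH) (Lpr_dt (f540538 IH) (Lpr_ct (f540541 IH) (Lpe (K43.f572967 IH) (Lpe (K43.f578857 IH) (Lpe (K43.f578832 IH) (Lpr_ff (K43.f578830 IH) (Lpn (LP (LK LD1_c11 LD2_c7 LD3_c29))))))))))))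
theorem f570336 : Led Lsl_ef (LP (LK LD1_c5 LD2_c38 LD3_c24)) = (LP (LK LD1_c11 LD2_c7 LD3_c29)) :=
  Lgr Lrot29 (Lpr_bt (K43.f422736 IH) (Lpr_et (K42.f570334 IH) (Lpr_bt (K43.f380369 IH) (Lpn (LP (LK LD1_c11 LD2_c7 LD3_c29))))))
theorem f592771 : Led Lsl_gf (LP (LK LD1_c9 LD2_c6 LD3_c42)) = (LP (LK LD1_c15 LD2_c4 LD3_c45)) :=
  Lgr Lrot134 (Lpr_df (f592765 IH) (Lpe (f570336 IH) (Lpe (K42.f572651 IH) (Lpe (K42.f557741 IH) (Lpe (K42.f557738 IH) (Lpr_gt (K39.f424213 IH) (Lpe (K39.f424130 IH) (Lpr_et (K42.f557332 IH) (Lpr_gt (K40.f557730 IH) (Lpr_dt (K44.f160926 IH) (Lpn (LP (LK LD1_c15 LD2_c4 LD3_c45)))))))))))))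
theorem f581666 : Led Lsl_cf (LP (LK LD1_c20 LD2_c35 LD3_c35)) = (LP (LK LD1_c29 LD2_c31 LD3_c13)) :=
  Lgr Lrot11 (Lpr_ct (f581662 IH) (Lpn (LP (LK LD1_c29 LD2_c31 LD3_c13))))
theorem f563230 : Led Lsl_dt (LP (LK LD1_c20 LD2_c36 LD3_c49)) = (LP (LK LD1_c29 LD2_c32 LD3_c7)) :=
  Lre_d IH (LK LD1_c20 LD2_c36 LD3_c49) (LK LD1_c29 LD2_c32 LD3_c7) Lrfl Lrfl
theorem f563231 : Led Lsl_gf (LP (LK LD1_c29 LD2_c31 LD3_c13)) = (LP (LK LD1_c29 LD2_c32 LD3_c7)) :=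
  Lgr Lrot143 (Lpr_dt (f540538 IH) (Lpe (f272708 IH) (Lpe (K43.f547550 IH) (Lpe (K43.f173307 IH) (Lpe (K42.f173302 IH) (Lpe (K40.f559837 IH) (Lpe (K40.f559841 IH) (Lpr_gt (K40.f563228 IH) (Lpr_dt (f563230 IH) (Lpn (LP (LK LD1_c29 LD2_c32 LD3_c7))))))))))))
theorem f562894 : Led Lsl_dt (LP (LK LD1_c11 LD2_c39 LD3_c29)) = (LP (LK LD1_c5 LD2_c57 LD3_c3)) :=
  Lre_d IH (LK LD1_c11 LD2_c39 LD3_c29) (LK LD1_c5 LD2_c57 LD3_c3) Lrfl Lrfl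
theorem f562895 : Led Lsl_gt (LP (LK LD1_c20 LD2_c39 LD3_c12)) = (LP (LK LD1_c11 LD2_c39 LD3_c29)) :=
  Lre_g IH (LK LD1_c20 LD2_c39 LD3_c12) (LK LD1_c11 LD2_c39 LD3_c29) Lrfl Lrfl
theorem f581347 : Led Lsl_cf (LP (LK LD1_c29 LD2_c32 LD3_c7)) = (LP (LK LD1_c20 LD2_c39 LD3_c12)) :=
  Lgr Lrot166 (Lpe (f563231 IH) (Lpr_dt (f540538 IH) (Lpr_gt (f557734 IH) (Lpr_dt (K44.f425925 IH) (Lpr_ct (K44.f581343 IH) (Lpe (K44.f562877 IH) (Lpe (K44.f452837 IH) (Lpe (f562894 IH) (Lpe (f562895 IH) (Lpn (LP (LK LD1_c20 LD2_c39 LD3_c12))))))))))))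
theorem f581810 : Led Lsl_cf (LP (LK LD1_c15 LD2_c4 LD3_c45)) = (LP (LK LD1_c11 LD2_c39 LD3_c27)) :=
  Lgr Lrot99 (Lpe (K44.f160926 IH) (Lpe (K40.f161264 IH) (Lpe (K42.f569389 IH) (Lpe (K39.f418492 IH) (Lpr_gf (K37.f500541 IH) (Lpqs (K40.f545834 IH) (Lpe (K44.f509340 IH) (Lpe (K43.f562926 IH) (Lpr_ct (K44.f452833 IH) (Lpr_gt (K44.f581808 IH) (Lpn (LP (LK LD1_c11 LD2_c39 LD3_c27)))))))))))))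
theorem f558518 : Led Lsl_dt (LP (LK LD1_c11 LD2_c39 LD3_c33)) = (LP (LK LD1_c5 LD2_c57 LD3_c7)) :=
  Lre_d IH (LK LD1_c11 LD2_c39 LD3_c33) (LK LD1_c5 LD2_c57 LD3_c7) Lrfl Lrfl
theorem f592779 : Led Lsl_gf (LP (LK LD1_c20 LD2_c39 LD3_c12)) = (LP (LK LD1_c11 LD2_c39 LD3_c33)) :=
  Lgr Lrot147 (Lpe (f581347 IH) (Lpe (f563231 IH) (Lpe (f581666 IH) (Lpe (f72067 IH) (Lpe (f592756 IH) (Lpr_gf (f592771 IH) (Lpr_cf (f581810 IH) (Lpe (K44.f581808 IH) (Lpe (f558518 IH) (Lpn (LP (LK LD1_c11 LD2_c39 LD3_c33))))))))))))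
theorem f99764 : Led Lsl_gt (LP (LK LD1_c8 LD2_c44 LD3_c51)) = (LP (LK LD1_c16 LD2_c22 LD3_c21)) :=
  Lre_g IH (LK LD1_c8 LD2_c44 LD3_c51) (LK LD1_c16 LD2_c22 LD3_c21) Lrfl Lrfl
theorem f99682 : Led Lsl_dt (LP (LK LD1_c4 LD2_c36 LD3_c37)) = (LP (LK LD1_c2 LD2_c15 LD3_c30)) :=
  Lre_d IH (LK LD1_c4 LD2_c36 LD3_c37) (LK LD1_c2 LD2_c15 LD3_c30) Lrfl Lrfl
theorem f99754 : Led Lsl_et (LP (LK LD1_c11 LD2_c23 LD3_c10)) = (LP (LK LD1_c5 LD2_c46 LD3_c28)) :=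
  Lre_e IH (LK LD1_c11 LD2_c23 LD3_c10) (LK LD1_c5 LD2_c46 LD3_c28) Lrfl Lrfl
theorem f99757 : Led Lsl_dt (LP (LK LD1_c11 LD2_c23 LD3_c10)) = (LP (LK LD1_c16 LD2_c22 LD3_c21)) :=
  Lgr Lrot136 (Lpr_et (f99754 IH) (Lpe (f99750 IH) (Lpe (K39.f60282 IH) (Lpr_dt (K5.f60263 IH) (Lpr_gf (K5.f99659 IH) (Lpe (K5.f99658 IH) (Lpe (K5.f99601 IH) (Lpe (K40.f99755 IH) (Lpr_dt (K41.f99756 IH) (Lpe (K40.f99685 IH) (Lpn (LP (LK LD1_c16 LD2_c22 LD3_c21)))))))))))))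
theorem f574709 : Led Lsl_gt (LP (LK LD1_c11 LD2_c39 LD3_c31)) = (LP (LK LD1_c11 LD2_c23 LD3_c10)) :=
  Lgr Lrot94 (Lpe (K43.f452854 IH) (Lpr_gt (K43.f574702 IH) (Lpr_dt (K38.f99676 IH) (Lpr_gt (K38.f99675 IH) (Lpr_dt (f99682 IH) (Lpe (K41.f99683 IH) (Lpe (K40.f99684 IH) (Lpe (K40.f99685 IH) (Lpe (f99757 IH) (Lpn (LP (LK LD1_c11 LD2_c23 LD3_c10))))))))))))
theorem f578841 : Led Lsl_ct (LP (LK LD1_c11 LD2_c23 LD3_c10)) = (LP (LK LD1_c12 LD2_c10 LD3_c58)) :=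
  Lgr Lrot152 (Lpe (f574709 IH) (Lpr_df (K43.f569393 IH) (Lpe (K43.f570738 IH) (Lpr_ct (K41.f101365 IH) (Lpr_gt (f563446 IH) (Lpr_ct (f540541 IH) (Lpe (K43.f547550 IH) (Lpe (K43.f578839 IH) (Lpr_gf (K43.f578837 IH) (Lpn (LP (LK LD1_c12 LD2_c10 LD3_c58))))))))))))
theorem f578843 : Led Lsl_df (LP (LK LD1_c16 LD2_c29 LD3_c53)) = (LP (LK LD1_c11 LD2_c39 LD3_c31)) :=
  Lgr Lrot155 (Lpe (K43.f570738 IH) (Lpr_ct (K41.f101365 IH) (Lpr_gt (f563446 IH) (Lpr_ct (f540541 IH) (Lpe (K43.f572967 IH) (Lpe (K43.f578839 IH) (Lpr_gf (K43.f578837 IH) (Lpe (f578841 IH) (Lpe (f574709 IH) (Lpn (LP (LK LD1_c11 LD2_c39 LD3_c31))))))))))))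
theorem f572602 : Led Lsl_ff (LP (LK LD1_c6 LD2_c15 LD3_c0)) = (LP (LK LD1_c11 LD2_c39 LD3_c31)) :=
  Lgr Lrot23 (Lpr_ct (K40.f418038 IH) (Lpr_ft (K42.f572596 IH) (Lpr_ct (K43.f452854 IH) (Lpn (LP (LK LD1_c11 LD2_c39 LD3_c31))))))
theorem f449043 : Led Lsl_af (LP (LK LD1_c2 LD2_c17 LD3_c55)) = (LP (LK LD1_c1 LD2_c28 LD3_c13)) :=
  Lgr Lrot68 (Lpr_ct (K38.f25951 IH) (Lpr_at (K36.f449039 IH) (Lpe (K12.f227743 IH) (Lpn (LP (LK LD1_c1 LD2_c28 LD3_c13))))))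
theorem f418049 : Led Lsl_bt (LP (LK LD1_c3 LD2_c4 LD3_c26)) = (LP (LK LD1_c1 LD2_c28 LD3_c13)) :=
  Lre_b IH (LK LD1_c3 LD2_c4 LD3_c26) (LK LD1_c1 LD2_c28 LD3_c13) Lrfl Lrfl
theorem f547098 : Led Lsl_bt (LP (LK LD1_c3 LD2_c4 LD3_c16)) = (LP (LK LD1_c6 LD2_c14 LD3_c46)) :=
  Lre_b IH (LK LD1_c3 LD2_c4 LD3_c16) (LK LD1_c6 LD2_c14 LD3_c46) Lrfl Lrfl
theorem f547099 : Led Lsl_af (LP (LK LD1_c3 LD2_c4 LD3_c26)) = (LP (LK LD1_c6 LD2_c14 LD3_c46)) :=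
  Lgr Lrot36 (Lpr_bt (f418049 IH) (Lpe (f449043 IH) (Lpr_bt (K42.f176677 IH) (Lpr_at (K38.f547094 IH) (Lpr_bt (f547098 IH) (Lpn (LP (LK LD1_c6 LD2_c14 LD3_c46))))))))
theorem f562656 : Led Lsl_at (LP (LK LD1_c6 LD2_c15 LD3_c0)) = (LP (LK LD1_c11 LD2_c39 LD3_c34)) :=
  Lgr Lrot80 (Lpe (K40.f418043 IH) (Lpr_af (f547099 IH) (Lpr_ef (K40.f562654 IH) (Lpn (LP (LK LD1_c11 LD2_c39 LD3_c34))))))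
theorem f452834 : Led Lsl_ct (LP (LK LD1_c5 LD2_c57 LD3_c7)) = (LP (LK LD1_c2 LD2_c54 LD3_c50)) :=
  Lre_c IH (LK LD1_c5 LD2_c57 LD3_c7) (LK LD1_c2 LD2_c54 LD3_c50) Lrfl Lrfl
theorem f442579 : Led Lsl_dt (LP (LK LD1_c11 LD2_c38 LD3_c13)) = (LP (LK LD1_c20 LD2_c37 LD3_c15)) :=
  Lre_d IH (LK LD1_c11 LD2_c38 LD3_c13) (LK LD1_c20 LD2_c37 LD3_c15) Lrfl Lrfl
theorem f578894 : Led Lsl_cf (LP (LK LD1_c11 LD2_c39 LD3_c33)) = (LP (LK LD1_c20 LD2_c37 LD3_c15)) :=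
  Lgr Lrot116 (Lpr_dt (f558518 IH) (Lpr_ct (f452834 IH) (Lpr_dt (K40.f558523 IH) (Lpr_ct (K40.f562639 IH) (Lpe (f562656 IH) (Lpr_ff (f572602 IH) (Lpe (f578843 IH) (Lpr_ct (K43.f578885 IH) (Lpr_dt (f442579 IH) (Lpn (LP (LK LD1_c20 LD2_c37 LD3_c15))))))))))))
theorem f578901 : Led Lsl_gt (LP (LK LD1_c29 LD2_c32 LD3_c29)) = (LP (LK LD1_c20 LD2_c37 LD3_c15)) :=
  Lre_g IH (LK LD1_c29 LD2_c32 LD3_c29) (LK LD1_c20 LD2_c37 LD3_c15) Lrfl Lrfl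
theorem f592783 : Led Lsl_df (LP (LK LD1_c21 LD2_c2 LD3_c53)) = (LP (LK LD1_c29 LD2_c32 LD3_c29)) :=
  Lgr Lrot155 (Lpr_gt (K42.f559868 IH) (Lpr_ct (K44.f99769 IH) (Lpr_gt (f99764 IH) (Lpr_ct (K42.f563358 IH) (Lpr_dt (f563230 IH) (Lpr_cf (f581347 IH) (Lpr_gf (f592779 IH) (Lpr_cf (f578894 IH) (Lpe (f578901 IH) (Lpn (LP (LK LD1_c29 LD2_c32 LD3_c29))))))))))))
theorem f72364 : Led Lsl_ct (LP (LK LD1_c17 LD2_c2 LD3_c32)) = (LP (LK LD1_c9 LD2_c9 LD3_c34)) :=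
  Lre_c IH (LK LD1_c17 LD2_c2 LD3_c32) (LK LD1_c9 LD2_c9 LD3_c34) Lrfl Lrfl
theorem f545909 : Led Lsl_ct (LP (LK LD1_c8 LD2_c50 LD3_c23)) = (LP (LK LD1_c16 LD2_c31 LD3_c19)) :=
  Lre_c IH (LK LD1_c8 LD2_c50 LD3_c23) (LK LD1_c16 LD2_c31 LD3_c19) Lrfl Lrfl
theorem f569396 : Led Lsl_gt (LP (LK LD1_c16 LD2_c31 LD3_c19)) = (LP (LK LD1_c17 LD2_c2 LD3_c32)) :=
  Lgr Lrot150 (Lpe (f545909 IH) (Lpr_gf (K41.f545907 IH) (Lpe (K37.f500546 IH) (Lpr_gt (K42.f569389 IH) (Lpr_ct (K40.f161264 IH) (Lpe (K40.f557727 IH) (Lpr_ct (K2.f72277 IH) (Lpe (K39.f72283 IH) (Lpe (f72364 IH) (Lpn (LP (LK LD1_c17 LD2_c2 LD3_c32))))))))))))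
theorem f545910 : Led Lsl_dt (LP (LK LD1_c16 LD2_c31 LD3_c19)) = (LP (LK LD1_c26 LD2_c27 LD3_c54)) :=
  Lre_d IH (LK LD1_c16 LD2_c31 LD3_c19) (LK LD1_c26 LD2_c27 LD3_c54) Lrfl Lrfl
theorem f581352 : Led Lsl_gf (LP (LK LD1_c20 LD2_c37 LD3_c10)) = (LP (LK LD1_c26 LD2_c27 LD3_c54)) :=
  Lgr Lrot143 (Lpr_dt (K43.f563265 IH) (Lpe (K41.f563266 IH) (Lpr_df (K41.f563593 IH) (Lpe (K41.f563589 IH) (Lpe (K43.f553254 IH) (Lpr_gf (K39.f553476 IH) (Lpe (K40.f553473 IH) (Lpr_gt (K44.f581349 IH) (Lpr_dt (f545910 IH) (Lpn (LP (LK LD1_c26 LD2_c27 LD3_c54))))))))))))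
theorem f563360 : Led Lsl_ct (LP (LK LD1_c20 LD2_c37 LD3_c10)) = (LP (LK LD1_c11 LD2_c39 LD3_c37)) :=
  Lgr Lrot7 (Lpe (K43.f563269 IH) (Lpe (K40.f563347 IH) (Lpr_df (K40.f563352 IH) (Lpe (K40.f563249 IH) (Lpr_cf (K40.f563206 IH) (Lpr_gt (K40.f24473 IH) (Lpr_dt (K40.f24472 IH) (Lpr_gt (K43.f452846 IH) (Lpr_dt (K43.f563248 IH) (Lpn (LP (LK LD1_c11 LD2_c39 LD3_c37))))))))))))
theorem f563369 : Led Lsl_gt (LP (LK LD1_c11 LD2_c39 LD3_c37)) = (LP (LK LD1_c20 LD2_c39 LD3_c25)) :=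
  Lre_g IH (LK LD1_c11 LD2_c39 LD3_c37) (LK LD1_c20 LD2_c39 LD3_c25) Lrfl Lrfl
theorem f592792 : Led Lsl_ct (LP (LK LD1_c20 LD2_c39 LD3_c25)) = (LP (LK LD1_c29 LD2_c32 LD3_c29)) :=
  Lgr Lrot110 (Lpe (f563369 IH) (Lpe (f563360 IH) (Lpr_gf (f581352 IH) (Lpe (f545910 IH) (Lpr_gt (f569396 IH) (Lpr_ct (f72364 IH) (Lpe (K44.f559942 IH) (Lpr_ct (K40.f193838 IH) (Lpr_df (f592783 IH) (Lpn (LP (LK LD1_c29 LD2_c32 LD3_c29))))))))))))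
theorem f578900 : Led Lsl_dt (LP (LK LD1_c20 LD2_c37 LD3_c15)) = (LP (LK LD1_c11 LD2_c38 LD3_c13)) :=
  Lre_d IH (LK LD1_c20 LD2_c37 LD3_c15) (LK LD1_c11 LD2_c38 LD3_c13) Lrfl Lrfl
theorem f500606 : Led Lsl_gt (LP (LK LD1_c5 LD2_c57 LD3_c10)) = (LP (LK LD1_c2 LD2_c54 LD3_c51)) :=
  Lre_g IH (LK LD1_c5 LD2_c57 LD3_c10) (LK LD1_c2 LD2_c54 LD3_c51) Lrfl Lrfl
theorem f592800 : Led Lsl_dt (LP (LK LD1_c11 LD2_c39 LD3_c40)) = (LP (LK LD1_c5 LD2_c57 LD3_c10)) :=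
  Lre_d IH (LK LD1_c11 LD2_c39 LD3_c40) (LK LD1_c5 LD2_c57 LD3_c10) Lrfl Lrfl
theorem f592801 : Led Lsl_gt (LP (LK LD1_c20 LD2_c39 LD3_c25)) = (LP (LK LD1_c11 LD2_c39 LD3_c40)) :=
  Lgr Lrot180 (Lpr_ct (f592792 IH) (Lpr_gt (f578901 IH) (Lpr_dt (f578900 IH) (Lpe (K43.f578898 IH) (Lpe (K41.f562782 IH) (Lpr_ct (K40.f562802 IH) (Lpe (K40.f500554 IH) (Lpe (f500606 IH) (Lpe (f592800 IH) (Lpn (LP (LK LD1_c11 LD2_c39 LD3_c40))))))))))))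
theorem f175942 : Led Lsl_et (LP (LK LD1_c1 LD2_c25 LD3_c45)) = (LP (LK LD1_c1 LD2_c56 LD3_c12)) :=
  Lgr Lrot74 (Lpe (K30.f175941 IH) (Lpr_ef (K9.f175928 IH) (Lpe (K18.f169330 IH) (Lpn (LP (LK LD1_c1 LD2_c56 LD3_c12))))))
theorem f296976 : Led Lsl_ff (LP (LK LD1_c1 LD2_c25 LD3_c45)) = (LP (LK LD1_c2 LD2_c0 LD3_c10)) :=
  Lgr Lrot25 (Lpr_bt (K18.f56001 IH) (Lpr_ft (K18.f296974 IH) (Lpr_bt (K42.f179886 IH) (Lpn (LP (LK LD1_c2 LD2_c0 LD3_c10))))))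
theorem f385256 : Led Lsl_ff (LP (LK LD1_c4 LD2_c5 LD3_c45)) = (LP (LK LD1_c2 LD2_c26 LD3_c11)) :=
  Lgr Lrot72 (Lpr_et (K40.f182442 IH) (Lpe (f296976 IH) (Lpr_et (f175942 IH) (Lpr_ft (K30.f385250 IH) (Lpr_et (K30.f172595 IH) (Lpn (LP (LK LD1_c2 LD2_c26 LD3_c11))))))))
theorem f569202 : Led Lsl_at (LP (LK LD1_c4 LD2_c5 LD3_c45)) = (LP (LK LD1_c6 LD2_c16 LD3_c9)) :=
  Lgr Lrot66 (Lpr_ff (f385256 IH) (Lpe (K42.f385339 IH) (Lpr_ff (K42.f569200 IH) (Lpn (LP (LK LD1_c6 LD2_c16 LD3_c9))))))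
theorem f287491 : Led Lsl_at (LP (LK LD1_c1 LD2_c25 LD3_c49)) = (LP (LK LD1_c2 LD2_c0 LD3_c12)) :=
  Lgr Lrot107 (Lpr_cf (K11.f193820 IH) (Lpr_af (K17.f287485 IH) (Lpe (K16.f179895 IH) (Lpn (LP (LK LD1_c2 LD2_c0 LD3_c12))))))
theorem f571363 : Led Lsl_af (LP (LK LD1_c3 LD2_c0 LD3_c2)) = (LP (LK LD1_c5 LD2_c5 LD3_c59)) :=
  Lgr Lrot36 (Lpr_bt (K41.f193398 IH) (Lpr_at (f287491 IH) (Lpr_bt (K43.f179954 IH) (Lpr_at (f569202 IH) (Lpr_bt (K42.f571361 IH) (Lpn (LP (LK LD1_c5 LD2_c5 LD3_c59))))))))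
theorem f563581 : Led Lsl_ft (LP (LK LD1_c5 LD2_c46 LD3_c49)) = (LP (LK LD1_c5 LD2_c5 LD3_c59)) :=
  Lgr Lrot4 (Lpe (K43.f553480 IH) (Lpr_ff (K41.f563577 IH) (Lpe (K41.f545125 IH) (Lpn (LP (LK LD1_c5 LD2_c5 LD3_c59))))))
theorem f99678 : Led Lsl_ct (LP (LK LD1_c9 LD2_c4 LD3_c23)) = (LP (LK LD1_c16 LD2_c55 LD3_c57)) :=
  Lre_c IH (LK LD1_c9 LD2_c4 LD3_c23) (LK LD1_c16 LD2_c55 LD3_c57) Lrfl Lrfl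
theorem f592798 : Led Lsl_df (LP (LK LD1_c20 LD2_c39 LD3_c25)) = (LP (LK LD1_c16 LD2_c55 LD3_c57)) :=
  Lgr Lrot106 (Lpr_ct (f592792 IH) (Lpe (f592783 IH) (Lpr_ct (K42.f193889 IH) (Lpr_dt (K38.f193831 IH) (Lpr_ct (K30.f193399 IH) (Lpr_af (f571363 IH) (Lpe (f563581 IH) (Lpr_dt (K38.f99676 IH) (Lpr_ct (f99678 IH) (Lpn (LP (LK LD1_c16 LD2_c55 LD3_c57))))))))))))
theorem f580565 : Led Lsl_dt (LP (LK LD1_c16 LD2_c57 LD3_c56)) = (LP (LK LD1_c11 LD2_c7 LD3_c2)) :=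
  Lgr Lrot42 (Lpr_df (K44.f580561 IH) (Lpn (LP (LK LD1_c11 LD2_c7 LD3_c2))))
theorem f592808 : Led Lsl_cf (LP (LK LD1_c11 LD2_c8 LD3_c2)) = (LP (LK LD1_c5 LD2_c57 LD3_c10)) :=
  Lgr Lrot14 (Lpe (K44.f563592 IH) (Lpr_gf (K43.f572975 IH) (Lpe (f580565 IH) (Lpr_gf (K44.f580571 IH) (Lpr_ct (K44.f581623 IH) (Lpe (K44.f581632 IH) (Lpe (f592798 IH) (Lpr_gt (f592801 IH) (Lpr_dt (f592800 IH) (Lpn (LP (LK LD1_c5 LD2_c57 LD3_c10))))))))))))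
theorem f592822 : Led Lsl_gt (LP (LK LD1_c9 LD2_c12 LD3_c38)) = (LP (LK LD1_c5 LD2_c57 LD3_c10)) :=
  Lgr Lrot150 (Lpe (K40.f176785 IH) (Lpe (K44.f562875 IH) (Lpe (K42.f500574 IH) (Lpr_gt (K43.f574702 IH) (Lpr_ct (K43.f547723 IH) (Lpr_gt (K41.f563589 IH) (Lpr_ct (K43.f421020 IH) (Lpe (K44.f563591 IH) (Lpr_cf (f592808 IH) (Lpn (LP (LK LD1_c5 LD2_c57 LD3_c10))))))))))))
theorem f71410 : Led Lsl_at (LP (LK LD1_c9 LD2_c8 LD3_c22)) = (LP (LK LD1_c4 LD2_c36 LD3_c28)) :=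
  Lre_a IH (LK LD1_c9 LD2_c8 LD3_c22) (LK LD1_c4 LD2_c36 LD3_c28) Lrfl Lrfl
theorem f562869 : Led Lsl_bf (LP (LK LD1_c9 LD2_c8 LD3_c22)) = (LP (LK LD1_c4 LD2_c38 LD3_c24)) :=
  Lgr Lrot81 (Lpr_at (f71410 IH) (Lpr_bt (K35.f71409 IH) (Lpr_at (K2.f71402 IH) (Lpr_bt (K40.f71411 IH) (Lpr_at (K40.f562863 IH) (Lpn (LP (LK LD1_c4 LD2_c38 LD3_c24))))))))
theorem f581628 : Led Lsl_cf (LP (LK LD1_c20 LD2_c35 LD3_c6)) = (LP (LK LD1_c21 LD2_c3 LD3_c0)) :=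
  Lgr Lrot11 (Lpr_ct (K44.f581623 IH) (Lpn (LP (LK LD1_c21 LD2_c3 LD3_c0))))
theorem f592806 : Led Lsl_ct (LP (LK LD1_c11 LD2_c8 LD3_c2)) = (LP (LK LD1_c5 LD2_c57 LD3_c10)) :=
  Lgr Lrot7 (Lpe (K44.f563592 IH) (Lpr_gf (K43.f572975 IH) (Lpe (f580565 IH) (Lpr_gf (K44.f580571 IH) (Lpr_cf (f581628 IH) (Lpe (K44.f581632 IH) (Lpe (f592798 IH) (Lpr_gt (f592801 IH) (Lpr_dt (f592800 IH) (Lpn (LP (LK LD1_c5 LD2_c57 LD3_c10))))))))))))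
theorem f592810 : Led Lsl_bt (LP (LK LD1_c11 LD2_c8 LD3_c2)) = (LP (LK LD1_c5 LD2_c38 LD3_c23)) :=
  Lre_b IH (LK LD1_c11 LD2_c8 LD3_c2) (LK LD1_c5 LD2_c38 LD3_c23) Lrfl Lrfl
theorem f592831 : Led Lsl_gf (LP (LK LD1_c4 LD2_c34 LD3_c51)) = (LP (LK LD1_c5 LD2_c38 LD3_c23)) :=
  Lgr Lrot181 (Lpr_ct (K7.f20355 IH) (Lpr_gt (K38.f500303 IH) (Lpr_cf (K38.f548634 IH) (Lpr_bt (K38.f494420 IH) (Lpr_gt (K38.f71113 IH) (Lpr_bf (f562869 IH) (Lpr_ct (K40.f176785 IH) (Lpr_gt (f592822 IH) (Lpe (f592806 IH) (Lpr_bt (f592810 IH) (Lpn (LP (LK LD1_c5 LD2_c38 LD3_c23)))))))))))))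
theorem f592844 : Led Lsl_bt (LP (LK LD1_c4 LD2_c39 LD3_c13)) = (LP (LK LD1_c2 LD2_c54 LD3_c49)) :=
  Lgr Lrot130 (Lpr_ct (K10.f176703 IH) (Lpe (K10.f185985 IH) (Lpe (K10.f176614 IH) (Lpq (K38.f537706 IH) (Lpe (K42.f500296 IH) (Lpr_gf (f592831 IH) (Lpe (f592810 IH) (Lpr_ct (f592806 IH) (Lpe (f592822 IH) (Lpe (K40.f176785 IH) (Lpe (K44.f562875 IH) (Lpn (LP (LK LD1_c2 LD2_c54 LD3_c49))))))))))))))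
theorem f592849 : Led Lsl_bf (LP (LK LD1_c4 LD2_c39 LD3_c13)) = (LP (LK LD1_c2 LD2_c54 LD3_c49)) :=
  Lgr Lrot24 (Lpr_bt (f592844 IH) (Lpn (LP (LK LD1_c2 LD2_c54 LD3_c49))))
theorem f592865 : Led Lsl_ft (LP (LK LD1_c5 LD2_c55 LD3_c59)) = (LP (LK LD1_c2 LD2_c54 LD3_c49)) :=
  Lgr Lrot75 (Lpr_bf (K40.f563056 IH) (Lpr_ff (K37.f450038 IH) (Lpr_bf (f592849 IH) (Lpn (LP (LK LD1_c2 LD2_c54 LD3_c49))))))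
theorem f592867 : Led Lsl_ff (LP (LK LD1_c11 LD2_c37 LD3_c5)) = (LP (LK LD1_c5 LD2_c57 LD3_c3)) :=
  Lgr Lrot23 (Lpr_ct (K41.f500524 IH) (Lpr_ft (f592865 IH) (Lpr_ct (K44.f452836 IH) (Lpn (LP (LK LD1_c5 LD2_c57 LD3_c3))))))
theorem f562896 : Led Lsl_gt (LP (LK LD1_c11 LD2_c39 LD3_c26)) = (LP (LK LD1_c5 LD2_c57 LD3_c7)) :=
  Lgr Lrot146 (Lpr_dt (K44.f562877 IH) (Lpe (K44.f546314 IH) (Lpe (K44.f545863 IH) (Lpe (K40.f562793 IH) (Lpr_ct (K40.f562802 IH) (Lpr_dt (K40.f24472 IH) (Lpe (K40.f452845 IH) (Lpe (K40.f82179 IH) (Lpe (f452834 IH) (Lpn (LP (LK LD1_c5 LD2_c57 LD3_c7))))))))))))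
theorem f592873 : Led Lsl_at (LP (LK LD1_c11 LD2_c37 LD3_c5)) = (LP (LK LD1_c5 LD2_c57 LD3_c7)) :=
  Lgr Lrot26 (Lpr_ff (f592867 IH) (Lpr_gt (K44.f452837 IH) (Lpr_gt (f562896 IH) (Lpn (LP (LK LD1_c5 LD2_c57 LD3_c7))))))
theorem f563492 : Led Lsl_dt (LP (LK LD1_c20 LD2_c35 LD3_c33)) = (LP (LK LD1_c11 LD2_c37 LD3_c5)) :=
  Lre_d IH (LK LD1_c20 LD2_c35 LD3_c33) (LK LD1_c11 LD2_c37 LD3_c5) Lrfl Lrfl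
theorem f562647 : Led Lsl_dt (LP (LK LD1_c5 LD2_c57 LD3_c7)) = (LP (LK LD1_c11 LD2_c39 LD3_c33)) :=
  Lre_d IH (LK LD1_c5 LD2_c57 LD3_c7) (LK LD1_c11 LD2_c39 LD3_c33) Lrfl Lrfl
theorem f592881 : Led Lsl_af (LP (LK LD1_c20 LD2_c35 LD3_c33)) = (LP (LK LD1_c11 LD2_c39 LD3_c33)) :=
  Lgr Lrot117 (Lpr_dt (f563492 IH) (Lpr_at (f592873 IH) (Lpr_dt (f562647 IH) (Lpn (LP (LK LD1_c11 LD2_c39 LD3_c33))))))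
theorem f442501 : Led Lsl_dt (LP (LK LD1_c2 LD2_c54 LD3_c19)) = (LP (LK LD1_c1 LD2_c23 LD3_c9)) :=
  Lre_d IH (LK LD1_c2 LD2_c54 LD3_c19) (LK LD1_c1 LD2_c23 LD3_c9) Lrfl Lrfl
theorem f563535 : Led Lsl_gf (LP (LK LD1_c4 LD2_c34 LD3_c17)) = (LP (LK LD1_c3 LD2_c58 LD3_c51)) :=
  Lgr Lrot144 (Lpr_dt (K41.f563496 IH) (Lpr_gt (K40.f424775 IH) (Lpr_dt (f442501 IH) (Lpe (K42.f420829 IH) (Lpe (K44.f442498 IH) (Lpe (K43.f71940 IH) (Lpe (K43.f547550 IH) (Lpe (K43.f173307 IH) (Lpe (K30.f173300 IH) (Lpn (LP (LK LD1_c3 LD2_c58 LD3_c51))))))))))))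
theorem f387418 : Led Lsl_ct (LP (LK LD1_c9 LD2_c9 LD3_c18)) = (LP (LK LD1_c4 LD2_c36 LD3_c37)) :=
  Lre_c IH (LK LD1_c9 LD2_c9 LD3_c18) (LK LD1_c4 LD2_c36 LD3_c37) Lrfl Lrfl
theorem f546077 : Led Lsl_ft (LP (LK LD1_c5 LD2_c57 LD3_c1)) = (LP (LK LD1_c9 LD2_c9 LD3_c18)) :=
  Lgr Lrot4 (Lpe (K43.f500543 IH) (Lpr_ff (K40.f546073 IH) (Lpe (f387418 IH) (Lpn (LP (LK LD1_c9 LD2_c9 LD3_c18))))))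
theorem f546326 : Led Lsl_at (LP (LK LD1_c9 LD2_c9 LD3_c18)) = (LP (LK LD1_c4 LD2_c38 LD3_c27)) :=
  Lre_a IH (LK LD1_c9 LD2_c9 LD3_c18) (LK LD1_c4 LD2_c38 LD3_c27) Lrfl Lrfl
theorem f546327 : Led Lsl_gt (LP (LK LD1_c5 LD2_c57 LD3_c1)) = (LP (LK LD1_c9 LD2_c12 LD3_c44)) :=
  Lgr Lrot5 (Lpr_ft (f546077 IH) (Lpr_at (f546326 IH) (Lpe (K44.f176069 IH) (Lpn (LP (LK LD1_c9 LD2_c12 LD3_c44))))))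
theorem f541596 : Led Lsl_dt (LP (LK LD1_c9 LD2_c12 LD3_c44)) = (LP (LK LD1_c17 LD2_c7 LD3_c9)) :=
  Lre_d IH (LK LD1_c9 LD2_c12 LD3_c44) (LK LD1_c17 LD2_c7 LD3_c9) Lrfl Lrfl
theorem f563537 : Led Lsl_gt (LP (LK LD1_c17 LD2_c7 LD3_c9)) = (LP (LK LD1_c20 LD2_c35 LD3_c33)) :=
  Lgr Lrot49 (Lpe (f541596 IH) (Lpe (f546327 IH) (Lpe (K43.f500543 IH) (Lpr_gt (K40.f546084 IH) (Lpr_dt (K40.f541569 IH) (Lpe (f563535 IH) (Lpr_dt (K41.f563496 IH) (Lpe (K41.f500524 IH) (Lpe (f563492 IH) (Lpn (LP (LK LD1_c20 LD2_c35 LD3_c33))))))))))))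
theorem f581395 : Led Lsl_dt (LP (LK LD1_c11 LD2_c39 LD3_c36)) = (LP (LK LD1_c15 LD2_c26 LD3_c31)) :=
  Lgr Lrot79 (Lpe (K44.f563499 IH) (Lpe (K44.f580541 IH) (Lpr_bf (K44.f581376 IH) (Lpn (LP (LK LD1_c15 LD2_c26 LD3_c31))))))
theorem f541595 : Led Lsl_dt (LP (LK LD1_c17 LD2_c7 LD3_c9)) = (LP (LK LD1_c9 LD2_c12 LD3_c44)) :=
  Lre_d IH (LK LD1_c17 LD2_c7 LD3_c9) (LK LD1_c9 LD2_c12 LD3_c44) Lrfl Lrfl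
theorem f581597 : Led Lsl_gf (LP (LK LD1_c17 LD2_c7 LD3_c9)) = (LP (LK LD1_c20 LD2_c35 LD3_c32)) :=
  Lgr Lrot143 (Lpr_dt (f541595 IH) (Lpe (K44.f580575 IH) (Lpr_df (K44.f580561 IH) (Lpe (K44.f579564 IH) (Lpe (f581395 IH) (Lpr_gf (K44.f581595 IH) (Lpe (K40.f425927 IH) (Lpe (K44.f579574 IH) (Lpr_dt (K42.f563962 IH) (Lpn (LP (LK LD1_c20 LD2_c35 LD3_c32))))))))))))
theorem f592890 : Led Lsl_ft (LP (LK LD1_c20 LD2_c35 LD3_c32)) = (LP (LK LD1_c11 LD2_c39 LD3_c33)) :=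
  Lgr Lrot2 (Lpe (f581597 IH) (Lpr_gt (f563537 IH) (Lpr_af (f592881 IH) (Lpn (LP (LK LD1_c11 LD2_c39 LD3_c33))))))
theorem f592902 : Led Lsl_ff (LP (LK LD1_c20 LD2_c35 LD3_c32)) = (LP (LK LD1_c11 LD2_c39 LD3_c33)) :=
  Lgr Lrot3 (Lpr_ft (f592890 IH) (Lpn (LP (LK LD1_c11 LD2_c39 LD3_c33))))
theorem f592912 : Led Lsl_at (LP (LK LD1_c20 LD2_c35 LD3_c32)) = (LP (LK LD1_c11 LD2_c39 LD3_c29)) :=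
  Lgr Lrot26 (Lpr_ff (f592902 IH) (Lpe (f592779 IH) (Lpr_gt (f562895 IH) (Lpn (LP (LK LD1_c11 LD2_c39 LD3_c29))))))
theorem f592883 : Led Lsl_at (LP (LK LD1_c20 LD2_c35 LD3_c33)) = (LP (LK LD1_c11 LD2_c39 LD3_c33)) :=
  Lgr Lrot100 (Lpr_af (f592881 IH) (Lpn (LP (LK LD1_c11 LD2_c39 LD3_c33))))
theorem f592918 : Led Lsl_ff (LP (LK LD1_c20 LD2_c35 LD3_c33)) = (LP (LK LD1_c11 LD2_c39 LD3_c29)) :=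
  Lgr Lrot30 (Lpr_at (f592883 IH) (Lpe (f592902 IH) (Lpr_at (f592912 IH) (Lpn (LP (LK LD1_c11 LD2_c39 LD3_c29))))))
theorem f592774 : Led Lsl_gt (LP (LK LD1_c11 LD2_c39 LD3_c29)) = (LP (LK LD1_c20 LD2_c39 LD3_c11)) :=
  Lre_g IH (LK LD1_c11 LD2_c39 LD3_c29) (LK LD1_c20 LD2_c39 LD3_c11) Lrfl Lrfl
theorem f592922 : Led Lsl_gf (LP (LK LD1_c11 LD2_c39 LD3_c33)) = (LP (LK LD1_c20 LD2_c39 LD3_c11)) :=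
  Lgr Lrot76 (Lpe (f592883 IH) (Lpr_ff (f592918 IH) (Lpr_gt (f592774 IH) (Lpn (LP (LK LD1_c20 LD2_c39 LD3_c11))))))
theorem f579012 : Led Lsl_dt (LP (LK LD1_c29 LD2_c31 LD3_c10)) = (LP (LK LD1_c20 LD2_c35 LD3_c8)) :=
  Lre_d IH (LK LD1_c29 LD2_c31 LD3_c10) (LK LD1_c20 LD2_c35 LD3_c8) Lrfl Lrfl
theorem f545202 : Led Lsl_dt (LP (LK LD1_c20 LD2_c36 LD3_c48)) = (LP (LK LD1_c29 LD2_c32 LD3_c5)) :=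
  Lre_d IH (LK LD1_c20 LD2_c36 LD3_c48) (LK LD1_c29 LD2_c32 LD3_c5) Lrfl Lrfl
theorem f579013 : Led Lsl_gf (LP (LK LD1_c29 LD2_c31 LD3_c10)) = (LP (LK LD1_c29 LD2_c32 LD3_c5)) :=
  Lgr Lrot143 (Lpr_dt (f579012 IH) (Lpe (K44.f442510 IH) (Lpr_df (K43.f578977 IH) (Lpr_gf (K41.f563575 IH) (Lpe (K40.f545126 IH) (Lpe (K38.f119837 IH) (Lpe (K40.f545186 IH) (Lpr_gt (K41.f545193 IH) (Lpr_dt (f545202 IH) (Lpn (LP (LK LD1_c29 LD2_c32 LD3_c5))))))))))))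
theorem f592928 : Led Lsl_cf (LP (LK LD1_c29 LD2_c32 LD3_c5)) = (LP (LK LD1_c20 LD2_c39 LD3_c11)) :=
  Lgr Lrot166 (Lpe (f579013 IH) (Lpr_dt (f579012 IH) (Lpe (K44.f581296 IH) (Lpr_dt (K44.f556711 IH) (Lpr_ct (K44.f581307 IH) (Lpr_df (K44.f581776 IH) (Lpe (K44.f581808 IH) (Lpe (f558518 IH) (Lpr_gf (f592922 IH) (Lpn (LP (LK LD1_c20 LD2_c39 LD3_c11))))))))))))
theorem f563282 : Led Lsl_dt (LP (LK LD1_c29 LD2_c32 LD3_c5)) = (LP (LK LD1_c20 LD2_c36 LD3_c48)) :=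
  Lre_d IH (LK LD1_c29 LD2_c32 LD3_c5) (LK LD1_c20 LD2_c36 LD3_c48) Lrfl Lrfl
theorem f578861 : Led Lsl_ct (LP (LK LD1_c10 LD2_c16 LD3_c13)) = (LP (LK LD1_c12 LD2_c11 LD3_c4)) :=
  Lgr Lrot59 (Lpr_cf (K43.f578859 IH) (Lpn (LP (LK LD1_c12 LD2_c11 LD3_c4))))
theorem f592926 : Led Lsl_dt (LP (LK LD1_c16 LD2_c55 LD3_c58)) = (LP (LK LD1_c20 LD2_c39 LD3_c11)) :=
  Lgr Lrot57 (Lpe (K40.f99693 IH) (Lpe (K38.f9406 IH) (Lpr_gt (K38.f9424 IH) (Lpe (K38.f99679 IH) (Lpe (K43.f563598 IH) (Lpr_dt (K43.f161927 IH) (Lpe (f452834 IH) (Lpe (f558518 IH) (Lpr_gf (f592922 IH) (Lpn (LP (LK LD1_c20 LD2_c39 LD3_c11))))))))))))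
theorem f99759 : Led Lsl_df (LP (LK LD1_c11 LD2_c23 LD3_c10)) = (LP (LK LD1_c16 LD2_c22 LD3_c21)) :=
  Lgr Lrot38 (Lpr_dt (f99757 IH) (Lpn (LP (LK LD1_c16 LD2_c22 LD3_c21))))
theorem f563233 : Led Lsl_dt (LP (LK LD1_c29 LD2_c32 LD3_c7)) = (LP (LK LD1_c20 LD2_c36 LD3_c49)) :=
  Lre_d IH (LK LD1_c29 LD2_c32 LD3_c7) (LK LD1_c20 LD2_c36 LD3_c49) Lrfl Lrfl
theorem f592940 : Led Lsl_dt (LP (LK LD1_c16 LD2_c55 LD3_c59)) = (LP (LK LD1_c20 LD2_c39 LD3_c12)) :=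
  Lgr Lrot173 (Lpr_cf (K38.f175598 IH) (Lpr_df (K43.f578855 IH) (Lpe (f578861 IH) (Lpr_df (K43.f574715 IH) (Lpr_cf (K43.f563285 IH) (Lpe (f563282 IH) (Lpr_cf (f592928 IH) (Lpe (f592926 IH) (Lpr_cf (K40.f539031 IH) (Lpr_df (K43.f578818 IH) (Lpe (f578841 IH) (Lpr_df (f99759 IH) (Lpr_cf (K40.f563362 IH) (Lpe (f563233 IH) (Lpr_cf (f581347 IH) (Lpn (LP (LK LD1_c20 LD2_c39 LD3_c12))))))))))))))))))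
theorem f581912 : Led Lsl_ff (LP (LK LD1_c11 LD2_c7 LD3_c2)) = (LP (LK LD1_c12 LD2_c11 LD3_c4)) :=
  Lgr Lrot25 (Lpe (K43.f552487 IH) (Lpr_ft (K44.f581910 IH) (Lpr_bt (K43.f562620 IH) (Lpn (LP (LK LD1_c12 LD2_c11 LD3_c4))))))
theorem f592947 : Led Lsl_at (LP (LK LD1_c11 LD2_c7 LD3_c2)) = (LP (LK LD1_c12 LD2_c10 LD3_c58)) :=
  Lgr Lrot33 (Lpr_ff (f581912 IH) (Lpe (K43.f578855 IH) (Lpe (K38.f175598 IH) (Lpr_dt (f592940 IH) (Lpe (f581347 IH) (Lpr_dt (f563233 IH) (Lpe (K40.f563362 IH) (Lpe (f99759 IH) (Lpr_ct (f578841 IH) (Lpn (LP (LK LD1_c12 LD2_c10 LD3_c58))))))))))))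
theorem f592967 : Led Lsl_gt (LP (LK LD1_c12 LD2_c11 LD3_c4)) = (LP (LK LD1_c11 LD2_c7 LD3_c29)) :=
  Lgr Lrot5 (Lpe (f581912 IH) (Lpr_at (f592947 IH) (Lpe (K43.f578824 IH) (Lpn (LP (LK LD1_c11 LD2_c7 LD3_c29))))))
theorem f579017 : Led Lsl_ct (LP (LK LD1_c20 LD2_c35 LD3_c8)) = (LP (LK LD1_c11 LD2_c36 LD3_c52)) :=
  Lre_c IH (LK LD1_c20 LD2_c35 LD3_c8) (LK LD1_c11 LD2_c36 LD3_c52) Lrfl Lrfl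
theorem f563421 : Led Lsl_af (LP (LK LD1_c16 LD2_c31 LD3_c14)) = (LP (LK LD1_c20 LD2_c37 LD3_c0)) :=
  Lgr Lrot0 (Lpr_at (K41.f563419 IH) (Lpn (LP (LK LD1_c20 LD2_c37 LD3_c0))))
theorem f563438 : Led Lsl_ff (LP (LK LD1_c20 LD2_c37 LD3_c0)) = (LP (LK LD1_c16 LD2_c29 LD3_c55)) :=
  Lgr Lrot30 (Lpe (f563421 IH) (Lpr_ft (K41.f563436 IH) (Lpe (K44.f563315 IH) (Lpn (LP (LK LD1_c16 LD2_c29 LD3_c55))))))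
theorem f581298 : Led Lsl_gt (LP (LK LD1_c16 LD2_c29 LD3_c55)) = (LP (LK LD1_c20 LD2_c35 LD3_c8)) :=
  Lgr Lrot5 (Lpe (f563438 IH) (Lpe (f563421 IH) (Lpr_gf (K44.f581296 IH) (Lpn (LP (LK LD1_c20 LD2_c35 LD3_c8))))))
theorem f161088 : Led Lsl_gt (LP (LK LD1_c16 LD2_c29 LD3_c54)) = (LP (LK LD1_c8 LD2_c49 LD3_c19)) :=
  Lre_g IH (LK LD1_c16 LD2_c29 LD3_c54) (LK LD1_c8 LD2_c49 LD3_c19) Lrfl Lrfl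
theorem f592973 : Led Lsl_df (LP (LK LD1_c11 LD2_c39 LD3_c34)) = (LP (LK LD1_c16 LD2_c29 LD3_c54)) :=
  Lgr Lrot155 (Lpe (K43.f578865 IH) (Lpr_ct (f578861 IH) (Lpr_gt (f592967 IH) (Lpe (K41.f380367 IH) (Lpe (K43.f578977 IH) (Lpe (f579017 IH) (Lpe (f581298 IH) (Lpe (K41.f424976 IH) (Lpe (f161088 IH) (Lpn (LP (LK LD1_c16 LD2_c29 LD3_c54))))))))))))
theorem f101364 : Led Lsl_dt (LP (LK LD1_c4 LD2_c26 LD3_c26)) = (LP (LK LD1_c8 LD2_c50 LD3_c20)) :=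
  Lre_d IH (LK LD1_c4 LD2_c26 LD3_c26) (LK LD1_c8 LD2_c50 LD3_c20) Lrfl Lrfl
theorem f592983 : Led Lsl_gt (LP (LK LD1_c8 LD2_c50 LD3_c20)) = (LP (LK LD1_c16 LD2_c29 LD3_c54)) :=
  Lgr Lrot49 (Lpe (f101364 IH) (Lpe (K39.f101363 IH) (Lpe (K39.f176058 IH) (Lpr_gt (K40.f116970 IH) (Lpr_dt (K40.f116971 IH) (Lpe (K43.f562926 IH) (Lpr_dt (K40.f558523 IH) (Lpe (K42.f562644 IH) (Lpr_df (f592973 IH) (Lpn (LP (LK LD1_c16 LD2_c29 LD3_c54))))))))))))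
theorem f556716 : Led Lsl_ct (LP (LK LD1_c16 LD2_c31 LD3_c14)) = (LP (LK LD1_c8 LD2_c50 LD3_c20)) :=
  Lre_c IH (LK LD1_c16 LD2_c31 LD3_c14) (LK LD1_c8 LD2_c50 LD3_c20) Lrfl Lrfl
theorem f579006 : Led Lsl_dt (LP (LK LD1_c20 LD2_c35 LD3_c8)) = (LP (LK LD1_c29 LD2_c31 LD3_c10)) :=
  Lre_d IH (LK LD1_c20 LD2_c35 LD3_c8) (LK LD1_c29 LD2_c31 LD3_c10) Lrfl Lrfl
theorem f581636 : Led Lsl_dt (LP (LK LD1_c20 LD2_c35 LD3_c42)) = (LP (LK LD1_c21 LD2_c3 LD3_c0)) :=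
  Lgr Lrot6 (Lpr_gt (K44.f72002 IH) (Lpr_ct (K44.f500535 IH) (Lpe (K44.f563466 IH) (Lpr_ct (K42.f546140 IH) (Lpe (K41.f539043 IH) (Lpe (K40.f99688 IH) (Lpe (K38.f99675 IH) (Lpe (K44.f99686 IH) (Lpr_gf (K44.f581632 IH) (Lpn (LP (LK LD1_c21 LD2_c3 LD3_c0))))))))))))
theorem f563477 : Led Lsl_gt (LP (LK LD1_c11 LD2_c37 LD3_c9)) = (LP (LK LD1_c20 LD2_c35 LD3_c41)) :=
  Lre_g IH (LK LD1_c11 LD2_c37 LD3_c9) (LK LD1_c20 LD2_c35 LD3_c41) Lrfl Lrfl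
theorem f581686 : Led Lsl_af (LP (LK LD1_c20 LD2_c35 LD3_c41)) = (LP (LK LD1_c11 LD2_c39 LD3_c41)) :=
  Lgr Lrot31 (Lpe (f563477 IH) (Lpe (K44.f72002 IH) (Lpr_ft (K44.f581660 IH) (Lpn (LP (LK LD1_c11 LD2_c39 LD3_c41))))))
theorem f581688 : Led Lsl_ct (LP (LK LD1_c29 LD2_c31 LD3_c9)) = (LP (LK LD1_c20 LD2_c35 LD3_c41)) :=
  Lgr Lrot98 (Lpe (K44.f553465 IH) (Lpe (K43.f210973 IH) (Lpe (K39.f82068 IH) (Lpe (K40.f193891 IH) (Lpe (K43.f500536 IH) (Lpr_cf (f581628 IH) (Lpe (f581636 IH) (Lpr_ft (K44.f581660 IH) (Lpe (f581686 IH) (Lpn (LP (LK LD1_c20 LD2_c35 LD3_c41))))))))))))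
theorem f562854 : Led Lsl_ct (LP (LK LD1_c11 LD2_c39 LD3_c45)) = (LP (LK LD1_c20 LD2_c35 LD3_c14)) :=
  Lre_c IH (LK LD1_c11 LD2_c39 LD3_c45) (LK LD1_c20 LD2_c35 LD3_c14) Lrfl Lrfl
theorem f581694 : Led Lsl_gf (LP (LK LD1_c11 LD2_c39 LD3_c45)) = (LP (LK LD1_c20 LD2_c35 LD3_c41)) :=
  Lgr Lrot104 (Lpr_ct (f562854 IH) (Lpe (K42.f540547 IH) (Lpe (K41.f442503 IH) (Lpe (K43.f71940 IH) (Lpe (f540541 IH) (Lpe (f563446 IH) (Lpe (K44.f557729 IH) (Lpr_gt (K44.f581300 IH) (Lpr_ct (f581688 IH) (Lpn (LP (LK LD1_c20 LD2_c35 LD3_c41))))))))))))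
theorem f494415 : Led Lsl_dt (LP (LK LD1_c11 LD2_c39 LD3_c45)) = (LP (LK LD1_c5 LD2_c57 LD3_c12)) :=
  Lre_d IH (LK LD1_c11 LD2_c39 LD3_c45) (LK LD1_c5 LD2_c57 LD3_c12) Lrfl Lrfl
theorem f71428 : Led Lsl_gt (LP (LK LD1_c5 LD2_c57 LD3_c12)) = (LP (LK LD1_c11 LD2_c37 LD3_c7)) :=
  Lre_g IH (LK LD1_c5 LD2_c57 LD3_c12) (LK LD1_c11 LD2_c37 LD3_c7) Lrfl Lrfl
theorem f563568 : Led Lsl_dt (LP (LK LD1_c11 LD2_c37 LD3_c7)) = (LP (LK LD1_c20 LD2_c35 LD3_c37)) :=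
  Lre_d IH (LK LD1_c11 LD2_c37 LD3_c7) (LK LD1_c20 LD2_c35 LD3_c37) Lrfl Lrfl
theorem f563478 : Led Lsl_cf (LP (LK LD1_c29 LD2_c31 LD3_c9)) = (LP (LK LD1_c20 LD2_c35 LD3_c41)) :=
  Lgr Lrot99 (Lpe (K44.f553465 IH) (Lpe (K43.f210973 IH) (Lpe (K42.f553478 IH) (Lpe (K42.f193889 IH) (Lpr_gf (K42.f559866 IH) (Lpe (K42.f542335 IH) (Lpr_gt (K41.f563471 IH) (Lpr_ct (K41.f540535 IH) (Lpr_gt (f563477 IH) (Lpn (LP (LK LD1_c20 LD2_c35 LD3_c41))))))))))))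
theorem f581702 : Led Lsl_cf (LP (LK LD1_c20 LD2_c35 LD3_c37)) = (LP (LK LD1_c29 LD2_c31 LD3_c10)) :=
  Lgr Lrot14 (Lpe (f563568 IH) (Lpe (f71428 IH) (Lpe (f494415 IH) (Lpr_gf (f581694 IH) (Lpe (f563478 IH) (Lpe (K44.f579506 IH) (Lpr_dt (K44.f424978 IH) (Lpr_gt (f581298 IH) (Lpr_dt (f579006 IH) (Lpn (LP (LK LD1_c29 LD2_c31 LD3_c10))))))))))))
theorem f563533 : Led Lsl_df (LP (LK LD1_c4 LD2_c34 LD3_c17)) = (LP (LK LD1_c5 LD2_c55 LD3_c59)) :=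
  Lgr Lrot38 (Lpr_dt (K41.f563496 IH) (Lpn (LP (LK LD1_c5 LD2_c55 LD3_c59))))
theorem f71427 : Led Lsl_ct (LP (LK LD1_c2 LD2_c54 LD3_c52)) = (LP (LK LD1_c5 LD2_c57 LD3_c12)) :=
  Lre_c IH (LK LD1_c2 LD2_c54 LD3_c52) (LK LD1_c5 LD2_c57 LD3_c12) Lrfl Lrfl
theorem f563569 : Led Lsl_gt (LP (LK LD1_c20 LD2_c35 LD3_c37)) = (LP (LK LD1_c17 LD2_c6 LD3_c61)) :=
  Lgr Lrot49 (Lpe (f563568 IH) (Lpe (f71428 IH) (Lpe (f71427 IH) (Lpr_gt (K40.f442452 IH) (Lpe (f563533 IH) (Lpr_gt (K41.f563566 IH) (Lpr_dt (K37.f546673 IH) (Lpe (K40.f541585 IH) (Lpe (K40.f541586 IH) (Lpn (LP (LK LD1_c17 LD2_c6 LD3_c61))))))))))))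
theorem f581706 : Led Lsl_gf (LP (LK LD1_c29 LD2_c32 LD3_c7)) = (LP (LK LD1_c29 LD2_c31 LD3_c10)) :=
  Lgr Lrot144 (Lpr_dt (f563233 IH) (Lpr_gt (K40.f545194 IH) (Lpr_dt (K40.f545213 IH) (Lpr_cf (K40.f563206 IH) (Lpr_df (K40.f546336 IH) (Lpe (K40.f176770 IH) (Lpe (K40.f541586 IH) (Lpe (f563569 IH) (Lpr_cf (f581702 IH) (Lpn (LP (LK LD1_c29 LD2_c31 LD3_c10))))))))))))
theorem f563392 : Led Lsl_gf (LP (LK LD1_c17 LD2_c2 LD3_c20)) = (LP (LK LD1_c24 LD2_c53 LD3_c25)) :=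
  Lgr Lrot76 (Lpe (K40.f546132 IH) (Lpe (K40.f176268 IH) (Lpr_gt (K40.f563388 IH) (Lpn (LP (LK LD1_c24 LD2_c53 LD3_c25))))))
theorem f592949 : Led Lsl_ct (LP (LK LD1_c29 LD2_c32 LD3_c7)) = (LP (LK LD1_c20 LD2_c39 LD3_c12)) :=
  Lgr Lrot7 (Lpe (f563230 IH) (Lpe (K40.f563228 IH) (Lpe (K40.f562758 IH) (Lpe (K40.f563341 IH) (Lpe (K41.f563356 IH) (Lpe (f563392 IH) (Lpr_dt (K40.f387419 IH) (Lpe (K40.f546101 IH) (Lpr_dt (f592940 IH) (Lpn (LP (LK LD1_c20 LD2_c39 LD3_c12))))))))))))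
theorem f272663 : Led Lsl_gt (LP (LK LD1_c11 LD2_c38 LD3_c14)) = (LP (LK LD1_c5 LD2_c56 LD3_c27)) :=
  Lre_g IH (LK LD1_c11 LD2_c38 LD3_c14) (LK LD1_c5 LD2_c56 LD3_c27) Lrfl Lrfl
theorem f592987 : Led Lsl_cf (LP (LK LD1_c11 LD2_c38 LD3_c14)) = (LP (LK LD1_c16 LD2_c29 LD3_c54)) :=
  Lgr Lrot169 (Lpr_gt (f272663 IH) (Lpr_ct (K40.f227840 IH) (Lpe (K40.f112857 IH) (Lpe (K2.f24488 IH) (Lpe (K37.f82182 IH) (Lpe (K37.f82183 IH) (Lpe (K39.f545957 IH) (Lpe (K41.f209875 IH) (Lpr_gt (f592983 IH) (Lpn (LP (LK LD1_c16 LD2_c29 LD3_c54))))))))))))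
theorem f562865 : Led Lsl_dt (LP (LK LD1_c20 LD2_c37 LD3_c18)) = (LP (LK LD1_c11 LD2_c38 LD3_c14)) :=
  Lre_d IH (LK LD1_c20 LD2_c37 LD3_c18) (LK LD1_c11 LD2_c38 LD3_c14) Lrfl Lrfl
theorem f592989 : Led Lsl_ct (LP (LK LD1_c11 LD2_c39 LD3_c29)) = (LP (LK LD1_c20 LD2_c37 LD3_c18)) :=
  Lgr Lrot110 (Lpe (f562895 IH) (Lpe (f592949 IH) (Lpr_gf (f581706 IH) (Lpe (f579006 IH) (Lpe (K44.f581296 IH) (Lpr_ct (f556716 IH) (Lpr_gt (f592983 IH) (Lpe (f592987 IH) (Lpe (f562865 IH) (Lpn (LP (LK LD1_c20 LD2_c37 LD3_c18))))))))))))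
theorem f592773 : Led Lsl_dt (LP (LK LD1_c5 LD2_c57 LD3_c3)) = (LP (LK LD1_c11 LD2_c39 LD3_c29)) :=
  Lre_d IH (LK LD1_c5 LD2_c57 LD3_c3) (LK LD1_c11 LD2_c39 LD3_c29) Lrfl Lrfl
theorem f578887 : Led Lsl_cf (LP (LK LD1_c16 LD2_c29 LD3_c53)) = (LP (LK LD1_c11 LD2_c38 LD3_c13)) :=
  Lgr Lrot11 (Lpr_ct (K43.f578885 IH) (Lpn (LP (LK LD1_c11 LD2_c38 LD3_c13))))
theorem f563003 : Led Lsl_dt (LP (LK LD1_c5 LD2_c55 LD3_c58)) = (LP (LK LD1_c7 LD2_c59 LD3_c6)) :=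
  Lgr Lrot79 (Lpr_bf (K40.f562996 IH) (Lpe (K40.f562568 IH) (Lpe (K43.f562631 IH) (Lpn (LP (LK LD1_c7 LD2_c59 LD3_c6))))))
theorem f563961 : Led Lsl_dt (LP (LK LD1_c20 LD2_c35 LD3_c32)) = (LP (LK LD1_c11 LD2_c37 LD3_c4)) :=
  Lre_d IH (LK LD1_c20 LD2_c35 LD3_c32) (LK LD1_c11 LD2_c37 LD3_c4) Lrfl Lrfl
theorem f539048 : Led Lsl_ct (LP (LK LD1_c17 LD2_c2 LD3_c20)) = (LP (LK LD1_c26 LD2_c20 LD3_c17)) :=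
  Lre_c IH (LK LD1_c17 LD2_c2 LD3_c20) (LK LD1_c26 LD2_c20 LD3_c17) Lrfl Lrfl
theorem f563485 : Led Lsl_ct (LP (LK LD1_c29 LD2_c31 LD3_c15)) = (LP (LK LD1_c20 LD2_c35 LD3_c33)) :=
  Lgr Lrot7 (Lpe (K42.f540529 IH) (Lpe (K41.f442594 IH) (Lpe (K41.f442592 IH) (Lpr_gf (K42.f559940 IH) (Lpe (f539048 IH) (Lpe (K40.f546144 IH) (Lpr_dt (K41.f563399 IH) (Lpr_gt (K41.f563480 IH) (Lpr_dt (K42.f563484 IH) (Lpn (LP (LK LD1_c20 LD2_c35 LD3_c33))))))))))))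
theorem f418040 : Led Lsl_cf (LP (LK LD1_c6 LD2_c15 LD3_c0)) = (LP (LK LD1_c4 LD2_c34 LD3_c17)) :=
  Lgr Lrot11 (Lpr_ct (K40.f418038 IH) (Lpn (LP (LK LD1_c4 LD2_c34 LD3_c17))))
theorem f442596 : Led Lsl_dt (LP (LK LD1_c20 LD2_c35 LD3_c12)) = (LP (LK LD1_c29 LD2_c31 LD3_c16)) :=
  Lre_d IH (LK LD1_c20 LD2_c35 LD3_c12) (LK LD1_c29 LD2_c31 LD3_c16) Lrfl Lrfl
theorem f572961 : Led Lsl_cf (LP (LK LD1_c20 LD2_c35 LD3_c32)) = (LP (LK LD1_c29 LD2_c31 LD3_c16)) :=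
  Lgr Lrot55 (Lpr_dt (f563961 IH) (Lpr_ct (K44.f562995 IH) (Lpr_dt (f563003 IH) (Lpr_ct (K40.f541575 IH) (Lpr_dt (K42.f572957 IH) (Lpr_ct (K41.f540519 IH) (Lpr_dt (K42.f540529 IH) (Lpr_ct (f563485 IH) (Lpr_dt (f563492 IH) (Lpr_ct (K41.f500524 IH) (Lpe (f563533 IH) (Lpe (f418040 IH) (Lpr_dt (K41.f418054 IH) (Lpr_ct (K42.f565148 IH) (Lpr_dt (f442596 IH) (Lpn (LP (LK LD1_c29 LD2_c31 LD3_c16))))))))))))))))))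
theorem f546086 : Led Lsl_ct (LP (LK LD1_c17 LD2_c7 LD3_c15)) = (LP (LK LD1_c9 LD2_c12 LD3_c46)) :=
  Lre_c IH (LK LD1_c17 LD2_c7 LD3_c15) (LK LD1_c9 LD2_c12 LD3_c46) Lrfl Lrfl
theorem f581772 : Led Lsl_ct (LP (LK LD1_c11 LD2_c39 LD3_c33)) = (LP (LK LD1_c20 LD2_c37 LD3_c15)) :=
  Lgr Lrot7 (Lpe (f562647 IH) (Lpe (f562896 IH) (Lpr_df (K44.f562891 IH) (Lpe (K44.f176242 IH) (Lpe (f546086 IH) (Lpr_gt (K44.f581766 IH) (Lpr_dt (K40.f227841 IH) (Lpr_gt (K43.f442528 IH) (Lpr_dt (f442579 IH) (Lpn (LP (LK LD1_c20 LD2_c37 LD3_c15))))))))))))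
theorem f592897 : Led Lsl_ff (LP (LK LD1_c29 LD2_c31 LD3_c16)) = (LP (LK LD1_c20 LD2_c37 LD3_c15)) :=
  Lgr Lrot23 (Lpe (f572961 IH) (Lpr_ft (f592890 IH) (Lpr_ct (f581772 IH) (Lpn (LP (LK LD1_c20 LD2_c37 LD3_c15))))))
theorem f593001 : Led Lsl_at (LP (LK LD1_c29 LD2_c31 LD3_c16)) = (LP (LK LD1_c20 LD2_c37 LD3_c18)) :=
  Lgr Lrot33 (Lpr_ff (f592897 IH) (Lpr_dt (f578900 IH) (Lpe (f578887 IH) (Lpe (K43.f569393 IH) (Lpr_ct (K43.f569395 IH) (Lpr_dt (K42.f500574 IH) (Lpr_ct (K44.f452836 IH) (Lpr_dt (f592773 IH) (Lpr_ct (f592989 IH) (Lpn (LP (LK LD1_c20 LD2_c37 LD3_c18))))))))))))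
theorem f592782 : Led Lsl_gt (LP (LK LD1_c20 LD2_c37 LD3_c15)) = (LP (LK LD1_c29 LD2_c32 LD3_c28)) :=
  Lre_g IH (LK LD1_c20 LD2_c37 LD3_c15) (LK LD1_c29 LD2_c32 LD3_c28) Lrfl Lrfl
theorem f593062 : Led Lsl_gt (LP (LK LD1_c29 LD2_c32 LD3_c28)) = (LP (LK LD1_c20 LD2_c37 LD3_c18)) :=
  Lgr Lrot46 (Lpe (f592782 IH) (Lpe (f592897 IH) (Lpr_at (f593001 IH) (Lpn (LP (LK LD1_c20 LD2_c37 LD3_c18))))))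
theorem f592995 : Led Lsl_cf (LP (LK LD1_c11 LD2_c39 LD3_c29)) = (LP (LK LD1_c20 LD2_c37 LD3_c18)) :=
  Lgr Lrot11 (Lpr_ct (f592989 IH) (Lpn (LP (LK LD1_c20 LD2_c37 LD3_c18))))
theorem f593072 : Led Lsl_df (LP (LK LD1_c29 LD2_c32 LD3_c28)) = (LP (LK LD1_c26 LD2_c17 LD3_c21)) :=
  Lgr Lrot155 (Lpr_gt (f593062 IH) (Lpe (f592995 IH) (Lpr_gt (f592774 IH) (Lpe (f592928 IH) (Lpr_dt (f563282 IH) (Lpe (K41.f563283 IH) (Lpe (K41.f545922 IH) (Lpe (K42.f542334 IH) (Lpe (K42.f553482 IH) (Lpn (LP (LK LD1_c26 LD2_c17 LD3_c21))))))))))))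
theorem f101561 : Led Lsl_ct (LP (LK LD1_c6 LD2_c13 LD3_c24)) = (LP (LK LD1_c12 LD2_c5 LD3_c36)) :=
  Lre_c IH (LK LD1_c6 LD2_c13 LD3_c24) (LK LD1_c12 LD2_c5 LD3_c36) Lrfl Lrfl
theorem f564212 : Led Lsl_ct (LP (LK LD1_c12 LD2_c5 LD3_c36)) = (LP (LK LD1_c6 LD2_c13 LD3_c24)) :=
  Lre_c IH (LK LD1_c12 LD2_c5 LD3_c36) (LK LD1_c6 LD2_c13 LD3_c24) Lrfl Lrfl
theorem f71096 : Led Lsl_dt (LP (LK LD1_c9 LD2_c8 LD3_c22)) = (LP (LK LD1_c4 LD2_c36 LD3_c4)) :=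
  Lre_d IH (LK LD1_c9 LD2_c8 LD3_c22) (LK LD1_c4 LD2_c36 LD3_c4) Lrfl Lrfl
theorem f565427 : Led Lsl_gf (LP (LK LD1_c12 LD2_c5 LD3_c36)) = (LP (LK LD1_c9 LD2_c8 LD3_c61)) :=
  Lgr Lrot104 (Lpr_ct (f564212 IH) (Lpe (K38.f100554 IH) (Lpe (K39.f193539 IH) (Lpr_gf (K41.f565421 IH) (Lpe (K38.f210637 IH) (Lpe (K39.f210643 IH) (Lpe (f71096 IH) (Lpr_gt (K37.f71109 IH) (Lpr_ct (K42.f202290 IH) (Lpn (LP (LK LD1_c9 LD2_c8 LD3_c61))))))))))))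
theorem f580559 : Led Lsl_gf (LP (LK LD1_c9 LD2_c12 LD3_c38)) = (LP (LK LD1_c5 LD2_c57 LD3_c9)) :=
  Lgr Lrot126 (Lpe (K40.f176785 IH) (Lpe (f562869 IH) (Lpr_gt (K37.f71109 IH) (Lpr_ct (K42.f202290 IH) (Lpe (f565427 IH) (Lpe (f101561 IH) (Lpr_bt (K42.f569109 IH) (Lpr_gt (K44.f580551 IH) (Lpr_bf (K44.f563501 IH) (Lpr_ct (K43.f452847 IH) (Lpn (LP (LK LD1_c5 LD2_c57 LD3_c9)))))))))))))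
theorem f563530 : Led Lsl_dt (LP (LK LD1_c11 LD2_c39 LD3_c37)) = (LP (LK LD1_c5 LD2_c57 LD3_c9)) :=
  Lre_d IH (LK LD1_c11 LD2_c39 LD3_c37) (LK LD1_c5 LD2_c57 LD3_c9) Lrfl Lrfl
theorem f563370 : Led Lsl_gt (LP (LK LD1_c20 LD2_c39 LD3_c26)) = (LP (LK LD1_c11 LD2_c39 LD3_c37)) :=
  Lre_g IH (LK LD1_c20 LD2_c39 LD3_c26) (LK LD1_c11 LD2_c39 LD3_c37) Lrfl Lrfl
theorem f593064 : Led Lsl_ct (LP (LK LD1_c29 LD2_c32 LD3_c28)) = (LP (LK LD1_c20 LD2_c39 LD3_c26)) :=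
  Lgr Lrot8 (Lpr_gt (f593062 IH) (Lpr_dt (f562865 IH) (Lpr_gt (f272663 IH) (Lpr_dt (K40.f562832 IH) (Lpr_cf (K40.f562780 IH) (Lpe (K40.f562779 IH) (Lpr_gf (f580559 IH) (Lpe (f563530 IH) (Lpe (f563370 IH) (Lpn (LP (LK LD1_c20 LD2_c39 LD3_c26))))))))))))
theorem f574711 : Led Lsl_dt (LP (LK LD1_c20 LD2_c39 LD3_c25)) = (LP (LK LD1_c16 LD2_c55 LD3_c57)) :=
  Lgr Lrot105 (Lpe (f563369 IH) (Lpe (K43.f563248 IH) (Lpe (K43.f452846 IH) (Lpe (K40.f452845 IH) (Lpr_gt (K42.f452835 IH) (Lpr_dt (K43.f452853 IH) (Lpr_gt (K43.f574702 IH) (Lpr_dt (K38.f99676 IH) (Lpe (K44.f99686 IH) (Lpn (LP (LK LD1_c16 LD2_c55 LD3_c57))))))))))))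
theorem f592795 : Led Lsl_cf (LP (LK LD1_c20 LD2_c39 LD3_c25)) = (LP (LK LD1_c29 LD2_c32 LD3_c29)) :=
  Lgr Lrot11 (Lpr_ct (f592792 IH) (Lpn (LP (LK LD1_c29 LD2_c32 LD3_c29))))
theorem f578902 : Led Lsl_dt (LP (LK LD1_c21 LD2_c2 LD3_c53)) = (LP (LK LD1_c29 LD2_c32 LD3_c29)) :=
  Lgr Lrot115 (Lpr_gf (K42.f559866 IH) (Lpr_ct (K42.f542334 IH) (Lpr_gt (K41.f545922 IH) (Lpe (K43.f574715 IH) (Lpe (K43.f574713 IH) (Lpe (f578843 IH) (Lpr_ct (K43.f578885 IH) (Lpe (f578900 IH) (Lpe (f578901 IH) (Lpn (LP (LK LD1_c29 LD2_c32 LD3_c29))))))))))))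
theorem f593078 : Led Lsl_dt (LP (LK LD1_c20 LD2_c39 LD3_c26)) = (LP (LK LD1_c11 LD2_c57 LD3_c55)) :=
  Lgr Lrot173 (Lpe (f593064 IH) (Lpr_df (f593072 IH) (Lpe (K42.f406995 IH) (Lpe (K39.f385381 IH) (Lpe (K43.f547723 IH) (Lpr_df (K38.f99679 IH) (Lpe (K44.f99686 IH) (Lpe (f574711 IH) (Lpr_cf (f592795 IH) (Lpe (f578902 IH) (Lpe (K40.f193838 IH) (Lpe (K41.f193890 IH) (Lpe (K38.f193828 IH) (Lpe (K40.f193835 IH) (Lpe (K40.f227587 IH) (Lpn (LP (LK LD1_c11 LD2_c57 LD3_c55))))))))))))))))))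
theorem f541599 : Led Lsl_at (LP (LK LD1_c4 LD2_c38 LD3_c25)) = (LP (LK LD1_c6 LD2_c7 LD3_c45)) :=
  Lgr Lrot100 (Lpr_af (K40.f541583 IH) (Lpn (LP (LK LD1_c6 LD2_c7 LD3_c45))))
theorem f593080 : Led Lsl_ff (LP (LK LD1_c4 LD2_c38 LD3_c25)) = (LP (LK LD1_c9 LD2_c4 LD3_c23)) :=
  Lgr Lrot103 (Lpr_at (f541599 IH) (Lpe (K40.f227587 IH) (Lpe (f593078 IH) (Lpe (f593064 IH) (Lpr_df (f593072 IH) (Lpe (K42.f406995 IH) (Lpe (K39.f385381 IH) (Lpe (K43.f547723 IH) (Lpr_df (K38.f99679 IH) (Lpn (LP (LK LD1_c9 LD2_c4 LD3_c23))))))))))))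
theorem f593093 : Led Lsl_ft (LP (LK LD1_c9 LD2_c12 LD3_c40)) = (LP (LK LD1_c16 LD2_c55 LD3_c57)) :=
  Lgr Lrot4 (Lpe (K40.f176769 IH) (Lpr_ff (f593080 IH) (Lpe (K44.f99686 IH) (Lpn (LP (LK LD1_c16 LD2_c55 LD3_c57))))))
theorem f593101 : Led Lsl_ff (LP (LK LD1_c9 LD2_c12 LD3_c40)) = (LP (LK LD1_c16 LD2_c55 LD3_c57)) :=
  Lgr Lrot3 (Lpr_ft (f593093 IH) (Lpn (LP (LK LD1_c16 LD2_c55 LD3_c57))))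
theorem f593105 : Led Lsl_ft (LP (LK LD1_c17 LD2_c6 LD3_c61)) = (LP (LK LD1_c20 LD2_c39 LD3_c25)) :=
  Lgr Lrot54 (Lpe (K40.f541593 IH) (Lpr_ff (f593101 IH) (Lpe (f574711 IH) (Lpn (LP (LK LD1_c20 LD2_c39 LD3_c25))))))
theorem f578863 : Led Lsl_dt (LP (LK LD1_c9 LD2_c50 LD3_c43)) = (LP (LK LD1_c12 LD2_c11 LD3_c4)) :=
  Lgr Lrot105 (Lpe (K38.f545268 IH) (Lpe (K38.f545256 IH) (Lpr_gf (K40.f559794 IH) (Lpe (K41.f425923 IH) (Lpr_gt (K38.f549851 IH) (Lpr_dt (K41.f99756 IH) (Lpr_gt (K41.f545922 IH) (Lpe (K43.f574715 IH) (Lpr_cf (K43.f578859 IH) (Lpn (LP (LK LD1_c12 LD2_c11 LD3_c4))))))))))))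
theorem f592762 : Led Lsl_cf (LP (LK LD1_c9 LD2_c6 LD3_c42)) = (LP (LK LD1_c11 LD2_c37 LD3_c6)) :=
  Lgr Lrot11 (Lpr_ct (f592756 IH) (Lpn (LP (LK LD1_c11 LD2_c37 LD3_c6))))
theorem f581673 : Led Lsl_dt (LP (LK LD1_c20 LD2_c35 LD3_c35)) = (LP (LK LD1_c11 LD2_c37 LD3_c6)) :=
  Lre_d IH (LK LD1_c20 LD2_c35 LD3_c35) (LK LD1_c11 LD2_c37 LD3_c6) Lrfl Lrfl
theorem f592971 : Led Lsl_gt (LP (LK LD1_c17 LD2_c6 LD3_c61)) = (LP (LK LD1_c20 LD2_c35 LD3_c35)) :=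
  Lgr Lrot49 (Lpe (K40.f541593 IH) (Lpe (K40.f541594 IH) (Lpe (K40.f546090 IH) (Lpr_gt (K38.f545268 IH) (Lpr_dt (f578863 IH) (Lpr_gt (f592967 IH) (Lpe (f592765 IH) (Lpr_cf (f592762 IH) (Lpe (f581673 IH) (Lpn (LP (LK LD1_c20 LD2_c35 LD3_c35))))))))))))
theorem f592924 : Led Lsl_ct (LP (LK LD1_c29 LD2_c32 LD3_c5)) = (LP (LK LD1_c20 LD2_c39 LD3_c11)) :=
  Lgr Lrot8 (Lpe (f579013 IH) (Lpr_dt (f579012 IH) (Lpe (K44.f581296 IH) (Lpr_dt (K44.f556711 IH) (Lpr_cf (K44.f581314 IH) (Lpr_df (K44.f581776 IH) (Lpe (K44.f581808 IH) (Lpe (f558518 IH) (Lpr_gf (f592922 IH) (Lpn (LP (LK LD1_c20 LD2_c39 LD3_c11))))))))))))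
theorem f592930 : Led Lsl_gt (LP (LK LD1_c29 LD2_c31 LD3_c13)) = (LP (LK LD1_c29 LD2_c32 LD3_c5)) :=
  Lgr Lrot9 (Lpe (f540537 IH) (Lpr_gt (f557734 IH) (Lpr_ct (K44.f424923 IH) (Lpr_gt (K43.f161108 IH) (Lpr_ct (K43.f578885 IH) (Lpe (f578900 IH) (Lpe (f581772 IH) (Lpr_gf (f592922 IH) (Lpe (f592924 IH) (Lpn (LP (LK LD1_c29 LD2_c32 LD3_c5))))))))))))
theorem f541573 : Led Lsl_dt (LP (LK LD1_c17 LD2_c7 LD3_c4)) = (LP (LK LD1_c9 LD2_c12 LD3_c42)) :=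
  Lre_d IH (LK LD1_c17 LD2_c7 LD3_c4) (LK LD1_c9 LD2_c12 LD3_c42) Lrfl Lrfl
theorem f592935 : Led Lsl_gt (LP (LK LD1_c20 LD2_c35 LD3_c35)) = (LP (LK LD1_c17 LD2_c7 LD3_c4)) :=
  Lgr Lrot94 (Lpr_cf (f581666 IH) (Lpr_gt (f592930 IH) (Lpr_dt (f563282 IH) (Lpe (K41.f563241 IH) (Lpr_dt (K40.f553438 IH) (Lpe (K40.f562804 IH) (Lpr_df (K40.f562817 IH) (Lpe (K40.f541651 IH) (Lpe (f541573 IH) (Lpn (LP (LK LD1_c17 LD2_c7 LD3_c4))))))))))))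
theorem f593111 : Led Lsl_af (LP (LK LD1_c17 LD2_c7 LD3_c4)) = (LP (LK LD1_c20 LD2_c39 LD3_c25)) :=
  Lgr Lrot31 (Lpe (f592935 IH) (Lpe (f592971 IH) (Lpr_ft (f593105 IH) (Lpn (LP (LK LD1_c20 LD2_c39 LD3_c25))))))
theorem f593113 : Led Lsl_at (LP (LK LD1_c17 LD2_c7 LD3_c4)) = (LP (LK LD1_c20 LD2_c39 LD3_c25)) :=
  Lgr Lrot100 (Lpr_af (f593111 IH) (Lpn (LP (LK LD1_c20 LD2_c39 LD3_c25))))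
theorem f593115 : Led Lsl_ff (LP (LK LD1_c17 LD2_c7 LD3_c4)) = (LP (LK LD1_c20 LD2_c39 LD3_c26)) :=
  Lgr Lrot52 (Lpr_at (f593113 IH) (Lpe (f563369 IH) (Lpe (f563370 IH) (Lpn (LP (LK LD1_c20 LD2_c39 LD3_c26))))))
theorem f593119 : Led Lsl_dt (LP (LK LD1_c11 LD2_c57 LD3_c55)) = (LP (LK LD1_c20 LD2_c39 LD3_c26)) :=
  Lgr Lrot60 (Lpe (K40.f541649 IH) (Lpe (f541573 IH) (Lpr_ff (f593115 IH) (Lpn (LP (LK LD1_c20 LD2_c39 LD3_c26))))))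
theorem f559851 : Led Lsl_dt (LP (LK LD1_c26 LD2_c27 LD3_c49)) = (LP (LK LD1_c16 LD2_c31 LD3_c17)) :=
  Lre_d IH (LK LD1_c26 LD2_c27 LD3_c49) (LK LD1_c16 LD2_c31 LD3_c17) Lrfl Lrfl
theorem f572935 : Led Lsl_gt (LP (LK LD1_c20 LD2_c37 LD3_c10)) = (LP (LK LD1_c26 LD2_c27 LD3_c49)) :=
  Lgr Lrot49 (Lpe (K43.f563269 IH) (Lpe (K40.f563347 IH) (Lpr_cf (K40.f545272 IH) (Lpe (K42.f565146 IH) (Lpr_dt (K42.f418042 IH) (Lpe (K43.f572933 IH) (Lpr_dt (K42.f572922 IH) (Lpe (K44.f545891 IH) (Lpe (f559851 IH) (Lpn (LP (LK LD1_c26 LD2_c27 LD3_c49))))))))))))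
theorem f593137 : Led Lsl_cf (LP (LK LD1_c17 LD2_c7 LD3_c9)) = (LP (LK LD1_c26 LD2_c27 LD3_c49)) :=
  Lgr Lrot175 (Lpr_dt (f541595 IH) (Lpe (K44.f580575 IH) (Lpr_gf (K44.f580571 IH) (Lpr_cf (f581628 IH) (Lpe (K44.f193826 IH) (Lpr_dt (f593119 IH) (Lpr_gt (f563370 IH) (Lpe (K43.f563364 IH) (Lpr_gt (f572935 IH) (Lpn (LP (LK LD1_c26 LD2_c27 LD3_c49))))))))))))
theorem f572982 : Led Lsl_gt (LP (LK LD1_c15 LD2_c3 LD3_c47)) = (LP (LK LD1_c12 LD2_c8 LD3_c21)) :=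
  Lgr Lrot9 (Lpe (K42.f566872 IH) (Lpe (K41.f563464 IH) (Lpe (K40.f545272 IH) (Lpr_gt (K40.f563347 IH) (Lpr_ct (K40.f562833 IH) (Lpr_df (K41.f563593 IH) (Lpe (K41.f198562 IH) (Lpr_gf (K43.f572975 IH) (Lpe (K43.f565141 IH) (Lpn (LP (LK LD1_c12 LD2_c8 LD3_c21))))))))))))
theorem f546675 : Led Lsl_df (LP (LK LD1_c5 LD2_c5 LD3_c59)) = (LP (LK LD1_c4 LD2_c38 LD3_c25)) :=
  Lgr Lrot38 (Lpr_dt (K37.f546673 IH) (Lpn (LP (LK LD1_c4 LD2_c38 LD3_c25))))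
theorem f580569 : Led Lsl_cf (LP (LK LD1_c16 LD2_c57 LD3_c56)) = (LP (LK LD1_c9 LD2_c12 LD3_c44)) :=
  Lgr Lrot99 (Lpr_df (K44.f580561 IH) (Lpe (K43.f565141 IH) (Lpe (f572982 IH) (Lpe (K40.f541575 IH) (Lpe (K42.f572608 IH) (Lpr_df (f546675 IH) (Lpe (K37.f546334 IH) (Lpr_ct (K43.f500543 IH) (Lpr_gt (f546327 IH) (Lpn (LP (LK LD1_c9 LD2_c12 LD3_c44))))))))))))
theorem f186492 : Led Lsl_bt (LP (LK LD1_c12 LD2_c10 LD3_c58)) = (LP (LK LD1_c6 LD2_c17 LD3_c6)) :=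
  Lre_b IH (LK LD1_c12 LD2_c10 LD3_c58) (LK LD1_c6 LD2_c17 LD3_c6) Lrfl Lrfl
theorem f571884 : Led Lsl_ef (LP (LK LD1_c12 LD2_c10 LD3_c58)) = (LP (LK LD1_c8 LD2_c37 LD3_c41)) :=
  Lgr Lrot29 (Lpr_bt (f186492 IH) (Lpr_et (K42.f571882 IH) (Lpr_bt (f419038 IH) (Lpn (LP (LK LD1_c8 LD2_c37 LD3_c41))))))
theorem f588710 : Led Lsl_cf (LP (LK LD1_c11 LD2_c23 LD3_c10)) = (LP (LK LD1_c12 LD2_c10 LD3_c58)) :=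
  Lgr Lrot39 (Lpr_et (f99754 IH) (Lpr_ct (f588708 IH) (Lpe (f571884 IH) (Lpn (LP (LK LD1_c12 LD2_c10 LD3_c58))))))
theorem f592961 : Led Lsl_af (LP (LK LD1_c12 LD2_c8 LD3_c21)) = (LP (LK LD1_c11 LD2_c23 LD3_c10)) :=
  Lgr Lrot68 (Lpr_ct (K43.f565141 IH) (Lpr_at (f592947 IH) (Lpe (f588710 IH) (Lpn (LP (LK LD1_c11 LD2_c23 LD3_c10))))))
theorem f559850 : Led Lsl_dt (LP (LK LD1_c16 LD2_c31 LD3_c17)) = (LP (LK LD1_c26 LD2_c27 LD3_c49)) :=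
  Lre_d IH (LK LD1_c16 LD2_c31 LD3_c17) (LK LD1_c26 LD2_c27 LD3_c49) Lrfl Lrfl
theorem f593143 : Led Lsl_ff (LP (LK LD1_c11 LD2_c23 LD3_c10)) = (LP (LK LD1_c10 LD2_c1 LD3_c29)) :=
  Lgr Lrot103 (Lpe (f592961 IH) (Lpr_cf (K44.f572980 IH) (Lpe (f580565 IH) (Lpr_cf (f580569 IH) (Lpe (f541595 IH) (Lpr_cf (f593137 IH) (Lpe (f559850 IH) (Lpe (K43.f198436 IH) (Lpe (K42.f572922 IH) (Lpn (LP (LK LD1_c10 LD2_c1 LD3_c29))))))))))))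
theorem f593149 : Led Lsl_ft (LP (LK LD1_c11 LD2_c23 LD3_c10)) = (LP (LK LD1_c10 LD2_c1 LD3_c29)) :=
  Lgr Lrot48 (Lpr_ff (f593143 IH) (Lpn (LP (LK LD1_c10 LD2_c1 LD3_c29))))
theorem f592997 : Led Lsl_cf (LP (LK LD1_c16 LD2_c29 LD3_c54)) = (LP (LK LD1_c11 LD2_c38 LD3_c14)) :=
  Lgr Lrot55 (Lpe (f592973 IH) (Lpr_ct (K42.f562644 IH) (Lpr_dt (K43.f161927 IH) (Lpr_ct (K44.f452833 IH) (Lpr_dt (f562647 IH) (Lpr_ct (f581772 IH) (Lpr_dt (f578900 IH) (Lpe (f578887 IH) (Lpe (K43.f569393 IH) (Lpr_ct (K43.f569395 IH) (Lpr_dt (K42.f500574 IH) (Lpr_ct (K44.f452836 IH) (Lpr_dt (f592773 IH) (Lpr_ct (f592989 IH) (Lpr_dt (f562865 IH) (Lpn (LP (LK LD1_c11 LD2_c38 LD3_c14))))))))))))))))))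
theorem f161086 : Led Lsl_et (LP (LK LD1_c4 LD2_c25 LD3_c60)) = (LP (LK LD1_c2 LD2_c10 LD3_c17)) :=
  Lre_e IH (LK LD1_c4 LD2_c25 LD3_c60) (LK LD1_c2 LD2_c10 LD3_c17) Lrfl Lrfl
theorem f570725 : Led Lsl_dt (LP (LK LD1_c11 LD2_c39 LD3_c34)) = (LP (LK LD1_c16 LD2_c29 LD3_c54)) :=
  Lgr Lrot136 (Lpe (K40.f562654 IH) (Lpr_gf (K40.f562664 IH) (Lpr_ef (K42.f570709 IH) (Lpe (K32.f420039 IH) (Lpe (K32.f59557 IH) (Lpe (K8.f59556 IH) (Lpe (K8.f161074 IH) (Lpe (f161086 IH) (Lpr_dt (K39.f161087 IH) (Lpe (f161088 IH) (Lpn (LP (LK LD1_c16 LD2_c29 LD3_c54)))))))))))))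
theorem f593082 : Led Lsl_gf (LP (LK LD1_c11 LD2_c39 LD3_c34)) = (LP (LK LD1_c11 LD2_c23 LD3_c10)) :=
  Lgr Lrot143 (Lpr_dt (f570725 IH) (Lpr_cf (f592997 IH) (Lpe (f562865 IH) (Lpe (f593062 IH) (Lpr_df (f593072 IH) (Lpr_gf (K43.f559938 IH) (Lpe (K43.f99770 IH) (Lpr_gt (f99764 IH) (Lpe (f99759 IH) (Lpn (LP (LK LD1_c11 LD2_c23 LD3_c10))))))))))))
theorem f593157 : Led Lsl_af (LP (LK LD1_c10 LD2_c16 LD3_c13)) = (LP (LK LD1_c10 LD2_c1 LD3_c29)) :=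
  Lgr Lrot31 (Lpr_gf (K43.f578865 IH) (Lpr_gf (f593082 IH) (Lpr_ft (f593149 IH) (Lpn (LP (LK LD1_c10 LD2_c1 LD3_c29))))))
theorem f593165 : Led Lsl_at (LP (LK LD1_c5 LD2_c12 LD3_c59)) = (LP (LK LD1_c5 LD2_c5 LD3_c11)) :=
  Lgr Lrot80 (Lpe (K43.f546470 IH) (Lpr_af (f593157 IH) (Lpe (K42.f572928 IH) (Lpn (LP (LK LD1_c5 LD2_c5 LD3_c11))))))
theorem f593173 : Led Lsl_ff (LP (LK LD1_c5 LD2_c12 LD3_c59)) = (LP (LK LD1_c5 LD2_c5 LD3_c12)) :=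
  Lgr Lrot52 (Lpr_at (f593165 IH) (Lpe (K42.f164867 IH) (Lpe (K39.f164866 IH) (Lpn (LP (LK LD1_c5 LD2_c5 LD3_c12))))))
theorem f593181 : Led Lsl_ft (LP (LK LD1_c5 LD2_c12 LD3_c59)) = (LP (LK LD1_c5 LD2_c5 LD3_c12)) :=
  Lgr Lrot48 (Lpr_ff (f593173 IH) (Lpn (LP (LK LD1_c5 LD2_c5 LD3_c12))))
theorem f593189 : Led Lsl_af (LP (LK LD1_c5 LD2_c12 LD3_c58)) = (LP (LK LD1_c5 LD2_c5 LD3_c12)) :=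
  Lgr Lrot31 (Lpe (K41.f185156 IH) (Lpe (K43.f193995 IH) (Lpr_ft (f593181 IH) (Lpn (LP (LK LD1_c5 LD2_c5 LD3_c12))))))
theorem f593167 : Led Lsl_af (LP (LK LD1_c5 LD2_c12 LD3_c59)) = (LP (LK LD1_c5 LD2_c5 LD3_c11)) :=
  Lgr Lrot0 (Lpr_at (f593165 IH) (Lpn (LP (LK LD1_c5 LD2_c5 LD3_c11))))
theorem f593199 : Led Lsl_ft (LP (LK LD1_c5 LD2_c12 LD3_c58)) = (LP (LK LD1_c5 LD2_c5 LD3_c11)) :=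
  Lgr Lrot101 (Lpr_af (f593189 IH) (Lpe (f593181 IH) (Lpr_af (f593167 IH) (Lpn (LP (LK LD1_c5 LD2_c5 LD3_c11))))))
theorem f593209 : Led Lsl_ff (LP (LK LD1_c5 LD2_c12 LD3_c58)) = (LP (LK LD1_c5 LD2_c5 LD3_c11)) :=
  Lgr Lrot3 (Lpr_ft (f593199 IH) (Lpn (LP (LK LD1_c5 LD2_c5 LD3_c11))))
theorem f99761 : Led Lsl_et (LP (LK LD1_c5 LD2_c46 LD3_c28)) = (LP (LK LD1_c11 LD2_c23 LD3_c10)) :=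
  Lre_e IH (LK LD1_c5 LD2_c46 LD3_c28) (LK LD1_c11 LD2_c23 LD3_c10) Lrfl Lrfl
theorem f593215 : Led Lsl_ft (LP (LK LD1_c10 LD2_c16 LD3_c12)) = (LP (LK LD1_c5 LD2_c46 LD3_c28)) :=
  Lgr Lrot86 (Lpe (K41.f567240 IH) (Lpr_ff (f593209 IH) (Lpe (K42.f164868 IH) (Lpe (f593149 IH) (Lpe (f99761 IH) (Lpn (LP (LK LD1_c5 LD2_c46 LD3_c28))))))))
theorem f593223 : Led Lsl_af (LP (LK LD1_c11 LD2_c6 LD3_c10)) = (LP (LK LD1_c5 LD2_c46 LD3_c28)) :=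
  Lgr Lrot31 (Lpe (K41.f562296 IH) (Lpe (K41.f567241 IH) (Lpr_ft (f593215 IH) (Lpn (LP (LK LD1_c5 LD2_c46 LD3_c28))))))
theorem f593231 : Led Lsl_at (LP (LK LD1_c12 LD2_c8 LD3_c21)) = (LP (LK LD1_c11 LD2_c23 LD3_c10)) :=
  Lgr Lrot80 (Lpr_ef (K41.f565137 IH) (Lpr_af (f593223 IH) (Lpe (f99754 IH) (Lpn (LP (LK LD1_c11 LD2_c23 LD3_c10))))))
theorem f593235 : Led Lsl_ff (LP (LK LD1_c12 LD2_c8 LD3_c21)) = (LP (LK LD1_c10 LD2_c16 LD3_c13)) :=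
  Lgr Lrot30 (Lpr_at (f593231 IH) (Lpr_ft (f593149 IH) (Lpe (f593157 IH) (Lpn (LP (LK LD1_c10 LD2_c16 LD3_c13))))))
theorem f593241 : Led Lsl_ft (LP (LK LD1_c12 LD2_c8 LD3_c21)) = (LP (LK LD1_c10 LD2_c16 LD3_c13)) :=
  Lgr Lrot48 (Lpr_ff (f593235 IH) (Lpn (LP (LK LD1_c10 LD2_c16 LD3_c13))))
theorem f593247 : Led Lsl_ff (LP (LK LD1_c11 LD2_c6 LD3_c10)) = (LP (LK LD1_c5 LD2_c46 LD3_c29)) :=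
  Lgr Lrot72 (Lpe (K41.f565137 IH) (Lpr_ft (f593241 IH) (Lpr_et (K43.f546470 IH) (Lpr_ft (f593181 IH) (Lpe (K39.f551864 IH) (Lpn (LP (LK LD1_c5 LD2_c46 LD3_c29))))))))
theorem f551849 : Led Lsl_df (LP (LK LD1_c5 LD2_c46 LD3_c29)) = (LP (LK LD1_c8 LD2_c44 LD3_c38)) :=
  Lgr Lrot38 (Lpr_dt (K39.f551844 IH) (Lpn (LP (LK LD1_c8 LD2_c44 LD3_c38))))
theorem f593253 : Led Lsl_ft (LP (LK LD1_c16 LD2_c21 LD3_c48)) = (LP (LK LD1_c8 LD2_c44 LD3_c38)) :=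
  Lgr Lrot54 (Lpr_df (K41.f565118 IH) (Lpr_ff (f593247 IH) (Lpr_df (f551849 IH) (Lpn (LP (LK LD1_c8 LD2_c44 LD3_c38))))))
theorem f385843 : Led Lsl_ct (LP (LK LD1_c11 LD2_c21 LD3_c20)) = (LP (LK LD1_c20 LD2_c19 LD3_c1)) :=
  Lre_c IH (LK LD1_c11 LD2_c21 LD3_c20) (LK LD1_c20 LD2_c19 LD3_c1) Lrfl Lrfl
theorem f579298 : Led Lsl_dt (LP (LK LD1_c16 LD2_c51 LD3_c55)) = (LP (LK LD1_c20 LD2_c11 LD3_c30)) :=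
  Lgr Lrot27 (Lpr_cf (K39.f549335 IH) (Lpr_gf (K39.f424209 IH) (Lpr_cf (K40.f423749 IH) (Lpe (K31.f172398 IH) (Lpe (K30.f168265 IH) (Lpr_gt (K43.f385839 IH) (Lpr_ct (f385843 IH) (Lpe (K43.f423743 IH) (Lpr_ct (K43.f579289 IH) (Lpn (LP (LK LD1_c20 LD2_c11 LD3_c30))))))))))))
theorem f579293 : Led Lsl_cf (LP (LK LD1_c29 LD2_c20 LD3_c24)) = (LP (LK LD1_c20 LD2_c11 LD3_c30)) :=
  Lgr Lrot11 (Lpr_ct (K43.f579289 IH) (Lpn (LP (LK LD1_c20 LD2_c11 LD3_c30))))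
theorem f551848 : Led Lsl_at (LP (LK LD1_c8 LD2_c44 LD3_c38)) = (LP (LK LD1_c16 LD2_c21 LD3_c60)) :=
  Lre_a IH (LK LD1_c8 LD2_c44 LD3_c38) (LK LD1_c16 LD2_c21 LD3_c60) Lrfl Lrfl
theorem f593264 : Led Lsl_ct (LP (LK LD1_c20 LD2_c10 LD3_c39)) = (LP (LK LD1_c16 LD2_c21 LD3_c60)) :=
  Lgr Lrot98 (Lpe (K43.f411710 IH) (Lpr_cf (f579293 IH) (Lpe (f579298 IH) (Lpr_cf (K39.f549335 IH) (Lpe (K39.f211894 IH) (Lpr_cf (K43.f574021 IH) (Lpe (K41.f565123 IH) (Lpr_ft (f593253 IH) (Lpr_at (f551848 IH) (Lpn (LP (LK LD1_c16 LD2_c21 LD3_c60))))))))))))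
theorem f593277 : Led Lsl_gf (LP (LK LD1_c9 LD2_c1 LD3_c60)) = (LP (LK LD1_c16 LD2_c21 LD3_c60)) :=
  Lgr Lrot104 (Lpr_ct (K36.f407042 IH) (Lpe (K31.f297067 IH) (Lpe (K31.f407044 IH) (Lpr_gf (f542261 IH) (Lpe (K41.f566661 IH) (Lpr_gf (K41.f424222 IH) (Lpe (K41.f423884 IH) (Lpr_gt (K39.f424309 IH) (Lpr_ct (f593264 IH) (Lpn (LP (LK LD1_c16 LD2_c21 LD3_c60))))))))))))
theorem f593284 : Led Lsl_bt (LP (LK LD1_c25 LD2_c2 LD3_c15)) = (LP (LK LD1_c16 LD2_c21 LD3_c60)) :=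
  Lgr Lrot130 (Lpr_ct (f556599 IH) (Lpe (K43.f30517 IH) (Lpe (K7.f29364 IH) (Lpr_bt (K39.f30514 IH) (Lpe (K12.f229287 IH) (Lpe (K36.f229293 IH) (Lpr_ct (K18.f173338 IH) (Lpe (K31.f173341 IH) (Lpe (K36.f407042 IH) (Lpr_gf (f593277 IH) (Lpn (LP (LK LD1_c16 LD2_c21 LD3_c60)))))))))))))
theorem f593287 : Led Lsl_bf (LP (LK LD1_c25 LD2_c2 LD3_c15)) = (LP (LK LD1_c16 LD2_c21 LD3_c60)) :=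
  Lgr Lrot24 (Lpr_bt (f593284 IH) (Lpn (LP (LK LD1_c16 LD2_c21 LD3_c60))))
theorem f588669 : Led Lsl_gf (LP (LK LD1_c11 LD2_c23 LD3_c9)) = (LP (LK LD1_c15 LD2_c5 LD3_c43)) :=
  Lgr Lrot147 (Lpr_ct (f588660 IH) (Lpe (K44.f557111 IH) (Lpe (K9.f69779 IH) (Lpe (K39.f69784 IH) (Lpe (f69785 IH) (Lpr_gf (f573485 IH) (Lpe (f573487 IH) (Lpe (f573489 IH) (Lpe (K43.f564944 IH) (Lpn (LP (LK LD1_c15 LD2_c5 LD3_c43))))))))))))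
theorem f29444 : Led Lsl_ct (LP (LK LD1_c15 LD2_c7 LD3_c19)) = (LP (LK LD1_c8 LD2_c1 LD3_c53)) :=
  Lre_c IH (LK LD1_c15 LD2_c7 LD3_c19) (LK LD1_c8 LD2_c1 LD3_c53) Lrfl Lrfl
theorem f29445 : Led Lsl_gt (LP (LK LD1_c24 LD2_c55 LD3_c47)) = (LP (LK LD1_c15 LD2_c7 LD3_c19)) :=
  Lre_g IH (LK LD1_c24 LD2_c55 LD3_c47) (LK LD1_c15 LD2_c7 LD3_c19) Lrfl Lrfl
theorem f588671 : Led Lsl_ct (LP (LK LD1_c16 LD2_c21 LD3_c37)) = (LP (LK LD1_c24 LD2_c55 LD3_c47)) :=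
  Lgr Lrot152 (Lpr_gf (f587304 IH) (Lpe (f158643 IH) (Lpe (K42.f570983 IH) (Lpr_ct (K43.f570987 IH) (Lpe (f588669 IH) (Lpr_ct (f588660 IH) (Lpe (f573452 IH) (Lpe (f29444 IH) (Lpe (f29445 IH) (Lpn (LP (LK LD1_c24 LD2_c55 LD3_c47))))))))))))
theorem f588675 : Led Lsl_gt (LP (LK LD1_c16 LD2_c21 LD3_c37)) = (LP (LK LD1_c8 LD2_c44 LD3_c35)) :=
  Lgr Lrot180 (Lpr_ct (f588671 IH) (Lpr_gt (f29445 IH) (Lpr_dt (f400063 IH) (Lpr_gt (f400064 IH) (Lpe (f588261 IH) (Lpr_ct (f588056 IH) (Lpr_df (f588251 IH) (Lpe (f587263 IH) (Lpe (f554497 IH) (Lpn (LP (LK LD1_c8 LD2_c44 LD3_c35))))))))))))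
theorem f554514 : Led Lsl_at (LP (LK LD1_c16 LD2_c21 LD3_c55)) = (LP (LK LD1_c8 LD2_c44 LD3_c35)) :=
  Lre_a IH (LK LD1_c16 LD2_c21 LD3_c55) (LK LD1_c8 LD2_c44 LD3_c35) Lrfl Lrfl
theorem f588702 : Led Lsl_ft (LP (LK LD1_c25 LD2_c2 LD3_c15)) = (LP (LK LD1_c16 LD2_c21 LD3_c55)) :=
  Lgr Lrot2 (Lpe (f587304 IH) (Lpr_gt (f588675 IH) (Lpe (f554514 IH) (Lpn (LP (LK LD1_c16 LD2_c21 LD3_c55))))))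
theorem f552683 : Led Lsl_dt (LP (LK LD1_c20 LD2_c19 LD3_c5)) = (LP (LK LD1_c16 LD2_c20 LD3_c40)) :=
  Lgr Lrot42 (Lpr_df (K39.f552679 IH) (Lpn (LP (LK LD1_c16 LD2_c20 LD3_c40))))
theorem f423876 : Led Lsl_gt (LP (LK LD1_c5 LD2_c42 LD3_c27)) = (LP (LK LD1_c11 LD2_c15 LD3_c5)) :=
  Lre_g IH (LK LD1_c5 LD2_c42 LD3_c27) (LK LD1_c11 LD2_c15 LD3_c5) Lrfl Lrfl
theorem f588654 : Led Lsl_df (LP (LK LD1_c5 LD2_c46 LD3_c28)) = (LP (LK LD1_c11 LD2_c15 LD3_c5)) :=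
  Lgr Lrot153 (Lpr_gt (f588652 IH) (Lpr_dt (f419027 IH) (Lpr_cf (f552698 IH) (Lpe (f552683 IH) (Lpe (K39.f385397 IH) (Lpe (K30.f385388 IH) (Lpe (K39.f423871 IH) (Lpe (K36.f423869 IH) (Lpr_gt (f423876 IH) (Lpn (LP (LK LD1_c11 LD2_c15 LD3_c5))))))))))))
theorem f566655 : Led Lsl_cf (LP (LK LD1_c9 LD2_c45 LD3_c18)) = (LP (LK LD1_c11 LD2_c23 LD3_c49)) :=
  Lgr Lrot11 (Lpr_ct (K41.f566648 IH) (Lpn (LP (LK LD1_c11 LD2_c23 LD3_c49))))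
theorem f422932 : Led Lsl_dt (LP (LK LD1_c20 LD2_c10 LD3_c4)) = (LP (LK LD1_c11 LD2_c15 LD3_c7)) :=
  Lre_d IH (LK LD1_c20 LD2_c10 LD3_c4) (LK LD1_c11 LD2_c15 LD3_c7) Lrfl Lrfl
theorem f586994 : Led Lsl_dt (LP (LK LD1_c8 LD2_c37 LD3_c41)) = (LP (LK LD1_c15 LD2_c4 LD3_c6)) :=
  Lgr Lrot105 (Lpr_gf (f561553 IH) (Lpr_df (f552650 IH) (Lpe (K39.f557334 IH) (Lpr_cf (f566655 IH) (Lpr_gt (K41.f73117 IH) (Lpr_dt (K40.f73064 IH) (Lpr_gt (f586990 IH) (Lpr_dt (f422932 IH) (Lpr_cf (f422925 IH) (Lpn (LP (LK LD1_c15 LD2_c4 LD3_c6))))))))))))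
theorem f587003 : Led Lsl_at (LP (LK LD1_c16 LD2_c21 LD3_c60)) = (LP (LK LD1_c8 LD2_c44 LD3_c38)) :=
  Lre_a IH (LK LD1_c16 LD2_c21 LD3_c60) (LK LD1_c8 LD2_c44 LD3_c38) Lrfl Lrfl
theorem f588712 : Led Lsl_ft (LP (LK LD1_c11 LD2_c15 LD3_c5)) = (LP (LK LD1_c16 LD2_c21 LD3_c60)) :=
  Lgr Lrot142 (Lpe (f588654 IH) (Lpr_ct (f588708 IH) (Lpr_dt (f586994 IH) (Lpe (f422925 IH) (Lpr_dt (f422931 IH) (Lpe (f586996 IH) (Lpr_dt (f174452 IH) (Lpr_ct (K41.f174451 IH) (Lpe (f587003 IH) (Lpn (LP (LK LD1_c16 LD2_c21 LD3_c60))))))))))))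
theorem f593328 : Led Lsl_bt (LP (LK LD1_c16 LD2_c21 LD3_c55)) = (LP (LK LD1_c11 LD2_c15 LD3_c5)) :=
  Lgr Lrot35 (Lpe (f588702 IH) (Lpr_bf (f593287 IH) (Lpe (f588712 IH) (Lpn (LP (LK LD1_c11 LD2_c15 LD3_c5))))))
theorem f549211 : Led Lsl_bf (LP (LK LD1_c5 LD2_c42 LD3_c27)) = (LP (LK LD1_c8 LD2_c43 LD3_c52)) :=
  Lgr Lrot24 (Lpr_bt (K38.f549209 IH) (Lpn (LP (LK LD1_c8 LD2_c43 LD3_c52))))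
theorem f241334 : Led Lsl_gf (LP (LK LD1_c16 LD2_c21 LD3_c0)) = (LP (LK LD1_c11 LD2_c23 LD3_c44)) :=
  Lgr Lrot147 (Lpr_ct (K37.f197846 IH) (Lpr_gt (K37.f241332 IH) (Lpr_ct (K38.f193968 IH) (Lpe (K38.f197476 IH) (Lpe (K13.f59272 IH) (Lpe (K11.f60768 IH) (Lpr_cf (K1.f60597 IH) (Lpe (K13.f60604 IH) (Lpe (K13.f241093 IH) (Lpn (LP (LK LD1_c11 LD2_c23 LD3_c44))))))))))))
theorem f593334 : Led Lsl_ct (LP (LK LD1_c16 LD2_c21 LD3_c55)) = (LP (LK LD1_c15 LD2_c7 LD3_c23)) :=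
  Lgr Lrot64 (Lpr_bt (f593328 IH) (Lpe (f423876 IH) (Lpr_bf (f549211 IH) (Lpr_ct (K37.f212028 IH) (Lpr_gf (f241334 IH) (Lpe (K13.f175005 IH) (Lpr_gf (K13.f240781 IH) (Lpe (K39.f553949 IH) (Lpr_ct (K39.f29420 IH) (Lpe (f29424 IH) (Lpn (LP (LK LD1_c15 LD2_c7 LD3_c23)))))))))))))
theorem f29357 : Led Lsl_at (LP (LK LD1_c4 LD2_c0 LD3_c29)) = (LP (LK LD1_c8 LD2_c1 LD3_c44)) :=
  Lre_a IH (LK LD1_c4 LD2_c0 LD3_c29) (LK LD1_c8 LD2_c1 LD3_c44) Lrfl Lrfl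
theorem f29358 : Led Lsl_cf (LP (LK LD1_c8 LD2_c1 LD3_c44)) = (LP (LK LD1_c8 LD2_c1 LD3_c44)) :=
  Lgr Lrot1 (Lpr_at (K7.f29356 IH) (Lpr_ct (K7.f29352 IH) (Lpr_at (f29357 IH) (Lpn (LP (LK LD1_c8 LD2_c1 LD3_c44))))))
theorem f29521 : Led Lsl_ct (LP (LK LD1_c8 LD2_c1 LD3_c46)) = (LP (LK LD1_c4 LD2_c0 LD3_c25)) :=
  Lre_c IH (LK LD1_c8 LD2_c1 LD3_c46) (LK LD1_c4 LD2_c0 LD3_c25) Lrfl Lrfl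
theorem f588464 : Led Lsl_gt (LP (LK LD1_c13 LD2_c30 LD3_c36)) = (LP (LK LD1_c8 LD2_c1 LD3_c46)) :=
  Lgr Lrot180 (Lpr_ct (f588460 IH) (Lpr_gt (f552578 IH) (Lpr_dt (f572106 IH) (Lpr_gt (f572107 IH) (Lpe (f564951 IH) (Lpe (K42.f570989 IH) (Lpr_df (K43.f540738 IH) (Lpr_gf (K43.f570993 IH) (Lpe (K43.f29516 IH) (Lpn (LP (LK LD1_c8 LD2_c1 LD3_c46))))))))))))
theorem f593349 : Led Lsl_gf (LP (LK LD1_c16 LD2_c21 LD3_c55)) = (LP (LK LD1_c22 LD2_c51 LD3_c27)) :=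
  Lgr Lrot147 (Lpr_ct (f593334 IH) (Lpr_gt (f29424 IH) (Lpr_ct (f29423 IH) (Lpe (K39.f29421 IH) (Lpr_cf (f29358 IH) (Lpe (K44.f29450 IH) (Lpe (f29521 IH) (Lpe (f588464 IH) (Lpe (f565658 IH) (Lpn (LP (LK LD1_c22 LD2_c51 LD3_c27))))))))))))
theorem f593332 : Led Lsl_df (LP (LK LD1_c16 LD2_c21 LD3_c55)) = (LP (LK LD1_c11 LD2_c23 LD3_c9)) :=
  Lgr Lrot12 (Lpr_bt (f593328 IH) (Lpe (f588654 IH) (Lpr_bt (f588662 IH) (Lpn (LP (LK LD1_c11 LD2_c23 LD3_c9))))))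
theorem f593357 : Led Lsl_et (LP (LK LD1_c11 LD2_c23 LD3_c9)) = (LP (LK LD1_c13 LD2_c31 LD3_c9)) :=
  Lgr Lrot121 (Lpe (f593332 IH) (Lpr_gf (f593349 IH) (Lpe (f565659 IH) (Lpe (f569647 IH) (Lpe (K32.f158268 IH) (Lpe (K39.f138822 IH) (Lpr_dt (K42.f138823 IH) (Lpr_gf (K42.f570864 IH) (Lpe (K36.f98214 IH) (Lpe (K42.f98225 IH) (Lpn (LP (LK LD1_c13 LD2_c31 LD3_c9)))))))))))))
theorem f593355 : Led Lsl_dt (LP (LK LD1_c16 LD2_c21 LD3_c55)) = (LP (LK LD1_c11 LD2_c23 LD3_c9)) :=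
  Lgr Lrot105 (Lpr_gf (f593349 IH) (Lpe (f565659 IH) (Lpe (f575014 IH) (Lpe (K42.f29524 IH) (Lpr_gt (K39.f29513 IH) (Lpr_dt (K41.f29431 IH) (Lpr_gt (K43.f30811 IH) (Lpr_dt (f573452 IH) (Lpe (f588660 IH) (Lpn (LP (LK LD1_c11 LD2_c23 LD3_c9))))))))))))
theorem f588707 : Led Lsl_et (LP (LK LD1_c26 LD2_c19 LD3_c51)) = (LP (LK LD1_c16 LD2_c21 LD3_c55)) :=
  Lre_e IH (LK LD1_c26 LD2_c19 LD3_c51) (LK LD1_c16 LD2_c21 LD3_c55) Lrfl Lrfl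
theorem f98227 : Led Lsl_et (LP (LK LD1_c22 LD2_c52 LD3_c10)) = (LP (LK LD1_c30 LD2_c46 LD3_c2)) :=
  Lre_e IH (LK LD1_c22 LD2_c52 LD3_c10) (LK LD1_c30 LD2_c46 LD3_c2) Lrfl Lrfl
theorem f593359 : Led Lsl_df (LP (LK LD1_c26 LD2_c19 LD3_c51)) = (LP (LK LD1_c30 LD2_c46 LD3_c2)) :=
  Lgr Lrot70 (Lpr_et (f588707 IH) (Lpr_dt (f593355 IH) (Lpr_et (f593357 IH) (Lpr_dt (K42.f98385 IH) (Lpr_et (f98227 IH) (Lpn (LP (LK LD1_c30 LD2_c46 LD3_c2))))))))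
theorem f593364 : Led Lsl_dt (LP (LK LD1_c26 LD2_c19 LD3_c51)) = (LP (LK LD1_c30 LD2_c46 LD3_c2)) :=
  Lgr Lrot42 (Lpr_df (f593359 IH) (Lpn (LP (LK LD1_c30 LD2_c46 LD3_c2))))
theorem f593366 : Led Lsl_at (LP (LK LD1_c16 LD2_c21 LD3_c57)) = (LP (LK LD1_c26 LD2_c19 LD3_c51)) :=
  Lre_a IH (LK LD1_c16 LD2_c21 LD3_c57) (LK LD1_c26 LD2_c19 LD3_c51) Lrfl Lrfl
theorem f554517 : Led Lsl_dt (LP (LK LD1_c26 LD2_c19 LD3_c55)) = (LP (LK LD1_c16 LD2_c21 LD3_c57)) :=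
  Lre_d IH (LK LD1_c26 LD2_c19 LD3_c55) (LK LD1_c16 LD2_c21 LD3_c57) Lrfl Lrfl
theorem f593367 : Led Lsl_af (LP (LK LD1_c26 LD2_c19 LD3_c55)) = (LP (LK LD1_c30 LD2_c46 LD3_c2)) :=
  Lgr Lrot117 (Lpr_dt (f554517 IH) (Lpr_at (f593366 IH) (Lpr_dt (f593364 IH) (Lpn (LP (LK LD1_c30 LD2_c46 LD3_c2))))))
theorem f554516 : Led Lsl_et (LP (LK LD1_c16 LD2_c21 LD3_c57)) = (LP (LK LD1_c8 LD2_c44 LD3_c35)) :=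
  Lre_e IH (LK LD1_c16 LD2_c21 LD3_c57) (LK LD1_c8 LD2_c44 LD3_c35) Lrfl Lrfl
theorem f573257 : Led Lsl_et (LP (LK LD1_c20 LD2_c29 LD3_c24)) = (LP (LK LD1_c26 LD2_c19 LD3_c55)) :=
  Lgr Lrot71 (Lpr_df (K43.f573251 IH) (Lpr_ef (K42.f570999 IH) (Lpe (f554497 IH) (Lpe (f554516 IH) (Lpe (f554517 IH) (Lpn (LP (LK LD1_c26 LD2_c19 LD3_c55))))))))
theorem f573262 : Led Lsl_ef (LP (LK LD1_c20 LD2_c29 LD3_c24)) = (LP (LK LD1_c26 LD2_c19 LD3_c55)) :=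
  Lgr Lrot88 (Lpr_et (f573257 IH) (Lpn (LP (LK LD1_c26 LD2_c19 LD3_c55))))
theorem f593369 : Led Lsl_at (LP (LK LD1_c20 LD2_c29 LD3_c24)) = (LP (LK LD1_c22 LD2_c52 LD3_c10)) :=
  Lgr Lrot80 (Lpr_ef (f573262 IH) (Lpr_af (f593367 IH) (Lpe (f98227 IH) (Lpn (LP (LK LD1_c22 LD2_c52 LD3_c10))))))
theorem f593379 : Led Lsl_ff (LP (LK LD1_c20 LD2_c29 LD3_c24)) = (LP (LK LD1_c22 LD2_c52 LD3_c9)) :=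
  Lgr Lrot52 (Lpr_at (f593369 IH) (Lpe (K42.f570882 IH) (Lpr_gf (K43.f575016 IH) (Lpn (LP (LK LD1_c22 LD2_c52 LD3_c9))))))
theorem f593385 : Led Lsl_ft (LP (LK LD1_c20 LD2_c29 LD3_c24)) = (LP (LK LD1_c22 LD2_c52 LD3_c9)) :=
  Lgr Lrot48 (Lpr_ff (f593379 IH) (Lpn (LP (LK LD1_c22 LD2_c52 LD3_c9))))
theorem f593393 : Led Lsl_af (LP (LK LD1_c16 LD2_c31 LD3_c16)) = (LP (LK LD1_c22 LD2_c52 LD3_c9)) :=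
  Lgr Lrot31 (Lpr_gf (K43.f565846 IH) (Lpe (K43.f573247 IH) (Lpr_ft (f593385 IH) (Lpn (LP (LK LD1_c22 LD2_c52 LD3_c9))))))
theorem f593371 : Led Lsl_af (LP (LK LD1_c20 LD2_c29 LD3_c24)) = (LP (LK LD1_c22 LD2_c52 LD3_c10)) :=
  Lgr Lrot0 (Lpr_at (f593369 IH) (Lpn (LP (LK LD1_c22 LD2_c52 LD3_c10))))
theorem f593399 : Led Lsl_ft (LP (LK LD1_c16 LD2_c31 LD3_c16)) = (LP (LK LD1_c22 LD2_c52 LD3_c10)) :=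
  Lgr Lrot101 (Lpr_af (f593393 IH) (Lpe (f593385 IH) (Lpr_af (f593371 IH) (Lpn (LP (LK LD1_c22 LD2_c52 LD3_c10))))))
theorem f98226 : Led Lsl_dt (LP (LK LD1_c22 LD2_c52 LD3_c10)) = (LP (LK LD1_c13 LD2_c31 LD3_c9)) :=
  Lre_d IH (LK LD1_c22 LD2_c52 LD3_c10) (LK LD1_c13 LD2_c31 LD3_c9) Lrfl Lrfl
theorem f593403 : Led Lsl_ff (LP (LK LD1_c13 LD2_c27 LD3_c57)) = (LP (LK LD1_c13 LD2_c31 LD3_c9)) :=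
  Lgr Lrot19 (Lpe (K43.f575055 IH) (Lpr_ft (f593399 IH) (Lpr_dt (f98226 IH) (Lpn (LP (LK LD1_c13 LD2_c31 LD3_c9))))))
theorem f575815 : Led Lsl_bt (LP (LK LD1_c8 LD2_c5 LD3_c0)) = (LP (LK LD1_c5 LD2_c12 LD3_c58)) :=
  Lgr Lrot22 (Lpr_ct (K42.f421592 IH) (Lpe (K39.f81414 IH) (Lpr_cf (K39.f69756 IH) (Lpe (K39.f81412 IH) (Lpe (K39.f193616 IH) (Lpe (K39.f552279 IH) (Lpe (K39.f288194 IH) (Lpr_cf (K39.f552288 IH) (Lpr_bt (K43.f575811 IH) (Lpe (K44.f413415 IH) (Lpn (LP (LK LD1_c5 LD2_c12 LD3_c58)))))))))))))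
theorem f593201 : Led Lsl_ff (LP (LK LD1_c8 LD2_c5 LD3_c0)) = (LP (LK LD1_c10 LD2_c1 LD3_c27)) :=
  Lgr Lrot25 (Lpr_bt (f575815 IH) (Lpr_ft (f593199 IH) (Lpr_bt (K43.f572892 IH) (Lpn (LP (LK LD1_c10 LD2_c1 LD3_c27))))))
theorem f593412 : Led Lsl_ft (LP (LK LD1_c15 LD2_c13 LD3_c17)) = (LP (LK LD1_c11 LD2_c23 LD3_c9)) :=
  Lgr Lrot86 (Lpe (K42.f570978 IH) (Lpr_ff (f593201 IH) (Lpr_ef (K43.f575051 IH) (Lpr_ff (f593403 IH) (Lpe (f593357 IH) (Lpn (LP (LK LD1_c11 LD2_c23 LD3_c9))))))))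
theorem f593416 : Led Lsl_af (LP (LK LD1_c15 LD2_c23 LD3_c31)) = (LP (LK LD1_c11 LD2_c23 LD3_c9)) :=
  Lgr Lrot31 (Lpe (K42.f570991 IH) (Lpr_gf (K42.f570983 IH) (Lpr_ft (f593412 IH) (Lpn (LP (LK LD1_c11 LD2_c23 LD3_c9))))))
theorem f588663 : Led Lsl_cf (LP (LK LD1_c11 LD2_c23 LD3_c9)) = (LP (LK LD1_c9 LD2_c44 LD3_c33)) :=
  Lgr Lrot11 (Lpr_ct (f588660 IH) (Lpn (LP (LK LD1_c9 LD2_c44 LD3_c33))))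
theorem f593422 : Led Lsl_at (LP (LK LD1_c8 LD2_c10 LD3_c26)) = (LP (LK LD1_c9 LD2_c44 LD3_c33)) :=
  Lgr Lrot107 (Lpe (K39.f192834 IH) (Lpr_af (f593416 IH) (Lpr_cf (f588663 IH) (Lpn (LP (LK LD1_c9 LD2_c44 LD3_c33))))))
theorem f593428 : Led Lsl_ff (LP (LK LD1_c8 LD2_c10 LD3_c26)) = (LP (LK LD1_c9 LD2_c44 LD3_c34)) :=
  Lgr Lrot52 (Lpr_at (f593422 IH) (Lpe (K44.f239163 IH) (Lpe (K43.f297433 IH) (Lpn (LP (LK LD1_c9 LD2_c44 LD3_c34))))))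
theorem f593438 : Led Lsl_ft (LP (LK LD1_c8 LD2_c10 LD3_c26)) = (LP (LK LD1_c9 LD2_c44 LD3_c34)) :=
  Lgr Lrot48 (Lpr_ff (f593428 IH) (Lpn (LP (LK LD1_c9 LD2_c44 LD3_c34))))
theorem f593446 : Led Lsl_af (LP (LK LD1_c8 LD2_c5 LD3_c2)) = (LP (LK LD1_c9 LD2_c44 LD3_c34)) :=
  Lgr Lrot31 (Lpr_gf (K39.f552341 IH) (Lpe (K39.f53125 IH) (Lpr_ft (f593438 IH) (Lpn (LP (LK LD1_c9 LD2_c44 LD3_c34))))))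
theorem f593424 : Led Lsl_af (LP (LK LD1_c8 LD2_c10 LD3_c26)) = (LP (LK LD1_c9 LD2_c44 LD3_c33)) :=
  Lgr Lrot0 (Lpr_at (f593422 IH) (Lpn (LP (LK LD1_c9 LD2_c44 LD3_c33))))
theorem f593453 : Led Lsl_ft (LP (LK LD1_c8 LD2_c5 LD3_c2)) = (LP (LK LD1_c9 LD2_c44 LD3_c33)) :=
  Lgr Lrot101 (Lpr_af (f593446 IH) (Lpe (f593438 IH) (Lpr_af (f593424 IH) (Lpn (LP (LK LD1_c9 LD2_c44 LD3_c33))))))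
theorem f593459 : Led Lsl_ft (LP (LK LD1_c8 LD2_c5 LD3_c3)) = (LP (LK LD1_c4 LD2_c2 LD3_c16)) :=
  Lre_f IH (LK LD1_c8 LD2_c5 LD3_c3) (LK LD1_c4 LD2_c2 LD3_c16) Lrfl Lrfl
theorem f593460 : Led Lsl_et (LP (LK LD1_c15 LD2_c13 LD3_c21)) = (LP (LK LD1_c8 LD2_c5 LD3_c3)) :=
  Lre_e IH (LK LD1_c15 LD2_c13 LD3_c21) (LK LD1_c8 LD2_c5 LD3_c3) Lrfl Lrfl
theorem f593461 : Led Lsl_ff (LP (LK LD1_c15 LD2_c13 LD3_c21)) = (LP (LK LD1_c12 LD2_c8 LD3_c35)) :=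
  Lgr Lrot72 (Lpr_et (f593460 IH) (Lpr_ft (f593459 IH) (Lpr_et (K39.f158618 IH) (Lpr_ft (f593453 IH) (Lpr_et (K44.f582126 IH) (Lpn (LP (LK LD1_c12 LD2_c8 LD3_c35))))))))
theorem f593467 : Led Lsl_ft (LP (LK LD1_c15 LD2_c13 LD3_c21)) = (LP (LK LD1_c12 LD2_c8 LD3_c35)) :=
  Lgr Lrot48 (Lpr_ff (f593461 IH) (Lpn (LP (LK LD1_c12 LD2_c8 LD3_c35))))
theorem f582121 : Led Lsl_cf (LP (LK LD1_c13 LD2_c31 LD3_c9)) = (LP (LK LD1_c12 LD2_c8 LD3_c35)) :=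
  Lgr Lrot166 (Lpr_gt (K42.f98225 IH) (Lpr_dt (K36.f98214 IH) (Lpe (K42.f570864 IH) (Lpr_dt (K42.f424936 IH) (Lpr_ct (K39.f424943 IH) (Lpe (K42.f424948 IH) (Lpr_gf (K44.f582112 IH) (Lpe (K44.f418465 IH) (Lpe (K44.f196247 IH) (Lpn (LP (LK LD1_c12 LD2_c8 LD3_c35))))))))))))
theorem f593472 : Led Lsl_cf (LP (LK LD1_c15 LD2_c13 LD3_c21)) = (LP (LK LD1_c13 LD2_c27 LD3_c57)) :=
  Lgr Lrot108 (Lpr_ft (f593467 IH) (Lpe (f582121 IH) (Lpe (f593403 IH) (Lpn (LP (LK LD1_c13 LD2_c27 LD3_c57))))))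
theorem f575049 : Led Lsl_bf (LP (LK LD1_c10 LD2_c1 LD3_c29)) = (LP (LK LD1_c13 LD2_c27 LD3_c57)) :=
  Lgr Lrot96 (Lpr_et (K42.f164868 IH) (Lpr_bt (K43.f572892 IH) (Lpr_et (K43.f575047 IH) (Lpn (LP (LK LD1_c13 LD2_c27 LD3_c57))))))
theorem f173309 : Led Lsl_bt (LP (LK LD1_c4 LD2_c22 LD3_c33)) = (LP (LK LD1_c2 LD2_c8 LD3_c44)) :=
  Lre_b IH (LK LD1_c4 LD2_c22 LD3_c33) (LK LD1_c2 LD2_c8 LD3_c44) Lrfl Lrfl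
theorem f173315 : Led Lsl_bt (LP (LK LD1_c8 LD2_c43 LD3_c5)) = (LP (LK LD1_c4 LD2_c22 LD3_c35)) :=
  Lre_b IH (LK LD1_c8 LD2_c43 LD3_c5) (LK LD1_c4 LD2_c22 LD3_c35) Lrfl Lrfl
theorem f272454 : Led Lsl_cf (LP (LK LD1_c8 LD2_c43 LD3_c5)) = (LP (LK LD1_c8 LD2_c43 LD3_c5)) :=
  Lgr Lrot97 (Lpr_bt (f173315 IH) (Lpr_ct (K18.f229344 IH) (Lpr_bt (K31.f272446 IH) (Lpe (K12.f229346 IH) (Lpr_bt (K43.f229338 IH) (Lpn (LP (LK LD1_c8 LD2_c43 LD3_c5))))))))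
theorem f593488 : Led Lsl_gf (LP (LK LD1_c15 LD2_c13 LD3_c21)) = (LP (LK LD1_c8 LD2_c43 LD3_c5)) :=
  Lgr Lrot126 (Lpr_cf (f593472 IH) (Lpe (f575049 IH) (Lpr_gt (K42.f572937 IH) (Lpr_ct (K40.f173313 IH) (Lpr_gt (K40.f173312 IH) (Lpr_cf (K30.f173296 IH) (Lpr_bt (f173309 IH) (Lpr_gt (K12.f173314 IH) (Lpe (f173315 IH) (Lpe (f272454 IH) (Lpn (LP (LK LD1_c8 LD2_c43 LD3_c5)))))))))))))
theorem f593474 : Led Lsl_et (LP (LK LD1_c8 LD2_c5 LD3_c3)) = (LP (LK LD1_c15 LD2_c13 LD3_c21)) :=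
  Lre_e IH (LK LD1_c8 LD2_c5 LD3_c3) (LK LD1_c15 LD2_c13 LD3_c21) Lrfl Lrfl
theorem f593501 : Led Lsl_dt (LP (LK LD1_c8 LD2_c5 LD3_c3)) = (LP (LK LD1_c15 LD2_c13 LD3_c20)) :=
  Lre_d IH (LK LD1_c8 LD2_c5 LD3_c3) (LK LD1_c15 LD2_c13 LD3_c20) Lrfl Lrfl
theorem f229334 : Led Lsl_ef (LP (LK LD1_c8 LD2_c43 LD3_c5)) = (LP (LK LD1_c4 LD2_c24 LD3_c8)) :=
  Lgr Lrot29 (Lpr_bt (f173315 IH) (Lpr_et (K31.f229331 IH) (Lpr_bt (K43.f229333 IH) (Lpn (LP (LK LD1_c4 LD2_c24 LD3_c8))))))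
theorem f439374 : Led Lsl_gt (LP (LK LD1_c7 LD2_c18 LD3_c48)) = (LP (LK LD1_c7 LD2_c5 LD3_c37)) :=
  Lgr Lrot5 (Lpr_ft (K28.f426662 IH) (Lpe (K42.f426675 IH) (Lpr_gf (K24.f439372 IH) (Lpn (LP (LK LD1_c7 LD2_c5 LD3_c37))))))
theorem f574954 : Led Lsl_gf (LP (LK LD1_c13 LD2_c27 LD3_c54)) = (LP (LK LD1_c8 LD2_c38 LD3_c11)) :=
  Lgr Lrot143 (Lpr_dt (K43.f574944 IH) (Lpe (K3.f10675 IH) (Lpe (K43.f10674 IH) (Lpe (K43.f574910 IH) (Lpr_df (K24.f4983 IH) (Lpe (K24.f5545 IH) (Lpe (K24.f5552 IH) (Lpr_gt (f439374 IH) (Lpe (K40.f559055 IH) (Lpn (LP (LK LD1_c8 LD2_c38 LD3_c11))))))))))))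
theorem f593502 : Led Lsl_gt (LP (LK LD1_c15 LD2_c13 LD3_c20)) = (LP (LK LD1_c8 LD2_c38 LD3_c10)) :=
  Lgr Lrot112 (Lpe (f593501 IH) (Lpr_et (f593474 IH) (Lpr_gf (f593488 IH) (Lpr_ef (f229334 IH) (Lpe (K43.f560669 IH) (Lpr_gf (K36.f425495 IH) (Lpe (K43.f574944 IH) (Lpr_gf (f574954 IH) (Lpe (K32.f402903 IH) (Lpr_dt (K40.f402912 IH) (Lpn (LP (LK LD1_c8 LD2_c38 LD3_c10)))))))))))))
theorem f197728 : Led Lsl_dt (LP (LK LD1_c7 LD2_c59 LD3_c24)) = (LP (LK LD1_c15 LD2_c4 LD3_c0)) :=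
  Lre_d IH (LK LD1_c7 LD2_c59 LD3_c24) (LK LD1_c15 LD2_c4 LD3_c0) Lrfl Lrfl
theorem f69786 : Led Lsl_et (LP (LK LD1_c8 LD2_c5 LD3_c14)) = (LP (LK LD1_c4 LD2_c2 LD3_c20)) :=
  Lre_e IH (LK LD1_c8 LD2_c5 LD3_c14) (LK LD1_c4 LD2_c2 LD3_c20) Lrfl Lrfl
theorem f593512 : Led Lsl_gf (LP (LK LD1_c8 LD2_c5 LD3_c3)) = (LP (LK LD1_c4 LD2_c2 LD3_c20)) :=
  Lgr Lrot138 (Lpr_dt (f593501 IH) (Lpr_gt (f593502 IH) (Lpe (K40.f402912 IH) (Lpr_et (K32.f402903 IH) (Lpe (f574954 IH) (Lpe (f574933 IH) (Lpr_dt (f197728 IH) (Lpe (f588032 IH) (Lpe (f69782 IH) (Lpr_et (f69786 IH) (Lpn (LP (LK LD1_c4 LD2_c2 LD3_c20)))))))))))))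
theorem f69767 : Led Lsl_bt (LP (LK LD1_c1 LD2_c58 LD3_c10)) = (LP (LK LD1_c4 LD2_c2 LD3_c20)) :=
  Lre_b IH (LK LD1_c1 LD2_c58 LD3_c10) (LK LD1_c4 LD2_c2 LD3_c20) Lrfl Lrfl
theorem f33736 : Led Lsl_bt (LP (LK LD1_c4 LD2_c2 LD3_c20)) = (LP (LK LD1_c1 LD2_c58 LD3_c10)) :=
  Lre_b IH (LK LD1_c4 LD2_c2 LD3_c20) (LK LD1_c1 LD2_c58 LD3_c10) Lrfl Lrfl
theorem f69768 : Led Lsl_ct (LP (LK LD1_c4 LD2_c2 LD3_c20)) = (LP (LK LD1_c4 LD2_c2 LD3_c20)) :=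
  Lgr Lrot83 (Lpe (f69767 IH) (Lpe (K0.f33737 IH) (Lpr_bf (K9.f69761 IH) (Lpe (K0.f33776 IH) (Lpe (f33736 IH) (Lpn (LP (LK LD1_c4 LD2_c2 LD3_c20))))))))
def v1395 : LQ := Led Lsl_gf (LP (LK LD1_c1 LD2_c12 LD3_c9))
theorem f495325 : Led Lsl_gf (LP (LK LD1_c1 LD2_c12 LD3_c9)) = v1395 :=
  Lrfl
theorem f546664 : (LP (LK LD1_c2 LD2_c0 LD3_c8)) = v1395 :=
  (Llr Lrot152 (Lpe (K30.f197344 IH) (Lpe (K42.f545110 IH) (Lpe (K38.f36550 IH) (Lpe (K35.f538611 IH) (Lpr_ct (K35.f196167 IH) (Lpr_gt (K39.f546658 IH) (Lpr_ct (K39.f201910 IH) (Lpe (K39.f164859 IH) (Lpe (K38.f164879 IH) (Lpr_gf (f495325 IH) (Lpn v1395)))))))))))).symm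
theorem f495430 : Led Lsl_gf v1395 = K37.v1412 :=
  Lgr Lrot47 (Lpe (f495325 IH) (Lpe (K18.f164840 IH) (Lpr_ff (K38.f495423 IH) (Lpn K37.v1412))))
theorem f593522 : Led Lsl_cf (LP (LK LD1_c8 LD2_c5 LD3_c3)) = (LP (LK LD1_c10 LD2_c1 LD3_c27)) :=
  Lgr Lrot58 (Lpr_gf (f593512 IH) (Lpe (f69768 IH) (Lpr_bt (f33736 IH) (Lpe (K13.f197353 IH) (Lpe (K30.f197241 IH) (Lpr_ct (K30.f197344 IH) (Lpqs (f546664 IH) (Lpr_gf (f495430 IH) (Lpq (K37.f537888 IH) (Lpe (K42.f59203 IH) (Lpe (K42.f572915 IH) (Lpe (K43.f418096 IH) (Lpn (LP (LK LD1_c10 LD2_c1 LD3_c27)))))))))))))))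
theorem f573990 : Led Lsl_cf (LP (LK LD1_c4 LD2_c53 LD3_c48)) = (LP (LK LD1_c6 LD2_c15 LD3_c61)) :=
  Lgr Lrot39 (Lpe (K43.f573961 IH) (Lpr_ct (K40.f541712 IH) (Lpr_et (K43.f573988 IH) (Lpn (LP (LK LD1_c6 LD2_c15 LD3_c61))))))
theorem f593514 : Led Lsl_at (LP (LK LD1_c4 LD2_c2 LD3_c17)) = (LP (LK LD1_c8 LD2_c5 LD3_c3)) :=
  Lre_a IH (LK LD1_c4 LD2_c2 LD3_c17) (LK LD1_c8 LD2_c5 LD3_c3) Lrfl Lrfl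
theorem f593515 : Led Lsl_ft (LP (LK LD1_c8 LD2_c4 LD3_c60)) = (LP (LK LD1_c4 LD2_c2 LD3_c17)) :=
  Lre_f IH (LK LD1_c8 LD2_c4 LD3_c60) (LK LD1_c4 LD2_c2 LD3_c17) Lrfl Lrfl
theorem f593516 : Led Lsl_gt (LP (LK LD1_c8 LD2_c4 LD3_c60)) = (LP (LK LD1_c4 LD2_c2 LD3_c20)) :=
  Lgr Lrot5 (Lpr_ft (f593515 IH) (Lpr_at (f593514 IH) (Lpr_gf (f593512 IH) (Lpn (LP (LK LD1_c4 LD2_c2 LD3_c20))))))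
theorem f593526 : Led Lsl_bt (LP (LK LD1_c6 LD2_c15 LD3_c61)) = (LP (LK LD1_c8 LD2_c4 LD3_c60)) :=
  Lgr Lrot130 (Lpe (f573990 IH) (Lpr_gf (K43.f288167 IH) (Lpe (K36.f541257 IH) (Lpr_bt (K8.f59199 IH) (Lpe (K42.f572915 IH) (Lpe (K43.f418096 IH) (Lpe (f593522 IH) (Lpr_gf (f593512 IH) (Lpe (f69768 IH) (Lpe (f593516 IH) (Lpn (LP (LK LD1_c8 LD2_c4 LD3_c60)))))))))))))
theorem f593535 : Led Lsl_ff (LP (LK LD1_c6 LD2_c15 LD3_c61)) = (LP (LK LD1_c8 LD2_c5 LD3_c4)) :=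
  Lgr Lrot25 (Lpr_bt (f593526 IH) (Lpr_ft (f593515 IH) (Lpr_bt (K43.f552283 IH) (Lpn (LP (LK LD1_c8 LD2_c5 LD3_c4))))))
theorem f593543 : Led Lsl_at (LP (LK LD1_c6 LD2_c15 LD3_c61)) = (LP (LK LD1_c8 LD2_c12 LD3_c20)) :=
  Lgr Lrot26 (Lpr_ff (f593535 IH) (Lpr_gt (K39.f556453 IH) (Lpr_gt (K43.f575786 IH) (Lpn (LP (LK LD1_c8 LD2_c12 LD3_c20))))))
theorem f593553 : Led Lsl_af (LP (LK LD1_c6 LD2_c15 LD3_c30)) = (LP (LK LD1_c9 LD2_c44 LD3_c40)) :=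
  Lgr Lrot50 (Lpr_et (K43.f573988 IH) (Lpr_at (f593543 IH) (Lpr_et (K39.f541293 IH) (Lpn (LP (LK LD1_c9 LD2_c44 LD3_c40))))))
theorem f573984 : Led Lsl_gf (LP (LK LD1_c6 LD2_c15 LD3_c30)) = (LP (LK LD1_c7 LD2_c59 LD3_c7)) :=
  Lgr Lrot144 (Lpr_dt (K43.f561691 IH) (Lpr_gt (K43.f573982 IH) (Lpr_dt (K39.f181295 IH) (Lpe (K30.f174543 IH) (Lpe (K30.f181291 IH) (Lpe (K31.f411837 IH) (Lpe (K30.f173375 IH) (Lpe (K38.f175988 IH) (Lpe (K38.f193576 IH) (Lpn (LP (LK LD1_c7 LD2_c59 LD3_c7))))))))))))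
theorem f593563 : Led Lsl_ft (LP (LK LD1_c6 LD2_c15 LD3_c26)) = (LP (LK LD1_c9 LD2_c44 LD3_c40)) :=
  Lgr Lrot2 (Lpr_gt (K42.f561607 IH) (Lpe (f573984 IH) (Lpr_af (f593553 IH) (Lpn (LP (LK LD1_c9 LD2_c44 LD3_c40))))))
theorem f593573 : Led Lsl_ff (LP (LK LD1_c6 LD2_c15 LD3_c26)) = (LP (LK LD1_c9 LD2_c44 LD3_c40)) :=
  Lgr Lrot3 (Lpr_ft (f593563 IH) (Lpn (LP (LK LD1_c9 LD2_c44 LD3_c40))))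
theorem f593581 : Led Lsl_ft (LP (LK LD1_c12 LD2_c8 LD3_c52)) = (LP (LK LD1_c11 LD2_c12 LD3_c55)) :=
  Lgr Lrot54 (Lpe (K40.f60805 IH) (Lpr_ff (f593573 IH) (Lpr_df (f423620 IH) (Lpn (LP (LK LD1_c11 LD2_c12 LD3_c55))))))
theorem f593587 : Led Lsl_af (LP (LK LD1_c12 LD2_c8 LD3_c57)) = (LP (LK LD1_c11 LD2_c12 LD3_c55)) :=
  Lgr Lrot31 (Lpr_gf (K43.f573969 IH) (Lpe (K40.f559752 IH) (Lpr_ft (f593581 IH) (Lpn (LP (LK LD1_c11 LD2_c12 LD3_c55))))))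
theorem f573517 : Led Lsl_et (LP (LK LD1_c12 LD2_c8 LD3_c57)) = (LP (LK LD1_c21 LD2_c15 LD3_c12)) :=
  Lre_e IH (LK LD1_c12 LD2_c8 LD3_c57) (LK LD1_c21 LD2_c15 LD3_c12) Lrfl Lrfl
theorem f423618 : Led Lsl_et (LP (LK LD1_c20 LD2_c7 LD3_c23)) = (LP (LK LD1_c11 LD2_c12 LD3_c55)) :=
  Lre_e IH (LK LD1_c20 LD2_c7 LD3_c23) (LK LD1_c11 LD2_c12 LD3_c55) Lrfl Lrfl
theorem f593589 : Led Lsl_at (LP (LK LD1_c21 LD2_c15 LD3_c12)) = (LP (LK LD1_c20 LD2_c7 LD3_c23)) :=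
  Lgr Lrot80 (Lpe (f573517 IH) (Lpr_af (f593587 IH) (Lpe (f423618 IH) (Lpn (LP (LK LD1_c20 LD2_c7 LD3_c23))))))
theorem f573509 : Led Lsl_et (LP (LK LD1_c21 LD2_c15 LD3_c12)) = (LP (LK LD1_c12 LD2_c8 LD3_c57)) :=
  Lre_e IH (LK LD1_c21 LD2_c15 LD3_c12) (LK LD1_c12 LD2_c8 LD3_c57) Lrfl Lrfl
theorem f81007 : Led Lsl_dt (LP (LK LD1_c6 LD2_c15 LD3_c61)) = (LP (LK LD1_c12 LD2_c9 LD3_c39)) :=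
  Lre_d IH (LK LD1_c6 LD2_c15 LD3_c61) (LK LD1_c12 LD2_c9 LD3_c39) Lrfl Lrfl
theorem f569381 : Led Lsl_et (LP (LK LD1_c12 LD2_c9 LD3_c39)) = (LP (LK LD1_c21 LD2_c15 LD3_c43)) :=
  Lre_e IH (LK LD1_c12 LD2_c9 LD3_c39) (LK LD1_c21 LD2_c15 LD3_c43) Lrfl Lrfl
theorem f573992 : Led Lsl_df (LP (LK LD1_c21 LD2_c15 LD3_c12)) = (LP (LK LD1_c21 LD2_c15 LD3_c43)) :=
  Lgr Lrot70 (Lpr_et (f573509 IH) (Lpr_dt (K43.f561692 IH) (Lpr_et (K43.f573988 IH) (Lpr_dt (f81007 IH) (Lpr_et (f569381 IH) (Lpn (LP (LK LD1_c21 LD2_c15 LD3_c43))))))))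
theorem f593593 : Led Lsl_af (LP (LK LD1_c21 LD2_c15 LD3_c43)) = (LP (LK LD1_c25 LD2_c18 LD3_c11)) :=
  Lgr Lrot117 (Lpe (f573992 IH) (Lpr_at (f593589 IH) (Lpe (K39.f541298 IH) (Lpn (LP (LK LD1_c25 LD2_c18 LD3_c11))))))
theorem f593597 : Led Lsl_et (LP (LK LD1_c21 LD2_c15 LD3_c43)) = (LP (LK LD1_c12 LD2_c9 LD3_c39)) :=
  Lre_e IH (LK LD1_c21 LD2_c15 LD3_c43) (LK LD1_c12 LD2_c9 LD3_c39) Lrfl Lrfl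
theorem f541290 : Led Lsl_et (LP (LK LD1_c15 LD2_c26 LD3_c21)) = (LP (LK LD1_c25 LD2_c18 LD3_c11)) :=
  Lre_e IH (LK LD1_c15 LD2_c26 LD3_c21) (LK LD1_c25 LD2_c18 LD3_c11) Lrfl Lrfl
theorem f593598 : Led Lsl_at (LP (LK LD1_c12 LD2_c9 LD3_c39)) = (LP (LK LD1_c15 LD2_c26 LD3_c21)) :=
  Lgr Lrot80 (Lpe (f593597 IH) (Lpr_af (f593593 IH) (Lpe (f541290 IH) (Lpn (LP (LK LD1_c15 LD2_c26 LD3_c21))))))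
theorem f569380 : Led Lsl_dt (LP (LK LD1_c12 LD2_c9 LD3_c39)) = (LP (LK LD1_c6 LD2_c15 LD3_c61)) :=
  Lre_d IH (LK LD1_c12 LD2_c9 LD3_c39) (LK LD1_c6 LD2_c15 LD3_c61) Lrfl Lrfl
theorem f593521 : Led Lsl_dt (LP (LK LD1_c8 LD2_c4 LD3_c60)) = (LP (LK LD1_c15 LD2_c13 LD3_c13)) :=
  Lre_d IH (LK LD1_c8 LD2_c4 LD3_c60) (LK LD1_c15 LD2_c13 LD3_c13) Lrfl Lrfl
theorem f593533 : Led Lsl_bf (LP (LK LD1_c12 LD2_c9 LD3_c39)) = (LP (LK LD1_c15 LD2_c13 LD3_c13)) :=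
  Lgr Lrot93 (Lpr_dt (f569380 IH) (Lpr_bt (f593526 IH) (Lpr_dt (f593521 IH) (Lpn (LP (LK LD1_c15 LD2_c13 LD3_c13))))))
theorem f593505 : Led Lsl_at (LP (LK LD1_c8 LD2_c5 LD3_c1)) = (LP (LK LD1_c15 LD2_c13 LD3_c13)) :=
  Lre_a IH (LK LD1_c8 LD2_c5 LD3_c1) (LK LD1_c15 LD2_c13 LD3_c13) Lrfl Lrfl
theorem f541337 : Led Lsl_bt (LP (LK LD1_c15 LD2_c26 LD3_c21)) = (LP (LK LD1_c8 LD2_c12 LD3_c21)) :=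
  Lre_b IH (LK LD1_c15 LD2_c26 LD3_c21) (LK LD1_c8 LD2_c12 LD3_c21) Lrfl Lrfl
theorem f593600 : Led Lsl_af (LP (LK LD1_c15 LD2_c13 LD3_c14)) = (LP (LK LD1_c8 LD2_c12 LD3_c21)) :=
  Lgr Lrot36 (Lpr_bt (f552322 IH) (Lpr_at (f593505 IH) (Lpe (f593533 IH) (Lpr_at (f593598 IH) (Lpr_bt (f541337 IH) (Lpn (LP (LK LD1_c8 LD2_c12 LD3_c21))))))))
theorem f593610 : Led Lsl_ft (LP (LK LD1_c15 LD2_c26 LD3_c24)) = (LP (LK LD1_c8 LD2_c12 LD3_c21)) :=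
  Lre_f IH (LK LD1_c15 LD2_c26 LD3_c24) (LK LD1_c8 LD2_c12 LD3_c21) Lrfl Lrfl
theorem f593614 : Led Lsl_gf (LP (LK LD1_c11 LD2_c33 LD3_c42)) = (LP (LK LD1_c15 LD2_c26 LD3_c24)) :=
  Lgr Lrot47 (Lpr_gt (f590404 IH) (Lpr_af (f593600 IH) (Lpe (f593610 IH) (Lpn (LP (LK LD1_c15 LD2_c26 LD3_c24))))))
theorem f593624 : Led Lsl_dt (LP (LK LD1_c8 LD2_c12 LD3_c23)) = (LP (LK LD1_c15 LD2_c26 LD3_c24)) :=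
  Lre_d IH (LK LD1_c8 LD2_c12 LD3_c23) (LK LD1_c15 LD2_c26 LD3_c24) Lrfl Lrfl
theorem f593636 : Led Lsl_ef (LP (LK LD1_c12 LD2_c10 LD3_c57)) = (LP (LK LD1_c8 LD2_c12 LD3_c23)) :=
  Lgr Lrot17 (Lpr_gf (K43.f559580 IH) (Lpe (K43.f558754 IH) (Lpr_dt (K40.f558747 IH) (Lpe (K36.f88514 IH) (Lpr_df (K40.f502721 IH) (Lpe (K38.f98530 IH) (Lpe (K37.f543910 IH) (Lpr_dt (K41.f428018 IH) (Lpr_gf (f593614 IH) (Lpe (f593624 IH) (Lpn (LP (LK LD1_c8 LD2_c12 LD3_c23)))))))))))))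
theorem f559736 : Led Lsl_bt (LP (LK LD1_c6 LD2_c15 LD3_c26)) = (LP (LK LD1_c5 LD2_c37 LD3_c36)) :=
  Lgr Lrot128 (Lpe (K42.f60802 IH) (Lpr_bf (K40.f559732 IH) (Lpe (K35.f289410 IH) (Lpe (K38.f402571 IH) (Lpe (K39.f387058 IH) (Lpn (LP (LK LD1_c5 LD2_c37 LD3_c36))))))))
theorem f593577 : Led Lsl_ft (LP (LK LD1_c5 LD2_c37 LD3_c36)) = (LP (LK LD1_c8 LD2_c12 LD3_c22)) :=
  Lgr Lrot75 (Lpe (f559736 IH) (Lpr_ff (f593573 IH) (Lpe (K39.f541279 IH) (Lpn (LP (LK LD1_c8 LD2_c12 LD3_c22))))))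
theorem f593650 : Led Lsl_ft (LP (LK LD1_c12 LD2_c10 LD3_c57)) = (LP (LK LD1_c11 LD2_c6 LD3_c45)) :=
  Lgr Lrot86 (Lpr_ef (f593636 IH) (Lpe (f590791 IH) (Lpe (K40.f541295 IH) (Lpe (f593577 IH) (Lpe (K43.f552022 IH) (Lpn (LP (LK LD1_c11 LD2_c6 LD3_c45))))))))
theorem f593654 : Led Lsl_af (LP (LK LD1_c12 LD2_c10 LD3_c59)) = (LP (LK LD1_c11 LD2_c6 LD3_c45)) :=
  Lgr Lrot31 (Lpr_gf (K43.f578789 IH) (Lpr_gf (K42.f570178 IH) (Lpr_ft (f593650 IH) (Lpn (LP (LK LD1_c11 LD2_c6 LD3_c45))))))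
theorem f571880 : Led Lsl_et (LP (LK LD1_c12 LD2_c10 LD3_c59)) = (LP (LK LD1_c8 LD2_c37 LD3_c42)) :=
  Lgr Lrot158 (Lpe (K43.f450395 IH) (Lpr_ef (K42.f571875 IH) (Lpe (K40.f225663 IH) (Lpn (LP (LK LD1_c8 LD2_c37 LD3_c42))))))
theorem f427687 : Led Lsl_et (LP (LK LD1_c5 LD2_c37 LD3_c36)) = (LP (LK LD1_c11 LD2_c6 LD3_c45)) :=
  Lre_e IH (LK LD1_c5 LD2_c37 LD3_c36) (LK LD1_c11 LD2_c6 LD3_c45) Lrfl Lrfl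
theorem f593660 : Led Lsl_at (LP (LK LD1_c8 LD2_c37 LD3_c42)) = (LP (LK LD1_c5 LD2_c37 LD3_c36)) :=
  Lgr Lrot80 (Lpe (f571880 IH) (Lpr_af (f593654 IH) (Lpe (f427687 IH) (Lpn (LP (LK LD1_c5 LD2_c37 LD3_c36))))))
theorem f593668 : Led Lsl_ff (LP (LK LD1_c8 LD2_c37 LD3_c42)) = (LP (LK LD1_c5 LD2_c37 LD3_c39)) :=
  Lgr Lrot52 (Lpr_at (f593660 IH) (Lpe (K39.f552015 IH) (Lpr_gf (f552392 IH) (Lpn (LP (LK LD1_c5 LD2_c37 LD3_c39))))))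
theorem f593674 : Led Lsl_ft (LP (LK LD1_c15 LD2_c7 LD3_c18)) = (LP (LK LD1_c11 LD2_c6 LD3_c46)) :=
  Lgr Lrot54 (Lpr_df (K40.f557109 IH) (Lpr_ff (f593668 IH) (Lpe (K39.f386975 IH) (Lpn (LP (LK LD1_c11 LD2_c6 LD3_c46))))))
theorem f593682 : Led Lsl_ff (LP (LK LD1_c15 LD2_c7 LD3_c18)) = (LP (LK LD1_c11 LD2_c6 LD3_c46)) :=
  Lgr Lrot3 (Lpr_ft (f593674 IH) (Lpn (LP (LK LD1_c11 LD2_c6 LD3_c46))))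
theorem f593686 : Led Lsl_at (LP (LK LD1_c15 LD2_c7 LD3_c18)) = (LP (LK LD1_c11 LD2_c6 LD3_c44)) :=
  Lgr Lrot26 (Lpr_ff (f593682 IH) (Lpe (K39.f552380 IH) (Lpr_gt (K39.f427681 IH) (Lpn (LP (LK LD1_c11 LD2_c6 LD3_c44))))))
theorem f593689 : Led Lsl_af (LP (LK LD1_c24 LD2_c46 LD3_c5)) = (LP (LK LD1_c14 LD2_c58 LD3_c49)) :=
  Lgr Lrot68 (Lpe (K40.f236873 IH) (Lpr_at (f593686 IH) (Lpr_ct (K41.f556813 IH) (Lpn (LP (LK LD1_c14 LD2_c58 LD3_c49))))))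
theorem f593703 : Led Lsl_ft (LP (LK LD1_c24 LD2_c46 LD3_c6)) = (LP (LK LD1_c14 LD2_c58 LD3_c49)) :=
  Lgr Lrot2 (Lpr_gt (K42.f174729 IH) (Lpr_gt (K40.f236868 IH) (Lpr_af (f593689 IH) (Lpn (LP (LK LD1_c14 LD2_c58 LD3_c49))))))
theorem f593707 : Led Lsl_ff (LP (LK LD1_c15 LD2_c26 LD3_c25)) = (LP (LK LD1_c11 LD2_c6 LD3_c44)) :=
  Lgr Lrot23 (Lpr_ct (K39.f541312 IH) (Lpr_ft (f593703 IH) (Lpe (K41.f556811 IH) (Lpn (LP (LK LD1_c11 LD2_c6 LD3_c44))))))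
theorem f593713 : Led Lsl_at (LP (LK LD1_c15 LD2_c26 LD3_c25)) = (LP (LK LD1_c11 LD2_c6 LD3_c46)) :=
  Lgr Lrot66 (Lpr_ff (f593707 IH) (Lpe (f593686 IH) (Lpr_ff (f593682 IH) (Lpn (LP (LK LD1_c11 LD2_c6 LD3_c46))))))
theorem f552355 : Led Lsl_et (LP (LK LD1_c11 LD2_c6 LD3_c46)) = (LP (LK LD1_c20 LD2_c0 LD3_c5)) :=
  Lre_e IH (LK LD1_c11 LD2_c6 LD3_c46) (LK LD1_c20 LD2_c0 LD3_c5) Lrfl Lrfl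
theorem f593715 : Led Lsl_af (LP (LK LD1_c25 LD2_c18 LD3_c14)) = (LP (LK LD1_c20 LD2_c0 LD3_c5)) :=
  Lgr Lrot50 (Lpr_et (K39.f541309 IH) (Lpr_at (f593713 IH) (Lpr_et (f552355 IH) (Lpn (LP (LK LD1_c20 LD2_c0 LD3_c5))))))
theorem f593591 : Led Lsl_af (LP (LK LD1_c21 LD2_c15 LD3_c12)) = (LP (LK LD1_c20 LD2_c7 LD3_c23)) :=
  Lgr Lrot0 (Lpr_at (f593589 IH) (Lpn (LP (LK LD1_c20 LD2_c7 LD3_c23))))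
theorem f547302 : Led Lsl_bt (LP (LK LD1_c3 LD2_c4 LD3_c48)) = (LP (LK LD1_c6 LD2_c15 LD3_c29)) :=
  Lre_b IH (LK LD1_c3 LD2_c4 LD3_c48) (LK LD1_c6 LD2_c15 LD3_c29) Lrfl Lrfl
theorem f547303 : Led Lsl_bt (LP (LK LD1_c9 LD2_c44 LD3_c34)) = (LP (LK LD1_c6 LD2_c15 LD3_c30)) :=
  Lgr Lrot128 (Lpr_cf (K43.f419028 IH) (Lpe (K43.f419030 IH) (Lpr_cf (K38.f547291 IH) (Lpe (f547302 IH) (Lpe (K40.f60807 IH) (Lpn (LP (LK LD1_c6 LD2_c15 LD3_c30))))))))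
theorem f573440 : Led Lsl_bf (LP (LK LD1_c8 LD2_c1 LD3_c54)) = (LP (LK LD1_c12 LD2_c8 LD3_c57)) :=
  Lgr Lrot93 (Lpr_dt (K44.f573436 IH) (Lpr_bt (f547303 IH) (Lpr_dt (K43.f561691 IH) (Lpn (LP (LK LD1_c12 LD2_c8 LD3_c57))))))
theorem f573438 : Led Lsl_et (LP (LK LD1_c8 LD2_c1 LD3_c54)) = (LP (LK LD1_c15 LD2_c7 LD3_c22)) :=
  Lre_e IH (LK LD1_c8 LD2_c1 LD3_c54) (LK LD1_c15 LD2_c7 LD3_c22) Lrfl Lrfl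
theorem f573510 : Led Lsl_bt (LP (LK LD1_c15 LD2_c7 LD3_c22)) = (LP (LK LD1_c21 LD2_c15 LD3_c12)) :=
  Lgr Lrot119 (Lpe (f573438 IH) (Lpr_bf (f573440 IH) (Lpe (f573509 IH) (Lpn (LP (LK LD1_c21 LD2_c15 LD3_c12))))))
theorem f573512 : Led Lsl_bf (LP (LK LD1_c15 LD2_c7 LD3_c22)) = (LP (LK LD1_c21 LD2_c15 LD3_c12)) :=
  Lgr Lrot24 (Lpr_bt (f573510 IH) (Lpn (LP (LK LD1_c21 LD2_c15 LD3_c12))))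
theorem f593719 : Led Lsl_at (LP (LK LD1_c15 LD2_c7 LD3_c22)) = (LP (LK LD1_c24 LD2_c55 LD3_c37)) :=
  Lgr Lrot67 (Lpr_bf (f573512 IH) (Lpr_af (f593591 IH) (Lpe (K39.f541302 IH) (Lpr_af (f593715 IH) (Lpe (K39.f552369 IH) (Lpn (LP (LK LD1_c24 LD2_c55 LD3_c37))))))))
theorem f573442 : Led Lsl_dt (LP (LK LD1_c24 LD2_c55 LD3_c57)) = (LP (LK LD1_c15 LD2_c7 LD3_c22)) :=
  Lre_d IH (LK LD1_c24 LD2_c55 LD3_c57) (LK LD1_c15 LD2_c7 LD3_c22) Lrfl Lrfl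
theorem f593726 : Led Lsl_af (LP (LK LD1_c24 LD2_c55 LD3_c57)) = (LP (LK LD1_c15 LD2_c13 LD3_c19)) :=
  Lgr Lrot117 (Lpr_dt (f573442 IH) (Lpr_at (f593719 IH) (Lpe (K39.f158622 IH) (Lpn (LP (LK LD1_c15 LD2_c13 LD3_c19))))))
theorem f158640 : Led Lsl_et (LP (LK LD1_c8 LD2_c5 LD3_c1)) = (LP (LK LD1_c15 LD2_c13 LD3_c19)) :=
  Lre_e IH (LK LD1_c8 LD2_c5 LD3_c1) (LK LD1_c15 LD2_c13 LD3_c19) Lrfl Lrfl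
theorem f593733 : Led Lsl_et (LP (LK LD1_c24 LD2_c55 LD3_c57)) = (LP (LK LD1_c15 LD2_c13 LD3_c13)) :=
  Lgr Lrot123 (Lpr_af (f593726 IH) (Lpe (f158640 IH) (Lpe (K39.f552334 IH) (Lpn (LP (LK LD1_c15 LD2_c13 LD3_c13))))))
theorem f593749 : Led Lsl_ef (LP (LK LD1_c24 LD2_c55 LD3_c57)) = (LP (LK LD1_c15 LD2_c13 LD3_c13)) :=
  Lgr Lrot88 (Lpr_et (f593733 IH) (Lpn (LP (LK LD1_c15 LD2_c13 LD3_c13))))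
theorem f553966 : Led Lsl_et (LP (LK LD1_c15 LD2_c7 LD3_c22)) = (LP (LK LD1_c8 LD2_c1 LD3_c54)) :=
  Lre_e IH (LK LD1_c15 LD2_c7 LD3_c22) (LK LD1_c8 LD2_c1 LD3_c54) Lrfl Lrfl
theorem f593761 : Led Lsl_et (LP (LK LD1_c9 LD2_c44 LD3_c34)) = (LP (LK LD1_c8 LD2_c4 LD3_c60)) :=
  Lgr Lrot71 (Lpe (K44.f573436 IH) (Lpe (f553966 IH) (Lpe (f573442 IH) (Lpr_ef (f593749 IH) (Lpe (f593521 IH) (Lpn (LP (LK LD1_c8 LD2_c4 LD3_c60))))))))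
theorem f81434 : Led Lsl_et (LP (LK LD1_c3 LD2_c3 LD3_c59)) = (LP (LK LD1_c4 LD2_c2 LD3_c18)) :=
  Lgr Lrot87 (Lpr_ef (K39.f81406 IH) (Lpn (LP (LK LD1_c4 LD2_c2 LD3_c18))))
theorem f593767 : Led Lsl_gt (LP (LK LD1_c4 LD2_c2 LD3_c18)) = (LP (LK LD1_c8 LD2_c4 LD3_c60)) :=
  Lgr Lrot131 (Lpe (f81434 IH) (Lpe (K36.f542510 IH) (Lpr_gf (K40.f542533 IH) (Lpe (K8.f29485 IH) (Lpe (K6.f29498 IH) (Lpe (K44.f29494 IH) (Lpr_dt (K41.f29431 IH) (Lpe (K44.f29512 IH) (Lpr_df (K44.f573431 IH) (Lpr_et (f593761 IH) (Lpn (LP (LK LD1_c8 LD2_c4 LD3_c60)))))))))))))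
theorem f81439 : Led Lsl_cf (LP (LK LD1_c4 LD2_c2 LD3_c18)) = (LP (LK LD1_c4 LD2_c2 LD3_c18)) :=
  Lgr Lrot39 (Lpe (K39.f81406 IH) (Lpr_ct (K36.f81393 IH) (Lpr_et (f81434 IH) (Lpn (LP (LK LD1_c4 LD2_c2 LD3_c18))))))
theorem f69791 : Led Lsl_ft (LP (LK LD1_c4 LD2_c2 LD3_c20)) = (LP (LK LD1_c1 LD2_c58 LD3_c8)) :=
  Lre_f IH (LK LD1_c4 LD2_c2 LD3_c20) (LK LD1_c1 LD2_c58 LD3_c8) Lrfl Lrfl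
theorem f593518 : Led Lsl_gt (LP (LK LD1_c8 LD2_c5 LD3_c3)) = (LP (LK LD1_c4 LD2_c2 LD3_c18)) :=
  Lgr Lrot46 (Lpr_gf (f593512 IH) (Lpr_ft (f69791 IH) (Lpr_at (K39.f33709 IH) (Lpn (LP (LK LD1_c4 LD2_c2 LD3_c18))))))
theorem f46851 : Led Lsl_bt (LP (LK LD1_c1 LD2_c59 LD3_c33)) = (LP (LK LD1_c0 LD2_c56 LD3_c41)) :=
  Lre_b IH (LK LD1_c1 LD2_c59 LD3_c33) (LK LD1_c0 LD2_c56 LD3_c41) Lrfl Lrfl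
theorem f593524 : Led Lsl_bf (LP (LK LD1_c8 LD2_c5 LD3_c3)) = (LP (LK LD1_c4 LD2_c5 LD3_c55)) :=
  Lgr Lrot34 (Lpr_gf (f593512 IH) (Lpe (f69767 IH) (Lpr_ct (K0.f33776 IH) (Lpr_gf (K10.f196152 IH) (Lpe (K13.f69720 IH) (Lpe (K13.f181993 IH) (Lpe (f46851 IH) (Lpr_ct (K38.f73279 IH) (Lpe (K42.f79921 IH) (Lpe (K43.f46875 IH) (Lpn (LP (LK LD1_c4 LD2_c5 LD3_c55)))))))))))))
theorem f593771 : Led Lsl_ct (LP (LK LD1_c8 LD2_c25 LD3_c53)) = (LP (LK LD1_c8 LD2_c4 LD3_c60)) :=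
  Lgr Lrot63 (Lpr_bt (K43.f46873 IH) (Lpr_gt (f46872 IH) (Lpr_bf (K43.f46856 IH) (Lpr_ct (K40.f46867 IH) (Lpr_gt (f46874 IH) (Lpe (K43.f46875 IH) (Lpe (f593524 IH) (Lpr_gt (f593518 IH) (Lpe (f81439 IH) (Lpr_gt (f593767 IH) (Lpn (LP (LK LD1_c8 LD2_c4 LD3_c60)))))))))))))
theorem f593775 : Led Lsl_ff (LP (LK LD1_c8 LD2_c25 LD3_c53)) = (LP (LK LD1_c8 LD2_c5 LD3_c5)) :=
  Lgr Lrot23 (Lpr_ct (f593771 IH) (Lpr_ft (f593515 IH) (Lpr_ct (K43.f552274 IH) (Lpn (LP (LK LD1_c8 LD2_c5 LD3_c5))))))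
theorem f593789 : Led Lsl_at (LP (LK LD1_c8 LD2_c25 LD3_c53)) = (LP (LK LD1_c8 LD2_c5 LD3_c0)) :=
  Lgr Lrot26 (Lpr_ff (f593775 IH) (Lpr_gt (K43.f574564 IH) (Lpe (K43.f574584 IH) (Lpn (LP (LK LD1_c8 LD2_c5 LD3_c0))))))
theorem f575817 : Led Lsl_bf (LP (LK LD1_c8 LD2_c5 LD3_c0)) = (LP (LK LD1_c5 LD2_c12 LD3_c58)) :=
  Lgr Lrot24 (Lpr_bt (f575815 IH) (Lpn (LP (LK LD1_c5 LD2_c12 LD3_c58))))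
theorem f593211 : Led Lsl_ft (LP (LK LD1_c8 LD2_c5 LD3_c0)) = (LP (LK LD1_c10 LD2_c1 LD3_c27)) :=
  Lgr Lrot75 (Lpr_bf (f575817 IH) (Lpr_ff (f593209 IH) (Lpe (K43.f418096 IH) (Lpn (LP (LK LD1_c10 LD2_c1 LD3_c27))))))
theorem f593795 : Led Lsl_af (LP (LK LD1_c8 LD2_c5 LD3_c5)) = (LP (LK LD1_c10 LD2_c1 LD3_c27)) :=
  Lgr Lrot45 (Lpe (f593775 IH) (Lpr_at (f593789 IH) (Lpr_ft (f593211 IH) (Lpn (LP (LK LD1_c10 LD2_c1 LD3_c27))))))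
theorem f593801 : Led Lsl_at (LP (LK LD1_c15 LD2_c13 LD3_c23)) = (LP (LK LD1_c18 LD2_c19 LD3_c2)) :=
  Lgr Lrot51 (Lpe (K43.f552276 IH) (Lpr_af (f593795 IH) (Lpe (K43.f573760 IH) (Lpn (LP (LK LD1_c18 LD2_c19 LD3_c2))))))
theorem f572955 : Led Lsl_bt (LP (LK LD1_c18 LD2_c19 LD3_c2)) = (LP (LK LD1_c10 LD2_c1 LD3_c28)) :=
  Lre_b IH (LK LD1_c18 LD2_c19 LD3_c2) (LK LD1_c10 LD2_c1 LD3_c28) Lrfl Lrfl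
theorem f582563 : Led Lsl_df (LP (LK LD1_c5 LD2_c12 LD3_c59)) = (LP (LK LD1_c10 LD2_c4 LD3_c8)) :=
  Lgr Lrot38 (Lpr_dt (K44.f582559 IH) (Lpn (LP (LK LD1_c10 LD2_c4 LD3_c8))))
theorem f593171 : Led Lsl_af (LP (LK LD1_c10 LD2_c4 LD3_c8)) = (LP (LK LD1_c10 LD2_c1 LD3_c28)) :=
  Lgr Lrot117 (Lpe (f582563 IH) (Lpr_at (f593165 IH) (Lpr_dt (K42.f164869 IH) (Lpn (LP (LK LD1_c10 LD2_c1 LD3_c28))))))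
theorem f56294 : Led Lsl_dt (LP (LK LD1_c8 LD2_c25 LD3_c56)) = (LP (LK LD1_c4 LD2_c13 LD3_c29)) :=
  Lre_d IH (LK LD1_c8 LD2_c25 LD3_c56) (LK LD1_c4 LD2_c13 LD3_c29) Lrfl Lrfl
theorem f582561 : Led Lsl_bf (LP (LK LD1_c8 LD2_c25 LD3_c56)) = (LP (LK LD1_c10 LD2_c4 LD3_c8)) :=
  Lgr Lrot93 (Lpr_dt (f56294 IH) (Lpr_bt (K43.f575804 IH) (Lpr_dt (K44.f582559 IH) (Lpn (LP (LK LD1_c10 LD2_c4 LD3_c8))))))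
theorem f593805 : Led Lsl_at (LP (LK LD1_c8 LD2_c25 LD3_c56)) = (LP (LK LD1_c15 LD2_c50 LD3_c9)) :=
  Lre_a IH (LK LD1_c8 LD2_c25 LD3_c56) (LK LD1_c15 LD2_c50 LD3_c9) Lrfl Lrfl
theorem f593806 : Led Lsl_bf (LP (LK LD1_c15 LD2_c13 LD3_c23)) = (LP (LK LD1_c15 LD2_c50 LD3_c9)) :=
  Lgr Lrot81 (Lpr_at (f593801 IH) (Lpr_bt (f572955 IH) (Lpe (f593171 IH) (Lpe (f582561 IH) (Lpr_at (f593805 IH) (Lpn (LP (LK LD1_c15 LD2_c50 LD3_c9))))))))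
theorem f574528 : Led Lsl_ft (LP (LK LD1_c8 LD2_c25 LD3_c54)) = (LP (LK LD1_c15 LD2_c50 LD3_c9)) :=
  Lre_f IH (LK LD1_c8 LD2_c25 LD3_c54) (LK LD1_c15 LD2_c50 LD3_c9) Lrfl Lrfl
theorem f574642 : Led Lsl_bt (LP (LK LD1_c15 LD2_c50 LD3_c6)) = (LP (LK LD1_c8 LD2_c25 LD3_c54)) :=
  Lre_b IH (LK LD1_c15 LD2_c50 LD3_c6) (LK LD1_c8 LD2_c25 LD3_c54) Lrfl Lrfl
theorem f593826 : Led Lsl_ft (LP (LK LD1_c15 LD2_c13 LD3_c23)) = (LP (LK LD1_c15 LD2_c50 LD3_c6)) :=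
  Lgr Lrot75 (Lpr_bf (f593806 IH) (Lpe (f574528 IH) (Lpe (f574642 IH) (Lpn (LP (LK LD1_c15 LD2_c50 LD3_c6))))))
theorem f593803 : Led Lsl_af (LP (LK LD1_c15 LD2_c13 LD3_c23)) = (LP (LK LD1_c18 LD2_c19 LD3_c2)) :=
  Lgr Lrot0 (Lpr_at (f593801 IH) (Lpn (LP (LK LD1_c18 LD2_c19 LD3_c2))))
theorem f552275 : Led Lsl_dt (LP (LK LD1_c15 LD2_c13 LD3_c23)) = (LP (LK LD1_c8 LD2_c5 LD3_c5)) :=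
  Lre_d IH (LK LD1_c15 LD2_c13 LD3_c23) (LK LD1_c8 LD2_c5 LD3_c5) Lrfl Lrfl
theorem f593785 : Led Lsl_ft (LP (LK LD1_c15 LD2_c50 LD3_c6)) = (LP (LK LD1_c15 LD2_c13 LD3_c23)) :=
  Lgr Lrot54 (Lpe (K43.f574546 IH) (Lpr_ff (f593775 IH) (Lpe (f552275 IH) (Lpn (LP (LK LD1_c15 LD2_c13 LD3_c23))))))
theorem f574568 : Led Lsl_dt (LP (LK LD1_c15 LD2_c50 LD3_c6)) = (LP (LK LD1_c8 LD2_c25 LD3_c53)) :=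
  Lre_d IH (LK LD1_c15 LD2_c50 LD3_c6) (LK LD1_c8 LD2_c25 LD3_c53) Lrfl Lrfl
theorem f593793 : Led Lsl_af (LP (LK LD1_c15 LD2_c50 LD3_c6)) = (LP (LK LD1_c15 LD2_c13 LD3_c16)) :=
  Lgr Lrot117 (Lpr_dt (f574568 IH) (Lpr_at (f593789 IH) (Lpr_dt (K42.f443195 IH) (Lpn (LP (LK LD1_c15 LD2_c13 LD3_c16))))))
theorem f593810 : Led Lsl_ff (LP (LK LD1_c15 LD2_c13 LD3_c16)) = (LP (LK LD1_c18 LD2_c19 LD3_c2)) :=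
  Lgr Lrot30 (Lpe (f593793 IH) (Lpr_ft (f593785 IH) (Lpr_at (f593801 IH) (Lpn (LP (LK LD1_c18 LD2_c19 LD3_c2))))))
theorem f593812 : Led Lsl_ft (LP (LK LD1_c15 LD2_c13 LD3_c16)) = (LP (LK LD1_c18 LD2_c19 LD3_c2)) :=
  Lgr Lrot48 (Lpr_ff (f593810 IH) (Lpn (LP (LK LD1_c18 LD2_c19 LD3_c2))))
theorem f593828 : Led Lsl_af (LP (LK LD1_c15 LD2_c13 LD3_c16)) = (LP (LK LD1_c15 LD2_c50 LD3_c6)) :=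
  Lgr Lrot45 (Lpr_ft (f593812 IH) (Lpe (f593803 IH) (Lpr_ft (f593826 IH) (Lpn (LP (LK LD1_c15 LD2_c50 LD3_c6))))))
theorem f574590 : Led Lsl_et (LP (LK LD1_c15 LD2_c13 LD3_c16)) = (LP (LK LD1_c25 LD2_c2 LD3_c14)) :=
  Lre_e IH (LK LD1_c15 LD2_c13 LD3_c16) (LK LD1_c25 LD2_c2 LD3_c14) Lrfl Lrfl
theorem f574597 : Led Lsl_et (LP (LK LD1_c25 LD2_c46 LD3_c13)) = (LP (LK LD1_c15 LD2_c50 LD3_c6)) :=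
  Lre_e IH (LK LD1_c25 LD2_c46 LD3_c13) (LK LD1_c15 LD2_c50 LD3_c6) Lrfl Lrfl
theorem f593830 : Led Lsl_at (LP (LK LD1_c25 LD2_c2 LD3_c14)) = (LP (LK LD1_c25 LD2_c46 LD3_c13)) :=
  Lgr Lrot80 (Lpe (f574590 IH) (Lpr_af (f593828 IH) (Lpe (f574597 IH) (Lpn (LP (LK LD1_c25 LD2_c46 LD3_c13))))))
theorem f455345 : Led Lsl_et (LP (LK LD1_c13 LD2_c14 LD3_c27)) = (LP (LK LD1_c22 LD2_c29 LD3_c13)) :=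
  Lre_e IH (LK LD1_c13 LD2_c14 LD3_c27) (LK LD1_c22 LD2_c29 LD3_c13) Lrfl Lrfl
theorem f462150 : Led Lsl_gt (LP (LK LD1_c30 LD2_c31 LD3_c57)) = (LP (LK LD1_c22 LD2_c29 LD3_c13)) :=
  Lre_g IH (LK LD1_c30 LD2_c31 LD3_c57) (LK LD1_c22 LD2_c29 LD3_c13) Lrfl Lrfl
theorem f588273 : Led Lsl_ef (LP (LK LD1_c30 LD2_c31 LD3_c57)) = (LP (LK LD1_c25 LD2_c2 LD3_c15)) :=
  Lgr Lrot114 (Lpr_gt (f462150 IH) (Lpe (f455345 IH) (Lpr_dt (K29.f455337 IH) (Lpr_gt (K41.f564658 IH) (Lpe (f96922 IH) (Lpe (f575006 IH) (Lpe (f588269 IH) (Lpr_dt (f588255 IH) (Lpr_gt (f587302 IH) (Lpe (f158615 IH) (Lpn (LP (LK LD1_c25 LD2_c2 LD3_c15)))))))))))))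
theorem f574595 : Led Lsl_et (LP (LK LD1_c25 LD2_c2 LD3_c14)) = (LP (LK LD1_c15 LD2_c13 LD3_c16)) :=
  Lre_e IH (LK LD1_c25 LD2_c2 LD3_c14) (LK LD1_c15 LD2_c13 LD3_c16) Lrfl Lrfl
theorem f588275 : Led Lsl_dt (LP (LK LD1_c30 LD2_c31 LD3_c57)) = (LP (LK LD1_c25 LD2_c2 LD3_c14)) :=
  Lgr Lrot77 (Lpr_ef (f588273 IH) (Lpe (f158643 IH) (Lpe (K42.f570978 IH) (Lpe (K42.f443197 IH) (Lpe (f574595 IH) (Lpn (LP (LK LD1_c25 LD2_c2 LD3_c14))))))))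
theorem f574569 : Led Lsl_et (LP (LK LD1_c15 LD2_c50 LD3_c6)) = (LP (LK LD1_c25 LD2_c46 LD3_c13)) :=
  Lre_e IH (LK LD1_c15 LD2_c50 LD3_c6) (LK LD1_c25 LD2_c46 LD3_c13) Lrfl Lrfl
theorem f236865 : Led Lsl_et (LP (LK LD1_c26 LD2_c19 LD3_c49)) = (LP (LK LD1_c16 LD2_c21 LD3_c49)) :=
  Lre_e IH (LK LD1_c26 LD2_c19 LD3_c49) (LK LD1_c16 LD2_c21 LD3_c49) Lrfl Lrfl
theorem f574617 : Led Lsl_dt (LP (LK LD1_c25 LD2_c46 LD3_c13)) = (LP (LK LD1_c26 LD2_c19 LD3_c49)) :=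
  Lgr Lrot77 (Lpe (f574569 IH) (Lpe (K43.f574546 IH) (Lpr_ef (K43.f574613 IH) (Lpe (K44.f573445 IH) (Lpe (f236865 IH) (Lpn (LP (LK LD1_c26 LD2_c19 LD3_c49))))))))
theorem f593834 : Led Lsl_af (LP (LK LD1_c30 LD2_c31 LD3_c57)) = (LP (LK LD1_c26 LD2_c19 LD3_c49)) :=
  Lgr Lrot117 (Lpr_dt (f588275 IH) (Lpr_at (f593830 IH) (Lpr_dt (f574617 IH) (Lpn (LP (LK LD1_c26 LD2_c19 LD3_c49))))))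
theorem f588277 : Led Lsl_et (LP (LK LD1_c30 LD2_c31 LD3_c57)) = (LP (LK LD1_c25 LD2_c2 LD3_c15)) :=
  Lgr Lrot87 (Lpr_ef (f588273 IH) (Lpn (LP (LK LD1_c25 LD2_c2 LD3_c15))))
theorem f236885 : Led Lsl_et (LP (LK LD1_c16 LD2_c21 LD3_c49)) = (LP (LK LD1_c26 LD2_c19 LD3_c49)) :=
  Lre_e IH (LK LD1_c16 LD2_c21 LD3_c49) (LK LD1_c26 LD2_c19 LD3_c49) Lrfl Lrfl
theorem f593840 : Led Lsl_at (LP (LK LD1_c25 LD2_c2 LD3_c15)) = (LP (LK LD1_c16 LD2_c21 LD3_c49)) :=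
  Lgr Lrot80 (Lpe (f588277 IH) (Lpr_af (f593834 IH) (Lpe (f236885 IH) (Lpn (LP (LK LD1_c16 LD2_c21 LD3_c49))))))
theorem f593848 : Led Lsl_af (LP (LK LD1_c15 LD2_c13 LD3_c17)) = (LP (LK LD1_c11 LD2_c6 LD3_c9)) :=
  Lgr Lrot117 (Lpr_dt (f158643 IH) (Lpr_at (f593840 IH) (Lpr_dt (K44.f573445 IH) (Lpn (LP (LK LD1_c11 LD2_c6 LD3_c9))))))
theorem f567245 : Led Lsl_bf (LP (LK LD1_c10 LD2_c16 LD3_c12)) = (LP (LK LD1_c15 LD2_c13 LD3_c17)) :=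
  Lgr Lrot165 (Lpr_gt (K41.f567241 IH) (Lpr_ct (K35.f60651 IH) (Lpr_gt (K35.f541557 IH) (Lpr_cf (K35.f173323 IH) (Lpr_bt (K18.f173272 IH) (Lpr_gt (K12.f225024 IH) (Lpe (K39.f53118 IH) (Lpr_ct (K39.f192793 IH) (Lpe (K39.f552341 IH) (Lpe (f158614 IH) (Lpn (LP (LK LD1_c15 LD2_c13 LD3_c17)))))))))))))
theorem f593197 : Led Lsl_at (LP (LK LD1_c10 LD2_c16 LD3_c12)) = (LP (LK LD1_c5 LD2_c46 LD3_c29)) :=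
  Lgr Lrot80 (Lpe (K41.f567240 IH) (Lpr_af (f593189 IH) (Lpe (K39.f551855 IH) (Lpn (LP (LK LD1_c5 LD2_c46 LD3_c29))))))
theorem f593850 : Led Lsl_at (LP (LK LD1_c8 LD2_c42 LD3_c48)) = (LP (LK LD1_c5 LD2_c37 LD3_c5)) :=
  Lgr Lrot67 (Lpe (K42.f551840 IH) (Lpe (f593197 IH) (Lpr_bf (f567245 IH) (Lpr_af (f593848 IH) (Lpe (K43.f419030 IH) (Lpn (LP (LK LD1_c5 LD2_c37 LD3_c5))))))))
theorem f593249 : Led Lsl_ft (LP (LK LD1_c5 LD2_c37 LD3_c6)) = (LP (LK LD1_c8 LD2_c42 LD3_c48)) :=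
  Lgr Lrot75 (Lpe (K41.f201328 IH) (Lpr_ff (f593247 IH) (Lpr_bf (K39.f551837 IH) (Lpn (LP (LK LD1_c8 LD2_c42 LD3_c48))))))
theorem f593225 : Led Lsl_at (LP (LK LD1_c11 LD2_c6 LD3_c10)) = (LP (LK LD1_c5 LD2_c46 LD3_c28)) :=
  Lgr Lrot100 (Lpr_af (f593223 IH) (Lpn (LP (LK LD1_c5 LD2_c46 LD3_c28))))
theorem f593420 : Led Lsl_at (LP (LK LD1_c8 LD2_c42 LD3_c47)) = (LP (LK LD1_c5 LD2_c37 LD3_c6)) :=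
  Lgr Lrot67 (Lpr_bf (K39.f418850 IH) (Lpr_af (f593416 IH) (Lpe (f588662 IH) (Lpe (f593225 IH) (Lpe (K43.f211969 IH) (Lpn (LP (LK LD1_c5 LD2_c37 LD3_c6))))))))
theorem f593858 : Led Lsl_ff (LP (LK LD1_c8 LD2_c42 LD3_c47)) = (LP (LK LD1_c5 LD2_c37 LD3_c5)) :=
  Lgr Lrot30 (Lpr_at (f593420 IH) (Lpr_ft (f593249 IH) (Lpr_at (f593850 IH) (Lpn (LP (LK LD1_c5 LD2_c37 LD3_c5))))))
theorem f593864 : Led Lsl_ft (LP (LK LD1_c8 LD2_c42 LD3_c47)) = (LP (LK LD1_c5 LD2_c37 LD3_c5)) :=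
  Lgr Lrot48 (Lpr_ff (f593858 IH) (Lpn (LP (LK LD1_c5 LD2_c37 LD3_c5))))
theorem f116952 : Led Lsl_dt (LP (LK LD1_c2 LD2_c13 LD3_c32)) = (LP (LK LD1_c1 LD2_c3 LD3_c47)) :=
  Lre_d IH (LK LD1_c2 LD2_c13 LD3_c32) (LK LD1_c1 LD2_c3 LD3_c47) Lrfl Lrfl
theorem f381719 : Led Lsl_ct (LP (LK LD1_c1 LD2_c3 LD3_c47)) = (LP (LK LD1_c2 LD2_c9 LD3_c8)) :=
  Lre_c IH (LK LD1_c1 LD2_c3 LD3_c47) (LK LD1_c2 LD2_c9 LD3_c8) Lrfl Lrfl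
theorem f236887 : Led Lsl_dt (LP (LK LD1_c4 LD2_c23 LD3_c27)) = (LP (LK LD1_c2 LD2_c9 LD3_c8)) :=
  Lre_d IH (LK LD1_c4 LD2_c23 LD3_c27) (LK LD1_c2 LD2_c9 LD3_c8) Lrfl Lrfl
theorem f546513 : Led Lsl_df (LP (LK LD1_c8 LD2_c44 LD3_c32)) = (LP (LK LD1_c5 LD2_c37 LD3_c5)) :=
  Lgr Lrot153 (Lpr_gt (K39.f148969 IH) (Lpr_dt (f236887 IH) (Lpe (f381719 IH) (Lpe (f116952 IH) (Lpe (K9.f142124 IH) (Lpr_df (K38.f546507 IH) (Lpe (K38.f164847 IH) (Lpe (K38.f164878 IH) (Lpr_gt (K38.f164885 IH) (Lpn (LP (LK LD1_c5 LD2_c37 LD3_c5))))))))))))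
theorem f593868 : Led Lsl_ff (LP (LK LD1_c4 LD2_c23 LD3_c28)) = (LP (LK LD1_c8 LD2_c44 LD3_c32)) :=
  Lgr Lrot19 (Lpr_dt (K39.f554503 IH) (Lpr_ft (f593864 IH) (Lpe (f546513 IH) (Lpn (LP (LK LD1_c8 LD2_c44 LD3_c32))))))
theorem f411761 : Led Lsl_gt (LP (LK LD1_c4 LD2_c23 LD3_c27)) = (LP (LK LD1_c8 LD2_c44 LD3_c31)) :=
  Lre_g IH (LK LD1_c4 LD2_c23 LD3_c27) (LK LD1_c8 LD2_c44 LD3_c31) Lrfl Lrfl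
theorem f593872 : Led Lsl_at (LP (LK LD1_c4 LD2_c23 LD3_c28)) = (LP (LK LD1_c8 LD2_c44 LD3_c31)) :=
  Lgr Lrot26 (Lpr_ff (f593868 IH) (Lpr_gt (K39.f148969 IH) (Lpr_gt (f411761 IH) (Lpn (LP (LK LD1_c8 LD2_c44 LD3_c31))))))
theorem f546385 : Led Lsl_dt (LP (LK LD1_c8 LD2_c42 LD3_c47)) = (LP (LK LD1_c4 LD2_c23 LD3_c28)) :=
  Lgr Lrot57 (Lpe (K39.f210367 IH) (Lpr_cf (K32.f210362 IH) (Lpr_gt (K38.f174632 IH) (Lpr_dt (K38.f546380 IH) (Lpr_gt (K9.f174665 IH) (Lpr_dt (K39.f382035 IH) (Lpe (K39.f382034 IH) (Lpe (K37.f424197 IH) (Lpe (K41.f418227 IH) (Lpn (LP (LK LD1_c4 LD2_c23 LD3_c28))))))))))))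
theorem f565121 : Led Lsl_dt (LP (LK LD1_c8 LD2_c44 LD3_c31)) = (LP (LK LD1_c5 LD2_c37 LD3_c6)) :=
  Lgr Lrot79 (Lpe (K41.f236504 IH) (Lpr_df (K41.f565118 IH) (Lpe (K43.f211969 IH) (Lpn (LP (LK LD1_c5 LD2_c37 LD3_c6))))))
theorem f593876 : Led Lsl_af (LP (LK LD1_c8 LD2_c42 LD3_c47)) = (LP (LK LD1_c5 LD2_c37 LD3_c6)) :=
  Lgr Lrot117 (Lpr_dt (f546385 IH) (Lpr_at (f593872 IH) (Lpr_dt (f565121 IH) (Lpn (LP (LK LD1_c5 LD2_c37 LD3_c6))))))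
theorem f593852 : Led Lsl_af (LP (LK LD1_c8 LD2_c42 LD3_c48)) = (LP (LK LD1_c5 LD2_c37 LD3_c5)) :=
  Lgr Lrot0 (Lpr_at (f593850 IH) (Lpn (LP (LK LD1_c5 LD2_c37 LD3_c5))))
theorem f593882 : Led Lsl_ft (LP (LK LD1_c8 LD2_c42 LD3_c48)) = (LP (LK LD1_c5 LD2_c37 LD3_c6)) :=
  Lgr Lrot101 (Lpr_af (f593852 IH) (Lpe (f593864 IH) (Lpr_af (f593876 IH) (Lpn (LP (LK LD1_c5 LD2_c37 LD3_c6))))))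
theorem f575806 : Led Lsl_bf (LP (LK LD1_c4 LD2_c13 LD3_c29)) = (LP (LK LD1_c5 LD2_c12 LD3_c59)) :=
  Lgr Lrot24 (Lpr_bt (K43.f575804 IH) (Lpn (LP (LK LD1_c5 LD2_c12 LD3_c59))))
theorem f551866 : Led Lsl_bt (LP (LK LD1_c8 LD2_c14 LD3_c47)) = (LP (LK LD1_c5 LD2_c5 LD3_c12)) :=
  Lgr Lrot119 (Lpe (K38.f427550 IH) (Lpe (K42.f551840 IH) (Lpr_ef (K39.f551864 IH) (Lpn (LP (LK LD1_c5 LD2_c5 LD3_c12))))))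
theorem f593175 : Led Lsl_ft (LP (LK LD1_c4 LD2_c13 LD3_c29)) = (LP (LK LD1_c8 LD2_c14 LD3_c47)) :=
  Lgr Lrot75 (Lpr_bf (f575806 IH) (Lpr_ff (f593173 IH) (Lpe (f551866 IH) (Lpn (LP (LK LD1_c8 LD2_c14 LD3_c47))))))
theorem f593888 : Led Lsl_ff (LP (LK LD1_c8 LD2_c25 LD3_c57)) = (LP (LK LD1_c11 LD2_c6 LD3_c11)) :=
  Lgr Lrot72 (Lpr_et (f56319 IH) (Lpr_ft (f593175 IH) (Lpe (K38.f427548 IH) (Lpr_ft (f593882 IH) (Lpr_et (K43.f211973 IH) (Lpn (LP (LK LD1_c11 LD2_c6 LD3_c11))))))))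
theorem f593896 : Led Lsl_at (LP (LK LD1_c8 LD2_c25 LD3_c57)) = (LP (LK LD1_c11 LD2_c8 LD3_c23)) :=
  Lgr Lrot26 (Lpr_ff (f593888 IH) (Lpe (K44.f572971 IH) (Lpr_gt (K44.f24571 IH) (Lpn (LP (LK LD1_c11 LD2_c8 LD3_c23))))))
theorem f593880 : Led Lsl_at (LP (LK LD1_c16 LD2_c19 LD3_c19)) = (LP (LK LD1_c11 LD2_c6 LD3_c11)) :=
  Lgr Lrot80 (Lpe (K42.f418855 IH) (Lpr_af (f593876 IH) (Lpe (K42.f164887 IH) (Lpn (LP (LK LD1_c11 LD2_c6 LD3_c11))))))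
theorem f593906 : Led Lsl_ff (LP (LK LD1_c16 LD2_c19 LD3_c19)) = (LP (LK LD1_c11 LD2_c8 LD3_c23)) :=
  Lgr Lrot30 (Lpr_at (f593880 IH) (Lpe (f593888 IH) (Lpr_at (f593896 IH) (Lpn (LP (LK LD1_c11 LD2_c8 LD3_c23))))))
theorem f593910 : Led Lsl_ft (LP (LK LD1_c16 LD2_c19 LD3_c19)) = (LP (LK LD1_c11 LD2_c8 LD3_c23)) :=
  Lgr Lrot48 (Lpr_ff (f593906 IH) (Lpn (LP (LK LD1_c11 LD2_c8 LD3_c23))))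
theorem f593898 : Led Lsl_af (LP (LK LD1_c8 LD2_c25 LD3_c57)) = (LP (LK LD1_c11 LD2_c8 LD3_c23)) :=
  Lgr Lrot0 (Lpr_at (f593896 IH) (Lpn (LP (LK LD1_c11 LD2_c8 LD3_c23))))
theorem f565135 : Led Lsl_bf (LP (LK LD1_c12 LD2_c8 LD3_c21)) = (LP (LK LD1_c11 LD2_c6 LD3_c11)) :=
  Lgr Lrot96 (Lpr_et (K41.f565133 IH) (Lpr_bt (K41.f201328 IH) (Lpr_et (K43.f211973 IH) (Lpn (LP (LK LD1_c11 LD2_c6 LD3_c11))))))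
theorem f575809 : Led Lsl_bf (LP (LK LD1_c8 LD2_c25 LD3_c57)) = (LP (LK LD1_c10 LD2_c16 LD3_c13)) :=
  Lgr Lrot96 (Lpr_et (f56319 IH) (Lpr_bt (K43.f575804 IH) (Lpr_et (K44.f575808 IH) (Lpn (LP (LK LD1_c10 LD2_c16 LD3_c13))))))
theorem f593243 : Led Lsl_ff (LP (LK LD1_c11 LD2_c6 LD3_c11)) = (LP (LK LD1_c8 LD2_c25 LD3_c57)) :=
  Lgr Lrot25 (Lpe (f565135 IH) (Lpr_ft (f593241 IH) (Lpe (f575809 IH) (Lpn (LP (LK LD1_c8 LD2_c25 LD3_c57))))))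
theorem f593912 : Led Lsl_af (LP (LK LD1_c16 LD2_c19 LD3_c19)) = (LP (LK LD1_c11 LD2_c6 LD3_c11)) :=
  Lgr Lrot45 (Lpr_ft (f593910 IH) (Lpe (f593898 IH) (Lpe (f593243 IH) (Lpn (LP (LK LD1_c11 LD2_c6 LD3_c11))))))
theorem f573264 : Led Lsl_bt (LP (LK LD1_c16 LD2_c21 LD3_c59)) = (LP (LK LD1_c26 LD2_c19 LD3_c55)) :=
  Lre_b IH (LK LD1_c16 LD2_c21 LD3_c59) (LK LD1_c26 LD2_c19 LD3_c55) Lrfl Lrfl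
theorem f573265 : Led Lsl_et (LP (LK LD1_c11 LD2_c32 LD3_c33)) = (LP (LK LD1_c16 LD2_c21 LD3_c59)) :=
  Lgr Lrot74 (Lpe (K43.f272762 IH) (Lpr_ef (f573262 IH) (Lpe (f573264 IH) (Lpn (LP (LK LD1_c16 LD2_c21 LD3_c59))))))
theorem f554509 : Led Lsl_dt (LP (LK LD1_c16 LD2_c21 LD3_c59)) = (LP (LK LD1_c8 LD2_c44 LD3_c37)) :=
  Lre_d IH (LK LD1_c16 LD2_c21 LD3_c59) (LK LD1_c8 LD2_c44 LD3_c37) Lrfl Lrfl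
theorem f554508 : Led Lsl_et (LP (LK LD1_c8 LD2_c44 LD3_c37)) = (LP (LK LD1_c4 LD2_c23 LD3_c28)) :=
  Lre_e IH (LK LD1_c8 LD2_c44 LD3_c37) (LK LD1_c4 LD2_c23 LD3_c28) Lrfl Lrfl
theorem f573270 : Led Lsl_df (LP (LK LD1_c11 LD2_c32 LD3_c33)) = (LP (LK LD1_c16 LD2_c19 LD3_c19)) :=
  Lgr Lrot70 (Lpr_et (f573265 IH) (Lpr_dt (f554509 IH) (Lpr_et (f554508 IH) (Lpr_dt (K39.f554503 IH) (Lpr_et (K42.f418855 IH) (Lpn (LP (LK LD1_c16 LD2_c19 LD3_c19))))))))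
theorem f593916 : Led Lsl_at (LP (LK LD1_c11 LD2_c32 LD3_c33)) = (LP (LK LD1_c16 LD2_c27 LD3_c36)) :=
  Lgr Lrot51 (Lpr_df (f573270 IH) (Lpr_af (f593912 IH) (Lpr_df (K44.f553524 IH) (Lpn (LP (LK LD1_c16 LD2_c27 LD3_c36))))))
theorem f581364 : Led Lsl_bf (LP (LK LD1_c16 LD2_c27 LD3_c36)) = (LP (LK LD1_c8 LD2_c50 LD3_c23)) :=
  Lgr Lrot156 (Lpr_gt (K42.f210981 IH) (Lpe (K44.f227585 IH) (Lpr_ct (K18.f227396 IH) (Lpr_gt (K18.f227576 IH) (Lpe (K18.f81212 IH) (Lpe (K38.f193832 IH) (Lpr_gt (K42.f553478 IH) (Lpr_ct (K43.f210973 IH) (Lpr_gt (K44.f581349 IH) (Lpe (f545909 IH) (Lpn (LP (LK LD1_c8 LD2_c50 LD3_c23)))))))))))))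
theorem f581368 : Led Lsl_bt (LP (LK LD1_c16 LD2_c27 LD3_c36)) = (LP (LK LD1_c8 LD2_c50 LD3_c23)) :=
  Lgr Lrot127 (Lpr_bf (f581364 IH) (Lpn (LP (LK LD1_c8 LD2_c50 LD3_c23))))
theorem f593918 : Led Lsl_af (LP (LK LD1_c16 LD2_c22 LD3_c21)) = (LP (LK LD1_c8 LD2_c50 LD3_c23)) :=
  Lgr Lrot36 (Lpe (K42.f570892 IH) (Lpe (f593371 IH) (Lpr_bt (K43.f272762 IH) (Lpr_at (f593916 IH) (Lpr_bt (f581368 IH) (Lpn (LP (LK LD1_c8 LD2_c50 LD3_c23))))))))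
theorem f572926 : Led Lsl_df (LP (LK LD1_c10 LD2_c1 LD3_c29)) = (LP (LK LD1_c8 LD2_c50 LD3_c22)) :=
  Lgr Lrot38 (Lpr_dt (K42.f572922 IH) (Lpn (LP (LK LD1_c8 LD2_c50 LD3_c22))))
theorem f593147 : Led Lsl_ft (LP (LK LD1_c16 LD2_c22 LD3_c21)) = (LP (LK LD1_c8 LD2_c50 LD3_c22)) :=
  Lgr Lrot54 (Lpe (f99757 IH) (Lpr_ff (f593143 IH) (Lpr_df (f572926 IH) (Lpn (LP (LK LD1_c8 LD2_c50 LD3_c22))))))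
theorem f563573 : Led Lsl_df (LP (LK LD1_c12 LD2_c8 LD3_c21)) = (LP (LK LD1_c8 LD2_c50 LD3_c23)) :=
  Lgr Lrot155 (Lpr_gt (K41.f418047 IH) (Lpr_ct (K40.f418038 IH) (Lpr_gt (K41.f563566 IH) (Lpr_ct (K41.f545125 IH) (Lpe (K38.f545123 IH) (Lpe (K40.f559858 IH) (Lpe (K40.f546296 IH) (Lpe (K41.f421142 IH) (Lpe (K41.f158165 IH) (Lpn (LP (LK LD1_c8 LD2_c50 LD3_c23))))))))))))
theorem f593245 : Led Lsl_ff (LP (LK LD1_c8 LD2_c50 LD3_c23)) = (LP (LK LD1_c16 LD2_c22 LD3_c22)) :=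
  Lgr Lrot19 (Lpe (f563573 IH) (Lpr_ft (f593241 IH) (Lpr_dt (K43.f549859 IH) (Lpn (LP (LK LD1_c16 LD2_c22 LD3_c22))))))
theorem f593930 : Led Lsl_at (LP (LK LD1_c8 LD2_c50 LD3_c22)) = (LP (LK LD1_c16 LD2_c22 LD3_c22)) :=
  Lgr Lrot66 (Lpe (f593147 IH) (Lpr_af (f593918 IH) (Lpr_ff (f593245 IH) (Lpn (LP (LK LD1_c16 LD2_c22 LD3_c22))))))
theorem f545896 : Led Lsl_et (LP (LK LD1_c16 LD2_c31 LD3_c18)) = (LP (LK LD1_c8 LD2_c50 LD3_c22)) :=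
  Lre_e IH (LK LD1_c16 LD2_c31 LD3_c18) (LK LD1_c8 LD2_c50 LD3_c22) Lrfl Lrfl
theorem f563299 : Led Lsl_et (LP (LK LD1_c16 LD2_c22 LD3_c22)) = (LP (LK LD1_c26 LD2_c20 LD3_c15)) :=
  Lre_e IH (LK LD1_c16 LD2_c22 LD3_c22) (LK LD1_c26 LD2_c20 LD3_c15) Lrfl Lrfl
theorem f593936 : Led Lsl_af (LP (LK LD1_c16 LD2_c31 LD3_c18)) = (LP (LK LD1_c26 LD2_c20 LD3_c15)) :=
  Lgr Lrot50 (Lpr_et (f545896 IH) (Lpr_at (f593930 IH) (Lpr_et (f563299 IH) (Lpn (LP (LK LD1_c26 LD2_c20 LD3_c15))))))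
theorem f572929 : Led Lsl_et (LP (LK LD1_c18 LD2_c19 LD3_c4)) = (LP (LK LD1_c10 LD2_c1 LD3_c28)) :=
  Lre_e IH (LK LD1_c18 LD2_c19 LD3_c4) (LK LD1_c10 LD2_c1 LD3_c28) Lrfl Lrfl
theorem f572930 : Led Lsl_et (LP (LK LD1_c8 LD2_c50 LD3_c22)) = (LP (LK LD1_c16 LD2_c31 LD3_c18)) :=
  Lre_e IH (LK LD1_c8 LD2_c50 LD3_c22) (LK LD1_c16 LD2_c31 LD3_c18) Lrfl Lrfl
theorem f572931 : Led Lsl_df (LP (LK LD1_c18 LD2_c19 LD3_c4)) = (LP (LK LD1_c16 LD2_c31 LD3_c18)) :=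
  Lgr Lrot70 (Lpr_et (f572929 IH) (Lpr_dt (K43.f572917 IH) (Lpr_et (K42.f572928 IH) (Lpr_dt (K42.f572922 IH) (Lpr_et (f572930 IH) (Lpn (LP (LK LD1_c16 LD2_c31 LD3_c18))))))))
theorem f545926 : Led Lsl_et (LP (LK LD1_c26 LD2_c20 LD3_c15)) = (LP (LK LD1_c16 LD2_c22 LD3_c22)) :=
  Lre_e IH (LK LD1_c26 LD2_c20 LD3_c15) (LK LD1_c16 LD2_c22 LD3_c22) Lrfl Lrfl
theorem f582565 : Led Lsl_et (LP (LK LD1_c10 LD2_c4 LD3_c8)) = (LP (LK LD1_c18 LD2_c22 LD3_c45)) :=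
  Lre_e IH (LK LD1_c10 LD2_c4 LD3_c8) (LK LD1_c18 LD2_c22 LD3_c45) Lrfl Lrfl
theorem f582566 : Led Lsl_df (LP (LK LD1_c26 LD2_c20 LD3_c15)) = (LP (LK LD1_c18 LD2_c22 LD3_c45)) :=
  Lgr Lrot70 (Lpr_et (f545926 IH) (Lpe (K43.f574715 IH) (Lpr_et (K43.f546470 IH) (Lpr_dt (K44.f582559 IH) (Lpr_et (f582565 IH) (Lpn (LP (LK LD1_c18 LD2_c22 LD3_c45))))))))
theorem f593941 : Led Lsl_at (LP (LK LD1_c18 LD2_c19 LD3_c4)) = (LP (LK LD1_c18 LD2_c22 LD3_c45)) :=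
  Lgr Lrot51 (Lpr_df (f572931 IH) (Lpr_af (f593936 IH) (Lpr_df (f582566 IH) (Lpn (LP (LK LD1_c18 LD2_c22 LD3_c45))))))
theorem f572924 : Led Lsl_et (LP (LK LD1_c10 LD2_c1 LD3_c28)) = (LP (LK LD1_c18 LD2_c19 LD3_c4)) :=
  Lre_e IH (LK LD1_c10 LD2_c1 LD3_c28) (LK LD1_c18 LD2_c19 LD3_c4) Lrfl Lrfl
theorem f421375 : Led Lsl_et (LP (LK LD1_c18 LD2_c22 LD3_c45)) = (LP (LK LD1_c10 LD2_c4 LD3_c8)) :=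
  Lre_e IH (LK LD1_c18 LD2_c22 LD3_c45) (LK LD1_c10 LD2_c4 LD3_c8) Lrfl Lrfl
theorem f593946 : Led Lsl_af (LP (LK LD1_c10 LD2_c1 LD3_c28)) = (LP (LK LD1_c10 LD2_c4 LD3_c8)) :=
  Lgr Lrot50 (Lpr_et (f572924 IH) (Lpr_at (f593941 IH) (Lpr_et (f421375 IH) (Lpn (LP (LK LD1_c10 LD2_c4 LD3_c8))))))
theorem f421373 : Led Lsl_ct (LP (LK LD1_c18 LD2_c22 LD3_c44)) = (LP (LK LD1_c10 LD2_c4 LD3_c8)) :=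
  Lre_c IH (LK LD1_c18 LD2_c22 LD3_c44) (LK LD1_c10 LD2_c4 LD3_c8) Lrfl Lrfl
theorem f593961 : Led Lsl_at (LP (LK LD1_c18 LD2_c19 LD3_c3)) = (LP (LK LD1_c18 LD2_c22 LD3_c44)) :=
  Lgr Lrot107 (Lpe (K43.f201316 IH) (Lpr_af (f593946 IH) (Lpe (f421373 IH) (Lpn (LP (LK LD1_c18 LD2_c22 LD3_c44))))))
theorem f593270 : Led Lsl_et (LP (LK LD1_c16 LD2_c21 LD3_c60)) = (LP (LK LD1_c26 LD2_c19 LD3_c59)) :=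
  Lre_e IH (LK LD1_c16 LD2_c21 LD3_c60) (LK LD1_c26 LD2_c19 LD3_c59) Lrfl Lrfl
theorem f593289 : Led Lsl_bf (LP (LK LD1_c30 LD2_c31 LD3_c57)) = (LP (LK LD1_c26 LD2_c19 LD3_c59)) :=
  Lgr Lrot96 (Lpr_et (f588277 IH) (Lpr_bt (f593284 IH) (Lpr_et (f593270 IH) (Lpn (LP (LK LD1_c26 LD2_c19 LD3_c59))))))
theorem f575819 : Led Lsl_bf (LP (LK LD1_c15 LD2_c13 LD3_c16)) = (LP (LK LD1_c10 LD2_c4 LD3_c7)) :=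
  Lgr Lrot93 (Lpr_dt (K42.f443197 IH) (Lpr_bt (f575815 IH) (Lpr_dt (K41.f567233 IH) (Lpn (LP (LK LD1_c10 LD2_c4 LD3_c7))))))
theorem f308191 : Led Lsl_et (LP (LK LD1_c18 LD2_c22 LD3_c43)) = (LP (LK LD1_c10 LD2_c4 LD3_c7)) :=
  Lre_e IH (LK LD1_c18 LD2_c22 LD3_c43) (LK LD1_c10 LD2_c4 LD3_c7) Lrfl Lrfl
theorem f575826 : Led Lsl_bt (LP (LK LD1_c25 LD2_c2 LD3_c14)) = (LP (LK LD1_c18 LD2_c22 LD3_c43)) :=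
  Lgr Lrot119 (Lpe (f574590 IH) (Lpr_bf (f575819 IH) (Lpe (f308191 IH) (Lpn (LP (LK LD1_c18 LD2_c22 LD3_c43))))))
theorem f593295 : Led Lsl_dt (LP (LK LD1_c18 LD2_c22 LD3_c43)) = (LP (LK LD1_c26 LD2_c19 LD3_c59)) :=
  Lgr Lrot79 (Lpe (f575826 IH) (Lpe (f588275 IH) (Lpr_bf (f593289 IH) (Lpn (LP (LK LD1_c26 LD2_c19 LD3_c59))))))
theorem f593300 : Led Lsl_df (LP (LK LD1_c18 LD2_c22 LD3_c43)) = (LP (LK LD1_c26 LD2_c19 LD3_c59)) :=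
  Lgr Lrot38 (Lpr_dt (f593295 IH) (Lpn (LP (LK LD1_c26 LD2_c19 LD3_c59))))
theorem f593291 : Led Lsl_at (LP (LK LD1_c16 LD2_c22 LD3_c0)) = (LP (LK LD1_c26 LD2_c19 LD3_c59)) :=
  Lre_a IH (LK LD1_c16 LD2_c22 LD3_c0) (LK LD1_c26 LD2_c19 LD3_c59) Lrfl Lrfl
theorem f551859 : Led Lsl_et (LP (LK LD1_c16 LD2_c22 LD3_c0)) = (LP (LK LD1_c8 LD2_c44 LD3_c38)) :=
  Lre_e IH (LK LD1_c16 LD2_c22 LD3_c0) (LK LD1_c8 LD2_c44 LD3_c38) Lrfl Lrfl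
theorem f551861 : Led Lsl_et (LP (LK LD1_c10 LD2_c1 LD3_c30)) = (LP (LK LD1_c18 LD2_c19 LD3_c6)) :=
  Lre_e IH (LK LD1_c10 LD2_c1 LD3_c30) (LK LD1_c18 LD2_c19 LD3_c6) Lrfl Lrfl
theorem f551862 : Led Lsl_df (LP (LK LD1_c16 LD2_c22 LD3_c0)) = (LP (LK LD1_c18 LD2_c19 LD3_c6)) :=
  Lgr Lrot70 (Lpr_et (f551859 IH) (Lpe (f551849 IH) (Lpr_et (K39.f551855 IH) (Lpr_dt (K39.f551860 IH) (Lpr_et (f551861 IH) (Lpn (LP (LK LD1_c18 LD2_c19 LD3_c6))))))))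
theorem f593302 : Led Lsl_at (LP (LK LD1_c18 LD2_c22 LD3_c43)) = (LP (LK LD1_c18 LD2_c19 LD3_c6)) :=
  Lgr Lrot51 (Lpr_df (f593300 IH) (Lpe (f593291 IH) (Lpr_df (f551862 IH) (Lpn (LP (LK LD1_c18 LD2_c19 LD3_c6))))))
theorem f567237 : Led Lsl_et (LP (LK LD1_c10 LD2_c4 LD3_c7)) = (LP (LK LD1_c18 LD2_c22 LD3_c43)) :=
  Lre_e IH (LK LD1_c10 LD2_c4 LD3_c7) (LK LD1_c18 LD2_c22 LD3_c43) Lrfl Lrfl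
theorem f551868 : Led Lsl_et (LP (LK LD1_c18 LD2_c19 LD3_c6)) = (LP (LK LD1_c10 LD2_c1 LD3_c30)) :=
  Lre_e IH (LK LD1_c18 LD2_c19 LD3_c6) (LK LD1_c10 LD2_c1 LD3_c30) Lrfl Lrfl
theorem f593304 : Led Lsl_af (LP (LK LD1_c10 LD2_c4 LD3_c7)) = (LP (LK LD1_c10 LD2_c1 LD3_c30)) :=
  Lgr Lrot50 (Lpr_et (f567237 IH) (Lpr_at (f593302 IH) (Lpr_et (f551868 IH) (Lpn (LP (LK LD1_c10 LD2_c1 LD3_c30))))))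
theorem f240940 : Led Lsl_ct (LP (LK LD1_c10 LD2_c4 LD3_c7)) = (LP (LK LD1_c18 LD2_c22 LD3_c42)) :=
  Lre_c IH (LK LD1_c10 LD2_c4 LD3_c7) (LK LD1_c18 LD2_c22 LD3_c42) Lrfl Lrfl
theorem f551882 : Led Lsl_ct (LP (LK LD1_c18 LD2_c19 LD3_c5)) = (LP (LK LD1_c10 LD2_c1 LD3_c30)) :=
  Lre_c IH (LK LD1_c18 LD2_c19 LD3_c5) (LK LD1_c10 LD2_c1 LD3_c30) Lrfl Lrfl
theorem f593313 : Led Lsl_at (LP (LK LD1_c18 LD2_c22 LD3_c42)) = (LP (LK LD1_c18 LD2_c19 LD3_c5)) :=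
  Lgr Lrot107 (Lpe (f240940 IH) (Lpr_af (f593304 IH) (Lpe (f551882 IH) (Lpn (LP (LK LD1_c18 LD2_c19 LD3_c5))))))
theorem f551877 : Led Lsl_ct (LP (LK LD1_c10 LD2_c1 LD3_c30)) = (LP (LK LD1_c18 LD2_c19 LD3_c5)) :=
  Lre_c IH (LK LD1_c10 LD2_c1 LD3_c30) (LK LD1_c18 LD2_c19 LD3_c5) Lrfl Lrfl
theorem f417531 : Led Lsl_ct (LP (LK LD1_c10 LD2_c17 LD3_c41)) = (LP (LK LD1_c10 LD2_c4 LD3_c44)) :=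
  Lgr Lrot59 (Lpr_cf (K42.f417528 IH) (Lpn (LP (LK LD1_c10 LD2_c4 LD3_c44))))
theorem f574864 : Led Lsl_ct (LP (LK LD1_c27 LD2_c57 LD3_c50)) = (LP (LK LD1_c18 LD2_c21 LD3_c15)) :=
  Lgr Lrot59 (Lpr_cf (K43.f574862 IH) (Lpn (LP (LK LD1_c18 LD2_c21 LD3_c15))))
theorem f593317 : Led Lsl_ff (LP (LK LD1_c18 LD2_c22 LD3_c42)) = (LP (LK LD1_c18 LD2_c19 LD3_c3)) :=
  Lgr Lrot103 (Lpr_at (f593313 IH) (Lpe (f551877 IH) (Lpe (K39.f551860 IH) (Lpr_cf (K43.f542644 IH) (Lpe (K43.f541680 IH) (Lpe (f417531 IH) (Lpr_df (K43.f574858 IH) (Lpe (f574864 IH) (Lpe (K43.f572952 IH) (Lpn (LP (LK LD1_c18 LD2_c19 LD3_c3))))))))))))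
theorem f593322 : Led Lsl_ft (LP (LK LD1_c18 LD2_c22 LD3_c42)) = (LP (LK LD1_c18 LD2_c19 LD3_c3)) :=
  Lgr Lrot48 (Lpr_ff (f593317 IH) (Lpn (LP (LK LD1_c18 LD2_c19 LD3_c3))))
theorem f593315 : Led Lsl_af (LP (LK LD1_c18 LD2_c22 LD3_c42)) = (LP (LK LD1_c18 LD2_c19 LD3_c5)) :=
  Lgr Lrot0 (Lpr_at (f593313 IH) (Lpn (LP (LK LD1_c18 LD2_c19 LD3_c5))))
theorem f593965 : Led Lsl_ff (LP (LK LD1_c18 LD2_c19 LD3_c5)) = (LP (LK LD1_c18 LD2_c22 LD3_c44)) :=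
  Lgr Lrot30 (Lpe (f593315 IH) (Lpr_ft (f593322 IH) (Lpr_at (f593961 IH) (Lpn (LP (LK LD1_c18 LD2_c22 LD3_c44))))))
theorem f582574 : Led Lsl_ct (LP (LK LD1_c10 LD2_c17 LD3_c9)) = (LP (LK LD1_c18 LD2_c22 LD3_c46)) :=
  Lgr Lrot59 (Lpr_cf (K44.f582570 IH) (Lpn (LP (LK LD1_c18 LD2_c22 LD3_c46))))
theorem f587934 : Led Lsl_bt (LP (LK LD1_c10 LD2_c17 LD3_c9)) = (LP (LK LD1_c15 LD2_c13 LD3_c2)) :=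
  Lgr Lrot130 (Lpr_ct (f582574 IH) (Lpe (K44.f405131 IH) (Lpe (K44.f201392 IH) (Lpr_bt (K36.f201391 IH) (Lpe (K13.f165476 IH) (Lpe (f573681 IH) (Lpr_ct (f573683 IH) (Lpr_gf (f587928 IH) (Lpe (f587902 IH) (Lpe (K42.f386154 IH) (Lpn (LP (LK LD1_c15 LD2_c13 LD3_c2)))))))))))))
theorem f587936 : Led Lsl_bf (LP (LK LD1_c10 LD2_c2 LD3_c51)) = (LP (LK LD1_c15 LD2_c10 LD3_c23)) :=
  Lgr Lrot61 (Lpe (K42.f572846 IH) (Lpr_bt (f587934 IH) (Lpr_ft (K42.f386140 IH) (Lpn (LP (LK LD1_c15 LD2_c10 LD3_c23))))))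
theorem f567604 : Led Lsl_gt (LP (LK LD1_c10 LD2_c2 LD3_c51)) = (LP (LK LD1_c9 LD2_c9 LD3_c51)) :=
  Lgr Lrot139 (Lpe (K39.f545119 IH) (Lpe (K38.f545114 IH) (Lpr_ef (K40.f547737 IH) (Lpr_dt (K40.f561149 IH) (Lpe (K40.f561145 IH) (Lpe (K38.f181555 IH) (Lpr_et (K38.f549559 IH) (Lpr_gf (K41.f567592 IH) (Lpr_ef (K40.f552711 IH) (Lpr_dt (K38.f119052 IH) (Lpn (LP (LK LD1_c9 LD2_c9 LD3_c51)))))))))))))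
theorem f547704 : Led Lsl_ct (LP (LK LD1_c9 LD2_c9 LD3_c51)) = (LP (LK LD1_c17 LD2_c2 LD3_c53)) :=
  Lre_c IH (LK LD1_c9 LD2_c9 LD3_c51) (LK LD1_c17 LD2_c2 LD3_c53) Lrfl Lrfl
theorem f4178 : Led Lsl_gt (LP (LK LD1_c23 LD2_c14 LD3_c1)) = (LP (LK LD1_c13 LD2_c47 LD3_c44)) :=
  Lre_g IH (LK LD1_c23 LD2_c14 LD3_c1) (LK LD1_c13 LD2_c47 LD3_c44) Lrfl Lrfl
theorem f5615 : Led Lsl_bt (LP (LK LD1_c13 LD2_c46 LD3_c43)) = (LP (LK LD1_c23 LD2_c13 LD3_c40)) :=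
  Lre_b IH (LK LD1_c13 LD2_c46 LD3_c43) (LK LD1_c23 LD2_c13 LD3_c40) Lrfl Lrfl
theorem f587940 : Led Lsl_gt (LP (LK LD1_c17 LD2_c2 LD3_c53)) = (LP (LK LD1_c18 LD2_c22 LD3_c42)) :=
  Lgr Lrot149 (Lpe (f547704 IH) (Lpe (f567604 IH) (Lpr_bf (f587936 IH) (Lpe (f570960 IH) (Lpe (f4178 IH) (Lpe (K0.f4236 IH) (Lpr_bt (f5615 IH) (Lpe (K43.f574588 IH) (Lpr_bf (f575819 IH) (Lpr_ct (f240940 IH) (Lpn (LP (LK LD1_c18 LD2_c22 LD3_c42)))))))))))))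
theorem f593971 : Led Lsl_gf (LP (LK LD1_c17 LD2_c2 LD3_c53)) = (LP (LK LD1_c18 LD2_c22 LD3_c44)) :=
  Lgr Lrot47 (Lpr_gt (f587940 IH) (Lpr_af (f593315 IH) (Lpr_ff (f593965 IH) (Lpn (LP (LK LD1_c18 LD2_c22 LD3_c44))))))
theorem f566901 : Led Lsl_bf (LP (LK LD1_c5 LD2_c54 LD3_c51)) = (LP (LK LD1_c9 LD2_c9 LD3_c51)) :=
  Lgr Lrot24 (Lpr_bt (K41.f566899 IH) (Lpn (LP (LK LD1_c9 LD2_c9 LD3_c51))))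
theorem f421371 : Led Lsl_ct (LP (LK LD1_c10 LD2_c4 LD3_c8)) = (LP (LK LD1_c18 LD2_c22 LD3_c44)) :=
  Lre_c IH (LK LD1_c10 LD2_c4 LD3_c8) (LK LD1_c18 LD2_c22 LD3_c44) Lrfl Lrfl
theorem f427862 : Led Lsl_af (LP (LK LD1_c5 LD2_c6 LD3_c42)) = (LP (LK LD1_c8 LD2_c49 LD3_c12)) :=
  Lgr Lrot68 (Lpr_ct (K44.f201392 IH) (Lpr_at (K36.f427850 IH) (Lpr_ct (K42.f427861 IH) (Lpn (LP (LK LD1_c8 LD2_c49 LD3_c12))))))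
theorem f427832 : Led Lsl_ft (LP (LK LD1_c10 LD2_c17 LD3_c29)) = (LP (LK LD1_c8 LD2_c49 LD3_c12)) :=
  Lgr Lrot54 (Lpe (K36.f308171 IH) (Lpr_ff (K36.f427824 IH) (Lpe (K36.f427826 IH) (Lpn (LP (LK LD1_c8 LD2_c49 LD3_c12))))))
theorem f427887 : Led Lsl_gf (LP (LK LD1_c10 LD2_c4 LD3_c8)) = (LP (LK LD1_c10 LD2_c17 LD3_c29)) :=
  Lgr Lrot47 (Lpr_gt (K44.f166414 IH) (Lpr_af (f427862 IH) (Lpe (f427832 IH) (Lpn (LP (LK LD1_c10 LD2_c17 LD3_c29))))))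
theorem f308351 : Led Lsl_bt (LP (LK LD1_c10 LD2_c5 LD3_c3)) = (LP (LK LD1_c10 LD2_c17 LD3_c29)) :=
  Lgr Lrot62 (Lpe (K32.f53300 IH) (Lpr_bf (K43.f53250 IH) (Lpr_af (K36.f308349 IH) (Lpe (K43.f308173 IH) (Lpe (K42.f308193 IH) (Lpn (LP (LK LD1_c10 LD2_c17 LD3_c29))))))))
theorem f308568 : Led Lsl_at (LP (LK LD1_c10 LD2_c5 LD3_c7)) = (LP (LK LD1_c18 LD2_c23 LD3_c42)) :=
  Lre_a IH (LK LD1_c10 LD2_c5 LD3_c7) (LK LD1_c18 LD2_c23 LD3_c42) Lrfl Lrfl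
theorem f308569 : Led Lsl_ft (LP (LK LD1_c10 LD2_c18 LD3_c0)) = (LP (LK LD1_c10 LD2_c5 LD3_c7)) :=
  Lgr Lrot101 (Lpe (K39.f308499 IH) (Lpr_ff (K39.f308561 IH) (Lpe (f308568 IH) (Lpn (LP (LK LD1_c10 LD2_c5 LD3_c7))))))
theorem f201616 : Led Lsl_gt (LP (LK LD1_c10 LD2_c18 LD3_c0)) = (LP (LK LD1_c18 LD2_c43 LD3_c5)) :=
  Lre_g IH (LK LD1_c10 LD2_c18 LD3_c0) (LK LD1_c18 LD2_c43 LD3_c5) Lrfl Lrfl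
theorem f308586 : Led Lsl_gt (LP (LK LD1_c18 LD2_c43 LD3_c5)) = (LP (LK LD1_c18 LD2_c23 LD3_c42)) :=
  Lgr Lrot46 (Lpe (f201616 IH) (Lpr_ft (f308569 IH) (Lpr_at (f308568 IH) (Lpn (LP (LK LD1_c18 LD2_c23 LD3_c42))))))
theorem f593973 : Led Lsl_ct (LP (LK LD1_c15 LD2_c26 LD3_c21)) = (LP (LK LD1_c18 LD2_c43 LD3_c5)) :=
  Lgr Lrot64 (Lpr_bt (f541337 IH) (Lpr_gf (K36.f541324 IH) (Lpr_bf (f566901 IH) (Lpr_ct (f547704 IH) (Lpr_gf (f593971 IH) (Lpe (f421371 IH) (Lpr_gf (f427887 IH) (Lpe (f308351 IH) (Lpr_ct (K39.f308417 IH) (Lpe (f308586 IH) (Lpn (LP (LK LD1_c18 LD2_c43 LD3_c5)))))))))))))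
theorem f593975 : Led Lsl_cf (LP (LK LD1_c15 LD2_c26 LD3_c21)) = (LP (LK LD1_c18 LD2_c43 LD3_c5)) :=
  Lgr Lrot11 (Lpr_ct (f593973 IH) (Lpn (LP (LK LD1_c18 LD2_c43 LD3_c5))))
theorem f579104 : Led Lsl_cf (LP (LK LD1_c8 LD2_c12 LD3_c20)) = (LP (LK LD1_c4 LD2_c53 LD3_c53)) :=
  Lgr Lrot39 (Lpr_et (K39.f541293 IH) (Lpr_ct (K43.f574025 IH) (Lpr_et (K43.f579102 IH) (Lpn (LP (LK LD1_c4 LD2_c53 LD3_c53))))))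
theorem f594046 : Led Lsl_df (LP (LK LD1_c6 LD2_c14 LD3_c35)) = (LP (LK LD1_c10 LD2_c17 LD3_c61)) :=
  Lgr Lrot155 (Lpr_gt (K43.f112750 IH) (Lpr_ct (K39.f496272 IH) (Lpq (K36.f537605 IH) (Lpr_gt (K36.f31621 IH) (Lpe (f579104 IH) (Lpr_dt (K43.f541289 IH) (Lpr_cf (f593975 IH) (Lpe (f201616 IH) (Lpe (K41.f201599 IH) (Lpe (K43.f164081 IH) (Lpn (LP (LK LD1_c10 LD2_c17 LD3_c61)))))))))))))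
theorem f594048 : Led Lsl_bt (LP (LK LD1_c13 LD2_c31 LD3_c21)) = (LP (LK LD1_c10 LD2_c17 LD3_c61)) :=
  Lgr Lrot95 (Lpe (K43.f98192 IH) (Lpe (K43.f571372 IH) (Lpr_df (f594046 IH) (Lpn (LP (LK LD1_c10 LD2_c17 LD3_c61))))))
theorem f239278 : Led Lsl_ct (LP (LK LD1_c11 LD2_c35 LD3_c22)) = (LP (LK LD1_c20 LD2_c33 LD3_c24)) :=
  Lre_c IH (LK LD1_c11 LD2_c35 LD3_c22) (LK LD1_c20 LD2_c33 LD3_c24) Lrfl Lrfl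
theorem f594062 : Led Lsl_gf (LP (LK LD1_c22 LD2_c52 LD3_c32)) = (LP (LK LD1_c20 LD2_c33 LD3_c24)) :=
  Lgr Lrot129 (Lpe (K43.f128255 IH) (Lpr_bt (f594048 IH) (Lpr_gt (K43.f164081 IH) (Lpe (K32.f201591 IH) (Lpr_ct (K14.f255313 IH) (Lpr_gt (K41.f266508 IH) (Lpe (K15.f266510 IH) (Lpr_bt (K41.f266521 IH) (Lpr_gt (K41.f556962 IH) (Lpr_ct (f239278 IH) (Lpn (LP (LK LD1_c20 LD2_c33 LD3_c24)))))))))))))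
theorem f540810 : Led Lsl_dt (LP (LK LD1_c26 LD2_c8 LD3_c50)) = (LP (LK LD1_c16 LD2_c12 LD3_c0)) :=
  Lre_d IH (LK LD1_c26 LD2_c8 LD3_c50) (LK LD1_c16 LD2_c12 LD3_c0) Lrfl Lrfl
theorem f594066 : Led Lsl_gt (LP (LK LD1_c30 LD2_c46 LD3_c13)) = (LP (LK LD1_c26 LD2_c8 LD3_c50)) :=
  Lgr Lrot49 (Lpe (K43.f128261 IH) (Lpr_gf (f594062 IH) (Lpe (f239278 IH) (Lpe (K41.f556960 IH) (Lpr_dt (K41.f411042 IH) (Lpr_gt (f569918 IH) (Lpr_dt (K42.f540796 IH) (Lpe (f540809 IH) (Lpe (f540810 IH) (Lpn (LP (LK LD1_c26 LD2_c8 LD3_c50))))))))))))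
theorem f574808 : Led Lsl_ct (LP (LK LD1_c8 LD2_c4 LD3_c54)) = (LP (LK LD1_c10 LD2_c1 LD3_c17)) :=
  Lgr Lrot8 (Lpr_gt (K42.f386134 IH) (Lpr_dt (K42.f386136 IH) (Lpr_gt (K43.f574800 IH) (Lpr_dt (K42.f97160 IH) (Lpr_cf (K42.f97158 IH) (Lpe (K43.f97163 IH) (Lpr_gf (K43.f573155 IH) (Lpe (K43.f411041 IH) (Lpr_gf (K43.f411039 IH) (Lpn (LP (LK LD1_c10 LD2_c1 LD3_c17))))))))))))
theorem f133027 : Led Lsl_af (LP (LK LD1_c4 LD2_c24 LD3_c13)) = (LP (LK LD1_c7 LD2_c56 LD3_c41)) :=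
  Lgr Lrot68 (Lpr_ct (K43.f81008 IH) (Lpr_at (K42.f118915 IH) (Lpr_ct (K43.f133025 IH) (Lpn (LP (LK LD1_c7 LD2_c56 LD3_c41))))))
theorem f563654 : Led Lsl_ff (LP (LK LD1_c7 LD2_c56 LD3_c41)) = (LP (LK LD1_c8 LD2_c3 LD3_c38)) :=
  Lgr Lrot52 (Lpe (f133027 IH) (Lpr_gf (K43.f563652 IH) (Lpe (K42.f211639 IH) (Lpn (LP (LK LD1_c8 LD2_c3 LD3_c38))))))
theorem f569497 : Led Lsl_ff (LP (LK LD1_c8 LD2_c43 LD3_c25)) = (LP (LK LD1_c6 LD2_c24 LD3_c25)) :=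
  Lgr Lrot23 (Lpr_ct (K42.f569491 IH) (Lpe (f563654 IH) (Lpe (K43.f133029 IH) (Lpn (LP (LK LD1_c6 LD2_c24 LD3_c25))))))
theorem f572468 : Led Lsl_af (LP (LK LD1_c10 LD2_c1 LD3_c17)) = (LP (LK LD1_c8 LD2_c43 LD3_c25)) :=
  Lgr Lrot45 (Lpr_ft (K42.f572465 IH) (Lpr_at (K42.f118915 IH) (Lpe (f569497 IH) (Lpn (LP (LK LD1_c8 LD2_c43 LD3_c25))))))
theorem f540803 : Led Lsl_dt (LP (LK LD1_c16 LD2_c12 LD3_c0)) = (LP (LK LD1_c26 LD2_c8 LD3_c50)) :=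
  Lre_d IH (LK LD1_c16 LD2_c12 LD3_c0) (LK LD1_c26 LD2_c8 LD3_c50) Lrfl Lrfl
theorem f587485 : Led Lsl_cf (LP (LK LD1_c30 LD2_c57 LD3_c51)) = (LP (LK LD1_c26 LD2_c8 LD3_c50)) :=
  Lgr Lrot116 (Lpr_dt (f573826 IH) (Lpr_ct (f587481 IH) (Lpr_dt (f386137 IH) (Lpr_ct (f574808 IH) (Lpr_af (f572468 IH) (Lpr_ff (f569497 IH) (Lpr_dt (K42.f540796 IH) (Lpr_ct (f540802 IH) (Lpr_dt (f540803 IH) (Lpn (LP (LK LD1_c26 LD2_c8 LD3_c50))))))))))))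
theorem f587480 : Led Lsl_dt (LP (LK LD1_c23 LD2_c15 LD3_c2)) = (LP (LK LD1_c30 LD2_c57 LD3_c51)) :=
  Lre_d IH (LK LD1_c23 LD2_c15 LD3_c2) (LK LD1_c30 LD2_c57 LD3_c51) Lrfl Lrfl
theorem f594070 : Led Lsl_cf (LP (LK LD1_c30 LD2_c46 LD3_c13)) = (LP (LK LD1_c23 LD2_c15 LD3_c23)) :=
  Lgr Lrot169 (Lpr_gt (f594066 IH) (Lpe (f587485 IH) (Lpe (f587480 IH) (Lpr_cf (f587483 IH) (Lpe (f587800 IH) (Lpe (K42.f193426 IH) (Lpe (K42.f193429 IH) (Lpe (K43.f569566 IH) (Lpe (K43.f573713 IH) (Lpn (LP (LK LD1_c23 LD2_c15 LD3_c23))))))))))))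
theorem f587595 : Led Lsl_ft (LP (LK LD1_c30 LD2_c46 LD3_c13)) = (LP (LK LD1_c23 LD2_c19 LD3_c61)) :=
  Lgr Lrot54 (Lpe (K43.f128261 IH) (Lpr_ff (f587569 IH) (Lpe (f569627 IH) (Lpn (LP (LK LD1_c23 LD2_c19 LD3_c61))))))
theorem f594073 : Led Lsl_ft (LP (LK LD1_c23 LD2_c15 LD3_c28)) = (LP (LK LD1_c23 LD2_c15 LD3_c23)) :=
  Lgr Lrot4 (Lpe (f573937 IH) (Lpe (f587595 IH) (Lpr_cf (f594070 IH) (Lpn (LP (LK LD1_c23 LD2_c15 LD3_c23))))))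
theorem f5697 : Led Lsl_dt (LP (LK LD1_c13 LD2_c50 LD3_c53)) = (LP (LK LD1_c23 LD2_c20 LD3_c4)) :=
  Lre_d IH (LK LD1_c13 LD2_c50 LD3_c53) (LK LD1_c23 LD2_c20 LD3_c4) Lrfl Lrfl
theorem f5456 : Led Lsl_gt (LP (LK LD1_c23 LD2_c15 LD3_c29)) = (LP (LK LD1_c13 LD2_c47 LD3_c45)) :=
  Lre_g IH (LK LD1_c23 LD2_c15 LD3_c29) (LK LD1_c13 LD2_c47 LD3_c45) Lrfl Lrfl
theorem f573876 : Led Lsl_gf (LP (LK LD1_c23 LD2_c15 LD3_c29)) = (LP (LK LD1_c30 LD2_c57 LD3_c47)) :=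
  Lgr Lrot47 (Lpr_gt (f5456 IH) (Lpe (K43.f5442 IH) (Lpr_ff (K43.f573870 IH) (Lpn (LP (LK LD1_c30 LD2_c57 LD3_c47))))))
theorem f594080 : Led Lsl_af (LP (LK LD1_c23 LD2_c15 LD3_c29)) = (LP (LK LD1_c23 LD2_c15 LD3_c23)) :=
  Lgr Lrot31 (Lpr_gf (f573876 IH) (Lpr_gf (f587885 IH) (Lpr_ft (f594073 IH) (Lpn (LP (LK LD1_c23 LD2_c15 LD3_c23))))))
theorem f594082 : Led Lsl_ct (LP (LK LD1_c23 LD2_c20 LD3_c4)) = (LP (LK LD1_c23 LD2_c15 LD3_c29)) :=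
  Lgr Lrot98 (Lpe (f5697 IH) (Lpe (f5695 IH) (Lpr_df (f573195 IH) (Lpe (K42.f242223 IH) (Lpe (K43.f242246 IH) (Lpe (K42.f240033 IH) (Lpr_df (K43.f573929 IH) (Lpr_ft (f594073 IH) (Lpe (f594080 IH) (Lpn (LP (LK LD1_c23 LD2_c15 LD3_c29))))))))))))
theorem f587519 : Led Lsl_ct (LP (LK LD1_c26 LD2_c22 LD3_c1)) = (LP (LK LD1_c31 LD2_c0 LD3_c43)) :=
  Lgr Lrot59 (Lpr_cf (f587516 IH) (Lpn (LP (LK LD1_c31 LD2_c0 LD3_c43))))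
theorem f587909 : Led Lsl_ft (LP (LK LD1_c22 LD2_c49 LD3_c51)) = (LP (LK LD1_c23 LD2_c15 LD3_c12)) :=
  Lgr Lrot4 (Lpe (K43.f97164 IH) (Lpe (f572733 IH) (Lpr_cf (f587899 IH) (Lpn (LP (LK LD1_c23 LD2_c15 LD3_c12))))))
theorem f587916 : Led Lsl_dt (LP (LK LD1_c23 LD2_c15 LD3_c12)) = (LP (LK LD1_c30 LD2_c57 LD3_c54)) :=
  Lgr Lrot60 (Lpe (f587909 IH) (Lpe (f97162 IH) (Lpr_ff (f587911 IH) (Lpn (LP (LK LD1_c30 LD2_c57 LD3_c54))))))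
theorem f5696 : Led Lsl_dt (LP (LK LD1_c23 LD2_c20 LD3_c4)) = (LP (LK LD1_c13 LD2_c50 LD3_c53)) :=
  Lre_d IH (LK LD1_c23 LD2_c20 LD3_c4) (LK LD1_c13 LD2_c50 LD3_c53) Lrfl Lrfl
theorem f587986 : Led Lsl_gt (LP (LK LD1_c31 LD2_c0 LD3_c43)) = (LP (LK LD1_c23 LD2_c20 LD3_c4)) :=
  Lgr Lrot94 (Lpe (f587519 IH) (Lpr_gt (f587980 IH) (Lpr_dt (f569598 IH) (Lpr_gt (f5620 IH) (Lpr_dt (f587916 IH) (Lpe (f587624 IH) (Lpe (f441497 IH) (Lpr_gf (f587616 IH) (Lpe (f5696 IH) (Lpn (LP (LK LD1_c23 LD2_c20 LD3_c4))))))))))))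
theorem f587891 : Led Lsl_gf (LP (LK LD1_c15 LD2_c7 LD3_c49)) = (LP (LK LD1_c8 LD2_c4 LD3_c49)) :=
  Lgr Lrot144 (Lpr_dt (K43.f112593 IH) (Lpr_gt (K42.f569623 IH) (Lpr_dt (K42.f564955 IH) (Lpe (f5683 IH) (Lpe (f569627 IH) (Lpe (f569628 IH) (Lpr_df (f587889 IH) (Lpe (f417962 IH) (Lpe (f190297 IH) (Lpn (LP (LK LD1_c8 LD2_c4 LD3_c49))))))))))))
theorem f190301 : Led Lsl_ct (LP (LK LD1_c15 LD2_c12 LD3_c51)) = (LP (LK LD1_c8 LD2_c4 LD3_c49)) :=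
  Lre_c IH (LK LD1_c15 LD2_c12 LD3_c51) (LK LD1_c8 LD2_c4 LD3_c49) Lrfl Lrfl
theorem f190302 : Led Lsl_gt (LP (LK LD1_c25 LD2_c1 LD3_c50)) = (LP (LK LD1_c15 LD2_c12 LD3_c51)) :=
  Lre_g IH (LK LD1_c25 LD2_c1 LD3_c50) (LK LD1_c15 LD2_c12 LD3_c51) Lrfl Lrfl
theorem f594094 : Led Lsl_df (LP (LK LD1_c31 LD2_c0 LD3_c43)) = (LP (LK LD1_c25 LD2_c1 LD3_c50)) :=
  Lgr Lrot155 (Lpr_gt (f587986 IH) (Lpr_ct (f594082 IH) (Lpr_gt (f5456 IH) (Lpr_ct (K24.f5439 IH) (Lpr_dt (K43.f573861 IH) (Lpe (K43.f573848 IH) (Lpr_gf (f587891 IH) (Lpe (f190301 IH) (Lpe (f190302 IH) (Lpn (LP (LK LD1_c25 LD2_c1 LD3_c50))))))))))))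
theorem f81066 : Led Lsl_dt (LP (LK LD1_c26 LD2_c22 LD3_c1)) = (LP (LK LD1_c16 LD2_c24 LD3_c22)) :=
  Lre_d IH (LK LD1_c26 LD2_c22 LD3_c1) (LK LD1_c16 LD2_c24 LD3_c22) Lrfl Lrfl
theorem f594098 : Led Lsl_ct (LP (LK LD1_c16 LD2_c11 LD3_c57)) = (LP (LK LD1_c25 LD2_c1 LD3_c50)) :=
  Lgr Lrot176 (Lpe (K42.f570537 IH) (Lpr_cf (K42.f569493 IH) (Lpe (K42.f242249 IH) (Lpe (K42.f386148 IH) (Lpr_df (f590718 IH) (Lpe (f587895 IH) (Lpr_df (f587889 IH) (Lpr_cf (f587375 IH) (Lpe (K35.f538490 IH) (Lpe (K43.f81008 IH) (Lpe (K5.f81002 IH) (Lpe (f81062 IH) (Lpe (f81066 IH) (Lpr_cf (f587516 IH) (Lpr_df (f594094 IH) (Lpn (LP (LK LD1_c25 LD2_c1 LD3_c50))))))))))))))))))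
theorem f31981 : Led Lsl_at (LP (LK LD1_c8 LD2_c38 LD3_c59)) = (LP (LK LD1_c4 LD2_c20 LD3_c39)) :=
  Lre_a IH (LK LD1_c8 LD2_c38 LD3_c59) (LK LD1_c4 LD2_c20 LD3_c39) Lrfl Lrfl
theorem f31984 : Led Lsl_bf (LP (LK LD1_c8 LD2_c38 LD3_c59)) = (LP (LK LD1_c8 LD2_c38 LD3_c17)) :=
  Lgr Lrot81 (Lpr_at (f31981 IH) (Lpr_bt (f31980 IH) (Lpr_at (K0.f31971 IH) (Lpr_bt (f31982 IH) (Lpr_at (K38.f31983 IH) (Lpn (LP (LK LD1_c8 LD2_c38 LD3_c17))))))))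
theorem f193505 : Led Lsl_gt (LP (LK LD1_c8 LD2_c25 LD3_c61)) = (LP (LK LD1_c15 LD2_c50 LD3_c18)) :=
  Lre_g IH (LK LD1_c8 LD2_c25 LD3_c61) (LK LD1_c15 LD2_c50 LD3_c18) Lrfl Lrfl
theorem f594268 : Led Lsl_ct (LP (LK LD1_c8 LD2_c38 LD3_c17)) = (LP (LK LD1_c15 LD2_c50 LD3_c18)) :=
  Lgr Lrot10 (Lpe (f31984 IH) (Lpr_gt (K42.f36126 IH) (Lpr_ct (f594098 IH) (Lpr_gt (f190302 IH) (Lpe (f190297 IH) (Lpr_bt (K43.f193503 IH) (Lpe (K12.f193501 IH) (Lpe (K10.f46834 IH) (Lpr_ct (K38.f56196 IH) (Lpr_gt (f193505 IH) (Lpn (LP (LK LD1_c15 LD2_c50 LD3_c18)))))))))))))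
theorem f594275 : Led Lsl_cf (LP (LK LD1_c8 LD2_c38 LD3_c17)) = (LP (LK LD1_c15 LD2_c50 LD3_c18)) :=
  Lgr Lrot11 (Lpr_ct (f594268 IH) (Lpn (LP (LK LD1_c15 LD2_c50 LD3_c18))))
theorem f56189 : Led Lsl_gt (LP (LK LD1_c8 LD2_c25 LD3_c60)) = (LP (LK LD1_c4 LD2_c13 LD3_c31)) :=
  Lre_g IH (LK LD1_c8 LD2_c25 LD3_c60) (LK LD1_c4 LD2_c13 LD3_c31) Lrfl Lrfl
theorem f594317 : Led Lsl_df (LP (LK LD1_c10 LD2_c17 LD3_c28)) = (LP (LK LD1_c8 LD2_c25 LD3_c60)) :=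
  Lgr Lrot155 (Lpe (K38.f542367 IH) (Lpr_ct (K37.f418131 IH) (Lpe (K38.f549634 IH) (Lpr_ct (K37.f34962 IH) (Lpr_dt (K37.f34949 IH) (Lpr_cf (f594275 IH) (Lpe (f193505 IH) (Lpe (K38.f56196 IH) (Lpe (f56189 IH) (Lpn (LP (LK LD1_c8 LD2_c25 LD3_c60))))))))))))
theorem f594322 : Led Lsl_bt (LP (LK LD1_c10 LD2_c16 LD3_c14)) = (LP (LK LD1_c8 LD2_c25 LD3_c60)) :=
  Lgr Lrot95 (Lpe (K39.f555877 IH) (Lpe (K42.f193361 IH) (Lpr_df (f594317 IH) (Lpn (LP (LK LD1_c8 LD2_c25 LD3_c60))))))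
theorem f594366 : Led Lsl_bf (LP (LK LD1_c10 LD2_c16 LD3_c14)) = (LP (LK LD1_c8 LD2_c25 LD3_c60)) :=
  Lgr Lrot24 (Lpr_bt (f594322 IH) (Lpn (LP (LK LD1_c8 LD2_c25 LD3_c60))))
theorem f421376 : Led Lsl_dt (LP (LK LD1_c8 LD2_c49 LD3_c15)) = (LP (LK LD1_c4 LD2_c25 LD3_c57)) :=
  Lre_d IH (LK LD1_c8 LD2_c49 LD3_c15) (LK LD1_c4 LD2_c25 LD3_c57) Lrfl Lrfl
theorem f555881 : Led Lsl_af (LP (LK LD1_c8 LD2_c49 LD3_c15)) = (LP (LK LD1_c10 LD2_c16 LD3_c14)) :=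
  Lgr Lrot117 (Lpr_dt (f421376 IH) (Lpe (K36.f427820 IH) (Lpr_dt (K39.f555877 IH) (Lpn (LP (LK LD1_c10 LD2_c16 LD3_c14))))))
theorem f574559 : Led Lsl_bt (LP (LK LD1_c8 LD2_c49 LD3_c15)) = (LP (LK LD1_c16 LD2_c29 LD3_c25)) :=
  Lre_b IH (LK LD1_c8 LD2_c49 LD3_c15) (LK LD1_c16 LD2_c29 LD3_c25) Lrfl Lrfl
theorem f428061 : Led Lsl_cf (LP (LK LD1_c10 LD2_c17 LD3_c28)) = (LP (LK LD1_c9 LD2_c47 LD3_c38)) :=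
  Lgr Lrot108 (Lpr_ft (K38.f428058 IH) (Lpr_ct (K32.f421403 IH) (Lpr_ft (K41.f387105 IH) (Lpn (LP (LK LD1_c9 LD2_c47 LD3_c38))))))
theorem f557713 : Led Lsl_ef (LP (LK LD1_c8 LD2_c44 LD3_c50)) = (LP (LK LD1_c10 LD2_c17 LD3_c28)) :=
  Lgr Lrot28 (Lpr_ct (K40.f175582 IH) (Lpr_et (K40.f557709 IH) (Lpe (f428061 IH) (Lpn (LP (LK LD1_c10 LD2_c17 LD3_c28))))))
theorem f56310 : Led Lsl_et (LP (LK LD1_c15 LD2_c50 LD3_c17)) = (LP (LK LD1_c8 LD2_c25 LD3_c60)) :=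
  Lre_e IH (LK LD1_c15 LD2_c50 LD3_c17) (LK LD1_c8 LD2_c25 LD3_c60) Lrfl Lrfl
theorem f56316 : Led Lsl_dt (LP (LK LD1_c25 LD2_c46 LD3_c27)) = (LP (LK LD1_c15 LD2_c50 LD3_c17)) :=
  Lre_d IH (LK LD1_c25 LD2_c46 LD3_c27) (LK LD1_c15 LD2_c50 LD3_c17) Lrfl Lrfl
theorem f594324 : Led Lsl_et (LP (LK LD1_c16 LD2_c22 LD3_c20)) = (LP (LK LD1_c25 LD2_c46 LD3_c27)) :=
  Lgr Lrot71 (Lpe (K40.f175584 IH) (Lpr_ef (f557713 IH) (Lpr_df (f594317 IH) (Lpe (f56310 IH) (Lpe (f56316 IH) (Lpn (LP (LK LD1_c25 LD2_c46 LD3_c27))))))))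
theorem f594335 : Led Lsl_ef (LP (LK LD1_c16 LD2_c22 LD3_c20)) = (LP (LK LD1_c25 LD2_c46 LD3_c27)) :=
  Lgr Lrot88 (Lpr_et (f594324 IH) (Lpn (LP (LK LD1_c25 LD2_c46 LD3_c27))))
theorem f209888 : Led Lsl_et (LP (LK LD1_c8 LD2_c50 LD3_c20)) = (LP (LK LD1_c16 LD2_c31 LD3_c15)) :=
  Lre_e IH (LK LD1_c8 LD2_c50 LD3_c20) (LK LD1_c16 LD2_c31 LD3_c15) Lrfl Lrfl
theorem f594337 : Led Lsl_at (LP (LK LD1_c16 LD2_c31 LD3_c15)) = (LP (LK LD1_c25 LD2_c46 LD3_c27)) :=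
  Lgr Lrot80 (Lpe (f209888 IH) (Lpr_af (K41.f563414 IH) (Lpr_ef (f594335 IH) (Lpn (LP (LK LD1_c25 LD2_c46 LD3_c27))))))
theorem f209873 : Led Lsl_et (LP (LK LD1_c15 LD2_c50 LD3_c12)) = (LP (LK LD1_c25 LD2_c46 LD3_c19)) :=
  Lre_e IH (LK LD1_c15 LD2_c50 LD3_c12) (LK LD1_c25 LD2_c46 LD3_c19) Lrfl Lrfl
theorem f209876 : Led Lsl_et (LP (LK LD1_c16 LD2_c31 LD3_c15)) = (LP (LK LD1_c8 LD2_c50 LD3_c20)) :=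
  Lre_e IH (LK LD1_c16 LD2_c31 LD3_c15) (LK LD1_c8 LD2_c50 LD3_c20) Lrfl Lrfl
theorem f209877 : Led Lsl_dt (LP (LK LD1_c25 LD2_c46 LD3_c19)) = (LP (LK LD1_c16 LD2_c31 LD3_c15)) :=
  Lgr Lrot77 (Lpe (f209873 IH) (Lpr_df (K39.f209869 IH) (Lpe (K43.f209874 IH) (Lpe (K41.f209875 IH) (Lpe (f209876 IH) (Lpn (LP (LK LD1_c16 LD2_c31 LD3_c15))))))))
theorem f594348 : Led Lsl_af (LP (LK LD1_c25 LD2_c46 LD3_c19)) = (LP (LK LD1_c15 LD2_c50 LD3_c17)) :=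
  Lgr Lrot117 (Lpr_dt (f209877 IH) (Lpr_at (f594337 IH) (Lpr_dt (f56316 IH) (Lpn (LP (LK LD1_c15 LD2_c50 LD3_c17))))))
theorem f594353 : Led Lsl_at (LP (LK LD1_c25 LD2_c46 LD3_c19)) = (LP (LK LD1_c15 LD2_c50 LD3_c17)) :=
  Lgr Lrot100 (Lpr_af (f594348 IH) (Lpn (LP (LK LD1_c15 LD2_c50 LD3_c17))))
theorem f594355 : Led Lsl_af (LP (LK LD1_c15 LD2_c50 LD3_c12)) = (LP (LK LD1_c8 LD2_c25 LD3_c60)) :=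
  Lgr Lrot50 (Lpr_et (f209873 IH) (Lpr_at (f594353 IH) (Lpr_et (f56310 IH) (Lpn (LP (LK LD1_c8 LD2_c25 LD3_c60))))))
theorem f567199 : Led Lsl_bt (LP (LK LD1_c15 LD2_c50 LD3_c12)) = (LP (LK LD1_c23 LD2_c13 LD3_c38)) :=
  Lgr Lrot95 (Lpr_df (K39.f209869 IH) (Lpr_bf (K41.f567190 IH) (Lpe (f567198 IH) (Lpn (LP (LK LD1_c23 LD2_c13 LD3_c38))))))
theorem f413414 : Led Lsl_et (LP (LK LD1_c16 LD2_c19 LD3_c19)) = (LP (LK LD1_c8 LD2_c42 LD3_c47)) :=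
  Lre_e IH (LK LD1_c16 LD2_c19 LD3_c19) (LK LD1_c8 LD2_c42 LD3_c47) Lrfl Lrfl
theorem f573287 : Led Lsl_gf (LP (LK LD1_c10 LD2_c16 LD3_c14)) = (LP (LK LD1_c8 LD2_c49 LD3_c13)) :=
  Lgr Lrot145 (Lpe (K39.f555877 IH) (Lpr_et (K39.f427816 IH) (Lpe (K43.f565112 IH) (Lpr_dt (K43.f449860 IH) (Lpr_gt (K43.f272761 IH) (Lpr_df (f573270 IH) (Lpr_et (f413414 IH) (Lpr_gt (K39.f413412 IH) (Lpr_ef (K38.f164851 IH) (Lpr_dt (K38.f546398 IH) (Lpn (LP (LK LD1_c8 LD2_c49 LD3_c13)))))))))))))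
theorem f427632 : Led Lsl_ft (LP (LK LD1_c4 LD2_c25 LD3_c56)) = (LP (LK LD1_c8 LD2_c49 LD3_c15)) :=
  Lre_f IH (LK LD1_c4 LD2_c25 LD3_c56) (LK LD1_c8 LD2_c49 LD3_c15) Lrfl Lrfl
theorem f573289 : Led Lsl_af (LP (LK LD1_c10 LD2_c16 LD3_c14)) = (LP (LK LD1_c8 LD2_c49 LD3_c15)) :=
  Lgr Lrot31 (Lpr_gf (f573287 IH) (Lpe (K38.f427573 IH) (Lpr_ft (f427632 IH) (Lpn (LP (LK LD1_c8 LD2_c49 LD3_c15))))))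
theorem f573293 : Led Lsl_bt (LP (LK LD1_c16 LD2_c29 LD3_c25)) = (LP (LK LD1_c8 LD2_c49 LD3_c15)) :=
  Lre_b IH (LK LD1_c16 LD2_c29 LD3_c25) (LK LD1_c8 LD2_c49 LD3_c15) Lrfl Lrfl
theorem f594357 : Led Lsl_at (LP (LK LD1_c23 LD2_c13 LD3_c38)) = (LP (LK LD1_c16 LD2_c29 LD3_c25)) :=
  Lgr Lrot67 (Lpe (f567199 IH) (Lpr_af (f594355 IH) (Lpe (f594322 IH) (Lpr_af (f573289 IH) (Lpe (f573293 IH) (Lpn (LP (LK LD1_c16 LD2_c29 LD3_c25))))))))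
theorem f594359 : Led Lsl_af (LP (LK LD1_c23 LD2_c13 LD3_c38)) = (LP (LK LD1_c16 LD2_c29 LD3_c25)) :=
  Lgr Lrot0 (Lpr_at (f594357 IH) (Lpn (LP (LK LD1_c16 LD2_c29 LD3_c25))))
theorem f428051 : Led Lsl_ff (LP (LK LD1_c10 LD2_c17 LD3_c28)) = (LP (LK LD1_c8 LD2_c48 LD3_c53)) :=
  Lgr Lrot25 (Lpr_bt (K42.f193361 IH) (Lpr_ft (K38.f427818 IH) (Lpr_bt (K32.f203301 IH) (Lpn (LP (LK LD1_c8 LD2_c48 LD3_c53))))))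
theorem f567184 : Led Lsl_af (LP (LK LD1_c8 LD2_c50 LD3_c21)) = (LP (LK LD1_c10 LD2_c17 LD3_c28)) :=
  Lgr Lrot31 (Lpr_gf (K41.f567182 IH) (Lpe (K41.f567180 IH) (Lpe (f428051 IH) (Lpn (LP (LK LD1_c10 LD2_c17 LD3_c28))))))
theorem f594320 : Led Lsl_at (LP (LK LD1_c15 LD2_c50 LD3_c12)) = (LP (LK LD1_c8 LD2_c25 LD3_c60)) :=
  Lgr Lrot51 (Lpr_df (K39.f209869 IH) (Lpr_af (f567184 IH) (Lpr_df (f594317 IH) (Lpn (LP (LK LD1_c8 LD2_c25 LD3_c60))))))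
theorem f594368 : Led Lsl_bt (LP (LK LD1_c23 LD2_c13 LD3_c38)) = (LP (LK LD1_c15 LD2_c50 LD3_c12)) :=
  Lgr Lrot62 (Lpr_af (f594359 IH) (Lpe (f574559 IH) (Lpr_af (f555881 IH) (Lpr_bf (f594366 IH) (Lpe (f594320 IH) (Lpn (LP (LK LD1_c15 LD2_c50 LD3_c12))))))))
theorem f203316 : Led Lsl_ft (LP (LK LD1_c16 LD2_c29 LD3_c25)) = (LP (LK LD1_c8 LD2_c48 LD3_c61)) :=
  Lre_f IH (LK LD1_c16 LD2_c29 LD3_c25) (LK LD1_c8 LD2_c48 LD3_c61) Lrfl Lrfl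
theorem f69468 : Led Lsl_dt (LP (LK LD1_c15 LD2_c7 LD3_c55)) = (LP (LK LD1_c8 LD2_c2 LD3_c13)) :=
  Lre_d IH (LK LD1_c15 LD2_c7 LD3_c55) (LK LD1_c8 LD2_c2 LD3_c13) Lrfl Lrfl
theorem f203306 : Led Lsl_af (LP (LK LD1_c15 LD2_c7 LD3_c55)) = (LP (LK LD1_c8 LD2_c48 LD3_c61)) :=
  Lgr Lrot117 (Lpr_dt (f69468 IH) (Lpr_at (K32.f203295 IH) (Lpr_dt (f149426 IH) (Lpn (LP (LK LD1_c8 LD2_c48 LD3_c61))))))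
theorem f594361 : Led Lsl_ff (LP (LK LD1_c23 LD2_c13 LD3_c38)) = (LP (LK LD1_c15 LD2_c7 LD3_c55)) :=
  Lgr Lrot30 (Lpr_at (f594357 IH) (Lpr_ft (f203316 IH) (Lpe (f203306 IH) (Lpn (LP (LK LD1_c15 LD2_c7 LD3_c55))))))
theorem f590219 : Led Lsl_bt (LP (LK LD1_c8 LD2_c25 LD3_c59)) = (LP (LK LD1_c15 LD2_c7 LD3_c55)) :=
  Lgr Lrot95 (Lpr_df (f590217 IH) (Lpe (K36.f69463 IH) (Lpe (f69468 IH) (Lpn (LP (LK LD1_c15 LD2_c7 LD3_c55))))))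
theorem f594370 : Led Lsl_ff (LP (LK LD1_c8 LD2_c25 LD3_c59)) = (LP (LK LD1_c15 LD2_c50 LD3_c12)) :=
  Lgr Lrot25 (Lpr_bt (f590219 IH) (Lpe (f594361 IH) (Lpr_bt (f594368 IH) (Lpn (LP (LK LD1_c15 LD2_c50 LD3_c12))))))
theorem f46847 : Led Lsl_gt (LP (LK LD1_c8 LD2_c25 LD3_c58)) = (LP (LK LD1_c15 LD2_c50 LD3_c11)) :=
  Lre_g IH (LK LD1_c8 LD2_c25 LD3_c58) (LK LD1_c15 LD2_c50 LD3_c11) Lrfl Lrfl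
theorem f594374 : Led Lsl_at (LP (LK LD1_c8 LD2_c25 LD3_c59)) = (LP (LK LD1_c15 LD2_c50 LD3_c11)) :=
  Lgr Lrot26 (Lpr_ff (f594370 IH) (Lpr_gt (K39.f46848 IH) (Lpr_gt (f46847 IH) (Lpn (LP (LK LD1_c15 LD2_c50 LD3_c11))))))
theorem f594380 : Led Lsl_ff (LP (LK LD1_c8 LD2_c25 LD3_c60)) = (LP (LK LD1_c15 LD2_c50 LD3_c11)) :=
  Lgr Lrot30 (Lpe (f594355 IH) (Lpe (f594370 IH) (Lpr_at (f594374 IH) (Lpn (LP (LK LD1_c15 LD2_c50 LD3_c11))))))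
theorem f594384 : Led Lsl_dt (LP (LK LD1_c8 LD2_c48 LD3_c53)) = (LP (LK LD1_c15 LD2_c50 LD3_c11)) :=
  Lgr Lrot60 (Lpe (K38.f428058 IH) (Lpr_df (f594317 IH) (Lpr_ff (f594380 IH) (Lpn (LP (LK LD1_c15 LD2_c50 LD3_c11))))))
theorem f158673 : Led Lsl_et (LP (LK LD1_c8 LD2_c48 LD3_c53)) = (LP (LK LD1_c4 LD2_c25 LD3_c40)) :=
  Lre_e IH (LK LD1_c8 LD2_c48 LD3_c53) (LK LD1_c4 LD2_c25 LD3_c40) Lrfl Lrfl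
theorem f575796 : Led Lsl_at (LP (LK LD1_c8 LD2_c25 LD3_c55)) = (LP (LK LD1_c4 LD2_c13 LD3_c29)) :=
  Lre_a IH (LK LD1_c8 LD2_c25 LD3_c55) (LK LD1_c4 LD2_c13 LD3_c29) Lrfl Lrfl
theorem f593904 : Led Lsl_ef (LP (LK LD1_c8 LD2_c25 LD3_c55)) = (LP (LK LD1_c11 LD2_c8 LD3_c23)) :=
  Lgr Lrot20 (Lpr_at (f575796 IH) (Lpr_et (f575800 IH) (Lpr_at (f593896 IH) (Lpn (LP (LK LD1_c11 LD2_c8 LD3_c23))))))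
theorem f594400 : Led Lsl_gt (LP (LK LD1_c8 LD2_c25 LD3_c55)) = (LP (LK LD1_c4 LD2_c13 LD3_c30)) :=
  Lgr Lrot137 (Lpr_ef (f593904 IH) (Lpr_dt (K44.f580654 IH) (Lpe (K44.f272533 IH) (Lpe (K36.f210983 IH) (Lpr_et (K42.f542127 IH) (Lpe (K8.f161425 IH) (Lpe (f158673 IH) (Lpr_dt (f594384 IH) (Lpe (f46847 IH) (Lpe (K39.f46828 IH) (Lpn (LP (LK LD1_c4 LD2_c13 LD3_c30)))))))))))))
theorem f547904 : Led Lsl_dt (LP (LK LD1_c4 LD2_c35 LD3_c38)) = (LP (LK LD1_c2 LD2_c16 LD3_c55)) :=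
  Lgr Lrot44 (Lpr_af (K36.f547894 IH) (Lpe (K37.f56240 IH) (Lpe (K38.f56191 IH) (Lpn (LP (LK LD1_c2 LD2_c16 LD3_c55))))))
theorem f547896 : Led Lsl_ct (LP (LK LD1_c9 LD2_c7 LD3_c44)) = (LP (LK LD1_c4 LD2_c35 LD3_c38)) :=
  Lre_c IH (LK LD1_c9 LD2_c7 LD3_c44) (LK LD1_c4 LD2_c35 LD3_c38) Lrfl Lrfl
theorem f594407 : Led Lsl_cf (LP (LK LD1_c8 LD2_c25 LD3_c55)) = (LP (LK LD1_c9 LD2_c39 LD3_c18)) :=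
  Lgr Lrot169 (Lpr_gt (f594400 IH) (Lpr_ct (K38.f56192 IH) (Lpe (f547904 IH) (Lpe (f547896 IH) (Lpr_gf (K43.f579116 IH) (Lpe (K43.f579112 IH) (Lpr_gf (K43.f574501 IH) (Lpe (K43.f574503 IH) (Lpe (K44.f581445 IH) (Lpn (LP (LK LD1_c9 LD2_c39 LD3_c18))))))))))))
theorem f594378 : Led Lsl_df (LP (LK LD1_c8 LD2_c48 LD3_c53)) = (LP (LK LD1_c15 LD2_c50 LD3_c11)) :=
  Lgr Lrot18 (Lpe (K32.f203302 IH) (Lpe (f590217 IH) (Lpr_at (f594374 IH) (Lpn (LP (LK LD1_c15 LD2_c50 LD3_c11))))))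
theorem f559492 : Led Lsl_bt (LP (LK LD1_c4 LD2_c7 LD3_c16)) = (LP (LK LD1_c8 LD2_c14 LD3_c51)) :=
  Lre_b IH (LK LD1_c4 LD2_c7 LD3_c16) (LK LD1_c8 LD2_c14 LD3_c51) Lrfl Lrfl
theorem f559493 : Led Lsl_dt (LP (LK LD1_c8 LD2_c14 LD3_c51)) = (LP (LK LD1_c4 LD2_c58 LD3_c30)) :=
  Lgr Lrot79 (Lpe (f559492 IH) (Lpr_df (K40.f559488 IH) (Lpe (K32.f161216 IH) (Lpn (LP (LK LD1_c4 LD2_c58 LD3_c30))))))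
theorem f552282 : Led Lsl_bt (LP (LK LD1_c4 LD2_c53 LD3_c54)) = (LP (LK LD1_c9 LD2_c39 LD3_c18)) :=
  Lre_b IH (LK LD1_c4 LD2_c53 LD3_c54) (LK LD1_c9 LD2_c39 LD3_c18) Lrfl Lrfl
theorem f572876 : Led Lsl_gt (LP (LK LD1_c9 LD2_c39 LD3_c18)) = (LP (LK LD1_c5 LD2_c47 LD3_c53)) :=
  Lgr Lrot164 (Lpe (f552282 IH) (Lpr_ct (K39.f552284 IH) (Lpr_gf (K39.f556455 IH) (Lpe (K41.f132790 IH) (Lpr_gf (K42.f569476 IH) (Lpr_bf (K42.f551759 IH) (Lpr_ct (K42.f406470 IH) (Lpr_gf (K42.f572870 IH) (Lpe (K42.f117571 IH) (Lpr_bt (K8.f132341 IH) (Lpn (LP (LK LD1_c5 LD2_c47 LD3_c53)))))))))))))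
theorem f594416 : Led Lsl_gf (LP (LK LD1_c8 LD2_c14 LD3_c51)) = (LP (LK LD1_c11 LD2_c25 LD3_c26)) :=
  Lgr Lrot143 (Lpr_dt (f559493 IH) (Lpe (K32.f421403 IH) (Lpr_df (f594378 IH) (Lpe (f46847 IH) (Lpe (K39.f46828 IH) (Lpe (f594400 IH) (Lpr_cf (f594407 IH) (Lpr_gt (f572876 IH) (Lpr_dt (K43.f132424 IH) (Lpn (LP (LK LD1_c11 LD2_c25 LD3_c26))))))))))))
theorem f132425 : Led Lsl_et (LP (LK LD1_c5 LD2_c47 LD3_c53)) = (LP (LK LD1_c2 LD2_c49 LD3_c58)) :=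
  Lre_e IH (LK LD1_c5 LD2_c47 LD3_c53) (LK LD1_c2 LD2_c49 LD3_c58) Lrfl Lrfl
theorem f570707 : Led Lsl_ef (LP (LK LD1_c4 LD2_c34 LD3_c23)) = (LP (LK LD1_c2 LD2_c49 LD3_c34)) :=
  Lgr Lrot28 (Lpr_ct (K40.f132519 IH) (Lpr_et (K42.f570702 IH) (Lpe (K32.f425851 IH) (Lpn (LP (LK LD1_c2 LD2_c49 LD3_c34))))))
theorem f594568 : Led Lsl_df (LP (LK LD1_c8 LD2_c14 LD3_c51)) = (LP (LK LD1_c4 LD2_c58 LD3_c30)) :=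
  Lgr Lrot168 (Lpr_gf (f594416 IH) (Lpe (K43.f132424 IH) (Lpr_et (f132425 IH) (Lpe (K8.f132517 IH) (Lpr_ef (f570707 IH) (Lpe (K8.f157807 IH) (Lpe (K8.f160870 IH) (Lpe (K7.f149678 IH) (Lpe (K6.f24076 IH) (Lpe (K40.f119689 IH) (Lpn (LP (LK LD1_c4 LD2_c58 LD3_c30)))))))))))))
theorem f574492 : Led Lsl_at (LP (LK LD1_c10 LD2_c6 LD3_c1)) = (LP (LK LD1_c5 LD2_c7 LD3_c52)) :=
  Lre_a IH (LK LD1_c10 LD2_c6 LD3_c1) (LK LD1_c5 LD2_c7 LD3_c52) Lrfl Lrfl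
theorem f574493 : Led Lsl_ft (LP (LK LD1_c11 LD2_c25 LD3_c26)) = (LP (LK LD1_c10 LD2_c6 LD3_c1)) :=
  Lgr Lrot101 (Lpe (K43.f545096 IH) (Lpr_ff (K43.f574487 IH) (Lpe (f574492 IH) (Lpn (LP (LK LD1_c10 LD2_c6 LD3_c1))))))
theorem f594566 : Led Lsl_gt (LP (LK LD1_c8 LD2_c14 LD3_c51)) = (LP (LK LD1_c5 LD2_c7 LD3_c52)) :=
  Lgr Lrot46 (Lpr_gf (f594416 IH) (Lpr_ft (f574493 IH) (Lpr_at (f574492 IH) (Lpn (LP (LK LD1_c5 LD2_c7 LD3_c52))))))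
theorem f574507 : Led Lsl_df (LP (LK LD1_c5 LD2_c37 LD3_c53)) = (LP (LK LD1_c5 LD2_c7 LD3_c52)) :=
  Lgr Lrot38 (Lpr_dt (K43.f574503 IH) (Lpn (LP (LK LD1_c5 LD2_c7 LD3_c52))))
theorem f546525 : Led Lsl_dt (LP (LK LD1_c16 LD2_c10 LD3_c35)) = (LP (LK LD1_c9 LD2_c14 LD3_c58)) :=
  Lgr Lrot42 (Lpr_df (K38.f546521 IH) (Lpn (LP (LK LD1_c9 LD2_c14 LD3_c58))))
theorem f35261 : Led Lsl_gt (LP (LK LD1_c8 LD2_c38 LD3_c17)) = (LP (LK LD1_c16 LD2_c10 LD3_c35)) :=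
  Lre_g IH (LK LD1_c8 LD2_c38 LD3_c17) (LK LD1_c16 LD2_c10 LD3_c35) Lrfl Lrfl
theorem f421419 : Led Lsl_bt (LP (LK LD1_c9 LD2_c47 LD3_c31)) = (LP (LK LD1_c4 LD2_c58 LD3_c25)) :=
  Lre_b IH (LK LD1_c9 LD2_c47 LD3_c31) (LK LD1_c4 LD2_c58 LD3_c25) Lrfl Lrfl
theorem f572687 : Led Lsl_ct (LP (LK LD1_c9 LD2_c47 LD3_c31)) = (LP (LK LD1_c8 LD2_c38 LD3_c15)) :=
  Lgr Lrot63 (Lpr_bt (f421419 IH) (Lpr_gt (K42.f421416 IH) (Lpe (K32.f421406 IH) (Lpr_ct (K36.f161204 IH) (Lpr_gt (K36.f387093 IH) (Lpr_cf (K36.f427793 IH) (Lpe (K36.f427786 IH) (Lpr_gt (K36.f34940 IH) (Lpr_ct (K20.f34922 IH) (Lpr_gt (K42.f572680 IH) (Lpn (LP (LK LD1_c8 LD2_c38 LD3_c15)))))))))))))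
theorem f594574 : Led Lsl_gt (LP (LK LD1_c9 LD2_c47 LD3_c31)) = (LP (LK LD1_c4 LD2_c58 LD3_c30)) :=
  Lgr Lrot180 (Lpr_ct (f572687 IH) (Lpe (K42.f572682 IH) (Lpr_dt (K37.f34949 IH) (Lpr_gt (f35261 IH) (Lpr_dt (f546525 IH) (Lpe (K44.f553491 IH) (Lpr_df (f574507 IH) (Lpe (f594566 IH) (Lpr_df (f594568 IH) (Lpn (LP (LK LD1_c4 LD2_c58 LD3_c30))))))))))))
theorem f594580 : Led Lsl_cf (LP (LK LD1_c9 LD2_c47 LD3_c31)) = (LP (LK LD1_c8 LD2_c38 LD3_c15)) :=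
  Lgr Lrot166 (Lpr_gt (f594574 IH) (Lpe (f594568 IH) (Lpr_gt (f594566 IH) (Lpe (f574507 IH) (Lpr_ct (K43.f553487 IH) (Lpe (f546525 IH) (Lpe (f35261 IH) (Lpe (K37.f34949 IH) (Lpr_gf (K42.f572682 IH) (Lpn (LP (LK LD1_c8 LD2_c38 LD3_c15))))))))))))
theorem f571585 : Led Lsl_ct (LP (LK LD1_c4 LD2_c58 LD3_c25)) = (LP (LK LD1_c4 LD2_c37 LD3_c2)) :=
  Lgr Lrot59 (Lpr_cf (K42.f571577 IH) (Lpn (LP (LK LD1_c4 LD2_c37 LD3_c2))))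
theorem f594582 : Led Lsl_et (LP (LK LD1_c9 LD2_c47 LD3_c31)) = (LP (LK LD1_c4 LD2_c58 LD3_c25)) :=
  Lgr Lrot158 (Lpr_cf (f594580 IH) (Lpe (K42.f572790 IH) (Lpe (f571585 IH) (Lpn (LP (LK LD1_c4 LD2_c58 LD3_c25))))))
theorem f594586 : Led Lsl_ef (LP (LK LD1_c9 LD2_c47 LD3_c31)) = (LP (LK LD1_c4 LD2_c58 LD3_c25)) :=
  Lgr Lrot88 (Lpr_et (f594582 IH) (Lpn (LP (LK LD1_c4 LD2_c58 LD3_c25))))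
theorem f387104 : Led Lsl_at (LP (LK LD1_c5 LD2_c7 LD3_c31)) = (LP (LK LD1_c2 LD2_c31 LD3_c3)) :=
  Lre_a IH (LK LD1_c5 LD2_c7 LD3_c31) (LK LD1_c2 LD2_c31 LD3_c3) Lrfl Lrfl
theorem f594578 : Led Lsl_ft (LP (LK LD1_c9 LD2_c47 LD3_c31)) = (LP (LK LD1_c5 LD2_c7 LD3_c31)) :=
  Lgr Lrot2 (Lpr_gt (f594574 IH) (Lpr_gt (K37.f387098 IH) (Lpe (f387104 IH) (Lpn (LP (LK LD1_c5 LD2_c7 LD3_c31))))))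
theorem f571533 : Led Lsl_af (LP (LK LD1_c9 LD2_c1 LD3_c51)) = (LP (LK LD1_c11 LD2_c15 LD3_c47)) :=
  Lgr Lrot68 (Lpr_ct (K41.f567577 IH) (Lpr_at (K42.f571527 IH) (Lpr_ct (K43.f172738 IH) (Lpn (LP (LK LD1_c11 LD2_c15 LD3_c47))))))
theorem f581492 : Led Lsl_ft (LP (LK LD1_c10 LD2_c5 LD3_c24)) = (LP (LK LD1_c11 LD2_c15 LD3_c47)) :=
  Lgr Lrot2 (Lpr_gt (K44.f581486 IH) (Lpe (K41.f567563 IH) (Lpr_af (f571533 IH) (Lpn (LP (LK LD1_c11 LD2_c15 LD3_c47))))))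
theorem f594595 : Led Lsl_ft (LP (LK LD1_c8 LD2_c49 LD3_c2)) = (LP (LK LD1_c4 LD2_c58 LD3_c25)) :=
  Lgr Lrot86 (Lpe (K43.f570752 IH) (Lpe (f581492 IH) (Lpe (K44.f581485 IH) (Lpe (f594578 IH) (Lpr_ef (f594586 IH) (Lpn (LP (LK LD1_c4 LD2_c58 LD3_c25))))))))
theorem f574891 : Led Lsl_dt (LP (LK LD1_c15 LD2_c26 LD3_c29)) = (LP (LK LD1_c8 LD2_c49 LD3_c2)) :=
  Lgr Lrot6 (Lpr_gt (K43.f574887 IH) (Lpe (K42.f417528 IH) (Lpr_gt (K42.f198582 IH) (Lpr_ct (K36.f186561 IH) (Lpe (K38.f308145 IH) (Lpe (K32.f185090 IH) (Lpe (K36.f185093 IH) (Lpr_cf (K36.f427807 IH) (Lpe (K38.f421437 IH) (Lpn (LP (LK LD1_c8 LD2_c49 LD3_c2))))))))))))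
theorem f421418 : Led Lsl_dt (LP (LK LD1_c4 LD2_c58 LD3_c25)) = (LP (LK LD1_c9 LD2_c47 LD3_c32)) :=
  Lre_d IH (LK LD1_c4 LD2_c58 LD3_c25) (LK LD1_c9 LD2_c47 LD3_c32) Lrfl Lrfl
theorem f594597 : Led Lsl_ff (LP (LK LD1_c15 LD2_c26 LD3_c29)) = (LP (LK LD1_c9 LD2_c47 LD3_c32)) :=
  Lgr Lrot19 (Lpr_dt (f574891 IH) (Lpr_ft (f594595 IH) (Lpr_dt (f421418 IH) (Lpn (LP (LK LD1_c9 LD2_c47 LD3_c32))))))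
theorem f594599 : Led Lsl_ft (LP (LK LD1_c15 LD2_c26 LD3_c29)) = (LP (LK LD1_c9 LD2_c47 LD3_c32)) :=
  Lgr Lrot48 (Lpr_ff (f594597 IH) (Lpn (LP (LK LD1_c9 LD2_c47 LD3_c32))))
theorem f594601 : Led Lsl_af (LP (LK LD1_c5 LD2_c7 LD3_c45)) = (LP (LK LD1_c9 LD2_c47 LD3_c32)) :=
  Lgr Lrot31 (Lpr_gf (K42.f572810 IH) (Lpe (K43.f574887 IH) (Lpr_ft (f594599 IH) (Lpn (LP (LK LD1_c9 LD2_c47 LD3_c32))))))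
theorem f242732 : Led Lsl_gt (LP (LK LD1_c8 LD2_c12 LD3_c10)) = (LP (LK LD1_c15 LD2_c26 LD3_c13)) :=
  Lre_g IH (LK LD1_c8 LD2_c12 LD3_c10) (LK LD1_c15 LD2_c26 LD3_c13) Lrfl Lrfl
theorem f571589 : Led Lsl_cf (LP (LK LD1_c9 LD2_c47 LD3_c32)) = (LP (LK LD1_c15 LD2_c26 LD3_c13)) :=
  Lgr Lrot99 (Lpe (f421418 IH) (Lpr_cf (K42.f571577 IH) (Lpe (K42.f571574 IH) (Lpe (K16.f181711 IH) (Lpe (K37.f542390 IH) (Lpe (K38.f542392 IH) (Lpe (K38.f547702 IH) (Lpr_ct (K38.f168206 IH) (Lpr_gt (f242732 IH) (Lpn (LP (LK LD1_c15 LD2_c26 LD3_c13))))))))))))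
theorem f594605 : Led Lsl_at (LP (LK LD1_c10 LD2_c5 LD3_c45)) = (LP (LK LD1_c15 LD2_c26 LD3_c13)) :=
  Lgr Lrot107 (Lpe (K40.f428080 IH) (Lpr_af (f594601 IH) (Lpr_cf (f571589 IH) (Lpn (LP (LK LD1_c15 LD2_c26 LD3_c13))))))
theorem f168207 : Led Lsl_gt (LP (LK LD1_c15 LD2_c26 LD3_c14)) = (LP (LK LD1_c8 LD2_c12 LD3_c10)) :=
  Lre_g IH (LK LD1_c15 LD2_c26 LD3_c14) (LK LD1_c8 LD2_c12 LD3_c10) Lrfl Lrfl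
theorem f594619 : Led Lsl_ff (LP (LK LD1_c10 LD2_c5 LD3_c45)) = (LP (LK LD1_c15 LD2_c26 LD3_c14)) :=
  Lgr Lrot52 (Lpr_at (f594605 IH) (Lpe (f242732 IH) (Lpe (f168207 IH) (Lpn (LP (LK LD1_c15 LD2_c26 LD3_c14))))))
theorem f594622 : Led Lsl_ft (LP (LK LD1_c10 LD2_c5 LD3_c45)) = (LP (LK LD1_c15 LD2_c26 LD3_c14)) :=
  Lgr Lrot48 (Lpr_ff (f594619 IH) (Lpn (LP (LK LD1_c15 LD2_c26 LD3_c14))))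
theorem f551888 : Led Lsl_dt (LP (LK LD1_c10 LD2_c5 LD3_c45)) = (LP (LK LD1_c18 LD2_c24 LD3_c30)) :=
  Lre_d IH (LK LD1_c10 LD2_c5 LD3_c45) (LK LD1_c18 LD2_c24 LD3_c30) Lrfl Lrfl
theorem f594404 : Led Lsl_dt (LP (LK LD1_c15 LD2_c50 LD3_c9)) = (LP (LK LD1_c8 LD2_c25 LD3_c55)) :=
  Lre_d IH (LK LD1_c15 LD2_c50 LD3_c9) (LK LD1_c8 LD2_c25 LD3_c55) Lrfl Lrfl
theorem f581466 : Led Lsl_df (LP (LK LD1_c9 LD2_c39 LD3_c18)) = (LP (LK LD1_c10 LD2_c18 LD3_c2)) :=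
  Lgr Lrot38 (Lpr_dt (K44.f581463 IH) (Lpn (LP (LK LD1_c10 LD2_c18 LD3_c2))))
theorem f427812 : Led Lsl_ct (LP (LK LD1_c10 LD2_c17 LD3_c28)) = (LP (LK LD1_c9 LD2_c47 LD3_c38)) :=
  Lgr Lrot83 (Lpe (K38.f427811 IH) (Lpr_cf (K36.f427807 IH) (Lpe (K40.f387242 IH) (Lpe (K40.f387203 IH) (Lpe (K40.f421460 IH) (Lpn (LP (LK LD1_c9 LD2_c47 LD3_c38))))))))
theorem f594418 : Led Lsl_gf (LP (LK LD1_c15 LD2_c50 LD3_c9)) = (LP (LK LD1_c10 LD2_c17 LD3_c32)) :=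
  Lgr Lrot143 (Lpr_dt (f594404 IH) (Lpr_cf (f594407 IH) (Lpr_df (f581466 IH) (Lpe (K44.f581468 IH) (Lpe (K44.f581411 IH) (Lpe (K44.f581580 IH) (Lpe (f427812 IH) (Lpe (K38.f542367 IH) (Lpr_dt (K38.f427896 IH) (Lpn (LP (LK LD1_c10 LD2_c17 LD3_c32))))))))))))
theorem f405146 : Led Lsl_et (LP (LK LD1_c5 LD2_c13 LD3_c41)) = (LP (LK LD1_c2 LD2_c33 LD3_c43)) :=
  Lre_e IH (LK LD1_c5 LD2_c13 LD3_c41) (LK LD1_c2 LD2_c33 LD3_c43) Lrfl Lrfl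
theorem f422757 : Led Lsl_dt (LP (LK LD1_c8 LD2_c14 LD3_c47)) = (LP (LK LD1_c15 LD2_c30 LD3_c41)) :=
  Lre_d IH (LK LD1_c8 LD2_c14 LD3_c47) (LK LD1_c15 LD2_c30 LD3_c41) Lrfl Lrfl
theorem f427898 : Led Lsl_gf (LP (LK LD1_c10 LD2_c17 LD3_c32)) = (LP (LK LD1_c15 LD2_c30 LD3_c41)) :=
  Lgr Lrot134 (Lpe (K38.f427896 IH) (Lpr_et (f405146 IH) (Lpr_gt (K36.f427889 IH) (Lpe (K39.f99827 IH) (Lpr_dt (K6.f80845 IH) (Lpr_gt (K38.f99816 IH) (Lpe (K5.f99811 IH) (Lpe (K2.f56181 IH) (Lpe (K38.f422753 IH) (Lpr_dt (f422757 IH) (Lpn (LP (LK LD1_c15 LD2_c30 LD3_c41)))))))))))))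
theorem f594420 : Led Lsl_ff (LP (LK LD1_c8 LD2_c25 LD3_c56)) = (LP (LK LD1_c15 LD2_c30 LD3_c41)) :=
  Lgr Lrot52 (Lpr_at (f593805 IH) (Lpr_gf (f594418 IH) (Lpr_gf (f427898 IH) (Lpn (LP (LK LD1_c15 LD2_c30 LD3_c41))))))
theorem f575041 : Led Lsl_bt (LP (LK LD1_c10 LD2_c1 LD3_c28)) = (LP (LK LD1_c18 LD2_c19 LD3_c2)) :=
  Lre_b IH (LK LD1_c10 LD2_c1 LD3_c28) (LK LD1_c18 LD2_c19 LD3_c2) Lrfl Lrfl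
theorem f593820 : Led Lsl_bt (LP (LK LD1_c15 LD2_c13 LD3_c23)) = (LP (LK LD1_c15 LD2_c50 LD3_c9)) :=
  Lgr Lrot127 (Lpr_bf (f593806 IH) (Lpn (LP (LK LD1_c15 LD2_c50 LD3_c9))))
theorem f574529 : Led Lsl_at (LP (LK LD1_c15 LD2_c50 LD3_c9)) = (LP (LK LD1_c8 LD2_c25 LD3_c56)) :=
  Lre_a IH (LK LD1_c15 LD2_c50 LD3_c9) (LK LD1_c8 LD2_c25 LD3_c56) Lrfl Lrfl
theorem f593959 : Led Lsl_bt (LP (LK LD1_c8 LD2_c25 LD3_c56)) = (LP (LK LD1_c10 LD2_c4 LD3_c8)) :=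
  Lgr Lrot62 (Lpe (f574529 IH) (Lpe (f593820 IH) (Lpr_af (f593803 IH) (Lpe (f575041 IH) (Lpr_af (f593946 IH) (Lpn (LP (LK LD1_c10 LD2_c4 LD3_c8))))))))
theorem f593179 : Led Lsl_ft (LP (LK LD1_c10 LD2_c4 LD3_c8)) = (LP (LK LD1_c10 LD2_c1 LD3_c30)) :=
  Lgr Lrot54 (Lpe (K44.f582559 IH) (Lpr_ff (f593173 IH) (Lpe (K39.f551832 IH) (Lpn (LP (LK LD1_c10 LD2_c1 LD3_c30))))))
theorem f594425 : Led Lsl_bt (LP (LK LD1_c10 LD2_c1 LD3_c30)) = (LP (LK LD1_c15 LD2_c30 LD3_c41)) :=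
  Lgr Lrot35 (Lpe (f593179 IH) (Lpe (f593959 IH) (Lpr_ff (f594420 IH) (Lpn (LP (LK LD1_c15 LD2_c30 LD3_c41))))))
theorem f193879 : Led Lsl_gt (LP (LK LD1_c6 LD2_c7 LD3_c41)) = (LP (LK LD1_c11 LD2_c57 LD3_c45)) :=
  Lre_g IH (LK LD1_c6 LD2_c7 LD3_c41) (LK LD1_c11 LD2_c57 LD3_c45) Lrfl Lrfl
theorem f193880 : Led Lsl_ct (LP (LK LD1_c11 LD2_c57 LD3_c45)) = (LP (LK LD1_c21 LD2_c2 LD3_c47)) :=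
  Lre_c IH (LK LD1_c11 LD2_c57 LD3_c45) (LK LD1_c21 LD2_c2 LD3_c47) Lrfl Lrfl
theorem f594474 : Led Lsl_gf (LP (LK LD1_c18 LD2_c19 LD3_c5)) = (LP (LK LD1_c21 LD2_c2 LD3_c47)) :=
  Lgr Lrot129 (Lpe (f551877 IH) (Lpr_bt (f594425 IH) (Lpe (f427898 IH) (Lpe (K41.f242534 IH) (Lpr_ct (K13.f242532 IH) (Lpe (K13.f242528 IH) (Lpr_cf (K13.f242271 IH) (Lpe (K43.f193868 IH) (Lpr_gt (f193879 IH) (Lpr_ct (f193880 IH) (Lpn (LP (LK LD1_c21 LD2_c2 LD3_c47)))))))))))))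
theorem f594476 : Led Lsl_bt (LP (LK LD1_c11 LD2_c57 LD3_c45)) = (LP (LK LD1_c13 LD2_c26 LD3_c37)) :=
  Lgr Lrot92 (Lpr_ct (f193880 IH) (Lpe (f594474 IH) (Lpe (f551877 IH) (Lpr_bt (f594425 IH) (Lpe (f427898 IH) (Lpr_ct (K38.f201451 IH) (Lpe (K41.f544897 IH) (Lpe (K41.f542793 IH) (Lpe (K41.f556876 IH) (Lpe (K43.f573155 IH) (Lpn (LP (LK LD1_c13 LD2_c26 LD3_c37)))))))))))))
theorem f549630 : Led Lsl_bt (LP (LK LD1_c7 LD2_c5 LD3_c34)) = (LP (LK LD1_c8 LD2_c12 LD3_c1)) :=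
  Lgr Lrot127 (Lpr_bf (K38.f549626 IH) (Lpn (LP (LK LD1_c8 LD2_c12 LD3_c1))))
theorem f594483 : Led Lsl_df (LP (LK LD1_c11 LD2_c57 LD3_c45)) = (LP (LK LD1_c8 LD2_c12 LD3_c1)) :=
  Lgr Lrot12 (Lpr_bt (f594476 IH) (Lpr_dt (K43.f97163 IH) (Lpr_bt (f549630 IH) (Lpn (LP (LK LD1_c8 LD2_c12 LD3_c1))))))
theorem f36551 : Led Lsl_ct (LP (LK LD1_c16 LD2_c23 LD3_c50)) = (LP (LK LD1_c8 LD2_c45 LD3_c39)) :=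
  Lre_c IH (LK LD1_c16 LD2_c23 LD3_c50) (LK LD1_c8 LD2_c45 LD3_c39) Lrfl Lrfl
theorem f557675 : Led Lsl_gt (LP (LK LD1_c16 LD2_c23 LD3_c50)) = (LP (LK LD1_c8 LD2_c49 LD3_c14)) :=
  Lgr Lrot150 (Lpe (f36556 IH) (Lpe (K35.f538606 IH) (Lpe (K35.f538351 IH) (Lpr_gt (K40.f557669 IH) (Lpr_ct (K36.f421471 IH) (Lpr_gt (K36.f428077 IH) (Lpr_ct (K36.f203345 IH) (Lpe (K36.f421431 IH) (Lpe (K36.f421432 IH) (Lpn (LP (LK LD1_c8 LD2_c49 LD3_c14))))))))))))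
theorem f427613 : Led Lsl_gt (LP (LK LD1_c16 LD2_c29 LD3_c43)) = (LP (LK LD1_c26 LD2_c26 LD3_c35)) :=
  Lre_g IH (LK LD1_c16 LD2_c29 LD3_c43) (LK LD1_c26 LD2_c26 LD3_c35) Lrfl Lrfl
theorem f594523 : Led Lsl_df (LP (LK LD1_c21 LD2_c2 LD3_c47)) = (LP (LK LD1_c26 LD2_c26 LD3_c35)) :=
  Lgr Lrot84 (Lpe (f193880 IH) (Lpr_df (f594483 IH) (Lpe (K38.f211643 IH) (Lpe (K16.f211599 IH) (Lpr_gf (K35.f538611 IH) (Lpe (f36551 IH) (Lpr_gt (f557675 IH) (Lpr_dt (K36.f427614 IH) (Lpr_gt (f427613 IH) (Lpn (LP (LK LD1_c26 LD2_c26 LD3_c35))))))))))))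
theorem f594482 : Led Lsl_ct (LP (LK LD1_c21 LD2_c2 LD3_c47)) = (LP (LK LD1_c11 LD2_c57 LD3_c45)) :=
  Lre_c IH (LK LD1_c21 LD2_c2 LD3_c47) (LK LD1_c11 LD2_c57 LD3_c45) Lrfl Lrfl
theorem f566928 : Led Lsl_af (LP (LK LD1_c5 LD2_c54 LD3_c51)) = (LP (LK LD1_c11 LD2_c33 LD3_c42)) :=
  Lgr Lrot0 (Lpr_at (K41.f566926 IH) (Lpn (LP (LK LD1_c11 LD2_c33 LD3_c42))))
theorem f594478 : Led Lsl_af (LP (LK LD1_c11 LD2_c57 LD3_c45)) = (LP (LK LD1_c9 LD2_c9 LD3_c51)) :=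
  Lgr Lrot36 (Lpr_bt (f594476 IH) (Lpr_at (K42.f441456 IH) (Lpe (f543946 IH) (Lpe (f566928 IH) (Lpr_bt (K41.f566899 IH) (Lpn (LP (LK LD1_c9 LD2_c9 LD3_c51))))))))
theorem f571570 : Led Lsl_ff (LP (LK LD1_c9 LD2_c9 LD3_c51)) = (LP (LK LD1_c10 LD2_c5 LD3_c44)) :=
  Lgr Lrot19 (Lpr_dt (K41.f547705 IH) (Lpr_ft (K42.f571566 IH) (Lpr_dt (K42.f421508 IH) (Lpn (LP (LK LD1_c10 LD2_c5 LD3_c44))))))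
theorem f421536 : Led Lsl_dt (LP (LK LD1_c10 LD2_c5 LD3_c44)) = (LP (LK LD1_c5 LD2_c7 LD3_c44)) :=
  Lre_d IH (LK LD1_c10 LD2_c5 LD3_c44) (LK LD1_c5 LD2_c7 LD3_c44) Lrfl Lrfl
theorem f594527 : Led Lsl_ct (LP (LK LD1_c18 LD2_c24 LD3_c30)) = (LP (LK LD1_c26 LD2_c26 LD3_c35)) :=
  Lgr Lrot53 (Lpe (f551888 IH) (Lpe (K40.f428080 IH) (Lpe (K40.f428079 IH) (Lpe (K36.f421471 IH) (Lpe (f421536 IH) (Lpe (f571570 IH) (Lpe (f594478 IH) (Lpe (f594482 IH) (Lpr_df (f594523 IH) (Lpn (LP (LK LD1_c26 LD2_c26 LD3_c35))))))))))))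
theorem f201570 : Led Lsl_ct (LP (LK LD1_c2 LD2_c33 LD3_c44)) = (LP (LK LD1_c5 LD2_c13 LD3_c42)) :=
  Lre_c IH (LK LD1_c2 LD2_c33 LD3_c44) (LK LD1_c5 LD2_c13 LD3_c42) Lrfl Lrfl
theorem f594489 : Led Lsl_gf (LP (LK LD1_c21 LD2_c2 LD3_c47)) = (LP (LK LD1_c18 LD2_c19 LD3_c3)) :=
  Lgr Lrot129 (Lpe (f193880 IH) (Lpr_bt (f594476 IH) (Lpe (K39.f556196 IH) (Lpe (K41.f266521 IH) (Lpr_ct (K15.f266510 IH) (Lpe (K15.f266517 IH) (Lpe (f201570 IH) (Lpr_bt (K36.f201780 IH) (Lpe (K42.f572946 IH) (Lpr_ct (K43.f201316 IH) (Lpn (LP (LK LD1_c18 LD2_c19 LD3_c3)))))))))))))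
theorem f594491 : Led Lsl_dt (LP (LK LD1_c11 LD2_c57 LD3_c45)) = (LP (LK LD1_c8 LD2_c12 LD3_c1)) :=
  Lgr Lrot27 (Lpe (f594482 IH) (Lpr_gf (f594489 IH) (Lpe (K43.f201316 IH) (Lpr_gf (K42.f572946 IH) (Lpe (K36.f308199 IH) (Lpr_gt (K36.f427889 IH) (Lpr_ct (K36.f421409 IH) (Lpr_gt (K38.f421436 IH) (Lpe (K43.f570750 IH) (Lpn (LP (LK LD1_c8 LD2_c12 LD3_c1))))))))))))
theorem f385913 : Led Lsl_gt (LP (LK LD1_c6 LD2_c7 LD3_c43)) = (LP (LK LD1_c11 LD2_c57 LD3_c49)) :=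
  Lre_g IH (LK LD1_c6 LD2_c7 LD3_c43) (LK LD1_c11 LD2_c57 LD3_c49) Lrfl Lrfl
theorem f594625 : Led Lsl_af (LP (LK LD1_c11 LD2_c57 LD3_c49)) = (LP (LK LD1_c15 LD2_c26 LD3_c14)) :=
  Lgr Lrot31 (Lpe (f385913 IH) (Lpe (K42.f572812 IH) (Lpr_ft (f594622 IH) (Lpn (LP (LK LD1_c15 LD2_c26 LD3_c14))))))
theorem f594627 : Led Lsl_ct (LP (LK LD1_c15 LD2_c26 LD3_c29)) = (LP (LK LD1_c11 LD2_c57 LD3_c49)) :=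
  Lgr Lrot98 (Lpr_df (K43.f574889 IH) (Lpr_cf (K38.f549632 IH) (Lpe (f594491 IH) (Lpe (f594482 IH) (Lpr_df (f594523 IH) (Lpe (f594527 IH) (Lpe (f551888 IH) (Lpr_ft (f594622 IH) (Lpe (f594625 IH) (Lpn (LP (LK LD1_c11 LD2_c57 LD3_c49))))))))))))
theorem f594638 : Led Lsl_ff (LP (LK LD1_c15 LD2_c26 LD3_c13)) = (LP (LK LD1_c11 LD2_c57 LD3_c49)) :=
  Lgr Lrot23 (Lpe (f571589 IH) (Lpe (f594597 IH) (Lpr_ct (f594627 IH) (Lpn (LP (LK LD1_c11 LD2_c57 LD3_c49))))))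
theorem f594645 : Led Lsl_ft (LP (LK LD1_c15 LD2_c26 LD3_c13)) = (LP (LK LD1_c11 LD2_c57 LD3_c49)) :=
  Lgr Lrot48 (Lpr_ff (f594638 IH) (Lpn (LP (LK LD1_c11 LD2_c57 LD3_c49))))
theorem f547627 : Led Lsl_gt (LP (LK LD1_c15 LD2_c26 LD3_c13)) = (LP (LK LD1_c10 LD2_c2 LD3_c53)) :=
  Lgr Lrot46 (Lpe (f242732 IH) (Lpr_ft (K38.f385902 IH) (Lpr_at (K38.f547618 IH) (Lpn (LP (LK LD1_c10 LD2_c2 LD3_c53))))))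
theorem f594647 : Led Lsl_af (LP (LK LD1_c15 LD2_c26 LD3_c14)) = (LP (LK LD1_c11 LD2_c57 LD3_c49)) :=
  Lgr Lrot45 (Lpe (f594619 IH) (Lpr_at (f594605 IH) (Lpr_ft (f594645 IH) (Lpn (LP (LK LD1_c11 LD2_c57 LD3_c49))))))
theorem f594651 : Led Lsl_gt (LP (LK LD1_c10 LD2_c2 LD3_c53)) = (LP (LK LD1_c15 LD2_c26 LD3_c14)) :=
  Lgr Lrot46 (Lpe (f547627 IH) (Lpr_ft (f594645 IH) (Lpe (f594647 IH) (Lpn (LP (LK LD1_c15 LD2_c26 LD3_c14))))))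
theorem f157023 : Led Lsl_dt (LP (LK LD1_c4 LD2_c58 LD3_c24)) = (LP (LK LD1_c9 LD2_c47 LD3_c30)) :=
  Lre_d IH (LK LD1_c4 LD2_c58 LD3_c24) (LK LD1_c9 LD2_c47 LD3_c30) Lrfl Lrfl
theorem f594655 : Led Lsl_cf (LP (LK LD1_c9 LD2_c47 LD3_c30)) = (LP (LK LD1_c15 LD2_c26 LD3_c14)) :=
  Lgr Lrot99 (Lpe (f157023 IH) (Lpr_cf (K41.f567231 IH) (Lpe (K38.f119051 IH) (Lpe (K38.f494442 IH) (Lpq (K37.f542405 IH) (Lpe (K37.f495440 IH) (Lpe (K19.f201440 IH) (Lpe (K42.f572620 IH) (Lpr_ct (K38.f3133 IH) (Lpr_gt (f594651 IH) (Lpn (LP (LK LD1_c15 LD2_c26 LD3_c14)))))))))))))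
theorem f594663 : Led Lsl_ft (LP (LK LD1_c9 LD2_c47 LD3_c30)) = (LP (LK LD1_c5 LD2_c7 LD3_c45)) :=
  Lgr Lrot4 (Lpr_cf (f594655 IH) (Lpe (f594622 IH) (Lpe (K40.f428080 IH) (Lpn (LP (LK LD1_c5 LD2_c7 LD3_c45))))))
theorem f594669 : Led Lsl_ff (LP (LK LD1_c9 LD2_c47 LD3_c30)) = (LP (LK LD1_c5 LD2_c7 LD3_c45)) :=
  Lgr Lrot3 (Lpr_ft (f594663 IH) (Lpn (LP (LK LD1_c5 LD2_c7 LD3_c45))))
theorem f572814 : Led Lsl_bt (LP (LK LD1_c2 LD2_c31 LD3_c10)) = (LP (LK LD1_c5 LD2_c7 LD3_c45)) :=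
  Lre_b IH (LK LD1_c2 LD2_c31 LD3_c10) (LK LD1_c5 LD2_c7 LD3_c45) Lrfl Lrfl
theorem f568549 : Led Lsl_ft (LP (LK LD1_c5 LD2_c7 LD3_c30)) = (LP (LK LD1_c2 LD2_c31 LD3_c10)) :=
  Lre_f IH (LK LD1_c5 LD2_c7 LD3_c30) (LK LD1_c2 LD2_c31 LD3_c10) Lrfl Lrfl
theorem f594671 : Led Lsl_bt (LP (LK LD1_c9 LD2_c47 LD3_c30)) = (LP (LK LD1_c5 LD2_c7 LD3_c30)) :=
  Lgr Lrot35 (Lpr_ff (f594669 IH) (Lpe (f572814 IH) (Lpe (f568549 IH) (Lpn (LP (LK LD1_c5 LD2_c7 LD3_c30))))))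
theorem f567579 : Led Lsl_et (LP (LK LD1_c17 LD2_c57 LD3_c50)) = (LP (LK LD1_c9 LD2_c47 LD3_c30)) :=
  Lre_e IH (LK LD1_c17 LD2_c57 LD3_c50) (LK LD1_c9 LD2_c47 LD3_c30) Lrfl Lrfl
theorem f594677 : Led Lsl_et (LP (LK LD1_c5 LD2_c7 LD3_c30)) = (LP (LK LD1_c10 LD2_c5 LD3_c22)) :=
  Lre_e IH (LK LD1_c5 LD2_c7 LD3_c30) (LK LD1_c10 LD2_c5 LD3_c22) Lrfl Lrfl
theorem f594678 : Led Lsl_bf (LP (LK LD1_c17 LD2_c57 LD3_c50)) = (LP (LK LD1_c10 LD2_c5 LD3_c22)) :=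
  Lgr Lrot96 (Lpr_et (f567579 IH) (Lpr_bt (f594671 IH) (Lpr_et (f594677 IH) (Lpn (LP (LK LD1_c10 LD2_c5 LD3_c22))))))
theorem f557397 : Led Lsl_et (LP (LK LD1_c11 LD2_c26 LD3_c56)) = (LP (LK LD1_c5 LD2_c48 LD3_c45)) :=
  Lre_e IH (LK LD1_c11 LD2_c26 LD3_c56) (LK LD1_c5 LD2_c48 LD3_c45) Lrfl Lrfl
theorem f421442 : Led Lsl_et (LP (LK LD1_c9 LD2_c47 LD3_c30)) = (LP (LK LD1_c17 LD2_c57 LD3_c50)) :=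
  Lre_e IH (LK LD1_c9 LD2_c47 LD3_c30) (LK LD1_c17 LD2_c57 LD3_c50) Lrfl Lrfl
theorem f567573 : Led Lsl_df (LP (LK LD1_c11 LD2_c26 LD3_c56)) = (LP (LK LD1_c17 LD2_c57 LD3_c50)) :=
  Lgr Lrot70 (Lpr_et (f557397 IH) (Lpr_dt (K44.f567536 IH) (Lpr_et (K41.f567568 IH) (Lpr_dt (f157023 IH) (Lpr_et (f421442 IH) (Lpn (LP (LK LD1_c17 LD2_c57 LD3_c50))))))))
theorem f567545 : Led Lsl_bt (LP (LK LD1_c11 LD2_c26 LD3_c56)) = (LP (LK LD1_c5 LD2_c48 LD3_c47)) :=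
  Lre_b IH (LK LD1_c11 LD2_c26 LD3_c56) (LK LD1_c5 LD2_c48 LD3_c47) Lrfl Lrfl
theorem f594688 : Led Lsl_dt (LP (LK LD1_c5 LD2_c48 LD3_c47)) = (LP (LK LD1_c10 LD2_c5 LD3_c22)) :=
  Lgr Lrot79 (Lpe (f567545 IH) (Lpr_df (f567573 IH) (Lpr_bf (f594678 IH) (Lpn (LP (LK LD1_c10 LD2_c5 LD3_c22))))))
theorem f594695 : Led Lsl_df (LP (LK LD1_c5 LD2_c48 LD3_c47)) = (LP (LK LD1_c10 LD2_c5 LD3_c22)) :=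
  Lgr Lrot38 (Lpr_dt (f594688 IH) (Lpn (LP (LK LD1_c10 LD2_c5 LD3_c22))))
theorem f581533 : Led Lsl_at (LP (LK LD1_c5 LD2_c7 LD3_c41)) = (LP (LK LD1_c10 LD2_c5 LD3_c22)) :=
  Lre_a IH (LK LD1_c5 LD2_c7 LD3_c41) (LK LD1_c10 LD2_c5 LD3_c22) Lrfl Lrfl
theorem f206056 : Led Lsl_dt (LP (LK LD1_c10 LD2_c5 LD3_c40)) = (LP (LK LD1_c5 LD2_c7 LD3_c41)) :=
  Lre_d IH (LK LD1_c10 LD2_c5 LD3_c40) (LK LD1_c5 LD2_c7 LD3_c41) Lrfl Lrfl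
theorem f594701 : Led Lsl_at (LP (LK LD1_c5 LD2_c48 LD3_c47)) = (LP (LK LD1_c10 LD2_c5 LD3_c40)) :=
  Lgr Lrot51 (Lpr_df (f594695 IH) (Lpe (f581533 IH) (Lpe (f206056 IH) (Lpn (LP (LK LD1_c10 LD2_c5 LD3_c40))))))
theorem f567549 : Led Lsl_ft (LP (LK LD1_c11 LD2_c27 LD3_c0)) = (LP (LK LD1_c5 LD2_c48 LD3_c47)) :=
  Lre_f IH (LK LD1_c11 LD2_c27 LD3_c0) (LK LD1_c5 LD2_c48 LD3_c47) Lrfl Lrfl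
theorem f594715 : Led Lsl_ft (LP (LK LD1_c10 LD2_c5 LD3_c40)) = (LP (LK LD1_c18 LD2_c24 LD3_c27)) :=
  Lre_f IH (LK LD1_c10 LD2_c5 LD3_c40) (LK LD1_c18 LD2_c24 LD3_c27) Lrfl Lrfl
theorem f594716 : Led Lsl_af (LP (LK LD1_c11 LD2_c27 LD3_c0)) = (LP (LK LD1_c18 LD2_c24 LD3_c27)) :=
  Lgr Lrot45 (Lpr_ft (f567549 IH) (Lpr_at (f594701 IH) (Lpr_ft (f594715 IH) (Lpn (LP (LK LD1_c18 LD2_c24 LD3_c27))))))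
theorem f594722 : Led Lsl_ct (LP (LK LD1_c11 LD2_c27 LD3_c0)) = (LP (LK LD1_c20 LD2_c24 LD3_c56)) :=
  Lre_c IH (LK LD1_c11 LD2_c27 LD3_c0) (LK LD1_c20 LD2_c24 LD3_c56) Lrfl Lrfl
theorem f594723 : Led Lsl_ct (LP (LK LD1_c28 LD2_c1 LD3_c4)) = (LP (LK LD1_c18 LD2_c24 LD3_c27)) :=
  Lre_c IH (LK LD1_c28 LD2_c1 LD3_c4) (LK LD1_c18 LD2_c24 LD3_c27) Lrfl Lrfl
theorem f594724 : Led Lsl_at (LP (LK LD1_c20 LD2_c24 LD3_c56)) = (LP (LK LD1_c28 LD2_c1 LD3_c4)) :=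
  Lgr Lrot107 (Lpe (f594722 IH) (Lpr_af (f594716 IH) (Lpe (f594723 IH) (Lpn (LP (LK LD1_c28 LD2_c1 LD3_c4))))))
theorem f594732 : Led Lsl_af (LP (LK LD1_c20 LD2_c24 LD3_c56)) = (LP (LK LD1_c28 LD2_c1 LD3_c4)) :=
  Lgr Lrot0 (Lpr_at (f594724 IH) (Lpn (LP (LK LD1_c28 LD2_c1 LD3_c4))))
theorem f594744 : Led Lsl_ft (LP (LK LD1_c20 LD2_c24 LD3_c56)) = (LP (LK LD1_c11 LD2_c26 LD3_c59)) :=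
  Lre_f IH (LK LD1_c20 LD2_c24 LD3_c56) (LK LD1_c11 LD2_c26 LD3_c59) Lrfl Lrfl
theorem f594745 : Led Lsl_ft (LP (LK LD1_c18 LD2_c24 LD3_c26)) = (LP (LK LD1_c28 LD2_c1 LD3_c4)) :=
  Lre_f IH (LK LD1_c18 LD2_c24 LD3_c26) (LK LD1_c28 LD2_c1 LD3_c4) Lrfl Lrfl
theorem f594746 : Led Lsl_at (LP (LK LD1_c11 LD2_c26 LD3_c59)) = (LP (LK LD1_c18 LD2_c24 LD3_c26)) :=
  Lgr Lrot66 (Lpe (f594744 IH) (Lpr_af (f594732 IH) (Lpe (f594745 IH) (Lpn (LP (LK LD1_c18 LD2_c24 LD3_c26))))))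
theorem f567548 : Led Lsl_et (LP (LK LD1_c5 LD2_c48 LD3_c46)) = (LP (LK LD1_c11 LD2_c26 LD3_c59)) :=
  Lre_e IH (LK LD1_c5 LD2_c48 LD3_c46) (LK LD1_c11 LD2_c26 LD3_c59) Lrfl Lrfl
theorem f544161 : Led Lsl_et (LP (LK LD1_c18 LD2_c24 LD3_c26)) = (LP (LK LD1_c10 LD2_c5 LD3_c43)) :=
  Lre_e IH (LK LD1_c18 LD2_c24 LD3_c26) (LK LD1_c10 LD2_c5 LD3_c43) Lrfl Lrfl
theorem f594750 : Led Lsl_af (LP (LK LD1_c5 LD2_c48 LD3_c46)) = (LP (LK LD1_c10 LD2_c5 LD3_c43)) :=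
  Lgr Lrot50 (Lpr_et (f567548 IH) (Lpr_at (f594746 IH) (Lpr_et (f544161 IH) (Lpn (LP (LK LD1_c10 LD2_c5 LD3_c43))))))
theorem f594761 : Led Lsl_ft (LP (LK LD1_c5 LD2_c48 LD3_c46)) = (LP (LK LD1_c10 LD2_c5 LD3_c43)) :=
  Lgr Lrot2 (Lpr_gt (K40.f210539 IH) (Lpe (K42.f568259 IH) (Lpr_af (f594750 IH) (Lpn (LP (LK LD1_c10 LD2_c5 LD3_c43))))))
theorem f594769 : Led Lsl_ff (LP (LK LD1_c5 LD2_c48 LD3_c46)) = (LP (LK LD1_c10 LD2_c5 LD3_c43)) :=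
  Lgr Lrot3 (Lpr_ft (f594761 IH) (Lpn (LP (LK LD1_c10 LD2_c5 LD3_c43))))
theorem f594771 : Led Lsl_ft (LP (LK LD1_c2 LD2_c50 LD3_c25)) = (LP (LK LD1_c5 LD2_c7 LD3_c43)) :=
  Lgr Lrot4 (Lpe (K42.f567535 IH) (Lpr_ff (f594769 IH) (Lpe (K40.f206051 IH) (Lpn (LP (LK LD1_c5 LD2_c7 LD3_c43))))))
theorem f594781 : Led Lsl_ff (LP (LK LD1_c5 LD2_c48 LD3_c45)) = (LP (LK LD1_c10 LD2_c5 LD3_c29)) :=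
  Lgr Lrot25 (Lpr_bt (K40.f210534 IH) (Lpr_ft (f594771 IH) (Lpr_bt (K37.f387125 IH) (Lpn (LP (LK LD1_c10 LD2_c5 LD3_c29))))))
theorem f567562 : Led Lsl_at (LP (LK LD1_c5 LD2_c48 LD3_c45)) = (LP (LK LD1_c11 LD2_c26 LD3_c54)) :=
  Lre_a IH (LK LD1_c5 LD2_c48 LD3_c45) (LK LD1_c11 LD2_c26 LD3_c54) Lrfl Lrfl
theorem f594787 : Led Lsl_gf (LP (LK LD1_c11 LD2_c26 LD3_c54)) = (LP (LK LD1_c12 LD2_c8 LD3_c50)) :=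
  Lgr Lrot76 (Lpe (f567562 IH) (Lpr_ff (f594781 IH) (Lpe (K37.f387122 IH) (Lpn (LP (LK LD1_c12 LD2_c8 LD3_c50))))))
theorem f594801 : Led Lsl_df (LP (LK LD1_c11 LD2_c26 LD3_c54)) = (LP (LK LD1_c11 LD2_c15 LD3_c47)) :=
  Lgr Lrot168 (Lpr_gf (f594787 IH) (Lpe (K37.f149240 IH) (Lpr_et (K8.f149233 IH) (Lpe (K8.f161006 IH) (Lpe (K8.f36541 IH) (Lpr_dt (K38.f545041 IH) (Lpr_gf (K42.f570746 IH) (Lpe (K36.f138933 IH) (Lpe (K38.f421437 IH) (Lpe (K43.f570752 IH) (Lpn (LP (LK LD1_c11 LD2_c15 LD3_c47)))))))))))))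
theorem f494238 : Led Lsl_bt (LP (LK LD1_c5 LD2_c48 LD3_c12)) = (LP (LK LD1_c2 LD2_c50 LD3_c7)) :=
  Lre_b IH (LK LD1_c5 LD2_c48 LD3_c12) (LK LD1_c2 LD2_c50 LD3_c7) Lrfl Lrfl
theorem f577769 : Led Lsl_et (LP (LK LD1_c11 LD2_c7 LD3_c28)) = (LP (LK LD1_c5 LD2_c48 LD3_c12)) :=
  Lgr Lrot74 (Lpe (K43.f577753 IH) (Lpr_ef (K43.f577765 IH) (Lpqs (K42.f571757 IH) (Lpe (f494238 IH) (Lpn (LP (LK LD1_c5 LD2_c48 LD3_c12)))))))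
theorem f594804 : Led Lsl_df (LP (LK LD1_c9 LD2_c6 LD3_c45)) = (LP (LK LD1_c11 LD2_c7 LD3_c28)) :=
  Lgr Lrot168 (Lpe (K44.f563098 IH) (Lpe (K44.f138937 IH) (Lpr_et (K39.f138927 IH) (Lpe (K38.f421437 IH) (Lpe (K43.f570752 IH) (Lpe (f594801 IH) (Lpr_gf (f594787 IH) (Lpe (K37.f149240 IH) (Lpr_gf (K42.f558885 IH) (Lpe (f577769 IH) (Lpn (LP (LK LD1_c11 LD2_c7 LD3_c28)))))))))))))
theorem f594810 : Led Lsl_ft (LP (LK LD1_c9 LD2_c6 LD3_c45)) = (LP (LK LD1_c11 LD2_c8 LD3_c8)) :=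
  Lgr Lrot54 (Lpr_df (f594804 IH) (Lpr_ff (K43.f577763 IH) (Lpe (K43.f536500 IH) (Lpn (LP (LK LD1_c11 LD2_c8 LD3_c8))))))
theorem f594827 : Led Lsl_ff (LP (LK LD1_c9 LD2_c6 LD3_c45)) = (LP (LK LD1_c11 LD2_c8 LD3_c8)) :=
  Lgr Lrot3 (Lpr_ft (f594810 IH) (Lpn (LP (LK LD1_c11 LD2_c8 LD3_c8))))
theorem f594834 : Led Lsl_ft (LP (LK LD1_c9 LD2_c10 LD3_c54)) = (LP (LK LD1_c17 LD2_c3 LD3_c31)) :=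
  Lgr Lrot4 (Lpr_cf (K44.f563087 IH) (Lpr_ff (f594827 IH) (Lpr_cf (K43.f568614 IH) (Lpn (LP (LK LD1_c17 LD2_c3 LD3_c31))))))
theorem f594838 : Led Lsl_af (LP (LK LD1_c9 LD2_c10 LD3_c53)) = (LP (LK LD1_c17 LD2_c3 LD3_c31)) :=
  Lgr Lrot31 (Lpe (K44.f538137 IH) (Lpe (K44.f563086 IH) (Lpr_ft (f594834 IH) (Lpn (LP (LK LD1_c17 LD2_c3 LD3_c31))))))
theorem f594840 : Led Lsl_at (LP (LK LD1_c9 LD2_c10 LD3_c53)) = (LP (LK LD1_c17 LD2_c3 LD3_c31)) :=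
  Lgr Lrot100 (Lpr_af (f594838 IH) (Lpn (LP (LK LD1_c17 LD2_c3 LD3_c31))))
theorem f538246 : Led Lsl_gt (LP (LK LD1_c17 LD2_c3 LD3_c32)) = (LP (LK LD1_c9 LD2_c10 LD3_c21)) :=
  Lre_g IH (LK LD1_c17 LD2_c3 LD3_c32) (LK LD1_c9 LD2_c10 LD3_c21) Lrfl Lrfl
theorem f594852 : Led Lsl_ff (LP (LK LD1_c9 LD2_c10 LD3_c53)) = (LP (LK LD1_c17 LD2_c3 LD3_c32)) :=
  Lgr Lrot52 (Lpr_at (f594840 IH) (Lpe (K42.f538245 IH) (Lpe (f538246 IH) (Lpn (LP (LK LD1_c17 LD2_c3 LD3_c32))))))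
theorem f594856 : Led Lsl_ft (LP (LK LD1_c9 LD2_c10 LD3_c53)) = (LP (LK LD1_c17 LD2_c3 LD3_c32)) :=
  Lgr Lrot48 (Lpr_ff (f594852 IH) (Lpn (LP (LK LD1_c17 LD2_c3 LD3_c32))))
theorem f580547 : Led Lsl_ft (LP (LK LD1_c16 LD2_c29 LD3_c60)) = (LP (LK LD1_c17 LD2_c4 LD3_c8)) :=
  Lgr Lrot54 (Lpr_df (K42.f557743 IH) (Lpe (K44.f580533 IH) (Lpr_df (K44.f580543 IH) (Lpn (LP (LK LD1_c17 LD2_c4 LD3_c8))))))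
theorem f594860 : Led Lsl_cf (LP (LK LD1_c16 LD2_c29 LD3_c60)) = (LP (LK LD1_c17 LD2_c3 LD3_c32)) :=
  Lgr Lrot108 (Lpr_ft (f580547 IH) (Lpr_ct (K44.f563498 IH) (Lpr_ft (f594856 IH) (Lpn (LP (LK LD1_c17 LD2_c3 LD3_c32))))))
theorem f594864 : Led Lsl_ct (LP (LK LD1_c16 LD2_c29 LD3_c60)) = (LP (LK LD1_c17 LD2_c3 LD3_c32)) :=
  Lgr Lrot59 (Lpr_cf (f594860 IH) (Lpn (LP (LK LD1_c17 LD2_c3 LD3_c32))))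
theorem f538243 : Led Lsl_ct (LP (LK LD1_c9 LD2_c10 LD3_c21)) = (LP (LK LD1_c4 LD2_c37 LD3_c22)) :=
  Lre_c IH (LK LD1_c9 LD2_c10 LD3_c21) (LK LD1_c4 LD2_c37 LD3_c22) Lrfl Lrfl
theorem f594887 : Led Lsl_gf (LP (LK LD1_c16 LD2_c29 LD3_c60)) = (LP (LK LD1_c11 LD2_c29 LD3_c25)) :=
  Lgr Lrot147 (Lpr_ct (f594864 IH) (Lpr_gt (f538246 IH) (Lpr_ct (f538243 IH) (Lpe (K42.f438069 IH) (Lpe (K36.f537986 IH) (Lpe (K38.f547567 IH) (Lpe (K43.f573007 IH) (Lpr_gf (K43.f573021 IH) (Lpe (K42.f571934 IH) (Lpn (LP (LK LD1_c11 LD2_c29 LD3_c25))))))))))))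
theorem f594893 : Led Lsl_ef (LP (LK LD1_c8 LD2_c49 LD3_c4)) = (LP (LK LD1_c5 LD2_c50 LD3_c58)) :=
  Lgr Lrot17 (Lpr_gf (K37.f421439 IH) (Lpe (K41.f567568 IH) (Lpr_dt (K41.f567559 IH) (Lpr_gf (K40.f557388 IH) (Lpe (K36.f119886 IH) (Lpe (K44.f119878 IH) (Lpr_ef (f580523 IH) (Lpe (K42.f557743 IH) (Lpr_gf (f594887 IH) (Lpe (f149689 IH) (Lpn (LP (LK LD1_c5 LD2_c50 LD3_c58)))))))))))))
theorem f594895 : Led Lsl_at (LP (LK LD1_c8 LD2_c49 LD3_c23)) = (LP (LK LD1_c5 LD2_c50 LD3_c58)) :=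
  Lgr Lrot80 (Lpr_ef (K42.f138912 IH) (Lpe (K37.f421429 IH) (Lpr_ef (f594893 IH) (Lpn (LP (LK LD1_c5 LD2_c50 LD3_c58))))))
theorem f594899 : Led Lsl_af (LP (LK LD1_c3 LD2_c3 LD3_c28)) = (LP (LK LD1_c6 LD2_c13 LD3_c17)) :=
  Lgr Lrot36 (Lpr_bt (K37.f539926 IH) (Lpq (K38.f545736 IH) (Lpe (K37.f539816 IH) (Lpr_bt (K43.f539808 IH) (Lpr_at (f594895 IH) (Lpr_bt (K42.f571940 IH) (Lpn (LP (LK LD1_c6 LD2_c13 LD3_c17)))))))))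
theorem f565388 : Led Lsl_ff (LP (LK LD1_c6 LD2_c13 LD3_c17)) = (LP (LK LD1_c3 LD2_c3 LD3_c29)) :=
  Lgr Lrot23 (Lpr_ct (K41.f100587 IH) (Lpr_ft (K41.f565386 IH) (Lpr_ct (K39.f193539 IH) (Lpn (LP (LK LD1_c3 LD2_c3 LD3_c29))))))
theorem f569114 : Led Lsl_dt (LP (LK LD1_c12 LD2_c5 LD3_c36)) = (LP (LK LD1_c21 LD2_c11 LD3_c19)) :=
  Lre_d IH (LK LD1_c12 LD2_c5 LD3_c36) (LK LD1_c21 LD2_c11 LD3_c19) Lrfl Lrfl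
theorem f594903 : Led Lsl_cf (LP (LK LD1_c29 LD2_c52 LD3_c45)) = (LP (LK LD1_c21 LD2_c11 LD3_c19)) :=
  Lgr Lrot116 (Lpe (K42.f569298 IH) (Lpr_ct (K42.f546819 IH) (Lpr_dt (K39.f539927 IH) (Lpr_ct (K42.f422789 IH) (Lpr_af (f594899 IH) (Lpr_ff (f565388 IH) (Lpr_dt (K38.f100554 IH) (Lpr_ct (f101561 IH) (Lpr_dt (f569114 IH) (Lpn (LP (LK LD1_c21 LD2_c11 LD3_c19))))))))))))
theorem f569300 : Led Lsl_dt (LP (LK LD1_c21 LD2_c11 LD3_c12)) = (LP (LK LD1_c29 LD2_c52 LD3_c45)) :=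
  Lgr Lrot42 (Lpr_df (K42.f569298 IH) (Lpn (LP (LK LD1_c29 LD2_c52 LD3_c45))))
theorem f546818 : Led Lsl_ct (LP (LK LD1_c12 LD2_c5 LD3_c31)) = (LP (LK LD1_c21 LD2_c11 LD3_c12)) :=
  Lre_c IH (LK LD1_c12 LD2_c5 LD3_c31) (LK LD1_c21 LD2_c11 LD3_c12) Lrfl Lrfl
theorem f539928 : Led Lsl_gt (LP (LK LD1_c21 LD2_c11 LD3_c11)) = (LP (LK LD1_c12 LD2_c5 LD3_c31)) :=
  Lre_g IH (LK LD1_c21 LD2_c11 LD3_c11) (LK LD1_c12 LD2_c5 LD3_c31) Lrfl Lrfl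
theorem f549676 : Led Lsl_ct (LP (LK LD1_c12 LD2_c5 LD3_c40)) = (LP (LK LD1_c6 LD2_c13 LD3_c26)) :=
  Lre_c IH (LK LD1_c12 LD2_c5 LD3_c40) (LK LD1_c6 LD2_c13 LD3_c26) Lrfl Lrfl
theorem f594907 : Led Lsl_gt (LP (LK LD1_c17 LD2_c1 LD3_c49)) = (LP (LK LD1_c21 LD2_c11 LD3_c19)) :=
  Lgr Lrot9 (Lpe (K43.f547501 IH) (Lpe (K44.f580682 IH) (Lpr_ct (f549676 IH) (Lpr_gt (K38.f99511 IH) (Lpr_ct (K38.f101699 IH) (Lpe (K38.f186451 IH) (Lpe (K38.f549020 IH) (Lpe (K42.f549742 IH) (Lpr_cf (f594903 IH) (Lpn (LP (LK LD1_c21 LD2_c11 LD3_c19))))))))))))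
theorem f594909 : Led Lsl_cf (LP (LK LD1_c21 LD2_c11 LD3_c11)) = (LP (LK LD1_c17 LD2_c1 LD3_c17)) :=
  Lgr Lrot188 (Lpr_gt (f539928 IH) (Lpr_ct (f546818 IH) (Lpr_dt (f569300 IH) (Lpr_cf (f594903 IH) (Lpe (f594907 IH) (Lpr_cf (K43.f579397 IH) (Lpe (K43.f540515 IH) (Lpr_dt (K44.f420774 IH) (Lpr_gt (K43.f420778 IH) (Lpn (LP (LK LD1_c17 LD2_c1 LD3_c17))))))))))))
theorem f568634 : Led Lsl_gf (LP (LK LD1_c8 LD2_c3 LD3_c31)) = (LP (LK LD1_c5 LD2_c49 LD3_c12)) :=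
  Lgr Lrot124 (Lpe (K42.f182421 IH) (Lpr_ct (K13.f182388 IH) (Lpr_gt (K13.f229355 IH) (Lpr_cf (K18.f272551 IH) (Lpr_bt (K42.f272557 IH) (Lpr_gt (K42.f568620 IH) (Lpr_ct (K12.f175817 IH) (Lpe (K10.f185987 IH) (Lpe (K13.f176686 IH) (Lpr_bt (K40.f176622 IH) (Lpn (LP (LK LD1_c5 LD2_c49 LD3_c12)))))))))))))
theorem f577522 : Led Lsl_bt (LP (LK LD1_c6 LD2_c16 LD3_c23)) = (LP (LK LD1_c8 LD2_c45 LD3_c53)) :=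
  Lgr Lrot95 (Lpe (K42.f202659 IH) (Lpe (K43.f577454 IH) (Lpr_df (K43.f577518 IH) (Lpn (LP (LK LD1_c8 LD2_c45 LD3_c53))))))
theorem f577773 : Led Lsl_cf (LP (LK LD1_c11 LD2_c7 LD3_c28)) = (LP (LK LD1_c8 LD2_c45 LD3_c53)) :=
  Lgr Lrot97 (Lpr_bt (K43.f577762 IH) (Lpr_ct (K43.f577771 IH) (Lpr_bt (K43.f556396 IH) (Lpr_ct (K42.f202658 IH) (Lpr_bt (f577522 IH) (Lpn (LP (LK LD1_c8 LD2_c45 LD3_c53))))))))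
theorem f572959 : Led Lsl_bf (LP (LK LD1_c15 LD2_c3 LD3_c47)) = (LP (LK LD1_c12 LD2_c7 LD3_c50)) :=
  Lgr Lrot93 (Lpr_dt (K42.f572957 IH) (Lpr_bt (K41.f420804 IH) (Lpr_dt (K43.f566874 IH) (Lpn (LP (LK LD1_c12 LD2_c7 LD3_c50))))))
theorem f577788 : Led Lsl_bt (LP (LK LD1_c8 LD2_c45 LD3_c53)) = (LP (LK LD1_c6 LD2_c16 LD3_c23)) :=
  Lgr Lrot130 (Lpe (f577773 IH) (Lpr_gf (K43.f577782 IH) (Lpe (K43.f211975 IH) (Lpe (f565135 IH) (Lpe (f572982 IH) (Lpr_bf (f572959 IH) (Lpe (K40.f547114 IH) (Lpe (K43.f450378 IH) (Lpe (K42.f176691 IH) (Lpr_gf (K42.f556362 IH) (Lpn (LP (LK LD1_c6 LD2_c16 LD3_c23)))))))))))))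
theorem f577817 : Led Lsl_bf (LP (LK LD1_c11 LD2_c8 LD3_c7)) = (LP (LK LD1_c12 LD2_c9 LD3_c60)) :=
  Lgr Lrot61 (Lpr_ft (K43.f577815 IH) (Lpr_bt (f577788 IH) (Lpr_ft (K42.f556373 IH) (Lpn (LP (LK LD1_c12 LD2_c9 LD3_c60))))))
theorem f578972 : Led Lsl_ct (LP (LK LD1_c12 LD2_c9 LD3_c60)) = (LP (LK LD1_c6 LD2_c16 LD3_c27)) :=
  Lre_c IH (LK LD1_c12 LD2_c9 LD3_c60) (LK LD1_c6 LD2_c16 LD3_c27) Lrfl Lrfl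
theorem f578973 : Led Lsl_gt (LP (LK LD1_c4 LD2_c5 LD3_c45)) = (LP (LK LD1_c6 LD2_c16 LD3_c27)) :=
  Lgr Lrot65 (Lpr_cf (K42.f182444 IH) (Lpr_bt (K42.f182422 IH) (Lpe (K42.f227311 IH) (Lpe (K42.f210775 IH) (Lpr_ct (K42.f210776 IH) (Lpr_gf (K42.f568616 IH) (Lpe (K36.f186112 IH) (Lpr_gf (K43.f578966 IH) (Lpr_bf (f577817 IH) (Lpr_ct (f578972 IH) (Lpn (LP (LK LD1_c6 LD2_c16 LD3_c27)))))))))))))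
theorem f570136 : Led Lsl_ct (LP (LK LD1_c6 LD2_c16 LD3_c27)) = (LP (LK LD1_c12 LD2_c9 LD3_c60)) :=
  Lre_c IH (LK LD1_c6 LD2_c16 LD3_c27) (LK LD1_c12 LD2_c9 LD3_c60) Lrfl Lrfl
theorem f594921 : Led Lsl_df (LP (LK LD1_c21 LD2_c11 LD3_c11)) = (LP (LK LD1_c12 LD2_c9 LD3_c60)) :=
  Lgr Lrot162 (Lpr_cf (f594909 IH) (Lpe (K43.f420778 IH) (Lpe (K39.f420776 IH) (Lpe (K40.f193813 IH) (Lpe (K43.f559126 IH) (Lpe (f568634 IH) (Lpe (K42.f182444 IH) (Lpr_gt (f578973 IH) (Lpr_ct (f570136 IH) (Lpn (LP (LK LD1_c12 LD2_c9 LD3_c60))))))))))))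
theorem f594927 : Led Lsl_gt (LP (LK LD1_c14 LD2_c25 LD3_c34)) = (LP (LK LD1_c12 LD2_c9 LD3_c60)) :=
  Lgr Lrot94 (Lpr_cf (K43.f575921 IH) (Lpr_gt (K44.f575937 IH) (Lpe (K38.f548974 IH) (Lpr_gt (K38.f548995 IH) (Lpr_dt (K38.f101592 IH) (Lpe (K42.f422789 IH) (Lpe (K39.f539927 IH) (Lpe (f539928 IH) (Lpr_df (f594921 IH) (Lpn (LP (LK LD1_c12 LD2_c9 LD3_c60))))))))))))
theorem f573405 : Led Lsl_bf (LP (LK LD1_c11 LD2_c7 LD3_c7)) = (LP (LK LD1_c6 LD2_c7 LD3_c59)) :=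
  Lgr Lrot93 (Lpr_dt (K43.f573403 IH) (Lpr_bt (K43.f211083 IH) (Lpe (K41.f562491 IH) (Lpn (LP (LK LD1_c6 LD2_c7 LD3_c59))))))
theorem f594933 : Led Lsl_bf (LP (LK LD1_c5 LD2_c38 LD3_c25)) = (LP (LK LD1_c6 LD2_c16 LD3_c27)) :=
  Lgr Lrot156 (Lpe (f573407 IH) (Lpr_bf (f573405 IH) (Lpe (K41.f564165 IH) (Lpr_gt (K39.f556076 IH) (Lpr_cf (K39.f421050 IH) (Lpe (K40.f450309 IH) (Lpe (K43.f575869 IH) (Lpe (K43.f575921 IH) (Lpr_gt (f594927 IH) (Lpe (f570136 IH) (Lpn (LP (LK LD1_c6 LD2_c16 LD3_c27)))))))))))))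
theorem f503143 : Led Lsl_ft (LP (LK LD1_c3 LD2_c5 LD3_c22)) = (LP (LK LD1_c6 LD2_c16 LD3_c32)) :=
  Lre_f IH (LK LD1_c3 LD2_c5 LD3_c22) (LK LD1_c6 LD2_c16 LD3_c32) Lrfl Lrfl
theorem f175709 : Led Lsl_gt (LP (LK LD1_c5 LD2_c0 LD3_c31)) = (LP (LK LD1_c9 LD2_c51 LD3_c21)) :=
  Lre_g IH (LK LD1_c5 LD2_c0 LD3_c31) (LK LD1_c9 LD2_c51 LD3_c21) Lrfl Lrfl
theorem f569124 : Led Lsl_at (LP (LK LD1_c6 LD2_c16 LD3_c32)) = (LP (LK LD1_c9 LD2_c51 LD3_c21)) :=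
  Lgr Lrot26 (Lpe (f503143 IH) (Lpr_gt (K42.f569120 IH) (Lpr_gt (f175709 IH) (Lpn (LP (LK LD1_c9 LD2_c51 LD3_c21))))))
theorem f503150 : Led Lsl_ft (LP (LK LD1_c3 LD2_c5 LD3_c19)) = (LP (LK LD1_c6 LD2_c16 LD3_c27)) :=
  Lre_f IH (LK LD1_c3 LD2_c5 LD3_c19) (LK LD1_c6 LD2_c16 LD3_c27) Lrfl Lrfl
theorem f570151 : Led Lsl_at (LP (LK LD1_c6 LD2_c16 LD3_c27)) = (LP (LK LD1_c4 LD2_c56 LD3_c43)) :=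
  Lgr Lrot66 (Lpe (f503150 IH) (Lpr_af (K42.f570147 IH) (Lpe (K42.f570115 IH) (Lpn (LP (LK LD1_c4 LD2_c56 LD3_c43))))))
theorem f570164 : Led Lsl_et (LP (LK LD1_c9 LD2_c51 LD3_c21)) = (LP (LK LD1_c6 LD2_c16 LD3_c27)) :=
  Lgr Lrot123 (Lpe (f569124 IH) (Lpr_ef (K42.f570162 IH) (Lpe (f570151 IH) (Lpn (LP (LK LD1_c6 LD2_c16 LD3_c27))))))
theorem f570137 : Led Lsl_af (LP (LK LD1_c6 LD2_c16 LD3_c27)) = (LP (LK LD1_c4 LD2_c56 LD3_c43)) :=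
  Lgr Lrot68 (Lpr_ct (f570136 IH) (Lpr_at (K42.f570132 IH) (Lpr_ct (K42.f210324 IH) (Lpn (LP (LK LD1_c4 LD2_c56 LD3_c43))))))
theorem f569126 : Led Lsl_af (LP (LK LD1_c6 LD2_c16 LD3_c32)) = (LP (LK LD1_c9 LD2_c51 LD3_c21)) :=
  Lgr Lrot0 (Lpr_at (f569124 IH) (Lpn (LP (LK LD1_c9 LD2_c51 LD3_c21))))
theorem f594935 : Led Lsl_bt (LP (LK LD1_c11 LD2_c7 LD3_c30)) = (LP (LK LD1_c9 LD2_c51 LD3_c21)) :=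
  Lgr Lrot62 (Lpr_af (f577744 IH) (Lpr_bf (f594933 IH) (Lpr_af (f570137 IH) (Lpe (K42.f570180 IH) (Lpr_af (f569126 IH) (Lpn (LP (LK LD1_c9 LD2_c51 LD3_c21))))))))
theorem f594941 : Led Lsl_et (LP (LK LD1_c5 LD2_c38 LD3_c25)) = (LP (LK LD1_c11 LD2_c7 LD3_c30)) :=
  Lgr Lrot74 (Lpr_bf (f594933 IH) (Lpe (f570164 IH) (Lpe (f594935 IH) (Lpn (LP (LK LD1_c11 LD2_c7 LD3_c30))))))
theorem f548645 : Led Lsl_et (LP (LK LD1_c17 LD2_c1 LD3_c51)) = (LP (LK LD1_c9 LD2_c8 LD3_c58)) :=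
  Lre_e IH (LK LD1_c17 LD2_c1 LD3_c51) (LK LD1_c9 LD2_c8 LD3_c58) Lrfl Lrfl
theorem f570338 : Led Lsl_ef (LP (LK LD1_c5 LD2_c38 LD3_c25)) = (LP (LK LD1_c11 LD2_c7 LD3_c30)) :=
  Lgr Lrot28 (Lpr_ct (K42.f210999 IH) (Lpr_et (K42.f570334 IH) (Lpr_ct (K43.f380357 IH) (Lpn (LP (LK LD1_c11 LD2_c7 LD3_c30))))))
theorem f428854 : Led Lsl_gt (LP (LK LD1_c2 LD2_c55 LD3_c49)) = (LP (LK LD1_c5 LD2_c58 LD3_c47)) :=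
  Lre_g IH (LK LD1_c2 LD2_c55 LD3_c49) (LK LD1_c5 LD2_c58 LD3_c47) Lrfl Lrfl
theorem f573411 : Led Lsl_dt (LP (LK LD1_c11 LD2_c7 LD3_c30)) = (LP (LK LD1_c5 LD2_c58 LD3_c47)) :=
  Lgr Lrot37 (Lpe (f570338 IH) (Lpe (f573407 IH) (Lpr_dt (K43.f573403 IH) (Lpe (K43.f573396 IH) (Lpe (K40.f72387 IH) (Lpr_et (K2.f72389 IH) (Lpr_gt (K8.f157615 IH) (Lpe (K40.f386845 IH) (Lpr_dt (K40.f428249 IH) (Lpr_gt (f428854 IH) (Lpn (LP (LK LD1_c5 LD2_c58 LD3_c47)))))))))))))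
theorem f594943 : Led Lsl_et (LP (LK LD1_c5 LD2_c58 LD3_c47)) = (LP (LK LD1_c11 LD2_c42 LD3_c0)) :=
  Lre_e IH (LK LD1_c5 LD2_c58 LD3_c47) (LK LD1_c11 LD2_c42 LD3_c0) Lrfl Lrfl
theorem f594944 : Led Lsl_df (LP (LK LD1_c17 LD2_c1 LD3_c51)) = (LP (LK LD1_c11 LD2_c42 LD3_c0)) :=
  Lgr Lrot70 (Lpr_et (f548645 IH) (Lpe (f570328 IH) (Lpr_et (f594941 IH) (Lpr_dt (f573411 IH) (Lpr_et (f594943 IH) (Lpn (LP (LK LD1_c11 LD2_c42 LD3_c0))))))))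
theorem f594949 : Led Lsl_dt (LP (LK LD1_c17 LD2_c1 LD3_c51)) = (LP (LK LD1_c11 LD2_c42 LD3_c0)) :=
  Lgr Lrot42 (Lpr_df (f594944 IH) (Lpn (LP (LK LD1_c11 LD2_c42 LD3_c0))))
theorem f594960 : Led Lsl_et (LP (LK LD1_c9 LD2_c8 LD3_c58)) = (LP (LK LD1_c17 LD2_c1 LD3_c51)) :=
  Lre_e IH (LK LD1_c9 LD2_c8 LD3_c58) (LK LD1_c17 LD2_c1 LD3_c51) Lrfl Lrfl
theorem f548643 : Led Lsl_ct (LP (LK LD1_c16 LD2_c58 LD3_c6)) = (LP (LK LD1_c9 LD2_c8 LD3_c58)) :=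
  Lgr Lrot59 (Lpr_cf (K38.f548634 IH) (Lpn (LP (LK LD1_c9 LD2_c8 LD3_c58))))
theorem f548363 : Led Lsl_dt (LP (LK LD1_c5 LD2_c38 LD3_c23)) = (LP (LK LD1_c2 LD2_c45 LD3_c2)) :=
  Lre_d IH (LK LD1_c5 LD2_c38 LD3_c23) (LK LD1_c2 LD2_c45 LD3_c2) Lrfl Lrfl
theorem f574717 : Led Lsl_gf (LP (LK LD1_c2 LD2_c58 LD3_c12)) = (LP (LK LD1_c2 LD2_c45 LD3_c2)) :=
  Lgr Lrot124 (Lpe (K43.f176842 IH) (Lpr_ct (K10.f9390 IH) (Lpr_gt (K9.f22424 IH) (Lpe (K10.f26654 IH) (Lpr_bt (K43.f572590 IH) (Lpr_gt (K43.f574702 IH) (Lpr_ct (K43.f547723 IH) (Lpr_gt (K41.f563589 IH) (Lpe (K41.f198562 IH) (Lpr_bt (K41.f198561 IH) (Lpn (LP (LK LD1_c2 LD2_c45 LD3_c2)))))))))))))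
theorem f592841 : Led Lsl_df (LP (LK LD1_c9 LD2_c8 LD3_c58)) = (LP (LK LD1_c5 LD2_c38 LD3_c25)) :=
  Lgr Lrot162 (Lpe (f548643 IH) (Lpe (K38.f500303 IH) (Lpe (K7.f20355 IH) (Lpr_gf (f592831 IH) (Lpr_dt (f548363 IH) (Lpe (f574717 IH) (Lpe (K36.f334871 IH) (Lpr_gt (K42.f538958 IH) (Lpr_ct (K42.f548273 IH) (Lpn (LP (LK LD1_c5 LD2_c38 LD3_c25))))))))))))
theorem f594951 : Led Lsl_et (LP (LK LD1_c11 LD2_c42 LD3_c0)) = (LP (LK LD1_c5 LD2_c58 LD3_c47)) :=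
  Lre_e IH (LK LD1_c11 LD2_c42 LD3_c0) (LK LD1_c5 LD2_c58 LD3_c47) Lrfl Lrfl
theorem f594961 : Led Lsl_df (LP (LK LD1_c11 LD2_c7 LD3_c30)) = (LP (LK LD1_c5 LD2_c58 LD3_c47)) :=
  Lgr Lrot70 (Lpe (f570338 IH) (Lpe (f592841 IH) (Lpr_et (f594960 IH) (Lpr_dt (f594949 IH) (Lpr_et (f594951 IH) (Lpn (LP (LK LD1_c5 LD2_c58 LD3_c47))))))))
theorem f592720 : Led Lsl_ct (LP (LK LD1_c16 LD2_c58 LD3_c49)) = (LP (LK LD1_c16 LD2_c58 LD3_c57)) :=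
  Lgr Lrot59 (Lpr_cf (f592714 IH) (Lpn (LP (LK LD1_c16 LD2_c58 LD3_c57))))
theorem f577738 : Led Lsl_ft (LP (LK LD1_c5 LD2_c58 LD3_c47)) = (LP (LK LD1_c11 LD2_c8 LD3_c3)) :=
  Lgr Lrot54 (Lpe (f573411 IH) (Lpr_ff (K43.f577734 IH) (Lpe (f422733 IH) (Lpn (LP (LK LD1_c11 LD2_c8 LD3_c3))))))
theorem f594967 : Led Lsl_af (LP (LK LD1_c5 LD2_c58 LD3_c48)) = (LP (LK LD1_c11 LD2_c8 LD3_c3)) :=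
  Lgr Lrot109 (Lpr_cf (f592701 IH) (Lpe (f564060 IH) (Lpe (f592720 IH) (Lpe (f539949 IH) (Lpe (f494358 IH) (Lpr_df (f592735 IH) (Lpe (K43.f380358 IH) (Lpr_df (f594961 IH) (Lpr_ft (f577738 IH) (Lpn (LP (LK LD1_c11 LD2_c8 LD3_c3))))))))))))
theorem f594975 : Led Lsl_gf (LP (LK LD1_c11 LD2_c20 LD3_c31)) = (LP (LK LD1_c5 LD2_c58 LD3_c47)) :=
  Lgr Lrot47 (Lpe (K40.f539589 IH) (Lpr_af (f594967 IH) (Lpe (f577738 IH) (Lpn (LP (LK LD1_c5 LD2_c58 LD3_c47))))))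
theorem f579576 : Led Lsl_gt (LP (LK LD1_c11 LD2_c7 LD3_c7)) = (LP (LK LD1_c5 LD2_c38 LD3_c22)) :=
  Lgr Lrot65 (Lpe (K43.f564167 IH) (Lpr_bt (K43.f176845 IH) (Lpe (K43.f562562 IH) (Lpe (K43.f562631 IH) (Lpr_ct (K40.f541575 IH) (Lpe (K42.f572937 IH) (Lpr_cf (K43.f572939 IH) (Lpr_gf (K43.f579568 IH) (Lpe (K43.f571467 IH) (Lpr_ct (K42.f422732 IH) (Lpn (LP (LK LD1_c5 LD2_c38 LD3_c22)))))))))))))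
theorem f548345 : Led Lsl_ct (LP (LK LD1_c11 LD2_c8 LD3_c4)) = (LP (LK LD1_c5 LD2_c38 LD3_c23)) :=
  Lre_c IH (LK LD1_c11 LD2_c8 LD3_c4) (LK LD1_c5 LD2_c38 LD3_c23) Lrfl Lrfl
theorem f592840 : Led Lsl_gt (LP (LK LD1_c20 LD2_c1 LD3_c41)) = (LP (LK LD1_c11 LD2_c8 LD3_c4)) :=
  Lre_g IH (LK LD1_c20 LD2_c1 LD3_c41) (LK LD1_c11 LD2_c8 LD3_c4) Lrfl Lrfl
theorem f594979 : Led Lsl_ct (LP (LK LD1_c11 LD2_c20 LD3_c31)) = (LP (LK LD1_c20 LD2_c1 LD3_c41)) :=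
  Lgr Lrot152 (Lpr_gf (f594975 IH) (Lpe (f573411 IH) (Lpe (K43.f573409 IH) (Lpr_ct (K43.f564167 IH) (Lpr_gt (f579576 IH) (Lpr_ct (K43.f422740 IH) (Lpe (f548363 IH) (Lpe (f548345 IH) (Lpe (f592840 IH) (Lpn (LP (LK LD1_c20 LD2_c1 LD3_c41))))))))))))
theorem f139005 : Led Lsl_bf (LP (LK LD1_c8 LD2_c49 LD3_c22)) = (LP (LK LD1_c4 LD2_c58 LD3_c51)) :=
  Lgr Lrot24 (Lpr_bt (K39.f139000 IH) (Lpn (LP (LK LD1_c4 LD2_c58 LD3_c51))))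
theorem f594831 : Led Lsl_bt (LP (LK LD1_c5 LD2_c38 LD3_c26)) = (LP (LK LD1_c11 LD2_c8 LD3_c8)) :=
  Lre_b IH (LK LD1_c5 LD2_c38 LD3_c26) (LK LD1_c11 LD2_c8 LD3_c8) Lrfl Lrfl
theorem f568580 : Led Lsl_ct (LP (LK LD1_c5 LD2_c38 LD3_c26)) = (LP (LK LD1_c11 LD2_c8 LD3_c9)) :=
  Lre_c IH (LK LD1_c5 LD2_c38 LD3_c26) (LK LD1_c11 LD2_c8 LD3_c9) Lrfl Lrfl
theorem f595059 : Led Lsl_gt (LP (LK LD1_c11 LD2_c8 LD3_c9)) = (LP (LK LD1_c20 LD2_c1 LD3_c41)) :=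
  Lgr Lrot65 (Lpe (f568580 IH) (Lpr_bt (f594831 IH) (Lpr_gf (K43.f570320 IH) (Lpr_bf (f139005 IH) (Lpr_ct (K37.f139007 IH) (Lpr_gf (K40.f562399 IH) (Lpe (K40.f186120 IH) (Lpe (K40.f562403 IH) (Lpe (K36.f539570 IH) (Lpr_ct (f594979 IH) (Lpn (LP (LK LD1_c20 LD2_c1 LD3_c41)))))))))))))
theorem f570330 : Led Lsl_dt (LP (LK LD1_c11 LD2_c8 LD3_c9)) = (LP (LK LD1_c20 LD2_c1 LD3_c45)) :=
  Lre_d IH (LK LD1_c11 LD2_c8 LD3_c9) (LK LD1_c20 LD2_c1 LD3_c45) Lrfl Lrfl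
theorem f595048 : Led Lsl_cf (LP (LK LD1_c11 LD2_c20 LD3_c31)) = (LP (LK LD1_c20 LD2_c1 LD3_c41)) :=
  Lgr Lrot11 (Lpr_ct (f594979 IH) (Lpn (LP (LK LD1_c20 LD2_c1 LD3_c41))))
theorem f592744 : Led Lsl_gf (LP (LK LD1_c16 LD2_c58 LD3_c49)) = (LP (LK LD1_c20 LD2_c26 LD3_c36)) :=
  Lgr Lrot143 (Lpr_dt (f539948 IH) (Lpe (f494358 IH) (Lpr_df (f592735 IH) (Lpe (K41.f380310 IH) (Lpe (K36.f380317 IH) (Lpe (K38.f544937 IH) (Lpe (K38.f208547 IH) (Lpr_gt (K43.f544939 IH) (Lpr_dt (K43.f544953 IH) (Lpn (LP (LK LD1_c20 LD2_c26 LD3_c36))))))))))))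
theorem f595063 : Led Lsl_gt (LP (LK LD1_c20 LD2_c1 LD3_c45)) = (LP (LK LD1_c20 LD2_c49 LD3_c59)) :=
  Lgr Lrot9 (Lpe (f570330 IH) (Lpr_gt (f595059 IH) (Lpe (f595048 IH) (Lpe (K40.f539589 IH) (Lpe (f563716 IH) (Lpe (f564060 IH) (Lpe (f592720 IH) (Lpr_gf (f592744 IH) (Lpe (K43.f579738 IH) (Lpn (LP (LK LD1_c20 LD2_c49 LD3_c59))))))))))))
theorem f20393 : Led Lsl_dt (LP (LK LD1_c4 LD2_c34 LD3_c59)) = (LP (LK LD1_c2 LD2_c14 LD3_c34)) :=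
  Lre_d IH (LK LD1_c4 LD2_c34 LD3_c59) (LK LD1_c2 LD2_c14 LD3_c34) Lrfl Lrfl
theorem f548360 : Led Lsl_cf (LP (LK LD1_c5 LD2_c53 LD3_c26)) = (LP (LK LD1_c11 LD2_c8 LD3_c10)) :=
  Lgr Lrot99 (Lpe (K40.f72387 IH) (Lpe (K2.f72371 IH) (Lpqs (K36.f539953 IH) (Lpe (K36.f494354 IH) (Lpr_cf (K36.f20314 IH) (Lpe (K35.f20392 IH) (Lpe (f20393 IH) (Lpr_gt (K38.f548271 IH) (Lpr_ct (K36.f165059 IH) (Lpr_gt (K44.f165060 IH) (Lpn (LP (LK LD1_c11 LD2_c8 LD3_c10)))))))))))))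
theorem f422744 : Led Lsl_gt (LP (LK LD1_c11 LD2_c8 LD3_c13)) = (LP (LK LD1_c20 LD2_c1 LD3_c50)) :=
  Lre_g IH (LK LD1_c11 LD2_c8 LD3_c13) (LK LD1_c20 LD2_c1 LD3_c50) Lrfl Lrfl
theorem f595067 : Led Lsl_cf (LP (LK LD1_c20 LD2_c1 LD3_c45)) = (LP (LK LD1_c20 LD2_c1 LD3_c50)) :=
  Lgr Lrot169 (Lpr_gt (f595063 IH) (Lpr_ct (K43.f579738 IH) (Lpe (K43.f544953 IH) (Lpr_cf (K43.f544941 IH) (Lpe (K40.f557518 IH) (Lpr_cf (f548360 IH) (Lpe (K44.f165060 IH) (Lpe (K36.f211716 IH) (Lpr_gt (f422744 IH) (Lpn (LP (LK LD1_c20 LD2_c1 LD3_c50))))))))))))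
theorem f422745 : Led Lsl_gt (LP (LK LD1_c20 LD2_c1 LD3_c50)) = (LP (LK LD1_c20 LD2_c1 LD3_c52)) :=
  Lgr Lrot46 (Lpe (f422744 IH) (Lpr_ft (f422728 IH) (Lpr_at (f422729 IH) (Lpn (LP (LK LD1_c20 LD2_c1 LD3_c52))))))
theorem f595079 : Led Lsl_df (LP (LK LD1_c16 LD2_c58 LD3_c7)) = (LP (LK LD1_c20 LD2_c1 LD3_c50)) :=
  Lgr Lrot155 (Lpr_gt (K42.f20364 IH) (Lpr_ct (K7.f20343 IH) (Lpe (K42.f570322 IH) (Lpr_ct (f568580 IH) (Lpr_dt (f570330 IH) (Lpr_cf (f595067 IH) (Lpe (f422744 IH) (Lpe (K36.f422723 IH) (Lpe (f422745 IH) (Lpn (LP (LK LD1_c20 LD2_c1 LD3_c50))))))))))))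
theorem f573398 : Led Lsl_df (LP (LK LD1_c11 LD2_c7 LD3_c7)) = (LP (LK LD1_c11 LD2_c32 LD3_c28)) :=
  Lgr Lrot84 (Lpe (K43.f564167 IH) (Lpe (K43.f557468 IH) (Lpe (K43.f572902 IH) (Lpe (K38.f181487 IH) (Lpr_gf (K40.f563177 IH) (Lpr_cf (K36.f539591 IH) (Lpe (K40.f563713 IH) (Lpr_dt (K43.f428175 IH) (Lpr_gt (K43.f573393 IH) (Lpn (LP (LK LD1_c11 LD2_c32 LD3_c28))))))))))))
theorem f211719 : Led Lsl_gt (LP (LK LD1_c11 LD2_c8 LD3_c11)) = (LP (LK LD1_c5 LD2_c38 LD3_c27)) :=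
  Lre_g IH (LK LD1_c11 LD2_c8 LD3_c11) (LK LD1_c5 LD2_c38 LD3_c27) Lrfl Lrfl
theorem f595089 : Led Lsl_cf (LP (LK LD1_c5 LD2_c58 LD3_c46)) = (LP (LK LD1_c11 LD2_c8 LD3_c11)) :=
  Lgr Lrot166 (Lpr_gt (K43.f573393 IH) (Lpe (f573398 IH) (Lpr_gt (f579576 IH) (Lpr_dt (K42.f422735 IH) (Lpr_ct (K42.f568586 IH) (Lpr_df (f595079 IH) (Lpe (f422744 IH) (Lpe (K36.f422725 IH) (Lpe (f211719 IH) (Lpn (LP (LK LD1_c11 LD2_c8 LD3_c11))))))))))))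
theorem f541423 : Led Lsl_ft (LP (LK LD1_c2 LD2_c14 LD3_c29)) = (LP (LK LD1_c4 LD2_c31 LD3_c58)) :=
  Lgr Lrot48 (Lpr_ff (K36.f541417 IH) (Lpn (LP (LK LD1_c4 LD2_c31 LD3_c58))))
theorem f72373 : Led Lsl_dt (LP (LK LD1_c2 LD2_c14 LD3_c29)) = (LP (LK LD1_c4 LD2_c34 LD3_c48)) :=
  Lre_d IH (LK LD1_c2 LD2_c14 LD3_c29) (LK LD1_c4 LD2_c34 LD3_c48) Lrfl Lrfl
theorem f72375 : Led Lsl_dt (LP (LK LD1_c9 LD2_c6 LD3_c14)) = (LP (LK LD1_c16 LD2_c57 LD3_c58)) :=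
  Lre_d IH (LK LD1_c9 LD2_c6 LD3_c14) (LK LD1_c16 LD2_c57 LD3_c58) Lrfl Lrfl
theorem f428159 : Led Lsl_dt (LP (LK LD1_c11 LD2_c41 LD3_c42)) = (LP (LK LD1_c20 LD2_c41 LD3_c43)) :=
  Lre_d IH (LK LD1_c11 LD2_c41 LD3_c42) (LK LD1_c20 LD2_c41 LD3_c43) Lrfl Lrfl
theorem f20383 : Led Lsl_dt (LP (LK LD1_c2 LD2_c14 LD3_c35)) = (LP (LK LD1_c1 LD2_c4 LD3_c24)) :=
  Lre_d IH (LK LD1_c2 LD2_c14 LD3_c35) (LK LD1_c1 LD2_c4 LD3_c24) Lrfl Lrfl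
theorem f72380 : Led Lsl_ct (LP (LK LD1_c9 LD2_c6 LD3_c14)) = (LP (LK LD1_c4 LD2_c34 LD3_c48)) :=
  Lre_c IH (LK LD1_c9 LD2_c6 LD3_c14) (LK LD1_c4 LD2_c34 LD3_c48) Lrfl Lrfl
theorem f72386 : Led Lsl_dt (LP (LK LD1_c16 LD2_c57 LD3_c58)) = (LP (LK LD1_c9 LD2_c6 LD3_c14)) :=
  Lre_d IH (LK LD1_c16 LD2_c57 LD3_c58) (LK LD1_c9 LD2_c6 LD3_c14) Lrfl Lrfl
theorem f563137 : Led Lsl_gt (LP (LK LD1_c20 LD2_c41 LD3_c43)) = (LP (LK LD1_c16 LD2_c57 LD3_c58)) :=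
  Lgr Lrot49 (Lpe (f428159 IH) (Lpr_gf (K40.f563133 IH) (Lpe (K40.f494355 IH) (Lpr_gt (K40.f20390 IH) (Lpr_dt (f20383 IH) (Lpr_gt (K36.f494354 IH) (Lpq (K36.f539953 IH) (Lpr_dt (f72373 IH) (Lpe (f72380 IH) (Lpe (f72386 IH) (Lpn (LP (LK LD1_c16 LD2_c57 LD3_c58)))))))))))))
theorem f422803 : Led Lsl_dt (LP (LK LD1_c11 LD2_c51 LD3_c44)) = (LP (LK LD1_c6 LD2_c4 LD3_c2)) :=
  Lre_d IH (LK LD1_c11 LD2_c51 LD3_c44) (LK LD1_c6 LD2_c4 LD3_c2) Lrfl Lrfl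
theorem f20381 : Led Lsl_ct (LP (LK LD1_c2 LD2_c14 LD3_c35)) = (LP (LK LD1_c4 LD2_c35 LD3_c0)) :=
  Lre_c IH (LK LD1_c2 LD2_c14 LD3_c35) (LK LD1_c4 LD2_c35 LD3_c0) Lrfl Lrfl
theorem f20382 : Led Lsl_dt (LP (LK LD1_c4 LD2_c35 LD3_c0)) = (LP (LK LD1_c9 LD2_c6 LD3_c49)) :=
  Lre_d IH (LK LD1_c4 LD2_c35 LD3_c0) (LK LD1_c9 LD2_c6 LD3_c49) Lrfl Lrfl
theorem f539941 : Led Lsl_ct (LP (LK LD1_c9 LD2_c6 LD3_c49)) = (LP (LK LD1_c11 LD2_c51 LD3_c44)) :=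
  Lgr Lrot41 (Lpe (f20382 IH) (Lpe (f20381 IH) (Lpe (f20380 IH) (Lpr_ft (K37.f20339 IH) (Lpq (K37.f539938 IH) (Lpe (K37.f501212 IH) (Lpr_cf (K35.f175880 IH) (Lpe (K38.f22434 IH) (Lpe (K38.f422802 IH) (Lpe (f422803 IH) (Lpn (LP (LK LD1_c11 LD2_c51 LD3_c44)))))))))))))
theorem f396378 : Led Lsl_gt (LP (LK LD1_c16 LD2_c58 LD3_c59)) = (LP (LK LD1_c9 LD2_c6 LD3_c49)) :=
  Lre_g IH (LK LD1_c16 LD2_c58 LD3_c59) (LK LD1_c9 LD2_c6 LD3_c49) Lrfl Lrfl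
theorem f592754 : Led Lsl_ct (LP (LK LD1_c16 LD2_c57 LD3_c58)) = (LP (LK LD1_c16 LD2_c58 LD3_c59)) :=
  Lgr Lrot152 (Lpe (f563137 IH) (Lpe (f428159 IH) (Lpe (f592728 IH) (Lpr_ct (f539947 IH) (Lpr_gt (f592746 IH) (Lpr_ct (f422800 IH) (Lpe (f422803 IH) (Lpe (f539941 IH) (Lpe (f396378 IH) (Lpn (LP (LK LD1_c16 LD2_c58 LD3_c59))))))))))))
theorem f595103 : Led Lsl_dt (LP (LK LD1_c16 LD2_c58 LD3_c59)) = (LP (LK LD1_c11 LD2_c8 LD3_c11)) :=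
  Lgr Lrot140 (Lpe (f592754 IH) (Lpe (f72375 IH) (Lpe (K43.f72374 IH) (Lpe (f72373 IH) (Lpr_ft (f541423 IH) (Lpr_at (K40.f495717 IH) (Lpqs (K38.f548135 IH) (Lpqs (K35.f541444 IH) (Lpe (f563159 IH) (Lpe (K43.f428174 IH) (Lpr_cf (f595089 IH) (Lpn (LP (LK LD1_c11 LD2_c8 LD3_c11))))))))))))))
theorem f580703 : Led Lsl_gt (LP (LK LD1_c11 LD2_c8 LD3_c10)) = (LP (LK LD1_c11 LD2_c51 LD3_c54)) :=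
  Lgr Lrot150 (Lpr_cf (K44.f580695 IH) (Lpr_gf (K43.f573396 IH) (Lpe (K43.f573403 IH) (Lpr_gt (f579576 IH) (Lpr_ct (K43.f422740 IH) (Lpe (f574717 IH) (Lpe (K36.f334871 IH) (Lpe (K36.f334868 IH) (Lpe (K36.f186051 IH) (Lpn (LP (LK LD1_c11 LD2_c51 LD3_c54))))))))))))
theorem f592707 : Led Lsl_gt (LP (LK LD1_c9 LD2_c6 LD3_c49)) = (LP (LK LD1_c16 LD2_c58 LD3_c58)) :=
  Lre_g IH (LK LD1_c9 LD2_c6 LD3_c49) (LK LD1_c16 LD2_c58 LD3_c58) Lrfl Lrfl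
theorem f592708 : Led Lsl_df (LP (LK LD1_c11 LD2_c8 LD3_c10)) = (LP (LK LD1_c16 LD2_c58 LD3_c58)) :=
  Lgr Lrot84 (Lpr_cf (K44.f580695 IH) (Lpe (K40.f72387 IH) (Lpq (K38.f539956 IH) (Lpe (K38.f500717 IH) (Lpe (K36.f428160 IH) (Lpe (K40.f428172 IH) (Lpr_cf (f592701 IH) (Lpr_gt (f20391 IH) (Lpr_dt (f20382 IH) (Lpr_gt (f592707 IH) (Lpn (LP (LK LD1_c16 LD2_c58 LD3_c58)))))))))))))
theorem f422801 : Led Lsl_dt (LP (LK LD1_c6 LD2_c4 LD3_c2)) = (LP (LK LD1_c11 LD2_c51 LD3_c44)) :=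
  Lre_d IH (LK LD1_c6 LD2_c4 LD3_c2) (LK LD1_c11 LD2_c51 LD3_c44) Lrfl Lrfl
theorem f20385 : Led Lsl_dt (LP (LK LD1_c9 LD2_c6 LD3_c49)) = (LP (LK LD1_c4 LD2_c35 LD3_c0)) :=
  Lre_d IH (LK LD1_c9 LD2_c6 LD3_c49) (LK LD1_c4 LD2_c35 LD3_c0) Lrfl Lrfl
theorem f541442 : Led Lsl_ct (LP (LK LD1_c11 LD2_c51 LD3_c44)) = (LP (LK LD1_c9 LD2_c6 LD3_c49)) :=
  Lgr Lrot41 (Lpe (f422801 IH) (Lpe (f422800 IH) (Lpe (K38.f22438 IH) (Lpr_ft (K35.f494624 IH) (Lpq (K35.f537701 IH) (Lpr_at (K35.f20365 IH) (Lpr_cf (K36.f20314 IH) (Lpe (f20383 IH) (Lpe (f20384 IH) (Lpe (f20385 IH) (Lpn (LP (LK LD1_c9 LD2_c6 LD3_c49)))))))))))))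
theorem f595121 : Led Lsl_gf (LP (LK LD1_c16 LD2_c58 LD3_c59)) = (LP (LK LD1_c11 LD2_c51 LD3_c44)) :=
  Lgr Lrot144 (Lpr_dt (f595103 IH) (Lpr_gt (f211719 IH) (Lpr_dt (K36.f422725 IH) (Lpe (K36.f422723 IH) (Lpe (K36.f538960 IH) (Lpe (f580703 IH) (Lpr_df (f592708 IH) (Lpe (f592707 IH) (Lpe (f541442 IH) (Lpn (LP (LK LD1_c11 LD2_c51 LD3_c44))))))))))))
theorem f595123 : Led Lsl_ct (LP (LK LD1_c16 LD2_c58 LD3_c59)) = (LP (LK LD1_c16 LD2_c57 LD3_c58)) :=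
  Lgr Lrot151 (Lpr_gf (f595121 IH) (Lpe (f539941 IH) (Lpe (f396378 IH) (Lpr_dt (f595103 IH) (Lpr_gt (f211719 IH) (Lpr_ct (K36.f211715 IH) (Lpe (K38.f548358 IH) (Lpr_ct (K43.f72374 IH) (Lpr_dt (f72375 IH) (Lpn (LP (LK LD1_c16 LD2_c57 LD3_c58))))))))))))
theorem f428248 : Led Lsl_ct (LP (LK LD1_c2 LD2_c55 LD3_c49)) = (LP (LK LD1_c5 LD2_c58 LD3_c49)) :=
  Lre_c IH (LK LD1_c2 LD2_c55 LD3_c49) (LK LD1_c5 LD2_c58 LD3_c49) Lrfl Lrfl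
theorem f428192 : Led Lsl_dt (LP (LK LD1_c5 LD2_c58 LD3_c49)) = (LP (LK LD1_c11 LD2_c42 LD3_c2)) :=
  Lre_d IH (LK LD1_c5 LD2_c58 LD3_c49) (LK LD1_c11 LD2_c42 LD3_c2) Lrfl Lrfl
theorem f595136 : Led Lsl_gf (LP (LK LD1_c20 LD2_c42 LD3_c14)) = (LP (LK LD1_c16 LD2_c57 LD3_c58)) :=
  Lgr Lrot104 (Lpr_ct (K36.f428163 IH) (Lpe (f428192 IH) (Lpe (f428248 IH) (Lpe (K40.f428172 IH) (Lpr_cf (f592701 IH) (Lpr_gf (f592752 IH) (Lpe (f422803 IH) (Lpe (f595121 IH) (Lpr_ct (f595123 IH) (Lpn (LP (LK LD1_c16 LD2_c57 LD3_c58))))))))))))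
theorem f428182 : Led Lsl_df (LP (LK LD1_c11 LD2_c42 LD3_c3)) = (LP (LK LD1_c20 LD2_c42 LD3_c14)) :=
  Lgr Lrot38 (Lpr_dt (K36.f428166 IH) (Lpn (LP (LK LD1_c20 LD2_c42 LD3_c14))))
theorem f428168 : Led Lsl_at (LP (LK LD1_c5 LD2_c58 LD3_c49)) = (LP (LK LD1_c11 LD2_c41 LD3_c42)) :=
  Lre_a IH (LK LD1_c5 LD2_c58 LD3_c49) (LK LD1_c11 LD2_c41 LD3_c42) Lrfl Lrfl
theorem f428169 : Led Lsl_ft (LP (LK LD1_c11 LD2_c42 LD3_c3)) = (LP (LK LD1_c5 LD2_c58 LD3_c49)) :=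
  Lre_f IH (LK LD1_c11 LD2_c42 LD3_c3) (LK LD1_c5 LD2_c58 LD3_c49) Lrfl Lrfl
theorem f563135 : Led Lsl_gt (LP (LK LD1_c11 LD2_c42 LD3_c3)) = (LP (LK LD1_c9 LD2_c6 LD3_c46)) :=
  Lgr Lrot5 (Lpr_ft (f428169 IH) (Lpr_at (f428168 IH) (Lpr_gf (K40.f563133 IH) (Lpn (LP (LK LD1_c9 LD2_c6 LD3_c46))))))
theorem f548616 : Led Lsl_dt (LP (LK LD1_c9 LD2_c6 LD3_c46)) = (LP (LK LD1_c16 LD2_c58 LD3_c52)) :=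
  Lre_d IH (LK LD1_c9 LD2_c6 LD3_c46) (LK LD1_c16 LD2_c58 LD3_c52) Lrfl Lrfl
theorem f494374 : Led Lsl_gt (LP (LK LD1_c4 LD2_c35 LD3_c0)) = (LP (LK LD1_c9 LD2_c6 LD3_c47)) :=
  Lre_g IH (LK LD1_c4 LD2_c35 LD3_c0) (LK LD1_c9 LD2_c6 LD3_c47) Lrfl Lrfl
theorem f595133 : Led Lsl_dt (LP (LK LD1_c9 LD2_c6 LD3_c47)) = (LP (LK LD1_c16 LD2_c58 LD3_c54)) :=
  Lre_d IH (LK LD1_c9 LD2_c6 LD3_c47) (LK LD1_c16 LD2_c58 LD3_c54) Lrfl Lrfl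
theorem f595142 : Led Lsl_cf (LP (LK LD1_c16 LD2_c58 LD3_c52)) = (LP (LK LD1_c16 LD2_c58 LD3_c54)) :=
  Lgr Lrot14 (Lpe (f548616 IH) (Lpe (f563135 IH) (Lpr_df (f428182 IH) (Lpr_gf (f595136 IH) (Lpr_ct (f592754 IH) (Lpr_gt (f396378 IH) (Lpr_dt (f20385 IH) (Lpr_gt (f494374 IH) (Lpr_dt (f595133 IH) (Lpn (LP (LK LD1_c16 LD2_c58 LD3_c54))))))))))))
theorem f548617 : Led Lsl_dt (LP (LK LD1_c16 LD2_c58 LD3_c52)) = (LP (LK LD1_c9 LD2_c6 LD3_c46)) :=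
  Lre_d IH (LK LD1_c16 LD2_c58 LD3_c52) (LK LD1_c9 LD2_c6 LD3_c46) Lrfl Lrfl
theorem f494356 : Led Lsl_ct (LP (LK LD1_c9 LD2_c6 LD3_c46)) = (LP (LK LD1_c4 LD2_c34 LD3_c61)) :=
  Lre_c IH (LK LD1_c9 LD2_c6 LD3_c46) (LK LD1_c4 LD2_c34 LD3_c61) Lrfl Lrfl
theorem f558875 : Led Lsl_dt (LP (LK LD1_c5 LD2_c58 LD3_c48)) = (LP (LK LD1_c6 LD2_c16 LD3_c22)) :=
  Lgr Lrot42 (Lpr_df (K40.f558871 IH) (Lpn (LP (LK LD1_c6 LD2_c16 LD3_c22))))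
theorem f577778 : Led Lsl_df (LP (LK LD1_c5 LD2_c38 LD3_c6)) = (LP (LK LD1_c4 LD2_c34 LD3_c61)) :=
  Lgr Lrot174 (Lpr_ct (K43.f577771 IH) (Lpe (f558875 IH) (Lpr_gf (K40.f539589 IH) (Lpe (K40.f539585 IH) (Lpe (K38.f539944 IH) (Lpqs (K38.f539956 IH) (Lpe (K2.f72281 IH) (Lpqs (K36.f539953 IH) (Lpqs (K37.f539943 IH) (Lpe (K37.f501209 IH) (Lpr_dt (K38.f22438 IH) (Lpe (K40.f548614 IH) (Lpn (LP (LK LD1_c4 LD2_c34 LD3_c61)))))))))))))))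
theorem f577728 : Led Lsl_at (LP (LK LD1_c5 LD2_c58 LD3_c48)) = (LP (LK LD1_c11 LD2_c8 LD3_c3)) :=
  Lgr Lrot51 (Lpr_df (K40.f558871 IH) (Lpr_af (K43.f577722 IH) (Lpe (f422733 IH) (Lpn (LP (LK LD1_c11 LD2_c8 LD3_c3))))))
theorem f592705 : Led Lsl_at (LP (LK LD1_c16 LD2_c58 LD3_c7)) = (LP (LK LD1_c9 LD2_c6 LD3_c48)) :=
  Lgr Lrot107 (Lpe (K42.f568586 IH) (Lpe (f577728 IH) (Lpr_cf (f592701 IH) (Lpn (LP (LK LD1_c9 LD2_c6 LD3_c48))))))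
theorem f595149 : Led Lsl_ff (LP (LK LD1_c16 LD2_c58 LD3_c7)) = (LP (LK LD1_c9 LD2_c6 LD3_c47)) :=
  Lgr Lrot103 (Lpr_at (f592705 IH) (Lpr_cf (f563716 IH) (Lpr_df (K40.f558871 IH) (Lpe (K43.f577771 IH) (Lpr_df (f577778 IH) (Lpe (f494356 IH) (Lpe (f548617 IH) (Lpr_cf (f595142 IH) (Lpe (f595133 IH) (Lpn (LP (LK LD1_c9 LD2_c6 LD3_c47))))))))))))
theorem f595161 : Led Lsl_gf (LP (LK LD1_c6 LD2_c4 LD3_c2)) = (LP (LK LD1_c9 LD2_c6 LD3_c47)) :=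
  Lgr Lrot47 (Lpe (f592752 IH) (Lpe (f592705 IH) (Lpr_ff (f595149 IH) (Lpn (LP (LK LD1_c9 LD2_c6 LD3_c47))))))
theorem f334921 : Led Lsl_bt (LP (LK LD1_c2 LD2_c58 LD3_c6)) = (LP (LK LD1_c1 LD2_c24 LD3_c44)) :=
  Lre_b IH (LK LD1_c2 LD2_c58 LD3_c6) (LK LD1_c1 LD2_c24 LD3_c44) Lrfl Lrfl
theorem f452787 : Led Lsl_ct (LP (LK LD1_c2 LD2_c52 LD3_c35)) = (LP (LK LD1_c5 LD2_c52 LD3_c39)) :=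
  Lre_c IH (LK LD1_c2 LD2_c52 LD3_c35) (LK LD1_c5 LD2_c52 LD3_c39) Lrfl Lrfl
theorem f563041 : Led Lsl_dt (LP (LK LD1_c5 LD2_c52 LD3_c41)) = (LP (LK LD1_c5 LD2_c49 LD3_c58)) :=
  Lgr Lrot42 (Lpr_df (K40.f563029 IH) (Lpn (LP (LK LD1_c5 LD2_c49 LD3_c58))))
theorem f563110 : Led Lsl_dt (LP (LK LD1_c5 LD2_c52 LD3_c40)) = (LP (LK LD1_c9 LD2_c14 LD3_c7)) :=
  Lgr Lrot173 (Lpr_cf (K40.f563083 IH) (Lpr_df (K10.f185966 IH) (Lpe (K9.f24452 IH) (Lpe (K9.f176815 IH) (Lpe (K11.f176817 IH) (Lpe (K11.f176818 IH) (Lpe (K11.f176819 IH) (Lpe (f563041 IH) (Lpr_cf (K40.f563047 IH) (Lpe (K10.f26668 IH) (Lpe (K12.f26666 IH) (Lpe (K9.f26632 IH) (Lpe (K10.f26654 IH) (Lpr_df (K10.f176709 IH) (Lpe (K10.f176700 IH) (Lpn (LP (LK LD1_c9 LD2_c14 LD3_c7))))))))))))))))))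
theorem f501227 : Led Lsl_dt (LP (LK LD1_c2 LD2_c45 LD3_c11)) = K40.v1742 :=
  Lgr Lrot57 (Lpe (K35.f211744 IH) (Lpe (K10.f26691 IH) (Lpr_gt (K9.f176810 IH) (Lpe (K10.f176820 IH) (Lpr_gt (K10.f176836 IH) (Lpr_dt (K9.f9399 IH) (Lpe (K9.f9422 IH) (Lpe (K35.f22442 IH) (Lpr_gf (K40.f501224 IH) (Lpn K40.v1742))))))))))
theorem f563025 : Led Lsl_df (LP (LK LD1_c5 LD2_c49 LD3_c20)) = (LP (LK LD1_c5 LD2_c52 LD3_c39)) :=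
  Lgr Lrot43 (Lpr_ct (K10.f176606 IH) (Lpr_dt (K10.f176590 IH) (Lpe (K10.f176600 IH) (Lpr_dt (K10.f25954 IH) (Lpr_ct (K12.f211724 IH) (Lpr_dt (f501227 IH) (Lpqs (K40.f537736 IH) (Lpr_ct (K40.f452789 IH) (Lpr_dt (K40.f563019 IH) (Lpe (K10.f176722 IH) (Lpr_dt (K10.f26698 IH) (Lpr_ct (K10.f186021 IH) (Lpr_dt (K10.f59133 IH) (Lpr_ct (K16.f172128 IH) (Lpr_dt (K41.f501217 IH) (Lpqs (K41.f537748 IH) (Lpr_ct (f452787 IH) (Lpn (LP (LK LD1_c5 LD2_c52 LD3_c39))))))))))))))))))))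
theorem f563116 : Led Lsl_gf (LP (LK LD1_c4 LD2_c39 LD3_c18)) = (LP (LK LD1_c5 LD2_c52 LD3_c39)) :=
  Lgr Lrot147 (Lpr_ct (K15.f176065 IH) (Lpr_gt (K10.f176705 IH) (Lpr_ct (K10.f176703 IH) (Lpe (f563110 IH) (Lpr_cf (K40.f563083 IH) (Lpr_gf (K12.f185969 IH) (Lpe (K10.f175572 IH) (Lpr_gf (K10.f176603 IH) (Lpr_df (f563025 IH) (Lpn (LP (LK LD1_c5 LD2_c52 LD3_c39))))))))))))
theorem f176083 : Led Lsl_gt (LP (LK LD1_c4 LD2_c39 LD3_c17)) = (LP (LK LD1_c9 LD2_c14 LD3_c11)) :=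
  Lre_g IH (LK LD1_c4 LD2_c39 LD3_c17) (LK LD1_c9 LD2_c14 LD3_c11) Lrfl Lrfl
theorem f595147 : Led Lsl_ct (LP (LK LD1_c5 LD2_c58 LD3_c47)) = (LP (LK LD1_c9 LD2_c6 LD3_c47)) :=
  Lgr Lrot176 (Lpe (f573411 IH) (Lpe (K43.f380357 IH) (Lpe (f592722 IH) (Lpe (f539947 IH) (Lpe (f539948 IH) (Lpr_cf (f592714 IH) (Lpe (f577775 IH) (Lpr_cf (f563716 IH) (Lpr_df (K40.f558871 IH) (Lpe (K43.f577771 IH) (Lpr_df (f577778 IH) (Lpe (f494356 IH) (Lpe (f548617 IH) (Lpr_cf (f595142 IH) (Lpe (f595133 IH) (Lpn (LP (LK LD1_c9 LD2_c6 LD3_c47))))))))))))))))))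
theorem f595172 : Led Lsl_bf (LP (LK LD1_c9 LD2_c14 LD3_c11)) = (LP (LK LD1_c5 LD2_c58 LD3_c47)) :=
  Lgr Lrot34 (Lpe (f176083 IH) (Lpe (K35.f176082 IH) (Lpr_ct (K10.f176062 IH) (Lpr_gf (f563116 IH) (Lpe (f452787 IH) (Lpq (K41.f537748 IH) (Lpe (K41.f501214 IH) (Lpe (f334921 IH) (Lpr_ct (f422800 IH) (Lpr_gf (f595161 IH) (Lpe (f595147 IH) (Lpn (LP (LK LD1_c5 LD2_c58 LD3_c47))))))))))))))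
theorem f563094 : Led Lsl_ct (LP (LK LD1_c9 LD2_c10 LD3_c54)) = (LP (LK LD1_c9 LD2_c6 LD3_c45)) :=
  Lgr Lrot59 (Lpr_cf (K44.f563087 IH) (Lpn (LP (LK LD1_c9 LD2_c6 LD3_c45))))
theorem f577526 : Led Lsl_gt (LP (LK LD1_c16 LD2_c23 LD3_c49)) = (LP (LK LD1_c8 LD2_c45 LD3_c53)) :=
  Lgr Lrot180 (Lpr_ct (K42.f547441 IH) (Lpr_gt (K42.f546396 IH) (Lpe (K42.f538132 IH) (Lpr_gt (K42.f80218 IH) (Lpr_dt (K44.f494476 IH) (Lpr_ct (K35.f494478 IH) (Lpe (K43.f494477 IH) (Lpe (K43.f80119 IH) (Lpr_df (K43.f577518 IH) (Lpn (LP (LK LD1_c8 LD2_c45 LD3_c53))))))))))))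
theorem f572665 : Led Lsl_af (LP (LK LD1_c8 LD2_c51 LD3_c56)) = (LP (LK LD1_c11 LD2_c8 LD3_c26)) :=
  Lgr Lrot50 (Lpr_et (K37.f542881 IH) (Lpr_at (K36.f542807 IH) (Lpr_et (K42.f572663 IH) (Lpn (LP (LK LD1_c11 LD2_c8 LD3_c26))))))
theorem f577790 : Led Lsl_ft (LP (LK LD1_c16 LD2_c23 LD3_c49)) = (LP (LK LD1_c11 LD2_c8 LD3_c26)) :=
  Lgr Lrot2 (Lpr_gt (f577526 IH) (Lpr_gt (K44.f577786 IH) (Lpr_af (f572665 IH) (Lpn (LP (LK LD1_c11 LD2_c8 LD3_c26))))))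
theorem f577800 : Led Lsl_cf (LP (LK LD1_c16 LD2_c23 LD3_c49)) = (LP (LK LD1_c9 LD2_c0 LD3_c7)) :=
  Lgr Lrot108 (Lpr_ft (f577790 IH) (Lpr_ct (K44.f210777 IH) (Lpr_ft (K42.f570242 IH) (Lpn (LP (LK LD1_c9 LD2_c0 LD3_c7))))))
theorem f538003 : Led Lsl_ft (LP (LK LD1_c2 LD2_c15 LD3_c61)) = (LP (LK LD1_c4 LD2_c37 LD3_c39)) :=
  Lre_f IH (LK LD1_c2 LD2_c15 LD3_c61) (LK LD1_c4 LD2_c37 LD3_c39) Lrfl Lrfl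
theorem f570283 : Led Lsl_af (LP (LK LD1_c9 LD2_c7 LD3_c2)) = (LP (LK LD1_c4 LD2_c37 LD3_c39)) :=
  Lgr Lrot0 (Lpr_at (K42.f570271 IH) (Lpn (LP (LK LD1_c4 LD2_c37 LD3_c39))))
theorem f571958 : Led Lsl_gf (LP (LK LD1_c9 LD2_c7 LD3_c2)) = (LP (LK LD1_c4 LD2_c36 LD3_c35)) :=
  Lgr Lrot76 (Lpr_af (f570283 IH) (Lpe (f538003 IH) (Lpq (K35.f537995 IH) (Lpr_gt (K42.f571954 IH) (Lpn (LP (LK LD1_c4 LD2_c36 LD3_c35)))))))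
theorem f26719 : Led Lsl_ct (LP (LK LD1_c9 LD2_c7 LD3_c2)) = (LP (LK LD1_c16 LD2_c59 LD3_c12)) :=
  Lre_c IH (LK LD1_c9 LD2_c7 LD3_c2) (LK LD1_c16 LD2_c59 LD3_c12) Lrfl Lrfl
theorem f594816 : Led Lsl_gf (LP (LK LD1_c9 LD2_c10 LD3_c54)) = (LP (LK LD1_c16 LD2_c59 LD3_c12)) :=
  Lgr Lrot104 (Lpr_ct (f563094 IH) (Lpr_df (f594804 IH) (Lpr_cf (f577773 IH) (Lpe (f577526 IH) (Lpr_cf (f577800 IH) (Lpe (K42.f572577 IH) (Lpe (K42.f175497 IH) (Lpe (f571958 IH) (Lpr_ct (f26719 IH) (Lpn (LP (LK LD1_c16 LD2_c59 LD3_c12))))))))))))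
theorem f570287 : Led Lsl_ct (LP (LK LD1_c16 LD2_c59 LD3_c12)) = (LP (LK LD1_c9 LD2_c7 LD3_c2)) :=
  Lre_c IH (LK LD1_c16 LD2_c59 LD3_c12) (LK LD1_c9 LD2_c7 LD3_c2) Lrfl Lrfl
theorem f580555 : Led Lsl_gf (LP (LK LD1_c16 LD2_c59 LD3_c12)) = (LP (LK LD1_c9 LD2_c10 LD3_c53)) :=
  Lgr Lrot104 (Lpr_ct (f570287 IH) (Lpe (K42.f26718 IH) (Lpr_cf (K38.f541483 IH) (Lpe (K35.f137667 IH) (Lpr_cf (K6.f137826 IH) (Lpe (K43.f565098 IH) (Lpe (K42.f565103 IH) (Lpr_gt (K44.f580551 IH) (Lpr_ct (K44.f563498 IH) (Lpn (LP (LK LD1_c9 LD2_c10 LD3_c53))))))))))))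
theorem f580557 : Led Lsl_bf (LP (LK LD1_c5 LD2_c53 LD3_c38)) = (LP (LK LD1_c9 LD2_c7 LD3_c2)) :=
  Lgr Lrot156 (Lpe (K36.f202628 IH) (Lpr_bf (K42.f569100 IH) (Lpr_ct (K42.f202290 IH) (Lpe (f565427 IH) (Lpe (f101561 IH) (Lpr_bt (K42.f569109 IH) (Lpr_gt (K44.f580551 IH) (Lpr_ct (K44.f563498 IH) (Lpe (f580555 IH) (Lpe (f26719 IH) (Lpn (LP (LK LD1_c9 LD2_c7 LD3_c2)))))))))))))
theorem f595183 : Led Lsl_gt (LP (LK LD1_c9 LD2_c14 LD3_c11)) = (LP (LK LD1_c5 LD2_c53 LD3_c38)) :=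
  Lgr Lrot164 (Lpr_bf (f595172 IH) (Lpr_ct (f595147 IH) (Lpe (f494374 IH) (Lpe (f20381 IH) (Lpe (K40.f20390 IH) (Lpe (K44.f20396 IH) (Lpe (K44.f563087 IH) (Lpr_gf (f594816 IH) (Lpe (f26719 IH) (Lpe (f580557 IH) (Lpn (LP (LK LD1_c5 LD2_c53 LD3_c38)))))))))))))
theorem f595187 : Led Lsl_df (LP (LK LD1_c9 LD2_c14 LD3_c11)) = (LP (LK LD1_c9 LD2_c51 LD3_c21)) :=
  Lgr Lrot135 (Lpr_gt (f595183 IH) (Lpe (K36.f72392 IH) (Lpqs (K36.f539982 IH) (Lpe (K35.f501202 IH) (Lpe (K44.f544450 IH) (Lpqs (K41.f567063 IH) (Lpe (K41.f500457 IH) (Lpr_dt (K41.f71115 IH) (Lpr_gt (K41.f566886 IH) (Lpe (K39.f186186 IH) (Lpr_et (K39.f185135 IH) (Lpr_gt (f175709 IH) (Lpn (LP (LK LD1_c9 LD2_c51 LD3_c21)))))))))))))))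
theorem f171707 : Led Lsl_dt (LP (LK LD1_c2 LD2_c53 LD3_c49)) = (LP (LK LD1_c5 LD2_c54 LD3_c58)) :=
  Lre_d IH (LK LD1_c2 LD2_c53 LD3_c49) (LK LD1_c5 LD2_c54 LD3_c58) Lrfl Lrfl
theorem f595189 : Led Lsl_gf (LP (LK LD1_c4 LD2_c5 LD3_c44)) = (LP (LK LD1_c5 LD2_c54 LD3_c58)) :=
  Lgr Lrot134 (Lpe (K39.f182433 IH) (Lpr_et (K30.f182436 IH) (Lpr_gt (f578973 IH) (Lpe (f570164 IH) (Lpe (f595187 IH) (Lpr_gt (f595183 IH) (Lpe (K36.f72392 IH) (Lpqs (K36.f539982 IH) (Lpe (K35.f501202 IH) (Lpe (K44.f544450 IH) (Lpr_dt (f171707 IH) (Lpn (LP (LK LD1_c5 LD2_c54 LD3_c58))))))))))))))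
theorem f595195 : Led Lsl_dt (LP (LK LD1_c6 LD2_c16 LD3_c27)) = (LP (LK LD1_c4 LD2_c36 LD3_c25)) :=
  Lgr Lrot171 (Lpe (f578973 IH) (Lpe (K30.f182436 IH) (Lpr_dt (K39.f182433 IH) (Lpr_gf (f595189 IH) (Lpe (f171707 IH) (Lpqs (K41.f567063 IH) (Lpe (K41.f500459 IH) (Lpe (K37.f71114 IH) (Lpe (K2.f71083 IH) (Lpr_dt (K37.f71108 IH) (Lpe (K38.f71113 IH) (Lpn (LP (LK LD1_c4 LD2_c36 LD3_c25))))))))))))))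
theorem f595208 : Led Lsl_et (LP (LK LD1_c6 LD2_c16 LD3_c27)) = (LP (LK LD1_c9 LD2_c51 LD3_c21)) :=
  Lgr Lrot122 (Lpr_dt (f595195 IH) (Lpr_gt (K38.f71113 IH) (Lpe (K37.f71108 IH) (Lpr_et (K2.f71083 IH) (Lpr_gt (K37.f71114 IH) (Lpr_dt (K41.f71115 IH) (Lpr_gt (K41.f566886 IH) (Lpe (K39.f186186 IH) (Lpr_et (K39.f185135 IH) (Lpr_gt (f175709 IH) (Lpn (LP (LK LD1_c9 LD2_c51 LD3_c21)))))))))))))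
theorem f112376 : Led Lsl_dt (LP (LK LD1_c1 LD2_c4 LD3_c45)) = (LP (LK LD1_c2 LD2_c15 LD3_c22)) :=
  Lre_d IH (LK LD1_c1 LD2_c4 LD3_c45) (LK LD1_c2 LD2_c15 LD3_c22) Lrfl Lrfl
theorem f595214 : Led Lsl_gf (LP (LK LD1_c6 LD2_c15 LD3_c51)) = (LP (LK LD1_c9 LD2_c51 LD3_c21)) :=
  Lgr Lrot141 (Lpe (K39.f112373 IH) (Lpr_dt (K38.f547457 IH) (Lpr_gt (K38.f547481 IH) (Lpe (K38.f174562 IH) (Lpe (K38.f547484 IH) (Lpr_gt (K38.f112370 IH) (Lpr_dt (f112376 IH) (Lpr_gt (K38.f112377 IH) (Lpe (f595195 IH) (Lpr_et (f595208 IH) (Lpn (LP (LK LD1_c9 LD2_c51 LD3_c21)))))))))))))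
theorem f571287 : Led Lsl_cf (LP (LK LD1_c6 LD2_c15 LD3_c51)) = (LP (LK LD1_c12 LD2_c7 LD3_c19)) :=
  Lgr Lrot166 (Lpe (K42.f569122 IH) (Lpr_dt (K36.f202627 IH) (Lpr_gt (K36.f539970 IH) (Lpr_dt (K42.f268302 IH) (Lpr_ct (K37.f176798 IH) (Lpe (K41.f411341 IH) (Lpr_gf (K42.f571275 IH) (Lpr_df (K42.f564249 IH) (Lpe (K41.f566862 IH) (Lpn (LP (LK LD1_c12 LD2_c7 LD3_c19))))))))))))
theorem f410700 : Led Lsl_ff (LP (LK LD1_c5 LD2_c46 LD3_c37)) = (LP (LK LD1_c5 LD2_c0 LD3_c30)) :=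
  Lgr Lrot19 (Lpr_dt (K11.f69367 IH) (Lpr_ft (K37.f410696 IH) (Lpr_dt (K12.f198006 IH) (Lpn (LP (LK LD1_c5 LD2_c0 LD3_c30))))))
theorem f566832 : Led Lsl_bf (LP (LK LD1_c11 LD2_c6 LD3_c48)) = (LP (LK LD1_c5 LD2_c46 LD3_c37)) :=
  Lgr Lrot61 (Lpr_ft (K41.f566830 IH) (Lpr_bt (K38.f175711 IH) (Lpe (f410700 IH) (Lpn (LP (LK LD1_c5 LD2_c46 LD3_c37))))))
theorem f566866 : Led Lsl_af (LP (LK LD1_c12 LD2_c7 LD3_c19)) = (LP (LK LD1_c11 LD2_c6 LD3_c48)) :=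
  Lgr Lrot31 (Lpr_gf (K41.f566864 IH) (Lpe (K41.f562538 IH) (Lpe (K41.f566836 IH) (Lpn (LP (LK LD1_c11 LD2_c6 LD3_c48))))))
theorem f573660 : Led Lsl_bt (LP (LK LD1_c12 LD2_c7 LD3_c19)) = (LP (LK LD1_c7 LD2_c8 LD3_c18)) :=
  Lgr Lrot62 (Lpr_af (f566866 IH) (Lpr_bf (f566832 IH) (Lpr_af (K43.f410688 IH) (Lpr_bf (K43.f569871 IH) (Lpr_af (K43.f573655 IH) (Lpn (LP (LK LD1_c7 LD2_c8 LD3_c18))))))))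
theorem f227844 : Led Lsl_bt (LP (LK LD1_c6 LD2_c15 LD3_c10)) = (LP (LK LD1_c3 LD2_c4 LD3_c37)) :=
  Lre_b IH (LK LD1_c6 LD2_c15 LD3_c10) (LK LD1_c3 LD2_c4 LD3_c37) Lrfl Lrfl
theorem f196246 : Led Lsl_bt (LP (LK LD1_c3 LD2_c4 LD3_c37)) = (LP (LK LD1_c6 LD2_c15 LD3_c10)) :=
  Lre_b IH (LK LD1_c3 LD2_c4 LD3_c37) (LK LD1_c6 LD2_c15 LD3_c10) Lrfl Lrfl
theorem f227845 : Led Lsl_ct (LP (LK LD1_c6 LD2_c15 LD3_c10)) = (LP (LK LD1_c6 LD2_c15 LD3_c10)) :=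
  Lgr Lrot83 (Lpe (f196246 IH) (Lpe (K12.f196244 IH) (Lpr_bf (K12.f227842 IH) (Lpe (K12.f196243 IH) (Lpe (f227844 IH) (Lpn (LP (LK LD1_c6 LD2_c15 LD3_c10))))))))
theorem f571190 : Led Lsl_ct (LP (LK LD1_c13 LD2_c31 LD3_c9)) = (LP (LK LD1_c12 LD2_c8 LD3_c35)) :=
  Lgr Lrot91 (Lpe (K42.f98383 IH) (Lpe (K42.f6521 IH) (Lpr_ct (K44.f98179 IH) (Lpr_gf (K42.f98313 IH) (Lpr_cf (K42.f571180 IH) (Lpr_bt (K42.f241832 IH) (Lpr_gf (K13.f241826 IH) (Lpe (f227844 IH) (Lpr_ct (f227845 IH) (Lpe (K44.f196247 IH) (Lpn (LP (LK LD1_c12 LD2_c8 LD3_c35)))))))))))))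
theorem f570899 : Led Lsl_bt (LP (LK LD1_c13 LD2_c31 LD3_c9)) = (LP (LK LD1_c11 LD2_c23 LD3_c10)) :=
  Lgr Lrot95 (Lpe (f98226 IH) (Lpr_bf (K42.f570892 IH) (Lpe (f99757 IH) (Lpn (LP (LK LD1_c11 LD2_c23 LD3_c10))))))
theorem f593151 : Led Lsl_ff (LP (LK LD1_c13 LD2_c31 LD3_c9)) = (LP (LK LD1_c13 LD2_c27 LD3_c57)) :=
  Lgr Lrot25 (Lpr_bt (f570899 IH) (Lpr_ft (f593149 IH) (Lpr_bt (K43.f575053 IH) (Lpn (LP (LK LD1_c13 LD2_c27 LD3_c57))))))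
theorem f593465 : Led Lsl_ct (LP (LK LD1_c15 LD2_c13 LD3_c21)) = (LP (LK LD1_c13 LD2_c27 LD3_c57)) :=
  Lgr Lrot40 (Lpr_ff (f593461 IH) (Lpe (f571190 IH) (Lpr_ff (f593151 IH) (Lpn (LP (LK LD1_c13 LD2_c27 LD3_c57))))))
theorem f565323 : Led Lsl_bt (LP (LK LD1_c4 LD2_c5 LD3_c57)) = (LP (LK LD1_c8 LD2_c12 LD3_c28)) :=
  Lre_b IH (LK LD1_c4 LD2_c5 LD3_c57) (LK LD1_c8 LD2_c12 LD3_c28) Lrfl Lrfl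
theorem f565269 : Led Lsl_ct (LP (LK LD1_c8 LD2_c12 LD3_c30)) = (LP (LK LD1_c4 LD2_c5 LD3_c57)) :=
  Lre_c IH (LK LD1_c8 LD2_c12 LD3_c30) (LK LD1_c4 LD2_c5 LD3_c57) Lrfl Lrfl
theorem f593477 : Led Lsl_bt (LP (LK LD1_c15 LD2_c13 LD3_c21)) = (LP (LK LD1_c8 LD2_c12 LD3_c30)) :=
  Lgr Lrot128 (Lpr_cf (f593472 IH) (Lpe (K43.f575053 IH) (Lpr_cf (K43.f572939 IH) (Lpe (f565323 IH) (Lpe (f565269 IH) (Lpn (LP (LK LD1_c8 LD2_c12 LD3_c30))))))))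
theorem f565266 : Led Lsl_gt (LP (LK LD1_c8 LD2_c12 LD3_c30)) = (LP (LK LD1_c15 LD2_c26 LD3_c35)) :=
  Lre_g IH (LK LD1_c8 LD2_c12 LD3_c30) (LK LD1_c15 LD2_c26 LD3_c35) Lrfl Lrfl
theorem f595216 : Led Lsl_ct (LP (LK LD1_c15 LD2_c26 LD3_c35)) = (LP (LK LD1_c9 LD2_c51 LD3_c21)) :=
  Lgr Lrot91 (Lpe (f565266 IH) (Lpe (f593477 IH) (Lpr_ct (f593465 IH) (Lpe (K43.f10630 IH) (Lpe (K42.f98331 IH) (Lpr_bt (K36.f6545 IH) (Lpe (K41.f6554 IH) (Lpe (f573660 IH) (Lpe (f571287 IH) (Lpr_gf (f595214 IH) (Lpn (LP (LK LD1_c9 LD2_c51 LD3_c21)))))))))))))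
theorem f410718 : Led Lsl_ff (LP (LK LD1_c5 LD2_c12 LD3_c57)) = (LP (LK LD1_c6 LD2_c14 LD3_c5)) :=
  Lgr Lrot19 (Lpe (K13.f241039 IH) (Lpr_ft (K37.f410714 IH) (Lpr_dt (K13.f197920 IH) (Lpn (LP (LK LD1_c6 LD2_c14 LD3_c5))))))
theorem f410710 : Led Lsl_at (LP (LK LD1_c5 LD2_c12 LD3_c57)) = (LP (LK LD1_c5 LD2_c0 LD3_c30)) :=
  Lgr Lrot51 (Lpe (K13.f241042 IH) (Lpr_af (K37.f410704 IH) (Lpr_df (K12.f198010 IH) (Lpn (LP (LK LD1_c5 LD2_c0 LD3_c30))))))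
theorem f410887 : Led Lsl_gf (LP (LK LD1_c5 LD2_c0 LD3_c30)) = (LP (LK LD1_c3 LD2_c4 LD3_c28)) :=
  Lgr Lrot76 (Lpe (f410710 IH) (Lpr_ff (f410718 IH) (Lpe (K13.f241259 IH) (Lpn (LP (LK LD1_c3 LD2_c4 LD3_c28))))))
theorem f595230 : Led Lsl_bt (LP (LK LD1_c15 LD2_c26 LD3_c35)) = (LP (LK LD1_c8 LD2_c42 LD3_c61)) :=
  Lgr Lrot130 (Lpr_ct (f595216 IH) (Lpe (f175709 IH) (Lpe (K39.f175710 IH) (Lpr_bt (K38.f175711 IH) (Lpr_gf (f410887 IH) (Lpe (K40.f410889 IH) (Lpr_ct (K40.f418038 IH) (Lpr_gf (f563535 IH) (Lpr_cf (K30.f173296 IH) (Lpe (K41.f173308 IH) (Lpn (LP (LK LD1_c8 LD2_c42 LD3_c61)))))))))))))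
def v1825 : LQ := Led Lsl_ft (LP (LK LD1_c1 LD2_c28 LD3_c40))
theorem f503144 : Led Lsl_ft (LP (LK LD1_c1 LD2_c28 LD3_c40)) = v1825 :=
  Lrfl
theorem f503147 : Led Lsl_ff (LP (LK LD1_c1 LD2_c28 LD3_c40)) = v1825 :=
  Lgr Lrot3 (Lpr_ft (f503144 IH) (Lpn v1825))
theorem f496061 : Led Lsl_bt (LP (LK LD1_c1 LD2_c28 LD3_c40)) = (LP (LK LD1_c3 LD2_c5 LD3_c16)) :=
  Lre_b IH (LK LD1_c1 LD2_c28 LD3_c40) (LK LD1_c3 LD2_c5 LD3_c16) Lrfl Lrfl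
theorem f571752 : (LP (LK LD1_c3 LD2_c5 LD3_c13)) = v1825 :=
  (Llr Lrot35 (Lpr_bf (K40.f536148 IH) (Lpqs (K40.f537847 IH) (Lpr_ff (K42.f571746 IH) (Lpe (f496061 IH) (Lpr_ff (f503147 IH) (Lpn v1825))))))).symm
theorem f595212 : Led Lsl_ff (LP (LK LD1_c6 LD2_c16 LD3_c17)) = (LP (LK LD1_c9 LD2_c51 LD3_c21)) :=
  Lgr Lrot72 (Lpr_et (K35.f202232 IH) (Lpqs (f571752 IH) (Lpe (f503147 IH) (Lpr_et (K39.f503135 IH) (Lpr_ft (f503150 IH) (Lpr_et (f595208 IH) (Lpn (LP (LK LD1_c9 LD2_c51 LD3_c21)))))))))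
theorem f595226 : Led Lsl_ff (LP (LK LD1_c15 LD2_c26 LD3_c35)) = (LP (LK LD1_c12 LD2_c9 LD3_c54)) :=
  Lgr Lrot23 (Lpr_ct (f595216 IH) (Lpe (f595212 IH) (Lpr_ct (K43.f538279 IH) (Lpn (LP (LK LD1_c12 LD2_c9 LD3_c54))))))
theorem f595232 : Led Lsl_ff (LP (LK LD1_c11 LD2_c8 LD3_c1)) = (LP (LK LD1_c8 LD2_c42 LD3_c61)) :=
  Lgr Lrot25 (Lpr_bt (K43.f563626 IH) (Lpe (f595226 IH) (Lpr_bt (f595230 IH) (Lpn (LP (LK LD1_c8 LD2_c42 LD3_c61))))))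
theorem f547066 : Led Lsl_gt (LP (LK LD1_c5 LD2_c49 LD3_c39)) = (LP (LK LD1_c6 LD2_c55 LD3_c55)) :=
  Lgr Lrot150 (Lpr_cf (K38.f547056 IH) (Lpr_gf (K42.f155646 IH) (Lpr_df (K5.f104058 IH) (Lpr_gt (K42.f419845 IH) (Lpr_ct (K32.f419812 IH) (Lpe (K39.f502114 IH) (Lpr_ct (K40.f501578 IH) (Lpr_df (K36.f428975 IH) (Lpe (K3.f89696 IH) (Lpn (LP (LK LD1_c6 LD2_c55 LD3_c55))))))))))))
theorem f587120 : Led Lsl_gf (LP (LK LD1_c5 LD2_c48 LD3_c12)) = (LP (LK LD1_c6 LD2_c4 LD3_c14)) :=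
  Lgr Lrot144 (Lpr_dt (K43.f562669 IH) (Lpe (K42.f568968 IH) (Lpe (K44.f582399 IH) (Lpr_cf (f587116 IH) (Lpe (f582549 IH) (Lpe (f547066 IH) (Lpe (K37.f449967 IH) (Lpr_gf (K38.f548765 IH) (Lpr_cf (K38.f425837 IH) (Lpn (LP (LK LD1_c6 LD2_c4 LD3_c14))))))))))))
theorem f587122 : Led Lsl_bt (LP (LK LD1_c4 LD2_c24 LD3_c2)) = (LP (LK LD1_c3 LD2_c5 LD3_c17)) :=
  Lgr Lrot130 (Lpe (K43.f577534 IH) (Lpr_gf (f587120 IH) (Lpe (K38.f161557 IH) (Lpr_bt (K43.f575109 IH) (Lpe (K42.f572007 IH) (Lpr_bf (K43.f272491 IH) (Lpe (K41.f564283 IH) (Lpr_gf (K38.f496174 IH) (Lpq (K38.f548944 IH) (Lpe (K40.f421287 IH) (Lpr_gf (K41.f558848 IH) (Lpn (LP (LK LD1_c3 LD2_c5 LD3_c17))))))))))))))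
theorem f559161 : Led Lsl_ft (LP (LK LD1_c3 LD2_c5 LD3_c17)) = (LP (LK LD1_c6 LD2_c16 LD3_c15)) :=
  Lgr Lrot54 (Lpr_df (K41.f559153 IH) (Lpr_ff (K3.f88508 IH) (Lpe (K40.f558747 IH) (Lpn (LP (LK LD1_c6 LD2_c16 LD3_c15))))))
theorem f587124 : Led Lsl_ff (LP (LK LD1_c4 LD2_c24 LD3_c2)) = (LP (LK LD1_c5 LD2_c48 LD3_c39)) :=
  Lgr Lrot25 (Lpr_bt (f587122 IH) (Lpr_ft (f559161 IH) (Lpe (K42.f563622 IH) (Lpn (LP (LK LD1_c5 LD2_c48 LD3_c39))))))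
theorem f595238 : Led Lsl_et (LP (LK LD1_c11 LD2_c8 LD3_c7)) = (LP (LK LD1_c8 LD2_c42 LD3_c61)) :=
  Lgr Lrot69 (Lpr_ff (K43.f577806 IH) (Lpe (K43.f577517 IH) (Lpr_ff (f587124 IH) (Lpr_ef (K41.f563600 IH) (Lpr_ff (f595232 IH) (Lpn (LP (LK LD1_c8 LD2_c42 LD3_c61))))))))
theorem f579009 : Led Lsl_et (LP (LK LD1_c11 LD2_c36 LD3_c52)) = (LP (LK LD1_c20 LD2_c35 LD3_c9)) :=
  Lre_e IH (LK LD1_c11 LD2_c36 LD3_c52) (LK LD1_c20 LD2_c35 LD3_c9) Lrfl Lrfl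
theorem f595242 : Led Lsl_df (LP (LK LD1_c26 LD2_c31 LD3_c52)) = (LP (LK LD1_c20 LD2_c35 LD3_c9)) :=
  Lgr Lrot70 (Lpr_et (K43.f570281 IH) (Lpe (K43.f570277 IH) (Lpr_et (f595238 IH) (Lpe (K43.f578977 IH) (Lpr_et (f579009 IH) (Lpn (LP (LK LD1_c20 LD2_c35 LD3_c9))))))))
theorem f595249 : Led Lsl_ft (LP (LK LD1_c29 LD2_c31 LD3_c12)) = (LP (LK LD1_c20 LD2_c35 LD3_c9)) :=
  Lre_f IH (LK LD1_c29 LD2_c31 LD3_c12) (LK LD1_c20 LD2_c35 LD3_c9) Lrfl Lrfl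
theorem f595250 : Led Lsl_dt (LP (LK LD1_c30 LD2_c43 LD3_c39)) = (LP (LK LD1_c29 LD2_c31 LD3_c12)) :=
  Lgr Lrot60 (Lpe (K43.f577821 IH) (Lpr_df (f595242 IH) (Lpe (f595249 IH) (Lpn (LP (LK LD1_c29 LD2_c31 LD3_c12))))))
theorem f595256 : Led Lsl_df (LP (LK LD1_c30 LD2_c43 LD3_c39)) = (LP (LK LD1_c29 LD2_c31 LD3_c12)) :=
  Lgr Lrot38 (Lpr_dt (f595250 IH) (Lpn (LP (LK LD1_c29 LD2_c31 LD3_c12))))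
theorem f577881 : Led Lsl_ft (LP (LK LD1_c20 LD2_c37 LD3_c7)) = (LP (LK LD1_c11 LD2_c38 LD3_c9)) :=
  Lre_f IH (LK LD1_c20 LD2_c37 LD3_c7) (LK LD1_c11 LD2_c38 LD3_c9) Lrfl Lrfl
theorem f577902 : Led Lsl_dt (LP (LK LD1_c22 LD2_c56 LD3_c37)) = (LP (LK LD1_c20 LD2_c37 LD3_c7)) :=
  Lgr Lrot60 (Lpr_ff (K43.f577840 IH) (Lpr_df (K43.f577896 IH) (Lpe (f577881 IH) (Lpn (LP (LK LD1_c20 LD2_c37 LD3_c7))))))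
theorem f595258 : Led Lsl_at (LP (LK LD1_c20 LD2_c37 LD3_c7)) = (LP (LK LD1_c29 LD2_c31 LD3_c12)) :=
  Lgr Lrot51 (Lpe (f577902 IH) (Lpe (K43.f478085 IH) (Lpr_df (f595256 IH) (Lpn (LP (LK LD1_c29 LD2_c31 LD3_c12))))))
theorem f577865 : Led Lsl_ft (LP (LK LD1_c11 LD2_c38 LD3_c9)) = (LP (LK LD1_c20 LD2_c37 LD3_c7)) :=
  Lre_f IH (LK LD1_c11 LD2_c38 LD3_c9) (LK LD1_c20 LD2_c37 LD3_c7) Lrfl Lrfl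
theorem f595260 : Led Lsl_af (LP (LK LD1_c11 LD2_c38 LD3_c9)) = (LP (LK LD1_c20 LD2_c35 LD3_c9)) :=
  Lgr Lrot45 (Lpr_ft (f577865 IH) (Lpr_at (f595258 IH) (Lpr_ft (f595249 IH) (Lpn (LP (LK LD1_c20 LD2_c35 LD3_c9))))))
theorem f577892 : Led Lsl_ct (LP (LK LD1_c11 LD2_c38 LD3_c9)) = (LP (LK LD1_c20 LD2_c37 LD3_c4)) :=
  Lre_c IH (LK LD1_c11 LD2_c38 LD3_c9) (LK LD1_c20 LD2_c37 LD3_c4) Lrfl Lrfl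
theorem f595246 : Led Lsl_ct (LP (LK LD1_c29 LD2_c31 LD3_c11)) = (LP (LK LD1_c20 LD2_c35 LD3_c9)) :=
  Lre_c IH (LK LD1_c29 LD2_c31 LD3_c11) (LK LD1_c20 LD2_c35 LD3_c9) Lrfl Lrfl
theorem f595264 : Led Lsl_at (LP (LK LD1_c20 LD2_c37 LD3_c4)) = (LP (LK LD1_c29 LD2_c31 LD3_c11)) :=
  Lgr Lrot107 (Lpe (f577892 IH) (Lpr_af (f595260 IH) (Lpe (f595246 IH) (Lpn (LP (LK LD1_c29 LD2_c31 LD3_c11))))))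
theorem f595270 : Led Lsl_et (LP (LK LD1_c11 LD2_c38 LD3_c7)) = (LP (LK LD1_c20 LD2_c37 LD3_c4)) :=
  Lre_e IH (LK LD1_c11 LD2_c38 LD3_c7) (LK LD1_c20 LD2_c37 LD3_c4) Lrfl Lrfl
theorem f581302 : Led Lsl_et (LP (LK LD1_c29 LD2_c31 LD3_c11)) = (LP (LK LD1_c20 LD2_c35 LD3_c8)) :=
  Lre_e IH (LK LD1_c29 LD2_c31 LD3_c11) (LK LD1_c20 LD2_c35 LD3_c8) Lrfl Lrfl
theorem f595271 : Led Lsl_af (LP (LK LD1_c11 LD2_c38 LD3_c7)) = (LP (LK LD1_c20 LD2_c35 LD3_c8)) :=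
  Lgr Lrot50 (Lpr_et (f595270 IH) (Lpr_at (f595264 IH) (Lpr_et (f581302 IH) (Lpn (LP (LK LD1_c20 LD2_c35 LD3_c8))))))
theorem f579546 : Led Lsl_ff (LP (LK LD1_c20 LD2_c35 LD3_c10)) = (LP (LK LD1_c11 LD2_c38 LD3_c7)) :=
  Lgr Lrot23 (Lpr_ct (f540541 IH) (Lpr_ft (K43.f579542 IH) (Lpr_ct (K40.f82157 IH) (Lpn (LP (LK LD1_c11 LD2_c38 LD3_c7))))))
theorem f579025 : Led Lsl_af (LP (LK LD1_c11 LD2_c38 LD3_c11)) = (LP (LK LD1_c20 LD2_c35 LD3_c10)) :=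
  Lgr Lrot68 (Lpr_ct (K40.f562833 IH) (Lpr_at (K43.f579020 IH) (Lpr_ct (f272708 IH) (Lpn (LP (LK LD1_c20 LD2_c35 LD3_c10))))))
theorem f595278 : Led Lsl_ft (LP (LK LD1_c11 LD2_c38 LD3_c11)) = (LP (LK LD1_c20 LD2_c35 LD3_c8)) :=
  Lgr Lrot101 (Lpr_af (f579025 IH) (Lpr_ff (f579546 IH) (Lpr_af (f595271 IH) (Lpn (LP (LK LD1_c20 LD2_c35 LD3_c8))))))
theorem f595282 : Led Lsl_ff (LP (LK LD1_c11 LD2_c38 LD3_c11)) = (LP (LK LD1_c20 LD2_c35 LD3_c8)) :=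
  Lgr Lrot3 (Lpr_ft (f595278 IH) (Lpn (LP (LK LD1_c20 LD2_c35 LD3_c8))))
theorem f595286 : Led Lsl_ft (LP (LK LD1_c20 LD2_c37 LD3_c10)) = (LP (LK LD1_c29 LD2_c31 LD3_c10)) :=
  Lgr Lrot54 (Lpe (K43.f563269 IH) (Lpr_ff (f595282 IH) (Lpe (f579012 IH) (Lpn (LP (LK LD1_c29 LD2_c31 LD3_c10))))))
theorem f545275 : Led Lsl_dt (LP (LK LD1_c20 LD2_c37 LD3_c3)) = (LP (LK LD1_c11 LD2_c38 LD3_c7)) :=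
  Lre_d IH (LK LD1_c20 LD2_c37 LD3_c3) (LK LD1_c11 LD2_c38 LD3_c7) Lrfl Lrfl
theorem f581372 : Led Lsl_gt (LP (LK LD1_c26 LD2_c27 LD3_c49)) = (LP (LK LD1_c20 LD2_c37 LD3_c3)) :=
  Lgr Lrot49 (Lpe (f559850 IH) (Lpr_gf (K44.f579504 IH) (Lpe (K40.f72292 IH) (Lpe (K44.f559942 IH) (Lpr_dt (K38.f193831 IH) (Lpr_gt (K44.f581358 IH) (Lpr_dt (K40.f112858 IH) (Lpe (K40.f562759 IH) (Lpe (f545275 IH) (Lpn (LP (LK LD1_c20 LD2_c37 LD3_c3))))))))))))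
theorem f595290 : Led Lsl_af (LP (LK LD1_c20 LD2_c37 LD3_c3)) = (LP (LK LD1_c29 LD2_c31 LD3_c10)) :=
  Lgr Lrot31 (Lpe (f581372 IH) (Lpe (f572935 IH) (Lpr_ft (f595286 IH) (Lpn (LP (LK LD1_c29 LD2_c31 LD3_c10))))))
theorem f545274 : Led Lsl_dt (LP (LK LD1_c11 LD2_c38 LD3_c7)) = (LP (LK LD1_c20 LD2_c37 LD3_c3)) :=
  Lre_d IH (LK LD1_c11 LD2_c38 LD3_c7) (LK LD1_c20 LD2_c37 LD3_c3) Lrfl Lrfl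
theorem f592820 : Led Lsl_ct (LP (LK LD1_c20 LD2_c37 LD3_c3)) = (LP (LK LD1_c11 LD2_c39 LD3_c40)) :=
  Lgr Lrot176 (Lpe (f545274 IH) (Lpe (K40.f82157 IH) (Lpe (K40.f112858 IH) (Lpe (K44.f579560 IH) (Lpe (f581395 IH) (Lpe (K43.f562819 IH) (Lpe (f563530 IH) (Lpe (f563360 IH) (Lpe (K43.f563269 IH) (Lpe (K41.f563266 IH) (Lpr_df (K41.f563593 IH) (Lpe (K41.f198562 IH) (Lpe (K44.f563591 IH) (Lpr_cf (f592808 IH) (Lpe (f592800 IH) (Lpn (LP (LK LD1_c11 LD2_c39 LD3_c40))))))))))))))))))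
theorem f581700 : Led Lsl_ct (LP (LK LD1_c20 LD2_c35 LD3_c37)) = (LP (LK LD1_c29 LD2_c31 LD3_c10)) :=
  Lgr Lrot7 (Lpe (f563568 IH) (Lpe (f71428 IH) (Lpe (f494415 IH) (Lpr_gf (f581694 IH) (Lpe (f581688 IH) (Lpe (K44.f579506 IH) (Lpr_dt (K44.f424978 IH) (Lpr_gt (f581298 IH) (Lpr_dt (f579006 IH) (Lpn (LP (LK LD1_c29 LD2_c31 LD3_c10))))))))))))
theorem f595292 : Led Lsl_at (LP (LK LD1_c11 LD2_c39 LD3_c40)) = (LP (LK LD1_c20 LD2_c35 LD3_c37)) :=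
  Lgr Lrot107 (Lpe (f592820 IH) (Lpr_af (f595290 IH) (Lpe (f581700 IH) (Lpn (LP (LK LD1_c20 LD2_c35 LD3_c37))))))
theorem f592951 : Led Lsl_gt (LP (LK LD1_c17 LD2_c7 LD3_c4)) = (LP (LK LD1_c20 LD2_c35 LD3_c37)) :=
  Lgr Lrot146 (Lpr_dt (f541573 IH) (Lpr_gt (K40.f541651 IH) (Lpe (K40.f546087 IH) (Lpr_gt (K38.f545268 IH) (Lpe (K38.f175598 IH) (Lpr_dt (f592940 IH) (Lpe (f592949 IH) (Lpr_gf (f581706 IH) (Lpe (f581700 IH) (Lpn (LP (LK LD1_c20 LD2_c35 LD3_c37))))))))))))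
theorem f595299 : Led Lsl_ff (LP (LK LD1_c11 LD2_c39 LD3_c40)) = (LP (LK LD1_c20 LD2_c35 LD3_c35)) :=
  Lgr Lrot52 (Lpr_at (f595292 IH) (Lpe (f592951 IH) (Lpe (f592935 IH) (Lpn (LP (LK LD1_c20 LD2_c35 LD3_c35))))))
theorem f595311 : Led Lsl_ft (LP (LK LD1_c11 LD2_c39 LD3_c40)) = (LP (LK LD1_c20 LD2_c35 LD3_c35)) :=
  Lgr Lrot48 (Lpr_ff (f595299 IH) (Lpn (LP (LK LD1_c20 LD2_c35 LD3_c35))))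
theorem f593066 : Led Lsl_cf (LP (LK LD1_c29 LD2_c32 LD3_c28)) = (LP (LK LD1_c20 LD2_c39 LD3_c26)) :=
  Lgr Lrot166 (Lpr_gt (f593062 IH) (Lpr_dt (f562865 IH) (Lpr_gt (f272663 IH) (Lpr_dt (K40.f562832 IH) (Lpr_ct (K40.f562852 IH) (Lpe (K40.f562779 IH) (Lpr_gf (f580559 IH) (Lpe (f563530 IH) (Lpe (f563370 IH) (Lpn (LP (LK LD1_c20 LD2_c39 LD3_c26))))))))))))
theorem f593070 : Led Lsl_gf (LP (LK LD1_c20 LD2_c39 LD3_c26)) = (LP (LK LD1_c11 LD2_c39 LD3_c40)) :=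
  Lgr Lrot147 (Lpe (f593066 IH) (Lpr_gt (f593062 IH) (Lpe (f592995 IH) (Lpe (f592773 IH) (Lpe (K44.f452836 IH) (Lpe (K42.f452835 IH) (Lpe (K40.f24471 IH) (Lpe (f500606 IH) (Lpe (f592800 IH) (Lpn (LP (LK LD1_c11 LD2_c39 LD3_c40))))))))))))
theorem f595320 : Led Lsl_af (LP (LK LD1_c11 LD2_c39 LD3_c37)) = (LP (LK LD1_c20 LD2_c35 LD3_c35)) :=
  Lgr Lrot31 (Lpe (f563370 IH) (Lpr_gf (f593070 IH) (Lpr_ft (f595311 IH) (Lpn (LP (LK LD1_c20 LD2_c35 LD3_c35))))))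
theorem f595294 : Led Lsl_af (LP (LK LD1_c11 LD2_c39 LD3_c40)) = (LP (LK LD1_c20 LD2_c35 LD3_c37)) :=
  Lgr Lrot0 (Lpr_at (f595292 IH) (Lpn (LP (LK LD1_c20 LD2_c35 LD3_c37))))
theorem f595330 : Led Lsl_ft (LP (LK LD1_c11 LD2_c39 LD3_c37)) = (LP (LK LD1_c20 LD2_c35 LD3_c37)) :=
  Lgr Lrot101 (Lpr_af (f595320 IH) (Lpe (f595311 IH) (Lpr_af (f595294 IH) (Lpn (LP (LK LD1_c20 LD2_c35 LD3_c37))))))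
theorem f540536 : Led Lsl_dt (LP (LK LD1_c20 LD2_c35 LD3_c37)) = (LP (LK LD1_c11 LD2_c37 LD3_c7)) :=
  Lre_d IH (LK LD1_c20 LD2_c35 LD3_c37) (LK LD1_c11 LD2_c37 LD3_c7) Lrfl Lrfl
theorem f595334 : Led Lsl_ff (LP (LK LD1_c5 LD2_c57 LD3_c9)) = (LP (LK LD1_c11 LD2_c37 LD3_c7)) :=
  Lgr Lrot19 (Lpr_dt (K43.f563248 IH) (Lpr_ft (f595330 IH) (Lpr_dt (f540536 IH) (Lpn (LP (LK LD1_c11 LD2_c37 LD3_c7))))))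
theorem f595340 : Led Lsl_ft (LP (LK LD1_c5 LD2_c57 LD3_c9)) = (LP (LK LD1_c11 LD2_c37 LD3_c7)) :=
  Lgr Lrot48 (Lpr_ff (f595334 IH) (Lpn (LP (LK LD1_c11 LD2_c37 LD3_c7))))
theorem f592815 : Led Lsl_dt (LP (LK LD1_c5 LD2_c57 LD3_c10)) = (LP (LK LD1_c11 LD2_c39 LD3_c40)) :=
  Lre_d IH (LK LD1_c5 LD2_c57 LD3_c10) (LK LD1_c11 LD2_c39 LD3_c40) Lrfl Lrfl
theorem f595297 : Led Lsl_af (LP (LK LD1_c5 LD2_c57 LD3_c10)) = (LP (LK LD1_c11 LD2_c37 LD3_c7)) :=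
  Lgr Lrot117 (Lpr_dt (f592815 IH) (Lpr_at (f595292 IH) (Lpr_dt (f540536 IH) (Lpn (LP (LK LD1_c11 LD2_c37 LD3_c7))))))
theorem f595308 : Led Lsl_ft (LP (LK LD1_c5 LD2_c57 LD3_c10)) = (LP (LK LD1_c11 LD2_c37 LD3_c6)) :=
  Lgr Lrot54 (Lpe (f592800 IH) (Lpr_ff (f595299 IH) (Lpe (f72067 IH) (Lpn (LP (LK LD1_c11 LD2_c37 LD3_c6))))))
theorem f595342 : Led Lsl_af (LP (LK LD1_c5 LD2_c57 LD3_c9)) = (LP (LK LD1_c11 LD2_c37 LD3_c6)) :=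
  Lgr Lrot45 (Lpr_ft (f595340 IH) (Lpe (f595297 IH) (Lpr_ft (f595308 IH) (Lpn (LP (LK LD1_c11 LD2_c37 LD3_c6))))))
theorem f595353 : Led Lsl_at (LP (LK LD1_c11 LD2_c39 LD3_c36)) = (LP (LK LD1_c9 LD2_c6 LD3_c42)) :=
  Lgr Lrot107 (Lpe (K43.f562819 IH) (Lpr_af (f595342 IH) (Lpe (f592756 IH) (Lpn (LP (LK LD1_c9 LD2_c6 LD3_c42))))))
theorem f595355 : Led Lsl_af (LP (LK LD1_c11 LD2_c39 LD3_c36)) = (LP (LK LD1_c9 LD2_c6 LD3_c42)) :=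
  Lgr Lrot0 (Lpr_at (f595353 IH) (Lpn (LP (LK LD1_c9 LD2_c6 LD3_c42))))
theorem f557745 : Led Lsl_dt (LP (LK LD1_c16 LD2_c29 LD3_c60)) = (LP (LK LD1_c20 LD2_c0 LD3_c36)) :=
  Lgr Lrot42 (Lpr_df (K42.f557743 IH) (Lpn (LP (LK LD1_c20 LD2_c0 LD3_c36))))
theorem f594806 : Led Lsl_at (LP (LK LD1_c9 LD2_c6 LD3_c45)) = (LP (LK LD1_c16 LD2_c29 LD3_c60)) :=
  Lgr Lrot51 (Lpr_df (f594804 IH) (Lpe (K44.f578962 IH) (Lpe (f557745 IH) (Lpn (LP (LK LD1_c16 LD2_c29 LD3_c60))))))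
theorem f594829 : Led Lsl_at (LP (LK LD1_c17 LD2_c4 LD3_c8)) = (LP (LK LD1_c11 LD2_c8 LD3_c8)) :=
  Lgr Lrot66 (Lpe (f580547 IH) (Lpe (f594806 IH) (Lpr_ff (f594827 IH) (Lpn (LP (LK LD1_c11 LD2_c8 LD3_c8))))))
theorem f539951 : Led Lsl_bt (LP (LK LD1_c4 LD2_c34 LD3_c60)) = (LP (LK LD1_c9 LD2_c6 LD3_c42)) :=
  Lre_b IH (LK LD1_c4 LD2_c34 LD3_c60) (LK LD1_c9 LD2_c6 LD3_c42) Lrfl Lrfl
theorem f595366 : Led Lsl_at (LP (LK LD1_c5 LD2_c38 LD3_c26)) = (LP (LK LD1_c4 LD2_c34 LD3_c60)) :=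
  Lgr Lrot67 (Lpe (K42.f568584 IH) (Lpe (f594829 IH) (Lpr_bf (K44.f563501 IH) (Lpr_af (f595355 IH) (Lpe (f539951 IH) (Lpn (LP (LK LD1_c4 LD2_c34 LD3_c60))))))))
theorem f568581 : Led Lsl_ct (LP (LK LD1_c11 LD2_c8 LD3_c9)) = (LP (LK LD1_c5 LD2_c38 LD3_c26)) :=
  Lre_c IH (LK LD1_c11 LD2_c8 LD3_c9) (LK LD1_c5 LD2_c38 LD3_c26) Lrfl Lrfl
theorem f595370 : Led Lsl_af (LP (LK LD1_c11 LD2_c8 LD3_c9)) = (LP (LK LD1_c9 LD2_c6 LD3_c43)) :=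
  Lgr Lrot68 (Lpr_ct (f568581 IH) (Lpr_at (f595366 IH) (Lpr_ct (f494358 IH) (Lpn (LP (LK LD1_c9 LD2_c6 LD3_c43))))))
theorem f595378 : Led Lsl_at (LP (LK LD1_c20 LD2_c1 LD3_c45)) = (LP (LK LD1_c16 LD2_c58 LD3_c49)) :=
  Lgr Lrot51 (Lpe (f570330 IH) (Lpr_af (f595370 IH) (Lpe (f539948 IH) (Lpn (LP (LK LD1_c16 LD2_c58 LD3_c49))))))
theorem f595382 : Led Lsl_ff (LP (LK LD1_c20 LD2_c1 LD3_c45)) = (LP (LK LD1_c16 LD2_c58 LD3_c52)) :=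
  Lgr Lrot103 (Lpr_at (f595378 IH) (Lpr_cf (f592714 IH) (Lpe (f577775 IH) (Lpr_cf (f563716 IH) (Lpr_df (K40.f558871 IH) (Lpe (K43.f577771 IH) (Lpr_df (f577778 IH) (Lpe (f494356 IH) (Lpe (f548617 IH) (Lpn (LP (LK LD1_c16 LD2_c58 LD3_c52))))))))))))
theorem f595392 : Led Lsl_gf (LP (LK LD1_c20 LD2_c26 LD3_c36)) = (LP (LK LD1_c16 LD2_c58 LD3_c52)) :=
  Lgr Lrot47 (Lpe (f592744 IH) (Lpe (f595378 IH) (Lpr_ff (f595382 IH) (Lpn (LP (LK LD1_c16 LD2_c58 LD3_c52))))))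
theorem f548274 : Led Lsl_gt (LP (LK LD1_c9 LD2_c6 LD3_c40)) = (LP (LK LD1_c11 LD2_c47 LD3_c44)) :=
  Lgr Lrot149 (Lpe (K43.f541456 IH) (Lpr_gf (K38.f548269 IH) (Lpe (K38.f186094 IH) (Lpr_ct (K36.f186099 IH) (Lpe (K11.f175396 IH) (Lpe (K0.f9346 IH) (Lpr_bt (K36.f186319 IH) (Lpe (K40.f176565 IH) (Lpe (K43.f176566 IH) (Lpr_ct (K43.f186440 IH) (Lpn (LP (LK LD1_c11 LD2_c47 LD3_c44)))))))))))))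
theorem f541449 : Led Lsl_ct (LP (LK LD1_c9 LD2_c6 LD3_c40)) = (LP (LK LD1_c4 LD2_c34 LD3_c59)) :=
  Lre_c IH (LK LD1_c9 LD2_c6 LD3_c40) (LK LD1_c4 LD2_c34 LD3_c59) Lrfl Lrfl
theorem f164701 : Led Lsl_dt (LP (LK LD1_c2 LD2_c45 LD3_c2)) = (LP (LK LD1_c5 LD2_c38 LD3_c23)) :=
  Lre_d IH (LK LD1_c2 LD2_c45 LD3_c2) (LK LD1_c5 LD2_c38 LD3_c23) Lrfl Lrfl
theorem f164702 : Led Lsl_ct (LP (LK LD1_c5 LD2_c38 LD3_c23)) = (LP (LK LD1_c11 LD2_c8 LD3_c4)) :=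
  Lre_c IH (LK LD1_c5 LD2_c38 LD3_c23) (LK LD1_c11 LD2_c8 LD3_c4) Lrfl Lrfl
theorem f548342 : Led Lsl_dt (LP (LK LD1_c20 LD2_c1 LD3_c43)) = (LP (LK LD1_c11 LD2_c8 LD3_c4)) :=
  Lre_d IH (LK LD1_c20 LD2_c1 LD3_c43) (LK LD1_c11 LD2_c8 LD3_c4) Lrfl Lrfl
theorem f548343 : Led Lsl_gf (LP (LK LD1_c20 LD2_c1 LD3_c43)) = (LP (LK LD1_c20 LD2_c49 LD3_c59)) :=
  Lgr Lrot143 (Lpr_dt (f548342 IH) (Lpe (f164702 IH) (Lpe (f164701 IH) (Lpe (K41.f164700 IH) (Lpe (K35.f422722 IH) (Lpe (K38.f548271 IH) (Lpe (f541449 IH) (Lpr_gt (f548274 IH) (Lpr_dt (K43.f548341 IH) (Lpn (LP (LK LD1_c20 LD2_c49 LD3_c59))))))))))))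
theorem f211717 : Led Lsl_gt (LP (LK LD1_c20 LD2_c1 LD3_c51)) = (LP (LK LD1_c11 LD2_c8 LD3_c13)) :=
  Lre_g IH (LK LD1_c20 LD2_c1 LD3_c51) (LK LD1_c11 LD2_c8 LD3_c13) Lrfl Lrfl
theorem f538983 : Led Lsl_gt (LP (LK LD1_c20 LD2_c1 LD3_c52)) = (LP (LK LD1_c20 LD2_c1 LD3_c51)) :=
  Lgr Lrot5 (Lpe (K36.f538968 IH) (Lpr_at (K36.f538972 IH) (Lpe (f211717 IH) (Lpn (LP (LK LD1_c20 LD2_c1 LD3_c51))))))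
theorem f595087 : Led Lsl_df (LP (LK LD1_c16 LD2_c58 LD3_c6)) = (LP (LK LD1_c20 LD2_c1 LD3_c51)) :=
  Lgr Lrot153 (Lpr_gt (K38.f548631 IH) (Lpr_dt (K7.f20338 IH) (Lpe (K7.f20351 IH) (Lpe (K7.f20354 IH) (Lpe (K42.f20364 IH) (Lpr_df (f595079 IH) (Lpe (f422744 IH) (Lpe (K36.f422723 IH) (Lpr_gt (f538983 IH) (Lpn (LP (LK LD1_c20 LD2_c1 LD3_c51))))))))))))
theorem f595394 : Led Lsl_ct (LP (LK LD1_c20 LD2_c1 LD3_c43)) = (LP (LK LD1_c20 LD2_c1 LD3_c51)) :=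
  Lgr Lrot110 (Lpr_gf (f548343 IH) (Lpr_cf (K43.f579734 IH) (Lpr_gf (f595392 IH) (Lpe (f548616 IH) (Lpe (K40.f563133 IH) (Lpr_ct (K40.f428173 IH) (Lpr_gt (K38.f548646 IH) (Lpe (K38.f548634 IH) (Lpr_df (f595087 IH) (Lpn (LP (LK LD1_c20 LD2_c1 LD3_c51))))))))))))
theorem f595407 : Led Lsl_gt (LP (LK LD1_c4 LD2_c34 LD3_c48)) = (LP (LK LD1_c6 LD2_c4 LD3_c11)) :=
  Lgr Lrot150 (Lpe (f72380 IH) (Lpe (K43.f572900 IH) (Lpe (K43.f176568 IH) (Lpe (f548343 IH) (Lpr_ct (f595394 IH) (Lpr_gt (f211717 IH) (Lpr_ct (K36.f422726 IH) (Lpe (K36.f538960 IH) (Lpe (K36.f186052 IH) (Lpn (LP (LK LD1_c6 LD2_c4 LD3_c11))))))))))))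
theorem f595144 : Led Lsl_gt (LP (LK LD1_c9 LD2_c6 LD3_c14)) = (LP (LK LD1_c16 LD2_c57 LD3_c57)) :=
  Lre_g IH (LK LD1_c9 LD2_c6 LD3_c14) (LK LD1_c16 LD2_c57 LD3_c57) Lrfl Lrfl
theorem f595410 : Led Lsl_dt (LP (LK LD1_c16 LD2_c57 LD3_c57)) = (LP (LK LD1_c26 LD2_c53 LD3_c26)) :=
  Lre_d IH (LK LD1_c16 LD2_c57 LD3_c57) (LK LD1_c26 LD2_c53 LD3_c26) Lrfl Lrfl
theorem f570331 : Led Lsl_dt (LP (LK LD1_c20 LD2_c1 LD3_c45)) = (LP (LK LD1_c11 LD2_c8 LD3_c9)) :=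
  Lre_d IH (LK LD1_c20 LD2_c1 LD3_c45) (LK LD1_c11 LD2_c8 LD3_c9) Lrfl Lrfl
theorem f595411 : Led Lsl_gt (LP (LK LD1_c26 LD2_c53 LD3_c26)) = (LP (LK LD1_c20 LD2_c1 LD3_c45)) :=
  Lgr Lrot49 (Lpe (f595410 IH) (Lpe (f595144 IH) (Lpe (K43.f72374 IH) (Lpr_gt (f595407 IH) (Lpr_dt (K36.f334868 IH) (Lpr_gt (K42.f538958 IH) (Lpr_dt (K42.f422731 IH) (Lpe (f568581 IH) (Lpe (f570331 IH) (Lpn (LP (LK LD1_c20 LD2_c1 LD3_c45))))))))))))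
theorem f595075 : Led Lsl_ct (LP (LK LD1_c20 LD2_c1 LD3_c45)) = (LP (LK LD1_c20 LD2_c1 LD3_c50)) :=
  Lgr Lrot59 (Lpr_cf (f595067 IH) (Lpn (LP (LK LD1_c20 LD2_c1 LD3_c50))))
theorem f592737 : Led Lsl_at (LP (LK LD1_c4 LD2_c34 LD3_c60)) = (LP (LK LD1_c5 LD2_c38 LD3_c26)) :=
  Lgr Lrot51 (Lpr_df (f592735 IH) (Lpr_af (K43.f577746 IH) (Lpe (K42.f422734 IH) (Lpn (LP (LK LD1_c5 LD2_c38 LD3_c26))))))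
theorem f592838 : Led Lsl_ff (LP (LK LD1_c4 LD2_c34 LD3_c60)) = (LP (LK LD1_c5 LD2_c38 LD3_c23)) :=
  Lgr Lrot52 (Lpr_at (f592737 IH) (Lpr_gf (K42.f570322 IH) (Lpr_gf (f592831 IH) (Lpn (LP (LK LD1_c5 LD2_c38 LD3_c23))))))
theorem f595077 : Led Lsl_dt (LP (LK LD1_c16 LD2_c58 LD3_c7)) = (LP (LK LD1_c20 LD2_c1 LD3_c50)) :=
  Lgr Lrot140 (Lpe (K42.f568586 IH) (Lpe (K42.f422735 IH) (Lpe (K42.f422732 IH) (Lpe (f548363 IH) (Lpe (f592838 IH) (Lpr_at (f592737 IH) (Lpe (f568581 IH) (Lpe (f570331 IH) (Lpr_cf (f595067 IH) (Lpn (LP (LK LD1_c20 LD2_c1 LD3_c50))))))))))))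
theorem f428206 : Led Lsl_ct (LP (LK LD1_c11 LD2_c42 LD3_c3)) = (LP (LK LD1_c5 LD2_c58 LD3_c50)) :=
  Lre_c IH (LK LD1_c11 LD2_c42 LD3_c3) (LK LD1_c5 LD2_c58 LD3_c50) Lrfl Lrfl
theorem f539945 : Led Lsl_gt (LP (LK LD1_c9 LD2_c6 LD3_c43)) = (LP (LK LD1_c11 LD2_c42 LD3_c3)) :=
  Lgr Lrot150 (Lpe (f494358 IH) (Lpe (f494357 IH) (Lpe (f20380 IH) (Lpr_gt (K36.f494354 IH) (Lpqs (K37.f539943 IH) (Lpr_ct (K38.f539328 IH) (Lpr_gt (K38.f539944 IH) (Lpe (K36.f539591 IH) (Lpe (K36.f386830 IH) (Lpe (f428206 IH) (Lpn (LP (LK LD1_c11 LD2_c42 LD3_c3)))))))))))))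
theorem f595425 : Led Lsl_cf (LP (LK LD1_c26 LD2_c53 LD3_c26)) = (LP (LK LD1_c20 LD2_c26 LD3_c39)) :=
  Lgr Lrot169 (Lpr_gt (f595411 IH) (Lpr_ct (f595075 IH) (Lpe (f595077 IH) (Lpe (K42.f568586 IH) (Lpr_gf (K42.f568589 IH) (Lpe (f428206 IH) (Lpe (f539945 IH) (Lpe (f539948 IH) (Lpr_gt (f592724 IH) (Lpn (LP (LK LD1_c20 LD2_c26 LD3_c39))))))))))))
theorem f595422 : Led Lsl_dt (LP (LK LD1_c26 LD2_c53 LD3_c26)) = (LP (LK LD1_c16 LD2_c57 LD3_c57)) :=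
  Lre_d IH (LK LD1_c26 LD2_c53 LD3_c26) (LK LD1_c16 LD2_c57 LD3_c57) Lrfl Lrfl
theorem f428153 : Led Lsl_gt (LP (LK LD1_c5 LD2_c50 LD3_c61)) = (LP (LK LD1_c11 LD2_c29 LD3_c30)) :=
  Lre_g IH (LK LD1_c5 LD2_c50 LD3_c61) (LK LD1_c11 LD2_c29 LD3_c30) Lrfl Lrfl
theorem f595434 : Led Lsl_cf (LP (LK LD1_c16 LD2_c57 LD3_c57)) = (LP (LK LD1_c11 LD2_c29 LD3_c30)) :=
  Lgr Lrot99 (Lpe (f595422 IH) (Lpr_cf (f595425 IH) (Lpe (f592724 IH) (Lpr_cf (f592714 IH) (Lpe (f592710 IH) (Lpe (K36.f334772 IH) (Lpe (K43.f548250 IH) (Lpr_ct (K43.f208531 IH) (Lpr_gt (f428153 IH) (Lpn (LP (LK LD1_c11 LD2_c29 LD3_c30))))))))))))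
theorem f595423 : Led Lsl_gt (LP (LK LD1_c16 LD2_c57 LD3_c57)) = (LP (LK LD1_c9 LD2_c6 LD3_c40)) :=
  Lgr Lrot9 (Lpe (f595422 IH) (Lpr_gt (f595411 IH) (Lpr_ct (f595075 IH) (Lpr_gt (f422745 IH) (Lpr_ct (K36.f422723 IH) (Lpe (K36.f422725 IH) (Lpe (K36.f165059 IH) (Lpe (K38.f548271 IH) (Lpe (f541449 IH) (Lpn (LP (LK LD1_c9 LD2_c6 LD3_c40))))))))))))
theorem f595448 : Led Lsl_bf (LP (LK LD1_c6 LD2_c7 LD3_c58)) = (LP (LK LD1_c11 LD2_c29 LD3_c30)) :=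
  Lgr Lrot34 (Lpe (K40.f559645 IH) (Lpe (K40.f555902 IH) (Lpr_ct (K40.f500518 IH) (Lpr_gf (K40.f559654 IH) (Lpr_cf (K38.f549672 IH) (Lpe (K43.f565108 IH) (Lpe (K43.f541454 IH) (Lpr_ct (K43.f541456 IH) (Lpe (f595423 IH) (Lpr_cf (f595434 IH) (Lpn (LP (LK LD1_c11 LD2_c29 LD3_c30)))))))))))))
theorem f562490 : Led Lsl_bt (LP (LK LD1_c5 LD2_c53 LD3_c11)) = (LP (LK LD1_c11 LD2_c32 LD3_c28)) :=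
  Lre_b IH (LK LD1_c5 LD2_c53 LD3_c11) (LK LD1_c11 LD2_c32 LD3_c28) Lrfl Lrfl
theorem f595457 : Led Lsl_ft (LP (LK LD1_c11 LD2_c32 LD3_c28)) = (LP (LK LD1_c11 LD2_c29 LD3_c30)) :=
  Lgr Lrot75 (Lpe (f562490 IH) (Lpe (K40.f562487 IH) (Lpr_bf (f595448 IH) (Lpn (LP (LK LD1_c11 LD2_c29 LD3_c30))))))
theorem f595466 : Led Lsl_ff (LP (LK LD1_c11 LD2_c32 LD3_c28)) = (LP (LK LD1_c11 LD2_c29 LD3_c30)) :=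
  Lgr Lrot3 (Lpr_ft (f595457 IH) (Lpn (LP (LK LD1_c11 LD2_c29 LD3_c30))))
theorem f579732 : Led Lsl_at (LP (LK LD1_c11 LD2_c32 LD3_c28)) = (LP (LK LD1_c6 LD2_c1 LD3_c33)) :=
  Lgr Lrot51 (Lpe (K43.f573403 IH) (Lpr_af (K43.f579726 IH) (Lpe (K43.f557468 IH) (Lpn (LP (LK LD1_c6 LD2_c1 LD3_c33))))))
theorem f595472 : Led Lsl_gf (LP (LK LD1_c11 LD2_c12 LD3_c53)) = (LP (LK LD1_c11 LD2_c29 LD3_c30)) :=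
  Lgr Lrot47 (Lpr_gt (K43.f572902 IH) (Lpe (f579732 IH) (Lpr_ff (f595466 IH) (Lpn (LP (LK LD1_c11 LD2_c29 LD3_c30))))))
theorem f595437 : Led Lsl_ct (LP (LK LD1_c16 LD2_c57 LD3_c57)) = (LP (LK LD1_c11 LD2_c29 LD3_c30)) :=
  Lgr Lrot59 (Lpr_cf (f595434 IH) (Lpn (LP (LK LD1_c11 LD2_c29 LD3_c30))))
theorem f595476 : Led Lsl_gf (LP (LK LD1_c11 LD2_c29 LD3_c35)) = (LP (LK LD1_c11 LD2_c42 LD3_c2)) :=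
  Lgr Lrot104 (Lpr_ct (K38.f208567 IH) (Lpr_df (K38.f548149 IH) (Lpe (K38.f548156 IH) (Lpr_gf (f595472 IH) (Lpe (f595437 IH) (Lpe (f595144 IH) (Lpe (f72386 IH) (Lpe (f595136 IH) (Lpr_ct (K36.f428163 IH) (Lpn (LP (LK LD1_c11 LD2_c42 LD3_c2))))))))))))
theorem f544970 : Led Lsl_gt (LP (LK LD1_c11 LD2_c29 LD3_c35)) = (LP (LK LD1_c20 LD2_c26 LD3_c43)) :=
  Lre_g IH (LK LD1_c11 LD2_c29 LD3_c35) (LK LD1_c20 LD2_c26 LD3_c43) Lrfl Lrfl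
theorem f428186 : Led Lsl_ft (LP (LK LD1_c5 LD2_c58 LD3_c49)) = (LP (LK LD1_c11 LD2_c42 LD3_c3)) :=
  Lre_f IH (LK LD1_c5 LD2_c58 LD3_c49) (LK LD1_c11 LD2_c42 LD3_c3) Lrfl Lrfl
theorem f428187 : Led Lsl_ff (LP (LK LD1_c11 LD2_c42 LD3_c2)) = (LP (LK LD1_c20 LD2_c42 LD3_c14)) :=
  Lgr Lrot19 (Lpr_dt (K36.f428162 IH) (Lpr_ft (f428186 IH) (Lpr_dt (K36.f428166 IH) (Lpn (LP (LK LD1_c20 LD2_c42 LD3_c14))))))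
theorem f428204 : Led Lsl_ft (LP (LK LD1_c11 LD2_c42 LD3_c2)) = (LP (LK LD1_c20 LD2_c42 LD3_c14)) :=
  Lgr Lrot48 (Lpr_ff (f428187 IH) (Lpn (LP (LK LD1_c20 LD2_c42 LD3_c14))))
theorem f595862 : Led Lsl_af (LP (LK LD1_c20 LD2_c26 LD3_c43)) = (LP (LK LD1_c20 LD2_c42 LD3_c14)) :=
  Lgr Lrot31 (Lpe (f544970 IH) (Lpr_gf (f595476 IH) (Lpr_ft (f428204 IH) (Lpn (LP (LK LD1_c20 LD2_c42 LD3_c14))))))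
theorem f599662 : Led Lsl_cf (LP (LK LD1_c20 LD2_c26 LD3_c43)) = (LP (LK LD1_c20 LD2_c41 LD3_c43)) :=
  Lgr Lrot102 (Lpr_af (f595862 IH) (Lpe (f428204 IH) (Lpr_dt (K36.f428162 IH) (Lpr_ct (K36.f428161 IH) (Lpr_dt (K36.f428160 IH) (Lpe (K36.f426083 IH) (Lpr_dt (K38.f426102 IH) (Lpr_ct (K40.f428158 IH) (Lpr_dt (f428159 IH) (Lpn (LP (LK LD1_c20 LD2_c41 LD3_c43))))))))))))
theorem f595057 : Led Lsl_dt (LP (LK LD1_c20 LD2_c26 LD3_c43)) = (LP (LK LD1_c20 LD2_c1 LD3_c41)) :=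
  Lgr Lrot113 (Lpe (f544970 IH) (Lpe (K38.f208554 IH) (Lpe (K43.f208557 IH) (Lpr_ct (K43.f573391 IH) (Lpe (K43.f573396 IH) (Lpr_dt (K43.f72376 IH) (Lpq (K38.f539956 IH) (Lpr_gt (K38.f539944 IH) (Lpr_dt (K40.f539585 IH) (Lpr_ct (f594979 IH) (Lpn (LP (LK LD1_c20 LD2_c1 LD3_c41)))))))))))))
theorem f595085 : Led Lsl_ct (LP (LK LD1_c5 LD2_c58 LD3_c46)) = (LP (LK LD1_c11 LD2_c8 LD3_c11)) :=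
  Lgr Lrot8 (Lpr_gt (K43.f573393 IH) (Lpe (f573398 IH) (Lpr_gt (f579576 IH) (Lpr_dt (K42.f422735 IH) (Lpr_cf (K42.f568582 IH) (Lpr_df (f595079 IH) (Lpe (f422744 IH) (Lpe (K36.f422725 IH) (Lpe (f211719 IH) (Lpn (LP (LK LD1_c11 LD2_c8 LD3_c11))))))))))))
theorem f595168 : Led Lsl_cf (LP (LK LD1_c5 LD2_c58 LD3_c47)) = (LP (LK LD1_c9 LD2_c6 LD3_c47)) :=
  Lgr Lrot166 (Lpe (f594975 IH) (Lpr_dt (K36.f539576 IH) (Lpe (K40.f563713 IH) (Lpr_dt (K43.f428175 IH) (Lpr_ct (f595085 IH) (Lpe (f595103 IH) (Lpr_gf (f595121 IH) (Lpe (f422801 IH) (Lpr_gf (f595161 IH) (Lpn (LP (LK LD1_c9 LD2_c6 LD3_c47))))))))))))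
theorem f428250 : Led Lsl_dt (LP (LK LD1_c20 LD2_c41 LD3_c43)) = (LP (LK LD1_c11 LD2_c41 LD3_c42)) :=
  Lre_d IH (LK LD1_c20 LD2_c41 LD3_c43) (LK LD1_c11 LD2_c41 LD3_c42) Lrfl Lrfl
theorem f541457 : Led Lsl_dt (LP (LK LD1_c9 LD2_c6 LD3_c40)) = (LP (LK LD1_c16 LD2_c58 LD3_c45)) :=
  Lre_d IH (LK LD1_c9 LD2_c6 LD3_c40) (LK LD1_c16 LD2_c58 LD3_c45) Lrfl Lrfl
theorem f595474 : Led Lsl_gf (LP (LK LD1_c20 LD2_c41 LD3_c43)) = (LP (LK LD1_c16 LD2_c58 LD3_c45)) :=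
  Lgr Lrot143 (Lpr_dt (f428250 IH) (Lpe (K40.f428158 IH) (Lpe (K38.f426102 IH) (Lpr_gf (K40.f541429 IH) (Lpe (K38.f181544 IH) (Lpr_gf (f595472 IH) (Lpe (f595437 IH) (Lpr_gt (f595423 IH) (Lpr_dt (f541457 IH) (Lpn (LP (LK LD1_c16 LD2_c58 LD3_c45))))))))))))
theorem f599669 : Led Lsl_ct (LP (LK LD1_c16 LD2_c58 LD3_c58)) = (LP (LK LD1_c16 LD2_c58 LD3_c45)) :=
  Lgr Lrot152 (Lpe (f592707 IH) (Lpe (f20382 IH) (Lpr_gt (f494374 IH) (Lpe (f595168 IH) (Lpe (f594975 IH) (Lpr_ct (f594979 IH) (Lpe (f595057 IH) (Lpr_cf (f599662 IH) (Lpr_gf (f595474 IH) (Lpn (LP (LK LD1_c16 LD2_c58 LD3_c45))))))))))))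
theorem f599682 : Led Lsl_gt (LP (LK LD1_c16 LD2_c58 LD3_c58)) = (LP (LK LD1_c11 LD2_c51 LD3_c44)) :=
  Lgr Lrot180 (Lpr_ct (f599669 IH) (Lpe (f595474 IH) (Lpr_dt (f428250 IH) (Lpe (f592728 IH) (Lpr_dt (f539949 IH) (Lpr_ct (f592720 IH) (Lpe (f577775 IH) (Lpr_gf (f592752 IH) (Lpe (f422803 IH) (Lpn (LP (LK LD1_c11 LD2_c51 LD3_c44))))))))))))
theorem f20360 : Led Lsl_ft (LP (LK LD1_c9 LD2_c6 LD3_c49)) = (LP (LK LD1_c16 LD2_c58 LD3_c61)) :=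
  Lre_f IH (LK LD1_c9 LD2_c6 LD3_c49) (LK LD1_c16 LD2_c58 LD3_c61) Lrfl Lrfl
theorem f599688 : Led Lsl_at (LP (LK LD1_c16 LD2_c58 LD3_c61)) = (LP (LK LD1_c11 LD2_c51 LD3_c44)) :=
  Lgr Lrot26 (Lpe (f20360 IH) (Lpr_gt (f592707 IH) (Lpr_gt (f599682 IH) (Lpn (LP (LK LD1_c11 LD2_c51 LD3_c44))))))
theorem f599714 : Led Lsl_af (LP (LK LD1_c16 LD2_c58 LD3_c61)) = (LP (LK LD1_c11 LD2_c51 LD3_c44)) :=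
  Lgr Lrot0 (Lpr_at (f599688 IH) (Lpn (LP (LK LD1_c11 LD2_c51 LD3_c44))))
theorem f20347 : Led Lsl_ft (LP (LK LD1_c16 LD2_c58 LD3_c61)) = (LP (LK LD1_c9 LD2_c6 LD3_c49)) :=
  Lre_f IH (LK LD1_c16 LD2_c58 LD3_c61) (LK LD1_c9 LD2_c6 LD3_c49) Lrfl Lrfl
theorem f20348 : Led Lsl_at (LP (LK LD1_c9 LD2_c6 LD3_c49)) = (LP (LK LD1_c16 LD2_c58 LD3_c9)) :=
  Lre_a IH (LK LD1_c9 LD2_c6 LD3_c49) (LK LD1_c16 LD2_c58 LD3_c9) Lrfl Lrfl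
theorem f599716 : Led Lsl_ft (LP (LK LD1_c16 LD2_c58 LD3_c9)) = (LP (LK LD1_c11 LD2_c51 LD3_c44)) :=
  Lgr Lrot101 (Lpe (f20348 IH) (Lpe (f20347 IH) (Lpr_af (f599714 IH) (Lpn (LP (LK LD1_c11 LD2_c51 LD3_c44))))))
theorem f20377 : Led Lsl_bt (LP (LK LD1_c26 LD2_c53 LD3_c41)) = (LP (LK LD1_c16 LD2_c58 LD3_c9)) :=
  Lre_b IH (LK LD1_c26 LD2_c53 LD3_c41) (LK LD1_c16 LD2_c58 LD3_c9) Lrfl Lrfl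
theorem f592704 : Led Lsl_bt (LP (LK LD1_c11 LD2_c51 LD3_c44)) = (LP (LK LD1_c20 LD2_c54 LD3_c14)) :=
  Lre_b IH (LK LD1_c11 LD2_c51 LD3_c44) (LK LD1_c20 LD2_c54 LD3_c14) Lrfl Lrfl
theorem f599718 : Led Lsl_ff (LP (LK LD1_c26 LD2_c53 LD3_c41)) = (LP (LK LD1_c20 LD2_c54 LD3_c14)) :=
  Lgr Lrot25 (Lpr_bt (f20377 IH) (Lpr_ft (f599716 IH) (Lpr_bt (f592704 IH) (Lpn (LP (LK LD1_c20 LD2_c54 LD3_c14))))))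
theorem f599732 : Led Lsl_dt (LP (LK LD1_c26 LD2_c53 LD3_c41)) = (LP (LK LD1_c16 LD2_c58 LD3_c8)) :=
  Lre_d IH (LK LD1_c26 LD2_c53 LD3_c41) (LK LD1_c16 LD2_c58 LD3_c8) Lrfl Lrfl
theorem f186299 : Led Lsl_dt (LP (LK LD1_c11 LD2_c51 LD3_c43)) = (LP (LK LD1_c20 LD2_c54 LD3_c14)) :=
  Lre_d IH (LK LD1_c11 LD2_c51 LD3_c43) (LK LD1_c20 LD2_c54 LD3_c14) Lrfl Lrfl
theorem f599733 : Led Lsl_ft (LP (LK LD1_c16 LD2_c58 LD3_c8)) = (LP (LK LD1_c11 LD2_c51 LD3_c43)) :=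
  Lgr Lrot54 (Lpe (f599732 IH) (Lpr_ff (f599718 IH) (Lpe (f186299 IH) (Lpn (LP (LK LD1_c11 LD2_c51 LD3_c43))))))
theorem f186302 : Led Lsl_ct (LP (LK LD1_c11 LD2_c51 LD3_c43)) = (LP (LK LD1_c6 LD2_c4 LD3_c4)) :=
  Lre_c IH (LK LD1_c11 LD2_c51 LD3_c43) (LK LD1_c6 LD2_c4 LD3_c4) Lrfl Lrfl
theorem f177705 : Led Lsl_bt (LP (LK LD1_c9 LD2_c14 LD3_c42)) = (LP (LK LD1_c4 LD2_c39 LD3_c32)) :=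
  Lre_b IH (LK LD1_c9 LD2_c14 LD3_c42) (LK LD1_c4 LD2_c39 LD3_c32) Lrfl Lrfl
theorem f172129 : Led Lsl_bt (LP (LK LD1_c2 LD2_c58 LD3_c7)) = (LP (LK LD1_c6 LD2_c4 LD3_c4)) :=
  Lre_b IH (LK LD1_c2 LD2_c58 LD3_c7) (LK LD1_c6 LD2_c4 LD3_c4) Lrfl Lrfl
theorem f334671 : Led Lsl_ff (LP (LK LD1_c9 LD2_c14 LD3_c42)) = (LP (LK LD1_c6 LD2_c4 LD3_c4)) :=
  Lgr Lrot25 (Lpr_bt (f177705 IH) (Lpr_ft (K35.f334669 IH) (Lpr_bt (f172129 IH) (Lpn (LP (LK LD1_c6 LD2_c4 LD3_c4))))))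
theorem f599740 : Led Lsl_cf (LP (LK LD1_c16 LD2_c58 LD3_c8)) = (LP (LK LD1_c9 LD2_c14 LD3_c42)) :=
  Lgr Lrot108 (Lpr_ft (f599733 IH) (Lpr_ct (f186302 IH) (Lpe (f334671 IH) (Lpn (LP (LK LD1_c9 LD2_c14 LD3_c42))))))
theorem f599746 : Led Lsl_et (LP (LK LD1_c16 LD2_c58 LD3_c8)) = (LP (LK LD1_c26 LD2_c53 LD3_c34)) :=
  Lre_e IH (LK LD1_c16 LD2_c58 LD3_c8) (LK LD1_c26 LD2_c53 LD3_c34) Lrfl Lrfl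
theorem f177727 : Led Lsl_et (LP (LK LD1_c17 LD2_c9 LD3_c3)) = (LP (LK LD1_c9 LD2_c14 LD3_c42)) :=
  Lre_e IH (LK LD1_c17 LD2_c9 LD3_c3) (LK LD1_c9 LD2_c14 LD3_c42) Lrfl Lrfl
theorem f599747 : Led Lsl_ct (LP (LK LD1_c26 LD2_c53 LD3_c34)) = (LP (LK LD1_c17 LD2_c9 LD3_c3)) :=
  Lgr Lrot15 (Lpe (f599746 IH) (Lpr_cf (f599740 IH) (Lpe (f177727 IH) (Lpn (LP (LK LD1_c17 LD2_c9 LD3_c3))))))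
theorem f599751 : Led Lsl_cf (LP (LK LD1_c26 LD2_c53 LD3_c34)) = (LP (LK LD1_c17 LD2_c9 LD3_c3)) :=
  Lgr Lrot11 (Lpr_ct (f599747 IH) (Lpn (LP (LK LD1_c17 LD2_c9 LD3_c3))))
theorem f599753 : Led Lsl_bt (LP (LK LD1_c26 LD2_c53 LD3_c34)) = (LP (LK LD1_c16 LD2_c58 LD3_c4)) :=
  Lre_b IH (LK LD1_c26 LD2_c53 LD3_c34) (LK LD1_c16 LD2_c58 LD3_c4) Lrfl Lrfl
theorem f157954 : Led Lsl_ct (LP (LK LD1_c16 LD2_c58 LD3_c4)) = (LP (LK LD1_c9 LD2_c6 LD3_c19)) :=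
  Lre_c IH (LK LD1_c16 LD2_c58 LD3_c4) (LK LD1_c9 LD2_c6 LD3_c19) Lrfl Lrfl
theorem f599755 : Led Lsl_bt (LP (LK LD1_c9 LD2_c14 LD3_c43)) = (LP (LK LD1_c17 LD2_c9 LD3_c3)) :=
  Lre_b IH (LK LD1_c9 LD2_c14 LD3_c43) (LK LD1_c17 LD2_c9 LD3_c3) Lrfl Lrfl
theorem f494595 : Led Lsl_ct (LP (LK LD1_c4 LD2_c39 LD3_c33)) = (LP (LK LD1_c9 LD2_c14 LD3_c43)) :=
  Lre_c IH (LK LD1_c4 LD2_c39 LD3_c33) (LK LD1_c9 LD2_c14 LD3_c43) Lrfl Lrfl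
theorem f599756 : Led Lsl_bt (LP (LK LD1_c9 LD2_c6 LD3_c19)) = (LP (LK LD1_c4 LD2_c39 LD3_c33)) :=
  Lgr Lrot128 (Lpe (f157954 IH) (Lpe (f599753 IH) (Lpr_cf (f599751 IH) (Lpe (f599755 IH) (Lpe (f494595 IH) (Lpn (LP (LK LD1_c4 LD2_c39 LD3_c33))))))))
theorem f157941 : Led Lsl_dt (LP (LK LD1_c4 LD2_c34 LD3_c50)) = (LP (LK LD1_c9 LD2_c6 LD3_c19)) :=
  Lre_d IH (LK LD1_c4 LD2_c34 LD3_c50) (LK LD1_c9 LD2_c6 LD3_c19) Lrfl Lrfl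
theorem f25215 : Led Lsl_bt (LP (LK LD1_c2 LD2_c14 LD3_c33)) = (LP (LK LD1_c1 LD2_c4 LD3_c25)) :=
  Lre_b IH (LK LD1_c2 LD2_c14 LD3_c33) (LK LD1_c1 LD2_c4 LD3_c25) Lrfl Lrfl
theorem f151899 : Led Lsl_at (LP (LK LD1_c4 LD2_c34 LD3_c50)) = (LP (LK LD1_c2 LD2_c14 LD3_c33)) :=
  Lre_a IH (LK LD1_c4 LD2_c34 LD3_c50) (LK LD1_c2 LD2_c14 LD3_c33) Lrfl Lrfl
theorem f22539 : Led Lsl_bt (LP (LK LD1_c0 LD2_c38 LD3_c10)) = (LP (LK LD1_c1 LD2_c22 LD3_c19)) :=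
  Lre_b IH (LK LD1_c0 LD2_c38 LD3_c10) (LK LD1_c1 LD2_c22 LD3_c19) Lrfl Lrfl
theorem f151900 : Led Lsl_at (LP (LK LD1_c1 LD2_c22 LD3_c19)) = (LP (LK LD1_c2 LD2_c52 LD3_c19)) :=
  Lre_a IH (LK LD1_c1 LD2_c22 LD3_c19) (LK LD1_c2 LD2_c52 LD3_c19) Lrfl Lrfl
theorem f151901 : Led Lsl_bf (LP (LK LD1_c4 LD2_c34 LD3_c50)) = (LP (LK LD1_c2 LD2_c52 LD3_c19)) :=
  Lgr Lrot81 (Lpr_at (f151899 IH) (Lpr_bt (f25215 IH) (Lpr_at (K7.f151894 IH) (Lpr_bt (f22539 IH) (Lpr_at (f151900 IH) (Lpn (LP (LK LD1_c2 LD2_c52 LD3_c19))))))))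
theorem f599760 : Led Lsl_df (LP (LK LD1_c2 LD2_c52 LD3_c19)) = (LP (LK LD1_c4 LD2_c39 LD3_c33)) :=
  Lgr Lrot12 (Lpe (f151901 IH) (Lpr_dt (f157941 IH) (Lpr_bt (f599756 IH) (Lpn (LP (LK LD1_c4 LD2_c39 LD3_c33))))))
theorem f334915 : Led Lsl_ft (LP (LK LD1_c9 LD2_c14 LD3_c46)) = (LP (LK LD1_c4 LD2_c39 LD3_c33)) :=
  Lre_f IH (LK LD1_c9 LD2_c14 LD3_c46) (LK LD1_c4 LD2_c39 LD3_c33) Lrfl Lrfl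
theorem f599767 : Led Lsl_dt (LP (LK LD1_c5 LD2_c52 LD3_c5)) = (LP (LK LD1_c9 LD2_c14 LD3_c46)) :=
  Lgr Lrot60 (Lpe (K7.f151960 IH) (Lpr_df (f599760 IH) (Lpe (f334915 IH) (Lpn (LP (LK LD1_c9 LD2_c14 LD3_c46))))))
theorem f151892 : Led Lsl_at (LP (LK LD1_c4 LD2_c34 LD3_c56)) = (LP (LK LD1_c9 LD2_c6 LD3_c19)) :=
  Lre_a IH (LK LD1_c4 LD2_c34 LD3_c56) (LK LD1_c9 LD2_c6 LD3_c19) Lrfl Lrfl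
theorem f151891 : Led Lsl_bt (LP (LK LD1_c2 LD2_c14 LD3_c37)) = (LP (LK LD1_c4 LD2_c34 LD3_c56)) :=
  Lre_b IH (LK LD1_c2 LD2_c14 LD3_c37) (LK LD1_c4 LD2_c34 LD3_c56) Lrfl Lrfl
theorem f151893 : Led Lsl_bt (LP (LK LD1_c2 LD2_c52 LD3_c32)) = (LP (LK LD1_c1 LD2_c22 LD3_c23)) :=
  Lre_b IH (LK LD1_c2 LD2_c52 LD3_c32) (LK LD1_c1 LD2_c22 LD3_c23) Lrfl Lrfl
theorem f599758 : Led Lsl_af (LP (LK LD1_c2 LD2_c52 LD3_c32)) = (LP (LK LD1_c4 LD2_c39 LD3_c33)) :=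
  Lgr Lrot36 (Lpr_bt (f151893 IH) (Lpe (K7.f151882 IH) (Lpr_bt (f151891 IH) (Lpr_at (f151892 IH) (Lpr_bt (f599756 IH) (Lpn (LP (LK LD1_c4 LD2_c39 LD3_c33))))))))
theorem f599820 : Led Lsl_gf (LP (LK LD1_c5 LD2_c52 LD3_c32)) = (LP (LK LD1_c9 LD2_c14 LD3_c46)) :=
  Lgr Lrot47 (Lpr_gt (K42.f22599 IH) (Lpr_af (f599758 IH) (Lpe (f334915 IH) (Lpn (LP (LK LD1_c9 LD2_c14 LD3_c46))))))
theorem f567722 : Led Lsl_gt (LP (LK LD1_c9 LD2_c5 LD3_c39)) = (LP (LK LD1_c5 LD2_c49 LD3_c37)) :=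
  Lgr Lrot5 (Lpr_ft (K41.f567718 IH) (Lpr_at (K41.f567709 IH) (Lpe (K42.f211016 IH) (Lpn (LP (LK LD1_c5 LD2_c49 LD3_c37))))))
theorem f143136 : Led Lsl_dt (LP (LK LD1_c4 LD2_c34 LD3_c4)) = (LP (LK LD1_c9 LD2_c5 LD3_c39)) :=
  Lre_d IH (LK LD1_c4 LD2_c34 LD3_c4) (LK LD1_c9 LD2_c5 LD3_c39) Lrfl Lrfl
theorem f419046 : Led Lsl_et (LP (LK LD1_c9 LD2_c6 LD3_c4)) = (LP (LK LD1_c4 LD2_c34 LD3_c36)) :=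
  Lre_e IH (LK LD1_c9 LD2_c6 LD3_c4) (LK LD1_c4 LD2_c34 LD3_c36) Lrfl Lrfl
theorem f615663 : Led Lsl_df (LP (LK LD1_c5 LD2_c52 LD3_c32)) = (LP (LK LD1_c9 LD2_c6 LD3_c4)) :=
  Lgr Lrot132 (Lpr_gf (f599820 IH) (Lpe (f599767 IH) (Lpe (K42.f436225 IH) (Lpe (K42.f26564 IH) (Lpr_dt (K42.f615654 IH) (Lpe (f567722 IH) (Lpe (f143136 IH) (Lpe (K6.f143137 IH) (Lpq (K41.f537657 IH) (Lpe (K35.f500164 IH) (Lpe (f419046 IH) (Lpn (LP (LK LD1_c9 LD2_c6 LD3_c4))))))))))))))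
theorem f615669 : Led Lsl_dt (LP (LK LD1_c5 LD2_c52 LD3_c32)) = (LP (LK LD1_c9 LD2_c6 LD3_c4)) :=
  Lgr Lrot42 (Lpr_df (f615663 IH) (Lpn (LP (LK LD1_c9 LD2_c6 LD3_c4))))
theorem f22600 : Led Lsl_bt (LP (LK LD1_c11 LD2_c31 LD3_c34)) = (LP (LK LD1_c5 LD2_c52 LD3_c32)) :=
  Lre_b IH (LK LD1_c11 LD2_c31 LD3_c34) (LK LD1_c5 LD2_c52 LD3_c32) Lrfl Lrfl
theorem f615684 : Led Lsl_bt (LP (LK LD1_c9 LD2_c6 LD3_c4)) = (LP (LK LD1_c16 LD2_c57 LD3_c52)) :=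
  Lre_b IH (LK LD1_c9 LD2_c6 LD3_c4) (LK LD1_c16 LD2_c57 LD3_c52) Lrfl Lrfl
theorem f615685 : Led Lsl_df (LP (LK LD1_c11 LD2_c31 LD3_c34)) = (LP (LK LD1_c16 LD2_c57 LD3_c52)) :=
  Lgr Lrot12 (Lpr_bt (f22600 IH) (Lpr_dt (f615669 IH) (Lpr_bt (f615684 IH) (Lpn (LP (LK LD1_c16 LD2_c57 LD3_c52))))))
theorem f615687 : Led Lsl_et (LP (LK LD1_c9 LD2_c6 LD3_c3)) = (LP (LK LD1_c16 LD2_c57 LD3_c52)) :=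
  Lre_e IH (LK LD1_c9 LD2_c6 LD3_c3) (LK LD1_c16 LD2_c57 LD3_c52) Lrfl Lrfl
theorem f622890 : Led Lsl_df (LP (LK LD1_c9 LD2_c6 LD3_c3)) = (LP (LK LD1_c11 LD2_c30 LD3_c60)) :=
  Lgr Lrot70 (Lpr_et (f615687 IH) (Lpe (f615685 IH) (Lpe (K42.f622535 IH) (Lpe (K42.f416646 IH) (Lpr_et (K42.f622888 IH) (Lpn (LP (LK LD1_c11 LD2_c30 LD3_c60))))))))
theorem f622577 : Led Lsl_ft (LP (LK LD1_c5 LD2_c51 LD3_c52)) = (LP (LK LD1_c11 LD2_c30 LD3_c60)) :=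
  Lre_f IH (LK LD1_c5 LD2_c51 LD3_c52) (LK LD1_c11 LD2_c30 LD3_c60) Lrfl Lrfl
def v2938 : LQ := Led Lsl_gf K31.v409
theorem f536246 : Led Lsl_gf K31.v409 = v2938 :=
  Lrfl
theorem f139895 : Led Lsl_gt (LP (LK LD1_c2 LD2_c51 LD3_c23)) = (LP (LK LD1_c1 LD2_c21 LD3_c45)) :=
  Lre_g IH (LK LD1_c2 LD2_c51 LD3_c23) (LK LD1_c1 LD2_c21 LD3_c45) Lrfl Lrfl
theorem f537651 : v2938 = (LP (LK LD1_c2 LD2_c51 LD3_c23)) :=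
  Lefun (Lecon (f536246 IH) (K35.f537263 IH)) (Lfl_gt (f139895 IH))
theorem f535802 : Led Lsl_cf (LP (LK LD1_c5 LD2_c51 LD3_c56)) = (LP (LK LD1_c3 LD2_c3 LD3_c4)) :=
  Lgr Lrot108 (Lpr_ft (K41.f535800 IH) (Lpr_ct (K35.f24637 IH) (Lpr_ft (K32.f453016 IH) (Lpn (LP (LK LD1_c3 LD2_c3 LD3_c4))))))
theorem f536248 : Led Lsl_dt (LP (LK LD1_c2 LD2_c52 LD3_c12)) = v2938 :=
  Lgr Lrot57 (Lpe (K41.f535799 IH) (Lpr_cf (f535802 IH) (Lpe (K32.f503649 IH) (Lpr_dt (K32.f139888 IH) (Lpr_gt (K32.f24685 IH) (Lpr_dt (K5.f24611 IH) (Lpr_cf (K9.f139805 IH) (Lpr_df (K31.f452702 IH) (Lpr_gf (f536246 IH) (Lpn v2938))))))))))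
theorem f535791 : Led Lsl_bt (LP (LK LD1_c5 LD2_c51 LD3_c52)) = (LP (LK LD1_c2 LD2_c52 LD3_c12)) :=
  Lre_b IH (LK LD1_c5 LD2_c51 LD3_c52) (LK LD1_c2 LD2_c52 LD3_c12) Lrfl Lrfl
theorem f537655 : Led Lsl_bt (LP (LK LD1_c2 LD2_c51 LD3_c23)) = (LP (LK LD1_c5 LD2_c50 LD3_c24)) :=
  Lre_b IH (LK LD1_c2 LD2_c51 LD3_c23) (LK LD1_c5 LD2_c50 LD3_c24) Lrfl Lrfl
theorem f622572 : Led Lsl_df (LP (LK LD1_c5 LD2_c51 LD3_c52)) = (LP (LK LD1_c5 LD2_c50 LD3_c24)) :=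
  Lgr Lrot12 (Lpr_bt (f535791 IH) (Lpr_dt (f536248 IH) (Lpqs (f537651 IH) (Lpr_bt (f537655 IH) (Lpn (LP (LK LD1_c5 LD2_c50 LD3_c24)))))))
theorem f622894 : Led Lsl_ft (LP (LK LD1_c9 LD2_c6 LD3_c3)) = (LP (LK LD1_c5 LD2_c50 LD3_c24)) :=
  Lgr Lrot54 (Lpr_df (f622890 IH) (Lpe (f622577 IH) (Lpr_df (f622572 IH) (Lpn (LP (LK LD1_c5 LD2_c50 LD3_c24))))))
theorem f615171 : Led Lsl_ft (LP (LK LD1_c12 LD2_c17 LD3_c4)) = (LP (LK LD1_c9 LD2_c25 LD3_c48)) :=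
  Lgr Lrot54 (Lpe (K42.f438668 IH) (Lpr_ff (K42.f615165 IH) (Lpe (K42.f570770 IH) (Lpn (LP (LK LD1_c9 LD2_c25 LD3_c48))))))
theorem f570774 : Led Lsl_at (LP (LK LD1_c9 LD2_c25 LD3_c48)) = (LP (LK LD1_c4 LD2_c59 LD3_c37)) :=
  Lgr Lrot100 (Lpr_af (K42.f570772 IH) (Lpn (LP (LK LD1_c4 LD2_c59 LD3_c37))))
theorem f570792 : Led Lsl_gt (LP (LK LD1_c9 LD2_c49 LD3_c39)) = (LP (LK LD1_c4 LD2_c59 LD3_c37)) :=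
  Lre_g IH (LK LD1_c9 LD2_c49 LD3_c39) (LK LD1_c4 LD2_c59 LD3_c37) Lrfl Lrfl
theorem f615271 : Led Lsl_gt (LP (LK LD1_c12 LD2_c17 LD3_c4)) = (LP (LK LD1_c9 LD2_c49 LD3_c39)) :=
  Lgr Lrot5 (Lpr_ft (f615171 IH) (Lpr_at (f570774 IH) (Lpe (f570792 IH) (Lpn (LP (LK LD1_c9 LD2_c49 LD3_c39))))))
theorem f643180 : Led Lsl_at (LP (LK LD1_c5 LD2_c50 LD3_c24)) = (LP (LK LD1_c9 LD2_c49 LD3_c39)) :=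
  Lgr Lrot26 (Lpe (f622894 IH) (Lpr_gt (K42.f643176 IH) (Lpr_gt (f615271 IH) (Lpn (LP (LK LD1_c9 LD2_c49 LD3_c39))))))
theorem f622574 : Led Lsl_dt (LP (LK LD1_c5 LD2_c51 LD3_c52)) = (LP (LK LD1_c5 LD2_c50 LD3_c24)) :=
  Lgr Lrot42 (Lpr_df (f622572 IH) (Lpn (LP (LK LD1_c5 LD2_c50 LD3_c24))))
theorem f570796 : Led Lsl_dt (LP (LK LD1_c9 LD2_c49 LD3_c39)) = (LP (LK LD1_c9 LD2_c47 LD3_c58)) :=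
  Lre_d IH (LK LD1_c9 LD2_c49 LD3_c39) (LK LD1_c9 LD2_c47 LD3_c58) Lrfl Lrfl
theorem f643184 : Led Lsl_af (LP (LK LD1_c5 LD2_c51 LD3_c52)) = (LP (LK LD1_c9 LD2_c47 LD3_c58)) :=
  Lgr Lrot117 (Lpr_dt (f622574 IH) (Lpr_at (f643180 IH) (Lpr_dt (f570796 IH) (Lpn (LP (LK LD1_c9 LD2_c47 LD3_c58))))))
theorem f535817 : Led Lsl_et (LP (LK LD1_c5 LD2_c51 LD3_c52)) = (LP (LK LD1_c2 LD2_c52 LD3_c10)) :=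
  Lre_e IH (LK LD1_c5 LD2_c51 LD3_c52) (LK LD1_c2 LD2_c52 LD3_c10) Lrfl Lrfl
def v4893 : LQ := Led Lsl_at (LP (LK LD1_c2 LD2_c52 LD3_c10))
theorem f640760 : Led Lsl_at (LP (LK LD1_c2 LD2_c52 LD3_c10)) = v4893 :=
  Lrfl
theorem f643188 : Led Lsl_et (LP (LK LD1_c4 LD2_c58 LD3_c43)) = (LP (LK LD1_c9 LD2_c47 LD3_c58)) :=
  Lre_e IH (LK LD1_c4 LD2_c58 LD3_c43) (LK LD1_c9 LD2_c47 LD3_c58) Lrfl Lrfl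
theorem f643194 : v4893 = (LP (LK LD1_c4 LD2_c58 LD3_c43)) :=
  (Llr Lrot80 (Lpe (f640760 IH) (Lpe (f535817 IH) (Lpr_af (f643184 IH) (Lpe (f643188 IH) (Lpn (LP (LK LD1_c4 LD2_c58 LD3_c43)))))))).symm
theorem f163614 : Led Lsl_bt (LP (LK LD1_c2 LD2_c52 LD3_c10)) = (LP (LK LD1_c1 LD2_c22 LD3_c5)) :=
  Lre_b IH (LK LD1_c2 LD2_c52 LD3_c10) (LK LD1_c1 LD2_c22 LD3_c5) Lrfl Lrfl
theorem f627863 : Led Lsl_ff (LP (LK LD1_c2 LD2_c52 LD3_c10)) = K42.v3911 :=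
  Lgr Lrot25 (Lpr_bt (f163614 IH) (Lpr_ft (K35.f500213 IH) (Lpqs (K35.f623411 IH) (Lpr_bt (K42.f627861 IH) (Lpn K42.v3911)))))
theorem f209966 : Led Lsl_gt (LP (LK LD1_c2 LD2_c27 LD3_c11)) = (LP (LK LD1_c4 LD2_c58 LD3_c43)) :=
  Lre_g IH (LK LD1_c2 LD2_c27 LD3_c11) (LK LD1_c4 LD2_c58 LD3_c43) Lrfl Lrfl
def v4548 : LQ := Led Lsl_gf (LP (LK LD1_c2 LD2_c27 LD3_c11))
theorem f636060 : Led Lsl_gf (LP (LK LD1_c2 LD2_c27 LD3_c11)) = v4548 :=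
  Lrfl
theorem f643197 : K42.v3911 = v4548 :=
  (Llr Lrot52 (Lpe (f627863 IH) (Lpr_at (f640760 IH) (Lpqs (f643194 IH) (Lpe (f209966 IH) (Lpr_gf (f636060 IH) (Lpn v4548))))))).symm
theorem f138960 : Led Lsl_bt (LP (LK LD1_c4 LD2_c58 LD3_c23)) = (LP (LK LD1_c2 LD2_c27 LD3_c11)) :=
  Lre_b IH (LK LD1_c4 LD2_c58 LD3_c23) (LK LD1_c2 LD2_c27 LD3_c11) Lrfl Lrfl
theorem f206753 : Led Lsl_at (LP (LK LD1_c3 LD2_c17 LD3_c51)) = (LP (LK LD1_c4 LD2_c38 LD3_c7)) :=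
  Lgr Lrot100 (Lpr_af (K11.f206751 IH) (Lpn (LP (LK LD1_c4 LD2_c38 LD3_c7))))
theorem f209957 : Led Lsl_af (LP (LK LD1_c4 LD2_c39 LD3_c59)) = (LP (LK LD1_c3 LD2_c2 LD3_c3)) :=
  Lgr Lrot117 (Lpe (K8.f157039 IH) (Lpr_at (f206753 IH) (Lpe (K6.f100348 IH) (Lpn (LP (LK LD1_c3 LD2_c2 LD3_c3))))))
theorem f157028 : Led Lsl_et (LP (LK LD1_c4 LD2_c39 LD3_c59)) = (LP (LK LD1_c9 LD2_c15 LD3_c25)) :=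
  Lre_e IH (LK LD1_c4 LD2_c39 LD3_c59) (LK LD1_c9 LD2_c15 LD3_c25) Lrfl Lrfl
theorem f99699 : Led Lsl_et (LP (LK LD1_c6 LD2_c10 LD3_c52)) = (LP (LK LD1_c3 LD2_c2 LD3_c3)) :=
  Lre_e IH (LK LD1_c6 LD2_c10 LD3_c52) (LK LD1_c3 LD2_c2 LD3_c3) Lrfl Lrfl
theorem f209959 : Led Lsl_at (LP (LK LD1_c9 LD2_c15 LD3_c25)) = (LP (LK LD1_c6 LD2_c10 LD3_c52)) :=
  Lgr Lrot80 (Lpe (f157028 IH) (Lpr_af (f209957 IH) (Lpe (f99699 IH) (Lpn (LP (LK LD1_c6 LD2_c10 LD3_c52))))))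
theorem f99700 : Led Lsl_et (LP (LK LD1_c4 LD2_c25 LD3_c48)) = (LP (LK LD1_c8 LD2_c49 LD3_c1)) :=
  Lre_e IH (LK LD1_c4 LD2_c25 LD3_c48) (LK LD1_c8 LD2_c49 LD3_c1) Lrfl Lrfl
theorem f99701 : Led Lsl_cf (LP (LK LD1_c6 LD2_c10 LD3_c52)) = (LP (LK LD1_c8 LD2_c49 LD3_c1)) :=
  Lgr Lrot39 (Lpr_et (f99699 IH) (Lpr_ct (K6.f99662 IH) (Lpr_et (f99700 IH) (Lpn (LP (LK LD1_c8 LD2_c49 LD3_c1))))))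
theorem f99712 : Led Lsl_ct (LP (LK LD1_c6 LD2_c10 LD3_c52)) = (LP (LK LD1_c8 LD2_c49 LD3_c1)) :=
  Lgr Lrot59 (Lpr_cf (f99701 IH) (Lpn (LP (LK LD1_c8 LD2_c49 LD3_c1))))
theorem f138955 : Led Lsl_et (LP (LK LD1_c4 LD2_c58 LD3_c23)) = (LP (LK LD1_c2 LD2_c27 LD3_c2)) :=
  Lre_e IH (LK LD1_c4 LD2_c58 LD3_c23) (LK LD1_c2 LD2_c27 LD3_c2) Lrfl Lrfl
theorem f138956 : Led Lsl_at (LP (LK LD1_c8 LD2_c49 LD3_c1)) = (LP (LK LD1_c4 LD2_c58 LD3_c23)) :=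
  Lgr Lrot80 (Lpe (f99700 IH) (Lpr_af (K36.f138949 IH) (Lpe (f138955 IH) (Lpn (LP (LK LD1_c4 LD2_c58 LD3_c23))))))
theorem f209963 : Led Lsl_cf (LP (LK LD1_c9 LD2_c15 LD3_c25)) = (LP (LK LD1_c4 LD2_c58 LD3_c23)) :=
  Lgr Lrot1 (Lpr_at (f209959 IH) (Lpr_ct (f99712 IH) (Lpr_at (f138956 IH) (Lpn (LP (LK LD1_c4 LD2_c58 LD3_c23))))))
theorem f643198 : Led Lsl_gf (LP (LK LD1_c5 LD2_c55 LD3_c11)) = (LP (LK LD1_c9 LD2_c15 LD3_c25)) :=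
  Lgr Lrot126 (Lpe (K42.f435597 IH) (Lpr_bt (K42.f435604 IH) (Lpr_gt (K24.f452820 IH) (Lpr_ct (K42.f452348 IH) (Lpe (K32.f452350 IH) (Lpr_cf (K42.f491588 IH) (Lpr_bt (K42.f627861 IH) (Lpqs (f643197 IH) (Lpe (f636060 IH) (Lpe (f138960 IH) (Lpe (f209963 IH) (Lpn (LP (LK LD1_c9 LD2_c15 LD3_c25))))))))))))))
theorem f643199 : Led Lsl_gt (LP (LK LD1_c9 LD2_c15 LD3_c25)) = (LP (LK LD1_c5 LD2_c55 LD3_c11)) :=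
  Leop (Lpr_gf (f643198 IH) (Lpn (LP (LK LD1_c9 LD2_c15 LD3_c25))))
theorem seed_296 : LEOK LG_g (LK LD1_c9 LD2_c15 LD3_c25) :=
  Leoe_g (LK LD1_c9 LD2_c15 LD3_c25) (f643199 IH)
def v5004 : LQ := Led Lsl_at (LP (LK LD1_c2 LD2_c55 LD3_c34))
theorem f641284 : Led Lsl_at (LP (LK LD1_c2 LD2_c55 LD3_c34)) = v5004 :=
  Lrfl
theorem f641285 : Led Lsl_af (LP (LK LD1_c2 LD2_c55 LD3_c34)) = v5004 :=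
  Lgr Lrot0 (Lpr_at (f641284 IH) (Lpn v5004))
theorem f386687 : Led Lsl_gt (LP (LK LD1_c1 LD2_c23 LD3_c42)) = (LP (LK LD1_c2 LD2_c55 LD3_c34)) :=
  Lre_g IH (LK LD1_c1 LD2_c23 LD3_c42) (LK LD1_c2 LD2_c55 LD3_c34) Lrfl Lrfl
def v1670 : LQ := Led Lsl_gf (LP (LK LD1_c1 LD2_c23 LD3_c42))
theorem f500674 : Led Lsl_gf (LP (LK LD1_c1 LD2_c23 LD3_c42)) = v1670 :=
  Lrfl
theorem f641287 : Led Lsl_ft v1670 = v5004 :=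
  Lgr Lrot2 (Lpe (f500674 IH) (Lpr_gt (f386687 IH) (Lpr_af (f641285 IH) (Lpn v5004))))
theorem f641288 : Led Lsl_ff v1670 = v5004 :=
  Lgr Lrot3 (Lpr_ft (f641287 IH) (Lpn v5004))
def v4201 : LQ := Led Lsl_bt (LP (LK LD1_c2 LD2_c14 LD3_c61))
theorem f631837 : Led Lsl_bt (LP (LK LD1_c2 LD2_c14 LD3_c61)) = v4201 :=
  Lrfl
theorem f442469 : Led Lsl_bt (LP (LK LD1_c2 LD2_c53 LD3_c59)) = (LP (LK LD1_c1 LD2_c22 LD3_c59)) :=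
  Lre_b IH (LK LD1_c2 LD2_c53 LD3_c59) (LK LD1_c1 LD2_c22 LD3_c59) Lrfl Lrfl
theorem f631839 : Led Lsl_ff (LP (LK LD1_c2 LD2_c53 LD3_c59)) = v4201 :=
  Lgr Lrot25 (Lpr_bt (f442469 IH) (Lpr_ft (K35.f500477 IH) (Lpqs (K35.f507958 IH) (Lpr_bt (f631837 IH) (Lpn v4201)))))
theorem f501432 : Led Lsl_ct (LP (LK LD1_c2 LD2_c56 LD3_c27)) = (LP (LK LD1_c6 LD2_c0 LD3_c20)) :=
  Lre_c IH (LK LD1_c2 LD2_c56 LD3_c27) (LK LD1_c6 LD2_c0 LD3_c20) Lrfl Lrfl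
def v5039 : LQ := Led Lsl_bt (LP (LK LD1_c2 LD2_c56 LD3_c27))
theorem f641448 : Led Lsl_bt (LP (LK LD1_c2 LD2_c56 LD3_c27)) = v5039 :=
  Lrfl
theorem f507816 : Led Lsl_dt (LP (LK LD1_c9 LD2_c13 LD3_c36)) = (LP (LK LD1_c4 LD2_c38 LD3_c54)) :=
  Lre_d IH (LK LD1_c9 LD2_c13 LD3_c36) (LK LD1_c4 LD2_c38 LD3_c54) Lrfl Lrfl
def v1712 : LQ := Led Lsl_bt (LP (LK LD1_c1 LD2_c24 LD3_c25))
theorem f500988 : Led Lsl_bt (LP (LK LD1_c1 LD2_c24 LD3_c25)) = v1712 :=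
  Lrfl
theorem f500989 : Led Lsl_bf (LP (LK LD1_c1 LD2_c24 LD3_c25)) = v1712 :=
  Lgr Lrot24 (Lpr_bt (f500988 IH) (Lpn v1712))
theorem f507815 : Led Lsl_ff v1712 = (LP (LK LD1_c4 LD2_c38 LD3_c54)) :=
  Lgr Lrot25 (Lpe (f500989 IH) (Lpr_ft (K35.f500990 IH) (Lpqs (K35.f506947 IH) (Lpr_bt (K42.f27093 IH) (Lpn (LP (LK LD1_c4 LD2_c38 LD3_c54)))))))
theorem f507817 : Led Lsl_ft v1712 = (LP (LK LD1_c4 LD2_c38 LD3_c54)) :=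
  Lgr Lrot48 (Lpr_ff (f507815 IH) (Lpn (LP (LK LD1_c4 LD2_c38 LD3_c54))))
def v5038 : LQ := Led Lsl_ft (LP (LK LD1_c2 LD2_c56 LD3_c26))
theorem f641444 : Led Lsl_ft (LP (LK LD1_c2 LD2_c56 LD3_c26)) = v5038 :=
  Lrfl
def v5037 : LQ := Led Lsl_bt (LP (LK LD1_c2 LD2_c56 LD3_c26))
theorem f641442 : Led Lsl_bt (LP (LK LD1_c2 LD2_c56 LD3_c26)) = v5037 :=
  Lrfl
theorem f641443 : Led Lsl_bf (LP (LK LD1_c2 LD2_c56 LD3_c26)) = v5037 :=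
  Lgr Lrot24 (Lpr_bt (f641442 IH) (Lpn v5037))
theorem f425980 : Led Lsl_at (LP (LK LD1_c11 LD2_c41 LD3_c41)) = (LP (LK LD1_c5 LD2_c58 LD3_c45)) :=
  Lre_a IH (LK LD1_c11 LD2_c41 LD3_c41) (LK LD1_c5 LD2_c58 LD3_c45) Lrfl Lrfl
theorem f642530 : Led Lsl_gf (LP (LK LD1_c5 LD2_c58 LD3_c45)) = (LP (LK LD1_c9 LD2_c8 LD3_c44)) :=
  Lgr Lrot76 (Lpe (f425980 IH) (Lpe (K24.f425966 IH) (Lpr_gt (K42.f642528 IH) (Lpn (LP (LK LD1_c9 LD2_c8 LD3_c44))))))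
theorem f426747 : Led Lsl_dt (LP (LK LD1_c5 LD2_c58 LD3_c45)) = (LP (LK LD1_c11 LD2_c41 LD3_c60)) :=
  Lre_d IH (LK LD1_c5 LD2_c58 LD3_c45) (LK LD1_c11 LD2_c41 LD3_c60) Lrfl Lrfl
theorem f428147 : Led Lsl_gt (LP (LK LD1_c11 LD2_c41 LD3_c60)) = (LP (LK LD1_c20 LD2_c41 LD3_c39)) :=
  Lre_g IH (LK LD1_c11 LD2_c41 LD3_c60) (LK LD1_c20 LD2_c41 LD3_c39) Lrfl Lrfl
theorem f425986 : Led Lsl_et (LP (LK LD1_c5 LD2_c58 LD3_c37)) = (LP (LK LD1_c2 LD2_c55 LD3_c44)) :=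
  Lre_e IH (LK LD1_c5 LD2_c58 LD3_c37) (LK LD1_c2 LD2_c55 LD3_c44) Lrfl Lrfl
theorem f426798 : Led Lsl_gt (LP (LK LD1_c20 LD2_c41 LD3_c39)) = (LP (LK LD1_c11 LD2_c41 LD3_c40)) :=
  Lre_g IH (LK LD1_c20 LD2_c41 LD3_c39) (LK LD1_c11 LD2_c41 LD3_c40) Lrfl Lrfl
theorem f76153 : Led Lsl_et (LP (LK LD1_c1 LD2_c24 LD3_c2)) = (LP (LK LD1_c2 LD2_c56 LD3_c22)) :=
  Lre_e IH (LK LD1_c1 LD2_c24 LD3_c2) (LK LD1_c2 LD2_c56 LD3_c22) Lrfl Lrfl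
theorem f76156 : Led Lsl_gt (LP (LK LD1_c2 LD2_c56 LD3_c22)) = (LP (LK LD1_c6 LD2_c0 LD3_c5)) :=
  Lre_g IH (LK LD1_c2 LD2_c56 LD3_c22) (LK LD1_c6 LD2_c0 LD3_c5) Lrfl Lrfl
theorem f76157 : Led Lsl_et (LP (LK LD1_c11 LD2_c44 LD3_c41)) = (LP (LK LD1_c6 LD2_c0 LD3_c5)) :=
  Lre_e IH (LK LD1_c11 LD2_c44 LD3_c41) (LK LD1_c6 LD2_c0 LD3_c5) Lrfl Lrfl
theorem f428140 : Led Lsl_df (LP (LK LD1_c20 LD2_c41 LD3_c39)) = (LP (LK LD1_c11 LD2_c44 LD3_c41)) :=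
  Lgr Lrot170 (Lpr_gt (f426798 IH) (Lpe (K42.f426011 IH) (Lpr_et (f425986 IH) (Lpr_gt (K43.f426097 IH) (Lpr_dt (K8.f112187 IH) (Lpr_gt (K8.f160996 IH) (Lpr_df (K11.f76140 IH) (Lpr_et (f76153 IH) (Lpr_gt (f76156 IH) (Lpe (f76157 IH) (Lpn (LP (LK LD1_c11 LD2_c44 LD3_c41)))))))))))))
theorem f428143 : Led Lsl_dt (LP (LK LD1_c20 LD2_c41 LD3_c39)) = (LP (LK LD1_c11 LD2_c44 LD3_c41)) :=
  Lgr Lrot42 (Lpr_df (f428140 IH) (Lpn (LP (LK LD1_c11 LD2_c44 LD3_c41))))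
theorem f151694 : Led Lsl_dt (LP (LK LD1_c9 LD2_c6 LD3_c26)) = (LP (LK LD1_c16 LD2_c58 LD3_c20)) :=
  Lre_d IH (LK LD1_c9 LD2_c6 LD3_c26) (LK LD1_c16 LD2_c58 LD3_c20) Lrfl Lrfl
theorem f151705 : Led Lsl_dt (LP (LK LD1_c9 LD2_c6 LD3_c16)) = (LP (LK LD1_c16 LD2_c58 LD3_c0)) :=
  Lre_d IH (LK LD1_c9 LD2_c6 LD3_c16) (LK LD1_c16 LD2_c58 LD3_c0) Lrfl Lrfl
theorem f79866 : Led Lsl_gt (LP (LK LD1_c4 LD2_c34 LD3_c32)) = (LP (LK LD1_c9 LD2_c5 LD3_c56)) :=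
  Lre_g IH (LK LD1_c4 LD2_c34 LD3_c32) (LK LD1_c9 LD2_c5 LD3_c56) Lrfl Lrfl
theorem f92242 : Led Lsl_et (LP (LK LD1_c16 LD2_c57 LD3_c43)) = (LP (LK LD1_c9 LD2_c5 LD3_c56)) :=
  Lre_e IH (LK LD1_c16 LD2_c57 LD3_c43) (LK LD1_c9 LD2_c5 LD3_c56) Lrfl Lrfl
theorem f92243 : Led Lsl_dt (LP (LK LD1_c16 LD2_c57 LD3_c43)) = (LP (LK LD1_c26 LD2_c53 LD3_c21)) :=
  Lre_d IH (LK LD1_c16 LD2_c57 LD3_c43) (LK LD1_c26 LD2_c53 LD3_c21) Lrfl Lrfl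
theorem f428831 : Led Lsl_gf (LP (LK LD1_c16 LD2_c58 LD3_c0)) = (LP (LK LD1_c26 LD2_c53 LD3_c21)) :=
  Lgr Lrot145 (Lpe (f151705 IH) (Lpr_et (K8.f151679 IH) (Lpr_gt (K11.f157936 IH) (Lpr_dt (K6.f112119 IH) (Lpr_gt (K3.f12059 IH) (Lpe (K6.f92049 IH) (Lpr_et (K6.f92051 IH) (Lpr_gt (f79866 IH) (Lpe (f92242 IH) (Lpr_dt (f92243 IH) (Lpn (LP (LK LD1_c26 LD2_c53 LD3_c21)))))))))))))
theorem f25370 : Led Lsl_at (LP (LK LD1_c9 LD2_c6 LD3_c25)) = (LP (LK LD1_c16 LD2_c58 LD3_c0)) :=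
  Lre_a IH (LK LD1_c9 LD2_c6 LD3_c25) (LK LD1_c16 LD2_c58 LD3_c0) Lrfl Lrfl
theorem f25339 : Led Lsl_ft (LP (LK LD1_c16 LD2_c58 LD3_c20)) = (LP (LK LD1_c9 LD2_c6 LD3_c25)) :=
  Lre_f IH (LK LD1_c16 LD2_c58 LD3_c20) (LK LD1_c9 LD2_c6 LD3_c25) Lrfl Lrfl
theorem f428839 : Led Lsl_gt (LP (LK LD1_c16 LD2_c58 LD3_c20)) = (LP (LK LD1_c26 LD2_c53 LD3_c21)) :=
  Lgr Lrot5 (Lpr_ft (f25339 IH) (Lpr_at (f25370 IH) (Lpr_gf (f428831 IH) (Lpn (LP (LK LD1_c26 LD2_c53 LD3_c21))))))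
theorem f428844 : Led Lsl_dt (LP (LK LD1_c26 LD2_c53 LD3_c21)) = (LP (LK LD1_c16 LD2_c57 LD3_c43)) :=
  Lre_d IH (LK LD1_c26 LD2_c53 LD3_c21) (LK LD1_c16 LD2_c57 LD3_c43) Lrfl Lrfl
theorem f643269 : Led Lsl_cf (LP (LK LD1_c11 LD2_c44 LD3_c41)) = (LP (LK LD1_c16 LD2_c57 LD3_c43)) :=
  Lgr Lrot14 (Lpe (f428143 IH) (Lpe (f428147 IH) (Lpe (f426747 IH) (Lpr_gf (f642530 IH) (Lpe (K42.f445625 IH) (Lpr_gt (K42.f151693 IH) (Lpr_dt (f151694 IH) (Lpr_gt (f428839 IH) (Lpr_dt (f428844 IH) (Lpn (LP (LK LD1_c16 LD2_c57 LD3_c43))))))))))))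
theorem f643273 : Led Lsl_et (LP (LK LD1_c9 LD2_c5 LD3_c56)) = (LP (LK LD1_c16 LD2_c57 LD3_c43)) :=
  Lre_e IH (LK LD1_c9 LD2_c5 LD3_c56) (LK LD1_c16 LD2_c57 LD3_c43) Lrfl Lrfl
theorem f643274 : Led Lsl_ct (LP (LK LD1_c6 LD2_c0 LD3_c5)) = (LP (LK LD1_c9 LD2_c5 LD3_c56)) :=
  Lgr Lrot15 (Lpe (f76157 IH) (Lpr_cf (f643269 IH) (Lpe (f643273 IH) (Lpn (LP (LK LD1_c9 LD2_c5 LD3_c56))))))
theorem f500828 : Led Lsl_bt (LP (LK LD1_c1 LD2_c24 LD3_c4)) = (LP (LK LD1_c2 LD2_c56 LD3_c22)) :=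
  Lre_b IH (LK LD1_c1 LD2_c24 LD3_c4) (LK LD1_c2 LD2_c56 LD3_c22) Lrfl Lrfl
theorem f500830 : Led Lsl_ct (LP (LK LD1_c1 LD2_c24 LD3_c4)) = (LP (LK LD1_c2 LD2_c56 LD3_c25)) :=
  Lre_c IH (LK LD1_c1 LD2_c24 LD3_c4) (LK LD1_c2 LD2_c56 LD3_c25) Lrfl Lrfl
theorem f156789 : Led Lsl_gt (LP (LK LD1_c6 LD2_c0 LD3_c14)) = (LP (LK LD1_c2 LD2_c56 LD3_c25)) :=
  Lre_g IH (LK LD1_c6 LD2_c0 LD3_c14) (LK LD1_c2 LD2_c56 LD3_c25) Lrfl Lrfl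
theorem f428848 : Led Lsl_gt (LP (LK LD1_c9 LD2_c5 LD3_c56)) = (LP (LK LD1_c16 LD2_c57 LD3_c41)) :=
  Lre_g IH (LK LD1_c9 LD2_c5 LD3_c56) (LK LD1_c16 LD2_c57 LD3_c41) Lrfl Lrfl
theorem f437163 : Led Lsl_ct (LP (LK LD1_c9 LD2_c5 LD3_c52)) = (LP (LK LD1_c16 LD2_c57 LD3_c41)) :=
  Lre_c IH (LK LD1_c9 LD2_c5 LD3_c52) (LK LD1_c16 LD2_c57 LD3_c41) Lrfl Lrfl
theorem f437258 : Led Lsl_bt (LP (LK LD1_c9 LD2_c5 LD3_c27)) = (LP (LK LD1_c5 LD2_c48 LD3_c11)) :=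
  Lgr Lrot127 (Lpr_bf (K32.f146438 IH) (Lpn (LP (LK LD1_c5 LD2_c48 LD3_c11))))
theorem f135912 : Led Lsl_et (LP (LK LD1_c4 LD2_c34 LD3_c26)) = (LP (LK LD1_c2 LD2_c14 LD3_c11)) :=
  Lre_e IH (LK LD1_c4 LD2_c34 LD3_c26) (LK LD1_c2 LD2_c14 LD3_c11) Lrfl Lrfl
theorem f135913 : Led Lsl_ft (LP (LK LD1_c9 LD2_c5 LD3_c52)) = (LP (LK LD1_c4 LD2_c34 LD3_c26)) :=
  Lre_f IH (LK LD1_c9 LD2_c5 LD3_c52) (LK LD1_c4 LD2_c34 LD3_c26) Lrfl Lrfl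
theorem f135914 : Led Lsl_et (LP (LK LD1_c1 LD2_c21 LD3_c6)) = (LP (LK LD1_c2 LD2_c50 LD3_c6)) :=
  Lre_e IH (LK LD1_c1 LD2_c21 LD3_c6) (LK LD1_c2 LD2_c50 LD3_c6) Lrfl Lrfl
theorem f135916 : Led Lsl_ef (LP (LK LD1_c9 LD2_c5 LD3_c52)) = (LP (LK LD1_c5 LD2_c48 LD3_c11)) :=
  Lgr Lrot21 (Lpr_ft (f135913 IH) (Lpr_et (f135912 IH) (Lpr_ft (K6.f135906 IH) (Lpr_et (f135914 IH) (Lpr_ft (K32.f135915 IH) (Lpn (LP (LK LD1_c5 LD2_c48 LD3_c11))))))))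
theorem f567749 : Led Lsl_bt (LP (LK LD1_c9 LD2_c5 LD3_c52)) = (LP (LK LD1_c4 LD2_c34 LD3_c39)) :=
  Lgr Lrot119 (Lpr_ef (f135916 IH) (Lpe (f437258 IH) (Lpr_ef (K41.f567746 IH) (Lpn (LP (LK LD1_c4 LD2_c34 LD3_c39))))))
theorem f205149 : Led Lsl_et (LP (LK LD1_c1 LD2_c4 LD3_c12)) = (LP (LK LD1_c2 LD2_c14 LD3_c16)) :=
  Lre_e IH (LK LD1_c1 LD2_c4 LD3_c12) (LK LD1_c2 LD2_c14 LD3_c16) Lrfl Lrfl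
theorem f452706 : Led Lsl_at (LP (LK LD1_c2 LD2_c14 LD3_c16)) = K31.v409 :=
  Lgr Lrot80 (Lpe (f205149 IH) (Lpr_af (K38.f451462 IH) (Lpr_ef (K35.f452703 IH) (Lpn K31.v409))))
theorem f92222 : Led Lsl_ft (LP (LK LD1_c4 LD2_c34 LD3_c39)) = (LP (LK LD1_c2 LD2_c14 LD3_c16)) :=
  Lre_f IH (LK LD1_c4 LD2_c34 LD3_c39) (LK LD1_c2 LD2_c14 LD3_c16) Lrfl Lrfl
theorem f536247 : Led Lsl_gt (LP (LK LD1_c4 LD2_c34 LD3_c39)) = v2938 :=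
  Lgr Lrot5 (Lpr_ft (f92222 IH) (Lpr_at (f452706 IH) (Lpr_gf (f536246 IH) (Lpn v2938))))
theorem f139896 : Led Lsl_bt (LP (LK LD1_c5 LD2_c50 LD3_c24)) = (LP (LK LD1_c2 LD2_c51 LD3_c23)) :=
  Lre_b IH (LK LD1_c5 LD2_c50 LD3_c24) (LK LD1_c2 LD2_c51 LD3_c23) Lrfl Lrfl
theorem f643281 : Led Lsl_cf (LP (LK LD1_c6 LD2_c0 LD3_c14)) = (LP (LK LD1_c5 LD2_c50 LD3_c24)) :=
  Lgr Lrot160 (Lpr_gt (f156789 IH) (Lpe (f500830 IH) (Lpr_bt (f500828 IH) (Lpr_gt (f76156 IH) (Lpr_ct (f643274 IH) (Lpr_gt (f428848 IH) (Lpe (f437163 IH) (Lpr_bt (f567749 IH) (Lpr_gt (f536247 IH) (Lpqs (f537651 IH) (Lpe (f139896 IH) (Lpn (LP (LK LD1_c5 LD2_c50 LD3_c24))))))))))))))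
theorem f502003 : Led Lsl_gf (LP (LK LD1_c6 LD2_c0 LD3_c14)) = (LP (LK LD1_c9 LD2_c30 LD3_c6)) :=
  Lgr Lrot47 (Lpr_gt (f156789 IH) (Lpr_af (K37.f501986 IH) (Lpe (K37.f501457 IH) (Lpn (LP (LK LD1_c9 LD2_c30 LD3_c6))))))
theorem f56928 : Led Lsl_ct (LP (LK LD1_c4 LD2_c48 LD3_c49)) = (LP (LK LD1_c9 LD2_c30 LD3_c6)) :=
  Lre_c IH (LK LD1_c4 LD2_c48 LD3_c49) (LK LD1_c9 LD2_c30 LD3_c6) Lrfl Lrfl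
theorem f75065 : Led Lsl_gt (LP (LK LD1_c1 LD2_c24 LD3_c4)) = (LP (LK LD1_c2 LD2_c56 LD3_c26)) :=
  Lre_g IH (LK LD1_c1 LD2_c24 LD3_c4) (LK LD1_c2 LD2_c56 LD3_c26) Lrfl Lrfl
theorem f502735 : Led Lsl_gf (LP (LK LD1_c4 LD2_c48 LD3_c49)) = (LP (LK LD1_c2 LD2_c56 LD3_c26)) :=
  Lgr Lrot76 (Lpr_af (K37.f501422 IH) (Lpe (K37.f452871 IH) (Lpr_gt (f75065 IH) (Lpn (LP (LK LD1_c2 LD2_c56 LD3_c26))))))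
theorem f139894 : Led Lsl_bt (LP (LK LD1_c0 LD2_c37 LD3_c50)) = (LP (LK LD1_c1 LD2_c21 LD3_c45)) :=
  Lre_b IH (LK LD1_c0 LD2_c37 LD3_c50) (LK LD1_c1 LD2_c21 LD3_c45) Lrfl Lrfl
theorem f643295 : v5037 = (LP (LK LD1_c1 LD2_c24 LD3_c25)) :=
  (Llr Lrot165 (Lpe (f641443 IH) (Lpe (f502735 IH) (Lpr_ct (f56928 IH) (Lpe (f502003 IH) (Lpr_cf (f643281 IH) (Lpr_bt (f139896 IH) (Lpr_gt (f139895 IH) (Lpe (f139894 IH) (Lpe (K9.f139805 IH) (Lpr_gt (K9.f24620 IH) (Lpr_cf (K35.f435573 IH) (Lpn (LP (LK LD1_c1 LD2_c24 LD3_c25))))))))))))))).symm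
theorem f643296 : (LP (LK LD1_c2 LD2_c56 LD3_c26)) = v1712 :=
  Lefun (Lecon (Lfl_bf (f641443 IH)) (f643295 IH)) (f500988 IH)
theorem f643304 : (LP (LK LD1_c4 LD2_c38 LD3_c54)) = v5038 :=
  Lefun (Lecon (f507817 IH) (f643296 IH).symm) (f641444 IH)
def v5036 : LQ := Led Lsl_at (LP (LK LD1_c2 LD2_c56 LD3_c26))
theorem f641435 : Led Lsl_at (LP (LK LD1_c2 LD2_c56 LD3_c26)) = v5036 :=
  Lrfl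
theorem f641436 : Led Lsl_af (LP (LK LD1_c2 LD2_c56 LD3_c26)) = v5036 :=
  Lgr Lrot0 (Lpr_at (f641435 IH) (Lpn v5036))
theorem f75060 : Led Lsl_gt (LP (LK LD1_c2 LD2_c56 LD3_c27)) = (LP (LK LD1_c1 LD2_c24 LD3_c4)) :=
  Lre_g IH (LK LD1_c2 LD2_c56 LD3_c27) (LK LD1_c1 LD2_c24 LD3_c4) Lrfl Lrfl
theorem f641438 : Led Lsl_ft (LP (LK LD1_c2 LD2_c56 LD3_c27)) = v5036 :=
  Lgr Lrot2 (Lpr_gt (f75060 IH) (Lpr_gt (f75065 IH) (Lpr_af (f641436 IH) (Lpn v5036))))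
theorem f641445 : Led Lsl_af (LP (LK LD1_c2 LD2_c56 LD3_c27)) = v5038 :=
  Lgr Lrot45 (Lpr_ft (f641438 IH) (Lpe (f641436 IH) (Lpr_ft (f641444 IH) (Lpn v5038))))
theorem f501429 : Led Lsl_dt (LP (LK LD1_c2 LD2_c56 LD3_c27)) = (LP (LK LD1_c6 LD2_c0 LD3_c21)) :=
  Lre_d IH (LK LD1_c2 LD2_c56 LD3_c27) (LK LD1_c6 LD2_c0 LD3_c21) Lrfl Lrfl
theorem f643330 : Led Lsl_af (LP (LK LD1_c9 LD2_c13 LD3_c36)) = (LP (LK LD1_c6 LD2_c0 LD3_c21)) :=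
  Lgr Lrot117 (Lpr_dt (f507816 IH) (Lpqs (f643304 IH) (Lpe (f641445 IH) (Lpr_dt (f501429 IH) (Lpn (LP (LK LD1_c6 LD2_c0 LD3_c21)))))))
theorem f76139 : Led Lsl_dt (LP (LK LD1_c6 LD2_c0 LD3_c18)) = (LP (LK LD1_c2 LD2_c56 LD3_c26)) :=
  Lre_d IH (LK LD1_c6 LD2_c0 LD3_c18) (LK LD1_c2 LD2_c56 LD3_c26) Lrfl Lrfl
theorem f507818 : Led Lsl_dt (LP (LK LD1_c4 LD2_c38 LD3_c54)) = (LP (LK LD1_c9 LD2_c13 LD3_c36)) :=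
  Lre_d IH (LK LD1_c4 LD2_c38 LD3_c54) (LK LD1_c9 LD2_c13 LD3_c36) Lrfl Lrfl
theorem f643309 : Led Lsl_ff (LP (LK LD1_c6 LD2_c0 LD3_c18)) = (LP (LK LD1_c9 LD2_c13 LD3_c36)) :=
  Lgr Lrot19 (Lpr_dt (f76139 IH) (Lpqs (f643296 IH) (Lpr_ft (f507817 IH) (Lpr_dt (f507818 IH) (Lpn (LP (LK LD1_c9 LD2_c13 LD3_c36)))))))
theorem f643313 : Led Lsl_ft (LP (LK LD1_c6 LD2_c0 LD3_c18)) = (LP (LK LD1_c9 LD2_c13 LD3_c36)) :=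
  Lgr Lrot48 (Lpr_ff (f643309 IH) (Lpn (LP (LK LD1_c9 LD2_c13 LD3_c36))))
theorem f412335 : Led Lsl_bt (LP (LK LD1_c9 LD2_c13 LD3_c36)) = (LP (LK LD1_c4 LD2_c38 LD3_c55)) :=
  Lre_b IH (LK LD1_c9 LD2_c13 LD3_c36) (LK LD1_c4 LD2_c38 LD3_c55) Lrfl Lrfl
theorem f506969 : Led Lsl_af (LP (LK LD1_c2 LD2_c57 LD3_c24)) = (LP (LK LD1_c4 LD2_c38 LD3_c55)) :=
  Lgr Lrot0 (Lpr_at (K35.f506967 IH) (Lpn (LP (LK LD1_c4 LD2_c38 LD3_c55))))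
theorem f507788 : Led Lsl_ft (LP (LK LD1_c2 LD2_c57 LD3_c21)) = (LP (LK LD1_c4 LD2_c38 LD3_c55)) :=
  Lgr Lrot2 (Lpr_gt (K32.f419101 IH) (Lpe (K32.f443735 IH) (Lpr_af (f506969 IH) (Lpn (LP (LK LD1_c4 LD2_c38 LD3_c55))))))
theorem f507792 : Led Lsl_ff (LP (LK LD1_c2 LD2_c57 LD3_c21)) = (LP (LK LD1_c4 LD2_c38 LD3_c55)) :=
  Lgr Lrot3 (Lpr_ft (f507788 IH) (Lpn (LP (LK LD1_c4 LD2_c38 LD3_c55))))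
theorem f643315 : Led Lsl_bf (LP (LK LD1_c6 LD2_c0 LD3_c18)) = (LP (LK LD1_c2 LD2_c57 LD3_c21)) :=
  Lgr Lrot61 (Lpr_ft (f643313 IH) (Lpr_bt (f412335 IH) (Lpe (f507792 IH) (Lpn (LP (LK LD1_c2 LD2_c57 LD3_c21))))))
theorem f506965 : Led Lsl_ft (LP (LK LD1_c2 LD2_c57 LD3_c24)) = (LP (LK LD1_c4 LD2_c38 LD3_c53)) :=
  Lgr Lrot48 (Lpr_ff (K35.f506962 IH) (Lpn (LP (LK LD1_c4 LD2_c38 LD3_c53))))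
theorem f507790 : Led Lsl_af (LP (LK LD1_c2 LD2_c57 LD3_c21)) = (LP (LK LD1_c4 LD2_c38 LD3_c53)) :=
  Lgr Lrot45 (Lpr_ft (f507788 IH) (Lpe (f506969 IH) (Lpr_ft (f506965 IH) (Lpn (LP (LK LD1_c4 LD2_c38 LD3_c53))))))
theorem f204253 : Led Lsl_dt (LP (LK LD1_c4 LD2_c38 LD3_c53)) = (LP (LK LD1_c2 LD2_c16 LD3_c27)) :=
  Lre_d IH (LK LD1_c4 LD2_c38 LD3_c53) (LK LD1_c2 LD2_c16 LD3_c27) Lrfl Lrfl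
theorem f207334 : Led Lsl_dt (LP (LK LD1_c4 LD2_c37 LD3_c58)) = (LP (LK LD1_c9 LD2_c11 LD3_c35)) :=
  Lre_d IH (LK LD1_c4 LD2_c37 LD3_c58) (LK LD1_c9 LD2_c11 LD3_c35) Lrfl Lrfl
theorem f614640 : Led Lsl_bf (LP (LK LD1_c4 LD2_c38 LD3_c53)) = (LP (LK LD1_c9 LD2_c11 LD3_c35)) :=
  Lgr Lrot93 (Lpr_dt (f204253 IH) (Lpr_bt (K42.f614634 IH) (Lpr_dt (f207334 IH) (Lpn (LP (LK LD1_c9 LD2_c11 LD3_c35))))))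
theorem f207332 : Led Lsl_dt (LP (LK LD1_c9 LD2_c11 LD3_c35)) = (LP (LK LD1_c4 LD2_c37 LD3_c58)) :=
  Lre_d IH (LK LD1_c9 LD2_c11 LD3_c35) (LK LD1_c4 LD2_c37 LD3_c58) Lrfl Lrfl
theorem f206814 : Led Lsl_dt (LP (LK LD1_c3 LD2_c20 LD3_c22)) = (LP (LK LD1_c6 LD2_c44 LD3_c30)) :=
  Lre_d IH (LK LD1_c3 LD2_c20 LD3_c22) (LK LD1_c6 LD2_c44 LD3_c30) Lrfl Lrfl
theorem f615007 : Led Lsl_af (LP (LK LD1_c9 LD2_c11 LD3_c35)) = (LP (LK LD1_c6 LD2_c44 LD3_c30)) :=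
  Lgr Lrot117 (Lpr_dt (f207332 IH) (Lpr_at (K42.f615003 IH) (Lpr_dt (f206814 IH) (Lpn (LP (LK LD1_c6 LD2_c44 LD3_c30))))))
theorem f452980 : Led Lsl_dt (LP (LK LD1_c9 LD2_c30 LD3_c7)) = (LP (LK LD1_c4 LD2_c48 LD3_c48)) :=
  Lre_d IH (LK LD1_c9 LD2_c30 LD3_c7) (LK LD1_c4 LD2_c48 LD3_c48) Lrfl Lrfl
theorem f643075 : Led Lsl_bt (LP (LK LD1_c6 LD2_c44 LD3_c30)) = (LP (LK LD1_c9 LD2_c30 LD3_c7)) :=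
  Lgr Lrot95 (Lpe (f206814 IH) (Lpr_bf (K42.f643070 IH) (Lpe (f452980 IH) (Lpn (LP (LK LD1_c9 LD2_c30 LD3_c7))))))
theorem f643259 : Led Lsl_bf (LP (LK LD1_c6 LD2_c44 LD3_c30)) = (LP (LK LD1_c9 LD2_c30 LD3_c7)) :=
  Lgr Lrot24 (Lpr_bt (f643075 IH) (Lpn (LP (LK LD1_c9 LD2_c30 LD3_c7))))
theorem f643319 : Led Lsl_at (LP (LK LD1_c6 LD2_c0 LD3_c18)) = (LP (LK LD1_c9 LD2_c30 LD3_c7)) :=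
  Lgr Lrot67 (Lpr_bf (f643315 IH) (Lpr_af (f507790 IH) (Lpr_bf (f614640 IH) (Lpr_af (f615007 IH) (Lpr_bf (f643259 IH) (Lpn (LP (LK LD1_c9 LD2_c30 LD3_c7))))))))
theorem f643338 : Led Lsl_ft (LP (LK LD1_c9 LD2_c30 LD3_c7)) = (LP (LK LD1_c6 LD2_c0 LD3_c21)) :=
  Lgr Lrot101 (Lpe (f643319 IH) (Lpr_ff (f643309 IH) (Lpr_af (f643330 IH) (Lpn (LP (LK LD1_c6 LD2_c0 LD3_c21))))))
theorem f207345 : Led Lsl_gf (LP (LK LD1_c4 LD2_c37 LD3_c59)) = (LP (LK LD1_c3 LD2_c20 LD3_c23)) :=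
  Lgr Lrot47 (Lpr_gt (K11.f207344 IH) (Lpr_af (K35.f207325 IH) (Lpe (K35.f206893 IH) (Lpn (LP (LK LD1_c3 LD2_c20 LD3_c23))))))
theorem f614668 : Led Lsl_at (LP (LK LD1_c2 LD2_c57 LD3_c23)) = (LP (LK LD1_c4 LD2_c37 LD3_c59)) :=
  Lgr Lrot26 (Lpr_ff (K42.f614644 IH) (Lpr_gt (K42.f207328 IH) (Lpe (f207345 IH) (Lpn (LP (LK LD1_c4 LD2_c37 LD3_c59))))))
theorem f614671 : Led Lsl_af (LP (LK LD1_c2 LD2_c57 LD3_c23)) = (LP (LK LD1_c4 LD2_c37 LD3_c59)) :=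
  Lgr Lrot0 (Lpr_at (f614668 IH) (Lpn (LP (LK LD1_c4 LD2_c37 LD3_c59))))
theorem f615011 : Led Lsl_ff (LP (LK LD1_c4 LD2_c37 LD3_c59)) = (LP (LK LD1_c3 LD2_c20 LD3_c22)) :=
  Lgr Lrot30 (Lpe (f614671 IH) (Lpr_ft (K42.f614666 IH) (Lpr_at (K42.f615003 IH) (Lpn (LP (LK LD1_c3 LD2_c20 LD3_c22))))))
theorem f207349 : Led Lsl_dt (LP (LK LD1_c4 LD2_c37 LD3_c59)) = (LP (LK LD1_c9 LD2_c11 LD3_c37)) :=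
  Lre_d IH (LK LD1_c4 LD2_c37 LD3_c59) (LK LD1_c9 LD2_c11 LD3_c37) Lrfl Lrfl
theorem f206823 : Led Lsl_dt (LP (LK LD1_c6 LD2_c44 LD3_c30)) = (LP (LK LD1_c3 LD2_c20 LD3_c22)) :=
  Lre_d IH (LK LD1_c6 LD2_c44 LD3_c30) (LK LD1_c3 LD2_c20 LD3_c22) Lrfl Lrfl
theorem f615013 : Led Lsl_ft (LP (LK LD1_c9 LD2_c11 LD3_c37)) = (LP (LK LD1_c6 LD2_c44 LD3_c30)) :=
  Lgr Lrot54 (Lpe (f207349 IH) (Lpr_ff (f615011 IH) (Lpe (f206823 IH) (Lpn (LP (LK LD1_c6 LD2_c44 LD3_c30))))))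
theorem f643349 : Led Lsl_bf (LP (LK LD1_c9 LD2_c11 LD3_c37)) = (LP (LK LD1_c6 LD2_c0 LD3_c21)) :=
  Lgr Lrot61 (Lpr_ft (f615013 IH) (Lpr_bt (f643075 IH) (Lpr_ft (f643338 IH) (Lpn (LP (LK LD1_c6 LD2_c0 LD3_c21))))))
theorem f207355 : Led Lsl_dt (LP (LK LD1_c9 LD2_c11 LD3_c37)) = (LP (LK LD1_c4 LD2_c37 LD3_c59)) :=
  Lre_d IH (LK LD1_c9 LD2_c11 LD3_c37) (LK LD1_c4 LD2_c37 LD3_c59) Lrfl Lrfl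
theorem f641449 : Led Lsl_bf (LP (LK LD1_c2 LD2_c56 LD3_c27)) = v5039 :=
  Lgr Lrot24 (Lpr_bt (f641448 IH) (Lpn v5039))
theorem f643357 : (LP (LK LD1_c4 LD2_c37 LD3_c59)) = v5039 :=
  (Llr Lrot79 (Lpe (f207355 IH) (Lpr_bf (f643349 IH) (Lpe (f501429 IH) (Lpr_bf (f641449 IH) (Lpn v5039)))))).symm
theorem f506222 : Led Lsl_gt (LP (LK LD1_c11 LD2_c28 LD3_c52)) = (LP (LK LD1_c12 LD2_c17 LD3_c30)) :=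
  Lgr Lrot5 (Lpr_ft (K42.f506210 IH) (Lpr_at (K42.f506209 IH) (Lpe (K42.f79861 IH) (Lpn (LP (LK LD1_c12 LD2_c17 LD3_c30))))))
theorem f505045 : Led Lsl_ct (LP (LK LD1_c5 LD2_c50 LD3_c28)) = (LP (LK LD1_c11 LD2_c28 LD3_c52)) :=
  Lre_c IH (LK LD1_c5 LD2_c50 LD3_c28) (LK LD1_c11 LD2_c28 LD3_c52) Lrfl Lrfl
theorem f25949 : Led Lsl_bt (LP (LK LD1_c0 LD2_c18 LD3_c50)) = (LP (LK LD1_c0 LD2_c42 LD3_c9)) :=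
  Lre_b IH (LK LD1_c0 LD2_c18 LD3_c50) (LK LD1_c0 LD2_c42 LD3_c9) Lrfl Lrfl
theorem f453549 : Led Lsl_bf (LP (LK LD1_c0 LD2_c42 LD3_c10)) = K35.v480 :=
  Lgr Lrot93 (Lpr_dt (K11.f25938 IH) (Lpr_bt (f25949 IH) (Lpr_dt (K35.f453548 IH) (Lpn K35.v480))))
theorem f500979 : Led Lsl_bt (LP (LK LD1_c1 LD2_c24 LD3_c27)) = K35.v1710 :=
  Lgr Lrot119 (Lpr_ef (K11.f68922 IH) (Lpr_bf (f453549 IH) (Lpr_ef (K35.f500977 IH) (Lpn K35.v1710))))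
theorem f68982 : Led Lsl_gt (LP (LK LD1_c2 LD2_c57 LD3_c28)) = (LP (LK LD1_c6 LD2_c2 LD3_c44)) :=
  Lre_g IH (LK LD1_c2 LD2_c57 LD3_c28) (LK LD1_c6 LD2_c2 LD3_c44) Lrfl Lrfl
theorem f204319 : Led Lsl_gt (LP (LK LD1_c6 LD2_c2 LD3_c44)) = (LP (LK LD1_c9 LD2_c13 LD3_c43)) :=
  Lgr Lrot46 (Lpe (f68982 IH) (Lpr_ft (K11.f68980 IH) (Lpr_at (K11.f204305 IH) (Lpn (LP (LK LD1_c9 LD2_c13 LD3_c43))))))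
theorem f438474 : Led Lsl_cf (LP (LK LD1_c6 LD2_c2 LD3_c44)) = (LP (LK LD1_c4 LD2_c34 LD3_c36)) :=
  Lgr Lrot169 (Lpr_gt (f204319 IH) (Lpr_ct (K11.f61101 IH) (Lpe (K29.f61112 IH) (Lpr_cf (K32.f61098 IH) (Lpe (K24.f435550 IH) (Lpe (K42.f435554 IH) (Lpr_gf (K32.f438469 IH) (Lpe (K31.f79867 IH) (Lpr_gt (K35.f79850 IH) (Lpn (LP (LK LD1_c4 LD2_c34 LD3_c36))))))))))))
theorem f438501 : Led Lsl_bt (LP (LK LD1_c4 LD2_c34 LD3_c36)) = (LP (LK LD1_c9 LD2_c6 LD3_c3)) :=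
  Lre_b IH (LK LD1_c4 LD2_c34 LD3_c36) (LK LD1_c9 LD2_c6 LD3_c3) Lrfl Lrfl
theorem f615250 : Led Lsl_ff (LP (LK LD1_c12 LD2_c17 LD3_c4)) = (LP (LK LD1_c9 LD2_c25 LD3_c48)) :=
  Lgr Lrot30 (Lpr_at (K42.f615201 IH) (Lpr_ft (K42.f570782 IH) (Lpe (K42.f570772 IH) (Lpn (LP (LK LD1_c9 LD2_c25 LD3_c48))))))
theorem f498330 : Led Lsl_ct (LP (LK LD1_c4 LD2_c46 LD3_c36)) = (LP (LK LD1_c9 LD2_c25 LD3_c48)) :=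
  Lre_c IH (LK LD1_c4 LD2_c46 LD3_c36) (LK LD1_c9 LD2_c25 LD3_c48) Lrfl Lrfl
theorem f615252 : Led Lsl_ct (LP (LK LD1_c12 LD2_c17 LD3_c4)) = (LP (LK LD1_c9 LD2_c25 LD3_c53)) :=
  Lgr Lrot40 (Lpr_ff (f615250 IH) (Lpe (f498330 IH) (Lpe (K42.f497064 IH) (Lpn (LP (LK LD1_c9 LD2_c25 LD3_c53))))))
def v5044 : LQ := Led Lsl_gf (LP (LK LD1_c2 LD2_c56 LD3_c37))
theorem f641464 : Led Lsl_gf (LP (LK LD1_c2 LD2_c56 LD3_c37)) = v5044 :=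
  Lrfl
theorem f641465 : Led Lsl_gt (LP (LK LD1_c9 LD2_c25 LD3_c53)) = v5044 :=
  Lgr Lrot5 (Lpr_ft (K42.f497064 IH) (Lpr_at (K32.f497052 IH) (Lpr_gf (f641464 IH) (Lpn v5044))))
theorem f643376 : (LP (LK LD1_c6 LD2_c0 LD3_c20)) = v5044 :=
  (Llr Lrot63 (Lpe (f501432 IH) (Lpr_bt (f641448 IH) (Lpq (f643357 IH) (Lpr_gt (K11.f207344 IH) (Lpq (K35.f538049 IH) (Lpe (f500979 IH) (Lpr_ct (K11.f68939 IH) (Lpr_gt (f68982 IH) (Lpr_cf (f438474 IH) (Lpr_bt (f438501 IH) (Lpr_gt (K42.f643176 IH) (Lpr_ct (f615252 IH) (Lpr_gt (f641465 IH) (Lpn v5044))))))))))))))).symm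
theorem f69027 : Led Lsl_et (LP (LK LD1_c3 LD2_c23 LD3_c61)) = (LP (LK LD1_c1 LD2_c38 LD3_c17)) :=
  Lre_e IH (LK LD1_c3 LD2_c23 LD3_c61) (LK LD1_c1 LD2_c38 LD3_c17) Lrfl Lrfl
theorem f570785 : Led Lsl_bf (LP (LK LD1_c3 LD2_c23 LD3_c61)) = (LP (LK LD1_c4 LD2_c59 LD3_c37)) :=
  Lgr Lrot96 (Lpr_et (f69027 IH) (Lpe (K4.f69015 IH) (Lpr_et (K42.f570780 IH) (Lpn (LP (LK LD1_c4 LD2_c59 LD3_c37))))))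
theorem f643387 : Led Lsl_gf (LP (LK LD1_c5 LD2_c50 LD3_c28)) = (LP (LK LD1_c3 LD2_c23 LD3_c61)) :=
  Lgr Lrot181 (Lpr_ct (f505045 IH) (Lpr_gt (f506222 IH) (Lpr_cf (K42.f614626 IH) (Lpr_bt (K40.f207336 IH) (Lpe (f207345 IH) (Lpqs (f643357 IH) (Lpe (f641448 IH) (Lpr_ct (f501432 IH) (Lpqs (f643376 IH) (Lpe (f641464 IH) (Lpr_cf (K42.f570787 IH) (Lpe (f570785 IH) (Lpn (LP (LK LD1_c3 LD2_c23 LD3_c61)))))))))))))))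
theorem f505038 : Led Lsl_bf (LP (LK LD1_c5 LD2_c50 LD3_c28)) = (LP (LK LD1_c6 LD2_c21 LD3_c37)) :=
  Lgr Lrot24 (Lpr_bt (K35.f505036 IH) (Lpn (LP (LK LD1_c6 LD2_c21 LD3_c37))))
theorem f501427 : Led Lsl_gt (LP (LK LD1_c4 LD2_c48 LD3_c49)) = (LP (LK LD1_c2 LD2_c56 LD3_c27)) :=
  Lgr Lrot5 (Lpr_ft (K36.f495137 IH) (Lpq (K37.f501419 IH) (Lpe (K37.f500820 IH) (Lpe (f75060 IH) (Lpn (LP (LK LD1_c2 LD2_c56 LD3_c27)))))))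
theorem f56927 : Led Lsl_bt (LP (LK LD1_c9 LD2_c29 LD3_c55)) = (LP (LK LD1_c4 LD2_c48 LD3_c49)) :=
  Lre_b IH (LK LD1_c9 LD2_c29 LD3_c55) (LK LD1_c4 LD2_c48 LD3_c49) Lrfl Lrfl
theorem f559430 : Led Lsl_ft (LP (LK LD1_c6 LD2_c0 LD3_c25)) = (LP (LK LD1_c11 LD2_c45 LD3_c17)) :=
  Lre_f IH (LK LD1_c6 LD2_c0 LD3_c25) (LK LD1_c11 LD2_c45 LD3_c17) Lrfl Lrfl
theorem f559412 : Led Lsl_gt (LP (LK LD1_c6 LD2_c0 LD3_c25)) = (LP (LK LD1_c11 LD2_c45 LD3_c14)) :=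
  Lre_g IH (LK LD1_c6 LD2_c0 LD3_c25) (LK LD1_c11 LD2_c45 LD3_c14) Lrfl Lrfl
theorem f559431 : Led Lsl_gf (LP (LK LD1_c9 LD2_c49 LD3_c55)) = (LP (LK LD1_c11 LD2_c45 LD3_c14)) :=
  Lgr Lrot76 (Lpr_af (K42.f559424 IH) (Lpe (f559430 IH) (Lpr_gt (f559412 IH) (Lpn (LP (LK LD1_c11 LD2_c45 LD3_c14))))))
theorem f643393 : Led Lsl_ct (LP (LK LD1_c6 LD2_c21 LD3_c37)) = (LP (LK LD1_c11 LD2_c45 LD3_c14)) :=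
  Lgr Lrot64 (Lpe (f505038 IH) (Lpr_gf (f643387 IH) (Lpr_bf (f570785 IH) (Lpe (K42.f570787 IH) (Lpr_gf (f641464 IH) (Lpq (f643376 IH) (Lpe (f501432 IH) (Lpe (f501427 IH) (Lpe (f56927 IH) (Lpr_ct (K42.f56914 IH) (Lpr_gf (f559431 IH) (Lpn (LP (LK LD1_c11 LD2_c45 LD3_c14))))))))))))))
theorem f500144 : Led Lsl_at (LP (LK LD1_c2 LD2_c51 LD3_c25)) = (LP (LK LD1_c5 LD2_c50 LD3_c28)) :=
  Lre_a IH (LK LD1_c2 LD2_c51 LD3_c25) (LK LD1_c5 LD2_c50 LD3_c28) Lrfl Lrfl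
theorem f504680 : Led Lsl_at (LP (LK LD1_c6 LD2_c22 LD3_c2)) = (LP (LK LD1_c3 LD2_c8 LD3_c42)) :=
  Lre_a IH (LK LD1_c6 LD2_c22 LD3_c2) (LK LD1_c3 LD2_c8 LD3_c42) Lrfl Lrfl
theorem f506191 : Led Lsl_ft (LP (LK LD1_c5 LD2_c50 LD3_c28)) = (LP (LK LD1_c6 LD2_c22 LD3_c2)) :=
  Lgr Lrot101 (Lpe (f500144 IH) (Lpr_ff (K42.f506189 IH) (Lpe (f504680 IH) (Lpn (LP (LK LD1_c6 LD2_c22 LD3_c2))))))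
theorem f506228 : Led Lsl_gt (LP (LK LD1_c5 LD2_c50 LD3_c28)) = (LP (LK LD1_c6 LD2_c22 LD3_c1)) :=
  Lgr Lrot5 (Lpr_ft (f506191 IH) (Lpr_at (f504680 IH) (Lpe (K42.f443701 IH) (Lpn (LP (LK LD1_c6 LD2_c22 LD3_c1))))))
theorem f614884 : Led Lsl_bf (LP (LK LD1_c6 LD2_c2 LD3_c15)) = (LP (LK LD1_c2 LD2_c57 LD3_c27)) :=
  Lgr Lrot34 (Lpe (K42.f204614 IH) (Lpe (K11.f204222 IH) (Lpr_ct (K32.f204242 IH) (Lpr_gf (K11.f153578 IH) (Lpr_cf (K32.f436255 IH) (Lpe (K9.f139883 IH) (Lpe (K9.f139804 IH) (Lpr_ct (K42.f141153 IH) (Lpe (K41.f139820 IH) (Lpr_cf (K42.f614867 IH) (Lpn (LP (LK LD1_c2 LD2_c57 LD3_c27)))))))))))))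
theorem f614890 : Led Lsl_ft (LP (LK LD1_c6 LD2_c2 LD3_c15)) = (LP (LK LD1_c2 LD2_c57 LD3_c18)) :=
  Lgr Lrot75 (Lpr_bf (f614884 IH) (Lpr_ff (K41.f508240 IH) (Lpe (K42.f614591 IH) (Lpn (LP (LK LD1_c2 LD2_c57 LD3_c18))))))
theorem f69259 : Led Lsl_gt (LP (LK LD1_c6 LD2_c2 LD3_c15)) = (LP (LK LD1_c2 LD2_c57 LD3_c13)) :=
  Lre_g IH (LK LD1_c6 LD2_c2 LD3_c15) (LK LD1_c2 LD2_c57 LD3_c13) Lrfl Lrfl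
theorem f69257 : Led Lsl_gt (LP (LK LD1_c2 LD2_c57 LD3_c13)) = (LP (LK LD1_c6 LD2_c2 LD3_c14)) :=
  Lre_g IH (LK LD1_c2 LD2_c57 LD3_c13) (LK LD1_c6 LD2_c2 LD3_c14) Lrfl Lrfl
theorem f614898 : Led Lsl_af (LP (LK LD1_c6 LD2_c2 LD3_c14)) = (LP (LK LD1_c2 LD2_c57 LD3_c18)) :=
  Lgr Lrot31 (Lpe (f69257 IH) (Lpe (f69259 IH) (Lpr_ft (f614890 IH) (Lpn (LP (LK LD1_c2 LD2_c57 LD3_c18))))))
theorem f614900 : Led Lsl_at (LP (LK LD1_c6 LD2_c2 LD3_c14)) = (LP (LK LD1_c2 LD2_c57 LD3_c18)) :=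
  Lgr Lrot100 (Lpr_af (f614898 IH) (Lpn (LP (LK LD1_c2 LD2_c57 LD3_c18))))
theorem f69223 : Led Lsl_gt (LP (LK LD1_c2 LD2_c57 LD3_c19)) = (LP (LK LD1_c1 LD2_c24 LD3_c24)) :=
  Lre_g IH (LK LD1_c2 LD2_c57 LD3_c19) (LK LD1_c1 LD2_c24 LD3_c24) Lrfl Lrfl
theorem f614912 : Led Lsl_ff (LP (LK LD1_c6 LD2_c2 LD3_c14)) = (LP (LK LD1_c2 LD2_c57 LD3_c19)) :=
  Lgr Lrot52 (Lpr_at (f614900 IH) (Lpe (K42.f69213 IH) (Lpe (f69223 IH) (Lpn (LP (LK LD1_c2 LD2_c57 LD3_c19))))))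
theorem f614918 : Led Lsl_ft (LP (LK LD1_c6 LD2_c2 LD3_c14)) = (LP (LK LD1_c2 LD2_c57 LD3_c19)) :=
  Lgr Lrot48 (Lpr_ff (f614912 IH) (Lpn (LP (LK LD1_c2 LD2_c57 LD3_c19))))
theorem f614920 : Led Lsl_af (LP (LK LD1_c6 LD2_c2 LD3_c15)) = (LP (LK LD1_c2 LD2_c57 LD3_c19)) :=
  Lgr Lrot45 (Lpr_ft (f614890 IH) (Lpe (f614898 IH) (Lpr_ft (f614918 IH) (Lpn (LP (LK LD1_c2 LD2_c57 LD3_c19))))))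
theorem f204542 : Led Lsl_ct (LP (LK LD1_c6 LD2_c2 LD3_c30)) = (LP (LK LD1_c2 LD2_c57 LD3_c19)) :=
  Lre_c IH (LK LD1_c6 LD2_c2 LD3_c30) (LK LD1_c2 LD2_c57 LD3_c19) Lrfl Lrfl
theorem f614956 : Led Lsl_at (LP (LK LD1_c11 LD2_c48 LD3_c55)) = (LP (LK LD1_c6 LD2_c2 LD3_c30)) :=
  Lgr Lrot107 (Lpe (K42.f419122 IH) (Lpr_af (f614920 IH) (Lpe (f204542 IH) (Lpn (LP (LK LD1_c6 LD2_c2 LD3_c30))))))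
theorem f204615 : Led Lsl_ct (LP (LK LD1_c11 LD2_c48 LD3_c55)) = (LP (LK LD1_c6 LD2_c2 LD3_c15)) :=
  Lre_c IH (LK LD1_c11 LD2_c48 LD3_c55) (LK LD1_c6 LD2_c2 LD3_c15) Lrfl Lrfl
theorem f614892 : Led Lsl_ff (LP (LK LD1_c11 LD2_c48 LD3_c55)) = (LP (LK LD1_c6 LD2_c2 LD3_c27)) :=
  Lgr Lrot23 (Lpr_ct (f204615 IH) (Lpr_ft (f614890 IH) (Lpr_ct (K42.f443703 IH) (Lpn (LP (LK LD1_c6 LD2_c2 LD3_c27))))))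
theorem f614961 : Led Lsl_gt (LP (LK LD1_c11 LD2_c49 LD3_c14)) = (LP (LK LD1_c6 LD2_c2 LD3_c30)) :=
  Lgr Lrot46 (Lpe (K42.f443704 IH) (Lpe (f614892 IH) (Lpr_at (f614956 IH) (Lpn (LP (LK LD1_c6 LD2_c2 LD3_c30))))))
theorem f204220 : Led Lsl_ct (LP (LK LD1_c2 LD2_c57 LD3_c19)) = (LP (LK LD1_c6 LD2_c2 LD3_c30)) :=
  Lre_c IH (LK LD1_c2 LD2_c57 LD3_c19) (LK LD1_c6 LD2_c2 LD3_c30) Lrfl Lrfl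
theorem f76131 : Led Lsl_gt (LP (LK LD1_c6 LD2_c0 LD3_c24)) = (LP (LK LD1_c2 LD2_c56 LD3_c28)) :=
  Lre_g IH (LK LD1_c6 LD2_c0 LD3_c24) (LK LD1_c2 LD2_c56 LD3_c28) Lrfl Lrfl
theorem f643406 : Led Lsl_bt (LP (LK LD1_c2 LD2_c57 LD3_c19)) = (LP (LK LD1_c6 LD2_c0 LD3_c24)) :=
  Lgr Lrot130 (Lpr_ct (f204220 IH) (Lpe (f614961 IH) (Lpe (K42.f443705 IH) (Lpr_bt (K42.f443702 IH) (Lpe (f506228 IH) (Lpr_bf (f505038 IH) (Lpr_ct (f643393 IH) (Lpe (f559412 IH) (Lpe (K42.f76126 IH) (Lpe (f76131 IH) (Lpn (LP (LK LD1_c6 LD2_c0 LD3_c24)))))))))))))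
theorem f500978 : Led Lsl_dt (LP (LK LD1_c6 LD2_c2 LD3_c31)) = (LP (LK LD1_c2 LD2_c57 LD3_c19)) :=
  Lre_d IH (LK LD1_c6 LD2_c2 LD3_c31) (LK LD1_c2 LD2_c57 LD3_c19) Lrfl Lrfl
theorem f559452 : Led Lsl_dt (LP (LK LD1_c6 LD2_c0 LD3_c24)) = (LP (LK LD1_c5 LD2_c58 LD3_c27)) :=
  Lre_d IH (LK LD1_c6 LD2_c0 LD3_c24) (LK LD1_c5 LD2_c58 LD3_c27) Lrfl Lrfl
theorem f643415 : Led Lsl_bf (LP (LK LD1_c6 LD2_c2 LD3_c31)) = (LP (LK LD1_c5 LD2_c58 LD3_c27)) :=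
  Lgr Lrot93 (Lpr_dt (f500978 IH) (Lpr_bt (f643406 IH) (Lpr_dt (f559452 IH) (Lpn (LP (LK LD1_c5 LD2_c58 LD3_c27))))))
theorem f494447 : Led Lsl_et (LP (LK LD1_c1 LD2_c4 LD3_c53)) = (LP (LK LD1_c2 LD2_c15 LD3_c47)) :=
  Lre_e IH (LK LD1_c1 LD2_c4 LD3_c53) (LK LD1_c2 LD2_c15 LD3_c47) Lrfl Lrfl
theorem f560096 : Led Lsl_gt (LP (LK LD1_c2 LD2_c15 LD3_c47)) = (LP (LK LD1_c4 LD2_c37 LD3_c14)) :=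
  Lre_g IH (LK LD1_c2 LD2_c15 LD3_c47) (LK LD1_c4 LD2_c37 LD3_c14) Lrfl Lrfl
theorem f622249 : Led Lsl_ef (LP (LK LD1_c4 LD2_c37 LD3_c14)) = (LP (LK LD1_c6 LD2_c2 LD3_c31)) :=
  Lgr Lrot17 (Lpe (f560096 IH) (Lpe (f494447 IH) (Lpr_dt (K5.f99946 IH) (Lpe (K5.f25135 IH) (Lpe (K37.f80162 IH) (Lpe (K7.f58856 IH) (Lpe (K35.f207320 IH) (Lpq (K35.f538049 IH) (Lpe (K35.f500976 IH) (Lpe (f69223 IH) (Lpe (f500978 IH) (Lpn (LP (LK LD1_c6 LD2_c2 LD3_c31))))))))))))))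
theorem f641286 : Led Lsl_et (LP (LK LD1_c2 LD2_c55 LD3_c34)) = (LP (LK LD1_c5 LD2_c58 LD3_c27)) :=
  Lre_e IH (LK LD1_c2 LD2_c55 LD3_c34) (LK LD1_c5 LD2_c58 LD3_c27) Lrfl Lrfl
def v5005 : LQ := Led Lsl_bt (LP (LK LD1_c2 LD2_c55 LD3_c34))
theorem f641289 : Led Lsl_bt (LP (LK LD1_c2 LD2_c55 LD3_c34)) = v5005 :=
  Lrfl
theorem f641290 : Led Lsl_bf (LP (LK LD1_c2 LD2_c55 LD3_c34)) = v5005 :=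
  Lgr Lrot24 (Lpr_bt (f641289 IH) (Lpn v5005))
theorem f643425 : (LP (LK LD1_c4 LD2_c37 LD3_c14)) = v5005 :=
  (Llr Lrot74 (Lpr_ef (f622249 IH) (Lpr_bf (f643415 IH) (Lpe (f641286 IH) (Lpr_bf (f641290 IH) (Lpn v5005)))))).symm
theorem f538066 : Led Lsl_dt (LP (LK LD1_c11 LD2_c48 LD3_c54)) = (LP (LK LD1_c6 LD2_c2 LD3_c14)) :=
  Lre_d IH (LK LD1_c11 LD2_c48 LD3_c54) (LK LD1_c6 LD2_c2 LD3_c14) Lrfl Lrfl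
theorem f204218 : Led Lsl_dt (LP (LK LD1_c2 LD2_c57 LD3_c19)) = (LP (LK LD1_c6 LD2_c2 LD3_c31)) :=
  Lre_d IH (LK LD1_c2 LD2_c57 LD3_c19) (LK LD1_c6 LD2_c2 LD3_c31) Lrfl Lrfl
theorem f614922 : Led Lsl_ff (LP (LK LD1_c11 LD2_c48 LD3_c54)) = (LP (LK LD1_c6 LD2_c2 LD3_c31)) :=
  Lgr Lrot19 (Lpr_dt (f538066 IH) (Lpr_ft (f614918 IH) (Lpr_dt (f204218 IH) (Lpn (LP (LK LD1_c6 LD2_c2 LD3_c31))))))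
theorem f69258 : Led Lsl_dt (LP (LK LD1_c6 LD2_c2 LD3_c14)) = (LP (LK LD1_c11 LD2_c48 LD3_c54)) :=
  Lre_d IH (LK LD1_c6 LD2_c2 LD3_c14) (LK LD1_c11 LD2_c48 LD3_c54) Lrfl Lrfl
theorem f116997 : Led Lsl_dt (LP (LK LD1_c6 LD2_c2 LD3_c28)) = (LP (LK LD1_c2 LD2_c57 LD3_c18)) :=
  Lre_d IH (LK LD1_c6 LD2_c2 LD3_c28) (LK LD1_c2 LD2_c57 LD3_c18) Lrfl Lrfl
theorem f614902 : Led Lsl_at (LP (LK LD1_c11 LD2_c48 LD3_c54)) = (LP (LK LD1_c6 LD2_c2 LD3_c28)) :=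
  Lgr Lrot51 (Lpe (f69258 IH) (Lpr_af (f614898 IH) (Lpe (f116997 IH) (Lpn (LP (LK LD1_c6 LD2_c2 LD3_c28))))))
theorem f614596 : Led Lsl_bf (LP (LK LD1_c6 LD2_c2 LD3_c28)) = (LP (LK LD1_c5 LD2_c55 LD3_c15)) :=
  Lgr Lrot93 (Lpr_dt (f116997 IH) (Lpr_bt (K42.f614591 IH) (Lpe (K35.f508153 IH) (Lpn (LP (LK LD1_c5 LD2_c55 LD3_c15))))))
theorem f435583 : Led Lsl_bt (LP (LK LD1_c5 LD2_c55 LD3_c13)) = (LP (LK LD1_c2 LD2_c53 LD3_c58)) :=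
  Lre_b IH (LK LD1_c5 LD2_c55 LD3_c13) (LK LD1_c2 LD2_c53 LD3_c58) Lrfl Lrfl
theorem f614610 : Led Lsl_ft (LP (LK LD1_c6 LD2_c2 LD3_c28)) = (LP (LK LD1_c5 LD2_c55 LD3_c13)) :=
  Lgr Lrot75 (Lpr_bf (f614596 IH) (Lpe (K35.f435628 IH) (Lpe (f435583 IH) (Lpn (LP (LK LD1_c5 LD2_c55 LD3_c13))))))
theorem f614925 : Led Lsl_at (LP (LK LD1_c5 LD2_c55 LD3_c13)) = (LP (LK LD1_c6 LD2_c2 LD3_c31)) :=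
  Lgr Lrot66 (Lpe (f614610 IH) (Lpe (f614902 IH) (Lpr_ff (f614922 IH) (Lpn (LP (LK LD1_c6 LD2_c2 LD3_c31))))))
theorem f508535 : Led Lsl_et (LP (LK LD1_c2 LD2_c53 LD3_c56)) = (LP (LK LD1_c5 LD2_c55 LD3_c13)) :=
  Lre_e IH (LK LD1_c2 LD2_c53 LD3_c56) (LK LD1_c5 LD2_c55 LD3_c13) Lrfl Lrfl
theorem f622251 : Led Lsl_at (LP (LK LD1_c4 LD2_c37 LD3_c14)) = (LP (LK LD1_c2 LD2_c53 LD3_c56)) :=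
  Lgr Lrot80 (Lpr_ef (f622249 IH) (Lpe (f614925 IH) (Lpe (f508535 IH) (Lpn (LP (LK LD1_c2 LD2_c53 LD3_c56))))))
theorem f643428 : v5004 = v4201 :=
  (Llr Lrot36 (Lpe (f641285 IH) (Lpr_bt (f641289 IH) (Lpq (f643425 IH) (Lpr_at (f622251 IH) (Lpr_bt (K42.f435604 IH) (Lpr_at (K35.f500473 IH) (Lpqs (K35.f507958 IH) (Lpr_bt (f631837 IH) (Lpn v4201)))))))))).symm
theorem f643429 : v1670 = (LP (LK LD1_c2 LD2_c53 LD3_c59)) :=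
  Lefun (Lecon (Lfl_ff (f641288 IH)) (f643428 IH)) (Lfl_ff (f631839 IH))
theorem f643431 : Led Lsl_gt (LP (LK LD1_c2 LD2_c53 LD3_c59)) = (LP (LK LD1_c1 LD2_c23 LD3_c42)) :=
  Leop (Lpr_gf (f500674 IH) (Lpqs (f643429 IH) (Lpn (LP (LK LD1_c2 LD2_c53 LD3_c59)))))
theorem seed_297 : LEOK LG_g (LK LD1_c2 LD2_c53 LD3_c59) :=
  Leoe_g (LK LD1_c2 LD2_c53 LD3_c59) (f643431 IH)
theorem f204227 : Led Lsl_ft (LP (LK LD1_c2 LD2_c57 LD3_c13)) = (LP (LK LD1_c6 LD2_c2 LD3_c16)) :=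
  Lre_f IH (LK LD1_c2 LD2_c57 LD3_c13) (LK LD1_c6 LD2_c2 LD3_c16) Lrfl Lrfl
theorem f204202 : Led Lsl_at (LP (LK LD1_c4 LD2_c38 LD3_c44)) = (LP (LK LD1_c2 LD2_c16 LD3_c26)) :=
  Lre_a IH (LK LD1_c4 LD2_c38 LD3_c44) (LK LD1_c2 LD2_c16 LD3_c26) Lrfl Lrfl
theorem f557967 : Led Lsl_dt (LP (LK LD1_c3 LD2_c20 LD3_c17)) = (LP (LK LD1_c4 LD2_c38 LD3_c44)) :=
  Lgr Lrot44 (Lpr_af (K40.f557958 IH) (Lpe (K11.f104783 IH) (Lpe (f204202 IH) (Lpn (LP (LK LD1_c4 LD2_c38 LD3_c44))))))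
theorem f157779 : Led Lsl_bt (LP (LK LD1_c1 LD2_c36 LD3_c34)) = (LP (LK LD1_c3 LD2_c20 LD3_c17)) :=
  Lre_b IH (LK LD1_c1 LD2_c36 LD3_c34) (LK LD1_c3 LD2_c20 LD3_c17) Lrfl Lrfl
def v2150 : LQ := Led Lsl_dt (LP (LK LD1_c1 LD2_c36 LD3_c34))
theorem f509242 : Led Lsl_dt (LP (LK LD1_c1 LD2_c36 LD3_c34)) = v2150 :=
  Lrfl
theorem f509243 : Led Lsl_df (LP (LK LD1_c1 LD2_c36 LD3_c34)) = v2150 :=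
  Lgr Lrot38 (Lpr_dt (f509242 IH) (Lpn v2150))
theorem f69251 : Led Lsl_et (LP (LK LD1_c2 LD2_c57 LD3_c13)) = (LP (LK LD1_c1 LD2_c24 LD3_c22)) :=
  Lre_e IH (LK LD1_c2 LD2_c57 LD3_c13) (LK LD1_c1 LD2_c24 LD3_c22) Lrfl Lrfl
theorem f104880 : Led Lsl_et (LP (LK LD1_c2 LD2_c16 LD3_c24)) = (LP (LK LD1_c4 LD2_c38 LD3_c44)) :=
  Lre_e IH (LK LD1_c2 LD2_c16 LD3_c24) (LK LD1_c4 LD2_c38 LD3_c44) Lrfl Lrfl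
theorem f202377 : Led Lsl_bf (LP (LK LD1_c2 LD2_c57 LD3_c13)) = (LP (LK LD1_c4 LD2_c38 LD3_c44)) :=
  Lgr Lrot96 (Lpr_et (f69251 IH) (Lpr_bt (K11.f202367 IH) (Lpr_et (f104880 IH) (Lpn (LP (LK LD1_c4 LD2_c38 LD3_c44))))))
theorem f557974 : v2150 = (LP (LK LD1_c2 LD2_c57 LD3_c13)) :=
  (Llr Lrot12 (Lpe (f509243 IH) (Lpr_bt (f157779 IH) (Lpr_dt (f557967 IH) (Lpe (f202377 IH) (Lpn (LP (LK LD1_c2 LD2_c57 LD3_c13)))))))).symm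
theorem f557977 : Led Lsl_dt (LP (LK LD1_c6 LD2_c2 LD3_c16)) = (LP (LK LD1_c3 LD2_c20 LD3_c23)) :=
  Lgr Lrot60 (Lpe (f204227 IH) (Lpq (f557974 IH) (Lpe (f509242 IH) (Lpe (K35.f206893 IH) (Lpn (LP (LK LD1_c3 LD2_c20 LD3_c23)))))))
theorem f117000 : Led Lsl_gt (LP (LK LD1_c2 LD2_c57 LD3_c18)) = (LP (LK LD1_c6 LD2_c2 LD3_c16)) :=
  Lre_g IH (LK LD1_c2 LD2_c57 LD3_c18) (LK LD1_c6 LD2_c2 LD3_c16) Lrfl Lrfl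
theorem f69219 : Led Lsl_et (LP (LK LD1_c6 LD2_c2 LD3_c29)) = (LP (LK LD1_c2 LD2_c57 LD3_c18)) :=
  Lre_e IH (LK LD1_c6 LD2_c2 LD3_c29) (LK LD1_c2 LD2_c57 LD3_c18) Lrfl Lrfl
theorem f112485 : Led Lsl_et (LP (LK LD1_c2 LD2_c54 LD3_c18)) = (LP (LK LD1_c1 LD2_c23 LD3_c8)) :=
  Lre_e IH (LK LD1_c2 LD2_c54 LD3_c18) (LK LD1_c1 LD2_c23 LD3_c8) Lrfl Lrfl
theorem f72045 : Led Lsl_dt (LP (LK LD1_c2 LD2_c54 LD3_c18)) = (LP (LK LD1_c5 LD2_c55 LD3_c56)) :=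
  Lre_d IH (LK LD1_c2 LD2_c54 LD3_c18) (LK LD1_c5 LD2_c55 LD3_c56) Lrfl Lrfl
theorem f72026 : Led Lsl_gt (LP (LK LD1_c11 LD2_c37 LD3_c1)) = (LP (LK LD1_c5 LD2_c55 LD3_c56)) :=
  Lre_g IH (LK LD1_c11 LD2_c37 LD3_c1) (LK LD1_c5 LD2_c55 LD3_c56) Lrfl Lrfl
theorem f116986 : Led Lsl_dt (LP (LK LD1_c6 LD2_c2 LD3_c29)) = (LP (LK LD1_c11 LD2_c37 LD3_c1)) :=
  Lgr Lrot136 (Lpr_et (f69219 IH) (Lpe (K42.f69213 IH) (Lpe (K35.f69212 IH) (Lpr_dt (K6.f68568 IH) (Lpe (K8.f59715 IH) (Lpe (K8.f69216 IH) (Lpr_gf (K8.f116975 IH) (Lpe (f112485 IH) (Lpr_dt (f72045 IH) (Lpe (f72026 IH) (Lpn (LP (LK LD1_c11 LD2_c37 LD3_c1)))))))))))))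
theorem f117001 : Led Lsl_gt (LP (LK LD1_c5 LD2_c56 LD3_c60)) = (LP (LK LD1_c11 LD2_c37 LD3_c1)) :=
  Lre_g IH (LK LD1_c5 LD2_c56 LD3_c60) (LK LD1_c11 LD2_c37 LD3_c1) Lrfl Lrfl
theorem f117002 : Led Lsl_dt (LP (LK LD1_c2 LD2_c54 LD3_c46)) = (LP (LK LD1_c5 LD2_c56 LD3_c60)) :=
  Lre_d IH (LK LD1_c2 LD2_c54 LD3_c46) (LK LD1_c5 LD2_c56 LD3_c60) Lrfl Lrfl
theorem f112490 : Led Lsl_et (LP (LK LD1_c2 LD2_c14 LD3_c56)) = (LP (LK LD1_c1 LD2_c4 LD3_c35)) :=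
  Lre_e IH (LK LD1_c2 LD2_c14 LD3_c56) (LK LD1_c1 LD2_c4 LD3_c35) Lrfl Lrfl
theorem f442413 : Led Lsl_ft (LP (LK LD1_c4 LD2_c35 LD3_c32)) = (LP (LK LD1_c2 LD2_c14 LD3_c56)) :=
  Lre_f IH (LK LD1_c4 LD2_c35 LD3_c32) (LK LD1_c2 LD2_c14 LD3_c56) Lrfl Lrfl
theorem f425725 : Led Lsl_et (LP (LK LD1_c0 LD2_c38 LD3_c31)) = (LP (LK LD1_c1 LD2_c23 LD3_c17)) :=
  Lre_e IH (LK LD1_c0 LD2_c38 LD3_c31) (LK LD1_c1 LD2_c23 LD3_c17) Lrfl Lrfl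
theorem f442414 : Led Lsl_ft (LP (LK LD1_c1 LD2_c23 LD3_c17)) = (LP (LK LD1_c2 LD2_c54 LD3_c46)) :=
  Lre_f IH (LK LD1_c1 LD2_c23 LD3_c17) (LK LD1_c2 LD2_c54 LD3_c46) Lrfl Lrfl
theorem f442415 : Led Lsl_ef (LP (LK LD1_c4 LD2_c35 LD3_c32)) = (LP (LK LD1_c2 LD2_c54 LD3_c46)) :=
  Lgr Lrot21 (Lpr_ft (f442413 IH) (Lpr_et (f112490 IH) (Lpr_ft (K4.f82235 IH) (Lpr_et (f425725 IH) (Lpr_ft (f442414 IH) (Lpn (LP (LK LD1_c2 LD2_c54 LD3_c46))))))))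
theorem f442429 : Led Lsl_gt (LP (LK LD1_c9 LD2_c7 LD3_c16)) = (LP (LK LD1_c4 LD2_c35 LD3_c32)) :=
  Lre_g IH (LK LD1_c9 LD2_c7 LD3_c16) (LK LD1_c4 LD2_c35 LD3_c32) Lrfl Lrfl
theorem f557982 : Led Lsl_ef (LP (LK LD1_c9 LD2_c7 LD3_c16)) = (LP (LK LD1_c9 LD2_c11 LD3_c37)) :=
  Lgr Lrot114 (Lpr_gt (f442429 IH) (Lpr_ef (f442415 IH) (Lpr_dt (f117002 IH) (Lpr_gt (f117001 IH) (Lpe (f116986 IH) (Lpr_et (f69219 IH) (Lpr_gt (f117000 IH) (Lpr_dt (f557977 IH) (Lpe (f207345 IH) (Lpe (f207355 IH) (Lpn (LP (LK LD1_c9 LD2_c11 LD3_c37)))))))))))))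
theorem f161312 : Led Lsl_et (LP (LK LD1_c1 LD2_c23 LD3_c32)) = (LP (LK LD1_c2 LD2_c55 LD3_c10)) :=
  Lre_e IH (LK LD1_c1 LD2_c23 LD3_c32) (LK LD1_c2 LD2_c55 LD3_c10) Lrfl Lrfl
theorem f428129 : Led Lsl_gt (LP (LK LD1_c2 LD2_c55 LD3_c10)) = (LP (LK LD1_c5 LD2_c57 LD3_c41)) :=
  Lre_g IH (LK LD1_c2 LD2_c55 LD3_c10) (LK LD1_c5 LD2_c57 LD3_c41) Lrfl Lrfl
theorem f76138 : Led Lsl_dt (LP (LK LD1_c6 LD2_c0 LD3_c21)) = (LP (LK LD1_c2 LD2_c56 LD3_c27)) :=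
  Lre_d IH (LK LD1_c6 LD2_c0 LD3_c21) (LK LD1_c2 LD2_c56 LD3_c27) Lrfl Lrfl
theorem f559354 : Led Lsl_ef (LP (LK LD1_c5 LD2_c57 LD3_c41)) = (LP (LK LD1_c6 LD2_c0 LD3_c21)) :=
  Lgr Lrot17 (Lpe (f428129 IH) (Lpe (f161312 IH) (Lpr_dt (K28.f74710 IH) (Lpe (K28.f137614 IH) (Lpe (K28.f137615 IH) (Lpr_gf (K42.f559346 IH) (Lpr_ef (K42.f76127 IH) (Lpr_dt (K42.f75046 IH) (Lpe (f75060 IH) (Lpe (f76138 IH) (Lpn (LP (LK LD1_c6 LD2_c0 LD3_c21)))))))))))))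
theorem f559358 : Led Lsl_et (LP (LK LD1_c5 LD2_c57 LD3_c41)) = (LP (LK LD1_c6 LD2_c0 LD3_c21)) :=
  Lgr Lrot87 (Lpr_ef (f559354 IH) (Lpn (LP (LK LD1_c6 LD2_c0 LD3_c21))))
theorem f643355 : Led Lsl_bt (LP (LK LD1_c9 LD2_c7 LD3_c16)) = (LP (LK LD1_c5 LD2_c57 LD3_c41)) :=
  Lgr Lrot119 (Lpr_ef (f557982 IH) (Lpr_bf (f643349 IH) (Lpe (f559358 IH) (Lpn (LP (LK LD1_c5 LD2_c57 LD3_c41))))))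
theorem f644287 : Led Lsl_bf (LP (LK LD1_c9 LD2_c7 LD3_c16)) = (LP (LK LD1_c5 LD2_c57 LD3_c41)) :=
  Lgr Lrot24 (Lpr_bt (f643355 IH) (Lpn (LP (LK LD1_c5 LD2_c57 LD3_c41))))
theorem f82220 : Led Lsl_bt (LP (LK LD1_c2 LD2_c15 LD3_c2)) = (LP (LK LD1_c4 LD2_c35 LD3_c32)) :=
  Lre_b IH (LK LD1_c2 LD2_c15 LD3_c2) (LK LD1_c4 LD2_c35 LD3_c32) Lrfl Lrfl
theorem f428925 : Led Lsl_ct (LP (LK LD1_c2 LD2_c27 LD3_c11)) = (LP (LK LD1_c4 LD2_c58 LD3_c41)) :=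
  Lre_c IH (LK LD1_c2 LD2_c27 LD3_c11) (LK LD1_c4 LD2_c58 LD3_c41) Lrfl Lrfl
theorem f74386 : Led Lsl_gt (LP (LK LD1_c4 LD2_c58 LD3_c41)) = (LP (LK LD1_c9 LD2_c47 LD3_c55)) :=
  Lre_g IH (LK LD1_c4 LD2_c58 LD3_c41) (LK LD1_c9 LD2_c47 LD3_c55) Lrfl Lrfl
theorem f644289 : Led Lsl_cf (LP (LK LD1_c9 LD2_c47 LD3_c55)) = (LP (LK LD1_c5 LD2_c57 LD3_c41)) :=
  Lgr Lrot163 (Lpe (f74386 IH) (Lpe (f428925 IH) (Lpr_gf (f636060 IH) (Lpq (f643197 IH) (Lpe (K42.f627861 IH) (Lpe (K42.f491588 IH) (Lpr_gf (K32.f452350 IH) (Lpe (K42.f452348 IH) (Lpr_bt (f82220 IH) (Lpe (f442429 IH) (Lpr_bf (f644287 IH) (Lpn (LP (LK LD1_c5 LD2_c57 LD3_c41))))))))))))))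
theorem f644290 : Led Lsl_ct (LP (LK LD1_c5 LD2_c57 LD3_c41)) = (LP (LK LD1_c9 LD2_c47 LD3_c55)) :=
  Leop (Lpr_cf (f644289 IH) (Lpn (LP (LK LD1_c5 LD2_c57 LD3_c41))))
theorem seed_298 : LEOK LG_c (LK LD1_c5 LD2_c57 LD3_c41) :=
  Leoe_c (LK LD1_c5 LD2_c57 LD3_c41) (f644290 IH)
theorem f446250 : Led Lsl_ct (LP (LK LD1_c6 LD2_c29 LD3_c54)) = (LP (LK LD1_c3 LD2_c12 LD3_c61)) :=
  Lre_c IH (LK LD1_c6 LD2_c29 LD3_c54) (LK LD1_c3 LD2_c12 LD3_c61) Lrfl Lrfl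
theorem f505765 : Led Lsl_ff (LP (LK LD1_c6 LD2_c29 LD3_c54)) = (LP (LK LD1_c5 LD2_c52 LD3_c48)) :=
  Lgr Lrot23 (Lpr_ct (f446250 IH) (Lpr_ft (K41.f505763 IH) (Lpr_ct (K42.f22537 IH) (Lpn (LP (LK LD1_c5 LD2_c52 LD3_c48))))))
theorem f505806 : Led Lsl_at (LP (LK LD1_c6 LD2_c29 LD3_c54)) = (LP (LK LD1_c12 LD2_c29 LD3_c30)) :=
  Lre_a IH (LK LD1_c6 LD2_c29 LD3_c54) (LK LD1_c12 LD2_c29 LD3_c30) Lrfl Lrfl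
theorem f642526 : Led Lsl_gt (LP (LK LD1_c11 LD2_c30 LD3_c31)) = (LP (LK LD1_c12 LD2_c29 LD3_c30)) :=
  Lgr Lrot46 (Lpr_gf (K42.f642524 IH) (Lpe (f505765 IH) (Lpr_at (f505806 IH) (Lpn (LP (LK LD1_c12 LD2_c29 LD3_c30))))))
theorem f26440 : Led Lsl_et (LP (LK LD1_c5 LD2_c59 LD3_c38)) = (LP (LK LD1_c2 LD2_c56 LD3_c9)) :=
  Lre_e IH (LK LD1_c5 LD2_c59 LD3_c38) (LK LD1_c2 LD2_c56 LD3_c9) Lrfl Lrfl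
theorem f26441 : Led Lsl_dt (LP (LK LD1_c5 LD2_c59 LD3_c38)) = (LP (LK LD1_c11 LD2_c43 LD3_c51)) :=
  Lre_d IH (LK LD1_c5 LD2_c59 LD3_c38) (LK LD1_c11 LD2_c43 LD3_c51) Lrfl Lrfl
theorem f26461 : Led Lsl_gt (LP (LK LD1_c20 LD2_c45 LD3_c3)) = (LP (LK LD1_c11 LD2_c43 LD3_c51)) :=
  Lre_g IH (LK LD1_c20 LD2_c45 LD3_c3) (LK LD1_c11 LD2_c43 LD3_c51) Lrfl Lrfl
theorem f642515 : Led Lsl_et (LP (LK LD1_c21 LD2_c36 LD3_c10)) = (LP (LK LD1_c12 LD2_c29 LD3_c30)) :=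
  Lre_e IH (LK LD1_c21 LD2_c36 LD3_c10) (LK LD1_c12 LD2_c29 LD3_c30) Lrfl Lrfl
theorem f644347 : Led Lsl_df (LP (LK LD1_c20 LD2_c45 LD3_c3)) = (LP (LK LD1_c21 LD2_c36 LD3_c10)) :=
  Lgr Lrot170 (Lpr_gt (f26461 IH) (Lpe (f26441 IH) (Lpr_et (f26440 IH) (Lpr_gt (K0.f26413 IH) (Lpr_dt (K4.f26444 IH) (Lpr_gt (K6.f14358 IH) (Lpe (K44.f139334 IH) (Lpr_et (K42.f139336 IH) (Lpr_gt (f642526 IH) (Lpe (f642515 IH) (Lpn (LP (LK LD1_c21 LD2_c36 LD3_c10)))))))))))))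
theorem f644351 : Led Lsl_dt (LP (LK LD1_c20 LD2_c45 LD3_c3)) = (LP (LK LD1_c21 LD2_c36 LD3_c10)) :=
  Lgr Lrot42 (Lpr_df (f644347 IH) (Lpn (LP (LK LD1_c21 LD2_c36 LD3_c10))))
theorem f505754 : Led Lsl_at (LP (LK LD1_c21 LD2_c36 LD3_c10)) = (LP (LK LD1_c12 LD2_c29 LD3_c32)) :=
  Lre_a IH (LK LD1_c21 LD2_c36 LD3_c10) (LK LD1_c12 LD2_c29 LD3_c32) Lrfl Lrfl
theorem f505751 : Led Lsl_et (LP (LK LD1_c12 LD2_c29 LD3_c32)) = (LP (LK LD1_c6 LD2_c29 LD3_c54)) :=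
  Lre_e IH (LK LD1_c12 LD2_c29 LD3_c32) (LK LD1_c6 LD2_c29 LD3_c54) Lrfl Lrfl
theorem f415210 : Led Lsl_et (LP (LK LD1_c2 LD2_c55 LD3_c51)) = (LP (LK LD1_c5 LD2_c58 LD3_c52)) :=
  Lre_e IH (LK LD1_c2 LD2_c55 LD3_c51) (LK LD1_c5 LD2_c58 LD3_c52) Lrfl Lrfl
theorem f502448 : Led Lsl_et (LP (LK LD1_c4 LD2_c59 LD3_c41)) = (LP (LK LD1_c2 LD2_c27 LD3_c39)) :=
  Lre_e IH (LK LD1_c4 LD2_c59 LD3_c41) (LK LD1_c2 LD2_c27 LD3_c39) Lrfl Lrfl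
theorem f502476 : Led Lsl_dt (LP (LK LD1_c4 LD2_c59 LD3_c41)) = (LP (LK LD1_c9 LD2_c49 LD3_c47)) :=
  Lre_d IH (LK LD1_c4 LD2_c59 LD3_c41) (LK LD1_c9 LD2_c49 LD3_c47) Lrfl Lrfl
theorem f502518 : Led Lsl_gt (LP (LK LD1_c18 LD2_c0 LD3_c26)) = (LP (LK LD1_c9 LD2_c49 LD3_c47)) :=
  Lre_g IH (LK LD1_c18 LD2_c0 LD3_c26) (LK LD1_c9 LD2_c49 LD3_c47) Lrfl Lrfl
theorem f642182 : Led Lsl_dt (LP (LK LD1_c12 LD2_c29 LD3_c32)) = (LP (LK LD1_c18 LD2_c0 LD3_c26)) :=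
  Lgr Lrot136 (Lpr_et (f505751 IH) (Lpr_gf (K41.f642177 IH) (Lpe (f415210 IH) (Lpr_dt (K32.f72533 IH) (Lpe (K2.f14069 IH) (Lpe (K4.f56978 IH) (Lpe (K4.f40568 IH) (Lpe (f502448 IH) (Lpr_dt (f502476 IH) (Lpe (f502518 IH) (Lpn (LP (LK LD1_c18 LD2_c0 LD3_c26)))))))))))))
theorem f644353 : Led Lsl_af (LP (LK LD1_c20 LD2_c45 LD3_c3)) = (LP (LK LD1_c18 LD2_c0 LD3_c26)) :=
  Lgr Lrot117 (Lpr_dt (f644351 IH) (Lpr_at (f505754 IH) (Lpr_dt (f642182 IH) (Lpn (LP (LK LD1_c18 LD2_c0 LD3_c26))))))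
theorem f502484 : Led Lsl_gt (LP (LK LD1_c18 LD2_c0 LD3_c28)) = (LP (LK LD1_c20 LD2_c45 LD3_c3)) :=
  Lgr Lrot5 (Lpr_ft (K42.f502480 IH) (Lpr_at (K42.f502466 IH) (Lpe (f26461 IH) (Lpn (LP (LK LD1_c20 LD2_c45 LD3_c3))))))
theorem f26442 : Led Lsl_gt (LP (LK LD1_c11 LD2_c43 LD3_c51)) = (LP (LK LD1_c20 LD2_c45 LD3_c2)) :=
  Lre_g IH (LK LD1_c11 LD2_c43 LD3_c51) (LK LD1_c20 LD2_c45 LD3_c2) Lrfl Lrfl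
theorem f502494 : Led Lsl_gf (LP (LK LD1_c18 LD2_c0 LD3_c28)) = (LP (LK LD1_c20 LD2_c45 LD3_c2)) :=
  Lgr Lrot76 (Lpr_af (K42.f502482 IH) (Lpe (K42.f502481 IH) (Lpr_gt (f26442 IH) (Lpn (LP (LK LD1_c20 LD2_c45 LD3_c2))))))
theorem f644355 : Led Lsl_ft (LP (LK LD1_c20 LD2_c45 LD3_c2)) = (LP (LK LD1_c18 LD2_c0 LD3_c26)) :=
  Lgr Lrot2 (Lpe (f502494 IH) (Lpr_gt (f502484 IH) (Lpr_af (f644353 IH) (Lpn (LP (LK LD1_c18 LD2_c0 LD3_c26))))))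
theorem f642186 : Led Lsl_df (LP (LK LD1_c12 LD2_c29 LD3_c32)) = (LP (LK LD1_c18 LD2_c0 LD3_c26)) :=
  Lgr Lrot38 (Lpr_dt (f642182 IH) (Lpn (LP (LK LD1_c18 LD2_c0 LD3_c26))))
theorem f505138 : Led Lsl_ff (LP (LK LD1_c3 LD2_c13 LD3_c0)) = (LP (LK LD1_c5 LD2_c48 LD3_c61)) :=
  Lgr Lrot3 (Lpr_ft (K32.f505130 IH) (Lpn (LP (LK LD1_c5 LD2_c48 LD3_c61))))
theorem f79822 : Led Lsl_bt (LP (LK LD1_c3 LD2_c13 LD3_c0)) = (LP (LK LD1_c6 LD2_c30 LD3_c4)) :=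
  Lre_b IH (LK LD1_c3 LD2_c13 LD3_c0) (LK LD1_c6 LD2_c30 LD3_c4) Lrfl Lrfl
theorem f505741 : Led Lsl_ft (LP (LK LD1_c6 LD2_c30 LD3_c4)) = (LP (LK LD1_c11 LD2_c27 LD3_c22)) :=
  Lgr Lrot75 (Lpe (f79822 IH) (Lpr_ff (f505138 IH) (Lpe (K41.f438593 IH) (Lpn (LP (LK LD1_c11 LD2_c27 LD3_c22))))))
theorem f446020 : Led Lsl_ct (LP (LK LD1_c12 LD2_c29 LD3_c32)) = (LP (LK LD1_c6 LD2_c30 LD3_c4)) :=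
  Lre_c IH (LK LD1_c12 LD2_c29 LD3_c32) (LK LD1_c6 LD2_c30 LD3_c4) Lrfl Lrfl
theorem f438594 : Led Lsl_ct (LP (LK LD1_c11 LD2_c27 LD3_c22)) = (LP (LK LD1_c20 LD2_c25 LD3_c21)) :=
  Lre_c IH (LK LD1_c11 LD2_c27 LD3_c22) (LK LD1_c20 LD2_c25 LD3_c21) Lrfl Lrfl
theorem f505743 : Led Lsl_ff (LP (LK LD1_c12 LD2_c29 LD3_c32)) = (LP (LK LD1_c20 LD2_c25 LD3_c21)) :=
  Lgr Lrot23 (Lpr_ct (f446020 IH) (Lpr_ft (f505741 IH) (Lpr_ct (f438594 IH) (Lpn (LP (LK LD1_c20 LD2_c25 LD3_c21))))))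
theorem f505752 : Led Lsl_ft (LP (LK LD1_c12 LD2_c29 LD3_c32)) = (LP (LK LD1_c20 LD2_c25 LD3_c21)) :=
  Lgr Lrot48 (Lpr_ff (f505743 IH) (Lpn (LP (LK LD1_c20 LD2_c25 LD3_c21))))
theorem f644359 : Led Lsl_df (LP (LK LD1_c20 LD2_c45 LD3_c2)) = (LP (LK LD1_c20 LD2_c25 LD3_c21)) :=
  Lgr Lrot78 (Lpr_ft (f644355 IH) (Lpe (f642186 IH) (Lpr_ft (f505752 IH) (Lpn (LP (LK LD1_c20 LD2_c25 LD3_c21))))))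
theorem f26431 : Led Lsl_et (LP (LK LD1_c4 LD2_c59 LD3_c17)) = (LP (LK LD1_c2 LD2_c27 LD3_c31)) :=
  Lre_e IH (LK LD1_c4 LD2_c59 LD3_c17) (LK LD1_c2 LD2_c27 LD3_c31) Lrfl Lrfl
theorem f26432 : Led Lsl_dt (LP (LK LD1_c4 LD2_c59 LD3_c17)) = (LP (LK LD1_c9 LD2_c48 LD3_c59)) :=
  Lre_d IH (LK LD1_c4 LD2_c59 LD3_c17) (LK LD1_c9 LD2_c48 LD3_c59) Lrfl Lrfl
theorem f26433 : Led Lsl_gt (LP (LK LD1_c17 LD2_c59 LD3_c21)) = (LP (LK LD1_c9 LD2_c48 LD3_c59)) :=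
  Lre_g IH (LK LD1_c17 LD2_c59 LD3_c21) (LK LD1_c9 LD2_c48 LD3_c59) Lrfl Lrfl
theorem f61623 : Led Lsl_gt (LP (LK LD1_c5 LD2_c47 LD3_c4)) = (LP (LK LD1_c11 LD2_c24 LD3_c19)) :=
  Lre_g IH (LK LD1_c5 LD2_c47 LD3_c4) (LK LD1_c11 LD2_c24 LD3_c19) Lrfl Lrfl
theorem f74416 : Led Lsl_et (LP (LK LD1_c20 LD2_c22 LD3_c7)) = (LP (LK LD1_c11 LD2_c24 LD3_c19)) :=
  Lre_e IH (LK LD1_c20 LD2_c22 LD3_c7) (LK LD1_c11 LD2_c24 LD3_c19) Lrfl Lrfl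
theorem f104936 : Led Lsl_dt (LP (LK LD1_c20 LD2_c22 LD3_c7)) = (LP (LK LD1_c17 LD2_c59 LD3_c21)) :=
  Lgr Lrot136 (Lpr_et (f74416 IH) (Lpe (f61623 IH) (Lpe (K2.f61514 IH) (Lpr_dt (K2.f61531 IH) (Lpr_gf (K4.f104909 IH) (Lpe (K4.f26415 IH) (Lpr_gf (K0.f26408 IH) (Lpe (f26431 IH) (Lpr_dt (f26432 IH) (Lpe (f26433 IH) (Lpn (LP (LK LD1_c17 LD2_c59 LD3_c21)))))))))))))
theorem f505767 : Led Lsl_ff (LP (LK LD1_c3 LD2_c12 LD3_c61)) = (LP (LK LD1_c2 LD2_c52 LD3_c39)) :=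
  Lgr Lrot3 (Lpr_ft (K41.f505763 IH) (Lpn (LP (LK LD1_c2 LD2_c52 LD3_c39))))
theorem f505745 : Led Lsl_et (LP (LK LD1_c3 LD2_c12 LD3_c61)) = (LP (LK LD1_c6 LD2_c30 LD3_c4)) :=
  Lre_e IH (LK LD1_c3 LD2_c12 LD3_c61) (LK LD1_c6 LD2_c30 LD3_c4) Lrfl Lrfl
theorem f505771 : Led Lsl_et (LP (LK LD1_c5 LD2_c52 LD3_c49)) = (LP (LK LD1_c2 LD2_c52 LD3_c39)) :=
  Lre_e IH (LK LD1_c5 LD2_c52 LD3_c49) (LK LD1_c2 LD2_c52 LD3_c39) Lrfl Lrfl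
theorem f505772 : Led Lsl_ft (LP (LK LD1_c11 LD2_c31 LD3_c59)) = (LP (LK LD1_c5 LD2_c52 LD3_c49)) :=
  Lre_f IH (LK LD1_c11 LD2_c31 LD3_c59) (LK LD1_c5 LD2_c52 LD3_c49) Lrfl Lrfl
theorem f505773 : Led Lsl_et (LP (LK LD1_c11 LD2_c27 LD3_c22)) = (LP (LK LD1_c11 LD2_c31 LD3_c59)) :=
  Lgr Lrot69 (Lpe (f505741 IH) (Lpe (f505745 IH) (Lpr_ff (f505767 IH) (Lpe (f505771 IH) (Lpe (f505772 IH) (Lpn (LP (LK LD1_c11 LD2_c31 LD3_c59))))))))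
theorem f503454 : Led Lsl_ct (LP (LK LD1_c20 LD2_c25 LD3_c21)) = (LP (LK LD1_c11 LD2_c27 LD3_c22)) :=
  Lre_c IH (LK LD1_c20 LD2_c25 LD3_c21) (LK LD1_c11 LD2_c27 LD3_c22) Lrfl Lrfl
theorem f445615 : Led Lsl_ct (LP (LK LD1_c11 LD2_c31 LD3_c59)) = (LP (LK LD1_c20 LD2_c28 LD3_c34)) :=
  Lre_c IH (LK LD1_c11 LD2_c31 LD3_c59) (LK LD1_c20 LD2_c28 LD3_c34) Lrfl Lrfl
theorem f505775 : Led Lsl_ef (LP (LK LD1_c20 LD2_c25 LD3_c21)) = (LP (LK LD1_c20 LD2_c28 LD3_c34)) :=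
  Lgr Lrot28 (Lpr_ct (f503454 IH) (Lpr_et (f505773 IH) (Lpr_ct (f445615 IH) (Lpn (LP (LK LD1_c20 LD2_c28 LD3_c34))))))
theorem f505777 : Led Lsl_et (LP (LK LD1_c20 LD2_c25 LD3_c21)) = (LP (LK LD1_c20 LD2_c28 LD3_c34)) :=
  Lgr Lrot87 (Lpr_ef (f505775 IH) (Lpn (LP (LK LD1_c20 LD2_c28 LD3_c34))))
theorem f644376 : Led Lsl_gf (LP (LK LD1_c20 LD2_c22 LD3_c7)) = (LP (LK LD1_c20 LD2_c28 LD3_c34)) :=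
  Lgr Lrot138 (Lpr_dt (f104936 IH) (Lpr_gt (f26433 IH) (Lpe (f26432 IH) (Lpr_et (f26431 IH) (Lpe (K0.f26408 IH) (Lpe (f26440 IH) (Lpr_dt (f26441 IH) (Lpr_gt (f26442 IH) (Lpr_df (f644359 IH) (Lpr_et (f505777 IH) (Lpn (LP (LK LD1_c20 LD2_c28 LD3_c34)))))))))))))
theorem f104922 : Led Lsl_dt (LP (LK LD1_c9 LD2_c48 LD3_c59)) = (LP (LK LD1_c4 LD2_c59 LD3_c17)) :=
  Lre_d IH (LK LD1_c9 LD2_c48 LD3_c59) (LK LD1_c4 LD2_c59 LD3_c17) Lrfl Lrfl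
theorem f40547 : Led Lsl_ct (LP (LK LD1_c4 LD2_c59 LD3_c17)) = (LP (LK LD1_c2 LD2_c27 LD3_c32)) :=
  Lre_c IH (LK LD1_c4 LD2_c59 LD3_c17) (LK LD1_c2 LD2_c27 LD3_c32) Lrfl Lrfl
theorem f104921 : Led Lsl_dt (LP (LK LD1_c4 LD2_c57 LD3_c29)) = (LP (LK LD1_c2 LD2_c27 LD3_c32)) :=
  Lre_d IH (LK LD1_c4 LD2_c57 LD3_c29) (LK LD1_c2 LD2_c27 LD3_c32) Lrfl Lrfl
theorem f104911 : Led Lsl_gt (LP (LK LD1_c9 LD2_c45 LD3_c50)) = (LP (LK LD1_c4 LD2_c57 LD3_c29)) :=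
  Lre_g IH (LK LD1_c9 LD2_c45 LD3_c50) (LK LD1_c4 LD2_c57 LD3_c29) Lrfl Lrfl
theorem f61439 : Led Lsl_gt (LP (LK LD1_c2 LD2_c49 LD3_c25)) = (LP (LK LD1_c5 LD2_c47 LD3_c5)) :=
  Lre_g IH (LK LD1_c2 LD2_c49 LD3_c25) (LK LD1_c5 LD2_c47 LD3_c5) Lrfl Lrfl
theorem f74433 : Led Lsl_et (LP (LK LD1_c11 LD2_c24 LD3_c26)) = (LP (LK LD1_c5 LD2_c47 LD3_c5)) :=
  Lre_e IH (LK LD1_c11 LD2_c24 LD3_c26) (LK LD1_c5 LD2_c47 LD3_c5) Lrfl Lrfl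
theorem f104912 : Led Lsl_dt (LP (LK LD1_c11 LD2_c24 LD3_c26)) = (LP (LK LD1_c9 LD2_c45 LD3_c50)) :=
  Lgr Lrot136 (Lpr_et (f74433 IH) (Lpe (f61439 IH) (Lpe (K2.f74438 IH) (Lpr_dt (K2.f72454 IH) (Lpe (K4.f60937 IH) (Lpr_df (K4.f104801 IH) (Lpe (K4.f26416 IH) (Lpe (K1.f40298 IH) (Lpr_dt (K1.f40273 IH) (Lpe (f104911 IH) (Lpn (LP (LK LD1_c9 LD2_c45 LD3_c50)))))))))))))
theorem f644380 : Led Lsl_gf (LP (LK LD1_c11 LD2_c24 LD3_c26)) = (LP (LK LD1_c11 LD2_c31 LD3_c59)) :=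
  Lgr Lrot144 (Lpr_dt (f104912 IH) (Lpr_gt (f104911 IH) (Lpr_dt (f104921 IH) (Lpe (f40547 IH) (Lpe (f104922 IH) (Lpe (f26433 IH) (Lpe (f104936 IH) (Lpr_gf (f644376 IH) (Lpe (f445615 IH) (Lpn (LP (LK LD1_c11 LD2_c31 LD3_c59))))))))))))
theorem f80088 : Led Lsl_bt (LP (LK LD1_c20 LD2_c22 LD3_c11)) = (LP (LK LD1_c11 LD2_c24 LD3_c26)) :=
  Lre_b IH (LK LD1_c20 LD2_c22 LD3_c11) (LK LD1_c11 LD2_c24 LD3_c26) Lrfl Lrfl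
theorem f61454 : Led Lsl_gt (LP (LK LD1_c6 LD2_c10 LD3_c56)) = (LP (LK LD1_c12 LD2_c2 LD3_c14)) :=
  Lre_g IH (LK LD1_c6 LD2_c10 LD3_c56) (LK LD1_c12 LD2_c2 LD3_c14) Lrfl Lrfl
theorem f80066 : Led Lsl_et (LP (LK LD1_c2 LD2_c16 LD3_c11)) = (LP (LK LD1_c1 LD2_c5 LD3_c1)) :=
  Lre_e IH (LK LD1_c2 LD2_c16 LD3_c11) (LK LD1_c1 LD2_c5 LD3_c1) Lrfl Lrfl
theorem f80067 : Led Lsl_dt (LP (LK LD1_c2 LD2_c16 LD3_c11)) = (LP (LK LD1_c4 LD2_c38 LD3_c13)) :=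
  Lre_d IH (LK LD1_c2 LD2_c16 LD3_c11) (LK LD1_c4 LD2_c38 LD3_c13) Lrfl Lrfl
theorem f80068 : Led Lsl_gt (LP (LK LD1_c9 LD2_c12 LD3_c9)) = (LP (LK LD1_c4 LD2_c38 LD3_c13)) :=
  Lre_g IH (LK LD1_c9 LD2_c12 LD3_c9) (LK LD1_c4 LD2_c38 LD3_c13) Lrfl Lrfl
theorem f80069 : Led Lsl_dt (LP (LK LD1_c17 LD2_c6 LD3_c12)) = (LP (LK LD1_c9 LD2_c12 LD3_c9)) :=
  Lre_d IH (LK LD1_c17 LD2_c6 LD3_c12) (LK LD1_c9 LD2_c12 LD3_c9) Lrfl Lrfl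
theorem f80070 : Led Lsl_ef (LP (LK LD1_c12 LD2_c2 LD3_c14)) = (LP (LK LD1_c17 LD2_c6 LD3_c12)) :=
  Lgr Lrot17 (Lpe (f61454 IH) (Lpe (K6.f80062 IH) (Lpr_dt (K36.f73008 IH) (Lpr_gf (K8.f79962 IH) (Lpe (K8.f79961 IH) (Lpe (K6.f58895 IH) (Lpe (f80066 IH) (Lpr_dt (f80067 IH) (Lpe (f80068 IH) (Lpe (f80069 IH) (Lpn (LP (LK LD1_c17 LD2_c6 LD3_c12)))))))))))))
theorem f61048 : Led Lsl_bt (LP (LK LD1_c3 LD2_c2 LD3_c33)) = (LP (LK LD1_c1 LD2_c27 LD3_c18)) :=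
  Lre_b IH (LK LD1_c3 LD2_c2 LD3_c33) (LK LD1_c1 LD2_c27 LD3_c18) Lrfl Lrfl
theorem f61049 : Led Lsl_ct (LP (LK LD1_c3 LD2_c2 LD3_c33)) = (LP (LK LD1_c6 LD2_c11 LD3_c0)) :=
  Lre_c IH (LK LD1_c3 LD2_c2 LD3_c33) (LK LD1_c6 LD2_c11 LD3_c0) Lrfl Lrfl
theorem f61050 : Led Lsl_gt (LP (LK LD1_c12 LD2_c2 LD3_c14)) = (LP (LK LD1_c6 LD2_c11 LD3_c0)) :=
  Lre_g IH (LK LD1_c12 LD2_c2 LD3_c14) (LK LD1_c6 LD2_c11 LD3_c0) Lrfl Lrfl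
theorem f61436 : Led Lsl_bt (LP (LK LD1_c1 LD2_c20 LD3_c53)) = (LP (LK LD1_c2 LD2_c49 LD3_c25)) :=
  Lre_b IH (LK LD1_c1 LD2_c20 LD3_c53) (LK LD1_c2 LD2_c49 LD3_c25) Lrfl Lrfl
theorem f61440 : Led Lsl_bt (LP (LK LD1_c11 LD2_c24 LD3_c23)) = (LP (LK LD1_c5 LD2_c47 LD3_c5)) :=
  Lre_b IH (LK LD1_c11 LD2_c24 LD3_c23) (LK LD1_c5 LD2_c47 LD3_c5) Lrfl Lrfl
theorem f61441 : Led Lsl_cf (LP (LK LD1_c12 LD2_c2 LD3_c14)) = (LP (LK LD1_c11 LD2_c24 LD3_c23)) :=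
  Lgr Lrot160 (Lpr_gt (f61050 IH) (Lpe (f61049 IH) (Lpr_bt (f61048 IH) (Lpr_gt (K17.f22917 IH) (Lpr_ct (K17.f61039 IH) (Lpr_gt (K8.f61017 IH) (Lpr_cf (K2.f61278 IH) (Lpr_bt (f61436 IH) (Lpr_gt (f61439 IH) (Lpe (f61440 IH) (Lpn (LP (LK LD1_c11 LD2_c24 LD3_c23)))))))))))))
theorem f61447 : Led Lsl_ct (LP (LK LD1_c12 LD2_c2 LD3_c14)) = (LP (LK LD1_c11 LD2_c24 LD3_c23)) :=
  Lgr Lrot59 (Lpr_cf (f61441 IH) (Lpn (LP (LK LD1_c11 LD2_c24 LD3_c23))))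
theorem f61463 : Led Lsl_et (LP (LK LD1_c11 LD2_c24 LD3_c23)) = (LP (LK LD1_c20 LD2_c22 LD3_c11)) :=
  Lre_e IH (LK LD1_c11 LD2_c24 LD3_c23) (LK LD1_c20 LD2_c22 LD3_c11) Lrfl Lrfl
theorem f80072 : Led Lsl_ct (LP (LK LD1_c20 LD2_c22 LD3_c11)) = (LP (LK LD1_c17 LD2_c6 LD3_c12)) :=
  Lgr Lrot15 (Lpe (f61463 IH) (Lpe (f61447 IH) (Lpr_ef (f80070 IH) (Lpn (LP (LK LD1_c17 LD2_c6 LD3_c12))))))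
theorem f454886 : Led Lsl_bt (LP (LK LD1_c5 LD2_c57 LD3_c22)) = (LP (LK LD1_c2 LD2_c54 LD3_c57)) :=
  Lre_b IH (LK LD1_c5 LD2_c57 LD3_c22) (LK LD1_c2 LD2_c54 LD3_c57) Lrfl Lrfl
theorem f454887 : Led Lsl_ct (LP (LK LD1_c5 LD2_c57 LD3_c22)) = (LP (LK LD1_c11 LD2_c39 LD3_c59)) :=
  Lre_c IH (LK LD1_c5 LD2_c57 LD3_c22) (LK LD1_c11 LD2_c39 LD3_c59) Lrfl Lrfl
theorem f644384 : Led Lsl_gt (LP (LK LD1_c17 LD2_c6 LD3_c12)) = (LP (LK LD1_c11 LD2_c39 LD3_c59)) :=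
  Lgr Lrot65 (Lpe (f80072 IH) (Lpr_bt (f80088 IH) (Lpr_gf (f644380 IH) (Lpe (K41.f445614 IH) (Lpr_ct (K32.f445607 IH) (Lpr_gf (K32.f505105 IH) (Lpe (K35.f454864 IH) (Lpr_gf (K35.f454880 IH) (Lpe (f454886 IH) (Lpr_ct (f454887 IH) (Lpn (LP (LK LD1_c11 LD2_c39 LD3_c59)))))))))))))
theorem f140256 : Led Lsl_cf (LP (LK LD1_c5 LD2_c45 LD3_c54)) = (LP (LK LD1_c3 LD2_c59 LD3_c15)) :=
  Lgr Lrot11 (Lpr_ct (K9.f140248 IH) (Lpn (LP (LK LD1_c3 LD2_c59 LD3_c15))))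
theorem f140480 : Led Lsl_bt (LP (LK LD1_c1 LD2_c20 LD3_c20)) = (LP (LK LD1_c0 LD2_c37 LD3_c11)) :=
  Lre_b IH (LK LD1_c1 LD2_c20 LD3_c20) (LK LD1_c0 LD2_c37 LD3_c11) Lrfl Lrfl
theorem f140481 : Led Lsl_ct (LP (LK LD1_c1 LD2_c20 LD3_c20)) = (LP (LK LD1_c2 LD2_c48 LD3_c13)) :=
  Lre_c IH (LK LD1_c1 LD2_c20 LD3_c20) (LK LD1_c2 LD2_c48 LD3_c13) Lrfl Lrfl
theorem f140482 : Led Lsl_gt (LP (LK LD1_c5 LD2_c44 LD3_c48)) = (LP (LK LD1_c2 LD2_c48 LD3_c13)) :=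
  Lre_g IH (LK LD1_c5 LD2_c44 LD3_c48) (LK LD1_c2 LD2_c48 LD3_c13) Lrfl Lrfl
theorem f140483 : Led Lsl_ct (LP (LK LD1_c11 LD2_c19 LD3_c44)) = (LP (LK LD1_c5 LD2_c44 LD3_c48)) :=
  Lre_c IH (LK LD1_c11 LD2_c19 LD3_c44) (LK LD1_c5 LD2_c44 LD3_c48) Lrfl Lrfl
theorem f40239 : Led Lsl_bt (LP (LK LD1_c3 LD2_c59 LD3_c15)) = (LP (LK LD1_c7 LD2_c59 LD3_c44)) :=
  Lre_b IH (LK LD1_c3 LD2_c59 LD3_c15) (LK LD1_c7 LD2_c59 LD3_c44) Lrfl Lrfl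
theorem f140263 : Led Lsl_gt (LP (LK LD1_c7 LD2_c59 LD3_c44)) = (LP (LK LD1_c15 LD2_c4 LD3_c11)) :=
  Lre_g IH (LK LD1_c7 LD2_c59 LD3_c44) (LK LD1_c15 LD2_c4 LD3_c11) Lrfl Lrfl
theorem f140484 : Led Lsl_bt (LP (LK LD1_c11 LD2_c19 LD3_c44)) = (LP (LK LD1_c15 LD2_c4 LD3_c11)) :=
  Lgr Lrot92 (Lpr_ct (f140483 IH) (Lpr_gt (f140482 IH) (Lpe (f140481 IH) (Lpr_bt (f140480 IH) (Lpr_gt (K9.f140245 IH) (Lpr_ct (K9.f140246 IH) (Lpr_gt (K9.f140247 IH) (Lpr_cf (f140256 IH) (Lpr_bt (f40239 IH) (Lpr_gt (f140263 IH) (Lpn (LP (LK LD1_c15 LD2_c4 LD3_c11)))))))))))))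
theorem f140495 : Led Lsl_gt (LP (LK LD1_c11 LD2_c18 LD3_c18)) = (LP (LK LD1_c5 LD2_c44 LD3_c48)) :=
  Lre_g IH (LK LD1_c11 LD2_c18 LD3_c18) (LK LD1_c5 LD2_c44 LD3_c48) Lrfl Lrfl
theorem f140496 : Led Lsl_ct (LP (LK LD1_c5 LD2_c44 LD3_c9)) = (LP (LK LD1_c11 LD2_c18 LD3_c18)) :=
  Lre_c IH (LK LD1_c5 LD2_c44 LD3_c9) (LK LD1_c11 LD2_c18 LD3_c18) Lrfl Lrfl
theorem f140502 : Led Lsl_bt (LP (LK LD1_c5 LD2_c44 LD3_c9)) = (LP (LK LD1_c9 LD2_c3 LD3_c37)) :=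
  Lre_b IH (LK LD1_c5 LD2_c44 LD3_c9) (LK LD1_c9 LD2_c3 LD3_c37) Lrfl Lrfl
theorem f140503 : Led Lsl_gt (LP (LK LD1_c4 LD2_c33 LD3_c21)) = (LP (LK LD1_c9 LD2_c3 LD3_c37)) :=
  Lre_g IH (LK LD1_c4 LD2_c33 LD3_c21) (LK LD1_c9 LD2_c3 LD3_c37) Lrfl Lrfl
theorem f140504 : Led Lsl_bt (LP (LK LD1_c9 LD2_c4 LD3_c11)) = (LP (LK LD1_c4 LD2_c33 LD3_c21)) :=
  Lre_b IH (LK LD1_c9 LD2_c4 LD3_c11) (LK LD1_c4 LD2_c33 LD3_c21) Lrfl Lrfl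
theorem f140505 : Led Lsl_ct (LP (LK LD1_c9 LD2_c4 LD3_c11)) = (LP (LK LD1_c16 LD2_c55 LD3_c39)) :=
  Lre_c IH (LK LD1_c9 LD2_c4 LD3_c11) (LK LD1_c16 LD2_c55 LD3_c39) Lrfl Lrfl
theorem f40282 : Led Lsl_gt (LP (LK LD1_c15 LD2_c4 LD3_c11)) = (LP (LK LD1_c7 LD2_c59 LD3_c32)) :=
  Lre_g IH (LK LD1_c15 LD2_c4 LD3_c11) (LK LD1_c7 LD2_c59 LD3_c32) Lrfl Lrfl
theorem f40270 : Led Lsl_ct (LP (LK LD1_c7 LD2_c59 LD3_c32)) = (LP (LK LD1_c15 LD2_c4 LD3_c9)) :=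
  Lre_c IH (LK LD1_c7 LD2_c59 LD3_c32) (LK LD1_c15 LD2_c4 LD3_c9) Lrfl Lrfl
theorem f140506 : Led Lsl_gf (LP (LK LD1_c16 LD2_c55 LD3_c39)) = (LP (LK LD1_c15 LD2_c4 LD3_c9)) :=
  Lgr Lrot129 (Lpe (f140505 IH) (Lpr_bt (f140504 IH) (Lpr_gt (f140503 IH) (Lpe (f140502 IH) (Lpr_ct (f140496 IH) (Lpr_gt (f140495 IH) (Lpe (f140483 IH) (Lpr_bt (f140484 IH) (Lpr_gt (f40282 IH) (Lpr_ct (f40270 IH) (Lpn (LP (LK LD1_c15 LD2_c4 LD3_c9)))))))))))))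
theorem f140514 : Led Lsl_ct (LP (LK LD1_c9 LD2_c3 LD3_c37)) = (LP (LK LD1_c16 LD2_c54 LD3_c40)) :=
  Lre_c IH (LK LD1_c9 LD2_c3 LD3_c37) (LK LD1_c16 LD2_c54 LD3_c40) Lrfl Lrfl
theorem f140515 : Led Lsl_gt (LP (LK LD1_c16 LD2_c54 LD3_c40)) = (LP (LK LD1_c9 LD2_c4 LD3_c7)) :=
  Lre_g IH (LK LD1_c16 LD2_c54 LD3_c40) (LK LD1_c9 LD2_c4 LD3_c7) Lrfl Lrfl
theorem f140516 : Led Lsl_ct (LP (LK LD1_c16 LD2_c55 LD3_c29)) = (LP (LK LD1_c9 LD2_c4 LD3_c7)) :=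
  Lre_c IH (LK LD1_c16 LD2_c55 LD3_c29) (LK LD1_c9 LD2_c4 LD3_c7) Lrfl Lrfl
theorem f40268 : Led Lsl_bt (LP (LK LD1_c7 LD2_c59 LD3_c32)) = (LP (LK LD1_c4 LD2_c57 LD3_c29)) :=
  Lgr Lrot127 (Lpr_bf (K1.f40252 IH) (Lpn (LP (LK LD1_c4 LD2_c57 LD3_c29))))
theorem f140517 : Led Lsl_bt (LP (LK LD1_c16 LD2_c55 LD3_c29)) = (LP (LK LD1_c9 LD2_c45 LD3_c50)) :=
  Lgr Lrot22 (Lpr_ct (f140516 IH) (Lpe (f140515 IH) (Lpe (f140514 IH) (Lpe (f140503 IH) (Lpe (f140504 IH) (Lpr_ct (f140505 IH) (Lpr_gf (f140506 IH) (Lpe (f40270 IH) (Lpr_bt (f40268 IH) (Lpe (f104911 IH) (Lpn (LP (LK LD1_c9 LD2_c45 LD3_c50)))))))))))))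
theorem f104916 : Led Lsl_df (LP (LK LD1_c11 LD2_c24 LD3_c26)) = (LP (LK LD1_c9 LD2_c45 LD3_c50)) :=
  Lgr Lrot38 (Lpr_dt (f104912 IH) (Lpn (LP (LK LD1_c9 LD2_c45 LD3_c50))))
theorem f80093 : Led Lsl_bt (LP (LK LD1_c11 LD2_c24 LD3_c26)) = (LP (LK LD1_c20 LD2_c22 LD3_c11)) :=
  Lre_b IH (LK LD1_c11 LD2_c24 LD3_c26) (LK LD1_c20 LD2_c22 LD3_c11) Lrfl Lrfl
theorem f140525 : Led Lsl_df (LP (LK LD1_c16 LD2_c55 LD3_c29)) = (LP (LK LD1_c20 LD2_c22 LD3_c11)) :=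
  Lgr Lrot12 (Lpr_bt (f140517 IH) (Lpe (f104916 IH) (Lpr_bt (f80093 IH) (Lpn (LP (LK LD1_c20 LD2_c22 LD3_c11))))))
theorem f140524 : Led Lsl_ct (LP (LK LD1_c9 LD2_c4 LD3_c7)) = (LP (LK LD1_c16 LD2_c55 LD3_c29)) :=
  Lre_c IH (LK LD1_c9 LD2_c4 LD3_c7) (LK LD1_c16 LD2_c55 LD3_c29) Lrfl Lrfl
theorem f140533 : Led Lsl_dt (LP (LK LD1_c4 LD2_c33 LD3_c21)) = (LP (LK LD1_c9 LD2_c4 LD3_c13)) :=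
  Lre_d IH (LK LD1_c4 LD2_c33 LD3_c21) (LK LD1_c9 LD2_c4 LD3_c13) Lrfl Lrfl
theorem f140534 : Led Lsl_gt (LP (LK LD1_c9 LD2_c4 LD3_c13)) = (LP (LK LD1_c16 LD2_c55 LD3_c45)) :=
  Lre_g IH (LK LD1_c9 LD2_c4 LD3_c13) (LK LD1_c16 LD2_c55 LD3_c45) Lrfl Lrfl
theorem f140535 : Led Lsl_ct (LP (LK LD1_c16 LD2_c55 LD3_c45)) = (LP (LK LD1_c26 LD2_c52 LD3_c10)) :=
  Lre_c IH (LK LD1_c16 LD2_c55 LD3_c45) (LK LD1_c26 LD2_c52 LD3_c10) Lrfl Lrfl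
theorem f80075 : Led Lsl_et (LP (LK LD1_c12 LD2_c2 LD3_c14)) = (LP (LK LD1_c17 LD2_c6 LD3_c12)) :=
  Lgr Lrot87 (Lpr_ef (f80070 IH) (Lpn (LP (LK LD1_c17 LD2_c6 LD3_c12))))
theorem f61450 : Led Lsl_et (LP (LK LD1_c20 LD2_c22 LD3_c11)) = (LP (LK LD1_c11 LD2_c24 LD3_c23)) :=
  Lre_e IH (LK LD1_c20 LD2_c22 LD3_c11) (LK LD1_c11 LD2_c24 LD3_c23) Lrfl Lrfl
theorem f80086 : Led Lsl_cf (LP (LK LD1_c20 LD2_c22 LD3_c11)) = (LP (LK LD1_c17 LD2_c6 LD3_c12)) :=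
  Lgr Lrot39 (Lpr_et (f61450 IH) (Lpe (f61441 IH) (Lpr_et (f80075 IH) (Lpn (LP (LK LD1_c17 LD2_c6 LD3_c12))))))
theorem f140536 : Led Lsl_gt (LP (LK LD1_c26 LD2_c52 LD3_c10)) = (LP (LK LD1_c17 LD2_c6 LD3_c12)) :=
  Lgr Lrot150 (Lpe (f140535 IH) (Lpe (f140534 IH) (Lpe (f140533 IH) (Lpr_gt (f140503 IH) (Lpr_ct (f140514 IH) (Lpr_gt (f140515 IH) (Lpr_ct (f140524 IH) (Lpr_df (f140525 IH) (Lpr_cf (f80086 IH) (Lpn (LP (LK LD1_c17 LD2_c6 LD3_c12))))))))))))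
theorem f99951 : Led Lsl_et (LP (LK LD1_c1 LD2_c5 LD3_c1)) = (LP (LK LD1_c2 LD2_c16 LD3_c11)) :=
  Lre_e IH (LK LD1_c1 LD2_c5 LD3_c1) (LK LD1_c2 LD2_c16 LD3_c11) Lrfl Lrfl
theorem f99952 : Led Lsl_gt (LP (LK LD1_c2 LD2_c16 LD3_c11)) = (LP (LK LD1_c4 LD2_c38 LD3_c11)) :=
  Lre_g IH (LK LD1_c2 LD2_c16 LD3_c11) (LK LD1_c4 LD2_c38 LD3_c11) Lrfl Lrfl
theorem f99998 : Led Lsl_dt (LP (LK LD1_c4 LD2_c38 LD3_c11)) = (LP (LK LD1_c9 LD2_c12 LD3_c2)) :=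
  Lre_d IH (LK LD1_c4 LD2_c38 LD3_c11) (LK LD1_c9 LD2_c12 LD3_c2) Lrfl Lrfl
theorem f99999 : Led Lsl_gt (LP (LK LD1_c9 LD2_c12 LD3_c2)) = (LP (LK LD1_c17 LD2_c6 LD3_c1)) :=
  Lre_g IH (LK LD1_c9 LD2_c12 LD3_c2) (LK LD1_c17 LD2_c6 LD3_c1) Lrfl Lrfl
theorem f100000 : Led Lsl_dt (LP (LK LD1_c17 LD2_c4 LD3_c0)) = (LP (LK LD1_c17 LD2_c6 LD3_c1)) :=
  Lre_d IH (LK LD1_c17 LD2_c4 LD3_c0) (LK LD1_c17 LD2_c6 LD3_c1) Lrfl Lrfl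
theorem f100001 : Led Lsl_et (LP (LK LD1_c17 LD2_c4 LD3_c0)) = (LP (LK LD1_c9 LD2_c10 LD3_c44)) :=
  Lre_e IH (LK LD1_c17 LD2_c4 LD3_c0) (LK LD1_c9 LD2_c10 LD3_c44) Lrfl Lrfl
theorem f99993 : Led Lsl_et (LP (LK LD1_c3 LD2_c2 LD3_c4)) = (LP (LK LD1_c6 LD2_c10 LD3_c54)) :=
  Lre_e IH (LK LD1_c3 LD2_c2 LD3_c4) (LK LD1_c6 LD2_c10 LD3_c54) Lrfl Lrfl
theorem f100002 : Led Lsl_gt (LP (LK LD1_c9 LD2_c10 LD3_c44)) = (LP (LK LD1_c6 LD2_c10 LD3_c54)) :=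
  Lgr Lrot131 (Lpe (f100001 IH) (Lpr_dt (f100000 IH) (Lpe (f99999 IH) (Lpe (f99998 IH) (Lpe (f99952 IH) (Lpe (f99951 IH) (Lpr_dt (K6.f99950 IH) (Lpe (K6.f36593 IH) (Lpr_df (K6.f99944 IH) (Lpr_et (f99993 IH) (Lpn (LP (LK LD1_c6 LD2_c10 LD3_c54)))))))))))))
theorem f100014 : Led Lsl_ct (LP (LK LD1_c4 LD2_c37 LD3_c33)) = (LP (LK LD1_c9 LD2_c10 LD3_c44)) :=
  Lre_c IH (LK LD1_c4 LD2_c37 LD3_c33) (LK LD1_c9 LD2_c10 LD3_c44) Lrfl Lrfl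
theorem f642253 : Led Lsl_ft (LP (LK LD1_c4 LD2_c59 LD3_c5)) = (LP (LK LD1_c2 LD2_c27 LD3_c25)) :=
  Lre_f IH (LK LD1_c4 LD2_c59 LD3_c5) (LK LD1_c2 LD2_c27 LD3_c25) Lrfl Lrfl
theorem f539481 : Led Lsl_dt (LP (LK LD1_c11 LD2_c40 LD3_c46)) = (LP (LK LD1_c11 LD2_c47 LD3_c37)) :=
  Lgr Lrot42 (Lpr_df (K40.f539470 IH) (Lpn (LP (LK LD1_c11 LD2_c47 LD3_c37))))
theorem f426024 : Led Lsl_ft (LP (LK LD1_c5 LD2_c58 LD3_c1)) = (LP (LK LD1_c11 LD2_c40 LD3_c46)) :=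
  Lre_f IH (LK LD1_c5 LD2_c58 LD3_c1) (LK LD1_c11 LD2_c40 LD3_c46) Lrfl Lrfl
theorem f539486 : Led Lsl_df (LP (LK LD1_c5 LD2_c58 LD3_c1)) = (LP (LK LD1_c6 LD2_c1 LD3_c30)) :=
  Lgr Lrot78 (Lpr_ft (f426024 IH) (Lpr_dt (f539481 IH) (Lpr_ft (K40.f539458 IH) (Lpn (LP (LK LD1_c6 LD2_c1 LD3_c30))))))
theorem f427051 : Led Lsl_cf (LP (LK LD1_c5 LD2_c58 LD3_c1)) = (LP (LK LD1_c11 LD2_c30 LD3_c31)) :=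
  Lgr Lrot11 (Lpr_ct (K42.f427036 IH) (Lpn (LP (LK LD1_c11 LD2_c30 LD3_c31))))
def v4911 : LQ := Led Lsl_gf (LP (LK LD1_c2 LD2_c52 LD3_c39))
theorem f640878 : Led Lsl_gf (LP (LK LD1_c2 LD2_c52 LD3_c39)) = v4911 :=
  Lrfl
theorem f438657 : Led Lsl_et (LP (LK LD1_c6 LD2_c21 LD3_c39)) = (LP (LK LD1_c3 LD2_c8 LD3_c29)) :=
  Lre_e IH (LK LD1_c6 LD2_c21 LD3_c39) (LK LD1_c3 LD2_c8 LD3_c29) Lrfl Lrfl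
theorem f82646 : Led Lsl_bt (LP (LK LD1_c3 LD2_c8 LD3_c31)) = (LP (LK LD1_c6 LD2_c21 LD3_c39)) :=
  Lre_b IH (LK LD1_c3 LD2_c8 LD3_c31) (LK LD1_c6 LD2_c21 LD3_c39) Lrfl Lrfl
theorem f438455 : Led Lsl_dt (LP (LK LD1_c6 LD2_c21 LD3_c39)) = (LP (LK LD1_c5 LD2_c52 LD3_c53)) :=
  Lgr Lrot79 (Lpe (f82646 IH) (Lpr_df (K32.f438451 IH) (Lpe (K32.f22533 IH) (Lpn (LP (LK LD1_c5 LD2_c52 LD3_c53))))))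
theorem f615211 : Led Lsl_gt (LP (LK LD1_c5 LD2_c52 LD3_c53)) = (LP (LK LD1_c9 LD2_c48 LD3_c0)) :=
  Lgr Lrot112 (Lpe (f438455 IH) (Lpr_et (f438657 IH) (Lpr_gf (K42.f615203 IH) (Lpe (K42.f76099 IH) (Lpe (K4.f76077 IH) (Lpr_gf (K4.f76101 IH) (Lpe (K2.f72849 IH) (Lpr_gf (K39.f139067 IH) (Lpe (K8.f138977 IH) (Lpr_dt (K39.f138990 IH) (Lpn (LP (LK LD1_c9 LD2_c48 LD3_c0)))))))))))))
theorem f138993 : Led Lsl_at (LP (LK LD1_c4 LD2_c59 LD3_c4)) = (LP (LK LD1_c9 LD2_c48 LD3_c0)) :=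
  Lre_a IH (LK LD1_c4 LD2_c59 LD3_c4) (LK LD1_c9 LD2_c48 LD3_c0) Lrfl Lrfl
theorem f615213 : Led Lsl_ft (LP (LK LD1_c9 LD2_c48 LD3_c39)) = (LP (LK LD1_c4 LD2_c59 LD3_c4)) :=
  Lre_f IH (LK LD1_c9 LD2_c48 LD3_c39) (LK LD1_c4 LD2_c59 LD3_c4) Lrfl Lrfl
theorem f615214 : Led Lsl_gf (LP (LK LD1_c5 LD2_c52 LD3_c53)) = (LP (LK LD1_c9 LD2_c48 LD3_c39)) :=
  Lgr Lrot47 (Lpr_gt (f615211 IH) (Lpe (f138993 IH) (Lpe (f615213 IH) (Lpn (LP (LK LD1_c9 LD2_c48 LD3_c39))))))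
theorem f387224 : Led Lsl_dt (LP (LK LD1_c4 LD2_c59 LD3_c5)) = (LP (LK LD1_c9 LD2_c48 LD3_c39)) :=
  Lre_d IH (LK LD1_c4 LD2_c59 LD3_c5) (LK LD1_c9 LD2_c48 LD3_c39) Lrfl Lrfl
theorem f642548 : v4911 = (LP (LK LD1_c4 LD2_c59 LD3_c5)) :=
  (Llr Lrot147 (Lpe (f640878 IH) (Lpr_ct (K42.f22537 IH) (Lpe (K42.f642524 IH) (Lpe (f427051 IH) (Lpr_df (f539486 IH) (Lpe (K42.f539453 IH) (Lpr_gf (K42.f642540 IH) (Lpe (K42.f436284 IH) (Lpr_gf (f615214 IH) (Lpe (f387224 IH) (Lpn (LP (LK LD1_c4 LD2_c59 LD3_c5)))))))))))))).symm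
def v4910 : LQ := Led Lsl_gt (LP (LK LD1_c2 LD2_c52 LD3_c39))
theorem f640872 : Led Lsl_gt (LP (LK LD1_c2 LD2_c52 LD3_c39)) = v4910 :=
  Lrfl
theorem f642553 : (LP (LK LD1_c4 LD2_c58 LD3_c46)) = v4910 :=
  (Llr Lrot26 (Lpe (K11.f139046 IH) (Lpe (f642253 IH) (Lpq (f642548 IH) (Lpe (f640878 IH) (Lpr_gt (f640872 IH) (Lpn v4910))))))).symm
theorem f505239 : Led Lsl_at (LP (LK LD1_c3 LD2_c12 LD3_c61)) = (LP (LK LD1_c6 LD2_c30 LD3_c3)) :=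
  Lre_a IH (LK LD1_c3 LD2_c12 LD3_c61) (LK LD1_c6 LD2_c30 LD3_c3) Lrfl Lrfl
theorem f640873 : Led Lsl_gf (LP (LK LD1_c6 LD2_c30 LD3_c3)) = v4910 :=
  Lgr Lrot76 (Lpe (f505239 IH) (Lpr_ff (f505767 IH) (Lpr_gt (f640872 IH) (Lpn v4910))))
def v5021 : LQ := Led Lsl_bt (LP (LK LD1_c2 LD2_c55 LD3_c57))
theorem f641355 : Led Lsl_bt (LP (LK LD1_c2 LD2_c55 LD3_c57)) = v5021 :=
  Lrfl
theorem f641356 : Led Lsl_bf (LP (LK LD1_c2 LD2_c55 LD3_c57)) = v5021 :=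
  Lgr Lrot24 (Lpr_bt (f641355 IH) (Lpn v5021))
theorem f642558 : (LP (LK LD1_c4 LD2_c37 LD3_c33)) = v5021 :=
  (Llr Lrot160 (Lpr_ct (f100014 IH) (Lpr_gt (f100002 IH) (Lpe (K8.f99971 IH) (Lpr_bt (K8.f138978 IH) (Lpqs (f642553 IH) (Lpe (f640873 IH) (Lpr_ct (K41.f505246 IH) (Lpr_gt (K41.f642511 IH) (Lpe (K42.f642513 IH) (Lpr_bt (K42.f641318 IH) (Lpe (K41.f641320 IH) (Lpr_bf (f641356 IH) (Lpn v5021)))))))))))))).symm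
theorem f71364 : Led Lsl_bt (LP (LK LD1_c4 LD2_c36 LD3_c29)) = (LP (LK LD1_c2 LD2_c15 LD3_c24)) :=
  Lre_b IH (LK LD1_c4 LD2_c36 LD3_c29) (LK LD1_c2 LD2_c15 LD3_c24) Lrfl Lrfl
theorem f504766 : Led Lsl_at (LP (LK LD1_c9 LD2_c9 LD3_c6)) = (LP (LK LD1_c4 LD2_c36 LD3_c29)) :=
  Lre_a IH (LK LD1_c9 LD2_c9 LD3_c6) (LK LD1_c4 LD2_c36 LD3_c29) Lrfl Lrfl
theorem f500585 : Led Lsl_ct K32.v510 = K35.v1655 :=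
  Lgr Lrot59 (Lpr_cf (K35.f500584 IH) (Lpn K35.v1655))
theorem f507021 : K35.v1655 = K32.v1330 :=
  Lefun (Lecon (f500585 IH) (K35.f507017 IH)) (K32.f494882 IH)
theorem f442873 : Led Lsl_bt (LP (LK LD1_c1 LD2_c23 LD3_c21)) = (LP (LK LD1_c2 LD2_c54 LD3_c53)) :=
  Lre_b IH (LK LD1_c1 LD2_c23 LD3_c21) (LK LD1_c2 LD2_c54 LD3_c53) Lrfl Lrfl
theorem f507782 : Led Lsl_bf (LP (LK LD1_c9 LD2_c9 LD3_c6)) = (LP (LK LD1_c5 LD2_c57 LD3_c15)) :=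
  Lgr Lrot81 (Lpr_at (f504766 IH) (Lpr_bt (f71364 IH) (Lpq (K32.f504713 IH) (Lpq (f507021 IH) (Lpe (K35.f500582 IH) (Lpr_bt (f442873 IH) (Lpr_at (K41.f500588 IH) (Lpn (LP (LK LD1_c5 LD2_c57 LD3_c15))))))))))
def v4982 : LQ := Led Lsl_at (LP (LK LD1_c2 LD2_c54 LD3_c55))
theorem f641167 : Led Lsl_at (LP (LK LD1_c2 LD2_c54 LD3_c55)) = v4982 :=
  Lrfl
theorem f500587 : Led Lsl_ff (LP (LK LD1_c1 LD2_c23 LD3_c22)) = K35.v1655 :=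
  Lgr Lrot3 (Lpr_ft (K35.f500586 IH) (Lpn K35.v1655))
theorem f507093 : Led Lsl_ft (LP (LK LD1_c6 LD2_c2 LD3_c9)) = (LP (LK LD1_c4 LD2_c36 LD3_c30)) :=
  Lgr Lrot86 (Lpr_ef (K35.f444646 IH) (Lpr_ff (K35.f507087 IH) (Lpe (K35.f454894 IH) (Lpr_ff (f500587 IH) (Lpqs (f507021 IH) (Lpqs (K32.f504713 IH) (Lpe (K32.f71369 IH) (Lpn (LP (LK LD1_c4 LD2_c36 LD3_c30))))))))))
theorem f415433 : Led Lsl_bt (LP (LK LD1_c11 LD2_c48 LD3_c47)) = (LP (LK LD1_c6 LD2_c2 LD3_c9)) :=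
  Lre_b IH (LK LD1_c11 LD2_c48 LD3_c47) (LK LD1_c6 LD2_c2 LD3_c9) Lrfl Lrfl
theorem f504722 : Led Lsl_bt (LP (LK LD1_c4 LD2_c36 LD3_c30)) = (LP (LK LD1_c9 LD2_c9 LD3_c8)) :=
  Lre_b IH (LK LD1_c4 LD2_c36 LD3_c30) (LK LD1_c9 LD2_c9 LD3_c8) Lrfl Lrfl
theorem f507544 : Led Lsl_ff (LP (LK LD1_c11 LD2_c48 LD3_c47)) = (LP (LK LD1_c9 LD2_c9 LD3_c8)) :=
  Lgr Lrot25 (Lpr_bt (f415433 IH) (Lpr_ft (f507093 IH) (Lpr_bt (f504722 IH) (Lpn (LP (LK LD1_c9 LD2_c9 LD3_c8))))))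
theorem f507551 : Led Lsl_ft (LP (LK LD1_c11 LD2_c48 LD3_c47)) = (LP (LK LD1_c9 LD2_c9 LD3_c8)) :=
  Lgr Lrot48 (Lpr_ff (f507544 IH) (Lpn (LP (LK LD1_c9 LD2_c9 LD3_c8))))
theorem f444641 : Led Lsl_bt (LP (LK LD1_c5 LD2_c45 LD3_c58)) = (LP (LK LD1_c11 LD2_c22 LD3_c19)) :=
  Lre_b IH (LK LD1_c5 LD2_c45 LD3_c58) (LK LD1_c11 LD2_c22 LD3_c19) Lrfl Lrfl
theorem f444644 : Led Lsl_ef (LP (LK LD1_c11 LD2_c48 LD3_c47)) = (LP (LK LD1_c11 LD2_c22 LD3_c19)) :=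
  Lgr Lrot29 (Lpr_bt (f415433 IH) (Lpr_et (K35.f444636 IH) (Lpr_bt (f444641 IH) (Lpn (LP (LK LD1_c11 LD2_c22 LD3_c19))))))
theorem f444632 : Led Lsl_bt (LP (LK LD1_c11 LD2_c22 LD3_c19)) = (LP (LK LD1_c5 LD2_c45 LD3_c58)) :=
  Lre_b IH (LK LD1_c11 LD2_c22 LD3_c19) (LK LD1_c5 LD2_c45 LD3_c58) Lrfl Lrfl
theorem f416156 : Led Lsl_bt (LP (LK LD1_c2 LD2_c54 LD3_c57)) = (LP (LK LD1_c5 LD2_c57 LD3_c22)) :=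
  Lre_b IH (LK LD1_c2 LD2_c54 LD3_c57) (LK LD1_c5 LD2_c57 LD3_c22) Lrfl Lrfl
theorem f507081 : Led Lsl_ff (LP (LK LD1_c11 LD2_c22 LD3_c19)) = (LP (LK LD1_c5 LD2_c57 LD3_c22)) :=
  Lgr Lrot25 (Lpr_bt (f444632 IH) (Lpr_ft (K35.f507079 IH) (Lpr_bt (f416156 IH) (Lpn (LP (LK LD1_c5 LD2_c57 LD3_c22))))))
theorem f507555 : Led Lsl_et (LP (LK LD1_c2 LD2_c54 LD3_c55)) = (LP (LK LD1_c5 LD2_c57 LD3_c22)) :=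
  Lre_e IH (LK LD1_c2 LD2_c54 LD3_c55) (LK LD1_c5 LD2_c57 LD3_c22) Lrfl Lrfl
theorem f504763 : Led Lsl_et (LP (LK LD1_c9 LD2_c9 LD3_c8)) = (LP (LK LD1_c4 LD2_c36 LD3_c29)) :=
  Lre_e IH (LK LD1_c9 LD2_c9 LD3_c8) (LK LD1_c4 LD2_c36 LD3_c29) Lrfl Lrfl
theorem f507556 : Led Lsl_ff (LP (LK LD1_c2 LD2_c54 LD3_c55)) = (LP (LK LD1_c4 LD2_c36 LD3_c29)) :=
  Lgr Lrot72 (Lpr_et (f507555 IH) (Lpe (f507081 IH) (Lpe (f444644 IH) (Lpr_ft (f507551 IH) (Lpr_et (f504763 IH) (Lpn (LP (LK LD1_c4 LD2_c36 LD3_c29))))))))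
theorem f641169 : Led Lsl_ff (LP (LK LD1_c9 LD2_c9 LD3_c6)) = v4982 :=
  Lgr Lrot30 (Lpr_at (f504766 IH) (Lpe (f507556 IH) (Lpr_at (f641167 IH) (Lpn v4982))))
theorem f641172 : Led Lsl_ft (LP (LK LD1_c9 LD2_c9 LD3_c6)) = v4982 :=
  Lgr Lrot48 (Lpr_ff (f641169 IH) (Lpn v4982))
theorem f641760 : v5021 = v4982 :=
  (Llr Lrot61 (Lpe (f641356 IH) (Lpr_ft (K41.f641359 IH) (Lpqs (K41.f641755 IH) (Lpe (f507782 IH) (Lpr_ft (f641172 IH) (Lpn v4982))))))).symm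
theorem f507612 : Led Lsl_ct (LP (LK LD1_c17 LD2_c2 LD3_c10)) = (LP (LK LD1_c9 LD2_c9 LD3_c6)) :=
  Lre_c IH (LK LD1_c17 LD2_c2 LD3_c10) (LK LD1_c9 LD2_c9 LD3_c6) Lrfl Lrfl
theorem f642568 : Led Lsl_ff (LP (LK LD1_c17 LD2_c2 LD3_c10)) = (LP (LK LD1_c9 LD2_c10 LD3_c44)) :=
  Lgr Lrot23 (Lpr_ct (f507612 IH) (Lpr_ft (f641172 IH) (Lpq (f641760 IH) (Lpq (f642558 IH) (Lpr_ct (f100014 IH) (Lpn (LP (LK LD1_c9 LD2_c10 LD3_c44))))))))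
theorem f642572 : Led Lsl_ft (LP (LK LD1_c17 LD2_c2 LD3_c10)) = (LP (LK LD1_c9 LD2_c10 LD3_c44)) :=
  Lgr Lrot48 (Lpr_ff (f642568 IH) (Lpn (LP (LK LD1_c9 LD2_c10 LD3_c44))))
theorem f504760 : Led Lsl_at (LP (LK LD1_c9 LD2_c9 LD3_c7)) = (LP (LK LD1_c17 LD2_c2 LD3_c10)) :=
  Lre_a IH (LK LD1_c9 LD2_c9 LD3_c7) (LK LD1_c17 LD2_c2 LD3_c10) Lrfl Lrfl
theorem f82934 : Led Lsl_ct (LP (LK LD1_c2 LD2_c54 LD3_c55)) = (LP (LK LD1_c5 LD2_c57 LD3_c20)) :=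
  Lre_c IH (LK LD1_c2 LD2_c54 LD3_c55) (LK LD1_c5 LD2_c57 LD3_c20) Lrfl Lrfl
theorem f71365 : Led Lsl_ct (LP (LK LD1_c9 LD2_c9 LD3_c7)) = (LP (LK LD1_c4 LD2_c36 LD3_c29)) :=
  Lre_c IH (LK LD1_c9 LD2_c9 LD3_c7) (LK LD1_c4 LD2_c36 LD3_c29) Lrfl Lrfl
theorem f507558 : Led Lsl_ft (LP (LK LD1_c5 LD2_c57 LD3_c20)) = (LP (LK LD1_c9 LD2_c9 LD3_c7)) :=
  Lgr Lrot4 (Lpe (f82934 IH) (Lpr_ff (f507556 IH) (Lpe (f71365 IH) (Lpn (LP (LK LD1_c9 LD2_c9 LD3_c7))))))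
theorem f642574 : Led Lsl_af (LP (LK LD1_c5 LD2_c57 LD3_c20)) = (LP (LK LD1_c9 LD2_c10 LD3_c44)) :=
  Lgr Lrot45 (Lpr_ft (f507558 IH) (Lpr_at (f504760 IH) (Lpr_ft (f642572 IH) (Lpn (LP (LK LD1_c9 LD2_c10 LD3_c44))))))
theorem f507576 : Led Lsl_et (LP (LK LD1_c5 LD2_c57 LD3_c20)) = (LP (LK LD1_c11 LD2_c39 LD3_c59)) :=
  Lre_e IH (LK LD1_c5 LD2_c57 LD3_c20) (LK LD1_c11 LD2_c39 LD3_c59) Lrfl Lrfl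
theorem f642582 : Led Lsl_at (LP (LK LD1_c11 LD2_c39 LD3_c59)) = (LP (LK LD1_c17 LD2_c4 LD3_c0)) :=
  Lgr Lrot80 (Lpe (f507576 IH) (Lpr_af (f642574 IH) (Lpe (f100001 IH) (Lpn (LP (LK LD1_c17 LD2_c4 LD3_c0))))))
theorem f642584 : Led Lsl_af (LP (LK LD1_c11 LD2_c39 LD3_c59)) = (LP (LK LD1_c17 LD2_c4 LD3_c0)) :=
  Lgr Lrot0 (Lpr_at (f642582 IH) (Lpn (LP (LK LD1_c17 LD2_c4 LD3_c0))))
theorem f644401 : Led Lsl_ft (LP (LK LD1_c26 LD2_c52 LD3_c10)) = (LP (LK LD1_c17 LD2_c4 LD3_c0)) :=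
  Lgr Lrot2 (Lpr_gt (f140536 IH) (Lpr_gt (f644384 IH) (Lpr_af (f642584 IH) (Lpn (LP (LK LD1_c17 LD2_c4 LD3_c0))))))
theorem f644412 : Led Lsl_ff (LP (LK LD1_c26 LD2_c52 LD3_c10)) = (LP (LK LD1_c17 LD2_c4 LD3_c0)) :=
  Lgr Lrot3 (Lpr_ft (f644401 IH) (Lpn (LP (LK LD1_c17 LD2_c4 LD3_c0))))
theorem f140538 : Led Lsl_ct (LP (LK LD1_c26 LD2_c52 LD3_c10)) = (LP (LK LD1_c16 LD2_c55 LD3_c45)) :=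
  Lre_c IH (LK LD1_c26 LD2_c52 LD3_c10) (LK LD1_c16 LD2_c55 LD3_c45) Lrfl Lrfl
theorem f642592 : Led Lsl_ct (LP (LK LD1_c9 LD2_c10 LD3_c46)) = (LP (LK LD1_c17 LD2_c4 LD3_c0)) :=
  Lre_c IH (LK LD1_c9 LD2_c10 LD3_c46) (LK LD1_c17 LD2_c4 LD3_c0) Lrfl Lrfl
theorem f644416 : Led Lsl_ft (LP (LK LD1_c16 LD2_c55 LD3_c45)) = (LP (LK LD1_c9 LD2_c10 LD3_c46)) :=
  Lgr Lrot4 (Lpe (f140538 IH) (Lpr_ff (f644412 IH) (Lpe (f642592 IH) (Lpn (LP (LK LD1_c9 LD2_c10 LD3_c46))))))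
theorem f140547 : Led Lsl_dt (LP (LK LD1_c16 LD2_c54 LD3_c13)) = (LP (LK LD1_c16 LD2_c55 LD3_c45)) :=
  Lre_d IH (LK LD1_c16 LD2_c54 LD3_c13) (LK LD1_c16 LD2_c55 LD3_c45) Lrfl Lrfl
theorem f615052 : Led Lsl_dt (LP (LK LD1_c9 LD2_c10 LD3_c46)) = (LP (LK LD1_c9 LD2_c12 LD3_c21)) :=
  Lre_d IH (LK LD1_c9 LD2_c10 LD3_c46) (LK LD1_c9 LD2_c12 LD3_c21) Lrfl Lrfl
theorem f644428 : Led Lsl_ff (LP (LK LD1_c16 LD2_c54 LD3_c13)) = (LP (LK LD1_c9 LD2_c12 LD3_c21)) :=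
  Lgr Lrot19 (Lpr_dt (f140547 IH) (Lpr_ft (f644416 IH) (Lpr_dt (f615052 IH) (Lpn (LP (LK LD1_c9 LD2_c12 LD3_c21))))))
theorem f644443 : Led Lsl_ft (LP (LK LD1_c16 LD2_c54 LD3_c13)) = (LP (LK LD1_c9 LD2_c12 LD3_c21)) :=
  Lgr Lrot48 (Lpr_ff (f644428 IH) (Lpn (LP (LK LD1_c9 LD2_c12 LD3_c21))))
theorem f644422 : Led Lsl_ct (LP (LK LD1_c26 LD2_c50 LD3_c27)) = (LP (LK LD1_c16 LD2_c54 LD3_c13)) :=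
  Lre_c IH (LK LD1_c26 LD2_c50 LD3_c27) (LK LD1_c16 LD2_c54 LD3_c13) Lrfl Lrfl
theorem f642608 : Led Lsl_ct (LP (LK LD1_c9 LD2_c12 LD3_c21)) = (LP (LK LD1_c17 LD2_c6 LD3_c31)) :=
  Lre_c IH (LK LD1_c9 LD2_c12 LD3_c21) (LK LD1_c17 LD2_c6 LD3_c31) Lrfl Lrfl
theorem f644475 : Led Lsl_ff (LP (LK LD1_c26 LD2_c50 LD3_c27)) = (LP (LK LD1_c17 LD2_c6 LD3_c31)) :=
  Lgr Lrot23 (Lpr_ct (f644422 IH) (Lpr_ft (f644443 IH) (Lpr_ct (f642608 IH) (Lpn (LP (LK LD1_c17 LD2_c6 LD3_c31))))))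
theorem f642587 : Led Lsl_ct (LP (LK LD1_c17 LD2_c4 LD3_c0)) = (LP (LK LD1_c9 LD2_c10 LD3_c46)) :=
  Lre_c IH (LK LD1_c17 LD2_c4 LD3_c0) (LK LD1_c9 LD2_c10 LD3_c46) Lrfl Lrfl
theorem f642588 : Led Lsl_af (LP (LK LD1_c5 LD2_c57 LD3_c22)) = (LP (LK LD1_c9 LD2_c10 LD3_c46)) :=
  Lgr Lrot68 (Lpr_ct (f454887 IH) (Lpr_at (f642582 IH) (Lpr_ct (f642587 IH) (Lpn (LP (LK LD1_c9 LD2_c10 LD3_c46))))))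
theorem f507613 : Led Lsl_dt (LP (LK LD1_c5 LD2_c57 LD3_c22)) = (LP (LK LD1_c6 LD2_c3 LD3_c0)) :=
  Lre_d IH (LK LD1_c5 LD2_c57 LD3_c22) (LK LD1_c6 LD2_c3 LD3_c0) Lrfl Lrfl
theorem f642593 : Led Lsl_dt (LP (LK LD1_c9 LD2_c12 LD3_c21)) = (LP (LK LD1_c9 LD2_c10 LD3_c46)) :=
  Lre_d IH (LK LD1_c9 LD2_c12 LD3_c21) (LK LD1_c9 LD2_c10 LD3_c46) Lrfl Lrfl
theorem f642657 : Led Lsl_at (LP (LK LD1_c6 LD2_c3 LD3_c0)) = (LP (LK LD1_c9 LD2_c12 LD3_c21)) :=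
  Lgr Lrot51 (Lpe (f507613 IH) (Lpr_af (f642588 IH) (Lpe (f642593 IH) (Lpn (LP (LK LD1_c9 LD2_c12 LD3_c21))))))
theorem f501129 : Led Lsl_ct (LP (LK LD1_c11 LD2_c49 LD3_c56)) = (LP (LK LD1_c6 LD2_c3 LD3_c0)) :=
  Lre_c IH (LK LD1_c11 LD2_c49 LD3_c56) (LK LD1_c6 LD2_c3 LD3_c0) Lrfl Lrfl
theorem f642663 : Led Lsl_af (LP (LK LD1_c11 LD2_c49 LD3_c56)) = (LP (LK LD1_c17 LD2_c6 LD3_c31)) :=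
  Lgr Lrot68 (Lpr_ct (f501129 IH) (Lpr_at (f642657 IH) (Lpr_ct (f642608 IH) (Lpn (LP (LK LD1_c17 LD2_c6 LD3_c31))))))
theorem f642718 : Led Lsl_at (LP (LK LD1_c11 LD2_c49 LD3_c56)) = (LP (LK LD1_c17 LD2_c6 LD3_c31)) :=
  Lgr Lrot100 (Lpr_af (f642663 IH) (Lpn (LP (LK LD1_c17 LD2_c6 LD3_c31))))
theorem f615053 : Led Lsl_gt (LP (LK LD1_c4 LD2_c38 LD3_c17)) = (LP (LK LD1_c9 LD2_c12 LD3_c21)) :=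
  Lre_g IH (LK LD1_c4 LD2_c38 LD3_c17) (LK LD1_c9 LD2_c12 LD3_c21) Lrfl Lrfl
theorem f642666 : Led Lsl_gt (LP (LK LD1_c9 LD2_c12 LD3_c22)) = (LP (LK LD1_c4 LD2_c38 LD3_c17)) :=
  Lre_g IH (LK LD1_c9 LD2_c12 LD3_c22) (LK LD1_c4 LD2_c38 LD3_c17) Lrfl Lrfl
theorem f642667 : Led Lsl_ff (LP (LK LD1_c6 LD2_c3 LD3_c0)) = (LP (LK LD1_c9 LD2_c12 LD3_c22)) :=
  Lgr Lrot52 (Lpr_at (f642657 IH) (Lpe (f615053 IH) (Lpe (f642666 IH) (Lpn (LP (LK LD1_c9 LD2_c12 LD3_c22))))))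
theorem f642676 : Led Lsl_ft (LP (LK LD1_c6 LD2_c3 LD3_c0)) = (LP (LK LD1_c9 LD2_c12 LD3_c22)) :=
  Lgr Lrot48 (Lpr_ff (f642667 IH) (Lpn (LP (LK LD1_c9 LD2_c12 LD3_c22))))
theorem f642680 : Led Lsl_ct (LP (LK LD1_c9 LD2_c12 LD3_c22)) = (LP (LK LD1_c17 LD2_c6 LD3_c33)) :=
  Lre_c IH (LK LD1_c9 LD2_c12 LD3_c22) (LK LD1_c17 LD2_c6 LD3_c33) Lrfl Lrfl
theorem f642681 : Led Lsl_ff (LP (LK LD1_c11 LD2_c49 LD3_c56)) = (LP (LK LD1_c17 LD2_c6 LD3_c33)) :=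
  Lgr Lrot23 (Lpr_ct (f501129 IH) (Lpr_ft (f642676 IH) (Lpr_ct (f642680 IH) (Lpn (LP (LK LD1_c17 LD2_c6 LD3_c33))))))
theorem f644484 : Led Lsl_at (LP (LK LD1_c26 LD2_c50 LD3_c27)) = (LP (LK LD1_c17 LD2_c6 LD3_c33)) :=
  Lgr Lrot66 (Lpr_ff (f644475 IH) (Lpe (f642718 IH) (Lpr_ff (f642681 IH) (Lpn (LP (LK LD1_c17 LD2_c6 LD3_c33))))))
theorem f644437 : Led Lsl_at (LP (LK LD1_c16 LD2_c54 LD3_c13)) = (LP (LK LD1_c9 LD2_c12 LD3_c22)) :=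
  Lgr Lrot66 (Lpr_ff (f644428 IH) (Lpe (f642657 IH) (Lpr_ff (f642667 IH) (Lpn (LP (LK LD1_c9 LD2_c12 LD3_c22))))))
theorem f507089 : Led Lsl_ft (LP (LK LD1_c11 LD2_c22 LD3_c19)) = (LP (LK LD1_c5 LD2_c57 LD3_c22)) :=
  Lgr Lrot75 (Lpe (f444641 IH) (Lpr_ff (K35.f507087 IH) (Lpe (f454886 IH) (Lpn (LP (LK LD1_c5 LD2_c57 LD3_c22))))))
theorem f642683 : Led Lsl_df (LP (LK LD1_c11 LD2_c22 LD3_c19)) = (LP (LK LD1_c9 LD2_c12 LD3_c22)) :=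
  Lgr Lrot78 (Lpr_ft (f507089 IH) (Lpr_dt (f507613 IH) (Lpr_ft (f642676 IH) (Lpn (LP (LK LD1_c9 LD2_c12 LD3_c22))))))
theorem f444643 : Led Lsl_ct (LP (LK LD1_c11 LD2_c22 LD3_c19)) = (LP (LK LD1_c20 LD2_c19 LD3_c60)) :=
  Lre_c IH (LK LD1_c11 LD2_c22 LD3_c19) (LK LD1_c20 LD2_c19 LD3_c60) Lrfl Lrfl
theorem f454892 : Led Lsl_dt (LP (LK LD1_c20 LD2_c40 LD3_c1)) = (LP (LK LD1_c11 LD2_c39 LD3_c59)) :=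
  Lre_d IH (LK LD1_c20 LD2_c40 LD3_c1) (LK LD1_c11 LD2_c39 LD3_c59) Lrfl Lrfl
theorem f642590 : Led Lsl_af (LP (LK LD1_c20 LD2_c40 LD3_c1)) = (LP (LK LD1_c17 LD2_c6 LD3_c1)) :=
  Lgr Lrot117 (Lpr_dt (f454892 IH) (Lpr_at (f642582 IH) (Lpr_dt (f100000 IH) (Lpn (LP (LK LD1_c17 LD2_c6 LD3_c1))))))
theorem f642596 : Led Lsl_at (LP (LK LD1_c20 LD2_c40 LD3_c1)) = (LP (LK LD1_c17 LD2_c6 LD3_c1)) :=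
  Lgr Lrot100 (Lpr_af (f642590 IH) (Lpn (LP (LK LD1_c17 LD2_c6 LD3_c1))))
theorem f642610 : Led Lsl_gt (LP (LK LD1_c17 LD2_c6 LD3_c2)) = (LP (LK LD1_c9 LD2_c12 LD3_c2)) :=
  Lre_g IH (LK LD1_c17 LD2_c6 LD3_c2) (LK LD1_c9 LD2_c12 LD3_c2) Lrfl Lrfl
theorem f642611 : Led Lsl_ff (LP (LK LD1_c20 LD2_c40 LD3_c1)) = (LP (LK LD1_c17 LD2_c6 LD3_c2)) :=
  Lgr Lrot52 (Lpr_at (f642596 IH) (Lpe (f99999 IH) (Lpe (f642610 IH) (Lpn (LP (LK LD1_c17 LD2_c6 LD3_c2))))))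
theorem f642618 : Led Lsl_ft (LP (LK LD1_c20 LD2_c40 LD3_c1)) = (LP (LK LD1_c17 LD2_c6 LD3_c2)) :=
  Lgr Lrot48 (Lpr_ff (f642611 IH) (Lpn (LP (LK LD1_c17 LD2_c6 LD3_c2))))
theorem f507580 : Led Lsl_dt (LP (LK LD1_c11 LD2_c39 LD3_c59)) = (LP (LK LD1_c20 LD2_c40 LD3_c1)) :=
  Lre_d IH (LK LD1_c11 LD2_c39 LD3_c59) (LK LD1_c20 LD2_c40 LD3_c1) Lrfl Lrfl
theorem f507565 : Led Lsl_et (LP (LK LD1_c11 LD2_c39 LD3_c59)) = (LP (LK LD1_c5 LD2_c57 LD3_c20)) :=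
  Lre_e IH (LK LD1_c11 LD2_c39 LD3_c59) (LK LD1_c5 LD2_c57 LD3_c20) Lrfl Lrfl
theorem f504761 : Led Lsl_et (LP (LK LD1_c9 LD2_c9 LD3_c7)) = (LP (LK LD1_c17 LD2_c2 LD3_c12)) :=
  Lre_e IH (LK LD1_c9 LD2_c9 LD3_c7) (LK LD1_c17 LD2_c2 LD3_c12) Lrfl Lrfl
theorem f415434 : Led Lsl_ct (LP (LK LD1_c20 LD2_c51 LD3_c16)) = (LP (LK LD1_c11 LD2_c48 LD3_c47)) :=
  Lre_c IH (LK LD1_c20 LD2_c51 LD3_c16) (LK LD1_c11 LD2_c48 LD3_c47) Lrfl Lrfl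
theorem f504723 : Led Lsl_ct (LP (LK LD1_c9 LD2_c9 LD3_c8)) = (LP (LK LD1_c17 LD2_c2 LD3_c12)) :=
  Lre_c IH (LK LD1_c9 LD2_c9 LD3_c8) (LK LD1_c17 LD2_c2 LD3_c12) Lrfl Lrfl
theorem f507553 : Led Lsl_ff (LP (LK LD1_c20 LD2_c51 LD3_c16)) = (LP (LK LD1_c17 LD2_c2 LD3_c12)) :=
  Lgr Lrot23 (Lpr_ct (f415434 IH) (Lpr_ft (f507551 IH) (Lpr_ct (f504723 IH) (Lpn (LP (LK LD1_c17 LD2_c2 LD3_c12))))))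
theorem f415437 : Led Lsl_bt (LP (LK LD1_c6 LD2_c2 LD3_c9)) = (LP (LK LD1_c11 LD2_c48 LD3_c47)) :=
  Lre_b IH (LK LD1_c6 LD2_c2 LD3_c9) (LK LD1_c11 LD2_c48 LD3_c47) Lrfl Lrfl
theorem f444649 : Led Lsl_et (LP (LK LD1_c11 LD2_c48 LD3_c47)) = (LP (LK LD1_c11 LD2_c22 LD3_c19)) :=
  Lgr Lrot74 (Lpe (f415437 IH) (Lpr_ef (K35.f444646 IH) (Lpe (f444632 IH) (Lpn (LP (LK LD1_c11 LD2_c22 LD3_c19))))))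
theorem f444651 : Led Lsl_ef (LP (LK LD1_c20 LD2_c51 LD3_c16)) = (LP (LK LD1_c20 LD2_c19 LD3_c60)) :=
  Lgr Lrot28 (Lpr_ct (f415434 IH) (Lpr_et (f444649 IH) (Lpr_ct (f444643 IH) (Lpn (LP (LK LD1_c20 LD2_c19 LD3_c60))))))
theorem f444655 : Led Lsl_et (LP (LK LD1_c20 LD2_c51 LD3_c16)) = (LP (LK LD1_c20 LD2_c19 LD3_c60)) :=
  Lgr Lrot87 (Lpr_ef (f444651 IH) (Lpn (LP (LK LD1_c20 LD2_c19 LD3_c60))))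
theorem f507566 : Led Lsl_ff (LP (LK LD1_c11 LD2_c39 LD3_c59)) = (LP (LK LD1_c20 LD2_c19 LD3_c60)) :=
  Lgr Lrot72 (Lpr_et (f507565 IH) (Lpr_ft (f507558 IH) (Lpr_et (f504761 IH) (Lpe (f507553 IH) (Lpr_et (f444655 IH) (Lpn (LP (LK LD1_c20 LD2_c19 LD3_c60))))))))
theorem f642623 : Led Lsl_df (LP (LK LD1_c20 LD2_c19 LD3_c60)) = (LP (LK LD1_c17 LD2_c6 LD3_c2)) :=
  Lgr Lrot78 (Lpe (f507566 IH) (Lpr_dt (f507580 IH) (Lpr_ft (f642618 IH) (Lpn (LP (LK LD1_c17 LD2_c6 LD3_c2))))))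
theorem f507568 : Led Lsl_ff (LP (LK LD1_c5 LD2_c57 LD3_c20)) = (LP (LK LD1_c9 LD2_c9 LD3_c7)) :=
  Lgr Lrot3 (Lpr_ft (f507558 IH) (Lpn (LP (LK LD1_c9 LD2_c9 LD3_c7))))
theorem f504740 : Led Lsl_et (LP (LK LD1_c17 LD2_c2 LD3_c12)) = (LP (LK LD1_c9 LD2_c9 LD3_c7)) :=
  Lre_e IH (LK LD1_c17 LD2_c2 LD3_c12) (LK LD1_c9 LD2_c9 LD3_c7) Lrfl Lrfl
theorem f415438 : Led Lsl_ct (LP (LK LD1_c11 LD2_c48 LD3_c47)) = (LP (LK LD1_c20 LD2_c51 LD3_c16)) :=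
  Lre_c IH (LK LD1_c11 LD2_c48 LD3_c47) (LK LD1_c20 LD2_c51 LD3_c16) Lrfl Lrfl
theorem f504736 : Led Lsl_ct (LP (LK LD1_c17 LD2_c2 LD3_c12)) = (LP (LK LD1_c9 LD2_c9 LD3_c8)) :=
  Lre_c IH (LK LD1_c17 LD2_c2 LD3_c12) (LK LD1_c9 LD2_c9 LD3_c8) Lrfl Lrfl
theorem f507546 : Led Lsl_ft (LP (LK LD1_c20 LD2_c51 LD3_c16)) = (LP (LK LD1_c17 LD2_c2 LD3_c12)) :=
  Lgr Lrot4 (Lpe (f415438 IH) (Lpr_ff (f507544 IH) (Lpe (f504736 IH) (Lpn (LP (LK LD1_c17 LD2_c2 LD3_c12))))))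
theorem f507577 : Led Lsl_ft (LP (LK LD1_c11 LD2_c39 LD3_c59)) = (LP (LK LD1_c20 LD2_c19 LD3_c60)) :=
  Lgr Lrot86 (Lpe (f507576 IH) (Lpr_ff (f507568 IH) (Lpe (f504740 IH) (Lpe (f507546 IH) (Lpr_ef (f444651 IH) (Lpn (LP (LK LD1_c20 LD2_c19 LD3_c60))))))))
theorem f642616 : Led Lsl_dt (LP (LK LD1_c20 LD2_c19 LD3_c60)) = (LP (LK LD1_c17 LD2_c6 LD3_c2)) :=
  Lgr Lrot60 (Lpe (f507577 IH) (Lpe (f454892 IH) (Lpr_ff (f642611 IH) (Lpn (LP (LK LD1_c17 LD2_c6 LD3_c2))))))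
theorem f616244 : Led Lsl_gt (LP (LK LD1_c4 LD2_c59 LD3_c3)) = (LP (LK LD1_c2 LD2_c27 LD3_c25)) :=
  Lre_g IH (LK LD1_c4 LD2_c59 LD3_c3) (LK LD1_c2 LD2_c27 LD3_c25) Lrfl Lrfl
def v4549 : LQ := Led Lsl_gt (LP (LK LD1_c2 LD2_c27 LD3_c25))
theorem f636064 : Led Lsl_gt (LP (LK LD1_c2 LD2_c27 LD3_c25)) = v4549 :=
  Lrfl
theorem f642227 : (LP (LK LD1_c3 LD2_c12 LD3_c61)) = v4549 :=
  (Llr Lrot26 (Lpe (K41.f505247 IH) (Lpr_ff (K41.f640882 IH) (Lpqs (K41.f642213 IH) (Lpr_gt (f616244 IH) (Lpr_gt (f636064 IH) (Lpn v4549))))))).symm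
theorem f636065 : Led Lsl_ft (LP (LK LD1_c2 LD2_c27 LD3_c25)) = (LP (LK LD1_c4 LD2_c59 LD3_c5)) :=
  Lre_f IH (LK LD1_c2 LD2_c27 LD3_c25) (LK LD1_c4 LD2_c59 LD3_c5) Lrfl Lrfl
theorem f82938 : Led Lsl_gt (LP (LK LD1_c3 LD2_c12 LD3_c61)) = (LP (LK LD1_c6 LD2_c30 LD3_c2)) :=
  Lre_g IH (LK LD1_c3 LD2_c12 LD3_c61) (LK LD1_c6 LD2_c30 LD3_c2) Lrfl Lrfl
theorem f642229 : Led Lsl_at (LP (LK LD1_c4 LD2_c59 LD3_c5)) = (LP (LK LD1_c6 LD2_c30 LD3_c2)) :=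
  Lgr Lrot26 (Lpe (f636065 IH) (Lpr_gt (f636064 IH) (Lpq (f642227 IH) (Lpr_gt (f82938 IH) (Lpn (LP (LK LD1_c6 LD2_c30 LD3_c2)))))))
theorem f138981 : Led Lsl_at (LP (LK LD1_c4 LD2_c58 LD3_c46)) = (LP (LK LD1_c2 LD2_c27 LD3_c25)) :=
  Lre_a IH (LK LD1_c4 LD2_c58 LD3_c46) (LK LD1_c2 LD2_c27 LD3_c25) Lrfl Lrfl
theorem f642239 : Led Lsl_ff (LP (LK LD1_c4 LD2_c58 LD3_c46)) = (LP (LK LD1_c6 LD2_c30 LD3_c2)) :=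
  Lgr Lrot30 (Lpr_at (f138981 IH) (Lpr_ft (f636065 IH) (Lpr_at (f642229 IH) (Lpn (LP (LK LD1_c6 LD2_c30 LD3_c2))))))
theorem f642250 : Led Lsl_ft (LP (LK LD1_c4 LD2_c58 LD3_c46)) = (LP (LK LD1_c6 LD2_c30 LD3_c2)) :=
  Lgr Lrot48 (Lpr_ff (f642239 IH) (Lpn (LP (LK LD1_c6 LD2_c30 LD3_c2))))
theorem f82945 : Led Lsl_bt (LP (LK LD1_c6 LD2_c30 LD3_c2)) = (LP (LK LD1_c12 LD2_c29 LD3_c41)) :=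
  Lre_b IH (LK LD1_c6 LD2_c30 LD3_c2) (LK LD1_c12 LD2_c29 LD3_c41) Lrfl Lrfl
theorem f642254 : Led Lsl_ff (LP (LK LD1_c8 LD2_c49 LD3_c20)) = (LP (LK LD1_c12 LD2_c29 LD3_c41)) :=
  Lgr Lrot25 (Lpr_bt (K8.f138978 IH) (Lpr_ft (f642250 IH) (Lpr_bt (f82945 IH) (Lpn (LP (LK LD1_c12 LD2_c29 LD3_c41))))))
theorem f82933 : Led Lsl_bt (LP (LK LD1_c2 LD2_c54 LD3_c55)) = (LP (LK LD1_c1 LD2_c23 LD3_c22)) :=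
  Lre_b IH (LK LD1_c2 LD2_c54 LD3_c55) (LK LD1_c1 LD2_c23 LD3_c22) Lrfl Lrfl
theorem f82935 : Led Lsl_gt (LP (LK LD1_c11 LD2_c39 LD3_c57)) = (LP (LK LD1_c5 LD2_c57 LD3_c20)) :=
  Lre_g IH (LK LD1_c11 LD2_c39 LD3_c57) (LK LD1_c5 LD2_c57 LD3_c20) Lrfl Lrfl
theorem f82937 : Led Lsl_bt (LP (LK LD1_c1 LD2_c32 LD3_c58)) = (LP (LK LD1_c3 LD2_c12 LD3_c61)) :=
  Lre_b IH (LK LD1_c1 LD2_c32 LD3_c58) (LK LD1_c3 LD2_c12 LD3_c61) Lrfl Lrfl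
theorem f82939 : Led Lsl_bt (LP (LK LD1_c12 LD2_c29 LD3_c41)) = (LP (LK LD1_c6 LD2_c30 LD3_c2)) :=
  Lre_b IH (LK LD1_c12 LD2_c29 LD3_c41) (LK LD1_c6 LD2_c30 LD3_c2) Lrfl Lrfl
theorem f82940 : Led Lsl_cf (LP (LK LD1_c11 LD2_c39 LD3_c57)) = (LP (LK LD1_c12 LD2_c29 LD3_c41)) :=
  Lgr Lrot160 (Lpr_gt (f82935 IH) (Lpe (f82934 IH) (Lpr_bt (f82933 IH) (Lpr_gt (K0.f23783 IH) (Lpr_ct (K4.f82893 IH) (Lpr_gt (K11.f13558 IH) (Lpe (K41.f82936 IH) (Lpr_bt (f82937 IH) (Lpr_gt (f82938 IH) (Lpe (f82939 IH) (Lpn (LP (LK LD1_c12 LD2_c29 LD3_c41)))))))))))))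
theorem f82947 : Led Lsl_ct (LP (LK LD1_c11 LD2_c39 LD3_c57)) = (LP (LK LD1_c12 LD2_c29 LD3_c41)) :=
  Lgr Lrot59 (Lpr_cf (f82940 IH) (Lpn (LP (LK LD1_c12 LD2_c29 LD3_c41))))
theorem f642360 : Led Lsl_ft (LP (LK LD1_c6 LD2_c10 LD3_c54)) = (LP (LK LD1_c11 LD2_c39 LD3_c57)) :=
  Lgr Lrot4 (Lpe (K8.f99971 IH) (Lpr_ff (f642254 IH) (Lpe (f82947 IH) (Lpn (LP (LK LD1_c11 LD2_c39 LD3_c57))))))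
theorem f642364 : Led Lsl_ff (LP (LK LD1_c6 LD2_c10 LD3_c54)) = (LP (LK LD1_c11 LD2_c39 LD3_c57)) :=
  Lgr Lrot3 (Lpr_ft (f642360 IH) (Lpn (LP (LK LD1_c11 LD2_c39 LD3_c57))))
theorem f206727 : Led Lsl_at (LP (LK LD1_c4 LD2_c39 LD3_c58)) = (LP (LK LD1_c3 LD2_c2 LD3_c4)) :=
  Lgr Lrot100 (Lpr_af (K11.f206725 IH) (Lpn (LP (LK LD1_c3 LD2_c2 LD3_c4))))
theorem f142103 : Led Lsl_et (LP (LK LD1_c9 LD2_c15 LD3_c24)) = (LP (LK LD1_c4 LD2_c39 LD3_c58)) :=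
  Lre_e IH (LK LD1_c9 LD2_c15 LD3_c24) (LK LD1_c4 LD2_c39 LD3_c58) Lrfl Lrfl
theorem f209975 : Led Lsl_af (LP (LK LD1_c9 LD2_c15 LD3_c24)) = (LP (LK LD1_c6 LD2_c10 LD3_c54)) :=
  Lgr Lrot50 (Lpr_et (f142103 IH) (Lpr_at (f206727 IH) (Lpr_et (f99993 IH) (Lpn (LP (LK LD1_c6 LD2_c10 LD3_c54))))))
theorem f642368 : Led Lsl_gf (LP (LK LD1_c9 LD2_c15 LD3_c24)) = (LP (LK LD1_c5 LD2_c57 LD3_c20)) :=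
  Lgr Lrot76 (Lpr_af (f209975 IH) (Lpr_ff (f642364 IH) (Lpr_gt (f82935 IH) (Lpn (LP (LK LD1_c5 LD2_c57 LD3_c20))))))
theorem f642370 : Led Lsl_gt (LP (LK LD1_c9 LD2_c15 LD3_c24)) = (LP (LK LD1_c17 LD2_c2 LD3_c10)) :=
  Lgr Lrot46 (Lpr_gf (f642368 IH) (Lpr_ft (f507558 IH) (Lpr_at (f504760 IH) (Lpn (LP (LK LD1_c17 LD2_c2 LD3_c10))))))
theorem f142093 : Led Lsl_et (LP (LK LD1_c4 LD2_c39 LD3_c58)) = (LP (LK LD1_c9 LD2_c15 LD3_c24)) :=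
  Lre_e IH (LK LD1_c4 LD2_c39 LD3_c58) (LK LD1_c9 LD2_c15 LD3_c24) Lrfl Lrfl
theorem f57082 : Led Lsl_et (LP (LK LD1_c3 LD2_c17 LD3_c47)) = (LP (LK LD1_c1 LD2_c35 LD3_c25)) :=
  Lre_e IH (LK LD1_c3 LD2_c17 LD3_c47) (LK LD1_c1 LD2_c35 LD3_c25) Lrfl Lrfl
theorem f57079 : Led Lsl_dt (LP (LK LD1_c3 LD2_c17 LD3_c47)) = (LP (LK LD1_c6 LD2_c39 LD3_c4)) :=
  Lre_d IH (LK LD1_c3 LD2_c17 LD3_c47) (LK LD1_c6 LD2_c39 LD3_c4) Lrfl Lrfl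
theorem f57008 : Led Lsl_gt (LP (LK LD1_c12 LD2_c43 LD3_c48)) = (LP (LK LD1_c6 LD2_c39 LD3_c4)) :=
  Lre_g IH (LK LD1_c12 LD2_c43 LD3_c48) (LK LD1_c6 LD2_c39 LD3_c4) Lrfl Lrfl
theorem f57009 : Led Lsl_dt (LP (LK LD1_c21 LD2_c50 LD3_c57)) = (LP (LK LD1_c12 LD2_c43 LD3_c48)) :=
  Lre_d IH (LK LD1_c21 LD2_c50 LD3_c57) (LK LD1_c12 LD2_c43 LD3_c48) Lrfl Lrfl
theorem f642428 : Led Lsl_et (LP (LK LD1_c21 LD2_c50 LD3_c57)) = (LP (LK LD1_c17 LD2_c2 LD3_c10)) :=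
  Lgr Lrot122 (Lpr_dt (f57009 IH) (Lpr_gt (f57008 IH) (Lpe (f57079 IH) (Lpr_et (f57082 IH) (Lpr_gt (K4.f56857 IH) (Lpr_dt (K7.f56858 IH) (Lpr_gt (K7.f56859 IH) (Lpr_df (K11.f150186 IH) (Lpr_et (f142093 IH) (Lpr_gt (f642370 IH) (Lpn (LP (LK LD1_c17 LD2_c2 LD3_c10)))))))))))))
theorem f504746 : Led Lsl_at (LP (LK LD1_c17 LD2_c2 LD3_c10)) = (LP (LK LD1_c9 LD2_c9 LD3_c7)) :=
  Lre_a IH (LK LD1_c17 LD2_c2 LD3_c10) (LK LD1_c9 LD2_c9 LD3_c7) Lrfl Lrfl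
theorem f642430 : Led Lsl_af (LP (LK LD1_c21 LD2_c50 LD3_c57)) = (LP (LK LD1_c17 LD2_c2 LD3_c12)) :=
  Lgr Lrot50 (Lpr_et (f642428 IH) (Lpr_at (f504746 IH) (Lpr_et (f504761 IH) (Lpn (LP (LK LD1_c17 LD2_c2 LD3_c12))))))
theorem f57010 : Led Lsl_gt (LP (LK LD1_c21 LD2_c52 LD3_c4)) = (LP (LK LD1_c21 LD2_c50 LD3_c57)) :=
  Lre_g IH (LK LD1_c21 LD2_c52 LD3_c4) (LK LD1_c21 LD2_c50 LD3_c57) Lrfl Lrfl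
theorem f642443 : Led Lsl_gf (LP (LK LD1_c21 LD2_c52 LD3_c4)) = (LP (LK LD1_c20 LD2_c51 LD3_c16)) :=
  Lgr Lrot47 (Lpr_gt (f57010 IH) (Lpr_af (f642430 IH) (Lpe (f507546 IH) (Lpn (LP (LK LD1_c20 LD2_c51 LD3_c16))))))
theorem f642441 : Led Lsl_et (LP (LK LD1_c12 LD2_c44 LD3_c49)) = (LP (LK LD1_c21 LD2_c52 LD3_c4)) :=
  Lre_e IH (LK LD1_c12 LD2_c44 LD3_c49) (LK LD1_c21 LD2_c52 LD3_c4) Lrfl Lrfl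
theorem f642442 : Led Lsl_dt (LP (LK LD1_c12 LD2_c44 LD3_c49)) = (LP (LK LD1_c6 LD2_c39 LD3_c30)) :=
  Lre_d IH (LK LD1_c12 LD2_c44 LD3_c49) (LK LD1_c6 LD2_c39 LD3_c30) Lrfl Lrfl
theorem f642445 : Led Lsl_gt (LP (LK LD1_c6 LD2_c39 LD3_c30)) = (LP (LK LD1_c12 LD2_c44 LD3_c3)) :=
  Lre_g IH (LK LD1_c6 LD2_c39 LD3_c30) (LK LD1_c12 LD2_c44 LD3_c3) Lrfl Lrfl
theorem f156993 : Led Lsl_dt (LP (LK LD1_c6 LD2_c39 LD3_c10)) = (LP (LK LD1_c12 LD2_c44 LD3_c3)) :=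
  Lre_d IH (LK LD1_c6 LD2_c39 LD3_c10) (LK LD1_c12 LD2_c44 LD3_c3) Lrfl Lrfl
theorem f156994 : Led Lsl_et (LP (LK LD1_c6 LD2_c39 LD3_c10)) = (LP (LK LD1_c9 LD2_c11 LD3_c0)) :=
  Lre_e IH (LK LD1_c6 LD2_c39 LD3_c10) (LK LD1_c9 LD2_c11 LD3_c0) Lrfl Lrfl
theorem f642446 : Led Lsl_dt (LP (LK LD1_c4 LD2_c38 LD3_c12)) = (LP (LK LD1_c9 LD2_c12 LD3_c6)) :=
  Lre_d IH (LK LD1_c4 LD2_c38 LD3_c12) (LK LD1_c9 LD2_c12 LD3_c6) Lrfl Lrfl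
theorem f642628 : Led Lsl_gt (LP (LK LD1_c9 LD2_c12 LD3_c6)) = (LP (LK LD1_c17 LD2_c6 LD3_c2)) :=
  Lgr Lrot139 (Lpe (f642446 IH) (Lpe (K9.f140160 IH) (Lpe (f156994 IH) (Lpr_dt (f156993 IH) (Lpe (f642445 IH) (Lpe (f642442 IH) (Lpr_et (f642441 IH) (Lpr_gf (f642443 IH) (Lpr_ef (f444651 IH) (Lpr_dt (f642616 IH) (Lpn (LP (LK LD1_c17 LD2_c6 LD3_c2)))))))))))))
theorem f642633 : Led Lsl_ct (LP (LK LD1_c9 LD2_c11 LD3_c0)) = (LP (LK LD1_c4 LD2_c37 LD3_c45)) :=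
  Lre_c IH (LK LD1_c9 LD2_c11 LD3_c0) (LK LD1_c4 LD2_c37 LD3_c45) Lrfl Lrfl
theorem f552465 : Led Lsl_gt (LP (LK LD1_c4 LD2_c37 LD3_c45)) = (LP (LK LD1_c2 LD2_c16 LD3_c13)) :=
  Lre_g IH (LK LD1_c4 LD2_c37 LD3_c45) (LK LD1_c2 LD2_c16 LD3_c13) Lrfl Lrfl
theorem f631945 : Led Lsl_dt (LP (LK LD1_c2 LD2_c16 LD3_c13)) = (LP (LK LD1_c4 LD2_c38 LD3_c21)) :=
  Lre_d IH (LK LD1_c2 LD2_c16 LD3_c13) (LK LD1_c4 LD2_c38 LD3_c21) Lrfl Lrfl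
theorem f642686 : Led Lsl_gt (LP (LK LD1_c4 LD2_c38 LD3_c21)) = (LP (LK LD1_c9 LD2_c12 LD3_c22)) :=
  Lgr Lrot49 (Lpe (f631945 IH) (Lpe (f552465 IH) (Lpe (f642633 IH) (Lpr_gt (K9.f140160 IH) (Lpr_dt (f642446 IH) (Lpr_gt (f642628 IH) (Lpe (f642623 IH) (Lpe (f444643 IH) (Lpr_df (f642683 IH) (Lpn (LP (LK LD1_c9 LD2_c12 LD3_c22))))))))))))
theorem f644445 : Led Lsl_gf (LP (LK LD1_c4 LD2_c38 LD3_c21)) = (LP (LK LD1_c9 LD2_c12 LD3_c21)) :=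
  Lgr Lrot47 (Lpr_gt (f642686 IH) (Lpe (f644437 IH) (Lpr_ff (f644428 IH) (Lpn (LP (LK LD1_c9 LD2_c12 LD3_c21))))))
theorem f552466 : Led Lsl_dt (LP (LK LD1_c4 LD2_c38 LD3_c21)) = (LP (LK LD1_c2 LD2_c16 LD3_c13)) :=
  Lre_d IH (LK LD1_c4 LD2_c38 LD3_c21) (LK LD1_c2 LD2_c16 LD3_c13) Lrfl Lrfl
theorem f415659 : Led Lsl_gt (LP (LK LD1_c2 LD2_c16 LD3_c13)) = (LP (LK LD1_c1 LD2_c5 LD3_c2)) :=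
  Lre_g IH (LK LD1_c2 LD2_c16 LD3_c13) (LK LD1_c1 LD2_c5 LD3_c2) Lrfl Lrfl
theorem f79971 : Led Lsl_dt (LP (LK LD1_c1 LD2_c5 LD3_c2)) = (LP (LK LD1_c2 LD2_c13 LD3_c36)) :=
  Lre_d IH (LK LD1_c1 LD2_c5 LD3_c2) (LK LD1_c2 LD2_c13 LD3_c36) Lrfl Lrfl
theorem f140528 : Led Lsl_ct (LP (LK LD1_c2 LD2_c13 LD3_c36)) = (LP (LK LD1_c4 LD2_c33 LD3_c19)) :=
  Lre_c IH (LK LD1_c2 LD2_c13 LD3_c36) (LK LD1_c4 LD2_c33 LD3_c19) Lrfl Lrfl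
theorem f454883 : Led Lsl_dt (LP (LK LD1_c9 LD2_c4 LD3_c8)) = (LP (LK LD1_c4 LD2_c33 LD3_c19)) :=
  Lre_d IH (LK LD1_c9 LD2_c4 LD3_c8) (LK LD1_c4 LD2_c33 LD3_c19) Lrfl Lrfl
theorem f454884 : Led Lsl_gt (LP (LK LD1_c16 LD2_c55 LD3_c31)) = (LP (LK LD1_c9 LD2_c4 LD3_c8)) :=
  Lre_g IH (LK LD1_c16 LD2_c55 LD3_c31) (LK LD1_c9 LD2_c4 LD3_c8) Lrfl Lrfl
theorem f644447 : Led Lsl_dt (LP (LK LD1_c26 LD2_c51 LD3_c47)) = (LP (LK LD1_c16 LD2_c55 LD3_c31)) :=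
  Lre_d IH (LK LD1_c26 LD2_c51 LD3_c47) (LK LD1_c16 LD2_c55 LD3_c31) Lrfl Lrfl
theorem f642594 : Led Lsl_ct (LP (LK LD1_c17 LD2_c6 LD3_c31)) = (LP (LK LD1_c9 LD2_c12 LD3_c21)) :=
  Lre_c IH (LK LD1_c17 LD2_c6 LD3_c31) (LK LD1_c9 LD2_c12 LD3_c21) Lrfl Lrfl
theorem f644448 : Led Lsl_gf (LP (LK LD1_c26 LD2_c51 LD3_c47)) = (LP (LK LD1_c17 LD2_c6 LD3_c31)) :=
  Lgr Lrot144 (Lpr_dt (f644447 IH) (Lpr_gt (f454884 IH) (Lpr_dt (f454883 IH) (Lpe (f140528 IH) (Lpe (f79971 IH) (Lpe (f415659 IH) (Lpe (f552466 IH) (Lpr_gf (f644445 IH) (Lpe (f642594 IH) (Lpn (LP (LK LD1_c17 LD2_c6 LD3_c31))))))))))))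
theorem f644487 : Led Lsl_gf (LP (LK LD1_c17 LD2_c6 LD3_c33)) = (LP (LK LD1_c26 LD2_c51 LD3_c47)) :=
  Lgr Lrot76 (Lpe (f644484 IH) (Lpr_ff (f644475 IH) (Lpe (f644448 IH) (Lpn (LP (LK LD1_c26 LD2_c51 LD3_c47))))))
theorem f642671 : Led Lsl_ct (LP (LK LD1_c17 LD2_c6 LD3_c33)) = (LP (LK LD1_c9 LD2_c12 LD3_c22)) :=
  Lre_c IH (LK LD1_c17 LD2_c6 LD3_c33) (LK LD1_c9 LD2_c12 LD3_c22) Lrfl Lrfl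
theorem f631959 : Led Lsl_ct (LP (LK LD1_c4 LD2_c38 LD3_c17)) = (LP (LK LD1_c9 LD2_c12 LD3_c23)) :=
  Lre_c IH (LK LD1_c4 LD2_c38 LD3_c17) (LK LD1_c9 LD2_c12 LD3_c23) Lrfl Lrfl
theorem f631960 : Led Lsl_dt (LP (LK LD1_c9 LD2_c12 LD3_c23)) = (LP (LK LD1_c17 LD2_c6 LD3_c37)) :=
  Lre_d IH (LK LD1_c9 LD2_c12 LD3_c23) (LK LD1_c17 LD2_c6 LD3_c37) Lrfl Lrfl
theorem f644461 : Led Lsl_dt (LP (LK LD1_c16 LD2_c55 LD3_c31)) = (LP (LK LD1_c26 LD2_c51 LD3_c47)) :=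
  Lre_d IH (LK LD1_c16 LD2_c55 LD3_c31) (LK LD1_c26 LD2_c51 LD3_c47) Lrfl Lrfl
theorem f644491 : Led Lsl_ct (LP (LK LD1_c9 LD2_c4 LD3_c8)) = (LP (LK LD1_c16 LD2_c55 LD3_c32)) :=
  Lre_c IH (LK LD1_c9 LD2_c4 LD3_c8) (LK LD1_c16 LD2_c55 LD3_c32) Lrfl Lrfl
theorem f644492 : Led Lsl_gt (LP (LK LD1_c16 LD2_c55 LD3_c32)) = (LP (LK LD1_c26 LD2_c51 LD3_c49)) :=
  Lre_g IH (LK LD1_c16 LD2_c55 LD3_c32) (LK LD1_c26 LD2_c51 LD3_c49) Lrfl Lrfl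
theorem f644493 : Led Lsl_cf (LP (LK LD1_c17 LD2_c6 LD3_c37)) = (LP (LK LD1_c26 LD2_c51 LD3_c49)) :=
  Lgr Lrot99 (Lpe (f631960 IH) (Lpe (f631959 IH) (Lpe (f642666 IH) (Lpe (f642671 IH) (Lpr_gf (f644487 IH) (Lpe (f644461 IH) (Lpr_gt (f454884 IH) (Lpr_ct (f644491 IH) (Lpr_gt (f644492 IH) (Lpn (LP (LK LD1_c26 LD2_c51 LD3_c49))))))))))))
theorem f644498 : Led Lsl_ct (LP (LK LD1_c17 LD2_c6 LD3_c37)) = (LP (LK LD1_c26 LD2_c51 LD3_c49)) :=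
  Lgr Lrot59 (Lpr_cf (f644493 IH) (Lpn (LP (LK LD1_c26 LD2_c51 LD3_c49))))
theorem f615054 : Led Lsl_dt (LP (LK LD1_c2 LD2_c16 LD3_c12)) = (LP (LK LD1_c4 LD2_c38 LD3_c17)) :=
  Lre_d IH (LK LD1_c2 LD2_c16 LD3_c12) (LK LD1_c4 LD2_c38 LD3_c17) Lrfl Lrfl
def v4215 : LQ := Led Lsl_ft (LP (LK LD1_c2 LD2_c16 LD3_c12))
theorem f631955 : Led Lsl_ft (LP (LK LD1_c2 LD2_c16 LD3_c12)) = v4215 :=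
  Lrfl
def v4214 : LQ := Led Lsl_at (LP (LK LD1_c2 LD2_c16 LD3_c12))
theorem f631935 : Led Lsl_at (LP (LK LD1_c2 LD2_c16 LD3_c12)) = v4214 :=
  Lrfl
theorem f631936 : Led Lsl_af (LP (LK LD1_c2 LD2_c16 LD3_c12)) = v4214 :=
  Lgr Lrot0 (Lpr_at (f631935 IH) (Lpn v4214))
theorem f631942 : Led Lsl_ft (LP (LK LD1_c2 LD2_c16 LD3_c13)) = v4214 :=
  Lgr Lrot2 (Lpr_gt (f415659 IH) (Lpr_gt (K32.f140860 IH) (Lpr_af (f631936 IH) (Lpn v4214))))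
theorem f631956 : Led Lsl_af (LP (LK LD1_c2 LD2_c16 LD3_c13)) = v4215 :=
  Lgr Lrot45 (Lpr_ft (f631942 IH) (Lpe (f631936 IH) (Lpr_ft (f631955 IH) (Lpn v4215))))
theorem f631948 : Led Lsl_ct (LP (LK LD1_c4 LD2_c38 LD3_c20)) = (LP (LK LD1_c2 LD2_c16 LD3_c13)) :=
  Lre_c IH (LK LD1_c4 LD2_c38 LD3_c20) (LK LD1_c2 LD2_c16 LD3_c13) Lrfl Lrfl
theorem f631961 : Led Lsl_dt (LP (LK LD1_c9 LD2_c12 LD3_c32)) = (LP (LK LD1_c4 LD2_c38 LD3_c20)) :=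
  Lre_d IH (LK LD1_c9 LD2_c12 LD3_c32) (LK LD1_c4 LD2_c38 LD3_c20) Lrfl Lrfl
theorem f631962 : Led Lsl_ct (LP (LK LD1_c17 LD2_c6 LD3_c45)) = (LP (LK LD1_c9 LD2_c12 LD3_c32)) :=
  Lre_c IH (LK LD1_c17 LD2_c6 LD3_c45) (LK LD1_c9 LD2_c12 LD3_c32) Lrfl Lrfl
theorem f644504 : Led Lsl_df (LP (LK LD1_c17 LD2_c6 LD3_c45)) = (LP (LK LD1_c26 LD2_c51 LD3_c49)) :=
  Lgr Lrot13 (Lpr_ct (f631962 IH) (Lpr_dt (f631961 IH) (Lpr_ct (f631948 IH) (Lpr_af (f631956 IH) (Lpe (f631955 IH) (Lpr_dt (f615054 IH) (Lpr_ct (f631959 IH) (Lpr_dt (f631960 IH) (Lpr_ct (f644498 IH) (Lpn (LP (LK LD1_c26 LD2_c51 LD3_c49))))))))))))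
theorem f644505 : Led Lsl_dt (LP (LK LD1_c26 LD2_c51 LD3_c49)) = (LP (LK LD1_c17 LD2_c6 LD3_c45)) :=
  Leop (Lpr_df (f644504 IH) (Lpn (LP (LK LD1_c26 LD2_c51 LD3_c49))))
theorem seed_299 : LEOK LG_d (LK LD1_c26 LD2_c51 LD3_c49) :=
  Leoe_d (LK LD1_c26 LD2_c51 LD3_c49) (f644505 IH)
def v5081 : LQ := Led Lsl_ct (LP (LK LD1_c2 LD2_c57 LD3_c10))
theorem f645225 : Led Lsl_ct (LP (LK LD1_c2 LD2_c57 LD3_c10)) = v5081 :=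
  Lrfl
theorem f645226 : Led Lsl_cf (LP (LK LD1_c2 LD2_c57 LD3_c10)) = v5081 :=
  Lgr Lrot11 (Lpr_ct (f645225 IH) (Lpn v5081))
theorem f645227 : Led Lsl_gt K37.v1535 = v5081 :=
  Lgr Lrot150 (Lpe (K37.f496153 IH) (Lpe (K24.f56683 IH) (Lpe (K24.f56684 IH) (Lpr_gt (K32.f442833 IH) (Lpe (K32.f438584 IH) (Lpr_gt (K32.f415351 IH) (Lpr_ct (K32.f415435 IH) (Lpe (K16.f204679 IH) (Lpr_cf (f645226 IH) (Lpn v5081))))))))))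
theorem f56702 : Led Lsl_bt (LP (LK LD1_c5 LD2_c49 LD3_c0)) = (LP (LK LD1_c2 LD2_c50 LD3_c33)) :=
  Lre_b IH (LK LD1_c5 LD2_c49 LD3_c0) (LK LD1_c2 LD2_c50 LD3_c33) Lrfl Lrfl
theorem f56710 : Led Lsl_ct (LP (LK LD1_c5 LD2_c49 LD3_c0)) = (LP (LK LD1_c11 LD2_c27 LD3_c24)) :=
  Lre_c IH (LK LD1_c5 LD2_c49 LD3_c0) (LK LD1_c11 LD2_c27 LD3_c24) Lrfl Lrfl
theorem f56722 : Led Lsl_gt (LP (LK LD1_c20 LD2_c25 LD3_c23)) = (LP (LK LD1_c11 LD2_c27 LD3_c24)) :=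
  Lre_g IH (LK LD1_c20 LD2_c25 LD3_c23) (LK LD1_c11 LD2_c27 LD3_c24) Lrfl Lrfl
theorem f507160 : Led Lsl_bt (LP (LK LD1_c2 LD2_c57 LD3_c10)) = (LP (LK LD1_c6 LD2_c2 LD3_c8)) :=
  Lre_b IH (LK LD1_c2 LD2_c57 LD3_c10) (LK LD1_c6 LD2_c2 LD3_c8) Lrfl Lrfl
theorem f444675 : Led Lsl_bt (LP (LK LD1_c2 LD2_c57 LD3_c35)) = (LP (LK LD1_c6 LD2_c3 LD3_c0)) :=
  Lre_b IH (LK LD1_c2 LD2_c57 LD3_c35) (LK LD1_c6 LD2_c3 LD3_c0) Lrfl Lrfl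
theorem f140905 : Led Lsl_bt (LP (LK LD1_c9 LD2_c13 LD3_c58)) = (LP (LK LD1_c4 LD2_c39 LD3_c4)) :=
  Lre_b IH (LK LD1_c9 LD2_c13 LD3_c58) (LK LD1_c4 LD2_c39 LD3_c4) Lrfl Lrfl

end

end K45

end

end Cfsg.Agent.Helper28.S1692
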